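import Mathlib

set_option autoImplicit false

/-! The element orders of `PGL(2,q) = GL(2,q)/Z`. -/

namespace Cfsg.Agent.PGL2Orders

open Matrix

variable {F : Type*} [Field F]

local notation "M2" => Matrix (Fin 2) (Fin 2) F

lemma mem_center_of_scalar {A : GL (Fin 2) F} {r : F} (h : (A : M2) = r • (1 : M2)) :
    A ∈ Subgroup.center (GL (Fin 2) F) := by
  rw [Subgroup.mem_center_iff]
  intro B
  apply Units.ext
  simp [h]

lemma scalar_of_mem_center {A : GL (Fin 2) F} (h : A ∈ Subgroup.center (GL (Fin 2) F)) :
    ∃ r : F, (A : M2) = r • (1 : M2) := by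
  let U : GL (Fin 2) F := GeneralLinearGroup.mkOfDetNeZero !![1, 1; 0, 1] (by simp [Matrix.det_fin_two])
  let L : GL (Fin 2) F := GeneralLinearGroup.mkOfDetNeZero !![1, 0; 1, 1] (by simp [Matrix.det_fin_two])
  have h1 := congrArg (fun B : GL (Fin 2) F => (B : M2)) (Subgroup.mem_center_iff.1 h U)
  have h2 := congrArg (fun B : GL (Fin 2) F => (B : M2)) (Subgroup.mem_center_iff.1 h L)
  have a1 := congrFun (congrFun h1 0) 0
  have a2 := congrFun (congrFun h1 0) 1
  have b1 := congrFun (congrFun h2 0) 0
  simp [U, L, Matrix.mul_apply, Fin.sum_univ_two, GeneralLinearGroup.mkOfDetNeZero] at a1 a2 b1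
  refine ⟨(A : M2) 0 0, ?_⟩
  ext i j
  fin_cases i <;> fin_cases j <;> simp <;> grind

lemma mk_pow_eq_one {A : GL (Fin 2) F} {k : ℕ} {r : F} (h : (A : M2) ^ k = r • (1 : M2)) :
    (QuotientGroup.mk A : GL (Fin 2) F ⧸ Subgroup.center (GL (Fin 2) F)) ^ k = 1 := by
  rw [← QuotientGroup.mk_pow, QuotientGroup.eq_one_iff]
  exact mem_center_of_scalar (r := r) (by rw [Units.val_pow_eq_pow_val]; exact h)

lemma sq_eq (A : M2) : A * A = A.trace • A - A.det • (1 : M2) := by
  ext i j
  fin_cases i <;> fin_cases j <;>
    simp [Matrix.mul_apply, Fin.sum_univ_two, Matrix.trace_fin_two, Matrix.det_fin_two] <;> ring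

/-- Powers of a matrix `N` with `N^2 = 0` added to a scalar. -/
lemma pow_char_of_sq_zero (p : ℕ) [Fact p.Prime] [CharP F p] (A : M2) (l : F)
    (h : (A - l • (1 : M2)) ^ 2 = 0) : A ^ p = l ^ p • (1 : M2) := by
  have hN : (A - l • (1 : M2)) ^ p = 0 := pow_eq_zero_of_le (Fact.out : p.Prime).two_le h
  rw [show A = (A - l • (1 : M2)) + l • (1 : M2) by abel,
    add_pow_char_of_commute p ((Commute.one_right _).smul_right l), hN, smul_pow, one_pow, zero_add]

/-- Every element of `PGL(2,q)` has order dividing `p`, `q-1` or `q+1`. -/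
theorem pow_cases [Fintype F] (p : ℕ) [Fact p.Prime] [CharP F p]
    (x : GL (Fin 2) F ⧸ Subgroup.center (GL (Fin 2) F)) :
    x ^ p = 1 ∨ x ^ (Fintype.card F - 1) = 1 ∨ x ^ (Fintype.card F + 1) = 1 := by
  classical
  obtain ⟨A, rfl⟩ := QuotientGroup.mk_surjective x
  have hdet : (A : M2).det ≠ 0 := (Matrix.GeneralLinearGroup.det A).ne_zero
  set t := (A : M2).trace with ht
  set d := (A : M2).det with hd
  set q := Fintype.card F with hq
  by_cases hroot : ∃ r : F, r ^ 2 - t * r + d = 0
  · obtain ⟨a, ha⟩ := hroot
    have ha0 : a ≠ 0 := by rintro rfl; simp [hdet] at ha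
    set b := t - a with hb
    have hab : ((A : M2) - a • (1 : M2)) * ((A : M2) - b • (1 : M2)) = 0 := by
      have hd' : d = a * b := by rw [hb]; linear_combination ha
      simp only [sub_mul, mul_sub, Matrix.smul_mul, Matrix.mul_smul, one_mul, mul_one]
      rw [sq_eq, ← ht, ← hd, hd', show t = a + b by rw [hb]; ring]
      module
    have hb0 : b ≠ 0 := by
      intro h0
      apply hdet
      have : d = a * b := by rw [hb]; linear_combination ha
      rw [this, h0, mul_zero]
    by_cases hne : a = b
    · left
      refine mk_pow_eq_one (r := a ^ p) (pow_char_of_sq_zero p _ a ?_)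
      rw [sq]
      conv_lhs => arg 2; rw [hne]
      exact hab
    · right; left
      refine mk_pow_eq_one (r := 1) ?_
      rw [one_smul]
      -- split the identity into the two eigenprojections
      have hs : a - b ≠ 0 := sub_ne_zero.2 hne
      set E₁ := (a - b)⁻¹ • ((A : M2) - b • (1 : M2)) with hE₁
      set E₂ := (a - b)⁻¹ • (a • (1 : M2) - (A : M2)) with hE₂
      have hsum : E₁ + E₂ = 1 := by
        rw [hE₁, hE₂, ← smul_add, show (A : M2) - b • (1 : M2) + (a • (1 : M2) - (A : M2)) = (a - b) • (1 : M2) by
          clear_value b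
          module, smul_smul, inv_mul_cancel₀ hs, one_smul]
      have hab' : ((A : M2) - b • (1 : M2)) * (a • (1 : M2) - (A : M2)) = 0 := by
        have hc : Commute ((A : M2) - b • (1 : M2)) ((A : M2) - a • (1 : M2)) :=
          ((Commute.refl _).sub_left ((Commute.one_left _).smul_left b)).sub_right
            (((Commute.one_right _).smul_right a).sub_left (((Commute.one_left _).smul_left b).smul_right a))
        rw [show a • (1 : M2) - (A : M2) = -((A : M2) - a • (1 : M2)) by abel, mul_neg, hc.eq, hab, neg_zero]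
      have h1 : (A : M2) * E₁ = a • E₁ := by
        have e : (A : M2) * ((A : M2) - b • (1 : M2)) = a • ((A : M2) - b • (1 : M2)) := by
          rw [← sub_eq_zero, ← hab]
          simp [sub_mul]
        rw [hE₁, Matrix.mul_smul, e, smul_comm]
      have h2 : (A : M2) * E₂ = b • E₂ := by
        have e : (A : M2) * (a • (1 : M2) - (A : M2)) = b • (a • (1 : M2) - (A : M2)) := by
          rw [← sub_eq_zero, ← hab']
          simp [sub_mul]
        rw [hE₂, Matrix.mul_smul, e, smul_comm]
      clear_value E₁ E₂
      have hp : ∀ k, (A : M2) ^ k = a ^ k • E₁ + b ^ k • E₂ := by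
        intro k
        induction k with
        | zero => simp [hsum]
        | succ k ih => rw [pow_succ', ih, mul_add, Matrix.mul_smul, Matrix.mul_smul, h1, h2, smul_smul,
            smul_smul, ← pow_succ, ← pow_succ]
      rw [hp, hq, FiniteField.pow_card_sub_one_eq_one a ha0, FiniteField.pow_card_sub_one_eq_one b hb0,
        one_smul, one_smul, hsum]
  · right; right
    push Not at hroot
    let f : Polynomial F := Polynomial.X ^ 2 - Polynomial.C t * Polynomial.X + Polynomial.C d
    have hdeg : f.natDegree = 2 := by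
      simp only [f]; compute_degree!
    have hirr : Irreducible f := by
      rw [Polynomial.irreducible_iff_roots_eq_zero_of_degree_le_three (by omega) (by omega),
        Multiset.eq_zero_iff_forall_notMem]
      intro r hr
      rw [Polynomial.mem_roots'] at hr
      exact hroot r (by simpa [f] using hr.2)
    haveI := Fact.mk hirr
    have hA : Polynomial.aeval (A : M2) f = 0 := by
      simp only [f, map_add, map_sub, map_mul, map_pow, Polynomial.aeval_X, Polynomial.aeval_C,
        Algebra.algebraMap_eq_smul_one]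
      rw [sq, sq_eq, ← ht, ← hd, Matrix.smul_mul, one_mul]
      abel
    haveI : Module.Finite F (AdjoinRoot f) :=
      Polynomial.Monic.finite_adjoinRoot (by simp only [f]; monicity!)
    let φ : AdjoinRoot f →ₐ[F] M2 :=
      Ideal.Quotient.liftₐ (Ideal.span {f}) (Polynomial.aeval (A : M2)) (fun g hg => by
        obtain ⟨c, rfl⟩ := Ideal.mem_span_singleton'.1 hg
        rw [map_mul, hA, mul_zero])
    have hφr : φ (AdjoinRoot.root f) = (A : M2) := Polynomial.aeval_X (A : M2)
    let σ : AdjoinRoot f →ₐ[F] AdjoinRoot f := FiniteField.frobeniusAlgHom F (AdjoinRoot f)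
    set r := AdjoinRoot.root f with hr
    have h0 : r ^ 2 - algebraMap F _ t * r + algebraMap F _ d = 0 := by
      have := AdjoinRoot.eval₂_root f
      simpa [f, AdjoinRoot.algebraMap_eq] using this
    have hσr : r ^ q = algebraMap F _ t - r := by
      have h1 : (σ r) ^ 2 - algebraMap F _ t * σ r + algebraMap F _ d = 0 := by
        have := congrArg σ h0
        simp only [map_add, map_sub, map_mul, map_pow, AlgHom.commutes, map_zero] at this
        exact this
      have h2 : (σ r - r) * (σ r - (algebraMap F _ t - r)) = 0 := by linear_combination h1 - h0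
      rcases mul_eq_zero.1 h2 with he | he
      · exfalso
        have hσ : σ = AlgHom.id F (AdjoinRoot f) := AdjoinRoot.algHom_ext (sub_eq_zero.1 he)
        haveI : Finite (AdjoinRoot f) := Module.finite_of_finite F
        have ho : orderOf σ = 2 := by
          rw [show σ = FiniteField.frobeniusAlgHom F (AdjoinRoot f) from rfl, FiniteField.orderOf_frobeniusAlgHom,
            (AdjoinRoot.powerBasis hirr.ne_zero).finrank, AdjoinRoot.powerBasis_dim, hdeg]
        rw [hσ, show (AlgHom.id F (AdjoinRoot f)) = 1 from rfl, orderOf_one] at ho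
        omega
      · exact sub_eq_zero.1 he
    have hrd : r ^ (q + 1) = algebraMap F _ d := by
      rw [pow_succ, hσr]; linear_combination -h0
    have := congrArg φ hrd
    rw [map_pow, hφr, AlgHom.commutes, Algebra.algebraMap_eq_smul_one] at this
    exact mk_pow_eq_one this

/-- Elements of order `p`, `q - 1` and `q + 1`. -/
theorem exists_orders [Fintype F] (p : ℕ) [Fact p.Prime] [CharP F p] :
    (∃ x : GL (Fin 2) F ⧸ Subgroup.center (GL (Fin 2) F), orderOf x = p) ∧
    (∃ x : GL (Fin 2) F ⧸ Subgroup.center (GL (Fin 2) F), orderOf x = Fintype.card F - 1) ∧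
    (∃ x : GL (Fin 2) F ⧸ Subgroup.center (GL (Fin 2) F), orderOf x = Fintype.card F + 1) := by
  classical
  have hpq : 2 ≤ Fintype.card F := Fintype.one_lt_card
  refine ⟨?_, ?_, ?_⟩
  · let U : GL (Fin 2) F := GeneralLinearGroup.mkOfDetNeZero !![1, 1; 0, 1] (by simp [Matrix.det_fin_two])
    refine ⟨QuotientGroup.mk U, orderOf_eq_prime (mk_pow_eq_one (r := 1 ^ p) (pow_char_of_sq_zero p _ 1 ?_)) ?_⟩
    · ext i j
      fin_cases i <;> fin_cases j <;> simp [U, sq, Matrix.mul_apply, GeneralLinearGroup.mkOfDetNeZero]
    · rw [Ne, QuotientGroup.eq_one_iff]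
      intro h
      obtain ⟨r, hr⟩ := scalar_of_mem_center h
      have := congrFun (congrFun hr 0) 1
      simp [U, GeneralLinearGroup.mkOfDetNeZero] at this
  · obtain ⟨z, hz⟩ := IsCyclic.exists_ofOrder_eq_natCard (α := Fˣ)
    rw [Nat.card_units, Nat.card_eq_fintype_card] at hz
    let D : GL (Fin 2) F := GeneralLinearGroup.mkOfDetNeZero !![(z : F), 0; 0, 1] (by simp [Matrix.det_fin_two])
    have hD : ∀ k : ℕ, ((D : M2)) ^ k = !![(z : F) ^ k, 0; 0, 1] := by
      intro k
      induction k with
      | zero => ext i j; fin_cases i <;> fin_cases j <;> simp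
      | succ k ih =>
        rw [pow_succ, ih]
        ext i j
        fin_cases i <;> fin_cases j <;> simp [D, Matrix.mul_apply, GeneralLinearGroup.mkOfDetNeZero, pow_succ]
    refine ⟨QuotientGroup.mk D, ?_⟩
    rw [orderOf_eq_iff (by omega)]
    refine ⟨mk_pow_eq_one (r := 1) ?_, fun m hm hm0 h => ?_⟩
    · rw [hD, ← Units.val_pow_eq_pow_val, ← hz, pow_orderOf_eq_one]
      ext i j; fin_cases i <;> fin_cases j <;> simp
    · rw [← QuotientGroup.mk_pow, QuotientGroup.eq_one_iff] at h
      obtain ⟨r, hr⟩ := scalar_of_mem_center h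
      rw [Units.val_pow_eq_pow_val, hD] at hr
      have a00 := congrFun (congrFun hr 0) 0
      have a11 := congrFun (congrFun hr 1) 1
      simp at a00 a11
      have : z ^ m = 1 := Units.ext (by simp [a00, ← a11])
      have := Nat.le_of_dvd hm0 (orderOf_dvd_of_pow_eq_one this)
      omega
  · let K := FiniteField.Extension F p 2
    haveI : Finite K := Module.finite_of_finite F
    let b : Module.Basis (Fin 2) F K := Module.finBasisOfFinrankEq F K (FiniteField.finrank_extension F p 2)
    let φ := Algebra.leftMulMatrix b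
    have hφ : Function.Injective φ := Algebra.leftMulMatrix_injective b
    obtain ⟨z, hz⟩ := IsCyclic.exists_ofOrder_eq_natCard (α := Kˣ)
    rw [Nat.card_units, FiniteField.natCard_extension, Nat.card_eq_fintype_card] at hz
    let W : GL (Fin 2) F := Units.map (φ : K →* M2) z
    have hW : ∀ k : ℕ, ((W : M2)) ^ k = φ ((z : K) ^ k) := by
      intro k; rw [map_pow]; rfl
    refine ⟨QuotientGroup.mk W, ?_⟩
    have hsq : Fintype.card F ^ 2 - 1 = (Fintype.card F + 1) * (Fintype.card F - 1) := by
      rw [← Nat.sq_sub_sq, one_pow]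
    rw [orderOf_eq_iff (by omega)]
    constructor
    · -- the power lies in the base field
      set y := (z : K) ^ (Fintype.card F + 1) with hy
      have hyq : y ^ (Fintype.card F - 1) = 1 := by
        rw [hy, ← pow_mul, ← hsq, ← hz, ← Units.val_pow_eq_pow_val, pow_orderOf_eq_one, Units.val_one]
      have hmem : ∃ r : F, algebraMap F K r = y := by
        let P : Polynomial K := Polynomial.X ^ (Fintype.card F - 1) - Polynomial.C 1
        have hP : P ≠ 0 := Polynomial.X_pow_sub_C_ne_zero (by omega) 1
        by_contra hne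
        push Not at hne
        let S : Finset K := insert y ((Finset.univ.filter fun r : F => r ≠ 0).image (algebraMap F K))
        have hS : S ⊆ P.roots.toFinset := by
          intro v hv
          rw [Multiset.mem_toFinset, Polynomial.mem_roots hP]
          simp only [S, Finset.mem_insert, Finset.mem_image, Finset.mem_filter, Finset.mem_univ, true_and] at hv
          rcases hv with rfl | ⟨r, hr, rfl⟩
          · simp [P, hyq]
          · simp [P, ← map_pow, FiniteField.pow_card_sub_one_eq_one r hr]
        have h1 := Finset.card_le_card hS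
        have h2 : S.card = (Fintype.card F - 1) + 1 := by
          rw [Finset.card_insert_of_notMem (by
            simp only [Finset.mem_image, Finset.mem_filter, Finset.mem_univ, true_and, not_exists, not_and]
            intro r _ h
            exact hne r h), Finset.card_image_of_injective _ (algebraMap F K).injective,
            Finset.filter_ne', Finset.card_erase_of_mem (Finset.mem_univ _), Finset.card_univ]
        have h3 := (Multiset.toFinset_card_le P.roots).trans (Polynomial.card_roots' P)
        have h4 : P.natDegree = Fintype.card F - 1 := Polynomial.natDegree_X_pow_sub_C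
        omega
      obtain ⟨r, hr⟩ := hmem
      refine mk_pow_eq_one (r := r) ?_
      rw [hW, ← hy, ← hr, AlgHom.commutes, Algebra.algebraMap_eq_smul_one]
    · intro m hm hm0 h
      rw [← QuotientGroup.mk_pow, QuotientGroup.eq_one_iff] at h
      obtain ⟨r, hr⟩ := scalar_of_mem_center h
      rw [Units.val_pow_eq_pow_val, hW, ← Algebra.algebraMap_eq_smul_one, ← AlgHom.commutes φ] at hr
      have h1 : (z : K) ^ m = algebraMap F K r := hφ hr
      have hr0 : r ≠ 0 := by
        rintro rfl
        rw [map_zero] at h1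
        exact pow_ne_zero m z.ne_zero h1
      have h2 : (z : Kˣ) ^ (m * (Fintype.card F - 1)) = 1 := by
        apply Units.ext
        rw [Units.val_pow_eq_pow_val, pow_mul, h1, ← map_pow, FiniteField.pow_card_sub_one_eq_one r hr0,
          map_one, Units.val_one]
      have h3 := orderOf_dvd_of_pow_eq_one h2
      rw [hz, hsq] at h3
      have := Nat.le_of_dvd (Nat.mul_pos hm0 (by omega)) h3
      have := Nat.le_of_mul_le_mul_right this (by omega)
      omega

/-- The spectrum of `PGL(2,q)`. -/
theorem range_orderOf_pgl2 [Fintype F] (p : ℕ) [Fact p.Prime] [CharP F p] :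
    Set.range (orderOf : GL (Fin 2) F ⧸ Subgroup.center (GL (Fin 2) F) → ℕ) =
      {m | m ∣ p ∨ m ∣ Fintype.card F - 1 ∨ m ∣ Fintype.card F + 1} := by
  obtain ⟨⟨x₁, h₁⟩, ⟨x₂, h₂⟩, ⟨x₃, h₃⟩⟩ := exists_orders (F := F) p
  ext m
  constructor
  · rintro ⟨x, rfl⟩
    rcases pow_cases p x with h | h | h
    · exact Or.inl (orderOf_dvd_of_pow_eq_one h)
    · exact Or.inr (Or.inl (orderOf_dvd_of_pow_eq_one h))
    · exact Or.inr (Or.inr (orderOf_dvd_of_pow_eq_one h))
  · have hpow : ∀ (x : GL (Fin 2) F ⧸ Subgroup.center (GL (Fin 2) F)) (n : ℕ), orderOf x = n → n ≠ 0 → m ∣ n →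
        m ∈ Set.range (orderOf : GL (Fin 2) F ⧸ Subgroup.center (GL (Fin 2) F) → ℕ) := by
      intro x n hx hn hm
      exact ⟨x ^ (orderOf x / m), orderOf_pow_orderOf_div (hx ▸ hn) (hx ▸ hm)⟩
    have hpq : 2 ≤ Fintype.card F := Fintype.one_lt_card
    rintro (h | h | h)
    · exact hpow _ _ h₁ (Fact.out : p.Prime).ne_zero h
    · exact hpow _ _ h₂ (by omega) h
    · exact hpow _ _ h₃ (by omega) h

end Cfsg.Agent.PGL2Orders
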