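import Cfsg.Agent.Lib.PSL2Proj52
import Cfsg.Agent.Lib.AutPSLApi
import Cfsg.Agent.Lib.PGL2Orders

/-!
An odd prime `s` such that elements of order `s` of `PSL(2,p)` centralise no involution, while every
involutory automorphism is inner or fixes an element of order `s`.
-/

set_option autoImplicit false

namespace Cfsg.Agent.CycSyl43RefPSL86

open Matrix Cfsg.Agent.PSL2Elements Cfsg.Agent.PSL2Proj52 Cfsg.Agent.AutPSLBasic
open scoped MatrixGroups

variable {p : ℕ} [Fact p.Prime]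

local notation "M2" => Matrix (Fin 2) (Fin 2) (ZMod p)

theorem isSquare_mul {F : Type*} [Field F] [Fintype F] [DecidableEq F] {a b : F}
    (ha : ¬ IsSquare a) (hb : ¬ IsSquare b) : IsSquare (a * b) := by
  have a0 : a ≠ 0 := fun e => ha (e ▸ IsSquare.zero)
  have b0 : b ≠ 0 := fun e => hb (e ▸ IsSquare.zero)
  rw [← quadraticChar_one_iff_isSquare (mul_ne_zero a0 b0), map_mul,
    quadraticChar_neg_one_iff_not_isSquare.2 ha, quadraticChar_neg_one_iff_not_isSquare.2 hb]
  norm_num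

/-- The discriminant of an element of odd prime order `s ≠ p` is a square exactly when `s ∣ p - 1`. -/
theorem disc_iff (h20 : (2 : ZMod p) ≠ 0) {s : ℕ} (hs : s.Prime) (hs2 : s ≠ 2) (hsp : s ≠ p) (X : SL(2, ZMod p))
    (hX : orderOf X = s) :
    tr X ^ 2 ≠ 4 ∧ (IsSquare (tr X ^ 2 - 4) ↔ s ∣ p - 1) := by
  have hp : p.Prime := Fact.out
  have hcard : Nat.card (ZMod p) = p := Nat.card_zmod p
  have htwo : (X : SL(2, ZMod p)) ^ 2 ≠ 1 := fun e => hs2 ((Nat.prime_dvd_prime_iff_eq hs Nat.prime_two).1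
    (hX ▸ orderOf_dvd_of_pow_eq_one e))
  have h4 : tr X ^ 2 ≠ 4 := by
    intro e
    have h0 : (tr X - 2) * (tr X + 2) = 0 := by linear_combination e
    rcases mul_eq_zero.1 h0 with h | h
    · exact hsp ((Nat.prime_dvd_prime_iff_eq hs hp).1
        (hX ▸ orderOf_dvd_of_pow_eq_one (pow_char p (sub_eq_zero.1 h))))
    · have h1 : (-X) ^ p = 1 := pow_char p (by rw [tr_neg, eq_neg_of_add_eq_zero_left h, neg_neg])
      have h2 : X ^ (2 * p) = 1 := by
        rw [pow_mul, ← neg_sq, ← pow_mul, mul_comm, pow_mul, h1, one_pow]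
      rcases (Nat.Prime.dvd_mul hs).1 (hX ▸ orderOf_dvd_of_pow_eq_one h2) with d | d
      · exact hs2 ((Nat.prime_dvd_prime_iff_eq hs Nat.prime_two).1 d)
      · exact hsp ((Nat.prime_dvd_prime_iff_eq hs hp).1 d)
  refine ⟨h4, fun ⟨e, he⟩ => ?_, fun hd => ?_⟩
  · have hr : ∃ r : ZMod p, tr X = r + r⁻¹ ∧ r ≠ 0 := by
      have hprod : (tr X + e) / 2 * ((tr X - e) / 2) = 1 := by
        field_simp
        linear_combination he
      refine ⟨(tr X + e) / 2, ?_, left_ne_zero_of_mul_eq_one hprod⟩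
      rw [← eq_inv_of_mul_eq_one_right hprod]
      field_simp
      ring
    obtain ⟨r, htr, hr0⟩ := hr
    obtain ⟨g, hg⟩ := isConj_iff.1 (isConj_d_of_root h4 (a := Units.mk0 r hr0) (by simpa using htr)).symm
    have : X ^ (p - 1) = 1 := by
      have h1 := pow_card_sub_one_d (Units.mk0 r hr0)
      rw [hcard] at h1
      rw [← hg, conj_pow, h1, mul_one, mul_inv_cancel]
    exact hX ▸ orderOf_dvd_of_pow_eq_one this
  · rcases trichotomy X with ⟨x, hx | hx⟩ | ⟨a, -, hc⟩ | hns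
    · exact absurd (by rw [(tr_eq_of_isConj hx).trans (tr_u x)]; norm_num) h4
    · exact absurd (by rw [(tr_eq_of_isConj hx).trans (tr_neg _), tr_u]; norm_num) h4
    · refine ⟨(a : ZMod p) - (a : ZMod p)⁻¹, ?_⟩
      rw [(tr_eq_of_isConj hc).trans (tr_d a)]
      have := mul_inv_cancel₀ a.ne_zero
      linear_combination 4 * this
    · obtain ⟨-, hc⟩ := centralizer_nonsplit hns
      have := orderOf_dvd_natCard (⟨X, Subgroup.mem_centralizer_singleton_iff.2 rfl⟩ :
        Subgroup.centralizer ({X} : Set SL(2, ZMod p)))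
      rw [hc, hcard, Subgroup.orderOf_mk, hX] at this
      have h2 := Nat.dvd_sub this hd
      rw [show p + 1 - (p - 1) = 2 by have := hp.two_le; omega] at h2
      exact absurd ((Nat.prime_dvd_prime_iff_eq hs Nat.prime_two).1 h2) hs2

theorem exists_good_prime (h5 : 5 ≤ p) : ∃ s : ℕ, s.Prime ∧ s ≠ 2 ∧ s ≠ p ∧
    ((p % 4 = 1 ∧ s ∣ p + 1 ∧ ¬ s ∣ p - 1) ∨ (p % 4 = 3 ∧ s ∣ p - 1)) := by
  have hp : p.Prime := Fact.out
  rcases Nat.odd_mod_four_iff.1 (Nat.odd_iff.1 (hp.odd_of_ne_two (by omega))) with h | h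
  · obtain ⟨m, hm⟩ : ∃ m, p + 1 = 2 * m ∧ m % 2 = 1 ∧ 2 ≤ m := ⟨(p + 1) / 2, by omega⟩
    obtain ⟨s, hs, hsd⟩ := Nat.exists_prime_and_dvd (n := m) (by omega)
    have hs1 : s ∣ p + 1 := hm.1 ▸ hsd.mul_left 2
    have hs2 : s ≠ 2 := fun e => by subst e; omega
    refine ⟨s, hs, hs2, fun e => ?_, Or.inl ⟨h, hs1, fun hd => ?_⟩⟩
    · subst e
      have := (Nat.dvd_add_right dvd_rfl).1 hs1
      exact hs.one_lt.ne' (Nat.dvd_one.1 this)
    · have h2 := Nat.dvd_sub hs1 hd
      rw [show p + 1 - (p - 1) = 2 by omega] at h2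
      exact hs2 ((Nat.prime_dvd_prime_iff_eq hs Nat.prime_two).1 h2)
  · obtain ⟨m, hm⟩ : ∃ m, p - 1 = 2 * m ∧ m % 2 = 1 ∧ 2 ≤ m := ⟨(p - 1) / 2, by omega⟩
    obtain ⟨s, hs, hsd⟩ := Nat.exists_prime_and_dvd (n := m) (by omega)
    have hs1 : s ∣ p - 1 := hm.1 ▸ hsd.mul_left 2
    refine ⟨s, hs, fun e => by subst e; omega, fun e => ?_, Or.inr ⟨h, hs1⟩⟩
    subst e
    exact absurd (Nat.le_of_dvd (by omega) hs1) (by omega)

/-- No element of order `s` centralises an involution, and every involutory automorphism is inner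
or fixes an element of order `s`. -/
theorem key (h5 : 5 ≤ p) : ∃ s : ℕ, s.Prime ∧ s ≠ 2 ∧
    (∃ x : P 2 (ZMod p), orderOf x = s) ∧
    (∀ a x : P 2 (ZMod p), orderOf a = 2 → orderOf x = s → a * x ≠ x * a) ∧
    ∀ α : MulAut (P 2 (ZMod p)), α * α = 1 →
      (∃ l, ∀ x, α x = l * x * l⁻¹) ∨ ∃ x, orderOf x = s ∧ α x = x := by
  have hp : p.Prime := Fact.out
  obtain ⟨s, hs, hs2, hsp, hcase⟩ := exists_good_prime (p := p) h5
  have hodd : Odd s := hs.odd_of_ne_two hs2
  have hcard : Nat.card (ZMod p) = p := Nat.card_zmod p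
  have h2 : (2 : ZMod p) ≠ 0 := two_ne_of_odd (by rw [hcard]; exact hp.odd_of_ne_two (by omega))
  have h4 : (4 : ZMod p) ≠ 0 := by
    rw [show (4 : ZMod p) = 2 * 2 by norm_num]; exact mul_ne_zero h2 h2
  have hneg : IsSquare (-1 : ZMod p) ↔ p % 4 ≠ 3 := ZMod.exists_sq_eq_neg_one_iff
  have hlift : ∀ X : SL(2, ZMod p), orderOf X = s → orderOf (π X) = s := by
    intro X hX
    refine orderOf_eq_prime (hp := ⟨hs⟩) (by rw [← map_pow, ← hX, pow_orderOf_eq_one, map_one]) fun e => ?_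
    rcases (π_eq_one X).1 e with h | h
    · rw [h, orderOf_one] at hX; exact hs.one_lt.ne hX
    · have : X ^ 2 = 1 := by rw [h, neg_one_sq]
      exact hs2 ((Nat.prime_dvd_prime_iff_eq hs Nat.prime_two).1 (hX ▸ orderOf_dvd_of_pow_eq_one this))
  obtain ⟨X₀, hX₀⟩ : ∃ X₀ : SL(2, ZMod p), orderOf X₀ = s := by
    haveI : Fact s.Prime := ⟨hs⟩
    refine exists_prime_orderOf_dvd_card' s ?_
    rw [PSLCard.card_SL2, hcard]
    rcases hcase with ⟨-, hd, -⟩ | ⟨-, hd⟩
    · have e : p ^ 2 - 1 = (p + 1) * (p - 1) := by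
        have := Nat.sq_sub_sq p 1; simpa using this
      rw [e]; exact (hd.mul_right _).mul_left p
    · have e : p ^ 2 - 1 = (p + 1) * (p - 1) := by
        have := Nat.sq_sub_sq p 1; simpa using this
      rw [e]; exact (hd.mul_left _).mul_left p
  refine ⟨s, hs, hs2, ⟨π X₀, hlift X₀ hX₀⟩, ?_, ?_⟩
  · intro a x ha hx hcomm
    obtain ⟨A, rfl⟩ := π_surjective a
    obtain ⟨X, rfl⟩ := π_surjective x
    have hA1 : A ≠ 1 ∧ A ≠ -1 := by
      constructor <;> intro e <;> rw [show π A = 1 from (π_eq_one A).2 (by simp [e]), orderOf_one] at ha <;>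
        omega
    have hA2 : A ^ 2 = -1 := by
      have : π (A ^ 2) = 1 := by rw [map_pow]; exact orderOf_dvd_iff_pow_eq_one.1 ha.dvd
      rcases (π_eq_one _).1 this with e | e
      · rcases eq_one_or_neg_one_of_sq_eq_one h2 e with r | r
        · exact absurd r hA1.1
        · exact absurd r hA1.2
      · exact e
    have htrA := (sq_eq_neg_one_iff A h2).1 hA2
    obtain ⟨X', hX', hπ⟩ : ∃ X' : SL(2, ZMod p), orderOf X' = s ∧ π X' = π X := by
      have : π (X ^ s) = 1 := by rw [map_pow, ← hx, pow_orderOf_eq_one]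
      have hne : π X ≠ 1 := fun e => hs.one_lt.ne (by rw [← hx, e, orderOf_one])
      rcases (π_eq_one _).1 this with e | e
      · exact ⟨X, orderOf_eq_prime (hp := ⟨hs⟩) e fun r => hne (by rw [r, map_one]), rfl⟩
      · exact ⟨-X, orderOf_eq_prime (hp := ⟨hs⟩) (by rw [hodd.neg_pow, e, neg_neg])
          fun r => hne (by rw [← π_neg, r, map_one]), π_neg X⟩
    rw [← hπ, ← map_mul, ← map_mul] at hcomm
    have hc : A * X' = X' * A := by
      rcases (π_eq_iff _ _).1 hcomm with e | e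
      · exact e
      · exfalso
        have h1 : A * X' * A⁻¹ = -X' := by rw [e, neg_mul, mul_inv_cancel_right]
        have h2' : (-X') ^ s = 1 := by
          rw [← h1, conj_pow, ← hX', pow_orderOf_eq_one, mul_one, mul_inv_cancel]
        rw [hodd.neg_pow, ← hX', pow_orderOf_eq_one] at h2'
        exact neg_one_ne_one h2 h2'
    have hAc : A ∉ Subgroup.center SL(2, ZMod p) := fun hm =>
      ((mem_center_iff A).1 hm).elim hA1.1 hA1.2
    obtain ⟨a', b, hab⟩ := exists_eq_of_commute hAc (B := X'.1) (congrArg Subtype.val hc).symm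
    obtain ⟨hne4, hiff⟩ := disc_iff h2 hs hs2 hsp X' hX'
    have htr : tr X' = 2 * a' := by
      have e0 : A.1 0 0 + A.1 1 1 = 0 := htrA
      rw [tr, hab]; simp; linear_combination b * e0
    have hdet : a' ^ 2 + b ^ 2 = 1 := by
      have hd := det_eq X'
      have hdA := det_eq A
      have e0 : A.1 0 0 + A.1 1 1 = 0 := htrA
      rw [hab] at hd
      simp at hd
      linear_combination hd - a' * b * e0 - b ^ 2 * hdA
    have hdisc : tr X' ^ 2 - 4 = -1 * (2 * b) ^ 2 := by rw [htr]; linear_combination 4 * hdet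
    have hb : (2 * b) ^ 2 ≠ 0 := by
      intro e; apply hne4; linear_combination hdisc - e
    rcases hcase with ⟨hm, -, hd⟩ | ⟨hm, hd⟩
    · refine hd (hiff.1 ?_)
      rw [hdisc]
      exact (hneg.2 (by omega)).mul ⟨2 * b, sq _⟩
    · have hsq := hiff.2 hd
      rw [hdisc] at hsq
      refine absurd hm (hneg.1 ?_)
      have := hsq.mul (show IsSquare (((2 * b) ^ 2)⁻¹) from ⟨(2 * b)⁻¹, by rw [sq, mul_inv]⟩)
      rwa [mul_inv_cancel_right₀ hb] at this
  · intro α hα
    obtain ⟨g, σ, hg⟩ := AutPSLMain.aut_decomp (F := ZMod p) le_rfl α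
    have hσ : σ = 1 := RingEquiv.ext fun z => congrFun (congrArg DFunLike.coe
      (Subsingleton.elim (σ : ZMod p →+* ZMod p) (RingHom.id _))) z
    have hαg : α = cj g := by
      rcases hg with e | ⟨h3, -⟩
      · rw [e, hσ, map_one, mul_one]
      · omega
    have hgg : g * g ∈ Subgroup.center (GL (Fin 2) (ZMod p)) :=
      (AutPSLApi.cj_eq_one_iff le_rfl _).1 (by rw [map_mul, ← hαg]; exact hα)
    obtain ⟨r, hr⟩ := PGL2Orders.scalar_of_mem_center hgg
    have hG := PGL2Orders.sq_eq (g : M2)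
    rw [← Units.val_mul, hr] at hG
    by_cases htg : (g : M2).trace = 0
    swap
    · left
      refine ⟨1, fun x => ?_⟩
      have hgc : g ∈ Subgroup.center (GL (Fin 2) (ZMod p)) := by
        refine PGL2Orders.mem_center_of_scalar (r := ((g : M2).trace)⁻¹ * (r + (g : M2).det)) ?_
        rw [mul_smul, add_smul, hG, sub_add_cancel, ← mul_smul, inv_mul_cancel₀ htg, one_smul]
      rw [hαg, (AutPSLApi.cj_eq_one_iff le_rfl g).2 hgc]
      simp
    rw [htg, zero_smul, zero_sub] at hG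
    have hG2 : (g : M2) * (g : M2) = -(g : M2).det • (1 : M2) := by
      rw [← Units.val_mul, hr, hG, neg_smul]
    set dd := (g : M2).det with hdd
    have d0 : dd ≠ 0 := ((g : M2).isUnit_iff_isUnit_det.1 g.isUnit).ne_zero
    by_cases hsq : IsSquare dd
    · left
      obtain ⟨l, hl⟩ := hsq
      have l0 : l ≠ 0 := fun e => d0 (by rw [hl, e, mul_zero])
      let A : SL(2, ZMod p) := ⟨l⁻¹ • (g : M2), by
        rw [Matrix.det_smul, ← hdd, Fintype.card_fin, hl]; field_simp⟩
      refine ⟨π A, fun x => ?_⟩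
      obtain ⟨S, rfl⟩ := π_surjective x
      rw [hαg, ← map_mul, ← map_inv, ← map_mul]
      show cj g (QuotientGroup.mk S) = _
      rw [cj_mk]
      congr 1
      rw [eq_mul_inv_iff_mul_eq]
      apply Subtype.ext
      show (slConj g S).1 * A.1 = A.1 * S.1
      rw [coe_slConj]
      show (g : M2) * S.1 * ((g⁻¹ : GL (Fin 2) (ZMod p)) : M2) * (l⁻¹ • (g : M2)) = (l⁻¹ • (g : M2)) * S.1
      simp [mul_assoc]
    · right
      obtain ⟨hne4, hiff⟩ := disc_iff h2 hs hs2 hsp X₀ hX₀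
      set τ := tr X₀ with hτ
      have hquot : IsSquare ((τ ^ 2 - 4) / (-(4 * dd))) := by
        have h44 : IsSquare (4 : ZMod p) := ⟨2, by norm_num⟩
        have hd4 : ¬ IsSquare (4 * dd) := fun h => hsq (by
          have := h.div h44; rwa [mul_div_cancel_left₀ _ h4] at this)
        rcases hcase with ⟨hm, -, hd⟩ | ⟨hm, hd⟩
        · have hm1 : IsSquare (-1 : ZMod p) := hneg.2 (by omega)
          have hn : ¬ IsSquare (-(4 * dd)) := fun h => hd4 (by simpa using hm1.mul h)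
          have hn' : ¬ IsSquare (-(4 * dd))⁻¹ := by rwa [isSquare_inv]
          rw [div_eq_mul_inv]
          exact isSquare_mul (fun h => hd (hiff.1 h)) hn'
        · have hm1 : ¬ IsSquare (-1 : ZMod p) := fun h => hneg.1 h hm
          exact (hiff.2 hd).div (by simpa using isSquare_mul hm1 hd4)
      obtain ⟨b, hb⟩ := hquot
      have hb' : b * b * (-(4 * dd)) = τ ^ 2 - 4 := by
        rw [← hb, div_mul_cancel₀ _ (neg_ne_zero.2 (mul_ne_zero h4 d0))]
      have e0 : (g : M2) 0 0 + (g : M2) 1 1 = 0 := by rw [← Matrix.trace_fin_two, htg]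
      let Y : SL(2, ZMod p) := ⟨(τ / 2) • (1 : M2) + b • (g : M2), by
        have hd : dd = (g : M2) 0 0 * (g : M2) 1 1 - (g : M2) 0 1 * (g : M2) 1 0 := Matrix.det_fin_two _
        rw [Matrix.det_fin_two]
        simp
        have ha : τ / 2 * 2 = τ := div_mul_cancel₀ τ h2
        apply mul_left_cancel₀ h4
        linear_combination -hb' + 4 * (τ / 2) * b * e0 - 4 * b ^ 2 * hd + (τ / 2 * 2 + τ) * ha⟩
      have htrY : tr Y = τ := by
        simp [tr, Y]
        linear_combination b * e0 + (div_mul_cancel₀ τ h2)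
      have hord : orderOf Y = s := by
        obtain ⟨c, hc⟩ := isConj_iff.1 (isConj_of_tr_eq htrY.symm hne4)
        rw [← hc, show c * X₀ * c⁻¹ = MulAut.conj c X₀ from rfl, MulEquiv.orderOf_eq, hX₀]
      refine ⟨π Y, hlift Y hord, ?_⟩
      rw [hαg]
      show cj g (QuotientGroup.mk Y) = _
      rw [cj_mk]
      congr 1
      apply Subtype.ext
      rw [coe_slConj]
      show (g : M2) * ((τ / 2) • (1 : M2) + b • (g : M2)) * ((g⁻¹ : GL (Fin 2) (ZMod p)) : M2) = _
      have hcm : (g : M2) * ((τ / 2) • (1 : M2) + b • (g : M2)) =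
          ((τ / 2) • (1 : M2) + b • (g : M2)) * (g : M2) := by
        simp [mul_add, add_mul]
      rw [hcm, mul_assoc, Units.mul_inv, mul_one]

end Cfsg.Agent.CycSyl43RefPSL86
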