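import Mathlib
import Cfsg.Agent.Lib.CycSyl43RefBasic86
import Cfsg.Agent.Lib.CycSyl43RefPSL86
import Cfsg.Agent.Lib.PSLSimple

/-!
The centraliser of an element of prime order of the odd core centralised by a reflection is soluble.
-/

set_option autoImplicit false

namespace Cfsg.Agent.CycSyl43RefCent86

open CycSyl43 CycSyl43RefBasic86

universe u

variable {T : Type u} [Group T]

/-- The elements fixing or inverting `y`. -/
def pm (y : T) : Subgroup T where
  carrier := {g | g * y * g⁻¹ = y ∨ g * y * g⁻¹ = y⁻¹}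
  one_mem' := Or.inl (by group)
  mul_mem' := by
    intro a b ha hb
    show a * b * y * (a * b)⁻¹ = y ∨ a * b * y * (a * b)⁻¹ = y⁻¹
    rw [show a * b * y * (a * b)⁻¹ = a * (b * y * b⁻¹) * a⁻¹ by group]
    rcases hb with e | e <;> rw [e]
    · exact ha
    · rw [show a * y⁻¹ * a⁻¹ = (a * y * a⁻¹)⁻¹ by group]
      rcases ha with e' | e' <;> rw [e']
      · exact Or.inr rfl
      · exact Or.inl (inv_inv y)
  inv_mem' := by
    intro a ha
    show a⁻¹ * y * a⁻¹⁻¹ = y ∨ a⁻¹ * y * a⁻¹⁻¹ = y⁻¹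
    rcases ha with e | e
    · exact Or.inl (by nth_rewrite 1 [← e]; group)
    · refine Or.inr ?_
      have : a⁻¹ * (a * y * a⁻¹)⁻¹ * a = y⁻¹ := by group
      rw [e, inv_inv] at this
      rw [inv_inv]
      exact this

theorem cent_le_pm (y : T) : Subgroup.centralizer ({y} : Set T) ≤ pm y := fun g hg =>
  Or.inl (mul_inv_eq_iff_eq_mul.2 (Subgroup.mem_centralizer_singleton_iff.1 hg))

/-- The subgroup generated by the involutions centralising `y`. -/
def invClosure (y : T) : Subgroup T := Subgroup.closure {z | z * y = y * z ∧ orderOf z = 2}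

theorem invClosure_le (y : T) : invClosure y ≤ Subgroup.centralizer ({y} : Set T) :=
  (Subgroup.closure_le _).2 fun _ hz => Subgroup.mem_centralizer_singleton_iff.2 hz.1

theorem invClosure_map {y g : T} (hg : g ∈ pm y) :
    (invClosure y).map (MulAut.conj g).toMonoidHom ≤ invClosure y := by
  rw [invClosure, MonoidHom.map_closure, Subgroup.closure_le]
  rintro _ ⟨z, ⟨hz, hz2⟩, rfl⟩
  refine Subgroup.subset_closure ⟨?_, (MulEquiv.orderOf_eq _ _).trans hz2⟩
  have h : (g * z * g⁻¹) * (g * y * g⁻¹) = (g * y * g⁻¹) * (g * z * g⁻¹) := by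
    rw [show (g * z * g⁻¹) * (g * y * g⁻¹) = g * (z * y) * g⁻¹ by group, hz]; group
  rcases hg with e | e <;> rw [e] at h
  · exact h
  · exact (Commute.inv_right_iff.1 (show Commute (g * z * g⁻¹) y⁻¹ from h)).eq

theorem invClosure_conj {y g x : T} (hg : g ∈ pm y) (hx : x ∈ invClosure y) :
    g * x * g⁻¹ ∈ invClosure y := invClosure_map hg ⟨x, hx, rfl⟩

/-! ### Inheritance -/

variable [Finite T]

theorem oddCyclic_sub (h : OddCyclic T) (K : Subgroup T) : OddCyclic K := by
  intro p hp hp2 P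
  haveI : Fact p.Prime := ⟨hp⟩
  obtain ⟨Q, hQ⟩ := (P.isPGroup'.map K.subtype).exists_le_sylow
  haveI := h p hp hp2 Q
  haveI := Subgroup.isCyclic_of_le hQ
  exact isCyclic_of_injective ((P : Subgroup K).equivMapOfInjective K.subtype K.subtype_injective).toMonoidHom
    (MulEquiv.injective _)

theorem twoSmall_sub (h : TwoSmall T) (K : Subgroup T) : TwoSmall K := by
  intro P
  obtain ⟨Q, hQ⟩ := (P.isPGroup'.map K.subtype).exists_le_sylow
  obtain ⟨C₀, hC, hi⟩ := h Q
  let f : (P : Subgroup K) →* (Q : Subgroup T) :=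
    (Subgroup.inclusion hQ).comp ((P : Subgroup K).equivMapOfInjective K.subtype K.subtype_injective).toMonoidHom
  have hf : Function.Injective f := (Subgroup.inclusion_injective hQ).comp (MulEquiv.injective _)
  refine ⟨C₀.comap f, ?_, ?_⟩
  · exact isCyclic_of_injective ((f.comp (C₀.comap f).subtype).codRestrict C₀ fun x => x.2)
      (fun a b e => Subtype.ext (hf (congrArg Subtype.val e)))
  · rcases (Nat.dvd_prime Nat.prime_two).1 hi with h1 | h2
    · rw [Subgroup.index_eq_one.1 h1, Subgroup.comap_top, Subgroup.index_top]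
      exact one_dvd _
    · haveI := Subgroup.normal_of_index_eq_two h2
      rw [Subgroup.index_comap]
      have := Subgroup.relIndex_dvd_index_of_normal C₀ f.range
      rwa [h2] at this

variable {S : Sylow 2 T} {t : T} {O : Subgroup T} {σ : T} {k : ℕ} {y u₀ : T}

theorem mem_C {g : T} : g ∈ Subgroup.centralizer ({y} : Set T) ↔ g * y = y * g :=
  Subgroup.mem_centralizer_singleton_iff

theorem t_comm (c : Ctx S t O σ k y u₀) : t * y = y * t := (memO c.dih c.hy).symm

/-- An involution of `S` centralising `y` is fused to `t` in `C(y)`. -/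
theorem sub_conj_t (c : Ctx S t O σ k y u₀) {a : T} (ha : a ∈ (S : Subgroup T)) (h2 : orderOf a = 2)
    (hay : a * y = y * a) : ∃ h, h * y = y * h ∧ h * a * h⁻¹ = t := by
  by_cases e : a = t
  · exact ⟨1, by simp, by rw [e]; group⟩
  · obtain ⟨h, hy, h1, -⟩ := (⟨c.dih, c.str, c.shp, c.hy, c.prime, ha, h2, e, hay⟩ :
      Ctx S t O σ k y a).fus
    refine ⟨h⁻¹, (show Commute h y from hy).inv_left.eq, ?_⟩
    rw [← h1]; group

/-- All involutions of `C(y)` are fused in it. -/
theorem invol_conj (c : Ctx S t O σ k y u₀) {z : T} (hz : z * y = y * z) (hz2 : orderOf z = 2) :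
    ∃ h, h * y = y * h ∧ h * z * h⁻¹ = t := by
  classical
  set C := Subgroup.centralizer ({y} : Set T) with hC
  have hP₀ : IsPGroup 2 (((S : Subgroup T) ⊓ C).subgroupOf C) :=
    (S.isPGroup'.to_le inf_le_left).comap_subtype
  obtain ⟨P, hP⟩ := hP₀.exists_le_sylow
  have hzp : IsPGroup 2 (Subgroup.zpowers (⟨z, mem_C.2 hz⟩ : C)) := IsPGroup.of_card (n := 1) (by
    rw [Nat.card_zpowers, Subgroup.orderOf_mk, hz2, pow_one])
  obtain ⟨Q, hQ⟩ := hzp.exists_le_sylow
  obtain ⟨g, hg⟩ := MulAction.exists_smul_eq C Q P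
  have hz1 : g * ⟨z, mem_C.2 hz⟩ * g⁻¹ ∈ (P : Subgroup C) := by
    rw [← hg, Sylow.smul_def]
    exact ⟨_, hQ (Subgroup.mem_zpowers _), rfl⟩
  haveI : Fact (Nat.Prime 2) := ⟨Nat.prime_two⟩
  have htP : (⟨t, mem_C.2 (t_comm c)⟩ : C) ∈ (P : Subgroup C) := hP ⟨c.dih.mem, mem_C.2 (t_comm c)⟩
  have huP : (⟨u₀, mem_C.2 c.comm⟩ : C) ∈ (P : Subgroup C) := hP ⟨c.hu, mem_C.2 c.comm⟩
  haveI : Nontrivial (P : Subgroup C) := ⟨⟨⟨_, htP⟩, 1, fun e =>
    ne_one_of_two c.dih.ot (congrArg (fun a : (P : Subgroup C) => ((a : C) : T)) e)⟩⟩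
  haveI := P.isPGroup'.center_nontrivial
  obtain ⟨z₀, hz₀⟩ : ∃ z₀ : Subgroup.center (P : Subgroup C), orderOf z₀ = 2 := by
    refine exists_prime_orderOf_dvd_card' 2 ?_
    obtain ⟨n, hn⟩ := IsPGroup.iff_card.1 (P.isPGroup'.to_subgroup (Subgroup.center (P : Subgroup C)))
    have := Finite.one_lt_card (α := Subgroup.center (P : Subgroup C))
    rcases Nat.eq_zero_or_pos n with rfl | hpos
    · rw [pow_zero] at hn; omega
    · rw [hn]; exact dvd_pow_self 2 hpos.ne'
  set w : T := (((z₀ : (P : Subgroup C)) : C) : T) with hw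
  have hw2 : orderOf w = 2 := by rw [hw, Subgroup.orderOf_coe, Subgroup.orderOf_coe, Subgroup.orderOf_coe, hz₀]
  have hwc : ∀ x ∈ (P : Subgroup C), (x : T) * w = w * (x : T) := fun x hx =>
    congrArg (fun a : (P : Subgroup C) => ((a : C) : T)) (Subgroup.mem_center_iff.1 z₀.2 ⟨x, hx⟩)
  obtain ⟨o, ho, hoa, v, hv, hwv⟩ := cent_four c.dih c.shp c.hu c.hu2 c.hut (hwc _ htP).symm
    (hwc _ huP).symm
  have hvS : v ∈ (S : Subgroup T) ∧ v * v = 1 ∧ v * o = o * v ∧ v * y = y * v := by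
    have ho' := (memO c.dih ho).symm
    have tu : u₀ * t = t * u₀ := c.dih.central u₀ c.hu
    rcases hv with rfl | rfl | rfl | rfl
    · exact ⟨one_mem _, one_mul 1, by simp, by simp⟩
    · exact ⟨c.dih.mem, mul_self_of c.dih.ot, ho', t_comm c⟩
    · exact ⟨c.hu, mul_self_of c.hu2, hoa.symm, c.comm⟩
    · refine ⟨mul_mem c.dih.mem c.hu, ?_, ((show Commute t o from ho').mul_left hoa.symm).eq,
        ((show Commute t y from t_comm c).mul_left c.comm).eq⟩
      rw [← mul_assoc, mul_assoc t u₀ t, tu, ← mul_assoc, mul_self_of c.dih.ot, one_mul, mul_self_of c.hu2]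
  have ho1 : o = 1 := by
    refine eq_one_of_sq c.dih.odd (pow_card_O ho) ((unique c.dih (mul_mem ho ho) (one_mem O)
      (mul_mem hvS.1 hvS.1) (one_mem _) ?_).1)
    rw [one_mul, ← mul_self_of hw2, hwv, mul_assoc o v, ← mul_assoc v o, hvS.2.2.1]
    group
  rw [ho1, one_mul] at hwv
  obtain ⟨h, hhy, hh⟩ := sub_conj_t c hvS.1 (hwv ▸ hw2) hvS.2.2.2
  set z₁ : T := h * ((g : T) * z * (g : T)⁻¹) * h⁻¹ with hz₁
  have hhg : (h * g) * y = y * (h * g) :=
    ((show Commute h y from hhy).mul_left (mem_C.1 g.2 : Commute (g : T) y)).eq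
  have hz1y : z₁ * y = y * z₁ := by
    have := ((show Commute (h * g) y from hhg).mul_left hz).mul_left (show Commute (h * g) y from hhg).inv_left
    rw [hz₁]
    convert this.eq using 2 <;> group
  have hz12 : orderOf z₁ = 2 := by
    rw [hz₁, show h * ((g : T) * z * (g : T)⁻¹) * h⁻¹ = MulAut.conj (h * g) z by
      rw [MulAut.conj_apply]; group, MulEquiv.orderOf_eq, hz2]
  have hz1t : z₁ * t = t * z₁ := by
    have := hwc _ hz1
    rw [hwv] at this
    rw [hz₁, ← hh]
    calc h * (↑g * z * (↑g)⁻¹) * h⁻¹ * (h * v * h⁻¹) = h * ((↑g * z * (↑g)⁻¹) * v) * h⁻¹ := by group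
      _ = h * (v * (↑g * z * (↑g)⁻¹)) * h⁻¹ := by rw [show (↑g * z * (↑g)⁻¹) * v = v * (↑g * z * (↑g)⁻¹) from this]
      _ = _ := by group
  have conc : ∀ m : T, m * y = y * m → m * z₁ * m⁻¹ = t → ∃ h', h' * y = y * h' ∧ h' * z * h'⁻¹ = t :=
    fun m hm hmz => ⟨m * (h * g), ((show Commute m y from hm).mul_left hhg).eq, by
      rw [← hmz, hz₁]; group⟩
  by_cases e : z₁ = t
  · exact conc 1 (by simp) (by rw [e]; group)
  · obtain ⟨o', ho', s, hs, hs2, -, hzs⟩ := refl c.dih hz12 hz1t e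
    have hsy : s * y = y * s := by
      have h1 : Commute o' y := c.O_comm ho'
      have h2 := (h1.inv_left.mul_left (hz1y : Commute z₁ y)).mul_left h1
      rw [hzs] at h2
      convert h2.eq using 2 <;> group
    obtain ⟨m, hm, hms⟩ := sub_conj_t c hs hs2 hsy
    refine conc (m * o'⁻¹) ((show Commute m y from hm).mul_left (show Commute o' y from c.O_comm ho').inv_left).eq ?_
    rw [hzs, ← hms]; group

/-- An element normalising `⟨y⟩` fixes or inverts `y`. -/
theorem norm_pm (c : Ctx S t O σ k y u₀) {g : T} (hg : g * y * g⁻¹ ∈ Subgroup.zpowers y) :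
    g ∈ pm y := by
  have hle : Subgroup.zpowers (g * y * g⁻¹) = Subgroup.zpowers y := by
    refine Subgroup.eq_of_le_of_card_ge (Subgroup.zpowers_le.2 hg) (le_of_eq ?_)
    rw [Nat.card_zpowers, Nat.card_zpowers, show g * y * g⁻¹ = MulAut.conj g y from rfl, MulEquiv.orderOf_eq]
  have hy : y ∈ Subgroup.zpowers (g * y * g⁻¹) := hle ▸ Subgroup.mem_zpowers y
  have h1 : Commute (g * t * g⁻¹) (g * y * g⁻¹) := by
    show g * t * g⁻¹ * (g * y * g⁻¹) = g * y * g⁻¹ * (g * t * g⁻¹)
    rw [show g * t * g⁻¹ * (g * y * g⁻¹) = g * (t * y) * g⁻¹ by group, t_comm c]; group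
  obtain ⟨j, hj : (g * y * g⁻¹) ^ j = y⟩ := hy
  obtain ⟨h, hhy, hh⟩ := invol_conj c (z := g * t * g⁻¹) (by
    have := (h1.zpow_right j).eq
    rwa [hj] at this) (by rw [show g * t * g⁻¹ = MulAut.conj g t from rfl, MulEquiv.orderOf_eq, c.dih.ot])
  obtain ⟨o, ho, s, hs, e⟩ := c.dih.cent (h * g) (Subgroup.mem_centralizer_singleton_iff.2 (by
    conv_rhs => rw [← hh]
    group))
  have h2 : h * g ∈ pm y := by
    rw [e]
    exact mul_mem (cent_le_pm y (mem_C.2 (c.O_comm ho))) (c.sgn hs)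
  have := mul_mem (inv_mem (cent_le_pm y (mem_C.2 hhy))) h2
  rwa [inv_mul_cancel_left] at this

theorem w_facts (c : Ctx S t O σ k y u₀) :
    σ * u₀ ∈ (S : Subgroup T) ∧ orderOf (σ * u₀) = 2 ∧ σ * u₀ ∉ Subgroup.zpowers σ ∧
      σ * u₀ * y * (σ * u₀)⁻¹ = y⁻¹ := by
  have hm : σ * u₀ ∈ (S : Subgroup T) := mul_mem c.shp.mem c.hu
  have hn : σ * u₀ ∉ Subgroup.zpowers σ := fun h => not_rot c.shp c.hu c.hu2 c.hut (by
    have := mul_mem (inv_mem (Subgroup.mem_zpowers σ)) h
    rwa [inv_mul_cancel_left] at this)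
  have hsq := ((c.shp.dicho _ hm).resolve_left hn).1
  refine ⟨hm, order_two hsq (fun e => hn (e ▸ one_mem _)), hn, ?_⟩
  rw [show σ * u₀ * y * (σ * u₀)⁻¹ = σ * (u₀ * y * u₀⁻¹) * σ⁻¹ by group, mul_inv_eq_iff_eq_mul.2 c.comm,
    c.sigma_inv]

/-- Elements of `C` of order dividing `|L|` lie in the image of `L`. -/
theorem mem_range_of_pow {C : Subgroup T} {G₀ : Subgroup C} {X L : Subgroup G₀} (hX : X.Normal)
    (hL : L.Normal) (hd : X ⊓ L = ⊥) (hu : X ⊔ L = ⊤) (hco : (Nat.card X).Coprime (Nat.card L))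
    {a : T} (ha : a ∈ C) (haG : (⟨a, ha⟩ : C) ∈ G₀) (hpow : a ^ Nat.card L = 1) :
    a ∈ (C.subtype.comp (G₀.subtype.comp L.subtype)).range := by
  obtain ⟨x, hx, l, hl, hxl⟩ : ∃ x ∈ X, ∃ l ∈ L, x * l = (⟨⟨a, ha⟩, haG⟩ : G₀) := by
    haveI := hX
    exact Subgroup.mem_sup_of_normal_left.1 (hu ▸ Subgroup.mem_top _)
  have hc : Commute x l := Subgroup.commute_of_normal_of_disjoint X L hX hL (disjoint_iff.2 hd) x l hx hl
  have h1 : (⟨⟨a, ha⟩, haG⟩ : G₀) ^ Nat.card L = 1 := Subtype.ext (Subtype.ext hpow)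
  have hl1 : l ^ Nat.card L = 1 :=
    congrArg Subtype.val (pow_card_eq_one' (x := (⟨l, hl⟩ : L)))
  rw [← hxl, hc.mul_pow, hl1, mul_one] at h1
  have hx1 : x = 1 := orderOf_eq_one_iff.1 (Nat.eq_one_of_dvd_coprimes hco
    (orderOf_dvd_of_pow_eq_one (congrArg Subtype.val (pow_card_eq_one' (x := (⟨x, hx⟩ : X)))))
    (orderOf_dvd_of_pow_eq_one h1))
  refine ⟨⟨l, hl⟩, ?_⟩
  rw [hx1, one_mul] at hxl
  show ((l : C) : T) = a
  rw [hxl]

/-- An element of odd order of `C` lies in a subgroup of index at most two. -/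
theorem mem_of_odd_pow {C : Type*} [Group C] {G₀ : Subgroup C} (hi : G₀.index ∣ 2) {a : C} {n : ℕ}
    (hn : Odd n) (ha : a ^ n = 1) : a ∈ G₀ := by
  rcases (Nat.dvd_prime Nat.prime_two).1 hi with h1 | h2
  · rw [Subgroup.index_eq_one.1 h1]; exact Subgroup.mem_top _
  · obtain ⟨l, rfl⟩ := hn
    have : a = a ^ (l + 1) * a ^ (l + 1) := by
      rw [← pow_add, show l + 1 + (l + 1) = 2 * l + 1 + 1 by ring, pow_succ, ha, one_mul]
    rw [this]
    exact Subgroup.mul_self_mem_of_index_two h2 _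

/-- A subgroup isomorphic to `PSL(2,p)` is simple. -/
theorem psl_normal_top {p : ℕ} [Fact p.Prime] (h5 : 5 ≤ p) {L : Type*} [Group L]
    (e : L ≃* Matrix.ProjectiveSpecialLinearGroup (Fin 2) (ZMod p)) (N : Subgroup L) (hN : N.Normal)
    (hne : N ≠ ⊥) : N = ⊤ := by
  haveI : IsSimpleGroup (Matrix.ProjectiveSpecialLinearGroup (Fin 2) (ZMod p)) :=
    PSLSimple.isSimpleGroup_PSL_fin' le_rfl fun _ => by rw [Nat.card_zmod]; omega
  haveI := hN
  rcases (hN.map e.toMonoidHom e.surjective).eq_bot_or_eq_top with h | h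
  · exact absurd ((Subgroup.map_eq_bot_iff_of_injective N e.injective).1 h) hne
  · exact (Subgroup.map_injective e.injective) (h.trans (Subgroup.map_top_of_surjective _ e.surjective).symm)

/-- **The centraliser of `y` is soluble.** -/
theorem solvable (c : Ctx S t O σ k y u₀) (hA : Assembly.{u}) (hm : CycSyl43.Min T) :
    Group.IsSolvable (Subgroup.centralizer ({y} : Set T)) := by
  classical
  by_contra hns
  set C := Subgroup.centralizer ({y} : Set T) with hC
  have hlt : Nat.card C + 1 ≤ Nat.card T := by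
    refine (lt_of_le_of_ne (Subgroup.card_le_card_group C) fun e => ?_).nat_succ_le
    have htop := Subgroup.eq_top_of_card_eq C e
    haveI := hm.simple
    rcases Subgroup.Normal.eq_bot_or_eq_top (H := Subgroup.center T) inferInstance with h | h
    · have : y ∈ Subgroup.center T := Subgroup.mem_center_iff.2 fun g =>
        mem_C.1 (by rw [← hC, htop]; exact Subgroup.mem_top g)
      rw [h, Subgroup.mem_bot] at this
      exact c.ne_one this
    · obtain ⟨a, b, hab⟩ := hm.nc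
      exact hab (Subgroup.mem_center_iff.1 (h ▸ Subgroup.mem_top b) a)
  obtain ⟨G₀, hG₀, hi, X, L, hX, hL, hd, hu, hco, -, -, p, hp, h5, hiso⟩ :=
    hA C (fun T' _ _ h1 h2 h3 h4 h5 => hm.below T' h1 h2 h3 h4 (lt_of_lt_of_le h5 hlt)) hns
      (oddCyclic_sub hm.hodd C) (twoSmall_sub hm.h2 C)
  haveI := hp
  set ι := C.subtype.comp (G₀.subtype.comp L.subtype) with hι
  have hιinj : Function.Injective ι :=
    C.subtype_injective.comp (G₀.subtype_injective.comp L.subtype_injective)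
  have hmemL : ∀ {a : T} (ha : a ∈ C), (⟨a, ha⟩ : C) ∈ G₀ → a ^ Nat.card L = 1 → a ∈ ι.range :=
    fun ha haG hpow => mem_range_of_pow hX hL hd hu hco ha haG hpow
  -- `L` contains an involution
  obtain ⟨j₀, hj₀⟩ : ∃ j₀ : L, orderOf j₀ = 2 := by
    rcases hiso with ⟨⟨e⟩⟩ | ⟨⟨e⟩⟩
    · refine ⟨e.symm (PSL2Proj52.π PSL2Elements.w), ?_⟩
      rw [MulEquiv.orderOf_eq]
      refine orderOf_eq_prime (by rw [← map_pow, pow_two, PSL2Elements.w_sq, PSL2Proj52.π_eq_one]; exact Or.inr rfl) ?_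
      intro e1
      rcases (PSL2Proj52.π_eq_one _).1 e1 with r | r <;>
        (have := congrArg (fun A : Matrix.SpecialLinearGroup (Fin 2) (ZMod p) => A.1 1 0) r;
         simp [PSL2Elements.w] at this)
    · refine ⟨e.symm (-1), ?_⟩
      rw [MulEquiv.orderOf_eq]
      exact orderOf_eq_prime neg_one_sq (PSL2Proj52.neg_one_ne_one
        (PSL2Proj52.two_ne_of_odd (by rw [Nat.card_zmod]; exact hp.out.odd_of_ne_two (by omega))))
  have hj₀T : orderOf (ι j₀) = 2 := by rw [orderOf_injective ι hιinj, hj₀]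
  have hj₀C : ι j₀ ∈ C := ((j₀ : G₀) : C).2
  -- every involution of `C` is in `L`
  have hinv : ∀ z : T, z * y = y * z → orderOf z = 2 → z ∈ ι.range := by
    intro z hz hz2
    obtain ⟨h, hhy, hh⟩ := invol_conj c hz hz2
    obtain ⟨h', hhy', hh'⟩ := invol_conj c (mem_C.1 hj₀C) hj₀T
    set g := h⁻¹ * h' with hg
    have hgC : g ∈ C := mul_mem (inv_mem (mem_C.2 hhy)) (mem_C.2 hhy')
    have hzg : z = g * ι j₀ * g⁻¹ := by
      rw [hg, show h⁻¹ * h' * ι j₀ * (h⁻¹ * h')⁻¹ = h⁻¹ * (h' * ι j₀ * h'⁻¹) * h by group, hh', ← hh]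
      group
    refine hmemL (mem_C.2 hz) ?_ ?_
    · have := hG₀.conj_mem ((j₀ : G₀) : C) (j₀ : G₀).2 ⟨g, hgC⟩
      convert this using 1
      exact Subtype.ext hzg
    · refine orderOf_dvd_iff_pow_eq_one.1 ?_
      rw [hz2, ← hj₀]
      exact orderOf_dvd_natCard _
  have ht : t ∈ ι.range := hinv t (t_comm c) c.dih.ot
  have hu₀ : u₀ ∈ ι.range := hinv u₀ c.comm c.hu2
  obtain ⟨tL, htL⟩ := ht
  obtain ⟨uL, huL⟩ := hu₀
  have htL2 : orderOf tL = 2 := by rw [← orderOf_injective ι hιinj, htL, c.dih.ot]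
  have huL2 : orderOf uL = 2 := by rw [← orderOf_injective ι hιinj, huL, c.hu2]
  rcases hiso with ⟨⟨e⟩⟩ | ⟨⟨e⟩⟩
  swap
  · have h20 : (2 : ZMod p) ≠ 0 :=
      PSL2Proj52.two_ne_of_odd (by rw [Nat.card_zmod]; exact hp.out.odd_of_ne_two (by omega))
    have key : ∀ a : L, orderOf a = 2 → e a = -1 := fun a ha => by
      refine (PSL2Elements.eq_one_or_neg_one_of_sq_eq_one h20 ?_).resolve_left fun h => ?_
      · rw [← map_pow, orderOf_dvd_iff_pow_eq_one.1 ha.dvd, map_one]
      · exact ne_one_of_two ha (e.injective (h.trans (map_one e).symm))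
    exact c.hut (by rw [← huL, ← htL, e.injective ((key uL huL2).trans (key tL htL2).symm)])
  -- the subgroup generated by the involutions is `L`
  have hW : invClosure y = ι.range := by
    refine le_antisymm ((Subgroup.closure_le _).2 fun z hz => hinv z hz.1 hz.2) ?_
    have hn : ((invClosure y).comap ι).Normal := ⟨fun a ha b => by
      show ι (b * a * b⁻¹) ∈ invClosure y
      rw [map_mul, map_mul, map_inv]
      exact invClosure_conj (cent_le_pm y ((b : G₀) : C).2) ha⟩
    have hne : (invClosure y).comap ι ≠ ⊥ := fun h => by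
      have : tL ∈ (invClosure y).comap ι := Subgroup.mem_comap.2 (by
        rw [htL]; exact Subgroup.subset_closure ⟨t_comm c, c.dih.ot⟩)
      rw [h, Subgroup.mem_bot] at this
      exact ne_one_of_two htL2 this
    rintro _ ⟨l, rfl⟩
    exact Subgroup.mem_comap.1 ((psl_normal_top h5 e _ hn hne) ▸ Subgroup.mem_top l)
  let E : invClosure y ≃* Matrix.ProjectiveSpecialLinearGroup (Fin 2) (ZMod p) :=
    ((MulEquiv.subgroupCongr hW).trans (MonoidHom.ofInjective hιinj).symm).trans e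
  obtain ⟨s, hs, hs2, ⟨x₀, hx₀⟩, hnc, hα⟩ := CycSyl43RefPSL86.key (p := p) h5
  have hso : Odd s := hs.odd_of_ne_two hs2
  -- no involution of `W` commutes with an element of order `s` of `W`
  have hW2 : ∀ a b : T, ∀ (ha : a ∈ invClosure y) (hb : b ∈ invClosure y), orderOf a = 2 →
      orderOf b = s → a * b ≠ b * a := fun a b ha hb h1 h2 hab =>
    hnc (E ⟨a, ha⟩) (E ⟨b, hb⟩) (by rw [MulEquiv.orderOf_eq, Subgroup.orderOf_mk, h1])
      (by rw [MulEquiv.orderOf_eq, Subgroup.orderOf_mk, h2])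
      (by rw [← map_mul, ← map_mul]; exact congrArg E (Subtype.ext hab))
  obtain ⟨hwS, hw2, -, hwy⟩ := w_facts c
  generalize σ * u₀ = w at hwS hw2 hwy
  have hww := mul_self_of hw2
  have hwinv : w⁻¹ = w := inv_eq_of_mul_eq_one_right hww
  have hwpm : w ∈ pm y := Or.inr hwy
  have hwmem : ∀ x : T, x ∈ invClosure y → w * x * w ∈ invClosure y := fun x hx => by
    have := invClosure_conj hwpm hx; rwa [hwinv] at this
  let cw : invClosure y ≃* invClosure y :=
    { toFun := fun x => ⟨w * x * w, hwmem x x.2⟩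
      invFun := fun x => ⟨w * x * w, hwmem x x.2⟩
      left_inv := fun x => Subtype.ext (by
        show w * (w * x * w) * w = x
        rw [← mul_assoc, ← mul_assoc, hww, one_mul, mul_assoc, hww, mul_one])
      right_inv := fun x => Subtype.ext (by
        show w * (w * x * w) * w = x
        rw [← mul_assoc, ← mul_assoc, hww, one_mul, mul_assoc, hww, mul_one])
      map_mul' := fun a b => Subtype.ext (by
        show w * ((a : T) * b) * w = w * a * w * (w * b * w)
        rw [show w * (a : T) * w * (w * b * w) = w * a * (w * w) * b * w by group, hww]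
        group) }
  let α : MulAut (AutPSLBasic.P 2 (ZMod p)) := E.symm.trans (cw.trans E)
  have hαα : α * α = 1 := by
    refine MulEquiv.ext fun x => ?_
    show E (cw (E.symm (E (cw (E.symm x))))) = x
    rw [E.symm_apply_apply, show cw (cw (E.symm x)) = E.symm x from cw.left_inv _, E.apply_symm_apply]
  have hEo : ∀ x, orderOf ((E.symm x : invClosure y) : T) = orderOf x := fun x => by
    rw [Subgroup.orderOf_coe, MulEquiv.orderOf_eq]
  obtain ⟨z, a, hz2, haW, has, hza⟩ : ∃ z a : T, orderOf z = 2 ∧ a ∈ invClosure y ∧ orderOf a = s ∧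
      z * a = a * z := by
    rcases hα α hαα with ⟨l, hl⟩ | ⟨x, hx, hfix⟩
    · set l' : T := ((E.symm l : invClosure y) : T) with hl'
      set h := l'⁻¹ * w with hh
      have hcen : ∀ b : T, b ∈ invClosure y → h * b = b * h := by
        intro b hb
        have h1 : cw ⟨b, hb⟩ = E.symm l * ⟨b, hb⟩ * (E.symm l)⁻¹ := by
          apply E.injective
          rw [map_mul, map_mul, map_inv, E.apply_symm_apply, ← hl]
          show E (cw ⟨b, hb⟩) = E (cw (E.symm (E ⟨b, hb⟩)))
          rw [E.symm_apply_apply]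
        have h2 : w * b * w = l' * b * l'⁻¹ := congrArg Subtype.val h1
        calc h * b = l'⁻¹ * (w * b * w) * w := by
              rw [hh, mul_assoc _ (w * b * w), mul_assoc (w * b) w, hww, mul_one, mul_assoc]
          _ = b * h := by rw [h2, hh]; group
      have hly : l'⁻¹ * y = y * l'⁻¹ :=
        (show Commute l' y from mem_C.1 (invClosure_le y (E.symm l).2)).inv_left.eq
      have hhy : h * y * h⁻¹ = y⁻¹ := by
        rw [hh, show l'⁻¹ * w * y * (l'⁻¹ * w)⁻¹ = l'⁻¹ * (w * y * w⁻¹) * l' by group, hwy]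
        rw [show l'⁻¹ * y⁻¹ * l' = (l'⁻¹ * y * l')⁻¹ by group, hly, inv_mul_cancel_right]
      have hodd : ∀ n : ℕ, h ^ (2 * n) * y = y * h ^ (2 * n) := by
        intro n
        rw [pow_mul]
        refine (Commute.pow_left (show Commute (h ^ 2) y from ?_) n).eq
        show h ^ 2 * y = y * h ^ 2
        rw [pow_two]
        refine mul_inv_eq_iff_eq_mul.1 ?_
        rw [show h * h * y * (h * h)⁻¹ = h * (h * y * h⁻¹) * h⁻¹ by group, hhy,
          show h * y⁻¹ * h⁻¹ = (h * y * h⁻¹)⁻¹ by group, hhy, inv_inv]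
      obtain ⟨i, m, hm, hord⟩ := Nat.exists_eq_two_pow_mul_odd (orderOf_pos h).ne'
      obtain ⟨m', rfl⟩ := hm
      set z₀ := h ^ (2 * m' + 1) with hz₀
      have hz₀y : z₀ * y * z₀⁻¹ = y⁻¹ := by
        rw [hz₀, pow_succ', show h * h ^ (2 * m') * y * (h * h ^ (2 * m'))⁻¹ =
          h * (h ^ (2 * m') * y * (h ^ (2 * m'))⁻¹) * h⁻¹ by group,
          mul_inv_eq_iff_eq_mul.2 (hodd m'), hhy]
      have hz₀ord : orderOf z₀ = 2 ^ i := by
        rw [hz₀, orderOf_pow, hord, Nat.gcd_eq_right (dvd_mul_left _ _), Nat.mul_div_cancel _ (by omega)]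
      have hz₀c : ∀ b : T, b ∈ invClosure y → z₀ * b = b * z₀ := fun b hb =>
        (Commute.pow_left (hcen b hb) _).eq
      rcases Nat.lt_or_ge i 2 with hi2 | hi2
      · interval_cases i
        · rw [pow_zero, orderOf_eq_one_iff] at hz₀ord
          rw [hz₀ord, one_mul, inv_one, mul_one] at hz₀y
          exact absurd hz₀y.symm c.y_ne_inv
        · exact ⟨z₀, (E.symm x₀ : invClosure y), hz₀ord, (E.symm x₀).2, (hEo x₀).trans hx₀,
            hz₀c _ (E.symm x₀).2⟩
      · exfalso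
        set z' := z₀ ^ 2 ^ (i - 1) with hz'
        have hz'2 : orderOf z' = 2 := by
          rw [hz', orderOf_pow, hz₀ord, Nat.gcd_eq_right (Nat.pow_dvd_pow 2 (Nat.sub_le i 1)),
            Nat.pow_div (Nat.sub_le i 1) two_pos, show i - (i - 1) = 1 by omega, pow_one]
        have hz'y : z' * y = y * z' := by
          rw [hz', hz₀, ← pow_mul, show (2 * m' + 1) * 2 ^ (i - 1) = 2 * ((2 * m' + 1) * 2 ^ (i - 2)) by
            rw [show 2 ^ (i - 1) = 2 * 2 ^ (i - 2) by rw [← pow_succ']; congr 1; omega]; ring]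
          exact hodd _
        exact hW2 z' _ (Subgroup.subset_closure ⟨hz'y, hz'2⟩) (E.symm x₀).2 hz'2 ((hEo x₀).trans hx₀)
          (Commute.pow_left (hz₀c _ (E.symm x₀).2) _).eq
    · refine ⟨w, (E.symm x : invClosure y), hw2, (E.symm x).2, (hEo x).trans hx, ?_⟩
      have h1 : cw (E.symm x) = E.symm x := by
        apply E.injective
        rw [E.apply_symm_apply]
        exact hfix
      have h2 : w * ((E.symm x : invClosure y) : T) * w = ((E.symm x : invClosure y) : T) :=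
        congrArg Subtype.val h1
      conv_rhs => rw [← h2]
      rw [mul_assoc, hww, mul_one]
  obtain ⟨g, hg⟩ := isConj_iff.1 (c.dih.fusion z t hz2 c.dih.ot)
  set b := g * a * g⁻¹ with hb
  have hbs : orderOf b = s := by rw [hb, show g * a * g⁻¹ = MulAut.conj g a from rfl, MulEquiv.orderOf_eq, has]
  have hbt : b * t = t * b := by
    rw [hb, ← hg, show g * a * g⁻¹ * (g * z * g⁻¹) = g * (a * z) * g⁻¹ by group, ← hza]; group
  have hbs' : b ^ s = 1 := hbs ▸ pow_orderOf_eq_one b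
  have hbO : b ∈ O := odd_mem c.dih hbt hso hbs'
  have hbC : b ∈ C := mem_C.2 (c.O_comm hbO)
  have hbL : b ∈ ι.range := by
    refine hmemL hbC (mem_of_odd_pow hi hso (Subtype.ext hbs')) (orderOf_dvd_iff_pow_eq_one.1 ?_)
    rw [hbs, ← hx₀, ← MulEquiv.orderOf_eq e.symm x₀]
    exact orderOf_dvd_natCard _
  exact hW2 t b (Subgroup.subset_closure ⟨t_comm c, c.dih.ot⟩) (hW ▸ hbL) c.dih.ot hbs hbt.symm

end Cfsg.Agent.CycSyl43RefCent86
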