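import Mathlib
import Cfsg.Agent.Lib.CycSyl43RefCent86

/-!
The configuration left by the solubility of `C(y)`: `|S| = 8`, the odd core is centralised by the
reflection, and `C(y)` has order `12 |O|`.
-/

set_option autoImplicit false

namespace Cfsg.Agent.CycSyl43RefLocal86

open CycSyl43 CycSyl43RefBasic86 CycSyl43RefCent86

universe u

variable {T : Type u} [Group T] [Finite T] {S : Sylow 2 T} {t : T} {O : Subgroup T} {σ : T} {k : ℕ}
  {y u₀ : T}

/-- An `S`-invariant subgroup of odd order is centralised by `t`. -/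
theorem odd_fixed (c : Ctx S t O σ k y u₀) (hodd : OddCyclic T) :
    ∀ (n : ℕ) (A : Subgroup T), Nat.card A ≤ n → Odd (Nat.card A) →
      (∀ s ∈ (S : Subgroup T), ∀ a ∈ A, s * a * s⁻¹ ∈ A) → ∀ a ∈ A, t * a = a * t := by
  intro n
  induction n with
  | zero => intro A hA; have := Nat.card_pos (α := A); omega
  | succ n ih =>
    intro A hA hAo hAS a ha
    haveI hz : IsZGroup A := ⟨fun p hp P => by
      haveI : Fact p.Prime := ⟨hp⟩
      by_cases hp2 : p = 2
      · subst hp2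
        have h1 : Nat.card P = 1 := by
          obtain ⟨i, hi⟩ := IsPGroup.iff_card.1 P.isPGroup'
          have hd := Subgroup.card_subgroup_dvd_card (P : Subgroup A)
          rcases Nat.eq_zero_or_pos i with rfl | hpos
          · simpa using hi
          · rw [hi] at hd
            exact absurd ((dvd_pow_self 2 hpos.ne').trans hd) (Nat.two_dvd_ne_zero.2 (Nat.odd_iff.1 hAo))
        haveI := (Nat.card_eq_one_iff_unique.1 h1).1
        exact isCyclic_of_subsingleton
      · exact oddCyclic_sub hodd A p hp hp2 P⟩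
    rcases eq_or_ne A ⊥ with rfl | hne
    · rw [Subgroup.mem_bot.1 ha, one_mul, mul_one]
    haveI : Nontrivial A := (Subgroup.nontrivial_iff_ne_bot A).2 hne
    set A' := ⁅A, A⁆ with hA'
    have hmap : A' = (commutator A).map A.subtype := (Subgroup.map_subtype_commutator A).symm
    have hlt : Nat.card A' < Nat.card A := by
      rw [hmap, Subgroup.card_map_of_injective A.subtype_injective]
      refine lt_of_le_of_ne (Subgroup.card_le_card_group _) fun e => ?_
      exact (Group.IsSolvable.commutator_lt_top_of_nontrivial (G := A)).ne (Subgroup.eq_top_of_card_eq _ e)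
    have hle : A' ≤ A := by rw [hmap]; exact Subgroup.map_subtype_le _
    have hA'S : ∀ s ∈ (S : Subgroup T), ∀ x ∈ A', s * x * s⁻¹ ∈ A' := by
      intro s hs x hx
      have hm : A.map (MulAut.conj s).toMonoidHom ≤ A := by
        rintro _ ⟨b, hb, rfl⟩; exact hAS s hs b hb
      have := Subgroup.commutator_mono hm hm
      rw [← Subgroup.map_commutator] at this
      exact this ⟨x, hx, rfl⟩
    have hA'o : Odd (Nat.card A') := hAo.of_dvd_nat (Subgroup.card_dvd_of_le hle)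
    have hfix := ih A' (by omega) hA'o hA'S
    haveI : IsCyclic (Abelianization A) := inferInstance
    -- the action of `S` on the abelianisation
    let f : ∀ s ∈ (S : Subgroup T), A →* A := fun s hs =>
      { toFun := fun b => ⟨s * b * s⁻¹, hAS s hs b b.2⟩
        map_one' := Subtype.ext (by show s * ((1 : A) : T) * s⁻¹ = 1; rw [Subgroup.coe_one]; group)
        map_mul' := fun b b' => Subtype.ext (by show s * ((b : T) * b') * s⁻¹ = _; push_cast; group) }
    have hcomm : ∀ (F G : Abelianization A →* Abelianization A) (g : Abelianization A), F (G g) = G (F g) := by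
      intro F G g
      obtain ⟨i, hi⟩ := F.map_cyclic
      rw [hi, hi, map_zpow]
    obtain ⟨q, hq, hq1, -⟩ := quarter c.dih c.shp c.hu c.hu2 c.hut
    have htq : t = q * u₀ * q⁻¹ * u₀⁻¹ := by rw [hq1]; group
    have hkey : Abelianization.of (f t c.dih.mem ⟨a, ha⟩) = Abelianization.of (⟨a, ha⟩ : A) := by
      have e1 : f t c.dih.mem ⟨a, ha⟩ =
          f q hq (f u₀ c.hu (f q⁻¹ (inv_mem hq) (f u₀⁻¹ (inv_mem c.hu) ⟨a, ha⟩))) := by
        apply Subtype.ext
        show t * a * t⁻¹ = q * (u₀ * (q⁻¹ * (u₀⁻¹ * a * u₀⁻¹⁻¹) * q⁻¹⁻¹) * u₀⁻¹) * q⁻¹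
        rw [htq]; group
      have hof : ∀ (g : A →* A) (b : A), Abelianization.of (g b) = Abelianization.map g (Abelianization.of b) :=
        fun g b => (Abelianization.map_of g b).symm
      rw [e1, hof, hof, hcomm (Abelianization.map (f q hq)) (Abelianization.map (f u₀ c.hu)), ← hof, ← hof]
      congr 1
      apply Subtype.ext
      show u₀ * (q * (q⁻¹ * (u₀⁻¹ * a * u₀⁻¹⁻¹) * q⁻¹⁻¹) * q⁻¹) * u₀⁻¹ = a
      group
    have hmem : (⟨a, ha⟩ : A)⁻¹ * f t c.dih.mem ⟨a, ha⟩ ∈ commutator A := by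
      rw [← Abelianization.ker_of, MonoidHom.mem_ker, map_mul, map_inv, hkey, inv_mul_cancel]
    have hc' : a⁻¹ * (t * a * t⁻¹) ∈ A' := by
      rw [hmap]; exact ⟨_, hmem, rfl⟩
    set d := a⁻¹ * (t * a * t⁻¹) with hd
    have hti : t⁻¹ = t := inv_eq_of_mul_eq_one_right (mul_self_of c.dih.ot)
    have htd : t * d * t = d := by rw [hfix d hc', mul_assoc, mul_self_of c.dih.ot, mul_one]
    have hdd : d * d = 1 := by
      have h1 : d * (t * d * t⁻¹) = 1 := by
        rw [hd]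
        calc a⁻¹ * (t * a * t⁻¹) * (t * (a⁻¹ * (t * a * t⁻¹)) * t⁻¹) = a⁻¹ * ((t * t) * a * (t * t)⁻¹) := by
              group
          _ = 1 := by rw [mul_self_of c.dih.ot]; group
      rwa [hti, htd] at h1
    have hd1 : d = 1 := eq_one_of_sq hA'o
      (congrArg Subtype.val (pow_card_eq_one' (x := (⟨d, hc'⟩ : A')))) hdd
    rw [hd, inv_mul_eq_one] at hd1
    exact mul_inv_eq_iff_eq_mul.1 hd1.symm

/-- Involutions centralising `y` commute. -/
theorem invol_comm (c : Ctx S t O σ k y u₀) (hA : Assembly.{u}) (hm : CycSyl43.Min T) {a b : T}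
    (hay : a * y = y * a) (ha : orderOf a = 2) (hby : b * y = y * b) (hb : orderOf b = 2) :
    a * b = b * a := by
  haveI := solvable c hA hm
  set W := invClosure y with hW
  haveI : Group.IsSolvable W :=
    solvable_of_solvable_injective (Subgroup.inclusion_injective (invClosure_le y))
  have htW : t ∈ W := Subgroup.subset_closure ⟨t_comm c, c.dih.ot⟩
  haveI : Nontrivial W := ⟨⟨t, htW⟩, 1, fun e => ne_one_of_two c.dih.ot (congrArg Subtype.val e)⟩
  have hmap : ⁅W, W⁆ = (commutator W).map W.subtype := (Subgroup.map_subtype_commutator W).symm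
  have hconj : ∀ g ∈ pm y, ∀ x ∈ ⁅W, W⁆, g * x * g⁻¹ ∈ ⁅W, W⁆ := by
    intro g hg x hx
    have := Subgroup.commutator_mono (invClosure_map hg) (invClosure_map hg)
    rw [← Subgroup.map_commutator] at this
    exact this ⟨x, hx, rfl⟩
  have hWodd : Odd (Nat.card (⁅W, W⁆ : Subgroup T)) := by
    by_contra hev
    haveI : Fact (Nat.Prime 2) := ⟨Nat.prime_two⟩
    obtain ⟨x, hx⟩ := exists_prime_orderOf_dvd_card' (G := ↥(⁅W, W⁆ : Subgroup T)) 2
      (even_iff_two_dvd.1 (Nat.not_odd_iff_even.1 hev))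
    have hxW : (x : T) ∈ W := by
      exact Subgroup.map_subtype_le _ (le_of_eq hmap x.2)
    have hxy : (x : T) * y = y * x := mem_C.1 (invClosure_le y hxW)
    obtain ⟨h, hhy, hh⟩ := invol_conj c hxy ((Subgroup.orderOf_coe x).trans hx)
    have ht' : t ∈ ⁅W, W⁆ := hh ▸ hconj h (cent_le_pm y (mem_C.2 hhy)) _ x.2
    have hle : W ≤ ⁅W, W⁆ := by
      rw [hW, invClosure, Subgroup.closure_le]
      rintro z ⟨hzy, hz2⟩
      obtain ⟨g, hgy, hg⟩ := invol_conj c hzy hz2
      have := hconj g⁻¹ (inv_mem (cent_le_pm y (mem_C.2 hgy))) t ht'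
      rwa [← hg, show g⁻¹ * (g * z * g⁻¹) * g⁻¹⁻¹ = z by group] at this
    refine (Group.IsSolvable.commutator_lt_top_of_nontrivial (G := W)).ne (eq_top_iff.2 fun w _ => ?_)
    have := hle w.2
    rw [hmap] at this
    obtain ⟨w', hw', e⟩ := this
    exact (Subtype.ext e : w' = w) ▸ hw'
  have hSW : ∀ s ∈ (S : Subgroup T), ∀ x ∈ ⁅W, W⁆, s * x * s⁻¹ ∈ ⁅W, W⁆ :=
    fun s hs => hconj s (c.sgn hs)
  have hfix := odd_fixed c hm.hodd _ _ le_rfl hWodd hSW
  have hall : ∀ z : T, z * y = y * z → orderOf z = 2 → ∀ x ∈ ⁅W, W⁆, z * x = x * z := by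
    intro z hzy hz2 x hx
    obtain ⟨g, hgy, hg⟩ := invol_conj c hzy hz2
    have h1 := hfix _ (hconj g (cent_le_pm y (mem_C.2 hgy)) x hx)
    rw [← hg] at h1
    have h2 : g * (z * x) * g⁻¹ = g * (x * z) * g⁻¹ := by
      calc g * (z * x) * g⁻¹ = g * z * g⁻¹ * (g * x * g⁻¹) := by group
        _ = _ := by rw [h1]; group
    exact mul_left_cancel (mul_right_cancel h2)
  set d := a * b * a⁻¹ * b⁻¹ with hd
  have hdm : d ∈ ⁅W, W⁆ := by
    rw [hd, ← commutatorElement_def]
    exact Subgroup.commutator_mem_commutator (Subgroup.subset_closure ⟨hay, ha⟩)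
      (Subgroup.subset_closure ⟨hby, hb⟩)
  have haa := mul_self_of ha
  have hai : a⁻¹ = a := inv_eq_of_mul_eq_one_right haa
  have hbi : b⁻¹ = b := inv_eq_of_mul_eq_one_right (mul_self_of hb)
  have h1 : a * d * a = d := by rw [hall a hay ha d hdm, mul_assoc, haa, mul_one]
  have h2 : a * d * a = d⁻¹ := by
    rw [hd, hai, hbi]
    calc a * (a * b * a * b) * a = (a * a) * b * a * b * a := by group
      _ = b * a * b * a := by rw [haa, one_mul]
      _ = (a⁻¹ * b⁻¹ * a⁻¹ * b⁻¹)⁻¹ := by group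
      _ = _ := by rw [hai, hbi]
  have hd1 : d = 1 := eq_one_of_sq hWodd
    (congrArg Subtype.val (pow_card_eq_one' (x := (⟨d, hdm⟩ : ↥(⁅W, W⁆ : Subgroup T)))))
    (by nth_rewrite 2 [h1.symm.trans h2]; rw [mul_inv_cancel])
  rw [hd, mul_inv_eq_one, mul_inv_eq_iff_eq_mul] at hd1
  exact hd1

/-- The order of a subgroup as orbit times stabiliser. -/
theorem card_orbit (C : Subgroup T) (a : T) :
    Nat.card C = Nat.card {x : T // ∃ g ∈ C, g * a * g⁻¹ = x} *
      Nat.card (C ⊓ Subgroup.centralizer ({a} : Set T) : Subgroup T) := by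
  set M := (C ⊓ Subgroup.centralizer ({a} : Set T)).subgroupOf C with hM
  rw [← Subgroup.index_mul_card M, Nat.card_congr (Subgroup.subgroupOfEquivOfLe (inf_le_left)).toEquiv]
  congr 1
  have hrel : ∀ g g' : C, (g : T) * a * (g : T)⁻¹ = (g' : T) * a * (g' : T)⁻¹ ↔
      QuotientGroup.leftRel M g g' := by
    intro g g'
    rw [QuotientGroup.leftRel_apply, hM, Subgroup.mem_subgroupOf, Subgroup.mem_inf,
      Subgroup.mem_centralizer_singleton_iff]
    push_cast
    constructor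
    · intro e
      refine ⟨mul_mem (inv_mem g.2) g'.2, ?_⟩
      calc (g : T)⁻¹ * g' * a = (g : T)⁻¹ * ((g' : T) * a * (g' : T)⁻¹) * g' := by group
        _ = _ := by rw [← e]; group
    · rintro ⟨-, e⟩
      calc (g : T) * a * (g : T)⁻¹ = (g : T) * (a * ((g : T)⁻¹ * g')) * (g' : T)⁻¹ := by group
        _ = _ := by rw [← e]; group
  refine Nat.card_congr (Equiv.ofBijective
    (Quotient.lift (fun g : C => (⟨(g : T) * a * (g : T)⁻¹, g, g.2, rfl⟩ :
      {x : T // ∃ g ∈ C, g * a * g⁻¹ = x})) fun g g' h => Subtype.ext ((hrel g g').2 h)) ⟨?_, ?_⟩)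
  · rintro ⟨g⟩ ⟨g'⟩ h
    exact Quotient.sound ((hrel g g').1 (congrArg Subtype.val h))
  · rintro ⟨x, g, hg, rfl⟩
    exact ⟨⟦⟨g, hg⟩⟧, rfl⟩

/-- A subgroup of `C(t)` containing `O` is `O` times its part in `S`. -/
theorem card_split (h : Dih S t O) (M : Subgroup T) (hO : O ≤ M)
    (hle : M ≤ Subgroup.centralizer ({t} : Set T)) :
    Nat.card M = Nat.card O * Nat.card ((S : Subgroup T) ⊓ M : Subgroup T) := by
  rw [← Nat.card_prod]
  refine (Nat.card_congr (Equiv.ofBijective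
    (fun x : O × ((S : Subgroup T) ⊓ M : Subgroup T) => (⟨(x.1 : T) * x.2, mul_mem (hO x.1.2) x.2.2.2⟩ : M))
    ⟨?_, ?_⟩)).symm
  · rintro ⟨⟨o, ho⟩, ⟨s, hs⟩⟩ ⟨⟨o', ho'⟩, ⟨s', hs'⟩⟩ e
    obtain ⟨rfl, rfl⟩ := unique h ho ho' hs.1 hs'.1 (congrArg Subtype.val e)
    rfl
  · rintro ⟨m, hm⟩
    obtain ⟨o, ho, s, hs, rfl⟩ := h.cent m (hle hm)
    have hsM : s ∈ M := by
      have := mul_mem (inv_mem (hO ho)) hm
      rwa [inv_mul_cancel_left] at this
    exact ⟨⟨⟨o, ho⟩, ⟨s, hs, hsM⟩⟩, rfl⟩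

/-- The four-group. -/
def four (t u₀ : T) : Set T := {1, t, u₀, t * u₀}

variable (c : Ctx S t O σ k y u₀) (hA : Assembly.{u}) (hm : CycSyl43.Min T)
include c

theorem four_distinct : Set.ncard (four t u₀) = 4 ∧ Set.ncard ({t, u₀, t * u₀} : Set T) = 3 := by
  classical
  have h1 := ne_one_of_two c.dih.ot
  have h2 := ne_one_of_two c.hu2
  have h3 : t ≠ t * u₀ := fun e => h2 (by simpa using e)
  have h4 : u₀ ≠ t * u₀ := fun e => h1 (by simpa using e)
  have h5 : (1 : T) ≠ t * u₀ := fun e => c.hut (by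
    rw [eq_comm, mul_eq_one_iff_inv_eq, inv_eq_of_mul_eq_one_right (mul_self_of c.dih.ot)] at e
    exact e.symm)
  constructor
  · rw [four, Set.ncard_eq_toFinset_card']
    simp [h1.symm, h2.symm, c.hut.symm, h3, h4, h5]
  · rw [Set.ncard_eq_toFinset_card']
    simp [c.hut.symm, h3, h4]

include hA hm

theorem inv_cases {z : T} (hz : z * y = y * z) (hz2 : orderOf z = 2) :
    z = t ∨ z = u₀ ∨ z = t * u₀ := by
  obtain ⟨o, ho, hou, v, hv, rfl⟩ := cent_four c.dih c.shp c.hu c.hu2 c.hut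
    (invol_comm c hA hm hz hz2 (t_comm c) c.dih.ot) (invol_comm c hA hm hz hz2 c.comm c.hu2)
  have hot := memO c.dih ho
  have htu : t * u₀ = u₀ * t := (c.dih.central u₀ c.hu).symm
  have hvv : v * v = 1 ∧ v * o = o * v ∧ v ∈ (S : Subgroup T) := by
    rcases hv with rfl | rfl | rfl | rfl
    · exact ⟨one_mul 1, by simp, one_mem _⟩
    · exact ⟨mul_self_of c.dih.ot, hot.symm, c.dih.mem⟩
    · exact ⟨mul_self_of c.hu2, hou.symm, c.hu⟩
    · refine ⟨?_, ((show Commute t o from hot.symm).mul_left hou.symm).eq, mul_mem c.dih.mem c.hu⟩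
      nth_rewrite 2 [htu]
      rw [← mul_assoc, mul_assoc t u₀ u₀, mul_self_of c.hu2, mul_one, mul_self_of c.dih.ot]
  have ho1 : o = 1 := by
    refine eq_one_of_sq c.dih.odd (pow_card_O ho) ((unique c.dih (mul_mem ho ho) (one_mem O)
      (mul_mem hvv.2.2 hvv.2.2) (one_mem _) ?_).1)
    rw [one_mul, ← mul_self_of hz2, mul_assoc o v, ← mul_assoc v o, hvv.2.1]
    group
  subst ho1
  rw [one_mul] at hz2 ⊢
  rcases hv with rfl | h
  · exact absurd rfl (ne_one_of_two hz2)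
  · exact h

theorem k_eq : k = 2 := by
  have hs : σ * σ * u₀ ∈ (S : Subgroup T) := mul_mem (mul_mem c.shp.mem c.shp.mem) c.hu
  have hn : σ * σ * u₀ ∉ Subgroup.zpowers σ := fun h => not_rot c.shp c.hu c.hu2 c.hut (by
    have := mul_mem (inv_mem (mul_mem (Subgroup.mem_zpowers σ) (Subgroup.mem_zpowers σ))) h
    rwa [inv_mul_cancel_left] at this)
  have h2 : orderOf (σ * σ * u₀) = 2 :=
    order_two ((c.shp.dicho _ hs).resolve_left hn).1 fun e => hn (e ▸ one_mem _)
  have hy : σ * σ * u₀ * y = y * (σ * σ * u₀) := by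
    refine mul_inv_eq_iff_eq_mul.1 ?_
    rw [show σ * σ * u₀ * y * (σ * σ * u₀)⁻¹ = σ * (σ * (u₀ * y * u₀⁻¹) * σ⁻¹) * σ⁻¹ by group,
      mul_inv_eq_iff_eq_mul.2 c.comm, c.sigma_inv, show σ * y⁻¹ * σ⁻¹ = (σ * y * σ⁻¹)⁻¹ by group,
      c.sigma_inv, inv_inv]
  have hk := c.shp.two_le
  have hpos : 4 ≤ 2 ^ k := le_trans (by norm_num) (Nat.pow_le_pow_right two_pos hk)
  rcases inv_cases c hA hm hy h2 with e | e | e
  · exact absurd (e ▸ c.shp.pow_half ▸ Subgroup.pow_mem _ (Subgroup.mem_zpowers σ) _) hn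
  · exfalso
    have h1 : σ ^ 2 = 1 := by rw [pow_two]; exact mul_right_cancel (b := u₀) (by rw [one_mul]; exact e)
    have := Nat.le_of_dvd two_pos (orderOf_dvd_of_pow_eq_one h1)
    rw [c.shp.order] at this
    omega
  · have h1 : σ ^ 2 = σ ^ 2 ^ (k - 1) := by rw [c.shp.pow_half, pow_two]; exact mul_right_cancel e
    have hlt : 2 ^ (k - 1) < orderOf σ := by
      rw [c.shp.order]; exact Nat.pow_lt_pow_right (by norm_num) (by omega)
    have h3 := pow_injOn_Iio_orderOf (x := σ) (show 2 ∈ Set.Iio (orderOf σ) by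
      rw [Set.mem_Iio, c.shp.order]; omega) hlt h1
    have : k - 1 = 1 := Nat.pow_right_injective le_rfl (show 2 ^ (k - 1) = 2 ^ 1 by omega)
    omega

theorem card_S : Nat.card (S : Subgroup T) = 8 := by
  rw [c.shp.card, k_eq c hA hm]
  rfl

theorem O_fix {o : T} (ho : o ∈ O) : o * u₀ = u₀ * o := by
  have hoy := c.O_comm ho
  have h2 : orderOf (o * u₀ * o⁻¹) = 2 := (MulEquiv.orderOf_eq (MulAut.conj o) u₀).trans c.hu2
  have hy' : o * u₀ * o⁻¹ * y = y * (o * u₀ * o⁻¹) :=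
    (((show Commute o y from hoy).mul_left c.comm).mul_left (show Commute o y from hoy).inv_left).eq
  have hot : o * t * o⁻¹ = t := by rw [memO c.dih ho, mul_inv_cancel_right]
  rcases inv_cases c hA hm hy' h2 with e | e | e
  · exfalso
    refine c.hut ((MulAut.conj o).injective ?_)
    show o * u₀ * o⁻¹ = o * t * o⁻¹
    rw [e, hot]
  · exact mul_inv_eq_iff_eq_mul.1 e
  · have h3 : Commute (o ^ 2) u₀ := by
      refine mul_inv_eq_iff_eq_mul.1 ?_
      rw [pow_two, show o * o * u₀ * (o * o)⁻¹ = o * (o * u₀ * o⁻¹) * o⁻¹ by group, e,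
        show o * (t * u₀) * o⁻¹ = (o * t * o⁻¹) * (o * u₀ * o⁻¹) by group, hot, e, ← mul_assoc,
        mul_self_of c.dih.ot, one_mul]
    obtain ⟨l, hl⟩ := c.dih.odd
    have h4 : o = (o ^ 2) ^ (l + 1) := by
      rw [← pow_mul, show 2 * (l + 1) = Nat.card O + 1 by omega, pow_succ, pow_card_O ho, one_mul]
    rw [h4]
    exact (h3.pow_left _).eq

theorem sigma_sq : σ * σ = t := by
  have := c.shp.pow_half
  rw [k_eq c hA hm] at this
  rw [← pow_two]
  exact this

/-- The rotations inverting `y`. -/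
theorem rot_cases {s : T} (hs : s ∈ Subgroup.zpowers σ) :
    (s * y * s⁻¹ = y ∧ (s = 1 ∨ s = t)) ∨ (s * y * s⁻¹ = y⁻¹ ∧ (s = σ ∨ s = t * σ)) := by
  obtain ⟨i, rfl⟩ := hs
  have ht2 : ∀ j : ℤ, t ^ j = 1 ∨ t ^ j = t := fun j => by
    rcases Int.even_or_odd' j with ⟨m, rfl | rfl⟩
    · left; rw [zpow_mul, zpow_two, mul_self_of c.dih.ot, one_zpow]
    · right; rw [zpow_add, zpow_mul, zpow_two, mul_self_of c.dih.ot, one_zpow, one_mul, zpow_one]
  have htj : ∀ j : ℤ, t ^ j * y * (t ^ j)⁻¹ = y := fun j =>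
    mul_inv_eq_iff_eq_mul.2 ((show Commute t y from t_comm c).zpow_left j).eq
  rcases Int.even_or_odd' i with ⟨j, rfl | rfl⟩
  · left
    show σ ^ (2 * j) * y * (σ ^ (2 * j))⁻¹ = y ∧ (σ ^ (2 * j) = 1 ∨ σ ^ (2 * j) = t)
    rw [zpow_mul, zpow_two, sigma_sq c hA hm]
    exact ⟨htj j, ht2 j⟩
  · right
    show σ ^ (2 * j + 1) * y * (σ ^ (2 * j + 1))⁻¹ = y⁻¹ ∧ (σ ^ (2 * j + 1) = σ ∨ σ ^ (2 * j + 1) = t * σ)
    rw [zpow_add, zpow_mul, zpow_two, sigma_sq c hA hm, zpow_one]
    refine ⟨?_, ?_⟩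
    · rw [show t ^ j * σ * y * (t ^ j * σ)⁻¹ = t ^ j * (σ * y * σ⁻¹) * (t ^ j)⁻¹ by group, c.sigma_inv,
        show t ^ j * y⁻¹ * (t ^ j)⁻¹ = (t ^ j * y * (t ^ j)⁻¹)⁻¹ by group, htj]
    · rcases ht2 j with e | e <;> rw [e]
      · exact Or.inl (one_mul σ)
      · exact Or.inr rfl

theorem S_inf_C (s : T) (hs : s ∈ (S : Subgroup T)) : s * y = y * s ↔ s ∈ four t u₀ := by
  constructor
  · intro hsy
    by_cases hr : s ∈ Subgroup.zpowers σ
    · rcases rot_cases c hA hm hr with ⟨-, h⟩ | ⟨h, -⟩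
      · rcases h with rfl | rfl <;> simp [four]
      · exact absurd (h.symm.trans (mul_inv_eq_iff_eq_mul.2 hsy)) c.y_ne_inv
    · have h2 : orderOf s = 2 := order_two ((c.shp.dicho s hs).resolve_left hr).1 fun e => hr (e ▸ one_mem _)
      rcases inv_cases c hA hm hsy h2 with rfl | rfl | rfl <;> simp [four]
  · intro h
    simp only [four, Set.mem_insert_iff, Set.mem_singleton_iff] at h
    rcases h with rfl | rfl | rfl | rfl
    · simp
    · exact t_comm c
    · exact c.comm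
    · exact ((show Commute t y from t_comm c).mul_left c.comm).eq

theorem card_Ct : Nat.card (Subgroup.centralizer ({t} : Set T)) = 8 * Nat.card O := by
  rw [card_split c.dih _ c.dih.le le_rfl, inf_eq_left.2 (fun s hs => memS c.dih hs), card_S c hA hm,
    mul_comm]

theorem card_Ctu : Nat.card (Subgroup.centralizer ({t, u₀} : Set T)) = 4 * Nat.card O := by
  set M := Subgroup.centralizer ({t, u₀} : Set T) with hM
  have hmem : ∀ x, x ∈ M ↔ x * t = t * x ∧ x * u₀ = u₀ * x := fun x => by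
    rw [hM, Subgroup.mem_centralizer_iff]
    refine ⟨fun h => ⟨(h t (by simp)).symm, (h u₀ (by simp)).symm⟩, fun h g hg => ?_⟩
    rcases hg with rfl | rfl
    exacts [h.1.symm, h.2.symm]
  rw [card_split c.dih M (fun o ho => (hmem o).2 ⟨memO c.dih ho, O_fix c hA hm ho⟩)
    (fun x hx => mem_cent_iff.2 ((hmem x).1 hx).1), mul_comm (4 : ℕ)]
  congr 1
  have : (((S : Subgroup T) ⊓ M : Subgroup T) : Set T) = four t u₀ := by
    ext s
    constructor
    · rintro ⟨hs, hsM⟩
      have := c.shp.cent u₀ c.hu (not_rot c.shp c.hu c.hu2 c.hut) s hs ((hmem s).1 hsM).2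
      simpa [four] using this
    · intro h
      simp only [four, Set.mem_insert_iff, Set.mem_singleton_iff] at h
      have htu := (c.dih.central u₀ c.hu).symm
      rcases h with rfl | rfl | rfl | rfl
      · exact one_mem _
      · exact ⟨c.dih.mem, (hmem _).2 ⟨rfl, htu⟩⟩
      · exact ⟨c.hu, (hmem _).2 ⟨htu.symm, rfl⟩⟩
      · exact ⟨mul_mem c.dih.mem c.hu, (hmem _).2
          ⟨((Commute.refl t).mul_left (show Commute u₀ t from htu.symm)).eq,
           ((show Commute t u₀ from htu).mul_left (Commute.refl u₀)).eq⟩⟩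
  rw [← SetLike.coe_sort_coe, this, Nat.card_coe_set_eq, (four_distinct c).1]

theorem card_C : Nat.card (Subgroup.centralizer ({y} : Set T)) = 12 * Nat.card O := by
  set C := Subgroup.centralizer ({y} : Set T) with hC
  rw [card_orbit C t]
  have h1 : {x : T | ∃ g ∈ C, g * t * g⁻¹ = x} = {t, u₀, t * u₀} := by
    ext x
    constructor
    · rintro ⟨g, hg, rfl⟩
      have hgy : Commute g y := mem_C.1 hg
      rcases inv_cases c hA hm ((hgy.mul_left (t_comm c)).mul_left hgy.inv_left).eq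
        ((MulEquiv.orderOf_eq (MulAut.conj g) t).trans c.dih.ot) with e | e | e <;> simp [e]
    · intro hx
      simp only [Set.mem_insert_iff, Set.mem_singleton_iff] at hx
      obtain ⟨h, hhy, h1, h2⟩ := c.fus
      rcases hx with rfl | rfl | rfl
      · exact ⟨1, one_mem _, by group⟩
      · exact ⟨h, mem_C.2 hhy, h1⟩
      · refine ⟨h * h, mul_mem (mem_C.2 hhy) (mem_C.2 hhy), ?_⟩
        rw [show h * h * t * (h * h)⁻¹ = h * (h * t * h⁻¹) * h⁻¹ by group, h1, h2]
  have h2 : Nat.card {x : T // ∃ g ∈ C, g * t * g⁻¹ = x} = 3 := by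
    rw [← (four_distinct c).2, ← h1, ← Nat.card_coe_set_eq]
    rfl
  rw [h2, card_split c.dih _ (fun o ho => Subgroup.mem_inf.2 ⟨mem_C.2 (c.O_comm ho), c.dih.le ho⟩)
    inf_le_right]
  have h3 : (((S : Subgroup T) ⊓ (C ⊓ Subgroup.centralizer ({t} : Set T)) : Subgroup T) : Set T) = four t u₀ := by
    ext s
    constructor
    · rintro ⟨hs, hsC, -⟩
      exact (S_inf_C c hA hm s hs).1 (mem_C.1 hsC)
    · intro h
      have hs : s ∈ (S : Subgroup T) := by
        simp only [four, Set.mem_insert_iff, Set.mem_singleton_iff] at h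
        rcases h with rfl | rfl | rfl | rfl
        exacts [one_mem _, c.dih.mem, c.hu, mul_mem c.dih.mem c.hu]
      exact ⟨hs, mem_C.2 ((S_inf_C c hA hm s hs).2 h), memS c.dih hs⟩
  rw [← SetLike.coe_sort_coe ((S : Subgroup T) ⊓ (C ⊓ Subgroup.centralizer ({t} : Set T))), h3,
    Nat.card_coe_set_eq, (four_distinct c).1]
  ring

/-- The outer involution does not commute with `u₀`. -/
theorem w_u : σ * u₀ * u₀ ≠ u₀ * (σ * u₀) ∧ u₀ * (σ * u₀) * u₀⁻¹ = t * (σ * u₀) := by
  have hinv := ((c.shp.dicho u₀ c.hu).resolve_left (not_rot c.shp c.hu c.hu2 c.hut)).2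
  have hσi : σ⁻¹ = t * σ := by
    refine inv_eq_of_mul_eq_one_right ?_
    rw [← mul_assoc, ← c.dih.central σ c.shp.mem |>.symm, mul_assoc, sigma_sq c hA hm,
      mul_self_of c.dih.ot]
  have e : u₀ * (σ * u₀) * u₀⁻¹ = t * (σ * u₀) := by
    rw [show u₀ * (σ * u₀) * u₀⁻¹ = (u₀ * σ * u₀⁻¹) * u₀ by group, hinv, hσi, mul_assoc]
  refine ⟨fun h => ne_one_of_two c.dih.ot ?_, e⟩
  rw [← h, mul_inv_cancel_right] at e
  simpa using e

theorem w_cent {g : T} (hg : g * y = y * g) (hw : g * (σ * u₀) = σ * u₀ * g) : g = 1 ∨ g = t := by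
  obtain ⟨hwS, -, hwn, -⟩ := w_facts c
  have hne := (w_u c hA hm).1
  have hwt := c.dih.central _ hwS
  have hgt : g * t = t * g := by
    refine mul_inv_eq_iff_eq_mul.1 ?_
    have h1 : g * t * g⁻¹ * (σ * u₀) = σ * u₀ * (g * t * g⁻¹) :=
      (((show Commute g (σ * u₀) from hw).mul_left hwt.symm).mul_left
        (show Commute g (σ * u₀) from hw).inv_left).eq
    have hgy : Commute g y := hg
    rcases inv_cases c hA hm ((hgy.mul_left (t_comm c)).mul_left hgy.inv_left).eq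
      ((MulEquiv.orderOf_eq (MulAut.conj g) t).trans c.dih.ot) with e | e | e
    · exact e
    · exact absurd (e ▸ h1).symm hne
    · exfalso
      rw [e] at h1
      have h2 : t * u₀ * (σ * u₀) = t * (σ * u₀ * u₀) := by
        rw [h1, ← mul_assoc, hwt, mul_assoc]
      rw [mul_assoc] at h2
      exact hne (mul_left_cancel h2).symm
  obtain ⟨o, ho, s, hs, rfl⟩ := c.dih.cent g (mem_cent_iff.2 hgt)
  obtain ⟨e1, e2⟩ := comm_split c.dih ho hs hwS hw
  have ho1 : o = 1 := by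
    refine c.str.fixed o ho fun s' hs' => ?_
    have hu' : Commute u₀ o := (O_fix c hA hm ho).symm
    have hσ : Commute σ o := by
      have := (show Commute (σ * u₀) o from e2.symm).mul_left hu'
      rwa [mul_assoc, mul_self_of c.hu2, mul_one] at this
    have hz : ∀ x ∈ Subgroup.zpowers σ, Commute x o := by
      rintro _ ⟨i, rfl⟩; exact hσ.zpow_left i
    by_cases hr : s' ∈ Subgroup.zpowers σ
    · exact hz s' hr
    · have := (hz _ (c.shp.refl_mul s' hs' u₀ c.hu hr (not_rot c.shp c.hu c.hu2 c.hut))).mul_left hu'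
      rw [mul_assoc, mul_self_of c.hu2, mul_one] at this
      exact this.eq
  subst ho1
  rw [one_mul] at hg ⊢
  have := (S_inf_C c hA hm s hs).1 hg
  simp only [four, Set.mem_insert_iff, Set.mem_singleton_iff] at this
  rcases this with h | h | h | h
  · exact Or.inl h
  · exact Or.inr h
  · exact absurd (h ▸ e1).symm hne
  · exfalso
    rw [h] at e1
    have h2 : t * u₀ * (σ * u₀) = t * (σ * u₀ * u₀) := by
      rw [e1, ← mul_assoc, hwt, mul_assoc]
    rw [mul_assoc] at h2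
    exact hne (mul_left_cancel h2).symm

theorem card_pm : Nat.card (pm y) = 24 * Nat.card O := by
  set C := Subgroup.centralizer ({y} : Set T) with hC
  have hw : σ * u₀ ∈ pm y := Or.inr (w_facts c).2.2.2
  have hi : (C.subgroupOf (pm y)).index = 2 := by
    rw [Subgroup.index_eq_two_iff]
    refine ⟨⟨σ * u₀, hw⟩, fun b => ?_⟩
    have hwy := (w_facts c).2.2.2
    have hmem : ∀ g : pm y, g ∈ C.subgroupOf (pm y) ↔ (g : T) * y * (g : T)⁻¹ = y := fun g => by
      rw [Subgroup.mem_subgroupOf, hC, mem_C, mul_inv_eq_iff_eq_mul]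
    simp only [hmem, Subgroup.coe_mul]
    rw [show (b : T) * (σ * u₀) * y * ((b : T) * (σ * u₀))⁻¹ = (b : T) * (σ * u₀ * y * (σ * u₀)⁻¹) * (b : T)⁻¹ by
      group, hwy, show (b : T) * y⁻¹ * (b : T)⁻¹ = ((b : T) * y * (b : T)⁻¹)⁻¹ by group]
    rcases b.2 with e | e <;> rw [e] <;> simp [Xor', c.y_ne_inv]
  have := Subgroup.index_mul_card (C.subgroupOf (pm y))
  rw [hi, Nat.card_congr (Subgroup.subgroupOfEquivOfLe (cent_le_pm y)).toEquiv, card_C c hA hm] at this
  omega

/-- The involutions inverting `y` are fused in `C(y)`. -/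
theorem outer_conj {z : T} (hz : z * y * z⁻¹ = y⁻¹) (hz2 : orderOf z = 2) :
    ∃ g, g * y = y * g ∧ g * (σ * u₀) * g⁻¹ = z := by
  classical
  have hSle : (S : Subgroup T) ≤ pm y := fun s hs => c.sgn hs
  have hzpm : z ∈ pm y := Or.inr hz
  haveI : Fact (Nat.Prime 2) := ⟨Nat.prime_two⟩
  have hzp : IsPGroup 2 (Subgroup.zpowers (⟨z, hzpm⟩ : pm y)) := IsPGroup.of_card (n := 1) (by
    rw [Nat.card_zpowers, Subgroup.orderOf_mk, hz2, pow_one])
  obtain ⟨Q, hQ⟩ := hzp.exists_le_sylow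
  obtain ⟨g, hg⟩ := MulAction.exists_smul_eq (pm y) Q (S.subtype hSle)
  have h1 : g * ⟨z, hzpm⟩ * g⁻¹ ∈ ((S.subtype hSle : Sylow 2 (pm y)) : Subgroup (pm y)) := by
    rw [← hg, Sylow.smul_def]
    exact ⟨_, hQ (Subgroup.mem_zpowers _), rfl⟩
  set s : T := (g : T) * z * (g : T)⁻¹ with hsdef
  have hsS : s ∈ (S : Subgroup T) := h1
  have hs2 : orderOf s = 2 := (MulEquiv.orderOf_eq (MulAut.conj (g : T)) z).trans hz2
  have hginv : (g : T)⁻¹ * y * (g : T) = y ∨ (g : T)⁻¹ * y * (g : T) = y⁻¹ := by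
    have h := inv_mem g.2
    change (g : T)⁻¹ * y * (g : T)⁻¹⁻¹ = y ∨ (g : T)⁻¹ * y * (g : T)⁻¹⁻¹ = y⁻¹ at h
    rwa [inv_inv] at h
  have hsy : s * y * s⁻¹ = y⁻¹ := by
    rw [hsdef, show (g : T) * z * (g : T)⁻¹ * y * ((g : T) * z * (g : T)⁻¹)⁻¹ =
      (g : T) * (z * ((g : T)⁻¹ * y * (g : T)) * z⁻¹) * (g : T)⁻¹ by group]
    rcases hginv with e | e <;> rw [e]
    · rw [hz]; nth_rewrite 2 [← e]; group
    · rw [show z * y⁻¹ * z⁻¹ = (z * y * z⁻¹)⁻¹ by group, hz, inv_inv, ← inv_inj, inv_inv]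
      nth_rewrite 2 [show y = ((g : T)⁻¹ * y * (g : T))⁻¹ by rw [e, inv_inv]]
      group
  have hsn : s ∉ Subgroup.zpowers σ := fun hr => by
    rcases c.shp.invol s hsS hr (mul_self_of hs2) with e | e
    · exact ne_one_of_two hs2 e
    · rw [e, mul_inv_eq_iff_eq_mul.2 (t_comm c)] at hsy
      exact c.y_ne_inv hsy.symm
  have hsu := c.shp.refl_mul s hsS u₀ c.hu hsn (not_rot c.shp c.hu c.hu2 c.hut)
  have hswt : s = σ * u₀ ∨ s = t * (σ * u₀) := by
    rcases rot_cases c hA hm hsu with ⟨e, -⟩ | ⟨-, e | e⟩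
    · exfalso
      rw [show s * u₀ * y * (s * u₀)⁻¹ = s * (u₀ * y * u₀⁻¹) * s⁻¹ by group,
        mul_inv_eq_iff_eq_mul.2 c.comm, hsy] at e
      exact c.y_ne_inv e
    · left; rw [← e, mul_assoc, mul_self_of c.hu2, mul_one]
    · right; rw [← mul_assoc, ← e, mul_assoc, mul_self_of c.hu2, mul_one]
  obtain ⟨d, hdy, hd⟩ : ∃ d, d * y = y * d ∧ d * (σ * u₀) * d⁻¹ = s := by
    rcases hswt with e | e
    · exact ⟨1, by simp, by rw [e]; group⟩
    · exact ⟨u₀, c.comm, by rw [e, (w_u c hA hm).2]⟩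
  rcases g.2 with e | e
  · refine ⟨(g : T)⁻¹ * d, ((show Commute (g : T) y from mul_inv_eq_iff_eq_mul.1 e).inv_left.mul_left hdy).eq, ?_⟩
    rw [show (g : T)⁻¹ * d * (σ * u₀) * ((g : T)⁻¹ * d)⁻¹ = (g : T)⁻¹ * (d * (σ * u₀) * d⁻¹) * g by group,
      hd, hsdef]
    group
  · obtain ⟨-, hw2, -, hwy⟩ := w_facts c
    refine ⟨(g : T)⁻¹ * d * (σ * u₀), ?_, ?_⟩
    · refine mul_inv_eq_iff_eq_mul.1 ?_
      rw [show (g : T)⁻¹ * d * (σ * u₀) * y * ((g : T)⁻¹ * d * (σ * u₀))⁻¹ =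
        (g : T)⁻¹ * (d * (σ * u₀ * y * (σ * u₀)⁻¹) * d⁻¹) * g by group, hwy,
        show d * y⁻¹ * d⁻¹ = (d * y * d⁻¹)⁻¹ by group, mul_inv_eq_iff_eq_mul.2 hdy, ← e]
      group
    · rw [show (g : T)⁻¹ * d * (σ * u₀) * (σ * u₀) * ((g : T)⁻¹ * d * (σ * u₀))⁻¹ =
        (g : T)⁻¹ * (d * (σ * u₀) * d⁻¹) * g by group, hd, hsdef]
      group

theorem card_Ctw : Nat.card (Subgroup.centralizer ({t, σ * u₀} : Set T)) = 4 := by
  classical
  obtain ⟨hwS, hw2, hwn, hwy⟩ := w_facts c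
  have h : ((Subgroup.centralizer ({t, σ * u₀} : Set T) : Subgroup T) : Set T) = four t (σ * u₀) := by
    ext x
    rw [SetLike.mem_coe, Subgroup.mem_centralizer_iff]
    constructor
    · intro hx
      have h1 : x * t = t * x := (hx t (by simp)).symm
      have h2 : x * (σ * u₀) = σ * u₀ * x := (hx (σ * u₀) (by simp)).symm
      obtain ⟨o, ho, hoa, v, hv, rfl⟩ := cent_four c.dih c.shp hwS hw2
        (fun e => hwn (e ▸ c.shp.pow_half ▸ Subgroup.pow_mem _ (Subgroup.mem_zpowers σ) _)) h1 h2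
      have ho1 : o = 1 := by
        rcases w_cent c hA hm (c.O_comm ho) hoa with e | e
        · exact e
        · exact disjointOS c.dih ho (e ▸ c.dih.mem)
      subst ho1
      simpa [four] using hv
    · intro hx g hg
      have htw : Commute t (σ * u₀) := (c.dih.central _ hwS).symm
      simp only [four, Set.mem_insert_iff, Set.mem_singleton_iff] at hx hg
      rcases hg with rfl | rfl <;> rcases hx with rfl | rfl | rfl | rfl
      all_goals first
        | exact (Commute.one_right _).eq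
        | rfl
        | exact htw.eq
        | exact htw.symm.eq
        | exact ((Commute.refl _).mul_right htw).eq
        | exact (htw.symm.mul_right (Commute.refl _)).eq
  have hw' : σ * u₀ ≠ t := fun e => hwn (e ▸ c.shp.pow_half ▸ Subgroup.pow_mem _ (Subgroup.mem_zpowers σ) _)
  rw [← SetLike.coe_sort_coe, h, Nat.card_coe_set_eq, four, Set.ncard_eq_toFinset_card']
  have h1 := ne_one_of_two c.dih.ot
  have h2 := ne_one_of_two hw2
  have h3 : t ≠ t * (σ * u₀) := fun e => h2 (by simpa using e)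
  have h4 : σ * u₀ ≠ t * (σ * u₀) := fun e => h1 (by simpa using e)
  have h5 : (1 : T) ≠ t * (σ * u₀) := fun e => hw' (by
    rw [eq_comm, mul_eq_one_iff_inv_eq, inv_eq_of_mul_eq_one_right (mul_self_of c.dih.ot)] at e
    exact e.symm)
  simp [h1.symm, h2.symm, hw'.symm, h3, h4, h5]

end Cfsg.Agent.CycSyl43RefLocal86
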