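import Cfsg.Agent.Lib.CycSyl43Defs
import Cfsg.Agent.Lib.ConstDiff2Section

/-!
# The principal 2-block on the section of a 2-element

When the principal block of `C(t)` consists of the characters trivial on an odd normal subgroup
`O`, column orthogonality turns the projection of a class function on the principal block of `G`,
evaluated at `t`, into the average of the function over `t O`.
-/

set_option autoImplicit false

open scoped ComplexConjugate

namespace Cfsg.Agent.CycSyl43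

open Cfsg BlockTheoryLocalRing BlockTheoryCentre BlockTheoryIdem
open Cfsg.Agent.BlockPrincipal81 (isPBlock_principal)
open Cfsg.Agent.ConstDiff2Basic (blk mem_blk strong)
open Cfsg.Agent.ConstDiff2Section (cen mem_cen sec_orth)

attribute [local instance] Classical.propDecidable

universe u

/-- The members of the principal block form the regular character of the quotient. -/
theorem sum_blk_one {H : Type u} [Group H] [Fintype H] {M : Ideal AlgInt}
    (hM : IsPModular 2 M) (N : Subgroup H) [N.Normal] (hN : Odd (Nat.card N))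
    (hall : ∀ χ : IrrCharacter H, (∀ y ∈ N, (χ : H → ℂ) y = (χ : H → ℂ) 1) →
      χ ∈ principalBlock M H) (r : H) :
    ∑ χ ∈ blk M H, (χ : H → ℂ) 1 * conj ((χ : H → ℂ) r) =
      if r ∈ N then (N.index : ℂ) else 0 := by
  haveI : Fintype (H ⧸ N) := Fintype.ofFinite _
  have h2 : ¬ 2 ∣ Nat.card N := fun h => Nat.not_even_iff_odd.2 hN (even_iff_two_dvd.2 h)
  have hblk : blk M H = Finset.univ.image (PrincipalQuot80.infl N) := by
    ext χ
    rw [mem_blk, Finset.mem_image]
    refine ⟨fun h => ?_, ?_⟩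
    · obtain ⟨ψ, hψ⟩ := CharKernel.exists_quot_irr N χ
        fun y hy => PrincipalParity80.kernel_of_principal hM N h2 h y hy
      exact ⟨ψ, Finset.mem_univ _, Subtype.ext (funext fun g => (hψ g).symm)⟩
    · rintro ⟨ψ, -, rfl⟩
      refine hall _ fun y hy => ?_
      rw [PrincipalQuot80.infl_apply, PrincipalQuot80.infl_apply, (QuotientGroup.eq_one_iff y).2 hy,
        QuotientGroup.mk_one]
  rw [hblk, Finset.sum_image fun a _ b _ h => PrincipalQuot80.infl_injective N h]
  simp only [PrincipalQuot80.infl_apply, QuotientGroup.mk_one]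
  rw [CharBasicOrth.sum_irr_mul_conj]
  refine ite_congr (propext ?_) (fun _ => ?_) fun _ => rfl
  · rw [isConj_one_right, ← QuotientGroup.eq_one_iff]
  · rw [show Subgroup.centralizer ({1} : Set (H ⧸ N)) = ⊤ from
        eq_top_iff.2 fun x _ => Subgroup.mem_centralizer_singleton_iff.2 (by simp),
      Subgroup.card_top, Subgroup.index_eq_card]

/-- The kernel of the principal block on the section of `t`. -/
theorem blk_column {G : Type u} [Group G] [Fintype G] {M : Ideal AlgInt} (hM : IsPModular 2 M)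
    {t : G} (ht : ∃ k : ℕ, orderOf t = 2 ^ k) {O : Subgroup G} (hO : O ≤ cen t)
    [(O.subgroupOf (cen t)).Normal] (hodd : Odd (Nat.card O))
    (hall : ∀ χ : IrrCharacter (cen t), (∀ y ∈ O.subgroupOf (cen t),
      (χ : cen t → ℂ) y = (χ : cen t → ℂ) 1) → χ ∈ principalBlock M (cen t)) (g : G) :
    ∑ χ ∈ blk M G, (χ : G → ℂ) t * conj ((χ : G → ℂ) g) =
      (Nat.card O : ℂ)⁻¹ *
        ∑ c : G, ∑ y : O, if c * (t * (y : G)) * c⁻¹ = g then (1 : ℂ) else 0 := by
  haveI := Fact.mk Nat.prime_two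
  have hreg : ∀ y : O, ¬ 2 ∣ orderOf (y : G) := fun y h => by
    have h1 : orderOf (y : G) ∣ Nat.card O := Subgroup.orderOf_dvd_natCard _ y.2
    exact Nat.not_even_iff_odd.2 hodd (even_iff_two_dvd.2 (h.trans h1))
  have hyC : ∀ y : O, Commute t (y : G) := fun y => mem_cen.1 (hO y.2)
  have hpart : ∀ (c : G) (y : O), IsPPart 2 (c * (t * (y : G)) * c⁻¹) (c * t * c⁻¹) := by
    intro c y
    obtain ⟨k, hk⟩ := ht
    refine ⟨c * y * c⁻¹, by group, (hyC y).map (MulAut.conj c).toMonoidHom, ⟨k, ?_⟩, ?_⟩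
    · rw [← hk, show c * t * c⁻¹ = MulAut.conj c t from rfl, MulEquiv.orderOf_eq]
    · rw [show c * (y : G) * c⁻¹ = MulAut.conj c (y : G) from rfl, MulEquiv.orderOf_eq]
      exact hreg y
  have htt : IsPPart 2 t t := ⟨1, mul_one t, Commute.one_right t, ht, by simp⟩
  obtain ⟨b, w, hbw, hcom, hb, hw⟩ := exists_pPart Nat.prime_two g
  have hgb : IsPPart 2 g b := ⟨w, hbw, hcom, hb, hw⟩
  by_cases hconj : IsConj t b
  swap
  · rw [strong hM htt hgb hconj, Finset.sum_eq_zero, mul_zero]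
    intro c _
    refine Finset.sum_eq_zero fun y _ => if_neg fun e => hconj ?_
    exact isConj_iff.2 ⟨c, pPart_unique Nat.prime_two (e ▸ hpart c y) hgb⟩
  obtain ⟨d, hd⟩ := isConj_iff.1 hconj
  have hrC : d⁻¹ * w * d ∈ cen t := by
    rw [mem_cen]
    have h1 := hcom.map (MulAut.conj d⁻¹).toMonoidHom
    rw [← hd] at h1
    simpa [mul_assoc] using h1
  set r : cen t := ⟨d⁻¹ * w * d, hrC⟩ with hr
  have hrreg : ¬ 2 ∣ orderOf r := by
    rw [hr, Subgroup.orderOf_mk,
      show d⁻¹ * w * d = MulAut.conj d⁻¹ w by simp, MulEquiv.orderOf_eq]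
    exact hw
  have hg : g = d * (t * (r : G)) * d⁻¹ := by
    rw [← hbw, ← hd]
    show d * t * d⁻¹ * w = d * (t * (d⁻¹ * w * d)) * d⁻¹
    group
  have h1 : ¬ 2 ∣ orderOf (1 : cen t) := by simp
  have hsec := sec_orth hM ht h1 hrreg
  rw [Subgroup.coe_one, mul_one, sum_blk_one hM (O.subgroupOf (cen t))
    (by rwa [Nat.card_congr (Subgroup.subgroupOfEquivOfLe hO).toEquiv]) hall r] at hsec
  have hcf : ∀ χ : IrrCharacter G, (χ : G → ℂ) g = (χ : G → ℂ) (t * r) := fun χ => by
    rw [hg]; exact irr_classFun χ _ _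
  simp only [hcf]
  rw [hsec]
  have hkey : ∀ c : G, (∑ y : O, if c * (t * (y : G)) * c⁻¹ = g then (1 : ℂ) else 0) =
      if (r : G) ∈ O ∧ d⁻¹ * c ∈ cen t then 1 else 0 := by
    intro c
    have hmem : ∀ y : O, c * (t * (y : G)) * c⁻¹ = g →
        d⁻¹ * c ∈ cen t ∧ (d⁻¹ * c) * (y : G) * (d⁻¹ * c)⁻¹ = r := by
      intro y e
      have e1 : c * t * c⁻¹ = b := pPart_unique Nat.prime_two (e ▸ hpart c y) hgb
      have hm : d⁻¹ * c ∈ cen t := by
        rw [mem_cen]
        show t * (d⁻¹ * c) = d⁻¹ * c * t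
        calc t * (d⁻¹ * c) = d⁻¹ * (d * t * d⁻¹) * c := by group
          _ = d⁻¹ * c * t := by rw [hd, ← e1]; group
      refine ⟨hm, mul_left_cancel (a := t) ?_⟩
      calc t * ((d⁻¹ * c) * (y : G) * (d⁻¹ * c)⁻¹)
          = (t * (d⁻¹ * c)) * (y : G) * (d⁻¹ * c)⁻¹ := by group
        _ = d⁻¹ * (c * (t * y) * c⁻¹) * d := by rw [(mem_cen.1 hm).eq]; group
        _ = t * r := by rw [e, hg]; group
    by_cases hh : (r : G) ∈ O ∧ d⁻¹ * c ∈ cen t
    · obtain ⟨hrO, hc⟩ := hh
      rw [if_pos ⟨hrO, hc⟩]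
      have hn : (d⁻¹ * c)⁻¹ * (r : G) * (d⁻¹ * c) ∈ O := by
        have h := ‹(O.subgroupOf (cen t)).Normal›.conj_mem r hrO ⟨_, inv_mem hc⟩
        rw [Subgroup.mem_subgroupOf] at h
        push_cast at h
        rwa [inv_inv] at h
      rw [Finset.sum_eq_single ⟨_, hn⟩]
      · rw [if_pos]
        show c * (t * ((d⁻¹ * c)⁻¹ * (r : G) * (d⁻¹ * c))) * c⁻¹ = g
        have hi := (mem_cen.1 (inv_mem hc)).eq
        calc c * (t * ((d⁻¹ * c)⁻¹ * (r : G) * (d⁻¹ * c))) * c⁻¹
            = c * (t * (d⁻¹ * c)⁻¹) * (r : G) * d⁻¹ := by group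
          _ = g := by rw [hi, hg]; group
      · intro y _ hne
        refine if_neg fun e => hne (Subtype.ext ?_)
        show (y : G) = (d⁻¹ * c)⁻¹ * (r : G) * (d⁻¹ * c)
        rw [← (hmem y e).2]
        group
      · simp
    · rw [if_neg hh]
      refine Finset.sum_eq_zero fun y _ => if_neg fun e => hh ?_
      obtain ⟨hc, he⟩ := hmem y e
      have h := ‹(O.subgroupOf (cen t)).Normal›.conj_mem ⟨y, hO y.2⟩ y.2 ⟨_, hc⟩
      rw [Subgroup.mem_subgroupOf] at h
      push_cast at h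
      exact ⟨he ▸ h, hc⟩
  simp only [hkey]
  by_cases hrO : (r : G) ∈ O
  · rw [if_pos (show r ∈ O.subgroupOf (cen t) from hrO)]
    simp only [hrO, true_and]
    rw [Finset.sum_boole, show (Finset.univ.filter fun c : G => d⁻¹ * c ∈ cen t).card =
      Nat.card (cen t) by
        rw [Nat.card_eq_fintype_card, Fintype.card_subtype]
        exact Finset.card_equiv (Equiv.mulLeft d⁻¹) fun c => by simp]
    have hidx := (O.subgroupOf (cen t)).card_mul_index
    rw [Nat.card_congr (Subgroup.subgroupOfEquivOfLe hO).toEquiv] at hidx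
    rw [← hidx, Nat.cast_mul, ← mul_assoc,
      inv_mul_cancel₀ (Nat.cast_ne_zero.2 Nat.card_pos.ne'), one_mul]
  · rw [if_neg (show r ∉ O.subgroupOf (cen t) from hrO)]
    simp [hrO]

/-- PIECE P. -/
theorem section_sum : SectionSum.{u} := by
  intro G _ _ M hM t O ht hO hnorm hodd hall F hF
  haveI := hnorm
  have hall' : ∀ χ : IrrCharacter (cen t), (∀ y ∈ O.subgroupOf (cen t),
      (χ : cen t → ℂ) y = (χ : cen t → ℂ) 1) → χ ∈ principalBlock M (cen t) :=
    fun χ h => hall χ h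
  rw [BlockTheoryIdem.finsum_mem_eq_sum, ← Finset.sum_filter,
    BlockContribBounds.filter_eq_members, ← finsum_set_coe_eq_finsum_mem,
    finsum_eq_sum_of_fintype]
  show ∑ χ ∈ blk M G, _ = (Nat.card O : ℂ)⁻¹ * ∑ y : O, F (t * (y : G))
  calc ∑ χ ∈ blk M G, classInner F (χ : G → ℂ) * (χ : G → ℂ) t
      = (Nat.card G : ℂ)⁻¹ * ∑ g : G, F g *
          ∑ χ ∈ blk M G, (χ : G → ℂ) t * conj ((χ : G → ℂ) g) := by
        simp only [classInner, Finset.mul_sum, Finset.sum_mul]
        rw [Finset.sum_comm]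
        exact Finset.sum_congr rfl fun g _ => Finset.sum_congr rfl fun χ _ => by ring
    _ = (Nat.card G : ℂ)⁻¹ * ∑ g : G, F g * ((Nat.card O : ℂ)⁻¹ *
          ∑ c : G, ∑ y : O, if c * (t * (y : G)) * c⁻¹ = g then (1 : ℂ) else 0) := by
        simp only [blk_column hM ht hO hodd hall']
    _ = (Nat.card G : ℂ)⁻¹ * ((Nat.card O : ℂ)⁻¹ *
          ∑ c : G, ∑ y : O, F (c * (t * (y : G)) * c⁻¹)) := by
        congr 1
        simp only [Finset.mul_sum]
        rw [Finset.sum_comm]
        refine Finset.sum_congr rfl fun c _ => ?_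
        rw [Finset.sum_comm]
        refine Finset.sum_congr rfl fun y _ => ?_
        simp [mul_ite, mul_comm]
    _ = (Nat.card O : ℂ)⁻¹ * ∑ y : O, F (t * (y : G)) := by
        simp only [fun (c : G) (y : O) => hF (t * (y : G)) c]
        rw [Finset.sum_const, Finset.card_univ, nsmul_eq_mul, ← Nat.card_eq_fintype_card,
          mul_left_comm ((Nat.card O : ℂ)⁻¹), ← mul_assoc,
          inv_mul_cancel₀ (Nat.cast_ne_zero.2 Nat.card_pos.ne'), one_mul]

section Criteria

variable {C : Type u} [Group C] [Finite C] {M : Ideal AlgInt} (N : Subgroup C) [N.Normal]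

/-- A constrained quotient by a normal subgroup: one block above it. -/
theorem principal_of_constrained_quot (hM : IsPModular 2 M) (P : Subgroup (C ⧸ N)) [P.Normal]
    (hP : IsPGroup 2 P) (hC : Subgroup.centralizer (P : Set (C ⧸ N)) ≤ P) (χ : IrrCharacter C)
    (hχ : ∀ y ∈ N, (χ : C → ℂ) y = (χ : C → ℂ) 1) : χ ∈ principalBlock M C := by
  haveI := Fact.mk Nat.prime_two
  haveI : Fintype (C ⧸ N) := Fintype.ofFinite _
  obtain ⟨ψ, hψ⟩ := CharKernel.exists_quot_irr N χ hχ
  rw [show χ = PrincipalQuot80.infl N ψ from Subtype.ext (funext hψ)]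
  exact PrincipalQuot80.infl_mem N hM (PrincipalQuot80.mem_principal_of_constrained hM P hP hC ψ)

/-- Criterion (i): the quotient is a 2-group. -/
theorem principal_of_two_quot (hM : IsPModular 2 M) (h2 : IsPGroup 2 (C ⧸ N)) (χ : IrrCharacter C)
    (hχ : ∀ y ∈ N, (χ : C → ℂ) y = (χ : C → ℂ) 1) : χ ∈ principalBlock M C :=
  principal_of_constrained_quot N hM ⊤ (h2.to_subgroup ⊤) le_top χ hχ

end Criteria

/-- The matrices of the quaternion group inside `GL(2,3)`. -/
def InQ (m : Matrix (Fin 2) (Fin 2) (ZMod 3)) : Prop :=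
  m.det = 1 ∧ (m.trace = 0 ∨ m = 1 ∨ m = -1)

instance (m : Matrix (Fin 2) (Fin 2) (ZMod 3)) : Decidable (InQ m) := by unfold InQ; infer_instance

theorem inQ_mul : ∀ x : Matrix (Fin 2) (Fin 2) (ZMod 3), InQ x →
    ∀ y : Matrix (Fin 2) (Fin 2) (ZMod 3), InQ y → InQ (x * y) := by decide +kernel

theorem inQ_pow : ∀ x : Matrix (Fin 2) (Fin 2) (ZMod 3), InQ x → x * x * x * x = 1 := by
  decide +kernel

theorem inQ_cent : ∀ x : Matrix (Fin 2) (Fin 2) (ZMod 3), x.det ≠ 0 →
    x * !![0, 2; 1, 0] = !![0, 2; 1, 0] * x → x * !![1, 1; 1, 2] = !![1, 1; 1, 2] * x → InQ x := by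
  decide +kernel

/-- The quaternion subgroup of `GL(2,3)`. -/
def quat : Subgroup (GL (Fin 2) (ZMod 3)) where
  carrier := {g | InQ (g : Matrix (Fin 2) (Fin 2) (ZMod 3))}
  mul_mem' {a b} ha hb := inQ_mul _ ha _ hb
  one_mem' := ⟨Matrix.det_one, Or.inr (Or.inl rfl)⟩
  inv_mem' {a} ha := by
    have h4 : a * a * a * a = 1 := Units.ext (inQ_pow _ ha)
    rw [Set.mem_setOf_eq, show a⁻¹ = a * a * a from inv_eq_of_mul_eq_one_left h4]
    exact inQ_mul _ (inQ_mul _ ha _ ha) _ ha

instance quat_normal : quat.Normal where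
  conj_mem q hq g := by
    obtain ⟨h1, h2⟩ := hq
    refine ⟨?_, ?_⟩
    · show ((g : Matrix (Fin 2) (Fin 2) (ZMod 3)) * q * (g⁻¹ : GL (Fin 2) (ZMod 3))).det = 1
      rw [Matrix.det_units_conj, h1]
    · show ((g : Matrix (Fin 2) (Fin 2) (ZMod 3)) * q * (g⁻¹ : GL (Fin 2) (ZMod 3))).trace = 0 ∨ _
      rcases h2 with h | h | h
      · exact Or.inl (by rw [Matrix.trace_units_conj, h])
      · refine Or.inr (Or.inl ?_)
        simp [h]
      · refine Or.inr (Or.inr ?_)
        simp [h]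

theorem isPGroup_quat : IsPGroup 2 quat := fun q => ⟨2, by
  refine Subtype.ext (Units.ext ?_)
  have h := inQ_pow _ q.2
  show ((q : GL (Fin 2) (ZMod 3)) ^ (2 ^ 2) : Matrix (Fin 2) (Fin 2) (ZMod 3)) = 1
  rw [show (2 : ℕ) ^ 2 = 4 from rfl, pow_succ, pow_succ, pow_succ, pow_one]
  exact h⟩

theorem centralizer_quat : Subgroup.centralizer (quat : Set (GL (Fin 2) (ZMod 3))) ≤ quat := by
  intro g hg
  rw [Subgroup.mem_centralizer_iff] at hg
  have key : ∀ m : Matrix (Fin 2) (Fin 2) (ZMod 3), InQ m →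
      (g : Matrix (Fin 2) (Fin 2) (ZMod 3)) * m = m * g := by
    intro m hm
    have hu : m.det ≠ 0 := by rw [hm.1]; exact one_ne_zero
    exact (congrArg Units.val (hg (Matrix.GeneralLinearGroup.mkOfDetNeZero m hu) hm)).symm
  exact inQ_cent _ (Matrix.GeneralLinearGroup.det g).isUnit.ne_zero
    (key _ (by decide +kernel)) (key _ (by decide +kernel))

/-- Criterion (ii): the quotient is `GL(2,3)`. -/
theorem principal_of_gl23_quot {C : Type u} [Group C] [Finite C] {M : Ideal AlgInt}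
    (N : Subgroup C) [N.Normal] (hM : IsPModular 2 M) (f : C →* GL (Fin 2) (ZMod 3))
    (hf : Function.Surjective f) (hker : f.ker = N) (χ : IrrCharacter C)
    (hχ : ∀ y ∈ N, (χ : C → ℂ) y = (χ : C → ℂ) 1) : χ ∈ principalBlock M C := by
  subst hker
  let e : C ⧸ f.ker ≃* GL (Fin 2) (ZMod 3) := QuotientGroup.quotientKerEquivOfSurjective f hf
  haveI : (quat.comap e.toMonoidHom).Normal := inferInstance
  refine principal_of_constrained_quot f.ker hM (quat.comap e.toMonoidHom)
    (isPGroup_quat.comap_of_injective _ e.injective) ?_ χ hχ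
  intro x hx
  rw [Subgroup.mem_centralizer_iff] at hx
  refine centralizer_quat (Subgroup.mem_centralizer_iff.2 fun q hq => ?_)
  obtain ⟨y, rfl⟩ := e.surjective q
  show e y * e x = e x * e y
  rw [← map_mul, ← map_mul, hx y hq]

/-- The hypothesis of `SectionSum` when `C(t) / O` is a 2-group. -/
theorem section_hyp_two {G : Type u} [Group G] [Finite G] {M : Ideal AlgInt} (hM : IsPModular 2 M)
    {t : G} {O : Subgroup G} [(O.subgroupOf (Subgroup.centralizer ({t} : Set G))).Normal]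
    (h2 : IsPGroup 2 (↥(Subgroup.centralizer ({t} : Set G)) ⧸
      O.subgroupOf (Subgroup.centralizer ({t} : Set G))))
    (χ : IrrCharacter ↥(Subgroup.centralizer ({t} : Set G)))
    (hχ : ∀ y : ↥(Subgroup.centralizer ({t} : Set G)), (y : G) ∈ O →
      (χ : ↥(Subgroup.centralizer ({t} : Set G)) → ℂ) y =
        (χ : ↥(Subgroup.centralizer ({t} : Set G)) → ℂ) 1) :
    χ ∈ principalBlock M ↥(Subgroup.centralizer ({t} : Set G)) :=
  principal_of_two_quot _ hM h2 χ fun y hy => hχ y hy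

end Cfsg.Agent.CycSyl43
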