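import Mathlib
import Cfsg.Agent.Lib.CycSyl43Defs
import Cfsg.Agent.Lib.CharInducedTI
import Cfsg.Agent.Lib.FourExceptional

/-!
Induction from trivial-intersection sets for the groups with cyclic odd Sylow subgroups:
three-term decompositions, families, and the involution-pair relation.
-/

set_option autoImplicit false

open scoped ComplexConjugate

namespace Cfsg.Agent.CycSyl43TI

open Cfsg.Agent.CycSyl43 (TIData)
open Cfsg.Agent.CharBasic Cfsg.Agent.CharBasicDecomp Cfsg.Agent.CharInduced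
open Cfsg.Agent.CharBasicOrth (classInner_irr_self classInner_irr_ne classInner_eq_sum)

universe u

variable {G : Type u} [Group G]

/-- `θ` vanishes outside `D`. -/
def Vanish {H : Subgroup G} (D : Set G) (θ : H → ℂ) : Prop :=
  ∀ x : H, (x : G) ∉ D → θ x = 0

theorem Vanish.one {H : Subgroup G} {D : Set G} {θ : H → ℂ} (hd : TIData H D)
    (hv : Vanish D θ) : θ 1 = 0 :=
  hv 1 fun h => hd.one (by simpa using h)

theorem TIData.hTI {H : Subgroup G} {D : Set G} (hd : TIData H D) :
    ∀ g : G, g ∉ H → ∀ x ∈ D, g * x * g⁻¹ ∈ D → x = 1 :=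
  fun g hg x hx h => absurd (hd.ti g x hx h) hg

variable [Fintype G]

section Induction

variable {H : Subgroup G} {D : Set G} (hd : TIData H D)
include hd

theorem ind_apply {θ : H → ℂ} (hθ : Cfsg.IsClassFunction H θ) (hv : Vanish D θ) (x : H)
    (hx : (x : G) ∈ D) : Cfsg.indFun H θ (x : G) = θ x :=
  ind_eq_of_ti D H (TIData.hTI hd) θ hθ hv x hx fun h => hd.one (by simpa [h] using hx)

omit hd in
theorem ind_eq_zero {θ : H → ℂ} (hv : Vanish D θ) {g : G}
    (hg : ∀ x : G, x⁻¹ * g * x ∉ D) : Cfsg.indFun H θ g = 0 := by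
  rw [indFun_apply, Finset.sum_eq_zero fun x _ => ?_, mul_zero]
  by_cases hm : x⁻¹ * g * x ∈ H
  · rw [ext_zero_of_mem θ hm]
    exact hv _ (hg x)
  · exact ext_zero_of_not_mem θ hm

theorem ind_apply_one {θ : H → ℂ} (hv : Vanish D θ) : Cfsg.indFun H θ 1 = 0 := by
  rw [ind_one_apply, hv.one hd, mul_zero]

theorem inner_eq [Fintype H] {θ φ : H → ℂ} (hφ : Cfsg.IsClassFunction H φ) (hθv : Vanish D θ)
    (hφv : Vanish D φ) :
    Cfsg.classInner (Cfsg.indFun H θ) (Cfsg.indFun H φ) = Cfsg.classInner θ φ :=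
  classInner_ind_of_ti D H (TIData.hTI hd) θ φ hφ hθv hφv (hθv.one hd)

omit hd in
/-- Functions supported on sets with no common conjugates induce orthogonally. -/
theorem inner_disjoint {H' : Subgroup G} {D' : Set G} {θ : H → ℂ} {φ : H' → ℂ}
    (hθv : Vanish D θ) (hφv : Vanish D' φ) (hdis : ∀ x ∈ D, ∀ g : G, g * x * g⁻¹ ∉ D') :
    Cfsg.classInner (Cfsg.indFun H θ) (Cfsg.indFun H' φ) = 0 := by
  simp only [Cfsg.classInner]
  refine mul_eq_zero_of_right _ (Finset.sum_eq_zero fun g _ => ?_)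
  by_cases h : ∀ x : G, x⁻¹ * g * x ∉ D
  · rw [ind_eq_zero hθv h, zero_mul]
  · push Not at h
    obtain ⟨x, hx⟩ := h
    rw [ind_eq_zero hφv (g := g) fun y hy => hdis _ hx (y⁻¹ * x) (by simpa [mul_assoc] using hy),
      map_zero, mul_zero]

end Induction

/-- `Γ = 1 + e P + e' Q` with `P`, `Q` distinct nontrivial irreducible characters. -/
structure Decomp3 (Γ : G → ℂ) (P Q : Cfsg.IrrCharacter G) (e e' : ℤ) : Prop where
  he : e = 1 ∨ e = -1
  he' : e' = 1 ∨ e' = -1
  ne : P ≠ Q
  nP : P ≠ trivIrr G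
  nQ : Q ≠ trivIrr G
  eq : ∀ g : G, Γ g = 1 + (e : ℂ) * (P : G → ℂ) g + (e' : ℂ) * (Q : G → ℂ) g

namespace Decomp3

variable {Γ Γ' : G → ℂ} {P Q P' Q' : Cfsg.IrrCharacter G} {e e' f f' : ℤ}

omit [Fintype G] in
theorem swap (d : Decomp3 Γ P Q e e') : Decomp3 Γ Q P e' e :=
  ⟨d.he', d.he, d.ne.symm, d.nQ, d.nP, fun g => by rw [d.eq g]; ring⟩

omit [Fintype G] in
theorem fun_eq (d : Decomp3 Γ P Q e e') :
    Γ = (trivIrr G : G → ℂ) + (e : ℂ) • (P : G → ℂ) + (e' : ℂ) • (Q : G → ℂ) := by
  funext g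
  simp [d.eq g, trivIrr]

/-- The coefficient of an irreducible character. -/
theorem inner_irr [DecidableEq (Cfsg.IrrCharacter G)] (d : Decomp3 Γ P Q e e')
    (χ : Cfsg.IrrCharacter G) :
    Cfsg.classInner Γ (χ : G → ℂ) = (((if trivIrr G = χ then 1 else 0) +
      (if P = χ then e else 0) + (if Q = χ then e' else 0) : ℤ) : ℂ) := by
  rw [d.fun_eq]
  simp only [CharInduced.inner_add_left, CharInduced.inner_smul_left, CharBasicOrth.classInner_irrCharacter]
  push_cast
  simp [mul_ite]

/-- The inner product of two decompositions. -/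
theorem inner [DecidableEq (Cfsg.IrrCharacter G)] (d : Decomp3 Γ P Q e e')
    (d' : Decomp3 Γ' P' Q' f f') :
    Cfsg.classInner Γ Γ' = ((1 + (if P = P' then e * f else 0) + (if P = Q' then e * f' else 0) +
      (if Q = P' then e' * f else 0) + (if Q = Q' then e' * f' else 0) : ℤ) : ℂ) := by
  rw [d'.fun_eq]
  simp only [CharInduced.inner_add_right, CharInduced.inner_smul_right, d.inner_irr, d'.nP.symm, d'.nQ.symm, d.nP, d.nQ,
    if_true, if_false, map_intCast]
  push_cast
  simp only [mul_ite, mul_zero, mul_add]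
  split_ifs <;> ring

omit [Fintype G] in
theorem deg (d : Decomp3 Γ P Q e e') (h1 : Γ 1 = 0) :
    1 + (e : ℂ) * (P : G → ℂ) 1 + (e' : ℂ) * (Q : G → ℂ) 1 = 0 :=
  (d.eq 1).symm.trans h1

end Decomp3

/-- A generalized character vanishing off the trivial-intersection set, of norm three and with
one trivial constituent, induces to `1 + e P + e' Q`. -/
theorem decomp3 {H : Subgroup G} [Fintype H] {D : Set G} (hd : TIData H D) {θ : H → ℂ}
    (hθ : Cfsg.IsGeneralizedCharacter H θ) (hv : Vanish D θ)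
    (h1 : Cfsg.classInner θ (fun _ => 1) = 1) (h3 : Cfsg.classInner θ θ = 3) :
    ∃ (P Q : Cfsg.IrrCharacter G) (e e' : ℤ), Decomp3 (Cfsg.indFun H θ) P Q e e' := by
  classical
  set Γ := Cfsg.indFun H θ with hΓ
  have hg : Cfsg.IsGeneralizedCharacter G Γ := isGenChar_ind H hθ
  have hcf := isClassFunction_of_isGeneralizedCharacter hθ
  obtain ⟨m, hm, hsum⟩ := exists_int_coeff hg
  have hm1 : m (trivIrr G) = 1 := by
    have h := hm (trivIrr G)
    rw [hΓ, inner_ind_left H θ (fun _ _ => rfl)] at h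
    simp only [trivIrr] at h
    rw [h1] at h
    exact_mod_cast h.symm
  have hsq : ∑ ψ, m ψ * m ψ = 3 := by
    have h := classInner_eq_sum (φ := Γ) (isClassFunction_of_isGeneralizedCharacter hg)
    rw [hΓ, inner_eq hd hcf hv hv, h3, ← hΓ] at h
    simp only [hm, map_intCast] at h
    exact_mod_cast h.symm
  have hrest : ∑ ψ ∈ Finset.univ.erase (trivIrr G), m ψ * m ψ = 2 := by
    have h := Finset.add_sum_erase _ (fun ψ => m ψ * m ψ) (Finset.mem_univ (trivIrr G))
    simp only [hsq, hm1] at h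
    omega
  have hle : ∀ ψ ∈ Finset.univ.erase (trivIrr G), m ψ * m ψ ≤ 1 := by
    intro ψ hψ
    have h := Finset.single_le_sum (f := fun ψ => m ψ * m ψ)
      (fun i _ => mul_self_nonneg (m i)) hψ
    simp only [hrest] at h
    by_contra hlt
    have : m ψ ≤ -2 ∨ -1 ≤ m ψ ∧ m ψ ≤ 1 ∨ 2 ≤ m ψ := by omega
    rcases this with h' | ⟨h', h''⟩ | h' <;> nlinarith
  set s := (Finset.univ.erase (trivIrr G)).filter (fun ψ => m ψ ≠ 0) with hs
  have hone : ∀ ψ ∈ s, m ψ = 1 ∨ m ψ = -1 := by
    intro ψ hψ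
    obtain ⟨hψ1, hψ2⟩ := Finset.mem_filter.1 hψ
    have h2 := hle ψ hψ1
    have h4 : 0 < m ψ * m ψ := mul_self_pos.2 hψ2
    exact mul_self_eq_one_iff.1 (by omega)
  have hcard : s.card = 2 := by
    have h : ∑ ψ ∈ s, m ψ * m ψ = 2 := by
      rw [hs, Finset.sum_filter_of_ne (p := fun ψ => m ψ ≠ 0) fun x _ hx h => hx (by rw [h, mul_zero])]
      exact hrest
    rw [Finset.sum_congr rfl fun ψ hψ => show m ψ * m ψ = 1 by
      rcases hone ψ hψ with e | e <;> rw [e] <;> norm_num] at h
    rw [Finset.sum_const, nsmul_eq_mul, mul_one] at h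
    exact_mod_cast h
  obtain ⟨P, Q, hPQ, hset⟩ := Finset.card_eq_two.1 hcard
  have hP : P ∈ s := by rw [hset]; simp
  have hQ : Q ∈ s := by rw [hset]; simp
  refine ⟨P, Q, m P, m Q, hone P hP, hone Q hQ, hPQ,
    Finset.ne_of_mem_erase (Finset.mem_filter.1 hP).1,
    Finset.ne_of_mem_erase (Finset.mem_filter.1 hQ).1, fun g => ?_⟩
  rw [hsum]
  simp only [Finset.sum_apply, Pi.smul_apply, smul_eq_mul]
  rw [← Finset.add_sum_erase _ _ (Finset.mem_univ (trivIrr G)), hm1,
    ← Finset.sum_filter_of_ne (s := Finset.univ.erase (trivIrr G)) (p := fun ψ => m ψ ≠ 0)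
      (fun x _ hx h => hx (by rw [h, Int.cast_zero, zero_mul])), ← hs, hset, Finset.sum_pair hPQ]
  simp [trivIrr, add_assoc]

section Families

variable {Γ Γ' : G → ℂ} {P Q P' Q' : Cfsg.IrrCharacter G} {e e' f f' : ℤ}

/-- Orthogonal decompositions share exactly one constituent, with opposite signs. -/
theorem common (d : Decomp3 Γ P Q e e') (d' : Decomp3 Γ' P' Q' f f')
    (h : Cfsg.classInner Γ Γ' = 0) :
    ∃ (R A B : Cfsg.IrrCharacter G) (s a b : ℤ),
      Decomp3 Γ R A s a ∧ Decomp3 Γ' R B (-s) b ∧ A ≠ B := by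
  classical
  have hi := d.inner d'
  rw [h] at hi
  have hi' : (0 : ℤ) = 1 + (if P = P' then e * f else 0) + (if P = Q' then e * f' else 0) +
      (if Q = P' then e' * f else 0) + (if Q = Q' then e' * f' else 0) := by exact_mod_cast hi
  have hne := d.ne
  have hne' := d'.ne
  by_cases h1 : P = P'
  · subst h1
    by_cases h2 : Q = Q'
    · subst h2
      simp [hne, hne.symm] at hi'
      rcases d.he with rfl | rfl <;> rcases d.he' with rfl | rfl <;>
        rcases d'.he with rfl | rfl <;> rcases d'.he' with rfl | rfl <;> norm_num at hi'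
    · simp [hne', hne.symm, h2] at hi'
      obtain rfl : f = -e := by
        rcases d.he with rfl | rfl <;> rcases d'.he with rfl | rfl <;> first | omega | norm_num at hi'
      exact ⟨P, Q, Q', e, e', f', d, d', h2⟩
  · by_cases h2 : Q = Q'
    · subst h2
      simp [hne, hne'.symm, h1] at hi'
      obtain rfl : f' = -e' := by
        rcases d.he' with rfl | rfl <;> rcases d'.he' with rfl | rfl <;> first | omega | norm_num at hi'
      exact ⟨Q, P, P', e', e, f, d.swap, d'.swap, h1⟩
    · by_cases h3 : P = Q'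
      · subst h3
        by_cases h4 : Q = P'
        · subst h4
          simp [hne, hne.symm] at hi'
          rcases d.he with rfl | rfl <;> rcases d.he' with rfl | rfl <;>
            rcases d'.he with rfl | rfl <;> rcases d'.he' with rfl | rfl <;> norm_num at hi'
        · simp [h1, h2, h4] at hi'
          obtain rfl : f' = -e := by
            rcases d.he with rfl | rfl <;> rcases d'.he' with rfl | rfl <;> first | omega | norm_num at hi'
          exact ⟨P, Q, P', e, e', f, d, d'.swap, h4⟩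
      · by_cases h4 : Q = P'
        · subst h4
          simp [h1, h2, h3] at hi'
          obtain rfl : f = -e' := by
            rcases d.he' with rfl | rfl <;> rcases d'.he with rfl | rfl <;> first | omega | norm_num at hi'
          exact ⟨Q, P, Q', e', e, f', d.swap, d', h3⟩
        · simp [h1, h2, h3, h4] at hi'

/-- Decompositions with inner product two share exactly one constituent, with equal signs. -/
theorem pair_family (d : Decomp3 Γ P Q e e') (d' : Decomp3 Γ' P' Q' f f')
    (h : Cfsg.classInner Γ Γ' = 2) :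
    ∃ (R A B : Cfsg.IrrCharacter G) (s a b : ℤ),
      Decomp3 Γ R A s a ∧ Decomp3 Γ' R B s b ∧ A ≠ B := by
  classical
  have hi := d.inner d'
  rw [h] at hi
  have hi' : (2 : ℤ) = 1 + (if P = P' then e * f else 0) + (if P = Q' then e * f' else 0) +
      (if Q = P' then e' * f else 0) + (if Q = Q' then e' * f' else 0) := by exact_mod_cast hi
  have hne := d.ne
  have hne' := d'.ne
  by_cases h1 : P = P'
  · subst h1
    by_cases h2 : Q = Q'
    · subst h2
      simp [hne, hne.symm] at hi'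
      rcases d.he with rfl | rfl <;> rcases d.he' with rfl | rfl <;>
        rcases d'.he with rfl | rfl <;> rcases d'.he' with rfl | rfl <;> norm_num at hi'
    · simp [hne', hne.symm, h2] at hi'
      obtain rfl : e = f := by
        rcases d.he with rfl | rfl <;> rcases d'.he with rfl | rfl <;> first | omega | norm_num at hi'
      exact ⟨P, Q, Q', e, e', f', d, d', h2⟩
  · by_cases h2 : Q = Q'
    · subst h2
      simp [hne, hne'.symm, h1] at hi'
      obtain rfl : e' = f' := by
        rcases d.he' with rfl | rfl <;> rcases d'.he' with rfl | rfl <;> first | omega | norm_num at hi'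
      exact ⟨Q, P, P', e', e, f, d.swap, d'.swap, h1⟩
    · by_cases h3 : P = Q'
      · subst h3
        by_cases h4 : Q = P'
        · subst h4
          simp [hne, hne.symm] at hi'
          rcases d.he with rfl | rfl <;> rcases d.he' with rfl | rfl <;>
            rcases d'.he with rfl | rfl <;> rcases d'.he' with rfl | rfl <;> norm_num at hi'
        · simp [h1, h2, h4] at hi'
          obtain rfl : e = f' := by
            rcases d.he with rfl | rfl <;> rcases d'.he' with rfl | rfl <;> first | omega | norm_num at hi'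
          exact ⟨P, Q, P', e, e', f, d, d'.swap, h4⟩
      · by_cases h4 : Q = P'
        · subst h4
          simp [h1, h2, h3] at hi'
          obtain rfl : e' = f := by
            rcases d.he' with rfl | rfl <;> rcases d'.he with rfl | rfl <;> first | omega | norm_num at hi'
          exact ⟨Q, P, Q', e', e, f', d.swap, d', h3⟩
        · simp [h1, h2, h3, h4] at hi'

/-- A decomposition orthogonal to two members of a family contains the common constituent of the
family, with the opposite sign. -/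
theorem family_shared {Γ₁ Γ₂ : G → ℂ} {R A B U V : Cfsg.IrrCharacter G} {s a b u v : ℤ}
    (d₁ : Decomp3 Γ₁ R A s a) (d₂ : Decomp3 Γ₂ R B s b) (hAB : A ≠ B)
    (d : Decomp3 Γ' U V u v) (h₁ : Cfsg.classInner Γ₁ Γ' = 0) (h₂ : Cfsg.classInner Γ₂ Γ' = 0)
    (z₁ : Γ₁ 1 = 0) (z₂ : Γ₂ 1 = 0) (z : Γ' 1 = 0) :
    ∃ (W : Cfsg.IrrCharacter G) (w : ℤ), Decomp3 Γ' R W (-s) w := by
  obtain ⟨R₁, A₁, B₁, s₁, a₁, b₁, e₁, f₁, -⟩ := common d₁ d h₁
  by_cases hR : R₁ = R
  · subst hR
    refine ⟨B₁, b₁, ?_⟩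
    have hs : s₁ = s := by
      classical
      have x1 := e₁.inner_irr R₁
      have x2 := d₁.inner_irr R₁
      rw [x1] at x2
      simp [e₁.nP.symm, e₁.ne.symm, d₁.ne.symm] at x2
      exact x2
    exact hs ▸ f₁
  obtain ⟨R₂, A₂, B₂, s₂, a₂, b₂, e₂, f₂, -⟩ := common d₂ d h₂
  by_cases hR' : R₂ = R
  · subst hR'
    refine ⟨B₂, b₂, ?_⟩
    have hs : s₂ = s := by
      classical
      have x1 := e₂.inner_irr R₂
      have x2 := d₂.inner_irr R₂
      rw [x1] at x2
      simp [e₂.nP.symm, e₂.ne.symm, d₂.ne.symm] at x2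
      exact x2
    exact hs ▸ f₂
  classical
  exfalso
  have hRA : R₁ = A ∧ s₁ = a := by
    have x1 := e₁.inner_irr R₁
    have x2 := d₁.inner_irr R₁
    rw [x1] at x2
    simp [e₁.nP.symm, e₁.ne.symm, Ne.symm hR] at x2
    by_cases hA : A = R₁
    · simp [hA] at x2
      exact ⟨hA.symm, x2⟩
    · simp [hA] at x2
      rcases e₁.he with h | h <;> simp [h] at x2
  have hRB : R₂ = B ∧ s₂ = b := by
    have x1 := e₂.inner_irr R₂
    have x2 := d₂.inner_irr R₂
    rw [x1] at x2
    simp [e₂.nP.symm, e₂.ne.symm, Ne.symm hR'] at x2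
    by_cases hA : B = R₂
    · simp [hA] at x2
      exact ⟨hA.symm, x2⟩
    · simp [hA] at x2
      rcases e₂.he with h | h <;> simp [h] at x2
  obtain ⟨rfl, rfl⟩ := hRA
  obtain ⟨rfl, rfl⟩ := hRB
  have hB : B₁ = R₂ ∧ b₁ = -s₂ := by
    have x1 := f₁.inner_irr R₂
    have x2 := f₂.inner_irr R₂
    rw [x1] at x2
    simp [f₂.nP.symm, f₂.ne.symm, hAB] at x2
    by_cases hA : B₁ = R₂
    · simp [hA] at x2
      exact ⟨hA, by exact_mod_cast x2⟩
    · simp [hA] at x2
      rcases f₂.he with h | h <;> omega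
  obtain ⟨rfl, rfl⟩ := hB
  have q₁ := d₁.deg z₁
  have q₂ := d₂.deg z₂
  have q := f₁.deg z
  push_cast at q
  obtain ⟨m, -, hm⟩ := isIrrCharacter_apply_one R.2
  rw [hm] at q₁ q₂
  have key : (3 : ℤ) + 2 * s * m = 0 := by
    have : ((3 + 2 * s * m : ℤ) : ℂ) = 0 := by
      push_cast
      linear_combination q₁ + q₂ + q
    exact_mod_cast this
  rcases d₁.he with h | h <;> subst h <;> omega

end Families

section Theta

variable {H : Type u} [Group H] [Fintype H]

/-- The class function `2 - λ - λ⁻¹` on a subgroup `K`, extended by zero. -/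
noncomputable def theta (K : Subgroup H) (lam : K →* ℂˣ) : H → ℂ :=
  Cfsg.extendByZero K fun x => 2 - (lam x : ℂ) - ((lam x)⁻¹ : ℂˣ)

variable {K : Subgroup H} {lam mu : K →* ℂˣ}

omit [Fintype H] in
theorem theta_mem (x : K) : theta K lam (x : H) = 2 - (lam x : ℂ) - ((lam x)⁻¹ : ℂˣ) :=
  ext_zero_coe _ x

omit [Fintype H] in
theorem theta_not_mem {x : H} (hx : x ∉ K) : theta K lam x = 0 :=
  ext_zero_of_not_mem _ hx

theorem ind_linear [Fintype K] (h2 : K.index = 2)
    (hinv : ∀ h : H, h ∉ K → ∀ x y : K, (y : H) = h * x * h⁻¹ → lam y = (lam x)⁻¹) (x : K) :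
    Cfsg.indFun K (fun y => (lam y : ℂ)) (x : H) = (lam x : ℂ) + ((lam x)⁻¹ : ℂˣ) := by
  classical
  have hn : K.Normal := Subgroup.normal_of_index_eq_two h2
  have key : ∀ h : H, Cfsg.extendByZero K (fun y => (lam y : ℂ)) (h⁻¹ * x * h) =
      if h ∈ K then (lam x : ℂ) else ((lam x)⁻¹ : ℂˣ) := by
    intro h
    have hm : h⁻¹ * x * h ∈ K := by simpa using hn.conj_mem _ x.2 h⁻¹
    rw [ext_zero_of_mem _ hm]
    split_ifs with hh
    · have e : (⟨h⁻¹ * x * h, hm⟩ : K) = (⟨h, hh⟩ : K)⁻¹ * x * ⟨h, hh⟩ := Subtype.ext rfl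
      rw [e, map_mul, map_mul, map_inv, mul_comm, ← mul_assoc, mul_inv_cancel, one_mul]
    · rw [hinv h⁻¹ (fun q => hh (inv_inv h ▸ K.inv_mem q)) x ⟨_, hm⟩ (by simp)]
  have hK : (Finset.univ.filter fun h : H => h ∈ K).card = Nat.card K := by
    rw [← Fintype.card_subtype, ← Nat.card_eq_fintype_card]
  have hK' : (Finset.univ.filter fun h : H => h ∉ K).card = Nat.card K := by
    have e := K.index_mul_card
    rw [h2, Nat.card_eq_fintype_card (α := H), ← Finset.card_univ,
      ← Finset.card_filter_add_card_filter_not (s := Finset.univ) (fun h : H => h ∈ K), hK] at e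
    omega
  have hne := card_subgroup_ne_zero K
  rw [indFun_apply, Finset.sum_congr rfl fun h _ => key h, Finset.sum_ite, Finset.sum_const,
    Finset.sum_const, hK, hK', nsmul_eq_mul, nsmul_eq_mul]
  field_simp

theorem theta_gen (h2 : K.index = 2)
    (hinv : ∀ h : H, h ∉ K → ∀ x y : K, (y : H) = h * x * h⁻¹ → lam y = (lam x)⁻¹) :
    Cfsg.IsGeneralizedCharacter H (theta K lam) := by
  classical
  have := Fintype.ofFinite K
  have hn : K.Normal := Subgroup.normal_of_index_eq_two h2
  let sgn : H →* ℂˣ := MonoidHom.mk' (fun h => if h ∈ K then 1 else -1) fun a b => by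
    have := Subgroup.mul_mem_iff_of_index_two h2 (a := a) (b := b)
    by_cases ha : a ∈ K <;> by_cases hb : b ∈ K <;> simp [ha, hb, this]
  have e : theta K lam =
      (fun _ => (1 : ℂ)) + (fun h => (sgn h : ℂ)) - Cfsg.indFun K (fun y => (lam y : ℂ)) := by
    funext h
    by_cases hh : h ∈ K
    · rw [show h = ((⟨h, hh⟩ : K) : H) from rfl, theta_mem]
      simp only [Pi.sub_apply, Pi.add_apply]
      rw [ind_linear h2 hinv ⟨h, hh⟩]
      simp only [sgn, MonoidHom.mk'_apply, hh, if_true, Units.val_one]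
      ring
    · rw [theta_not_mem hh]
      simp only [Pi.sub_apply, Pi.add_apply]
      rw [ind_eq_zero_of_not_conj K _ h fun x q => hh (by
        simpa [mul_assoc] using hn.conj_mem _ q x)]
      simp [sgn, hh]
  rw [e]
  exact isGeneralizedCharacter_sub (isGeneralizedCharacter_add
    (isGeneralizedCharacter_of_isCharacter isCharacter_one)
    (isGeneralizedCharacter_of_isCharacter (isCharacter_linear sgn)))
    (isGenChar_ind K (isGeneralizedCharacter_of_isCharacter (isCharacter_linear lam)))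

omit [Fintype H] in
theorem sum_lin [Fintype K] (nu : K →* ℂˣ) [Decidable (nu = 1)] :
    ∑ x : K, (nu x : ℂ) = if nu = 1 then (Nat.card K : ℂ) else 0 := by
  split_ifs with h
  · simp [h, Nat.card_eq_fintype_card]
  · have h0 := classInner_irr_ne (isIrrCharacter_linear nu) isIrrCharacter_one (fun q => h
      (MonoidHom.ext fun x => Units.ext (congrFun q x)))
    simp only [Cfsg.classInner, map_one, mul_one] at h0
    exact (mul_eq_zero.1 h0).resolve_left (by
      simp [Nat.card_pos.ne'])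

theorem card_eq_two_mul (h2 : K.index = 2) : (Nat.card H : ℂ) = 2 * (Nat.card K : ℂ) := by
  rw [← K.index_mul_card, h2]; push_cast; ring

theorem theta_one_inner (h2 : K.index = 2) (hl : lam ≠ 1) :
    Cfsg.classInner (theta K lam) (fun _ => 1) = 1 := by
  classical
  have := Fintype.ofFinite K
  have hl' : lam⁻¹ ≠ 1 := fun h => hl (MonoidHom.ext fun x => inv_eq_one.1 (DFunLike.congr_fun h x))
  simp only [Cfsg.classInner, theta]
  rw [sum_ext_zero_mul]
  simp only [map_one, mul_one, ← MonoidHom.inv_apply, Finset.sum_sub_distrib, Finset.sum_const,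
    Finset.card_univ, nsmul_eq_mul, sum_lin, hl, hl', if_false, sub_zero]
  rw [card_eq_two_mul h2, ← Nat.card_eq_fintype_card]
  have : (Nat.card K : ℂ) ≠ 0 := Nat.cast_ne_zero.2 Nat.card_pos.ne'
  field_simp

omit [Fintype H] in
theorem conj_lin [Finite H] (nu : K →* ℂˣ) (x : K) : conj (nu x : ℂ) = ((nu x)⁻¹ : ℂˣ) := by
  rw [Units.val_inv_eq_inv_val, Complex.inv_eq_conj (norm_linear nu x)]

theorem theta_inner_eq (h2 : K.index = 2) (hl : lam ≠ 1) (hm : mu ≠ 1)
    [Decidable (lam * mu = 1)] [Decidable (lam = mu)] :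
    Cfsg.classInner (theta K lam) (theta K mu) =
      2 + (if lam * mu = 1 then 1 else 0) + (if lam = mu then 1 else 0) := by
  classical
  have := Fintype.ofFinite K
  have hl' : lam⁻¹ ≠ 1 := fun h => hl (MonoidHom.ext fun x => inv_eq_one.1 (DFunLike.congr_fun h x))
  have hm' : mu⁻¹ ≠ 1 := fun h => hm (MonoidHom.ext fun x => inv_eq_one.1 (DFunLike.congr_fun h x))
  have e : ∀ x : K, conj (theta K mu (x : H)) = 2 - (mu x : ℂ) - ((mu x)⁻¹ : ℂˣ) := by
    intro x
    rw [theta_mem, map_sub, map_sub, ← conj_lin mu x, Complex.conj_conj, map_ofNat]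
    ring
  have c : lam * mu⁻¹ = 1 ↔ lam = mu := by
    simp only [DFunLike.ext_iff, MonoidHom.mul_apply, MonoidHom.inv_apply, MonoidHom.one_apply,
      mul_inv_eq_one]
  have i1 : lam⁻¹ * mu = 1 ↔ lam = mu := by
    simp only [DFunLike.ext_iff, MonoidHom.mul_apply, MonoidHom.inv_apply, MonoidHom.one_apply,
      inv_mul_eq_one]
  have i2 : lam⁻¹ * mu⁻¹ = 1 ↔ lam * mu = 1 := by
    simp only [DFunLike.ext_iff, MonoidHom.mul_apply, MonoidHom.inv_apply, MonoidHom.one_apply,
      ← mul_inv, inv_eq_one]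
  conv_lhs => rw [Cfsg.classInner, theta, sum_ext_zero_mul]
  simp only [e]
  have expand : ∀ x : K, (2 - (lam x : ℂ) - ((lam x)⁻¹ : ℂˣ)) *
      (2 - (mu x : ℂ) - ((mu x)⁻¹ : ℂˣ)) = 4 - 2 * (mu x : ℂ) - 2 * (mu⁻¹ x : ℂˣ) -
        2 * (lam x : ℂ) - 2 * (lam⁻¹ x : ℂˣ) + ((lam * mu) x : ℂˣ) + ((lam * mu⁻¹) x : ℂˣ) +
        ((lam⁻¹ * mu) x : ℂˣ) + ((lam⁻¹ * mu⁻¹) x : ℂˣ) := by
    intro x
    simp only [MonoidHom.mul_apply, MonoidHom.inv_apply, Units.val_mul]
    ring
  simp only [expand, Finset.sum_sub_distrib, Finset.sum_add_distrib, ← Finset.mul_sum, sum_lin,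
    hl, hm, hl', hm', if_false, c, i1, i2, Finset.sum_const, Finset.card_univ, nsmul_eq_mul]
  rw [card_eq_two_mul h2, ← Nat.card_eq_fintype_card]
  have : (Nat.card K : ℂ) ≠ 0 := Nat.cast_ne_zero.2 Nat.card_pos.ne'
  split_ifs <;> field_simp <;> ring

theorem theta_norm (h2 : K.index = 2) (hl : lam * lam ≠ 1) :
    Cfsg.classInner (theta K lam) (theta K lam) = 3 := by
  classical
  have hl1 : lam ≠ 1 := fun h => hl (MonoidHom.ext fun x => by simp [h])
  rw [theta_inner_eq h2 hl1 hl1, if_neg hl, if_pos rfl]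
  norm_num

theorem theta_inner (h2 : K.index = 2) (hl : lam ≠ 1) (hm : mu ≠ 1) (h : lam ≠ mu)
    (h' : lam * mu ≠ 1) : Cfsg.classInner (theta K lam) (theta K mu) = 2 := by
  classical
  rw [theta_inner_eq h2 hl hm, if_neg h, if_neg h']
  norm_num

theorem theta_vanish {G : Type u} [Group G] {H' : Subgroup G} {K : Subgroup H'}
    {lam : K →* ℂˣ} {D : Set G} (h : ∀ x : K, lam x ≠ 1 → ((x : H') : G) ∈ D) :
    Vanish D (theta K lam) := by
  intro x hx
  by_cases hk : x ∈ K
  · rw [show x = ((⟨x, hk⟩ : K) : H') from rfl, theta_mem]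
    have : lam ⟨x, hk⟩ = 1 := by
      by_contra q
      exact hx (h ⟨x, hk⟩ q)
    simp [this]
    norm_num
  · exact theta_not_mem hk

end Theta

open scoped Classical in
/-- The sum of `θ` over products of two involutions of `H`. -/
noncomputable def pairSum (H : Subgroup G) [Fintype H] (θ : H → ℂ) : ℂ :=
  ∑ u : H, ∑ w : H, if orderOf u = 2 ∧ orderOf w = 2 then θ (u * w) else 0

/-- The relation coming from counting pairs of involutions. -/
theorem pair_relation {H : Subgroup G} [Fintype H] {D : Set G} (hd : TIData H D)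
    (hconj : ∀ u v : G, orderOf u = 2 → orderOf v = 2 → IsConj u v)
    {t : G} (ht : orderOf t = 2) {θ : H → ℂ} (hv : Vanish D θ)
    {P Q : Cfsg.IrrCharacter G} {e e' : ℤ} (d : Decomp3 (Cfsg.indFun H θ) P Q e e')
    (hzero : Cfsg.indFun H θ t = 0) :
    (Nat.card G : ℂ) * (Nat.card H : ℂ) *
        ((e : ℂ) * (P : G → ℂ) 1 - (e : ℂ) * (P : G → ℂ) t) ^ 2 =
      (Nat.card (Subgroup.centralizer ({t} : Set G)) : ℂ) ^ 2 * pairSum H θ *
        ((e : ℂ) * (P : G → ℂ) 1) * ((e : ℂ) * (P : G → ℂ) 1 + 1) := by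
  classical
  set Γ := Cfsg.indFun H θ with hΓ
  set I := Finset.univ.filter fun u : G => orderOf u = 2 with hI
  have htriv : ∀ g, (trivIrr G : G → ℂ) g = 1 := fun g => rfl
  have hL : ∑ u ∈ I, ∑ w ∈ I, Γ (u * w) = (I.card : ℂ) ^ 2 +
      (e : ℂ) * ((I.card * (P : G → ℂ) t) ^ 2 / (P : G → ℂ) 1) +
      (e' : ℂ) * ((I.card * (Q : G → ℂ) t) ^ 2 / (Q : G → ℂ) 1) := by
    rw [← FourExceptional.sum_involution_pairs hconj ht P,
      ← FourExceptional.sum_involution_pairs hconj ht Q]
    simp only [d.eq, Finset.sum_add_distrib, Finset.mul_sum, Finset.sum_const, nsmul_eq_mul,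
      mul_one]
    rw [← hI]
    ring
  have hR : ∑ u ∈ I, ∑ w ∈ I, Γ (u * w) =
      (Nat.card H : ℂ)⁻¹ * ((Nat.card G : ℂ) * pairSum H θ) := by
    have hinv : ∀ u w : G, orderOf u = 2 → orderOf w = 2 →
        u * (u * w) * u⁻¹ = (u * w)⁻¹ := by
      intro u w hu hw
      have h1 : u⁻¹ = u := inv_eq_of_mul_eq_one_right (by
        rw [← pow_two, ← hu, pow_orderOf_eq_one])
      have h2 : w⁻¹ = w := inv_eq_of_mul_eq_one_right (by
        rw [← pow_two, ← hw, pow_orderOf_eq_one])
      rw [mul_inv_rev, h1, h2, ← mul_assoc]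
      nth_rw 1 [← h1]
      rw [inv_mul_cancel, one_mul]
    have hone : ∀ x : G, ∑ u ∈ I, ∑ w ∈ I, Cfsg.extendByZero H θ (x⁻¹ * (u * w) * x) =
        pairSum H θ := by
      intro x
      have h0 : ∑ u ∈ I, ∑ w ∈ I, Cfsg.extendByZero H θ (x⁻¹ * (u * w) * x) =
          ∑ u ∈ I, ∑ w ∈ I, Cfsg.extendByZero H θ (u * w) := by
        refine Finset.sum_equiv (MulAut.conj x⁻¹).toEquiv (fun u => ?_) fun u _ => ?_
        · simpa [hI] using (Iff.of_eq (congrArg (· = 2) (MulEquiv.orderOf_eq (MulAut.conj x⁻¹) u))).symm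
        refine Finset.sum_equiv (MulAut.conj x⁻¹).toEquiv (fun w => ?_) fun w _ => ?_
        · simpa [hI] using (Iff.of_eq (congrArg (· = 2) (MulEquiv.orderOf_eq (MulAut.conj x⁻¹) w))).symm
        simp [mul_assoc]
      rw [h0]
      have h1 : ∀ u ∈ I, ∀ w ∈ I, ¬ (u ∈ H ∧ w ∈ H) →
          Cfsg.extendByZero H θ (u * w) = 0 := by
        intro u hu w hw hn
        by_cases hm : u * w ∈ H
        · rw [ext_zero_of_mem θ hm]
          refine hv _ fun hD => hn ?_
          have hu' : u ∈ H := hd.ti u (u * w) hD (by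
            rw [hinv u w (Finset.mem_filter.1 hu).2 (Finset.mem_filter.1 hw).2]
            exact hd.inv _ hD)
          exact ⟨hu', (H.mul_mem_cancel_left hu').1 hm⟩
        · exact ext_zero_of_not_mem θ hm
      simp only [pairSum]
      have emb : ∀ f : G → ℂ, (∀ u ∈ I, u ∉ H → f u = 0) →
          ∑ u ∈ I, f u = ∑ u : H, if orderOf u = 2 then f u else 0 := by
        intro f hf
        rw [← Finset.sum_subset (Finset.filter_subset (fun u => u ∈ H) I)
          (fun u hu hu' => hf u hu fun q => hu' (Finset.mem_filter.2 ⟨hu, q⟩)),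
          Finset.sum_filter, hI, Finset.sum_filter]
        rw [← Finset.sum_filter_add_sum_filter_not Finset.univ (fun u : G => u ∈ H),
          Finset.sum_eq_zero (s := Finset.univ.filter fun u : G => u ∉ H) (fun u hu => by
            simp [(Finset.mem_filter.1 hu).2]), add_zero,
          Finset.sum_subtype (p := fun u : G => u ∈ H) _ (by simp)]
        refine Finset.sum_congr rfl fun u _ => ?_
        simp [Subgroup.orderOf_coe]
      rw [emb _ fun u hu hn => Finset.sum_eq_zero fun w hw => h1 u hu w hw fun q => hn q.1]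
      refine Finset.sum_congr rfl fun u _ => ?_
      split_ifs with hu
      · rw [emb _ fun w hw hn => h1 u (by simp [hI, hu]) w hw fun q => hn q.2]
        refine Finset.sum_congr rfl fun w _ => ?_
        by_cases hw : orderOf w = 2
        · simp only [hu, hw, and_self, if_true]
          exact ext_zero_coe θ (u * w)
        · simp [hw]
      · simp [hu]
    rw [hΓ]
    simp only [indFun_apply, ← Finset.mul_sum]
    congr 1
    rw [Finset.sum_congr rfl fun u _ => Finset.sum_comm, Finset.sum_comm,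
      Finset.sum_congr rfl fun x _ => hone x, Finset.sum_const, Finset.card_univ, nsmul_eq_mul,
      Nat.card_eq_fintype_card]
  have hIc : (I.card : ℂ) * (Nat.card (Subgroup.centralizer ({t} : Set G)) : ℂ) =
      (Nat.card G : ℂ) := by
    have h := CharBasicOrth.card_conj_mul_card_centralizer t
    have e : I.card = Nat.card {g // IsConj t g} := by
      rw [Nat.card_eq_fintype_card, Fintype.card_subtype, hI]
      refine congrArg Finset.card (Finset.filter_congr fun u _ => ⟨fun hu => hconj t u ht hu, ?_⟩)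
      intro hc
      obtain ⟨c, rfl⟩ := isConj_iff.1 hc
      rw [S3279.order_conj, ht]
    rw [e]
    exact_mod_cast h
  rw [hR] at hL
  have q1 := d.deg (ind_apply_one hd hv)
  have qt := (d.eq t).symm.trans hzero
  have hP := isIrrCharacter_apply_one_ne_zero P.2
  have hQ := isIrrCharacter_apply_one_ne_zero Q.2
  have hH := card_subgroup_ne_zero H
  have hC : (Nat.card (Subgroup.centralizer ({t} : Set G)) : ℂ) ≠ 0 :=
    card_subgroup_ne_zero _
  rw [← hIc] at hL ⊢
  field_simp at hL
  have hee : (e : ℂ) * e = 1 := by rcases d.he with h | h <;> simp [h]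
  have hee' : (e' : ℂ) * e' = 1 := by rcases d.he' with h | h <;> simp [h]
  generalize (P : G → ℂ) 1 = p1 at *
  generalize (Q : G → ℂ) 1 = q1v at *
  generalize (P : G → ℂ) t = pt at *
  generalize (Q : G → ℂ) t = qtv at *
  have hi : (I.card : ℂ) ≠ 0 := Nat.cast_ne_zero.2
    (Finset.card_ne_zero.2 ⟨t, Finset.mem_filter.2 ⟨Finset.mem_univ t, ht⟩⟩)
  generalize (I.card : ℂ) = i at *
  generalize (Nat.card (Subgroup.centralizer ({t} : Set G)) : ℂ) = c at *
  generalize (Nat.card H : ℂ) = n at *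
  generalize pairSum H θ = S at *
  obtain rfl : q1v = -(e' : ℂ) * (1 + (e : ℂ) * p1) := by
    linear_combination (e' : ℂ) * q1 - q1v * hee'
  obtain rfl : qtv = -(e' : ℂ) * (1 + (e : ℂ) * pt) := by
    linear_combination (e' : ℂ) * qt - qtv * hee'
  refine mul_left_cancel₀ hi ?_
  rcases d.he with he | he <;> rcases d.he' with he' | he' <;> subst he <;> subst he' <;>
    push_cast at hL ⊢ <;> first | linear_combination c * hL | linear_combination -c * hL

end Cfsg.Agent.CycSyl43TI
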