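import Mathlib
import Cfsg.Agent.Lib.CycSyl43RefLocal86
import Cfsg.Agent.Lib.CycSyl43TI
import Cfsg.Agent.Lib.CycSyl43Section
import Cfsg.Agent.Lib.ZStarCount
import Cfsg.Agent.Lib.DihedralOrder79
import Cfsg.Agent.Lib.DihedralBlockMain79
import Cfsg.Agent.Lib.CycSyl43RefArith86

/-!
The two order formulas of the remaining configuration.
-/

set_option autoImplicit false
set_option linter.style.haveILetI false

open scoped ComplexConjugate

namespace Cfsg.Agent.CycSyl43RefChar86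

open CycSyl43 CycSyl43RefBasic86 CycSyl43RefCent86 CycSyl43RefLocal86

universe u

variable {T : Type u} [Group T] [Finite T]

/-- In a finite cyclic group, elements of equal order generate the same subgroup. -/
theorem cyclic_mem_zpowers {G : Type*} [Group G] [Finite G] [IsCyclic G] {a b : G}
    (h : orderOf a = orderOf b) : a ∈ Subgroup.zpowers b := by
  letI := IsCyclic.commGroup (α := G)
  have hle : Subgroup.zpowers b ≤ (powMonoidHom (orderOf b) : G →* G).ker := by
    rw [Subgroup.zpowers_le, MonoidHom.mem_ker, powMonoidHom_apply, pow_orderOf_eq_one]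
  rw [Subgroup.eq_of_le_of_card_ge hle (by
    rw [IsCyclic.card_powMonoidHom_ker, Nat.card_zpowers, Nat.gcd_eq_right (orderOf_dvd_natCard _)]),
    MonoidHom.mem_ker, powMonoidHom_apply, ← h, pow_orderOf_eq_one]

/-- Commuting elements of the same odd prime order generate the same subgroup. -/
theorem same_sub (hodd : OddCyclic T) {a b : T} {r : ℕ} (hr : r.Prime) (hr2 : r ≠ 2)
    (ha : orderOf a = r) (hb : orderOf b = r) (hab : a * b = b * a) : a ∈ Subgroup.zpowers b := by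
  haveI : Fact r.Prime := ⟨hr⟩
  set K : Subgroup T := Subgroup.closure {a, b} with hK
  have haK : a ∈ K := Subgroup.subset_closure (by simp)
  have hbK : b ∈ K := Subgroup.subset_closure (by simp)
  have hpair : ∀ i ∈ ({a, b} : Set T), i ^ r = 1 := by
    rintro i (rfl | rfl)
    · rw [← ha, pow_orderOf_eq_one]
    · rw [← hb, pow_orderOf_eq_one]
  letI : CommGroup K := Subgroup.closureCommGroupOfComm (by
    rintro x (rfl | rfl) y (rfl | rfl) <;> first | rfl | exact hab | exact hab.symm)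
  have hP : IsPGroup r K := by
    intro x
    refine ⟨1, Subtype.ext ?_⟩
    rw [pow_one, SubmonoidClass.coe_pow, OneMemClass.coe_one]
    obtain ⟨x, hx⟩ := x
    show x ^ r = 1
    induction hx using Subgroup.closure_induction with
    | mem x hx => exact hpair x hx
    | one => exact one_pow r
    | mul x y hx hy e e' =>
      have : Commute x y := congrArg Subtype.val (mul_comm (⟨x, hx⟩ : K) ⟨y, hy⟩)
      rw [this.mul_pow, e, e', one_mul]
    | inv x hx e => rw [inv_pow, e, inv_one]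
  obtain ⟨Q, hQ⟩ := hP.exists_le_sylow
  haveI := hodd r hr hr2 Q
  obtain ⟨i, hi⟩ := cyclic_mem_zpowers (G := (Q : Subgroup T)) (a := ⟨a, hQ haK⟩) (b := ⟨b, hQ hbK⟩)
    (by rw [Subgroup.orderOf_mk, Subgroup.orderOf_mk, ha, hb])
  exact ⟨i, congrArg Subtype.val hi⟩

variable {S : Sylow 2 T} {t : T} {O : Subgroup T} {σ : T} {k : ℕ} {y u₀ : T}

/-- The elements of `C(y)` of order divisible by that of `y`. -/
def dset (y : T) : Set T := {x | x * y = y * x ∧ orderOf y ∣ orderOf x}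

theorem order_ne_two (c : Ctx S t O σ k y u₀) : orderOf y ≠ 2 := fun e => by
  have := c.odd_order; rw [e] at this; exact absurd this (by decide)

theorem mem_zpowers_of_mem (c : Ctx S t O σ k y u₀) (hodd : OddCyclic T) {x : T} (hx : x ∈ dset y) :
    y ∈ Subgroup.zpowers x := by
  obtain ⟨hxy, hdvd⟩ := hx
  have ho := orderOf_pow_orderOf_div (orderOf_pos x).ne' hdvd
  obtain ⟨i, hi⟩ := same_sub hodd c.prime (order_ne_two c) rfl ho
    ((show Commute x y from hxy).pow_left _).eq.symm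
  exact hi ▸ Subgroup.zpow_mem _ (Subgroup.pow_mem _ (Subgroup.mem_zpowers x) _) i

theorem tiData (c : Ctx S t O σ k y u₀) (hodd : OddCyclic T) : TIData (pm y) (dset y) where
  sub x hx := cent_le_pm y (mem_C.2 hx.1)
  one h := c.prime.ne_one (Nat.dvd_one.1 (orderOf_one (G := T) ▸ h.2))
  inv x hx := ⟨(show Commute x y from hx.1).inv_left.eq, by rw [orderOf_inv]; exact hx.2⟩
  conjH h hh x hx := by
    refine ⟨?_, by rw [show h * x * h⁻¹ = MulAut.conj h x from rfl, MulEquiv.orderOf_eq]; exact hx.2⟩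
    have h1 : Commute (h * x * h⁻¹) (h * y * h⁻¹) := by
      show h * x * h⁻¹ * (h * y * h⁻¹) = h * y * h⁻¹ * (h * x * h⁻¹)
      rw [show h * x * h⁻¹ * (h * y * h⁻¹) = h * (x * y) * h⁻¹ by group, hx.1]; group
    rcases hh with e | e <;> rw [e] at h1
    · exact h1.eq
    · exact (Commute.inv_right_iff.1 h1).eq
  ti g x hx hgx := by
    refine norm_pm c ?_
    have h1 := mem_zpowers_of_mem c hodd hx
    have h2 := mem_zpowers_of_mem c hodd hgx
    have h3 : g * y * g⁻¹ ∈ Subgroup.zpowers (g * x * g⁻¹) := by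
      obtain ⟨i, hi⟩ := h1
      exact ⟨i, by
        show (g * x * g⁻¹) ^ i = g * y * g⁻¹
        rw [conj_zpow, show x ^ i = y from hi]⟩
    obtain ⟨j, hj⟩ := cyclic_mem_zpowers (G := Subgroup.zpowers (g * x * g⁻¹)) (a := ⟨_, h3⟩) (b := ⟨y, h2⟩)
      (by rw [Subgroup.orderOf_mk, Subgroup.orderOf_mk, show g * y * g⁻¹ = MulAut.conj g y from rfl,
        MulEquiv.orderOf_eq])
    exact ⟨j, congrArg Subtype.val hj⟩

theorem not_dset_two (c : Ctx S t O σ k y u₀) {x : T} (hx : orderOf x = 2) : x ∉ dset y := fun h =>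
  order_ne_two c ((Nat.prime_dvd_prime_iff_eq c.prime Nat.prime_two).1 (hx ▸ h.2))

variable (c : Ctx S t O σ k y u₀) (hA : Assembly.{u}) (hm : CycSyl43.Min T)
include c hA hm

theorem index_C : ((Subgroup.centralizer ({y} : Set T)).subgroupOf (pm y)).index = 2 := by
  have := Subgroup.index_mul_card ((Subgroup.centralizer ({y} : Set T)).subgroupOf (pm y))
  rw [Nat.card_congr (Subgroup.subgroupOfEquivOfLe (cent_le_pm y)).toEquiv, card_C c hA hm,
    card_pm c hA hm] at this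
  have hk : 0 < Nat.card O := Nat.card_pos
  exact Nat.eq_of_mul_eq_mul_right (show 0 < 12 * Nat.card O by omega) (by rw [this]; ring)

/-- A linear character of `C(y)` inverted by the outer elements and nontrivial on `y`. -/
theorem exists_lam :
    ∃ lam : (Subgroup.centralizer ({y} : Set T)).subgroupOf (pm y) →* ℂˣ,
      (∀ h : pm y, h ∉ (Subgroup.centralizer ({y} : Set T)).subgroupOf (pm y) →
        ∀ a b : (Subgroup.centralizer ({y} : Set T)).subgroupOf (pm y),
          (b : pm y) = h * a * h⁻¹ → lam b = (lam a)⁻¹) ∧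
      (∀ a : (Subgroup.centralizer ({y} : Set T)).subgroupOf (pm y),
        ¬ orderOf y ∣ orderOf ((a : pm y) : T) → lam a = 1) ∧
      ∀ a : (Subgroup.centralizer ({y} : Set T)).subgroupOf (pm y),
        ((a : pm y) : T) = y → lam a ≠ 1 ∧ lam a * lam a ≠ 1 := by
  classical
  set C := Subgroup.centralizer ({y} : Set T) with hC
  haveI : Fact (orderOf y).Prime := ⟨c.prime⟩
  have hyC : y ∈ C := mem_C.2 rfl
  obtain ⟨P, hP⟩ := (IsPGroup.of_card (p := orderOf y) (n := 1)
    (G := Subgroup.zpowers (⟨y, hyC⟩ : C)) (by rw [Nat.card_zpowers, Subgroup.orderOf_mk, pow_one])).exists_le_sylow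
  haveI hcyc : IsCyclic (P : Subgroup C) := oddCyclic_sub hm.hodd C (orderOf y) c.prime (order_ne_two c) P
  set N := Nat.card (P : Subgroup C) with hN
  haveI : NeZero N := ⟨Nat.card_pos.ne'⟩
  haveI : IsCyclic (rootsOfUnity N ℂ) := inferInstance
  let φ : (P : Subgroup C) ≃* rootsOfUnity N ℂ :=
    mulEquivOfCyclicCardEq (by rw [Complex.card_rootsOfUnity])
  let Φ : C →* rootsOfUnity N ℂ := MonoidHom.transfer φ.toMonoidHom
  have hyP : (⟨y, hyC⟩ : C) ∈ (P : Subgroup C) := hP (Subgroup.mem_zpowers _)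
  have hNp : ∃ e : ℕ, N = orderOf y ^ e := IsPGroup.iff_card.1 P.isPGroup'
  have hΦy : orderOf (Φ ⟨y, hyC⟩) = orderOf y := by
    have hcent : ∀ g : C, g * ⟨y, hyC⟩ = ⟨y, hyC⟩ * g := fun g => Subtype.ext (mem_C.1 g.2)
    rw [show Φ ⟨y, hyC⟩ = _ from MonoidHom.transfer_eq_pow _ (⟨y, hyC⟩ : C) fun j g₀ _ => by
      rw [mul_assoc, ← (show Commute g₀ ((⟨y, hyC⟩ : C) ^ j) from Commute.pow_right (hcent g₀) j).eq,
        inv_mul_cancel_left]]
    show orderOf (φ _) = _
    rw [MulEquiv.orderOf_eq, ← Subgroup.orderOf_coe]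
    show orderOf ((⟨y, hyC⟩ : C) ^ (P : Subgroup C).index) = _
    rw [orderOf_pow, Subgroup.orderOf_mk,
      Nat.Coprime.gcd_eq_one ((Nat.Prime.coprime_iff_not_dvd c.prime).2 P.not_dvd_index), Nat.div_one]
  have hΦ1 : ∀ a : C, ¬ orderOf y ∣ orderOf (a : T) → Φ a = 1 := by
    intro a ha
    refine orderOf_eq_one_iff.1 ?_
    have h1 : orderOf (Φ a) ∣ orderOf (a : T) := by
      rw [Subgroup.orderOf_coe]; exact orderOf_map_dvd Φ a
    have h2 : orderOf (Φ a) ∣ N := by
      have := orderOf_dvd_natCard (Φ a)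
      rwa [Complex.card_rootsOfUnity] at this
    obtain ⟨e, he⟩ := hNp
    obtain ⟨i, -, hi⟩ := (Nat.dvd_prime_pow c.prime).1 (h2.trans he.dvd)
    rcases Nat.eq_zero_or_pos i with rfl | hpos
    · simpa using hi
    · rw [hi] at h1
      exact absurd ((dvd_pow_self _ hpos.ne').trans h1) ha
  obtain ⟨hwS, hw2, -, hwy⟩ := w_facts c
  generalize σ * u₀ = w at hwS hw2 hwy
  have hww := mul_self_of hw2
  have hwi : w⁻¹ = w := inv_eq_of_mul_eq_one_right hww
  rw [hwi] at hwy
  have hwC : ∀ a : C, w * a * w ∈ C := fun a => mem_C.2 <| by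
    have h : (a : T) * y⁻¹ = y⁻¹ * a := (show Commute (a : T) y from mem_C.1 a.2).inv_right.eq
    rw [← hwy] at h
    calc w * a * w * y = w * ((a : T) * (w * y * w)) * w⁻¹ := by group
      _ = w * (w * y * w * a) * w⁻¹ := by rw [h]
      _ = (w * w) * y * (w * a * w) := by rw [hwi]; group
      _ = y * (w * a * w) := by rw [hww, one_mul]
  let cw : C →* C :=
    { toFun := fun a => ⟨w * a * w, hwC a⟩
      map_one' := Subtype.ext (by show w * 1 * w = 1; rw [mul_one, hww])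
      map_mul' := fun a b => Subtype.ext (by
        show w * ((a : T) * b) * w = w * a * w * (w * b * w)
        rw [show w * (a : T) * w * (w * b * w) = w * a * (w * w) * b * w by group, hww]; group) }
  let ι : C.subgroupOf (pm y) →* C := (Subgroup.subgroupOfEquivOfLe (cent_le_pm y)).toMonoidHom
  let Λ : C →* ℂˣ := (rootsOfUnity N ℂ).subtype.comp (Φ * (Φ.comp cw)⁻¹)
  refine ⟨Λ.comp ι, ?_, ?_, ?_⟩
  · intro h hh a b hb
    have hhy : (h : T) * y * (h : T)⁻¹ = y⁻¹ := h.2.resolve_left fun e => hh (by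
      rw [Subgroup.mem_subgroupOf, hC, mem_C]; exact mul_inv_eq_iff_eq_mul.1 e)
    have hc' : (h : T) * w ∈ C := mem_C.2 <| mul_inv_eq_iff_eq_mul.1 <| by
      rw [show (h : T) * w * y * ((h : T) * w)⁻¹ = (h : T) * (w * y * w⁻¹) * (h : T)⁻¹ by group, hwi, hwy,
        show (h : T) * y⁻¹ * (h : T)⁻¹ = ((h : T) * y * (h : T)⁻¹)⁻¹ by group, hhy, inv_inv]
    set c' : C := ⟨(h : T) * w, hc'⟩ with hc'def
    have e1 : ι b = c' * cw (ι a) * c'⁻¹ := by
      apply Subtype.ext
      show ((b : pm y) : T) = (h : T) * w * (w * ((a : pm y) : T) * w) * ((h : T) * w)⁻¹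
      rw [hb, Subgroup.coe_mul, Subgroup.coe_mul, Subgroup.coe_inv,
        show (h : T) * w * (w * ((a : pm y) : T) * w) * ((h : T) * w)⁻¹ =
          (h : T) * (w * w) * ((a : pm y) : T) * (h : T)⁻¹ by group, hww, mul_one]
    have e2 : cw (ι b) = cw c' * ι a * (cw c')⁻¹ := by
      rw [e1, map_mul, map_mul, map_inv]
      congr 2
      exact Subtype.ext (by
        show w * (w * ((a : pm y) : T) * w) * w = ((a : pm y) : T)
        rw [← mul_assoc, ← mul_assoc, hww, one_mul, mul_assoc, hww, mul_one])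
    have f1 : Φ (ι b) = Φ (cw (ι a)) := by
      rw [e1, map_mul, map_mul, map_inv, mul_comm, inv_mul_cancel_left]
    have f2 : Φ (cw (ι b)) = Φ (ι a) := by
      rw [e2, map_mul, map_mul, map_inv, mul_comm, inv_mul_cancel_left]
    simp only [Λ, MonoidHom.comp_apply, MonoidHom.mul_apply, MonoidHom.inv_apply, f1, f2]
    rw [map_mul, map_mul, map_inv, map_inv, mul_inv_rev, inv_inv]
  · intro a ha
    have h1 : Φ (ι a) = 1 := hΦ1 _ ha
    have h2 : Φ (cw (ι a)) = 1 := hΦ1 _ (by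
      show ¬ orderOf y ∣ orderOf (w * ((a : pm y) : T) * w)
      have e : w * ((a : pm y) : T) * w = MulAut.conj w ((a : pm y) : T) := by rw [MulAut.conj_apply, hwi]
      rwa [e, MulEquiv.orderOf_eq])
    simp only [Λ, MonoidHom.comp_apply, MonoidHom.mul_apply, MonoidHom.inv_apply, h1, h2, inv_one,
      mul_one, map_one]
  · intro a ha
    have e1 : ι a = ⟨y, hyC⟩ := Subtype.ext ha
    have e2 : cw (ι a) = (⟨y, hyC⟩ : C)⁻¹ := Subtype.ext (by
      show w * ((a : pm y) : T) * w = y⁻¹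
      rw [ha, hwy])
    have hval : (Λ.comp ι) a = ((Φ ⟨y, hyC⟩ ^ 2 : rootsOfUnity N ℂ) : ℂˣ) := by
      simp only [Λ, MonoidHom.comp_apply, MonoidHom.mul_apply, MonoidHom.inv_apply, e2, map_inv, inv_inv]
      rw [e1, pow_two]
      rfl
    have hne : ∀ j : ℕ, j = 2 ∨ j = 4 → Φ ⟨y, hyC⟩ ^ j ≠ 1 := by
      intro j hj e
      have hd := orderOf_dvd_of_pow_eq_one e
      rw [hΦy] at hd
      have hd4 : orderOf y ∣ 2 ^ 2 := hd.trans (by rcases hj with rfl | rfl <;> norm_num)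
      exact order_ne_two c ((Nat.prime_dvd_prime_iff_eq c.prime Nat.prime_two).1 (c.prime.dvd_of_dvd_pow hd4))
    refine ⟨fun e => hne 2 (Or.inl rfl) ?_, fun e => hne 4 (Or.inr rfl) ?_⟩
    · rw [hval] at e
      exact Subtype.ext e
    · rw [hval] at e
      refine Subtype.ext ?_
      show (((Φ ⟨y, hyC⟩) ^ 4 : rootsOfUnity N ℂ) : ℂˣ) = 1
      rw [← e, show (4 : ℕ) = 2 + 2 from rfl, pow_add]
      rfl

/-- The first order formula. -/
theorem first_formula [Fintype T] :
    ∃ X : ℤ, (Nat.card T : ℤ) * ((X - 1) ^ 2) = 192 * (Nat.card O : ℤ) ^ 3 * (X * (X + 1)) := by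
  classical
  haveI : Fintype (pm y) := Fintype.ofFinite _
  set H := pm y with hH
  set C := Subgroup.centralizer ({y} : Set T) with hC
  set K := C.subgroupOf H with hK
  haveI : Fintype K := Fintype.ofFinite _
  obtain ⟨lam, hinv, htriv, hyl⟩ := exists_lam c hA hm
  have h2 : K.index = 2 := index_C c hA hm
  have hd := tiData c hm.hodd
  have hyC : y ∈ C := mem_C.2 rfl
  let yK : K := ⟨⟨y, cent_le_pm y hyC⟩, hyC⟩
  obtain ⟨hl1, hl2⟩ := hyl yK rfl
  have hlne : lam ≠ 1 := fun e => hl1 (by rw [e]; rfl)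
  have hlsq : lam * lam ≠ 1 := fun e => hl2 (by rw [← MonoidHom.mul_apply, e]; rfl)
  set θ := CycSyl43TI.theta K lam with hθ
  have hv : CycSyl43TI.Vanish (dset y) θ := by
    refine CycSyl43TI.theta_vanish fun a ha => ⟨mem_C.1 a.2, ?_⟩
    by_contra hn
    exact ha (htriv a hn)
  have hgen : Cfsg.IsGeneralizedCharacter H θ := CycSyl43TI.theta_gen h2 hinv
  have hcf : Cfsg.IsClassFunction H θ :=
    CharBasicDecomp.isClassFunction_of_isGeneralizedCharacter hgen
  obtain ⟨P₀, Q₀, e₀, e₀', d₀⟩ := CycSyl43TI.decomp3 hd hgen hv (CycSyl43TI.theta_one_inner h2 hlne)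
    (CycSyl43TI.theta_norm h2 hlsq)
  set Γ := Cfsg.indFun H θ with hΓ
  have hΓt : Γ t = 0 := CycSyl43TI.ind_eq_zero hv fun x => not_dset_two c (by
    rw [show x⁻¹ * t * x = MulAut.conj x⁻¹ t by rw [MulAut.conj_apply, inv_inv], MulEquiv.orderOf_eq, c.dih.ot])
  have hab := (d₀.eq t).symm.trans hΓt
  -- the average over the section of `t`
  obtain ⟨M, hM⟩ := ZStarCount.exists_isPModular 2 Nat.prime_two
  have hOn : (O.subgroupOf (Subgroup.centralizer ({t} : Set T))).Normal :=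
    ⟨fun a ha g => c.dih.normal g g.2 a ha⟩
  haveI := hOn
  have h2q : IsPGroup 2 (↥(Subgroup.centralizer ({t} : Set T)) ⧸
      O.subgroupOf (Subgroup.centralizer ({t} : Set T))) := by
    refine IsPGroup.of_card (n := 3) ?_
    have hmul := Subgroup.card_eq_card_quotient_mul_card_subgroup
      (O.subgroupOf (Subgroup.centralizer ({t} : Set T)))
    rw [card_Ct c hA hm, Nat.card_congr (Subgroup.subgroupOfEquivOfLe c.dih.le).toEquiv] at hmul
    exact (Nat.eq_of_mul_eq_mul_right Nat.card_pos hmul).symm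
  have hΓcf : Cfsg.IsClassFunction T Γ :=
    CharBasicDecomp.isClassFunction_of_isGeneralizedCharacter (CharInduced.isGenChar_ind H hgen)
  have hsec := CycSyl43.section_sum T M hM t O ⟨1, by rw [c.dih.ot]; rfl⟩ c.dih.le hOn c.dih.odd
    (fun χ hχ => CycSyl43.section_hyp_two hM h2q χ hχ) Γ hΓcf
  -- the values on the section
  have hOC : ∀ o : O, (o : T) ∈ C := fun o => mem_C.2 (c.O_comm o.2)
  let ψ : O →* ℂˣ :=
    { toFun := fun o => lam ⟨⟨o, cent_le_pm y (hOC o)⟩, hOC o⟩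
      map_one' := by rw [← map_one lam]; rfl
      map_mul' := fun a b => by rw [← map_mul]; rfl }
  have htC : t ∈ C := mem_C.2 (t_comm c)
  have hlt : lam ⟨⟨t, cent_le_pm y htC⟩, htC⟩ = 1 := htriv _ (fun h => by
    rw [c.dih.ot] at h
    exact order_ne_two c ((Nat.prime_dvd_prime_iff_eq c.prime Nat.prime_two).1 h))
  have hto : ∀ o : O, Γ (t * o) = 2 - (ψ o : ℂ) - ((ψ o)⁻¹ : ℂˣ) := by
    intro o
    have hoy := c.O_comm o.2
    have htoC : t * (o : T) ∈ C := mul_mem htC (hOC o)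
    have hψ : lam ⟨⟨t * (o : T), cent_le_pm y htoC⟩, htoC⟩ = ψ o := by
      rw [show (⟨⟨t * (o : T), cent_le_pm y htoC⟩, htoC⟩ : K) =
        ⟨⟨t, cent_le_pm y htC⟩, htC⟩ * ⟨⟨o, cent_le_pm y (hOC o)⟩, hOC o⟩ from rfl, map_mul, hlt, one_mul]
      rfl
    by_cases hD : orderOf y ∣ orderOf (t * (o : T))
    · rw [hΓ, show t * (o : T) = ((⟨t * (o : T), cent_le_pm y htoC⟩ : H) : T) from rfl,
        CycSyl43TI.ind_apply hd hcf hv _ ⟨mem_C.1 htoC, hD⟩,
        show (⟨t * (o : T), cent_le_pm y htoC⟩ : H) =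
          (((⟨⟨t * (o : T), cent_le_pm y htoC⟩, htoC⟩ : K)) : H) from rfl,
        hθ, CycSyl43TI.theta_mem, hψ]
    · have hψ1 : ψ o = 1 := by rw [← hψ]; exact htriv _ hD
      rw [hψ1, hΓ, CycSyl43TI.ind_eq_zero hv fun x hx => hD (by
        have := hx.2
        rwa [show x⁻¹ * (t * (o : T)) * x = MulAut.conj x⁻¹ (t * (o : T)) by rw [MulAut.conj_apply, inv_inv],
          MulEquiv.orderOf_eq] at this)]
      simp; norm_num
  have hψne : ψ ≠ 1 := fun e => hl1 (DFunLike.congr_fun e (⟨y, c.hy⟩ : O))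
  have hsum : ∑ᶠ o ∈ (O : Set T), Γ (t * o) = 2 * (Nat.card O : ℂ) := by
    haveI : Fintype O := Fintype.ofFinite _
    rw [← finsum_set_coe_eq_finsum_mem, show (∑ᶠ o : ((O : Set T) : Type u), Γ (t * o)) = ∑ᶠ o : O, Γ (t * o) from rfl,
      finsum_eq_sum_of_fintype]
    simp only [hto]
    rw [Finset.sum_sub_distrib, Finset.sum_sub_distrib,
      Finset.sum_const, Finset.card_univ, nsmul_eq_mul]
    have h0 : ∀ φ : O →* ℂˣ, φ ≠ 1 → ∑ o : O, (φ o : ℂ) = 0 := fun φ hφ => by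
      have hφ' : φ.comp (MonoidHom.id O) ≠ 1 := by rwa [MonoidHom.comp_id]
      obtain ⟨b, hb⟩ := DFunLike.ne_iff.1 hφ
      have h1 : (φ b : ℂ) * ∑ o : O, (φ o : ℂ) = ∑ o : O, (φ o : ℂ) := by
        rw [Finset.mul_sum]
        exact Fintype.sum_equiv (Equiv.mulLeft b) _ _ fun o => by simp
      by_contra hS
      exact hb (Units.ext (mul_right_cancel₀ hS (by rw [h1, MonoidHom.one_apply, Units.val_one, one_mul])))
    have hψi : ψ⁻¹ ≠ 1 := fun e => hψne (MonoidHom.ext fun o => inv_eq_one.1 (DFunLike.congr_fun e o))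
    simp only [← MonoidHom.inv_apply, h0 ψ hψne, h0 ψ⁻¹ hψi, sub_zero, ← Nat.card_eq_fintype_card]
    ring
  rw [hsum, mul_comm (2 : ℂ), ← mul_assoc, inv_mul_cancel₀ (Nat.cast_ne_zero.2 Nat.card_pos.ne'), one_mul] at hsec
  -- exactly one exceptional constituent lies in the principal block
  obtain ⟨P, Q, e, e', d, ha⟩ : ∃ (P Q : Cfsg.IrrCharacter T) (e e' : ℤ),
      CycSyl43TI.Decomp3 Γ P Q e e' ∧ (e : ℂ) * (P : T → ℂ) t = 1 := by
    have htm : CharBasicDecomp.trivIrr T ∈ Cfsg.principalBlock M T := BlockPrincipal81.oneChar_mem hM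
    have hcalc : (∑ᶠ χ ∈ Cfsg.principalBlock M T, Cfsg.classInner Γ (χ : T → ℂ) * (χ : T → ℂ) t) =
        1 + (if P₀ ∈ Cfsg.principalBlock M T then (e₀ : ℂ) * (P₀ : T → ℂ) t else 0) +
          (if Q₀ ∈ Cfsg.principalBlock M T then (e₀' : ℂ) * (Q₀ : T → ℂ) t else 0) := by
      haveI : Fintype (Cfsg.IrrCharacter T) := Fintype.ofFinite _
      rw [finsum_mem_eq_finite_toFinset_sum _ (Set.toFinite _)]
      simp only [d₀.inner_irr]
      push_cast
      simp only [add_mul, Finset.sum_add_distrib, ite_mul, zero_mul, Finset.sum_ite_eq,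
        Set.Finite.mem_toFinset, if_pos htm]
      rw [show (CharBasicDecomp.trivIrr T : T → ℂ) t = 1 from rfl, mul_one]
    rw [hcalc] at hsec
    by_cases hP : P₀ ∈ Cfsg.principalBlock M T
    · by_cases hQ : Q₀ ∈ Cfsg.principalBlock M T
      · rw [if_pos hP, if_pos hQ, hab] at hsec
        norm_num at hsec
      · rw [if_pos hP, if_neg hQ, add_zero] at hsec
        exact ⟨P₀, Q₀, e₀, e₀', d₀, by linear_combination hsec⟩
    · by_cases hQ : Q₀ ∈ Cfsg.principalBlock M T
      · rw [if_neg hP, if_pos hQ, add_zero] at hsec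
        exact ⟨Q₀, P₀, e₀', e₀, d₀.swap, by linear_combination hsec⟩
      · rw [if_neg hP, if_neg hQ] at hsec
        norm_num at hsec
  -- the pair count
  have hrel := CycSyl43TI.pair_relation hd c.dih.fusion c.dih.ot hv d hΓt
  obtain ⟨hwS, hw2, -, hwy⟩ := w_facts c
  set A := Finset.univ.filter (fun z : H => orderOf z = 2 ∧ z ∉ K) with hAdef
  have hmemA : ∀ z : H, z ∈ A ↔ orderOf (z : T) = 2 ∧ (z : T) * y * (z : T)⁻¹ = y⁻¹ := by
    intro z
    rw [hAdef, Finset.mem_filter, Subgroup.orderOf_coe, hK, Subgroup.mem_subgroupOf, hC, mem_C]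
    simp only [Finset.mem_univ, true_and]
    refine and_congr_right fun _ => ⟨fun h => z.2.resolve_left fun e => h (mul_inv_eq_iff_eq_mul.1 e),
      fun e h => c.y_ne_inv (e.symm.trans (mul_inv_eq_iff_eq_mul.2 h))⟩
  obtain ⟨w₀, hw₀⟩ : ∃ w₀ : H, (w₀ : T) = σ * u₀ := ⟨⟨σ * u₀, Or.inr hwy⟩, rfl⟩
  let g₀ : H → ℂ := fun z => if h : z * w₀ ∈ K then (lam ⟨z * w₀, h⟩ : ℂ) else 0
  have hw₀K : w₀ ∉ K := fun h => c.y_ne_inv (hwy.symm.trans (mul_inv_eq_iff_eq_mul.2 (hw₀ ▸ mem_C.1 h)))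
  have hprod : ∀ {z z' : H}, z ∉ K → z' ∉ K → z * z' ∈ K := fun hz hz' =>
    (Subgroup.mul_mem_iff_of_index_two h2).2 (by simp [hz, hz'])
  have hcardA : A.card = 6 * Nat.card O := by
    have ho := card_orbit C (σ * u₀)
    have hst : Nat.card (C ⊓ Subgroup.centralizer ({σ * u₀} : Set T) : Subgroup T) = 2 := by
      have : ((C ⊓ Subgroup.centralizer ({σ * u₀} : Set T) : Subgroup T) : Set T) = {1, t} := by
        ext g
        constructor
        · rintro ⟨hg, hg'⟩
          exact w_cent c hA hm (mem_C.1 hg) (Subgroup.mem_centralizer_singleton_iff.1 hg')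
        · rintro (rfl | rfl)
          · exact one_mem _
          · exact ⟨htC, Subgroup.mem_centralizer_singleton_iff.2 (c.dih.central _ hwS).symm⟩
      rw [← SetLike.coe_sort_coe, this, Nat.card_coe_set_eq,
        Set.ncard_pair (ne_one_of_two c.dih.ot).symm]
    have hset : Nat.card {x : T // ∃ g ∈ C, g * (σ * u₀) * g⁻¹ = x} = A.card := by
      rw [← Fintype.card_coe, ← Nat.card_eq_fintype_card]
      have hfw : ∀ x : T, (∃ g ∈ C, g * (σ * u₀) * g⁻¹ = x) → orderOf x = 2 ∧ x * y * x⁻¹ = y⁻¹ := by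
        rintro x ⟨g, hg, rfl⟩
        refine ⟨(MulEquiv.orderOf_eq (MulAut.conj g) _).trans hw2, ?_⟩
        rw [show g * (σ * u₀) * g⁻¹ * y * (g * (σ * u₀) * g⁻¹)⁻¹ =
          g * (σ * u₀ * (g⁻¹ * y * g) * (σ * u₀)⁻¹) * g⁻¹ by group,
          show g⁻¹ * y * g = y by rw [mul_assoc, ← mem_C.1 hg, inv_mul_cancel_left], hwy,
          show g * y⁻¹ * g⁻¹ = (g * y * g⁻¹)⁻¹ by group, mul_inv_eq_iff_eq_mul.2 (mem_C.1 hg)]
      refine Nat.card_congr
        ⟨fun x => ⟨⟨x.1, Or.inr (hfw x.1 x.2).2⟩, (hmemA _).2 (hfw x.1 x.2)⟩, fun z => ⟨(z.1 : T), ?_⟩,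
          fun x => rfl, fun z => rfl⟩
      obtain ⟨g, hg, he⟩ := outer_conj c hA hm ((hmemA z.1).1 z.2).2 ((hmemA z.1).1 z.2).1
      exact ⟨g, mem_C.2 hg, he⟩
    rw [hset, hst, hC, card_C c hA hm] at ho
    omega
  have hpair : CycSyl43TI.pairSum H θ = 2 * (A.card : ℂ) ^ 2 := by
    have hterm : ∀ z z' : H, (if orderOf z = 2 ∧ orderOf z' = 2 then θ (z * z') else 0) =
        (if z ∈ A then 1 else 0) * (if z' ∈ A then 1 else 0) *
          (2 - g₀ z * (g₀ z')⁻¹ - (g₀ z)⁻¹ * g₀ z') := by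
      intro z z'
      by_cases hz2 : orderOf z = 2
      swap
      · simp [hz2, hAdef]
      by_cases hz'2 : orderOf z' = 2
      swap
      · simp [hz'2, hAdef]
      rw [if_pos ⟨hz2, hz'2⟩]
      by_cases hzK : z ∈ K <;> by_cases hz'K : z' ∈ K
      · have hl : ∀ (a : H) (ha : a ∈ K), orderOf a = 2 → lam ⟨a, ha⟩ = 1 := fun a ha h =>
          htriv _ (fun h' => by
            rw [Subgroup.orderOf_coe, h] at h'
            exact order_ne_two c ((Nat.prime_dvd_prime_iff_eq c.prime Nat.prime_two).1 h'))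
        rw [show z * z' = (((⟨z, hzK⟩ : K) * ⟨z', hz'K⟩ : K) : H) from rfl, hθ, CycSyl43TI.theta_mem,
          map_mul, hl z hzK hz2, hl z' hz'K hz'2]
        simp [hAdef, hzK]
        norm_num
      · rw [hθ, CycSyl43TI.theta_not_mem (fun h => hz'K ((K.mul_mem_cancel_left hzK).1 h))]
        simp [hAdef, hzK]
      · rw [hθ, CycSyl43TI.theta_not_mem (fun h => hzK ((K.mul_mem_cancel_right hz'K).1 h))]
        simp [hAdef, hz'K]
      · have hzz : z * z' = z * w₀ * (z' * w₀)⁻¹ := by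
          rw [mul_inv_rev, ← mul_assoc, mul_assoc z, mul_inv_cancel, mul_one,
            inv_eq_of_mul_eq_one_right (mul_self_of hz'2)]
        have hK1 := hprod hzK hw₀K
        have hK2 := hprod hz'K hw₀K
        rw [show (z * z' : H) = (((⟨z * w₀, hK1⟩ : K) * (⟨z' * w₀, hK2⟩ : K)⁻¹ : K) : H) from hzz,
          hθ, CycSyl43TI.theta_mem, map_mul, map_inv]
        simp only [g₀, dif_pos hK1, dif_pos hK2, hAdef, Finset.mem_filter, Finset.mem_univ, hz2, hz'2, hzK,
          hz'K, not_false_eq_true, and_self, if_true, one_mul, Units.val_mul, mul_inv_rev, inv_inv,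
          Units.val_inv_eq_inv_val]
        ring
    have hzero : ∑ z ∈ A, g₀ z = 0 := by
      set Y : H := ⟨y, cent_le_pm y hyC⟩ with hY
      have hbij : ∑ z ∈ A, g₀ z = ∑ z ∈ A, g₀ (Y * z * Y⁻¹) := by
        refine (Finset.sum_equiv (MulAut.conj Y).toEquiv (fun z => ?_) fun z _ => rfl).symm
        show z ∈ A ↔ Y * z * Y⁻¹ ∈ A
        have hoy : orderOf (Y * z * Y⁻¹) = orderOf z := MulEquiv.orderOf_eq (MulAut.conj Y) z
        simp only [hAdef, Finset.mem_filter, Finset.mem_univ, true_and, hoy]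
        haveI := Subgroup.normal_of_index_eq_two h2
        rw [K.mul_mem_cancel_right (inv_mem (show Y ∈ K from hyC)), K.mul_mem_cancel_left (show Y ∈ K from hyC)]
      have hval : ∀ z ∈ A, g₀ (Y * z * Y⁻¹) = ((lam yK : ℂˣ) : ℂ) * (lam yK : ℂˣ) * g₀ z := by
        intro z hz
        have hzK : z ∉ K := (Finset.mem_filter.1 hz).2.2
        have hK1 := hprod hzK hw₀K
        have e : Y * z * Y⁻¹ * w₀ = Y * Y * (z * w₀) := Subtype.ext (by
          obtain ⟨-, hzy⟩ := (hmemA z).1 hz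
          show y * (z : T) * y⁻¹ * (w₀ : T) = y * y * ((z : T) * (w₀ : T))
          have h1 : (z : T) * y⁻¹ = y * z := by
            rw [← mul_inv_eq_iff_eq_mul, show (z : T) * y⁻¹ * (z : T)⁻¹ = ((z : T) * y * (z : T)⁻¹)⁻¹ by group,
              hzy, inv_inv]
          rw [mul_assoc y (z : T), h1]; group)
        have hK3 : Y * z * Y⁻¹ * w₀ ∈ K := e ▸ mul_mem (mul_mem (show Y ∈ K from hyC) hyC) hK1
        simp only [g₀, dif_pos hK1, dif_pos hK3]
        rw [show (⟨Y * z * Y⁻¹ * w₀, hK3⟩ : K) = yK * yK * ⟨z * w₀, hK1⟩ from Subtype.ext e,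
          map_mul, map_mul, Units.val_mul, Units.val_mul]
      rw [Finset.sum_congr rfl hval, ← Finset.mul_sum] at hbij
      by_contra hS
      apply hl2
      apply Units.ext
      rw [Units.val_mul, Units.val_one]
      exact mul_right_cancel₀ hS (by rw [← hbij, one_mul])
    have hzero' : ∑ z ∈ A, (g₀ z)⁻¹ = 0 := by
      have hconj : ∀ z ∈ A, (g₀ z)⁻¹ = conj (g₀ z) := by
        intro z hz
        have hK1 := hprod (Finset.mem_filter.1 hz).2.2 hw₀K
        simp only [g₀, dif_pos hK1]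
        rw [CycSyl43TI.conj_lin, Units.val_inv_eq_inv_val]
      rw [Finset.sum_congr rfl hconj, ← map_sum, hzero, map_zero]
    rw [CycSyl43TI.pairSum]
    simp only [hterm, ite_mul, one_mul, zero_mul, Finset.sum_ite_irrel, Finset.sum_const_zero,
      Finset.sum_ite_mem, Finset.univ_inter]
    simp only [Finset.sum_sub_distrib, ← Finset.sum_mul_sum, Finset.sum_const, nsmul_eq_mul,
      hzero, hzero', zero_mul, mul_zero, sub_zero]
    ring
  refine ⟨e * (Cfsg.charDegree (P : T → ℂ) : ℤ), ?_⟩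
  rw [hpair, hcardA, card_pm c hA hm, card_Ct c hA hm, ha, CharAverage.irr_apply_one] at hrel
  push_cast at hrel
  have hk0 : (Nat.card O : ℂ) ≠ 0 := Nat.cast_ne_zero.2 Nat.card_pos.ne'
  have h5 : (Nat.card T : ℂ) * (((e : ℂ) * (Cfsg.charDegree (P : T → ℂ) : ℂ)) - 1) ^ 2 =
      192 * (Nat.card O : ℂ) ^ 3 * (((e : ℂ) * (Cfsg.charDegree (P : T → ℂ) : ℂ)) *
        ((e : ℂ) * (Cfsg.charDegree (P : T → ℂ) : ℂ) + 1)) := by
    refine mul_left_cancel₀ (mul_ne_zero (show (24 : ℂ) ≠ 0 by norm_num) hk0) ?_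
    linear_combination hrel
  exact_mod_cast h5

/-- The second order formula. -/
theorem second_formula [Fintype T] :
    ∃ F : ℤ, (Nat.card T : ℤ) * (F - 1) ^ 2 = 64 * (Nat.card O : ℤ) * ((Nat.card O : ℤ) + 1) ^ 2 * (F * (F + 1)) := by
  classical
  obtain ⟨M, hM⟩ := ZStarCount.exists_isPModular 2 Nat.prime_two
  have hk := k_eq c hA hm
  subst hk
  have hso : orderOf σ = 2 ^ (3 - 1) := c.shp.order
  have hrel : u₀ * σ * u₀⁻¹ = σ⁻¹ :=
    ((c.shp.dicho u₀ c.hu).resolve_left (not_rot c.shp c.hu c.hu2 c.hut)).2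
  have hgen : Subgroup.closure ({σ, u₀} : Set T) = (S : Subgroup T) := by
    refine le_antisymm ((Subgroup.closure_le _).2 ?_) fun s hs => ?_
    · rintro x (rfl | rfl)
      exacts [c.shp.mem, c.hu]
    · have hσm : σ ∈ Subgroup.closure ({σ, u₀} : Set T) := Subgroup.subset_closure (by simp)
      have hum : u₀ ∈ Subgroup.closure ({σ, u₀} : Set T) := Subgroup.subset_closure (by simp)
      by_cases hr : s ∈ Subgroup.zpowers σ
      · exact Subgroup.zpowers_le.2 hσm hr
      · have h1 := Subgroup.zpowers_le.2 hσm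
          (c.shp.refl_mul s hs u₀ c.hu hr (not_rot c.shp c.hu c.hu2 c.hut))
        have := mul_mem h1 hum
        rwa [mul_assoc, mul_self_of c.hu2, mul_one] at this
  have hst : σ ^ 2 ^ (3 - 2) = t := c.shp.pow_half
  obtain ⟨hwS, hw2, -, -⟩ := w_facts c
  have h := DihedralClassSums79.setting_of_gen (n := 3) le_rfl c.shp.mem hso c.hu2 hrel hgen
  obtain ⟨-, χ₁, χ₂, χ₃, χ', δ₁, δ₂, δ₃, hδ, -, -, -, hne1, -, -, -, -, -, -, hset, hval, -⟩ :=
    DihedralBlockMain79.main hM h (Complex.isPrimitiveRoot_exp _ (by positivity))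
  have hmem : χ₁ ∈ Cfsg.principalBlock M T := by rw [hset]; exact Or.inr (Or.inl rfl)
  obtain ⟨-, heq⟩ := DihedralOrder79.main hM le_rfl c.shp.mem c.hu hso c.hu2 hrel hgen
    ⟨hst ▸ c.dih.fusion t u₀ c.dih.ot c.hu2, hst ▸ c.dih.fusion t (σ * u₀) c.dih.ot hw2⟩ hmem hne1 hδ
    (fun l h0 h1 => (hval l h0 h1).1)
  rw [hst, card_Ct c hA hm, card_Ctu c hA hm, card_Ctw c hA hm] at heq
  refine ⟨δ₁ * (Cfsg.charDegree (χ₁ : T → ℂ) : ℤ), ?_⟩
  have hkq : (Nat.card O : ℚ) ≠ 0 := Nat.cast_ne_zero.2 Nat.card_pos.ne'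
  have hd2 : (δ₁ : ℚ) * δ₁ = 1 := by rcases hδ with e | e <;> simp [e]
  have h5 : (Nat.card T : ℚ) * ((δ₁ : ℚ) * (Cfsg.charDegree (χ₁ : T → ℂ) : ℚ) - 1) ^ 2 =
      64 * (Nat.card O : ℚ) * ((Nat.card O : ℚ) + 1) ^ 2 *
        (((δ₁ : ℚ) * (Cfsg.charDegree (χ₁ : T → ℂ) : ℚ)) * ((δ₁ : ℚ) * (Cfsg.charDegree (χ₁ : T → ℂ) : ℚ) + 1)) := by
    push_cast at heq
    field_simp at heq
    rcases hδ with e | e <;> subst e <;> push_cast at heq ⊢ <;> linear_combination heq / 16
  exact_mod_cast h5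

/-- The order of `T` is `24 |O|` times a number prime to `|O|`. -/
theorem card_T : ∃ N : ℕ, Nat.card T = 24 * Nat.card O * N ∧ Odd N ∧ N.Coprime (Nat.card O) := by
  classical
  obtain ⟨N, hN⟩ : 24 * Nat.card O ∣ Nat.card T :=
    (card_pm c hA hm) ▸ Subgroup.card_subgroup_dvd_card (pm y)
  refine ⟨N, hN, ?_, ?_⟩
  · by_contra hev
    obtain ⟨m, rfl⟩ := even_iff_two_dvd.1 (Nat.not_odd_iff_even.1 hev)
    haveI : Fact (Nat.Prime 2) := ⟨Nat.prime_two⟩
    have h16 : 2 ^ 4 ∣ Nat.card T := ⟨3 * Nat.card O * m, by rw [hN]; ring⟩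
    have h3 : 2 ^ 4 ∣ Nat.card (S : Subgroup T) := by
      rw [S.card_eq_multiplicity]
      exact pow_dvd_pow 2 ((Nat.Prime.pow_dvd_iff_le_factorization Nat.prime_two Nat.card_pos.ne').1 h16)
    rw [card_S c hA hm] at h3
    norm_num at h3
  · rw [Nat.coprime_comm]
    refine Nat.coprime_of_dvd fun r hr hrO hrN => ?_
    haveI : Fact r.Prime := ⟨hr⟩
    obtain ⟨x, hx⟩ := exists_prime_orderOf_dvd_card' (G := O) r hrO
    have hxo : orderOf (x : T) = r := (Subgroup.orderOf_coe x).trans hx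
    have hr2 : r ≠ 2 := fun e => by
      subst e; exact Nat.not_even_iff_odd.2 c.dih.odd (even_iff_two_dvd.2 hrO)
    let cx : Ctx S t O σ k (x : T) u₀ := ⟨c.dih, c.str, c.shp, x.2, by rw [hxo]; exact hr, c.hu, c.hu2, c.hut,
      (O_fix c hA hm x.2).symm⟩
    obtain ⟨R, hR⟩ := (IsPGroup.of_card (p := r) (n := 1) (G := Subgroup.zpowers (x : T)) (by
      rw [Nat.card_zpowers, hxo, pow_one])).exists_le_sylow
    haveI := hm.hodd r hr hr2 R
    letI := IsCyclic.commGroup (α := (R : Subgroup T))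
    have hRC : (R : Subgroup T) ≤ Subgroup.centralizer ({(x : T)} : Set T) := fun g hg =>
      mem_C.2 (congrArg Subtype.val (mul_comm (⟨g, hg⟩ : (R : Subgroup T)) ⟨x, hR (Subgroup.mem_zpowers _)⟩))
    have hdvd := Subgroup.card_dvd_of_le hRC
    rw [R.card_eq_multiplicity, card_C cx hA hm] at hdvd
    have hkpos : Nat.card O ≠ 0 := Nat.card_pos.ne'
    have h1 := (Nat.Prime.pow_dvd_iff_le_factorization hr (by positivity)).1 hdvd
    have hN0 : N ≠ 0 := by
      rintro rfl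
      rw [mul_zero] at hN
      exact absurd hN Nat.card_pos.ne'
    have h24 : (24 * Nat.card O).factorization r = (12 * Nat.card O).factorization r := by
      rw [show 24 * Nat.card O = 2 * (12 * Nat.card O) by ring,
        Nat.factorization_mul two_ne_zero (by positivity), Finsupp.add_apply,
        Nat.factorization_eq_zero_of_not_dvd (fun h => hr2 ((Nat.prime_dvd_prime_iff_eq hr Nat.prime_two).1 h)),
        zero_add]
    rw [hN, Nat.factorization_mul (by positivity) hN0, Finsupp.add_apply, h24] at h1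
    have := hr.factorization_pos_of_dvd hN0 hrN
    omega

/-- **No element of prime order of `O` is centralised by a reflection.** -/
theorem false_of_ctx : False := by
  haveI := Fintype.ofFinite T
  obtain ⟨X, hX⟩ := first_formula c hA hm
  obtain ⟨F, hF⟩ := second_formula c hA hm
  obtain ⟨N, hN, hNodd, hNk⟩ := card_T c hA hm
  rw [hN] at hX hF
  push_cast at hX hF
  set K : ℤ := (Nat.card O : ℤ) with hK
  have hK0 : K ≠ 0 := by rw [hK]; exact_mod_cast Nat.card_pos.ne'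
  have hk3 : 3 ≤ Nat.card O := by
    have h1 : orderOf y ∣ Nat.card O := orderOf_dvd_of_pow_eq_one (pow_card_O c.hy)
    have h2 := Nat.le_of_dvd Nat.card_pos h1
    have h3 := c.prime.two_le
    have h4 := order_ne_two c
    omega
  refine CycSyl43RefArith86.impossible (N : ℤ) K X F ?_ ?_ ?_ (by omega) ?_ ?_ ?_
  · exact_mod_cast hNodd
  · exact Int.isCoprime_iff_nat_coprime.2 (by rwa [hK, Int.natAbs_natCast, Int.natAbs_natCast])
  · rw [hK]; exact_mod_cast c.dih.odd
  · have : N ≠ 0 := by rintro rfl; simp at hNodd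
    omega
  · apply mul_left_cancel₀ (mul_ne_zero (show (24 : ℤ) ≠ 0 by norm_num) hK0)
    linear_combination hX
  · apply mul_left_cancel₀ (mul_ne_zero (show (8 : ℤ) ≠ 0 by norm_num) hK0)
    linear_combination hF

end Cfsg.Agent.CycSyl43RefChar86
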