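import Mathlib
import Cfsg.Agent.Lib.CycSyl43RefChar86

/-!
No reflection centralises a nontrivial element of the odd core.
-/

set_option autoImplicit false

namespace Cfsg.Agent.CycSyl43

open CycSyl43RefBasic86

universe u

/-- PIECE R. -/
theorem reflection_free : ReflectionFree.{u} := by
  intro hA T _ _ hm S t O hD hO h8 u₀ hu hu2 hut y hy hc
  by_contra hy1
  obtain ⟨σ, k, hd⟩ := shape hD h8
  have hne : orderOf y ≠ 1 := fun e => hy1 (orderOf_eq_one_iff.1 e)
  obtain ⟨r, hr, hrd⟩ := Nat.exists_prime_and_dvd hne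
  set z := y ^ (orderOf y / r) with hz
  have hzr : orderOf z = r := orderOf_pow_orderOf_div (orderOf_pos y).ne' hrd
  exact CycSyl43RefChar86.false_of_ctx
    (⟨hD, hO, hd, pow_mem hy _, by rw [hzr]; exact hr, hu, hu2, hut,
      ((show Commute u₀ y from hc).pow_right _).eq⟩ : Ctx S t O σ k z u₀) hA hm

end Cfsg.Agent.CycSyl43
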