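import Mathlib

/-!
The two degree equations of the semidihedral configuration with centraliser `GL(2,3)` modulo a
nontrivial odd core have no common solution.
-/

set_option autoImplicit false

namespace Cfsg.Agent.CycSyl43SemiGLArith

/-- The relations force `2^3 x ∣ X - 1`. -/
theorem dvd_sub_one {M x : ℕ} {X : ℤ} (hM : Odd M) (hx : Odd x) (hMx : M.Coprime x)
    (h : (M : ℤ) * (X - 1) ^ 2 = 288 * (x : ℤ) ^ 2 * X * (X + 1)) :
    (8 : ℤ) * (x : ℤ) ∣ X - 1 := by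
  have h8 : (8 : ℤ) ∣ X - 1 := by
    have hM' : Odd (M : ℤ) := by exact_mod_cast hM
    obtain ⟨m, hm⟩ := hM'
    have hev : ∀ k : ℤ, (2 : ℤ) ∣ k * (k + 1) := fun k => (Int.even_mul_succ_self k).two_dvd
    obtain ⟨w, hw⟩ := hev X
    have h64 : (X - 1) ^ 2 * M = 64 * (9 * (x : ℤ) ^ 2 * w) := by linear_combination h + 288 * (x : ℤ) ^ 2 * hw
    have hcop : IsCoprime ((64 : ℤ)) (M : ℤ) := by
      rw [Int.isCoprime_iff_nat_coprime]
      exact (Nat.Coprime.pow_left 6 (Nat.coprime_two_left.2 hM) : Nat.Coprime (2 ^ 6) M)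
    have h2 : ((8 : ℤ) ^ 2) ∣ (X - 1) ^ 2 := by
      have : (64 : ℤ) ∣ (X - 1) ^ 2 * M := ⟨_, h64⟩
      simpa using hcop.dvd_of_dvd_mul_right this
    exact (Int.pow_dvd_pow_iff two_ne_zero).1 h2
  have hxd : (x : ℤ) ∣ X - 1 := by
    have hcop : IsCoprime ((x : ℤ) ^ 2) (M : ℤ) := by
      rw [Int.isCoprime_iff_nat_coprime]
      simpa using (Nat.Coprime.pow_left 2 hMx.symm)
    have h2 : (x : ℤ) ^ 2 ∣ (X - 1) ^ 2 * M := ⟨288 * X * (X + 1), by linear_combination h⟩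
    exact (Int.pow_dvd_pow_iff two_ne_zero).1 (hcop.dvd_of_dvd_mul_right h2)
  refine (show IsCoprime (8 : ℤ) (x : ℤ) from ?_).mul_dvd h8 hxd
  rw [Int.isCoprime_iff_nat_coprime]
  exact (Nat.Coprime.pow_left 3 (Nat.coprime_two_left.2 hx) : Nat.Coprime (2 ^ 3) x)

theorem search : ∀ Y ∈ List.range 12, ∀ c ∈ List.range 10, ∀ X ∈ List.range 265,
    (Y : ℤ) = 0 ∨ (X : ℤ) - 132 = 0 ∨ ((X : ℤ) - 132).natAbs < 23 ∨
      3 * ((X : ℤ) - 132) * ((X : ℤ) - 132 + 1) * ((Y : ℤ) - ((c : ℤ) - 5)) ^ 2 ≠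
        (Y : ℤ) * ((Y : ℤ) + 1) * ((X : ℤ) - 132 - 1) ^ 2 := by
  decide +kernel

theorem no_solution {X Y a : ℤ} (hX : X ≤ -23 ∨ 25 ≤ X) (hY : 1 ≤ Y) (ha : -5 ≤ a) (ha' : a ≤ 4)
    (h : 3 * X * (X + 1) * (Y - a) ^ 2 = Y * (Y + 1) * (X - 1) ^ 2) : False := by
  have hpos : 0 < (X - 1) ^ 2 := by rcases hX with h1 | h1 <;> nlinarith
  have hbig : 7 * (X - 1) ^ 2 ≤ 8 * (X * (X + 1)) := by rcases hX with h1 | h1 <;> nlinarith
  have h21 : 21 * (Y - a) ^ 2 ≤ 8 * (Y * (Y + 1)) := by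
    refine le_of_mul_le_mul_right ?_ hpos
    nlinarith [mul_le_mul_of_nonneg_left hbig (mul_nonneg (by norm_num : (0:ℤ) ≤ 3) (sq_nonneg (Y - a)))]
  have hY11 : Y ≤ 11 := by
    by_contra hlt
    nlinarith [mul_self_le_mul_self (by omega : (0 : ℤ) ≤ Y - 4) (by omega : Y - 4 ≤ Y - a)]
  have hdvd : X ∣ Y * (Y + 1) := by
    have h1 : X ∣ Y * (Y + 1) * (X - 1) ^ 2 := ⟨3 * (X + 1) * (Y - a) ^ 2, by linear_combination -h⟩
    have hc : IsCoprime X ((X - 1) ^ 2) :=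
      (show IsCoprime X (X - 1) from ⟨1, -1, by ring⟩).pow_right
    exact hc.dvd_of_dvd_mul_right h1
  have hXb : X.natAbs ≤ 132 := by
    have h1 : X.natAbs ∣ (Y * (Y + 1)).natAbs := Int.natAbs_dvd_natAbs.2 hdvd
    have h2 : 0 < Y * (Y + 1) := by positivity
    have h3 : Y * (Y + 1) ≤ 132 := by nlinarith
    have h4 := Nat.le_of_dvd (by omega) h1
    omega
  obtain ⟨y, rfl⟩ : ∃ y : ℕ, Y = (y : ℤ) := ⟨Y.toNat, (Int.toNat_of_nonneg (by omega)).symm⟩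
  obtain ⟨c, rfl⟩ : ∃ c : ℕ, a = (c : ℤ) - 5 := ⟨(a + 5).toNat, by omega⟩
  obtain ⟨z, rfl⟩ : ∃ z : ℕ, X = (z : ℤ) - 132 := ⟨(X + 132).toNat, by omega⟩
  rcases search y (List.mem_range.2 (by omega)) c (List.mem_range.2 (by omega)) z
    (List.mem_range.2 (by omega)) with h' | h' | h' | h'
  · omega
  · omega
  · omega
  · exact h' h

end Cfsg.Agent.CycSyl43SemiGLArith
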