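import Cfsg.Agent.Lib.CycSyl43SemiGLChar
import Cfsg.Agent.Lib.CycSyl43SemiGLArith
import Cfsg.Agent.Lib.CycSyl43Section
import Cfsg.Agent.Lib.ZStarFused
import Cfsg.Agent.Lib.CharAverage

/-!
The semidihedral configuration with centraliser `GL(2,3)` modulo the odd core does not occur in
a minimal simple group with cyclic odd Sylow subgroups.
-/

set_option autoImplicit false

namespace Cfsg.Agent.CycSyl43SemiGL

open BinaryOctahedral GL23CentModel CycSyl43SemiGLModel
open Cfsg.Agent.CycSyl43 Cfsg.Agent.CycSyl43TI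
open Cfsg.Agent.CharBasic Cfsg.Agent.CharBasicDecomp Cfsg.Agent.CharInduced
open scoped ComplexConjugate

universe u

variable {T : Type u} [Group T] [Fintype T]

/-- The principal-block part of a decomposition into three constituents. -/
theorem block_sum {M : Ideal Cfsg.AlgInt} (hM : Cfsg.IsPModular 2 M) {Γ : T → ℂ}
    {P Q : Cfsg.IrrCharacter T} {e e' : ℤ} (d : Decomp3 Γ P Q e e') (t : T)
    [Decidable (P ∈ Cfsg.principalBlock M T)] [Decidable (Q ∈ Cfsg.principalBlock M T)] :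
    (∑ᶠ χ ∈ Cfsg.principalBlock M T, Cfsg.classInner Γ (χ : T → ℂ) * (χ : T → ℂ) t) =
      1 + (if P ∈ Cfsg.principalBlock M T then (e : ℂ) * (P : T → ℂ) t else 0) +
        (if Q ∈ Cfsg.principalBlock M T then (e' : ℂ) * (Q : T → ℂ) t else 0) := by
  classical
  rw [BlockTheoryIdem.finsum_mem_eq_sum]
  have h0 : trivIrr T ∈ Cfsg.principalBlock M T := ZStarFused.trivIrr_mem hM
  have hterm : ∀ χ : Cfsg.IrrCharacter T,
      (if χ ∈ Cfsg.principalBlock M T then Cfsg.classInner Γ (χ : T → ℂ) * (χ : T → ℂ) t else 0) =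
        (if trivIrr T = χ then (1 : ℂ) else 0) +
        (if P = χ then (if P ∈ Cfsg.principalBlock M T then (e : ℂ) * (P : T → ℂ) t else 0) else 0) +
        (if Q = χ then (if Q ∈ Cfsg.principalBlock M T then (e' : ℂ) * (Q : T → ℂ) t else 0) else 0) := by
    intro χ
    rw [d.inner_irr χ]
    by_cases h1 : trivIrr T = χ
    · subst h1
      have e1 : (trivIrr T : T → ℂ) t = 1 := rfl
      simp [h0, d.nP, d.nQ, e1]
    · by_cases h2 : P = χ
      · subst h2
        simp [h1, d.ne.symm]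
      · by_cases h3 : Q = χ
        · subst h3
          simp [h1, h2]
        · simp [h1, h2, h3]
  rw [Finset.sum_congr rfl fun χ _ => hterm χ, Finset.sum_add_distrib, Finset.sum_add_distrib,
    Finset.sum_ite_eq, Finset.sum_ite_eq, Finset.sum_ite_eq]
  simp

/-- The column of `t` inside the principal block bounds three squared values. -/
theorem column_bound (hS : SectionSum.{u}) {M : Ideal Cfsg.AlgInt} (hM : Cfsg.IsPModular 2 M)
    {t : T} {O : Subgroup T} (ht : orderOf t = 2)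
    (hO : O ≤ Subgroup.centralizer ({t} : Set T))
    (hn : (O.subgroupOf (Subgroup.centralizer ({t} : Set T))).Normal) (hodd : Odd (Nat.card O))
    (hall : ∀ χ : Cfsg.IrrCharacter ↥(Subgroup.centralizer ({t} : Set T)),
      (∀ y : ↥(Subgroup.centralizer ({t} : Set T)), (y : T) ∈ O →
        (χ : ↥(Subgroup.centralizer ({t} : Set T)) → ℂ) y =
          (χ : ↥(Subgroup.centralizer ({t} : Set T)) → ℂ) 1) →
      χ ∈ Cfsg.principalBlock M ↥(Subgroup.centralizer ({t} : Set T)))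
    (hcard : Nat.card (Subgroup.centralizer ({t} : Set T)) = 48 * Nat.card O)
    {P Q : Cfsg.IrrCharacter T} {p q : ℤ} (hPQ : P ≠ Q) (hP : P ≠ trivIrr T) (hQ : Q ≠ trivIrr T)
    (hPB : P ∈ Cfsg.principalBlock M T) (hQB : Q ∈ Cfsg.principalBlock M T)
    (hp : (P : T → ℂ) t = p) (hq : (Q : T → ℂ) t = q) : 1 + p ^ 2 + q ^ 2 ≤ 48 := by
  classical
  let c : Cfsg.IrrCharacter T → ℂ := fun χ => conj ((χ : T → ℂ) t)
  let F : T → ℂ := ∑ χ, c χ • (χ : T → ℂ)
  have hFc : Cfsg.IsClassFunction T F :=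
    CharBasicOrth.isClassFunction_sum_smul _ _ _ fun χ _ =>
      CharBasic.isClassFunction_of_isCharacter (CharBasic.isCharacter_of_isIrrCharacter χ.2)
  have hFv : ∀ g, F g = if IsConj g t then
      (Nat.card (Subgroup.centralizer ({g} : Set T)) : ℂ) else 0 := by
    intro g
    rw [← CharBasicOrth.sum_irr_mul_conj g t]
    simp [F, c, mul_comm]
  have hz : ∀ χ : Cfsg.IrrCharacter T, ∃ z : ℤ, (χ : T → ℂ) t = z := fun χ =>
    CharAverage.apply_involution_eq_int (CharBasic.isCharacter_of_isIrrCharacter χ.2)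
      (by rw [← pow_two, ← ht, pow_orderOf_eq_one])
  choose z hz using hz
  have hsec := hS T M hM t O ⟨1, by rw [ht]; rfl⟩ hO hn hodd hall F hFc
  have hsum : ∀ y ∈ (O : Set T), F (t * y) =
      if y = 1 then (48 * Nat.card O : ℂ) else 0 := by
    intro y hy
    rw [hFv]
    by_cases h1 : y = 1
    · subst h1
      rw [mul_one, if_pos (IsConj.refl t), if_pos rfl, hcard]
      push_cast
      rfl
    · rw [if_neg h1, if_neg]
      intro hc
      obtain ⟨k, hk⟩ := isConj_iff.1 hc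
      have hord : orderOf (t * y) = 2 := by
        exact (orderOf_injective (MulAut.conj k).toMonoidHom (MulEquiv.injective _) (t * y)).symm.trans
          ((congrArg orderOf hk).trans ht)
      refine h1 (eq_one_of_odd hodd hy ?_)
      have hty : Commute t y := (of_mem_cent (hO hy)).symm
      have h2 : (t * y) * (t * y) = 1 := by rw [← pow_two, ← hord, pow_orderOf_eq_one]
      rwa [hty.symm.mul_mul_mul_comm, show t * t = 1 by rw [← pow_two, ← ht, pow_orderOf_eq_one],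
        one_mul] at h2
  rw [finsum_mem_congr rfl hsum, BlockTheoryIdem.finsum_mem_eq_sum, ← finsum_set_coe_eq_finsum_mem] at hsec
  haveI : Fintype (O : Set T) := Fintype.ofFinite _
  rw [finsum_eq_sum_of_fintype, Finset.sum_eq_single (⟨1, O.one_mem⟩ : (O : Set T))
    (fun b _ hb => if_neg fun e => hb (Subtype.ext e)) (fun h => absurd (Finset.mem_univ _) h),
    if_pos rfl] at hsec
  have hl : ∀ χ : Cfsg.IrrCharacter T,
      (if χ ∈ Cfsg.principalBlock M T then Cfsg.classInner F (χ : T → ℂ) * (χ : T → ℂ) t else 0) =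
        ((if χ ∈ Cfsg.principalBlock M T then z χ ^ 2 else 0 : ℤ) : ℂ) := by
    intro χ
    split_ifs
    · rw [show Cfsg.classInner F (χ : T → ℂ) = c χ from CharBasicOrth.classInner_sum_smul_irr c χ]
      simp [c, hz χ, pow_two]
    · simp
  rw [Finset.sum_congr rfl fun χ _ => hl χ, ← Int.cast_sum] at hsec
  have h48 : (∑ χ, if χ ∈ Cfsg.principalBlock M T then z χ ^ 2 else 0) = (48 : ℤ) := by
    have hne : (Nat.card O : ℂ) ≠ 0 := Nat.cast_ne_zero.2 Nat.card_pos.ne'
    rw [mul_comm (48 : ℂ), inv_mul_cancel_left₀ hne] at hsec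
    exact_mod_cast hsec
  have h0 : trivIrr T ∈ Cfsg.principalBlock M T := ZStarFused.trivIrr_mem hM
  have hsub := Finset.sum_le_sum_of_subset_of_nonneg
    (Finset.subset_univ ({trivIrr T, P, Q} : Finset (Cfsg.IrrCharacter T)))
    (f := fun χ => if χ ∈ Cfsg.principalBlock M T then z χ ^ 2 else 0)
    (fun χ _ _ => by split_ifs <;> positivity)
  have h1 : z (trivIrr T) = 1 := by
    have := hz (trivIrr T)
    simp only [trivIrr] at this
    exact_mod_cast this.symm
  have hzp : z P = p := by exact_mod_cast (hz P).symm.trans hp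
  have hzq : z Q = q := by exact_mod_cast (hz Q).symm.trans hq
  rw [Finset.sum_insert (by simp [hP.symm, hQ.symm]), Finset.sum_pair hPQ, h48] at hsub
  simp only [h0, hPB, hQB, if_true, h1, hzp, hzq, one_pow] at hsub
  linarith

omit [Fintype T] in
theorem not_mem_D1 [Finite T] {t : T} {O : Subgroup T} {φ : T → Coord} (hF : Frame t O φ) {u : T}
    (hu : orderOf u = 2) : u ∉ D1 t O := by
  rintro ⟨-, k, hk, hk1⟩
  obtain ⟨h2, h1⟩ := orderOf_eq_prime_iff.1 hu
  rcases Nat.even_or_odd k with ⟨m, rfl⟩ | ⟨m, rfl⟩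
  · rw [← two_mul, pow_mul, h2, one_pow] at hk1
    exact hk1 rfl
  · rw [pow_succ, pow_mul, h2, one_pow, one_mul] at hk
    exact hF.not_mem (by rw [← pow_two]; exact h2) h1 hk

theorem semiGL_false_of (hS : SectionSum.{u}) : SemiGLFalse.{u} := by
  intro hA T _ _ hm S t O h
  haveI := Fintype.ofFinite T
  classical
  obtain ⟨φ, hF⟩ := exists_frame h
  by_cases hO : Nat.card O = 1
  · exact not_trivial_core hm h hF hO
  haveI := Fintype.ofFinite (Subgroup.centralizer ({t} : Set T))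
  obtain ⟨Mod, hMod⟩ := ZStarCount.exists_isPModular 2 Nat.prime_two
  obtain ⟨f, hf, hker⟩ := h.quot
  have hnorm : (O.subgroupOf (Subgroup.centralizer ({t} : Set T))).Normal :=
    hker ▸ MonoidHom.normal_ker f
  haveI := hnorm
  have hall : ∀ χ : Cfsg.IrrCharacter ↥(Subgroup.centralizer ({t} : Set T)),
      (∀ y : ↥(Subgroup.centralizer ({t} : Set T)), (y : T) ∈ O →
        (χ : ↥(Subgroup.centralizer ({t} : Set T)) → ℂ) y =
          (χ : ↥(Subgroup.centralizer ({t} : Set T)) → ℂ) 1) →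
      χ ∈ Cfsg.principalBlock Mod ↥(Subgroup.centralizer ({t} : Set T)) := fun χ hχ =>
    principal_of_gl23_quot _ hMod f hf hker χ fun y hy => hχ y hy
  obtain ⟨M, hMeq, hModd, hMx⟩ := exists_mult hA hm hF S h.central
  set x := Nat.card O with hxdef
  have hcC : Nat.card (Subgroup.centralizer ({t} : Set T)) = 48 * x := card_cent hF
  have hx0 : (x : ℂ) ≠ 0 := Nat.cast_ne_zero.2 Nat.card_pos.ne'
  have hM0 : M ≠ 0 := fun e => by simp [e] at hModd
  have hint : ∀ (P : Cfsg.IrrCharacter T) (e : ℤ), (e = 1 ∨ e = -1) →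
      ∃ X a : ℤ, X ≠ 0 ∧ (e : ℂ) * (P : T → ℂ) 1 = X ∧ (e : ℂ) * (P : T → ℂ) t = a ∧
        ∃ z : ℤ, (P : T → ℂ) t = z ∧ z ^ 2 = a ^ 2 := by
    intro P e he
    obtain ⟨n, hn0, hn⟩ := isIrrCharacter_apply_one P.2
    obtain ⟨z, hz⟩ := CharAverage.apply_involution_eq_int
      (CharBasic.isCharacter_of_isIrrCharacter P.2) hF.tt
    refine ⟨e * n, e * z, mul_ne_zero (by rcases he with r | r <;> simp [r]) (by omega),
      by rw [hn]; push_cast; rfl, by rw [hz]; push_cast; rfl, z, hz, ?_⟩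
    rcases he with r | r <;> simp [r]
  -- the first class function
  obtain ⟨lam, hvan, ⟨z0, hz0O, hz0⟩, hinv⟩ := exists_lam hA hm hF hO
  have hidx := plus_index hF
  have hlam2 : lam * lam ≠ 1 := fun e => hz0 (by
    have := DFunLike.congr_fun e z0
    simpa using this)
  have hlam1 : lam ≠ 1 := fun e => hlam2 (MonoidHom.ext fun k => by simp [e])
  have hd1 := ti1 hA hm hF
  set θ := theta (plusSub hF) lam with hθdef
  have hv1 : Vanish (D1 t O) θ := theta_vanish hvan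
  obtain ⟨P₀, Q₀, e₀, e₀', d₀⟩ := decomp3 hd1 (theta_gen hidx hinv) hv1
    (theta_one_inner hidx hlam1) (theta_norm hidx hlam2)
  set Γ := Cfsg.indFun (Subgroup.centralizer ({t} : Set T)) θ with hΓ
  have hΓt : Γ t = 0 := ind_eq_zero hv1 fun y hy => not_mem_D1 hF (by
    have := orderOf_injective (MulAut.conj y⁻¹).toMonoidHom (MulEquiv.injective _) t
    rw [h.ot] at this
    simpa using this) hy
  have hOK : ∀ y : O, (⟨(y : T), h.le y.2⟩ : Subgroup.centralizer ({t} : Set T)) ∈ plusSub hF :=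
    fun y => show pSL (φ (y : T)) by rw [(hF.ker _ (hF.le _ y.2)).2 y.2]
  let ι : O →* plusSub hF :=
    MonoidHom.mk' (fun y => ⟨⟨(y : T), h.le y.2⟩, hOK y⟩) fun a b => rfl
  have hval1 : ∑ᶠ y ∈ (O : Set T), Γ (t * y) = 2 * (x : ℂ) := by
    rw [← finsum_set_coe_eq_finsum_mem]
    show ∑ᶠ y : O, Γ (t * (y : T)) = _
    rw [finsum_eq_sum_of_fintype]
    have hterm : ∀ y : O, Γ (t * (y : T)) =
        2 - (lam (ι y) : ℂ) - ((lam⁻¹) (ι y) : ℂ) := by
      intro y
      have htK : (⟨t, mem_cent (Commute.refl t)⟩ : Subgroup.centralizer ({t} : Set T)) ∈ plusSub hF :=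
        show pSL (φ t) by rw [hF.map_t]
      set tK : plusSub hF := ⟨_, htK⟩
      have hlt : lam tK = 1 := by
        by_contra q
        exact not_mem_D1 hF h.ot (hvan tK q)
      have hθv : θ ((tK * ι y : plusSub hF) : Subgroup.centralizer ({t} : Set T)) =
          2 - (lam (ι y) : ℂ) - ((lam⁻¹) (ι y) : ℂ) := by
        rw [hθdef, theta_mem, map_mul, hlt, one_mul, MonoidHom.inv_apply]
      rw [← hθv, hΓ]
      by_cases hy : (y : T) = 1
      · have e1 : ι y = 1 := Subtype.ext (Subtype.ext hy)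
        rw [hy, mul_one, ← hΓ, hΓt, e1, mul_one, hθdef, theta_mem, hlt]
        simp
        norm_num
      · refine ind_apply hd1 (isClassFunction_of_isGeneralizedCharacter (theta_gen hidx hinv)) hv1
          ((tK * ι y : plusSub hF) : Subgroup.centralizer ({t} : Set T))
          ⟨(Commute.refl t).mul_left (hF.le _ y.2), 2, ?_, ?_⟩
        · show (t * (y : T)) ^ 2 ∈ O
          rw [(hF.le _ y.2).symm.mul_pow, pow_two, hF.tt, one_mul]
          exact O.pow_mem y.2 2
        · show (t * (y : T)) ^ 2 ≠ 1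
          rw [(hF.le _ y.2).symm.mul_pow, pow_two, hF.tt, one_mul, pow_two]
          exact fun q => hy (eq_one_of_odd hF.odd y.2 q)
    rw [Finset.sum_congr rfl fun y _ => hterm y, Finset.sum_sub_distrib, Finset.sum_sub_distrib,
      Finset.sum_const, Finset.card_univ, ← Nat.card_eq_fintype_card, nsmul_eq_mul]
    have hzero : ∀ ν : plusSub hF →* ℂˣ, ν (ι ⟨_, hz0O⟩) ≠ 1 → ∑ y : O, (ν (ι y) : ℂ) = 0 :=
      fun ν hν => sum_hom_units_eq_zero ((Units.coeHom ℂ).comp (ν.comp ι)) fun e => hν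
        (Units.ext (DFunLike.congr_fun e (⟨_, hz0O⟩ : O)))
    have hz01 : lam (ι ⟨_, hz0O⟩) ≠ 1 := fun e => hz0 (by
      rw [show z0 = ι ⟨_, hz0O⟩ from rfl, e, one_mul])
    rw [hzero lam hz01, hzero lam⁻¹ (by simpa using hz01)]
    ring
  have hΓc : Cfsg.IsClassFunction T Γ := isClassFunction_ind _ _
  have hblk1 := hS T Mod hMod t O ⟨1, by rw [h.ot]; rfl⟩ h.le hnorm h.odd hall Γ hΓc
  rw [hval1, ← hxdef, mul_comm (2 : ℂ), inv_mul_cancel_left₀ hx0, block_sum hMod d₀ t] at hblk1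
  obtain ⟨P, Q, e, e', d, ha⟩ : ∃ (P Q : Cfsg.IrrCharacter T) (e e' : ℤ),
      Decomp3 Γ P Q e e' ∧ (e : ℂ) * (P : T → ℂ) t = 1 := by
    have hab : 1 + (e₀ : ℂ) * (P₀ : T → ℂ) t + (e₀' : ℂ) * (Q₀ : T → ℂ) t = 0 :=
      (d₀.eq t).symm.trans hΓt
    by_cases hP : P₀ ∈ Cfsg.principalBlock Mod T <;> by_cases hQ : Q₀ ∈ Cfsg.principalBlock Mod T <;>
      simp only [hP, hQ, if_true, if_false, add_zero] at hblk1
    · exfalso; rw [hab] at hblk1; norm_num at hblk1
    · exact ⟨P₀, Q₀, e₀, e₀', d₀, by linear_combination hblk1⟩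
    · exact ⟨Q₀, P₀, e₀', e₀, d₀.swap, by linear_combination hblk1⟩
    · norm_num at hblk1
  obtain ⟨X, a1, hX0, hX, ha1, -⟩ := hint P e d.he
  have hrel1 : (M : ℤ) * (X - 1) ^ 2 = 288 * (x : ℤ) ^ 2 * X * (X + 1) := by
    have hr := pair_relation hd1 h.fusion h.ot hv1 d hΓt
    rw [hX, ha, pairSum_theta hA hm hF hinv hz0, hMeq, hcC] at hr
    push_cast at hr
    have h48 : ((48 : ℂ) * x) ^ 2 ≠ 0 := pow_ne_zero 2 (mul_ne_zero (by norm_num) hx0)
    have : ((M : ℂ) * ((X : ℂ) - 1) ^ 2) = 288 * (x : ℂ) ^ 2 * X * (X + 1) := by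
      refine mul_left_cancel₀ h48 ?_
      linear_combination hr
    exact_mod_cast this
  -- the second class function
  have hd4 := ti4 hF
  have hv4 := th4_vanish (t := t) hF
  obtain ⟨P₁, Q₁, f₁, f₁', c₁⟩ := decomp3 hd4 (th4_gen hF) hv4 (th4_norm hF).1 (th4_norm hF).2
  set Δ := Cfsg.indFun (Subgroup.centralizer ({t} : Set T))
    (fun c : Subgroup.centralizer ({t} : Set T) => (th4 (φ c) : ℂ)) with hΔ
  have hΔy : ∀ y ∈ O, Δ (t * y) = 0 := by
    intro y hy
    have hc : Commute (t * y) t := (Commute.refl t).mul_left (hF.le _ hy)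
    have hmem : t * y ∈ D4 t := by
      refine ⟨hc, x, ?_⟩
      obtain ⟨m, hm'⟩ := hF.odd
      rw [(hF.le _ hy).symm.mul_pow,
        orderOf_dvd_iff_pow_eq_one.1 (Subgroup.orderOf_dvd_natCard O hy), mul_one, show x = 2 * m + 1 from hm', pow_succ,
        pow_mul, pow_two, hF.tt, one_pow, one_mul]
    have := ind_apply hd4 (isClassFunction_of_isGeneralizedCharacter (th4_gen hF)) hv4
      (⟨t * y, mem_cent hc⟩ : Subgroup.centralizer ({t} : Set T)) hmem
    rw [show Δ (t * y) = _ from this]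
    show ((th4 (φ (t * y)) : ℤ) : ℂ) = 0
    rw [hF.mul _ _ (Commute.refl t) (hF.le _ hy), hF.map_t, (hF.ker _ (hF.le _ hy)).2 hy,
      show mC tC oneC = tC by decide +kernel, th4_values.2.1, Int.cast_zero]
  have hΔt : Δ t = 0 := by simpa using hΔy 1 O.one_mem
  have hblk4 := hS T Mod hMod t O ⟨1, by rw [h.ot]; rfl⟩ h.le hnorm h.odd hall Δ
    (isClassFunction_ind _ _)
  rw [finsum_mem_congr rfl (g := fun _ => (0 : ℂ)) hΔy, finsum_mem_zero, mul_zero,
    block_sum hMod c₁ t] at hblk4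
  obtain ⟨Y1, b1, hY10, hY1, hb1, zP, hzP, hzP2⟩ := hint P₁ f₁ c₁.he
  obtain ⟨Y2, b2, hY20, hY2, hb2, zQ, hzQ, hzQ2⟩ := hint Q₁ f₁' c₁.he'
  have hdeg : 1 + Y1 + Y2 = 0 := by
    have := c₁.deg (ind_apply_one hd4 hv4)
    rw [hY1, hY2] at this
    exact_mod_cast this
  have habt : 1 + b1 + b2 = 0 := by
    have := (c₁.eq t).symm.trans hΔt
    rw [hb1, hb2] at this
    exact_mod_cast this
  rw [hb1, hb2] at hblk4
  have hbound : -5 ≤ b1 ∧ b1 ≤ 4 ∧ -5 ≤ b2 ∧ b2 ≤ 4 := by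
    by_cases hP : P₁ ∈ Cfsg.principalBlock Mod T <;> by_cases hQ : Q₁ ∈ Cfsg.principalBlock Mod T <;>
      simp only [hP, hQ, if_true, if_false, add_zero] at hblk4
    · have := column_bound hS hMod h.ot h.le hnorm h.odd hall hcC c₁.ne c₁.nP c₁.nQ hP hQ hzP hzQ
      rw [hzP2, hzQ2] at this
      have hb : b2 = -1 - b1 := by omega
      subst hb
      refine ⟨?_, ?_, ?_, ?_⟩ <;> by_contra hlt <;> nlinarith
    · have : 1 + b1 = 0 := by exact_mod_cast hblk4
      omega
    · have : 1 + b2 = 0 := by exact_mod_cast hblk4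
      omega
    · norm_num at hblk4
  obtain ⟨P', Q', f', g', c, Y, b, hY, hb, hYpos, hblo, hbhi⟩ :
      ∃ (P' Q' : Cfsg.IrrCharacter T) (f' g' : ℤ), Decomp3 Δ P' Q' f' g' ∧ ∃ Y b : ℤ,
        (f' : ℂ) * (P' : T → ℂ) 1 = Y ∧ (f' : ℂ) * (P' : T → ℂ) t = b ∧
          1 ≤ Y ∧ -5 ≤ b ∧ b ≤ 4 := by
    by_cases hpos : 1 ≤ Y1
    · exact ⟨P₁, Q₁, f₁, f₁', c₁, Y1, b1, hY1, hb1, hpos, hbound.1, hbound.2.1⟩
    · exact ⟨Q₁, P₁, f₁', f₁, c₁.swap, Y2, b2, hY2, hb2, by omega, hbound.2.2.1, hbound.2.2.2⟩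
  have hrel4 : (M : ℤ) * (Y - b) ^ 2 = 96 * (x : ℤ) ^ 2 * Y * (Y + 1) := by
    have hr := pair_relation hd4 h.fusion h.ot hv4 c hΔt
    rw [hY, hb, pairSum_th4 hA hm hF, hMeq, hcC] at hr
    push_cast at hr
    have h48 : ((48 : ℂ) * x) ^ 2 ≠ 0 := pow_ne_zero 2 (mul_ne_zero (by norm_num) hx0)
    have : ((M : ℂ) * ((Y : ℂ) - b) ^ 2) = 96 * (x : ℂ) ^ 2 * Y * (Y + 1) := by
      refine mul_left_cancel₀ h48 ?_
      linear_combination hr
    exact_mod_cast this
  -- the two equations are incompatible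
  have hxodd : Odd x := hF.odd
  have hdvd := CycSyl43SemiGLArith.dvd_sub_one hModd hxodd hMx hrel1
  have hxZ : (x : ℤ) ≠ 0 := by exact_mod_cast Nat.card_pos.ne'
  have hMZ : (M : ℤ) ≠ 0 := by exact_mod_cast hM0
  have hX1 : X - 1 ≠ 0 := fun e1 => by
    obtain rfl : X = 1 := by omega
    exact hxZ (pow_eq_zero_iff two_ne_zero |>.1 (by linarith : (x : ℤ) ^ 2 = 0))
  have hrange : X ≤ -23 ∨ 25 ≤ X := by
    have h8 := Int.natAbs_dvd_natAbs.2 hdvd
    rw [Int.natAbs_mul] at h8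
    have h3 : 3 ≤ x := by
      obtain ⟨k, hk⟩ := hxodd
      omega
    have := Nat.le_of_dvd (Int.natAbs_pos.2 hX1) h8
    simp only [Int.reduceAbs, Int.natAbs_natCast] at this
    omega
  refine CycSyl43SemiGLArith.no_solution hrange hYpos hblo hbhi ?_
  refine mul_left_cancel₀ (mul_ne_zero (mul_ne_zero (by norm_num : (96 : ℤ) ≠ 0)
    (pow_ne_zero 2 hxZ)) hMZ) ?_
  linear_combination ((X - 1) ^ 2 * (M : ℤ)) * hrel4 - ((Y - b) ^ 2 * (M : ℤ)) * hrel1

/-- PIECE SD3. -/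
theorem semiGL_false : SemiGLFalse.{u} := semiGL_false_of CycSyl43.section_sum

end Cfsg.Agent.CycSyl43SemiGL
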