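import Cfsg.Agent.Lib.CycSyl43TypesCore
import Cfsg.Agent.Lib.PSLSimple
import Cfsg.Agent.Lib.PSL2Elements

/-!
The nonsolvable centraliser, and the three configurations.
-/

set_option autoImplicit false
set_option linter.style.haveILetI false

namespace Cfsg.Agent.CycSyl43TypesMain

open Cfsg.Agent.CycSyl43 Cfsg.Agent.CycSyl43TypesLocal Cfsg.Agent.CycSyl43TypesCore
open scoped MatrixGroups

universe u

/-- A subgroup normalised by `x` with an involution contains the central involution. -/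
theorem z_mem {G : Type*} [Group G] [Finite G] {S : Subgroup G} {n : ℕ} {x y : G} (h : SD S n x y)
    (N : Subgroup G) (hN : ∀ v ∈ N, x * v * x⁻¹ ∈ N) {v : G} (hvS : v ∈ S) (hvN : v ∈ N)
    (hvo : orderOf v = 2) : x ^ 2 ^ (n - 1) ∈ N := by
  obtain ⟨i, rfl | rfl⟩ := h.cases hvS
  · have h1 := pow_orderOf_eq_one (x ^ i)
    rw [hvo, ← pow_mul] at h1
    have h2 := orderOf_dvd_of_pow_eq_one h1
    rw [h.ox, h.two_pow, mul_comm i 2] at h2
    obtain ⟨j, hj⟩ := Nat.dvd_of_mul_dvd_mul_left two_pos h2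
    rcases Nat.even_or_odd j with ⟨l, rfl⟩ | ⟨l, rfl⟩
    · exfalso
      have h3 : x ^ i = 1 := by
        rw [hj, pow_mul, pow_add, ← (Commute.refl _).mul_pow, h.z_facts.2, one_pow]
      rw [h3, orderOf_one] at hvo
      omega
    · rw [hj, pow_mul, pow_succ, two_mul, pow_add, ← (Commute.refl _).mul_pow, h.z_facts.2, one_pow,
        one_mul] at hvN
      exact hvN
  · have h1 : (x ^ i * y) * (x * (x ^ i * y)⁻¹ * x⁻¹) ∈ N := mul_mem hvN (hN _ (inv_mem hvN))
    have h2 : (x ^ i * y) * (x * (x ^ i * y)⁻¹ * x⁻¹) = x ^ (2 ^ (n - 1) - 1) * x⁻¹ := by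
      calc (x ^ i * y) * (x * (x ^ i * y)⁻¹ * x⁻¹) = x ^ i * (y * x * y⁻¹) * (x ^ i)⁻¹ * x⁻¹ := by
            group
        _ = _ := by rw [h.yx, ← pow_add, add_comm, pow_add, mul_inv_cancel_right]
    rw [h2] at h1
    obtain ⟨m, hm⟩ : ∃ m, 2 ^ (n - 2) = m + 1 := ⟨2 ^ (n - 2) - 1, by
      have : 0 < 2 ^ (n - 2) := by positivity
      omega⟩
    have hn1 : 2 ^ (n - 1) = 2 * (m + 1) := by
      rw [← hm, ← pow_succ']
      congr 1
      have := h.n3
      omega
    have h3 : x ^ (2 ^ (n - 1) - 1) * x⁻¹ = x ^ (2 * m) := by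
      rw [mul_inv_eq_iff_eq_mul, ← pow_succ]
      congr 1
      omega
    rw [h3] at h1
    have h4 : (x ^ (2 * m)) ^ (m + 1) = x ^ 2 ^ (n - 1) := by
      have hmodd : Odd m := by
        obtain ⟨r, hr⟩ : ∃ r, 2 ^ (n - 2) = 2 * r := ⟨2 ^ (n - 3), by
          rw [← pow_succ']; congr 1; have := h.n3; omega⟩
        exact ⟨r - 1, by omega⟩
      rw [← pow_mul, show 2 * m * (m + 1) = 2 ^ (n - 1) * m by rw [hn1]; ring]
      obtain ⟨l, rfl⟩ := hmodd
      rw [pow_mul, pow_succ, two_mul, pow_add, ← (Commute.refl _).mul_pow, h.z_facts.2, one_pow, one_mul]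
    exact h4 ▸ pow_mem h1 _

/-- An involution of `SL(2,p)` is `-1`. -/
theorem sl_invol {p : ℕ} [Fact p.Prime] (h5 : 5 ≤ p) {A B : SL(2, ZMod p)} (hA : orderOf A = 2)
    (hB : orderOf B = 2) : A = B := by
  have h2 : (2 : ZMod p) ≠ 0 := by
    intro h
    have h' : ((2 : ℕ) : ZMod p) = 0 := by simpa using h
    rw [ZMod.natCast_eq_zero_iff] at h'
    have := Nat.le_of_dvd two_pos h'
    omega
  have key : ∀ M : SL(2, ZMod p), orderOf M = 2 → M = -1 := fun M hM => by
    rcases PSL2Elements.eq_one_or_neg_one_of_sq_eq_one h2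
      (show M ^ 2 = 1 by have h' := pow_orderOf_eq_one M; rwa [hM] at h') with h | h
    · rw [h, orderOf_one] at hM; omega
    · exact h
  rw [key A hA, key B hB]

theorem psl_center {p : ℕ} [Fact p.Prime] (h5 : 5 ≤ p) :
    Subgroup.center (Matrix.ProjectiveSpecialLinearGroup (Fin 2) (ZMod p)) = ⊥ := by
  haveI := PSLSimple.isSimpleGroup_PSL_fin' (F := ZMod p) le_rfl fun _ => by rw [Nat.card_zmod]; omega
  rcases (inferInstance : (Subgroup.center
    (Matrix.ProjectiveSpecialLinearGroup (Fin 2) (ZMod p))).Normal).eq_bot_or_eq_top with h | h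
  · exact h
  · exfalso
    refine PSLSimple.not_isMulCommutative_PSL_fin (F := ZMod p) le_rfl
      (fun _ => by rw [Nat.card_zmod]; omega) fun a b => ?_
    exact (Subgroup.mem_center_iff.1 (h ▸ Subgroup.mem_top b) a)

theorem sl_normal_odd {p : ℕ} [Fact p.Prime] (h5 : 5 ≤ p) (K : Subgroup SL(2, ZMod p)) [K.Normal]
    (hK : Odd (Nat.card K)) : K = ⊥ := by
  let π : SL(2, ZMod p) →* Matrix.ProjectiveSpecialLinearGroup (Fin 2) (ZMod p) :=
    QuotientGroup.mk' (Subgroup.center SL(2, ZMod p))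
  haveI := PSLSimple.isSimpleGroup_PSL_fin' (F := ZMod p) le_rfl fun _ => by rw [Nat.card_zmod]; omega
  rcases ((inferInstance : K.Normal).map π (QuotientGroup.mk'_surjective _)).eq_bot_or_eq_top with h | h
  · rw [eq_bot_iff]
    intro k hk
    have hc : k ∈ Subgroup.center SL(2, ZMod p) :=
      (QuotientGroup.eq_one_iff k).1 (Subgroup.mem_bot.1 (h ▸ (⟨k, hk, rfl⟩ : π k ∈ K.map π)))
    have h2 : k ^ 2 = 1 := by
      rcases (PSL2Elements.mem_center_iff k).1 hc with rfl | rfl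
      · exact one_pow 2
      · exact neg_one_sq
    have h3 : orderOf k ∣ Nat.card K := by
      have := orderOf_dvd_natCard (⟨k, hk⟩ : K)
      rwa [Subgroup.orderOf_mk] at this
    exact Subgroup.mem_bot.2 (orderOf_eq_one_iff.1 (Nat.eq_one_of_dvd_coprimes
      (Nat.coprime_two_right.2 hK) h3 (orderOf_dvd_of_pow_eq_one h2)))
  · exfalso
    obtain ⟨a, b, ha, -, -⟩ := CycSyl43Assembly.exists_quaternion h5
    have h1 : orderOf (π a) = 2 := by
      refine orderOf_eq_prime ?_ fun h1 =>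
        CycSyl43Assembly.not_center h5 ha ((QuotientGroup.eq_one_iff a).1 h1)
      rw [← map_pow, ha]
      exact (QuotientGroup.eq_one_iff (-1 : SL(2, ZMod p))).2
        ((PSL2Elements.mem_center_iff _).2 (Or.inr rfl))
    have h2 : 2 ∣ Nat.card (K.map π) := by
      rw [h, Subgroup.card_top]
      exact (dvd_of_eq h1.symm).trans (orderOf_dvd_natCard _)
    obtain ⟨m, hm⟩ := hK
    have h3 := h2.trans (Subgroup.card_map_dvd K π)
    omega

variable {T : Type u} [Group T] [Finite T]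

/-- The semidihedral case with nonsolvable centraliser. -/
theorem semi_nonsolvable (hA : Assembly.{u}) (hT : CycSyl43.Min T) {S : Sylow 2 T} {t : T}
    (hot : orderOf t = 2) (hm : t ∈ (S : Subgroup T))
    (hc : ∀ s ∈ (S : Subgroup T), s * t = t * s)
    (hf : ∀ u v : T, orderOf u = 2 → orderOf v = 2 → IsConj u v)
    (hqd : Cfsg.IsQuasiDihedral ↥(S : Subgroup T))
    (hns : ¬ Group.IsSolvable ↥(Subgroup.centralizer ({t} : Set T))) :
    ∃ (L : Subgroup T) (p : ℕ), SemiSL S t (core t) L p := by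
  classical
  haveI : Fact (Nat.Prime 2) := ⟨Nat.prime_two⟩
  obtain ⟨n, x, y, h⟩ := exists_SD _ hqd
  set C := Subgroup.centralizer ({t} : Set T) with hCdef
  have hle : (S : Subgroup T) ≤ C := le_centralizer hc
  have hCtop : C ≠ ⊤ := by
    intro htop
    have h1 : t ∈ Subgroup.center T := Subgroup.mem_center_iff.2 fun g =>
      Subgroup.mem_centralizer_singleton_iff.1 (htop ▸ Subgroup.mem_top g : g ∈ C)
    rw [center_eq_bot hT.simple hT.nc, Subgroup.mem_bot] at h1
    rw [h1, orderOf_one] at hot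
    omega
  have hlt : Nat.card C < Nat.card T :=
    lt_of_le_of_ne (Subgroup.card_le_card_group C) fun e => hCtop (C.eq_top_of_card_eq e)
  have hbelow : SimpleBelow.{u} (Nat.card C + 1) := fun T' _ _ a b c d e =>
    hT.below T' a b c d (lt_of_lt_of_le e hlt)
  obtain ⟨G₀, hG₀, hG₀idx, X, L, hXn, hLn, hXL, hXL', hcop, hXodd, -, p, hp, h5, hiso⟩ :=
    hA C hbelow hns (CycSyl43Assembly.oddCyclic_subgroup hT.hodd C)
      (CycSyl43Assembly.twoSmall_subgroup hT.h2 C)
  haveI := hG₀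
  haveI := hXn
  haveI := hLn
  haveI := hp
  -- the factors are characteristic
  have hcomm : ∀ a ∈ X, ∀ b ∈ L, Commute a b := fun a ha b hb =>
    Subgroup.commute_of_normal_of_disjoint X L hXn hLn (disjoint_iff.2 hXL) a b ha hb
  have hdecomp : ∀ g : G₀, ∃ a ∈ X, ∃ b ∈ L, a * b = g := fun g => by
    obtain ⟨a, ha, b, hb, hab⟩ := Subgroup.mem_sup_of_normal_left.1 (hXL' ▸ Subgroup.mem_top g)
    exact ⟨a, ha, b, hb, hab⟩
  have hLiff : ∀ g : G₀, g ∈ L ↔ g ^ Nat.card L = 1 := by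
    intro g
    refine ⟨fun hg => ?_, fun hg => ?_⟩
    · have h1 := pow_card_eq_one' (x := (⟨g, hg⟩ : L))
      exact congrArg Subtype.val h1
    · obtain ⟨a, ha, b, hb, rfl⟩ := hdecomp g
      have hb1 : b ^ Nat.card L = 1 := congrArg Subtype.val (pow_card_eq_one' (x := (⟨b, hb⟩ : L)))
      rw [(hcomm a ha b hb).mul_pow, hb1, mul_one] at hg
      have ha1 : a = 1 := orderOf_eq_one_iff.1 (Nat.eq_one_of_dvd_coprimes hcop
        (by have := orderOf_dvd_natCard (⟨a, ha⟩ : X); rwa [Subgroup.orderOf_mk] at this)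
        (orderOf_dvd_of_pow_eq_one hg))
      rw [ha1, one_mul]; exact hb
  set L₁ : Subgroup C := L.map G₀.subtype with hL₁
  haveI hL₁n : L₁.Normal := ⟨by
    rintro _ ⟨g, hg, rfl⟩ c
    refine ⟨⟨c * g * c⁻¹, hG₀.conj_mem _ g.2 c⟩, (hLiff _).2 (Subtype.ext ?_), rfl⟩
    have h1 := congrArg Subtype.val ((hLiff g).1 hg)
    simp only [Subgroup.coe_pow, Subgroup.coe_one] at h1 ⊢
    rw [conj_pow, h1, mul_one, mul_inv_cancel]⟩
  have hXiff : ∀ g : G₀, g ∈ X ↔ g ^ Nat.card X = 1 := by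
    intro g
    refine ⟨fun hg => ?_, fun hg => ?_⟩
    · exact congrArg Subtype.val (pow_card_eq_one' (x := (⟨g, hg⟩ : X)))
    · obtain ⟨a, ha, b, hb, rfl⟩ := hdecomp g
      have ha1 : a ^ Nat.card X = 1 := congrArg Subtype.val (pow_card_eq_one' (x := (⟨a, ha⟩ : X)))
      rw [(hcomm a ha b hb).mul_pow, ha1, one_mul] at hg
      have hb1 : b = 1 := orderOf_eq_one_iff.1 (Nat.eq_one_of_dvd_coprimes hcop
        (orderOf_dvd_of_pow_eq_one hg)
        (by have := orderOf_dvd_natCard (⟨b, hb⟩ : L); rwa [Subgroup.orderOf_mk] at this))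
      rw [hb1, mul_one]; exact ha
  set X₁ : Subgroup C := X.map G₀.subtype with hX₁
  haveI hX₁n : X₁.Normal := ⟨by
    rintro _ ⟨g, hg, rfl⟩ c
    refine ⟨⟨c * g * c⁻¹, hG₀.conj_mem _ g.2 c⟩, (hXiff _).2 (Subtype.ext ?_), rfl⟩
    have h1 := congrArg Subtype.val ((hXiff g).1 hg)
    simp only [Subgroup.coe_pow, Subgroup.coe_one] at h1 ⊢
    rw [conj_pow, h1, mul_one, mul_inv_cancel]⟩
  -- `t` lies in `L`
  let eL : L ≃* L₁ := L.equivMapOfInjective G₀.subtype G₀.subtype_injective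
  obtain ⟨v, hv⟩ : ∃ v : L, orderOf v = 2 := by
    refine exists_prime_orderOf_dvd_card' 2 ?_
    obtain ⟨a, -, ha, -, -⟩ := CycSyl43Assembly.exists_quaternion (p := p) h5
    rcases hiso with ⟨⟨e⟩⟩ | ⟨⟨e⟩⟩
    · rw [Nat.card_congr e.toEquiv]
      have h1 : orderOf (QuotientGroup.mk' (Subgroup.center SL(2, ZMod p)) a) = 2 := by
        refine orderOf_eq_prime ?_ fun h1 =>
          CycSyl43Assembly.not_center h5 ha ((QuotientGroup.eq_one_iff a).1 h1)
        rw [← map_pow, ha]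
        exact (QuotientGroup.eq_one_iff _).2 ((PSL2Elements.mem_center_iff _).2 (Or.inr rfl))
      exact (dvd_of_eq h1.symm).trans (orderOf_dvd_natCard _)
    · rw [Nat.card_congr e.toEquiv]
      have h1 : orderOf (a * a) = 2 := by
        rw [← pow_two, ha]
        refine orderOf_eq_prime neg_one_sq fun h1 => ?_
        exact CycSyl43Assembly.not_center h5 ha ((PSL2Elements.mem_center_iff a).2 (by
          rw [h1] at ha
          exact PSL2Elements.eq_one_or_neg_one_of_sq_eq_one (by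
            intro h2
            have h' : ((2 : ℕ) : ZMod p) = 0 := by simpa using h2
            rw [ZMod.natCast_eq_zero_iff] at h'
            have := Nat.le_of_dvd two_pos h'
            omega) ha))
      exact (dvd_of_eq h1.symm).trans (orderOf_dvd_natCard _)
  set v₁ : C := ((eL v : L₁) : C)
  have hv₁ : orderOf v₁ = 2 := by rw [Subgroup.orderOf_coe, MulEquiv.orderOf_eq, hv]
  have hsd := SD.sub h hle
  have htC : x ^ 2 ^ (n - 1) = t := (h.central_eq hm hot hc).symm
  set tC : C := ⟨t, hle hm⟩ with htCdef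
  have htL : tC ∈ L₁ := by
    obtain ⟨Q, hQ⟩ := (IsPGroup.of_card (n := 1) (by rw [Nat.card_zpowers, hv₁, pow_one] :
      Nat.card (Subgroup.zpowers v₁) = 2 ^ 1)).exists_le_sylow
    obtain ⟨c, hc'⟩ := MulAction.exists_smul_eq C Q (S.subtype hle)
    have h1 : c * v₁ * c⁻¹ ∈ (S : Subgroup T).subgroupOf C := by
      rw [← Sylow.coe_subtype (h := hle), ← hc', Sylow.coe_subgroup_smul]
      exact Subgroup.smul_mem_pointwise_smul v₁ (MulAut.conj c) _ (hQ (Subgroup.mem_zpowers v₁))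
    have h2 := z_mem hsd L₁ (fun w hw => hL₁n.conj_mem w hw _) h1 (hL₁n.conj_mem _ (eL v).2 c)
      (by rw [← hv₁]; exact orderOf_injective (MulAut.conj c).toMonoidHom (MulAut.conj c).injective v₁)
    have h3 : (⟨x, hle h.xm⟩ : C) ^ 2 ^ (n - 1) = tC := Subtype.ext (by simpa using htC)
    rwa [h3] at h2
  have htCcen : ∀ c : C, c * tC = tC * c := fun c =>
    Subtype.ext (Subgroup.mem_centralizer_singleton_iff.1 c.2)
  have htCo : orderOf tC = 2 := by rw [Subgroup.orderOf_mk, hot]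
  set tL : L := eL.symm ⟨tC, htL⟩ with htLdef
  have htLo : orderOf tL = 2 := by rw [MulEquiv.orderOf_eq, Subgroup.orderOf_mk, htCo]
  have htLc : ∀ l : L, l * tL = tL * l := fun l => by
    apply eL.injective
    rw [map_mul, map_mul, htLdef, MulEquiv.apply_symm_apply]
    exact Subtype.ext (htCcen _)
  obtain ⟨eSL⟩ : Nonempty (L ≃* SL(2, ZMod p)) := by
    rcases hiso with ⟨⟨e⟩⟩ | h1
    · exfalso
      have h1 : e tL ∈ Subgroup.center (Matrix.ProjectiveSpecialLinearGroup (Fin 2) (ZMod p)) :=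
        Subgroup.mem_center_iff.2 fun g => by
          rw [← e.apply_symm_apply g, ← map_mul, ← map_mul, htLc]
      rw [psl_center h5, Subgroup.mem_bot] at h1
      have h2 : tL = 1 := e.injective (h1.trans e.map_one.symm)
      rw [h2, orderOf_one] at htLo
      omega
    · exact h1
  -- the odd core
  have hO := Nat.coprime_two_right.1 (ComponentsCores.pPrimeCore_coprime (G := C) 2)
  have hOL : Cfsg.oddCore C ⊓ L₁ = ⊥ := by
    let K : Subgroup SL(2, ZMod p) :=
      ((Cfsg.oddCore C).comap (L₁.subtype.comp eL.toMonoidHom)).map eSL.toMonoidHom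
    haveI : K.Normal := (inferInstance : ((Cfsg.oddCore C).comap (L₁.subtype.comp
      eL.toMonoidHom)).Normal).map _ eSL.surjective
    have hK : Odd (Nat.card K) := by
      rw [Subgroup.card_map_of_injective eSL.injective]
      exact hO.of_dvd_nat (Subgroup.card_comap_dvd_of_injective _ _
        (L₁.subtype_injective.comp eL.injective))
    have h1 := sl_normal_odd h5 K hK
    rw [eq_bot_iff]
    rintro c ⟨hcO, hcL⟩
    obtain ⟨l, hl⟩ := eL.surjective ⟨c, hcL⟩
    have h2 : eSL l ∈ K := ⟨l, by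
      show ((eL l : L₁) : C) ∈ Cfsg.oddCore C
      rw [hl]; exact hcO, rfl⟩
    rw [h1, Subgroup.mem_bot] at h2
    have h3 : l = 1 := eSL.injective (h2.trans eSL.map_one.symm)
    rw [Subgroup.mem_bot, ← show ((eL l : L₁) : C) = c by rw [hl], h3, map_one, Subgroup.coe_one]
  have hX₁O : X₁ ≤ Cfsg.oddCore C := by
    refine ComponentsCores.le_pPrimeCore' (Nat.coprime_two_right.2 ?_)
    rwa [hX₁, Subgroup.card_map_of_injective G₀.subtype_injective]
  have hsup : X₁ ⊔ L₁ = G₀ := by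
    rw [hX₁, hL₁, ← Subgroup.map_sup, hXL', ← MonoidHom.range_eq_map, Subgroup.range_subtype]
  have hOG : Cfsg.oddCore C ⊔ L₁ = G₀ := by
    refine le_antisymm (sup_le (fun o ho => ?_) (Subgroup.map_subtype_le _))
      (hsup ▸ sup_le_sup_right hX₁O _)
    rcases (Nat.dvd_prime Nat.prime_two).1 hG₀idx with h1 | h1
    · rw [Subgroup.index_eq_one] at h1
      rw [h1]; trivial
    · have h2 : orderOf o ∣ Nat.card (Cfsg.oddCore C) := by
        have := orderOf_dvd_natCard (⟨o, ho⟩ : Cfsg.oddCore C)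
        rwa [Subgroup.orderOf_mk] at this
      obtain ⟨k, hk⟩ := hO.of_dvd_nat h2
      have h3 : o = (o ^ 2) ^ (k + 1) := by
        rw [← pow_mul, show 2 * (k + 1) = orderOf o + 1 by omega, pow_succ, pow_orderOf_eq_one, one_mul]
      rw [h3]
      exact pow_mem (Subgroup.sq_mem_of_index_two h1 o) _
  have hO₁ : ∀ o ∈ Cfsg.oddCore C, o ∈ X₁ := by
    intro o ho
    have h1 : o ∈ X₁ ⊔ L₁ := by rw [hsup, ← hOG]; exact Subgroup.mem_sup_left ho
    obtain ⟨a, ha, b, hb, rfl⟩ := Subgroup.mem_sup_of_normal_left.1 h1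
    have hbO : b ∈ Cfsg.oddCore C := by
      have := mul_mem (inv_mem (hX₁O ha)) ho
      rwa [inv_mul_cancel_left] at this
    have hb1 : b = 1 := Subgroup.mem_bot.1 (hOL ▸ (⟨hbO, hb⟩ : b ∈ Cfsg.oddCore C ⊓ L₁))
    rwa [hb1, mul_one]
  have hidx : (Cfsg.oddCore C ⊔ L₁).index = 2 := by
    rw [hOG]
    rcases (Nat.dvd_prime Nat.prime_two).1 hG₀idx with h1 | h1
    · exfalso
      rw [Subgroup.index_eq_one] at h1
      have hy : (⟨y, hle h.ym⟩ : C) ∈ X₁ ⊔ L₁ := by rw [hsup, h1]; trivial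
      obtain ⟨a, ha, b, hb, hab⟩ := Subgroup.mem_sup_of_normal_left.1 hy
      have hcab : Commute a b := Subgroup.commute_of_normal_of_disjoint X₁ L₁ hX₁n hL₁n
        (disjoint_iff.2 (by
          rw [hX₁, hL₁, ← Subgroup.map_inf _ _ _ G₀.subtype_injective, hXL, Subgroup.map_bot]))
        a b ha hb
      have h2 : (a * b) ^ 2 = 1 := by
        rw [hab, pow_two]; exact Subtype.ext h.yy
      rw [hcab.mul_pow] at h2
      have ha2 : a ^ 2 = 1 := by
        have h3 : a ^ 2 ∈ L₁ := by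
          rw [eq_inv_of_mul_eq_one_left h2]; exact inv_mem (pow_mem hb 2)
        exact Subgroup.mem_bot.1 (hOL ▸ (⟨pow_mem (hX₁O ha) 2, h3⟩ : a ^ 2 ∈ Cfsg.oddCore C ⊓ L₁))
      have ha1 : a = 1 := orderOf_eq_one_iff.1 (Nat.eq_one_of_dvd_coprimes
        (Nat.coprime_two_right.2 hO) (by
          have := orderOf_dvd_natCard (⟨a, hX₁O ha⟩ : Cfsg.oddCore C)
          rwa [Subgroup.orderOf_mk] at this) (orderOf_dvd_of_pow_eq_one ha2))
      rw [ha1, one_mul] at hab
      have hbo : orderOf b = 2 := by rw [hab, Subgroup.orderOf_mk, h.oy]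
      have h4 : eSL (eL.symm ⟨b, hb⟩) = eSL tL := sl_invol h5
        (by rw [MulEquiv.orderOf_eq, MulEquiv.orderOf_eq, Subgroup.orderOf_mk, hbo])
        (by rw [MulEquiv.orderOf_eq, htLo])
      have h5' := congrArg Subtype.val (eL.symm.injective ((eSL.injective h4).trans htLdef))
      have h6 : y = t := congrArg Subtype.val (hab.symm.trans h5')
      exact h.y_notMem (by rw [h6, ← htC]; exact pow_mem (Subgroup.mem_zpowers x) _)
    · exact h1
  refine ⟨L₁.map C.subtype, p, { mk_base hot hm hc hf with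
    iso := hqd, five := h5, prime := hp.out, leL := Subgroup.map_subtype_le _, normalL := ?_,
    isoL := ⟨((L₁.equivMapOfInjective C.subtype C.subtype_injective).symm.trans eL.symm).trans eSL⟩,
    tL := ⟨tC, htL, rfl⟩, comm := ?_, disj := ?_, index := ?_ }⟩
  · rintro c hc' _ ⟨l, hl, rfl⟩
    exact ⟨_, hL₁n.conj_mem l hl ⟨c, hc'⟩, rfl⟩
  · rintro _ ⟨a, ha, rfl⟩ _ ⟨l, hl, rfl⟩
    rw [← map_mul, ← map_mul]
    exact congrArg C.subtype ((Subgroup.commute_of_normal_of_disjoint _ L₁ inferInstance hL₁n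
      (disjoint_iff.2 hOL) a l ha hl).eq)
  · rw [core, ← Subgroup.map_inf _ _ _ C.subtype_injective, hOL, Subgroup.map_bot]
  · rw [core, ← Subgroup.map_sup, Subgroup.relIndex, Subgroup.subgroupOf,
      Subgroup.comap_map_eq_self_of_injective C.subtype_injective]
    exact hidx

/-- The three configurations, from the structure of the Sylow 2-subgroup. -/
theorem types_of (hA : Assembly.{u}) (hT : CycSyl43.Min T) {S : Sylow 2 T} {t : T}
    (hot : orderOf t = 2) (hm : t ∈ (S : Subgroup T))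
    (hc : ∀ s ∈ (S : Subgroup T), s * t = t * s)
    (hf : ∀ u v : T, orderOf u = 2 → orderOf v = 2 → IsConj u v)
    (hS : (∃ k, 1 ≤ k ∧ Nonempty ((S : Subgroup T) ≃* DihedralGroup (2 ^ k))) ∨
      Cfsg.IsQuasiDihedral ↥(S : Subgroup T)) :
    (∃ (S : Sylow 2 T) (t : T) (O : Subgroup T), Dih S t O) ∨
    (∃ (S : Sylow 2 T) (t : T) (O : Subgroup T), SemiGL S t O) ∨
    (∃ (S : Sylow 2 T) (t : T) (O L : Subgroup T) (p : ℕ), SemiSL S t O L p) := by
  rcases hS with ⟨k, hk, ⟨e⟩⟩ | hqd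
  · exact Or.inl ⟨S, t, core t, dih_case hot hm hc hf hk e⟩
  obtain ⟨n, x, y, h⟩ := exists_SD _ hqd
  by_cases hsol : Group.IsSolvable ↥(Subgroup.centralizer ({t} : Set T))
  · obtain ⟨g, hg, hgx⟩ := exists_fusing hT.simple hT.nc hot hm hc h
    exact Or.inr (Or.inl ⟨S, t, core t, { mk_base hot hm hc hf with
      iso := hqd
      quot := semi_solvable hot hm hc h hsol (not_split h hg hgx (le_centralizer hc)) }⟩)
  · obtain ⟨L, p, hL⟩ := semi_nonsolvable hA hT hot hm hc hf hqd hsol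
    exact Or.inr (Or.inr ⟨S, t, core t, L, p, hL⟩)

end Cfsg.Agent.CycSyl43TypesMain
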