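import Cfsg.Agent.Lib.CycSyl43TwoFusion
import Cfsg.Agent.Lib.CycSyl43TypesMain

/-!
The possible configurations in a minimal simple group with cyclic odd Sylow subgroups.
-/

set_option autoImplicit false

namespace Cfsg.Agent.CycSyl43Types

open Cfsg.Agent.CycSyl43

universe u

theorem types : Types.{u} := by
  intro hA T _ _ hT
  obtain ⟨S, t, hot, hm, hc, hf, hS⟩ := two_cases hT
  exact CycSyl43TypesMain.types_of hA hT hot hm hc hf hS

end Cfsg.Agent.CycSyl43Types
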