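import Cfsg.Agent.Lib.CycSyl43DihGlue
import Cfsg.Agent.Lib.CycSyl43Assembly
import Cfsg.Agent.Lib.CycSyl43Types
import Cfsg.Agent.Lib.CycSyl43Reflection
import Cfsg.Agent.Lib.CycSyl43SemiGL

/-!
The classification, given that the `SL(2,p)` configuration does not occur.
-/

set_option autoImplicit false

namespace Cfsg.Agent.CycSyl43

universe u

theorem concl_of_semiSL (hSL : SemiSLFalse.{u}) (G : Type u) [Group G] [Finite G]
    (hns : ¬ Group.IsSolvable G) (hodd : OddCyclic G) (h2 : TwoSmall G) : Concl G :=
  concl CycSyl43Assembly.assembly CycSyl43Types.types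
    (dihPSL CycSyl43Assembly.assembly reflection_free) CycSyl43SemiGL.semiGL_false hSL G hns hodd h2

end Cfsg.Agent.CycSyl43
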