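import Mathlib
import Cfsg.Prelude.Def_Transfer
import Cfsg.Agent.Lib.CycSyl43Defs
import Cfsg.Agent.Lib.CoprimeAction
import Cfsg.Agent.Lib.BurnsideSmall

/-!
In the dihedral configuration the normaliser of a nontrivial subgroup of the odd core `O` of the
centraliser of the central involution lies in that centraliser.
-/

set_option autoImplicit false

namespace Cfsg.Agent.CycSyl43DihedralNorm

open Cfsg.Agent.CycSyl43

universe u

/-- In a cyclic group an element of the same order as `a` is a power of `a`. -/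
theorem mem_zpowers_of_orderOf {H : Type*} [Group H] [Finite H] [IsCyclic H] {a b : H}
    (h : orderOf b = orderOf a) : b ∈ Subgroup.zpowers a := by
  classical
  have := Fintype.ofFinite H
  have hle := IsCyclic.card_pow_eq_one_le (α := H) (n := orderOf a) (orderOf_pos a)
  have hsub : Finset.univ.filter (fun x : H => x ∈ Subgroup.zpowers a) ⊆
      Finset.univ.filter (fun x : H => x ^ orderOf a = 1) := by
    intro x hx
    simp only [Finset.mem_filter, Finset.mem_univ, true_and] at hx ⊢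
    exact orderOf_dvd_iff_pow_eq_one.1 (orderOf_dvd_of_mem_zpowers hx)
  have hcard : (Finset.univ.filter (fun x : H => x ∈ Subgroup.zpowers a)).card = orderOf a := by
    rw [← Fintype.card_subtype, ← Fintype.card_zpowers]
  have heq := Finset.eq_of_subset_of_card_le hsub (hle.trans hcard.ge)
  have hb : b ∈ Finset.univ.filter (fun x : H => x ^ orderOf a = 1) := by
    simp only [Finset.mem_filter, Finset.mem_univ, true_and]
    rw [← h]
    exact pow_orderOf_eq_one b
  rw [← heq] at hb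
  simpa using hb

/-- The central involution of a dihedral group of order at least `8` is a commutator. -/
theorem dihedral_central_commutator (k : ℕ) (hk : 2 ≤ k) (x : DihedralGroup (2 ^ k)) (h1 : x ≠ 1)
    (h2 : x * x = 1) (hc : ∀ a, a * x = x * a) : ∃ a b, x = a * b * a⁻¹ * b⁻¹ := by
  have hpos : 0 < 2 ^ k := by positivity
  have hne : NeZero (2 ^ k) := ⟨hpos.ne'⟩
  cases x with
  | r i =>
    rw [DihedralGroup.r_mul_r] at h2
    rw [DihedralGroup.one_def] at h2
    have hii : i + i = 0 := DihedralGroup.r.inj h2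
    have hi0 : i ≠ 0 := fun h => h1 (by rw [h, DihedralGroup.one_def])
    have hv : i.val = 2 ^ (k - 1) := by
      have hlt := i.val_lt
      have h0 : i.val ≠ 0 := fun h => hi0 ((ZMod.val_eq_zero i).1 h)
      have hsum : (((i.val + i.val : ℕ)) : ZMod (2 ^ k)) = 0 := by
        push_cast
        rw [ZMod.natCast_zmod_val, hii]
      rw [ZMod.natCast_eq_zero_iff] at hsum
      obtain ⟨c, hc'⟩ := hsum
      have h2k : 2 ^ k = 2 * 2 ^ (k - 1) := by
        rw [← pow_succ']
        congr 1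
        omega
      have hc1 : c = 1 := by
        rcases c with _ | _ | c
        · omega
        · rfl
        · exfalso
          have : 2 ^ k * 2 ≤ 2 ^ k * (c + 1 + 1) := Nat.mul_le_mul_left _ (by omega)
          omega
      subst hc1
      omega
    refine ⟨.r ((2 ^ (k - 2) : ℕ) : ZMod (2 ^ k)), .sr 0, ?_⟩
    have hi : i = ((2 ^ (k - 2) : ℕ) : ZMod (2 ^ k)) + ((2 ^ (k - 2) : ℕ) : ZMod (2 ^ k)) := by
      rw [← ZMod.natCast_zmod_val i, hv, ← Nat.cast_add]
      congr 1
      have : k - 1 = (k - 2) + 1 := by omega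
      rw [this, pow_succ]
      omega
    simp only [DihedralGroup.inv_r, DihedralGroup.inv_sr, DihedralGroup.r_mul_sr,
      DihedralGroup.sr_mul_r, DihedralGroup.sr_mul_sr]
    rw [hi]
    congr 1
    abel
  | sr i =>
    have h := hc (.r 1)
    rw [DihedralGroup.r_mul_sr, DihedralGroup.sr_mul_r] at h
    injection h with h'
    exfalso
    have h20 : ((2 : ℕ) : ZMod (2 ^ k)) = 0 := by
      have h3 : (i + 1) - (i - 1) = 0 := sub_eq_zero.2 h'.symm
      push_cast
      rw [← h3]
      ring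
    rw [ZMod.natCast_eq_zero_iff] at h20
    have := Nat.le_of_dvd two_pos h20
    have h4 : 2 ^ 2 ≤ 2 ^ k := Nat.pow_le_pow_right two_pos hk
    omega

variable {T : Type u} [Group T] [Finite T]

/-- Odd prime-power subgroups are cyclic. -/
theorem cyclic_of_pgroup (hodd : OddCyclic T) {q : ℕ} (hq : q.Prime) (hq2 : q ≠ 2)
    (Q : Subgroup T) (hQ : IsPGroup q Q) : IsCyclic Q := by
  have := Fact.mk hq
  obtain ⟨P, hP⟩ := hQ.exists_le_sylow
  have := hodd q hq hq2 P
  exact isCyclic_of_injective (Subgroup.inclusion hP) (Subgroup.inclusion_injective hP)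

/-- The automorphisms induced on a cyclic subgroup commute. -/
theorem commutator_centralizes (Q : Subgroup T) [IsCyclic Q] {a b : T}
    (ha : a ∈ Subgroup.normalizer (Q : Set T)) (hb : b ∈ Subgroup.normalizer (Q : Set T)) :
    ∀ x ∈ Q, (a * b * a⁻¹ * b⁻¹) * x = x * (a * b * a⁻¹ * b⁻¹) := by
  obtain ⟨g, hg⟩ := IsCyclic.exists_generator (α := Q)
  have key : ∀ (c : T), c ∈ Subgroup.normalizer (Q : Set T) →
      ∃ m : ℤ, ∀ x ∈ Q, c * x * c⁻¹ = x ^ m := by
    intro c hc
    obtain ⟨m, hm⟩ := Subgroup.mem_zpowers_iff.1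
      (hg ⟨c * g * c⁻¹, CoprimeAction.conj_mem hc g.2⟩)
    refine ⟨m, fun x hx => ?_⟩
    obtain ⟨j, hj⟩ := Subgroup.mem_zpowers_iff.1 (hg ⟨x, hx⟩)
    have hxj : ((g : T)) ^ j = x := by simpa using congrArg Subtype.val hj
    have hgm : ((g : T)) ^ m = c * g * c⁻¹ := by simpa using congrArg Subtype.val hm
    rw [← hxj, ← conj_zpow, ← hgm, ← zpow_mul, ← zpow_mul, mul_comm]
  intro x hx
  obtain ⟨m, hm⟩ := key a ha
  obtain ⟨n, hn⟩ := key b hb
  set w := (b * a)⁻¹ * x * (b * a) with hw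
  have hwQ : w ∈ Q := CoprimeAction.conj_mem' (mul_mem hb ha) hx
  have hab' : (a * b) * w * (a * b)⁻¹ = (b * a) * w * (b * a)⁻¹ := by
    have e1 : (a * b) * w * (a * b)⁻¹ = a * (b * w * b⁻¹) * a⁻¹ := by group
    have e2 : (b * a) * w * (b * a)⁻¹ = b * (a * w * a⁻¹) * b⁻¹ := by group
    rw [e1, e2, hn w hwQ, hm w hwQ, hm _ (zpow_mem hwQ n), hn _ (zpow_mem hwQ m), ← zpow_mul,
      ← zpow_mul, mul_comm]
  have e3 : (a * b * a⁻¹ * b⁻¹) * x * (a * b * a⁻¹ * b⁻¹)⁻¹ = (a * b) * w * (a * b)⁻¹ := by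
    rw [hw]; group
  have e4 : (b * a) * w * (b * a)⁻¹ = x := by
    rw [hw]; group
  rw [← mul_inv_eq_iff_eq_mul, e3, hab', e4]

/-- An involution acting on a cyclic group of odd prime power order centralises or inverts it. -/
theorem sign_of_involution {q : ℕ} (hq : q.Prime) (hq2 : q ≠ 2) (Q : Subgroup T) (hQ : IsPGroup q Q)
    [IsCyclic Q] {v : T} (hv : v ∈ Subgroup.normalizer (Q : Set T)) (hv2 : v * v = 1) :
    (∀ x ∈ Q, v * x * v⁻¹ = x) ∨ (∀ x ∈ Q, v * x * v⁻¹ = x⁻¹) := by
  obtain ⟨g, hg⟩ := IsCyclic.exists_generator (α := Q)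
  obtain ⟨m, hm⟩ := Subgroup.mem_zpowers_iff.1
    (hg ⟨v * g * v⁻¹, CoprimeAction.conj_mem hv g.2⟩)
  have hgm : ((g : T)) ^ m = v * g * v⁻¹ := by simpa using congrArg Subtype.val hm
  obtain ⟨e, he⟩ := hQ g
  have hog : ∃ f, orderOf (g : T) = q ^ f := by
    obtain ⟨f, -, hf⟩ := (Nat.dvd_prime_pow hq).1 (orderOf_dvd_of_pow_eq_one he)
    exact ⟨f, by rw [Subgroup.orderOf_coe, hf]⟩
  obtain ⟨f, hf⟩ := hog
  have hvinv : v⁻¹ = v := inv_eq_of_mul_eq_one_left hv2
  have hmm : ((g : T)) ^ (m * m) = g := by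
    rw [zpow_mul, hgm, conj_zpow, hgm, hvinv]
    calc v * (v * g * v) * v = (v * v) * g * (v * v) := by group
      _ = g := by rw [hv2, one_mul, mul_one]
  have hdvd : ((q : ℤ) ^ f) ∣ (m - 1) * (m + 1) := by
    have : (orderOf (g : T) : ℤ) ∣ m * m - 1 := by
      rw [orderOf_dvd_iff_zpow_eq_one, zpow_sub, hmm, zpow_one, mul_inv_cancel]
    rw [hf] at this
    push_cast at this
    have e2 : (m - 1) * (m + 1) = m * m - 1 := by ring
    rwa [e2]
  have hqp : Prime (q : ℤ) := Nat.prime_iff_prime_int.1 hq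
  have spread : ∀ d : ℤ, ((g : T)) ^ m = g ^ d → ∀ x ∈ Q, v * x * v⁻¹ = x ^ d := by
    intro d hd x hx
    obtain ⟨j, hj⟩ := Subgroup.mem_zpowers_iff.1 (hg ⟨x, hx⟩)
    have hxj : ((g : T)) ^ j = x := by simpa using congrArg Subtype.val hj
    rw [← hxj, ← conj_zpow, ← hgm, hd, ← zpow_mul, ← zpow_mul, mul_comm]
  have eq_of_dvd : ∀ d : ℤ, ((q : ℤ) ^ f) ∣ m - d → ((g : T)) ^ m = g ^ d := by
    intro d hd
    have : ((g : T)) ^ (m - d) = 1 := by
      rw [← orderOf_dvd_iff_zpow_eq_one, hf]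
      push_cast
      exact hd
    rw [zpow_sub, mul_inv_eq_one] at this
    exact this
  by_cases h1 : (q : ℤ) ∣ m - 1
  · left
    have h2 : ¬ (q : ℤ) ∣ m + 1 := by
      intro h
      have h3 : (q : ℤ) ∣ 2 := by
        have := dvd_sub h h1
        simpa [show (m + 1) - (m - 1) = 2 by ring] using this
      have h4 : q ∣ 2 := by exact_mod_cast h3
      exact hq2 ((Nat.prime_dvd_prime_iff_eq hq Nat.prime_two).1 h4)
    intro x hx
    have := spread 1 (eq_of_dvd 1 (hqp.pow_dvd_of_dvd_mul_right f h2 hdvd)) x hx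
    simpa using this
  · right
    intro x hx
    have := spread (-1) (eq_of_dvd (-1) (by simpa using hqp.pow_dvd_of_dvd_mul_left f h1 hdvd)) x hx
    simpa using this

/-- An element of odd order and of order dividing a power of two is trivial. -/
theorem eq_one_of_odd_of_two {x : T} {N : ℕ} (hN : Odd N) (h1 : x ^ N = 1) {a : ℕ}
    (h2 : x ^ (2 ^ a) = 1) : x = 1 := by
  have hcop : Nat.Coprime (2 ^ a) N := (Nat.coprime_two_left.2 hN).pow_left _
  rw [← orderOf_eq_one_iff]
  exact Nat.eq_one_of_dvd_coprimes hcop (orderOf_dvd_of_pow_eq_one h2)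
    (orderOf_dvd_of_pow_eq_one h1)

variable {S : Sylow 2 T} {t : T} {O : Subgroup T}

/-- The prime-order case. -/
theorem normalizer_zpowers_le (hodd : OddCyclic T) (hd : Dih S t O) (hs : OStruct S O)
    (ha : O ≠ ⊥ → IsCyclic ((S : Subgroup T) ⊓ Subgroup.centralizer (O : Set T) : Subgroup T) ∧
      ((S : Subgroup T) ⊓ Subgroup.centralizer (O : Set T)).relIndex (S : Subgroup T) = 2)
    (hb : ∀ s ∈ (S : Subgroup T), s ∉ Subgroup.centralizer (O : Set T) → ∀ y ∈ O,
      s * y * s⁻¹ = y⁻¹)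
    {y0 : T} (hy0 : y0 ∈ O) (hy1 : y0 ≠ 1) :
    Subgroup.normalizer (Subgroup.zpowers y0 : Set T) ≤ Subgroup.centralizer ({t} : Set T) := by
  have := hs.cyc
  set Y := Subgroup.zpowers y0 with hY
  have hObot : O ≠ ⊥ := fun h => hy1 (by rw [h] at hy0; exact Subgroup.mem_bot.1 hy0)
  set A := (S : Subgroup T) ⊓ Subgroup.centralizer (O : Set T) with hA
  obtain ⟨hAcyc, hAidx⟩ := ha hObot
  have ht2 : t * t = 1 := by rw [← pow_two, ← hd.ot, pow_orderOf_eq_one]
  have htO : ∀ y ∈ O, t * y = y * t := fun y hy =>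
    (Subgroup.mem_centralizer_singleton_iff.1 (hd.le hy)).symm
  have htA : t ∈ A := ⟨hd.mem, Subgroup.mem_centralizer_iff.2 fun y hy => (htO y hy).symm⟩
  have hOcomm : ∀ a ∈ O, ∀ b ∈ O, a * b = b * a := fun a ha' b hb' =>
    Subgroup.mul_comm_of_mem_isMulCommutative O ha' hb'
  have hS2 : ∀ s ∈ (S : Subgroup T), ∃ a : ℕ, s ^ (2 ^ a) = 1 := fun s hs' => by
    obtain ⟨a, ha'⟩ := S.2 ⟨s, hs'⟩
    exact ⟨a, by simpa using congrArg Subtype.val ha'⟩
  have hOS : ∀ x, x ∈ O → x ∈ (S : Subgroup T) → x = 1 := fun x hx hx' => by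
    obtain ⟨a, ha'⟩ := hS2 x hx'
    exact eq_one_of_odd_of_two hd.odd
      (orderOf_dvd_iff_pow_eq_one.1 (Subgroup.orderOf_dvd_natCard O hx)) ha'
  have hOY : O ≤ Subgroup.centralizer (Y : Set T) := fun y hy => by
    rw [Subgroup.mem_centralizer_iff]
    intro z hz
    exact hOcomm z (Subgroup.zpowers_le.2 hy0 hz) y hy
  -- `C(t) ∩ C(Y) = O * A`
  have hCC : ∀ c, c * t = t * c → c ∈ Subgroup.centralizer (Y : Set T) →
      ∃ y ∈ O, ∃ a ∈ A, c = y * a := by
    intro c hct hcY
    obtain ⟨y, hy, s, hsS, rfl⟩ := hd.cent c (Subgroup.mem_centralizer_singleton_iff.2 hct)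
    refine ⟨y, hy, s, ⟨hsS, ?_⟩, rfl⟩
    by_contra hns
    have h1 := hb s hsS hns y0 hy0
    have hsY : s ∈ Subgroup.centralizer (Y : Set T) := by
      have := mul_mem (inv_mem (hOY hy)) hcY
      rwa [inv_mul_cancel_left] at this
    have h2 : s * y0 * s⁻¹ = y0 := by
      rw [← Subgroup.mem_centralizer_iff.1 hsY y0 (Subgroup.mem_zpowers y0), mul_inv_cancel_right]
    rw [h2] at h1
    refine hy1 (eq_one_of_odd_of_two hd.odd
      (orderOf_dvd_iff_pow_eq_one.1 (Subgroup.orderOf_dvd_natCard O hy0)) (a := 1) ?_)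
    rw [pow_one, pow_two]
    exact mul_eq_one_iff_eq_inv.2 h1
  have hAY : A ≤ Subgroup.centralizer (Y : Set T) := fun a ha' => by
    refine Subgroup.mem_centralizer_iff.2 fun z hz => ?_
    exact Subgroup.mem_centralizer_iff.1 ha'.2 z (Subgroup.zpowers_le.2 hy0 hz)
  have hOA : ∀ y ∈ O, ∀ a ∈ A, Commute y a := fun y hy a ha' =>
    Subgroup.mem_centralizer_iff.1 ha'.2 y hy
  -- a 2-element of `C(t) ∩ C(Y)` lies in `A`
  have htwo : ∀ c, c * t = t * c → c ∈ Subgroup.centralizer (Y : Set T) →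
      ∀ e : ℕ, c ^ (2 ^ e) = 1 → c ∈ A := by
    intro c hct hcY e he
    obtain ⟨y, hy, a, ha', rfl⟩ := hCC c hct hcY
    rw [(hOA y hy a ha').mul_pow] at he
    have hye : y ^ (2 ^ e) = 1 :=
      hOS _ (pow_mem hy _) (by rw [mul_eq_one_iff_eq_inv.1 he]; exact inv_mem (pow_mem ha'.1 _))
    rw [eq_one_of_odd_of_two hd.odd
      (orderOf_dvd_iff_pow_eq_one.1 (Subgroup.orderOf_dvd_natCard O hy)) hye, one_mul]
    exact ha'
  have hinvA : ∀ a ∈ A, orderOf a = 2 → a = t := by
    intro a ha' ho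
    have h1 := mem_zpowers_of_orderOf (H := A) (a := ⟨t, htA⟩) (b := ⟨a, ha'⟩)
      (by rw [Subgroup.orderOf_mk, Subgroup.orderOf_mk, ho, hd.ot])
    obtain ⟨j, hj⟩ := Subgroup.mem_zpowers_iff.1 h1
    have hja : t ^ j = a := by simpa using congrArg Subtype.val hj
    rcases Int.even_or_odd j with ⟨i, rfl⟩ | ⟨i, rfl⟩
    · rw [← two_mul, zpow_mul, zpow_two, ht2, one_zpow] at hja
      subst hja
      simp at ho
    · rw [zpow_add, zpow_mul, zpow_two, ht2, one_zpow, one_mul, zpow_one] at hja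
      exact hja.symm
  set C := Subgroup.centralizer (Y : Set T) with hC
  set A' := A.subgroupOf C with hA'
  have hA'2 : IsPGroup 2 A' := IsPGroup.of_injective (S.2.to_le (inf_le_left : A ≤ (S : Subgroup T)))
    (Subgroup.subgroupOfEquivOfLe hAY).toMonoidHom (Subgroup.subgroupOfEquivOfLe hAY).injective
  obtain ⟨P, hP⟩ := hA'2.exists_le_sylow
  have : Fact (Nat.Prime 2) := ⟨Nat.prime_two⟩
  have hPA : (P : Subgroup C) ≤ A' := by
    by_contra hne
    set B := A'.subgroupOf (P : Subgroup C) with hB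
    have hBtop : B < ⊤ := lt_top_iff_ne_top.2 fun h => hne (Subgroup.subgroupOf_eq_top.1 h)
    have hnil : Group.IsNilpotent ↥(P : Subgroup C) := P.2.isNilpotent
    have hlt := normalizerCondition_of_isNilpotent B hBtop
    obtain ⟨g, hg, hgB⟩ := SetLike.exists_of_lt hlt
    refine hgB ?_
    have htP : (⟨t, hAY htA⟩ : C) ∈ (P : Subgroup C) := hP htA
    have h1 : g * ⟨⟨t, hAY htA⟩, htP⟩ * g⁻¹ ∈ B :=
      CoprimeAction.conj_mem hg (show ((⟨⟨t, hAY htA⟩, htP⟩ : ↥(P : Subgroup C))) ∈ B from htA)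
    set g' : T := ((g : C) : T) with hg'
    have h2 : g' * t * g'⁻¹ ∈ A := h1
    have h3 := hinvA _ h2 (by rw [← MulAut.conj_apply, MulEquiv.orderOf_eq, hd.ot])
    obtain ⟨e, he⟩ := P.2 g
    exact htwo g' (mul_inv_eq_iff_eq_mul.1 h3) (g : C).2 e
      (by simpa using congrArg (fun z : ↥(P : Subgroup C) => ((z : C) : T)) he)
  have hPeq : (P : Subgroup C) = A' := le_antisymm hPA hP
  have hPcyc : IsCyclic (P : Subgroup C) := by
    rw [hPeq]
    exact isCyclic_of_injective (Subgroup.subgroupOfEquivOfLe hAY).toMonoidHom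
      (Subgroup.subgroupOfEquivOfLe hAY).injective
  have hmin : (Nat.card C).minFac = 2 := (Nat.minFac_eq_two_iff _).2 <| by
    rw [← hd.ot]
    exact Subgroup.orderOf_dvd_natCard C (hAY htA)
  obtain ⟨P₁, Z', hZn, hZc⟩ := BurnsideSmall.hasNormalPComplement_of_normalizer_le_centralizer P
    (IsCyclic.normalizer_le_centralizer hmin hPcyc)
  set Z := Z'.map C.subtype with hZ
  have hZodd : Odd (Nat.card Z) := by
    rw [hZ, Subgroup.card_map_of_injective C.subtype_injective, ← hZc.index_eq_card]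
    exact Nat.odd_iff.2 (Nat.two_dvd_ne_zero.1 P₁.not_dvd_index)
  have hoddmem : ∀ x ∈ C, Odd (orderOf x) → x ∈ Z := by
    intro x hx ho
    refine ⟨⟨x, hx⟩, ?_, rfl⟩
    have h1 : orderOf (QuotientGroup.mk (s := Z') (⟨x, hx⟩ : C)) ∣ orderOf x := by
      rw [← Subgroup.orderOf_mk x hx]
      exact orderOf_map_dvd (QuotientGroup.mk' Z') _
    have hidx : Z'.index = Nat.card (P₁ : Subgroup C) := hZc.symm.index_eq_card
    obtain ⟨e, he⟩ := IsPGroup.iff_card.1 P₁.2
    have h2 : orderOf (QuotientGroup.mk (s := Z') (⟨x, hx⟩ : C)) ∣ 2 ^ e := by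
      rw [← he, ← hidx]
      exact orderOf_dvd_natCard _
    have h3 := Nat.eq_one_of_dvd_coprimes ((Nat.coprime_two_left.2 ho).pow_left e) h2 h1
    rw [orderOf_eq_one_iff, QuotientGroup.eq_one_iff] at h3
    exact h3
  have hZC : Z ≤ C := Subgroup.map_subtype_le _
  have hoddOrd : ∀ x ∈ Z, Odd (orderOf x) := fun x hx =>
    hZodd.of_dvd_nat (Subgroup.orderOf_dvd_natCard Z hx)
  have hZnorm : ∀ g ∈ Subgroup.normalizer (Y : Set T), ∀ x ∈ Z, g * x * g⁻¹ ∈ Z := by
    intro g hg x hx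
    refine hoddmem _ ?_ (by rw [← MulAut.conj_apply, MulEquiv.orderOf_eq]; exact hoddOrd x hx)
    refine Subgroup.mem_centralizer_iff.2 fun z hz => ?_
    have h1 : g⁻¹ * z * g ∈ Y := CoprimeAction.conj_mem' hg hz
    have h2 := Subgroup.mem_centralizer_iff.1 (hZC hx) _ h1
    calc z * (g * x * g⁻¹) = g * ((g⁻¹ * z * g) * x) * g⁻¹ := by group
      _ = g * (x * (g⁻¹ * z * g)) * g⁻¹ := by rw [h2]
      _ = g * x * g⁻¹ * z := by group
  have hSY : ∀ s ∈ (S : Subgroup T), s ∈ Subgroup.normalizer (Y : Set T) := by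
    intro s hsS
    have h1 : ∀ z ∈ (S : Subgroup T), ∀ x ∈ Y, z * x * z⁻¹ ∈ Y := by
      intro z hz x hx
      by_cases hzc : z ∈ Subgroup.centralizer (O : Set T)
      · rw [← Subgroup.mem_centralizer_iff.1 hzc x (Subgroup.zpowers_le.2 hy0 hx),
          mul_inv_cancel_right]
        exact hx
      · rw [hb z hz hzc x (Subgroup.zpowers_le.2 hy0 hx)]
        exact inv_mem hx
    exact CoprimeAction.le_normalizer_of_conj_mem h1 hsS
  have hSZ : (S : Subgroup T) ≤ Subgroup.normalizer (Z : Set T) :=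
    CoprimeAction.le_normalizer_of_conj_mem fun s hsS x hx => hZnorm s (hSY s hsS) x hx
  have hcop : (Nat.card (S : Subgroup T)).Coprime (Nat.card Z) := by
    obtain ⟨e, he⟩ := IsPGroup.iff_card.1 S.2
    rw [he]
    exact (Nat.coprime_two_left.2 hZodd).pow_left e
  have hsolv : Group.IsSolvable ↥(S : Subgroup T) ∨ Group.IsSolvable Z :=
    Or.inl (CoprimeAction.isSolvable_of_isPGroup S.2)
  have hctO : ∀ x, x * t = t * x → Odd (orderOf x) → x ∈ O := by
    intro x hxt ho
    obtain ⟨y, hy, s, hsS, rfl⟩ := hd.cent x (Subgroup.mem_centralizer_singleton_iff.2 hxt)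
    have hyC := hd.le hy
    have hsC : s ∈ Subgroup.centralizer ({t} : Set T) :=
      Subgroup.mem_centralizer_singleton_iff.2 (hd.central s hsS)
    have hpow : ∀ n : ℕ, ∃ y' ∈ O, (y * s) ^ n = y' * s ^ n := by
      intro n
      induction n with
      | zero => exact ⟨1, one_mem O, by simp⟩
      | succ n ih =>
        obtain ⟨y', hy', e⟩ := ih
        refine ⟨y' * (s ^ n * y * (s ^ n)⁻¹), mul_mem hy' (hd.normal _ (pow_mem hsC n) y hy), ?_⟩
        rw [pow_succ, e, pow_succ]
        group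
    obtain ⟨y', hy', e⟩ := hpow (orderOf (y * s))
    rw [pow_orderOf_eq_one] at e
    obtain ⟨a, ha'⟩ := hS2 s hsS
    have h1 : s ^ orderOf (y * s) = 1 := by
      refine hOS _ ?_ (pow_mem hsS _)
      rw [eq_inv_of_mul_eq_one_right e.symm]
      exact inv_mem hy'
    rw [eq_one_of_odd_of_two ho h1 ha', mul_one]
    exact hy
  obtain ⟨k, hk, ⟨φ⟩⟩ := hd.iso
  -- every invariant Sylow subgroup of `Z` is centralised by `t`
  have main : ∀ q : ℕ, q.Prime → ∃ Q : Sylow q Z,
      (Q : Subgroup Z).map Z.subtype ≤ Subgroup.centralizer ({t} : Set T) := by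
    intro q hq
    have := Fact.mk hq
    obtain ⟨Q, hQ⟩ := CoprimeAction.exists_invariant_sylow hSZ hcop hsolv q
    refine ⟨Q, ?_⟩
    set R := (Q : Subgroup Z).map Z.subtype with hR
    have hRZ : R ≤ Z := Subgroup.map_subtype_le _
    have hRp : IsPGroup q R := Q.2.map Z.subtype
    by_cases hq2 : q = 2
    · subst hq2
      intro x hx
      obtain ⟨e, he⟩ := hRp ⟨x, hx⟩
      have he' : x ^ (2 ^ e) = 1 := by simpa using congrArg Subtype.val he
      rw [eq_one_of_odd_of_two hZodd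
        (orderOf_dvd_iff_pow_eq_one.1 (Subgroup.orderOf_dvd_natCard Z (hRZ hx))) he']
      exact one_mem _
    have := cyclic_of_pgroup hodd hq hq2 R hRp
    rcases Nat.lt_or_ge k 2 with hk1 | hk2
    · -- four-group
      have hk' : k = 1 := by omega
      subst hk'
      have hScomm : ∀ a ∈ (S : Subgroup T), ∀ b ∈ (S : Subgroup T), a * b = b * a := by
        intro a ha' b hb'
        have h := (by decide : ∀ a b : DihedralGroup (2 ^ 1), a * b = b * a) (φ ⟨a, ha'⟩) (φ ⟨b, hb'⟩)
        rw [← map_mul, ← map_mul] at h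
        simpa using congrArg Subtype.val (φ.injective h)
      have hSsq : ∀ a ∈ (S : Subgroup T), a * a = 1 := by
        intro a ha'
        have h := (by decide : ∀ a : DihedralGroup (2 ^ 1), a * a = 1) (φ ⟨a, ha'⟩)
        rw [← map_mul, ← map_one φ] at h
        simpa using congrArg Subtype.val (φ.injective h)
      have hfix : ∀ x ∈ Z, (∀ s ∈ (S : Subgroup T), s * x = x * s) → x = 1 := fun x hx hxs =>
        hs.fixed x (hctO x (hxs t hd.mem).symm (hoddOrd x hx)) hxs
      rcases sign_of_involution hq hq2 R hRp (hQ hd.mem) ht2 with hcen | hinv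
      · intro x hx
        exact Subgroup.mem_centralizer_singleton_iff.2 (mul_inv_eq_iff_eq_mul.1 (hcen x hx)).symm
      · intro x hx
        by_contra hxt
        have hx1 : x ≠ 1 := fun h => hxt (h ▸ one_mem _)
        obtain ⟨v, hv1, hvt⟩ :=
          (by decide : ∀ w : DihedralGroup (2 ^ 1), ∃ v, v ≠ 1 ∧ v ≠ w) (φ ⟨t, hd.mem⟩)
        set v' : T := ((φ.symm v : ↥(S : Subgroup T)) : T) with hv'
        have hv'S : v' ∈ (S : Subgroup T) := (φ.symm v).2
        have hv'1 : v' ≠ 1 := fun h => hv1 (by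
          have h' : φ.symm v = 1 := Subtype.ext h
          simpa using congrArg φ h')
        have hv't : v' ≠ t := fun h => hvt (by
          have h' : φ.symm v = ⟨t, hd.mem⟩ := Subtype.ext h
          simpa using congrArg φ h')
        obtain ⟨u, huS, hu1, huR⟩ : ∃ u ∈ (S : Subgroup T), u ≠ 1 ∧ ∀ x ∈ R, u * x * u⁻¹ = x := by
          rcases sign_of_involution hq hq2 R hRp (hQ hv'S) (hSsq v' hv'S) with h | h
          · exact ⟨v', hv'S, hv'1, h⟩
          · refine ⟨v' * t, mul_mem hv'S hd.mem, fun h0 => hv't ?_, fun z hz => ?_⟩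
            · rw [eq_inv_of_mul_eq_one_left h0, inv_eq_of_mul_eq_one_left ht2]
            · calc v' * t * z * (v' * t)⁻¹ = v' * (t * z * t⁻¹) * v'⁻¹ := by group
                _ = z := by rw [hinv z hz, h _ (inv_mem hz), inv_inv]
        have hou : orderOf u = 2 :=
          orderOf_eq_prime (by rw [pow_two]; exact hSsq u huS) hu1
        obtain ⟨g, hg⟩ := isConj_iff.1 (hd.fusion u t hou hd.ot)
        have : IsMulCommutative ↥(S : Subgroup T) := ⟨⟨fun a b => Subtype.ext (hScomm a a.2 b b.2)⟩⟩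
        obtain ⟨n, hn, hne⟩ := S.conj_eq_normalizer_conj_of_mem u g⁻¹ huS
          (by rw [inv_inv, hg]; exact hd.mem)
        rw [inv_inv, hg] at hne
        -- `x' = n⁻¹ x n` is centralised by `t`
        set x' := n⁻¹ * x * n with hx'
        have hx't : x' * t = t * x' := by
          rw [hx', hne]
          have hxu : x * u = u * x := (mul_inv_eq_iff_eq_mul.1 (huR x hx)).symm
          calc n⁻¹ * x * n * (n⁻¹ * u * n) = n⁻¹ * (x * u) * n := by group
            _ = n⁻¹ * (u * x) * n := by rw [hxu]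
            _ = n⁻¹ * u * n * (n⁻¹ * x * n) := by group
        have hox : orderOf x' = orderOf x := by
          rw [hx']
          have := MulEquiv.orderOf_eq (MulAut.conj n⁻¹) x
          simpa using this
        have hx'O : x' ∈ O := hctO x' hx't (hox ▸ hoddOrd x (hRZ hx))
        have hx'Z : x' ∈ Z := hoddmem x' (hOY hx'O) (hox ▸ hoddOrd x (hRZ hx))
        set U := Subgroup.zpowers x' with hU
        have hUp : IsPGroup q U := by
          obtain ⟨e, he⟩ := hRp ⟨x, hx⟩
          have he' : x ^ (q ^ e) = 1 := by simpa using congrArg Subtype.val he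
          refine IsPGroup.of_card (n := (orderOf x).factorization q) ?_
          rw [hU, Nat.card_zpowers, hox]
          obtain ⟨f, -, hf⟩ := (Nat.dvd_prime_pow hq).1 (orderOf_dvd_of_pow_eq_one he')
          rw [hf, Nat.Prime.factorization_pow hq, Finsupp.single_eq_same]
        have hUS : (S : Subgroup T) ≤ Subgroup.normalizer (U : Set T) := by
          refine CoprimeAction.le_normalizer_of_conj_mem fun s hsS z hz => ?_
          obtain ⟨j, rfl⟩ := Subgroup.mem_zpowers_iff.1 hz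
          rw [← conj_zpow]
          refine zpow_mem ?_ j
          set s' := n * s * n⁻¹ with hs'
          have hs'S : s' ∈ (S : Subgroup T) := CoprimeAction.conj_mem hn hsS
          have e : s * x' * s⁻¹ = n⁻¹ * (s' * x * s'⁻¹) * n := by rw [hx', hs']; group
          rcases sign_of_involution hq hq2 R hRp (hQ hs'S) (hSsq s' hs'S) with h | h
          · rw [e, h x hx]; exact Subgroup.mem_zpowers _
          · rw [e, h x hx]
            have e2 : n⁻¹ * x⁻¹ * n = x'⁻¹ := by rw [hx']; group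
            rw [e2]
            exact inv_mem (Subgroup.mem_zpowers _)
        obtain ⟨Q', hUQ, hQ'⟩ := CoprimeAction.exists_invariant_sylow_ge hSZ hcop hsolv
          (Subgroup.zpowers_le.2 hx'Z) hUp hUS
        obtain ⟨c, hc, hcQ⟩ := CoprimeAction.invariant_sylow_conj hSZ hcop hsolv Q Q' hQ hQ'
        have hc1 : c = 1 := Subtype.ext (hfix c c.2 fun s hs' =>
          Subgroup.mem_centralizer_iff.1 hc s hs')
        rw [hc1, map_one, one_smul] at hcQ
        subst hcQ
        have hx'R : x' ∈ R := hUQ (Subgroup.mem_zpowers _)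
        have h1 := hinv x' hx'R
        rw [← hx't, mul_inv_cancel_right] at h1
        have h2 : x' = 1 := eq_one_of_odd_of_two (hox ▸ hoddOrd x (hRZ hx)) (pow_orderOf_eq_one x')
          (a := 1) (by rw [pow_one, pow_two]; exact mul_eq_one_iff_eq_inv.2 h1)
        exact hx1 (orderOf_eq_one_iff.1 (by rw [← hox, h2, orderOf_one]))
    · obtain ⟨a, b, hab⟩ := dihedral_central_commutator k hk2 (φ ⟨t, hd.mem⟩)
        (fun h => by
          have h' := congrArg Subtype.val (φ.injective (h.trans (map_one φ).symm))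
          have := hd.ot
          simp at h'
          rw [h', orderOf_one] at this
          omega)
        (by rw [← map_mul, ← map_one φ]; exact congrArg φ (Subtype.ext ht2))
        (fun a => by
          obtain ⟨s, rfl⟩ := φ.surjective a
          rw [← map_mul, ← map_mul]
          exact congrArg φ (Subtype.ext (hd.central s s.2)))
      have htab : t = ((φ.symm a : ↥(S : Subgroup T)) : T) * (φ.symm b : ↥(S : Subgroup T)) *
          ((φ.symm a : ↥(S : Subgroup T)) : T)⁻¹ * ((φ.symm b : ↥(S : Subgroup T)) : T)⁻¹ := by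
        have := congrArg (fun z => ((φ.symm z : ↥(S : Subgroup T)) : T)) hab
        simpa [map_mul, map_inv] using this
      intro x hx
      rw [Subgroup.mem_centralizer_singleton_iff, htab]
      exact (commutator_centralizes R (hQ (φ.symm a).2) (hQ (φ.symm b).2) x hx).symm
  have hZt : Z ≤ Subgroup.centralizer ({t} : Set T) := by
    have hle : Nat.card Z ∣ Nat.card ↥(Z ⊓ Subgroup.centralizer ({t} : Set T) : Subgroup T) := by
      rw [← Nat.factorization_le_iff_dvd Nat.card_pos.ne' Nat.card_pos.ne']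
      intro q
      by_cases hq : q.Prime
      · obtain ⟨Q, hQ⟩ := main q hq
        have := Fact.mk hq
        rw [← Nat.Prime.pow_dvd_iff_le_factorization hq Nat.card_pos.ne', ← CoprimeAction.card_map_sylow Q]
        exact Subgroup.card_dvd_of_le (le_inf (Subgroup.map_subtype_le _) hQ)
      · simp [Nat.factorization_eq_zero_of_not_prime _ hq]
    have := Subgroup.eq_of_le_of_card_ge inf_le_left (Nat.le_of_dvd Nat.card_pos hle)
    exact inf_eq_left.1 this
  have hZP : Z'.IsComplement' (P : Subgroup C) := by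
    have hP₁ : Nat.card (P₁ : Subgroup C) = Nat.card (P : Subgroup C) :=
      Nat.card_congr (Sylow.equiv P₁ P).toEquiv
    refine Subgroup.isComplement'_of_coprime ?_ ?_
    · rw [← hP₁]; exact hZc.card_mul
    · obtain ⟨e, he⟩ := IsPGroup.iff_card.1 P.2
      rw [← Subgroup.card_map_of_injective (K := Z') C.subtype_injective, he]
      exact ((Nat.coprime_two_left.2 hZodd).pow_left e).symm
  have hCt : ∀ c ∈ C, c * t = t * c := by
    intro c hc
    have hmem : (⟨c, hc⟩ : C) ∈ Z' ⊔ (P : Subgroup C) := by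
      rw [hZP.sup_eq_top]; trivial
    obtain ⟨z, hz, a, ha', hza⟩ := Subgroup.mem_sup_of_normal_left.1 hmem
    have hc' : (z : T) * (a : T) = c := congrArg Subtype.val hza
    rw [← Subgroup.mem_centralizer_singleton_iff, ← hc']
    refine mul_mem (hZt ⟨z, hz, rfl⟩) (Subgroup.mem_centralizer_singleton_iff.2 ?_)
    rw [hPeq] at ha'
    exact hd.central _ (Subgroup.mem_subgroupOf.1 ha').1
  intro g hg
  rw [Subgroup.mem_centralizer_singleton_iff]
  have h1 : g * t * g⁻¹ ∈ C := by
    refine Subgroup.mem_centralizer_iff.2 fun z hz => ?_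
    have h1 : g⁻¹ * z * g ∈ Y := CoprimeAction.conj_mem' hg hz
    have h2 := Subgroup.mem_centralizer_iff.1 (hAY htA) _ h1
    calc z * (g * t * g⁻¹) = g * ((g⁻¹ * z * g) * t) * g⁻¹ := by group
      _ = g * (t * (g⁻¹ * z * g)) * g⁻¹ := by rw [h2]
      _ = g * t * g⁻¹ * z := by group
  have ho : orderOf (g * t * g⁻¹) = 2 := by rw [← MulAut.conj_apply, MulEquiv.orderOf_eq, hd.ot]
  have h2 := htwo _ (hCt _ h1) h1 1 (by rw [pow_one, ← ho, pow_orderOf_eq_one])
  exact mul_inv_eq_iff_eq_mul.1 (hinvA _ h2 ho)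

theorem normalizer_le (hT : CycSyl43.Min T) (hd : Dih S t O) (hs : OStruct S O)
    (ha : O ≠ ⊥ → IsCyclic ((S : Subgroup T) ⊓ Subgroup.centralizer (O : Set T) : Subgroup T) ∧
      ((S : Subgroup T) ⊓ Subgroup.centralizer (O : Set T)).relIndex (S : Subgroup T) = 2)
    (hb : ∀ s ∈ (S : Subgroup T), s ∉ Subgroup.centralizer (O : Set T) → ∀ y ∈ O,
      s * y * s⁻¹ = y⁻¹) :
    ∀ Y : Subgroup T, Y ≤ O → Y ≠ ⊥ →
      Subgroup.normalizer (Y : Set T) ≤ Subgroup.centralizer ({t} : Set T) := by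
  intro Y hYO hY g hg
  have := hs.cyc
  have hne : Nat.card Y ≠ 1 := fun h => hY (Subgroup.eq_bot_of_card_eq Y h)
  obtain ⟨r, hr, hrdvd⟩ := Nat.exists_prime_and_dvd hne
  have := Fact.mk hr
  obtain ⟨y, hy⟩ := exists_prime_orderOf_dvd_card' r hrdvd
  have hy' : orderOf (y : T) = r := by rw [Subgroup.orderOf_coe]; exact hy
  have hy1 : (y : T) ≠ 1 := fun h => hr.one_lt.ne' (by rw [← hy', h, orderOf_one])
  refine normalizer_zpowers_le hT.hodd hd hs ha hb (hYO y.2) hy1 ?_
  have hmem : ∀ h ∈ Subgroup.normalizer (Y : Set T), ∀ z ∈ Subgroup.zpowers (y : T),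
      h * z * h⁻¹ ∈ Subgroup.zpowers (y : T) := by
    intro h hh z hz
    have hgy : h * y * h⁻¹ ∈ Y := CoprimeAction.conj_mem hh y.2
    have h1 := mem_zpowers_of_orderOf (H := O) (a := ⟨y, hYO y.2⟩) (b := ⟨h * y * h⁻¹, hYO hgy⟩)
      (by rw [Subgroup.orderOf_mk, Subgroup.orderOf_mk, ← MulAut.conj_apply, MulEquiv.orderOf_eq])
    obtain ⟨j, hj⟩ := Subgroup.mem_zpowers_iff.1 h1
    have hmy : h * y * h⁻¹ ∈ Subgroup.zpowers (y : T) :=
      Subgroup.mem_zpowers_iff.2 ⟨j, by simpa using congrArg Subtype.val hj⟩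
    obtain ⟨i, rfl⟩ := Subgroup.mem_zpowers_iff.1 hz
    rw [← conj_zpow]
    exact zpow_mem hmy i
  exact CoprimeAction.le_normalizer_of_conj_mem hmem hg

end Cfsg.Agent.CycSyl43DihedralNorm
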