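import Cfsg.Agent.S0508
import Cfsg.Agent.Lib.CycSyl43Defs
import Cfsg.Agent.Lib.HallCore
import Cfsg.Agent.Lib.PSL2Elements
import Cfsg.Agent.Lib.PSLCard
import Cfsg.Agent.Lib.SimpleOrder

/-!
The dihedral configuration of the classification with cyclic odd Sylow subgroups: the hypotheses
of the final Gorenstein-Walter step hold, so the group is `PSL(2,p)`.
-/

set_option autoImplicit false

namespace Cfsg.Agent.CycSyl43DihedralPSL

open Cfsg.Agent.CycSyl43
open scoped MatrixGroups

universe u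

/-- The cyclic maximal subgroup of a dihedral group, recognised among subgroups of index two. -/
theorem exists_rotation {T : Type u} [Group T] [Finite T] {S : Subgroup T} {t : T} {k : ℕ}
    (e : S ≃* DihedralGroup (2 ^ k)) (hk : 1 ≤ k) (ht : orderOf t = 2) (htS : t ∈ S)
    (hc : ∀ s ∈ S, s * t = t * s) :
    ∃ g : T, ∀ K : Subgroup T, K ≤ S → Nat.card K * 2 = Nat.card S → t ∈ K →
      (8 ≤ Nat.card S → ∀ s ∈ K, orderOf s = 2 → s = t) → K = Subgroup.zpowers g := by
  classical
  have hS : Nat.card S = 2 * 2 ^ k := by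
    rw [Nat.card_congr e.toEquiv, DihedralGroup.nat_card]
  rcases eq_or_lt_of_le hk with h1 | h2
  · refine ⟨t, fun K _ hcard htK _ => ?_⟩
    refine (Subgroup.eq_of_le_of_card_ge (Subgroup.zpowers_le.2 htK) ?_).symm
    rw [Nat.card_zpowers, ht]
    subst h1
    omega
  set g : T := ((e.symm (DihedralGroup.r 1) : S) : T) with hg
  have hgord : orderOf g = 2 ^ k := by
    rw [hg, Subgroup.orderOf_coe, MulEquiv.orderOf_eq, DihedralGroup.orderOf_r_one]
  have hrot : ∀ s : S, (s : T) ∈ Subgroup.zpowers g ∨ ∃ i, e s = DihedralGroup.sr i := by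
    intro s
    rcases hs : e s with i | i
    · refine Or.inl ?_
      have hne : NeZero (2 ^ k) := ⟨by positivity⟩
      have : s = (e.symm (DihedralGroup.r 1)) ^ i.val := by
        rw [← map_pow, DihedralGroup.r_one_pow, ZMod.natCast_zmod_val, ← hs, e.symm_apply_apply]
      rw [this, Subgroup.coe_pow]
      exact Subgroup.npow_mem_zpowers g _
    · exact Or.inr ⟨i, rfl⟩
  have htg : t ∈ Subgroup.zpowers g := by
    rcases hrot ⟨t, htS⟩ with h | ⟨i, hi⟩
    · exact h
    · exfalso
      have hcm := congrArg e (Subtype.ext (hc g (e.symm (DihedralGroup.r 1)).2) :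
        (e.symm (DihedralGroup.r 1)) * (⟨t, htS⟩ : S) = ⟨t, htS⟩ * e.symm (DihedralGroup.r 1))
      rw [map_mul, map_mul, e.apply_symm_apply, hi, DihedralGroup.r_mul_sr,
        DihedralGroup.sr_mul_r, DihedralGroup.sr.injEq] at hcm
      have h2z : ((2 : ℕ) : ZMod (2 ^ k)) = 0 := by
        push_cast
        linear_combination -hcm
      have := Nat.le_of_dvd two_pos ((ZMod.natCast_eq_zero_iff 2 (2 ^ k)).1 h2z)
      have : 2 ^ 2 ≤ 2 ^ k := Nat.pow_le_pow_right two_pos h2
      omega
  refine ⟨g, fun K hKS hcard _ huniq => ?_⟩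
  have h8 : 8 ≤ Nat.card S := by
    have : 2 ^ 2 ≤ 2 ^ k := Nat.pow_le_pow_right two_pos h2
    omega
  refine Subgroup.eq_of_le_of_card_ge (fun s hs => ?_) ?_
  · rcases hrot ⟨s, hKS hs⟩ with h | ⟨i, hi⟩
    · exact h
    · have h2' : orderOf s = 2 := by
        have := DihedralGroup.orderOf_sr i
        rw [← hi, MulEquiv.orderOf_eq, ← Subgroup.orderOf_coe] at this
        exact this
      exact huniq h8 s hs h2' ▸ htg
  · rw [Nat.card_zpowers, hgord]
    omega

/-- In a dihedral configuration the centraliser in `S` of a nontrivial element of `O` of prime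
power order has index two. -/
theorem card_cent_mul_two {T : Type u} [Group T] [Finite T] {S : Sylow 2 T} {O : Subgroup T}
    (hs : OStruct S O) {y : T} (hy : y ∈ O) (hy1 : y ≠ 1) {r m : ℕ} (hr : r.Prime)
    (hm : orderOf y = r ^ m) :
    Nat.card ((S : Subgroup T) ⊓ Subgroup.centralizer ({y} : Set T) : Subgroup T) * 2
      = Nat.card (S : Subgroup T) := by
  classical
  set K : Subgroup T := (S : Subgroup T) ⊓ Subgroup.centralizer ({y} : Set T) with hK
  obtain ⟨a, ha, hay⟩ : ∃ a ∈ (S : Subgroup T), a * y ≠ y * a := by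
    by_contra h
    exact hy1 (hs.fixed y hy (by simpa using h))
  have hK' : ∀ s ∈ (S : Subgroup T), (s ∈ K ↔ s * y * s⁻¹ = y) := fun s hsS => by
    rw [hK, Subgroup.mem_inf, Subgroup.mem_centralizer_singleton_iff, mul_inv_eq_iff_eq_mul]
    simp [hsS]
  have hainv : a * y * a⁻¹ = y⁻¹ := (hs.sign a ha y hy r m hr hm).resolve_left fun h =>
    hay (mul_inv_eq_iff_eq_mul.1 h)
  have hyne : y⁻¹ ≠ y := fun h => hay (mul_inv_eq_iff_eq_mul.1 (hainv.trans h))
  have hidx : (K.subgroupOf (S : Subgroup T)).index = 2 := by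
    rw [Subgroup.index_eq_two_iff]
    refine ⟨⟨a, ha⟩, fun b => ?_⟩
    simp only [Subgroup.mem_subgroupOf, Subgroup.coe_mul]
    rw [hK' _ (mul_mem b.2 ha), hK' _ b.2]
    have hmul : (b : T) * a * y * ((b : T) * a)⁻¹ = ((b : T) * y * (b : T)⁻¹)⁻¹ := by
      calc (b : T) * a * y * ((b : T) * a)⁻¹ = (b : T) * (a * y * a⁻¹) * (b : T)⁻¹ := by group
        _ = _ := by rw [hainv]; group
    rw [hmul]
    rcases hs.sign b b.2 y hy r m hr hm with h | h
    · rw [h]
      exact Or.inr ⟨rfl, hyne⟩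
    · rw [h, inv_inv]
      exact Or.inl ⟨rfl, hyne⟩
  have := (K.subgroupOf (S : Subgroup T)).card_mul_index
  rw [hidx, Nat.card_congr (Subgroup.subgroupOfEquivOfLe (inf_le_left : K ≤ _)).toEquiv] at this
  exact this

/-- A subgroup containing all elements of prime power order of `O` contains `O`. -/
theorem le_of_prime_pow {T : Type u} [Group T] [Finite T] {O W : Subgroup T} (hW : W ≤ O)
    (h : ∀ y ∈ O, ∀ r m : ℕ, r.Prime → orderOf y = r ^ m → y ∈ W) : W = O := by
  refine Subgroup.eq_of_le_of_card_ge hW (Nat.le_of_dvd Nat.card_pos ?_)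
  rw [Nat.dvd_iff_prime_pow_dvd_dvd]
  intro p m hp hd
  have := Fact.mk hp
  obtain ⟨P, hP⟩ := Sylow.exists_subgroup_card_pow_prime p hd
  have hle : P.map O.subtype ≤ W := by
    rintro _ ⟨x, hx, rfl⟩
    obtain ⟨j, hj⟩ := (IsPGroup.of_card hP) ⟨x, hx⟩
    obtain ⟨i, -, hi⟩ := (Nat.dvd_prime_pow hp).1 (orderOf_dvd_of_pow_eq_one
      (show (x : T) ^ p ^ j = 1 by
        simpa using congrArg (fun z : P => ((z : O) : T)) hj))
    exact h _ x.2 p i hp hi
  have hd' := Subgroup.card_dvd_of_le hle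
  rwa [Subgroup.card_map_of_injective O.subtype_injective, hP] at hd'

/-- `PSL(2,F)` with cyclic odd Sylow subgroups is over a prime field. -/
theorem card_prime_of_psl {T : Type u} [Group T] [Finite T] (h : OddCyclic T) {F : Type}
    [Field F] [Fintype F] (hF : Odd (Fintype.card F))
    (e : T ≃* Matrix.ProjectiveSpecialLinearGroup (Fin 2) F) : (Fintype.card F).Prime := by
  obtain ⟨p, hchar⟩ := CharP.exists F
  obtain ⟨m, hp, hcard⟩ := FiniteField.card F p
  have := Fact.mk hp
  have hp2 : p ≠ 2 := by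
    rintro rfl
    rw [hcard, Nat.odd_pow_iff m.pos.ne'] at hF
    exact absurd hF (by decide)
  let f : Multiplicative F →* T := e.symm.toMonoidHom.comp
    ((QuotientGroup.mk' (Subgroup.center SL(2, F))).comp PSL2Elements.uHom)
  have hinj : Function.Injective f := by
    refine (injective_iff_map_eq_one f).2 fun x hx => ?_
    have h1 : ((QuotientGroup.mk' (Subgroup.center SL(2, F))) (PSL2Elements.uHom x)) = 1 :=
      e.symm.injective (hx.trans (map_one e.symm).symm)
    have h2 := ((PSL2Elements.mem_center_iff_entries _).1 ((QuotientGroup.eq_one_iff _).1 h1)).1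
    simp [PSL2Elements.uHom, PSL2Elements.u, PSL2Elements.mk2] at h2
    exact Multiplicative.toAdd.injective h2
  have hX : Nat.card (Multiplicative F) = p ^ (m : ℕ) := by
    rw [Nat.card_congr Multiplicative.toAdd, Nat.card_eq_fintype_card, hcard]
  have hP : IsPGroup p f.range :=
    IsPGroup.of_card (n := m) (by
      rw [← Nat.card_congr (MonoidHom.ofInjective hinj).toEquiv, hX])
  obtain ⟨P, hle⟩ := hP.exists_le_sylow
  have : IsCyclic P := h p hp hp2 P
  have : IsCyclic f.range := Subgroup.isCyclic_of_le hle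
  have : IsCyclic (Multiplicative F) :=
    isCyclic_of_surjective (MonoidHom.ofInjective hinj).symm.toMonoidHom
      (MonoidHom.ofInjective hinj).symm.surjective
  have hexp : Monoid.exponent (Multiplicative F) ∣ p := by
    refine Monoid.exponent_dvd_of_forall_pow_eq_one fun x => Multiplicative.toAdd.injective ?_
    rw [toAdd_pow, toAdd_one, nsmul_eq_mul, CharP.cast_eq_zero, zero_mul]
  rw [IsCyclic.exponent_eq_card, hX] at hexp
  rw [hcard]
  have hm : (m : ℕ) = 1 := by
    have hm1 := Nat.pow_dvd_pow_iff_le_right hp.one_lt (k := (m : ℕ)) (l := 1)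
    rw [pow_one] at hm1
    exact le_antisymm (hm1.1 hexp) m.pos
  rw [hm, pow_one]
  exact hp

/-- The type of `normalizer_le`. -/
def NormalizerLe : Prop :=
  ∀ (T : Type u) [Group T] [Finite T], CycSyl43.Min T → ∀ (S : Sylow 2 T) (t : T) (O : Subgroup T),
    Dih S t O → OStruct S O →
    (O ≠ ⊥ → IsCyclic ((S : Subgroup T) ⊓ Subgroup.centralizer (O : Set T) : Subgroup T) ∧
      ((S : Subgroup T) ⊓ Subgroup.centralizer (O : Set T)).relIndex (S : Subgroup T) = 2) →
    (∀ s ∈ (S : Subgroup T), s ∉ Subgroup.centralizer (O : Set T) →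
      ∀ y ∈ O, s * y * s⁻¹ = y⁻¹) →
    ∀ Y : Subgroup T, Y ≤ O → Y ≠ ⊥ →
      Subgroup.normalizer (Y : Set T) ≤ Subgroup.centralizer ({t} : Set T)

/-- The odd core of the centraliser of `t` in a dihedral configuration. -/
theorem oddCore_map {T : Type u} [Group T] [Finite T] {S : Sylow 2 T} {t : T} {O : Subgroup T}
    (hd : Dih S t O) :
    O = (Cfsg.oddCore (Subgroup.centralizer ({t} : Set T))).map
      (Subgroup.centralizer ({t} : Set T)).subtype := by
  set C := Subgroup.centralizer ({t} : Set T) with hC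
  have hn : (O.subgroupOf C).Normal := by
    refine ⟨fun x hx c => ?_⟩
    rw [Subgroup.mem_subgroupOf] at hx ⊢
    exact hd.normal c c.2 x hx
  have hle : O.subgroupOf C ≤ Cfsg.oddCore C :=
    HallCore.le_pPrimeCore (by
      rw [Nat.card_congr (Subgroup.subgroupOfEquivOfLe hd.le).toEquiv]
      exact hd.odd.coprime_two_right)
  have heq : Cfsg.oddCore C = O.subgroupOf C := by
    refine le_antisymm (fun c hc => ?_) hle
    obtain ⟨y, hy, s, hsS, hcys⟩ := hd.cent c c.2
    have hyC : y ∈ C := hd.le hy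
    have hsC : s ∈ C := by
      have : s = y⁻¹ * (c : T) := by rw [hcys]; group
      rw [this]
      exact mul_mem (inv_mem hyC) c.2
    have hsN : (⟨s, hsC⟩ : C) ∈ Cfsg.oddCore C := by
      have : (⟨s, hsC⟩ : C) = (⟨y, hyC⟩ : C)⁻¹ * c := Subtype.ext (by
        simp [hcys])
      rw [this]
      exact mul_mem (inv_mem (hle (Subgroup.mem_subgroupOf.2 hy))) hc
    have h1 : orderOf s ∣ Nat.card (Cfsg.oddCore C) := by
      have := Subgroup.orderOf_dvd_natCard (Cfsg.oddCore C) hsN
      rwa [← Subgroup.orderOf_coe] at this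
    obtain ⟨j, hj⟩ := (IsPGroup.iff_orderOf.1 S.2) ⟨s, hsS⟩
    have hs1 : s = 1 := by
      rw [← orderOf_eq_one_iff]
      have h2 : orderOf s = 2 ^ j := by rw [← hj, ← Subgroup.orderOf_coe]
      refine Nat.eq_one_of_dvd_coprimes ?_ h1 h2.dvd
      exact (HallCore.coprime_card_pPrimeCore 2 C).pow_right j
    rw [Subgroup.mem_subgroupOf, hcys, hs1, mul_one]
    exact hy
  rw [heq, Subgroup.subgroupOf_map_subtype, inf_eq_left.2 hd.le]

/-- The dihedral configurations are `PSL(2,p)`. -/
theorem dihedral_psl (hR : ReflectionFree.{u}) (hA : Assembly.{u}) (hN : NormalizerLe.{u}) :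
    ∀ (T : Type u) [Group T] [Finite T], CycSyl43.Min T → ∀ (S : Sylow 2 T) (t : T) (O : Subgroup T),
      Dih S t O → OStruct S O → IsPSL2Prime T := by
  classical
  intro T _ _ hT S t O hd hs
  have := hT.simple
  have hnc : ¬ IsMulCommutative T := fun h => by
    obtain ⟨a, b, hab⟩ := hT.nc
    exact hab (h.is_comm.comm a b)
  obtain ⟨k, hk, ⟨e⟩⟩ := hd.iso
  obtain ⟨g, hg⟩ := exists_rotation e hk hd.ot hd.mem hd.central
  have hcent : ∀ y ∈ O, y ≠ 1 → ∀ r m : ℕ, r.Prime → orderOf y = r ^ m →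
      (S : Subgroup T) ⊓ Subgroup.centralizer ({y} : Set T) = Subgroup.zpowers g := by
    intro y hy hy1 r m hr hm
    refine hg _ inf_le_left (card_cent_mul_two hs hy hy1 hr hm) ⟨hd.mem, Subgroup.mem_centralizer_singleton_iff.2
      (Subgroup.mem_centralizer_singleton_iff.1 (hd.le hy)).symm⟩ fun h8 u hu hu2 => ?_
    by_contra hne
    exact hy1 (hR hA T hT S t O hd hs h8 u hu.1 hu2 hne y hy
      (Subgroup.mem_centralizer_singleton_iff.1 hu.2))
  have hA' : O ≠ ⊥ → (S : Subgroup T) ⊓ Subgroup.centralizer (O : Set T) = Subgroup.zpowers g := by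
    intro hO
    have hn1 : Nat.card O ≠ 1 := fun h => hO (Subgroup.eq_bot_of_card_eq O h)
    obtain ⟨q, hq, hqd⟩ := Nat.exists_prime_and_dvd hn1
    have := Fact.mk hq
    obtain ⟨y, hy⟩ := exists_prime_orderOf_dvd_card' q hqd
    have hyT : orderOf (y : T) = q ^ 1 := by rw [pow_one, Subgroup.orderOf_coe, hy]
    have hy1 : (y : T) ≠ 1 := fun h => by
      rw [h, orderOf_one, pow_one] at hyT
      exact hq.one_lt.ne hyT
    refine le_antisymm ?_ ?_
    · rw [← hcent y y.2 hy1 q 1 hq hyT]
      exact inf_le_inf_left _ (Subgroup.centralizer_le (Set.singleton_subset_iff.2 y.2))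
    · intro s hsg
      have hsS : s ∈ (S : Subgroup T) := by
        rw [← hcent y y.2 hy1 q 1 hq hyT] at hsg
        exact hsg.1
      refine ⟨hsS, ?_⟩
      have hW := le_of_prime_pow (O := O)
        (W := O ⊓ Subgroup.centralizer ({s} : Set T)) inf_le_left (fun z hz r m hr hm => by
          refine ⟨hz, ?_⟩
          by_cases hz1 : z = 1
          · rw [hz1]
            exact one_mem _
          · rw [← hcent z hz hz1 r m hr hm] at hsg
            exact Subgroup.mem_centralizer_singleton_iff.2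
              (Subgroup.mem_centralizer_singleton_iff.1 hsg.2).symm)
      intro z hz
      rw [← hW] at hz
      exact Subgroup.mem_centralizer_singleton_iff.1 hz.2
  have ha : O ≠ ⊥ → IsCyclic ((S : Subgroup T) ⊓ Subgroup.centralizer (O : Set T) : Subgroup T) ∧
      ((S : Subgroup T) ⊓ Subgroup.centralizer (O : Set T)).relIndex (S : Subgroup T) = 2 := by
    intro hO
    rw [hA' hO]
    refine ⟨inferInstance, ?_⟩
    have hn1 : Nat.card O ≠ 1 := fun h => hO (Subgroup.eq_bot_of_card_eq O h)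
    obtain ⟨q, hq, hqd⟩ := Nat.exists_prime_and_dvd hn1
    have := Fact.mk hq
    obtain ⟨y, hy⟩ := exists_prime_orderOf_dvd_card' q hqd
    have hyT : orderOf (y : T) = q ^ 1 := by rw [pow_one, Subgroup.orderOf_coe, hy]
    have hy1 : (y : T) ≠ 1 := fun h => by
      rw [h, orderOf_one, pow_one] at hyT
      exact hq.one_lt.ne hyT
    have h2 := card_cent_mul_two hs y.2 hy1 hq hyT
    rw [hcent y y.2 hy1 q 1 hq hyT] at h2
    have hle : Subgroup.zpowers g ≤ (S : Subgroup T) := hA' hO ▸ inf_le_left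
    rw [Subgroup.relIndex]
    have h3 := ((Subgroup.zpowers g).subgroupOf (S : Subgroup T)).card_mul_index
    rw [Nat.card_congr (Subgroup.subgroupOfEquivOfLe hle).toEquiv, ← h2] at h3
    exact Nat.eq_of_mul_eq_mul_left Nat.card_pos h3
  have hb : ∀ s ∈ (S : Subgroup T), s ∉ Subgroup.centralizer (O : Set T) →
      ∀ y ∈ O, s * y * s⁻¹ = y⁻¹ := by
    intro s hsS hsn
    have hO : O ≠ ⊥ := fun h => hsn fun z hz => by
      rw [h, SetLike.mem_coe, Subgroup.mem_bot] at hz
      simp [hz]
    have := hs.cyc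
    have hcm : ∀ a ∈ O, ∀ b ∈ O, a * b = b * a := fun a ha b hb => by
      obtain ⟨c, hc⟩ := IsCyclic.exists_generator (α := O)
      obtain ⟨i, hi⟩ := Subgroup.mem_zpowers_iff.1 (hc ⟨a, ha⟩)
      obtain ⟨j, hj⟩ := Subgroup.mem_zpowers_iff.1 (hc ⟨b, hb⟩)
      have h := (Commute.refl c).zpow_zpow i j
      rw [hi, hj] at h
      exact congrArg Subtype.val h
    let W : Subgroup T :=
      { carrier := {y | y ∈ O ∧ s * y * s⁻¹ = y⁻¹}
        one_mem' := ⟨one_mem _, by group⟩
        mul_mem' := fun {a b} ha hb => ⟨mul_mem ha.1 hb.1, by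
          rw [show s * (a * b) * s⁻¹ = s * a * s⁻¹ * (s * b * s⁻¹) by group, ha.2, hb.2, mul_inv_rev,
            hcm a⁻¹ (inv_mem ha.1) b⁻¹ (inv_mem hb.1)]⟩
        inv_mem' := fun {a} ha => ⟨inv_mem ha.1, by
          rw [← conj_inv, ha.2]⟩ }
    have hW : W = O := le_of_prime_pow (fun z hz => hz.1) fun z hz r m hr hm => by
      refine ⟨hz, ?_⟩
      by_cases hz1 : z = 1
      · rw [hz1]
        group
      · refine (hs.sign s hsS z hz r m hr hm).resolve_left fun h => ?_
        have hmem : s ∈ (S : Subgroup T) ⊓ Subgroup.centralizer ({z} : Set T) :=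
          ⟨hsS, Subgroup.mem_centralizer_singleton_iff.2 (mul_inv_eq_iff_eq_mul.1 h)⟩
        rw [hcent z hz hz1 r m hr hm, ← hA' hO] at hmem
        exact hsn hmem.2
    intro y hy
    rw [← hW] at hy
    exact hy.2
  have hn2 : 2 ≤ 2 ^ k := by
    calc 2 = 2 ^ 1 := by norm_num
      _ ≤ 2 ^ k := Nat.pow_le_pow_right two_pos hk
  obtain ⟨F, _, _, hF, ⟨eT⟩⟩ := Cfsg.Agent.S0508.result S (2 ^ k) hn2 ⟨e⟩ t hd.ot hd.mem
    hd.central O (oddCore_map hd) ha hb (hN T hT S t O hd hs ha hb)
  have hp := card_prime_of_psl hT.hodd hF eT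
  have hf := Fact.mk hp
  have hcard : Nat.card F = Nat.card (ZMod (Fintype.card F)) := by
    rw [Nat.card_eq_fintype_card, Nat.card_zmod]
  refine ⟨Fintype.card F, hf, ?_, ⟨eT.trans (PSLCard.pslEquivOfCard hcard)⟩⟩
  by_contra hlt
  have h3 : Nat.card F = 3 := by
    rw [Nat.card_eq_fintype_card]
    have := hp.two_le
    rcases hF with ⟨j, hj⟩
    omega
  have hc12 : Nat.card T = 12 := by
    rw [Nat.card_congr eT.toEquiv]
    have h1 := PSLCard.card_PSL_mul (F := F) 2
    have h2 := PSLCard.card_SL (F := F) 2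
    rw [h3] at h1 h2
    simp [Fin.prod_univ_two, -Nat.card_eq_fintype_card] at h1 h2
    omega
  have hS4 : Nat.card (S : Subgroup T) * (S : Subgroup T).index = 12 := by
    rw [Subgroup.card_mul_index, hc12]
  have hSk : Nat.card (S : Subgroup T) = 2 * 2 ^ k := by
    rw [Nat.card_congr e.toEquiv, DihedralGroup.nat_card]
  have hne : (S : Subgroup T) ≠ ⊤ := fun h => by
    have h1 := hSk
    rw [h, Subgroup.card_top, hc12] at h1
    rcases k with _ | _ | _ | j
    all_goals simp [pow_succ] at h1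
    all_goals omega
  have h5 := SimpleOrder.five_le_index hnc _ hne
  have h4 : 4 ≤ Nat.card (S : Subgroup T) := by omega
  nlinarith

end Cfsg.Agent.CycSyl43DihedralPSL
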