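import Mathlib
import Cfsg.Agent.Lib.CycSyl43Defs

/-!
Local structure at an element of prime order of `O` fixed by a Sylow four-group, in a simple group
with cyclic odd Sylow subgroups.
-/

set_option autoImplicit false

namespace Cfsg.Agent.CycSyl43Klein

open Cfsg.Agent.CycSyl43 Subgroup

universe u

section Generic

variable {T : Type u} [Group T]

theorem conj_pow_pow {n y : T} {a : ℕ} (h : n * y * n⁻¹ = y ^ a) (k : ℕ) :
    n ^ k * y * (n ^ k)⁻¹ = y ^ (a ^ k) := by
  induction k with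
  | zero => simp
  | succ k ih =>
    calc n ^ (k + 1) * y * (n ^ (k + 1))⁻¹ = n ^ k * (n * y * n⁻¹) * (n ^ k)⁻¹ := by
          rw [pow_succ]; group
      _ = (n ^ k * y * (n ^ k)⁻¹) ^ a := by rw [h, conj_pow]
      _ = y ^ (a ^ (k + 1)) := by rw [ih, ← pow_mul, pow_succ]

theorem conj_eq_iff_comm {a b : T} : a * b * a⁻¹ = b ↔ a * b = b * a := by
  rw [mul_inv_eq_iff_eq_mul]

/-- `g` normalises the cyclic group generated by `y`. -/
def NormY (y g : T) : Prop := g * y * g⁻¹ ∈ zpowers y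

theorem normY_conj {y g : T} (hg : NormY y g) {z : T} (hz : z ∈ zpowers y) :
    g * z * g⁻¹ ∈ zpowers y := by
  obtain ⟨k, rfl⟩ := mem_zpowers_iff.1 hz
  rw [← conj_zpow]
  exact zpow_mem hg k

theorem normY_mul {y g k : T} (hg : NormY y g) (hk : NormY y k) : NormY y (g * k) := by
  have : g * k * y * (g * k)⁻¹ = g * (k * y * k⁻¹) * g⁻¹ := by group
  unfold NormY
  rw [this]
  exact normY_conj hg hk

theorem normY_of_comm {y g : T} (h : g * y = y * g) : NormY y g := by
  unfold NormY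
  rw [conj_eq_iff_comm.2 h]
  exact mem_zpowers y

theorem normY_pow {y g : T} (hg : NormY y g) (k : ℕ) : NormY y (g ^ k) := by
  induction k with
  | zero => exact normY_of_comm (by simp)
  | succ k ih => rw [pow_succ]; exact normY_mul ih hg

theorem normY_inv [Finite T] {y g : T} (hg : NormY y g) : NormY y g⁻¹ := by
  obtain ⟨k, hk⟩ := (isOfFinOrder_of_finite g).mem_powers_iff_mem_zpowers.2
    (Subgroup.inv_mem _ (mem_zpowers g))
  rw [← hk]
  exact normY_pow hg k

theorem normY_conj_inv [Finite T] {y g : T} (hg : NormY y g) {z : T} (hz : z ∈ zpowers y) :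
    g⁻¹ * z * g ∈ zpowers y := by
  have := normY_conj (normY_inv hg) hz
  rwa [inv_inv] at this

theorem comm_of_mem_zpowers {y c z : T} (hc : c * y = y * c) (hz : z ∈ zpowers y) :
    c * z = z * c := by
  obtain ⟨k, rfl⟩ := mem_zpowers_iff.1 hz
  exact (show Commute c y from hc).zpow_right k

theorem normY_centralizes [Finite T] {y g c : T} (hg : NormY y g) (hc : c * y = y * c) :
    g⁻¹ * c * g * y = y * (g⁻¹ * c * g) := by
  have h := comm_of_mem_zpowers hc hg
  calc g⁻¹ * c * g * y = g⁻¹ * (c * (g * y * g⁻¹)) * g := by group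
    _ = g⁻¹ * ((g * y * g⁻¹) * c) * g := by rw [h]
    _ = y * (g⁻¹ * c * g) := by group

theorem normY_centralizes' [Finite T] {y g c : T} (hg : NormY y g) (hc : c * y = y * c) :
    g * c * g⁻¹ * y = y * (g * c * g⁻¹) := by
  have := normY_centralizes (normY_inv hg) hc
  rwa [inv_inv] at this

theorem mem_zpowers_of_cyclic [Finite T] (C : Subgroup T) [IsCyclic C] {a b : T} (ha : a ∈ C)
    (hb : b ∈ C) (hab : orderOf a = orderOf b) : a ∈ zpowers b := by
  classical
  have := Fintype.ofFinite C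
  set a' : C := ⟨a, ha⟩
  set b' : C := ⟨b, hb⟩
  have h1 : orderOf a' = orderOf b' := by
    rw [← orderOf_coe a', ← orderOf_coe b']; exact hab
  have hsub : (Finset.univ.filter fun x : C => x ∈ zpowers b') ⊆
      Finset.univ.filter fun x : C => x ^ orderOf b' = 1 := by
    intro x hx
    rw [Finset.mem_filter] at hx ⊢
    exact ⟨hx.1, orderOf_dvd_iff_pow_eq_one.1 (orderOf_dvd_of_mem_zpowers hx.2)⟩
  have hcard : (Finset.univ.filter fun x : C => x ∈ zpowers b').card = orderOf b' := by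
    rw [← Fintype.card_subtype, ← Nat.card_eq_fintype_card]
    exact Nat.card_zpowers b'
  have heq := Finset.eq_of_subset_of_card_le hsub
    (by rw [hcard]; exact IsCyclic.card_pow_eq_one_le (orderOf_pos b'))
  have ha' : a' ∈ Finset.univ.filter fun x : C => x ^ orderOf b' = 1 := by
    rw [Finset.mem_filter, ← h1]
    exact ⟨Finset.mem_univ _, pow_orderOf_eq_one a'⟩
  rw [← heq, Finset.mem_filter] at ha'
  obtain ⟨k, hk⟩ := mem_zpowers_iff.1 ha'.2
  exact mem_zpowers_iff.2 ⟨k, by simpa using congrArg (fun x : C => (x : T)) hk⟩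

theorem isCyclic_of_rGroup [Finite T] (hodd : OddCyclic T) {r : ℕ} (hr : r.Prime) (hr2 : r ≠ 2)
    (Q : Subgroup T) (hQ : IsPGroup r Q) : IsCyclic Q := by
  obtain ⟨P, hP⟩ := hQ.exists_le_sylow
  have := hodd r hr hr2 P
  exact Subgroup.isCyclic_of_le hP

theorem exists_conj_zpowers [Finite T] (hodd : OddCyclic T) {r : ℕ} (hr : r.Prime) (hr2 : r ≠ 2)
    (Q : Subgroup T) {a b : T} (ha : a ∈ Q) (hb : b ∈ Q) (hoa : orderOf a = r)
    (hob : orderOf b = r) : ∃ q ∈ Q, q * a * q⁻¹ ∈ zpowers b := by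
  have : Fact r.Prime := ⟨hr⟩
  have key : ∀ x : Q, orderOf x = r → ∃ P : Sylow r Q, x ∈ P := by
    intro x hx
    obtain ⟨P, hP⟩ := (IsPGroup.of_card (n := 1) (p := r) (G := zpowers x)
      (by rw [Nat.card_zpowers, hx, pow_one])).exists_le_sylow
    exact ⟨P, hP (mem_zpowers x)⟩
  obtain ⟨P1, hP1⟩ := key ⟨a, ha⟩ (by rw [← orderOf_coe]; exact hoa)
  obtain ⟨P2, hP2⟩ := key ⟨b, hb⟩ (by rw [← orderOf_coe]; exact hob)
  obtain ⟨q, rfl⟩ := MulAction.exists_smul_eq Q P1 P2
  have hqa : q * ⟨a, ha⟩ * q⁻¹ ∈ q • P1 := by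
    rw [← SetLike.mem_coe, Sylow.coe_smul]
    exact ⟨⟨a, ha⟩, hP1, rfl⟩
  let C : Subgroup T := ((q • P1 : Sylow r Q) : Subgroup Q).map Q.subtype
  have : IsCyclic C := isCyclic_of_rGroup hodd hr hr2 C ((q • P1).isPGroup'.map Q.subtype)
  refine ⟨q, q.2, mem_zpowers_of_cyclic C ?_ ⟨_, hP2, rfl⟩ ?_⟩
  · exact ⟨_, hqa, by simp⟩
  · rw [hob, ← hoa, ← MulEquiv.orderOf_eq (MulAut.conj (q : T)) a, MulAut.conj_apply]

theorem mem_zpowers_of_comm [Finite T] (hodd : OddCyclic T) {r : ℕ} (hr : r.Prime) (hr2 : r ≠ 2)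
    {a b : T} (hoa : orderOf a = r) (hob : orderOf b = r) (hab : a * b = b * a) :
    a ∈ zpowers b := by
  obtain ⟨q, hq, h⟩ := exists_conj_zpowers hodd hr hr2 (centralizer {a})
    (mem_centralizer_singleton_iff.2 rfl) (mem_centralizer_singleton_iff.2 hab.symm) hoa hob
  rwa [conj_eq_iff_comm.2 (mem_centralizer_singleton_iff.1 hq)] at h

theorem comm_of_coprime [Finite T] {y n : T} {r : ℕ} (hr : r.Prime) (hy : orderOf y = r)
    (hn : NormY y n) (hmin : ∀ q : ℕ, q.Prime → q ∣ orderOf n → r ≤ q) : n * y = y * n := by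
  have : Fact r.Prime := ⟨hr⟩
  obtain ⟨a, ha⟩ := (isOfFinOrder_of_finite y).mem_powers_iff_mem_zpowers.2 hn
  have hpow := conj_pow_pow ha.symm (orderOf n)
  rw [pow_orderOf_eq_one, one_mul, inv_one, mul_one] at hpow
  have hmod : (a ^ orderOf n) ≡ 1 [MOD r] := by
    rw [← hy, ← pow_eq_pow_iff_modEq, pow_one, ← hpow]
  have hz : (a : ZMod r) ^ orderOf n = 1 := by
    have := (ZMod.natCast_eq_natCast_iff _ _ _).2 hmod
    simpa using this
  have hne : (a : ZMod r) ≠ 0 := fun h => by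
    rw [h, zero_pow (orderOf_pos n).ne'] at hz
    exact zero_ne_one hz
  have hd1 : orderOf (a : ZMod r) ∣ orderOf n := orderOf_dvd_of_pow_eq_one hz
  have hd2 : orderOf (a : ZMod r) ∣ r - 1 :=
    orderOf_dvd_of_pow_eq_one (ZMod.pow_card_sub_one_eq_one hne)
  have hone : orderOf (a : ZMod r) = 1 := by
    by_contra h
    obtain ⟨q, hq, hqd⟩ := Nat.exists_prime_and_dvd h
    have h3 := hr.two_le
    have h1 := hmin q hq (hqd.trans hd1)
    have h2 := Nat.le_of_dvd (show 0 < r - 1 by omega) (hqd.trans hd2)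
    omega
  rw [orderOf_eq_one_iff] at hone
  have : y ^ a = y := by
    conv_rhs => rw [← pow_one y]
    rw [pow_eq_pow_iff_modEq, hy, ← ZMod.natCast_eq_natCast_iff, hone, Nat.cast_one]
  exact conj_eq_iff_comm.1 (by rw [← ha]; exact this)

theorem normalizer_le_centralizer_of [Finite T] {r : ℕ} [Fact r.Prime] (P : Sylow r T)
    [IsCyclic P] {y : T} (hy : orderOf y = r) (hyP : y ∈ (P : Subgroup T))
    (h : ∀ g : T, NormY y g → g * y = y * g) :
    normalizer (P : Set T) ≤ centralizer (P : Set T) := by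
  intro n hn
  obtain ⟨⟨g, hgP⟩, hg⟩ := IsCyclic.exists_generator (α := (P : Subgroup T))
  have hgen : ∀ x ∈ (P : Subgroup T), x ∈ zpowers g := by
    intro x hx
    obtain ⟨k, hk⟩ := mem_zpowers_iff.1 (hg ⟨x, hx⟩)
    exact mem_zpowers_iff.2 ⟨k, by simpa using congrArg (fun z : (P : Subgroup T) => (z : T)) hk⟩
  have hconjP : ∀ x ∈ (P : Subgroup T), n * x * n⁻¹ ∈ (P : Subgroup T) := fun x hx =>
    (mem_normalizer_iff.1 hn x).1 hx
  obtain ⟨a, ha⟩ := (isOfFinOrder_of_finite g).mem_powers_iff_mem_zpowers.2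
    (hgen _ (hconjP g hgP))
  have hny : NormY y n := mem_zpowers_of_cyclic (P : Subgroup T) (hconjP y hyP) hyP
    (MulEquiv.orderOf_eq (MulAut.conj n) y)
  have hyn : n * y * n⁻¹ = y := conj_eq_iff_comm.2 (h n hny)
  obtain ⟨j, hj⟩ := (isOfFinOrder_of_finite g).mem_powers_iff_mem_zpowers.2 (hgen y hyP)
  have hya : y ^ a = y := by
    conv_rhs => rw [← hyn]
    rw [← hj, ← conj_pow, ← ha, ← pow_mul, ← pow_mul, mul_comm]
  have hmod : a ≡ 1 [MOD r] := by
    rw [← hy, ← pow_eq_pow_iff_modEq, pow_one, hya]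
  obtain ⟨M, hM⟩ := P.isPGroup'.exists_card_eq
  have hgord : orderOf g ∣ r ^ M := by
    rw [← hM, ← orderOf_mk g hgP]
    exact orderOf_dvd_natCard _
  have hbig : (r : ℤ) ^ (M + 1) ∣ (a : ℤ) ^ r ^ M - 1 ^ r ^ M := by
    refine dvd_sub_pow_of_dvd_sub ?_ M
    have := (Nat.modEq_iff_dvd.1 hmod.symm)
    simpa using this
  have hgM : g ^ a ^ r ^ M = g := by
    conv_rhs => rw [← pow_one g]
    rw [pow_eq_pow_iff_modEq]
    refine (Nat.ModEq.of_dvd hgord (Nat.modEq_iff_dvd.2 ?_)).symm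
    rw [one_pow] at hbig
    push_cast
    exact (pow_dvd_pow _ M.le_succ).trans hbig
  have hc1 : n ^ r ^ M ∈ centralizer ({g} : Set T) := by
    rw [mem_centralizer_singleton_iff]
    refine conj_eq_iff_comm.1 ?_
    rw [conj_pow_pow ha.symm, hgM]
  obtain ⟨e, m, hm, hord⟩ := Nat.exists_eq_pow_mul_and_not_dvd (orderOf_pos n).ne' r
    (Fact.out : r.Prime).one_lt.ne'
  have hpg : IsPGroup r (zpowers (n ^ m)) := by
    have hdvd : orderOf (n ^ m) ∣ r ^ e := orderOf_dvd_of_pow_eq_one (by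
      rw [← pow_mul, mul_comm, ← hord, pow_orderOf_eq_one])
    obtain ⟨i, -, hi⟩ := (Nat.dvd_prime_pow Fact.out).1 hdvd
    exact IsPGroup.of_card (n := i) (by rw [Nat.card_zpowers, hi])
  have hnmP : n ^ m ∈ (P : Subgroup T) := by
    have h1 : n ^ m ∈ zpowers (n ^ m) ⊓ normalizer (P : Set T) :=
      ⟨mem_zpowers _, Subgroup.pow_mem _ hn m⟩
    rw [hpg.inf_normalizer_sylow P] at h1
    exact h1.2
  have hc2 : n ^ m ∈ centralizer ({g} : Set T) := by
    obtain ⟨k, hk⟩ := mem_zpowers_iff.1 (hgen _ hnmP)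
    rw [← hk]
    exact zpow_mem (mem_centralizer_singleton_iff.2 rfl) k
  have hcop : Nat.Coprime (r ^ M) m := Nat.Coprime.pow_left M
    ((Fact.out : r.Prime).coprime_iff_not_dvd.2 hm)
  have hbez := Nat.gcd_eq_gcd_ab (r ^ M) m
  rw [hcop.gcd_eq_one, Nat.cast_one] at hbez
  have hng : n ∈ centralizer ({g} : Set T) := by
    rw [← zpow_one n, hbez, zpow_add, zpow_mul, zpow_mul, zpow_natCast, zpow_natCast]
    exact mul_mem (zpow_mem hc1 _) (zpow_mem hc2 _)
  rw [mem_centralizer_iff]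
  intro x hx
  obtain ⟨k, rfl⟩ := mem_zpowers_iff.1 (hgen x hx)
  exact ((show Commute n g from mem_centralizer_singleton_iff.1 hng).zpow_right k).symm.eq

theorem exists_faithful_on_torsion [Finite T] {r : ℕ} [Fact r.Prime] (P : Sylow r T) [IsCyclic P]
    (hP : normalizer (P : Set T) ≤ centralizer (P : Set T)) :
    ∃ lam : T →* ℂˣ, ∀ x, lam x = 1 ↔ ¬ r ∣ orderOf x := by
  obtain ⟨g, hg⟩ := IsCyclic.exists_generator (α := (P : Subgroup T))
  have hpos : orderOf g ≠ 0 := (orderOf_pos g).ne'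
  let z : ℂˣ := Units.mk0 (Complex.exp (2 * Real.pi * Complex.I / (orderOf g))) (Complex.exp_ne_zero _)
  have hz : IsPrimitiveRoot z (orderOf g) := by
    rw [← IsPrimitiveRoot.coe_units_iff]
    exact Complex.isPrimitiveRoot_exp _ hpos
  have hzo : orderOf z = orderOf g := hz.eq_orderOf.symm
  let ψ : (P : Subgroup T) →* ℂˣ := monoidHomOfForallMemZpowers hg hzo.dvd
  have hψ : ∀ x, ψ x = 1 → x = 1 := by
    intro x hx
    obtain ⟨k, rfl⟩ := mem_zpowers_iff.1 (hg x)
    rw [map_zpow, monoidHomOfForallMemZpowers_apply_gen, ← orderOf_dvd_iff_zpow_eq_one, hzo] at hx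
    exact orderOf_dvd_iff_zpow_eq_one.1 hx
  refine ⟨ψ.comp (MonoidHom.transferSylow P hP), fun x => ?_⟩
  constructor
  · intro hx hdvd
    have hker : x ∈ (MonoidHom.transferSylow P hP).ker := hψ _ hx
    refine MonoidHom.not_dvd_card_ker_transferSylow P hP (hdvd.trans ?_)
    rw [← orderOf_mk x hker]
    exact orderOf_dvd_natCard _
  · intro hx
    obtain ⟨k, hk⟩ := P.isPGroup'.exists_card_eq
    have h1 : orderOf (MonoidHom.transferSylow P hP x) ∣ r ^ k := hk ▸ orderOf_dvd_natCard _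
    have h2 : Nat.Coprime (orderOf x) (r ^ k) :=
      Nat.Coprime.pow_right k ((Fact.out : r.Prime).coprime_iff_not_dvd.2 hx).symm
    have h3 := Nat.eq_one_of_dvd_coprimes h2 (orderOf_map_dvd _ x) h1
    rw [orderOf_eq_one_iff] at h3
    rw [MonoidHom.comp_apply, h3, map_one]

theorem mem_normalizer_of_mapsTo [Finite T] (S : Subgroup T) {x : T}
    (h : ∀ s ∈ S, x * s * x⁻¹ ∈ S) : x ∈ normalizer (S : Set T) := by
  have hpow : ∀ k : ℕ, ∀ s ∈ S, x ^ k * s * (x ^ k)⁻¹ ∈ S := by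
    intro k
    induction k with
    | zero => simp
    | succ k ih =>
      intro s hs
      have := ih _ (h s hs)
      convert this using 1
      rw [pow_succ]; group
  rw [mem_normalizer_iff]
  intro s
  refine ⟨h s, fun hs => ?_⟩
  obtain ⟨k, hk⟩ := (isOfFinOrder_of_finite x).mem_powers_iff_mem_zpowers.2
    (Subgroup.inv_mem _ (mem_zpowers x))
  have := hpow k _ hs
  rw [show x ^ k = x⁻¹ from hk] at this
  simpa [mul_assoc] using this

theorem no_transposition [Finite T] (S : Sylow 2 T) (hab : ∀ a ∈ (S : Subgroup T),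
    ∀ b ∈ (S : Subgroup T), a * b = b * a) {x a b : T}
    (hx : ∀ s ∈ (S : Subgroup T), x * s * x⁻¹ ∈ (S : Subgroup T)) (ha : a ∈ (S : Subgroup T))
    (h1 : x * a * x⁻¹ = b) (h2 : x * b * x⁻¹ = a) : a = b := by
  have : Fact (Nat.Prime 2) := ⟨Nat.prime_two⟩
  obtain ⟨e, m, hm, hord⟩ := Nat.exists_eq_two_pow_mul_odd (orderOf_pos x).ne'
  obtain ⟨j, rfl⟩ := hm
  have hsq : ∀ i : ℕ, x ^ (2 * i) * a * (x ^ (2 * i))⁻¹ = a := by
    intro i
    induction i with
    | zero => simp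
    | succ i ih =>
      have e : x ^ (2 * (i + 1)) = x * (x * x ^ (2 * i)) := by
        rw [← pow_succ', ← pow_succ']; congr 1
      calc x ^ (2 * (i + 1)) * a * (x ^ (2 * (i + 1)))⁻¹
          = x * (x * (x ^ (2 * i) * a * (x ^ (2 * i))⁻¹) * x⁻¹) * x⁻¹ := by
            rw [e]; group
        _ = a := by rw [ih, h1, h2]
  have hconj : x ^ (2 * j + 1) * a * (x ^ (2 * j + 1))⁻¹ = b := by
    calc x ^ (2 * j + 1) * a * (x ^ (2 * j + 1))⁻¹
        = x * (x ^ (2 * j) * a * (x ^ (2 * j))⁻¹) * x⁻¹ := by rw [pow_succ']; group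
      _ = b := by rw [hsq, h1]
  have hpg : IsPGroup 2 (zpowers (x ^ (2 * j + 1))) := by
    have hdvd : orderOf (x ^ (2 * j + 1)) ∣ 2 ^ e := orderOf_dvd_of_pow_eq_one (by
      rw [← pow_mul, mul_comm, ← hord, pow_orderOf_eq_one])
    obtain ⟨i, -, hi⟩ := (Nat.dvd_prime_pow Nat.prime_two).1 hdvd
    exact IsPGroup.of_card (n := i) (by rw [Nat.card_zpowers, hi])
  have hmem : x ^ (2 * j + 1) ∈ (S : Subgroup T) := by
    have h : x ^ (2 * j + 1) ∈ zpowers (x ^ (2 * j + 1)) ⊓ normalizer (S : Set T) :=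
      ⟨mem_zpowers _, Subgroup.pow_mem _ (mem_normalizer_of_mapsTo _ hx) _⟩
    rw [hpg.inf_normalizer_sylow S] at h
    exact h.2
  rw [← hconj, conj_eq_iff_comm.2 (hab _ hmem a ha)]

end Generic

/-- The centraliser of `y`. -/
abbrev Cent {T : Type u} [Group T] (y : T) : Subgroup T := centralizer ({y} : Set T)

theorem mem_Cent {T : Type u} [Group T] {y x : T} : x ∈ Cent y ↔ x * y = y * x :=
  mem_centralizer_singleton_iff

/-- The local configuration at `y`. -/
structure Cfg {T : Type u} [Group T] (S : Sylow 2 T) (O : Subgroup T) (y h : T) (r : ℕ) : Prop where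
  prime : r.Prime
  ne2 : r ≠ 2
  oy : orderOf y = r
  memO : y ∈ O
  commS : ∀ s ∈ (S : Subgroup T), s * y = y * s
  hY : NormY y h
  pow : ∀ k : ℕ, h ^ k ∈ Cent y ↔ 3 ∣ k
  dec : ∀ g, NormY y g → ∃ i < 3, ∃ c ∈ Cent y, g = h ^ i * c
  oNorm : ∀ z ∈ O, NormY y z → z ∈ Cent y

theorem exists_cfg {T : Type u} [Group T] [Finite T] (hmin : CycSyl43.Min T) (S : Sylow 2 T) (t : T)
    (O : Subgroup T) (hd : Dih S t O) (h4 : Nat.card (S : Subgroup T) = 4) {y₀ : T} (hy₀ : y₀ ∈ O)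
    (hfix : ∀ s ∈ (S : Subgroup T), s * y₀ = y₀ * s) (hne : y₀ ≠ 1) :
    ∃ y h r, Cfg S O y h r ∧ (∀ s ∈ (S : Subgroup T), s * s = 1) := by
  classical
  have : Fact (Nat.Prime 2) := ⟨Nat.prime_two⟩
  have hexp : ∀ s ∈ (S : Subgroup T), s * s = 1 := by
    intro s hs
    obtain ⟨k, hk, ⟨φ⟩⟩ := hd.iso
    have hk1 : k = 1 := by
      have := Nat.card_congr φ.toEquiv
      rw [h4, DihedralGroup.nat_card] at this
      by_contra hne1
      have : 2 ^ 2 ≤ 2 ^ k := Nat.pow_le_pow_right two_pos (by omega)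
      omega
    subst hk1
    have hD : ∀ x : DihedralGroup (2 ^ 1), x * x = 1 := by decide
    have := φ.injective (a₁ := ⟨s, hs⟩ * ⟨s, hs⟩) (a₂ := 1) (by rw [map_mul, map_one, hD])
    exact congrArg Subtype.val this
  have hinv : ∀ s ∈ (S : Subgroup T), s⁻¹ = s := fun s hs => inv_eq_of_mul_eq_one_right (hexp s hs)
  have hab : ∀ a ∈ (S : Subgroup T), ∀ b ∈ (S : Subgroup T), a * b = b * a := by
    intro a ha b hb
    have := hinv _ (mul_mem ha hb)
    rw [mul_inv_rev, hinv a ha, hinv b hb] at this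
    exact this.symm
  have : IsMulCommutative (S : Subgroup T) := ⟨⟨fun a b => Subtype.ext (hab a a.2 b b.2)⟩⟩
  have hcentS : ∀ s ∈ (S : Subgroup T), s ∈ Cent t := fun s hs => mem_Cent.2 (hd.central s hs)
  have hoddO : ∀ c ∈ Cent t, Odd (orderOf c) → c ∈ O := by
    intro c hc ⟨j, hj⟩
    obtain ⟨z, hz, s, hs, rfl⟩ := hd.cent c hc
    have hcc : (z * s) * (z * s) ∈ O := by
      have : z * s * (z * s) = z * (s * z * s⁻¹) * (s * s) := by group
      rw [this, hexp s hs, mul_one]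
      exact mul_mem hz (hd.normal s (hcentS s hs) z hz)
    have : z * s = ((z * s) * (z * s)) ^ (j + 1) := by
      rw [← pow_two, ← pow_mul, show 2 * (j + 1) = orderOf (z * s) + 1 by omega, pow_succ,
        pow_orderOf_eq_one, one_mul]
    rw [this]
    exact pow_mem hcc _
  have hoddmem : ∀ z ∈ O, Odd (orderOf z) := fun z hz =>
    hd.odd.of_dvd_nat (by rw [← orderOf_mk z hz]; exact orderOf_dvd_natCard _)
  -- the fixed part and the prime
  let K : Subgroup T := O ⊓ centralizer ((S : Subgroup T) : Set T)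
  have hKS : ∀ z ∈ O, (∀ s ∈ (S : Subgroup T), s * z = z * s) → z ∈ K := fun z hz h =>
    ⟨hz, mem_centralizer_iff.2 h⟩
  have hKcomm : ∀ z ∈ K, ∀ s ∈ (S : Subgroup T), s * z = z * s := fun z hz s hs =>
    mem_centralizer_iff.1 hz.2 s hs
  have hK1 : Nat.card K ≠ 1 := by
    intro h
    rw [Subgroup.card_eq_one] at h
    have := hKS y₀ hy₀ hfix
    rw [h, mem_bot] at this
    exact hne this
  set r := (Nat.card K).minFac with hrdef
  have hr : r.Prime := Nat.minFac_prime hK1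
  have : Fact r.Prime := ⟨hr⟩
  have hrK : r ∣ Nat.card K := Nat.minFac_dvd _
  have hr2 : r ≠ 2 := fun h => by
    have h2 : 2 ∣ Nat.card O := (h ▸ hrK).trans (card_dvd_of_le inf_le_left)
    exact (Nat.not_even_iff_odd.2 hd.odd) (even_iff_two_dvd.2 h2)
  obtain ⟨⟨y, hyK⟩, hyr⟩ := exists_prime_orderOf_dvd_card' r hrK
  rw [← orderOf_coe] at hyr
  simp only at hyr
  have hcommS : ∀ s ∈ (S : Subgroup T), s * y = y * s := hKcomm y hyK
  have hKnorm : ∀ n ∈ K, NormY y n → n * y = y * n := fun n hn hN =>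
    comm_of_coprime hr hyr hN fun q hq hqd => by
      refine Nat.minFac_le_of_dvd hq.two_le (hqd.trans ?_)
      rw [← orderOf_mk n hn]
      exact orderOf_dvd_natCard _
  -- the four elements
  have htS := hd.mem
  have ht1 : t ≠ 1 := fun h => by have := hd.ot; rw [h, orderOf_one] at this; omega
  obtain ⟨u, huS, hu1, hut⟩ : ∃ u ∈ (S : Subgroup T), u ≠ 1 ∧ u ≠ t := by
    by_contra hcon
    push_neg at hcon
    have hsub : ((S : Subgroup T) : Set T) ⊆ ({1, t} : Set T) := fun x hx => by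
      by_cases h : x = 1
      · exact Or.inl h
      · exact Or.inr (hcon x hx h)
    have := Set.ncard_le_ncard hsub
    rw [Set.ncard_pair ht1.symm, ← Nat.card_coe_set_eq] at this
    change Nat.card (S : Subgroup T) ≤ 2 at this
    omega
  have htu_ne : t * u ≠ 1 ∧ t * u ≠ t ∧ t * u ≠ u := by
    refine ⟨fun h => hut ?_, fun h => hu1 ?_, fun h => ht1 ?_⟩
    · rw [← hinv t htS]; exact (inv_eq_of_mul_eq_one_right h).symm
    · simpa using h
    · simpa using h
  have hSfour : ∀ x ∈ (S : Subgroup T), x = 1 ∨ x = t ∨ x = u ∨ x = t * u := by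
    have hsub : ({1, t, u, t * u} : Set T) ⊆ ((S : Subgroup T) : Set T) := by
      intro x hx
      rcases hx with rfl | rfl | rfl | rfl
      exacts [one_mem _, htS, huS, mul_mem htS huS]
    have hc : ({1, t, u, t * u} : Set T).ncard = 4 := by
      rw [Set.ncard_insert_of_notMem, Set.ncard_insert_of_notMem, Set.ncard_pair htu_ne.2.2.symm]
      · simp [hut.symm, htu_ne.2.1.symm]
      · simp [ht1.symm, hu1.symm, htu_ne.1.symm]
    have heq := Set.eq_of_subset_of_ncard_le hsub (by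
      rw [hc, ← Nat.card_coe_set_eq]; exact h4.le)
    intro x hx
    have : x ∈ ({1, t, u, t * u} : Set T) := by rw [heq]; exact hx
    simpa using this
  have hou : orderOf u = 2 := orderOf_eq_prime (by rw [pow_two, hexp u huS]) hu1
  -- a three-cycle
  obtain ⟨g₀, hg₀⟩ := isConj_iff.1 (hd.fusion t u hd.ot hou)
  obtain ⟨n₀, hn₀, hn₀t⟩ := S.conj_eq_normalizer_conj_of_mem t g₀⁻¹ htS
    (by rw [inv_inv, hg₀]; exact huS)
  rw [inv_inv, hg₀] at hn₀t
  have hn₀' := Subgroup.inv_mem _ hn₀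
  set n := n₀⁻¹ with hndef
  have hnt : n * t * n⁻¹ = u := by rw [hndef, inv_inv]; exact hn₀t.symm
  have hnS : ∀ s ∈ (S : Subgroup T), n * s * n⁻¹ ∈ (S : Subgroup T) := fun s hs =>
    (mem_normalizer_iff.1 hn₀' s).1 hs
  have hnu : n * u * n⁻¹ = t * u := by
    rcases hSfour _ (hnS u huS) with h | h | h | h
    · exact absurd (by simpa using h) hu1
    · exact absurd (no_transposition S hab hnS htS hnt h).symm hut
    · exact absurd (mul_left_cancel (mul_right_cancel (h.trans hnt.symm))) hut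
    · exact h
  -- make it normalise `⟨y⟩`
  have hnyK : n * y * n⁻¹ ∈ K := by
    have hcomm : ∀ s ∈ (S : Subgroup T), s * (n * y * n⁻¹) = n * y * n⁻¹ * s := by
      intro s hs
      have h1 : n⁻¹ * s * n ∈ (S : Subgroup T) := by
        have := (mem_normalizer_iff.1 hn₀ s).1 hs
        simpa [hndef] using this
      have h2 := hcommS _ h1
      calc s * (n * y * n⁻¹) = n * ((n⁻¹ * s * n) * y) * n⁻¹ := by group
        _ = n * (y * (n⁻¹ * s * n)) * n⁻¹ := by rw [h2]
        _ = n * y * n⁻¹ * s := by group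
    refine hKS _ (hoddO _ (mem_Cent.2 (hcomm t htS).symm) ?_) hcomm
    rw [← MulAut.conj_apply, MulEquiv.orderOf_eq]
    exact hoddmem y hyK.1
  obtain ⟨k, hk, hkY⟩ := exists_conj_zpowers hmin.hodd hr hr2 K hnyK hyK
    (by rw [← MulAut.conj_apply, MulEquiv.orderOf_eq, hyr]) hyr
  set h := k * n with hhdef
  have hY : NormY y h := by
    have : h * y * h⁻¹ = k * (n * y * n⁻¹) * k⁻¹ := by rw [hhdef]; group
    unfold NormY
    rw [this]; exact hkY
  have hact : ∀ s ∈ (S : Subgroup T), h * s * h⁻¹ = n * s * n⁻¹ := by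
    intro s hs
    have h1 : h * s * h⁻¹ = k * (n * s * n⁻¹) * k⁻¹ := by rw [hhdef]; group
    rw [h1, conj_eq_iff_comm.2 (hKcomm k hk _ (hnS s hs)).symm]
  have hht : h * t * h⁻¹ = u := by rw [hact t htS, hnt]
  have hhu : h * u * h⁻¹ = t * u := by rw [hact u huS, hnu]
  have hhtu : h * (t * u) * h⁻¹ = t := by
    rw [show h * (t * u) * h⁻¹ = (h * t * h⁻¹) * (h * u * h⁻¹) by group, hht, hhu,
      hab t htS u huS, ← mul_assoc, hexp u huS, one_mul]
  -- fixing `S` and normalising `⟨y⟩` means centralising `y`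
  have hfix' : ∀ m : T, NormY y m → m * t * m⁻¹ = t → m * u * m⁻¹ = u → m ∈ Cent y := by
    intro m hm h1 h2
    have hmc : ∀ s ∈ (S : Subgroup T), s * m = m * s := by
      intro s hs
      rcases hSfour s hs with rfl | rfl | rfl | rfl
      · simp
      · exact (conj_eq_iff_comm.1 h1).symm
      · exact (conj_eq_iff_comm.1 h2).symm
      · rw [mul_assoc, (conj_eq_iff_comm.1 h2).symm, ← mul_assoc,
          (conj_eq_iff_comm.1 h1).symm, mul_assoc]
    obtain ⟨z, hz, s, hs, rfl⟩ := hd.cent m (mem_Cent.2 (hmc t htS).symm)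
    have hzc : ∀ s' ∈ (S : Subgroup T), s' * z = z * s' := by
      intro s' hs'
      have h3 := hmc s' hs'
      rw [← mul_assoc, mul_assoc z s s', hab s hs s' hs', ← mul_assoc] at h3
      exact mul_right_cancel h3
    have hzN : NormY y z := by
      have := normY_mul hm (normY_of_comm (hcommS s⁻¹ (inv_mem hs)))
      simpa using this
    rw [mem_Cent, mul_assoc, hcommS s hs, ← mul_assoc, hKnorm z (hKS z hz hzc) hzN, mul_assoc]
  have hh3 : h ^ 3 ∈ Cent y := by
    refine hfix' _ (normY_pow hY 3) ?_ ?_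
    · rw [show h ^ 3 * t * (h ^ 3)⁻¹ = h * (h * (h * t * h⁻¹) * h⁻¹) * h⁻¹ by simp [pow_succ, mul_assoc], hht, hhu,
        hhtu]
    · rw [show h ^ 3 * u * (h ^ 3)⁻¹ = h * (h * (h * u * h⁻¹) * h⁻¹) * h⁻¹ by simp [pow_succ, mul_assoc], hhu, hhtu,
        hht]
  have hSle : (S : Subgroup T) ≤ Cent y := fun s hs => mem_Cent.2 (hcommS s hs)
  -- decomposition of the normaliser
  have hdec : ∀ g, NormY y g → ∃ i < 3, ∃ c ∈ Cent y, g = h ^ i * c := by
    intro g₁ hg₁
    obtain ⟨g, hg, rfl⟩ : ∃ g, NormY y g ∧ g⁻¹ = g₁ := ⟨g₁⁻¹, normY_inv hg₁, inv_inv g₁⟩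
    have hle : ((g • S : Sylow 2 T) : Subgroup T) ≤ Cent y := by
      intro x hx
      rw [Sylow.coe_subgroup_smul] at hx
      obtain ⟨s, hs, rfl⟩ := hx
      exact mem_Cent.2 (normY_centralizes' hg (hcommS s hs))
    obtain ⟨c, hc⟩ := MulAction.exists_smul_eq (Cent y) (S.subtype hSle) ((g • S).subtype hle)
    set m := g⁻¹ * (c : T) with hmdef
    have hmS : ∀ s ∈ (S : Subgroup T), m * s * m⁻¹ ∈ (S : Subgroup T) := by
      intro s hs
      have h1 : c * ⟨s, hSle hs⟩ * c⁻¹ ∈ (g • S).subtype hle := by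
        rw [← hc, ← SetLike.mem_coe, Sylow.coe_smul]
        exact ⟨⟨s, hSle hs⟩, hs, rfl⟩
      have h2 : ((c * ⟨s, hSle hs⟩ * c⁻¹ : Cent y) : T) ∈ ((g • S : Sylow 2 T) : Subgroup T) := h1
      rw [Sylow.coe_subgroup_smul] at h2
      obtain ⟨s', hs', hs''⟩ := h2
      have : m * s * m⁻¹ = s' := by
        have e : g * s' * g⁻¹ = (c : T) * s * (c : T)⁻¹ := hs''
        calc m * s * m⁻¹ = g⁻¹ * ((c : T) * s * (c : T)⁻¹) * g := by rw [hmdef]; group
          _ = s' := by rw [← e]; group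
      rw [this]; exact hs'
    have hmY : NormY y m := normY_mul (normY_inv hg) (normY_of_comm (mem_Cent.1 c.2))
    obtain ⟨i, hi, hit⟩ : ∃ i < 3, h ^ i * t * (h ^ i)⁻¹ = m * t * m⁻¹ := by
      rcases hSfour _ (hmS t htS) with e | e | e | e
      · exact absurd (by simpa using e) ht1
      · exact ⟨0, by norm_num, by rw [e]; simp⟩
      · exact ⟨1, by norm_num, by rw [e, pow_one, hht]⟩
      · refine ⟨2, by norm_num, ?_⟩
        rw [e, show h ^ 2 * t * (h ^ 2)⁻¹ = h * (h * t * h⁻¹) * h⁻¹ by simp [pow_succ, mul_assoc], hht, hhu]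
    set m' := (h ^ i)⁻¹ * m with hm'def
    have hm'Y : NormY y m' := normY_mul (normY_inv (normY_pow hY i)) hmY
    have hm't : m' * t * m'⁻¹ = t := by
      rw [hm'def, show (h ^ i)⁻¹ * m * t * ((h ^ i)⁻¹ * m)⁻¹ =
        (h ^ i)⁻¹ * (m * t * m⁻¹) * h ^ i by group, ← hit]
      group
    have hnh : h ∈ normalizer ((S : Subgroup T) : Set T) :=
      mem_normalizer_of_mapsTo _ fun s hs => by rw [hact s hs]; exact hnS s hs
    have hm'S : ∀ s ∈ (S : Subgroup T), m' * s * m'⁻¹ ∈ (S : Subgroup T) := fun s hs =>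
      (mem_normalizer_iff.1 (Subgroup.mul_mem _ (Subgroup.inv_mem _ (Subgroup.pow_mem _ hnh i))
        (mem_normalizer_of_mapsTo _ hmS)) s).1 hs
    have hm'u : m' * u * m'⁻¹ = u := by
      rcases hSfour _ (hm'S u huS) with e | e | e | e
      · exact absurd (by simpa using e) hu1
      · exact absurd (mul_left_cancel (mul_right_cancel (e.trans hm't.symm))) hut
      · exact e
      · refine absurd (no_transposition S hab hm'S huS e ?_) htu_ne.2.2.symm
        rw [show m' * (t * u) * m'⁻¹ = (m' * t * m'⁻¹) * (m' * u * m'⁻¹) by group, hm't, e,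
          ← mul_assoc, hexp t htS, one_mul]
    refine ⟨i, hi, m' * (c : T)⁻¹, mul_mem (hfix' m' hm'Y hm't hm'u) (inv_mem c.2), ?_⟩
    rw [hm'def, hmdef]
    group
  have hh1 : h ∉ Cent y := by
    intro hh
    have hNC : ∀ g, NormY y g → g * y = y * g := by
      intro g hg
      obtain ⟨i, -, c, hc, rfl⟩ := hdec g hg
      exact mem_Cent.1 (mul_mem (pow_mem hh i) hc)
    obtain ⟨P, hP⟩ := (IsPGroup.of_card (n := 1) (p := r) (G := zpowers y)
      (by rw [Nat.card_zpowers, hyr, pow_one])).exists_le_sylow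
    have : IsCyclic P := hmin.hodd r hr hr2 P
    have hyP : y ∈ (P : Subgroup T) := hP (mem_zpowers y)
    have hPC := normalizer_le_centralizer_of P hyr hyP hNC
    have hcompl := MonoidHom.ker_transferSylow_isComplement' P hPC
    haveI := hmin.simple
    rcases (inferInstance : (MonoidHom.transferSylow P hPC).ker.Normal).eq_bot_or_eq_top with
      e | e
    · rw [e, isComplement'_bot_left] at hcompl
      obtain ⟨a, b, hne'⟩ := hmin.nc
      obtain ⟨g, hg⟩ := IsCyclic.exists_generator (α := (P : Subgroup T))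
      obtain ⟨i, hi⟩ := mem_zpowers_iff.1 (hg ⟨a, by rw [hcompl]; trivial⟩)
      obtain ⟨j, hj⟩ := mem_zpowers_iff.1 (hg ⟨b, by rw [hcompl]; trivial⟩)
      refine hne' (congrArg Subtype.val (show (⟨a, _⟩ : (P : Subgroup T)) * ⟨b, _⟩ = ⟨b, _⟩ * ⟨a, _⟩
        from by rw [← hi, ← hj]; exact (Commute.zpow_zpow_self g i j).eq))
    · rw [e, isComplement'_top_left] at hcompl
      rw [hcompl, mem_bot] at hyP
      rw [hyP, orderOf_one] at hyr
      exact hr.one_lt.ne hyr
  have hpow : ∀ k : ℕ, h ^ k ∈ Cent y ↔ 3 ∣ k := by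
    intro k
    have hq : (h ^ 3) ^ (k / 3) ∈ Cent y := pow_mem hh3 _
    have hk' : h ^ k = (h ^ 3) ^ (k / 3) * h ^ (k % 3) := by
      rw [← pow_mul, ← pow_add, Nat.div_add_mod]
    rw [hk', Subgroup.mul_mem_cancel_left _ hq, Nat.dvd_iff_mod_eq_zero]
    constructor
    · intro hmem
      have hlt : k % 3 < 3 := Nat.mod_lt _ (by norm_num)
      interval_cases hm : k % 3
      · rfl
      · rw [pow_one] at hmem; exact absurd hmem hh1
      · refine absurd ?_ hh1
        have : h ^ 3 = h ^ 2 * h := by rw [← pow_succ]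
        rw [this, Subgroup.mul_mem_cancel_left _ hmem] at hh3
        exact hh3
    · intro e; rw [e, pow_zero]; exact one_mem _
  refine ⟨y, h, r, ⟨hr, hr2, hyr, hyK.1, hcommS, hY, hpow, hdec, ?_⟩, hexp⟩
  intro z hz hzN
  have huy : u * y = y * u := hcommS u huS
  obtain ⟨i, -, c, hc, hzc⟩ := hdec z hzN
  set w := z⁻¹ * (u * z * u⁻¹) with hwdef
  have hwO : w ∈ O := mul_mem (inv_mem hz) (hd.normal u (hcentS u huS) z hz)
  have hwC : w ∈ Cent y := by
    rw [hwdef, ← mul_assoc, ← mul_assoc]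
    refine mul_mem (mem_Cent.2 (normY_centralizes hzN huy)) (inv_mem (mem_Cent.2 huy))
  have hwinv : u * w * u⁻¹ = w⁻¹ := by
    rw [hwdef, hinv u huS, show u * (z⁻¹ * (u * z * u)) * u = u * z⁻¹ * u * z * (u * u) by group,
      hexp u huS, mul_one, mul_inv_rev, inv_inv, mul_inv_rev, mul_inv_rev, hinv u huS]
    group
  obtain ⟨j, hj⟩ := hoddmem w hwO
  set d := w ^ (j + 1) with hddef
  have hd2 : d * d = w := by
    rw [hddef, ← pow_add, show j + 1 + (j + 1) = orderOf w + 1 by omega, pow_succ,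
      pow_orderOf_eq_one, one_mul]
  have hdinv : u * d * u⁻¹ = d⁻¹ := by rw [hddef, ← conj_pow, hwinv, inv_pow]
  have hzd : u * (z * d) * u⁻¹ = z * d := by
    rw [show u * (z * d) * u⁻¹ = (u * z * u⁻¹) * (u * d * u⁻¹) by group, hdinv,
      show u * z * u⁻¹ = z * w by rw [hwdef]; group, ← hd2]
    group
  have hdO : d ∈ O := pow_mem hwO _
  have hdC : d ∈ Cent y := pow_mem hwC _
  have hzdK : z * d ∈ K := by
    refine hKS _ (mul_mem hz hdO) fun s hs => ?_
    have hct : t * (z * d) = z * d * t := (mem_Cent.1 (hd.le (mul_mem hz hdO))).symm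
    have hcu : u * (z * d) = z * d * u := conj_eq_iff_comm.1 hzd
    rcases hSfour s hs with rfl | rfl | rfl | rfl
    · simp
    · exact hct
    · exact hcu
    · rw [mul_assoc, hcu, ← mul_assoc, hct, mul_assoc]
  have := hKnorm _ hzdK (normY_mul hzN (normY_of_comm (mem_Cent.1 hdC)))
  have hzdC : z * d ∈ Cent y := mem_Cent.2 this
  exact (Subgroup.mul_mem_cancel_right _ hdC).1 hzdC

end Cfsg.Agent.CycSyl43Klein
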