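import Mathlib
import Cfsg.Agent.Lib.CycSyl43KleinLocal
import Cfsg.Agent.Lib.CharInducedTI

/-!
The generalized character of norm four attached to an element of prime order fixed by a Sylow
four-group.
-/

set_option autoImplicit false

open scoped ComplexConjugate

namespace Cfsg.Agent.CycSyl43Klein

open Cfsg.Agent.CycSyl43 Subgroup Finset
open Cfsg.Agent.CharInduced Cfsg.Agent.CharBasicOrth Cfsg.Agent.CharBasicDecomp
open Cfsg.Agent.CharBasic

universe u

variable {T : Type u} [Group T] [Finite T] {S : Sylow 2 T} {O : Subgroup T} {y h : T} {r : ℕ}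

theorem exists_lam (hodd : OddCyclic T) (hr : r.Prime) (hr2 : r ≠ 2) (hy : orderOf y = r) :
    ∃ lam : Cent y →* ℂˣ, ∀ x : Cent y, lam x = 1 ↔ ¬ r ∣ orderOf (x : T) := by
  have : Fact r.Prime := ⟨hr⟩
  set y' : Cent y := ⟨y, mem_Cent.2 rfl⟩
  have hy' : orderOf y' = r := by rw [← orderOf_coe]; exact hy
  obtain ⟨P, hP⟩ := (IsPGroup.of_card (n := 1) (p := r) (G := zpowers y')
    (by rw [Nat.card_zpowers, hy', pow_one])).exists_le_sylow
  have : IsCyclic ((P : Subgroup (Cent y)).map (Cent y).subtype) :=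
    isCyclic_of_rGroup hodd hr hr2 _ (P.isPGroup'.map _)
  have : IsCyclic P :=
    ((P : Subgroup (Cent y)).equivMapOfInjective _ (Cent y).subtype_injective).isCyclic.2 this
  have hNC := normalizer_le_centralizer_of P hy' (hP (mem_zpowers y'))
    (fun g _ => Subtype.ext (mem_Cent.1 g.2))
  obtain ⟨lam, hlam⟩ := exists_faithful_on_torsion P hNC
  exact ⟨lam, fun x => by rw [hlam x, orderOf_coe]⟩

variable (lam : Cent y →* ℂˣ)

/-- The conjugate of `lam` by an element normalising `⟨y⟩`. -/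
noncomputable def lamConj {g : T} (hg : NormY y g) : Cent y →* ℂˣ :=
  MonoidHom.mk' (fun x => lam ⟨g⁻¹ * x * g,
      mem_Cent.2 (normY_centralizes hg (mem_Cent.1 x.2))⟩) fun a b => by
    rw [← map_mul]
    congr 1
    apply Subtype.ext
    show g⁻¹ * ((a : T) * b) * g = g⁻¹ * a * g * (g⁻¹ * b * g)
    group

theorem lamConj_apply {g : T} (hg : NormY y g) (x : Cent y) :
    lamConj lam hg x = lam ⟨g⁻¹ * x * g, mem_Cent.2 (normY_centralizes hg (mem_Cent.1 x.2))⟩ := rfl

/-- `1 - lam`. -/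
noncomputable def baseFun : Cent y → ℂ := fun x => 1 - (lam x : ℂ)

/-- The sum of the three conjugates of `baseFun`, extended by zero. -/
noncomputable def triple (h : T) (z : T) : ℂ :=
  ∑ i ∈ Finset.range 3, extendByZero (Cent y) (baseFun lam) ((h ^ i)⁻¹ * z * h ^ i)

theorem isClassFunction_baseFun : Cfsg.IsClassFunction (Cent y) (baseFun lam) := by
  intro a b
  simp only [baseFun, map_mul, map_inv, mul_comm (lam b), mul_inv_cancel_right]

variable {lam}

section

variable (hlam : ∀ x : Cent y, lam x = 1 ↔ ¬ r ∣ orderOf (x : T))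
include hlam

theorem ext_eq_zero {z : T} (hz : ¬ r ∣ orderOf z) :
    extendByZero (Cent y) (baseFun lam) z = 0 := by
  by_cases hm : z ∈ Cent y
  · rw [ext_zero_of_mem _ hm, baseFun, (hlam ⟨z, hm⟩).2 hz, Units.val_one, sub_self]
  · exact ext_zero_of_not_mem _ hm

omit hlam in
theorem mem_of_ext_ne_zero {z : T} (hz : extendByZero (Cent y) (baseFun lam) z ≠ 0) :
    z ∈ Cent y := by
  by_contra hm
  exact hz (ext_zero_of_not_mem _ hm)

theorem dvd_of_ext_ne_zero {z : T} (hz : extendByZero (Cent y) (baseFun lam) z ≠ 0) :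
    r ∣ orderOf z := by
  by_contra hn
  exact hz (ext_eq_zero hlam hn)

omit hlam in
theorem orderOf_conj (g z : T) : orderOf (g⁻¹ * z * g) = orderOf z := by
  have := MulEquiv.orderOf_eq (MulAut.conj g⁻¹) z
  rwa [MulAut.conj_apply, inv_inv] at this

theorem triple_eq_zero {z : T} (hz : ¬ r ∣ orderOf z) : triple lam h z = 0 :=
  Finset.sum_eq_zero fun i _ => ext_eq_zero hlam (by rwa [orderOf_conj])

theorem ind_eq_zero [Fintype T] {z : T} (hz : ¬ r ∣ orderOf z) :
    indFun (Cent y) (baseFun lam) z = 0 := by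
  rw [indFun_apply, Finset.sum_eq_zero fun g _ => ext_eq_zero hlam (by rwa [orderOf_conj]),
    mul_zero]

end

theorem triple_eq_zero_of_not_mem (hc : Cfg S O y h r) {z : T} (hz : z ∉ Cent y) :
    triple lam h z = 0 := by
  refine Finset.sum_eq_zero fun i _ => ext_zero_of_not_mem _ fun hm => hz ?_
  have := normY_centralizes' (normY_pow hc.hY i) (mem_Cent.1 hm)
  simpa [mul_assoc] using mem_Cent.2 this

theorem triple_eq (hc : Cfg S O y h r) (x : Cent y) :
    triple lam h (x : T) =
      ∑ i ∈ Finset.range 3, (1 - (lamConj lam (normY_pow hc.hY i) x : ℂ)) := by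
  refine Finset.sum_congr rfl fun i _ => ?_
  rw [ext_zero_of_mem _ (mem_Cent.2 (normY_centralizes (normY_pow hc.hY i) (mem_Cent.1 x.2)))]
  rfl

/-- Two elements of order divisible by `r` in the centraliser are only conjugate under the
normaliser. -/
theorem normY_of_conj_mem (hc : Cfg S O y h r) (hodd : OddCyclic T) {g z : T} (hz : z ∈ Cent y)
    (hrz : r ∣ orderOf z) (hgz : g * z * g⁻¹ ∈ Cent y) : NormY y g := by
  obtain ⟨m, hm⟩ := hrz
  set x := z ^ m with hx
  have hxo : orderOf x = r := by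
    rw [hx, orderOf_pow, hm, Nat.gcd_mul_left_left, Nat.mul_div_cancel]
    exact Nat.pos_of_ne_zero fun h0 => by rw [h0, mul_zero] at hm; exact (orderOf_pos z).ne' hm
  have hx1 : x ∈ zpowers y :=
    mem_zpowers_of_comm hodd hc.prime hc.ne2 hxo hc.oy (mem_Cent.1 (pow_mem hz m))
  have hy1 : y ∈ zpowers x :=
    mem_zpowers_of_comm hodd hc.prime hc.ne2 hc.oy hxo (mem_Cent.1 (pow_mem hz m)).symm
  have hgx : g * x * g⁻¹ ∈ zpowers y := by
    refine mem_zpowers_of_comm hodd hc.prime hc.ne2 ?_ hc.oy ?_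
    · rw [← MulAut.conj_apply, MulEquiv.orderOf_eq, hxo]
    · rw [hx, ← conj_pow]
      exact mem_Cent.1 (pow_mem hgz m)
  obtain ⟨k, hk⟩ := mem_zpowers_iff.1 hy1
  unfold NormY
  rw [← hk, ← conj_zpow]
  exact hk.symm ▸ zpow_mem hgx k

theorem ind_eq_triple [Fintype T] (hc : Cfg S O y h r) (hodd : OddCyclic T)
    (hlam : ∀ x : Cent y, lam x = 1 ↔ ¬ r ∣ orderOf (x : T)) {z : T} (hz : z ∈ Cent y) :
    indFun (Cent y) (baseFun lam) z = triple lam h z := by
  classical
  by_cases hr : r ∣ orderOf z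
  swap
  · rw [ind_eq_zero hlam hr, triple_eq_zero hlam hr]
  set F : T → ℂ := fun g => extendByZero (Cent y) (baseFun lam) (g⁻¹ * z * g) with hF
  have hsub : ∑ g : T, F g = ∑ g ∈ Finset.univ.filter (fun g : T => NormY y g), F g := by
    refine (Finset.sum_subset (Finset.filter_subset _ _) fun g _ hg => ?_).symm
    by_contra hne
    refine hg (Finset.mem_filter.2 ⟨Finset.mem_univ g, ?_⟩)
    have h1 : g⁻¹ * z * (g⁻¹)⁻¹ ∈ Cent y := by rw [inv_inv]; exact mem_of_ext_ne_zero hne
    simpa using normY_inv (normY_of_conj_mem hc hodd hz hr h1)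
  have : Fintype (Cent y) := Fintype.ofFinite _
  have hbij : ∑ g ∈ Finset.univ.filter (fun g : T => NormY y g), F g =
      ∑ p ∈ (Finset.range 3) ×ˢ (Finset.univ : Finset (Cent y)), F (h ^ p.1 * (p.2 : T)) := by
    symm
    refine Finset.sum_nbij (fun p => h ^ p.1 * (p.2 : T)) ?_ ?_ ?_ (fun p _ => rfl)
    · intro p _
      exact Finset.mem_filter.2 ⟨Finset.mem_univ _,
        normY_mul (normY_pow hc.hY _) (normY_of_comm (mem_Cent.1 p.2.2))⟩
    · rintro ⟨i, a⟩ hp ⟨j, b⟩ hq he
      simp only [Finset.coe_product, Set.mem_prod, Finset.mem_coe, Finset.mem_range] at hp hq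
      simp only at he
      have key : ∀ {i j : ℕ} {a b : Cent y}, i ≤ j → j < 3 → h ^ i * (a : T) = h ^ j * b → i = j := by
        intro i j a b hij hj3 he
        have : h ^ (j - i) ∈ Cent y := by
          have e : h ^ (j - i) * (b : T) = a := by
            apply mul_left_cancel (a := h ^ i)
            rw [← mul_assoc, ← pow_add, Nat.add_sub_cancel' hij, he]
          rw [← Subgroup.mul_mem_cancel_right (Cent y) b.2, e]
          exact a.2
        have := (hc.pow _).1 this
        omega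
      have hij : i = j := by
        rcases le_total i j with hle | hle
        · exact key hle hq.1 he
        · exact (key hle hp.1 he.symm).symm
      subst hij
      exact Prod.ext rfl (Subtype.ext (mul_left_cancel he))
    · intro g hg
      obtain ⟨i, hi, c, hcm, rfl⟩ := hc.dec g (Finset.mem_filter.1 hg).2
      exact ⟨(i, ⟨c, hcm⟩), Finset.mem_product.2 ⟨Finset.mem_range.2 hi, Finset.mem_univ _⟩, rfl⟩
  have hterm : ∀ i : ℕ, ∀ c : Cent y, F (h ^ i * (c : T)) =
      extendByZero (Cent y) (baseFun lam) ((h ^ i)⁻¹ * z * h ^ i) := by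
    intro i c
    rw [hF, ← ext_zero_conj_inv (isClassFunction_baseFun lam) (Subgroup.inv_mem _ c.2)
      ((h ^ i)⁻¹ * z * h ^ i)]
    congr 1
    group
  rw [indFun_apply, hsub, hbij, Finset.sum_product,
    Finset.sum_congr rfl fun i _ => (Finset.sum_congr rfl fun c _ => hterm i c)]
  simp only [Finset.sum_const, Finset.card_univ, nsmul_eq_mul]
  rw [← Finset.mul_sum, ← mul_assoc, Nat.card_eq_fintype_card,
    inv_mul_cancel₀ (Nat.cast_ne_zero.2 Fintype.card_ne_zero), one_mul]
  rfl

theorem lamConj_injOn (hc : Cfg S O y h r) (hlam : ∀ x : Cent y, lam x = 1 ↔ ¬ r ∣ orderOf (x : T))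
    {i j : ℕ} (hi : i < 3) (hj : j < 3)
    (he : lamConj lam (normY_pow hc.hY i) = lamConj lam (normY_pow hc.hY j)) : i = j := by
  wlog hij : i ≤ j generalizing i j
  · exact (this hj hi he.symm (le_of_not_ge hij)).symm
  set a := (h ^ i)⁻¹ * y * h ^ i with ha
  set b := (h ^ j)⁻¹ * y * h ^ j with hb
  have haY : a ∈ zpowers y := normY_conj_inv (normY_pow hc.hY i) (mem_zpowers y)
  have hbY : b ∈ zpowers y := normY_conj_inv (normY_pow hc.hY j) (mem_zpowers y)
  have hle : zpowers y ≤ Cent y := (zpowers_le).2 (mem_Cent.2 rfl)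
  have hlab : lam ⟨a, hle haY⟩ = lam ⟨b, hle hbY⟩ := DFunLike.congr_fun he ⟨y, mem_Cent.2 rfl⟩
  have h1 : lam (⟨a, hle haY⟩ * ⟨b, hle hbY⟩⁻¹) = 1 := by
    rw [map_mul, map_inv, hlab, mul_inv_cancel]
  have hnd := (hlam _).1 h1
  have hab : a * b⁻¹ = 1 := by
    have hd : orderOf (a * b⁻¹) ∣ r := hc.oy ▸ orderOf_dvd_of_mem_zpowers
      (mul_mem haY (inv_mem hbY))
    rcases (Nat.dvd_prime hc.prime).1 hd with e | e
    · exact orderOf_eq_one_iff.1 e
    · exact absurd (by rw [Subgroup.coe_mul, InvMemClass.coe_inv, e] : r ∣ orderOf _) hnd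
  rw [mul_inv_eq_one, ha, hb] at hab
  have hmem : h ^ (j - i) ∈ Cent y := by
    obtain ⟨k, rfl⟩ := Nat.exists_eq_add_of_le hij
    rw [Nat.add_sub_cancel_left, mem_Cent]
    calc h ^ k * y = h ^ k * ((h ^ i) * ((h ^ i)⁻¹ * y * h ^ i) * (h ^ i)⁻¹) := by group
      _ = h ^ k * ((h ^ i) * ((h ^ (i + k))⁻¹ * y * h ^ (i + k)) * (h ^ i)⁻¹) := by rw [hab]
      _ = y * h ^ k := by group
  have := (hc.pow _).1 hmem
  omega

theorem sum_hom_eq_zero {G : Type u} [Group G] [Fintype G] (f : G →* ℂˣ) {a : G} (ha : f a ≠ 1) :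
    ∑ x : G, (f x : ℂ) = 0 := by
  have h1 : (f a : ℂ) * ∑ x : G, (f x : ℂ) = ∑ x : G, (f x : ℂ) := by
    rw [Finset.mul_sum]
    exact Fintype.sum_equiv (Equiv.mulLeft a) _ _ fun x => by simp
  have h2 : ((f a : ℂ) - 1) * ∑ x : G, (f x : ℂ) = 0 := by rw [sub_mul, h1, one_mul, sub_self]
  rcases mul_eq_zero.1 h2 with e | e
  · exact absurd (Units.ext (sub_eq_zero.1 e)) ha
  · exact e

theorem lamConj_ne_one (hc : Cfg S O y h r)
    (hlam : ∀ x : Cent y, lam x = 1 ↔ ¬ r ∣ orderOf (x : T)) (i : ℕ) :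
    lamConj lam (normY_pow hc.hY i) ⟨y, mem_Cent.2 rfl⟩ ≠ 1 := by
  rw [lamConj_apply, Ne, hlam, not_not]
  show r ∣ orderOf ((h ^ i)⁻¹ * y * h ^ i)
  rw [orderOf_conj, hc.oy]

variable [Fintype T]

theorem inner_one_and_norm (hc : Cfg S O y h r) (hodd : OddCyclic T)
    (hlam : ∀ x : Cent y, lam x = 1 ↔ ¬ r ∣ orderOf (x : T)) :
    Cfsg.classInner (indFun (Cent y) (baseFun lam)) (fun _ => 1) = 1 ∧
      Cfsg.classInner (indFun (Cent y) (baseFun lam)) (indFun (Cent y) (baseFun lam)) = 4 := by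
  classical
  have : Fintype (Cent y) := Fintype.ofFinite _
  let one : Cent y → ℂ := fun _ => 1
  let L : ℕ → Cent y → ℂ := fun i x => (lamConj lam (normY_pow hc.hY i) x : ℂ)
  have hone : IsIrrCharacter (Cent y) one := isIrrCharacter_one
  have hL : ∀ i, IsIrrCharacter (Cent y) (L i) := fun i => isIrrCharacter_linear _
  have h11 : Cfsg.classInner one one = 1 := classInner_irr_self hone
  have hne : ∀ i, L i ≠ one := fun i e => lamConj_ne_one hc hlam i
    (Units.ext (congrFun e ⟨y, mem_Cent.2 rfl⟩))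
  have hbase : baseFun lam = one - L 0 := by
    funext x
    simp only [baseFun, Pi.sub_apply, one, L, lamConj_apply]
    congr 3
    apply Subtype.ext
    simp
  have h0one : Cfsg.classInner (L 0) one = 0 := classInner_irr_ne (hL 0) hone (hne 0)
  have hdist : ∀ i, i < 3 → i ≠ 0 → Cfsg.classInner (L 0) (L i) = 0 := fun i hi hi0 =>
    classInner_irr_ne (hL 0) (hL i) fun e => hi0 (lamConj_injOn hc hlam (by norm_num) hi
      (MonoidHom.ext fun x => Units.ext (congrFun e x))).symm
  have honeL : ∀ i, Cfsg.classInner one (L i) = 0 := fun i =>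
    classInner_irr_ne hone (hL i) (hne i).symm
  constructor
  · rw [inner_ind_left _ _ (fun _ _ => rfl)]
    show Cfsg.classInner (baseFun lam) one = 1
    rw [hbase, CharInduced.inner_sub_left, h11, h0one, sub_zero]
  · rw [inner_ind_left _ _ (isClassFunction_ind _ _)]
    have hres : (fun x : Cent y => indFun (Cent y) (baseFun lam) (x : T)) =
        (one - L 0) + (one - L 1) + (one - L 2) := by
      funext x
      rw [ind_eq_triple hc hodd hlam x.2, triple_eq hc x]
      simp only [Finset.sum_range_succ, Finset.sum_range_zero, Pi.add_apply, Pi.sub_apply, one, L, zero_add]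
    rw [hres, hbase]
    simp only [CharInduced.inner_sub_left, CharInduced.inner_add_right, CharInduced.inner_sub_right,
      h11, honeL, h0one, classInner_irr_self (hL 0), hdist 1 (by norm_num) one_ne_zero,
      hdist 2 (by norm_num) two_ne_zero]
    norm_num

theorem sum_O (hc : Cfg S O y h r) (hodd : OddCyclic T)
    (hlam : ∀ x : Cent y, lam x = 1 ↔ ¬ r ∣ orderOf (x : T)) {t : T} (ht : orderOf t = 2)
    (htS : t ∈ (S : Subgroup T)) (hle : O ≤ centralizer ({t} : Set T)) [Fintype O] :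
    ∑ z : O, indFun (Cent y) (baseFun lam) (t * (z : T)) = 3 * (Nat.card O : ℂ) := by
  classical
  set Γ := indFun (Cent y) (baseFun lam) with hΓ
  set CO : Subgroup O := (Cent y).subgroupOf O with hCO
  have : Fintype CO := Fintype.ofFinite _
  have htC : t ∈ Cent y := mem_Cent.2 (hc.commS t htS)
  have hrt : ¬ r ∣ orderOf t := fun hd => hc.ne2 (((Nat.prime_dvd_prime_iff_eq hc.prime
    Nat.prime_two).1 (ht ▸ hd)))
  have hcomm : ∀ z : O, t * (z : T) = z * t := fun z =>
    ((mem_centralizer_singleton_iff).1 (hle z.2)).symm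
  have hcop : ∀ z : O, r ∣ orderOf (t * (z : T)) ↔ r ∣ orderOf (z : T) := by
    intro z
    constructor
    · intro hd
      have := hd.trans ((show Commute t (z : T) from hcomm z).orderOf_mul_dvd_mul_orderOf)
      exact ((Nat.Prime.dvd_mul hc.prime).1 this).resolve_left hrt
    · intro hd
      have h1 := (show Commute t (t * (z : T)) from ((Commute.refl t).mul_right (hcomm z))).orderOf_mul_dvd_mul_orderOf
      have h2 : t * (t * (z : T)) = z := by
        rw [← mul_assoc, ← pow_two, ← ht, pow_orderOf_eq_one, one_mul]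
      rw [h2] at h1
      exact ((Nat.Prime.dvd_mul hc.prime).1 (hd.trans h1)).resolve_left hrt
  have hkey : ∀ z : O, (Nat.card CO : ℂ) * Γ (t * (z : T)) =
      ∑ o : O, triple lam h ((o : T)⁻¹ * z * o) := by
    intro z
    by_cases hd : r ∣ orderOf (z : T)
    swap
    · rw [hΓ, ind_eq_zero hlam (fun e => hd ((hcop z).1 e)), mul_zero,
        Finset.sum_eq_zero fun o _ => triple_eq_zero hlam (by rwa [orderOf_conj])]
    obtain ⟨m, hm⟩ := hd
    set x := (z : T) ^ m with hx
    have hxo : orderOf x = r := by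
      rw [hx, orderOf_pow, hm, Nat.gcd_mul_left_left, Nat.mul_div_cancel]
      exact Nat.pos_of_ne_zero fun h0 => by
        rw [h0, mul_zero] at hm; exact (orderOf_pos (z : T)).ne' hm
    obtain ⟨q, hq, hqY⟩ := exists_conj_zpowers hodd hc.prime hc.ne2 O (pow_mem z.2 m) hc.memO
      hxo hc.oy
    set z' := q * (z : T) * q⁻¹ with hz'
    have hrz' : r ∣ orderOf z' := by
      rw [hz', ← MulAut.conj_apply, MulEquiv.orderOf_eq, hm]; exact dvd_mul_right _ _
    have hyx : y ∈ zpowers (q * x * q⁻¹) := by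
      refine mem_zpowers_of_comm hodd hc.prime hc.ne2 hc.oy ?_ (comm_of_mem_zpowers rfl hqY)
      rw [← MulAut.conj_apply, MulEquiv.orderOf_eq, hxo]
    have hz'C : z' ∈ Cent y := by
      refine mem_Cent.2 (comm_of_mem_zpowers ?_ hyx)
      rw [hx, ← conj_pow, ← hz']
      exact (Commute.self_pow z' m).eq
    have hz'O : z' ∈ O := mul_mem (mul_mem hq z.2) (inv_mem hq)
    have hlhs : Γ (t * (z : T)) = triple lam h z' := by
      have e1 : Γ (t * (z : T)) = Γ (t * z') := by
        have hq' := hcomm ⟨q, hq⟩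
        refine (isClassFunction_ind (Cent y) (baseFun lam) (t * (z : T)) q).symm.trans ?_
        rw [hz']
        refine congrArg Γ ?_
        calc q * (t * (z : T)) * q⁻¹ = (q * t) * (z : T) * q⁻¹ := by group
          _ = t * (q * (z : T) * q⁻¹) := by rw [← hq']; group
      rw [e1, hΓ, ind_eq_triple hc hodd hlam (mul_mem htC hz'C)]
      have hz'' := triple_eq (lam := lam) hc ⟨z', hz'C⟩
      have htz := triple_eq (lam := lam) hc (⟨t, htC⟩ * ⟨z', hz'C⟩)
      simp only [Subgroup.coe_mul] at htz hz''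
      rw [htz, hz'']
      refine Finset.sum_congr rfl fun i _ => ?_
      have : lamConj lam (normY_pow hc.hY i) ⟨t, htC⟩ = 1 := by
        rw [lamConj_apply, hlam]
        show ¬ r ∣ orderOf ((h ^ i)⁻¹ * t * h ^ i)
        rwa [orderOf_conj]
      rw [map_mul, this, one_mul]
    have hrhs : ∑ o : O, triple lam h ((o : T)⁻¹ * z * o) =
        ∑ c : O, if c ∈ CO then triple lam h z' else 0 := by
      symm
      refine Fintype.sum_equiv (Equiv.mulLeft (⟨q, hq⟩⁻¹ : O)) _ _ fun c => ?_
      simp only [Equiv.coe_mulLeft, Subgroup.coe_mul, InvMemClass.coe_inv]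
      rw [show (q⁻¹ * (c : T))⁻¹ * z * (q⁻¹ * c) = (c : T)⁻¹ * z' * c by rw [hz']; group]
      split_ifs with hcC
      · rw [← ind_eq_triple hc hodd hlam hz'C]
        have hcm : (c : T)⁻¹ * z' * c ∈ Cent y := mul_mem (mul_mem (inv_mem hcC) hz'C) hcC
        rw [← ind_eq_triple hc hodd hlam hcm]
        exact (classFunction_conj' (isClassFunction_ind _ _) z' c).symm
      · symm
        by_contra hne
        have hm' : (c : T)⁻¹ * z' * c ∈ Cent y := by
          by_contra hh
          exact hne (triple_eq_zero_of_not_mem hc hh)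
        have := normY_inv (normY_of_conj_mem hc hodd (g := (c : T)⁻¹) hz'C hrz' (by rwa [inv_inv]))
        rw [inv_inv] at this
        exact hcC (hc.oNorm _ c.2 this)
    rw [hlhs, hrhs, ← Finset.sum_filter, Finset.sum_const, nsmul_eq_mul, ← Fintype.card_subtype,
      ← Nat.card_eq_fintype_card]
  have hsum : (Nat.card CO : ℂ) * ∑ z : O, Γ (t * (z : T)) =
      (Nat.card O : ℂ) * (3 * Nat.card CO) := by
    rw [Finset.mul_sum, Finset.sum_congr rfl fun z _ => hkey z, Finset.sum_comm]
    have hre : ∀ o : O, ∑ z : O, triple lam h ((o : T)⁻¹ * z * o) =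
        ∑ z : O, triple lam h (z : T) := fun o =>
      Fintype.sum_equiv (MulAut.conj (o⁻¹)).toEquiv _ _ fun z => by simp
    have hCOsum : ∑ z : O, triple lam h (z : T) = 3 * (Nat.card CO : ℂ) := by
      have e1 : ∑ z : O, triple lam h (z : T) =
          ∑ z ∈ Finset.univ.filter (fun z : O => z ∈ CO), triple lam h (z : T) :=
        (Finset.sum_subset (Finset.subset_univ _) fun z _ hz => triple_eq_zero_of_not_mem hc
          fun hh => hz (Finset.mem_filter.2 ⟨Finset.mem_univ z, hh⟩)).symm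
      rw [e1, Finset.sum_subtype _ (p := fun z => z ∈ CO) (by simp)
        (fun z : O => triple lam h (z : T))]
      have he : ∀ c : CO, triple lam h ((c : O) : T) =
          ∑ i ∈ Finset.range 3, (1 - (lamConj lam (normY_pow hc.hY i) ⟨((c : O) : T), c.2⟩ : ℂ)) :=
        fun c => triple_eq hc ⟨((c : O) : T), c.2⟩
      rw [Finset.sum_congr rfl fun c _ => he c, Finset.sum_comm]
      have hz : ∀ i, ∑ c : CO, (lamConj lam (normY_pow hc.hY i) ⟨((c : O) : T), c.2⟩ : ℂ) = 0 := by
        intro i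
        refine sum_hom_eq_zero ((lamConj lam (normY_pow hc.hY i)).comp
          (MonoidHom.mk' (fun c : CO => (⟨((c : O) : T), c.2⟩ : Cent y)) fun a b => rfl))
          (a := (⟨⟨y, hc.memO⟩, mem_Cent.2 rfl⟩ : CO)) ?_
        exact lamConj_ne_one hc hlam i
      simp only [Finset.sum_sub_distrib, hz, sub_zero, Finset.sum_const, Finset.card_univ,
        Finset.card_range, nsmul_eq_mul, mul_one, Nat.card_eq_fintype_card]
      push_cast
      ring
    rw [Finset.sum_congr rfl fun o _ => (hre o).trans hCOsum, Finset.sum_const, Finset.card_univ,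
      nsmul_eq_mul, Nat.card_eq_fintype_card (α := O)]
  have hne : (Nat.card CO : ℂ) ≠ 0 := Nat.cast_ne_zero.2 Nat.card_pos.ne'
  apply mul_left_cancel₀ hne
  rw [hsum]
  ring

theorem ind_involution_pair (hc : Cfg S O y h r) (hodd : OddCyclic T)
    (hlam : ∀ x : Cent y, lam x = 1 ↔ ¬ r ∣ orderOf (x : T)) {u w : T} (hu : orderOf u = 2)
    (hw : orderOf w = 2) : indFun (Cent y) (baseFun lam) (u * w) = 0 := by
  rw [indFun_apply, Finset.sum_eq_zero, mul_zero]
  intro g _
  by_contra hne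
  have hx := mem_of_ext_ne_zero hne
  have hrx := dvd_of_ext_ne_zero hlam hne
  have sq : ∀ {v : T}, orderOf v = 2 → v * v = 1 := fun {v} hv => by
    rw [← pow_two, ← hv, pow_orderOf_eq_one]
  set x := g⁻¹ * (u * w) * g with hxdef
  set v := g⁻¹ * u * g with hvdef
  have hv2 : v * v = 1 := by
    rw [hvdef, show g⁻¹ * u * g * (g⁻¹ * u * g) = g⁻¹ * (u * u) * g by group, sq hu]; group
  have hvinv : v⁻¹ = v := inv_eq_of_mul_eq_one_right hv2
  have hvx : v * x * v⁻¹ = x⁻¹ := by
    rw [hvinv, hvdef, hxdef, mul_inv_rev, mul_inv_rev, inv_inv, mul_inv_rev,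
      inv_eq_of_mul_eq_one_right (sq hu), inv_eq_of_mul_eq_one_right (sq hw),
      show g⁻¹ * u * g * (g⁻¹ * (u * w) * g) * (g⁻¹ * u * g) = g⁻¹ * ((u * u) * w * u) * g by group,
      sq hu]
    group
  have hvY : NormY y v :=
    normY_of_conj_mem hc hodd hx hrx (by rw [hvx]; exact inv_mem hx)
  obtain ⟨i, hi, c, hcC, hvc⟩ := hc.dec v hvY
  have hi0 : i = 0 := by
    have h2 : h ^ (i + i) ∈ Cent y := by
      have e : h ^ (i + i) * (((h ^ i)⁻¹ * c * h ^ i) * c) = 1 := by
        rw [← hv2, hvc, pow_add]; group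
      have hm : (h ^ i)⁻¹ * c * h ^ i * c ∈ Cent y :=
        mul_mem (mem_Cent.2 (normY_centralizes (normY_pow hc.hY i) (mem_Cent.1 hcC))) hcC
      rw [← Subgroup.mul_mem_cancel_right _ hm, e]
      exact one_mem _
    have := (hc.pow _).1 h2
    omega
  subst hi0
  rw [pow_zero, one_mul] at hvc
  have hvC : v ∈ Cent y := hvc ▸ hcC
  set x' : Cent y := ⟨x, hx⟩
  set v' : Cent y := ⟨v, hvC⟩
  have hl : lam x'⁻¹ = lam x' := by
    have e : v' * x' * v'⁻¹ = x'⁻¹ := Subtype.ext hvx
    rw [← e, map_mul, map_mul, map_inv, mul_right_comm, mul_inv_cancel, one_mul]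
  have hl2 : lam (x' * x') = 1 := by
    rw [map_mul]
    nth_rewrite 1 [← hl]
    rw [map_inv, inv_mul_cancel]
  refine (hlam _).1 hl2 ?_
  show r ∣ orderOf (x * x)
  rw [← pow_two]
  have hcop : Nat.Coprime r 2 := (Nat.coprime_primes hc.prime Nat.prime_two).2 hc.ne2
  refine hcop.dvd_of_dvd_mul_left (hrx.trans ?_)
  exact orderOf_dvd_of_pow_eq_one (by rw [pow_mul, pow_orderOf_eq_one])

end Cfsg.Agent.CycSyl43Klein
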