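import Mathlib
import Cfsg.Agent.Lib.CycSyl43KleinChar
import Cfsg.Agent.Lib.KleinFourBlock79
import Cfsg.Agent.Lib.PrincipalQuot80
import Cfsg.Agent.Lib.FourExceptional
import Cfsg.Agent.Lib.CharAverage
import Cfsg.Agent.Lib.ZStarCount

/-!
In the four-group case a Sylow 2-subgroup fixes no nontrivial element of the odd core of the
centraliser of an involution.
-/

set_option autoImplicit false

open scoped ComplexConjugate

namespace Cfsg.Agent.CycSyl43Klein

open Cfsg.Agent.CycSyl43 Subgroup Finset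
open Cfsg.Agent.CharInduced Cfsg.Agent.CharBasicOrth Cfsg.Agent.CharBasicDecomp
open Cfsg.Agent.CharBasic

universe u

theorem arith {a b c : ℤ} (ha : 4 ∣ a - 1) (hb : 4 ∣ b - 1) (ha1 : a ≠ 1) (hb1 : b ≠ 1)
    (h1 : 1 + a + b + c = 0) (h2 : a * b * c + b * c + a * c + 9 * (a * b) = 0) : False := by
  obtain ⟨s, hs⟩ : ∃ s, s = a + b := ⟨_, rfl⟩
  obtain ⟨p, hp⟩ : ∃ p, p = a * b := ⟨_, rfl⟩
  have hc : c = -1 - s := by omega
  have hkey : (8 - s) * (p + s + 9) = 72 := by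
    subst hc hs hp
    linarith
  have hsmod : 4 ∣ s - 2 := by omega
  have habs : |8 - s| ≤ 72 := by
    have hd : (8 - s) ∣ 72 := ⟨_, hkey.symm⟩
    exact Int.le_of_dvd (by norm_num) ((abs_dvd _ _).2 hd)
  rw [abs_le] at habs
  have hdisc : (2 * a - s) * (2 * a - s) = s * s - 4 * p := by rw [hp, hs]; ring
  obtain ⟨x, hx⟩ : ∃ x, x = 2 * a - s := ⟨_, rfl⟩
  rw [← hx] at hdisc
  obtain ⟨k, hk⟩ := hsmod
  have hk1 : -17 ≤ k := by omega
  have hk2 : k ≤ 19 := by omega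
  obtain rfl : s = 4 * k + 2 := by omega
  interval_cases k <;> norm_num at hkey
  all_goals first
    | omega
    | (have hb1' : x ≤ 29 := by nlinarith
       have hb2' : -29 ≤ x := by nlinarith
       interval_cases x <;> omega)

theorem no_triple {a b c : ℤ} {da db dc : ℕ} {xa xb xc : ℂ} (ha : a * a = 1) (hb : b * b = 1)
    (hc : c * c = 1) (hda : 0 < da) (hdb : 0 < db) (hdc : 0 < dc)
    (hma : (4 : ℤ) ∣ a * da - 1) (hmb : (4 : ℤ) ∣ b * db - 1) (hna : da ≠ 1) (hnb : db ≠ 1)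
    (hxa : (a : ℂ) * xa = 1) (hxb : (b : ℂ) * xb = 1)
    (h0 : (1 : ℂ) + a * xa + b * xb + c * xc = 0)
    (h1 : (1 : ℂ) + a * (da : ℂ) + b * (db : ℂ) + c * (dc : ℂ) = 0)
    (h2 : (1 : ℂ) + a * (xa ^ 2 / da) + b * (xb ^ 2 / db) + c * (xc ^ 2 / dc) = 0) : False := by
  have hne : ∀ {z : ℤ}, z * z = 1 → ((z : ℂ) * z = 1) := fun {z} hz => by exact_mod_cast hz
  have hxa' : xa = a := by linear_combination (-xa) * (hne ha) + (a : ℂ) * hxa
  have hxb' : xb = b := by linear_combination (-xb) * (hne hb) + (b : ℂ) * hxb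
  have hxc : (c : ℂ) * xc = -3 := by rw [hxa, hxb] at h0; linear_combination h0
  have hxc' : xc = -3 * c := by linear_combination (-xc) * (hne hc) + (c : ℂ) * hxc
  have e1 : (1 : ℤ) + a * da + b * db + c * dc = 0 := by exact_mod_cast h1
  have hA : (da : ℂ) ≠ 0 := Nat.cast_ne_zero.2 hda.ne'
  have hB : (db : ℂ) ≠ 0 := Nat.cast_ne_zero.2 hdb.ne'
  have hC : (dc : ℂ) ≠ 0 := Nat.cast_ne_zero.2 hdc.ne'
  have e2c : ((a * da : ℂ) * (b * db) * (c * dc) + (b * db) * (c * dc) + (a * da) * (c * dc) +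
      9 * ((a * da) * (b * db))) = 0 := by
    have h3 : (da : ℂ) * db * dc + a * db * dc + b * da * dc + 9 * c * da * db = 0 := by
      rw [hxa', hxb', hxc'] at h2
      field_simp at h2
      have hcast : (c : ℂ) * c = 1 := hne hc
      have haa : (a : ℂ) * a = 1 := hne ha
      have hbb : (b : ℂ) * b = 1 := hne hb
      linear_combination h2 - (a : ℂ) * db * dc * haa - (b : ℂ) * da * dc * hbb -
        9 * (c : ℂ) * da * db * hcast
    linear_combination (a : ℂ) * b * c * h3 - (b : ℂ) * c * db * dc * hne ha -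
      (a : ℂ) * c * da * dc * hne hb - 9 * (a : ℂ) * b * da * db * hne hc
  have e2 : (a * da) * (b * db) * (c * dc) + (b * db) * (c * dc) + (a * da) * (c * dc) +
      9 * ((a * da) * (b * db)) = 0 := by exact_mod_cast e2c
  have hu : ∀ {z : ℤ} {d : ℕ}, z * z = 1 → d ≠ 1 → z * d ≠ 1 := fun {z d} hz hd h => by
    rcases mul_self_eq_one_iff.1 hz with e | e <;> subst e
    · exact hd (by exact_mod_cast (one_mul (d : ℤ)).symm.trans h)
    · omega
  exact arith hma hmb (hu ha hna) (hu hb hnb) e1 e2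

theorem apply_one_ne_one {T : Type u} [Group T] [Finite T] (hmin : CycSyl43.Min T)
    (χ : Cfsg.IrrCharacter T) (hχ : (χ : T → ℂ) ≠ fun _ => 1) : (χ : T → ℂ) 1 ≠ 1 := by
  intro h1
  obtain ⟨lam, hlam⟩ :=
    CharBasicLinear.exists_hom_of_apply_one_eq_one (isCharacter_of_isIrrCharacter χ.2) h1
  haveI := hmin.simple
  rcases (inferInstance : lam.ker.Normal).eq_bot_or_eq_top with e | e
  · obtain ⟨a, b, hab⟩ := hmin.nc
    exact hab ((MonoidHom.ker_eq_bot_iff lam).1 e (by rw [map_mul, map_mul, mul_comm]))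
  · refine hχ (hlam.trans (funext fun g => ?_))
    rw [show lam g = 1 from MonoidHom.mem_ker.1 (e ▸ Subgroup.mem_top g), Units.val_one]

theorem section_hyp {T : Type u} [Group T] [Finite T] {S : Sylow 2 T} {t : T} {O : Subgroup T}
    (hd : Dih S t O) (hexp : ∀ s ∈ (S : Subgroup T), s * s = 1) {M : Ideal Cfsg.AlgInt}
    (hM : Cfsg.IsPModular 2 M) (χ : Cfsg.IrrCharacter ↥(Cent t))
    (hχ : ∀ y : Cent t, (y : T) ∈ O → (χ : Cent t → ℂ) y = (χ : Cent t → ℂ) 1) :
    χ ∈ Cfsg.principalBlock M ↥(Cent t) := by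
  classical
  have : Fact (Nat.Prime 2) := ⟨Nat.prime_two⟩
  set O' : Subgroup (Cent t) := O.subgroupOf (Cent t) with hO'
  have hN : O'.Normal := ⟨fun a ha g => hd.normal g g.2 a ha⟩
  have hsq : ∀ c : Cent t, c * c ∈ O' := by
    intro c
    obtain ⟨z, hz, s, hs, hcz⟩ := hd.cent c c.2
    show (c : T) * c ∈ O
    rw [hcz, show z * s * (z * s) = z * (s * z * s⁻¹) * (s * s) by group, hexp s hs, mul_one]
    exact mul_mem hz (hd.normal s (mem_Cent.2 (hd.central s hs)) z hz)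
  have hoddO' : Odd (Nat.card O') :=
    (Nat.card_congr (Subgroup.subgroupOfEquivOfLe hd.le).toEquiv).symm ▸ hd.odd
  obtain ⟨k, hk⟩ : ∃ k : ℕ, O'.index = 2 ^ k := by
    have hpg : IsPGroup 2 (Cent t ⧸ O') := fun q => ⟨1, by
      induction q using QuotientGroup.induction_on with
      | H c => rw [pow_one, pow_two, ← QuotientGroup.mk_mul, QuotientGroup.eq_one_iff]; exact hsq c⟩
    exact hpg.exists_card_eq
  have hps : Cfsg.IsPSolvable 2 (Cent t) := by
    refine ⟨2, ![⊥, O', ⊤], rfl, rfl, ?_, ?_, ?_⟩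
    · refine Fin.monotone_iff_le_succ.2 fun i => ?_
      fin_cases i <;> simp
    · intro i
      fin_cases i
      · exact (inferInstance : (⊥ : Subgroup (Cent t)).Normal)
      · exact hN
      · exact (inferInstance : (⊤ : Subgroup (Cent t)).Normal)
    · intro i
      fin_cases i
      · right
        show ((⊥ : Subgroup (Cent t)).relIndex O').Coprime 2
        rw [Subgroup.relIndex_bot_left]
        exact Nat.coprime_two_right.2 hoddO'
      · left
        refine ⟨k, ?_⟩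
        show O'.relIndex ⊤ = 2 ^ k
        rw [Subgroup.relIndex_top_right, hk]
  refine (PrincipalQuot80.mem_principal_iff_of_pSolvable hM hps χ).2 fun x hx => hχ x ?_
  have hodd : Odd (orderOf x) := by
    refine (Nat.coprime_two_right.1 ((HallCore.coprime_card_pPrimeCore 2 (Cent t)))).of_dvd_nat ?_
    rw [← orderOf_mk x hx]
    exact orderOf_dvd_natCard _
  obtain ⟨j, hj⟩ := hodd
  have : x = (x * x) ^ (j + 1) := by
    rw [← pow_two, ← pow_mul, show 2 * (j + 1) = orderOf x + 1 by omega, pow_succ,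
      pow_orderOf_eq_one, one_mul]
  rw [this]
  exact pow_mem (hsq x) _

/-- PIECE K. -/
theorem klein_no_fixed (hP : SectionSum.{u}) : KleinNoFixed.{u} := by
  intro T _ _ hmin S t O hd h4 y₀ hy₀ hfix
  by_contra hne
  obtain ⟨y, h, r, hc, hexp⟩ := exists_cfg hmin S t O hd h4 hy₀ hfix hne
  obtain ⟨lam, hlam⟩ := exists_lam hmin.hodd hc.prime hc.ne2 hc.oy
  classical
  haveI : Fintype T := Fintype.ofFinite T
  haveI : Fintype O := Fintype.ofFinite O
  obtain ⟨M, hM⟩ := ZStarCount.exists_isPModular 2 Nat.prime_two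
  set Γ := indFun (Cent y) (baseFun lam) with hΓdef
  haveI : Fintype (Cent y) := Fintype.ofFinite _
  have hgen : Cfsg.IsGeneralizedCharacter T Γ :=
    isGenChar_ind _ ⟨fun _ => 1, fun x => (lam x : ℂ), CharBasicDecomp.isCharacter_one,
      isCharacter_linear lam, rfl⟩
  have hclass := isClassFunction_ind (Cent y) (baseFun lam)
  obtain ⟨h1inner, hnorm⟩ := inner_one_and_norm hc hmin.hodd hlam
  rw [← hΓdef] at h1inner hnorm hclass
  have hone : Γ 1 = 0 := ind_eq_zero hlam (by rw [orderOf_one]; exact hc.prime.not_dvd_one)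
  have ht0 : Γ t = 0 := ind_eq_zero hlam (by
    rw [hd.ot]; exact fun e => hc.ne2 ((Nat.prime_dvd_prime_iff_eq hc.prime Nat.prime_two).1 e))
  obtain ⟨m, hm, hexpand⟩ := exists_int_coeff hgen
  -- the section
  have hsec := hP T M hM t O ⟨1, by rw [hd.ot, pow_one]⟩ hd.le
    ⟨fun a ha g => hd.normal g g.2 a ha⟩ hd.odd (fun χ hχ => section_hyp hd hexp hM χ hχ) Γ hclass
  have hOsum : ∑ᶠ z ∈ (O : Set T), Γ (t * z) = 3 * (Nat.card O : ℂ) := by
    rw [← finsum_set_coe_eq_finsum_mem, finsum_eq_sum_of_fintype]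
    exact sum_O hc hmin.hodd hlam hd.ot hd.mem hd.le
  rw [hOsum, mul_comm (3 : ℂ), ← mul_assoc,
    inv_mul_cancel₀ (Nat.cast_ne_zero.2 Nat.card_pos.ne'), one_mul] at hsec
  -- the principal block
  obtain ⟨z₂, z₃, z₄, ε, hε, hz₂, hz₃, h23, h24, h34, hB, hval, hd₂, hd₃, hd₄, -⟩ :=
    KleinFourBlock79.main (G := T) (P := S) hM h4 (fun x => Subtype.ext (hexp x x.2)) hd.mem hd.ot
      hd.fusion
  obtain ⟨hv₂, hv₃, hv₄⟩ := hval t hd.ot
  set one := trivIrr T with honedef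
  have h12 : one ≠ z₂ := fun e => hz₂ (by rw [← e]; rfl)
  have h13 : one ≠ z₃ := fun e => hz₃ (by rw [← e]; rfl)
  have h14 : one ≠ z₄ := fun e => by
    rw [← e] at hv₄
    change (1 : ℂ) = -1 at hv₄
    norm_num at hv₄
  set B4 : Finset (Cfsg.IrrCharacter T) := {one, z₂, z₃, z₄} with hB4
  have hsum4 : ∀ {R : Type} [AddCommMonoid R] (F : Cfsg.IrrCharacter T → R),
      ∑ χ ∈ B4, F χ = F one + (F z₂ + (F z₃ + F z₄)) := by
    intro R _ F
    rw [hB4, Finset.sum_insert (by simp [h12, h13, h14]), Finset.sum_insert (by simp [h23, h24]),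
      Finset.sum_insert (by simp [h34]), Finset.sum_singleton]
  have hBset : Cfsg.principalBlock M T = (B4 : Set (Cfsg.IrrCharacter T)) := by
    rw [hB]
    ext χ
    simp only [hB4, Finset.coe_insert, Finset.coe_singleton, Set.mem_insert_iff,
      Set.mem_singleton_iff, Set.mem_ofPred_eq]
    constructor <;> rintro (e | e | e | e)
    · exact Or.inl (Subtype.ext e)
    all_goals first
      | exact Or.inr (Or.inl e)
      | exact Or.inr (Or.inr (Or.inl e))
      | exact Or.inr (Or.inr (Or.inr e))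
      | exact Or.inl (congrArg Subtype.val e)
  have hm1 : m one = 1 := by
    have := hm one
    rw [show ((one : Cfsg.IrrCharacter T) : T → ℂ) = fun _ => 1 from rfl, h1inner] at this
    exact_mod_cast this.symm
  have hblock : 1 + (m z₂ : ℂ) + (m z₃ : ℂ) * (ε : ℂ) - (m z₄ : ℂ) = 3 := by
    rw [hBset, finsum_mem_coe_finset, hsum4] at hsec
    simp only [hm, hm1, hv₂, hv₃, hv₄] at hsec
    rw [show ((one : Cfsg.IrrCharacter T) : T → ℂ) t = 1 from rfl] at hsec
    rw [← hsec]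
    push_cast
    ring
  have hblock' : 1 + m z₂ + m z₃ * ε - m z₄ = 3 := by exact_mod_cast hblock
  have hsq : ∑ χ, m χ * m χ = 4 := by
    have h3 := classInner_eq_sum (φ := Γ) hclass
    simp only [hnorm, hm, map_intCast] at h3
    exact_mod_cast h3.symm
  rw [← Finset.sum_sdiff (Finset.subset_univ B4), hsum4, hm1] at hsq
  have hrest0 : 0 ≤ ∑ χ ∈ Finset.univ \ B4, m χ * m χ :=
    Finset.sum_nonneg fun χ _ => mul_self_nonneg _
  obtain ⟨hrest, hcases⟩ : ∑ χ ∈ Finset.univ \ B4, m χ * m χ = 1 ∧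
      ((m z₂ = 0 ∧ m z₃ * ε = 1 ∧ m z₄ = -1) ∨ (m z₂ = 1 ∧ m z₃ = 0 ∧ m z₄ = -1) ∨
        (m z₂ = 1 ∧ m z₃ * ε = 1 ∧ m z₄ = 0)) := by
    generalize ∑ χ ∈ Finset.univ \ B4, m χ * m χ = R at hsq hrest0 ⊢
    generalize m z₂ = a at hsq hblock' ⊢
    generalize m z₃ = b at hsq hblock' ⊢
    generalize m z₄ = c at hsq hblock' ⊢
    have ha : -1 ≤ a ∧ a ≤ 1 := ⟨by nlinarith [mul_self_nonneg b, mul_self_nonneg c],
      by nlinarith [mul_self_nonneg b, mul_self_nonneg c]⟩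
    have hb : -1 ≤ b ∧ b ≤ 1 := ⟨by nlinarith [mul_self_nonneg a, mul_self_nonneg c],
      by nlinarith [mul_self_nonneg a, mul_self_nonneg c]⟩
    have hc' : -1 ≤ c ∧ c ≤ 1 := ⟨by nlinarith [mul_self_nonneg b, mul_self_nonneg a],
      by nlinarith [mul_self_nonneg b, mul_self_nonneg a]⟩
    obtain ⟨ha1, ha2⟩ := ha
    obtain ⟨hb1, hb2⟩ := hb
    obtain ⟨hc1, hc2⟩ := hc'
    rcases hε with rfl | rfl <;> interval_cases a <;> interval_cases b <;> interval_cases c <;>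
      omega
  obtain ⟨γ, hγ, hγne⟩ := Finset.exists_ne_zero_of_sum_ne_zero (by rw [hrest]; exact one_ne_zero)
  have hγle : ∀ χ ∈ Finset.univ \ B4, χ ≠ γ → m χ = 0 := by
    intro χ hχ hne
    by_contra hm0
    have h4' : ∑ x ∈ ({χ, γ} : Finset _), m x * m x ≤ ∑ x ∈ Finset.univ \ B4, m x * m x :=
      Finset.sum_le_sum_of_subset_of_nonneg (Finset.insert_subset hχ
        (Finset.singleton_subset_iff.2 hγ)) (fun x _ _ => mul_self_nonneg _)
    rw [Finset.sum_pair hne, hrest] at h4'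
    have h5 : 0 < m χ * m χ := mul_self_pos.2 hm0
    have h6 : 0 < m γ * m γ := lt_of_le_of_ne (mul_self_nonneg _) (Ne.symm hγne)
    omega
  have hγ1 : m γ * m γ = 1 := by
    rwa [Finset.sum_eq_single γ (fun χ hχ hne => by rw [hγle χ hχ hne, mul_zero])
      (fun e => absurd hγ e)] at hrest
  have key : ∀ F : Cfsg.IrrCharacter T → ℂ, ∑ χ, (m χ : ℂ) * F χ =
      F one + (m z₂ : ℂ) * F z₂ + (m z₃ : ℂ) * F z₃ + (m z₄ : ℂ) * F z₄ + (m γ : ℂ) * F γ := by
    intro F
    rw [← Finset.sum_sdiff (Finset.subset_univ B4), hsum4, hm1,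
      Finset.sum_eq_single γ (fun χ hχ hne => by rw [hγle χ hχ hne, Int.cast_zero, zero_mul])
        (fun e => absurd hγ e)]
    push_cast
    ring
  have hat : ∀ g : T, Γ g = ∑ χ, (m χ : ℂ) * (χ : T → ℂ) g := fun g => by
    conv_lhs => rw [hexpand]
    rw [Finset.sum_apply]
    rfl
  have E1 := (key fun χ => (χ : T → ℂ) 1).symm.trans ((hat 1).symm.trans hone)
  have Et := (key fun χ => (χ : T → ℂ) t).symm.trans ((hat t).symm.trans ht0)
  have Ep : ∑ χ, (m χ : ℂ) * ((χ : T → ℂ) t ^ 2 / (χ : T → ℂ) 1) = 0 := by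
    set I := Finset.univ.filter fun u : T => orderOf u = 2 with hI
    have hN : (I.card : ℂ) ≠ 0 := Nat.cast_ne_zero.2
      (Finset.card_pos.2 ⟨t, Finset.mem_filter.2 ⟨Finset.mem_univ t, hd.ot⟩⟩).ne'
    have hzero : ∑ u ∈ I, ∑ w ∈ I, Γ (u * w) = 0 :=
      Finset.sum_eq_zero fun u hu => Finset.sum_eq_zero fun w hw =>
        ind_involution_pair hc hmin.hodd hlam (Finset.mem_filter.1 hu).2 (Finset.mem_filter.1 hw).2
    have hexp2 : ∑ u ∈ I, ∑ w ∈ I, Γ (u * w) =
        ∑ χ : Cfsg.IrrCharacter T, (m χ : ℂ) * (∑ u ∈ I, ∑ w ∈ I, (χ : T → ℂ) (u * w)) := by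
      simp only [hat, Finset.mul_sum]
      rw [Finset.sum_congr rfl fun u _ => Finset.sum_comm, Finset.sum_comm]
    rw [hexp2] at hzero
    have : (I.card : ℂ) ^ 2 * ∑ χ : Cfsg.IrrCharacter T,
        (m χ : ℂ) * ((χ : T → ℂ) t ^ 2 / (χ : T → ℂ) 1) = 0 := by
      rw [Finset.mul_sum]
      refine Eq.trans (Finset.sum_congr rfl fun χ _ => ?_) hzero
      rw [FourExceptional.sum_involution_pairs hd.fusion hd.ot χ]
      ring
    exact (mul_eq_zero.1 this).resolve_left (pow_ne_zero 2 hN)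
  rw [key] at Ep
  rw [show ((one : Cfsg.IrrCharacter T) : T → ℂ) 1 = 1 from rfl] at E1 Ep
  rw [show ((one : Cfsg.IrrCharacter T) : T → ℂ) t = 1 from rfl] at Et Ep
  simp only [CharAverage.irr_apply_one z₂, CharAverage.irr_apply_one z₃,
    CharAverage.irr_apply_one z₄, CharAverage.irr_apply_one γ, one_pow, div_one] at E1 Ep
  have hdeg : ∀ χ : Cfsg.IrrCharacter T, χ ≠ one → Cfsg.charDegree (χ : T → ℂ) ≠ 1 := by
    intro χ hχ e
    refine apply_one_ne_one hmin χ (fun e' => hχ (Subtype.ext e')) ?_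
    rw [CharAverage.irr_apply_one χ, e, Nat.cast_one]
  have hpos := CharAverage.irr_degree_pos (G := T)
  have hεc : (ε : ℂ) * ε = 1 := by rcases hε with rfl | rfl <;> norm_num
  have hb_of : m z₃ * ε = 1 → m z₃ = ε := fun e => by
    rcases hε with rfl | rfl <;> omega
  have hε2 : ε * ε = 1 := by rcases hε with rfl | rfl <;> norm_num
  have hmod3 : (4 : ℤ) ∣ ε * (Cfsg.charDegree (z₃ : T → ℂ) : ℤ) - 1 := by
    rcases hε with rfl | rfl <;> omega
  rcases hcases with ⟨h2, h3, h4'⟩ | ⟨h2, h3, h4'⟩ | ⟨h2, h3, h4'⟩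
  · rw [hb_of h3] at E1 Et Ep
    rw [h2, h4'] at E1 Et Ep
    refine no_triple (a := ε) (b := -1) (c := m γ) (xa := (z₃ : T → ℂ) t)
      (xb := (z₄ : T → ℂ) t) (xc := (γ : T → ℂ) t) hε2 (by norm_num) hγ1
      (hpos z₃) (hpos z₄) (hpos γ) hmod3 (by omega) (hdeg _ h13.symm) (hdeg _ h14.symm)
      (by rw [hv₃, hεc]) (by rw [hv₄]; norm_num) ?_ ?_ ?_
    · rw [← Et]; push_cast; ring
    · rw [← E1]; push_cast; ring
    · rw [← Ep]; push_cast; ring
  · rw [h2, h3, h4'] at E1 Et Ep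
    refine no_triple (a := 1) (b := -1) (c := m γ) (xa := (z₂ : T → ℂ) t)
      (xb := (z₄ : T → ℂ) t) (xc := (γ : T → ℂ) t) (by norm_num) (by norm_num) hγ1
      (hpos z₂) (hpos z₄) (hpos γ) (by omega) (by omega) (hdeg _ h12.symm) (hdeg _ h14.symm)
      (by rw [hv₂]; norm_num) (by rw [hv₄]; norm_num) ?_ ?_ ?_
    · rw [← Et]; push_cast; ring
    · rw [← E1]; push_cast; ring
    · rw [← Ep]; push_cast; ring
  · rw [hb_of h3] at E1 Et Ep
    rw [h2, h4'] at E1 Et Ep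
    refine no_triple (a := 1) (b := ε) (c := m γ) (xa := (z₂ : T → ℂ) t)
      (xb := (z₃ : T → ℂ) t) (xc := (γ : T → ℂ) t) (by norm_num) hε2 hγ1
      (hpos z₂) (hpos z₃) (hpos γ) (by omega) hmod3 (hdeg _ h12.symm) (hdeg _ h13.symm)
      (by rw [hv₂]; norm_num) (by rw [hv₃, hεc]) ?_ ?_ ?_
    · rw [← Et]; push_cast; ring
    · rw [← E1]; push_cast; ring
    · rw [← Ep]; push_cast; ring

end Cfsg.Agent.CycSyl43Klein
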