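import Mathlib
import Cfsg.Agent.Lib.CycSyl43Defs
import Cfsg.Agent.Lib.FrobeniusOrderConj

/-!
The odd core `O` of the centraliser of `t` in a dihedral configuration: it is cyclic, every element
of the Sylow 2-subgroup `S` fixes or inverts each element of prime power order, and `S` fixes
nothing in it.
-/

set_option autoImplicit false

namespace Cfsg.Agent.CycSyl43OStruct

open scoped Pointwise

open Cfsg.Agent.CycSyl43

universe u

/-- An element of order prime to `p` normalising a cyclic `p`-group and centralising its subgroup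
of order `p` centralises it. -/
theorem commute_of_commute_prime {T : Type u} [Group T] [Finite T] {p : ℕ} (hp : p.Prime)
    {x m : T} {v : ℕ} (hx : orderOf x = p ^ (v + 1)) (hm : (orderOf m).Coprime p)
    (hn : m * x * m⁻¹ ∈ Subgroup.zpowers x) (hy : m * x ^ p ^ v * m⁻¹ = x ^ p ^ v) :
    m * x * m⁻¹ = x := by
  obtain ⟨a, ha⟩ := Subgroup.mem_zpowers_iff.1 hn
  have hpow : ∀ j : ℕ, m ^ j * x * (m ^ j)⁻¹ = x ^ a ^ j := by
    intro j
    induction j with
    | zero => simp
    | succ j ih =>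
      calc m ^ (j + 1) * x * (m ^ (j + 1))⁻¹ = m * (m ^ j * x * (m ^ j)⁻¹) * m⁻¹ := by
            rw [pow_succ']; group
        _ = (m * x * m⁻¹) ^ a ^ j := by rw [ih, conj_zpow]
        _ = x ^ a ^ (j + 1) := by rw [← ha, ← zpow_mul, pow_succ']
  have hdvd : (p : ℤ) ∣ a - 1 := by
    have h1 : x ^ ((p ^ v : ℕ) * a : ℤ) = x ^ ((p ^ v : ℕ) : ℤ) := by
      rw [mul_comm, zpow_mul, ha, zpow_natCast, zpow_natCast, conj_pow, hy]
    rw [zpow_eq_zpow_iff_modEq, hx, Int.modEq_iff_dvd] at h1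
    have h2 : ((p : ℤ) ^ v) * (p : ℤ) ∣ (p : ℤ) ^ v * (1 - a) := by
      push_cast at h1
      convert h1 using 1 <;> ring
    have h3 := (mul_dvd_mul_iff_left (pow_ne_zero v (by exact_mod_cast hp.ne_zero))).1 h2
    exact dvd_sub_comm.1 h3
  have hfix : m ^ p ^ v * x * (m ^ p ^ v)⁻¹ = x := by
    have h4 := dvd_sub_pow_of_dvd_sub (R := ℤ) hdvd v
    rw [one_pow] at h4
    rw [hpow]
    nth_rw 2 [← zpow_one x]
    rw [zpow_eq_zpow_iff_modEq, hx, Int.modEq_iff_dvd]
    push_cast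
    exact dvd_sub_comm.1 h4
  have hmem : m ^ p ^ v ∈ Subgroup.centralizer ({x} : Set T) :=
    Subgroup.mem_centralizer_singleton_iff.2 (mul_inv_eq_iff_eq_mul.1 hfix)
  obtain ⟨j, hj⟩ := exists_pow_eq_self_of_coprime (x := m) (hm.pow_right v).symm
  have := Subgroup.pow_mem _ hmem j
  rw [hj] at this
  exact mul_inv_eq_iff_eq_mul.2 (Subgroup.mem_centralizer_singleton_iff.1 this)

/-- Two automorphisms of a cyclic group commute. -/
theorem commutator_fixes {T : Type u} [Group T] [Finite T] {x a b : T}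
    (ha : a * x * a⁻¹ ∈ Subgroup.zpowers x) (hb : b * x * b⁻¹ ∈ Subgroup.zpowers x) :
    a * (b * x * b⁻¹) * a⁻¹ = b * (a * x * a⁻¹) * b⁻¹ := by
  obtain ⟨i, hi⟩ := Subgroup.mem_zpowers_iff.1 ha
  obtain ⟨j, hj⟩ := Subgroup.mem_zpowers_iff.1 hb
  rw [← hj, ← hi, ← conj_zpow, ← conj_zpow, ← hi, ← hj, ← zpow_mul, ← zpow_mul, mul_comm]

/-- What is used about a dihedral group. -/
theorem central_unique {k : ℕ} (hk : 2 ≤ k) {z : DihedralGroup (2 ^ k)}
    (hz : ∀ w, z * w = w * z) (hz2 : orderOf z = 2) :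
    z = DihedralGroup.r ((2 ^ (k - 1) : ℕ) : ZMod (2 ^ k)) := by
  have h4 : 4 ≤ 2 ^ k := by
    calc 4 = 2 ^ 2 := by norm_num
      _ ≤ 2 ^ k := Nat.pow_le_pow_right two_pos hk
  have : NeZero (2 ^ k) := ⟨by omega⟩
  rcases z with i | i
  · have h2 : i + i = 0 := by
      have h := pow_orderOf_eq_one (DihedralGroup.r i)
      rw [hz2, sq, DihedralGroup.r_mul_r, DihedralGroup.one_def, DihedralGroup.r.injEq] at h
      exact h
    have hi0 : i ≠ 0 := by
      rintro rfl
      rw [DihedralGroup.r_zero, orderOf_one] at hz2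
      omega
    have hval : i.val ≠ 0 := fun h => hi0 ((ZMod.val_eq_zero i).1 h)
    have hlt := ZMod.val_lt i
    have hd : 2 ^ k ∣ i.val + i.val := by
      rw [← ZMod.natCast_eq_zero_iff, Nat.cast_add, ZMod.natCast_zmod_val, h2]
    obtain ⟨c, hc⟩ := hd
    have hk' : 2 ^ k = 2 * 2 ^ (k - 1) := by
      rw [← pow_succ', Nat.sub_add_cancel (by omega)]
    have : c = 1 := by
      rcases c with _ | _ | c
      · omega
      · rfl
      · nlinarith
    subst this
    congr 1
    rw [← ZMod.natCast_zmod_val i]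
    congr 1
    omega
  · exfalso
    have h := hz (DihedralGroup.r 1)
    rw [DihedralGroup.sr_mul_r, DihedralGroup.r_mul_sr, DihedralGroup.sr.injEq] at h
    have h2z : ((2 : ℕ) : ZMod (2 ^ k)) = 0 := by
      push_cast
      linear_combination h
    have := Nat.le_of_dvd two_pos ((ZMod.natCast_eq_zero_iff 2 (2 ^ k)).1 h2z)
    omega

variable {T : Type u} [Group T] [Finite T] {S : Sylow 2 T} {t : T} {O : Subgroup T}

/-- `N(S) ≤ C(t)` when `|S| ≥ 8`. -/
theorem normalizer_le (hd : Dih S t O) (h4 : Nat.card (S : Subgroup T) ≠ 4) {n : T}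
    (hn : n ∈ Subgroup.normalizer ((S : Subgroup T) : Set T)) :
    n ∈ Subgroup.centralizer ({t} : Set T) := by
  obtain ⟨k, hk, ⟨e⟩⟩ := hd.iso
  have hk2 : 2 ≤ k := by
    rcases eq_or_lt_of_le hk with h | h
    · exfalso
      apply h4
      rw [Nat.card_congr e.toEquiv, DihedralGroup.nat_card, ← h]
      rfl
    · exact h
  have key : ∀ z : T, ∀ hz : z ∈ (S : Subgroup T), (∀ s ∈ (S : Subgroup T), z * s = s * z) →
      orderOf z = 2 → e ⟨z, hz⟩ = DihedralGroup.r ((2 ^ (k - 1) : ℕ) : ZMod (2 ^ k)) := by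
    intro z hz hc h2
    refine central_unique hk2 (fun w => ?_) ?_
    · obtain ⟨w, rfl⟩ := e.surjective w
      rw [← map_mul, ← map_mul]
      exact congrArg e (Subtype.ext (hc w w.2))
    · rw [MulEquiv.orderOf_eq, ← Subgroup.orderOf_coe, h2]
  have hm : ∀ s, s ∈ (S : Subgroup T) ↔ n * s * n⁻¹ ∈ (S : Subgroup T) :=
    Subgroup.mem_normalizer_iff.1 hn
  have htn : n * t * n⁻¹ ∈ (S : Subgroup T) := (hm t).1 hd.mem
  have hcn : ∀ s ∈ (S : Subgroup T), n * t * n⁻¹ * s = s * (n * t * n⁻¹) := fun s hs => by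
    have h1 : n⁻¹ * s * n ∈ (S : Subgroup T) := (hm _).2 (by simpa [mul_assoc] using hs)
    calc n * t * n⁻¹ * s = n * (t * (n⁻¹ * s * n)) * n⁻¹ := by group
      _ = n * ((n⁻¹ * s * n) * t) * n⁻¹ := by rw [hd.central _ h1]
      _ = _ := by group
  have ho : orderOf (n * t * n⁻¹) = 2 := by
    rw [← hd.ot]
    exact (MulAut.conj n).orderOf_eq t
  have h := e.injective ((key _ htn hcn ho).trans
    (key t hd.mem (fun s hs => (hd.central s hs).symm) hd.ot).symm)
  exact Subgroup.mem_centralizer_singleton_iff.2 (mul_inv_eq_iff_eq_mul.1 (congrArg Subtype.val h))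

/-- `S` normalises `O`. -/
theorem conj_mem (hd : Dih S t O) {s : T} (hs : s ∈ (S : Subgroup T)) {y : T} (hy : y ∈ O) :
    s * y * s⁻¹ ∈ O :=
  hd.normal s (Subgroup.mem_centralizer_singleton_iff.2 (hd.central s hs)) y hy

/-- Burnside: a nontrivial cyclic Sylow subgroup of a simple group is not centralised by its
normaliser. -/
theorem false_of_normalizer_le (hT : CycSyl43.Min T) {r : ℕ} [Fact r.Prime] (P : Sylow r T)
    (hP : (P : Subgroup T) ≠ ⊥) (h2 : r ≠ 2)
    (h : Subgroup.normalizer ((P : Subgroup T) : Set T) ≤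
      Subgroup.centralizer ((P : Subgroup T) : Set T)) (h2T : 2 ∣ Nat.card T) : False := by
  have := hT.simple
  rcases (inferInstance : ((MonoidHom.transferSylow P h).ker).Normal).eq_bot_or_eq_top with hK | hK
  · have hi := (MonoidHom.ker_transferSylow_isComplement' P h).card_mul_card
    rw [hK, Subgroup.card_bot, one_mul] at hi
    obtain ⟨j, hj⟩ := P.2.exists_card_eq
    rw [← hi, hj] at h2T
    exact h2 ((Nat.prime_dvd_prime_iff_eq Nat.prime_two Fact.out).1
      (Nat.prime_two.dvd_of_dvd_pow h2T)).symm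
  · have hd := MonoidHom.ker_transferSylow_disjoint P h (P : Subgroup T) P.2
    rw [hK, top_disjoint] at hd
    exact hP hd

/-- Nothing in `O` is fixed by `S`. -/
theorem fixed_eq_one (hK : KleinNoFixed.{u}) (hT : CycSyl43.Min T) (hd : Dih S t O) {y : T}
    (hy : y ∈ O) (hs : ∀ s ∈ (S : Subgroup T), s * y = y * s) : y = 1 := by
  classical
  by_cases h4 : Nat.card (S : Subgroup T) = 4
  · exact hK T hT S t O hd h4 y hy hs
  by_contra hy1
  set F : Subgroup T := O ⊓ Subgroup.centralizer ((S : Subgroup T) : Set T) with hF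
  have hyF : y ∈ F := ⟨hy, fun s hsS => hs s hsS⟩
  have hF1 : Nat.card F ≠ 1 := fun h => hy1 (by
    simpa [Subgroup.eq_bot_of_card_eq F h] using hyF)
  set r := (Nat.card F).minFac with hr
  have hrp : r.Prime := Nat.minFac_prime hF1
  have := Fact.mk hrp
  have hrodd : r ≠ 2 := fun h => by
    have hF2 : 2 ∣ Nat.card F := by
      rw [← h, hr]
      exact Nat.minFac_dvd _
    have hdvd : 2 ∣ Nat.card O := hF2.trans (Subgroup.card_dvd_of_le inf_le_left)
    exact (Nat.not_even_iff_odd.2 hd.odd) (even_iff_two_dvd.2 hdvd)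
  obtain ⟨w0, hw0⟩ := exists_prime_orderOf_dvd_card' r (Nat.minFac_dvd (Nat.card F))
  set w : T := (w0 : T) with hw
  have hwr : orderOf w = r := by rw [hw, Subgroup.orderOf_coe, hw0]
  set Y : Subgroup T := Subgroup.zpowers w with hY
  have hwS : ∀ s ∈ (S : Subgroup T), s * w = w * s := fun s hsS => w0.2.2 s hsS
  have hNF : ∀ n ∈ F, n * w * n⁻¹ ∈ Y → n * w * n⁻¹ = w := by
    intro n hn hnw
    obtain ⟨a, ha⟩ := Subgroup.mem_zpowers_iff.1 hnw
    have hpow : ∀ j : ℕ, n ^ j * w * (n ^ j)⁻¹ = w ^ a ^ j := by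
      intro j
      induction j with
      | zero => simp
      | succ j ih =>
        calc n ^ (j + 1) * w * (n ^ (j + 1))⁻¹ = n * (n ^ j * w * (n ^ j)⁻¹) * n⁻¹ := by
              rw [pow_succ']; group
          _ = (n * w * n⁻¹) ^ a ^ j := by rw [ih, conj_zpow]
          _ = w ^ a ^ (j + 1) := by rw [← ha, ← zpow_mul, pow_succ']
    have ha0 : (a : ZMod r) ≠ 0 := fun h0 => by
      have hdv := (ZMod.intCast_zmod_eq_zero_iff_dvd a r).1 h0
      have : w ^ a = 1 := orderOf_dvd_iff_zpow_eq_one.1 (by rw [hwr]; exact hdv)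
      rw [this] at ha
      have hw1 : w = 1 := conj_eq_one_iff.1 ha.symm
      rw [hw1, orderOf_one] at hwr
      exact hrp.one_lt.ne hwr
    have hfer : n ^ (r - 1) * w * (n ^ (r - 1))⁻¹ = w := by
      rw [hpow]
      nth_rw 2 [← zpow_one w]
      rw [zpow_eq_zpow_iff_modEq, hwr, ← ZMod.intCast_eq_intCast_iff, Int.cast_pow, Int.cast_one]
      exact ZMod.pow_card_sub_one_eq_one ha0
    have hco : (r - 1).Coprime (orderOf n) := by
      refine Nat.coprime_of_dvd fun q hq h1 h2 => ?_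
      have hqF : q ∣ Nat.card F := h2.trans (Subgroup.orderOf_dvd_natCard F hn)
      have h3 := Nat.minFac_le_of_dvd hq.two_le hqF
      have h4' : q ≤ r - 1 := Nat.le_of_dvd (Nat.sub_pos_of_lt hrp.one_lt) h1
      have h5' : r ≤ q := by rw [hr]; exact h3
      have := hrp.one_lt
      omega
    have hmem : n ^ (r - 1) ∈ Subgroup.centralizer ({w} : Set T) :=
      Subgroup.mem_centralizer_singleton_iff.2 (mul_inv_eq_iff_eq_mul.1 hfer)
    obtain ⟨j, hj⟩ := exists_pow_eq_self_of_coprime hco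
    have h5 := Subgroup.pow_mem _ hmem j
    rw [hj] at h5
    exact mul_inv_eq_iff_eq_mul.2 (Subgroup.mem_centralizer_singleton_iff.1 h5)
  set C : Subgroup T := Subgroup.centralizer ({w} : Set T) with hC
  have hSC : (S : Subgroup T) ≤ C := fun s hsS =>
    Subgroup.mem_centralizer_singleton_iff.2 (hwS s hsS)
  have hwC : ∀ c ∈ C, c * w * c⁻¹ = w := fun c hc =>
    mul_inv_eq_iff_eq_mul.2 (Subgroup.mem_centralizer_singleton_iff.1 hc)
  have hNC : ∀ n : T, n * w * n⁻¹ ∈ Y → n * w * n⁻¹ = w := by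
    intro n hn
    have hnY : Subgroup.zpowers (n * w * n⁻¹) = Y := by
      refine Subgroup.eq_of_le_of_card_ge (Subgroup.zpowers_le.2 hn) ?_
      rw [hY, Nat.card_zpowers, Nat.card_zpowers]
      exact ((MulAut.conj n).orderOf_eq w).ge
    have hwY' : w ∈ Subgroup.zpowers (n * w * n⁻¹) := hnY ▸ Subgroup.mem_zpowers w
    have hle : ((n • S : Sylow 2 T) : Subgroup T) ≤ C := by
      rw [Sylow.coe_subgroup_smul]
      intro x hx
      obtain ⟨s, hsS, rfl⟩ := hx
      obtain ⟨i, hi⟩ := Subgroup.mem_zpowers_iff.1 hwY'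
      rw [hC, Subgroup.mem_centralizer_singleton_iff]
      have hcs : Commute (n * s * n⁻¹) (n * w * n⁻¹) :=
        (show Commute s w from hwS s hsS).map (MulAut.conj n)
      have h := hcs.zpow_right i
      rw [hi] at h
      exact h
    obtain ⟨c, hc⟩ := MulAction.exists_smul_eq C ((n • S).subtype hle) (S.subtype hSC)
    rw [Sylow.smul_subtype] at hc
    have hfix : ((c : T) * n) • S = S := by
      rw [mul_smul]
      exact Sylow.subtype_injective hc
    have hnorm := Sylow.smul_eq_iff_mem_normalizer.1 hfix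
    obtain ⟨a, ha, s, hsS, hcn⟩ := hd.cent _ (normalizer_le hd h4 hnorm)
    have haS : a ∈ Subgroup.normalizer ((S : Subgroup T) : Set T) := by
      have : a = (c : T) * n * s⁻¹ := by rw [hcn]; group
      rw [this]
      exact mul_mem hnorm (inv_mem (Subgroup.le_normalizer hsS))
    have haF : a ∈ F := by
      refine ⟨ha, fun x hx => ?_⟩
      have hS' : a * x * a⁻¹ * x⁻¹ ∈ (S : Subgroup T) :=
        mul_mem ((Subgroup.mem_normalizer_iff.1 haS x).1 hx) (inv_mem hx)
      have hO' : a * x * a⁻¹ * x⁻¹ ∈ O := by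
        rw [show a * x * a⁻¹ * x⁻¹ = a * (x * a⁻¹ * x⁻¹) by group]
        exact mul_mem ha (conj_mem hd hx (inv_mem ha))
      have h1 := Subgroup.orderOf_dvd_natCard O hO'
      obtain ⟨j, hj⟩ := (IsPGroup.iff_orderOf.1 S.2) ⟨_, hS'⟩
      have h2 : orderOf (a * x * a⁻¹ * x⁻¹) = 2 ^ j := by rw [← hj, ← Subgroup.orderOf_coe]
      have h3 : a * x * a⁻¹ * x⁻¹ = 1 := orderOf_eq_one_iff.1
        (Nat.eq_one_of_dvd_coprimes (hd.odd.coprime_two_right.pow_right j) h1 h2.dvd)
      exact (mul_inv_eq_iff_eq_mul.1 (mul_inv_eq_one.1 h3)).symm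
    have hn' : n = (c : T)⁻¹ * a * s := by
      rw [mul_assoc, ← hcn]
      group
    have haw : a * w * a⁻¹ = n * w * n⁻¹ → a * w * a⁻¹ = w := fun h => hNF a haF (h ▸ hn)
    have hcw : (c : T)⁻¹ * w * (c : T) = w := by
      simpa using hwC _ (inv_mem c.2)
    have hsw : s * w * s⁻¹ = w := hwC s (hSC hsS)
    have e1 : n * w * n⁻¹ = (c : T)⁻¹ * (a * w * a⁻¹) * (c : T) := by
      calc n * w * n⁻¹ = (c : T)⁻¹ * (a * (s * w * s⁻¹) * a⁻¹) * (c : T) := by rw [hn']; group
        _ = _ := by rw [hsw]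
    obtain ⟨i, hi⟩ := Subgroup.mem_zpowers_iff.1 hn
    have e2 : a * w * a⁻¹ = w ^ i := by
      have hcx : (c : T) * w ^ i * (c : T)⁻¹ = w ^ i := by rw [← conj_zpow, hwC _ c.2]
      rw [← hcx, hi, e1]
      group
    rw [e1, haw (e2.trans hi), hcw]
  have hYp : IsPGroup r Y := IsPGroup.of_card (n := 1) (by rw [hY, Nat.card_zpowers, hwr, pow_one])
  obtain ⟨P, hYP⟩ := hYp.exists_le_sylow
  have hcyc : IsCyclic P := hT.hodd r hrp hrodd P
  obtain ⟨x0, hx0⟩ := IsCyclic.exists_generator (α := P)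
  set x : T := (x0 : T) with hx
  have hPx : (P : Subgroup T) = Subgroup.zpowers x := by
    refine le_antisymm (fun z hz => ?_) (Subgroup.zpowers_le.2 x0.2)
    obtain ⟨i, hi⟩ := Subgroup.mem_zpowers_iff.1 (hx0 ⟨z, hz⟩)
    refine Subgroup.mem_zpowers_iff.2 ⟨i, ?_⟩
    rw [hx, ← Subgroup.coe_zpow, hi]
  have hPne : (P : Subgroup T) ≠ ⊥ := fun h => by
    rw [h, le_bot_iff, hY, Subgroup.zpowers_eq_bot] at hYP
    rw [hYP, orderOf_one] at hwr
    exact hrp.one_lt.ne hwr
  obtain ⟨v, hv⟩ := P.2.exists_card_eq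
  rw [hPx, Nat.card_zpowers] at hv
  obtain ⟨v, rfl⟩ : ∃ v', v = v' + 1 := by
    rcases v with _ | v
    · exfalso
      rw [pow_zero, orderOf_eq_one_iff] at hv
      exact hPne (by rw [hPx, hv, Subgroup.zpowers_one_eq_bot])
    · exact ⟨v, rfl⟩
  have hYx : Y = Subgroup.zpowers (x ^ r ^ v) := by
    have hc1 : Nat.card Y = r := by rw [hY, Nat.card_zpowers, hwr]
    have hc2 : Nat.card (Subgroup.zpowers (x ^ r ^ v)) = r := by
      rw [Nat.card_zpowers, orderOf_pow_of_dvd (pow_ne_zero v hrp.ne_zero)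
        (hv ▸ pow_dvd_pow r (Nat.le_succ v)), hv, Nat.pow_div (Nat.le_succ v) hrp.pos]
      simp
    obtain ⟨i, hi⟩ := Subgroup.mem_zpowers_iff.1
      (hPx ▸ hYP (Subgroup.mem_zpowers w) : w ∈ Subgroup.zpowers x)
    refine Subgroup.eq_of_le_of_card_ge (Subgroup.zpowers_le.2 ?_) (by rw [hc1, hc2])
    have h1 : x ^ (i * (r : ℤ)) = 1 := by
      rw [zpow_mul, hi, zpow_natCast, ← hwr, pow_orderOf_eq_one]
    rw [← orderOf_dvd_iff_zpow_eq_one, hv, Nat.cast_pow, pow_succ] at h1
    obtain ⟨c, rfl⟩ := (mul_dvd_mul_iff_right (by exact_mod_cast hrp.ne_zero)).1 h1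
    rw [← hi, zpow_mul]
    exact Subgroup.mem_zpowers_iff.2 ⟨c, by rw [← zpow_natCast x, Nat.cast_pow]⟩
  refine false_of_normalizer_le hT P hPne hrodd (fun n hn => ?_)
    ((hd.ot ▸ orderOf_dvd_natCard t : 2 ∣ Nat.card T))
  have hnx : n * x * n⁻¹ ∈ Subgroup.zpowers x := by
    rw [← hPx]
    exact (Subgroup.mem_normalizer_iff.1 hn x).1 (hPx ▸ Subgroup.mem_zpowers x)
  have hxy : n * x ^ r ^ v * n⁻¹ = x ^ r ^ v := by
    have hxY : x ^ r ^ v ∈ Y := hYx ▸ Subgroup.mem_zpowers _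
    obtain ⟨i, hi⟩ := Subgroup.mem_zpowers_iff.1 hxY
    obtain ⟨b, hb⟩ := Subgroup.mem_zpowers_iff.1 hnx
    obtain ⟨j, hj⟩ := Subgroup.mem_zpowers_iff.1
      (hYx ▸ Subgroup.mem_zpowers w : w ∈ Subgroup.zpowers (x ^ r ^ v))
    have hnw : n * w * n⁻¹ ∈ Y := by
      rw [hYx, ← hj, ← conj_zpow, ← conj_pow, ← hb,
        show (x ^ b) ^ r ^ v = (x ^ r ^ v) ^ b by
          rw [← zpow_natCast, ← zpow_mul, mul_comm, zpow_mul, zpow_natCast]]
      exact Subgroup.zpow_mem _ (Subgroup.zpow_mem _ (Subgroup.mem_zpowers _) _) _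
    rw [← hi, ← conj_zpow, hNC n hnw]
  -- split `n` into its `r`-part and `r'`-part
  have hxx : n * x * n⁻¹ = x := by
    obtain ⟨v', m', hm', hvm⟩ := Nat.exists_eq_pow_mul_and_not_dvd (orderOf_pos n).ne' r hrp.ne_one
    have hpP : n ^ m' ∈ (P : Subgroup T) := by
      have hmn : n ^ m' ∈ Subgroup.normalizer ((P : Subgroup T) : Set T) := pow_mem hn _
      have hp : IsPGroup r (Subgroup.zpowers (n ^ m')) := by
        refine IsPGroup.of_card (n := v') ?_
        rw [Nat.card_zpowers, orderOf_pow_of_dvd ?_ (hvm ▸ dvd_mul_left m' _), hvm,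
          Nat.mul_div_left _ (Nat.pos_of_ne_zero ?_)]
        all_goals rintro rfl; exact hm' (dvd_zero r)
      have h := hp.inf_normalizer_sylow P
      have hmem : n ^ m' ∈ Subgroup.zpowers (n ^ m') ⊓ Subgroup.normalizer ((P : Subgroup T) : Set T) :=
        ⟨Subgroup.mem_zpowers _, hmn⟩
      exact (h ▸ hmem : n ^ m' ∈ Subgroup.zpowers (n ^ m') ⊓ (P : Subgroup T)).2
    have hq : n ^ r ^ v' * x * (n ^ r ^ v')⁻¹ = x := by
      refine commute_of_commute_prime hrp hv ?_ ?_ ?_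
      · rw [orderOf_pow_of_dvd (pow_ne_zero _ hrp.ne_zero) (hvm ▸ dvd_mul_right _ _), hvm,
          Nat.mul_div_cancel_left _ (pow_pos hrp.pos _)]
        exact ((hrp.coprime_iff_not_dvd).2 hm').symm
      · rw [← hPx]
        exact (Subgroup.mem_normalizer_iff.1 (pow_mem hn _) x).1 (hPx ▸ Subgroup.mem_zpowers x)
      · have h0 : n ∈ Subgroup.centralizer ({x ^ r ^ v} : Set T) :=
          Subgroup.mem_centralizer_singleton_iff.2 (mul_inv_eq_iff_eq_mul.1 hxy)
        exact mul_inv_eq_iff_eq_mul.2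
          (Subgroup.mem_centralizer_singleton_iff.1 (pow_mem h0 (r ^ v')))
    have hp' : n ^ m' * x * (n ^ m')⁻¹ = x := by
      rw [hPx] at hpP
      obtain ⟨i, hi⟩ := Subgroup.mem_zpowers_iff.1 hpP
      rw [← hi]
      group
    have hcop : (r ^ v').Coprime m' := ((hrp.coprime_iff_not_dvd).2 hm').pow_left _
    have hb1 := Int.gcd_eq_gcd_ab ((r ^ v' : ℕ) : ℤ) (m' : ℤ)
    have hg : Int.gcd ((r ^ v' : ℕ) : ℤ) (m' : ℤ) = 1 := by rw [Int.gcd_natCast_natCast]; exact hcop
    rw [hg, Nat.cast_one] at hb1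
    have hn1 : n ∈ Subgroup.centralizer ({x} : Set T) := by
      have h1 : n ^ r ^ v' ∈ Subgroup.centralizer ({x} : Set T) :=
        Subgroup.mem_centralizer_singleton_iff.2 (mul_inv_eq_iff_eq_mul.1 hq)
      have h2 : n ^ m' ∈ Subgroup.centralizer ({x} : Set T) :=
        Subgroup.mem_centralizer_singleton_iff.2 (mul_inv_eq_iff_eq_mul.1 hp')
      rw [← zpow_one n, hb1, zpow_add, zpow_mul, zpow_mul, zpow_natCast, zpow_natCast]
      exact mul_mem (Subgroup.zpow_mem _ h1 _) (Subgroup.zpow_mem _ h2 _)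
    exact mul_inv_eq_iff_eq_mul.2 (Subgroup.mem_centralizer_singleton_iff.1 hn1)
  intro z hz
  rw [hPx] at hz
  obtain ⟨i, rfl⟩ := Subgroup.mem_zpowers_iff.1 hz
  exact ((show Commute n x from mul_inv_eq_iff_eq_mul.1 hxx).zpow_right i).symm

/-- A conjugation orbit inside a finite set of odd size has a point fixed by `S`. -/
theorem exists_fixed (X : Set T) (hX : Odd (Nat.card X))
    (hinv : ∀ s ∈ (S : Subgroup T), ∀ z ∈ X, s * z * s⁻¹ ∈ X) :
    ∃ z ∈ X, ∀ s ∈ (S : Subgroup T), s * z = z * s := by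
  have : Fact (Nat.Prime 2) := ⟨Nat.prime_two⟩
  let act : MulAction (S : Subgroup T) X :=
    { smul := fun s z => ⟨(s : T) * z * (s : T)⁻¹, hinv s s.2 z z.2⟩
      one_smul := fun z => Subtype.ext (by
        show ((1 : (S : Subgroup T)) : T) * z * ((1 : (S : Subgroup T)) : T)⁻¹ = z
        simp)
      mul_smul := fun a b z => Subtype.ext (by
        show ((a * b : (S : Subgroup T)) : T) * z * ((a * b : (S : Subgroup T)) : T)⁻¹ =
          (a : T) * ((b : T) * z * (b : T)⁻¹) * (a : T)⁻¹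
        simp [mul_assoc]) }
  obtain ⟨z, hz⟩ := IsPGroup.nonempty_fixed_point_of_prime_not_dvd_card (G := (S : Subgroup T)) S.2 X
    (fun h => Nat.not_even_iff_odd.2 hX (even_iff_two_dvd.2 h))
  exact ⟨z, z.2, fun s hsS => mul_inv_eq_iff_eq_mul.1 (congrArg Subtype.val (hz ⟨s, hsS⟩))⟩

/-- `S` acts on every cyclic group it normalises through an elementary abelian group, and
normalises a Sylow subgroup of `O`, so `O` is cyclic. -/
theorem cyclic (hK : KleinNoFixed.{u}) (hT : CycSyl43.Min T) (hd : Dih S t O) : IsCyclic O := by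
  classical
  have h2 : Fact (Nat.Prime 2) := ⟨Nat.prime_two⟩
  let act : MulDistribMulAction (S : Subgroup T) O :=
    { smul := fun s z => ⟨(s : T) * z * (s : T)⁻¹, conj_mem hd s.2 z.2⟩
      one_smul := fun z => Subtype.ext (by
        show ((1 : (S : Subgroup T)) : T) * z * ((1 : (S : Subgroup T)) : T)⁻¹ = z
        simp)
      mul_smul := fun a b z => Subtype.ext (by
        show ((a * b : (S : Subgroup T)) : T) * z * ((a * b : (S : Subgroup T)) : T)⁻¹ =
          (a : T) * ((b : T) * z * (b : T)⁻¹) * (a : T)⁻¹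
        simp [mul_assoc])
      smul_one := fun a => Subtype.ext (by
        show (a : T) * ((1 : O) : T) * (a : T)⁻¹ = ((1 : O) : T)
        simp)
      smul_mul := fun a z z' => Subtype.ext (by
        show (a : T) * ((z * z' : O) : T) * (a : T)⁻¹ =
          ((a : T) * z * (a : T)⁻¹) * ((a : T) * z' * (a : T)⁻¹)
        simp [mul_assoc]) }
  have hsyl : ∀ (r : ℕ) [Fact r.Prime] (Q : Sylow r O), IsCyclic Q := by
    intro r hr Q
    by_cases hr2 : r = 2
    · subst hr2
      have h1 : Nat.card Q = 1 := by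
        obtain ⟨j, hj⟩ := Q.2.exists_card_eq
        rcases j with _ | j
        · simpa using hj
        · exfalso
          have hdd : 2 ∣ Nat.card O :=
            (dvd_trans (dvd_pow_self 2 (Nat.succ_ne_zero j)) (dvd_of_eq hj.symm)).trans
              (Subgroup.card_subgroup_dvd_card _)
          exact (Nat.not_even_iff_odd.2 hd.odd) (even_iff_two_dvd.2 hdd)
      have : Subsingleton Q := (Nat.card_eq_one_iff_unique.1 h1).1
      infer_instance
    have hQ' : IsPGroup r ((Q : Subgroup O).map O.subtype) := Q.2.map _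
    obtain ⟨P, hP⟩ := hQ'.exists_le_sylow
    have : IsCyclic P := hT.hodd r hr.out hr2 P
    have : IsCyclic ((Q : Subgroup O).map O.subtype) := Subgroup.isCyclic_of_le hP
    exact isCyclic_of_surjective _
      ((Q : Subgroup O).equivMapOfInjective _ O.subtype_injective).symm.surjective
  have hcomm : commutator O = ⊥ := by
    refine Subgroup.eq_bot_of_card_eq _ (Nat.eq_one_iff_not_exists_prime_dvd.2 fun r hr hrd => ?_)
    have := Fact.mk hr
    have hodd : Odd (Nat.card (Sylow r O)) :=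
      Odd.of_dvd_nat hd.odd (((default : Sylow r O).card_dvd_index).trans
        (Subgroup.index_dvd_card _))
    obtain ⟨Q, hQ⟩ := IsPGroup.nonempty_fixed_point_of_prime_not_dvd_card (G := (S : Subgroup T)) S.2
      (Sylow r O) (fun h => Nat.not_even_iff_odd.2 hodd (even_iff_two_dvd.2 h))
    have := hsyl r Q
    set R : Subgroup T := (Q : Subgroup O).map O.subtype with hR
    have hSR : ∀ s ∈ (S : Subgroup T), s ∈ Subgroup.normalizer (R : Set T) := by
      intro s hsS
      have hfwd : ∀ a ∈ (S : Subgroup T), ∀ z ∈ R, a * z * a⁻¹ ∈ R := by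
        rintro a haS _ ⟨z, hz, rfl⟩
        have h1 : ((⟨a, haS⟩ : (S : Subgroup T)) • z) ∈
            ((⟨a, haS⟩ : (S : Subgroup T)) • (Q : Subgroup O)) :=
          Subgroup.smul_mem_pointwise_smul z _ _ hz
        rw [← Sylow.pointwise_smul_def, hQ ⟨a, haS⟩] at h1
        exact ⟨_, h1, rfl⟩
      refine Subgroup.mem_normalizer_iff.2 fun z => ⟨hfwd s hsS z, fun hz => ?_⟩
      simpa [mul_assoc] using hfwd s⁻¹ (inv_mem hsS) _ hz
    obtain ⟨x0, hx0⟩ := IsCyclic.exists_generator (α := Q)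
    set x : T := ((x0 : O) : T) with hx
    have hRx : R = Subgroup.zpowers x := by
      refine le_antisymm ?_ (Subgroup.zpowers_le.2 ⟨(x0 : O), x0.2, rfl⟩)
      rintro _ ⟨z, hz, rfl⟩
      obtain ⟨i, hi⟩ := Subgroup.mem_zpowers_iff.1 (hx0 ⟨z, hz⟩)
      refine Subgroup.mem_zpowers_iff.2 ⟨i, ?_⟩
      rw [hx, ← Subgroup.coe_zpow, ← Subgroup.coe_zpow, hi]
      rfl
    have hxR : x ∈ R := hRx ▸ Subgroup.mem_zpowers x
    have hnx : ∀ a ∈ Subgroup.normalizer (R : Set T), a * x * a⁻¹ ∈ Subgroup.zpowers x := fun a ha => by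
      rw [← hRx]
      exact (Subgroup.mem_normalizer_iff.1 ha x).1 hxR
    have hcen : ∀ n ∈ O, n ∈ Subgroup.normalizer (R : Set T) → n * x * n⁻¹ = x := by
      intro n hnO hn
      set C : Subgroup T := O ⊓ Subgroup.centralizer ({x} : Set T) with hC
      have hinv : ∀ s ∈ (S : Subgroup T), ∀ z ∈ {z : T | n⁻¹ * z ∈ C},
          s * z * s⁻¹ ∈ {z : T | n⁻¹ * z ∈ C} := by
        intro s hsS z hz
        obtain ⟨hzO, hzc⟩ := Subgroup.mem_inf.1 (show n⁻¹ * z ∈ C from hz)
        have hzO' : z ∈ O := by simpa using mul_mem hnO hzO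
        have hzx : z * x * z⁻¹ = n * x * n⁻¹ := by
          have h := mul_inv_eq_iff_eq_mul.2 (Subgroup.mem_centralizer_singleton_iff.1 hzc)
          calc z * x * z⁻¹ = n * (n⁻¹ * z * x * (n⁻¹ * z)⁻¹) * n⁻¹ := by group
            _ = _ := by rw [h]
        refine Subgroup.mem_inf.2 ⟨mul_mem (inv_mem hnO) (conj_mem hd hsS hzO'),
          Subgroup.mem_centralizer_singleton_iff.2 (mul_inv_eq_iff_eq_mul.1 ?_)⟩
        obtain ⟨i, hi⟩ := Subgroup.mem_zpowers_iff.1 (hnx s⁻¹ (inv_mem (hSR s hsS)))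
        have h5 := commutator_fixes (hnx n hn) (hnx s (hSR s hsS))
        calc n⁻¹ * (s * z * s⁻¹) * x * (n⁻¹ * (s * z * s⁻¹))⁻¹
            = n⁻¹ * (s * (z * (s⁻¹ * x * (s⁻¹)⁻¹) * z⁻¹) * s⁻¹) * n := by group
          _ = n⁻¹ * (s * (n * (s⁻¹ * x * (s⁻¹)⁻¹) * n⁻¹) * s⁻¹) * n := by
              rw [← hi, ← conj_zpow, hzx, conj_zpow]
          _ = n⁻¹ * (s * (s⁻¹ * (n * x * n⁻¹) * (s⁻¹)⁻¹) * s⁻¹) * n := by
              rw [commutator_fixes (hnx n hn) (hnx s⁻¹ (inv_mem (hSR s hsS)))]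
          _ = x := by group
      have hodd' : Odd (Nat.card {z : T | n⁻¹ * z ∈ C}) := by
        change Odd (Nat.card {z : T // n⁻¹ * z ∈ C})
        rw [Nat.card_congr ((Equiv.mulLeft n⁻¹).subtypeEquiv
          (p := fun z => n⁻¹ * z ∈ C) (q := fun z => z ∈ C) fun z => Iff.rfl)]
        exact Odd.of_dvd_nat hd.odd (Subgroup.card_dvd_of_le inf_le_left)
      obtain ⟨z, hzmem, hzfix⟩ := exists_fixed (S := S) _ hodd' hinv
      obtain ⟨hzO, hzc⟩ := Subgroup.mem_inf.1 (show n⁻¹ * z ∈ C from hzmem)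
      have hzO' : z ∈ O := by simpa using mul_mem hnO hzO
      have hz1 : z = 1 := fixed_eq_one hK hT hd hzO' hzfix
      subst hz1
      rw [mul_one] at hzc
      have h := mul_inv_eq_iff_eq_mul.2
        (Subgroup.mem_centralizer_singleton_iff.1 (inv_mem hzc))
      rwa [inv_inv] at h
    have hnorm : Subgroup.normalizer ((Q : Subgroup O) : Set O) ≤
        Subgroup.centralizer ((Q : Subgroup O) : Set O) := by
      intro n hn z hz
      have hn' : (n : T) ∈ Subgroup.normalizer (R : Set T) := by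
        refine Subgroup.mem_normalizer_iff.2 fun w => ⟨?_, fun hw => ?_⟩
        · rintro ⟨w, hw, rfl⟩
          exact ⟨n * w * n⁻¹, (Subgroup.mem_normalizer_iff.1 hn w).1 hw, by simp⟩
        · obtain ⟨w', hw', hw''⟩ := hw
          refine ⟨n⁻¹ * w' * n, ?_, ?_⟩
          · exact (Subgroup.mem_normalizer_iff.1 hn _).2 (by rw [show n * (n⁻¹ * w' * n) * n⁻¹ = w' by group]; exact hw')
          · simp only [Subgroup.coe_subtype] at hw''
            simp [hw'', mul_assoc]
      obtain ⟨i, hi⟩ := Subgroup.mem_zpowers_iff.1 (hx0 ⟨z, hz⟩)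
      have hzx : (z : T) = x ^ i := by
        rw [hx, ← Subgroup.coe_zpow, ← Subgroup.coe_zpow, hi]
      apply Subtype.ext
      rw [Subgroup.coe_mul, Subgroup.coe_mul, hzx]
      exact ((show Commute (n : T) x from
        mul_inv_eq_iff_eq_mul.1 (hcen n n.2 hn')).zpow_right i).symm
    let : CommGroup Q :=
      { (inferInstance : Group Q) with
        mul_comm := fun a b => Subtype.ext (hnorm (Subgroup.le_normalizer a.2) b b.2).symm }
    exact MonoidHom.not_dvd_card_ker_transferSylow Q hnorm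
      (hrd.trans (Subgroup.card_dvd_of_le (Abelianization.commutator_subset_ker _)))
  have hz : IsZGroup O := ⟨fun p hp P => by
    have := Fact.mk hp
    exact hsyl p P⟩
  have : Group.IsNilpotent O := by
    have hcm : ∀ a b : O, a * b = b * a := fun a b => by
      have h := Subgroup.commutator_mem_commutator (Subgroup.mem_top a) (Subgroup.mem_top b)
      rw [← commutator_def, hcomm, Subgroup.mem_bot] at h
      exact commutatorElement_eq_one_iff_commute.1 h
    let : CommGroup O := { (inferInstance : Group O) with mul_comm := hcm }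
    exact CommGroup.isNilpotent
  infer_instance

/-- In a dihedral configuration `O` is cyclic and `S` fixes or inverts its elements of prime power
order, fixing only the identity. -/
theorem ostruct (hK : KleinNoFixed.{u}) :
    ∀ (T : Type u) [Group T] [Finite T], CycSyl43.Min T →
      ∀ (S : Sylow 2 T) (t : T) (O : Subgroup T), Dih S t O → OStruct S O := by
  intro T _ _ hT S t O hd
  refine ⟨cyclic hK hT hd, ?_, fun y hy hs => fixed_eq_one hK hT hd hy hs⟩
  intro s hsS y hy r k hr hyk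
  have hcyc := cyclic hK hT hd
  have hmem : ∀ a ∈ (S : Subgroup T), a * y * a⁻¹ ∈ Subgroup.zpowers y := by
    intro a ha
    obtain ⟨g, hg⟩ := IsCyclic.exists_generator (α := O)
    have hY : (Subgroup.zpowers (⟨_, conj_mem hd ha hy⟩ : O)) = Subgroup.zpowers (⟨y, hy⟩ : O) := by
      refine FrobeniusOrderConj.eq_of_card_eq_of_isCyclic ?_
      rw [Nat.card_zpowers, Nat.card_zpowers, ← Subgroup.orderOf_coe, ← Subgroup.orderOf_coe]
      exact (MulAut.conj a).orderOf_eq y
    have h := Subgroup.mem_zpowers (⟨_, conj_mem hd ha hy⟩ : O)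
    rw [hY] at h
    obtain ⟨i, hi⟩ := Subgroup.mem_zpowers_iff.1 h
    exact Subgroup.mem_zpowers_iff.2 ⟨i, by simpa using congrArg Subtype.val hi⟩
  obtain ⟨m, hm, ⟨e⟩⟩ := hd.iso
  -- `s` acts as an involution
  have hsq : s * (s * y * s⁻¹) * s⁻¹ = y := by
    rcases hs : e ⟨s, hsS⟩ with i | i
    · set w : T := (((e.symm (DihedralGroup.sr 0)) : (S : Subgroup T)) : T) with hw
      have hwS : w ∈ (S : Subgroup T) := (e.symm (DihedralGroup.sr 0)).2
      have hws : w * s * w⁻¹ = s⁻¹ := by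
        have h : (e.symm (DihedralGroup.sr 0)) * ⟨s, hsS⟩ * (e.symm (DihedralGroup.sr 0))⁻¹ =
            (⟨s, hsS⟩ : (S : Subgroup T))⁻¹ := by
          apply e.injective
          simp [hs]
        simpa [hw] using congrArg Subtype.val h
      have h1 := commutator_fixes (hmem s hsS) (hmem w hwS)
      have h2 : s⁻¹ * y * s = s * y * s⁻¹ := by
        obtain ⟨i', hi'⟩ := Subgroup.mem_zpowers_iff.1 (hmem w⁻¹ (inv_mem hwS))
        have h3 := commutator_fixes (hmem s hsS) (hmem w⁻¹ (inv_mem hwS))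
        calc s⁻¹ * y * s = w * s * w⁻¹ * y * (w * s * w⁻¹)⁻¹ := by rw [hws]; group
          _ = w * (s * (w⁻¹ * y * (w⁻¹)⁻¹) * s⁻¹) * w⁻¹ := by group
          _ = w * (w⁻¹ * (s * y * s⁻¹) * (w⁻¹)⁻¹) * w⁻¹ := by rw [h3]
          _ = _ := by group
      rw [← h2]
      group
    · have h : s * s = 1 := by
        have h' : (⟨s, hsS⟩ : (S : Subgroup T)) * ⟨s, hsS⟩ = 1 := by
          apply e.injective
          rw [map_mul, hs, DihedralGroup.sr_mul_self, map_one]
        simpa using congrArg Subtype.val h'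
      have hinv : s⁻¹ = s := inv_eq_of_mul_eq_one_right h
      calc s * (s * y * s⁻¹) * s⁻¹ = (s * s) * y * (s * s)⁻¹ := by group
        _ = y := by rw [h]; group
  obtain ⟨a, ha⟩ := Subgroup.mem_zpowers_iff.1 (hmem s hsS)
  have haa : y ^ (a * a) = y ^ (1 : ℤ) := by
    rw [zpow_mul, ha, zpow_one]
    nth_rw 2 [← hsq]
    rw [conj_zpow, ha]
  rw [zpow_eq_zpow_iff_modEq, hyk, Int.modEq_iff_dvd] at haa
  push_cast at haa
  by_cases hk : k = 0
  · subst hk
    rw [pow_zero, orderOf_eq_one_iff] at hyk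
    subst hyk
    left
    group
  have hr2 : r ≠ 2 := fun h => by
    have hdv : r ∣ Nat.card O :=
      ((dvd_pow_self r hk).trans hyk.symm.dvd).trans (Subgroup.orderOf_dvd_natCard O hy)
    exact (Nat.not_even_iff_odd.2 hd.odd) (even_iff_two_dvd.2 (h ▸ hdv))
  have hprod : (r : ℤ) ^ k ∣ (1 - a) * (1 + a) := by
    have : (1 - a) * (1 + a) = 1 - a * a := by ring
    rwa [this]
  have hrZ : Prime (r : ℤ) := Nat.prime_iff_prime_int.1 hr
  have hor : ¬ (r : ℤ) ∣ 1 - a ∨ ¬ (r : ℤ) ∣ 1 + a := by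
    by_contra hcon
    push Not at hcon
    have h22 : (r : ℤ) ∣ 2 := by
      have := dvd_add hcon.1 hcon.2
      rwa [show (1 - a) + (1 + a) = (2 : ℤ) by ring] at this
    exact hr2 ((Nat.prime_dvd_prime_iff_eq hr Nat.prime_two).1 (by exact_mod_cast h22))
  rcases hor with h | h
  · right
    have := hrZ.pow_dvd_of_dvd_mul_left k h hprod
    rw [← ha, ← zpow_neg_one, zpow_eq_zpow_iff_modEq, hyk, Int.modEq_iff_dvd]
    push_cast
    have h' := dvd_neg.2 this
    rw [show (-1 : ℤ) - a = -(1 + a) by ring]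
    exact h'
  · left
    have := hrZ.pow_dvd_of_dvd_mul_right k h hprod
    rw [← ha]
    nth_rw 2 [← zpow_one y]
    rw [zpow_eq_zpow_iff_modEq, hyk, Int.modEq_iff_dvd]
    push_cast
    exact this

end Cfsg.Agent.CycSyl43OStruct
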