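import Cfsg.Agent.Lib.CycSyl43Main
import Cfsg.Agent.Lib.CycSyl43DihedralPSL
import Cfsg.Agent.Lib.CycSyl43DihedralNorm
import Cfsg.Agent.Lib.CycSyl43OStruct
import Cfsg.Agent.Lib.CycSyl43Klein
import Cfsg.Agent.Lib.CycSyl43Section

/-!
The dihedral configuration gives `PSL(2,p)`: the landed pieces put together.
-/

set_option autoImplicit false

namespace Cfsg.Agent.CycSyl43

universe u

theorem dihPSL (hA : Assembly.{u}) (hR : ReflectionFree.{u}) : DihPSL.{u} := by
  intro T _ _ hT S t O hd
  exact CycSyl43DihedralPSL.dihedral_psl hR hA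
    (fun T _ _ hT S t O hd hs ha hb =>
      CycSyl43DihedralNorm.normalizer_le hT hd hs ha hb)
    T hT S t O hd (CycSyl43OStruct.ostruct (CycSyl43Klein.klein_no_fixed section_sum) T hT S t O hd)

end Cfsg.Agent.CycSyl43
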