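import Cfsg.Agent.Lib.CycSyl43Klein
import Cfsg.Agent.Lib.CycSyl43Section

/-!
The four-group case without hypotheses.
-/

namespace Cfsg.Agent.CycSyl43Klein

universe u

/-- PIECE K, unconditional. -/
theorem kleinNoFixed : CycSyl43.KleinNoFixed.{u} := klein_no_fixed CycSyl43.section_sum

end Cfsg.Agent.CycSyl43Klein
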