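import Mathlib
import Cfsg.Agent.Lib.CycSyl43Defs

/-!
Assembling the pieces: finite simple groups with cyclic odd Sylow subgroups and small Sylow
2-subgroups are `PSL(2,p)`, and the structure of the nonsolvable groups with this property.
-/

set_option autoImplicit false

namespace Cfsg.Agent.CycSyl43

universe u

/-- PIECE D: the dihedral configuration gives `PSL(2,p)`. -/
def DihPSL : Prop :=
  ∀ (T : Type u) [Group T] [Finite T], Min T → ∀ (S : Sylow 2 T) (t : T) (O : Subgroup T),
    Dih S t O → IsPSL2Prime T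

theorem simpleBelow (hA : Assembly.{u}) (hT : Types.{u}) (hD : DihPSL.{u})
    (hGL : SemiGLFalse.{u}) (hSL : SemiSLFalse.{u}) : ∀ m, SimpleBelow.{u} m := by
  intro m
  induction m with
  | zero => intro T _ _ _ _ _ _ h; exact absurd h (Nat.not_lt_zero _)
  | succ m ih =>
    intro T _ _ hs hnc hodd h2 hlt
    rcases (Nat.lt_succ_iff.1 hlt).lt_or_eq with hlt' | heq
    · exact ih T hs hnc hodd h2 hlt'
    · have hmin : Min T := ⟨hs, hnc, hodd, h2, heq ▸ ih⟩
      rcases hT hA T hmin with ⟨S, t, O, h⟩ | ⟨S, t, O, h⟩ | ⟨S, t, O, L, p, h⟩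
      · exact hD T hmin S t O h
      · exact (hGL hA T hmin S t O h).elim
      · exact (hSL hA T hmin S t O L p h).elim

theorem concl (hA : Assembly.{u}) (hT : Types.{u}) (hD : DihPSL.{u}) (hGL : SemiGLFalse.{u})
    (hSL : SemiSLFalse.{u}) (G : Type u) [Group G] [Finite G] (hns : ¬ Group.IsSolvable G)
    (hodd : OddCyclic G) (h2 : TwoSmall G) : Concl G :=
  hA G (simpleBelow hA hT hD hGL hSL _) hns hodd h2

end Cfsg.Agent.CycSyl43
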