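import Mathlib
import Cfsg.Agent.Lib.Dickson
import Cfsg.Agent.Lib.QuadraticSL2

/-!
A subgroup of `SL(2,F)`, `F` finite of odd characteristic `p`, with two non-commuting elements of
order `p` contains a conjugate of `SL(2,p)`.
-/

set_option autoImplicit false

namespace Cfsg.Agent.SL2TwoUnipotent

open Matrix
open scoped MatrixGroups

/-- Two elements with `p`-th power one satisfying the braid relation. -/
def HasBraid (p : ℕ) (G : Type*) [Group G] : Prop :=
  ∃ x y : G, x ^ p = 1 ∧ y ^ p = 1 ∧ x ≠ y ∧ x * y * x = y * x * y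

theorem hasBraid_map {p : ℕ} {G H : Type*} [Group G] [Group H] (f : G →* H)
    (hf : Function.Injective f) (h : HasBraid p G) : HasBraid p H := by
  obtain ⟨x, y, hx, hy, hne, hb⟩ := h
  exact ⟨f x, f y, by rw [← map_pow, hx, map_one], by rw [← map_pow, hy, map_one],
    fun e => hne (hf e), by rw [← map_mul, ← map_mul, hb, map_mul, map_mul]⟩

theorem braid_A4 : HasBraid 3 (alternatingGroup (Fin 4)) := by
  unfold HasBraid; decide +kernel

theorem braid_A5_three : HasBraid 3 (alternatingGroup (Fin 5)) := by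
  unfold HasBraid; decide +kernel

theorem braid_A5_five : HasBraid 5 (alternatingGroup (Fin 5)) := by
  unfold HasBraid; decide +kernel

section unipotents

variable {R : Type*} [CommRing R]

/-- Upper unitriangular. -/
def up (c : R) : SL(2, R) := ⟨!![1, c; 0, 1], by simp [det_fin_two]⟩

/-- Lower unitriangular. -/
def low (c : R) : SL(2, R) := ⟨!![1, 0; c, 1], by simp [det_fin_two]⟩

theorem up_coe (c : R) : (up c).1 = !![1, c; 0, 1] := rfl

theorem low_coe (c : R) : (low c).1 = !![1, 0; c, 1] := rfl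

theorem up_add (b c : R) : up b * up c = up (b + c) := by
  apply Subtype.ext
  simp [up_coe, Matrix.mul_fin_two, add_comm]

theorem low_add (b c : R) : low b * low c = low (b + c) := by
  apply Subtype.ext
  simp [low_coe, Matrix.mul_fin_two]

theorem up_pow (c : R) (n : ℕ) : up c ^ n = up (n * c) := by
  induction n with
  | zero => apply Subtype.ext; simp [up_coe, Matrix.one_fin_two]
  | succ n ih => rw [pow_succ, ih, up_add]; push_cast; rw [add_mul, one_mul]

theorem low_pow (c : R) (n : ℕ) : low c ^ n = low (n * c) := by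
  induction n with
  | zero => apply Subtype.ext; simp [low_coe, Matrix.one_fin_two]
  | succ n ih => rw [pow_succ, ih, low_add]; push_cast; rw [add_mul, one_mul]

theorem braid_up_low : up (1 : R) * low (-1) * up 1 = low (-1) * up 1 * low (-1) := by
  apply Subtype.ext
  simp [up_coe, low_coe, Matrix.mul_fin_two]

theorem up_char (p : ℕ) [CharP R p] (c : R) : up c ^ p = 1 := by
  rw [up_pow, CharP.cast_eq_zero, zero_mul]
  apply Subtype.ext; simp [up_coe, Matrix.one_fin_two]

theorem low_char (p : ℕ) [CharP R p] (c : R) : low c ^ p = 1 := by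
  rw [low_pow, CharP.cast_eq_zero, zero_mul]
  apply Subtype.ext; simp [low_coe, Matrix.one_fin_two]

end unipotents

variable {F : Type*} [Field F]

/-- The map to `PGL(2,F)`. -/
noncomputable def toPGL : SL(2, F) →* Matrix.ProjGenLinGroup (Fin 2) F :=
  Matrix.ProjGenLinGroup.mk.comp Matrix.SpecialLinearGroup.toGL

theorem toPGL_eq_iff {a b : SL(2, F)} (h : toPGL a = toPGL b) : a = b ∨ a = -b := by
  obtain ⟨u, hu⟩ := Matrix.ProjGenLinGroup.mk_eq_mk_iff.1 h
  have e := congrArg (fun g : GL (Fin 2) F => (g : Matrix (Fin 2) (Fin 2) F)) hu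
  simp only [Units.val_mul, GeneralLinearGroup.coe_scalar] at e
  have hd := congrArg Matrix.det e
  simp [det_mul] at hd
  rcases hd with rfl | rfl
  · left; apply Subtype.ext
    simpa [eq_comm] using e
  · right; apply Subtype.ext
    simp at e
    show a.1 = -b.1
    rw [← e]
    ext i j
    simp [Matrix.mul_diagonal]

theorem braid_PSL {p : ℕ} [Fact p.Prime] (R : Type*) [Field R] [CharP R p] :
    HasBraid p (Matrix.ProjectiveSpecialLinearGroup (Fin 2) R) := by
  refine ⟨QuotientGroup.mk' _ (up 1), QuotientGroup.mk' _ (low (-1)), ?_, ?_, ?_, ?_⟩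
  · rw [← map_pow, up_char p, map_one]
  · rw [← map_pow, low_char p, map_one]
  · intro h
    rw [← mul_inv_eq_one, ← map_inv, ← map_mul, QuotientGroup.mk'_apply,
      QuotientGroup.eq_one_iff, Subgroup.mem_center_iff] at h
    have := congrArg (fun m : SL(2, R) => m.1 0 0) (h (up 1))
    simp [up_coe, low_coe, Matrix.adjugate_fin_two, Matrix.mul_fin_two] at this
  · rw [← map_mul, ← map_mul, braid_up_low, map_mul, map_mul]

theorem braid_PGL {p : ℕ} [Fact p.Prime] (R : Type*) [Field R] [CharP R p] :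
    HasBraid p (Matrix.ProjGenLinGroup (Fin 2) R) := by
  refine ⟨toPGL (up 1), toPGL (low (-1)), ?_, ?_, ?_, ?_⟩
  · rw [← map_pow, up_char p, map_one]
  · rw [← map_pow, low_char p, map_one]
  · intro h
    rcases toPGL_eq_iff h with h | h <;>
      · have := congrArg (fun m : SL(2, R) => m.1 0 1) h
        simp [up_coe, low_coe] at this
  · rw [← map_mul, ← map_mul, braid_up_low, map_mul, map_mul]

variable {p : ℕ} [Fact p.Prime] [CharP F p]

theorem four_ne_zero' (hp : p ≠ 2) : (2 : F) + 2 ≠ 0 := by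
  rw [← two_mul]
  exact mul_ne_zero (QuadraticSL2.two_ne_zero' hp) (QuadraticSL2.two_ne_zero' hp)

theorem trace_two {a : SL(2, F)} (ha : a ^ p = 1) : a.1.trace = 2 :=
  QuadraticSL2.trace_of_pow_eq_one (p := p) (k := 1) (by rwa [pow_one])

/-- Simultaneous normal form of two non-commuting unipotent elements. -/
theorem normal_form {a b : SL(2, F)} (ha : a ^ p = 1) (hb : b ^ p = 1) (hab : a * b ≠ b * a) :
    ∃ (M : GL (Fin 2) F) (γ : F), γ ≠ 0 ∧ a.1 * M.1 = M.1 * (up 1).1 ∧ b.1 * M.1 = M.1 * (low γ).1 := by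
  have ta := trace_two ha
  have tb := trace_two hb
  have hda : a.1 0 0 * a.1 1 1 - a.1 0 1 * a.1 1 0 = 1 := by rw [← Matrix.det_fin_two]; exact a.2
  have hdb : b.1 0 0 * b.1 1 1 - b.1 0 1 * b.1 1 0 = 1 := by rw [← Matrix.det_fin_two]; exact b.2
  rw [Matrix.trace_fin_two] at ta tb
  obtain ⟨v, hv0, hv⟩ := Matrix.exists_mulVec_eq_zero_iff.2
    (show (b.1 - 1).det = 0 by simp [det_fin_two]; linear_combination hdb - tb)
  have bv0 := congrFun hv 0
  have bv1 := congrFun hv 1
  simp [Matrix.mulVec, dotProduct, Fin.sum_univ_two] at bv0 bv1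
  set w0 := (a.1 0 0 - 1) * v 0 + a.1 0 1 * v 1 with hw0
  set w1 := a.1 1 0 * v 0 + (a.1 1 1 - 1) * v 1 with hw1
  -- the images of `v` under the nilpotent parts
  have hD : w0 * v 1 - w1 * v 0 ≠ 0 := by
    intro hD
    have hz : w0 = 0 ∧ w1 = 0 := by
      have k0 : (a.1 0 0 - 1) * w0 + a.1 0 1 * w1 = 0 := by
        rw [hw0, hw1]; linear_combination (-v 0) * hda + (v 0 * a.1 0 0 + v 1 * a.1 0 1) * ta
      have k1 : a.1 1 0 * w0 + (a.1 1 1 - 1) * w1 = 0 := by
        rw [hw0, hw1]; linear_combination (-v 1) * hda + (v 0 * a.1 1 0 + v 1 * a.1 1 1) * ta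
      by_cases h : v 0 = 0
      · have h1 : v 1 ≠ 0 := fun h1 => hv0 (funext fun i => by fin_cases i <;> simpa)
        have e0 : w0 = 0 := by rw [h, mul_zero, sub_zero] at hD; exact (mul_eq_zero.1 hD).resolve_right h1
        refine ⟨e0, mul_self_eq_zero.1 ?_⟩
        rw [e0, mul_zero, zero_add] at k1
        linear_combination v 1 * k1 + w1 * hw1 + w1 * a.1 1 0 * h
      · have e : w1 = w0 * v 1 / v 0 := by field_simp; linear_combination -hD
        have e0 : w0 * w0 = 0 := by
          linear_combination v 0 * k0 + a.1 0 1 * hD + w0 * hw0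
        refine ⟨mul_self_eq_zero.1 e0, ?_⟩
        rw [e, mul_self_eq_zero.1 e0, zero_mul, zero_div]
    obtain ⟨z0, z1⟩ := hz
    rw [hw0] at z0; rw [hw1] at z1
    apply hab
    have h00 : a.1 0 1 * b.1 1 0 = a.1 1 0 * b.1 0 1 := by
      by_cases h : v 0 = 0
      · have h1 : v 1 ≠ 0 := fun h1 => hv0 (funext fun i => by fin_cases i <;> simpa)
        rw [h, mul_zero, zero_add] at z0 bv0
        rw [(mul_eq_zero.1 z0).resolve_right h1, (mul_eq_zero.1 bv0).resolve_right h1,
          zero_mul, mul_zero]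
      · refine mul_right_cancel₀ (mul_ne_zero h h) ?_
        linear_combination (b.1 1 0 * v 0 * v 0 - 0) * 0 + (a.1 0 1 * v 0) * bv1
          - (b.1 0 1 * v 0) * z1 - (a.1 0 1 * v 1) * (v 0) * tb + (b.1 0 1 * v 1) * (v 0) * ta
          + (a.1 0 1 * v 1) * bv0 - (b.1 0 1 * v 1) * z0
    have h01 : a.1 0 1 * (b.1 0 0 - 1) = b.1 0 1 * (a.1 0 0 - 1) := by
      by_cases h : v 0 = 0
      · have h1 : v 1 ≠ 0 := fun h1 => hv0 (funext fun i => by fin_cases i <;> simpa)
        rw [h, mul_zero, zero_add] at z0 bv0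
        rw [(mul_eq_zero.1 z0).resolve_right h1, (mul_eq_zero.1 bv0).resolve_right h1,
          zero_mul, zero_mul]
      · refine mul_right_cancel₀ h ?_
        linear_combination a.1 0 1 * bv0 - b.1 0 1 * z0
    have h10 : a.1 1 0 * (b.1 0 0 - 1) = b.1 1 0 * (a.1 0 0 - 1) := by
      by_cases h : v 0 = 0
      · have h1 : v 1 ≠ 0 := fun h1 => hv0 (funext fun i => by fin_cases i <;> simpa)
        rw [h, mul_zero, zero_add] at z1 bv1
        have ea := (mul_eq_zero.1 z1).resolve_right h1
        have eb := (mul_eq_zero.1 bv1).resolve_right h1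
        rw [show a.1 0 0 - 1 = 0 by linear_combination ta - ea,
          show b.1 0 0 - 1 = 0 by linear_combination tb - eb, mul_zero, mul_zero]
      · refine mul_right_cancel₀ h ?_
        linear_combination (b.1 0 0 - 1) * z1 - (a.1 0 0 - 1) * bv1
          + (b.1 0 0 - 1) * v 1 * (-1) * ta + (a.1 0 0 - 1) * v 1 * tb
    apply Subtype.ext
    ext i j
    simp only [Matrix.SpecialLinearGroup.coe_mul, Matrix.mul_apply, Fin.sum_univ_two]
    fin_cases i <;> fin_cases j <;> simp only [Fin.zero_eta, Fin.mk_one]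
    · linear_combination h00
    · linear_combination (-2 : F) * h01 + a.1 0 1 * tb - b.1 0 1 * ta
    · linear_combination (2 : F) * h10 - a.1 1 0 * tb + b.1 1 0 * ta
    · linear_combination (-1 : F) * h00
  let M0 : Matrix (Fin 2) (Fin 2) F := !![w0, v 0; w1, v 1]
  let M : GL (Fin 2) F := GeneralLinearGroup.mkOfDetNeZero M0
    (by rw [det_fin_two_of]; intro h; exact hD (by linear_combination h))
  have hMa : a.1 * M0 = M0 * (up 1).1 := by
    ext i j
    fin_cases i <;> fin_cases j <;> simp [M0, up_coe, Matrix.mul_apply, Fin.sum_univ_two]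
    · rw [hw0, hw1]; linear_combination (-v 0) * hda + (v 0 * a.1 0 0 + v 1 * a.1 0 1) * ta
    · rw [hw0]; ring
    · rw [hw0, hw1]; linear_combination (-v 1) * hda + (v 0 * a.1 1 0 + v 1 * a.1 1 1) * ta
    · rw [hw1]; ring
  set γ := ((b.1 1 0 * w0 + b.1 1 1 * w1) * w0 - (b.1 0 0 * w0 + b.1 0 1 * w1) * w1) /
    (w0 * v 1 - w1 * v 0) with hγ
  have hγD : γ * (w0 * v 1 - w1 * v 0) =
      (b.1 1 0 * w0 + b.1 1 1 * w1) * w0 - (b.1 0 0 * w0 + b.1 0 1 * w1) * w1 := div_mul_cancel₀ _ hD
  have hMb : b.1 * M0 = M0 * (low γ).1 := by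
    ext i j
    fin_cases i <;> fin_cases j <;> simp [M0, low_coe, Matrix.mul_apply, Fin.sum_univ_two]
    · refine mul_right_cancel₀ hD ?_
      linear_combination (-v 0) * hγD - w0 * (w0 * bv1 - w1 * bv0) * 0
        + (w0 * (w0 * v 1 - w1 * v 0)) * tb - w0 * (w0 * bv1 - w1 * bv0)
    · linear_combination bv0
    · refine mul_right_cancel₀ hD ?_
      linear_combination (-v 1) * hγD
        + (w1 * (w0 * v 1 - w1 * v 0)) * tb - w1 * (w0 * bv1 - w1 * bv0)
    · linear_combination bv1
  refine ⟨M, γ, fun h => hab ?_, hMa, hMb⟩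
  have : b.1 * M.1 = M.1 := by
    show b.1 * M0 = M0
    rw [hMb, h]; simp [low_coe, ← Matrix.one_fin_two]
  have : b.1 = 1 := by simpa [mul_assoc] using congrArg (· * M⁻¹.1) this
  rw [show b = 1 from Subtype.ext this, mul_one, one_mul]

/-- Two non-commuting elements with braid relation in `PGL(2)` are standard. -/
theorem braid_standard (hp : p ≠ 2) {a b : SL(2, F)} (ha : a ^ p = 1) (hb : b ^ p = 1)
    (hab : a * b ≠ b * a) (hbr : toPGL (a * b * a) = toPGL (b * a * b)) :
    ∃ M : GL (Fin 2) F, a.1 * M.1 = M.1 * (up 1).1 ∧ b.1 * M.1 = M.1 * (low (-1)).1 := by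
  obtain ⟨M, γ, hγ, hMa, hMb⟩ := normal_form ha hb hab
  obtain ⟨s, hs, hs'⟩ : ∃ s : F, (s = 1 ∨ s = -1) ∧ (a * b * a).1 = s • (b * a * b).1 := by
    rcases toPGL_eq_iff hbr with h | h
    · exact ⟨1, Or.inl rfl, by rw [h, one_smul]⟩
    · exact ⟨-1, Or.inr rfl, by rw [h]; simp⟩
  have e : M.1 * ((up 1).1 * (low γ).1 * (up 1).1) = M.1 * (s • ((low γ).1 * (up 1).1 * (low γ).1)) := by
    have h1 : (a * b * a).1 * M.1 = M.1 * ((up 1).1 * (low γ).1 * (up 1).1) := by
      simp only [Matrix.SpecialLinearGroup.coe_mul, mul_assoc, hMa]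
      rw [← mul_assoc b.1 M.1, hMb]
      simp only [← mul_assoc]
      rw [hMa]
    have h2 : (b * a * b).1 * M.1 = M.1 * ((low γ).1 * (up 1).1 * (low γ).1) := by
      simp only [Matrix.SpecialLinearGroup.coe_mul, mul_assoc, hMb]
      rw [← mul_assoc a.1 M.1, hMa]
      simp only [← mul_assoc]
      rw [hMb]
    rw [← h1, hs', Matrix.smul_mul, h2, Matrix.mul_smul]
  have e := M.isUnit.mul_left_cancel e
  have e00 := congrFun (congrFun e 0) 0
  have e01 := congrFun (congrFun e 0) 1
  simp [up_coe, low_coe, Matrix.mul_fin_two] at e00 e01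
  have hγ1 : γ = -1 := by
    rcases hs with rfl | rfl
    · linear_combination e01
    · exfalso
      have : (2 : F) * (1 + γ) = 0 := by linear_combination e00
      have hg : 1 + γ = 0 := (mul_eq_zero.1 this).resolve_left (QuadraticSL2.two_ne_zero' hp)
      exact QuadraticSL2.two_ne_zero' hp (show (2 : F) = 0 by linear_combination e01 - hg)
  exact ⟨M, hMa, by rw [← hγ1]; exact hMb⟩

open Matrix.ProjGenLinGroup (mk)

theorem aff_pow (m : Fˣ) (b : F) (n : ℕ) : ∃ d, DicksonLine.aff m b ^ n = DicksonLine.aff (m ^ n) d := by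
  induction n with
  | zero => exact ⟨0, by rw [pow_zero, pow_zero, DicksonLine.aff_one]⟩
  | succ n ih =>
    obtain ⟨d, hd⟩ := ih
    exact ⟨_, by rw [pow_succ, hd, DicksonLine.aff_mul, pow_succ]⟩

/-- Elements of order `p` fixing a common point commute. -/
theorem commute_of_fix (hp : p ≠ 2) {a b : SL(2, F)} (ha : a ^ p = 1) (hb : b ^ p = 1)
    (x : OnePoint F) (hax : toPGL a • x = x) (hbx : toPGL b • x = x) : a * b = b * a := by
  obtain ⟨c, hc⟩ := DicksonLine.exists_smul_eq_infty x
  have key : ∀ g : SL(2, F), g ^ p = 1 → toPGL g • x = x →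
      ∃ d, c * toPGL g * c⁻¹ = DicksonLine.aff 1 d := by
    intro g hg hgx
    obtain ⟨m, d, e⟩ := DicksonLine.exists_aff
      (g := c * toPGL g * c⁻¹) (by rw [← hc, mul_smul, mul_smul, inv_smul_smul, hgx])
    obtain ⟨d', hd'⟩ := aff_pow m d p
    rw [← e, conj_pow, ← map_pow, hg, map_one, mul_one, mul_inv_cancel,
      ← DicksonLine.aff_one] at hd'
    have hm : (m : F) ^ p = 1 := by
      rw [← Units.val_pow_eq_pow_val, ← (DicksonLine.aff_inj hd').1, Units.val_one]
    have : ((m : F) - 1) ^ p = 0 := by rw [sub_pow_char, hm, one_pow, sub_self]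
    have hm1 : m = 1 := Units.ext (sub_eq_zero.1 (pow_eq_zero_iff (Fact.out : p.Prime).ne_zero |>.1 this))
    exact ⟨d, hm1 ▸ e⟩
  obtain ⟨d, hd⟩ := key a ha hax
  obtain ⟨d', hd'⟩ := key b hb hbx
  have h : c * toPGL (a * b) * c⁻¹ = c * toPGL (b * a) * c⁻¹ := by
    rw [map_mul, map_mul, ← conj_mul, ← conj_mul, hd, hd', DicksonLine.aff_mul, DicksonLine.aff_mul]
    simp [add_comm]
  rcases toPGL_eq_iff (mul_left_cancel (mul_right_cancel h)) with h | h
  · exact h
  · exfalso
    have e : a * b * a⁻¹ = -b := by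
      rw [h, mul_inv_eq_iff_eq_mul]
      apply Subtype.ext; simp
    have ht := congrArg (fun g : SL(2, F) => g.1.trace) e
    simp only [Matrix.SpecialLinearGroup.coe_mul, Matrix.SpecialLinearGroup.coe_neg,
      Matrix.trace_neg] at ht
    rw [Matrix.trace_mul_comm, ← mul_assoc, ← Matrix.SpecialLinearGroup.coe_mul, inv_mul_cancel,
      Matrix.SpecialLinearGroup.coe_one, one_mul, trace_two hb] at ht
    exact four_ne_zero' (p := p) hp (by linear_combination ht)

variable [Finite F]

/-- **Two non-commuting elements of order `p` in `R ≤ SL(2,F)` give a conjugate of `SL(2,p)`.** -/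
theorem exists_conj_SL2 (hp : p ≠ 2) (R : Subgroup SL(2, F)) {a b : SL(2, F)} (haR : a ∈ R)
    (hbR : b ∈ R) (ha : a ^ p = 1) (hb : b ^ p = 1) (hab : a * b ≠ b * a) :
    ∃ P : GL (Fin 2) F, ∀ A : SL(2, ZMod p), ∃ r ∈ R, r.1 =
      P.1 * A.1.map (ZMod.castHom (dvd_refl p) F) * P⁻¹.1 := by
  have hne : toPGL a ≠ 1 := by
    intro h
    rcases toPGL_eq_iff (h.trans (map_one toPGL).symm) with h | h <;>
      exact hab (by rw [h]; simp)
  set J := R.map toPGL
  have hJp : p ∣ Nat.card J := by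
    have h1 : orderOf (toPGL a) = p :=
      orderOf_eq_prime (by rw [← map_pow, ha, map_one]) hne
    exact h1 ▸ Subgroup.orderOf_dvd_natCard J (Subgroup.mem_map_of_mem _ haR)
  have hbraid : HasBraid p J := by
    have hp3 : ∀ n, p ∣ n → n = 12 ∨ n = 24 ∨ n = 60 → p = 3 ∨ (p = 5 ∧ n = 60) := by
      intro n hn h
      have hle : p ≤ n := Nat.le_of_dvd (by omega) hn
      have hpr : p.Prime := Fact.out
      rcases h with rfl | rfl | rfl <;> interval_cases p <;> first | omega | norm_num at *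
    rcases Dickson.dickson_pgl p J with ⟨-, h⟩ | ⟨x, hx, -⟩ | ⟨C, -, hC, hi, -⟩ | h | h | h | ⟨K, -, h⟩
    · exact absurd hJp h
    · exact absurd (commute_of_fix hp ha hb x (hx (Subgroup.mem_map_of_mem _ haR))
        (hx (Subgroup.mem_map_of_mem _ hbR))) hab
    · rw [← C.card_mul_index, hi, Nat.Prime.dvd_mul Fact.out] at hJp
      exact absurd ((Nat.prime_dvd_prime_iff_eq Fact.out Nat.prime_two).1 (hJp.resolve_left hC)) hp
    · obtain ⟨e⟩ := h
      have : Nat.card J = 12 := by
        rw [Nat.card_congr e.toEquiv, nat_card_alternatingGroup, Nat.card_fin]; rfl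
      obtain rfl := (hp3 _ hJp (Or.inl this)).resolve_right (by omega)
      exact hasBraid_map e.symm.toMonoidHom e.symm.injective braid_A4
    · obtain ⟨e⟩ := h
      have : Nat.card J = 24 := by
        rw [Nat.card_congr e.toEquiv, Nat.card_perm, Nat.card_fin]; rfl
      obtain rfl := (hp3 _ hJp (Or.inr (Or.inl this))).resolve_right (by omega)
      exact hasBraid_map e.symm.toMonoidHom e.symm.injective
        (hasBraid_map (alternatingGroup (Fin 4)).subtype Subtype.val_injective braid_A4)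
    · obtain ⟨e⟩ := h
      have : Nat.card J = 60 := by
        rw [Nat.card_congr e.toEquiv, nat_card_alternatingGroup, Nat.card_fin]; rfl
      rcases hp3 _ hJp (Or.inr (Or.inr this)) with h3 | ⟨h5, -⟩
      · subst h3; exact hasBraid_map e.symm.toMonoidHom e.symm.injective braid_A5_three
      · subst h5; exact hasBraid_map e.symm.toMonoidHom e.symm.injective braid_A5_five
    · have : CharP K p := charP_of_injective_ringHom K.subtype.injective p |> fun _ =>
        (RingHom.charP_iff K.subtype K.subtype.injective p).mpr inferInstance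
      rcases h with ⟨⟨e⟩⟩ | ⟨-, ⟨e⟩⟩
      · exact hasBraid_map e.symm.toMonoidHom e.symm.injective (braid_PGL K)
      · exact hasBraid_map e.symm.toMonoidHom e.symm.injective (braid_PSL K)
  obtain ⟨⟨x, hxJ⟩, ⟨y, hyJ⟩, hx, hy, hxy, hbr⟩ := hbraid
  obtain ⟨a', ha'R, rfl⟩ := hxJ
  obtain ⟨b', hb'R, rfl⟩ := hyJ
  have hbr : toPGL a' * toPGL b' * toPGL a' = toPGL b' * toPGL a' * toPGL b' :=
    congrArg Subtype.val hbr
  have hx : toPGL a' ^ p = 1 := congrArg Subtype.val hx
  have hy : toPGL b' ^ p = 1 := congrArg Subtype.val hy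
  have lift : ∀ g : SL(2, F), toPGL g ^ p = 1 →
      (g ^ (p + 1)) ^ p = 1 ∧ toPGL (g ^ (p + 1)) = toPGL g := by
    intro g hg
    obtain ⟨k, hk⟩ := (Nat.Prime.odd_of_ne_two Fact.out hp : Odd p)
    refine ⟨?_, by rw [map_pow, pow_succ, hg, one_mul]⟩
    rw [← pow_mul, show (p + 1) * p = p * (2 * (k + 1)) by rw [hk]; ring, pow_mul, pow_mul]
    rcases toPGL_eq_iff ((map_pow toPGL g p).trans (hg.trans (map_one toPGL).symm)) with h | h <;>
      rw [h] <;> simp
  obtain ⟨hA, hA'⟩ := lift a' hx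
  obtain ⟨hB, hB'⟩ := lift b' hy
  set A0 := a' ^ (p + 1)
  set B0 := b' ^ (p + 1)
  have hbr' : toPGL (A0 * B0 * A0) = toPGL (B0 * A0 * B0) := by
    simp only [map_mul, hA', hB', hbr]
  have hAB : A0 * B0 ≠ B0 * A0 := by
    intro h
    refine hxy (Subtype.ext ?_)
    have hc : toPGL a' * toPGL b' = toPGL b' * toPGL a' := by
      rw [← hA', ← hB', ← map_mul, ← map_mul, h]
    show toPGL a' = toPGL b'
    rw [hc] at hbr
    exact mul_left_cancel hbr
  obtain ⟨M, hMa, hMb⟩ := braid_standard hp hA hB hAB hbr'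
  refine ⟨M, ?_⟩
  let cast := ZMod.castHom (dvd_refl p) F
  let ψ : SL(2, ZMod p) →* GL (Fin 2) F :=
    (MulAut.conj M).toMonoidHom.comp
      (Matrix.SpecialLinearGroup.toGL.comp (Matrix.SpecialLinearGroup.map cast))
  let S := (R.map Matrix.SpecialLinearGroup.toGL).comap ψ
  have hu : up (1 : ZMod p) ∈ S := by
    refine ⟨A0, pow_mem ha'R _, Units.ext ?_⟩
    show A0.1 = M.1 * (up (1 : ZMod p)).1.map cast * M⁻¹.1
    rw [show (up (1 : ZMod p)).1.map cast = (up (1 : F)).1 by
      ext i j; fin_cases i <;> fin_cases j <;> simp [up_coe, cast], ← hMa, mul_assoc, Units.mul_inv, mul_one]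
  have hl : low (-1 : ZMod p) ∈ S := by
    refine ⟨B0, pow_mem hb'R _, Units.ext ?_⟩
    show B0.1 = M.1 * (low (-1 : ZMod p)).1.map cast * M⁻¹.1
    rw [show (low (-1 : ZMod p)).1.map cast = (low (-1 : F)).1 by
      ext i j; fin_cases i <;> fin_cases j <;> simp [low_coe, cast], ← hMb, mul_assoc, Units.mul_inv, mul_one]
  have hall : ∀ A : SL(2, ZMod p), A ∈ S := by
    refine PSLSimple.transvection_induction (fun A => A ∈ S) (fun i j hij c => ?_)
      (fun A B => S.mul_mem)
    fin_cases i <;> fin_cases j <;> try exact absurd rfl hij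
    · have : Matrix.SpecialLinearGroup.transvection hij c = up 1 ^ c.val := by
        rw [up_pow, ZMod.natCast_zmod_val, mul_one]
        apply Subtype.ext; ext i j
        fin_cases i <;> fin_cases j <;>
          simp [up_coe, Matrix.SpecialLinearGroup.transvection_coe, Matrix.single_apply]
      rw [this]; exact pow_mem hu _
    · have : Matrix.SpecialLinearGroup.transvection hij c = low (-1) ^ (-c).val := by
        rw [low_pow, ZMod.natCast_zmod_val, neg_mul_neg, mul_one]
        apply Subtype.ext; ext i j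
        fin_cases i <;> fin_cases j <;>
          simp [low_coe, Matrix.SpecialLinearGroup.transvection_coe, Matrix.single_apply]
      rw [this]; exact pow_mem hl _
  intro A
  obtain ⟨r, hr, e⟩ := hall A
  exact ⟨r, hr, congrArg (fun g : GL (Fin 2) F => g.1) e⟩

/-- The form with an upper and a lower unitriangular element. -/
theorem exists_conj_SL2_of_up_low (hp : p ≠ 2) (R : Subgroup SL(2, F)) {c : F} (hc : c ≠ 0)
    (hu : up c ∈ R) (hl : low 1 ∈ R) :
    ∃ P : GL (Fin 2) F, ∀ A : SL(2, ZMod p), ∃ r ∈ R, r.1 =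
      P.1 * A.1.map (ZMod.castHom (dvd_refl p) F) * P⁻¹.1 := by
  refine exists_conj_SL2 hp R hu hl (up_char p c) (low_char p 1) fun h => hc ?_
  have := congrArg (fun m : SL(2, F) => m.1 0 0) h
  simpa [up_coe, low_coe, Matrix.mul_fin_two] using this

/-- A conjugate copy as a subgroup. -/
theorem exists_le_equiv (hp : p ≠ 2) (R : Subgroup SL(2, F)) {a b : SL(2, F)} (haR : a ∈ R)
    (hbR : b ∈ R) (ha : a ^ p = 1) (hb : b ^ p = 1) (hab : a * b ≠ b * a) :
    ∃ K : Subgroup SL(2, F), K ≤ R ∧ Nonempty (K ≃* SL(2, ZMod p)) := by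
  obtain ⟨P, hP⟩ := exists_conj_SL2 hp R haR hbR ha hb hab
  choose r hr he using hP
  let φ : SL(2, ZMod p) →* SL(2, F) :=
    { toFun := r
      map_one' := Subtype.ext (by rw [he]; simp)
      map_mul' := fun A B => Subtype.ext (show (r (A * B)).1 = (r A).1 * (r B).1 by
        rw [he, he, he, Matrix.SpecialLinearGroup.coe_mul, Matrix.map_mul]
        simp [mul_assoc, ← mul_assoc P⁻¹.1 P.1]) }
  have hinj : Function.Injective φ := fun A B h => by
    have h : r A = r B := h
    have h' := congrArg Subtype.val h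
    rw [he, he] at h'
    have h'' := P.isUnit.mul_left_cancel ((P⁻¹).isUnit.mul_right_cancel h')
    exact Subtype.ext (Matrix.map_injective (ZMod.castHom (dvd_refl p) F).injective h'')
  refine ⟨φ.range, ?_, ⟨(MonoidHom.ofInjective hinj).symm⟩⟩
  rintro _ ⟨A, rfl⟩
  exact hr A

/-- A subgroup with more than one Sylow `p`-subgroup has two non-commuting elements of order `p`. -/
theorem exists_noncomm_of_sylow (R : Subgroup SL(2, F)) (hR : 1 < Nat.card (Sylow p R)) :
    ∃ a b : SL(2, F), a ∈ R ∧ b ∈ R ∧ a ^ p = 1 ∧ b ^ p = 1 ∧ a * b ≠ b * a := by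
  by_contra hc
  push Not at hc
  obtain ⟨P, Q, hPQ⟩ := (Finite.one_lt_card_iff_nontrivial.1 hR).exists_pair_ne
  have pow : ∀ (S : Sylow p R) (g : R), g ∈ (S : Subgroup R) → (g : SL(2, F)) ^ p = 1 := by
    intro S g hg
    obtain ⟨k, hk⟩ := S.isPGroup' ⟨g, hg⟩
    refine QuadraticSL2.pow_eq_one_of_trace (QuadraticSL2.trace_of_pow_eq_one (k := k) ?_)
    exact congrArg (fun t : (S : Subgroup R) => ((t : R) : SL(2, F))) hk
  refine hPQ (Sylow.ext (Subgroup.eq_of_le_of_card_ge (fun g hg => ?_) ?_))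
  · have hgN : g ∈ Subgroup.normalizer ((Q : Subgroup R) : Set R) := by
      rw [Subgroup.mem_normalizer_iff]
      intro h
      have key : ∀ h ∈ (Q : Subgroup R), g * h * g⁻¹ = h := fun h hh => by
        rw [mul_inv_eq_iff_eq_mul]
        exact Subtype.ext (hc g h g.2 h.2 (pow P g hg) (pow Q h hh))
      constructor
      · intro hh; rw [key h hh]; exact hh
      · intro hh
        have e : g * h * g⁻¹ = h := mul_left_cancel (mul_right_cancel (key _ hh))
        rwa [e] at hh
    exact DicksonSmall.mem_of_mem_normalizer_sylow Q hgN (n := 1)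
      (Subtype.ext (by simpa using pow P g hg))
  · rw [Sylow.card_eq_multiplicity, Sylow.card_eq_multiplicity]

end Cfsg.Agent.SL2TwoUnipotent
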