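import Cfsg.Agent.Lib.PSL2Elements
import Cfsg.Agent.Lib.SL2TwoUnipotent

/-!
Automorphisms of `SL(2,p)` and the centralisers they define.
-/

set_option autoImplicit false

namespace Cfsg.Agent.CycSyl43SLFacts32

open Matrix
open scoped MatrixGroups
open Cfsg.Agent.PSL2Elements
open Cfsg.Agent.SL2TwoUnipotent (up low up_coe low_coe up_add up_pow low_pow up_char low_char
  braid_up_low braid_standard toPGL)

variable {p : ℕ} [Fact p.Prime]

/-- The order of the fixed points of an outer involutory automorphism. -/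
def Kc (p : ℕ) : ℕ := if p % 4 = 1 then p + 1 else p - 1

/-- The order of the centraliser of an element of order four. -/
def Tc (p : ℕ) : ℕ := if p % 4 = 1 then p - 1 else p + 1

theorem two_ne (hp : p ≠ 2) : (2 : ZMod p) ≠ 0 := QuadraticSL2.two_ne_zero' hp

/-- A subgroup containing both unipotent groups is everything. -/
theorem eq_top_of_unip (K : Subgroup SL(2, ZMod p)) (hu : ∀ x, up x ∈ K) (hl : ∀ x, low x ∈ K) :
    K = ⊤ := by
  refine eq_top_iff.2 fun A _ => Matrix.SL2.transvection_induction (fun A => A ∈ K)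
    (fun i j h c => ?_) (fun A B => K.mul_mem) A
  fin_cases i <;> fin_cases j <;> try exact absurd rfl h
  · convert hu c
    ext i j
    fin_cases i <;> fin_cases j <;>
      simp [up_coe, Matrix.SpecialLinearGroup.transvection_coe, Matrix.single_apply]
  · convert hl c
    ext i j
    fin_cases i <;> fin_cases j <;>
      simp [low_coe, Matrix.SpecialLinearGroup.transvection_coe, Matrix.single_apply]

/-- Two generators. -/
theorem eq_top_of_gen (K : Subgroup SL(2, ZMod p)) (hu : up 1 ∈ K) (hl : low (-1) ∈ K) : K = ⊤ := by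
  refine eq_top_of_unip K (fun x => ?_) fun x => ?_
  · have := pow_mem hu x.val
    rwa [up_pow, ZMod.natCast_zmod_val, mul_one] at this
  · have := pow_mem hl (-x).val
    rwa [low_pow, ZMod.natCast_zmod_val, neg_mul_neg, mul_one] at this

/-- Squares generate. -/
theorem eq_top_of_sq (hp : p ≠ 2) (K : Subgroup SL(2, ZMod p)) (h : ∀ A, A ^ 2 ∈ K) : K = ⊤ := by
  refine eq_top_of_unip K (fun x => ?_) fun x => ?_
  · have := h (up (x / 2))
    rwa [up_pow, Nat.cast_two, mul_div_cancel₀ _ (two_ne hp)] at this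
  · have := h (low (x / 2))
    rwa [low_pow, Nat.cast_two, mul_div_cancel₀ _ (two_ne hp)] at this

theorem commutator_top (hp : 5 ≤ p) : commutator SL(2, ZMod p) = ⊤ := by
  refine Matrix.SL2.commutator_eq_top (a := 2) (two_ne (by omega)) fun h => ?_
  have h3 : ((3 : ℕ) : ZMod p) = 0 := by push_cast; linear_combination h
  rw [ZMod.natCast_eq_zero_iff] at h3
  have := Nat.le_of_dvd (by norm_num) h3
  omega

theorem not_solvable (hp : 5 ≤ p) : ¬ Group.IsSolvable SL(2, ZMod p) := by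
  intro h
  have : Nontrivial SL(2, ZMod p) := ⟨⟨up 1, 1, fun e => by
    have := congrArg (fun A : SL(2, ZMod p) => A.1 0 1) e
    simp [up_coe] at this⟩⟩
  exact (IsSolvable.commutator_lt_top_of_nontrivial _).ne (commutator_top hp)

/-- Every automorphism is conjugation by a matrix. -/
theorem exists_rep (hp : p ≠ 2) (φ : SL(2, ZMod p) ≃* SL(2, ZMod p)) :
    ∃ g : Matrix (Fin 2) (Fin 2) (ZMod p), g.det ≠ 0 ∧ ∀ A, (φ A).1 * g = g * A.1 := by
  have hne : φ (up 1) * φ (low (-1)) ≠ φ (low (-1)) * φ (up 1) := by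
    rw [← map_mul, ← map_mul]
    intro h
    have := congrArg (fun A : SL(2, ZMod p) => A.1 0 0) (φ.injective h)
    simp [up_coe, low_coe, Matrix.mul_fin_two] at this
  obtain ⟨M, hMa, hMb⟩ := braid_standard hp (a := φ (up 1)) (b := φ (low (-1)))
    (by rw [← map_pow, up_char p, map_one]) (by rw [← map_pow, low_char p, map_one]) hne
    (by rw [← map_mul, ← map_mul, braid_up_low, map_mul φ, map_mul φ])
  refine ⟨M.1, (Matrix.isUnit_iff_isUnit_det _).1 M.isUnit |>.ne_zero, fun A => ?_⟩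
  let K : Subgroup SL(2, ZMod p) :=
    { carrier := {A | (φ A).1 * M.1 = M.1 * A.1}
      one_mem' := by simp
      mul_mem' := fun {A B} (hA : (φ A).1 * M.1 = M.1 * A.1) (hB : (φ B).1 * M.1 = M.1 * B.1) => by
        show (φ (A * B)).1 * M.1 = M.1 * (A * B).1
        rw [map_mul φ A B, coe_mul', coe_mul', mul_assoc, hB, ← mul_assoc, hA, mul_assoc]
      inv_mem' := fun {A} (hA : (φ A).1 * M.1 = M.1 * A.1) => by
        show (φ A⁻¹).1 * M.1 = M.1 * (A⁻¹).1
        calc (φ A⁻¹).1 * M.1 = (φ A⁻¹).1 * (M.1 * A.1) * (A⁻¹).1 := by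
              rw [mul_assoc, mul_assoc, ← coe_mul', mul_inv_cancel A, coe_one', mul_one]
          _ = M.1 * (A⁻¹).1 := by
              rw [← hA, ← mul_assoc, ← coe_mul', ← map_mul φ A⁻¹ A, inv_mul_cancel A,
                map_one, coe_one', one_mul] }
  have hK : K = ⊤ := eq_top_of_gen K hMa hMb
  exact (hK ▸ Subgroup.mem_top A : A ∈ K)

/-- An automorphism which is not inner. -/
def Outer (φ : SL(2, ZMod p) ≃* SL(2, ZMod p)) : Prop :=
  ¬ ∃ s, ∀ A, φ A = s * A * s⁻¹

theorem outer_rep (hp : p ≠ 2) {φ : SL(2, ZMod p) ≃* SL(2, ZMod p)} (hφ : Outer φ) :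
    ∃ g : Matrix (Fin 2) (Fin 2) (ZMod p), g.det ≠ 0 ∧ ¬ IsSquare g.det ∧
      ∀ A, (φ A).1 * g = g * A.1 := by
  obtain ⟨g, hg, hrep⟩ := exists_rep hp φ
  refine ⟨g, hg, ?_, hrep⟩
  rintro ⟨r, hr⟩
  have hr0 : r ≠ 0 := fun h => hg (by simp [hr, h])
  have hd : (r⁻¹ • g).det = 1 := by
    rw [Matrix.det_smul, hr, Fintype.card_fin]
    field_simp
  let s0 : SL(2, ZMod p) := ⟨r⁻¹ • g, hd⟩
  refine hφ ⟨s0, fun A => eq_mul_inv_iff_mul_eq.2 (Subtype.ext ?_)⟩
  rw [coe_mul', coe_mul']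
  show (φ A).1 * (r⁻¹ • g) = (r⁻¹ • g) * A.1
  simp only [Matrix.mul_smul, Matrix.smul_mul, hrep]

theorem tr_map (hp : p ≠ 2) (φ : SL(2, ZMod p) ≃* SL(2, ZMod p)) (A : SL(2, ZMod p)) :
    tr (φ A) = tr A := by
  obtain ⟨g, hg, hrep⟩ := exists_rep hp φ
  have hu : IsUnit g.det := isUnit_iff_ne_zero.2 hg
  rw [tr_eq, tr_eq]
  calc (φ A).1.trace = ((φ A).1 * g * g⁻¹).trace := by rw [mul_assoc, Matrix.mul_nonsing_inv _ hu, mul_one]
    _ = (g * A.1 * g⁻¹).trace := by rw [hrep]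
    _ = A.1.trace := by rw [Matrix.trace_mul_comm, ← mul_assoc, Matrix.nonsing_inv_mul _ hu, one_mul]

theorem tr_sq_ne_four {A : SL(2, ZMod p)} (h : A ^ (2 * p) ≠ 1) : tr A ^ 2 ≠ 4 := by
  intro h4
  have : (tr A - 2) * (tr A + 2) = 0 := by linear_combination h4
  apply h
  rcases mul_eq_zero.1 this with e | e
  · rw [mul_comm, pow_mul, pow_char p (sub_eq_zero.1 e), one_pow]
  · have h1 := pow_char p (A := -A) (by rw [tr_neg, eq_neg_of_add_eq_zero_left e, neg_neg])
    calc A ^ (2 * p) = (-A) ^ (2 * p) := ((even_two_mul p).neg_pow A).symm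
      _ = 1 := by rw [mul_comm, pow_mul, h1, one_pow]

theorem not_central {A : SL(2, ZMod p)} (h : tr A ^ 2 ≠ 4) : A ∉ Subgroup.center SL(2, ZMod p) :=
  fun hc => h (tr_sq_eq_four_of_mem_center hc)

theorem val_commute {A B : SL(2, ZMod p)} (h : B * A = A * B) : B.1 * A.1 = A.1 * B.1 := by
  rw [← coe_mul', h, coe_mul']

theorem inv_eq_sub (A : SL(2, ZMod p)) : (A⁻¹).1 = tr A • (1 : Matrix _ _ (ZMod p)) - A.1 := by
  obtain ⟨h1, h2, h3, h4⟩ := inv_apply A
  ext i j
  fin_cases i <;> fin_cases j <;> simp [h1, h2, h3, h4, tr]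

/-- Commuting elements of the same trace are equal or inverse. -/
theorem commute_tr (hp : p ≠ 2) {A B : SL(2, ZMod p)} (hA : tr A ^ 2 ≠ 4) (hc : B * A = A * B)
    (ht : tr B = tr A) : B = A ∨ B = A⁻¹ := by
  have hAc := not_central hA
  have hBA := val_commute hc
  obtain ⟨x, y, hxy⟩ := exists_eq_of_commute (B := B.1) hAc hBA
  have hx : 2 * x + y * tr A = tr A := by
    have h := ht
    simp [tr, hxy] at h
    simp [tr]
    linear_combination h
  have hd : x ^ 2 + tr A * x * y + y ^ 2 = 1 := by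
    have h1 := det_eq B
    rw [hxy] at h1
    simp at h1
    have h2 := det_eq A
    simp [tr]
    linear_combination h1 - y ^ 2 * h2
  have : (y - 1) * (y + 1) * (4 - tr A ^ 2) = 0 := by
    linear_combination 4 * hd - (2 * x + y * tr A + tr A) * hx
  rcases mul_eq_zero.1 this with e | e
  · rcases mul_eq_zero.1 e with e | e
    · obtain rfl : y = 1 := sub_eq_zero.1 e
      have : x = 0 :=
        (mul_eq_zero.1 (show 2 * x = 0 by linear_combination hx)).resolve_left (two_ne hp)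
      left
      exact Subtype.ext (by rw [hxy, this, zero_smul, one_smul, zero_add])
    · obtain rfl : y = -1 := eq_neg_of_add_eq_zero_left e
      right
      refine Subtype.ext ?_
      have : x = tr A := mul_left_cancel₀ (two_ne hp) (by linear_combination hx)
      rw [inv_eq_sub, hxy, this, neg_one_smul, sub_eq_add_neg]
  · exact absurd (by linear_combination -e) hA

/-- Elements inverting `W` invert its centraliser. -/
theorem conj_inv_of {W A s : SL(2, ZMod p)} (hW : W ∉ Subgroup.center SL(2, ZMod p))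
    (hs : s * W * s⁻¹ = W⁻¹) (hA : A * W = W * A) : s * A * s⁻¹ = A⁻¹ := by
  rw [mul_inv_eq_iff_eq_mul]
  obtain ⟨x, y, hxy⟩ := exists_eq_of_commute hW (val_commute hA)
  refine Subtype.ext ?_
  have e := mul_inv_eq_iff_eq_mul.1 hs
  have hsW : s.1 * W.1 = (W⁻¹).1 * s.1 := by rw [← coe_mul', ← coe_mul', e]
  have htr : tr A = 2 * x + y * tr W := by simp [tr, hxy]; ring
  rw [coe_mul', coe_mul', inv_eq_sub, htr, hxy, mul_add,
    Matrix.mul_smul, Matrix.mul_smul, hsW, inv_eq_sub, mul_one]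
  simp only [sub_mul, add_mul, Matrix.smul_mul, one_mul, smul_sub, smul_smul]
  module

/-- An automorphism fixing `s` fixes its centraliser. -/
theorem fix_centralizer (hp : p ≠ 2) (φ : SL(2, ZMod p) ≃* SL(2, ZMod p)) {s A : SL(2, ZMod p)}
    (hs : tr s ^ 2 ≠ 4) (hφ : φ s = s) (hA : A * s = s * A) : φ A = A := by
  obtain ⟨g, hg, hrep⟩ := exists_rep hp φ
  have hsc := not_central hs
  have hAs := val_commute hA
  obtain ⟨x, y, hxy⟩ := exists_eq_of_commute (B := A.1) hsc hAs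
  have h1 := hrep s
  rw [hφ] at h1
  refine Subtype.ext (((Matrix.isUnit_iff_isUnit_det g).2 (isUnit_iff_ne_zero.2 hg)).mul_right_cancel ?_)
  rw [hrep, hxy, mul_add, add_mul, Matrix.mul_smul, Matrix.mul_smul, Matrix.smul_mul,
    Matrix.smul_mul, one_mul, mul_one, h1]

theorem exists_root_iff (hp : p ≠ 2) (t : ZMod p) :
    (∃ r : ZMod p, r ^ 2 - t * r + 1 = 0) ↔ IsSquare (t ^ 2 - 4) := by
  have h2 := two_ne hp
  constructor
  · rintro ⟨r, hr⟩
    exact ⟨2 * r - t, by linear_combination -4 * hr⟩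
  · rintro ⟨w, hw⟩
    refine ⟨(t + w) / 2, ?_⟩
    field_simp
    linear_combination -hw

theorem centralizer_sq_neg_one (hp : p ≠ 2) {s : SL(2, ZMod p)} (hs : s * s = -1) :
    tr s ^ 2 ≠ 4 ∧ IsCyclic (Subgroup.centralizer ({s} : Set SL(2, ZMod p))) ∧
      Nat.card (Subgroup.centralizer ({s} : Set SL(2, ZMod p))) = Tc p := by
  have h2 := two_ne hp
  have ht : tr s = 0 := (sq_eq_neg_one_iff s h2).1 (by rw [sq, hs])
  have h4 : tr s ^ 2 ≠ 4 := fun h => h2 (mul_self_eq_zero.1 (by rw [ht] at h; linear_combination -h))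
  obtain ⟨hc, h⟩ := centralizer_semisimple h4
  refine ⟨h4, hc, ?_⟩
  have hodd : p % 2 = 1 := (Fact.out : p.Prime).mod_two_eq_one_iff_ne_two.2 hp
  have hiff : (∃ r : ZMod p, r ^ 2 - tr s * r + 1 = 0) ↔ p % 4 = 1 := by
    rw [ht]
    have : (∃ r : ZMod p, r ^ 2 - 0 * r + 1 = 0) ↔ IsSquare (-1 : ZMod p) :=
      ⟨fun ⟨r, hr⟩ => ⟨r, by linear_combination -hr⟩, fun ⟨r, hr⟩ => ⟨r, by linear_combination -hr⟩⟩
    rw [this, ZMod.exists_sq_eq_neg_one_iff]
    omega
  rw [Tc]
  rcases h with ⟨hr, hcard⟩ | ⟨hr, hcard⟩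
  · rw [hcard, Nat.card_zmod, if_pos (hiff.1 hr)]
  · rw [hcard, Nat.card_zmod, if_neg fun h => (hiff.2 h).elim fun r hh => hr r hh]

/-- The fixed points of an automorphism. -/
def fixed (φ : SL(2, ZMod p) ≃* SL(2, ZMod p)) : Subgroup SL(2, ZMod p) :=
  φ.toMonoidHom.eqLocus (MonoidHom.id _)

theorem mem_fixed {φ : SL(2, ZMod p) ≃* SL(2, ZMod p)} {A : SL(2, ZMod p)} :
    A ∈ fixed φ ↔ φ A = A := Iff.rfl

/-- An element `W` generating the fixed points of an outer involutory automorphism. -/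
theorem outer_witness (hp : 5 ≤ p) {φ : SL(2, ZMod p) ≃* SL(2, ZMod p)} (hφ : Outer φ)
    (h2 : ∀ A, φ (φ A) = A) :
    ∃ W : SL(2, ZMod p), tr W ^ 2 ≠ 4 ∧ fixed φ = Subgroup.centralizer ({W} : Set SL(2, ZMod p)) ∧
      ((∃ r : ZMod p, r ^ 2 - tr W * r + 1 = 0) ↔ p % 4 = 3) ∧
      (∀ s, φ s = -s → s * W * s⁻¹ = W⁻¹) := by
  have hp2 : p ≠ 2 := by omega
  have htwo := two_ne hp2
  obtain ⟨g, hg, hns, hrep⟩ := outer_rep hp2 hφ
  have hgu := (Matrix.isUnit_iff_isUnit_det g).2 (isUnit_iff_ne_zero.2 hg)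
  have hcomm : ∀ A : SL(2, ZMod p), A.1 * (g * g) = g * g * A.1 := by
    intro A
    have h1 := hrep (φ A)
    rw [h2] at h1
    rw [← mul_assoc, h1, mul_assoc, hrep, mul_assoc]
  -- `g` has trace zero
  have e00 := congrFun (congrFun (hcomm (up 1)) 0) 0
  have e01 := congrFun (congrFun (hcomm (up 1)) 0) 1
  have f00 := congrFun (congrFun (hcomm (low 1)) 0) 0
  simp [up_coe, low_coe, Matrix.mul_apply, Fin.sum_univ_two] at e00 e01 f00
  have htr : g 0 0 + g 1 1 = 0 := by
    by_contra hne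
    apply hns
    have h10 : g 1 0 = 0 := (mul_eq_zero.1 (show (g 0 0 + g 1 1) * g 1 0 = 0 by linear_combination e00)).resolve_left hne
    have h01 : g 0 1 = 0 := (mul_eq_zero.1 (show (g 0 0 + g 1 1) * g 0 1 = 0 by linear_combination f00)).resolve_left hne
    have hd : g 0 0 = g 1 1 := sub_eq_zero.1 ((mul_eq_zero.1
      (show (g 0 0 + g 1 1) * (g 0 0 - g 1 1) = 0 by linear_combination -e01)).resolve_left hne)
    exact ⟨g 1 1, by rw [Matrix.det_fin_two, h10, h01, hd]; ring⟩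
  set c := -g.det with hc
  have hcf : c = g 0 0 * g 0 0 + g 0 1 * g 1 0 := by
    rw [hc, Matrix.det_fin_two]
    linear_combination (-g 0 0) * htr
  have hc0 : c ≠ 0 := neg_ne_zero.2 hg
  obtain ⟨m, hm, hcm⟩ : ∃ m : ZMod p, m ≠ 0 ∧ 1 - c * m ^ 2 ≠ 0 := by
    by_cases h1 : c = 1
    · refine ⟨2, htwo, fun h => ?_⟩
      have h3 : ((3 : ℕ) : ZMod p) = 0 := by rw [h1] at h; push_cast; linear_combination -h
      rw [ZMod.natCast_eq_zero_iff] at h3
      have := Nat.le_of_dvd (by norm_num) h3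
      omega
    · exact ⟨1, one_ne_zero, fun h => h1 (by linear_combination -h)⟩
  obtain ⟨α, β, hβ, hab⟩ : ∃ α β : ZMod p, β ≠ 0 ∧ α ^ 2 - c * β ^ 2 = 1 :=
    ⟨(1 + c * m ^ 2) / (1 - c * m ^ 2), 2 * m / (1 - c * m ^ 2),
      div_ne_zero (mul_ne_zero htwo hm) hcm, by field_simp; ring⟩
  let W : SL(2, ZMod p) := mk2 (α + β * g 0 0) (β * g 0 1) (β * g 1 0) (α + β * g 1 1)
    (by linear_combination hab + α * β * htr + β ^ 2 * g 0 0 * htr + β ^ 2 * hcf)
  have hW : W.1 = α • (1 : Matrix (Fin 2) (Fin 2) (ZMod p)) + β • g := by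
    ext i j
    fin_cases i <;> fin_cases j <;> simp [W]
  have htW : tr W = 2 * α := by
    simp [tr, W]
    linear_combination β * htr
  have hW4 : tr W ^ 2 ≠ 4 := by
    rw [htW]
    intro h
    have : (2 * β) ^ 2 * c = 0 := by linear_combination h - 4 * hab
    rcases mul_eq_zero.1 this with e | e
    · exact mul_ne_zero htwo hβ (pow_eq_zero_iff two_ne_zero |>.1 e)
    · exact hc0 e
  refine ⟨W, hW4, ?_, ?_, fun s hs => ?_⟩
  · ext A
    rw [mem_fixed, Subgroup.mem_centralizer_singleton_iff]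
    have h3 : A * W = W * A ↔ A.1 * g = g * A.1 := by
      have h4 : A * W = W * A ↔ A.1 * W.1 = W.1 * A.1 :=
        ⟨fun h => by rw [← coe_mul', h, coe_mul'], fun h => Subtype.ext h⟩
      rw [h4, hW]
      simp only [mul_add, add_mul, Matrix.mul_smul, Matrix.smul_mul, one_mul, mul_one,
        add_right_inj]
      exact ⟨fun h => smul_right_injective _ hβ h, fun h => by rw [h]⟩
    rw [h3]
    refine ⟨fun h => by rw [← hrep A, h], fun h => Subtype.ext (hgu.mul_right_cancel ?_)⟩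
    rw [hrep, h]
  · rw [exists_root_iff hp2, htW, show (2 * α) ^ 2 - 4 = (2 * β) ^ 2 * c by linear_combination 4 * hab]
    have hne : 2 * β ≠ 0 := mul_ne_zero htwo hβ
    have h1 : IsSquare ((2 * β) ^ 2 * c) ↔ IsSquare c :=
      ⟨fun ⟨w, hw⟩ => ⟨w / (2 * β), by field_simp; linear_combination hw⟩,
        fun ⟨w, hw⟩ => ⟨2 * β * w, by rw [hw]; ring⟩⟩
    rw [h1]
    have hm1 : IsSquare (-1 : ZMod p) ↔ p % 4 ≠ 3 := ZMod.exists_sq_eq_neg_one_iff
    constructor
    · rintro ⟨w, hw⟩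
      by_contra h
      obtain ⟨i, hi⟩ := hm1.2 h
      exact hns ⟨i * w, by linear_combination -hw + (w * w) * hi⟩
    · intro h
      have hm1' : ¬ IsSquare (-1 : ZMod p) := fun h' => hm1.1 h' h
      have hr : ringChar (ZMod p) ≠ 2 := by rw [ZMod.ringChar_zmod_n]; exact hp2
      rw [← quadraticChar_one_iff_isSquare hc0, show c = -1 * g.det by rw [hc]; ring, map_mul,
        quadraticChar_neg_one_iff_not_isSquare.2 hm1', quadraticChar_neg_one_iff_not_isSquare.2 hns]
      rfl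
  · refine mul_inv_eq_iff_eq_mul.2 (Subtype.ext ?_)
    have hsg : s.1 * g = -(g * s.1) := by
      have := hrep s
      rw [hs, coe_neg', neg_mul] at this
      rw [← this, neg_neg]
    rw [coe_mul', coe_mul', inv_eq_sub, htW, hW, mul_add,
      Matrix.mul_smul, Matrix.mul_smul, hsg, mul_one]
    simp only [sub_mul, add_mul, Matrix.smul_mul, one_mul, smul_neg]
    module

theorem outer_fixed (hp : 5 ≤ p) {φ : SL(2, ZMod p) ≃* SL(2, ZMod p)} (hφ : Outer φ)
    (h2 : ∀ A, φ (φ A) = A) : IsCyclic (fixed φ) ∧ Nat.card (fixed φ) = Kc p := by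
  obtain ⟨W, hW, hf, hroot, -⟩ := outer_witness hp hφ h2
  obtain ⟨hc, h⟩ := centralizer_semisimple hW
  rw [hf]
  refine ⟨hc, ?_⟩
  have hodd : p % 2 = 1 := (Fact.out : p.Prime).mod_two_eq_one_iff_ne_two.2 (by omega)
  rw [Kc]
  rcases h with ⟨hr, hcard⟩ | ⟨hr, hcard⟩
  · rw [hcard, Nat.card_zmod, if_neg (by have := hroot.1 hr; omega)]
  · rw [hcard, Nat.card_zmod, if_pos]
    by_contra hne
    obtain ⟨r, hh⟩ := hroot.2 (by omega)
    exact hr r hh

/-- An element sent to its negative inverts the fixed points. -/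
theorem outer_anti (hp : 5 ≤ p) {φ : SL(2, ZMod p) ≃* SL(2, ZMod p)} (hφ : Outer φ)
    (h2 : ∀ A, φ (φ A) = A) {s A : SL(2, ZMod p)} (hs : φ s = -s) (hA : φ A = A) :
    s * A * s⁻¹ = A⁻¹ := by
  obtain ⟨W, hW, hf, -, hanti⟩ := outer_witness hp hφ h2
  refine conj_inv_of (not_central hW) (hanti s hs) ?_
  have : A ∈ Subgroup.centralizer ({W} : Set SL(2, ZMod p)) := hf ▸ mem_fixed.2 hA
  exact Subgroup.mem_centralizer_singleton_iff.1 this

/-- The centraliser of a noncentral fixed point consists of fixed points. -/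
theorem fixed_of_commute (hp : 5 ≤ p) {φ : SL(2, ZMod p) ≃* SL(2, ZMod p)} (hφ : Outer φ)
    (h2 : ∀ A, φ (φ A) = A) {A B : SL(2, ZMod p)} (hA : φ A = A)
    (hAc : A ∉ Subgroup.center SL(2, ZMod p)) (hB : B * A = A * B) : φ B = B := by
  obtain ⟨W, -, hf, -, -⟩ := outer_witness hp hφ h2
  have hAW : A * W = W * A :=
    Subgroup.mem_centralizer_singleton_iff.1 (hf ▸ mem_fixed.2 hA)
  obtain ⟨h1, h2'⟩ := (not_mem_center_iff _).1 hAc
  have := QuadraticSL2.commute_of_commute h1 h2' hB hAW.symm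
  exact mem_fixed.1 (hf ▸ Subgroup.mem_centralizer_singleton_iff.2 this)

/-- `PSL(2,p)` has no quaternion-like pair. -/
theorem psl_no_pair (hp : p ≠ 2) {a b : Matrix.ProjectiveSpecialLinearGroup (Fin 2) (ZMod p)}
    (hab : a * a = b * b) (hb : b * a * b⁻¹ = a⁻¹) : a * a = 1 := by
  obtain ⟨A, rfl⟩ := QuotientGroup.mk_surjective a
  obtain ⟨B, rfl⟩ := QuotientGroup.mk_surjective b
  rw [← QuotientGroup.mk_mul, ← QuotientGroup.mk_mul, QuotientGroup.eq] at hab
  rw [← QuotientGroup.mk_mul]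
  by_contra hne
  have hW : A * A ∉ Subgroup.center SL(2, ZMod p) := fun h =>
    hne ((QuotientGroup.eq_one_iff _).2 h)
  obtain ⟨h1, h2⟩ := (not_mem_center_iff _).1 hW
  have hcB : B * (A * A) = A * A * B := by
    have e : A * A = B * B * ((A * A)⁻¹ * (B * B))⁻¹ := by
      rw [_root_.mul_inv_rev, inv_inv, mul_inv_cancel_left]
    have hz := Subgroup.mem_center_iff.1 (inv_mem hab) B
    generalize ((A * A)⁻¹ * (B * B))⁻¹ = z at e hz
    rw [e, mul_assoc (B * B), ← hz]
    simp only [mul_assoc]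
  have hAB := QuadraticSL2.commute_of_commute h1 h2
    (show A * (A * A) = A * A * A by rw [mul_assoc]) hcB
  apply hne
  rw [QuotientGroup.mk_mul]
  have hcomm : (QuotientGroup.mk B : _ ⧸ Subgroup.center SL(2, ZMod p)) * QuotientGroup.mk A =
      QuotientGroup.mk A * QuotientGroup.mk B := by
    rw [← QuotientGroup.mk_mul, ← QuotientGroup.mk_mul, hAB]
  rw [hcomm, mul_inv_cancel_right] at hb
  exact mul_eq_one_iff_eq_inv.2 hb

end Cfsg.Agent.CycSyl43SLFacts32
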