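import Cfsg.Agent.Lib.CycSyl43SemiGLTI
import Cfsg.Agent.Lib.CycSyl43TI

/-!
The two class functions on the centraliser in the semidihedral configuration with `GL(2,3)`, and
their sums over pairs of involutions.
-/

set_option autoImplicit false

namespace Cfsg.Agent.CycSyl43SemiGL

open BinaryOctahedral GL23CentModel CycSyl43SemiGLModel
open Cfsg.Agent.CycSyl43
open Cfsg.Agent.CharBasic Cfsg.Agent.CharBasicDecomp Cfsg.Agent.CharInduced
open scoped ComplexConjugate IsMulCommutative

universe u

variable {T : Type u} [Group T] [Finite T] {t : T} {O : Subgroup T} {φ : T → Coord}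

set_option synthInstance.maxSize 2000 in
theorem torus_normalizer : ∀ z u : Coord, pSL z → pSL u → powC z 3 = oneC →
    (cjC u z = oneC ∨ cjC u z = z ∨ cjC u z = powC z 2) →
    z = oneC ∨ ∃ j : Fin 3, u = powC z (j : ℕ) ∨ u = mC tC (powC z (j : ℕ)) := by
  decide +kernel

/-- The preimage in the centraliser of a subgroup of the coordinates. -/
def preSub (hF : Frame t O φ) (p : Coord → Prop) (hp : Closed p) :
    Subgroup (Subgroup.centralizer ({t} : Set T)) where
  carrier := {c | p (φ c)}
  one_mem' := by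
    show p (φ ((1 : Subgroup.centralizer ({t} : Set T)) : T))
    rw [Subgroup.coe_one, hF.map_one]
    exact hp.1
  mul_mem' {a b} ha hb := by
    show p (φ ((a : T) * b))
    rw [hF.mul _ _ (of_mem_cent a.2) (of_mem_cent b.2)]
    exact hp.2.2 _ ha _ hb
  inv_mem' {a} ha := by
    show p (φ (a : T)⁻¹)
    rw [hF.map_inv (of_mem_cent a.2)]
    exact hp.2.1 _ ha

theorem mem_preSub (hF : Frame t O φ) {p : Coord → Prop} (hp : Closed p)
    {c : Subgroup.centralizer ({t} : Set T)} : c ∈ preSub hF p hp ↔ p (φ c) := Iff.rfl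

/-- The subgroup of index two. -/
abbrev plusSub (hF : Frame t O φ) : Subgroup (Subgroup.centralizer ({t} : Set T)) :=
  preSub hF pSL closed_pSL

theorem plus_index (hF : Frame t O φ) : (plusSub hF).index = 2 := by
  obtain ⟨a, ha, he⟩ := hF.surj (1, 0, 1)
  refine Subgroup.index_eq_two_iff.2 ⟨⟨a, mem_cent ha⟩, fun b => ?_⟩
  have key : ∀ x, pSL x ∧ ¬ pSL (mC x ((1, 0, 1) : Coord)) ∨
      ¬ pSL x ∧ pSL (mC x ((1, 0, 1) : Coord)) := by decide +kernel
  have hmul : φ ((b * ⟨a, mem_cent ha⟩ : Subgroup.centralizer ({t} : Set T)) : T) =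
      mC (φ b) (1, 0, 1) := by
    rw [Subgroup.coe_mul, hF.mul _ _ (of_mem_cent b.2) ha, he]
  rcases key (φ b) with ⟨h1, h2⟩ | ⟨h1, h2⟩
  · exact Or.inr ⟨h1, fun h => h2 (hmul ▸ h)⟩
  · exact Or.inl ⟨show pSL _ by rw [hmul]; exact h2, h1⟩


section Main

variable (hA : Assembly.{u}) (hm : CycSyl43.Min T) (hF : Frame t O φ)
include hA hm hF

theorem outer_sq {c : T} (hc : Commute c t) (ho : Outer (φ c)) : c * c = 1 := by
  have hO : c * c ∈ O := by
    rw [← hF.ker _ (hc.mul_left hc), hF.mul _ _ hc hc]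
    exact ho.1.1
  have h := inverts hA hm hF hc (outer_not_pSL _ ho) hO
  rw [show c * (c * c) * c⁻¹ = c * c by group] at h
  exact eq_one_of_odd hF.odd hO (eq_inv_iff_mul_eq_one.1 h)

theorem order_two_iff {c : T} (hc : Commute c t) :
    orderOf c = 2 ↔ c = t ∨ Outer (φ c) := by
  constructor
  · intro h
    obtain ⟨h2, h1⟩ := orderOf_eq_prime_iff.1 h
    rw [pow_two] at h2
    by_cases he : φ c = tC
    · exact Or.inl (hF.eq_t hc h2 he)
    · exact Or.inr ⟨hF.map_isInv hc h2 h1, he⟩
  · rintro (rfl | h)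
    · exact hF.ot
    · refine orderOf_eq_prime (by rw [pow_two]; exact outer_sq hA hm hF hc h) fun e => ?_
      exact h.1.2 (by rw [e, hF.map_one])

/-- The linear character of the index-two subgroup. -/
theorem exists_lam (hO : Nat.card O ≠ 1) :
    ∃ lam : plusSub hF →* ℂˣ,
      (∀ k : plusSub hF, lam k ≠ 1 → ((k : Subgroup.centralizer ({t} : Set T)) : T) ∈ D1 t O) ∧
      (∃ y : plusSub hF, ((y : Subgroup.centralizer ({t} : Set T)) : T) ∈ O ∧ lam y * lam y ≠ 1) ∧
      (∀ h : Subgroup.centralizer ({t} : Set T), h ∉ plusSub hF → ∀ x y : plusSub hF,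
        (y : Subgroup.centralizer ({t} : Set T)) = h * x * h⁻¹ → lam y = (lam x)⁻¹) := by
  set r := (Nat.card O).minFac with hrdef
  haveI hr : Fact r.Prime := ⟨Nat.minFac_prime hO⟩
  obtain ⟨⟨y, hy⟩, hyr⟩ := exists_prime_orderOf_dvd_card' (G := O) r (Nat.minFac_dvd _)
  rw [Subgroup.orderOf_mk] at hyr
  have hr2 := hF.prime_ne_two hy hyr hr.out
  have hyt := hF.le y hy
  set K := plusSub hF
  have hKt : ∀ k : K, Commute (((k : Subgroup.centralizer ({t} : Set T))) : T) t := fun k =>
    of_mem_cent (k : Subgroup.centralizer ({t} : Set T)).2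
  have hymem : (⟨y, mem_cent hyt⟩ : Subgroup.centralizer ({t} : Set T)) ∈ K := by
    show pSL (φ y)
    rw [(hF.ker y hyt).2 hy]
  set yK : K := ⟨⟨y, mem_cent hyt⟩, hymem⟩
  have hinjK : Function.Injective (fun k : K => ((k : Subgroup.centralizer ({t} : Set T)) : T)) :=
    fun a b h => Subtype.ext (Subtype.ext h)
  have hord : ∀ k : K, orderOf k = orderOf ((k : Subgroup.centralizer ({t} : Set T)) : T) := fun k =>
    (orderOf_injective ((Subgroup.centralizer ({t} : Set T)).subtype.comp K.subtype) hinjK k).symm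
  have hcore : ∀ k : K, ∀ o ∈ O, Commute ((k : Subgroup.centralizer ({t} : Set T)) : T) o :=
    fun k o ho => centralises hA hm hF (hKt k) k.2 ho
  obtain ⟨P, hP⟩ := (IsPGroup.of_card (n := 1) (by
    rw [Nat.card_zpowers, hord yK, pow_one]; exact hyr) :
      IsPGroup r (Subgroup.zpowers yK)).exists_le_sylow
  haveI hPc : IsCyclic (P : Subgroup K) := by
    haveI := isCyclic_of_pGroup hm.hodd hr2
      (P.isPGroup'.map ((Subgroup.centralizer ({t} : Set T)).subtype.comp K.subtype))
    exact isCyclic_of_injective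
      ((P : Subgroup K).equivMapOfInjective
        ((Subgroup.centralizer ({t} : Set T)).subtype.comp K.subtype) hinjK).toMonoidHom
      ((P : Subgroup K).equivMapOfInjective
        ((Subgroup.centralizer ({t} : Set T)).subtype.comp K.subtype) hinjK).injective
  have hN : Subgroup.normalizer ((P : Subgroup K) : Set K) ≤
      Subgroup.centralizer ((P : Subgroup K) : Set K) := by
    intro n hn
    rw [Subgroup.mem_centralizer_iff]
    obtain ⟨g, hg⟩ := IsCyclic.exists_generator (α := (P : Subgroup K))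
    obtain ⟨k, hk⟩ := P.isPGroup' g
    obtain ⟨w, hw⟩ := Nat.exists_mul_mod_eq_one_of_coprime
      (n := 8) (k := r ^ (k + 1))
      (Nat.Coprime.pow 3 (k + 1) ((Nat.coprime_primes Nat.prime_two hr.out).2 hr2.symm))
      (Nat.one_lt_pow k.succ_ne_zero hr.out.one_lt)
    set d : K := (g : K) ^ 8 with hd
    have hgd : (g : K) = d ^ w := by
      have h1 : (g : K) ^ r ^ (k + 1) = 1 := by
        rw [pow_succ, pow_mul, show (g : K) ^ r ^ k = 1 from congrArg Subtype.val hk, one_pow]
      rw [hd, ← pow_mul, ← Nat.mod_add_div (8 * w) (r ^ (k + 1)), hw.2, pow_add, pow_one, pow_mul,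
        h1, one_pow, mul_one]
    set x := φ ((d : Subgroup.centralizer ({t} : Set T)) : T) with hxdef
    have hgK := (g : K).2
    have hx3 : powC x 3 = oneC := by
      have key : ∀ z, pSL z → powC (powC z 8) 3 = oneC := by decide +kernel
      rw [hxdef, hd]
      simp only [SubmonoidClass.coe_pow]
      rw [hF.map_pow (hKt (g : K))]
      exact key _ hgK
    have hdP : d ∈ (P : Subgroup K) := pow_mem g.2 8
    have hcomm : n * d = d * n := by
      have hconj := (Subgroup.mem_normalizer_iff.1 hn d).1 hdP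
      obtain ⟨i, hi⟩ := (isOfFinOrder_of_finite g).mem_powers_iff_mem_zpowers.2 (hg ⟨_, hconj⟩)
      have hi' : n * d * n⁻¹ = d ^ (w * i) := by
        rw [pow_mul, ← hgd]
        exact (congrArg Subtype.val hi).symm.trans (SubmonoidClass.coe_pow g i)
      have hx : cjC (φ ((n : Subgroup.centralizer ({t} : Set T)) : T)) x = powC x (w * i) := by
        rw [← hF.map_cj (hKt n) (hKt d), ← hF.map_pow (hKt d)]
        exact congrArg (fun z : K => φ ((z : Subgroup.centralizer ({t} : Set T)) : T)) hi'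
      have hcl : ∀ m : ℕ, powC x m = oneC ∨ powC x m = x ∨ powC x m = powC x 2 := by
        intro m
        induction m with
        | zero => exact Or.inl rfl
        | succ m ih =>
          have e : powC x (m + 1) = mC x (powC x m) := rfl
          rcases ih with h | h | h <;> rw [e, h]
          · exact Or.inr (Or.inl ((by decide +kernel : ∀ z, mC z oneC = z) x))
          · exact Or.inr (Or.inr ((by decide +kernel : ∀ z, mC z z = powC z 2) x))
          · exact Or.inl hx3
      have key := torus_normalizer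
      have hnt := hKt n
      have hdt := hKt d
      refine hinjK ?_
      show ((n : Subgroup.centralizer ({t} : Set T)) : T) *
        ((d : Subgroup.centralizer ({t} : Set T)) : T) = _ * _
      rcases key x _ d.2 n.2 hx3 (by rw [hx]; exact hcl _) with h | ⟨j, hz | hz⟩
      · exact (hcore n _ ((hF.ker _ hdt).1 h)).eq
      · have ho : (((d : Subgroup.centralizer ({t} : Set T)) : T) ^ (j : ℕ))⁻¹ *
            ((n : Subgroup.centralizer ({t} : Set T)) : T) ∈ O := by
          rw [← hF.ker _ ((hdt.pow_left (j : ℕ)).inv_left.mul_left hnt),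
            hF.mul _ _ (hdt.pow_left (j : ℕ)).inv_left hnt, hF.map_inv (hdt.pow_left (j : ℕ)),
            hF.map_pow hdt, hz]
          exact invC_mC _
        have h2 := ((Commute.refl ((d : Subgroup.centralizer ({t} : Set T)) : T)).pow_right (j : ℕ)).mul_right
          (hcore d _ ho)
        rw [mul_inv_cancel_left] at h2
        exact h2.eq.symm
      · have ho : (t * ((d : Subgroup.centralizer ({t} : Set T)) : T) ^ (j : ℕ))⁻¹ *
            ((n : Subgroup.centralizer ({t} : Set T)) : T) ∈ O := by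
          have htd := (Commute.refl t).mul_left (hdt.pow_left (j : ℕ))
          rw [← hF.ker _ (htd.inv_left.mul_left hnt),
            hF.mul _ _ htd.inv_left hnt, hF.map_inv htd, hF.mul _ _ (Commute.refl t) (hdt.pow_left (j : ℕ)),
            hF.map_t, hF.map_pow hdt, hz]
          exact invC_mC _
        have h2 := (hdt.mul_right ((Commute.refl
          ((d : Subgroup.centralizer ({t} : Set T)) : T)).pow_right (j : ℕ))).mul_right (hcore d _ ho)
        rw [mul_inv_cancel_left] at h2
        exact h2.eq.symm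
    intro a ha
    obtain ⟨i, hi⟩ := (isOfFinOrder_of_finite g).mem_powers_iff_mem_zpowers.2 (hg ⟨a, ha⟩)
    have : a = d ^ (w * i) := by
      rw [pow_mul, ← hgd]
      exact (congrArg Subtype.val hi).symm.trans (SubmonoidClass.coe_pow g i)
    rw [this]
    exact ((show Commute n d from hcomm).pow_right _).eq.symm
  set τ := MonoidHom.transferSylow P hN
  haveI : IsMulCommutative (P : Subgroup K) := ⟨⟨fun a b => mul_comm' a b⟩⟩
  have hyP1 : (⟨yK, hP (Subgroup.mem_zpowers yK)⟩ : (P : Subgroup K)) ≠ 1 := fun e =>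
    hr.out.ne_one (by rw [← hyr, show y = 1 from
      congrArg (fun z : (P : Subgroup K) => (((z : K) : Subgroup.centralizer ({t} : Set T)) : T)) e,
      orderOf_one])
  obtain ⟨χ0, hχ0⟩ := CommGroup.exists_apply_ne_one_of_hasEnoughRootsOfUnity ((P : Subgroup K)) ℂ hyP1
  let lam : K →* ℂˣ := χ0.comp τ
  have hrpow : ∀ k : K, ∀ n : ℕ, n.Coprime r → (τ k) ^ n = 1 → lam k = 1 := by
    intro k n hn h
    obtain ⟨i, hi⟩ := P.isPGroup' (τ k)
    have : τ k = 1 := orderOf_eq_one_iff.1 (Nat.eq_one_of_dvd_coprimes (hn.pow_right i)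
      (orderOf_dvd_of_pow_eq_one h) (orderOf_dvd_of_pow_eq_one hi))
    show χ0 (τ k) = 1
    rw [this, map_one]
  refine ⟨lam, ?_, ⟨yK, hy, ?_⟩, ?_⟩
  · intro k hk
    by_contra hD
    have hno : ∀ n : ℕ, ((k : Subgroup.centralizer ({t} : Set T)) : T) ^ n ∈ O →
        ((k : Subgroup.centralizer ({t} : Set T)) : T) ^ n = 1 := fun n hn => by
      by_contra h1
      exact hD ⟨hKt k, n, hn, h1⟩
    have h24 : ((k : Subgroup.centralizer ({t} : Set T)) : T) ^ 24 = 1 := by
      refine hno 24 ?_
      rw [← hF.ker _ ((hKt k).pow_left _), hF.map_pow (hKt k)]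
      exact pSL_pow24 _ k.2
    have h24K : k ^ 24 = 1 := hinjK (by simpa using h24)
    by_cases hr3 : r = 3
    · by_cases h8 : ((k : Subgroup.centralizer ({t} : Set T)) : T) ^ 8 = 1
      · refine hk (hrpow k 8 ?_ ?_)
        · rw [hr3]; norm_num
        · rw [← map_pow, show k ^ 8 = 1 from hinjK (by simpa using h8), map_one]
      · haveI : Fact (Nat.Prime 3) := ⟨by norm_num⟩
        exact h8 (hno 8 (prime_mem hA hm hF (r := 3) ((hKt k).pow_left 8)
          (orderOf_eq_prime (by rw [← pow_mul]; exact h24) h8)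
          (hr3 ▸ Nat.minFac_dvd _)))
    · refine hk (hrpow k 24 ?_ (by rw [← map_pow, h24K, map_one]))
      rw [show (24 : ℕ) = 2 ^ 3 * 3 by norm_num]
      exact Nat.Coprime.mul_left
        (Nat.Coprime.pow_left 3 ((Nat.coprime_primes Nat.prime_two hr.out).2 hr2.symm))
        ((Nat.coprime_primes (by norm_num) hr.out).2 (Ne.symm hr3))
  · intro h
    refine hχ0 ?_
    set z := χ0 ⟨yK, hP (Subgroup.mem_zpowers yK)⟩
    have hl : lam yK = z ^ (P : Subgroup K).index := by
      show χ0 (τ yK) = _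
      rw [show τ yK = (⟨yK, hP (Subgroup.mem_zpowers yK)⟩ : (P : Subgroup K)) ^ (P : Subgroup K).index
        from (MonoidHom.transferSylow_eq_pow P hN yK (hP (Subgroup.mem_zpowers yK))).trans
          (Subtype.ext (by simp)), map_pow]
    have hzr : orderOf z ∣ r := by
      refine orderOf_dvd_of_pow_eq_one ?_
      rw [← map_pow, show (⟨yK, hP (Subgroup.mem_zpowers yK)⟩ : (P : Subgroup K)) ^ r = 1 from
        Subtype.ext (hinjK (by simp [yK, ← hyr, pow_orderOf_eq_one])), map_one]
    have hz2 : orderOf z ∣ (P : Subgroup K).index * 2 := by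
      refine orderOf_dvd_of_pow_eq_one ?_
      rw [pow_mul, ← hl, pow_two, h]
    refine orderOf_eq_one_iff.1 (Nat.eq_one_of_dvd_coprimes ?_ hzr hz2)
    refine Nat.Coprime.mul_right ((hr.out.coprime_iff_not_dvd).2 P.not_dvd_index)
      ((Nat.coprime_primes hr.out Nat.prime_two).2 hr2)
  · -- an involution outside inverting some element over `c3`
    obtain ⟨h0, h0t, h0x⟩ := hF.surj (1, 0, 1)
    have hout : Outer (φ h0) := by rw [h0x]; decide +kernel
    have h02 := outer_sq hA hm hF h0t hout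
    obtain ⟨d0, d0t, d0x⟩ := hF.surj c3
    set d := d0 * (h0 * d0⁻¹ * h0⁻¹) with hd
    have hdt : Commute d t := d0t.mul_left ((h0t.mul_left d0t.inv_left).mul_left h0t.inv_left)
    have hdinv : h0 * d * h0⁻¹ = d⁻¹ := by
      rw [hd]
      have e : h0⁻¹ = h0 := inv_eq_of_mul_eq_one_right h02
      calc h0 * (d0 * (h0 * d0⁻¹ * h0⁻¹)) * h0⁻¹
          = h0 * d0 * (h0 * d0⁻¹) * (h0 * h0)⁻¹ := by group
        _ = (d0 * (h0 * d0⁻¹ * h0⁻¹))⁻¹ := by
            rw [h02, inv_one, mul_one, mul_inv_rev, mul_inv_rev, mul_inv_rev, inv_inv, inv_inv, e]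
            group
    have hdx : φ d = mC c3 (cjC (1, 0, 1) (invC c3)) := by
      rw [hd, hF.mul _ _ d0t ((h0t.mul_left d0t.inv_left).mul_left h0t.inv_left),
        hF.map_cj h0t d0t.inv_left, hF.map_inv d0t, d0x, h0x]
    set hC : Subgroup.centralizer ({t} : Set T) := ⟨h0, mem_cent h0t⟩
    have hnK : hC ∉ K := fun q => outer_not_pSL _ hout q
    haveI hKn : K.Normal := Subgroup.normal_of_index_eq_two (plus_index hF)
    let μ : K →* ℂˣ := MonoidHom.mk' (fun x => lam x * lam ⟨hC * x * hC⁻¹, hKn.conj_mem _ x.2 _⟩)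
      fun a b => by
        have e : (⟨hC * (a * b : K) * hC⁻¹, hKn.conj_mem _ (a * b).2 _⟩ : K) =
            ⟨hC * a * hC⁻¹, hKn.conj_mem _ a.2 _⟩ * ⟨hC * b * hC⁻¹, hKn.conj_mem _ b.2 _⟩ :=
          Subtype.ext (by simp [mul_assoc])
        rw [map_mul, e, map_mul, mul_mul_mul_comm]
    have hμ : ∀ x, μ x = 1 := by
      have hμO : ∀ x : K, ((x : Subgroup.centralizer ({t} : Set T)) : T) ∈ O → μ x = 1 := by
        intro x hx
        show lam x * lam _ = 1
        rw [show (⟨hC * x * hC⁻¹, hKn.conj_mem _ x.2 _⟩ : K) = x⁻¹ from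
          hinjK (inverts hA hm hF h0t (outer_not_pSL _ hout) hx), map_inv, mul_inv_cancel]
      intro x
      have gen : ∀ z, pSL z → ∃ j ∈ [0, 1, 2],
          pQ8 (mC (powC (mC c3 (cjC (1, 0, 1) (invC c3))) j) z) := by decide +kernel
      obtain ⟨j, -, hj⟩ := gen _ x.2
      have hdK : (⟨d, mem_cent hdt⟩ : Subgroup.centralizer ({t} : Set T)) ∈ K := by
        show pSL (φ d); rw [hdx]; decide +kernel
      set dK : K := ⟨⟨d, mem_cent hdt⟩, hdK⟩
      have hμd : μ dK = 1 := by
        show lam dK * lam _ = 1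
        rw [show (⟨hC * dK * hC⁻¹, hKn.conj_mem _ dK.2 _⟩ : K) = dK⁻¹ from hinjK hdinv, map_inv,
          mul_inv_cancel]
      have hjK : φ (((dK ^ j * x : K) : Subgroup.centralizer ({t} : Set T)) : T) =
          mC (powC (φ d) j) (φ ((x : Subgroup.centralizer ({t} : Set T)) : T)) := by
        rw [← hF.map_pow hdt, ← hF.mul _ _ (hdt.pow_left j) (hKt x)]
        rfl
      obtain ⟨a, ha, b, hb, hab⟩ := pQ_perfect _ hj
      obtain ⟨a', ha't, rfl⟩ := hF.surj a
      obtain ⟨b', hb't, rfl⟩ := hF.surj b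
      have haK : (⟨a', mem_cent ha't⟩ : Subgroup.centralizer ({t} : Set T)) ∈ K := ha.2
      have hbK : (⟨b', mem_cent hb't⟩ : Subgroup.centralizer ({t} : Set T)) ∈ K := hb.2
      have hd0K : (⟨d0, mem_cent d0t⟩ : Subgroup.centralizer ({t} : Set T)) ∈ K := by
        show pSL (φ d0); rw [d0x]
      set aK : K := ⟨_, haK⟩ with haKd
      set bK : K := ⟨_, hbK⟩ with hbKd
      set cK : K := ⟨_, hd0K⟩ with hcKd
      set m := (cK * aK * cK⁻¹ * aK⁻¹) * (cK * bK * cK⁻¹ * bK⁻¹) with hmdef
      have hμm : μ m = 1 := by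
        rw [hmdef]
        simp only [map_mul, map_inv]
        rw [mul_inv_cancel_comm, mul_inv_cancel, mul_inv_cancel_comm, mul_inv_cancel, one_mul]
      have ho : ((((m⁻¹ * (dK ^ j * x) : K)) : Subgroup.centralizer ({t} : Set T)) : T) ∈ O := by
        rw [← hF.ker _ (hKt _)]
        show φ (((m : Subgroup.centralizer ({t} : Set T)) : T)⁻¹ *
          ((((dK ^ j * x : K)) : Subgroup.centralizer ({t} : Set T)) : T)) = oneC
        rw [hF.mul _ _ (hKt m).inv_left (hKt _), hF.map_inv (hKt m), hjK, hdx, ← hab]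
        have hmv : φ ((m : Subgroup.centralizer ({t} : Set T)) : T) =
            mC (commC c3 (φ a')) (commC c3 (φ b')) := by
          rw [← d0x, ← hF.map_comm d0t ha't, ← hF.map_comm d0t hb't,
            ← hF.mul _ _ (((d0t.mul_left ha't).mul_left d0t.inv_left).mul_left ha't.inv_left)
              (((d0t.mul_left hb't).mul_left d0t.inv_left).mul_left hb't.inv_left)]
          rfl
        rw [hmv]
        exact invC_mC _
      have h1 := hμO _ ho
      rw [map_mul, map_mul, map_inv, map_pow, hμd, hμm, inv_one, one_mul, one_pow, one_mul] at h1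
      exact h1
    intro h hh x y hxy
    have hk0 : hC⁻¹ * h ∈ K := by
      refine (Subgroup.mul_mem_iff_of_index_two (plus_index hF)).2 ?_
      rw [inv_mem_iff]
      exact iff_of_false hnK hh
    set k0 : K := ⟨_, hk0⟩
    have hy : y = ⟨hC * (k0 * x * k0⁻¹ : K) * hC⁻¹, hKn.conj_mem _ (k0 * x * k0⁻¹).2 _⟩ := by
      refine Subtype.ext ?_
      rw [hxy]
      simp [k0, mul_assoc]
    have h1 := hμ (k0 * x * k0⁻¹)
    have h2 : μ (k0 * x * k0⁻¹) = lam (k0 * x * k0⁻¹) * lam y := by rw [hy]; rfl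
    rw [h1, map_mul, map_mul, map_inv, mul_inv_cancel_comm] at h2
    exact eq_inv_of_mul_eq_one_right h2.symm

variable [Fintype (Subgroup.centralizer ({t} : Set T))]

theorem pairSum_outer {θ : Subgroup.centralizer ({t} : Set T) → ℂ}
    (h : ∀ u w : Subgroup.centralizer ({t} : Set T), orderOf u = 2 → orderOf w = 2 →
      ((u : T) = t ∨ (w : T) = t) → θ (u * w) = 0) :
    CycSyl43TI.pairSum (Subgroup.centralizer ({t} : Set T)) θ =
      ∑ u : Subgroup.centralizer ({t} : Set T), ∑ w : Subgroup.centralizer ({t} : Set T),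
        if Outer (φ u) ∧ Outer (φ w) then θ (u * w) else 0 := by
  unfold CycSyl43TI.pairSum
  refine Finset.sum_congr rfl fun u _ => Finset.sum_congr rfl fun w _ => ?_
  have hu := order_two_iff hA hm hF (of_mem_cent u.2)
  have hw := order_two_iff hA hm hF (of_mem_cent w.2)
  rw [Subgroup.orderOf_coe] at hu hw
  by_cases ho : Outer (φ u) ∧ Outer (φ w)
  · rw [if_pos ho, if_pos ⟨hu.2 (Or.inr ho.1), hw.2 (Or.inr ho.2)⟩]
  · rw [if_neg ho]
    split_ifs with hi
    · refine h u w hi.1 hi.2 ?_
      rcases hu.1 hi.1 with e | e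
      · exact Or.inl e
      rcases hw.1 hi.2 with e' | e'
      · exact Or.inr e'
      exact absurd ⟨e, e'⟩ ho
    · rfl

theorem sum_lam_outer {lam : plusSub hF →* ℂˣ}
    (hinv : ∀ h : Subgroup.centralizer ({t} : Set T), h ∉ plusSub hF → ∀ x y : plusSub hF,
      (y : Subgroup.centralizer ({t} : Set T)) = h * x * h⁻¹ → lam y = (lam x)⁻¹)
    {z : plusSub hF} (hz : lam z * lam z ≠ 1) {u : Subgroup.centralizer ({t} : Set T)}
    (hu : Outer (φ u)) :
    ∑ w : Subgroup.centralizer ({t} : Set T),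
      (if Outer (φ w) then Cfsg.extendByZero (plusSub hF) (fun k => (lam k : ℂ)) (u * w) else 0) = 0 := by
  classical
  haveI hKn : (plusSub hF).Normal := Subgroup.normal_of_index_eq_two (plus_index hF)
  set S := ∑ w : Subgroup.centralizer ({t} : Set T),
    (if Outer (φ w) then Cfsg.extendByZero (plusSub hF) (fun k => (lam k : ℂ)) (u * w) else 0) with hS
  have hcj : ∀ x g, Outer (cjC g x) ↔ Outer x := by decide +kernel
  have key : S = (((lam z * lam z)⁻¹ : ℂˣ) : ℂ) * S := by
    conv_lhs => rw [hS, ← Equiv.sum_comp (MulAut.conj (z : Subgroup.centralizer ({t} : Set T))).toEquiv]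
    rw [hS, Finset.mul_sum]
    refine Finset.sum_congr rfl fun w _ => ?_
    have ho : Outer (φ ((MulAut.conj (z : Subgroup.centralizer ({t} : Set T))).toEquiv w :
        Subgroup.centralizer ({t} : Set T))) ↔ Outer (φ w) := by
      show Outer (φ ((z : Subgroup.centralizer ({t} : Set T)) * (w : T) *
        ((z : Subgroup.centralizer ({t} : Set T)) : T)⁻¹)) ↔ _
      rw [hF.map_cj (of_mem_cent (z : Subgroup.centralizer ({t} : Set T)).2) (of_mem_cent w.2)]
      exact hcj _ _
    by_cases hw : Outer (φ w)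
    · rw [if_pos (ho.2 hw), if_pos hw]
      have huK : u ∉ plusSub hF := fun q => outer_not_pSL _ hu q
      have hwK : w ∉ plusSub hF := fun q => outer_not_pSL _ hw q
      have huw : u * w ∈ plusSub hF :=
        (Subgroup.mul_mem_iff_of_index_two (plus_index hF)).2 (iff_of_false huK hwK)
      set a : plusSub hF := ⟨u * z * u⁻¹, hKn.conj_mem _ z.2 u⟩
      have e : u * ((MulAut.conj (z : Subgroup.centralizer ({t} : Set T))).toEquiv w) =
          ((a * ⟨u * w, huw⟩ * z⁻¹ : plusSub hF) : Subgroup.centralizer ({t} : Set T)) := by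
        show u * ((z : Subgroup.centralizer ({t} : Set T)) * w *
          (z : Subgroup.centralizer ({t} : Set T))⁻¹) = _
        simp [a, mul_assoc]
      rw [e, ext_zero_coe, map_mul, map_mul, hinv u huK z a rfl, map_inv,
        ext_zero_of_mem _ huw, mul_inv_rev]
      push_cast
      ring
    · rw [if_neg (fun q => hw (ho.1 q)), if_neg hw, mul_zero]
  have : ((1 : ℂ) - (((lam z * lam z)⁻¹ : ℂˣ) : ℂ)) * S = 0 := by rw [sub_mul, one_mul, ← key, sub_self]
  rcases mul_eq_zero.1 this with h | h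
  · exact absurd (inv_eq_one.1 (Units.val_eq_one.1 (sub_eq_zero.1 h).symm)) hz
  · exact h

theorem pairSum_theta {lam : plusSub hF →* ℂˣ}
    (hinv : ∀ h : Subgroup.centralizer ({t} : Set T), h ∉ plusSub hF → ∀ x y : plusSub hF,
      (y : Subgroup.centralizer ({t} : Set T)) = h * x * h⁻¹ → lam y = (lam x)⁻¹)
    {z : plusSub hF} (hz : lam z * lam z ≠ 1) :
    CycSyl43TI.pairSum (Subgroup.centralizer ({t} : Set T)) (CycSyl43TI.theta (plusSub hF) lam) =
      288 * (Nat.card O : ℂ) ^ 2 := by
  classical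
  rw [pairSum_outer hA hm hF ?_]
  swap
  · intro u w hu hw htw
    have hu' := (order_two_iff hA hm hF (of_mem_cent u.2)).1 (by rw [Subgroup.orderOf_coe]; exact hu)
    have hw' := (order_two_iff hA hm hF (of_mem_cent w.2)).1 (by rw [Subgroup.orderOf_coe]; exact hw)
    have hmem : ∀ v : Subgroup.centralizer ({t} : Set T), ((v : T) = t → v ∈ plusSub hF) ∧
        (Outer (φ v) → v ∉ plusSub hF) := fun v =>
      ⟨fun e => show pSL (φ (v : T)) by rw [e, hF.map_t], fun ho q => outer_not_pSL _ ho q⟩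
    have hmix : u ∈ plusSub hF ∧ w ∉ plusSub hF ∨ u ∉ plusSub hF ∧ w ∈ plusSub hF →
        CycSyl43TI.theta (plusSub hF) lam (u * w) = 0 := fun hmx => by
      refine CycSyl43TI.theta_not_mem fun q => ?_
      rw [Subgroup.mul_mem_iff_of_index_two (plus_index hF)] at q
      tauto
    rcases hu' with e | e
    · rcases hw' with e' | e'
      · have h1 : u * w = 1 := Subtype.ext (by rw [Subgroup.coe_mul, e, e', hF.tt]; rfl)
        rw [h1, show (1 : Subgroup.centralizer ({t} : Set T)) = ((1 : plusSub hF) :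
          Subgroup.centralizer ({t} : Set T)) from rfl, CycSyl43TI.theta_mem]
        simp
        norm_num
      · exact hmix (Or.inl ⟨(hmem u).1 e, (hmem w).2 e'⟩)
    · rcases hw' with e' | e'
      · exact hmix (Or.inr ⟨(hmem u).2 e, (hmem w).1 e'⟩)
      · rcases htw with q | q
        · exact absurd (show φ (u : T) = tC by rw [q, hF.map_t]) e.2
        · exact absurd (show φ (w : T) = tC by rw [q, hF.map_t]) e'.2
  have hinv' : ∀ h : Subgroup.centralizer ({t} : Set T), h ∉ plusSub hF → ∀ x y : plusSub hF,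
      (y : Subgroup.centralizer ({t} : Set T)) = h * x * h⁻¹ → lam⁻¹ y = (lam⁻¹ x)⁻¹ := by
    intro h hh x y e
    simp only [MonoidHom.inv_apply, hinv h hh x y e]
  have hz' : lam⁻¹ z * lam⁻¹ z ≠ 1 := by
    simp only [MonoidHom.inv_apply, ← mul_inv, ne_eq, inv_eq_one]
    exact hz
  have hcnt : ∑ w : Subgroup.centralizer ({t} : Set T), (if Outer (φ w) then (1 : ℂ) else 0) =
      12 * (Nat.card O : ℂ) := by
    rw [sum_fibre hF (fun x => if Outer x then (1 : ℂ) else 0), ← Finset.sum_filter,
      Finset.sum_const, card_outer, nsmul_eq_mul, nsmul_eq_mul, mul_one, mul_comm]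
    norm_num
  have hrow : ∀ u : Subgroup.centralizer ({t} : Set T), Outer (φ u) →
      ∑ w : Subgroup.centralizer ({t} : Set T),
        (if Outer (φ w) then CycSyl43TI.theta (plusSub hF) lam (u * w) else 0) =
      24 * (Nat.card O : ℂ) := by
    intro u hu
    have e : ∀ w : Subgroup.centralizer ({t} : Set T),
        (if Outer (φ w) then CycSyl43TI.theta (plusSub hF) lam (u * w) else 0) =
        2 * (if Outer (φ w) then (1 : ℂ) else 0) -
        (if Outer (φ w) then Cfsg.extendByZero (plusSub hF) (fun k => (lam k : ℂ)) (u * w) else 0) -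
        (if Outer (φ w) then Cfsg.extendByZero (plusSub hF) (fun k => (lam⁻¹ k : ℂ)) (u * w) else 0) := by
      intro w
      by_cases hw : Outer (φ w)
      · rw [if_pos hw, if_pos hw, if_pos hw, if_pos hw, mul_one]
        have huw : u * w ∈ plusSub hF := (Subgroup.mul_mem_iff_of_index_two (plus_index hF)).2
          (iff_of_false (fun q => outer_not_pSL _ hu q) fun q => outer_not_pSL _ hw q)
        rw [show u * w = ((⟨u * w, huw⟩ : plusSub hF) : Subgroup.centralizer ({t} : Set T)) from rfl,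
          CycSyl43TI.theta_mem, ext_zero_coe, ext_zero_coe, MonoidHom.inv_apply]
      · simp [hw]
    rw [Finset.sum_congr rfl fun w _ => e w, Finset.sum_sub_distrib, Finset.sum_sub_distrib,
      sum_lam_outer hA hm hF hinv hz hu, sum_lam_outer hA hm hF hinv' hz' hu, ← Finset.mul_sum, hcnt]
    ring
  have hterm : ∀ u : Subgroup.centralizer ({t} : Set T),
      (∑ w : Subgroup.centralizer ({t} : Set T),
        if Outer (φ u) ∧ Outer (φ w) then CycSyl43TI.theta (plusSub hF) lam (u * w) else 0) =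
      24 * (Nat.card O : ℂ) * (if Outer (φ u) then (1 : ℂ) else 0) := by
    intro u
    by_cases hu : Outer (φ u)
    · rw [if_pos hu, mul_one, ← hrow u hu]
      refine Finset.sum_congr rfl fun w _ => ?_
      by_cases hw : Outer (φ w)
      · rw [if_pos ⟨hu, hw⟩, if_pos hw]
      · rw [if_neg (fun q => hw q.2), if_neg hw]
    · rw [if_neg hu, mul_zero]
      exact Finset.sum_eq_zero fun w _ => if_neg fun q => hu q.1
  rw [Finset.sum_congr rfl fun u _ => hterm u, ← Finset.mul_sum, hcnt]
  ring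

theorem pairSum_th4 :
    CycSyl43TI.pairSum (Subgroup.centralizer ({t} : Set T)) (fun c => (th4 (φ c) : ℂ)) =
      96 * (Nat.card O : ℂ) ^ 2 := by
  classical
  have hmul : ∀ u w : Subgroup.centralizer ({t} : Set T),
      φ ((u * w : Subgroup.centralizer ({t} : Set T)) : T) = mC (φ u) (φ w) := fun u w =>
    hF.mul _ _ (of_mem_cent u.2) (of_mem_cent w.2)
  rw [pairSum_outer hA hm hF ?_]
  swap
  · intro u w hu hw htw
    have hu' := (order_two_iff hA hm hF (of_mem_cent u.2)).1 (by rw [Subgroup.orderOf_coe]; exact hu)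
    have hw' := (order_two_iff hA hm hF (of_mem_cent w.2)).1 (by rw [Subgroup.orderOf_coe]; exact hw)
    show ((th4 (φ ((u * w : Subgroup.centralizer ({t} : Set T)) : T)) : ℤ) : ℂ) = 0
    rw [hmul, Int.cast_eq_zero]
    rcases htw with e | e
    · rw [e, hF.map_t]
      rcases hw' with e' | e'
      · rw [e', hF.map_t, isInv_t.1]; exact th4_values.1
      · exact (th4_values.2.2 _ e').2.1
    · rw [e, hF.map_t]
      rcases hu' with e' | e'
      · rw [e', hF.map_t, isInv_t.1]; exact th4_values.1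
      · exact (th4_values.2.2 _ e').2.2
  simp only [hmul]
  let F : Coord → Coord → ℤ := fun a b => if Outer a ∧ Outer b then th4 (mC a b) else 0
  have e1 : ∀ u w : Subgroup.centralizer ({t} : Set T),
      (if Outer (φ u) ∧ Outer (φ w) then ((th4 (mC (φ u) (φ w)) : ℤ) : ℂ) else 0) =
        ((F (φ u) (φ w) : ℤ) : ℂ) := fun u w => by
    simp only [F]
    split_ifs <;> simp
  simp only [e1, ← Int.cast_sum]
  have e2 : ∑ a, ∑ b, F a b = 96 := by
    rw [← pairs4_outer, Finset.sum_filter]
    refine Finset.sum_congr rfl fun a _ => ?_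
    by_cases ha : Outer a
    · rw [if_pos ha, Finset.sum_filter]
      refine Finset.sum_congr rfl fun b _ => ?_
      by_cases hb : Outer b
      · simp only [F]
        rw [if_pos ⟨ha, hb⟩, if_pos hb]
      · simp only [F]
        rw [if_neg (fun q => hb q.2), if_neg hb]
    · rw [if_neg ha]
      exact Finset.sum_eq_zero fun b _ => if_neg fun q => ha q.1
  have e3 : ∑ u : Subgroup.centralizer ({t} : Set T), ∑ w : Subgroup.centralizer ({t} : Set T),
      F (φ u) (φ w) = Nat.card O • (Nat.card O • (96 : ℤ)) := by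
    rw [← e2]
    rw [Finset.sum_congr rfl fun (u : Subgroup.centralizer ({t} : Set T)) _ =>
      sum_fibre hF (fun b => F (φ u) b)]
    rw [sum_fibre hF (fun a => Nat.card O • ∑ b, F a b), Finset.smul_sum (r := Nat.card O)]
    simp [Finset.mul_sum]
  rw [e3]
  push_cast [nsmul_eq_mul]
  ring

omit hA hm in
theorem ind_one_pre {p : Coord → Prop} [DecidablePred p] (hp : Closed p) {n : ℕ} (hn0 : n ≠ 0)
    (hn : (Finset.univ.filter p).card = n) (c : Subgroup.centralizer ({t} : Set T)) :
    Cfsg.indFun (preSub hF p hp) (fun _ => (1 : ℂ)) c =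
      (n : ℂ)⁻¹ * ((∑ g, (if p (cjC g (φ c)) then (1 : ℤ) else 0) : ℤ) : ℂ) := by
  classical
  have hcard : (Nat.card (preSub hF p hp) : ℂ) = (Nat.card O : ℂ) * n := by
    have h := sum_fibre hF (fun x => if p x then (1 : ℕ) else 0)
    simp only [← Finset.sum_filter, Finset.sum_const, smul_eq_mul, mul_one, hn] at h
    rw [← Nat.cast_mul, ← h, ← Fintype.card_subtype, ← Nat.card_eq_fintype_card]
    rfl
  have e : ∀ x : Subgroup.centralizer ({t} : Set T),
      Cfsg.extendByZero (preSub hF p hp) (fun _ => (1 : ℂ)) (x⁻¹ * c * x) =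
        ((fun g => ((if p (cjC (invC g) (φ c)) then (1 : ℤ) else 0 : ℤ) : ℂ)) (φ x)) := by
    intro x
    have hx : φ ((x⁻¹ * c * x : Subgroup.centralizer ({t} : Set T)) : T) =
        cjC (invC (φ x)) (φ c) := by
      rw [← hF.map_inv (of_mem_cent x.2), ← hF.map_cj (of_mem_cent x.2).inv_left (of_mem_cent c.2)]
      simp
    by_cases h : p (cjC (invC (φ x)) (φ c))
    · rw [ext_zero_of_mem _ (show x⁻¹ * c * x ∈ preSub hF p hp from by rw [mem_preSub, hx]; exact h)]
      simp [h]
    · rw [ext_zero_of_not_mem _ (show x⁻¹ * c * x ∉ preSub hF p hp from fun q => h (hx ▸ q))]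
      simp [h]
  let ei : Coord ≃ Coord := Function.Involutive.toPerm invC
    (fun x => (by decide +kernel : ∀ x, invC (invC x) = x) x)
  rw [indFun_apply, Finset.sum_congr rfl fun x _ => e x,
    sum_fibre hF (fun g => ((if p (cjC (invC g) (φ c)) then (1 : ℤ) else 0 : ℤ) : ℂ)), hcard,
    ← Equiv.sum_comp ei (fun g => if p (cjC g (φ c)) then (1 : ℤ) else 0), nsmul_eq_mul,
    Int.cast_sum]
  have hne : (Nat.card O : ℂ) ≠ 0 := Nat.cast_ne_zero.2 Nat.card_pos.ne'
  field_simp
  rfl

omit hA hm in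
theorem th4_gen :
    Cfsg.IsGeneralizedCharacter (Subgroup.centralizer ({t} : Set T)) (fun c => (th4 (φ c) : ℂ)) := by
  classical
  haveI := Fintype.ofFinite (preSub hF pSD closed_pSD)
  haveI := Fintype.ofFinite (preSub hF pB closed_pB)
  have e : (fun c : Subgroup.centralizer ({t} : Set T) => (th4 (φ c) : ℂ)) =
      (fun _ => (1 : ℂ)) + Cfsg.indFun (preSub hF pSD closed_pSD) (fun _ => (1 : ℂ)) -
        Cfsg.indFun (preSub hF pB closed_pB) (fun _ => (1 : ℂ)) := by
    funext c
    rw [Pi.sub_apply, Pi.add_apply, ind_one_pre hF closed_pSD (by norm_num) card_pSD c,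
      ind_one_pre hF closed_pB (by norm_num) card_pB c]
    have h := avg4 (φ c)
    simp only [w4] at h
    rw [Finset.sum_sub_distrib, Finset.sum_add_distrib, ← Finset.mul_sum, ← Finset.mul_sum,
      Finset.sum_const, Finset.card_univ] at h
    have h48 : Fintype.card Coord = 48 := by rw [← Finset.card_univ]; exact card_univ'
    rw [h48] at h
    have h' := congrArg (fun z : ℤ => (z : ℂ)) h
    push_cast at h'
    push_cast
    simp only [nsmul_eq_mul] at h'
    push_cast at h'
    linear_combination (-(1 : ℂ) / 48) * h'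
  rw [e]
  exact isGeneralizedCharacter_sub (isGeneralizedCharacter_add
    (isGeneralizedCharacter_of_isCharacter isCharacter_one)
    (isGenChar_ind _ (isGeneralizedCharacter_of_isCharacter isCharacter_one)))
    (isGenChar_ind _ (isGeneralizedCharacter_of_isCharacter isCharacter_one))

omit hA hm in
theorem th4_vanish :
    CycSyl43TI.Vanish (D4 t) (fun c : Subgroup.centralizer ({t} : Set T) => (th4 (φ c) : ℂ)) := by
  intro c hc
  by_contra h
  obtain ⟨k, -, hk⟩ := special_power _ (special_iff (φ (c : T)) fun e => h (by simp [e]))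
  have hct := of_mem_cent c.2
  have ho : t * (c : T) ^ k ∈ O := by
    rw [← hF.ker _ ((Commute.refl t).mul_left (hct.pow_left k)),
      hF.mul _ _ (Commute.refl t) (hct.pow_left k), hF.map_t, hF.map_pow hct, hk]
    exact isInv_t.1
  have hck : (c : T) ^ k = t * (t * (c : T) ^ k) := by rw [← mul_assoc, hF.tt, one_mul]
  refine hc ⟨hct, k * Nat.card O, ?_⟩
  obtain ⟨m, hm'⟩ := hF.odd
  rw [pow_mul, hck, (hF.le _ ho).symm.mul_pow,
    orderOf_dvd_iff_pow_eq_one.1 (Subgroup.orderOf_dvd_natCard O ho), mul_one, hm', pow_succ,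
    pow_mul, pow_two, hF.tt, one_pow, one_mul]

omit hA hm in
theorem th4_norm :
    Cfsg.classInner (fun c : Subgroup.centralizer ({t} : Set T) => (th4 (φ c) : ℂ))
      (fun _ => 1) = 1 ∧
    Cfsg.classInner (fun c : Subgroup.centralizer ({t} : Set T) => (th4 (φ c) : ℂ))
      (fun c => (th4 (φ c) : ℂ)) = 3 := by
  have hx : (Nat.card O : ℂ) ≠ 0 := Nat.cast_ne_zero.2 Nat.card_pos.ne'
  constructor
  · simp only [Cfsg.classInner, map_one, mul_one]
    rw [sum_fibre hF (fun x => (th4 x : ℂ)), ← Int.cast_sum, sum4, card_cent hF, nsmul_eq_mul]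
    push_cast
    field_simp
  · simp only [Cfsg.classInner, map_intCast]
    rw [sum_fibre hF (fun x => (th4 x : ℂ) * (th4 x : ℂ))]
    simp only [← Int.cast_mul, ← Int.cast_sum]
    rw [norm4, card_cent hF, nsmul_eq_mul]
    push_cast
    field_simp
    norm_num

end Main

end Cfsg.Agent.CycSyl43SemiGL
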