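import Cfsg.Agent.Lib.CycSyl43SemiGLLocal

/-!
The odd core in the semidihedral configuration with centraliser `GL(2,3)` modulo the core: it is
cyclic, centralised by the determinant-one part and inverted outside, and it controls conjugation.
-/

set_option autoImplicit false

namespace Cfsg.Agent.CycSyl43SemiGL

open BinaryOctahedral GL23CentModel CycSyl43SemiGLModel
open Cfsg.Agent.CycSyl43

universe u

variable {T : Type u} [Group T] [Finite T] {t : T} {O : Subgroup T} {φ : T → Coord}

theorem exists_prime_power {y : T} (hy : y ≠ 1) : ∃ r k : ℕ, r.Prime ∧ orderOf (y ^ k) = r := by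
  have h : orderOf y ≠ 1 := fun e => hy (orderOf_eq_one_iff.1 e)
  refine ⟨(orderOf y).minFac, orderOf y / (orderOf y).minFac, Nat.minFac_prime h, ?_⟩
  exact orderOf_pow_orderOf_div (orderOf_pos y).ne' (Nat.minFac_dvd _)

theorem ne_top_of_normalizes (hm : CycSyl43.Min T) {y : T} (hy : y ≠ 1) :
    Subgroup.normalizer (Subgroup.zpowers y : Set T) ≠ ⊤ := by
  intro h
  have hn : (Subgroup.zpowers y).Normal := Subgroup.normalizer_eq_top_iff.1 h
  rcases hm.simple.eq_bot_or_eq_top_of_normal _ hn with e | e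
  · exact hy (Subgroup.zpowers_eq_bot.1 e)
  · obtain ⟨a, b, hab⟩ := hm.nc
    obtain ⟨i, rfl⟩ := Subgroup.mem_zpowers_iff.1 (show a ∈ Subgroup.zpowers y by rw [e]; trivial)
    obtain ⟨j, rfl⟩ := Subgroup.mem_zpowers_iff.1 (show b ∈ Subgroup.zpowers y by rw [e]; trivial)
    exact hab (Commute.zpow_zpow_self y i j).eq

/-- Conjugation by an element of the centraliser, on the core. -/
def Frame.conjAut (hF : Frame t O φ) {c : T} (hc : Commute c t) : MulAut O where
  toFun z := ⟨c * z * c⁻¹, hF.normal c hc z z.2⟩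
  invFun z := ⟨c⁻¹ * z * c, by simpa using hF.normal c⁻¹ hc.inv_left z z.2⟩
  left_inv z := Subtype.ext (by simp [mul_assoc])
  right_inv z := Subtype.ext (by simp [mul_assoc])
  map_mul' z w := Subtype.ext (by simp [mul_assoc])

/-- The derived group of the centraliser. -/
abbrev cDer (t : T) : Subgroup T :=
  ⁅Subgroup.centralizer ({t} : Set T), Subgroup.centralizer ({t} : Set T)⁆

theorem mem_cent {t c : T} (hc : Commute c t) : c ∈ Subgroup.centralizer ({t} : Set T) :=
  Subgroup.mem_centralizer_singleton_iff.2 hc.eq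

theorem of_mem_cent {t c : T} (hc : c ∈ Subgroup.centralizer ({t} : Set T)) : Commute c t :=
  Subgroup.mem_centralizer_singleton_iff.1 hc

section Core

variable (hA : Assembly.{u}) (hm : CycSyl43.Min T) (hF : Frame t O φ)
include hA hm hF

theorem norm_le {y : T} {r : ℕ} [hr : Fact r.Prime] (hy : y ∈ O) (hor : orderOf y = r) {a : T}
    (ha : a ∈ Subgroup.normalizer (Subgroup.zpowers y : Set T)) : Commute a t := by
  obtain ⟨Q, g, hQ, hQy, hgy⟩ := hF.exists_quat hm.hodd hy hor
  have hsub : ∀ c : T, Commute c y → c ∈ Subgroup.normalizer (Subgroup.zpowers y : Set T) := by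
    intro c hc
    rw [Subgroup.mem_normalizer_iff]
    intro z
    constructor
    · intro hz
      obtain ⟨k, rfl⟩ := Subgroup.mem_zpowers_iff.1 hz
      rw [(hc.zpow_right k).eq, mul_inv_cancel_right]
      exact Subgroup.zpow_mem _ (Subgroup.mem_zpowers y) k
    · intro hz
      obtain ⟨k, hk⟩ := Subgroup.mem_zpowers_iff.1 hz
      have : z = c⁻¹ * y ^ k * c := by rw [hk]; group
      rw [this, mul_assoc, ← (hc.zpow_right k).eq, inv_mul_cancel_left]
      exact Subgroup.zpow_mem _ (Subgroup.mem_zpowers y) k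
  exact cent_t_of_quat hA hm hF hQ
    (ne_top_of_normalizes hm fun e => hr.out.ne_one (by rw [← hor, e, orderOf_one]))
    (fun q hq => hsub q (hQy q hq)) (hsub g hgy) a ha

theorem cent_le {y a : T} (hy : y ∈ O) (hy1 : y ≠ 1) (ha : Commute a y) : Commute a t := by
  obtain ⟨r, k, hr, hor⟩ := exists_prime_power hy1
  haveI := Fact.mk hr
  refine norm_le hA hm hF (O.pow_mem hy k) hor (Subgroup.mem_normalizer_iff.2 fun z => ?_)
  have hc : Commute a (y ^ k) := ha.pow_right k
  constructor
  · intro hz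
    obtain ⟨i, rfl⟩ := Subgroup.mem_zpowers_iff.1 hz
    rw [(hc.zpow_right i).eq, mul_inv_cancel_right]
    exact Subgroup.zpow_mem _ (Subgroup.mem_zpowers _) i
  · intro hz
    obtain ⟨i, hi⟩ := Subgroup.mem_zpowers_iff.1 hz
    have : z = a⁻¹ * (y ^ k) ^ i * a := by rw [hi]; group
    rw [this, mul_assoc, ← (hc.zpow_right i).eq, inv_mul_cancel_left]
    exact Subgroup.zpow_mem _ (Subgroup.mem_zpowers _) i

omit hA in
theorem sylow_cyclic {y : T} {r : ℕ} [hr : Fact r.Prime] (hy : y ∈ O) (hor : orderOf y = r)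
    (P : Sylow r T) : IsCyclic (P : Subgroup T) :=
  hm.hodd r hr.out (hF.prime_ne_two hy hor hr.out) P

theorem sylow_le {y : T} {r : ℕ} [hr : Fact r.Prime] (hy : y ∈ O) (hor : orderOf y = r)
    (P : Sylow r T) (hyP : y ∈ (P : Subgroup T)) :
    (P : Subgroup T) ≤ Subgroup.centralizer ({t} : Set T) := by
  haveI := sylow_cyclic hm hF hy hor P
  intro a ha
  refine mem_cent (cent_le hA hm hF hy (fun e => hr.out.ne_one (by rw [← hor, e, orderOf_one])) ?_)
  exact congrArg Subtype.val (mul_comm' (⟨a, ha⟩ : (P : Subgroup T)) ⟨y, hyP⟩)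

omit hA in
/-- A conjugate of a quaternion group over the centraliser. -/
theorem conj_mem_imp' {y g : T} {r : ℕ} [hr : Fact r.Prime] (hy : y ∈ O) (hor : orderOf y = r)
    (hle : ∀ a, Commute a y → Commute a t) (hg : g * y * g⁻¹ ∈ O) : Commute g t := by
  have hor' : orderOf (g * y * g⁻¹) = r :=
    (orderOf_injective (MulAut.conj g).toMonoidHom (MulEquiv.injective _) y).trans hor
  obtain ⟨Q, g', hQ, hQy, -⟩ := hF.exists_quat hm.hodd hg hor'
  have key : g * t * g⁻¹ = t := by
    refine hQ.eq_t_of_comm hF ?_ (fun e => hF.t_ne (conj_eq_one_iff.1 e)) fun q hq => ?_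
    · rw [show g * t * g⁻¹ * (g * t * g⁻¹) = g * (t * t) * g⁻¹ by group, hF.tt, mul_one,
        mul_inv_cancel]
    · have h1 : Commute (g⁻¹ * q * g) y := by
        have := hQy q hq
        show g⁻¹ * q * g * y = y * (g⁻¹ * q * g)
        calc g⁻¹ * q * g * y = g⁻¹ * (q * (g * y * g⁻¹)) * g := by group
          _ = g⁻¹ * ((g * y * g⁻¹) * q) * g := by rw [this.eq]
          _ = y * (g⁻¹ * q * g) := by group
      have h2 := (hle _ h1).eq
      show g * t * g⁻¹ * q = q * (g * t * g⁻¹)
      calc g * t * g⁻¹ * q = g * (t * (g⁻¹ * q * g)) * g⁻¹ := by group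
        _ = g * (g⁻¹ * q * g * t) * g⁻¹ := by rw [h2]
        _ = q * (g * t * g⁻¹) := by group
  show g * t = t * g
  calc g * t = g * t * g⁻¹ * g := by group
    _ = t * g := by rw [key]

theorem conj_mem_imp {y g : T} (hy : y ∈ O) (hy1 : y ≠ 1) (hg : g * y * g⁻¹ ∈ O) :
    Commute g t := by
  obtain ⟨r, k, hr, hor⟩ := exists_prime_power hy1
  haveI := Fact.mk hr
  refine conj_mem_imp' hm hF (O.pow_mem hy k) hor
    (fun a ha => cent_le hA hm hF (O.pow_mem hy k)
      (fun e => hr.ne_one (by rw [← hor, e, orderOf_one])) ha) ?_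
  rw [← conj_pow]
  exact O.pow_mem hg k

/-- Elements of prime order dividing the order of the core lie in it. -/
theorem prime_mem {a : T} {r : ℕ} [hr : Fact r.Prime] (ha : Commute a t) (hor : orderOf a = r)
    (hdvd : r ∣ Nat.card O) : a ∈ O := by
  obtain ⟨⟨y, hy⟩, hyr⟩ := exists_prime_orderOf_dvd_card' (G := O) r hdvd
  rw [Subgroup.orderOf_mk] at hyr
  obtain ⟨P, hP⟩ := (IsPGroup.of_card (n := 1) (by rw [Nat.card_zpowers, hyr, pow_one]) :
    IsPGroup r (Subgroup.zpowers y)).exists_le_sylow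
  have hPC := sylow_le hA hm hF hy hyr P (hP (Subgroup.mem_zpowers y))
  obtain ⟨R, hR⟩ := (IsPGroup.of_card (n := 1)
    (by rw [Nat.card_zpowers, Subgroup.orderOf_mk, hor, pow_one]) : IsPGroup r
      (Subgroup.zpowers (⟨a, mem_cent ha⟩ : Subgroup.centralizer ({t} : Set T)))).exists_le_sylow
  obtain ⟨c, hc⟩ := MulAction.exists_smul_eq (Subgroup.centralizer ({t} : Set T)) R (P.subtype hPC)
  have hm1 : c * ⟨a, mem_cent ha⟩ * c⁻¹ ∈
      ((P.subtype hPC : Sylow r (Subgroup.centralizer ({t} : Set T))) : Subgroup _) := by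
    rw [← hc, Sylow.coe_subgroup_smul]
    exact ⟨_, hR (Subgroup.mem_zpowers _), rfl⟩
  have hm2 : (c : T) * a * (c : T)⁻¹ ∈ (P : Subgroup T) := by
    rw [Sylow.coe_subtype] at hm1
    exact hm1
  haveI := sylow_cyclic hm hF hy hyr P
  have hm3 : (c : T) * a * (c : T)⁻¹ ∈ Subgroup.zpowers y :=
    mem_zpowers_of_sylow (hP (Subgroup.mem_zpowers y)) hm2 hyr
      (by rw [conj_pow, ← hor, pow_orderOf_eq_one, mul_one, mul_inv_cancel])
  have := hF.normal (c : T)⁻¹ (of_mem_cent c.2).inv_left _ ((Subgroup.zpowers_le.2 hy) hm3)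
  simpa [mul_assoc] using this

/-- Some element of the centraliser moves `y`, and the Sylow subgroup lies in the derived group. -/
theorem mover {y : T} {r : ℕ} [hr : Fact r.Prime] (hy : y ∈ O) (hor : orderOf y = r)
    (P : Sylow r T) (hyP : y ∈ (P : Subgroup T)) :
    (∃ v, Commute v t ∧ v * y * v⁻¹ ≠ y) ∧ (P : Subgroup T) ≤ cDer t := by
  haveI := sylow_cyclic hm hF hy hor P
  have hPC := sylow_le hA hm hF hy hor P hyP
  have hy1 : y ≠ 1 := fun e => hr.out.ne_one (by rw [← hor, e, orderOf_one])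
  obtain ⟨n, hn, hnc⟩ : ∃ n ∈ Subgroup.normalizer ((P : Subgroup T) : Set T),
      n ∉ Subgroup.centralizer ((P : Subgroup T) : Set T) := by
    by_contra hcon
    push Not at hcon
    have hle : Subgroup.normalizer ((P : Subgroup T) : Set T) ≤
        Subgroup.centralizer ((P : Subgroup T) : Set T) := hcon
    have hcomp := MonoidHom.ker_transferSylow_isComplement' P hle
    rcases hm.simple.eq_bot_or_eq_top_of_normal _
      (MonoidHom.normal_ker (MonoidHom.transferSylow P hle)) with e | e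
    · rw [e, Subgroup.isComplement'_bot_left] at hcomp
      obtain ⟨a, b, hab⟩ := hm.nc
      refine hab ?_
      have ha : a ∈ (P : Subgroup T) := by rw [hcomp]; exact Subgroup.mem_top a
      have hb : b ∈ (P : Subgroup T) := by rw [hcomp]; exact Subgroup.mem_top b
      exact congrArg Subtype.val (mul_comm' (⟨a, ha⟩ : (P : Subgroup T)) ⟨b, hb⟩)
    · rw [e, Subgroup.isComplement'_top_left] at hcomp
      rw [hcomp] at hyP
      exact hy1 (Subgroup.mem_bot.1 hyP)
  -- `n` normalises `⟨y⟩`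
  have hnP : ∀ b ∈ (P : Subgroup T), n * b * n⁻¹ ∈ (P : Subgroup T) := fun b hb =>
    ((Subgroup.mem_normalizer_iff.1 hn b).1 hb)
  have hny : n * y * n⁻¹ ∈ Subgroup.zpowers y :=
    mem_zpowers_of_sylow hyP (hnP y hyP) hor
      (by rw [conj_pow, ← hor, pow_orderOf_eq_one, mul_one, mul_inv_cancel])
  have hnt : Commute n t := by
    refine norm_le hA hm hF hy hor (Subgroup.mem_normalizer_iff.2 fun z => ?_)
    have hmap : (Subgroup.zpowers y).map (MulAut.conj n).toMonoidHom = Subgroup.zpowers y := by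
      refine Subgroup.eq_of_le_of_card_ge ?_ (le_of_eq ?_)
      · rw [MonoidHom.map_zpowers, Subgroup.zpowers_le]
        exact hny
      · rw [Subgroup.card_map_of_injective (MulEquiv.injective _)]
    constructor
    · intro hz
      rw [← hmap]
      exact ⟨z, hz, rfl⟩
    · intro hz
      rw [← hmap] at hz
      obtain ⟨w, hw, e⟩ := hz
      have : w = z := MulEquiv.injective (MulAut.conj n) e
      exact this ▸ hw
  -- the exponent of the automorphism is prime to `r`
  obtain ⟨m, hmr, hmc⟩ : ∃ m : ℕ, m.Coprime r ∧ ∀ b ∈ (P : Subgroup T), Commute (n ^ m) b := by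
    let N := Subgroup.normalizer ((P : Subgroup T) : Set T)
    let D := (Subgroup.centralizer ((P : Subgroup T) : Set T)).subgroupOf N
    haveI : D.Normal := by
      show ((Subgroup.centralizer ((P : Subgroup T) : Set T)).subgroupOf N).Normal
      rw [← Subgroup.normalizerMonoidHom_ker]
      exact MonoidHom.normal_ker _
    refine ⟨D.index, ?_, fun b hb => ?_⟩
    · have hle : ((P.subtype (Subgroup.le_normalizer)) : Subgroup N) ≤ D := by
        intro a ha
        rw [Sylow.coe_subtype] at ha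
        exact Subgroup.mem_centralizer_iff.2 fun b hb =>
          congrArg Subtype.val (mul_comm' (⟨b, hb⟩ : (P : Subgroup T)) ⟨(a : T), ha⟩)
      exact ((hr.out.coprime_iff_not_dvd.2 fun h =>
        (P.subtype Subgroup.le_normalizer).not_dvd_index
          (h.trans (Subgroup.index_dvd_of_le hle)))).symm
    · have h1 := D.pow_index_mem ⟨n, hn⟩
      have h2 : n ^ D.index ∈ Subgroup.centralizer ((P : Subgroup T) : Set T) := h1
      exact ((Subgroup.mem_centralizer_iff.1 h2) b hb).symm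
  let δ : (P : Subgroup T) →* (P : Subgroup T) :=
    MonoidHom.mk' (fun b => ⟨n * b * n⁻¹ * (b : T)⁻¹, (P : Subgroup T).mul_mem (hnP b b.2)
        ((P : Subgroup T).inv_mem b.2)⟩) fun a b => by
      have e : ∀ a' b' x y' : (P : Subgroup T), a' * x⁻¹ * (b' * y'⁻¹) = a' * b' * (x * y')⁻¹ := by
        intro a' b' x y'
        rw [mul_inv_rev, mul_assoc, mul_assoc a' b', mul_comm' y'⁻¹ x⁻¹, ← mul_assoc x⁻¹,
          mul_comm' x⁻¹ b', mul_assoc b']
      refine Subtype.ext ?_
      have := congrArg Subtype.val (e ⟨_, hnP a a.2⟩ ⟨_, hnP b b.2⟩ a b)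
      simp only [Subgroup.coe_mul, Subgroup.coe_inv] at this ⊢
      rw [this]
      group
  have hδ : ∀ b, (δ b : T) = n * b * n⁻¹ * (b : T)⁻¹ := fun b => rfl
  have hfix : ∀ b, δ (δ b) = 1 → δ b = 1 := by
    intro b hb
    have hd : n * (δ b : T) * n⁻¹ = (δ b : T) :=
      mul_inv_eq_one.1 (congrArg Subtype.val hb)
    have hit : ∀ i : ℕ, n ^ i * (b : T) * (n ^ i)⁻¹ = (δ b : T) ^ i * b := by
      intro i
      induction i with
      | zero => simp
      | succ i ih =>
        calc n ^ (i + 1) * (b : T) * (n ^ (i + 1))⁻¹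
            = n * (n ^ i * (b : T) * (n ^ i)⁻¹) * n⁻¹ := by rw [pow_succ']; group
          _ = (n * (δ b : T) * n⁻¹) ^ i * (n * b * n⁻¹) := by rw [ih, conj_pow]; group
          _ = (δ b : T) ^ (i + 1) * b := by rw [hd, pow_succ, hδ b]; group
    have h1 : (δ b : T) ^ m = 1 := by
      have := hit m
      rw [(hmc b b.2).eq, mul_inv_cancel_right] at this
      exact right_eq_mul.1 this
    obtain ⟨k, hk⟩ := P.isPGroup' (δ b)
    have h2 : (δ b : T) ^ r ^ k = 1 := congrArg Subtype.val hk
    exact Subtype.ext (orderOf_eq_one_iff.1 (Nat.eq_one_of_dvd_coprimes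
      (hmr.pow_right k) (orderOf_dvd_of_pow_eq_one h1) (orderOf_dvd_of_pow_eq_one h2)))
  have hcommon : ∀ z : (P : Subgroup T), z ≠ 1 → ∃ k : ℕ, orderOf ((z ^ k : (P : Subgroup T)) : T) = r := by
    intro z hz
    obtain ⟨q, k, hq, hqk⟩ := exists_prime_power (y := (z : T)) fun e => hz (Subtype.ext e)
    refine ⟨k, ?_⟩
    obtain ⟨i, hi⟩ := P.isPGroup' (z ^ k)
    have hd : q ∣ r ^ i := by
      rw [← hqk]
      exact orderOf_dvd_of_pow_eq_one (congrArg Subtype.val hi)
    rw [SubmonoidClass.coe_pow, hqk]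
    exact (Nat.prime_dvd_prime_iff_eq hq hr.out).1 (hq.dvd_of_dvd_pow hd)
  have hmoves : δ ⟨y, hyP⟩ ≠ 1 := by
    intro hy0
    refine hnc (Subgroup.mem_centralizer_iff.2 fun b hb => ?_)
    by_cases hb0 : δ ⟨b, hb⟩ = 1
    · have := mul_inv_eq_one.1 (congrArg Subtype.val hb0)
      show b * n = n * b
      calc b * n = n * b * n⁻¹ * n := by rw [this]
        _ = n * b := by group
    · exfalso
      obtain ⟨k, hk⟩ := hcommon _ hb0
      have hm1 := mem_zpowers_of_sylow hyP (SetLike.coe_mem (δ ⟨b, hb⟩ ^ k)) hor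
        (orderOf_dvd_iff_pow_eq_one.1 (dvd_of_eq hk))
      obtain ⟨i, hi⟩ := Subgroup.mem_zpowers_iff.1 hm1
      have he : (⟨y, hyP⟩ : (P : Subgroup T)) ^ i = δ ⟨b, hb⟩ ^ k := Subtype.ext (by simpa using hi)
      have h0 : δ (δ (⟨b, hb⟩ ^ k)) = 1 := by rw [map_pow δ, ← he, map_zpow, hy0, one_zpow]
      have h1 := hfix _ h0
      rw [map_pow δ] at h1
      rw [h1, Subgroup.coe_one, orderOf_one] at hk
      exact hr.out.ne_one hk.symm
  refine ⟨⟨n, hnt, fun e => hmoves (Subtype.ext ?_)⟩, ?_⟩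
  · show n * y * n⁻¹ * y⁻¹ = 1
    rw [e, mul_inv_cancel]
  have hinj : Function.Injective δ := by
    rw [injective_iff_map_eq_one]
    intro b hb
    by_contra hb1
    obtain ⟨k, hk⟩ := hcommon b hb1
    have hm1 := mem_zpowers_of_sylow (P := (P : Subgroup T)) (SetLike.coe_mem (b ^ k)) hyP hk
      (orderOf_dvd_iff_pow_eq_one.1 (dvd_of_eq hor))
    obtain ⟨i, hi⟩ := Subgroup.mem_zpowers_iff.1 hm1
    refine hmoves ?_
    rw [show (⟨y, hyP⟩ : (P : Subgroup T)) = (b ^ k) ^ i from Subtype.ext (by simpa using hi.symm),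
      map_zpow, map_pow, hb, one_pow, one_zpow]
  intro a ha
  obtain ⟨b, hb⟩ := Finite.surjective_of_injective hinj ⟨a, ha⟩
  rw [show a = n * (b : T) * n⁻¹ * (b : T)⁻¹ from (congrArg Subtype.val hb).symm]
  exact Subgroup.commutator_mem_commutator (mem_cent hnt) (hPC b.2)

theorem core_le_der : O ≤ cDer t := by
  have h : O ⊓ cDer t = O := by
    refine Subgroup.eq_of_le_of_card_ge inf_le_left (Nat.le_of_dvd Nat.card_pos ?_)
    rw [Nat.dvd_iff_prime_pow_dvd_dvd]
    intro q k hq hqk
    rcases k with _ | k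
    · simp
    haveI := Fact.mk hq
    obtain ⟨R, hR⟩ := Sylow.exists_subgroup_card_pow_prime q hqk
    obtain ⟨⟨⟨y, hyO⟩, hyR⟩, hy⟩ := exists_prime_orderOf_dvd_card' (G := R) q
      (by rw [hR]; exact dvd_pow_self q k.succ_ne_zero)
    rw [Subgroup.orderOf_mk, Subgroup.orderOf_mk] at hy
    obtain ⟨P, hP⟩ := ((IsPGroup.of_card hR : IsPGroup q R).map O.subtype).exists_le_sylow
    have hle := (mover hA hm hF hyO hy P (hP ⟨_, hyR, rfl⟩)).2
    rw [← hR, Nat.card_congr (R.equivMapOfInjective O.subtype O.subtype_injective).toEquiv]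
    exact Subgroup.card_dvd_of_le (le_inf (Subgroup.map_subtype_le R) (hP.trans hle))
  exact inf_eq_left.1 h

omit hA in
theorem isZGroup_core : IsZGroup O := by
  refine ⟨fun p hp P => ?_⟩
  haveI := Fact.mk hp
  by_cases hp2 : p = 2
  · subst hp2
    obtain ⟨k, hk⟩ := IsPGroup.iff_card.1 P.isPGroup'
    have hd : 2 ^ k ∣ Nat.card O := hk ▸ Subgroup.card_subgroup_dvd_card _
    have : k = 0 := by
      by_contra h
      exact absurd (hF.odd.of_dvd_nat ((dvd_pow_self 2 h).trans hd)) (by decide)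
    subst this
    haveI : Subsingleton (P : Subgroup O) := (Nat.card_eq_one_iff_unique.1 (by simpa using hk)).1
    exact isCyclic_of_subsingleton
  · haveI : IsCyclic ((P : Subgroup O).map O.subtype) :=
      isCyclic_of_pGroup hm.hodd hp2 (P.isPGroup'.map O.subtype)
    exact isCyclic_of_injective
      ((P : Subgroup O).equivMapOfInjective O.subtype O.subtype_injective).toMonoidHom
      ((P : Subgroup O).equivMapOfInjective O.subtype O.subtype_injective).injective

omit hA hm in
/-- The derived group centralises a cyclic subgroup normalised by the centraliser. -/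
theorem der_comm {d : T}
    (hd : ∀ c, Commute c t → c * d * c⁻¹ ∈ Subgroup.zpowers d) {u : T} (hu : u ∈ cDer t) :
    Commute u d := by
  refine Subgroup.mem_centralizer_singleton_iff.1
    (Subgroup.commutator_le.2 (fun a ha b hb => ?_) hu)
  rw [Subgroup.mem_centralizer_singleton_iff, commutatorElement_def]
  exact (comm_centralises (hd a (of_mem_cent ha)) (hd b (of_mem_cent hb))).eq

theorem core_cyclic : IsCyclic O := by
  haveI := isZGroup_core hm hF
  haveI := IsZGroup.isCyclic_commutator (G := O)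
  obtain ⟨d, hd⟩ := IsCyclic.exists_generator (α := commutator O)
  have hd' : ∀ c, Commute c t → c * (((d : O)) : T) * c⁻¹ ∈ Subgroup.zpowers (((d : O)) : T) := by
    intro c hc
    have hmem : hF.conjAut hc (d : O) ∈ commutator O := by
      have := Subgroup.characteristic_iff_map_le.1
        (inferInstance : (commutator O).Characteristic) (hF.conjAut hc)
      exact this ⟨_, d.2, rfl⟩
    obtain ⟨i, hi⟩ := Subgroup.mem_zpowers_iff.1 (hd ⟨_, hmem⟩)
    exact ⟨i, congrArg (fun x : commutator O => (((x : O)) : T)) hi⟩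
  have hcen : commutator O ≤ Subgroup.center O := by
    intro x hx
    rw [Subgroup.mem_center_iff]
    intro o
    obtain ⟨i, hi⟩ := Subgroup.mem_zpowers_iff.1 (hd ⟨x, hx⟩)
    have hx' : (x : T) = (((d : O)) : T) ^ i :=
      (congrArg (fun z : commutator O => (((z : O)) : T)) hi).symm.trans (by simp)
    refine Subtype.ext ?_
    show (o : T) * x = x * o
    rw [hx']
    exact ((der_comm hF hd' (core_le_der hA hm hF o.2)).zpow_right i).eq
  haveI : Group.IsNilpotent O := Subgroup.isNilpotent_of_ker_le_center (Abelianization.of (G := O))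
    (by rw [Abelianization.ker_of]; exact hcen)
  infer_instance

theorem exists_gen : ∃ d ∈ O, ∀ z ∈ O, z ∈ Subgroup.zpowers d := by
  haveI := core_cyclic hA hm hF
  obtain ⟨d, hd⟩ := IsCyclic.exists_generator (α := O)
  refine ⟨d, d.2, fun z hz => ?_⟩
  obtain ⟨i, hi⟩ := Subgroup.mem_zpowers_iff.1 (hd ⟨z, hz⟩)
  exact ⟨i, by simpa using congrArg Subtype.val hi⟩

theorem core_comm {a b : T} (ha : a ∈ O) (hb : b ∈ O) : Commute a b := by
  obtain ⟨d, hd, hgen⟩ := exists_gen hA hm hF
  obtain ⟨i, rfl⟩ := Subgroup.mem_zpowers_iff.1 (hgen a ha)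
  obtain ⟨j, rfl⟩ := Subgroup.mem_zpowers_iff.1 (hgen b hb)
  exact Commute.zpow_zpow_self d i j

/-- The determinant-one part centralises the core. -/
theorem centralises {c z : T} (hc : Commute c t) (hp : pSL (φ c)) (hz : z ∈ O) : Commute c z := by
  obtain ⟨d, hd, hgen⟩ := exists_gen hA hm hF
  obtain ⟨u, v, he⟩ := pSL_commutator _ hp
  obtain ⟨a, ha, rfl⟩ := hF.surj u
  obtain ⟨b, hb, rfl⟩ := hF.surj v
  set k := a * b * a⁻¹ * b⁻¹ with hk
  have hkt : Commute k t := ((ha.mul_left hb).mul_left ha.inv_left).mul_left hb.inv_left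
  have ho : k⁻¹ * c ∈ O := by
    rw [← hF.ker _ (hkt.inv_left.mul_left hc), hF.mul _ _ hkt.inv_left hc, hF.map_inv hkt, hk,
      hF.map_comm ha hb, he]
    exact invC_mC _
  have h1 : Commute k d := comm_centralises (hgen _ (hF.normal a ha d hd))
    (hgen _ (hF.normal b hb d hd))
  obtain ⟨i, rfl⟩ := Subgroup.mem_zpowers_iff.1 (hgen z hz)
  have h2 := (h1.mul_left (core_comm hA hm hF ho hd)).zpow_right i
  rwa [mul_inv_cancel_left] at h2

/-- Outside the determinant-one part the core is inverted. -/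
theorem inverts {c z : T} (hc : Commute c t) (hp : ¬ pSL (φ c)) (hz : z ∈ O) :
    c * z * c⁻¹ = z⁻¹ := by
  by_contra hne
  set w := z * (c * z * c⁻¹) with hw
  have hcz := hF.normal c hc z hz
  have hwO : w ∈ O := O.mul_mem hz hcz
  have hw1 : w ≠ 1 := fun e => hne (eq_inv_of_mul_eq_one_right e)
  have hcw : Commute c w := by
    have hcc : Commute (c * c) z := centralises hA hm hF (hc.mul_left hc) (hF.sq_pSL hc) hz
    show c * w = w * c
    calc c * w = (c * z * c⁻¹) * ((c * c) * z) * c⁻¹ := by rw [hw]; group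
      _ = (c * z * c⁻¹) * (z * (c * c)) * c⁻¹ := by rw [hcc.eq]
      _ = (c * z * c⁻¹ * z) * c := by group
      _ = w * c := by rw [(core_comm hA hm hF hcz hz).eq]
  obtain ⟨r, k, hr, hor⟩ := exists_prime_power hw1
  haveI := Fact.mk hr
  obtain ⟨P, hP⟩ := (IsPGroup.of_card (n := 1) (by rw [Nat.card_zpowers, hor, pow_one]) :
    IsPGroup r (Subgroup.zpowers (w ^ k))).exists_le_sylow
  obtain ⟨v, hv, hmove⟩ :=
    (mover hA hm hF (O.pow_mem hwO k) hor P (hP (Subgroup.mem_zpowers _))).1
  refine hmove ?_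
  have hcomm : Commute v (w ^ k) := by
    by_cases hpv : pSL (φ v)
    · exact centralises hA hm hF hv hpv (O.pow_mem hwO k)
    · have h2 : Commute (c⁻¹ * v) (w ^ k) := by
        refine centralises hA hm hF (hc.inv_left.mul_left hv) ?_ (O.pow_mem hwO k)
        rw [hF.mul _ _ hc.inv_left hv, hF.map_inv hc]
        exact (by decide +kernel : ∀ x y, ¬ pSL x → ¬ pSL y → pSL (mC (invC x) y)) _ _ hp hpv
      have h3 := (hcw.pow_right k).mul_left h2
      rwa [mul_inv_cancel_left] at h3
  rw [hcomm.eq, mul_inv_cancel_right]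

end Core

end Cfsg.Agent.CycSyl43SemiGL
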