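import Mathlib

/-!
The arithmetic for groups with an involution centralised by `GL(2,3)`.
-/

set_option autoImplicit false

namespace Cfsg.Agent.GL23CentArith

/-- One step of the search. -/
def okStep (C a b : ℕ) (L : List ℕ) (n : ℕ) : Bool :=
  let X := n * (n + 1) + a * (n + 1)
  let Y := b * n
  Nat.beq n 0 || Nat.ble X Y || !(Nat.beq (C * n * (n + 1) % (X - Y)) 0) ||
    !(Nat.beq (C * n * (n + 1) / (X - Y) % 96) 48) || L.contains (C * n * (n + 1) / (X - Y))

/-- The search below a bound. -/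
def okBelow (C a b : ℕ) (L : List ℕ) : ℕ → Bool
  | 0 => true
  | n + 1 => okStep C a b L n && okBelow C a b L n

theorem okBelow_spec (C a b : ℕ) (L : List ℕ) : ∀ B, okBelow C a b L B = true →
    ∀ n < B, okStep C a b L n = true := by
  intro B
  induction B with
  | zero => intro _ n hn; omega
  | succ B ih =>
    intro h n hn
    rw [okBelow, Bool.and_eq_true] at h
    rcases Nat.lt_succ_iff_lt_or_eq.1 hn with hn | rfl
    · exact ih h.2 n hn
    · exact h.1

theorem mem_of_step (C a b : ℕ) (L : List ℕ) (n N : ℕ) (hn : 0 < n) (hN : N % 96 = 48)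
    (hX : b * n < n * (n + 1) + a * (n + 1))
    (h : N * (n * (n + 1) + a * (n + 1) - b * n) = C * n * (n + 1))
    (hok : okStep C a b L n = true) : N ∈ L := by
  have hpos : 0 < n * (n + 1) + a * (n + 1) - b * n := by omega
  simp only [okStep, ← h, Nat.mul_mod_left, Nat.mul_div_cancel _ hpos, Bool.or_eq_true,
    Bool.not_eq_true', Nat.ble_eq, List.contains_iff_mem] at hok
  rcases hok with (((h1 | h1) | h1) | h1) | h1
  · have := Nat.eq_of_beq_eq_true h1; omega
  · omega
  · simp at h1
  · rw [hN] at h1; simp at h1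
  · exact h1

/-- The bound on the degree. -/
theorem lt_bound (C a b n N : ℕ) (hn : 0 < n) (ha : 0 < a) (hb : 0 < b) (hb' : b ≤ 36)
    (hC0 : 0 < C)
    (hC : C * a * b ≤ 1850000)
    (h : (N : ℤ) * ((n : ℤ) * (n + 1) + a * (n + 1) - b * n) = C * n * (n + 1)) : n < 1500 := by
  set D : ℤ := (n : ℤ) * (n + 1) + a * (n + 1) - b * n with hD
  have hd : D ∣ (C : ℤ) * a * b := by
    have h1 : D ∣ (C : ℤ) * n * (n + 1) := ⟨N, by linear_combination -h⟩
    have e : (C : ℤ) * a * b = D * (C * (D - n * (n + (1 + a - b)) - (n + 1) * (n + a - b))) +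
        C * n * (n + 1) * ((n + (1 + a - b)) * (n + a - b)) := by
      rw [hD]; ring
    rw [e]
    exact dvd_add (dvd_mul_right _ _) (h1.mul_right _)
  by_contra hlt
  have hn' : (1500 : ℤ) ≤ n := by omega
  have hle : D ≤ (C : ℤ) * a * b := by
    refine Int.le_of_dvd ?_ hd
    positivity
  have hC' : (C : ℤ) * a * b ≤ 1850000 := by exact_mod_cast hC
  have hb'' : (b : ℤ) ≤ 36 := by exact_mod_cast hb'
  rw [hD] at hle
  nlinarith [mul_le_mul_of_nonneg_left hn' (by omega : (0 : ℤ) ≤ n)]

theorem mem_list (C a b : ℕ) (L : List ℕ) (B n N : ℕ) (hn : 0 < n) (hB : n < B) (hN : N % 96 = 48)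
    (h : (N : ℤ) * ((n : ℤ) * (n + 1) + a * (n + 1) - b * n) = C * n * (n + 1))
    (hC : 0 < C) (hok : okBelow C a b L B = true) : N ∈ L := by
  have hD : (0 : ℤ) < (n : ℤ) * (n + 1) + a * (n + 1) - b * n := by
    have h1 : (0 : ℤ) < C * n * (n + 1) := by positivity
    rw [← h] at h1
    exact pos_of_mul_pos_right h1 (by positivity)
  have hX : b * n < n * (n + 1) + a * (n + 1) := by
    zify; linarith
  refine mem_of_step C a b L n N hn hN hX ?_ (okBelow_spec C a b L B hok n hB)
  zify [hX.le]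
  exact h

/-- The solutions of the first relation. -/
def L1 : List ℕ := [5616, 7920, 10608, 13680]

/-- The solutions of the second relation. -/
def L4 : List ℕ := [2160, 3024, 3696, 4464, 4560, 4656, 4752, 5616, 6480, 7920]

attribute [local irreducible] okBelow in
theorem ok1 : ∀ p ∈ [(1, 36), (36, 1), (4, 25), (25, 4), (9, 16), (16, 9)],
    okBelow 9216 p.1 p.2 L1 1500 = true := by
  decide +kernel

theorem ok4 : ∀ p ∈ [(1, 4), (4, 1), (4, 9), (9, 4), (9, 16), (16, 9), (16, 25), (25, 16)],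
    okBelow 4608 p.1 p.2 L4 1500 = true := by
  decide +kernel

theorem ok4' : ∀ p ∈ [(0, 1), (1, 0)], okBelow 4608 p.1 p.2 L4 4609 = true := by
  decide +kernel

theorem first (N n : ℕ) (k l : ℤ) (hn : 0 < n) (hN : N % 96 = 48) (hkl : k - l = 7)
    (hle : k * k + l * l ≤ 46)
    (h : (N : ℤ) * ((n : ℤ) * (n + 1) + k ^ 2 * (n + 1) - l ^ 2 * n) = 9216 * n * (n + 1)) :
    N ∈ L1 := by
  obtain rfl : l = k - 7 := by omega
  have h1 : 1 ≤ k ∧ k ≤ 6 := by constructor <;> nlinarith
  obtain ⟨h1, h2⟩ := h1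
  have key : ∀ a b : ℕ, k ^ 2 = a → (k - 7) ^ 2 = b → (a, b) ∈ [(1, 36), (36, 1), (4, 25), (25, 4), (9, 16), (16, 9)] →
      0 < a → 0 < b → b ≤ 36 → 9216 * a * b ≤ 1850000 → N ∈ L1 := by
    intro a b ha hb hab ha0 hb0 hb' hC
    rw [ha, hb] at h
    have hB := lt_bound 9216 a b n N hn ha0 hb0 hb' (by norm_num) hC h
    exact mem_list 9216 a b L1 1500 n N hn hB hN h (by norm_num) (ok1 (a, b) hab)
  interval_cases k
  · exact key 1 36 rfl rfl (by decide) (by norm_num) (by norm_num) le_rfl (by norm_num)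
  · exact key 4 25 rfl rfl (by decide) (by norm_num) (by norm_num) (by norm_num) (by norm_num)
  · exact key 9 16 rfl rfl (by decide) (by norm_num) (by norm_num) (by norm_num) (by norm_num)
  · exact key 16 9 rfl rfl (by decide) (by norm_num) (by norm_num) (by norm_num) (by norm_num)
  · exact key 25 4 rfl rfl (by decide) (by norm_num) (by norm_num) (by norm_num) (by norm_num)
  · exact key 36 1 rfl rfl (by decide) (by norm_num) (by norm_num) (by norm_num) (by norm_num)

theorem second (N n : ℕ) (k l : ℤ) (hn : 0 < n) (hN : N % 96 = 48) (hkl : k - l = -1)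
    (hle : k * k + l * l ≤ 46)
    (h : (N : ℤ) * ((n : ℤ) * (n + 1) + k ^ 2 * (n + 1) - l ^ 2 * n) = 4608 * n * (n + 1)) :
    N ∈ L4 := by
  obtain rfl : l = k + 1 := by omega
  have h1 : -5 ≤ k ∧ k ≤ 4 := by constructor <;> nlinarith
  obtain ⟨h1, h2⟩ := h1
  have key : ∀ a b : ℕ, k ^ 2 = a → (k + 1) ^ 2 = b →
      (a, b) ∈ [(1, 4), (4, 1), (4, 9), (9, 4), (9, 16), (16, 9), (16, 25), (25, 16)] →
      0 < a → 0 < b → b ≤ 36 → 4608 * a * b ≤ 1850000 → N ∈ L4 := by
    intro a b ha hb hab ha0 hb0 hb' hC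
    rw [ha, hb] at h
    have hB := lt_bound 4608 a b n N hn ha0 hb0 hb' (by norm_num) hC h
    exact mem_list 4608 a b L4 1500 n N hn hB hN h (by norm_num) (ok4 (a, b) hab)
  interval_cases k
  · exact key 25 16 rfl rfl (by decide) (by norm_num) (by norm_num) (by norm_num) (by norm_num)
  · exact key 16 9 rfl rfl (by decide) (by norm_num) (by norm_num) (by norm_num) (by norm_num)
  · exact key 9 4 rfl rfl (by decide) (by norm_num) (by norm_num) (by norm_num) (by norm_num)
  · exact key 4 1 rfl rfl (by decide) (by norm_num) (by norm_num) (by norm_num) (by norm_num)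
  · -- one square vanishes
    have hd : (n + 1) ∣ 4608 := by
      have h' : ((n + 1 : ℕ) : ℤ) * ((N : ℤ) * (n + 1)) = ((n + 1 : ℕ) : ℤ) * (4608 * n) := by
        push_cast; linear_combination h
      have h'' := mul_left_cancel₀ (by positivity) h'
      have : ((n + 1 : ℕ) : ℤ) ∣ (4608 : ℕ) := ⟨4608 - N, by push_cast; linear_combination h''⟩
      exact_mod_cast this
    have := Nat.le_of_dvd (by norm_num) hd
    exact mem_list 4608 1 0 L4 4609 n N hn (by omega) hN (by push_cast; linear_combination h)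
      (by norm_num) (ok4' (1, 0) (by decide))
  · have hd : n ∣ 4608 := by
      have h' : (n : ℤ) * ((N : ℤ) * n) = (n : ℤ) * (4608 * (n + 1)) := by linear_combination h
      have h'' := mul_left_cancel₀ (by positivity) h'
      have : (n : ℤ) ∣ (4608 : ℕ) := ⟨(N : ℤ) - 4608, by push_cast; linear_combination -h''⟩
      exact_mod_cast this
    have := Nat.le_of_dvd (by norm_num) hd
    exact mem_list 4608 0 1 L4 4609 n N hn (by omega) hN (by push_cast; linear_combination h)
      (by norm_num) (ok4' (0, 1) (by decide))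
  · exact key 1 4 rfl rfl (by decide) (by norm_num) (by norm_num) (by norm_num) (by norm_num)
  · exact key 4 9 rfl rfl (by decide) (by norm_num) (by norm_num) (by norm_num) (by norm_num)
  · exact key 9 16 rfl rfl (by decide) (by norm_num) (by norm_num) (by norm_num) (by norm_num)
  · exact key 16 25 rfl rfl (by decide) (by norm_num) (by norm_num) (by norm_num) (by norm_num)

theorem order_eq {N : ℕ} (h1 : N ∈ L1) (h4 : N ∈ L4) : N = 5616 ∨ N = 7920 := by
  simp only [L1, L4, List.mem_cons, List.not_mem_nil, or_false] at h1 h4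
  omega

end Cfsg.Agent.GL23CentArith
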