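import Mathlib

/-! Lifting Sylow subgroups of a quotient through a prescribed p-subgroup. -/

set_option autoImplicit false

namespace Cfsg.Agent.SylowQuotient

variable {G Q : Type*} [Group G] [Group Q] [Finite G] [Finite Q] {p : ℕ} [Fact p.Prime]

/-- A p-subgroup mapped into a Sylow subgroup `S` of the image lies in a Sylow subgroup mapping onto `S`. -/
theorem exists_sylow_lift (f : G →* Q) (hf : Function.Surjective f) (S : Sylow p Q)
    (P : Subgroup G) (hP : IsPGroup p P) (hPS : P.map f ≤ (S : Subgroup Q)) :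
    ∃ T : Sylow p G, P ≤ (T : Subgroup G) ∧ (T : Subgroup G).map f = (S : Subgroup Q) := by
  have hPK : P ≤ (S : Subgroup Q).comap f := fun x hx => hPS (Subgroup.mem_map_of_mem f hx)
  obtain ⟨T₀, hT₀⟩ :=
    (hP.comap_subtype (K := (S : Subgroup Q).comap f)).exists_le_sylow
  have hpT : IsPGroup p ((T₀ : Subgroup _).map ((S : Subgroup Q).comap f).subtype) :=
    T₀.isPGroup'.map _
  have hidx : ¬ p ∣ ((T₀ : Subgroup _).map ((S : Subgroup Q).comap f).subtype).index := by
    rw [Subgroup.index_map_subtype, Subgroup.index_comap_of_surjective _ hf]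
    intro h
    rcases (Nat.Prime.dvd_mul Fact.out).1 h with h | h
    · exact T₀.not_dvd_index h
    · exact S.not_dvd_index h
  refine ⟨hpT.toSylow hidx, ?_, ?_⟩
  · intro x hx
    rw [IsPGroup.toSylow_coe]
    exact ⟨⟨x, hPK hx⟩, hT₀ hx, rfl⟩
  · apply le_antisymm
    · rintro _ ⟨_, ⟨x, _, rfl⟩, rfl⟩
      exact x.2
    · have h := ((hpT.toSylow hidx).mapSurjective hf)
      have h2 : (((hpT.toSylow hidx).mapSurjective hf : Sylow p Q) : Subgroup Q) ≤ S := by
        rintro _ ⟨_, ⟨x, _, rfl⟩, rfl⟩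
        exact x.2
      have := ((hpT.toSylow hidx).mapSurjective hf).is_maximal' S.isPGroup' h2
      exact le_of_eq (this.trans (Sylow.coe_mapSurjective _ _))

/-- A p-subgroup of the image is the image of a p-subgroup. -/
theorem exists_pgroup_map_eq (f : G →* Q) (hf : Function.Surjective f) (D : Subgroup Q)
    (hD : IsPGroup p D) : ∃ P : Subgroup G, IsPGroup p P ∧ P.map f = D := by
  obtain ⟨S, hS⟩ := hD.exists_le_sylow
  obtain ⟨T, -, hT⟩ := exists_sylow_lift f hf S ⊥ (IsPGroup.of_bot) (by simp)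
  refine ⟨(T : Subgroup G) ⊓ D.comap f, T.isPGroup'.to_le inf_le_left, le_antisymm ?_ ?_⟩
  · rintro _ ⟨x, ⟨-, hx⟩, rfl⟩
    exact hx
  · intro d hd
    have := hS hd
    rw [← hT] at this
    obtain ⟨x, hx, rfl⟩ := this
    exact ⟨x, ⟨hx, hd⟩, rfl⟩

end Cfsg.Agent.SylowQuotient
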