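import Mathlib
import Cfsg.Agent.Lib.BinaryOctahedral
import Cfsg.Agent.S3304

/-!
The group `GL(2,3)` in coordinates, and two class functions vanishing off the elements having the
central involution as a power.
-/

set_option autoImplicit false

namespace Cfsg.Agent.GL23CentModel

open BinaryOctahedral QuaternionGroup

/-- The multiplication. -/
abbrev mC (x y : Coord) : Coord := mulC 1 x y

/-- The neutral element. -/
abbrev oneC : Coord := (1, 0, 0)

/-- The central involution. -/
abbrev tC : Coord := (a 2, 0, 0)

/-- The inverse. -/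
def invC (x : Coord) : Coord :=
  if x.2.2 = 0 then (sigPow (-x.2.1) x.1⁻¹, -x.2.1, 0) else (tau (sigPow (-x.2.1) x.1⁻¹), x.2.1, 1)

/-- Powers. -/
def powC (x : Coord) : ℕ → Coord
  | 0 => oneC
  | n + 1 => mC x (powC x n)

/-- Conjugation. -/
abbrev cjC (g x : Coord) : Coord := mC (mC g x) (invC g)

/-- An involution. -/
abbrev IsInv (x : Coord) : Prop := mC x x = oneC ∧ x ≠ oneC

/-- Some power is the central involution. -/
abbrev Special (x : Coord) : Prop :=
  powC x 1 = tC ∨ powC x 2 = tC ∨ powC x 3 = tC ∨ powC x 4 = tC

/-- The first class function. -/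
def th1 (x : Coord) : ℤ :=
  if x = tC then 8 else if powC x 3 = tC ∨ powC x 4 = tC then 2 else 0

/-- The second class function. -/
def th4 (x : Coord) : ℤ :=
  if x = tC then 0 else if powC x 2 = tC then 4 else if powC x 4 = tC then 2 else 0

/-- The two-element central subgroup. -/
abbrev pT (x : Coord) : Prop := x = oneC ∨ x = tC

/-- The subgroup of determinant one. -/
abbrev pSL (x : Coord) : Prop := x.2.2 = 0

/-- The Borel subgroup. -/
abbrev pB (x : Coord) : Prop := x.1 = 1 ∨ x.1 = a 2

/-- Its determinant one part. -/
abbrev pB0 (x : Coord) : Prop := pB x ∧ x.2.2 = 0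

/-- A complement of the quaternion group. -/
abbrev pS3 (x : Coord) : Prop := x.1 = 1

/-- The Sylow 2-subgroup. -/
abbrev pSD (x : Coord) : Prop := x.2.1 = 0

/-- A subgroup given by a predicate. -/
abbrev Closed (p : Coord → Prop) : Prop :=
  p oneC ∧ (∀ x, p x → p (invC x)) ∧ ∀ x, p x → ∀ y, p y → p (mC x y)

/-- Weights averaging to `th1`. -/
def w1 (x : Coord) : ℤ :=
  2 - 2 * (if pSL x then 1 else 0) + 8 * (if pB0 x then 1 else 0) - 8 * (if pS3 x then 1 else 0)

/-- Weights averaging to `th4`. -/
def w4 (x : Coord) : ℤ :=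
  1 + 3 * (if pSD x then 1 else 0) - 4 * (if pB x then 1 else 0)

theorem card_univ' : (Finset.univ : Finset Coord).card = 48 := by decide +kernel

theorem one_mC : mC oneC oneC = oneC := by decide +kernel

theorem mC_invC : ∀ x, mC x (invC x) = oneC := by decide +kernel

theorem closed_pT : Closed pT := ⟨by decide +kernel, by decide +kernel, by decide +kernel⟩
theorem closed_pSL : Closed pSL := ⟨by decide +kernel, by decide +kernel, by decide +kernel⟩
theorem closed_pB : Closed pB := ⟨by decide +kernel, by decide +kernel, by decide +kernel⟩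
theorem closed_pB0 : Closed pB0 := ⟨by decide +kernel, by decide +kernel, by decide +kernel⟩
theorem closed_pS3 : Closed pS3 := ⟨by decide +kernel, by decide +kernel, by decide +kernel⟩
theorem closed_pSD : Closed pSD := ⟨by decide +kernel, by decide +kernel, by decide +kernel⟩

theorem card_pSL : (Finset.univ.filter pSL).card = 24 := by decide +kernel
theorem card_pB : (Finset.univ.filter pB).card = 12 := by decide +kernel
theorem card_pB0 : (Finset.univ.filter pB0).card = 6 := by decide +kernel
theorem card_pS3 : (Finset.univ.filter pS3).card = 6 := by decide +kernel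
theorem card_pSD : (Finset.univ.filter pSD).card = 16 := by decide +kernel

theorem filter_pT : Finset.univ.filter pT = {oneC, tC} := by decide +kernel

theorem one_ne_t : oneC ≠ tC := by decide +kernel

theorem t_central : ∀ x, mC x tC = mC tC x := by decide +kernel

theorem isInv_t : IsInv tC := by decide +kernel

theorem avg1 : ∀ x, ∑ g, w1 (cjC g x) = 48 * th1 x := by decide +kernel

theorem avg4 : ∀ x, ∑ g, w4 (cjC g x) = 48 * th4 x := by decide +kernel

theorem supp1 : ∀ x, th1 x ≠ 0 → Special x := by decide +kernel

theorem supp4 : ∀ x, th4 x ≠ 0 → Special x := by decide +kernel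

theorem inv1 : ∀ x g, th1 (cjC g x) = th1 x := by decide +kernel

theorem inv4 : ∀ x g, th4 (cjC g x) = th4 x := by decide +kernel

theorem norm1 : ∑ x, th1 x * th1 x = 144 := by decide +kernel

theorem norm4 : ∑ x, th4 x * th4 x = 144 := by decide +kernel

theorem sum1 : ∑ x, th1 x = 48 := by decide +kernel

theorem sum4 : ∑ x, th4 x = 48 := by decide +kernel

theorem pairs1 : ∑ u, ∑ x, (if IsInv u ∧ IsInv (mC u x) then th1 x else 0) = 192 := by
  decide +kernel

theorem pairs4 : ∑ u, ∑ x, (if IsInv u ∧ IsInv (mC u x) then th4 x else 0) = 96 := by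
  decide +kernel

theorem special_pow : ∀ x, Special x →
    ∀ k ∈ [1, 2, 3, 4], IsInv (powC x k) → powC x k = tC := by
  decide +kernel

/-- An element inverting a special element commutes with the central involution. -/
theorem special_power : ∀ x, Special x → ∃ k ∈ [1, 2, 3, 4], powC x k = tC := by decide +kernel

theorem centre_sylow : ∀ x, (∀ y, pSD y → mC x y = mC y x) → x = oneC ∨ x = tC := by
  decide +kernel

theorem inv_cases : ∀ x, IsInv x → x = tC ∨ ∃ g, cjC g x = (1, 0, 1) := by decide +kernel

theorem inv_quaternion : ∀ q : Q8, IsInv (q, 0, 0) → (q, 0, 0) = tC := by decide +kernel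

theorem isInv_u : IsInv (1, 0, 1) := by decide +kernel

theorem u_ne_t : ((1, 0, 1) : Coord) ≠ tC := by decide +kernel

theorem gl_t_unique : ∀ x, IsInv x → (∀ y, mC x y = mC y x) → x = tC := by decide +kernel

end Cfsg.Agent.GL23CentModel
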