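import Mathlib
import Cfsg.Agent.Lib.GL23CentModel
import Cfsg.Agent.Lib.GL23CentArith
import Cfsg.Agent.Lib.FourExceptional
import Cfsg.Agent.Lib.TransferThompson

/-!
A finite group with one class of involutions in which an involution has centraliser `GL(2,3)` has
order 5616 or 7920 (exceptional characters).
-/

set_option autoImplicit false

namespace Cfsg.Agent.GL23CentOrder

open scoped ComplexConjugate
open BinaryOctahedral GL23CentModel
open Cfsg.Agent.S3279 (inv_mul_self_eq inv_eq inv_ne_one order_conj commute_conj)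
open Cfsg.Agent.CharBasicOrth Cfsg.Agent.CharBasicDecomp Cfsg.Agent.CharBasic

universe u

/-- `f` identifies the centraliser of `f tC` with `GL(2,3)`. -/
structure Setup {G : Type u} [Group G] (f : Coord → G) : Prop where
  mul : ∀ x y, f (mC x y) = f x * f y
  inj : Function.Injective f
  cent : ∀ c : G, Commute c (f tC) → ∃ x, f x = c

variable {G : Type u} [Group G] {f : Coord → G}

theorem Setup.f_one (hs : Setup f) : f oneC = 1 :=
  mul_left_cancel (a := f oneC) (by rw [← hs.mul, one_mC, mul_one])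

theorem Setup.f_inv (hs : Setup f) (x : Coord) : f (invC x) = (f x)⁻¹ :=
  eq_inv_of_mul_eq_one_right (by rw [← hs.mul, mC_invC, hs.f_one])

theorem Setup.f_cj (hs : Setup f) (g x : Coord) : f (cjC g x) = f g * f x * (f g)⁻¹ := by
  rw [cjC, hs.mul, hs.mul, hs.f_inv]

theorem Setup.f_pow (hs : Setup f) (x : Coord) : ∀ n : ℕ, f (powC x n) = f x ^ n
  | 0 => by rw [powC, hs.f_one, pow_zero]
  | n + 1 => by rw [powC, hs.mul, hs.f_pow x n, pow_succ']

theorem Setup.isInv_iff (hs : Setup f) (x : Coord) : orderOf (f x) = 2 ↔ IsInv x := by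
  rw [orderOf_eq_prime_iff, pow_two, ← hs.mul, ← hs.f_one, hs.inj.eq_iff, hs.inj.ne_iff]

theorem Setup.ot (hs : Setup f) : orderOf (f tC) = 2 := (hs.isInv_iff _).2 isInv_t

theorem Setup.commute_t (hs : Setup f) (x : Coord) : Commute (f x) (f tC) := by
  show f x * f tC = f tC * f x
  rw [← hs.mul, ← hs.mul, t_central]

theorem Setup.mem_cent_iff (hs : Setup f) (c : G) :
    c ∈ Subgroup.centralizer ({f tC} : Set G) ↔ ∃ x, f x = c := by
  rw [Subgroup.mem_centralizer_singleton_iff]
  refine ⟨hs.cent c, ?_⟩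
  rintro ⟨x, rfl⟩
  exact (hs.commute_t x).eq

theorem Setup.card_centralizer (hs : Setup f) :
    Nat.card (Subgroup.centralizer ({f tC} : Set G)) = 48 := by
  rw [← card_coord]
  refine (Nat.card_eq_of_bijective (fun x => ⟨f x, (hs.mem_cent_iff _).2 ⟨x, rfl⟩⟩)
    ⟨fun x y h => hs.inj (congrArg Subtype.val h), fun c => ?_⟩).symm
  obtain ⟨x, hx⟩ := (hs.mem_cent_iff _).1 c.2
  exact ⟨x, Subtype.ext hx⟩

/-- The image of a subgroup of the coordinates. -/
def subOf (hs : Setup f) (p : Coord → Prop) (hp : Closed p) : Subgroup G where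
  carrier := {c | ∃ x, p x ∧ f x = c}
  one_mem' := ⟨oneC, hp.1, hs.f_one⟩
  mul_mem' := by
    rintro _ _ ⟨x, hx, rfl⟩ ⟨y, hy, rfl⟩
    exact ⟨mC x y, hp.2.2 x hx y hy, hs.mul x y⟩
  inv_mem' := by
    rintro _ ⟨x, hx, rfl⟩
    exact ⟨invC x, hp.2.1 x hx, hs.f_inv x⟩

theorem mem_subOf (hs : Setup f) {p : Coord → Prop} (hp : Closed p) {c : G} :
    c ∈ subOf hs p hp ↔ ∃ x, p x ∧ f x = c := Iff.rfl

theorem card_subOf (hs : Setup f) {p : Coord → Prop} (hp : Closed p) [DecidablePred p] :
    Nat.card (subOf hs p hp) = (Finset.univ.filter p).card := by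
  rw [← Fintype.card_subtype, ← Nat.card_eq_fintype_card]
  refine (Nat.card_eq_of_bijective
    (fun x : {x : Coord // p x} => (⟨f x.1, ⟨x.1, x.2, rfl⟩⟩ : subOf hs p hp))
    ⟨fun x y h => Subtype.ext (hs.inj (congrArg Subtype.val h)), ?_⟩).symm
  rintro ⟨_, x, hx, rfl⟩
  exact ⟨⟨x, hx⟩, rfl⟩

section Characters

variable [Fintype G]

theorem average_comp {H : Type*} [Group H] [Fintype H] (j : H →* G) {χ : G → ℂ}
    (hχ : Cfsg.IsCharacter G χ) : ∃ m : ℕ, ∑ k, χ (j k) = (Fintype.card H : ℂ) * m := by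
  obtain ⟨m, hm⟩ := classInner_isCharacter (isCharacter_comap j hχ) (isCharacter_one (G := H))
  refine ⟨m, ?_⟩
  rw [← hm]
  simp [Cfsg.classInner]

theorem exists_average (hs : Setup f) {p : Coord → Prop} (hp : Closed p) [DecidablePred p]
    {χ : G → ℂ} (hχ : Cfsg.IsCharacter G χ) {n : ℕ} (hn : (Finset.univ.filter p).card = n) :
    ∃ m : ℕ, ∑ x, (if p x then χ (f x) else 0) = (n : ℂ) * m := by
  classical
  haveI : Fintype (subOf hs p hp) := Fintype.ofFinite _
  obtain ⟨m, hm⟩ := average_comp (subOf hs p hp).subtype hχ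
  refine ⟨m, ?_⟩
  rw [← hn, ← card_subOf hs hp, Nat.card_eq_fintype_card, ← hm, ← Finset.sum_filter,
    Finset.sum_subtype (Finset.univ.filter p) (p := p) (by simp) fun x => χ (f x)]
  refine Finset.sum_bij' (fun x _ => (⟨f x.1, ⟨x.1, x.2, rfl⟩⟩ : subOf hs p hp))
    (fun c _ => ⟨c.2.choose, c.2.choose_spec.1⟩) (fun _ _ => Finset.mem_univ _)
    (fun _ _ => Finset.mem_univ _) (fun x _ => Subtype.ext (hs.inj ?_))
    (fun c _ => Subtype.ext c.2.choose_spec.2) (fun _ _ => rfl)
  exact (⟨x.1, x.2, rfl⟩ : ∃ y, p y ∧ f y = f x.1).choose_spec.2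

/-- The values at the involution are rational integers. -/
theorem exists_int_t (hs : Setup f) {χ : G → ℂ} (hχ : Cfsg.IsCharacter G χ) :
    ∃ k : ℤ, χ (f tC) = k := by
  obtain ⟨n, hn⟩ := isCharacter_apply_one hχ
  obtain ⟨m, hm⟩ := exists_average hs closed_pT hχ (n := 2)
    (by rw [filter_pT, Finset.card_pair one_ne_t])
  rw [← Finset.sum_filter, filter_pT, Finset.sum_pair one_ne_t, hs.f_one, hn] at hm
  exact ⟨2 * (m : ℤ) - n, by push_cast; linear_combination hm⟩

theorem exists_int_w1 (hs : Setup f) {χ : G → ℂ} (hχ : Cfsg.IsCharacter G χ) :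
    ∃ v : ℤ, ∑ x, (w1 x : ℂ) * χ (f x) = 48 * (v : ℂ) := by
  have hall : Closed (fun _ => True) := ⟨trivial, fun _ _ => trivial, fun _ _ _ _ => trivial⟩
  obtain ⟨mC, hC⟩ := exists_average hs hall hχ (n := 48)
    (by rw [Finset.filter_true]; exact card_univ')
  obtain ⟨mS, hS⟩ := exists_average hs closed_pSL hχ card_pSL
  obtain ⟨mB, hB⟩ := exists_average hs closed_pB0 hχ card_pB0
  obtain ⟨m3, h3⟩ := exists_average hs closed_pS3 hχ card_pS3
  refine ⟨2 * (mC : ℤ) - mS + mB - m3, ?_⟩
  have e : ∀ x, (w1 x : ℂ) * χ (f x) = 2 * (if True then χ (f x) else 0) -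
      2 * (if pSL x then χ (f x) else 0) + 8 * (if pB0 x then χ (f x) else 0) -
        8 * (if pS3 x then χ (f x) else 0) := by
    intro x
    simp only [w1]
    push_cast
    split_ifs <;> ring
  rw [Finset.sum_congr rfl fun x _ => e x, Finset.sum_sub_distrib, Finset.sum_add_distrib,
    Finset.sum_sub_distrib, ← Finset.mul_sum, ← Finset.mul_sum, ← Finset.mul_sum, ← Finset.mul_sum,
    hC, hS, hB, h3]
  push_cast
  ring

theorem exists_int_w4 (hs : Setup f) {χ : G → ℂ} (hχ : Cfsg.IsCharacter G χ) :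
    ∃ v : ℤ, ∑ x, (w4 x : ℂ) * χ (f x) = 48 * (v : ℂ) := by
  have hall : Closed (fun _ => True) := ⟨trivial, fun _ _ => trivial, fun _ _ _ _ => trivial⟩
  obtain ⟨mC, hC⟩ := exists_average hs hall hχ (n := 48)
    (by rw [Finset.filter_true]; exact card_univ')
  obtain ⟨mD, hD⟩ := exists_average hs closed_pSD hχ card_pSD
  obtain ⟨mB, hB⟩ := exists_average hs closed_pB hχ card_pB
  refine ⟨(mC : ℤ) + mD - mB, ?_⟩
  have e : ∀ x, (w4 x : ℂ) * χ (f x) = (if True then χ (f x) else 0) +
      3 * (if pSD x then χ (f x) else 0) - 4 * (if pB x then χ (f x) else 0) := by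
    intro x
    simp only [w4]
    push_cast
    split_ifs <;> ring
  rw [Finset.sum_congr rfl fun x _ => e x, Finset.sum_sub_distrib, Finset.sum_add_distrib,
    ← Finset.mul_sum, ← Finset.mul_sum, hC, hD, hB]
  push_cast
  ring

open Classical in
/-- The class function extended by zero. -/
noncomputable def ext (f : Coord → G) (th : Coord → ℤ) (y : G) : ℂ :=
  ∑ x, if y = f x then (th x : ℂ) else 0

/-- The induced class function. -/
noncomputable def exc (f : Coord → G) (th : Coord → ℤ) (y : G) : ℂ :=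
  (48 : ℂ)⁻¹ * ∑ h : G, ext f th (h⁻¹ * y * h)

theorem sum_ext (f : Coord → G) (th : Coord → ℤ) (F : G → ℂ) :
    ∑ y, ext f th y * F y = ∑ x, (th x : ℂ) * F (f x) := by
  classical
  simp only [ext, Finset.sum_mul]
  rw [Finset.sum_comm]
  refine Finset.sum_congr rfl fun x _ => ?_
  rw [Finset.sum_eq_single (f x)]
  · simp
  · intro y _ hy; simp [hy]
  · simp

theorem ext_apply (hs : Setup f) (th : Coord → ℤ) (x : Coord) : ext f th (f x) = th x := by
  classical
  simp only [ext, hs.inj.eq_iff]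
  simp

theorem isClassFunction_exc (th : Coord → ℤ) : Cfsg.IsClassFunction G (exc f th) := by
  intro y k
  simp only [exc]
  congr 1
  refine (Equiv.sum_comp (Equiv.mulLeft k⁻¹) (fun h => ext f th (h⁻¹ * y * h))).symm.trans ?_ |>.symm
  exact Finset.sum_congr rfl fun h _ => by simp [mul_assoc]

theorem classInner_exc (th : Coord → ℤ) {F : G → ℂ} (hF : Cfsg.IsClassFunction G F) :
    Cfsg.classInner (exc f th) F = (48 : ℂ)⁻¹ * ∑ x, (th x : ℂ) * conj (F (f x)) := by
  have hsum : ∀ h : G, ∑ y, ext f th (h⁻¹ * y * h) * conj (F y) =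
      ∑ y, ext f th y * conj (F y) := by
    intro h
    rw [← Equiv.sum_comp (MulAut.conj h).toEquiv]
    refine Finset.sum_congr rfl fun y _ => ?_
    have e2 : F ((MulAut.conj h).toEquiv y) = F y := hF y h
    rw [e2]
    simp [mul_assoc]
  have hA : ∑ y, exc f th y * conj (F y) =
      (48 : ℂ)⁻¹ * ∑ h : G, ∑ y, ext f th (h⁻¹ * y * h) * conj (F y) := by
    rw [Finset.sum_comm (γ := G), Finset.mul_sum]
    exact Finset.sum_congr rfl fun y _ => by rw [exc, mul_assoc, Finset.sum_mul]
  simp only [Cfsg.classInner]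
  rw [hA, Finset.sum_congr rfl fun h _ => hsum h, Finset.sum_const, nsmul_eq_mul,
    Finset.card_univ, ← Nat.card_eq_fintype_card, sum_ext f th (fun y => conj (F y))]
  have : (Nat.card G : ℂ) ≠ 0 := Nat.cast_ne_zero.2 Nat.card_pos.ne'
  field_simp

/-- The data of one class function. -/
structure Data (th w : Coord → ℤ) (K : ℤ) : Prop where
  avg : ∀ x, ∑ g, w (cjC g x) = 48 * th x
  supp : ∀ x, th x ≠ 0 → Special x
  inv : ∀ x g, th (cjC g x) = th x
  norm : ∑ x, th x * th x = 144
  sum : ∑ x, th x = 48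
  pairs : ∑ u, ∑ x, (if IsInv u ∧ IsInv (mC u x) then th x else 0) = K

theorem exists_int_classInner (hs : Setup f) {th w : Coord → ℤ} {K : ℤ} (hd : Data th w K)
    {χ : G → ℂ} (hχ : Cfsg.IsCharacter G χ)
    (hw : ∃ v : ℤ, ∑ x, (w x : ℂ) * χ (f x) = 48 * (v : ℂ)) :
    ∃ v : ℤ, Cfsg.classInner (exc f th) χ = v := by
  obtain ⟨v, hv⟩ := hw
  have hcl := isClassFunction_of_isCharacter hχ
  refine ⟨v, ?_⟩
  have h1 : (48 : ℂ) * ∑ x, (th x : ℂ) * χ (f x) = 48 * ∑ x, (w x : ℂ) * χ (f x) := by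
    rw [Finset.mul_sum]
    have e : ∀ x, (48 : ℂ) * ((th x : ℂ) * χ (f x)) = ∑ g, (w (cjC g x) : ℂ) * χ (f (cjC g x)) := by
      intro x
      have := congrArg (fun z : ℤ => (z : ℂ)) (hd.avg x)
      push_cast at this
      rw [← mul_assoc, ← this, Finset.sum_mul]
      exact Finset.sum_congr rfl fun g _ => by rw [hs.f_cj, hcl]
    rw [Finset.sum_congr rfl fun x _ => e x, Finset.sum_comm]
    have e2 : ∀ g : Coord, ∑ x, (w (cjC g x) : ℂ) * χ (f (cjC g x)) = ∑ x, (w x : ℂ) * χ (f x) := by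
      intro g
      have hbij : Function.Bijective (cjC g) := by
        refine Finite.injective_iff_bijective.1 fun x y h => hs.inj ?_
        have := congrArg f h
        rw [hs.f_cj, hs.f_cj] at this
        exact mul_left_cancel (mul_right_cancel this)
      exact Fintype.sum_bijective _ hbij _ _ fun _ => rfl
    rw [Finset.sum_congr rfl fun g _ => e2 g, Finset.sum_const, card_univ', nsmul_eq_mul]
    norm_num
  have h2 : ∑ x, (th x : ℂ) * χ (f x) = 48 * (v : ℂ) := by
    rw [← hv]; exact mul_left_cancel₀ (by norm_num) h1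
  have h3 := congrArg conj h2
  simp only [map_sum, map_mul, map_intCast, map_ofNat] at h3
  rw [classInner_exc th hcl, h3]
  ring

theorem ext_special (hs : Setup f) {th w : Coord → ℤ} {K : ℤ} (hd : Data th w K) {x : Coord}
    (hx : Special x) {h : G} (hne : ext f th (h⁻¹ * f x * h) ≠ 0) : ∃ g, f g = h := by
  classical
  obtain ⟨y, -, hy⟩ := Finset.exists_ne_zero_of_sum_ne_zero hne
  by_cases he : h⁻¹ * f x * h = f y
  swap
  · exact absurd (if_neg he) hy
  rw [if_pos he] at hy
  obtain ⟨k, hk, hkt⟩ := special_power x hx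
  have hy' := hd.supp y (fun h0 => hy (by rw [h0]; norm_num))
  have hpow : h⁻¹ * f tC * h = f (powC y k) := by
    rw [← hkt, hs.f_pow, hs.f_pow, ← he]
    simpa using (conj_pow (i := k) (a := h⁻¹) (b := f x)).symm
  have hinv : IsInv (powC y k) := by
    rw [← hs.isInv_iff, ← hpow]
    have := order_conj h⁻¹ (f tC)
    rw [inv_inv] at this
    rw [this, hs.ot]
  rw [special_pow y hy' k hk hinv] at hpow
  refine hs.cent h ?_
  show h * f tC = f tC * h
  conv_lhs => rw [← hpow]
  group

theorem exc_special (hs : Setup f) {th w : Coord → ℤ} {K : ℤ} (hd : Data th w K) {x : Coord}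
    (hx : Special x) : exc f th (f x) = th x := by
  classical
  have key : ∀ h : G, ext f th (h⁻¹ * f x * h) =
      if ∃ g, f g = h then (th x : ℂ) else 0 := by
    intro h
    split_ifs with hh
    · obtain ⟨g, rfl⟩ := hh
      have : (f g)⁻¹ * f x * f g = f (cjC (invC g) x) := by rw [hs.f_cj, hs.f_inv, inv_inv]
      rw [this, ext_apply hs, hd.inv]
    · by_contra hne
      exact hh (ext_special hs hd hx hne)
  rw [exc, Finset.sum_congr rfl fun h _ => key h, ← Finset.sum_filter, Finset.sum_const,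
    nsmul_eq_mul]
  have hc : (Finset.univ.filter fun h : G => ∃ g, f g = h).card = 48 := by
    rw [show (Finset.univ.filter fun h : G => ∃ g, f g = h) = Finset.univ.image f by ext; simp,
      Finset.card_image_of_injective _ hs.inj, card_univ']
  rw [hc]
  push_cast
  ring

theorem exc_one (hs : Setup f) {th w : Coord → ℤ} {K : ℤ} (hd : Data th w K) (h1 : th oneC = 0) :
    exc f th 1 = 0 := by
  classical
  have : ext f th 1 = 0 := by rw [← hs.f_one, ext_apply hs, h1, Int.cast_zero]
  simp [exc, this]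

theorem sum_pairs_exc (hs : Setup f) {th w : Coord → ℤ} {K : ℤ} (hd : Data th w K) :
    ∑ u ∈ Finset.univ.filter (fun u : G => orderOf u = 2),
      ∑ v ∈ Finset.univ.filter (fun u : G => orderOf u = 2), exc f th (u * v) =
      (48 : ℂ)⁻¹ * Nat.card G * K := by
  classical
  set I := Finset.univ.filter fun u : G => orderOf u = 2 with hI
  have hinner : ∀ u ∈ I, ∑ v ∈ I, ext f th (u * v) =
      ∑ x, if orderOf (u * f x) = 2 then (th x : ℂ) else 0 := by
    intro u hu
    have hu2 : orderOf u = 2 := (Finset.mem_filter.1 hu).2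
    calc ∑ v ∈ I, ext f th (u * v)
        = ∑ v, ext f th (u * v) * (if orderOf v = 2 then 1 else 0) := by
          rw [hI, Finset.sum_filter]
          exact Finset.sum_congr rfl fun v _ => by split_ifs <;> simp
      _ = ∑ y, ext f th y * (if orderOf (u * y) = 2 then 1 else 0) := by
          refine (Equiv.sum_comp (Equiv.mulLeft u)
            (fun v => ext f th (u * v) * (if orderOf v = 2 then 1 else 0))).symm.trans ?_
          refine Finset.sum_congr rfl fun y _ => ?_
          show ext f th (u * (u * y)) * (if orderOf (u * y) = 2 then 1 else 0) = _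
          rw [← mul_assoc, inv_mul_self_eq hu2, one_mul]
      _ = _ := by
          rw [sum_ext f th (fun y => if orderOf (u * y) = 2 then (1 : ℂ) else 0)]
          exact Finset.sum_congr rfl fun x _ => by split_ifs <;> simp
  have hout : ∀ u ∈ I, u ∉ Finset.univ.image f →
      (∑ x, if orderOf (u * f x) = 2 then (th x : ℂ) else 0) = 0 := by
    intro u hu hnf
    refine Finset.sum_eq_zero fun x _ => ?_
    split_ifs with h
    swap
    · rfl
    by_contra hne
    have hu2 : orderOf u = 2 := (Finset.mem_filter.1 hu).2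
    have hx := hd.supp x (fun h0 => hne (by rw [h0]; norm_num))
    obtain ⟨k, -, hkt⟩ := special_power x hx
    have hinv : u * f x * u⁻¹ = (f x)⁻¹ := by
      have h' := inv_eq h
      rw [mul_inv_rev, inv_eq hu2] at h'
      rw [inv_eq hu2, ← h', mul_assoc, inv_mul_self_eq hu2, mul_one]
    have : u * f tC * u⁻¹ = f tC := by
      rw [← hkt, hs.f_pow, ← conj_pow, hinv, inv_pow, ← hs.f_pow, hkt, inv_eq hs.ot]
    obtain ⟨g, hg⟩ := hs.cent u (mul_inv_eq_iff_eq_mul.1 this)
    exact hnf (Finset.mem_image.2 ⟨g, Finset.mem_univ _, hg⟩)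
  have htot : ∑ u ∈ I, ∑ v ∈ I, ext f th (u * v) = (K : ℂ) := by
    rw [Finset.sum_congr rfl hinner, ← Finset.sum_filter_of_ne (p := fun u => u ∈ Finset.univ.image f)
      (fun u hu h => by by_contra hn; exact h (hout u hu hn))]
    have hset : I.filter (fun u => u ∈ Finset.univ.image f) =
        (Finset.univ.filter fun g : Coord => IsInv g).image f := by
      ext u
      simp only [hI, Finset.mem_filter, Finset.mem_univ, true_and, Finset.mem_image]
      constructor
      · rintro ⟨h2, g, rfl⟩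
        exact ⟨g, (hs.isInv_iff g).1 h2, rfl⟩
      · rintro ⟨g, hg, rfl⟩
        exact ⟨(hs.isInv_iff g).2 hg, g, rfl⟩
    rw [hset, Finset.sum_image fun a _ b _ h => hs.inj h, Finset.sum_filter, ← hd.pairs]
    push_cast
    refine Finset.sum_congr rfl fun g _ => ?_
    split_ifs with hg
    · refine Finset.sum_congr rfl fun x _ => ?_
      simp only [← hs.mul, hs.isInv_iff]
      exact if_congr (and_iff_right hg).symm rfl rfl
    · simp [hg]
  have hconj : ∀ h : G, ∑ u ∈ I, ∑ v ∈ I, ext f th (h⁻¹ * (u * v) * h) = (K : ℂ) := by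
    intro h
    rw [← htot]
    refine Finset.sum_equiv (MulAut.conj h⁻¹).toEquiv ?_ fun u _ => ?_
    · intro u; simp only [hI, Finset.mem_filter, Finset.mem_univ, true_and]
      show _ ↔ orderOf (h⁻¹ * u * h⁻¹⁻¹) = 2
      rw [order_conj]
    refine Finset.sum_equiv (MulAut.conj h⁻¹).toEquiv ?_ fun v _ => ?_
    · intro u; simp only [hI, Finset.mem_filter, Finset.mem_univ, true_and]
      show _ ↔ orderOf (h⁻¹ * u * h⁻¹⁻¹) = 2
      rw [order_conj]
    · simp [mul_assoc]
  simp only [exc, ← Finset.mul_sum]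
  rw [Finset.sum_congr rfl fun u _ => Finset.sum_comm, Finset.sum_comm,
    Finset.sum_congr rfl fun h _ => hconj h, Finset.sum_const, nsmul_eq_mul, Finset.card_univ,
    ← Nat.card_eq_fintype_card]
  ring

/-- The relation between the order and the degree of an exceptional character. -/
theorem exists_relation (hs : Setup f) {th w : Coord → ℤ} {K : ℤ} (hd : Data th w K)
    (h1 : th oneC = 0)
    (hw : ∀ χ : Cfsg.IrrCharacter G, ∃ v : ℤ, ∑ x, (w x : ℂ) * (χ : G → ℂ) (f x) = 48 * (v : ℂ))
    (hconj : ∀ u v : G, orderOf u = 2 → orderOf v = 2 → IsConj u v) :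
    ∃ n : ℕ, ∃ k l : ℤ, 0 < n ∧ k - l = th tC - 1 ∧ k * k + l * l ≤ 46 ∧
      (Nat.card G : ℤ) * ((n : ℤ) * (n + 1) + k ^ 2 * (n + 1) - l ^ 2 * n) =
        48 * K * n * (n + 1) := by
  classical
  set o := trivIrr G
  set t := f tC with ht
  choose v hv using fun χ : Cfsg.IrrCharacter G =>
    exists_int_classInner hs hd (isCharacter_of_isIrrCharacter χ.2) (hw χ)
  choose k hk using fun χ : Cfsg.IrrCharacter G => exists_int_t hs (isCharacter_of_isIrrCharacter χ.2)
  choose n hn using fun χ : Cfsg.IrrCharacter G => isCharacter_apply_one (isCharacter_of_isIrrCharacter χ.2)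
  have hcl := isClassFunction_exc (f := f) th
  have hF : exc f th = ∑ χ, (v χ : ℂ) • (χ : G → ℂ) := by
    conv_lhs => rw [eq_sum_classInner hcl]
    exact Finset.sum_congr rfl fun χ _ => by rw [hv]
  have hvo : v o = 1 := by
    have h := hv o
    rw [classInner_exc th (isClassFunction_of_isCharacter (isCharacter_of_isIrrCharacter o.2))] at h
    have h1 : ∀ y : G, (o : G → ℂ) y = 1 := fun y => rfl
    simp only [h1, map_one, mul_one] at h
    have h48 : ∑ x, (th x : ℂ) = 48 := by exact_mod_cast congrArg (fun z : ℤ => (z : ℂ)) hd.sum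
    rw [h48] at h
    have : ((v o : ℤ) : ℂ) = ((1 : ℤ) : ℂ) := by rw [← h]; norm_num
    exact Int.cast_injective this
  have hv3 : ∑ χ, v χ * v χ = 3 := by
    have h := classInner_eq_sum (φ := exc f th) hcl
    rw [classInner_exc th hcl] at h
    have e : ∀ x, (th x : ℂ) * conj (exc f th (f x)) = ((th x * th x : ℤ) : ℂ) := by
      intro x
      by_cases h0 : th x = 0
      · simp [h0]
      · rw [exc_special hs hd (hd.supp x h0), map_intCast, Int.cast_mul]
    simp only [e, hv, map_intCast] at h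
    rw [← Int.cast_sum, hd.norm] at h
    have : ((∑ χ, v χ * v χ : ℤ) : ℂ) = ((3 : ℤ) : ℂ) := by
      push_cast; rw [← h]; norm_num
    exact Int.cast_injective this
  set V := Finset.univ.filter fun χ : Cfsg.IrrCharacter G => χ ≠ o ∧ v χ ≠ 0 with hV
  have hsplit0 : ∀ {M : Type} [AddCommMonoid M] (f : Cfsg.IrrCharacter G → M),
      (∀ χ, v χ = 0 → f χ = 0) → ∑ χ, f χ = f o + ∑ χ ∈ V, f χ := by
    intro M _ f hf
    rw [← Finset.add_sum_erase _ _ (Finset.mem_univ o)]
    congr 1
    refine (Finset.sum_subset (fun i hi => Finset.mem_erase.2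
      ⟨(Finset.mem_filter.1 hi).2.1, Finset.mem_univ _⟩) fun i hi hiV => hf i ?_).symm
    by_contra hne
    exact hiV (Finset.mem_filter.2 ⟨Finset.mem_univ _, (Finset.mem_erase.1 hi).1, hne⟩)
  have hsum2 : ∑ χ ∈ V, v χ * v χ = 2 := by
    have h := hsplit0 (fun χ => v χ * v χ) (fun χ h => by simp [h])
    rw [hv3, hvo] at h
    omega
  have hone : ∀ χ ∈ V, v χ = 1 ∨ v χ = -1 := by
    intro χ hχ
    have hne := (Finset.mem_filter.1 hχ).2.2
    have hle : v χ * v χ ≤ 2 := hsum2 ▸ Finset.single_le_sum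
      (f := fun χ => v χ * v χ) (fun i _ => mul_self_nonneg (v i)) hχ
    have : -1 ≤ v χ ∧ v χ ≤ 1 := by constructor <;> nlinarith
    omega
  have hV2 : V.card = 2 := by
    have h := Finset.sum_congr rfl (fun χ hχ =>
      (by rcases hone χ hχ with h | h <;> rw [h] <;> rfl : v χ * v χ = 1)) (s₁ := V)
    rw [hsum2] at h
    simp at h
    omega
  obtain ⟨P, Q, hPQ, hVeq⟩ := Finset.card_eq_two.1 hV2
  have hPV : P ∈ V := by simp [hVeq]
  have hQV : Q ∈ V := by simp [hVeq]
  have hsplit : ∀ f : Cfsg.IrrCharacter G → ℂ, (∀ χ, v χ = 0 → f χ = 0) →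
      ∑ χ, f χ = f o + (f P + f Q) := by
    intro f hf
    rw [hsplit0 f hf, hVeq, Finset.sum_pair hPQ]
  have hzero := congrFun hF 1
  rw [exc_one hs hd h1, Finset.sum_apply, hsplit _ (fun χ h => by simp [h])] at hzero
  have hval := congrFun hF t
  rw [ht, exc_special hs hd (Or.inl (by decide +kernel)), Finset.sum_apply,
    hsplit _ (fun χ h => by simp [h])] at hval
  simp only [Pi.smul_apply, smul_eq_mul, hn, hk] at hzero hval
  have hno : n o = 1 := by
    have h : ((n o : ℕ) : ℂ) = ((1 : ℕ) : ℂ) := by rw [← hn o]; simp [o, trivIrr]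
    exact Nat.cast_injective h
  have hko : k o = 1 := by
    have h : ((k o : ℤ) : ℂ) = ((1 : ℤ) : ℂ) := by rw [← hk o]; simp [o, trivIrr]
    exact Int.cast_injective h
  rw [hvo, hno] at hzero
  rw [hvo, hko] at hval
  have hz : 1 + (v P * n P + v Q * n Q) = 0 := by
    have : ((1 + (v P * n P + v Q * n Q) : ℤ) : ℂ) = ((0 : ℤ) : ℂ) := by
      push_cast at hzero ⊢; linear_combination -hzero
    exact Int.cast_injective this
  have hv4 : 1 + (v P * k P + v Q * k Q) = th tC := by
    have : ((1 + (v P * k P + v Q * k Q) : ℤ) : ℂ) = ((th tC : ℤ) : ℂ) := by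
      push_cast at hval ⊢; linear_combination -hval
    exact Int.cast_injective this
  have hcol : k P * k P + k Q * k Q ≤ 47 := by
    have h := sum_irr_mul_conj t t
    rw [if_pos (IsConj.refl t), ht, hs.card_centralizer] at h
    simp only [hk, map_intCast] at h
    have h8 : ∑ χ, k χ * k χ = 48 := by
      have : ((∑ χ, k χ * k χ : ℤ) : ℂ) = ((48 : ℤ) : ℂ) := by push_cast at h ⊢; exact h
      exact Int.cast_injective this
    have hle : ∑ χ ∈ insert o V, k χ * k χ ≤ ∑ χ, k χ * k χ :=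
      Finset.sum_le_sum_of_subset_of_nonneg (Finset.subset_univ _) fun i _ _ => mul_self_nonneg _
    rw [Finset.sum_insert (by simp [hV]), hVeq, Finset.sum_pair hPQ, hko, h8] at hle
    omega
  set I := Finset.univ.filter fun u : G => orderOf u = 2 with hI
  have hIN : 48 * I.card = Nat.card G := by
    rw [← card_conj_mul_card_centralizer t, ht, hs.card_centralizer, mul_comm]
    congr 1
    rw [Nat.card_eq_fintype_card, Fintype.card_subtype, hI]
    congr 1
    ext w
    simp only [Finset.mem_filter, Finset.mem_univ, true_and]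
    exact ⟨fun h => hconj _ w hs.ot h, fun h => Cfsg.Agent.S3279.orderOf_eq_of_isConj hs.ot h⟩
  have hmain : (48 : ℂ)⁻¹ * Nat.card G * K = ∑ χ, (v χ : ℂ) *
      (((I.card : ℂ) * (χ : G → ℂ) t) ^ 2 / (χ : G → ℂ) 1) := by
    rw [← sum_pairs_exc hs hd]
    simp only [hF, Finset.sum_apply, Pi.smul_apply, smul_eq_mul]
    rw [Finset.sum_congr rfl fun u _ => Finset.sum_comm, Finset.sum_comm]
    refine Finset.sum_congr rfl fun χ _ => ?_
    simp only [← Finset.mul_sum]
    rw [Cfsg.Agent.FourExceptional.sum_involution_pairs hconj hs.ot χ]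
  rw [hsplit _ (fun χ h => by simp [h]), hvo] at hmain
  simp only [ht, hn, hk, hno, hko] at hmain
  have hpos : ∀ χ, 0 < n χ := fun χ => Nat.pos_of_ne_zero fun h0 =>
    isIrrCharacter_apply_one_ne_zero χ.2 (by rw [hn, h0, Nat.cast_zero])
  have hP0 : (n P : ℂ) ≠ 0 := Nat.cast_ne_zero.2 (hpos P).ne'
  have hQ0 : (n Q : ℂ) ≠ 0 := Nat.cast_ne_zero.2 (hpos Q).ne'
  have heq : (Nat.card G : ℤ) * ((n P : ℤ) * n Q + v P * k P ^ 2 * n Q + v Q * k Q ^ 2 * n P) =
      48 * K * n P * n Q := by
    have hI0 : (I.card : ℂ) ≠ 0 := by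
      have := Nat.card_pos (α := G)
      exact Nat.cast_ne_zero.2 (by omega)
    have hG : (Nat.card G : ℂ) = 48 * I.card := by rw [← hIN]; push_cast; ring
    rw [hG] at hmain
    have : (((Nat.card G : ℤ) * ((n P : ℤ) * n Q + v P * k P ^ 2 * n Q + v Q * k Q ^ 2 * n P) : ℤ) : ℂ) =
        ((48 * K * n P * n Q : ℤ) : ℂ) := by
      push_cast
      rw [hG]
      field_simp at hmain
      push_cast at hmain
      linear_combination -48 * hmain
    exact Int.cast_injective this
  have hPn := hpos P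
  have hQn := hpos Q
  rcases hone P hPV with hP | hP <;> rcases hone Q hQV with hQ | hQ <;>
    rw [hP, hQ] at hz hv4 heq
  · omega
  · have hB : (n Q : ℤ) = n P + 1 := by omega
    refine ⟨n P, k P, k Q, hPn, by omega, ?_, ?_⟩
    · have hne : k P * k P + k Q * k Q ≠ 47 := by
        intro h47
        have h1 : -6 ≤ k P ∧ k P ≤ 6 := by constructor <;> nlinarith
        have h2 : -6 ≤ k Q ∧ k Q ≤ 6 := by constructor <;> nlinarith
        obtain ⟨a1, a2⟩ := h1
        obtain ⟨b1, b2⟩ := h2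
        interval_cases k P <;> interval_cases k Q <;> omega
      omega
    · rw [hB] at heq; linear_combination heq
  · have hB : (n P : ℤ) = n Q + 1 := by omega
    refine ⟨n Q, k Q, k P, hQn, by omega, ?_, ?_⟩
    · have hne : k P * k P + k Q * k Q ≠ 47 := by
        intro h47
        have h1 : -6 ≤ k P ∧ k P ≤ 6 := by constructor <;> nlinarith
        have h2 : -6 ≤ k Q ∧ k Q ≤ 6 := by constructor <;> nlinarith
        obtain ⟨a1, a2⟩ := h1
        obtain ⟨b1, b2⟩ := h2
        interval_cases k P <;> interval_cases k Q <;> omega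
      omega
    · rw [hB] at heq; linear_combination heq
  · omega

theorem data1 : Data th1 w1 192 := ⟨avg1, supp1, inv1, norm1, sum1, pairs1⟩

theorem data4 : Data th4 w4 96 := ⟨avg4, supp4, inv4, norm4, sum4, pairs4⟩

theorem card_eq_of_mod (hs : Setup f)
    (hconj : ∀ u v : G, orderOf u = 2 → orderOf v = 2 → IsConj u v)
    (hN : Nat.card G % 96 = 48) : Nat.card G = 5616 ∨ Nat.card G = 7920 := by
  obtain ⟨n, k, l, hn, hkl, hle, h⟩ := exists_relation hs data1 (by decide +kernel)
    (fun χ => exists_int_w1 hs (isCharacter_of_isIrrCharacter χ.2)) hconj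
  have t1 : th1 tC = 8 := by decide +kernel
  have t4 : th4 tC = 0 := by decide +kernel
  have h1 := GL23CentArith.first _ n k l hn hN (by omega) hle (by linear_combination h)
  obtain ⟨n, k, l, hn, hkl, hle, h⟩ := exists_relation hs data4 (by decide +kernel)
    (fun χ => exists_int_w4 hs (isCharacter_of_isIrrCharacter χ.2)) hconj
  exact GL23CentArith.order_eq h1
    (GL23CentArith.second _ n k l hn hN (by omega) hle (by linear_combination h))

end Characters

/-- The subgroup corresponding to a Sylow 2-subgroup of the centraliser. -/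
def sylowSub (hs : Setup f) : Subgroup G := subOf hs pSD closed_pSD

theorem exists_sylow [Finite G] (hs : Setup f) :
    ∃ T : Sylow 2 G, (T : Subgroup G) = sylowSub hs := by
  haveI : Fact (Nat.Prime 2) := ⟨Nat.prime_two⟩
  have hcard : Nat.card (sylowSub hs) = 2 ^ 4 := by
    rw [sylowSub, card_subOf hs closed_pSD, card_pSD]; rfl
  obtain ⟨T, hT⟩ := (IsPGroup.of_card hcard).exists_le_sylow
  refine ⟨T, ?_⟩
  haveI : Nontrivial (T : Subgroup G) := by
    have h1 : f tC ∈ (T : Subgroup G) := hT ⟨tC, by decide +kernel, rfl⟩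
    exact ⟨⟨⟨f tC, h1⟩, 1, fun h => inv_ne_one hs.ot (congrArg Subtype.val h)⟩⟩
  have hZ := T.isPGroup'.center_nontrivial
  obtain ⟨⟨z, hz⟩, hz1⟩ := exists_ne (1 : Subgroup.center (T : Subgroup G))
  have hcomm : ∀ y ∈ (T : Subgroup G), Commute (z : G) y := fun y hy =>
    (congrArg Subtype.val (Subgroup.mem_center_iff.1 hz ⟨y, hy⟩)).symm
  obtain ⟨d, hd⟩ := hs.cent (z : G) (hcomm _ (hT ⟨tC, by decide +kernel, rfl⟩))
  rcases centre_sylow d (fun y hy => hs.inj (by
    rw [hs.mul, hs.mul, hd]; exact (hcomm _ (hT ⟨y, hy, rfl⟩)).eq)) with rfl | rfl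
  · exact absurd (Subtype.ext (Subtype.ext (hd.symm.trans hs.f_one))) hz1
  -- the Sylow subgroup is contained in the centraliser
  have hle : (T : Subgroup G) ≤ Subgroup.centralizer ({f tC} : Set G) := fun y hy =>
    Subgroup.mem_centralizer_singleton_iff.2 (hd ▸ (hcomm y hy).symm.eq)
  obtain ⟨j, hj⟩ := IsPGroup.iff_card.1 T.isPGroup'
  have h48 : 2 ^ j ∣ 48 := by
    rw [← hj, ← hs.card_centralizer]; exact Subgroup.card_dvd_of_le hle
  have hj4 : j ≤ 4 := by
    by_contra hj5
    have : (32 : ℕ) ∣ 48 := (pow_dvd_pow 2 (by omega : 5 ≤ j)).trans h48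
    norm_num at this
  refine (Subgroup.eq_of_le_of_card_ge hT ?_).symm
  rw [hj, hcard]
  exact Nat.pow_le_pow_right (by norm_num) hj4

theorem card_mod [Finite G] (hs : Setup f) : Nat.card G % 96 = 48 := by
  haveI : Fact (Nat.Prime 2) := ⟨Nat.prime_two⟩
  obtain ⟨T, hT⟩ := exists_sylow hs
  have h := (T : Subgroup G).card_mul_index
  have h16 : Nat.card (T : Subgroup G) = 16 := by
    rw [hT, sylowSub, card_subOf hs closed_pSD, card_pSD]
  have hodd := T.not_dvd_index
  obtain ⟨m, hm⟩ := hs.card_centralizer ▸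
    (Subgroup.centralizer ({f tC} : Set G)).card_subgroup_dvd_card
  rw [h16] at h
  omega

/-- The quaternion subgroup. -/
abbrev pQ (x : Coord) : Prop := x.2.1 = 0 ∧ x.2.2 = 0

theorem closed_pQ : Closed pQ := ⟨by decide +kernel, by decide +kernel, by decide +kernel⟩

theorem card_pQ : (Finset.univ.filter pQ).card = 8 := by decide +kernel

theorem allConj_of_no_index_two [Finite G] (hs : Setup f) (hG : ∀ H : Subgroup G, H.index ≠ 2) :
    ∀ u v : G, orderOf u = 2 → orderOf v = 2 → IsConj u v := by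
  haveI : Fact (Nat.Prime 2) := ⟨Nat.prime_two⟩
  obtain ⟨T, hT⟩ := exists_sylow hs
  have hu0 : orderOf (f (1, 0, 1)) = 2 := (hs.isInv_iff _).2 isInv_u
  have hsd : pSD (1, 0, 1) := rfl
  have hut : IsConj (f (1, 0, 1)) (f tC) := by
    by_contra hne
    have hQle : subOf hs pQ closed_pQ ≤ sylowSub hs := by
      rintro _ ⟨x, hx, rfl⟩; exact ⟨x, hx.1, rfl⟩
    obtain ⟨M, -, hM, -⟩ : ∃ M : Subgroup G, M.Normal ∧ M.index = 2 ∧ f (1, 0, 1) ∉ M := by
      refine TransferThompson.thompson_transfer T (subOf hs pQ closed_pQ) (hT ▸ hQle) ?_ hu0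
        (hT ▸ ⟨_, hsd, rfl⟩) ?_
      · rw [hT]
        have h := Subgroup.card_mul_index ((subOf hs pQ closed_pQ).subgroupOf (sylowSub hs))
        rw [Nat.card_congr (Subgroup.subgroupOfEquivOfLe hQle).toEquiv, card_subOf hs closed_pQ,
          card_pQ, sylowSub, card_subOf hs closed_pSD, card_pSD] at h
        change (((subOf hs pQ closed_pQ).subgroupOf (sylowSub hs))).index = 2
        rw [sylowSub]
        omega
      · intro g hg
        obtain ⟨⟨q, m, e⟩, ⟨hm, he⟩, hde⟩ := hg
        simp only at hm he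
        subst hm he
        have h2 := (hs.isInv_iff _).1 (by rw [hde, order_conj, hu0] : orderOf (f (q, 0, 0)) = 2)
        rw [inv_quaternion q h2] at hde
        exact hne (isConj_iff.2 ⟨g, hde.symm⟩)
    exact hG M hM
  have h' : ∀ y : G, orderOf y = 2 → IsConj y (f tC) := by
    intro y hy
    obtain ⟨P, hP⟩ := (IsPGroup.of_card (n := 1) (by rw [Nat.card_zpowers, hy]; norm_num) :
      IsPGroup 2 (Subgroup.zpowers y)).exists_le_sylow
    obtain ⟨g, hg⟩ := MulAction.exists_smul_eq G P T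
    have hmem : g * y * g⁻¹ ∈ (T : Subgroup G) := by
      rw [← hg, Sylow.coe_subgroup_smul]
      exact ⟨y, hP (Subgroup.mem_zpowers y), rfl⟩
    rw [hT] at hmem
    obtain ⟨d, -, hd⟩ := hmem
    have hyd : IsConj y (f d) := isConj_iff.2 ⟨g, hd.symm⟩
    refine hyd.trans ?_
    rcases inv_cases d ((hs.isInv_iff d).1 (by rw [hd, order_conj, hy])) with rfl | ⟨k, hk⟩
    · exact IsConj.refl _
    · refine (isConj_iff.2 ⟨f k, ?_⟩).trans hut
      rw [← hs.f_cj, hk]
  intro u v hu hv
  exact (h' u hu).trans (h' v hv).symm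

/-- The set-up from an isomorphism. -/
theorem exists_setup {t : G} (ht : orderOf t = 2)
    (e : Subgroup.centralizer ({t} : Set G) ≃* GL (Fin 2) (ZMod 3)) :
    ∃ f : Coord → G, Setup f := by
  set C := Subgroup.centralizer ({t} : Set G)
  have hG : Frame (MonoidHom.mk' S3304.glQ S3304.glQ_mul) S3304.glC S3304.glU 1 :=
    ⟨S3304.gl_facts.1, S3304.gl_facts.2.1, S3304.gl_facts.2.2.1, S3304.gl_facts.2.2.2.1,
      S3304.gl_facts.2.2.2.2, Or.inl rfl⟩
  let ψ : Coord → C := fun x => e.symm (toH (MonoidHom.mk' S3304.glQ S3304.glQ_mul) S3304.glC S3304.glU x)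
  have hψ : Function.Bijective ψ := e.symm.bijective.comp S3304.gl_bij
  have hmul : ∀ x y, ψ (mC x y) = ψ x * ψ y := fun x y => by
    show e.symm _ = e.symm _ * e.symm _
    rw [← map_mul, ← toH_mul hG]
  let t' : C := ⟨t, Subgroup.mem_centralizer_singleton_iff.2 rfl⟩
  obtain ⟨x, hx⟩ := hψ.2 t'
  have hone : ψ oneC = 1 := mul_left_cancel (a := ψ oneC) (by rw [← hmul, one_mC, mul_one])
  have hxt : x = tC := by
    refine gl_t_unique x ⟨hψ.1 ?_, fun h => ?_⟩ fun y => hψ.1 ?_
    · rw [hmul, hx, hone]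
      exact Subtype.ext (inv_mul_self_eq ht)
    · rw [h, hone] at hx
      exact inv_ne_one ht (congrArg Subtype.val hx).symm
    · rw [hmul, hmul, hx]
      exact Subtype.ext (Subgroup.mem_centralizer_singleton_iff.1 (ψ y).2).symm
  subst hxt
  refine ⟨fun x => (ψ x : G), ⟨fun a b => by rw [hmul, Subgroup.coe_mul], fun a b h => hψ.1 (Subtype.ext h), ?_⟩⟩
  intro c hc
  rw [hx] at hc
  obtain ⟨y, hy⟩ := hψ.2 ⟨c, Subgroup.mem_centralizer_singleton_iff.2 hc.eq⟩
  exact ⟨y, congrArg Subtype.val hy⟩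

/-- The order of the group. -/
theorem card_eq [Finite G] (hs : Setup f) (hG : ∀ H : Subgroup G, H.index ≠ 2) :
    Nat.card G = 5616 ∨ Nat.card G = 7920 := by
  haveI := Fintype.ofFinite G
  exact card_eq_of_mod hs (allConj_of_no_index_two hs hG) (card_mod hs)

end Cfsg.Agent.GL23CentOrder
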