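import Mathlib
import Cfsg.Agent.Lib.GL23CentOrder

/-!
Facts about the coordinates of `GL(2,3)` and the absence of quaternion subgroups in `PSL(2,F)`,
for the semidihedral configuration.
-/

set_option autoImplicit false

namespace Cfsg.Agent.CycSyl43SemiGLModel

open BinaryOctahedral QuaternionGroup GL23CentModel
open scoped MatrixGroups

/-- A commutator. -/
abbrev commC (a b : Coord) : Coord := mC (mC (mC a b) (invC a)) (invC b)

/-- The quaternion part. -/
abbrev pQ8 (x : Coord) : Prop := x.2.1 = 0 ∧ x.2.2 = 0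

/-- The element of order three. -/
abbrev c3 : Coord := (1, 1, 0)

/-- A noncentral involution. -/
abbrev Outer (x : Coord) : Prop := IsInv x ∧ x ≠ tC

theorem mC_assoc' : ∀ x y, mC (mC x y) (invC y) = x := by decide +kernel

theorem invC_mC : ∀ x, mC (invC x) x = oneC := by decide +kernel

theorem pSL_mul : ∀ x y, (mC x y).2.2 = x.2.2 + y.2.2 := by decide +kernel

theorem pSL_sq : ∀ x, pSL (mC x x) := by decide +kernel

theorem pSL_commutator : ∀ x, pSL x → ∃ a b, commC a b = x := by decide +kernel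

theorem pQ_iff : ∀ x, pQ8 x ↔ pSL x ∧ powC x 4 = oneC := by decide +kernel

theorem pQ_pow_eight : ∀ x, pSL x → powC x 8 = oneC → pQ8 x := by decide +kernel

theorem pSL_pow24 : ∀ x, pSL x → powC x 24 = oneC := by decide +kernel

theorem pow_three_or : ∀ x, pSL x → powC x 8 = oneC ∨ powC x 8 ≠ oneC ∧ powC x 24 = oneC := by
  decide +kernel

theorem tC_commutator : pQ8 (a 1, 0, 0) ∧ pQ8 (xa 0, 0, 0) ∧
    commC (a 1, 0, 0) (xa 0, 0, 0) = tC := by decide +kernel

theorem pQ_tC : pQ8 tC := by decide +kernel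

theorem inv_central_pQ : ∀ x, IsInv x → (∀ q, pQ8 q → mC x q = mC q x) → x = tC := by
  decide +kernel

theorem outer_moved : ∀ x, Outer x →
    ∃ q, pQ8 q ∧ mC (cjC q x) x ≠ mC x (cjC q x) := by decide +kernel

theorem pQ_perfect : ∀ q, pQ8 q → ∃ q', pQ8 q' ∧ ∃ q'', pQ8 q'' ∧
    mC (commC c3 q') (commC c3 q'') = q := by decide +kernel

theorem c3_facts : pSL c3 ∧ c3 ≠ oneC ∧ powC c3 3 = oneC ∧ ∀ q, pQ8 q → pQ8 (cjC c3 q) := by
  decide +kernel

theorem cj_pQ : ∀ x q, pQ8 q → pQ8 (cjC x q) := by decide +kernel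

theorem outside_inverts : ∀ c x, ¬ pSL c → pSL x → pQ8 (mC (cjC c x) x) := by decide +kernel

theorem inv_pSL : ∀ x, IsInv x → pSL x → x = tC := by decide +kernel

theorem outer_not_pSL : ∀ x, Outer x → ¬ pSL x := by decide +kernel

theorem card_pQ8 : (Finset.univ.filter pQ8).card = 8 := by decide +kernel

theorem card_outer : (Finset.univ.filter Outer).card = 12 := by decide +kernel

theorem special_iff : ∀ x, th4 x ≠ 0 → Special x := supp4

theorem th4_values : th4 oneC = 0 ∧ th4 tC = 0 ∧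
    ∀ x, Outer x → th4 x = 0 ∧ th4 (mC tC x) = 0 ∧ th4 (mC x tC) = 0 := by decide +kernel

theorem pairs4_outer :
    ∑ u ∈ Finset.univ.filter Outer, ∑ v ∈ Finset.univ.filter Outer, th4 (mC u v) = 96 := by
  decide +kernel

section PSL

variable {F : Type*} [Field F]

/-- Two matrices of size two commuting with a nonscalar matrix commute with each other. -/
theorem commute_of_commute_nonscalar (Z A B : Matrix (Fin 2) (Fin 2) F)
    (hns : ¬ (Z 0 1 = 0 ∧ Z 1 0 = 0 ∧ Z 0 0 = Z 1 1))
    (hA : Z * A = A * Z) (hB : Z * B = B * Z) : A * B = B * A := by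
  have a := fun i j => congrFun (congrFun hA i) j
  have b := fun i j => congrFun (congrFun hB i) j
  simp only [Matrix.mul_apply, Fin.sum_univ_two] at a b
  have a00 := a 0 0
  have a01 := a 0 1
  have a10 := a 1 0
  have b00 := b 0 0
  have b01 := b 0 1
  have b10 := b 1 0
  ext i j
  fin_cases i <;> fin_cases j <;>
    simp [Matrix.mul_apply, Fin.sum_univ_two] <;>
    by_cases h1 : Z 0 1 = 0 <;> by_cases h2 : Z 1 0 = 0 <;>
    first
    | (have h3 : Z 0 0 - Z 1 1 ≠ 0 := sub_ne_zero.2 fun h => hns ⟨h1, h2, h⟩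
       refine mul_left_cancel₀ h3 ?_
       grind)
    | (refine mul_left_cancel₀ h1 ?_; grind)
    | (refine mul_left_cancel₀ h2 ?_; grind)

/-- `PSL(2,F)` contains no quaternion group. -/
theorem no_quaternion (i j : Matrix.ProjectiveSpecialLinearGroup (Fin 2) F) (hz : (i * i) * (i * i) = 1)
    (hz1 : i * i ≠ 1) (hij : i * i = j * j) (hne : i * j ≠ j * i) : False := by
  obtain ⟨I, rfl⟩ := QuotientGroup.mk_surjective i
  obtain ⟨J, rfl⟩ := QuotientGroup.mk_surjective j
  set Z := I * I with hZ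
  have hcI : Z * I = I * Z := by rw [hZ, mul_assoc]
  obtain ⟨e, he, hJ⟩ : ∃ e ∈ Subgroup.center (Matrix.SpecialLinearGroup (Fin 2) F), J * J = Z * e :=
    ⟨Z⁻¹ * (J * J), QuotientGroup.eq.1 (by rw [QuotientGroup.mk_mul, QuotientGroup.mk_mul]; exact hij),
      by group⟩
  have he' := Subgroup.mem_center_iff.1 he
  have hcJ : Z * J = J * Z := by
    have h1 : J * J * J = J * (J * J) := mul_assoc _ _ _
    rw [hJ] at h1
    rw [mul_assoc, ← he' J] at h1
    simp only [← mul_assoc] at h1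
    exact mul_right_cancel h1
  have hns : ¬ (Z.1 0 1 = 0 ∧ Z.1 1 0 = 0 ∧ Z.1 0 0 = Z.1 1 1) := by
    rintro ⟨h1, h2, h3⟩
    refine hz1 ?_
    rw [← QuotientGroup.mk_mul, QuotientGroup.eq_one_iff, Subgroup.mem_center_iff]
    intro X
    apply Subtype.ext
    show X.1 * Z.1 = Z.1 * X.1
    ext a b
    fin_cases a <;> fin_cases b <;> simp [Matrix.mul_apply, Fin.sum_univ_two, h1, h2, h3, mul_comm]
  refine hne ?_
  rw [← QuotientGroup.mk_mul, ← QuotientGroup.mk_mul]
  congr 1
  apply Subtype.ext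
  exact commute_of_commute_nonscalar Z.1 I.1 J.1 hns (congrArg Subtype.val hcI)
    (congrArg Subtype.val hcJ)

/-- In `SL(2,F)` an involution is central. -/
theorem sl_center_invol (h2 : (2 : F) ≠ 0) :
    ∃ z : Matrix.SpecialLinearGroup (Fin 2) F, z * z = 1 ∧ z ≠ 1 ∧
      z ∈ Subgroup.center (Matrix.SpecialLinearGroup (Fin 2) F) := by
  let z : Matrix.SpecialLinearGroup (Fin 2) F := ⟨-1, by simp [Matrix.det_neg]⟩
  refine ⟨z, Subtype.ext ?_, fun h => h2 ?_,
    Subgroup.mem_center_iff.2 fun X => Subtype.ext ?_⟩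
  · rw [Matrix.SpecialLinearGroup.coe_mul, Matrix.SpecialLinearGroup.coe_one]
    show (-1 : Matrix (Fin 2) (Fin 2) F) * -1 = 1
    simp
  rotate_left
  · rw [Matrix.SpecialLinearGroup.coe_mul, Matrix.SpecialLinearGroup.coe_mul]
    show X.1 * (-1 : Matrix (Fin 2) (Fin 2) F) = -1 * X.1
    simp
  have h' := congrFun (congrFun (congrArg Subtype.val h) 0) 0
  simp [z] at h'
  linear_combination -h'

end PSL

end Cfsg.Agent.CycSyl43SemiGLModel
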