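import Cfsg.Agent.Lib.CycSyl43Defs
import Cfsg.Agent.Lib.CycSyl43SemiGLModel
import Cfsg.Agent.Lib.CoprimeAction
import Cfsg.Agent.Lib.HallSolvable
import Cfsg.Agent.Lib.HallCore

/-!
Local facts for the semidihedral configuration with centraliser `GL(2,3)` modulo the odd core:
coordinates on the centraliser, the quaternion groups centralising elements of the core.
-/

set_option autoImplicit false

namespace Cfsg.Agent.CycSyl43SemiGL

open BinaryOctahedral GL23CentModel CycSyl43SemiGLModel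
open Cfsg.Agent.CycSyl43

universe u

variable {T : Type u} [Group T]

/-- Coordinates on the centraliser of `t` modulo `O`. -/
structure Frame (t : T) (O : Subgroup T) (φ : T → Coord) : Prop where
  ot : orderOf t = 2
  odd : Odd (Nat.card O)
  le : ∀ y ∈ O, Commute y t
  normal : ∀ c, Commute c t → ∀ y ∈ O, c * y * c⁻¹ ∈ O
  mul : ∀ a b, Commute a t → Commute b t → φ (a * b) = mC (φ a) (φ b)
  surj : ∀ x, ∃ a, Commute a t ∧ φ a = x
  ker : ∀ a, Commute a t → (φ a = oneC ↔ a ∈ O)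

theorem exists_frame [Finite T] {S : Sylow 2 T} {t : T} {O : Subgroup T} (h : SemiGL S t O) :
    ∃ φ : T → Coord, Frame t O φ := by
  classical
  obtain ⟨f, hf, hker⟩ := h.quot
  let E := Equiv.ofBijective _ S3304.gl_bij
  let φ : T → Coord := fun a =>
    if ha : a ∈ Subgroup.centralizer ({t} : Set T) then E.symm (f ⟨a, ha⟩) else oneC
  have hmem : ∀ {a : T}, Commute a t → a ∈ Subgroup.centralizer ({t} : Set T) := fun ha =>
    Subgroup.mem_centralizer_singleton_iff.2 ha.eq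
  have hφ : ∀ (a : T) (ha : a ∈ Subgroup.centralizer ({t} : Set T)), φ a = E.symm (f ⟨a, ha⟩) :=
    fun a ha => dif_pos ha
  have hF : BinaryOctahedral.Frame (MonoidHom.mk' S3304.glQ S3304.glQ_mul) S3304.glC S3304.glU 1 :=
    ⟨S3304.gl_facts.1, S3304.gl_facts.2.1, S3304.gl_facts.2.2.1, S3304.gl_facts.2.2.2.1,
      S3304.gl_facts.2.2.2.2, Or.inl rfl⟩
  have hEmul : ∀ x y, E (mC x y) = E x * E y := fun x y => toH_mul hF x y
  have hEone : E oneC = 1 := by
    have h1 := hEmul oneC oneC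
    rw [one_mC] at h1
    exact mul_left_cancel (a := E oneC) (by rw [← h1, mul_one])
  refine ⟨φ, h.ot, h.odd, fun y hy => Subgroup.mem_centralizer_singleton_iff.1 (h.le hy),
    fun c hc y hy => h.normal c (hmem hc) y hy, ?_, ?_, ?_⟩
  · intro a b ha hb
    rw [hφ _ (hmem ha), hφ _ (hmem hb), hφ _ (hmem (ha.mul_left hb))]
    apply E.injective
    rw [hEmul, E.apply_symm_apply, E.apply_symm_apply, E.apply_symm_apply, ← map_mul]
    rfl
  · intro x
    obtain ⟨a, ha⟩ := hf (E x)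
    refine ⟨a, Subgroup.mem_centralizer_singleton_iff.1 a.2, ?_⟩
    rw [hφ _ a.2, ha, E.symm_apply_apply]
  · intro a ha
    rw [hφ _ (hmem ha), Equiv.symm_apply_eq, hEone, ← MonoidHom.mem_ker, hker]
    rfl

namespace Frame

variable {t : T} {O : Subgroup T} {φ : T → Coord} (hF : Frame t O φ)
include hF

theorem tt : t * t = 1 := by
  rw [← pow_two, ← hF.ot, pow_orderOf_eq_one]

theorem t_ne : t ≠ 1 := fun e => by
  have := hF.ot
  rw [e, orderOf_one] at this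
  norm_num at this

theorem map_one : φ 1 = oneC := (hF.ker 1 (Commute.one_left t)).2 O.one_mem

theorem map_inv {a : T} (ha : Commute a t) : φ a⁻¹ = invC (φ a) := by
  have h := hF.mul a a⁻¹ ha ha.inv_left
  rw [mul_inv_cancel, hF.map_one] at h
  have h' := congrArg (mC (invC (φ a))) h
  have hassoc : ∀ x y, mC (invC x) (mC x y) = y := by decide +kernel
  have hone : ∀ x, mC x oneC = x := by decide +kernel
  rwa [hassoc, hone, eq_comm] at h'

theorem map_pow {a : T} (ha : Commute a t) (n : ℕ) : φ (a ^ n) = powC (φ a) n := by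
  induction n with
  | zero => rw [pow_zero, powC, hF.map_one]
  | succ n ih => rw [pow_succ', hF.mul _ _ ha (ha.pow_left n), ih, powC]

theorem map_cj {a b : T} (ha : Commute a t) (hb : Commute b t) :
    φ (a * b * a⁻¹) = cjC (φ a) (φ b) := by
  rw [hF.mul _ _ (ha.mul_left hb) ha.inv_left, hF.mul _ _ ha hb, hF.map_inv ha]

theorem map_comm {a b : T} (ha : Commute a t) (hb : Commute b t) :
    φ (a * b * a⁻¹ * b⁻¹) = commC (φ a) (φ b) := by
  rw [hF.mul _ _ ((ha.mul_left hb).mul_left ha.inv_left) hb.inv_left,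
    hF.mul _ _ (ha.mul_left hb) ha.inv_left, hF.mul _ _ ha hb, hF.map_inv ha, hF.map_inv hb]

theorem eq_one_of_sq {y : T} (hy : y ∈ O) {k : ℕ} (h : y ^ (2 ^ k) = 1) : y = 1 := by
  have h1 : orderOf (⟨y, hy⟩ : O) ∣ Nat.card O := orderOf_dvd_natCard _
  rw [Subgroup.orderOf_mk] at h1
  obtain ⟨i, -, hi⟩ := (Nat.dvd_prime_pow Nat.prime_two).1 (orderOf_dvd_of_pow_eq_one h)
  rw [hi] at h1
  rcases i with _ | i
  · rwa [pow_zero, orderOf_eq_one_iff] at hi
  · exact absurd (hF.odd.of_dvd_nat h1) (by simp [pow_succ, parity_simps])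

theorem not_mem {a : T} (ha2 : a * a = 1) (ha1 : a ≠ 1) : a ∉ O := fun h =>
  ha1 (hF.eq_one_of_sq h (k := 1) (by rw [pow_one, pow_two, ha2]))

theorem map_isInv {a : T} (ha : Commute a t) (ha2 : a * a = 1) (ha1 : a ≠ 1) : IsInv (φ a) := by
  refine ⟨?_, fun h => hF.not_mem ha2 ha1 ((hF.ker a ha).1 h)⟩
  rw [← hF.mul a a ha ha, ha2, hF.map_one]

theorem map_t : φ t = tC := by
  refine gl_t_unique _ (hF.map_isInv (Commute.refl t) hF.tt hF.t_ne) fun x => ?_
  obtain ⟨a, ha, rfl⟩ := hF.surj x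
  rw [← hF.mul _ _ (Commute.refl t) ha, ← hF.mul _ _ ha (Commute.refl t), ha.eq]

theorem eq_t {a : T} (ha : Commute a t) (ha2 : a * a = 1) (h : φ a = tC) : a = t := by
  have hm : a * t ∈ O := by
    rw [← hF.ker _ (ha.mul_left (Commute.refl t)), hF.mul _ _ ha (Commute.refl t), h, hF.map_t]
    exact isInv_t.1
  have h1 : a * t = 1 := by
    refine hF.eq_one_of_sq hm (k := 1) ?_
    rw [pow_one, pow_two, mul_assoc, ← mul_assoc t a t, ← ha.eq, mul_assoc a t t, hF.tt, mul_one,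
      ha2]
  calc a = a * (t * t) := by rw [hF.tt, mul_one]
    _ = t := by rw [← mul_assoc, h1, one_mul]

theorem inj_two {Q : Subgroup T} (hQ : IsPGroup 2 Q) (hQt : ∀ q ∈ Q, Commute q t) {a b : T}
    (ha : a ∈ Q) (hb : b ∈ Q) (h : φ a = φ b) : a = b := by
  have hab : a⁻¹ * b ∈ Q := Q.mul_mem (Q.inv_mem ha) hb
  have hO : a⁻¹ * b ∈ O := by
    rw [← hF.ker _ (hQt _ hab), hF.mul _ _ (hQt a ha).inv_left (hQt b hb), hF.map_inv (hQt a ha), h]
    exact invC_mC _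
  obtain ⟨k, hk⟩ := hQ ⟨_, hab⟩
  exact inv_mul_eq_one.1 (hF.eq_one_of_sq hO (k := k) (congrArg Subtype.val hk))

/-- Elements of odd order, or of determinant one. -/
theorem sq_pSL {c : T} (hc : Commute c t) : pSL (φ (c * c)) := by
  rw [hF.mul c c hc hc]
  exact pSL_sq _

end Frame

/-- A quaternion group over the coordinates, with an element of order three acting on it. -/
structure Quat (t : T) (φ : T → Coord) (Q : Subgroup T) (g : T) : Prop where
  pg : IsPGroup 2 Q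
  commT : ∀ q ∈ Q, Commute q t
  img : ∀ q ∈ Q, pQ8 (φ q)
  surj : ∀ x, pQ8 x → ∃ q ∈ Q, φ q = x
  gT : Commute g t
  gnorm : ∀ q ∈ Q, g * q * g⁻¹ ∈ Q
  gimg : φ g = c3

namespace Quat

variable {t : T} {O : Subgroup T} {φ : T → Coord} {Q : Subgroup T} {g : T}

theorem t_mem (hQ : Quat t φ Q g) (hF : Frame t O φ) : t ∈ Q := by
  obtain ⟨q, hq, hqe⟩ := hQ.surj tC pQ_tC
  have h2 : q * q = 1 := by
    refine hF.inj_two hQ.pg hQ.commT (Q.mul_mem hq hq) Q.one_mem ?_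
    rw [hF.mul _ _ (hQ.commT q hq) (hQ.commT q hq), hqe, hF.map_one]
    exact isInv_t.1
  exact hF.eq_t (hQ.commT q hq) h2 hqe ▸ hq

theorem eq_t_of_comm (hQ : Quat t φ Q g) (hF : Frame t O φ) {z : T} (h2 : z * z = 1) (h1 : z ≠ 1)
    (hzQ : ∀ q ∈ Q, Commute z q) : z = t := by
  have hz : Commute z t := hzQ t (hQ.t_mem hF)
  refine hF.eq_t hz h2 (inv_central_pQ _ (hF.map_isInv hz h2 h1) fun x hx => ?_)
  obtain ⟨q, hq, rfl⟩ := hQ.surj x hx
  rw [← hF.mul _ _ hz (hQ.commT q hq), ← hF.mul _ _ (hQ.commT q hq) hz, (hzQ q hq).eq]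

theorem exists_ij (hQ : Quat t φ Q g) (hF : Frame t O φ) :
    ∃ i ∈ Q, ∃ j ∈ Q, i * i = t ∧ j * j = t ∧ i * j * i⁻¹ * j⁻¹ = t := by
  obtain ⟨hi', hj', hc⟩ := tC_commutator
  obtain ⟨i, hi, hie⟩ := hQ.surj _ hi'
  obtain ⟨j, hj, hje⟩ := hQ.surj _ hj'
  refine ⟨i, hi, j, hj, ?_, ?_, ?_⟩ <;>
    refine hF.inj_two hQ.pg hQ.commT ?_ (hQ.t_mem hF) ?_
  · exact Q.mul_mem hi hi
  · rw [hF.mul _ _ (hQ.commT i hi) (hQ.commT i hi), hie, hF.map_t]
    decide +kernel
  · exact Q.mul_mem hj hj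
  · rw [hF.mul _ _ (hQ.commT j hj) (hQ.commT j hj), hje, hF.map_t]
    decide +kernel
  · exact Q.mul_mem (Q.mul_mem (Q.mul_mem hi hj) (Q.inv_mem hi)) (Q.inv_mem hj)
  · rw [hF.map_comm (hQ.commT i hi) (hQ.commT j hj), hie, hje, hF.map_t]
    exact hc

theorem perfect (hQ : Quat t φ Q g) (hF : Frame t O φ) {q : T} (hq : q ∈ Q) :
    ∃ a ∈ Q, ∃ b ∈ Q, q = (g * a * g⁻¹ * a⁻¹) * (g * b * g⁻¹ * b⁻¹) := by
  obtain ⟨x, hx, y, hy, hxy⟩ := pQ_perfect _ (hQ.img q hq)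
  obtain ⟨a, ha, rfl⟩ := hQ.surj x hx
  obtain ⟨b, hb, rfl⟩ := hQ.surj y hy
  have ha' : g * a * g⁻¹ * a⁻¹ ∈ Q := Q.mul_mem (hQ.gnorm a ha) (Q.inv_mem ha)
  have hb' : g * b * g⁻¹ * b⁻¹ ∈ Q := Q.mul_mem (hQ.gnorm b hb) (Q.inv_mem hb)
  refine ⟨a, ha, b, hb, hF.inj_two hQ.pg hQ.commT hq (Q.mul_mem ha' hb') ?_⟩
  rw [hF.mul _ _ (hQ.commT _ ha') (hQ.commT _ hb'), hF.map_comm hQ.gT (hQ.commT a ha),
    hF.map_comm hQ.gT (hQ.commT b hb), hQ.gimg, hxy]

end Quat

/-- Two elements normalising a cyclic subgroup have a commutator centralising it. -/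
theorem comm_centralises [Finite T] {a b y : T} (ha : a * y * a⁻¹ ∈ Subgroup.zpowers y)
    (hb : b * y * b⁻¹ ∈ Subgroup.zpowers y) : Commute (a * b * a⁻¹ * b⁻¹) y := by
  obtain ⟨i, hi⟩ := Subgroup.mem_zpowers_iff.1 ha
  obtain ⟨j, hj⟩ := Subgroup.mem_zpowers_iff.1 hb
  have h1 : (a * b) * y * (a * b)⁻¹ = y ^ (i * j) := by
    rw [show (a * b) * y * (a * b)⁻¹ = a * (b * y * b⁻¹) * a⁻¹ by group, ← hj, ← conj_zpow, ← hi,
      ← zpow_mul]
  have h2 : (b * a) * y * (b * a)⁻¹ = y ^ (i * j) := by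
    rw [show (b * a) * y * (b * a)⁻¹ = b * (a * y * a⁻¹) * b⁻¹ by group, ← hi, ← conj_zpow, ← hj,
      ← zpow_mul, mul_comm]
  have h4 : (b * a)⁻¹ * ((a * b) * y * (a * b)⁻¹) * (b * a) = y := by
    rw [h1, ← h2]; group
  -- conjugation by the commutator of the inverses fixes `y`
  have key : ∀ k : ℤ, (a * b) * y ^ k * (a * b)⁻¹ = (b * a) * y ^ k * (b * a)⁻¹ := fun k => by
    rw [← conj_zpow, ← conj_zpow, h1, h2]
  obtain ⟨n, hn⟩ := isOfFinOrder_iff_pow_eq_one.1 (isOfFinOrder_of_finite (b * a))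
  have hmem : (b * a)⁻¹ * y * (b * a) ∈ Subgroup.zpowers y := by
    have hpow : ∀ m : ℕ, (b * a) ^ m * y * ((b * a) ^ m)⁻¹ ∈ Subgroup.zpowers y := by
      intro m
      induction m with
      | zero => simp
      | succ m ih =>
        obtain ⟨k, hk⟩ := Subgroup.mem_zpowers_iff.1 ih
        rw [pow_succ', show b * a * (b * a) ^ m * y * (b * a * (b * a) ^ m)⁻¹ =
          (b * a) * ((b * a) ^ m * y * ((b * a) ^ m)⁻¹) * (b * a)⁻¹ by simp [mul_assoc, mul_inv_rev], ← hk, ← conj_zpow, h2,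
          ← zpow_mul]
        exact Subgroup.zpow_mem _ (Subgroup.mem_zpowers y) _
    have h := hpow (n - 1)
    have e : (b * a) ^ (n - 1) = (b * a)⁻¹ := eq_inv_of_mul_eq_one_left (by
      rw [← pow_succ, Nat.sub_add_cancel hn.1, hn.2])
    rw [e, inv_inv] at h
    exact h
  obtain ⟨k, hk⟩ := Subgroup.mem_zpowers_iff.1 hmem
  have h5 := key k
  rw [hk] at h5
  show a * b * a⁻¹ * b⁻¹ * y = y * (a * b * a⁻¹ * b⁻¹)
  calc a * b * a⁻¹ * b⁻¹ * y
      = (a * b) * ((b * a)⁻¹ * y * (b * a)) * (a * b)⁻¹ * (a * b * a⁻¹ * b⁻¹) := by group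
    _ = (b * a) * ((b * a)⁻¹ * y * (b * a)) * (b * a)⁻¹ * (a * b * a⁻¹ * b⁻¹) := by rw [h5]
    _ = y * (a * b * a⁻¹ * b⁻¹) := by group

variable [Finite T]

/-- All odd Sylow subgroups being cyclic, two subgroups of the same prime order in a subgroup of
odd prime-power order coincide. -/
theorem mem_zpowers_of_sylow {r : ℕ} [Fact r.Prime] {P : Subgroup T} [IsCyclic P] {y a : T}
    (hy : y ∈ P) (ha : a ∈ P) (hor : orderOf y = r) (har : a ^ r = 1) :
    a ∈ Subgroup.zpowers y := by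
  obtain ⟨w, hw⟩ := IsCyclic.exists_generator (α := P)
  have hle : Nat.card {z : P // z ^ r = 1} ≤ r := by
    have := Fintype.ofFinite P
    classical
    rw [Nat.card_eq_fintype_card, Fintype.card_subtype]
    exact IsCyclic.card_pow_eq_one_le (Fact.out : r.Prime).pos
  let f : Subgroup.zpowers y → {z : P // z ^ r = 1} := fun z =>
    ⟨⟨z, (Subgroup.zpowers_le.2 hy) z.2⟩, Subtype.ext (by
      obtain ⟨k, hk⟩ := Subgroup.mem_zpowers_iff.1 z.2
      show (z : T) ^ r = 1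
      rw [← hk, ← zpow_natCast, ← zpow_mul, mul_comm, zpow_mul, zpow_natCast, ← hor,
        pow_orderOf_eq_one, one_zpow])⟩
  have hinj : Function.Injective f := fun z z' e => Subtype.ext
    (congrArg (fun w : {z : P // z ^ r = 1} => ((w.1 : P) : T)) e)
  have hb : Function.Bijective f := (Nat.bijective_iff_injective_and_card f).2
    ⟨hinj, le_antisymm (Nat.card_le_card_of_injective f hinj)
      (by rw [Nat.card_zpowers, hor]; exact hle)⟩
  obtain ⟨z, hz⟩ := hb.2 ⟨⟨a, ha⟩, Subtype.ext har⟩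
  have : (z : T) = a := congrArg (fun w : {z : P // z ^ r = 1} => ((w.1 : P) : T)) hz
  exact this ▸ z.2

omit [Finite T] in
/-- Cyclicity passes to Sylow subgroups of subgroups. -/
theorem isCyclic_of_pGroup (h : OddCyclic T) {r : ℕ} [hr : Fact r.Prime] (hr2 : r ≠ 2)
    {P : Subgroup T} (hP : IsPGroup r P) : IsCyclic P := by
  obtain ⟨R, hR⟩ := hP.exists_le_sylow
  haveI := h r hr.out hr2 R
  exact isCyclic_of_injective (Subgroup.inclusion hR) (Subgroup.inclusion_injective hR)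

namespace Frame

variable {t : T} {O : Subgroup T} {φ : T → Coord} (hF : Frame t O φ)
include hF

theorem prime_ne_two {y : T} {r : ℕ} (hy : y ∈ O) (hor : orderOf y = r) (hr : r.Prime) : r ≠ 2 := by
  intro e
  refine (hr.ne_one) ?_
  rw [← hor, orderOf_eq_one_iff]
  refine hF.eq_one_of_sq hy (k := 1) ?_
  rw [pow_one, ← e, ← hor, pow_orderOf_eq_one]

/-- The normaliser of a subgroup of prime order of the core covers the centraliser modulo the core. -/
theorem surj_norm (hoc : OddCyclic T) {y : T} {r : ℕ} [hr : Fact r.Prime] (hy : y ∈ O)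
    (hor : orderOf y = r) (x : Coord) :
    ∃ a, Commute a t ∧ φ a = x ∧ a * y * a⁻¹ ∈ Subgroup.zpowers y := by
  obtain ⟨c, hc, hcx⟩ := hF.surj x
  have hp : IsPGroup r (Subgroup.zpowers (⟨y, hy⟩ : O)) :=
    IsPGroup.of_card (n := 1) (by rw [Nat.card_zpowers, Subgroup.orderOf_mk, hor, pow_one])
  obtain ⟨R, hR⟩ := hp.exists_le_sylow
  haveI : IsCyclic ((R : Subgroup O).map O.subtype) :=
    isCyclic_of_pGroup hoc (hF.prime_ne_two hy hor hr.out) (R.2.map O.subtype)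
  -- conjugation by `c` on the core
  let γ : MulAut O :=
    { toFun := fun z => ⟨c * z * c⁻¹, hF.normal c hc z z.2⟩
      invFun := fun z => ⟨c⁻¹ * z * c, by simpa using hF.normal c⁻¹ hc.inv_left z z.2⟩
      left_inv := fun z => Subtype.ext (by simp [mul_assoc])
      right_inv := fun z => Subtype.ext (by simp [mul_assoc])
      map_mul' := fun z w => Subtype.ext (by simp [mul_assoc]) }
  let R' : Sylow r O := R.comapOfInjective γ.symm.toMonoidHom γ.symm.injective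
    (by rw [MonoidHom.range_eq_top.2 γ.symm.surjective]; exact le_top)
  obtain ⟨o, ho⟩ := MulAction.exists_smul_eq O R' R
  have hmem : ((o : T) * c) * y * ((o : T) * c)⁻¹ ∈ (R : Subgroup O).map O.subtype := by
    have h1 : γ ⟨y, hy⟩ ∈ (R' : Subgroup O) := by
      show γ.symm (γ ⟨y, hy⟩) ∈ (R : Subgroup O)
      rw [MulEquiv.symm_apply_apply]
      exact hR (Subgroup.mem_zpowers _)
    have h2 : o * γ ⟨y, hy⟩ * o⁻¹ ∈ (R : Subgroup O) := by
      rw [← ho, Sylow.coe_subgroup_smul]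
      exact ⟨_, h1, rfl⟩
    refine ⟨_, h2, ?_⟩
    show (o : T) * (c * y * c⁻¹) * (o : T)⁻¹ = _
    group
  refine ⟨(o : T) * c, (hF.le o o.2).mul_left hc, ?_, ?_⟩
  · rw [hF.mul _ _ (hF.le o o.2) hc, (hF.ker _ (hF.le o o.2)).2 o.2, hcx]
    exact (by decide +kernel : ∀ x, mC oneC x = x) x
  · refine mem_zpowers_of_sylow (P := (R : Subgroup O).map O.subtype)
      ⟨⟨y, hy⟩, hR (Subgroup.mem_zpowers _), rfl⟩ hmem hor ?_
    rw [conj_pow, ← hor, pow_orderOf_eq_one, mul_one, mul_inv_cancel]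

theorem surj_cent (hoc : OddCyclic T) {y : T} {r : ℕ} [hr : Fact r.Prime] (hy : y ∈ O)
    (hor : orderOf y = r) {x : Coord} (hx : pSL x) :
    ∃ a, Commute a t ∧ φ a = x ∧ Commute a y := by
  obtain ⟨u, v, rfl⟩ := pSL_commutator x hx
  obtain ⟨a, ha, rfl, hay⟩ := hF.surj_norm hoc hy hor u
  obtain ⟨b, hb, rfl, hby⟩ := hF.surj_norm hoc hy hor v
  exact ⟨a * b * a⁻¹ * b⁻¹, ((ha.mul_left hb).mul_left ha.inv_left).mul_left hb.inv_left,
    hF.map_comm ha hb, comm_centralises hay hby⟩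

/-- A quaternion group centralising an element of prime order of the core. -/
theorem exists_quat (hoc : OddCyclic T) {y : T} {r : ℕ} [hr : Fact r.Prime] (hy : y ∈ O)
    (hor : orderOf y = r) :
    ∃ Q g, Quat t φ Q g ∧ (∀ q ∈ Q, Commute q y) ∧ Commute g y := by
  haveI : Fact (Nat.Prime 2) := ⟨Nat.prime_two⟩
  let K : Subgroup T :=
    { carrier := {a | (Commute a t ∧ Commute a y) ∧ pQ8 (φ a)}
      one_mem' := ⟨⟨Commute.one_left _, Commute.one_left _⟩, by rw [hF.map_one]; decide +kernel⟩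
      mul_mem' := fun {a b} ha hb => ⟨⟨ha.1.1.mul_left hb.1.1, ha.1.2.mul_left hb.1.2⟩, by
        rw [hF.mul _ _ ha.1.1 hb.1.1]
        exact GL23CentOrder.closed_pQ.2.2 _ ha.2 _ hb.2⟩
      inv_mem' := fun {a} ha => ⟨⟨ha.1.1.inv_left, ha.1.2.inv_left⟩, by
        rw [hF.map_inv ha.1.1]
        exact GL23CentOrder.closed_pQ.2.1 _ ha.2⟩ }
  obtain ⟨Q⟩ : Nonempty (Sylow 2 K) := inferInstance
  let N : Subgroup K := O.subgroupOf K
  haveI hNn : N.Normal := ⟨fun n hn a => hF.normal a a.2.1.1 n hn⟩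
  have hN2 : IsPGroup 2 (K ⧸ N) := by
    intro z
    obtain ⟨a, rfl⟩ := QuotientGroup.mk_surjective z
    refine ⟨2, ?_⟩
    rw [← QuotientGroup.mk_pow, QuotientGroup.eq_one_iff]
    show ((a ^ (2 ^ 2) : K) : T) ∈ O
    rw [SubmonoidClass.coe_pow, ← hF.ker _ (a.2.1.1.pow_left _), hF.map_pow a.2.1.1]
    exact ((pQ_iff _).1 a.2.2).2
  have hmap : (Q : Subgroup K).map (QuotientGroup.mk' N) = ⊤ := by
    let Q' := Q.mapSurjective (QuotientGroup.mk'_surjective N)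
    have hQ' : (Q' : Subgroup (K ⧸ N)) = ⊤ :=
      (Q'.3 (hN2.to_subgroup ⊤) le_top).symm
    rwa [Sylow.coe_mapSurjective] at hQ'
  have hlift : ∀ a : K, ∃ q ∈ (Q : Subgroup K), φ (q : T) = φ (a : T) := by
    intro a
    have : QuotientGroup.mk' N a ∈ (Q : Subgroup K).map (QuotientGroup.mk' N) := by
      rw [hmap]; trivial
    obtain ⟨q, hq, hqa⟩ := this
    refine ⟨q, hq, ?_⟩
    have hm : (q : T)⁻¹ * a ∈ O := (QuotientGroup.eq (s := N) (a := q) (b := a)).1 hqa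
    have h1 := hF.mul (q : T) ((q : T)⁻¹ * a) q.2.1.1 (hF.le _ hm)
    rw [(hF.ker _ (hF.le _ hm)).2 hm, mul_inv_cancel_left] at h1
    rw [h1]
    exact ((by decide +kernel : ∀ x, mC x oneC = x) _).symm
  obtain ⟨c, hct, hcx, hcy⟩ := hF.surj_cent hoc hy hor c3_facts.1
  have hback : ∀ x, pQ8 x → pQ8 (cjC (invC c3) x) := fun x => cj_pQ _ x
  let γ : MulAut K :=
    { toFun := fun z => ⟨c * z * c⁻¹, ⟨(hct.mul_left z.2.1.1).mul_left hct.inv_left,
        (hcy.mul_left z.2.1.2).mul_left hcy.inv_left⟩, by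
        rw [hF.map_cj hct z.2.1.1]; exact cj_pQ _ _ z.2.2⟩
      invFun := fun z => ⟨c⁻¹ * z * c, ⟨(hct.inv_left.mul_left z.2.1.1).mul_left hct,
        (hcy.inv_left.mul_left z.2.1.2).mul_left hcy⟩, by
        have := hF.map_cj hct.inv_left z.2.1.1
        rw [inv_inv] at this
        rw [this]; exact cj_pQ _ _ z.2.2⟩
      left_inv := fun z => Subtype.ext (by simp [mul_assoc])
      right_inv := fun z => Subtype.ext (by simp [mul_assoc])
      map_mul' := fun z w => Subtype.ext (by simp [mul_assoc]) }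
  let Q' : Sylow 2 K := Q.comapOfInjective γ.symm.toMonoidHom γ.symm.injective
    (by rw [MonoidHom.range_eq_top.2 γ.symm.surjective]; exact le_top)
  obtain ⟨l, hl⟩ := MulAction.exists_smul_eq K Q' Q
  have hlQ : ∀ q ∈ (Q : Subgroup K), l * γ q * l⁻¹ ∈ (Q : Subgroup K) := by
    intro q hq
    rw [← hl, Sylow.coe_subgroup_smul]
    refine ⟨γ q, ?_, rfl⟩
    show γ.symm (γ q) ∈ (Q : Subgroup K)
    rwa [MulEquiv.symm_apply_apply]
  obtain ⟨s, hs, hsl⟩ := hlift l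
  refine ⟨(Q : Subgroup K).map K.subtype, ((s⁻¹ * l : K) : T) * c, ⟨Q.2.map _, ?_, ?_, ?_,
    ((s⁻¹ * l).2.1.1).mul_left hct, ?_, ?_⟩, ?_, ((s⁻¹ * l).2.1.2).mul_left hcy⟩
  · rintro _ ⟨q, -, rfl⟩; exact q.2.1.1
  · rintro _ ⟨q, -, rfl⟩; exact q.2.2
  · intro x hx
    obtain ⟨a, hat, rfl, hay⟩ := hF.surj_cent hoc hy hor ((pQ_iff x).1 hx).1
    obtain ⟨q, hq, hqa⟩ := hlift ⟨a, ⟨hat, hay⟩, hx⟩
    exact ⟨q, ⟨q, hq, rfl⟩, hqa⟩
  · rintro _ ⟨q, hq, rfl⟩
    refine ⟨s⁻¹ * (l * γ q * l⁻¹) * s, mul_mem (mul_mem (inv_mem hs) (hlQ q hq)) hs, ?_⟩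
    show ((s : T))⁻¹ * ((l : T) * (c * q * c⁻¹) * (l : T)⁻¹) * (s : T) =
      (s : T)⁻¹ * (l : T) * c * q * ((s : T)⁻¹ * (l : T) * c)⁻¹
    group
  · rw [hF.mul _ _ (s⁻¹ * l).2.1.1 hct, Subgroup.coe_mul, Subgroup.coe_inv,
      hF.mul _ _ s.2.1.1.inv_left l.2.1.1, hF.map_inv s.2.1.1, hsl, invC_mC, hcx]
    decide +kernel
  · rintro _ ⟨q, -, rfl⟩; exact q.2.1.2

end Frame

end Cfsg.Agent.CycSyl43SemiGL
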