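import Cfsg.Agent.Lib.CycSyl43SemiGLFrame
import Cfsg.Agent.Lib.CycSyl43Assembly

/-!
A proper subgroup containing a quaternion group of the centraliser together with an element of
order three acting on it centralises the central involution.
-/

set_option autoImplicit false

namespace Cfsg.Agent.CycSyl43SemiGL

open BinaryOctahedral GL23CentModel CycSyl43SemiGLModel
open Cfsg.Agent.CycSyl43

universe u

variable {T : Type u} [Group T] [Finite T] {t : T} {O : Subgroup T} {φ : T → Coord}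
  {Q : Subgroup T} {g : T}

theorem comm_mem_of_index {H : Type u} [Group H] {N : Subgroup H} (h : N.index ∣ 2) (a b : H) :
    a * b * a⁻¹ * b⁻¹ ∈ N := by
  rcases (Nat.dvd_prime Nat.prime_two).1 h with e | e
  · rw [Subgroup.index_eq_one.1 e]
    exact Subgroup.mem_top _
  · simp only [Subgroup.mul_mem_iff_of_index_two e, inv_mem_iff]
    tauto

theorem eq_one_of_odd {W : Subgroup T} (hW : Odd (Nat.card W)) {w : T} (hw : w ∈ W)
    (h2 : w * w = 1) : w = 1 := by
  by_contra h1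
  have h : orderOf w = 2 := orderOf_eq_prime (by rw [pow_two, h2]) h1
  have hd : orderOf (⟨w, hw⟩ : W) ∣ Nat.card W := orderOf_dvd_natCard _
  rw [Subgroup.orderOf_mk, h] at hd
  exact absurd (hW.of_dvd_nat hd) (by decide)

/-- The non-solvable case. -/
theorem cent_t_of_not_solvable (hA : Assembly.{u}) (hm : CycSyl43.Min T) (hF : Frame t O φ)
    (hQ : Quat t φ Q g) {H : Subgroup T} (hH : H ≠ ⊤) (hQH : Q ≤ H) (hgH : g ∈ H)
    (hns : ¬ Group.IsSolvable H) : ∀ h ∈ H, Commute h t := by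
  have hlt : Nat.card H < Nat.card T := lt_of_le_of_ne (Subgroup.card_le_card_group H)
    fun e => hH (Subgroup.card_eq_iff_eq_top H |>.1 e)
  have hbel : SimpleBelow.{u} (Nat.card H + 1) := fun T' _ _ h1 h2 h3 h4 h5 =>
    hm.below T' h1 h2 h3 h4 (by omega)
  obtain ⟨G0, hG0n, hG0i, X, L, hXn, hLn, hdis, hsup, -, hXodd, -, p, hp, hp5, hiso⟩ :=
    hA H hbel hns (CycSyl43Assembly.oddCyclic_subgroup hm.hodd H)
      (CycSyl43Assembly.twoSmall_subgroup hm.h2 H)
  haveI := hG0n
  haveI := hXn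
  haveI := hLn
  haveI := hp
  -- the quaternion group lies in `G0`
  have hmemG : ∀ q ∈ Q, ∀ hq : q ∈ H, (⟨q, hq⟩ : H) ∈ G0 := by
    intro q hqQ hq
    obtain ⟨a, ha, b, hb, e⟩ := hQ.perfect hF hqQ
    have : (⟨q, hq⟩ : H) =
        (⟨g, hgH⟩ * ⟨a, hQH ha⟩ * (⟨g, hgH⟩ : H)⁻¹ * (⟨a, hQH ha⟩ : H)⁻¹) *
          (⟨g, hgH⟩ * ⟨b, hQH hb⟩ * (⟨g, hgH⟩ : H)⁻¹ * (⟨b, hQH hb⟩ : H)⁻¹) := Subtype.ext e
    rw [this]
    exact G0.mul_mem (comm_mem_of_index hG0i _ _) (comm_mem_of_index hG0i _ _)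
  let inc : ∀ q ∈ Q, ↥G0 := fun q hq => ⟨⟨q, hQH hq⟩, hmemG q hq (hQH hq)⟩
  let κ : L →* G0 ⧸ X := (QuotientGroup.mk' X).comp L.subtype
  have hκi : Function.Injective κ := by
    rw [injective_iff_map_eq_one]
    intro l hl
    have : (l : G0) ∈ X := (QuotientGroup.eq_one_iff _).1 hl
    exact Subtype.ext ((Subgroup.eq_bot_iff_forall _).1 hdis _ ⟨this, l.2⟩)
  have hκs : Function.Surjective κ := by
    intro z
    obtain ⟨z, rfl⟩ := QuotientGroup.mk_surjective z
    obtain ⟨x, hx, l, hl, rfl⟩ := Subgroup.mem_sup_of_normal_left.1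
      (show z ∈ X ⊔ L by rw [hsup]; exact Subgroup.mem_top z)
    refine ⟨⟨l, hl⟩, ?_⟩
    show ((l : G0) : G0 ⧸ X) = ((x * l : G0) : G0 ⧸ X)
    rw [QuotientGroup.mk_mul, (QuotientGroup.eq_one_iff x).2 hx, one_mul]
  let κe : L ≃* G0 ⧸ X := MulEquiv.ofBijective κ ⟨hκi, hκs⟩
  obtain ⟨i, hi, j, hj, hii, hjj, hij⟩ := hQ.exists_ij hF
  have htQ := hQ.t_mem hF
  have htX : inc t htQ ∉ X := by
    intro h
    have h' := eq_one_of_odd (T := ↥G0) hXodd h (Subtype.ext (Subtype.ext hF.tt))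
    exact hF.t_ne (congrArg (fun z : G0 => ((z : H) : T)) h')
  rcases hiso with ⟨⟨e⟩⟩ | ⟨⟨e⟩⟩
  · exfalso
    let ψ : G0 →* Matrix.ProjectiveSpecialLinearGroup (Fin 2) (ZMod p) :=
      (κe.symm.trans e).toMonoidHom.comp (QuotientGroup.mk' X)
    have hψ : ∀ z, ψ z = 1 → z ∈ X := fun z hz => by
      rw [← QuotientGroup.eq_one_iff (N := X)]
      exact (κe.symm.trans e).injective (hz.trans (map_one _).symm)
    have e1 : inc i hi * inc i hi = inc t htQ := Subtype.ext (Subtype.ext hii)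
    have e2 : inc j hj * inc j hj = inc t htQ := Subtype.ext (Subtype.ext hjj)
    refine no_quaternion (ψ (inc i hi)) (ψ (inc j hj)) ?_ ?_ ?_ ?_
    · rw [← map_mul, e1, ← map_mul, show inc t htQ * inc t htQ = 1 from
        Subtype.ext (Subtype.ext hF.tt), map_one]
    · rw [← map_mul, e1]
      exact fun h => htX (hψ _ h)
    · rw [← map_mul, e1, ← map_mul, e2]
    · intro h
      refine htX (hψ _ ?_)
      rw [show inc t htQ = inc i hi * inc j hj * (inc i hi)⁻¹ * (inc j hj)⁻¹ from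
        Subtype.ext (Subtype.ext hij.symm)]
      rw [map_mul, map_mul, map_mul, map_inv, map_inv, h]
      group
  · have h2 : (2 : ZMod p) ≠ 0 := by
      intro h
      have h' : ((2 : ℕ) : ZMod p) = 0 := by exact_mod_cast h
      have := Nat.le_of_dvd two_pos ((ZMod.natCast_eq_zero_iff 2 p).1 h')
      omega
    obtain ⟨z, hz2, hz1, hzc⟩ := sl_center_invol (F := ZMod p) h2
    set zl : G0 := ((e.symm z : L) : G0) with hzl
    have hcL : ∀ l : L, zl * l = l * zl := by
      intro l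
      rw [hzl, ← Subgroup.coe_mul, ← Subgroup.coe_mul]
      refine congrArg Subtype.val (e.injective ?_)
      rw [map_mul, map_mul, e.apply_symm_apply]
      exact (Subgroup.mem_center_iff.1 hzc (e l)).symm
    have hcX : ∀ x ∈ X, x * zl = zl * x := fun x hx =>
      Subgroup.commute_of_normal_of_disjoint X L hXn hLn (disjoint_iff.2 hdis) x zl hx
        (e.symm z).2
    have hcent : ∀ z' : G0, z' * zl = zl * z' := by
      intro z'
      obtain ⟨x, hx, l, hl, rfl⟩ := Subgroup.mem_sup_of_normal_left.1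
        (show z' ∈ X ⊔ L by rw [hsup]; exact Subgroup.mem_top z')
      rw [mul_assoc, ← hcL ⟨l, hl⟩, ← mul_assoc, hcX x hx, mul_assoc]
    have hzl2 : ((zl : H) : T) * ((zl : H) : T) = 1 := by
      have : zl * zl = 1 := by
        rw [hzl, ← Subgroup.coe_mul, ← map_mul, hz2, map_one, Subgroup.coe_one]
      exact congrArg (fun z : G0 => ((z : H) : T)) this
    have hzl1 : ((zl : H) : T) ≠ 1 := by
      intro h
      have h' : zl = 1 := Subtype.ext (Subtype.ext h)
      exact hz1 (e.symm.injective (((Subtype.ext h') : e.symm z = 1).trans (map_one _).symm))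
    have key : ∀ h ∈ H, h * ((zl : H) : T) * h⁻¹ = t := by
      intro h hh
      refine hQ.eq_t_of_comm hF ?_ ?_ fun q hq => ?_
      · rw [show h * ((zl : H) : T) * h⁻¹ * (h * ((zl : H) : T) * h⁻¹) =
          h * (((zl : H) : T) * ((zl : H) : T)) * h⁻¹ by group, hzl2, mul_one, mul_inv_cancel]
      · exact fun e1 => hzl1 (conj_eq_one_iff.1 e1)
      · have hm' : (⟨h, hh⟩ : H)⁻¹ * (⟨q, hQH hq⟩ : H) * ⟨h, hh⟩ ∈ G0 := by
          simpa using hG0n.conj_mem _ (hmemG q hq (hQH hq)) (⟨h, hh⟩ : H)⁻¹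
        have h3 : h⁻¹ * q * h * ((zl : H) : T) = ((zl : H) : T) * (h⁻¹ * q * h) :=
          congrArg (fun z : G0 => ((z : H) : T)) (hcent ⟨_, hm'⟩)
        show h * ((zl : H) : T) * h⁻¹ * q = q * (h * ((zl : H) : T) * h⁻¹)
        calc h * ((zl : H) : T) * h⁻¹ * q = h * (((zl : H) : T) * (h⁻¹ * q * h)) * h⁻¹ := by group
          _ = h * (h⁻¹ * q * h * ((zl : H) : T)) * h⁻¹ := by rw [h3]
          _ = q * (h * ((zl : H) : T) * h⁻¹) := by group
    intro h hh
    have ht := key 1 H.one_mem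
    rw [one_mul, inv_one, mul_one] at ht
    have := key h hh
    rw [ht] at this
    show h * t = t * h
    calc h * t = h * t * h⁻¹ * h := by group
      _ = t * h := by rw [this]

/-- The solvable case. -/
theorem cent_t_of_solvable (hm : CycSyl43.Min T) (hF : Frame t O φ)
    (hQ : Quat t φ Q g) {H : Subgroup T} (hQH : Q ≤ H)
    (hs : Group.IsSolvable H) : ∀ h ∈ H, Commute h t := by
  haveI : Fact (Nat.Prime 2) := ⟨Nat.prime_two⟩
  haveI := hs
  set W : Subgroup H := Cfsg.pPrimeCore 2 H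
  have hWodd : Odd (Nat.card W) := Nat.odd_iff.2 (by
    have : ¬ 2 ∣ Nat.card W := HallCore.not_dvd_card_pPrimeCore 2 H
    omega)
  obtain ⟨i, hi, j, hj, hii, hjj, hij⟩ := hQ.exists_ij hF
  have htQ := hQ.t_mem hF
  have htH := hQH htQ
  -- the involution centralises the odd core
  let A : Subgroup H := Q.subgroupOf H
  have hA2 : IsPGroup 2 A := hQ.pg.comap_of_injective H.subtype H.subtype_injective
  have hcop : (Nat.card A).Coprime (Nat.card W) := by
    obtain ⟨k, hk⟩ := IsPGroup.iff_card.1 hA2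
    rw [hk]
    exact (Nat.coprime_two_left.2 hWodd).pow_left k
  have hAW : A ≤ Subgroup.normalizer (W : Set H) := by
    rw [Subgroup.normalizer_eq_top]; exact le_top
  have hWt : ∀ w ∈ W, Commute (w : T) t := by
    let Z : Subgroup H := (Subgroup.centralizer ({t} : Set T)).subgroupOf H ⊓ W
    suffices hZ : Z = W by
      intro w hw
      rw [← hZ] at hw
      exact Subgroup.mem_centralizer_singleton_iff.1 hw.1
    refine Subgroup.eq_of_le_of_card_ge inf_le_right (Nat.le_of_dvd Nat.card_pos ?_)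
    rw [Nat.dvd_iff_prime_pow_dvd_dvd]
    intro q k hq hqk
    rcases k with _ | k
    · simp
    have hq2 : q ≠ 2 := by
      rintro rfl
      exact absurd (hWodd.of_dvd_nat ((dvd_pow_self 2 k.succ_ne_zero).trans hqk)) (by decide)
    haveI : Fact q.Prime := ⟨hq⟩
    obtain ⟨P, hP⟩ := CoprimeAction.exists_invariant_sylow hAW hcop
      (Or.inl (CoprimeAction.isSolvable_of_isPGroup hA2)) q
    set P' : Subgroup H := (P : Subgroup W).map W.subtype with hP'
    have hPp : IsPGroup q (P'.map H.subtype) := (P.2.map _).map _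
    haveI hcyc : IsCyclic P' := by
      haveI : IsCyclic (P'.map H.subtype) := isCyclic_of_pGroup hm.hodd hq2 hPp
      exact isCyclic_of_injective (P'.equivMapOfInjective H.subtype H.subtype_injective).toMonoidHom
        (P'.equivMapOfInjective H.subtype H.subtype_injective).injective
    obtain ⟨w, hw⟩ := IsCyclic.exists_generator (α := P')
    have hconj : ∀ a ∈ Q, ∀ ha : a ∈ H,
        a * ((w : H) : T) * a⁻¹ ∈ Subgroup.zpowers ((w : H) : T) := by
      intro a haQ ha
      have h1 : (⟨a, ha⟩ : H) * (w : H) * (⟨a, ha⟩ : H)⁻¹ ∈ P' :=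
        CoprimeAction.conj_mem (hP (show (⟨a, ha⟩ : H) ∈ A from haQ)) w.2
      obtain ⟨n, hn⟩ := Subgroup.mem_zpowers_iff.1 (hw ⟨_, h1⟩)
      exact ⟨n, congrArg (fun z : P' => ((z : H) : T)) hn⟩
    have hwt : Commute ((w : H) : T) t := by
      have := comm_centralises (hconj i hi (hQH hi)) (hconj j hj (hQH hj))
      rw [hij] at this
      exact this.symm
    have hle : P' ≤ Z := by
      intro z hz
      refine ⟨Subgroup.mem_centralizer_singleton_iff.2 ?_, Subgroup.map_subtype_le _ hz⟩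
      obtain ⟨n, hn⟩ := Subgroup.mem_zpowers_iff.1 (hw ⟨z, hz⟩)
      have e : ((z : H) : T) = ((w : H) : T) ^ n :=
        (congrArg (fun x : P' => ((x : H) : T)) hn).symm.trans (by simp)
      show (z : T) * t = t * (z : T)
      rw [e]
      exact hwt.zpow_left n
    refine dvd_trans ?_ (Subgroup.card_dvd_of_le hle)
    rw [hP', CoprimeAction.card_map_sylow P]
    exact pow_dvd_pow q ((hq.pow_dvd_iff_le_factorization Nat.card_pos.ne').1 hqk)
  -- a Sylow subgroup above the quaternion group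
  obtain ⟨R, hR⟩ := hA2.exists_le_sylow
  have htR : ∀ r ∈ (R : Subgroup H), Commute (r : T) t := by
    haveI : Nontrivial (R : Subgroup H) := ⟨⟨⟨⟨t, htH⟩, hR htQ⟩, 1, fun h =>
      hF.t_ne (congrArg (fun z : (R : Subgroup H) => ((z : H) : T)) h)⟩⟩
    haveI := R.isPGroup'.center_nontrivial
    obtain ⟨z, hz⟩ := exists_prime_orderOf_dvd_card' (G := Subgroup.center (R : Subgroup H)) 2 (by
      obtain ⟨n, hn, hn'⟩ := (R.isPGroup'.to_subgroup (Subgroup.center (R : Subgroup H))).nontrivial_iff_card.1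
        inferInstance
      rw [hn']
      exact dvd_pow_self 2 hn.ne')
    have hzc : ∀ r : (R : Subgroup H), (r : T) * (((z : ↥(R : Subgroup H)) : H) : T) =
        (((z : ↥(R : Subgroup H)) : H) : T) * (r : T) := fun r =>
      congrArg (fun x : (R : Subgroup H) => ((x : H) : T)) (Subgroup.mem_center_iff.1 z.2 r)
    have hzt : (((z : ↥(R : Subgroup H)) : H) : T) = t := by
      obtain ⟨hz2, hz1⟩ := orderOf_eq_prime_iff.1 hz
      refine hQ.eq_t_of_comm hF ?_ ?_ fun q hq => ?_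
      · rw [← pow_two]
        exact congrArg (fun x : Subgroup.center (R : Subgroup H) =>
          (((x : ↥(R : Subgroup H)) : H) : T)) hz2
      · exact fun h => hz1 (Subtype.ext (Subtype.ext (Subtype.ext h)))
      · exact (hzc ⟨⟨q, hQH hq⟩, hR hq⟩).symm
    intro r hr
    have := hzc ⟨r, hr⟩
    rwa [hzt] at this
  -- the quotient by the odd core
  set π : H →* H ⧸ W := QuotientGroup.mk' W
  have hπs : Function.Surjective π := QuotientGroup.mk'_surjective W
  haveI : Group.IsSolvable (H ⧸ W) := Group.isSolvable_of_surjective hπs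
  set U : Subgroup (H ⧸ W) := Cfsg.pCore 2 (H ⧸ W)
  haveI hUn : U.Normal := HallCore.pCore_normal 2 (H ⧸ W)
  have hcU : Subgroup.centralizer (U : Set (H ⧸ W)) ≤ U :=
    HallSolvable.centralizer_pCore_le (HallSolvable.isPSolvable_of_solvable 2)
      (HallCore.pPrimeCore_quotient_self 2 H)
  have hUR : ∀ u ∈ U, ∃ r ∈ (R : Subgroup H), π r = u := by
    intro u hu
    have h1 := HallCore.pCore_le_sylow (R.mapSurjective hπs) hu
    rwa [Sylow.coe_mapSurjective] at h1
  set tH : H := ⟨t, htH⟩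
  have htU : π tH ∈ U := by
    refine hcU (Subgroup.mem_centralizer_iff.2 fun u hu => ?_)
    obtain ⟨r, hr, rfl⟩ := hUR u hu
    rw [← map_mul, ← map_mul]
    exact congrArg π (Subtype.ext (htR r hr).eq)
  have htc : ∀ u ∈ U, Commute u (π tH) := by
    intro u hu
    obtain ⟨r, hr, rfl⟩ := hUR u hu
    exact (show Commute r tH from Subtype.ext (htR r hr).eq).map π
  have hconjc : ∀ x : H ⧸ W, ∀ u ∈ U, Commute u (x * π tH * x⁻¹) := by
    intro x u hu
    have h1 : x⁻¹ * u * x ∈ U := by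
      have h2 := hUn.conj_mem u hu x⁻¹
      rwa [inv_inv] at h2
    show u * (x * π tH * x⁻¹) = x * π tH * x⁻¹ * u
    calc u * (x * π tH * x⁻¹) = x * (x⁻¹ * u * x * π tH) * x⁻¹ := by group
      _ = x * (π tH * (x⁻¹ * u * x)) * x⁻¹ := by rw [(htc _ h1).eq]
      _ = x * π tH * x⁻¹ * u := by group
  have hRW : ∀ r ∈ (R : Subgroup H), π r = 1 → r = 1 := by
    intro r hr h1
    have hrW : r ∈ W := (QuotientGroup.eq_one_iff r).1 h1
    obtain ⟨k, hk⟩ := R.isPGroup' ⟨r, hr⟩
    have hk' : r ^ 2 ^ k = 1 := congrArg Subtype.val hk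
    refine orderOf_eq_one_iff.1 (Nat.eq_one_of_dvd_coprimes
      ((Nat.coprime_two_left.2 hWodd).pow_left k) (orderOf_dvd_of_pow_eq_one hk') ?_)
    rw [← Subgroup.orderOf_mk r hrW]
    exact orderOf_dvd_natCard _
  intro h hh
  set hH : H := ⟨h, hh⟩
  have hτU : π (hH * tH * hH⁻¹) ∈ U := hUn.conj_mem _ htU (π hH)
  obtain ⟨τ, hτ, hτe⟩ := hUR _ hτU
  have hct : Commute (τ : T) t := htR τ hτ
  have hτ2 : τ * τ = 1 := hRW _ ((R : Subgroup H).mul_mem hτ hτ) (by
    rw [map_mul, hτe, ← map_mul, show hH * tH * hH⁻¹ * (hH * tH * hH⁻¹) = hH * (tH * tH) * hH⁻¹ by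
      group, show tH * tH = 1 from Subtype.ext hF.tt, mul_one, mul_inv_cancel, map_one])
  have hτ2' : (τ : T) * τ = 1 := congrArg Subtype.val hτ2
  have hτt : (τ : T) = t := by
    have hτ1 : (τ : T) ≠ 1 := by
      intro e1
      rw [show τ = 1 from Subtype.ext e1, map_one] at hτe
      have h1 : tH ∈ W := by
        have := (inferInstance : W.Normal).conj_mem _ ((QuotientGroup.eq_one_iff _).1 hτe.symm) hH⁻¹
        simpa [mul_assoc] using this
      exact hF.t_ne (congrArg Subtype.val (eq_one_of_odd (T := H) hWodd h1 (Subtype.ext hF.tt)))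
    by_contra hne
    obtain ⟨x, hx, hmove⟩ := outer_moved (φ τ) ⟨hF.map_isInv hct hτ2' hτ1,
      fun e => hne (hF.eq_t hct hτ2' e)⟩
    obtain ⟨q, hq, rfl⟩ := hQ.surj x hx
    set qH : H := ⟨q, hQH hq⟩
    have hqR : qH ∈ (R : Subgroup H) := hR hq
    have hc : (qH * τ * qH⁻¹) * τ = τ * (qH * τ * qH⁻¹) := by
      have hm1 : qH * τ * qH⁻¹ ∈ (R : Subgroup H) :=
        (R : Subgroup H).mul_mem ((R : Subgroup H).mul_mem hqR hτ) ((R : Subgroup H).inv_mem hqR)
      have hUq : π (qH * τ * qH⁻¹) ∈ U := by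
        rw [map_mul, map_mul, map_inv, hτe]
        exact hUn.conj_mem _ hτU (π qH)
      have hcm : Commute (π (qH * τ * qH⁻¹)) (π τ) := by
        rw [hτe, map_mul π (hH * tH), map_mul π hH, map_inv π hH]
        exact hconjc (π hH) _ hUq
      have h1 := hRW ((qH * τ * qH⁻¹ * τ) * (τ * (qH * τ * qH⁻¹))⁻¹)
        ((R : Subgroup H).mul_mem ((R : Subgroup H).mul_mem hm1 hτ)
          ((R : Subgroup H).inv_mem ((R : Subgroup H).mul_mem hτ hm1))) (by
        rw [map_mul, map_inv, map_mul π (qH * τ * qH⁻¹), map_mul π τ, hcm.eq, mul_inv_cancel])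
      exact mul_inv_eq_one.1 h1
    refine hmove ?_
    have hqt := hQ.commT q hq
    have hc1 : Commute (q * (τ : T) * q⁻¹) t := (hqt.mul_left hct).mul_left hqt.inv_left
    rw [← hF.map_cj hqt hct, ← hF.mul _ _ hc1 hct, ← hF.mul _ _ hct hc1]
    exact congrArg φ (congrArg Subtype.val hc)
  have hw : (hH * tH * hH⁻¹) * tH⁻¹ ∈ W := by
    rw [← QuotientGroup.eq_one_iff]
    show π ((hH * tH * hH⁻¹) * tH⁻¹) = 1
    rw [map_mul, ← hτe, show τ = tH from Subtype.ext hτt, map_inv, mul_inv_cancel]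
  have hwt : Commute (h * t * h⁻¹ * t⁻¹) t := hWt _ hw
  have hw1 : h * t * h⁻¹ * t⁻¹ = 1 := by
    have h2 : (h * t * h⁻¹ * t⁻¹) * (h * t * h⁻¹ * t⁻¹) = 1 := by
      have e1 : t⁻¹ = t := inv_eq_of_mul_eq_one_right hF.tt
      have ha : Commute (h * t * h⁻¹) t := by
        have := hwt.mul_left (Commute.refl t)
        rwa [inv_mul_cancel_right] at this
      rw [e1]
      calc h * t * h⁻¹ * t * (h * t * h⁻¹ * t)
          = h * t * h⁻¹ * (t * (h * t * h⁻¹)) * t := by group
        _ = h * t * h⁻¹ * (h * t * h⁻¹ * t) * t := by rw [ha.eq]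
        _ = h * (t * t) * h⁻¹ * (t * t) := by group
        _ = 1 := by rw [hF.tt]; group
    exact congrArg Subtype.val (eq_one_of_odd (T := H) hWodd hw (Subtype.ext h2))
  show h * t = t * h
  calc h * t = (h * t * h⁻¹ * t⁻¹) * (t * h) := by group
    _ = t * h := by rw [hw1, one_mul]

/-- A proper subgroup containing `Q` and `g` centralises the involution. -/
theorem cent_t_of_quat (hA : Assembly.{u}) (hm : CycSyl43.Min T) (hF : Frame t O φ)
    (hQ : Quat t φ Q g) {H : Subgroup T} (hH : H ≠ ⊤) (hQH : Q ≤ H) (hgH : g ∈ H) :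
    ∀ h ∈ H, Commute h t := by
  by_cases hs : Group.IsSolvable H
  · exact cent_t_of_solvable hm hF hQ hQH hs
  · exact cent_t_of_not_solvable hA hm hF hQ hH hQH hgH hs

end Cfsg.Agent.CycSyl43SemiGL
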