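import Cfsg.Agent.Lib.CycSyl43SemiGLCore

/-!
Orders, the exclusion of a trivial core, and the two trivial-intersection sets of the semidihedral
configuration with centraliser `GL(2,3)` modulo the core.
-/

set_option autoImplicit false

namespace Cfsg.Agent.CycSyl43SemiGL

open BinaryOctahedral GL23CentModel CycSyl43SemiGLModel
open Cfsg.Agent.CycSyl43

universe u

variable {T : Type u} [Group T] {t : T} {O : Subgroup T} {φ : T → Coord}


/-- Elements of the centraliser with a nontrivial power in the core. -/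
def D1 (t : T) (O : Subgroup T) : Set T := {h | Commute h t ∧ ∃ k : ℕ, h ^ k ∈ O ∧ h ^ k ≠ 1}

/-- Elements having `t` as a power. -/
def D4 (t : T) : Set T := {h | Commute h t ∧ ∃ k : ℕ, h ^ k = t}

variable [Finite T]

theorem sum_fibre [Fintype (Subgroup.centralizer ({t} : Set T))] (hF : Frame t O φ)
    {R : Type*} [AddCommMonoid R] (F : Coord → R) :
    ∑ c : Subgroup.centralizer ({t} : Set T), F (φ c) = Nat.card O • ∑ x, F x := by
  classical
  have hfib : ∀ x, (Finset.univ.filter fun c : Subgroup.centralizer ({t} : Set T) => φ c = x).card =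
      Nat.card O := by
    intro x
    obtain ⟨a, ha, rfl⟩ := hF.surj x
    rw [← Fintype.card_subtype, ← Nat.card_eq_fintype_card]
    refine (Nat.card_eq_of_bijective (fun o : O => (⟨⟨a * o, mem_cent (ha.mul_left (hF.le o o.2))⟩,
      by rw [hF.mul _ _ ha (hF.le o o.2), (hF.ker _ (hF.le o o.2)).2 o.2]
         exact (by decide +kernel : ∀ x, mC x oneC = x) _⟩ :
      {c : Subgroup.centralizer ({t} : Set T) // φ c = φ a})) ⟨?_, ?_⟩).symm
    · intro o o' h
      exact Subtype.ext (mul_left_cancel (congrArg (fun c : {c : Subgroup.centralizer ({t} : Set T) //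
        φ c = φ a} => ((c.1 : T))) h))
    · rintro ⟨⟨c, hc⟩, hcx⟩
      have hc' := of_mem_cent hc
      have ho : a⁻¹ * c ∈ O := by
        rw [← hF.ker _ (ha.inv_left.mul_left hc'), hF.mul _ _ ha.inv_left hc', hF.map_inv ha, hcx]
        exact invC_mC _
      exact ⟨⟨_, ho⟩, Subtype.ext (Subtype.ext (mul_inv_cancel_left a c))⟩
  rw [Finset.smul_sum, ← Finset.sum_fiberwise' Finset.univ
    (fun c : Subgroup.centralizer ({t} : Set T) => φ c) F]
  exact Finset.sum_congr rfl fun x _ => by rw [Finset.sum_const, hfib x]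

theorem card_cent (hF : Frame t O φ) :
    Nat.card (Subgroup.centralizer ({t} : Set T)) = 48 * Nat.card O := by
  haveI := Fintype.ofFinite (Subgroup.centralizer ({t} : Set T))
  have h := sum_fibre hF (fun _ => (1 : ℕ))
  simp only [Finset.sum_const, Finset.card_univ, smul_eq_mul, mul_one] at h
  rw [Nat.card_eq_fintype_card, h, ← Finset.card_univ, card_univ', mul_comm]

theorem card_sylow (hF : Frame t O φ) (S : Sylow 2 T)
    (hS : ∀ s ∈ (S : Subgroup T), s * t = t * s) : Nat.card (S : Subgroup T) = 16 := by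
  haveI : Fact (Nat.Prime 2) := ⟨Nat.prime_two⟩
  have hle : (S : Subgroup T) ≤ Subgroup.centralizer ({t} : Set T) := fun s hs =>
    mem_cent (hS s hs)
  have h := (S.subtype hle).card_eq_multiplicity
  rw [Sylow.coe_subtype, Nat.card_congr (Subgroup.subgroupOfEquivOfLe hle).toEquiv, card_cent hF,
    Nat.factorization_mul (by norm_num) Nat.card_pos.ne', Finsupp.add_apply,
    Nat.factorization_eq_zero_of_not_dvd (n := Nat.card O)
      (fun hd => absurd (hF.odd.of_dvd_nat hd) (by decide))] at h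
  rw [h, show (48 : ℕ) = 2 ^ 4 * 3 by norm_num, Nat.factorization_mul (by norm_num) (by norm_num),
    Finsupp.add_apply, Nat.prime_two.factorization_pow,
    Nat.factorization_eq_zero_of_not_dvd (n := 3) (by decide), Finsupp.single_eq_same]
  norm_num

section Main

variable (hA : Assembly.{u}) (hm : CycSyl43.Min T) (hF : Frame t O φ)
include hA hm hF

theorem exists_mult (S : Sylow 2 T) (hS : ∀ s ∈ (S : Subgroup T), s * t = t * s) :
    ∃ M : ℕ, Nat.card T = M * (48 * Nat.card O) ∧ Odd M ∧ M.Coprime (Nat.card O) := by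
  haveI : Fact (Nat.Prime 2) := ⟨Nat.prime_two⟩
  refine ⟨(Subgroup.centralizer ({t} : Set T)).index, ?_, ?_, ?_⟩
  · rw [← card_cent hF, Subgroup.index_mul_card]
  · refine Nat.odd_iff.2 ?_
    have hle : (S : Subgroup T) ≤ Subgroup.centralizer ({t} : Set T) := fun s hs =>
      mem_cent (hS s hs)
    have h1 : ¬ 2 ∣ (Subgroup.centralizer ({t} : Set T)).index := fun h =>
      S.not_dvd_index (h.trans (Subgroup.index_dvd_of_le hle))
    omega
  · refine Nat.coprime_of_dvd fun r hr h1 h2 => ?_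
    haveI := Fact.mk hr
    obtain ⟨⟨y, hy⟩, hyr⟩ := exists_prime_orderOf_dvd_card' (G := O) r h2
    rw [Subgroup.orderOf_mk] at hyr
    obtain ⟨P, hP⟩ := (IsPGroup.of_card (n := 1) (by rw [Nat.card_zpowers, hyr, pow_one]) :
      IsPGroup r (Subgroup.zpowers y)).exists_le_sylow
    exact P.not_dvd_index (h1.trans (Subgroup.index_dvd_of_le
      (sylow_le hA hm hF hy hyr P (hP (Subgroup.mem_zpowers y)))))

theorem ti1 : TIData (Subgroup.centralizer ({t} : Set T)) (D1 t O) := by
  refine ⟨fun h hh => mem_cent hh.1, ?_, ?_, ?_, ?_⟩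
  · rintro ⟨-, k, -, h⟩
    exact h (one_pow k)
  · rintro h ⟨hc, k, hk, hk1⟩
    exact ⟨hc.inv_left, k, by rw [inv_pow]; exact O.inv_mem hk, by rwa [inv_pow, ne_eq, inv_eq_one]⟩
  · rintro c hc h ⟨hh, k, hk, hk1⟩
    have hc' := of_mem_cent hc
    refine ⟨(hc'.mul_left hh).mul_left hc'.inv_left, k, ?_, ?_⟩
    · rw [conj_pow]; exact hF.normal c hc' _ hk
    · rw [conj_pow]; exact fun e => hk1 (conj_eq_one_iff.1 e)
  · rintro g h ⟨hh, k, hk, hk1⟩ ⟨-, l, hl, hl1⟩
    obtain ⟨r, i, hr, hor⟩ := exists_prime_power hk1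
    haveI := Fact.mk hr
    have hyO : (h ^ k) ^ i ∈ O := O.pow_mem hk i
    have hor' : orderOf (g * (h ^ k) ^ i * g⁻¹) = r :=
      (orderOf_injective (MulAut.conj g).toMonoidHom (MulEquiv.injective _) _).trans hor
    have hcomm : Commute (g * (h ^ k) ^ i * g⁻¹) ((g * h * g⁻¹) ^ l) := by
      rw [← pow_mul, ← conj_pow]
      exact (Commute.refl _).pow_pow _ _
    have ht := cent_le hA hm hF hl hl1 hcomm
    have hdvd : r ∣ Nat.card O := by
      rw [← hor]
      exact Subgroup.orderOf_dvd_natCard O hyO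
    exact mem_cent (conj_mem_imp hA hm hF hyO
      (fun e => hr.ne_one (by rw [← hor, e, orderOf_one]))
      (prime_mem hA hm hF ht hor' hdvd))

omit hA hm in
theorem ti4 : TIData (Subgroup.centralizer ({t} : Set T)) (D4 t) := by
  refine ⟨fun h hh => mem_cent hh.1, ?_, ?_, ?_, ?_⟩
  · rintro ⟨-, k, hk⟩
    exact hF.t_ne (hk.symm.trans (one_pow k))
  · rintro h ⟨hc, k, hk⟩
    exact ⟨hc.inv_left, k, by rw [inv_pow, hk]; exact inv_eq_of_mul_eq_one_right hF.tt⟩
  · rintro c hc h ⟨hh, k, hk⟩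
    have hc' := of_mem_cent hc
    refine ⟨(hc'.mul_left hh).mul_left hc'.inv_left, k, ?_⟩
    rw [conj_pow, hk, hc'.eq, mul_inv_cancel_right]
  · rintro g h ⟨hh, k, hk⟩ ⟨-, l, hl⟩
    haveI : Fact (Nat.Prime 2) := ⟨Nat.prime_two⟩
    have ho : orderOf (h ^ l) = 2 := by
      rw [← orderOf_injective (MulAut.conj g).toMonoidHom (MulEquiv.injective _) (h ^ l)]
      show orderOf (g * h ^ l * g⁻¹) = 2
      rw [← conj_pow, hl, hF.ot]
    have hz := mem_zpowers_of_sylow (r := 2) (P := Subgroup.zpowers h)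
      (show t ∈ Subgroup.zpowers h from hk ▸ Subgroup.pow_mem _ (Subgroup.mem_zpowers h) k)
      (Subgroup.pow_mem _ (Subgroup.mem_zpowers h) l) hF.ot
      (orderOf_dvd_iff_pow_eq_one.1 (dvd_of_eq ho))
    obtain ⟨n, hn⟩ := Subgroup.mem_zpowers_iff.1 hz
    have he : h ^ l = t := by
      rcases Int.even_or_odd n with ⟨m, rfl⟩ | ⟨m, rfl⟩
      · have h1 : h ^ l = 1 := by
          rw [← hn, zpow_add, ← (Commute.refl t).mul_zpow, hF.tt, one_zpow]
        rw [h1, orderOf_one] at ho
        norm_num at ho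
      · rw [← hn, zpow_add, two_mul, zpow_add, ← (Commute.refl t).mul_zpow, hF.tt, one_zpow,
          one_mul, zpow_one]
    refine mem_cent ?_
    have h2 : g * t * g⁻¹ = t := by rw [← he, ← conj_pow, hl, he]
    show g * t = t * g
    calc g * t = g * t * g⁻¹ * g := by group
      _ = t * g := by rw [h2]

end Main

/-- A trivial core is impossible. -/
theorem not_trivial_core (hm : CycSyl43.Min T) {S : Sylow 2 T} (h : SemiGL S t O)
    (hF : Frame t O φ) (hO : Nat.card O = 1) : False := by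
  haveI := Fintype.ofFinite T
  haveI : Fact (Nat.Prime 2) := ⟨Nat.prime_two⟩
  haveI : Fact (Nat.Prime 3) := ⟨by norm_num⟩
  have hO' : O = ⊥ := Subgroup.card_eq_one.1 hO
  obtain ⟨f, hf, hker⟩ := h.quot
  have hinj : Function.Injective f := by
    rw [← MonoidHom.ker_eq_bot_iff, hker, hO', Subgroup.bot_subgroupOf]
  obtain ⟨f', hs⟩ := GL23CentOrder.exists_setup h.ot (MulEquiv.ofBijective f ⟨hinj, hf⟩)
  have h9 : 3 ^ 2 ∣ Nat.card T := by
    rcases GL23CentOrder.card_eq_of_mod hs h.fusion (GL23CentOrder.card_mod hs) with e | e <;>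
      rw [e] <;> norm_num
  obtain ⟨c, hct, hcx⟩ := hF.surj c3
  have hmem : ∀ {a : T}, Commute a t → φ a = oneC → a = 1 := fun ha he => by
    have := (hF.ker _ ha).1 he
    rwa [hO', Subgroup.mem_bot] at this
  have hc : orderOf c = 3 := by
    refine orderOf_eq_prime (hmem (hct.pow_left 3) ?_) fun e => ?_
    · rw [hF.map_pow hct, hcx]; decide +kernel
    · rw [e, hF.map_one] at hcx
      exact absurd hcx (by decide +kernel)
  set H := Subgroup.centralizer ({c} : Set T) with hH
  have htH : t ∈ H := mem_cent hct.symm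
  obtain ⟨R, hR⟩ := (IsPGroup.of_card (n := 1)
    (by rw [Nat.card_zpowers, Subgroup.orderOf_mk, h.ot, pow_one]) :
      IsPGroup 2 (Subgroup.zpowers (⟨t, htH⟩ : H))).exists_le_sylow
  have htR : (⟨t, htH⟩ : H) ∈ (R : Subgroup H) := hR (Subgroup.mem_zpowers _)
  have hRc : ∀ r ∈ (R : Subgroup H), Commute (r : T) t → r = 1 ∨ (r : T) = t := by
    intro r hr hrt
    obtain ⟨k, hk⟩ := R.isPGroup' ⟨r, hr⟩
    have h4 : (r : T) ^ 8 = 1 := by
      have hd : orderOf (r : T) ∣ 2 ^ k :=
        orderOf_dvd_of_pow_eq_one (congrArg (fun z : (R : Subgroup H) => ((z : H) : T)) hk)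
      obtain ⟨j, -, hj⟩ := (Nat.dvd_prime_pow Nat.prime_two).1 hd
      have hd' : orderOf (r : T) ∣ 48 := by
        have := Subgroup.orderOf_dvd_natCard (Subgroup.centralizer ({t} : Set T)) (mem_cent hrt)
        rwa [card_cent hF, hO, mul_one] at this
      refine orderOf_dvd_iff_pow_eq_one.1 ?_
      rw [hj] at hd' ⊢
      by_cases hj3 : j ≤ 3
      · exact pow_dvd_pow 2 hj3
      · exfalso
        have h16 : φ ((r : T) ^ 8) = oneC := by
          rw [hF.map_pow hrt]
          have key : ∀ x, mC x c3 = mC c3 x → powC x 8 = oneC ∨ powC x 16 ≠ oneC := by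
            decide +kernel
          refine (key (φ (r : T)) ?_).resolve_right (fun hne => hne ?_)
          · rw [← hcx, ← hF.mul _ _ hrt hct, ← hF.mul _ _ hct hrt]
            exact congrArg φ (of_mem_cent r.2).eq
          · have hp : (r : T) ^ 16 = 1 := by
              refine orderOf_dvd_iff_pow_eq_one.1 ?_
              rw [hj, show (16 : ℕ) = 2 ^ 4 by rfl]
              refine pow_dvd_pow 2 ?_
              by_contra hj4
              have : 2 ^ 5 ∣ 48 := (pow_dvd_pow 2 (by omega : 5 ≤ j)).trans hd'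
              norm_num at this
            rw [← hF.map_pow hrt, hp, hF.map_one]
        have h8 := orderOf_dvd_of_pow_eq_one (hmem (hrt.pow_left 8) h16)
        rw [hj, show (8 : ℕ) = 2 ^ 3 by rfl] at h8
        exact hj3 ((Nat.pow_dvd_pow_iff_le_right (by norm_num)).1 h8)
    have key : ∀ x, powC x 8 = oneC → mC x c3 = mC c3 x → x = oneC ∨ x = tC := by decide +kernel
    have hcomm : mC (φ (r : T)) c3 = mC c3 (φ (r : T)) := by
      rw [← hcx, ← hF.mul _ _ hrt hct, ← hF.mul _ _ hct hrt]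
      exact congrArg φ (of_mem_cent r.2).eq
    rcases key _ (by rw [← hF.map_pow hrt, h4, hF.map_one]) hcomm with e | e
    · exact Or.inl (Subtype.ext (hmem hrt e))
    · refine Or.inr (inv_mul_eq_one.1 (hmem (hrt.inv_left.mul_left (Commute.refl t)) ?_))
      rw [hF.mul _ _ hrt.inv_left (Commute.refl t), hF.map_inv hrt, hF.map_t, e]
      exact invC_mC _
  -- `t` is central in `R`, hence `R` has order two
  haveI : Nontrivial (R : Subgroup H) := ⟨⟨⟨_, htR⟩, 1, fun e => hF.t_ne
    (congrArg (fun z : (R : Subgroup H) => ((z : H) : T)) e)⟩⟩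
  haveI := R.isPGroup'.center_nontrivial
  obtain ⟨z, hz1⟩ := exists_ne (1 : Subgroup.center (R : Subgroup H))
  have hzc : ∀ r : (R : Subgroup H), r * (z : (R : Subgroup H)) = (z : (R : Subgroup H)) * r :=
    fun r => Subgroup.mem_center_iff.1 z.2 r
  have hzt : (((z : (R : Subgroup H)) : H) : T) = t := by
    rcases hRc _ (SetLike.coe_mem (z : (R : Subgroup H)))
      (congrArg (fun r : (R : Subgroup H) => ((r : H) : T)) (hzc ⟨_, htR⟩)).symm with e | e
    · exact absurd (Subtype.ext (Subtype.ext e)) hz1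
    · exact e
  have hRt : ∀ r ∈ (R : Subgroup H), r = 1 ∨ (r : T) = t := by
    intro r hr
    refine hRc r hr ?_
    have := congrArg (fun q : (R : Subgroup H) => ((q : H) : T)) (hzc ⟨r, hr⟩)
    simp only [Subgroup.coe_mul, hzt] at this
    exact this
  have hRn : Subgroup.normalizer ((R : Subgroup H) : Set H) ≤
      Subgroup.centralizer ((R : Subgroup H) : Set H) := by
    intro n hn
    rw [Subgroup.mem_centralizer_iff]
    intro r hr
    rcases hRt r hr with e | e
    · rw [e, one_mul, mul_one]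
    have hr1 : r ≠ 1 := fun e1 => hF.t_ne (by rw [← e, e1, Subgroup.coe_one])
    rcases hRt _ ((Subgroup.mem_normalizer_iff.1 hn r).1 hr) with e' | e'
    · exact absurd (conj_eq_one_iff.1 e') hr1
    · have : n * r * n⁻¹ = r := Subtype.ext (e'.trans e.symm)
      calc r * n = n * r * n⁻¹ * n := by rw [this]
        _ = n * r := by group
  set W := (MonoidHom.transferSylow R hRn).ker
  have hWc := MonoidHom.ker_transferSylow_isComplement' R hRn
  have hWodd : ¬ 2 ∣ Nat.card W := MonoidHom.not_dvd_card_ker_transferSylow R hRn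
  -- a Sylow 3-subgroup of `C(c)` centralised by `t`
  set A : Subgroup H := Subgroup.zpowers ⟨t, htH⟩
  have hcop : (Nat.card A).Coprime (Nat.card W) := by
    rw [Nat.card_zpowers, Subgroup.orderOf_mk, h.ot]
    exact (Nat.Prime.coprime_iff_not_dvd Nat.prime_two).2 hWodd
  obtain ⟨P₀, hP₀⟩ := CoprimeAction.exists_invariant_sylow (A := A) (K := W)
    (by rw [Subgroup.normalizer_eq_top]; exact le_top) hcop
    (Or.inl (CoprimeAction.isSolvable_zpowers _)) 3
  set P' : Subgroup H := (P₀ : Subgroup W).map W.subtype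
  have hP'3 : IsPGroup 3 P' := P₀.2.map _
  haveI : IsCyclic (P'.map H.subtype) := isCyclic_of_pGroup hm.hodd (by norm_num) (hP'3.map _)
  have hcP : c ∈ P'.map H.subtype := by
    have hcH : c ∈ H := mem_cent (Commute.refl c)
    have hcW : (⟨c, hcH⟩ : H) ∈ W := by
      have h3 : (MonoidHom.transferSylow R hRn ⟨c, hcH⟩) ^ 3 = 1 := by
        rw [← map_pow, show (⟨c, hcH⟩ : H) ^ 3 = 1 from
          Subtype.ext (orderOf_dvd_iff_pow_eq_one.1 (dvd_of_eq hc)), map_one]
      obtain ⟨k, hk⟩ := R.isPGroup' (MonoidHom.transferSylow R hRn ⟨c, hcH⟩)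
      exact orderOf_eq_one_iff.1 (Nat.eq_one_of_dvd_coprimes
        (Nat.Coprime.pow_right k (by norm_num : Nat.Coprime 3 2))
        (orderOf_dvd_of_pow_eq_one h3) (orderOf_dvd_of_pow_eq_one hk))
    have hcen : (⟨⟨c, hcH⟩, hcW⟩ : W) ∈ Subgroup.center W := by
      rw [Subgroup.mem_center_iff]
      intro w
      exact Subtype.ext (Subtype.ext (of_mem_cent (w : H).2).eq)
    haveI : (Subgroup.zpowers (⟨⟨c, hcH⟩, hcW⟩ : W)).Normal :=
      ⟨fun a ha g => by
        have := (Subgroup.zpowers_le.2 hcen) ha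
        rw [Subgroup.mem_center_iff] at this
        rw [this g, mul_inv_cancel_right]; exact ha⟩
    have h3 : IsPGroup 3 (Subgroup.zpowers (⟨⟨c, hcH⟩, hcW⟩ : W)) :=
      IsPGroup.of_card (n := 1) (by
        rw [Nat.card_zpowers, Subgroup.orderOf_mk, Subgroup.orderOf_mk, hc, pow_one])
    have := (HallCore.le_pCore h3).trans (HallCore.pCore_le_sylow P₀) (Subgroup.mem_zpowers _)
    exact ⟨⟨c, hcH⟩, ⟨_, this, rfl⟩, rfl⟩
  have hPt : P'.map H.subtype ≤ Subgroup.centralizer ({t} : Set T) := by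
    rintro a ⟨a', ha', rfl⟩
    refine mem_cent ?_
    by_contra hne
    have hta : (t * a' * t⁻¹ : T) ∈ P'.map H.subtype :=
      ⟨_, CoprimeAction.conj_mem (hP₀ (Subgroup.mem_zpowers _)) ha', rfl⟩
    have hti : t⁻¹ = t := inv_eq_of_mul_eq_one_right hF.tt
    set z := (a' : T) * (t * a' * t⁻¹)⁻¹ with hz
    have hzP : z ∈ P'.map H.subtype := mul_mem ⟨a', ha', rfl⟩ (inv_mem hta)
    have hz1 : z ≠ 1 := fun e => hne (by
      have := mul_inv_eq_one.1 e
      show (a' : T) * t = t * a'
      calc (a' : T) * t = t * a' * t⁻¹ * t := by rw [← this]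
        _ = t * a' := by group)
    have hcomm : ∀ u ∈ P'.map H.subtype, ∀ v ∈ P'.map H.subtype, Commute u v := fun u hu v hv =>
      congrArg Subtype.val (mul_comm' (⟨u, hu⟩ : P'.map H.subtype) ⟨v, hv⟩)
    have hinv : t * z * t⁻¹ = z⁻¹ := by
      rw [hz]
      simp only [hti, mul_inv_rev, inv_inv, mul_assoc, hF.tt, mul_one]
    obtain ⟨q, k, hq, hzk⟩ := exists_prime_power hz1
    have hq3 : q = 3 := by
      obtain ⟨i, hi⟩ := (hP'3.map H.subtype) ⟨_, pow_mem hzP k⟩
      have hd : q ∣ 3 ^ i := hzk ▸ orderOf_dvd_of_pow_eq_one (congrArg Subtype.val hi)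
      exact (Nat.prime_dvd_prime_iff_eq hq (by norm_num)).1 (hq.dvd_of_dvd_pow hd)
    subst hq3
    have hm1 := mem_zpowers_of_sylow hcP (pow_mem hzP k) hc
      (orderOf_dvd_iff_pow_eq_one.1 (dvd_of_eq hzk))
    obtain ⟨i, hi⟩ := Subgroup.mem_zpowers_iff.1 hm1
    have hfix : t * z ^ k * t⁻¹ = z ^ k := by
      rw [← hi, (hct.symm.zpow_right i).eq, mul_inv_cancel_right]
    rw [← conj_pow, hinv, inv_pow] at hfix
    have : orderOf (z ^ k) ∣ 2 :=
      orderOf_dvd_of_pow_eq_one (by rw [pow_two]; exact inv_eq_iff_mul_eq_one.1 hfix)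
    rw [hzk] at this
    norm_num at this
  have hd := Subgroup.card_dvd_of_le hPt
  rw [card_cent hF, hO, mul_one, Subgroup.card_map_of_injective H.subtype_injective,
    CoprimeAction.card_map_sylow P₀] at hd
  have h9W : 3 ^ 2 ∣ Nat.card W := by
    -- the Sylow 3-subgroup of `T` containing `c` lies in `C(c)`
    obtain ⟨P, hP⟩ := (IsPGroup.of_card (n := 1) (by rw [Nat.card_zpowers, hc, pow_one]) :
      IsPGroup 3 (Subgroup.zpowers c)).exists_le_sylow
    haveI := hm.hodd 3 (by norm_num) (by norm_num) P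
    have hPH : (P : Subgroup T) ≤ H := fun a ha => mem_cent
      (congrArg Subtype.val (mul_comm' (⟨a, ha⟩ : (P : Subgroup T)) ⟨c, hP (Subgroup.mem_zpowers c)⟩))
    have hdT : 3 ^ 2 ∣ Nat.card (P : Subgroup T) := by
      rw [P.card_eq_multiplicity]
      exact pow_dvd_pow 3 (((Nat.Prime.pow_dvd_iff_le_factorization (by norm_num)) Nat.card_pos.ne').1 h9)
    have hdH : 3 ^ 2 ∣ Nat.card H := hdT.trans (Subgroup.card_dvd_of_le hPH)
    rw [← hWc.card_mul_card] at hdH
    refine (Nat.Coprime.dvd_of_dvd_mul_right ?_ hdH)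
    obtain ⟨n, hn⟩ := IsPGroup.iff_card.1 R.isPGroup'
    rw [hn]
    exact (Nat.Coprime.pow 2 n (by norm_num : Nat.Coprime 3 2))
  have hpow : 3 ^ 2 ∣ 3 ^ (Nat.card W).factorization 3 :=
    pow_dvd_pow 3 (((Nat.Prime.pow_dvd_iff_le_factorization (by norm_num)) Nat.card_pos.ne').1 h9W)
  exact absurd (hpow.trans hd) (by norm_num)

end Cfsg.Agent.CycSyl43SemiGL
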