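import Cfsg.Agent.Lib.CycSyl43TI

/-!
The sum over pairs of involutions of the class function `2 - λ - λ⁻¹` of a dihedral-type group.
-/

set_option autoImplicit false
set_option linter.unusedSectionVars false

namespace Cfsg.Agent.CycSyl43SemiSLPairs32

open Cfsg.Agent.CycSyl43TI (pairSum theta theta_mem theta_not_mem)

universe u

variable {G : Type u} [Group G] [Fintype G]

open scoped Classical in
/-- If the involutions outside `K` are the `g b`, `b ∈ B`, with `∑ λ b = 0`, the pair sum is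
`2 |B|²`. -/
theorem pairSum_theta {H : Subgroup G} [Fintype H] (K : Subgroup H) (lam : K →* ℂˣ)
    (h2 : K.index = 2)
    (hinv : ∀ h : H, h ∉ K → ∀ x y : K, (y : H) = h * x * h⁻¹ → lam y = (lam x)⁻¹)
    {g : H} (hg : g ∉ K)
    (hin : ∀ x y : K, orderOf (x : H) = 2 → orderOf (y : H) = 2 → lam (x * y) = 1)
    (hsum : ∑ b ∈ (Finset.univ.filter fun b : K => orderOf (g * (b : H)) = 2), (lam b : ℂ) = 0) :
    pairSum H (theta K lam) =
      2 * ((Finset.univ.filter fun b : K => orderOf (g * (b : H)) = 2).card : ℂ) ^ 2 := by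
  set B := Finset.univ.filter fun b : K => orderOf (g * (b : H)) = 2 with hB
  set I := Finset.univ.filter fun u : H => orderOf u = 2 with hI
  have hn : K.Normal := Subgroup.normal_of_index_eq_two h2
  have hmul : ∀ a b : H, a * b ∈ K ↔ (a ∈ K ↔ b ∈ K) := fun a b =>
    Subgroup.mul_mem_iff_of_index_two h2
  have step : pairSum H (theta K lam) = ∑ u ∈ I, ∑ w ∈ I, theta K lam (u * w) := by
    rw [pairSum, hI, Finset.sum_filter]
    refine Finset.sum_congr rfl fun u _ => ?_
    rw [Finset.sum_filter]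
    split_ifs with hu
    · exact Finset.sum_congr rfl fun w _ => by simp [hu]
    · simp [hu]
  have hzero : ∀ u ∈ I, ∀ w ∈ I, u ∈ K ∨ w ∈ K → theta K lam (u * w) = 0 := by
    intro u hu w hw hor
    by_cases hm : u * w ∈ K
    · have h1 := (hmul u w).1 hm
      have huK : u ∈ K := hor.elim id h1.2
      have hwK : w ∈ K := h1.1 huK
      have h3 := hin ⟨u, huK⟩ ⟨w, hwK⟩ (Finset.mem_filter.1 hu).2 (Finset.mem_filter.1 hw).2
      rw [show u * w = ((⟨u, huK⟩ * ⟨w, hwK⟩ : K) : H) from rfl, theta_mem, h3]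
      norm_num
    · exact theta_not_mem hm
  set J := B.image (fun b : K => g * (b : H)) with hJ
  have hJI : ∀ u, u ∈ J ↔ u ∈ I ∧ u ∉ K := by
    intro u
    rw [hJ, Finset.mem_image]
    constructor
    · rintro ⟨b, hb, rfl⟩
      exact ⟨Finset.mem_filter.2 ⟨Finset.mem_univ _, (Finset.mem_filter.1 hb).2⟩,
        fun h => hg ((K.mul_mem_cancel_right b.2).1 h)⟩
    · rintro ⟨hu, huK⟩
      have hm : g⁻¹ * u ∈ K := (hmul _ _).2 (iff_of_false (fun h => hg (by simpa using inv_mem h)) huK)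
      refine ⟨⟨g⁻¹ * u, hm⟩, Finset.mem_filter.2 ⟨Finset.mem_univ _, ?_⟩, mul_inv_cancel_left g u⟩
      rw [mul_inv_cancel_left]
      exact (Finset.mem_filter.1 hu).2
  have hsub : J ⊆ I := fun u hu => ((hJI u).1 hu).1
  have hinK : ∀ u ∈ I, u ∉ J → u ∈ K := fun u hu hu' =>
    not_not.1 fun h => hu' ((hJI u).2 ⟨hu, h⟩)
  have hinj : Set.InjOn (fun b : K => g * (b : H)) B := fun a _ b _ e =>
    Subtype.ext (mul_left_cancel e)
  have hval : ∀ a ∈ B, ∀ b ∈ B, theta K lam ((g * (a : H)) * (g * (b : H))) =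
      2 - ((lam a)⁻¹ : ℂˣ) * (lam b : ℂ) - ((lam b)⁻¹ : ℂˣ) * (lam a : ℂ) := by
    intro a _ b hb
    have hw : g * (b : H) = (g * (b : H))⁻¹ := by
      refine eq_inv_of_mul_eq_one_left ?_
      rw [← sq, ← (Finset.mem_filter.1 hb).2, pow_orderOf_eq_one]
    have e : (g * (a : H)) * (g * (b : H)) = g * ((a * b⁻¹ : K) : H) * g⁻¹ := by
      rw [hw]
      simp [mul_assoc]
    have hm : g * ((a * b⁻¹ : K) : H) * g⁻¹ ∈ K := hn.conj_mem _ (a * b⁻¹).2 g
    rw [e, show g * ((a * b⁻¹ : K) : H) * g⁻¹ = ((⟨_, hm⟩ : K) : H) from rfl, theta_mem,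
      hinv g hg (a * b⁻¹) ⟨_, hm⟩ rfl]
    simp only [map_mul, map_inv, mul_inv_rev, inv_inv, Units.val_mul, Units.val_inv_eq_inv_val]
    ring
  rw [step, ← Finset.sum_subset hsub fun u hu hu' =>
      Finset.sum_eq_zero fun w hw => hzero u hu w hw (Or.inl (hinK u hu hu')),
    hJ, Finset.sum_image hinj]
  rw [Finset.sum_congr rfl fun a ha => (Finset.sum_subset hsub fun w hw hw' =>
      hzero _ (hsub (Finset.mem_image_of_mem _ ha)) w hw (Or.inr (hinK w hw hw'))).symm]
  rw [hJ]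
  simp only [Finset.sum_image hinj]
  rw [Finset.sum_congr rfl fun a ha => Finset.sum_congr rfl fun b hb => hval a ha b hb]
  simp only [Finset.sum_sub_distrib, ← Finset.mul_sum, ← Finset.sum_mul, hsum, mul_zero,
    Finset.sum_const, nsmul_eq_mul, sub_zero]
  ring

end Cfsg.Agent.CycSyl43SemiSLPairs32
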