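import Cfsg.Agent.Lib.CycSyl43SemiSLQuot32
import Cfsg.Agent.Lib.CycSyl43SemiSLPairs32

/-!
The `SL(2,p)` configuration: the induced characters from the normaliser of an element of order three.
-/

set_option autoImplicit false
set_option linter.unusedSectionVars false

namespace Cfsg.Agent.CycSyl43SemiSLEll32

open Cfsg.Agent.CycSyl43
open Cfsg.Agent.CycSyl43TI
open Cfsg.Agent.CycSyl43SemiSLBase32
open Cfsg.Agent.CycSyl43SemiSLFour32
open Cfsg.Agent.CycSyl43SemiSLCen32
open Cfsg.Agent.CycSyl43SemiSLQuot32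
open scoped MatrixGroups

universe u

variable {T : Type u} [Group T]

/-- The normaliser of `⟨a⟩` for `a` of order three. -/
def N (a : T) : Subgroup T where
  carrier := {g | g * a * g⁻¹ = a ∨ g * a * g⁻¹ = a⁻¹}
  one_mem' := Or.inl (by simp)
  mul_mem' := fun {x y} hx hy => by
    rw [Set.mem_ofPred_eq, show x * y * a * (x * y)⁻¹ = x * (y * a * y⁻¹) * x⁻¹ by group]
    rcases hy with e | e <;> rw [e]
    · exact hx
    · rw [← conj_inv]
      rcases hx with e' | e' <;> rw [e']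
      · exact Or.inr rfl
      · exact Or.inl (inv_inv _)
  inv_mem' := fun {x} hx => by
    rw [Set.mem_ofPred_eq, inv_inv]
    rcases hx with e | e
    · left
      conv_lhs => rw [← e]
      group
    · right
      have e' : a⁻¹⁻¹ = (x * a * x⁻¹)⁻¹ := by rw [e]
      rw [inv_inv] at e'
      conv_lhs => rw [e']
      group

/-- The centraliser of `a` inside its normaliser. -/
def K (a : T) : Subgroup (N a) := (Subgroup.centralizer ({a} : Set T)).subgroupOf (N a)

/-- The trivial intersection set. -/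
def D (a : T) : Set T := {x | a ∈ Subgroup.zpowers x}

theorem cent_le (a : T) : Subgroup.centralizer ({a} : Set T) ≤ N a := fun x hx =>
  Or.inl (by rw [Subgroup.mem_centralizer_singleton_iff.1 hx, mul_inv_cancel_right])

variable [Fintype T] {S : Sylow 2 T} {t : T} {O L : Subgroup T} {p : ℕ}
variable [Fact p.Prime] (c : Ctx S t O L p)
variable {h : T} (hh : Cyc c h) {a : T} (ha : a ∈ Kp c) (ho : orderOf a = 3) (hO : O = ⊥)
include hh ha ho hO

theorem qs_mem_N : c.qs ∈ N a := Or.inr (qs_inv_Ku c ha.1)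

theorem qs_not_C : c.qs ∉ Subgroup.centralizer ({a} : Set T) := fun e =>
  qs_not_cent c hh ha ho hO (Subgroup.mem_centralizer_singleton_iff.1 e)

theorem N_form {g : T} (hg : g ∈ N a) :
    g ∈ Subgroup.centralizer ({a} : Set T) ∨ g * c.qs⁻¹ ∈ Subgroup.centralizer ({a} : Set T) := by
  rcases hg with e | e
  · exact Or.inl (Subgroup.mem_centralizer_singleton_iff.2 (mul_inv_eq_iff_eq_mul.1 e))
  · refine Or.inr (Subgroup.mem_centralizer_singleton_iff.2 (mul_inv_eq_iff_eq_mul.1 ?_))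
    have h1 : c.qs⁻¹ * a * c.qs = a⁻¹ := by
      have h2 := qs_inv_Ku c (inv_mem ha.1)
      rw [inv_inv] at h2
      conv_lhs => rw [← h2]
      group
    rw [show g * c.qs⁻¹ * a * (g * c.qs⁻¹)⁻¹ = g * (c.qs⁻¹ * a * c.qs) * g⁻¹ by group, h1,
      ← conj_inv, e, inv_inv]

theorem card_N : Nat.card (N a) = 24 * kk c := by
  rw [card_double (cent_le a) (qs_mem_N c hh ha ho hO) (qs_not_C c hh ha ho hO)
    (fun g hg => N_form c hh ha ho hO hg), card_cent_a c hh ha ho hO]
  ring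

theorem index_K : (K a).index = 2 := by
  have h1 := (K a).index_mul_card
  rw [show Nat.card (K a) = Nat.card (Subgroup.centralizer ({a} : Set T)) from
    Nat.card_congr (Subgroup.subgroupOfEquivOfLe (cent_le a)).toEquiv,
    card_cent_a c hh ha ho hO, card_N c hh ha ho hO] at h1
  have := (kk_odd c).2.2
  nlinarith

theorem tiData : TIData (N a) (D a) where
  sub x hx := by
    obtain ⟨j, hj⟩ := Subgroup.mem_zpowers_iff.1 (show a ∈ Subgroup.zpowers x from hx)
    exact cent_le a (Subgroup.mem_centralizer_singleton_iff.2 (hj ▸ ((Commute.refl x).zpow_right j).eq))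
  one h1 := by
    obtain ⟨j, hj⟩ := Subgroup.mem_zpowers_iff.1 (show a ∈ Subgroup.zpowers (1 : T) from h1)
    rw [one_zpow] at hj
    exact a_ne c hh ha ho hj.symm
  inv x hx := by
    show a ∈ Subgroup.zpowers x⁻¹
    rw [Subgroup.zpowers_inv]
    exact hx
  conjH g hg x hx := by
    obtain ⟨j, hj⟩ := Subgroup.mem_zpowers_iff.1 (show a ∈ Subgroup.zpowers x from hx)
    have h1 : g * a * g⁻¹ ∈ Subgroup.zpowers (g * x * g⁻¹) :=
      Subgroup.mem_zpowers_iff.2 ⟨j, by rw [conj_zpow, hj]⟩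
    rcases hg with e | e <;> rw [e] at h1
    · exact h1
    · exact inv_mem_iff.1 h1
  ti g x hx hgx := by
    obtain ⟨j, hj⟩ := Subgroup.mem_zpowers_iff.1 (show a ∈ Subgroup.zpowers x from hx)
    have h1 : g * a * g⁻¹ ∈ Subgroup.zpowers (g * x * g⁻¹) :=
      Subgroup.mem_zpowers_iff.2 ⟨j, by rw [conj_zpow, hj]⟩
    exact cyc_pm hgx h1 (Or.inl rfl) ho (by rw [orderOf_conj', ho])

theorem exists_lam : ∃ lam : K a →* ℂˣ,
    (∀ x, lam x ≠ 1 → ((x : N a) : T) ∈ D a) ∧
    (∀ g : N a, g ∉ K a → ∀ x y : K a, (y : N a) = g * x * g⁻¹ → lam y = (lam x)⁻¹) ∧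
    ∃ x : K a, ∀ j : ℕ, 0 < j → j < 9 → lam x ^ j ≠ 1 := by
  classical
  set C := Subgroup.centralizer ({a} : Set T) with hC
  have haC : a ∈ C := Subgroup.mem_centralizer_singleton_iff.2 rfl
  have : Fact (Nat.Prime 3) := ⟨Nat.prime_three⟩
  obtain ⟨P⟩ := (inferInstance : Nonempty (Sylow 3 C))
  have hPc := CycSyl43Assembly.oddCyclic_subgroup c.hodd C 3 Nat.prime_three (by norm_num) P
  have hn := central_normalizer P (a := ⟨a, haC⟩) (by rw [Subgroup.orderOf_mk, ho])
    fun z => Subtype.ext (Subgroup.mem_centralizer_singleton_iff.1 z.2)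
  let ψ : C →* (P : Subgroup C) := MonoidHom.transferSylow P hn
  obtain ⟨g0, hg0⟩ := IsCyclic.exists_generator (α := (P : Subgroup C))
  obtain ⟨e, he⟩ := IsPGroup.iff_card.1 P.2
  have hord : orderOf g0 = 3 ^ e := by rw [orderOf_eq_card_of_forall_mem_zpowers hg0, he]
  have hne : (3 : ℕ) ^ e ≠ 0 := by positivity
  have hζ := Complex.isPrimitiveRoot_exp (3 ^ e) hne
  set ζ : ℂˣ := (hζ.isUnit hne).unit with hζdef
  have hζu : IsPrimitiveRoot ζ (3 ^ e) := IsPrimitiveRoot.coe_units_iff.1 hζ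
  have hdvd : orderOf ζ ∣ orderOf g0 := by rw [← hζu.eq_orderOf, hord]
  let χ : (P : Subgroup C) →* ℂˣ := monoidHomOfForallMemZpowers hg0 hdvd
  let lamC : C →* ℂˣ := χ.comp ψ
  let ι : K a →* C := (Subgroup.subgroupOfEquivOfLe (cent_le a)).toMonoidHom
  have hι : ∀ x : K a, ((ι x : C) : T) = ((x : N a) : T) := fun x => rfl
  have he2 : 2 ≤ e := by
    have h9 : 3 ^ 2 ∣ Nat.card C := by
      rw [hC, card_cent_a c hh ha ho hO]
      obtain ⟨r, hr⟩ := three_dvd_kk c hh
      exact ⟨4 * r, by rw [hr]; ring⟩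
    have h1 := (Nat.prime_three.pow_dvd_iff_le_factorization Nat.card_pos.ne').1 h9
    have h2 := P.card_eq_multiplicity
    rw [he] at h2
    rw [Nat.pow_right_injective (by norm_num) h2]
    exact h1
  have hsmall : ∀ z : C, z ^ 2 = 1 → lamC z = 1 := by
    intro z hz
    have h1 : ψ z ^ 2 = 1 := by rw [← map_pow, hz, map_one]
    have h2 : ψ z ^ (3 ^ e) = 1 := by rw [← he]; exact pow_card_eq_one'
    have h3 : ψ z = 1 := by
      rw [← orderOf_eq_one_iff]
      exact Nat.eq_one_of_dvd_coprimes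
        ((Nat.coprime_primes Nat.prime_two Nat.prime_three).2 (by norm_num) |>.pow_right e)
        (orderOf_dvd_of_pow_eq_one h1) (orderOf_dvd_of_pow_eq_one h2)
    show χ (ψ z) = 1
    rw [h3, map_one]
  refine ⟨lamC.comp ι, fun x hx => ?_, fun g hg x y hy => ?_, ?_⟩
  · show a ∈ Subgroup.zpowers ((x : N a) : T)
    have h1 : ψ (ι x) ≠ 1 := fun h1 => hx (by show χ (ψ (ι x)) = 1; rw [h1, map_one])
    have h3 : 3 ∣ orderOf ((x : N a) : T) := by
      obtain ⟨b, hb⟩ := P.2 (ψ (ι x))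
      obtain ⟨b', -, hb'⟩ := (Nat.dvd_prime_pow Nat.prime_three).1 (orderOf_dvd_of_pow_eq_one hb)
      have hb0 : b' ≠ 0 := fun e0 => h1 (orderOf_eq_one_iff.1 (by rw [hb', e0, pow_zero]))
      have h4 : orderOf (ψ (ι x)) ∣ orderOf ((x : N a) : T) := by
        rw [← hι x, Subgroup.orderOf_coe]
        exact orderOf_map_dvd ψ (ι x)
      rw [hb'] at h4
      exact (dvd_pow_self 3 hb0).trans h4
    set z := ((x : N a) : T) with hz
    have hw : orderOf (z ^ (orderOf z / 3)) = 3 := by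
      rw [orderOf_pow_of_dvd, Nat.div_div_self h3 (orderOf_pos z).ne']
      · exact Nat.div_ne_zero_iff_of_dvd h3 |>.2 ⟨(orderOf_pos z).ne', by norm_num⟩
      · exact Nat.div_dvd_of_dvd h3
    have hza : Commute z a := Subgroup.mem_centralizer_singleton_iff.1 (ι x).2
    exact Subgroup.zpowers_le.2 (pow_mem (Subgroup.mem_zpowers z) _)
      (prime_unique c.hodd Nat.prime_three (by norm_num) hw ho (hza.pow_left _).eq)
  · have hb : (g : T) * c.qs⁻¹ ∈ C := (N_form c hh ha ho hO g.2).resolve_left fun q => hg q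
    have hxC : ((x : N a) : T) ∈ C := (ι x).2
    have hw : c.qs * ((x : N a) : T) * c.qs⁻¹ ∈ C := Subgroup.mem_centralizer_singleton_iff.2
      (qs_cent c hh ha ho hO (Subgroup.mem_centralizer_singleton_iff.1 hxC))
    have e1 : ι y = ⟨_, hb⟩ * ⟨_, hw⟩ * ⟨_, hb⟩⁻¹ := Subtype.ext (by
      rw [hι, hy]
      show (g : T) * ((x : N a) : T) * (g : T)⁻¹ = (g : T) * c.qs⁻¹ *
        (c.qs * ((x : N a) : T) * c.qs⁻¹) * ((g : T) * c.qs⁻¹)⁻¹
      group)
    show lamC (ι y) = (lamC (ι x))⁻¹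
    rw [e1, map_mul, map_mul, map_inv, mul_comm (lamC _), mul_inv_cancel_right,
      eq_inv_iff_mul_eq_one, ← map_mul]
    refine hsmall _ (Subtype.ext ?_)
    rw [sq]
    exact V_sq c (inv_mod c hh ha ho hO (Subgroup.mem_centralizer_singleton_iff.1 hxC))
  · refine ⟨⟨⟨((g0 : C) : T), cent_le a (g0 : C).2⟩, (g0 : C).2⟩, fun j hj0 hj9 hj => ?_⟩
    have h1 : ψ (g0 : C) = g0 ^ (P : Subgroup C).index :=
      congrFun (MonoidHom.transferSylow_domRestrict_eq_pow P hn) g0
    have h2 : (lamC (g0 : C)) ^ j = 1 := hj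
    rw [show lamC (g0 : C) = χ (ψ (g0 : C)) from rfl, h1, map_pow,
      show χ g0 = ζ from monoidHomOfForallMemZpowers_apply_gen hg0 hdvd, ← pow_mul,
      hζu.pow_eq_one_iff_dvd] at h2
    have hcop : Nat.Coprime (3 ^ e) (P : Subgroup C).index :=
      ((Nat.Prime.coprime_iff_not_dvd Nat.prime_three).2 P.not_dvd_index).pow_left e
    have h3 := Nat.le_of_dvd hj0 (hcop.dvd_of_dvd_mul_left h2)
    have h4 : 3 ^ 2 ≤ 3 ^ e := Nat.pow_le_pow_right (by norm_num) he2
    omega

theorem count : Nat.card {b : Subgroup.centralizer ({a} : Set T) //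
    (c.qs * (b : T)) * (c.qs * (b : T)) = 1} = 6 * kk c := by
  classical
  set C := Subgroup.centralizer ({a} : Set T) with hC
  have hV : ∀ v ∈ V c, v ∈ C := fun v hv => V_le_cent c ha (a_ne c hh ha ho) hv
  choose v1 hv1 v2 hv2 hne hiff using fun x : C =>
    fibre c hh ha ho hO (x := (x : T)) (Subgroup.mem_centralizer_singleton_iff.1 x.2)
  let X := {z : C × V c // c.qs * ((z.1 : T) * (z.2 : T)) * (c.qs * ((z.1 : T) * (z.2 : T))) = 1}
  let f : C × Bool → X := fun z => if z.2 then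
      ⟨(z.1, ⟨v1 z.1, hv1 z.1⟩), (hiff z.1 _ (hv1 z.1)).2 (Or.inl rfl)⟩
    else ⟨(z.1, ⟨v2 z.1, hv2 z.1⟩), (hiff z.1 _ (hv2 z.1)).2 (Or.inr rfl)⟩
  have hf : Function.Bijective f := by
    constructor
    · rintro ⟨x, i⟩ ⟨y, j⟩ e
      have e' := congrArg Subtype.val e
      cases i <;> cases j <;> simp [f, Prod.ext_iff] at e'
      · exact Prod.ext e'.1 rfl
      · obtain ⟨rfl, e''⟩ := e'
        exact absurd e'' (fun q => hne x q.symm)
      · obtain ⟨rfl, e''⟩ := e'
        exact absurd e'' (hne x)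
      · exact Prod.ext e'.1 rfl
    · rintro ⟨⟨x, v⟩, hv⟩
      rcases (hiff x v v.2).1 hv with e | e
      · exact ⟨(x, true), Subtype.ext (Prod.ext rfl (Subtype.ext e.symm))⟩
      · exact ⟨(x, false), Subtype.ext (Prod.ext rfl (Subtype.ext e.symm))⟩
  let g : X ≃ {b : C // (c.qs * (b : T)) * (c.qs * (b : T)) = 1} × V c :=
    { toFun := fun z => (⟨⟨(z.1.1 : T) * z.1.2, mul_mem z.1.1.2 (hV _ z.1.2.2)⟩, z.2⟩, z.1.2)
      invFun := fun w => ⟨(⟨(w.1.1 : T) * (w.2 : T)⁻¹, mul_mem w.1.1.2 (inv_mem (hV _ w.2.2))⟩, w.2),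
        by simpa using w.1.2⟩
      left_inv := fun z => Subtype.ext (Prod.ext (Subtype.ext (by simp)) rfl)
      right_inv := fun w => Prod.ext (Subtype.ext (Subtype.ext (by simp))) rfl }
  have h1 := Nat.card_congr ((Equiv.ofBijective f hf).trans g)
  rw [Nat.card_prod, Nat.card_prod, card_V, card_cent_a c hh ha ho hO,
    Nat.card_eq_fintype_card (α := Bool), Fintype.card_bool] at h1
  omega

open scoped Classical in
/-- The induced characters from the normaliser of `⟨a⟩`. -/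
theorem ell_data : ∃ θ θ' : N a → ℂ,
    (Cfsg.IsGeneralizedCharacter (N a) θ ∧ Vanish (D a) θ ∧
      Cfsg.classInner θ (fun _ => 1) = 1 ∧ Cfsg.classInner θ θ = 3) ∧
    (Cfsg.IsGeneralizedCharacter (N a) θ' ∧ Vanish (D a) θ' ∧
      Cfsg.classInner θ' (fun _ => 1) = 1 ∧ Cfsg.classInner θ' θ' = 3) ∧
    Cfsg.classInner θ θ' = 2 ∧ pairSum (N a) θ = 2 * (6 * (kk c : ℂ)) ^ 2 := by
  obtain ⟨lam, hsupp, hinv, x0, hx0⟩ := exists_lam c hh ha ho hO
  have hidx := index_K c hh ha ho hO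
  have hne : ∀ f : K a →* ℂˣ, ∀ j, 0 < j → j < 9 → f x0 = lam x0 ^ j → f ≠ 1 :=
    fun f j h0 h9 e q => hx0 j h0 h9 (by rw [← e, q]; rfl)
  have l1 : lam ≠ 1 := hne _ 1 (by norm_num) (by norm_num) (pow_one _).symm
  have l2 : lam * lam ≠ 1 := hne _ 2 (by norm_num) (by norm_num) (by simp [sq])
  have l4 : (lam * lam) * (lam * lam) ≠ 1 :=
    hne _ 4 (by norm_num) (by norm_num) (by simp [pow_succ, mul_assoc])
  have l3 : lam * (lam * lam) ≠ 1 :=
    hne _ 3 (by norm_num) (by norm_num) (by simp [pow_succ, mul_assoc])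
  have l12 : lam ≠ lam * lam := fun e => l1 (by
    ext x
    have := DFunLike.congr_fun e x
    rw [MonoidHom.mul_apply, left_eq_mul] at this
    simp [this])
  have hinv2 : ∀ g : N a, g ∉ K a → ∀ x y : K a, (y : N a) = g * x * g⁻¹ →
      (lam * lam) y = ((lam * lam) x)⁻¹ := fun g hg x y hy => by
    rw [MonoidHom.mul_apply, MonoidHom.mul_apply, hinv g hg x y hy, mul_inv]
  have hsupp2 : ∀ x : K a, (lam * lam) x ≠ 1 → ((x : N a) : T) ∈ D a := fun x hx =>
    hsupp x fun e => hx (by rw [MonoidHom.mul_apply, e, mul_one])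
  refine ⟨theta (K a) lam, theta (K a) (lam * lam),
    ⟨theta_gen hidx hinv, theta_vanish hsupp, theta_one_inner hidx l1, theta_norm hidx l2⟩,
    ⟨theta_gen hidx hinv2, theta_vanish hsupp2, theta_one_inner hidx l2, theta_norm hidx l4⟩,
    theta_inner hidx l1 l2 l12 l3, ?_⟩
  let g : N a := ⟨c.qs, qs_mem_N c hh ha ho hO⟩
  have hg : g ∉ K a := qs_not_C c hh ha ho hO
  have hBiff : ∀ b : K a, orderOf (g * (b : N a)) = 2 ↔
      c.qs * ((b : N a) : T) * (c.qs * ((b : N a) : T)) = 1 := by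
    intro b
    rw [← Subgroup.orderOf_coe]
    show orderOf (c.qs * ((b : N a) : T)) = 2 ↔ _
    refine ⟨fun e => by rw [← sq, ← e, pow_orderOf_eq_one], fun e => ?_⟩
    refine orderOf_eq_prime (by rw [sq, e]) fun e1 => qs_not_C c hh ha ho hO ?_
    have hbC : ((b : N a) : T) ∈ Subgroup.centralizer ({a} : Set T) := b.2
    rw [eq_inv_of_mul_eq_one_left e1]
    exact inv_mem hbC
  have hcard : (Finset.univ.filter fun b : K a => orderOf (g * (b : N a)) = 2).card = 6 * kk c := by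
    rw [← Fintype.card_subtype, ← Nat.card_eq_fintype_card, ← count c hh ha ho hO]
    exact Nat.card_congr (Equiv.subtypeEquiv (Subgroup.subgroupOfEquivOfLe (cent_le a)).toEquiv
      fun b => hBiff b)
  rw [CycSyl43SemiSLPairs32.pairSum_theta (K a) lam hidx hinv hg ?_ ?_, hcard]
  · push_cast
    rfl
  · intro x y hx hy
    have key : ∀ z : K a, orderOf (z : N a) = 2 → lam z = 1 := by
      intro z hz
      by_contra q
      rw [← Subgroup.orderOf_coe] at hz
      have h1 := orderOf_dvd_of_mem_zpowers (show a ∈ Subgroup.zpowers ((z : N a) : T) from hsupp z q)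
      rw [ho, hz] at h1
      norm_num at h1
    rw [map_mul, key x hx, key y hy, one_mul]
  · set B := Finset.univ.filter fun b : K a => orderOf (g * (b : N a)) = 2
    have hn : (K a).Normal := Subgroup.normal_of_index_eq_two hidx
    let d : K a := ⟨g⁻¹ * (x0 : N a)⁻¹ * g, by
      simpa using hn.conj_mem _ (inv_mem x0.2) g⁻¹⟩
    have hd : lam d = lam x0 := by
      have h1 := hinv g hg d x0⁻¹ (by simp [d, mul_assoc])
      rw [map_inv, inv_inj] at h1
      exact h1.symm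
    let φ : K a ≃ K a := (Equiv.mulLeft d).trans (Equiv.mulRight x0)
    have h1 : ∑ b ∈ B, (lam b : ℂ) = ∑ b ∈ B, (lam (φ b) : ℂ) := by
      refine (Finset.sum_equiv φ (fun b => ?_) fun b _ => rfl).symm
      simp only [B, Finset.mem_filter, Finset.mem_univ, true_and]
      have e : g * ((φ b : K a) : N a) = (x0 : N a)⁻¹ * (g * (b : N a)) * ((x0 : N a)⁻¹)⁻¹ := by
        simp [φ, d, mul_assoc]
      rw [e, orderOf_conj']
    have h2 : ∀ b : K a, (lam (φ b) : ℂ) = ((lam x0 ^ 2 : ℂˣ) : ℂ) * (lam b : ℂ) := fun b => by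
      show ((lam (d * b * x0) : ℂˣ) : ℂ) = _
      rw [map_mul, map_mul, hd]
      push_cast
      ring
    simp only [h2, ← Finset.mul_sum] at h1
    have h3 : (((lam x0 ^ 2 : ℂˣ) : ℂ) - 1) * ∑ b ∈ B, (lam b : ℂ) = 0 := by
      rw [sub_mul, one_mul, ← h1, sub_self]
    refine (mul_eq_zero.1 h3).resolve_left fun e => hx0 2 (by norm_num) (by norm_num) ?_
    exact Units.ext (by rw [sub_eq_zero] at e; simpa using e)

theorem disjoint {x : T} (hx : x ∈ D a) (g : T) : c.qs ∉ Subgroup.zpowers (g * x * g⁻¹) := by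
  intro hq
  obtain ⟨j, hj⟩ := Subgroup.mem_zpowers_iff.1 hq
  obtain ⟨i, hi⟩ := Subgroup.mem_zpowers_iff.1 (show a ∈ Subgroup.zpowers x from hx)
  set q := x ^ j with hqdef
  have he : g * q * g⁻¹ = c.qs := by rw [hqdef, ← conj_zpow, hj]
  have hqo : orderOf q = 4 := by
    rw [← orderOf_conj' g, he, Ctx.qs, orderOf_injective _ c.em_injective, QDFusion.order_I]
  have hqa : q * a = a * q := by
    rw [hqdef, ← hi, ← zpow_add, ← zpow_add, add_comm]
  obtain ⟨i', -, hiv⟩ := cy_form c hh ha ho hqa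
  have hcv : q ∈ CV c := mem_of_cube_mem (by rw [hqo]; norm_num) (cube_cv c hh ha ho hiv)
  obtain ⟨k, hk, v, hv, e⟩ := cv_elems c hh ha ho hO hcv
  have hc : Commute k v := (cv_cent_V c (Ku_le_CV c hk.1) hv)
  have hq2 : q ^ 2 = k ^ 2 := by rw [e, hc.mul_pow, sq v, V_sq c hv, mul_one]
  have hk4 : k ^ (2 ^ 2) = 1 := by
    rw [show (2 : ℕ) ^ 2 = 2 * 2 by norm_num, pow_mul, ← hq2, ← pow_mul,
      show 2 * 2 = orderOf q by rw [hqo], pow_orderOf_eq_one]
  have hk1 : k = 1 := CycSyl43DihedralNorm.eq_one_of_odd_of_two (kk_odd c).2.1 hk.2 hk4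
  rw [hk1, one_pow] at hq2
  have := orderOf_dvd_of_pow_eq_one hq2
  rw [hqo] at this
  norm_num at this

end Cfsg.Agent.CycSyl43SemiSLEll32
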