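import Cfsg.Agent.Lib.CycSyl43SemiSLTorus32
import Cfsg.Agent.Lib.CycSyl43SemiSLEll32

/-!
A minimal simple group has no `SL(2,p)` configuration with semidihedral Sylow 2-subgroup.
-/

set_option autoImplicit false

namespace Cfsg.Agent.CycSyl43SemiSL

open Cfsg.Agent.CycSyl43
open Cfsg.Agent.CycSyl43TI
open Cfsg.Agent.CycSyl43SemiSLBase32
open Cfsg.Agent.CycSyl43SemiSLFour32
open Cfsg.Agent.CycSyl43SLFacts32 (Kc Tc)
open Cfsg.Agent.CharBasic Cfsg.Agent.CharBasicDecomp Cfsg.Agent.CharInduced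

universe u

/-- The two relations for the shared character have no solution. -/
theorem arith {p k : ℕ} (hp : p.Prime) (h5 : 5 ≤ p) (hk : Kc p = 2 * k) {X : ℤ}
    (h : 6 * (k : ℤ) * (X + 1) = (Tc p : ℤ) * (X - 1)) : False := by
  have hodd : p % 2 = 1 := hp.mod_two_eq_one_iff_ne_two.2 (by omega)
  rw [Kc] at hk
  rw [Tc] at h
  split_ifs at hk h with h4
  · push_cast [Nat.cast_sub (show 1 ≤ p by omega)] at h
    have h2 : (2 * k : ℤ) = p + 1 := by exact_mod_cast hk.symm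
    have h1 : ((p : ℤ) + 2) * (X + 2) = 3 := by
      have : 3 * ((p : ℤ) + 1) * (X + 1) = ((p : ℤ) - 1) * (X - 1) := by
        rw [← h2]; linear_combination h
      have h2' : 2 * (((p : ℤ) + 2) * (X + 2) - 3) = 0 := by linear_combination this
      linarith
    rcases lt_trichotomy (X + 2) 0 with hX | hX | hX
    · nlinarith
    · rw [hX, mul_zero] at h1; norm_num at h1
    · nlinarith
  · push_cast at h
    have h2 : (2 * k : ℤ) = p - 1 := by
      have : (2 * k + 1 : ℤ) = p := by exact_mod_cast (show 2 * k + 1 = p by omega)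
      linarith
    have h7 : (7 : ℤ) ≤ p := by exact_mod_cast (show 7 ≤ p by omega)
    have h1 : ((p : ℤ) - 2) * (X + 2) = -3 := by
      have : 3 * ((p : ℤ) - 1) * (X + 1) = ((p : ℤ) + 1) * (X - 1) := by
        rw [← h2]; linear_combination h
      have h2' : 2 * (((p : ℤ) - 2) * (X + 2) + 3) = 0 := by linear_combination this
      linarith
    rcases lt_trichotomy (X + 2) 0 with hX | hX | hX
    · nlinarith
    · rw [hX, mul_zero] at h1; norm_num at h1
    · nlinarith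

/-- **The `SL(2,p)` configuration is impossible.** -/
theorem semiSL_false : SemiSLFalse.{u} := by
  intro hA T _ _ hmin S t O L p hs
  classical
  have : Fact p.Prime := ⟨hs.prime⟩
  have := Fintype.ofFinite T
  obtain ⟨c⟩ := exists_ctx hs hmin.hodd
  obtain ⟨h, hh⟩ := exists_cyc c
  obtain ⟨a, ha, ho⟩ := CycSyl43SemiSLCen32.exists_Kp c Nat.prime_three
    (CycSyl43SemiSLCen32.three_dvd_kk c hh)
  have hO : O = ⊥ := CycSyl43SemiSLQuot32.O_bot c hh ha ho hA hmin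
  obtain ⟨θ₁, θ₂, ⟨g1, v1, o1, n1⟩, ⟨g2, v2, o2, n2⟩, h12, hp1⟩ :=
    CycSyl43SemiSLEll32.ell_data c hh ha ho hO
  obtain ⟨θ', g', v', o', n', hp'⟩ := CycSyl43SemiSLTorus32.torus_data c hO
  have hd := CycSyl43SemiSLEll32.tiData c hh ha ho hO
  have hd' := CycSyl43SemiSLTorus32.tiData c hO
  obtain ⟨P1, Q1, e1, f1, d1⟩ := decomp3 hd g1 v1 o1 n1
  obtain ⟨P2, Q2, e2, f2, d2⟩ := decomp3 hd g2 v2 o2 n2
  obtain ⟨P3, Q3, e3, f3, d3⟩ := decomp3 hd' g' v' o' n'
  obtain ⟨R, A, B, s, α, β, D1, D2, hAB⟩ := pair_family d1 d2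
    (by rw [inner_eq hd (isClassFunction_of_isGeneralizedCharacter g2) v1 v2]; exact h12)
  have hdis : ∀ x ∈ CycSyl43SemiSLEll32.D a, ∀ g : T,
      g * x * g⁻¹ ∉ CycSyl43SemiSLTorus32.D c :=
    fun x hx g => CycSyl43SemiSLEll32.disjoint c hh ha ho hO hx g
  obtain ⟨W, w, D3⟩ := family_shared D1 D2 hAB d3 (inner_disjoint v1 v' hdis)
    (inner_disjoint v2 v' hdis) (ind_apply_one hd v1) (ind_apply_one hd v2) (ind_apply_one hd' v')
  have hz : ∀ (x : T), x⁻¹ * t * x ∉ CycSyl43SemiSLEll32.D a := fun x hx => by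
    have h1 := orderOf_dvd_of_mem_zpowers (show a ∈ Subgroup.zpowers (x⁻¹ * t * x) from hx)
    have h2 : orderOf (x⁻¹ * t * x) = 2 := by
      have := orderOf_conj' x⁻¹ t
      rw [inv_inv] at this
      rw [this, hs.ot]
    rw [h2, ho] at h1
    norm_num at h1
  have hz' : ∀ (x : T), x⁻¹ * t * x ∉ CycSyl43SemiSLTorus32.D c := fun x hx => by
    have h1 := orderOf_dvd_of_mem_zpowers (show c.qs ∈ Subgroup.zpowers (x⁻¹ * t * x) from hx)
    have h2 : orderOf (x⁻¹ * t * x) = 2 := by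
      have := orderOf_conj' x⁻¹ t
      rw [inv_inv] at this
      rw [this, hs.ot]
    rw [h2, CycSyl43SemiSLTorus32.qs_order c hO] at h1
    norm_num at h1
  have E1 := pair_relation hd hs.fusion hs.ot v1 D1 (ind_eq_zero v1 hz)
  have E2 := pair_relation hd' hs.fusion hs.ot v' D3 (ind_eq_zero v' hz')
  rw [hp1, CycSyl43SemiSLEll32.card_N c hh ha ho hO] at E1
  rw [hp', CycSyl43SemiSLTorus32.card_H c hO] at E2
  obtain ⟨m, -, hm⟩ := isIrrCharacter_apply_one R.2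
  have hm0 : ((m : ℂ)) ≠ 0 := hm ▸ isIrrCharacter_apply_one_ne_zero R.2
  rw [hm] at E1 E2
  obtain ⟨hK, -, hk3⟩ := kk_odd c
  have hT0 : (Tc p : ℂ) ≠ 0 := by
    rw [← (A0_data c).2]
    exact Nat.cast_ne_zero.2 Nat.card_pos.ne'
  have hC : (Nat.card (Subgroup.centralizer ({t} : Set T)) : ℂ) ≠ 0 :=
    Nat.cast_ne_zero.2 Nat.card_pos.ne'
  have hk0 : (kk c : ℂ) ≠ 0 := Nat.cast_ne_zero.2 (by omega)
  have hs0 : (s : ℂ) ≠ 0 := by
    rcases D1.he with e | e <;> rw [e] <;> norm_num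
  generalize (Nat.card (Subgroup.centralizer ({t} : Set T)) : ℂ) = C at E1 E2 hC
  generalize (R : T → ℂ) t = r at E1 E2
  push_cast at E1 E2
  have key : 6 * (kk c : ℂ) * ((s : ℂ) * m + 1) = (Tc p : ℂ) * ((s : ℂ) * m - 1) := by
    have h0 : (24 * (kk c : ℂ)) * (4 * (Tc p : ℂ)) * C ^ 2 * ((s : ℂ) * m) *
        (6 * (kk c : ℂ) * ((s : ℂ) * m + 1) - (Tc p : ℂ) * ((s : ℂ) * m - 1)) = 0 := by
      linear_combination (-8 * (Tc p : ℂ)) * E1 + (48 * (kk c : ℂ)) * E2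
    simp only [mul_eq_zero, pow_eq_zero_iff two_ne_zero, hk0, hT0, hC, hm0, hs0, sub_eq_zero,
      OfNat.ofNat_ne_zero, false_or] at h0
    exact h0
  refine arith hs.prime hs.five hK (X := s * m) ?_
  exact_mod_cast key

end Cfsg.Agent.CycSyl43SemiSL
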