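import Mathlib

/-!
Small arithmetic and group lemmas shared by the quasi-dihedral and wreathed files.
-/

set_option autoImplicit false

namespace Cfsg.Agent.QDWreathBase

theorem two_mul_eq_zero {m M : ℕ} (hM : M = 2 * m) [NeZero M] {j : ZMod M} (h : 2 * j = 0) :
    j = 0 ∨ j = (m : ZMod M) := by
  rw [← ZMod.natCast_zmod_val j, show (2 : ZMod M) = ((2 : ℕ) : ZMod M) by norm_num, ← Nat.cast_mul,
    ZMod.natCast_eq_zero_iff] at h
  have hlt := ZMod.val_lt j
  obtain ⟨c, hc⟩ := h
  have hm : 0 < m := by have := NeZero.pos M; omega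
  rcases Nat.lt_or_ge c 2 with h2 | h2
  · interval_cases c
    · left
      rw [← ZMod.natCast_zmod_val j, show j.val = 0 by omega, Nat.cast_zero]
    · right
      rw [← ZMod.natCast_zmod_val j, show j.val = m by omega]
  · have : M * 2 ≤ M * c := Nat.mul_le_mul_left M h2
    omega

theorem even_or_odd {M : ℕ} [NeZero M] (j : ZMod M) : ∃ t : ZMod M, j = 2 * t ∨ j = 2 * t + 1 := by
  refine ⟨((j.val / 2 : ℕ) : ZMod M), ?_⟩
  rcases Nat.mod_two_eq_zero_or_one j.val with h | h
  · left
    conv_lhs => rw [← ZMod.natCast_zmod_val j, ← Nat.div_add_mod j.val 2, h]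
    push_cast; ring
  · right
    conv_lhs => rw [← ZMod.natCast_zmod_val j, ← Nat.div_add_mod j.val 2, h]
    push_cast; ring

theorem two_mul_ne_one {M : ℕ} (hM : 2 ∣ M) (t : ZMod M) : 2 * t ≠ 1 := by
  intro h
  have h1 := congrArg (ZMod.castHom hM (ZMod 2)) h
  rw [map_mul, map_one] at h1
  have : (ZMod.castHom hM (ZMod 2)) 2 = 0 := by rw [map_ofNat]; rfl
  rw [this, zero_mul] at h1
  exact zero_ne_one h1

theorem pow_val_add {S : Type*} [Group S] {M : ℕ} [NeZero M] {x : S} (hx : x ^ M = 1)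
    (a b : ZMod M) : x ^ (a + b).val = x ^ a.val * x ^ b.val := by
  rw [← pow_add, ZMod.val_add, ← pow_eq_pow_mod _ hx]

theorem pow_natCast {S : Type*} [Group S] {M : ℕ} [NeZero M] {x : S} (hx : x ^ M = 1)
    (a : ℕ) : x ^ ((a : ZMod M)).val = x ^ a := by
  rw [ZMod.val_natCast, ← pow_eq_pow_mod _ hx]

/-- A subgroup with two elements that is central: cardinality two. -/
theorem card_eq_two_of_mem {S : Type*} [Group S] {H : Subgroup S} {c : S} (hc : c ≠ 1)
    (h : ∀ s, s ∈ H ↔ s = 1 ∨ s = c) : Nat.card H = 2 := by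
  have he : (H : Set S) = {1, c} := by ext s; simp [h s]
  rw [← SetLike.coe_sort_coe, Nat.card_coe_set_eq, he, Set.ncard_pair hc.symm]

/-- Counting conjugacy classes from a list of representatives. -/
theorem card_classes_eq {S : Type*} [Group S] {P : S → Prop} (l : List S) (hP : ∀ a ∈ l, P a)
    (hsurj : ∀ t, P t → ∃ a ∈ l, IsConj a t) (hnd : l.Pairwise fun a b => ¬ IsConj a b) :
    Nat.card {C : ConjClasses S // ∃ t : S, P t ∧ ConjClasses.mk t = C} = l.length := by
  classical
  have he : {C : ConjClasses S | ∃ t : S, P t ∧ ConjClasses.mk t = C}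
      = ((l.map ConjClasses.mk).toFinset : Set (ConjClasses S)) := by
    ext C
    simp only [Set.mem_ofPred_eq, List.coe_toFinset, List.mem_map]
    constructor
    · rintro ⟨t, ht, rfl⟩
      obtain ⟨a, ha, hc⟩ := hsurj t ht
      exact ⟨a, ha, ConjClasses.mk_eq_mk_iff_isConj.2 hc⟩
    · rintro ⟨a, ha, rfl⟩
      exact ⟨a, hP a ha, rfl⟩
  show Nat.card ↥{C : ConjClasses S | ∃ t : S, P t ∧ ConjClasses.mk t = C} = _
  rw [Nat.card_coe_set_eq, he, Set.ncard_coe_finset, List.toFinset_card_of_nodup, List.length_map]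
  exact List.pairwise_map.2 (hnd.imp fun h e => h (ConjClasses.mk_eq_mk_iff_isConj.1 e))

end Cfsg.Agent.QDWreathBase
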