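import Mathlib
import Cfsg.Prelude.Def_CaseTheorems
import Cfsg.Agent.Lib.QDWreathBase

/-!
Concrete model `QD l` of the quasi-dihedral group of order `16 l` (`l` a power of two), and the
isomorphism with any group satisfying `Cfsg.IsQuasiDihedral`.
-/

set_option autoImplicit false

namespace Cfsg.Agent.QDWreathQD

open Cfsg.Agent.QDWreathBase

/-- `⟨i, e⟩` stands for `x ^ i * y ^ e`. -/
@[ext] structure QD (l : ℕ) : Type where
  i : ZMod (8 * l)
  e : Bool

variable {l : ℕ}

/-- The twisting exponent. -/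
def k (l : ℕ) : ZMod (8 * l) := 4 * (l : ZMod (8 * l)) - 1

theorem eight_l : (8 : ZMod (8 * l)) * (l : ZMod (8 * l)) = 0 := by
  have h : ((8 * l : ℕ) : ZMod (8 * l)) = 0 := ZMod.natCast_self _
  push_cast at h
  exact h

theorem k_mul_k : k l * k l = 1 := by
  unfold k
  linear_combination (2 * (l : ZMod (8 * l)) - 1) * eight_l (l := l)

instance qdMul : Mul (QD l) :=
  ⟨fun a b => ⟨a.i + (if a.e then k l * b.i else b.i), xor a.e b.e⟩⟩

instance qdOne : One (QD l) := ⟨⟨0, false⟩⟩

instance qdInv : Inv (QD l) := ⟨fun a => ⟨if a.e then -(k l * a.i) else -a.i, a.e⟩⟩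

theorem mul_def (a b : QD l) :
    a * b = ⟨a.i + (if a.e then k l * b.i else b.i), xor a.e b.e⟩ := rfl

theorem one_def : (1 : QD l) = ⟨0, false⟩ := rfl

theorem inv_def (a : QD l) : a⁻¹ = ⟨if a.e then -(k l * a.i) else -a.i, a.e⟩ := rfl

instance qdGroup : Group (QD l) where
  mul_assoc a b c := by
    obtain ⟨i, e⟩ := a; obtain ⟨j, f⟩ := b; obtain ⟨m, g⟩ := c
    cases e <;> cases f <;> cases g <;> simp only [mul_def] <;> ext <;> simp <;>
      first
        | linear_combination (m * k_mul_k (l := l))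
        | linear_combination -(m * k_mul_k (l := l))
        | ring
  one_mul a := by simp [mul_def, one_def]
  mul_one a := by obtain ⟨i, e⟩ := a; cases e <;> simp [mul_def, one_def]
  inv_mul_cancel a := by
    obtain ⟨i, e⟩ := a; cases e <;> simp [mul_def, one_def, inv_def]

@[simp] theorem mk_mul_false (i j : ZMod (8 * l)) (f : Bool) :
    (⟨i, false⟩ : QD l) * ⟨j, f⟩ = ⟨i + j, f⟩ := by simp [mul_def]

@[simp] theorem mk_mul_true (i j : ZMod (8 * l)) (f : Bool) :
    (⟨i, true⟩ : QD l) * ⟨j, f⟩ = ⟨i + k l * j, !f⟩ := by simp [mul_def]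

@[simp] theorem mk_inv_false (i : ZMod (8 * l)) : (⟨i, false⟩ : QD l)⁻¹ = ⟨-i, false⟩ := by
  simp [inv_def]

@[simp] theorem mk_inv_true (i : ZMod (8 * l)) : (⟨i, true⟩ : QD l)⁻¹ = ⟨-(k l * i), true⟩ := by
  simp [inv_def]

/-- The equivalence with a product. -/
def equivProd : QD l ≃ ZMod (8 * l) × Bool where
  toFun a := (a.i, a.e)
  invFun a := ⟨a.1, a.2⟩

instance qdFinite [NeZero l] : Finite (QD l) := Finite.of_equiv _ equivProd.symm

theorem card_eq : Nat.card (QD l) = 16 * l := by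
  rw [Nat.card_congr equivProd, Nat.card_prod, Nat.card_zmod, Nat.card_eq_two_iff.2 ⟨true, false, by simp, by
    ext b; cases b <;> simp⟩]
  ring

theorem pow_false (i : ZMod (8 * l)) (m : ℕ) : (⟨i, false⟩ : QD l) ^ m = ⟨(m : ZMod (8 * l)) * i, false⟩ := by
  induction m with
  | zero => simp [one_def]
  | succ m ih => rw [pow_succ, ih, mk_mul_false]; congr 1; push_cast; ring

/-- The generator `x`. -/
def X (l : ℕ) : QD l := ⟨1, false⟩
/-- The generator `y`. -/
def Y (l : ℕ) : QD l := ⟨0, true⟩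
/-- The central involution. -/
def C (l : ℕ) : QD l := ⟨4 * (l : ZMod (8 * l)), false⟩

theorem conj_false (j i : ZMod (8 * l)) :
    (⟨j, false⟩ : QD l) * ⟨i, true⟩ * (⟨j, false⟩ : QD l)⁻¹
      = ⟨i + (2 - 4 * (l : ZMod (8 * l))) * j, true⟩ := by
  simp only [mk_inv_false, mk_mul_false, mk_mul_true, Bool.not_false]
  congr 1
  unfold k; ring

theorem unit_eq : (2 - 4 * (l : ZMod (8 * l))) * (1 - 2 * (l : ZMod (8 * l))) = 2 := by
  linear_combination ((l : ZMod (8 * l)) - 1) * eight_l (l := l)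

theorem conj_even (t i : ZMod (8 * l)) :
    (⟨(1 - 2 * (l : ZMod (8 * l))) * t, false⟩ : QD l) * ⟨i, true⟩ *
      (⟨(1 - 2 * (l : ZMod (8 * l))) * t, false⟩ : QD l)⁻¹ = ⟨i + 2 * t, true⟩ := by
  rw [conj_false]
  congr 1
  linear_combination t * unit_eq (l := l)

theorem two_mul_of_mul {j : ZMod (8 * l)} (h : (2 - 4 * (l : ZMod (8 * l))) * j = 0) : 2 * j = 0 := by
  linear_combination (1 - 2 * (l : ZMod (8 * l))) * h - j * unit_eq (l := l)

set_option linter.unusedSectionVars false

variable [NeZero l]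

theorem two_mul_zero {j : ZMod (8 * l)} (h : 2 * j = 0) :
    j = 0 ∨ j = 4 * (l : ZMod (8 * l)) := by
  rcases two_mul_eq_zero (m := 4 * l) (by ring) h with h | h
  · exact Or.inl h
  · right; rw [h]; push_cast; ring

theorem four_mul_zero {j : ZMod (8 * l)} (h : 4 * j = 0) :
    ∃ t, j = 2 * (l : ZMod (8 * l)) * t := by
  have h1 : 2 * (2 * j) = 0 := by linear_combination h
  rcases two_mul_zero h1 with h2 | h2
  · rcases two_mul_zero h2 with h3 | h3
    · exact ⟨0, by rw [h3]; ring⟩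
    · exact ⟨2, by rw [h3]; ring⟩
  · have h4 : 2 * (j - 2 * (l : ZMod (8 * l))) = 0 := by linear_combination h2
    rcases two_mul_zero h4 with h3 | h3
    · exact ⟨1, by linear_combination h3⟩
    · exact ⟨3, by linear_combination h3⟩

theorem four_l_mul (t : ZMod (8 * l)) :
    4 * (l : ZMod (8 * l)) * t = 0 ∨ 4 * (l : ZMod (8 * l)) * t = 4 * (l : ZMod (8 * l)) := by
  obtain ⟨u, rfl | rfl⟩ := even_or_odd t
  · left; linear_combination u * eight_l (l := l)
  · right; linear_combination u * eight_l (l := l)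

theorem four_l_ne : 4 * (l : ZMod (8 * l)) ≠ 0 := by
  intro h
  have h1 : ((4 * l : ℕ) : ZMod (8 * l)) = 0 := by push_cast; exact h
  rw [ZMod.natCast_eq_zero_iff] at h1
  have := Nat.le_of_dvd (by have := NeZero.pos l; omega) h1
  have := NeZero.pos l
  omega

theorem C_ne_one : C l ≠ 1 := fun h => four_l_ne (congrArg QD.i h)

theorem C_sq : C l ^ 2 = 1 := by
  rw [C, pow_false, one_def]
  congr 1
  push_cast
  linear_combination eight_l (l := l)

theorem C_central (a : QD l) : a * C l = C l * a := by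
  obtain ⟨i, e⟩ := a
  cases e
  · simp [C, add_comm]
  · simp only [C, mk_mul_true, mk_mul_false, Bool.not_false]
    congr 1
    unfold k
    linear_combination (2 * (l : ZMod (8 * l)) - 1) * eight_l (l := l)

theorem sq_true (i : ZMod (8 * l)) :
    (⟨i, true⟩ : QD l) ^ 2 = ⟨4 * (l : ZMod (8 * l)) * i, false⟩ := by
  rw [sq, mk_mul_true, Bool.not_true]
  congr 1
  unfold k; ring

theorem sq_true_even (t : ZMod (8 * l)) : (⟨2 * t, true⟩ : QD l) ^ 2 = 1 := by
  rw [sq_true, one_def]
  congr 1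
  linear_combination t * eight_l (l := l)

theorem sq_true_odd (t : ZMod (8 * l)) : (⟨2 * t + 1, true⟩ : QD l) ^ 2 = C l := by
  rw [sq_true, C]
  congr 1
  linear_combination t * eight_l (l := l)

theorem sq_one_iff {a : QD l} : a ^ 2 = 1 ↔ a = 1 ∨ a = C l ∨ ∃ t, a = ⟨2 * t, true⟩ := by
  constructor
  · intro h
    obtain ⟨i, _ | _⟩ := a
    · rw [pow_false, one_def, QD.ext_iff] at h
      rcases two_mul_zero (l := l) (by push_cast at h; exact h.1) with rfl | rfl
      · exact Or.inl rfl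
      · exact Or.inr (Or.inl rfl)
    · obtain ⟨t, rfl | rfl⟩ := even_or_odd i
      · exact Or.inr (Or.inr ⟨t, rfl⟩)
      · rw [sq_true_odd] at h
        exact absurd h C_ne_one
  · rintro (rfl | rfl | ⟨t, rfl⟩)
    · exact one_pow 2
    · exact C_sq
    · exact sq_true_even t

/-- Elements commuting with an element outside `⟨x⟩`. -/
theorem commute_true_iff {i : ZMod (8 * l)} {a : QD l} :
    a * ⟨i, true⟩ = (⟨i, true⟩ : QD l) * a ↔
      a = 1 ∨ a = C l ∨ a = ⟨i, true⟩ ∨ a = C l * ⟨i, true⟩ := by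
  constructor
  · intro h
    obtain ⟨j, _ | _⟩ := a
    · simp only [mk_mul_false, mk_mul_true, Bool.not_false, QD.ext_iff, and_true] at h
      have h1 : (2 - 4 * (l : ZMod (8 * l))) * j = 0 := by unfold k at h; linear_combination h
      rcases two_mul_zero (two_mul_of_mul h1) with rfl | rfl
      · exact Or.inl rfl
      · exact Or.inr (Or.inl rfl)
    · simp only [mk_mul_true, Bool.not_true, QD.ext_iff, and_true] at h
      have h1 : (2 - 4 * (l : ZMod (8 * l))) * (j - i) = 0 := by unfold k at h; linear_combination h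
      rcases two_mul_zero (two_mul_of_mul h1) with h2 | h2
      · rw [sub_eq_zero] at h2; subst h2; exact Or.inr (Or.inr (Or.inl rfl))
      · refine Or.inr (Or.inr (Or.inr ?_))
        rw [C, mk_mul_false]; congr 1; linear_combination h2
  · rintro (rfl | rfl | rfl | rfl)
    · simp
    · exact (C_central _).symm
    · rfl
    · rw [mul_assoc, ← mul_assoc (⟨i, true⟩ : QD l) (C l), C_central, mul_assoc]

/-- Every quasi-dihedral group is isomorphic to a model. -/
theorem exists_equiv {S : Type*} [Group S] [Finite S] (hS : Cfsg.IsQuasiDihedral S) :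
    ∃ n : ℕ, 3 ≤ n ∧ Nat.card S = 2 ^ (n + 1) ∧
      ∃ (l : ℕ) (_ : NeZero l), l = 2 ^ (n - 3) ∧ Nonempty (QD l ≃* S) := by
  obtain ⟨n, hn, hcard, x, y, hx, hy, hrel⟩ := hS
  refine ⟨n, hn, hcard, 2 ^ (n - 3), ⟨by positivity⟩, rfl, ?_⟩
  have : NeZero (2 ^ (n - 3)) := ⟨by positivity⟩
  set l := 2 ^ (n - 3) with hl
  obtain ⟨m, rfl⟩ : ∃ m, n = m + 3 := ⟨n - 3, by omega⟩
  have hl' : l = 2 ^ m := by simp [hl]
  have hl1 : 0 < l := NeZero.pos l
  have hM : 2 ^ (m + 3) = 8 * l := by rw [hl', pow_add]; ring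
  have hexp : 2 ^ (m + 3 - 1) - 1 = 4 * l - 1 := by
    rw [hl', show m + 3 - 1 = m + 2 by omega, pow_add, mul_comm]; norm_num
  rw [hexp] at hrel
  rw [hM] at hx
  have hxM : x ^ (8 * l) = 1 := hx ▸ pow_orderOf_eq_one x
  have hy2 : y * y = 1 := by rw [← sq, ← hy, pow_orderOf_eq_one]
  have hyinv : y⁻¹ = y := inv_eq_of_mul_eq_one_left hy2
  have hkcast : ((4 * l - 1 : ℕ) : ZMod (8 * l)) = k l := by
    rw [k, Nat.cast_sub (by omega)]; push_cast; rfl
  have hrel' : ∀ a : ZMod (8 * l), y * x ^ a.val = x ^ (k l * a).val * y := by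
    intro a
    have h1 : (y * x * y⁻¹) ^ a.val = x ^ ((4 * l - 1) * a.val) := by rw [hrel, ← pow_mul]
    rw [conj_pow, ← pow_natCast hxM ((4 * l - 1) * a.val), Nat.cast_mul, hkcast,
      ZMod.natCast_zmod_val] at h1
    rw [← h1, inv_mul_cancel_right]
  let f : QD l → S := fun a => x ^ a.i.val * (if a.e then y else 1)
  have hf : ∀ a b, f (a * b) = f a * f b := by
    rintro ⟨i, _ | _⟩ ⟨j, g⟩
    · simp [f, pow_val_add hxM, mul_assoc]
    · simp only [f, mk_mul_true, pow_val_add hxM]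
      cases g
      · simp only [Bool.not_false, if_true, Bool.false_eq_true, if_false, mul_one, mul_assoc]
        rw [← hrel' j]
      · simp only [Bool.not_true, Bool.false_eq_true, if_false, if_true, mul_one]
        rw [mul_assoc (x ^ i.val) y, ← mul_assoc y, hrel' j, mul_assoc _ y y, hy2, mul_one]
  let φ : QD l →* S := MonoidHom.mk' f hf
  have hynot : ∀ i : ℕ, x ^ i * y ≠ 1 := by
    intro i hi
    have h1 : y = (x ^ i)⁻¹ := eq_inv_of_mul_eq_one_right hi
    have h2 : Commute x y := by rw [h1]; exact ((Commute.refl x).pow_right i).inv_right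
    rw [← h2.eq, mul_inv_cancel_right] at hrel
    have h3 : x ^ (4 * l - 2) = 1 := by
      have h4 : x ^ (4 * l - 1) = x ^ 1 := by rw [pow_one]; exact hrel.symm
      rw [show 4 * l - 1 = (4 * l - 2) + 1 by omega, pow_add] at h4
      exact mul_eq_right.1 h4
    have := orderOf_dvd_of_pow_eq_one h3
    rw [hx] at this
    have := Nat.le_of_dvd (by omega) this
    omega
  have hinj : Function.Injective φ := by
    rw [injective_iff_map_eq_one]
    rintro ⟨i, _ | _⟩ h
    · have h' : x ^ i.val = 1 := by simpa [φ, f] using h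
      have h2 := orderOf_dvd_of_pow_eq_one h'
      rw [hx] at h2
      have := Nat.eq_zero_of_dvd_of_lt h2 (ZMod.val_lt i)
      rw [one_def]; congr 1
      exact (ZMod.val_eq_zero i).1 this
    · exact absurd (by simpa [φ, f] using h) (hynot i.val)
  refine ⟨MulEquiv.ofBijective φ ((Nat.bijective_iff_injective_and_card φ).2 ⟨hinj, ?_⟩)⟩
  rw [card_eq, hcard, hl', pow_add]
  ring

end Cfsg.Agent.QDWreathQD
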