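import Mathlib
import Cfsg.Agent.Lib.QDWreathQD

/-!
Subgroups of the quasi-dihedral model `QD l`: the three maximal subgroups and their intersection.
-/

set_option autoImplicit false
set_option linter.unusedSectionVars false

namespace Cfsg.Agent.QDWreathQDSub

open Cfsg.Agent.QDWreathBase Cfsg.Agent.QDWreathQD
open scoped commutatorElement

variable {l : ℕ} [NeZero l]

/-- A coatom of a finite 2-group has index two. -/
theorem index_eq_two_of_isCoatom {S : Type*} [Group S] [Finite S] {N : ℕ} (hS : Nat.card S = 2 ^ N)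
    {M : Subgroup S} (hM : IsCoatom M) : M.index = 2 := by
  obtain ⟨a, ha, hMc⟩ := (Nat.dvd_prime_pow Nat.prime_two).1 (hS ▸ M.card_subgroup_dvd_card)
  have hlt : a < N := by
    refine lt_of_le_of_ne ha fun h => hM.1 ?_
    exact Subgroup.eq_top_of_card_eq M (by rw [hMc, hS, h])
  have : Fact (Nat.Prime 2) := ⟨Nat.prime_two⟩
  obtain ⟨K, hKc, hMK⟩ := Sylow.exists_subgroup_card_pow_succ (p := 2)
    (by rw [hS]; exact pow_dvd_pow 2 hlt) hMc
  have hKtop : K = ⊤ := by
    refine hM.2 K (lt_of_le_of_ne hMK fun h => ?_)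
    rw [h, hKc] at hMc
    exact absurd hMc (ne_of_gt (Nat.pow_lt_pow_right (by norm_num) (by omega)))
  rw [hKtop, Subgroup.card_top] at hKc
  have h := M.card_mul_index
  rw [hMc, hKc, pow_succ] at h
  exact Nat.eq_of_mul_eq_mul_left (by positivity) h

theorem isCoatom_of_index_two {S : Type*} [Group S] {M : Subgroup S} (h : M.index = 2) : IsCoatom M := by
  refine ⟨fun ht => by rw [ht, Subgroup.index_top] at h; omega, fun K hK => ?_⟩
  obtain ⟨a, haK, haM⟩ := SetLike.exists_of_lt hK
  rw [eq_top_iff]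
  intro b _
  by_cases hb : b ∈ M
  · exact hK.le hb
  · have h1 : b * a ∈ M := (Subgroup.mul_mem_iff_of_index_two h).2 (iff_of_false hb haM)
    simpa using mul_mem (hK.le h1) (inv_mem haK)

theorem index_two_of_prop {S : Type*} [Group S] (M : Subgroup S) (a : S) (P : S → Prop)
    (hM : ∀ b, b ∈ M ↔ P b) (h : ∀ b, P (b * a) ↔ ¬ P b) : M.index = 2 := by
  refine Subgroup.index_eq_two_iff.2 ⟨a, fun b => ?_⟩
  rw [hM, hM, h b]
  by_cases hp : P b <;> simp [hp]

/-- Parity. -/
noncomputable def par (j : ZMod (8 * l)) : ZMod 2 :=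
  ZMod.castHom (show 2 ∣ 8 * l from Dvd.intro (4 * l) (by ring)) (ZMod 2) j

theorem par_add (i j : ZMod (8 * l)) : par (i + j) = par i + par j := map_add _ i j
theorem par_mul (i j : ZMod (8 * l)) : par (i * j) = par i * par j := map_mul _ i j
theorem par_one : par (1 : ZMod (8 * l)) = 1 := map_one _
theorem par_zero : par (0 : ZMod (8 * l)) = 0 := map_zero _
theorem par_neg (i : ZMod (8 * l)) : par (-i) = par i := by
  show ZMod.castHom _ (ZMod 2) (-i) = _
  rw [map_neg, ZMod.neg_eq_self_mod_two]; rfl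
theorem par_two : par (2 : ZMod (8 * l)) = 0 := by
  show ZMod.castHom _ (ZMod 2) 2 = _
  rw [map_ofNat]; rfl
theorem par_even (t : ZMod (8 * l)) : par (2 * t) = 0 := by rw [par_mul, par_two, zero_mul]
theorem par_odd (t : ZMod (8 * l)) : par (2 * t + 1) = 1 := by rw [par_add, par_even, par_one, zero_add]
theorem par_k : par (k l) = 1 := by
  have : k l = 2 * (2 * (l : ZMod (8 * l)) - 1) + 1 := by unfold k; ring
  rw [this, par_odd]

theorem par_zero_iff {j : ZMod (8 * l)} : par j = 0 ↔ ∃ t, j = 2 * t := by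
  constructor
  · intro h
    obtain ⟨t, rfl | rfl⟩ := even_or_odd j
    · exact ⟨t, rfl⟩
    · rw [par_odd] at h; exact absurd h one_ne_zero
  · rintro ⟨t, rfl⟩; exact par_even t

/-- The parity of the rotation exponent, as a hom. -/
theorem par_mul_i (a b : QD l) : par (a * b).i = par a.i + par b.i := by
  obtain ⟨i, _ | _⟩ := a <;> obtain ⟨j, f⟩ := b
  · simp [par_add]
  · simp [par_add, par_mul, par_k]

theorem par_inv_i (a : QD l) : par a⁻¹.i = par a.i := by
  obtain ⟨i, _ | _⟩ := a <;> simp [par_neg, par_mul, par_k]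

/-- The reflection flag, in `ZMod 2`. -/
def flag (a : QD l) : ZMod 2 := if a.e then 1 else 0

theorem flag_mul (a b : QD l) : flag (a * b) = flag a + flag b := by
  obtain ⟨i, _ | _⟩ := a <;> obtain ⟨j, _ | _⟩ := b <;> simp [flag] <;> decide

theorem flag_inv (a : QD l) : flag a⁻¹ = flag a := by
  obtain ⟨i, _ | _⟩ := a <;> simp [flag]

/-- Kernel of the linear form `u * par + v * flag`. -/
noncomputable def maxSub (l : ℕ) [NeZero l] (u v : ZMod 2) : Subgroup (QD l) where
  carrier := {a | u * par a.i + v * flag a = 0}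
  one_mem' := by simp [one_def, par_zero, flag]
  mul_mem' {a b} ha hb := by
    simp only [Set.mem_ofPred_eq] at *
    rw [par_mul_i, flag_mul]
    linear_combination ha + hb
  inv_mem' {a} ha := by
    simp only [Set.mem_ofPred_eq] at *
    rwa [par_inv_i, flag_inv]

theorem mem_maxSub {u v : ZMod 2} {a : QD l} : a ∈ maxSub l u v ↔ u * par a.i + v * flag a = 0 :=
  Iff.rfl

/-- The cyclic maximal subgroup. -/
noncomputable def MC (l : ℕ) [NeZero l] : Subgroup (QD l) := maxSub l 0 1
/-- The dihedral maximal subgroup. -/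
noncomputable def MD (l : ℕ) [NeZero l] : Subgroup (QD l) := maxSub l 1 0
/-- The quaternion maximal subgroup. -/
noncomputable def MQ (l : ℕ) [NeZero l] : Subgroup (QD l) := maxSub l 1 1
/-- The intersection of the maximal subgroups. -/
noncomputable def E2 (l : ℕ) [NeZero l] : Subgroup (QD l) := MC l ⊓ MD l

theorem maxSub_index {u v : ZMod 2} (h : u ≠ 0 ∨ v ≠ 0) : (maxSub l u v).index = 2 := by
  have key : ∀ a b : ZMod 2, a ≠ 0 → (b + a = 0 ↔ ¬ b = 0) := by decide
  by_cases hv : v = 0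
  · refine index_two_of_prop _ (X l) _ (fun _ => mem_maxSub) fun b => ?_
    rw [par_mul_i, flag_mul, X]
    simp only [par_one, flag, Bool.false_eq_true, if_false, add_zero, mul_add, mul_one]
    rw [hv]
    simp only [zero_mul, add_zero]
    exact key u _ (h.resolve_right (fun hh => hh hv))
  · refine index_two_of_prop _ (Y l) _ (fun _ => mem_maxSub) fun b => ?_
    rw [par_mul_i, flag_mul, Y]
    simp only [par_zero, flag, if_true, add_zero, mul_add, mul_one]
    rw [← add_assoc]
    exact key v _ hv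

theorem mem_MC {a : QD l} : a ∈ MC l ↔ a.e = false := by
  obtain ⟨i, _ | _⟩ := a <;> simp [MC, mem_maxSub, flag]

theorem mem_MD {a : QD l} : a ∈ MD l ↔ ∃ t, a.i = 2 * t := by
  simp [MD, mem_maxSub, par_zero_iff]

theorem mem_E2 {a : QD l} : a ∈ E2 l ↔ ∃ t, a = ⟨2 * t, false⟩ := by
  rw [E2, Subgroup.mem_inf, mem_MC, mem_MD]
  constructor
  · rintro ⟨h, t, ht⟩; exact ⟨t, QD.ext ht h⟩
  · rintro ⟨t, rfl⟩; exact ⟨rfl, t, rfl⟩

theorem E2_le (u v : ZMod 2) : E2 l ≤ maxSub l u v := by
  intro a ha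
  obtain ⟨t, rfl⟩ := mem_E2.1 ha
  simp [mem_maxSub, par_even, flag]

theorem MC_ne_MD : MC l ≠ MD l := fun h => by
  have : X l ∈ MC l := mem_MC.2 rfl
  rw [h, MD, mem_maxSub] at this
  simp [X, par_one, flag] at this

theorem MC_ne_MQ : MC l ≠ MQ l := fun h => by
  have : X l ∈ MC l := mem_MC.2 rfl
  rw [h, MQ, mem_maxSub] at this
  simp [X, par_one, flag] at this

theorem MQ_ne_MD : MQ l ≠ MD l := fun h => by
  have : (⟨1, true⟩ : QD l) ∈ MQ l := by
    rw [MQ, mem_maxSub]; simp [par_one, flag]; decide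
  rw [h, MD, mem_maxSub] at this
  simp [par_one, flag] at this

/-- A subgroup containing `E2` and an element outside it contains a maximal one. -/
theorem exists_maxSub_le {M : Subgroup (QD l)} (hE : E2 l ≤ M) {a : QD l} (ha : a ∈ M)
    (haE : a ∉ E2 l) : MC l ≤ M ∨ MD l ≤ M ∨ MQ l ≤ M := by
  have key : ∀ u v : ZMod 2, a ∈ maxSub l u v → (u, v) ≠ (0, 0) → maxSub l u v ≤ M := by
    intro u v hau huv b hb
    by_cases hbE : b ∈ E2 l
    · exact hE hbE
    · have hz : ∀ c : QD l, par c.i = 0 → flag c = 0 → c ∈ E2 l := by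
        intro c h1 h2
        rw [E2, Subgroup.mem_inf, MC, MD, mem_maxSub, mem_maxSub]
        simp [h1, h2]
      have hab : b * a⁻¹ ∈ E2 l := by
        have e : ∀ u v p q r s : ZMod 2, (u, v) ≠ (0, 0) → u * p + v * q = 0 → u * r + v * s = 0 →
            ¬(p = 0 ∧ q = 0) → ¬(r = 0 ∧ s = 0) → p + r = 0 ∧ q + s = 0 := by decide
        obtain ⟨h1, h2⟩ := e u v _ _ _ _ huv hb hau (fun h => hbE (hz b h.1 h.2))
          (fun h => haE (hz a h.1 h.2))
        refine hz _ ?_ ?_
        · rwa [par_mul_i, par_inv_i]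
        · rwa [flag_mul, flag_inv]
      simpa using mul_mem (hE hab) ha
  have e2 : ∀ p q : ZMod 2, q = 0 ∨ p = 0 ∨ p + q = 0 := by decide
  rcases e2 (par a.i) (flag a) with h | h | h
  · exact Or.inl (key 0 1 (by simpa [mem_maxSub] using h) (by decide))
  · exact Or.inr (Or.inl (key 1 0 (by simpa [mem_maxSub] using h) (by decide)))
  · exact Or.inr (Or.inr (key 1 1 (by simpa [mem_maxSub] using h) (by decide)))

theorem card_pow : ∀ n, l = 2 ^ n → Nat.card (QD l) = 2 ^ (n + 4) := by
  intro n h; rw [card_eq, h, pow_add]; ring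

theorem index_two_cases {M : Subgroup (QD l)} (h : M.index = 2) :
    M = MC l ∨ M = MD l ∨ M = MQ l := by
  have hE : E2 l ≤ M := by
    intro b hb
    obtain ⟨t, rfl⟩ := mem_E2.1 hb
    have : (⟨t, false⟩ : QD l) * ⟨t, false⟩ ∈ M :=
      (Subgroup.mul_mem_iff_of_index_two h).2 Iff.rfl
    simpa [two_mul] using this
  have hne : ∃ a ∈ M, a ∉ E2 l := by
    by_contra hh
    push Not at hh
    have h1 : M ≤ MC l := fun b hb => (hh b hb).1
    have h2 : M ≤ MD l := fun b hb => (hh b hb).2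
    have hMC : (MC l).index = 2 := maxSub_index (Or.inr one_ne_zero)
    have hMD : (MD l).index = 2 := maxSub_index (Or.inl one_ne_zero)
    have e1 : M = MC l := by
      by_contra hne
      exact (isCoatom_of_index_two hMC).1 ((isCoatom_of_index_two h).2 _ (lt_of_le_of_ne h1 hne))
    have e2 : M = MD l := by
      by_contra hne
      exact (isCoatom_of_index_two hMD).1 ((isCoatom_of_index_two h).2 _ (lt_of_le_of_ne h2 hne))
    exact MC_ne_MD (e1.symm.trans e2)
  obtain ⟨a, ha, haE⟩ := hne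
  have hco := isCoatom_of_index_two h
  have key : ∀ u v : ZMod 2, (u ≠ 0 ∨ v ≠ 0) → maxSub l u v ≤ M → M = maxSub l u v := by
    intro u v huv hle
    by_contra hne
    exact hco.1 ((isCoatom_of_index_two (maxSub_index huv)).2 _ (lt_of_le_of_ne hle (Ne.symm hne)))
  rcases exists_maxSub_le hE ha haE with h | h | h
  · exact Or.inl (key _ _ (Or.inr one_ne_zero) h)
  · exact Or.inr (Or.inl (key _ _ (Or.inl one_ne_zero) h))
  · exact Or.inr (Or.inr (key _ _ (Or.inl one_ne_zero) h))

theorem MC_isCyclic : IsCyclic (MC l) := by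
  refine ⟨⟨⟨X l, mem_MC.2 rfl⟩, fun b => ⟨((b : QD l).i.val : ℤ), ?_⟩⟩⟩
  apply Subtype.ext
  simp only [zpow_natCast, SubmonoidClass.coe_pow, X, pow_false, ZMod.natCast_zmod_val, mul_one]
  exact QD.ext rfl (mem_MC.1 b.2).symm

/-- Doubling `ZMod (4 l) → ZMod (8 l)`. -/
noncomputable def dbl (l : ℕ) : ZMod (4 * l) →+ ZMod (8 * l) :=
  ZMod.lift (4 * l) ⟨zmultiplesHom _ (2 : ZMod (8 * l)), by
    rw [zmultiplesHom_apply, natCast_zsmul, nsmul_eq_mul]
    push_cast
    linear_combination eight_l (l := l)⟩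

theorem dbl_natCast (a : ℕ) : dbl l (a : ZMod (4 * l)) = 2 * (a : ZMod (8 * l)) := by
  rw [show ((a : ZMod (4 * l))) = ((a : ℤ) : ZMod (4 * l)) from (Int.cast_natCast a).symm, dbl]
  rw [ZMod.lift_coe]
  simp [mul_comm]

theorem dbl_injective : Function.Injective (dbl l) := by
  rw [injective_iff_map_eq_zero]
  intro a h
  rw [← ZMod.natCast_zmod_val a, dbl_natCast,
    show (2 : ZMod (8 * l)) = ((2 : ℕ) : ZMod (8 * l)) by norm_num, ← Nat.cast_mul,
    ZMod.natCast_eq_zero_iff] at h
  have := Nat.eq_zero_of_dvd_of_lt h (by have := ZMod.val_lt a; omega)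
  exact (ZMod.val_eq_zero a).1 (by omega)

theorem dbl_range (t : ZMod (8 * l)) : ∃ a, dbl l a = 2 * t :=
  ⟨(t.val : ZMod (4 * l)), by rw [dbl_natCast, ZMod.natCast_zmod_val]⟩

theorem dbl_even (a : ZMod (4 * l)) : ∃ t, dbl l a = 2 * t :=
  ⟨(a.val : ZMod (8 * l)), by rw [← dbl_natCast, ZMod.natCast_zmod_val]⟩

theorem k_mul_even (t : ZMod (8 * l)) : k l * (2 * t) = -(2 * t) := by
  unfold k; linear_combination t * eight_l (l := l)

theorem k_mul_dbl (a : ZMod (4 * l)) : k l * dbl l a = -dbl l a := by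
  obtain ⟨t, ht⟩ := dbl_even a
  rw [ht, k_mul_even]

/-- Dihedral group of order `8 l` inside the model. -/
noncomputable def dihedralHom (l : ℕ) [NeZero l] : DihedralGroup (4 * l) →* QD l :=
  MonoidHom.mk' (fun
    | DihedralGroup.r i => ⟨dbl l i, false⟩
    | DihedralGroup.sr i => ⟨-dbl l i, true⟩) (by
    rintro (i | i) (j | j)
    all_goals simp only [DihedralGroup.r_mul_r, DihedralGroup.r_mul_sr, DihedralGroup.sr_mul_r,
      DihedralGroup.sr_mul_sr, mk_mul_false, mk_mul_true, Bool.not_true, Bool.not_false,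
      map_add, map_sub, mul_neg, k_mul_dbl]
    all_goals congr 1
    all_goals ring)

theorem dihedralHom_injective : Function.Injective (dihedralHom l) := by
  rintro (i | i) (j | j) h <;> simp only [dihedralHom, MonoidHom.mk'_apply, QD.ext_iff] at h
  · rw [dbl_injective h.1]
  · exact absurd h.2 (by simp)
  · exact absurd h.2 (by simp)
  · rw [dbl_injective (neg_injective h.1)]

theorem dihedralHom_range : (dihedralHom l).range = MD l := by
  ext ⟨i, e⟩
  rw [mem_MD]
  constructor
  · rintro ⟨a | a, ha⟩ <;> simp only [dihedralHom, MonoidHom.mk'_apply, QD.ext_iff] at ha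
    · obtain ⟨t, ht⟩ := dbl_even a
      exact ⟨t, by simp only; rw [← ha.1, ht]⟩
    · obtain ⟨t, ht⟩ := dbl_even a
      exact ⟨-t, by simp only; rw [← ha.1, ht]; ring⟩
  · rintro ⟨t, ht⟩
    simp only at ht
    subst ht
    cases e
    · obtain ⟨a, ha⟩ := dbl_range t
      exact ⟨DihedralGroup.r a, by simp [dihedralHom, ha]⟩
    · obtain ⟨a, ha⟩ := dbl_range (-t)
      exact ⟨DihedralGroup.sr a, by simp [dihedralHom, ha]⟩

/-- The quaternion group of order `8 l` inside the model. -/
noncomputable def quaternionHom (l : ℕ) [NeZero l] : QuaternionGroup (2 * l) →* QD l :=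
  MonoidHom.mk' (fun
    | QuaternionGroup.a i => ⟨dbl l ((ZMod.ringEquivCongr (by ring)) i), false⟩
    | QuaternionGroup.xa i => ⟨1 - dbl l ((ZMod.ringEquivCongr (by ring)) i), true⟩) (by
    have hn : dbl l ((ZMod.ringEquivCongr (show 2 * (2 * l) = 4 * l by ring))
        ((2 * l : ℕ) : ZMod (2 * (2 * l)))) = 4 * (l : ZMod (8 * l)) := by
      rw [map_natCast, dbl_natCast]; push_cast; ring
    rintro (i | i) (j | j)
    all_goals simp only [QuaternionGroup.a_mul_a, QuaternionGroup.a_mul_xa, QuaternionGroup.xa_mul_a,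
      QuaternionGroup.xa_mul_xa, mk_mul_false, mk_mul_true, Bool.not_true, Bool.not_false,
      map_add, map_sub, mul_sub, mul_one, k_mul_dbl, hn]
    all_goals congr 1
    all_goals (try unfold k)
    all_goals ring)

theorem quaternionHom_injective : Function.Injective (quaternionHom l) := by
  rintro (i | i) (j | j) h <;> simp only [quaternionHom, MonoidHom.mk'_apply, QD.ext_iff] at h
  · rw [(RingEquiv.injective _) (dbl_injective h.1)]
  · exact absurd h.2 (by simp)
  · exact absurd h.2 (by simp)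
  · rw [(RingEquiv.injective _) (dbl_injective (sub_right_injective h.1))]

theorem quaternionHom_range : (quaternionHom l).range = MQ l := by
  ext ⟨i, e⟩
  rw [MQ, mem_maxSub]
  have e4 : ∀ a : ZMod (4 * l), ∃ b : ZMod (2 * (2 * l)),
      (ZMod.ringEquivCongr (show 2 * (2 * l) = 4 * l by ring)) b = a :=
    fun a => (ZMod.ringEquivCongr _).surjective a
  constructor
  · rintro ⟨a | a, ha⟩ <;> simp only [quaternionHom, MonoidHom.mk'_apply, QD.ext_iff] at ha
    · obtain ⟨t, ht⟩ := dbl_even ((ZMod.ringEquivCongr (show 2 * (2 * l) = 4 * l by ring)) a)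
      simp only [flag, ← ha.2, ← ha.1, ht, par_even]
      simp
    · obtain ⟨t, ht⟩ := dbl_even ((ZMod.ringEquivCongr (show 2 * (2 * l) = 4 * l by ring)) a)
      simp only [flag, ← ha.2, ← ha.1, ht,
        show (1 : ZMod (8 * l)) - 2 * t = 2 * (-t) + 1 by ring, par_odd]
      decide
  · intro h
    cases e
    · simp only [flag, Bool.false_eq_true, if_false, mul_zero, add_zero, one_mul, par_zero_iff] at h
      obtain ⟨t, rfl⟩ := h
      obtain ⟨a, ha⟩ := dbl_range t
      obtain ⟨b, rfl⟩ := e4 a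
      exact ⟨QuaternionGroup.a b, by simp [quaternionHom, ha]⟩
    · obtain ⟨t, rfl | rfl⟩ := even_or_odd i
      · simp [flag, par_even] at h
      · obtain ⟨a, ha⟩ := dbl_range (-t)
        obtain ⟨b, rfl⟩ := e4 a
        refine ⟨QuaternionGroup.xa b, ?_⟩
        simp only [quaternionHom, MonoidHom.mk'_apply, ha]
        congr 1
        ring

theorem E2_isCyclic : IsCyclic (E2 l) := by
  refine ⟨⟨⟨⟨2, false⟩, mem_E2.2 ⟨1, by rw [mul_one]⟩⟩, fun b => ?_⟩⟩
  obtain ⟨t, ht⟩ := mem_E2.1 b.2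
  refine ⟨(t.val : ℤ), Subtype.ext ?_⟩
  simp only [zpow_natCast, SubmonoidClass.coe_pow, pow_false, ht, ZMod.natCast_zmod_val, mul_comm]

theorem E2_card : Nat.card (E2 l) = 4 * l := by
  rw [← Nat.card_zmod (4 * l)]
  refine (Nat.card_congr (Equiv.ofBijective (fun a => (⟨⟨dbl l a, false⟩, ?_⟩ : E2 l)) ⟨?_, ?_⟩)).symm
  · obtain ⟨t, ht⟩ := dbl_even a
    exact mem_E2.2 ⟨t, by rw [ht]⟩
  · intro a b h
    exact dbl_injective (congrArg (fun x : E2 l => (x : QD l).i) h)
  · rintro ⟨b, hb⟩
    obtain ⟨t, rfl⟩ := mem_E2.1 hb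
    obtain ⟨a, ha⟩ := dbl_range t
    exact ⟨a, by simp [ha]⟩

theorem commutator_eq : commutator (QD l) = E2 l := by
  apply le_antisymm
  · rw [commutator_def, Subgroup.commutator_le]
    intro a _ b _
    have e : ∀ x y : ZMod 2, x + y + x + y = 0 := by decide
    have h1 : par (a * b * a⁻¹ * b⁻¹).i = 0 := by
      rw [par_mul_i, par_mul_i, par_mul_i, par_inv_i, par_inv_i]; exact e _ _
    have h2 : flag (a * b * a⁻¹ * b⁻¹) = 0 := by
      rw [flag_mul, flag_mul, flag_mul, flag_inv, flag_inv]; exact e _ _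
    rw [show E2 l = MC l ⊓ MD l from rfl, Subgroup.mem_inf, MC, MD, mem_maxSub, mem_maxSub]
    exact ⟨by simp [commutatorElement_def, h2], by simp [commutatorElement_def, h1]⟩
  · intro a ha
    obtain ⟨t, rfl⟩ := mem_E2.1 ha
    have h := Subgroup.commutator_mem_commutator (H₁ := (⊤ : Subgroup (QD l))) (H₂ := ⊤)
      (g₁ := ⟨(1 - 2 * (l : ZMod (8 * l))) * t, false⟩) (g₂ := Y l) trivial trivial
    rw [commutatorElement_def, Y, conj_even, mk_inv_true, mk_mul_true] at h
    rw [commutator_def]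
    simpa using h

end Cfsg.Agent.QDWreathQDSub
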