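import Mathlib
import Cfsg.Agent.Lib.QDWreathQDSub

/-!
Four-subgroups and quaternion subgroups of order 8 of a quasi-dihedral group.
-/

set_option autoImplicit false
set_option linter.unusedSectionVars false

namespace Cfsg.Agent.QDWreathQDFour

open Cfsg.Agent.QDWreathBase Cfsg.Agent.QDWreathQD Cfsg.Agent.QDWreathQDSub

variable {l : ℕ} [NeZero l]

/-- The elements of the four-group through `⟨2 t, true⟩`. -/
def fourSet (g : QD l) : Set (QD l) := {1, C l, g, C l * g}

theorem fourSet_ncard (g : QD l) : (fourSet g).ncard ≤ 4 := by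
  classical
  have h : fourSet g = ↑({1, C l, g, C l * g} : Finset (QD l)) := by simp [fourSet]
  rw [h, Set.ncard_coe_finset]
  exact Finset.card_le_four

theorem klein_shape {V : Subgroup (QD l)} (h4 : Nat.card V = 4) (h2 : ∀ a ∈ V, a * a = 1) :
    ∃ t, (⟨2 * t, true⟩ : QD l) ∈ V ∧ C l ∈ V ∧ (V : Set (QD l)) = fourSet ⟨2 * t, true⟩ := by
  obtain ⟨t, ht⟩ : ∃ t, (⟨2 * t, true⟩ : QD l) ∈ V := by
    by_contra hh
    push Not at hh
    have hsub : (V : Set (QD l)) ⊆ {1, C l} := by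
      intro a ha
      rcases sq_one_iff.1 (by rw [sq]; exact h2 a ha) with rfl | rfl | ⟨t, rfl⟩
      · exact Or.inl rfl
      · exact Or.inr rfl
      · exact absurd ha (hh t)
    have := Set.ncard_le_ncard hsub
    rw [← Nat.card_coe_set_eq, Set.ncard_pair C_ne_one.symm, SetLike.coe_sort_coe, h4] at this
    omega
  have hsub : (V : Set (QD l)) ⊆ fourSet ⟨2 * t, true⟩ := by
    intro a ha
    have hc : a * ⟨2 * t, true⟩ = (⟨2 * t, true⟩ : QD l) * a := by
      have h3 := h2 _ (mul_mem ha ht)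
      calc a * ⟨2 * t, true⟩ = (a * ⟨2 * t, true⟩)⁻¹ := (inv_eq_of_mul_eq_one_left h3).symm
        _ = (⟨2 * t, true⟩ : QD l) * a := by
          rw [mul_inv_rev, inv_eq_of_mul_eq_one_left (h2 a ha), inv_eq_of_mul_eq_one_left (h2 _ ht)]
    simpa [fourSet] using commute_true_iff.1 hc
  have heq : (V : Set (QD l)) = fourSet ⟨2 * t, true⟩ := by
    refine Set.eq_of_subset_of_ncard_le hsub ?_
    rw [← Nat.card_coe_set_eq (V : Set (QD l)), SetLike.coe_sort_coe, h4]
    exact fourSet_ncard _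
  exact ⟨t, ht, by rw [← SetLike.mem_coe, heq]; simp [fourSet], heq⟩

/-- Shape of a four-subgroup. -/
theorem klein_pullback {S : Type*} [Group S] (E : QD l ≃* S) (T : Subgroup S) (hT : IsKleinFour T) :
    ∃ t, (⟨2 * t, true⟩ : QD l) ∈ T.comap E.toMonoidHom ∧ C l ∈ T.comap E.toMonoidHom ∧
      ((T.comap E.toMonoidHom : Subgroup (QD l)) : Set (QD l)) = fourSet ⟨2 * t, true⟩ := by
  refine klein_shape ?_ fun a ha => ?_
  · rw [← hT.card_four]
    exact Nat.card_congr (E.toEquiv.subtypeEquiv fun a => Iff.rfl)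
  · have := hT
    apply E.injective
    rw [map_mul, map_one]
    exact congrArg Subtype.val (IsKleinFour.mul_self (⟨E a, ha⟩ : T))

theorem conj_C (c : QD l) : c * C l * c⁻¹ = C l := by rw [C_central, mul_inv_cancel_right]

theorem conj_rot (t₁ t₂ : ZMod (8 * l)) :
    ∃ c : QD l, c * ⟨2 * t₁, true⟩ * c⁻¹ = ⟨2 * t₂, true⟩ := by
  refine ⟨_, (conj_even (t₂ - t₁) (2 * t₁)).trans ?_⟩
  congr 1; ring

/-- The set of a quaternion subgroup of order 8 through `⟨i, true⟩`. -/
def quatSet (i : ZMod (8 * l)) : Set (QD l) :=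
  {a | ∃ s, a = ⟨2 * (l : ZMod (8 * l)) * s, false⟩ ∨ a = ⟨2 * (l : ZMod (8 * l)) * s + i, true⟩}

theorem quatSet_ncard (i : ZMod (8 * l)) : (quatSet i).ncard ≤ 8 := by
  have hsub : quatSet i ⊆ Set.range (fun p : Fin 4 × Bool =>
      (if p.2 then ⟨2 * (l : ZMod (8 * l)) * ((p.1 : ℕ) : ZMod (8 * l)) + i, true⟩
        else ⟨2 * (l : ZMod (8 * l)) * ((p.1 : ℕ) : ZMod (8 * l)), false⟩ : QD l)) := by
    have key : ∀ s : ZMod (8 * l), ∃ r : Fin 4,
        2 * (l : ZMod (8 * l)) * s = 2 * (l : ZMod (8 * l)) * ((r : ℕ) : ZMod (8 * l)) := by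
      intro s
      refine ⟨⟨s.val % 4, Nat.mod_lt _ (by norm_num)⟩, ?_⟩
      conv_lhs => rw [← ZMod.natCast_zmod_val s, ← Nat.div_add_mod s.val 4]
      push_cast
      linear_combination ((s.val / 4 : ℕ) : ZMod (8 * l)) * eight_l (l := l)
    rintro a ⟨s, rfl | rfl⟩ <;> obtain ⟨r, hr⟩ := key s
    · exact ⟨(r, false), by simp [hr]⟩
    · exact ⟨(r, true), by simp [hr]⟩
  refine le_trans (Set.ncard_le_ncard hsub) ?_
  rw [← Nat.card_coe_set_eq]
  exact le_trans (Finite.card_range_le _) (by simp [Nat.card_eq_fintype_card])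

theorem q8_pow_four : ∀ a : QuaternionGroup 2, a * a * (a * a) = 1 := by decide
theorem q8_inv_central : ∀ a : QuaternionGroup 2, a * a = 1 → ∀ b, a * b = b * a := by decide
theorem q8_noncomm : ∃ a b : QuaternionGroup 2, a * b ≠ b * a := by decide

/-- Shape of a quaternion subgroup of order 8. -/
theorem quat_shape {V : Subgroup (QD l)} (h8 : Nat.card V = 8) (h4 : ∀ a ∈ V, a * a * (a * a) = 1)
    (hinv : ∀ a ∈ V, a * a = 1 → ∀ b ∈ V, a * b = b * a) :
    ∃ t, (⟨2 * t + 1, true⟩ : QD l) ∈ V ∧ (V : Set (QD l)) = quatSet (2 * t + 1) := by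
  have hfalse : ∀ j, (⟨j, false⟩ : QD l) ∈ V → ∃ s, j = 2 * (l : ZMod (8 * l)) * s := by
    intro j hj
    refine four_mul_zero ?_
    have h := congrArg QD.i (h4 _ hj)
    simp only [mk_mul_false, one_def] at h
    linear_combination h
  obtain ⟨i, hi⟩ : ∃ i, (⟨i, true⟩ : QD l) ∈ V := by
    by_contra hh
    push Not at hh
    have hsub : (V : Set (QD l)) ⊆ Set.range (fun r : Fin 4 =>
        (⟨2 * (l : ZMod (8 * l)) * ((r : ℕ) : ZMod (8 * l)), false⟩ : QD l)) := by
      rintro ⟨j, _ | _⟩ ha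
      · obtain ⟨s, rfl⟩ := hfalse j ha
        refine ⟨⟨s.val % 4, Nat.mod_lt _ (by norm_num)⟩, ?_⟩
        simp only [QD.ext_iff, and_true]
        conv_rhs => rw [← ZMod.natCast_zmod_val s, ← Nat.div_add_mod s.val 4]
        push_cast
        linear_combination -((s.val / 4 : ℕ) : ZMod (8 * l)) * eight_l (l := l)
      · exact absurd ha (hh j)
    have h := Set.ncard_le_ncard hsub
    rw [← Nat.card_coe_set_eq, SetLike.coe_sort_coe, h8, ← Nat.card_coe_set_eq] at h
    have := Finite.card_range_le (fun r : Fin 4 =>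
        (⟨2 * (l : ZMod (8 * l)) * ((r : ℕ) : ZMod (8 * l)), false⟩ : QD l))
    simp only [Nat.card_eq_fintype_card, Fintype.card_fin] at *
    omega
  obtain ⟨t, rfl | rfl⟩ := even_or_odd i
  · exfalso
    have hsub : (V : Set (QD l)) ⊆ fourSet ⟨2 * t, true⟩ := by
      intro a ha
      have hc := hinv _ hi (by rw [← sq]; exact sq_true_even t) a ha
      simpa [fourSet] using commute_true_iff.1 hc.symm
    have h := le_trans (Set.ncard_le_ncard hsub) (fourSet_ncard _)
    rw [← Nat.card_coe_set_eq, SetLike.coe_sort_coe, h8] at h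
    omega
  · refine ⟨t, hi, Set.eq_of_subset_of_ncard_le ?_ ?_⟩
    · rintro ⟨j, _ | _⟩ ha
      · obtain ⟨s, rfl⟩ := hfalse j ha
        exact ⟨s, Or.inl rfl⟩
      · have h := mul_mem ha (inv_mem hi)
        rw [mk_inv_true, mk_mul_true, Bool.not_true] at h
        obtain ⟨s, hs⟩ := hfalse _ h
        refine ⟨s, Or.inr ?_⟩
        congr 1
        linear_combination hs + (2 * t + 1) * k_mul_k (l := l)
    · rw [← Nat.card_coe_set_eq (V : Set (QD l)), SetLike.coe_sort_coe, h8]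
      exact quatSet_ncard _

theorem quat_pullback {S : Type*} [Group S] (E : QD l ≃* S) (Q : Subgroup S)
    (e : Q ≃* QuaternionGroup 2) :
    ∃ t, (⟨2 * t + 1, true⟩ : QD l) ∈ Q.comap E.toMonoidHom ∧
      ((Q.comap E.toMonoidHom : Subgroup (QD l)) : Set (QD l)) = quatSet (2 * t + 1) := by
  refine quat_shape ?_ (fun a ha => ?_) (fun a ha h2 b hb => ?_)
  · refine (Nat.card_congr (E.toEquiv.subtypeEquiv (q := fun b => b ∈ Q) fun a => Iff.rfl)).trans ?_
    rw [show Nat.card {b // b ∈ Q} = Nat.card (QuaternionGroup 2) from Nat.card_congr e.toEquiv, Nat.card_eq_fintype_card, QuaternionGroup.card]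
  · apply E.injective
    have h := congrArg e.symm (q8_pow_four (e ⟨E a, ha⟩))
    simp only [map_mul, MulEquiv.symm_apply_apply, map_one] at h
    simpa using congrArg Subtype.val h
  · apply E.injective
    have h2' : e ⟨E a, ha⟩ * e ⟨E a, ha⟩ = 1 := by
      rw [← map_mul, show (⟨E a, ha⟩ : Q) * ⟨E a, ha⟩ = 1 from Subtype.ext
        (show E a * E a = 1 by rw [← map_mul, h2, map_one]), map_one]
    have h := congrArg e.symm (q8_inv_central _ h2' (e ⟨E b, hb⟩))
    simp only [map_mul, MulEquiv.symm_apply_apply] at h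
    simpa using congrArg Subtype.val h

theorem quatSet_conj_false (j i : ZMod (8 * l)) {a : QD l} (ha : a ∈ quatSet i) :
    (⟨j, false⟩ : QD l) * a * (⟨j, false⟩ : QD l)⁻¹ ∈
      quatSet (i + (2 - 4 * (l : ZMod (8 * l))) * j) := by
  obtain ⟨s, rfl | rfl⟩ := ha
  · refine ⟨s, Or.inl ?_⟩
    simp
  · refine ⟨s, Or.inr ?_⟩
    rw [conj_false]; congr 1; ring

end Cfsg.Agent.QDWreathQDFour
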