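import Cfsg.Agent.Lib.QDWreathLocal
import Cfsg.Agent.Lib.TransferPResidual
import Cfsg.Agent.Lib.TransferThompson
import Cfsg.Agent.Lib.BurnsideSmall

/-!
Tools for the fusion analysis in a group with quasi-dihedral or wreathed Sylow 2-subgroups.
-/

set_option autoImplicit false

namespace Cfsg.Agent.TwoFusionTools

open Cfsg.Agent.QDWreathLocal

variable {G : Type*} [Group G]

theorem supC_normal (H : Subgroup G) :
    ((H ⊔ Subgroup.centralizer (H : Set G)).subgroupOf (Subgroup.normalizer (H : Set G))).Normal := by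
  have hn : ((MulAut.conj : H →* MulAut H).range).Normal := by
    refine ⟨?_⟩
    rintro _ ⟨h, rfl⟩ φ
    exact ⟨φ h, by ext y; simp⟩
  rw [sup_centralizer_subgroupOf]
  exact hn.comap _

theorem supC_le_normalizer (H : Subgroup G) :
    H ⊔ Subgroup.centralizer (H : Set G) ≤ Subgroup.normalizer (H : Set G) :=
  sup_le Subgroup.le_normalizer (Subgroup.centralizer_le_normalizer _)

theorem exists_mul_of_mem_supC {H : Subgroup G} {x : G}
    (hx : x ∈ H ⊔ Subgroup.centralizer (H : Set G)) :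
    ∃ h ∈ H, ∃ c ∈ Subgroup.centralizer (H : Set G), x = h * c := by
  have hxN := supC_le_normalizer H hx
  have hx' : (⟨x, hxN⟩ : Subgroup.normalizer (H : Set G)) ∈
      (H ⊔ Subgroup.centralizer (H : Set G)).subgroupOf (Subgroup.normalizer (H : Set G)) :=
    Subgroup.mem_subgroupOf.2 hx
  rw [sup_centralizer_subgroupOf] at hx'
  obtain ⟨q, hq⟩ := hx'
  refine ⟨q, q.2, (q : G)⁻¹ * x, ?_, (mul_inv_cancel_left _ _).symm⟩
  rw [Subgroup.mem_centralizer_iff]
  intro y hy
  have h1 : (q : G) * y * (q : G)⁻¹ = x * y * x⁻¹ :=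
    congrArg Subtype.val (DFunLike.congr_fun hq (⟨y, hy⟩ : H))
  have h3 : x * y = q * y * (q : G)⁻¹ * x := by rw [h1, inv_mul_cancel_right]
  symm
  rw [mul_assoc, h3]
  simp [mul_assoc]

/-- Elements of odd order inducing automorphisms outside `H C(H)`. -/
theorem exists_odd_outside [Finite G] (H : Subgroup G)
    (h6 : (H ⊔ Subgroup.centralizer (H : Set G)).relIndex (Subgroup.normalizer (H : Set G)) = 6) :
    ∃ x ∈ Subgroup.normalizer (H : Set G), Odd (orderOf x) ∧
      x ∉ H ⊔ Subgroup.centralizer (H : Set G) := by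
  set N := Subgroup.normalizer (H : Set G)
  set K : Subgroup N := (H ⊔ Subgroup.centralizer (H : Set G)).subgroupOf N
  have : K.Normal := supC_normal H
  have hcard : Nat.card (N ⧸ K) = 6 := h6
  have : Fact (Nat.Prime 3) := ⟨Nat.prime_three⟩
  obtain ⟨w, hw⟩ := exists_prime_orderOf_dvd_card' (G := N ⧸ K) 3 (by rw [hcard]; norm_num)
  obtain ⟨y, rfl⟩ := QuotientGroup.mk_surjective w
  obtain ⟨a, k, hk, heq⟩ := Nat.exists_eq_two_pow_mul_odd (orderOf_pos (y : G)).ne'
  refine ⟨(y : G) ^ 2 ^ a, pow_mem y.2 _, ?_, fun h => ?_⟩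
  · rw [orderOf_pow' _ (pow_ne_zero _ two_ne_zero), heq, Nat.gcd_mul_right_left,
      Nat.mul_div_cancel_left _ (Nat.two_pow_pos a)]
    exact hk
  · have h1 : ((y : N ⧸ K)) ^ 2 ^ a = 1 := by
      rw [← QuotientGroup.mk_pow, QuotientGroup.eq_one_iff, Subgroup.mem_subgroupOf,
        Subgroup.coe_pow]
      exact h
    have h2 := orderOf_dvd_of_pow_eq_one h1
    rw [hw] at h2
    have := (Nat.prime_dvd_prime_iff_eq Nat.prime_three Nat.prime_two).1
      (Nat.prime_three.dvd_of_dvd_pow h2)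
    omega

/-- An element of odd order lies in a subgroup containing its square. -/
theorem mem_of_sq_mem {F : Subgroup G} {x : G} (hx : Odd (orderOf x)) (h : x ^ 2 ∈ F) : x ∈ F := by
  obtain ⟨m, hm⟩ := exists_pow_eq_self_of_coprime (Nat.coprime_two_left.2 hx)
  rw [← hm]
  exact pow_mem h m

/-- An element of odd order lies in every normal subgroup of 2-power index. -/
theorem mem_of_odd_order {M : Subgroup G} [M.Normal] {a : ℕ} (hM : M.index = 2 ^ a) {x : G}
    (hx : Odd (orderOf x)) : x ∈ M := by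
  rw [← QuotientGroup.eq_one_iff, ← orderOf_eq_one_iff]
  have h1 : orderOf (x : G ⧸ M) ∣ orderOf x := orderOf_map_dvd (QuotientGroup.mk' M) x
  have h2 : orderOf (x : G ⧸ M) ∣ 2 ^ a := hM ▸ orderOf_dvd_natCard _
  exact Nat.eq_one_of_dvd_coprimes (Nat.Coprime.pow_right a (Nat.coprime_two_right.2 hx)) h1 h2

/-- If a conjugate of a Sylow subgroup lies in `F`, the index of `H C(H)` in `N(H)` is not two. -/
theorem index_ne_two [Finite G] (S : Sylow 2 G) {H F : Subgroup G}
    (hKF : H ⊔ Subgroup.centralizer (H : Set G) ≤ F)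
    (hs : ∃ s ∈ Subgroup.normalizer (H : Set G), s ∉ F)
    (hbig : ∃ g : G, (S : Subgroup G).map (MulAut.conj g).toMonoidHom ≤ F)
    (hHS : H ≤ S) (hlt : Nat.card H < Nat.card (S : Subgroup G))
    (hcen : ∀ g : G, H.map (MulAut.conj g).toMonoidHom ≤ S → ∀ c ∈ (S : Subgroup G),
      c ∈ Subgroup.centralizer (H.map (MulAut.conj g).toMonoidHom : Set G) →
      c ∈ H.map (MulAut.conj g).toMonoidHom) :
    (H ⊔ Subgroup.centralizer (H : Set G)).relIndex (Subgroup.normalizer (H : Set G)) ≠ 2 := by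
  intro h2
  have hHF : H ≤ F := le_sup_left.trans hKF
  obtain ⟨R, hR⟩ := ((S.2.to_le hHS).of_equiv (Subgroup.subgroupOfEquivOfLe hHF).symm).exists_le_sylow
  obtain ⟨g, hg⟩ := hbig
  set R' := (R : Subgroup F).map F.subtype with hR'
  have hHR : H ≤ R' := fun x hx => ⟨⟨x, hHF hx⟩, hR (Subgroup.mem_subgroupOf.2 hx), rfl⟩
  have hbig' : Nat.card (S : Subgroup G) ≤ Nat.card R' := by
    rw [hR', Subgroup.card_map_of_injective F.subtype_injective]
    obtain ⟨R₁, hR₁⟩ := ((S.2.map (MulAut.conj g).toMonoidHom).of_equiv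
      (Subgroup.subgroupOfEquivOfLe hg).symm).exists_le_sylow
    refine le_trans ?_ (Nat.card_congr (Sylow.equiv R₁ R).toEquiv).le
    refine le_trans ?_ (Subgroup.card_le_of_le hR₁)
    rw [Nat.card_congr (Subgroup.subgroupOfEquivOfLe hg).toEquiv,
      Subgroup.card_map_of_injective (f := (MulAut.conj g).toMonoidHom) (MulAut.conj g).injective]
  have hlt' : H < R' := lt_of_le_of_ne hHR fun h => by rw [← h] at hbig'; omega
  -- an element of `R` normalizing `H` outside `H C(H)`
  have hR'p : IsPGroup 2 R' := R.2.map F.subtype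
  have : Group.IsNilpotent R' := hR'p.isNilpotent
  have hlt'' : H.subgroupOf R' < ⊤ := by
    rw [lt_top_iff_ne_top]
    exact fun h => hlt'.not_ge (Subgroup.subgroupOf_eq_top.1 h)
  obtain ⟨r, hrN, hrH⟩ := SetLike.exists_of_lt (normalizerCondition_of_isNilpotent (G := R') _ hlt'')
  have hrN' : (r : G) ∈ Subgroup.normalizer (H : Set G) := by
    rw [Subgroup.mem_normalizer_iff]
    intro h
    rw [Subgroup.mem_normalizer_iff] at hrN
    constructor
    · intro hh
      exact (hrN ⟨h, hlt'.le hh⟩).1 hh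
    · intro hh
      have hS' : h ∈ R' := by
        have := mul_mem (mul_mem (inv_mem r.2) (hlt'.le hh)) r.2
        simpa [mul_assoc] using this
      exact (hrN ⟨h, hS'⟩).2 hh
  have hrK : (r : G) ∉ H ⊔ Subgroup.centralizer (H : Set G) := by
    intro hr
    obtain ⟨q, hq, c, hc, hrqc⟩ := exists_mul_of_mem_supC hr
    have hcR : c ∈ R' := by
      rw [show c = q⁻¹ * (r : G) by rw [hrqc, inv_mul_cancel_left]]
      exact mul_mem (inv_mem (hHR hq)) r.2
    obtain ⟨P, hP⟩ := hR'p.exists_le_sylow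
    obtain ⟨y, rfl⟩ := MulAction.exists_smul_eq G S P
    have hy : ∀ a ∈ R', y⁻¹ * a * y ∈ (S : Subgroup G) := by
      intro a ha
      have h1 := hP ha
      rw [Sylow.coe_subgroup_smul, Subgroup.mem_smul_pointwise_iff_exists] at h1
      obtain ⟨z, hz, rfl⟩ := h1
      simpa [mul_assoc] using hz
    have h1 := hcen y⁻¹ (by
      rintro _ ⟨a, ha, rfl⟩
      simpa [mul_assoc] using hy a (hHR ha)) (y⁻¹ * c * y) (hy c hcR) (by
      rw [Subgroup.mem_centralizer_iff]
      rintro _ ⟨a, ha, rfl⟩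
      have h3 := Subgroup.mem_centralizer_iff.1 hc a ha
      simp only [MulEquiv.coe_toMonoidHom, MulAut.conj_apply, inv_inv]
      calc y⁻¹ * a * y * (y⁻¹ * c * y) = y⁻¹ * (a * c) * y := by group
        _ = y⁻¹ * (c * a) * y := by rw [h3]
        _ = y⁻¹ * c * y * (y⁻¹ * a * y) := by group)
    obtain ⟨a, ha, hac⟩ := h1
    simp only [MulEquiv.coe_toMonoidHom, MulAut.conj_apply, inv_inv] at hac
    have : a = c := mul_right_cancel (mul_left_cancel (by simpa [mul_assoc] using hac :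
      y⁻¹ * (a * y) = y⁻¹ * (c * y)))
    exact hrH (Subgroup.mem_subgroupOf.2 (by rw [hrqc]; exact mul_mem hq (this ▸ ha)))
  -- a proper intermediate subgroup
  obtain ⟨s, hsN, hsF⟩ := hs
  set N := Subgroup.normalizer (H : Set G)
  set K : Subgroup N := (H ⊔ Subgroup.centralizer (H : Set G)).subgroupOf N
  have hKi : K.index = 2 := h2
  have hK1 : (⟨r, hrN'⟩ : N) ∉ K := fun h => hrK (Subgroup.mem_subgroupOf.1 h)
  have hK2 : (⟨s, hsN⟩ : N) ∉ K := fun h => hsF (hKF (Subgroup.mem_subgroupOf.1 h))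
  have h3 : (⟨r, hrN'⟩ : N)⁻¹ * ⟨s, hsN⟩ ∈ K :=
    (Subgroup.mul_mem_iff_of_index_two hKi).2 (iff_of_false (fun h => hK1 (inv_mem_iff.1 h)) hK2)
  have hrF : (r : G) ∈ F := Subgroup.map_subtype_le _ r.2
  apply hsF
  have := mul_mem hrF (hKF (Subgroup.mem_subgroupOf.1 h3))
  simpa using this

theorem relIndex_of_index_two [Finite G] (S : Sylow 2 G) {M : Subgroup G} [M.Normal]
    (hM : M.index = 2) {u : G} (hu : u ∈ (S : Subgroup G)) (huM : u ∉ M) :
    M.relIndex (S : Subgroup G) = 2 := by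
  have h := Subgroup.relIndex_dvd_index_of_normal M (S : Subgroup G)
  rw [hM] at h
  refine ((Nat.dvd_prime Nat.prime_two).1 h).resolve_left fun h1 => ?_
  exact huM (Subgroup.relIndex_eq_one.1 h1 hu)

/-- An element outside an index two subgroup of the Sylow subgroup with all conjugates outside. -/
theorem exists_index_two [Finite G] (S : Sylow 2 G) (Q : Subgroup (S : Subgroup G)) (hQ : Q.index = 2)
    {x : G} (hxS : x ∈ (S : Subgroup G)) (hxQ : (⟨x, hxS⟩ : (S : Subgroup G)) ∉ Q)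
    (hpow : ∀ (g : G) (k : ℕ), 2 ∣ k → ∀ h : g⁻¹ * x ^ k * g ∈ (S : Subgroup G),
      (⟨_, h⟩ : (S : Subgroup G)) ∈ Q)
    (hfix : ∀ (g : G) (h : g⁻¹ * x * g ∈ (S : Subgroup G)), (⟨_, h⟩ : (S : Subgroup G)) ∉ Q) :
    ∃ M : Subgroup G, M.Normal ∧ M.index = 2 ∧ x ∉ M := by
  have : Q.Normal := Subgroup.normal_of_index_eq_two hQ
  have : Fact (Nat.Prime 2) := ⟨Nat.prime_two⟩
  haveI : IsCyclic ((S : Subgroup G) ⧸ Q) := isCyclic_of_prime_card (p := 2) hQ
  letI : CommGroup ((S : Subgroup G) ⧸ Q) := IsCyclic.commGroup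
  have hA : IsPGroup 2 ((S : Subgroup G) ⧸ Q) := S.isPGroup'.to_quotient Q
  have hne : MonoidHom.transfer (QuotientGroup.mk' Q) x ≠ 1 := by
    refine TransferThompson.transfer_ne_one S hA _ hxS
      (fun h => hxQ ((QuotientGroup.eq_one_iff _).1 h)) (fun g k hk h => ?_) fun g h => ?_
    · exact (QuotientGroup.eq_one_iff _).2 (hpow g k hk h)
    · refine QuotientGroup.eq.2 ((Subgroup.mul_mem_iff_of_index_two hQ).2 ?_)
      rw [inv_mem_iff]
      exact iff_of_false (hfix g h) hxQ
  refine ⟨(MonoidHom.transfer (QuotientGroup.mk' Q)).ker, inferInstance, ?_, fun h => hne h⟩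
  haveI : Fact (Nat.card ((S : Subgroup G) ⧸ Q)).Prime :=
    ⟨by rw [show Nat.card ((S : Subgroup G) ⧸ Q) = 2 from hQ]; exact Nat.prime_two⟩
  rcases (MonoidHom.transfer (QuotientGroup.mk' Q)).range.eq_bot_or_eq_top_of_prime_card with h | h
  · exact absurd (Subgroup.mem_bot.1 (h ▸ (⟨x, rfl⟩ : _ ∈ (MonoidHom.transfer (QuotientGroup.mk' Q)).range))) hne
  · rw [Subgroup.index_ker, h, Subgroup.card_top]
    exact hQ

/-- The Sylow subgroup of a normal subgroup. -/
theorem not_dvd_relIndex [Finite G] (S : Sylow 2 G) (M : Subgroup G) [M.Normal] :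
    ¬ 2 ∣ (S : Subgroup G).relIndex M := by
  intro h
  refine S.not_dvd_index (h.trans ?_)
  have h1 := Subgroup.relIndex_mul_index (inf_le_right : (S : Subgroup G) ⊓ M ≤ M)
  have h2 := Subgroup.relIndex_mul_index (inf_le_left : (S : Subgroup G) ⊓ M ≤ S)
  rw [Subgroup.inf_relIndex_right] at h1
  rw [Subgroup.inf_relIndex_left] at h2
  obtain ⟨c, hc⟩ := Subgroup.relIndex_dvd_index_of_normal M (S : Subgroup G)
  refine ⟨c, Nat.eq_of_mul_eq_mul_left (Nat.pos_of_ne_zero (show M.relIndex (S : Subgroup G) ≠ 0 from Subgroup.index_ne_zero_of_finite)) ?_⟩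
  rw [h2, ← h1, hc]
  ring

/-- A hom to a group of order two killing a Sylow subgroup is trivial. -/
theorem no_index_two [Finite G] (S : Sylow 2 G) (M : Subgroup G) [M.Normal]
    (h : ∀ φ : M →* Multiplicative (ZMod 2), ∀ x : M, (x : G) ∈ (S : Subgroup G) → φ x = 1) :
    ∀ H : Subgroup M, H.index ≠ 2 := by
  intro H hH
  have : H.Normal := Subgroup.normal_of_index_eq_two hH
  have hc : IsCyclic (M ⧸ H) := isCyclic_of_prime_card (p := 2) (hp := ⟨Nat.prime_two⟩) hH
  let e : M ⧸ H ≃* Multiplicative (ZMod 2) :=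
    mulEquivOfCyclicCardEq (by rw [show Nat.card (M ⧸ H) = 2 from hH]; simp)
  have hle : (S : Subgroup G).subgroupOf M ≤ H := by
    intro x hx
    rw [← QuotientGroup.eq_one_iff, ← e.injective.eq_iff, map_one]
    exact h (e.toMonoidHom.comp (QuotientGroup.mk' H)) x hx
  have h3 := Subgroup.index_dvd_of_le hle
  rw [hH] at h3
  exact not_dvd_relIndex S M h3

/-- All Sylow subgroups of a normal subgroup look like `S ⊓ M`. -/
theorem sylow_equiv [Finite G] (S : Sylow 2 G) (M : Subgroup G) [M.Normal] (P : Sylow 2 M) :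
    Nonempty ((P : Subgroup M) ≃* ((S : Subgroup G).subgroupOf M)) := by
  have : Fact (Nat.Prime 2) := ⟨Nat.prime_two⟩
  have hp : IsPGroup 2 ((S : Subgroup G).subgroupOf M) := S.2.comap_subtype
  exact ⟨(Sylow.equiv P (hp.toSylow (not_dvd_relIndex S M)))⟩

/-- A normal subgroup of 2-power index with cyclic Sylow 2-subgroup. -/
theorem hasNormalPComplement_of_cyclic [Finite G] (S : Sylow 2 G) (M : Subgroup G) [M.Normal]
    {a : ℕ} (hM : M.index = 2 ^ a) (hcyc : IsCyclic ((S : Subgroup G).subgroupOf M)) :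
    Cfsg.HasNormalPComplement 2 G := by
  have : Fact (Nat.Prime 2) := ⟨Nat.prime_two⟩
  have hp : IsPGroup 2 ((S : Subgroup G).subgroupOf M) := S.2.comap_subtype
  have hMc : Cfsg.HasNormalPComplement 2 M := by
    by_cases h2 : 2 ∣ Nat.card M
    · refine BurnsideSmall.hasNormalPComplement_of_normalizer_le_centralizer
        (hp.toSylow (not_dvd_relIndex S M)) (IsCyclic.normalizer_le_centralizer ?_ hcyc)
      exact (Nat.minFac_eq_two_iff _).2 h2
    · exact TransferPResidual.hasNormalPComplement_of_not_dvd h2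
  rw [TransferPResidual.hasNormalPComplement_iff_not_dvd] at hMc ⊢
  intro h
  refine hMc (h.trans ?_)
  have hle : Cfsg.pResidual 2 G ≤ (Cfsg.pResidual 2 M).map M.subtype := by
    have : ((Cfsg.pResidual 2 M).map M.subtype).Normal := ConjAct.normal_of_characteristic_of_normal
    refine TransferPResidual.pResidual_le_of_index (k := a + Nat.log 2 (Cfsg.pResidual 2 M).index) ?_
    obtain ⟨b, hb⟩ : ∃ b, (Cfsg.pResidual 2 M).index = 2 ^ b :=
      (TransferPResidual.isPGroup_quotient_pResidual (G := M) (p := 2)).exists_card_eq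
    rw [Subgroup.index_map, M.subtype.ker_eq_bot_iff.2 M.subtype_injective, sup_bot_eq,
      Subgroup.range_subtype, hb, Nat.log_pow (by norm_num), hM, pow_add]
    ring
  rw [← Subgroup.card_map_of_injective (f := M.subtype) (K := Cfsg.pResidual 2 M) M.subtype_injective]
  exact Subgroup.card_dvd_of_le hle

/-- The number of conjugacy classes from representatives. -/
theorem isConj_conj {a b g : G} (h : g * a * g⁻¹ = b) : IsConj a b := isConj_iff.2 ⟨g, h⟩

end Cfsg.Agent.TwoFusionTools
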