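import Mathlib
import Cfsg.Agent.Lib.QDWreathQDFour
import Cfsg.Agent.Lib.TwoFusionTools
import Cfsg.Agent.Lib.TransferAlperin

/-!
Fusion of involutions and of elements of order four in a group with quasi-dihedral Sylow 2-subgroup.
-/

set_option autoImplicit false
set_option linter.unusedSectionVars false

namespace Cfsg.Agent.QDFusion

open Cfsg.Agent.QDWreathBase Cfsg.Agent.QDWreathQD Cfsg.Agent.QDWreathQDFour Cfsg.Agent.TwoFusionTools

theorem mem_normalizer_of_map_le {G : Type*} [Group G] [Finite G] {H : Subgroup G} {x : G}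
    (h : ∀ y ∈ H, x * y * x⁻¹ ∈ H) : x ∈ Subgroup.normalizer (H : Set G) := by
  refine TransferAlperin.mem_normalizer_of_cj_eq (Subgroup.eq_of_le_of_card_ge ?_ ?_)
  · rintro _ ⟨y, hy, rfl⟩; exact h y hy
  · exact (TransferAlperin.card_cj x H).ge

theorem mem_normalizer_zpowers {G : Type*} [Group G] {b x : G}
    (h : x * b * x⁻¹ = b ∨ x * b * x⁻¹ = b⁻¹) :
    x ∈ Subgroup.normalizer (Subgroup.zpowers b : Set G) := by
  refine TransferAlperin.mem_normalizer_of_cj_eq ?_
  rw [TransferAlperin.cj, MonoidHom.map_zpowers]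
  rcases h with h | h <;> simp only [MulEquiv.coe_toMonoidHom, MulAut.conj_apply, h, Subgroup.zpowers_inv]

variable {G : Type*} [Group G] [Finite G] {l : ℕ} [NeZero l] (S : Sylow 2 G)
  (E : QD l ≃* (S : Subgroup G))

/-- The embedding of the model. -/
def emb : QD l →* G := (S : Subgroup G).subtype.comp E.toMonoidHom

theorem emb_injective : Function.Injective (emb S E) :=
  (S : Subgroup G).subtype_injective.comp E.injective

theorem emb_mem (a : QD l) : emb S E a ∈ (S : Subgroup G) := (E a).2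

theorem exists_emb {y : G} (hy : y ∈ (S : Subgroup G)) : ∃ a, emb S E a = y :=
  ⟨E.symm ⟨y, hy⟩, by simp [emb]⟩

/-- The element `x ^ (2 l)` of order four. -/
abbrev I (l : ℕ) : QD l := ⟨2 * (l : ZMod (8 * l)), false⟩

include E in
theorem card_S : Nat.card (S : Subgroup G) = 16 * l := by rw [← Nat.card_congr E.toEquiv, card_eq]

theorem conj_odd (i j : ZMod (8 * l)) :
    IsConj (emb S E ⟨2 * i + 1, true⟩) (emb S E ⟨2 * j + 1, true⟩) := by
  refine (emb S E).map_isConj (isConj_iff.2 ⟨_, (conj_even (j - i) (2 * i + 1)).trans ?_⟩)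
  congr 1; ring

theorem conj_even' (i j : ZMod (8 * l)) :
    IsConj (emb S E ⟨2 * i, true⟩) (emb S E ⟨2 * j, true⟩) := by
  refine (emb S E).map_isConj (isConj_iff.2 ⟨_, (conj_even (j - i) (2 * i)).trans ?_⟩)
  congr 1; ring

theorem two_l_ne : 2 * (l : ZMod (8 * l)) ≠ 0 := fun h => four_l_ne (l := l) (by linear_combination 2 * h)

theorem inv_I : (I l)⁻¹ = ⟨-(2 * (l : ZMod (8 * l))), false⟩ := mk_inv_false _

theorem conj_I_cases (a : QD l) : a * I l * a⁻¹ = I l ∨ a * I l * a⁻¹ = (I l)⁻¹ := by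
  obtain ⟨i, _ | _⟩ := a
  · left; simp [I]
  · right
    rw [inv_I]
    simp only [I, mk_inv_true, mk_mul_true, Bool.not_true, mk_mul_false, Bool.not_false]
    congr 1
    unfold k
    linear_combination ((l : ZMod (8 * l)) + i * (1 - 2 * (l : ZMod (8 * l)))) * eight_l (l := l)

theorem isConj_inv_I : IsConj (emb S E (I l)⁻¹) (emb S E (I l)) := by
  refine (emb S E).map_isConj (isConj_iff.2 ⟨Y l, ?_⟩)
  rw [inv_I]
  simp only [I, Y, mk_inv_true, mk_mul_true, Bool.not_true, mk_mul_false, Bool.not_false]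
  congr 1
  unfold k
  linear_combination -(l : ZMod (8 * l)) * eight_l (l := l)

/-- Involutions of the Sylow subgroup. -/
theorem inv_cases {y : G} (hy : y ∈ (S : Subgroup G)) (h : orderOf y = 2) :
    y = emb S E (C l) ∨ ∃ t, y = emb S E ⟨2 * t, true⟩ := by
  obtain ⟨a, rfl⟩ := exists_emb S E hy
  rw [orderOf_injective _ (emb_injective S E), orderOf_eq_prime_iff] at h
  rcases sq_one_iff.1 h.1 with rfl | rfl | ⟨t, rfl⟩
  · exact absurd rfl h.2
  · exact Or.inl rfl
  · exact Or.inr ⟨t, rfl⟩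

theorem order_four_iff (a : QD l) : orderOf a = 4 ↔ a ^ 4 = 1 ∧ a ^ 2 ≠ 1 := by
  constructor
  · intro h
    exact ⟨h ▸ pow_orderOf_eq_one a, fun h2 => by
      have := orderOf_dvd_of_pow_eq_one h2; rw [h] at this; norm_num at this⟩
  · rintro ⟨h4, h2⟩
    have : Fact (Nat.Prime 2) := ⟨Nat.prime_two⟩
    exact orderOf_eq_prime_pow (p := 2) (n := 1) (by simpa using h2) (by simpa using h4)

theorem four_cases' {a : QD l} (h : orderOf a = 4) :
    a = I l ∨ a = (I l)⁻¹ ∨ ∃ t, a = ⟨2 * t + 1, true⟩ := by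
  rw [order_four_iff] at h
  obtain ⟨i, _ | _⟩ := a
  · rw [pow_false, pow_false] at h
    have h0 : 4 * i = 0 := by simpa [one_def] using congrArg QD.i h.1
    obtain ⟨u, rfl⟩ := four_mul_zero h0
    obtain ⟨v, rfl | rfl⟩ := even_or_odd u
    · exact absurd (by rw [one_def]; congr 1; push_cast; linear_combination v * eight_l (l := l)) h.2
    · rcases four_l_mul v with hv | hv
      · left; simp only [I, QD.ext_iff, and_true]; linear_combination hv
      · right; left; rw [inv_I]; simp only [QD.ext_iff, and_true]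
        linear_combination hv + eight_l (l := l)
  · obtain ⟨u, rfl | rfl⟩ := even_or_odd i
    · exact absurd (sq_true_even u) h.2
    · exact Or.inr (Or.inr ⟨u, rfl⟩)

theorem order_I : orderOf (I l) = 4 := by
  rw [order_four_iff, pow_false, pow_false, one_def]
  refine ⟨by congr 1; push_cast; linear_combination eight_l (l := l), fun h => ?_⟩
  have := congrArg QD.i h
  push_cast at this
  exact four_l_ne (l := l) (by linear_combination this)

theorem order_odd (t : ZMod (8 * l)) : orderOf (⟨2 * t + 1, true⟩ : QD l) = 4 := by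
  rw [order_four_iff, show (4 : ℕ) = 2 * 2 from rfl, pow_mul, sq_true_odd, C_sq]
  exact ⟨rfl, C_ne_one⟩

theorem order_C : orderOf (C l) = 2 := orderOf_eq_prime C_sq C_ne_one

theorem order_even (t : ZMod (8 * l)) : orderOf (⟨2 * t, true⟩ : QD l) = 2 :=
  orderOf_eq_prime (sq_true_even t) (fun h => by simp [one_def] at h)

theorem C_eq : (C l : QD l) = I l * I l := by
  simp only [C, I, mk_mul_false]; congr 1; ring

/-- A four-subgroup of `S`. -/
theorem klein_data {T : Subgroup G} (hT : IsKleinFour T) (hTS : T ≤ S) :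
    ∃ t, ∀ y, y ∈ T ↔ ∃ a ∈ fourSet (⟨2 * t, true⟩ : QD l), emb S E a = y := by
  have e4 := Subgroup.subgroupOfEquivOfLe hTS
  have hT' : IsKleinFour (T.subgroupOf (S : Subgroup G)) :=
    ⟨(Nat.card_congr e4.toEquiv).trans hT.card_four,
      (Monoid.exponent_eq_of_mulEquiv e4).trans hT.exponent_two⟩
  obtain ⟨t, -, -, hset⟩ := klein_pullback E _ hT'
  refine ⟨t, fun y => ⟨fun hy => ?_, ?_⟩⟩
  · obtain ⟨a, rfl⟩ := exists_emb S E (hTS hy)
    exact ⟨a, hset ▸ hy, rfl⟩
  · rintro ⟨a, ha, rfl⟩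
    rw [← hset] at ha
    exact ha

include E in
theorem klein_cen {T : Subgroup G} (hT : IsKleinFour T) (hTS : T ≤ S) :
    ∀ c ∈ (S : Subgroup G), c ∈ Subgroup.centralizer (T : Set G) → c ∈ T := by
  obtain ⟨t, ht⟩ := klein_data S E hT hTS
  intro c hc hcc
  obtain ⟨a, rfl⟩ := exists_emb S E hc
  refine (ht _).2 ⟨a, ?_, rfl⟩
  have h := Subgroup.mem_centralizer_iff.1 hcc _ ((ht _).2 ⟨⟨2 * t, true⟩, by simp [fourSet], rfl⟩)
  rw [← map_mul, ← map_mul] at h
  simpa [fourSet] using commute_true_iff.1 (emb_injective S E h).symm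

/-- A quaternion subgroup of `S`. -/
theorem quat_data {Q : Subgroup G} (hQS : Q ≤ S) (e : Q ≃* QuaternionGroup 2) :
    ∃ t, ∀ y, y ∈ Q ↔ ∃ a ∈ quatSet (2 * t + 1 : ZMod (8 * l)), emb S E a = y := by
  obtain ⟨t, -, hset⟩ := quat_pullback E _ ((Subgroup.subgroupOfEquivOfLe hQS).trans e)
  refine ⟨t, fun y => ⟨fun hy => ?_, ?_⟩⟩
  · obtain ⟨a, rfl⟩ := exists_emb S E (hQS hy)
    exact ⟨a, hset ▸ hy, rfl⟩
  · rintro ⟨a, ha, rfl⟩
    rw [← hset] at ha
    exact ha

theorem b_mem (i : ZMod (8 * l)) : (⟨i, true⟩ : QD l) ∈ quatSet i := ⟨0, Or.inr (by simp)⟩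

theorem I_mem (i : ZMod (8 * l)) : I l ∈ quatSet i := ⟨1, Or.inl (by simp [I])⟩

theorem rot_eq (s : ZMod (8 * l)) :
    (⟨2 * (l : ZMod (8 * l)) * s, false⟩ : QD l) = I l ^ s.val := by
  rw [I, pow_false, ZMod.natCast_zmod_val]
  congr 1; ring

theorem refl_eq (s i : ZMod (8 * l)) :
    (⟨2 * (l : ZMod (8 * l)) * s + i, true⟩ : QD l) = I l ^ s.val * ⟨i, true⟩ := by
  rw [← rot_eq, mk_mul_false]

/-- `Q` is generated by `i` and `b`. -/
theorem quat_le_of_mem {Q : Subgroup G} {t : ZMod (8 * l)}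
    (ht : ∀ y, y ∈ Q ↔ ∃ a ∈ quatSet (2 * t + 1 : ZMod (8 * l)), emb S E a = y) {F : Subgroup G}
    (h1 : emb S E (I l) ∈ F) (h2 : emb S E ⟨2 * t + 1, true⟩ ∈ F) : Q ≤ F := by
  intro y hy
  obtain ⟨a, ⟨s, rfl | rfl⟩, rfl⟩ := (ht y).1 hy
  · rw [rot_eq, map_pow]; exact pow_mem h1 _
  · rw [refl_eq, map_mul, map_pow]; exact mul_mem (pow_mem h1 _) h2

include E in
theorem quat_cen {Q : Subgroup G} (hQS : Q ≤ S) (e : Q ≃* QuaternionGroup 2) :
    ∀ c ∈ (S : Subgroup G), c ∈ Subgroup.centralizer (Q : Set G) → c ∈ Q := by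
  obtain ⟨t, ht⟩ := quat_data S E hQS e
  intro c hc hcc
  obtain ⟨a, rfl⟩ := exists_emb S E hc
  have hb := (ht _).2 ⟨_, b_mem _, rfl⟩
  have h := Subgroup.mem_centralizer_iff.1 hcc _ hb
  rw [← map_mul, ← map_mul] at h
  have hC : emb S E (C l) ∈ Q := by
    rw [← sq_true_odd t, map_pow]; exact pow_mem hb 2
  rcases commute_true_iff.1 (emb_injective S E h).symm with rfl | rfl | rfl | rfl
  · rw [map_one]; exact one_mem _
  · exact hC
  · exact hb
  · rw [map_mul]; exact mul_mem hC hb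

theorem klein_sup {T : Subgroup G} (hT : IsKleinFour T) :
    T ⊔ Subgroup.centralizer (T : Set G) = Subgroup.centralizer (T : Set G) := by
  refine sup_eq_right.2 fun x hx => ?_
  rw [Subgroup.mem_centralizer_iff]
  intro y hy
  have := hT
  exact congrArg Subtype.val (mul_comm_of_exponent_two (G := T) IsKleinFour.exponent_two ⟨y, hy⟩ ⟨x, hx⟩)

/-- Index six fuses the two classes of involutions. -/
theorem T_six {T : Subgroup G} (hT : IsKleinFour T) (hTS : T ≤ S)
    (h6 : (Subgroup.centralizer (T : Set G)).relIndex (Subgroup.normalizer (T : Set G)) = 6) :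
    IsConj (emb S E (C l)) (emb S E ⟨2 * 0, true⟩) := by
  rw [← klein_sup hT] at h6
  obtain ⟨x, hxN, hxo, hxK⟩ := exists_odd_outside T h6
  rw [klein_sup hT] at hxK
  obtain ⟨t, ht⟩ := klein_data S E hT hTS
  set c := emb S E (C l) with hc
  set g := emb S E ⟨2 * t, true⟩ with hg
  have hcT : c ∈ T := (ht _).2 ⟨_, by simp [fourSet], rfl⟩
  have hgT : g ∈ T := (ht _).2 ⟨_, by simp [fourSet], rfl⟩
  have hT4 : ∀ y ∈ T, y = 1 ∨ y = c ∨ y = g ∨ y = c * g := by
    intro y hy
    obtain ⟨a, ha, rfl⟩ := (ht y).1 hy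
    simp only [fourSet, Set.mem_insert_iff, Set.mem_singleton_iff] at ha
    rcases ha with rfl | rfl | rfl | rfl <;> simp [hc, hg]
  have hmap : ∀ y ∈ T, x * y * x⁻¹ ∈ T := fun y hy => (Subgroup.mem_normalizer_iff.1 hxN y).1 hy
  rcases hT4 _ (hmap c hcT) with h | h | h | h
  · exfalso
    rw [conj_eq_one_iff, hc, ← map_one (emb S E)] at h
    exact C_ne_one (emb_injective S E h)
  · exfalso
    apply hxK
    have hxc : x ∈ Subgroup.centralizer ({c} : Set G) :=
      Subgroup.mem_centralizer_singleton_iff.2 (mul_inv_eq_iff_eq_mul.1 h)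
    have hxg : x ∈ Subgroup.centralizer ({g} : Set G) := by
      refine mem_of_sq_mem hxo (Subgroup.mem_centralizer_singleton_iff.2 (mul_inv_eq_iff_eq_mul.1 ?_))
      have hne : ∀ y, x * g * x⁻¹ = x * y * x⁻¹ → g = y := fun y h' => mul_left_cancel (mul_right_cancel h')
      rcases hT4 _ (hmap g hgT) with h' | h' | h' | h'
      · rw [conj_eq_one_iff, hg, ← map_one (emb S E)] at h'
        exact absurd (congrArg QD.e (emb_injective S E h')) (by simp [one_def])
      · have := hne c (h'.trans h.symm)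
        exact absurd (congrArg QD.e (emb_injective S E this)) (by simp [C])
      · rw [sq, mul_inv_rev, show x * x * g * (x⁻¹ * x⁻¹) = x * (x * g * x⁻¹) * x⁻¹ by group, h', h']
      · rw [sq, mul_inv_rev, show x * x * g * (x⁻¹ * x⁻¹) = x * (x * g * x⁻¹) * x⁻¹ by group, h',
          show x * (c * g) * x⁻¹ = (x * c * x⁻¹) * (x * g * x⁻¹) by group, h, h', ← mul_assoc,
          hc, ← map_mul, ← sq, C_sq, map_one, one_mul]
    rw [Subgroup.mem_centralizer_iff]
    intro y hy
    rcases hT4 y hy with rfl | rfl | rfl | rfl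
    · simp
    · exact (Subgroup.mem_centralizer_singleton_iff.1 hxc).symm
    · exact (Subgroup.mem_centralizer_singleton_iff.1 hxg).symm
    · rw [mul_assoc, ← Subgroup.mem_centralizer_singleton_iff.1 hxg, ← mul_assoc,
        ← Subgroup.mem_centralizer_singleton_iff.1 hxc, mul_assoc]
  · exact (isConj_iff.2 ⟨x, h⟩).trans (conj_even' S E t 0)
  · refine (isConj_iff.2 ⟨x, h⟩).trans ?_
    rw [hc, hg, ← map_mul, show C l * ⟨2 * t, true⟩ = (⟨2 * (t + 2 * (l : ZMod (8 * l))), true⟩ : QD l) by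
      rw [C, mk_mul_false]; congr 1; ring]
    exact conj_even' S E _ 0

/-- Index two keeps the classes of involutions apart. -/
theorem T_two {T : Subgroup G} (hT : IsKleinFour T) (hTS : T ≤ S)
    (h2 : (Subgroup.centralizer (T : Set G)).relIndex (Subgroup.normalizer (T : Set G)) = 2) :
    ¬ IsConj (emb S E (C l)) (emb S E ⟨2 * 0, true⟩) := by
  intro hfus
  rw [← klein_sup hT] at h2
  obtain ⟨t, ht⟩ := klein_data S E hT hTS
  obtain ⟨g, hg⟩ := isConj_iff.1 (hfus.trans (conj_even' S E 0 t))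
  refine index_ne_two S (F := Subgroup.centralizer ({emb S E ⟨2 * t, true⟩} : Set G)) ?_ ?_ ⟨g, ?_⟩ hTS ?_ ?_ h2
  · rw [klein_sup hT]
    refine Subgroup.centralizer_le ?_
    simp only [Set.singleton_subset_iff]
    exact (ht _).2 ⟨_, by simp [fourSet], rfl⟩
  · refine ⟨emb S E ⟨(1 - 2 * (l : ZMod (8 * l))) * (2 * (l : ZMod (8 * l))), false⟩,
      mem_normalizer_of_map_le fun y hy => ?_, fun h => ?_⟩
    · obtain ⟨a, ha, rfl⟩ := (ht y).1 hy
      rw [← map_inv, ← map_mul, ← map_mul]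
      refine (ht _).2 ⟨_, ?_, rfl⟩
      simp only [fourSet, Set.mem_insert_iff, Set.mem_singleton_iff] at ha ⊢
      rcases ha with rfl | rfl | rfl | rfl
      · exact Or.inl (by simp [one_def])
      · exact Or.inr (Or.inl (by rw [C_central, mul_inv_cancel_right]))
      · refine Or.inr (Or.inr (Or.inr ?_))
        rw [conj_even, C, mk_mul_false]; congr 1; ring
      · refine Or.inr (Or.inr (Or.inl ?_))
        rw [show C l * ⟨2 * t, true⟩ = (⟨4 * (l : ZMod (8 * l)) + 2 * t, true⟩ : QD l) by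
          rw [C, mk_mul_false], conj_even]
        congr 1; linear_combination eight_l (l := l)
    · have h' := mul_inv_eq_iff_eq_mul.2 (Subgroup.mem_centralizer_singleton_iff.1 h)
      rw [← map_inv, ← map_mul, ← map_mul, conj_even] at h'
      exact four_l_ne (l := l) (by linear_combination congrArg QD.i (emb_injective S E h'))
  · rintro _ ⟨y, hy, rfl⟩
    rw [Subgroup.mem_centralizer_singleton_iff]
    obtain ⟨a, rfl⟩ := exists_emb S E hy
    simp only [MulEquiv.coe_toMonoidHom, MulAut.conj_apply]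
    rw [← hg]
    calc g * emb S E a * g⁻¹ * (g * emb S E (C l) * g⁻¹) = g * (emb S E a * emb S E (C l)) * g⁻¹ := by group
      _ = g * (emb S E (C l) * emb S E a) * g⁻¹ := by rw [← map_mul, C_central, map_mul]
      _ = _ := by group
  · rw [hT.card_four, card_S S E]; have := NeZero.pos l; omega
  · intro k hk
    have := hT
    have e := Subgroup.equivMapOfInjective T (MulAut.conj k).toMonoidHom (MulAut.conj k).injective
    exact klein_cen S E ⟨(Nat.card_congr e.symm.toEquiv).trans hT.card_four,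
        (Monoid.exponent_eq_of_mulEquiv e.symm).trans hT.exponent_two⟩ hk

/-- Index six fuses the elements of order four. -/
theorem Q_six {Q : Subgroup G} (hQS : Q ≤ S) (e : Q ≃* QuaternionGroup 2)
    (h6 : (Q ⊔ Subgroup.centralizer (Q : Set G)).relIndex (Subgroup.normalizer (Q : Set G)) = 6) :
    IsConj (emb S E (I l)) (emb S E ⟨2 * 0 + 1, true⟩) := by
  obtain ⟨x, hxN, hxo, hxK⟩ := exists_odd_outside Q h6
  obtain ⟨t, ht⟩ := quat_data S E hQS e
  set i := emb S E (I l) with hi
  set b := emb S E ⟨2 * t + 1, true⟩ with hb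
  have hiQ : i ∈ Q := (ht _).2 ⟨_, I_mem _, rfl⟩
  have hbQ : b ∈ Q := (ht _).2 ⟨_, b_mem _, rfl⟩
  have hmap : ∀ y ∈ Q, x * y * x⁻¹ ∈ Q := fun y hy => (Subgroup.mem_normalizer_iff.1 hxN y).1 hy
  have hord : ∀ y, orderOf y = 4 → y ∈ Q → y = i ∨ y = i⁻¹ ∨ ∃ u, y = emb S E ⟨2 * u + 1, true⟩ := by
    intro y hy4 hy
    obtain ⟨a, rfl⟩ := exists_emb S E (hQS hy)
    rw [orderOf_injective _ (emb_injective S E)] at hy4
    rcases four_cases' hy4 with rfl | rfl | ⟨u, rfl⟩
    · exact Or.inl rfl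
    · exact Or.inr (Or.inl (map_inv _ _))
    · exact Or.inr (Or.inr ⟨u, rfl⟩)
  have ho : ∀ y : G, orderOf (x * y * x⁻¹) = orderOf y := fun y =>
    orderOf_injective (MulAut.conj x).toMonoidHom (MulAut.conj x).injective y
  by_cases hex : ∃ u, x * i * x⁻¹ = emb S E ⟨2 * u + 1, true⟩
  · obtain ⟨u, hu⟩ := hex
    exact (isConj_iff.2 ⟨x, hu⟩).trans (conj_odd S E u 0)
  exfalso
  have hxi : x ∈ Subgroup.centralizer ({i} : Set G) := by
    refine mem_of_sq_mem hxo (Subgroup.mem_centralizer_singleton_iff.2 (mul_inv_eq_iff_eq_mul.1 ?_))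
    rw [sq, mul_inv_rev, show x * x * i * (x⁻¹ * x⁻¹) = x * (x * i * x⁻¹) * x⁻¹ by group]
    rcases hord _ (by rw [ho, hi, orderOf_injective _ (emb_injective S E), order_I]) (hmap i hiQ) with h | h | h
    · rw [h, h]
    · rw [h, show x * i⁻¹ * x⁻¹ = (x * i * x⁻¹)⁻¹ by group, h, inv_inv]
    · exact absurd h hex
  have hxi' := mul_inv_eq_iff_eq_mul.2 (Subgroup.mem_centralizer_singleton_iff.1 hxi)
  obtain ⟨a, ⟨s, rfl | rfl⟩, ha⟩ := (ht _).1 (hmap b hbQ)
  · have h1 : emb S E ⟨2 * (l : ZMod (8 * l)) * s, false⟩ = x * i ^ s.val * x⁻¹ := by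
      rw [rot_eq, map_pow, ← hi, ← conj_pow, hxi']
    rw [h1] at ha
    have h2 := mul_left_cancel (mul_right_cancel ha)
    rw [hi, ← map_pow, ← rot_eq] at h2
    exact Bool.noConfusion (congrArg QD.e (emb_injective S E h2))
  · rw [refl_eq, map_mul, map_pow, ← hi, ← hb] at ha
    have hn : ∀ n : ℕ, x ^ n * b * (x ^ n)⁻¹ = i ^ (s.val * n) * b := by
      intro n
      induction n with
      | zero => simp
      | succ n ih =>
        calc x ^ (n + 1) * b * (x ^ (n + 1))⁻¹ = x * (x ^ n * b * (x ^ n)⁻¹) * x⁻¹ := by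
              rw [pow_succ']; group
          _ = (x * i * x⁻¹) ^ (s.val * n) * (x * b * x⁻¹) := by rw [ih, conj_pow]; group
          _ = i ^ (s.val * (n + 1)) * b := by rw [hxi', ← ha, ← mul_assoc, ← pow_add]; ring_nf
    have h1 := hn (orderOf x)
    rw [pow_orderOf_eq_one, one_mul, inv_one, mul_one, eq_comm, mul_eq_right] at h1
    have h2 := orderOf_dvd_of_pow_eq_one h1
    rw [hi, orderOf_injective _ (emb_injective S E), order_I] at h2
    have h3 : 4 ∣ s.val := (Nat.Coprime.pow_left 2 (Nat.coprime_two_left.2 hxo)).dvd_of_dvd_mul_right h2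
    have h4 : i ^ s.val = 1 := by
      rw [← orderOf_dvd_iff_pow_eq_one, hi, orderOf_injective _ (emb_injective S E), order_I]; exact h3
    rw [h4, one_mul] at ha
    apply hxK
    refine Subgroup.mem_sup_right (Subgroup.mem_centralizer_iff.2 fun y hy => ?_)
    have hxb : x ∈ Subgroup.centralizer ({b} : Set G) :=
      Subgroup.mem_centralizer_singleton_iff.2 (mul_inv_eq_iff_eq_mul.1 ha.symm)
    have hle : Q ≤ Subgroup.centralizer ({x} : Set G) := by
      refine quat_le_of_mem S E ht ?_ ?_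
      · exact Subgroup.mem_centralizer_singleton_iff.2 (Subgroup.mem_centralizer_singleton_iff.1 hxi).symm
      · exact Subgroup.mem_centralizer_singleton_iff.2 (Subgroup.mem_centralizer_singleton_iff.1 hxb).symm
    exact Subgroup.mem_centralizer_singleton_iff.1 (hle hy)

/-- Index two keeps the elements of order four apart. -/
theorem Q_two {Q : Subgroup G} (hQS : Q ≤ S) (e : Q ≃* QuaternionGroup 2)
    (h2 : (Q ⊔ Subgroup.centralizer (Q : Set G)).relIndex (Subgroup.normalizer (Q : Set G)) = 2) :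
    ¬ IsConj (emb S E (I l)) (emb S E ⟨2 * 0 + 1, true⟩) := by
  intro hfus
  obtain ⟨t, ht⟩ := quat_data S E hQS e
  set b := emb S E ⟨2 * t + 1, true⟩ with hb
  obtain ⟨g, hg⟩ := isConj_iff.1 (hfus.trans (conj_odd S E 0 t))
  rw [← hb] at hg
  set F := Subgroup.normalizer (Subgroup.zpowers b : Set G)
  refine index_ne_two S (F := F) ?_ ?_ ⟨g, ?_⟩ hQS ?_ ?_ h2
  · refine sup_le (quat_le_of_mem S E ht (mem_normalizer_zpowers ?_) (Subgroup.le_normalizer (Subgroup.mem_zpowers b))) ?_
    · right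
      rw [hb, ← map_inv, ← map_inv, ← map_mul, ← map_mul]
      congr 1
      simp only [I, mk_inv_false, mk_inv_true, mk_mul_false, mk_mul_true, Bool.not_false]
      congr 1
      unfold k
      linear_combination (-(l : ZMod (8 * l)) + t) * eight_l (l := l) + eight_l (l := l)
    · intro c hc
      refine mem_normalizer_zpowers (Or.inl ?_)
      rw [mul_inv_eq_iff_eq_mul]
      exact (Subgroup.mem_centralizer_iff.1 hc b ((ht _).2 ⟨_, b_mem _, rfl⟩)).symm
  · refine ⟨emb S E ⟨(1 - 2 * (l : ZMod (8 * l))) * (l : ZMod (8 * l)), false⟩,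
      mem_normalizer_of_map_le fun y hy => ?_, fun h => ?_⟩
    · obtain ⟨a, ha, rfl⟩ := (ht y).1 hy
      rw [← map_inv, ← map_mul, ← map_mul]
      refine (ht _).2 ⟨_, ?_, rfl⟩
      obtain ⟨s, rfl | rfl⟩ := ha
      · exact ⟨s, Or.inl (by simp)⟩
      · exact ⟨s + 1, Or.inr (by rw [conj_even]; congr 1; ring)⟩
    · have h' := (Subgroup.mem_normalizer_iff.1 h b).1 (Subgroup.mem_zpowers b)
      rw [Subgroup.mem_zpowers_iff] at h'
      obtain ⟨n, hn⟩ := h'
      rw [hb, ← map_inv, ← map_mul, ← map_mul, ← map_zpow, conj_even] at hn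
      have hc := ((Commute.refl (⟨2 * t + 1, true⟩ : QD l)).zpow_left n).eq
      rw [emb_injective S E hn] at hc
      rcases commute_true_iff.1 hc with h1 | h1 | h1 | h1
      · exact Bool.noConfusion (congrArg QD.e h1)
      · exact Bool.noConfusion (congrArg QD.e h1)
      · exact two_l_ne (l := l) (by linear_combination congrArg QD.i h1)
      · rw [C, mk_mul_false] at h1
        exact two_l_ne (l := l) (by linear_combination -congrArg QD.i h1)
  · rintro _ ⟨y, hy, rfl⟩
    obtain ⟨a, rfl⟩ := exists_emb S E hy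
    refine mem_normalizer_zpowers ?_
    simp only [MulEquiv.coe_toMonoidHom, MulAut.conj_apply]
    rw [← hg, show g * emb S E a * g⁻¹ * (g * emb S E (I l) * g⁻¹) * (g * emb S E a * g⁻¹)⁻¹ =
      g * (emb S E a * emb S E (I l) * (emb S E a)⁻¹) * g⁻¹ by group, ← map_inv (emb S E) a, ← map_mul, ← map_mul]
    rcases conj_I_cases a with h | h <;> rw [h]
    · exact Or.inl rfl
    · right; rw [map_inv]; group
  · rw [Nat.card_congr e.toEquiv, Nat.card_eq_fintype_card, QuaternionGroup.card, card_S S E]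
    have := NeZero.pos l; omega
  · intro k hk
    exact quat_cen S E hk ((Subgroup.equivMapOfInjective Q (MulAut.conj k).toMonoidHom
      (MulAut.conj k).injective).symm.trans e)

/-- Every involution is conjugate to one of two. -/
theorem inv_conj {y : G} (hy : orderOf y = 2) :
    IsConj (emb S E (C l)) y ∨ IsConj (emb S E ⟨2 * 0, true⟩) y := by
  have hp : IsPGroup 2 (Subgroup.zpowers y) := IsPGroup.of_card (n := 1) (by rw [Nat.card_zpowers, hy, pow_one])
  obtain ⟨P, hP⟩ := hp.exists_le_sylow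
  obtain ⟨g, rfl⟩ := MulAction.exists_smul_eq G S P
  have h1 := hP (Subgroup.mem_zpowers y)
  rw [Sylow.coe_subgroup_smul, Subgroup.mem_smul_pointwise_iff_exists] at h1
  obtain ⟨z, hz, rfl⟩ := h1
  have hzo : orderOf z = 2 := by
    rw [← hy]; exact (orderOf_injective (MulAut.conj g).toMonoidHom (MulAut.conj g).injective z).symm
  have hconj : IsConj z (MulAut.conj g • z) := isConj_iff.2 ⟨g, rfl⟩
  rcases inv_cases S E hz hzo with rfl | ⟨t, rfl⟩
  · exact Or.inl hconj
  · exact Or.inr ((conj_even' S E 0 t).trans hconj)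

/-- Every element of order four is conjugate to one of two. -/
theorem four_conj {y : G} (hy : orderOf y = 4) :
    IsConj (emb S E (I l)) y ∨ IsConj (emb S E ⟨2 * 0 + 1, true⟩) y := by
  have hp : IsPGroup 2 (Subgroup.zpowers y) := IsPGroup.of_card (n := 2) (by rw [Nat.card_zpowers, hy]; rfl)
  obtain ⟨P, hP⟩ := hp.exists_le_sylow
  obtain ⟨g, rfl⟩ := MulAction.exists_smul_eq G S P
  have h1 := hP (Subgroup.mem_zpowers y)
  rw [Sylow.coe_subgroup_smul, Subgroup.mem_smul_pointwise_iff_exists] at h1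
  obtain ⟨z, hz, rfl⟩ := h1
  obtain ⟨a, rfl⟩ := exists_emb S E hz
  have hzo : orderOf (emb S E a) = 4 := by
    rw [← hy]; exact (orderOf_injective (MulAut.conj g).toMonoidHom (MulAut.conj g).injective _).symm
  have hconj : IsConj (emb S E a) (MulAut.conj g • emb S E a) := isConj_iff.2 ⟨g, rfl⟩
  rw [orderOf_injective _ (emb_injective S E)] at hzo
  rcases four_cases' hzo with rfl | rfl | ⟨t, rfl⟩
  · exact Or.inl hconj
  · exact Or.inl ((isConj_inv_I S E).symm.trans hconj)
  · exact Or.inr ((conj_odd S E 0 t).trans hconj)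

theorem inv_classes_one (h : IsConj (emb S E (C l)) (emb S E ⟨2 * 0, true⟩)) :
    Nat.card {D : ConjClasses G // ∃ t : G, orderOf t = 2 ∧ ConjClasses.mk t = D} = 1 := by
  rw [card_classes_eq (P := fun t => orderOf t = 2) [emb S E (C l)]]
  · rfl
  · intro a ha
    rw [List.mem_singleton] at ha
    rw [ha, orderOf_injective _ (emb_injective S E), order_C]
  · intro t ht
    exact ⟨_, List.mem_singleton_self _, (inv_conj S E ht).elim id (fun h' => h.trans h')⟩
  · simp

theorem inv_classes_two (h : ¬ IsConj (emb S E (C l)) (emb S E ⟨2 * 0, true⟩)) :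
    Nat.card {D : ConjClasses G // ∃ t : G, orderOf t = 2 ∧ ConjClasses.mk t = D} = 2 := by
  rw [card_classes_eq (P := fun t => orderOf t = 2) [emb S E (C l), emb S E ⟨2 * 0, true⟩]]
  · rfl
  · intro a ha
    simp only [List.mem_cons, List.not_mem_nil, or_false] at ha
    rcases ha with rfl | rfl <;> rw [orderOf_injective _ (emb_injective S E)]
    · exact order_C
    · exact order_even 0
  · intro t ht
    rcases inv_conj S E ht with h' | h'
    · exact ⟨_, List.mem_cons_self, h'⟩
    · exact ⟨_, List.mem_cons_of_mem _ List.mem_cons_self, h'⟩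
  · exact List.pairwise_pair.2 h

theorem four_classes_one (h : IsConj (emb S E (I l)) (emb S E ⟨2 * 0 + 1, true⟩)) :
    Nat.card {D : ConjClasses G // ∃ t : G, orderOf t = 4 ∧ ConjClasses.mk t = D} = 1 := by
  rw [card_classes_eq (P := fun t => orderOf t = 4) [emb S E (I l)]]
  · rfl
  · intro a ha
    rw [List.mem_singleton] at ha
    rw [ha, orderOf_injective _ (emb_injective S E), order_I]
  · intro t ht
    exact ⟨_, List.mem_singleton_self _, (four_conj S E ht).elim id (fun h' => h.trans h')⟩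
  · simp

theorem four_classes_two (h : ¬ IsConj (emb S E (I l)) (emb S E ⟨2 * 0 + 1, true⟩)) :
    Nat.card {D : ConjClasses G // ∃ t : G, orderOf t = 4 ∧ ConjClasses.mk t = D} = 2 := by
  rw [card_classes_eq (P := fun t => orderOf t = 4) [emb S E (I l), emb S E ⟨2 * 0 + 1, true⟩]]
  · rfl
  · intro a ha
    simp only [List.mem_cons, List.not_mem_nil, or_false] at ha
    rcases ha with rfl | rfl <;> rw [orderOf_injective _ (emb_injective S E)]
    · exact order_I
    · exact order_odd 0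
  · intro t ht
    rcases four_conj S E ht with h' | h'
    · exact ⟨_, List.mem_cons_self, h'⟩
    · exact ⟨_, List.mem_cons_of_mem _ List.mem_cons_self, h'⟩
  · exact List.pairwise_pair.2 h

end Cfsg.Agent.QDFusion
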