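import Cfsg.Agent.Lib.CycSyl43Defs
import Cfsg.Agent.Lib.CycSyl43Assembly
import Cfsg.Agent.Lib.CycSyl43DihedralNorm
import Cfsg.Agent.Lib.CycSyl43SLFacts32
import Cfsg.Agent.Lib.QDFusion

/-!
The `SL(2,p)` configuration with semidihedral Sylow 2-subgroup: the centraliser of the central
involution, the four-group and the element permuting its involutions.
-/

set_option autoImplicit false
set_option linter.unusedSectionVars false

namespace Cfsg.Agent.CycSyl43SemiSLBase32

open Cfsg.Agent.CycSyl43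
open Cfsg.Agent.QDWreathQD (QD X Y C)
open Cfsg.Agent.QDFusion (emb emb_mem emb_injective exists_emb I inv_cases)
open Cfsg.Agent.CycSyl43DihedralNorm (cyclic_of_pgroup mem_zpowers_of_orderOf eq_one_of_odd_of_two)
open Cfsg.Agent.CycSyl43SLFacts32
open Cfsg.Agent.PSL2Elements (tr)
open scoped MatrixGroups

universe u

/-! ### General lemmas -/

section general

variable {G : Type u} [Group G] [Finite G]

theorem pm_of_mem_zpowers {a b : G} (hb : b ∈ Subgroup.zpowers a) {n : ℕ}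
    (hn : n = 3 ∨ n = 4) (ha : orderOf a = n) (hb' : orderOf b = n) : b = a ∨ b = a⁻¹ := by
  obtain ⟨j, hj⟩ := (isOfFinOrder_of_finite a).mem_powers_iff_mem_zpowers.2 hb
  replace hj : a ^ j = b := hj
  rw [← pow_mod_orderOf, ha] at hj
  subst hj
  have h0 : 0 < n := by omega
  have hlt := Nat.mod_lt j h0
  have hinv : a ^ (n - 1) = a⁻¹ := eq_inv_of_mul_eq_one_left (by
    rw [← pow_succ, show n - 1 + 1 = n by omega, ← ha, pow_orderOf_eq_one])
  generalize j % n = i at *
  rcases hn with rfl | rfl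
  · interval_cases i
    · simp at hb'
    · exact Or.inl (pow_one a)
    · exact Or.inr hinv
  · interval_cases i
    · simp at hb'
    · exact Or.inl (pow_one a)
    · rw [orderOf_pow, ha] at hb'
      norm_num at hb'
    · exact Or.inr hinv

theorem mem_zpowers_of_cyclic {H : Subgroup G} [IsCyclic H] {a b : G} (ha : a ∈ H) (hb : b ∈ H)
    (h : orderOf b = orderOf a) : b ∈ Subgroup.zpowers a := by
  obtain ⟨j, hj⟩ := Subgroup.mem_zpowers_iff.1
    (mem_zpowers_of_orderOf (H := H) (a := ⟨a, ha⟩) (b := ⟨b, hb⟩)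
      (by rw [Subgroup.orderOf_mk, Subgroup.orderOf_mk, h]))
  exact ⟨j, by simpa using congrArg Subtype.val hj⟩

/-- Two elements of a cyclic subgroup of order three or four generate the same subgroup. -/
theorem cyc_pm {x a b : G} (ha : a ∈ Subgroup.zpowers x) (hb : b ∈ Subgroup.zpowers x) {n : ℕ}
    (hn : n = 3 ∨ n = 4) (ha' : orderOf a = n) (hb' : orderOf b = n) : b = a ∨ b = a⁻¹ :=
  pm_of_mem_zpowers (mem_zpowers_of_cyclic ha hb (hb'.trans ha'.symm)) hn ha' hb'

theorem prime_unique (hodd : OddCyclic G) {r : ℕ} (hr : r.Prime) (hr2 : r ≠ 2) {a b : G}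
    (ha : orderOf a = r) (hb : orderOf b = r) (hc : a * b = b * a) :
    b ∈ Subgroup.zpowers a := by
  have := Fact.mk hr
  have hpa : IsPGroup r (Subgroup.zpowers a) :=
    IsPGroup.of_card (n := 1) (by rw [Nat.card_zpowers, ha, pow_one])
  have hpb : IsPGroup r (Subgroup.zpowers b) :=
    IsPGroup.of_card (n := 1) (by rw [Nat.card_zpowers, hb, pow_one])
  have hle : Subgroup.zpowers a ≤ Subgroup.normalizer (Subgroup.zpowers b : Set G) :=
    Subgroup.zpowers_le.2 (Subgroup.centralizer_le_normalizer _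
      (Subgroup.mem_centralizer_iff.2 fun z hz => by
        obtain ⟨j, rfl⟩ := Subgroup.mem_zpowers_iff.1 hz
        exact ((show Commute a b from hc).zpow_right j).eq.symm))
  have := cyclic_of_pgroup hodd hr hr2 _ (hpa.to_sup_of_normal_right' hpb hle)
  exact mem_zpowers_of_cyclic
    ((le_sup_left : Subgroup.zpowers a ≤ _) (Subgroup.mem_zpowers a))
    ((le_sup_right : Subgroup.zpowers b ≤ _) (Subgroup.mem_zpowers b)) (hb.trans ha.symm)

theorem orderOf_conj' (c a : G) : orderOf (c * a * c⁻¹) = orderOf a := by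
  rw [← MulAut.conj_apply, MulEquiv.orderOf_eq]

/-- Subgroups of a fixed odd prime order are conjugate. -/
theorem prime_conj (hodd : OddCyclic G) {r : ℕ} (hr : r.Prime) (hr2 : r ≠ 2) {a b : G}
    (ha : orderOf a = r) (hb : orderOf b = r) : ∃ c, c * a * c⁻¹ ∈ Subgroup.zpowers b := by
  have := Fact.mk hr
  obtain ⟨P, hP⟩ := (IsPGroup.of_card (n := 1) (G := Subgroup.zpowers a) (p := r)
    (by rw [Nat.card_zpowers, ha, pow_one])).exists_le_sylow
  obtain ⟨Q, hQ⟩ := (IsPGroup.of_card (n := 1) (G := Subgroup.zpowers b) (p := r)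
    (by rw [Nat.card_zpowers, hb, pow_one])).exists_le_sylow
  obtain ⟨c, hc⟩ := MulAction.exists_smul_eq G P Q
  refine ⟨c, ?_⟩
  have h1 : c * a * c⁻¹ ∈ (Q : Subgroup G) := by
    rw [← hc, Sylow.coe_subgroup_smul]
    exact ⟨a, hP (Subgroup.mem_zpowers a), rfl⟩
  have := hodd r hr hr2 Q
  exact mem_zpowers_of_cyclic (hQ (Subgroup.mem_zpowers b)) h1
    (by rw [orderOf_conj', ha, hb])

/-- A subgroup of index two, given by a representative of the other coset. -/
theorem card_double {A K : Subgroup G} {a : G} (hKA : K ≤ A) (ha : a ∈ A) (haK : a ∉ K)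
    (h : ∀ x ∈ A, x ∈ K ∨ x * a⁻¹ ∈ K) : Nat.card A = 2 * Nat.card K := by
  classical
  let f : K ⊕ K → A := Sum.elim (fun k => ⟨k, hKA k.2⟩) fun k => ⟨k * a, mul_mem (hKA k.2) ha⟩
  have hf : Function.Bijective f := by
    refine ⟨fun x y hxy => ?_, fun x => ?_⟩
    · have e := congrArg Subtype.val hxy
      rcases x with k | k <;> rcases y with k' | k' <;> simp [f] at e
      · rw [e]
      · exact absurd ((K.mul_mem_cancel_left k'.2).1 (e ▸ k.2)) haK
      · exact absurd ((K.mul_mem_cancel_left k.2).1 (e ▸ k'.2)) haK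
      · rw [e]
    · rcases h x x.2 with hx | hx
      · exact ⟨Sum.inl ⟨x, hx⟩, rfl⟩
      · exact ⟨Sum.inr ⟨x * a⁻¹, hx⟩, Subtype.ext (inv_mul_cancel_right (x : G) a)⟩
  rw [← Nat.card_congr (Equiv.ofBijective f hf), Nat.card_sum]
  ring

end general

/-! ### The configuration -/

variable {T : Type u} [Group T] [Finite T] {S : Sylow 2 T} {t : T} {O L : Subgroup T} {p : ℕ}

/-- The configuration with chosen isomorphisms. -/
structure Ctx (S : Sylow 2 T) (t : T) (O L : Subgroup T) (p : ℕ) where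
  hs : SemiSL S t O L p
  hodd : OddCyclic T
  m : ℕ
  E : QD (2 ^ m) ≃* (S : Subgroup T)
  e : L ≃* SL(2, ZMod p)

instance neZeroTwoPow (m : ℕ) : NeZero (2 ^ m) := ⟨by positivity⟩

theorem exists_ctx (hs : SemiSL S t O L p) (hodd : OddCyclic T) :
    Nonempty (Ctx S t O L p) := by
  obtain ⟨n, -, -, l, -, rfl, ⟨E⟩⟩ := QDWreathQD.exists_equiv hs.iso
  obtain ⟨e⟩ := hs.isoL
  exact ⟨⟨hs, hodd, n - 3, E, e⟩⟩

namespace Ctx

variable (c : Ctx S t O L p)
include c

/-- The embedding of the model. -/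
def em : QD (2 ^ c.m) →* T := emb S c.E

/-- An element generating the cyclic maximal subgroup. -/
def sg : T := c.em (X _)

/-- An involution outside. -/
def iu : T := c.em (Y _)

/-- The element of order four. -/
def qs : T := c.em (I _)

/-- A second element of order four. -/
def qb : T := c.em ⟨1, true⟩

theorem em_injective : Function.Injective c.em := emb_injective S c.E

theorem em_mem (a : QD (2 ^ c.m)) : c.em a ∈ (S : Subgroup T) := emb_mem S c.E a

theorem em_cent (a : QD (2 ^ c.m)) : c.em a ∈ Subgroup.centralizer ({t} : Set T) :=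
  Subgroup.mem_centralizer_singleton_iff.2 (c.hs.central _ (c.em_mem a))

theorem t_sq : t * t = 1 := by
  have h := c.hs.ot
  rw [← sq, ← h, pow_orderOf_eq_one]

theorem t_inv : t⁻¹ = t := inv_eq_of_mul_eq_one_left c.t_sq

theorem t_ne : t ≠ 1 := fun h => by
  have := c.hs.ot
  simp [h] at this

theorem t_eq : c.em (C _) = t := by
  rcases inv_cases S c.E c.hs.mem c.hs.ot with h | ⟨i, h⟩
  · exact h.symm
  · exfalso
    have h1 := c.hs.central _ (c.em_mem (X _))
    have h' : c.em ⟨2 * i, true⟩ = t := h.symm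
    have h2 : X (2 ^ c.m) * ⟨2 * i, true⟩ = ⟨2 * i, true⟩ * X (2 ^ c.m) :=
      c.em_injective (by rw [map_mul, map_mul]; simp only [h']; exact h1)
    rcases QDWreathQD.commute_true_iff.1 h2 with e | e | e | e <;>
      simp [X, C, QDWreathQD.one_def, QD.ext_iff] at e
    · have h8 : ((1 : ℕ) : ZMod (8 * 2 ^ c.m)) = 0 := by push_cast; exact e
      rw [ZMod.natCast_eq_zero_iff] at h8
      have := Nat.le_of_dvd one_pos h8
      have := Nat.one_le_two_pow (n := c.m)
      omega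
    · have := congrArg (fun z => 2 * z) e
      simp only [mul_one] at this
      have h8 : ((2 : ℕ) : ZMod (8 * 2 ^ c.m)) = 0 := by
        have := QDWreathQD.eight_l (l := 2 ^ c.m)
        push_cast at *
        linear_combination 2 * e + this
      rw [ZMod.natCast_eq_zero_iff] at h8
      have := Nat.le_of_dvd two_pos h8
      have := Nat.one_le_two_pow (n := c.m)
      omega

/-- The product of the two normal subgroups. -/
def M : Subgroup T where
  carrier := {x | ∃ y ∈ O, ∃ l ∈ L, y * l = x}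
  one_mem' := ⟨1, one_mem _, 1, one_mem _, one_mul 1⟩
  mul_mem' := by
    rintro _ _ ⟨y, hy, l, hl, rfl⟩ ⟨y', hy', l', hl', rfl⟩
    refine ⟨y * y', mul_mem hy hy', l * l', mul_mem hl hl', ?_⟩
    rw [mul_assoc, ← mul_assoc y' l l', c.hs.comm y' hy' l hl]
    group
  inv_mem' := by
    rintro _ ⟨y, hy, l, hl, rfl⟩
    refine ⟨y⁻¹, inv_mem hy, l⁻¹, inv_mem hl, ?_⟩
    rw [mul_inv_rev, c.hs.comm _ (inv_mem hy) _ (inv_mem hl)]

theorem M_eq : c.M = O ⊔ L := by
  refine le_antisymm ?_ (sup_le (fun y hy => ⟨y, hy, 1, one_mem _, mul_one y⟩)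
    fun l hl => ⟨1, one_mem _, l, hl, one_mul l⟩)
  rintro _ ⟨y, hy, l, hl, rfl⟩
  exact mul_mem ((le_sup_left : O ≤ _) hy) ((le_sup_right : L ≤ _) hl)

theorem M_le : c.M ≤ Subgroup.centralizer ({t} : Set T) :=
  c.M_eq ▸ sup_le c.hs.le c.hs.leL

theorem L_le_M : L ≤ c.M := fun l hl => ⟨1, one_mem _, l, hl, one_mul l⟩

theorem O_le_M : O ≤ c.M := fun y hy => ⟨y, hy, 1, one_mem _, mul_one y⟩

theorem t_mem_M : t ∈ c.M := c.L_le_M c.hs.tL

theorem split_unique {y y' l l' : T} (hy : y ∈ O) (hy' : y' ∈ O) (hl : l ∈ L) (hl' : l' ∈ L)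
    (h : y * l = y' * l') : y = y' ∧ l = l' := by
  have h1 : y'⁻¹ * y = l' * l⁻¹ := by
    rw [eq_mul_inv_iff_mul_eq, mul_assoc, h, inv_mul_cancel_left]
  have h2 : y'⁻¹ * y ∈ O ⊓ L :=
    Subgroup.mem_inf.2 ⟨mul_mem (inv_mem hy') hy, h1 ▸ mul_mem hl' (inv_mem hl)⟩
  rw [c.hs.disj, Subgroup.mem_bot, inv_mul_eq_one] at h2
  exact ⟨h2.symm, mul_left_cancel (h2 ▸ h)⟩

theorem card_M : Nat.card c.M = Nat.card O * Nat.card L := by
  let f : O × L → c.M := fun z => ⟨z.1 * z.2, z.1, z.1.2, z.2, z.2.2, rfl⟩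
  have hf : Function.Bijective f := by
    refine ⟨fun z z' h => ?_, fun ⟨x, y, hy, l, hl, h⟩ => ⟨(⟨y, hy⟩, ⟨l, hl⟩), Subtype.ext h⟩⟩
    obtain ⟨h1, h2⟩ := c.split_unique z.1.2 z'.1.2 z.2.2 z'.2.2 (congrArg Subtype.val h)
    exact Prod.ext (Subtype.ext h1) (Subtype.ext h2)
  rw [← Nat.card_congr (Equiv.ofBijective f hf), Nat.card_prod]

theorem coprime : (Nat.card O).Coprime (Nat.card L) := by
  by_contra hne
  obtain ⟨r, hr, h1, h2⟩ := Nat.Prime.not_coprime_iff_dvd.1 hne
  have := Fact.mk hr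
  have hr2 : r ≠ 2 := fun e => Nat.not_even_iff_odd.2 (c.hs.odd.of_dvd_nat h1) (e ▸ even_two)
  obtain ⟨a, ha⟩ := exists_prime_orderOf_dvd_card' r h1
  obtain ⟨b, hb⟩ := exists_prime_orderOf_dvd_card' r h2
  rw [← Subgroup.orderOf_coe] at ha hb
  have h3 : (a : T) ∈ Subgroup.zpowers (b : T) :=
    prime_unique c.hodd hr hr2 hb ha (c.hs.comm a a.2 b b.2).symm
  have h4 : (a : T) ∈ O ⊓ L := ⟨a.2, Subgroup.zpowers_le.2 b.2 h3⟩
  rw [c.hs.disj, Subgroup.mem_bot] at h4
  rw [h4, orderOf_one] at ha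
  exact hr.ne_one ha.symm

/-- Elements of `M` of order prime to `|O|` lie in `L`. -/
theorem mem_L_of_pow {x : T} (hx : x ∈ c.M) {n : ℕ} (hn : n.Coprime (Nat.card O))
    (h : x ^ n = 1) : x ∈ L := by
  obtain ⟨y, hy, l, hl, rfl⟩ := hx
  rw [(show Commute y l from c.hs.comm y hy l hl).mul_pow] at h
  have := (c.split_unique (pow_mem hy n) (one_mem _) (pow_mem hl n) (one_mem _)
    (by rw [h, one_mul])).1
  have h1 : y = 1 := by
    rw [← orderOf_eq_one_iff]
    exact Nat.eq_one_of_dvd_coprimes hn (orderOf_dvd_of_pow_eq_one this)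
      (Subgroup.orderOf_dvd_natCard O hy)
  rwa [h1, one_mul]

theorem mem_L_of_two {x : T} (hx : x ∈ c.M) {n : ℕ} (h : x ^ (2 ^ n) = 1) : x ∈ L :=
  c.mem_L_of_pow hx ((Nat.coprime_two_left.2 c.hs.odd).pow_left n) h

theorem two_pow_of_mem_S {x : T} (hx : x ∈ (S : Subgroup T)) : ∃ n : ℕ, x ^ (2 ^ n) = 1 := by
  obtain ⟨n, hn⟩ := S.2 ⟨x, hx⟩
  exact ⟨n, by simpa using congrArg Subtype.val hn⟩

theorem index_two : (c.M.subgroupOf (Subgroup.centralizer ({t} : Set T))).index = 2 := by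
  rw [c.M_eq]
  exact c.hs.index

theorem card_cent : Nat.card (Subgroup.centralizer ({t} : Set T)) = 2 * (Nat.card O * Nat.card L) := by
  rw [← Subgroup.index_mul_card (c.M.subgroupOf (Subgroup.centralizer ({t} : Set T))), c.index_two,
    Nat.card_congr (Subgroup.subgroupOfEquivOfLe c.M_le).toEquiv, c.card_M]

theorem mul_mem_M_iff {a b : T} (ha : a ∈ Subgroup.centralizer ({t} : Set T))
    (hb : b ∈ Subgroup.centralizer ({t} : Set T)) : a * b ∈ c.M ↔ (a ∈ c.M ↔ b ∈ c.M) :=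
  Subgroup.mul_mem_iff_of_index_two c.index_two (a := ⟨a, ha⟩) (b := ⟨b, hb⟩)

theorem sq_mem_M {a : T} (ha : a ∈ Subgroup.centralizer ({t} : Set T)) : a * a ∈ c.M :=
  (c.mul_mem_M_iff ha ha).2 Iff.rfl

theorem pow_odd_mem_M {a : T} (ha : a ∈ Subgroup.centralizer ({t} : Set T)) {n : ℕ} (hn : Odd n)
    (h : a ^ n ∈ c.M) : a ∈ c.M := by
  obtain ⟨j, rfl⟩ := hn
  rw [pow_succ, pow_mul, sq] at h
  exact (c.M.mul_mem_cancel_left (pow_mem (c.sq_mem_M ha) j)).1 h

theorem conj_M {a x : T} (ha : a ∈ Subgroup.centralizer ({t} : Set T)) (hx : x ∈ c.M) :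
    a * x * a⁻¹ ∈ c.M := by
  obtain ⟨y, hy, l, hl, rfl⟩ := hx
  exact ⟨_, c.hs.normal a ha y hy, _, c.hs.normalL a ha l hl, by group⟩

section field

variable [Fact p.Prime]

theorem five : 5 ≤ p := c.hs.five

theorem p_ne : p ≠ 2 := by have := c.five; omega

/-- The automorphism of `SL(2,p)` induced by an element of the centraliser. -/
def psi {a : T} (ha : a ∈ Subgroup.centralizer ({t} : Set T)) :
    SL(2, ZMod p) ≃* SL(2, ZMod p) :=
  c.e.symm.trans ((
    { toFun := fun l => ⟨a * l * a⁻¹, c.hs.normalL a ha l l.2⟩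
      invFun := fun l => ⟨a⁻¹ * l * a, by simpa using c.hs.normalL a⁻¹ (inv_mem ha) l l.2⟩
      left_inv := fun l => Subtype.ext (show a⁻¹ * (a * (l : T) * a⁻¹) * a = l by group)
      right_inv := fun l => Subtype.ext (show a * (a⁻¹ * (l : T) * a) * a⁻¹ = l by group)
      map_mul' := fun l l' => Subtype.ext
        (show a * ((l : T) * l') * a⁻¹ = a * l * a⁻¹ * (a * l' * a⁻¹) by group) } :
      L ≃* L).trans c.e)

theorem psi_apply {a : T} (ha : a ∈ Subgroup.centralizer ({t} : Set T)) (l : L) :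
    c.psi ha (c.e l) = c.e ⟨a * l * a⁻¹, c.hs.normalL a ha l l.2⟩ := by
  simp [psi]

theorem eq_t_of_involution {x : T} (hx : x ∈ c.M) (h : x * x = 1) (h1 : x ≠ 1) : x = t := by
  have hL := c.mem_L_of_two hx (n := 1) (by rw [pow_one, sq, h])
  have key : ∀ z : L, z * z = 1 → z ≠ 1 → c.e z = -1 := fun z hz hz1 => by
    rcases PSL2Elements.eq_one_or_neg_one_of_sq_eq_one (two_ne c.p_ne)
      (A := c.e z) (by rw [sq, ← map_mul, hz, map_one]) with e | e
    · exact absurd (c.e.injective (e.trans (map_one c.e).symm)) hz1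
    · exact e
  have e1 := key ⟨x, hL⟩ (Subtype.ext h) (fun e => h1 (congrArg Subtype.val e))
  have e2 := key ⟨t, c.hs.tL⟩ (Subtype.ext c.t_sq) (fun e => c.t_ne (congrArg Subtype.val e))
  exact congrArg Subtype.val (c.e.injective (e1.trans e2.symm))

theorem e_t : c.e ⟨t, c.hs.tL⟩ = -1 := by
  rcases PSL2Elements.eq_one_or_neg_one_of_sq_eq_one (two_ne c.p_ne)
    (A := c.e ⟨t, c.hs.tL⟩) (by rw [sq, ← map_mul]; simp [c.t_sq, ← Subgroup.coe_one]) with e | e
  · exact absurd (congrArg Subtype.val (c.e.injective (e.trans (map_one c.e).symm))) c.t_ne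
  · exact e

theorem iu_sq : c.iu * c.iu = 1 := by
  rw [iu, ← map_mul]
  simp [Y, ← QDWreathQD.one_def]

theorem iu_inv : c.iu⁻¹ = c.iu := inv_eq_of_mul_eq_one_left c.iu_sq

theorem iu_ne : c.iu ≠ 1 := by
  intro h
  rw [iu, ← map_one c.em] at h
  simpa [Y, QDWreathQD.one_def] using c.em_injective h

theorem iu_ne_t : c.iu ≠ t := by
  intro h
  rw [iu] at h
  simpa [Y, C] using c.em_injective (h.trans c.t_eq.symm)

theorem iu_order : orderOf c.iu = 2 := orderOf_eq_prime (by rw [sq, c.iu_sq]) c.iu_ne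

theorem iu_cent : c.iu ∈ Subgroup.centralizer ({t} : Set T) := c.em_cent _

theorem iu_comm : c.iu * t = t * c.iu := Subgroup.mem_centralizer_singleton_iff.1 c.iu_cent

theorem iu_not_mem : c.iu ∉ c.M := fun h => c.iu_ne_t (c.eq_t_of_involution h c.iu_sq c.iu_ne)

theorem mem_or {x : T} (hx : x ∈ Subgroup.centralizer ({t} : Set T)) :
    x ∈ c.M ∨ x * c.iu ∈ c.M := by
  by_cases h : x ∈ c.M
  · exact Or.inl h
  · exact Or.inr ((c.mul_mem_M_iff hx c.iu_cent).2 (iff_of_false h c.iu_not_mem))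

/-- Elements of `C(t)` centralising `L` lie in `M`. -/
theorem cent_mem_M {x : T} (hx : x ∈ Subgroup.centralizer ({t} : Set T))
    (hL : ∀ l ∈ L, x * l = l * x) : x ∈ c.M := by
  by_contra hxM
  obtain ⟨a, n, hn, hxo⟩ := Nat.exists_eq_two_pow_mul_odd (n := orderOf x) (orderOf_pos x).ne'
  set y := x ^ n with hy
  have hyC : y ∈ Subgroup.centralizer ({t} : Set T) := pow_mem hx n
  have hyM : y ∉ c.M := fun h => hxM (c.pow_odd_mem_M hx hn h)
  have hyL : ∀ l ∈ L, Commute y l := fun l hl => (show Commute x l from hL l hl).pow_left n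
  have hy2 : y ^ (2 ^ a) = 1 := by rw [hy, ← pow_mul, mul_comm, ← hxo, pow_orderOf_eq_one]
  -- move it into `S`
  have hSC : (S : Subgroup T) ≤ Subgroup.centralizer ({t} : Set T) := fun z hz =>
    Subgroup.mem_centralizer_singleton_iff.2 (c.hs.central z hz)
  have hZp : IsPGroup 2 (Subgroup.zpowers (⟨y, hyC⟩ : Subgroup.centralizer ({t} : Set T))) := by
    rintro ⟨w, hw⟩
    obtain ⟨j, rfl⟩ := Subgroup.mem_zpowers_iff.1 hw
    refine ⟨a, Subtype.ext (Subtype.ext ?_)⟩
    simp only [SubmonoidClass.coe_pow, SubgroupClass.coe_zpow, OneMemClass.coe_one]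
    rw [← zpow_natCast (y ^ j), ← zpow_mul, mul_comm, zpow_mul, zpow_natCast, hy2, one_zpow]
  obtain ⟨P, hP⟩ := hZp.exists_le_sylow
  obtain ⟨g, hg⟩ := MulAction.exists_smul_eq (Subgroup.centralizer ({t} : Set T)) P (S.subtype hSC)
  set z := (g : T) * y * (g : T)⁻¹ with hz
  have hzS : z ∈ (S : Subgroup T) := by
    have : g * ⟨y, hyC⟩ * g⁻¹ ∈
        ((S.subtype hSC : Sylow 2 _) : Subgroup (Subgroup.centralizer ({t} : Set T))) := by
      rw [← hg, Sylow.coe_subgroup_smul]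
      exact ⟨⟨y, hyC⟩, hP (Subgroup.mem_zpowers _), rfl⟩
    simpa [Sylow.coe_subtype, Subgroup.mem_subgroupOf] using this
  have hzM : z ∉ c.M := fun h => hyM (by
    have := c.conj_M (inv_mem g.2) h
    simpa [hz, mul_assoc] using this)
  have hzL : ∀ l ∈ L, Commute z l := by
    intro l hl
    have h1 := hyL _ (show (g : T)⁻¹ * l * g ∈ L by
      simpa using c.hs.normalL _ (inv_mem g.2) l hl)
    have e : l = (g : T) * ((g : T)⁻¹ * l * g) * (g : T)⁻¹ := by group
    rw [e]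
    exact h1.map (MulAut.conj (g : T)).toMonoidHom
  have hzC : ∀ s ∈ (S : Subgroup T), Commute z s := by
    intro s hs'
    by_cases hsM : s ∈ c.M
    · obtain ⟨n, hn⟩ := c.two_pow_of_mem_S hs'
      exact hzL s (c.mem_L_of_two hsM hn)
    · have h1 : s * z ∈ c.M :=
        (c.mul_mem_M_iff (hSC hs') (hSC hzS)).2 (iff_of_false hsM hzM)
      obtain ⟨n, hn⟩ := c.two_pow_of_mem_S (mul_mem hs' hzS)
      have h2 := hzL _ (c.mem_L_of_two h1 hn)
      exact mul_right_cancel (b := z) (by rw [mul_assoc]; exact h2)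
  obtain ⟨q, hq⟩ := exists_emb S c.E hzS
  have hq' : ∀ r, q * r = r * q := fun r => c.em_injective (by
    rw [map_mul, map_mul]
    show emb S c.E q * _ = _ * emb S c.E q
    rw [hq]
    exact hzC _ (c.em_mem r))
  rcases QDWreathQD.commute_true_iff.1 (hq' (Y _)) with e | e | e | e
  · exact hzM (by rw [← hq, e, map_one]; exact one_mem _)
  · exact hzM (by rw [← hq, e]; simp only [show emb S c.E (C _) = t from c.t_eq]; exact c.t_mem_M)
  all_goals
    have h1 := hq' (X _)
    have h1' : X _ * q = q * X _ := h1.symm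
    rw [e] at h1'
    have h2 : X (2 ^ c.m) * ⟨0, true⟩ = ⟨0, true⟩ * X (2 ^ c.m) := by
      first
        | exact h1'
        | (rw [← mul_assoc, QDWreathQD.C_central, mul_assoc, mul_assoc] at h1'
           exact mul_left_cancel h1')
    have h3 := c.t_eq
    rcases QDWreathQD.commute_true_iff.1 h2 with e | e | e | e <;>
      simp [X, C, QDWreathQD.one_def, QD.ext_iff] at e
    · have h8 : ((1 : ℕ) : ZMod (8 * 2 ^ c.m)) = 0 := by push_cast; exact e
      rw [ZMod.natCast_eq_zero_iff] at h8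
      have := Nat.le_of_dvd one_pos h8
      have := Nat.one_le_two_pow (n := c.m)
      omega
    · have h8 : ((2 : ℕ) : ZMod (8 * 2 ^ c.m)) = 0 := by
        have := QDWreathQD.eight_l (l := 2 ^ c.m)
        push_cast at *
        linear_combination 2 * e + this
      rw [ZMod.natCast_eq_zero_iff] at h8
      have := Nat.le_of_dvd two_pos h8
      have := Nat.one_le_two_pow (n := c.m)
      omega

theorem psi_outer {a : T} (ha : a ∈ Subgroup.centralizer ({t} : Set T)) (haM : a ∉ c.M) :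
    Outer (c.psi ha) := by
  rintro ⟨w, hw⟩
  obtain ⟨w, rfl⟩ := c.e.surjective w
  refine haM ?_
  have h1 : (w : T)⁻¹ * a ∈ c.M := by
    refine c.cent_mem_M (mul_mem (inv_mem (c.hs.leL w.2)) ha) fun l hl => ?_
    have := hw (c.e ⟨l, hl⟩)
    rw [c.psi_apply ha, ← map_inv, ← map_mul, ← map_mul] at this
    have h2 : a * l * a⁻¹ = (w : T) * l * (w : T)⁻¹ := congrArg Subtype.val (c.e.injective this)
    rw [mul_inv_eq_iff_eq_mul] at h2
    rw [mul_assoc, h2]
    group
  exact (c.M.mul_mem_cancel_left (inv_mem (c.L_le_M w.2))).1 h1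

theorem psi_u_sq (A : SL(2, ZMod p)) : c.psi c.iu_cent (c.psi c.iu_cent A) = A := by
  obtain ⟨l, rfl⟩ := c.e.surjective A
  rw [c.psi_apply, c.psi_apply]
  refine congrArg c.e (Subtype.ext ?_)
  show c.iu * (c.iu * (l : T) * c.iu⁻¹) * c.iu⁻¹ = l
  rw [c.iu_inv]
  calc c.iu * (c.iu * (l : T) * c.iu) * c.iu = (c.iu * c.iu) * l * (c.iu * c.iu) := by group
    _ = l := by rw [c.iu_sq, one_mul, mul_one]

end field

end Ctx

end Cfsg.Agent.CycSyl43SemiSLBase32
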