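import Cfsg.Agent.Lib.CycSyl43SemiSLFour32

/-!
The `SL(2,p)` configuration: centralisers of elements in the odd part of the torus fixed by the outer
involution; three divides the order of that part.
-/

set_option autoImplicit false
set_option linter.unusedSectionVars false

namespace Cfsg.Agent.CycSyl43SemiSLCen32

open Cfsg.Agent.CycSyl43
open Cfsg.Agent.CycSyl43SemiSLBase32
open Cfsg.Agent.CycSyl43SemiSLFour32
open Cfsg.Agent.CycSyl43DihedralNorm (cyclic_of_pgroup eq_one_of_odd_of_two)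
open Cfsg.Agent.QDWreathQD (QD X Y)
open Cfsg.Agent.CycSyl43SLFacts32
open scoped MatrixGroups

universe u

section general

variable {G : Type u} [Group G] [Finite G]

theorem mem_of_coprime_pows {K : Subgroup G} {n : G} {a b : ℕ} (hab : a.Coprime b)
    (ha : n ^ a ∈ K) (hb : n ^ b ∈ K) : n ∈ K := by
  have h := Nat.gcd_eq_gcd_ab a b
  rw [Nat.Coprime.gcd_eq_one hab, Nat.cast_one] at h
  have e : n = (n ^ a) ^ Nat.gcdA a b * (n ^ b) ^ Nat.gcdB a b := by
    rw [← zpow_natCast, ← zpow_natCast, ← zpow_mul, ← zpow_mul, ← zpow_add, ← h, zpow_one]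
  rw [e]
  exact mul_mem (zpow_mem ha _) (zpow_mem hb _)

/-- A cyclic Sylow subgroup containing a central element of order `q` is centralised by its
normaliser. -/
theorem central_normalizer {q : ℕ} [Fact q.Prime] (P : Sylow q G) [hP : IsCyclic (P : Subgroup G)]
    {a : G} (ha : orderOf a = q) (hc : ∀ x, x * a = a * x) :
    Subgroup.normalizer ((P : Subgroup G) : Set G) ≤ Subgroup.centralizer ((P : Subgroup G) : Set G) := by
  have hpa : IsPGroup q (Subgroup.zpowers a) :=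
    IsPGroup.of_card (n := 1) (by rw [Nat.card_zpowers, ha, pow_one])
  have hle : Subgroup.zpowers a ≤ Subgroup.normalizer ((P : Subgroup G) : Set G) :=
    Subgroup.zpowers_le.2 (Subgroup.centralizer_le_normalizer _
      (Subgroup.mem_centralizer_iff.2 fun z _ => hc z))
  have haP : a ∈ (P : Subgroup G) := by
    have := P.3 (hpa.to_sup_of_normal_right' P.2 hle) le_sup_right
    rw [← this]
    exact (le_sup_left : Subgroup.zpowers a ≤ _) (Subgroup.mem_zpowers a)
  obtain ⟨g, hg⟩ := IsCyclic.exists_generator (α := (P : Subgroup G))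
  obtain ⟨e, he⟩ := IsPGroup.iff_card.1 P.2
  intro n hn
  obtain ⟨m, hm⟩ := Subgroup.mem_zpowers_iff.1
    (hg ⟨n * g * n⁻¹, CoprimeAction.conj_mem hn g.2⟩)
  have hgm : (g : G) ^ m = n * g * n⁻¹ := by simpa using congrArg Subtype.val hm
  obtain ⟨j, hj⟩ := Subgroup.mem_zpowers_iff.1 (hg ⟨a, haP⟩)
  have hgj : (g : G) ^ j = a := by simpa using congrArg Subtype.val hj
  have h1 : a ^ m = a := by
    calc a ^ m = n * a * n⁻¹ := by rw [← hgj, ← conj_zpow, ← hgm, ← zpow_mul, ← zpow_mul, mul_comm]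
      _ = a := by rw [hc n, mul_inv_cancel_right]
  have h2 : (q : ℤ) ∣ m - 1 := by
    have h3 : a ^ (m - 1) = 1 := by rw [zpow_sub, zpow_one, h1, mul_inv_cancel]
    rw [← orderOf_dvd_iff_zpow_eq_one, ha] at h3
    exact h3
  have h3 := dvd_sub_pow_of_dvd_sub h2 e
  rw [one_pow] at h3
  have hcc : ∀ i : ℕ, n ^ i * g * (n ^ i)⁻¹ = (g : G) ^ (m ^ i) := by
    intro i
    induction i with
    | zero => simp
    | succ i ih =>
      rw [pow_succ' n, show n * n ^ i * (g : G) * (n * n ^ i)⁻¹ = n * (n ^ i * g * (n ^ i)⁻¹) * n⁻¹ by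
        group, ih, ← conj_zpow, ← hgm, ← zpow_mul, ← pow_succ']
  have hfix : n ^ (q ^ e) ∈ Subgroup.centralizer ((P : Subgroup G) : Set G) := by
    refine Subgroup.mem_centralizer_iff.2 fun x hx => ?_
    obtain ⟨i, hi⟩ := Subgroup.mem_zpowers_iff.1 (hg ⟨x, hx⟩)
    have hxi : (g : G) ^ i = x := by simpa using congrArg Subtype.val hi
    have h4 : n ^ (q ^ e) * (g : G) * (n ^ (q ^ e))⁻¹ = g := by
      rw [hcc]
      conv_rhs => rw [← zpow_one (g : G)]
      rw [← mul_inv_eq_one, ← zpow_sub, ← orderOf_dvd_iff_zpow_eq_one]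
      refine Int.dvd_trans ?_ (dvd_trans ⟨(q : ℤ), pow_succ _ _⟩ h3)
      have := Subgroup.orderOf_dvd_natCard _ g.2
      rw [he] at this
      exact_mod_cast this
    rw [← hxi]
    exact ((show Commute (n ^ (q ^ e)) (g : G) from mul_inv_eq_iff_eq_mul.1 h4).zpow_right i).symm.eq
  set C := (Subgroup.centralizer ((P : Subgroup G) : Set G)).subgroupOf
    (Subgroup.normalizer ((P : Subgroup G) : Set G)) with hC
  have hCn : C.Normal := by
    rw [hC, ← Subgroup.normalizerMonoidHom_ker]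
    infer_instance
  have hidx := C.pow_index_mem (⟨n, hn⟩ : Subgroup.normalizer ((P : Subgroup G) : Set G))
  refine mem_of_coprime_pows (a := q ^ e) (b := C.index) ?_ hfix hidx
  refine Nat.Coprime.pow_left _ ((Nat.Prime.coprime_iff_not_dvd Fact.out).2 fun h => P.not_dvd_index ?_)
  refine h.trans ?_
  have : (P : Subgroup G) ≤ Subgroup.centralizer ((P : Subgroup G) : Set G) :=
    fun x hx => Subgroup.mem_centralizer_iff.2 fun y hy =>
      Subgroup.mul_comm_of_mem_isMulCommutative (P : Subgroup G) hy hx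
  exact (Subgroup.relIndex_dvd_of_le_left _ this).trans
    (Subgroup.relIndex_dvd_index_of_le Subgroup.le_normalizer)

/-- Burnside's transfer theorem for a subgroup, in the ambient group. -/
theorem burnside_sub {q : ℕ} [hq : Fact q.Prime] (C : Subgroup G) (P : Sylow q C)
    (h : Subgroup.normalizer ((P : Subgroup C) : Set C) ≤
      Subgroup.centralizer ((P : Subgroup C) : Set C)) :
    ∃ N : Subgroup G, N ≤ C ∧ Nat.card N * Nat.card (P : Subgroup C) = Nat.card C ∧
      ¬ q ∣ Nat.card N ∧ ∀ x ∈ C, (x ∈ N ↔ ¬ q ∣ orderOf x) := by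
  have hc := MonoidHom.ker_transferSylow_isComplement' P h
  set K := (MonoidHom.transferSylow P h).ker
  refine ⟨K.map C.subtype, Subgroup.map_subtype_le _, ?_, ?_, fun x hx => ?_⟩
  · rw [Subgroup.card_map_of_injective C.subtype_injective]
    exact hc.card_mul
  · rw [Subgroup.card_map_of_injective C.subtype_injective]
    exact MonoidHom.not_dvd_card_ker_transferSylow P h
  constructor
  · rintro ⟨y, hy, rfl⟩ hd
    refine MonoidHom.not_dvd_card_ker_transferSylow P h (hd.trans ?_)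
    exact (Subgroup.orderOf_coe y).symm ▸ Subgroup.orderOf_dvd_natCard K hy
  · intro hd
    refine ⟨⟨x, hx⟩, ?_, rfl⟩
    obtain ⟨e, he⟩ := IsPGroup.iff_card.1 P.2
    have hidx : K.index = q ^ e := by rw [hc.symm.index_eq_card, he]
    exact mem_of_coprime_pows (a := q ^ e) (b := orderOf x)
      (((Nat.Prime.coprime_iff_not_dvd hq.out).2 hd).pow_left e)
      (by rw [← hidx]; exact K.pow_index_mem _)
      (by
        have : (⟨x, hx⟩ : C) ^ orderOf x = 1 := Subtype.ext (by simp [pow_orderOf_eq_one])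
        rw [this]; exact one_mem _)

theorem exists_order {K : Subgroup G} {q : ℕ} (hq : q.Prime) (h : q ∣ Nat.card K) :
    ∃ x ∈ K, orderOf x = q := by
  have := Fact.mk hq
  obtain ⟨x, hx⟩ := exists_prime_orderOf_dvd_card' q h
  exact ⟨x, x.2, by rwa [Subgroup.orderOf_coe]⟩

end general

variable {T : Type u} [Group T] [Finite T] {S : Sylow 2 T} {t : T} {O L : Subgroup T} {p : ℕ}
variable [Fact p.Prime] (c : Ctx S t O L p)
include c

/-- The four-group. -/
def V : Subgroup T where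
  carrier := {x | x = 1 ∨ x = t ∨ x = c.iu ∨ x = t * c.iu}
  one_mem' := Or.inl rfl
  mul_mem' := by
    have h1 : ∀ z, t * (t * z) = z := fun z => by rw [← mul_assoc, c.t_sq, one_mul]
    have h2 : ∀ z, c.iu * (c.iu * z) = z := fun z => by rw [← mul_assoc, c.iu_sq, one_mul]
    have h3 : ∀ z, c.iu * (t * z) = t * (c.iu * z) := fun z => by
      rw [← mul_assoc, c.iu_comm, mul_assoc]
    rintro x y (hx | hx | hx | hx) (hy | hy | hy | hy) <;>
      simp only [Set.mem_ofPred_eq, hx, hy, one_mul, mul_one] <;>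
      simp [mul_assoc, c.t_sq, c.iu_sq, c.iu_comm, h1, h2, h3]
  inv_mem' := by
    rintro x (hx | hx | hx | hx) <;> simp only [Set.mem_ofPred_eq, hx] <;>
      simp [c.t_inv, c.iu_inv, c.iu_comm]

theorem mem_V {x : T} : x ∈ V c ↔ x = 1 ∨ x = t ∨ x = c.iu ∨ x = t * c.iu := Iff.rfl

theorem tu_ne : t * c.iu ≠ 1 ∧ t * c.iu ≠ t ∧ t * c.iu ≠ c.iu := by
  refine ⟨fun h => ?_, fun h => c.iu_ne (by simpa using h), fun h => c.t_ne (by simpa using h)⟩
  rw [mul_eq_one_iff_eq_inv, c.iu_inv] at h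
  exact c.iu_ne_t h.symm

theorem card_V : Nat.card (V c) = 4 := by
  classical
  obtain ⟨h1, h2, h3⟩ := tu_ne c
  have he : (V c : Set T) = ({1, t, c.iu, t * c.iu} : Finset T) := by
    ext x; simp [mem_V]
  rw [← SetLike.coe_sort_coe, Nat.card_coe_set_eq, he, Set.ncard_coe_finset]
  rw [Finset.card_insert_of_notMem, Finset.card_insert_of_notMem, Finset.card_pair h3.symm]
  · simp [c.iu_ne_t.symm, h2.symm]
  · simp [c.t_ne.symm, c.iu_ne.symm, h1.symm]

theorem V_le_CV : V c ≤ CV c := by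
  rintro x (rfl | rfl | rfl | rfl)
  · exact one_mem _
  · exact t_mem_CV c
  · exact iu_mem_CV c
  · exact mul_mem (t_mem_CV c) (iu_mem_CV c)

theorem V_two : IsPGroup 2 (V c) := IsPGroup.of_card (n := 2) (card_V c)

theorem cv_two {x : T} (hx : x ∈ CV c) (h : x * x = 1) : x ∈ V c := by
  by_cases h1 : x = 1
  · exact Or.inl h1
  rcases c.mem_or (Subgroup.mem_centralizer_singleton_iff.2 ((mem_CV c).1 hx).1) with hM | hM
  · exact Or.inr (Or.inl (c.eq_t_of_involution hM h h1))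
  have hc : Commute x c.iu := ((mem_CV c).1 hx).2
  by_cases h2 : x * c.iu = 1
  · rw [mul_eq_one_iff_eq_inv, c.iu_inv] at h2
    exact Or.inr (Or.inr (Or.inl h2))
  · have h3 := c.eq_t_of_involution hM (by
      rw [mul_assoc, ← mul_assoc c.iu, ← hc.eq, mul_assoc, c.iu_sq, mul_one, h]) h2
    refine Or.inr (Or.inr (Or.inr ?_))
    have h4 := congrArg (· * c.iu) h3
    simpa [mul_assoc, c.iu_sq] using h4

section element

variable {a : T} (ha : a ∈ Kp c) (ha1 : a ≠ 1)
include ha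

theorem cv_comm_a {x : T} (hx : x ∈ CV c) : x * a = a * x := cv_cent_Ku c hx ha.1

theorem qs_pow_conj_a (j : ℕ) : c.qs * a * c.qs⁻¹ = a⁻¹ ∧
    (c.qs ^ j * a * (c.qs ^ j)⁻¹ = a ∨ c.qs ^ j * a * (c.qs ^ j)⁻¹ = a⁻¹) := by
  have h := qs_inv_Ku c ha.1
  refine ⟨h, ?_⟩
  induction j with
  | zero => simp
  | succ j ih =>
    rw [pow_succ', show c.qs * c.qs ^ j * a * (c.qs * c.qs ^ j)⁻¹ =
      c.qs * (c.qs ^ j * a * (c.qs ^ j)⁻¹) * c.qs⁻¹ by group]
    rcases ih with e | e <;> rw [e]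
    · exact Or.inr h
    · left
      rw [← conj_inv, h, inv_inv]

include ha1

theorem noncentral : c.e ⟨a, ((mem_Ku c).1 ha.1).1⟩ ∉ Subgroup.center SL(2, ZMod p) := by
  intro h
  rcases (PSL2Elements.mem_center_iff _).1 h with e | e
  · exact ha1 (congrArg Subtype.val (c.e.injective (e.trans (map_one c.e).symm)))
  · rw [← c.e_t] at e
    have e' : a = t := congrArg Subtype.val (c.e.injective e)
    have := odd_of_Kp c ha
    rw [e', c.hs.ot] at this
    exact Nat.not_even_iff_odd.2 this even_two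

theorem cent_L {l : T} (hl : l ∈ L) (h : l * a = a * l) : l ∈ Ku c := by
  have := fixed_of_commute c.five (outer_u c) c.psi_u_sq (A := c.e ⟨a, ((mem_Ku c).1 ha.1).1⟩)
    (B := c.e ⟨l, hl⟩) ((psi_fix_iff c ⟨a, _⟩).2 ha.1) (noncentral c ha ha1)
    (by rw [← map_mul, ← map_mul]; exact congrArg c.e (Subtype.ext h))
  exact (psi_fix_iff c ⟨l, hl⟩).1 this

theorem card_cent_inf : Nat.card (Subgroup.centralizer ({t} : Set T) ⊓
    Subgroup.centralizer ({a} : Set T) : Subgroup T) = 4 * (Nat.card O * kk c) := by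
  set A := Subgroup.centralizer ({t} : Set T) ⊓ Subgroup.centralizer ({a} : Set T) with hA
  have hmem : ∀ {x}, x ∈ A ↔ x ∈ Subgroup.centralizer ({t} : Set T) ∧ x * a = a * x := fun {x} => by
    rw [hA, Subgroup.mem_inf]
    exact and_congr_right' Subgroup.mem_centralizer_singleton_iff
  have haL : a ∈ L := ((mem_Ku c).1 ha.1).1
  have hyl : ∀ y ∈ O, ∀ l ∈ Ku c, y * l ∈ A := fun y hy l hl => hmem.2
    ⟨mul_mem (c.hs.le hy) (c.hs.leL ((mem_Ku c).1 hl).1),
      (Commute.mul_left (c.hs.comm y hy a haL) (Ku_comm c hl ha.1)).eq⟩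
  let f : O × Ku c → (A ⊓ c.M : Subgroup T) := fun z => ⟨z.1 * z.2,
    Subgroup.mem_inf.2 ⟨hyl _ z.1.2 _ z.2.2, ⟨z.1, z.1.2, z.2, ((mem_Ku c).1 z.2.2).1, rfl⟩⟩⟩
  have hf : Function.Bijective f := by
    refine ⟨fun z z' h => ?_, fun ⟨x, hx⟩ => ?_⟩
    · obtain ⟨h1, h2⟩ := c.split_unique z.1.2 z'.1.2 ((mem_Ku c).1 z.2.2).1
        ((mem_Ku c).1 z'.2.2).1 (congrArg Subtype.val h)
      exact Prod.ext (Subtype.ext h1) (Subtype.ext h2)
    · obtain ⟨hxA, y, hy, l, hl, rfl⟩ := Subgroup.mem_inf.1 hx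
      have h1 : l * a = a * l := by
        have h2 : Commute (y * l) a := (hmem.1 hxA).2
        have h3 := (show Commute y a from c.hs.comm y hy a haL).inv_left.mul_left h2
        rw [inv_mul_cancel_left] at h3
        exact h3.eq
      exact ⟨(⟨y, hy⟩, ⟨l, cent_L c ha ha1 hl h1⟩), rfl⟩
  have hu : c.iu ∈ A := hmem.2 ⟨c.iu_cent, cv_comm_a c ha (iu_mem_CV c)⟩
  have h := card_double (inf_le_left : A ⊓ c.M ≤ A) hu
    (fun h => c.iu_not_mem (Subgroup.mem_inf.1 h).2) (fun x hx => ?_)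
  · rw [h, ← Nat.card_congr (Equiv.ofBijective f hf), Nat.card_prod, (Ku_data c).2, (kk_odd c).1]
    ring
  rcases c.mem_or (hmem.1 hx).1 with hM | hM
  · exact Or.inl (Subgroup.mem_inf.2 ⟨hx, hM⟩)
  · exact Or.inr (Subgroup.mem_inf.2 ⟨mul_mem hx (inv_mem hu), by rwa [c.iu_inv]⟩)

theorem V_le_cent : V c ≤ Subgroup.centralizer ({a} : Set T) := fun _ hx =>
  Subgroup.mem_centralizer_singleton_iff.2 (cv_comm_a c ha (V_le_CV c hx))

variable {h : T} (hh : Cyc c h)
include hh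

theorem two_le_V {P : Subgroup T} (hP : IsPGroup 2 P) (hV : V c ≤ P)
    (hPa : P ≤ Subgroup.centralizer ({a} : Set T)) : P = V c := by
  have : Fact (Nat.Prime 2) := ⟨Nat.prime_two⟩
  have hnt : Nontrivial P := ⟨⟨1, one_mem _⟩, ⟨t, hV (Or.inr (Or.inl rfl))⟩,
    fun e => c.t_ne (congrArg Subtype.val e).symm⟩
  have hzc : Nontrivial (Subgroup.center P) := hP.center_nontrivial
  obtain ⟨k, hk, hkc⟩ := (hP.to_subgroup (Subgroup.center P)).nontrivial_iff_card.1 hzc
  obtain ⟨z0, hz0, hzo⟩ := exists_order (K := Subgroup.center P) Nat.prime_two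
    (hkc ▸ dvd_pow_self 2 hk.ne')
  set z := (z0 : T) with hz
  have hzz : z * z = 1 := by
    have := pow_orderOf_eq_one z0
    rw [hzo, sq] at this
    exact congrArg Subtype.val this
  have hz1 : z ≠ 1 := fun e => by
    rw [show z0 = 1 from Subtype.ext e, orderOf_one] at hzo
    omega
  have hzx : ∀ x ∈ P, z * x = x * z := fun x hx =>
    (congrArg Subtype.val (Subgroup.mem_center_iff.1 hz0 ⟨x, hx⟩)).symm
  have hzV : z ∈ V c := cv_two c ((mem_CV c).2
    ⟨hzx _ (hV (Or.inr (Or.inl rfl))), hzx _ (hV (Or.inr (Or.inr (Or.inl rfl))))⟩) hzz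
  obtain ⟨i, hi⟩ : ∃ i : ℕ, h ^ i * z * (h ^ i)⁻¹ = t := by
    rcases hzV with e | e | e | e
    · exact absurd e hz1
    · exact ⟨0, by rw [e]; simp⟩
    · exact ⟨1, by rw [e, pow_one, hh.hu]⟩
    · exact ⟨2, by rw [e, pow_two, show h * h * (t * c.iu) * (h * h)⁻¹ =
        h * (h * (t * c.iu) * h⁻¹) * h⁻¹ by group, h_tu c hh, hh.hu]⟩
  have hle : P.map (MulAut.conj (h ^ i)).toMonoidHom ≤
      Subgroup.centralizer ({t} : Set T) ⊓ Subgroup.centralizer ({a} : Set T) := by
    rintro _ ⟨x, hx, rfl⟩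
    refine Subgroup.mem_inf.2 ⟨Subgroup.mem_centralizer_singleton_iff.2 ?_,
      Subgroup.mem_centralizer_singleton_iff.2 ?_⟩
    · have := (show Commute x z from (hzx x hx).symm).map (MulAut.conj (h ^ i)).toMonoidHom
      simp only [MulEquiv.coe_toMonoidHom, MulAut.conj_apply, hi] at this
      exact this.eq
    · have hha : Commute (h ^ i) a := (show Commute h a from h_Kp c hh ha).pow_left i
      have hxa : Commute x a := Subgroup.mem_centralizer_singleton_iff.1 (hPa hx)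
      exact ((hha.mul_left hxa).mul_left hha.inv_left).eq
  have hd := Subgroup.card_dvd_of_le hle
  rw [Subgroup.card_map_of_injective (MulAut.conj (h ^ i)).injective, card_cent_inf c ha ha1] at hd
  obtain ⟨n, hn⟩ := IsPGroup.iff_card.1 hP
  refine (Subgroup.eq_of_le_of_card_ge hV ?_).symm
  rw [card_V]
  refine Nat.le_of_dvd (by norm_num) ?_
  rw [hn] at hd ⊢
  exact ((Nat.coprime_two_left.2 (c.hs.odd.mul (kk_odd c).2.1)).pow_left n).dvd_of_dvd_mul_right hd

theorem exists_sylow_V : ∃ P : Sylow 2 (Subgroup.centralizer ({a} : Set T)),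
    (P : Subgroup (Subgroup.centralizer ({a} : Set T))).map
      (Subgroup.centralizer ({a} : Set T)).subtype = V c := by
  obtain ⟨P, hP⟩ := ((V_two c).of_equiv
    (Subgroup.subgroupOfEquivOfLe (V_le_cent c ha ha1)).symm).exists_le_sylow
  refine ⟨P, two_le_V c ha ha1 hh (P.2.map _) (fun x hx => ?_) (Subgroup.map_subtype_le _)⟩
  exact ⟨⟨x, V_le_cent c ha ha1 hx⟩, hP hx, rfl⟩

/-- The automiser of `⟨a⟩` has order two. -/
theorem norm_pm {n : T} (hn : n * a * n⁻¹ ∈ Subgroup.zpowers a) :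
    n * a * n⁻¹ = a ∨ n * a * n⁻¹ = a⁻¹ := by
  have h0 := exists_sylow_V c ha ha1 hh
  set C := Subgroup.centralizer ({a} : Set T) with hC
  obtain ⟨P, hP⟩ := h0
  have hconj : ∀ x ∈ C, n * x * n⁻¹ ∈ C := by
    intro x hx
    have h1 : Commute (n * x * n⁻¹) (n * a * n⁻¹) :=
      (show Commute x a from Subgroup.mem_centralizer_singleton_iff.1 hx).map
        (MulAut.conj n).toMonoidHom
    have h2 : a ∈ Subgroup.zpowers (n * a * n⁻¹) :=
      mem_zpowers_of_cyclic (H := Subgroup.zpowers a) hn (Subgroup.mem_zpowers a)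
        (orderOf_conj' n a).symm
    obtain ⟨j, hj⟩ := Subgroup.mem_zpowers_iff.1 h2
    exact Subgroup.mem_centralizer_singleton_iff.2 (hj ▸ (h1.zpow_right j).eq)
  set V' := (V c).map (MulAut.conj n).toMonoidHom with hV'
  have hV'C : V' ≤ C := by
    rintro _ ⟨x, hx, rfl⟩
    exact hconj x (V_le_cent c ha ha1 hx)
  obtain ⟨Q, hQ⟩ := CoprimeAction.exists_sylow_map_eq (p := 2) (K := C) hV'C (by
    rw [← CoprimeAction.card_map_sylow P, hP, hV',
      Subgroup.card_map_of_injective (MulAut.conj n).injective])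
  obtain ⟨d, hd⟩ := MulAction.exists_smul_eq C Q P
  have hmem : ∀ v ∈ V c, (d : T) * (n * v * n⁻¹) * (d : T)⁻¹ ∈ V c := by
    intro v hv
    have h1 : n * v * n⁻¹ ∈ (Q : Subgroup C).map C.subtype := hQ ▸ ⟨v, hv, rfl⟩
    obtain ⟨w, hw, hwe⟩ := h1
    rw [← hP, ← hwe]
    refine ⟨d * w * d⁻¹, ?_, by simp⟩
    rw [← hd, Sylow.coe_subgroup_smul]
    exact ⟨w, hw, rfl⟩
  set n' := (d : T) * n with hn'
  have key : ∀ v ∈ V c, v ≠ 1 →
      n' * v * n'⁻¹ = t ∨ n' * v * n'⁻¹ = c.iu ∨ n' * v * n'⁻¹ = t * c.iu := by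
    intro v hv hv1
    have h1 : n' * v * n'⁻¹ ∈ V c := by
      rw [hn', show (d : T) * n * v * ((d : T) * n)⁻¹ = (d : T) * (n * v * n⁻¹) * (d : T)⁻¹ by group]
      exact hmem v hv
    rcases h1 with e | e
    · exact absurd (conj_eq_one_iff.1 e) hv1
    · exact e
  obtain ⟨i, -, j, -, hij⟩ := NV_perm c hh (key t (Or.inr (Or.inl rfl)) c.t_ne)
    (key c.iu (Or.inr (Or.inr (Or.inl rfl))) c.iu_ne |>.imp id id)
  have h1 := cv_comm_a c ha hij
  rw [← mul_inv_eq_iff_eq_mul] at h1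
  have h2 : n' * a * n'⁻¹ = (h ^ i)⁻¹ * ((c.qs ^ j)⁻¹ * a * c.qs ^ j) * h ^ i := by
    conv_rhs => rw [← h1]
    group
  have hd' : Commute (d : T) a := Subgroup.mem_centralizer_singleton_iff.1 d.2
  have h4 : Commute (h ^ i) a := (show Commute h a from h_Kp c hh ha).pow_left i
  have h5 : n * a * n⁻¹ = (d : T)⁻¹ * (n' * a * n'⁻¹) * (d : T) := by rw [hn']; group
  have h6 : (c.qs ^ j)⁻¹ * a * c.qs ^ j = a ∨ (c.qs ^ j)⁻¹ * a * c.qs ^ j = a⁻¹ := by
    rcases (qs_pow_conj_a c ha j).2 with e | e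
    · left
      conv_lhs => rw [← e]
      group
    · right
      have e' := congrArg (·⁻¹) e
      simp only [← conj_inv, inv_inv] at e'
      conv_lhs => rw [← e']
      group
  rcases h6 with e | e <;> rw [h5, h2, e]
  · exact Or.inl (by
      rw [h4.inv_left.eq, inv_mul_cancel_right, hd'.inv_left.eq, inv_mul_cancel_right])
  · exact Or.inr (by
      rw [h4.inv_right.inv_left.eq, inv_mul_cancel_right, hd'.inv_right.inv_left.eq,
        inv_mul_cancel_right])

end element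

theorem exists_Kp {q : ℕ} (hq : q.Prime) (hd : q ∣ kk c) : ∃ a ∈ Kp c, orderOf a = q :=
  exists_order hq (by rwa [card_Kp c])

theorem sg_order : orderOf c.sg = 8 * 2 ^ c.m := by
  rw [Ctx.sg, orderOf_injective _ c.em_injective]
  refine Nat.dvd_antisymm (orderOf_dvd_of_pow_eq_one ?_) ?_
  · rw [X, QDWreathQD.pow_false, ZMod.natCast_self, zero_mul]
    rfl
  · have h := pow_orderOf_eq_one (X (2 ^ c.m))
    nth_rw 1 [X] at h
    rw [QDWreathQD.pow_false, mul_one] at h
    exact (ZMod.natCast_eq_zero_iff _ _).1 (congrArg QD.i h)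

/-- No element of order three is centralised by a full Sylow 2-subgroup. -/
theorem no_three_cent {g : T} (hg : orderOf g = 3) (h3 : 3 ∣ Nat.card L)
    (hS : ∀ x ∈ (S : Subgroup T), x * g = g * x) : False := by
  have hgt : g ∈ Subgroup.centralizer ({t} : Set T) :=
    Subgroup.mem_centralizer_singleton_iff.2 (hS t c.hs.mem).symm
  have hg3 : g ^ 3 = 1 := hg ▸ pow_orderOf_eq_one g
  have hM : g ∈ c.M := c.pow_odd_mem_M hgt (n := 3) (by decide) (by rw [hg3]; exact one_mem _)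
  have hgL : g ∈ L := c.mem_L_of_pow hM (c.coprime.symm.coprime_dvd_left h3) hg3
  have hc : ∀ x, ∀ (hx : x ∈ L), x ∈ (S : Subgroup T) →
      c.e ⟨g, hgL⟩ * c.e ⟨x, hx⟩ = c.e ⟨x, hx⟩ * c.e ⟨g, hgL⟩ := fun x hx hxS => by
    rw [← map_mul, ← map_mul]
    exact congrArg c.e (Subtype.ext (hS x hxS).symm)
  have hnc : c.e ⟨g, hgL⟩ ∉ Subgroup.center SL(2, ZMod p) := by
    intro hz
    rcases (PSL2Elements.mem_center_iff _).1 hz with e | e
    · have : g = 1 := congrArg Subtype.val (c.e.injective (e.trans (map_one c.e).symm))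
      rw [this, orderOf_one] at hg
      omega
    · rw [← c.e_t] at e
      have : g = t := congrArg Subtype.val (c.e.injective e)
      rw [this, c.hs.ot] at hg
      omega
  obtain ⟨h1, h2⟩ := (PSL2Elements.not_mem_center_iff _).1 hnc
  have h := QuadraticSL2.commute_of_commute h1 h2 (hc _ (qb_mem_L c) (c.em_mem _)).symm
    (hc _ (qs_mem_L c) (c.em_mem _)).symm
  rw [← map_mul, ← map_mul] at h
  have h' : c.qb * c.qs = c.qs * c.qb := congrArg Subtype.val (c.e.injective h)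
  have h4 := qb_conj_qs c
  rw [h', mul_inv_cancel_right, eq_inv_iff_mul_eq_one, qs_sq] at h4
  exact c.t_ne h4

theorem three_dvd_kk {h : T} (hh : Cyc c h) : 3 ∣ kk c := by
  by_contra h3
  obtain ⟨hK, hkodd, hk3⟩ := kk_odd c
  have hq : (kk c).minFac.Prime := Nat.minFac_prime (by omega)
  set q := (kk c).minFac with hqdef
  have hqk : q ∣ kk c := Nat.minFac_dvd _
  have hq2 : q ≠ 2 := fun e => Nat.not_even_iff_odd.2 (hkodd.of_dvd_nat hqk) (e ▸ even_two)
  obtain ⟨y0, hy0, hyo⟩ := exists_Kp c hq hqk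
  have hy1 : y0 ≠ 1 := fun e => hq.ne_one (by rw [← hyo, e, orderOf_one])
  have hp3 : ¬ 3 ∣ p := fun hd => by
    have := (Nat.prime_dvd_prime_iff_eq Nat.prime_three Fact.out).1 hd
    have := c.five
    omega
  have h3T : 3 ∣ Tc p := by
    have h1 : 3 ∣ Kc p * Tc p := by
      rw [KT c, ← Nat.modEq_iff_dvd' (Nat.one_le_pow _ _ (by have := c.five; omega))]
      have := Nat.mod_lt p (show 3 > 0 by norm_num)
      have h0 : p % 3 ≠ 0 := fun e => hp3 (Nat.dvd_of_mod_eq_zero e)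
      unfold Nat.ModEq
      rw [Nat.pow_mod]
      interval_cases hpm : p % 3 <;> simp_all
    rw [hK] at h1
    rcases (Nat.Prime.dvd_mul Nat.prime_three).1 h1 with h | h
    · rcases (Nat.Prime.dvd_mul Nat.prime_three).1 h with h | h
      · norm_num at h
      · exact absurd h h3
    · exact h
  obtain ⟨g, hgA, hgo⟩ := exists_order (K := A0 c) Nat.prime_three (by rwa [(A0_data c).2])
  have h3o := three_dvd c hh
  have hg3o : orderOf (h ^ (orderOf h / 3)) = 3 := by
    rw [orderOf_pow_of_dvd, Nat.div_div_self h3o (orderOf_pos h).ne']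
    · exact Nat.div_ne_zero_iff_of_dvd h3o |>.2 ⟨(orderOf_pos h).ne', by norm_num⟩
    · exact Nat.div_dvd_of_dvd h3o
  set g3 := h ^ (orderOf h / 3) with hg3
  have hc3 : Commute g3 y0 := (show Commute h y0 from h_Kp c hh hy0).pow_left _
  obtain ⟨d, hd⟩ := prime_conj c.hodd Nat.prime_three (by norm_num) hg3o hgo
  set y1 := d * y0 * d⁻¹ with hy1'
  have hgy1 : Commute g y1 := by
    obtain ⟨j, hj⟩ := Subgroup.mem_zpowers_iff.1 (mem_zpowers_of_cyclic (H := Subgroup.zpowers g) hd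
      (Subgroup.mem_zpowers g) (by rw [orderOf_conj', hg3o, hgo]))
    rw [← hj]
    exact (hc3.map (MulAut.conj d).toMonoidHom).zpow_left j
  set N := Subgroup.centralizer ({g} : Set T) with hN
  have hsgN : c.sg ∈ N := Subgroup.mem_centralizer_singleton_iff.2 (sg_cent_A0 c hgA)
  have hZ : IsPGroup 2 (Subgroup.zpowers (⟨c.sg, hsgN⟩ : N)) :=
    IsPGroup.of_card (n := c.m + 3) (by
      rw [Nat.card_zpowers, Subgroup.orderOf_mk, sg_order, pow_add]
      ring)
  obtain ⟨P, hP⟩ := hZ.exists_le_sylow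
  have hPS : Nat.card (P : Subgroup N) ∣ 2 ^ (c.m + 4) := by
    rw [← card_S c]
    have h1 : IsPGroup 2 ((P : Subgroup N).map N.subtype) := P.2.map _
    obtain ⟨R, hR⟩ := h1.exists_le_sylow
    have h2 := Subgroup.card_dvd_of_le hR
    rwa [Subgroup.card_map_of_injective N.subtype_injective, Sylow.card_eq_multiplicity R,
      ← Sylow.card_eq_multiplicity S] at h2
  obtain ⟨n, hn4, hn⟩ := (Nat.dvd_prime_pow Nat.prime_two).1 hPS
  have hn3 : c.m + 3 ≤ n := by
    have h1 := Subgroup.card_dvd_of_le hP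
    rw [Nat.card_zpowers, Subgroup.orderOf_mk, sg_order, hn,
      show 8 * 2 ^ c.m = 2 ^ (c.m + 3) by ring] at h1
    exact (Nat.pow_dvd_pow_iff_le_right (by norm_num)).1 h1
  have hn' : n = c.m + 3 := by
    by_contra hne
    have hn4' : n = c.m + 4 := by omega
    set P' := (P : Subgroup N).map N.subtype with hP'
    have hcardP' : Nat.card P' = 2 ^ (Nat.card T).factorization 2 := by
      rw [← S.card_eq_multiplicity, card_S c, hP',
        Subgroup.card_map_of_injective N.subtype_injective, hn, hn4']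
    obtain ⟨d', hd'⟩ := MulAction.exists_smul_eq T (Sylow.ofCard P' hcardP') S
    refine no_three_cent c (g := d' * g * d'⁻¹) (by rw [orderOf_conj', hgo]) ?_ fun x hx => ?_
    · rw [card_L c]
      exact Dvd.dvd.mul_left (Dvd.dvd.mul_left h3T _) _
    · rw [← hd', Sylow.coe_subgroup_smul] at hx
      obtain ⟨w, hw, rfl⟩ := hx
      obtain ⟨w', -, rfl⟩ := (show w ∈ P' from hw)
      exact ((show Commute (w' : T) g from Subgroup.mem_centralizer_singleton_iff.1 w'.2).map
        (MulAut.conj d').toMonoidHom).eq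
  have hPeq : Subgroup.zpowers (⟨c.sg, hsgN⟩ : N) = (P : Subgroup N) := by
    refine Subgroup.eq_of_le_of_card_ge hP ?_
    rw [Nat.card_zpowers, Subgroup.orderOf_mk, sg_order, hn, hn', pow_add]
    omega
  have hPc : IsCyclic (P : Subgroup N) := hPeq ▸ inferInstance
  have hmin : (Nat.card N).minFac = 2 := (Nat.minFac_eq_two_iff _).2 (by
    refine Dvd.dvd.trans ?_ (Subgroup.orderOf_dvd_natCard N hsgN)
    rw [sg_order]
    exact ⟨4 * 2 ^ c.m, by ring⟩)
  obtain ⟨Mg, hMgN, -, hMgodd, hMg⟩ := burnside_sub N P (IsCyclic.normalizer_le_centralizer hmin hPc)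
  have hy1N : y1 ∈ N := Subgroup.mem_centralizer_singleton_iff.2 hgy1.symm.eq
  have hy1o : orderOf y1 = q := by rw [hy1', orderOf_conj', hyo]
  have hy1M : y1 ∈ Mg := (hMg _ hy1N).2 (by
    rw [hy1o]
    exact fun h => hq2 ((Nat.prime_dvd_prime_iff_eq Nat.prime_two hq).1 h).symm)
  have hAK : Subgroup.zpowers c.sg ≤ Subgroup.normalizer (Mg : Set T) := by
    refine CoprimeAction.le_normalizer_of_conj_mem fun x hx y hy => ?_
    have hxN : x ∈ N := Subgroup.zpowers_le.2 hsgN hx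
    exact (hMg _ (mul_mem (mul_mem hxN (hMgN hy)) (inv_mem hxN))).2 (by
      rw [orderOf_conj']
      exact (hMg _ (hMgN hy)).1 hy)
  have hcop : (Nat.card (Subgroup.zpowers c.sg)).Coprime (Nat.card Mg) := by
    rw [Nat.card_zpowers, sg_order, show 8 * 2 ^ c.m = 2 ^ (c.m + 3) by ring]
    exact ((Nat.Prime.coprime_iff_not_dvd Nat.prime_two).2 hMgodd).pow_left _
  have := Fact.mk hq
  obtain ⟨Q, hQ⟩ := CoprimeAction.exists_invariant_sylow hAK hcop
    (Or.inl (CoprimeAction.isSolvable_zpowers _)) q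
  set Q' := (Q : Subgroup Mg).map Mg.subtype with hQ'
  have hQc : IsCyclic Q' := cyclic_of_pgroup c.hodd hq hq2 _ (Q.2.map _)
  obtain ⟨y2, hy2, hy2o⟩ := exists_order (K := Q') hq (by
    rw [hQ', CoprimeAction.card_map_sylow Q]
    refine dvd_pow_self q (Nat.pos_iff_ne_zero.1 ?_)
    exact hq.factorization_pos_of_dvd Nat.card_pos.ne'
      (hy1o ▸ Subgroup.orderOf_dvd_natCard Mg hy1M))
  have hsy2 : c.sg * y2 * c.sg⁻¹ ∈ Subgroup.zpowers y2 :=
    mem_zpowers_of_cyclic hy2 (CoprimeAction.conj_mem (hQ (Subgroup.mem_zpowers _)) hy2)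
      (orderOf_conj' _ _)
  obtain ⟨d2, hd2⟩ := prime_conj c.hodd hq hq2 hy2o hyo
  set y3 := d2 * y2 * d2⁻¹ with hy3'
  have hy3 : y3 ∈ Kp c := Subgroup.zpowers_le.2 hy0 hd2
  have hy31 : y3 ≠ 1 := fun e => hq.ne_one (by rw [← hy2o, ← orderOf_conj' d2, ← hy3', e, orderOf_one])
  set n2 := d2 * c.sg * d2⁻¹ with hn2
  have hn2y : n2 * y3 * n2⁻¹ ∈ Subgroup.zpowers y3 := by
    obtain ⟨j, hj⟩ := Subgroup.mem_zpowers_iff.1 hsy2
    refine Subgroup.mem_zpowers_iff.2 ⟨j, ?_⟩
    rw [hy3', hn2, conj_zpow, hj]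
    group
  have hsq : c.sg * (c.sg * y2 * c.sg⁻¹) * c.sg⁻¹ = y2 := by
    have h1 : c.sg * y2 * c.sg⁻¹ = y2 ∨ c.sg * y2 * c.sg⁻¹ = y2⁻¹ := by
      rcases norm_pm c hy3 hy31 hh hn2y with e | e
      · left
        rw [hy3', hn2] at e
        conv_rhs => rw [show y2 = d2⁻¹ * (d2 * y2 * d2⁻¹) * d2 by group, ← e]
        group
      · right
        rw [hy3', hn2] at e
        conv_rhs => rw [show y2⁻¹ = d2⁻¹ * (d2 * y2 * d2⁻¹)⁻¹ * d2 by group, ← e]
        group
    rcases h1 with e | e <;> rw [e]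
    · exact e
    · rw [← conj_inv, e, inv_inv]
  have hqs : Commute c.qs y2 := by
    have h1 : Commute (c.sg * c.sg) y2 := by
      show c.sg * c.sg * y2 = y2 * (c.sg * c.sg)
      refine mul_inv_eq_iff_eq_mul.1 ?_
      conv_rhs => rw [← hsq]
      group
    rw [← qs_pow, pow_mul, sq]
    exact h1.pow_left _
  have hy2t : y2 ∈ Subgroup.centralizer ({t} : Set T) := by
    rw [Subgroup.mem_centralizer_singleton_iff, ← qs_sq c]
    exact (hqs.mul_left hqs).symm.eq
  have hqL : q ∣ Nat.card L := hqk.trans ⟨p * (2 * Tc p), by rw [card_L c]; ring⟩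
  have hy2q : y2 ^ q = 1 := hy2o ▸ pow_orderOf_eq_one y2
  have hy2L : y2 ∈ L := c.mem_L_of_pow
    (c.pow_odd_mem_M hy2t (hkodd.of_dvd_nat hqk) (by rw [hy2q]; exact one_mem _))
    (c.coprime.symm.coprime_dvd_left hqL) hy2q
  have hqT : q ∣ Tc p := by
    rw [← (A0_data c).2, ← hy2o]
    exact Subgroup.orderOf_dvd_natCard _ ((mem_A0 c).2 ⟨hy2L, hqs.symm.eq⟩)
  have hqK : q ∣ Kc p := by rw [hK]; exact hqk.mul_left 2
  have h2 : q ∣ 2 := by
    rw [Kc] at hqK
    rw [Tc] at hqT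
    have := c.five
    split_ifs at hqK hqT
    · have := Nat.dvd_sub hqK hqT
      rwa [show p + 1 - (p - 1) = 2 by omega] at this
    · have := Nat.dvd_sub hqT hqK
      rwa [show p + 1 - (p - 1) = 2 by omega] at this
  exact hq2 ((Nat.prime_dvd_prime_iff_eq hq Nat.prime_two).1 h2)

end Cfsg.Agent.CycSyl43SemiSLCen32
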