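import Cfsg.Agent.Lib.CycSyl43SemiSLBase32

/-!
The `SL(2,p)` configuration: the two tori of the centraliser of the central involution and the
element permuting the involutions of the four-group.
-/

set_option autoImplicit false
set_option linter.unusedSectionVars false

namespace Cfsg.Agent.CycSyl43SemiSLFour32

open Cfsg.Agent.CycSyl43
open Cfsg.Agent.CycSyl43SemiSLBase32
open Cfsg.Agent.QDWreathQD (QD X Y C)
open Cfsg.Agent.QDFusion (emb exists_emb I inv_cases)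
open Cfsg.Agent.CycSyl43SLFacts32
open Cfsg.Agent.PSL2Elements (tr)
open scoped MatrixGroups

universe u

section general

variable {G : Type u} [Group G] [Finite G]

theorem mem_of_cube_mem {K : Subgroup G} {n : G} (h3 : ¬ 3 ∣ orderOf n) (h : n ^ 3 ∈ K) : n ∈ K := by
  obtain ⟨j, hj⟩ := exists_pow_eq_self_of_coprime (x := n)
    ((Nat.Prime.coprime_iff_not_dvd Nat.prime_three).2 h3)
  exact hj ▸ pow_mem h j

end general

variable {T : Type u} [Group T] [Finite T] {S : Sylow 2 T} {t : T} {O L : Subgroup T} {p : ℕ}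
variable [Fact p.Prime] (c : Ctx S t O L p)
include c

theorem eight_le : 8 ≤ 8 * 2 ^ c.m := by
  have := Nat.one_le_two_pow (n := c.m)
  omega

theorem qs_sq : c.qs * c.qs = t := by
  rw [Ctx.qs, ← map_mul, ← QDFusion.C_eq]
  exact c.t_eq

theorem qs_pow : c.sg ^ (2 * 2 ^ c.m) = c.qs := by
  rw [Ctx.sg, Ctx.qs, ← map_pow, X, QDWreathQD.pow_false, mul_one]
  push_cast
  simp [I]

theorem iu_conj_sg : c.iu * c.sg * c.iu⁻¹ = c.em ⟨QDWreathQD.k _, false⟩ := by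
  rw [Ctx.iu, Ctx.sg, ← map_inv, ← map_mul, ← map_mul]
  simp [X, Y]

theorem iu_conj_qs : c.iu * c.qs * c.iu⁻¹ = c.qs⁻¹ := by
  rw [Ctx.iu, Ctx.qs, ← map_inv, ← map_inv, ← map_mul, ← map_mul]
  refine congrArg c.em ?_
  simp only [I, Y, QDWreathQD.mk_inv_false, QDWreathQD.mk_inv_true, QDWreathQD.mk_mul_true,
    QDWreathQD.mk_mul_false, Bool.not_true, Bool.not_false, QD.ext_iff, and_true]
  unfold QDWreathQD.k
  linear_combination ((2 ^ c.m : ℕ) : ZMod (8 * 2 ^ c.m)) * QDWreathQD.eight_l (l := 2 ^ c.m)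

theorem qb_eq : c.sg * c.iu = c.qb := by
  rw [Ctx.iu, Ctx.sg, Ctx.qb, ← map_mul]
  simp [X, Y]

theorem qb_sq : c.qb * c.qb = t := by
  rw [Ctx.qb, ← map_mul, ← sq]
  have h := QDWreathQD.sq_true_odd (l := 2 ^ c.m) 0
  rw [mul_zero, zero_add] at h
  rw [h]
  exact c.t_eq

theorem sg_comm_qs : Commute c.sg c.qs := qs_pow c ▸ Commute.pow_right (Commute.refl _) _

theorem qb_conj_qs : c.qb * c.qs * c.qb⁻¹ = c.qs⁻¹ := by
  rw [← qb_eq, mul_inv_rev,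
    show c.sg * c.iu * c.qs * (c.iu⁻¹ * c.sg⁻¹) = c.sg * (c.iu * c.qs * c.iu⁻¹) * c.sg⁻¹ by group,
    iu_conj_qs, (sg_comm_qs c).inv_right.eq, mul_inv_cancel_right]

theorem qs_conj_iu : c.qs * c.iu * c.qs⁻¹ = t * c.iu := by
  have h : c.iu * c.qs⁻¹ * c.iu⁻¹ = c.qs := by
    rw [← conj_inv, iu_conj_qs, inv_inv]
  calc c.qs * c.iu * c.qs⁻¹ = c.qs * (c.iu * c.qs⁻¹ * c.iu⁻¹) * c.iu := by group
    _ = t * c.iu := by rw [h, qs_sq]

theorem sg_not_mem : c.sg ∉ c.M := by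
  intro h
  obtain ⟨n, hn⟩ := c.two_pow_of_mem_S (c.em_mem (X _))
  have hL : c.sg ∈ L := c.mem_L_of_two h hn
  have hcast : ∀ j : ℕ, (j : ZMod (8 * 2 ^ c.m)) = 0 → 8 ∣ j := fun j hj =>
    (dvd_mul_right 8 _).trans ((ZMod.natCast_eq_zero_iff _ _).1 hj)
  have h4 : tr (c.e ⟨c.sg, hL⟩) ^ 2 ≠ 4 := by
    refine tr_sq_ne_four fun h1 => ?_
    rw [← map_pow, ← map_one c.e] at h1
    have h2 : c.sg ^ (2 * p) = 1 := by
      simpa using congrArg Subtype.val (c.e.injective h1)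
    rw [Ctx.sg, ← map_pow, ← map_one c.em, X, QDWreathQD.pow_false, mul_one] at h2
    have h3 := hcast _ (congrArg QD.i (c.em_injective h2))
    obtain ⟨j, hj⟩ := h3
    have := (Fact.out : p.Prime).eq_one_or_self_of_dvd 2 ⟨2 * j, by omega⟩
    have := c.five
    omega
  have hu : c.iu * c.sg * c.iu⁻¹ = c.sg ∨ c.iu * c.sg * c.iu⁻¹ = c.sg⁻¹ := by
    have hcomm : c.e ⟨_, c.hs.normalL _ c.iu_cent _ hL⟩ * c.e ⟨c.sg, hL⟩ =
        c.e ⟨c.sg, hL⟩ * c.e ⟨c.iu * c.sg * c.iu⁻¹, c.hs.normalL _ c.iu_cent _ hL⟩ := by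
      rw [← map_mul, ← map_mul]
      refine congrArg c.e (Subtype.ext ?_)
      show c.iu * c.sg * c.iu⁻¹ * c.sg = c.sg * (c.iu * c.sg * c.iu⁻¹)
      rw [iu_conj_sg, Ctx.sg, ← map_mul, ← map_mul]
      simp [X, add_comm]
    rcases commute_tr c.p_ne h4 hcomm (by rw [← c.psi_apply c.iu_cent ⟨c.sg, hL⟩, tr_map c.p_ne]) with e | e
    · exact Or.inl (congrArg Subtype.val (c.e.injective e))
    · rw [← map_inv] at e
      exact Or.inr (congrArg Subtype.val (c.e.injective e))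
  rw [iu_conj_sg, Ctx.sg, ← map_inv] at hu
  have h8 : (8 : ZMod (8 * 2 ^ c.m)) * ((2 ^ c.m : ℕ) : ZMod (8 * 2 ^ c.m)) = 0 :=
    QDWreathQD.eight_l
  rcases hu with e | e
  · have h1 := congrArg QD.i (c.em_injective e)
    simp only [X, QDWreathQD.k] at h1
    have := hcast 4 (by push_cast at *; linear_combination -2 * h1 + h8)
    norm_num at this
  · have h1 := congrArg QD.i (c.em_injective e)
    simp only [X, QDWreathQD.k, QDWreathQD.mk_inv_false] at h1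
    exact QDWreathQD.four_l_ne (l := 2 ^ c.m) (by linear_combination h1)

theorem qs_mem_L : c.qs ∈ L := by
  obtain ⟨n, hn⟩ := c.two_pow_of_mem_S (c.em_mem (I _))
  refine c.mem_L_of_two ?_ hn
  show c.qs ∈ c.M
  rw [← qs_pow, pow_mul, sq]
  exact pow_mem (c.sq_mem_M (c.em_cent _)) _

theorem qb_mem_L : c.qb ∈ L := by
  obtain ⟨n, hn⟩ := c.two_pow_of_mem_S (c.em_mem ⟨1, true⟩)
  refine c.mem_L_of_two ?_ hn
  show c.qb ∈ c.M
  rw [← qb_eq]
  exact (c.mul_mem_M_iff (c.em_cent _) c.iu_cent).2 (iff_of_false (sg_not_mem c) c.iu_not_mem)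

theorem e_qs : c.e ⟨c.qs, qs_mem_L c⟩ * c.e ⟨c.qs, qs_mem_L c⟩ = -1 := by
  rw [← map_mul, ← c.e_t]
  exact congrArg c.e (Subtype.ext (qs_sq c))

theorem e_qs_inv : (c.e ⟨c.qs, qs_mem_L c⟩)⁻¹ = -c.e ⟨c.qs, qs_mem_L c⟩ :=
  inv_eq_of_mul_eq_one_right (by rw [mul_neg, e_qs, neg_neg])

/-- A subgroup of `L` seen in the matrix group. -/
theorem via_e (K : Subgroup T) (hK : K ≤ L) (D : Subgroup SL(2, ZMod p))
    (h : ∀ l : L, (l : T) ∈ K ↔ c.e l ∈ D) :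
    Nat.card K = Nat.card D ∧ (IsCyclic D → IsCyclic K) := by
  let f : K →* D :=
    { toFun := fun x => ⟨c.e ⟨x, hK x.2⟩, (h ⟨x, hK x.2⟩).1 x.2⟩
      map_one' := Subtype.ext (map_one c.e)
      map_mul' := fun x y => Subtype.ext (map_mul c.e ⟨x, hK x.2⟩ ⟨y, hK y.2⟩) }
  have hf : Function.Bijective f := by
    refine ⟨fun x y hxy => Subtype.ext ?_, fun ⟨A, hA⟩ => ?_⟩
    · exact congrArg (fun z : L => (z : T)) (c.e.injective (congrArg Subtype.val hxy))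
    · obtain ⟨l, rfl⟩ := c.e.surjective A
      exact ⟨⟨l, (h l).2 hA⟩, rfl⟩
  exact ⟨Nat.card_congr (Equiv.ofBijective f hf), fun _ => isCyclic_of_injective f hf.1⟩

/-- The torus through `qs`. -/
def A0 : Subgroup T := L ⊓ Subgroup.centralizer ({c.qs} : Set T)

theorem mem_A0 {x : T} : x ∈ A0 c ↔ x ∈ L ∧ x * c.qs = c.qs * x := by
  rw [A0, Subgroup.mem_inf, Subgroup.mem_centralizer_singleton_iff]

theorem A0_data : IsCyclic (A0 c) ∧ Nat.card (A0 c) = Tc p := by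
  obtain ⟨-, h2, h3⟩ := centralizer_sq_neg_one c.p_ne (e_qs c)
  obtain ⟨h4, h5⟩ := via_e c (A0 c) inf_le_left
    (Subgroup.centralizer ({c.e ⟨c.qs, qs_mem_L c⟩} : Set SL(2, ZMod p))) (fun l => by
      rw [mem_A0, Subgroup.mem_centralizer_singleton_iff, ← map_mul, ← map_mul,
        c.e.apply_eq_iff_eq]
      exact ⟨fun h => Subtype.ext h.2, fun h => ⟨l.2, congrArg Subtype.val h⟩⟩)
  exact ⟨h5 h2, h4.trans h3⟩

theorem sg_cent_A0 {a : T} (ha : a ∈ A0 c) : c.sg * a = a * c.sg := by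
  obtain ⟨haL, hac⟩ := (mem_A0 c).1 ha
  have hsg : c.sg ∈ Subgroup.centralizer ({t} : Set T) := c.em_cent _
  have h := fix_centralizer c.p_ne (c.psi hsg) (centralizer_sq_neg_one c.p_ne (e_qs c)).1
    (A := c.e ⟨a, haL⟩) (by
      rw [c.psi_apply]
      refine congrArg c.e (Subtype.ext ?_)
      show c.sg * c.qs * c.sg⁻¹ = c.qs
      rw [(sg_comm_qs c).eq, mul_inv_cancel_right])
    (by rw [← map_mul, ← map_mul]; exact congrArg c.e (Subtype.ext hac))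
  rw [c.psi_apply] at h
  exact mul_inv_eq_iff_eq_mul.1 (congrArg Subtype.val (c.e.injective h))

theorem iu_inv_A0 {a : T} (ha : a ∈ A0 c) : c.iu * a * c.iu⁻¹ = a⁻¹ := by
  obtain ⟨haL, hac⟩ := (mem_A0 c).1 ha
  have h := conj_inv_of (W := c.e ⟨c.qs, qs_mem_L c⟩) (A := c.e ⟨a, haL⟩)
    (s := c.e ⟨c.qb, qb_mem_L c⟩)
    (not_central (centralizer_sq_neg_one c.p_ne (e_qs c)).1)
    (by rw [← map_inv, ← map_inv, ← map_mul, ← map_mul]
        exact congrArg c.e (Subtype.ext (qb_conj_qs c)))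
    (by rw [← map_mul, ← map_mul]; exact congrArg c.e (Subtype.ext hac))
  rw [← map_inv, ← map_inv, ← map_mul, ← map_mul] at h
  have h' : c.qb * a * c.qb⁻¹ = a⁻¹ := congrArg Subtype.val (c.e.injective h)
  have hu : c.iu = c.sg⁻¹ * c.qb := by rw [← qb_eq, inv_mul_cancel_left]
  calc c.iu * a * c.iu⁻¹ = c.sg⁻¹ * (c.qb * a * c.qb⁻¹) * c.sg := by rw [hu]; group
    _ = a⁻¹ := by
      rw [h', mul_assoc, ← sg_cent_A0 c (inv_mem ha), inv_mul_cancel_left]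

/-- The torus fixed by `iu`. -/
def Ku : Subgroup T := L ⊓ Subgroup.centralizer ({c.iu} : Set T)

theorem mem_Ku {x : T} : x ∈ Ku c ↔ x ∈ L ∧ x * c.iu = c.iu * x := by
  rw [Ku, Subgroup.mem_inf, Subgroup.mem_centralizer_singleton_iff]

theorem psi_fix_iff (l : L) : c.psi c.iu_cent (c.e l) = c.e l ↔ (l : T) ∈ Ku c := by
  rw [c.psi_apply, c.e.apply_eq_iff_eq, Subtype.ext_iff, mem_Ku,
    mul_inv_eq_iff_eq_mul, and_iff_right l.2, eq_comm]

theorem outer_u : Outer (c.psi c.iu_cent) := c.psi_outer c.iu_cent c.iu_not_mem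

theorem Ku_data : IsCyclic (Ku c) ∧ Nat.card (Ku c) = Kc p := by
  obtain ⟨h2, h3⟩ := outer_fixed c.five (outer_u c) c.psi_u_sq
  obtain ⟨h4, h5⟩ := via_e c (Ku c) inf_le_left (fixed (c.psi c.iu_cent))
    (fun l => by rw [mem_fixed, psi_fix_iff])
  exact ⟨h5 h2, h4.trans h3⟩

theorem Ku_comm {x y : T} (hx : x ∈ Ku c) (hy : y ∈ Ku c) : x * y = y * x := by
  have := (Ku_data c).1
  exact Subgroup.mul_comm_of_mem_isMulCommutative (Ku c) hx hy

theorem t_mem_Ku : t ∈ Ku c := (mem_Ku c).2 ⟨c.hs.tL, c.iu_comm.symm⟩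

theorem qs_inv_Ku {y : T} (hy : y ∈ Ku c) : c.qs * y * c.qs⁻¹ = y⁻¹ := by
  obtain ⟨hyL, -⟩ := (mem_Ku c).1 hy
  have h := outer_anti c.five (outer_u c) c.psi_u_sq (s := c.e ⟨c.qs, qs_mem_L c⟩)
    (A := c.e ⟨y, hyL⟩) (by
      rw [← e_qs_inv, c.psi_apply, ← map_inv]
      exact congrArg c.e (Subtype.ext (iu_conj_qs c)))
    ((psi_fix_iff c ⟨y, hyL⟩).2 hy)
  rw [← map_inv, ← map_inv, ← map_mul, ← map_mul] at h
  exact congrArg Subtype.val (c.e.injective h)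

/-- Half the order of `Ku`. -/
def kk (_ : Ctx S t O L p) : ℕ := Kc p / 2

/-- The order of `A0`. -/
def tc (_ : Ctx S t O L p) : ℕ := Tc p

theorem kk_odd : Kc p = 2 * kk c ∧ Odd (kk c) ∧ 3 ≤ kk c := by
  have h5 := c.five
  have h2 : p % 2 = 1 := (Fact.out : p.Prime).mod_two_eq_one_iff_ne_two.2 c.p_ne
  rw [Nat.odd_iff, kk, Kc]
  split <;> omega

theorem KT : Kc p * Tc p = p ^ 2 - 1 := by
  have h := Nat.sq_sub_sq p 1
  rw [one_pow] at h
  rw [h, Kc, Tc]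
  split <;> ring

theorem card_L : Nat.card L = p * (2 * kk c * Tc p) := by
  rw [Nat.card_congr c.e.toEquiv, PSLCard.card_SL2, Nat.card_zmod, ← KT c, (kk_odd c).1]

theorem card_cent_eq : Nat.card (Subgroup.centralizer ({t} : Set T)) =
    4 * (Nat.card O * p * kk c * Tc p) := by
  rw [c.card_cent, card_L c]
  ring

theorem card_S : Nat.card (S : Subgroup T) = 2 ^ (c.m + 4) := by
  rw [QDFusion.card_S S c.E, pow_add]
  ring

theorem two_part : 4 * 2 ^ c.m ∣ Tc p ∧ ¬ 8 * 2 ^ c.m ∣ Tc p := by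
  have hS := card_S c
  have hle : (S : Subgroup T) ≤ Subgroup.centralizer ({t} : Set T) := fun z hz =>
    Subgroup.mem_centralizer_singleton_iff.2 (c.hs.central z hz)
  have h1 := Subgroup.card_dvd_of_le hle
  rw [hS, card_cent_eq c, pow_add, show (2 : ℕ) ^ c.m * 2 ^ 4 = 4 * (4 * 2 ^ c.m) by ring] at h1
  have h2 := Nat.dvd_of_mul_dvd_mul_left (by norm_num) h1
  have hodd : Odd (Nat.card O * p * kk c) :=
    (c.hs.odd.mul ((Fact.out : p.Prime).odd_of_ne_two c.p_ne)).mul (kk_odd c).2.1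
  have h4 : (4 * 2 ^ c.m).Coprime (Nat.card O * p * kk c) := by
    rw [show 4 * 2 ^ c.m = 2 ^ (c.m + 2) by ring]
    exact (Nat.coprime_two_left.2 hodd).pow_left _
  refine ⟨h4.dvd_of_dvd_mul_left h2, fun h => ?_⟩
  have h5 : 2 ^ (c.m + 5) ∣ Nat.card T := by
    refine Dvd.dvd.trans ?_ (Subgroup.card_subgroup_dvd_card (Subgroup.centralizer ({t} : Set T)))
    rw [card_cent_eq c, show (2 : ℕ) ^ (c.m + 5) = 4 * (8 * 2 ^ c.m) by ring]
    exact mul_dvd_mul_left 4 (h.mul_left _)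
  have h6 := S.card_eq_multiplicity
  rw [hS] at h6
  have h7 : c.m + 4 = (Nat.card T).factorization 2 := Nat.pow_right_injective le_rfl h6
  exact Nat.pow_succ_factorization_not_dvd Nat.card_pos.ne' Nat.prime_two (by rwa [← h7])

/-- The odd part of `Ku`. -/
def Kp : Subgroup T where
  carrier := {x | x ∈ Ku c ∧ x ^ kk c = 1}
  one_mem' := ⟨one_mem _, one_pow _⟩
  mul_mem' := fun {x y} hx hy => ⟨mul_mem hx.1 hy.1, by
    rw [(show Commute x y from Ku_comm c hx.1 hy.1).mul_pow, hx.2, hy.2, one_mul]⟩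
  inv_mem' := fun {x} hx => ⟨inv_mem hx.1, by rw [inv_pow, hx.2, inv_one]⟩

theorem Kp_le : Kp c ≤ Ku c := fun _ h => h.1

theorem card_Kp : Nat.card (Kp c) = kk c := by
  obtain ⟨hK, hodd, -⟩ := kk_odd c
  have htk : t ^ kk c = t := by
    obtain ⟨j, hj⟩ := hodd
    rw [hj, pow_succ, pow_mul, sq, c.t_sq, one_pow, one_mul]
  have h := card_double (Kp_le c) (t_mem_Ku c)
    (fun h => c.t_ne (by rw [← htk]; exact h.2)) (fun x hx => ?_)
  · rw [(Ku_data c).2, hK] at h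
    omega
  by_cases h1 : x ^ kk c = 1
  · exact Or.inl ⟨hx, h1⟩
  refine Or.inr ⟨mul_mem hx (inv_mem (t_mem_Ku c)), ?_⟩
  have h2 : x ^ kk c = t := by
    refine c.eq_t_of_involution (pow_mem (c.L_le_M ((mem_Ku c).1 hx).1) _) ?_ h1
    rw [← pow_add, ← two_mul, ← hK, ← (Ku_data c).2]
    exact orderOf_dvd_iff_pow_eq_one.1 (Subgroup.orderOf_dvd_natCard _ hx)
  rw [c.t_inv, (show Commute x t from Ku_comm c hx (t_mem_Ku c)).mul_pow, h2, htk, c.t_sq]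

theorem odd_of_Kp {x : T} (hx : x ∈ Kp c) : Odd (orderOf x) :=
  (kk_odd c).2.1.of_dvd_nat (orderOf_dvd_of_pow_eq_one hx.2)

/-- The centraliser of the four-group. -/
def CV : Subgroup T := Subgroup.centralizer ({t} : Set T) ⊓ Subgroup.centralizer ({c.iu} : Set T)

theorem mem_CV {x : T} : x ∈ CV c ↔ x * t = t * x ∧ x * c.iu = c.iu * x := by
  rw [CV, Subgroup.mem_inf, Subgroup.mem_centralizer_singleton_iff,
    Subgroup.mem_centralizer_singleton_iff]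

theorem cv_form {x : T} (hx : x ∈ CV c) (hM : x ∈ c.M) :
    ∃ y ∈ O, ∃ l ∈ Ku c, y * c.iu = c.iu * y ∧ y * l = x := by
  obtain ⟨-, hxu⟩ := (mem_CV c).1 hx
  obtain ⟨y, hy, l, hl, rfl⟩ := hM
  obtain ⟨h1, h2⟩ := c.split_unique (c.hs.normal _ c.iu_cent y hy) hy
    (c.hs.normalL _ c.iu_cent l hl) hl (by
      rw [show c.iu * y * c.iu⁻¹ * (c.iu * l * c.iu⁻¹) = c.iu * (y * l) * c.iu⁻¹ by group, ← hxu,
        mul_inv_cancel_right])
  exact ⟨y, hy, l, (mem_Ku c).2 ⟨hl, (mul_inv_eq_iff_eq_mul.1 h2).symm⟩,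
    (mul_inv_eq_iff_eq_mul.1 h1).symm, rfl⟩

theorem iu_mem_CV : c.iu ∈ CV c := (mem_CV c).2 ⟨c.iu_comm, rfl⟩

theorem t_mem_CV : t ∈ CV c := (mem_CV c).2 ⟨rfl, c.iu_comm.symm⟩

theorem Ku_le_CV : Ku c ≤ CV c := fun x hx => (mem_CV c).2
  ⟨Subgroup.mem_centralizer_singleton_iff.1 (c.hs.leL ((mem_Ku c).1 hx).1), ((mem_Ku c).1 hx).2⟩

theorem cv_cent_Ku {x : T} (hx : x ∈ CV c) {z : T} (hz : z ∈ Ku c) : x * z = z * x := by
  have key : ∀ x ∈ CV c, x ∈ c.M → Commute x z := by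
    intro x hx hM
    obtain ⟨y, hy, l, hl, -, rfl⟩ := cv_form c hx hM
    exact Commute.mul_left (c.hs.comm y hy z ((mem_Ku c).1 hz).1) (Ku_comm c hl hz)
  rcases c.mem_or (Subgroup.mem_centralizer_singleton_iff.2 ((mem_CV c).1 hx).1) with h | h
  · exact key x hx h
  · have h1 := key _ (mul_mem hx (iu_mem_CV c)) h
    have h2 : Commute c.iu⁻¹ z :=
      (show Commute c.iu z from ((mem_Ku c).1 hz).2.symm).inv_left
    have h3 := h1.mul_left h2
    rw [mul_inv_cancel_right] at h3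
    exact h3

theorem kk_coprime : (kk c).Coprime (Nat.card O) :=
  c.coprime.symm.coprime_dvd_left (by rw [card_L c]; exact ⟨p * (2 * Tc p), by ring⟩)

theorem mem_Kp_of_pow {x : T} (hx : x ∈ CV c) (h : x ^ kk c = 1) : x ∈ Kp c := by
  obtain ⟨h1, h2⟩ := (mem_CV c).1 hx
  have hM : x ∈ c.M := c.pow_odd_mem_M (Subgroup.mem_centralizer_singleton_iff.2 h1)
    (kk_odd c).2.1 (by rw [h]; exact one_mem _)
  exact ⟨(mem_Ku c).2 ⟨c.mem_L_of_pow hM (kk_coprime c) h, h2⟩, h⟩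

/-- An element of the normaliser of the four-group acting as a three-cycle. -/
structure Cyc (c : Ctx S t O L p) (h : T) : Prop where
  ht : h * t * h⁻¹ = t * c.iu
  hu : h * c.iu * h⁻¹ = t

theorem exists_cyc : ∃ h, Cyc c h := by
  obtain ⟨g0, hg0⟩ := isConj_iff.1 (c.hs.fusion c.iu t c.iu_order c.hs.ot)
  set t' := g0 * t * g0⁻¹ with ht'
  have hne : t' ≠ t := by
    intro e
    have h := hg0.trans e.symm
    rw [ht'] at h
    exact c.iu_ne_t (mul_left_cancel (mul_right_cancel h))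
  have ho' : orderOf t' = 2 := by rw [ht', orderOf_conj', c.hs.ot]
  have hC : t' ∈ Subgroup.centralizer ({t} : Set T) := by
    rw [Subgroup.mem_centralizer_singleton_iff]
    have h' : g0 * t * g0⁻¹ * (g0 * c.iu * g0⁻¹) = g0 * c.iu * g0⁻¹ * (g0 * t * g0⁻¹) := by
      rw [show g0 * t * g0⁻¹ * (g0 * c.iu * g0⁻¹) = g0 * (t * c.iu) * g0⁻¹ by group, ← c.iu_comm]
      group
    rw [hg0] at h'
    exact h' 
  obtain ⟨d, hd, hdt⟩ : ∃ d ∈ Subgroup.centralizer ({t} : Set T), d * t' * d⁻¹ = c.iu := by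
    have hSC : (S : Subgroup T) ≤ Subgroup.centralizer ({t} : Set T) := fun z hz =>
      Subgroup.mem_centralizer_singleton_iff.2 (c.hs.central z hz)
    have hZp : IsPGroup 2 (Subgroup.zpowers (⟨t', hC⟩ : Subgroup.centralizer ({t} : Set T))) :=
      IsPGroup.of_card (n := 1) (by rw [Nat.card_zpowers, Subgroup.orderOf_mk, ho', pow_one])
    obtain ⟨P, hP⟩ := hZp.exists_le_sylow
    obtain ⟨g, hg⟩ := MulAction.exists_smul_eq (Subgroup.centralizer ({t} : Set T)) P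
      (S.subtype hSC)
    have hzS : (g : T) * t' * (g : T)⁻¹ ∈ (S : Subgroup T) := by
      have : g * ⟨t', hC⟩ * g⁻¹ ∈
          ((S.subtype hSC : Sylow 2 _) : Subgroup (Subgroup.centralizer ({t} : Set T))) := by
        rw [← hg, Sylow.coe_subgroup_smul]
        exact ⟨⟨t', hC⟩, hP (Subgroup.mem_zpowers _), rfl⟩
      simpa [Sylow.coe_subtype, Subgroup.mem_subgroupOf] using this
    rcases inv_cases S c.E hzS (by rw [orderOf_conj', ho']) with e | ⟨i, e⟩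
    · exfalso
      apply hne
      have e' : (g : T) * t' * (g : T)⁻¹ = t := e.trans c.t_eq
      have hgt : (g : T) * t * (g : T)⁻¹ = t := by
        rw [Subgroup.mem_centralizer_singleton_iff.1 g.2, mul_inv_cancel_right]
      exact mul_left_cancel (mul_right_cancel (e'.trans hgt.symm))
    · refine ⟨c.em ⟨(1 - 2 * ((2 ^ c.m : ℕ) : ZMod (8 * 2 ^ c.m))) * -i, false⟩ * g,
        mul_mem (c.em_cent _) g.2, ?_⟩
      calc c.em ⟨(1 - 2 * ((2 ^ c.m : ℕ) : ZMod (8 * 2 ^ c.m))) * -i, false⟩ * (g : T) * t' *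
            (c.em ⟨(1 - 2 * ((2 ^ c.m : ℕ) : ZMod (8 * 2 ^ c.m))) * -i, false⟩ * (g : T))⁻¹
          = c.em ⟨(1 - 2 * ((2 ^ c.m : ℕ) : ZMod (8 * 2 ^ c.m))) * -i, false⟩ *
              ((g : T) * t' * (g : T)⁻¹) *
              (c.em ⟨(1 - 2 * ((2 ^ c.m : ℕ) : ZMod (8 * 2 ^ c.m))) * -i, false⟩)⁻¹ := by group
        _ = c.iu := by
          rw [e, Ctx.iu, ← map_inv]
          show c.em _ * c.em _ * c.em _ = _
          rw [← map_mul, ← map_mul, QDWreathQD.conj_even]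
          simp [Y]
  have hdt' : d * t * d⁻¹ = t := by
    rw [Subgroup.mem_centralizer_singleton_iff.1 hd, mul_inv_cancel_right]
  refine ⟨c.qs * (d * g0), ⟨?_, ?_⟩⟩
  · rw [show c.qs * (d * g0) * t * (c.qs * (d * g0))⁻¹ =
      c.qs * (d * (g0 * t * g0⁻¹) * d⁻¹) * c.qs⁻¹ by group, ← ht', hdt, qs_conj_iu]
  · rw [show c.qs * (d * g0) * c.iu * (c.qs * (d * g0))⁻¹ =
      c.qs * (d * (g0 * c.iu * g0⁻¹) * d⁻¹) * c.qs⁻¹ by group, hg0, hdt',
      Subgroup.mem_centralizer_singleton_iff.1 (c.hs.leL (qs_mem_L c)), mul_inv_cancel_right]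

variable {h : T} (hh : Cyc c h)
include hh

theorem h_tu : h * (t * c.iu) * h⁻¹ = c.iu := by
  rw [show h * (t * c.iu) * h⁻¹ = (h * t * h⁻¹) * (h * c.iu * h⁻¹) by group, hh.ht, hh.hu,
    mul_assoc, c.iu_comm, ← mul_assoc, c.t_sq, one_mul]

theorem h_cv {x : T} (hx : x ∈ CV c) : h * x * h⁻¹ ∈ CV c := by
  obtain ⟨h1, h2⟩ := (mem_CV c).1 hx
  have k1 : Commute (h * x * h⁻¹) t :=
    hh.hu ▸ (show Commute x c.iu from h2).map (MulAut.conj h).toMonoidHom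
  have k2 : Commute (h * x * h⁻¹) (t * c.iu) :=
    hh.ht ▸ (show Commute x t from h1).map (MulAut.conj h).toMonoidHom
  have k3 := k1.mul_right k2
  rw [← mul_assoc, c.t_sq, one_mul] at k3
  exact (mem_CV c).2 ⟨k1.eq, k3.eq⟩

theorem cube_mem : h ^ 3 ∈ CV c := by
  have e : ∀ x : T, h ^ 3 * x * (h ^ 3)⁻¹ = h * (h * (h * x * h⁻¹) * h⁻¹) * h⁻¹ := fun x => by
    rw [pow_succ, pow_two]; group
  refine (mem_CV c).2 ⟨mul_inv_eq_iff_eq_mul.1 ?_, mul_inv_eq_iff_eq_mul.1 ?_⟩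
  · rw [e, hh.ht, h_tu c hh, hh.hu]
  · rw [e, hh.hu, hh.ht, h_tu c hh]

theorem h_not_cent : h * t ≠ t * h := fun e => by
  have h1 := hh.ht
  rw [e, mul_inv_cancel_right] at h1
  exact c.iu_ne (by simpa using h1.symm)

theorem h_Kp {y : T} (hy : y ∈ Kp c) : h * y = y * h := by
  have g_mem : ∀ z ∈ Kp c, h * z * h⁻¹ ∈ Kp c := fun z hz =>
    mem_Kp_of_pow c (h_cv c hh (Ku_le_CV c hz.1)) (by rw [conj_pow, hz.2, mul_one, mul_inv_cancel])
  have hs' : ∀ z ∈ Kp c, c.qs⁻¹ * z * c.qs = z⁻¹ := fun z hz => by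
    have h1 := qs_inv_Ku c (inv_mem hz.1)
    rw [inv_inv] at h1
    conv_lhs => rw [← h1]
    group
  set h0 := c.qs⁻¹ * h with hh0
  have hqt : c.qs * t = t * c.qs := Subgroup.mem_centralizer_singleton_iff.1 (c.em_cent _)
  have ht0 : h0 * t * h0⁻¹ = c.iu := by
    rw [hh0, show c.qs⁻¹ * h * t * (c.qs⁻¹ * h)⁻¹ = c.qs⁻¹ * (h * t * h⁻¹) * c.qs by group, hh.ht,
      ← qs_conj_iu]
    group
  have hu0 : h0 * c.iu * h0⁻¹ = t := by
    rw [hh0, show c.qs⁻¹ * h * c.iu * (c.qs⁻¹ * h)⁻¹ = c.qs⁻¹ * (h * c.iu * h⁻¹) * c.qs by group,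
      hh.hu, mul_assoc, ← hqt, inv_mul_cancel_left]
  have hsq : h0 * h0 ∈ CV c := by
    refine (mem_CV c).2 ⟨mul_inv_eq_iff_eq_mul.1 ?_, mul_inv_eq_iff_eq_mul.1 ?_⟩
    · rw [show h0 * h0 * t * (h0 * h0)⁻¹ = h0 * (h0 * t * h0⁻¹) * h0⁻¹ by group, ht0, hu0]
    · rw [show h0 * h0 * c.iu * (h0 * h0)⁻¹ = h0 * (h0 * c.iu * h0⁻¹) * h0⁻¹ by group, hu0, ht0]
  have two : ∀ z ∈ Kp c, h * (h * z * h⁻¹) * h⁻¹ = z := by
    intro z hz
    have h2 : h0 * h0 * z * (h0 * h0)⁻¹ = z := by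
      rw [cv_cent_Ku c hsq hz.1, mul_inv_cancel_right]
    have h3 : ∀ w ∈ Kp c, h0 * w * h0⁻¹ = (h * w * h⁻¹)⁻¹ := fun w hw => by
      rw [← hs' _ (g_mem w hw), hh0]
      group
    rw [show h0 * h0 * z * (h0 * h0)⁻¹ = h0 * (h0 * z * h0⁻¹) * h0⁻¹ by group, h3 z hz,
      h3 _ (inv_mem (g_mem z hz))] at h2
    conv_rhs => rw [← h2]
    simp only [mul_inv_rev, inv_inv, mul_assoc]
  have three : h * (h * (h * y * h⁻¹) * h⁻¹) * h⁻¹ = y := by
    have h2 := cv_cent_Ku c (cube_mem c hh) hy.1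
    rw [show h * (h * (h * y * h⁻¹) * h⁻¹) * h⁻¹ = h ^ 3 * y * (h ^ 3)⁻¹ by
      rw [pow_succ, pow_two]; group, h2, mul_inv_cancel_right]
  rw [two _ (g_mem y hy)] at three
  exact mul_inv_eq_iff_eq_mul.1 three

theorem three_dvd : 3 ∣ orderOf h := by
  by_contra h3
  refine h_not_cent c hh (Subgroup.mem_centralizer_singleton_iff.1
    (mem_of_cube_mem (K := Subgroup.centralizer ({t} : Set T)) h3 ?_))
  exact Subgroup.mem_centralizer_singleton_iff.2 ((mem_CV c).1 (cube_mem c hh)).1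

/-- Elements normalising the four-group, up to the three-cycle and `qs`. -/
theorem NV_perm {n : T}
    (h1 : n * t * n⁻¹ = t ∨ n * t * n⁻¹ = c.iu ∨ n * t * n⁻¹ = t * c.iu)
    (h2 : n * c.iu * n⁻¹ = t ∨ n * c.iu * n⁻¹ = c.iu ∨ n * c.iu * n⁻¹ = t * c.iu) :
    ∃ i < 3, ∃ j < 2, c.qs ^ j * h ^ i * n ∈ CV c := by
  obtain ⟨i, hi, hit⟩ : ∃ i < 3, h ^ i * n * t * (h ^ i * n)⁻¹ = t := by
    rcases h1 with e | e | e
    · exact ⟨0, by norm_num, by rw [pow_zero, one_mul, e]⟩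
    · exact ⟨1, by norm_num, by
        rw [pow_one, show h * n * t * (h * n)⁻¹ = h * (n * t * n⁻¹) * h⁻¹ by group, e, hh.hu]⟩
    · exact ⟨2, by norm_num, by
        rw [pow_two, show h * h * n * t * (h * h * n)⁻¹ = h * (h * (n * t * n⁻¹) * h⁻¹) * h⁻¹ by
          group, e, h_tu c hh, hh.hu]⟩
  set m := h ^ i * n with hm
  have hpow : ∀ x : T, x = t ∨ x = c.iu ∨ x = t * c.iu → ∀ i : ℕ,
      h ^ i * x * (h ^ i)⁻¹ = t ∨ h ^ i * x * (h ^ i)⁻¹ = c.iu ∨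
        h ^ i * x * (h ^ i)⁻¹ = t * c.iu := by
    intro x hx i
    induction i with
    | zero => simpa using hx
    | succ i ih =>
      rw [pow_succ', show h * h ^ i * x * (h * h ^ i)⁻¹ = h * (h ^ i * x * (h ^ i)⁻¹) * h⁻¹ by group]
      rcases ih with e | e | e <;> rw [e]
      · exact Or.inr (Or.inr hh.ht)
      · exact Or.inl hh.hu
      · exact Or.inr (Or.inl (h_tu c hh))
  have hmu : m * c.iu * m⁻¹ = c.iu ∨ m * c.iu * m⁻¹ = t * c.iu := by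
    have e : m * c.iu * m⁻¹ = h ^ i * (n * c.iu * n⁻¹) * (h ^ i)⁻¹ := by rw [hm]; group
    rcases hpow _ h2 i with e' | e' | e'
    · exfalso
      rw [← e] at e'
      exact c.iu_ne_t (mul_left_cancel (mul_right_cancel (e'.trans hit.symm)))
    · exact Or.inl (e.trans e')
    · exact Or.inr (e.trans e')
  rcases hmu with e | e
  · refine ⟨i, hi, 0, by norm_num, ?_⟩
    rw [pow_zero, one_mul, ← hm]
    exact (mem_CV c).2 ⟨mul_inv_eq_iff_eq_mul.1 hit, mul_inv_eq_iff_eq_mul.1 e⟩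
  · refine ⟨i, hi, 1, by norm_num, ?_⟩
    rw [pow_one, mul_assoc, ← hm]
    have hqt : c.qs * t * c.qs⁻¹ = t := by
      show c.em (I _) * t * (c.em (I _))⁻¹ = t
      rw [Subgroup.mem_centralizer_singleton_iff.1 (c.em_cent (I _)), mul_inv_cancel_right]
    refine (mem_CV c).2 ⟨mul_inv_eq_iff_eq_mul.1 ?_, mul_inv_eq_iff_eq_mul.1 ?_⟩
    · rw [show c.qs * m * t * (c.qs * m)⁻¹ = c.qs * (m * t * m⁻¹) * c.qs⁻¹ by group, hit, hqt]
    · rw [show c.qs * m * c.iu * (c.qs * m)⁻¹ = c.qs * (m * c.iu * m⁻¹) * c.qs⁻¹ by group, e,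
        show c.qs * (t * c.iu) * c.qs⁻¹ = (c.qs * t * c.qs⁻¹) * (c.qs * c.iu * c.qs⁻¹) by group,
        hqt, qs_conj_iu, ← mul_assoc, c.t_sq, one_mul]

end Cfsg.Agent.CycSyl43SemiSLFour32
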