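import Cfsg.Agent.Lib.CycSyl43SemiSLCen32

/-!
The `SL(2,p)` configuration: the centraliser of an element of order three, triviality of the odd core,
and the abelian quotient by the four-group.
-/

set_option autoImplicit false
set_option linter.unusedSectionVars false

namespace Cfsg.Agent.CycSyl43SemiSLQuot32

open Cfsg.Agent.CycSyl43
open Cfsg.Agent.CycSyl43SemiSLBase32
open Cfsg.Agent.CycSyl43SemiSLFour32
open Cfsg.Agent.CycSyl43SemiSLCen32
open Cfsg.Agent.CycSyl43DihedralNorm (cyclic_of_pgroup eq_one_of_odd_of_two)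
open Cfsg.Agent.CycSyl43SLFacts32
open scoped MatrixGroups

universe u

variable {T : Type u} [Group T] [Finite T] {S : Sylow 2 T} {t : T} {O L : Subgroup T} {p : ℕ}
variable [Fact p.Prime] (c : Ctx S t O L p)
include c

theorem cv_cent_V {x : T} (hx : x ∈ CV c) {v : T} (hv : v ∈ V c) : x * v = v * x := by
  obtain ⟨h1, h2⟩ := (mem_CV c).1 hx
  rcases hv with e | e | e | e <;> rw [e]
  · simp
  · exact h1
  · exact h2
  · exact ((show Commute x t from h1).mul_right h2).eq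

theorem V_sq {v : T} (hv : v ∈ V c) : v * v = 1 := by
  rcases hv with e | e | e | e <;> rw [e]
  · exact one_mul 1
  · exact c.t_sq
  · exact c.iu_sq
  · rw [mul_assoc, ← mul_assoc c.iu, c.iu_comm, mul_assoc, c.iu_sq, mul_one, c.t_sq]

theorem t_mem_V : t ∈ V c := Or.inr (Or.inl rfl)

theorem iu_mem_V : c.iu ∈ V c := Or.inr (Or.inr (Or.inl rfl))

theorem mem_O_of_pow {x : T} (hx : x ∈ c.M) (h : x ^ Nat.card O = 1) : x ∈ O := by
  obtain ⟨y, hy, l, hl, rfl⟩ := hx
  rw [(show Commute y l from c.hs.comm y hy l hl).mul_pow] at h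
  obtain ⟨-, h2⟩ := c.split_unique (pow_mem hy _) (one_mem _) (pow_mem hl _) (one_mem _)
    (by rw [h, one_mul])
  have h3 : l = 1 := by
    rw [← orderOf_eq_one_iff]
    exact Nat.eq_one_of_dvd_coprimes c.coprime (orderOf_dvd_of_pow_eq_one h2)
      (Subgroup.orderOf_dvd_natCard L hl)
  rwa [h3, mul_one]

theorem Ku_split {z : T} (hz : z ∈ Ku c) : z ∈ Kp c ∨ z * t ∈ Kp c := by
  by_cases h1 : z ^ kk c = 1
  · exact Or.inl ⟨hz, h1⟩
  refine Or.inr ⟨mul_mem hz (t_mem_Ku c), ?_⟩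
  obtain ⟨hK, hodd, -⟩ := kk_odd c
  have htk : t ^ kk c = t := by
    obtain ⟨j, hj⟩ := hodd
    rw [hj, pow_succ, pow_mul, sq, c.t_sq, one_pow, one_mul]
  have h2 : z ^ kk c = t := by
    refine c.eq_t_of_involution (pow_mem (c.L_le_M ((mem_Ku c).1 hz).1) _) ?_ h1
    rw [← pow_add, ← two_mul, ← hK, ← (Ku_data c).2]
    exact orderOf_dvd_iff_pow_eq_one.1 (Subgroup.orderOf_dvd_natCard _ hz)
  rw [(show Commute z t from Ku_comm c hz (t_mem_Ku c)).mul_pow, h2, htk, c.t_sq]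

section element

variable {h : T} (hh : Cyc c h) {a : T} (ha : a ∈ Kp c) (ho : orderOf a = 3)
include hh ha ho

theorem a_ne : a ≠ 1 := fun e => by
  rw [e, orderOf_one] at ho
  omega

theorem a_ne_inv : a ≠ a⁻¹ := fun e => by
  have : orderOf a ∣ 2 := orderOf_dvd_of_pow_eq_one (by rw [sq]; nth_rw 2 [e]; rw [mul_inv_cancel])
  rw [ho] at this
  norm_num at this

theorem h_pow_a (i : ℕ) : h ^ i * a = a * h ^ i :=
  ((show Commute h a from h_Kp c hh ha).pow_left i).eq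

theorem h_pow_cv {x : T} (hx : x ∈ CV c) (i : ℕ) : h ^ i * x * (h ^ i)⁻¹ ∈ CV c := by
  induction i with
  | zero => simpa using hx
  | succ i ih =>
    rw [pow_succ', show h * h ^ i * x * (h * h ^ i)⁻¹ = h * (h ^ i * x * (h ^ i)⁻¹) * h⁻¹ by group]
    exact h_cv c hh ih

/-- Elements of the centraliser of `a` normalising the four-group. -/
theorem norm_form {x : T} (hxa : x * a = a * x) (hxV : ∀ v ∈ V c, x * v * x⁻¹ ∈ V c) :
    ∃ i < 3, h ^ i * x ∈ CV c := by
  have key : ∀ v ∈ V c, v ≠ 1 →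
      x * v * x⁻¹ = t ∨ x * v * x⁻¹ = c.iu ∨ x * v * x⁻¹ = t * c.iu := by
    intro v hv hv1
    rcases hxV v hv with e | e
    · exact absurd (conj_eq_one_iff.1 e) hv1
    · exact e
  obtain ⟨i, hi, j, hj, hij⟩ := NV_perm c hh (key t (t_mem_V c) c.t_ne)
    (key c.iu (iu_mem_V c) c.iu_ne)
  refine ⟨i, hi, ?_⟩
  interval_cases j
  · simpa using hij
  · exfalso
    refine a_ne_inv c hh ha ho ?_
    have h1 : Commute (c.qs ^ 1 * h ^ i * x) a := cv_cent_Ku c hij ha.1
    have h2 : Commute (h ^ i * x) a := Commute.mul_left (h_pow_a c hh ha ho i) hxa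
    rw [pow_one, mul_assoc] at h1
    have h3 := h1.mul_left h2.inv_left
    rw [mul_inv_cancel_right] at h3
    have h4 := qs_inv_Ku c ha.1
    rw [h3.eq, mul_inv_cancel_right] at h4
    exact h4

theorem cube_cv {i : ℕ} {x : T} (hx : h ^ i * x ∈ CV c) : x ^ 3 ∈ CV c := by
  set g := h ^ (2 * i) with hg
  set z := g * (h ^ i * x) * g⁻¹ with hz
  have hz' : z ∈ CV c := h_pow_cv c hh ha ho hx _
  have hw : (h ^ 3) ^ i ∈ CV c := pow_mem (cube_mem c hh) i
  set z' := ((h ^ 3) ^ i)⁻¹ * z with hz''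
  have hzc : z' ∈ CV c := mul_mem (inv_mem hw) hz'
  have hx' : x = z' * g := by
    rw [hz'', hz, hg, ← pow_mul, show 3 * i = 2 * i + i by ring, pow_add]
    group
  have hg3 : g * g * g ∈ CV c := by
    have : g * g * g = (h ^ 3) ^ (2 * i) := by
      rw [hg, ← pow_add, ← pow_add, ← pow_mul]
      congr 1
      ring
    rw [this]
    exact pow_mem (cube_mem c hh) _
  have e : x ^ 3 = z' * (g * z' * g⁻¹) * (g * g * z' * (g * g)⁻¹) * (g * g * g) := by
    rw [hx', pow_succ, pow_two]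
    group
  rw [e]
  refine mul_mem (mul_mem (mul_mem hzc (h_pow_cv c hh ha ho hzc _)) ?_) hg3
  rw [hg, ← pow_add]
  exact h_pow_cv c hh ha ho hzc _

/-- The four-group is normal in the centraliser of `a`. -/
theorem V_normal {x : T} (hx : x * a = a * x) {v : T} (hv : v ∈ V c) : x * v * x⁻¹ ∈ V c := by
  set C := Subgroup.centralizer ({a} : Set T) with hC
  have hmemC : ∀ {z}, z ∈ C ↔ z * a = a * z := Subgroup.mem_centralizer_singleton_iff
  have haC : a ∈ C := hmemC.2 rfl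
  have hVC : V c ≤ C := V_le_cent c ha (a_ne c hh ha ho)
  have hhC : h ∈ C := hmemC.2 (h_Kp c hh ha)
  have : Fact (Nat.Prime 3) := ⟨Nat.prime_three⟩
  -- the normal 3-complement
  obtain ⟨P⟩ := (inferInstance : Nonempty (Sylow 3 C))
  have := CycSyl43Assembly.oddCyclic_subgroup c.hodd C 3 Nat.prime_three (by norm_num) P
  obtain ⟨N3, hN3C, -, -, hN3⟩ := burnside_sub C P (central_normalizer P (a := ⟨a, haC⟩)
    (by rw [Subgroup.orderOf_mk, ho]) fun z => Subtype.ext (hmemC.1 z.2))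
  have hVN : V c ≤ N3 := fun z hz => (hN3 z (hVC hz)).2 fun h3 => by
    have h2 : orderOf z ∣ 2 := orderOf_dvd_of_pow_eq_one (by rw [sq, V_sq c hz])
    have := h3.trans h2
    norm_num at this
  -- the normal 2-complement inside it
  obtain ⟨P2, hP2⟩ := ((V_two c).of_equiv (Subgroup.subgroupOfEquivOfLe hVN).symm).exists_le_sylow
  have hP2V : (P2 : Subgroup N3).map N3.subtype = V c :=
    two_le_V c ha (a_ne c hh ha ho) hh (P2.2.map _) (fun z hz => ⟨⟨z, hVN hz⟩, hP2 hz, rfl⟩)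
      ((Subgroup.map_subtype_le _).trans hN3C)
  have hnc : Subgroup.normalizer ((P2 : Subgroup N3) : Set N3) ≤
      Subgroup.centralizer ((P2 : Subgroup N3) : Set N3) := by
    intro n hn
    have hnV : ∀ z ∈ V c, (n : T) * z * (n : T)⁻¹ ∈ V c := by
      intro z hz
      rw [← hP2V] at hz ⊢
      obtain ⟨w, hw, rfl⟩ := hz
      exact ⟨n * w * n⁻¹, CoprimeAction.conj_mem hn hw, by simp⟩
    obtain ⟨i, -, hi⟩ := norm_form c hh ha ho (hmemC.1 (hN3C n.2)) hnV
    have hnCV : (n : T) ∈ CV c :=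
      mem_of_cube_mem ((hN3 _ (hN3C n.2)).1 n.2) (cube_cv c hh ha ho hi)
    refine Subgroup.mem_centralizer_iff.2 fun w hw => Subtype.ext ?_
    exact (cv_cent_V c hnCV (hP2V ▸ ⟨w, hw, rfl⟩)).symm
  obtain ⟨W, hWN, hWcard, hWodd, hW⟩ := burnside_sub N3 P2 hnc
  have hc4 : Nat.card (P2 : Subgroup N3) = 4 := by
    rw [← card_V c, ← hP2V, Subgroup.card_map_of_injective N3.subtype_injective]
  rw [hc4] at hWcard
  have hWC : W ≤ C := hWN.trans hN3C
  have hWiff : ∀ z ∈ C, (z ∈ W ↔ ¬ 3 ∣ orderOf z ∧ ¬ 2 ∣ orderOf z) := fun z hz =>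
    ⟨fun h => ⟨(hN3 z hz).1 (hWN h), (hW z (hWN h)).1 h⟩,
      fun h => (hW z ((hN3 z hz).2 h.1)).2 h.2⟩
  have hWconj : ∀ g ∈ C, ∀ z ∈ W, g * z * g⁻¹ ∈ W := fun g hg z hz =>
    (hWiff _ (mul_mem (mul_mem hg (hWC hz)) (inv_mem hg))).2 (by
      rw [orderOf_conj']
      exact (hWiff z (hWC hz)).1 hz)
  have hVW : V c ≤ Subgroup.normalizer (W : Set T) :=
    CoprimeAction.le_normalizer_of_conj_mem fun g hg => hWconj g (hVC hg)
  have hcop : (Nat.card (V c)).Coprime (Nat.card W) := by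
    rw [card_V, show (4 : ℕ) = 2 ^ 2 by norm_num]
    exact ((Nat.Prime.coprime_iff_not_dvd Nat.prime_two).2 hWodd).pow_left _
  -- the four-group centralises `W`
  have hcent : W ≤ Subgroup.centralizer (V c : Set T) := by
    have hdvd : Nat.card W ∣ Nat.card (W ⊓ Subgroup.centralizer (V c : Set T) : Subgroup T) := by
      rw [Nat.dvd_iff_prime_pow_dvd_dvd]
      intro q k hq hqk
      rcases Nat.eq_zero_or_pos k with rfl | hk
      · simp
      have hqW : q ∣ Nat.card W := (dvd_pow_self q hk.ne').trans hqk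
      have hq2 : q ≠ 2 := fun e => hWodd (e ▸ hqW)
      have := Fact.mk hq
      obtain ⟨Q, hQ⟩ := CoprimeAction.exists_invariant_sylow hVW hcop
        (Or.inl (CoprimeAction.isSolvable_of_isPGroup (V_two c))) q
      set Q' := (Q : Subgroup W).map W.subtype with hQ'
      have := cyclic_of_pgroup c.hodd hq hq2 Q' (Q.2.map _)
      have hQW : Q' ≤ W := Subgroup.map_subtype_le _
      -- an element inducing the three-cycle and normalising `Q'`
      obtain ⟨R, hR⟩ := CoprimeAction.exists_sylow_map_eq (p := q) (K := W)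
        (P := Q'.map (MulAut.conj h).toMonoidHom)
        (by rintro _ ⟨z, hz, rfl⟩; exact hWconj h hhC z (hQW hz))
        (by rw [Subgroup.card_map_of_injective (MulAut.conj h).injective, hQ',
          CoprimeAction.card_map_sylow Q])
      obtain ⟨w, hw⟩ := MulAction.exists_smul_eq W R Q
      have hn : (w : T) * h ∈ Subgroup.normalizer (Q' : Set T) := by
        refine QDFusion.mem_normalizer_of_map_le fun y hy => ?_
        have h1 : h * y * h⁻¹ ∈ (R : Subgroup W).map W.subtype := hR ▸ ⟨y, hy, rfl⟩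
        obtain ⟨r, hr, hre⟩ := h1
        refine ⟨w * r * w⁻¹, ?_, ?_⟩
        · rw [← hw, Sylow.coe_subgroup_smul]
          exact ⟨r, hr, rfl⟩
        · rw [show (w : T) * h * y * ((w : T) * h)⁻¹ = (w : T) * (h * y * h⁻¹) * (w : T)⁻¹ by group,
            ← hre]
          simp
      have step : ∀ a1 b1, a1 ∈ V c → b1 ∈ V c → h * a1 * h⁻¹ = b1 →
          ∀ y ∈ Q', b1 * a1 * y = y * (b1 * a1) := by
        intro a1 b1 ha1 hb1 he y hy
        set w' := (w : T) * (b1 * (w : T)⁻¹ * b1⁻¹) with hw'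
        have hw'W : w' ∈ W := mul_mem w.2 (hWconj b1 (hVC hb1) _ (inv_mem w.2))
        set v' := b1 * a1 with hv'
        have hv'V : v' ∈ V c := mul_mem hb1 ha1
        have hv2 := V_sq c hv'V
        have hinv : a1⁻¹ = a1 := inv_eq_of_mul_eq_one_left (V_sq c ha1)
        have hcomm : (w : T) * h * a1 * ((w : T) * h)⁻¹ * a1⁻¹ = w' * v' := by
          rw [show (w : T) * h * a1 * ((w : T) * h)⁻¹ * a1⁻¹ =
            (w : T) * (h * a1 * h⁻¹) * (w : T)⁻¹ * a1⁻¹ by group, he, hinv, hw', hv']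
          group
        have hc1 : w' * v' ∈ Subgroup.normalizer (Q' : Set T) := by
          rw [← hcomm]
          exact mul_mem (mul_mem (mul_mem hn (hQ ha1)) (inv_mem hn)) (inv_mem (hQ ha1))
        have hc2 : ∀ z ∈ Q', w' * v' * z = z * (w' * v') := fun z hz => by
          have := CycSyl43DihedralNorm.commutator_centralizes Q' hn (hQ ha1) z hz
          rwa [hcomm] at this
        have hw'n : w' ∈ Subgroup.normalizer (Q' : Set T) := by
          have := mul_mem hc1 (inv_mem (hQ hv'V))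
          rwa [mul_inv_cancel_right] at this
        have hact : ∀ z ∈ Q', w' * z * w'⁻¹ = v' * z * v'⁻¹ := by
          intro z hz
          have h1 := hc2 _ (CoprimeAction.conj_mem (hQ hv'V) hz)
          have hvi : v'⁻¹ = v' := inv_eq_of_mul_eq_one_left hv2
          have h2 : w' * v' * (v' * z * v'⁻¹) = w' * z * v'⁻¹ := by
            rw [show w' * v' * (v' * z * v'⁻¹) = w' * (v' * v') * z * v'⁻¹ by group, hv2, mul_one]
          rw [h2, hvi] at h1
          rw [hvi]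
          calc w' * z * w'⁻¹ = w' * z * v' * (v'⁻¹ * w'⁻¹) := by group
            _ = v' * z * v' * (w' * v') * (v'⁻¹ * w'⁻¹) := by rw [h1]
            _ = v' * z * v' := by group
        have hsq : ∀ z ∈ Q', w' ^ 2 * z = z * w' ^ 2 := by
          intro z hz
          have h1 : w' * (w' * z * w'⁻¹) * w'⁻¹ = z := by
            rw [hact z hz, hact _ (CoprimeAction.conj_mem (hQ hv'V) hz),
              show v' * (v' * z * v'⁻¹) * v'⁻¹ = (v' * v') * z * (v' * v')⁻¹ by group, hv2]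
            group
          refine mul_inv_eq_iff_eq_mul.1 ?_
          rw [pow_two]
          calc w' * w' * z * (w' * w')⁻¹ = w' * (w' * z * w'⁻¹) * w'⁻¹ := by group
            _ = z := h1
        have hw'c : w' ∈ Subgroup.centralizer (Q' : Set T) := by
          refine mem_of_coprime_pows (a := 2) (b := orderOf w') ?_ ?_ ?_
          · exact (Nat.Prime.coprime_iff_not_dvd Nat.prime_two).2 ((hWiff _ (hWC hw'W)).1 hw'W).2
          · exact Subgroup.mem_centralizer_iff.2 fun z hz => (hsq z hz).symm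
          · rw [pow_orderOf_eq_one]; exact one_mem _
        have h3 := hact y hy
        rw [show w' * y * w'⁻¹ = y by
          rw [← Subgroup.mem_centralizer_iff.1 hw'c y hy, mul_inv_cancel_right]] at h3
        exact (eq_mul_inv_iff_mul_eq.1 h3).symm
      have s1 := step t (t * c.iu) (t_mem_V c) (mul_mem (t_mem_V c) (iu_mem_V c)) hh.ht
      have s2 := step c.iu t (iu_mem_V c) (t_mem_V c) hh.hu
      have e1 : t * c.iu * t = c.iu := by rw [mul_assoc, c.iu_comm, ← mul_assoc, c.t_sq, one_mul]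
      have hQc : Q' ≤ W ⊓ Subgroup.centralizer (V c : Set T) := by
        refine le_inf hQW fun y hy => Subgroup.mem_centralizer_iff.2 fun z hz => ?_
        have hu : Commute c.iu y := by
          have := s1 y hy
          rwa [e1] at this
        have htu : Commute (t * c.iu) y := s2 y hy
        have ht' : Commute t y := by
          have := htu.mul_left hu
          rwa [mul_assoc, c.iu_sq, mul_one] at this
        rcases hz with e | e | e | e <;> rw [e]
        · simp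
        · exact ht'.eq
        · exact hu.eq
        · exact htu.eq
      refine Dvd.dvd.trans ?_ (Subgroup.card_dvd_of_le hQc)
      rw [hQ', CoprimeAction.card_map_sylow Q]
      exact pow_dvd_pow q ((hq.pow_dvd_iff_le_factorization Nat.card_pos.ne').1 hqk)
    exact (Subgroup.eq_of_le_of_card_ge (inf_le_left : W ⊓ Subgroup.centralizer (V c : Set T) ≤ W)
      (Nat.le_of_dvd Nat.card_pos hdvd)).ge.trans inf_le_right
  -- every element of the 3-complement is a product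
  have hprod : ∀ z ∈ N3, ∃ w ∈ W, ∃ v ∈ V c, w * v = z := by
    let f : W × V c → N3 := fun z => ⟨z.1 * z.2, mul_mem (hWN z.1.2) (hVN z.2.2)⟩
    have hinj : Function.Injective f := by
      intro z z' he
      have e := congrArg Subtype.val he
      have h1 : (z'.1 : T)⁻¹ * z.1 = z'.2 * (z.2 : T)⁻¹ := by
        rw [eq_mul_inv_iff_mul_eq, mul_assoc]
        exact inv_mul_eq_iff_eq_mul.2 e
      have h2 : (z'.1 : T)⁻¹ * z.1 = 1 := by
        refine eq_one_of_odd_of_two (Nat.odd_iff.2 (Nat.two_dvd_ne_zero.1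
          ((hW _ (hWN (mul_mem (inv_mem z'.1.2) z.1.2))).1 (mul_mem (inv_mem z'.1.2) z.1.2))))
          (pow_orderOf_eq_one _) (a := 1) ?_
        rw [pow_one, sq, h1, V_sq c (mul_mem z'.2.2 (inv_mem z.2.2))]
      rw [h2, eq_comm, mul_inv_eq_one] at h1
      rw [inv_mul_eq_one] at h2
      exact Prod.ext (Subtype.ext h2.symm) (Subtype.ext h1.symm)
    have hbij : Function.Bijective f := (Nat.bijective_iff_injective_and_card f).2
      ⟨hinj, by rw [Nat.card_prod, card_V]; exact hWcard⟩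
    intro z hz
    obtain ⟨⟨w, v⟩, hwv⟩ := hbij.2 ⟨z, hz⟩
    exact ⟨w, w.2, v, v.2, congrArg Subtype.val hwv⟩
  by_cases hv1 : v = 1
  · rw [hv1, mul_one, mul_inv_cancel]; exact one_mem _
  have hxC : x ∈ C := hmemC.2 hx
  have hzN : x * v * x⁻¹ ∈ N3 :=
    (hN3 _ (mul_mem (mul_mem hxC (hVC hv)) (inv_mem hxC))).2 (by
      rw [orderOf_conj']
      exact (hN3 _ (hVC hv)).1 (hVN hv))
  obtain ⟨w, hw, v1, hv1', he⟩ := hprod _ hzN
  have hwv : Commute w v1 := (Subgroup.mem_centralizer_iff.1 (hcent hw) v1 hv1').symm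
  have h2 : (w * v1) * (w * v1) = 1 := by
    rw [he, show x * v * x⁻¹ * (x * v * x⁻¹) = x * (v * v) * x⁻¹ by group, V_sq c hv, mul_one,
      mul_inv_cancel]
  rw [hwv.symm.mul_mul_mul_comm, V_sq c hv1', mul_one] at h2
  have hw1 : w = 1 := eq_one_of_odd_of_two (Nat.odd_iff.2 (Nat.two_dvd_ne_zero.1
    ((hW _ (hWN hw)).1 hw))) (pow_orderOf_eq_one _) (a := 1) (by rw [pow_one, sq, h2])
  rw [← he, hw1, one_mul]
  exact hv1'

theorem cy_form {x : T} (hx : x * a = a * x) : ∃ i < 3, h ^ i * x ∈ CV c :=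
  norm_form c hh ha ho hx fun _ hv => V_normal c hh ha ho hx hv

theorem pow_commute_t {i : ℕ} (hi : i < 3) (hit : h ^ i * t = t * h ^ i) : i = 0 := by
  by_contra h0
  have h3 : Commute (h ^ 3) t := ((mem_CV c).1 (cube_mem c hh)).1
  interval_cases i
  · omega
  · rw [pow_one] at hit
    exact h_not_cent c hh hit
  · refine h_not_cent c hh ?_
    have h4 := h3.mul_left (show Commute (h ^ 2) t from hit).inv_left
    rw [show h ^ 3 * (h ^ 2)⁻¹ = h by group] at h4
    exact h4.eq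

theorem cv_of_cent {x : T} (hx : x * a = a * x) (hxt : x * t = t * x) : x ∈ CV c := by
  obtain ⟨i, hi, hiv⟩ := cy_form c hh ha ho hx
  have h1 : Commute (h ^ i * x) t := ((mem_CV c).1 hiv).1
  have h2 := h1.mul_left (show Commute x t from hxt).inv_left
  rw [mul_inv_cancel_right] at h2
  obtain rfl := pow_commute_t c hh ha ho hi h2.eq
  simpa using hiv

theorem O_comm_u {y : T} (hy : y ∈ O) : y ∈ CV c :=
  cv_of_cent c hh ha ho (c.hs.comm y hy a ((mem_Ku c).1 ha.1).1)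
    (Subgroup.mem_centralizer_singleton_iff.1 (c.hs.le hy))

theorem h_norm_O {y : T} (hy : y ∈ O) : h * y * h⁻¹ ∈ O := by
  have h1 := h_cv c hh (O_comm_u c hh ha ho hy)
  have h2 : (h * y * h⁻¹) ^ Nat.card O = 1 := by
    rw [conj_pow, orderOf_dvd_iff_pow_eq_one.1 (Subgroup.orderOf_dvd_natCard O hy), mul_one,
      mul_inv_cancel]
  exact mem_O_of_pow c (c.pow_odd_mem_M (Subgroup.mem_centralizer_singleton_iff.2
    ((mem_CV c).1 h1).1) c.hs.odd (by rw [h2]; exact one_mem _)) h2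

/-- The odd core is trivial. -/
theorem O_bot (hA : Assembly.{u}) (hmin : CycSyl43.Min T) : O = ⊥ := by
  by_contra hO
  set H0 := Subgroup.normalizer (O : Set T) with hH0
  have hCH : Subgroup.centralizer ({t} : Set T) ≤ H0 :=
    CoprimeAction.le_normalizer_of_conj_mem fun g hg => c.hs.normal g hg
  have hhH : h ∈ H0 := QDFusion.mem_normalizer_of_map_le fun y hy => h_norm_O c hh ha ho hy
  have hne : H0 ≠ ⊤ := by
    intro he
    have := hmin.simple
    rcases (Subgroup.normalizer_eq_top_iff.1 he).eq_bot_or_eq_top with e | e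
    · exact hO e
    · have h1 := c.hs.odd
      rw [e, Subgroup.card_top] at h1
      have h2 := h1.of_dvd_nat (orderOf_dvd_natCard t)
      rw [c.hs.ot] at h2
      exact Nat.not_even_iff_odd.2 h2 even_two
  have hlt : Nat.card H0 < Nat.card T := by
    refine lt_of_le_of_ne (Subgroup.card_le_card_group H0) fun e => hne ?_
    exact Subgroup.eq_top_of_card_eq H0 e
  have hLH : L ≤ H0 := c.hs.leL.trans hCH
  have hns : ¬ Group.IsSolvable H0 := fun hs =>
    not_solvable c.five (@Group.isSolvable_of_isSolvable_injective _ _ _ _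
      ((Subgroup.inclusion hLH).comp c.e.symm.toMonoidHom)
      ((Subgroup.inclusion_injective hLH).comp c.e.symm.injective) hs)
  obtain ⟨G₀, hn, hi, X, L', hX, hL', hXL, hXL', -, hXodd, -, q, hq, hq5, hiso⟩ :=
    hA H0 (fun T' _ _ a b d e f => hmin.below T' a b d e (lt_of_lt_of_le f hlt)) hns
      (CycSyl43Assembly.oddCyclic_subgroup hmin.hodd H0)
      (CycSyl43Assembly.twoSmall_subgroup hmin.h2 H0)
  -- `L` lies in `G₀`
  let ι : SL(2, ZMod p) →* H0 := (Subgroup.inclusion hLH).comp c.e.symm.toMonoidHom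
  have hLG : G₀.comap ι = ⊤ := eq_top_of_sq c.p_ne _ fun A => by
    rw [Subgroup.mem_comap, map_pow]
    obtain ⟨d, hd⟩ := hi
    have h1 := pow_mem (G₀.pow_index_mem (ι A)) d
    rw [← pow_mul, ← hd] at h1
    exact h1
  have hL0 : ∀ l (hl : l ∈ L), (⟨l, hLH hl⟩ : H0) ∈ G₀ := by
    intro l hl
    have h1 : c.e ⟨l, hl⟩ ∈ G₀.comap ι := hLG ▸ Subgroup.mem_top _
    simpa [ι, Subgroup.inclusion] using h1
  -- 2-elements of `G₀` lie in `L'`
  have htwo : ∀ z : G₀, ∀ n : ℕ, z ^ (2 ^ n) = 1 → z ∈ L' := by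
    intro z n hz
    obtain ⟨x, hx, l, hl, rfl⟩ := Subgroup.mem_sup_of_normal_left.1
      (show z ∈ X ⊔ L' by rw [hXL']; exact Subgroup.mem_top z)
    have hd : Disjoint X L' := disjoint_iff.2 hXL
    have hc := Subgroup.commute_of_normal_of_disjoint X L' hX hL' hd x l hx hl
    rw [hc.mul_pow, mul_eq_one_iff_eq_inv] at hz
    have h1 : x ^ (2 ^ n) = 1 := by
      have h2 : x ^ (2 ^ n) ∈ X ⊓ L' :=
        Subgroup.mem_inf.2 ⟨pow_mem hx _, hz ▸ inv_mem (pow_mem hl _)⟩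
      rwa [hXL, Subgroup.mem_bot] at h2
    rw [eq_one_of_odd_of_two hXodd
      (orderOf_dvd_iff_pow_eq_one.1 (Subgroup.orderOf_dvd_natCard X hx)) h1, one_mul]
    exact hl
  have htH : t ∈ H0 := hLH c.hs.tL
  have huH : c.iu ∈ H0 := hCH c.iu_cent
  have huG : (⟨c.iu, huH⟩ : H0) ∈ G₀ := by
    have h1 : (⟨h, hhH⟩ : H0) * ⟨t, htH⟩ * ⟨h, hhH⟩⁻¹ ∈ G₀ := hn.conj_mem _ (hL0 t c.hs.tL) _
    have h2 := mul_mem (hL0 t c.hs.tL) h1
    have e : (⟨t, htH⟩ : H0) * (⟨h, hhH⟩ * ⟨t, htH⟩ * ⟨h, hhH⟩⁻¹) = ⟨c.iu, huH⟩ :=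
      Subtype.ext (show t * (h * t * h⁻¹) = c.iu by rw [hh.ht, ← mul_assoc, c.t_sq, one_mul])
    rwa [e] at h2
  let t' : G₀ := ⟨⟨t, htH⟩, hL0 t c.hs.tL⟩
  let u' : G₀ := ⟨⟨c.iu, huH⟩, huG⟩
  have ht' : t' * t' = 1 := Subtype.ext (Subtype.ext c.t_sq)
  have hu' : u' * u' = 1 := Subtype.ext (Subtype.ext c.iu_sq)
  have hq2 : q ≠ 2 := by omega
  rcases hiso with ⟨⟨f⟩⟩ | ⟨⟨f⟩⟩
  · let s' : G₀ := ⟨⟨c.qs, hLH (qs_mem_L c)⟩, hL0 _ (qs_mem_L c)⟩
    let b' : G₀ := ⟨⟨c.qb, hLH (qb_mem_L c)⟩, hL0 _ (qb_mem_L c)⟩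
    have hs2 : s' * s' = t' := Subtype.ext (Subtype.ext (qs_sq c))
    have hb2 : b' * b' = t' := Subtype.ext (Subtype.ext (qb_sq c))
    have hs4 : s' ∈ L' := htwo s' 2 (by
      rw [show (2 : ℕ) ^ 2 = 2 * 2 by norm_num, pow_mul, sq, sq, hs2, ht'])
    have hb4 : b' ∈ L' := htwo b' 2 (by
      rw [show (2 : ℕ) ^ 2 = 2 * 2 by norm_num, pow_mul, sq, sq, hb2, ht'])
    have e1 : f ⟨s', hs4⟩ * f ⟨s', hs4⟩ = f ⟨b', hb4⟩ * f ⟨b', hb4⟩ := by
      rw [← map_mul, ← map_mul]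
      exact congrArg f (Subtype.ext (hs2.trans hb2.symm))
    have e2 : f ⟨b', hb4⟩ * f ⟨s', hs4⟩ * (f ⟨b', hb4⟩)⁻¹ = (f ⟨s', hs4⟩)⁻¹ := by
      rw [← map_inv, ← map_inv, ← map_mul, ← map_mul]
      exact congrArg f (Subtype.ext (Subtype.ext (Subtype.ext (qb_conj_qs c))))
    have h3 := psl_no_pair hq2 e1 e2
    rw [← map_mul, map_eq_one_iff f f.injective] at h3
    exact c.t_ne (congrArg (fun z : L' => ((z : G₀) : H0).1) h3 |> fun h => by
      simpa [s', qs_sq c] using h)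
  · have ht4 : t' ∈ L' := htwo t' 1 (by rw [pow_one, sq, ht'])
    have hu4 : u' ∈ L' := htwo u' 1 (by rw [pow_one, sq, hu'])
    have key : ∀ z : L', z * z = 1 → z ≠ 1 → f z = -1 := fun z hz hz1 => by
      rcases PSL2Elements.eq_one_or_neg_one_of_sq_eq_one (two_ne hq2) (A := f z)
        (by rw [sq, ← map_mul, hz, map_one]) with e | e
      · exact absurd (f.injective (e.trans (map_one f).symm)) hz1
      · exact e
    have e1 := key ⟨t', ht4⟩ (Subtype.ext ht') fun e =>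
      c.t_ne (congrArg (fun z : L' => ((z : G₀) : H0).1) e)
    have e2 := key ⟨u', hu4⟩ (Subtype.ext hu') fun e =>
      c.iu_ne (congrArg (fun z : L' => ((z : G₀) : H0).1) e)
    exact c.iu_ne_t (congrArg (fun z : L' => ((z : G₀) : H0).1)
      (f.injective (e2.trans e1.symm)))

/-! ### After the odd core is trivial -/

variable (hO : O = ⊥)
include hO

theorem cv_elems {x : T} (hx : x ∈ CV c) : ∃ k ∈ Kp c, ∃ v ∈ V c, x = k * v := by
  have key : ∀ z ∈ CV c, z ∈ c.M → ∃ k ∈ Kp c, ∃ v ∈ V c, z = k * v := by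
    intro z hz hM
    obtain ⟨y, hy, l, hl, -, rfl⟩ := cv_form c hz hM
    rw [hO, Subgroup.mem_bot] at hy
    rw [hy, one_mul]
    rcases Ku_split c hl with e | e
    · exact ⟨l, e, 1, one_mem _, (mul_one l).symm⟩
    · exact ⟨l * t, e, t, t_mem_V c, by rw [mul_assoc, c.t_sq, mul_one]⟩
  rcases c.mem_or (Subgroup.mem_centralizer_singleton_iff.2 ((mem_CV c).1 hx).1) with hM | hM
  · exact key x hx hM
  · obtain ⟨k, hk, v, hv, e⟩ := key _ (mul_mem hx (iu_mem_CV c)) hM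
    refine ⟨k, hk, v * c.iu, mul_mem hv (iu_mem_V c), ?_⟩
    rw [← mul_assoc, ← e, mul_assoc, c.iu_sq, mul_one]

theorem card_CV : Nat.card (CV c) = 4 * kk c := by
  have h1 : CV c = Subgroup.centralizer ({t} : Set T) ⊓ Subgroup.centralizer ({a} : Set T) := by
    ext x
    rw [Subgroup.mem_inf, Subgroup.mem_centralizer_singleton_iff,
      Subgroup.mem_centralizer_singleton_iff]
    exact ⟨fun hx => ⟨((mem_CV c).1 hx).1, cv_cent_Ku c hx ha.1⟩,
      fun hx => cv_of_cent c hh ha ho hx.2 hx.1⟩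
  rw [h1, card_cent_inf c ha (a_ne c hh ha ho), Subgroup.card_eq_one.2 hO, one_mul]

theorem card_cent_a : Nat.card (Subgroup.centralizer ({a} : Set T)) = 12 * kk c := by
  let f : Fin 3 × CV c → Subgroup.centralizer ({a} : Set T) := fun z => ⟨h ^ (z.1 : ℕ) * z.2,
    mul_mem (Subgroup.mem_centralizer_singleton_iff.2 (h_pow_a c hh ha ho z.1))
      (Subgroup.mem_centralizer_singleton_iff.2 (cv_cent_Ku c z.2.2 ha.1))⟩
  have key : ∀ i j : ℕ, i ≤ j → j < 3 → ∀ x ∈ CV c, ∀ y ∈ CV c,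
      h ^ i * x = h ^ j * y → i = j := by
    intro i j hij hj x hx y hy e
    have h1 : h ^ (j - i) = x * y⁻¹ := by
      rw [eq_mul_inv_iff_mul_eq]
      apply mul_left_cancel (a := h ^ i)
      rw [← mul_assoc, ← pow_add, Nat.add_sub_cancel' hij, e]
    have h2 := pow_commute_t c hh ha ho (i := j - i) (by omega)
      (h1 ▸ ((mem_CV c).1 (mul_mem hx (inv_mem hy))).1)
    omega
  have hf : Function.Bijective f := by
    refine ⟨fun z z' e => ?_, fun ⟨x, hx⟩ => ?_⟩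
    · have e' := congrArg Subtype.val e
      have h0 : (z.1 : ℕ) = z'.1 := by
        rcases le_total (z.1 : ℕ) z'.1 with hle | hle
        · exact key _ _ hle z'.1.2 _ z.2.2 _ z'.2.2 e'
        · exact (key _ _ hle z.1.2 _ z'.2.2 _ z.2.2 e'.symm).symm
      have h1 : z.1 = z'.1 := Fin.ext h0
      refine Prod.ext h1 (Subtype.ext ?_)
      simp only [f, h1] at e'
      exact mul_left_cancel e'
    · obtain ⟨i, hi, hiv⟩ := cy_form c hh ha ho (Subgroup.mem_centralizer_singleton_iff.1 hx)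
      rcases Nat.eq_zero_or_pos i with rfl | hpos
      · exact ⟨(0, ⟨x, by simpa using hiv⟩), Subtype.ext (by simp [f])⟩
      · refine ⟨(⟨3 - i, by omega⟩, ⟨(h ^ 3)⁻¹ * (h ^ i * x),
          mul_mem (inv_mem (cube_mem c hh)) hiv⟩), Subtype.ext ?_⟩
        show h ^ (3 - i) * ((h ^ 3)⁻¹ * (h ^ i * x)) = x
        rw [← mul_assoc, ← mul_assoc,
          show h ^ (3 - i) * (h ^ 3)⁻¹ = (h ^ i)⁻¹ by
            rw [mul_inv_eq_iff_eq_mul, eq_inv_mul_iff_mul_eq, ← pow_add]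
            congr 1
            omega,
          inv_mul_cancel, one_mul]
  rw [← Nat.card_congr (Equiv.ofBijective f hf), Nat.card_prod, Nat.card_fin,
    card_CV c hh ha ho hO]
  ring

theorem elems {x : T} (hx : x * a = a * x) : ∃ j, ∃ k ∈ Kp c, ∃ v ∈ V c, x = h ^ j * (k * v) := by
  obtain ⟨i, hi, hiv⟩ := cy_form c hh ha ho hx
  obtain ⟨k, hk, v, hv, e⟩ := cv_elems c hh ha ho hO
    (mul_mem (inv_mem (pow_mem (cube_mem c hh) i)) hiv)
  refine ⟨2 * i, k, hk, v, hv, ?_⟩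
  rw [← e, ← pow_mul, show 3 * i = i + 2 * i by ring, pow_add]
  group

/-- The centraliser of `a` is abelian modulo the four-group. -/
theorem comm_mod {x y : T} (hx : x * a = a * x) (hy : y * a = a * y) :
    x * y * x⁻¹ * y⁻¹ ∈ V c := by
  set C := Subgroup.centralizer ({a} : Set T)
  have hN : ((V c).subgroupOf C).Normal :=
    ⟨fun v hv g => V_normal c hh ha ho (Subgroup.mem_centralizer_singleton_iff.1 g.2) hv⟩
  let π := QuotientGroup.mk' ((V c).subgroupOf C)
  have hhC : h ∈ C := Subgroup.mem_centralizer_singleton_iff.2 (h_Kp c hh ha)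
  have hkC : ∀ k ∈ Kp c, k ∈ C := fun k hk =>
    Subgroup.mem_centralizer_singleton_iff.2 (Ku_comm c hk.1 ha.1)
  have hvC : ∀ v ∈ V c, v ∈ C := fun v hv => V_le_cent c ha (a_ne c hh ha ho) hv
  have form : ∀ z, (hz : z ∈ C) → ∃ j : ℕ, ∃ k : Kp c,
      π ⟨z, hz⟩ = π ⟨h, hhC⟩ ^ j * π ⟨k, hkC k k.2⟩ := by
    intro z hz
    obtain ⟨j, k, hk, v, hv, e⟩ := elems c hh ha ho hO (Subgroup.mem_centralizer_singleton_iff.1 hz)
    refine ⟨j, ⟨k, hk⟩, ?_⟩
    have hv1 : π ⟨v, hvC v hv⟩ = 1 := (QuotientGroup.eq_one_iff _).2 hv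
    rw [show (⟨z, hz⟩ : C) = ⟨h, hhC⟩ ^ j * (⟨k, hkC k hk⟩ * ⟨v, hvC v hv⟩) from
      Subtype.ext (by simp [e]), map_mul, map_mul, map_pow, hv1, mul_one]
  have hxC : x ∈ C := Subgroup.mem_centralizer_singleton_iff.2 hx
  have hyC : y ∈ C := Subgroup.mem_centralizer_singleton_iff.2 hy
  obtain ⟨j, k, e1⟩ := form x hxC
  obtain ⟨j', k', e2⟩ := form y hyC
  have hkh : ∀ k : Kp c, Commute (π ⟨h, hhC⟩) (π ⟨k, hkC k k.2⟩) := fun k =>
    (show Commute (⟨h, hhC⟩ : C) ⟨k, hkC k k.2⟩ from Subtype.ext (h_Kp c hh k.2)).map π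
  have hkk : Commute (π ⟨k, hkC k k.2⟩) (π ⟨k', hkC k' k'.2⟩) :=
    (show Commute (⟨k, hkC k k.2⟩ : C) ⟨k', hkC k' k'.2⟩ from
      Subtype.ext (Ku_comm c k.2.1 k'.2.1)).map π
  have hcomm : Commute (π ⟨x, hxC⟩) (π ⟨y, hyC⟩) := by
    rw [e1, e2]
    exact Commute.mul_left
      (Commute.mul_right ((Commute.refl _).pow_pow j j') ((hkh k').pow_left j))
      (Commute.mul_right ((hkh k).symm.pow_right j') hkk)
  have h1 : π (⟨x, hxC⟩ * ⟨y, hyC⟩ * ⟨x, hxC⟩⁻¹ * ⟨y, hyC⟩⁻¹) = 1 := by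
    rw [map_mul, map_mul, map_mul, map_inv, map_inv, hcomm.eq, mul_inv_cancel_right, mul_inv_cancel]
  have h2 := (QuotientGroup.eq_one_iff _).1 h1
  exact h2

theorem qs_cent {x : T} (hx : x * a = a * x) :
    c.qs * x * c.qs⁻¹ * a = a * (c.qs * x * c.qs⁻¹) := by
  have h1 : Commute x a⁻¹ := (show Commute x a from hx).inv_right
  have h2 := h1.map (MulAut.conj c.qs).toMonoidHom
  simp only [MulEquiv.coe_toMonoidHom, MulAut.conj_apply] at h2
  rw [show c.qs * a⁻¹ * c.qs⁻¹ = a by rw [← conj_inv, qs_inv_Ku c ha.1, inv_inv]] at h2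
  exact h2.eq

theorem V_conj_qs {v : T} (hv : v ∈ V c) : c.qs * v * c.qs⁻¹ ∈ V c := by
  have hqt : c.qs * t * c.qs⁻¹ = t := by
    rw [Subgroup.mem_centralizer_singleton_iff.1 (c.hs.leL (qs_mem_L c)), mul_inv_cancel_right]
  rcases hv with e | e | e | e <;> rw [e]
  · simp
  · rw [hqt]; exact t_mem_V c
  · rw [qs_conj_iu]; exact mul_mem (t_mem_V c) (iu_mem_V c)
  · rw [show c.qs * (t * c.iu) * c.qs⁻¹ = (c.qs * t * c.qs⁻¹) * (c.qs * c.iu * c.qs⁻¹) by group,
      hqt, qs_conj_iu]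
    exact mul_mem (t_mem_V c) (mul_mem (t_mem_V c) (iu_mem_V c))

theorem Kp_fixed {k : T} (hk : k ∈ Kp c) (h1 : c.qs * k * c.qs⁻¹ * k⁻¹ ∈ V c) : k = 1 := by
  rw [qs_inv_Ku c hk.1] at h1
  have h2 := V_sq c h1
  refine eq_one_of_odd_of_two (kk_odd c).2.1 hk.2 (a := 2) ?_
  rw [← inv_eq_one, ← inv_pow, show (2 : ℕ) ^ 2 = 4 by norm_num, pow_succ, pow_succ, pow_succ, pow_one]
  rwa [mul_assoc (k⁻¹ * k⁻¹)]

/-- `qs` inverts the centraliser of `a` modulo the four-group. -/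
theorem inv_mod {x : T} (hx : x * a = a * x) : c.qs * x * c.qs⁻¹ * x ∈ V c := by
  set C := Subgroup.centralizer ({a} : Set T)
  have hmemC : ∀ {z}, z ∈ C ↔ z * a = a * z := Subgroup.mem_centralizer_singleton_iff
  have hN : ((V c).subgroupOf C).Normal :=
    ⟨fun v hv g => V_normal c hh ha ho (hmemC.1 g.2) hv⟩
  let π := QuotientGroup.mk' ((V c).subgroupOf C)
  have hab : ∀ p q : C, π p * π q = π q * π p := fun p q => by
    have h1 : π (p * q * p⁻¹ * q⁻¹) = 1 :=
      (QuotientGroup.eq_one_iff _).2 (comm_mod c hh ha ho hO (hmemC.1 p.2) (hmemC.1 q.2))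
    rwa [map_mul, map_mul, map_mul, map_inv, map_inv, mul_inv_eq_one, mul_inv_eq_iff_eq_mul] at h1
  let σ : C →* C :=
    { toFun := fun z => ⟨c.qs * z * c.qs⁻¹, hmemC.2 (qs_cent c hh ha ho hO (hmemC.1 z.2))⟩
      map_one' := Subtype.ext (by simp)
      map_mul' := fun p q => Subtype.ext (by simp [mul_assoc]) }
  have hσπ : ∀ p q : C, π p = π q → π (σ p) = π (σ q) := fun p q e => by
    have h1 : p⁻¹ * q ∈ (V c).subgroupOf C := QuotientGroup.eq.1 e
    have h2 : σ (p⁻¹ * q) ∈ (V c).subgroupOf C := V_conj_qs c hh ha ho hO h1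
    have h3 : π (σ (p⁻¹ * q)) = 1 := (QuotientGroup.eq_one_iff _).2 h2
    rwa [map_mul, map_inv, map_mul, map_inv, inv_mul_eq_one] at h3
  have hσσ : ∀ p : C, π (σ (σ p)) = π p := fun p => by
    have htC : t ∈ C := V_le_cent c ha (a_ne c hh ha ho) (t_mem_V c)
    have e : σ (σ p) = ⟨t, htC⟩ * p * ⟨t, htC⟩⁻¹ := Subtype.ext (by
      show c.qs * (c.qs * p * c.qs⁻¹) * c.qs⁻¹ = t * p * t⁻¹
      rw [show c.qs * (c.qs * (p : T) * c.qs⁻¹) * c.qs⁻¹ = (c.qs * c.qs) * p * (c.qs * c.qs)⁻¹ by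
        group, qs_sq c])
    have ht1 : π ⟨t, htC⟩ = 1 := (QuotientGroup.eq_one_iff _).2 (t_mem_V c)
    rw [e, map_mul, map_mul, map_inv, ht1]
    simp
  -- a fixed point of `σ` is trivial
  have hfix : ∀ w : C, π (σ w) = π w → π w = 1 := by
    intro w hw
    have hkp : ∀ k ∈ Kp c, ∀ hk : k ∈ C, π (σ ⟨k, hk⟩) = π ⟨k, hk⟩ → k = 1 := by
      intro k hk hkC e
      refine Kp_fixed c hh ha ho hO hk ?_
      have h1 : π (σ ⟨k, hkC⟩ * ⟨k, hkC⟩⁻¹) = 1 := by rw [map_mul, map_inv, e, mul_inv_cancel]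
      have h2 := (QuotientGroup.eq_one_iff _).1 h1
      exact h2
    obtain ⟨i, hi, hiv⟩ := cy_form c hh ha ho (hmemC.1 w.2)
    obtain ⟨k, hk, v, hv, e⟩ := cv_elems c hh ha ho hO (cube_cv c hh ha ho hiv)
    have hkC : k ∈ C := hmemC.2 (Ku_comm c hk.1 ha.1)
    have hvC : v ∈ C := V_le_cent c ha (a_ne c hh ha ho) hv
    have h3 : π (w ^ 3) = π ⟨k, hkC⟩ := by
      rw [show w ^ 3 = ⟨k, hkC⟩ * ⟨v, hvC⟩ from Subtype.ext (by simp [e]), map_mul,
        show π ⟨v, hvC⟩ = 1 from (QuotientGroup.eq_one_iff _).2 hv, mul_one]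
    have hk1 : k = 1 := hkp k hk hkC (by
      rw [← hσπ _ _ h3, map_pow, map_pow, hw, ← map_pow, h3])
    rw [hk1, one_mul] at e
    -- now `w ^ 4` has order dividing three
    set w' := (w : T) ^ 4 with hw'
    have hw'3 : w' ^ 3 = 1 := by
      rw [hw', ← pow_mul, show 4 * 3 = 3 * 4 by norm_num, pow_mul, e,
        show (4 : ℕ) = 2 * 2 by norm_num, pow_mul, sq v, V_sq c hv, one_pow]
    have hw'C : w' ∈ C := pow_mem w.2 4
    have hπ : π ⟨w', hw'C⟩ = π w := by
      rw [show (⟨w', hw'C⟩ : C) = w * w ^ 3 from Subtype.ext (by simp [hw', ← pow_succ']),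
        map_mul, show π (w ^ 3) = 1 from (QuotientGroup.eq_one_iff _).2 (by
          show ((w ^ 3 : C) : T) ∈ V c
          rw [SubmonoidClass.coe_pow, e]; exact hv), mul_one]
    have hw'K : w' ∈ Kp c := by
      by_cases h1 : w' = 1
      · rw [h1]; exact one_mem _
      have : Fact (Nat.Prime 3) := ⟨Nat.prime_three⟩
      exact Subgroup.zpowers_le.2 ha (prime_unique c.hodd Nat.prime_three (by norm_num) ho
        (orderOf_eq_prime hw'3 h1) (hmemC.1 hw'C).symm)
    have hw'1 : w' = 1 := hkp w' hw'K hw'C (by rw [hσπ _ _ hπ, hw, hπ])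
    rw [← hπ]
    refine (QuotientGroup.eq_one_iff _).2 ?_
    show w' ∈ V c
    rw [hw'1]
    exact one_mem _
  have hxC : x ∈ C := hmemC.2 hx
  have h1 := hfix (σ ⟨x, hxC⟩ * ⟨x, hxC⟩) (by
    rw [map_mul, map_mul, hσσ, map_mul, hab])
  have h2 := (QuotientGroup.eq_one_iff _).1 h1
  exact h2

theorem qs_not_cent : c.qs * a ≠ a * c.qs := fun e => a_ne_inv c hh ha ho (by
  have h1 := qs_inv_Ku c ha.1
  rw [e, mul_inv_cancel_right] at h1
  exact h1)

/-- In each coset of the four-group outside the centraliser exactly two elements are involutions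
(or trivial). -/
theorem fibre {x : T} (hx : x * a = a * x) :
    ∃ v1 ∈ V c, ∃ v2 ∈ V c, v1 ≠ v2 ∧
      ∀ v ∈ V c, (c.qs * (x * v)) * (c.qs * (x * v)) = 1 ↔ v = v1 ∨ v = v2 := by
  set w := c.qs * x with hw
  have hwV : ∀ v ∈ V c, w * v * w⁻¹ ∈ V c := fun v hv => by
    rw [hw, show c.qs * x * v * (c.qs * x)⁻¹ = c.qs * (x * v * x⁻¹) * c.qs⁻¹ by group]
    exact V_conj_qs c hh ha ho hO (V_normal c hh ha ho hx hv)
  have hw2 : w * w ∈ V c := by
    have h1 : w * w = (c.qs * x * c.qs⁻¹ * x) * (x⁻¹ * t * x) := by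
      rw [show (c.qs * x * c.qs⁻¹ * x) * (x⁻¹ * t * x) = c.qs * x * c.qs⁻¹ * t * x by group,
        hw, show c.qs * x * (c.qs * x) = c.qs * x * c.qs⁻¹ * (c.qs * c.qs) * x by group, qs_sq c]
    rw [h1]
    refine mul_mem (inv_mod c hh ha ho hO hx) ?_
    have := V_normal c hh ha ho (x := x⁻¹) (show Commute x a from hx).inv_left.eq (t_mem_V c)
    simpa using this
  have hinv : ∀ v ∈ V c, w * (w * v * w⁻¹) * w⁻¹ = v := fun v hv => by
    rw [show w * (w * v * w⁻¹) * w⁻¹ = (w * w) * v * (w * w)⁻¹ by group]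
    have hc' : w * w * v = v * (w * w) := cv_cent_V c (V_le_CV c hw2) hv
    rw [hc', mul_inv_cancel_right]
  have hnt : ¬ (w * t * w⁻¹ = t ∧ w * c.iu * w⁻¹ = c.iu) := by
    rintro ⟨e1, e2⟩
    have hcv : w ∈ CV c :=
      (mem_CV c).2 ⟨mul_inv_eq_iff_eq_mul.1 e1, mul_inv_eq_iff_eq_mul.1 e2⟩
    refine qs_not_cent c hh ha ho hO ?_
    have h1 : Commute (c.qs * x) a := cv_cent_Ku c hcv ha.1
    have h2 := h1.mul_left (show Commute x a from hx).inv_left
    rw [mul_inv_cancel_right] at h2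
    exact h2.eq
  -- the fixed involution and a moved one
  obtain ⟨v0, hv0, hv01, hfix, a', ha', ha1, hav, hswap, hall⟩ : ∃ v0 ∈ V c, v0 ≠ 1 ∧
      w * v0 * w⁻¹ = v0 ∧ ∃ a' ∈ V c, a' ≠ 1 ∧ a' ≠ v0 ∧ w * a' * w⁻¹ = v0 * a' ∧
        ∀ v ∈ V c, v = 1 ∨ v = v0 ∨ v = a' ∨ v = v0 * a' := by
    obtain ⟨n1, n2, n3⟩ := tu_ne c
    have hne1 : ∀ v, v ≠ 1 → w * v * w⁻¹ ≠ 1 := fun v hv e => hv (conj_eq_one_iff.1 e)
    have hinj : ∀ v v', w * v * w⁻¹ = w * v' * w⁻¹ → v = v' := fun v v' e =>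
      mul_left_cancel (mul_right_cancel e)
    have hmul : w * (t * c.iu) * w⁻¹ = (w * t * w⁻¹) * (w * c.iu * w⁻¹) := by group
    have hut : c.iu * t = t * c.iu := c.iu_comm
    have httu : t * (t * c.iu) = c.iu := by rw [← mul_assoc, c.t_sq, one_mul]
    have hutu : c.iu * (t * c.iu) = t := by rw [← mul_assoc, hut, mul_assoc, c.iu_sq, mul_one]
    have hutt : t * c.iu * t = c.iu := by rw [mul_assoc, hut, httu]
    have htuu : t * c.iu * c.iu = t := by rw [mul_assoc, c.iu_sq, mul_one]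
    rcases hwV t (t_mem_V c) with e | e | e | e
    · exact absurd e (hne1 t c.t_ne)
    · refine ⟨t, t_mem_V c, c.t_ne, e, c.iu, iu_mem_V c, c.iu_ne, c.iu_ne_t, ?_, fun v hv => hv⟩
      rcases hwV c.iu (iu_mem_V c) with e' | e' | e' | e'
      · exact absurd e' (hne1 _ c.iu_ne)
      · exact absurd (hinj _ _ (e'.trans e.symm)) c.iu_ne_t
      · exact absurd ⟨e, e'⟩ hnt
      · exact e'
    · have e' : w * c.iu * w⁻¹ = t := by have := hinv t (t_mem_V c); rwa [e] at this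
      refine ⟨t * c.iu, mul_mem (t_mem_V c) (iu_mem_V c), n1, by rw [hmul, e, e', hut], t,
        t_mem_V c, c.t_ne, n2.symm, by rw [e, hutt], fun v hv => ?_⟩
      rw [hutt]
      rcases hv with h' | h' | h' | h'
      · exact Or.inl h'
      · exact Or.inr (Or.inr (Or.inl h'))
      · exact Or.inr (Or.inr (Or.inr h'))
      · exact Or.inr (Or.inl h')
    · have e' : w * (t * c.iu) * w⁻¹ = t := by have := hinv t (t_mem_V c); rwa [e] at this
      have eu : w * c.iu * w⁻¹ = c.iu := by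
        rw [show w * c.iu * w⁻¹ = w * (t * (t * c.iu)) * w⁻¹ by rw [httu],
          show w * (t * (t * c.iu)) * w⁻¹ = (w * t * w⁻¹) * (w * (t * c.iu) * w⁻¹) by group, e, e',
          hutt]
      refine ⟨c.iu, iu_mem_V c, c.iu_ne, eu, t, t_mem_V c, c.t_ne, c.iu_ne_t.symm,
        by rw [e, hut], fun v hv => ?_⟩
      rw [hut]
      rcases hv with h' | h' | h' | h'
      · exact Or.inl h'
      · exact Or.inr (Or.inr (Or.inl h'))
      · exact Or.inr (Or.inl h')
      · exact Or.inr (Or.inr (Or.inr h'))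
  have hsq : ∀ v ∈ V c, (c.qs * (x * v)) * (c.qs * (x * v)) = (w * v * w⁻¹) * (w * w) * v := by
    intro v hv
    rw [hw]; group
  have hv02 := V_sq c hv0
  have hne : v0 * a' ≠ 1 ∧ v0 * a' ≠ v0 ∧ v0 * a' ≠ a' :=
    ⟨fun e => hav ((mul_eq_one_iff_eq_inv.1 e).trans (inv_eq_of_mul_eq_one_left (V_sq c ha'))).symm,
      fun e => ha1 (by simpa using e),
      fun e => hv01 (by simpa using e)⟩
  have hcomm : Commute v0 a' := cv_cent_V c (V_le_CV c hv0) ha'
  have haa := V_sq c ha'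
  have k1 : v0 * a' * a' = v0 := by rw [mul_assoc, haa, mul_one]
  have kk2 : a' * v0 = v0 * a' := hcomm.eq.symm
  have h0a : v0 * (v0 * a') = a' := by rw [← mul_assoc, hv02, one_mul]
  have hswap' : w * (v0 * a') * w⁻¹ = a' := by
    rw [show w * (v0 * a') * w⁻¹ = (w * v0 * w⁻¹) * (w * a' * w⁻¹) by group, hfix, hswap, h0a]
  have hfw : w * (w * w) * w⁻¹ = w * w := by group
  rcases hall _ hw2 with e | e | e | e
  · refine ⟨1, one_mem _, v0, hv0, hv01.symm, fun v hv => ?_⟩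
    rw [hsq v hv, e, mul_one]
    rcases hall v hv with e' | e' | e' | e' <;> rw [e']
    · simp
    · simp [hfix, hv02]
    · rw [hswap, k1]
      simp [hv01, ha1, hav]
    · rw [hswap', ← mul_assoc, kk2, k1]
      simp [hv01, hne.1, hne.2.1]
  · refine ⟨a', ha', v0 * a', mul_mem hv0 ha', hne.2.2.symm, fun v hv => ?_⟩
    rw [hsq v hv, e]
    rcases hall v hv with e' | e' | e' | e' <;> rw [e']
    · simp [hv01, Ne.symm ha1, Ne.symm hne.1]
    · rw [hfix, hv02, one_mul]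
      simp [hv01, Ne.symm hav, Ne.symm hne.2.1]
    · rw [hswap, mul_assoc (v0 * a'), V_sq c (mul_mem hv0 ha')]
      simp
    · rw [hswap', kk2, V_sq c (mul_mem hv0 ha')]
      simp
  · exfalso
    rw [e, hswap] at hfw
    exact hne.2.2 hfw
  · exfalso
    rw [e, hswap'] at hfw
    exact hne.2.2 hfw.symm

end element

end Cfsg.Agent.CycSyl43SemiSLQuot32
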