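import Cfsg.Agent.Lib.CycSyl43SemiSLQuot32
import Cfsg.Agent.Lib.CycSyl43SemiSLPairs32

/-!
The `SL(2,p)` configuration: the induced character from the normaliser of the element of order four.
-/

set_option autoImplicit false
set_option linter.unusedSectionVars false

namespace Cfsg.Agent.CycSyl43SemiSLTorus32

open Cfsg.Agent.CycSyl43
open Cfsg.Agent.CycSyl43TI
open Cfsg.Agent.CycSyl43SemiSLBase32
open Cfsg.Agent.CycSyl43SemiSLFour32
open Cfsg.Agent.QDWreathQD (QD X Y)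
open Cfsg.Agent.QDFusion (I)
open Cfsg.Agent.CycSyl43SLFacts32 (Tc)
open scoped MatrixGroups

universe u

variable {T : Type u} [Group T] [Fintype T] {S : Sylow 2 T} {t : T} {O L : Subgroup T} {p : ℕ}
variable [Fact p.Prime] (c : Ctx S t O L p) (hO : O = ⊥)
include c hO

theorem M_le_L {x : T} (hx : x ∈ c.M) : x ∈ L := by
  obtain ⟨y, hy, l, hl, rfl⟩ := hx
  rw [hO, Subgroup.mem_bot] at hy
  rwa [hy, one_mul]

theorem card_centralizer : Nat.card (Subgroup.centralizer ({t} : Set T)) = 4 * (p * kk c * Tc p) := by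
  rw [card_cent_eq c, Subgroup.card_eq_one.2 hO, one_mul]

/-- The centraliser of `qs`. -/
def A : Subgroup T := Subgroup.centralizer ({c.qs} : Set T)

theorem mem_A {x : T} : x ∈ A c ↔ x * c.qs = c.qs * x := Subgroup.mem_centralizer_singleton_iff

theorem A_le : A c ≤ Subgroup.centralizer ({t} : Set T) := fun x hx => by
  have h : Commute x c.qs := (mem_A c hO).1 hx
  exact Subgroup.mem_centralizer_singleton_iff.2 (qs_sq c ▸ (h.mul_right h).eq)

theorem sg_mem_A : c.sg ∈ A c := (mem_A c hO).2 (sg_comm_qs c).eq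

theorem A_form {x : T} (hx : x ∈ A c) : x ∈ A0 c ∨ x * c.sg⁻¹ ∈ A0 c := by
  by_cases hM : x ∈ c.M
  · exact Or.inl ((mem_A0 c).2 ⟨M_le_L c hO hM, (mem_A c hO).1 hx⟩)
  · refine Or.inr ((mem_A0 c).2 ⟨M_le_L c hO ?_, (mem_A c hO).1 (mul_mem hx (inv_mem (sg_mem_A c hO)))⟩)
    exact (c.mul_mem_M_iff (A_le c hO hx) (inv_mem (c.em_cent _))).2
      (iff_of_false hM fun h => sg_not_mem c (inv_mem_iff.1 h))

theorem A0_le_A : A0 c ≤ A c := fun _ hx => (mem_A c hO).2 ((mem_A0 c).1 hx).2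

theorem card_A : Nat.card (A c) = 2 * Tc p := by
  rw [card_double (A0_le_A c hO) (sg_mem_A c hO)
    (fun h => sg_not_mem c (c.L_le_M ((mem_A0 c).1 h).1)) (fun x hx => A_form c hO hx),
    (A0_data c).2]

theorem A_comm {x y : T} (hx : x ∈ A c) (hy : y ∈ A c) : x * y = y * x := by
  have hcyc := (A0_data c).1
  have key : ∀ z ∈ A c, ∀ w ∈ A0 c, Commute z w := by
    intro z hz w hw
    rcases A_form c hO hz with h | h
    · exact Subgroup.mul_comm_of_mem_isMulCommutative (A0 c) h hw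
    · have h1 : Commute (z * c.sg⁻¹) w := Subgroup.mul_comm_of_mem_isMulCommutative (A0 c) h hw
      have h2 := h1.mul_left (show Commute c.sg w from sg_cent_A0 c hw)
      rwa [inv_mul_cancel_right] at h2
  rcases A_form c hO hy with h | h
  · exact (key x hx y h).eq
  · have hxs : Commute x c.sg := by
      rcases A_form c hO hx with h' | h'
      · exact (sg_cent_A0 c h').symm
      · have h1 : Commute (x * c.sg⁻¹) c.sg := (sg_cent_A0 c h').symm
        have h2 := h1.mul_left (Commute.refl c.sg)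
        rwa [inv_mul_cancel_right] at h2
    have h2 := (key x hx _ h).mul_right hxs
    rw [inv_mul_cancel_right] at h2
    exact h2.eq

/-- The odd part of `|A|`. -/
def mo : ℕ := Tc p / (4 * 2 ^ c.m)

theorem mo_spec : Tc p = 4 * 2 ^ c.m * mo c ∧ Odd (mo c) := by
  obtain ⟨h1, h2⟩ := two_part c
  refine ⟨(Nat.mul_div_cancel' h1).symm, Nat.not_even_iff_odd.1 fun ⟨r, hr⟩ => h2 ?_⟩
  refine ⟨r, ?_⟩
  rw [← Nat.mul_div_cancel' h1]
  change 4 * 2 ^ c.m * mo c = _
  rw [hr]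
  ring

theorem two_el {x : T} (hx : x ∈ A c) {n : ℕ} (h : x ^ (2 ^ n) = 1) :
    x ∈ Subgroup.zpowers c.sg := by
  obtain ⟨b, -, hb⟩ := (Nat.dvd_prime_pow Nat.prime_two).1 (orderOf_dvd_of_pow_eq_one h)
  have hx2 : IsPGroup 2 (Subgroup.zpowers x) :=
    IsPGroup.of_card (n := b) (by rw [Nat.card_zpowers, hb])
  have hs2 : IsPGroup 2 (Subgroup.zpowers c.sg) :=
    IsPGroup.of_card (n := c.m + 3) (by rw [Nat.card_zpowers, CycSyl43SemiSLCen32.sg_order]; ring)
  have hle : Subgroup.zpowers x ≤ Subgroup.normalizer (Subgroup.zpowers c.sg : Set T) :=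
    Subgroup.zpowers_le.2 (Subgroup.centralizer_le_normalizer _
      (Subgroup.mem_centralizer_iff.2 fun z hz => by
        obtain ⟨j, rfl⟩ := Subgroup.mem_zpowers_iff.1 hz
        exact A_comm c hO (zpow_mem (sg_mem_A c hO) j) hx))
  obtain ⟨r, hr⟩ := IsPGroup.iff_card.1 (hx2.to_sup_of_normal_right' hs2 hle)
  have hsub : Subgroup.zpowers x ⊔ Subgroup.zpowers c.sg ≤ A c :=
    sup_le (Subgroup.zpowers_le.2 hx) (Subgroup.zpowers_le.2 (sg_mem_A c hO))
  have hd := Subgroup.card_dvd_of_le hsub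
  obtain ⟨hT, hodd⟩ := mo_spec c hO
  rw [hr, card_A c hO, hT, show 2 * (4 * 2 ^ c.m * mo c) = 8 * 2 ^ c.m * mo c by ring] at hd
  have hd' := ((Nat.coprime_two_left.2 hodd).pow_left r).dvd_of_dvd_mul_right hd
  have he : Subgroup.zpowers c.sg = Subgroup.zpowers x ⊔ Subgroup.zpowers c.sg := by
    refine Subgroup.eq_of_le_of_card_ge le_sup_right ?_
    rw [Nat.card_zpowers, CycSyl43SemiSLCen32.sg_order, hr]
    exact Nat.le_of_dvd (by positivity) hd'
  rw [he]
  exact (le_sup_left : Subgroup.zpowers x ≤ _) (Subgroup.mem_zpowers x)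

/-- The normaliser of `⟨qs⟩`. -/
def H : Subgroup T where
  carrier := {g | g * c.qs * g⁻¹ = c.qs ∨ g * c.qs * g⁻¹ = c.qs⁻¹}
  one_mem' := Or.inl (by simp)
  mul_mem' := fun {a b} ha hb => by
    rw [Set.mem_ofPred_eq, show a * b * c.qs * (a * b)⁻¹ = a * (b * c.qs * b⁻¹) * a⁻¹ by group]
    rcases hb with e | e <;> rw [e]
    · exact ha
    · rw [← conj_inv]
      rcases ha with e' | e' <;> rw [e']
      · exact Or.inr rfl
      · exact Or.inl (inv_inv _)
  inv_mem' := fun {a} ha => by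
    rw [Set.mem_ofPred_eq, inv_inv]
    rcases ha with e | e
    · left; conv_lhs => rw [← e]; 
      group
    · right
      have e' : c.qs⁻¹⁻¹ = (a * c.qs * a⁻¹)⁻¹ := by rw [e]
      rw [inv_inv] at e'
      conv_lhs => rw [e']
      group

theorem iu_mem_H : c.iu ∈ H c := Or.inr (iu_conj_qs c)

theorem A_le_H : A c ≤ H c := fun x hx =>
  Or.inl (by rw [(mem_A c hO).1 hx, mul_inv_cancel_right])

theorem qs_order : orderOf c.qs = 4 := by
  rw [Ctx.qs, orderOf_injective _ c.em_injective, QDFusion.order_I]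

theorem iu_not_A : c.iu ∉ A c := fun h => by
  have h1 := iu_conj_qs c
  rw [(mem_A c hO).1 h, mul_inv_cancel_right, eq_inv_iff_mul_eq_one, qs_sq] at h1
  exact c.t_ne h1

theorem H_form {g : T} (hg : g ∈ H c) : g ∈ A c ∨ g * c.iu⁻¹ ∈ A c := by
  rcases hg with e | e
  · exact Or.inl ((mem_A c hO).2 (mul_inv_eq_iff_eq_mul.1 e))
  · refine Or.inr ((mem_A c hO).2 (mul_inv_eq_iff_eq_mul.1 ?_))
    rw [show g * c.iu⁻¹ * c.qs * (g * c.iu⁻¹)⁻¹ = g * (c.iu⁻¹ * c.qs * c.iu) * g⁻¹ by group]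
    have h1 := iu_conj_qs c
    rw [c.iu_inv] at h1 ⊢
    rw [h1, ← conj_inv, e, inv_inv]

theorem card_H : Nat.card (H c) = 4 * Tc p := by
  rw [card_double (A_le_H c hO) (iu_mem_H c hO) (iu_not_A c hO) (fun g hg => H_form c hO hg), card_A c hO]
  ring

theorem index_A : ((A c).subgroupOf (H c)).index = 2 := by
  have h := ((A c).subgroupOf (H c)).index_mul_card
  rw [Nat.card_congr (Subgroup.subgroupOfEquivOfLe (A_le_H c hO)).toEquiv, card_A c hO, card_H c hO] at h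
  have : 0 < Tc p := (A0_data c).2 ▸ Nat.card_pos
  nlinarith

/-- The trivial intersection set. -/
def D : Set T := {x | c.qs ∈ Subgroup.zpowers x}

theorem tiData : TIData (H c) (D c) where
  sub x hx := by
    obtain ⟨j, hj⟩ := Subgroup.mem_zpowers_iff.1 (show c.qs ∈ Subgroup.zpowers x from hx)
    exact A_le_H c hO ((mem_A c hO).2 (hj ▸ ((Commute.refl x).zpow_right j).eq))
  one h := by
    obtain ⟨j, hj⟩ := Subgroup.mem_zpowers_iff.1 (show c.qs ∈ Subgroup.zpowers (1 : T) from h)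
    rw [one_zpow] at hj
    have := qs_order c hO
    rw [← hj, orderOf_one] at this
    omega
  inv x hx := by
    show c.qs ∈ Subgroup.zpowers x⁻¹
    rw [Subgroup.zpowers_inv]
    exact hx
  conjH g hg x hx := by
    obtain ⟨j, hj⟩ := Subgroup.mem_zpowers_iff.1 (show c.qs ∈ Subgroup.zpowers x from hx)
    have h1 : g * c.qs * g⁻¹ ∈ Subgroup.zpowers (g * x * g⁻¹) :=
      Subgroup.mem_zpowers_iff.2 ⟨j, by rw [conj_zpow, hj]⟩
    rcases hg with e | e <;> rw [e] at h1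
    · exact h1
    · exact inv_mem_iff.1 h1
  ti g x hx hgx := by
    obtain ⟨j, hj⟩ := Subgroup.mem_zpowers_iff.1 (show c.qs ∈ Subgroup.zpowers x from hx)
    have h1 : g * c.qs * g⁻¹ ∈ Subgroup.zpowers (g * x * g⁻¹) :=
      Subgroup.mem_zpowers_iff.2 ⟨j, by rw [conj_zpow, hj]⟩
    exact cyc_pm hgx h1 (Or.inr rfl) (qs_order c hO) (by rw [orderOf_conj', qs_order c hO])

theorem iu_conj_sg_pow : c.iu * c.sg * c.iu⁻¹ = c.sg ^ (4 * 2 ^ c.m - 1) := by
  rw [iu_conj_sg, Ctx.sg, ← map_pow, X, QDWreathQD.pow_false, mul_one, QDWreathQD.k,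
    Nat.cast_sub (by have := Nat.one_le_two_pow (n := c.m); omega)]
  push_cast
  rfl

/-- The character of `A`, with the properties used. -/
theorem exists_lam : ∃ lam : (A c).subgroupOf (H c) →* ℂˣ,
    (∀ x, lam x ≠ 1 → ((x : H c) : T) ∈ D c) ∧
    (∀ h : H c, h ∉ (A c).subgroupOf (H c) →
      ∀ x y : (A c).subgroupOf (H c), (y : H c) = h * x * h⁻¹ → lam y = (lam x)⁻¹) ∧
    (∀ x : (A c).subgroupOf (H c), ((x : H c) : T) = c.qs → (lam x : ℂ) = -1) ∧
    lam * lam ≠ 1 := by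
  classical
  obtain ⟨hT, hmodd⟩ := mo_spec c hO
  set m := mo c with hm
  set N := 4 * 2 ^ c.m with hN
  have hNpos : N ≠ 0 := by positivity
  have hζ := Complex.isPrimitiveRoot_exp N hNpos
  set ζ : ℂˣ := (hζ.isUnit hNpos).unit with hζdef
  have hζu : IsPrimitiveRoot ζ N := IsPrimitiveRoot.coe_units_iff.1 hζ
  let Z := Subgroup.zpowers c.sg
  let g0 : Z := ⟨c.sg, Subgroup.mem_zpowers _⟩
  have hg0 : ∀ z : Z, z ∈ Subgroup.zpowers g0 := fun ⟨z, hz⟩ => by
    obtain ⟨j, hj⟩ := Subgroup.mem_zpowers_iff.1 hz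
    exact Subgroup.mem_zpowers_iff.2 ⟨j, Subtype.ext (by simp [g0, hj])⟩
  have hord : orderOf ζ ∣ orderOf g0 := by
    rw [← hζu.eq_orderOf, Subgroup.orderOf_mk, CycSyl43SemiSLCen32.sg_order]
    exact ⟨2, by rw [hN]; ring⟩
  let χ : Z →* ℂˣ := monoidHomOfForallMemZpowers hg0 hord
  have hχ : ∀ j : ℤ, ∀ hz : c.sg ^ j ∈ Z, χ ⟨c.sg ^ j, hz⟩ = ζ ^ j := by
    intro j hz
    rw [show (⟨c.sg ^ j, hz⟩ : Z) = g0 ^ j from Subtype.ext (by simp [g0]), map_zpow]
    exact congrArg (· ^ j) (monoidHomOfForallMemZpowers_apply_gen hg0 hord)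
  have hmem : ∀ x : (A c).subgroupOf (H c), ((x : H c) : T) ^ m ∈ Z := by
    intro x
    refine two_el c hO (pow_mem x.2 m) (n := c.m + 3) ?_
    rw [← pow_mul, show m * 2 ^ (c.m + 3) = 2 * Tc p by rw [hT, pow_add, hN]; ring, ← card_A c hO]
    exact orderOf_dvd_iff_pow_eq_one.1 (Subgroup.orderOf_dvd_natCard _ x.2)
  let ψ : (A c).subgroupOf (H c) →* Z :=
    { toFun := fun x => ⟨((x : H c) : T) ^ m, hmem x⟩
      map_one' := Subtype.ext (by simp)
      map_mul' := fun x y => Subtype.ext (by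
        show (((x : H c) : T) * ((y : H c) : T)) ^ m =
          ((x : H c) : T) ^ m * ((y : H c) : T) ^ m
        exact (show Commute _ _ from A_comm c hO x.2 y.2).mul_pow m) }
  have hval : ∀ x : (A c).subgroupOf (H c), ∃ e : ℤ,
      ((x : H c) : T) ^ m = c.sg ^ e ∧ (χ.comp ψ) x = ζ ^ e := by
    intro x
    obtain ⟨e, he⟩ := Subgroup.mem_zpowers_iff.1 (hmem x)
    refine ⟨e, he.symm, ?_⟩
    rw [← hχ e (he ▸ hmem x)]
    exact congrArg χ (Subtype.ext he.symm)
  have hsg8 : c.sg ^ (2 * N) = 1 := by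
    rw [hN, show 2 * (4 * 2 ^ c.m) = 8 * 2 ^ c.m by ring, ← CycSyl43SemiSLCen32.sg_order c,
      pow_orderOf_eq_one]
  refine ⟨χ.comp ψ, fun x hx => ?_, fun h hh x y hy => ?_, fun x hx => ?_, fun hsq => ?_⟩
  · obtain ⟨e, he, hl⟩ := hval x
    rw [hl] at hx
    show c.qs ∈ Subgroup.zpowers ((x : H c) : T)
    have hgd : ((Int.gcd e (2 * N : ℕ)) : ℕ) ∣ 2 * N := by
      exact_mod_cast Int.gcd_dvd_right e (2 * N : ℕ)
    have h2N : 2 * N = 2 ^ (c.m + 3) := by rw [hN, pow_add]; ring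
    obtain ⟨i, hi, hgi⟩ := (Nat.dvd_prime_pow Nat.prime_two).1 (hgd.trans h2N.dvd)
    have hi' : i ≤ c.m + 1 := by
      by_contra hlt
      apply hx
      have h1 : (N : ℤ) ∣ e := by
        have h2 : N ∣ Int.gcd e (2 * N : ℕ) := by
          rw [hgi, hN, show 4 * 2 ^ c.m = 2 ^ (c.m + 2) by ring]
          exact pow_dvd_pow 2 (by omega)
        exact (Int.natCast_dvd_natCast.2 h2).trans (Int.gcd_dvd_left e (2 * N : ℕ))
      exact hζu.zpow_eq_one_iff_dvd e |>.2 h1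
    have h3 : c.sg ^ (2 ^ i) ∈ Subgroup.zpowers ((x : H c) : T) := by
      rw [← hgi, ← zpow_natCast, Int.gcd_eq_gcd_ab, zpow_add, zpow_mul, zpow_mul, zpow_natCast,
        hsg8, one_zpow, mul_one, ← he]
      exact zpow_mem (pow_mem (Subgroup.mem_zpowers _) m) _
    rw [← qs_pow c, show 2 * 2 ^ c.m = 2 ^ i * 2 ^ (c.m + 1 - i) by
      rw [← pow_add, Nat.add_sub_cancel' hi', pow_succ]; ring, pow_mul]
    exact pow_mem h3 _
  · obtain ⟨e, he, hl⟩ := hval x
    obtain ⟨e', he', hl'⟩ := hval y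
    have hb : ((h : H c) : T) * c.iu⁻¹ ∈ A c :=
      (H_form c hO h.2).resolve_left fun q => hh q
    set b := ((h : H c) : T) * c.iu⁻¹ with hbdef
    have hyT : ((y : H c) : T) = (h : T) * ((x : H c) : T) * (h : T)⁻¹ := by
      rw [hy]; rfl
    have hux : c.iu * ((x : H c) : T) * c.iu⁻¹ ∈ A c := by
      refine (mem_A c hO).2 ?_
      have h1 := (show Commute ((x : H c) : T) c.qs from (mem_A c hO).1 x.2).map
        (MulAut.conj c.iu).toMonoidHom
      simp only [MulEquiv.coe_toMonoidHom, MulAut.conj_apply, iu_conj_qs] at h1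
      have h2 := h1.inv_right
      rw [inv_inv] at h2
      exact h2.eq
    have hyu : ((y : H c) : T) = c.iu * ((x : H c) : T) * c.iu⁻¹ := by
      rw [hyT, show (h : T) * ((x : H c) : T) * (h : T)⁻¹ =
        b * (c.iu * ((x : H c) : T) * c.iu⁻¹) * b⁻¹ by rw [hbdef]; group,
        A_comm c hO hb hux, mul_inv_cancel_right]
    have h4 : c.sg ^ e' = c.sg ^ (((4 * 2 ^ c.m - 1 : ℕ) : ℤ) * e) := by
      rw [← he', hyu, conj_pow, he, ← conj_zpow, iu_conj_sg_pow c hO, zpow_mul, zpow_natCast]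
    rw [hl, hl']
    have hne : ζ ^ e' = ζ ^ (((4 * 2 ^ c.m - 1 : ℕ) : ℤ) * e) := by
      have hz1 : c.sg ^ e' ∈ Z := zpow_mem (Subgroup.mem_zpowers _) _
      have hz2 : c.sg ^ (((4 * 2 ^ c.m - 1 : ℕ) : ℤ) * e) ∈ Z :=
        zpow_mem (Subgroup.mem_zpowers _) _
      rw [← hχ _ hz1, ← hχ _ hz2]
      exact congrArg χ (Subtype.ext h4)
    rw [hne, eq_inv_iff_mul_eq_one, ← zpow_add, hζu.zpow_eq_one_iff_dvd]
    refine ⟨e, ?_⟩
    rw [hN]
    push_cast [Nat.cast_sub (show 1 ≤ 4 * 2 ^ c.m by have := Nat.one_le_two_pow (n := c.m); omega)]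
    ring
  · obtain ⟨e, he, hl⟩ := hval x
    have hz1 : c.sg ^ e ∈ Z := zpow_mem (Subgroup.mem_zpowers _) _
    have hz2 : c.sg ^ (((2 * 2 ^ c.m * m : ℕ)) : ℤ) ∈ Z := zpow_mem (Subgroup.mem_zpowers _) _
    have h1 : χ ⟨_, hz1⟩ = χ ⟨_, hz2⟩ := congrArg χ (Subtype.ext (show c.sg ^ e =
      c.sg ^ (((2 * 2 ^ c.m * m : ℕ)) : ℤ) by rw [← he, hx, ← qs_pow c, ← pow_mul, zpow_natCast]))
    rw [hχ, hχ, zpow_natCast] at h1
    rw [hl, h1, Units.val_pow_eq_pow_val, pow_mul,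
      show ((ζ : ℂˣ) : ℂ) = Complex.exp (2 * Real.pi * Complex.I / N) from IsUnit.unit_spec _]
    have h2 : Complex.exp (2 * Real.pi * Complex.I / N) ^ (2 * 2 ^ c.m) = -1 := by
      have h3 : (Complex.exp (2 * Real.pi * Complex.I / N) ^ (2 * 2 ^ c.m)) *
          (Complex.exp (2 * Real.pi * Complex.I / N) ^ (2 * 2 ^ c.m)) = 1 := by
        rw [← pow_add, show 2 * 2 ^ c.m + 2 * 2 ^ c.m = N by rw [hN]; ring, hζ.pow_eq_one]
      rcases mul_self_eq_one_iff.1 h3 with h4 | h4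
      · have := Nat.le_of_dvd (by positivity) ((hζ.pow_eq_one_iff_dvd _).1 h4)
        have := Nat.one_le_two_pow (n := c.m)
        rw [hN] at *
        omega
      · exact h4
    rw [h2, hmodd.neg_one_pow]
  · let xs : (A c).subgroupOf (H c) :=
      ⟨⟨c.sg, A_le_H c hO (sg_mem_A c hO)⟩, sg_mem_A c hO⟩
    have h1 := DFunLike.congr_fun hsq xs
    obtain ⟨e, he, hl⟩ := hval xs
    rw [MonoidHom.mul_apply, hl, MonoidHom.one_apply, ← zpow_add, hζu.zpow_eq_one_iff_dvd] at h1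
    have h2 : c.sg ^ (e - m) = 1 := by
      rw [zpow_sub, zpow_natCast, mul_inv_eq_one]
      exact he.symm
    rw [← orderOf_dvd_iff_zpow_eq_one, CycSyl43SemiSLCen32.sg_order] at h2
    have h3 : (N : ℤ) ∣ e - m := (Int.natCast_dvd_natCast.2 ⟨2, by rw [hN]; ring⟩).trans h2
    have h4 : (N : ℤ) ∣ ((2 * m : ℕ) : ℤ) := by
      have := dvd_sub h1 (dvd_mul_of_dvd_right h3 2)
      rw [show e + e - 2 * (e - (m : ℤ)) = ((2 * m : ℕ) : ℤ) by push_cast; ring] at this
      exact this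
    obtain ⟨r, hr⟩ := Int.natCast_dvd_natCast.1 h4
    obtain ⟨q, hq⟩ := hmodd
    rw [hN] at hr
    have : 2 * (2 * 2 ^ c.m * r) = 2 * m := by rw [hr]; ring
    have h5 : 2 * (2 ^ c.m * r) = m := by linarith
    omega

open scoped Classical in
/-- The induced character from the normaliser of `⟨qs⟩`. -/
theorem torus_data : ∃ θ : H c → ℂ, Cfsg.IsGeneralizedCharacter (H c) θ ∧
    Vanish (D c) θ ∧ Cfsg.classInner θ (fun _ => 1) = 1 ∧ Cfsg.classInner θ θ = 3 ∧
      pairSum (H c) θ = 2 * (Tc p : ℂ) ^ 2 := by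
  have h0 := exists_lam c hO
  set K := (A c).subgroupOf (H c) with hK
  obtain ⟨lam, hsupp, hinv, hqs, hsq⟩ := h0
  have hl : lam ≠ 1 := fun e => hsq (by rw [e]; ext x; simp)
  refine ⟨theta K lam, theta_gen (index_A c hO) hinv, theta_vanish hsupp,
    theta_one_inner (index_A c hO) hl, theta_norm (index_A c hO) hsq, ?_⟩
  let g : H c := ⟨c.iu, iu_mem_H c hO⟩
  have hg : g ∉ K := iu_not_A c hO
  have hBiff : ∀ b : K, orderOf (g * (b : H c)) = 2 ↔ ((b : H c) : T) ∈ A0 c := by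
    intro b
    have hne : c.iu * ((b : H c) : T) ≠ 1 := fun e =>
      iu_not_A c hO (eq_inv_of_mul_eq_one_left e ▸ inv_mem b.2)
    rw [← Subgroup.orderOf_coe]
    show orderOf (c.iu * ((b : H c) : T)) = 2 ↔ _
    set z := ((b : H c) : T) with hz
    have hzz : (c.iu * z) ^ 2 = 1 ↔ c.iu * z * c.iu⁻¹ = z⁻¹ := by
      rw [sq, eq_inv_iff_mul_eq_one, c.iu_inv]
      simp only [mul_assoc]
    constructor
    · intro ho
      have h1 := hzz.1 (ho ▸ pow_orderOf_eq_one _)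
      rcases A_form c hO b.2 with h | h
      · exact h
      · exfalso
        replace h : z * c.sg⁻¹ ∈ A0 c := h
        have h2 : c.iu * z * c.iu⁻¹ = (z * c.sg⁻¹)⁻¹ * c.em ⟨QDWreathQD.k _, false⟩ := by
          rw [← iu_inv_A0 c h, ← iu_conj_sg c]
          group
        have hcomm : Commute c.sg (z * c.sg⁻¹) := sg_cent_A0 c h
        rw [h1] at h2
        have h3 : c.em ⟨QDWreathQD.k _, false⟩ = c.sg⁻¹ := by
          have h4 : (z * c.sg⁻¹) * z⁻¹ = c.sg⁻¹ := by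
            rw [show z⁻¹ = ((z * c.sg⁻¹) * c.sg)⁻¹ by rw [inv_mul_cancel_right], ← hcomm.eq]
            group
          rw [← h4, h2]
          group
        rw [Ctx.sg, ← map_inv] at h3
        have h5 := congrArg QD.i (c.em_injective h3)
        simp only [X, QDWreathQD.k, QDWreathQD.mk_inv_false] at h5
        exact QDWreathQD.four_l_ne (l := 2 ^ c.m) (by linear_combination h5)
    · intro h
      exact orderOf_eq_prime (hzz.2 (iu_inv_A0 c h)) hne
  have hcard : (Finset.univ.filter fun b : K => orderOf (g * (b : H c)) = 2).card = Tc p := by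
    rw [← Fintype.card_subtype, ← Nat.card_eq_fintype_card, ← (A0_data c).2]
    refine Nat.card_congr
      { toFun := fun b => ⟨((b.1 : H c) : T), (hBiff b.1).1 b.2⟩
        invFun := fun z => ⟨⟨⟨z, A_le_H c hO (A0_le_A c hO z.2)⟩, A0_le_A c hO z.2⟩, (hBiff _).2 z.2⟩
        left_inv := fun b => rfl
        right_inv := fun z => rfl }
  rw [CycSyl43SemiSLPairs32.pairSum_theta K lam (index_A c hO) hinv hg ?_ ?_, hcard]
  · intro x y hx hy
    have key : ∀ z : K, orderOf (z : H c) = 2 → ((z : H c) : T) = t := by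
      intro z hz
      rw [← Subgroup.orderOf_coe] at hz
      set w := ((z : H c) : T) with hw
      have hw2 : w ^ 2 = 1 := hz ▸ pow_orderOf_eq_one w
      obtain ⟨j, hj'⟩ := Subgroup.mem_zpowers_iff.1 (two_el c hO z.2 (n := 1) (by rw [pow_one]; exact hw2))
      have hj : c.sg ^ j = w := hj'
      clear hj' 
      have h1 : c.sg ^ (j * 2) = 1 := by rw [zpow_mul, hj]; exact_mod_cast hw2
      rw [← orderOf_dvd_iff_zpow_eq_one, CycSyl43SemiSLCen32.sg_order] at h1
      have h2 : ((4 * 2 ^ c.m : ℕ) : ℤ) ∣ j := by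
        refine (mul_dvd_mul_iff_right (two_ne_zero : (2 : ℤ) ≠ 0)).1 ?_
        refine dvd_trans ?_ h1
        push_cast
        exact dvd_of_eq (by ring)
      obtain ⟨i, rfl⟩ := h2
      have h3 : w ∈ c.M := by
        rw [← hj, zpow_mul, zpow_natCast, show 4 * 2 ^ c.m = 2 * 2 ^ c.m * 2 by ring, pow_mul,
          qs_pow c, sq, qs_sq c]
        exact zpow_mem c.t_mem_M i
      exact c.eq_t_of_involution h3 (by rw [← sq]; exact hw2) fun e => by
        rw [e, orderOf_one] at hz; omega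
    have e : x * y = 1 := Subtype.ext (Subtype.ext (by
      show ((x : H c) : T) * ((y : H c) : T) = 1
      rw [key x hx, key y hy, c.t_sq]))
    rw [e, map_one]
  · set B := Finset.univ.filter fun b : K => orderOf (g * (b : H c)) = 2
    let s : K := ⟨⟨c.qs, A_le_H c hO ((mem_A c hO).2 rfl)⟩, (mem_A c hO).2 rfl⟩
    have hs0 : c.qs ∈ A0 c := (mem_A0 c).2 ⟨qs_mem_L c, rfl⟩
    have h1 : ∑ b ∈ B, (lam b : ℂ) = ∑ b ∈ B, (lam (s * b) : ℂ) := by
      refine (Finset.sum_equiv (Equiv.mulLeft s) (fun b => ?_) fun b _ => rfl).symm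
      rw [Finset.mem_filter, Finset.mem_filter, hBiff, hBiff]
      simp only [Finset.mem_univ, true_and]
      exact ((A0 c).mul_mem_cancel_left hs0).symm
    have h2 : ∀ b : K, (lam (s * b) : ℂ) = -(lam b : ℂ) := fun b => by
      rw [map_mul, Units.val_mul, hqs s rfl, neg_one_mul]
    simp only [h2, Finset.sum_neg_distrib] at h1
    exact CharZero.eq_neg_self_iff.1 h1

end Cfsg.Agent.CycSyl43SemiSLTorus32
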