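import Mathlib
import Cfsg.Prelude.Def_CaseTheorems
import Cfsg.Agent.Lib.PGroupsCyclic

/-!
Automorphisms of odd order of subgroups of dihedral and semidihedral 2-groups that fix the central
involution.
-/

set_option autoImplicit false
set_option linter.style.haveILetI false

namespace Cfsg.Agent.CycSyl43TypesLocal

variable {G : Type*} [Group G]

/-- An element of odd order normalising a subgroup with a cyclic 2-subgroup of index at most two which
it also normalises centralises it. -/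
theorem odd_fix [Finite G] (g : G) (hg : Odd (orderOf g)) (R A : Subgroup G) [IsCyclic A]
    (hA : IsPGroup 2 A) (hR : ∀ r ∈ R, g * r * g⁻¹ ∈ R) (hAinv : ∀ a ∈ A, g * a * g⁻¹ ∈ A)
    (hidx : ∀ r ∈ R, ∀ s ∈ R, r ∉ A → s ∉ A → r⁻¹ * s ∈ A) :
    ∀ r ∈ R, g * r * g⁻¹ = r := by
  classical
  haveI : Fact (Nat.Prime 2) := ⟨Nat.prime_two⟩
  let ψ : A →* A := MonoidHom.mk' (fun a => ⟨g * a * g⁻¹, hAinv _ a.2⟩) fun a b =>
    Subtype.ext (by simp only [Subgroup.coe_mul]; group)
  have hψ : Function.Bijective ψ := by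
    refine Finite.injective_iff_bijective.1 fun a b h => Subtype.ext ?_
    have h' := congrArg Subtype.val h
    exact mul_left_cancel (mul_right_cancel h')
  let φ : MulAut A := MulEquiv.ofBijective ψ hψ
  have hiter : ∀ (j : ℕ) (a : A), (((φ ^ j) a : A) : G) = g ^ j * a * (g ^ j)⁻¹ := by
    intro j
    induction j with
    | zero => intro a; simp
    | succ j ih =>
      intro a
      rw [pow_succ, MulAut.mul_apply, ih]
      show g ^ j * (g * a * g⁻¹) * (g ^ j)⁻¹ = _
      rw [pow_succ]; group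
  have hφ1 : φ = 1 := by
    have h1 : φ ^ orderOf g = 1 := MulEquiv.ext fun a => Subtype.ext (by
      rw [hiter, pow_orderOf_eq_one, inv_one, mul_one, one_mul]; rfl)
    have hd : orderOf φ ∣ orderOf g := orderOf_dvd_of_pow_eq_one h1
    have hodd : Odd (orderOf φ) := hg.of_dvd_nat hd
    have h := orderOf_dvd_natCard φ
    rw [IsCyclic.card_mulAut] at h
    obtain ⟨k, hk⟩ := hA.exists_card_eq
    rw [hk] at h
    rcases Nat.eq_zero_or_pos k with rfl | hk0
    · rw [pow_zero, Nat.totient_one, Nat.dvd_one] at h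
      exact orderOf_eq_one_iff.1 h
    · rw [Nat.totient_prime_pow Nat.prime_two hk0, show (2 - 1 : ℕ) = 1 from rfl, mul_one] at h
      exact orderOf_eq_one_iff.1 (Nat.eq_one_of_dvd_coprimes
        ((Nat.coprime_two_right.2 hodd).pow_right (k - 1)) dvd_rfl h)
  have hfixA : ∀ a ∈ A, g * a * g⁻¹ = a := fun a ha => by
    have h := congrArg (fun α : MulAut A => ((α ⟨a, ha⟩ : A) : G)) hφ1
    exact h
  intro r hr
  by_cases hrA : r ∈ A
  · exact hfixA r hrA
  have hgrA : g * r * g⁻¹ ∉ A := fun h => hrA (by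
    have h2 := hfixA _ h
    have h3 : g * r * g⁻¹ = r := mul_left_cancel (mul_right_cancel h2)
    rwa [h3] at h)
  have hcA : r⁻¹ * (g * r * g⁻¹) ∈ A := hidx r hr _ (hR r hr) hrA hgrA
  set c := r⁻¹ * (g * r * g⁻¹) with hc
  have hpow : ∀ j : ℕ, g ^ j * r * (g ^ j)⁻¹ = r * c ^ j := by
    intro j
    induction j with
    | zero => simp
    | succ j ih =>
      calc g ^ (j + 1) * r * (g ^ (j + 1))⁻¹ = g * (g ^ j * r * (g ^ j)⁻¹) * g⁻¹ := by
            rw [pow_succ']; group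
        _ = (g * r * g⁻¹) * (g * c ^ j * g⁻¹) := by rw [ih]; group
        _ = r * c * c ^ j := by
            rw [hfixA _ (pow_mem hcA j), hc]
            group
        _ = r * c ^ (j + 1) := by rw [pow_succ', mul_assoc]
  have h1 : c ^ orderOf g = 1 := by
    have h := hpow (orderOf g)
    rwa [pow_orderOf_eq_one, inv_one, mul_one, one_mul, eq_comm, mul_eq_left] at h
  obtain ⟨k, hk⟩ := hA ⟨c, hcA⟩
  have hk' : c ^ 2 ^ k = 1 := by simpa using congrArg Subtype.val hk
  have hc1 : c = 1 := orderOf_eq_one_iff.1 (Nat.eq_one_of_dvd_coprimes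
    ((Nat.coprime_two_right.2 hg).pow_right k) (orderOf_dvd_of_pow_eq_one h1)
    (orderOf_dvd_of_pow_eq_one hk'))
  rw [hc, inv_mul_eq_one] at hc1
  exact hc1.symm

theorem card_le_two_mul [Finite G] (R B : Subgroup G)
    (hidx : ∀ r ∈ R, ∀ s ∈ R, r ∉ B → s ∉ B → r⁻¹ * s ∈ B) :
    Nat.card R ≤ 2 * Nat.card ↥(R ⊓ B) := by
  classical
  by_cases h : R ≤ B
  · rw [inf_eq_left.2 h]; omega
  obtain ⟨r0, hr0, hr0B⟩ := SetLike.not_le_iff_exists.1 h
  let f : R → ↥(R ⊓ B) × Bool := fun s =>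
    if hs : (s : G) ∈ B then (⟨s, s.2, hs⟩, false)
    else (⟨r0⁻¹ * s, R.mul_mem (R.inv_mem hr0) s.2, hidx r0 hr0 s s.2 hr0B hs⟩, true)
  have hf : Function.Injective f := by
    intro a b hab
    simp only [f] at hab
    split_ifs at hab with ha hb hb
    · exact Subtype.ext (congrArg (fun z : ↥(R ⊓ B) × Bool => (z.1 : G)) hab :)
    · simp at hab
    · simp at hab
    · exact Subtype.ext (mul_left_cancel (congrArg (fun z : ↥(R ⊓ B) × Bool => (z.1 : G)) hab :))
  have := Nat.card_le_card_of_injective f hf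
  rw [Nat.card_prod, Nat.card_eq_fintype_card (α := Bool), Fintype.card_bool] at this
  omega

/-- Generators of a dihedral group. -/
theorem dihedral_data (S : Subgroup G) {k : ℕ} (e : S ≃* DihedralGroup (2 ^ k)) :
    ∃ x : G, x ∈ S ∧ orderOf x = 2 ^ k ∧ (∀ s ∈ S, s ∉ Subgroup.zpowers x → s * s = 1) ∧
      ∀ r ∈ S, ∀ s ∈ S, r ∉ Subgroup.zpowers x → s ∉ Subgroup.zpowers x →
        r⁻¹ * s ∈ Subgroup.zpowers x := by
  haveI : NeZero (2 ^ k) := ⟨by positivity⟩
  set x : G := ((e.symm (DihedralGroup.r 1) : S) : G)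
  have hr : ∀ i : ZMod (2 ^ k), ((e.symm (DihedralGroup.r i) : S) : G) ∈ Subgroup.zpowers x := by
    intro i
    have h : DihedralGroup.r i = DihedralGroup.r 1 ^ i.val := by
      rw [DihedralGroup.r_one_pow, ZMod.natCast_zmod_val]
    rw [h, map_pow, Subgroup.coe_pow]
    exact pow_mem (Subgroup.mem_zpowers _) _
  have hsr : ∀ s : S, (s : G) ∉ Subgroup.zpowers x → ∃ i, e s = DihedralGroup.sr i := by
    intro s hs
    cases h : e s with
    | r i => exact absurd (by rw [← e.symm_apply_apply s, h]; exact hr i) hs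
    | sr i => exact ⟨i, rfl⟩
  refine ⟨x, SetLike.coe_mem _, ?_, fun s hs hsx => ?_, fun r hr' s hs hrx hsx => ?_⟩
  · show orderOf ((e.symm (DihedralGroup.r 1) : S) : G) = _
    rw [Subgroup.orderOf_coe, MulEquiv.orderOf_eq, DihedralGroup.orderOf_r_one]
  · obtain ⟨i, hi⟩ := hsr ⟨s, hs⟩ hsx
    have h : (⟨s, hs⟩ : S) * ⟨s, hs⟩ = 1 := e.injective (by
      rw [map_mul, hi, map_one, DihedralGroup.sr_mul_self])
    exact congrArg Subtype.val h
  · obtain ⟨i, hi⟩ := hsr ⟨r, hr'⟩ hrx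
    obtain ⟨j, hj⟩ := hsr ⟨s, hs⟩ hsx
    have h : e ((⟨r, hr'⟩ : S)⁻¹ * ⟨s, hs⟩) = DihedralGroup.r (j - i) := by
      rw [map_mul, map_inv, hi, hj, DihedralGroup.inv_sr, DihedralGroup.sr_mul_sr]
    have h2 := hr (j - i)
    rw [← h, e.symm_apply_apply] at h2
    exact h2

/-- In a dihedral 2-group no element of odd order acts nontrivially on a subgroup, fixing an
involution in it. -/
theorem dihedral_rigid [Finite G] (S : Subgroup G) {k : ℕ} (e : S ≃* DihedralGroup (2 ^ k))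
    (R : Subgroup G) (hRS : R ≤ S) {t : G} (htR : t ∈ R) (ht : orderOf t = 2)
    (g : G) (hg : Odd (orderOf g)) (hR : ∀ r ∈ R, g * r * g⁻¹ ∈ R) (hgt : g * t * g⁻¹ = t) :
    ∀ r ∈ R, g * r * g⁻¹ = r := by
  haveI : Fact (Nat.Prime 2) := ⟨Nat.prime_two⟩
  obtain ⟨x, hxS, hox, hsq, hpair⟩ := dihedral_data S e
  have hxp : IsPGroup 2 (Subgroup.zpowers x) :=
    IsPGroup.of_card (n := k) (by rw [Nat.card_zpowers, hox])
  set B := Subgroup.zpowers x
  set A := R ⊓ B
  haveI : IsCyclic A := Subgroup.isCyclic_of_le inf_le_right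
  have hA : IsPGroup 2 A := hxp.to_le inf_le_right
  obtain ⟨⟨a, ha⟩, hgen⟩ := IsCyclic.exists_generator (α := A)
  have hgen' : ∀ b ∈ A, ∃ j : ℤ, a ^ j = b := fun b hb => by
    obtain ⟨j, hj⟩ := hgen ⟨b, hb⟩
    exact ⟨j, congrArg Subtype.val hj⟩
  by_cases ha2 : a * a = 1
  · -- exponent two
    haveI : IsCyclic (Subgroup.zpowers t) := inferInstance
    have hT : IsPGroup 2 (Subgroup.zpowers t) :=
      IsPGroup.of_card (n := 1) (by rw [Nat.card_zpowers, ht, pow_one])
    refine odd_fix g hg R (Subgroup.zpowers t) hT hR ?_ ?_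
    · rintro _ ⟨j, rfl⟩
      refine ⟨j, ?_⟩
      show t ^ j = g * t ^ j * g⁻¹
      rw [← conj_zpow, hgt]
    · have hA2 : Nat.card A ≤ 2 := by
        rw [← orderOf_eq_card_of_forall_mem_zpowers hgen, Subgroup.orderOf_mk]
        exact orderOf_le_of_pow_eq_one two_pos (by rw [pow_two, ha2])
      have hR4 : Nat.card R ≤ 4 := by
        have h4 : Nat.card R ≤ 2 * Nat.card A :=
          card_le_two_mul R B fun r hr s hs => hpair r (hRS hr) s (hRS hs)
        omega
      have hle : Subgroup.zpowers t ≤ R := Subgroup.zpowers_le.2 htR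
      have hidx : ((Subgroup.zpowers t).subgroupOf R).index ≤ 2 := by
        have h := ((Subgroup.zpowers t).subgroupOf R).card_mul_index
        rw [Nat.card_congr (Subgroup.subgroupOfEquivOfLe hle).toEquiv, Nat.card_zpowers, ht] at h
        omega
      intro r hr s hs hrt hst
      have hne : ((Subgroup.zpowers t).subgroupOf R).index ≠ 1 := fun h => hrt (by
        rw [Subgroup.index_eq_one] at h
        have : (⟨r, hr⟩ : R) ∈ (Subgroup.zpowers t).subgroupOf R := by rw [h]; trivial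
        exact this)
      have h2 : ((Subgroup.zpowers t).subgroupOf R).index = 2 := by
        have := Subgroup.index_ne_zero_of_finite (H := (Subgroup.zpowers t).subgroupOf R)
        omega
      have h3 : (⟨r, hr⟩ : R)⁻¹ * ⟨s, hs⟩ ∈ (Subgroup.zpowers t).subgroupOf R := by
        rw [Subgroup.mul_mem_iff_of_index_two h2, inv_mem_iff]
        exact iff_of_false hrt hst
      exact h3
  · refine odd_fix g hg R A hA hR ?_ ?_
    · intro b hb
      obtain ⟨j, rfl⟩ := hgen' b hb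
      rw [← conj_zpow]
      refine Subgroup.zpow_mem A (show g * a * g⁻¹ ∈ A from ⟨hR a ha.1, ?_⟩) j
      by_contra hout
      have h := hsq _ (hRS (hR a ha.1)) hout
      refine ha2 ?_
      rw [show g * a * g⁻¹ * (g * a * g⁻¹) = g * (a * a) * g⁻¹ by group, conj_eq_one_iff] at h
      exact h
    · intro r hr s hs hrA hsA
      exact ⟨R.mul_mem (R.inv_mem hr) hs, hpair r (hRS hr) s (hRS hs) (fun h => hrA ⟨hr, h⟩)
        (fun h => hsA ⟨hs, h⟩)⟩

/-- Generators of a semidihedral group of order `2^(n+1)`. -/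
structure SD (S : Subgroup G) (n : ℕ) (x y : G) : Prop where
  n3 : 3 ≤ n
  xm : x ∈ S
  ym : y ∈ S
  ox : orderOf x = 2 ^ n
  oy : orderOf y = 2
  yx : y * x * y⁻¹ = x ^ (2 ^ (n - 1) - 1)
  card : Nat.card S = 2 ^ (n + 1)

theorem exists_SD (S : Subgroup G) (h : Cfsg.IsQuasiDihedral S) : ∃ n x y, SD S n x y := by
  obtain ⟨n, hn, hc, x, y, hx, hy, hyx⟩ := h
  exact ⟨n, x, y, hn, x.2, y.2, by rw [Subgroup.orderOf_coe, hx], by rw [Subgroup.orderOf_coe, hy],
    congrArg Subtype.val hyx, hc⟩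

variable {S : Subgroup G} {n : ℕ} {x y : G}

theorem SD.map {H : Type*} [Group H] (h : SD S n x y) (f : G →* H)
    (hf : ∀ s ∈ S, f s = 1 → s = 1) : SD (S.map f) n (f x) (f y) := by
  have hinj : Function.Injective (f.domRestrict S) := (injective_iff_map_eq_one _).2
    fun s hs => Subtype.ext (hf s s.2 hs)
  have hord : ∀ s : S, orderOf (f (s : G)) = orderOf (s : G) := fun s => by
    rw [Subgroup.orderOf_coe]
    exact orderOf_injective _ hinj s
  refine ⟨h.n3, ⟨x, h.xm, rfl⟩, ⟨y, h.ym, rfl⟩, ?_, ?_, ?_, ?_⟩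
  · rw [hord ⟨x, h.xm⟩, h.ox]
  · rw [hord ⟨y, h.ym⟩, h.oy]
  · rw [← map_inv, ← map_mul, ← map_mul, ← map_pow, h.yx]
  · rw [← h.card]
    exact (Nat.card_congr (Equiv.ofBijective (fun s : S => (⟨f s, s, s.2, rfl⟩ : S.map f))
      ⟨fun a b hab => hinj (congrArg Subtype.val hab), fun ⟨b, a, ha, hab⟩ =>
        ⟨⟨a, ha⟩, Subtype.ext hab⟩⟩)).symm

theorem SD.yy (h : SD S n x y) : y * y = 1 := by
  have h1 := pow_orderOf_eq_one y
  rwa [h.oy, pow_two] at h1

theorem SD.y_pow (h : SD S n x y) (i : ℕ) : y * x ^ i = x ^ ((2 ^ (n - 1) - 1) * i) * y := by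
  rw [← mul_inv_eq_iff_eq_mul, ← conj_pow, h.yx, ← pow_mul]

theorem SD.two_pow (h : SD S n x y) : 2 ^ n = 2 * 2 ^ (n - 1) := by
  rw [← pow_succ', Nat.sub_add_cancel (by have := h.n3; omega)]

theorem SD.four_le (h : SD S n x y) : 4 ≤ 2 ^ (n - 1) :=
  (show 4 = 2 ^ 2 by rfl).le.trans (Nat.pow_le_pow_right two_pos (by have := h.n3; omega))

theorem SD.not_comm (h : SD S n x y) : y * x ≠ x * y := by
  intro hc
  have h1 : x ^ (2 ^ (n - 1) - 1) = x ^ 1 := by
    rw [← h.yx, pow_one, hc, mul_inv_cancel_right]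
  have := h.two_pow
  have := h.four_le
  have h2 := pow_injOn_Iio_orderOf (x := x) (x₁ := 2 ^ (n - 1) - 1) (x₂ := 1)
    (by rw [Set.mem_Iio, h.ox]; omega) (by rw [Set.mem_Iio, h.ox]; omega) h1
  omega

theorem SD.y_notMem (h : SD S n x y) : y ∉ Subgroup.zpowers x := by
  rintro ⟨j, hj⟩
  exact h.not_comm (by subst hj; exact ((Commute.refl x).zpow_left j).eq)

variable [Finite G]

theorem SD.cases (h : SD S n x y) {s : G} (hs : s ∈ S) :
    ∃ i : ℕ, s = x ^ i ∨ s = x ^ i * y := by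
  have hle : Subgroup.zpowers x ≤ S := Subgroup.zpowers_le.2 h.xm
  have hidx : ((Subgroup.zpowers x).subgroupOf S).index = 2 := by
    have h1 := ((Subgroup.zpowers x).subgroupOf S).card_mul_index
    rw [Nat.card_congr (Subgroup.subgroupOfEquivOfLe hle).toEquiv, Nat.card_zpowers, h.ox, h.card,
      pow_succ] at h1
    exact mul_left_cancel₀ (pow_ne_zero _ two_ne_zero) h1
  have hpow : ∀ u ∈ Subgroup.zpowers x, ∃ i : ℕ, x ^ i = u := fun u hu =>
    mem_powers_iff_mem_zpowers.2 hu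
  by_cases hsx : s ∈ Subgroup.zpowers x
  · obtain ⟨i, hi⟩ := hpow s hsx
    exact ⟨i, Or.inl hi.symm⟩
  · have h1 : (⟨s, hs⟩ : S) * ⟨y, h.ym⟩ ∈ (Subgroup.zpowers x).subgroupOf S := by
      rw [Subgroup.mul_mem_iff_of_index_two hidx]
      exact iff_of_false hsx h.y_notMem
    obtain ⟨i, hi⟩ := hpow (s * y) h1
    exact ⟨i, Or.inr (by rw [hi, mul_assoc, h.yy, mul_one])⟩

theorem SD.mem_or (h : SD S n x y) {s : G} (hs : s ∈ S) (hsx : s ∉ Subgroup.zpowers x) :
    ∃ i : ℕ, s = x ^ i * y := by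
  obtain ⟨i, rfl | rfl⟩ := h.cases hs
  · exact absurd (pow_mem (Subgroup.mem_zpowers x) i) hsx
  · exact ⟨i, rfl⟩

omit [Finite G] in
/-- The central involution. -/
theorem SD.z_facts (h : SD S n x y) :
    x ^ 2 ^ (n - 1) ≠ 1 ∧ (x ^ 2 ^ (n - 1)) * x ^ 2 ^ (n - 1) = 1 := by
  constructor
  · intro h1
    have h2 := orderOf_dvd_of_pow_eq_one h1
    rw [h.ox] at h2
    have := Nat.le_of_dvd (by positivity) h2
    have := h.two_pow
    have := h.four_le
    omega
  · rw [← pow_add, ← two_mul, ← h.two_pow, ← h.ox, pow_orderOf_eq_one]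

omit [Finite G] in
theorem SD.sq (h : SD S n x y) (i : ℕ) :
    (x ^ i * y) * (x ^ i * y) = if Even i then 1 else x ^ 2 ^ (n - 1) := by
  have h1 : (x ^ i * y) * (x ^ i * y) = (x ^ 2 ^ (n - 1)) ^ i := by
    calc (x ^ i * y) * (x ^ i * y) = x ^ i * (y * x ^ i) * y := by group
      _ = x ^ i * x ^ ((2 ^ (n - 1) - 1) * i) * (y * y) := by rw [h.y_pow]; group
      _ = (x ^ 2 ^ (n - 1)) ^ i := by
          rw [h.yy, mul_one, ← pow_add, ← pow_mul]
          congr 1
          have := h.four_le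
          obtain ⟨m, hm⟩ : ∃ m, 2 ^ (n - 1) = m + 1 := ⟨2 ^ (n - 1) - 1, by omega⟩
          rw [hm, Nat.add_sub_cancel]; ring
  rw [h1]
  split_ifs with hi
  · obtain ⟨j, rfl⟩ := hi
    rw [pow_add, ← (Commute.refl _).mul_pow, h.z_facts.2, one_pow]
  · obtain ⟨j, rfl⟩ := Nat.not_even_iff_odd.1 hi
    rw [pow_succ, two_mul, pow_add, ← (Commute.refl _).mul_pow, h.z_facts.2, one_pow, one_mul]

theorem SD.pair (h : SD S n x y) {r s : G} (hr : r ∈ S) (hs : s ∈ S)
    (hrx : r ∉ Subgroup.zpowers x) (hsx : s ∉ Subgroup.zpowers x) :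
    r⁻¹ * s ∈ Subgroup.zpowers x := by
  obtain ⟨i, rfl⟩ := h.mem_or hr hrx
  obtain ⟨j, rfl⟩ := h.mem_or hs hsx
  have h1 : (x ^ i * y)⁻¹ * (x ^ j * y) = (y * x * y⁻¹) ^ (-(i : ℤ) + j) := by
    rw [conj_zpow, inv_eq_of_mul_eq_one_right h.yy, zpow_add, zpow_neg, zpow_natCast, zpow_natCast,
      mul_inv_rev, inv_eq_of_mul_eq_one_right h.yy]
    group
  rw [h1, h.yx]
  exact zpow_mem (pow_mem (Subgroup.mem_zpowers x) _) _

/-- The only central involution. -/
theorem SD.central_eq (h : SD S n x y) {t : G} (ht : t ∈ S) (hot : orderOf t = 2)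
    (htc : ∀ s ∈ S, s * t = t * s) : t = x ^ 2 ^ (n - 1) := by
  obtain ⟨i, rfl | rfl⟩ := h.cases ht
  · have h1 := pow_orderOf_eq_one (x ^ i)
    rw [hot, ← pow_mul] at h1
    have h2 := orderOf_dvd_of_pow_eq_one h1
    rw [h.ox, h.two_pow, mul_comm i 2] at h2
    obtain ⟨j, hj⟩ := Nat.dvd_of_mul_dvd_mul_left two_pos h2
    rw [hj, pow_mul]
    rcases Nat.even_or_odd j with ⟨l, rfl⟩ | ⟨l, rfl⟩
    · exfalso
      have h3 : x ^ i = 1 := by
        rw [hj, pow_mul, pow_add, ← (Commute.refl _).mul_pow, h.z_facts.2, one_pow]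
      rw [h3, orderOf_one] at hot
      omega
    · rw [pow_succ, two_mul, pow_add, ← (Commute.refl _).mul_pow, h.z_facts.2, one_pow, one_mul]
  · exfalso
    have h1 := htc x h.xm
    refine h.not_comm (mul_left_cancel (a := x ^ i) ?_)
    calc x ^ i * (y * x) = x ^ i * y * x := by group
      _ = x * (x ^ i * y) := h1.symm
      _ = x ^ i * (x * y) := by rw [← mul_assoc, ← pow_succ', pow_succ, mul_assoc]

/-- If an element of odd order acts nontrivially on a subgroup of a semidihedral group, fixing the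
central involution, then the subgroup is a quaternion group of order eight. -/
theorem SD.rigid (h : SD S n x y) (R : Subgroup G) (hRS : R ≤ S) {t : G} (htR : t ∈ R)
    (hot : orderOf t = 2) (htc : ∀ s ∈ S, s * t = t * s)
    (g : G) (hg : Odd (orderOf g)) (hR : ∀ r ∈ R, g * r * g⁻¹ ∈ R) (hgt : g * t * g⁻¹ = t)
    (hne : ∃ r ∈ R, g * r * g⁻¹ ≠ r) :
    y ∉ R ∧ Nonempty (QuaternionGroup 2 ≃* R) := by
  classical
  haveI : Fact (Nat.Prime 2) := ⟨Nat.prime_two⟩
  obtain ⟨r₁, hr₁, hr₁ne⟩ := hne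
  have hSp : IsPGroup 2 S := IsPGroup.of_card h.card
  set B := Subgroup.zpowers x with hB
  set A := R ⊓ B with hAdef
  haveI : IsCyclic A := Subgroup.isCyclic_of_le inf_le_right
  have hA : IsPGroup 2 A := hSp.to_le (inf_le_left.trans hRS)
  have hz : t = x ^ 2 ^ (n - 1) := h.central_eq (hRS htR) hot htc
  have htA : t ∈ A := ⟨htR, hz ▸ pow_mem (Subgroup.mem_zpowers x) _⟩
  have hidx : ∀ r ∈ R, ∀ s ∈ R, r ∉ A → s ∉ A → r⁻¹ * s ∈ A := fun r hr s hs hrA hsA =>
    ⟨R.mul_mem (R.inv_mem hr) hs, h.pair (hRS hr) (hRS hs) (fun e => hrA ⟨hr, e⟩) (fun e => hsA ⟨hs, e⟩)⟩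
  obtain ⟨⟨a, ha⟩, hgen⟩ := IsCyclic.exists_generator (α := A)
  have hgen' : ∀ b ∈ A, ∃ j : ℤ, a ^ j = b := fun b hb => by
    obtain ⟨j, hj⟩ := hgen ⟨b, hb⟩
    exact ⟨j, congrArg Subtype.val hj⟩
  have hmove : g * a * g⁻¹ ∉ A := fun hga => hr₁ne (odd_fix g hg R A hA hR (fun b hb => by
    obtain ⟨j, rfl⟩ := hgen' b hb
    rw [← conj_zpow]
    exact zpow_mem hga j) hidx r₁ hr₁)
  obtain ⟨i₀, hi₀⟩ := h.mem_or (hRS (hR a ha.1)) fun e => hmove ⟨hR a ha.1, e⟩
  have hconjsq : g * (a * a) * g⁻¹ = (g * a * g⁻¹) * (g * a * g⁻¹) := by group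
  have ha4 : a ^ 4 = 1 := by
    have h1 : (g * a * g⁻¹) ^ 4 = 1 := by
      rw [hi₀, show (x ^ i₀ * y) ^ 4 = ((x ^ i₀ * y) * (x ^ i₀ * y)) * ((x ^ i₀ * y) * (x ^ i₀ * y)) by
        rw [show 4 = 2 + 2 from rfl, pow_add, pow_two], h.sq]
      split_ifs
      · exact one_mul 1
      · exact h.z_facts.2
    rwa [conj_pow, conj_eq_one_iff] at h1
  have ha2 : a * a ≠ 1 := by
    intro h1
    obtain ⟨j, hj⟩ := hgen' t htA
    refine hmove ?_
    rcases Int.even_or_odd j with ⟨l, rfl⟩ | ⟨l, rfl⟩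
    · rw [zpow_add, ← (Commute.refl a).mul_zpow, h1, one_zpow] at hj
      rw [← hj, orderOf_one] at hot
      omega
    · rw [two_mul, zpow_add, zpow_add, ← (Commute.refl a).mul_zpow, h1, one_zpow, one_mul, zpow_one] at hj
      rw [hj, hgt]
      exact htA
  have hi₀odd : ¬ Even i₀ := fun he => ha2 (by
    have h1 := hconjsq
    rw [hi₀, h.sq, if_pos he, conj_eq_one_iff] at h1
    exact h1)
  have hout : ∀ r ∈ R, r ∉ A → r * r = t := by
    intro r hr hrA
    obtain ⟨j, rfl⟩ := h.mem_or (hRS hr) fun e => hrA ⟨hr, e⟩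
    rw [h.sq, ← hz]
    split_ifs with hj
    · exfalso
      have hd := hidx (g * a * g⁻¹) (hR a ha.1) _ hr hmove hrA
      obtain ⟨l, hl⟩ := hgen' _ hd
      have h2 : a ^ l * y⁻¹ = (g * a * g⁻¹)⁻¹ * x ^ j := by rw [hl]; group
      obtain ⟨m, hm⟩ : ∃ m : ℕ, a = x ^ (2 * m) := by
        obtain ⟨m, hm⟩ := mem_powers_iff_mem_zpowers.2 ha.2
        change x ^ m = a at hm
        have h3 : x ^ (m * 4) = 1 := by rw [pow_mul, hm, ha4]
        have h4 := orderOf_dvd_of_pow_eq_one h3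
        rw [h.ox] at h4
        have h8 : 8 ∣ m * 4 := (show 8 = 2 ^ 3 by rfl) ▸ (pow_dvd_pow 2 h.n3).trans h4
        exact ⟨m / 2, by rw [← hm]; congr 1; omega⟩
      have hj' : x ^ j * y = (x ^ i₀ * y) * a ^ l := by rw [hl, hi₀]; group
      obtain ⟨l', hl'⟩ : ∃ l' : ℕ, a ^ l = a ^ l' := by
        obtain ⟨l', hl'⟩ := mem_powers_iff_mem_zpowers.2 (zpow_mem (Subgroup.mem_zpowers a) l)
        exact ⟨l', hl'.symm⟩
      have h5 : x ^ j = x ^ (i₀ + (2 ^ (n - 1) - 1) * (2 * m * l')) := by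
        refine mul_right_cancel (b := y) ?_
        rw [hj', hl', hm, ← pow_mul, mul_assoc, h.y_pow, ← mul_assoc, ← pow_add]
      rw [pow_eq_pow_iff_modEq, h.ox, h.two_pow] at h5
      have h6 := (Nat.ModEq.of_mul_right _ h5)
      obtain ⟨u, rfl⟩ := hj
      obtain ⟨v, rfl⟩ := Nat.not_even_iff_odd.1 hi₀odd
      unfold Nat.ModEq at h6
      rw [show (2 ^ (n - 1) - 1) * (2 * m * l') = 2 * ((2 ^ (n - 1) - 1) * (m * l')) by ring] at h6
      omega
    · rfl
  refine ⟨fun hyR => ?_, ?_⟩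
  · have h1 := hout y hyR fun e => h.y_notMem e.2
    rw [h.yy] at h1
    rw [← h1, orderOf_one] at hot
    omega
  have huniq : ∀ H K : Subgroup R, Nat.card H = 2 → Nat.card K = 2 → H = K := by
    have key : ∀ H : Subgroup R, Nat.card H = 2 → H = Subgroup.zpowers ⟨t, htR⟩ := by
      intro H hH
      obtain ⟨u, hu⟩ := exists_prime_orderOf_dvd_card' (G := ↥H) 2 (dvd_of_eq hH.symm)
      have hu' : orderOf ((u : R) : G) = 2 := by rw [Subgroup.orderOf_coe, Subgroup.orderOf_coe, hu]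
      have huu : ((u : R) : G) * (u : R) = 1 := by
        have := pow_orderOf_eq_one ((u : R) : G)
        rwa [hu', pow_two] at this
      have hut : ((u : R) : G) = t := by
        by_cases huA : ((u : R) : G) ∈ A
        · haveI : Fintype A := Fintype.ofFinite A
          by_contra hne
          have h1 : ((u : R) : G) ≠ 1 := fun e => by rw [e, orderOf_one] at hu'; omega
          have ht1 : t ≠ 1 := fun e => by rw [e, orderOf_one] at hot; omega
          have htt : t * t = 1 := by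
            have := pow_orderOf_eq_one t
            rwa [hot, pow_two] at this
          have hsub : ({1, ⟨_, huA⟩, ⟨t, htA⟩} : Finset A) ⊆
              Finset.univ.filter (fun c : A => c ^ 2 = 1) := by
            intro c hc
            simp only [Finset.mem_insert, Finset.mem_singleton] at hc
            rcases hc with rfl | rfl | rfl <;> simp [Subtype.ext_iff, pow_two, huu, htt]
          have hle := (Finset.card_le_card hsub).trans (IsCyclic.card_pow_eq_one_le (α := A) two_pos)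
          rw [Finset.card_eq_three.2 ⟨_, _, _, ?_, ?_, ?_, rfl⟩] at hle
          · omega
          · simpa [Subtype.ext_iff] using Ne.symm h1
          · simpa [Subtype.ext_iff] using Ne.symm ht1
          · simpa [Subtype.ext_iff] using hne
        · have := hout _ (u : R).2 huA
          rw [huu] at this
          rw [← this, orderOf_one] at hot
          omega
      symm
      refine Subgroup.eq_of_le_of_card_ge (Subgroup.zpowers_le.2 ?_) ?_
      · rw [show (⟨t, htR⟩ : R) = (u : R) from Subtype.ext hut.symm]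
        exact u.2
      · rw [Nat.card_zpowers, Subgroup.orderOf_mk, hot, hH]
    intro H K hH hK
    rw [key H hH, key K hK]
  have hR4 : ∀ r ∈ R, r ^ 4 = 1 := by
    intro r hr
    by_cases hrA : r ∈ A
    · obtain ⟨j, rfl⟩ := hgen' r hrA
      rw [← zpow_natCast, zpow_comm, zpow_natCast, ha4, one_zpow]
    · rw [show r ^ 4 = (r * r) * (r * r) by rw [show 4 = 2 + 2 from rfl, pow_add, pow_two], hout r hr hrA, ← pow_two, ← hot, pow_orderOf_eq_one]
  have hoa : orderOf a = 4 := orderOf_eq_prime_pow (p := 2) (n := 1) (by rwa [pow_one, pow_two]) ha4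
  have hcardA : Nat.card A = 4 := by
    rw [← orderOf_eq_card_of_forall_mem_zpowers hgen, Subgroup.orderOf_mk, hoa]
  have hcard : 4 < Nat.card R := by
    rw [← hcardA]
    by_contra hle
    push Not at hle
    have h1 : A = R := Subgroup.eq_of_le_of_card_ge inf_le_left hle
    exact hmove (by rw [h1]; exact hR a ha.1)
  rcases PGroupsCyclic.isCyclic_or_quaternion (hSp.to_le hRS) huniq with hcyc | ⟨-, m, ⟨e⟩⟩
  · exfalso
    haveI := hcyc
    obtain ⟨c, hc⟩ := IsCyclic.exists_ofOrder_eq_natCard (α := R)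
    have h1 : c ^ 4 = 1 := Subtype.ext (by simpa using hR4 c c.2)
    have := orderOf_le_of_pow_eq_one (by norm_num) h1
    omega
  · have hc : Nat.card R = 4 * 2 ^ m := by
      rw [Nat.card_congr e.toEquiv, Nat.card_eq_fintype_card, QuaternionGroup.card]
    rcases m with _ | _ | m
    · rw [pow_zero] at hc; omega
    · exact ⟨e.symm⟩
    · exfalso
      have h2 : (QuaternionGroup.a 1 : QuaternionGroup (2 ^ (m + 2))) ^ 4 = 1 := by
        rw [← e.apply_symm_apply (QuaternionGroup.a 1), ← map_pow]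
        rw [show (e.symm (QuaternionGroup.a 1)) ^ 4 = 1 from Subtype.ext (by simpa using hR4 _ (e.symm _).2),
          map_one]
      have h3 := orderOf_le_of_pow_eq_one (by norm_num) h2
      rw [QuaternionGroup.orderOf_a_one] at h3
      have : 4 ≤ 2 ^ (m + 2) := (show 4 = 2 ^ 2 by rfl).le.trans (Nat.pow_le_pow_right two_pos (by omega))
      omega

end Cfsg.Agent.CycSyl43TypesLocal
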