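import Cfsg.Agent.Lib.CycSyl43Defs
import Cfsg.Agent.Lib.CycSyl43TypesLocal
import Cfsg.Agent.Lib.CycSyl43Assembly
import Cfsg.Agent.S3304
import Cfsg.Agent.S0071
import Cfsg.Agent.Lib.TransferThompson

/-!
The configurations in a minimal simple group with cyclic odd Sylow subgroups, given the structure of
its Sylow 2-subgroup.
-/

set_option autoImplicit false
set_option linter.style.haveILetI false

namespace Cfsg.Agent.CycSyl43TypesCore

open Cfsg.Agent.CycSyl43 Cfsg.Agent.CycSyl43TypesLocal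
open scoped MatrixGroups

universe u

variable {T : Type u} [Group T] [Finite T]

theorem SD.sub {C S : Subgroup T} {n : ℕ} {x y : T} (h : SD S n x y) (hle : S ≤ C) :
    SD (S.subgroupOf C) n ⟨x, hle h.xm⟩ ⟨y, hle h.ym⟩ := by
  refine ⟨h.n3, h.xm, h.ym, ?_, ?_, Subtype.ext h.yx, ?_⟩
  · rw [Subgroup.orderOf_mk, h.ox]
  · rw [Subgroup.orderOf_mk, h.oy]
  · rw [Nat.card_congr (Subgroup.subgroupOfEquivOfLe hle).toEquiv, h.card]

/-- The centre of a simple nonabelian group is trivial. -/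
theorem center_eq_bot (hs : IsSimpleGroup T) (hnc : ∃ a b : T, a * b ≠ b * a) :
    Subgroup.center T = ⊥ := by
  haveI := hs
  rcases (inferInstance : (Subgroup.center T).Normal).eq_bot_or_eq_top with h | h
  · exact h
  · obtain ⟨a, b, hab⟩ := hnc
    exact absurd (Subgroup.mem_center_iff.1 (h ▸ Subgroup.mem_top b) a) hab

theorem le_centralizer {S : Sylow 2 T} {t : T} (hc : ∀ s ∈ (S : Subgroup T), s * t = t * s) :
    (S : Subgroup T) ≤ Subgroup.centralizer ({t} : Set T) := fun s hs =>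
  Subgroup.mem_centralizer_singleton_iff.2 (hc s hs)

/-- The odd core of the centraliser of `t`, as a subgroup of `T`. -/
def core (t : T) : Subgroup T :=
  (Cfsg.oddCore ↥(Subgroup.centralizer ({t} : Set T))).map
    (Subgroup.centralizer ({t} : Set T)).subtype

theorem core_facts (t : T) : Odd (Nat.card (core t)) ∧ core t ≤ Subgroup.centralizer ({t} : Set T) ∧
    ∀ c ∈ Subgroup.centralizer ({t} : Set T), ∀ y ∈ core t, c * y * c⁻¹ ∈ core t := by
  refine ⟨?_, Subgroup.map_subtype_le _, ?_⟩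
  · rw [core, Subgroup.card_map_of_injective (Subgroup.subtype_injective _)]
    exact Nat.coprime_two_right.1 (ComponentsCores.pPrimeCore_coprime 2)
  · rintro c hc _ ⟨y, hy, rfl⟩
    exact ⟨_, (inferInstance : (Cfsg.oddCore ↥(Subgroup.centralizer ({t} : Set T))).Normal).conj_mem
      y hy ⟨c, hc⟩, rfl⟩

theorem mk_base {S : Sylow 2 T} {t : T} (hot : orderOf t = 2) (hm : t ∈ (S : Subgroup T))
    (hc : ∀ s ∈ (S : Subgroup T), s * t = t * s)
    (hf : ∀ u v : T, orderOf u = 2 → orderOf v = 2 → IsConj u v) : Base S t (core t) :=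
  ⟨hot, hm, hc, (core_facts t).1, (core_facts t).2.1, (core_facts t).2.2, hf⟩

/-- A 2-element in a subgroup of odd order is trivial. -/
theorem eq_one_of_two_odd {G : Type*} [Group G] [Finite G] {K : Subgroup G}
    (hK : Odd (Nat.card K)) {P : Subgroup G} (hP : IsPGroup 2 P) {s : G} (hs : s ∈ P) (hsK : s ∈ K) :
    s = 1 := by
  obtain ⟨k, hk⟩ := hP ⟨s, hs⟩
  have hk' : s ^ 2 ^ k = 1 := by simpa using congrArg Subtype.val hk
  have h1 : orderOf s ∣ Nat.card K := by
    have := orderOf_dvd_natCard (⟨s, hsK⟩ : K)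
    rwa [Subgroup.orderOf_mk] at this
  exact orderOf_eq_one_iff.1 (Nat.eq_one_of_dvd_coprimes ((Nat.coprime_two_right.2 hK).pow_right k) h1
    (orderOf_dvd_of_pow_eq_one hk'))

/-- The dihedral case. -/
theorem dih_case {S : Sylow 2 T} {t : T} (hot : orderOf t = 2) (hm : t ∈ (S : Subgroup T))
    (hc : ∀ s ∈ (S : Subgroup T), s * t = t * s)
    (hf : ∀ u v : T, orderOf u = 2 → orderOf v = 2 → IsConj u v) {k : ℕ} (hk : 1 ≤ k)
    (e : (S : Subgroup T) ≃* DihedralGroup (2 ^ k)) : Dih S t (core t) := by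
  haveI : Fact (Nat.Prime 2) := ⟨Nat.prime_two⟩
  refine ⟨mk_base hot hm hc hf, ⟨k, hk, ⟨e⟩⟩, ?_⟩
  set C := Subgroup.centralizer ({t} : Set T)
  have hle : (S : Subgroup T) ≤ C := le_centralizer hc
  obtain ⟨N, hN, hNP⟩ := (S0071.result (S.subtype hle)).2 (fun Q hQ g hg hgo => by
    let R : Subgroup T := Q.map C.subtype ⊔ Subgroup.zpowers t
    have hQS : Q.map C.subtype ≤ (S : Subgroup T) := by
      rintro _ ⟨q, hq, rfl⟩
      have h := hQ hq
      rw [Sylow.coe_subtype, Subgroup.mem_subgroupOf] at h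
      exact h
    have hRS : R ≤ (S : Subgroup T) := sup_le hQS (Subgroup.zpowers_le.2 hm)
    have hgt : (g : T) * t * (g : T)⁻¹ = t := by
      rw [mul_inv_eq_iff_eq_mul]
      exact Subgroup.mem_centralizer_singleton_iff.1 g.2
    have hodd : Odd (orderOf (g : T)) := by
      rw [Subgroup.orderOf_coe]
      exact Nat.coprime_two_right.1 hgo
    have hinv : ∀ r ∈ R, (g : T) * r * (g : T)⁻¹ ∈ R := by
      suffices h : R ≤ R.comap (MulAut.conj (g : T)).toMonoidHom by
        intro r hr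
        exact h hr
      refine sup_le ?_ (Subgroup.zpowers_le.2 ?_)
      · rintro _ ⟨q, hq, rfl⟩
        exact Subgroup.mem_sup_left ⟨g * q * g⁻¹, (Subgroup.mem_normalizer_iff.1 hg q).1 hq, rfl⟩
      · show (g : T) * t * (g : T)⁻¹ ∈ R
        rw [hgt]
        exact Subgroup.mem_sup_right (Subgroup.mem_zpowers t)
    rw [Subgroup.mem_centralizer_iff]
    intro q hq
    have h := dihedral_rigid (S : Subgroup T) e R hRS
      (Subgroup.mem_sup_right (Subgroup.mem_zpowers t)) hot (g : T) hodd hinv hgt (q : T)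
      (Subgroup.mem_sup_left ⟨q, hq, rfl⟩)
    exact Subtype.ext (mul_inv_eq_iff_eq_mul.1 h).symm)
  intro c hcc
  obtain ⟨a, ha, b, hb, hab⟩ : ∃ a ∈ N, ∃ b ∈ (S.subtype hle : Subgroup C), a * b = ⟨c, hcc⟩ := by
    obtain ⟨⟨⟨a, ha⟩, ⟨b, hb⟩⟩, h⟩ := hNP.2 ⟨c, hcc⟩
    exact ⟨a, ha, b, hb, h⟩
  have hNodd : (Nat.card N).Coprime 2 := by
    rw [Nat.coprime_comm, Nat.Prime.coprime_iff_not_dvd Nat.prime_two]
    intro hdvd
    obtain ⟨u, hu⟩ := exists_prime_orderOf_dvd_card' 2 hdvd
    have h1 := (S.subtype hle).not_dvd_index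
    rw [hNP.index_eq_card] at h1
    exact h1 hdvd
  haveI := hN
  refine ⟨(a : T), ⟨a, ComponentsCores.le_pPrimeCore' hNodd ha, rfl⟩, (b : T), ?_, ?_⟩
  · rw [Sylow.coe_subtype, Subgroup.mem_subgroupOf] at hb
    exact hb
  · exact (congrArg Subtype.val hab).symm

/-- Transfer: an element of order four outside the cyclic subgroup of index two is conjugate in the
centraliser of `t` into it. -/
theorem exists_fusing (hs : IsSimpleGroup T) (hnc : ∃ a b : T, a * b ≠ b * a) {S : Sylow 2 T} {t : T}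
    (hot : orderOf t = 2) (hm : t ∈ (S : Subgroup T)) (hc : ∀ s ∈ (S : Subgroup T), s * t = t * s)
    {n : ℕ} {x y : T} (h : SD (S : Subgroup T) n x y) :
    ∃ g : T, g ∈ Subgroup.centralizer ({t} : Set T) ∧ g⁻¹ * (x * y) * g ∈ Subgroup.zpowers x := by
  classical
  haveI : Fact (Nat.Prime 2) := ⟨Nat.prime_two⟩
  have hz : t = x ^ 2 ^ (n - 1) := h.central_eq hm hot hc
  have huS : x * y ∈ (S : Subgroup T) := mul_mem h.xm h.ym
  have huu : (x * y) * (x * y) = t := by
    have h1 := h.sq 1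
    rw [pow_one, if_neg Nat.not_even_one] at h1
    rw [h1, hz]
  have htt : t * t = 1 := by rw [hz, h.z_facts.2]
  set E := Subgroup.zpowers (x ^ 2) with hE
  have hEx : E ≤ Subgroup.zpowers x := Subgroup.zpowers_le.2 (pow_mem (Subgroup.mem_zpowers x) 2)
  have hconjE : ∀ e ∈ E, y * e * y⁻¹ ∈ E := by
    rintro _ ⟨j, rfl⟩
    show y * (x ^ 2) ^ j * y⁻¹ ∈ E
    rw [← conj_zpow, ← conj_pow, h.yx, ← pow_mul, mul_comm, pow_mul]
    exact zpow_mem (pow_mem (Subgroup.mem_zpowers _) _) _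
  have hyy' : y⁻¹ = y := inv_eq_of_mul_eq_one_right h.yy
  let D : Subgroup (S : Subgroup T) :=
    { carrier := {s | (s : T) ∈ E ∨ (s : T) * y ∈ E}
      one_mem' := Or.inl (one_mem E)
      mul_mem' := by
        rintro ⟨a, ha⟩ ⟨b, hb⟩ (h1 | h1) (h2 | h2)
        · exact Or.inl (mul_mem h1 h2)
        · refine Or.inr ?_
          show a * b * y ∈ E
          rw [mul_assoc]; exact mul_mem h1 h2
        · refine Or.inr ?_
          show a * b * y ∈ E
          rw [show a * b * y = (a * y) * (y⁻¹ * b * y) by group]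
          refine mul_mem h1 ?_
          have h3 := hconjE b h2
          rwa [hyy'] at h3 ⊢
        · refine Or.inl ?_
          show a * b ∈ E
          rw [show a * b = (a * y) * (y⁻¹ * (b * y) * y⁻¹) by group, hyy']
          refine mul_mem h1 ?_
          have h3 := hconjE (b * y) h2
          rwa [hyy'] at h3
      inv_mem' := by
        rintro ⟨a, ha⟩ (h1 | h1)
        · exact Or.inl (inv_mem h1)
        · refine Or.inr ?_
          show a⁻¹ * y ∈ E
          rw [show a⁻¹ * y = y * (a * y)⁻¹ * y by group]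
          have h3 := hconjE _ (inv_mem h1)
          rwa [hyy'] at h3 }
  have hmemD : ∀ (s : T) (hs' : s ∈ (S : Subgroup T)),
      (⟨s, hs'⟩ : (S : Subgroup T)) ∈ D ↔ (s ∈ E ∨ s * y ∈ E) := fun _ _ => Iff.rfl
  have hxD : (⟨x, h.xm⟩ : (S : Subgroup T)) ∉ D := by
    rw [hmemD]
    rintro (h1 | h1)
    · obtain ⟨j, hj⟩ := mem_powers_iff_mem_zpowers.2 h1
      have h2 : x ^ (2 * j) = x ^ 1 := by rw [pow_one, pow_mul]; exact hj
      rw [pow_eq_pow_iff_modEq, h.ox, h.two_pow] at h2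
      have h3 := Nat.ModEq.of_mul_right _ h2
      unfold Nat.ModEq at h3
      omega
    · refine h.y_notMem ?_
      have h2 := mul_mem (inv_mem (Subgroup.mem_zpowers x)) (hEx h1)
      rwa [inv_mul_cancel_left] at h2
  have hpar : ∀ i : ℕ, Even i → x ^ i ∈ E := by
    rintro i ⟨j, rfl⟩
    rw [← two_mul, pow_mul]
    exact pow_mem (Subgroup.mem_zpowers _) _
  have hDcase : ∀ (s : T) (hs' : s ∈ (S : Subgroup T)),
      (⟨s, hs'⟩ : (S : Subgroup T)) ∈ D ∨ (⟨s, hs'⟩ : (S : Subgroup T)) * ⟨x, h.xm⟩ ∈ D := by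
    intro s hs'
    obtain ⟨i, rfl | rfl⟩ := h.cases hs'
    · rcases Nat.even_or_odd i with hi | hi
      · exact Or.inl (Or.inl (hpar i hi))
      · refine Or.inr (Or.inl ?_)
        show x ^ i * x ∈ E
        rw [← pow_succ]
        exact hpar _ hi.add_one
    · rcases Nat.even_or_odd i with hi | hi
      · refine Or.inl (Or.inr ?_)
        show x ^ i * y * y ∈ E
        rw [mul_assoc, h.yy, mul_one]
        exact hpar i hi
      · refine Or.inr (Or.inr ?_)
        show x ^ i * y * x * y ∈ E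
        rw [show x ^ i * y * x * y = x ^ i * (y * x * y⁻¹) by rw [hyy']; group, h.yx, ← pow_add]
        refine hpar _ ?_
        obtain ⟨l, rfl⟩ := hi
        have h4 := h.four_le
        have h5 : 2 ^ (n - 1) = 2 * 2 ^ (n - 2) := by
          rw [← pow_succ']; congr 1; have := h.n3; omega
        exact ⟨l + 2 ^ (n - 2), by omega⟩
  have hidx : D.index = 2 := by
    rw [Subgroup.index_eq_two_iff]
    refine ⟨⟨x, h.xm⟩, fun s => ?_⟩
    rcases hDcase s s.2 with h1 | h1
    · refine Or.inr ⟨h1, fun h2 => hxD ?_⟩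
      have h3 := mul_mem (inv_mem h1) h2
      rwa [inv_mul_cancel_left] at h3
    · refine Or.inl ⟨h1, fun h2 => hxD ?_⟩
      have h3 := mul_mem (inv_mem h2) h1
      rwa [inv_mul_cancel_left] at h3
  haveI hDn : D.Normal := Subgroup.normal_of_index_eq_two hidx
  have hsqD : ∀ (s : T) (hs' : s ∈ (S : Subgroup T)), s * s = 1 → (⟨s, hs'⟩ : (S : Subgroup T)) ∈ D := by
    intro s hs' hss
    obtain ⟨i, rfl | rfl⟩ := h.cases hs'
    · refine Or.inl (hpar i ?_)
      rw [← pow_add] at hss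
      have h1 := orderOf_dvd_of_pow_eq_one hss
      rw [h.ox] at h1
      have h4 : 4 ∣ i + i := ((show 4 = 2 ^ 2 by rfl) ▸ pow_dvd_pow 2 (le_trans (by norm_num) h.n3)).trans h1
      rw [Nat.even_iff]; omega
    · refine Or.inr ?_
      show x ^ i * y * y ∈ E
      rw [mul_assoc, h.yy, mul_one]
      refine hpar i ?_
      by_contra hi
      rw [h.sq, if_neg hi] at hss
      exact h.z_facts.1 hss
  have huD : (⟨x * y, huS⟩ : (S : Subgroup T)) ∉ D := by
    rw [hmemD]
    rintro (h1 | h1)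
    · exact h.y_notMem (by
        have h2 := mul_mem (inv_mem (Subgroup.mem_zpowers x)) (hEx h1)
        rwa [inv_mul_cancel_left] at h2)
    · rw [mul_assoc, h.yy, mul_one] at h1
      exact hxD (Or.inl h1)
  by_contra hno
  push Not at hno
  haveI : IsCyclic ((S : Subgroup T) ⧸ D) := isCyclic_of_prime_card (p := 2) hidx
  letI : CommGroup ((S : Subgroup T) ⧸ D) := IsCyclic.commGroup
  have hA : IsPGroup 2 ((S : Subgroup T) ⧸ D) := S.isPGroup'.to_quotient D
  let ϕ : (S : Subgroup T) →* (S : Subgroup T) ⧸ D := QuotientGroup.mk' D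
  have hne : MonoidHom.transfer ϕ (x * y) ≠ 1 := by
    refine TransferThompson.transfer_ne_one S hA ϕ huS
      (fun h1 => huD ((QuotientGroup.eq_one_iff _).1 h1)) ?_ ?_
    · intro g k hk h1
      refine (QuotientGroup.eq_one_iff _).2 (hsqD _ h1 ?_)
      obtain ⟨j, rfl⟩ := hk
      rw [show g⁻¹ * (x * y) ^ (2 * j) * g * (g⁻¹ * (x * y) ^ (2 * j) * g) =
        g⁻¹ * (((x * y) ^ (2 * j)) * (x * y) ^ (2 * j)) * g by group, pow_mul, pow_two, huu,
        ← (Commute.refl t).mul_pow, htt, one_pow, mul_one, inv_mul_cancel]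
    · intro g h1
      refine (QuotientGroup.eq.2 ?_).symm
      rw [Subgroup.mul_mem_iff_of_index_two hidx, inv_mem_iff]
      refine iff_of_false huD fun h2 => ?_
      have hsq' : g⁻¹ * (x * y) * g * (g⁻¹ * (x * y) * g) = g⁻¹ * t * g := by rw [← huu]; group
      obtain ⟨i, hi⟩ : ∃ i : ℕ, g⁻¹ * (x * y) * g = x ^ i := by
        obtain ⟨i, hi | hi⟩ := h.cases h1
        · exact ⟨i, hi⟩
        exfalso
        rcases Nat.even_or_odd i with he | ho
        · rw [hi, h.sq, if_pos he] at hsq'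
          have : t = 1 := by
            have h5 := congrArg (fun z => g * z * g⁻¹) hsq'
            simpa [mul_assoc] using h5.symm
          rw [this, orderOf_one] at hot
          omega
        · rcases (hmemD _ h1).1 h2 with h6 | h6
          · rw [hi] at h6
            refine h.y_notMem ?_
            have h7 := mul_mem (inv_mem (pow_mem (Subgroup.mem_zpowers x) i)) (hEx h6)
            rwa [inv_mul_cancel_left] at h7
          · rw [hi, mul_assoc, h.yy, mul_one] at h6
            obtain ⟨j, hj⟩ := mem_powers_iff_mem_zpowers.2 h6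
            have h7 : x ^ (2 * j) = x ^ i := by rw [pow_mul]; exact hj
            rw [pow_eq_pow_iff_modEq, h.ox, h.two_pow] at h7
            have h8 := Nat.ModEq.of_mul_right _ h7
            obtain ⟨l, rfl⟩ := ho
            unfold Nat.ModEq at h8
            omega
      refine hno g ?_ (by rw [hi]; exact pow_mem (Subgroup.mem_zpowers x) i)
      rw [hi] at hsq'
      have hinv2 : g⁻¹ * t * g * (g⁻¹ * t * g) = 1 := by
        rw [show g⁻¹ * t * g * (g⁻¹ * t * g) = g⁻¹ * (t * t) * g by group, htt, mul_one, inv_mul_cancel]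
      rw [← hsq', ← pow_add, ← pow_add] at hinv2
      have hne1 : g⁻¹ * t * g ≠ 1 := fun h5 => by
        have : t = 1 := by
          have h6 := congrArg (fun z => g * z * g⁻¹) h5
          simpa [mul_assoc] using h6
        rw [this, orderOf_one] at hot
        omega
      rw [← hsq', ← pow_add] at hne1
      have hgt : g⁻¹ * t * g = t := by
        have h7 := orderOf_dvd_of_pow_eq_one hinv2
        rw [h.ox, h.two_pow] at h7
        obtain ⟨j, hj⟩ : 2 ^ (n - 1) ∣ i + i :=
          Nat.dvd_of_mul_dvd_mul_left two_pos (by rwa [← two_mul] at h7)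
        rw [← hsq', ← pow_add, hj, pow_mul, ← hz]
        rcases Nat.even_or_odd j with ⟨l, rfl⟩ | ⟨l, rfl⟩
        · exfalso
          apply hne1
          rw [hj, pow_mul, ← hz, pow_add, ← (Commute.refl t).mul_pow, htt, one_pow]
        · rw [pow_succ, two_mul, pow_add, ← (Commute.refl t).mul_pow, htt, one_pow, one_mul]
      rw [Subgroup.mem_centralizer_singleton_iff]
      calc g * t = g * (g⁻¹ * t * g) := by rw [hgt]
        _ = t * g := by group
  have hker : (MonoidHom.transfer ϕ).ker = ⊥ := by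
    haveI := hs
    rcases (inferInstance : (MonoidHom.transfer ϕ).ker.Normal).eq_bot_or_eq_top with h1 | h1
    · exact h1
    · exact absurd (MonoidHom.mem_ker.1 (h1 ▸ Subgroup.mem_top (x * y))) hne
  obtain ⟨a, b, hab⟩ := hnc
  exact hab ((MonoidHom.ker_eq_bot_iff _).1 hker (by rw [map_mul, map_mul, mul_comm]))

/-- The centraliser of `t` is not the product of its odd core and the Sylow subgroup. -/
theorem not_split {S : Sylow 2 T} {t : T} {n : ℕ} {x y : T} (h : SD (S : Subgroup T) n x y) {g : T}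
    (hg : g ∈ Subgroup.centralizer ({t} : Set T)) (hgx : g⁻¹ * (x * y) * g ∈ Subgroup.zpowers x)
    (hle : (S : Subgroup T) ≤ Subgroup.centralizer ({t} : Set T)) :
    ∃ c : ↥(Subgroup.centralizer ({t} : Set T)), ∀ s ∈ (S : Subgroup T).subgroupOf
      (Subgroup.centralizer ({t} : Set T)), c * s⁻¹ ∉ Cfsg.oddCore _ := by
  set C := Subgroup.centralizer ({t} : Set T) with hC
  refine ⟨⟨g, hg⟩, fun s hs ho => ?_⟩
  obtain ⟨o, ho'⟩ : ∃ o : ↥C, o = ⟨g, hg⟩ * s⁻¹ := ⟨_, rfl⟩
  rw [← ho'] at ho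
  have hxyS : (⟨x * y, hle (mul_mem h.xm h.ym)⟩ : ↥C) ∈ (S : Subgroup T).subgroupOf C :=
    mul_mem h.xm h.ym
  set u : ↥C := ⟨x * y, hle (mul_mem h.xm h.ym)⟩
  have hv : (⟨g, hg⟩ : ↥C)⁻¹ * u * ⟨g, hg⟩ ∈ (S : Subgroup T).subgroupOf C :=
    (Subgroup.zpowers_le.2 h.xm) hgx
  have h1 : o⁻¹ * u * o = s * ((⟨g, hg⟩ : ↥C)⁻¹ * u * ⟨g, hg⟩) * s⁻¹ := by rw [ho']; group
  have h2 : o⁻¹ * u * o * u⁻¹ ∈ (S : Subgroup T).subgroupOf C := by
    rw [h1]; exact mul_mem (mul_mem (mul_mem hs hv) (inv_mem hs)) (inv_mem hxyS)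
  have h3 : o⁻¹ * u * o * u⁻¹ ∈ Cfsg.oddCore ↥C := by
    rw [show o⁻¹ * u * o * u⁻¹ = o⁻¹ * (u * o * u⁻¹) by group]
    exact mul_mem (inv_mem ho) ((inferInstance : (Cfsg.oddCore ↥C).Normal).conj_mem o ho u)
  haveI : Fact (Nat.Prime 2) := ⟨Nat.prime_two⟩
  have h4 := eq_one_of_two_odd (Nat.coprime_two_right.1 (ComponentsCores.pPrimeCore_coprime 2))
    (S.isPGroup'.comap_of_injective C.subtype C.subtype_injective) h2 h3
  rw [h1, mul_inv_eq_one] at h4
  have h5 : (s : T) * (g⁻¹ * (x * y) * g) * (s : T)⁻¹ = x * y := congrArg Subtype.val h4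
  obtain ⟨j, hj⟩ := mem_powers_iff_mem_zpowers.2 hgx
  change x ^ j = _ at hj
  rw [← hj] at h5
  refine h.y_notMem ?_
  have h6 : (s : T) * x ^ j * (s : T)⁻¹ ∈ Subgroup.zpowers x := by
    obtain ⟨i, hi | hi⟩ := h.cases (s := (s : T)) hs
    · rw [hi]; exact mul_mem (mul_mem (pow_mem (Subgroup.mem_zpowers x) _)
        (pow_mem (Subgroup.mem_zpowers x) _)) (inv_mem (pow_mem (Subgroup.mem_zpowers x) _))
    · rw [hi, show x ^ i * y * x ^ j * (x ^ i * y)⁻¹ = x ^ i * (y * x ^ j) * y⁻¹ * (x ^ i)⁻¹ by group,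
        h.y_pow, ← mul_assoc, mul_inv_cancel_right]
      exact mul_mem (mul_mem (pow_mem (Subgroup.mem_zpowers x) _) (pow_mem (Subgroup.mem_zpowers x) _))
        (inv_mem (pow_mem (Subgroup.mem_zpowers x) _))
  rw [h5] at h6
  have h7 := mul_mem (inv_mem (Subgroup.mem_zpowers x)) h6
  rwa [inv_mul_cancel_left] at h7

theorem coord_invol : ∀ z : BinaryOctahedral.Coord,
    BinaryOctahedral.mulC (QuaternionGroup.a 2) z z = (1, 0, 0) →
      z = (1, 0, 0) ∨ z = (QuaternionGroup.a 2, 0, 0) := by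
  decide +kernel

/-- The semidihedral case with solvable centraliser. -/
theorem semi_solvable {S : Sylow 2 T} {t : T} (hot : orderOf t = 2) (hm : t ∈ (S : Subgroup T))
    (hc : ∀ s ∈ (S : Subgroup T), s * t = t * s) {n : ℕ} {x y : T}
    (h : SD (S : Subgroup T) n x y)
    (hsol : Group.IsSolvable ↥(Subgroup.centralizer ({t} : Set T)))
    (hns : ∃ c : ↥(Subgroup.centralizer ({t} : Set T)), ∀ s ∈ (S : Subgroup T).subgroupOf
      (Subgroup.centralizer ({t} : Set T)), c * s⁻¹ ∉ Cfsg.oddCore _) :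
    ∃ f : ↥(Subgroup.centralizer ({t} : Set T)) →* GL (Fin 2) (ZMod 3), Function.Surjective f ∧
      f.ker = (core t).subgroupOf (Subgroup.centralizer ({t} : Set T)) := by
  classical
  haveI : Fact (Nat.Prime 2) := ⟨Nat.prime_two⟩
  set C := Subgroup.centralizer ({t} : Set T)
  have hle : (S : Subgroup T) ≤ C := le_centralizer hc
  set X := ↥C ⧸ Cfsg.oddCore ↥C
  set π : ↥C →* X := QuotientGroup.mk' (Cfsg.oddCore ↥C)
  have hπ : Function.Surjective π := QuotientGroup.mk'_surjective _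
  haveI := hsol
  haveI : Group.IsSolvable X := Group.isSolvable_of_surjective hπ
  have hOX : Cfsg.oddCore X = ⊥ := HallCore.pPrimeCore_quotient_self 2 ↥C
  set A := Cfsg.pCore 2 X with hAdef
  have hCA : Subgroup.centralizer (A : Set X) ≤ A := by
    have h1 := ComponentsFitting.centralizer_fitting_le_of_solvable (G := X)
    rw [CharTwoLocal.fitting_eq_pCore_of_oddCore_eq_bot hOX] at h1
    exact h1
  have hA2 : IsPGroup 2 A := HallCore.isPGroup_pCore 2 X
  haveI hAn : A.Normal := HallCore.pCore_normal 2 X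
  let P : Sylow 2 X := (S.subtype hle).mapSurjective hπ
  have hP : (P : Subgroup X) = ((S : Subgroup T).subgroupOf C).map π := by
    rw [Sylow.coe_mapSurjective, Sylow.coe_subtype]
  have hinj : ∀ s ∈ (S : Subgroup T).subgroupOf C, π s = 1 → s = 1 := fun s hs h1 =>
    eq_one_of_two_odd (Nat.coprime_two_right.1 (ComponentsCores.pPrimeCore_coprime 2))
      (S.isPGroup'.comap_of_injective C.subtype C.subtype_injective) hs
      ((QuotientGroup.eq_one_iff s).1 h1)
  have hsd : SD (P : Subgroup X) n (π ⟨x, hle h.xm⟩) (π ⟨y, hle h.ym⟩) := by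
    rw [hP]; exact (SD.sub h hle).map π hinj
  set tC : ↥C := ⟨t, hle hm⟩
  have htcen : ∀ z : X, z * π tC = π tC * z := fun z => by
    obtain ⟨c, rfl⟩ := hπ z
    rw [← map_mul, ← map_mul]
    exact congrArg π (Subtype.ext (Subgroup.mem_centralizer_singleton_iff.1 c.2))
  have htP : π tC ∈ (P : Subgroup X) := by rw [hP]; exact ⟨tC, hm, rfl⟩
  have hot' : orderOf (π tC) = 2 := by
    refine orderOf_eq_prime ?_ fun h1 => ?_
    · rw [← map_pow, show tC ^ 2 = 1 from Subtype.ext (by simp [tC, ← hot, pow_orderOf_eq_one]), map_one]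
    · have := congrArg Subtype.val (hinj tC hm h1)
      change t = 1 at this
      rw [this, orderOf_one] at hot
      omega
  have htA : π tC ∈ A := by
    haveI : (Subgroup.zpowers (π tC)).Normal := ⟨fun a ha z => by
      obtain ⟨j, rfl⟩ := ha
      refine ⟨j, ?_⟩
      show π tC ^ j = z * π tC ^ j * z⁻¹
      rw [((show Commute z (π tC) from htcen z).zpow_right j).eq, mul_inv_cancel_right]⟩
    exact (le_sSup (show Subgroup.zpowers (π tC) ∈
      {N : Subgroup X | N.Normal ∧ IsPGroup 2 N} from ⟨inferInstance,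
        IsPGroup.of_card (n := 1) (by rw [Nat.card_zpowers, hot', pow_one])⟩) :
      Subgroup.zpowers (π tC) ≤ A) (Subgroup.mem_zpowers _)
  have hAP : A ≤ (P : Subgroup X) := HallCore.pCore_le_sylow P
  have hnot2 : ¬ IsPGroup 2 X := by
    intro h2
    obtain ⟨c, hcc⟩ := hns
    have htop : (P : Subgroup X) = ⊤ :=
      (P.3 (h2.to_subgroup ⊤) le_top).symm
    have h1 : π c ∈ (P : Subgroup X) := htop ▸ Subgroup.mem_top _
    rw [hP] at h1
    obtain ⟨s, hs, hsc⟩ := h1
    refine hcc s hs ((QuotientGroup.eq_one_iff _).1 ?_)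
    show π (c * s⁻¹) = 1
    rw [map_mul, map_inv, hsc, mul_inv_cancel]
  obtain ⟨g, hgodd, hgne⟩ : ∃ g : X, Odd (orderOf g) ∧ ∃ r ∈ A, g * r * g⁻¹ ≠ r := by
    by_contra hno
    push Not at hno
    refine hnot2 (IsPGroup.of_card (n := (Nat.card X).primeFactorsList.length) ?_)
    refine Nat.eq_prime_pow_of_unique_prime_dvd Nat.card_pos.ne' fun {p} hp hdvd => ?_
    by_contra hp2
    haveI : Fact p.Prime := ⟨hp⟩
    obtain ⟨g, hg⟩ := exists_prime_orderOf_dvd_card' p hdvd
    have hgA : g ∈ A := hCA (by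
      rw [Subgroup.mem_centralizer_iff]
      intro a ha
      exact (mul_inv_eq_iff_eq_mul.1 (hno g (hg ▸ hp.odd_of_ne_two hp2) a ha)).symm)
    obtain ⟨k, hk⟩ := hA2 ⟨g, hgA⟩
    have hd := orderOf_dvd_of_pow_eq_one (show g ^ 2 ^ k = 1 by simpa using congrArg Subtype.val hk)
    rw [hg] at hd
    exact hp2 ((Nat.prime_dvd_prime_iff_eq hp Nat.prime_two).1 (hp.dvd_of_dvd_pow hd))
  obtain ⟨hyA, ⟨eA⟩⟩ := hsd.rigid A hAP htA hot' (fun s _ => htcen s) g hgodd
    (fun r hr => hAn.conj_mem r hr g) (by rw [htcen, mul_inv_cancel_right]) hgne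
  have hnorm : ¬ ∃ Q : Sylow 2 X, (Q : Subgroup X).Normal := by
    rintro ⟨Q, hQ⟩
    haveI := hQ
    haveI := Sylow.unique_of_normal Q hQ
    have hPA : (P : Subgroup X) ≤ A := by
      rw [Subsingleton.elim P Q]
      exact le_sSup ⟨hQ, Q.isPGroup'⟩
    exact hyA (hPA hsd.ym)
  obtain ⟨f, c, u, w, hF, hbij⟩ := BinaryOctahedral.exists_frame A eA hCA hnorm
  rcases hF.hw with rfl | rfl
  · have hG : BinaryOctahedral.Frame (MonoidHom.mk' S3304.glQ S3304.glQ_mul) S3304.glC S3304.glU 1 :=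
      ⟨S3304.gl_facts.1, S3304.gl_facts.2.1, S3304.gl_facts.2.2.1, S3304.gl_facts.2.2.2.1,
        S3304.gl_facts.2.2.2.2, Or.inl rfl⟩
    obtain ⟨Φ, hΦ⟩ := BinaryOctahedral.exists_hom hF hG hbij
    have hinjΦ : Function.Injective Φ := fun a b h1 => by
      obtain ⟨a, rfl⟩ := hbij.2 a
      obtain ⟨b, rfl⟩ := hbij.2 b
      rw [hΦ, hΦ] at h1
      rw [S3304.gl_bij.1 h1]
    refine ⟨Φ.comp π, fun z => ?_, ?_⟩
    · obtain ⟨a, rfl⟩ := S3304.gl_bij.2 z
      obtain ⟨b, hb⟩ := hπ (BinaryOctahedral.toH f c u a)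
      exact ⟨b, by rw [MonoidHom.comp_apply, hb, hΦ]⟩
    · rw [MonoidHom.ker_comp_of_injective _ _ hinjΦ, QuotientGroup.ker_mk', core,
        Subgroup.subgroupOf, Subgroup.comap_map_eq_self_of_injective C.subtype_injective]
  · exfalso
    have hinvol : ∀ v : X, v * v = 1 → v ≠ 1 →
        v = BinaryOctahedral.toH f c u (QuaternionGroup.a 2, 0, 0) := by
      intro v hv hv1
      obtain ⟨a, rfl⟩ := hbij.2 v
      have hone : BinaryOctahedral.toH f c u (1, 0, 0) = 1 := by simp [BinaryOctahedral.toH]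
      rw [← BinaryOctahedral.toH_mul hF, ← hone] at hv
      rcases coord_invol a (hbij.1 hv) with rfl | rfl
      · exact absurd hone hv1
      · rfl
    have h1 := pow_orderOf_eq_one (π tC)
    rw [hot', pow_two] at h1
    have h2 := hinvol _ h1 (fun e => by rw [e, orderOf_one] at hot'; omega)
    have h3 := hinvol _ hsd.yy (fun e => hsd.y_notMem (e ▸ one_mem _))
    refine hsd.y_notMem ?_
    rw [h3, ← h2, hsd.central_eq htP hot' fun s _ => htcen s]
    exact pow_mem (Subgroup.mem_zpowers _) _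

end Cfsg.Agent.CycSyl43TypesCore
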