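import Cfsg.Agent.Lib.CyclicSetup42
import Cfsg.Agent.Lib.BrauerBlocksPerm
import Cfsg.Agent.S4716

/-!
# Cyclic defect groups: the action of `N` on the block of `C(Z)` and the multiplicity vectors

The members of the block `b` of `C(Z)` agree on regular elements and vanish at the singular
elements not generating `Z`; `N` fixes one of them and moves the others freely, and the differences
of multiplicities of restricted characters have Gram matrix `e + δ`.
-/

set_option autoImplicit false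
set_option linter.unusedSectionVars false

namespace Cfsg.Agent.CyclicAction42

open Cfsg BlockTheoryLocalRing BlockTheoryCentre BlockTheoryIdem BlockContribSection
  BlockContribBounds BrauerPairs81Base BrauerPairs81Pairs BrauerPairs81Conj BrauerPairs81Local
  BrauerPairs81Fusion BlockCyclicRank81 CyclicSetup42
open scoped ComplexConjugate

attribute [local instance] Classical.propDecidable

/-- A nonzero value at an element forces its `p`-part into the defect group up to conjugation. -/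
theorem exists_conj_of_apply_ne {p : ℕ} [Fact p.Prime] {M : Ideal AlgInt} {G : Type*} [Group G]
    [Fintype G] {B : Set (IrrCharacter G)} {P : Subgroup G} {c : Set (IrrCharacter (Cen P))}
    (hM : IsPModular p M) (hmax : IsMaximalBrauerPair p M B P c) {χ : IrrCharacter G} (hχ : χ ∈ B)
    {g u : G} (hu : IsPPart p g u) (hne : (χ : G → ℂ) g ≠ 0) : ∃ x : G, x * u * x⁻¹ ∈ P := by
  obtain ⟨y, rfl, hc, ⟨k, hk⟩, hy⟩ := hu
  have hyH : y ∈ Cen (Subgroup.zpowers u) := (centralizer_zpowers u y).2 hc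
  have h := apply_eq_sum_part (centralizer_zpowers u) hM ⟨k, hk⟩ hmax.1.2.1 χ
    (s := ⟨y, hyH⟩) (by rwa [Subgroup.orderOf_mk])
  rw [if_pos hχ] at h
  obtain ⟨b, hb, -⟩ := Finset.exists_ne_zero_of_sum_ne_zero (h ▸ hne)
  have hP : IsPGroup p (Subgroup.zpowers u) :=
    IsPGroup.of_card (n := k) (by rw [Nat.card_zpowers, hk])
  obtain ⟨x, hx⟩ := BrauerPairs81Max.exists_conj_subpairLE hM hmax
    (BrauerPairs81Induced.isBrauerPairOf_of_induced hM hP (Finset.mem_filter.1 hb).2)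
  exact ⟨x, subgroup_le_of_subpairLE hx
    (Subgroup.mem_map_of_mem (MulAut.conj x).toMonoidHom (Subgroup.mem_zpowers u))⟩

/-- A subgroup of order `p` of a cyclic group lies in the `p`-part. -/
theorem mem_zpowers_pPart {p : ℕ} {G : Type*} [Group G] [Finite G] (hp : p.Prime) {z g u : G}
    (hzo : orderOf z = p) (hz : z ∈ Subgroup.zpowers g) (hu : IsPPart p g u) :
    z ∈ Subgroup.zpowers u := by
  obtain ⟨y, rfl, hc, ⟨k, hk⟩, hy⟩ := hu
  obtain ⟨n, rfl⟩ := Subgroup.mem_zpowers_iff.1 hz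
  rw [hc.mul_zpow] at hzo ⊢
  suffices y ^ n = 1 by rw [this, mul_one]; exact zpow_mem (Subgroup.mem_zpowers u) n
  have h1 : orderOf (y ^ n) ∣ orderOf y :=
    orderOf_dvd_of_mem_zpowers (zpow_mem (Subgroup.mem_zpowers y) n)
  have hcn : Commute (u ^ n) (y ^ n) := hc.zpow_zpow n n
  have h2 : orderOf (y ^ n) ∣ p ^ (k + 1) := by
    refine orderOf_dvd_of_pow_eq_one ?_
    have e1 : (u ^ n * y ^ n) ^ p ^ (k + 1) = 1 := by
      rw [pow_succ', pow_mul]
      nth_rw 1 [← hzo]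
      rw [pow_orderOf_eq_one, one_pow]
    have e2 : (u ^ n) ^ p ^ (k + 1) = 1 := by
      rw [← zpow_natCast, ← zpow_mul, mul_comm, zpow_mul, zpow_natCast, pow_succ, pow_mul, ← hk,
        pow_orderOf_eq_one, one_pow, one_zpow]
    rw [hcn.mul_pow, e2, one_mul] at e1
    exact e1
  exact orderOf_eq_one_iff.1 (Nat.eq_one_of_dvd_coprimes
    ((hp.coprime_iff_not_dvd.2 hy).pow_left _) h2 h1)

variable {p : ℕ} [Fact p.Prime] {M : Ideal AlgInt} {G : Type*} [Group G] [Fintype G]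
  {B : Set (IrrCharacter G)} {P : Subgroup G} {e : ℕ} (L : Loc p M B P e)

theorem mem_H_of_commute {g x : G} (hz : L.z ∈ Subgroup.zpowers g) (hc : Commute x g) :
    x ∈ L.H := by
  refine (centralizer_zpowers L.z x).2 ?_
  obtain ⟨n, hn⟩ := Subgroup.mem_zpowers_iff.1 hz
  exact hn ▸ (hc.zpow_right n).symm

theorem mem_normalizer_of_zpowers {g x : G} (h₁ : L.z ∈ Subgroup.zpowers g)
    (h₂ : L.z ∈ Subgroup.zpowers (x * g * x⁻¹)) : x ∈ Subgroup.normalizer (L.Z : Set G) := by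
  have hcj : cjS x L.Z = L.Z := by
    refine PGroupsCyclic.eq_of_card_eq_of_isCyclic
      (Subgroup.isCyclic_zpowers (x * g * x⁻¹)) ?_ (Subgroup.zpowers_le.2 h₂) (card_cjS x L.Z)
    refine (cjS_mono (Subgroup.zpowers_le.2 h₁)).trans ?_
    rw [cjS, MonoidHom.map_zpowers]
    exact le_rfl
  refine Subgroup.mem_normalizer_iff.mpr fun u => ?_
  conv_rhs => rw [← hcj, mem_cjS]
  simp [mul_assoc]

theorem regular_eq (hM : IsPModular p M) {ψ φ : IrrCharacter L.H} (hψ : ψ ∈ L.b) (hφ : φ ∈ L.b)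
    {h : L.H} (hh : ¬ p ∣ orderOf h) : (ψ : L.H → ℂ) h = (φ : L.H → ℂ) h := by
  obtain ⟨F, d, -, hF, hsum⟩ := S4675.main hM (L.hb hM) (L.rank_card hM).1
  rw [finsum_eq_members] at hsum
  have hd0 : ∀ ξ ∈ members L.b, 1 ≤ d ξ ^ 2 := fun ξ hξ =>
    Nat.one_le_pow _ _ (Nat.pos_of_ne_zero fun h0 =>
      irr_one_ne_zero ξ (by rw [hF ξ (mem_members.1 hξ) 1 (by simp [IsPRegular, hM.1.ne_one]), h0]; simp))
  have hcard : p ^ blockDefect p L.b = (members L.b).card := by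
    rw [← card_members, (L.rank_card hM).2,
      card_defectGroup hM L.hB (BrauerPairs81Max.isDefectGroup_of_maximal hM L.hmax),
      BlockAbelian81.defect_cen hM L.hmax L.hab L.hZP L.hle]
  have h1 : ∀ ξ ∈ members L.b, d ξ ^ 2 = 1 := fun ξ hξ =>
    ((Finset.sum_eq_sum_iff_of_le hd0).1
      ((Finset.card_eq_sum_ones _).symm.trans (hcard.symm.trans hsum.symm)) ξ hξ).symm
  have h2 : ∀ ξ ∈ L.b, d ξ = 1 := fun ξ hξ => by simpa using h1 ξ (mem_members.2 hξ)
  rw [hF ψ hψ h hh, hF φ hφ h hh, h2 ψ hψ, h2 φ hφ]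

theorem vanish (hM : IsPModular p M) {ψ : IrrCharacter L.H} (hψ : ψ ∈ L.b) {h : L.H}
    (hs : p ∣ orderOf h) (hz : L.z ∉ Subgroup.zpowers (h : G)) : (ψ : L.H → ℂ) h = 0 := by
  by_contra hne
  obtain ⟨c₀, hc₀, -⟩ := L.exists_local hM
  obtain ⟨u, y, huy, hc, hu, hy⟩ := BrauerBlocksPPart.exists_isPPart hM.1 h
  obtain ⟨x, hx⟩ := exists_conj_of_apply_ne hM hc₀ hψ ⟨y, huy, hc, hu, hy⟩ hne
  have hu1 : u ≠ 1 := by
    rintro rfl
    rw [one_mul] at huy
    exact hy (huy ▸ hs)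
  have hxu : ((x * u * x⁻¹ : L.H) : G) ≠ 1 := fun h1 =>
    hu1 (conj_eq_one_iff.1 (Subtype.ext h1 : x * u * x⁻¹ = 1))
  obtain ⟨n, hn⟩ := Subgroup.mem_zpowers_iff.1
    (L.Z_le_zpowers (Subgroup.mem_subgroupOf.1 hx) hxu (Subgroup.mem_zpowers L.z))
  refine hz (Subgroup.zpowers_le.2 (?_ : (u : G) ∈ Subgroup.zpowers (h : G)) ?_)
  · obtain ⟨k, hk⟩ := hu
    obtain ⟨m, hm1, hm0⟩ := Nat.chineseRemainder
      ((hM.1.coprime_iff_not_dvd.2 hy).pow_left k) 1 0
    have e1 : (u : G) = ((h ^ m : L.H) : G) := congrArg Subtype.val <| by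
      rw [← huy, hc.mul_pow, orderOf_dvd_iff_pow_eq_one.1 (Nat.modEq_zero_iff_dvd.1 hm0), mul_one]
      conv_lhs => rw [← pow_one u]
      exact (pow_eq_pow_iff_modEq.2 (hk ▸ hm1)).symm
    rw [e1, Subgroup.coe_pow]
    exact pow_mem (Subgroup.mem_zpowers _) m
  · refine Subgroup.mem_zpowers_iff.2 ⟨n, ?_⟩
    have hxz : (x : G) * L.z = L.z * x := ((centralizer_zpowers L.z x).1 x.2).eq.symm
    simp only [Subgroup.coe_mul, Subgroup.coe_inv] at hn
    rw [show (x : G) * (u : G) * (x : G)⁻¹ = MulAut.conj (x : G) (u : G) from rfl, ← map_zpow,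
      MulAut.conj_apply, mul_inv_eq_iff_eq_mul, ← hxz] at hn
    exact mul_left_cancel hn

/-- Conjugation by the normaliser of `Z` on `C(Z)`. -/
noncomputable def conjH (g : Subgroup.normalizer (L.Z : Set G)) : L.H ≃* L.H :=
  conjEquiv (g : G) L.H L.H (conj_mem_iff_of_normalizer (normalizer_le_normalizer_cen g.2))

theorem conjH_coe (g : Subgroup.normalizer (L.Z : Set G)) (h : L.H) :
    ((conjH L g h : L.H) : G) = (g : G) * h * (g : G)⁻¹ := rfl

/-- The twist of a character of `C(Z)`. -/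
noncomputable def tw (g : Subgroup.normalizer (L.Z : Set G)) :
    IrrCharacter L.H ≃ IrrCharacter L.H :=
  pushChar (conjH L g).symm

theorem tw_apply (g : Subgroup.normalizer (L.Z : Set G)) (ψ : IrrCharacter L.H) (h : L.H) :
    (tw L g ψ : L.H → ℂ) h = (ψ : L.H → ℂ) (conjH L g h) := rfl

theorem tw_mul (g g' : Subgroup.normalizer (L.Z : Set G)) (ψ : IrrCharacter L.H) :
    tw L (g * g') ψ = tw L g' (tw L g ψ) := by
  refine Subtype.ext (funext fun h => ?_)
  rw [tw_apply, tw_apply, tw_apply]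
  refine congrArg (ψ : L.H → ℂ) (Subtype.ext ?_)
  simp only [conjH_coe, Subgroup.coe_mul, mul_inv_rev, mul_assoc]

theorem tw_of_mem_H (g : Subgroup.normalizer (L.Z : Set G)) (hg : (g : G) ∈ L.H)
    (ψ : IrrCharacter L.H) : tw L g ψ = ψ := by
  refine Subtype.ext (funext fun h => ?_)
  rw [tw_apply, show conjH L g h = ⟨g, hg⟩ * h * ⟨g, hg⟩⁻¹ from Subtype.ext (conjH_coe L g h)]
  exact irr_classFun ψ h ⟨g, hg⟩

theorem tw_mem (g : Subgroup.normalizer (L.Z : Set G)) (hg : (g : G) ∈ L.N) {ψ : IrrCharacter L.H}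
    (hψ : ψ ∈ L.b) : tw L g ψ ∈ L.b := by
  obtain ⟨-, -, hst⟩ := cP_eq_self_iff_stabilizes.1 (mem_stab.mp (inv_mem hg))
  obtain ⟨χ, hχ, hc⟩ := hst ψ hψ
  have e : tw L g ψ = χ := Subtype.ext (funext fun h => by
    rw [tw_apply]
    exact (hc (conjH L g h) h (by rw [conjH_coe]; group)).symm)
  rwa [e]

theorem mem_N_of_tw (hM : IsPModular p M) (g : Subgroup.normalizer (L.Z : Set G))
    {ψ : IrrCharacter L.H} (hψ : ψ ∈ L.b) (h : tw L g ψ ∈ L.b) : (g : G) ∈ L.N := by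
  have hC := conj_mem_iff_of_normalizer (normalizer_le_normalizer_cen g.2) (K := L.H)
  have heq : pushSet (conjH L g) L.b = L.b := by
    refine block_eq_of_mem hM (isPBlock_push _ (L.hb hM)) (L.hb hM) (χ := ψ)
      ⟨tw L g ψ, h, Subtype.ext (funext fun y => ?_)⟩ hψ
    obtain ⟨k, rfl⟩ := (conjH L g).surjective y
    rw [pushChar_apply]
    rfl
  refine mem_stab.mpr (cP_eq_self_iff.2 ⟨g.2, ?_⟩)
  show cjA (g : G) (eb L.H L.b) = eb L.H L.b
  rw [cjA_eb hC]
  exact congrArg (eb L.H) heq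

/-- The singular part of the kernel of the block vanishes across a twist outside `C(Z)`. -/
theorem kern_eq_zero (hM : IsPModular p M) (g : Subgroup.normalizer (L.Z : Set G))
    (hg : (g : G) ∉ L.H) {h : L.H} (hs : p ∣ orderOf h) :
    kern L.b (conjH L g h) h = 0 := by
  by_cases hz : L.z ∈ Subgroup.zpowers (h : G)
  swap
  · refine Finset.sum_eq_zero fun ψ _ => ?_
    split_ifs with hψ
    · rw [vanish L hM hψ hs hz, map_zero, mul_zero]
    · rfl
  obtain ⟨u, y, huy, hc, ⟨k, hk⟩, hy⟩ := BrauerBlocksPPart.exists_isPPart hM.1 h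
  have hu' : IsPPart p (conjH L g h) (conjH L g u) :=
    ⟨conjH L g y, by rw [← map_mul, huy], hc.map (conjH L g),
      ⟨k, by rw [MulEquiv.orderOf_eq, hk]⟩, by rwa [MulEquiv.orderOf_eq]⟩
  have hzu : L.z ∈ Subgroup.zpowers (u : G) := mem_zpowers_pPart hM.1 L.hzo hz
    ⟨y, congrArg Subtype.val huy, congrArg Subtype.val hc.eq,
      ⟨k, by rw [Subgroup.orderOf_coe, hk]⟩, by rwa [Subgroup.orderOf_coe]⟩
  have hne : ¬ IsConj (conjH L g u) u := by
    intro hconj
    obtain ⟨x, hx⟩ := isConj_iff.1 hconj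
    have hxg : (x : G) * (g : G) ∈ L.H := by
      refine mem_H_of_commute L hzu ?_
      have h2 := congrArg Subtype.val hx
      simp only [Subgroup.coe_mul, Subgroup.coe_inv, conjH_coe] at h2
      exact mul_inv_eq_iff_eq_mul.1 (Eq.trans (by group) h2)
    exact hg ((Subgroup.mul_mem_cancel_left L.H x.2).1 hxg)
  have h0 := BrauerBlocksPerm.blockSum_eq_zero_of_not_isConj hM (L.hb hM) hu'
    (⟨y, huy, hc, ⟨k, hk⟩, hy⟩ : IsPPart p h u) hne
  rw [BlockTheoryIdem.finsum_mem_eq_sum] at h0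
  rw [← h0, kern]
  simp only [irr_inv]

/-- An element outside `C(Z)` fixes exactly one member of the block. -/
theorem card_fixed (hM : IsPModular p M) (g : Subgroup.normalizer (L.Z : Set G))
    (hgN : (g : G) ∈ L.N) (hgH : (g : G) ∉ L.H) :
    ((members L.b).filter fun ψ => tw L g ψ = ψ).card = 1 := by
  have h1 : ((((members L.b).filter fun ψ => tw L g ψ = ψ).card : ℕ) : ℂ) =
      (Nat.card L.H : ℂ)⁻¹ * ∑ h : L.H, kern L.b (conjH L g h) h := by
    rw [Finset.card_eq_sum_ones, Nat.cast_sum, Finset.sum_filter, Finset.mul_sum]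
    simp only [kern, Finset.mul_sum]
    rw [Finset.sum_comm, ← filter_eq_members, Finset.sum_filter]
    refine Finset.sum_congr rfl fun ψ _ => ?_
    by_cases hψ : ψ ∈ L.b
    · simp only [if_pos hψ, Nat.cast_one]
      rw [← CharBasicOrth.classInner_irrCharacter (tw L g ψ) ψ, classInner, Finset.mul_sum]
      rfl
    · simp [hψ]
  rw [← Finset.sum_filter_add_sum_filter_not _ (fun h : L.H => ¬ p ∣ orderOf h),
    Finset.sum_eq_zero (s := Finset.univ.filter fun h : L.H => ¬¬ p ∣ orderOf h)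
      fun h hh => kern_eq_zero L hM g hgH (not_not.1 (Finset.mem_filter.1 hh).2),
    add_zero, Finset.sum_congr rfl (g := fun h => blockSq L.b h) fun h hh => ?_,
    sum_blockSq_regular hM (L.hb hM), (L.rank_card hM).1, Nat.cast_one, mul_one,
    inv_mul_cancel₀ (Nat.cast_ne_zero.2 Nat.card_pos.ne')] at h1
  · exact_mod_cast h1
  · refine Finset.sum_congr rfl fun ψ _ => ?_
    split_ifs with hψ
    · rw [← tw_apply L g ψ h,
        regular_eq L hM (tw_mem L g hgN hψ) hψ (Finset.mem_filter.1 hh).2]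
    · rfl

/-- The character of the block fixed by `N`. -/
structure Base (L : Loc p M B P e) (ψ₀ : IrrCharacter L.H) : Prop where
  mem : ψ₀ ∈ L.b
  fix : ∀ g : Subgroup.normalizer (L.Z : Set G), (g : G) ∈ L.N → tw L g ψ₀ = ψ₀
  free : ∀ g : Subgroup.normalizer (L.Z : Set G), (g : G) ∈ L.N → ∀ ψ ∈ L.b, ψ ≠ ψ₀ →
    tw L g ψ = ψ → (g : G) ∈ L.H

theorem exists_base (hM : IsPModular p M) : ∃ ψ₀, Base L ψ₀ := by
  obtain ⟨t, ht, -, hgen⟩ := L.exists_gen hM
  by_cases htH : t ∈ L.H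
  · have hle : ∀ g ∈ L.N, g ∈ L.H := fun g hg => by
      obtain ⟨i, -, h, hh, rfl⟩ := hgen g hg
      exact mul_mem hh (pow_mem htH i)
    obtain ⟨ψ₀, hψ₀⟩ := block_nonempty hM (L.hb hM)
    exact ⟨ψ₀, hψ₀, fun g hg => tw_of_mem_H L g (hle _ hg) ψ₀, fun g hg _ _ _ _ => hle _ hg⟩
  set t' : Subgroup.normalizer (L.Z : Set G) := ⟨t, L.N_le_normalizer ht⟩
  obtain ⟨ψ₀, hψ₀⟩ := Finset.card_eq_one.1 (card_fixed L hM t' ht htH)
  obtain ⟨hm, hfix⟩ := Finset.mem_filter.1
    (hψ₀ ▸ Finset.mem_singleton_self ψ₀ : ψ₀ ∈ (members L.b).filter fun ψ => tw L t' ψ = ψ)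
  have hfixN : ∀ g : Subgroup.normalizer (L.Z : Set G), (g : G) ∈ L.N → tw L g ψ₀ = ψ₀ := by
    intro g hg
    obtain ⟨i, -, h, hh, hgi⟩ := hgen g hg
    rw [show g = ⟨h, L.N_le_normalizer (L.H_le_N hh)⟩ * t' ^ i from Subtype.ext hgi, tw_mul,
      tw_of_mem_H L ⟨h, _⟩ hh]
    clear hgi
    induction i with
    | zero => rw [pow_zero]; exact tw_of_mem_H L 1 (one_mem _) ψ₀
    | succ i ih => rw [pow_succ, tw_mul, ih, hfix]
  refine ⟨ψ₀, mem_members.1 hm, hfixN, fun g hg ψ hψ hne hgψ => ?_⟩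
  by_contra hgH
  obtain ⟨a, ha⟩ := Finset.card_eq_one.1 (card_fixed L hM g hg hgH)
  have h1 : ∀ φ, φ ∈ L.b → tw L g φ = φ → φ = a := fun φ hφ h => Finset.mem_singleton.1
    (ha ▸ Finset.mem_filter.2 ⟨mem_members.2 hφ, h⟩)
  exact hne ((h1 ψ hψ hgψ).trans (h1 ψ₀ (mem_members.1 hm) (hfixN g hg)).symm)

/-- Being in one orbit of `N`. -/
def orb (ψ φ : IrrCharacter L.H) : Prop :=
  ∃ g : Subgroup.normalizer (L.Z : Set G), (g : G) ∈ L.N ∧ tw L g ψ = φ

theorem orb_refl (ψ : IrrCharacter L.H) : orb L ψ ψ :=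
  ⟨1, one_mem _, tw_of_mem_H L 1 (one_mem _) ψ⟩

theorem orb_symm {ψ φ : IrrCharacter L.H} (h : orb L ψ φ) : orb L φ ψ := by
  obtain ⟨g, hg, rfl⟩ := h
  exact ⟨g⁻¹, inv_mem hg, by rw [← tw_mul, mul_inv_cancel, tw_of_mem_H L 1 (one_mem _)]⟩

theorem orb_trans {ψ φ χ : IrrCharacter L.H} (h : orb L ψ φ) (h' : orb L φ χ) : orb L ψ χ := by
  obtain ⟨g, hg, rfl⟩ := h
  obtain ⟨g', hg', rfl⟩ := h'
  exact ⟨g * g', mul_mem hg hg', tw_mul L g g' ψ⟩

/-- The members other than the fixed one. -/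
noncomputable def moved (ψ₀ : IrrCharacter L.H) : Finset (IrrCharacter L.H) :=
  (members L.b).erase ψ₀

variable {ψ₀ : IrrCharacter L.H}

theorem mem_moved {ψ : IrrCharacter L.H} : ψ ∈ moved L ψ₀ ↔ ψ ∈ L.b ∧ ψ ≠ ψ₀ := by
  simp [moved, and_comm]

theorem card_moved (hM : IsPModular p M) (h0 : Base L ψ₀) :
    (moved L ψ₀).card = Nat.card P - 1 := by
  rw [moved, Finset.card_erase_of_mem (mem_members.2 h0.mem), ← card_members, (L.rank_card hM).2]

theorem card_orb (hM : IsPModular p M) (h0 : Base L ψ₀) {ψ : IrrCharacter L.H}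
    (hψ : ψ ∈ moved L ψ₀) : ((moved L ψ₀).filter fun φ => orb L ψ φ).card = e := by
  obtain ⟨hψb, hψ0⟩ := (mem_moved L).1 hψ
  let inN : L.N → Subgroup.normalizer (L.Z : Set G) := fun g => ⟨g, L.N_le_normalizer g.2⟩
  let f : L.N ⧸ L.H.subgroupOf L.N → IrrCharacter L.H :=
    Quotient.lift (fun g : L.N => tw L (inN g) ψ) fun a b hab => by
      have hab' : (a : G)⁻¹ * b ∈ L.H :=
        Subgroup.mem_subgroupOf.1 (QuotientGroup.leftRel_apply.1 hab)
      rw [show inN b = inN a * inN (a⁻¹ * b) from Subtype.ext (mul_inv_cancel_left _ _).symm,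
        tw_mul, tw_of_mem_H L (inN (a⁻¹ * b)) hab']
  have hinj : Function.Injective f := by
    intro x y hxy
    obtain ⟨a, rfl⟩ := QuotientGroup.mk_surjective x
    obtain ⟨b, rfl⟩ := QuotientGroup.mk_surjective y
    refine QuotientGroup.eq.2 (Subgroup.mem_subgroupOf.2 ?_)
    replace hxy : tw L (inN a) ψ = tw L (inN b) ψ := hxy
    have h1 : (b : G) * (a : G)⁻¹ ∈ L.H := h0.free (inN b * (inN a)⁻¹)
      (mul_mem b.2 (inv_mem a.2)) ψ hψb hψ0 (by
        rw [tw_mul, ← hxy, ← tw_mul, mul_inv_cancel, tw_of_mem_H L 1 (one_mem _)])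
    have h2 := L.conj_mem_H (inv_mem a.2) h1
    simpa [mul_assoc] using h2
  rw [show ((moved L ψ₀).filter fun φ => orb L ψ φ) = Finset.univ.image f from ?_,
    Finset.card_image_of_injective _ hinj, Finset.card_univ, ← Nat.card_eq_fintype_card]
  · exact L.index_N hM
  ext φ
  simp only [Finset.mem_filter, mem_moved, Finset.mem_image, Finset.mem_univ, true_and]
  constructor
  · rintro ⟨-, g, hg, rfl⟩
    exact ⟨((⟨g, hg⟩ : L.N) : L.N ⧸ L.H.subgroupOf L.N), rfl⟩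
  · rintro ⟨x, rfl⟩
    obtain ⟨a, rfl⟩ := QuotientGroup.mk_surjective x
    refine ⟨⟨tw_mem L (inN a) a.2 hψb, fun h => hψ0 ((tw L (inN a)).injective ?_)⟩, inN a, a.2, rfl⟩
    exact h.trans (h0.fix (inN a) a.2).symm

/-- The difference of the multiplicities in a restriction. -/
noncomputable def w (ψ₀ : IrrCharacter L.H) (χ : IrrCharacter G) (ψ : IrrCharacter L.H) : ℤ :=
  (S4716.mult χ ψ : ℤ) - (S4716.mult χ ψ₀ : ℤ)

/-- The difference `ψ - ψ₀` extended by zero. -/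
noncomputable def alpha (ψ₀ ψ : IrrCharacter L.H) (g : G) : ℂ :=
  if hg : g ∈ L.H then (ψ : L.H → ℂ) ⟨g, hg⟩ - (ψ₀ : L.H → ℂ) ⟨g, hg⟩ else 0

theorem alpha_coe (ψ₀ ψ : IrrCharacter L.H) (h : L.H) :
    alpha L ψ₀ ψ h = (ψ : L.H → ℂ) h - (ψ₀ : L.H → ℂ) h := dif_pos h.2

theorem alpha_support (hM : IsPModular p M) (h0 : Base L ψ₀) {ψ : IrrCharacter L.H}
    (hψ : ψ ∈ L.b) {g : G} (hne : alpha L ψ₀ ψ g ≠ 0) :
    g ∈ L.H ∧ p ∣ orderOf g ∧ L.z ∈ Subgroup.zpowers g := by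
  by_cases hg : g ∈ L.H
  swap
  · exact absurd (dif_neg hg) hne
  rw [alpha, dif_pos hg] at hne
  have hs : p ∣ orderOf g := by
    by_contra h
    exact hne (sub_eq_zero.2 (regular_eq L hM hψ h0.mem (by rwa [Subgroup.orderOf_mk])))
  refine ⟨hg, hs, by_contra fun hz => hne ?_⟩
  rw [vanish L hM hψ (by rwa [Subgroup.orderOf_mk]) hz,
    vanish L hM h0.mem (by rwa [Subgroup.orderOf_mk]) hz, sub_zero]

theorem sum_eq_sum_H (F : G → ℂ) (hF : ∀ g, g ∉ L.H → F g = 0) :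
    ∑ g, F g = ∑ h : L.H, F h := by
  rw [← Finset.sum_filter_add_sum_filter_not Finset.univ (· ∈ L.H),
    Finset.sum_eq_zero (s := Finset.univ.filter fun g => ¬ g ∈ L.H)
      fun g hg => hF g (Finset.mem_filter.1 hg).2, add_zero]
  exact Finset.sum_subtype _ (by simp) F

theorem w_eq (χ : IrrCharacter G) (ψ : IrrCharacter L.H) :
    (w L ψ₀ χ ψ : ℂ) =
      (Nat.card L.H : ℂ)⁻¹ * ∑ g, (χ : G → ℂ) g * conj (alpha L ψ₀ ψ g) := by
  rw [sum_eq_sum_H L _ fun g hg => by rw [alpha, dif_neg hg, map_zero, mul_zero]]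
  simp only [alpha_coe, map_sub, mul_sub, Finset.sum_sub_distrib, w, Int.cast_sub,
    Int.cast_natCast, ← S4716.mult_spec, classInner]
  rfl

/-- The block part of a restriction. -/
theorem beta_eq (χ : IrrCharacter G) (h : L.H) :
    ∑ k : L.H, blockCoeff L.b k * (χ : G → ℂ) ((k : G) * h) =
      ∑ ψ ∈ members L.b, (S4716.mult χ ψ : ℂ) * (ψ : L.H → ℂ) h := by
  have h1 := BlockTheoryInduced.sum_blockCoeff_mul L.b (f := (χ : G → ℂ) ∘ L.H.subtype)
    (fun a c => irr_classFun χ (a : G) (c : G)) h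
  simp only [Function.comp_apply, Subgroup.subtype_apply, Subgroup.coe_mul] at h1
  rw [h1, ← filter_eq_members, Finset.sum_filter]
  refine Finset.sum_congr rfl fun ψ _ => ?_
  split_ifs
  · rw [← S4716.mult_spec]
  · rfl

/-- The block part of a character outside `B` vanishes on the elements generating `Z`. -/
theorem beta_eq_zero (hM : IsPModular p M) {χ : IrrCharacter G} (hχ : χ ∉ B) {h : L.H}
    (hz : L.z ∈ Subgroup.zpowers (h : G)) :
    ∑ ψ ∈ members L.b, (S4716.mult χ ψ : ℂ) * (ψ : L.H → ℂ) h = 0 := by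
  rw [← beta_eq]
  refine BlockTheoryInduced.second_main_sum L.H hM (induced_of_pairOf hM (L.pairOf hM)) h
    (fun u hu x hx => ?_) χ hχ
  exact mem_H_of_commute L (mem_zpowers_pPart hM.1 L.hzo hz hu)
    (Subgroup.mem_centralizer_singleton_iff.1 hx)

theorem w_eq_zero (hM : IsPModular p M) (h0 : Base L ψ₀) {χ : IrrCharacter G} (hχ : χ ∉ B)
    {ψ : IrrCharacter L.H} (hψ : ψ ∈ L.b) : w L ψ₀ χ ψ = 0 := by
  set f : L.H → ℂ := ∑ φ : IrrCharacter L.H,
    (if φ ∈ L.b then (S4716.mult χ φ : ℂ) else 0) • (φ : L.H → ℂ)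
  have h1 : classInner f ((ψ : L.H → ℂ) - (ψ₀ : L.H → ℂ)) = (w L ψ₀ χ ψ : ℂ) := by
    rw [CharBasicOrth.classInner_sub_right, CharBasicOrth.classInner_sum_smul_irr,
      CharBasicOrth.classInner_sum_smul_irr, if_pos hψ, if_pos h0.mem, w]
    push_cast
    rfl
  have h2 : classInner f ((ψ : L.H → ℂ) - (ψ₀ : L.H → ℂ)) = 0 := by
    rw [classInner, Finset.sum_eq_zero fun h _ => ?_, mul_zero]
    by_cases hne : alpha L ψ₀ ψ h = 0
    · rw [alpha_coe] at hne
      rw [Pi.sub_apply, hne, map_zero, mul_zero]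
    obtain ⟨-, -, hz⟩ := alpha_support L hM h0 hψ hne
    have h3 : f h = ∑ φ ∈ members L.b, (S4716.mult χ φ : ℂ) * (φ : L.H → ℂ) h := by
      rw [← filter_eq_members, Finset.sum_filter]
      simp only [f, Finset.sum_apply, Pi.smul_apply, smul_eq_mul, ite_mul, zero_mul]
    rw [h3, beta_eq_zero L hM hχ hz, zero_mul]
  exact_mod_cast h1.symm.trans h2

/-- Every member of `B` has a nonconstant multiplicity vector. -/
theorem exists_w_ne_zero (hM : IsPModular p M) (h0 : Base L ψ₀) {χ : IrrCharacter G} (hχ : χ ∈ B) :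
    ∃ ψ ∈ moved L ψ₀, w L ψ₀ χ ψ ≠ 0 := by
  by_contra hall
  push Not at hall
  have hm : ∀ ψ ∈ L.b, S4716.mult χ ψ = S4716.mult χ ψ₀ := fun ψ hψ => by
    rcases eq_or_ne ψ ψ₀ with rfl | hne
    · rfl
    · have := hall ψ ((mem_moved L).2 ⟨hψ, hne⟩)
      rw [w] at this
      omega
  have hzo : ∃ k, orderOf L.z = p ^ k := ⟨1, by rw [L.hzo, pow_one]⟩
  refine BlockMajor81.part_one_ne_zero (centralizer_zpowers L.z) hM hzo
    (induced_of_pairOf hM (L.pairOf hM))
    (BlockAbelian81.defect_cen hM L.hmax L.hab L.hZP L.hle) hχ ?_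
  set z : L.H := ⟨L.z, (centralizer_zpowers L.z _).2 (Commute.refl _)⟩ with hz
  have hzs : p ∣ orderOf z := by rw [← Subgroup.orderOf_coe, hz, L.hzo]
  have h1r : ¬ p ∣ orderOf (1 : L.H) := by rw [orderOf_one]; exact hM.1.not_dvd_one
  rw [S4716.part_eq (centralizer_zpowers L.z)]
  calc ∑ ξ ∈ members L.b, (S4716.mult χ ξ : ℂ) * S4716.lam z ξ * (ξ : L.H → ℂ) 1
      = (S4716.mult χ ψ₀ : ℂ) * ∑ ξ ∈ members L.b, (ξ : L.H → ℂ) z := by
        rw [Finset.mul_sum]
        refine Finset.sum_congr rfl fun ξ hξ => ?_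
        rw [hm ξ (mem_members.1 hξ), S4716.lam, mul_assoc, div_mul_cancel₀ _ (irr_one_ne_zero ξ)]
    _ = 0 := by
        have h := congrArg conj (weak_orthogonality hM (L.hb hM) h1r hzs)
        rw [map_zero, map_sum] at h
        have h2 : conj ((ψ₀ : L.H → ℂ) 1) * ∑ ξ ∈ members L.b, (ξ : L.H → ℂ) z = 0 := by
          rw [← h, Finset.mul_sum, ← filter_eq_members, Finset.sum_filter]
          refine Finset.sum_congr rfl fun ξ _ => ?_
          split_ifs with hξ
          · rw [map_mul, Complex.conj_conj, regular_eq L hM h0.mem hξ h1r]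
          · rw [map_zero]
        rw [(mul_eq_zero.1 h2).resolve_left (by simpa using irr_one_ne_zero ψ₀), mul_zero]

/-- The differences are orthogonal to the regular values. -/
theorem sum_w_mul (hM : IsPModular p M) (h0 : Base L ψ₀) {ψ : IrrCharacter L.H} (hψ : ψ ∈ L.b)
    {g : G} (hg : ¬ p ∣ orderOf g) :
    ∑ χ ∈ members B, (w L ψ₀ χ ψ : ℂ) * (χ : G → ℂ) g = 0 := by
  rw [Finset.sum_subset (Finset.subset_univ _) fun χ _ hχ => by
    rw [w_eq_zero L hM h0 (fun h => hχ (mem_members.2 h)) hψ, Int.cast_zero, zero_mul]]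
  have h : ∑ χ : IrrCharacter G, (w L ψ₀ χ ψ : ℂ) * conj ((χ : G → ℂ) g⁻¹) = 0 := by
    simp only [w_eq, Finset.mul_sum, Finset.sum_mul]
    rw [Finset.sum_comm]
    refine Finset.sum_eq_zero fun x _ => ?_
    by_cases hx : alpha L ψ₀ ψ x = 0
    · simp [hx]
    obtain ⟨-, hs, -⟩ := alpha_support L hM h0 hψ hx
    calc ∑ χ : IrrCharacter G, (Nat.card L.H : ℂ)⁻¹ * ((χ : G → ℂ) x * conj (alpha L ψ₀ ψ x)) *
          conj ((χ : G → ℂ) g⁻¹)
        = (Nat.card L.H : ℂ)⁻¹ * conj (alpha L ψ₀ ψ x) *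
            ∑ χ : IrrCharacter G, (χ : G → ℂ) x * conj ((χ : G → ℂ) g⁻¹) := by
          rw [Finset.mul_sum]
          exact Finset.sum_congr rfl fun χ _ => by ring
      _ = 0 := by
          rw [CharBasicOrth.sum_irr_mul_conj, if_neg fun hc => hg ?_, mul_zero]
          obtain ⟨c, hc⟩ := isConj_iff.1 hc
          rw [← orderOf_inv, ← hc, show c * x * c⁻¹ = MulAut.conj c x from rfl, MulEquiv.orderOf_eq]
          exact hs
  simpa only [irr_inv, Complex.conj_conj] using h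

theorem sum_irr_conj (g g' : G) :
    ∑ χ : IrrCharacter G, conj ((χ : G → ℂ) g) * (χ : G → ℂ) g' =
      ∑ x : G, if x * g * x⁻¹ = g' then 1 else 0 := by
  rw [show ∑ χ : IrrCharacter G, conj ((χ : G → ℂ) g) * (χ : G → ℂ) g' =
      ∑ χ : IrrCharacter G, (χ : G → ℂ) g' * conj ((χ : G → ℂ) g) from
      Finset.sum_congr rfl fun χ _ => mul_comm _ _,
    CharBasicOrth.sum_irr_mul_conj, Finset.sum_boole]
  split_ifs with h
  · obtain ⟨c, hc⟩ := isConj_iff.1 h
    rw [Nat.card_eq_fintype_card, ← Finset.card_univ]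
    refine congrArg Nat.cast (Finset.card_bij' (fun x _ => (x : G) * c⁻¹)
      (fun x hx => ⟨x * c, ?_⟩) (fun x _ => Finset.mem_filter.2 ⟨Finset.mem_univ _, ?_⟩)
      (fun x _ => Finset.mem_univ _) (fun x _ => Subtype.ext (by simp)) fun x _ => by simp)
    · have h1 := (Finset.mem_filter.1 hx).2
      rw [← hc, mul_inv_eq_iff_eq_mul] at h1
      refine Subgroup.mem_centralizer_singleton_iff.2 ?_
      calc x * c * g' = x * (c * g' * c⁻¹) * c := by group
        _ = g' * (x * c) := by rw [h1]; group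
    · have h1 := Subgroup.mem_centralizer_singleton_iff.1 x.2
      rw [← hc, show (x : G) * c⁻¹ * (c * g' * c⁻¹) * ((x : G) * c⁻¹)⁻¹ = x * g' * (x : G)⁻¹ by group,
        h1, mul_inv_cancel_right]
  · rw [Finset.filter_eq_empty_iff.2 fun x _ hx => h (isConj_iff.2 ⟨x⁻¹, by rw [← hx]; group⟩)]
    simp

/-- The Gram matrix of the differences. -/
theorem gram (hM : IsPModular p M) (h0 : Base L ψ₀) {ψ φ : IrrCharacter L.H}
    (hψ : ψ ∈ moved L ψ₀) (hφ : φ ∈ moved L ψ₀) :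
    ∑ χ ∈ members B, w L ψ₀ χ ψ * w L ψ₀ χ φ = (e : ℤ) + if orb L ψ φ then 1 else 0 := by
  obtain ⟨hψb, hψ0⟩ := (mem_moved L).1 hψ
  obtain ⟨hφb, hφ0⟩ := (mem_moved L).1 hφ
  rw [Finset.sum_subset (Finset.subset_univ _) fun χ _ hχ => by
    rw [w_eq_zero L hM h0 (fun h => hχ (mem_members.2 h)) hψb, zero_mul]]
  set K : ℂ := (Nat.card L.H : ℂ) with hK
  have hK0 : K ≠ 0 := Nat.cast_ne_zero.2 Nat.card_pos.ne'
  -- the sum as a double sum over the group
  have h1 : ((∑ χ : IrrCharacter G, w L ψ₀ χ ψ * w L ψ₀ χ φ : ℤ) : ℂ) =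
      K⁻¹ * K⁻¹ * ∑ x : G, ∑ g : G, alpha L ψ₀ φ g * conj (alpha L ψ₀ ψ (x * g * x⁻¹)) := by
    push_cast
    calc ∑ χ : IrrCharacter G, (w L ψ₀ χ ψ : ℂ) * (w L ψ₀ χ φ : ℂ)
        = ∑ χ : IrrCharacter G, (w L ψ₀ χ ψ : ℂ) * conj (w L ψ₀ χ φ : ℂ) :=
          Finset.sum_congr rfl fun χ _ => by rw [map_intCast]
      _ = K⁻¹ * K⁻¹ * ∑ g : G, ∑ g' : G, alpha L ψ₀ φ g * conj (alpha L ψ₀ ψ g') *
            ∑ χ : IrrCharacter G, conj ((χ : G → ℂ) g) * (χ : G → ℂ) g' := by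
          simp only [w_eq, ← hK, map_mul, map_sum, map_inv₀, Complex.conj_conj, Finset.mul_sum,
            Finset.sum_mul, show conj K = K from map_natCast _ _]
          rw [Finset.sum_comm]
          refine Finset.sum_congr rfl fun g _ => ?_
          rw [Finset.sum_comm]
          exact Finset.sum_congr rfl fun g' _ => Finset.sum_congr rfl fun χ _ => by ring
      _ = _ := by
          simp only [sum_irr_conj, Finset.mul_sum]
          rw [Finset.sum_comm (f := fun x g => K⁻¹ * K⁻¹ *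
            (alpha L ψ₀ φ g * conj (alpha L ψ₀ ψ (x * g * x⁻¹))))]
          refine Finset.sum_congr rfl fun g _ => ?_
          rw [Finset.sum_comm]
          refine Finset.sum_congr rfl fun x _ => ?_
          rw [Finset.sum_eq_single (x * g * x⁻¹) (fun g' _ hne => by rw [if_neg (Ne.symm hne)]; ring)
            (by simp), if_pos rfl, mul_one]
  -- the inner sum
  have h2 : ∀ x : G, K⁻¹ * ∑ g : G, alpha L ψ₀ φ g * conj (alpha L ψ₀ ψ (x * g * x⁻¹)) =
      if hx : x ∈ L.N then 1 + (if tw L ⟨x, L.N_le_normalizer hx⟩ ψ = φ then 1 else 0) else 0 := by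
    intro x
    by_cases hxn : x ∈ Subgroup.normalizer (L.Z : Set G)
    swap
    · rw [dif_neg fun h => hxn (L.N_le_normalizer h), Finset.sum_eq_zero fun g _ => ?_, mul_zero]
      by_contra hne
      obtain ⟨ha, hb⟩ := mul_ne_zero_iff.1 hne
      exact hxn (mem_normalizer_of_zpowers L (alpha_support L hM h0 hφb ha).2.2
        (alpha_support L hM h0 hψb (fun h => hb (by rw [h, map_zero]))).2.2)
    set g : Subgroup.normalizer (L.Z : Set G) := ⟨x, hxn⟩ with hg
    have h3 : K⁻¹ * ∑ y : G, alpha L ψ₀ φ y * conj (alpha L ψ₀ ψ (x * y * x⁻¹)) =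
        classInner ((φ : L.H → ℂ) - (ψ₀ : L.H → ℂ))
          ((tw L g ψ : L.H → ℂ) - (tw L g ψ₀ : L.H → ℂ)) := by
      rw [sum_eq_sum_H L _ fun y hy => by rw [alpha, dif_neg hy, zero_mul], classInner, hK]
      congr 1
      refine Finset.sum_congr rfl fun h _ => ?_
      rw [show x * (h : G) * x⁻¹ = ((conjH L g h : L.H) : G) from rfl, alpha_coe, alpha_coe]
      rfl
    rw [h3, CharBasicOrth.classInner_sub_left, CharBasicOrth.classInner_sub_right,
      CharBasicOrth.classInner_sub_right]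
    simp only [CharBasicOrth.classInner_irrCharacter]
    by_cases hx : x ∈ L.N
    · have e0 : tw L g ψ₀ = ψ₀ := h0.fix g hx
      have e1 : tw L g ψ ≠ ψ₀ := fun h => hψ0 ((tw L g).injective (h.trans e0.symm))
      rw [dif_pos hx, e0, if_neg hφ0, if_neg (Ne.symm e1), if_pos rfl]
      simp only [eq_comm (a := φ)]
      ring
    · rw [dif_neg hx, if_neg, if_neg, if_neg, if_neg]
      · ring
      all_goals intro h
      · exact hx (mem_N_of_tw L hM g h0.mem (by rw [← h]; exact h0.mem))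
      · exact hx (mem_N_of_tw L hM g hψb (by rw [← h]; exact h0.mem))
      · exact hx (mem_N_of_tw L hM g h0.mem (by rw [← h]; exact hφb))
      · exact hx (mem_N_of_tw L hM g hψb (by rw [← h]; exact hφb))
  -- counting in the stabiliser
  set S := Finset.univ.filter (fun x : L.N => tw L ⟨x, L.N_le_normalizer x.2⟩ ψ = φ)
  have hcardN : Nat.card L.N = e * Nat.card L.H := by
    have h := (L.H.subgroupOf L.N).index_mul_card.symm
    rw [Nat.card_congr (Subgroup.subgroupOfEquivOfLe L.H_le_N).toEquiv] at h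
    exact h.trans (congrArg (· * _) (L.index_N hM))
  have hS : S.card = if orb L ψ φ then Nat.card L.H else 0 := by
    split_ifs with ho
    · obtain ⟨g, hg, hgφ⟩ := ho
      set g' : L.N := ⟨g, hg⟩
      rw [Nat.card_eq_fintype_card, ← Finset.card_univ (α := L.H)]
      refine Finset.card_bij'
        (fun x hx => (⟨(x : G) * (g : G)⁻¹, ?_⟩ : L.H))
        (fun h _ => (⟨(h : G) * (g : G), mul_mem (L.H_le_N h.2) hg⟩ : L.N))
        (fun x _ => Finset.mem_univ _) (fun h _ => Finset.mem_filter.2 ⟨Finset.mem_univ _, ?_⟩)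
        (fun x _ => Subtype.ext (by simp)) fun h _ => Subtype.ext (by simp)
      · exact h0.free (⟨x, L.N_le_normalizer x.2⟩ * g⁻¹) (mul_mem x.2 (inv_mem hg)) ψ hψb hψ0
          (by rw [tw_mul, (Finset.mem_filter.1 hx).2, ← hgφ, ← tw_mul, mul_inv_cancel,
            tw_of_mem_H L 1 (one_mem _)])
      · rw [show (⟨(h : G) * (g : G), _⟩ : Subgroup.normalizer (L.Z : Set G)) =
          ⟨h, L.N_le_normalizer (L.H_le_N h.2)⟩ * g from rfl, tw_mul,
          tw_of_mem_H L ⟨h, _⟩ h.2, hgφ]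
    · exact Finset.card_eq_zero.2 (Finset.filter_eq_empty_iff.2 fun x _ hx => ho ⟨_, x.2, hx⟩)
  have h4 : ((∑ χ : IrrCharacter G, w L ψ₀ χ ψ * w L ψ₀ χ φ : ℤ) : ℂ) =
      K⁻¹ * ((Nat.card L.N : ℂ) + (S.card : ℂ)) := by
    rw [h1, mul_assoc, Finset.mul_sum, Finset.sum_congr rfl fun x _ => h2 x]
    congr 1
    rw [← Finset.sum_filter_add_sum_filter_not Finset.univ (· ∈ L.N),
      Finset.sum_eq_zero (s := Finset.univ.filter fun x => ¬ x ∈ L.N)
        fun x hx => dif_neg (Finset.mem_filter.1 hx).2, add_zero,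
      Finset.sum_subtype (p := fun x => x ∈ L.N) _ (by simp),
      Finset.sum_congr rfl fun x _ => dif_pos x.2, Finset.sum_add_distrib, Finset.sum_boole,
      Finset.sum_const, Finset.card_univ, Nat.card_eq_fintype_card, nsmul_eq_mul, mul_one]
  rw [hcardN, hS, Nat.cast_mul, ← hK] at h4
  have h5 : ((∑ χ : IrrCharacter G, w L ψ₀ χ ψ * w L ψ₀ χ φ : ℤ) : ℂ) =
      (((e : ℤ) + if orb L ψ φ then 1 else 0 : ℤ) : ℂ) := by
    rw [h4]
    split_ifs
    · rw [← hK]; push_cast; field_simp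
    · push_cast; field_simp; ring
  exact_mod_cast h5

end Cfsg.Agent.CyclicAction42
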