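import Mathlib

/-!
A cyclic group of prime power order `p ^ m`, `m ≥ 2`, is a B-group (Schur, Wielandt):
a group of permutations of `ZMod (p ^ m)` containing the translations and not doubly
transitive preserves the cosets of a nontrivial proper subgroup.
-/

set_option autoImplicit false

open Finset

namespace Cfsg.Agent.CyclicBGroup72

section general

variable {n : ℕ} [NeZero n] (G : Subgroup (Equiv.Perm (ZMod n)))

/-- Same orbit of the stabiliser of zero. -/
def Rel (x y : ZMod n) : Prop := ∃ σ ∈ G, σ 0 = 0 ∧ σ x = y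

/-- Invariant under the stabiliser of zero. -/
def InvSet (T : Set (ZMod n)) : Prop := ∀ x y, Rel G x y → x ∈ T → y ∈ T

/-- A group ring element invariant under the stabiliser of zero. -/
def InvA {R : Type*} [Semiring R] (a : AddMonoidAlgebra R (ZMod n)) : Prop :=
  ∀ x y, Rel G x y → a.coeff x = a.coeff y

variable {G}

theorem rel_refl (x : ZMod n) : Rel G x x := ⟨1, G.one_mem, rfl, rfl⟩

theorem rel_symm {x y : ZMod n} (h : Rel G x y) : Rel G y x := by
  obtain ⟨σ, hσ, h0, rfl⟩ := h
  exact ⟨σ⁻¹, G.inv_mem hσ, Equiv.Perm.inv_eq_iff_eq.2 h0.symm, σ.symm_apply_apply x⟩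

theorem rel_trans {x y z : ZMod n} (h : Rel G x y) (h' : Rel G y z) : Rel G x z := by
  obtain ⟨σ, hσ, h0, rfl⟩ := h
  obtain ⟨τ, hτ, t0, rfl⟩ := h'
  exact ⟨τ * σ, G.mul_mem hτ hσ, by rw [Equiv.Perm.mul_apply, h0, t0], rfl⟩

theorem rel_zero {x : ZMod n} (h : Rel G x 0) : x = 0 := by
  obtain ⟨σ, -, h0, hx⟩ := h
  exact σ.injective (hx.trans h0.symm)

theorem rel_shift (hT : ∀ c, Equiv.addRight c ∈ G) {σ : Equiv.Perm (ZMod n)} (hσ : σ ∈ G)
    (a d : ZMod n) : Rel G d (σ (a + d) - σ a) := by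
  refine ⟨Equiv.addRight (-σ a) * σ * Equiv.addRight a,
    G.mul_mem (G.mul_mem (hT _) hσ) (hT _), ?_, ?_⟩
  · simp
  · simp [sub_eq_add_neg, add_comm d a]

theorem invSet_orb (x : ZMod n) : InvSet G {y | Rel G x y} := fun _ _ h h' => rel_trans h' h

/-- The subgroup generated by an invariant set is invariant. -/
theorem invSet_closure (hT : ∀ c, Equiv.addRight c ∈ G) {T : Set (ZMod n)} (h : InvSet G T) :
    InvSet G (AddSubgroup.closure T : Set (ZMod n)) := by
  rintro x y ⟨σ, hσ, h0, rfl⟩ hx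
  have key : ∀ d ∈ AddSubgroup.closure T, ∀ a, σ (a + d) - σ a ∈ AddSubgroup.closure T := by
    intro d hd
    induction hd using AddSubgroup.closure_induction with
    | mem d hd => exact fun a => AddSubgroup.subset_closure (h _ _ (rel_shift hT hσ a d) hd)
    | zero => simp
    | add d e _ _ hd he =>
      intro a
      have := add_mem (hd a) (he (a + d))
      rw [← add_assoc]
      convert this using 1
      ring
    | neg d _ hd =>
      intro a
      have := neg_mem (hd (a + -d))
      rw [neg_add_cancel_right] at this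
      convert this using 1
      ring
  simpa [h0] using key x hx 0

/-- In the primitive case an invariant set inside a proper subgroup is trivial. -/
theorem subset_zero (hT : ∀ c, Equiv.addRight c ∈ G)
    (hprim : ∀ D : AddSubgroup (ZMod n), InvSet G (D : Set (ZMod n)) → D = ⊥ ∨ D = ⊤)
    {T : Set (ZMod n)} (h : InvSet G T) {H : AddSubgroup (ZMod n)} (hH : H ≠ ⊤)
    (hTH : T ⊆ H) : ∀ x ∈ T, x = 0 := by
  intro x hx
  have h1 : x ∈ AddSubgroup.closure T := AddSubgroup.subset_closure hx
  rcases hprim _ (invSet_closure hT h) with e | e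
  · rwa [e, AddSubgroup.mem_bot] at h1
  · exact absurd (top_le_iff.1 (e ▸ (AddSubgroup.closure_le H).2 hTH)) hH

section algebra

variable {R : Type*} [CommRing R]

theorem coeff_mul' (a b : AddMonoidAlgebra R (ZMod n)) (z : ZMod n) :
    (a * b).coeff z = ∑ y, a.coeff y * b.coeff (z - y) := by
  classical
  rw [AddMonoidAlgebra.coeff_mul_antidiag a b z (univ.image fun y => (y, z - y))
    (fun {q} => by
      constructor
      · intro h
        obtain ⟨y, -, rfl⟩ := mem_image.1 h
        exact add_sub_cancel y z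
      · intro h
        exact mem_image.2 ⟨q.1, mem_univ _, Prod.ext rfl (by rw [← h]; simp)⟩)]
  rw [sum_image]
  intro a _ b _ h
  exact congrArg Prod.fst h

theorem invA_mul (hT : ∀ c, Equiv.addRight c ∈ G) {a b : AddMonoidAlgebra R (ZMod n)}
    (ha : InvA G a) (hb : InvA G b) : InvA G (a * b) := by
  intro x y hxy
  obtain ⟨σ, hσ, h0, rfl⟩ := hxy
  rw [coeff_mul', coeff_mul', ← Equiv.sum_comp σ (fun y => a.coeff y * b.coeff (σ x - y))]
  refine sum_congr rfl fun y _ => ?_
  congr 1
  · exact ha _ _ ⟨σ, hσ, h0, rfl⟩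
  · have := hb _ _ (rel_shift hT hσ y (x - y))
    rwa [add_sub_cancel] at this

theorem invA_one : InvA G (1 : AddMonoidAlgebra R (ZMod n)) := by
  classical
  intro x y h
  rw [AddMonoidAlgebra.one_def, AddMonoidAlgebra.coeff_single, Finsupp.single_apply,
    Finsupp.single_apply]
  by_cases hx : x = 0
  · obtain ⟨σ, -, h0, rfl⟩ := h
    rw [hx, h0]
  · rw [if_neg (Ne.symm hx), if_neg]
    intro hy
    exact hx (rel_zero (hy ▸ h))

theorem invA_pow (hT : ∀ c, Equiv.addRight c ∈ G) {a : AddMonoidAlgebra R (ZMod n)}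
    (ha : InvA G a) (k : ℕ) : InvA G (a ^ k) := by
  induction k with
  | zero => rw [pow_zero]; exact invA_one
  | succ k ih => rw [pow_succ]; exact invA_mul hT ih ha

theorem invA_sub {a b : AddMonoidAlgebra R (ZMod n)}
    (ha : InvA G a) (hb : InvA G b) : InvA G (a - b) := by
  intro x y h
  simp [ha x y h, hb x y h]

theorem invA_smul (r : R) {a : AddMonoidAlgebra R (ZMod n)}
    (ha : InvA G a) : InvA G (r • a) := by
  intro x y h
  simp [ha x y h]

/-- The sum of the elements of a finite set. -/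
noncomputable def ind (T : Finset (ZMod n)) : AddMonoidAlgebra R (ZMod n) :=
  ∑ x ∈ T, AddMonoidAlgebra.single x 1

theorem coeff_ind (T : Finset (ZMod n)) (z : ZMod n) :
    (ind T : AddMonoidAlgebra R (ZMod n)).coeff z = if z ∈ T then 1 else 0 := by
  classical
  simp [ind, Finsupp.single_apply]

theorem invA_ind {T : Finset (ZMod n)} (h : InvSet G (T : Set (ZMod n))) :
    InvA G (ind T : AddMonoidAlgebra R (ZMod n)) := by
  classical
  intro x y hxy
  rw [coeff_ind, coeff_ind]
  exact if_congr ⟨h _ _ hxy, h _ _ (rel_symm hxy)⟩ rfl rfl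

end algebra

/-- Wielandt's congruence: the `q`-th multiples counted modulo `q`. -/
theorem invSet_mult (hT : ∀ c, Equiv.addRight c ∈ G) (q : ℕ) [Fact q.Prime]
    {T : Finset (ZMod n)} (h : InvSet G (T : Set (ZMod n))) :
    InvSet G {z | z ≠ 0 ∧ ¬ q ∣ (T.filter fun x => (q : ZMod n) * x = z).card} := by
  classical
  haveI : CharP (AddMonoidAlgebra (ZMod q) (ZMod n)) q :=
    charP_of_injective_algebraMap' (R := ZMod q) q
  have hc : ∀ z, ((ind T : AddMonoidAlgebra (ZMod q) (ZMod n)) ^ q).coeff z =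
      ((T.filter fun x => (q : ZMod n) * x = z).card : ZMod q) := by
    intro z
    rw [ind, sum_pow_char q]
    simp [AddMonoidAlgebra.single_pow, Finsupp.single_apply, nsmul_eq_mul]
  rintro x y hxy ⟨hx0, hx⟩
  refine ⟨fun hy => hx0 (rel_zero (hy ▸ hxy)), ?_⟩
  rw [← ZMod.natCast_eq_zero_iff, ← hc] at hx ⊢
  rwa [← invA_pow hT (invA_ind h) q x y hxy]

theorem mult_prime (hT : ∀ c, Equiv.addRight c ∈ G) (q : ℕ) [Fact q.Prime]
    (hq : q.Coprime n) {x z : ZMod n} (hxz : Rel G ((q : ZMod n) * x) z) :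
    ∃ y, Rel G x y ∧ z = (q : ZMod n) * y := by
  classical
  have hu : IsUnit (q : ZMod n) := (ZMod.isUnit_iff_coprime q n).2 hq
  by_cases hx0 : x = 0
  · subst hx0
    rw [mul_zero] at hxz
    exact ⟨0, rel_refl 0, by rw [mul_zero]; exact rel_zero (rel_symm hxz)⟩
  set T : Finset (ZMod n) := univ.filter (Rel G x) with hTdef
  have hTi : InvSet G (T : Set (ZMod n)) := by
    intro a b hab ha
    simp only [hTdef, coe_filter, mem_univ, true_and, Set.mem_setOf_eq] at ha ⊢
    exact rel_trans ha hab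
  have h1 : (q : ZMod n) * x ∈ {z | z ≠ 0 ∧ ¬ q ∣ (T.filter fun x => (q : ZMod n) * x = z).card} := by
    refine ⟨fun h => hx0 (hu.mul_right_eq_zero.1 h), ?_⟩
    have : (T.filter fun a => (q : ZMod n) * a = (q : ZMod n) * x) = {x} := by
      ext a
      simp only [mem_filter, mem_singleton]
      exact ⟨fun ⟨_, ha⟩ => hu.mul_left_cancel ha,
        fun ha => ⟨by simp [hTdef, ha, rel_refl], by rw [ha]⟩⟩
    rw [this, card_singleton]
    exact (Fact.out : q.Prime).not_dvd_one
  obtain ⟨-, h2⟩ := invSet_mult hT q hTi _ _ hxz h1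
  obtain ⟨y, hy⟩ : (T.filter fun a => (q : ZMod n) * a = z).Nonempty := by
    rw [nonempty_iff_ne_empty]
    rintro e
    exact h2 (by rw [e, card_empty]; exact dvd_zero q)
  simp only [hTdef, mem_filter, mem_univ, true_and] at hy
  exact ⟨y, hy.1, hy.2.symm⟩

/-- Schur's multiplier theorem. -/
theorem rel_mul (hT : ∀ c, Equiv.addRight c ∈ G) {k : ZMod n} (hk : IsUnit k)
    {x y : ZMod n} (hxy : Rel G x y) : Rel G (k * x) (k * y) := by
  have aux : ∀ a : ℕ, a.Coprime n → ∀ x z, Rel G ((a : ZMod n) * x) z →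
      ∃ y, Rel G x y ∧ z = (a : ZMod n) * y := by
    intro a
    induction a using induction_on_primes with
    | zero =>
      intro h x z _
      rw [Nat.coprime_zero_left] at h
      subst h
      exact ⟨x, rel_refl x, Subsingleton.elim _ _⟩
    | one => exact fun _ x z h => ⟨z, by simpa using h, by simp⟩
    | prime_mul q a hq ih =>
      intro h x z hz
      haveI := Fact.mk hq
      rw [Nat.cast_mul, mul_assoc] at hz
      obtain ⟨y, hy, rfl⟩ := mult_prime hT q (Nat.Coprime.coprime_mul_right h) hz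
      obtain ⟨w, hw, rfl⟩ := ih (Nat.Coprime.coprime_mul_left h) x y hy
      exact ⟨w, hw, by rw [Nat.cast_mul, mul_assoc]⟩
  obtain ⟨u, rfl⟩ := hk
  have hc : ((↑u⁻¹ : ZMod n)).val.Coprime n := ZMod.val_coe_unit_coprime u⁻¹
  obtain ⟨w, hw, hy⟩ := aux _ hc ((u : ZMod n) * x) y (by
    rwa [ZMod.natCast_zmod_val, ← mul_assoc, ← Units.val_mul, inv_mul_cancel, Units.val_one, one_mul])
  rw [ZMod.natCast_zmod_val] at hy
  rw [hy, ← mul_assoc, ← Units.val_mul, mul_inv_cancel, Units.val_one, one_mul]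
  exact hw

end general

section primePower

variable {p m : ℕ} [hp : Fact p.Prime] (hm : 2 ≤ m)

local notation "Z" => ZMod (p ^ m)

/-- Reduction modulo `p`. -/
def red : ZMod (p ^ m) →+* ZMod p :=
  ZMod.castHom (dvd_pow_self p (by omega : m ≠ 0)) (ZMod p)

/-- The element of order `p`. -/
def u0 (p m : ℕ) : ZMod (p ^ m) := ((p ^ (m - 1) : ℕ) : ZMod (p ^ m))

/-- The subgroup of order `p`, parametrised by `ZMod p`. -/
def emb (p m : ℕ) (j : ZMod p) : ZMod (p ^ m) := (j.val : ZMod (p ^ m)) * u0 p m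

include hm

theorem p_mul_u0 : (p : Z) * u0 p m = 0 := by
  rw [u0, ← Nat.cast_mul, ← pow_succ', show m - 1 + 1 = m by omega, ZMod.natCast_self]

theorem eq_p_mul (x : Z) (hx : red hm x = 0) : ∃ y : Z, x = (p : Z) * y := by
  rw [← ZMod.natCast_zmod_val x, map_natCast, ZMod.natCast_eq_zero_iff] at hx
  obtain ⟨c, hc⟩ := hx
  exact ⟨c, by rw [← Nat.cast_mul, ← hc, ZMod.natCast_zmod_val]⟩

theorem red_p_mul (y : Z) : red hm ((p : Z) * y) = 0 := by
  rw [map_mul, map_natCast, ZMod.natCast_self, zero_mul]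

theorem mul_u0 (x : Z) : x * u0 p m = emb p m (red hm x) := by
  have h : red hm (x - ((red hm x).val : Z)) = 0 := by
    rw [map_sub, map_natCast, ZMod.natCast_zmod_val, sub_self]
  obtain ⟨y, hy⟩ := eq_p_mul hm _ h
  have := congrArg (fun t => t * u0 p m) hy
  simp only [sub_mul, mul_right_comm _ y, p_mul_u0 hm, zero_mul, sub_eq_zero] at this
  exact this

theorem mul_emb (b : Z) (j : ZMod p) : b * emb p m j = emb p m (red hm b * j) := by
  rw [emb, ← mul_assoc, mul_u0 hm, map_mul, map_natCast, ZMod.natCast_zmod_val]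

theorem red_u0 : red hm (u0 p m) = 0 := by
  rw [u0, map_natCast, Nat.cast_pow, ZMod.natCast_self, zero_pow (by omega)]

theorem red_emb (j : ZMod p) : red hm (emb p m j) = 0 := by
  rw [emb, map_mul, red_u0, mul_zero]

theorem emb_eq_zero {j : ZMod p} : emb p m j = 0 ↔ j = 0 := by
  constructor
  · intro h
    rw [emb, u0, ← Nat.cast_mul, ZMod.natCast_eq_zero_iff] at h
    by_contra hj
    have hpos : 0 < j.val := Nat.pos_of_ne_zero ((ZMod.val_ne_zero j).2 hj)
    have := Nat.le_of_dvd (Nat.mul_pos hpos (pow_pos hp.out.pos _)) h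
    have hlt : j.val * p ^ (m - 1) < p * p ^ (m - 1) :=
      Nat.mul_lt_mul_of_pos_right (ZMod.val_lt j) (pow_pos hp.out.pos _)
    rw [← pow_succ', show m - 1 + 1 = m by omega] at hlt
    omega
  · rintro rfl
    simp [emb]

theorem emb_one : emb p m 1 = u0 p m := by
  rw [emb, ZMod.val_one, Nat.cast_one, one_mul]

theorem u0_ne_zero : u0 p m ≠ 0 := by
  rw [← emb_one hm, Ne, emb_eq_zero hm]
  exact one_ne_zero

theorem eq_emb_of_p_mul (x : Z) (hx : (p : Z) * x = 0) : ∃ j, x = emb p m j := by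
  rw [← ZMod.natCast_zmod_val x, ← Nat.cast_mul, ZMod.natCast_eq_zero_iff] at hx
  have hpm : p * p ^ (m - 1) = p ^ m := by rw [← pow_succ']; congr 1; omega
  obtain ⟨c, hc⟩ := Nat.dvd_of_mul_dvd_mul_left hp.out.pos ((dvd_of_eq hpm).trans hx)
  refine ⟨red hm (c : Z), ?_⟩
  rw [← mul_u0 hm, u0, ← Nat.cast_mul, mul_comm c]
  conv_lhs => rw [← ZMod.natCast_zmod_val x]
  rw [hc]

theorem p_mul_emb (j : ZMod p) : (p : Z) * emb p m j = 0 := by
  rw [emb, mul_left_comm, p_mul_u0 hm, mul_zero]

theorem isUnit_of_red (x : Z) (hx : red hm x ≠ 0) : IsUnit x := by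
  rw [← ZMod.natCast_zmod_val x, map_natCast, Ne, ZMod.natCast_eq_zero_iff] at hx
  rw [← ZMod.natCast_zmod_val x, ZMod.isUnit_iff_coprime]
  exact Nat.Coprime.pow_right _ ((hp.out.coprime_iff_not_dvd.2 hx).symm)

variable {G : Subgroup (Equiv.Perm (ZMod (p ^ m)))}

/-- In the primitive case the fibres of multiplication by `p` outside the socle stay in one orbit. -/
theorem coset_orbit (hT : ∀ c, Equiv.addRight c ∈ G)
    (hprim : ∀ D : AddSubgroup Z, InvSet G (D : Set Z) → D = ⊥ ∨ D = ⊤)
    (T : Finset Z) (hTi : InvSet G (T : Set Z)) {x : Z} (hx : x ∈ T) (hpx : (p : Z) * x ≠ 0)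
    {y : Z} (hy : (p : Z) * y = (p : Z) * x) : y ∈ T := by
  classical
  set F := T.filter fun a => (p : Z) * a = (p : Z) * x
  have hd : p ∣ F.card := by
    by_contra h
    refine hpx (subset_zero hT hprim (invSet_mult hT p hTi)
      (H := (red hm).toAddMonoidHom.ker) ?_ ?_ _ ⟨hpx, h⟩)
    · intro e
      have : (1 : Z) ∈ (red hm).toAddMonoidHom.ker := by rw [e]; trivial
      exact one_ne_zero ((map_one (red hm)).symm.trans (AddMonoidHom.mem_ker.1 this))
    · rintro z ⟨-, hz⟩
      obtain ⟨a, ha⟩ : (T.filter fun a => (p : Z) * a = z).Nonempty := by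
        rw [nonempty_iff_ne_empty]
        rintro e
        exact hz (by rw [e, card_empty]; exact dvd_zero p)
      rw [SetLike.mem_coe, AddMonoidHom.mem_ker, ← (mem_filter.1 ha).2]
      exact red_p_mul hm a
  have hne : 0 < F.card := card_pos.2 ⟨x, mem_filter.2 ⟨hx, rfl⟩⟩
  set A : Finset Z := univ.image fun j : ZMod p => x + emb p m j
  have hall : ∀ a, (p : Z) * a = (p : Z) * x → a ∈ A := by
    intro a ha
    obtain ⟨j, hj⟩ := eq_emb_of_p_mul hm (a - x) (by rw [mul_sub, ha, sub_self])
    exact mem_image.2 ⟨j, mem_univ _, by rw [← hj]; ring⟩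
  have hA : A.card ≤ p := card_image_le.trans (by rw [card_univ, ZMod.card])
  have hFA : F = A := eq_of_subset_of_card_le (fun a ha => hall a (mem_filter.1 ha).2)
    (hA.trans (Nat.le_of_dvd hne hd))
  exact (mem_filter.1 (hFA ▸ hall y hy)).1

/-- In the primitive case every orbit meets the subgroup of order `p`. -/
theorem meets_socle (hT : ∀ c, Equiv.addRight c ∈ G)
    (hprim : ∀ D : AddSubgroup Z, InvSet G (D : Set Z) → D = ⊥ ∨ D = ⊤)
    {x : Z} (hx : x ≠ 0) : ∃ j, Rel G x (emb p m j) := by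
  classical
  by_contra hne
  push_neg at hne
  set T : Finset Z := univ.filter (Rel G x)
  have hmem : ∀ a, a ∈ T ↔ Rel G x a := fun a => by simp [T]
  have hTi : InvSet G (T : Set Z) := fun a b hab ha =>
    (hmem b).2 (rel_trans ((hmem a).1 ha) hab)
  let D : AddSubgroup Z :=
    { carrier := {s | ∀ t ∈ T, t - s ∈ T}
      add_mem' := fun {a b} ha hb t ht => by rw [← sub_sub]; exact hb _ (ha t ht)
      zero_mem' := fun t ht => by rwa [sub_zero]
      neg_mem' := fun {a} ha t ht => by
        have himg : T.image (fun t => t - a) = T :=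
          eq_of_subset_of_card_le (fun y hy => by
            obtain ⟨t, ht, rfl⟩ := mem_image.1 hy; exact ha t ht)
            (card_image_of_injective T (sub_left_injective)).ge
        rw [← himg] at ht
        obtain ⟨t', ht', rfl⟩ := mem_image.1 ht
        rwa [sub_neg_eq_add, sub_add_cancel] }
  have hDi : InvSet G (D : Set Z) := by
    rintro s s' ⟨σ, hσ, h0, rfl⟩ hs t ht
    have h1 : σ.symm t ∈ T :=
      hTi _ _ (rel_symm ⟨σ, hσ, h0, σ.apply_symm_apply t⟩) ht
    have h2 := hTi _ _ (rel_shift hT hσ s (σ.symm t - s)) (hs _ h1)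
    rwa [add_sub_cancel, σ.apply_symm_apply] at h2
  have hu : u0 p m ∈ D := fun t ht => by
    refine coset_orbit hm hT hprim T hTi ht (fun h => ?_) (by rw [mul_sub, p_mul_u0 hm, sub_zero])
    obtain ⟨j, rfl⟩ := eq_emb_of_p_mul hm t h
    exact hne j ((hmem _).1 ht)
  rcases hprim D hDi with e | e
  · rw [e, AddSubgroup.mem_bot] at hu
    exact u0_ne_zero hm hu
  · have h : x ∈ D := by rw [e]; trivial
    have := h x ((hmem x).2 (rel_refl x))
    rw [sub_self] at this
    exact hx (rel_zero ((hmem 0).1 this))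

/-- Evaluation at a character. -/
noncomputable def ev (b : Z) : AddMonoidAlgebra ℂ Z →ₐ[ℂ] ℂ :=
  AddMonoidAlgebra.lift ℂ ℂ Z (AddChar.mulShift (ZMod.stdAddChar (N := p ^ m)) b).toMonoidHom

omit hm in
theorem ev_apply (b : Z) (a : AddMonoidAlgebra ℂ Z) :
    ev b a = ∑ x, a.coeff x * ZMod.stdAddChar (b * x) := by
  classical
  induction a using AddMonoidAlgebra.induction_linear with
  | zero => simp
  | add a c ha hc => simp [ha, hc, add_mul, sum_add_distrib]
  | single x r =>
    simp [ev, AddMonoidAlgebra.lift_single, Finsupp.single_apply, AddChar.mulShift_apply]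

omit hm in
theorem ev_ind (b : Z) (T : Finset Z) :
    ev b (ind T) = ∑ x ∈ T, ZMod.stdAddChar (b * x) := by
  classical
  simp [ev_apply, coeff_ind, sum_ite_mem]

/-- Some faithful character agrees with a character of order `p` on a given orbit. -/
theorem exists_faithful (hT : ∀ c, Equiv.addRight c ∈ G)
    (hmeet : ∀ x : Z, x ≠ 0 → ∃ j, Rel G x (emb p m j))
    (T : Finset Z) (hTi : InvSet G (T : Set Z)) :
    ∃ b, red hm b ≠ 0 ∧ ev b (ind T) = ev (u0 p m) (ind T) := by
  classical
  by_contra hne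
  push_neg at hne
  set a0 : AddMonoidAlgebra ℂ Z :=
    ∏ b ∈ univ.filter (fun b => red hm b ≠ 0),
      ((ind T : AddMonoidAlgebra ℂ Z) - ev b (ind T) • 1) with ha0
  set a : AddMonoidAlgebra ℂ Z := a0 * (ind univ - ((p ^ m : ℕ) : ℂ) • 1) with ha
  have hai : InvA G a := by
    refine invA_mul hT ?_ (invA_sub (invA_ind (fun _ _ _ _ => by simp)) (invA_smul _ invA_one))
    exact prod_induction _ (InvA G) (fun _ _ => invA_mul hT) invA_one
      (fun b _ => invA_sub (invA_ind hTi) (invA_smul _ invA_one))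
  have hsum : ∀ b : Z, ev b (ind univ) = if b = 0 then ((p ^ m : ℕ) : ℂ) else 0 := by
    intro b
    rw [ev_ind]
    have := AddChar.sum_mulShift b (ZMod.isPrimitive_stdAddChar (p ^ m))
    simp only [mul_comm _ b, ZMod.card] at this
    simpa using this
  have h0 : ev 0 a = 0 := by simp [ha, hsum]
  have hfaith : ∀ b, red hm b ≠ 0 → ev b a = 0 := by
    intro b hb
    rw [ha, map_mul, ha0, map_prod, prod_eq_zero (mem_filter.2 ⟨mem_univ b, hb⟩) (by simp),
      zero_mul]
  have hu : ev (u0 p m) a ≠ 0 := by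
    rw [ha, map_mul, map_sub, hsum, if_neg (u0_ne_zero hm), map_smul, map_one, ha0, map_prod]
    refine mul_ne_zero (prod_ne_zero_iff.2 fun b hb => ?_) ?_
    · simp [sub_eq_zero, (hne b (mem_filter.1 hb).2).symm]
    · simp [hp.out.ne_zero]
  let g : Z → ℂ := fun y => a.coeff (y + u0 p m) - a.coeff y
  have hg : g = 0 := by
    refine ZMod.dft.injective ?_
    rw [map_zero]
    funext k
    have e1 : ∑ j : Z, ZMod.stdAddChar (-(j * k)) * a.coeff (j + u0 p m) =
        ZMod.stdAddChar (u0 p m * k) * ev (-k) a := by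
      rw [ev_apply, mul_sum, ← Equiv.sum_comp (Equiv.addRight (-u0 p m))]
      refine sum_congr rfl fun j _ => ?_
      simp only [Equiv.coe_addRight, neg_add_cancel_right]
      rw [mul_left_comm, ← AddChar.map_add_eq_mul, mul_comm]
      congr 2
      ring
    have e2 : ∑ j : Z, ZMod.stdAddChar (-(j * k)) * a.coeff j = ev (-k) a := by
      rw [ev_apply]
      refine sum_congr rfl fun j _ => ?_
      rw [mul_comm]
      congr 2
      ring
    rw [ZMod.dft_apply]
    simp only [g, smul_eq_mul, mul_sub, sum_sub_distrib, e1, e2, Pi.zero_apply]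
    by_cases hk : red hm k = 0
    · rw [mul_comm (u0 p m) k, mul_u0 hm, hk, (emb_eq_zero hm).2 rfl, AddChar.map_zero_eq_one,
        one_mul, sub_self]
    · rw [hfaith (-k) (by rwa [map_neg, neg_ne_zero]), mul_zero, sub_zero]
  have hper : ∀ c : ℕ, a.coeff ((c : Z) * u0 p m) = a.coeff 0 := by
    intro c
    induction c with
    | zero => simp
    | succ c ih =>
      rw [← ih, Nat.cast_succ, add_mul, one_mul]
      exact sub_eq_zero.1 (congrFun hg ((c : Z) * u0 p m))
  have hconst : ∀ x, a.coeff x = a.coeff 0 := by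
    intro x
    by_cases hx : x = 0
    · rw [hx]
    · obtain ⟨j, hj⟩ := hmeet x hx
      rw [hai _ _ hj]
      exact hper j.val
  apply hu
  rw [ev_apply] at h0 ⊢
  simp only [hconst, zero_mul, AddChar.map_zero_eq_one, mul_one, sum_const, card_univ,
    nsmul_eq_mul, mul_eq_zero, Nat.cast_eq_zero] at h0
  rcases h0 with h0 | h0
  · exact absurd h0 Fintype.card_ne_zero
  · simp [hconst, h0]

/-- A character of order `p` on `ZMod (p ^ m)` in terms of the root of unity it determines. -/
theorem char_emb (j : ZMod p) :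
    ZMod.stdAddChar (emb p m j) = ZMod.stdAddChar (u0 p m) ^ j.val := by
  rw [emb, ← nsmul_eq_mul, AddChar.map_nsmul_eq_pow]

theorem isPrimitiveRoot_char : IsPrimitiveRoot (ZMod.stdAddChar (u0 p m) : ℂ) p := by
  rw [IsPrimitiveRoot.iff_orderOf]
  refine orderOf_eq_prime ?_ ?_
  · rw [← AddChar.map_nsmul_eq_pow, nsmul_eq_mul, p_mul_u0 hm, AddChar.map_zero_eq_one]
  · intro h
    exact u0_ne_zero hm (ZMod.injective_stdAddChar (h.trans (AddChar.map_zero_eq_one _).symm))

/-- Two equal combinations of the powers of a `p`-th root of unity differ by a constant. -/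
theorem coeff_const {ι κ : Type*} (s : Finset ι) (t : Finset κ) (f : ι → ZMod p) (g : κ → ZMod p)
    (h : ∑ x ∈ s, (ZMod.stdAddChar (u0 p m) : ℂ) ^ (f x).val =
      ∑ x ∈ t, (ZMod.stdAddChar (u0 p m) : ℂ) ^ (g x).val) (i j : ZMod p) :
    ((s.filter fun x => f x = i).card : ℤ) - ((t.filter fun x => g x = i).card : ℤ) =
      ((s.filter fun x => f x = j).card : ℤ) - ((t.filter fun x => g x = j).card : ℤ) := by
  classical
  set η : ℂ := ZMod.stdAddChar (u0 p m)
  let c : ZMod p → ℤ := fun i =>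
    ((s.filter fun x => f x = i).card : ℤ) - ((t.filter fun x => g x = i).card : ℤ)
  have hsum : ∑ i : ZMod p, (c i : ℂ) * η ^ i.val = 0 := by
    rw [← sum_fiberwise s f, ← sum_fiberwise t g] at h
    have h1 : ∀ i, ∑ x ∈ s.filter (fun x => f x = i), η ^ (f x).val =
          ((s.filter fun x => f x = i).card : ℂ) * η ^ i.val := fun i => by
      rw [← nsmul_eq_mul, ← sum_const]
      exact sum_congr rfl fun x hx => by rw [(mem_filter.1 hx).2]
    have h1' : ∀ i, ∑ x ∈ t.filter (fun x => g x = i), η ^ (g x).val =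
          ((t.filter fun x => g x = i).card : ℂ) * η ^ i.val := fun i => by
      rw [← nsmul_eq_mul, ← sum_const]
      exact sum_congr rfl fun x hx => by rw [(mem_filter.1 hx).2]
    simp only [h1, h1'] at h
    simp only [c, Int.cast_sub, Int.cast_natCast, sub_mul, sum_sub_distrib, h, sub_self]
  have hval : ∀ i : Fin p, ((i.val : ZMod p)).val = i.val := fun i => ZMod.val_natCast_of_lt i.2
  let e : Fin p ≃ ZMod p :=
    { toFun := fun i => (i.val : ZMod p)
      invFun := fun x => ⟨x.val, ZMod.val_lt x⟩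
      left_inv := fun i => Fin.ext (hval i)
      right_inv := fun x => ZMod.natCast_zmod_val x }
  have hsum' : ∑ i : Fin p, ((c (e i) : ℤ) : ℂ) * η ^ i.val = 0 := by
    refine Eq.trans ?_ hsum
    exact Fintype.sum_equiv e _ _ fun i => by show _ = _ * η ^ ((i.val : ZMod p)).val; rw [hval]
  have := (IsPrimitiveRoot.sum_eq_zero_iff_forall_eq_int hp.out (isPrimitiveRoot_char hm) _).1 hsum' (e.symm i) (e.symm j)
  simpa [c] using this

/-- **Schur–Wielandt.** A permutation group on `ZMod (p ^ m)` containing the translations and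
not doubly transitive preserves the cosets of a nontrivial proper subgroup. -/
theorem exists_invariant_subgroup (hT : ∀ c, Equiv.addRight c ∈ G)
    (h2 : ¬ ∀ x y : Z, x ≠ 0 → y ≠ 0 → Rel G x y) :
    ∃ D : AddSubgroup Z, D ≠ ⊥ ∧ D ≠ ⊤ ∧ InvSet G (D : Set Z) := by
  classical
  by_contra hne
  push_neg at hne
  have hprim : ∀ D : AddSubgroup Z, InvSet G (D : Set Z) → D = ⊥ ∨ D = ⊤ := fun D hD => by
    by_cases h : D = ⊥
    · exact Or.inl h
    · by_contra h'
      exact hne D h (fun e => h' (Or.inr e)) hD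
  have hmeet : ∀ x : Z, x ≠ 0 → ∃ j, Rel G x (emb p m j) := fun x hx =>
    meets_socle hm hT hprim hx
  set T : Finset Z := univ.filter (Rel G (u0 p m))
  have hmem : ∀ a, a ∈ T ↔ Rel G (u0 p m) a := fun a => by simp [T]
  have hTi : InvSet G (T : Set Z) := fun a b hab ha =>
    (hmem b).2 (rel_trans ((hmem a).1 ha) hab)
  have hu : u0 p m ∈ T := (hmem _).2 (rel_refl _)
  have h0 : (0 : Z) ∉ T := fun h => u0_ne_zero hm (rel_zero ((hmem 0).1 h))
  obtain ⟨j0, hj0, hj0T⟩ : ∃ j : ZMod p, j ≠ 0 ∧ emb p m j ∉ T := by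
    by_contra hall
    push_neg at hall
    have hx' : ∀ x, x ≠ 0 → Rel G (u0 p m) x := fun x hx => by
      obtain ⟨j, hj⟩ := hmeet x hx
      have hj0 : j ≠ 0 := fun e => by
        rw [e, (emb_eq_zero hm).2 rfl] at hj
        exact hx (rel_zero hj)
      exact rel_trans ((hmem _).1 (hall j hj0)) (rel_symm hj)
    exact h2 fun x y hx hy => rel_trans (rel_symm (hx' x hx)) (hx' y hy)
  obtain ⟨x1, hx1, hx1u⟩ : ∃ x ∈ T, red hm x ≠ 0 := by
    by_contra hall
    push_neg at hall
    refine u0_ne_zero hm (subset_zero hT hprim hTi (H := (red hm).toAddMonoidHom.ker) ?_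
      (fun x hx => hall x hx) _ hu)
    intro e
    have : (1 : Z) ∈ (red hm).toAddMonoidHom.ker := by rw [e]; trivial
    exact one_ne_zero ((map_one (red hm)).symm.trans (AddMonoidHom.mem_ker.1 this))
  have hmiss : ∀ y ∈ T, red hm y ≠ red hm x1 * j0 := by
    intro y hy e
    obtain ⟨v, hv⟩ := isUnit_of_red hm x1 hx1u
    set k : Z := y * ↑v⁻¹
    have hk1 : k * x1 = y := by rw [← hv]; simp [k]
    have hkr : red hm k = j0 := by
      have := congrArg (red hm) hk1
      rw [map_mul, e, mul_comm (red hm x1)] at this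
      exact mul_right_cancel₀ hx1u this
    have hk : IsUnit k := isUnit_of_red hm k (by rw [hkr]; exact hj0)
    have h1 := rel_mul hT hk (rel_symm ((hmem x1).1 hx1))
    rw [hk1, mul_u0 hm, hkr] at h1
    exact hj0T ((hmem _).2 (rel_trans ((hmem y).1 hy) h1))
  obtain ⟨b, hb, hbeq⟩ := exists_faithful hm hT hmeet T hTi
  set U : Finset (ZMod p) := univ.filter fun j => emb p m j ∈ T
  have hlhs : ev b (ind T) =
      ∑ j ∈ U, (ZMod.stdAddChar (u0 p m) : ℂ) ^ (red hm b * j).val := by
    rw [ev_ind, ← sum_filter_add_sum_filter_not T (fun x => (p : Z) * x = 0)]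
    have hB : ∑ x ∈ T.filter (fun x => ¬ (p : Z) * x = 0), ZMod.stdAddChar (b * x) = (0 : ℂ) := by
      have hne1 : (ZMod.stdAddChar (b * u0 p m) : ℂ) ≠ 1 := fun h => by
        have := ZMod.injective_stdAddChar (h.trans (AddChar.map_zero_eq_one _).symm)
        rw [mul_u0 hm, emb_eq_zero hm] at this
        exact hb this
      set B := T.filter (fun x => ¬ (p : Z) * x = 0)
      have hshift : B.image (fun x => x + u0 p m) = B := by
        refine eq_of_subset_of_card_le (fun y hy => ?_)
          (card_image_of_injective B (add_left_injective _)).ge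
        obtain ⟨x, hx, rfl⟩ := mem_image.1 hy
        obtain ⟨hxT, hpx⟩ := mem_filter.1 hx
        have he : (p : Z) * (x + u0 p m) = (p : Z) * x := by rw [mul_add, p_mul_u0 hm, add_zero]
        exact mem_filter.2 ⟨coset_orbit hm hT hprim T hTi hxT hpx he, by rw [he]; exact hpx⟩
      have : (ZMod.stdAddChar (b * u0 p m) : ℂ) * ∑ x ∈ B, ZMod.stdAddChar (b * x) =
          ∑ x ∈ B, ZMod.stdAddChar (b * x) := by
        conv_rhs => rw [← hshift, sum_image (fun _ _ _ _ h => add_left_injective _ h)]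
        rw [mul_sum]
        refine sum_congr rfl fun x _ => ?_
        rw [mul_add, AddChar.map_add_eq_mul, mul_comm]
      by_contra h
      exact hne1 (mul_eq_right₀ h |>.1 this)
    rw [hB, add_zero]
    have hA : T.filter (fun x => (p : Z) * x = 0) = U.image (emb p m) := by
      ext x
      simp only [mem_filter, mem_image, U, mem_univ, true_and]
      constructor
      · rintro ⟨hxT, hpx⟩
        obtain ⟨j, rfl⟩ := eq_emb_of_p_mul hm x hpx
        exact ⟨j, hxT, rfl⟩
      · rintro ⟨j, hj, rfl⟩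
        exact ⟨hj, p_mul_emb hm j⟩
    rw [hA, sum_image]
    · refine sum_congr rfl fun j _ => ?_
      rw [mul_emb hm, char_emb hm]
    · intro i _ j _ h
      have : ∀ j : ZMod p, (j.val : Z) * u0 p m = emb p m j := fun _ => rfl
      have h' : emb p m (i - j) = 0 := by
        have h3 := mul_u0 hm ((i.val : Z) - (j.val : Z))
        rw [sub_mul, map_sub, map_natCast, map_natCast, ZMod.natCast_zmod_val,
          ZMod.natCast_zmod_val, this, this, h, sub_self] at h3
        exact h3.symm
      exact sub_eq_zero.1 ((emb_eq_zero hm).1 h')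
  have hrhs : ev (u0 p m) (ind T) =
      ∑ x ∈ T, (ZMod.stdAddChar (u0 p m) : ℂ) ^ (red hm x).val := by
    rw [ev_ind]
    refine sum_congr rfl fun x _ => ?_
    rw [mul_comm, mul_u0 hm, char_emb hm]
  have key := coeff_const hm T U (red hm) (fun j => red hm b * j)
    (hrhs.symm.trans (hbeq.symm.trans hlhs)) 0 (red hm x1 * j0)
  have e1 : 0 < (T.filter fun x => red hm x = 0).card :=
    card_pos.2 ⟨u0 p m, mem_filter.2 ⟨hu, red_u0 hm⟩⟩
  have e2 : (U.filter fun j => red hm b * j = 0) = ∅ := by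
    refine filter_eq_empty_iff.2 fun {j} hj h => ?_
    rcases mul_eq_zero.1 h with h | h
    · exact hb h
    · simp [U, h, (emb_eq_zero hm).2 rfl, h0] at hj
  have e3 : (T.filter fun x => red hm x = red hm x1 * j0) = ∅ :=
    filter_eq_empty_iff.2 fun {y} hy => hmiss y hy
  simp only [e2, e3, card_empty, Nat.cast_zero] at key
  omega

end primePower

end Cfsg.Agent.CyclicBGroup72
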