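import Mathlib
import Cfsg.Agent.Lib.BlockPrimeTools86
import Cfsg.Agent.Lib.BlockTheoryIdem

/-!
# Representations in characteristic `p`: filtrations, trace functions on the regular elements

Elements killed by all irreducible representations are nilpotent, trace functions of representations
are combinations of irreducible ones, and these span the class functions on the `p`-regular elements.
-/

set_option autoImplicit false
set_option linter.style.haveILetI false

namespace Cfsg.Agent.CyclicRep42

open Cfsg.Agent.BlockPrime86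

attribute [local instance] Classical.propDecidable

universe u

variable {k : Type} [Field k] {G : Type u} [Group G]

section Filtration

variable {V : Type u} [AddCommGroup V] [Module k V] (ρ : Representation k G V)

/-- An invariant subspace as a representation. -/
def subRep (U : Submodule k V) (hU : ∀ g, ∀ x ∈ U, ρ g x ∈ U) : Representation k G U where
  toFun g := (ρ g).restrict (hU g)
  map_one' := by ext x; simp [LinearMap.restrict_apply]
  map_mul' g h := by ext x; simp [LinearMap.restrict_apply]

/-- The quotient by an invariant subspace as a representation. -/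
def quotRep (U : Submodule k V) (hU : ∀ g, ∀ x ∈ U, ρ g x ∈ U) : Representation k G (V ⧸ U) where
  toFun g := U.mapQ U (ρ g) fun x hx => hU g x hx
  map_one' := by ext x; simp
  map_mul' g h := by ext x; simp

variable {ρ}

theorem subRep_apply {U : Submodule k V} (hU : ∀ g, ∀ x ∈ U, ρ g x ∈ U) (g : G) (x : U) :
    (subRep ρ U hU g x : V) = ρ g x := rfl

theorem quotRep_apply {U : Submodule k V} (hU : ∀ g, ∀ x ∈ U, ρ g x ∈ U) (g : G) (x : V) :
    quotRep ρ U hU g (U.mkQ x) = U.mkQ (ρ g x) := rfl

theorem asAlg_eq_sum [Fintype G] (ρ : Representation k G V) (z : MonoidAlgebra k G) :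
    ρ.asAlgebraHom z = ∑ g : G, z.coeff g • ρ g := by
  conv_lhs => rw [← MonoidAlgebra.sum_coeff_single z, Finsupp.sum_fintype _ _ fun g => by simp, map_sum]
  exact Finset.sum_congr rfl fun g _ => Representation.asAlgebraHom_single ρ g _

theorem asAlg_subRep [Fintype G] {U : Submodule k V} (hU : ∀ g, ∀ x ∈ U, ρ g x ∈ U)
    (z : MonoidAlgebra k G) (x : U) :
    ((subRep ρ U hU).asAlgebraHom z x : V) = ρ.asAlgebraHom z x := by
  simp [asAlg_eq_sum, subRep_apply]

theorem asAlg_quotRep [Fintype G] {U : Submodule k V} (hU : ∀ g, ∀ x ∈ U, ρ g x ∈ U)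
    (z : MonoidAlgebra k G) (x : V) :
    (quotRep ρ U hU).asAlgebraHom z (U.mkQ x) = U.mkQ (ρ.asAlgebraHom z x) := by
  simp only [asAlg_eq_sum, LinearMap.sum_apply, LinearMap.smul_apply, quotRep_apply, map_sum, map_smul]

theorem asAlg_mem [Fintype G] {U : Submodule k V} (hU : ∀ g, ∀ x ∈ U, ρ g x ∈ U)
    (z : MonoidAlgebra k G) {x : V} (hx : x ∈ U) : ρ.asAlgebraHom z x ∈ U := by
  rw [asAlg_eq_sum, LinearMap.sum_apply]
  exact U.sum_mem fun g _ => U.smul_mem _ (hU g x hx)

variable [FiniteDimensional k V]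

theorem finrank_sub_lt {U : Submodule k V} (hT : U ≠ ⊤) :
    Module.finrank k U < Module.finrank k V := Submodule.finrank_lt hT

theorem finrank_quot_lt {U : Submodule k V} (hB : U ≠ ⊥) :
    Module.finrank k (V ⧸ U) < Module.finrank k V := by
  have h := U.finrank_quotient_add_finrank
  have h0 : Module.finrank k U ≠ 0 := fun e => hB (Submodule.finrank_eq_zero.1 e)
  omega

end Filtration

section Kill

variable [Fintype G]

/-- An element killed by every irreducible representation acts nilpotently. -/
theorem isNilpotent_of_kill (z : MonoidAlgebra k G)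
    (hz : ∀ (W : Type u) [AddCommGroup W] [Module k W] [FiniteDimensional k W]
      (σ : Representation k G W), Irred σ → σ.asAlgebraHom z = 0) :
    ∀ (n : ℕ) {V : Type u} [AddCommGroup V] [Module k V] [FiniteDimensional k V]
      (ρ : Representation k G V), Module.finrank k V ≤ n → IsNilpotent (ρ.asAlgebraHom z) := by
  intro n
  induction n with
  | zero =>
    intro V _ _ _ ρ hn
    haveI : Subsingleton V := Module.finrank_zero_iff.1 (Nat.le_zero.1 hn)
    exact ⟨1, Subsingleton.elim _ _⟩
  | succ n ih =>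
    intro V _ _ _ ρ hn
    by_cases hirr : Irred ρ
    · exact ⟨1, by rw [pow_one, hz V ρ hirr]⟩
    rcases subsingleton_or_nontrivial V with hV | hV
    · exact ⟨1, Subsingleton.elim _ _⟩
    obtain ⟨U, hU, hne⟩ : ∃ U : Submodule k V, (∀ g, ∀ x ∈ U, ρ g x ∈ U) ∧ ¬(U = ⊥ ∨ U = ⊤) := by
      by_contra h
      exact hirr ⟨hV, fun U hU => by by_contra hc; exact h ⟨U, hU, hc⟩⟩
    push Not at hne
    obtain ⟨a, ha⟩ := ih (subRep ρ U hU) (by have := finrank_sub_lt (k := k) hne.2; omega)
    obtain ⟨b, hb⟩ := ih (quotRep ρ U hU) (by have := finrank_quot_lt (k := k) hne.1; omega)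
    refine ⟨a + b, LinearMap.ext fun x => ?_⟩
    have hmem : (ρ.asAlgebraHom z ^ b) x ∈ U := by
      have key : ∀ j, ((quotRep ρ U hU).asAlgebraHom z ^ j) (U.mkQ x) =
          U.mkQ ((ρ.asAlgebraHom z ^ j) x) := by
        intro j
        induction j with
        | zero => rfl
        | succ j ihj => rw [pow_succ', pow_succ', Module.End.mul_apply, ihj, asAlg_quotRep,
            Module.End.mul_apply]
      rw [← Submodule.Quotient.mk_eq_zero, ← Submodule.mkQ_apply, ← key, hb]
      rfl
    have key : ∀ j (y : U), (((subRep ρ U hU).asAlgebraHom z ^ j) y : V) =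
        (ρ.asAlgebraHom z ^ j) y := by
      intro j
      induction j with
      | zero => exact fun y => rfl
      | succ j ihj =>
        intro y
        rw [pow_succ', pow_succ', Module.End.mul_apply, asAlg_subRep, ihj, Module.End.mul_apply]
    rw [pow_add, Module.End.mul_apply]
    have h := key a ⟨_, hmem⟩
    rw [ha] at h
    exact h.symm

/-- An element of the group algebra killed by every irreducible representation is nilpotent. -/
theorem isNilpotent_of_irr (z : MonoidAlgebra k G)
    (hz : ∀ (W : Type u) [AddCommGroup W] [Module k W] [FiniteDimensional k W]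
      (σ : Representation k G W), Irred σ → σ.asAlgebraHom z = 0) : IsNilpotent z := by
  haveI : FiniteDimensional k (MonoidAlgebra k G) :=
    Module.Finite.equiv ((MonoidAlgebra.coeffLinearEquiv k).trans
      (Finsupp.linearEquivFunOnFinite k k G)).symm
  let ρ : Representation k G (MonoidAlgebra k G) :=
    { toFun := fun g => LinearMap.mulLeft k (MonoidAlgebra.single g 1)
      map_one' := by ext x; simp [← MonoidAlgebra.one_def]
      map_mul' := fun g h => LinearMap.ext fun x => by
        simp [← mul_assoc, MonoidAlgebra.single_mul_single] }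
  have hρ : ∀ w x, ρ.asAlgebraHom w x = w * x := by
    intro w x
    induction w using MonoidAlgebra.induction_linear with
    | zero => simp
    | add a b ha hb => simp [ha, hb, add_mul]
    | single g r =>
      rw [Representation.asAlgebraHom_single]
      show r • (MonoidAlgebra.single g 1 * x) = _
      rw [← smul_mul_assoc, MonoidAlgebra.smul_single', mul_one]
  obtain ⟨N, hN⟩ := isNilpotent_of_kill z hz _ ρ le_rfl
  refine ⟨N, ?_⟩
  have h := LinearMap.congr_fun hN 1
  rw [← map_pow, hρ, mul_one] at h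
  exact h

end Kill

section Trace

variable (k G)

/-- The trace functions of the irreducible representations satisfying a condition. -/
def irrTraces (P : ∀ (W : Type u) [AddCommGroup W] [Module k W], Representation k G W → Prop) :
    Set (G → k) :=
  {f | ∃ (W : Type u) (_ : AddCommGroup W) (_ : Module k W) (_ : FiniteDimensional k W)
    (σ : Representation k G W), Irred σ ∧ P W σ ∧ f = fun g => LinearMap.trace k W (σ g)}

variable {k G}

theorem trace_split {V : Type u} [AddCommGroup V] [Module k V] [FiniteDimensional k V]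
    {U : Submodule k V} (f : V →ₗ[k] V) (hf : ∀ x ∈ U, f x ∈ U) :
    LinearMap.trace k V f = LinearMap.trace k U (f.restrict hf) +
      LinearMap.trace k (V ⧸ U) (U.mapQ U f fun x hx => hf x hx) := by
  obtain ⟨s, hs⟩ := U.mkQ.exists_rightInverse_of_surjective U.range_mkQ
  let t : V →ₗ[k] U := LinearMap.codRestrict U (LinearMap.id - s.comp U.mkQ) fun x => by
    rw [← Submodule.Quotient.mk_eq_zero]
    show U.mkQ (x - s (U.mkQ x)) = 0
    rw [map_sub, show U.mkQ (s (U.mkQ x)) = U.mkQ x from LinearMap.congr_fun hs _, sub_self]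
  have hdec : f = U.subtype ∘ₗ (f.restrict hf ∘ₗ t) + (f ∘ₗ s) ∘ₗ U.mkQ := by
    ext x
    show f x = f (x - s (U.mkQ x)) + f (s (U.mkQ x))
    rw [map_sub, sub_add_cancel]
  conv_lhs => rw [hdec, map_add, LinearMap.trace_comp_comm', LinearMap.trace_comp_comm' U.mkQ]
  congr 1
  · congr 1
    refine LinearMap.ext fun x => ?_
    show f.restrict hf (t x) = f.restrict hf x
    congr 1
    refine Subtype.ext ?_
    show (x : V) - s (U.mkQ x) = x
    rw [show U.mkQ (x : V) = 0 from (Submodule.Quotient.mk_eq_zero U).2 x.2, map_zero, sub_zero]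
  · congr 1
    refine LinearMap.ext fun x => ?_
    show U.mkQ (f (s x)) = U.mapQ U f _ x
    conv_rhs => rw [← show U.mkQ (s x) = x from LinearMap.congr_fun hs x]
    rfl

/-- The trace of an endomorphism commuting with a representation, times the representation, is a
combination of irreducible trace functions; a condition inherited by subquotients is kept. -/
theorem trace_mem [IsAlgClosed k]
    (P : ∀ (W : Type u) [AddCommGroup W] [Module k W], Representation k G W → Prop)
    (hsub : ∀ (W : Type u) [AddCommGroup W] [Module k W] (σ : Representation k G W)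
      (U : Submodule k W) (hU : ∀ g, ∀ x ∈ U, σ g x ∈ U), P W σ →
        P U (subRep σ U hU) ∧ P (W ⧸ U) (quotRep σ U hU)) :
    ∀ (n : ℕ) {V : Type u} [AddCommGroup V] [Module k V] [FiniteDimensional k V]
      (ρ : Representation k G V) (T : V →ₗ[k] V), Module.finrank k V ≤ n → P V ρ →
      (∀ g x, T (ρ g x) = ρ g (T x)) →
      (fun g => LinearMap.trace k V (ρ g ∘ₗ T)) ∈ Submodule.span k (irrTraces k G P) := by
  intro n
  induction n with
  | zero =>
    intro V _ _ _ ρ T hn _ _
    haveI : Subsingleton V := Module.finrank_zero_iff.1 (Nat.le_zero.1 hn)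
    convert Submodule.zero_mem _ using 1
    funext g
    rw [Subsingleton.elim (ρ g ∘ₗ T) 0, map_zero]
    rfl
  | succ n ih =>
    intro V _ _ _ ρ T hn hP hT
    have key : ∀ U : Submodule k V, U ≠ ⊥ → U ≠ ⊤ → ∀ hU : ∀ g, ∀ x ∈ U, ρ g x ∈ U,
        (∀ x ∈ U, T x ∈ U) →
          (fun g => LinearMap.trace k V (ρ g ∘ₗ T)) ∈ Submodule.span k (irrTraces k G P) := by
      intro U h1 h2 hU hTU
      obtain ⟨hPs, hPq⟩ := hsub V ρ U hU hP
      have h3 := ih (subRep ρ U hU) (T.restrict hTU) (by have := finrank_sub_lt (k := k) h2; omega)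
        hPs fun g x => Subtype.ext (hT g x)
      have h4 := ih (quotRep ρ U hU) (U.mapQ U T fun x hx => hTU x hx)
        (by have := finrank_quot_lt (k := k) h1; omega) hPq fun g x => by
          obtain ⟨y, rfl⟩ := U.mkQ_surjective x
          show U.mkQ (T (ρ g y)) = U.mkQ (ρ g (T y))
          rw [hT]
      convert Submodule.add_mem _ h3 h4 using 1
      funext g
      rw [Pi.add_apply, trace_split (U := U) (ρ g ∘ₗ T) fun x hx => hU g _ (hTU x hx)]
      congr 1
      congr 1
      refine LinearMap.ext fun x => ?_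
      obtain ⟨y, rfl⟩ := U.mkQ_surjective x
      rfl
    rcases subsingleton_or_nontrivial V with hV | hV
    · convert Submodule.zero_mem _ using 1
      funext g
      rw [Subsingleton.elim (ρ g ∘ₗ T) 0, map_zero]
      rfl
    obtain ⟨c, hc⟩ := Module.End.exists_eigenvalue T
    have hE : ∀ g, ∀ x ∈ Module.End.eigenspace T c, ρ g x ∈ Module.End.eigenspace T c := by
      intro g x hx
      rw [Module.End.mem_eigenspace_iff] at hx ⊢
      rw [hT, hx, map_smul]
    by_cases htop : Module.End.eigenspace T c = ⊤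
    · have hsc : ∀ x, T x = c • x := fun x =>
        Module.End.mem_eigenspace_iff.1 (htop ▸ Submodule.mem_top)
      by_cases hirr : Irred ρ
      · have e : (fun g => LinearMap.trace k V (ρ g ∘ₗ T)) = c • fun g => LinearMap.trace k V (ρ g) := by
          funext g
          rw [show ρ g ∘ₗ T = c • ρ g from LinearMap.ext fun x => by simp [hsc], map_smul]
          rfl
        rw [e]
        exact Submodule.smul_mem _ _ (Submodule.subset_span
          ⟨V, inferInstance, inferInstance, inferInstance, ρ, hirr, hP, rfl⟩)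
      · obtain ⟨U, hU, hne⟩ : ∃ U : Submodule k V,
            (∀ g, ∀ x ∈ U, ρ g x ∈ U) ∧ ¬(U = ⊥ ∨ U = ⊤) := by
          by_contra h
          exact hirr ⟨hV, fun U hU => by by_contra hc; exact h ⟨U, hU, hc⟩⟩
        push Not at hne
        exact key U hne.1 hne.2 hU fun x hx => by rw [hsc]; exact U.smul_mem _ hx
    · exact key _ hc htop hE fun x hx => by
        rw [Module.End.mem_eigenspace_iff] at hx ⊢
        rw [hx, map_smul, hx]

end Trace

section Regular

variable {p : ℕ} [Fact p.Prime] [CharP k p]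

theorem trace_pElement {V : Type u} [AddCommGroup V] [Module k V] [FiniteDimensional k V]
    (ρ : Representation k G V) {x r : G} (hx : ∃ j, orderOf x = p ^ j) (hc : Commute x r) :
    LinearMap.trace k V (ρ (x * r)) = LinearMap.trace k V (ρ r) := by
  obtain ⟨j, hj⟩ := hx
  have hnil : IsNilpotent (ρ x - 1) := by
    refine ⟨p ^ j, ?_⟩
    have e : (ρ x - 1) ^ p ^ j =
        Polynomial.aeval (ρ x) ((Polynomial.X - 1 : Polynomial k) ^ p ^ j) := by simp
    rw [e, sub_pow_char_pow, one_pow]
    simp [← map_pow ρ, ← hj, pow_orderOf_eq_one]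
  have h2 : IsNilpotent ((ρ x - 1) * ρ r) :=
    (((hc.map ρ).sub_left (Commute.one_left _))).isNilpotent_mul_right hnil
  have h3 := (LinearMap.isNilpotent_trace_of_isNilpotent h2).eq_zero
  rw [sub_mul, one_mul, ← map_mul ρ, map_sub, sub_eq_zero] at h3
  exact h3

/-- Trace functions agree as soon as they do on the regular elements. -/
theorem trace_ext [Finite G] {ι : Type*} (s : Finset ι) (a : ι → k) (V : ι → Type u)
    [∀ i, AddCommGroup (V i)] [∀ i, Module k (V i)] [∀ i, FiniteDimensional k (V i)]
    (ρ : ∀ i, Representation k G (V i))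
    (h : ∀ g : G, ¬ p ∣ orderOf g → ∑ i ∈ s, a i * LinearMap.trace k (V i) (ρ i g) = 0) (g : G) :
    ∑ i ∈ s, a i * LinearMap.trace k (V i) (ρ i g) = 0 := by
  obtain ⟨x, r, rfl, hxr, hxp, hr⟩ :=
    BlockTheoryIdem.exists_pPart (p := p) (Fact.out : p.Prime) g
  rw [← h r hr]
  exact Finset.sum_congr rfl fun i _ => by rw [trace_pElement (p := p) (ρ i) hxp hxr]

/-- The indicator of a regular class on the regular elements is a combination of irreducible
trace functions. -/
theorem exists_indicator [Fintype G] [IsAlgClosed k] {r : G} (hr : ¬ p ∣ orderOf r) :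
    ∃ F ∈ Submodule.span k (irrTraces k G fun _ _ _ _ => True),
      ∀ g : G, ¬ p ∣ orderOf g → F g = if IsConj g r then 1 else 0 := by
  have hp : p.Prime := Fact.out
  obtain ⟨Q⟩ : Nonempty (Sylow p ↥(Subgroup.centralizer ({r} : Set G))) := inferInstance
  set R : Subgroup G := (Q : Subgroup ↥(Subgroup.centralizer ({r} : Set G))).map
    (Subgroup.centralizer ({r} : Set G)).subtype with hR
  have hRc : ∀ x ∈ R, r * x = x * r := by
    rintro _ ⟨x, -, rfl⟩
    exact (Subgroup.mem_centralizer_singleton_iff.1 x.2).symm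
  have hRp : IsPGroup p R := Q.isPGroup'.map _
  have hwd : ∀ a b : G, (a : G ⧸ R) = b → ((a * r : G) : G ⧸ R) = (b * r : G) := by
    intro a b h
    rw [QuotientGroup.eq] at h ⊢
    rw [show (a * r)⁻¹ * (b * r) = r⁻¹ * ((a⁻¹ * b) * r) by group, ← hRc _ h, inv_mul_cancel_left]
    exact h
  let rmul : G ⧸ R → G ⧸ R := fun ω => ((ω.out * r : G) : G ⧸ R)
  have hrmul : ∀ a : G, rmul (a : G ⧸ R) = ((a * r : G) : G ⧸ R) := fun a =>
    hwd _ _ (QuotientGroup.out_eq' _)
  let ρ : Representation k G (G ⧸ R → k) :=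
    { toFun := fun g => LinearMap.funLeft k k fun ω : G ⧸ R => g⁻¹ • ω
      map_one' := by
        refine LinearMap.ext fun F => funext fun ω => ?_
        show F ((1 : G)⁻¹ • ω) = F ω
        rw [inv_one, one_smul]
      map_mul' := fun g h => by
        refine LinearMap.ext fun F => funext fun ω => ?_
        show F ((g * h)⁻¹ • ω) = F (h⁻¹ • (g⁻¹ • ω))
        rw [mul_inv_rev, mul_smul] }
  let T : (G ⧸ R → k) →ₗ[k] (G ⧸ R → k) := LinearMap.funLeft k k rmul
  have hT : ∀ g x, T (ρ g x) = ρ g (T x) := by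
    intro g F
    funext ω
    obtain ⟨a, rfl⟩ := QuotientGroup.mk_surjective ω
    show F (g⁻¹ • rmul (a : G ⧸ R)) = F (rmul (g⁻¹ • (a : G ⧸ R)))
    rw [hrmul, MulAction.Quotient.smul_coe, MulAction.Quotient.smul_coe, hrmul, smul_eq_mul,
      smul_eq_mul, mul_assoc]
  have hF := trace_mem (k := k) (G := G) (fun _ _ _ _ => True) (fun _ _ _ _ _ _ _ => ⟨trivial, trivial⟩)
    _ ρ T le_rfl trivial hT
  set n : ℕ := (Q : Subgroup ↥(Subgroup.centralizer ({r} : Set G))).index with hn
  have hn0 : (n : k) ≠ 0 := by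
    rw [Ne, CharP.cast_eq_zero_iff k p]; exact Q.not_dvd_index
  refine ⟨(n : k)⁻¹ • fun g => LinearMap.trace k (G ⧸ R → k) (ρ g ∘ₗ T), Submodule.smul_mem _ _ hF,
    fun g hg => ?_⟩
  have htr : LinearMap.trace k (G ⧸ R → k) (ρ g ∘ₗ T) =
      ((Finset.univ.filter fun ω : G ⧸ R => rmul (g⁻¹ • ω) = ω).card : k) := by
    rw [LinearMap.trace_eq_matrix_trace k (Pi.basisFun k (G ⧸ R)), Matrix.trace]
    simp only [Matrix.diag, LinearMap.toMatrix_apply, Pi.basisFun_repr, Pi.basisFun_apply]
    rw [Finset.card_filter, Nat.cast_sum]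
    refine Finset.sum_congr rfl fun ω _ => ?_
    show (Pi.single ω (1 : k) : G ⧸ R → k) (rmul (g⁻¹ • ω)) = _
    rw [Pi.single_apply]
    split_ifs <;> simp
  -- the fixed cosets
  have hfix : ∀ a : G, rmul (g⁻¹ • (a : G ⧸ R)) = (a : G ⧸ R) ↔ a⁻¹ * g * a = r := by
    intro a
    rw [MulAction.Quotient.smul_coe, hrmul, QuotientGroup.eq, smul_eq_mul]
    constructor
    · intro h
      have h1 : r⁻¹ * (a⁻¹ * g * a) ∈ R := by
        rw [show r⁻¹ * (a⁻¹ * g * a) = (g⁻¹ * a * r)⁻¹ * a by group]; exact h
      obtain ⟨j, hj⟩ := IsPGroup.iff_orderOf.1 hRp ⟨_, h1⟩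
      rw [Subgroup.orderOf_mk] at hj
      have hreg : ¬ p ∣ orderOf (a⁻¹ * g * a) := by
        rw [show a⁻¹ * g * a = MulAut.conj a⁻¹ g by simp, MulEquiv.orderOf_eq]; exact hg
      set x := r⁻¹ * (a⁻¹ * g * a) with hx
      have hxr : r * x = x * r := hRc x h1
      have e : a⁻¹ * g * a = x * r := by rw [← hxr, hx, mul_inv_cancel_left]
      have h2 : Cfsg.IsPPart p (a⁻¹ * g * a) x := ⟨r, e.symm, hxr.symm, ⟨j, hj⟩, hr⟩
      have h3 : Cfsg.IsPPart p (a⁻¹ * g * a) 1 :=
        ⟨a⁻¹ * g * a, one_mul _, Commute.one_left _, ⟨0, by simp⟩, hreg⟩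
      have h4 : x = 1 := BlockTheoryIdem.pPart_unique hp h2 h3
      rw [e, h4, one_mul]
    · intro h
      rw [show (g⁻¹ * a * r)⁻¹ * a = r⁻¹ * (a⁻¹ * g * a) by group, h, inv_mul_cancel]
      exact R.one_mem
  have hcount : (Finset.univ.filter fun ω : G ⧸ R => rmul (g⁻¹ • ω) = ω).card =
      if IsConj g r then n else 0 := by
    split_ifs with hc
    · obtain ⟨c, hc⟩ := isConj_iff.1 hc
      have hcount2 : (Finset.univ.filter fun ω : G ⧸ R => rmul (g⁻¹ • ω) = ω) =
          (Finset.univ.filter fun x : G => x ∈ Subgroup.centralizer ({r} : Set G)).image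
            fun x => ((c⁻¹ * x : G) : G ⧸ R) := by
        ext ω
        simp only [Finset.mem_filter, Finset.mem_univ, true_and, Finset.mem_image]
        obtain ⟨a, rfl⟩ := QuotientGroup.mk_surjective ω
        rw [hfix]
        constructor
        · intro h
          refine ⟨c * a, Subgroup.mem_centralizer_singleton_iff.2 ?_, by rw [inv_mul_cancel_left]⟩
          calc c * a * r = c * a * (a⁻¹ * g * a) := by rw [h]
            _ = (c * g * c⁻¹) * (c * a) := by group
            _ = r * (c * a) := by rw [hc]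
        · rintro ⟨x, hx, he⟩
          rw [QuotientGroup.eq] at he
          have hax : a = c⁻¹ * x * ((c⁻¹ * x)⁻¹ * a) := by group
          set y := (c⁻¹ * x)⁻¹ * a
          rw [hax]
          have e1 : x⁻¹ * (c * g * c⁻¹) * x = r := by
            rw [hc, mul_assoc, ← Subgroup.mem_centralizer_singleton_iff.1 hx, inv_mul_cancel_left]
          calc (c⁻¹ * x * y)⁻¹ * g * (c⁻¹ * x * y) = y⁻¹ * (x⁻¹ * (c * g * c⁻¹) * x) * y := by group
            _ = r := by rw [e1, mul_assoc, hRc y he, inv_mul_cancel_left]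
      rw [hcount2]
      have hmem : ∀ x : G, x ∈ R ↔ ∃ y : ↥(Subgroup.centralizer ({r} : Set G)),
          y ∈ (Q : Subgroup ↥(Subgroup.centralizer ({r} : Set G))) ∧ (y : G) = x := fun x =>
        Subgroup.mem_map
      rw [hn, Subgroup.index, Nat.card_eq_fintype_card, ← Finset.card_univ]
      refine (Finset.card_bij (fun q _ => ((c⁻¹ * ((q.out : ↥(Subgroup.centralizer ({r} : Set G))) : G) : G) : G ⧸ R)) ?_ ?_ ?_).symm
      · intro q _
        exact Finset.mem_image.2 ⟨_, Finset.mem_filter.2 ⟨Finset.mem_univ _, q.out.2⟩, rfl⟩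
      · intro q _ q' _ h
        rw [QuotientGroup.eq, show (c⁻¹ * (q.out : G))⁻¹ * (c⁻¹ * (q'.out : G)) =
          ((q.out⁻¹ * q'.out : ↥(Subgroup.centralizer ({r} : Set G))) : G) by push_cast; group,
          hmem] at h
        obtain ⟨y, hy, hye⟩ := h
        rw [← QuotientGroup.out_eq' q, ← QuotientGroup.out_eq' q', QuotientGroup.eq]
        rwa [← Subtype.ext hye]
      · intro ω hω
        obtain ⟨x, hx, rfl⟩ := Finset.mem_image.1 hω
        set xC : ↥(Subgroup.centralizer ({r} : Set G)) := ⟨x, (Finset.mem_filter.1 hx).2⟩ with hxC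
        refine ⟨(xC : _ ⧸ (Q : Subgroup ↥(Subgroup.centralizer ({r} : Set G)))), Finset.mem_univ _, ?_⟩
        obtain ⟨s, hs⟩ := QuotientGroup.mk_out_eq_mul
          (Q : Subgroup ↥(Subgroup.centralizer ({r} : Set G))) xC
        rw [hs, QuotientGroup.eq]
        refine (hmem _).2 ⟨_, inv_mem s.2, ?_⟩
        rw [hxC]
        push_cast
        group
    · rw [Finset.card_eq_zero, Finset.filter_eq_empty_iff]
      intro ω _
      obtain ⟨a, rfl⟩ := QuotientGroup.mk_surjective ω
      rw [hfix]
      exact fun h => hc (isConj_iff.2 ⟨a⁻¹, by rw [inv_inv]; exact h⟩)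
  rw [Pi.smul_apply, htr, hcount, smul_eq_mul]
  split_ifs
  · exact inv_mul_cancel₀ hn0
  · simp

end Regular

end Cfsg.Agent.CyclicRep42
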