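import Mathlib
import Cfsg.Agent.Lib.BrandtAlgebra42

/-!
# Symmetric algebras with one simple module and at most four independent trace functionals

Such an algebra is Morita equivalent to a commutative local algebra of dimension at most the number
of independent trace functionals (Külshammer's theorem on small centres).
-/

set_option autoImplicit false
set_option linter.style.haveILetI false

namespace Cfsg.Agent.LocalSymAlg42

open BrandtAlgebra42

attribute [local instance] Classical.propDecidable

variable {k : Type*} [Field k] {A : Type*} [Ring A] [Algebra k A]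

/-- The span of the commutators of a subspace. -/
def commSpan (R : Submodule k A) : Submodule k A :=
  Submodule.span k {z | ∃ a ∈ R, ∃ b ∈ R, z = a * b - b * a}

theorem mem_commSpan {R : Submodule k A} {a b : A} (ha : a ∈ R) (hb : b ∈ R) :
    a * b - b * a ∈ commSpan R := Submodule.subset_span ⟨a, ha, b, hb, rfl⟩

theorem commSpan_le_sq (R : Submodule k A) : commSpan R ≤ R * R := by
  refine Submodule.span_le.2 ?_
  rintro _ ⟨a, ha, b, hb, rfl⟩
  exact sub_mem (Submodule.mul_mem_mul ha hb) (Submodule.mul_mem_mul hb ha)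

theorem pow_le_self {R : Submodule k A} (hmul : R * R ≤ R) {j : ℕ} (hj : 0 < j) : R ^ j ≤ R := by
  induction j, hj using Nat.le_induction with
  | base => simp
  | succ j _ ih => rw [pow_succ]; exact (mul_le_mul' ih le_rfl).trans hmul

/-- A nilpotent multiplicatively closed subspace generated by one element is commutative. -/
theorem comm_of_generated {R : Submodule k A} (hmul : R * R ≤ R) {N : ℕ} (hnil : R ^ (N + 1) = ⊥)
    {x : A} (hx : x ∈ R) (hgen : R ≤ Submodule.span k {x} ⊔ R * R) :
    ∀ a ∈ R, ∀ b ∈ R, a * b = b * a := by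
  let C : Submodule k A := Submodule.span k (Set.range fun i : ℕ => x ^ (i + 1))
  have hCR : C ≤ R := by
    refine Submodule.span_le.2 ?_
    rintro _ ⟨i, rfl⟩
    exact pow_le_self hmul i.succ_pos (Submodule.pow_mem_pow R hx (i + 1))
  have hCC : C * C ≤ C := by
    rw [Submodule.span_mul_span]
    refine Submodule.span_le.2 ?_
    rintro _ ⟨_, ⟨i, rfl⟩, _, ⟨j, rfl⟩, rfl⟩
    exact Submodule.subset_span ⟨i + j + 1, by simp only [← pow_add]; congr 1; omega⟩
  have hfill : ∀ j, R ≤ C ⊔ R ^ (j + 1) := by
    intro j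
    induction j with
    | zero => rw [zero_add, pow_one]; exact le_sup_right
    | succ j ih =>
      have hsq : R * R ≤ C ⊔ R ^ (j + 2) := by
        refine (mul_le_mul' ih ih).trans ?_
        rw [Submodule.sup_mul, Submodule.mul_sup, Submodule.mul_sup]
        refine sup_le (sup_le (hCC.trans le_sup_left) ?_) (sup_le ?_ ?_) <;>
          refine le_trans ?_ le_sup_right
        · rw [pow_succ' R (j + 1)]; exact mul_le_mul' hCR le_rfl
        · rw [pow_succ R (j + 1)]; exact mul_le_mul' le_rfl hCR
        · rw [pow_succ R (j + 1)]; exact mul_le_mul' le_rfl (pow_le_self hmul j.succ_pos)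
      refine hgen.trans (sup_le ?_ hsq)
      exact (Submodule.span_le.2 (Set.singleton_subset_iff.2
        (Submodule.subset_span ⟨0, by simp⟩ : x ∈ C))).trans le_sup_left
  have hRC : R ≤ C := by
    have := hfill N
    rwa [hnil, sup_bot_eq] at this
  intro a ha b hb
  have ha' := hRC ha
  have hb' := hRC hb
  clear ha hb
  induction ha' using Submodule.span_induction with
  | mem a ha =>
    obtain ⟨i, rfl⟩ := ha
    induction hb' using Submodule.span_induction with
    | mem b hb => obtain ⟨j, rfl⟩ := hb; simp only [← pow_add, add_comm]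
    | zero => simp
    | add u v _ _ hu hv => rw [mul_add, add_mul, hu, hv]
    | smul c u _ hu => rw [mul_smul_comm, smul_mul_assoc, hu]
  | zero => simp
  | add u v _ _ hu hv => rw [mul_add, add_mul, hu, hv]
  | smul c u _ hu => rw [mul_smul_comm, smul_mul_assoc, hu]

/-- The cube of the radical vanishes when the square is spanned, modulo the cube, by the commutator
of two generators. -/
theorem cube_eq_bot {R : Submodule k A} (hmul : R * R ≤ R) {N : ℕ} (hnil : R ^ (N + 1) = ⊥) {x y : A}
    (hx : x ∈ R) (hy : y ∈ R)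
    (hgen : R ≤ Submodule.span k {x} ⊔ Submodule.span k {y} ⊔ R * R)
    (hsq : R * R ≤ Submodule.span k {x * y - y * x} ⊔ R ^ 3) : R ^ 3 = ⊥ := by
  set c := x * y - y * x with hc
  set Q := R ^ 4 with hQ
  have h3 : R ^ 3 = R * R * R := by rw [pow_succ, pow_succ, pow_one]
  have hc2 : c ∈ R * R := sub_mem (Submodule.mul_mem_mul hx hy) (Submodule.mul_mem_mul hy hx)
  have hrl : ∀ {a b}, a ∈ R ^ 3 → b ∈ R → a * b ∈ Q := fun {a b} ha hb => by
    rw [hQ, pow_succ]; exact Submodule.mul_mem_mul ha hb
  have hlr : ∀ {a b}, a ∈ R ^ 3 → b ∈ R → b * a ∈ Q := fun {a b} ha hb => by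
    rw [hQ, pow_succ']; exact Submodule.mul_mem_mul hb ha
  have hdec : ∀ a ∈ R * R, ∃ t : k, a - t • c ∈ R ^ 3 := by
    intro a ha
    obtain ⟨u, hu, v, hv, rfl⟩ := Submodule.mem_sup.1 (hsq ha)
    obtain ⟨t, rfl⟩ := Submodule.mem_span_singleton.1 hu
    exact ⟨t, by simpa using hv⟩
  -- the three products of generators, modulo the cube
  obtain ⟨α, hα⟩ := hdec (x * x) (Submodule.mul_mem_mul hx hx)
  obtain ⟨β, hβ⟩ := hdec (y * y) (Submodule.mul_mem_mul hy hy)
  obtain ⟨γ, hγ⟩ := hdec (x * y) (Submodule.mul_mem_mul hx hy)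
  have hδ : y * x - (γ - 1) • c ∈ R ^ 3 := by
    have e : y * x - (γ - 1) • c = x * y - γ • c := by rw [hc]; module
    rwa [e]
  let m := Q.mkQ
  have hm : ∀ a b, a - b ∈ Q → m a = m b := fun a b h => (Submodule.Quotient.eq Q).2 h
  -- `(a b) g` and `a (b g)`
  have hassoc : ∀ {a b g : A} {s t : k}, a ∈ R → g ∈ R → a * b - s • c ∈ R ^ 3 →
      b * g - t • c ∈ R ^ 3 → s • m (c * g) = t • m (a * c) := by
    intro a b g s t ha hg h1 h2
    have e1 : m (a * b * g) = s • m (c * g) := by
      rw [← map_smul]
      refine hm _ _ ?_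
      rw [← smul_mul_assoc, ← sub_mul]
      exact hrl h1 hg
    have e2 : m (a * b * g) = t • m (a * c) := by
      rw [← map_smul]
      refine hm _ _ ?_
      rw [← mul_smul_comm, mul_assoc, ← mul_sub]
      exact hlr h2 ha
    rw [← e1, e2]
  have q1 := hassoc hx hx hγ hδ
  have q2 := hassoc hy hy hδ hγ
  have q3 := hassoc hx hx hα hα
  have q4 := hassoc hx hy hα hγ
  have q5 := hassoc hy hx hδ hα
  have q6 := hassoc hy hx hβ hδ
  have q7 := hassoc hy hy hβ hβ
  have q8 := hassoc hx hy hγ hβ
  have key : m (c * x) = 0 ∧ m (c * y) = 0 := by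
    by_cases hα0 : α = 0
    · subst hα0
      simp only [zero_smul] at q4 q5
      by_cases hg : γ = 0
      · subst hg
        simp only [zero_sub, neg_smul, one_smul, zero_smul, neg_eq_zero] at q1 q2 q5
        exact ⟨q5, q2⟩
      · have hcy' : m (x * c) = 0 := (smul_eq_zero.1 q4.symm).resolve_left hg
        have h1 : m (c * x) = 0 := by
          rw [hcy', smul_zero] at q1
          exact (smul_eq_zero.1 q1).resolve_left hg
        refine ⟨h1, ?_⟩
        by_cases hb : β = 0
        · rw [hb, zero_smul] at q8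
          exact (smul_eq_zero.1 q8).resolve_left hg
        · rw [hcy', smul_zero] at q8
          exact (smul_eq_zero.1 q8).resolve_left hg
    · have hux : m (c * x) = m (x * c) := smul_right_injective _ hα0 q3
      rw [← hux] at q1 q4
      have h1 : m (c * x) = 0 := by
        have := sub_eq_zero.2 q1
        rw [← sub_smul, sub_sub_cancel, one_smul] at this
        exact this
      rw [h1, smul_zero] at q4
      exact ⟨h1, (smul_eq_zero.1 q4).resolve_left hα0⟩
  have hcx : c * x ∈ Q := (Submodule.Quotient.mk_eq_zero Q).1 key.1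
  have hcy : c * y ∈ Q := (Submodule.Quotient.mk_eq_zero Q).1 key.2
  have hstep : R ^ 3 ≤ Q := by
    rw [h3]
    refine Submodule.mul_le.2 fun a ha b hb => ?_
    obtain ⟨t, ht⟩ := hdec a ha
    rw [← sub_add_cancel a (t • c), add_mul, smul_mul_assoc]
    refine add_mem (hrl ht hb) (Q.smul_mem t ?_)
    obtain ⟨u, hu, v, hv, rfl⟩ := Submodule.mem_sup.1 (hgen hb)
    obtain ⟨u₁, hu₁, u₂, hu₂, rfl⟩ := Submodule.mem_sup.1 hu
    obtain ⟨t₁, rfl⟩ := Submodule.mem_span_singleton.1 hu₁
    obtain ⟨t₂, rfl⟩ := Submodule.mem_span_singleton.1 hu₂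
    rw [mul_add, mul_add, mul_smul_comm, mul_smul_comm]
    refine add_mem (add_mem (Q.smul_mem _ hcx) (Q.smul_mem _ hcy)) ?_
    have h4 : R ^ 4 = R * R * (R * R) := by rw [pow_succ, pow_succ, pow_succ, pow_one, mul_assoc]
    rw [hQ, h4]
    exact Submodule.mul_mem_mul hc2 hv
  have hall : ∀ j, R ^ 3 ≤ R ^ (3 + j) := by
    intro j
    induction j with
    | zero => exact le_rfl
    | succ j ih =>
      refine hstep.trans ?_
      rw [hQ, pow_succ R 3, show 3 + (j + 1) = (3 + j) + 1 from rfl, pow_succ R (3 + j)]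
      exact mul_le_mul' ih le_rfl
  refine eq_bot_iff.2 ((hall (N + 1)).trans ?_)
  rw [pow_add, hnil, Submodule.mul_bot]

variable [FiniteDimensional k A]

/-- Külshammer: small cocentre forces commutativity. -/
theorem comm_of_small (τ : A →ₗ[k] k) (hτ : IsTr τ) {R : Submodule k A} (hmul : R * R ≤ R) {N : ℕ}
    (hnil : R ^ (N + 1) = ⊥)
    (hnd : ∀ x ∈ R, τ x = 0 → (∀ y ∈ R, τ (x * y) = 0) → x = 0)
    (hdim : Module.finrank k R ≤ Module.finrank k (commSpan R) + 3) :
    ∀ a ∈ R, ∀ b ∈ R, a * b = b * a := by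
  set C := commSpan R with hC
  have h3 : R ^ 3 = R * R * R := by rw [pow_succ, pow_succ, pow_one]
  have hτC : ∀ z ∈ C, τ z = 0 := by
    intro z hz
    induction hz using Submodule.span_induction with
    | mem z hz => obtain ⟨a, -, b, -, rfl⟩ := hz; rw [map_sub, hτ, sub_self]
    | zero => simp
    | add u v _ _ hu hv => rw [map_add, hu, hv, add_zero]
    | smul t u _ hu => rw [map_smul, hu, smul_zero]
  have hCR : C ≤ R := (commSpan_le_sq R).trans hmul
  by_cases h30 : R ^ 3 = ⊥
  · intro a ha b hb
    have hm := mem_commSpan ha hb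
    refine sub_eq_zero.1 (hnd _ (hCR hm) (hτC _ hm) fun y hy => ?_)
    have h := Submodule.mul_mem_mul (commSpan_le_sq R hm) hy
    rw [← h3, h30, Submodule.mem_bot] at h
    rw [h, map_zero]
  · have h3R : R ^ 3 ≤ R := pow_le_self hmul (by norm_num)
    have hnot : ¬ R ^ 3 ≤ C := by
      intro hle
      refine h30 (eq_bot_iff.2 fun z hz => (Submodule.mem_bot k).2
        (hnd z (h3R hz) (hτC z (hle hz)) fun y hy => hτC _ (hle ?_)))
      rw [h3] at hz ⊢
      have h := Submodule.mul_mem_mul hz hy
      exact (mul_le_mul' (mul_le_mul' hmul le_rfl) le_rfl :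
        R * R * R * R ≤ R * R * R) h
    have h2 : C ⊔ R ^ 3 ≤ R * R := sup_le (commSpan_le_sq R) (by
      rw [h3]; exact mul_le_mul' hmul le_rfl)
    have hlt1 : C < C ⊔ R ^ 3 := left_lt_sup.2 hnot
    by_cases h1 : ∃ x ∈ R, R ≤ Submodule.span k {x} ⊔ R * R
    · obtain ⟨x, hx, hgen⟩ := h1
      exact comm_of_generated hmul hnil hx hgen
    · exfalso
      push Not at h1
      obtain ⟨x, hx, hx'⟩ : ∃ x ∈ R, x ∉ R * R := by
        obtain ⟨x, hx, hx'⟩ := SetLike.not_le_iff_exists.1 (h1 0 (zero_mem _))
        exact ⟨x, hx, fun h => hx' (Submodule.mem_sup_right h)⟩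
      obtain ⟨y, hy, hy'⟩ := SetLike.not_le_iff_exists.1 (h1 x hx)
      have hs1 : R * R < Submodule.span k {x} ⊔ R * R :=
        right_lt_sup.2 fun h => hx' (h (Submodule.mem_span_singleton_self x))
      have hs2 : Submodule.span k {x} ⊔ R * R < Submodule.span k {x} ⊔ Submodule.span k {y} ⊔ R * R :=
        lt_of_le_of_ne (sup_le_sup_right le_sup_left _) fun h => hy' (h.symm ▸
          Submodule.mem_sup_left (Submodule.mem_sup_right (Submodule.mem_span_singleton_self y)))
      have hs3 : Submodule.span k {x} ⊔ Submodule.span k {y} ⊔ R * R ≤ R :=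
        sup_le (sup_le (Submodule.span_le.2 (Set.singleton_subset_iff.2 hx))
          (Submodule.span_le.2 (Set.singleton_subset_iff.2 hy))) hmul
      have f1 := Submodule.finrank_lt_finrank_of_lt hlt1
      have f2 := Submodule.finrank_mono h2
      have f3 := Submodule.finrank_lt_finrank_of_lt hs1
      have f4 := Submodule.finrank_lt_finrank_of_lt hs2
      have f5 := Submodule.finrank_mono hs3
      have e1 : Submodule.span k {x} ⊔ Submodule.span k {y} ⊔ R * R = R :=
        Submodule.eq_of_le_of_finrank_le hs3 (by omega)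
      have e2 : C ⊔ R ^ 3 = R * R := Submodule.eq_of_le_of_finrank_le h2 (by omega)
      refine h30 (cube_eq_bot hmul hnil hx hy e1.ge (e2.ge.trans (sup_le ?_ le_sup_right)))
      refine Submodule.span_le.2 ?_
      rintro _ ⟨a, ha, b, hb, rfl⟩
      rw [← e1] at ha hb
      obtain ⟨a₀, ha₀, a', ha', rfl⟩ := Submodule.mem_sup.1 ha
      obtain ⟨b₀, hb₀, b', hb', rfl⟩ := Submodule.mem_sup.1 hb
      obtain ⟨u₁, hu₁, u₂, hu₂, rfl⟩ := Submodule.mem_sup.1 ha₀
      obtain ⟨v₁, hv₁, v₂, hv₂, rfl⟩ := Submodule.mem_sup.1 hb₀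
      obtain ⟨a1, rfl⟩ := Submodule.mem_span_singleton.1 hu₁
      obtain ⟨a2, rfl⟩ := Submodule.mem_span_singleton.1 hu₂
      obtain ⟨b1, rfl⟩ := Submodule.mem_span_singleton.1 hv₁
      obtain ⟨b2, rfl⟩ := Submodule.mem_span_singleton.1 hv₂
      have hu : a1 • x + a2 • y ∈ R := add_mem (R.smul_mem _ hx) (R.smul_mem _ hy)
      have hv : b1 • x + b2 • y ∈ R := add_mem (R.smul_mem _ hx) (R.smul_mem _ hy)
      have hl : ∀ {g w}, g ∈ R → w ∈ R * R → g * w ∈ R ^ 3 ∧ w * g ∈ R ^ 3 := fun {g w} hg hw =>
        ⟨by rw [h3, mul_assoc]; exact Submodule.mul_mem_mul hg hw,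
          by rw [h3]; exact Submodule.mul_mem_mul hw hg⟩
      have hrest : (a1 • x + a2 • y) * b' + a' * (b1 • x + b2 • y) + a' * b' -
          (b' * (a1 • x + a2 • y) + (b1 • x + b2 • y) * a' + b' * a') ∈ R ^ 3 :=
        sub_mem (add_mem (add_mem (hl hu hb').1 (hl hv ha').2) (hl (hmul ha') hb').1)
          (add_mem (add_mem (hl hu hb').2 (hl hv ha').1) (hl (hmul hb') ha').1)
      refine Submodule.mem_sup.2 ⟨(a1 * b2 - a2 * b1) • (x * y - y * x),
        Submodule.smul_mem _ _ (Submodule.mem_span_singleton_self _), _, hrest, ?_⟩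
      simp only [add_mul, mul_add, smul_mul_assoc, mul_smul_comm]
      module

/-- Independent elements have dual functionals. -/
theorem exists_dual {V : Type*} [AddCommGroup V] [Module k V] {ι : Type*} {v : ι → V}
    (hv : LinearIndependent k v) : ∃ f : ι → (V →ₗ[k] k), ∀ i j, f i (v j) = if i = j then 1 else 0 := by
  choose f hf using fun i => LinearMap.exists_extend ((Finsupp.lapply i).comp hv.repr)
  refine ⟨f, fun i j => ?_⟩
  have h := LinearMap.congr_fun (hf i) ⟨_, Submodule.subset_span (Set.mem_range_self j)⟩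
  simp only [LinearMap.comp_apply, Submodule.subtype_apply, Finsupp.lapply_apply] at h
  rw [h, hv.repr_eq_single j _ rfl, Finsupp.single_apply]
  simp [eq_comm]

/-- A symmetric algebra with one simple module and at most `K ≤ 4` independent trace functionals. -/
theorem basic_dims [IsAlgClosed k] [Nontrivial A] (τ : A →ₗ[k] k) (hτ : IsTr τ)
    (hnd : ∀ a, (∀ b, τ (a * b) = 0) → a = 0)
    (htwo : ∀ φ : Fin 2 → (A →ₗ[k] k), (∀ i, IsTr (φ i)) →
      (∀ i, ∀ z, IsNilpotent z → φ i z = 0) → ¬ LinearIndependent k φ)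
    {K : ℕ} (hK : K ≤ 4)
    (htr : ∀ φ : Fin (K + 1) → (A →ₗ[k] k), (∀ i, IsTr (φ i)) → ¬ LinearIndependent k φ) :
    ∃ (n c : ℕ) (e : A), IsIdempotentElem e ∧ 0 < n ∧ 0 < c ∧ c ≤ K ∧
      Module.finrank k A = n ^ 2 * c ∧
      Module.finrank k (LinearMap.range (LinearMap.mulRight k e)) = n * c := by
  haveI : IsArtinianRing A := IsArtinianRing.of_finite k A
  set J : Ideal A := Ring.jacobson A with hJ
  obtain ⟨N, hN⟩ : IsNilpotent J := by
    rw [hJ, ← Ideal.jacobson_bot]; exact IsArtinianRing.isNilpotent_jacobson_bot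
  have hJnil : ∀ x ∈ J, IsNilpotent x := fun x hx => ⟨N, by
    have := Ideal.pow_mem_pow hx N
    rw [hN] at this
    exact Ideal.mem_bot.1 this⟩
  haveI : IsSemisimpleRing (A ⧸ J) := IsSemiprimaryRing.isSemisimpleRing
  haveI : FiniteDimensional k (A ⧸ J) :=
    Module.Finite.of_surjective (Ideal.Quotient.mkₐ k J).toLinearMap Ideal.Quotient.mk_surjective
  obtain ⟨m, d, hd, ⟨w⟩⟩ := IsSemisimpleRing.exists_algEquiv_pi_matrix_of_isAlgClosed k (A ⧸ J)
  let P : A →ₐ[k] Π i, Matrix (Fin (d i)) (Fin (d i)) k := w.toAlgHom.comp (Ideal.Quotient.mkₐ k J)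
  have hPs : Function.Surjective P := w.surjective.comp Ideal.Quotient.mk_surjective
  have hPk : ∀ x, P x = 0 ↔ x ∈ J := fun x => by
    show w (Ideal.Quotient.mk J x) = 0 ↔ _
    rw [map_eq_zero_iff w w.injective, Ideal.Quotient.eq_zero_iff_mem]
  -- one simple module
  have hsub : ∀ i j : Fin m, i = j := by
    intro i j
    by_contra hij
    let t : Fin m → (A →ₗ[k] k) := fun l =>
      ((Matrix.traceLinearMap (Fin (d l)) k k).comp (LinearMap.proj l)).comp P.toLinearMap
    have ht : ∀ l, IsTr (t l) := fun l a b => by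
      simp only [t, LinearMap.comp_apply, AlgHom.toLinearMap_apply, map_mul, LinearMap.proj_apply,
        Pi.mul_apply, Matrix.traceLinearMap_apply]
      rw [Matrix.trace_mul_comm]
    have htn : ∀ l z, IsNilpotent z → t l z = 0 := by
      intro l z hz
      have hzl : IsNilpotent (P z l) :=
        (hz.map P).map (Pi.evalRingHom (fun i => Matrix (Fin (d i)) (Fin (d i)) k) l)
      simp only [t, LinearMap.comp_apply, AlgHom.toLinearMap_apply, LinearMap.proj_apply,
        Matrix.traceLinearMap_apply]
      exact (Matrix.isNilpotent_trace_of_isNilpotent hzl).eq_zero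
    refine htwo ![t i, t j] (fun l => by fin_cases l <;> simp [ht])
      (fun l => by fin_cases l <;> exact htn _) (Fintype.linearIndependent_iff.2 fun g hg l => ?_)
    simp only [Fin.sum_univ_two, Matrix.cons_val_zero, Matrix.cons_val_one] at hg
    have key : ∀ a : Fin m, ∃ y, P y = Pi.single a
        (Matrix.single (⟨0, Nat.pos_of_ne_zero (hd a).out⟩ : Fin (d a))
          ⟨0, Nat.pos_of_ne_zero (hd a).out⟩ 1) :=
      fun a => hPs _
    obtain ⟨yi, hyi⟩ := key i
    obtain ⟨yj, hyj⟩ := key j
    have gi : g 0 = 0 := by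
      have h := LinearMap.congr_fun hg yi
      simpa [t, hyi, hij, Ne.symm hij] using h
    have gj : g 1 = 0 := by
      have h := LinearMap.congr_fun hg yj
      simpa [t, hyj, hij, Ne.symm hij] using h
    fin_cases l <;> assumption
  have hm : 0 < m := by
    by_contra h0
    have : m = 0 := by omega
    subst this
    exact not_isNilpotent_one (hJnil 1 ((hPk 1).1 (Subsingleton.elim _ _)))
  set i₁ : Fin m := ⟨0, hm⟩
  haveI := hd i₁
  let Q : A →ₐ[k] Matrix (Fin (d i₁)) (Fin (d i₁)) k :=
    (Pi.evalAlgHom k (fun i => Matrix (Fin (d i)) (Fin (d i)) k) i₁).comp P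
  have hQP : ∀ x, Q x = 0 ↔ P x = 0 := fun x =>
    ⟨fun h => funext fun i => by obtain rfl := hsub i i₁; exact h, fun h => congrFun h i₁⟩
  have hQs : Function.Surjective Q := fun y => by
    obtain ⟨x, hx⟩ := hPs (Pi.single i₁ y)
    exact ⟨x, by show P x i₁ = y; rw [hx, Pi.single_eq_same]⟩
  have hQnil : ∀ x, Q x = 0 → IsNilpotent x := fun x hx => hJnil x ((hPk x).1 ((hQP x).1 hx))
  clear_value i₁
  -- matrix units
  let z : Fin (d i₁) := 0
  obtain ⟨e, he, hQe⟩ := exists_isIdempotentElem_eq_of_ker_isNilpotent Q.toRingHom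
    (fun x hx => hQnil x hx) (Matrix.single z z 1) (RingHom.mem_range.2 (hQs _))
    (by simp [IsIdempotentElem])
  replace hQe : Q e = Matrix.single z z 1 := hQe
  choose u₀ hu₀ using fun i : Fin (d i₁) => hQs (Matrix.single i z 1)
  choose w₀ hw₀ using fun i : Fin (d i₁) => hQs (Matrix.single z i 1)
  have hS : Q (∑ i, u₀ i * e * (e * w₀ i)) = 1 := by
    simp only [map_sum, map_mul, hu₀, hw₀, hQe, Matrix.single_mul_single_same, mul_one]
    exact Matrix.sum_single_one
  set S := ∑ i, u₀ i * e * (e * w₀ i) with hSdef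
  obtain ⟨T, hT⟩ : IsUnit S := by
    have h := (hQnil (1 - S) (by rw [map_sub, map_one, hS, sub_self])).isUnit_one_sub
    rwa [sub_sub_cancel] at h
  have hQT : Q (↑T⁻¹ : A) = 1 := by
    have h := congrArg Q T.mul_inv
    rw [map_mul, hT, hS, one_mul, map_one] at h
    exact h
  let r : Fin (d i₁) → A := fun i => u₀ i * e
  let s : Fin (d i₁) → A := fun i => e * w₀ i * ↑T⁻¹
  have hre : ∀ i, r i * e = r i := fun i => by simp only [r, mul_assoc, he.eq]
  have hes : ∀ i, e * s i = s i := fun i => by simp only [s, ← mul_assoc, he.eq]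
  have hrs : ∑ i, r i * s i = 1 := by
    simp only [r, s, ← mul_assoc]
    rw [← Finset.sum_mul]
    have : ∑ i, u₀ i * e * e * w₀ i = S := by simp only [hSdef, mul_assoc]
    rw [this, ← hT]
    exact T.mul_inv
  have hrQ : ∀ i, Q (r i) = Matrix.single i z 1 := fun i => by simp [r, hu₀, hQe]
  have hsQ : ∀ i, Q (s i) = Matrix.single z i 1 := fun i => by simp [s, hw₀, hQe, hQT]
  -- the corner
  let E : Submodule k A :=
    { carrier := {a | e * a * e = a}
      add_mem' := fun {a b} ha hb => by
        show e * (a + b) * e = a + b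
        rw [mul_add, add_mul, show e * a * e = a from ha, show e * b * e = b from hb]
      zero_mem' := by show e * 0 * e = 0; simp
      smul_mem' := fun c a ha => by
        show e * (c • a) * e = c • a
        rw [mul_smul_comm, smul_mul_assoc, show e * a * e = a from ha] }
  have hcl : ∀ {a}, a ∈ E → e * a = a := fun {a} ha => by
    conv_lhs => rw [← (show e * a * e = a from ha)]
    simp only [← mul_assoc, he.eq]
    exact ha
  have hcr : ∀ {a}, a ∈ E → a * e = a := fun {a} ha => by
    conv_lhs => rw [← (show e * a * e = a from ha)]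
    rw [mul_assoc, he.eq]
    exact ha
  have hee : e ∈ E := by show e * e * e = e; rw [he.eq, he.eq]
  have hsar : ∀ i a j, s i * a * r j ∈ E := fun i a j => by
    show e * (s i * a * r j) * e = _
    simp only [← mul_assoc, hes]
    simp only [mul_assoc, hre]
  have hmem : ∀ x, e * x * e ∈ E := fun x => by
    show e * (e * x * e) * e = _
    simp only [← mul_assoc, he.eq]
    rw [mul_assoc, he.eq]
  let Φ : A →ₗ[k] A := ∑ i, (LinearMap.mulLeft k (s i)).comp (LinearMap.mulRight k (r i))
  have hΦa : ∀ a, Φ a = ∑ i, s i * a * r i := fun a => by simp [Φ, mul_assoc]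
  have hext : ∀ ψ : A →ₗ[k] k, (∀ a ∈ E, ∀ b ∈ E, ψ (a * b) = ψ (b * a)) →
      IsTr (ψ.comp Φ) ∧ ∀ a ∈ E, (ψ.comp Φ) a = ψ a := by
    intro ψ hψ
    have expand : ∀ a b, ∑ i, ψ (s i * (a * b) * r i) =
        ∑ i, ∑ j, ψ ((s i * a * r j) * (s j * b * r i)) := by
      intro a b
      refine Finset.sum_congr rfl fun i _ => ?_
      conv_lhs => rw [← one_mul b, ← hrs]
      simp only [Finset.sum_mul, Finset.mul_sum, map_sum, mul_assoc]
    refine ⟨fun a b => ?_, fun a ha => ?_⟩
    · simp only [LinearMap.comp_apply, hΦa, map_sum]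
      rw [expand, expand, Finset.sum_comm]
      exact Finset.sum_congr rfl fun i _ => Finset.sum_congr rfl fun j _ =>
        hψ _ (hsar _ _ _) _ (hsar _ _ _)
    · simp only [LinearMap.comp_apply, hΦa, map_sum]
      calc ∑ i, ψ (s i * a * r i) = ∑ i, ψ ((e * s i * e) * (a * (e * r i * e))) := by
            refine Finset.sum_congr rfl fun i _ => congrArg ψ ?_
            rw [hes, mul_assoc (e) (r i) e, hre]
            simp only [← mul_assoc]
            rw [mul_assoc (s i * e) a e, hcr ha, mul_assoc (s i) e a, hcl ha]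
        _ = ∑ i, ψ ((a * (e * r i * e)) * (e * s i * e)) := by
            refine Finset.sum_congr rfl fun i _ => hψ _ (hmem _) _ ?_
            show e * (a * (e * r i * e)) * e = _
            simp only [← mul_assoc]
            rw [hcl ha, mul_assoc (a * e * r i) e e, he.eq]
        _ = ψ (∑ i, a * (r i * s i) * e) := by
            rw [map_sum]
            refine Finset.sum_congr rfl fun i _ => congrArg ψ ?_
            rw [hes, mul_assoc e (r i) e, hre, ← mul_assoc a e, hcr ha]
            simp only [mul_assoc]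
        _ = ψ a := by rw [← Finset.sum_mul, ← Finset.mul_sum, hrs, mul_one, hcr ha]
  -- the radical of the corner
  let R : Submodule k A := E ⊓ LinearMap.ker Q.toLinearMap
  have hRQ : ∀ {a}, a ∈ R → Q a = 0 := fun {a} ha => ha.2
  have hRmul : ∀ {a b}, a ∈ R → b ∈ R → a * b ∈ R := fun {a b} ha hb => ⟨by
    show e * (a * b) * e = _
    rw [← mul_assoc, hcl ha.1, mul_assoc, hcr hb.1], by
    show Q (a * b) = 0
    rw [map_mul, hRQ ha, zero_mul]⟩
  have hR2 : R * R ≤ R := Submodule.mul_le.2 fun a ha b hb => hRmul ha hb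
  have hdec : ∀ a ∈ E, ∃ c : k, a - c • e ∈ R := by
    intro a ha
    refine ⟨Q a z z, sub_mem ha (E.smul_mem _ hee), ?_⟩
    show Q (a - Q a z z • e) = 0
    rw [map_sub, map_smul, hQe]
    have h := congrArg Q (show e * a * e = a from ha)
    rw [map_mul, map_mul, hQe] at h
    rw [sub_eq_zero]
    conv_lhs => rw [← h]
    ext i j
    by_cases hi : i = z <;> by_cases hj : j = z <;>
      simp [Matrix.mul_apply, Matrix.single_apply, hi, hj, Ne.symm, eq_comm]
  have hRN : R ^ (N + 1) = ⊥ := by
    have key : ∀ j, 0 < j → ∀ x ∈ R ^ j, x ∈ J ^ j := by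
      intro j hj
      induction j, hj using Nat.le_induction with
      | base =>
        intro x hx
        simp only [Nat.succ_eq_add_one, zero_add, Submodule.pow_one] at hx ⊢
        exact (hPk x).1 ((hQP x).1 (hRQ hx))
      | succ j hj ih =>
        intro x hx
        rw [Submodule.pow_succ] at hx ⊢
        induction hx using Submodule.mul_induction_on' with
        | mem_mul_mem a ha b hb => exact Ideal.mul_mem_mul (ih a ha) ((hPk b).1 ((hQP b).1 (hRQ hb)))
        | add a _ b _ h h' => exact add_mem h h'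
    rw [eq_bot_iff]
    intro x hx
    have h := Ideal.pow_le_pow_right N.le_succ (key _ N.succ_pos x hx)
    rw [hN] at h
    exact (Submodule.mem_bot k).2 (Ideal.mem_bot.1 h)
  have hdimE : Module.finrank k E = Module.finrank k R + 1 := by
    have he0 : e ≠ 0 := fun h => by
      have h' : (Matrix.single z z (1 : k)) = 0 := by rw [← hQe, h, map_zero]
      simpa using congrFun (congrFun h' z) z
    have hinf : R ⊓ Submodule.span k {e} = ⊥ := by
      refine eq_bot_iff.2 fun a ha => ?_
      obtain ⟨t, rfl⟩ := Submodule.mem_span_singleton.1 ha.2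
      have h := hRQ ha.1
      rw [map_smul, hQe] at h
      have ht : t = 0 := by simpa using congrFun (congrFun h z) z
      simp [ht]
    have hsup : R ⊔ Submodule.span k {e} = E := by
      refine le_antisymm (sup_le inf_le_left (Submodule.span_le.2 (Set.singleton_subset_iff.2 hee)))
        fun a ha => ?_
      obtain ⟨t, ht⟩ := hdec a ha
      exact Submodule.mem_sup.2 ⟨_, ht, _, Submodule.mem_span_singleton.2 ⟨t, rfl⟩, sub_add_cancel _ _⟩
    have h := Submodule.finrank_sup_add_finrank_inf_eq R (Submodule.span k {e})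
    rw [hinf, hsup, finrank_span_singleton he0, finrank_bot, add_zero] at h
    exact h
  -- functionals killing the commutators of the radical
  have hbound : ∀ W : Submodule k A, W ≤ R → (∀ a ∈ R, ∀ b ∈ R, a * b - b * a ∈ W) →
      Module.finrank k R + 1 ≤ Module.finrank k W + K := by
    intro W hWR hW
    let f : E →ₗ[k] A ⧸ W := W.mkQ.comp E.subtype
    have hker : Module.finrank k (LinearMap.ker f) = Module.finrank k W := by
      have e : LinearMap.ker f = W.comap E.subtype := by
        rw [LinearMap.ker_comp, Submodule.ker_mkQ]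
      rw [e]
      exact (Submodule.comapSubtypeEquivOfLe (hWR.trans inf_le_left)).finrank_eq
    have hr := LinearMap.finrank_range_add_finrank_ker f
    by_contra hlt
    have hrange : K + 1 ≤ Module.finrank k (LinearMap.range f) := by omega
    obtain ⟨v, hv⟩ := exists_linearIndependent_of_le_finrank hrange
    choose a ha using fun i => (v i).2
    obtain ⟨g, hg⟩ := exists_dual (hv.map' (LinearMap.range f).subtype (Submodule.ker_subtype _))
    have hψ : ∀ i, ∀ a ∈ E, ∀ b ∈ E, ((g i).comp W.mkQ) (a * b) = ((g i).comp W.mkQ) (b * a) := by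
      intro i a ha b hb
      obtain ⟨c, hc⟩ := hdec a ha
      obtain ⟨c', hc'⟩ := hdec b hb
      have h1 : a * b - b * a = (a - c • e) * (b - c' • e) - (b - c' • e) * (a - c • e) := by
        simp only [mul_sub, sub_mul, mul_smul_comm, smul_mul_assoc, hcl ha, hcr ha, hcl hb, hcr hb,
          he.eq]
        module
      have h2 : W.mkQ (a * b) = W.mkQ (b * a) := by
        rw [Submodule.mkQ_apply, Submodule.mkQ_apply, Submodule.Quotient.eq, h1]
        exact hW _ hc _ hc'
      simp only [LinearMap.comp_apply, h2]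
    refine htr (fun i => ((g i).comp W.mkQ).comp Φ) (fun i => (hext _ (hψ i)).1)
      (Fintype.linearIndependent_iff.2 fun c hc j => ?_)
    have h := LinearMap.congr_fun hc (a j : A)
    simp only [LinearMap.sum_apply, LinearMap.smul_apply, LinearMap.zero_apply] at h
    rw [Finset.sum_eq_single j] at h
    · rw [(hext _ (hψ j)).2 _ (a j).2, LinearMap.comp_apply,
        show W.mkQ (a j : A) = ((LinearMap.range f).subtype ∘ v) j from ha j, hg, if_pos rfl,
        smul_eq_mul, mul_one] at h
      exact h
    · intro i _ hij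
      rw [(hext _ (hψ i)).2 _ (a j).2, LinearMap.comp_apply,
        show W.mkQ (a j : A) = ((LinearMap.range f).subtype ∘ v) j from ha j, hg, if_neg hij,
        smul_zero]
    · simp
  -- commutativity
  have hcomm : ∀ a ∈ R, ∀ b ∈ R, a * b = b * a := by
    refine comm_of_small τ hτ hR2 hRN (fun x hx h1 h2 => hnd x fun a => ?_) ?_
    · obtain ⟨c, hc⟩ := hdec (e * a * e) (hmem a)
      calc τ (x * a) = τ (x * (e * a * e)) := by
            rw [← mul_assoc, ← mul_assoc, hcr hx.1, hτ (x * a) e, ← mul_assoc, hcl hx.1]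
        _ = 0 := by
            rw [← sub_add_cancel (e * a * e) (c • e), mul_add, map_add, h2 _ hc, mul_smul_comm,
              hcr hx.1, map_smul, h1, smul_zero, add_zero]
    · have := hbound (commSpan R) ((commSpan_le_sq R).trans hR2) fun a ha b hb => mem_commSpan ha hb
      omega
  have hcK : Module.finrank k E ≤ K := by
    have := hbound ⊥ bot_le fun a ha b hb => by simp [hcomm a ha b hb]
    rw [finrank_bot] at this
    omega
  -- exact matrix units
  have hsr : ∀ i j, s i * r j = if i = j then e else 0 := by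
    let δ : Fin (d i₁) → Fin (d i₁) → A := fun i j => (if i = j then e else 0) - s i * r j
    have hsrE : ∀ i j, s i * r j ∈ E := fun i j => by simpa using hsar i 1 j
    have hδR : ∀ i j, δ i j ∈ R := fun i j => ⟨sub_mem (by split_ifs; exacts [hee, E.zero_mem])
      (hsrE i j), by
      show Q (δ i j) = 0
      simp only [δ, map_sub, map_mul, hsQ, hrQ]
      by_cases h : i = j
      · subst h; simp [hQe]
      · simp [h]⟩
    have hδsq : ∀ i j, ∑ l, δ i l * δ l j = δ i j := by
      intro i j
      have h1 : ∑ l, s i * r l * (s l * r j) = s i * r j := by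
        conv_rhs => rw [← mul_one (s i), ← hrs, Finset.mul_sum, Finset.sum_mul]
        simp only [mul_assoc]
      simp only [δ, sub_mul, mul_sub, Finset.sum_sub_distrib, h1, ite_mul, zero_mul, mul_ite, mul_zero,
        Finset.sum_ite_eq, Finset.sum_ite_eq', Finset.mem_univ, if_true, hcl (hsrE i j),
        hcr (hsrE i j)]
      by_cases h : i = j
      · subst h; simp [he.eq]
      · simp [h]
    have hpow : ∀ t i j, δ i j ∈ R ^ (t + 1) := by
      intro t
      induction t with
      | zero => intro i j; rw [zero_add, Submodule.pow_one]; exact hδR i j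
      | succ t ih =>
        intro i j
        rw [← hδsq i j, pow_succ]
        exact sum_mem fun l _ => Submodule.mul_mem_mul (ih i l) (hδR l j)
    intro i j
    have h := hpow N i j
    rw [hRN, Submodule.mem_bot, sub_eq_zero] at h
    exact h.symm
  -- the two dimensions
  let L : A →ₗ[k] (Fin (d i₁) → Fin (d i₁) → E) :=
    LinearMap.pi fun i => LinearMap.pi fun j =>
      ((LinearMap.mulLeft k (s i)).comp (LinearMap.mulRight k (r j))).codRestrict E fun a => by
        show s i * (a * r j) ∈ E
        rw [← mul_assoc]; exact hsar i a j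
  have hL : ∀ a i j, (L a i j : A) = s i * a * r j := fun a i j => (mul_assoc _ _ _).symm
  have hLb : Function.Bijective L := by
    refine ⟨(injective_iff_map_eq_zero L).2 fun a ha => ?_, fun b => ⟨∑ i, ∑ j, r i * (b i j : A) * s j, ?_⟩⟩
    · have h : a = ∑ i, ∑ j, r i * (s i * a * r j) * s j := by
        conv_lhs => rw [← mul_one a, ← one_mul a, ← hrs]
        simp only [Finset.sum_mul, Finset.mul_sum, mul_assoc]
        rw [Finset.sum_comm]
      rw [h]
      simp only [← hL, ha, Pi.zero_apply, ZeroMemClass.coe_zero, mul_zero, zero_mul, Finset.sum_const_zero]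
    · funext i j
      apply Subtype.ext
      rw [hL, Finset.mul_sum, Finset.sum_mul, Finset.sum_eq_single i, Finset.mul_sum, Finset.sum_mul,
        Finset.sum_eq_single j]
      · simp only [← mul_assoc, hsr, if_true, hcl (b i j).2]
        rw [mul_assoc _ (s j), hsr, if_pos rfl, hcr (b i j).2]
      · intro l _ hl
        simp only [mul_assoc, hsr, if_neg hl, mul_zero]
      · simp
      · intro l _ hl
        simp only [Finset.mul_sum, Finset.sum_mul, ← mul_assoc, hsr, if_neg (Ne.symm hl), zero_mul,
          Finset.sum_const_zero]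
      · simp
  let L' : LinearMap.range (LinearMap.mulRight k e) →ₗ[k] (Fin (d i₁) → E) :=
    LinearMap.pi fun i => ((LinearMap.mulLeft k (s i)).comp
      (LinearMap.range (LinearMap.mulRight k e)).subtype).codRestrict E fun a => by
        obtain ⟨b, hb⟩ := a.2
        show s i * (a : A) ∈ E
        rw [← hb, LinearMap.mulRight_apply]
        show e * (s i * (b * e)) * e = _
        simp only [← mul_assoc, hes]
        rw [mul_assoc, he.eq]
  have hL'b : Function.Bijective L' := by
    refine ⟨(injective_iff_map_eq_zero L').2 fun a ha => Subtype.ext ?_,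
      fun b => ⟨⟨∑ i, r i * (b i : A), ⟨∑ i, r i * (b i : A), ?_⟩⟩, ?_⟩⟩
    · rw [show (a : A) = ∑ i, r i * (s i * (a : A)) by
        simp only [← mul_assoc]; rw [← Finset.sum_mul, hrs, one_mul]]
      refine Finset.sum_eq_zero fun i _ => ?_
      have : s i * (a : A) = 0 := congrArg Subtype.val (congrFun ha i)
      rw [this, mul_zero]
    · rw [LinearMap.mulRight_apply, Finset.sum_mul]
      simp only [mul_assoc]
      exact Finset.sum_congr rfl fun i _ => by rw [hcr (b i).2]
    · funext i
      apply Subtype.ext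
      show s i * ∑ l, r l * (b l : A) = _
      rw [Finset.mul_sum, Finset.sum_eq_single i]
      · rw [← mul_assoc, hsr, if_pos rfl, hcl (b i).2]
      · intro l _ hl
        rw [← mul_assoc, hsr, if_neg (Ne.symm hl), zero_mul]
      · simp
  refine ⟨d i₁, Module.finrank k E, e, he, Nat.pos_of_ne_zero (hd i₁).out, ?_, hcK, ?_, ?_⟩
  · omega
  · rw [(LinearEquiv.ofBijective L hLb).finrank_eq, Module.finrank_pi_fintype]
    simp only [Module.finrank_pi_fintype, Finset.sum_const, Finset.card_univ, Fintype.card_fin,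
      smul_eq_mul]
    ring
  · rw [(LinearEquiv.ofBijective L' hL'b).finrank_eq, Module.finrank_pi_fintype]
    simp only [Finset.sum_const, Finset.card_univ, Fintype.card_fin, smul_eq_mul]

end Cfsg.Agent.LocalSymAlg42
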