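import Mathlib

/-!
# Left ideals generated by idempotents in a group algebra of characteristic `p`

Their dimensions are divisible by the order of a Sylow `p`-subgroup.
-/

set_option autoImplicit false
set_option linter.style.haveILetI false

namespace Cfsg.Agent.ProjectiveDim42

attribute [local instance] Classical.propDecidable

variable {p : ℕ} [Fact p.Prime] {k : Type*} [Field k] [CharP k p]

/-- A nonzero translation invariant condition on functions contains a nonzero constant family. -/
theorem exists_fixed {P : Type*} [Group P] [Finite P] (hP : IsPGroup p P) {ι : Type*}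
    (K : AddSubgroup (ι × P → k))
    (hK : ∀ c ∈ K, ∀ y : P, (fun ix : ι × P => c (ix.1, y⁻¹ * ix.2)) ∈ K)
    {c : ι × P → k} (hc : c ∈ K) (hc0 : c ≠ 0) :
    ∃ d ∈ K, d ≠ 0 ∧ ∀ i x, d (i, x) = d (i, 1) := by
  let o : P → (ι × P → k) := fun y ix => c (ix.1, y⁻¹ * ix.2)
  let S : AddSubgroup (ι × P → k) := AddSubgroup.closure (Set.range o)
  have hp0 : ∀ f : ι × P → k, p • f = 0 := fun f => by
    funext ix
    simp [nsmul_eq_mul]
  haveI : AddGroup.FG S := (AddGroup.fg_iff_addSubgroup_fg S).mpr
    ((AddSubgroup.fg_iff S).mpr ⟨_, rfl, Set.finite_range _⟩)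
  haveI : Finite S := AddCommGroup.finite_of_fg_torsion S fun f =>
    isOfFinAddOrder_iff_nsmul_eq_zero.mpr ⟨p, (Fact.out : p.Prime).pos, Subtype.ext (hp0 f)⟩
  have hclosed : ∀ (y : P) (f : ι × P → k), f ∈ S → (fun ix : ι × P => f (ix.1, y⁻¹ * ix.2)) ∈ S := by
    intro y f hf
    induction hf using AddSubgroup.closure_induction with
    | mem f hf =>
      obtain ⟨w, rfl⟩ := hf
      refine AddSubgroup.subset_closure ⟨y * w, ?_⟩
      funext ix
      simp [o, mul_assoc]
    | zero => exact S.zero_mem
    | add a b _ _ ha hb => exact S.add_mem ha hb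
    | neg a _ ha => exact S.neg_mem ha
  letI : MulAction P S :=
    { smul := fun y f => ⟨_, hclosed y f f.2⟩
      one_smul := fun f => Subtype.ext (funext fun ix => by
        show (f : ι × P → k) (ix.1, 1⁻¹ * ix.2) = _
        rw [inv_one, one_mul])
      mul_smul := fun a b f => Subtype.ext (funext fun ix => by
        show (f : ι × P → k) (ix.1, (a * b)⁻¹ * ix.2) = (f : ι × P → k) (ix.1, b⁻¹ * (a⁻¹ * ix.2))
        rw [mul_inv_rev, mul_assoc]) }
  have hcS : c ∈ S := AddSubgroup.subset_closure ⟨1, funext fun ix => by simp [o]⟩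
  have hord : addOrderOf (⟨c, hcS⟩ : S) = p :=
    addOrderOf_eq_prime (Subtype.ext (hp0 c)) fun h => hc0 (congrArg Subtype.val h)
  obtain ⟨d, hd, hne⟩ := hP.exists_fixed_point_of_prime_dvd_card_of_fixed_point S
    (hord ▸ addOrderOf_dvd_natCard _) (a := (0 : S)) (fun _ => Subtype.ext rfl)
  have hSK : S ≤ K := (AddSubgroup.closure_le K).2 (Set.range_subset_iff.2 fun y => hK c hc y)
  refine ⟨d, hSK d.2, fun h => hne (Subtype.ext h.symm), fun i x => ?_⟩
  have h := congrFun (congrArg Subtype.val (hd x)) (i, x)
  change (d : ι × P → k) (i, x⁻¹ * x) = _ at h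
  rw [inv_mul_cancel] at h
  exact h.symm

variable {G : Type*} [Group G] [Fintype G]

/-- The sum of the elements of a subgroup. -/
noncomputable def normSum (P : Subgroup G) : MonoidAlgebra k G :=
  ∑ x : P, MonoidAlgebra.single (x : G) 1

omit [Fact p.Prime] [CharP k p] in
theorem coeff_normSum (P : Subgroup G) (g : G) :
    (normSum (k := k) P).coeff g = if g ∈ P then 1 else 0 := by
  simp only [normSum, MonoidAlgebra.coeff_sum, MonoidAlgebra.coeff_single, Finset.sum_apply',
    Finsupp.single_apply]
  split_ifs with h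
  · rw [Finset.sum_eq_single ⟨g, h⟩]
    · simp
    · intro x _ hx
      rw [if_neg fun e => hx (Subtype.ext e)]
    · simp
  · refine Finset.sum_eq_zero fun x _ => ?_
    rw [if_neg]
    rintro rfl
    exact h x.2

/-- Translates of vectors with independent norms are independent. -/
theorem linearIndependent_translates {P : Subgroup G} (hP : IsPGroup p P) {ι : Type*} [Fintype ι]
    {v : ι → MonoidAlgebra k G} (hv : LinearIndependent k fun i => normSum P * v i) :
    LinearIndependent k fun ix : ι × P => MonoidAlgebra.single (ix.2 : G) 1 * v ix.1 := by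
  set w := fun ix : ι × P => MonoidAlgebra.single (ix.2 : G) (1 : k) * v ix.1 with hw
  let K : AddSubgroup (ι × P → k) :=
    { carrier := {c | ∑ ix, c ix • w ix = 0}
      add_mem' := fun {a b} ha hb => by
        show ∑ ix, (a + b) ix • w ix = 0
        simp only [Pi.add_apply, add_smul, Finset.sum_add_distrib, show ∑ ix, a ix • w ix = 0 from ha,
          show ∑ ix, b ix • w ix = 0 from hb, add_zero]
      zero_mem' := by show ∑ ix, (0 : ι × P → k) ix • w ix = 0; simp
      neg_mem' := fun {a} ha => by
        show ∑ ix, (-a) ix • w ix = 0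
        simp only [Pi.neg_apply, neg_smul, Finset.sum_neg_distrib,
          show ∑ ix, a ix • w ix = 0 from ha, neg_zero] }
  refine Fintype.linearIndependent_iff.2 fun c hc => ?_
  by_contra hne
  have hc0 : c ≠ 0 := fun h => hne fun i => by rw [h]; rfl
  have hK : ∀ a ∈ K, ∀ y : P, (fun ix : ι × P => a (ix.1, y⁻¹ * ix.2)) ∈ K := by
    intro a ha y
    show ∑ ix : ι × P, a (ix.1, y⁻¹ * ix.2) • w ix = 0
    have h := congrArg (MonoidAlgebra.single (y : G) (1 : k) * ·) (show ∑ ix, a ix • w ix = 0 from ha)
    simp only [Finset.mul_sum, mul_zero] at h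
    refine Eq.trans ?_ h
    refine Fintype.sum_equiv ((Equiv.refl ι).prodCongr (Equiv.mulLeft y⁻¹)) _ _ fun ix => ?_
    simp only [Equiv.prodCongr_apply, Equiv.coe_refl, Equiv.coe_mulLeft, Prod.map, id_eq, hw,
      mul_smul_comm, ← mul_assoc, MonoidAlgebra.single_mul_single, mul_one, Subgroup.coe_mul,
      Subgroup.coe_inv, mul_inv_cancel, one_mul]
  obtain ⟨d, hd, hd0, hconst⟩ := exists_fixed hP K hK (c := c) hc hc0
  have h1 : ∑ i, d (i, 1) • (normSum P * v i) = 0 := by
    refine Eq.trans ?_ (show ∑ ix, d ix • w ix = 0 from hd)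
    rw [Fintype.sum_prod_type]
    refine Finset.sum_congr rfl fun i _ => ?_
    simp only [normSum, Finset.sum_mul, Finset.smul_sum, hw, hconst i]
  refine hd0 (funext fun ix => ?_)
  rw [hconst, Fintype.linearIndependent_iff.1 hv _ h1, Pi.zero_apply]

omit [Fact p.Prime] [CharP k p] in
theorem finrank_monoidAlgebra : Module.finrank k (MonoidAlgebra k G) = Nat.card G := by
  rw [((MonoidAlgebra.coeffLinearEquiv k).trans (Finsupp.linearEquivFunOnFinite k k G)).finrank_eq,
    Module.finrank_fintype_fun_eq_card, Nat.card_eq_fintype_card]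

/-- The dimension of `kG f` is divisible by the `p`-part of the order of `G`. -/
theorem pow_dvd_finrank (f : MonoidAlgebra k G) (hf : IsIdempotentElem f) :
    p ^ (Nat.card G).factorization p ∣ Module.finrank k (LinearMap.range (LinearMap.mulRight k f)) := by
  obtain ⟨P⟩ : Nonempty (Sylow p G) := inferInstance
  haveI : FiniteDimensional k (MonoidAlgebra k G) :=
    Module.Finite.equiv ((MonoidAlgebra.coeffLinearEquiv k).trans
      (Finsupp.linearEquivFunOnFinite k k G)).symm
  set a := (Nat.card G).factorization p with ha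
  have hcard : Nat.card (P : Subgroup G) = p ^ a := P.card_eq_multiplicity
  set Nm : MonoidAlgebra k G := normSum (P : Subgroup G)
  set T : MonoidAlgebra k G →ₗ[k] MonoidAlgebra k G := LinearMap.mulLeft k Nm with hT
  let V : MonoidAlgebra k G → Submodule k (MonoidAlgebra k G) :=
    fun g => LinearMap.range (LinearMap.mulRight k g)
  have hle : ∀ g, p ^ a * Module.finrank k ((V g).map T) ≤ Module.finrank k (V g) := by
    intro g
    let b := Module.finBasis k ((V g).map T)
    choose v hv hvT using fun i => (b i).2
    have hli : LinearIndependent k fun i => Nm * v i := by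
      have h := b.linearIndependent.map' ((V g).map T).subtype (Submodule.ker_subtype _)
      have e : (fun i => Nm * v i) = ((V g).map T).subtype ∘ b := funext fun i => hvT i
      rw [e]
      exact h
    have h := linearIndependent_translates P.isPGroup' hli
    have hmem : ∀ ix : Fin (Module.finrank k ((V g).map T)) × (P : Subgroup G),
        MonoidAlgebra.single (ix.2 : G) (1 : k) * v ix.1 ∈ V g := by
      intro ix
      obtain ⟨y, hy⟩ := hv ix.1
      exact ⟨MonoidAlgebra.single (ix.2 : G) (1 : k) * y, by
        rw [← hy]; simp [mul_assoc]⟩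
    have h' : LinearIndependent k fun ix => (⟨_, hmem ix⟩ : V g) :=
      LinearIndependent.of_comp (V g).subtype h
    have := h'.fintype_card_le_finrank
    rwa [Fintype.card_prod, Fintype.card_fin, ← Nat.card_eq_fintype_card, hcard, mul_comm] at this
  have hindex : (P : Subgroup G).index ≤
      Module.finrank k ((V f).map T) + Module.finrank k ((V (1 - f)).map T) := by
    let w : G ⧸ (P : Subgroup G) → MonoidAlgebra k G :=
      fun q => Nm * MonoidAlgebra.single q.out⁻¹ 1
    have hwli : LinearIndependent k w := by
      refine Fintype.linearIndependent_iff.2 fun c hc q₀ => ?_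
      have h := congrArg (fun z : MonoidAlgebra k G => z.coeff q₀.out⁻¹) hc
      simp only [MonoidAlgebra.coeff_sum, Finset.sum_apply', MonoidAlgebra.coeff_smul_apply,
        MonoidAlgebra.coeff_zero, Finsupp.zero_apply, smul_eq_mul] at h
      rw [Finset.sum_eq_single q₀] at h
      · simpa [w, Nm, MonoidAlgebra.coeff_mul_single_apply, coeff_normSum] using h
      · intro q _ hq
        have : q₀.out⁻¹ * q.out ∉ (P : Subgroup G) := fun hm => hq (by
          have := QuotientGroup.eq.2 hm
          rwa [QuotientGroup.out_eq', QuotientGroup.out_eq', eq_comm] at this)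
        simp [w, Nm, MonoidAlgebra.coeff_mul_single_apply, coeff_normSum, this]
      · simp
    have hwmem : ∀ q, w q ∈ (V f).map T ⊔ (V (1 - f)).map T := by
      intro q
      set y : MonoidAlgebra k G := MonoidAlgebra.single q.out⁻¹ 1
      refine Submodule.mem_sup.2 ⟨T (y * f), ⟨_, ⟨y, rfl⟩, rfl⟩, T (y * (1 - f)), ⟨_, ⟨y, rfl⟩, rfl⟩, ?_⟩
      rw [← map_add, ← mul_add, add_sub_cancel, mul_one]
      rfl
    have h' : LinearIndependent k fun q =>
        (⟨w q, hwmem q⟩ : ((V f).map T ⊔ (V (1 - f)).map T : Submodule k (MonoidAlgebra k G))) :=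
      LinearIndependent.of_comp (Submodule.subtype _) hwli
    have h1 := h'.fintype_card_le_finrank
    rw [← Nat.card_eq_fintype_card] at h1
    exact le_trans h1 (Submodule.finrank_add_le_finrank_add_finrank _ _)
  have htot : Module.finrank k (V f) + Module.finrank k (V (1 - f)) = Nat.card G := by
    have h := LinearMap.finrank_range_add_finrank_ker (LinearMap.mulRight k f)
    have hk : LinearMap.ker (LinearMap.mulRight k f) = V (1 - f) := by
      ext x
      constructor
      · intro hx
        exact ⟨x, by
          simp only [LinearMap.mem_ker, LinearMap.mulRight_apply] at hx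
          simp [mul_sub, hx]⟩
      · rintro ⟨y, rfl⟩
        simp [mul_assoc, sub_mul, hf.eq]
    rw [hk, finrank_monoidAlgebra] at h
    exact h
  have h1 := hle f
  have h2 := hle (1 - f)
  have h3 : p ^ a * (P : Subgroup G).index = Nat.card G := by
    rw [← hcard, Subgroup.card_mul_index]
  have h4 := Nat.mul_le_mul_left (p ^ a) hindex
  rw [Nat.mul_add] at h4
  refine ⟨Module.finrank k ((V f).map T), ?_⟩
  show Module.finrank k (V f) = _
  omega

end Cfsg.Agent.ProjectiveDim42
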