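import Mathlib
import Cfsg.Agent.Lib.BrandtBlock42
import Cfsg.Agent.Lib.LocalSymAlg42
import Cfsg.Agent.Lib.ProjectiveDim42

/-!
# Blocks with one Brauer character and at most four characters

The order of a defect group of such a block is the number of its characters.
-/

set_option autoImplicit false
set_option linter.style.haveILetI false

open scoped ComplexConjugate

namespace Cfsg.Agent.RankOneBlock42

open Cfsg BlockTheoryLocalRing BlockTheoryCentre BlockTheoryIdem BlockContrib
  BlockContribPrime BrandtAlgebra42 BrandtBlock42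

attribute [local instance] Classical.propDecidable

universe u v

variable {p : ℕ} {M : Ideal AlgInt} {G : Type u} [Group G] [Fintype G]

/-- The classes of `p`-regular elements. -/
abbrev RegCl (p : ℕ) (G : Type u) [Group G] := {C : ConjClasses G // ¬ p ∣ orderOf C.out}

theorem irr_comb_classInner (v : ConjClasses G → ℂ) :
    v = ∑ χ : IrrCharacter G, classInner (fun g => v (ConjClasses.mk g)) (χ : G → ℂ) •
      fun C : ConjClasses G => (χ : G → ℂ) C.out := by
  have hf : IsClassFunction G (fun g => v (ConjClasses.mk g)) := fun g h => congrArg v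
    (ConjClasses.mk_eq_mk_iff_isConj.2 (isConj_iff.2 ⟨h, rfl⟩).symm)
  funext C
  conv_lhs => rw [← Quotient.out_eq C]
  show (fun g => v (ConjClasses.mk g)) C.out = _
  conv_lhs => rw [CharBasicOrth.eq_sum_classInner hf]
  simp [Finset.sum_apply]

/-- The idempotent on class functions has no entries from regular to singular classes. -/
theorem classMat_eq_zero (hM : IsPModular p M) {B : Set (IrrCharacter G)} (hB : IsPBlock M B)
    {C D : ConjClasses G} (hC : ¬ p ∣ orderOf C.out) (hD : p ∣ orderOf D.out) :
    classMat hM hB C D = 0 := by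
  refine Subtype.ext ?_
  have h := congrFun (congrArg ((classMat hM hB).map (localRing hM).subtype).mulVec
    (irr_comb_classInner (Pi.single D (1 : ℂ)))) C
  rw [Matrix.mulVec_single_one, Matrix.mulVec_sum] at h
  simp only [Matrix.mulVec_smul, classMat_irr, Finset.sum_apply, Pi.smul_apply, smul_eq_mul] at h
  refine Eq.trans ?_ (Eq.trans h ?_)
  · rfl
  · simp only [classInner, Finset.sum_mul, Finset.mul_sum]
    rw [Finset.sum_comm]
    refine Finset.sum_eq_zero fun t _ => ?_
    by_cases ht : ConjClasses.mk t = D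
    · have htp : p ∣ orderOf t := by
        obtain ⟨c, hc⟩ := isConj_iff.1 ((isConj_out D).1 ht)
        rw [← hc, show c * D.out * c⁻¹ = MulAut.conj c D.out from rfl, MulEquiv.orderOf_eq]
        exact hD
      have hw := weak_orthogonality hM hB hC htp
      calc _ = (Nat.card G : ℂ)⁻¹ * Pi.single (M := fun _ => ℂ) D (1 : ℂ) (ConjClasses.mk t) *
            ∑ χ : IrrCharacter G,
              (if χ ∈ B then (χ : G → ℂ) C.out * conj ((χ : G → ℂ) t) else 0) := by
            rw [Finset.mul_sum]
            refine Finset.sum_congr rfl fun χ _ => ?_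
            split_ifs
            · ring
            · simp
        _ = 0 := by rw [hw, mul_zero]
    · refine Finset.sum_eq_zero fun χ _ => ?_
      rw [Pi.single_eq_of_ne ht]
      simp

/-- The idempotent restricted to the regular classes. -/
noncomputable def regMat (hM : IsPModular p M) {B : Set (IrrCharacter G)} (hB : IsPBlock M B) :
    Matrix (RegCl p G) (RegCl p G) (localRing hM) :=
  (classMat hM hB).submatrix Subtype.val Subtype.val

theorem sum_regCl {S : Type*} [AddCommMonoid S] (F : ConjClasses G → S)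
    (h : ∀ D : ConjClasses G, p ∣ orderOf D.out → F D = 0) :
    ∑ D : RegCl p G, F D.1 = ∑ D, F D := by
  rw [← Finset.sum_filter_of_ne (s := Finset.univ) (p := fun D : ConjClasses G => ¬ p ∣ orderOf D.out)
    fun D _ hne hp => hne (h D hp)]
  exact (Finset.sum_subtype _ (fun D => by simp) F).symm

theorem regMat_sq (hM : IsPModular p M) {B : Set (IrrCharacter G)} (hB : IsPBlock M B) :
    regMat hM hB * regMat hM hB = regMat hM hB := by
  ext C D : 1
  conv_rhs => rw [regMat, Matrix.submatrix_apply, ← classMat_sq hM hB, Matrix.mul_apply]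
  rw [Matrix.mul_apply]
  exact sum_regCl (fun E => classMat hM hB C.1 E * classMat hM hB E D.1)
    fun E hE => by rw [classMat_eq_zero hM hB C.2 hE, zero_mul]

theorem regMat_mulVec {S : Type*} [CommRing S] (hM : IsPModular p M) {B : Set (IrrCharacter G)}
    (hB : IsPBlock M B) (f : localRing hM →+* S) (v : ConjClasses G → S) (C : RegCl p G) :
    ((regMat hM hB).map f).mulVec (fun D => v D.1) C = ((classMat hM hB).map f).mulVec v C.1 :=
  sum_regCl (fun E => f (classMat hM hB C.1 E) * v E)
    fun E hE => by rw [classMat_eq_zero hM hB C.2 hE, map_zero, zero_mul]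

theorem regMat_rank_le (hM : IsPModular p M) {B : Set (IrrCharacter G)} (hB : IsPBlock M B) :
    Module.finrank ℂ
      (LinearMap.range (Matrix.toLin' ((regMat hM hB).map (localRing hM).subtype))) ≤ blockRank p B := by
  let ρ : (G → ℂ) →ₗ[ℂ] (RegCl p G → ℂ) := LinearMap.funLeft ℂ ℂ fun C : RegCl p G => C.1.out
  set S := Submodule.span ℂ ((fun χ : IrrCharacter G => pRegularPart p (χ : G → ℂ)) '' B)
  have hle : LinearMap.range (Matrix.toLin' ((regMat hM hB).map (localRing hM).subtype)) ≤ S.map ρ := by
    rintro _ ⟨v, rfl⟩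
    let v₀ : ConjClasses G → ℂ := fun D => if h : ¬ p ∣ orderOf D.out then v ⟨D, h⟩ else 0
    have hv : v = fun D : RegCl p G => v₀ D.1 := funext fun D => by simp [v₀, D.2]
    obtain ⟨c, hc⟩ := exists_irr_comb v₀
    have e : Matrix.toLin' ((regMat hM hB).map (localRing hM).subtype) v =
        ∑ χ : IrrCharacter G, c χ • if χ ∈ B then ρ (pRegularPart p (χ : G → ℂ)) else 0 := by
      funext C
      rw [Matrix.toLin'_apply, hv, regMat_mulVec, hc, Matrix.mulVec_sum]
      simp only [Matrix.mulVec_smul, classMat_irr, Finset.sum_apply, Pi.smul_apply, smul_eq_mul]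
      refine Finset.sum_congr rfl fun χ _ => congrArg _ ?_
      split_ifs
      · simp [ρ, LinearMap.funLeft_apply, pRegularPart, IsPRegular, C.2]
      · rfl
    rw [e]
    refine Submodule.sum_mem _ fun χ _ => Submodule.smul_mem _ _ ?_
    split_ifs with h
    · exact ⟨_, Submodule.subset_span ⟨χ, h, rfl⟩, rfl⟩
    · exact zero_mem _
  exact (Submodule.finrank_mono hle).trans (Submodule.finrank_map_le ρ S)

variable {k : Type v} [Field k] [IsAlgClosed k]

/-- The dimensions in the block algebra of a block with one Brauer character. -/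
theorem algebra_dims (hM : IsPModular p M) [CharP k p] {B : Set (IrrCharacter G)} (hB : IsPBlock M B)
    (π : localRing hM →+* k) (hl : blockRank p B = 1) (hk : Nat.card B ≤ 4) :
    ∃ n c : ℕ, 0 < c ∧ c ≤ Nat.card B ∧
      ∑ χ ∈ BlockContribBounds.members B, charDegree (χ : G → ℂ) ^ 2 = n ^ 2 * c ∧
      p ^ (Nat.card G).factorization p ∣ n * c := by
  haveI : Fact p.Prime := ⟨hM.1⟩
  set e := eK hM hB π with he
  let I : Ideal (MonoidAlgebra k G) :=
    { carrier := {w | e * w = 0}
      add_mem' := fun {a b} ha hb => by show e * (a + b) = 0; rw [mul_add, ha, hb, add_zero]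
      zero_mem' := mul_zero e
      smul_mem' := fun c w hw => by
        show e * (c * w) = 0
        rw [← mul_assoc, eK_comm, mul_assoc, show e * w = 0 from hw, mul_zero] }
  haveI : I.IsTwoSided := ⟨fun b ha => by
    show e * (_ * b) = 0
    rw [← mul_assoc, show e * _ = 0 from ha, zero_mul]⟩
  let q : MonoidAlgebra k G →ₐ[k] MonoidAlgebra k G ⧸ I := Ideal.Quotient.mkₐ k I
  have hqs : Function.Surjective q := Ideal.Quotient.mk_surjective
  have hq : ∀ w, q w = 0 ↔ e * w = 0 := fun w => Ideal.Quotient.eq_zero_iff_mem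
  haveI : FiniteDimensional k (MonoidAlgebra k G ⧸ I) :=
    Module.Finite.of_surjective q.toLinearMap hqs
  have hinj : Function.Injective (localRing hM).subtype := Subtype.val_injective
  -- the dimension
  have hdim : Module.finrank k (MonoidAlgebra k G ⧸ I) =
      ∑ χ ∈ BlockContribBounds.members B, charDegree (χ : G → ℂ) ^ 2 := by
    let L : MonoidAlgebra k G ≃ₗ[k] (G → k) :=
      (MonoidAlgebra.coeffLinearEquiv k).trans (Finsupp.linearEquivFunOnFinite k k G)
    let T : MonoidAlgebra k G →ₗ[k] MonoidAlgebra k G := LinearMap.mulLeft k e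
    have hL : Matrix.toLin' ((leftMat hM hB).map π) = L.conj T := by
      refine LinearMap.ext fun v => funext fun x => ?_
      have hv : ∀ y, (L.symm v).coeff y = v y := fun y => congrFun (L.apply_symm_apply v) y
      rw [Matrix.toLin'_apply, LinearEquiv.conj_apply]
      show _ = (e * L.symm v).coeff x
      rw [coeff_mul']
      simp only [Matrix.mulVec, dotProduct, Matrix.map_apply, leftMat, Matrix.of_apply, hv, he, coeff_eK]
      refine Fintype.sum_equiv ((Equiv.inv G).trans (Equiv.mulLeft x)) _ _ fun y => ?_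
      simp only [Equiv.trans_apply, Equiv.inv_apply, Equiv.coe_mulLeft]
      congr 2
      group
    have h1 := LinearMap.finrank_range_add_finrank_ker T
    have h2 := LinearMap.finrank_range_add_finrank_ker q.toLinearMap
    have h3 : LinearMap.ker T = LinearMap.ker q.toLinearMap := by
      ext w
      simp only [LinearMap.mem_ker, T, LinearMap.mulLeft_apply, AlgHom.toLinearMap_apply, hq]
    rw [LinearMap.range_eq_top.2 hqs, finrank_top, ← h3] at h2
    have h4 : Module.finrank k (LinearMap.range (Matrix.toLin' ((leftMat hM hB).map π))) =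
        Module.finrank k (LinearMap.range T) := by
      rw [hL, LinearEquiv.conj_apply, LinearMap.range_comp_of_range_eq_top _
        (LinearEquiv.range L.symm), LinearMap.range_comp, LinearEquiv.finrank_map_eq]
    rw [rank_map_eq _ hinj π _ (leftMat_sq hM hB)] at h4
    have htrc := rank_eq_trace _ (by rw [← Matrix.map_mul, leftMat_sq hM hB] :
      (leftMat hM hB).map (localRing hM).subtype * (leftMat hM hB).map (localRing hM).subtype =
        (leftMat hM hB).map (localRing hM).subtype)
    rw [leftMat_trace, h4] at htrc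
    have : Module.finrank k (MonoidAlgebra k G ⧸ I) = Module.finrank k (LinearMap.range T) := by omega
    rw [this]
    exact_mod_cast htrc
  haveI : Nontrivial (MonoidAlgebra k G ⧸ I) := by
    refine Module.nontrivial_of_finrank_pos (R := k) ?_
    rw [hdim]
    obtain ⟨χ, hχ⟩ := block_nonempty hM hB
    exact lt_of_lt_of_le (pow_pos (ClassAlgebraVal.charDegree_pos χ) 2)
      (Finset.single_le_sum (f := fun χ : IrrCharacter G => charDegree (χ : G → ℂ) ^ 2)
        (fun _ _ => Nat.zero_le _) (BlockContribBounds.mem_members.2 hχ))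
  -- the trace functional
  let τ0 : MonoidAlgebra k G →ₗ[k] k :=
    { toFun := fun w => (e * w).coeff 1
      map_add' := fun a b => by simp [mul_add]
      map_smul' := fun c a => by simp }
  obtain ⟨σ, hσ⟩ := q.toLinearMap.exists_rightInverse_of_surjective (LinearMap.range_eq_top.2 hqs)
  let τ := τ0.comp σ
  have hτq : ∀ w, τ (q w) = (e * w).coeff 1 := by
    intro w
    have h1 : q (σ (q w) - w) = 0 := by
      have := LinearMap.congr_fun hσ (q w)
      rw [map_sub, sub_eq_zero]
      exact this
    have h2 := (hq _).1 h1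
    rw [mul_sub, sub_eq_zero] at h2
    show (e * σ (q w)).coeff 1 = _
    rw [h2]
  have hτ : IsTr τ := by
    intro a b
    obtain ⟨a, rfl⟩ := hqs a
    obtain ⟨b, rfl⟩ := hqs b
    have key : ∀ a b : MonoidAlgebra k G, (a * b).coeff 1 = (b * a).coeff 1 := fun a b => by
      rw [coeff_mul', coeff_mul']
      refine Fintype.sum_equiv (Equiv.inv G) _ _ fun x => ?_
      simp [mul_comm]
    rw [← map_mul, ← map_mul, hτq, hτq, ← mul_assoc, key, ← mul_assoc, ← eK_comm, mul_assoc]
  have hnd : ∀ a, (∀ b, τ (a * b) = 0) → a = 0 := by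
    intro a ha
    obtain ⟨a, rfl⟩ := hqs a
    rw [hq]
    ext x
    have := ha (q (MonoidAlgebra.single x⁻¹ 1))
    rw [← map_mul, hτq, ← mul_assoc, coeff_mul_single', one_mul, inv_inv] at this
    simpa using this
  -- trace functionals as functions on the classes
  let f : (MonoidAlgebra k G ⧸ I →ₗ[k] k) → ConjClasses G → k :=
    fun φ C => φ (q (MonoidAlgebra.single C.out 1))
  have hcl : ∀ φ : MonoidAlgebra k G ⧸ I →ₗ[k] k, IsTr φ → ∀ g, φ (q (MonoidAlgebra.single (ConjClasses.mk g).out 1)) =
      φ (q (MonoidAlgebra.single g 1)) := by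
    intro φ hφ g
    obtain ⟨c, hc'⟩ := isConj_iff.1 ((isConj_out (ConjClasses.mk g)).1 rfl)
    have hg : MonoidAlgebra.single g (1 : k) = MonoidAlgebra.single c 1 *
        MonoidAlgebra.single (ConjClasses.mk g).out 1 * MonoidAlgebra.single c⁻¹ 1 := by
      simp [MonoidAlgebra.single_mul_single, hc']
    conv_rhs => rw [hg, map_mul, hφ, ← map_mul, ← mul_assoc, MonoidAlgebra.single_mul_single,
      inv_mul_cancel, one_mul, ← MonoidAlgebra.one_def, one_mul]
  have hfix : ∀ φ : MonoidAlgebra k G ⧸ I →ₗ[k] k, IsTr φ → ((classMat hM hB).map π).mulVec (f φ) = f φ := by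
    intro φ hφ
    funext C
    rw [classMat_mulVec]
    have hx : q (MonoidAlgebra.single C.out 1) = q (e * MonoidAlgebra.single C.out 1) := by
      rw [← sub_eq_zero, ← map_sub, hq, mul_sub, ← mul_assoc, eK_sq, sub_self]
    show _ = φ (q (MonoidAlgebra.single C.out 1))
    rw [hx, he, eK, Finset.sum_mul, map_sum, map_sum]
    refine Finset.sum_congr rfl fun h _ => ?_
    show π (eR hM hB h) * φ (q (MonoidAlgebra.single (ConjClasses.mk (h * C.out)).out 1)) = _
    rw [hcl φ hφ, MonoidAlgebra.single_mul_single, mul_one,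
      show MonoidAlgebra.single (h * C.out) (π (eR hM hB h)) =
        π (eR hM hB h) • MonoidAlgebra.single (h * C.out) (1 : k) by
        rw [MonoidAlgebra.smul_single', mul_one], map_smul, map_smul, smul_eq_mul]
  have hzero : ∀ ψ : MonoidAlgebra k G ⧸ I →ₗ[k] k,
      (∀ g : G, ψ (q (MonoidAlgebra.single g 1)) = 0) → ψ = 0 := by
    intro ψ h
    refine LinearMap.ext fun a => ?_
    obtain ⟨a, rfl⟩ := hqs a
    induction a using MonoidAlgebra.induction_linear with
    | zero => simp
    | add a b ha hb => simp only [map_add, ha, hb, LinearMap.zero_apply]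
    | single x r =>
      rw [show MonoidAlgebra.single x r = r • MonoidAlgebra.single x (1 : k) by
        rw [MonoidAlgebra.smul_single', mul_one], map_smul, map_smul, h, smul_zero]
      rfl
  have htr : ∀ φ : Fin (Nat.card B + 1) → (MonoidAlgebra k G ⧸ I →ₗ[k] k), (∀ i, IsTr (φ i)) →
      ¬ LinearIndependent k φ := by
    intro φ hφ hli
    have hr : ∀ i, f (φ i) ∈ LinearMap.range (Matrix.toLin' ((classMat hM hB).map π)) := fun i =>
      ⟨f (φ i), by rw [Matrix.toLin'_apply]; exact hfix _ (hφ i)⟩
    have hrank : Module.finrank k (LinearMap.range (Matrix.toLin' ((classMat hM hB).map π))) ≤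
        Nat.card B := by
      rw [rank_map_eq _ hinj π _ (classMat_sq hM hB)]
      exact classMat_rank_le hM hB
    have hf : LinearIndependent k
        (fun i => (⟨f (φ i), hr i⟩ : LinearMap.range (Matrix.toLin' ((classMat hM hB).map π)))) := by
      refine Fintype.linearIndependent_iff.2 fun g hg i => ?_
      refine Fintype.linearIndependent_iff.1 hli g (hzero _ fun x => ?_) i
      have := congrArg (fun w : LinearMap.range (Matrix.toLin' ((classMat hM hB).map π)) =>
        (w : ConjClasses G → k) (ConjClasses.mk x)) hg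
      simp only [f, Submodule.coe_sum, Submodule.coe_smul, Finset.sum_apply, Pi.smul_apply,
        Submodule.coe_zero, Pi.zero_apply] at this
      simp only [LinearMap.sum_apply, LinearMap.smul_apply]
      rw [← this]
      exact Finset.sum_congr rfl fun i _ => by rw [hcl _ (hφ i)]
    have := hf.fintype_card_le_finrank
    rw [Fintype.card_fin] at this
    omega
  have htwo : ∀ φ : Fin 2 → (MonoidAlgebra k G ⧸ I →ₗ[k] k), (∀ i, IsTr (φ i)) →
      (∀ i, ∀ z, IsNilpotent z → φ i z = 0) → ¬ LinearIndependent k φ := by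
    intro φ hφ hnil hli
    have hr : ∀ i, (fun C : RegCl p G => f (φ i) C.1) ∈
        LinearMap.range (Matrix.toLin' ((regMat hM hB).map π)) := fun i =>
      ⟨fun C : RegCl p G => f (φ i) C.1, funext fun C => by
        rw [Matrix.toLin'_apply, regMat_mulVec, hfix _ (hφ i)]⟩
    have hrank : Module.finrank k (LinearMap.range (Matrix.toLin' ((regMat hM hB).map π))) ≤ 1 := by
      rw [rank_map_eq _ hinj π _ (regMat_sq hM hB), ← hl]
      exact regMat_rank_le hM hB
    haveI : CharP (MonoidAlgebra k G) p :=
      charP_of_injective_algebraMap (FaithfulSMul.algebraMap_injective k (MonoidAlgebra k G)) p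
    have hsec : ∀ (g : G), ∃ C : RegCl p G, ∀ j, φ j (q (MonoidAlgebra.single g 1)) =
        f (φ j) C.1 := by
      intro g
      obtain ⟨z, w, rfl, hcom, ⟨l, hzl⟩, hw⟩ := exists_pPart (p := p) hM.1 g
      have hreg : ¬ p ∣ orderOf (ConjClasses.mk w).out := by
        obtain ⟨c, hc⟩ := isConj_iff.1 ((isConj_out (ConjClasses.mk w)).1 rfl)
        rw [← hc, show c * (ConjClasses.mk w).out * c⁻¹ = MulAut.conj c (ConjClasses.mk w).out from rfl,
          MulEquiv.orderOf_eq] at hw
        exact hw
      refine ⟨⟨ConjClasses.mk w, hreg⟩, fun j => ?_⟩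
      show _ = φ j (q (MonoidAlgebra.single (ConjClasses.mk w).out 1))
      rw [hcl _ (hφ j), ← sub_eq_zero, ← map_sub, ← map_sub]
      refine hnil j _ (IsNilpotent.map ?_ q)
      rw [show MonoidAlgebra.single (z * w) (1 : k) - MonoidAlgebra.single w 1 =
        (MonoidAlgebra.single z 1 - 1) * MonoidAlgebra.single w 1 by
          rw [sub_mul, one_mul, MonoidAlgebra.single_mul_single, mul_one]]
      refine Commute.isNilpotent_mul_right ?_ ⟨p ^ l, ?_⟩
      · refine Commute.sub_left ?_ (Commute.one_left _)
        show _ * _ = _ * _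
        rw [MonoidAlgebra.single_mul_single, MonoidAlgebra.single_mul_single, hcom.eq]
      · rw [sub_pow_char_pow_of_commute p l (Commute.one_right _), one_pow, MonoidAlgebra.single_pow,
          ← hzl, pow_orderOf_eq_one, one_pow, ← MonoidAlgebra.one_def, sub_self]
    have hf : LinearIndependent k (fun i => (⟨fun C : RegCl p G => f (φ i) C.1, hr i⟩ :
        LinearMap.range (Matrix.toLin' ((regMat hM hB).map π)))) := by
      refine Fintype.linearIndependent_iff.2 fun g hg i => ?_
      refine Fintype.linearIndependent_iff.1 hli g (hzero _ fun x => ?_) i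
      obtain ⟨C, hC⟩ := hsec x
      have := congrArg (fun w : LinearMap.range (Matrix.toLin' ((regMat hM hB).map π)) =>
        (w : RegCl p G → k) C) hg
      simp only [Submodule.coe_sum, Submodule.coe_smul, Finset.sum_apply, Pi.smul_apply,
        Submodule.coe_zero, Pi.zero_apply] at this
      simp only [LinearMap.sum_apply, LinearMap.smul_apply]
      rw [← this]
      exact Finset.sum_congr rfl fun j _ => by rw [hC j]
    have := hf.fintype_card_le_finrank
    rw [Fintype.card_fin] at this
    omega
  obtain ⟨n, c, ε, hε, -, hc0, hcK, hA, hAe⟩ :=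
    LocalSymAlg42.basic_dims τ hτ hnd htwo hk htr
  refine ⟨n, c, hc0, hcK, by rw [← hdim, hA], ?_⟩
  -- lift the idempotent
  obtain ⟨w, hw⟩ := hqs ε
  have hqe : ∀ x, q (e * x) = q x := fun x => by
    rw [← sub_eq_zero, ← map_sub, hq, mul_sub, ← mul_assoc, eK_sq, sub_self]
  have hff : IsIdempotentElem (e * w) := by
    show e * w * (e * w) = e * w
    have h0 : e * (w * w) = e * w := by
      rw [← sub_eq_zero, ← mul_sub, ← hq, map_sub, map_mul, hw, hε.eq, sub_self]
    calc e * w * (e * w) = e * (w * e) * w := by simp only [mul_assoc]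
      _ = e * (e * w) * w := by rw [← eK_comm]
      _ = e * e * (w * w) := by simp only [mul_assoc]
      _ = e * w := by rw [eK_sq, h0]
  have hrg : (LinearMap.range (LinearMap.mulRight k (e * w))).map q.toLinearMap =
      LinearMap.range (LinearMap.mulRight k ε) := by
    ext a
    constructor
    · rintro ⟨_, ⟨x, rfl⟩, rfl⟩
      exact ⟨q x, by
        simp only [LinearMap.mulRight_apply, AlgHom.toLinearMap_apply, map_mul]
        rw [← map_mul q e w, hqe, hw]⟩
    · rintro ⟨b, rfl⟩
      obtain ⟨x, rfl⟩ := hqs b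
      exact ⟨_, ⟨x, rfl⟩, by
        simp only [LinearMap.mulRight_apply, AlgHom.toLinearMap_apply, map_mul]
        rw [← map_mul q e w, hqe, hw]⟩
  let qV := q.toLinearMap.comp (LinearMap.range (LinearMap.mulRight k (e * w))).subtype
  have hqV : Function.Injective qV := (injective_iff_map_eq_zero qV).2 fun a ha => by
    obtain ⟨x, hx⟩ := a.2
    have h : e * (a : MonoidAlgebra k G) = (a : MonoidAlgebra k G) := by
      rw [← hx, LinearMap.mulRight_apply, ← mul_assoc, eK_comm, mul_assoc, ← mul_assoc e e w, eK_sq]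
    exact Subtype.ext (h.symm.trans ((hq _).1 ha))
  have hd := LinearMap.finrank_range_of_inj hqV
  rw [show LinearMap.range qV = LinearMap.range (LinearMap.mulRight k ε) by
    rw [LinearMap.range_comp, Submodule.range_subtype, hrg], hAe] at hd
  rw [hd]
  exact ProjectiveDim42.pow_dvd_finrank _ hff


/-- A block with one Brauer character: its degrees against its contributions. -/
theorem rank_one_degrees (hM : IsPModular p M) {B : Set (IrrCharacter G)} (hB : IsPBlock M B)
    (hl : blockRank p B = 1) :
    Nat.card B ≤ p ^ blockDefect p B ∧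
    ∃ (A : ℤ) (χ : IrrCharacter G), ¬ (p : ℤ) ∣ A ∧
      (charDegree (χ : G → ℂ)).factorization p = minExp p B ∧
      (A : ℤ) * (∑ ψ ∈ BlockContribBounds.members B, charDegree (ψ : G → ℂ) ^ 2 : ℕ) =
        (p : ℤ) ^ blockDefect p B * (charDegree (χ : G → ℂ) : ℤ) ^ 2 := by
  obtain ⟨χ, hχ, h0⟩ := exists_height_zero hM hB
  set w := pRegularPart p (χ : G → ℂ) with hw
  set S := Submodule.span ℂ ((fun ξ : IrrCharacter G => pRegularPart p (ξ : G → ℂ)) '' B)
  have hS : Submodule.span ℂ {w} = S := by
    refine Submodule.eq_of_le_of_finrank_le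
      (Submodule.span_le.2 (Set.singleton_subset_iff.2 (Submodule.subset_span ⟨χ, hχ, rfl⟩))) ?_
    rw [finrank_span_singleton (BlockDefectOneTwo79.regPart_ne_zero hM.1 χ)]
    exact hl.le
  have key : ∀ ψ ∈ B,
      contrib p B χ ψ * (charDegree (χ : G → ℂ) : ℤ) = contrib p B χ χ * charDegree (ψ : G → ℂ) ∧
      contrib p B ψ ψ * (charDegree (χ : G → ℂ) : ℤ) ^ 2 =
        contrib p B χ χ * (charDegree (ψ : G → ℂ) : ℤ) ^ 2 := by
    intro ψ hψ
    obtain ⟨t, ht⟩ := Submodule.mem_span_singleton.1
      (hS ▸ Submodule.subset_span ⟨ψ, hψ, rfl⟩ : pRegularPart p (ψ : G → ℂ) ∈ Submodule.span ℂ {w})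
    have hval : ∀ g : G, ¬ p ∣ orderOf g → (ψ : G → ℂ) g = t * (χ : G → ℂ) g := fun g hg => by
      have h := congrFun ht g
      simpa [hw, pRegularPart, IsPRegular, hg] using h.symm
    have h1 := hval 1 (by rw [orderOf_one]; exact hM.1.not_dvd_one)
    rw [ClassAlgebraVal.apply_one_eq_charDegree, ClassAlgebraVal.apply_one_eq_charDegree] at h1
    have hχ0 : (charDegree (χ : G → ℂ) : ℂ) ≠ 0 :=
      Nat.cast_ne_zero.2 (ClassAlgebraVal.charDegree_pos χ).ne'
    have htc : conj t = t := by
      have h := congrArg conj h1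
      rw [map_mul, Complex.conj_natCast, Complex.conj_natCast, h1] at h
      exact (mul_right_cancel₀ hχ0 h).symm
    have e1 : pair p (χ : G → ℂ) ψ = t * pair p (χ : G → ℂ) χ := by
      simp only [pair, regSum_eq, Finset.mul_sum]
      refine Finset.sum_congr rfl fun g _ => ?_
      by_cases hg : p ∣ orderOf g
      · simp [hg]
      · rw [if_pos hg, if_pos hg, hval g hg]; ring
    have e2 : pair p (ψ : G → ℂ) ψ = t * t * pair p (χ : G → ℂ) χ := by
      simp only [pair, regSum_eq, Finset.mul_sum]
      refine Finset.sum_congr rfl fun g _ => ?_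
      by_cases hg : p ∣ orderOf g
      · simp [hg]
      · rw [if_pos hg, if_pos hg, hval g hg, map_mul, htc]; ring
    rw [pair_eq_contrib hM.1 χ hψ (B := B), pair_eq_contrib hM.1 χ hχ (B := B), mul_left_comm] at e1
    rw [pair_eq_contrib hM.1 ψ hψ (B := B), pair_eq_contrib hM.1 χ hχ (B := B), mul_left_comm] at e2
    have e1' := mul_left_cancel₀ (scale_ne_zero (G := G) hM.1 B) e1
    have e2' := mul_left_cancel₀ (scale_ne_zero (G := G) hM.1 B) e2
    constructor
    · have : (contrib p B χ ψ : ℂ) * (charDegree (χ : G → ℂ) : ℂ) =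
          (contrib p B χ χ : ℂ) * (charDegree (ψ : G → ℂ) : ℂ) := by
        rw [e1', h1]; ring
      exact_mod_cast this
    · have : (contrib p B ψ ψ : ℂ) * (charDegree (χ : G → ℂ) : ℂ) ^ 2 =
          (contrib p B χ χ : ℂ) * (charDegree (ψ : G → ℂ) : ℂ) ^ 2 := by
        rw [e2', h1]; ring
      exact_mod_cast this
  have hsq := sum_contrib_sq hM hB hχ
  rw [BlockContribBounds.filter_eq_members] at hsq
  set A := contrib p B χ χ
  set N₁ := (charDegree (χ : G → ℂ) : ℤ)
  have hA0 : A ≠ 0 := (contrib_self_pos (G := G) hM.1 hχ (B := B)).ne'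
  have hN0 : N₁ ≠ 0 := Int.natCast_ne_zero.2 (ClassAlgebraVal.charDegree_pos χ).ne'
  have hmain : A * ∑ ψ ∈ BlockContribBounds.members B, (charDegree (ψ : G → ℂ) : ℤ) ^ 2 =
      (p : ℤ) ^ blockDefect p B * N₁ ^ 2 := by
    refine mul_left_cancel₀ hA0 ?_
    calc A * (A * ∑ ψ ∈ BlockContribBounds.members B, (charDegree (ψ : G → ℂ) : ℤ) ^ 2)
        = ∑ ψ ∈ BlockContribBounds.members B, (A * (charDegree (ψ : G → ℂ) : ℤ)) ^ 2 := by
          rw [Finset.mul_sum, Finset.mul_sum]
          exact Finset.sum_congr rfl fun ψ _ => by ring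
      _ = ∑ ψ ∈ BlockContribBounds.members B, contrib p B χ ψ ^ 2 * N₁ ^ 2 :=
          Finset.sum_congr rfl fun ψ hψ => by
            rw [← (key ψ (BlockContribBounds.mem_members.1 hψ)).1]; ring
      _ = _ := by rw [← Finset.sum_mul, hsq]; ring
  refine ⟨?_, A, χ, ?_, ?_, by exact_mod_cast hmain⟩
  · have hdiag : ∑ ψ ∈ BlockContribBounds.members B, contrib p B ψ ψ = (p : ℤ) ^ blockDefect p B := by
      refine mul_right_cancel₀ (pow_ne_zero 2 hN0) ?_
      rw [Finset.sum_mul, ← hmain, Finset.mul_sum]
      exact Finset.sum_congr rfl fun ψ hψ => (key ψ (BlockContribBounds.mem_members.1 hψ)).2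
    have h : ((BlockContribBounds.members B).card : ℤ) ≤ (p : ℤ) ^ blockDefect p B := by
      rw [← hdiag, Finset.card_eq_sum_ones, Nat.cast_sum]
      refine Finset.sum_le_sum fun ψ hψ => ?_
      have := contrib_self_pos (G := G) hM.1 (BlockContribBounds.mem_members.1 hψ) (B := B)
      push_cast
      omega
    rw [BlockContribBounds.card_members]
    exact_mod_cast h
  · have h := contrib_not_dvd hM hB hχ h0 hχ
    rwa [h0, zero_add, pow_one] at h
  · rw [exp_eq_add (p := p) hχ, h0, add_zero]


/-- A block with one Brauer character and at most four characters: the defect group has order `k`. -/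
theorem pow_defect_eq_card (hM : IsPModular p M) {B : Set (IrrCharacter G)} (hB : IsPBlock M B)
    (hl : blockRank p B = 1) (hk : Nat.card B ≤ 4) : p ^ blockDefect p B = Nat.card B := by
  haveI : Fact p.Prime := ⟨hM.1⟩
  haveI : M.IsMaximal := hM.2.1
  letI := Ideal.Quotient.field M
  haveI := isAlgClosed_residue hM
  haveI : CharP (AlgInt ⧸ M) p := by
    refine (CharP.charP_iff_prime_eq_zero hM.1).2 ?_
    rw [← map_natCast (Ideal.Quotient.mk M)]
    exact Ideal.Quotient.eq_zero_iff_mem.2 hM.2.2
  obtain ⟨π, -⟩ := exists_reduction hM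
  obtain ⟨n, c, hc0, hck, hsum, hdvd⟩ := algebra_dims hM hB π hl hk
  obtain ⟨hkd, A, χ, hA, hexp, hmain⟩ := rank_one_degrees hM hB hl
  have hd := minExp_add_defect hM hB
  have hχ0 : charDegree (χ : G → ℂ) ≠ 0 := (ClassAlgebraVal.charDegree_pos χ).ne'
  have hA0 : A.natAbs ≠ 0 := fun h => hA (by rw [Int.natAbs_eq_zero.1 h]; exact dvd_zero _)
  have key : A.natAbs * (n ^ 2 * c) = p ^ blockDefect p B * charDegree (χ : G → ℂ) ^ 2 := by
    have h := congrArg Int.natAbs hmain
    rw [hsum, Int.natAbs_mul, Int.natAbs_mul, Int.natAbs_pow, Int.natAbs_pow, Int.natAbs_natCast,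
      Int.natAbs_natCast, Int.natAbs_natCast] at h
    exact h
  have hn0 : n ≠ 0 := by
    intro h
    rw [h, zero_pow two_ne_zero, zero_mul, mul_zero] at key
    exact mul_ne_zero (pow_ne_zero _ hM.1.ne_zero) (pow_ne_zero 2 hχ0) key.symm
  have h1 := congrArg (fun t : ℕ => t.factorization p) key
  simp only [Nat.factorization_mul hA0 (mul_ne_zero (pow_ne_zero 2 hn0) hc0.ne'),
    Nat.factorization_mul (pow_ne_zero 2 hn0) hc0.ne',
    Nat.factorization_mul (pow_ne_zero _ hM.1.ne_zero) (pow_ne_zero 2 hχ0), Nat.factorization_pow,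
    hM.1.factorization, Finsupp.coe_add, Pi.add_apply, Finsupp.coe_smul, Pi.smul_apply, smul_eq_mul,
    Finsupp.single_eq_same,
    Nat.factorization_eq_zero_of_not_dvd (fun h => hA (Int.natCast_dvd.2 h) : ¬ p ∣ A.natAbs)] at h1
  have h2 := (Nat.Prime.pow_dvd_iff_le_factorization hM.1 (mul_ne_zero hn0 hc0.ne')).1 hdvd
  rw [Nat.factorization_mul hn0 hc0.ne', Finsupp.add_apply] at h2
  have h3 : p ^ blockDefect p B ∣ c :=
    (Nat.Prime.pow_dvd_iff_le_factorization hM.1 hc0.ne').2 (by omega)
  have := Nat.le_of_dvd hc0 h3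
  omega

end Cfsg.Agent.RankOneBlock42
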