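import Mathlib
import Cfsg.Agent.Lib.CyclicRep42
import Cfsg.Agent.Lib.RankOneBlock42

/-!
# Irreducible representations of a block in characteristic `p`

The trace functions of the irreducible representations of a block on the `p`-regular classes span a
space of dimension the `p`-regular rank of the block.
-/

set_option autoImplicit false
set_option linter.style.haveILetI false

namespace Cfsg.Agent.CyclicBlockRep42

open Cfsg BlockTheoryLocalRing BlockTheoryCentre BlockTheoryIdem BrandtAlgebra42 BrandtBlock42
  RankOneBlock42 CyclicRep42 BlockPrime86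

attribute [local instance] Classical.propDecidable

universe u

variable {p : ℕ} {M : Ideal AlgInt} {G : Type u} [Group G] [Fintype G] {k : Type} [Field k]

/-- The representation lies in the block with idempotent `e`. -/
def InBlk (e : MonoidAlgebra k G) (W : Type u) [AddCommGroup W] [Module k W]
    (σ : Representation k G W) : Prop :=
  σ.asAlgebraHom e = 1

theorem inBlk_sub {e : MonoidAlgebra k G} (W : Type u) [AddCommGroup W] [Module k W]
    (σ : Representation k G W) (U : Submodule k W) (hU : ∀ g, ∀ x ∈ U, σ g x ∈ U)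
    (h : InBlk e W σ) : InBlk e U (subRep σ U hU) ∧ InBlk e (W ⧸ U) (quotRep σ U hU) := by
  refine ⟨LinearMap.ext fun x => Subtype.ext ?_, LinearMap.ext fun x => ?_⟩
  · rw [asAlg_subRep, h]
    rfl
  · obtain ⟨y, rfl⟩ := U.mkQ_surjective x
    rw [asAlg_quotRep, h]
    rfl

theorem asAlg_comm {V : Type u} [AddCommGroup V] [Module k V] (ρ : Representation k G V)
    {z : MonoidAlgebra k G} (hz : ∀ g, z * MonoidAlgebra.single g 1 = MonoidAlgebra.single g 1 * z)
    (g : G) (x : V) : ρ.asAlgebraHom z (ρ g x) = ρ g (ρ.asAlgebraHom z x) := by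
  have h := congrArg ρ.asAlgebraHom (hz g)
  rw [map_mul, map_mul, Representation.asAlgebraHom_single_one] at h
  exact LinearMap.congr_fun h x

theorem inBlk_or_zero {e : MonoidAlgebra k G} (he : e * e = e)
    (hc : ∀ w, e * w = w * e) {W : Type u} [AddCommGroup W] [Module k W]
    {σ : Representation k G W} (hσ : Irred σ) : InBlk e W σ ∨ σ.asAlgebraHom e = 0 := by
  have hfix : ∀ x, σ.asAlgebraHom e (σ.asAlgebraHom e x) = σ.asAlgebraHom e x := fun x => by
    rw [← Module.End.mul_apply, ← map_mul, he]
  rcases hσ.2 (LinearMap.range (σ.asAlgebraHom e)) (fun g x hx => by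
    obtain ⟨y, rfl⟩ := hx
    exact ⟨σ g y, asAlg_comm σ (fun g => hc _) g y⟩) with h | h
  · exact Or.inr (LinearMap.range_eq_bot.1 h)
  · refine Or.inl (LinearMap.ext fun x => ?_)
    obtain ⟨y, rfl⟩ := LinearMap.range_eq_top.1 h x
    exact hfix y

/-- A finite-dimensional representation with its space. -/
structure RepObj (k : Type) [Field k] (G : Type u) [Group G] where
  /-- the space -/
  V : Type u
  [acg : AddCommGroup V]
  [mod : Module k V]
  [fin : FiniteDimensional k V]
  /-- the representation -/
  ρ : Representation k G V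

attribute [instance] RepObj.acg RepObj.mod RepObj.fin

section Count

variable [CharP k p] [IsAlgClosed k] (hM : IsPModular p M) {B : Set (IrrCharacter G)}
  (hB : IsPBlock M B) (π : localRing hM →+* k)

variable (p k) in
/-- Restriction of a function to the regular classes. -/
noncomputable def atReg : (G → k) →ₗ[k] (RegCl p G → k) :=
  LinearMap.funLeft k k fun C : RegCl p G => C.1.out

theorem trace_class {V : Type u} [AddCommGroup V] [Module k V] (ρ : Representation k G V) {g h : G}
    (hgh : IsConj g h) : LinearMap.trace k V (ρ g) = LinearMap.trace k V (ρ h) := by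
  obtain ⟨c, rfl⟩ := isConj_iff.1 hgh
  rw [map_mul, LinearMap.trace_mul_comm, ← map_mul, ← mul_assoc, inv_mul_cancel, one_mul]

theorem regMat_trace {V : Type u} [AddCommGroup V] [Module k V] (ρ : Representation k G V) :
    ((regMat hM hB).map π).mulVec (atReg p k fun g => LinearMap.trace k V (ρ g)) =
      atReg p k fun g => LinearMap.trace k V (ρ.asAlgebraHom (eK hM hB π) ∘ₗ ρ g) := by
  funext C
  set t : ConjClasses G → k := fun D => LinearMap.trace k V (ρ D.out) with ht
  have h := regMat_mulVec hM hB π t C
  rw [classMat_mulVec] at h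
  refine h.trans ?_
  show _ = LinearMap.trace k V (ρ.asAlgebraHom (eK hM hB π) ∘ₗ ρ C.1.out)
  rw [asAlg_eq_sum, ← Module.End.mul_eq_comp, Finset.sum_mul, map_sum]
  refine Finset.sum_congr rfl fun x _ => ?_
  rw [smul_mul_assoc, map_smul, coeff_eK, smul_eq_mul, ht, ← map_mul]
  congr 1
  exact trace_class ρ ((isConj_out _).1 rfl)

/-- The regular trace functions of the block. -/
noncomputable def blockSpan : Submodule k (RegCl p G → k) :=
  (Submodule.span k (irrTraces k G (InBlk (eK hM hB π)))).map (atReg p k)

theorem blockSpan_eq [Fact p.Prime] :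
    blockSpan hM hB π = LinearMap.range (Matrix.toLin' ((regMat hM hB).map π)) := by
  set e := eK hM hB π
  refine le_antisymm ?_ ?_
  · rw [blockSpan, Submodule.map_le_iff_le_comap, Submodule.span_le]
    rintro _ ⟨W, i1, i2, i3, σ, hσ, hP, rfl⟩
    refine ⟨atReg p k fun g => LinearMap.trace k W (σ g), ?_⟩
    rw [Matrix.toLin'_apply, regMat_trace]
    congr 1
    funext g
    rw [show σ.asAlgebraHom e = 1 from hP]
    rfl
  · rintro _ ⟨v, rfl⟩
    choose F hF hFv using fun C : RegCl p G => exists_indicator (k := k) (p := p) C.2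
    have hv : v = ∑ C : RegCl p G, v C • atReg p k (F C) := by
      funext D
      simp only [Finset.sum_apply, Pi.smul_apply, smul_eq_mul]
      rw [Finset.sum_eq_single D]
      · show v D = v D * F D D.1.out
        rw [hFv D _ D.2, if_pos (IsConj.refl _), mul_one]
      · intro C _ hC
        show v C * F C D.1.out = 0
        rw [hFv C _ D.2, if_neg, mul_zero]
        intro h
        refine hC (Subtype.ext ?_)
        rw [← Quotient.out_eq C.1, ← Quotient.out_eq D.1]
        exact ConjClasses.mk_eq_mk_iff_isConj.2 h.symm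
      · simp
    rw [hv, map_sum]
    refine Submodule.sum_mem _ fun C _ => ?_
    rw [map_smul]
    refine Submodule.smul_mem _ _ ?_
    have hCF := hF C
    generalize F C = f at hCF
    induction hCF using Submodule.span_induction with
    | zero => simp
    | add a b _ _ ha hb => rw [map_add, map_add]; exact add_mem ha hb
    | smul c a _ ha => rw [map_smul, map_smul]; exact Submodule.smul_mem _ _ ha
    | mem f hf =>
      obtain ⟨W, i1, i2, i3, σ, hσ, -, rfl⟩ := hf
      rw [Matrix.toLin'_apply, regMat_trace]
      rcases inBlk_or_zero (eK_sq hM hB π) (eK_comm hM hB π) hσ with h | h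
      · refine Submodule.mem_map_of_mem (Submodule.subset_span ⟨W, i1, i2, i3, σ, hσ, h, ?_⟩)
        funext g
        rw [show σ.asAlgebraHom e = 1 from h]
        rfl
      · convert (blockSpan hM hB π).zero_mem using 1
        funext C
        show LinearMap.trace k W (σ.asAlgebraHom e ∘ₗ σ C.1.out) = 0
        rw [h, LinearMap.zero_comp, map_zero]

theorem blockRank_le_rank :
    blockRank p B ≤ Module.finrank ℂ
      (LinearMap.range (Matrix.toLin' ((regMat hM hB).map (localRing hM).subtype))) := by
  let ρ : (G → ℂ) →ₗ[ℂ] (RegCl p G → ℂ) := LinearMap.funLeft ℂ ℂ fun C : RegCl p G => C.1.out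
  set S := Submodule.span ℂ ((fun χ : IrrCharacter G => pRegularPart p (χ : G → ℂ)) '' B)
  have hle : S.map ρ ≤
      LinearMap.range (Matrix.toLin' ((regMat hM hB).map (localRing hM).subtype)) := by
    rw [Submodule.map_span, Submodule.span_le]
    rintro _ ⟨_, ⟨χ, hχ, rfl⟩, rfl⟩
    refine ⟨fun C : RegCl p G => (χ : G → ℂ) C.1.out, funext fun C => ?_⟩
    have h := regMat_mulVec hM hB (localRing hM).subtype (fun D => (χ : G → ℂ) D.out) C
    rw [classMat_irr, if_pos hχ] at h
    rw [Matrix.toLin'_apply]
    refine h.trans ?_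
    simp [ρ, LinearMap.funLeft_apply, pRegularPart, IsPRegular, C.2]
  have hprop : ∀ f ∈ S, (∀ g h : G, IsConj g h → f g = f h) ∧ ∀ g : G, p ∣ orderOf g → f g = 0 := by
    intro f hf
    induction hf using Submodule.span_induction with
    | zero => simp
    | add a b _ _ ha hb =>
      exact ⟨fun g h hgh => by simp [ha.1 g h hgh, hb.1 g h hgh], fun g hg => by simp [ha.2 g hg, hb.2 g hg]⟩
    | smul c a _ ha => exact ⟨fun g h hgh => by simp [ha.1 g h hgh], fun g hg => by simp [ha.2 g hg]⟩
    | mem f hf =>
      obtain ⟨χ, -, rfl⟩ := hf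
      refine ⟨fun g h hgh => ?_, fun g hg => by simp [pRegularPart, IsPRegular, hg]⟩
      have ho : orderOf g = orderOf h := by
        obtain ⟨c, rfl⟩ := isConj_iff.1 hgh
        exact (orderOf_injective (MulAut.conj c).toMonoidHom (MulAut.conj c).injective g).symm
      simp only [pRegularPart, IsPRegular, ho,
        CharBasic.apply_eq_of_isConj (irr_classFun χ) hgh]
      by_cases hh : p ∣ orderOf h <;> simp [hh]
  have this : ∀ f ∈ S, ρ f = 0 → f = 0 := by
    intro f hf h0
    funext g
    by_cases hg : p ∣ orderOf g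
    · exact (hprop f hf).2 g hg
    · have hout : ¬ p ∣ orderOf (ConjClasses.mk g).out := by
        obtain ⟨c, hc⟩ := isConj_iff.1 ((isConj_out (ConjClasses.mk g)).1 rfl)
        rw [← hc, show c * (ConjClasses.mk g).out * c⁻¹ = MulAut.conj c (ConjClasses.mk g).out from rfl,
          MulEquiv.orderOf_eq] at hg
        exact hg
      rw [← (hprop f hf).1 _ _ ((isConj_out (ConjClasses.mk g)).1 rfl)]
      exact congrFun h0 ⟨_, hout⟩
  refine le_trans (le_of_eq ?_) (Submodule.finrank_mono hle)
  have hinj : Function.Injective (ρ.domRestrict S) := by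
    refine (injective_iff_map_eq_zero _).2 fun x hx => Subtype.ext ?_
    exact this x.1 x.2 hx
  refine (LinearMap.finrank_range_of_inj hinj).symm.trans ?_
  rw [LinearMap.range_domRestrict]

variable [Fact p.Prime]

theorem finrank_blockSpan : Module.finrank k (blockSpan hM hB π) = blockRank p B := by
  have hinj : Function.Injective (localRing hM).subtype := Subtype.val_injective
  rw [blockSpan_eq, rank_map_eq _ hinj π _ (regMat_sq hM hB)]
  exact le_antisymm (regMat_rank_le hM hB) (blockRank_le_rank hM hB)

/-- Pairwise non-isomorphic irreducible representations of a block are at most `l(B)` in number. -/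
theorem card_le_blockRank {ι : Type*} [Fintype ι] (V : ι → Type u) [∀ i, AddCommGroup (V i)]
    [∀ i, Module k (V i)] [∀ i, FiniteDimensional k (V i)] (ρ : ∀ i, Representation k G (V i))
    (hirr : ∀ i, Irred (ρ i)) (hblk : ∀ i, InBlk (eK hM hB π) (V i) (ρ i))
    (hdis : ∀ i j, i ≠ j → ∀ f : V i →ₗ[k] V j, (∀ g x, f (ρ i g x) = ρ j g (f x)) → f = 0) :
    Fintype.card ι ≤ blockRank p B := by
  let T : ι → blockSpan hM hB π := fun i =>
    ⟨atReg p k fun g => LinearMap.trace k (V i) (ρ i g), Submodule.mem_map_of_mem
      (Submodule.subset_span ⟨V i, _, _, inferInstance, ρ i, hirr i, hblk i, rfl⟩)⟩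
  have hT : LinearIndependent k T := by
    refine Fintype.linearIndependent_iff.2 fun a ha i => ?_
    refine congrFun (trace_independent V ρ hirr hdis a fun g =>
      trace_ext (p := p) Finset.univ a V ρ (fun g hg => ?_) g) i
    have hout : ¬ p ∣ orderOf (ConjClasses.mk g).out := by
      obtain ⟨c, hc⟩ := isConj_iff.1 ((isConj_out (ConjClasses.mk g)).1 rfl)
      rw [← hc, show c * (ConjClasses.mk g).out * c⁻¹ = MulAut.conj c (ConjClasses.mk g).out from rfl,
        MulEquiv.orderOf_eq] at hg
      exact hg
    have h := congrArg (fun w : blockSpan hM hB π => (w : RegCl p G → k) ⟨_, hout⟩) ha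
    simp only [T, Submodule.coe_sum, Submodule.coe_smul, Finset.sum_apply, Pi.smul_apply,
      ZeroMemClass.coe_zero, Pi.zero_apply, smul_eq_mul] at h
    rw [← h]
    refine Finset.sum_congr rfl fun i _ => ?_
    congr 1
    exact (trace_class (ρ i) ((isConj_out (ConjClasses.mk g)).1 rfl)).symm
  have := hT.fintype_card_le_finrank
  rwa [finrank_blockSpan] at this

/-- A complete family of irreducible representations of a block has at least `l(B)` members. -/
theorem blockRank_le_card {ι : Type*} [Fintype ι] (V : ι → Type u) [∀ i, AddCommGroup (V i)]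
    [∀ i, Module k (V i)] [∀ i, FiniteDimensional k (V i)] (ρ : ∀ i, Representation k G (V i))
    (hall : ∀ (W : Type u) [AddCommGroup W] [Module k W] [FiniteDimensional k W]
      (σ : Representation k G W), Irred σ → InBlk (eK hM hB π) W σ →
      ∃ i, ∃ f : W ≃ₗ[k] V i, ∀ g x, f (σ g x) = ρ i g (f x)) :
    blockRank p B ≤ Fintype.card ι := by
  rw [← finrank_blockSpan hM hB π]
  have hle : blockSpan hM hB π ≤ Submodule.span k
      (Set.range fun i => atReg p k fun g => LinearMap.trace k (V i) (ρ i g)) := by
    rw [blockSpan, Submodule.map_le_iff_le_comap, Submodule.span_le]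
    rintro _ ⟨W, i1, i2, i3, σ, hσ, hP, rfl⟩
    obtain ⟨i, f, hf⟩ := hall W σ hσ hP
    refine Submodule.subset_span ⟨i, congrArg (atReg p k) (funext fun g => ?_)⟩
    have e : ρ i g = f.conj (σ g) := LinearMap.ext fun y => by
      obtain ⟨x, rfl⟩ := f.surjective y
      simp [LinearEquiv.conj_apply, hf]
    rw [e, LinearMap.trace_conj']
  exact (Submodule.finrank_mono hle).trans (finrank_range_le_card _)

/-- With one Brauer character any two irreducible representations of the block are isomorphic. -/
theorem exists_iso_of_rank_one (hl : blockRank p B ≤ 1) {V W : Type u} [AddCommGroup V] [Module k V]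
    [FiniteDimensional k V] [AddCommGroup W] [Module k W] [FiniteDimensional k W]
    {ρ : Representation k G V} {σ : Representation k G W} (hρ : Irred ρ) (hσ : Irred σ)
    (hρb : InBlk (eK hM hB π) V ρ) (hσb : InBlk (eK hM hB π) W σ) :
    ∃ f : V ≃ₗ[k] W, ∀ g x, f (ρ g x) = σ g (f x) := by
  by_contra hcon
  have hno : ∀ f : V →ₗ[k] W, (∀ g x, f (ρ g x) = σ g (f x)) → f = 0 := fun f hf => by
    by_contra h0
    exact hcon ⟨LinearEquiv.ofBijective f (bijective_of_ne_zero hρ hσ f hf h0), hf⟩
  have hno' : ∀ f : W →ₗ[k] V, (∀ g x, f (σ g x) = ρ g (f x)) → f = 0 := fun f hf => by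
    by_contra h0
    let F := LinearEquiv.ofBijective f (bijective_of_ne_zero hσ hρ f hf h0)
    refine hcon ⟨F.symm, fun g x => ?_⟩
    apply F.injective
    rw [F.apply_symm_apply]
    show _ = f _
    rw [hf]
    exact congrArg _ (F.apply_symm_apply x).symm
  let X : Fin 2 → RepObj k G := ![⟨V, ρ⟩, ⟨W, σ⟩]
  have h := card_le_blockRank hM hB π (fun i => (X i).V) (fun i => (X i).ρ)
    (fun i => by fin_cases i <;> assumption) (fun i => by fin_cases i <;> assumption)
    (fun i j hij => by
      fin_cases i <;> fin_cases j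
      · exact absurd rfl hij
      · exact hno
      · exact hno'
      · exact absurd rfl hij)
  simp at h
  omega

theorem exists_irred (hl : 0 < blockRank p B) :
    ∃ (W : Type u) (_ : AddCommGroup W) (_ : Module k W) (_ : FiniteDimensional k W)
      (σ : Representation k G W), Irred σ ∧ InBlk (eK hM hB π) W σ := by
  by_contra h
  have he : irrTraces k G (InBlk (eK hM hB π)) = ∅ := Set.eq_empty_of_forall_notMem
    fun f ⟨W, i1, i2, i3, σ, hσ, hP, _⟩ => h ⟨W, i1, i2, i3, σ, hσ, hP⟩
  have := finrank_blockSpan hM hB π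
  rw [blockSpan, he, Submodule.span_empty, Submodule.map_bot, finrank_bot] at this
  omega

end Count

end Cfsg.Agent.CyclicBlockRep42
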