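import Mathlib
import Cfsg.Prelude.Def_Local
import Cfsg.Agent.Lib.ComponentsBasic

/-!
Groups in which cyclic p-subgroups of equal order are conjugate: the layer is quasisimple,
given that groups of odd order are solvable (hypothesis `hFT`).
-/

set_option autoImplicit false
set_option linter.style.haveILetI false

namespace Cfsg.Agent.CyclicConjLayer67

open Subgroup Cfsg Cfsg.Agent.ComponentsBasic

universe u
variable {G : Type u} [Group G] [Finite G]

/-- Cyclic `p`-subgroups of the same order are conjugate. -/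
def CycConj (G : Type u) [Group G] : Prop :=
  ∀ (p : ℕ), p.Prime → ∀ A B : Subgroup G, IsCyclic ↥A → IsCyclic ↥B → IsPGroup p ↥A →
    Nat.card ↥A = Nat.card ↥B → ∃ g : G, B = A.map (MulAut.conj g).toMonoidHom

/-- A noncentral element of `L` of order `p ^ e`. -/
def NC (L : Subgroup G) (p e : ℕ) : Prop :=
  ∃ x : G, x ∈ L ∧ orderOf x = p ^ e ∧ x ∉ centralizer (L : Set G)

theorem conj_elt (hP : CycConj G) {p : ℕ} (hp : p.Prime) {x y : G} {e : ℕ}
    (hx : orderOf x = p ^ e) (hy : orderOf y = p ^ e) :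
    ∃ (g : G) (k : ℤ), y = g * x ^ k * g⁻¹ := by
  obtain ⟨g, hg⟩ := hP p hp (zpowers x) (zpowers y) inferInstance inferInstance
    (IsPGroup.of_card (n := e) (by rw [Nat.card_zpowers, hx]))
    (by rw [Nat.card_zpowers, Nat.card_zpowers, hx, hy])
  have : y ∈ (zpowers x).map (MulAut.conj g).toMonoidHom := hg ▸ mem_zpowers y
  obtain ⟨z, ⟨k, rfl⟩, hz⟩ := Subgroup.mem_map.mp this
  exact ⟨g, k, by simpa [MulAut.conj_apply] using hz.symm⟩

theorem exists_nc_of_not_dvd {L : Subgroup G} {p : ℕ} (hp : p.Prime)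
    (hd : p ∣ Nat.card (↥L ⧸ center ↥L)) : ∃ e, NC L p e := by
  haveI := Fact.mk hp
  obtain ⟨P⟩ : Nonempty (Sylow p ↥L) := inferInstance
  by_contra hne
  push Not at hne
  have hPZ : (P : Subgroup ↥L) ≤ center ↥L := by
    intro x hx
    obtain ⟨e, he⟩ := (IsPGroup.iff_orderOf.mp P.isPGroup') ⟨x, hx⟩
    rw [Subgroup.orderOf_mk] at he
    by_contra hxc
    refine hne e ⟨(x : G), x.2, by rw [Subgroup.orderOf_coe]; exact he, fun hc => hxc ?_⟩
    rw [Subgroup.mem_center_iff]
    intro y
    exact Subtype.ext (mem_centralizer_iff.mp hc y y.2)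
  have h1 : ¬ p ∣ (center ↥L).index := fun h =>
    P.not_dvd_index (dvd_trans h (index_dvd_of_le hPZ))
  exact h1 (by rwa [Subgroup.index_eq_card])

theorem exists_nc_two (hFT : ∀ (X : Type u) [Group X] [Finite X], Odd (Nat.card X) → Group.IsSolvable X)
    {L : Subgroup G} (hL : IsComponent L) : ∃ e, NC L 2 e := by
  apply exists_nc_of_not_dvd Nat.prime_two
  by_contra h
  haveI := hFT (↥L ⧸ center ↥L) (Nat.odd_iff.mpr (Nat.two_dvd_ne_zero.mp h))
  exact quotient_center_not_commutative hL.2 (by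
    haveI := hL.2.2
    exact ⟨⟨fun a b => IsSimpleGroup.comm_iff_isSolvable.mpr inferInstance a b⟩⟩)

theorem exists_odd_prime {L : Subgroup G} (hL : IsComponent L) :
    ∃ p : ℕ, p.Prime ∧ p ≠ 2 ∧ p ∣ Nat.card (↥L ⧸ center ↥L) := by
  by_contra h
  push Not at h
  have hpg : IsPGroup 2 (↥L ⧸ center ↥L) := by
    refine IsPGroup.of_card (n := (Nat.card (↥L ⧸ center ↥L)).primeFactorsList.length) ?_
    exact Nat.eq_prime_pow_of_unique_prime_dvd Nat.card_pos.ne' fun {q} hq hqd => by
      by_contra hq2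
      exact h q hq hq2 hqd
  haveI := Fact.mk Nat.prime_two
  haveI : Group.IsNilpotent (↥L ⧸ center ↥L) := hpg.isNilpotent
  exact quotient_center_not_commutative hL.2 (by
    haveI := hL.2.2
    exact ⟨⟨fun a b => IsSimpleGroup.comm_iff_isSolvable.mpr inferInstance a b⟩⟩)

theorem component_mem_conj {L : Subgroup G} (hL : IsComponent L) {x : G} (hx : x ∈ L) (g : G)
    (k : ℤ) : ∃ M : Subgroup G, IsComponent M ∧ g * x ^ k * g⁻¹ ∈ M := by
  refine ⟨L.map (MulAut.conj g).toMonoidHom, isComponent_conj hL g, ?_⟩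
  exact ⟨x ^ k, L.zpow_mem hx k, by simp⟩

theorem mem_centralizer_of_ne {L M : Subgroup G} (hL : IsComponent L) (hM : IsComponent M)
    (hne : L ≠ M) {x : G} (hx : x ∈ L) : x ∈ centralizer (M : Set G) :=
  commutator_eq_bot_iff_le_centralizer.mp (components_commute hL hM hne) hx

/-- The minimal orders of noncentral `p`-elements of two components cannot differ. -/
theorem min_not_lt (hP : CycConj G) {L K : Subgroup G} (hL : IsComponent L) (hK : IsComponent K)
    {p : ℕ} (hp : p.Prime) {e f : ℕ} (he : NC L p e) (hf : NC K p f)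
    (hmin : ∀ i, i < f → ¬ NC K p i) : f ≤ e := by
  by_contra hlt
  push Not at hlt
  obtain ⟨x, hxL, hxo, hxn⟩ := he
  obtain ⟨y, hyK, hyo, -⟩ := hf
  have hu : orderOf (y ^ p ^ (f - e)) = p ^ e := by
    rw [orderOf_pow' y (pow_ne_zero _ hp.ne_zero), hyo,
      Nat.gcd_eq_right (pow_dvd_pow p (Nat.sub_le f e)), Nat.pow_div (Nat.sub_le f e) hp.pos]
    congr 1
    omega
  have huK : y ^ p ^ (f - e) ∈ centralizer (K : Set G) := by
    by_contra h
    exact hmin e hlt ⟨_, K.pow_mem hyK _, hu, h⟩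
  have hall : y ^ p ^ (f - e) ∈ centralizer (layer G : Set G) := by
    rw [mem_centralizer_iff]
    intro z hz
    have : layer G ≤ centralizer ({y ^ p ^ (f - e)} : Set G) := by
      refine sSup_le fun M hM w hw => ?_
      rw [mem_centralizer_singleton_iff]
      rcases eq_or_ne M K with rfl | hne
      · exact mem_centralizer_iff.mp huK w hw
      · exact mem_centralizer_iff.mp (mem_centralizer_of_ne hK hM hne.symm (K.pow_mem hyK _)) w hw
    exact mem_centralizer_singleton_iff.mp (this hz)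
  obtain ⟨g, k, hgk⟩ := conj_elt hP hp hu hxo
  apply hxn
  have hxc : x ∈ centralizer (layer G : Set G) := by
    rw [hgk]
    exact (inferInstance : (centralizer (layer G : Set G)).Normal).conj_mem _
      (zpow_mem hall k) g
  exact centralizer_le (component_le_layer hL) hxc

/-- Two components with noncentral `p`-elements of the same order are conjugate. -/
theorem conj_of_nc (hP : CycConj G) {L K : Subgroup G} (hL : IsComponent L) (hK : IsComponent K)
    {p : ℕ} (hp : p.Prime) {e : ℕ} (he : NC L p e) (hf : NC K p e) :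
    ∃ g : G, L.map (MulAut.conj g).toMonoidHom = K := by
  obtain ⟨x, hxL, hxo, -⟩ := he
  obtain ⟨y, hyK, hyo, hyn⟩ := hf
  obtain ⟨g, k, hgk⟩ := conj_elt hP hp hxo hyo
  refine ⟨g, ?_⟩
  by_contra hne
  apply hyn
  refine mem_centralizer_of_ne (isComponent_conj hL g) hK hne ?_
  rw [hgk]
  exact ⟨x ^ k, L.zpow_mem hxL k, by simp⟩

theorem nc_map {L : Subgroup G} {p e : ℕ} (h : NC L p e) (g : G) :
    NC (L.map (MulAut.conj g).toMonoidHom) p e := by
  obtain ⟨x, hxL, hxo, hxn⟩ := h
  refine ⟨MulAut.conj g x, ⟨x, hxL, rfl⟩, by rw [MulEquiv.orderOf_eq]; exact hxo, fun hc => hxn ?_⟩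
  rw [mem_centralizer_iff] at hc ⊢
  intro z hz
  have := hc (MulAut.conj g z) ⟨z, hz, rfl⟩
  exact (MulAut.conj g).injective (by simpa [map_mul] using this)

theorem component_unique (hFT : ∀ (X : Type u) [Group X] [Finite X], Odd (Nat.card X) → Group.IsSolvable X)
    (hP : CycConj G) {L K : Subgroup G} (hL : IsComponent L) (hK : IsComponent K) : L = K := by
  classical
  have h1 := exists_nc_two hFT hL
  have h2 := exists_nc_two hFT hK
  have he : Nat.find h1 = Nat.find h2 := le_antisymm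
    (min_not_lt hP hK hL Nat.prime_two (Nat.find_spec h2) (Nat.find_spec h1)
      fun i hi => Nat.find_min h1 hi)
    (min_not_lt hP hL hK Nat.prime_two (Nat.find_spec h1) (Nat.find_spec h2)
      fun i hi => Nat.find_min h2 hi)
  obtain ⟨c, rfl⟩ := conj_of_nc hP hL hK Nat.prime_two (Nat.find_spec h1) (he ▸ Nat.find_spec h2)
  by_contra hne
  obtain ⟨p, hp, hp2, hpd⟩ := exists_odd_prime hL
  obtain ⟨e, x, hxL, hxo, hxn⟩ := exists_nc_of_not_dvd hp hpd
  have he0 : e ≠ 0 := by
    rintro rfl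
    rw [pow_zero, orderOf_eq_one_iff] at hxo
    exact hxn (hxo ▸ one_mem _)
  obtain ⟨y, hyK, hyo, hyn⟩ := nc_map ⟨x, hxL, hxo, hxn⟩ c
  have hxy : Commute x y :=
    (mem_centralizer_iff.mp (mem_centralizer_of_ne hL hK hne hxL) y hyK).symm
  -- an element `w = x * y'` of order `p ^ e`, where `y'` generates the same subgroup as `y`
  obtain ⟨y', hy'K, hy'n, hcomm, hwo⟩ :
      ∃ y', y' ∈ L.map (MulAut.conj c).toMonoidHom ∧
        y' ∉ centralizer (L.map (MulAut.conj c).toMonoidHom : Set G) ∧ Commute x y' ∧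
        orderOf (x * y') = p ^ e := by
    have key : ∀ j : ℕ, orderOf (x * y ^ j) ∣ p ^ e := fun j => by
      rw [orderOf_dvd_iff_pow_eq_one, (hxy.pow_right j).mul_pow, ← pow_mul, mul_comm j, pow_mul,
        ← hxo, pow_orderOf_eq_one, hxo, ← hyo, pow_orderOf_eq_one, one_pow, one_mul]
    have key2 : ∀ j : ℕ, orderOf (x * y ^ j) ≠ p ^ e →
        x ^ p ^ (e - 1) * (y ^ p ^ (e - 1)) ^ j = 1 := fun j hj => by
      obtain ⟨i, hi, hie⟩ := (Nat.dvd_prime_pow hp).mp (key j)
      have : i ≤ e - 1 := by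
        rcases Nat.lt_or_ge i e with h | h
        · omega
        · exact absurd (by rw [hie, le_antisymm hi h]) hj
      have h3 : (x * y ^ j) ^ p ^ (e - 1) = 1 :=
        orderOf_dvd_iff_pow_eq_one.mp (hie ▸ pow_dvd_pow p this)
      rwa [(hxy.pow_right j).mul_pow, ← pow_mul, mul_comm j, pow_mul] at h3
    have hy2 : y ^ 2 ∉ centralizer (L.map (MulAut.conj c).toMonoidHom : Set G) := by
      intro h
      have hcop : (2 : ℕ).Coprime (orderOf y) := by
        rw [hyo]; exact ((Nat.coprime_primes Nat.prime_two hp).mpr hp2.symm).pow_right e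
      obtain ⟨m, hm⟩ := exists_pow_eq_self_of_coprime hcop
      exact hyn (hm ▸ pow_mem h m)
    by_cases h1' : orderOf (x * y) = p ^ e
    · exact ⟨y, hyK, hyn, hxy, h1'⟩
    refine ⟨y ^ 2, pow_mem hyK 2, hy2, hxy.pow_right 2, ?_⟩
    by_contra h2'
    have a1 := key2 1 (by rwa [pow_one])
    have a2 := key2 2 h2'
    rw [pow_one] at a1
    rw [pow_two, ← mul_assoc, a1, one_mul] at a2
    have := orderOf_dvd_of_pow_eq_one a2
    rw [hyo] at this
    have := (Nat.pow_dvd_pow_iff_le_right hp.one_lt).mp this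
    omega
  obtain ⟨g, k, hgk⟩ := conj_elt hP hp hxo hwo
  obtain ⟨M, hM, hwM⟩ := component_mem_conj hL hxL g k
  rw [← hgk] at hwM
  have hxK := mem_centralizer_of_ne hL hK hne hxL
  have hyL := mem_centralizer_of_ne hK hL (Ne.symm hne) hy'K
  have hML : M = L := by
    by_contra h
    apply hxn
    have := mul_mem (mem_centralizer_of_ne hM hL h hwM) (inv_mem hyL)
    rwa [mul_inv_cancel_right] at this
  have hMK : M = L.map (MulAut.conj c).toMonoidHom := by
    by_contra h
    apply hy'n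
    have := mul_mem (inv_mem hxK) (mem_centralizer_of_ne hM hK h hwM)
    rwa [inv_mul_cancel_left] at this
  exact hne (hML.symm.trans hMK)

/-- The layer is quasisimple: its central quotient is a nonabelian simple group. -/
theorem layer_simple (hFT : ∀ (X : Type u) [Group X] [Finite X], Odd (Nat.card X) → Group.IsSolvable X)
    (hP : CycConj G) (hE : Cfsg.layer G ≠ ⊥) :
    IsSimpleGroup (↥(Cfsg.layer G) ⧸ Subgroup.center ↥(Cfsg.layer G)) ∧
      ¬ IsMulCommutative (↥(Cfsg.layer G) ⧸ Subgroup.center ↥(Cfsg.layer G)) := by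
  obtain ⟨L, hL⟩ : ∃ L : Subgroup G, IsComponent L := by
    by_contra h
    exact hE (layer_eq_bot_iff.mpr h)
  have : layer G = L := le_antisymm
    (sSup_le fun M hM => (component_unique hFT hP hM hL).le) (component_le_layer hL)
  rw [this]
  exact ⟨hL.2.2, quotient_center_not_commutative hL.2⟩

end Cfsg.Agent.CyclicConjLayer67
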