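import Mathlib

/-!
# A block algebra with one simple module and a central element of large nilpotency index

If there are at most `q` independent trace functionals on an algebra with one simple module and a
symmetrising form, and a central nilpotent element `X` has `X ^ (q - 1) ≠ 0`, then the basic
algebra is generated by `X`.
-/

set_option autoImplicit false
set_option linter.unusedSectionVars false
set_option linter.style.haveILetI false

namespace Cfsg.Agent.CyclicCorner42

attribute [local instance] Classical.propDecidable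

variable {k : Type*} [Field k] {R : Type*} [Ring R] [Algebra k R] [FiniteDimensional k R]

theorem exists_idem_lift {W : Type*} [AddCommGroup W] [Module k W] (σ : R →ₐ[k] Module.End k W)
    {ε : R} (hε2 : ε * ε = ε) (hεc : ∀ y, ε * y = y * ε) (hσε : σ ε = 1)
    (hnil : ∀ y, σ y = 0 → IsNilpotent (y * ε)) {E : Module.End k W} (hE : E * E = E) {z : R}
    (hz : σ z = E) : ∃ f, f * f = f ∧ f * ε = f ∧ σ f = E := by
  set z' := z * ε
  have hz' : σ z' = E := by rw [map_mul, hz, hσε, mul_one]
  have h2 : IsNilpotent (z' * z' - z') := by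
    have h : σ (z' * z' - z') = 0 := by rw [map_sub, map_mul, hz', hE, sub_self]
    have e : (z' * z' - z') * ε = z' * z' - z' := by
      simp only [z', sub_mul, mul_assoc, hε2]
    exact e ▸ hnil _ h
  let S := Algebra.adjoin k {z'}
  haveI : IsMulCommutative S := Algebra.isMulCommutative_adjoin_singleton k z'
  let zS : S := ⟨z', Algebra.self_mem_adjoin_singleton k z'⟩
  let _ : CommRing S := { (inferInstance : Ring S) with mul_comm := mul_comm' }
  have hq : IsIdempotentElem (Ideal.Quotient.mk (nilradical S) zS) := by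
    rw [IsIdempotentElem, ← map_mul, Ideal.Quotient.eq, mem_nilradical]
    obtain ⟨N, hN⟩ := h2
    exact ⟨N, Subtype.ext (by simpa [zS] using hN)⟩
  obtain ⟨f, hf, hfz⟩ := exists_isIdempotentElem_eq_of_ker_isNilpotent (Ideal.Quotient.mk (nilradical S))
    (fun x hx => by rwa [RingHom.mem_ker, Ideal.Quotient.eq_zero_iff_mem, mem_nilradical] at hx)
    _ ⟨zS, rfl⟩ hq
  rw [Ideal.Quotient.eq, mem_nilradical] at hfz
  have hσf : σ (f : R) = E := by
    have hn : IsNilpotent (σ (f : R) - E) := by
      rw [← hz', ← map_sub]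
      obtain ⟨N, hN⟩ := hfz
      exact ⟨N, by rw [← map_pow, show ((f : R) - z') ^ N = ((f - zS) ^ N : S) by simp [zS], hN]; simp⟩
    refine eq_of_isNilpotent_sub_of_isIdempotentElem_of_commute ?_ hE hn ?_
    · rw [IsIdempotentElem, ← map_mul]
      exact congrArg σ (congrArg Subtype.val hf.eq)
    · rw [← hz']
      exact (show Commute (f : R) z' from congrArg Subtype.val (mul_comm f zS)).map σ
  refine ⟨(f : R) * ε, ?_, by rw [mul_assoc, hε2], by rw [map_mul, hσf, hσε, mul_one]⟩
  rw [mul_assoc, ← mul_assoc ε, hεc, mul_assoc, hε2, ← mul_assoc,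
    show (f : R) * (f : R) = (f : R) from congrArg Subtype.val hf.eq]

/-- Elements of a left ideal of nilpotent elements lie in the Jacobson radical. -/
theorem mem_jacobson_of_nil {x : R} (h : ∀ y, IsNilpotent (y * x)) : x ∈ Ring.jacobson R := by
  rw [← Ideal.jacobson_bot, Ideal.mem_jacobson_iff]
  intro y
  obtain ⟨u, hu⟩ := (h y).isUnit_one_add
  refine ⟨(↑u⁻¹ : R), ?_⟩
  rw [Ideal.mem_bot, mul_assoc, ← mul_add_one, add_comm (y * x) 1, ← hu, Units.inv_mul, sub_self]

/-- The corner of a one simple module algebra is generated by a central element whose nilpotency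
index reaches the number of independent trace functionals. -/
theorem exists_corner {W : Type*} [AddCommGroup W] [Module k W] [FiniteDimensional k W]
    [Nontrivial W] (σ : R →ₐ[k] Module.End k W) (hσ : Function.Surjective σ) {ε : R}
    (hε2 : ε * ε = ε) (hεc : ∀ y, ε * y = y * ε) (hσε : σ ε = 1)
    (hnil : ∀ y, σ y = 0 → IsNilpotent (y * ε))
    (τ : R →ₗ[k] k) (hτt : ∀ x y, τ (x * y) = τ (y * x)) (hτε : ∀ y, τ (ε * y) = τ y)
    (hτ : ∀ z, (∀ y, τ (z * y) = 0) → z * ε = 0) {q : ℕ}
    (htr : ∀ t : Fin (q + 1) → (R →ₗ[k] k),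
      (∀ i, (∀ x y, t i (x * y) = t i (y * x)) ∧ ∀ y, t i (ε * y) = t i y) →
        ¬ LinearIndependent k t)
    {X : R} (hXc : ∀ y, X * y = y * X) (hXε : X * ε = X) (hσX : σ X = 0) (hX : X ^ (q - 1) ≠ 0) :
    ∃ (f : R) (n : ℕ) (a b : Fin n → R), f * f = f ∧ f * ε = f ∧ ε = ∑ i, a i * f * b i ∧
      X ^ q = 0 ∧ (∀ y, f * y * f ∈ Submodule.span k (Set.range fun i : Fin q => X ^ (i : ℕ) * f)) ∧
      ∃ w : W, w ≠ 0 ∧ σ f w = w := by
  -- the idempotent
  obtain ⟨w, hw⟩ := exists_ne (0 : W)
  obtain ⟨φ, hφ⟩ := Submodule.exists_le_ker_of_notMem (p := (⊥ : Submodule k W)) (v := w) (by simpa using hw)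
  set φ' : W →ₗ[k] k := (φ w)⁻¹ • φ
  have hφ' : φ' w = 1 := by simp [φ', hφ.1]
  let E : Module.End k W := φ'.smulRight w
  have hE : E * E = E := LinearMap.ext fun x => by simp [E, hφ']
  obtain ⟨z, hz⟩ := hσ E
  obtain ⟨f, hff, hfε, hσf⟩ := exists_idem_lift σ hε2 hεc hσε hnil hE hz
  have hfw : σ f w = w := by simp [hσf, E, hφ']
  -- the decomposition
  let bs := Module.finBasis k W
  choose u hu using fun i => hσ (φ'.smulRight (bs i))
  choose v hv using fun i => hσ ((bs.coord i).smulRight w)
  have hS : σ (∑ i, u i * f * v i) = 1 := by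
    simp only [map_sum, map_mul, hu, hv, hσf]
    refine LinearMap.ext fun x => ?_
    simp only [LinearMap.sum_apply, Module.End.mul_apply, E, LinearMap.smulRight_apply,
      Module.Basis.coord_apply, map_smul, hφ', one_smul, Module.End.one_apply, mul_one]
    exact bs.sum_repr x
  set S := ∑ i, u i * f * v i
  have hSε : S * ε = S := by
    simp only [S, Finset.sum_mul]
    refine Finset.sum_congr rfl fun i _ => ?_
    rw [mul_assoc (u i * f), ← hεc, mul_assoc, ← mul_assoc f, hfε, ← mul_assoc]
  obtain ⟨N, hN⟩ : IsNilpotent (ε - S) := by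
    have h := hnil (ε - S) (by rw [map_sub, hσε, hS, sub_self])
    rwa [sub_mul, hε2, hSε] at h
  set T := ∑ i ∈ Finset.range N, (ε - S) ^ i
  have hdec : ε = ∑ i, u i * f * (v i * T) := by
    have h : ε * ((1 - (ε - S)) * T) = ε := by rw [mul_neg_geom_sum, hN, sub_zero, mul_one]
    have e : ε * (1 - (ε - S)) = S := by
      rw [mul_sub, mul_one, mul_sub, hε2, show ε * S = S by rw [hεc, hSε]]
      abel
    rw [← mul_assoc, e] at h
    conv_lhs => rw [← h]
    simp only [S, Finset.sum_mul, mul_assoc]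
  set a := u
  set b := fun i => v i * T
  replace hdec : ε = ∑ i, a i * f * b i := hdec
  have hεf : ε * f = f := by rw [hεc, hfε]
  have haf : ∀ j, ε * (a j * f) = a j * f := fun j => by rw [← mul_assoc, hεc, mul_assoc, hεf]
  -- powers of the central element
  have hXpc : ∀ (i : ℕ) y, X ^ i * y = y * X ^ i := fun i y =>
    ((show Commute X y from hXc y).pow_left i).eq
  have hXnil : IsNilpotent X := hXε ▸ hnil X hσX
  have hlin : ∀ c : ℕ → k, ∀ m, X ^ (m - 1) ≠ 0 → ∑ i ∈ Finset.range m, c i • X ^ i = 0 →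
      ∀ i < m, c i = 0 := by
    intro c m hm hsum i
    induction i using Nat.strong_induction_on with
    | _ i ih =>
      intro hi
      obtain ⟨L, hL⟩ := hXnil
      by_contra hci
      -- multiply into the last nonzero power
      obtain ⟨r, hr, hr1⟩ : ∃ r, X ^ r ≠ 0 ∧ X ^ (r + 1) = 0 := by
        by_contra hcon
        push Not at hcon
        have : ∀ r, X ^ r ≠ 0 := fun r => by
          induction r with
          | zero => exact fun h0 => hm (by rw [← mul_one (X ^ (m - 1)), ← pow_zero X, h0, mul_zero])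
          | succ r ihr => exact hcon r ihr
        exact this L hL
      have hir : i ≤ r := by
        by_contra hlt
        exact hm (pow_eq_zero_of_le (by omega) hr1)
      have h := congrArg (X ^ (r - i) * ·) hsum
      simp only [Finset.mul_sum, mul_smul_comm, ← pow_add, mul_zero] at h
      rw [Finset.sum_eq_single i, show r - i + i = r by omega] at h
      · exact hci ((smul_eq_zero.1 h).resolve_right hr)
      · intro j hj hji
        rcases Nat.lt_or_ge j i with hlt | hge
        · rw [ih j hlt (Finset.mem_range.1 hj), zero_smul]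
        · rw [pow_eq_zero_of_le (by omega) hr1, smul_zero]
      · exact fun h => absurd (Finset.mem_range.2 hi) h
  let t : ℕ → (R →ₗ[k] k) := fun i => τ.comp (LinearMap.mulLeft k (X ^ i))
  have ht : ∀ i, (∀ x y, t i (x * y) = t i (y * x)) ∧ ∀ y, t i (ε * y) = t i y := by
    intro i
    refine ⟨fun x y => ?_, fun y => ?_⟩
    · simp only [t, LinearMap.comp_apply, LinearMap.mulLeft_apply]
      rw [← mul_assoc, hτt, hXpc, ← mul_assoc, hXpc, mul_assoc]
    · simp only [t, LinearMap.comp_apply, LinearMap.mulLeft_apply]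
      rw [← mul_assoc, hXpc, mul_assoc, hτε]
  have hind : ∀ m, X ^ (m - 1) ≠ 0 → LinearIndependent k (fun i : Fin m => t i) := by
    intro m hm
    refine Fintype.linearIndependent_iff.2 fun c hc i => ?_
    set z := ∑ j : Fin m, c j • X ^ (j : ℕ)
    have hz : z * ε = 0 := hτ z fun y => by
      have := LinearMap.congr_fun hc y
      simpa [z, t, Finset.sum_mul, map_sum] using this
    by_cases hm1 : m = 1
    · subst hm1
      have h0 : c 0 • (1 : R) * ε = 0 := by simpa [z] using hz
      rw [smul_mul_assoc, one_mul] at h0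
      have hne : ε ≠ 0 := fun h => by
        rw [h, map_zero] at hσε
        exact zero_ne_one hσε
      rw [Subsingleton.elim i 0]
      exact (smul_eq_zero.1 h0).resolve_right hne
    have h1 : ∑ j ∈ Finset.range m, (if hj : j < m then c ⟨j, hj⟩ else 0) • X ^ j = 0 := by
      have h3 : z * ε = z - c ⟨0, Fin.pos i⟩ • (1 - ε) := by
        have : ∀ j : Fin m, c j • X ^ (j : ℕ) * ε =
            c j • X ^ (j : ℕ) - if j = ⟨0, Fin.pos i⟩ then c j • (1 - ε) else 0 := by
          intro j
          split_ifs with hj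
          · subst hj
            rw [pow_zero, smul_sub, sub_sub_cancel, smul_mul_assoc, one_mul]
          · obtain ⟨j', hj'⟩ := Nat.exists_eq_succ_of_ne_zero (fun h => hj (Fin.ext h) : (j : ℕ) ≠ 0)
            rw [sub_zero, hj', pow_succ, smul_mul_assoc, mul_assoc, hXε]
        simp only [z, Finset.sum_mul, this, Finset.sum_sub_distrib, Finset.sum_ite_eq', Finset.mem_univ,
          if_true]
      have hc0 : c ⟨0, Fin.pos i⟩ = 0 := by
        have hh := congrArg σ hz
        rw [map_zero, map_mul, hσε, mul_one] at hh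
        simp only [z, map_sum, map_smul, map_pow, hσX] at hh
        rw [Finset.sum_eq_single ⟨0, Fin.pos i⟩ (fun j _ hj => by
          rw [zero_pow (fun h => hj (Fin.ext h)), smul_zero]) (by simp), pow_zero] at hh
        exact (smul_eq_zero.1 hh).resolve_right one_ne_zero
      rw [hz, hc0, zero_smul, sub_zero] at h3
      rw [h3, Finset.sum_range]
      refine Finset.sum_congr rfl fun j _ => ?_
      rw [dif_pos j.2]
    have := hlin _ m hm h1 i i.2
    rwa [dif_pos i.2] at this
  have hXq : X ^ q = 0 := by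
    by_contra h
    exact htr _ (fun i => ht i) (hind (q + 1) (by simpa using h))
  -- every trace functional is a combination
  have hspan : ∀ s : R →ₗ[k] k, (∀ x y, s (x * y) = s (y * x)) → (∀ y, s (ε * y) = s y) →
      ∃ c : Fin q → k, s = ∑ i, c i • t i := by
    intro s hs1 hs2
    by_contra hcon
    refine htr (Fin.snoc (fun i : Fin q => t i) s) (fun i => ?_) ?_
    · refine Fin.lastCases ?_ (fun j => ?_) i
      · rw [Fin.snoc_last]; exact ⟨hs1, hs2⟩
      · rw [Fin.snoc_castSucc]; exact ht j
    · refine linearIndependent_finSnoc.2 ⟨hind q hX, fun hmem => hcon ?_⟩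
      obtain ⟨c, hc⟩ := (Submodule.mem_span_range_iff_exists_fun k).1 hmem
      exact ⟨c, hc.symm⟩
  -- the corner
  let A : Submodule k R := LinearMap.range ((LinearMap.mulLeft k f).comp (LinearMap.mulRight k f))
  have hA : ∀ y, f * y * f ∈ A := fun y => ⟨y, by simp [mul_assoc]⟩
  have hAl : ∀ {x}, x ∈ A → f * x = x := by
    rintro _ ⟨y, rfl⟩
    simp [← mul_assoc, hff]
  have hAr : ∀ {x}, x ∈ A → x * f = x := by
    rintro _ ⟨y, rfl⟩
    simp [mul_assoc, hff]
  have hAε : ∀ {x}, x ∈ A → x * ε = x := fun {x} hx => by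
    conv_lhs => rw [← hAr hx]
    rw [mul_assoc, hfε, hAr hx]
  have hXA : ∀ {x}, x ∈ A → X * x ∈ A := fun {x} hx => by
    have e : f * (X * x) * f = X * x := by
      rw [← mul_assoc f, ← hXc, mul_assoc X, hAl hx, mul_assoc, hAr hx]
    exact e ▸ hA _
  have hAmul : ∀ {x y}, x ∈ A → y ∈ A → x * y ∈ A := fun {x y} hx hy => by
    have e : f * (x * y) * f = x * y := by rw [← mul_assoc, hAl hx, mul_assoc, hAr hy]
    exact e ▸ hA _
  let lam : R →ₗ[k] k := φ'.comp ((LinearMap.applyₗ w).comp σ.toLinearMap)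
  have hlamA : ∀ {x}, x ∈ A → σ x w = lam x • w := by
    intro x hx
    have h1 : σ x w = E (σ x w) := by rw [← hσf, ← Module.End.mul_apply, ← map_mul, hAl hx]
    rw [h1]
    rfl
  have hlamker : ∀ {x}, x ∈ A → lam x = 0 → σ x = 0 := by
    intro x hx h0
    have h1 : σ x = σ x * E := by rw [← hσf, ← map_mul, hAr hx]
    rw [h1]
    refine LinearMap.ext fun y => ?_
    simp [E, hlamA hx, h0]
  have hfA : f ∈ A := by simpa [hff] using hA 1
  have hlamf : lam f = 1 := by simp [lam, hfw, hφ']
  -- the part spanned by commutators and multiples of `X`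
  let Wc : Submodule k R := A.map (LinearMap.mulLeft k X) ⊔
    Submodule.span k {y | ∃ x₁ ∈ A, ∃ x₂ ∈ A, x₁ * x₂ - x₂ * x₁ = y}
  have hWlam : ∀ y ∈ Wc, lam y = 0 := by
    intro y hy
    obtain ⟨y1, hy1, y2, hy2, rfl⟩ := Submodule.mem_sup.1 hy
    obtain ⟨x, -, rfl⟩ := hy1
    have h1 : lam (X * x) = 0 := by simp [lam, hσX]
    rw [map_add, LinearMap.mulLeft_apply, h1, zero_add]
    clear hy
    induction hy2 using Submodule.span_induction with
    | zero => simp
    | add u v _ _ hu hv => rw [map_add, hu, hv, add_zero]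
    | smul c u _ hu => rw [map_smul, hu, smul_zero]
    | mem u hu =>
      obtain ⟨x₁, h₁, x₂, h₂, rfl⟩ := hu
      have e : ∀ {x y}, x ∈ A → y ∈ A → lam (x * y) = lam y * lam x := fun {x y} hx hy => by
        show φ' (σ (x * y) w) = _
        rw [map_mul, Module.End.mul_apply, hlamA hy, map_smul, hlamA hx, smul_smul, map_smul, hφ',
          smul_eq_mul, mul_one]
      rw [map_sub, e h₁ h₂, e h₂ h₁, mul_comm, sub_self]
  -- extension of trace functionals of the corner
  have hext : ∀ ψ : R →ₗ[k] k, (∀ y ∈ Wc, ψ y = 0) → ∃ c : k, ∀ x ∈ A, ψ x = c * t (q - 1) x := by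
    intro ψ hψ
    have hψt : ∀ x₁ ∈ A, ∀ x₂ ∈ A, ψ (x₁ * x₂) = ψ (x₂ * x₁) := fun x₁ h₁ x₂ h₂ => sub_eq_zero.1 <| by
      rw [← map_sub]
      exact hψ _ (Submodule.mem_sup_right (Submodule.subset_span ⟨x₁, h₁, x₂, h₂, rfl⟩))
    let Ψ : R →ₗ[k] k := ∑ j, ψ.comp
      ((LinearMap.mulLeft k (f * b j)).comp (LinearMap.mulRight k (a j * f)))
    have hΨ : ∀ y, Ψ y = ∑ j, ψ (f * b j * y * (a j * f)) := fun y => by simp [Ψ, mul_assoc]
    have hexp : ∀ x y, Ψ (x * y) =
        ∑ j, ∑ i, ψ ((f * b j * x * (a i * f)) * (f * b i * y * (a j * f))) := by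
      intro x y
      rw [hΨ]
      refine Finset.sum_congr rfl fun j _ => ?_
      rw [← map_sum]
      congr 1
      calc f * b j * (x * y) * (a j * f) = f * b j * (x * ε * y) * (a j * f) := by
            rw [mul_assoc x ε, hεc]
            simp only [mul_assoc]
            rw [haf]
        _ = _ := by
            rw [hdec]
            simp only [Finset.sum_mul, Finset.mul_sum, mul_assoc]
            refine Finset.sum_congr rfl fun i _ => ?_
            rw [← mul_assoc f f, hff]
    have hmemA : ∀ i j y, f * b j * y * (a i * f) ∈ A := fun i j y => by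
      simpa [mul_assoc] using hA (b j * y * a i)
    obtain ⟨c, hc⟩ := hspan Ψ (fun x y => by
        rw [hexp, hexp, Finset.sum_comm]
        exact Finset.sum_congr rfl fun i _ => Finset.sum_congr rfl fun j _ =>
          hψt _ (hmemA _ _ _) _ (hmemA _ _ _)) fun y => by
      rw [hΨ, hΨ]
      refine Finset.sum_congr rfl fun j _ => congrArg ψ ?_
      rw [hεc]
      simp only [mul_assoc]
      rw [haf]
    have hΨA : ∀ x ∈ A, Ψ x = ψ x := by
      intro x hx
      rw [hΨ]
      calc ∑ j, ψ (f * b j * x * (a j * f))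
          = ∑ j, ψ ((f * b j * f) * (x * (f * a j * f))) := by
            refine Finset.sum_congr rfl fun j _ => congrArg ψ ?_
            conv_lhs => rw [← hAl hx, ← hAr (show f * x ∈ A by rw [hAl hx]; exact hx)]
            simp only [mul_assoc]
        _ = ∑ j, ψ ((x * (f * a j * f)) * (f * b j * f)) :=
            Finset.sum_congr rfl fun j _ => hψt _ (hA _) _ (hAmul hx (hA _))
        _ = ψ x := by
            rw [← map_sum]
            congr 1
            calc ∑ j, x * (f * a j * f) * (f * b j * f) = x * f * (∑ j, a j * f * b j) * f := by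
                  simp only [Finset.mul_sum, Finset.sum_mul, mul_assoc]
                  refine Finset.sum_congr rfl fun j _ => ?_
                  rw [← mul_assoc f f, hff]
              _ = x := by rw [← hdec, hAr hx, hAε hx, hAr hx]
    have hΨX : ∀ y, Ψ (X * y) = 0 := fun y => by
      rw [hΨ]
      refine Finset.sum_eq_zero fun j _ => hψ _ (Submodule.mem_sup_left ?_)
      refine ⟨f * b j * y * (a j * f), hmemA _ _ _, ?_⟩
      rw [LinearMap.mulLeft_apply, show f * b j * (X * y) = X * (f * b j * y) by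
        rw [← mul_assoc _ X, ← hXc, mul_assoc X]]
      simp only [mul_assoc]
    have hzero : ∀ i : Fin q, (i : ℕ) + 1 < q → c i = 0 := by
      intro i hi
      have hl := Fintype.linearIndependent_iff.1 (hind q hX)
        (fun j => if h : 0 < (j : ℕ) then c ⟨(j : ℕ) - 1, lt_of_le_of_lt (Nat.sub_le _ _) j.2⟩ else 0)
        ?_ ⟨i + 1, hi⟩
      · simpa using hl
      refine LinearMap.ext fun y => ?_
      have hy := hΨX y
      rw [hc] at hy
      simp only [LinearMap.sum_apply, LinearMap.smul_apply, LinearMap.zero_apply, smul_eq_mul] at hy ⊢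
      obtain ⟨q', rfl⟩ : ∃ q', q = q' + 1 := ⟨q - 1, by omega⟩
      rw [Fin.sum_univ_castSucc] at hy
      rw [Fin.sum_univ_succ]
      have hlast : t q' (X * y) = 0 := by
        simp only [t, LinearMap.comp_apply, LinearMap.mulLeft_apply]
        rw [← mul_assoc, ← pow_succ, hXq, zero_mul, map_zero]
      rw [Fin.val_last, hlast, mul_zero, add_zero] at hy
      rw [dif_neg (by simp), zero_mul, zero_add]
      refine Eq.trans ?_ hy
      refine Finset.sum_congr rfl fun j _ => ?_
      rw [dif_pos (by simp)]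
      simp only [t, LinearMap.comp_apply, LinearMap.mulLeft_apply, Fin.val_succ, Fin.val_castSucc,
        ← mul_assoc, pow_succ]
      rfl
    refine ⟨if h : q - 1 < q then c ⟨q - 1, h⟩ else 0, fun x hx => ?_⟩
    rw [← hΨA x hx, hc]
    simp only [LinearMap.sum_apply, LinearMap.smul_apply, smul_eq_mul]
    by_cases hq : q - 1 < q
    · rw [dif_pos hq, Finset.sum_eq_single ⟨q - 1, hq⟩ (fun i _ hi => by
        rw [hzero i (by have := i.2; have := Fin.val_ne_of_ne hi; simp at this; omega), zero_mul])
        (by simp)]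
    · rw [dif_neg hq, zero_mul]
      exact Finset.sum_eq_zero fun i _ => absurd i.2 (by omega)
  -- the corner is spanned by one element modulo this part
  have hAW : ∀ x ∈ A, x - lam x • f ∈ Wc := by
    intro x hx
    by_contra hno
    obtain ⟨ψ, hψ1, hψ2⟩ := Submodule.exists_le_ker_of_notMem hno
    let lam' : R →ₗ[k] k := lam
    obtain ⟨c₁, h₁⟩ := hext ψ fun y hy => hψ2 hy
    obtain ⟨c₂, h₂⟩ := hext lam hWlam
    have hne : c₂ * t (q - 1) f = 1 := by rw [← h₂ f hfA, hlamf]
    refine hψ1 ?_
    have hxf : x - lam x • f ∈ A := A.sub_mem hx (A.smul_mem _ hfA)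
    rw [h₁ _ hxf]
    have h0 : c₂ * t (q - 1) (x - lam x • f) = 0 := by
      rw [← h₂ _ hxf, map_sub, map_smul, hlamf, smul_eq_mul, mul_one, sub_self]
    rcases mul_eq_zero.1 h0 with h | h
    · rw [h, zero_mul] at hne
      exact absurd hne zero_ne_one
    · rw [h, mul_zero]
  -- iteration
  let J : Submodule k R := A ⊓ LinearMap.ker lam
  have hJjac : ∀ x ∈ J, x ∈ Ring.jacobson R := fun x hx => mem_jacobson_of_nil fun y => by
    have h := hnil (y * x) (by rw [map_mul, hlamker hx.1 hx.2, mul_zero])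
    rwa [mul_assoc, hAε hx.1] at h
  let XA : Submodule k R := A.map (LinearMap.mulLeft k X)
  have hJ2 : J ≤ XA ⊔ J * J := by
    intro x hx
    have hx1 := hAW x hx.1
    rw [show lam x = 0 from hx.2, zero_smul, sub_zero] at hx1
    refine SetLike.le_def.1 (sup_le_sup (le_refl XA) (Submodule.span_le.2 ?_)) hx1
    rintro _ ⟨x₁, h₁, x₂, h₂, rfl⟩
    have key : x₁ * x₂ - x₂ * x₁ = (x₁ - lam x₁ • f) * (x₂ - lam x₂ • f) -
        (x₂ - lam x₂ • f) * (x₁ - lam x₁ • f) := by
      simp only [mul_sub, sub_mul, mul_smul_comm, smul_mul_assoc, hAl h₁, hAl h₂, hAr h₁, hAr h₂, hff]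
      module
    have hmem : ∀ {y}, y ∈ A → y - lam y • f ∈ J := fun {y} hy =>
      ⟨A.sub_mem hy (A.smul_mem _ hfA), by simp [hlamf]⟩
    rw [key]
    exact sub_mem (Submodule.mul_mem_mul (hmem h₁) (hmem h₂)) (Submodule.mul_mem_mul (hmem h₂) (hmem h₁))
  have hpow : ∀ n, J ≤ XA ⊔ J ^ (n + 1) := by
    intro n
    induction n with
    | zero => rw [zero_add, Submodule.pow_one]; exact le_sup_right
    | succ n ih =>
      refine hJ2.trans (sup_le le_sup_left ?_)
      refine le_trans (Submodule.mul_le.2 fun u hu v hv => Submodule.mul_mem_mul (ih hu) hv :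
        J * J ≤ (XA ⊔ J ^ (n + 1)) * J) ?_
      rw [Submodule.sup_mul]
      refine sup_le_sup ?_ (le_of_eq (Submodule.pow_succ _).symm)
      refine Submodule.mul_le.2 ?_
      rintro _ ⟨u, hu, rfl⟩ v hv
      exact ⟨u * v, hAmul hu hv.1, by simp [mul_assoc]⟩
  haveI : IsArtinianRing R := IsArtinianRing.of_finite k R
  obtain ⟨N₂, hN₂⟩ : IsNilpotent (Ring.jacobson R) := by
    rw [← Ideal.jacobson_bot]; exact IsArtinianRing.isNilpotent_jacobson_bot
  have hJX : J ≤ XA := by
    intro x hx
    obtain ⟨u, hu, v, hv, rfl⟩ := Submodule.mem_sup.1 (hpow N₂ hx)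
    have hv0 : ∀ n, ∀ y ∈ J ^ (n + 1), y ∈ Ring.jacobson R ^ (n + 1) := by
      intro n
      induction n with
      | zero => intro y hy; rw [zero_add, Submodule.pow_one] at hy ⊢; exact hJjac y hy
      | succ n ihn =>
        intro y hy
        rw [Submodule.pow_succ] at hy ⊢
        induction hy using Submodule.mul_induction_on' with
        | mem_mul_mem y₁ h₁ y₂ h₂ => exact Ideal.mul_mem_mul (ihn y₁ h₁) (hJjac y₂ h₂)
        | add y₁ _ y₂ _ h₁ h₂ => exact add_mem h₁ h₂
    have h := Ideal.pow_le_pow_right N₂.le_succ (hv0 N₂ v hv)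
    rw [hN₂] at h
    rw [Ideal.mem_bot.1 h, add_zero]
    exact hu
  refine ⟨f, _, a, b, hff, hfε, hdec, hXq, fun y => ?_, w, hw, hfw⟩
  set P := Submodule.span k (Set.range fun i : Fin q => X ^ (i : ℕ) * f)
  have hstep : ∀ n, ∀ x ∈ A, ∃ u ∈ P, ∃ x' ∈ A, x = u + X ^ n * x' := by
    intro n
    induction n with
    | zero => exact fun x hx => ⟨0, zero_mem _, x, hx, by simp⟩
    | succ n ih =>
      intro x hx
      obtain ⟨u, hu, x', hx', rfl⟩ := ih x hx
      have h := hJX (show x' - lam x' • f ∈ J from ⟨A.sub_mem hx' (A.smul_mem _ hfA), by simp [hlamf]⟩)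
      obtain ⟨x'', hx'', e⟩ := h
      refine ⟨u + lam x' • (X ^ n * f), add_mem hu (P.smul_mem _ ?_), x'', hx'', ?_⟩
      · rcases Nat.lt_or_ge n q with hn | hn
        · exact Submodule.subset_span ⟨⟨n, hn⟩, rfl⟩
        · rw [pow_eq_zero_of_le hn hXq, zero_mul]; exact zero_mem _
      · have e' : x' = X * x'' + lam x' • f := eq_add_of_sub_eq e.symm
        conv_lhs => rw [e']
        rw [mul_add, mul_smul_comm, pow_succ, mul_assoc]
        abel
  obtain ⟨u, hu, x', -, hy⟩ := hstep q _ (hA y)
  rw [hy, hXq, zero_mul, add_zero]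
  exact hu

end Cfsg.Agent.CyclicCorner42
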