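import Cfsg.Agent.Lib.CyclicValues42

/-!
# Cyclic defect groups: the values on singular elements

On a singular element a character of the block is the combination of the functions `kapZ` with
its multiplicities as coefficients; the block kernels are divisible by centraliser orders.
-/

set_option autoImplicit false
set_option linter.unusedSectionVars false

namespace Cfsg.Agent.CyclicKappa42

open Cfsg BlockTheoryLocalRing BlockTheoryCentre BlockTheoryIdem BlockContribSection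
  BlockContribBounds BrauerPairs81Base BrauerPairs81Fusion BlockCyclicRank81 CyclicSetup42
  CyclicAction42 CyclicShape42 CyclicValues42
open scoped ComplexConjugate

attribute [local instance] Classical.propDecidable

universe u

/-- An average over the cosets of a subgroup stays in a subring. -/
theorem inv_card_mul_sum_mem {G : Type*} [Group G] [Fintype G] (R : Subring ℂ) (K : Subgroup G)
    (F : G → ℂ) (hinv : ∀ g, ∀ k ∈ K, F (g * k) = F g) (hF : ∀ g, F g ∈ R) :
    (Nat.card K : ℂ)⁻¹ * ∑ g, F g ∈ R := by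
  rw [← Finset.sum_fiberwise (Finset.univ : Finset G) (fun g => (g : G ⧸ K)) F, Finset.mul_sum]
  refine R.sum_mem fun q _ => ?_
  obtain ⟨a, rfl⟩ := QuotientGroup.mk_surjective q
  have hval : ∀ g ∈ Finset.univ.filter (fun g : G => (g : G ⧸ K) = a), F g = F a := fun g hg => by
    have := hinv a _ (QuotientGroup.eq.1 (Finset.mem_filter.1 hg).2.symm)
    rwa [mul_inv_cancel_left] at this
  have hc : (Finset.univ.filter (fun g : G => (g : G ⧸ K) = a)).card = Nat.card K := by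
    rw [Nat.card_eq_fintype_card, ← Finset.card_univ]
    refine Finset.card_bij' (fun g hg => (⟨a⁻¹ * g,
        QuotientGroup.eq.1 (Finset.mem_filter.1 hg).2.symm⟩ : K))
      (fun k _ => a * (k : G)) (fun g _ => Finset.mem_univ _) (fun k _ => ?_)
      (fun g _ => mul_inv_cancel_left a g) fun k _ => Subtype.ext (inv_mul_cancel_left a k)
    refine Finset.mem_filter.2 ⟨Finset.mem_univ _, (QuotientGroup.eq.2 ?_).symm⟩
    rw [inv_mul_cancel_left]
    exact k.2
  rw [Finset.sum_congr rfl hval, Finset.sum_const, hc, nsmul_eq_mul, ← mul_assoc,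
    inv_mul_cancel₀ (Nat.cast_ne_zero.2 Nat.card_pos.ne'), one_mul]
  exact hF a

/-- A block kernel is divisible by the order of a centraliser. -/
theorem kern_div_mem {p : ℕ} {M : Ideal AlgInt} (hM : IsPModular p M) {H : Type*} [Group H]
    [Fintype H] {b : Set (IrrCharacter H)} (hb : IsPBlock M b) (s t : H) :
    MemLocalRing M ((∑ ψ ∈ members b, (ψ : H → ℂ) s * (ψ : H → ℂ) t) /
      (Nat.card (Subgroup.centralizer ({s} : Set H)) : ℂ)) := by
  have hH0 : (Nat.card H : ℂ) ≠ 0 := Nat.cast_ne_zero.2 Nat.card_pos.ne'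
  have h1 : ∑ ψ ∈ members b, (ψ : H → ℂ) s * (ψ : H → ℂ) t =
      ∑ a : H, blockCoeff b (t⁻¹ * (a * s⁻¹ * a⁻¹)) := by
    simp only [blockCoeff_eq_sum]
    rw [← Finset.mul_sum, Finset.sum_comm, ← filter_eq_members, Finset.sum_filter, Finset.mul_sum]
    refine Finset.sum_congr rfl fun ψ _ => ?_
    split_ifs
    · rw [← Finset.mul_sum, ← map_sum, BrauerBlocksPerm.sum_conj_mul, map_div₀, map_mul, map_mul,
        map_natCast, irr_inv, irr_inv, Complex.conj_conj, Complex.conj_conj,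
        CharAverage.irr_apply_one ψ, map_natCast]
      have := (Nat.cast_ne_zero (R := ℂ)).2 (ClassAlgebraVal.charDegree_pos ψ).ne'
      field_simp
    · simp
  rw [h1, div_eq_inv_mul]
  refine inv_card_mul_sum_mem (localRing hM) _ _ (fun g k hk => ?_)
    fun a => blockCoeff_mem hM hb _
  congr 2
  have hc : k * s = s * k := Subgroup.mem_centralizer_singleton_iff.1 hk
  have hc' : k * s⁻¹ * k⁻¹ = s⁻¹ := by
    rw [mul_inv_eq_iff_eq_mul, eq_inv_mul_iff_mul_eq, ← mul_assoc, ← hc, mul_inv_cancel_right]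
  calc g * k * s⁻¹ * (g * k)⁻¹ = g * (k * s⁻¹ * k⁻¹) * g⁻¹ := by group
    _ = g * s⁻¹ * g⁻¹ := by rw [hc']

variable {p : ℕ} [Fact p.Prime] {M : Ideal AlgInt} {G : Type u} [Group G] [Fintype G]
  {B : Set (IrrCharacter G)} {P : Subgroup G} {e : ℕ} (L : Loc p M B P e)

/-- A character of `C(Z)` extended by zero. -/
noncomputable def extH (ψ : IrrCharacter L.H) (g : G) : ℂ :=
  if hg : g ∈ L.H then (ψ : L.H → ℂ) ⟨g, hg⟩ else 0

theorem extH_coe (ψ : IrrCharacter L.H) (h : L.H) : extH L ψ h = (ψ : L.H → ℂ) h := dif_pos h.2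

/-- The averaged value of `ψ` at the conjugates of `x` generating `Z`. -/
noncomputable def kapZ (x : G) (ψ : IrrCharacter L.H) : ℂ :=
  (Nat.card L.N : ℂ)⁻¹ *
    ∑ g : G, if L.z ∈ Subgroup.zpowers (g * x * g⁻¹) then extH L ψ (g * x * g⁻¹) else 0

theorem kappa_conj (x a : G) (ψ : IrrCharacter L.H) :
    kapZ L (a * x * a⁻¹) ψ = kapZ L x ψ := by
  simp only [kapZ]
  congr 1
  refine Fintype.sum_equiv (Equiv.mulRight a) _ _ fun g => ?_
  simp only [Equiv.coe_mulRight]
  simp only [show g * (a * x * a⁻¹) * g⁻¹ = g * a * x * (g * a)⁻¹ by group]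
  congr!

theorem mem_zpowers_conj {x : G} (n : Subgroup.normalizer (L.Z : Set G))
    (h : L.z ∈ Subgroup.zpowers x) : L.z ∈ Subgroup.zpowers ((n : G) * x * (n : G)⁻¹) := by
  have h1 : (n : G)⁻¹ * L.z * n ∈ L.Z := by
    have := (Subgroup.mem_normalizer_iff.1 (inv_mem n.2) L.z).1 (Subgroup.mem_zpowers L.z)
    rwa [inv_inv] at this
  obtain ⟨i, hi⟩ := Subgroup.mem_zpowers_iff.1 (Subgroup.zpowers_le.2 h h1)
  exact Subgroup.mem_zpowers_iff.2 ⟨i, by rw [conj_zpow, hi]; group⟩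

theorem kappa_tw (x : G) (n : Subgroup.normalizer (L.Z : Set G)) (ψ : IrrCharacter L.H) :
    kapZ L x (tw L n ψ) = kapZ L x ψ := by
  simp only [kapZ]
  congr 1
  refine Fintype.sum_equiv (Equiv.mulLeft (n : G)) _ _ fun g => ?_
  simp only [Equiv.coe_mulLeft]
  simp only [show (n : G) * g * x * ((n : G) * g)⁻¹ = (n : G) * (g * x * g⁻¹) * (n : G)⁻¹ by group]
  set y := g * x * g⁻¹
  by_cases hy : L.z ∈ Subgroup.zpowers y
  · have hyH : y ∈ L.H := mem_H_of_commute L hy (Commute.refl _)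
    rw [if_pos hy, if_pos (mem_zpowers_conj L n hy)]
    rw [show y = ((⟨y, hyH⟩ : L.H) : G) from rfl, extH_coe, tw_apply, ← extH_coe, conjH_coe]
  · rw [if_neg hy, if_neg fun h => hy ?_]
    have := mem_zpowers_conj L n⁻¹ h
    rwa [show ((n⁻¹ : Subgroup.normalizer (L.Z : Set G)) : G) * ((n : G) * y * (n : G)⁻¹) *
      ((n⁻¹ : Subgroup.normalizer (L.Z : Set G)) : G)⁻¹ = y by
        rw [Subgroup.coe_inv]; group] at this

theorem sum_kappa_eq_zero (hM : IsPModular p M) {x : G} (hx : p ∣ orderOf x) :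
    ∑ ψ ∈ members L.b, kapZ L x ψ = 0 := by
  simp only [kapZ, ← Finset.mul_sum]
  rw [Finset.sum_comm, Finset.sum_eq_zero fun g _ => ?_, mul_zero]
  by_cases hy : L.z ∈ Subgroup.zpowers (g * x * g⁻¹)
  · have hyH : g * x * g⁻¹ ∈ L.H := mem_H_of_commute L hy (Commute.refl _)
    set h : L.H := ⟨g * x * g⁻¹, hyH⟩
    rw [Finset.sum_congr rfl fun ψ _ => by rw [if_pos hy]]
    show ∑ ψ ∈ members L.b, extH L ψ (h : G) = 0
    simp only [extH_coe]
    refine sum_block_eq_zero L hM ?_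
    rw [← Subgroup.orderOf_coe, show ((h : L.H) : G) = MulAut.conj g x from rfl, MulEquiv.orderOf_eq]
    exact hx
  · exact Finset.sum_eq_zero fun ψ _ => if_neg hy

/-- The value of a member of `B` at a singular element. -/
theorem apply_eq_kappa (hM : IsPModular p M) {χ : IrrCharacter G} (hχ : χ ∈ B) {x : G}
    (hx : p ∣ orderOf x) :
    (χ : G → ℂ) x = ∑ ψ ∈ members L.b, (S4716.mult χ ψ : ℂ) * kapZ L x ψ := by
  by_cases hex : ∃ g : G, L.z ∈ Subgroup.zpowers (g * x * g⁻¹)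
  swap
  · push Not at hex
    have h0 : (χ : G → ℂ) x = 0 := by
      by_contra hne
      obtain ⟨g, -, hg⟩ := exists_conj_H L hM hχ hx hne
      exact hex g hg
    rw [h0, Finset.sum_eq_zero fun ψ _ => ?_]
    rw [kapZ, Finset.sum_eq_zero fun g _ => if_neg (hex g), mul_zero, mul_zero]
  obtain ⟨g₀, hg₀⟩ := hex
  rw [← irr_classFun χ x g₀, Finset.sum_congr rfl fun ψ _ => by rw [← kappa_conj L x g₀ ψ]]
  set h : L.H := ⟨g₀ * x * g₀⁻¹, mem_H_of_commute L hg₀ (Commute.refl _)⟩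
  show (χ : G → ℂ) (h : G) = ∑ ψ ∈ members L.b, (S4716.mult χ ψ : ℂ) * kapZ L (h : G) ψ
  have hz : L.z ∈ Subgroup.zpowers (h : G) := hg₀
  set Nz := Subgroup.normalizer (L.Z : Set G)
  -- the blocks of `C(Z)`
  set S := (Finset.univ : Finset (IrrCharacter L.H)).image
    (fun ψ : IrrCharacter L.H => blockOf M (ψ : L.H → ℂ))
  set F : Set (IrrCharacter L.H) → ℂ := fun b' =>
    ∑ ψ ∈ members b', (S4716.mult χ ψ : ℂ) * (ψ : L.H → ℂ) h
  have hblk : ∀ g : Nz, IsPBlock M (tw L g '' L.b) := fun g =>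
    isPBlock_push (conjH L g).symm (L.hb hM)
  have hsplit : (χ : G → ℂ) (h : G) = ∑ b' ∈ S, F b' := by
    rw [S4716.apply_eq_sum, ← Finset.sum_fiberwise_of_maps_to
      (g := fun ψ : IrrCharacter L.H => blockOf M (ψ : L.H → ℂ)) (t := S)
      fun ψ hψ => Finset.mem_image_of_mem _ hψ]
    refine Finset.sum_congr rfl fun b' hb' => Finset.sum_congr ?_ fun ψ _ => rfl
    obtain ⟨ψ', -, rfl⟩ := Finset.mem_image.1 hb'
    ext ψ
    simp only [Finset.mem_filter, Finset.mem_univ, true_and, mem_members]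
    exact ⟨fun he => he ▸ self_mem_blockOf hM ψ,
      fun hψ => (eq_blockOf_of_mem hM (isPBlock_blockOf ψ') hψ).symm⟩
  set T := (Finset.univ : Finset Nz).image fun g => tw L g '' L.b
  have hTS : T ⊆ S := Finset.image_subset_iff.2 fun g _ => by
    obtain ⟨ψ, hψ⟩ := block_nonempty hM (hblk g)
    exact Finset.mem_image.2 ⟨ψ, Finset.mem_univ _, (eq_blockOf_of_mem hM (hblk g) hψ).symm⟩
  have hS : ∑ b' ∈ S, F b' = ∑ b' ∈ T, F b' := by
    refine (Finset.sum_subset hTS fun b' hb' hnot => ?_).symm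
    obtain ⟨ψ', -, rfl⟩ := Finset.mem_image.1 hb'
    obtain ⟨B', hB'⟩ := BlockContribSection.exists_induced (centralizer_zpowers L.z) hM
      ⟨1, by rw [L.hzo, pow_one]⟩ (isPBlock_blockOf ψ' : IsPBlock M (blockOf M (ψ' : L.H → ℂ)))
    refine beta_eq_zero' L hM hB' (fun h' => hnot ?_) hz
    obtain rfl : B' = B := block_eq_of_mem hM hB'.2.1 L.hB h' hχ
    obtain ⟨g, hg⟩ := exists_tw_of_induced L hM hB'
    exact Finset.mem_image.2 ⟨g, Finset.mem_univ _, hg.symm⟩
  have hfib : ∀ b' ∈ T, ((Finset.univ : Finset Nz).filter fun g => tw L g '' L.b = b').card =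
      Nat.card L.N := by
    intro b' hb'
    obtain ⟨g₁, -, rfl⟩ := Finset.mem_image.1 hb'
    rw [Nat.card_eq_fintype_card, ← Finset.card_univ]
    refine Finset.card_bij' (fun g hg => (⟨((g * g₁⁻¹ : Nz) : G), ?_⟩ : L.N))
      (fun n _ => (⟨n, L.N_le_normalizer n.2⟩ : Nz) * g₁) (fun g _ => Finset.mem_univ _)
      (fun n _ => Finset.mem_filter.2 ⟨Finset.mem_univ _, ?_⟩)
      (fun g _ => Subtype.ext (by simp)) fun n _ => Subtype.ext (by simp)
    · obtain ⟨ψ, hψ⟩ := block_nonempty hM (L.hb hM)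
      obtain ⟨φ, hφ, hφe⟩ : tw L g ψ ∈ tw L g₁ '' L.b :=
        (Finset.mem_filter.1 hg).2 ▸ Set.mem_image_of_mem _ hψ
      refine mem_N_of_tw L hM (g * g₁⁻¹) hψ ?_
      rw [tw_mul, ← hφe, ← tw_mul, mul_inv_cancel, tw_of_mem_H L 1 (one_mem _)]
      exact hφ
    · ext φ
      constructor
      · rintro ⟨ψ, hψ, rfl⟩
        exact ⟨tw L ⟨n, L.N_le_normalizer n.2⟩ ψ, tw_mem L _ n.2 hψ, (tw_mul L _ _ ψ).symm⟩
      · rintro ⟨ψ, hψ, rfl⟩
        refine ⟨(tw L ⟨n, L.N_le_normalizer n.2⟩).symm ψ, ?_, ?_⟩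
        · have e1 : (tw L ⟨n, L.N_le_normalizer n.2⟩).symm ψ =
              tw L (⟨n, L.N_le_normalizer n.2⟩ : Nz)⁻¹ ψ := by
            rw [Equiv.symm_apply_eq, ← tw_mul, inv_mul_cancel, tw_of_mem_H L 1 (one_mem _)]
          rw [e1]
          exact tw_mem L _ (inv_mem n.2) hψ
        · rw [tw_mul, Equiv.apply_symm_apply]
  have hsum : ∑ ψ ∈ members L.b, (S4716.mult χ ψ : ℂ) * kapZ L (h : G) ψ =
      (Nat.card L.N : ℂ)⁻¹ * ∑ g : Nz, F (tw L g '' L.b) := by
    simp only [kapZ, Finset.mul_sum]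
    rw [Finset.sum_comm, ← Finset.sum_filter_add_sum_filter_not Finset.univ (· ∈ Nz),
      Finset.sum_eq_zero (s := Finset.univ.filter fun g => ¬ g ∈ Nz) fun g hg => ?_, add_zero,
      Finset.sum_subtype (p := fun g => g ∈ Nz) _ (by simp)]
    · refine Finset.sum_congr rfl fun g _ => ?_
      have hm : members (tw L g '' L.b) = (members L.b).map (tw L g).toEmbedding := by
        ext ψ; simp
      simp only [F]
      rw [hm, Finset.sum_map, Finset.mul_sum]
      refine Finset.sum_congr rfl fun ψ _ => ?_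
      rw [if_pos (mem_zpowers_conj L g hz), Equiv.coe_toEmbedding, mult_tw, tw_apply, ← extH_coe,
        conjH_coe]
      ring
    · refine Finset.sum_eq_zero fun ψ _ => ?_
      rw [if_neg fun h' => (Finset.mem_filter.1 hg).2 (mem_normalizer_of_zpowers L hz h'),
        mul_zero, mul_zero]
  rw [hsplit, hS, hsum, ← Finset.sum_fiberwise_of_maps_to (g := fun g : Nz => tw L g '' L.b)
    (t := T) (fun g hg => Finset.mem_image_of_mem _ hg), Finset.mul_sum]
  refine Finset.sum_congr rfl fun b' hb' => ?_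
  rw [Finset.sum_congr rfl fun g hg => by rw [(Finset.mem_filter.1 hg).2], Finset.sum_const,
    hfib b' hb', nsmul_eq_mul, ← mul_assoc,
    inv_mul_cancel₀ (Nat.cast_ne_zero.2 Nat.card_pos.ne'), one_mul]

variable {L} (S : Shape L)

/-- The signed value of a non-exceptional character at a singular element. -/
theorem apply_X (hM : IsPModular p M) {χ : IrrCharacter G} (hχ : χ ∈ S.X) {x : G}
    (hx : p ∣ orderOf x) :
    (χ : G → ℂ) x = (S.δ χ : ℂ) * ∑ ψ ∈ moved L S.ψ₀, kapZ L x ψ := by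
  rw [apply_eq_w S.base hM (mem_members.1 (S.subX hχ)) hx, Finset.mul_sum]
  exact Finset.sum_congr rfl fun ψ hψ => by rw [S.wval ψ hψ χ (S.subX hχ), if_pos hχ]
where
  apply_eq_w {ψ₀ : IrrCharacter L.H} (h0 : Base L ψ₀) (hM : IsPModular p M)
      {χ : IrrCharacter G} (hχ : χ ∈ B) {x : G} (hx : p ∣ orderOf x) :
      (χ : G → ℂ) x = ∑ ψ ∈ moved L ψ₀, (w L ψ₀ χ ψ : ℂ) * kapZ L x ψ := by
    have h1 : ∑ ψ ∈ moved L ψ₀, (w L ψ₀ χ ψ : ℂ) * kapZ L x ψ =
        ∑ ψ ∈ members L.b, (w L ψ₀ χ ψ : ℂ) * kapZ L x ψ := by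
      rw [moved, Finset.sum_erase]
      simp [w]
    rw [h1, apply_eq_kappa L hM hχ hx]
    simp only [w, Int.cast_sub, Int.cast_natCast, sub_mul, Finset.sum_sub_distrib]
    rw [← Finset.mul_sum (a := (S4716.mult χ ψ₀ : ℂ)), sum_kappa_eq_zero L hM hx, mul_zero,
      sub_zero]

/-- The signed value of an exceptional character at a singular element. -/
theorem apply_Y (hM : IsPModular p M) {y : IrrCharacter G} (hy : y ∈ S.Y) {x : G}
    (hx : p ∣ orderOf x) :
    (y : G → ℂ) x = (S.δ₀ : ℂ) *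
      ∑ ψ ∈ (moved L S.ψ₀).filter (fun ψ => S.ζ ψ = y), kapZ L x ψ := by
  rw [apply_X.apply_eq_w S.base hM (mem_members.1 (S.subY hy)) hx, Finset.mul_sum,
    Finset.sum_filter]
  refine Finset.sum_congr rfl fun ψ hψ => ?_
  rw [S.wval ψ hψ y (S.subY hy), if_neg (Finset.disjoint_right.1 S.disj hy)]
  by_cases h : S.ζ ψ = y
  · rw [if_pos h, if_pos h.symm]
  · rw [if_neg h, if_neg (Ne.symm h), Int.cast_zero, zero_mul]

end Cfsg.Agent.CyclicKappa42
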