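import Cfsg.Agent.Lib.Star80Nilpotent
import Cfsg.Agent.Lib.CharBasicLinear
import Cfsg.Agent.Lib.CyclicKappa42
import Cfsg.Agent.S4716

/-!
# Nilpotent blocks with cyclic defect group: divisibility of parts and the action of automorphisms
-/

set_option autoImplicit false
set_option linter.unusedSectionVars false

namespace Cfsg.Agent.CyclicStar42

open Cfsg BlockTheoryLocalRing BlockTheoryCentre BlockTheoryIdem BlockTheoryDefect
  BlockContribSection BlockContribBounds BrauerPairs81Base BrauerPairs81Pairs BrauerPairs81Conj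
  BrauerPairs81Max Star80Pairs Star80Char Star80Inner Star80Nilpotent Star80Twist
open scoped ComplexConjugate

attribute [local instance] Classical.propDecidable

variable {p : ℕ} [Fact p.Prime] {M : Ideal AlgInt}

section Parts

variable {G : Type*} [Group G] [Fintype G] {B : Set (IrrCharacter G)} {P : Subgroup G}
  {e : Set (IrrCharacter (Cen P))}

theorem part_isIntegral {H : Subgroup G} [Fintype H] {v : G} (hH : ∀ g, g ∈ H ↔ Commute v g)
    (b : Set (IrrCharacter H)) (χ : IrrCharacter G) (s : H) :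
    IsIntegral ℤ (part v b (χ : G → ℂ) s) := by
  set z : H := ⟨v, (hH v).2 (Commute.refl v)⟩ with hz
  have hzc : z ∈ Subgroup.center H := Subgroup.mem_center_iff.2 fun g =>
    Subtype.ext ((hH g).1 g.2).eq.symm
  rw [S4716.part_eq hH]
  refine IsIntegral.sum _ fun ξ _ => (IsIntegral.mul ?_ ?_).mul ?_
  · exact isIntegral_algebraMap (x := (S4716.mult χ ξ : ℤ))
  · refine IsIntegral.of_pow (isOfFinOrder_of_finite z).orderOf_pos ?_
    rw [← S4716.lam_pow hzc, pow_orderOf_eq_one, S4716.lam, div_self (irr_one_ne_zero ξ)]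
    exact isIntegral_one
  · exact CharBasic.isCharacter_integral (CharBasic.isCharacter_of_isIrrCharacter ξ.2) s

/-- A root of unity value of a linear character. -/
theorem irr_norm_of_comm (hab : ∀ a b : P, a * b = b * a) (ψ : IrrCharacter P) (x : P) :
    (ψ : P → ℂ) x * conj ((ψ : P → ℂ) x) = 1 := by
  obtain ⟨lam, hlam⟩ := CharBasicLinear.exists_hom_of_comm hab ψ.2
  rw [hlam]
  have h := lin0_norm lam x.2
  rwa [lin0_coe] at h

/-- The parts of the height zero character at the pairs of a nilpotent block are divisible. -/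
theorem part_div_mem (hM : IsPModular p M) (hmax : IsMaximalBrauerPair p M B P e)
    (hnil : IsNilpotentBlock p M B) (hab : ∀ a b : P, a * b = b * a) {χ0 : IrrCharacter G}
    (hχ0 : χ0 ∈ B) (h0 : blockHeight p B (χ0 : G → ℂ) = 0) {v : G}
    (hv : ∃ k, orderOf v = p ^ k) {b : Set (IrrCharacter (Cen (Subgroup.zpowers v)))}
    (hb : IsBrauerPairOf p M B (Subgroup.zpowers v) b) {s : Cen (Subgroup.zpowers v)}
    (hs : ¬ p ∣ orderOf s) :
    MemLocalRing M ((Nat.card P : ℂ) * part v b (χ0 : G → ℂ) s /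
      (Nat.card (Subgroup.centralizer ({s} : Set (Cen (Subgroup.zpowers v)))) : ℂ)) := by
  set R := localRing hM
  set q : ℂ := (Nat.card P : ℂ)
  have hH : ∀ g, g ∈ (Cen (Subgroup.zpowers v)) ↔ Commute v g := fun g => mem_cen_zp
  have hind : IsInducedBlock M (Cen (Subgroup.zpowers v)) b B := BlockCyclicRank81.induced_of_pairOf hM hb
  set π : (Cen (Subgroup.zpowers v)) → ℂ := fun t => part v b (χ0 : G → ℂ) t
  have hπ : ∀ t, MemLocalRing M (π t) := fun t => of_isIntegral hM (part_isIntegral hH b χ0 t)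
  have hπc : ∀ t, MemLocalRing M (conj (π t)) := fun t => of_isIntegral hM
    ((part_isIntegral hH b χ0 t).map (starRingEnd ℂ).toIntAlgHom)
  obtain ⟨Φ, hΦ⟩ := exists_equiv hM hmax hnil hχ0 h0
  -- the kernel of the block of the centraliser
  have hkern : ∀ a t : (Cen (Subgroup.zpowers v)), ¬ p ∣ orderOf a → ¬ p ∣ orderOf t →
      kern b a t = q * π a * conj (π t) := by
    intro a t ha ht
    have h := sum_part_mul_induced hH hM hv hind ha ht
    rw [← Finset.sum_filter, filter_eq_members] at h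
    rw [← h, show q * π a * conj (π t) = ∑ _χ ∈ members B, π a * conj (π t) from ?_]
    · refine Finset.sum_congr rfl fun χ hχ => ?_
      obtain ⟨ψ, hψ⟩ := Φ.surjective ⟨χ, mem_members.1 hχ⟩
      obtain ⟨g, hg⟩ := exists_conj_subpairLE hM hmax hb
      have hgP : g * v * g⁻¹ ∈ P := subgroup_le_of_subpairLE hg
        ⟨v, Subgroup.mem_zpowers v, rfl⟩
      have hz : zvp p M ⟨P, e⟩ (cl0 (ψ : P → ℂ)) v ⟨_, b⟩ = (ψ : P → ℂ) ⟨_, hgP⟩ := by
        rw [zvp_eq (stable_cl0 hM hmax hnil (irr_classFun ψ)) (a := ⟨_, b⟩) rfl hg, cl0_of_mem _ hgP]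
      have hval : (χ : G → ℂ) = starP p M B e χ0 (ψ : P → ℂ) := by rw [← hΦ, hψ]
      rw [hval, starP, part_star hM χ0 hv hb ha, part_star hM χ0 hv hb ht, hz, map_mul,
        mul_mul_mul_comm, irr_norm_of_comm hab, one_mul]
    · rw [Finset.sum_const, nsmul_eq_mul, ← card_members, ← Nat.card_congr Φ,
        CharBasicOrth.card_irrCharacter, mul_assoc]
      congr 1
      refine congrArg Nat.cast ((Nat.card_congr (Equiv.ofBijective (ConjClasses.mk (α := P))
        ⟨fun a b h => ?_, ConjClasses.mk_surjective⟩)))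
      obtain ⟨c, hc⟩ := isConj_iff.1 (ConjClasses.mk_eq_mk_iff_isConj.1 h)
      rw [← hc, hab c a, mul_inv_cancel_right]
  -- the degree of the part
  have hd : (Nat.card (Cen (Subgroup.zpowers v))).factorization p ≤
      (Nat.card P).factorization p + BlockContrib.minExp p b := by
    obtain ⟨E, hE⟩ := exists_defectGroup hM hind.1
    have hPD := isDefectGroup_of_maximal hM hmax
    have h1 := card_le_of_conjLe (inducedBlock_defect_le hM (Cen (Subgroup.zpowers v)) hind hE hPD)
    rw [← Nat.card_congr (E.equivMapOfInjective _ (Cen (Subgroup.zpowers v)).subtype_injective).toEquiv,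
      card_defectGroup hM hind.1 hE, card_defectGroup hM hmax.1.2.1 hPD] at h1
    rw [card_defectGroup hM hmax.1.2.1 hPD, hM.1.factorization_pow, Finsupp.single_eq_same,
      ← BlockContrib.minExp_add_defect hM hind.1]
    have := (Nat.pow_le_pow_iff_right hM.1.one_lt).1 h1
    omega
  have hone : MemLocalRing M (q * π 1 / (Nat.card (Cen (Subgroup.zpowers v)) : ℂ)) := by
    simp only [π, S4716.part_eq hH, Finset.mul_sum, Finset.sum_div]
    refine R.sum_mem fun ξ hξ => ?_
    have hlam : MemLocalRing M (S4716.lam (⟨v, (hH v).2 (Commute.refl v)⟩ : (Cen (Subgroup.zpowers v))) ξ) := by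
      have hzc : (⟨v, (hH v).2 (Commute.refl v)⟩ : (Cen (Subgroup.zpowers v))) ∈ Subgroup.center (Cen (Subgroup.zpowers v)) :=
        Subgroup.mem_center_iff.2 fun g => Subtype.ext ((hH g).1 g.2).eq.symm
      refine of_isIntegral hM (IsIntegral.of_pow
        (isOfFinOrder_of_finite (⟨v, (hH v).2 (Commute.refl v)⟩ : (Cen (Subgroup.zpowers v)))).orderOf_pos ?_)
      rw [← S4716.lam_pow hzc, pow_orderOf_eq_one, S4716.lam, div_self (irr_one_ne_zero ξ)]
      exact isIntegral_one
    rw [ClassAlgebraVal.apply_one_eq_charDegree,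
      show q * ((S4716.mult χ0 ξ : ℂ) * S4716.lam (⟨v, (hH v).2 (Commute.refl v)⟩ : (Cen (Subgroup.zpowers v))) ξ *
          (charDegree (ξ : (Cen (Subgroup.zpowers v)) → ℂ) : ℂ)) / (Nat.card (Cen (Subgroup.zpowers v)) : ℂ) =
        (S4716.mult χ0 ξ : ℂ) * S4716.lam (⟨v, (hH v).2 (Commute.refl v)⟩ : (Cen (Subgroup.zpowers v))) ξ *
          (((Nat.card P * charDegree (ξ : (Cen (Subgroup.zpowers v)) → ℂ) : ℕ) : ℂ) / (Nat.card (Cen (Subgroup.zpowers v)) : ℂ)) by
        push_cast; ring]
    refine R.mul_mem (R.mul_mem (natCast_mem R _) hlam)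
      (BlockMajor81.natCast_div_mem hM Nat.card_pos.ne' fun _ => ?_)
    rw [Nat.factorization_mul Nat.card_pos.ne' (ClassAlgebraVal.charDegree_pos ξ).ne',
      Finsupp.add_apply]
    exact hd.trans (Nat.add_le_add_left (BlockContrib.minExp_le (mem_members.1 hξ)) _)
  -- a coefficient of the idempotent that is a unit
  obtain ⟨E, hE⟩ := exists_defectGroup hM hind.1
  obtain ⟨g, hg, -, -⟩ := isDefectGroup_iff.1 hE
  have hgr : ¬ p ∣ orderOf g := fun h => hg.2.1 <| by
    rw [blockCoeff_eq_zero_of_dvd hM hind.1 h]; exact ideal_zero hM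
  have h1r : ¬ p ∣ orderOf (1 : (Cen (Subgroup.zpowers v))) := by simpa using hM.1.ne_one
  have hcoef : blockCoeff b g = (q * π 1 / (Nat.card (Cen (Subgroup.zpowers v)) : ℂ)) * conj (π g) := by
    rw [blockCoeff_eq_sum, show (q * π 1 / (Nat.card (Cen (Subgroup.zpowers v)) : ℂ)) * conj (π g) =
      (Nat.card (Cen (Subgroup.zpowers v)) : ℂ)⁻¹ * kern b 1 g by rw [hkern 1 g h1r hgr]; ring]
    simp only [kern]
  have hunit : ¬ MemLocalIdeal M (conj (π g)) := fun h =>
    hg.2.1 (hcoef ▸ ideal_mul_left hM hone h)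
  have hne : conj (π g) ≠ 0 := fun h => hunit (h ▸ ideal_zero hM)
  -- the divisibility
  have hk : MemLocalRing M (kern b s g /
      (Nat.card (Subgroup.centralizer ({s} : Set (Cen (Subgroup.zpowers v)))) : ℂ)) := by
    have h := CyclicKappa42.kern_div_mem hM hind.1 s g⁻¹
    convert h using 2
    rw [kern, ← Finset.sum_filter, filter_eq_members]
    exact Finset.sum_congr rfl fun ξ _ => by rw [irr_inv]
  have := R.mul_mem hk (BlockTheoryLocalRing.inv_mem hM (hπc g) hunit)
  rw [hkern s g hs hgr] at this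
  have e1 : ∀ d : ℂ, q * π s * conj (π g) / d * (conj (π g))⁻¹ = q * π s / d := fun d => by
    field_simp
  rw [e1] at this
  exact this

end Parts

section Twist

variable {G : Type*} [Group G] [Fintype G] {B : Set (IrrCharacter G)}

theorem part_push (α : G ≃* G) {H H' : Subgroup G} [Fintype H] [Fintype H'] (α' : H ≃* H')
    (hα : ∀ c : H, ((α' c : H') : G) = α (c : G)) (a : G) (b : Set (IrrCharacter H))
    (χ : IrrCharacter G) (s : H) :
    part (α a) (pushSet α' b) (pushChar α χ : G → ℂ) (α' s) = part a b (χ : G → ℂ) s := by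
  have hk : ∀ s c : H, kern (pushSet α' b) (α' s) (α' c) = kern b s c := by
    intro s c
    simp only [kern]
    refine (Fintype.sum_equiv (pushChar α') _ _ fun ψ => ?_).symm
    rw [pushChar_apply, pushChar_apply, pushSet, (pushChar α').injective.mem_set_image]
  simp only [part]
  rw [show (Nat.card H' : ℂ) = Nat.card H by rw [Nat.card_congr α'.toEquiv]]
  congr 1
  refine (Fintype.sum_equiv α'.toEquiv _ _ fun c => ?_).symm
  show (χ : G → ℂ) (a * c) * kern b s c =
    (pushChar α χ : G → ℂ) (α a * (α' c : G)) * kern (pushSet α' b) (α' s) (α' c)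
  rw [hk, hα, ← map_mul, pushChar_apply]

set_option maxHeartbeats 400000 in
/-- An automorphism fixing the block and a height zero character acts on the characters of the
block through a power map of the cyclic defect group. -/
theorem exists_power (hM : IsPModular p M) {u : G}
    {c₀ : Set (IrrCharacter (Cen (Subgroup.zpowers u)))}
    (hmax : IsMaximalBrauerPair p M B (Subgroup.zpowers u) c₀) (hnil : IsNilpotentBlock p M B)
    {χ0 : IrrCharacter G} (hχ0 : χ0 ∈ B) (h0 : blockHeight p B (χ0 : G → ℂ) = 0) (α : G ≃* G)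
    (hfix : pushChar α χ0 = χ0) :
    ∃ i : ℕ, ∀ ψ φ : IrrCharacter (Subgroup.zpowers u), ∀ χ : IrrCharacter G,
      (χ : G → ℂ) = starP p M B c₀ χ0 (ψ : Subgroup.zpowers u → ℂ) →
      (pushChar α χ : G → ℂ) = starP p M B c₀ χ0 (φ : Subgroup.zpowers u → ℂ) →
      (φ : Subgroup.zpowers u → ℂ) ⟨u, Subgroup.mem_zpowers u⟩ ^ i =
        (ψ : Subgroup.zpowers u → ℂ) ⟨u, Subgroup.mem_zpowers u⟩ := by
  have hu : ∃ k, orderOf u = p ^ k :=
    Star80Claim.exists_pow_of_mem hmax.1.1.1 (Subgroup.mem_zpowers u)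
  have hu' : ∃ k, orderOf (α u) = p ^ k := by simpa using hu
  have hC : ∀ g, g ∈ Cen (Subgroup.zpowers (α u)) ↔ α.symm g ∈ (Cen (Subgroup.zpowers u)) := fun g => by
    rw [mem_cen_zp, mem_cen_zp]
    refine ⟨fun h => by simpa using h.map α.symm, fun h => by simpa using h.map α⟩
  let α' : (Cen (Subgroup.zpowers u)) ≃* Cen (Subgroup.zpowers (α u)) :=
    { toFun := fun c => ⟨α c, (hC _).2 (by simp)⟩
      invFun := fun d => ⟨α.symm d, (hC _).1 d.2⟩
      left_inv := fun c => Subtype.ext (α.symm_apply_apply _)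
      right_inv := fun d => Subtype.ext (α.apply_symm_apply _)
      map_mul' := fun a b => Subtype.ext (map_mul α _ _) }
  have hα : ∀ c : (Cen (Subgroup.zpowers u)), ((α' c : Cen (Subgroup.zpowers (α u))) : G) = α (c : G) := fun _ => rfl
  let b' := pushSet α' c₀
  obtain ⟨s, hs, hne⟩ := exists_part_of_height_zero hM hχ0 h0 hu hmax.1
  have hs' : ¬ p ∣ orderOf (α' s) := by rwa [MulEquiv.orderOf_eq]
  have h0' : part (α u) b' (χ0 : G → ℂ) (α' s) = part u c₀ (χ0 : G → ℂ) s := by
    conv_lhs => rw [← hfix]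
    exact part_push α α' hα u c₀ χ0 s
  have hb' : IsBrauerPairOf p M B (Subgroup.zpowers (α u)) b' := by
    have hH : ∀ g, g ∈ Cen (Subgroup.zpowers (α u)) ↔ Commute (α u) g := fun g => mem_cen_zp
    obtain ⟨B', hB'⟩ := BlockContribSection.exists_induced hH hM hu'
      (isPBlock_push α' hmax.1.1.2)
    by_cases hmem : χ0 ∈ B'
    · obtain rfl := block_eq_of_mem hM hB'.2.1 hmax.1.2.1 hmem hχ0
      exact BrauerPairs81Induced.isBrauerPairOf_of_induced hM (isPGroup_zp hu') hB'
    · exact absurd (h0'.symm.trans (part_eq_zero hH hM hu' hB' hmem hs')) hne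
  obtain ⟨g, hg⟩ := exists_conj_subpairLE hM hmax hb'
  have hgR : g * α u * g⁻¹ ∈ (Subgroup.zpowers u) :=
    subgroup_le_of_subpairLE hg ⟨α u, Subgroup.mem_zpowers _, rfl⟩
  obtain ⟨i, hi⟩ := mem_powers_iff_mem_zpowers.2 hgR
  refine ⟨i, fun ψ φ χ hχ hαχ => mul_right_cancel₀ hne ?_⟩
  have h1 : part (α u) b' (pushChar α χ : G → ℂ) (α' s) = part u c₀ (χ : G → ℂ) s :=
    part_push α α' hα u c₀ χ s
  rw [hαχ, hχ, starP, starP, part_star hM χ0 hu' hb' hs', part_star hM χ0 hu hmax.1 hs, h0',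
    zvp_below (stable_cl0 hM hmax hnil (irr_classFun ψ)) Relation.ReflTransGen.refl,
    zvp_eq (stable_cl0 hM hmax hnil (irr_classFun φ)) (a := ⟨_, b'⟩) rfl hg,
    cl0_of_mem _ (Subgroup.mem_zpowers u), cl0_of_mem _ hgR] at h1
  rw [← h1]
  congr 1
  obtain ⟨lam, hlam⟩ := CharBasicLinear.exists_hom_of_comm
    (fun a b : (Subgroup.zpowers u) => Subtype.ext (CyclicSetup42.comm_of_cyclic (Subgroup.isCyclic_zpowers u)
      _ a.2 _ b.2)) φ.2
  rw [hlam, show (⟨g * α u * g⁻¹, hgR⟩ : (Subgroup.zpowers u)) = ⟨u, Subgroup.mem_zpowers u⟩ ^ i from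
    Subtype.ext hi.symm]
  simp only [map_pow, Units.val_pow_eq_pow_val]

end Twist

end Cfsg.Agent.CyclicStar42
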