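import Cfsg.Agent.Lib.CyclicIsometry42
import Cfsg.Agent.Lib.CyclicStar42
import Cfsg.Agent.Lib.BlockPiKernel

/-!
# A block with cyclic defect group and the Frobenius group `P ⋊ E`
-/

set_option autoImplicit false
set_option linter.unusedSectionVars false

namespace Cfsg.Agent.CyclicFrobenius42

open Cfsg BlockTheoryLocalRing BlockTheoryCentre BlockTheoryIdem BlockContribBounds
  BrauerPairs81Base BrauerPairs81Pairs BrauerPairs81Conj BrauerPairs81Local BrauerPairs81Fusion
  CyclicSetup42 CyclicAction42 CyclicShape42 CyclicKappa42 CyclicIsometry42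
  Star80Nilpotent Star80Pairs Star80Char
open scoped ComplexConjugate

attribute [local instance] Classical.propDecidable

variable {p : ℕ} [Fact p.Prime] {M : Ideal AlgInt}

/-! ### Characters of cyclic groups -/

section Cyclic

variable {K : Type*} [Group K] [Fintype K] {g : K}

theorem comm_of_gen (hg : ∀ x, x ∈ Subgroup.zpowers g) (a b : K) : a * b = b * a := by
  obtain ⟨i, rfl⟩ := Subgroup.mem_zpowers_iff.1 (hg a)
  obtain ⟨j, rfl⟩ := Subgroup.mem_zpowers_iff.1 (hg b)
  exact (Commute.zpow_zpow (Commute.refl g) i j).eq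

theorem pow_gen (hg : ∀ x, x ∈ Subgroup.zpowers g) (ψ : IrrCharacter K) (n : ℕ) :
    (ψ : K → ℂ) (g ^ n) = (ψ : K → ℂ) g ^ n := by
  obtain ⟨lam, hlam⟩ := CharBasicLinear.exists_hom_of_comm (comm_of_gen hg) ψ.2
  simp [hlam, map_pow]

theorem apply_mul_of_comm (hg : ∀ x, x ∈ Subgroup.zpowers g) (ψ : IrrCharacter K) (a b : K) :
    (ψ : K → ℂ) (a * b) = (ψ : K → ℂ) a * (ψ : K → ℂ) b := by
  obtain ⟨lam, hlam⟩ := CharBasicLinear.exists_hom_of_comm (comm_of_gen hg) ψ.2
  simp [hlam, map_mul]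

theorem root_gen (hg : ∀ x, x ∈ Subgroup.zpowers g) (ψ : IrrCharacter K) :
    (ψ : K → ℂ) g ^ Nat.card K = 1 := by
  rw [← pow_gen hg, pow_card_eq_one', CharBasicLinear.apply_one_eq_one_of_comm (comm_of_gen hg) ψ.2]

theorem eq_of_gen (hg : ∀ x, x ∈ Subgroup.zpowers g) {ψ φ : IrrCharacter K}
    (h : (ψ : K → ℂ) g = (φ : K → ℂ) g) : ψ = φ := by
  refine Subtype.ext (funext fun x => ?_)
  obtain ⟨n, rfl⟩ := mem_powers_iff_mem_zpowers.2 (hg x)
  rw [pow_gen hg, pow_gen hg, h]

theorem exists_gen_val (hg : ∀ x, x ∈ Subgroup.zpowers g) {w : ℂ} (hw : w ^ Nat.card K = 1) :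
    ∃ ψ : IrrCharacter K, (ψ : K → ℂ) g = w := by
  have hg' : orderOf g = Nat.card K := orderOf_eq_card_of_forall_mem_zpowers hg
  set W : ℂˣ := Units.ofPowEqOne w _ hw Nat.card_pos.ne'
  have hW : orderOf W ∣ orderOf g :=
    orderOf_dvd_of_pow_eq_one (hg' ▸ Units.ext (by simpa [W] using hw))
  refine ⟨⟨_, CharBasicDecomp.isIrrCharacter_linear (monoidHomOfForallMemZpowers hg hW)⟩, ?_⟩
  show ((monoidHomOfForallMemZpowers hg hW g : ℂˣ) : ℂ) = w
  rw [monoidHomOfForallMemZpowers_apply_gen]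
  rfl

theorem card_irr (hg : ∀ x, x ∈ Subgroup.zpowers g) :
    Nat.card (IrrCharacter K) = Nat.card K := by
  rw [CharBasicOrth.card_irrCharacter]
  refine (Nat.card_congr (Equiv.ofBijective (ConjClasses.mk (α := K))
    ⟨fun a b h => ?_, ConjClasses.mk_surjective⟩)).symm
  obtain ⟨c, hc⟩ := isConj_iff.1 (ConjClasses.mk_eq_mk_iff_isConj.1 h)
  rw [← hc, comm_of_gen hg c a, mul_inv_cancel_right]

theorem sum_irr_apply (hg : ∀ x, x ∈ Subgroup.zpowers g) (a : K) :
    ∑ ψ : IrrCharacter K, (ψ : K → ℂ) a = if a = 1 then (Nat.card K : ℂ) else 0 := by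
  have h := CharBasicOrth.sum_irr_mul_conj a (1 : K)
  simp only [CharBasicLinear.apply_one_eq_one_of_comm (comm_of_gen hg) (Subtype.prop _), map_one,
    mul_one, isConj_one_left] at h
  rw [h]
  split_ifs with ha
  · subst ha
    rw [Subgroup.centralizer_eq_top_iff_subset.2 (by simp), Subgroup.card_top]
  · rfl

end Cyclic

/-! ### Powers of exponent `e` -/

/-- The exponents `i < q` with `i ^ e ≡ 1` are at most `e`. -/
theorem card_powRoots {p a q e : ℕ} (hp : p.Prime) (hq : q = p ^ a) (hq1 : 1 < q) (he : e ∣ p - 1)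
    (he0 : 0 < e) :
    ((Finset.range q).filter fun i => i ^ e ≡ 1 [MOD q]).card ≤ e := by
  rcases eq_or_ne e 1 with rfl | he1
  · refine Finset.card_le_one.2 fun i hi j hj => ?_
    simp only [Finset.mem_filter, Finset.mem_range, pow_one, Nat.ModEq] at hi hj
    rw [Nat.mod_eq_of_lt hi.1, Nat.mod_eq_of_lt hq1] at hi
    rw [Nat.mod_eq_of_lt hj.1, Nat.mod_eq_of_lt hq1] at hj
    rw [hi.2, hj.2]
  have hp2 : p ≠ 2 := fun h => he1 (Nat.dvd_one.1 (by rwa [h] at he))
  haveI : NeZero q := ⟨by omega⟩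
  haveI : IsCyclic (ZMod q)ˣ := hq ▸ ZMod.isCyclic_units_of_prime_pow p hp hp2 a
  refine le_trans ?_ (IsCyclic.card_pow_eq_one_le (α := (ZMod q)ˣ) he0)
  let f : ℕ → (ZMod q)ˣ := fun i =>
    if h : (i : ZMod q) ^ e = 1 then Units.ofPowEqOne _ e h he0.ne' else 1
  have hf : ∀ i ∈ (Finset.range q).filter (fun i => i ^ e ≡ 1 [MOD q]),
      (i : ZMod q) ^ e = 1 := fun i hi => by
    rw [← Nat.cast_pow, ← Nat.cast_one]
    exact (ZMod.natCast_eq_natCast_iff _ _ _).2 (Finset.mem_filter.1 hi).2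
  refine Finset.card_le_card_of_injOn f (fun i hi => ?_) fun i hi j hj h => ?_
  · refine Finset.mem_filter.2 ⟨Finset.mem_univ _, Units.ext ?_⟩
    simp only [f, dif_pos (hf i hi), Units.val_pow_eq_pow_val, Units.val_ofPowEqOne, Units.val_one]
    exact hf i hi
  · have h1 := congrArg Units.val h
    simp only [f, dif_pos (hf i hi), dif_pos (hf j hj), Units.val_ofPowEqOne] at h1
    have h2 := (ZMod.natCast_eq_natCast_iff _ _ _).1 h1
    rwa [Nat.ModEq, Nat.mod_eq_of_lt (Finset.mem_range.1 (Finset.mem_filter.1 hi).1),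
      Nat.mod_eq_of_lt (Finset.mem_range.1 (Finset.mem_filter.1 hj).1)] at h2

/-- Iterating a map of exponent `e` that acts as an `i`-th power on roots of unity. -/
theorem modEq_of_iterate {α : Type*} {q i n : ℕ} (hq : 0 < q) (T : α → α) (val : α → ℂ)
    (hT : ∀ a, val a = val (T a) ^ i) (hn : ∀ a, T^[n] a = a) {a : α}
    (ha : IsPrimitiveRoot (val a) q) : i ^ n ≡ 1 [MOD q] := by
  have key : ∀ k b, val b = val (T^[k] b) ^ (i ^ k) := by
    intro k
    induction k with
    | zero => intro b; simp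
    | succ k ih =>
      intro b
      rw [Function.iterate_succ_apply, pow_succ, pow_mul, ← ih (T b)]
      exact hT b
  have h := key n a
  rw [hn] at h
  rw [ha.eq_orderOf, ← (isOfFinOrder_iff_pow_eq_one.2 ⟨q, hq, ha.pow_eq_one⟩).pow_eq_pow_iff_modEq,
    pow_one]
  exact h.symm

/-! ### The Frobenius group -/

section Frobenius

variable {F : Type*} [Group F] [Fintype F] {Q : Subgroup F} {q e : ℕ}

theorem normal_of_card (hQ : IsPGroup p Q) (hF : Nat.card F = Nat.card Q * e) (he : e < p) :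
    Q.Normal := by
  have hind : Q.index = e := Nat.eq_of_mul_eq_mul_left Nat.card_pos (Q.card_mul_index.trans hF)
  refine ⟨fun x hx f => ?_⟩
  set Q' := Q.map (MulAut.conj f).toMonoidHom with hQ'
  obtain ⟨a, ha⟩ := IsPGroup.iff_card.1 hQ
  have hcard : Nat.card Q' = p ^ a := by
    rw [← ha]; exact (Nat.card_congr (Q.equivMapOfInjective _ (MulAut.conj f).injective).toEquiv).symm
  obtain ⟨k, -, hk⟩ := (Nat.dvd_prime_pow (Fact.out : p.Prime)).1
    (hcard ▸ Subgroup.relIndex_dvd_card (H := Q) (K := Q'))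
  have hle : Q.relIndex Q' ≤ e := by
    rw [← hind, ← Subgroup.relIndex_top_right]
    refine Subgroup.relIndex_le_of_le_right le_top ?_
    rw [Subgroup.relIndex_top_right]
    exact Subgroup.index_ne_zero_of_finite
  have h1 : Q.relIndex Q' = 1 := by
    rcases Nat.eq_zero_or_pos k with rfl | hk0
    · simpa using hk
    · have := Nat.le_of_dvd (pow_pos (Fact.out : p.Prime).pos k) (dvd_pow_self p hk0.ne')
      omega
  exact Subgroup.relIndex_eq_one.1 h1 ⟨x, hx, rfl⟩

/-- The centraliser of a nontrivial element of the kernel. -/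
theorem cen_eq (hQ : IsPGroup p Q) (hcyc : IsCyclic Q) (hC : Cen Q = Q) [Q.Normal]
    (hind : ¬ p ∣ Q.index) {x : F} (hx : x ∈ Q) (hx1 : x ≠ 1) :
    Cen (Subgroup.zpowers x) = Q := by
  refine le_antisymm (fun f hf => ?_) fun v hv =>
    mem_cen_zp.2 (comm_of_cyclic hcyc x hx v hv)
  obtain ⟨v, y, hvy, hc, ⟨k, hk⟩, hy⟩ :=
    BrauerBlocksPPart.exists_isPPart (Fact.out : p.Prime) f
  have hvQ : v ∈ Q := by
    rw [← QuotientGroup.eq_one_iff, ← orderOf_eq_one_iff]
    have h1 : orderOf ((v : F ⧸ Q)) ∣ p ^ k := hk ▸ orderOf_map_dvd (QuotientGroup.mk' Q) v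
    obtain ⟨j, -, hj⟩ := (Nat.dvd_prime_pow (Fact.out : p.Prime)).1 h1
    rcases Nat.eq_zero_or_pos j with rfl | hj0
    · simpa using hj
    · refine absurd ?_ hind
      have h2 : orderOf ((v : F ⧸ Q)) ∣ Q.index := orderOf_dvd_natCard _
      exact ((dvd_pow_self p hj0.ne').trans hj.symm.dvd).trans h2
  have hxv : Commute x v := comm_of_cyclic hcyc x hx v hvQ
  have hxf : Commute x f := mem_cen_zp.1 hf
  have hxy : Commute x y := by
    have := hxv.inv_right.mul_right hxf
    rwa [← hvy, inv_mul_cancel_left] at this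
  have hyQ : y ∈ Q := hC ▸ BrauerPairs81Cyclic.mem_cen_of_fix hQ hcyc
    (by rw [Subgroup.normalizer_eq_top]; trivial) hy hx hx1
    (by rw [← hxy.eq, mul_inv_cancel_right])
  exact hvy ▸ Q.mul_mem hvQ hyQ

/-- A `p`-group has one block. -/
theorem block_univ {K : Type*} [Group K] [Fintype K] (hM : IsPModular p M) (hK : IsPGroup p K)
    {b : Set (IrrCharacter K)} (hb : IsPBlock M b) : b = Set.univ := by
  have hz : ∀ g : K, g ≠ 1 → blockCoeff b g = 0 := fun g hg => by
    obtain ⟨k, hk⟩ := IsPGroup.iff_orderOf.1 hK g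
    refine blockCoeff_eq_zero_of_dvd hM hb (hk ▸ dvd_pow_self p fun h => hg ?_)
    rw [h, pow_zero] at hk
    exact orderOf_eq_one_iff.1 hk
  obtain ⟨χ, hχ⟩ := block_nonempty hM hb
  have h : ∀ φ : IrrCharacter K, omega (φ : K → ℂ) (idem b) = blockCoeff b 1 := fun φ => by
    rw [omega_apply, chiSum_apply, Finset.sum_eq_single 1 (fun g _ hg => by
      rw [coeff_idem, hz g hg]; simp) (fun h => absurd (Finset.mem_univ _) h), coeff_idem]
    field_simp [irr_one_ne_zero φ]
  refine Set.eq_univ_of_forall fun φ => ?_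
  by_contra hφ
  have h1 := h χ
  have h2 := h φ
  rw [omega_idem, if_pos hχ] at h1
  rw [omega_idem, if_neg hφ] at h2
  exact one_ne_zero (h1.trans h2.symm)

theorem pairs_univ (hM : IsPModular p M) (hQ : IsPGroup p Q) (hC : Cen Q = Q) [Q.Normal]
    (hind : ¬ p ∣ Q.index) {B : Set (IrrCharacter F)} (hB : IsPBlock M B) :
    IsDefectGroup p M B Q ∧ IsBrauerPairOf p M B Q Set.univ := by
  obtain ⟨D, hD⟩ := BlockTheoryDefect.exists_defectGroup hM hB
  have hle := BlockTheoryDefect.normal_le_defectGroup hM hB hD Q hQ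
  have hDp := BlockTheoryDefect.isPGroup_of_isDefectGroup hD
  have hDQ : D = Q := by
    refine le_antisymm (Subgroup.relIndex_eq_one.1 ?_) hle
    obtain ⟨a, ha⟩ := IsPGroup.iff_card.1 hDp
    obtain ⟨k, -, hk⟩ := (Nat.dvd_prime_pow (Fact.out : p.Prime)).1
      (ha ▸ Subgroup.relIndex_dvd_card (H := Q) (K := D))
    rcases Nat.eq_zero_or_pos k with rfl | hk0
    · simpa using hk
    · refine absurd ?_ hind
      have h2 : Q.relIndex D ∣ Q.index := Subgroup.relIndex_dvd_index_of_normal Q D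
      exact ((dvd_pow_self p hk0.ne').trans hk.symm.dvd).trans h2
  subst hDQ
  obtain ⟨g, hg⟩ := exists_pairOf_of_not_small hM hB hQ
    (BlockTheoryDefect.not_small_cut_defect hM hB hD)
  have hgu : g = Set.univ := block_univ hM (hQ.to_le hC.le) hg.1.2
  exact ⟨hD, hgu ▸ hg⟩

theorem univ_block (hM : IsPModular p M) (hQ : IsPGroup p Q) (hC : Cen Q = Q) [Q.Normal]
    (hind : ¬ p ∣ Q.index) : IsPBlock M (Set.univ : Set (IrrCharacter F)) := by
  obtain ⟨χ⟩ : Nonempty (IrrCharacter F) := by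
    by_contra h
    rw [not_nonempty_iff] at h
    have := CharBasicOrth.sum_sq_apply_one (G := F)
    rw [Finset.univ_eq_empty, Finset.sum_empty] at this
    exact Nat.card_pos.ne' (Nat.cast_eq_zero.1 this.symm)
  have hB : IsPBlock M (blockOf M (χ : F → ℂ)) := isPBlock_blockOf χ
  suffices blockOf M (χ : F → ℂ) = Set.univ from this ▸ hB
  refine Set.eq_univ_of_forall fun φ => ?_
  have h1 := (pairs_univ hM hQ hC hind hB).2
  have h2 := (pairs_univ hM hQ hC hind (isPBlock_blockOf φ : IsPBlock M (blockOf M (φ : F → ℂ)))).2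
  rw [(existsUnique_block hM h1.1).unique h1 h2]
  exact self_mem_blockOf hM φ

end Frobenius

/-! ### Signs -/

theorem sign_aux {q d t : ℕ} (h : d + 1 = q * t) (hd : 1 ≤ d) :
    q - 1 ≤ d := by
  rcases Nat.eq_zero_or_pos t with rfl | ht
  · omega
  · have := Nat.le_mul_of_pos_right q ht
    omega

end Cfsg.Agent.CyclicFrobenius42
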