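import Cfsg.Agent.Lib.CyclicFrobenius42

/-!
# The perfect isometry between a cyclic block and a Frobenius group
-/

set_option autoImplicit false
set_option linter.unusedSectionVars false

namespace Cfsg.Agent.CyclicFrobenius42

open Cfsg BlockTheoryLocalRing BlockTheoryCentre BlockTheoryIdem BlockContribBounds
  BrauerPairs81Base BrauerPairs81Pairs BrauerPairs81Conj BrauerPairs81Local BrauerPairs81Fusion
  CyclicSetup42 CyclicAction42 CyclicShape42 CyclicKappa42 CyclicIsometry42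
  Star80Nilpotent Star80Pairs Star80Char
open scoped ComplexConjugate

attribute [local instance] Classical.propDecidable

universe u v

variable {p : ℕ} [Fact p.Prime] {M : Ideal AlgInt} {G : Type u} [Group G] [Fintype G]
  {B : Set (IrrCharacter G)} {P : Subgroup G} {e : ℕ}

/-- The exponents as images. -/
noncomputable def powSet (q e : ℕ) (w : ℂ) : Finset ℂ :=
  ((Finset.range q).filter fun i => i ^ e ≡ 1 [MOD q]).image fun i => w ^ i

theorem mem_powSet {q e i : ℕ} {w : ℂ} (hq : 0 < q) (hw : w ^ q = 1) (hi : i ^ e ≡ 1 [MOD q]) :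
    w ^ i ∈ powSet q e w :=
  Finset.mem_image.2 ⟨i % q, Finset.mem_filter.2 ⟨Finset.mem_range.2 (Nat.mod_lt _ hq),
    ((Nat.mod_modEq i q).pow e).trans hi⟩, (pow_eq_pow_mod i hw).symm⟩

/-- The values of the signed sum of the moved functions of the trivial character. -/
theorem kapZ_one {F : Type v} [Group F] [Fintype F] {B' : Set (IrrCharacter F)} {Q : Subgroup F}
    (L' : Loc p M B' Q e) [Q.Normal] (hN : Nat.card L'.N = Nat.card F) {one : IrrCharacter L'.H}
    (hone : ∀ h, (one : L'.H → ℂ) h = 1) {k : F} (hk : k ∈ Q) (hk1 : k ≠ 1) :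
    kapZ L' k one = 1 := by
  rw [kapZ, Finset.sum_congr rfl (g := fun _ => (1 : ℂ)) fun g _ => ?_, Finset.sum_const, hN,
    Finset.card_univ, ← Nat.card_eq_fintype_card, nsmul_eq_mul, mul_one,
    inv_mul_cancel₀ (Nat.cast_ne_zero.2 Nat.card_pos.ne')]
  have hz : L'.z ∈ Subgroup.zpowers (g * k * g⁻¹) :=
    L'.Z_le_zpowers (Subgroup.Normal.conj_mem inferInstance k hk g)
      (fun h => hk1 (conj_eq_one_iff.1 h)) (Subgroup.mem_zpowers _)
  rw [if_pos hz, extH, dif_pos (mem_H_of_commute L' hz (Commute.refl _)), hone]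

/-- Characters of the Frobenius group that are not trivial on the kernel share their sign. -/
theorem sign_agree (hM : IsPModular p M) {F : Type v} [Group F] [Fintype F] {Q : Subgroup F}
    [Q.Normal] {L' : Loc p M (Set.univ : Set (IrrCharacter F)) Q e} (S' : Shape L')
    (hF : Nat.card F = Nat.card Q * e) (hep : e < p) (hN : Nat.card L'.N = Nat.card F)
    (hone : ∀ h, (S'.ψ₀ : L'.H → ℂ) h = 1) (ε : IrrCharacter F → ℤ)
    (hε : ∀ η ∈ S'.Y, ∀ η' ∈ S'.Y, ε η = ε η') (η η' : IrrCharacter F)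
    (hη : ∃ x ∈ Q, (η : F → ℂ) x ≠ (η : F → ℂ) 1) (hη' : ∃ x ∈ Q, (η' : F → ℂ) x ≠ (η' : F → ℂ) 1) :
    ε η = ε η' := by
  set q := Nat.card Q
  have hpr : p.Prime := Fact.out
  have hq : p ≤ q := by
    have := Subgroup.card_le_of_le L'.hZP
    rwa [L'.cardZ] at this
  have he0 := L'.e_pos hM
  have hsum : ∀ {k : F}, p ∣ orderOf k → k ∈ Q → k ≠ 1 →
      ∑ ψ ∈ moved L' S'.ψ₀, kapZ L' k ψ = -1 := fun {k} hs hk hk1 => by
    rw [moved, Finset.sum_erase_eq_sub (mem_members.2 S'.base.mem), sum_kappa_eq_zero L' hM hs,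
      kapZ_one L' hN hone hk hk1, zero_sub]
  have hsing : ∀ {k : F}, k ∈ Q → k ≠ 1 → p ∣ orderOf k := fun {k} hk hk1 => by
    obtain ⟨n, hn⟩ := Star80Claim.exists_pow_of_mem L'.isPGroup hk
    refine hn ▸ dvd_pow_self p fun h => hk1 (orderOf_eq_one_iff.1 ?_)
    rw [hn, h, pow_zero]
  -- a character with a constant sign on the kernel has large degree
  have key : ∀ (χ : IrrCharacter F) (c : ℤ), (c = 1 ∨ c = -1) →
      (∀ k ∈ Q, k ≠ 1 → (χ : F → ℂ) k = c) → (∃ x ∈ Q, (χ : F → ℂ) x ≠ (χ : F → ℂ) 1) →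
      q - 1 ≤ charDegree (χ : F → ℂ) := by
    intro χ c hc hval hnt
    obtain ⟨m, hm⟩ := CharBasicOrth.classInner_isCharacter
      (CharBasic.isCharacter_comap Q.subtype (ClassAlgebraVal.irr_isCharacter χ))
      CharBasicDecomp.isCharacter_one
    have h1 : (charDegree (χ : F → ℂ) : ℂ) + ((q : ℂ) - 1) * c = (q : ℂ) * m := by
      rw [← hm, classInner, ← mul_assoc, mul_inv_cancel₀ (Nat.cast_ne_zero.2 Nat.card_pos.ne'),
        one_mul, ← Finset.add_sum_erase _ _ (Finset.mem_univ (1 : Q)),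
        Finset.sum_congr rfl (g := fun _ => (c : ℂ)) fun x hx => ?_, Finset.sum_const,
        Finset.card_erase_of_mem (Finset.mem_univ _), Finset.card_univ, ← Nat.card_eq_fintype_card,
        nsmul_eq_mul, Nat.cast_sub Nat.card_pos, Nat.cast_one,
        ← CharAverage.irr_apply_one χ]
      · simp [q, Nat.card_eq_fintype_card]
      · simp only [Function.comp, Subgroup.coe_subtype, map_one, mul_one]
        exact hval x x.2 fun h => (Finset.mem_erase.1 hx).1 (Subtype.ext h)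
    have hd := ClassAlgebraVal.charDegree_pos χ
    have hq0 : 1 ≤ q := Nat.card_pos
    rcases hc with rfl | rfl
    · have h2 : charDegree (χ : F → ℂ) + (q - 1) = q * m := by
        have : ((charDegree (χ : F → ℂ) + (q - 1) : ℕ) : ℂ) = ((q * m : ℕ) : ℂ) := by
          push_cast [Nat.cast_sub hq0]; simpa using h1
        exact_mod_cast this
      by_contra hlt
      have hm1 : m = 1 := by
        have h4 : q * m < q * 2 := by omega
        have h5 := Nat.lt_of_mul_lt_mul_left h4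
        rcases m with _ | _ | _
        · omega
        · rfl
        · omega
      subst hm1
      obtain ⟨x, hx, hne⟩ := hnt
      refine hne ?_
      by_cases hx1 : x = 1
      · rw [hx1]
      · rw [hval x hx hx1, CharAverage.irr_apply_one χ,
          show charDegree (χ : F → ℂ) = 1 by omega]
        simp
    · have h2 : (charDegree (χ : F → ℂ) : ℤ) + 1 = (q : ℤ) * (m + 1) := by
        have : (((charDegree (χ : F → ℂ) : ℤ) + 1 : ℤ) : ℂ) = (((q : ℤ) * (m + 1) : ℤ) : ℂ) := by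
          push_cast at h1 ⊢; linear_combination h1
        exact_mod_cast this
      exact sign_aux (t := m + 1) (by exact_mod_cast h2) hd
  have hsq : ∀ s : Finset (IrrCharacter F),
      ∑ χ ∈ s, charDegree (χ : F → ℂ) ^ 2 ≤ q * e := by
    intro s
    refine (Finset.sum_le_sum_of_subset (Finset.subset_univ s)).trans (le_of_eq ?_)
    have h := CharBasicOrth.sum_sq_apply_one (G := F)
    simp only [CharAverage.irr_apply_one, hF] at h
    exact_mod_cast h
  have hmem : ∀ χ : IrrCharacter F, χ ∈ S'.X ∨ χ ∈ S'.Y := fun χ =>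
    Finset.mem_union.1 (S'.union.symm ▸ mem_members.2 (Set.mem_univ χ))
  have hX : ∀ χ ∈ S'.X, ∀ k ∈ Q, k ≠ 1 → (χ : F → ℂ) k = ((-S'.δ χ : ℤ) : ℂ) := by
    intro χ hχ k hk hk1
    rw [apply_X S' hM hχ (hsing hk hk1), hsum (hsing hk hk1) hk hk1]
    push_cast; ring
  by_cases hY : S'.Y.card = 1
  · -- one exceptional character
    obtain ⟨y, hy⟩ := Finset.card_eq_one.1 hY
    have hYv : ∀ χ ∈ S'.Y, ∀ k ∈ Q, k ≠ 1 → (χ : F → ℂ) k = ((-S'.δ₀ : ℤ) : ℂ) := by
      intro χ hχ k hk hk1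
      rw [apply_Y S' hM hχ (hsing hk hk1), Finset.filter_true_of_mem, hsum (hsing hk hk1) hk hk1]
      · push_cast; ring
      · intro ψ hψ
        have := S'.ζmem ψ hψ
        rw [hy, Finset.mem_singleton] at this hχ
        rw [this, hχ]
    have big : ∀ χ : IrrCharacter F, (∃ x ∈ Q, (χ : F → ℂ) x ≠ (χ : F → ℂ) 1) →
        q - 1 ≤ charDegree (χ : F → ℂ) := fun χ hnt => by
      rcases hmem χ with h | h
      · exact key χ _ (by rcases S'.sgn χ h with a | a <;> simp [a]) (hX χ h) hnt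
      · exact key χ _ (by rcases S'.sgn₀ with a | a <;> simp [a]) (hYv χ h) hnt
    have heq : q - 1 = e := by
      have := S'.cardY; rw [hY, one_mul] at this; exact this.symm
    by_contra hne
    have hne' : η ≠ η' := fun h => hne (by rw [h])
    obtain ⟨triv, htriv⟩ : ∃ t : IrrCharacter F, (t : F → ℂ) = fun _ => 1 :=
      ⟨⟨_, CharBasicDecomp.isIrrCharacter_linear (1 : F →* ℂˣ)⟩, by funext; simp⟩
    have ht : ∀ χ : IrrCharacter F, (∃ x ∈ Q, (χ : F → ℂ) x ≠ (χ : F → ℂ) 1) → χ ≠ triv := by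
      rintro χ ⟨x, -, hx⟩ rfl
      exact hx (by rw [htriv])
    have h3 := hsq {η, η', triv}
    rw [Finset.sum_insert (by simp [hne', ht η hη]), Finset.sum_insert (by simp [ht η' hη']),
      Finset.sum_singleton] at h3
    have hd1 : charDegree (triv : F → ℂ) = 1 := by
      have := congrFun htriv 1
      rw [CharAverage.irr_apply_one] at this
      exact_mod_cast this
    have b1 := Nat.pow_le_pow_left (big η hη) 2
    have b2 := Nat.pow_le_pow_left (big η' hη') 2
    rw [heq] at b1 b2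
    rw [hd1, show q = e + 1 by omega] at h3
    nlinarith
  · -- at least two exceptional characters
    have hin : ∀ χ : IrrCharacter F, (∃ x ∈ Q, (χ : F → ℂ) x ≠ (χ : F → ℂ) 1) → χ ∈ S'.Y := by
      intro χ hnt
      refine (hmem χ).resolve_left fun h => ?_
      have b := Nat.pow_le_pow_left
        (key χ _ (by rcases S'.sgn χ h with a | a <;> simp [a]) (hX χ h) hnt) 2
      have h3 := hsq {χ}
      rw [Finset.sum_singleton] at h3
      have h4 := S'.cardY
      change S'.Y.card * e = q - 1 at h4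
      have hm : S'.Y.card ≠ 0 := fun h0 => by
        rw [h0, Nat.zero_mul] at h4
        have := hpr.two_le
        omega
      have h5 : 2 * e ≤ q - 1 := h4 ▸ Nat.mul_le_mul_right e (by omega)
      obtain ⟨r, hr⟩ := Nat.exists_eq_add_of_le (show 1 ≤ q by omega)
      rw [hr, Nat.add_sub_cancel_left] at b h5
      rw [hr] at h3
      have hr2 : 2 ≤ r := by omega
      nlinarith
    exact hε η (hin η hη) η' (hin η' hη')

/-- The kernel between the stars and the characters of a cyclic group. -/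
theorem kernel_mem {K : Type*} [Group K] [Fintype K] {b : Set (IrrCharacter K)} {R : Subgroup K}
    {c₀ : Set (IrrCharacter (Cen R))} (hM : IsPModular p M)
    (hc₀ : IsMaximalBrauerPair p M b R c₀) (hnil : IsNilpotentBlock p M b)
    {χ0 : IrrCharacter K} (hχ0 : χ0 ∈ b) (hh0 : blockHeight p b (χ0 : K → ℂ) = 0)
    {gR : R} (hgR : ∀ x, x ∈ Subgroup.zpowers gR) {J : Type*} [Group J] [Fintype J] {gH : J}
    (hgH : ∀ x, x ∈ Subgroup.zpowers gH) (hcard : Nat.card J = Nat.card R)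
    (ρ : IrrCharacter J → IrrCharacter R) (hρ : ∀ ψ, (ρ ψ : R → ℂ) gR = (ψ : J → ℂ) gH)
    (σ : IrrCharacter J → IrrCharacter K)
    (hσ : ∀ ψ, (σ ψ : K → ℂ) = starP p M b c₀ χ0 (ρ ψ : R → ℂ)) (h : K) (k : J) :
    MemLocalRing M ((∑ ψ : IrrCharacter J, (σ ψ : K → ℂ) h * (ψ : J → ℂ) k) /
        (Nat.card (Subgroup.centralizer ({h} : Set K)) : ℂ)) ∧
      MemLocalRing M ((∑ ψ : IrrCharacter J, (σ ψ : K → ℂ) h * (ψ : J → ℂ) k) /
        (Nat.card (Subgroup.centralizer ({k} : Set J)) : ℂ)) := by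
  have hpr : p.Prime := Fact.out
  set f : R → ℂ := ∑ ψ : IrrCharacter J, (ψ : J → ℂ) k • (ρ ψ : R → ℂ) with hf
  have hsum : ∑ ψ : IrrCharacter J, (σ ψ : K → ℂ) h * (ψ : J → ℂ) k =
      starP p M b c₀ χ0 f h := by
    rw [hf, starP_sum, Finset.sum_apply]
    refine Finset.sum_congr rfl fun ψ _ => ?_
    rw [starP_smul, Pi.smul_apply, smul_eq_mul, mul_comm, hσ]
  have hfv : ∀ x : R, f x = 0 ∨ f x = Nat.card R := by
    intro x
    obtain ⟨n, rfl⟩ := mem_powers_iff_mem_zpowers.2 (hgR x)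
    have : f (gR ^ n) = ∑ ψ : IrrCharacter J, (ψ : J → ℂ) (k * gH ^ n) := by
      rw [hf, Finset.sum_apply]
      exact Finset.sum_congr rfl fun ψ _ => by
        rw [Pi.smul_apply, smul_eq_mul, pow_gen hgR, hρ, ← pow_gen hgH, apply_mul_of_comm hgH]
    show f (gR ^ n) = 0 ∨ f (gR ^ n) = _
    rw [this, sum_irr_apply hgH, hcard]
    split_ifs
    · exact Or.inr rfl
    · exact Or.inl rfl
  have hcen : Nat.card (Subgroup.centralizer ({k} : Set J)) = Nat.card R := by
    rw [show Subgroup.centralizer ({k} : Set J) = ⊤ from top_le_iff.1 fun x _ =>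
      Subgroup.mem_centralizer_singleton_iff.2 (comm_of_gen hgH x k), Subgroup.card_top, hcard]
  obtain ⟨v, s, hv, hs, rfl⟩ := exists_section (p := p) h
  have hcls : IsClassFunction R f := fun x y => congrArg f (by
    rw [comm_of_gen hgR y x, mul_inv_cancel_right])
  have hz := stable_cl0 hM hc₀ hnil hcls
  have hterm : ∀ b' ∈ pairs p M b (Subgroup.zpowers v), ∀ d : ℂ,
      MemLocalRing M ((Nat.card R : ℂ) * BlockContribSection.part v b' (χ0 : K → ℂ) s / d) →
      MemLocalRing M (zvp p M ⟨R, c₀⟩ (cl0 f) v ⟨_, b'⟩ *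
        BlockContribSection.part v b' (χ0 : K → ℂ) s / d) := by
    intro b' hb' d hd
    obtain ⟨g, hg⟩ := BrauerPairs81Max.exists_conj_subpairLE hM hc₀ (mem_pairs.mp hb')
    have hgR' : g * v * g⁻¹ ∈ R := subgroup_le_of_subpairLE hg ⟨v, Subgroup.mem_zpowers v, rfl⟩
    rw [zvp_eq hz (a := ⟨_, b'⟩) rfl hg, cl0_of_mem _ hgR']
    rcases hfv ⟨_, hgR'⟩ with h0 | h0
    · rw [h0, zero_mul, zero_div]; exact (localRing hM).zero_mem
    · rw [h0]; exact hd
  rw [hsum, hcen, BlockContribSection.card_centralizer_section (fun g => mem_cen_zp) hpr hv hs,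
    starP, star_apply χ0 hv s hs, Finset.sum_div, Finset.sum_div]
  refine ⟨(localRing hM).sum_mem fun b' hb' => hterm b' hb' _ ?_,
    (localRing hM).sum_mem fun b' hb' => hterm b' hb' _ ?_⟩
  · exact CyclicStar42.part_div_mem hM hc₀ hnil (comm_of_gen hgR) hχ0 hh0 hv (mem_pairs.mp hb') hs
  · rw [mul_div_cancel_left₀ _ (Nat.cast_ne_zero.2 Nat.card_pos.ne')]
    exact of_isIntegral hM (CyclicStar42.part_isIntegral (fun g => mem_cen_zp) b' χ0 s)

set_option maxHeartbeats 1000000 in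
/-- The comparison with the Frobenius group. -/
theorem main (hM : IsPModular p M) (hPD : IsDefectGroup p M B P) (hP1 : P ≠ ⊥) (hcyc : IsCyclic P)
    {c : Set (IrrCharacter (Cen P))} (hc : IsInducedBlock M (Cen P) c B)
    (he : (Cen P).relIndex (stab (⟨P, c⟩ : BrauerPairIdx G)) = e)
    {F : Type v} [Group F] [Fintype F] (hF : Nat.card F = Nat.card P * e) {Q : Subgroup F}
    (hQ : IsCyclic Q) (hQcard : Nat.card Q = Nat.card P) (hQC : Cen Q = Q) :
    ∃ (I : IrrCharacter F → IrrCharacter G) (ε : IrrCharacter F → ℤ),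
      IsPerfectIsometry p M (Set.univ : Set (IrrCharacter F)) B I ε ∧
      ∀ η η' : IrrCharacter F, (∃ x ∈ Q, (η : F → ℂ) x ≠ (η : F → ℂ) 1) →
        (∃ x ∈ Q, (η' : F → ℂ) x ≠ (η' : F → ℂ) 1) → ε η = ε η' := by
  have hpr : p.Prime := Fact.out
  obtain ⟨L, -⟩ := exists_loc hM hcyc hP1 hPD hc he
  set q := Nat.card P with hqdef
  obtain ⟨a, ha⟩ := IsPGroup.iff_card.1 L.isPGroup
  have hq1 : 1 < q := Finite.one_lt_card_iff_nontrivial.2
    ((Subgroup.nontrivial_iff_ne_bot P).2 hP1)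
  have hedvd := L.dvd_sub_one hM
  have he0 := L.e_pos hM
  have hep : e < p := by
    have := Nat.le_of_dvd (Nat.sub_pos_of_lt hpr.one_lt) hedvd
    have := hpr.two_le
    omega
  -- the Frobenius group
  have hQp : IsPGroup p Q := IsPGroup.of_card (n := a) (hQcard.trans ha)
  have hF' : Nat.card F = Nat.card Q * e := by rw [hQcard]; exact hF
  haveI := normal_of_card hQp hF' hep
  have hindex : Q.index = e :=
    Nat.eq_of_mul_eq_mul_left Nat.card_pos (Q.card_mul_index.trans hF')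
  have hQi : ¬ p ∣ Q.index := hindex ▸ L.e_not_dvd hM
  have hQ1 : Q ≠ ⊥ := fun h => by
    rw [h, Subgroup.card_bot] at hQcard; omega
  have hB' := univ_block hM hQp hQC hQi (F := F)
  obtain ⟨hD', hpair'⟩ := pairs_univ hM hQp hQC hQi hB'
  obtain ⟨L', -⟩ := exists_loc_of_max hM hQ hQ1 (BlockContribMajor.isMaximal_of_card hM hpair'
    (card_defectGroup hM hB' hD'))
  have hH : L'.H = Q := cen_eq hQp hQ hQC hQi L'.hz L'.hz1
  have hb' : L'.b = Set.univ := block_univ hM (hQp.to_le hH.le) (L'.hb hM)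
  have hnorm : ∀ f : F, f ∈ Subgroup.normalizer (L'.Z : Set F) := fun f => by
    have hcj : cjS f L'.Z = L'.Z := PGroupsCyclic.eq_of_card_eq_of_isCyclic hQ
      (fun x hx => by
        obtain ⟨y, hy, rfl⟩ := hx
        exact Subgroup.Normal.conj_mem inferInstance y (L'.hZP hy) f) L'.hZP (card_cjS f L'.Z)
    refine Subgroup.mem_normalizer_iff.mpr fun x => ?_
    conv_rhs => rw [← hcj, mem_cjS]
    simp [mul_assoc]
  have hNtop : ∀ f : F, f ∈ L'.N := fun f => by
    obtain ⟨ψ, hψ⟩ := block_nonempty hM (L'.hb hM)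
    exact mem_N_of_tw L' hM ⟨f, hnorm f⟩ hψ (hb' ▸ Set.mem_univ _)
  have hNcard : Nat.card L'.N = Nat.card F := by
    rw [show L'.N = ⊤ from top_le_iff.1 fun f _ => hNtop f, Subgroup.card_top]
  have hee : (Cen Q).relIndex (stab (⟨Q, Set.univ⟩ : BrauerPairIdx F)) = e := by
    rw [← L'.index_N hM, show L'.N = ⊤ from top_le_iff.1 fun f _ => hNtop f,
      Subgroup.relIndex_top_right, hH, hindex]
  generalize hgen : (Cen Q).relIndex (stab (⟨Q, Set.univ⟩ : BrauerPairIdx F)) = e' at L'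
  obtain rfl : e' = e := hgen ▸ hee
  -- generators and values
  have hloc := L.exists_local hM
  have hPcard : Nat.card (P.subgroupOf L.H) = q :=
    Nat.card_congr (Subgroup.subgroupOfEquivOfLe L.hPH).toEquiv
  have hPcyc : IsCyclic (P.subgroupOf L.H) :=
    haveI := hcyc
    isCyclic_of_injective (Subgroup.subgroupOfEquivOfLe L.hPH).toMonoidHom
      (Subgroup.subgroupOfEquivOfLe L.hPH).injective
  generalize hR : P.subgroupOf L.H = R at hloc hPcard hPcyc
  obtain ⟨c₀, hc₀, hst⟩ := hloc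
  obtain ⟨uR, rfl⟩ := (Subgroup.isCyclic_iff_exists_zpowers_eq_top R).1 hPcyc
  set R := Subgroup.zpowers uR
  set gR : R := ⟨uR, Subgroup.mem_zpowers uR⟩
  have hgR : ∀ x : R, x ∈ Subgroup.zpowers gR := fun x => by
    obtain ⟨i, hi⟩ := Subgroup.mem_zpowers_iff.1 x.2
    exact Subgroup.mem_zpowers_iff.2 ⟨i, Subtype.ext (by simpa [gR] using hi)⟩
  have hnil : IsNilpotentBlock p M L.b :=
    (BrauerPairs81Nilpotent.nilpotent_iff_of_abelian hM hc₀
      (comm_of_cyclic hPcyc)).2 hst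
  have hHcard : Nat.card L'.H = q := by rw [hH, hQcard]
  have hHcyc : IsCyclic L'.H := by rw [hH]; exact hQ
  obtain ⟨gH, hgH⟩ := hHcyc.exists_generator
  obtain ⟨χ0, hbase⟩ := exists_base L hM
  have hh0 : blockHeight p L.b (χ0 : L.H → ℂ) = 0 := by
    obtain ⟨φ, hφ, hφ0⟩ := BlockContrib.exists_height_zero hM (L.hb hM)
    have h1 : charDegree (χ0 : L.H → ℂ) = charDegree (φ : L.H → ℂ) := by
      have := regular_eq L hM hbase.mem hφ (h := 1) (by simpa using hM.1.ne_one)
      rw [CharAverage.irr_apply_one, CharAverage.irr_apply_one] at this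
      exact_mod_cast this
    rw [blockHeight] at hφ0 ⊢
    rwa [h1]
  obtain ⟨Φ, hΦ⟩ := exists_equiv hM hc₀ hnil hbase.mem hh0
  have hex : ∀ ψ : IrrCharacter L'.H, ∃ ψ' : IrrCharacter R,
      (ψ' : R → ℂ) gR = (ψ : L'.H → ℂ) gH := fun ψ =>
    exists_gen_val hgR (by rw [hPcard, ← hHcard]; exact root_gen hgH ψ)
  choose ρ hρ using hex
  have hρinj : Function.Injective ρ := fun ψ φ h => eq_of_gen hgH (by rw [← hρ, ← hρ, h])
  have hρsur : Function.Surjective ρ := by
    refine ((Nat.bijective_iff_injective_and_card ρ).2 ⟨hρinj, ?_⟩).2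
    rw [card_irr hgR, card_irr hgH, hPcard, hHcard]
  let σ : IrrCharacter L'.H → IrrCharacter L.H := fun ψ => (Φ (ρ ψ) : IrrCharacter L.H)
  have hσinj : Function.Injective σ := fun ψ φ h => hρinj (Φ.injective (Subtype.ext h))
  have hσbij : Set.BijOn σ L'.b L.b := ⟨fun ψ _ => (Φ (ρ ψ)).2, hσinj.injOn, fun χ hχ => by
    obtain ⟨ψ, hψ⟩ := hρsur (Φ.symm ⟨χ, hχ⟩)
    exact ⟨ψ, hb' ▸ Set.mem_univ ψ, by simp [σ, hψ]⟩⟩
  -- the trivial character
  obtain ⟨one, hone⟩ : ∃ t : IrrCharacter L'.H, ∀ h, (t : L'.H → ℂ) h = 1 :=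
    ⟨⟨_, CharBasicDecomp.isIrrCharacter_linear (1 : L'.H →* ℂˣ)⟩, fun h => by simp⟩
  have hbase' : Base L' one := base_of_fix hM (hb' ▸ Set.mem_univ _) fun g _ =>
    Subtype.ext (funext fun h => by rw [tw_apply, hone, hone])
  have hσone : σ one = χ0 := by
    refine Subtype.ext ?_
    rw [show ((σ one : IrrCharacter L.H) : L.H → ℂ) = _ from hΦ (ρ one),
      show ((ρ one : IrrCharacter R) : R → ℂ) = fun _ => 1 from funext fun x => ?_,
      starP_one hM hc₀ hbase.mem]
    obtain ⟨n, rfl⟩ := mem_powers_iff_mem_zpowers.2 (hgR x)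
    show (ρ one : R → ℂ) (gR ^ n) = 1
    rw [pow_gen hgR, hρ, hone, one_pow]
  -- a faithful value
  have hq0 : 0 < q := by omega
  obtain ⟨ψp, hψp⟩ := exists_gen_val hgH
    (w := Complex.exp (2 * Real.pi * Complex.I / (q : ℂ)))
    (by rw [hHcard]; exact (Complex.isPrimitiveRoot_exp q hq0.ne').pow_eq_one)
  have hprim : IsPrimitiveRoot ((ψp : L'.H → ℂ) gH) q :=
    hψp ▸ Complex.isPrimitiveRoot_exp q hq0.ne'
  have hw : ∀ ψ : IrrCharacter L'.H, (ψ : L'.H → ℂ) gH ^ q = 1 := fun ψ =>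
    hHcard ▸ root_gen hgH ψ
  -- the action of `N` on the values
  have hsideG : ∀ n : Subgroup.normalizer (L.Z : Set G), (n : G) ∈ L.N →
      ∃ i : ℕ, i ^ e' ≡ 1 [MOD q] ∧ ∀ ψ φ, tw L n (σ φ) = σ ψ →
        (ψ : L'.H → ℂ) gH ^ i = (φ : L'.H → ℂ) gH := by
    intro n hn
    obtain ⟨i, hi⟩ := CyclicStar42.exists_power hM hc₀ hnil hbase.mem hh0 (conjH L n).symm
      (hbase.fix n hn)
    have hrel : ∀ ψ φ, tw L n (σ φ) = σ ψ → (ψ : L'.H → ℂ) gH ^ i = (φ : L'.H → ℂ) gH := by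
      intro ψ φ h
      rw [← hρ ψ, ← hρ φ]
      refine hi (ρ φ) (ρ ψ) (σ φ) (hΦ (ρ φ)) ?_
      rw [show pushChar (conjH L n).symm (σ φ) = σ ψ from h]
      exact hΦ (ρ ψ)
    have hT : ∀ φ, ∃ ψ, σ ψ = tw L n (σ φ) := fun φ => by
      obtain ⟨ψ, -, hψ⟩ := hσbij.surjOn (tw_mem L n hn (Φ (ρ φ)).2)
      exact ⟨ψ, hψ⟩
    choose T hT using hT
    have hiter : ∀ k φ, tw L (n ^ k) (σ φ) = σ (T^[k] φ) := by
      intro k
      induction k with
      | zero => intro φ; rw [pow_zero]; exact tw_of_mem_H L 1 (one_mem _) _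
      | succ k ih =>
        intro φ
        rw [pow_succ', tw_mul, ← hT φ, ih, Function.iterate_succ_apply]
    have hne : (n : G) ^ e' ∈ L.H := by
      haveI := L.H_normal
      have := (L.H.subgroupOf L.N).pow_index_mem (⟨n, hn⟩ : L.N)
      rw [show (L.H.subgroupOf L.N).index = e' from L.index_N hM, Subgroup.mem_subgroupOf] at this
      exact this
    refine ⟨i, modEq_of_iterate hq0 T (fun φ : IrrCharacter L'.H => (φ : L'.H → ℂ) gH)
      (fun φ => (hrel _ _ (hT φ).symm).symm) (fun φ => hσinj ?_) hprim, hrel⟩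
    rw [← hiter, tw_of_mem_H L _ (by rw [Subgroup.coe_pow]; exact hne)]
  have hsideF : ∀ f : Subgroup.normalizer (L'.Z : Set F),
      ∃ i : ℕ, i ^ e' ≡ 1 [MOD q] ∧ ∀ ψ φ, tw L' f ψ = φ →
        (ψ : L'.H → ℂ) gH ^ i = (φ : L'.H → ℂ) gH := by
    intro f
    obtain ⟨i, hi⟩ := mem_powers_iff_mem_zpowers.2 (hgH (conjH L' f gH))
    have hrel : ∀ ψ φ, tw L' f ψ = φ → (ψ : L'.H → ℂ) gH ^ i = (φ : L'.H → ℂ) gH := by
      rintro ψ φ rfl
      rw [tw_apply, ← pow_gen hgH]
      exact congrArg (ψ : L'.H → ℂ) hi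
    have hiter : ∀ k φ, tw L' (f ^ k) φ = (tw L' f)^[k] φ := by
      intro k
      induction k with
      | zero => intro φ; rw [pow_zero]; exact tw_of_mem_H L' 1 (one_mem _) _
      | succ k ih => intro φ; rw [pow_succ', tw_mul, ih, Function.iterate_succ_apply]
    have hne : (f : F) ^ e' ∈ L'.H := by
      rw [hH]
      have := Q.pow_index_mem (f : F)
      rwa [hindex] at this
    refine ⟨i, modEq_of_iterate hq0 (tw L' f⁻¹) (fun φ : IrrCharacter L'.H => (φ : L'.H → ℂ) gH)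
      (fun φ => ?_) (fun φ => ?_) hprim, hrel⟩
    · rw [hrel (tw L' f⁻¹ φ) φ (by
        rw [← tw_mul, inv_mul_cancel, tw_of_mem_H L' 1 (one_mem _)])]
    · have hiter' : ∀ k φ, tw L' (f⁻¹ ^ k) φ = (tw L' f⁻¹)^[k] φ := by
        intro k
        induction k with
        | zero => intro φ; rw [pow_zero]; exact tw_of_mem_H L' 1 (one_mem _) _
        | succ k ih => intro φ; rw [pow_succ', tw_mul, ih, Function.iterate_succ_apply]
      rw [← hiter', tw_of_mem_H L' _ (by
        rw [Subgroup.coe_pow, Subgroup.coe_inv, inv_pow]; exact inv_mem hne)]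
  -- the orbits correspond
  have hσorb : ∀ ψ ∈ L'.b, ∀ φ ∈ L'.b, orb L (σ ψ) (σ φ) ↔ orb L' ψ φ := by
    intro ψ _ φ _
    by_cases h1 : ψ = one
    · subst h1
      rw [hσone]
      constructor
      · rintro ⟨g, hg, he⟩
        rw [hbase.fix g hg, ← hσone] at he
        rw [hσinj he]; exact orb_refl L' _
      · rintro ⟨g, hg, rfl⟩
        rw [hbase'.fix g hg, hσone]; exact orb_refl L _
    set T := powSet q e' ((ψ : L'.H → ℂ) gH)
    have hTc : T.card ≤ e' := Finset.card_image_le.trans (card_powRoots hpr ha hq1 hedvd he0)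
    have hA : ∀ χ, orb L (σ ψ) (σ χ) → (χ : L'.H → ℂ) gH ∈ T := fun χ hχ => by
      obtain ⟨g, hg, hgχ⟩ := orb_symm L hχ
      obtain ⟨i, hi, hrel⟩ := hsideG g hg
      exact hrel ψ χ hgχ ▸ mem_powSet hq0 (hw ψ) hi
    have hA' : ∀ χ, orb L' ψ χ → (χ : L'.H → ℂ) gH ∈ T := fun χ hχ => by
      obtain ⟨g, -, hgχ⟩ := hχ
      obtain ⟨i, hi, hrel⟩ := hsideF g
      exact hrel ψ χ hgχ ▸ mem_powSet hq0 (hw ψ) hi
    have hψm : ψ ∈ moved L' one := (mem_moved L').2 ⟨hb' ▸ Set.mem_univ _, h1⟩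
    have hinj : Function.Injective fun χ : IrrCharacter L'.H => (χ : L'.H → ℂ) gH :=
      fun a b h => eq_of_gen hgH h
    set A := Finset.univ.filter fun χ => orb L (σ ψ) (σ χ)
    set A' := Finset.univ.filter fun χ => orb L' ψ χ
    have hAcard : e' ≤ A.card := by
      refine (card_orb L hM hbase ((mem_moved L).2
        ⟨(Φ (ρ ψ)).2, fun h => h1 (hσinj (h.trans hσone.symm))⟩)).symm.le.trans ?_
      refine Finset.card_le_card_of_surjOn σ fun χ hχ => ?_
      obtain ⟨hm, ho⟩ := Finset.mem_filter.1 hχ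
      obtain ⟨χ', -, rfl⟩ := hσbij.surjOn ((mem_moved L).1 hm).1
      exact ⟨χ', Finset.mem_filter.2 ⟨Finset.mem_univ _, ho⟩, rfl⟩
    have hA'card : e' ≤ A'.card := by
      refine (card_orb L' hM hbase' hψm).symm.le.trans ?_
      exact Finset.card_le_card fun χ hχ =>
        Finset.mem_filter.2 ⟨Finset.mem_univ _, (Finset.mem_filter.1 hχ).2⟩
    have e1 : A.image (fun χ : IrrCharacter L'.H => (χ : L'.H → ℂ) gH) = T :=
      Finset.eq_of_subset_of_card_le
        (Finset.image_subset_iff.2 fun χ hχ => hA χ (Finset.mem_filter.1 hχ).2)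
        (by rw [Finset.card_image_of_injective _ hinj]; exact hTc.trans hAcard)
    have e2 : A'.image (fun χ : IrrCharacter L'.H => (χ : L'.H → ℂ) gH) = T :=
      Finset.eq_of_subset_of_card_le
        (Finset.image_subset_iff.2 fun χ hχ => hA' χ (Finset.mem_filter.1 hχ).2)
        (by rw [Finset.card_image_of_injective _ hinj]; exact hTc.trans hA'card)
    have hAA : A = A' := Finset.image_injective hinj (e1.trans e2.symm)
    exact ⟨fun h => (Finset.mem_filter.1 (hAA ▸ Finset.mem_filter.2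
        ⟨Finset.mem_univ φ, h⟩ : φ ∈ A')).2,
      fun h => (Finset.mem_filter.1 (hAA.symm ▸ Finset.mem_filter.2
        ⟨Finset.mem_univ φ, h⟩ : φ ∈ A)).2⟩
  -- the kernel
  have hker : ∀ h : L.H, ∀ k : L'.H,
      MemLocalRing M ((∑ ψ ∈ members L'.b, (σ ψ : L.H → ℂ) h * (ψ : L'.H → ℂ) k) /
        (Nat.card (Subgroup.centralizer ({h} : Set L.H)) : ℂ)) ∧
      MemLocalRing M ((∑ ψ ∈ members L'.b, (σ ψ : L.H → ℂ) h * (ψ : L'.H → ℂ) k) /
        (Nat.card (Subgroup.centralizer ({k} : Set L'.H)) : ℂ)) := by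
    intro h k
    rw [show members L'.b = Finset.univ from Finset.eq_univ_of_forall fun ψ =>
      mem_members.2 (hb' ▸ Set.mem_univ ψ)]
    exact kernel_mem hM hc₀ hnil hbase.mem hh0 hgR hgH (hHcard.trans hPcard.symm) ρ hρ σ
      (fun ψ => hΦ (ρ ψ)) h k
  obtain ⟨S, hS⟩ := shape_at L hM hbase
  obtain ⟨S', hS'⟩ := shape_at L' hM hbase'
  obtain ⟨I, ε, hI, hεY⟩ := exists_isometry hM S S' σ hσbij (by rw [hS', hS, hσone]) hσorb
    fun x hx y hy => hdiv_of_kernel hM σ (fun h _ _ k _ _ => hker h k) hx hy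
  exact ⟨I, ε, hI, sign_agree hM S' hF' hep hNcard (fun h => by rw [hS', hone]) ε hεY⟩

end Cfsg.Agent.CyclicFrobenius42
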