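import Mathlib
import Cfsg.Prelude.Def_FusionSystem
import Cfsg.Agent.Lib.ZStarTheorem

/-!
# Glauberman's Z*-theorem for elements of arbitrary 2-power order
-/

set_option autoImplicit false

open scoped Pointwise

namespace Cfsg.Agent.ZStarFusion

open Cfsg

universe u

variable {G : Type u} [Group G] [Finite G]

/-- Quotient by a central 2-subgroup does not create an odd core. -/
theorem pPrimeCore_quotient_eq_bot {Y : Subgroup G} [Y.Normal] (hY2 : IsPGroup 2 Y)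
    (hY : Y ≤ Subgroup.center G) (hO : pPrimeCore 2 G = ⊥) : pPrimeCore 2 (G ⧸ Y) = ⊥ := by
  have : Fact (Nat.Prime 2) := ⟨Nat.prime_two⟩
  set Q := (pPrimeCore 2 (G ⧸ Y)).comap (QuotientGroup.mk' Y) with hQ
  have hQn : Q.Normal := (HallCore.pPrimeCore_normal 2 _).comap _
  have hYQ : Y ≤ Q := fun y hy => by
    show (y : G ⧸ Y) ∈ pPrimeCore 2 (G ⧸ Y)
    rw [(QuotientGroup.eq_one_iff y).2 hy]; exact one_mem _
  set Y' := Y.subgroupOf Q with hY'
  have hn : Y'.Normal := Subgroup.normal_subgroupOf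
  have hcardY : Nat.card Y' = Nat.card Y :=
    Nat.card_congr (Subgroup.subgroupOfEquivOfLe hYQ).toEquiv
  have hcard := HallCore.card_comap_mk' Y (pPrimeCore 2 (G ⧸ Y))
  rw [← hQ, ← hcardY] at hcard
  have hidx : Y'.index = Nat.card (pPrimeCore 2 (G ⧸ Y)) := by
    have h1 := Y'.index_mul_card
    rw [← hcard] at h1
    exact Nat.eq_of_mul_eq_mul_right Nat.card_pos h1
  have hcop : (Nat.card Y').Coprime Y'.index := by
    obtain ⟨k, hk⟩ := IsPGroup.iff_card.1 hY2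
    rw [hcardY, hk, hidx]
    exact ((HallCore.coprime_card_pPrimeCore 2 (G ⧸ Y)).symm).pow_left k
  obtain ⟨K, hK⟩ := Subgroup.exists_right_complement'_of_coprime hcop
  have hcent : ∀ y ∈ Y', ∀ x : Q, y * x = x * y := fun y hy x =>
    Subtype.ext (Subgroup.mem_center_iff.1 (hY hy) (x : G)).symm
  have hKn : K.Normal := ⟨fun k hk g => by
    obtain ⟨y, hy, l, hl, rfl⟩ : ∃ y ∈ Y', ∃ l ∈ K, y * l = g := by
      obtain ⟨⟨⟨y, hy⟩, ⟨l, hl⟩⟩, h⟩ := hK.2 g
      exact ⟨y, hy, l, hl, h⟩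
    have e : y * l * k * (y * l)⁻¹ = l * k * l⁻¹ := by
      calc y * l * k * (y * l)⁻¹ = y * (l * k * l⁻¹) * y⁻¹ := by group
        _ = l * k * l⁻¹ := by rw [hcent y hy, mul_inv_cancel_right]
    rw [e]
    exact mul_mem (mul_mem hl hk) (inv_mem hl)⟩
  have hKc : Odd (Nat.card K) := by
    rw [show Nat.card K = Nat.card (pPrimeCore 2 (G ⧸ Y)) from
      (Nat.eq_of_mul_eq_mul_left Nat.card_pos (hK.card_mul.trans
        (hcard.symm.trans (mul_comm _ _))))]
    exact ZStarTheorem.odd_card_pPrimeCore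
  have hKbot := ZStarBasic.eq_bot_of_normal_odd (ZStarBasic.pPrimeCore_normal_eq_bot hO Q) K hKc
  rw [hKbot, Subgroup.isComplement'_bot_right] at hK
  rw [← Subgroup.card_eq_one, ← hidx, hK, Subgroup.index_top]

/-- If `q ∈ S` has no other conjugate in `S`, then neither has its image in any quotient. -/
theorem eq_of_mem_map (S : Sylow 2 G) (N : Subgroup G) [N.Normal] {q : G} (hq : q ∈ S)
    (hft : ∀ g : G, g * q * g⁻¹ ∈ S → g * q * g⁻¹ = q) (g : G)
    (hg : QuotientGroup.mk' N (g * q * g⁻¹) ∈ (S : Subgroup G).map (QuotientGroup.mk' N)) :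
    QuotientGroup.mk' N (g * q * g⁻¹) = QuotientGroup.mk' N q := by
  have : Fact (Nat.Prime 2) := ⟨Nat.prime_two⟩
  set K := (S : Subgroup G) ⊔ N with hK
  have hmem : g * q * g⁻¹ ∈ K := by
    rw [hK, ← QuotientGroup.ker_mk' N, ← Subgroup.comap_map_eq]
    exact hg
  have hp : IsPGroup 2 (Subgroup.zpowers (⟨g * q * g⁻¹, hmem⟩ : K)) := by
    obtain ⟨k, hk⟩ := (IsPGroup.iff_orderOf.1 S.isPGroup') ⟨q, hq⟩
    refine IsPGroup.of_card (n := k) ?_
    rw [Nat.card_zpowers, Subgroup.orderOf_mk, ZStarBasic.orderOf_conj_eq]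
    rwa [Subgroup.orderOf_mk] at hk
  obtain ⟨R, hR⟩ := hp.exists_le_sylow
  obtain ⟨c, rfl⟩ := MulAction.exists_smul_eq K (S.subtype (le_sup_left : (S : Subgroup G) ≤ K)) R
  have h1 := hR (Subgroup.mem_zpowers _)
  rw [Sylow.coe_subgroup_smul, Subgroup.mem_pointwise_smul_iff_inv_smul_mem, ← map_inv,
    MulAut.smul_def, MulAut.conj_apply] at h1
  obtain ⟨s, hs, n, hn, hsn⟩ := Subgroup.mem_sup_of_normal_right.1 (c⁻¹).2
  have h2 : (s * n) * (g * q * g⁻¹) * (s * n)⁻¹ ∈ (S : Subgroup G) := by rw [hsn]; exact h1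
  have h3 : (n * g) * q * (n * g)⁻¹ ∈ (S : Subgroup G) := by
    have := mul_mem (mul_mem (inv_mem hs) h2) hs
    rwa [show s⁻¹ * (s * n * (g * q * g⁻¹) * (s * n)⁻¹) * s = n * g * q * (n * g)⁻¹ by group]
      at this
  have h4 := congrArg (QuotientGroup.mk' N) (hft _ h3)
  have h5 : QuotientGroup.mk' N n = 1 := (QuotientGroup.eq_one_iff n).2 hn
  simp only [map_mul, map_inv, h5, one_mul] at h4 ⊢
  exact h4

theorem mem_center_aux : ∀ (k : ℕ) {G : Type u} [Group G] [Finite G] (S : Sylow 2 G) (q : G),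
    pPrimeCore 2 G = ⊥ → orderOf q = 2 ^ k → q ∈ S →
    (∀ (j : ℕ) (g : G), g * q ^ j * g⁻¹ ∈ S → g * q ^ j * g⁻¹ = q ^ j) →
    q ∈ Subgroup.center G := by
  intro k
  induction k using Nat.strong_induction_on with
  | _ k IH =>
    intro G _ _ S q hO hq hqS hft
    have : Fact (Nat.Prime 2) := ⟨Nat.prime_two⟩
    rcases k with - | k
    · rw [pow_zero, orderOf_eq_one_iff] at hq
      rw [hq]; exact one_mem _
    set z := q ^ 2 ^ k with hz
    have hz2 : orderOf z = 2 := by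
      rw [hz, orderOf_pow' _ (by positivity), hq,
        Nat.gcd_eq_right (pow_dvd_pow 2 k.le_succ), pow_succ,
        Nat.mul_div_cancel_left _ (by positivity)]
    have hzc : z ∈ Subgroup.center G := ZStarTheorem.mem_center_of_isolated
      (ZStarBasic.isolated_of_sylow S z hz2 (pow_mem hqS _) (hft _)) hO
    set Y := Subgroup.zpowers z with hY
    have hYc : Y ≤ Subgroup.center G := Subgroup.zpowers_le.2 hzc
    have : Y.Normal := ⟨fun n hn g => by
      rwa [Subgroup.mem_center_iff.1 (hYc hn) g, mul_inv_cancel_right]⟩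
    have hY2 : IsPGroup 2 Y := IsPGroup.of_card (n := 1) (by rw [Nat.card_zpowers, hz2, pow_one])
    have hord : orderOf (QuotientGroup.mk' Y q) ∣ 2 ^ k := orderOf_dvd_of_pow_eq_one (by
      rw [← map_pow]
      exact (QuotientGroup.eq_one_iff _).2 (Subgroup.mem_zpowers z))
    obtain ⟨m, hm, hm'⟩ := (Nat.dvd_prime_pow Nat.prime_two).1 hord
    have hc := IH m (Nat.lt_succ_of_le hm) (S.mapSurjective (QuotientGroup.mk'_surjective Y))
      (QuotientGroup.mk' Y q) (pPrimeCore_quotient_eq_bot hY2 hYc hO) hm'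
      (Subgroup.mem_map_of_mem _ hqS) (fun j g' hg' => by
        obtain ⟨g, rfl⟩ := QuotientGroup.mk'_surjective Y g'
        rw [← map_pow, ← map_mul, ← map_inv, ← map_mul] at hg' ⊢
        exact eq_of_mem_map S Y (pow_mem hqS j) (hft j) g hg')
    refine Subgroup.mem_center_iff.2 fun g => mul_inv_eq_iff_eq_mul.1 ?_
    have h1 : g * q * g⁻¹ * q⁻¹ ∈ Y := by
      rw [← QuotientGroup.eq_one_iff]
      simp only [QuotientGroup.mk_mul, QuotientGroup.mk_inv]
      have hcc : (g : G ⧸ Y) * (q : G ⧸ Y) = q * g := Subgroup.mem_center_iff.1 hc _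
      rw [hcc]
      simp
    have h2 : g * q * g⁻¹ ∈ S := by
      have := mul_mem ((Subgroup.zpowers_le.2 (pow_mem hqS (2 ^ k)) : Y ≤ (S : Subgroup G)) h1) hqS
      rwa [inv_mul_cancel_right] at this
    simpa using hft 1 g (by simpa using h2)

/-- An element of `S` none of whose powers is fused to another element of `S` is central
modulo `O(G)`. -/
theorem mk_mem_center (S : Sylow 2 G) {q : G} (hqS : q ∈ S)
    (hft : ∀ (j : ℕ) (g : G), g * q ^ j * g⁻¹ ∈ S → g * q ^ j * g⁻¹ = q ^ j) :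
    QuotientGroup.mk' (pPrimeCore 2 G) q ∈ Subgroup.center (G ⧸ pPrimeCore 2 G) := by
  have : Fact (Nat.Prime 2) := ⟨Nat.prime_two⟩
  obtain ⟨k, hk⟩ := (IsPGroup.iff_orderOf.1 S.isPGroup') ⟨q, hqS⟩
  rw [Subgroup.orderOf_mk] at hk
  obtain ⟨m, -, hm⟩ := (Nat.dvd_prime_pow Nat.prime_two).1
    (hk ▸ orderOf_map_dvd (QuotientGroup.mk' (pPrimeCore 2 G)) q)
  exact mem_center_aux m (S.mapSurjective (QuotientGroup.mk'_surjective _)) _
    (HallCore.pPrimeCore_quotient_self 2 G) hm (Subgroup.mem_map_of_mem _ hqS) (fun j g' hg' => by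
      obtain ⟨g, rfl⟩ := QuotientGroup.mk'_surjective _ g'
      rw [← map_pow, ← map_mul, ← map_inv, ← map_mul] at hg' ⊢
      exact eq_of_mem_map S _ (pow_mem hqS j) (hft j) g hg')

/-- Conjugation by an element of `M`, an odd-order subgroup normalized by a 2-group, corrects
two homomorphisms agreeing modulo `M`. -/
theorem exists_conj_of_congr {M P : Subgroup G} (hM : Odd (Nat.card M)) (hP : IsPGroup 2 P)
    (a b : G) (hn : ∀ x ∈ P, a * x * a⁻¹ ∈ Subgroup.normalizer (M : Set G))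
    (hcongr : ∀ x ∈ P, b * x * b⁻¹ * (a * x * a⁻¹)⁻¹ ∈ M) :
    ∃ m ∈ M, ∀ x ∈ P, m * (a * x * a⁻¹) * m⁻¹ = b * x * b⁻¹ := by
  have : Fact (Nat.Prime 2) := ⟨Nat.prime_two⟩
  set Qa := P.map (MulAut.conj a).toMonoidHom with hQa
  set Qb := P.map (MulAut.conj b).toMonoidHom with hQb
  have hQaN : Qa ≤ Subgroup.normalizer (M : Set G) := by
    rintro _ ⟨x, hx, rfl⟩; exact hn x hx
  have hint : ∀ x ∈ M, ∀ Q : Subgroup G, IsPGroup 2 Q → x ∈ Q → x = 1 := by
    intro x hx Q hQ hxQ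
    obtain ⟨k, hk⟩ := (IsPGroup.iff_orderOf.1 hQ) ⟨x, hxQ⟩
    rw [Subgroup.orderOf_mk] at hk
    rw [← orderOf_eq_one_iff]
    exact hk.trans (((Nat.coprime_two_left.2
      (hM.of_dvd_nat (Subgroup.orderOf_dvd_natCard M hx))).pow_left k).eq_one_of_dvd hk.symm.dvd)
  set K := Qa ⊔ M with hK
  have hdec : ∀ k ∈ K, ∃ q ∈ Qa, ∃ m ∈ M, q * m = k := fun k hk => by
    rw [← SetLike.mem_coe, hK, Subgroup.coe_mul_of_left_le_normalizer_right _ _ hQaN] at hk
    exact Set.mem_mul.1 hk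
  have hQbK : Qb ≤ K := by
    rintro _ ⟨x, hx, rfl⟩
    have h1 : b * x * b⁻¹ * (a * x * a⁻¹)⁻¹ * (a * x * a⁻¹) ∈ K :=
      mul_mem (Subgroup.mem_sup_right (hcongr x hx)) (Subgroup.mem_sup_left ⟨x, hx, rfl⟩)
    rw [inv_mul_cancel_right] at h1
    exact h1
  have hpa : IsPGroup 2 Qa := hP.map _
  obtain ⟨R, hR⟩ := (IsPGroup.comap_subtype (K := K) hpa).exists_le_sylow
  obtain ⟨T, hT⟩ := (IsPGroup.comap_subtype (K := K) (hP.map (MulAut.conj b).toMonoidHom)).exists_le_sylow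
  have hRQ : ∀ r : K, r ∈ R → (r : G) ∈ Qa := by
    intro r hr
    obtain ⟨q, hq, m, hm, e⟩ := hdec r r.2
    have hmK : (⟨m, Subgroup.mem_sup_right hm⟩ : K) ∈ R := by
      have := mul_mem (inv_mem (hR (show (⟨q, Subgroup.mem_sup_left hq⟩ : K) ∈ Qa.subgroupOf K
        from hq))) hr
      have e' : (⟨m, Subgroup.mem_sup_right hm⟩ : K) = (⟨q, Subgroup.mem_sup_left hq⟩ : K)⁻¹ * r :=
        Subtype.ext (by simp [← e])
      rw [e']; exact this
    have hm1 := hint m hm _ ((R.isPGroup').map K.subtype) ⟨_, hmK, rfl⟩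
    rw [← e, hm1, mul_one]; exact hq
  obtain ⟨c, hc⟩ := MulAction.exists_smul_eq K T R
  obtain ⟨q, hq, m, hm, e⟩ := hdec c c.2
  refine ⟨m⁻¹, inv_mem hm, fun x hx => ?_⟩
  set v := b * x * b⁻¹ with hv
  have hvQ : v ∈ Qb := ⟨x, hx, rfl⟩
  have h1 : c * ⟨v, hQbK hvQ⟩ * c⁻¹ ∈ R := by
    rw [← hc]
    show _ ∈ ((c • T : Sylow 2 K) : Subgroup K)
    rw [Sylow.coe_subgroup_smul, Subgroup.mem_pointwise_smul_iff_inv_smul_mem, ← map_inv,
      MulAut.smul_def, MulAut.conj_apply]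
    have := hT (show (⟨v, hQbK hvQ⟩ : K) ∈ Qb.subgroupOf K from hvQ)
    convert this using 1
    group
  have h2 := hRQ _ h1
  simp only [Subgroup.coe_mul, Subgroup.coe_inv, ← e] at h2
  have h3 : m * v * m⁻¹ ∈ Qa := by
    have := mul_mem (mul_mem (inv_mem hq) h2) hq
    rwa [show q⁻¹ * (q * m * v * (q * m)⁻¹) * q = m * v * m⁻¹ by group] at this
  set u := a * x * a⁻¹ with hu
  have huQ : u ∈ Qa := ⟨x, hx, rfl⟩
  have hvu : v * u⁻¹ ∈ M := hcongr x hx
  have h4 : m * v * m⁻¹ * u⁻¹ = 1 := by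
    refine hint _ ?_ _ hpa (mul_mem h3 (inv_mem huQ))
    have hun : u ∈ Subgroup.normalizer (M : Set G) := hn x hx
    have : u * m⁻¹ * u⁻¹ ∈ M := (Subgroup.mem_normalizer_iff.1 hun m⁻¹).1 (inv_mem hm)
    have h5 := mul_mem (mul_mem hm hvu) this
    rwa [show m * (v * u⁻¹) * (u * m⁻¹ * u⁻¹) = m * v * m⁻¹ * u⁻¹ by group] at h5
  rw [mul_inv_eq_one] at h4
  rw [← h4]
  group

end Cfsg.Agent.ZStarFusion
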