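import Mathlib
import Cfsg.Prelude.Def_Local
import Cfsg.Agent.Lib.ComponentsFitting
import Cfsg.Agent.Lib.ComponentsP
import Cfsg.Agent.Lib.ZStarFusion
import Cfsg.Agent.Lib.PGroupsCyclic
import Cfsg.Agent.Lib.IsolatedInv
import Cfsg.Agent.Lib.CoprimeAction

/-!
Groups in which distinct Sylow 2-subgroups meet in cyclic groups: basics.
-/

set_option autoImplicit false
set_option linter.style.haveILetI false

namespace Cfsg.Agent.CyclicInt67

open Subgroup
open scoped Pointwise commutatorElement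

universe u

variable {G : Type u} [Group G]

/-- Distinct Sylow 2-subgroups meet in cyclic groups. -/
def CycInt (G : Type u) [Group G] : Prop :=
  ∀ S T : Sylow 2 G, S ≠ T → IsCyclic ↥((S : Subgroup G) ⊓ (T : Subgroup G))

/-- In a cyclic group two involutions coincide. -/
theorem eq_of_sq_eq_one {V : Subgroup G} [Finite V] (hV : IsCyclic V) {a b : G} (ha : a ∈ V)
    (hb : b ∈ V) (ha2 : a * a = 1) (hb2 : b * b = 1) (ha1 : a ≠ 1) (hb1 : b ≠ 1) : a = b := by
  classical
  by_contra hne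
  haveI := Fintype.ofFinite V
  have h := (IsCyclic.card_pow_eq_one_le (α := V) (n := 2) two_pos)
  have hsub : ({1, ⟨a, ha⟩, ⟨b, hb⟩} : Finset V) ⊆ ({x : V | x ^ 2 = 1} : Finset V) := by
    intro x hx
    simp only [Finset.mem_insert, Finset.mem_singleton] at hx
    simp only [Finset.mem_filter, Finset.mem_univ, true_and, pow_two]
    rcases hx with rfl | rfl | rfl
    · simp
    · exact Subtype.ext ha2
    · exact Subtype.ext hb2
  have h3 : ({1, ⟨a, ha⟩, ⟨b, hb⟩} : Finset V).card = 3 := by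
    rw [Finset.card_insert_of_notMem (by simp [Subtype.ext_iff, ha1.symm, hb1.symm]),
      Finset.card_pair (by simp [Subtype.ext_iff, hne])]
  have := (Finset.card_le_card hsub).trans h
  omega

theorem not_isCyclic_of_two {V : Subgroup G} [Finite V] {a b : G} (ha : a ∈ V)
    (hb : b ∈ V) (ha2 : a * a = 1) (hb2 : b * b = 1) (ha1 : a ≠ 1) (hb1 : b ≠ 1) (hne : a ≠ b) :
    ¬ IsCyclic V := fun h => hne (eq_of_sq_eq_one h ha hb ha2 hb2 ha1 hb1)

theorem commute_of_isCyclic {V : Subgroup G} (hV : IsCyclic V) {a b : G} (ha : a ∈ V)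
    (hb : b ∈ V) : a * b = b * a := by
  haveI := hV
  letI := IsCyclic.commGroup (α := V)
  exact congrArg Subtype.val (mul_comm (⟨a, ha⟩ : V) ⟨b, hb⟩)

variable [Finite G]

/-- A noncyclic subgroup lies in at most one Sylow 2-subgroup. -/
theorem eq_of_noncyclic (h : CycInt G) {V : Subgroup G} (hV : ¬ IsCyclic V) {S T : Sylow 2 G}
    (h1 : V ≤ (S : Subgroup G)) (h2 : V ≤ (T : Subgroup G)) : S = T := by
  by_contra hne
  haveI := h S T hne
  exact hV (Subgroup.isCyclic_of_le (le_inf h1 h2))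

omit [Finite G] in
theorem mem_smul {g x : G} {S : Sylow 2 G} (hx : x ∈ (S : Subgroup G)) :
    g * x * g⁻¹ ∈ ((g • S : Sylow 2 G) : Subgroup G) := by
  rw [Sylow.smul_def, Sylow.pointwise_smul_def]
  exact Subgroup.smul_mem_pointwise_smul x (MulAut.conj g) _ hx

/-- An element moving two points of a noncyclic part of `S` back into `S` normalises it. -/
theorem mem_normalizer_of_map (h : CycInt G) {V : Subgroup G} (hV : ¬ IsCyclic V) {S : Sylow 2 G}
    {g : G} (h1 : V ≤ (S : Subgroup G)) (h2 : ∀ v ∈ V, g * v * g⁻¹ ∈ (S : Subgroup G)) :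
    g ∈ normalizer ((S : Subgroup G) : Set G) := by
  refine Sylow.smul_eq_iff_mem_normalizer.mp ?_
  have hV' : ¬ IsCyclic (V.map (MulAut.conj g).toMonoidHom) := fun hc => hV
    ((V.equivMapOfInjective _ (MulAut.conj g).injective).isCyclic.mpr hc)
  refine eq_of_noncyclic h hV' ?_ ?_
  · rintro _ ⟨v, hv, rfl⟩; exact mem_smul (h1 hv)
  · rintro _ ⟨v, hv, rfl⟩; exact h2 v hv

/-- A 2-element normalising a Sylow 2-subgroup lies in it. -/
theorem mem_sylow_of_normalizes {S : Sylow 2 G} {x : G}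
    (hx : x ∈ normalizer ((S : Subgroup G) : Set G)) (k : ℕ) (hk : x ^ 2 ^ k = 1) :
    x ∈ (S : Subgroup G) := by
  haveI := Fact.mk Nat.prime_two
  have h2 : IsPGroup 2 (zpowers x) := by
    obtain ⟨j, -, hj⟩ := (Nat.dvd_prime_pow Nat.prime_two).mp (orderOf_dvd_of_pow_eq_one hk)
    exact IsPGroup.of_card (n := j) (by rw [Nat.card_zpowers, hj])
  have h3 := S.isPGroup'.to_sup_of_normal_left' h2 (zpowers_le.mpr hx)
  rw [← S.is_maximal' h3 le_sup_left]
  exact mem_sup_right (mem_zpowers x)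

omit [Finite G] in
theorem two_pow_of_mem {S : Sylow 2 G} {x : G} (hx : x ∈ (S : Subgroup G)) :
    ∃ k, x ^ 2 ^ k = 1 := by
  obtain ⟨k, hk⟩ := S.isPGroup' ⟨x, hx⟩
  exact ⟨k, congrArg Subtype.val hk⟩

/-- A cyclic normal 2-subgroup: elements act through 2-groups, and commutators act trivially. -/
theorem action_facts {Q : Subgroup G} [Q.Normal] (hQ : IsPGroup 2 Q) (hQc : IsCyclic Q) :
    (∀ g : G, ∃ k : ℕ, g ^ 2 ^ k ∈ centralizer (Q : Set G)) ∧
      commutator G ≤ centralizer (Q : Set G) := by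
  haveI := Fact.mk Nat.prime_two
  haveI := hQc
  obtain ⟨n, hn⟩ := IsPGroup.iff_card.mp hQ
  set φ : G →* MulAut Q := MulAut.conjNormal
  have hker : ∀ g : G, φ g = 1 → g ∈ centralizer (Q : Set G) := by
    intro g hg
    rw [mem_centralizer_iff]
    intro q hq
    have h1 := congrArg Subtype.val (DFunLike.congr_fun hg ⟨q, hq⟩)
    change g * q * g⁻¹ = q at h1
    exact (mul_inv_eq_iff_eq_mul.mp h1).symm
  constructor
  · intro g
    have hc : Nat.card (MulAut Q) = (2 ^ n).totient := by rw [IsCyclic.card_mulAut, hn]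
    obtain ⟨k, hk⟩ : ∃ k, Nat.card (MulAut Q) = 2 ^ k := by
      rcases n with _ | n
      · exact ⟨0, by simpa using hc⟩
      · exact ⟨n, by simp [hc, Nat.totient_prime_pow_succ Nat.prime_two]⟩
    exact ⟨k, hker _ (by rw [map_pow, ← hk, pow_card_eq_one'])⟩
  · rw [_root_.commutator_def, commutator_le]
    intro a _ b _
    refine hker _ ?_
    rw [map_commutatorElement, commutatorElement_eq_one_iff_mul_comm]
    apply MulEquiv.ext
    intro q
    obtain ⟨m, hm⟩ := MonoidHom.map_cyclic (φ a).toMonoidHom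
    obtain ⟨l, hl⟩ := MonoidHom.map_cyclic (φ b).toMonoidHom
    have hm' : ∀ x : Q, φ a x = x ^ m := hm
    have hl' : ∀ x : Q, φ b x = x ^ l := hl
    rw [MulAut.mul_apply, MulAut.mul_apply, hm', hl', hm', hl', ← zpow_mul, ← zpow_mul, mul_comm]

/-- A cyclic 2-group: each element is a square or a generator. -/
theorem sq_or_gen {Q : Subgroup G} (hQ : IsPGroup 2 Q) {g₀ : G} (hg : zpowers g₀ = Q) {w : G}
    (hw : w ∈ Q) : (∃ v ∈ Q, v * v = w) ∨ zpowers w = Q := by
  subst hg
  obtain ⟨i, rfl⟩ := mem_zpowers_iff.mp hw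
  rcases Int.even_or_odd i with ⟨j, rfl⟩ | hodd
  · exact .inl ⟨g₀ ^ j, zpow_mem (mem_zpowers g₀) j, by rw [← zpow_add]⟩
  · right
    refine le_antisymm (zpowers_le.mpr hw) (zpowers_le.mpr ?_)
    haveI := Fact.mk Nat.prime_two
    obtain ⟨n, hn⟩ := IsPGroup.iff_card.mp hQ
    rw [Nat.card_zpowers] at hn
    obtain ⟨a, b, hab⟩ : IsCoprime i ((2 : ℤ) ^ n) := by
      apply IsCoprime.pow_right
      obtain ⟨j, rfl⟩ := hodd
      exact ⟨1, -j, by ring⟩
    refine mem_zpowers_iff.mpr ⟨a, ?_⟩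
    have e : i * a = 1 + (-b) * (orderOf g₀ : ℤ) := by
      rw [hn]; push_cast; linear_combination hab
    rw [← zpow_mul, e, zpow_add, zpow_one, mul_comm, zpow_mul, zpow_natCast, pow_orderOf_eq_one,
      one_zpow, mul_one]

end Cfsg.Agent.CyclicInt67
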