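import Mathlib
import Cfsg.Agent.Lib.CyclicIntBasic67

/-!
Cyclic Sylow 2-intersections, `O(G) = 1`: the 2-core is central. Involution analysis.
-/

set_option autoImplicit false
set_option linter.style.haveILetI false

namespace Cfsg.Agent.CyclicInt67

open Subgroup
open scoped Pointwise commutatorElement

universe u

variable {G : Type u} [Group G] [Finite G]

/-- Data: `Q` cyclic normal 2-subgroup in all Sylow 2-subgroups, `C` its centralizer, `z` its
involution, `y` of order 4. -/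
structure Setup (Q : Subgroup G) (z y : G) : Prop where
  hInt : CycInt G
  hQn : Q.Normal
  hQ2 : IsPGroup 2 Q
  hQc : IsCyclic Q
  hQS : ∀ S : Sylow 2 G, Q ≤ (S : Subgroup G)
  hzQ : z ∈ Q
  hz2 : z * z = 1
  hz1 : z ≠ 1
  hyQ : y ∈ Q
  hy : y * y = z

/-- An involution of the centralizer outside `Q`. -/
def Inv (Q : Subgroup G) (j : G) : Prop :=
  j ∈ centralizer (Q : Set G) ∧ j ∉ Q ∧ j * j = 1

variable {Q : Subgroup G} {z y : G}

omit [Finite G] in
theorem Inv.ne_one {j : G} (h : Inv Q j) : j ≠ 1 := fun e => h.2.1 (e ▸ one_mem _)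

omit [Finite G] in
theorem Inv.inv_eq {j : G} (h : Inv Q j) : j⁻¹ = j := inv_eq_of_mul_eq_one_right h.2.2

omit [Finite G] in
theorem Inv.conj (hd : Setup Q z y) {j : G} (hj : Inv Q j) (g : G) : Inv Q (g * j * g⁻¹) := by
  haveI := hd.hQn
  refine ⟨(inferInstance : (centralizer (Q : Set G)).Normal).conj_mem j hj.1 g, fun h => hj.2.1 ?_, ?_⟩
  · have h1 := Normal.conj_mem inferInstance _ h g⁻¹
    rwa [show g⁻¹ * (g * j * g⁻¹) * g⁻¹⁻¹ = j by group] at h1
  · rw [show g * j * g⁻¹ * (g * j * g⁻¹) = g * (j * j) * g⁻¹ by group, hj.2.2]; simp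

omit [Finite G] in
theorem Setup.z_comm (hd : Setup Q z y) (g : G) : g * z = z * g := by
  haveI := hd.hQn
  have h1 : g * z * g⁻¹ ∈ Q := Normal.conj_mem inferInstance z hd.hzQ g
  by_cases hne : g * z * g⁻¹ = z
  · exact mul_inv_eq_iff_eq_mul.mp hne
  · exfalso
    haveI := hd.hQc
    obtain ⟨g₀, hg₀⟩ := isCyclic_iff_exists_zpowers_eq_top.mp hd.hQc
    rcases finite_or_infinite Q with hf | hf
    · exact hne (eq_of_sq_eq_one hd.hQc h1 hd.hzQ
        (by rw [show g * z * g⁻¹ * (g * z * g⁻¹) = g * (z * z) * g⁻¹ by group, hd.hz2]; simp)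
        hd.hz2 (by simpa using hd.hz1) hd.hz1)
    · obtain ⟨k, hk⟩ := hd.hQ2 g₀
      have := Finite.of_equiv _ ((finEquivZPowers (isOfFinOrder_iff_pow_eq_one.mpr ⟨2 ^ k, by positivity, hk⟩)).trans
        ((Equiv.setCongr (by rw [hg₀]; rfl)).trans (Equiv.Set.univ Q)))
      exact not_finite Q

theorem Inv.uniq (hd : Setup Q z y) {j : G} (hj : Inv Q j) {S T : Sylow 2 G}
    (h1 : j ∈ (S : Subgroup G)) (h2 : j ∈ (T : Subgroup G)) : S = T := by
  by_contra hne
  exact not_isCyclic_of_two (V := (S : Subgroup G) ⊓ (T : Subgroup G)) ⟨h1, h2⟩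
    ⟨hd.hQS S hd.hzQ, hd.hQS T hd.hzQ⟩ hj.2.2 hd.hz2 hj.ne_one hd.hz1
    (fun e => hj.2.1 (e ▸ hd.hzQ)) (hd.hInt S T hne)

/-- Moving an involution of `S` into its coset normalises `S`. -/
theorem mem_normalizer_of_inv (hd : Setup Q z y) {j : G} (hj : Inv Q j) {S : Sylow 2 G}
    (hjS : j ∈ (S : Subgroup G)) {g : G} (hg : g * j * g⁻¹ ∈ (S : Subgroup G)) :
    g ∈ normalizer ((S : Subgroup G) : Set G) :=
  Sylow.smul_eq_iff_mem_normalizer.mp ((hj.conj hd g).uniq hd (mem_smul hjS) hg)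

omit [Finite G] in
theorem mem_of_coset (hd : Setup Q z y) {S : Sylow 2 G} {j x : G} (hjS : j ∈ (S : Subgroup G))
    (h : j⁻¹ * x ∈ Q) : x ∈ (S : Subgroup G) := by
  have h1 := (S : Subgroup G).mul_mem hjS (hd.hQS S h)
  rwa [mul_inv_cancel_left] at h1

omit [Finite G] in
theorem commute_Q {a w : G} (ha : a ∈ centralizer (Q : Set G)) (hw : w ∈ Q) : a * w = w * a :=
  (mem_centralizer_iff.mp ha w hw).symm

/-- Involutions in different Sylow subgroups are conjugate modulo `Q`. -/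
theorem conj_of_ne (hd : Setup Q z y) {j₁ j₂ : G} (h1 : Inv Q j₁) (h2 : Inv Q j₂)
    {T₁ T₂ : Sylow 2 G} (ht1 : j₁ ∈ (T₁ : Subgroup G)) (ht2 : j₂ ∈ (T₂ : Subgroup G))
    (hne : T₁ ≠ T₂) : ∃ g : G, j₂⁻¹ * (g * j₁ * g⁻¹) ∈ Q := by
  haveI := hd.hQn
  haveI := Fact.mk Nat.prime_two
  rcases Nat.even_or_odd (orderOf (j₁ * j₂)) with ⟨m, hm⟩ | hodd
  swap
  · obtain ⟨c, -, hc⟩ := IsolatedInv.exists_conj_of_odd h1.2.2 h2.2.2 hodd
    exact ⟨c, by rw [hc, inv_mul_cancel]; exact one_mem _⟩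
  set v := j₁ * j₂ with hv
  have hm0 : 0 < m := by have := orderOf_pos v; omega
  have hvC : v ∈ centralizer (Q : Set G) := mul_mem h1.1 h2.1
  have hvinv1 : j₁ * v * j₁⁻¹ = v⁻¹ := by
    rw [hv, mul_inv_rev, h1.inv_eq, h2.inv_eq, ← mul_assoc, h1.2.2, one_mul]
  have hvinv2 : j₂ * v * j₂⁻¹ = v⁻¹ := by
    rw [hv, mul_inv_rev, h1.inv_eq, h2.inv_eq, mul_assoc, mul_assoc, h2.2.2, mul_one]
  set c := v ^ m with hc
  have hc2 : c * c = 1 := by rw [hc, ← pow_add, ← hm, pow_orderOf_eq_one]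
  have hc1 : c ≠ 1 := fun e => by
    have := Nat.le_of_dvd hm0 (orderOf_dvd_of_pow_eq_one e)
    omega
  have hcinv : c⁻¹ = c := inv_eq_of_mul_eq_one_right hc2
  -- a dihedral involution outside `Q` is impossible
  have contra : ∀ w : G, Inv Q w → w⁻¹ * (j₁ * w * j₁⁻¹) ∈ Q → w⁻¹ * (j₂ * w * j₂⁻¹) ∈ Q → False := by
    intro w hw e1 e2
    obtain ⟨R, hR⟩ := (IsPGroup.of_card (n := 1) (by
      rw [Nat.card_zpowers, pow_one]
      exact orderOf_eq_prime (by rw [pow_two]; exact hw.2.2) hw.ne_one) :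
      IsPGroup 2 (zpowers w)).exists_le_sylow
    have hwR := hR (mem_zpowers w)
    have a1 := mem_sylow_of_normalizes (mem_normalizer_of_inv hd hw hwR (mem_of_coset hd hwR e1)) 1
      (by rw [pow_one, pow_two]; exact h1.2.2)
    have a2 := mem_sylow_of_normalizes (mem_normalizer_of_inv hd hw hwR (mem_of_coset hd hwR e2)) 1
      (by rw [pow_one, pow_two]; exact h2.2.2)
    exact hne ((h1.uniq hd ht1 a1).trans (h2.uniq hd a2 ht2))
  have hcC : c ∈ centralizer (Q : Set G) := pow_mem hvC m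
  have hcz : c = z := by
    by_cases hcQ : c ∈ Q
    · exact eq_of_sq_eq_one hd.hQc hcQ hd.hzQ hc2 hd.hz2 hc1 hd.hz1
    · exfalso
      refine contra c ⟨hcC, hcQ, hc2⟩ ?_ ?_
      · rw [hc, ← conj_pow, hvinv1, inv_pow, ← hc, hcinv, hc2]; exact one_mem _
      · rw [hc, ← conj_pow, hvinv2, inv_pow, ← hc, hcinv, hc2]; exact one_mem _
  rcases Nat.even_or_odd m with ⟨r, hr⟩ | hmodd
  · exfalso
    set q := v ^ r with hq
    have hqC : q ∈ centralizer (Q : Set G) := pow_mem hvC r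
    have hqq : q * q = z := by rw [hq, ← pow_add, ← hr, ← hc, hcz]
    have hqinv1 : j₁ * q * j₁⁻¹ = q⁻¹ := by rw [hq, ← conj_pow, hvinv1, inv_pow]
    have hqinv2 : j₂ * q * j₂⁻¹ = q⁻¹ := by rw [hq, ← conj_pow, hvinv2, inv_pow]
    have hqy : q * y = y * q := commute_Q hqC hd.hyQ
    have hqi : q⁻¹ * q⁻¹ ∈ Q := by rw [← mul_inv_rev, hqq]; exact inv_mem hd.hzQ
    refine contra (q * y) ⟨mul_mem hqC ?_, fun h => ?_, ?_⟩ ?_ ?_
    · rw [mem_centralizer_iff]; exact fun w hw => commute_of_isCyclic hd.hQc hw hd.hyQ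
    · have hq' : q ∈ Q := by
        have := mul_mem h (inv_mem hd.hyQ); rwa [mul_inv_cancel_right] at this
      have h3 : j₁ * q * j₁⁻¹ = q := mul_inv_eq_iff_eq_mul.mpr (commute_Q h1.1 hq')
      rw [hqinv1, inv_eq_iff_mul_eq_one, hqq] at h3
      exact hd.hz1 h3
    · calc q * y * (q * y) = q * (y * q) * y := by group
        _ = (q * q) * (y * y) := by rw [← hqy]; group
        _ = 1 := by rw [hqq, hd.hy, hd.hz2]
    · have hy1 : j₁ * y * j₁⁻¹ = y := mul_inv_eq_iff_eq_mul.mpr (commute_Q h1.1 hd.hyQ)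
      rw [show (q * y)⁻¹ * (j₁ * (q * y) * j₁⁻¹) =
        y⁻¹ * (q⁻¹ * (j₁ * q * j₁⁻¹)) * (j₁ * y * j₁⁻¹) by group, hy1, hqinv1]
      exact mul_mem (mul_mem (inv_mem hd.hyQ) hqi) hd.hyQ
    · have hy2 : j₂ * y * j₂⁻¹ = y := mul_inv_eq_iff_eq_mul.mpr (commute_Q h2.1 hd.hyQ)
      rw [show (q * y)⁻¹ * (j₂ * (q * y) * j₂⁻¹) =
        y⁻¹ * (q⁻¹ * (j₂ * q * j₂⁻¹)) * (j₂ * y * j₂⁻¹) by group, hy2, hqinv2]
      exact mul_mem (mul_mem (inv_mem hd.hyQ) hqi) hd.hyQ
  · -- the odd case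
    have hj2z : (j₂ * z) * (j₂ * z) = 1 := by
      calc (j₂ * z) * (j₂ * z) = j₂ * (z * j₂) * z := by group
        _ = (j₂ * j₂) * (z * z) := by rw [← hd.z_comm]; group
        _ = 1 := by rw [h2.2.2, hd.hz2, mul_one]
    have hord : Odd (orderOf (j₁ * (j₂ * z))) := by
      refine hmodd.of_dvd_nat (orderOf_dvd_of_pow_eq_one ?_)
      obtain ⟨l, hl⟩ := hmodd
      rw [← mul_assoc, (show Commute (j₁ * j₂) z from hd.z_comm _).mul_pow, ← hv, ← hc, hcz, hl,
        pow_succ, pow_mul, pow_two, hd.hz2, one_pow, one_mul, hd.hz2]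
    obtain ⟨g, -, hg⟩ := IsolatedInv.exists_conj_of_odd h1.2.2 hj2z hord
    exact ⟨g, by rw [hg, inv_mul_cancel_left]; exact hd.hzQ⟩

/-- All involutions outside `Q` are conjugate modulo `Q`, provided there are two Sylow subgroups. -/
theorem conj_any (hd : Setup Q z y) {S : Sylow 2 G} {h : G}
    (hh : h ∉ normalizer ((S : Subgroup G) : Set G)) {e j : G} (he : Inv Q e) (hj : Inv Q j)
    (heS : e ∈ (S : Subgroup G)) (hjS : j ∈ (S : Subgroup G)) :
    ∃ g : G, g ∈ normalizer ((S : Subgroup G) : Set G) ∧ j⁻¹ * (g * e * g⁻¹) ∈ Q := by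
  haveI := hd.hQn
  have hne : (h • S : Sylow 2 G) ≠ S := fun e => hh (Sylow.smul_eq_iff_mem_normalizer.mp e)
  obtain ⟨g, hg⟩ := conj_of_ne hd (he.conj hd h) hj (mem_smul heS) hjS hne
  have e1 : g * (h * e * h⁻¹) * g⁻¹ = (g * h) * e * (g * h)⁻¹ := by group
  rw [e1] at hg
  exact ⟨g * h, mem_normalizer_of_inv hd he heS (mem_of_coset hd hjS hg), hg⟩

/-- A subgroup containing an outer element and `Q` is noncyclic; so it lies in one Sylow. -/
theorem uniq_outer (hd : Setup Q z y) {t : G} (ht : t ∉ centralizer (Q : Set G)) {S T : Sylow 2 G}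
    (h1 : t ∈ (S : Subgroup G)) (h2 : t ∈ (T : Subgroup G)) : S = T := by
  by_contra hne
  refine ht (mem_centralizer_iff.mpr fun q hq => ?_)
  exact commute_of_isCyclic (hd.hInt S T hne) ⟨hd.hQS S hq, hd.hQS T hq⟩ ⟨h1, h2⟩

/-- No element outside `C` squares into `Q`, once some involution of `C` lies outside `Q`. -/
theorem no_outer_involution (hd : Setup Q z y) (hk : ∀ g : G, ∃ k : ℕ, g ^ 2 ^ k ∈ centralizer (Q : Set G))
    {S : Sylow 2 G} {h : G} (hh : h ∉ normalizer ((S : Subgroup G) : Set G))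
    {j₀ : G} (hj₀ : Inv Q j₀) (hj₀S : j₀ ∈ (S : Subgroup G)) {t : G} (htS : t ∈ (S : Subgroup G))
    (htC : t ∉ centralizer (Q : Set G)) (ht2 : t * t ∈ Q) : False := by
  haveI := hd.hQn
  haveI := Fact.mk Nat.prime_two
  set C := centralizer (Q : Set G)
  set T : Sylow 2 G := h • S
  obtain ⟨j, hj, hjT⟩ : ∃ j, Inv Q j ∧ j ∈ (T : Subgroup G) :=
    ⟨_, hj₀.conj hd h, mem_smul hj₀S⟩
  have hne : T ≠ S := fun e => hh (Sylow.smul_eq_iff_mem_normalizer.mp e)
  set v := t * j with hv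
  obtain ⟨a, l, hl, hal⟩ := Nat.exists_eq_two_pow_mul_odd (orderOf_pos v).ne'
  set q := v ^ l with hq
  have hqC : q ∉ C := by
    intro hqC
    obtain ⟨k, hk⟩ := hk v
    have hg : v ^ Nat.gcd l (2 ^ k) ∈ C := by
      rw [← zpow_natCast, Nat.gcd_eq_gcd_ab, zpow_add, zpow_mul, zpow_mul, zpow_natCast, zpow_natCast]
      exact mul_mem (zpow_mem hqC _) (zpow_mem hk _)
    rw [(Nat.coprime_two_right.mpr hl).pow_right k, pow_one] at hg
    apply htC
    have := mul_mem hg (inv_mem hj.1)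
    rwa [hv, mul_inv_cancel_right] at this
  set π := QuotientGroup.mk' Q
  have hπt : π t * π t = 1 := by
    rw [← map_mul]; exact (QuotientGroup.eq_one_iff _).mpr ht2
  have hπj : π j * π j = 1 := by rw [← map_mul, hj.2.2, map_one]
  have hti : (π t)⁻¹ = π t := inv_eq_of_mul_eq_one_right hπt
  have hji : (π j)⁻¹ = π j := inv_eq_of_mul_eq_one_right hπj
  set U := (zpowers (π q)).comap π
  have hU : IsPGroup 2 U := by
    refine IsPGroup.comap_of_ker_isPGroup ?_ π (by rw [QuotientGroup.ker_mk']; exact hd.hQ2)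
    intro x
    obtain ⟨i, hi⟩ := mem_zpowers_iff.mp x.2
    refine ⟨a, Subtype.ext ?_⟩
    rw [SubmonoidClass.coe_pow, OneMemClass.coe_one, ← hi, ← zpow_natCast, ← zpow_mul,
      mul_comm i, zpow_mul, zpow_natCast, ← map_pow, hq, ← pow_mul, mul_comm l, ← hal,
      pow_orderOf_eq_one, map_one, one_zpow]
  have hqU : q ∈ U := mem_zpowers (π q)
  -- `t` and `j` normalise `U`
  have hnorm : ∀ w : G, π w * π v * (π w)⁻¹ = (π v)⁻¹ → w ∈ normalizer (U : Set G) := by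
    intro w hw
    have h1 : ∀ i : ℤ, π w * π q ^ i * (π w)⁻¹ = π q ^ (-i) := by
      intro i
      rw [hq, map_pow, ← conj_zpow, ← conj_pow, hw, inv_pow, inv_zpow']
    rw [mem_normalizer_iff]
    intro x
    constructor
    · intro hx
      obtain ⟨i, hi⟩ := mem_zpowers_iff.mp (show π x ∈ zpowers (π q) from hx)
      show π (w * x * w⁻¹) ∈ zpowers (π q)
      rw [map_mul, map_mul, map_inv, ← hi, h1]
      exact zpow_mem (mem_zpowers _) _
    · intro hx
      obtain ⟨i, hi⟩ := mem_zpowers_iff.mp (show π (w * x * w⁻¹) ∈ zpowers (π q) from hx)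
      show π x ∈ zpowers (π q)
      rw [map_mul, map_mul, map_inv] at hi
      have : π x = π q ^ (-i) := by
        have h2 := h1 (-i)
        rw [neg_neg, hi] at h2
        exact (mul_left_cancel (mul_right_cancel h2)).symm
      rw [this]; exact zpow_mem (mem_zpowers _) _
  have hside : ∀ (w : G) (R₀ : Sylow 2 G), w ∈ (R₀ : Subgroup G) →
      π w * π v * (π w)⁻¹ = (π v)⁻¹ → (∀ R : Sylow 2 G, w ∈ (R : Subgroup G) → R = R₀) →
      q ∈ (R₀ : Subgroup G) := by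
    intro w R₀ hw hwv huniq
    obtain ⟨R, hR⟩ := (hU.to_sup_of_normal_left' (K := zpowers w)
      (R₀.isPGroup'.to_le (zpowers_le.mpr hw)) (zpowers_le.mpr (hnorm w hwv))).exists_le_sylow
    rw [← huniq R (hR (mem_sup_right (mem_zpowers w)))]
    exact hR (mem_sup_left hqU)
  have hqS : q ∈ (S : Subgroup G) := hside t S htS
    (by rw [hv, map_mul, mul_inv_rev, hti, hji, ← mul_assoc, hπt, one_mul])
    fun R hR => uniq_outer hd htC hR htS
  have hqT : q ∈ (T : Subgroup G) := hside j T hjT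
    (by rw [hv, map_mul, mul_inv_rev, hti, hji, mul_assoc, mul_assoc, hπj, mul_one])
    fun R hR => hj.uniq hd hR hjT
  exact hne (uniq_outer hd hqC hqT hqS)

end Cfsg.Agent.CyclicInt67
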