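import Mathlib
import Cfsg.Agent.Lib.CyclicIntCore67

/-!
Cyclic Sylow 2-intersections: the solvable radical, given that groups of odd order are solvable.
-/

set_option autoImplicit false
set_option linter.style.haveILetI false

namespace Cfsg.Agent.CyclicInt67

open Subgroup
open scoped Pointwise commutatorElement

universe u

variable {G : Type u} [Group G] [Finite G]

/-- Odd-order solvability, as a hypothesis. -/
def OddSolv : Prop := ∀ (X : Type u) [Group X] [Finite X], Odd (Nat.card X) → Group.IsSolvable X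

variable {Q : Subgroup G} {z y : G}

/-- A 2-group with a central element of order 4 and one involution is cyclic. -/
theorem isCyclic_of_unique {P : Type*} [Group P] [Finite P] (hP : IsPGroup 2 P) {z y : P}
    (hz2 : z * z = 1) (hz1 : z ≠ 1) (hy : y * y = z) (hyc : ∀ p, p * y = y * p)
    (huniq : ∀ w : P, w * w = 1 → w = 1 ∨ w = z) : IsCyclic P := by
  haveI := Fact.mk Nat.prime_two
  obtain ⟨A, hAn, -, hAc, hAcent⟩ := PGroupsCyclic.exists_selfCentralizing hP (⊤ : Subgroup P)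
  haveI := hAn
  rw [top_inf_eq] at hAcent
  have hyA : y ∈ A := hAcent ▸ mem_centralizer_iff.mpr fun a _ => hyc a
  have hzA : z ∈ A := hy ▸ mul_mem hyA hyA
  have hsq : ∀ w : P, w ^ 2 = 1 → w ∈ zpowers z := fun w hw => by
    rcases huniq w (by rw [← pow_two, hw]) with rfl | rfl
    · exact one_mem _
    · exact mem_zpowers _
  have hzo : orderOf z ≤ 2 :=
    Nat.le_of_dvd two_pos (orderOf_dvd_of_pow_eq_one (by rw [pow_two, hz2]))
  have hAcyc := PGroupsCyclic.isCyclic_subgroup hP hAc hzA (fun g _ hg => hsq g hg) hzo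
  by_cases hAtop : A = ⊤
  · subst hAtop
    exact isCyclic_of_surjective (Subgroup.topEquiv (G := P)).toMonoidHom (MulEquiv.surjective _)
  exfalso
  obtain ⟨x, rfl⟩ : ∃ x, zpowers x = A := by
    obtain ⟨g, hg⟩ := hAcyc.exists_generator
    exact ⟨g, le_antisymm (zpowers_le.mpr g.2) fun a ha => by
      obtain ⟨k, hk⟩ := mem_zpowers_iff.mp (hg ⟨a, ha⟩)
      exact mem_zpowers_iff.mpr ⟨k, congrArg Subtype.val hk⟩⟩
  obtain ⟨e, he⟩ := IsPGroup.iff_orderOf.mp hP x
  obtain ⟨n, rfl⟩ : ∃ n, e = n + 1 := by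
    refine Nat.exists_eq_add_of_le' (Nat.one_le_iff_ne_zero.mpr fun h0 => hz1 ?_)
    rw [h0, pow_zero, orderOf_eq_one_iff] at he
    rw [he, zpowers_one_eq_bot, mem_bot] at hzA
    exact hzA
  obtain ⟨M, hMn, hle, -, hcard⟩ := PGroupsBasic.exists_normal_succ hP (M := zpowers x) (N := ⊤)
    (lt_top_iff_ne_top.mpr hAtop)
  obtain ⟨g, hgM, hg⟩ : ∃ g ∈ M, g ∉ zpowers x := by
    refine SetLike.not_le_iff_exists.mp fun hMle => ?_
    have := Subgroup.card_le_of_le hMle
    rw [hcard] at this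
    have := Nat.card_pos (α := zpowers x)
    omega
  have hg2 : g ^ 2 ∈ zpowers x := by
    have hidx : ((zpowers x).subgroupOf M).index = 2 := by
      have := relIndex_mul_relIndex ⊥ (zpowers x) M bot_le hle
      rw [relIndex_bot_left, relIndex_bot_left, hcard] at this
      exact Nat.eq_of_mul_eq_mul_left Nat.card_pos this
    have h1 := ((zpowers x).subgroupOf M).pow_index_mem ⟨g, hgM⟩
    rwa [hidx, mem_subgroupOf] at h1
  obtain ⟨hinv, -⟩ := PGroupsCyclic.inverts_of_unique_involution he hAn hAcent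
    (fun w hw => (zpowers_le.mpr hzA : zpowers z ≤ zpowers x) (hsq w hw)) hg hg2
  obtain ⟨i, hi⟩ := mem_zpowers_iff.mp hyA
  have h1 : g * y * g⁻¹ = y⁻¹ := by rw [← hi, ← conj_zpow, hinv, inv_zpow]
  rw [hyc, mul_inv_cancel_right, eq_inv_iff_mul_eq_one, hy] at h1
  exact hz1 h1


/-- Some involution of the centralizer lies outside `Q`. -/
theorem exists_inv (hd : Setup Q z y) (hCns : ¬ Group.IsSolvable ↥(centralizer (Q : Set G)))
    (hCO : Cfsg.pPrimeCore 2 ↥(centralizer (Q : Set G)) = ⊥) : ∃ j, Inv Q j := by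
  haveI := Fact.mk Nat.prime_two
  by_contra hno
  push Not at hno
  set C := centralizer (Q : Set G)
  have hyC : y ∈ C := mem_centralizer_iff.mpr fun w hw => commute_of_isCyclic hd.hQc hw hd.hyQ
  have hzC : z ∈ C := hd.hy ▸ mul_mem hyC hyC
  obtain ⟨P⟩ : Nonempty (Sylow 2 ↥C) := inferInstance
  have hQP : Q.subgroupOf C ≤ (P : Subgroup C) := by
    haveI := hd.hQn
    exact le_trans (HallCore.le_pCore (hd.hQ2.comap_subtype)) (HallCore.pCore_le_sylow P)
  have hcyc : IsCyclic (P : Subgroup C) := by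
    refine isCyclic_of_unique P.isPGroup' (z := ⟨⟨z, hzC⟩, hQP hd.hzQ⟩) (y := ⟨⟨y, hyC⟩, hQP hd.hyQ⟩)
      (Subtype.ext (Subtype.ext hd.hz2))
      (fun e => hd.hz1 (congrArg (fun w : (P : Subgroup C) => ((w : C) : G)) e))
      (Subtype.ext (Subtype.ext hd.hy)) (fun p => Subtype.ext (Subtype.ext ?_)) fun w hw => ?_
    · exact commute_Q p.1.2 hd.hyQ
    · have hw' : ((w : C) : G) * ((w : C) : G) = 1 :=
        congrArg (fun w : (P : Subgroup C) => ((w : C) : G)) hw
      by_cases hw1 : ((w : C) : G) = 1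
      · exact .inl (Subtype.ext (Subtype.ext hw1))
      · refine .inr (Subtype.ext (Subtype.ext ?_))
        have hwQ : ((w : C) : G) ∈ Q := by
          by_contra h
          exact hno _ ⟨(w : C).2, h, hw'⟩
        exact eq_of_sq_eq_one hd.hQc hwQ hd.hzQ hw' hd.hz2 hw1 hd.hz1
  have hmin : (Nat.card ↥C).minFac = 2 := by
    rw [Nat.minFac_eq_two_iff]
    have h2 : orderOf (⟨z, hzC⟩ : C) = 2 :=
      orderOf_eq_prime (Subtype.ext (by simpa [pow_two] using hd.hz2))
        (fun e => hd.hz1 (congrArg Subtype.val e))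
    exact h2 ▸ orderOf_dvd_natCard _
  have hcompl := IsCyclic.isComplement' hmin hcyc
  rw [ZStarBasic.eq_bot_of_normal_odd hCO
    (MonoidHom.transferSylow P (IsCyclic.normalizer_le_centralizer hmin hcyc)).ker (by
    rw [← hcompl.index_eq_card]
    exact Nat.not_even_iff_odd.1 fun he => P.not_dvd_index he.two_dvd),
    Subgroup.isComplement'_bot_left] at hcompl
  apply hCns
  haveI : Group.IsNilpotent ↥C := by
    have h : IsPGroup 2 (⊤ : Subgroup C) := hcompl ▸ P.isPGroup'
    exact (h.of_equiv Subgroup.topEquiv).isNilpotent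
  infer_instance

/-- An element of `C ∖ Q` isolated modulo `Q` is impossible. -/
theorem not_isolated (hd : Setup Q z y) (hQcore : Cfsg.pCore 2 G = Q)
    (hCO : Cfsg.pPrimeCore 2 ↥(centralizer (Q : Set G)) = ⊥) {x : G}
    (hx : x ∈ centralizer (Q : Set G)) (hxQ : x ∉ Q) (hx2 : x * x ∈ Q)
    (hiso : ∀ g ∈ centralizer (Q : Set G), ⁅x, g * x * g⁻¹⁆ ∈ Q → x⁻¹ * (g * x * g⁻¹) ∈ Q) :
    False := by
  haveI := Fact.mk Nat.prime_two
  haveI := hd.hQn
  set C := centralizer (Q : Set G)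
  set Q' := Q.subgroupOf C
  haveI : Q'.Normal := Subgroup.normal_subgroupOf
  have hQ'2 : IsPGroup 2 Q' := hd.hQ2.comap_subtype
  have hQ'Z : Q' ≤ center C := fun q hq =>
    mem_center_iff.mpr fun c => Subtype.ext (commute_Q c.2 hq)
  set π := QuotientGroup.mk' Q'
  set w := π ⟨x, hx⟩
  have hw1 : w ≠ 1 := fun e => hxQ ((QuotientGroup.eq_one_iff (⟨x, hx⟩ : C)).mp e)
  have hw2 : orderOf w = 2 := orderOf_eq_prime (by
    rw [← map_pow]; exact (QuotientGroup.eq_one_iff _).mpr (by rw [pow_two]; exact hx2)) hw1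
  have hisoq : Cfsg.IsIsolatedInvolution w := by
    refine ⟨hw2, fun g hg => ?_⟩
    obtain ⟨g, rfl⟩ := QuotientGroup.mk'_surjective Q' g
    have h1 : π ⁅(⟨x, hx⟩ : C), g * ⟨x, hx⟩ * g⁻¹⁆ = 1 := by
      rw [map_commutatorElement, map_mul, map_mul, map_inv]
      exact commutatorElement_eq_one_iff_commute.mpr hg
    have h1' : ⁅(⟨x, hx⟩ : C), g * ⟨x, hx⟩ * g⁻¹⁆ ∈ Q' := (QuotientGroup.eq_one_iff _).mp h1
    have h2 := hiso g g.2 (mem_subgroupOf.mp h1')
    have h3 : π ((⟨x, hx⟩ : C)⁻¹ * (g * ⟨x, hx⟩ * g⁻¹)) = 1 := (QuotientGroup.eq_one_iff _).mpr h2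
    rw [map_mul, map_inv, inv_mul_eq_one, map_mul, map_mul, map_inv] at h3
    exact h3.symm
  have hwc := ZStarTheorem.mem_center_of_isolated hisoq
    (ZStarFusion.pPrimeCore_quotient_eq_bot hQ'2 hQ'Z hCO)
  have hn : (zpowers w).Normal := ⟨fun n hn g => by
    rwa [mem_center_iff.1 ((zpowers_le.2 hwc) hn) g, mul_inv_cancel_right]⟩
  have hM : IsPGroup 2 ((zpowers w).comap π) := IsPGroup.comap_of_ker_isPGroup
    (IsPGroup.of_card (n := 1) (by rw [Nat.card_zpowers, hw2, pow_one])) π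
    (by rw [QuotientGroup.ker_mk']; exact hQ'2)
  haveI := hn.comap π
  have h1 : (Cfsg.pCore 2 ↥C).map C.subtype ≤ Q := by
    haveI := HallCore.pCore_characteristic 2 ↥C
    haveI : C.Normal := inferInstance
    haveI : ((Cfsg.pCore 2 ↥C).map C.subtype).Normal := inferInstance
    exact (HallCore.le_pCore ((HallCore.isPGroup_pCore 2 ↥C).map C.subtype)).trans hQcore.le
  exact hxQ (h1 ⟨⟨x, hx⟩, HallCore.le_pCore hM (mem_zpowers w), rfl⟩)

omit [Finite G] in
theorem mem_coset_two {M Q₀ : Subgroup G} {a b : G} (hidx : (Q₀.subgroupOf M).index = 2)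
    (ha : a ∈ M) (hb : b ∈ M) (ha' : a ∉ Q₀) (hb' : b ∉ Q₀) : a⁻¹ * b ∈ Q₀ := by
  have h := (Subgroup.mul_mem_iff_of_index_two hidx (a := (⟨a, ha⟩ : M)⁻¹) (b := ⟨b, hb⟩)).mpr
  simp only [mem_subgroupOf, InvMemClass.coe_inv, Subgroup.coe_mul, inv_mem_iff] at h
  exact h (iff_of_false ha' hb')

/-- The radical statement for `O(G) = 1`. -/
theorem main_core (hFT : OddSolv.{u}) (hInt : CycInt G) (hns : ¬ Group.IsSolvable G)
    (hO : Cfsg.pPrimeCore 2 G = ⊥) :
    IsCyclic ↥(Cfsg.pCore 2 G) ∧ Cfsg.pCore 2 G ≤ center G ∧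
      ∀ N : Subgroup G, N.Normal → Group.IsSolvable ↥N → N ≤ Cfsg.pCore 2 G := by
  haveI := Fact.mk Nat.prime_two
  set Q := Cfsg.pCore 2 G with hQdef
  haveI hQn : Q.Normal := HallCore.pCore_normal 2 G
  have hQ2 : IsPGroup 2 Q := HallCore.isPGroup_pCore 2 G
  obtain ⟨S⟩ : Nonempty (Sylow 2 G) := inferInstance
  obtain ⟨h, hh⟩ : ∃ h, h ∉ normalizer ((S : Subgroup G) : Set G) := by
    by_contra hall
    push Not at hall
    haveI : (S : Subgroup G).Normal :=
      Subgroup.normalizer_eq_top_iff.mp (eq_top_iff.mpr fun g _ => hall g)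
    apply hns
    haveI : Group.IsNilpotent ↥(S : Subgroup G) := S.isPGroup'.isNilpotent
    haveI := hFT (G ⧸ (S : Subgroup G)) (by
      rw [← Subgroup.index_eq_card, ← Nat.not_even_iff_odd, even_iff_two_dvd]; exact S.not_dvd_index)
    exact (Group.isSolvable_iff_subgroup_quotient (S : Subgroup G)).mpr
      ⟨inferInstance, inferInstance⟩
  have hne : (h • S : Sylow 2 G) ≠ S := fun e => hh (Sylow.smul_eq_iff_mem_normalizer.mp e)
  have hQS : ∀ T : Sylow 2 G, Q ≤ (T : Subgroup G) := HallCore.pCore_le_sylow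
  have hQc : IsCyclic Q := by
    haveI := hInt _ _ hne
    exact Subgroup.isCyclic_of_le (le_inf (hQS (h • S)) (hQS S))
  obtain ⟨hk, hcomm⟩ := action_facts hQ2 hQc
  set C := centralizer (Q : Set G) with hCdef
  haveI : C.Normal := inferInstance
  -- solvable normal subgroups lie in `Q`
  have hN : ∀ N : Subgroup G, N.Normal → Group.IsSolvable ↥N → N ≤ Q := by
    intro N hNn hNs
    refine HallCore.le_pCore ?_
    have hF : (Cfsg.fittingSubgroup ↥N).map N.subtype ≤ Q := by
      rw [ComponentsP.fitting_eq_pCore_of_bot (p := 2) (ZStarBasic.pPrimeCore_normal_eq_bot hO N)]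
      haveI := HallCore.pCore_characteristic 2 ↥N
      haveI : ((Cfsg.pCore 2 ↥N).map N.subtype).Normal := inferInstance
      exact HallCore.le_pCore ((HallCore.isPGroup_pCore 2 ↥N).map N.subtype)
    intro x
    obtain ⟨k, hk⟩ := hk x
    have h1 : x ^ 2 ^ k ∈ centralizer (Cfsg.fittingSubgroup ↥N : Set ↥N) := by
      rw [mem_centralizer_iff]
      intro f hf
      exact Subtype.ext (mem_centralizer_iff.mp hk f (hF ⟨f, hf, rfl⟩))
    have h2 := hF ⟨_, ComponentsFitting.centralizer_fitting_le_of_solvable h1, rfl⟩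
    obtain ⟨l, hl⟩ := hQ2 ⟨_, h2⟩
    refine ⟨k + l, Subtype.ext ?_⟩
    have := congrArg Subtype.val hl
    rw [pow_add, pow_mul]
    simpa using this
  refine ⟨hQc, ?_, hN⟩
  suffices C = ⊤ by
    intro q hq
    rw [mem_center_iff]
    intro g
    exact (mem_centralizer_iff.mp (show g ∈ C from this ▸ mem_top g) q hq).symm
  by_contra hCtop
  have hCns : ¬ Group.IsSolvable ↥C := by
    intro hs
    apply hns
    haveI : Group.IsSolvable (G ⧸ C) := Group.isSolvable_of_comm fun a b => by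
      obtain ⟨a, rfl⟩ := QuotientGroup.mk'_surjective C a
      obtain ⟨b, rfl⟩ := QuotientGroup.mk'_surjective C b
      rw [← commutatorElement_eq_one_iff_mul_comm, ← map_commutatorElement]
      refine (QuotientGroup.eq_one_iff _).mpr (hcomm ?_)
      rw [_root_.commutator_def]
      exact commutator_mem_commutator (mem_top a) (mem_top b)
    exact (Group.isSolvable_iff_subgroup_quotient C).mpr ⟨hs, inferInstance⟩
  have hCO : Cfsg.pPrimeCore 2 ↥C = ⊥ := ZStarBasic.pPrimeCore_normal_eq_bot hO C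
  -- the data
  obtain ⟨g₀, hg₀'⟩ := hQc.exists_generator
  have hg₀ : zpowers (g₀ : G) = Q := le_antisymm (zpowers_le.mpr g₀.2) fun a ha => by
    obtain ⟨i, hi⟩ := mem_zpowers_iff.mp (hg₀' ⟨a, ha⟩)
    exact mem_zpowers_iff.mpr ⟨i, congrArg Subtype.val hi⟩
  obtain ⟨n, hn⟩ := IsPGroup.iff_card.mp hQ2
  have hn2 : 2 ≤ n := by
    by_contra hlt
    apply hCtop
    rw [eq_top_iff]
    intro g _
    rw [mem_centralizer_iff]
    intro q hq
    by_cases hq1 : q = 1
    · simp [hq1]
    have hcard : Nat.card Q ≤ 2 := by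
      rw [hn]; exact (Nat.pow_le_pow_right two_pos (by omega : n ≤ 1)).trans (by norm_num)
    have hc : g * q * g⁻¹ ∈ Q := Normal.conj_mem inferInstance q hq g
    classical
    haveI := Fintype.ofFinite Q
    rw [Nat.card_eq_fintype_card] at hcard
    by_contra hne'
    have hne'' : g * q * g⁻¹ ≠ q := fun e => hne' (mul_inv_eq_iff_eq_mul.mp e).symm
    have : ({1, ⟨q, hq⟩, ⟨_, hc⟩} : Finset Q).card = 3 := by
      rw [Finset.card_insert_of_notMem (by
        simp only [Finset.mem_insert, Finset.mem_singleton, Subtype.ext_iff, OneMemClass.coe_one, not_or]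
        refine ⟨fun e => hq1 e.symm, fun e => hq1 ?_⟩
        have := congrArg (fun w => g⁻¹ * w * g) e.symm
        simpa [mul_assoc] using this),
        Finset.card_pair (by simp [Subtype.ext_iff]; exact Ne.symm hne'')]
    have := Finset.card_le_univ ({1, ⟨q, hq⟩, ⟨_, hc⟩} : Finset Q)
    omega
  have hord : orderOf (g₀ : G) = 2 ^ n := by rw [← Nat.card_zpowers, hg₀, hn]
  obtain ⟨m, rfl⟩ : ∃ m, n = m + 2 := ⟨n - 2, by omega⟩
  set y := (g₀ : G) ^ 2 ^ m with hydef
  set z := y * y with hzdef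
  have hz2 : z * z = 1 := by
    rw [hzdef, hydef, ← pow_add, ← pow_add, show 2 ^ m + 2 ^ m + (2 ^ m + 2 ^ m) = 2 ^ (m + 2) by ring,
      ← hord, pow_orderOf_eq_one]
  have hz1 : z ≠ 1 := by
    rw [hzdef, hydef, ← pow_add, Ne, ← orderOf_dvd_iff_pow_eq_one, hord]
    intro hd
    have h4 : 2 ^ (m + 2) = 4 * 2 ^ m := by ring
    have := Nat.le_of_dvd (by positivity) hd
    have : 0 < 2 ^ m := by positivity
    omega
  have hyQ : y ∈ Q := pow_mem g₀.2 _
  have hd : Setup Q z y := ⟨hInt, hQn, hQ2, hQc, hQS, mul_mem hyQ hyQ, hz2, hz1, hyQ, rfl⟩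
  -- an element of S outside C
  obtain ⟨g₁, hg₁⟩ : ∃ g, g ∉ C := by
    by_contra hall
    push Not at hall
    exact hCtop (eq_top_iff.mpr fun g _ => hall g)
  obtain ⟨a, l, hl, hal⟩ := Nat.exists_eq_two_pow_mul_odd (orderOf_pos g₁).ne'
  obtain ⟨R, hR⟩ := (show IsPGroup 2 (zpowers (g₁ ^ l)) from by
    obtain ⟨j, -, hj⟩ := (Nat.dvd_prime_pow Nat.prime_two).mp
      (orderOf_dvd_of_pow_eq_one (show (g₁ ^ l) ^ 2 ^ a = 1 by
        rw [← pow_mul, mul_comm, ← hal, pow_orderOf_eq_one]))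
    exact IsPGroup.of_card (n := j) (by rw [Nat.card_zpowers, hj])).exists_le_sylow
  obtain ⟨g₂, hg₂⟩ := MulAction.exists_smul_eq G R S
  have hoddC : ∀ g : G, ∀ l : ℕ, Odd l → g ^ l ∈ C → g ∈ C := by
    intro g l hl hgl
    obtain ⟨k, hk⟩ := hk g
    have hg : g ^ Nat.gcd l (2 ^ k) ∈ C := by
      rw [← zpow_natCast, Nat.gcd_eq_gcd_ab, zpow_add, zpow_mul, zpow_mul, zpow_natCast, zpow_natCast]
      exact mul_mem (zpow_mem hgl _) (zpow_mem hk _)
    rwa [(Nat.coprime_two_right.mpr hl).pow_right k, pow_one] at hg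
  have hk₀ : ∃ k ∈ (S : Subgroup G), k ∉ C := by
    refine ⟨g₂ * g₁ ^ l * g₂⁻¹, ?_, fun hc => hg₁ (hoddC g₁ l hl ?_)⟩
    · rw [← hg₂]; exact mem_smul (hR (mem_zpowers _))
    · have := Normal.conj_mem (H := C) inferInstance _ hc g₂⁻¹
      simpa [mul_assoc] using this
  obtain ⟨k₀, hk₀S, hk₀C⟩ := hk₀
  -- a complement of S in its normalizer
  set NS := normalizer ((S : Subgroup G) : Set G) with hNS
  have hSN : (S : Subgroup G) ≤ NS := le_normalizer
  obtain ⟨D', hD'⟩ := Subgroup.exists_right_complement'_of_coprime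
    (N := (S : Subgroup G).subgroupOf NS) (by
      obtain ⟨s, hs⟩ := IsPGroup.iff_card.mp S.isPGroup'
      rw [Nat.card_congr (subgroupOfEquivOfLe hSN).toEquiv, hs]
      exact ((Nat.Prime.coprime_iff_not_dvd Nat.prime_two).mpr
        fun h => S.not_dvd_index (h.trans (relIndex_dvd_index_of_le hSN))).pow_left s)
  set D := D'.map NS.subtype with hDdef
  have hDodd : Odd (Nat.card D) := by
    rw [hDdef, ← Nat.card_congr (D'.equivMapOfInjective _ NS.subtype_injective).toEquiv,
      ← hD'.symm.index_eq_card, ← Nat.not_even_iff_odd, even_iff_two_dvd]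
    exact fun h => S.not_dvd_index (h.trans (relIndex_dvd_index_of_le hSN))
  have hDN : D ≤ NS := map_subtype_le _
  have hDC : D ≤ C := fun d hd' => hoddC d (Nat.card D) hDodd (by
    rw [show d ^ Nat.card D = 1 from congrArg Subtype.val (pow_card_eq_one' (x := (⟨d, hd'⟩ : D)))]
    exact one_mem _)
  have hSD : ∀ g ∈ NS, ∃ σ ∈ (S : Subgroup G), ∃ d ∈ D, σ * d = g := by
    intro g hg
    obtain ⟨⟨⟨σ, hσ⟩, ⟨d, hd'⟩⟩, he⟩ := hD'.2 ⟨g, hg⟩
    exact ⟨σ, hσ, d, ⟨d, hd', rfl⟩, congrArg Subtype.val he⟩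
  -- an element of S outside C commuting with D
  set SC := (S : Subgroup G) ⊓ C with hSC
  obtain ⟨s, hsD, hks⟩ := CoprimeAction.exists_fixed_mem_coset (A := D) (D := SC)
    (fun d hd' => mem_normalizer_iff.mpr fun w => ⟨fun hw =>
        ⟨(mem_normalizer_iff.mp (hDN hd') w).mp hw.1, Normal.conj_mem inferInstance w hw.2 d⟩,
      fun hw => ⟨(mem_normalizer_iff.mp (hDN hd') w).mpr hw.1, by
        have := Normal.conj_mem inferInstance _ hw.2 d⁻¹
        simpa [mul_assoc] using this⟩⟩)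
    (by
      obtain ⟨j, hj⟩ := IsPGroup.iff_card.mp (S.isPGroup'.to_le (inf_le_left : SC ≤ _))
      rw [hj]; exact (Nat.coprime_two_right.mpr hDodd).pow_right j)
    (Or.inr (by
      haveI : Group.IsNilpotent ↥SC := (S.isPGroup'.to_le (inf_le_left : SC ≤ _)).isNilpotent
      infer_instance)) k₀ (fun d hd' => by
    refine ⟨?_, ?_⟩
    · rw [show k₀⁻¹ * d * k₀ * d⁻¹ = k₀⁻¹ * (d * k₀ * d⁻¹) by group]
      exact (S : Subgroup G).mul_mem (inv_mem hk₀S) ((mem_normalizer_iff.mp (hDN hd') k₀).mp hk₀S)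
    · refine hcomm ?_
      rw [_root_.commutator_def, show k₀⁻¹ * d * k₀ * d⁻¹ = ⁅k₀⁻¹, d⁆ by
        simp [commutatorElement_def]]
      exact commutator_mem_commutator (mem_top _) (mem_top _))
  have hsS : s ∈ (S : Subgroup G) := by
    have := (S : Subgroup G).mul_mem hk₀S hks.1
    rwa [mul_inv_cancel_left] at this
  have hsC : s ∉ C := fun h' => hk₀C (by
    have := C.mul_mem h' (inv_mem hks.2)
    simpa using this)
  -- its last power outside Q
  obtain ⟨kk, hkk⟩ := two_pow_of_mem hsS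
  have hex : ∃ k, s ^ 2 ^ k ∈ Q := ⟨kk, hkk ▸ one_mem _⟩
  classical
  have hk1 : 1 ≤ Nat.find hex := by
    by_contra h0
    have := Nat.find_spec hex
    rw [show Nat.find hex = 0 by omega, pow_zero, pow_one] at this
    exact hsC (mem_centralizer_iff.mpr fun w hw => commute_of_isCyclic hQc hw this)
  set i := s ^ 2 ^ (Nat.find hex - 1) with hidef
  have hiQ : i ∉ Q := Nat.find_min hex (by omega)
  have hi2 : i * i ∈ Q := by
    rw [hidef, ← pow_add, ← two_mul, ← pow_succ', show Nat.find hex - 1 + 1 = Nat.find hex by omega]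
    exact Nat.find_spec hex
  have hiS : i ∈ (S : Subgroup G) := (S : Subgroup G).pow_mem hsS _
  obtain ⟨j₁, hj₁⟩ := exists_inv hd hCns hCO
  obtain ⟨e₀, he₀, he₀S⟩ : ∃ e, Inv Q e ∧ e ∈ (S : Subgroup G) := by
    obtain ⟨T, hT⟩ := (IsPGroup.of_card (n := 1) (by
      rw [Nat.card_zpowers, pow_one]
      exact orderOf_eq_prime (by rw [pow_two]; exact hj₁.2.2) hj₁.ne_one) :
      IsPGroup 2 (zpowers j₁)).exists_le_sylow
    obtain ⟨g, hg⟩ := MulAction.exists_smul_eq G T S
    exact ⟨_, hj₁.conj hd g, hg ▸ mem_smul (hT (mem_zpowers _))⟩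
  have hiC : i ∈ C := by
    by_contra hiC
    exact no_outer_involution hd hk hh he₀ he₀S hiS hiC hi2
  obtain ⟨v, hvQ, hv⟩ : ∃ v ∈ Q, v * v = i * i := by
    rcases sq_or_gen hQ2 hg₀ hi2 with h' | h'
    · exact h'
    · exfalso
      refine hsC (mem_centralizer_iff.mpr fun q hq => ?_)
      obtain ⟨m, rfl⟩ := mem_zpowers_iff.mp (h'.ge hq)
      exact (Commute.zpow_left (((Commute.self_pow s _).symm.mul_left (Commute.self_pow s _).symm :
        Commute (i * i) s)) m).eq
  set j := i * v⁻¹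
  have hj : Inv Q j := by
    refine ⟨C.mul_mem hiC (inv_mem (mem_centralizer_iff.mpr fun w hw => commute_of_isCyclic hQc hw hvQ)),
      fun h' => hiQ ?_, ?_⟩
    · have := Q.mul_mem h' hvQ
      rwa [inv_mul_cancel_right] at this
    · have hc : Commute i v⁻¹ := commute_Q hiC (inv_mem hvQ)
      calc i * v⁻¹ * (i * v⁻¹) = i * (v⁻¹ * i) * v⁻¹ := by group
        _ = (i * i) * (v⁻¹ * v⁻¹) := by rw [← hc.eq]; group
        _ = 1 := by rw [← hv]; group
  have hjS : j ∈ (S : Subgroup G) := mul_mem hiS (inv_mem (hQS S hvQ))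
  have hjD : ∀ d ∈ D, Commute d j := fun d hd' =>
    (Commute.pow_right (mem_centralizer_iff.mp hsD d hd' : Commute d s) _).mul_right
      (commute_Q (hDC hd') (inv_mem hvQ))
  -- SC is normal in NS; the central involutions modulo Q
  have hSCn : ∀ g ∈ NS, ∀ a ∈ SC, g * a * g⁻¹ ∈ SC := fun g hg a ha =>
    ⟨(mem_normalizer_iff.mp hg a).mp ha.1, Normal.conj_mem inferInstance a ha.2 g⟩
  let π := QuotientGroup.mk' Q
  have hπ : ∀ w : G, π w = 1 ↔ w ∈ Q := fun w => QuotientGroup.eq_one_iff w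
  let Cen : G → Prop := fun x =>
    x ∈ SC ∧ x ∉ Q ∧ x * x ∈ Q ∧ ∀ a ∈ SC, ⁅a, x⁆ ∈ Q
  have hCenConj : ∀ g ∈ NS, ∀ x, Cen x → Cen (g * x * g⁻¹) := by
    intro g hg x hx
    refine ⟨hSCn g hg x hx.1, fun h' => hx.2.1 ?_, ?_, fun a ha => ?_⟩
    · have := Normal.conj_mem inferInstance _ h' g⁻¹
      simpa [mul_assoc] using this
    · rw [show g * x * g⁻¹ * (g * x * g⁻¹) = g * (x * x) * g⁻¹ by group]
      exact Normal.conj_mem inferInstance _ hx.2.2.1 g
    · have h1 := Normal.conj_mem inferInstance _ (hx.2.2.2 _ (hSCn g⁻¹ (inv_mem hg) a ha)) g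
      rw [conjugate_commutatorElement] at h1
      simpa [mul_assoc] using h1
  have hCenMod : ∀ x w, Cen x → x⁻¹ * w ∈ Q → Cen w := by
    intro x w hx hxw
    have hπw : π w = π x := by
      have h1 := (hπ _).mpr hxw
      rw [map_mul, map_inv, inv_mul_eq_one] at h1
      exact h1.symm
    have hwS : w ∈ SC := by
      have := SC.mul_mem hx.1 (show x⁻¹ * w ∈ SC from
        ⟨hQS S hxw, mem_centralizer_iff.mpr fun q hq => commute_of_isCyclic hQc hq hxw⟩)
      rwa [mul_inv_cancel_left] at this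
    refine ⟨hwS, fun h' => hx.2.1 ?_, ?_, fun a ha => ?_⟩
    · rw [← hπ, ← hπw, hπ]; exact h'
    · rw [← hπ, map_mul, hπw, ← map_mul, hπ]; exact hx.2.2.1
    · rw [← hπ, map_commutatorElement, hπw, ← map_commutatorElement, hπ]; exact hx.2.2.2 a ha
  by_cases hA : ∃ e, Inv Q e ∧ Cen e
  · obtain ⟨e, he, heC⟩ := hA
    obtain ⟨g, hgN, hg⟩ := conj_any hd hh he hj heC.1.1 hjS
    have hjC : Cen j := hCenMod _ _ (hCenConj g hgN e heC) (by
      have := inv_mem hg
      simpa [mul_assoc] using this)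
    refine not_isolated hd rfl hCO hj.1 hj.2.1 hjC.2.2.1 fun g' hg' hcom => ?_
    set j' := g' * j * g'⁻¹ with hj'
    have hj'inv : Inv Q j' := hj.conj hd g'
    have hj'N : j' ∈ NS := mem_normalizer_of_inv hd hj hjS (mem_of_coset hd hjS (by
      rw [← hπ] at hcom ⊢
      rw [map_commutatorElement, commutatorElement_eq_one_iff_mul_comm] at hcom
      rw [map_mul, map_mul, map_mul, map_inv, map_inv, ← hcom, mul_inv_cancel_right,
        inv_mul_cancel]))
    have hj'S : j' ∈ (S : Subgroup G) :=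
      mem_sylow_of_normalizes hj'N 1 (by rw [pow_one, pow_two]; exact hj'inv.2.2)
    obtain ⟨σ, hσ, d, hd', rfl⟩ := hSD g' (mem_normalizer_of_inv hd hj hjS hj'S)
    have hσC : σ ∈ C := by
      have := C.mul_mem hg' (inv_mem (hDC hd')); rwa [mul_inv_cancel_right] at this
    have hd2 : d * j * d⁻¹ = j := by rw [(hjD d hd').eq, mul_inv_cancel_right]
    have := hjC.2.2.2 σ ⟨hσ, hσC⟩
    have e1 : j⁻¹ * j' = j⁻¹ * ⁅σ, j⁆ * j⁻¹⁻¹ := by
      rw [hj', show σ * d * j * (σ * d)⁻¹ = σ * (d * j * d⁻¹) * σ⁻¹ by group, hd2,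
        commutatorElement_def]
      group
    rw [e1]
    exact Normal.conj_mem inferInstance _ this _
  · push Not at hA
    -- the second type
    have hgen : ∀ x, Cen x → zpowers (x * x) = Q := by
      intro x hx
      rcases sq_or_gen hQ2 hg₀ hx.2.2.1 with ⟨w, hw, hwx⟩ | h'
      · exfalso
        have hwC : Commute x w⁻¹ := commute_Q hx.1.2 (inv_mem hw)
        refine hA (x * w⁻¹) ⟨C.mul_mem hx.1.2 (mem_centralizer_iff.mpr fun q hq =>
          commute_of_isCyclic hQc hq (inv_mem hw)), fun h'' => hx.2.1 ?_, ?_⟩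
          (hCenMod x _ hx (by rw [inv_mul_cancel_left]; exact inv_mem hw))
        · have := Q.mul_mem h'' hw
          rwa [inv_mul_cancel_right] at this
        · calc x * w⁻¹ * (x * w⁻¹) = x * (w⁻¹ * x) * w⁻¹ := by group
            _ = (x * x) * (w⁻¹ * w⁻¹) := by rw [← hwC.eq]; group
            _ = 1 := by rw [← hwx]; group
      · exact h'
    have huniq : ∀ x x', Cen x → Cen x' → x⁻¹ * x' ∈ Q := by
      intro x x' hx hx'
      by_contra hne'
      have hcom := hx'.2.2.2 x hx.1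
      have hπc : π x * π x' = π x' * π x := by
        rw [← hπ, map_commutatorElement, commutatorElement_eq_one_iff_mul_comm] at hcom
        exact hcom
      have hπ2 : π x * π x = 1 := by rw [← map_mul, hπ]; exact hx.2.2.1
      have hπ2' : π x' * π x' = 1 := by rw [← map_mul, hπ]; exact hx'.2.2.1
      have hp : Cen (x * x') := by
        refine ⟨SC.mul_mem hx.1 hx'.1, fun h' => hne' ?_, ?_, fun a ha => ?_⟩
        · rw [← hπ, map_mul, map_inv, inv_eq_of_mul_eq_one_right hπ2, ← map_mul, hπ]; exact h'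
        · rw [← hπ, map_mul, map_mul]
          calc π x * π x' * (π x * π x') = π x * (π x' * π x) * π x' := by group
            _ = (π x * π x) * (π x' * π x') := by rw [← hπc]; group
            _ = 1 := by rw [hπ2, hπ2', mul_one]
        · have h1 := (hπ _).mpr (hx.2.2.2 a ha)
          have h2 := (hπ _).mpr (hx'.2.2.2 a ha)
          rw [map_commutatorElement, commutatorElement_eq_one_iff_commute] at h1 h2
          rw [← hπ, map_commutatorElement, map_mul, commutatorElement_eq_one_iff_commute]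
          exact h1.mul_right h2
      -- its square would be a square in Q
      set c := ⁅x', x⁆ with hc
      have hcQ : c ∈ Q := hx.2.2.2 x' hx'.1
      have hcC : ∀ w ∈ Q, c * w = w * c := fun w hw => commute_of_isCyclic hQc hcQ hw
      have hc2 : c * c = 1 := by
        have h1 : x * (x' * x') * x⁻¹ = x' * x' := by
          rw [commute_Q hx.1.2 hx'.2.2.1, mul_inv_cancel_right]
        have hce : x * x' * x⁻¹ = c⁻¹ * x' := by
          rw [hc, commutatorElement_inv, commutatorElement_def]; group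
        have hcx : x' * c⁻¹ = c⁻¹ * x' := commute_Q hx'.1.2 (inv_mem hcQ)
        have h2 : c⁻¹ * c⁻¹ * (x' * x') = x' * x' := by
          calc c⁻¹ * c⁻¹ * (x' * x') = c⁻¹ * (c⁻¹ * x') * x' := by group
            _ = c⁻¹ * (x' * c⁻¹) * x' := by rw [hcx]
            _ = (c⁻¹ * x') * (c⁻¹ * x') := by group
            _ = (x * x' * x⁻¹) * (x * x' * x⁻¹) := by rw [hce]
            _ = x * (x' * x') * x⁻¹ := by group
            _ = x' * x' := h1
        rw [mul_eq_right, ← mul_inv_rev, inv_eq_one] at h2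
        exact h2
      have hp2 : (x * x') * (x * x') = (x * x) * (c * (x' * x')) := by
        have hce : x' * x = c * (x * x') := by rw [hc, commutatorElement_def]; group
        have hcx : x * c = c * x := commute_Q hx.1.2 hcQ
        calc (x * x') * (x * x') = x * (x' * x) * x' := by group
          _ = x * (c * (x * x')) * x' := by rw [hce]
          _ = (x * c) * x * (x' * x') := by group
          _ = (c * x) * x * (x' * x') := by rw [hcx]
          _ = (c * (x * x)) * (x' * x') := by group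
          _ = _ := by rw [hcC _ hx.2.2.1]; group
      -- squares are not generators
      obtain ⟨i₁, hi₁⟩ := mem_zpowers_iff.mp (hg₀.ge hx.2.2.1)
      obtain ⟨i₂, hi₂⟩ := mem_zpowers_iff.mp (hg₀.ge hx'.2.2.1)
      have hoddgen : ∀ i : ℤ, zpowers ((g₀ : G) ^ i) = Q → Odd i := by
        intro i hi
        rw [← Int.not_even_iff_odd]
        rintro ⟨t, rfl⟩
        obtain ⟨k, hk'⟩ := mem_zpowers_iff.mp (hi.ge g₀.2)
        rw [← zpow_mul] at hk'
        have h1 : (g₀ : G) ^ ((t + t) * k - 1) = 1 := by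
          rw [zpow_sub, zpow_one, hk', mul_inv_cancel]
        rw [← orderOf_dvd_iff_zpow_eq_one, hord] at h1
        obtain ⟨r, hr⟩ := h1
        push_cast at hr
        rw [pow_succ'] at hr
        have : (2 : ℤ) ∣ 1 := ⟨t * k - 2 ^ (m + 1) * r, by linear_combination -hr⟩
        norm_num at this
      obtain ⟨a, ha⟩ := hoddgen i₁ (by rw [hi₁]; exact hgen x hx)
      obtain ⟨b, hb⟩ := hoddgen i₂ (by rw [hi₂]; exact hgen x' hx')
      obtain ⟨u, hu, huc⟩ : ∃ u ∈ Q, u * u = c := by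
        by_cases hc1 : c = 1
        · exact ⟨1, one_mem _, by rw [hc1, mul_one]⟩
        · exact ⟨y, hyQ, (eq_of_sq_eq_one hQc hcQ hd.hzQ hc2 hz2 hc1 hz1).symm⟩
      obtain ⟨i₃, rfl⟩ := mem_zpowers_iff.mp (hg₀.ge hu)
      have := hoddgen (i₁ + (i₃ + i₃ + i₂)) (by
        rw [zpow_add, zpow_add, zpow_add, huc, hi₁, hi₂, ← hp2]; exact hgen _ hp)
      rw [ha, hb] at this
      exact (Int.not_even_iff_odd.mpr this) ⟨a + i₃ + b + 1, by ring⟩
    -- existence
    obtain ⟨x, hx⟩ : ∃ x, Cen x := by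
      have hP : IsPGroup 2 SC := S.isPGroup'.to_le inf_le_left
      haveI : (Q.subgroupOf SC).Normal := Subgroup.normal_subgroupOf
      have hlt : Q.subgroupOf SC < ⊤ := lt_top_iff_ne_top.mpr fun e =>
        hj.2.1 (show (⟨j, hjS, hj.1⟩ : SC) ∈ Q.subgroupOf SC from e ▸ mem_top _)
      obtain ⟨M, hMn, hle, -, hcard⟩ := PGroupsBasic.exists_normal_succ hP hlt
      have hidx : ((Q.subgroupOf SC).subgroupOf M).index = 2 := by
        have := relIndex_mul_relIndex ⊥ (Q.subgroupOf SC) M bot_le hle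
        rw [relIndex_bot_left, relIndex_bot_left, hcard] at this
        exact Nat.eq_of_mul_eq_mul_left Nat.card_pos this
      obtain ⟨x, hxM, hxQ⟩ : ∃ x ∈ M, x ∉ Q.subgroupOf SC := by
        refine SetLike.not_le_iff_exists.mp fun hMle => ?_
        have := Subgroup.card_le_of_le hMle
        rw [hcard] at this
        have := Nat.card_pos (α := Q.subgroupOf SC)
        omega
      refine ⟨x, x.2, fun h' => hxQ h', ?_, fun a ha => ?_⟩
      · have h1 := ((Q.subgroupOf SC).subgroupOf M).pow_index_mem ⟨x, hxM⟩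
        rw [hidx, mem_subgroupOf, mem_subgroupOf, pow_two] at h1
        exact h1
      · have hc : (⟨a, ha⟩ : SC) * x * (⟨a, ha⟩ : SC)⁻¹ ∈ M := hMn.conj_mem x hxM _
        have hc' : (⟨a, ha⟩ : SC) * x * (⟨a, ha⟩ : SC)⁻¹ ∉ Q.subgroupOf SC := fun h' => hxQ (by
          have := Normal.conj_mem inferInstance _ h' (⟨a, ha⟩ : SC)⁻¹
          simpa [mul_assoc] using this)
        have h1' := mem_coset_two hidx hxM hc hxQ hc'
        have h1 : (x : G)⁻¹ * (a * x * a⁻¹) ∈ Q := mem_subgroupOf.mp h1'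
        have h2 := Normal.conj_mem inferInstance _ h1 (x : G)
        rw [show (x : G) * ((x : G)⁻¹ * (a * x * a⁻¹)) * (x : G)⁻¹ = ⁅a, (x : G)⁆ by
          rw [commutatorElement_def]; group] at h2
        exact h2
    have hfix : ∀ g ∈ NS, x⁻¹ * (g * x * g⁻¹) ∈ Q := fun g hg => huniq x _ hx (hCenConj g hg x hx)
    refine not_isolated hd rfl hCO hx.1.2 hx.2.1 hx.2.2.1 fun g hg hcom => ?_
    set x' := g * x * g⁻¹ with hx'
    have hx'C : x' ∈ C := Normal.conj_mem inferInstance x hx.1.2 g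
    let N : Subgroup G :=
      { carrier := {a | a ∈ C ∧ ⁅a, x⁆ ∈ Q}
        one_mem' := ⟨one_mem _, by simp⟩
        mul_mem' := fun {a b} ha hb => ⟨mul_mem ha.1 hb.1, by
          have h1 := (hπ _).mpr ha.2
          have h2 := (hπ _).mpr hb.2
          rw [map_commutatorElement, commutatorElement_eq_one_iff_commute] at h1 h2
          rw [← hπ, map_commutatorElement, map_mul, commutatorElement_eq_one_iff_commute]
          exact h1.mul_left h2⟩
        inv_mem' := fun {a} ha => ⟨inv_mem ha.1, by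
          have h1 := (hπ _).mpr ha.2
          rw [map_commutatorElement, commutatorElement_eq_one_iff_commute] at h1
          rw [← hπ, map_commutatorElement, map_inv, commutatorElement_eq_one_iff_commute]
          exact h1.inv_left⟩ }
    have hNN : ∀ a ∈ N, x⁻¹ * (a * x * a⁻¹) ∈ Q := by
      intro a ha
      have := Normal.conj_mem inferInstance _ ha.2 x⁻¹
      rw [show x⁻¹ * ⁅a, x⁆ * x⁻¹⁻¹ = x⁻¹ * (a * x * a⁻¹) by
        rw [commutatorElement_def]; group] at this
      exact this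
    have hQN : Q ≤ N := fun q hq =>
      ⟨mem_centralizer_iff.mpr fun w hw => commute_of_isCyclic hQc hw hq, by
        rw [← hπ, map_commutatorElement, (hπ q).mpr hq, commutatorElement_one_left]⟩
    have hSCN : SC ≤ N := fun a ha => ⟨ha.2, hx.2.2.2 a ha⟩
    have hsyl : ∀ P : Subgroup G, IsPGroup 2 P → P ≤ N →
        ∃ b ∈ N, ∀ p ∈ P, b * p * b⁻¹ ∈ SC := by
      intro P hP hPN
      obtain ⟨P₁, hP₁⟩ := (hP.comap_subtype (K := N)).exists_le_sylow
      have hS1 : IsPGroup 2 (SC.subgroupOf N) := (S.isPGroup'.to_le inf_le_left).comap_subtype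
      obtain ⟨S₁, hS₁⟩ := hS1.exists_le_sylow
      obtain ⟨b, hb⟩ := MulAction.exists_smul_eq N P₁ S₁
      refine ⟨b, b.2, fun p hp => ?_⟩
      have hmem : b * ⟨p, hPN hp⟩ * b⁻¹ ∈ (S₁ : Subgroup N) := by
        have : MulAut.conj b • (⟨p, hPN hp⟩ : N) ∈ MulAut.conj b • (P₁ : Subgroup N) :=
          Subgroup.smul_mem_pointwise_smul _ _ _ (hP₁ hp)
        rw [← hb, Sylow.smul_def, Sylow.pointwise_smul_def]
        simpa [MulAut.smul_def] using this
      -- `S₁` is `SC`
      obtain ⟨R₁, hR₁⟩ := ((S₁.isPGroup'.map N.subtype)).exists_le_sylow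
      have hR : R₁ = S := by
        refine eq_of_noncyclic hInt (V := SC) ?_ ?_ inf_le_left
        · exact not_isCyclic_of_two (a := j) (b := z) ⟨hjS, hj.1⟩
            ⟨hQS S hd.hzQ, mem_centralizer_iff.mpr fun w hw => commute_of_isCyclic hQc hw hd.hzQ⟩
            hj.2.2 hz2 hj.ne_one hz1 (fun e => hj.2.1 (e ▸ hd.hzQ))
        · exact fun a ha => hR₁ ⟨⟨a, hSCN ha⟩, hS₁ ha, rfl⟩
      exact ⟨hR ▸ hR₁ ⟨_, hmem, rfl⟩, C.mul_mem (C.mul_mem b.2.1 (hPN hp).1) (inv_mem b.2.1)⟩
    -- move `x'` into `SC`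
    have hx'2 : IsPGroup 2 (zpowers x') := by
      obtain ⟨k, hk'⟩ := two_pow_of_mem hx.1.1
      obtain ⟨r, -, hr⟩ := (Nat.dvd_prime_pow Nat.prime_two).mp
        (orderOf_dvd_of_pow_eq_one (show x' ^ 2 ^ k = 1 by rw [hx', conj_pow, hk']; simp))
      exact IsPGroup.of_card (n := r) (by rw [Nat.card_zpowers, hr])
    have hx'N : x' ∈ N := ⟨hx'C, by
      rw [← hπ, map_commutatorElement, commutatorElement_eq_one_iff_mul_comm]
      rw [← hπ, map_commutatorElement, commutatorElement_eq_one_iff_mul_comm] at hcom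
      exact hcom.symm⟩
    obtain ⟨b, hbN, hb⟩ := hsyl _ hx'2 (zpowers_le.mpr hx'N)
    set x'' := b * x' * b⁻¹ with hx''
    have hx''S : x'' ∈ SC := hb x' (mem_zpowers _)
    -- suffices: x'' ∈ xQ
    suffices hgoal : x⁻¹ * x'' ∈ Q by
      have h1 := (hπ _).mpr hgoal
      have h2 := (hπ _).mpr (hNN b⁻¹ (inv_mem hbN))
      rw [map_mul, map_inv, inv_mul_eq_one] at h1
      rw [map_mul, map_inv, inv_mul_eq_one, inv_inv, map_mul, map_mul, map_inv] at h2
      rw [hx'', map_mul, map_mul, map_inv] at h1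
      rw [← hπ, map_mul, map_inv, inv_mul_eq_one]
      calc π x = (π b)⁻¹ * π x * π b := h2
        _ = (π b)⁻¹ * (π b * π x' * (π b)⁻¹) * π b := by rw [← h1]
        _ = π x' := by group
    by_contra hne'
    set f := (b * g)⁻¹ with hf
    have hfx'' : f * x'' * f⁻¹ = x := by rw [hf, hx'', hx']; group
    have hfC : f ∈ C := inv_mem (mul_mem hbN.1 hg)
    set U := Q ⊔ (zpowers x ⊔ zpowers x'') with hU
    have hUS : U ≤ SC := sup_le (fun q hq => ⟨hQS S hq,
      mem_centralizer_iff.mpr fun w hw => commute_of_isCyclic hQc hw hq⟩)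
      (sup_le (zpowers_le.mpr hx.1) (zpowers_le.mpr hx''S))
    have hUnc : ¬ IsCyclic U := by
      intro hc
      haveI := hc
      have e1 : orderOf x'' = orderOf x := by
        rw [hx'', orderOf_eq_orderOf_iff]
        intro n
        rw [hx', conj_pow, conj_pow, ← mul_inv_eq_one, inv_one, mul_one, conj_eq_one_iff, conj_eq_one_iff]
      have hx''U : x'' ∈ U := mem_sup_right (mem_sup_right (mem_zpowers _))
      have hxU : x ∈ U := mem_sup_right (mem_sup_left (mem_zpowers _))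
      have e2 : zpowers x'' = zpowers x :=
        PGroupsCyclic.eq_of_card_eq_of_isCyclic hc (zpowers_le.mpr hx''U) (zpowers_le.mpr hxU)
          (by rw [Nat.card_zpowers, Nat.card_zpowers, e1])
      obtain ⟨k, hk''⟩ := mem_zpowers_iff.mp (e2.le (mem_zpowers _))
      rcases Int.even_or_odd k with ⟨r, rfl⟩ | ⟨r, rfl⟩
      · have hx''Q : x'' ∈ Q := by
          rw [← hk'', ← two_mul, zpow_mul, zpow_two]; exact zpow_mem hx.2.2.1 r
        have := Normal.conj_mem (H := Q) inferInstance _ hx''Q f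
        rw [hfx''] at this
        exact hx.2.1 this
      · refine hne' ?_
        rw [← hk'', zpow_add_one, zpow_mul, zpow_two, ← commute_Q hx.1.2 (zpow_mem hx.2.2.1 r),
          inv_mul_cancel_left]
        exact zpow_mem hx.2.2.1 r
    -- image of U
    have hfU2 : IsPGroup 2 (U.map (MulAut.conj f).toMonoidHom) :=
      (S.isPGroup'.to_le (hUS.trans inf_le_left)).map _
    have hfUN : U.map (MulAut.conj f).toMonoidHom ≤ N := by
      rw [Subgroup.map_le_iff_le_comap, hU]
      refine sup_le (fun q hq => hQN (Normal.conj_mem inferInstance q hq f))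
        (sup_le (zpowers_le.mpr ⟨Normal.conj_mem inferInstance x hx.1.2 f, ?_⟩) (zpowers_le.mpr ?_))
      · have h1 := Normal.conj_mem inferInstance _ (hx.2.2.2 x'' hx''S) f
        rw [conjugate_commutatorElement, hfx''] at h1
        rw [← hπ, map_commutatorElement, commutatorElement_eq_one_iff_mul_comm] at h1 ⊢
        exact h1.symm
      · show f * x'' * f⁻¹ ∈ N
        rw [hfx'']; exact hSCN hx.1
    obtain ⟨b', hb'N, hb'⟩ := hsyl _ hfU2 hfUN
    have hgN : b' * f ∈ NS := mem_normalizer_of_map hInt hUnc (hUS.trans inf_le_left) fun v hv => by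
      have := (hb' _ ⟨v, hv, rfl⟩).1
      rwa [show b' * f * v * (b' * f)⁻¹ = b' * (f * v * f⁻¹) * b'⁻¹ by group]
    apply hne'
    have h1 := (hπ _).mpr (hfix _ (inv_mem hgN))
    have h2 := (hπ _).mpr (hNN b' hb'N)
    rw [map_mul, map_inv, inv_mul_eq_one] at h1 h2
    have hx''e : x'' = (b' * f)⁻¹ * (b' * x * b'⁻¹) * (b' * f) := by rw [← hfx'']; group
    rw [← hπ, map_mul, map_inv, inv_mul_eq_one, h1, hx''e]
    simp only [map_mul, map_inv, inv_inv, mul_inv_rev] at h2 ⊢
    rw [← h2]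

end Cfsg.Agent.CyclicInt67
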