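import Mathlib
import Cfsg.Prelude.Def_CaseTheorems
import Cfsg.Agent.Lib.CyclicIntMain67

/-!
Cyclic Sylow 2-intersections: the solvable radical modulo `O(G)` is cyclic and central.
-/

set_option autoImplicit false
set_option linter.style.haveILetI false

namespace Cfsg.Agent.CyclicInt67

open Subgroup
open scoped Pointwise

universe u

variable {G : Type u} [Group G] [Finite G]

/-- The hypothesis passes to quotients by normal subgroups of odd order. -/
theorem cycInt_quotient (hInt : CycInt G) (K : Subgroup G) [K.Normal] :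
    CycInt (G ⧸ K) := by
  haveI := Fact.mk Nat.prime_two
  set π := QuotientGroup.mk' K
  have hsurj : Function.Surjective π := QuotientGroup.mk'_surjective K
  have hlift : ∀ P : Sylow 2 (G ⧸ K), ∃ S : Sylow 2 G,
      (S : Subgroup G).map π = (P : Subgroup (G ⧸ K)) := by
    intro P
    obtain ⟨S, hS⟩ := Sylow.mapSurjective_surjective hsurj 2 P
    exact ⟨S, hS ▸ rfl⟩
  intro S' T' hne
  obtain ⟨S, hS⟩ := hlift S'
  obtain ⟨T, hT⟩ := hlift T'
  set H := (T' : Subgroup (G ⧸ K)).comap π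
  set U := (S : Subgroup G) ⊓ H
  have hTH : (T : Subgroup G) ≤ H := fun t ht => hT.le (mem_map_of_mem π ht)
  obtain ⟨R, hR⟩ := ((S.isPGroup'.to_le (inf_le_left : U ≤ _)).comap_subtype (K := H)).exists_le_sylow
  obtain ⟨a, ha⟩ := MulAction.exists_smul_eq H (T.subtype hTH) R
  have hUT : U ≤ (((a : G) • T : Sylow 2 G) : Subgroup G) := by
    intro u hu
    have h1 : (⟨u, hu.2⟩ : H) ∈ (R : Subgroup H) := hR hu
    rw [← ha, Sylow.smul_def, Sylow.pointwise_smul_def, Subgroup.mem_pointwise_smul_iff_inv_smul_mem] at h1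
    rw [Sylow.smul_def, Sylow.pointwise_smul_def, Subgroup.mem_pointwise_smul_iff_inv_smul_mem]
    simpa [MulAut.smul_def, Subgroup.mem_subgroupOf] using h1
  have hSa : S ≠ (a : G) • T := by
    intro e
    apply hne
    have h1 : (T' : Subgroup (G ⧸ K)).map (MulAut.conj (π a)).toMonoidHom = T' := by
      ext q
      constructor
      · rintro ⟨r, hr, rfl⟩
        exact mul_mem (mul_mem (show π a ∈ T' from a.2) hr) (inv_mem (show π a ∈ T' from a.2))
      · intro hq
        refine ⟨(π a)⁻¹ * q * π a, ?_, by simp [mul_assoc]⟩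
        exact mul_mem (mul_mem (inv_mem (show π a ∈ T' from a.2)) hq) (show π a ∈ T' from a.2)
    apply Sylow.ext
    rw [← hS, e, Sylow.smul_def, Sylow.pointwise_smul_def, ← h1, ← hT]
    ext q
    simp only [Subgroup.mem_map]
    constructor
    · rintro ⟨w, hw, rfl⟩
      rw [Subgroup.mem_pointwise_smul_iff_inv_smul_mem] at hw
      exact ⟨π ((MulAut.conj (a : G))⁻¹ • w), ⟨_, hw, rfl⟩, by simp [MulAut.smul_def, mul_assoc]⟩
    · rintro ⟨_, ⟨w, hw, rfl⟩, rfl⟩
      exact ⟨(a : G) * w * (a : G)⁻¹, Subgroup.smul_mem_pointwise_smul w (MulAut.conj (a : G)) _ hw,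
        by simp⟩
  have hcyc : IsCyclic U := by
    haveI := hInt S _ hSa
    exact Subgroup.isCyclic_of_le (le_inf inf_le_left hUT)
  have hmap : U.map π = (S' : Subgroup (G ⧸ K)) ⊓ (T' : Subgroup (G ⧸ K)) := by
    apply le_antisymm
    · rintro _ ⟨u, hu, rfl⟩
      exact ⟨hS.le (mem_map_of_mem π hu.1), hu.2⟩
    · rintro q ⟨hq1, hq2⟩
      rw [← hS] at hq1
      obtain ⟨s, hs, rfl⟩ := hq1
      exact ⟨s, ⟨hs, hq2⟩, rfl⟩
  rw [← hmap]
  haveI := hcyc
  exact isCyclic_of_surjective (π.subgroupMap U) (π.subgroupMap_surjective U)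

/-- The radical theorem. -/
theorem radical (hFT : OddSolv.{u}) (hns : ¬ Group.IsSolvable G) (hInt : CycInt G)
    (N : Subgroup G) [N.Normal] (hN : Group.IsSolvable ↥N) :
    IsCyclic ↥(N.map (QuotientGroup.mk' (Cfsg.oddCore G))) ∧
      IsPGroup 2 ↥(N.map (QuotientGroup.mk' (Cfsg.oddCore G))) ∧
      N.map (QuotientGroup.mk' (Cfsg.oddCore G)) ≤ Subgroup.center (G ⧸ Cfsg.oddCore G) := by
  haveI := HallCore.pPrimeCore_normal 2 G
  have hns' : ¬ Group.IsSolvable (G ⧸ Cfsg.oddCore G) := fun h => hns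
    ((Group.isSolvable_iff_subgroup_quotient (Cfsg.oddCore G)).mpr
      ⟨hFT _ ZStarTheorem.odd_card_pPrimeCore, h⟩)
  obtain ⟨hc, hz, hall⟩ := main_core hFT (cycInt_quotient hInt (Cfsg.oddCore G)) hns'
    (HallCore.pPrimeCore_quotient_self 2 G)
  have hle := hall (N.map (QuotientGroup.mk' (Cfsg.oddCore G)))
    (Subgroup.Normal.map inferInstance _ (QuotientGroup.mk'_surjective _))
    (Group.isSolvable_of_surjective (f := (QuotientGroup.mk' (Cfsg.oddCore G)).subgroupMap N)
      ((QuotientGroup.mk' (Cfsg.oddCore G)).subgroupMap_surjective N))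
  haveI := hc
  exact ⟨Subgroup.isCyclic_of_le hle, (HallCore.isPGroup_pCore 2 _).to_le hle, hle.trans hz⟩

end Cfsg.Agent.CyclicInt67
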