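import Cfsg.Agent.Lib.CyclicKappa42
import Cfsg.Agent.Lib.BlockKleinIso81
import Cfsg.Prelude.Def_BlockLocal

/-!
# Perfect isometries between blocks with cyclic defect groups of the same shape
-/

set_option autoImplicit false
set_option linter.unusedSectionVars false

namespace Cfsg.Agent.CyclicIsometry42

open Cfsg BlockTheoryLocalRing BlockTheoryCentre BlockTheoryIdem BlockContribBounds
  CyclicSetup42 CyclicAction42 CyclicShape42 CyclicKappa42

attribute [local instance] Classical.propDecidable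

universe u v

variable {p : ℕ} [Fact p.Prime] {M : Ideal AlgInt} {G : Type u} [Group G] [Fintype G]
  {B : Set (IrrCharacter G)} {P : Subgroup G} {e : ℕ} {L : Loc p M B P e}
  {G' : Type v} [Group G'] [Fintype G'] {B' : Set (IrrCharacter G')} {P' : Subgroup G'}
  {L' : Loc p M B' P' e}

theorem sum_fibre (S : Shape L) (F : IrrCharacter L.H → ℂ)
    (hF : ∀ ψ φ, orb L ψ φ → F ψ = F φ) (hM : IsPModular p M) {ψ : IrrCharacter L.H}
    (hψ : ψ ∈ moved L S.ψ₀) :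
    ∑ φ ∈ (moved L S.ψ₀).filter (fun φ => S.ζ φ = S.ζ ψ), F φ = (e : ℂ) * F ψ := by
  rw [Finset.filter_congr (q := fun φ => orb L ψ φ) fun φ hφ =>
      ⟨fun h => (S.ζorb ψ hψ φ hφ).1 h.symm, fun h => ((S.ζorb ψ hψ φ hφ).2 h).symm⟩,
    Finset.sum_congr rfl fun φ hφ => (hF ψ φ (Finset.mem_filter.1 hφ).2).symm, Finset.sum_const,
    nsmul_eq_mul]
  congr 2
  exact card_orb L hM S.base hψ

theorem kappa_orb (x : G) (ψ φ : IrrCharacter L.H) (h : orb L ψ φ) :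
    kapZ L x ψ = kapZ L x φ := by
  obtain ⟨g, -, rfl⟩ := h
  exact (kappa_tw L x g ψ).symm

/-- Blocks of the same shape are perfectly isometric. -/
theorem exists_isometry (hM : IsPModular p M) (S : Shape L) (S' : Shape L')
    (σ : IrrCharacter L'.H → IrrCharacter L.H) (hσb : Set.BijOn σ L'.b L.b)
    (hσ0 : σ S'.ψ₀ = S.ψ₀)
    (hσorb : ∀ ψ ∈ L'.b, ∀ φ ∈ L'.b, orb L (σ ψ) (σ φ) ↔ orb L' ψ φ)
    (hdiv : ∀ x : G, p ∣ orderOf x → ∀ y : G', p ∣ orderOf y →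
      MemLocalRing M ((∑ ψ ∈ members L'.b, kapZ L x (σ ψ) * kapZ L' y ψ) /
        (Nat.card (Subgroup.centralizer ({x} : Set G)) : ℂ)) ∧
      MemLocalRing M ((∑ ψ ∈ members L'.b, kapZ L x (σ ψ) * kapZ L' y ψ) /
        (Nat.card (Subgroup.centralizer ({y} : Set G')) : ℂ))) :
    ∃ (I : IrrCharacter G' → IrrCharacter G) (ε : IrrCharacter G' → ℤ),
      IsPerfectIsometry p M B' B I ε ∧ ∀ η ∈ S'.Y, ∀ η' ∈ S'.Y, ε η = ε η' := by
  obtain ⟨E⟩ : Nonempty (S'.X ≃ S.X) := ⟨Finset.equivOfCardEq (S'.cardX.trans S.cardX.symm)⟩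
  have hmv : ∀ ψ ∈ moved L' S'.ψ₀, σ ψ ∈ moved L S.ψ₀ := fun ψ hψ => by
    obtain ⟨hb, hne⟩ := (mem_moved L').1 hψ
    exact (mem_moved L).2 ⟨hσb.mapsTo hb, hσ0 ▸ fun h => hne (hσb.injOn hb S'.base.mem h)⟩
  have hsur : ∀ φ ∈ moved L S.ψ₀, ∃ ψ ∈ moved L' S'.ψ₀, σ ψ = φ := fun φ hφ => by
    obtain ⟨hb, hne⟩ := (mem_moved L).1 hφ
    obtain ⟨ψ, hψ, rfl⟩ := hσb.surjOn hb
    exact ⟨ψ, (mem_moved L').2 ⟨hψ, fun h => hne (h ▸ hσ0)⟩, rfl⟩
  let I : IrrCharacter G' → IrrCharacter G := fun η =>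
    if hX : η ∈ S'.X then (E ⟨η, hX⟩ : IrrCharacter G)
    else if hY : η ∈ S'.Y then S.ζ (σ (S'.ζsurj η hY).choose)
    else (block_nonempty hM L.hB).some
  let ε : IrrCharacter G' → ℤ := fun η =>
    if η ∈ S'.X then S'.δ η * S.δ (I η) else S'.δ₀ * S.δ₀
  have hIX : ∀ η ∈ S'.X, I η ∈ S.X := fun η hη => by
    simp only [I, dif_pos hη]
    exact (E ⟨η, hη⟩).2
  have hnX : ∀ η ∈ S'.Y, η ∉ S'.X := fun η hη => Finset.disjoint_right.1 S'.disj hη
  have hIY : ∀ ψ ∈ moved L' S'.ψ₀, I (S'.ζ ψ) = S.ζ (σ ψ) := fun ψ hψ => by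
    have hy := S'.ζmem ψ hψ
    simp only [I, dif_neg (hnX _ hy), dif_pos hy]
    obtain ⟨hψ', he⟩ := (S'.ζsurj _ hy).choose_spec
    refine (S.ζorb _ (hmv _ hψ') _ (hmv _ hψ)).2 ((hσorb _ ((mem_moved L').1 hψ').1 _
      ((mem_moved L').1 hψ).1).2 ((S'.ζorb _ hψ' _ hψ).1 he))
  have hIY' : ∀ η ∈ S'.Y, I η ∈ S.Y := fun η hη => by
    obtain ⟨ψ, hψ, rfl⟩ := S'.ζsurj η hη
    rw [hIY ψ hψ]
    exact S.ζmem _ (hmv ψ hψ)
  have hinjX : Set.InjOn I S'.X := fun η hη η' hη' h => by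
    simp only [I, dif_pos (Finset.mem_coe.1 hη), dif_pos (Finset.mem_coe.1 hη')] at h
    exact congrArg Subtype.val (E.injective (Subtype.ext h))
  have hinjY : Set.InjOn I S'.Y := fun η hη η' hη' h => by
    obtain ⟨ψ, hψ, rfl⟩ := S'.ζsurj η hη
    obtain ⟨φ, hφ, rfl⟩ := S'.ζsurj η' hη'
    rw [hIY ψ hψ, hIY φ hφ, S.ζorb _ (hmv ψ hψ) _ (hmv φ hφ),
      hσorb _ ((mem_moved L').1 hψ).1 _ ((mem_moved L').1 hφ).1] at h
    exact (S'.ζorb ψ hψ φ hφ).2 h
  have himX : S'.X.image I = S.X := Finset.eq_of_subset_of_card_le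
    (Finset.image_subset_iff.2 hIX) (by rw [Finset.card_image_of_injOn hinjX, S'.cardX, S.cardX])
  have himY : S'.Y.image I = S.Y := Finset.Subset.antisymm (Finset.image_subset_iff.2 hIY')
    fun y hy => by
      obtain ⟨φ, hφ, rfl⟩ := S.ζsurj y hy
      obtain ⟨ψ, hψ, rfl⟩ := hsur φ hφ
      exact Finset.mem_image.2 ⟨_, S'.ζmem ψ hψ, hIY ψ hψ⟩
  have hmem : ∀ η ∈ B', η ∈ S'.X ∨ η ∈ S'.Y := fun η hη =>
    Finset.mem_union.1 (S'.union.symm ▸ mem_members.2 hη)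
  have hbij : Set.BijOn I B' B := by
    refine ⟨fun η hη => ?_, fun η hη η' hη' h => ?_, fun χ hχ => ?_⟩
    · rcases hmem η hη with hm | hm
      · exact mem_members.1 (S.subX (hIX η hm))
      · exact mem_members.1 (S.subY (hIY' η hm))
    · rcases hmem η hη with hm | hm <;> rcases hmem η' hη' with hm' | hm'
      · exact hinjX hm hm' h
      · exact absurd (h ▸ hIX η hm) (Finset.disjoint_right.1 S.disj (hIY' η' hm'))
      · exact absurd (h ▸ hIY' η hm) (Finset.disjoint_left.1 S.disj (hIX η' hm'))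
      · exact hinjY hm hm' h
    · rcases Finset.mem_union.1 (S.union.symm ▸ mem_members.2 hχ) with hm | hm
      · obtain ⟨η, hη, rfl⟩ := Finset.mem_image.1 (himX ▸ hm)
        exact ⟨η, mem_members.1 (S'.subX hη), rfl⟩
      · obtain ⟨η, hη, rfl⟩ := Finset.mem_image.1 (himY ▸ hm)
        exact ⟨η, mem_members.1 (S'.subY hη), rfl⟩
  have hεunit : ∀ η ∈ B', ε η = 1 ∨ ε η = -1 := fun η hη => by
    simp only [ε]
    split_ifs with hX
    · rcases S'.sgn η hX with a | a <;> rcases S.sgn _ (hIX η hX) with b | b <;> simp [a, b]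
    · rcases S'.sgn₀ with a | a <;> rcases S.sgn₀ with b | b <;> simp [a, b]
  refine ⟨I, ε, ⟨hbij, hεunit, ?_⟩, fun η hη η' hη' => by simp only [ε, if_neg (hnX _ hη), if_neg (hnX _ hη')]⟩
  -- the kernel
  set μ := signedBijectionKernel B' I ε
  have hμ : ∀ x y, μ x y =
      (∑ η ∈ S'.X, ((S.δ (I η) : ℂ) * (I η : G → ℂ) x) * ((S'.δ η : ℂ) * (η : G' → ℂ) y)) +
      ∑ η ∈ S'.Y, ((S.δ₀ : ℂ) * (I η : G → ℂ) x) * ((S'.δ₀ : ℂ) * (η : G' → ℂ) y) := by
    intro x y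
    simp only [μ, signedBijectionKernel]
    rw [finsum_eq_members, ← S'.union, Finset.sum_union S'.disj]
    congr 1
    · refine Finset.sum_congr rfl fun η hη => ?_
      simp only [ε, if_pos hη]; push_cast; ring
    · refine Finset.sum_congr rfl fun η hη => ?_
      simp only [ε, if_neg (hnX η hη)]; push_cast; ring
  have hsq : ∀ z : ℤ, (z = 1 ∨ z = -1) → (z : ℂ) * z = 1 := by
    rintro z (rfl | rfl) <;> norm_num
  -- signed values at singular elements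
  have vX : ∀ {x : G}, p ∣ orderOf x → ∀ η ∈ S'.X,
      (S.δ (I η) : ℂ) * (I η : G → ℂ) x = ∑ ψ ∈ moved L S.ψ₀, kapZ L x ψ := fun hx η hη => by
    rw [apply_X S hM (hIX η hη) hx, ← mul_assoc, hsq _ (S.sgn _ (hIX η hη)), one_mul]
  have vX' : ∀ {y : G'}, p ∣ orderOf y → ∀ η ∈ S'.X,
      (S'.δ η : ℂ) * (η : G' → ℂ) y = ∑ ψ ∈ moved L' S'.ψ₀, kapZ L' y ψ := fun hy η hη => by
    rw [apply_X S' hM hη hy, ← mul_assoc, hsq _ (S'.sgn _ hη), one_mul]
  have vY : ∀ {x : G}, p ∣ orderOf x → ∀ χ ∈ S.Y, (S.δ₀ : ℂ) * (χ : G → ℂ) x =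
      ∑ ψ ∈ (moved L S.ψ₀).filter (fun ψ => S.ζ ψ = χ), kapZ L x ψ := fun hx χ hχ => by
    rw [apply_Y S hM hχ hx, ← mul_assoc, hsq _ S.sgn₀, one_mul]
  have vY' : ∀ {y : G'}, p ∣ orderOf y → ∀ η ∈ S'.Y, (S'.δ₀ : ℂ) * (η : G' → ℂ) y =
      ∑ ψ ∈ (moved L' S'.ψ₀).filter (fun ψ => S'.ζ ψ = η), kapZ L' y ψ := fun hy η hη => by
    rw [apply_Y S' hM hη hy, ← mul_assoc, hsq _ S'.sgn₀, one_mul]
  have tot : ∀ {x : G}, p ∣ orderOf x →
      ∑ η ∈ S'.Y, (S.δ₀ : ℂ) * (I η : G → ℂ) x = ∑ ψ ∈ moved L S.ψ₀, kapZ L x ψ := fun {x} hx => by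
    rw [← Finset.sum_image (f := fun χ : IrrCharacter G => (S.δ₀ : ℂ) * (χ : G → ℂ) x) hinjY, himY,
      Finset.sum_congr rfl (vY hx)]
    exact Finset.sum_fiberwise_of_maps_to (fun ψ hψ => S.ζmem ψ hψ) _
  have tot' : ∀ {y : G'}, p ∣ orderOf y →
      ∑ η ∈ S'.Y, (S'.δ₀ : ℂ) * (η : G' → ℂ) y = ∑ ψ ∈ moved L' S'.ψ₀, kapZ L' y ψ := fun hy => by
    rw [Finset.sum_congr rfl (vY' hy)]
    exact Finset.sum_fiberwise_of_maps_to (fun ψ hψ => S'.ζmem ψ hψ) _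
  have mix₁ : ∀ (x : G) (y : G'), p ∣ orderOf x → ¬ p ∣ orderOf y → μ x y = 0 := by
    intro x y hx hy
    set A := ∑ ψ ∈ moved L S.ψ₀, kapZ L x ψ
    set R := ∑ χ ∈ S'.X, (S'.δ χ : ℂ) * (χ : G' → ℂ) y
    have h1 : ∑ η ∈ S'.X, ((S.δ (I η) : ℂ) * (I η : G → ℂ) x) * ((S'.δ η : ℂ) * (η : G' → ℂ) y) =
        A * R := by
      rw [Finset.mul_sum]
      exact Finset.sum_congr rfl fun η hη => by rw [vX hx η hη]
    have h2 : ∑ η ∈ S'.Y, ((S.δ₀ : ℂ) * (I η : G → ℂ) x) * ((S'.δ₀ : ℂ) * (η : G' → ℂ) y) =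
        A * -R := by
      rw [show A = _ from (tot hx).symm, Finset.sum_mul]
      exact Finset.sum_congr rfl fun η hη => by
        rw [eq_neg_of_add_eq_zero_left (S'.relation hM hη hy)]
    rw [hμ, h1, h2]
    ring
  have mix₂ : ∀ (x : G) (y : G'), ¬ p ∣ orderOf x → p ∣ orderOf y → μ x y = 0 := by
    intro x y hx hy
    have hR : ∑ η ∈ S'.X, (S.δ (I η) : ℂ) * (I η : G → ℂ) x =
        ∑ χ ∈ S.X, (S.δ χ : ℂ) * (χ : G → ℂ) x := by
      rw [← himX, Finset.sum_image hinjX]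
    set A := ∑ ψ ∈ moved L' S'.ψ₀, kapZ L' y ψ
    set R := ∑ χ ∈ S.X, (S.δ χ : ℂ) * (χ : G → ℂ) x
    have h1 : ∑ η ∈ S'.X, ((S.δ (I η) : ℂ) * (I η : G → ℂ) x) * ((S'.δ η : ℂ) * (η : G' → ℂ) y) =
        R * A := by
      rw [← hR, Finset.sum_mul]
      exact Finset.sum_congr rfl fun η hη => by rw [vX' hy η hη]
    have h2 : ∑ η ∈ S'.Y, ((S.δ₀ : ℂ) * (I η : G → ℂ) x) * ((S'.δ₀ : ℂ) * (η : G' → ℂ) y) =
        -R * A := by
      rw [show A = _ from (tot' hy).symm, Finset.mul_sum]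
      exact Finset.sum_congr rfl fun η hη => by
        rw [eq_neg_of_add_eq_zero_left (S.relation hM (hIY' η hη) hx)]
    rw [hμ, h1, h2]
    ring
  have both : ∀ (x : G) (y : G'), p ∣ orderOf x → p ∣ orderOf y →
      μ x y = (e : ℂ) * ∑ ψ ∈ members L'.b, kapZ L x (σ ψ) * kapZ L' y ψ := by
    intro x y hx hy
    have hA : ∑ ψ ∈ moved L S.ψ₀, kapZ L x ψ = -kapZ L x S.ψ₀ := by
      rw [moved, Finset.sum_erase_eq_sub (mem_members.2 S.base.mem), sum_kappa_eq_zero L hM hx]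
      ring
    have hA' : ∑ ψ ∈ moved L' S'.ψ₀, kapZ L' y ψ = -kapZ L' y S'.ψ₀ := by
      rw [moved, Finset.sum_erase_eq_sub (mem_members.2 S'.base.mem), sum_kappa_eq_zero L' hM hy]
      ring
    have hY : ∑ η ∈ S'.Y, ((S.δ₀ : ℂ) * (I η : G → ℂ) x) * ((S'.δ₀ : ℂ) * (η : G' → ℂ) y) =
        (e : ℂ) * ∑ ψ ∈ moved L' S'.ψ₀, kapZ L x (σ ψ) * kapZ L' y ψ := by
      rw [← Finset.sum_fiberwise_of_maps_to (g := S'.ζ) (t := S'.Y)
        (fun ψ hψ => S'.ζmem ψ hψ), Finset.mul_sum]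
      refine Finset.sum_congr rfl fun η hη => ?_
      obtain ⟨ψ, hψ, rfl⟩ := S'.ζsurj η hη
      rw [hIY ψ hψ, vY hx _ (S.ζmem _ (hmv ψ hψ)), vY' hy _ hη,
        sum_fibre S _ (kappa_orb x) hM (hmv ψ hψ),
        sum_fibre S' _ (kappa_orb y) hM hψ]
      rw [Finset.sum_congr rfl (g := fun _ => kapZ L x (σ ψ) * kapZ L' y ψ) fun φ hφ => ?_,
        Finset.sum_const, nsmul_eq_mul]
      · rw [show ((moved L' S'.ψ₀).filter fun φ => S'.ζ φ = S'.ζ ψ).card = e from ?_]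
        · ring
        · refine Eq.trans (congrArg Finset.card (Finset.filter_congr fun φ hφ => ?_))
            (card_orb L' hM S'.base hψ)
          exact ⟨fun h => (S'.ζorb ψ hψ φ hφ).1 h.symm, fun h => ((S'.ζorb ψ hψ φ hφ).2 h).symm⟩
      · obtain ⟨hφm, hφe⟩ := Finset.mem_filter.1 hφ
        have ho := (S'.ζorb ψ hψ φ hφm).1 hφe.symm
        rw [kappa_orb y ψ φ ho, kappa_orb x (σ ψ) (σ φ) ((hσorb ψ ((mem_moved L').1 hψ).1 φ
          ((mem_moved L').1 hφm).1).2 ho)]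
    rw [hμ, hY, Finset.sum_congr rfl fun η hη => by rw [vX hx η hη, vX' hy η hη], Finset.sum_const,
      S'.cardX, nsmul_eq_mul, hA, hA', ← Finset.add_sum_erase (members L'.b) _
        (mem_members.2 S'.base.mem), hσ0]
    rw [show (members L'.b).erase S'.ψ₀ = moved L' S'.ψ₀ from rfl]
    ring
  intro x y
  by_cases hx : p ∣ orderOf x <;> by_cases hy : p ∣ orderOf y
  · obtain ⟨h1, h2⟩ := hdiv x hx y hy
    rw [both x y hx hy, mul_div_assoc, mul_div_assoc]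
    exact ⟨(localRing hM).mul_mem (natCast_mem (localRing hM) _) h1,
      (localRing hM).mul_mem (natCast_mem (localRing hM) _) h2,
      Or.inl (iff_of_false (fun h => h hx) fun h => h hy)⟩
  · rw [mix₁ x y hx hy, zero_div, zero_div]
    exact ⟨(localRing hM).zero_mem, (localRing hM).zero_mem, Or.inr rfl⟩
  · rw [mix₂ x y hx hy, zero_div, zero_div]
    exact ⟨(localRing hM).zero_mem, (localRing hM).zero_mem, Or.inr rfl⟩
  · have key : ∀ (a : G) (b : G'), μ a b =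
        ∑ η : {η // η ∈ members B'}, ((ε η : ℂ) * (I η : G → ℂ) a) * (η.1 : G' → ℂ) b := by
      intro a b
      simp only [μ, signedBijectionKernel]
      rw [finsum_eq_members, ← Finset.sum_coe_sort]
    refine ⟨?_, ?_, Or.inl (iff_of_true hx hy)⟩
    · have h := BlockKleinIso81.div_centralizer_mem hM
        (fun η : {η // η ∈ members B'} => (ε η : ℂ) * (η.1 : G' → ℂ) y)
        (fun η => (localRing hM).mul_mem (intCast_mem (localRing hM) _)
          (BlockSectionDegree81.irr_mem hM _ _)) (fun η => I η)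
        (fun z hz => by rw [← mix₁ z y hz hy, key]; exact Finset.sum_congr rfl fun η _ => by ring) hx
      rw [key]
      convert h using 2
      exact Finset.sum_congr rfl fun η _ => by ring
    · have h := BlockKleinIso81.div_centralizer_mem hM
        (fun η : {η // η ∈ members B'} => (ε η : ℂ) * (I η : G → ℂ) x)
        (fun η => (localRing hM).mul_mem (intCast_mem (localRing hM) _)
          (BlockSectionDegree81.irr_mem hM _ _)) (fun η => η.1)
        (fun z hz => by rw [← mix₂ x z hx hz, key]) hy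
      rwa [key]

/-- A member fixed by `N` is a base point. -/
theorem base_of_fix (hM : IsPModular p M) {ψ₀ : IrrCharacter L.H} (hψ₀ : ψ₀ ∈ L.b)
    (hfix : ∀ g : Subgroup.normalizer (L.Z : Set G), (g : G) ∈ L.N → tw L g ψ₀ = ψ₀) :
    Base L ψ₀ := by
  refine ⟨hψ₀, hfix, fun g hg ψ hψ hne hgψ => ?_⟩
  by_contra hgH
  obtain ⟨a, ha⟩ := Finset.card_eq_one.1 (card_fixed L hM g hg hgH)
  have h1 : ∀ φ, φ ∈ L.b → tw L g φ = φ → φ = a := fun φ hφ h => Finset.mem_singleton.1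
    (ha ▸ Finset.mem_filter.2 ⟨mem_members.2 hφ, h⟩)
  exact hne ((h1 ψ hψ hgψ).trans (h1 ψ₀ hψ₀ (hfix g hg)).symm)

theorem card_N (hM : IsPModular p M) (L : Loc p M B P e) : Nat.card L.N = e * Nat.card L.H := by
  have h := (L.H.subgroupOf L.N).index_mul_card.symm
  rw [Nat.card_congr (Subgroup.subgroupOfEquivOfLe L.H_le_N).toEquiv] at h
  exact h.trans (congrArg (· * _) (L.index_N hM))

/-- The local data from a maximal pair. -/
theorem exists_loc_of_max (hM : IsPModular p M) {c : Set (IrrCharacter (BrauerPairs81Base.Cen P))}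
    (hcyc : IsCyclic P) (hP1 : P ≠ ⊥) (hmax : IsMaximalBrauerPair p M B P c) :
    ∃ L : Loc p M B P ((BrauerPairs81Base.Cen P).relIndex
      (BrauerPairs81Fusion.stab (⟨P, c⟩ : BrauerPairIdx G))), L.c = c := by
  obtain ⟨z, hz, -, hzo⟩ := BrauerPairs81Cyclic.exists_order_prime hmax.1.1.1 hP1
  obtain ⟨b, hb⟩ := BrauerPairs81Pairs.exists_subpair hM hmax.1.1 (Subgroup.zpowers_le.2 hz)
  exact ⟨⟨c, z, b, hcyc, hmax, hz, hzo, hb,
    fun y hy x hx hx1 h => BrauerPairs81Cyclic.mem_cen_of_stab hM hmax hcyc hy hx hx1 h, rfl⟩, rfl⟩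

/-- The centraliser of an element generating `Z`. -/
theorem card_centralizer_H {g : G} (hz : L.z ∈ Subgroup.zpowers g) (hg : g ∈ L.H) :
    Nat.card (Subgroup.centralizer ({(⟨g, hg⟩ : L.H)} : Set L.H)) =
      Nat.card (Subgroup.centralizer ({g} : Set G)) := by
  refine Nat.card_congr
    { toFun := fun a => ⟨((a : L.H) : G), Subgroup.mem_centralizer_singleton_iff.2
        (congrArg Subtype.val (Subgroup.mem_centralizer_singleton_iff.1 a.2))⟩
      invFun := fun a => ⟨⟨a, mem_H_of_commute L hz (Subgroup.mem_centralizer_singleton_iff.1 a.2)⟩,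
        Subgroup.mem_centralizer_singleton_iff.2
          (Subtype.ext (Subgroup.mem_centralizer_singleton_iff.1 a.2))⟩
      left_inv := fun _ => rfl
      right_inv := fun _ => rfl }

/-- Divisibility of the pairing of the singular values from that of the pairing of the blocks. -/
theorem hdiv_of_kernel (hM : IsPModular p M) (σ : IrrCharacter L'.H → IrrCharacter L.H)
    (hK : ∀ h : L.H, p ∣ orderOf h → L.z ∈ Subgroup.zpowers (h : G) →
      ∀ k : L'.H, p ∣ orderOf k → L'.z ∈ Subgroup.zpowers (k : G') →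
      MemLocalRing M ((∑ ψ ∈ members L'.b, (σ ψ : L.H → ℂ) h * (ψ : L'.H → ℂ) k) /
        (Nat.card (Subgroup.centralizer ({h} : Set L.H)) : ℂ)) ∧
      MemLocalRing M ((∑ ψ ∈ members L'.b, (σ ψ : L.H → ℂ) h * (ψ : L'.H → ℂ) k) /
        (Nat.card (Subgroup.centralizer ({k} : Set L'.H)) : ℂ)))
    {x : G} (hx : p ∣ orderOf x) {y : G'} (hy : p ∣ orderOf y) :
    MemLocalRing M ((∑ ψ ∈ members L'.b, kapZ L x (σ ψ) * kapZ L' y ψ) /
        (Nat.card (Subgroup.centralizer ({x} : Set G)) : ℂ)) ∧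
      MemLocalRing M ((∑ ψ ∈ members L'.b, kapZ L x (σ ψ) * kapZ L' y ψ) /
        (Nat.card (Subgroup.centralizer ({y} : Set G')) : ℂ)) := by
  set R := localRing hM
  set K : G → G' → ℂ := fun g g' => ∑ ψ ∈ members L'.b,
    (if L.z ∈ Subgroup.zpowers (g * x * g⁻¹) then extH L (σ ψ) (g * x * g⁻¹) else 0) *
      (if L'.z ∈ Subgroup.zpowers (g' * y * g'⁻¹) then extH L' ψ (g' * y * g'⁻¹) else 0) with hKdef
  have hsum : ∑ ψ ∈ members L'.b, kapZ L x (σ ψ) * kapZ L' y ψ =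
      (Nat.card L.N : ℂ)⁻¹ * (Nat.card L'.N : ℂ)⁻¹ * ∑ g : G, ∑ g' : G', K g g' := by
    rw [show ∑ g : G, ∑ g' : G', K g g' = ∑ ψ ∈ members L'.b,
      (∑ g : G, if L.z ∈ Subgroup.zpowers (g * x * g⁻¹) then extH L (σ ψ) (g * x * g⁻¹) else 0) *
        ∑ g' : G', if L'.z ∈ Subgroup.zpowers (g' * y * g'⁻¹) then extH L' ψ (g' * y * g'⁻¹) else 0
      from ?_, Finset.mul_sum]
    · exact Finset.sum_congr rfl fun ψ _ => by simp only [kapZ]; ring
    · simp only [hKdef, Finset.sum_mul_sum]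
      exact (Finset.sum_congr rfl fun g _ => Finset.sum_comm).trans Finset.sum_comm
  -- invariance under the centralisers of the subgroups of order `p`
  have hinvG : ∀ (ψ : IrrCharacter L.H) (g : G), ∀ k ∈ L.H,
      (if L.z ∈ Subgroup.zpowers (k * g * x * (k * g)⁻¹) then extH L ψ (k * g * x * (k * g)⁻¹) else 0) =
        (if L.z ∈ Subgroup.zpowers (g * x * g⁻¹) then extH L ψ (g * x * g⁻¹) else 0 : ℂ) := by
    intro ψ g k hk
    simp only [show k * g * x * (k * g)⁻¹ = k * (g * x * g⁻¹) * k⁻¹ by group]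
    set a := g * x * g⁻¹
    set n : Subgroup.normalizer (L.Z : Set G) := ⟨k, L.N_le_normalizer (L.H_le_N hk)⟩
    by_cases ha : L.z ∈ Subgroup.zpowers a
    · rw [if_pos ha, if_pos (mem_zpowers_conj L n ha),
        show a = ((⟨a, mem_H_of_commute L ha (Commute.refl _)⟩ : L.H) : G) from rfl, extH_coe,
        ← tw_of_mem_H L n hk ψ, tw_apply, ← extH_coe, conjH_coe, tw_of_mem_H L n hk ψ]
    · rw [if_neg ha, if_neg fun h => ha ?_]
      have := mem_zpowers_conj L n⁻¹ h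
      rwa [show ((n⁻¹ : Subgroup.normalizer (L.Z : Set G)) : G) * (k * a * k⁻¹) *
        ((n⁻¹ : Subgroup.normalizer (L.Z : Set G)) : G)⁻¹ = a by
          rw [Subgroup.coe_inv]; show k⁻¹ * (k * a * k⁻¹) * k⁻¹⁻¹ = a; group] at this
  have hinvG' : ∀ (ψ : IrrCharacter L'.H) (g : G'), ∀ k ∈ L'.H,
      (if L'.z ∈ Subgroup.zpowers (k * g * y * (k * g)⁻¹) then extH L' ψ (k * g * y * (k * g)⁻¹) else 0) =
        (if L'.z ∈ Subgroup.zpowers (g * y * g⁻¹) then extH L' ψ (g * y * g⁻¹) else 0 : ℂ) := by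
    intro ψ g k hk
    simp only [show k * g * y * (k * g)⁻¹ = k * (g * y * g⁻¹) * k⁻¹ by group]
    set a := g * y * g⁻¹
    set n : Subgroup.normalizer (L'.Z : Set G') := ⟨k, L'.N_le_normalizer (L'.H_le_N hk)⟩
    by_cases ha : L'.z ∈ Subgroup.zpowers a
    · rw [if_pos ha, if_pos (mem_zpowers_conj L' n ha),
        show a = ((⟨a, mem_H_of_commute L' ha (Commute.refl _)⟩ : L'.H) : G') from rfl, extH_coe,
        ← tw_of_mem_H L' n hk ψ, tw_apply, ← extH_coe, conjH_coe, tw_of_mem_H L' n hk ψ]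
    · rw [if_neg ha, if_neg fun h => ha ?_]
      have := mem_zpowers_conj L' n⁻¹ h
      rwa [show ((n⁻¹ : Subgroup.normalizer (L'.Z : Set G')) : G') * (k * a * k⁻¹) *
        ((n⁻¹ : Subgroup.normalizer (L'.Z : Set G')) : G')⁻¹ = a by
          rw [Subgroup.coe_inv]; show k⁻¹ * (k * a * k⁻¹) * k⁻¹⁻¹ = a; group] at this
  have hK1 : ∀ g g', ∀ k ∈ L.H, K (k * g) g' = K g g' := fun g g' k hk =>
    Finset.sum_congr rfl fun ψ _ => by rw [hinvG _ g k hk]
  have hK2 : ∀ g g', ∀ k ∈ L'.H, K g (k * g') = K g g' := fun g g' k hk =>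
    Finset.sum_congr rfl fun ψ _ => by rw [hinvG' _ g' k hk]
  have hfinal : ∀ c : ℂ, (∀ g g', K g g' / c ∈ R) →
      (∑ ψ ∈ members L'.b, kapZ L x (σ ψ) * kapZ L' y ψ) / c ∈ R := by
    intro c hc
    rw [hsum, card_N hM L, card_N hM L', Nat.cast_mul, Nat.cast_mul, mul_inv, mul_inv,
      show ((e : ℂ)⁻¹ * (Nat.card L.H : ℂ)⁻¹ * ((e : ℂ)⁻¹ * (Nat.card L'.H : ℂ)⁻¹) *
        ∑ g : G, ∑ g' : G', K g g') / c = (e : ℂ)⁻¹ * (e : ℂ)⁻¹ *
          ((Nat.card L.H : ℂ)⁻¹ * ∑ g : G,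
            ((Nat.card L'.H : ℂ)⁻¹ * ∑ g' : G', K g⁻¹ g'⁻¹ / c)) by
        rw [show ∑ g : G, ∑ g' : G', K g g' = ∑ g : G, ∑ g' : G', K g⁻¹ g'⁻¹ from
          (Equiv.sum_comp (Equiv.inv G) _).symm.trans
            (Finset.sum_congr rfl fun g _ => (Equiv.sum_comp (Equiv.inv G') _).symm)]
        simp only [← Finset.sum_div, ← Finset.mul_sum]
        ring]
    have hei : MemLocalRing M ((e : ℂ)⁻¹) := inv_natCast_mem hM (L.e_not_dvd hM)
    refine R.mul_mem (R.mul_mem hei hei) ?_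
    refine inv_card_mul_sum_mem R L.H _ (fun g k hk => ?_) fun g =>
      inv_card_mul_sum_mem R L'.H _ (fun g' k hk => ?_) fun g' => hc _ _
    · rw [mul_inv_rev]
      simp only [hK1 _ _ k⁻¹ (inv_mem hk)]
    · rw [mul_inv_rev, hK2 _ _ k⁻¹ (inv_mem hk)]
  have hpt : ∀ g g', K g g' / (Nat.card (Subgroup.centralizer ({x} : Set G)) : ℂ) ∈ R ∧
      K g g' / (Nat.card (Subgroup.centralizer ({y} : Set G')) : ℂ) ∈ R := by
    intro g g'
    by_cases ha : L.z ∈ Subgroup.zpowers (g * x * g⁻¹)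
    swap
    · have h0 : K g g' = 0 := Finset.sum_eq_zero fun ψ _ => by rw [if_neg ha, zero_mul]
      rw [h0, zero_div, zero_div]
      exact ⟨R.zero_mem, R.zero_mem⟩
    by_cases hb : L'.z ∈ Subgroup.zpowers (g' * y * g'⁻¹)
    swap
    · have h0 : K g g' = 0 := Finset.sum_eq_zero fun ψ _ => by rw [if_neg hb, mul_zero]
      rw [h0, zero_div, zero_div]
      exact ⟨R.zero_mem, R.zero_mem⟩
    have haH := mem_H_of_commute L ha (Commute.refl _)
    have hbH := mem_H_of_commute L' hb (Commute.refl _)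
    have hsa : p ∣ orderOf (⟨g * x * g⁻¹, haH⟩ : L.H) := by
      rw [Subgroup.orderOf_mk, show g * x * g⁻¹ = MulAut.conj g x from rfl, MulEquiv.orderOf_eq]
      exact hx
    have hsb : p ∣ orderOf (⟨g' * y * g'⁻¹, hbH⟩ : L'.H) := by
      rw [Subgroup.orderOf_mk, show g' * y * g'⁻¹ = MulAut.conj g' y from rfl, MulEquiv.orderOf_eq]
      exact hy
    obtain ⟨h1, h2⟩ := hK ⟨g * x * g⁻¹, haH⟩ hsa ha ⟨g' * y * g'⁻¹, hbH⟩ hsb hb
    have hval : K g g' = ∑ ψ ∈ members L'.b,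
        (σ ψ : L.H → ℂ) ⟨g * x * g⁻¹, haH⟩ * (ψ : L'.H → ℂ) ⟨g' * y * g'⁻¹, hbH⟩ :=
      Finset.sum_congr rfl fun ψ _ => by
        rw [if_pos ha, if_pos hb, extH, extH, dif_pos haH, dif_pos hbH]
    have cx : Nat.card (Subgroup.centralizer ({g * x * g⁻¹} : Set G)) =
        Nat.card (Subgroup.centralizer ({x} : Set G)) :=
      BrauerPairs81Base.card_centralizer_singleton (MulAut.conj g) x
    have cy : Nat.card (Subgroup.centralizer ({g' * y * g'⁻¹} : Set G')) =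
        Nat.card (Subgroup.centralizer ({y} : Set G')) :=
      BrauerPairs81Base.card_centralizer_singleton (MulAut.conj g') y
    rw [card_centralizer_H ha haH, cx, ← hval] at h1
    rw [card_centralizer_H hb hbH, cy, ← hval] at h2
    exact ⟨h1, h2⟩
  exact ⟨hfinal _ fun g g' => (hpt g g').1, hfinal _ fun g g' => (hpt g g').2⟩

end Cfsg.Agent.CyclicIsometry42
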