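import Mathlib
import Cfsg.Agent.Lib.BrandtBlock42
import Cfsg.Agent.Lib.BlockSectionDegree81

/-!
# Block idempotents, pairs and relative traces over the residue field

Reduction of locally integral group ring elements, the truncation at a subgroup, a central element
making the idempotent of a block a relative trace from a defect group, and the blocks of a
centraliser occurring in a truncated block idempotent.
-/

set_option autoImplicit false
set_option linter.style.haveILetI false
set_option linter.unusedSectionVars false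

namespace Cfsg.Agent.CyclicReduce42

open Cfsg BlockTheoryLocalRing BlockTheoryCentre BlockTheoryIdem BlockTheoryBrauer
  BrauerPairs81Base BrauerPairs81Pairs BrauerPairs81Conj BrauerPairs81Local BrandtBlock42
  BlockSectionDegree81

attribute [local instance] Classical.propDecidable

universe u

/-- A function invariant under a `p`-group sums to the sum over the fixed points in characteristic
`p`. -/
theorem sum_invariant {p : ℕ} [Fact p.Prime] {k : Type*} [Field k] [CharP k p] {Q : Type*} [Group Q]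
    (hQ : IsPGroup p Q) {α : Type*} [Fintype α] [MulAction Q α] (W : α → k)
    (hW : ∀ (x : Q) a, W (x • a) = W a) :
    ∑ a, W a = ∑ a ∈ Finset.univ.filter (fun a => ∀ x : Q, x • a = a), W a := by
  rw [← Finset.sum_fiberwise_of_maps_to (g := W) (t := Finset.univ.image W)
      (fun a _ => Finset.mem_image_of_mem _ (Finset.mem_univ a)),
    ← Finset.sum_fiberwise_of_maps_to (g := W) (t := Finset.univ.image W)
      (s := Finset.univ.filter (fun a => ∀ x : Q, x • a = a))
      (fun a _ => Finset.mem_image_of_mem _ (Finset.mem_univ a))]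
  refine Finset.sum_congr rfl fun v _ => ?_
  rw [Finset.sum_congr rfl (fun a ha => (Finset.mem_filter.1 ha).2),
    Finset.sum_congr rfl (fun a ha => (Finset.mem_filter.1 ha).2), Finset.sum_const, Finset.sum_const,
    nsmul_eq_mul, nsmul_eq_mul]
  congr 1
  let X : SubMulAction Q α := ⟨{a | W a = v}, fun x a ha => (hW x a).trans ha⟩
  have h := hQ.card_modEq_card_fixedPoints (↥X)
  have e1 : Nat.card ↥X = (Finset.univ.filter fun a => W a = v).card := by
    rw [Nat.card_eq_fintype_card]
    exact Fintype.card_of_subtype _ fun a =>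
      ⟨fun h => (Finset.mem_filter.1 h).2, fun h => Finset.mem_filter.2 ⟨Finset.mem_univ _, h⟩⟩
  have e2 : Nat.card (MulAction.fixedPoints Q ↥X) =
      ((Finset.univ.filter (fun a => ∀ x : Q, x • a = a)).filter fun a => W a = v).card := by
    rw [Nat.card_eq_fintype_card, ← Finset.card_univ]
    refine Finset.card_bij (fun a _ => (a.1.1 : α)) (fun a _ => ?_) (fun a _ b _ h => ?_) fun a ha => ?_
    · refine Finset.mem_filter.2 ⟨Finset.mem_filter.2 ⟨Finset.mem_univ _, fun x => ?_⟩, a.1.2⟩
      exact congrArg Subtype.val (a.2 x)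
    · exact Subtype.ext (Subtype.ext h)
    · obtain ⟨ha1, ha2⟩ := Finset.mem_filter.1 ha
      exact ⟨⟨⟨a, ha2⟩, fun x => Subtype.ext ((Finset.mem_filter.1 ha1).2 x)⟩, Finset.mem_univ _, rfl⟩
  rw [← e1, ← e2]
  exact (CharP.natCast_eq_natCast k p).2 h

section Rd

variable {p : ℕ} {M : Ideal AlgInt} {k : Type} [Field k] (hM : IsPModular p M)
  (π : localRing hM →+* k)

/-- The reduction extended by zero. -/
noncomputable def rd (z : ℂ) : k := if h : MemLocalRing M z then π ⟨z, h⟩ else 0

theorem rd_coe (z : localRing hM) : rd hM π (z : ℂ) = π z := by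
  rw [rd, dif_pos (show MemLocalRing M (z : ℂ) from z.2)]

theorem rd_add {x y : ℂ} (hx : MemLocalRing M x) (hy : MemLocalRing M y) :
    rd hM π (x + y) = rd hM π x + rd hM π y := by
  have := rd_coe hM π (⟨x, hx⟩ + ⟨y, hy⟩)
  rw [map_add, ← rd_coe hM π ⟨x, hx⟩, ← rd_coe hM π ⟨y, hy⟩] at this
  exact this

theorem rd_mul {x y : ℂ} (hx : MemLocalRing M x) (hy : MemLocalRing M y) :
    rd hM π (x * y) = rd hM π x * rd hM π y := by
  have := rd_coe hM π (⟨x, hx⟩ * ⟨y, hy⟩)
  rw [map_mul, ← rd_coe hM π ⟨x, hx⟩, ← rd_coe hM π ⟨y, hy⟩] at this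
  exact this

theorem rd_zero : rd hM π 0 = 0 := by simpa using rd_coe hM π 0

theorem rd_natCast (n : ℕ) : rd hM π (n : ℂ) = (n : k) := by simpa using rd_coe hM π (n : localRing hM)

theorem rd_one : rd hM π 1 = 1 := by simpa using rd_natCast hM π 1

theorem rd_sum {ι : Type*} (s : Finset ι) (f : ι → ℂ) (hf : ∀ i ∈ s, MemLocalRing M (f i)) :
    rd hM π (∑ i ∈ s, f i) = ∑ i ∈ s, rd hM π (f i) := by
  induction s using Finset.induction_on with
  | empty => simp [rd_zero]
  | insert a s has ih =>
    rw [Finset.sum_insert has, Finset.sum_insert has, rd_add hM π (hf a (Finset.mem_insert_self a s))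
      (show _ ∈ localRing hM from Subring.sum_mem _ fun i hi => hf i (Finset.mem_insert_of_mem hi)),
      ih fun i hi => hf i (Finset.mem_insert_of_mem hi)]

variable {hM π} in
theorem rd_eq_zero_iff (hπ : ∀ z : localRing hM, π z = 0 ↔ MemLocalIdeal M (z : ℂ)) {x : ℂ}
    (hx : MemLocalRing M x) : rd hM π x = 0 ↔ MemLocalIdeal M x := by
  rw [rd, dif_pos hx, hπ]

variable {G : Type u} [Group G] [Fintype G]

/-- The reduction of a group ring element. -/
noncomputable def rdA (z : MonoidAlgebra ℂ G) : MonoidAlgebra k G :=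
  MonoidAlgebra.ofCoeff (Finsupp.equivFunOnFinite.symm fun x => rd hM π (z.coeff x))

theorem coeff_rdA (z : MonoidAlgebra ℂ G) (x : G) : (rdA hM π z).coeff x = rd hM π (z.coeff x) := rfl

theorem rdA_ext {a b : MonoidAlgebra k G} (h : ∀ x, a.coeff x = b.coeff x) : a = b :=
  MonoidAlgebra.ext (Finsupp.ext h)

theorem rdA_add {z w : MonoidAlgebra ℂ G} (hz : IsInt M z) (hw : IsInt M w) :
    rdA hM π (z + w) = rdA hM π z + rdA hM π w :=
  rdA_ext fun x => by simp [coeff_rdA, rd_add hM π (hz x) (hw x)]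

theorem rdA_mul {z w : MonoidAlgebra ℂ G} (hz : IsInt M z) (hw : IsInt M w) :
    rdA hM π (z * w) = rdA hM π z * rdA hM π w := by
  refine rdA_ext fun x => ?_
  rw [coeff_rdA, BlockTheoryCentre.coeff_mul_eq, coeff_mul',
    rd_sum hM π _ _ fun y _ => (localRing hM).mul_mem (hz y) (hw _)]
  exact Finset.sum_congr rfl fun y _ => rd_mul hM π (hz y) (hw _)

theorem rdA_zero : rdA hM π (0 : MonoidAlgebra ℂ G) = 0 :=
  rdA_ext fun x => by simp [coeff_rdA, rd_zero]

theorem rdA_one : rdA hM π (1 : MonoidAlgebra ℂ G) = 1 := by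
  refine rdA_ext fun x => ?_
  rw [coeff_rdA, MonoidAlgebra.one_def, MonoidAlgebra.one_def, MonoidAlgebra.coeff_single,
    MonoidAlgebra.coeff_single, Finsupp.single_apply, Finsupp.single_apply]
  split_ifs
  · exact rd_one hM π
  · exact rd_zero hM π

theorem rdA_idem {B : Set (IrrCharacter G)} (hB : IsPBlock M B) :
    rdA hM π (idem B) = eK hM hB π :=
  rdA_ext fun x => by
    rw [coeff_rdA, coeff_eK, coeff_idem]
    exact rd_coe hM π (eR hM hB x)

variable {hM π} in
theorem rdA_eq_zero (hπ : ∀ z : localRing hM, π z = 0 ↔ MemLocalIdeal M (z : ℂ))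
    {z : MonoidAlgebra ℂ G} (hz : Small M z) : rdA hM π z = 0 :=
  rdA_ext fun x => by
    rw [coeff_rdA, (rd_eq_zero_iff hπ (ideal_le_ring (hz x))).2 (hz x)]
    simp

theorem rdA_sub {z w : MonoidAlgebra ℂ G} (hz : IsInt M z) (hw : IsInt M w) :
    rdA hM π (z - w) = rdA hM π z - rdA hM π w := by
  rw [eq_sub_iff_add_eq, ← rdA_add hM π (IsInt.sub hM hz hw) hw, sub_add_cancel]

theorem rdA_sum {ι : Type*} (s : Finset ι) (f : ι → MonoidAlgebra ℂ G)
    (hf : ∀ i ∈ s, IsInt M (f i)) :
    rdA hM π (∑ i ∈ s, f i) = ∑ i ∈ s, rdA hM π (f i) := by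
  refine rdA_ext fun x => ?_
  simp only [coeff_rdA, MonoidAlgebra.coeff_sum, Finsupp.finsetSum_apply]
  exact rd_sum hM π _ _ fun i hi => hf i hi x

theorem rdA_pow {z : MonoidAlgebra ℂ G} (hz : IsInt M z) :
    ∀ n, rdA hM π (z ^ n) = rdA hM π z ^ n
  | 0 => by rw [pow_zero, pow_zero, rdA_one]
  | n + 1 => by
    rw [pow_succ, pow_succ, rdA_mul hM π (BlockTheoryBrauer.isInt_pow hM hz n) hz, rdA_pow hz n]

theorem rdA_smul {c : ℂ} (hc : MemLocalRing M c) {z : MonoidAlgebra ℂ G} (hz : IsInt M z) :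
    rdA hM π (c • z) = rd hM π c • rdA hM π z :=
  rdA_ext fun x => by simp [coeff_rdA, rd_mul hM π hc (hz x)]

theorem rdA_single (g : G) {c : ℂ} :
    rdA hM π (MonoidAlgebra.single g c) = MonoidAlgebra.single g (rd hM π c) := by
  refine rdA_ext fun x => ?_
  rw [coeff_rdA, MonoidAlgebra.coeff_single, MonoidAlgebra.coeff_single, Finsupp.single_apply,
    Finsupp.single_apply]
  split_ifs
  · rfl
  · exact rd_zero hM π

end Rd

section Algebra

variable {k : Type} [Field k] {G : Type u} [Group G] [Fintype G]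

/-- Conjugation on the group algebra, as multiplication by group elements. -/
noncomputable def cj (g : G) (z : MonoidAlgebra k G) : MonoidAlgebra k G :=
  MonoidAlgebra.single g 1 * z * MonoidAlgebra.single g⁻¹ 1

theorem coeff_cj (g : G) (z : MonoidAlgebra k G) (x : G) :
    (cj g z).coeff x = z.coeff (g⁻¹ * x * g) := by
  rw [cj, coeff_mul_single', coeff_single_mul', inv_inv, mul_assoc]

theorem cj_mul (g : G) (z w : MonoidAlgebra k G) : cj g (z * w) = cj g z * cj g w := by
  simp only [cj, mul_assoc]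
  rw [← mul_assoc (MonoidAlgebra.single g⁻¹ (1 : k)) (MonoidAlgebra.single g 1),
    MonoidAlgebra.single_mul_single, inv_mul_cancel, one_mul, ← MonoidAlgebra.one_def, one_mul]

theorem cj_cj (g h : G) (z : MonoidAlgebra k G) : cj g (cj h z) = cj (g * h) z :=
  MonoidAlgebra.ext (Finsupp.ext fun x => by simp only [coeff_cj, mul_inv_rev, mul_assoc])

theorem cj_one (z : MonoidAlgebra k G) : cj 1 z = z :=
  MonoidAlgebra.ext (Finsupp.ext fun x => by simp [coeff_cj])

theorem cj_sum {ι : Type*} (g : G) (s : Finset ι) (f : ι → MonoidAlgebra k G) :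
    cj g (∑ i ∈ s, f i) = ∑ i ∈ s, cj g (f i) := by
  simp only [cj, Finset.mul_sum, Finset.sum_mul]

theorem cj_single (g y : G) :
    cj g (MonoidAlgebra.single y (1 : k)) = MonoidAlgebra.single (g * y * g⁻¹) 1 := by
  simp [cj, MonoidAlgebra.single_mul_single]

theorem cj_eq_self_iff {g : G} {z : MonoidAlgebra k G} :
    cj g z = z ↔ z * MonoidAlgebra.single g 1 = MonoidAlgebra.single g 1 * z := by
  constructor
  · intro h
    conv_lhs => rw [← h]
    rw [cj, mul_assoc, MonoidAlgebra.single_mul_single, inv_mul_cancel, one_mul,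
      ← MonoidAlgebra.one_def, mul_one]
  · intro h
    rw [cj, ← h, mul_assoc, MonoidAlgebra.single_mul_single, mul_inv_cancel, one_mul,
      ← MonoidAlgebra.one_def, mul_one]

theorem central_of_cj {z : MonoidAlgebra k G} (h : ∀ g, cj g z = z) (w : MonoidAlgebra k G) :
    z * w = w * z := by
  induction w using MonoidAlgebra.induction_linear with
  | zero => simp
  | add a b ha hb => rw [mul_add, add_mul, ha, hb]
  | single g r =>
    rw [show MonoidAlgebra.single g r = r • MonoidAlgebra.single g (1 : k) by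
      rw [MonoidAlgebra.smul_single', mul_one], mul_smul_comm, smul_mul_assoc,
      cj_eq_self_iff.1 (h g)]

theorem cj_of_central {z : MonoidAlgebra k G} (h : ∀ w, z * w = w * z) (g : G) : cj g z = z :=
  cj_eq_self_iff.2 (h _)

/-- The relative trace of a group ring element fixed by `P`. -/
noncomputable def trK (P : Subgroup G) (z : MonoidAlgebra k G) : MonoidAlgebra k G :=
  ∑ ω : G ⧸ P, cj ω.out z

theorem cj_out {P : Subgroup G} {z : MonoidAlgebra k G} (hz : ∀ u ∈ P, cj u z = z) (a : G) :
    cj (a : G ⧸ P).out z = cj a z := by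
  obtain ⟨u, hu⟩ := QuotientGroup.mk_out_eq_mul P a
  rw [hu, ← cj_cj, hz u u.2]

theorem cj_trK {P : Subgroup G} {z : MonoidAlgebra k G} (hz : ∀ u ∈ P, cj u z = z) (g : G) :
    cj g (trK P z) = trK P z := by
  rw [trK, cj_sum]
  refine Fintype.sum_equiv (MulAction.toPerm g) _ _ fun ω => ?_
  obtain ⟨a, rfl⟩ := QuotientGroup.mk_surjective ω
  rw [MulAction.toPerm_apply, MulAction.Quotient.smul_coe, cj_out hz, cj_out hz, cj_cj, smul_eq_mul]

theorem trK_mul {P : Subgroup G} {z w : MonoidAlgebra k G} (hw : ∀ a, w * a = a * w) :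
    trK P (z * w) = trK P z * w := by
  rw [trK, trK, Finset.sum_mul]
  exact Finset.sum_congr rfl fun ω _ => by rw [cj_mul, cj_of_central hw]

/-- Truncation to a subgroup. -/
noncomputable def resK (H : Subgroup G) (z : MonoidAlgebra k G) : MonoidAlgebra k H :=
  MonoidAlgebra.ofCoeff (Finsupp.equivFunOnFinite.symm fun x : H => z.coeff x)

theorem coeff_resK (H : Subgroup G) (z : MonoidAlgebra k G) (x : H) :
    (resK H z).coeff x = z.coeff x := rfl

theorem resK_add (H : Subgroup G) (z w : MonoidAlgebra k G) :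
    resK H (z + w) = resK H z + resK H w :=
  MonoidAlgebra.ext (Finsupp.ext fun x => by simp [coeff_resK])

theorem resK_sum {ι : Type*} (H : Subgroup G) (s : Finset ι) (f : ι → MonoidAlgebra k G) :
    resK H (∑ i ∈ s, f i) = ∑ i ∈ s, resK H (f i) :=
  MonoidAlgebra.ext (Finsupp.ext fun x => by
    simp only [coeff_resK, MonoidAlgebra.coeff_sum, Finsupp.finsetSum_apply])

theorem resK_smul (H : Subgroup G) (c : k) (z : MonoidAlgebra k G) :
    resK H (c • z) = c • resK H z :=
  MonoidAlgebra.ext (Finsupp.ext fun x => by simp [coeff_resK])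

/-- Inclusion of the group algebra of a subgroup. -/
noncomputable def inclK (H : Subgroup G) : MonoidAlgebra k H →ₐ[k] MonoidAlgebra k G :=
  MonoidAlgebra.mapDomainAlgHom k k H.subtype

theorem inclK_single (H : Subgroup G) (x : H) (c : k) :
    inclK H (MonoidAlgebra.single x c) = MonoidAlgebra.single (x : G) c := by
  simp [inclK]

theorem coeff_inclK_coe (H : Subgroup G) (z : MonoidAlgebra k H) (x : H) :
    (inclK H z).coeff (x : G) = z.coeff x := by
  induction z using MonoidAlgebra.induction_linear with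
  | zero => simp
  | add a b ha hb => simp [map_add, ha, hb]
  | single h r => simp [inclK_single, Finsupp.single_apply]

theorem coeff_inclK_of_notMem (H : Subgroup G) (z : MonoidAlgebra k H) {x : G} (hx : x ∉ H) :
    (inclK H z).coeff x = 0 := by
  induction z using MonoidAlgebra.induction_linear with
  | zero => simp
  | add a b ha hb => simp [map_add, ha, hb]
  | single h r =>
    rw [inclK_single, MonoidAlgebra.coeff_single, Finsupp.single_apply,
      if_neg fun e : (h : G) = x => hx (e ▸ h.2)]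

theorem resK_inclK (H : Subgroup G) (z : MonoidAlgebra k H) : resK H (inclK H z) = z :=
  MonoidAlgebra.ext (Finsupp.ext fun x => by rw [coeff_resK, coeff_inclK_coe])

theorem resK_one (H : Subgroup G) : resK H (1 : MonoidAlgebra k G) = 1 := by
  rw [← map_one (inclK (k := k) H), resK_inclK]

/-- Truncation to the centraliser of a `p`-group is multiplicative on its fixed elements. -/
theorem resK_mul {p : ℕ} [Fact p.Prime] [CharP k p] {P : Subgroup G} (hP : IsPGroup p P)
    {z w : MonoidAlgebra k G} (hz : ∀ u ∈ P, cj u z = z) (hw : ∀ u ∈ P, cj u w = w) :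
    resK (Cen P) (z * w) = resK (Cen P) z * resK (Cen P) w := by
  refine MonoidAlgebra.ext (Finsupp.ext fun x => ?_)
  rw [coeff_resK, coeff_mul', coeff_mul']
  letI : MulAction P G := MulAction.compHom G ((MulAut.conj (G := G)).comp P.subtype)
  have hs : ∀ (u : P) (y : G), u • y = (u : G) * y * (u : G)⁻¹ := fun u y => rfl
  rw [sum_invariant hP (fun y : G => z.coeff y * w.coeff (y⁻¹ * x)) fun u y => ?_]
  · symm
    refine Finset.sum_bij (fun y _ => (y : G)) (fun y _ => ?_) (fun a _ b _ h => Subtype.ext h)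
      (fun y hy => ?_) (fun y _ => ?_)
    · simp only [Finset.mem_filter, Finset.mem_univ, true_and]
      intro u
      rw [hs, Subgroup.mem_centralizer_iff.1 y.2 u u.2, mul_inv_cancel_right]
    · simp only [Finset.mem_filter, Finset.mem_univ, true_and] at hy
      have hy' := hy
      refine ⟨⟨y, Subgroup.mem_centralizer_iff.2 fun u hu => ?_⟩, Finset.mem_univ _, rfl⟩
      have := hy' ⟨u, hu⟩
      rw [hs] at this
      exact mul_inv_eq_iff_eq_mul.1 this
    · rw [coeff_resK, coeff_resK]
      rfl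
  · show z.coeff ((u : G) * y * (u : G)⁻¹) * w.coeff (((u : G) * y * (u : G)⁻¹)⁻¹ * x) = _
    congr 1
    · conv_lhs => rw [← hz u u.2, coeff_cj]
      congr 1
      group
    · have e : ((u : G) * y * (u : G)⁻¹)⁻¹ * (x : G) = (u : G) * (y⁻¹ * x) * (u : G)⁻¹ := by
        have hx := Subgroup.mem_centralizer_iff.1 x.2 u u.2
        calc ((u : G) * y * (u : G)⁻¹)⁻¹ * (x : G)
            = (u : G) * y⁻¹ * ((u : G)⁻¹ * ((x : G) * u)) * (u : G)⁻¹ := by group
          _ = (u : G) * y⁻¹ * x * (u : G)⁻¹ := by rw [← hx, inv_mul_cancel_left]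
          _ = _ := by group
      rw [e]
      conv_lhs => rw [← hw u u.2, coeff_cj]
      congr 1
      group

end Algebra

section Block

variable {p : ℕ} [Fact p.Prime] {M : Ideal AlgInt} {G : Type u} [Group G] [Fintype G] {k : Type}
  [Field k] (hM : IsPModular p M) (π : localRing hM →+* k)
  (hπ : ∀ z : localRing hM, π z = 0 ↔ MemLocalIdeal M (z : ℂ))

include hπ in
/-- The idempotent of a block is a relative trace from a defect group of a central multiple of a
commuting element. -/
theorem exists_trace_unit {B : Set (IrrCharacter G)} (hB : IsPBlock M B) {P : Subgroup G}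
    (hP : IsDefectGroup p M B P) :
    ∃ y ∈ Cen P, (¬ p ∣ orderOf y) ∧ (eK hM hB π).coeff y ≠ 0 ∧
      ∃ w : MonoidAlgebra k G, (∀ a, w * a = a * w) ∧
        trK P (MonoidAlgebra.single y 1) * w * eK hM hB π = eK hM hB π := by
  obtain ⟨y, hy, S, hS⟩ := hP
  have hyP : y ∈ Cen P := Subgroup.mem_centralizer_iff.2 fun u hu => by
    rw [hS] at hu
    obtain ⟨v, -, rfl⟩ := hu
    exact Subgroup.mem_centralizer_singleton_iff.1 v.2
  refine ⟨y, hyP, BlockTheoryHeight.defectClass_regular hM hB hy, ?_, ?_⟩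
  · rw [coeff_eK]
    exact fun h => hy.2.1 ((hπ _).1 h)
  have hPC : P ≤ (Subgroup.centralizer ({y} : Set G)) := hS ▸ Subgroup.map_subtype_le _
  have hrel : ¬ p ∣ P.relIndex (Subgroup.centralizer ({y} : Set G)) := by
    have e : P.relIndex (Subgroup.centralizer ({y} : Set G)) = (S : Subgroup (Subgroup.centralizer ({y} : Set G))).index := by
      rw [Subgroup.relIndex, hS]
      congr 1
      simp only [Subgroup.subgroupOf]
      exact Subgroup.comap_map_eq_self_of_injective (Subgroup.subtype_injective (Subgroup.centralizer ({y} : Set G))) (S : Subgroup (Subgroup.centralizer ({y} : Set G)))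
    rw [e]
    exact S.not_dvd_index
  set z : MonoidAlgebra ℂ G := ∑ ω : G ⧸ P, MonoidAlgebra.single (ω.out * y * ω.out⁻¹) 1
  have hzint : IsInt M z := fun x => by
    simp only [z, MonoidAlgebra.coeff_sum, Finsupp.finsetSum_apply, MonoidAlgebra.coeff_single]
    refine (localRing hM).sum_mem fun ω _ => ?_
    rw [Finsupp.single_apply]
    split_ifs
    exacts [(localRing hM).one_mem, (localRing hM).zero_mem]
  have hfix : ∀ u ∈ P, u * y * u⁻¹ = y := fun u hu => by
    rw [Subgroup.mem_centralizer_iff.1 hyP u hu, mul_inv_cancel_right]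
  have hout : ∀ a : G, (a : G ⧸ P).out * y * (a : G ⧸ P).out⁻¹ = a * y * a⁻¹ := fun a => by
    obtain ⟨u, hu⟩ := QuotientGroup.mk_out_eq_mul P a
    rw [hu, show a * (u : G) * y * (a * (u : G))⁻¹ = a * ((u : G) * y * (u : G)⁻¹) * a⁻¹ by group,
      hfix u u.2]
  have hzcen : IsCen z := by
    intro x g
    simp only [z, MonoidAlgebra.coeff_sum, Finsupp.finsetSum_apply, MonoidAlgebra.coeff_single,
      Finsupp.single_apply]
    refine Fintype.sum_equiv (MulAction.toPerm g⁻¹) _ _ fun ω => ?_
    obtain ⟨a, rfl⟩ := QuotientGroup.mk_surjective ω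
    rw [MulAction.toPerm_apply, MulAction.Quotient.smul_coe, hout, hout, smul_eq_mul]
    refine if_congr ⟨fun h => ?_, fun h => ?_⟩ rfl rfl
    · rw [show g⁻¹ * a * y * (g⁻¹ * a)⁻¹ = g⁻¹ * (a * y * a⁻¹) * g by group, h]; group
    · rw [show a * y * a⁻¹ = g * (g⁻¹ * a * y * (g⁻¹ * a)⁻¹) * g⁻¹ by group, h]
  have homega : ∀ χ : IrrCharacter G, omega (χ : G → ℂ) z =
      (P.relIndex (Subgroup.centralizer ({y} : Set G)) : ℂ) * centralChar (χ : G → ℂ) y := by
    intro χ
    simp only [z, map_sum, omega_apply, chiSum_single, one_mul]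
    rw [Finset.sum_congr rfl fun ω _ => by
        rw [show (χ : G → ℂ) ((ω : G ⧸ P).out * y * ω.out⁻¹) = (χ : G → ℂ) y from
          (CharBasic.apply_eq_of_isConj (irr_classFun χ) (isConj_iff.2 ⟨_, rfl⟩)).symm],
      Finset.sum_const, Finset.card_univ, ← Nat.card_eq_fintype_card]
    rw [show Nat.card (G ⧸ P) = P.index from rfl, ← Subgroup.relIndex_mul_index hPC, centralChar,
      nsmul_eq_mul, Nat.cast_mul]
    ring
  obtain ⟨χ₀, hχ₀⟩ := block_nonempty hM hB
  set r : ℂ := (P.relIndex (Subgroup.centralizer ({y} : Set G)) : ℂ) * centralChar (χ₀ : G → ℂ) y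
  have hr : MemLocalRing M r := by
    rw [show r = omega (χ₀ : G → ℂ) z from (homega χ₀).symm]
    exact omega_mem_localRing hM χ₀ hzcen hzint
  have hr0 : ¬ MemLocalIdeal M r := by
    intro h
    refine hy.2.2 χ₀ hχ₀ ?_
    have hn0 : (P.relIndex (Subgroup.centralizer ({y} : Set G)) : ℂ) ≠ 0 := Nat.cast_ne_zero.2 fun h => hrel (h ▸ dvd_zero p)
    have h2 := ideal_mul_left hM (inv_natCast_mem hM hrel) h
    rwa [← mul_assoc, inv_mul_cancel₀ hn0, one_mul] at h2
  set d : MonoidAlgebra ℂ G := (z - r • 1) * idem B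
  have hdi : IsInt M d := IsInt.mul hM (IsInt.sub hM hzint (IsInt.smul hM hr (isInt_one hM)))
    (isInt_idem hM hB)
  have hzr : IsCen (z - r • 1) := (hzcen.sub (isCen_one.smul r))
  have hdc : IsCen d := hzr.mul (isCen_idem B)
  obtain ⟨N, hN⟩ := exists_small_pow hM hdc hdi fun χ => by
    rw [omega_mul χ hzr, omega_idem]
    split_ifs with h
    · rw [mul_one, map_sub, map_smul, omega_one, homega, smul_eq_mul, mul_one]
      have := sameBlock_of_mem hM hB h hχ₀ y
      refine cast (congrArg (MemLocalIdeal M) ?_)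
        (ideal_mul_left hM (natCast_mem (localRing hM) (P.relIndex (Subgroup.centralizer ({y} : Set G)))) this)
      ring
    · rw [mul_zero]; exact ideal_zero hM
  set e := eK hM hB π
  set Z := trK P (MonoidAlgebra.single y (1 : k))
  have hZ : rdA hM π z = Z := by
    rw [rdA_sum hM π _ _ fun ω _ x => by
      rw [MonoidAlgebra.coeff_single, Finsupp.single_apply]
      split_ifs
      exacts [(localRing hM).one_mem, (localRing hM).zero_mem]]
    refine Finset.sum_congr rfl fun ω _ => ?_
    rw [rdA_single, rd_one, cj_single]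
  have hec : ∀ a, e * a = a * e := eK_comm hM hB π
  have hZc : ∀ a, Z * a = a * Z := central_of_cj (cj_trK fun u hu => by rw [cj_single, hfix u hu])
  set c := rd hM π r
  have hc0 : c ≠ 0 := fun h => hr0 ((rd_eq_zero_iff hπ hr).1 h)
  have hd : rdA hM π d = (Z - c • 1) * e := by
    rw [rdA_mul hM π (IsInt.sub hM hzint (IsInt.smul hM hr (isInt_one hM))) (isInt_idem hM hB),
      rdA_idem hM π hB, rdA_sub hM π hzint (IsInt.smul hM hr (isInt_one hM)),
      rdA_smul hM π hr (isInt_one hM), rdA_one, hZ]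
  have hnil : IsNilpotent ((Z - c • 1) * e) := ⟨N, by
    rw [← hd, ← rdA_pow hM π hdi, rdA_eq_zero hπ hN]⟩
  set a := (-c⁻¹) • ((Z - c • 1) * e) with ha
  have hac : ∀ w, a * w = w * a := fun w =>
    ((((show Commute Z w from hZc w).sub_left ((Commute.one_left w).smul_left c)).mul_left
      (show Commute e w from hec w)).smul_left _).eq
  obtain ⟨m, hm⟩ : IsNilpotent a := by
    obtain ⟨m, hm⟩ := hnil
    exact ⟨m, by rw [ha, smul_pow, hm, smul_zero]⟩
  refine ⟨c⁻¹ • ∑ i ∈ Finset.range m, a ^ i, fun w => ?_, ?_⟩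
  · rw [smul_mul_assoc, mul_smul_comm, Finset.sum_mul, Finset.mul_sum]
    congr 1
    refine Finset.sum_congr rfl fun i _ => ?_
    exact ((show Commute a w from hac w).pow_left i).eq
  · have hae : a * e = a := by rw [ha, smul_mul_assoc, mul_assoc, eK_sq]
    have hZe : Z * e = c • ((1 - a) * e) := by
      rw [sub_mul, hae, ha, one_mul, smul_sub, smul_smul, mul_neg, mul_inv_cancel₀ hc0, sub_mul,
        smul_mul_assoc, one_mul]
      module
    calc Z * (c⁻¹ • ∑ i ∈ Finset.range m, a ^ i) * e
        = c⁻¹ • ((Z * e) * ∑ i ∈ Finset.range m, a ^ i) := by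
          rw [mul_smul_comm, smul_mul_assoc, mul_assoc Z _ e, ← hec, mul_assoc Z e]
      _ = (1 - a) * (∑ i ∈ Finset.range m, a ^ i) * e := by
          rw [hZe, smul_mul_assoc, smul_smul, inv_mul_cancel₀ hc0, one_smul, mul_assoc, hec, mul_assoc]
      _ = e := by rw [mul_neg_geom_sum, hm, sub_zero, one_mul]

include hπ in
/-- The blocks occurring in the truncation of a block idempotent. -/
theorem resK_mul_eK {B : Set (IrrCharacter G)} (hB : IsPBlock M B) {Q : Subgroup G}
    (hQ : IsPGroup p Q) {f : Set (IrrCharacter (Cen Q))} (hf : IsPBlock M f) :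
    (IsBrauerPairOf p M B Q f → resK (Cen Q) (eK hM hB π) * eK hM hf π = eK hM hf π) ∧
      (¬ IsBrauerPairOf p M B Q f → resK (Cen Q) (eK hM hB π) * eK hM hf π = 0) := by
  have e : resK (Cen Q) (eK hM hB π) = rdA hM π (res (Cen Q) (idem B)) :=
    MonoidAlgebra.ext (Finsupp.ext fun x => by
      rw [coeff_resK, coeff_rdA, coeff_res, ← rdA_idem hM π hB, coeff_rdA])
  have h1 : IsInt M (res (Cen Q) (idem B)) := BlockTheoryBrauer.isInt_res (Cen Q) (isInt_idem hM hB)
  have hoc : IsBrauerPairOf p M B Q f ↔ Occ M Q f (idem B) := by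
    rw [isBrauerPairOf_iff]
    exact ⟨fun h => h.2.2, fun h => ⟨⟨hQ, hf⟩, hB, h⟩⟩
  constructor
  · intro h
    have hs := rdA_eq_zero hπ (small_res_idem hM hQ (IsCen.invBy (isCen_idem B) Q)
      (IsCen.invBy (isCen_idem B) _) (isInt_idem hM hB) (idem_sq B) hf (hoc.1 h))
    rw [rdA_sub hM π (IsInt.mul hM h1 (isInt_idem hM hf)) (isInt_idem hM hf), sub_eq_zero,
      rdA_mul hM π h1 (isInt_idem hM hf), rdA_idem hM π hf, ← e] at hs
    exact hs
  · intro h
    have hs := rdA_eq_zero hπ (small_res_idem_zero hM hQ (IsCen.invBy (isCen_idem B) Q)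
      (IsCen.invBy (isCen_idem B) _) (isInt_idem hM hB) (idem_sq B) hf fun ho => h (hoc.2 ho))
    rw [rdA_mul hM π h1 (isInt_idem hM hf), rdA_idem hM π hf, ← e] at hs
    exact hs

end Block

end Cfsg.Agent.CyclicReduce42
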