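import Cfsg.Agent.Lib.CyclicBlockRep42
import Cfsg.Agent.Lib.CyclicReduce42
import Cfsg.Agent.Lib.CyclicCorner42
import Cfsg.Agent.Lib.BlockAbelian81

/-!
# The basic algebra of a block with cyclic defect group and trivial inertial quotient

The block has one irreducible representation and its basic algebra is generated by a central
element lifting a generator of the defect group minus one.
-/

set_option autoImplicit false
set_option linter.unusedSectionVars false
set_option linter.style.haveILetI false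

namespace Cfsg.Agent.CyclicLocal42

open Cfsg BlockTheoryLocalRing BlockTheoryCentre BlockTheoryIdem BrauerPairs81Base
  BrauerPairs81Pairs BrauerPairs81Conj BrauerPairs81Local BrauerPairs81Fusion BrandtAlgebra42
  BrandtBlock42 CyclicRep42 CyclicBlockRep42 CyclicReduce42 BlockPrime86

attribute [local instance] Classical.propDecidable

universe u

variable {p : ℕ} [Fact p.Prime] {M : Ideal AlgInt} {H : Type u} [Group H] [Fintype H] {k : Type}
  [Field k]

/-- The trace form at the identity. -/
noncomputable def formAt (ε : MonoidAlgebra k H) : MonoidAlgebra k H →ₗ[k] k where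
  toFun y := (ε * y).coeff 1
  map_add' x y := by rw [mul_add, MonoidAlgebra.coeff_add, Finsupp.add_apply]
  map_smul' c x := by rw [mul_smul_comm, MonoidAlgebra.coeff_smul, Finsupp.smul_apply, RingHom.id_apply]

theorem coeff_one_comm (x y : MonoidAlgebra k H) : (x * y).coeff 1 = (y * x).coeff 1 := by
  rw [coeff_mul', coeff_mul']
  refine Fintype.sum_equiv (Equiv.inv H) _ _ fun g => ?_
  simp only [mul_one, Equiv.inv_apply, inv_inv]
  exact mul_comm _ _

theorem single_mul_comm {g : H} (hg : g ∈ Subgroup.center H) (x : MonoidAlgebra k H) :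
    MonoidAlgebra.single g 1 * x = x * MonoidAlgebra.single g 1 := by
  refine MonoidAlgebra.ext (Finsupp.ext fun y => ?_)
  rw [coeff_single_mul', coeff_mul_single']
  congr 1
  exact (Subgroup.mem_center_iff.1 ((Subgroup.center H).inv_mem hg) y).symm

theorem finrank_module_end {W : Type u} [AddCommGroup W] [Module k W] [FiniteDimensional k W]
    [IsAlgClosed k] {σ : Representation k H W} (hσ : Irred σ) :
    Function.Surjective σ.asAlgebraHom := by
  intro T
  obtain ⟨c, hc⟩ := exists_combination (fun _ : Unit => W) (fun _ => σ) (fun _ => hσ)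
    (fun i j hij => absurd (Subsingleton.elim i j) hij) fun q => T (Module.finBasis k W q.2)
  refine ⟨∑ g, c g • MonoidAlgebra.single g 1, (Module.finBasis k W).ext fun i => ?_⟩
  simp only [map_sum, map_smul, Representation.asAlgebraHom_single_one, LinearMap.sum_apply,
    LinearMap.smul_apply]
  exact hc ⟨(), i⟩

variable [CharP k p] [IsAlgClosed k] (hM : IsPModular p M) (red : localRing hM →+* k)
  (hred : ∀ z : localRing hM, red z = 0 ↔ MemLocalIdeal M (z : ℂ))
  {b : Set (IrrCharacter H)} {P : Subgroup H} {c : Set (IrrCharacter (Cen P))}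

/-- Functionals invariant under the block form a space of dimension at most `k(b)`. -/
theorem not_independent (hb : IsPBlock M b) {q : ℕ} (hq : Nat.card b ≤ q)
    (t : Fin (q + 1) → (MonoidAlgebra k H →ₗ[k] k))
    (ht : ∀ i, (∀ x y, t i (x * y) = t i (y * x)) ∧ ∀ y, t i (eK hM hb red * y) = t i y) :
    ¬ LinearIndependent k t := by
  intro hli
  set F : Fin (q + 1) → (ConjClasses H → k) := fun i C => t i (MonoidAlgebra.single C.out 1) with hF
  have hcl : ∀ i (x : H), t i (MonoidAlgebra.single (ConjClasses.mk x).out 1) =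
      t i (MonoidAlgebra.single x 1) := by
    intro i x
    obtain ⟨g, hg⟩ := isConj_iff.1 ((isConj_out (ConjClasses.mk x)).1 rfl)
    conv_rhs => rw [← hg]
    rw [show MonoidAlgebra.single (g * (ConjClasses.mk x).out * g⁻¹) (1 : k) =
      MonoidAlgebra.single g 1 * (MonoidAlgebra.single ((ConjClasses.mk x).out * g⁻¹) 1) by
      rw [MonoidAlgebra.single_mul_single, one_mul, mul_assoc], (ht i).1,
      MonoidAlgebra.single_mul_single, one_mul, inv_mul_cancel_right]
  have hfix : ∀ i, ((classMat hM hb).map red).mulVec (F i) = F i := by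
    intro i
    funext C
    rw [classMat_mulVec]
    conv_rhs => rw [hF]; simp only
    rw [← (ht i).2, eq_sum_single' (eK hM hb red), Finset.sum_mul, map_sum]
    refine Finset.sum_congr rfl fun h _ => ?_
    rw [MonoidAlgebra.single_mul_single, mul_one, coeff_eK, hF]
    simp only [hcl]
    rw [show MonoidAlgebra.single (h * C.out) (red (eR hM hb h)) =
      red (eR hM hb h) • MonoidAlgebra.single (h * C.out) (1 : k) by
        rw [MonoidAlgebra.smul_single', mul_one], map_smul, smul_eq_mul]
  have hFi : LinearIndependent k F := by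
    refine Fintype.linearIndependent_iff.2 fun a ha => Fintype.linearIndependent_iff.1 hli a ?_
    refine LinearMap.ext fun y => ?_
    induction y using MonoidAlgebra.induction_linear with
    | zero => simp
    | add x y hx hy => rw [map_add, hx, hy, map_add]
    | single g r =>
      have h := congrFun ha (ConjClasses.mk g)
      simp only [hF, Finset.sum_apply, Pi.smul_apply, hcl, Pi.zero_apply] at h
      rw [show MonoidAlgebra.single g r = r • MonoidAlgebra.single g (1 : k) by
        rw [MonoidAlgebra.smul_single', mul_one], map_smul, map_smul, LinearMap.sum_apply]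
      simp only [LinearMap.smul_apply, h, smul_zero, LinearMap.zero_apply]
  have hsp : Submodule.span k (Set.range F) ≤
      LinearMap.range (Matrix.toLin' ((classMat hM hb).map red)) := by
    rw [Submodule.span_le]
    rintro _ ⟨i, rfl⟩
    exact ⟨F i, by rw [Matrix.toLin'_apply, hfix]⟩
  have h1 := Submodule.finrank_mono hsp
  rw [finrank_span_eq_card hFi, Fintype.card_fin,
    rank_map_eq (localRing hM).subtype Subtype.val_injective red _ (classMat_sq hM hb)] at h1
  have h2 := classMat_rank_le hM hb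
  omega

include hred in
theorem resK_eK (hmax : IsMaximalBrauerPair p M b P c) :
    resK (Cen P) (eK hM hmax.1.2.1 red) * eK hM hmax.1.1.2 red = eK hM hmax.1.1.2 red :=
  (resK_mul_eK hM red hred hmax.1.2.1 hmax.1.1.1 hmax.1.1.2).1 hmax.1

theorem cj_inclK (C : Subgroup H) (g : C) (E : MonoidAlgebra k C) :
    cj (g : H) (inclK C E) = inclK C (cj g E) := by
  simp [cj, map_mul, inclK_single]

theorem cj_inclK_conj (C : Subgroup H) (g : H) (hC : ∀ x, x ∈ C ↔ g * x * g⁻¹ ∈ C)
    (E : MonoidAlgebra k C) :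
    cj g (inclK C E) =
      inclK C (MonoidAlgebra.mapDomainAlgHom k k (conjEquiv g C C hC).toMonoidHom E) := by
  induction E using MonoidAlgebra.induction_linear with
  | zero => simp [cj]
  | add a b ha hb =>
    rw [map_add, map_add, map_add, ← ha, ← hb]
    simp only [cj, mul_add, add_mul]
  | single h r =>
    rw [MonoidAlgebra.mapDomainAlgHom_apply, MonoidAlgebra.mapDomain_single, inclK_single,
      inclK_single, cj, MonoidAlgebra.single_mul_single, MonoidAlgebra.single_mul_single, one_mul,
      mul_one]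
    rfl

/-- The Brauer image of a relative trace, cut by an idempotent killed by the outer conjugates. -/
theorem resK_trK (hP : IsPGroup p P) (E : MonoidAlgebra k (Cen P)) (ec : MonoidAlgebra k (Cen P))
    (hfix : ∀ u ∈ P, cj u (inclK (Cen P) E) = inclK (Cen P) E)
    (hkill : ∀ g ∈ Subgroup.normalizer (P : Set H), g ∉ Cen P →
      resK (Cen P) (cj g (inclK (Cen P) E)) * ec = 0) :
    resK (Cen P) (trK P (inclK (Cen P) E)) * ec = trK (P.subgroupOf (Cen P)) E * ec := by
  set D := inclK (Cen P) E with hD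
  set Z := P.subgroupOf (Cen P) with hZ
  refine MonoidAlgebra.ext (Finsupp.ext fun x => ?_)
  rw [trK, resK_sum, Finset.sum_mul, MonoidAlgebra.coeff_sum, Finsupp.finsetSum_apply]
  rw [sum_invariant hP (fun ω : H ⧸ P => (resK (Cen P) (cj ω.out D) * ec).coeff x) fun u ω => ?_]
  swap
  · obtain ⟨g, rfl⟩ := QuotientGroup.mk_surjective ω
    show (resK (Cen P) (cj ((u : H) • (g : H ⧸ P)).out D) * ec).coeff x = _
    rw [MulAction.Quotient.smul_coe, cj_out hfix, cj_out hfix, smul_eq_mul, ← cj_cj]
    have hu : ∀ a : MonoidAlgebra k H, resK (Cen P) (cj (u : H) a) = resK (Cen P) a := fun a =>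
      MonoidAlgebra.ext (Finsupp.ext fun t => by
        have ht := Subgroup.mem_centralizer_iff.1 t.2 u u.2
        rw [coeff_resK, coeff_resK, coeff_cj, mul_assoc, ← ht, ← mul_assoc, inv_mul_cancel, one_mul])
    rw [hu]
  rw [trK, Finset.sum_mul, MonoidAlgebra.coeff_sum, Finsupp.finsetSum_apply]
  have hZmem : ∀ g : Cen P, g ∈ Z ↔ (g : H) ∈ P := fun g => Subgroup.mem_subgroupOf
  refine Eq.trans (Finset.sum_subset (s₁ := (Finset.univ : Finset (Cen P ⧸ Z)).image
    fun τ => ((τ.out : H) : H ⧸ P)) ?_ ?_).symm ?_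
  · intro ω hω
    obtain ⟨τ, -, rfl⟩ := Finset.mem_image.1 hω
    simp only [Finset.mem_filter, Finset.mem_univ, true_and]
    intro u
    show (u : H) • ((τ.out : H) : H ⧸ P) = _
    rw [MulAction.Quotient.smul_coe, QuotientGroup.eq, smul_eq_mul]
    have hu := Subgroup.mem_centralizer_iff.1 τ.out.2 u u.2
    rw [show ((u : H) * (τ.out : H))⁻¹ * (τ.out : H) = (u : H)⁻¹ by
      rw [hu, mul_inv_rev, inv_mul_cancel_right]]
    exact P.inv_mem u.2
  · intro ω hω hω'
    obtain ⟨g, rfl⟩ := QuotientGroup.mk_surjective ω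
    simp only [Finset.mem_filter, Finset.mem_univ, true_and] at hω
    have hfx := hω
    have h1 : ∀ u ∈ P, g⁻¹ * u * g ∈ P := by
      intro u hu
      have h := hfx ⟨u⁻¹, P.inv_mem hu⟩
      change (u⁻¹ : H) • (g : H ⧸ P) = _ at h
      rw [MulAction.Quotient.smul_coe, QuotientGroup.eq, smul_eq_mul, mul_inv_rev, inv_inv] at h
      exact h
    have hgn : g ∈ Subgroup.normalizer (P : Set H) := by
      have h2 : cjS g⁻¹ P ≤ P := by
        rintro _ ⟨u, hu, rfl⟩
        simpa using h1 u hu
      have h3 : cjS g⁻¹ P = P := Subgroup.eq_of_le_of_card_ge h2 (card_cjS _ _).ge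
      refine (Subgroup.normalizer (P : Set H)).inv_mem_iff.1 ?_
      refine Subgroup.mem_normalizer_iff.2 fun u => ⟨fun hu => ?_, fun hu => ?_⟩
      · simpa using h1 u hu
      · conv at hu => rw [← h3]
        simpa [mem_cjS, mul_assoc] using hu
    have hgC : g ∉ Cen P := by
      intro hg
      refine hω' (Finset.mem_image.2 ⟨((⟨g, hg⟩ : Cen P) : Cen P ⧸ Z), Finset.mem_univ _, ?_⟩)
      obtain ⟨r, hr⟩ := QuotientGroup.mk_out_eq_mul Z (⟨g, hg⟩ : Cen P)
      rw [hr, QuotientGroup.eq]
      simpa using P.inv_mem ((hZmem _).1 r.2)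
    rw [cj_out hfix, hkill g hgn hgC]
    simp
  · rw [Finset.sum_image]
    · refine Finset.sum_congr rfl fun τ _ => ?_
      rw [cj_out hfix, hD, cj_inclK, resK_inclK]
    · intro τ _ τ' _ h
      rw [QuotientGroup.eq] at h
      rw [← QuotientGroup.out_eq' τ, ← QuotientGroup.out_eq' τ', QuotientGroup.eq, hZmem]
      exact h

theorem eK_conj_mul_eq_zero (hc : IsPBlock M c) {g : H}
    (hgn : g ∈ Subgroup.normalizer (P : Set H))
    (hg : g ∉ stab (⟨P, c⟩ : BrauerPairIdx H)) :
    MonoidAlgebra.mapDomainAlgHom k k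
        (conjEquiv g (Cen P) (Cen P)
          (conj_mem_iff_of_normalizer (normalizer_le_normalizer_cen hgn))).toMonoidHom
        (eK hM hc red) * eK hM hc red = 0 := by
  set hH := conj_mem_iff_of_normalizer (normalizer_le_normalizer_cen hgn)
  set φ := conjEquiv g (Cen P) (Cen P) hH
  have hc' : IsPBlock M (pushSet φ c) := isPBlock_push φ hc
  have hne : pushSet φ c ≠ c := by
    intro h
    refine hg (mem_stab.2 (cP_eq_self_iff.2 ⟨hgn, ?_⟩))
    rw [cjA_eb hH, h]
  have himg : MonoidAlgebra.mapDomainAlgHom k k φ.toMonoidHom (eK hM hc red) =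
      eK hM hc' red := by
    refine MonoidAlgebra.ext (Finsupp.ext fun t => ?_)
    obtain ⟨s, rfl⟩ := φ.surjective t
    rw [MonoidAlgebra.mapDomainAlgHom_apply]
    have h1 : (MonoidAlgebra.mapDomain φ.toMonoidHom (eK hM hc red)).coeff (φ s) =
        (eK hM hc red).coeff s := by
      rw [MonoidAlgebra.coeff_mapDomain]
      exact Finsupp.mapDomain_apply φ.injective _ s
    refine h1.trans ?_
    rw [coeff_eK, coeff_eK]
    congr 1
    exact Subtype.ext (blockCoeff_push φ c s).symm
  rw [himg, ← rdA_idem hM red hc', ← rdA_idem hM red hc,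
    ← rdA_mul hM red (isInt_idem hM hc') (isInt_idem hM hc), idem_mul_of_ne hM hc' hc hne, rdA_zero]

include hred in
theorem defect_sum_ne_zero (hc : IsPBlock M c) {v : Cen P} (hv : (v : H) ∈ P)
    (hgen : ∀ x : P, x ∈ Subgroup.zpowers (⟨(v : H), hv⟩ : P))
    (hvc : v ∈ Subgroup.center (Cen P)) {y : Cen P} (hyreg : ¬ p ∣ orderOf y)
    (hy : (eK hM hc red).coeff y ≠ 0) (hP : IsPGroup p P) :
    (∑ i ∈ Finset.range (Nat.card P), MonoidAlgebra.single v (1 : k) ^ i) * eK hM hc red ≠ 0 := by
  have hp : p.Prime := Fact.out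
  have hP0 : 0 < Nat.card P := Nat.card_pos
  intro h
  refine hy ?_
  have h2 := congrArg (fun a => a.coeff y) h
  simp only [MonoidAlgebra.coeff_zero, Finsupp.zero_apply, Finset.sum_mul, MonoidAlgebra.coeff_sum,
    Finsupp.finsetSum_apply] at h2
  rw [Finset.sum_eq_single 0, pow_zero, one_mul] at h2
  · exact h2
  · intro i hi hi0
    rw [MonoidAlgebra.single_pow, one_pow, coeff_single_mul', coeff_eK]
    have hu1 : (v ^ i)⁻¹ ≠ 1 := by
      intro h
      have h' : (⟨(v : H), hv⟩ : P) ^ i = 1 := Subtype.ext (by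
        simpa using congrArg Subtype.val (inv_eq_one.1 h))
      have := orderOf_dvd_of_pow_eq_one h'
      rw [orderOf_eq_card_of_forall_mem_zpowers hgen] at this
      exact hi0 (Nat.eq_zero_of_dvd_of_lt this (Finset.mem_range.1 hi))
    obtain ⟨j, hj⟩ : ∃ j, orderOf (v ^ i)⁻¹ = p ^ j := by
      obtain ⟨j, hj⟩ := IsPGroup.iff_orderOf.1 hP ⟨((v ^ i)⁻¹ : Cen P), by
        simpa using P.inv_mem (P.pow_mem hv i)⟩
      exact ⟨j, by rw [← hj, ← Subgroup.orderOf_coe, ← Subgroup.orderOf_coe]⟩
    have hsing : p ∣ orderOf ((v ^ i)⁻¹ * y) := by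
      have hcomm : Commute (v ^ i)⁻¹ y :=
        (Subgroup.mem_center_iff.1 ((Subgroup.center _).inv_mem ((Subgroup.center _).pow_mem hvc i)) y).symm
      rw [hcomm.orderOf_mul_eq_mul_orderOf_of_coprime
        (hj ▸ ((hp.coprime_iff_not_dvd.2 hyreg).pow_left j))]
      refine Dvd.dvd.mul_right ?_ _
      rw [hj]
      rcases j with _ | j
      · exact absurd (orderOf_eq_one_iff.1 (hj.trans (pow_zero p))) hu1
      · exact dvd_pow_self p j.succ_ne_zero
    have h0 := blockCoeff_eq_zero_of_dvd hM hc hsing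
    exact (hred _).2 (by
      rw [show ((eR hM hc _ : localRing hM) : ℂ) = blockCoeff c _ from rfl, h0]; exact ideal_zero hM)
  · exact fun hh => absurd (Finset.mem_range.2 hP0) hh

include hred in
/-- A central element of the block lifting a generator of the defect group. -/
theorem exists_central (hmax : IsMaximalBrauerPair p M b P c) (hcyc : IsCyclic P)
    (hst : stab (⟨P, c⟩ : BrauerPairIdx H) ≤ Cen P) :
    ∃ z : MonoidAlgebra k H, (∀ y, z * y = y * z) ∧
      ∀ s : k, IsNilpotent ((z - s • 1) * eK hM hmax.1.2.1 red) →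
        ((z - s • 1) * eK hM hmax.1.2.1 red) ^ (Nat.card P - 1) ≠ 0 := by
  have hp : p.Prime := Fact.out
  have hPp : IsPGroup p P := hmax.1.1.1
  have hc : IsPBlock M c := hmax.1.1.2
  obtain ⟨⟨v, hv⟩, hgen⟩ := hcyc.exists_generator
  have hPC : P ≤ Cen P := fun x hx => Subgroup.mem_centralizer_iff.2 fun y hy => by
    haveI := hcyc.isMulCommutative
    exact congrArg Subtype.val (mul_comm' (⟨y, hy⟩ : P) ⟨x, hx⟩)
  have hZc : P.subgroupOf (Cen P) ≤ Subgroup.center (Cen P) := fun x hx =>
    Subgroup.mem_center_iff.2 fun g => Subtype.ext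
      (Subgroup.mem_centralizer_iff.1 g.2 _ (Subgroup.mem_subgroupOf.1 hx)).symm
  have hDc : IsDefectGroup p M c (P.subgroupOf (Cen P)) := by
    have := (defect_iff_max hM hmax Relation.ReflTransGen.refl le_rfl
      (Subgroup.centralizer_le_normalizer _) hc
      fun t => (coeff_eb_coe _ c t).symm).mpr fun x hx => by
        have h1 : cjS x P ≤ P := subgroup_le_of_subpairLE hx
        have h2 : cjS x P = P := Subgroup.eq_of_le_of_card_ge h1 (card_cjS x _).ge
        rw [← cen_cjS, h2]
    rwa [inf_of_le_left hPC] at this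
  obtain ⟨y, -, hyreg, hye, w, hw, hyw⟩ := exists_trace_unit hM red hred hc hDc
  set v' : Cen P := ⟨v, hPC hv⟩
  have hv'c : v' ∈ Subgroup.center (Cen P) := hZc (Subgroup.mem_subgroupOf.2 hv)
  set V : MonoidAlgebra k (Cen P) := MonoidAlgebra.single v' 1
  have hVc : ∀ x, V * x = x * V := single_mul_comm hv'c
  set ec := eK hM hc red
  have hecc : ∀ x, ec * x = x * ec := eK_comm hM hc red
  set E := MonoidAlgebra.single y (1 : k) * w * V * ec
  have hfix : ∀ u ∈ P, cj u (inclK (Cen P) E) = inclK (Cen P) E := by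
    intro u hu
    rw [show u = ((⟨u, hPC hu⟩ : Cen P) : H) from rfl, cj_inclK]
    congr 1
    rw [cj_eq_self_iff]
    exact (single_mul_comm (hZc (Subgroup.mem_subgroupOf.2 hu)) E).symm
  have hbr : resK (Cen P) (trK P (inclK (Cen P) E)) * ec = V * ec := by
    rw [resK_trK hPp E ec hfix fun g hgn hgC => ?_]
    · rw [show E = MonoidAlgebra.single y (1 : k) * (w * V * ec) by simp only [E, mul_assoc],
        trK_mul (w := w * V * ec) fun x => by
          rw [mul_assoc, hecc, ← mul_assoc, mul_assoc w V x, hVc, ← mul_assoc, hw, mul_assoc x,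
            mul_assoc],
        mul_assoc, mul_assoc, eK_sq, ← mul_assoc, ← mul_assoc,
        mul_assoc (trK (P.subgroupOf (Cen P)) (MonoidAlgebra.single y 1) * w), hVc, ← mul_assoc,
        hyw, hecc]
    · rw [cj_inclK_conj _ g (conj_mem_iff_of_normalizer (normalizer_le_normalizer_cen hgn)),
        resK_inclK, map_mul, mul_assoc,
        eK_conj_mul_eq_zero hM red hc hgn (fun h => hgC (hst h)), mul_zero]
  have hzc : ∀ x, trK P (inclK (Cen P) E) * x = x * trK P (inclK (Cen P) E) :=
    central_of_cj (cj_trK hfix)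
  refine ⟨trK P (inclK (Cen P) E), hzc, fun s hnil => ?_⟩
  generalize hz : trK P (inclK (Cen P) E) = z at hbr hzc hnil ⊢
  set e := eK hM hmax.1.2.1 red with he
  have hec' : ∀ x, e * x = x * e := eK_comm hM hmax.1.2.1 red
  have hzs : ∀ x, (z - s • 1) * x = x * (z - s • 1) := fun x => by
    rw [sub_mul, mul_sub, hzc x, smul_mul_assoc, mul_smul_comm, one_mul, mul_one]
  have hXc : Commute ((z - s • 1) * e) ((z - s • 1) * e) := Commute.refl _
  have hXcen : ∀ i x, ((z - s • 1) * e) ^ i * x = x * ((z - s • 1) * e) ^ i := fun i x =>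
    ((show Commute ((z - s • 1) * e) x from by
      show _ = _
      rw [mul_assoc, hec', ← mul_assoc, hzs, mul_assoc]).pow_left i).eq
  have hfc : ∀ {a : MonoidAlgebra k H}, (∀ x, a * x = x * a) → ∀ u ∈ P, cj u a = a :=
    fun {a} ha u _ => cj_of_central ha u
  have h1 : resK (Cen P) ((z - s • 1) * e) * ec = (V - s • 1) * ec := by
    rw [resK_mul hPp (hfc hzs) (hfc hec'), mul_assoc, resK_eK hM red hred hmax,
      show resK (Cen P) (z - s • 1) = resK (Cen P) z - s • 1 by
        rw [sub_eq_add_neg, resK_add, ← neg_smul, resK_smul, resK_one, neg_smul, ← sub_eq_add_neg],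
      sub_mul, sub_mul, hbr]
  have hβ : ∀ i, resK (Cen P) (((z - s • 1) * e) ^ i) * ec = (V - s • 1) ^ i * ec := by
    intro i
    induction i with
    | zero => rw [pow_zero, pow_zero, resK_one]
    | succ i ih =>
      rw [pow_succ, resK_mul hPp (hfc (hXcen i)) (hfc fun x => by simpa using hXcen 1 x),
        mul_assoc, h1, ← hecc (V - s • 1), ← mul_assoc, ih, mul_assoc, hecc, ← mul_assoc, ← pow_succ]
  obtain ⟨n, hn⟩ := hPp.exists_card_eq
  have hVq : V ^ p ^ n = 1 := by
    rw [MonoidAlgebra.single_pow, one_pow, MonoidAlgebra.one_def]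
    congr 1
    refine Subtype.ext ?_
    rw [Subgroup.coe_pow, Subgroup.coe_one, ← hn]
    exact congrArg Subtype.val (pow_card_eq_one' (x := (⟨v, hv⟩ : P)))
  haveI : CharP (MonoidAlgebra k (Cen P)) p := charP_of_injective_algebraMap
    (FaithfulSMul.algebraMap_injective k (MonoidAlgebra k (Cen P))) p
  have hne0 := defect_sum_ne_zero hM red hred hc hv (v := v') hgen hv'c hyreg hye hPp
  have hres0 : resK (Cen P) (0 : MonoidAlgebra k H) = 0 :=
    MonoidAlgebra.ext (Finsupp.ext fun _ => rfl)
  -- the constant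
  obtain ⟨N, hN⟩ := hnil
  have hs : s = 1 := by
    have h := hβ (p ^ n * N)
    rw [pow_mul', hN, zero_pow (pow_ne_zero _ hp.ne_zero), hres0, zero_mul, pow_mul,
      sub_pow_char_pow_of_commute _ _ (((Commute.one_right V).smul_right s)), hVq, smul_pow,
      one_pow, ← one_smul k (1 : MonoidAlgebra k (Cen P)), smul_smul, ← sub_smul, mul_one, smul_pow,
      one_pow, smul_mul_assoc, one_mul] at h
    have hec0 : ec ≠ 0 := fun h0 => hye (by simp [h0])
    by_contra hne
    refine hec0 ((smul_eq_zero.1 h.symm).resolve_left (pow_ne_zero _ ?_))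
    rw [show (1 : k) = 1 ^ p ^ n from (one_pow _).symm, ← sub_pow_char_pow]
    exact pow_ne_zero _ (sub_ne_zero.2 (Ne.symm hne))
  intro hX0
  refine hne0 ?_
  have h := hβ (Nat.card P - 1)
  rw [hX0, hs, one_smul, hres0, zero_mul] at h
  have hpoly : ((Polynomial.X : Polynomial k) - 1) ^ (Nat.card P - 1) =
      ∑ i ∈ Finset.range (Nat.card P), Polynomial.X ^ i := by
    refine mul_right_cancel₀ (Polynomial.X_sub_C_ne_zero (1 : k)) ?_
    rw [map_one, ← pow_succ, Nat.sub_add_cancel Nat.card_pos, geom_sum_mul, hn, sub_pow_char_pow,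
      one_pow]
  have hnorm := congrArg (Polynomial.aeval V) hpoly
  simp only [map_pow, map_sub, map_one, map_sum, Polynomial.aeval_X] at hnorm
  rw [← hnorm, ← h]

include hred in
/-- The corner of the block. -/
theorem exists_local_corner (hmax : IsMaximalBrauerPair p M b P c) (hcyc : IsCyclic P)
    (hst : stab (⟨P, c⟩ : BrauerPairIdx H) ≤ Cen P) :
    ∃ (X f : MonoidAlgebra k H) (n : ℕ) (a a' : Fin n → MonoidAlgebra k H),
      (∀ y, X * y = y * X) ∧ X * eK hM hmax.1.2.1 red = X ∧ f * f = f ∧
      f * eK hM hmax.1.2.1 red = f ∧ eK hM hmax.1.2.1 red = ∑ i, a i * f * a' i ∧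
      X ^ Nat.card P = 0 ∧
      (∀ y, f * y * f ∈
        Submodule.span k (Set.range fun i : Fin (Nat.card P) => X ^ (i : ℕ) * f)) ∧
      ∃ (W : Type u) (_ : AddCommGroup W) (_ : Module k W) (_ : FiniteDimensional k W)
        (σ : Representation k H W), Irred σ ∧ InBlk (eK hM hmax.1.2.1 red) W σ ∧
        σ.asAlgebraHom X = 0 ∧ ∃ w : W, w ≠ 0 ∧ σ.asAlgebraHom f w = w := by
  have hab : ∀ x ∈ P, ∀ y ∈ P, x * y = y * x := fun a ha b hb => by
    haveI := hcyc.isMulCommutative
    exact congrArg Subtype.val (mul_comm' (⟨a, ha⟩ : P) ⟨b, hb⟩)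
  obtain ⟨hl, hk⟩ := BlockAbelian81.rank_one_card hM _ le_rfl hmax hab hst
  set hb := hmax.1.2.1
  set ε := eK hM hb red
  obtain ⟨W, i1, i2, i3, σ, hσ, hσb⟩ := exists_irred hM hb red (by rw [hl]; exact one_pos)
  haveI : Nontrivial W := hσ.1
  haveI : FiniteDimensional k (MonoidAlgebra k H) :=
    Module.Finite.equiv ((MonoidAlgebra.coeffLinearEquiv k).trans
      (Finsupp.linearEquivFunOnFinite k k H)).symm
  have hεc : ∀ y, ε * y = y * ε := eK_comm hM hb red
  have hε2 : ε * ε = ε := eK_sq hM hb red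
  have hnil : ∀ y, σ.asAlgebraHom y = 0 → IsNilpotent (y * ε) := by
    intro y hy
    refine isNilpotent_of_irr _ fun W' _ _ _ τ hτ => ?_
    rcases inBlk_or_zero hε2 hεc hτ with h | h
    · obtain ⟨F, hF⟩ := exists_iso_of_rank_one hM hb red hl.le hσ hτ hσb h
      rw [map_mul, h, mul_one]
      refine LinearMap.ext fun x => ?_
      obtain ⟨x', rfl⟩ := F.surjective x
      have key : τ.asAlgebraHom y (F x') = F (σ.asAlgebraHom y x') := by
        simp only [asAlg_eq_sum, LinearMap.sum_apply, LinearMap.smul_apply, map_sum, map_smul, hF]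
      rw [key, hy]
      simp
    · rw [map_mul, h, mul_zero]
  obtain ⟨z, hzc, hz⟩ := exists_central hM red hred hmax hcyc hst
  obtain ⟨s, hs⟩ := schur hσ (σ.asAlgebraHom z) fun g x => asAlg_comm σ (fun g => hzc _) g x
  set X := (z - s • 1) * ε
  have hσX : σ.asAlgebraHom X = 0 := by
    refine LinearMap.ext fun x => ?_
    simp only [X, map_mul, map_sub, map_smul, map_one, show σ.asAlgebraHom ε = 1 from hσb, mul_one,
      LinearMap.sub_apply, LinearMap.smul_apply, Module.End.one_apply, hs, sub_self,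
      LinearMap.zero_apply]
  have hXε : X * ε = X := by rw [mul_assoc, hε2]
  have hXc : ∀ y, X * y = y * X := by
    intro y
    have h1 : (z - s • 1) * y = y * (z - s • 1) := by
      rw [sub_mul, mul_sub, hzc, smul_mul_assoc, mul_smul_comm, one_mul, mul_one]
    rw [mul_assoc, hεc, ← mul_assoc, h1, mul_assoc]
  obtain ⟨f, n, a, a', hff, hfε, hdec, hXq, hspan, w, hw, hfw⟩ :=
    CyclicCorner42.exists_corner σ.asAlgebraHom (finrank_module_end hσ) hε2 hεc hσb hnil (formAt ε)
      (fun x y => by
        show (ε * (x * y)).coeff 1 = (ε * (y * x)).coeff 1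
        rw [← mul_assoc, hεc, mul_assoc, coeff_one_comm, mul_assoc])
      (fun y => by
        show (ε * (ε * y)).coeff 1 = (ε * y).coeff 1
        rw [← mul_assoc, hε2])
      (fun v hv => MonoidAlgebra.ext (Finsupp.ext fun x => by
        have h := hv (MonoidAlgebra.single x⁻¹ 1)
        change (ε * (v * MonoidAlgebra.single x⁻¹ 1)).coeff 1 = 0 at h
        rw [← mul_assoc, coeff_mul_single', inv_inv, one_mul, hεc] at h
        simpa using h))
      (q := Nat.card P) (fun t ht => not_independent hM red hb hk.le t ht) hXc hXε hσX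
      (hz s (by have h := hnil X hσX; rwa [hXε] at h))
  exact ⟨X, f, n, a, a', hXc, hXε, hff, hfε, hdec, hXq, hspan, W, i1, i2, i3, σ, hσ, hσb, hσX,
    w, hw, hfw⟩

end Cfsg.Agent.CyclicLocal42
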