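import Cfsg.Agent.Lib.CyclicSetup42
import Cfsg.Agent.Lib.CyclicLocal42

/-!
# Lifting endomorphisms from the stabiliser of the block of `C(Z)`

An endomorphism commuting with the stabiliser `N`, supported on the part of `C(Z)`-block, differs
from the compression of an endomorphism commuting with the whole group by a trace from the trivial
subgroup.
-/

set_option autoImplicit false
set_option linter.unusedSectionVars false
set_option linter.style.haveILetI false

namespace Cfsg.Agent.CyclicLift42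

open Cfsg BlockTheoryLocalRing BlockTheoryCentre BlockTheoryIdem BrauerPairs81Base
  BrauerPairs81Pairs BrauerPairs81Conj BrauerPairs81Local BrauerPairs81Fusion BrandtBlock42
  CyclicRep42 CyclicReduce42 CyclicSetup42 CyclicLocal42

attribute [local instance] Classical.propDecidable

universe u

section Op

variable {k : Type} [Field k] {G : Type u} [Group G]
variable {V : Type u} [AddCommGroup V] [Module k V] (σ : Representation k G V)

/-- Conjugation of endomorphisms. -/
def op (g : G) (T : Module.End k V) : Module.End k V := σ g * T * σ g⁻¹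

theorem op_mul (g h : G) (T : Module.End k V) : op σ (g * h) T = op σ g (op σ h T) := by
  simp only [op, mul_inv_rev, map_mul, mul_assoc]

theorem op_one (T : Module.End k V) : op σ 1 T = T := by simp [op]

theorem op_comp (g : G) (S T : Module.End k V) : op σ g (S * T) = op σ g S * op σ g T := by
  simp only [op, mul_assoc]
  rw [← mul_assoc (σ g⁻¹) (σ g), ← map_mul, inv_mul_cancel, map_one, one_mul]

theorem op_sum {ι : Type*} (g : G) (s : Finset ι) (T : ι → Module.End k V) :
    op σ g (∑ i ∈ s, T i) = ∑ i ∈ s, op σ g (T i) := by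
  simp only [op, Finset.mul_sum, Finset.sum_mul]

theorem op_smul (g : G) (c : k) (T : Module.End k V) : op σ g (c • T) = c • op σ g T := by
  simp only [op, mul_smul_comm, smul_mul_assoc]

theorem op_eq_self_iff {g : G} {T : Module.End k V} : op σ g T = T ↔ σ g * T = T * σ g := by
  constructor
  · intro h
    conv_rhs => rw [← h]
    rw [op, mul_assoc _ _ (σ g), ← map_mul, inv_mul_cancel, map_one, mul_one]
  · intro h
    rw [op, h, mul_assoc, ← map_mul, mul_inv_cancel, map_one, mul_one]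

theorem op_asAlg (g : G) (z : MonoidAlgebra k G) :
    op σ g (σ.asAlgebraHom z) = σ.asAlgebraHom (cj g z) := by
  rw [op, cj, map_mul, map_mul, Representation.asAlgebraHom_single_one,
    Representation.asAlgebraHom_single_one]

theorem op_out {P : Subgroup G} {T : Module.End k V} (hT : ∀ u ∈ P, op σ u T = T) (a : G) :
    op σ (a : G ⧸ P).out T = op σ a T := by
  obtain ⟨u, hu⟩ := QuotientGroup.mk_out_eq_mul P a
  rw [hu, op_mul, hT u u.2]

end Op

section Orbits

variable {k : Type} [Field k] {M : Type*} [AddCommGroup M] [Module k M]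
variable {Q : Type*} [Group Q] [Fintype Q] {α : Type*} [Fintype α] [MulAction Q α]

/-- A sum of an equivariant function supported on free orbits is a trace. -/
theorem exists_trace_of_free (act : Q → M → M) (hadd : ∀ n (s : Finset α) (f : α → M),
      act n (∑ i ∈ s, f i) = ∑ i ∈ s, act n (f i)) (F : α → M)
    (hF : ∀ (n : Q) a, F (n • a) = act n (F a))
    (hfree : ∀ a, F a ≠ 0 → ∀ n : Q, n • a = a → n = 1) :
    ∃ θ : M, ∑ a, F a = ∑ n : Q, act n θ := by
  refine ⟨∑ a ∈ (Finset.univ : Finset (Quotient (MulAction.orbitRel Q α))).image Quotient.out, F a, ?_⟩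
  simp only [hadd]
  rw [Finset.sum_comm, Finset.sum_image fun a _ b _ h => Quotient.out_injective h,
    ← Finset.sum_fiberwise (Finset.univ : Finset α) (fun a => (⟦a⟧ : Quotient (MulAction.orbitRel Q α))) F]
  refine Finset.sum_congr rfl fun r _ => ?_
  have hmem : ∀ n : Q, (⟦n • r.out⟧ : Quotient (MulAction.orbitRel Q α)) = r := fun n => by
    conv_rhs => rw [← r.out_eq]
    exact Quotient.sound (MulAction.orbitRel_apply.2 (MulAction.mem_orbit _ n))
  have hsurj : ∀ a, (⟦a⟧ : Quotient (MulAction.orbitRel Q α)) = r → ∃ n : Q, n • r.out = a :=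
    fun a ha => MulAction.mem_orbit_iff.1 (MulAction.orbitRel_apply.1 (Quotient.exact (ha.trans r.out_eq.symm)))
  by_cases h0 : F r.out = 0
  · rw [Finset.sum_eq_zero, Finset.sum_eq_zero]
    · intro n _
      rw [← hF, show F (n • r.out) = act n 0 by rw [hF, h0]]
      have := hadd n ∅ F
      simpa using this
    · intro a ha
      obtain ⟨n, rfl⟩ := hsurj a (Finset.mem_filter.1 ha).2
      rw [hF, h0]
      simpa using hadd n ∅ F
  · symm
    refine Finset.sum_bij (fun n _ => n • r.out) (fun n _ => Finset.mem_filter.2 ⟨Finset.mem_univ _, hmem n⟩)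
      (fun n _ m _ h => ?_) (fun a ha => ?_) fun n _ => (hF n r.out).symm
    · have := hfree _ h0 (m⁻¹ * n) (by rw [mul_smul, h, inv_smul_smul])
      exact inv_mul_eq_one.1 this |>.symm
    · obtain ⟨n, hn⟩ := hsurj a (Finset.mem_filter.1 ha).2
      exact ⟨n, Finset.mem_univ _, hn⟩

end Orbits

variable {p : ℕ} [Fact p.Prime] {M : Ideal AlgInt} {G : Type u} [Group G] [Fintype G]
  {B : Set (IrrCharacter G)} {P : Subgroup G} {e : ℕ} (L : Loc p M B P e)
  {k : Type} [Field k] [CharP k p] [IsAlgClosed k] (hM : IsPModular p M) (red : localRing hM →+* k)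
  (hred : ∀ z : localRing hM, red z = 0 ↔ MemLocalIdeal M (z : ℂ))

/-- The idempotent of the block of `C(Z)` in the group algebra of `G`. -/
noncomputable def eps : MonoidAlgebra k G := inclK L.H (eK hM (L.hb hM) red)

theorem eps_sq : eps L hM red * eps L hM red = eps L hM red := by
  rw [eps, ← map_mul, eK_sq]

theorem conj_block_N {t : G} (ht : t ∈ L.N) :
    MonoidAlgebra.mapDomainAlgHom k k (conjEquiv t L.H L.H (conj_mem_iff_of_normalizer
      (normalizer_le_normalizer_cen (L.N_le_normalizer ht)))).toMonoidHom (eK hM (L.hb hM) red) =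
      eK hM (L.hb hM) red := by
  set φ := conjEquiv t L.H L.H (conj_mem_iff_of_normalizer
      (normalizer_le_normalizer_cen (L.N_le_normalizer ht))) with hφ
  have h := cP_eq_self_iff.1 (mem_stab.1 ht)
  have hb : pushSet φ L.b = L.b := by
    have h2 := h.2
    rw [cjA_eb (conj_mem_iff_of_normalizer
      (normalizer_le_normalizer_cen (L.N_le_normalizer ht)))] at h2
    exact eb_injective h2
  refine MonoidAlgebra.ext (Finsupp.ext fun s => ?_)
  obtain ⟨r, rfl⟩ := φ.surjective s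
  rw [MonoidAlgebra.mapDomainAlgHom_apply]
  refine Eq.trans (b := (eK hM (L.hb hM) red).coeff r) ?_ ?_
  · rw [MonoidAlgebra.coeff_mapDomain]
    exact Finsupp.mapDomain_apply φ.injective _ r
  · rw [coeff_eK, coeff_eK]
    congr 1
    refine Subtype.ext ?_
    show blockCoeff L.b r = blockCoeff L.b (φ r)
    conv_rhs => rw [← hb]
    rw [blockCoeff_push]

theorem cj_eps {t : G} (ht : t ∈ L.N) : cj t (eps L hM red) = eps L hM red := by
  rw [eps, cj_inclK_conj L.H t (conj_mem_iff_of_normalizer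
    (normalizer_le_normalizer_cen (L.N_le_normalizer ht))), conj_block_N L hM red ht]

theorem eps_mul_cj {g : G} (hg : g ∈ Subgroup.normalizer (L.Z : Set G)) (hgN : g ∉ L.N) :
    eps L hM red * cj g (eps L hM red) = 0 := by
  rw [eps, cj_inclK_conj L.H g (conj_mem_iff_of_normalizer (normalizer_le_normalizer_cen hg)),
    ← map_mul, eK_comm hM (L.hb hM) red,
    eK_conj_mul_eq_zero hM red (L.hb hM) hg hgN, map_zero]

theorem P_le_N : P ≤ L.N := L.hPH.trans L.H_le_N

/-- The cosets of a subgroup inside `N`. -/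
noncomputable def part (K : Subgroup G) : Finset (G ⧸ K) :=
  Finset.univ.filter fun ω => ω.out ∈ L.N

theorem mem_part {K : Subgroup G} (hK : K ≤ L.N) (a : G) :
    (a : G ⧸ K) ∈ part L K ↔ a ∈ L.N := by
  rw [part, Finset.mem_filter]
  obtain ⟨u, hu⟩ := QuotientGroup.mk_out_eq_mul K a
  rw [hu, L.N.mul_mem_cancel_right (hK u.2)]
  exact ⟨fun h => h.2, fun h => ⟨Finset.mem_univ _, h⟩⟩

theorem smul_mem_part {K : Subgroup G} (hK : K ≤ L.N) {n : G} (hn : n ∈ L.N) (ω : G ⧸ K) :
    n • ω ∈ part L K ↔ ω ∈ part L K := by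
  obtain ⟨a, rfl⟩ := QuotientGroup.mk_surjective ω
  rw [MulAction.Quotient.smul_coe, mem_part L hK, mem_part L hK, smul_eq_mul,
    L.N.mul_mem_cancel_left hn]

include hM in
/-- Averaging over the cosets of `C(Z)` in `N`. -/
theorem exists_reps : ∃ t ∈ L.N, t ^ e ∈ L.H ∧
    (∀ g ∈ L.N, ∃ i < e, ∃ h ∈ L.H, g = h * t ^ i) ∧
    (∀ i < e, ∀ j < e, ∀ h ∈ L.H, t ^ i = h * t ^ j → i = j) := by
  obtain ⟨t, ht, hte, hgen⟩ := L.exists_gen hM
  refine ⟨t, ht, hte, hgen, ?_⟩
  haveI := L.H_normal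
  let f : Fin e → L.N ⧸ L.H.subgroupOf L.N := fun i =>
    ((⟨t ^ (i : ℕ), L.N.pow_mem ht i⟩ : L.N) : L.N ⧸ L.H.subgroupOf L.N)
  have hsurj : Function.Surjective f := by
    intro q
    obtain ⟨g, rfl⟩ := QuotientGroup.mk_surjective q
    obtain ⟨i, hi, h, hh, hg⟩ := hgen g g.2
    refine ⟨⟨i, hi⟩, QuotientGroup.eq.2 (Subgroup.mem_subgroupOf.2 ?_)⟩
    show (t ^ i)⁻¹ * (g : G) ∈ L.H
    rw [hg]
    have := L.conj_mem_H (L.N.inv_mem (L.N.pow_mem ht i)) hh
    rwa [inv_inv, mul_assoc] at this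
  have hinj : Function.Injective f :=
    ((Nat.bijective_iff_surjective_and_card f).2
      ⟨hsurj, by rw [Nat.card_fin]; exact (L.index_N hM).symm⟩).1
  intro i hi j hj h hh hij
  refine congrArg Fin.val (hinj (a₁ := ⟨i, hi⟩) (a₂ := ⟨j, hj⟩) (QuotientGroup.eq.2
    (Subgroup.mem_subgroupOf.2 ?_)))
  show (t ^ i)⁻¹ * t ^ j ∈ L.H
  rw [hij, mul_inv_rev, mul_assoc]
  have := L.conj_mem_H (L.N.inv_mem (L.N.pow_mem ht j)) (L.H.inv_mem hh)
  rwa [inv_inv, mul_assoc] at this

include L hM in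
theorem e_ne_zero : (e : k) ≠ 0 := by
  rw [Ne, CharP.cast_eq_zero_iff k p]
  exact L.e_not_dvd hM

include hM in
theorem sum_part_const {A : Type*} [AddCommMonoid A] [Module k A] (v : A) :
    ∑ _ω ∈ part L L.H, v = (e : k) • v := by
  rw [Finset.sum_const, Nat.cast_smul_eq_nsmul]
  congr 1
  refine Eq.trans ?_ (L.index_N hM)
  rw [Subgroup.relIndex, Subgroup.index, ← Nat.card_eq_finsetCard]
  refine Nat.card_congr (Equiv.symm (Equiv.ofBijective
    (fun q : L.N ⧸ L.H.subgroupOf L.N => (⟨((q.out : G) : G ⧸ L.H),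
      (mem_part L L.H_le_N _).2 q.out.2⟩ : part L L.H)) ⟨fun a b h => ?_, fun ω => ?_⟩))
  · rw [← QuotientGroup.out_eq' a, ← QuotientGroup.out_eq' b, QuotientGroup.eq, Subgroup.mem_subgroupOf]
    exact QuotientGroup.eq.1 (congrArg Subtype.val h)
  · obtain ⟨g, hg⟩ := QuotientGroup.mk_surjective (ω : G ⧸ L.H)
    have hgN : g ∈ L.N := (mem_part L L.H_le_N g).1 (hg ▸ ω.2)
    refine ⟨((⟨g, hgN⟩ : L.N) : L.N ⧸ L.H.subgroupOf L.N), Subtype.ext ?_⟩
    obtain ⟨r, hr⟩ := QuotientGroup.mk_out_eq_mul (L.H.subgroupOf L.N) (⟨g, hgN⟩ : L.N)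
    show (((_ : L.N) : G) : G ⧸ L.H) = _
    rw [hr, ← hg, QuotientGroup.eq]
    simpa using L.H.inv_mem (Subgroup.mem_subgroupOf.1 r.2)

include hred in
/-- The idempotent is a relative trace from `P`. -/
theorem exists_relTrace : ∃ c₀ : MonoidAlgebra k G, (∀ u ∈ P, cj u c₀ = c₀) ∧
    c₀ * eps L hM red = c₀ ∧ ∑ ω ∈ part L P, cj ω.out c₀ = eps L hM red := by
  obtain ⟨c', hc', -⟩ := L.exists_local hM
  set P' := P.subgroupOf L.H with hP'
  have hD : IsDefectGroup p M L.b P' := BrauerPairs81Max.isDefectGroup_of_maximal hM hc'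
  obtain ⟨y, hy, -, -, w, hw, hyw⟩ := exists_trace_unit hM red hred (L.hb hM) hD
  set ε := eK hM (L.hb hM) red
  have hεc : ∀ a, ε * a = a * ε := eK_comm hM (L.hb hM) red
  set d := MonoidAlgebra.single y (1 : k) * (w * ε) with hd
  have hwe : ∀ a, w * ε * a = a * (w * ε) := fun a => by rw [mul_assoc, hεc, ← mul_assoc, hw, mul_assoc]
  have hdfix : ∀ u ∈ P', cj u d = d := by
    intro u hu
    rw [hd, cj_mul, cj_of_central hwe, cj_single,
      Subgroup.mem_centralizer_iff.1 hy u hu, mul_inv_cancel_right]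
  have htr : trK P' d = ε := by rw [hd, trK_mul hwe, ← mul_assoc, hyw]
  have hfix : ∀ u ∈ P, cj u (inclK L.H d) = inclK L.H d := fun u hu => by
    rw [show u = ((⟨u, L.hPH hu⟩ : L.H) : G) from rfl, cj_inclK,
      hdfix _ (Subgroup.mem_subgroupOf.2 hu)]
  refine ⟨(e : k)⁻¹ • inclK L.H d, fun u hu => ?_, ?_, ?_⟩
  · simp only [cj, mul_smul_comm, smul_mul_assoc]
    rw [show MonoidAlgebra.single u (1 : k) * inclK L.H d * MonoidAlgebra.single u⁻¹ 1 =
      cj u (inclK L.H d) from rfl, hfix u hu]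
  · rw [smul_mul_assoc, eps, ← map_mul, hd, mul_assoc, mul_assoc w, eK_sq]
  have hsm : ∀ ω : G ⧸ P, cj ω.out ((e : k)⁻¹ • inclK L.H d) =
      (e : k)⁻¹ • cj ω.out (inclK L.H d) := fun ω => by
    simp only [cj, mul_smul_comm, smul_mul_assoc]
  simp only [hsm, ← Finset.smul_sum]
  rw [inv_smul_eq_iff₀ (e_ne_zero L hM), ← sum_part_const L hM (eps L hM red)]
  -- fibre over the cosets of `C(Z)`
  let π₁ : G ⧸ P → G ⧸ L.H := fun ω => (ω.out : G ⧸ L.H)
  have hπ : ∀ a : G, π₁ (a : G ⧸ P) = (a : G ⧸ L.H) := fun a => by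
    obtain ⟨u, hu⟩ := QuotientGroup.mk_out_eq_mul P a
    show ((_ : G) : G ⧸ L.H) = _
    rw [hu, QuotientGroup.eq]
    simpa using L.H.inv_mem (L.hPH u.2)
  rw [← Finset.sum_fiberwise_of_maps_to (g := π₁) (t := part L L.H)]
  swap
  · intro ω hω
    obtain ⟨a, rfl⟩ := QuotientGroup.mk_surjective ω
    rw [hπ, mem_part L L.H_le_N]
    exact (mem_part L (P_le_N L) a).1 hω
  refine Finset.sum_congr rfl fun ν hν => ?_
  obtain ⟨g, rfl⟩ := QuotientGroup.mk_surjective ν
  have hgN : g ∈ L.N := (mem_part L L.H_le_N g).1 hν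
  rw [← cj_eps L hM red hgN, eps]
  show _ = cj g (inclK L.H ε)
  rw [← htr, trK, map_sum, cj_sum]
  symm
  refine Finset.sum_bij (fun τ _ => ((g * (τ.out : G) : G) : G ⧸ P)) (fun τ _ => ?_)
    (fun τ _ τ' _ h => ?_) (fun ω hω => ?_) fun τ _ => ?_
  · rw [Finset.mem_filter, mem_part L (P_le_N L), hπ, QuotientGroup.eq]
    refine ⟨L.N.mul_mem hgN (L.H_le_N τ.out.2), ?_⟩
    simpa using L.H.inv_mem τ.out.2
  · rw [QuotientGroup.eq, mul_inv_rev, mul_assoc, inv_mul_cancel_left] at h
    rw [← QuotientGroup.out_eq' τ, ← QuotientGroup.out_eq' τ', QuotientGroup.eq]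
    exact Subgroup.mem_subgroupOf.2 h
  · obtain ⟨a, rfl⟩ := QuotientGroup.mk_surjective ω
    obtain ⟨-, h2⟩ := Finset.mem_filter.1 hω
    rw [hπ, QuotientGroup.eq] at h2
    have h3 : g⁻¹ * a ∈ L.H := by simpa using L.H.inv_mem h2
    refine ⟨((⟨g⁻¹ * a, h3⟩ : L.H) : L.H ⧸ P'), Finset.mem_univ _, ?_⟩
    obtain ⟨r, hr⟩ := QuotientGroup.mk_out_eq_mul P' (⟨g⁻¹ * a, h3⟩ : L.H)
    rw [hr, QuotientGroup.eq]
    simpa [mul_assoc] using P.inv_mem (Subgroup.mem_subgroupOf.1 r.2)
  · rw [cj_out hfix, ← cj_inclK, cj_cj]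

variable {V : Type u} [AddCommGroup V] [Module k V] (σ : Representation k G V)

include hred in
/-- The lifting of an endomorphism commuting with `N`. -/
theorem exists_lift (φ : Module.End k V) (hφN : ∀ n ∈ L.N, σ n * φ = φ * σ n)
    (hEφ : σ.asAlgebraHom (eps L hM red) * φ = φ) (hφE : φ * σ.asAlgebraHom (eps L hM red) = φ) :
    ∃ Φ θ : Module.End k V, (∀ g, σ g * Φ = Φ * σ g) ∧
      σ.asAlgebraHom (eps L hM red) * Φ * σ.asAlgebraHom (eps L hM red) - φ =
        ∑ n : L.N, op σ n θ := by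
  obtain ⟨c₀, hc₁, hc₂, hc₃⟩ := exists_relTrace L hM red hred
  set E := σ.asAlgebraHom (eps L hM red) with hE
  set C' := σ.asAlgebraHom c₀ with hC'
  set ψ := φ * C' with hψ
  have hψP : ∀ u ∈ P, op σ u ψ = ψ := by
    intro u hu
    rw [hψ, op_comp, (op_eq_self_iff σ).2 (hφN u (P_le_N L hu)), hC', op_asAlg, hc₁ u hu]
  have hEsq : E * E = E := by rw [hE, ← map_mul, eps_sq]
  have hCE : C' * E = C' := by rw [hC', hE, ← map_mul, hc₂]
  have hopE : ∀ n ∈ L.N, op σ n E = E := fun n hn => by rw [hE, op_asAlg, cj_eps L hM red hn]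
  refine ⟨∑ ω : G ⧸ P, op σ ω.out ψ, ?_⟩
  -- the part inside `N`
  have hin : ∑ ω ∈ part L P, E * op σ ω.out ψ * E = φ := by
    have e1 : ∀ ω ∈ part L P, E * op σ ω.out ψ * E =
        φ * σ.asAlgebraHom (cj ω.out c₀) * E := by
      intro ω hω
      rw [hψ, op_comp, (op_eq_self_iff σ).2 (hφN _ (Finset.mem_filter.1 hω).2), hC', op_asAlg,
        ← mul_assoc, hEφ]
    rw [Finset.sum_congr rfl e1, ← Finset.sum_mul, ← Finset.mul_sum, ← map_sum, hc₃, ← hE, hφE, hφE]
  have hEdec : E = ∑ ν ∈ part L P, op σ ν.out C' := by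
    simp only [hC', op_asAlg, ← map_sum, hc₃]
    exact hE
  -- the pairs of cosets outside
  let α := {w : (G ⧸ P) × (G ⧸ P) // w.1 ∈ part L P ∧ w.2 ∉ part L P}
  letI : MulAction L.N α :=
    { smul := fun n w => ⟨((n : G) • w.1.1, (n : G) • w.1.2),
        (smul_mem_part L (P_le_N L) n.2 _).2 w.2.1,
        fun h => w.2.2 ((smul_mem_part L (P_le_N L) n.2 _).1 h)⟩
      one_smul := fun w => Subtype.ext (Prod.ext (one_smul G _) (one_smul G _))
      mul_smul := fun a b w => Subtype.ext (Prod.ext (mul_smul (a : G) b _) (mul_smul (a : G) b _)) }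
  let F : α → Module.End k V := fun w => op σ w.1.1.out C' * op σ w.1.2.out ψ * E
  have hCfix : ∀ u ∈ P, op σ u C' = C' := fun u hu => by rw [hC', op_asAlg, hc₁ u hu]
  have hF : ∀ (n : L.N) w, F (n • w) = op σ n (F w) := by
    intro n w
    obtain ⟨a, ha⟩ := QuotientGroup.mk_surjective w.1.1
    obtain ⟨b, hb⟩ := QuotientGroup.mk_surjective w.1.2
    show op σ ((n : G) • w.1.1).out C' * op σ ((n : G) • w.1.2).out ψ * E = _
    simp only [F]
    rw [← ha, ← hb, MulAction.Quotient.smul_coe, MulAction.Quotient.smul_coe, op_out σ hCfix,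
      op_out σ hψP, op_out σ hCfix, op_out σ hψP, smul_eq_mul, smul_eq_mul, op_mul σ (n : G) a C',
      op_mul σ (n : G) b ψ, op_comp σ (n : G) _ E, op_comp σ (n : G) (op σ a C'), hopE n n.2]
  have hfree : ∀ w, F w ≠ 0 → ∀ n : L.N, n • w = w → n = 1 := by
    intro w hw n hn
    by_contra hne
    refine hw ?_
    obtain ⟨a, ha⟩ := QuotientGroup.mk_surjective w.1.1
    obtain ⟨b, hb⟩ := QuotientGroup.mk_surjective w.1.2
    have haN : a ∈ L.N := (mem_part L (P_le_N L) a).1 (ha ▸ w.2.1)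
    have hbN : b ∉ L.N := fun h => w.2.2 (hb ▸ (mem_part L (P_le_N L) b).2 h)
    have h1 : a⁻¹ * (n : G) * a ∈ P := by
      have := congrArg (fun v : α => v.1.1) hn
      change (n : G) • w.1.1 = w.1.1 at this
      rw [← ha, MulAction.Quotient.smul_coe, QuotientGroup.eq, smul_eq_mul] at this
      have := P.inv_mem this
      simpa [mul_assoc] using this
    have h2 : b⁻¹ * (n : G) * b ∈ P := by
      have := congrArg (fun v : α => v.1.2) hn
      change (n : G) • w.1.2 = w.1.2 at this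
      rw [← hb, MulAction.Quotient.smul_coe, QuotientGroup.eq, smul_eq_mul] at this
      have := P.inv_mem this
      simpa [mul_assoc] using this
    -- the subgroup of order `p` is normalised by the outer coset
    have hn1 : (n : G) ≠ 1 := fun h => hne (Subtype.ext h)
    have hconj1 : ∀ c : G, c⁻¹ * (n : G) * c ≠ 1 := fun c h => hn1 <| by
      have := congrArg (fun z => c * z * c⁻¹) h
      simpa [mul_assoc] using this
    have hza := L.Z_le_zpowers h1 (hconj1 a)
    have hzb := L.Z_le_zpowers h2 (hconj1 b)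
    have hmap : ∀ c : G, L.Z ≤ Subgroup.zpowers (c⁻¹ * (n : G) * c) →
        cjS c L.Z ≤ Subgroup.zpowers (n : G) := by
      intro c hc
      refine (cjS_mono hc).trans (le_of_eq ?_)
      rw [cjS, MonoidHom.map_zpowers]
      congr 1
      simp [mul_assoc]
    have hcyc : IsCyclic (Subgroup.zpowers (n : G)) := inferInstance
    have heq : cjS b L.Z = cjS a L.Z :=
      PGroupsCyclic.eq_of_card_eq_of_isCyclic hcyc (hmap b hzb) (hmap a hza)
        (by rw [card_cjS, card_cjS])
    have hbZ : b ∈ Subgroup.normalizer (L.Z : Set G) := by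
      have heq' : cjS b L.Z = L.Z := heq.trans (cjS_of_normalizer (L.N_le_normalizer haN))
      refine Subgroup.mem_normalizer_iff.mpr fun x => ?_
      conv_rhs => rw [← heq', mem_cjS]
      simp [mul_assoc]
    simp only [F]
    rw [← ha, ← hb, op_out σ hCfix, op_out σ hψP, hψ,
      show φ * C' = E * (φ * C') by rw [← mul_assoc, hEφ], op_comp σ b E,
      show op σ a C' = op σ a C' * E by rw [← hopE a haN, ← op_comp, hCE],
      mul_assoc (op σ a C') E, ← mul_assoc E, hE, op_asAlg σ b (eps L hM red), ← map_mul,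
      eps_mul_cj L hM red hbZ hbN, map_zero, zero_mul, mul_zero, zero_mul]
  obtain ⟨θ, hθ⟩ := exists_trace_of_free (Q := L.N) (fun n T => op σ (n : G) T)
    (fun n s f => op_sum σ _ s f) F hF hfree
  refine ⟨θ, fun g => (op_eq_self_iff σ).1 ?_, ?_⟩
  · rw [op_sum]
    refine Fintype.sum_equiv (MulAction.toPerm g) _ _ fun ω => ?_
    obtain ⟨a, rfl⟩ := QuotientGroup.mk_surjective ω
    rw [MulAction.toPerm_apply, MulAction.Quotient.smul_coe, op_out σ hψP, op_out σ hψP, ← op_mul,
      smul_eq_mul]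
  · rw [← hθ, Finset.mul_sum, Finset.sum_mul,
      ← Finset.sum_filter_add_sum_filter_not Finset.univ (fun ω => ω ∈ part L P),
      Finset.filter_mem_eq_inter, Finset.univ_inter, hin, add_sub_cancel_left]
    rw [show ∑ w : α, F w = ∑ ν ∈ part L P,
        ∑ ω ∈ Finset.univ.filter (fun ω => ω ∉ part L P), op σ ν.out C' * op σ ω.out ψ * E by
      rw [← Finset.sum_product']
      refine Finset.sum_bij (fun w _ => w.1) (fun w _ => ?_) (fun a _ b _ h => Subtype.ext h)
        (fun w hw => ⟨⟨w, (Finset.mem_product.1 hw).1,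
          (Finset.mem_filter.1 (Finset.mem_product.1 hw).2).2⟩, Finset.mem_univ _, rfl⟩) fun _ _ => rfl
      exact Finset.mem_product.2 ⟨w.2.1, Finset.mem_filter.2 ⟨Finset.mem_univ _, w.2.2⟩⟩]
    rw [Finset.sum_comm]
    refine Finset.sum_congr rfl fun ω _ => ?_
    rw [← Finset.sum_mul, ← Finset.sum_mul, ← hEdec]

end Cfsg.Agent.CyclicLift42
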