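import Mathlib

/-!
# Endomorphisms separating socle vectors over a uniserial basic algebra

If the basic algebra of `A` is generated by a central nilpotent element `X`, then a socle vector of
a module can be fixed by an endomorphism of the module killing another one, provided the second
one is not congruent to it modulo the next power of `X`.
-/

set_option autoImplicit false
set_option linter.unusedSectionVars false

namespace Cfsg.Agent.CyclicSeparate42

variable {k : Type*} [Field k] {A : Type*} [Ring A] [Algebra k A]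

/-- A central element killing the simple module is a multiple of the generator. -/
theorem exists_mul {W : Type*} [AddCommGroup W] [Module k W] (σ : A →ₐ[k] Module.End k W)
    {ε X f : A} {n : ℕ} {a b : Fin n → A} {q : ℕ} (hXc : ∀ y, X * y = y * X) (hff : f * f = f)
    (hdec : ε = ∑ i, a i * f * b i) (hXq : X ^ q = 0)
    (hspan : ∀ y, f * y * f ∈ Submodule.span k (Set.range fun i : Fin q => X ^ (i : ℕ) * f))
    (hσX : σ X = 0) {w : W} (hw : w ≠ 0) (hfw : σ f w = w)
    {z : A} (hzc : ∀ y, z * y = y * z) (hzε : z * ε = z) (hσz : σ z w = 0) :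
    ∃ r, z = X * r := by
  rcases Nat.eq_zero_or_pos q with hq | hq
  · refine ⟨0, ?_⟩
    rw [mul_zero, ← mul_one z, show (1 : A) = 0 by rw [← pow_zero X, ← hq, hXq], mul_zero]
  have hzf : z * f = f * z * f := by rw [← hzc, mul_assoc, hff]
  obtain ⟨c, hc⟩ := (Submodule.mem_span_range_iff_exists_fun k).1 (hspan z)
  rw [← hzf] at hc
  have hc0 : c ⟨0, hq⟩ = 0 := by
    have := congrArg (fun z => σ z w) hc
    simp only [map_sum, map_smul, map_mul, map_pow, hσX, LinearMap.sum_apply, LinearMap.smul_apply,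
      Module.End.mul_apply, hfw, hσz] at this
    rw [Finset.sum_eq_single ⟨0, hq⟩ (fun i _ hi => by
      rw [zero_pow (fun h => hi (Fin.ext h)), LinearMap.zero_apply, smul_zero]) (by simp),
      pow_zero, Module.End.one_apply] at this
    exact (smul_eq_zero.1 this).resolve_right hw
  obtain ⟨r, hr⟩ : ∃ r, z * f = X * r := by
    refine ⟨∑ i : Fin q, c i • (X ^ ((i : ℕ) - 1) * f), ?_⟩
    rw [← hc, Finset.mul_sum]
    refine Finset.sum_congr rfl fun i _ => ?_
    rcases Nat.eq_zero_or_pos (i : ℕ) with h | h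
    · rw [show i = ⟨0, hq⟩ from Fin.ext h, hc0, zero_smul, zero_smul, mul_zero]
    · rw [mul_smul_comm, ← mul_assoc, ← pow_succ', Nat.sub_add_cancel h]
  refine ⟨∑ i, a i * r * b i, ?_⟩
  conv_lhs => rw [← hzε, hdec, Finset.mul_sum]
  rw [Finset.mul_sum]
  refine Finset.sum_congr rfl fun i _ => ?_
  rw [show z * (a i * f * b i) = a i * (z * f) * b i by
    rw [← mul_assoc, ← mul_assoc, hzc, mul_assoc (a i)], hr, ← mul_assoc (a i), ← hXc (a i)]
  simp only [mul_assoc]

variable {V : Type*} [AddCommGroup V] [Module k V] (I : A →ₐ[k] Module.End k V)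

/-- The separating endomorphism. -/
theorem exists_separating {ε X f : A} {n : ℕ} {a b : Fin n → A} {q : ℕ}
    (hεc : ∀ y, ε * y = y * ε) (hεε : ε * ε = ε) (hff : f * f = f) (hfε : f * ε = f)
    (hXc : ∀ y, X * y = y * X) (hdec : ε = ∑ i, a i * f * b i)
    (hspan : ∀ y, f * y * f ∈ Submodule.span k (Set.range fun i : Fin q => X ^ (i : ℕ) * f))
    {y₁ y₂ x : V} {m : ℕ} (h₁ : I f y₁ = y₁) (h₁X : I X y₁ = 0) (h₂ : I f y₂ = y₂)
    (h₂X : I X y₂ = 0) (hxf : I f x = x) (hx : (I X ^ m) x = y₁)
    (hsep : y₁ ∉ Submodule.span k {y₂} ⊔ LinearMap.range (I X ^ (m + 1))) :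
    ∃ φ : Module.End k V, (∀ z, I (ε * z) * φ = φ * I (ε * z)) ∧ I ε * φ = φ ∧ φ * I ε = φ ∧
      φ y₁ = I ε y₁ ∧ φ y₂ = 0 := by
  obtain ⟨μ₀, hμ₁, hμ₂⟩ := Submodule.exists_le_ker_of_notMem hsep
  set μ : V →ₗ[k] k := (μ₀ y₁)⁻¹ • μ₀
  have hμy : μ y₁ = 1 := by simp [μ, hμ₁]
  have hμy2 : μ y₂ = 0 := by
    simp [μ, LinearMap.mem_ker.1 (hμ₂ (Submodule.mem_sup_left (Submodule.mem_span_singleton_self _)))]
  have hμR : ∀ v ∈ LinearMap.range (I X ^ (m + 1)), μ v = 0 := fun v hv => by
    simp [μ, LinearMap.mem_ker.1 (hμ₂ (Submodule.mem_sup_right hv))]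
  set Xo := I X with hXo
  set Fo := I f with hFo
  have hFF : Fo * Fo = Fo := by rw [hFo, ← map_mul, hff]
  have hXF : ∀ i : ℕ, Xo ^ i * Fo = Fo * Xo ^ i := fun i => by
    rw [hXo, hFo, ← map_pow, ← map_mul, ← map_mul, ((show Commute X f from hXc f).pow_left i).eq]
  let ψ : Module.End k V := ∑ l ∈ Finset.range (m + 1),
    (μ.comp (Xo ^ l * Fo)).smulRight ((Xo ^ (m - l)) x)
  have hψ : ∀ v, ψ v = ∑ l ∈ Finset.range (m + 1), μ ((Xo ^ l) (Fo v)) • (Xo ^ (m - l)) x :=
    fun v => by simp [ψ, Module.End.mul_apply]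
  have hψX : ψ * Xo = Xo * ψ := by
    refine LinearMap.ext fun v => ?_
    rw [Module.End.mul_apply, Module.End.mul_apply, hψ, hψ, map_sum]
    have e1 : Fo (Xo v) = Xo (Fo v) := by
      have := LinearMap.congr_fun (hXF 1) v
      simpa using this.symm
    rw [Finset.sum_range_succ, e1,
      show μ ((Xo ^ m) (Xo (Fo v))) = 0 from hμR _ ⟨Fo v, by rw [pow_succ, Module.End.mul_apply]⟩,
      zero_smul, add_zero, Finset.sum_range_succ']
    simp only [map_smul]
    rw [show Xo ((Xo ^ (m - 0)) x) = 0 by rw [Nat.sub_zero, hx]; exact h₁X, smul_zero, add_zero]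
    refine Finset.sum_congr rfl fun l hl => ?_
    rw [← Module.End.mul_apply (Xo ^ l) Xo, ← pow_succ, ← Module.End.mul_apply Xo (Xo ^ (m - (l + 1))),
      ← pow_succ', show m - (l + 1) + 1 = m - l by have := Finset.mem_range.1 hl; omega]
  have hψFr : ψ * Fo = ψ := LinearMap.ext fun v => by
    rw [Module.End.mul_apply, hψ, hψ, ← Module.End.mul_apply Fo Fo, hFF]
  have hψFl : Fo * ψ = ψ := LinearMap.ext fun v => by
    rw [Module.End.mul_apply, hψ, map_sum]
    refine Finset.sum_congr rfl fun l _ => ?_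
    rw [map_smul, ← Module.End.mul_apply Fo, ← hXF, Module.End.mul_apply, hxf]
  have hψA : ∀ y, I (f * y * f) * ψ = ψ * I (f * y * f) := by
    intro y
    have hy' := hspan y
    generalize f * y * f = u at hy' ⊢
    induction hy' using Submodule.span_induction with
    | zero => simp
    | add u v _ _ hu hv => rw [map_add, add_mul, mul_add, hu, hv]
    | smul c u _ hu => rw [map_smul, smul_mul_assoc, mul_smul_comm, hu]
    | mem u hu =>
      obtain ⟨i, rfl⟩ := hu
      show I (X ^ (i : ℕ) * f) * ψ = ψ * I (X ^ (i : ℕ) * f)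
      rw [map_mul, map_pow, ← hXo, ← hFo, mul_assoc, hψFl, hXF, ← mul_assoc, hψFr]
      exact ((show Commute Xo ψ from hψX.symm).pow_left _).eq
  -- values on the socle
  have hval : ∀ y : V, Fo y = y → Xo y = 0 → ∀ z, ∃ c : k, I (f * z) y = c • y := by
    intro y hyF hyX z
    obtain ⟨c, hc⟩ : ∃ c : k, I (f * z * f) y = c • y := by
      have hz' := hspan z
      generalize f * z * f = u at hz' ⊢
      induction hz' using Submodule.span_induction with
      | zero => exact ⟨0, by simp⟩
      | add u v _ _ hu hv =>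
        obtain ⟨c, hc⟩ := hu
        obtain ⟨d, hd⟩ := hv
        exact ⟨c + d, by rw [map_add, LinearMap.add_apply, hc, hd, add_smul]⟩
      | smul c u _ hu =>
        obtain ⟨d, hd⟩ := hu
        exact ⟨c * d, by rw [map_smul, LinearMap.smul_apply, hd, smul_smul]⟩
      | mem u hu =>
        obtain ⟨i, rfl⟩ := hu
        rcases Nat.eq_zero_or_pos (i : ℕ) with hi | hi
        · exact ⟨1, by show I (X ^ (i : ℕ) * f) y = _; rw [hi, pow_zero, one_mul, one_smul]; exact hyF⟩
        · refine ⟨0, ?_⟩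
          show I (X ^ (i : ℕ) * f) y = _
          rw [map_mul, map_pow, zero_smul, Module.End.mul_apply, ← hXo, ← hFo, hyF,
            show (i : ℕ) = (i - 1) + 1 by omega, pow_succ, Module.End.mul_apply, hyX, map_zero]
    refine ⟨c, ?_⟩
    rw [← hc, map_mul I (f * z) f, Module.End.mul_apply, ← hFo, hyF]
  have hψy : ∀ y, Fo y = y → Xo y = 0 → ψ y = μ y • (Xo ^ m) x := by
    intro y hyF hyX
    rw [hψ, Finset.sum_range_succ', hyF, pow_zero, Module.End.one_apply, Nat.sub_zero,
      Finset.sum_eq_zero fun l _ => ?_, zero_add]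
    rw [pow_succ, Module.End.mul_apply, hyX, map_zero, map_zero, zero_smul]
  refine ⟨∑ j, I (a j) * ψ * I (f * b j), fun z => ?_, ?_, ?_, ?_, ?_⟩
  · have lhs : I (ε * z) * (∑ j, I (a j) * ψ * I (f * b j)) =
        ∑ j, ∑ i, I (a i) * (I (f * (b i * z * a j) * f) * ψ) * I (f * b j) := by
      rw [Finset.mul_sum]
      refine Finset.sum_congr rfl fun j _ => ?_
      conv_lhs => rw [← hψFl, hFo, ← mul_assoc (I (a j)), ← map_mul, ← mul_assoc, ← mul_assoc,
        ← map_mul, show ε * z * (a j * f) = ∑ i, a i * (f * (b i * z * a j) * f) by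
          rw [hdec, Finset.sum_mul, Finset.sum_mul]
          exact Finset.sum_congr rfl fun i _ => by simp only [mul_assoc],
        map_sum, Finset.sum_mul, Finset.sum_mul]
      refine Finset.sum_congr rfl fun i _ => ?_
      rw [map_mul, mul_assoc (I (a i))]
    have rhs : (∑ j, I (a j) * ψ * I (f * b j)) * I (ε * z) =
        ∑ i, ∑ j, I (a i) * (ψ * I (f * (b i * z * a j) * f)) * I (f * b j) := by
      rw [Finset.sum_mul]
      refine Finset.sum_congr rfl fun i _ => ?_
      rw [mul_assoc _ _ (I (ε * z)), ← map_mul,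
        show f * b i * (ε * z) = ∑ j, f * (b i * z * a j) * f * (f * b j) by
          rw [hεc, hdec, Finset.mul_sum, Finset.mul_sum]
          refine Finset.sum_congr rfl fun j _ => ?_
          simp only [mul_assoc]
          rw [← mul_assoc f f, hff],
        map_sum, Finset.mul_sum]
      exact Finset.sum_congr rfl fun j _ => by simp only [map_mul, mul_assoc]
    rw [lhs, rhs, Finset.sum_comm]
    exact Finset.sum_congr rfl fun i _ => Finset.sum_congr rfl fun j _ => by rw [hψA]
  · rw [Finset.mul_sum]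
    refine Finset.sum_congr rfl fun j _ => ?_
    rw [← hψFl, hFo]
    simp only [← mul_assoc, ← map_mul]
    rw [hεc (a j), mul_assoc (a j), hεc f, hfε]
  · rw [Finset.sum_mul]
    refine Finset.sum_congr rfl fun j _ => ?_
    rw [mul_assoc, ← map_mul, ← hεc, ← mul_assoc ε, hεc f, hfε]
  · choose c hc using fun j => hval y₁ h₁ h₁X (b j)
    rw [hdec, map_sum, LinearMap.sum_apply, LinearMap.sum_apply]
    refine Finset.sum_congr rfl fun j _ => ?_
    rw [Module.End.mul_apply, Module.End.mul_apply, hc, map_smul, hψy _ h₁ h₁X, hμy, one_smul, hx,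
      map_smul, mul_assoc (a j), map_mul, Module.End.mul_apply, hc, map_smul]
  · choose c hc using fun j => hval y₂ h₂ h₂X (b j)
    rw [LinearMap.sum_apply]
    refine Finset.sum_eq_zero fun j _ => ?_
    rw [Module.End.mul_apply, Module.End.mul_apply, hc, map_smul, hψy _ h₂ h₂X, hμy2, zero_smul,
      smul_zero, map_zero]

end Cfsg.Agent.CyclicSeparate42
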