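import Cfsg.Agent.Lib.CyclicLift42
import Cfsg.Agent.Lib.CyclicSeparate42

/-!
# A block with cyclic defect group has at least as many Brauer characters as its inertial index

The irreducible representation of the block of `C(Z)` extends to `N` in `e` ways, each extension
maps non-projectively into some simple module of the block, and no simple module receives two
such maps.
-/

set_option autoImplicit false
set_option linter.unusedSectionVars false
set_option linter.style.haveILetI false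
set_option linter.unusedVariables false

namespace Cfsg.Agent.CyclicLower42

open Cfsg BlockTheoryLocalRing BlockTheoryCentre BlockTheoryIdem BrauerPairs81Base
  BrauerPairs81Pairs BrauerPairs81Conj BrauerPairs81Local BrauerPairs81Fusion BrandtBlock42
  CyclicRep42 CyclicBlockRep42 CyclicReduce42 CyclicSetup42 CyclicLocal42 CyclicLift42 BlockPrime86

attribute [local instance] Classical.propDecidable

universe u

variable {p : ℕ} [Fact p.Prime] {M : Ideal AlgInt} {G : Type u} [Group G] [Fintype G]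
  {B : Set (IrrCharacter G)} {P : Subgroup G} {e : ℕ} (L : Loc p M B P e)
  {k : Type} [Field k] [CharP k p] [IsAlgClosed k] (hM : IsPModular p M) (red : localRing hM →+* k)
  (hred : ∀ z : localRing hM, red z = 0 ↔ MemLocalIdeal M (z : ℂ))

/-- A map from a representation of `N` which is equivariant, lands in the part of the block of
`C(Z)` and is not a trace from the trivial subgroup. -/
def Good {W : Type u} [AddCommGroup W] [Module k W] (ρ : Representation k L.N W) {V : Type u}
    [AddCommGroup V] [Module k V] (σ : Representation k G V) (f : W →ₗ[k] V) : Prop :=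
  (∀ (n : L.N) x, f (ρ n x) = σ (n : G) (f x)) ∧
    (∀ x, σ.asAlgebraHom (eps L hM red) (f x) = f x) ∧
    ¬ ∃ θ : W →ₗ[k] V, ∀ x, f x = ∑ n : L.N, σ (n : G) (θ (ρ n⁻¹ x))

theorem assoc_swap {R : Type*} [Semigroup R] {A B C P Q : R} (h : P * B = C * P) :
    A * C * (P * Q) = A * P * (B * Q) := by
  rw [mul_assoc, mul_assoc, ← mul_assoc P, h, mul_assoc]

theorem asAlg_inclK {V : Type u} [AddCommGroup V] [Module k V] (σ : Representation k G V)
    (K : Subgroup G) {W : Type u} [AddCommGroup W] [Module k W] (ρ : Representation k K W)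
    (f : W →ₗ[k] V) (hf : ∀ (h : K) x, f (ρ h x) = σ (h : G) (f x)) (z : MonoidAlgebra k K) (x : W) :
    σ.asAlgebraHom (inclK K z) (f x) = f (ρ.asAlgebraHom z x) := by
  induction z using MonoidAlgebra.induction_linear with
  | zero => simp
  | add a b ha hb => simp [map_add, ha, hb]
  | single h r =>
    rw [inclK_single, Representation.asAlgebraHom_single, Representation.asAlgebraHom_single]
    simp [hf]

include hred in
/-- The extensions of the irreducible representation of the block of `C(Z)`. -/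
theorem exists_ext {W : Type u} [AddCommGroup W] [Module k W] [FiniteDimensional k W]
    {σ₀ : Representation k L.H W} (hσ : Irred σ₀)
    (hσb : InBlk (eK hM (L.hb hM) red) W σ₀) :
    ∃ (t : L.N) (ζ : k) (ρ : Fin e → Representation k L.N W),
      IsPrimitiveRoot ζ e ∧ (∀ (i : Fin e) (h : L.H) x, ρ i ⟨h, L.H_le_N h.2⟩ x = σ₀ h x) ∧
      ∀ (i j : Fin e) x, ρ j t x = (ζ ^ (j : ℕ) / ζ ^ (i : ℕ)) • ρ i t x := by
  obtain ⟨t, ht, hte, hgen, huniq⟩ := exists_reps L hM
  have he : 0 < e := L.e_pos hM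
  haveI : NeZero (e : k) := ⟨e_ne_zero L hM⟩
  obtain ⟨ζ, hζ⟩ := HasEnoughRootsOfUnity.exists_primitiveRoot k e
  set hC := conj_mem_iff_of_normalizer (normalizer_le_normalizer_cen (L.N_le_normalizer ht))
  set φ := conjEquiv t L.H L.H hC
  let σ₁ : Representation k L.H W := σ₀.comp φ.toMonoidHom
  have hσ₁ : Irred σ₁ := ⟨hσ.1, fun U hU => hσ.2 U fun g x hx => by
    have := hU (φ.symm g) x hx
    simpa [σ₁] using this⟩
  have hσ₁b : InBlk (eK hM (L.hb hM) red) W σ₁ := by
    show σ₁.asAlgebraHom (eK hM (L.hb hM) red) = 1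
    have key : ∀ z : MonoidAlgebra k L.H, σ₁.asAlgebraHom z =
        σ₀.asAlgebraHom (MonoidAlgebra.mapDomainAlgHom k k φ.toMonoidHom z) := by
      intro z
      induction z using MonoidAlgebra.induction_linear with
      | zero => simp
      | add a b ha hb => simp [map_add, ha, hb]
      | single h r =>
        rw [MonoidAlgebra.mapDomainAlgHom_apply, MonoidAlgebra.mapDomain_single,
          Representation.asAlgebraHom_single, Representation.asAlgebraHom_single]
        rfl
    rw [key, conj_block_N L hM red ht]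
    exact hσb
  obtain ⟨F, hF⟩ := exists_iso_of_rank_one hM (L.hb hM) red (L.rank_card hM).1.le hσ hσ₁ hσb hσ₁b
  set te : L.H := ⟨t ^ e, hte⟩
  set F0 : Module.End k W := F.toLinearMap
  have hF0 : ∀ (h : L.H) (hh : t * (h : G) * t⁻¹ ∈ L.H),
      F0 * σ₀ h = σ₀ ⟨t * h * t⁻¹, hh⟩ * F0 := by
    intro h hh
    exact LinearMap.ext fun x => hF h x
  have hconj : ∀ (h : L.H) (m : ℕ), t ^ m * (h : G) * (t ^ m)⁻¹ ∈ L.H := fun h m =>
    L.conj_mem_H (L.N.pow_mem ht m) h.2
  have hFm : ∀ (m : ℕ) (h : L.H),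
      F0 ^ m * σ₀ h = σ₀ ⟨t ^ m * h * (t ^ m)⁻¹, hconj h m⟩ * F0 ^ m := by
    intro m
    induction m with
    | zero => intro h; simp
    | succ m ih =>
      intro h
      rw [pow_succ' F0, mul_assoc, ih, ← mul_assoc,
        hF0 ⟨_, hconj h m⟩ (L.conj_mem_H ht (hconj h m)), mul_assoc]
      congr 2
      refine Subtype.ext ?_
      show t * (t ^ m * (h : G) * (t ^ m)⁻¹) * t⁻¹ = t ^ (m + 1) * (h : G) * (t ^ (m + 1))⁻¹
      rw [pow_succ']
      group
  obtain ⟨c, hc⟩ := schur hσ (σ₀ te⁻¹ * F0 ^ e) fun g x => by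
    have h1 := LinearMap.congr_fun (hFm e g) x
    simp only [Module.End.mul_apply] at h1 ⊢
    rw [h1, ← Module.End.mul_apply (σ₀ te⁻¹), ← map_mul, ← Module.End.mul_apply (σ₀ g) (σ₀ te⁻¹),
      ← map_mul]
    congr 2
    refine Subtype.ext ?_
    show (t ^ e)⁻¹ * (t ^ e * (g : G) * (t ^ e)⁻¹) = (g : G) * (t ^ e)⁻¹
    group
  have hpow : F0 ^ e = c • σ₀ te := by
    have : σ₀ te⁻¹ * F0 ^ e = c • 1 := LinearMap.ext fun x => hc x
    have h2 := congrArg (σ₀ te * ·) this
    simp only [← mul_assoc, ← map_mul, mul_inv_cancel, map_one, one_mul, mul_smul_comm, mul_one] at h2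
    exact h2
  haveI := hσ.1
  have hc0 : c ≠ 0 := by
    intro h0
    obtain ⟨x, hx⟩ := exists_ne (0 : W)
    refine hx ?_
    have hinj : Function.Injective (F0 ^ e) := by
      rw [Module.End.coe_pow]
      exact F.injective.iterate e
    refine hinj ?_
    rw [hpow, h0, zero_smul, LinearMap.zero_apply, LinearMap.zero_apply]
  obtain ⟨r, hr⟩ := IsAlgClosed.exists_pow_nat_eq c he
  have hr0 : r ≠ 0 := fun h => hc0 (by rw [← hr, h, zero_pow he.ne'])
  let F' : Fin e → Module.End k W := fun i => (r⁻¹ * ζ ^ (i : ℕ)) • F0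
  have hF'e : ∀ i, F' i ^ e = σ₀ te := by
    intro i
    rw [smul_pow, hpow, smul_smul, mul_pow, ← pow_mul, mul_comm (i : ℕ), pow_mul, hζ.pow_eq_one,
      one_pow, mul_one, inv_pow, hr, inv_mul_cancel₀ hc0, one_smul]
  have hF'm : ∀ i (m : ℕ) (h : L.H),
      F' i ^ m * σ₀ h = σ₀ ⟨t ^ m * h * (t ^ m)⁻¹, hconj h m⟩ * F' i ^ m := by
    intro i m h
    rw [smul_pow, smul_mul_assoc, hFm, mul_smul_comm]
  choose iN hiN hN hhN heq using fun n : L.N => hgen n n.2
  let val : Fin e → L.N → Module.End k W := fun i n => σ₀ ⟨hN n, hhN n⟩ * F' i ^ iN n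
  have hval : ∀ i (n : L.N) (h : L.H) (m : ℕ), (n : G) = h * t ^ m →
      val i n = σ₀ h * F' i ^ m := by
    intro i n h m hnm
    have hsplit : t ^ m = (t ^ e) ^ (m / e) * t ^ (m % e) := by
      rw [← pow_mul, ← pow_add, Nat.div_add_mod]
    have hte' : (t ^ e) ^ (m / e) ∈ L.H := L.H.pow_mem hte _
    have h2 : (n : G) = ((h : G) * (t ^ e) ^ (m / e)) * t ^ (m % e) := by
      rw [hnm, hsplit, mul_assoc]
    have hi : iN n = m % e := by
      refine huniq _ (hiN n) _ (Nat.mod_lt _ he) ((hN n)⁻¹ * ((h : G) * (t ^ e) ^ (m / e)))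
        (L.H.mul_mem (L.H.inv_mem (hhN n)) (L.H.mul_mem h.2 hte')) ?_
      rw [mul_assoc, ← h2, heq n, inv_mul_cancel_left]
    have hh : hN n = (h : G) * (t ^ e) ^ (m / e) := by
      rw [heq n, hi] at h2
      exact mul_right_cancel h2
    show σ₀ ⟨hN n, hhN n⟩ * F' i ^ iN n = _
    rw [hi, show (⟨hN n, hhN n⟩ : L.H) = h * te ^ (m / e) from Subtype.ext (by simpa [te] using hh),
      map_mul, map_pow, ← hF'e i, mul_assoc, ← pow_mul, ← pow_add, Nat.div_add_mod]
  let ρ : Fin e → Representation k L.N W := fun i =>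
    { toFun := val i
      map_one' := by rw [hval i 1 1 0 (by simp), map_one, pow_zero, one_mul]
      map_mul' := fun n n' => by
        have e1 : ((n * n' : L.N) : G) =
            ((⟨hN n, hhN n⟩ * ⟨t ^ iN n * hN n' * (t ^ iN n)⁻¹, hconj ⟨hN n', hhN n'⟩ (iN n)⟩ :
              L.H) : G) * t ^ (iN n + iN n') := by
          push_cast
          rw [heq n, heq n', pow_add]
          group
        rw [hval i (n * n') _ _ e1, map_mul, pow_add]
        show _ = (σ₀ ⟨hN n, hhN n⟩ * F' i ^ iN n) * (σ₀ ⟨hN n', hhN n'⟩ * F' i ^ iN n')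
        exact assoc_swap (hF'm i (iN n) ⟨hN n', hhN n'⟩) }
  refine ⟨⟨t, ht⟩, ζ, ρ, hζ, fun i h x => ?_, fun i j x => ?_⟩
  · show val i ⟨h, _⟩ x = _
    rw [hval i ⟨(h : G), L.H_le_N h.2⟩ h 0 (by simp), pow_zero, mul_one]
  · show val j ⟨t, ht⟩ x = _ • val i ⟨t, ht⟩ x
    rw [hval j ⟨t, ht⟩ 1 1 (by simp), hval i ⟨t, ht⟩ 1 1 (by simp), map_one, one_mul, one_mul,
      pow_one, pow_one]
    show (r⁻¹ * ζ ^ (j : ℕ)) • F0 x = (ζ ^ (j : ℕ) / ζ ^ (i : ℕ)) • ((r⁻¹ * ζ ^ (i : ℕ)) • F0 x)
    rw [smul_smul]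
    congr 1
    have := hζ.ne_zero he.ne'
    field_simp

/-- The central element `z` acts trivially on an irreducible representation of `C(Z)`. -/
theorem z_trivial {W : Type u} [AddCommGroup W] [Module k W] [FiniteDimensional k W]
    {σ₀ : Representation k L.H W} (hσ : Irred σ₀) (hz : L.z ∈ L.H) : σ₀ ⟨L.z, hz⟩ = 1 := by
  have hcomm : ∀ g : L.H, ⟨L.z, hz⟩ * g = g * (⟨L.z, hz⟩ : L.H) := fun g =>
    Subtype.ext (Subgroup.mem_centralizer_iff.1 g.2 L.z (Subgroup.mem_zpowers _))
  obtain ⟨s, hs⟩ := schur hσ (σ₀ ⟨L.z, hz⟩) fun g x => by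
    rw [← Module.End.mul_apply, ← map_mul, hcomm, map_mul, Module.End.mul_apply]
  have hse : σ₀ ⟨L.z, hz⟩ = s • 1 := LinearMap.ext hs
  have hzp : (⟨L.z, hz⟩ : L.H) ^ p = 1 := Subtype.ext (by
    rw [Subgroup.coe_pow]
    have h2 := pow_orderOf_eq_one L.z
    rw [L.hzo] at h2
    exact h2)
  have h := congrArg σ₀ hzp
  rw [map_pow, hse, smul_pow, one_pow, map_one] at h
  haveI := hσ.1
  obtain ⟨x, hx⟩ := exists_ne (0 : W)
  have hsp : s ^ p = 1 := by
    have h2 := LinearMap.congr_fun h x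
    simp only [LinearMap.smul_apply, Module.End.one_apply] at h2
    exact smul_left_injective k hx (by simpa using h2)
  have : (s - 1) ^ p = 0 := by rw [sub_pow_char, one_pow, hsp, sub_self]
  rw [hse, sub_eq_zero.1 (pow_eq_zero_iff'.1 this).1, one_smul]

include hred in
/-- Each extension maps non-projectively into some simple module of the block. -/
theorem exists_simple {W : Type u} [AddCommGroup W] [Module k W] [FiniteDimensional k W]
    {σ₀ : Representation k L.H W} (hσ : Irred σ₀) (hσb : InBlk (eK hM (L.hb hM) red) W σ₀)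
    (ρ : Representation k L.N W) (hρ : ∀ (h : L.H) x, ρ ⟨h, L.H_le_N h.2⟩ x = σ₀ h x) :
    ∃ (V : Type u) (_ : AddCommGroup V) (_ : Module k V) (_ : FiniteDimensional k V)
      (σ : Representation k G V) (f : W →ₗ[k] V),
      Irred σ ∧ InBlk (eK hM L.hB red) V σ ∧ Good L hM red ρ σ f := by
  set ε := eps L hM red
  set eB := eK hM L.hB red
  have hzH : L.z ∈ L.H := L.hPH L.hz
  have hz1 := z_trivial L hσ hzH
  have hρz : ∀ h : L.N, (h : G) = L.z → ρ h = 1 := by
    intro h hh
    rw [show h = ⟨((⟨L.z, hzH⟩ : L.H) : G), L.H_le_N hzH⟩ from Subtype.ext hh]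
    exact LinearMap.ext fun x => by rw [hρ, hz1]
  -- the coinduced module
  let U₀ : Submodule k (G → W) :=
    { carrier := {F | ∀ (n : L.N) x, F ((n : G) * x) = ρ n (F x)}
      add_mem' := fun {a b} ha hb n x => by simp [ha n x, hb n x]
      zero_mem' := fun n x => by simp
      smul_mem' := fun c a ha n x => by simp [ha n x] }
  let σU : Representation k G U₀ :=
    { toFun := fun g =>
        { toFun := fun F => ⟨fun x => (F : G → W) (x * g), fun n x => by
            show (F : G → W) ((n : G) * x * g) = ρ n ((F : G → W) (x * g))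
            rw [mul_assoc, F.2]⟩
          map_add' := fun a b => rfl
          map_smul' := fun c a => rfl }
      map_one' := LinearMap.ext fun F => Subtype.ext (funext fun x => by
        show (F : G → W) (x * 1) = _
        rw [mul_one]; rfl)
      map_mul' := fun g h => LinearMap.ext fun F => Subtype.ext (funext fun x => by
        show (F : G → W) (x * (g * h)) = (F : G → W) (x * g * h)
        rw [mul_assoc]) }
  let ι : W →ₗ[k] U₀ :=
    { toFun := fun w => ⟨fun x => if hx : x ∈ L.N then ρ ⟨x, hx⟩ w else 0, fun n x => by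
        show (if hx : (n : G) * x ∈ L.N then ρ ⟨(n : G) * x, hx⟩ w else 0) =
          ρ n (if hx : x ∈ L.N then ρ ⟨x, hx⟩ w else 0)
        by_cases hx : x ∈ L.N
        · rw [dif_pos hx, dif_pos (L.N.mul_mem n.2 hx), ← Module.End.mul_apply, ← map_mul]
          rfl
        · rw [dif_neg hx, dif_neg (fun h => hx ((L.N.mul_mem_cancel_left n.2).1 h)), map_zero]⟩
      map_add' := fun a b => Subtype.ext (funext fun x => by
        by_cases hx : x ∈ L.N <;> simp [hx])
      map_smul' := fun c a => Subtype.ext (funext fun x => by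
        by_cases hx : x ∈ L.N <;> simp [hx]) }
  have hι : ∀ (n : L.N) x, ι (ρ n x) = σU (n : G) (ι x) := by
    intro n w
    refine Subtype.ext (funext fun x => ?_)
    show (if hx : x ∈ L.N then ρ ⟨x, hx⟩ (ρ n w) else 0) =
      if hx : x * (n : G) ∈ L.N then ρ ⟨x * n, hx⟩ w else 0
    by_cases hx : x ∈ L.N
    · rw [dif_pos hx, dif_pos (L.N.mul_mem hx n.2), ← Module.End.mul_apply, ← map_mul]
      rfl
    · rw [dif_neg hx, dif_neg (fun h => hx ((L.N.mul_mem_cancel_right n.2).1 h))]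
  let ev : U₀ →ₗ[k] W := (LinearMap.proj (R := k) (φ := fun _ : G => W) 1).comp U₀.subtype
  have hev : ∀ (n : L.N) (F : U₀), ev (σU (n : G) F) = ρ n (ev F) := fun n F => by
    show (F : G → W) (1 * n) = ρ n ((F : G → W) 1)
    have := F.2 n 1
    rw [one_mul]
    rwa [mul_one] at this
  set z := ε * eB with hz
  have hεc : ∀ n ∈ L.N, cj n ε = ε := fun n hn => cj_eps L hM red hn
  have heBc : ∀ a, eB * a = a * eB := eK_comm hM L.hB red
  have hsumz : ∑ g : L.N, z.coeff (g : G) • ρ g = 1 := by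
    refine LinearMap.ext fun w => ?_
    refine sub_eq_zero.1 ?_
    by_contra hne
    obtain ⟨φ, hφ, -⟩ := Submodule.exists_le_ker_of_notMem (p := (⊥ : Submodule k W))
      (v := (∑ g : L.N, z.coeff (g : G) • ρ g) w - (1 : Module.End k W) w) (by simpa using hne)
    refine hφ ?_
    rw [map_sub, sub_eq_zero, LinearMap.sum_apply, map_sum]
    simp only [LinearMap.smul_apply, map_smul, smul_eq_mul]
    letI : MulAction L.Z L.N :=
      { smul := fun u n => ⟨(u : G) * n * (u : G)⁻¹, L.N.mul_mem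
          (L.N.mul_mem (L.H_le_N ((L.hPH) (L.hZP u.2))) n.2)
          (L.N.inv_mem (L.H_le_N ((L.hPH) (L.hZP u.2))))⟩
        one_smul := fun n => Subtype.ext (by show (1 : G) * n * (1 : G)⁻¹ = n; simp)
        mul_smul := fun a b n => Subtype.ext (by
          show ((a : G) * b) * n * ((a : G) * b)⁻¹ = a * (b * n * (b : G)⁻¹) * (a : G)⁻¹
          group) }
    have hρu : ∀ (u : L.Z) (hu : (u : G) ∈ L.N), ρ ⟨u, hu⟩ = 1 := by
      intro u hu
      obtain ⟨i, hi⟩ := mem_powers_iff_mem_zpowers.2 u.2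
      rw [show (⟨u, hu⟩ : L.N) = (⟨L.z, L.H_le_N hzH⟩ : L.N) ^ i from Subtype.ext (by simpa using hi.symm),
        map_pow, hρz _ rfl, one_pow]
    have hfixz : ∀ u ∈ L.Z, cj u z = z := fun u hu => by
      rw [hz, cj_mul, hεc u (L.H_le_N (L.hPH (L.hZP hu))), cj_of_central heBc]
    rw [sum_invariant (p := p) L.isPGroup_Z (fun g : L.N => z.coeff (g : G) * φ (ρ g w))
      fun u g => ?_]
    swap
    · show z.coeff ((u : G) * g * (u : G)⁻¹) * φ (ρ (u • g) w) = z.coeff (g : G) * φ (ρ g w)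
      congr 1
      · conv_lhs => rw [← hfixz u u.2, coeff_cj]
        congr 1
        group
      · have hu : (u : G) ∈ L.N := L.H_le_N (L.hPH (L.hZP u.2))
        rw [show u • g = (⟨u, hu⟩ : L.N) * g * (⟨u, hu⟩ : L.N)⁻¹ from Subtype.ext (by rfl),
          map_mul, map_mul, hρu u hu, one_mul]
        have hinv : ρ (⟨u, hu⟩ : L.N)⁻¹ = 1 := by
          rw [show ((⟨u, hu⟩ : L.N))⁻¹ = ⟨((u⁻¹ : L.Z) : G), L.N.inv_mem hu⟩ from Subtype.ext (by simp)]
          exact hρu u⁻¹ _
        rw [hinv, mul_one]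
    have hres : resK L.H z = eK hM (L.hb hM) red := by
      have h1 : resK L.H z = resK L.H ε * resK L.H eB :=
        resK_mul L.isPGroup_Z (fun u hu => hεc u (L.H_le_N (L.hPH (L.hZP hu))))
          (fun u _ => cj_of_central heBc u)
      have h2 : resK L.H ε = eK hM (L.hb hM) red := resK_inclK L.H _
      rw [h1, h2, eK_comm hM (L.hb hM) red]
      exact (resK_mul_eK hM red hred L.hB L.isPGroup_Z (L.hb hM)).1 (L.pairOf hM)
    have hfin : ∑ h : L.H, z.coeff (h : G) * φ (σ₀ h w) = φ w := by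
      have h3 := congrArg φ (LinearMap.congr_fun hσb w)
      rw [asAlg_eq_sum, LinearMap.sum_apply, map_sum] at h3
      simp only [LinearMap.smul_apply, map_smul, smul_eq_mul, ← hres, coeff_resK,
        Module.End.one_apply] at h3
      exact h3
    refine Eq.trans ?_ hfin
    symm
    refine Finset.sum_bij (fun h _ => (⟨h, L.H_le_N h.2⟩ : L.N)) (fun h _ => ?_)
      (fun a _ b _ hab => Subtype.ext (congrArg (fun n : L.N => (n : G)) hab)) (fun g hg => ?_)
      fun h _ => by rw [hρ]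
    · simp only [Finset.mem_filter, Finset.mem_univ, true_and]
      intro u
      refine Subtype.ext ?_
      show (u : G) * h * (u : G)⁻¹ = h
      rw [Subgroup.mem_centralizer_iff.1 h.2 u u.2, mul_inv_cancel_right]
    · simp only [Finset.mem_filter, Finset.mem_univ, true_and] at hg
      refine ⟨⟨g, Subgroup.mem_centralizer_iff.2 fun u hu => ?_⟩, Finset.mem_univ _, rfl⟩
      have := congrArg (fun n : L.N => (n : G)) (hg ⟨u, hu⟩)
      change u * (g : G) * u⁻¹ = g at this
      exact mul_inv_eq_iff_eq_mul.1 this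
  have hevz : ∀ w, ev (σU.asAlgebraHom z (ι w)) = w := by
    intro w
    rw [asAlg_eq_sum, LinearMap.sum_apply, map_sum]
    conv_rhs => rw [← Module.End.one_apply (R := k) w, ← hsumz, LinearMap.sum_apply]
    rw [← Finset.sum_subset (Finset.subset_univ (Finset.univ.filter fun g : G => g ∈ L.N))]
    · refine Finset.sum_bij (fun g hg => (⟨g, (Finset.mem_filter.1 hg).2⟩ : L.N))
        (fun _ _ => Finset.mem_univ _) (fun a _ b _ h => congrArg Subtype.val h)
        (fun n _ => ⟨n, Finset.mem_filter.2 ⟨Finset.mem_univ _, n.2⟩, rfl⟩) fun g hg => ?_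
      rw [LinearMap.smul_apply, map_smul, LinearMap.smul_apply]
      congr 1
      show (if hx : (1 : G) * g ∈ L.N then ρ ⟨1 * g, hx⟩ w else 0) = _
      rw [dif_pos (by simpa using (Finset.mem_filter.1 hg).2)]
      simp
    · intro g _ hg
      rw [LinearMap.smul_apply, map_smul]
      show z.coeff g • (if hx : (1 : G) * g ∈ L.N then ρ ⟨1 * g, hx⟩ w else 0) = 0
      rw [dif_neg (by simpa using hg), smul_zero]
  -- the identity is not a trace
  have hnot : ∀ θ : W →ₗ[k] W, ∀ w, ∑ n : L.N, ρ n (θ (ρ n⁻¹ w)) = 0 := by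
    intro θ w
    by_contra hne
    obtain ⟨φ, hφ, -⟩ := Submodule.exists_le_ker_of_notMem (p := (⊥ : Submodule k W))
      (v := ∑ n : L.N, ρ n (θ (ρ n⁻¹ w))) (by simpa using hne)
    refine hφ ?_
    rw [map_sum]
    letI : MulAction L.Z L.N :=
      { smul := fun u n => n * ⟨((u⁻¹ : L.Z) : G), L.H_le_N (L.hPH (L.hZP (u⁻¹ : L.Z).2))⟩
        one_smul := fun n => Subtype.ext (by show (n : G) * ((1 : L.Z)⁻¹ : L.Z) = n; simp)
        mul_smul := fun a b n => Subtype.ext (by
          show (n : G) * (((a * b)⁻¹ : L.Z) : G) = n * ((b⁻¹ : L.Z) : G) * ((a⁻¹ : L.Z) : G)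
          simp [mul_assoc]) }
    rw [sum_invariant (p := p) L.isPGroup_Z (fun n : L.N => φ (ρ n (θ (ρ n⁻¹ w)))) fun u n => ?_]
    · refine Finset.sum_eq_zero fun n hn => ?_
      simp only [Finset.mem_filter, Finset.mem_univ, true_and] at hn
      have := congrArg (fun m : L.N => (m : G)) (hn ⟨L.z, Subgroup.mem_zpowers _⟩)
      change (n : G) * L.z⁻¹ = n at this
      exact absurd (inv_eq_one.1 (mul_eq_left.1 this)) L.hz1
    · set u' : L.N := ⟨((u⁻¹ : L.Z) : G), L.H_le_N (L.hPH (L.hZP (u⁻¹ : L.Z).2))⟩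
      have hone : ∀ v : L.N, (v : G) ∈ L.Z → ρ v = 1 := by
        intro v hv
        obtain ⟨i, hi⟩ := mem_powers_iff_mem_zpowers.2 hv
        rw [show v = (⟨L.z, L.H_le_N hzH⟩ : L.N) ^ i from Subtype.ext (by simpa using hi.symm),
          map_pow, hρz _ rfl, one_pow]
      show φ (ρ (n * u') (θ (ρ (n * u')⁻¹ w))) = φ (ρ n (θ (ρ n⁻¹ w)))
      rw [mul_inv_rev, map_mul, map_mul, hone u' (u⁻¹).2, hone u'⁻¹ (inv_mem (u⁻¹).2), mul_one, one_mul]
  -- modules receiving a good map
  let ok : ℕ → Prop := fun d => ∃ (V : Type u) (_ : AddCommGroup V) (_ : Module k V)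
    (_ : FiniteDimensional k V) (σ : Representation k G V) (f : W →ₗ[k] V),
    InBlk eB V σ ∧ Good L hM red ρ σ f ∧ Module.finrank k V = d
  have hinit : ∃ d, ok d := by
    set U := LinearMap.range (σU.asAlgebraHom eB)
    have hU : ∀ g, ∀ x ∈ U, σU g x ∈ U := by
      rintro g _ ⟨x, rfl⟩
      exact ⟨σU g x, asAlg_comm σU (fun g => heBc _) g x⟩
    have hzU : ∀ w, σU.asAlgebraHom z (ι w) ∈ U := fun w => by
      refine ⟨σU.asAlgebraHom ε (ι w), ?_⟩
      rw [← Module.End.mul_apply, ← map_mul, heBc, hz]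
    let f : W →ₗ[k] U := ((σU.asAlgebraHom z).comp ι).codRestrict U hzU
    refine ⟨_, U, inferInstance, inferInstance, inferInstance, subRep σU U hU, f, ?_, ⟨?_, ?_, ?_⟩, rfl⟩
    · refine LinearMap.ext fun x => Subtype.ext ?_
      rw [asAlg_subRep]
      obtain ⟨y, hy⟩ := x.2
      show σU.asAlgebraHom eB (x : U₀) = x
      rw [← hy, ← Module.End.mul_apply, ← map_mul, eK_sq]
    · intro n x
      refine Subtype.ext ?_
      show σU.asAlgebraHom z (ι (ρ n x)) = σU (n : G) (σU.asAlgebraHom z (ι x))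
      rw [hι, ← Module.End.mul_apply, ← Representation.asAlgebraHom_single_one σU (n : G), ← map_mul,
        ← Module.End.mul_apply, ← map_mul]
      congr 2
      exact cj_eq_self_iff.1 (by rw [hz, cj_mul, hεc _ n.2, cj_of_central heBc])
    · intro x
      refine Subtype.ext ?_
      rw [asAlg_subRep]
      show σU.asAlgebraHom ε (σU.asAlgebraHom z (ι x)) = σU.asAlgebraHom z (ι x)
      rw [← Module.End.mul_apply, ← map_mul, hz, ← mul_assoc, eps_sq]
    · rintro ⟨θ, hθ⟩
      haveI := hσ.1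
      obtain ⟨w, hw⟩ := exists_ne (0 : W)
      refine hw ?_
      have h1 : ev ((f w : U) : U₀) = w := hevz w
      rw [hθ w] at h1
      rw [← h1, Submodule.coe_sum, map_sum, ← hnot (ev.comp (U.subtype.comp θ)) w]
      refine Finset.sum_congr rfl fun n _ => ?_
      rw [show ((subRep σU U hU (n : G) (θ (ρ n⁻¹ w)) : U) : U₀) = σU (n : G) (θ (ρ n⁻¹ w) : U₀)
        from rfl, hev]
      rfl
  classical
  obtain ⟨V, iA, iM, iF, σ, f, hVb, hf, hd⟩ := Nat.find_spec hinit
  refine ⟨V, iA, iM, iF, σ, f, ⟨?_, fun U1 hU1 => ?_⟩, hVb, hf⟩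
  · rcases subsingleton_or_nontrivial V with h | h
    · exact absurd ⟨0, fun x => Subsingleton.elim _ _⟩ hf.2.2
    · exact h
  by_contra hne
  push Not at hne
  obtain ⟨hsb, hqb⟩ := inBlk_sub V σ U1 hU1 hVb
  by_cases hq : Good L hM red ρ (quotRep σ U1 hU1) (U1.mkQ.comp f)
  · have := Nat.find_min' hinit ⟨V ⧸ U1, inferInstance, inferInstance, inferInstance,
      quotRep σ U1 hU1, U1.mkQ.comp f, hqb, hq, rfl⟩
    have := finrank_quot_lt (k := k) hne.1
    omega
  obtain ⟨θ', hθ'⟩ : ∃ θ : W →ₗ[k] V ⧸ U1, ∀ x, (U1.mkQ.comp f) x =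
      ∑ n : L.N, quotRep σ U1 hU1 (n : G) (θ (ρ n⁻¹ x)) := by
    by_contra hc
    refine hq ⟨fun n x => ?_, fun x => ?_, hc⟩
    · show U1.mkQ (f (ρ n x)) = quotRep σ U1 hU1 (n : G) (U1.mkQ (f x))
      rw [quotRep_apply, hf.1]
    · show (quotRep σ U1 hU1).asAlgebraHom ε (U1.mkQ (f x)) = U1.mkQ (f x)
      rw [asAlg_quotRep, hf.2.1]
  obtain ⟨s, hs⟩ := U1.mkQ.exists_rightInverse_of_surjective U1.range_mkQ
  set E := σ.asAlgebraHom ε
  have hEn : ∀ (n : L.N) x, E (σ (n : G) x) = σ (n : G) (E x) := fun n x => by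
    rw [← Module.End.mul_apply, ← Representation.asAlgebraHom_single_one σ (n : G),
      ← map_mul, ← Module.End.mul_apply, ← map_mul, cj_eq_self_iff.1 (hεc _ n.2)]
  set θ : W →ₗ[k] V := E.comp (s.comp θ')
  let g : W →ₗ[k] V := f - ∑ n : L.N, (σ (n : G)).comp (θ.comp (ρ n⁻¹))
  have hg : ∀ x, g x = f x - ∑ n : L.N, σ (n : G) (θ (ρ n⁻¹ x)) := fun x => by simp [g]
  have hgU : ∀ x, g x ∈ U1 := by
    intro x
    rw [← Submodule.Quotient.mk_eq_zero, ← Submodule.mkQ_apply, hg, map_sub, map_sum, sub_eq_zero,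
      ← hf.2.1 x]
    show U1.mkQ (E (f x)) = _
    rw [← asAlg_quotRep hU1, show U1.mkQ (f x) = _ from hθ' x, map_sum]
    refine Finset.sum_congr rfl fun n _ => ?_
    have hsx : U1.mkQ (s (θ' (ρ n⁻¹ x))) = θ' (ρ n⁻¹ x) := LinearMap.congr_fun hs _
    rw [← hsx, quotRep_apply, asAlg_quotRep]
    show U1.mkQ (E (σ (n : G) _)) = U1.mkQ (σ (n : G) (E _))
    rw [hEn]
    rfl
  let g' : W →ₗ[k] U1 := g.codRestrict U1 hgU
  have hEθ : ∀ x, E (θ x) = θ x := fun x => by
    show E (E _) = E _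
    rw [← Module.End.mul_apply, ← map_mul, eps_sq]
  have hgood : Good L hM red ρ (subRep σ U1 hU1) g' := by
    refine ⟨fun m x => Subtype.ext ?_, fun x => Subtype.ext ?_, fun ⟨η, hη⟩ => hf.2.2 ⟨θ + U1.subtype.comp η, fun x => ?_⟩⟩
    · show g (ρ m x) = σ (m : G) (g x)
      rw [hg, hg, map_sub, map_sum, hf.1]
      congr 1
      symm
      refine Fintype.sum_equiv (Equiv.mulLeft m) _ _ fun n => ?_
      show σ (m : G) (σ (n : G) _) = σ ((m * n : L.N) : G) (θ (ρ (m * n)⁻¹ (ρ m x)))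
      rw [Subgroup.coe_mul, map_mul σ, Module.End.mul_apply, ← Module.End.mul_apply (ρ (m * n)⁻¹),
        ← map_mul, mul_inv_rev, mul_assoc, inv_mul_cancel, mul_one]
    · rw [asAlg_subRep]
      show E (g x) = g x
      rw [hg, map_sub, map_sum, hf.2.1]
      congr 1
      refine Finset.sum_congr rfl fun n _ => ?_
      rw [hEn, hEθ]
    · have h1 := congrArg (fun v : U1 => (v : V)) (hη x)
      simp only [Submodule.coe_sum] at h1
      change g x = ∑ n : L.N, σ (n : G) ((η (ρ n⁻¹ x) : U1) : V) at h1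
      rw [hg, sub_eq_iff_eq_add'] at h1
      rw [h1, ← Finset.sum_add_distrib]
      exact Finset.sum_congr rfl fun n _ => by simp
  have := Nat.find_min' hinit ⟨U1, inferInstance, inferInstance, inferInstance,
    subRep σ U1 hU1, g', hsb, hgood, rfl⟩
  have := finrank_sub_lt (k := k) hne.2
  omega

/-- A nilpotent central element kills an irreducible representation. -/
theorem scalar_nilpotent {H : Type u} [Group H] [Fintype H] {W : Type u} [AddCommGroup W]
    [Module k W] [FiniteDimensional k W] {σ₀ : Representation k H W} (hσ : Irred σ₀)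
    {z : MonoidAlgebra k H}
    (hz : ∀ g : H, z * MonoidAlgebra.single g 1 = MonoidAlgebra.single g 1 * z)
    (hn : IsNilpotent z) (w : W) : σ₀.asAlgebraHom z w = 0 := by
  obtain ⟨s, hs⟩ := schur hσ (σ₀.asAlgebraHom z) fun g x => asAlg_comm σ₀ hz g x
  obtain ⟨N, hN⟩ := hn.map σ₀.asAlgebraHom
  rw [show σ₀.asAlgebraHom z = s • (1 : Module.End k W) from LinearMap.ext hs, smul_pow, one_pow] at hN
  haveI := hσ.1
  obtain ⟨x, hx⟩ := exists_ne (0 : W)
  have := LinearMap.congr_fun hN x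
  simp only [LinearMap.smul_apply, Module.End.one_apply, LinearMap.zero_apply] at this
  rw [hs w, (pow_eq_zero_iff'.1 ((smul_eq_zero.1 this).resolve_right hx)).1, zero_smul]

include hred in
/-- A simple module receives good maps from one extension only. -/
theorem not_two {W : Type u} [AddCommGroup W] [Module k W] [FiniteDimensional k W]
    {σ₀ : Representation k L.H W} (hσ : Irred σ₀) {X f : MonoidAlgebra k L.H} {n : ℕ}
    {a b : Fin n → MonoidAlgebra k L.H} {q : ℕ} (hXc : ∀ y, X * y = y * X)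
    (hff : f * f = f) (hfε : f * eK hM (L.hb hM) red = f)
    (hdec : eK hM (L.hb hM) red = ∑ i, a i * f * b i) (hXε : X * eK hM (L.hb hM) red = X)
    (hXq : X ^ q = 0)
    (hspan : ∀ y, f * y * f ∈ Submodule.span k (Set.range fun i : Fin q => X ^ (i : ℕ) * f))
    (hσX : σ₀.asAlgebraHom X = 0) {w : W} (hw : w ≠ 0) (hfw : σ₀.asAlgebraHom f w = w)
    {ρ ρ' : Representation k L.N W} (hρ : ∀ (h : L.H) x, ρ ⟨h, L.H_le_N h.2⟩ x = σ₀ h x)
    (hρ' : ∀ (h : L.H) x, ρ' ⟨h, L.H_le_N h.2⟩ x = σ₀ h x) (t : L.N) {μ : k} (hμ : μ ≠ 1)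
    (hμ0 : μ ≠ 0) (hμρ : ∀ x, ρ' t x = μ • ρ t x) {V : Type u} [AddCommGroup V] [Module k V]
    [FiniteDimensional k V] (σ : Representation k G V) (hV : Irred σ) {f₁ f₂ : W →ₗ[k] V}
    (h₁ : Good L hM red ρ σ f₁) (h₂ : Good L hM red ρ' σ f₂) : False := by
  set I : MonoidAlgebra k L.H →ₐ[k] Module.End k V := σ.asAlgebraHom.comp (inclK L.H) with hI
  set εH := eK hM (L.hb hM) red with hεH
  set E := σ.asAlgebraHom (eps L hM red) with hE
  have hIE : I εH = E := rfl
  set Xo := I X
  set Fo := I f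
  have hH1 : ∀ (h : L.H) x, f₁ (σ₀ h x) = σ (h : G) (f₁ x) := fun h x => by rw [← hρ, h₁.1]
  have hH2 : ∀ (h : L.H) x, f₂ (σ₀ h x) = σ (h : G) (f₂ x) := fun h x => by rw [← hρ', h₂.1]
  have hI1 : ∀ (z : MonoidAlgebra k L.H) x, I z (f₁ x) = f₁ (σ₀.asAlgebraHom z x) := fun z x =>
    asAlg_inclK σ L.H σ₀ f₁ hH1 z x
  have hI2 : ∀ (z : MonoidAlgebra k L.H) x, I z (f₂ x) = f₂ (σ₀.asAlgebraHom z x) := fun z x =>
    asAlg_inclK σ L.H σ₀ f₂ hH2 z x
  have hXF : ∀ i : ℕ, Xo ^ i * Fo = Fo * Xo ^ i := fun i => by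
    rw [← map_pow, ← map_mul, ← map_mul, ((show Commute X f from hXc f).pow_left i).eq]
  have hFF : Fo * Fo = Fo := by rw [← map_mul, hff]
  -- one symmetric step: a map separating the first from the second
  have key : ∀ (π₁ π₂ : Representation k L.N W) (g₁ g₂ : W →ₗ[k] V) (ν : k), ν ≠ 1 → ν ≠ 0 →
      (∀ x, π₂ t x = ν • π₁ t x) →
      (∀ (h : L.H) x, g₁ (σ₀ h x) = σ (h : G) (g₁ x)) →
      (∀ (h : L.H) x, g₂ (σ₀ h x) = σ (h : G) (g₂ x)) →
      Good L hM red π₁ σ g₁ → Good L hM red π₂ σ g₂ →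
      (∀ m : ℕ, g₁ w ∈ LinearMap.range (Xo ^ m * Fo) → g₂ w ∈ LinearMap.range (Xo ^ m * Fo)) →
      False := by
    intro π₁ π₂ g₁ g₂ ν hν hν0 hνρ hg1 hg2 hG1 hG2 hle
    have hy : ∀ (g : W →ₗ[k] V), (∀ (h : L.H) x, g (σ₀ h x) = σ (h : G) (g x)) →
        Fo (g w) = g w ∧ Xo (g w) = 0 := fun g hg => by
      have h3 := fun z => asAlg_inclK σ L.H σ₀ g hg z w
      exact ⟨(h3 f).trans (by rw [hfw]), (h3 X).trans (by rw [hσX]; simp)⟩
    obtain ⟨hy1, hXy1⟩ := hy g₁ hg1
    obtain ⟨hy2, hXy2⟩ := hy g₂ hg2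
    -- the kernel of a map from the simple module
    have hker : ∀ (g : W →ₗ[k] V) (U : Submodule k V), (∀ (h : L.H) x, g (σ₀ h x) = σ (h : G) (g x)) →
        (∀ (h : L.H), ∀ x ∈ U, σ (h : G) x ∈ U) → g w ∈ U → ∀ x, g x ∈ U := by
      intro g U hg hU hgw x
      rcases hσ.2 (U.comap g) (fun h v hv => by
        show g (σ₀ h v) ∈ U
        rw [hg]; exact hU h _ hv) with hh | hh
      · exact absurd ((Submodule.eq_bot_iff _).1 hh w hgw) hw
      · exact (show x ∈ U.comap g from hh ▸ Submodule.mem_top)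
    have hne1 : g₁ w ≠ 0 := fun h0 => hG1.2.2 ⟨0, fun x => by
      have := hker g₁ ⊥ hg1 (fun h x hx => by simp [(Submodule.mem_bot k).1 hx]) (by simp [h0]) x
      simp [(Submodule.mem_bot k).1 this]⟩
    have hy1mem : g₁ w ∈ LinearMap.range (Xo ^ 0 * Fo) :=
      ⟨g₁ w, by rw [pow_zero, one_mul, hy1]⟩
    have hex : ∃ m, g₁ w ∉ LinearMap.range (Xo ^ (m + 1) * Fo) := by
      refine ⟨q, fun h => ?_⟩
      obtain ⟨v, hv⟩ := h
      rw [← map_pow, pow_succ, hXq, zero_mul, map_zero, zero_mul, LinearMap.zero_apply] at hv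
      exact hne1 hv.symm
    classical
    set m := Nat.find hex
    have hm1 : g₁ w ∉ LinearMap.range (Xo ^ (m + 1) * Fo) := Nat.find_spec hex
    have hm0 : g₁ w ∈ LinearMap.range (Xo ^ m * Fo) := by
      rcases Nat.eq_zero_or_pos m with h | h
      · rw [h]; exact hy1mem
      · have := Nat.find_min hex (show m - 1 < Nat.find hex from Nat.sub_lt h one_pos)
        rw [Nat.sub_add_cancel h] at this
        exact not_not.1 this
    -- the invariant subspace
    set R := LinearMap.range (Xo ^ (m + 1)) with hR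
    have hRH : ∀ (h : L.H), ∀ x ∈ R, σ (h : G) x ∈ R := by
      rintro h _ ⟨v, rfl⟩
      refine ⟨σ (h : G) v, ?_⟩
      have e1 : σ (h : G) = I (MonoidAlgebra.single h 1) := by
        rw [hI, AlgHom.comp_apply, inclK_single, Representation.asAlgebraHom_single_one]
      rw [e1, ← map_pow, ← Module.End.mul_apply, ← map_mul,
        ((show Commute X _ from hXc (MonoidAlgebra.single h 1)).pow_left (m + 1)).eq, map_mul,
        Module.End.mul_apply]
    have hFR : ∀ {v}, v ∈ R → Fo v = v → v ∈ LinearMap.range (Xo ^ (m + 1) * Fo) := by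
      rintro v ⟨x, rfl⟩ hv
      refine ⟨x, ?_⟩
      rw [hXF, Module.End.mul_apply]
      exact hv
    have hRN : ∀ (u : L.N), ∀ x ∈ R, σ (u : G) x ∈ R := by
      intro u
      set hC := conj_mem_iff_of_normalizer (normalizer_le_normalizer_cen (L.N_le_normalizer u.2))
      set φ := conjEquiv (u : G) L.H L.H hC
      set Ψ := MonoidAlgebra.mapDomainAlgHom k k φ.toMonoidHom
      -- the conjugate is a multiple
      have hX'c : ∀ y, Ψ X * y = y * Ψ X := by
        intro y
        induction y using MonoidAlgebra.induction_linear with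
        | zero => simp
        | add c d hc hd => rw [mul_add, add_mul, hc, hd]
        | single h r =>
          obtain ⟨h', rfl⟩ := φ.surjective h
          rw [show MonoidAlgebra.single (φ h') r = Ψ (MonoidAlgebra.single h' r) by
            rw [MonoidAlgebra.mapDomainAlgHom_apply, MonoidAlgebra.mapDomain_single]; rfl,
            ← map_mul, hXc, map_mul]
      have hX'ε : Ψ X * εH = Ψ X := by
        conv_lhs => rw [hεH, ← conj_block_N L hM red u.2]
        rw [← map_mul, hXε]
      obtain ⟨r, hr⟩ := CyclicSeparate42.exists_mul σ₀.asAlgebraHom hXc hff hdec hXq hspan hσX hw hfw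
        hX'c hX'ε (scalar_nilpotent hσ (fun g => hX'c _)
          ⟨q, by rw [← map_pow, hXq, map_zero]⟩ w)
      rintro _ ⟨v, rfl⟩
      refine ⟨I (r ^ (m + 1)) (σ (u : G) v), ?_⟩
      have hop : σ (u : G) * Xo ^ (m + 1) = I (Ψ (X ^ (m + 1))) * σ (u : G) := by
        have h5 : cj (u : G) (inclK L.H (X ^ (m + 1))) = inclK L.H (Ψ (X ^ (m + 1))) :=
          cj_inclK_conj L.H (u : G) hC _
        rw [← map_pow, hI, AlgHom.comp_apply, AlgHom.comp_apply, ← h5, cj, map_mul, map_mul,
          Representation.asAlgebraHom_single_one, Representation.asAlgebraHom_single_one, mul_assoc,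
          ← map_mul σ, inv_mul_cancel, map_one, mul_one]
      rw [← Module.End.mul_apply (σ (u : G)), hop, map_pow Ψ, hr, (show Commute X r from hXc r).mul_pow,
        map_mul, map_pow I X]
      rfl
    -- separation
    have hsep : g₁ w ∉ Submodule.span k {g₂ w} ⊔ R := by
      intro h
      obtain ⟨_, hu, v, hv, huv⟩ := Submodule.mem_sup.1 h
      obtain ⟨c, rfl⟩ := Submodule.mem_span_singleton.1 hu
      have hvF : Fo v = v := by
        rw [show v = g₁ w - c • g₂ w from eq_sub_of_add_eq' huv, map_sub, map_smul, hy1, hy2]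
      by_cases hc : c = 0
      · rw [hc, zero_smul, zero_add] at huv
        exact hm1 (huv ▸ hFR hv hvF)
      have hD : ∀ x, g₁ x - c • g₂ x ∈ R := fun x =>
        hker (g₁ - c • g₂) R (fun h x => by simp [hg1, hg2]) hRH
          (by
            show g₁ w - c • g₂ w ∈ R
            rw [← eq_sub_of_add_eq' huv]; exact hv) x
      have hy2R : g₂ w ∈ R := by
        obtain ⟨x₀, hx₀⟩ : ∃ x₀, π₁ t x₀ = w :=
          ⟨π₁ t⁻¹ w, by rw [← Module.End.mul_apply, ← map_mul, mul_inv_cancel, map_one]; rfl⟩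
        have h6 := hRN t _ (hD x₀)
        rw [map_sub, map_smul, ← hG1.1, ← hG2.1, hνρ, hx₀, map_smul] at h6
        have h7 := R.sub_mem (hD w) h6
        have h8 : (c * (ν - 1)) • g₂ w ∈ R := by
          convert h7 using 1
          module
        exact (R.smul_mem_iff (mul_ne_zero hc (sub_ne_zero.2 hν))).1 h8
      refine hm1 ?_
      rw [← huv]
      exact add_mem (Submodule.smul_mem _ _ (hFR hy2R hy2)) (hFR hv hvF)
    obtain ⟨x₀, hx₀⟩ := hm0
    rw [Module.End.mul_apply] at hx₀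
    obtain ⟨φ₀, hφ₀c, hφ₀E1, hφ₀E2, hφy1, hφy2⟩ := CyclicSeparate42.exists_separating I
      (eK_comm hM (L.hb hM) red) (eK_sq hM (L.hb hM) red) hff hfε hXc hdec hspan hy1 hXy1 hy2 hXy2
      (show Fo (Fo x₀) = Fo x₀ by rw [← Module.End.mul_apply, hFF]) hx₀ hsep
    have hφ₀E : E * φ₀ = φ₀ ∧ φ₀ * E = φ₀ := ⟨hφ₀E1, hφ₀E2⟩
    have hφ₀h : ∀ (h : L.H) v, φ₀ (σ (h : G) v) = σ (h : G) (φ₀ v) := by
      intro h v
      have h9 := hφ₀c (MonoidAlgebra.single h 1)
      rw [map_mul, hI, AlgHom.comp_apply _ _ (MonoidAlgebra.single h 1), inclK_single,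
        Representation.asAlgebraHom_single_one] at h9
      change E * σ (h : G) * φ₀ = φ₀ * (E * σ (h : G)) at h9
      have hEh : E * σ (h : G) = σ (h : G) * E := by
        rw [← Representation.asAlgebraHom_single_one σ (h : G), hE, ← map_mul, ← map_mul,
          cj_eq_self_iff.1 (cj_eps L hM red (L.H_le_N h.2))]
      rw [← mul_assoc, hφ₀E.2, hEh, mul_assoc, hφ₀E.1] at h9
      exact (LinearMap.congr_fun h9 v).symm
    have hone : ∀ x, φ₀ (g₁ x) = g₁ x := fun x => by
      have := hker g₁ (LinearMap.ker (φ₀ - (1 : Module.End k V))) hg1 (fun h v hv => by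
          rw [LinearMap.mem_ker, LinearMap.sub_apply, Module.End.one_apply, sub_eq_zero] at hv ⊢
          rw [hφ₀h, hv]) (by
          rw [LinearMap.mem_ker, LinearMap.sub_apply, Module.End.one_apply, sub_eq_zero,
            hφy1]
          exact hG1.2.1 w) x
      rwa [LinearMap.mem_ker, LinearMap.sub_apply, Module.End.one_apply, sub_eq_zero] at this
    have htwo : ∀ x, φ₀ (g₂ x) = 0 := fun x => by
      have := hker g₂ (LinearMap.ker φ₀) hg2 (fun h v hv => by
          rw [LinearMap.mem_ker] at hv ⊢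
          rw [hφ₀h, hv, map_zero]) (by
          rw [LinearMap.mem_ker]
          exact hφy2) x
      exact this
    -- averaging over `N`
    have hfix : ∀ u ∈ L.H, op σ u φ₀ = φ₀ := fun u hu =>
      (op_eq_self_iff σ).2 (LinearMap.ext fun v => (hφ₀h ⟨u, hu⟩ v).symm)
    set φ : Module.End k V := (e : k)⁻¹ • ∑ ω ∈ part L L.H, op σ ω.out φ₀ with hφdef
    have hφN : ∀ u ∈ L.N, σ u * φ = φ * σ u := by
      intro u hu
      refine (op_eq_self_iff σ).1 ?_
      rw [hφdef, op_smul, op_sum]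
      congr 1
      refine Finset.sum_bij' (fun ω _ => u • ω) (fun ω _ => u⁻¹ • ω)
        (fun ω hω => (smul_mem_part L L.H_le_N hu ω).2 hω)
        (fun ω hω => (smul_mem_part L L.H_le_N (L.N.inv_mem hu) ω).2 hω)
        (fun ω _ => inv_smul_smul u ω) (fun ω _ => smul_inv_smul u ω) fun ω _ => ?_
      obtain ⟨c, rfl⟩ := QuotientGroup.mk_surjective ω
      rw [MulAction.Quotient.smul_coe, op_out σ hfix, op_out σ hfix, ← op_mul, smul_eq_mul]
    have hopE : ∀ u ∈ L.N, op σ u E = E := fun u hu => by rw [hE, op_asAlg, cj_eps L hM red hu]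
    have hEφ : E * φ = φ ∧ φ * E = φ := by
      constructor <;>
      · rw [hφdef]
        simp only [mul_smul_comm, smul_mul_assoc, Finset.mul_sum, Finset.sum_mul]
        congr 1
        refine Finset.sum_congr rfl fun ω hω => ?_
        rw [← hopE ω.out (Finset.mem_filter.1 hω).2, ← op_comp]
        first | rw [hφ₀E.1] | rw [hφ₀E.2]
    have hφg : ∀ (π : Representation k L.N W) (g : W →ₗ[k] V) (c : k),
        (∀ (n : L.N) x, g (π n x) = σ (n : G) (g x)) → (∀ x, φ₀ (g x) = c • g x) →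
        ∀ x, φ (g x) = c • g x := by
      intro π g c hg hc x
      rw [hφdef, LinearMap.smul_apply, LinearMap.sum_apply,
        Finset.sum_congr rfl (g := fun _ : G ⧸ L.H => c • g x) fun ω hω => ?_,
        sum_part_const (k := k) L hM (c • g x), smul_smul,
        inv_mul_cancel₀ (e_ne_zero L hM), one_smul]
      set u : L.N := ⟨ω.out, (Finset.mem_filter.1 hω).2⟩
      show σ (u : G) (φ₀ (σ (u : G)⁻¹ (g x))) = c • g x
      rw [← Subgroup.coe_inv, ← hg, hc, map_smul, ← hg, ← Module.End.mul_apply, ← map_mul,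
        mul_inv_cancel, map_one]
      rfl
    obtain ⟨Φ, θ, hΦ, hθ⟩ := exists_lift L hM red hred σ φ hφN hEφ.1 hEφ.2
    obtain ⟨s, hs⟩ := schur hV Φ fun g v => (LinearMap.congr_fun (hΦ g) v).symm
    -- both maps would be traces
    have htr : ∀ (π : Representation k L.N W) (g : W →ₗ[k] V) (c : k),
        Good L hM red π σ g → (∀ x, φ₀ (g x) = c • g x) → s ≠ c → False := by
      intro π g c hg hc hsc
      refine hg.2.2 ⟨(s - c)⁻¹ • θ.comp g, fun x => ?_⟩
      have h := LinearMap.congr_fun hθ (g x)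
      simp only [LinearMap.sub_apply, Module.End.mul_apply, LinearMap.sum_apply] at h
      rw [show E (g x) = g x from hg.2.1 x, hs, map_smul, show E (g x) = g x from hg.2.1 x,
        hφg π g c hg.1 hc, ← sub_smul] at h
      calc g x = (s - c)⁻¹ • ((s - c) • g x) := by
            rw [smul_smul, inv_mul_cancel₀ (sub_ne_zero.2 hsc), one_smul]
        _ = _ := by
            rw [h, Finset.smul_sum]
            refine Finset.sum_congr rfl fun u _ => ?_
            rw [op, Module.End.mul_apply, Module.End.mul_apply, ← Subgroup.coe_inv, ← hg.1,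
              LinearMap.smul_apply, map_smul]
            rfl
    by_cases h1 : s = 1
    · exact htr π₂ g₂ 0 hG2 (fun x => by rw [htwo, zero_smul]) (by rw [h1]; exact one_ne_zero)
    · exact htr π₁ g₁ 1 hG1 (fun x => by rw [hone, one_smul]) h1
  by_cases hle : ∀ m : ℕ, f₁ w ∈ LinearMap.range (Xo ^ m * Fo) → f₂ w ∈ LinearMap.range (Xo ^ m * Fo)
  · exact key ρ ρ' f₁ f₂ μ hμ hμ0 hμρ hH1 hH2 h₁ h₂ hle
  · push Not at hle
    obtain ⟨m, hm1, hm2⟩ := hle
    refine key ρ' ρ f₂ f₁ μ⁻¹ (by simpa using hμ) (inv_ne_zero hμ0)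
      (fun x => by rw [hμρ, smul_smul, inv_mul_cancel₀ hμ0, one_smul]) hH2 hH1 h₂ h₁ fun m' h' => ?_
    have hmono : ∀ {i j : ℕ}, i ≤ j → ∀ {v}, v ∈ LinearMap.range (Xo ^ j * Fo) →
        v ∈ LinearMap.range (Xo ^ i * Fo) := by
      rintro i j hij _ ⟨v, rfl⟩
      refine ⟨(Xo ^ (j - i)) v, ?_⟩
      rw [Module.End.mul_apply, ← Module.End.mul_apply Fo, ← hXF (j - i),
        ← Module.End.mul_apply (Xo ^ i), ← mul_assoc (Xo ^ i), ← pow_add, Nat.add_sub_cancel' hij]
    rcases le_or_gt m' m with h | h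
    · exact hmono h hm1
    · exact absurd (hmono h.le h') hm2

include L hM hred in
/-- The number of Brauer characters is at least the inertial index. -/
theorem le_blockRank : e ≤ blockRank p B := by
  obtain ⟨c₀, hc₀, hst⟩ := L.exists_local hM
  have hcyc : IsCyclic (P.subgroupOf L.H) :=
    haveI := L.cyc
    isCyclic_of_injective (Subgroup.subgroupOfEquivOfLe L.hPH).toMonoidHom
      (Subgroup.subgroupOfEquivOfLe L.hPH).injective
  obtain ⟨X, f, n, a, b, hXc, hXε, hff, hfε, hdec, hXq, hspan, W, iA, iM, iF, σ₀, hσ, hσb, hσX,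
    w, hw, hfw⟩ := exists_local_corner hM red hred hc₀ hcyc hst
  obtain ⟨t, ζ, ρ, hζ, hρ, hρt⟩ := exists_ext L hM red hred hσ hσb
  choose V iVA iVM iVF σ g hirr hblk hgood using fun i =>
    exists_simple L hM red hred hσ hσb (ρ i) (hρ i)
  letI := iVA
  letI := iVM
  haveI := iVF
  have h := card_le_blockRank hM L.hB red V σ hirr hblk fun i j hij F hF => by
    by_contra h0
    have hbij := bijective_of_ne_zero (hirr i) (hirr j) F hF h0
    have hμ : ζ ^ (j : ℕ) / ζ ^ (i : ℕ) ≠ 1 := fun h => hij (Fin.ext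
      (hζ.pow_inj i.2 j.2 ((div_eq_one_iff_eq (pow_ne_zero _ (hζ.ne_zero (L.e_pos hM).ne'))).1 h).symm))
    refine not_two L hM red hred hσ hXc hff hfε hdec hXε hXq hspan hσX hw hfw (hρ i) (hρ j) t hμ
      (div_ne_zero (pow_ne_zero _ (hζ.ne_zero (L.e_pos hM).ne'))
        (pow_ne_zero _ (hζ.ne_zero (L.e_pos hM).ne')))
      (hρt i j) (σ j) (hirr j) (f₁ := F.comp (g i)) (f₂ := g j) ⟨fun m x => ?_, fun x => ?_, ?_⟩
      (hgood j)
    · simp [(hgood i).1 m x, hF]
    · have : ∀ z, (σ j).asAlgebraHom z (F (g i x)) = F ((σ i).asAlgebraHom z (g i x)) := fun z => by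
        simp [asAlg_eq_sum, hF]
      simp only [LinearMap.comp_apply, this, (hgood i).2.1 x]
    · rintro ⟨θ, hθ⟩
      let Fe := LinearEquiv.ofBijective F hbij
      refine (hgood i).2.2 ⟨Fe.symm.toLinearMap.comp θ, fun x => hbij.1 ?_⟩
      rw [show F (g i x) = _ from hθ x, map_sum]
      refine Finset.sum_congr rfl fun m _ => ?_
      rw [hF]
      congr 1
      exact (Fe.apply_symm_apply _).symm
  simpa using h

end Cfsg.Agent.CyclicLower42
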