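import Cfsg.Agent.Lib.CyclicIsometry42
import Cfsg.Agent.Lib.BlockPiKernel

/-!
# A cyclic block and its correspondent in the normaliser of the subgroup of order `p`
-/

set_option autoImplicit false
set_option linter.unusedSectionVars false

namespace Cfsg.Agent.CyclicNormalizer42

open Cfsg BlockTheoryLocalRing BlockTheoryCentre BlockTheoryIdem BlockContribBounds
  BrauerPairs81Base BrauerPairs81Pairs BrauerPairs81Conj BrauerPairs81Local BrauerPairs81Fusion
  BlockCyclicRank81 CyclicSetup42 CyclicAction42 CyclicShape42 CyclicValues42 CyclicKappa42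
  CyclicIsometry42

attribute [local instance] Classical.propDecidable

universe u

variable {p : ℕ} [Fact p.Prime] {M : Ideal AlgInt} {G : Type u} [Group G] [Fintype G]

/-- A pair of a subgroup containing the centraliser gives a pair of the induced block. -/
theorem exists_iso_pair (hM : IsPModular p M) {H : Subgroup G} {b : Set (IrrCharacter H)}
    {B : Set (IrrCharacter G)} (hind : IsInducedBlock M H b B) {R : Subgroup H} {Q : Subgroup G}
    (hQ : R.map H.subtype = Q) (hC : Cen Q ≤ H) {g : Set (IrrCharacter (Cen R))}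
    (hg : IsBrauerPairOf p M b R g) :
    ∃ φ : Cen R ≃* Cen Q, (∀ a, ((φ a : Cen Q) : G) = ((a : H) : G)) ∧
      IsBrauerPairOf p M B Q (pushSet φ g) := by
  subst hQ
  exact ⟨cenIso (cenCompat_map hC le_rfl), fun _ => rfl, BlockPiKernel.pair_up hM hind hg hC⟩

/-- The comparison of the shapes of a block and of its correspondent. -/
theorem main (hM : IsPModular p M) {B : Set (IrrCharacter G)} {P : Subgroup G}
    (hPD : IsDefectGroup p M B P) (hP1 : P ≠ ⊥) (hcyc : IsCyclic P) {Z : Subgroup G}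
    (hZ : Z ≤ P) (hZcard : Nat.card Z = p) {H : Subgroup G}
    (hH : H = Subgroup.normalizer (Z : Set G)) {c : Set (IrrCharacter H)}
    (hcD : IsDefectGroup p M c (P.subgroupOf H)) (hc : IsInducedBlock M H c B) :
    Nat.card c = Nat.card B ∧ blockRank p c = blockRank p B ∧
      ∃ (I : IrrCharacter H → IrrCharacter G) (ε : IrrCharacter H → ℤ),
        IsPerfectIsometry p M c B I ε := by
  have hPH : P ≤ H := hH ▸ fun v hv => Subgroup.centralizer_le_normalizer _
    (Subgroup.mem_centralizer_iff.2 fun q hq => comm_of_cyclic hcyc q (hZ hq) v hv)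
  have hmapP : (P.subgroupOf H).map H.subtype = P := Subgroup.map_subgroupOf_eq_of_le hPH
  -- the local data of the two blocks
  have hcyc' : IsCyclic (P.subgroupOf H) :=
    haveI := hcyc
    isCyclic_of_injective (Subgroup.subgroupOfEquivOfLe hPH).toMonoidHom
      (Subgroup.subgroupOfEquivOfLe hPH).injective
  have hP1' : P.subgroupOf H ≠ ⊥ := fun h => hP1 (by rw [← hmapP, h, Subgroup.map_bot])
  obtain ⟨c₀, hc₀⟩ := exists_pairOf_of_not_small hM hc.1 (BlockTheoryDefect.isPGroup_of_isDefectGroup hcD)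
    (BlockTheoryDefect.not_small_cut_defect hM hc.1 hcD)
  obtain ⟨L', -⟩ := exists_loc_of_max hM hcyc' hP1' (BlockContribMajor.isMaximal_of_card hM hc₀
    (card_defectGroup hM hc.1 hcD))
  obtain ⟨f, hf⟩ := exists_pairOf_of_not_small hM hc.2.1 (BlockTheoryDefect.isPGroup_of_isDefectGroup hPD)
    (BlockTheoryDefect.not_small_cut_defect hM hc.2.1 hPD)
  obtain ⟨L, -⟩ := exists_loc_of_max hM hcyc hP1 (BlockContribMajor.isMaximal_of_card hM hf
    (card_defectGroup hM hc.2.1 hPD))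
  set e' := (Cen (P.subgroupOf H)).relIndex (stab (⟨P.subgroupOf H, c₀⟩ : BrauerPairIdx H))
  set e := (Cen P).relIndex (stab (⟨P, f⟩ : BrauerPairIdx G))
  have hLZ : L.Z = Z := PGroupsCyclic.eq_of_card_eq_of_isCyclic hcyc L.hZP hZ
    (L.cardZ.trans hZcard.symm)
  have hHL : H = Subgroup.normalizer (L.Z : Set G) := by rw [hLZ]; exact hH
  have hmapZ : L'.Z.map H.subtype = L.Z :=
    PGroupsCyclic.eq_of_card_eq_of_isCyclic hcyc
      ((Subgroup.map_mono L'.hZP).trans hmapP.le) L.hZP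
      (by rw [Subgroup.card_map_of_injective H.subtype_injective, L'.cardZ, L.cardZ])
  obtain ⟨φ, hφ, hpair⟩ := exists_iso_pair hM hc hmapZ
    (hHL ▸ Subgroup.centralizer_le_normalizer _) (L'.pairOf hM)
  obtain ⟨x, hx⟩ := exists_tw_of_induced L hM (induced_of_pairOf hM hpair)
  let σ : IrrCharacter L'.H ≃ IrrCharacter L.H := (pushChar φ).trans (tw L x).symm
  have hσb : ∀ ψ, σ ψ ∈ L.b ↔ ψ ∈ L'.b := fun ψ => by
    rw [show σ ψ = (tw L x).symm (pushChar φ ψ) from rfl, ← (tw L x).injective.mem_set_image,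
      Equiv.apply_symm_apply, ← hx, pushSet, (pushChar φ).injective.mem_set_image]
  -- the two actions
  have hpush : ∀ (g : Subgroup.normalizer (L'.Z : Set H)) (g₀ : Subgroup.normalizer (L.Z : Set G)),
      (g₀ : G) = ((g : H) : G) → ∀ ψ, tw L g₀ (pushChar φ ψ) = pushChar φ (tw L' g ψ) := by
    intro g g₀ hg ψ
    refine Subtype.ext (funext fun h => ?_)
    obtain ⟨a, rfl⟩ := φ.surjective h
    rw [tw_apply, pushChar_apply, tw_apply, ← pushChar_apply φ ψ (conjH L' g a)]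
    refine congrArg (pushChar φ ψ : L.H → ℂ) (Subtype.ext ?_)
    rw [conjH_coe, hφ, hφ, hg, conjH_coe]
    rfl
  have hN' : ∀ h : H, h ∈ Subgroup.normalizer (L'.Z : Set H) := fun h => by
    have hh : (h : G) ∈ Subgroup.normalizer (L.Z : Set G) := hHL ▸ h.2
    refine Subgroup.mem_normalizer_iff.2 fun u => ?_
    have hiff : ∀ v : H, v ∈ L'.Z ↔ (v : G) ∈ L.Z := fun v => by
      rw [← hmapZ]
      exact (Subgroup.mem_map_iff_mem H.subtype_injective).symm
    rw [hiff, hiff]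
    exact Subgroup.mem_normalizer_iff.1 hh u
  have hσorb : ∀ ψ ∈ L'.b, ∀ χ ∈ L'.b, orb L (σ ψ) (σ χ) ↔ orb L' ψ χ := by
    intro ψ hψ χ hχ
    have key : ∀ a, σ a = (tw L x).symm (pushChar φ a) := fun _ => rfl
    constructor
    · rintro ⟨g, -, hg⟩
      have hmemH : ((x⁻¹ * g * x : Subgroup.normalizer (L.Z : Set G)) : G) ∈ H :=
        hHL ▸ (x⁻¹ * g * x).2
      refine ⟨⟨⟨_, hmemH⟩, hN' _⟩, ?_, ?_⟩
      rotate_left
      · refine (pushChar φ).injective ((hpush _ (x⁻¹ * g * x) rfl ψ).symm.trans ?_)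
        rw [key, key, Equiv.eq_symm_apply] at hg
        rw [tw_mul, tw_mul, ← hg]
        congr 2
        rw [eq_comm, Equiv.symm_apply_eq, ← tw_mul, inv_mul_cancel, tw_of_mem_H L 1 (one_mem _)]
      · refine mem_N_of_tw L' hM _ hψ ?_
        have h1 := hpush ⟨⟨_, hmemH⟩, hN' _⟩ (x⁻¹ * g * x) rfl ψ
        rw [key, key, Equiv.eq_symm_apply] at hg
        have h2 : tw L (x⁻¹ * g * x) (pushChar φ ψ) = pushChar φ χ := by
          rw [tw_mul, tw_mul, ← hg]
          congr 2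
          rw [eq_comm, Equiv.symm_apply_eq, ← tw_mul, inv_mul_cancel, tw_of_mem_H L 1 (one_mem _)]
        rw [(pushChar φ).injective (h1.symm.trans h2)]
        exact hχ
    · rintro ⟨g, -, rfl⟩
      set g₀ : Subgroup.normalizer (L.Z : Set G) := ⟨((g : H) : G), hHL ▸ (g : H).2⟩
      have h1 : tw L (x * g₀ * x⁻¹) (σ ψ) = σ (tw L' g ψ) := by
        rw [key, key, tw_mul, tw_mul, Equiv.apply_symm_apply, hpush g g₀ rfl, eq_comm,
          Equiv.symm_apply_eq, ← tw_mul, inv_mul_cancel, tw_of_mem_H L 1 (one_mem _)]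
      exact ⟨x * g₀ * x⁻¹, mem_N_of_tw L hM _ ((hσb ψ).2 hψ) (h1 ▸ (hσb _).2 hχ), h1⟩
  -- base points and inertial indices
  obtain ⟨ψ₀', h0'⟩ := exists_base L' hM
  have hfix : ∀ g : Subgroup.normalizer (L.Z : Set G), (g : G) ∈ L.N → tw L g (σ ψ₀') = σ ψ₀' := by
    intro g hg
    obtain ⟨χ, hχ⟩ := σ.surjective (tw L g (σ ψ₀'))
    have hχb : χ ∈ L'.b := (hσb χ).1 (hχ ▸ tw_mem L g hg ((hσb ψ₀').2 h0'.mem))
    obtain ⟨g', hg', he⟩ := (hσorb ψ₀' h0'.mem χ hχb).1 ⟨g, hg, hχ.symm⟩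
    rw [← hχ, ← he, h0'.fix g' hg']
  have h0 : Base L (σ ψ₀') := base_of_fix hM ((hσb _).2 h0'.mem) hfix
  have hee : e' = e := by
    obtain ⟨ψ, hψ⟩ := Finset.card_pos.1 (one_le_card_moved L' hM h0')
    obtain ⟨hψb, hψ0⟩ := (mem_moved L').1 hψ
    rw [← card_orb L' hM h0' hψ, ← card_orb L hM h0
      ((mem_moved L).2 ⟨(hσb ψ).2 hψb, σ.injective.ne hψ0⟩)]
    refine Finset.card_equiv σ fun χ => ?_
    simp only [Finset.mem_filter, mem_moved, hσb, σ.injective.ne_iff]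
    exact ⟨fun ⟨h1, h2⟩ => ⟨h1, (hσorb ψ hψb χ h1.1).2 h2⟩,
      fun ⟨h1, h2⟩ => ⟨h1, (hσorb ψ hψb χ h1.1).1 h2⟩⟩
  clear_value e'
  subst hee
  obtain ⟨S', hS'⟩ := shape_at L' hM h0'
  obtain ⟨S, hS⟩ := shape_at L hM h0
  have hdiv : ∀ a : G, p ∣ orderOf a → ∀ b : H, p ∣ orderOf b →
      MemLocalRing M ((∑ ψ ∈ members L'.b, kapZ L a (σ ψ) * kapZ L' b ψ) /
        (Nat.card (Subgroup.centralizer ({a} : Set G)) : ℂ)) ∧
      MemLocalRing M ((∑ ψ ∈ members L'.b, kapZ L a (σ ψ) * kapZ L' b ψ) /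
        (Nat.card (Subgroup.centralizer ({b} : Set H)) : ℂ)) := by
    intro a ha b hb
    have heq : ∀ ψ, kapZ L a (σ ψ) = kapZ L a (pushChar φ ψ) := fun ψ => by
      rw [← kappa_tw L a x (σ ψ)]
      exact congrArg _ ((tw L x).apply_symm_apply _)
    simp only [heq]
    refine hdiv_of_kernel hM (pushChar φ) (fun h _ _ k _ _ => ?_) ha hb
    obtain ⟨h₀, rfl⟩ := φ.surjective h
    simp only [pushChar_apply, card_centralizer_singleton]
    refine ⟨kern_div_mem hM (L'.hb hM) h₀ k, ?_⟩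
    rw [show ∑ ψ ∈ members L'.b, (ψ : L'.H → ℂ) h₀ * (ψ : L'.H → ℂ) k =
      ∑ ψ ∈ members L'.b, (ψ : L'.H → ℂ) k * (ψ : L'.H → ℂ) h₀ from
      Finset.sum_congr rfl fun ψ _ => mul_comm _ _]
    exact kern_div_mem hM (L'.hb hM) k h₀
  obtain ⟨I, ε, hI, -⟩ := exists_isometry hM S S' σ
    ⟨fun ψ hψ => (hσb ψ).2 hψ, σ.injective.injOn, fun χ hχ =>
      ⟨σ.symm χ, (hσb _).1 ((σ.apply_symm_apply χ).symm ▸ hχ), σ.apply_symm_apply χ⟩⟩
    (by rw [hS', hS]) hσorb hdiv
  exact ⟨Nat.card_congr hI.1.equiv, S'.rank.trans S.rank.symm, I, ε, hI⟩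

end Cfsg.Agent.CyclicNormalizer42
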