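import Mathlib

/-!
Bounds on the least `k` with `χ ∣ X ^ k - a` for a monic polynomial `χ` over a finite field, with and
without a semilinear reciprocity `reverse (σ χ) = c • χ`; and the numerical inequalities needed for
orders of automorphisms of linear groups.
-/

set_option autoImplicit false

namespace Cfsg.Agent.CyclicQuotBound67

open Polynomial

/-! ### Numerical inequalities -/

theorem succ_mul_le {x e : ℕ} (hx : 2 ≤ x) (he : 2 ≤ e) (h22 : e = 2 → 3 ≤ x) :
    e * (x + 1) ≤ x ^ e + 1 := by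
  induction e, he using Nat.le_induction with
  | base => have := h22 rfl; nlinarith
  | succ e he ih =>
    rcases eq_or_lt_of_le he with rfl | he'
    · have : 4 ≤ x * x := Nat.mul_le_mul hx hx
      rw [show x ^ (2 + 1) = x * x * x by ring]
      nlinarith
    · have := ih (fun h => by omega)
      have h2 : x ^ e * 2 ≤ x ^ (e + 1) := by rw [pow_succ]; exact Nat.mul_le_mul_left _ hx
      have h4 : x + 1 ≤ x ^ e := by
        have : x * 2 ≤ x * x ^ (e - 1) := Nat.mul_le_mul_left _ (le_trans hx (Nat.le_self_pow (by omega) _))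
        rw [← pow_succ', Nat.sub_add_cancel (by omega : 1 ≤ e)] at this
        omega
      rw [Nat.add_mul, one_mul]
      omega

theorem two_mul_le_two_pow (n : ℕ) : 2 * n ≤ 2 ^ n := by
  induction n with
  | zero => simp
  | succ n ih =>
    have := Nat.one_le_two_pow (n := n)
    rcases Nat.eq_zero_or_pos n with rfl | hn
    · simp
    · rw [pow_succ]; omega

theorem linear_ineq {x e d : ℕ} (hx : 2 ≤ x) (he : 1 ≤ e) (hd : 2 ≤ d)
    (h : d = 2 → e = 2 → 3 ≤ x) :
    e * ((x ^ e - 1) * (x ^ d - 1)) ≤ (x - 1) * (x ^ (d * e) - 1) := by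
  rcases eq_or_lt_of_le he with rfl | he2
  · simp
  rcases eq_or_lt_of_le hd with rfl | hd3
  · have hs : x ^ (2 * e) - 1 = (x ^ e + 1) * (x ^ e - 1) := by
      rw [mul_comm 2 e, pow_mul]; simpa using Nat.sq_sub_sq (x ^ e) 1
    have hs2 : x ^ 2 - 1 = (x + 1) * (x - 1) := by simpa using Nat.sq_sub_sq x 1
    rw [hs, hs2]
    calc e * ((x ^ e - 1) * ((x + 1) * (x - 1))) = e * (x + 1) * ((x ^ e - 1) * (x - 1)) := by ring
      _ ≤ (x ^ e + 1) * ((x ^ e - 1) * (x - 1)) := Nat.mul_le_mul_right _ (succ_mul_le hx he2 (h rfl))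
      _ = _ := by ring
  · have hD : e + (e - 1) ≤ d * (e - 1) := by
      have : 3 * (e - 1) ≤ d * (e - 1) := Nat.mul_le_mul_right _ hd3
      omega
    have h1 : e * x ^ e ≤ x ^ (d * (e - 1)) := by
      refine le_trans ?_ (Nat.pow_le_pow_right (by omega) hD)
      rw [pow_add, mul_comm]
      refine Nat.mul_le_mul_left _ (le_trans ?_ (Nat.pow_le_pow_left hx _))
      have := Nat.lt_two_pow_self (n := e - 1)
      omega
    have h2 : (x ^ d - 1) * x ^ (d * (e - 1)) ≤ x ^ (d * e) - 1 := by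
      rw [Nat.sub_mul, one_mul, ← pow_add, show d + d * (e - 1) = d * e by
        obtain ⟨j, rfl⟩ := Nat.exists_eq_add_of_le he; simp [Nat.mul_add]]
      have := Nat.one_le_pow (d * (e - 1)) x (by omega)
      omega
    calc e * ((x ^ e - 1) * (x ^ d - 1)) ≤ (e * x ^ e) * (x ^ d - 1) := by
          rw [← mul_assoc]; exact Nat.mul_le_mul_right _ (Nat.mul_le_mul_left _ (Nat.sub_le _ _))
      _ ≤ 1 * ((x ^ d - 1) * x ^ (d * (e - 1))) := by
          rw [one_mul, mul_comm (x ^ d - 1)]; exact Nat.mul_le_mul_right _ h1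
      _ ≤ _ := Nat.mul_le_mul (by omega) h2

theorem graph_ineq {x e d : ℕ} (hx : 2 ≤ x) (he : 2 ≤ e) (hd : 3 ≤ d) (h : e = 2 → 4 ≤ x) :
    2 * e * ((x ^ e - 1) * (x ^ d - 1)) ≤ (x - 1) * (x ^ (d * e) - 1) := by
  have hD : e + (2 * e - 3) ≤ d * (e - 1) := by
    have : 3 * (e - 1) ≤ d * (e - 1) := Nat.mul_le_mul_right _ hd
    omega
  have h1 : 2 * e * x ^ e ≤ x ^ (d * (e - 1)) := by
    refine le_trans ?_ (Nat.pow_le_pow_right (by omega) hD)
    rw [pow_add, mul_comm]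
    refine Nat.mul_le_mul_left _ ?_
    rcases eq_or_lt_of_le he with rfl | he3
    · have := h rfl; simpa using this
    · refine le_trans ?_ (Nat.pow_le_pow_left hx _)
      have h5 := two_mul_le_two_pow (e - 1)
      have h6 : 2 ^ (2 * e - 3) = 2 ^ (e - 1) * 2 ^ (e - 2) := by rw [← pow_add]; congr 1; omega
      have h7 : 2 ≤ 2 ^ (e - 2) := Nat.le_self_pow (by omega) _
      have h8 := Nat.mul_le_mul_left (2 ^ (e - 1)) h7
      omega
  have h2 : (x ^ d - 1) * x ^ (d * (e - 1)) ≤ x ^ (d * e) - 1 := by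
    rw [Nat.sub_mul, one_mul, ← pow_add, show d + d * (e - 1) = d * e by
      obtain ⟨j, rfl⟩ := Nat.exists_eq_add_of_le he
      rw [show 2 + j - 1 = 1 + j by omega]; ring]
    have := Nat.one_le_pow (d * (e - 1)) x (by omega)
    omega
  calc 2 * e * ((x ^ e - 1) * (x ^ d - 1)) ≤ (2 * e * x ^ e) * (x ^ d - 1) := by
        rw [← mul_assoc]; exact Nat.mul_le_mul_right _ (Nat.mul_le_mul_left _ (Nat.sub_le _ _))
    _ ≤ 1 * ((x ^ d - 1) * x ^ (d * (e - 1))) := by
        rw [one_mul, mul_comm (x ^ d - 1)]; exact Nat.mul_le_mul_right _ h1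
    _ ≤ _ := Nat.mul_le_mul (by omega) h2

/-! ### The quotient ring -/

variable {F : Type*} [Field F] [Fintype F]

theorem card_adjoinRoot {χ : F[X]} (hχ : χ.Monic) :
    Nat.card (AdjoinRoot χ) = Fintype.card F ^ χ.natDegree := by
  have hfr := (AdjoinRoot.powerBasis' hχ).finrank
  haveI : Module.Finite F (AdjoinRoot χ) := (AdjoinRoot.powerBasis' hχ).finite
  rw [Module.natCard_eq_pow_finrank (K := F), hfr, Nat.card_eq_fintype_card]
  rfl

theorem finite_adjoinRoot {χ : F[X]} (hχ : χ.Monic) : Finite (AdjoinRoot χ) :=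
  Nat.finite_of_card_ne_zero (by rw [card_adjoinRoot hχ]; exact pow_ne_zero _ Fintype.card_ne_zero)

theorem exists_root_unit {χ : F[X]} (h0 : χ.coeff 0 ≠ 0) :
    ∃ u : (AdjoinRoot χ)ˣ, (u : AdjoinRoot χ) = AdjoinRoot.root χ := by
  have h : AdjoinRoot.mk χ (χ.divX * X + C (χ.coeff 0)) = 0 := by rw [divX_mul_X_add, AdjoinRoot.mk_self]
  rw [map_add, map_mul, AdjoinRoot.mk_X, AdjoinRoot.mk_C] at h
  have hu : IsUnit (AdjoinRoot.mk χ χ.divX * AdjoinRoot.root χ) := by
    rw [eq_neg_of_add_eq_zero_left h, IsUnit.neg_iff]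
    exact (Ne.isUnit h0).map _
  exact ⟨(isUnit_of_mul_isUnit_right hu).unit, rfl⟩

theorem card_units {χ : F[X]} (hχ : χ.Monic) (hd : χ.natDegree ≠ 0) :
    Nat.card (AdjoinRoot χ)ˣ ≤ Fintype.card F ^ χ.natDegree - 1 := by
  haveI := finite_adjoinRoot hχ
  haveI : Nontrivial (AdjoinRoot χ) := AdjoinRoot.nontrivial _ (fun h => hd (natDegree_eq_zero_iff_degree_le_zero.2 h.le))
  classical
  haveI := Fintype.ofFinite (AdjoinRoot χ)
  rw [Nat.card_eq_fintype_card, ← card_adjoinRoot hχ, Nat.card_eq_fintype_card]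
  have : Fintype.card (AdjoinRoot χ)ˣ < Fintype.card (AdjoinRoot χ) :=
    Fintype.card_lt_of_injective_of_notMem (fun u : (AdjoinRoot χ)ˣ => (u : AdjoinRoot χ)) Units.val_injective
      (b := 0) (by rintro ⟨u, hu⟩; exact u.ne_zero hu)
  omega

/-- The scalar units. -/
noncomputable def scalars (χ : F[X]) : Subgroup (AdjoinRoot χ)ˣ :=
  (Units.map (AdjoinRoot.of χ : F →* AdjoinRoot χ)).range

theorem card_scalars {χ : F[X]} (hd : χ.natDegree ≠ 0) : Nat.card (scalars χ) = Fintype.card F - 1 := by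
  haveI : Nontrivial (AdjoinRoot χ) := AdjoinRoot.nontrivial _ (fun h => hd (natDegree_eq_zero_iff_degree_le_zero.2 h.le))
  have hinj : Function.Injective (Units.map (AdjoinRoot.of χ : F →* AdjoinRoot χ)) :=
    Units.map_injective (RingHom.injective (AdjoinRoot.of χ))
  rw [scalars, ← Nat.card_congr (MonoidHom.ofInjective hinj).toEquiv]
  classical
  rw [Nat.card_eq_fintype_card, Fintype.card_units]

theorem dvd_of_scalar {χ : F[X]} {k : ℕ} (h : (AdjoinRoot.root χ) ^ k ∈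
    Set.range (AdjoinRoot.of χ)) : ∃ a, χ ∣ X ^ k - C a := by
  obtain ⟨a, ha⟩ := h
  refine ⟨a, AdjoinRoot.mk_eq_zero.1 ?_⟩
  rw [map_sub, map_pow, AdjoinRoot.mk_X, AdjoinRoot.mk_C, ha, sub_self]

/-- If the root and the scalars lie in a subgroup `W`, then some power of the root is scalar with
exponent bounded by the index. -/
theorem exists_k {χ : F[X]} (hχ : χ.Monic) (hd : χ.natDegree ≠ 0) (u : (AdjoinRoot χ)ˣ)
    (hu : (u : AdjoinRoot χ) = AdjoinRoot.root χ) (W : Subgroup (AdjoinRoot χ)ˣ)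
    (hS : scalars χ ≤ W) (huW : u ∈ W) :
    ∃ k a, 0 < k ∧ χ ∣ X ^ k - C a ∧ k * (Fintype.card F - 1) ≤ Nat.card W := by
  haveI := finite_adjoinRoot hχ
  refine ⟨((scalars χ).subgroupOf W).index, ?_⟩
  have hk : 0 < ((scalars χ).subgroupOf W).index := Nat.pos_of_ne_zero Subgroup.index_ne_zero_of_finite
  have hmem := Subgroup.pow_index_mem ((scalars χ).subgroupOf W) ⟨u, huW⟩
  rw [Subgroup.mem_subgroupOf] at hmem
  obtain ⟨c, hc⟩ := hmem
  obtain ⟨a, ha⟩ := dvd_of_scalar (χ := χ) (k := ((scalars χ).subgroupOf W).index) ⟨(c : F), by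
    have := congrArg Units.val hc
    simpa [hu] using this⟩
  refine ⟨a, hk, ha, ?_⟩
  have := Subgroup.card_mul_index ((scalars χ).subgroupOf W)
  rw [Nat.card_congr (Subgroup.subgroupOfEquivOfLe hS).toEquiv, card_scalars hd] at this
  rw [mul_comm, this]

theorem core_linear {χ : F[X]} (hχ : χ.Monic) (hd : χ.natDegree ≠ 0) (h0 : χ.coeff 0 ≠ 0) :
    ∃ k a, 0 < k ∧ χ ∣ X ^ k - C a ∧
      k * (Fintype.card F - 1) ≤ Fintype.card F ^ χ.natDegree - 1 := by
  obtain ⟨u, hu⟩ := exists_root_unit h0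
  obtain ⟨k, a, h1, h2, h3⟩ := exists_k hχ hd u hu ⊤ le_top trivial
  refine ⟨k, a, h1, h2, h3.trans ?_⟩
  rw [Subgroup.card_top]
  exact card_units hχ hd

/-! ### Semilinear reciprocity -/

/-- `reverse (σ χ) = c χ`. -/
def Sym (σ : F →+* F) (χ : F[X]) : Prop := ∃ c : F, c ≠ 0 ∧ (χ.map σ).reverse = C c * χ

theorem exists_J {σ : F →+* F} {χ : F[X]} (hs : Sym σ χ) (u : (AdjoinRoot χ)ˣ)
    (hu : (u : AdjoinRoot χ) = AdjoinRoot.root χ) :
    ∃ J : AdjoinRoot χ →+* AdjoinRoot χ, J (AdjoinRoot.root χ) = (↑u⁻¹ : AdjoinRoot χ) ∧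
      ∀ c, J (AdjoinRoot.of χ c) = AdjoinRoot.of χ (σ c) := by
  obtain ⟨c, hc, hrev⟩ := hs
  have hev : χ.eval₂ ((AdjoinRoot.of χ).comp σ) (↑u⁻¹ : AdjoinRoot χ) = 0 := by
    rw [← eval₂_map]
    letI : Invertible (u : AdjoinRoot χ) := u.invertible
    have h := eval₂_reverse_mul_pow (AdjoinRoot.of χ) (u : AdjoinRoot χ) (χ.map σ)
    rw [hrev, invOf_units] at h
    simp only [eval₂_mul, eval₂_C] at h
    have h2 : (C c * χ).eval₂ (AdjoinRoot.of χ) (↑u⁻¹ : AdjoinRoot χ) * (u : AdjoinRoot χ) ^ (χ.map σ).natDegree =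
        (χ.map σ).reverse.eval₂ (AdjoinRoot.of χ) (↑u⁻¹ : AdjoinRoot χ) * (u : AdjoinRoot χ) ^ (χ.map σ).natDegree := by
      rw [hrev]
    have hz : (χ.map σ).reverse.eval₂ (AdjoinRoot.of χ) (u : AdjoinRoot χ) = 0 := by
      rw [hrev, eval₂_mul, hu, AdjoinRoot.eval₂_root, mul_zero]
    letI : Invertible (↑u⁻¹ : AdjoinRoot χ) := (u⁻¹).invertible
    have h3 := eval₂_reverse_mul_pow (AdjoinRoot.of χ) (↑u⁻¹ : AdjoinRoot χ) (χ.map σ)
    rw [invOf_units, inv_inv, hz, zero_mul] at h3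
    exact h3.symm
  exact ⟨AdjoinRoot.lift ((AdjoinRoot.of χ).comp σ) _ hev, AdjoinRoot.lift_root _, fun c => AdjoinRoot.lift_of _⟩

theorem rel_impossible {χ : F[X]} (hd : 3 ≤ χ.natDegree) (u : (AdjoinRoot χ)ˣ)
    (hu : (u : AdjoinRoot χ) = AdjoinRoot.root χ) (l : F)
    (h : ((u : AdjoinRoot χ) - 1) * ((↑u⁻¹ : AdjoinRoot χ) - 1) = AdjoinRoot.of χ l) : False := by
  have h2 : (u : AdjoinRoot χ) ^ 2 + AdjoinRoot.of χ (l - 2) * u + 1 = 0 := by
    have e : (u : AdjoinRoot χ) * ↑u⁻¹ = 1 := Units.mul_inv u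
    rw [map_sub, map_ofNat]
    linear_combination -(u : AdjoinRoot χ) * h + ((u : AdjoinRoot χ) - 1) * e
  have h3 : AdjoinRoot.mk χ (X ^ 2 + C (l - 2) * X + 1) = 0 := by
    rw [map_add, map_add, map_pow, map_mul, AdjoinRoot.mk_X, AdjoinRoot.mk_C, map_one, ← hu]
    exact h2
  have hdeg : (X ^ 2 + C (l - 2) * X + 1 : F[X]).natDegree = 2 := by compute_degree!
  have := natDegree_le_of_dvd (AdjoinRoot.mk_eq_zero.1 h3) (fun h => by rw [h] at hdeg; simp at hdeg)
  omega

theorem isUnit_root_sub_one {χ : F[X]} (h1 : χ.eval 1 ≠ 0) : IsUnit (AdjoinRoot.root χ - 1) := by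
  obtain ⟨s, hs⟩ := X_sub_C_dvd_sub_C_eval (a := (1 : F)) (p := χ)
  have h := congrArg (AdjoinRoot.mk χ) hs
  rw [map_sub, AdjoinRoot.mk_self, AdjoinRoot.mk_C, map_mul, map_sub, AdjoinRoot.mk_X, AdjoinRoot.mk_C,
    map_one, zero_sub] at h
  exact isUnit_of_mul_isUnit_left (h ▸ ((Ne.isUnit h1).map (AdjoinRoot.of χ)).neg)

/-- The subgroup of units `x` with `x J(x) ∈ T`. -/
def normSub {A : Type*} [CommRing A] (J : A →+* A) (T : Subgroup Aˣ) : Subgroup Aˣ :=
  T.comap (MonoidHom.id Aˣ * Units.map (J : A →* A))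

theorem two_card_le {G : Type*} [Group G] [Finite G] (W : Subgroup G) {x : G} (hx : x ∉ W) :
    2 * Nat.card W ≤ Nat.card G := by
  have h := Subgroup.card_mul_index W
  have h1 : W.index ≠ 1 := fun h' => hx (Subgroup.index_eq_one.1 h' ▸ trivial)
  have h2 : W.index ≠ 0 := Subgroup.index_ne_zero_of_finite
  rw [← h, mul_comm 2]
  exact Nat.mul_le_mul_left _ (by omega)

theorem inverted_order {χ : F[X]} (hχ : χ.Monic) (hd : χ.natDegree ≠ 0) (u : (AdjoinRoot χ)ˣ)
    (J : AdjoinRoot χ →+* AdjoinRoot χ) (hJ : J u = (↑u⁻¹ : AdjoinRoot χ)) {x : (AdjoinRoot χ)ˣ}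
    (hx : (x : AdjoinRoot χ) * J x ≠ 1) :
    2 * orderOf u ≤ Fintype.card F ^ χ.natDegree - 1 := by
  haveI := finite_adjoinRoot hχ
  let W := normSub J (⊥ : Subgroup (AdjoinRoot χ)ˣ)
  have hu' : u ∈ W := by
    rw [show W = normSub J ⊥ from rfl, normSub, Subgroup.mem_comap, Subgroup.mem_bot]
    apply Units.ext
    show (u : AdjoinRoot χ) * J u = 1
    rw [hJ, Units.mul_inv]
  have hxW : x ∉ W := fun h => hx (congrArg Units.val (Subgroup.mem_bot.1 (Subgroup.mem_comap.1 h)))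
  have hle : orderOf u ≤ Nat.card W := by
    rw [← Subgroup.orderOf_mk u hu']; exact orderOf_le_card
  calc 2 * orderOf u ≤ 2 * Nat.card W := by omega
    _ ≤ Nat.card (AdjoinRoot χ)ˣ := two_card_le W hxW
    _ ≤ _ := card_units hχ hd

theorem ppow_bounds {p m : ℕ} (hp : 2 ≤ p) (hm : 1 ≤ m) :
    m ≤ p ^ Nat.clog p m ∧ p ^ Nat.clog p m ≤ p ^ (m - 1) ∧ (2 ≤ m → p ^ Nat.clog p m ≤ p * (m - 1)) := by
  refine ⟨Nat.le_pow_clog hp m, Nat.pow_le_pow_right (by omega) (Nat.clog_le_of_le_pow ?_), fun h2 => ?_⟩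
  · have h1 : (m - 1) < p ^ (m - 1) := Nat.lt_pow_self hp
    omega
  · have h1 := Nat.pow_pred_clog_lt_self hp h2
    have hpos : 0 < Nat.clog p m := Nat.clog_pos hp h2
    have h1' : p ^ (Nat.clog p m - 1) < m := h1
    calc p ^ Nat.clog p m = p * p ^ (Nat.clog p m - 1) := by rw [← pow_succ', Nat.sub_add_cancel hpos]
      _ ≤ _ := Nat.mul_le_mul_left _ (by omega)

theorem small_field {σ : F →+* F} (h : ∀ c : F, c ≠ 0 → c * σ c = 1) : Fintype.card F ≤ 4 := by
  classical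
  have key : ∀ c : F, c ≠ 0 → c + 1 ≠ 0 → (X ^ 2 + X + 1 : F[X]).IsRoot c := by
    intro c hc hc1
    have h1 := h c hc
    have h2 := h (c + 1) hc1
    rw [map_add, map_one] at h2
    show eval c (X ^ 2 + X + 1 : F[X]) = 0
    simp only [eval_add, eval_pow, eval_X, eval_one]
    linear_combination c * h2 - (c + 1) * h1
  have hp : (X ^ 2 + X + 1 : F[X]).natDegree = 2 := by compute_degree!
  have hne : (X ^ 2 + X + 1 : F[X]) ≠ 0 := fun h => by rw [h] at hp; simp at hp
  have hsub : (Finset.univ : Finset F) ⊆ {0, -1} ∪ (X ^ 2 + X + 1 : F[X]).roots.toFinset := by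
    intro c _
    by_cases hc : c = 0
    · simp [hc]
    by_cases hc1 : c + 1 = 0
    · simp [eq_neg_of_add_eq_zero_left hc1]
    · exact Finset.mem_union_right _ (Multiset.mem_toFinset.2 ((mem_roots hne).2 (key c hc hc1)))
  have := (Finset.card_le_card hsub).trans (Finset.card_union_le _ _)
  have h2 : ({0, -1} : Finset F).card ≤ 2 := Finset.card_le_two
  have h3 := (Multiset.toFinset_card_le (X ^ 2 + X + 1 : F[X]).roots).trans (card_roots' _)
  rw [hp] at h3
  rw [Finset.card_univ] at this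
  omega

theorem root_part {σ : F →+* F} {χ : F[X]} (hχ : χ.Monic) (h0 : χ.coeff 0 ≠ 0) (hs : Sym σ χ) :
    ∃ r : F[X], χ = (X - C 1) ^ χ.rootMultiplicity 1 * r ∧ r.Monic ∧ r.coeff 0 ≠ 0 ∧ r.eval 1 ≠ 0 ∧ Sym σ r := by
  obtain ⟨r, hr, hnd⟩ := exists_eq_pow_rootMultiplicity_mul_and_not_dvd χ hχ.ne_zero (1 : F)
  set m := χ.rootMultiplicity 1
  have hrm : r.Monic := (monic_X_sub_C (1 : F)).pow m |>.of_mul_monic_left (hr ▸ hχ)
  refine ⟨r, hr, hrm, fun h => h0 (by rw [hr, mul_coeff_zero, h, mul_zero]),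
    fun h => hnd (dvd_iff_isRoot.2 h), ?_⟩
  obtain ⟨c, hc, hrev⟩ := hs
  rw [hr, Polynomial.map_mul, Polynomial.map_pow, Polynomial.map_sub, map_X, map_C, map_one σ,
    reverse_mul_of_domain] at hrev
  have e1 : (X - C 1 : F[X]).reverse = -(X - C 1) := by
    rw [reverse, natDegree_X_sub_C, reflect_sub, reflect_C]
    have : reflect 1 (X : F[X]) = 1 := by
      have := reflect_C_mul_X_pow (R := F) 1 1 (c := (1 : F))
      simpa [revAt_le le_rfl] using this
    rw [this, map_one]; ring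
  have e2 : ((X - C 1 : F[X]) ^ m).reverse = (-1) ^ m * (X - C 1) ^ m := by
    rw [← mul_pow, neg_one_mul, ← e1]
    clear hr hrev hnd
    induction m with
    | zero => rw [pow_zero, pow_zero, ← C_1, reverse_C]
    | succ m ih => rw [pow_succ, reverse_mul_of_domain, ih, ← pow_succ]
  rw [e2] at hrev
  refine ⟨(-1) ^ m * c, mul_ne_zero (pow_ne_zero _ (by norm_num)) hc, ?_⟩
  apply mul_left_cancel₀ (pow_ne_zero m (X_sub_C_ne_zero (1 : F)))
  have hsq : ((-1 : F[X]) ^ m) * (-1) ^ m = 1 := by rw [← mul_pow]; norm_num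
  simp only [C_mul, map_pow, map_neg, map_one] at hrev ⊢
  linear_combination ((-1 : F[X]) ^ m) * hrev - ((X - 1 : F[X]) ^ m * (r.map σ).reverse) * hsq

theorem small_arith {q m d o P : ℕ} (hq : q = 2 ∨ q = 3 ∨ q = 4) (hm : 1 ≤ m) (hd : d = 1 ∨ d = 2)
    (hd3 : 3 ≤ m + d) (ho1 : d = 1 → o ≤ q - 1)
    (ho2 : d = 2 → (q = 2 → o ≤ 3) ∧ (q = 3 → o ≤ 6) ∧ (q = 4 → o ≤ 7))
    (hP : P ≤ q ^ (m - 1)) (hP4 : q = 4 → P ≤ 2 ^ (m - 1)) :
    2 * (P * o) * (q - 1) ≤ q ^ (m + d) - 1 := by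
  obtain ⟨j, rfl⟩ := Nat.exists_eq_add_of_le hm
  rw [show 1 + j - 1 = j by omega] at hP hP4
  have hpos : 1 ≤ q ^ j := Nat.one_le_pow _ _ (by omega)
  rcases hd with rfl | rfl
  · have ho := ho1 rfl
    rw [show 1 + j + 1 = j + 2 by omega, pow_add]
    rcases hq with rfl | rfl | rfl
    · have : P * o ≤ 2 ^ j * 1 := Nat.mul_le_mul hP ho
      norm_num at *; omega
    · have : P * o ≤ 3 ^ j * 2 := Nat.mul_le_mul hP ho
      norm_num at *; omega
    · have : P * o ≤ 2 ^ j * 3 := Nat.mul_le_mul (hP4 rfl) ho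
      have h4 : 2 ^ j * 2 ≤ 4 ^ j := by
        have hj : 1 ≤ j := by omega
        rw [show (4 : ℕ) = 2 * 2 from rfl, mul_pow]
        exact Nat.mul_le_mul_left _ (Nat.le_self_pow (by omega) _)
      norm_num at *; omega
  · obtain ⟨a2, a3, a4⟩ := ho2 rfl
    rw [show 1 + j + 2 = j + 3 by omega, pow_add]
    rcases hq with rfl | rfl | rfl
    · have : P * o ≤ 2 ^ j * 3 := Nat.mul_le_mul hP (a2 rfl)
      norm_num at *; omega
    · have : P * o ≤ 3 ^ j * 6 := Nat.mul_le_mul hP (a3 rfl)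
      norm_num at *; omega
    · have : P * o ≤ 2 ^ j * 7 := Nat.mul_le_mul (hP4 rfl) (a4 rfl)
      have h4 : 2 ^ j ≤ 4 ^ j := Nat.pow_le_pow_left (by norm_num) _
      norm_num at *; omega

theorem unipotent_arith {q p m : ℕ} (hp : 2 ≤ p) (hpq : p ≤ q) (hm : 3 ≤ m) (h32 : q = 2 → 4 ≤ m) :
    2 * (p * (m - 1)) * (q - 1) ≤ q ^ m - 1 := by
  have hle : 2 * (p * (m - 1)) ≤ 2 * q * (m - 1) := by
    have := Nat.mul_le_mul_right (m - 1) hpq; rw [mul_assoc]; omega
  refine (Nat.mul_le_mul_right _ hle).trans ?_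
  -- (q-1)(q^{m-1}+q^{m-2}+1) ≤ q^m - 1
  have hkey : 2 * q * (m - 1) ≤ q ^ (m - 1) + q ^ (m - 2) + 1 := by
    have hq2 : 2 ≤ q := hp.trans hpq
    clear hle
    induction m, hm using Nat.le_induction with
    | base =>
      by_cases h2 : q = 2
      · have := h32 h2; omega
      · norm_num
        have h33 : 3 ≤ q := by omega
        nlinarith
    | succ m hm ih =>
      rcases eq_or_lt_of_le hm with rfl | hm4
      · norm_num
        by_cases h2 : q = 2
        · subst h2; norm_num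
        · have h33 : 3 ≤ q := by omega
          nlinarith
      · have hih := ih (fun _ => by omega)
        have hq1 : q ^ (m - 1) + q ^ (m - 2) ≤ q ^ (m + 1 - 1) + q ^ (m + 1 - 2) := by
          have := Nat.pow_le_pow_right (n := q) (by omega) (show m - 1 ≤ m + 1 - 1 by omega)
          have := Nat.pow_le_pow_right (n := q) (by omega) (show m - 2 ≤ m + 1 - 2 by omega)
          omega
        have hgrow : 2 * q ≤ q ^ (m - 1) := by
          calc 2 * q ≤ q * q := Nat.mul_le_mul_right _ hq2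
            _ = q ^ 2 := (pow_two q).symm
            _ ≤ _ := Nat.pow_le_pow_right (by omega) (by omega)
        have e1 : q ^ (m + 1 - 1) = q * q ^ (m - 1) := by rw [← pow_succ']; congr 1; omega
        have e2 : 2 * q ^ (m - 1) ≤ q * q ^ (m - 1) := Nat.mul_le_mul_right _ hq2
        have e3 : q ^ (m + 1 - 2) = q ^ (m - 1) := by congr 1
        have e4 : q ^ (m - 2) ≤ q ^ (m - 1) := Nat.pow_le_pow_right (by omega) (by omega)
        have e5 : 2 * q * (m + 1 - 1) = 2 * q * (m - 1) + 2 * q := by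
          rw [show m + 1 - 1 = m - 1 + 1 by omega, Nat.mul_add, mul_one]
        omega
  have h1 : q ^ m - 1 = (q - 1) * ∑ i ∈ Finset.range m, q ^ i := by
    have := (Nat.geomSum_eq (hp.trans hpq) m)
    rw [this, Nat.mul_div_cancel' ]
    simpa using Nat.sub_dvd_pow_sub_pow q 1 m
  rw [h1, mul_comm (q - 1)]
  refine Nat.mul_le_mul_right _ (hkey.trans ?_)
  obtain ⟨j, rfl⟩ := Nat.exists_eq_add_of_le hm
  rw [show 3 + j - 1 = j + 2 by omega, show 3 + j - 2 = j + 1 by omega, show 3 + j = (j + 2) + 1 by omega,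
    Finset.sum_range_succ, Finset.sum_range_succ]
  have : 1 ≤ ∑ i ∈ Finset.range (j + 1), q ^ i := by
    rw [Finset.sum_range_succ']; simp
  omega

theorem core_graph {σ : F →+* F} {χ : F[X]} (hχ : χ.Monic) (hd : 3 ≤ χ.natDegree) (h0 : χ.coeff 0 ≠ 0)
    (hs : Sym σ χ) (h32 : ¬ (χ.natDegree = 3 ∧ Fintype.card F = 2)) :
    ∃ k a, 0 < k ∧ χ ∣ X ^ k - C a ∧
      2 * k * (Fintype.card F - 1) ≤ Fintype.card F ^ χ.natDegree - 1 := by
  classical
  set q := Fintype.card F with hq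
  haveI := finite_adjoinRoot hχ
  obtain ⟨u, hu⟩ := exists_root_unit h0
  obtain ⟨J, hJr, hJc⟩ := exists_J hs u hu
  by_cases h1 : χ.eval 1 = 0
  · -- split off the root one
    obtain ⟨r, hr, hrm, hr0, hr1, hrs⟩ := root_part hχ h0 hs
    set m := χ.rootMultiplicity 1 with hm
    have hm1 : 1 ≤ m := (rootMultiplicity_pos hχ.ne_zero).2 h1
    have hdeg : χ.natDegree = m + r.natDegree := by
      rw [hr, (((monic_X_sub_C (1 : F)).pow m)).natDegree_mul hrm, natDegree_pow, natDegree_X_sub_C, mul_one]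
    obtain ⟨p, hp⟩ := CharP.exists F
    haveI := hp
    obtain ⟨n, hpp, hqp⟩ := FiniteField.card F p
    haveI : Fact p.Prime := ⟨hpp⟩
    set P := p ^ Nat.clog p m with hP
    obtain ⟨hPm, hPq, hPlin⟩ := ppow_bounds hpp.two_le hm1
    have hpq : p ≤ q := by rw [hq, hqp]; exact Nat.le_self_pow n.ne_zero p
    have hPq' : P ≤ q ^ (m - 1) := hPq.trans (Nat.pow_le_pow_left hpq _)
    have hXP : (X - C (1 : F)) ^ m ∣ X ^ P - 1 := by
      rw [show (X ^ P - 1 : F[X]) = (X - C 1) ^ P by rw [hP, sub_pow_char_pow, map_one, one_pow]]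
      exact pow_dvd_pow _ hPm
    have hPpos : 0 < P := Nat.pow_pos hpp.pos
    have hq2 : 2 ≤ q := Fintype.one_lt_card
    by_cases hd0 : r.natDegree = 0
    · have hr1' : r = 1 := eq_one_of_monic_natDegree_zero hrm hd0
      refine ⟨P, 1, hPpos, by rw [map_one, hr, hr1', mul_one]; exact hXP, ?_⟩
      rw [hdeg, hd0, add_zero]
      rw [hdeg, hd0, add_zero] at hd
      refine le_trans ?_ (unipotent_arith hpp.two_le hpq hd (fun h2 => by
        by_contra h; exact h32 ⟨by omega, h2⟩))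
      exact Nat.mul_le_mul_right _ (Nat.mul_le_mul_left _ (hPlin (by omega)))
    haveI := finite_adjoinRoot hrm
    obtain ⟨w, hw⟩ := exists_root_unit hr0
    obtain ⟨J', hJ'r, hJ'c⟩ := exists_J hrs w hw
    have hJw : J' w = (↑w⁻¹ : AdjoinRoot r) := by rw [hw]; exact hJ'r
    set o := orderOf w with ho
    have hopos : 0 < o := orderOf_pos w
    have hrdvd : r ∣ X ^ o - 1 := by
      apply AdjoinRoot.mk_eq_zero.1
      rw [map_sub, map_pow, AdjoinRoot.mk_X, map_one, ← hw, ← Units.val_pow_eq_pow_val, pow_orderOf_eq_one]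
      simp
    have hdvd : χ ∣ X ^ (P * o) - C 1 := by
      rw [map_one, hr]
      refine IsCoprime.mul_dvd ?_ (hXP.trans (by simpa [pow_mul] using sub_dvd_pow_sub_pow (X ^ P : F[X]) 1 o))
        (hrdvd.trans (by simpa [mul_comm P, pow_mul] using sub_dvd_pow_sub_pow (X ^ o : F[X]) 1 P))
      exact ((irreducible_X_sub_C (1 : F)).coprime_iff_not_dvd.2 fun h => hr1 (dvd_iff_isRoot.1 h)).pow_left
    refine ⟨P * o, 1, Nat.mul_pos hPpos hopos, hdvd, ?_⟩
    rw [hdeg]
    have hgen : 2 * o ≤ q ^ r.natDegree - 1 → 2 * (P * o) * (q - 1) ≤ q ^ (m + r.natDegree) - 1 := by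
      intro h
      calc 2 * (P * o) * (q - 1) = P * (q - 1) * (2 * o) := by ring
        _ ≤ q ^ (m - 1) * q * (q ^ r.natDegree - 1) :=
          Nat.mul_le_mul (Nat.mul_le_mul hPq' (Nat.sub_le _ _)) h
        _ ≤ _ := by
          rw [← pow_succ, Nat.sub_add_cancel hm1, Nat.mul_sub, mul_one, ← pow_add]
          have := Nat.one_le_pow m q (by omega)
          omega
    by_cases hc : ∃ c : F, c ≠ 0 ∧ c * σ c ≠ 1
    · obtain ⟨c, hc0, hc1⟩ := hc
      refine hgen (inverted_order hrm hd0 w J' hJw (x := Units.map (AdjoinRoot.of r : F →* AdjoinRoot r) (Units.mk0 c hc0)) ?_)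
      show AdjoinRoot.of r c * J' (AdjoinRoot.of r c) ≠ 1
      rw [hJ'c, ← map_mul, ← map_one (AdjoinRoot.of r)]
      haveI : Nontrivial (AdjoinRoot r) := AdjoinRoot.nontrivial _ (fun h => hd0 (natDegree_eq_zero_iff_degree_le_zero.2 h.le))
      exact fun h => hc1 ((AdjoinRoot.of r).injective h)
    push Not at hc
    have hq4 : q ≤ 4 := small_field hc
    have hx : IsUnit (AdjoinRoot.root r - 1) := isUnit_root_sub_one hr1
    have hnorm : ((hx.unit : (AdjoinRoot r)ˣ) : AdjoinRoot r) * J' (hx.unit : (AdjoinRoot r)ˣ) = 1 ∨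
        2 * o ≤ q ^ r.natDegree - 1 := by
      by_contra h
      push Not at h
      have h' := inverted_order hrm hd0 w J' hJw h.1
      rw [← ho, ← hq] at h'
      omega
    rcases hnorm with hn | hn
    swap
    · exact hgen hn
    rw [IsUnit.unit_spec, map_sub, hJ'r, map_one, ← hw] at hn
    have hrd : r.natDegree ≤ 2 := by
      by_contra hlt
      exact rel_impossible (by omega) w hw 1 (by rw [map_one]; exact hn)
    have hp4 : q = 4 → p = 2 := fun h4 => by
      have h : p ∣ 4 := by rw [← h4, hq, hqp]; exact dvd_pow_self p n.ne_zero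
      exact (Nat.prime_dvd_prime_iff_eq hpp Nat.prime_two).1 (hpp.dvd_of_dvd_pow (show p ∣ 2 ^ 2 by simpa using h))
    refine small_arith (by omega) hm1 (by omega) (by omega) (fun hd1 => ?_) (fun hd2 => ?_) hPq' (fun h4 => ?_)
    · have := (orderOf_le_card (x := w)).trans (card_units hrm hd0)
      rw [hd1, pow_one] at this; exact this
    · have hle := (orderOf_le_card (x := w)).trans (card_units hrm hd0)
      rw [hd2] at hle
      have e : (w : AdjoinRoot r) * ↑w⁻¹ = 1 := Units.mul_inv w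
      have hrel : (w : AdjoinRoot r) ^ 2 - w + 1 = 0 := by
        linear_combination -(w : AdjoinRoot r) * hn + ((w : AdjoinRoot r) - 1) * e
      have h6 : w ^ 6 = 1 := Units.ext (by
        rw [Units.val_pow_eq_pow_val, Units.val_one]
        linear_combination ((w : AdjoinRoot r) ^ 4 + (w : AdjoinRoot r) ^ 3 - (w : AdjoinRoot r) - 1) * hrel)
      have := Nat.le_of_dvd (by norm_num) (orderOf_dvd_of_pow_eq_one h6)
      refine ⟨fun h => ?_, fun _ => this, fun _ => by omega⟩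
      rw [← hq, h] at hle; exact hle
    · have h2 := hPq
      rw [hp4 h4] at h2
      rw [hP, hp4 h4]
      exact h2
  · -- the unit `root - 1` is not inverted
    let W := normSub J (scalars χ)
    have hS : scalars χ ≤ W := by
      rintro _ ⟨c, rfl⟩
      refine ⟨c * Units.map (σ : F →* F) c, Units.ext ?_⟩
      show AdjoinRoot.of χ ((c : F) * σ c) = AdjoinRoot.of χ (c : F) * J (AdjoinRoot.of χ (c : F))
      rw [map_mul, hJc]
    have huW : u ∈ W := by
      refine ⟨1, Units.ext ?_⟩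
      show AdjoinRoot.of χ 1 = (u : AdjoinRoot χ) * J u
      rw [map_one, hu, hJr, ← hu, Units.mul_inv]
    obtain ⟨k, a, hk, hka, hkW⟩ := exists_k hχ (by omega) u hu W hS huW
    refine ⟨k, a, hk, hka, ?_⟩
    rw [← hq] at hkW
    have hx := isUnit_root_sub_one h1
    have hxW : hx.unit ∉ W := by
      rintro ⟨l, hl⟩
      have h2 : AdjoinRoot.of χ (l : F) = (AdjoinRoot.root χ - 1) * J (AdjoinRoot.root χ - 1) := congrArg Units.val hl
      rw [map_sub, hJr, map_one, ← hu] at h2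
      exact rel_impossible hd u hu _ h2.symm
    calc 2 * k * (q - 1) = 2 * (k * (q - 1)) := mul_assoc _ _ _
      _ ≤ 2 * Nat.card W := by omega
      _ ≤ Nat.card (AdjoinRoot χ)ˣ := two_card_le W hxW
      _ ≤ _ := card_units hχ (by omega)

end Cfsg.Agent.CyclicQuotBound67
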