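import Cfsg.Agent.Lib.BlockAbelianCount81
import Cfsg.Agent.Lib.BrauerPairs81Cyclic
import Cfsg.Agent.Lib.PGroupsCyclic

/-!
# A block with cyclic defect group: the centraliser of the subgroup of order `p`

For a nontrivial cyclic defect group `P` with subgroup `Z` of order `p`, the block of `C(Z)` below
a maximal pair is nilpotent with `|P|` characters, its stabiliser `N` in `N(Z)` is generated by the
inertial group and `C(Z)`, and `N / C(Z)` is cyclic of order the inertial index.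
-/

set_option autoImplicit false
set_option linter.unusedSectionVars false

namespace Cfsg.Agent.CyclicSetup42

open Cfsg BlockTheoryLocalRing BlockTheoryCentre BlockTheoryIdem
  BrauerPairs81Base BrauerPairs81Pairs BrauerPairs81Conj BrauerPairs81Local BrauerPairs81Fusion
  BrauerPairs81Induced BrauerPairs81Cyclic BlockAbelian81 BlockCyclicRank81

attribute [local instance] Classical.propDecidable

variable {p : ℕ} {M : Ideal AlgInt} {G : Type*} [Group G] [Fintype G]

/-- The local data of a block with nontrivial cyclic defect group and inertial index `e`. -/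
structure Loc (p : ℕ) (M : Ideal AlgInt) {G : Type*} [Group G] [Fintype G]
    (B : Set (IrrCharacter G)) (P : Subgroup G) (e : ℕ) where
  /-- the block of the centraliser of the defect group -/
  c : Set (IrrCharacter (Cen P))
  /-- a generator of the subgroup of order `p` -/
  z : G
  /-- the block of the centraliser of the subgroup of order `p` -/
  b : Set (IrrCharacter (Cen (Subgroup.zpowers z)))
  cyc : IsCyclic P
  hmax : IsMaximalBrauerPair p M B P c
  hz : z ∈ P
  hzo : orderOf z = p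
  hle : SubpairLE p M (Subgroup.zpowers z) b P c
  hfree : ∀ g ∈ stab (⟨P, c⟩ : BrauerPairIdx G), ∀ x ∈ P, x ≠ 1 → g * x * g⁻¹ = x → g ∈ Cen P
  he : (Cen P).relIndex (stab (⟨P, c⟩ : BrauerPairIdx G)) = e

theorem comm_of_cyclic {P : Subgroup G} (h : IsCyclic P) : ∀ x ∈ P, ∀ y ∈ P, x * y = y * x :=
  fun a ha b hb => by
    haveI := h.isMulCommutative
    exact congrArg Subtype.val (mul_comm' (⟨a, ha⟩ : P) ⟨b, hb⟩)

/-- The condition on `T` in the statements is the stabiliser of the pair. -/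
theorem mem_iff_stab {P : Subgroup G} {c : Set (IrrCharacter (Cen P))} (g : G) :
    (g ∈ Subgroup.normalizer (P : Set G) ∧ ∀ θ ∈ c, ∀ θ' : IrrCharacter (Cen P),
      (∀ h h' : Cen P, (h' : G) = g * h * g⁻¹ → (θ' : Cen P → ℂ) h' = (θ : Cen P → ℂ) h) → θ' ∈ c) ↔
      g ∈ stab (⟨P, c⟩ : BrauerPairIdx G) := by
  rw [mem_stab, cP_eq_self_iff_stabilizes]
  refine and_congr_right fun hg => ?_
  have hgC : g ∈ Subgroup.normalizer (Cen P : Set G) := normalizer_le_normalizer_cen hg
  have hH := conj_mem_iff_of_normalizer hgC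
  constructor
  · intro h
    refine ⟨hgC, fun χ hχ => ?_⟩
    have hconj : IsConjCharOf (Cen P) g (χ : Cen P → ℂ)
        (pushChar (conjEquiv g (Cen P) (Cen P) hH) χ : Cen P → ℂ) := by
      intro k k' hk
      rw [show k' = conjEquiv g (Cen P) (Cen P) hH k from Subtype.ext hk, pushChar_apply]
    exact ⟨_, h χ hχ _ hconj, hconj⟩
  · rintro ⟨-, h⟩ θ hθ θ' hθ'
    obtain ⟨χ', hχ', hc⟩ := h θ hθ
    have e : θ' = χ' := Subtype.ext (funext fun k' => by
      have hk : (k' : G) = g * ((conjEquiv g (Cen P) (Cen P) hH).symm k' : G) * g⁻¹ :=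
        (congrArg Subtype.val ((conjEquiv g (Cen P) (Cen P) hH).apply_symm_apply k')).symm
      exact (hθ' _ _ hk).trans (hc _ _ hk).symm)
    exact e ▸ hχ'

variable [Fact p.Prime] {B : Set (IrrCharacter G)} {P : Subgroup G} {e : ℕ}

theorem exists_loc (hM : IsPModular p M) (hcyc : IsCyclic P) (hP1 : P ≠ ⊥)
    (hPD : IsDefectGroup p M B P) {c : Set (IrrCharacter (Cen P))}
    (hc : IsInducedBlock M (Cen P) c B) (he : (Cen P).relIndex (stab (⟨P, c⟩ : BrauerPairIdx G)) = e) :
    ∃ L : Loc p M B P e, L.c = c := by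
  have hmax := isMaximal_of_induced hM hPD hc
  obtain ⟨z, hz, -, hzo⟩ := exists_order_prime hmax.1.1.1 hP1
  obtain ⟨b, hb⟩ := exists_subpair hM hmax.1.1 (Subgroup.zpowers_le.2 hz)
  exact ⟨⟨c, z, b, hcyc, hmax, hz, hzo, hb,
    fun g hg x hx hx1 h => mem_cen_of_stab hM hmax hcyc hg hx hx1 h, he⟩, rfl⟩

namespace Loc

variable (L : Loc p M B P e)

include L

/-- The subgroup of order `p`. -/
abbrev Z : Subgroup G := Subgroup.zpowers L.z

/-- The centraliser of the subgroup of order `p`. -/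
abbrev H : Subgroup G := Cen L.Z

/-- The stabiliser of the block of the centraliser in the normaliser. -/
def N : Subgroup G := stab (⟨L.Z, L.b⟩ : BrauerPairIdx G)

theorem hab : ∀ x ∈ P, ∀ y ∈ P, x * y = y * x := comm_of_cyclic L.cyc

theorem hB : IsPBlock M B := L.hmax.1.2.1

theorem hZP : L.Z ≤ P := Subgroup.zpowers_le.2 L.hz

theorem hPH : P ≤ L.H := fun v hv =>
  Subgroup.mem_centralizer_iff.mpr fun q hq => L.hab q (L.hZP hq) v hv

theorem cardZ : Nat.card L.Z = p := by rw [Nat.card_zpowers, L.hzo]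

theorem hz1 : L.z ≠ 1 := fun h => (Fact.out : p.Prime).ne_one (by rw [← L.hzo, h, orderOf_one])

theorem isPGroup : IsPGroup p P := L.hmax.1.1.1

theorem isPGroup_Z : IsPGroup p L.Z := L.isPGroup.to_le L.hZP

theorem pairOf (hM : IsPModular p M) : IsBrauerPairOf p M B L.Z L.b :=
  isBrauerPairOf_down hM L.hle L.hmax.1

theorem hb (hM : IsPModular p M) : IsPBlock M L.b := (L.pairOf hM).1.2

theorem H_le_N : L.H ≤ L.N := cen_le_stab ⟨L.Z, L.b⟩

theorem N_le_normalizer : L.N ≤ Subgroup.normalizer (L.Z : Set G) := stab_le_normalizer _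

/-- A nontrivial element of `P` has the subgroup of order `p` among its powers. -/
theorem Z_le_zpowers {x : G} (hx : x ∈ P) (hx1 : x ≠ 1) : L.Z ≤ Subgroup.zpowers x := by
  have hxP : Subgroup.zpowers x ≤ P := Subgroup.zpowers_le.2 hx
  obtain ⟨y, hy, -, hyo⟩ := exists_order_prime (L.isPGroup.to_le hxP)
    (fun h => hx1 (Subgroup.zpowers_eq_bot.1 h))
  have h : L.Z = Subgroup.zpowers y :=
    PGroupsCyclic.eq_of_card_eq_of_isCyclic L.cyc L.hZP ((Subgroup.zpowers_le.2 hy).trans hxP)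
      (by rw [L.cardZ, Nat.card_zpowers, hyo])
  rw [h]
  exact Subgroup.zpowers_le.2 hy

theorem stab_top_le_N (hM : IsPModular p M) : stab (⟨P, L.c⟩ : BrauerPairIdx G) ≤ L.N := by
  intro g hg
  have hgP := stab_le_normalizer _ hg
  have heq : cjS g L.Z = L.Z :=
    PGroupsCyclic.eq_of_card_eq_of_isCyclic L.cyc
      ((cjS_mono L.hZP).trans (le_of_eq (cjS_of_normalizer hgP))) L.hZP (card_cjS g L.Z)
  have h := ple_cP g (show PLE p M (⟨L.Z, L.b⟩ : BrauerPairIdx G) ⟨P, L.c⟩ from L.hle)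
  rw [mem_stab.mp hg] at h
  exact ple_unique (c := ⟨P, L.c⟩) hM L.hmax.1.1 h L.hle heq

theorem exists_mul_eq (hM : IsPModular p M) {g : G} (hg : g ∈ L.N) :
    ∃ y ∈ stab (⟨P, L.c⟩ : BrauerPairIdx G), ∃ x ∈ L.H, g = y * x :=
  fus_control hM L.hmax L.hab (a := ⟨L.Z, L.b⟩) L.hle (g := g) (by rw [mem_stab.mp hg]; exact L.hle)

theorem mem_cen_of_stab {g : G} (hg : g ∈ stab (⟨P, L.c⟩ : BrauerPairIdx G)) (hgH : g ∈ L.H) :
    g ∈ Cen P := by
  refine L.hfree g hg L.z L.hz L.hz1 ?_
  rw [← Subgroup.mem_centralizer_iff.1 hgH L.z (Subgroup.mem_zpowers _), mul_inv_cancel_right]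

theorem index_N (hM : IsPModular p M) : L.H.relIndex L.N = e := by
  refine Eq.trans ?_ L.he
  set T := stab (⟨P, L.c⟩ : BrauerPairIdx G)
  let f : T ⧸ (Cen P).subgroupOf T → L.N ⧸ L.H.subgroupOf L.N :=
    Quotient.map' (fun t : T => (⟨t, L.stab_top_le_N hM t.2⟩ : L.N)) fun a b hab => by
      rw [QuotientGroup.leftRel_apply, Subgroup.mem_subgroupOf] at hab ⊢
      exact centralizer_le L.hZP hab
  refine (Nat.card_congr (Equiv.ofBijective f ⟨fun a b hab => ?_, fun n => ?_⟩)).symm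
  · induction a using QuotientGroup.induction_on with
    | H a => induction b using QuotientGroup.induction_on with
      | H b =>
        rw [QuotientGroup.eq, Subgroup.mem_subgroupOf]
        exact L.mem_cen_of_stab (a⁻¹ * b).2 (Subgroup.mem_subgroupOf.1 ((QuotientGroup.eq (s := L.H.subgroupOf L.N) (a := (⟨a, L.stab_top_le_N hM a.2⟩ : L.N)) (b := (⟨b, L.stab_top_le_N hM b.2⟩ : L.N))).1 hab))
  · induction n using QuotientGroup.induction_on with
    | H n =>
      obtain ⟨y, hy, x, hx, hn⟩ := L.exists_mul_eq hM n.2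
      refine ⟨((⟨y, hy⟩ : T) : T ⧸ (Cen P).subgroupOf T), QuotientGroup.eq.2 ?_⟩
      rw [Subgroup.mem_subgroupOf]
      show y⁻¹ * (n : G) ∈ L.H
      rw [hn, inv_mul_cancel_left]
      exact hx

theorem e_pos (hM : IsPModular p M) : 0 < e := by
  exact (L.index_N hM) ▸ (Nat.pos_of_ne_zero Subgroup.index_ne_zero_of_finite : 0 < L.H.relIndex L.N)

theorem conj_mem_H {t : G} (ht : t ∈ L.N) {h : G} (hh : h ∈ L.H) : t * h * t⁻¹ ∈ L.H :=
  (conj_mem_iff_of_normalizer (normalizer_le_normalizer_cen (L.N_le_normalizer ht)) h).1 hh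

theorem H_normal : (L.H.subgroupOf L.N).Normal :=
  ⟨fun h hh t => Subgroup.mem_subgroupOf.2 (L.conj_mem_H t.2 (Subgroup.mem_subgroupOf.1 hh))⟩

/-- `N / C(Z)` embeds in the automorphism group of `Z`. -/
theorem ker_conj :
    (L.Z.normalizerMonoidHom.comp (Subgroup.inclusion L.N_le_normalizer)).ker =
      L.H.subgroupOf L.N := by
  ext g
  rw [MonoidHom.mem_ker, Subgroup.mem_subgroupOf]
  constructor
  · intro h
    refine Subgroup.mem_centralizer_iff.2 fun a ha => ?_
    have := congrArg Subtype.val (MulEquiv.congr_fun h ⟨a, ha⟩)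
    exact (mul_inv_eq_iff_eq_mul.1 (show (g : G) * a * (g : G)⁻¹ = a from this)).symm
  · intro h
    refine MulEquiv.ext fun a => Subtype.ext ?_
    show (g : G) * (a : G) * (g : G)⁻¹ = (a : G)
    rw [← Subgroup.mem_centralizer_iff.mp h (a : G) a.2, mul_inv_cancel_right]

/-- Some element of `N` generates it modulo `C(Z)`. -/
theorem exists_gen (hM : IsPModular p M) : ∃ t ∈ L.N, (t ^ e ∈ L.H) ∧
    ∀ g ∈ L.N, ∃ i < e, ∃ h ∈ L.H, g = h * t ^ i := by
  haveI := L.H_normal
  set ψ := L.Z.normalizerMonoidHom.comp (Subgroup.inclusion L.N_le_normalizer)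
  haveI : IsCyclic (MulAut L.Z) :=
    (IsCyclic.mulAutMulEquiv L.Z).isCyclic.mpr (L.cardZ.symm ▸ inferInstance)
  haveI : IsCyclic ψ.range := inferInstance
  haveI : IsCyclic (L.N ⧸ L.H.subgroupOf L.N) :=
    ((QuotientGroup.quotientMulEquivOfEq L.ker_conj.symm).trans
      (QuotientGroup.quotientKerEquivRange ψ)).isCyclic.mpr inferInstance
  have hcard : Nat.card (L.N ⧸ L.H.subgroupOf L.N) = e := L.index_N hM
  obtain ⟨q, hq⟩ := IsCyclic.exists_generator (α := L.N ⧸ L.H.subgroupOf L.N)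
  obtain ⟨t, rfl⟩ := QuotientGroup.mk_surjective q
  refine ⟨t, t.2, ?_, fun g hg => ?_⟩
  · have h : ((t ^ e : L.N) : L.N ⧸ L.H.subgroupOf L.N) = 1 := by
      rw [QuotientGroup.mk_pow]
      exact (congrArg (fun n => ((t : L.N) : L.N ⧸ L.H.subgroupOf L.N) ^ n) hcard).symm.trans
        pow_card_eq_one'
    exact Subgroup.mem_subgroupOf.1 ((QuotientGroup.eq_one_iff _).1 h)
  · have h1 := mem_powers_iff_mem_zpowers.2 (hq ((⟨g, hg⟩ : L.N) : L.N ⧸ L.H.subgroupOf L.N))
    rw [mem_powers_iff_mem_range_orderOf, orderOf_eq_card_of_forall_mem_zpowers hq, hcard] at h1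
    obtain ⟨i, hi, hie⟩ := Finset.mem_image.1 h1
    refine ⟨i, Finset.mem_range.1 hi, g * (t ^ i : G)⁻¹, ?_, by rw [inv_mul_cancel_right]⟩
    change ((t ^ i : L.N) : L.N ⧸ L.H.subgroupOf L.N) = _ at hie
    have h2 := QuotientGroup.eq.1 hie
    rw [Subgroup.mem_subgroupOf] at h2
    have h3 := L.conj_mem_H (L.N.pow_mem t.2 i) h2
    simpa [mul_assoc] using h3

theorem dvd_sub_one (hM : IsPModular p M) : e ∣ p - 1 := by
  have hp : p.Prime := Fact.out
  haveI := L.H_normal
  set ψ := L.Z.normalizerMonoidHom.comp (Subgroup.inclusion L.N_le_normalizer)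
  have h1 : L.H.relIndex L.N = Nat.card ψ.range := Nat.card_congr
    ((QuotientGroup.quotientMulEquivOfEq L.ker_conj.symm).trans
      (QuotientGroup.quotientKerEquivRange ψ)).toEquiv
  have h2 : L.H.relIndex L.N ∣ p - 1 := by
    rw [h1, ← Nat.totient_prime hp]
    refine (Subgroup.card_subgroup_dvd_card _).trans (dvd_of_eq ?_)
    rw [IsCyclic.card_mulAut L.Z, L.cardZ]
  exact (L.index_N hM) ▸ h2

theorem e_not_dvd (hM : IsPModular p M) : ¬ p ∣ e := fun h => by
  have hp : p.Prime := Fact.out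
  have h1 := h.trans (L.dvd_sub_one hM)
  have h2 := Nat.le_of_dvd (Nat.sub_pos_of_lt hp.one_lt) h1
  have := hp.two_le
  omega

/-- The maximal pair of the block of `C(Z)` has trivial inertial quotient. -/
theorem exists_local (hM : IsPModular p M) :
    ∃ c₀ : Set (IrrCharacter (Cen (P.subgroupOf L.H))),
      IsMaximalBrauerPair p M L.b (P.subgroupOf L.H) c₀ ∧
      stab (⟨P.subgroupOf L.H, c₀⟩ : BrauerPairIdx L.H) ≤ Cen (P.subgroupOf L.H) := by
  obtain ⟨c₀, hc₀, hst₀⟩ := exists_maximal_cen hM L.hmax L.hZP L.hPH L.hle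
  exact ⟨c₀, hc₀, fun x hx => Subgroup.mem_centralizer_iff.mpr fun y hy => Subtype.ext
    (Subgroup.mem_centralizer_iff.mp (L.mem_cen_of_stab ((hst₀ x).mp hx) x.2) _ hy)⟩

theorem rank_card (hM : IsPModular p M) :
    blockRank p L.b = 1 ∧ Nat.card L.b = Nat.card P := by
  obtain ⟨c₀, hc₀, hst⟩ := L.exists_local hM
  have h := rank_one_card hM _ le_rfl hc₀ (fun x hx y hy => Subtype.ext (L.hab _ hx _ hy)) hst
  rwa [Nat.card_congr (Subgroup.subgroupOfEquivOfLe L.hPH).toEquiv] at h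

theorem count (hM : IsPModular p M) :
    e * Nat.card B = e * blockRank p B + (Nat.card P - 1) :=
  BlockAbelianCount81.card_eq_of_free hM L.hmax L.hab L.hfree L.he

end Loc

end Cfsg.Agent.CyclicSetup42
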