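import Cfsg.Agent.Lib.CyclicAction42
import Cfsg.Agent.Lib.CyclicLower42
import Cfsg.Agent.Lib.SignedDifferences86

/-!
# The shape of a block with cyclic defect group

`e` non-exceptional and `(|P| - 1) / e` exceptional characters with their signs, and the number of
Brauer characters equals the inertial index.
-/

set_option autoImplicit false
set_option linter.unusedSectionVars false
set_option linter.style.haveILetI false

namespace Cfsg.Agent.CyclicShape42

open Cfsg BlockTheoryLocalRing BlockTheoryCentre BlockTheoryIdem BlockContribBounds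
  BrauerPairs81Base CyclicSetup42 CyclicAction42

attribute [local instance] Classical.propDecidable

universe u

variable {p : ℕ} [Fact p.Prime] {M : Ideal AlgInt} {G : Type u} [Group G] [Fintype G]
  {B : Set (IrrCharacter G)} {P : Subgroup G} {e : ℕ}

/-- The shape of the block: `X` non-exceptional, `Y` exceptional. -/
structure Shape (L : Loc p M B P e) where
  ψ₀ : IrrCharacter L.H
  X : Finset (IrrCharacter G)
  Y : Finset (IrrCharacter G)
  ζ : IrrCharacter L.H → IrrCharacter G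
  δ : IrrCharacter G → ℤ
  δ₀ : ℤ
  base : Base L ψ₀
  union : X ∪ Y = members B
  disj : Disjoint X Y
  cardX : X.card = e
  cardY : Y.card * e = Nat.card P - 1
  rank : blockRank p B = e
  sgn : ∀ χ ∈ X, δ χ = 1 ∨ δ χ = -1
  sgn₀ : δ₀ = 1 ∨ δ₀ = -1
  ζmem : ∀ ψ ∈ moved L ψ₀, ζ ψ ∈ Y
  ζsurj : ∀ y ∈ Y, ∃ ψ ∈ moved L ψ₀, ζ ψ = y
  ζorb : ∀ ψ ∈ moved L ψ₀, ∀ φ ∈ moved L ψ₀, ζ ψ = ζ φ ↔ orb L ψ φ
  wval : ∀ ψ ∈ moved L ψ₀, ∀ χ ∈ members B,
    w L ψ₀ χ ψ = if χ ∈ X then δ χ else if χ = ζ ψ then δ₀ else 0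

variable (L : Loc p M B P e) {ψ₀ : IrrCharacter L.H}

theorem one_le_card_moved (hM : IsPModular p M) (h0 : Base L ψ₀) : 1 ≤ (moved L ψ₀).card := by
  rw [card_moved L hM h0]
  have := Subgroup.card_le_of_le L.hZP
  rw [L.cardZ] at this
  have := hM.1.two_le
  omega

theorem hdeg_sum (hM : IsPModular p M) (h0 : Base L ψ₀) {ψ : IrrCharacter L.H}
    (hψ : ψ ∈ L.b) :
    ∑ χ ∈ members B, w L ψ₀ χ ψ * (charDegree (χ : G → ℂ) : ℤ) = 0 := by
  have h := sum_w_mul L hM h0 hψ (g := 1) (by rw [orderOf_one]; exact hM.1.not_dvd_one)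
  simp only [CharAverage.irr_apply_one] at h
  exact_mod_cast h

theorem w_eq_of_orb (hM : IsPModular p M) (h0 : Base L ψ₀) {ψ φ : IrrCharacter L.H}
    (hψ : ψ ∈ moved L ψ₀) (hφ : φ ∈ moved L ψ₀) (h : orb L ψ φ) {χ : IrrCharacter G}
    (hχ : χ ∈ members B) : w L ψ₀ χ ψ = w L ψ₀ χ φ := by
  have e1 := gram L hM h0 hψ hψ
  have e2 := gram L hM h0 hφ hφ
  have e3 := gram L hM h0 hψ hφ
  rw [if_pos (orb_refl L _)] at e1 e2
  rw [if_pos h] at e3
  have h4 : ∑ x ∈ members B, (w L ψ₀ x ψ - w L ψ₀ x φ) * (w L ψ₀ x ψ - w L ψ₀ x φ) = 0 := by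
    have e4 : ∑ x ∈ members B, (w L ψ₀ x ψ - w L ψ₀ x φ) * (w L ψ₀ x ψ - w L ψ₀ x φ) =
        (∑ x ∈ members B, w L ψ₀ x ψ * w L ψ₀ x ψ) - 2 * (∑ x ∈ members B, w L ψ₀ x ψ * w L ψ₀ x φ)
          + ∑ x ∈ members B, w L ψ₀ x φ * w L ψ₀ x φ := by
      rw [Finset.mul_sum, ← Finset.sum_sub_distrib, ← Finset.sum_add_distrib]
      exact Finset.sum_congr rfl fun x _ => by ring
    rw [e4, e1, e2, e3]; ring
  simpa [sub_eq_zero] using
    (Finset.sum_eq_zero_iff_of_nonneg fun x _ => mul_self_nonneg (w L ψ₀ x ψ - w L ψ₀ x φ)).1 h4 χ hχ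

theorem one_le_mul_self {x : ℤ} (h : x ≠ 0) : 1 ≤ x * x :=
  Int.add_one_le_iff.2 (lt_of_le_of_ne (mul_self_nonneg x) (mul_ne_zero h h).symm)

theorem sq_one_of_sum {s : Finset (IrrCharacter G)} {R : IrrCharacter G → ℤ}
    (hR : ∀ χ ∈ s, R χ ≠ 0) (h : ∑ χ ∈ s, R χ * R χ ≤ s.card) :
    ∀ χ ∈ s, R χ = 1 ∨ R χ = -1 := by
  intro χ hχ
  have h1 : ∀ x ∈ s, (1 : ℤ) ≤ R x * R x := fun x hx => one_le_mul_self (hR x hx)
  have h2 : ∑ x ∈ s, (1 : ℤ) = ∑ x ∈ s, R x * R x :=
    le_antisymm (Finset.sum_le_sum h1) (by simpa using h)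
  have h3 := (Finset.sum_eq_sum_iff_of_le h1).1 h2 χ hχ
  exact Int.eq_one_or_neg_one_of_mul_eq_one h3.symm

theorem exists_shape_at (hM : IsPModular p M) (hlow : e ≤ blockRank p B) {ψ₀ : IrrCharacter L.H}
    (h0 : Base L ψ₀) : ∃ S : Shape L, S.ψ₀ = ψ₀ := by
  have he := L.e_pos hM
  have hcount := L.count hM
  rw [card_members] at hcount
  have hmoved := card_moved L hM h0
  by_cases htwo : ∃ ψ ∈ (↑(moved L ψ₀) : Set (IrrCharacter L.H)),
      ∃ φ ∈ (↑(moved L ψ₀) : Set (IrrCharacter L.H)), ¬ orb L ψ φ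
  · obtain ⟨ζ, δ, R, c, hδ, hζ, hinj, hw⟩ := SignedDifferences86.exists_signed (members B)
      (↑(moved L ψ₀) : Set (IrrCharacter L.H)) (orb L) (fun ψ _ => orb_refl L ψ)
      (orb_symm L) (orb_trans L) htwo (w L ψ₀) (fun χ => (charDegree (χ : G → ℂ) : ℤ))
      (fun χ _ => by exact_mod_cast ClassAlgebraVal.charDegree_pos χ) e
      (fun ψ hψ φ hφ => gram L hM h0 hψ hφ)
      (fun ψ hψ => hdeg_sum L hM h0 ((mem_moved L).1 hψ).1)
    simp only [Finset.mem_coe] at hζ hinj hw htwo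
    set Y := (moved L ψ₀).image ζ with hY
    have hYB : Y ⊆ members B := Finset.image_subset_iff.2 fun ψ hψ => (hζ ψ hψ).1
    set X := members B \ Y with hX
    have hmY : Y.card * e = Nat.card P - 1 := by
      rw [← hmoved, Finset.card_eq_sum_card_image ζ (moved L ψ₀), ← hY,
        Finset.sum_congr rfl fun y hy => ?_, Finset.sum_const, smul_eq_mul]
      obtain ⟨ψ, hψ, rfl⟩ := Finset.mem_image.1 hy
      refine Eq.trans ?_ (card_orb L hM h0 hψ)
      congr 1
      exact Finset.filter_congr fun φ hφ =>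
        ⟨fun h => (hinj ψ hψ φ hφ).1 h.symm, fun h => ((hinj ψ hψ φ hφ).2 h).symm⟩
    have hk : (members B).card = blockRank p B + Y.card := Nat.eq_of_mul_eq_mul_left he (by
      rw [hcount, ← hmY]; ring)
    have hXc : X.card = blockRank p B := by
      rw [hX, Finset.card_sdiff_of_subset hYB, hk, Nat.add_sub_cancel]
    have hwX : ∀ ψ ∈ moved L ψ₀, ∀ χ ∈ X, w L ψ₀ χ ψ = R χ := fun ψ hψ χ hχ => by
      obtain ⟨hχB, hχY⟩ := Finset.mem_sdiff.1 hχ
      rw [hw ψ hψ χ hχB, if_neg fun h : χ = ζ ψ => hχY (by rw [h]; exact Finset.mem_image_of_mem ζ hψ),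
        mul_zero, add_zero]
    have hR0 : ∀ χ ∈ X, R χ ≠ 0 := fun χ hχ => by
      obtain ⟨ψ, hψ, hne⟩ := exists_w_ne_zero L hM h0 (mem_members.1 (Finset.mem_sdiff.1 hχ).1)
      rwa [hwX ψ hψ χ hχ] at hne
    have hcY : ∀ y ∈ Y, R y = c := fun y hy => by
      obtain ⟨ψ, hψ, rfl⟩ := Finset.mem_image.1 hy
      exact (hζ ψ hψ).2
    obtain ⟨ψ₁, hψ₁, ψ₂, hψ₂, hno⟩ := htwo
    have hY2 : 2 ≤ Y.card := Finset.one_lt_card.2 ⟨ζ ψ₁, Finset.mem_image_of_mem ζ hψ₁, ζ ψ₂,
      Finset.mem_image_of_mem ζ hψ₂, fun h => hno ((hinj ψ₁ hψ₁ ψ₂ hψ₂).1 h)⟩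
    have hδ2 : δ * δ = 1 := by rcases hδ with rfl | rfl <;> norm_num
    have hnorm : (∑ χ ∈ X, R χ * R χ) + ((Y.card : ℤ) * (c * c) + 2 * δ * c) = (e : ℤ) := by
      have h1 := gram L hM h0 hψ₁ hψ₁
      have hsX : ∑ χ ∈ X, w L ψ₀ χ ψ₁ * w L ψ₀ χ ψ₁ = ∑ χ ∈ X, R χ * R χ :=
        Finset.sum_congr rfl fun χ hχ => by rw [hwX ψ₁ hψ₁ χ hχ]
      have hsY : ∑ χ ∈ Y, w L ψ₀ χ ψ₁ * w L ψ₀ χ ψ₁ =
          (Y.card : ℤ) * (c * c) + (2 * δ * c + 1) := by
        rw [Finset.sum_congr rfl (g := fun χ => c * c + if χ = ζ ψ₁ then 2 * δ * c + 1 else 0)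
          fun χ hχ => ?_, Finset.sum_add_distrib, Finset.sum_ite_eq',
          if_pos (Finset.mem_image_of_mem ζ hψ₁), Finset.sum_const, nsmul_eq_mul]
        rw [hw ψ₁ hψ₁ χ (hYB hχ), hcY χ hχ]
        split_ifs
        · linear_combination hδ2
        · ring
      rw [if_pos (orb_refl L _), ← Finset.sum_sdiff hYB, ← hX, hsX, hsY] at h1
      linarith
    have hcd : 0 ≤ c * (c + δ) := by
      rcases le_or_gt c (-1) with h | h <;> rcases hδ with rfl | rfl <;> nlinarith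
    have hY2' : (2 : ℤ) ≤ Y.card := by exact_mod_cast hY2
    have hQ : 0 ≤ (Y.card : ℤ) * (c * c) + 2 * δ * c := by nlinarith [mul_self_nonneg c]
    have hlow' : (e : ℤ) ≤ X.card := by rw [hXc]; exact_mod_cast hlow
    have hsum : (X.card : ℤ) ≤ ∑ χ ∈ X, R χ * R χ := by
      have := Finset.sum_le_sum (s := X) (f := fun _ => (1 : ℤ)) (g := fun χ => R χ * R χ)
        fun χ hχ => one_le_mul_self (hR0 χ hχ)
      simpa using this
    have hsgn : ∀ χ ∈ X, R χ = 1 ∨ R χ = -1 := sq_one_of_sum hR0 (by linarith)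
    have hXe : X.card = e := by
      have : (X.card : ℤ) = e := by linarith
      exact_mod_cast this
    have hQ0 : (Y.card : ℤ) * (c * c) + 2 * δ * c = 0 := by linarith
    have hrank : blockRank p B = e := hXc ▸ hXe
    have hunion : X ∪ Y = members B := Finset.sdiff_union_of_subset hYB
    have hwY : ∀ ψ ∈ moved L ψ₀, ∀ χ ∈ members B, χ ∉ X →
        χ ∈ Y ∧ w L ψ₀ χ ψ = c + δ * if χ = ζ ψ then 1 else 0 := fun ψ hψ χ hχB hχX => by
      have hχY : χ ∈ Y := by
        by_contra h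
        exact hχX (Finset.mem_sdiff.2 ⟨hχB, h⟩)
      exact ⟨hχY, by rw [hw ψ hψ χ hχB, hcY χ hχY]; congr!⟩
    rcases eq_or_ne c 0 with hc | hc
    · refine ⟨⟨ψ₀, X, Y, ζ, R, δ, h0, hunion, Finset.sdiff_disjoint, hXe, hmY, hrank, hsgn, hδ,
        fun ψ hψ => Finset.mem_image_of_mem ζ hψ,
        fun y hy => Finset.mem_image.1 hy, hinj, fun ψ hψ χ hχ => ?_⟩, rfl⟩
      split_ifs with hχX h
      · exact hwX ψ hψ χ hχX
      · rw [(hwY ψ hψ χ hχ hχX).2, if_pos h, hc]; ring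
      · rw [(hwY ψ hψ χ hχ hχX).2, if_neg h, hc]; ring
    · -- two exceptional characters with the roles interchanged
      have hmc : (Y.card : ℤ) = 2 ∧ c = -δ := by
        have h1 : ((Y.card : ℤ) - 2) * (c * c) + 2 * (c * (c + δ)) = 0 := by linarith
        have h2 : 0 ≤ ((Y.card : ℤ) - 2) * (c * c) :=
          mul_nonneg (by linarith) (mul_self_nonneg c)
        constructor
        · by_contra h
          have : 0 < ((Y.card : ℤ) - 2) * (c * c) :=
            mul_pos (by omega) (mul_self_pos.2 hc)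
          linarith
        · have h3 : c * (c + δ) = 0 := by linarith
          have := (mul_eq_zero.1 h3).resolve_left hc
          linarith
      obtain ⟨y₁, y₂, hne, hY12⟩ := Finset.card_eq_two.1 (by exact_mod_cast hmc.1 : Y.card = 2)
      set ζ' : IrrCharacter L.H → IrrCharacter G := fun ψ => if ζ ψ = y₁ then y₂ else y₁ with hζ'
      have hcase : ∀ ψ ∈ moved L ψ₀, ζ ψ = y₁ ∨ ζ ψ = y₂ := fun ψ hψ => by
        have := Finset.mem_image_of_mem ζ hψ
        rw [← hY, hY12] at this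
        simpa using this
      refine ⟨⟨ψ₀, X, Y, ζ', R, -δ, h0, hunion, Finset.sdiff_disjoint, hXe, hmY, hrank, hsgn,
        by omega, fun ψ hψ => ?_, fun y hy => ?_, fun ψ hψ φ hφ => ?_, fun ψ hψ χ hχ => ?_⟩, rfl⟩
      · rw [hY12, hζ']; dsimp only; split_ifs <;> simp
      · rw [hY12] at hy
        rcases Finset.mem_insert.1 hy with rfl | h
        · obtain ⟨ψ, hψ, h⟩ := Finset.mem_image.1 (show y₂ ∈ Y by rw [hY12]; simp)
          exact ⟨ψ, hψ, if_neg (by rw [h]; exact hne.symm)⟩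
        · obtain rfl := Finset.mem_singleton.1 h
          obtain ⟨ψ, hψ, h⟩ := Finset.mem_image.1 (show y₁ ∈ Y by rw [hY12]; simp)
          exact ⟨ψ, hψ, if_pos h⟩
      · rw [← hinj ψ hψ φ hφ, hζ']
        dsimp only
        rcases hcase ψ hψ with h | h <;> rcases hcase φ hφ with h' | h' <;>
          simp [h, h', hne, hne.symm]
      · split_ifs with hχX h
        · exact hwX ψ hψ χ hχX
        · obtain ⟨-, hv⟩ := hwY ψ hψ χ hχ hχX
          rw [hv, if_neg, hmc.2]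
          · ring
          · rw [h, hζ']; dsimp only
            rcases hcase ψ hψ with e' | e' <;> simp [e', hne, hne.symm]
        · obtain ⟨hχY, hv⟩ := hwY ψ hψ χ hχ hχX
          rw [hv, if_pos, hmc.2]
          · ring
          · rw [hY12] at hχY
            simp only [hζ'] at h
            rcases hcase ψ hψ with e' | e' <;> rcases Finset.mem_insert.1 hχY with e'' | e''
            · exact e''.trans e'.symm
            · exact absurd (by rw [if_pos e']; exact Finset.mem_singleton.1 e'') h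
            · exact absurd (by rw [if_neg (e' ▸ hne.symm)]; exact e'') h
            · exact (Finset.mem_singleton.1 e'').trans e'.symm
  · push Not at htwo
    simp only [Finset.mem_coe] at htwo
    obtain ⟨ψ₁, hψ₁⟩ := Finset.card_pos.1 (one_le_card_moved L hM h0)
    have hme : Nat.card P - 1 = e := by
      refine hmoved.symm.trans (Eq.trans ?_ (card_orb L hM h0 hψ₁))
      exact congrArg Finset.card
        (Finset.filter_true_of_mem fun φ hφ => htwo ψ₁ hψ₁ φ hφ).symm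
    rw [hme] at hcount
    have hk : (members B).card = blockRank p B + 1 := Nat.eq_of_mul_eq_mul_left he (by
      rw [hcount]; ring)
    set R := fun χ => w L ψ₀ χ ψ₁
    have hR0 : ∀ χ ∈ members B, R χ ≠ 0 := fun χ hχ => by
      obtain ⟨ψ, hψ, hne⟩ := exists_w_ne_zero L hM h0 (mem_members.1 hχ)
      rwa [← w_eq_of_orb L hM h0 hψ₁ hψ (htwo ψ₁ hψ₁ ψ hψ) hχ] at hne
    have hsum : ∑ χ ∈ members B, R χ * R χ = (e : ℤ) + 1 := by
      have h := gram L hM h0 hψ₁ hψ₁
      rwa [if_pos (orb_refl L _)] at h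
    have h1 : ((members B).card : ℤ) ≤ ∑ χ ∈ members B, R χ * R χ := by
      have := Finset.sum_le_sum (s := members B) (f := fun _ => (1 : ℤ))
        (g := fun χ => R χ * R χ) fun χ hχ => one_le_mul_self (hR0 χ hχ)
      simpa using this
    have hrank : blockRank p B = e := by
      have : (blockRank p B : ℤ) + 1 ≤ e + 1 := by
        rw [← hsum]; refine le_trans (le_of_eq ?_) h1; rw [hk]; push_cast; ring
      have : blockRank p B ≤ e := by exact_mod_cast (add_le_add_iff_right (1 : ℤ)).1 this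
      omega
    have hsgn := sq_one_of_sum hR0 (by rw [hsum, hk, hrank]; push_cast; exact le_rfl)
    obtain ⟨χ₀, hχ₀⟩ := Finset.card_pos.1 (by omega : 0 < (members B).card)
    refine ⟨⟨ψ₀, (members B).erase χ₀, {χ₀}, fun _ => χ₀, R, R χ₀, h0, ?_, ?_, ?_, ?_, hrank,
      fun χ hχ => hsgn χ (Finset.mem_of_mem_erase hχ), hsgn χ₀ hχ₀,
      fun _ _ => Finset.mem_singleton_self _, fun y hy => ⟨ψ₁, hψ₁, (Finset.mem_singleton.1 hy).symm⟩,
      fun ψ hψ φ hφ => iff_of_true rfl (htwo ψ hψ φ hφ), fun ψ hψ χ hχ => ?_⟩, rfl⟩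
    · rw [Finset.union_comm, ← Finset.insert_eq, Finset.insert_erase hχ₀]
    · exact Finset.disjoint_singleton_right.2 (Finset.notMem_erase χ₀ _)
    · rw [Finset.card_erase_of_mem hχ₀, hk, hrank]; rfl
    · rw [Finset.card_singleton, one_mul, hme]
    · rw [← w_eq_of_orb L hM h0 hψ₁ hψ (htwo ψ₁ hψ₁ ψ hψ) hχ]
      rcases eq_or_ne χ χ₀ with rfl | hne
      · rw [if_neg (Finset.notMem_erase χ _), if_pos rfl]
      · rw [if_pos (Finset.mem_erase.2 ⟨hne, hχ⟩)]

include L in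
theorem le_rank (hM : IsPModular p M) : e ≤ blockRank p B := by
  haveI : M.IsMaximal := hM.2.1
  letI := Ideal.Quotient.field M
  haveI := BrandtBlock42.isAlgClosed_residue hM
  haveI : CharP (AlgInt ⧸ M) p := by
    refine (CharP.charP_iff_prime_eq_zero hM.1).2 ?_
    rw [← map_natCast (Ideal.Quotient.mk M)]
    exact Ideal.Quotient.eq_zero_iff_mem.2 hM.2.2
  obtain ⟨red, hred⟩ := BrandtBlock42.exists_reduction hM
  exact CyclicLower42.le_blockRank L hM red hred

/-- The shape at a given fixed character. -/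
theorem shape_at (hM : IsPModular p M) {ψ₀ : IrrCharacter L.H} (h0 : Base L ψ₀) :
    ∃ S : Shape L, S.ψ₀ = ψ₀ :=
  exists_shape_at L hM (le_rank L hM) h0

/-- The shape exists. -/
theorem shape (hM : IsPModular p M) : Nonempty (Shape L) := by
  obtain ⟨ψ₀, h0⟩ := exists_base L hM
  exact ⟨(shape_at L hM h0).choose⟩

include L in
theorem blockRank_eq (hM : IsPModular p M) : blockRank p B = e :=
  (shape L hM).some.rank

namespace Shape

variable {L} (S : Shape L)

theorem subX : S.X ⊆ members B := S.union ▸ Finset.subset_union_left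

theorem subY : S.Y ⊆ members B := S.union ▸ Finset.subset_union_right

/-- The relation between the values at regular elements. -/
theorem relation (hM : IsPModular p M) {y : IrrCharacter G} (hy : y ∈ S.Y) {g : G}
    (hg : ¬ p ∣ orderOf g) :
    (S.δ₀ : ℂ) * (y : G → ℂ) g + ∑ χ ∈ S.X, (S.δ χ : ℂ) * (χ : G → ℂ) g = 0 := by
  obtain ⟨ψ, hψ, rfl⟩ := S.ζsurj y hy
  have h := sum_w_mul L hM S.base ((mem_moved L).1 hψ).1 hg
  rw [← S.union, Finset.sum_union S.disj] at h
  rw [add_comm, ← h]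
  congr 1
  · refine Finset.sum_congr rfl fun χ hχ => ?_
    rw [S.wval ψ hψ χ (S.subX hχ), if_pos hχ]
  · rw [Finset.sum_eq_single_of_mem (S.ζ ψ) hy fun χ hχ hne => ?_]
    · rw [S.wval ψ hψ _ (S.subY hy), if_neg (Finset.disjoint_right.1 S.disj hy), if_pos rfl]
    · rw [S.wval ψ hψ _ (S.subY hχ), if_neg (Finset.disjoint_right.1 S.disj hχ), if_neg hne,
        Int.cast_zero, zero_mul]

theorem agree (hM : IsPModular p M) {y y' : IrrCharacter G} (hy : y ∈ S.Y) (hy' : y' ∈ S.Y)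
    {g : G} (hg : ¬ p ∣ orderOf g) : (y : G → ℂ) g = (y' : G → ℂ) g := by
  have h := (S.relation hM hy hg).trans (S.relation hM hy' hg).symm
  have h0 : (S.δ₀ : ℂ) ≠ 0 := by rcases S.sgn₀ with h | h <;> simp [h]
  exact mul_left_cancel₀ h0 (add_right_cancel h)

end Shape

end Cfsg.Agent.CyclicShape42
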