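/-
Small general lemmas: fixed points of a p-group on a normal subgroup, prime-power components
outside a normal subgroup.
-/
import Mathlib

namespace Cfsg.Agent.H74Basic

variable {G : Type*} [Group G] [Finite G]

/-- A `p`-subgroup fixes a non-identity element of a normal subgroup of order divisible by `p`. -/
theorem exists_fixed_ne_one {p : ℕ} [Fact p.Prime] {R M : Subgroup G} [hM : M.Normal]
    (hR : IsPGroup p R) (hp : p ∣ Nat.card M) :
    ∃ x ∈ M, x ≠ 1 ∧ ∀ r ∈ R, r * x = x * r := by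
  have hQ : IsPGroup p (R.map (ConjAct.toConjAct (G := G)).toMonoidHom) := hR.map _
  let S : SubMulAction (R.map (ConjAct.toConjAct (G := G)).toMonoidHom) G :=
    { carrier := M
      smul_mem' := fun g x hx => hM.conj_mem x hx (ConjAct.ofConjAct (g : ConjAct G)) }
  have hS : p ∣ Nat.card S := hp
  have h1 : (⟨1, M.one_mem⟩ : S) ∈ MulAction.fixedPoints (R.map (ConjAct.toConjAct (G := G)).toMonoidHom) S :=
    fun g => Subtype.ext (smul_one (g : ConjAct G))
  obtain ⟨⟨x, hx⟩, hfix, hne⟩ := hQ.exists_fixed_point_of_prime_dvd_card_of_fixed_point S hS h1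
  refine ⟨x, hx, fun h => hne (Subtype.ext h.symm), fun r hr => ?_⟩
  have : r * x * r⁻¹ = x :=
    congrArg Subtype.val (hfix ⟨ConjAct.toConjAct r, r, hr, rfl⟩)
  exact mul_inv_eq_iff_eq_mul.1 this

/-- An element outside a normal subgroup `N` has a prime power component outside `N`. -/
theorem exists_primePart_notMem {N : Subgroup G} [N.Normal] {g : G} (hg : g ∉ N) :
    ∃ (s k m : ℕ), s.Prime ∧ orderOf (g ^ m) = s ^ k ∧ g ^ m ∉ N ∧ s ∣ N.index := by
  have hne : orderOf (g : G ⧸ N) ≠ 1 := fun h => hg ((QuotientGroup.eq_one_iff g).1 (orderOf_eq_one_iff.1 h))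
  obtain ⟨s, hs, hsd⟩ := Nat.exists_prime_and_dvd hne
  have hn0 : orderOf g ≠ 0 := (orderOf_pos g).ne'
  have hsG : s ∣ orderOf g := hsd.trans (orderOf_map_dvd (QuotientGroup.mk' N) g)
  refine ⟨s, (orderOf g).factorization s, orderOf g / s ^ (orderOf g).factorization s, hs, ?_, ?_, ?_⟩
  · rw [orderOf_pow_of_dvd]
    · exact Nat.div_div_self (Nat.ordProj_dvd _ _) hn0
    · exact (Nat.ordCompl_pos s hn0).ne'
    · exact Nat.ordCompl_dvd _ _
  · intro h
    have : (g : G ⧸ N) ^ (orderOf g / s ^ (orderOf g).factorization s) = 1 := by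
      rw [← QuotientGroup.mk_pow]; exact (QuotientGroup.eq_one_iff _).2 h
    exact Nat.not_dvd_ordCompl hs hn0 (hsd.trans (orderOf_dvd_of_pow_eq_one this))
  · rw [Subgroup.index_eq_card]
    exact hsd.trans (orderOf_dvd_natCard _)

/-- `p`-part and `p'`-part of an element. -/
theorem exists_parts {p : ℕ} [hp : Fact p.Prime] (u : G) :
    ∃ s z : G, u = s * z ∧ Commute s z ∧ (∃ k, orderOf s = p ^ k) ∧ Nat.Coprime (orderOf z) p := by
  obtain ⟨n, hn⟩ : ∃ n, orderOf u = n := ⟨_, rfl⟩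
  have hn0 : n ≠ 0 := hn ▸ (orderOf_pos u).ne'
  obtain ⟨a, ha⟩ : ∃ a, p ^ n.factorization p = a := ⟨_, rfl⟩
  obtain ⟨b, hb⟩ : ∃ b, n / a = b := ⟨_, rfl⟩
  have hab : a * b = n := by rw [← hb, ← ha]; exact Nat.ordProj_mul_ordCompl_eq_self n p
  have hpb : ¬ p ∣ b := by rw [← hb, ← ha]; exact Nat.not_dvd_ordCompl hp.out hn0
  have hcop : a.Coprime b := by rw [← hb, ← ha]; exact (Nat.coprime_ordCompl hp.out hn0).pow_left _
  have hbez : (1 : ℤ) = a * a.gcdA b + b * a.gcdB b := by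
    rw [← Nat.gcd_eq_gcd_ab, hcop.gcd_eq_one]; rfl
  refine ⟨u ^ ((b : ℤ) * a.gcdB b), u ^ ((a : ℤ) * a.gcdA b), ?_, (Commute.refl u).zpow_zpow _ _, ?_, ?_⟩
  · rw [← zpow_add, add_comm, ← hbez, zpow_one]
  · have hxa : (u ^ ((b : ℤ) * a.gcdB b)) ^ a = 1 := by
      rw [← zpow_natCast, ← zpow_mul, ← orderOf_dvd_iff_zpow_eq_one, hn, ← hab, Nat.cast_mul]
      exact ⟨a.gcdB b, by ring⟩
    obtain ⟨i, -, hi⟩ := (Nat.dvd_prime_pow hp.out).1 (ha ▸ orderOf_dvd_of_pow_eq_one hxa)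
    rw [← ha]
    exact ⟨i, by rw [← hi, ha]⟩
  · have hyb : (u ^ ((a : ℤ) * a.gcdA b)) ^ b = 1 := by
      rw [← zpow_natCast, ← zpow_mul, ← orderOf_dvd_iff_zpow_eq_one, hn, ← hab, Nat.cast_mul]
      exact ⟨a.gcdA b, by ring⟩
    exact Nat.Coprime.coprime_dvd_left (orderOf_dvd_of_pow_eq_one hyb)
      ((hp.out.coprime_iff_not_dvd.2 hpb).symm)

/-- An element normalising a cyclic Sylow `p`-subgroup centralises it as soon as it fixes a
non-identity element of it or acts trivially modulo a subgroup not containing it. -/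
theorem centralizes {p : ℕ} [hp : Fact p.Prime] (P : Sylow p G)
    (hcyc : IsCyclic (P : Subgroup G)) {n : G}
    (hn : n ∈ Subgroup.normalizer ((P : Subgroup G) : Set G))
    (h : (∃ x ∈ (P : Subgroup G), x ≠ 1 ∧ n * x * n⁻¹ = x) ∨
      ∃ T : Subgroup G, ¬ (P : Subgroup G) ≤ T ∧ ∀ x ∈ (P : Subgroup G), n * x * n⁻¹ * x⁻¹ ∈ T) :
    n ∈ Subgroup.centralizer ((P : Subgroup G) : Set G) := by
  obtain ⟨g, hg⟩ := hcyc.exists_generator
  set g' : G := (g : G) with hg'
  have hgen : ∀ x ∈ (P : Subgroup G), ∃ i : ℤ, g' ^ i = x := by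
    intro x hx
    obtain ⟨i, hi⟩ := Subgroup.mem_zpowers_iff.1 (hg ⟨x, hx⟩)
    exact ⟨i, by simpa using congrArg Subtype.val hi⟩
  obtain ⟨u, hu⟩ := hgen _ ((Subgroup.mem_normalizer_iff.1 hn g').1 g.2)
  obtain ⟨e, he⟩ := IsPGroup.iff_orderOf.1 P.isPGroup' g
  rw [← Subgroup.orderOf_coe] at he
  have hzero : ∀ a : ℤ, g' ^ a = 1 ↔ ((p ^ e : ℕ) : ℤ) ∣ a := fun a => by
    rw [← orderOf_dvd_iff_zpow_eq_one]
    exact he ▸ Iff.rfl
  have hconj : ∀ i : ℤ, n * g' ^ i * n⁻¹ = g' ^ (i * u) := fun i => by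
    rw [← MulAut.conj_apply, map_zpow, MulAut.conj_apply, ← hu, ← zpow_mul, mul_comm]
  have hpu : (p : ℤ) ∣ u - 1 := by
    by_contra hnd
    have hcop : IsCoprime ((p ^ e : ℕ) : ℤ) (u - 1) := by
      push_cast
      exact ((Nat.prime_iff_prime_int.1 hp.out).coprime_iff_not_dvd.2 hnd).pow_left
    rcases h with ⟨x, hx, hx1, hfix⟩ | ⟨T, hT, hcomm⟩
    · obtain ⟨i, rfl⟩ := hgen x hx
      rw [hconj] at hfix
      apply hx1
      rw [hzero]
      refine hcop.dvd_of_dvd_mul_right ?_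
      rw [← hzero, mul_sub, mul_one, zpow_sub, hfix, mul_inv_cancel]
    · apply hT
      have hmem : g' ^ (u - 1) ∈ T := by
        have := hcomm g' g.2
        rw [← hu] at this
        rwa [zpow_sub, zpow_one]
      obtain ⟨a, b, hab⟩ := hcop
      intro x hx
      obtain ⟨i, rfl⟩ := hgen x hx
      refine T.zpow_mem ?_ i
      have : g' = (g' ^ (u - 1)) ^ b := by
        rw [← zpow_mul]
        conv_lhs => rw [← zpow_one g', ← hab, zpow_add, (hzero (a * _)).2 (dvd_mul_left _ _), one_mul]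
        rw [mul_comm]
      rw [this]
      exact T.zpow_mem hmem b
  set b := orderOf n / p ^ (orderOf n).factorization p with hb
  have hnb : n ^ b ∈ (P : Subgroup G) := by
    have ho : orderOf (n ^ b) = p ^ (orderOf n).factorization p := by
      rw [hb, orderOf_pow_of_dvd (Nat.ordCompl_pos p (orderOf_pos n).ne').ne' (Nat.ordCompl_dvd _ _)]
      exact Nat.div_div_self (Nat.ordProj_dvd _ _) (orderOf_pos n).ne'
    have hz : IsPGroup p (Subgroup.zpowers (n ^ b)) := IsPGroup.of_card (by rw [Nat.card_zpowers, ho])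
    have : n ^ b ∈ Subgroup.zpowers (n ^ b) ⊓ Subgroup.normalizer ((P : Subgroup G) : Set G) :=
      ⟨Subgroup.mem_zpowers _, Subgroup.pow_mem _ hn b⟩
    have e : Subgroup.zpowers (n ^ b) ⊓ Subgroup.normalizer ((P : Subgroup G) : Set G) =
        Subgroup.zpowers (n ^ b) ⊓ P := hz.inf_normalizer_sylow P
    rw [e] at this
    exact this.2
  have hpow : ∀ k : ℕ, n ^ k * g' * (n ^ k)⁻¹ = g' ^ (u ^ k) := by
    intro k
    induction k with
    | zero => simp
    | succ k ih =>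
      rw [pow_succ' n k]
      calc n * n ^ k * g' * (n * n ^ k)⁻¹ = n * (n ^ k * g' * (n ^ k)⁻¹) * n⁻¹ := by group
        _ = g' ^ (u ^ (k + 1)) := by rw [ih, hconj, pow_succ]
  have hub : (u : ZMod (p ^ e)) ^ b = 1 := by
    obtain ⟨i, hi⟩ := hgen _ hnb
    have h1 := hpow b
    rw [← hi, ← zpow_one g', ← zpow_mul, ← zpow_add, ← zpow_neg, ← zpow_add] at h1
    rw [← zpow_mul, one_mul, one_mul, show i + 1 + -i = 1 by ring] at h1
    have h3 : g' ^ (1 - u ^ b : ℤ) = 1 := by rw [zpow_sub, ← h1, mul_inv_cancel]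
    rw [hzero, ← ZMod.intCast_zmod_eq_zero_iff_dvd] at h3
    push_cast at h3
    exact (sub_eq_zero.1 h3).symm
  have hupe : (u : ZMod (p ^ e)) ^ (p ^ e) = 1 := by
    have h1 : ((p ^ e : ℕ) : ℤ) ∣ u ^ (p ^ e) - 1 := by
      have h2 := dvd_sub_pow_of_dvd_sub hpu e
      rw [one_pow] at h2
      exact (dvd_trans (by push_cast; exact pow_dvd_pow _ e.le_succ) h2)
    rw [← ZMod.intCast_zmod_eq_zero_iff_dvd] at h1
    push_cast at h1
    exact sub_eq_zero.1 h1
  have hu1 : (u : ZMod (p ^ e)) = 1 := by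
    have hc : Nat.gcd b (p ^ e) = 1 := by
      refine ((Nat.coprime_ordCompl hp.out (orderOf_pos n).ne').pow_left e).symm
    have := (pow_gcd_eq_one (a := (u : ZMod (p ^ e))) (m := b) (n := p ^ e)).2 ⟨hub, hupe⟩
    rwa [hc, pow_one] at this
  have hfin : n * g' * n⁻¹ = g' := by
    rw [← hu]
    have h3 : ((p ^ e : ℕ) : ℤ) ∣ u - 1 := by
      rw [← ZMod.intCast_zmod_eq_zero_iff_dvd]
      push_cast
      rw [hu1, sub_self]
    rw [← hzero, zpow_sub, zpow_one, mul_inv_eq_one] at h3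
    exact h3
  rw [Subgroup.mem_centralizer_iff]
  intro x hx
  obtain ⟨i, rfl⟩ := hgen x hx
  exact ((show Commute n g' from mul_inv_eq_iff_eq_mul.1 hfin).zpow_right i).eq.symm

end Cfsg.Agent.H74Basic
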