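import Cfsg.Agent.Lib.BlockAbelianSylowMain86
import Cfsg.Agent.Lib.CharKernel
import Cfsg.Agent.Lib.ZStarCount
import Cfsg.Agent.Lib.H74Basic

/-!
# Pairs of elements of order `p` and cyclic Sylow `p`-subgroups

A class multiplication count over the principal block: if a group with cyclic Sylow `p`-subgroup
has no nontrivial proper normal subgroup, the proportion of pairs of elements of order `p` whose
product has `p`-part of order `p` cannot be `(p - 2) / (p - 1)`.
-/

set_option autoImplicit false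

open scoped ComplexConjugate IsMulCommutative

namespace Cfsg.Agent.CyclicSylowPairs35

open Cfsg Cfsg.Agent.BlockTheoryCentre Cfsg.Agent.BlockPrincipal81 Cfsg.Agent.CharBasic
  Cfsg.Agent.CharBasicOrth Cfsg.Agent.BlockAbelianSylow86 Cfsg.Agent.BlockTheoryIdem

attribute [local instance] Classical.propDecidable

universe u

variable {G : Type u} [Group G] [Fintype G] {p : ℕ} [Fact p.Prime]

/-- The elements of order `p` of `P`. -/
noncomputable def ordP (P : Sylow p G) [Fintype ↥(P : Subgroup G)] : Finset ↥(P : Subgroup G) :=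
  Finset.univ.filter fun y => orderOf y = p

/-- The sum of a function over the elements of order `p` of `P`. -/
noncomputable def sumP (P : Sylow p G) [Fintype ↥(P : Subgroup G)] (χ : G → ℂ) : ℂ :=
  ∑ y ∈ ordP P, χ y

variable (P : Sylow p G) [Fintype ↥(P : Subgroup G)]

theorem mem_ordP {y : ↥(P : Subgroup G)} : y ∈ ordP P ↔ orderOf y = p := by simp [ordP]

theorem ne_one_of_mem {y : ↥(P : Subgroup G)} (hy : y ∈ ordP P) : y ≠ 1 := fun h => by
  rw [mem_ordP, h, orderOf_one] at hy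
  exact (Fact.out : p.Prime).ne_one hy.symm

variable (hcyc : IsCyclic ↥(P : Subgroup G))
include hcyc

omit [Fintype ↥(P : Subgroup G)] in
theorem abelian : IsMulCommutative (P : Subgroup G) :=
  ⟨⟨fun a b => by letI := hcyc.commGroup; exact mul_comm a b⟩⟩

theorem card_ordP (hpG : p ∣ Nat.card G) : (ordP P).card = p - 1 := by
  have hd : p ∣ Fintype.card ↥(P : Subgroup G) := by
    rw [← Nat.card_eq_fintype_card]
    exact P.dvd_card_of_dvd_card hpG
  rw [ordP, IsCyclic.card_orderOf_eq_totient hd, Nat.totient_prime Fact.out]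

theorem exists_pow {x z : ↥(P : Subgroup G)} (hx : orderOf x = p) (hz : z ^ p = 1) :
    ∃ i < p, x ^ i = z := by
  set A := (Finset.range p).image fun i => x ^ i
  set B := Finset.univ.filter fun a : ↥(P : Subgroup G) => a ^ p = 1
  have hsub : A ⊆ B := fun a ha => by
    obtain ⟨i, -, rfl⟩ := Finset.mem_image.1 ha
    exact Finset.mem_filter.2 ⟨Finset.mem_univ _,
      by rw [← pow_mul, mul_comm, pow_mul, orderOf_dvd_iff_pow_eq_one.1 hx.dvd, one_pow]⟩
  have hA : A.card = p := by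
    rw [Finset.card_image_of_injOn, Finset.card_range]
    intro i hi j hj h
    exact pow_injOn_Iio_orderOf (by simpa [hx] using hi) (by simpa [hx] using hj) h
  have hB : B.card ≤ p := IsCyclic.card_pow_eq_one_le (Fact.out : p.Prime).pos
  have hAB : A = B := Finset.eq_of_subset_of_card_le hsub (by omega)
  have hzB : z ∈ A := hAB ▸ Finset.mem_filter.2 ⟨Finset.mem_univ z, hz⟩
  simpa [A] using hzB

/-- The value of the sum of a linear character over the elements of order `p`. -/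
noncomputable def signP (x : ↥(P : Subgroup G)) (ψ : ↥(P : Subgroup G) →* ℂˣ) : ℤ :=
  if ψ x = 1 then (p : ℤ) - 1 else -1

theorem sum_linear (hpG : p ∣ Nat.card G) {x : ↥(P : Subgroup G)} (hx : orderOf x = p)
    (ψ : ↥(P : Subgroup G) →* ℂˣ) :
    ∑ y ∈ ordP P, (ψ y : ℂ) = (signP P x ψ : ℂ) := by
  have hU : ordP P = (Finset.Ico 1 p).image fun i => x ^ i := by
    refine (Finset.eq_of_subset_of_card_le ?_ ?_).symm
    · intro a ha
      obtain ⟨i, hi, rfl⟩ := Finset.mem_image.1 ha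
      rw [Finset.mem_Ico] at hi
      rw [mem_ordP, Nat.Coprime.orderOf_pow, hx]
      rw [hx]
      exact ((Fact.out : p.Prime).coprime_iff_not_dvd).2 fun h =>
        absurd (Nat.le_of_dvd (by omega) h) (by omega)
    · rw [Finset.card_image_of_injOn, Nat.card_Ico, card_ordP P hcyc hpG]
      intro i hi j hj h
      simp only [Finset.coe_Ico, Set.mem_Ico] at hi hj
      exact pow_injOn_Iio_orderOf (by simpa [hx] using hi.2) (by simpa [hx] using hj.2) h
  rw [hU, Finset.sum_image]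
  · have h1 : ∑ i ∈ Finset.range p, ((ψ x : ℂ)) ^ i =
        1 + ∑ i ∈ Finset.Ico 1 p, ((ψ x : ℂ)) ^ i := by
      rw [Finset.range_eq_Ico, Finset.sum_eq_sum_Ico_succ_bot (Fact.out : p.Prime).pos, pow_zero]
    rw [Finset.sum_congr rfl fun i _ => show (ψ (x ^ i) : ℂ) = (ψ x : ℂ) ^ i by
      rw [map_pow, Units.val_pow_eq_pow_val]]
    rw [signP]
    split_ifs with h
    · simp [h, Nat.cast_sub (Fact.out : p.Prime).one_le]
    · have hne : (ψ x : ℂ) ≠ 1 := fun h' => h (Units.ext h')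
      have hp1 : (ψ x : ℂ) ^ p = 1 := by
        rw [← Units.val_pow_eq_pow_val, ← map_pow, orderOf_dvd_iff_pow_eq_one.1 hx.dvd, map_one, Units.val_one]
      rw [geom_sum_eq hne, hp1, sub_self, zero_div] at h1
      push_cast
      linear_combination h1.symm
  · intro i hi j hj h
    simp only [Finset.coe_Ico, Set.mem_Ico] at hi hj
    exact pow_injOn_Iio_orderOf (by simpa [hx] using hi.2) (by simpa [hx] using hj.2) h

theorem free : FreeAction P := by
  intro y hy hy1
  ext n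
  rw [Subgroup.mem_inf]
  refine ⟨fun h => H74Basic.centralizes P hcyc h.2 (Or.inl ⟨y, hy, hy1, ?_⟩), fun h => ⟨?_, ?_⟩⟩
  · exact mul_inv_eq_iff_eq_mul.2 (Subgroup.mem_centralizer_singleton_iff.1 h.1)
  · exact Subgroup.mem_centralizer_singleton_iff.2 (Subgroup.mem_centralizer_iff.1 h y hy).symm
  · exact Subgroup.centralizer_le_normalizer _ h

section Block

variable {M : Ideal AlgInt} (hM : IsPModular p M) (m : ℕ)
  (hm : (Subgroup.centralizer ((P : Subgroup G) : Set G)).relIndex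
    (Subgroup.normalizer ((P : Subgroup G) : Set G)) = m)
include hm

theorem card_fusion {y : ↥(P : Subgroup G)} (hy : y ∈ ordP P) :
    ((ordP P).filter fun z => ∃ n, conjP P n y = z).card = m := by
  haveI : Fintype ↥(Subgroup.normalizer ((P : Subgroup G) : Set G)) := Fintype.ofFinite _
  have hab := abelian P hcyc
  have hfree := free P hcyc
  have h := Finset.card_eq_sum_card_fiberwise (f := fun n => conjP P n y)
    (s := (Finset.univ : Finset ↥(Subgroup.normalizer ((P : Subgroup G) : Set G))))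
    (t := (ordP P).filter fun z => ∃ n, conjP P n y = z) (fun n _ => by
      simp only [Finset.coe_filter, Set.mem_ofPred_eq]
      refine ⟨(mem_ordP P).2 ?_, n, rfl⟩
      rw [MulEquiv.orderOf_eq, (mem_ordP P).1 hy])
  have h' := congrArg (fun k : ℕ => (k : ℂ)) h
  simp only [Nat.cast_sum] at h'
  rw [Finset.sum_congr rfl fun z hz => (count_conj hab hfree (ne_one_of_mem P hy)).trans
      (if_pos (Finset.mem_filter.1 hz).2),
    Finset.sum_const, nsmul_eq_mul, Finset.card_univ, ← Nat.card_eq_fintype_card,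
    ← card_kerN' m hm, mul_comm] at h'
  have h'' := (mul_right_cancel₀ (Nat.cast_ne_zero.2 Nat.card_pos.ne') h').symm
  norm_cast at h''
  convert h''

theorem index_le (hpG : p ∣ Nat.card G) : m ≤ p - 1 := by
  have hc := card_ordP P hcyc hpG
  obtain ⟨y, hy⟩ : (ordP P).Nonempty := Finset.card_pos.1 (by
    have := (Fact.out : p.Prime).two_le
    omega)
  rw [← card_fusion P hcyc m hm hy, ← hc]
  exact Finset.card_filter_le _ _

omit hm in
/-- The sum of an irreducible character over the elements of order `p` through multiplicities. -/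
theorem sumP_eq [Fintype (↥(P : Subgroup G) →* ℂˣ)] (hpG : p ∣ Nat.card G) {x : ↥(P : Subgroup G)}
    (hx : orderOf x = p) (χ : IrrCharacter G) :
    sumP P (χ : G → ℂ) = ((∑ ψ, mult P χ ψ * signP P x ψ : ℤ) : ℂ) := by
  rw [sumP, Finset.sum_congr rfl fun y hy => apply_eq_sum_mult (abelian P hcyc) χ (ne_one_of_mem P hy),
    Finset.sum_comm, Int.cast_sum]
  refine Finset.sum_congr rfl fun ψ _ => ?_
  rw [← Finset.mul_sum, sum_linear P hcyc hpG hx, Int.cast_mul]

omit hm in
theorem exists_multiplicity [Fintype (↥(P : Subgroup G) →* ℂˣ)] (χ : IrrCharacter G) :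
    ∃ a : ℕ, (∀ ψ, 0 ≤ (a : ℤ) + mult P χ ψ) ∧
      (charDegree (χ : G → ℂ) : ℤ) = Nat.card (P : Subgroup G) * (a : ℤ) + ∑ ψ, mult P χ ψ := by
  haveI := abelian P hcyc
  have hc := isCharacter_comap (P : Subgroup G).subtype (isCharacter_of_isIrrCharacter χ.2)
  obtain ⟨a, ha⟩ := classInner_isCharacter hc CharBasicDecomp.isCharacter_one
  have hq : (Nat.card (P : Subgroup G) : ℂ) ≠ 0 := Nat.cast_ne_zero.2 Nat.card_pos.ne'
  simp only [classInner, Function.comp_apply, Subgroup.subtype_apply, map_one, mul_one] at ha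
  refine ⟨a, fun ψ => ?_, ?_⟩
  · obtain ⟨b, hb⟩ := classInner_isCharacter hc (CharBasicDecomp.isCharacter_linear ψ)
    simp only [classInner, Function.comp_apply, Subgroup.subtype_apply] at hb
    have h : ((a : ℤ) + mult P χ ψ : ℤ) = (b : ℤ) := by
      have : ((a : ℂ) + (mult P χ ψ : ℂ)) = (b : ℂ) := by
        rw [← mult_spec, multC, ← ha, ← hb, ← mul_add, ← Finset.sum_add_distrib]
        exact congrArg _ (Finset.sum_congr rfl fun y _ => by ring)
      exact_mod_cast this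
    omega
  · have : (charDegree (χ : G → ℂ) : ℂ) = (Nat.card (P : Subgroup G) : ℂ) * (a : ℂ) +
        ∑ ψ : ↥(P : Subgroup G) →* ℂˣ, (mult P χ ψ : ℂ) := by
      simp only [← mult_spec, multC, ← Finset.mul_sum]
      rw [Finset.sum_comm]
      have e : ∀ y : ↥(P : Subgroup G), ∑ ψ : ↥(P : Subgroup G) →* ℂˣ,
          (χ : G → ℂ) y * (conj (ψ y : ℂ) - 1) =
          (if y = 1 then (χ : G → ℂ) y * (Nat.card (P : Subgroup G) : ℂ) else 0) -
            (Nat.card (P : Subgroup G) : ℂ) * (χ : G → ℂ) y := by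
        intro y
        rw [← Finset.mul_sum, Finset.sum_sub_distrib, Finset.sum_const, nsmul_eq_mul, mul_one,
          Finset.sum_congr rfl fun (ψ : ↥(P : Subgroup G) →* ℂˣ) _ => conj_apply ψ y, sum_dual,
          Finset.card_univ, show Fintype.card (↥(P : Subgroup G) →* ℂˣ) = Nat.card (P : Subgroup G) by
            rw [← Nat.card_eq_fintype_card, CommGroup.card_monoidHom_of_hasEnoughRootsOfUnity]]
        simp only [inv_eq_one, Nat.card_eq_fintype_card]
        split_ifs <;> ring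
      rw [Finset.sum_congr rfl fun y _ => e y, Finset.sum_sub_distrib, Finset.sum_ite_eq',
        if_pos (Finset.mem_univ _), ← Finset.mul_sum, ← ha, OneMemClass.coe_one,
        ClassAlgebraVal.apply_one_eq_charDegree]
      field_simp
      ring
    exact_mod_cast this

include hM in
/-- Each nontrivial character of the principal block has small average on the elements of order `p`. -/
theorem bound [Fintype (↥(P : Subgroup G) →* ℂˣ)] (hpG : p ∣ Nat.card G) (hp : 3 ≤ p) (hm2 : 2 ≤ m)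
    {x : ↥(P : Subgroup G)} (hx : orderOf x = p) {χ : IrrCharacter G}
    (hχ : χ ∈ principalBlock M G) (hne : χ ≠ oneChar G)
    (hfaith : (χ : G → ℂ) x ≠ (χ : G → ℂ) 1) :
    ∃ (s d : ℤ), sumP P (χ : G → ℂ) = s ∧ (χ : G → ℂ) 1 = d ∧ 0 < d ∧
      (5 ≤ p → 2 * s ≤ ((p : ℤ) - 1) * d) ∧
      (p = 3 → 9 ≤ Nat.card (P : Subgroup G) → 4 * s ≤ 3 * d) ∧
      (Nat.card (P : Subgroup G) = 3 → 2 * s ≤ d) := by
  have hab := abelian P hcyc
  have hfree := free P hcyc
  haveI := hab
  obtain ⟨a, ha0, had⟩ := exists_multiplicity P hcyc χ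
  refine ⟨_, (charDegree (χ : G → ℂ) : ℤ), sumP_eq P hcyc hpG hx χ,
    by rw [ClassAlgebraVal.apply_one_eq_charDegree]; norm_num,
    by exact_mod_cast ClassAlgebraVal.charDegree_pos χ, ?_⟩
  set q : ℕ := Nat.card (P : Subgroup G) with hq
  have hcard : Fintype.card (↥(P : Subgroup G) →* ℂˣ) = q := by
    rw [← Nat.card_eq_fintype_card, CommGroup.card_monoidHom_of_hasEnoughRootsOfUnity]
  have hmp := index_le P hcyc m hm hpG
  have hx1 : x ≠ 1 := ne_one_of_mem P ((mem_ordP P).2 hx)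
  -- sums of signs
  have hsum_sign : ∑ ψ : ↥(P : Subgroup G) →* ℂˣ, signP P x ψ = 0 := by
    have h : ((∑ ψ : ↥(P : Subgroup G) →* ℂˣ, signP P x ψ : ℤ) : ℂ) = ((0 : ℤ) : ℂ) := by
      rw [Int.cast_sum, Finset.sum_congr rfl fun ψ _ => (sum_linear P hcyc hpG hx ψ).symm,
        Finset.sum_comm, Int.cast_zero]
      exact Finset.sum_eq_zero fun y hy => by rw [sum_dual, if_neg (ne_one_of_mem P hy)]
    exact_mod_cast h
  have hsign1 : signP P x 1 = (p : ℤ) - 1 := by simp [signP]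
  -- a multiplicity off the kernel
  have hoff : ∃ ψ, ψ x ≠ 1 ∧ 1 ≤ (a : ℤ) + mult P χ ψ := by
    by_contra h
    push Not at h
    apply hfaith
    have hterm : ∀ ψ : ↥(P : Subgroup G) →* ℂˣ,
        (((a : ℤ) + mult P χ ψ : ℤ) : ℂ) * (ψ x : ℂ) = (((a : ℤ) + mult P χ ψ : ℤ) : ℂ) := by
      intro ψ
      by_cases hψ : ψ x = 1
      · rw [hψ]; simp
      · have := h ψ hψ
        have := ha0 ψ
        rw [show (a : ℤ) + mult P χ ψ = 0 by omega]; simp
    have h1 : (χ : G → ℂ) x =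
        ∑ ψ : ↥(P : Subgroup G) →* ℂˣ, (((a : ℤ) + mult P χ ψ : ℤ) : ℂ) * (ψ x : ℂ) := by
      push_cast
      simp only [add_mul, Finset.sum_add_distrib, ← Finset.mul_sum, sum_dual, if_neg hx1, mul_zero,
        zero_add]
      exact apply_eq_sum_mult hab χ hx1
    rw [h1, Finset.sum_congr rfl fun ψ _ => hterm ψ, ← Int.cast_sum, Finset.sum_add_distrib,
      Finset.sum_const, Finset.card_univ, hcard, nsmul_eq_mul, ← had,
      ClassAlgebraVal.apply_one_eq_charDegree]
    norm_num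
  -- squares of multiplicities
  have hsq : ∀ ψ, ψ ≠ 1 → mult P χ ψ ^ 2 ≤ m := by
    intro ψ hψ
    have h := gram hab hfree hM m hm hψ hψ
    rw [if_pos (sameOrbit_refl ψ)] at h
    have h2 : ∑ η ∈ ({oneChar G, χ} : Finset (IrrCharacter G)), mult P η ψ * mult P η ψ ≤
        (m : ℤ) + 1 := by
      refine h ▸ Finset.sum_le_sum_of_subset_of_nonneg ?_ fun η _ _ => mul_self_nonneg _
      intro η hη
      simp only [Finset.mem_insert, Finset.mem_singleton] at hη
      rcases hη with rfl | rfl <;> simp [hχ, oneChar_mem hM]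
    rw [Finset.sum_pair hne.symm, mult_oneChar hab hψ] at h2
    rw [sq]
    linarith
  -- orbits
  have hsign : ∀ ψ φ, SameOrbit P ψ φ → signP P x ψ = signP P x φ := by
    rintro ψ φ ⟨n, rfl⟩
    have ho : orderOf (conjP P n x) = p := by rw [MulEquiv.orderOf_eq, hx]
    obtain ⟨i, -, hi⟩ := exists_pow P hcyc hx (orderOf_dvd_iff_pow_eq_one.1 ho.dvd)
    obtain ⟨j, -, hj⟩ := exists_pow P hcyc ho (orderOf_dvd_iff_pow_eq_one.1 hx.dvd)
    have hiff : act P φ n x = 1 ↔ φ x = 1 := by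
      rw [act_apply]
      constructor
      · intro h; rw [← hj, map_pow, h, one_pow]
      · intro h; rw [← hi, map_pow, h, one_pow]
    simp only [signP, hiff]
  have horb : ∀ ψ, ψ ≠ 1 → (Finset.univ.filter fun φ => SameOrbit P φ ψ).card = m := fun ψ hψ => by
    rw [← Fintype.card_subtype, ← Nat.card_eq_fintype_card, card_orbit hab hfree m hm hψ]
  have hT : (Finset.univ.filter fun φ : ↥(P : Subgroup G) →* ℂˣ => φ ≠ 1).card = q - 1 := by
    rw [Finset.filter_ne', Finset.card_erase_of_mem (Finset.mem_univ _), Finset.card_univ, hcard]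
  have hq1 : 1 ≤ q := Nat.card_pos
  have hmq : m + 1 ≤ q := by
    obtain ⟨ψ, hψ⟩ := hoff
    have hψ1 : ψ ≠ 1 := fun h => hψ.1 (by rw [h]; rfl)
    have hle : (Finset.univ.filter fun φ => SameOrbit P φ ψ).card ≤
        (Finset.univ.filter fun φ : ↥(P : Subgroup G) →* ℂˣ => φ ≠ 1).card := by
      refine Finset.card_le_card fun φ hφ => ?_
      simp only [Finset.mem_filter, Finset.mem_univ, true_and] at hφ ⊢
      exact sameOrbit_one (sameOrbit_symm hφ) hψ1
    rw [horb ψ hψ1, hT] at hle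
    omega
  -- shape of the multiplicities
  have hshape : ∃ (R δ : ℤ) (ψ₀ : ↥(P : Subgroup G) →* ℂˣ), ψ₀ ≠ 1 ∧ (δ = 0 ∨ δ = 1 ∨ δ = -1) ∧
      (δ ≠ 0 → m + 1 < q) ∧
      ∀ ψ, ψ ≠ 1 → mult P χ ψ = R + δ * if SameOrbit P ψ ψ₀ then 1 else 0 := by
    obtain ⟨ψ₁, hψ₁⟩ := hoff
    have hψ₁1 : ψ₁ ≠ 1 := fun h => hψ₁.1 (by rw [h]; rfl)
    rcases hmq.eq_or_lt with heq | hlt
    · refine ⟨mult P χ ψ₁, 0, ψ₁, hψ₁1, Or.inl rfl, fun h => absurd rfl h, fun ψ hψ => ?_⟩
      have hall : SameOrbit P ψ ψ₁ := by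
        have hsub : (Finset.univ.filter fun φ => SameOrbit P φ ψ₁) =
            Finset.univ.filter fun φ : ↥(P : Subgroup G) →* ℂˣ => φ ≠ 1 := by
          refine Finset.eq_of_subset_of_card_le (fun φ hφ => ?_) (by rw [horb ψ₁ hψ₁1, hT]; omega)
          simp only [Finset.mem_filter, Finset.mem_univ, true_and] at hφ ⊢
          exact sameOrbit_one (sameOrbit_symm hφ) hψ₁1
        have : ψ ∈ Finset.univ.filter fun φ : ↥(P : Subgroup G) →* ℂˣ => φ ≠ 1 := by simp [hψ]
        rw [← hsub] at this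
        exact (Finset.mem_filter.1 this).2
      have h11 := gram hab hfree hM m hm hψ hψ
      have h22 := gram hab hfree hM m hm hψ₁1 hψ₁1
      have h12 := gram hab hfree hM m hm hψ hψ₁1
      rw [if_pos (sameOrbit_refl _)] at h11 h22
      rw [if_pos hall] at h12
      have hz : ∑ η ∈ Finset.univ.filter (fun η : IrrCharacter G => η ∈ principalBlock M G),
          (mult P η ψ - mult P η ψ₁) ^ 2 = 0 := by
        rw [Finset.sum_congr rfl fun η _ => show (mult P η ψ - mult P η ψ₁) ^ 2 =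
          mult P η ψ * mult P η ψ + mult P η ψ₁ * mult P η ψ₁ - 2 * (mult P η ψ * mult P η ψ₁) by ring,
          Finset.sum_sub_distrib, Finset.sum_add_distrib, ← Finset.mul_sum, h11, h22, h12]
        ring
      have := (Finset.sum_eq_zero_iff_of_nonneg fun η _ => sq_nonneg _).1 hz χ (by simp [hχ])
      rw [zero_mul, add_zero]
      have := pow_eq_zero_iff (n := 2) (by norm_num) |>.1 this
      omega
    · obtain ⟨ζ, δ, R, c, hδ, -, hinj, hw⟩ := exists_shape hab hfree hM m hm hlt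
      by_cases hz : ∃ ψ₀, ψ₀ ≠ 1 ∧ χ = ζ ψ₀
      · obtain ⟨ψ₀, hψ₀, he⟩ := hz
        refine ⟨R χ, δ, ψ₀, hψ₀, Or.inr hδ, fun _ => hlt, fun ψ hψ => ?_⟩
        rw [hw ψ hψ χ hχ]
        by_cases h : SameOrbit P ψ ψ₀
        · rw [if_pos h, if_pos (he.trans ((hinj ψ hψ ψ₀ hψ₀).2 h).symm)]
        · rw [if_neg h, if_neg fun h' => h ((hinj ψ hψ ψ₀ hψ₀).1 (h'.symm.trans he))]
      · refine ⟨R χ, 0, ψ₁, hψ₁1, Or.inl rfl, fun h => absurd rfl h, fun ψ hψ => ?_⟩
        rw [hw ψ hψ χ hχ, if_neg fun h => hz ⟨ψ, hψ, h⟩]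
        ring
  obtain ⟨R, δ, ψ₀, hψ₀, hδ, hlt, hw⟩ := hshape
  -- evaluate the sums
  have hval : ∀ f : (↥(P : Subgroup G) →* ℂˣ) → ℤ,
      ∑ ψ, mult P χ ψ * f ψ = R * (∑ ψ, f ψ - f 1) +
        δ * ∑ ψ ∈ Finset.univ.filter (fun φ => SameOrbit P φ ψ₀), f ψ := by
    intro f
    rw [← Finset.add_sum_erase _ _ (Finset.mem_univ (1 : ↥(P : Subgroup G) →* ℂˣ)), mult_trivial,
      zero_mul, zero_add, ← Finset.sum_erase_eq_sub (Finset.mem_univ _),
      Finset.sum_congr rfl fun ψ hψ => show mult P χ ψ * f ψ =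
        R * f ψ + δ * if SameOrbit P ψ ψ₀ then f ψ else 0 by
          rw [hw ψ (Finset.ne_of_mem_erase hψ)]; split_ifs <;> ring,
      Finset.sum_add_distrib, ← Finset.mul_sum, ← Finset.mul_sum, Finset.sum_filter,
      ← Finset.add_sum_erase _ (fun ψ => if SameOrbit P ψ ψ₀ then f ψ else 0) (Finset.mem_univ 1),
      if_neg fun h : SameOrbit P 1 ψ₀ => sameOrbit_one (sameOrbit_symm h) hψ₀ rfl, zero_add]
  have hs : ∑ ψ, mult P χ ψ * signP P x ψ = -(R * ((p : ℤ) - 1)) + δ * (m * signP P x ψ₀) := by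
    rw [hval, hsum_sign, hsign1, Finset.sum_congr rfl fun ψ hψ =>
      hsign ψ ψ₀ (Finset.mem_filter.1 hψ).2, Finset.sum_const, horb ψ₀ hψ₀, nsmul_eq_mul]
    ring
  have hd : ∑ ψ, mult P χ ψ = R * ((q : ℤ) - 1) + δ * m := by
    have h := hval fun _ => 1
    simp only [mul_one, Finset.sum_const, Finset.card_univ, hcard, horb ψ₀ hψ₀, nsmul_eq_mul] at h
    exact h
  rw [hd] at had
  rw [hs, had]
  -- the generic multiplicity
  obtain ⟨g, hg⟩ : ∃ g : ℤ, (a : ℤ) + R = g := ⟨_, rfl⟩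
  have ha' : (a : ℤ) = g - R := by omega
  have hqn : ∃ n : ℕ, q = p ^ n := IsPGroup.iff_card.1 P.isPGroup'
  have hpq : p ≤ q := Nat.le_of_dvd Nat.card_pos (P.dvd_card_of_dvd_card hpG)
  have hor : q = p ∨ p * p ≤ q := by
    obtain ⟨n, hn⟩ := hqn
    rcases n with _ | _ | n
    · rw [hn] at hpq; simp at hpq; omega
    · exact Or.inl (by rw [hn, zero_add, pow_one])
    · right
      rw [hn, ← sq]
      exact Nat.pow_le_pow_right (Fact.out : p.Prime).pos (by omega)
  obtain ⟨ψ₂, hψ₂x, hψ₂⟩ := hoff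
  have hψ₂1 : ψ₂ ≠ 1 := fun h => hψ₂x (by rw [h]; rfl)
  rw [hw ψ₂ hψ₂1, ← add_assoc, hg] at hψ₂
  rw [ha', show (q : ℤ) * (g - R) + (R * ((q : ℤ) - 1) + δ * m) = q * g - R + δ * m by ring]
  have hR2 : ∀ R' : ℤ, R' ^ 2 ≤ m → -R' ≤ m := fun R' h => by nlinarith
  -- the bound on the generic multiplicity
  by_cases hδ0 : δ = 0
  · subst hδ0
    simp only [zero_mul, add_zero] at hψ₂ ⊢
    have hR : R ^ 2 ≤ m := by
      have := hsq ψ₂ hψ₂1
      rw [hw ψ₂ hψ₂1] at this
      simpa using this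
    have hRm := hR2 R hR
    have hR1 : p = 3 → -R ≤ 1 := fun h => by
      have : m = 2 := by omega
      subst this
      push_cast at hR
      nlinarith
    have hqg : (q : ℤ) ≤ q * g := le_mul_of_one_le_right (by positivity) hψ₂
    refine ⟨fun h5 => ?_, fun h3 hq9 => ?_, fun hq3 => ?_⟩
    · nlinarith
    · have := hR1 h3; subst h3; push_cast; omega
    · have h3 : p = 3 := by omega
      have := hR1 h3; subst h3; push_cast; omega
  · have hlt' := hlt hδ0
    have hδ' : δ = 1 ∨ δ = -1 := by omega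
    have hR : R ^ 2 ≤ m ∧ 0 ≤ g := by
      obtain ⟨φ, hφ1, hφ⟩ : ∃ φ, φ ≠ 1 ∧ ¬ SameOrbit P φ ψ₀ := by
        by_contra h
        push Not at h
        have hle : (Finset.univ.filter fun φ : ↥(P : Subgroup G) →* ℂˣ => φ ≠ 1).card ≤
            (Finset.univ.filter fun φ => SameOrbit P φ ψ₀).card :=
          Finset.card_le_card fun φ hφ => by
            simp only [Finset.mem_filter, Finset.mem_univ, true_and] at hφ ⊢
            exact h φ hφ
        rw [horb ψ₀ hψ₀, hT] at hle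
        omega
      have h1 := hsq φ hφ1
      have h2 := ha0 φ
      rw [hw φ hφ1, if_neg hφ, mul_zero, add_zero] at h1 h2
      exact ⟨h1, by omega⟩
    obtain ⟨hR, hg0⟩ := hR
    have hRm := hR2 R hR
    have hR1 : p = 3 → -R ≤ 1 := fun h => by
      have : m = 2 := by omega
      subst this
      push_cast at hR
      nlinarith
    have hm0 : (2 : ℤ) ≤ m := by exact_mod_cast hm2
    have hmp' : (m : ℤ) ≤ p - 1 := by omega
    by_cases htriv : ψ₀ x = 1
    · -- the orbit is trivial on the elements of order `p`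
      have hq2 : p * p ≤ q := by
        refine hor.resolve_left fun hqp => hψ₀ (MonoidHom.ext fun y => ?_)
        obtain ⟨i, -, rfl⟩ := exists_pow P hcyc hx (z := y) (orderOf_dvd_iff_pow_eq_one.1 ((orderOf_dvd_natCard y).trans (dvd_of_eq hqp)))
        rw [map_pow, htriv, one_pow, MonoidHom.one_apply]
      have hg1 : 1 ≤ g := by
        rw [if_neg] at hψ₂
        · linarith
        · intro h
          have h' := hsign _ _ h
          simp only [signP, if_pos htriv, if_neg hψ₂x] at h'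
          omega
      have hqg : (q : ℤ) ≤ q * g := le_mul_of_one_le_right (by positivity) hg1
      simp only [signP, if_pos htriv]
      have hq2' : (p : ℤ) * p ≤ q := by exact_mod_cast hq2
      refine ⟨fun h5 => ?_, fun h3 hq9 => ?_, fun hq3 => ?_⟩
      · rcases hδ' with rfl | rfl <;> nlinarith
      · have := hR1 h3
        subst h3
        push_cast
        rcases hδ' with rfl | rfl <;> omega
      · exfalso; nlinarith
    · simp only [signP, if_neg htriv]
      have h2m : 2 * m + 1 ≤ q := by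
        obtain ⟨X, Y, a', d', δ', ζ', -, -, -, hY, hY2, -⟩ := structure_theorem hab hfree hM m hm hlt'
        nlinarith
      have hgδ : 1 ≤ g ∨ (g = 0 ∧ δ = 1) := by
        by_cases h : SameOrbit P ψ₂ ψ₀
        · rw [if_pos h, mul_one] at hψ₂; omega
        · rw [if_neg h, mul_zero, add_zero] at hψ₂; omega
      refine ⟨fun h5 => ?_, fun h3 hq9 => ?_, fun hq3 => ?_⟩
      · rcases hgδ with hg1 | ⟨hg1, rfl⟩
        · have hqg : (q : ℤ) ≤ q * g := le_mul_of_one_le_right (by positivity) hg1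
          rcases hor with hqp | hq2
          · have : 2 * (m : ℤ) + 1 ≤ p := by exact_mod_cast hqp ▸ h2m
            rcases hδ' with rfl | rfl <;> nlinarith
          · have hq2' : (p : ℤ) * p ≤ q := by exact_mod_cast hq2
            rcases hδ' with rfl | rfl <;> nlinarith
        · subst hg1; nlinarith
      · have := hR1 h3
        subst h3
        push_cast
        rcases hgδ with hg1 | ⟨hg1, rfl⟩
        · have hqg : (q : ℤ) ≤ q * g := le_mul_of_one_le_right (by positivity) hg1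
          rcases hδ' with rfl | rfl <;> omega
        · subst hg1; omega
      · exfalso; omega

end Block

/-- The elements whose `p`-part has order `p`. -/
def HasOrdPart (p : ℕ) (z : G) : Prop := ∃ x, IsPPart p z x ∧ orderOf x = p

section Count

variable {M : Ideal AlgInt} (hM : IsPModular p M) (m : ℕ)
  (hm : (Subgroup.centralizer ((P : Subgroup G) : Set G)).relIndex
    (Subgroup.normalizer ((P : Subgroup G) : Set G)) = m)

omit hcyc in
theorem conj_sumP (χ : IrrCharacter G) : conj (sumP P (χ : G → ℂ)) = sumP P (χ : G → ℂ) := by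
  rw [sumP, map_sum]
  refine Finset.sum_nbij' (fun y => y⁻¹) (fun y => y⁻¹) ?_ ?_ (fun a _ => inv_inv a)
    (fun a _ => inv_inv a) ?_
  · intro a ha; simpa [mem_ordP] using ha
  · intro a ha; simpa [mem_ordP] using ha
  · intro a _; simp only [InvMemClass.coe_inv, irr_inv]

include hM hm in
/-- Column orthogonality summed over the elements of order `p`. -/
theorem column_sumP {y₀ : ↥(P : Subgroup G)} (hy₀ : y₀ ≠ 1) :
    ∑ χ ∈ Finset.univ.filter (fun χ : IrrCharacter G => χ ∈ principalBlock M G),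
      sumP P (χ : G → ℂ) * (χ : G → ℂ) y₀ =
      if orderOf y₀ = p then (Nat.card (P : Subgroup G) : ℂ) * m else 0 := by
  have hab := abelian P hcyc
  have hfree := free P hcyc
  rw [Finset.sum_congr rfl fun (χ : IrrCharacter G) _ => show sumP P (χ : G → ℂ) * (χ : G → ℂ) y₀ =
      ∑ y ∈ ordP P, (χ : G → ℂ) y₀ * conj ((χ : G → ℂ) y) by
    rw [← conj_sumP P, sumP, map_sum, Finset.sum_mul]
    exact Finset.sum_congr rfl fun y _ => mul_comm _ _, Finset.sum_comm]
  rw [Finset.sum_congr rfl fun y hy => (Finset.sum_filter _ _).trans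
    (column hab hfree hM y₀.2 (coe_ne_one hy₀) y.2 (coe_ne_one (ne_one_of_mem P hy)))]
  rw [← Finset.sum_filter, Finset.sum_const, nsmul_eq_mul]
  have hiff : ∀ y : ↥(P : Subgroup G), (∃ n ∈ Subgroup.normalizer ((P : Subgroup G) : Set G),
      n * (y₀ : G) * n⁻¹ = (y : G)) ↔ ∃ n, conjP P n y₀ = y := fun y =>
    ⟨fun ⟨n, hn, h⟩ => ⟨⟨n, hn⟩, Subtype.ext h⟩, fun ⟨n, h⟩ => ⟨n, n.2, congrArg Subtype.val h⟩⟩
  split_ifs with h
  · rw [Finset.filter_congr fun y _ => hiff y]
    have := card_fusion P hcyc m hm ((mem_ordP P).2 h)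
    rw [mul_comm]
    congr 2
  · rw [Finset.filter_eq_empty_iff.2, Finset.card_empty, Nat.cast_zero, zero_mul]
    intro y hy hn
    obtain ⟨n, hn⟩ := (hiff y).1 hn
    rw [mem_ordP, ← hn, MulEquiv.orderOf_eq] at hy
    exact h hy

include hM hm in
/-- The expansion of the indicator of the elements whose `p`-part has order `p`. -/
theorem expansion (z : G) :
    ∑ χ ∈ Finset.univ.filter (fun χ : IrrCharacter G => χ ∈ principalBlock M G),
      sumP P (χ : G → ℂ) * (χ : G → ℂ) z =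
      if HasOrdPart p z then (Nat.card (P : Subgroup G) : ℂ) * m else 0 := by
  have hab := abelian P hcyc
  have hfree := free P hcyc
  have hpp : p.Prime := Fact.out
  by_cases hz : p ∣ orderOf z
  · obtain ⟨x', r, hxr, hcm, ⟨j, hj⟩, hr⟩ := exists_pPart hpp z
    have hxne : x' ≠ 1 := by
      rintro rfl
      rw [one_mul] at hxr
      exact hr (hxr.symm ▸ hz)
    have hxp : IsPGroup p (Subgroup.zpowers x') :=
      IsPGroup.iff_card.2 ⟨j, by rw [Nat.card_zpowers, hj]⟩
    obtain ⟨Q, hQ⟩ := hxp.exists_le_sylow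
    obtain ⟨a, ha⟩ := MulAction.exists_smul_eq G Q P
    have hxP : a * x' * a⁻¹ ∈ (P : Subgroup G) := by
      rw [← ha, Sylow.coe_subgroup_smul]
      exact ⟨x', hQ (Subgroup.mem_zpowers x'), rfl⟩
    have hne : a * x' * a⁻¹ ≠ 1 := fun h' => hxne (conj_eq_one_iff.1 h')
    have hoy : orderOf (⟨a * x' * a⁻¹, hxP⟩ : ↥(P : Subgroup G)) = orderOf x' := by
      rw [Subgroup.orderOf_mk]
      exact orderOf_injective (MulAut.conj a).toMonoidHom (MulAut.conj a).injective x'
    have hpart : IsPPart p (a * (x' * r) * a⁻¹) (a * x' * a⁻¹) := ⟨a * r * a⁻¹, by group,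
        hcm.map (MulAut.conj a).toMonoidHom,
        ⟨j, hj ▸ orderOf_injective (MulAut.conj a).toMonoidHom (MulAut.conj a).injective x'⟩,
        (orderOf_injective (MulAut.conj a).toMonoidHom (MulAut.conj a).injective r).symm ▸ hr⟩
    have hval : ∀ χ ∈ Finset.univ.filter (fun χ : IrrCharacter G => χ ∈ principalBlock M G),
        sumP P (χ : G → ℂ) * (χ : G → ℂ) z = sumP P (χ : G → ℂ) *
          (χ : G → ℂ) ((⟨a * x' * a⁻¹, hxP⟩ : ↥(P : Subgroup G)) : G) := fun χ hχ => by
      rw [← irr_classFun χ z a, ← hxr,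
        apply_eq hab hfree hM hpart hxP hne (Finset.mem_filter.1 hχ).2]
    rw [Finset.sum_congr rfl hval, column_sumP P hcyc hM m hm
      (fun h => hne (congrArg Subtype.val h)), hoy]
    refine if_congr ⟨fun h => ⟨x', ⟨r, hxr, hcm, ⟨j, hj⟩, hr⟩, h⟩, ?_⟩ rfl rfl
    rintro ⟨w, hw, hwo⟩
    rw [pPart_unique hpp (g := z) ⟨r, hxr, hcm, ⟨j, hj⟩, hr⟩ hw]
    exact hwo
  · rw [if_neg]
    · rw [Finset.sum_congr rfl fun (χ : IrrCharacter G) _ => show sumP P (χ : G → ℂ) * (χ : G → ℂ) z =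
          ∑ y ∈ ordP P, (χ : G → ℂ) z * conj ((χ : G → ℂ) y) by
        rw [← conj_sumP P, sumP, map_sum, Finset.sum_mul]
        exact Finset.sum_congr rfl fun y _ => mul_comm _ _, Finset.sum_comm]
      refine Finset.sum_eq_zero fun y hy => ?_
      rw [Finset.sum_filter]
      exact weak_orthogonality hM isPBlock_principal hz
        (singular y.2 (coe_ne_one (ne_one_of_mem P hy)))
    · rintro ⟨w, hw, hwo⟩
      have := pPart_unique hpp hw (x' := 1) ⟨z, one_mul z, Commute.one_left z, ⟨0, by simp⟩, hz⟩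
      rw [this, orderOf_one] at hwo
      exact hpp.ne_one hwo.symm

/-- Summing an irreducible character over the elements of order `p` of `G`. -/
theorem sum_ordG (hpG : p ∣ Nat.card G) {χ : G → ℂ} (hχ : IsClassFunction G χ) :
    (((p - 1 : ℕ) : ℂ)) * ∑ g ∈ Finset.univ.filter (fun g : G => orderOf g = p), χ g =
      ((Finset.univ.filter fun g : G => orderOf g = p).card : ℂ) * sumP P χ := by
  set T := Finset.univ.filter (fun g : G => orderOf g = p) with hT
  set φ : G × ↥(P : Subgroup G) → G := fun gy => gy.1 * gy.2 * gy.1⁻¹ with hφ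
  set S := (Finset.univ : Finset G) ×ˢ ordP P with hS
  have hoconj : ∀ (g x : G), orderOf (g * x * g⁻¹) = orderOf x := fun g x =>
    orderOf_injective (MulAut.conj g).toMonoidHom (MulAut.conj g).injective x
  have hmaps : ∀ gy ∈ S, φ gy ∈ T := by
    rintro ⟨g, y⟩ h
    rw [hS, Finset.mem_product] at h
    rw [hT, Finset.mem_filter, hφ]
    refine ⟨Finset.mem_univ _, ?_⟩
    dsimp only
    rw [hoconj, Subgroup.orderOf_coe, (mem_ordP P).1 h.2]
  have hconjP : ∀ z ∈ T, ∃ g : G, ∃ y ∈ ordP P, g * (y : G) * g⁻¹ = z := by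
    intro z hz
    have hz' : orderOf z = p := (Finset.mem_filter.1 hz).2
    have hzp : IsPGroup p (Subgroup.zpowers z) :=
      IsPGroup.iff_card.2 ⟨1, by rw [Nat.card_zpowers, hz', pow_one]⟩
    obtain ⟨Q, hQ⟩ := hzp.exists_le_sylow
    obtain ⟨a, ha⟩ := MulAction.exists_smul_eq G Q P
    have hzP : a * z * a⁻¹ ∈ (P : Subgroup G) := by
      rw [← ha, Sylow.coe_subgroup_smul]
      exact ⟨z, hQ (Subgroup.mem_zpowers z), rfl⟩
    refine ⟨a⁻¹, ⟨_, hzP⟩, ?_, by group⟩
    rw [mem_ordP, Subgroup.orderOf_mk, hoconj, hz']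
  have hfib : ∀ z ∈ T, ∀ z' ∈ T,
      (S.filter fun gy => φ gy = z).card ≤ (S.filter fun gy => φ gy = z').card := by
    intro z hz z' hz'
    obtain ⟨h, y, hy, rfl⟩ := hconjP z hz
    obtain ⟨h', y', hy', rfl⟩ := hconjP z' hz'
    obtain ⟨i, -, hi⟩ := exists_pow P hcyc ((mem_ordP P).1 hy)
      (orderOf_dvd_iff_pow_eq_one.1 ((mem_ordP P).1 hy').dvd)
    obtain ⟨k, -, hk⟩ := exists_pow P hcyc ((mem_ordP P).1 hy')
      (orderOf_dvd_iff_pow_eq_one.1 ((mem_ordP P).1 hy).dvd)
    have hik : ∀ w : ↥(P : Subgroup G), orderOf w = p → (w ^ i) ^ k = w := by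
      intro w hw
      obtain ⟨l, -, rfl⟩ := exists_pow P hcyc ((mem_ordP P).1 hy)
        (orderOf_dvd_iff_pow_eq_one.1 hw.dvd)
      rw [← pow_mul y, mul_comm, pow_mul, hi, ← pow_mul, mul_comm, pow_mul, hk]
    have hord : ∀ w : ↥(P : Subgroup G), orderOf w = p → orderOf (w ^ i) = p := by
      intro w hw
      refine orderOf_eq_prime (by rw [← pow_mul, mul_comm, pow_mul,
        orderOf_dvd_iff_pow_eq_one.1 hw.dvd, one_pow]) fun h1 => ?_
      have h2 := hik w hw
      rw [h1, one_pow] at h2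
      rw [← h2, orderOf_one] at hw
      exact (Fact.out : p.Prime).ne_one hw.symm
    refine Finset.card_le_card_of_injOn (fun gy => (h' * h⁻¹ * gy.1, gy.2 ^ i)) ?_ ?_
    · rintro ⟨g, w⟩ hgw
      simp only [Finset.coe_filter, Set.mem_ofPred_eq, hS, Finset.mem_product, Finset.mem_univ,
        true_and, hφ] at hgw ⊢
      refine ⟨(mem_ordP P).2 (hord w ((mem_ordP P).1 hgw.1)), ?_⟩
      have h1 := congrArg (fun u : G => h' * h⁻¹ * u ^ i * (h' * h⁻¹)⁻¹) hgw.2
      simp only [conj_pow] at h1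
      rw [← hi]
      push_cast
      calc h' * h⁻¹ * g * (w : G) ^ i * (h' * h⁻¹ * g)⁻¹
          = h' * h⁻¹ * (g * (w : G) ^ i * g⁻¹) * (h' * h⁻¹)⁻¹ := by group
        _ = h' * h⁻¹ * (h * (y : G) ^ i * h⁻¹) * (h' * h⁻¹)⁻¹ := h1
        _ = h' * (y : G) ^ i * h'⁻¹ := by group
    · rintro ⟨g, w⟩ hgw ⟨g', w'⟩ hgw' he
      simp only [Finset.coe_filter, Set.mem_ofPred_eq, hS, Finset.mem_product, Finset.mem_univ,
        true_and] at hgw hgw'
      simp only [Prod.mk.injEq, mul_right_inj] at he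
      obtain ⟨rfl, hw⟩ := he
      have := congrArg (· ^ k) hw
      simp only [hik w ((mem_ordP P).1 hgw.1), hik w' ((mem_ordP P).1 hgw'.1)] at this
      rw [this]
  have hUne : 0 < (ordP P).card := by
    rw [card_ordP P hcyc hpG]
    have := (Fact.out : p.Prime).two_le
    omega
  obtain ⟨y₀, hy₀⟩ := Finset.card_pos.1 hUne
  have hy₀T : (y₀ : G) ∈ T := by
    simp [hT, Subgroup.orderOf_coe, (mem_ordP P).1 hy₀]
  set k := (S.filter fun gy => φ gy = (y₀ : G)).card with hkdef
  have hk : ∀ z ∈ T, (S.filter fun gy => φ gy = z).card = k := fun z hz =>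
    le_antisymm (hfib z hz _ hy₀T) (hfib _ hy₀T z hz)
  have hsum : ∀ F : G → ℂ, IsClassFunction G F →
      (Fintype.card G : ℂ) * sumP P F = (k : ℂ) * ∑ z ∈ T, F z := by
    intro F hF
    have h := Finset.sum_fiberwise_of_maps_to (f := fun gy => F (φ gy)) hmaps
    rw [Finset.sum_congr rfl fun z hz => show ∑ gy ∈ S.filter (fun gy => φ gy = z), F (φ gy) =
      (k : ℂ) * F z by
        rw [Finset.sum_congr rfl fun gy hgy => congrArg F (Finset.mem_filter.1 hgy).2,
          Finset.sum_const, hk z hz, nsmul_eq_mul], ← Finset.mul_sum, hS, Finset.sum_product] at h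
    rw [h, Finset.sum_congr rfl fun g _ => Finset.sum_congr rfl fun y _ =>
      show F (φ (g, y)) = F y from hF y g, Finset.sum_const, nsmul_eq_mul, Finset.card_univ, sumP]
  have h1 := hsum (fun _ => 1) (fun _ _ => rfl)
  simp only [sumP, Finset.sum_const, nsmul_eq_mul, mul_one, card_ordP P hcyc hpG] at h1
  have h2 := hsum χ hχ
  have hG : (Fintype.card G : ℂ) ≠ 0 := Nat.cast_ne_zero.2 Fintype.card_ne_zero
  apply mul_left_cancel₀ hG
  rw [← mul_assoc, h1, mul_left_comm (Fintype.card G : ℂ), h2]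
  ring

end Count

set_option maxHeartbeats 1000000 in
/-- The pair count is impossible when every nontrivial irreducible character is faithful. -/
theorem false_of_pairs (hpG : p ∣ Nat.card G)
    (hburn : ¬ Subgroup.normalizer ((P : Subgroup G) : Set G) ≤
      Subgroup.centralizer ((P : Subgroup G) : Set G))
    (hfaith : ∀ χ : IrrCharacter G, χ ≠ oneChar G → ∀ g : G, g ≠ 1 →
      (χ : G → ℂ) g ≠ (χ : G → ℂ) 1)
    (hpairs : ∀ a : G, orderOf a = p → (p - 1) *
      (Finset.univ.filter fun b : G => orderOf b = p ∧ ¬ HasOrdPart p (a * b)).card =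
        (Finset.univ.filter fun b : G => orderOf b = p).card) : False := by
  have hab := abelian P hcyc
  haveI := hab
  haveI : Fintype (↥(P : Subgroup G) →* ℂˣ) := Fintype.ofFinite _
  obtain ⟨M, hM⟩ := ZStarCount.exists_isPModular p Fact.out
  obtain ⟨m, hm⟩ : ∃ m, (Subgroup.centralizer ((P : Subgroup G) : Set G)).relIndex
    (Subgroup.normalizer ((P : Subgroup G) : Set G)) = m := ⟨_, rfl⟩
  have hm2 : 2 ≤ m := by
    have h0 : m ≠ 0 := hm ▸ Subgroup.index_ne_zero_of_finite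
    have h1 : m ≠ 1 := fun h => hburn (Subgroup.relIndex_eq_one.1 (hm.trans h))
    omega
  have hmp := index_le P hcyc m hm hpG
  have hp3 : 3 ≤ p := by omega
  set q : ℕ := Nat.card (P : Subgroup G) with hq
  have hpq : p ≤ q := Nat.le_of_dvd Nat.card_pos (P.dvd_card_of_dvd_card hpG)
  obtain ⟨x, hx⟩ : (ordP P).Nonempty := Finset.card_pos.1 (by
    rw [card_ordP P hcyc hpG]; omega)
  rw [mem_ordP] at hx
  have hx1 : (x : G) ≠ 1 := coe_ne_one (ne_one_of_mem P ((mem_ordP P).2 hx))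
  set B := Finset.univ.filter (fun χ : IrrCharacter G => χ ∈ principalBlock M G) with hB
  set T := Finset.univ.filter (fun g : G => orderOf g = p) with hT
  set s : IrrCharacter G → ℤ := fun χ => ∑ ψ, mult P χ ψ * signP P x ψ with hsdef
  set d : IrrCharacter G → ℤ := fun χ => (charDegree (χ : G → ℂ) : ℤ) with hddef
  have hs : ∀ χ : IrrCharacter G, sumP P (χ : G → ℂ) = (s χ : ℂ) := fun χ => sumP_eq P hcyc hpG hx χ
  have hd : ∀ χ : IrrCharacter G, (χ : G → ℂ) 1 = (d χ : ℂ) := fun χ => by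
    rw [ClassAlgebraVal.apply_one_eq_charDegree, hddef]; norm_num
  -- degrees
  have hC : ∑ χ ∈ B, s χ * d χ = 0 := by
    have h := expansion P hcyc hM m hm 1
    rw [if_neg] at h
    · have h' : ((∑ χ ∈ B, s χ * d χ : ℤ) : ℂ) = ((0 : ℤ) : ℂ) := by
        rw [Int.cast_sum, Int.cast_zero, ← h]
        exact Finset.sum_congr rfl fun χ _ => by rw [hs, hd, Int.cast_mul]
      exact_mod_cast h'
    · rintro ⟨w, hw, hwo⟩
      have := pPart_unique (Fact.out : p.Prime) hw (x' := 1)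
        ⟨1, one_mul 1, Commute.one_left 1, ⟨0, by simp⟩, by simpa using (Fact.out : p.Prime).ne_one⟩
      rw [this, orderOf_one] at hwo
      omega
  -- squares
  have hA : ∑ χ ∈ B, s χ ^ 2 = (q : ℤ) * m * ((p : ℤ) - 1) := by
    have h : ∑ y ∈ ordP P, ∑ χ ∈ B, sumP P (χ : G → ℂ) * (χ : G → ℂ) y =
        ((q : ℂ) * m) * ((p - 1 : ℕ) : ℂ) := by
      rw [Finset.sum_congr rfl fun y hy => (column_sumP P hcyc hM m hm (ne_one_of_mem P hy)).trans
        (if_pos ((mem_ordP P).1 hy)), Finset.sum_const, card_ordP P hcyc hpG, nsmul_eq_mul, mul_comm]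
    rw [Finset.sum_comm] at h
    have h' : ((∑ χ ∈ B, s χ ^ 2 : ℤ) : ℂ) = (((q : ℤ) * m * ((p : ℤ) - 1) : ℤ) : ℂ) := by
      rw [Int.cast_sum]
      push_cast [Nat.cast_sub (show 1 ≤ p by omega)] at h ⊢
      rw [← h]
      refine Finset.sum_congr rfl fun χ _ => ?_
      rw [← Finset.mul_sum, ← sumP, hs, sq]
    exact_mod_cast h'
  -- cubes
  have hT0 : 0 < T.card := Finset.card_pos.2 ⟨x, by simp [hT, Subgroup.orderOf_coe, hx]⟩
  have hD : ∑ χ ∈ B, (s χ : ℚ) ^ 3 / (d χ : ℚ) = (q : ℚ) * m * ((p : ℚ) - 1) * ((p : ℚ) - 2) := by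
    have hpair : ∀ a ∈ T, (((p - 1 : ℕ) : ℂ)) * ∑ b ∈ T,
        (if HasOrdPart p (a * b) then (1 : ℂ) else 0) = ((p : ℂ) - 2) * (T.card : ℂ) := by
      intro a ha
      have hn := hpairs a (Finset.mem_filter.1 ha).2
      rw [← Finset.filter_filter, ← hT] at hn
      have hadd := Finset.card_filter_add_card_filter_not (s := T) (fun b => HasOrdPart p (a * b))
      rw [Finset.sum_boole]
      have hc : ((p - 1 : ℕ) : ℂ) * ((T.filter fun b => ¬ HasOrdPart p (a * b)).card : ℂ) =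
          (T.card : ℂ) := by exact_mod_cast hn
      have hc2 : ((T.filter fun b => HasOrdPart p (a * b)).card : ℂ) +
          ((T.filter fun b => ¬ HasOrdPart p (a * b)).card : ℂ) = (T.card : ℂ) := by
        exact_mod_cast hadd
      rw [Nat.cast_sub (show 1 ≤ p by omega), Nat.cast_one] at hc ⊢
      linear_combination ((p : ℂ) - 1) * hc2 - hc
    set Z : MonoidAlgebra ℂ G := ∑ g ∈ T, MonoidAlgebra.single g 1 with hZ
    have hZc : IsCen Z := by
      intro g h
      simp only [hZ, MonoidAlgebra.coeff_sum, Finset.sum_apply', MonoidAlgebra.coeff_single,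
        Finsupp.single_apply, Finset.sum_ite_eq', hT, Finset.mem_filter, Finset.mem_univ, true_and]
      have : orderOf (h * g * h⁻¹) = orderOf g :=
        orderOf_injective (MulAut.conj h).toMonoidHom (MulAut.conj h).injective g
      simp only [this]
    have hprod : ∀ χ : IrrCharacter G, ∑ a ∈ T, ∑ b ∈ T, (χ : G → ℂ) (a * b) =
        (∑ g ∈ T, (χ : G → ℂ) g) ^ 2 / (χ : G → ℂ) 1 := by
      intro χ
      have hZχ : chiSum (χ : G → ℂ) Z = ∑ g ∈ T, (χ : G → ℂ) g := by
        simp only [hZ, map_sum, chiSum_single, one_mul]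
      have h := chiSum_mul χ hZc Z
      rw [omega_apply, hZχ, hZ, Finset.sum_mul_sum, map_sum] at h
      simp only [map_sum, MonoidAlgebra.single_mul_single, chiSum_single, one_mul] at h
      rw [h]
      field_simp
    set E : ℂ := ∑ a ∈ T, ∑ b ∈ T, (if HasOrdPart p (a * b) then (1 : ℂ) else 0) with hE
    have h1 : ∑ χ ∈ B, sumP P (χ : G → ℂ) * ((∑ g ∈ T, (χ : G → ℂ) g) ^ 2 / (χ : G → ℂ) 1) =
        (q : ℂ) * m * E := by
      rw [Finset.sum_congr rfl fun (χ : IrrCharacter G) _ =>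
        show sumP P (χ : G → ℂ) * ((∑ g ∈ T, (χ : G → ℂ) g) ^ 2 / (χ : G → ℂ) 1) =
          ∑ a ∈ T, sumP P (χ : G → ℂ) * ∑ b ∈ T, (χ : G → ℂ) (a * b) by
          rw [← hprod χ, Finset.mul_sum]]
      rw [Finset.sum_comm, hE, Finset.mul_sum]
      refine Finset.sum_congr rfl fun a _ => ?_
      simp only [Finset.mul_sum]
      rw [Finset.sum_comm]
      refine Finset.sum_congr rfl fun b _ => ?_
      rw [expansion P hcyc hM m hm (a * b)]
      split_ifs <;> simp [hq]
    have h2 : ((p - 1 : ℕ) : ℂ) * E = ((p : ℂ) - 2) * (T.card : ℂ) ^ 2 := by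
      rw [hE, Finset.mul_sum, Finset.sum_congr rfl hpair, Finset.sum_const, nsmul_eq_mul]
      ring
    have hp1 : ((p - 1 : ℕ) : ℂ) ≠ 0 := Nat.cast_ne_zero.2 (by omega)
    have h3 : (T.card : ℂ) ^ 2 * ∑ χ ∈ B, (s χ : ℂ) ^ 3 / (d χ : ℂ) = (T.card : ℂ) ^ 2 *
        ((q : ℂ) * m * ((p : ℂ) - 1) * ((p : ℂ) - 2)) := by
      calc (T.card : ℂ) ^ 2 * ∑ χ ∈ B, (s χ : ℂ) ^ 3 / (d χ : ℂ)
          = ((p - 1 : ℕ) : ℂ) ^ 2 * ∑ χ ∈ B, sumP P (χ : G → ℂ) *
              ((∑ g ∈ T, (χ : G → ℂ) g) ^ 2 / (χ : G → ℂ) 1) := by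
            rw [Finset.mul_sum, Finset.mul_sum]
            refine Finset.sum_congr rfl fun χ _ => ?_
            have h := sum_ordG P hcyc hpG (irr_classFun χ)
            rw [← hT, hs] at h
            rw [hs, hd]
            linear_combination (-(s χ : ℂ) / (d χ : ℂ) *
              (((p - 1 : ℕ) : ℂ) * ∑ g ∈ T, (χ : G → ℂ) g + (T.card : ℂ) * (s χ : ℂ))) * h
        _ = _ := by
            rw [h1]
            have e : ((p - 1 : ℕ) : ℂ) = (p : ℂ) - 1 := by
              rw [Nat.cast_sub (show 1 ≤ p by omega), Nat.cast_one]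
            rw [e] at h2 ⊢
            linear_combination ((p : ℂ) - 1) * (q : ℂ) * m * h2
    have h4 := mul_left_cancel₀ (pow_ne_zero 2 (Nat.cast_ne_zero.2 hT0.ne')) h3
    have h5 : ((∑ χ ∈ B, (s χ : ℚ) ^ 3 / (d χ : ℚ) : ℚ) : ℂ) =
        (((q : ℚ) * m * ((p : ℚ) - 1) * ((p : ℚ) - 2) : ℚ) : ℂ) := by
      push_cast
      exact h4
    exact_mod_cast h5
  -- split off the principal character
  set B' := B.erase (oneChar G) with hB'
  have h1B : oneChar G ∈ B := by simp [hB, oneChar_mem hM]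
  have hone : (oneChar G : G → ℂ) = fun _ => 1 := rfl
  have hs1 : s (oneChar G) = (p : ℤ) - 1 := by
    have h := hs (oneChar G)
    rw [sumP, hone, Finset.sum_const, card_ordP P hcyc hpG, nsmul_eq_mul, mul_one,
      Nat.cast_sub (show 1 ≤ p by omega)] at h
    have h' : ((((p : ℤ) - 1 : ℤ)) : ℂ) = (s (oneChar G) : ℂ) := by push_cast; exact_mod_cast h
    exact_mod_cast h'.symm
  have hd1 : d (oneChar G) = 1 := by
    have h := hd (oneChar G)
    simp only [hone] at h
    exact_mod_cast h.symm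
  rw [← Finset.add_sum_erase _ _ h1B, ← hB', hs1] at hA hC hD
  rw [hd1] at hC hD
  have hb : ∀ χ ∈ B', (0 : ℚ) < (d χ : ℚ) ∧
      (5 ≤ p → 2 * (s χ : ℚ) ≤ ((p : ℚ) - 1) * d χ) ∧
      (p = 3 → 9 ≤ q → 4 * (s χ : ℚ) ≤ 3 * d χ) ∧ (q = 3 → 2 * (s χ : ℚ) ≤ d χ) := by
    intro χ hχ
    obtain ⟨hne, hχB⟩ := Finset.mem_erase.1 hχ
    obtain ⟨s', d', h1, h2, h3, h4, h5, h6⟩ := bound P hcyc hM m hm hpG hp3 hm2 hx
      (Finset.mem_filter.1 hχB).2 hne (hfaith χ hne x hx1)
    have es : s' = s χ := by exact_mod_cast h1.symm.trans (hs χ)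
    have ed : d' = d χ := by exact_mod_cast h2.symm.trans (hd χ)
    subst es ed
    refine ⟨by exact_mod_cast h3, fun h => ?_, fun h h' => ?_, fun h => ?_⟩
    · exact_mod_cast h4 h
    · exact_mod_cast h5 h h'
    · exact_mod_cast h6 h
  have hA' : ∑ χ ∈ B', (s χ : ℚ) ^ 2 = ((p : ℚ) - 1) * ((q : ℚ) * m - ((p : ℚ) - 1)) := by
    have h : (((p : ℤ) - 1) ^ 2 + ∑ χ ∈ B', s χ ^ 2 : ℤ) = (q : ℤ) * m * ((p : ℤ) - 1) := hA
    have h' := congrArg (fun n : ℤ => (n : ℚ)) h
    push_cast at h'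
    linear_combination h'
  push_cast at hD
  rw [div_one] at hD
  have hkey : ∀ K : ℚ, (∀ χ ∈ B', (s χ : ℚ) ≤ K * (d χ : ℚ)) →
      (q : ℚ) * m * ((p : ℚ) - 2) - ((p : ℚ) - 1) ^ 2 ≤ K * ((q : ℚ) * m - ((p : ℚ) - 1)) := by
    intro K hK
    have h : ∑ χ ∈ B', (s χ : ℚ) ^ 3 / (d χ : ℚ) ≤ ∑ χ ∈ B', K * (s χ : ℚ) ^ 2 := by
      refine Finset.sum_le_sum fun χ hχ => ?_
      rw [div_le_iff₀ (hb χ hχ).1]
      nlinarith [hK χ hχ, sq_nonneg (s χ : ℚ)]
    rw [← Finset.mul_sum, hA'] at h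
    have hp0 : (0 : ℚ) < (p : ℚ) - 1 := by
      have : (3 : ℚ) ≤ p := by exact_mod_cast hp3
      linarith
    refine le_of_mul_le_mul_left ?_ hp0
    linear_combination h - hD
  have hqm : 2 * (p : ℚ) ≤ (q : ℚ) * m := by
    have : 2 * p ≤ q * m := by nlinarith
    exact_mod_cast this
  obtain ⟨n, hn⟩ := IsPGroup.iff_card.1 P.isPGroup'
  rw [← hq] at hn
  by_cases hp5 : 5 ≤ p
  · have h := hkey (((p : ℚ) - 1) / 2) fun χ hχ => by linarith [(hb χ hχ).2.1 hp5]
    have : (5 : ℚ) ≤ p := by exact_mod_cast hp5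
    nlinarith
  · have hp : p = 3 := by
      have h4 : p ≠ 4 := fun h => by
        have := h ▸ (Fact.out : p.Prime)
        norm_num at this
      omega
    subst hp
    obtain rfl : m = 2 := by omega
    rcases n with _ | _ | n
    · omega
    · have hq3 : q = 3 := by simpa using hn
      simp only [hq3] at hA' hD
      push_cast at hA' hD
      norm_num at hA' hD
      have hle : ∀ χ ∈ B', (s χ : ℚ) ^ 3 / (d χ : ℚ) ≤ (s χ : ℚ) ^ 2 / 2 := fun χ hχ => by
        rw [div_le_iff₀ (hb χ hχ).1]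
        nlinarith [(hb χ hχ).2.2.2 hq3, sq_nonneg (s χ : ℚ)]
      have heq := (Finset.sum_eq_sum_iff_of_le hle).1 (by
        rw [← Finset.sum_div, hA']; linarith)
      have hnn : 0 ≤ ∑ χ ∈ B', s χ * d χ := by
        refine Finset.sum_nonneg fun χ hχ => ?_
        by_cases hs0 : s χ = 0
        · rw [hs0, zero_mul]
        have h := heq χ hχ
        rw [div_eq_iff (hb χ hχ).1.ne'] at h
        have hs2 : (s χ : ℚ) ^ 2 ≠ 0 := pow_ne_zero 2 (Int.cast_ne_zero.2 hs0)
        have h' : (d χ : ℚ) = 2 * s χ := mul_left_cancel₀ hs2 (by linarith)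
        have h'' : d χ = 2 * s χ := by exact_mod_cast h'
        rw [h'']
        nlinarith [sq_nonneg (s χ)]
      push_cast at hC
      linarith
    · have hq9 : 9 ≤ q := by
        rw [hn]
        calc 9 = 3 ^ 2 := rfl
          _ ≤ 3 ^ (n + 1 + 1) := Nat.pow_le_pow_right (by norm_num) (by omega)
      have h := hkey (3 / 4) fun χ hχ => by linarith [(hb χ hχ).2.2.1 rfl hq9]
      have : (9 : ℚ) ≤ q := by exact_mod_cast hq9
      push_cast at h
      linarith

end Cfsg.Agent.CyclicSylowPairs35
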