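import Cfsg.Agent.Lib.BlockPrimeTools86

/-!
Lower bound for the dimension of a faithful irreducible representation in characteristic `p` of a group
with a cyclic trivial intersection Sylow `p`-subgroup of order at least `p ^ 2`.
-/

set_option autoImplicit false

namespace Cfsg.Agent.CyclicTIModule86

open Polynomial

/-- Powers of a unipotent element: the `(p-1)`-st power of `u ^ a - 1` against that of `u - 1`. -/
theorem poly_dvd {k : Type*} [Field k] {p : ℕ} [hp : Fact p.Prime] [CharP k p] {a : ℕ} (ha : ¬ p ∣ a) :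
    (X : k[X]) ^ p ∣ ((1 + X) ^ a - 1) ^ (p - 1) - X ^ (p - 1) := by
  set g : k[X] := ∑ i ∈ Finset.range a, (1 + X) ^ i with hg
  have h1 : (1 + X : k[X]) ^ a - 1 = X * g := by
    rw [hg, ← geom_sum_mul, mul_comm, add_sub_cancel_left]
  have h2 : (X : k[X]) ∣ g ^ (p - 1) - 1 := by
    have hfermat : (a : k) ^ (p - 1) = 1 := by
      have h := congrArg (ZMod.castHom (dvd_refl p) k)
        (ZMod.pow_card_sub_one_eq_one (show ((a : ZMod p)) ≠ 0 by
          rwa [Ne, ZMod.natCast_eq_zero_iff]))
      simpa using h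
    rw [X_dvd_iff, coeff_zero_eq_eval_zero]
    have hg0 : g.eval 0 = (a : k) := by rw [hg, eval_finsetSum]; simp
    rw [eval_sub, eval_pow, hg0, hfermat, eval_one, sub_self]
  rw [h1, mul_pow, ← mul_sub_one]
  obtain ⟨c, hc⟩ := h2
  refine ⟨c, ?_⟩
  rw [hc, ← mul_assoc, ← pow_succ, Nat.sub_add_cancel hp.out.one_le]

variable {G : Type*} [Group G] [Finite G] {p : ℕ} [hp : Fact p.Prime] {P : Sylow p G}
  {k : Type*} [Field k] [CharP k p] {V : Type*} [AddCommGroup V] [Module k V] [FiniteDimensional k V]

theorem main (hcyc : IsCyclic P) {n : ℕ} (hn : 2 ≤ n) (hPn : Nat.card P = p ^ n)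
    (hTI : ∀ Q : Sylow p G, Q ≠ P → (P : Subgroup G) ⊓ (Q : Subgroup G) = ⊥)
    (ρ : Representation k G V) (hfaith : Function.Injective ρ) (hirr : ρ.IsIrreducible)
    (hlt : Module.finrank k V + p ≤ p ^ n) : False := by
  classical
  have hpp := hp.out
  haveI : Fintype G := Fintype.ofFinite G
  haveI : Fintype ↥(P : Subgroup G) := Fintype.ofFinite _
  obtain ⟨σ, hσgen⟩ := hcyc.exists_generator
  have hq : orderOf σ = p ^ n := by
    rw [← hPn]
    exact orderOf_eq_card_of_forall_mem_zpowers hσgen
  have hq' : orderOf (σ : G) = p ^ n := by rw [Subgroup.orderOf_coe, hq]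
  set u : Module.End k V := ρ (σ : G) with hu
  set D : Module.End k V := u - 1 with hD
  have hDq : D ^ (p ^ n) = 0 := by
    have e : D ^ (p ^ n) = aeval u ((X - 1 : k[X]) ^ (p ^ n)) := by simp [hD]
    rw [e, sub_pow_char_pow, one_pow]
    have hu' : u ^ (p ^ n) = 1 := by rw [hu, ← map_pow, ← hq', pow_orderOf_eq_one, map_one]
    simp [hu']
  set s := Module.finrank k V with hs
  have hDs : D ^ s = 0 := by
    have h := LinearMap.aeval_self_charpoly D
    rw [(LinearMap.isNilpotent_iff_charpoly D).1 ⟨_, hDq⟩, map_pow, aeval_X] at h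
    exact h
  -- the normalizer acts on `P` through a group of order prime to `p`
  set N := Subgroup.normalizer ((P : Subgroup G) : Set G) with hN
  set act : N →* MulAut ↥(P : Subgroup G) := (P : Subgroup G).normalizerMonoidHom with hact
  have hactv : ∀ (m : N) (y : ↥(P : Subgroup G)), ((act m y : ↥(P : Subgroup G)) : G) = (m : G) * y * (m : G)⁻¹ :=
    fun m y => rfl
  haveI : Finite (MulAut ↥(P : Subgroup G)) := Finite.of_injective _ MulEquiv.toEquiv_injective
  haveI : Fintype act.range := Fintype.ofFinite _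
  have hR : ¬ p ∣ Nat.card act.range := by
    intro h
    refine P.not_dvd_index ?_
    rw [← Subgroup.index_ker] at h
    have hker : ((P : Subgroup G).subgroupOf N) ≤ act.ker := by
      intro m hm
      refine MonoidHom.mem_ker.2 (MulEquiv.ext fun y => Subtype.ext ?_)
      rw [hactv]
      haveI := hcyc
      have hcomm : (⟨m, hm⟩ : ↥(P : Subgroup G)) * y = y * ⟨m, hm⟩ :=
        (IsCyclic.commGroup (α := ↥(P : Subgroup G))).mul_comm _ _
      have := congrArg (Subtype.val) hcomm
      simp only [Subgroup.coe_mul] at this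
      rw [this, mul_assoc, mul_inv_cancel, mul_one]
      rfl
    exact (h.trans (Subgroup.index_dvd_of_le hker)).trans
      (Subgroup.relIndex_dvd_index_of_le Subgroup.le_normalizer)
  have hR0 : (Nat.card act.range : k) ≠ 0 := by rwa [Ne, CharP.cast_eq_zero_iff k p]
  set Z : Module.End k V := (Nat.card act.range : k)⁻¹ •
    ∑ r : act.range, (ρ (((r : MulAut ↥(P : Subgroup G)) σ : ↥(P : Subgroup G)) : G) - 1) ^ (p - 1) with hZ
  -- congruence to `(u - 1) ^ (p - 1)`
  have hZc : ∃ A, Z = D ^ (p - 1) + D ^ p * A := by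
    have hterm : ∀ r : act.range, ∃ A : Module.End k V,
        (ρ (((r : MulAut ↥(P : Subgroup G)) σ : ↥(P : Subgroup G)) : G) - 1) ^ (p - 1) =
          D ^ (p - 1) + D ^ p * A := by
      intro r
      set τ := (r : MulAut ↥(P : Subgroup G)) σ with hτ
      obtain ⟨a, ha⟩ := mem_powers_iff_mem_zpowers.2 (hσgen τ)
      have ha' : σ ^ a = τ := ha
      have hpa : ¬ p ∣ a := by
        intro hdvd
        have hord : orderOf τ = p ^ n := by rw [hτ, MulEquiv.orderOf_eq, hq]
        obtain ⟨b, rfl⟩ := hdvd
        have h1 : τ ^ p ^ (n - 1) = 1 := by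
          rw [← ha', ← pow_mul, mul_comm p b, mul_assoc, mul_comm b, ← pow_succ',
            Nat.sub_add_cancel (by omega), pow_mul, ← hq, pow_orderOf_eq_one, one_pow]
        have h2 := orderOf_dvd_of_pow_eq_one h1
        rw [hord, Nat.pow_dvd_pow_iff_le_right hpp.one_lt] at h2
        omega
      obtain ⟨c, hc⟩ := poly_dvd (k := k) hpa
      refine ⟨aeval D c, ?_⟩
      have h := congrArg (aeval D) hc
      simp only [map_sub, map_pow, map_add, map_one, map_mul, aeval_X] at h
      rw [show 1 + D = u by rw [hD, add_sub_cancel], sub_eq_iff_eq_add'] at h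
      rw [← ha', SubmonoidClass.coe_pow, map_pow, ← hu]
      exact h
    choose A hA using hterm
    refine ⟨(Nat.card act.range : k)⁻¹ • ∑ r, A r, ?_⟩
    rw [hZ, Finset.sum_congr rfl fun r _ => hA r, Finset.sum_add_distrib, ← Finset.mul_sum, smul_add,
      Finset.sum_const, Finset.card_univ, ← Nat.card_eq_fintype_card, ← Nat.cast_smul_eq_nsmul k, smul_smul,
      inv_mul_cancel₀ hR0, one_smul, mul_smul_comm]
  have hZN : ∀ m : N, ρ (m : G) * Z = Z * ρ (m : G) := by
    intro m
    rw [hZ, mul_smul_comm, smul_mul_assoc, Finset.mul_sum, Finset.sum_mul]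
    congr 1
    refine Fintype.sum_equiv (Equiv.mulLeft (⟨act m, m, rfl⟩ : act.range)) _ _ fun r => ?_
    have hsc : SemiconjBy (ρ (m : G)) (ρ (((r : MulAut ↥(P : Subgroup G)) σ : ↥(P : Subgroup G)) : G) - 1)
        (ρ ((((⟨act m, m, rfl⟩ : act.range) * r : act.range) : MulAut ↥(P : Subgroup G)) σ : ↥(P : Subgroup G)) - 1) := by
      refine SemiconjBy.sub_right ?_ (SemiconjBy.one_right _)
      show ρ (m : G) * _ = _ * ρ (m : G)
      rw [Subgroup.coe_mul, MulAut.mul_apply, hactv, ← map_mul, ← map_mul, inv_mul_cancel_right]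
    exact hsc.pow_right (p - 1)
  -- the conjugation action on endomorphisms
  let Ad : G →* Module.End k (Module.End k V) :=
    { toFun := fun g => LinearMap.mulLeft k (ρ g) * LinearMap.mulRight k (ρ g⁻¹)
      map_one' := LinearMap.ext fun Φ => by simp
      map_mul' := fun a b => LinearMap.ext fun Φ => by simp [mul_inv_rev, map_mul, mul_assoc] }
  have hAd : ∀ (g : G) (Φ : Module.End k V), Ad g Φ = ρ g * Φ * ρ g⁻¹ := fun g Φ =>
    (mul_assoc _ _ _).symm
  have hAdN : ∀ m ∈ N, Ad m Z = Z := by
    intro m hm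
    rw [hAd, hZN ⟨m, hm⟩, mul_assoc, ← map_mul, mul_inv_cancel, map_one, mul_one]
  let f : G ⧸ N → Module.End k V := fun c => Ad c.out Z
  have hf : ∀ g : G, f (g : G ⧸ N) = Ad g Z := by
    intro g
    obtain ⟨m, hm⟩ := QuotientGroup.mk_out_eq_mul N g
    show Ad (Quotient.out _) Z = _
    rw [hm, map_mul, Module.End.mul_apply, hAdN m m.2]
  haveI : Fintype (G ⧸ N) := Fintype.ofFinite _
  set F : Module.End k V := ∑ c, f c with hF
  have hFeq : ∀ g : G, ρ g * F = F * ρ g := by
    intro g
    have h1 : Ad g F = F := by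
      rw [hF, map_sum]
      refine Fintype.sum_equiv (MulAction.toPerm g) _ _ fun c => ?_
      induction c using QuotientGroup.induction_on with
      | H h =>
        rw [MulAction.toPerm_apply, MulAction.Quotient.smul_coe, hf, hf, smul_eq_mul, map_mul,
          Module.End.mul_apply]
    rw [hAd] at h1
    conv_rhs => rw [← h1]
    rw [mul_assoc (ρ g * F), ← map_mul, inv_mul_cancel, map_one, mul_one]
  -- the other cosets contribute a trace over `P`
  have hW : ∃ B, F = Z + D ^ p * B := by
    set S := Finset.univ.erase ((1 : G) : G ⧸ N) with hS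
    have hfix1 : ∀ y : ↥(P : Subgroup G), y • ((1 : G) : G ⧸ N) = ((1 : G) : G ⧸ N) := by
      intro y
      show ((y : G) • ((1 : G) : G ⧸ N)) = _
      rw [MulAction.Quotient.smul_coe, smul_eq_mul, mul_one, QuotientGroup.eq, mul_one]
      exact inv_mem (Subgroup.le_normalizer y.2)
    have hsub : ∀ (y : ↥(P : Subgroup G)) c, c ∈ S → y • c ∈ S := by
      intro y c hc
      rw [hS, Finset.mem_erase] at hc ⊢
      exact ⟨fun h => hc.1 (MulAction.injective y (h.trans (hfix1 y).symm)), Finset.mem_univ _⟩
    have hfree : ∀ (y : ↥(P : Subgroup G)) c, c ∈ S → y • c = c → y = 1 := by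
      intro y c hc hyc
      induction c using QuotientGroup.induction_on with
      | H h =>
        have hh : h ∉ N := fun hh => (Finset.mem_erase.1 hc).1 (QuotientGroup.eq.2 (by simpa using inv_mem hh))
        replace hyc : ((y : G) • (h : G ⧸ N)) = (h : G ⧸ N) := hyc
        rw [MulAction.Quotient.smul_coe, smul_eq_mul, QuotientGroup.eq] at hyc
        have hmem : h⁻¹ * (y : G) * h ∈ N := by
          have := inv_mem hyc
          simpa [mul_assoc] using this
        have hpel : IsPGroup p (Subgroup.zpowers (h⁻¹ * (y : G) * h)) := by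
          obtain ⟨j, hj⟩ := (IsPGroup.iff_orderOf.1 P.isPGroup') y
          refine IsPGroup.iff_card.2 ⟨j, ?_⟩
          rw [Nat.card_zpowers, ← hj, ← Subgroup.orderOf_coe, ← MulEquiv.orderOf_eq (MulAut.conj h⁻¹) (y : G),
            MulAut.conj_apply, inv_inv]
        have hin : h⁻¹ * (y : G) * h ∈ (P : Subgroup G) := by
          have hle : Subgroup.zpowers (h⁻¹ * (y : G) * h) ≤ N := Subgroup.zpowers_le.2 hmem
          have hsup := IsPGroup.to_sup_of_normal_right' (p := p) hpel P.isPGroup' hle
          exact (SetLike.ext_iff.1 (P.is_maximal' hsup le_sup_right) _).1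
            (Subgroup.mem_sup_left (Subgroup.mem_zpowers _))
        have hne : h • P ≠ P := fun he => hh (Sylow.smul_eq_iff_mem_normalizer.1 he)
        have hy2 : (y : G) ∈ ((h • P : Sylow p G) : Subgroup G) := by
          rw [Sylow.coe_subgroup_smul, Subgroup.mem_pointwise_smul_iff_inv_smul_mem]
          simpa [mul_assoc] using hin
        have hbot : (y : G) ∈ (P : Subgroup G) ⊓ ((h • P : Sylow p G) : Subgroup G) := ⟨y.2, hy2⟩
        rw [hTI _ hne, Subgroup.mem_bot] at hbot
        exact Subtype.ext hbot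
    obtain ⟨Φ, hΦ⟩ := Cfsg.Agent.BlockPrime86.sum_free (Q := ↥(P : Subgroup G)) (k := k) S hsub hfree
      (Ad.comp (P : Subgroup G).subtype) f (fun y c _ => by
        induction c using QuotientGroup.induction_on with
        | H h =>
          show f ((y : G) • (h : G ⧸ N)) = _
          rw [MulAction.Quotient.smul_coe, hf, hf, smul_eq_mul, map_mul, Module.End.mul_apply]
          rfl)
    -- the trace over `P` is a power of `Ad σ - 1`
    have hsum : (∑ y : ↥(P : Subgroup G), (Ad.comp (P : Subgroup G).subtype) y) = (Ad σ - 1) ^ (p ^ n - 1) := by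
      have hpoly : ∑ i ∈ Finset.range (p ^ n), (X : k[X]) ^ i = (X - 1) ^ (p ^ n - 1) := by
        refine mul_right_cancel₀ (X_sub_C_ne_zero (1 : k)) ?_
        rw [C_1, geom_sum_mul, ← pow_succ, Nat.sub_add_cancel (Nat.one_le_pow _ _ hpp.pos), sub_pow_char_pow,
          one_pow]
      have := congrArg (aeval (Ad (σ : G))) hpoly
      simp only [map_sum, map_pow, map_sub, map_one, aeval_X] at this
      rw [← this]
      symm
      refine Finset.sum_bij (fun i _ => σ ^ i) (fun i _ => Finset.mem_univ _) ?_ ?_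
        (fun i _ => by rw [MonoidHom.comp_apply, Subgroup.subtype_apply, SubmonoidClass.coe_pow, map_pow])
      · intro i hi j hj h
        exact pow_injOn_Iio_orderOf (by simpa [hq] using Finset.mem_range.1 hi)
          (by simpa [hq] using Finset.mem_range.1 hj) h
      · intro y _
        obtain ⟨i, hi⟩ := mem_powers_iff_mem_zpowers.2 (hσgen y)
        refine ⟨i % p ^ n, Finset.mem_range.2 (Nat.mod_lt _ (pow_pos hpp.pos n)), ?_⟩
        rw [← hi, ← hq, pow_mod_orderOf]
    set L : Module.End k (Module.End k V) := LinearMap.mulLeft k D with hL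
    set R : Module.End k (Module.End k V) := LinearMap.mulRight k D with hRdef
    set U : Module.End k (Module.End k V) := LinearMap.mulRight k (ρ ((σ : G))⁻¹) with hU
    have hY : Ad σ - 1 = U * (L + -R) := by
      refine LinearMap.ext fun Ψ => ?_
      rw [LinearMap.sub_apply, hAd, Module.End.one_apply, Module.End.mul_apply, hU, LinearMap.mulRight_apply,
        LinearMap.add_apply, LinearMap.neg_apply, hL, hRdef, LinearMap.mulLeft_apply, LinearMap.mulRight_apply,
        ← sub_eq_add_neg, hD]
      simp only [sub_mul, mul_sub, mul_one, one_mul, sub_sub_sub_cancel_right, mul_assoc Ψ, hu, ← map_mul,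
        mul_inv_cancel, map_one]
    have hUL : Commute U L := (LinearMap.commute_mulLeft_right D (ρ ((σ : G))⁻¹)).symm
    have hUR : Commute U R := by
      refine LinearMap.ext fun Ψ => ?_
      simp only [Module.End.mul_apply, hU, hRdef, LinearMap.mulRight_apply, mul_assoc, hD, hu, sub_mul, mul_sub,
        one_mul, mul_one, ← map_mul, mul_inv_cancel, inv_mul_cancel]
    have hLR : Commute L (-R) := (show Commute L R from LinearMap.commute_mulLeft_right D D).neg_right
    have hmem : ∀ Ψ, ∃ B, ((L + -R) ^ (p ^ n - 1)) Ψ = D ^ p * B := by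
      intro Ψ
      have hmem' : ((L + -R) ^ (p ^ n - 1)) Ψ ∈ LinearMap.range (LinearMap.mulLeft k (D ^ p)) := by
        rw [hLR.add_pow, LinearMap.sum_apply]
        refine Submodule.sum_mem _ fun m hm => ?_
        rw [Module.End.mul_apply, Module.End.mul_apply, hL, LinearMap.pow_mulLeft, LinearMap.mulLeft_apply]
        rcases le_or_gt p m with h | h
        · refine ⟨D ^ (m - p) * ((-R) ^ (p ^ n - 1 - m)) ((((p ^ n - 1).choose m : ℕ) :
            Module.End k (Module.End k V)) Ψ), ?_⟩
          rw [LinearMap.mulLeft_apply, ← mul_assoc, ← pow_add, Nat.add_sub_cancel' h]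
        · have hz : (-R) ^ (p ^ n - 1 - m) = 0 := by
            rw [neg_pow R, hRdef, LinearMap.pow_mulRight,
              pow_eq_zero_of_le (show s ≤ p ^ n - 1 - m by omega) hDs, LinearMap.mulRight_zero_eq_zero,
              mul_zero]
          rw [hz, LinearMap.zero_apply, mul_zero]
          exact Submodule.zero_mem _
      obtain ⟨B, hB⟩ := hmem'
      exact ⟨B, hB.symm⟩
    have hcomU : Commute U (L + -R) := hUL.add_right hUR.neg_right
    obtain ⟨B, hB⟩ := hmem ((U ^ (p ^ n - 1)) Φ)
    refine ⟨B, ?_⟩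
    rw [hF, ← Finset.add_sum_erase _ _ (Finset.mem_univ ((1 : G) : G ⧸ N)), ← hS, hΦ, hsum, hY,
      hcomU.mul_pow, (hcomU.pow_pow _ _).eq, Module.End.mul_apply, hB, hf, map_one, Module.End.one_apply]
  obtain ⟨A, hA⟩ := hZc
  obtain ⟨B, hB⟩ := hW
  have hFD : F = D ^ (p - 1) * (1 + D * (A + B)) := by
    rw [hB, hA, mul_add, mul_one, ← mul_assoc, ← pow_succ, Nat.sub_add_cancel hpp.one_le, mul_add, add_assoc]
  haveI := hirr
  let W : Subrepresentation ρ := ⟨LinearMap.range F, fun g v hv => by
    obtain ⟨w, rfl⟩ := hv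
    exact ⟨ρ g w, by rw [← Module.End.mul_apply, ← hFeq, Module.End.mul_apply]⟩⟩
  rcases eq_bot_or_eq_top W with h | h
  · have hF0 : F = 0 := LinearMap.range_eq_bot.1 (congrArg Subrepresentation.toSubmodule h)
    rw [hFD, mul_add, mul_one, add_eq_zero_iff_eq_neg] at hF0
    have hiter : ∀ j, ∃ C, D ^ (p - 1) = D ^ j * D ^ (p - 1) * C := by
      intro j
      induction j with
      | zero => exact ⟨1, by simp⟩
      | succ j ih =>
        obtain ⟨C, hC⟩ := ih
        refine ⟨-(A + B) * C, ?_⟩
        conv_lhs => rw [hC, hF0]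
        have e : D ^ (p - 1) * D = D * D ^ (p - 1) := ((Commute.refl D).pow_left _).eq
        simp only [pow_succ, mul_assoc, mul_neg, neg_mul, neg_inj]
        rw [← mul_assoc (D ^ (p - 1)) D, e, mul_assoc]
    obtain ⟨C, hC⟩ := hiter (p ^ n)
    rw [hDq, zero_mul, zero_mul] at hC
    have hDp : D ^ p = 0 := pow_eq_zero_of_le (Nat.sub_le p 1) hC
    have hup : u ^ p = 1 := by
      have e : D ^ p = aeval u ((X - 1 : k[X]) ^ p) := by simp [hD]
      rw [e, sub_pow_char, one_pow] at hDp
      simpa [sub_eq_zero] using hDp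
    have : (σ : G) ^ p = 1 := hfaith (by rw [map_pow, map_one]; exact hup)
    have hd := orderOf_dvd_of_pow_eq_one this
    rw [hq'] at hd
    have := Nat.le_of_dvd hpp.pos hd
    have : p ^ 2 ≤ p ^ n := Nat.pow_le_pow_right hpp.pos hn
    nlinarith [hpp.two_le]
  · have hsurj : Function.Surjective F := LinearMap.range_eq_top.1 (congrArg Subrepresentation.toSubmodule h)
    have hDsurj : Function.Surjective (D ^ (p - 1) : Module.End k V) := by
      rw [hFD] at hsurj
      exact Function.Surjective.of_comp hsurj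
    have hzero : ∀ v : V, v = 0 := by
      intro v
      have hDsurj' : Function.Surjective ((D ^ (p - 1)) ^ s : Module.End k V) := by
        rw [Module.End.coe_pow]
        exact hDsurj.iterate s
      obtain ⟨w, rfl⟩ := hDsurj' v
      rw [← pow_mul, mul_comm, pow_mul, hDs, zero_pow (by have := hpp.two_le; omega), LinearMap.zero_apply]
    have hσ1 : ρ (σ : G) = 1 := LinearMap.ext fun v => (hzero _).trans (hzero _).symm
    have h1 : (σ : G) = 1 := hfaith (hσ1.trans (map_one ρ).symm)
    rw [h1, orderOf_one] at hq'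
    have : 1 < p ^ n := Nat.one_lt_pow (by omega) hpp.one_lt
    omega

end Cfsg.Agent.CyclicTIModule86
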