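import Cfsg.Agent.Lib.CyclicShape42

/-!
# Cyclic defect groups: vanishing on singular elements, degrees and heights

An integral combination of the block orthogonal to all differences of multiplicities vanishes on
the singular elements; the signed degrees of the non-exceptional characters are congruent.
-/

set_option autoImplicit false
set_option linter.unusedSectionVars false

namespace Cfsg.Agent.CyclicValues42

open Cfsg BlockTheoryLocalRing BlockTheoryCentre BlockTheoryIdem BlockContribBounds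
  BrauerPairs81Base BrauerPairs81Pairs BrauerPairs81Conj BrauerPairs81Local BrauerPairs81Fusion
  BlockCyclicRank81 CyclicSetup42 CyclicAction42 CyclicShape42
open scoped ComplexConjugate

attribute [local instance] Classical.propDecidable

universe u

variable {p : ℕ} [Fact p.Prime] {M : Ideal AlgInt} {G : Type u} [Group G] [Fintype G]
  {B : Set (IrrCharacter G)} {P : Subgroup G} {e : ℕ} (L : Loc p M B P e)

/-- The `p`-part is a power of the element. -/
theorem pPart_mem_zpowers {G : Type*} [Group G] {p : ℕ} (hp : p.Prime) {g u : G}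
    (hu : IsPPart p g u) : u ∈ Subgroup.zpowers g := by
  obtain ⟨y, rfl, hc, ⟨k, hk⟩, hy⟩ := hu
  obtain ⟨m, hm1, hm0⟩ := Nat.chineseRemainder ((hp.coprime_iff_not_dvd.2 hy).pow_left k) 1 0
  have e1 : (u * y) ^ m = u := by
    rw [hc.mul_pow, orderOf_dvd_iff_pow_eq_one.1 (Nat.modEq_zero_iff_dvd.1 hm0), mul_one]
    conv_rhs => rw [← pow_one u]
    exact pow_eq_pow_iff_modEq.2 (hk ▸ hm1)
  exact Subgroup.mem_zpowers_iff.2 ⟨m, by rw [zpow_natCast, e1]⟩

/-- A singular element at which a member of `B` does not vanish is conjugate into `C(Z)`. -/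
theorem exists_conj_H (hM : IsPModular p M) {χ : IrrCharacter G} (hχ : χ ∈ B) {g : G}
    (hs : p ∣ orderOf g) (hne : (χ : G → ℂ) g ≠ 0) :
    ∃ x : G, x * g * x⁻¹ ∈ L.H ∧ L.z ∈ Subgroup.zpowers (x * g * x⁻¹) := by
  obtain ⟨u, y, huy, hc, hu, hy⟩ := BrauerBlocksPPart.exists_isPPart hM.1 g
  have hpp : IsPPart p g u := ⟨y, huy, hc, hu, hy⟩
  obtain ⟨x, hx⟩ := exists_conj_of_apply_ne hM L.hmax hχ hpp hne
  have hu1 : x * u * x⁻¹ ≠ 1 := fun h => hy (by
    rw [conj_eq_one_iff.1 h, one_mul] at huy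
    exact huy ▸ hs)
  have hle : Subgroup.zpowers (x * u * x⁻¹) ≤ Subgroup.zpowers (x * g * x⁻¹) := by
    refine Subgroup.zpowers_le.2 ?_
    obtain ⟨n, hn⟩ := Subgroup.mem_zpowers_iff.1 (pPart_mem_zpowers hM.1 hpp)
    refine ⟨n, ?_⟩
    show (x * g * x⁻¹) ^ n = _
    rw [conj_zpow, hn]
  have hz := hle (L.Z_le_zpowers hx hu1 (Subgroup.mem_zpowers L.z))
  exact ⟨x, mem_H_of_commute L hz (Commute.refl _), hz⟩

/-- The members of the block add up to zero at singular elements. -/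
theorem sum_block_eq_zero (hM : IsPModular p M) {h : L.H} (hs : p ∣ orderOf h) :
    ∑ ξ ∈ members L.b, (ξ : L.H → ℂ) h = 0 := by
  obtain ⟨ψ, hψ⟩ := block_nonempty hM (L.hb hM)
  have h1r : ¬ p ∣ orderOf (1 : L.H) := by rw [orderOf_one]; exact hM.1.not_dvd_one
  have h1 := congrArg conj (weak_orthogonality hM (L.hb hM) h1r hs)
  rw [map_zero, map_sum] at h1
  have h2 : conj ((ψ : L.H → ℂ) 1) * ∑ ξ ∈ members L.b, (ξ : L.H → ℂ) h = 0 := by
    rw [← h1, Finset.mul_sum, ← filter_eq_members, Finset.sum_filter]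
    refine Finset.sum_congr rfl fun ξ _ => ?_
    split_ifs with hξ
    · rw [map_mul, Complex.conj_conj, regular_eq L hM hψ hξ h1r]
    · rw [map_zero]
  exact (mul_eq_zero.1 h2).resolve_left (by simpa using irr_one_ne_zero ψ)

/-- The part in a block inducing another block vanishes on the elements generating `Z`. -/
theorem beta_eq_zero' (hM : IsPModular p M) {b' : Set (IrrCharacter L.H)}
    {B' : Set (IrrCharacter G)} (hind : IsInducedBlock M L.H b' B') {χ : IrrCharacter G}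
    (hχ : χ ∉ B') {h : L.H} (hz : L.z ∈ Subgroup.zpowers (h : G)) :
    ∑ ψ ∈ members b', (S4716.mult χ ψ : ℂ) * (ψ : L.H → ℂ) h = 0 := by
  have h1 := BlockTheoryInduced.sum_blockCoeff_mul b' (f := (χ : G → ℂ) ∘ L.H.subtype)
    (fun a c => irr_classFun χ (a : G) (c : G)) h
  simp only [Function.comp_apply, Subgroup.subtype_apply, Subgroup.coe_mul] at h1
  have h2 := BlockTheoryInduced.second_main_sum L.H hM hind h
    (fun u hu x hx => mem_H_of_commute L (mem_zpowers_pPart hM.1 L.hzo hz hu)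
      (Subgroup.mem_centralizer_singleton_iff.1 hx)) χ hχ
  rw [← h2, h1, ← filter_eq_members, Finset.sum_filter]
  refine Finset.sum_congr rfl fun ψ _ => ?_
  split_ifs
  · rw [← S4716.mult_spec]
  · rfl

theorem mult_tw (χ : IrrCharacter G) (g : Subgroup.normalizer (L.Z : Set G))
    (ψ : IrrCharacter L.H) : S4716.mult χ (tw L g ψ) = S4716.mult χ ψ := by
  have h : classInner ((χ : G → ℂ) ∘ L.H.subtype) (tw L g ψ : L.H → ℂ) =
      classInner ((χ : G → ℂ) ∘ L.H.subtype) (ψ : L.H → ℂ) := by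
    simp only [classInner]
    congr 1
    refine Fintype.sum_equiv (conjH L g).toEquiv _ _ fun h => ?_
    show (χ : G → ℂ) (h : G) * conj ((tw L g ψ : L.H → ℂ) h) =
      (χ : G → ℂ) ((conjH L g h : L.H) : G) * conj ((ψ : L.H → ℂ) (conjH L g h))
    rw [tw_apply, conjH_coe, irr_classFun χ (h : G) (g : G)]
  rw [S4716.mult_spec, S4716.mult_spec] at h
  exact_mod_cast h

/-- A block of `C(Z)` inducing `B` is a twist of `b`. -/
theorem exists_tw_of_induced (hM : IsPModular p M) {b' : Set (IrrCharacter L.H)}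
    (hind : IsInducedBlock M L.H b' B) :
    ∃ g : Subgroup.normalizer (L.Z : Set G), b' = tw L g '' L.b := by
  obtain ⟨x, hx⟩ := BrauerPairs81Max.exists_conj_subpairLE hM L.hmax
    (BrauerPairs81Induced.isBrauerPairOf_of_induced hM L.isPGroup_Z hind)
  have hcj : cjS x L.Z = L.Z := PGroupsCyclic.eq_of_card_eq_of_isCyclic L.cyc
    (subgroup_le_of_subpairLE hx) L.hZP (card_cjS x L.Z)
  have hxn : x ∈ Subgroup.normalizer (L.Z : Set G) := by
    refine Subgroup.mem_normalizer_iff.mpr fun u => ?_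
    conv_rhs => rw [← hcj, mem_cjS]
    simp [mul_assoc]
  refine ⟨⟨x, hxn⟩, ?_⟩
  have hpair : cP x (⟨L.Z, b'⟩ : BrauerPairIdx G) = ⟨L.Z, L.b⟩ :=
    ple_unique (c := ⟨P, L.c⟩) hM L.hmax.1.1 hx L.hle hcj
  have h1 : cjA x (eb L.H b') = eb L.H L.b := by
    have h := eb_cP x (⟨L.Z, b'⟩ : BrauerPairIdx G)
    rw [hpair] at h
    exact h.symm
  rw [cjA_eb (conj_mem_iff_of_normalizer (normalizer_le_normalizer_cen hxn))] at h1
  have h2 : pushSet (conjH L ⟨x, hxn⟩) b' = L.b := eb_injective h1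
  rw [← h2, pushSet, Set.image_image]
  refine ((Set.image_congr fun ψ _ => ?_).trans (Set.image_id b')).symm
  refine Subtype.ext (funext fun h => ?_)
  rw [tw_apply, pushChar_apply]
  rfl

variable {ψ₀ : IrrCharacter L.H}

/-- An integral combination orthogonal to the differences vanishes at singular elements. -/
theorem vanish_singular (hM : IsPModular p M) (h0 : Base L ψ₀) (a : IrrCharacter G → ℤ)
    (ha : ∀ ψ ∈ moved L ψ₀, ∑ χ ∈ members B, a χ * w L ψ₀ χ ψ = 0) {g : G} (hg : p ∣ orderOf g) :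
    ∑ χ ∈ members B, (a χ : ℂ) * (χ : G → ℂ) g = 0 := by
  by_contra hne
  obtain ⟨χ₁, hχ₁, hne₁⟩ := Finset.exists_ne_zero_of_sum_ne_zero hne
  obtain ⟨x, hxH, hxz⟩ := exists_conj_H L hM (mem_members.1 hχ₁) hg (mul_ne_zero_iff.1 hne₁).2
  refine hne ?_
  rw [Finset.sum_congr rfl fun χ _ => by rw [← irr_classFun χ g x]]
  set h : L.H := ⟨x * g * x⁻¹, hxH⟩
  have hh : p ∣ orderOf h := by
    rw [← Subgroup.orderOf_coe, show ((h : L.H) : G) = MulAut.conj x g from rfl, MulEquiv.orderOf_eq]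
    exact hg
  show ∑ χ ∈ members B, (a χ : ℂ) * (χ : G → ℂ) (h : G) = 0
  set n : IrrCharacter L.H → ℤ := fun ψ => ∑ χ ∈ members B, a χ * (S4716.mult χ ψ : ℤ) with hn
  have hconst : ∀ ψ ∈ L.b, n ψ = n ψ₀ := by
    intro ψ hψ
    rcases eq_or_ne ψ ψ₀ with rfl | hne
    · rfl
    · have h1 := ha ψ ((mem_moved L).2 ⟨hψ, hne⟩)
      simp only [w, mul_sub, Finset.sum_sub_distrib] at h1
      exact sub_eq_zero.1 h1
  set S := (Finset.univ : Finset (IrrCharacter L.H)).image
    (fun ψ : IrrCharacter L.H => blockOf M (ψ : L.H → ℂ))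
  have hblk : ∀ b' ∈ S, IsPBlock M b' := fun b' hb' => by
    obtain ⟨ψ, -, rfl⟩ := Finset.mem_image.1 hb'
    exact isPBlock_blockOf ψ
  have hsplit : ∑ χ ∈ members B, (a χ : ℂ) * (χ : G → ℂ) (h : G) =
      ∑ b' ∈ S, ∑ ψ ∈ members b', (n ψ : ℂ) * (ψ : L.H → ℂ) h := by
    have h1 : ∑ χ ∈ members B, (a χ : ℂ) * (χ : G → ℂ) (h : G) =
        ∑ ψ : IrrCharacter L.H, (n ψ : ℂ) * (ψ : L.H → ℂ) h := by
      simp only [S4716.apply_eq_sum, Finset.mul_sum, hn, Int.cast_sum, Finset.sum_mul, Int.cast_mul,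
        Int.cast_natCast]
      rw [Finset.sum_comm]
      exact Finset.sum_congr rfl fun ψ _ => Finset.sum_congr rfl fun χ _ => by ring
    rw [h1, ← Finset.sum_fiberwise_of_maps_to (g := fun ψ : IrrCharacter L.H => blockOf M (ψ : L.H → ℂ))
      (t := S) fun ψ hψ => Finset.mem_image_of_mem _ hψ]
    refine Finset.sum_congr rfl fun b' hb' => Finset.sum_congr ?_ fun ψ _ => rfl
    ext ψ
    simp only [Finset.mem_filter, Finset.mem_univ, true_and, mem_members]
    exact ⟨fun he => he ▸ self_mem_blockOf hM ψ,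
      fun hψ => (eq_blockOf_of_mem hM (hblk b' hb') hψ).symm⟩
  rw [hsplit]
  refine Finset.sum_eq_zero fun b' hb' => ?_
  obtain ⟨B', hB'⟩ := BlockContribSection.exists_induced (centralizer_zpowers L.z) hM
    ⟨1, by rw [L.hzo, pow_one]⟩ (hblk b' hb')
  by_cases hBB : B' = B
  · subst hBB
    obtain ⟨x', hx'⟩ := exists_tw_of_induced L hM hB'
    have hm : members b' = (members L.b).map (tw L x').toEmbedding := by
      ext ψ
      simp [hx']
    rw [hm, Finset.sum_map]
    have hnx : ∀ ψ ∈ members L.b, n (tw L x' ψ) = n ψ₀ := fun ψ hψ => by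
      rw [← hconst ψ (mem_members.1 hψ)]
      exact Finset.sum_congr rfl fun χ _ => by rw [mult_tw]
    calc ∑ ψ ∈ members L.b, (n (tw L x' ψ) : ℂ) * (tw L x' ψ : L.H → ℂ) h
        = (n ψ₀ : ℂ) * ∑ ψ ∈ members L.b, (ψ : L.H → ℂ) (conjH L x' h) := by
          rw [Finset.mul_sum]
          exact Finset.sum_congr rfl fun ψ hψ => by rw [hnx ψ hψ, tw_apply]
      _ = 0 := by rw [sum_block_eq_zero L hM (by rwa [MulEquiv.orderOf_eq]), mul_zero]
  · calc ∑ ψ ∈ members b', (n ψ : ℂ) * (ψ : L.H → ℂ) h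
        = ∑ χ ∈ members B, (a χ : ℂ) *
            ∑ ψ ∈ members b', (S4716.mult χ ψ : ℂ) * (ψ : L.H → ℂ) h := by
          simp only [hn, Int.cast_sum, Int.cast_mul, Int.cast_natCast, Finset.sum_mul,
            Finset.mul_sum, mul_assoc]
          rw [Finset.sum_comm]
      _ = 0 := Finset.sum_eq_zero fun χ hχ => by
          rw [beta_eq_zero' L hM hB' (fun h' => hBB
            (block_eq_of_mem hM hB'.2.1 L.hB h' (mem_members.1 hχ))) hxz, mul_zero]

/-- The degree of a combination vanishing at singular elements. -/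
theorem pow_dvd_of_vanish (s : Finset (IrrCharacter G)) (a : IrrCharacter G → ℤ)
    (h : ∀ g : G, p ∣ orderOf g → ∑ χ ∈ s, (a χ : ℂ) * (χ : G → ℂ) g = 0) :
    (p : ℤ) ^ (Nat.card G).factorization p ∣
      ∑ χ ∈ s, a χ * (charDegree (χ : G → ℂ) : ℤ) := by
  obtain ⟨S⟩ : Nonempty (Sylow p G) := inferInstance
  have hn : ∀ χ : IrrCharacter G, ∃ n : ℕ,
      ∑ x : (S : Subgroup G), (χ : G → ℂ) x = (Nat.card (S : Subgroup G) : ℂ) * (n : ℂ) := by
    intro χ
    obtain ⟨n, hn⟩ := CharBasicOrth.classInner_isCharacter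
      (CharBasic.isCharacter_comap (S : Subgroup G).subtype
        (CharBasic.isCharacter_of_isIrrCharacter χ.2))
      (CharBasicDecomp.isCharacter_one (G := (S : Subgroup G)))
    refine ⟨n, ?_⟩
    rw [← hn, CharBasicOrth.card_mul_classInner]
    simp
  choose n hn using hn
  refine ⟨∑ χ ∈ s, a χ * (n χ : ℤ), ?_⟩
  have h1 : ∑ x : (S : Subgroup G), ∑ χ ∈ s, (a χ : ℂ) * (χ : G → ℂ) x =
      ∑ χ ∈ s, (a χ : ℂ) * (charDegree (χ : G → ℂ) : ℂ) := by
    rw [Finset.sum_eq_single (1 : (S : Subgroup G))]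
    · simp [CharAverage.irr_apply_one]
    · intro x _ hx
      refine h _ ?_
      obtain ⟨k, hk⟩ := IsPGroup.iff_orderOf.mp S.2 x
      rw [Subgroup.orderOf_coe, hk]
      refine dvd_pow_self p fun h0 => hx (orderOf_eq_one_iff.1 ?_)
      rw [hk, h0, pow_zero]
    · simp
  rw [Finset.sum_comm, Finset.sum_congr rfl fun χ _ => by rw [← Finset.mul_sum, hn χ]] at h1
  have h2 : (((p : ℤ) ^ (Nat.card G).factorization p * ∑ χ ∈ s, a χ * (n χ : ℤ) : ℤ) : ℂ) =
      ((∑ χ ∈ s, a χ * (charDegree (χ : G → ℂ) : ℤ) : ℤ) : ℂ) := by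
    push_cast
    rw [← h1, Finset.mul_sum, show ((p : ℂ) ^ (Nat.card G).factorization p) =
      (Nat.card (S : Subgroup G) : ℂ) by rw [S.card_eq_multiplicity]; push_cast; rfl]
    exact Finset.sum_congr rfl fun χ _ => by ring
  exact (Int.cast_inj.1 h2).symm

variable {L} (S : Shape L)

theorem congr_X (hM : IsPModular p M) {χ χ' : IrrCharacter G} (hχ : χ ∈ S.X) (hχ' : χ' ∈ S.X) :
    (p : ℤ) ^ (Nat.card G).factorization p ∣
      S.δ χ' * (charDegree (χ' : G → ℂ) : ℤ) - S.δ χ * (charDegree (χ : G → ℂ) : ℤ) := by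
  rcases eq_or_ne χ χ' with rfl | hne
  · simp
  set a : IrrCharacter G → ℤ := fun x => if x = χ' then S.δ χ' else if x = χ then -S.δ χ else 0
  have hsum : ∀ F : IrrCharacter G → ℤ,
      ∑ x ∈ members B, a x * F x = S.δ χ' * F χ' - S.δ χ * F χ := by
    intro F
    rw [← Finset.sum_subset (Finset.insert_subset (S.subX hχ')
      (Finset.singleton_subset_iff.2 (S.subX hχ))) fun x _ hx => ?_, Finset.sum_pair hne.symm]
    · simp only [a, if_pos, if_neg hne]; ring
    · simp only [Finset.mem_insert, Finset.mem_singleton, not_or] at hx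
      simp only [a, if_neg hx.1, if_neg hx.2, zero_mul]
  have h := pow_dvd_of_vanish (p := p) (members B) a fun g hg =>
    vanish_singular L hM S.base a (fun ψ hψ => by
      rw [hsum, S.wval ψ hψ _ (S.subX hχ), S.wval ψ hψ _ (S.subX hχ'), if_pos hχ, if_pos hχ']
      rcases S.sgn χ hχ with h | h <;> rcases S.sgn χ' hχ' with h' | h' <;> rw [h, h'] <;> norm_num) hg
  rwa [hsum] at h

theorem relation_one (hM : IsPModular p M) {y : IrrCharacter G} (hy : y ∈ S.Y) :
    S.δ₀ * (charDegree (y : G → ℂ) : ℤ) +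
      ∑ χ ∈ S.X, S.δ χ * (charDegree (χ : G → ℂ) : ℤ) = 0 := by
  have h := S.relation hM hy (g := 1) (by rw [orderOf_one]; exact hM.1.not_dvd_one)
  simp only [CharAverage.irr_apply_one] at h
  exact_mod_cast h

theorem congr_Y (hM : IsPModular p M) {y χ : IrrCharacter G} (hy : y ∈ S.Y) (hχ : χ ∈ S.X) :
    (p : ℤ) ^ (Nat.card G).factorization p ∣
      -((e : ℤ) * S.δ₀ * S.δ χ * (charDegree (χ : G → ℂ) : ℤ)) - (charDegree (y : G → ℂ) : ℤ) := by
  have h1 : (p : ℤ) ^ (Nat.card G).factorization p ∣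
      ∑ x ∈ S.X, (S.δ x * (charDegree (x : G → ℂ) : ℤ) - S.δ χ * (charDegree (χ : G → ℂ) : ℤ)) :=
    Finset.dvd_sum fun x hx => congr_X S hM hχ hx
  rw [Finset.sum_sub_distrib, Finset.sum_const, S.cardX, nsmul_eq_mul] at h1
  have h2 := relation_one S hM hy
  have h3 := h1.mul_left S.δ₀
  have heq : -((e : ℤ) * S.δ₀ * S.δ χ * (charDegree (χ : G → ℂ) : ℤ)) - (charDegree (y : G → ℂ) : ℤ) =
      S.δ₀ * ((∑ x ∈ S.X, S.δ x * (charDegree (x : G → ℂ) : ℤ)) -
        (e : ℤ) * (S.δ χ * (charDegree (χ : G → ℂ) : ℤ))) := by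
    have hs : S.δ₀ * S.δ₀ = 1 := by rcases S.sgn₀ with h | h <;> rw [h] <;> norm_num
    linear_combination (-S.δ₀) * h2 + (charDegree (y : G → ℂ) : ℤ) * hs
  rwa [heq]

include S in
theorem height_zero (hM : IsPModular p M) (hP1 : P ≠ ⊥) {χ : IrrCharacter G} (hχ : χ ∈ B) :
    blockHeight p B (χ : G → ℂ) = 0 := by
  have hp : p.Prime := Fact.out
  set μ := BlockContrib.minExp p B
  set A := (Nat.card G).factorization p
  have hd : blockDefect p B ≠ 0 := fun h => hP1 <| by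
    have := card_defectGroup hM L.hB (BrauerPairs81Max.isDefectGroup_of_maximal hM L.hmax)
    rw [h, pow_zero] at this
    exact Subgroup.card_eq_one.1 this
  have hμA : μ + 1 ≤ A := by
    have := BlockContrib.minExp_add_defect hM L.hB
    omega
  have hpA : (p : ℤ) ^ (μ + 1) ∣ (p : ℤ) ^ A := pow_dvd_pow _ hμA
  set Div := fun x : IrrCharacter G => (p : ℤ) ^ (μ + 1) ∣ (charDegree (x : G → ℂ) : ℤ) with hDiv
  have hiff : ∀ x ∈ B, Div x ↔ 1 ≤ blockHeight p B (x : G → ℂ) := fun x hx => by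
    simp only [hDiv]
    rw [← Nat.cast_pow, Int.natCast_dvd_natCast,
      hp.pow_dvd_iff_le_factorization (ClassAlgebraVal.charDegree_pos x).ne',
      BlockContrib.exp_eq_add hx]
    omega
  have hunit : ∀ x ∈ S.X, IsUnit (S.δ x) := fun x hx =>
    Int.isUnit_iff.2 (S.sgn x hx)
  have hXX : ∀ x ∈ S.X, ∀ x' ∈ S.X, Div x → Div x' := fun x hx x' hx' h =>
    (hunit x' hx').dvd_mul_left.1
      ((dvd_iff_dvd_of_dvd_sub (hpA.trans (congr_X S hM hx hx'))).2 (h.mul_left _))
  have hXY : ∀ x ∈ S.X, ∀ y ∈ S.Y, Div x ↔ Div y := fun x hx y hy => by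
    refine Iff.trans ?_ (dvd_iff_dvd_of_dvd_sub (hpA.trans (congr_Y S hM hy hx)))
    rw [dvd_neg]
    have hcop : IsCoprime ((p : ℤ) ^ (μ + 1)) ((e : ℤ) * S.δ₀ * S.δ x) := by
      refine IsCoprime.pow_left ?_
      have he : IsCoprime (p : ℤ) (e : ℤ) :=
        Nat.Coprime.isCoprime (hp.coprime_iff_not_dvd.2 (L.e_not_dvd hM))
      rcases S.sgn₀ with h | h <;> rcases S.sgn x hx with h' | h' <;>
        simp [h, h', he, he.neg_right]
    exact ⟨fun h => h.mul_left _, fun h => hcop.dvd_of_dvd_mul_left h⟩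
  obtain ⟨φ, hφ, hφ0⟩ := BlockContrib.exists_height_zero hM L.hB
  have hnot : ¬ Div φ := fun h => by have := (hiff φ hφ).1 h; omega
  have hmem : ∀ x ∈ B, x ∈ S.X ∨ x ∈ S.Y := fun x hx =>
    Finset.mem_union.1 (S.union.symm ▸ mem_members.2 hx)
  obtain ⟨x₀, hx₀⟩ := Finset.card_pos.1 (S.cardX.symm ▸ L.e_pos hM : 0 < S.X.card)
  have hx0 : ¬ Div x₀ := fun h => hnot <| by
    rcases hmem φ hφ with hm | hm
    · exact hXX x₀ hx₀ φ hm h
    · exact (hXY x₀ hx₀ φ hm).1 h
  by_contra hne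
  have hχD : Div χ := (hiff χ hχ).2 (Nat.pos_of_ne_zero hne)
  rcases hmem χ hχ with hm | hm
  · exact hx0 (hXX χ hm x₀ hx₀ hχD)
  · exact hx0 ((hXY x₀ hx₀ χ hm).2 hχD)

end Cfsg.Agent.CyclicValues42
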