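import Mathlib

/-!
Counting lemmas: subgroups of cyclic groups, twisted involutions over a cyclic group with an
involutory automorphism, and moved pairs of an invariant set of elements in a doubly transitive
group.
-/

set_option autoImplicit false

namespace Cfsg.Agent.CyclicZProd23

open MulAction

/-- Subgroups of a cyclic subgroup of equal order are equal. -/
theorem eq_of_card_eq {G : Type*} [Group G] [Finite G] {D : Subgroup G} (hD : IsCyclic D)
    {H K : Subgroup G} (hH : H ≤ D) (hK : K ≤ D) (h : Nat.card H = Nat.card K) : H = K := by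
  classical
  have := Fintype.ofFinite D
  let S : Finset D := Finset.univ.filter fun a => a ^ Nat.card H = 1
  have hS : S.card ≤ Nat.card H := IsCyclic.card_pow_eq_one_le Nat.card_pos
  have key : ∀ L : Subgroup G, L ≤ D → Nat.card L = Nat.card H →
      Finset.univ.filter (fun a : D => (a : G) ∈ L) = S := by
    intro L hL hc
    refine Finset.eq_of_subset_of_card_le (fun a ha => ?_) (hS.trans ?_)
    · simp only [Finset.mem_filter, Finset.mem_univ, true_and] at ha
      refine Finset.mem_filter.2 ⟨Finset.mem_univ _, Subtype.ext ?_⟩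
      rw [SubmonoidClass.coe_pow, ← hc]
      exact congrArg Subtype.val (pow_card_eq_one' (x := (⟨a, ha⟩ : L)))
    · rw [← hc, ← Fintype.card_subtype, ← Nat.card_eq_fintype_card]
      exact le_of_eq (Nat.card_congr
        ⟨fun a => ⟨⟨a, hL a.2⟩, a.2⟩, fun a => ⟨(a.1 : G), a.2⟩, fun _ => rfl, fun _ => rfl⟩)
  ext g
  constructor <;> intro hg
  · have : (⟨g, hH hg⟩ : D) ∈ Finset.univ.filter (fun a : D => (a : G) ∈ K) := by
      rw [key K hK h.symm, ← key H hH rfl]; simpa using hg
    simpa using this
  · have : (⟨g, hK hg⟩ : D) ∈ Finset.univ.filter (fun a : D => (a : G) ∈ H) := by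
      rw [key H hH rfl, ← key K hK h.symm]; simpa using hg
    simpa using this

section Twisted

variable {D : Type*} [CommGroup D]

/-- The elements inverted by `σ`. -/
def twisted (σ : D →* D) : Subgroup D := (MonoidHom.id D * σ).ker

/-- The quotients `δ / σ δ`. -/
def shifts (σ : D →* D) : Subgroup D := (MonoidHom.id D / σ).range

/-- The elements fixed by `σ`. -/
def fixed (σ : D →* D) : Subgroup D := (MonoidHom.id D / σ).ker

theorem mem_twisted {σ : D →* D} {a : D} : a ∈ twisted σ ↔ a * σ a = 1 := Iff.rfl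

theorem mem_fixed {σ : D →* D} {a : D} : a ∈ fixed σ ↔ σ a = a := by
  change a / σ a = 1 ↔ _
  rw [div_eq_one, eq_comm]

theorem mem_shifts {σ : D →* D} {a : D} : a ∈ shifts σ ↔ ∃ b, b / σ b = a := Iff.rfl

theorem card_fixed_mul [Finite D] (σ : D →* D) :
    Nat.card (fixed σ) * Nat.card (shifts σ) = Nat.card D := by
  rw [fixed, shifts, ← Subgroup.index_ker, Subgroup.card_mul_index]

/-- At most two orbits of twisted involutions over a cyclic group. -/
theorem card_twisted_le [Finite D] [IsCyclic D] (σ : D →* D) :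
    Nat.card (twisted σ) ≤ 2 * Nat.card (shifts σ) := by
  classical
  have := Fintype.ofFinite D
  set ψ := MonoidHom.id D * σ with hψ
  have hsub : (fixed σ).map (powMonoidHom 2) ≤ ψ.range := by
    rintro _ ⟨a, ha, rfl⟩
    refine ⟨a, ?_⟩
    change a * σ a = a ^ 2
    rw [mem_fixed.1 ha, sq]
  have h2 : Nat.card (fixed σ) ≤ 2 * Nat.card ((fixed σ).map (powMonoidHom 2)) := by
    let f : fixed σ →* D := (powMonoidHom 2).comp (fixed σ).subtype
    have hr : f.range = (fixed σ).map (powMonoidHom 2) := by
      rw [MonoidHom.range_comp, Subgroup.range_subtype]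
    have hk : Nat.card f.ker ≤ 2 := by
      calc Nat.card f.ker ≤ Nat.card {a : D // a ^ 2 = 1} :=
            Nat.card_le_card_of_injective (fun a => ⟨a.1.1, MonoidHom.mem_ker.1 a.2⟩) fun a b e =>
              Subtype.ext (Subtype.ext (Subtype.ext_iff.1 e :))
        _ ≤ 2 := by
          rw [Nat.card_eq_fintype_card, Fintype.card_subtype]
          exact IsCyclic.card_pow_eq_one_le two_pos
    rw [← hr, ← Subgroup.index_ker, ← f.ker.card_mul_index]
    exact Nat.mul_le_mul_right _ hk
  have h3 : Nat.card ((fixed σ).map (powMonoidHom 2)) ≤ Nat.card ψ.range :=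
    Subgroup.card_le_of_le hsub
  have h4 : Nat.card (twisted σ) * Nat.card ψ.range = Nat.card D := by
    rw [twisted, ← hψ, ← Subgroup.index_ker, Subgroup.card_mul_index]
  have h5 := card_fixed_mul σ
  refine Nat.le_of_mul_le_mul_right (c := Nat.card ψ.range) ?_ Nat.card_pos
  calc Nat.card (twisted σ) * Nat.card ψ.range
      = Nat.card (fixed σ) * Nat.card (shifts σ) := by rw [h4, h5]
    _ ≤ 2 * Nat.card ψ.range * Nat.card (shifts σ) :=
        Nat.mul_le_mul_right _ (h2.trans (Nat.mul_le_mul_left _ h3))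
    _ = _ := by ring

/-- A non-empty set of twisted elements, invariant under and disjoint from the shifts, is a single
coset of them. -/
theorem coset_of_twisted [Finite D] [IsCyclic D] (σ : D →* D) {J : Set D}
    (hJ : J ⊆ twisted σ) (hd : ∀ a ∈ J, a ∉ shifts σ)
    (hinv : ∀ a ∈ J, ∀ b ∈ shifts σ, b * a ∈ J) (hne : J.Nonempty) :
    J.ncard = Nat.card (shifts σ) ∧ Nat.card (twisted σ) = 2 * Nat.card (shifts σ) := by
  obtain ⟨a, ha⟩ := hne
  have hs : (shifts σ : Set D) ⊆ twisted σ := by
    rintro _ ⟨b, rfl⟩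
    have hσa : σ (σ a) = a := by
      have := mem_twisted.1 (hJ ha)
      have e : σ a = a⁻¹ := eq_inv_of_mul_eq_one_right this
      rw [e, map_inv, e, inv_inv]
    change (b / σ b) * σ (b / σ b) = 1
    have h1 := mem_twisted.1 (hJ ha)
    have h2 := mem_twisted.1 (hJ (hinv a ha _ ⟨b, rfl⟩))
    change (b / σ b) * a * σ ((b / σ b) * a) = 1 at h2
    rw [map_mul, mul_mul_mul_comm, h1, mul_one] at h2
    exact h2
  have h1 : Nat.card (shifts σ) ≤ J.ncard := by
    rw [← SetLike.coe_sort_coe, Nat.card_coe_set_eq]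
    exact Set.ncard_le_ncard_of_injOn (fun b => b * a) (fun b hb => hinv a ha b hb)
      (fun b _ c _ e => mul_right_cancel e) (Set.toFinite _)
  have h2 : (J ∪ (shifts σ : Set D)).ncard ≤ (twisted σ : Set D).ncard :=
    Set.ncard_le_ncard (Set.union_subset hJ hs) (Set.toFinite _)
  rw [Set.ncard_union_eq (Set.disjoint_left.2 fun b hb => hd b hb) (Set.toFinite _)
    (Set.toFinite _), ← Nat.card_coe_set_eq (shifts σ : Set D),
    ← Nat.card_coe_set_eq (twisted σ : Set D)] at h2
  have h3 := card_twisted_le σ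
  change J.ncard + Nat.card (shifts σ) ≤ Nat.card (twisted σ) at h2
  omega

end Twisted

section Pairs

variable {G : Type*} [Group G] [Finite G] {Ω : Type*} [MulAction G Ω] [Finite Ω]

/-- In a doubly transitive group every ordered pair is joined by the same number of members of an
invariant set. -/
theorem card_moved (h2 : IsMultiplyPretransitive G Ω 2) (U : Set G)
    (hU : ∀ g : G, ∀ v ∈ U, g * v * g⁻¹ ∈ U) (f : ℕ)
    (hf : ∀ v ∈ U, {z : Ω | v • z = z}.ncard = f) {x y : Ω} (hxy : x ≠ y) :
    Nat.card Ω * (Nat.card Ω - 1) * {v | v ∈ U ∧ v • x = y}.ncard =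
      U.ncard * (Nat.card Ω - f) := by
  classical
  have := Fintype.ofFinite G
  have := Fintype.ofFinite Ω
  let P : Finset (Ω × Ω) := (Finset.univ ×ˢ Finset.univ).filter fun q => q.1 ≠ q.2
  have hP : P.card = Nat.card Ω * (Nat.card Ω - 1) := by
    rw [show P = (Finset.univ : Finset Ω).offDiag from Finset.ext fun q => by simp [P],
      Finset.offDiag_card, Finset.card_univ, Nat.card_eq_fintype_card, Nat.mul_sub, mul_one]
  have hpair : ∀ q ∈ P, (U.toFinset.filter fun v => v • q.1 = q.2).card =
      {v | v ∈ U ∧ v • x = y}.ncard := by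
    rintro ⟨a, b⟩ hq
    simp only [P, Finset.mem_filter] at hq
    obtain ⟨g, hga, hgb⟩ := (is_two_pretransitive_iff.1 h2) hxy hq.2
    rw [← Set.ncard_coe_finset, ← Set.ncard_image_of_injective {v | v ∈ U ∧ v • x = y}
      (MulAut.conj g).injective]
    congr 1
    ext v
    simp only [Finset.coe_filter, Set.mem_toFinset, Set.mem_setOf_eq, Set.mem_image,
      MulAut.conj_apply]
    constructor
    · rintro ⟨hv, hva⟩
      refine ⟨g⁻¹ * v * g, ⟨by simpa using hU g⁻¹ v hv, ?_⟩, by group⟩
      rw [mul_smul, mul_smul, hga, hva, ← hgb, inv_smul_smul]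
    · rintro ⟨w, ⟨hw, hwx⟩, rfl⟩
      refine ⟨hU g w hw, ?_⟩
      rw [mul_smul, mul_smul, ← hga, inv_smul_smul, hwx, hgb]
  have hcount : ∀ v ∈ U.toFinset, (P.filter fun q => v • q.1 = q.2).card = Nat.card Ω - f := by
    intro v hv
    rw [Set.mem_toFinset] at hv
    rw [← hf v hv, show (P.filter fun q => v • q.1 = q.2) =
        ((Finset.univ.filter fun a : Ω => ¬ v • a = a).image fun a => (a, v • a)) from
      Finset.ext fun q => ?_]
    · rw [Finset.card_image_of_injective _ fun a b e => (Prod.ext_iff.1 e).1,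
        Finset.filter_not, Finset.card_sdiff, Finset.inter_univ, Finset.card_univ,
        Nat.card_eq_fintype_card, ← Set.ncard_coe_finset]
      simp
    · obtain ⟨a, b⟩ := q
      simp only [P, Finset.mem_filter, Finset.mem_univ, true_and, Finset.mem_product,
        Finset.mem_image, Prod.mk.injEq]
      constructor
      · rintro ⟨hne, he⟩; exact ⟨a, fun e => hne (e.symm.trans he), rfl, he⟩
      · rintro ⟨c, hc, rfl, rfl⟩; exact ⟨fun e => hc e.symm, rfl⟩
  have key : ∑ q ∈ P, (U.toFinset.filter fun v => v • q.1 = q.2).card =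
      ∑ v ∈ U.toFinset, (P.filter fun q => v • q.1 = q.2).card := by
    simp only [Finset.card_filter]
    exact Finset.sum_comm
  rw [Finset.sum_congr rfl hpair, Finset.sum_congr rfl hcount, Finset.sum_const, Finset.sum_const,
    smul_eq_mul, smul_eq_mul, hP, ← Set.ncard_eq_toFinset_card'] at key
  exact key

end Pairs

end Cfsg.Agent.CyclicZProd23
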