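import Mathlib
import Cfsg.Agent.Lib.CyclicZProdBase23

/-!
Doubly transitive groups of even degree whose point stabilisers have all Sylow subgroups cyclic and
which possess a semiregular cyclic 2-subgroup of the largest possible order: basic structure.
-/

set_option autoImplicit false
set_option linter.unusedSectionVars false

namespace Cfsg.Agent.CyclicZProd23

open MulAction

/-- The hypotheses of the recognition theorem. -/
structure Setting (G Ω : Type*) [Group G] [MulAction G Ω] : Prop where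
  faithful : FaithfulSMul G Ω
  two : IsMultiplyPretransitive G Ω 2
  four : 2 < Nat.card Ω
  even : Even (Nat.card Ω)
  zstab : ∀ x : Ω, IsZGroup (stabilizer G x)
  evenD : ∀ x y : Ω, x ≠ y → 2 ∣ Nat.card (stabilizer G x ⊓ stabilizer G y : Subgroup G)
  semi : ∃ T : Subgroup G, IsCyclic T ∧ IsPGroup 2 T ∧ (∃ r, Odd r ∧ Nat.card Ω = Nat.card T * r) ∧
    ∀ t ∈ T, ∀ z : Ω, t • z = z → t = 1

variable {G Ω : Type*} [Group G] [MulAction G Ω]

/-- The common fixed points of a subgroup. -/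
def fixSet (Ω : Type*) [MulAction G Ω] (Y : Subgroup G) : Set Ω := {z | ∀ g ∈ Y, g • z = z}

theorem fixSet_smul_mem {Y : Subgroup G} {g : G}
    (hg : g ∈ Subgroup.normalizer (Y : Set G)) {z : Ω} (hz : z ∈ fixSet Ω Y) :
    g • z ∈ fixSet Ω Y := by
  intro k hk
  have : g⁻¹ * k * g ∈ Y := by
    simpa using (Subgroup.mem_normalizer_iff.1 (inv_mem hg) k).1 hk
  have h := hz _ this
  rwa [mul_smul, mul_smul, inv_smul_eq_iff] at h

theorem orbit_eq_smul (H : Subgroup G) (z : Ω) :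
    (orbit H z : Set Ω) = {w | ∃ g ∈ H, g • z = w} := by
  ext w
  simp only [mem_orbit_iff, Subtype.exists, Subgroup.mk_smul, Set.mem_setOf_eq, exists_prop]

theorem card_eq_orbit_mul [Finite G] (H : Subgroup G) (z : Ω) :
    Nat.card H = {w | ∃ g ∈ H, g • z = w}.ncard * Nat.card (H ⊓ stabilizer G z : Subgroup G) := by
  rw [← orbit_eq_smul, ← index_stabilizer, mul_comm]
  have e : Nat.card (stabilizer H z) = Nat.card (H ⊓ stabilizer G z : Subgroup G) :=
    Nat.card_congr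
      ⟨fun a => ⟨a.1.1, a.1.2, a.2⟩, fun a => ⟨⟨a.1, a.2.1⟩, a.2.2⟩, fun _ => rfl, fun _ => rfl⟩
  rw [← e, Subgroup.card_mul_index]

/-- The derived subgroup of a point stabiliser. -/
def core1 (G : Type*) [Group G] [MulAction G Ω] (x : Ω) : Subgroup G :=
  (commutator (stabilizer G x)).map (stabilizer G x).subtype

theorem core1_le (x : Ω) : core1 G x ≤ stabilizer G x := Subgroup.map_subtype_le _

theorem core1_normal {x : Ω} {b c : G} (hb : b ∈ stabilizer G x) (hc : c ∈ core1 G x) :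
    b * c * b⁻¹ ∈ core1 G x := by
  obtain ⟨k, hk, rfl⟩ := hc
  exact ⟨_, (inferInstance : (commutator (stabilizer G x)).Normal).conj_mem k hk ⟨b, hb⟩, rfl⟩

theorem commutator_mem_core1 {x : Ω} {b c : G} (hb : b ∈ stabilizer G x)
    (hc : c ∈ stabilizer G x) : b * c * b⁻¹ * c⁻¹ ∈ core1 G x :=
  ⟨⟨b, hb⟩ * ⟨c, hc⟩ * ⟨b, hb⟩⁻¹ * ⟨c, hc⟩⁻¹,
    Subgroup.commutator_mem_commutator (Subgroup.mem_top _) (Subgroup.mem_top _), rfl⟩

variable [Finite G] [Finite Ω] {x y : Ω}

theorem Setting.core1_cyclic (h : Setting G Ω) (x : Ω) : IsCyclic (core1 G x) := by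
  haveI := h.zstab x
  haveI := IsZGroup.isCyclic_commutator (stabilizer G x)
  exact isCyclic_of_surjective _
    (Subgroup.equivMapOfInjective (commutator (stabilizer G x)) _
      (stabilizer G x).subtype_injective).surjective

theorem Setting.move (h : Setting G Ω) {a b c d : Ω} (hab : a ≠ b) (hcd : c ≠ d) :
    ∃ g : G, g • a = c ∧ g • b = d := (is_two_pretransitive_iff.1 h.two) hab hcd

/-- The derived subgroup of a point stabiliser acts semiregularly. -/
theorem Setting.core1_free (h : Setting G Ω) (hxy : x ≠ y) {c : G} (hc : c ∈ core1 G x)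
    (hcy : c • y = y) : c = 1 := by
  haveI := h.faithful
  haveI := h.core1_cyclic x
  refine FaithfulSMul.eq_of_smul_eq_smul (α := Ω) fun z => ?_
  rw [one_smul]
  rcases eq_or_ne z x with rfl | hz
  · exact core1_le _ hc
  obtain ⟨g, hgx, hgy⟩ := h.move hxy hz.symm
  have hg : g⁻¹ ∈ stabilizer G x := by rw [mem_stabilizer_iff, inv_smul_eq_iff, hgx]
  have hle : (Subgroup.zpowers c).map (MulAut.conj g⁻¹).toMonoidHom ≤ core1 G x := by
    rintro _ ⟨k, hk, rfl⟩
    exact core1_normal hg ((Subgroup.zpowers_le.2 hc) hk)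
  have heq : (Subgroup.zpowers c).map (MulAut.conj g⁻¹).toMonoidHom = Subgroup.zpowers c :=
    eq_of_card_eq (h.core1_cyclic x) hle (Subgroup.zpowers_le.2 hc)
      (Subgroup.card_map_of_injective (MulAut.conj g⁻¹).injective)
  have hm : g⁻¹ * c * g ∈ Subgroup.zpowers c := by
    rw [← heq]; exact ⟨c, Subgroup.mem_zpowers c, by simp⟩
  have hy : (g⁻¹ * c * g) • y = y :=
    (Subgroup.zpowers_le.2 (show c ∈ stabilizer G y from hcy)) hm
  rw [mul_smul, mul_smul, hgy, inv_smul_eq_iff, hgy] at hy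
  exact hy

theorem Setting.two_point_cyclic (h : Setting G Ω) (hxy : x ≠ y) :
    IsCyclic (stabilizer G x ⊓ stabilizer G y : Subgroup G) := by
  haveI := h.zstab x
  let f : (stabilizer G x ⊓ stabilizer G y : Subgroup G) →* Abelianization (stabilizer G x) :=
    Abelianization.of.comp (Subgroup.inclusion inf_le_left)
  refine isCyclic_of_injective f ((injective_iff_map_eq_one f).2 fun a ha => ?_)
  have hm : Subgroup.inclusion inf_le_left a ∈ commutator (stabilizer G x) := by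
    rw [← Abelianization.ker_of]; exact ha
  exact Subtype.ext (h.core1_free hxy ⟨_, hm, rfl⟩ a.2.2)

theorem Setting.two_point_comm (h : Setting G Ω) (hxy : x ≠ y) {a b : G}
    (ha : a ∈ stabilizer G x ⊓ stabilizer G y) (hb : b ∈ stabilizer G x ⊓ stabilizer G y) :
    a * b = b * a := by
  haveI := h.two_point_cyclic hxy
  let _ := IsCyclic.commGroup (α := (stabilizer G x ⊓ stabilizer G y : Subgroup G))
  exact congrArg Subtype.val (mul_comm (⟨a, ha⟩ : (stabilizer G x ⊓ stabilizer G y : Subgroup G))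
    ⟨b, hb⟩)

theorem Setting.two_point_le_normalizer (h : Setting G Ω) (hxy : x ≠ y) {Y : Subgroup G}
    (hY : Y ≤ stabilizer G x ⊓ stabilizer G y) :
    stabilizer G x ⊓ stabilizer G y ≤ Subgroup.normalizer (Y : Set G) := by
  intro d hd
  rw [Subgroup.mem_normalizer_iff]
  intro g
  constructor
  · intro hg
    rw [h.two_point_comm hxy hd (hY hg), mul_inv_cancel_right]
    exact hg
  · intro hg
    have e : d⁻¹ * (d * g * d⁻¹) * d = d * g * d⁻¹ := by
      rw [h.two_point_comm hxy (inv_mem hd) (hY hg), inv_mul_cancel_right]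
    have : g = d * g * d⁻¹ := by
      conv_rhs => rw [← e]
      group
    rwa [this]

/-- Witt's lemma: the normaliser is doubly transitive on the fixed points. -/
theorem Setting.witt (h : Setting G Ω) (hxy : x ≠ y) {Y : Subgroup G}
    (hY : Y ≤ stabilizer G x ⊓ stabilizer G y) {a b : Ω} (hab : a ≠ b)
    (ha : a ∈ fixSet Ω Y) (hb : b ∈ fixSet Ω Y) :
    ∃ g ∈ Subgroup.normalizer (Y : Set G), g • x = a ∧ g • y = b := by
  obtain ⟨g, hgx, hgy⟩ := h.move hxy hab
  refine ⟨g, ?_, hgx, hgy⟩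
  have hle : Y.map (MulAut.conj g⁻¹).toMonoidHom ≤ stabilizer G x ⊓ stabilizer G y := by
    rintro _ ⟨k, hk, rfl⟩
    refine ⟨?_, ?_⟩
    · show (g⁻¹ * k * g⁻¹⁻¹) • x = x
      rw [inv_inv, mul_smul, mul_smul, hgx, ha k hk, inv_smul_eq_iff, hgx]
    · show (g⁻¹ * k * g⁻¹⁻¹) • y = y
      rw [inv_inv, mul_smul, mul_smul, hgy, hb k hk, inv_smul_eq_iff, hgy]
  have heq := eq_of_card_eq (h.two_point_cyclic hxy) hle hY
    (Subgroup.card_map_of_injective (MulAut.conj g⁻¹).injective)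
  rw [← inv_mem_iff, Subgroup.mem_normalizer_iff]
  intro k
  rw [inv_inv]
  constructor
  · intro hk; rw [← heq]; exact ⟨k, hk, by simp⟩
  · intro hk
    rw [← heq] at hk
    obtain ⟨k', hk', e⟩ := hk
    simp only [MulEquiv.coe_toMonoidHom, MulAut.conj_apply, inv_inv] at e
    rwa [← mul_left_cancel (mul_right_cancel e)]

theorem mem_fixSet {Y : Subgroup G} (hY : Y ≤ stabilizer G x ⊓ stabilizer G y) :
    x ∈ fixSet Ω Y ∧ y ∈ fixSet Ω Y := ⟨fun _ hg => (hY hg).1, fun _ hg => (hY hg).2⟩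

/-- The order of the normaliser of a subgroup of a two-point stabiliser. -/
theorem Setting.card_normalizer (h : Setting G Ω) (hxy : x ≠ y) {Y : Subgroup G}
    (hY : Y ≤ stabilizer G x ⊓ stabilizer G y) :
    Nat.card (Subgroup.normalizer (Y : Set G)) =
      (fixSet Ω Y).ncard * ((fixSet Ω Y).ncard - 1) *
        Nat.card (stabilizer G x ⊓ stabilizer G y : Subgroup G) := by
  set X := Subgroup.normalizer (Y : Set G) with hX
  obtain ⟨hx, hy⟩ := mem_fixSet hY
  have o1 : {w | ∃ g ∈ X, g • x = w} = fixSet Ω Y := by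
    ext w
    refine ⟨?_, fun hw => ?_⟩
    · rintro ⟨g, hg, rfl⟩; exact fixSet_smul_mem hg hx
    rcases eq_or_ne w x with rfl | hwx
    · exact ⟨1, one_mem _, one_smul _ _⟩
    obtain ⟨g, hg, hgx, -⟩ := h.witt hxy hY hwx hw hx
    exact ⟨g, hg, hgx⟩
  have o2 : {w | ∃ g ∈ X ⊓ stabilizer G x, g • y = w} = fixSet Ω Y \ {x} := by
    ext w
    refine ⟨?_, fun hw => ?_⟩
    · rintro ⟨g, hg, rfl⟩
      exact ⟨fixSet_smul_mem hg.1 hy, fun e => hxy (MulAction.injective g (hg.2.trans e.symm))⟩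
    obtain ⟨g, hg, hgx, hgy⟩ := h.witt hxy hY (Ne.symm hw.2) hx hw.1
    exact ⟨g, ⟨hg, hgx⟩, hgy⟩
  rw [card_eq_orbit_mul X x, o1, card_eq_orbit_mul (X ⊓ stabilizer G x) y, o2,
    Set.ncard_diff_singleton_of_mem hx, mul_assoc, inf_assoc,
    inf_eq_right.2 (h.two_point_le_normalizer hxy hY)]

theorem Setting.card_group (h : Setting G Ω) (hxy : x ≠ y) :
    Nat.card G = Nat.card Ω * (Nat.card Ω - 1) *
      Nat.card (stabilizer G x ⊓ stabilizer G y : Subgroup G) := by
  have e := h.card_normalizer hxy (Y := ⊥) bot_le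
  have hn : Subgroup.normalizer ((⊥ : Subgroup G) : Set G) = ⊤ :=
    Subgroup.normalizer_eq_top_iff.2 inferInstance
  have hf : fixSet Ω (⊥ : Subgroup G) = Set.univ :=
    Set.eq_univ_of_forall fun z g hg => by rw [Subgroup.mem_bot.1 hg, one_smul]
  rwa [hn, Subgroup.card_top, hf, Set.ncard_univ] at e

theorem two_pow_dvd {a b m : ℕ} (hm : Odd m) (h : 2 ^ a ∣ 2 ^ b * m) : 2 ^ a ∣ 2 ^ b :=
  (Nat.Coprime.pow_left a (Nat.coprime_two_left.2 hm)).dvd_of_dvd_mul_right h

/-- A largest 2-subgroup of a two-point stabiliser. -/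
structure IsTop (x y : Ω) (D2 : Subgroup G) : Prop where
  le : D2 ≤ stabilizer G x ⊓ stabilizer G y
  two : IsPGroup 2 D2
  odd : ∃ s, Odd s ∧ Nat.card (stabilizer G x ⊓ stabilizer G y : Subgroup G) = Nat.card D2 * s

theorem exists_isTop (x y : Ω) : ∃ D2 : Subgroup G, IsTop x y D2 := by
  haveI : Fact (Nat.Prime 2) := ⟨Nat.prime_two⟩
  set D := stabilizer G x ⊓ stabilizer G y
  obtain ⟨P⟩ : Nonempty (Sylow 2 D) := inferInstance
  refine ⟨(P : Subgroup D).map D.subtype, Subgroup.map_subtype_le _, P.2.map _,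
    (P : Subgroup D).index, ?_, ?_⟩
  · exact Nat.odd_iff.2 (Nat.two_dvd_ne_zero.1 P.not_dvd_index)
  · rw [Subgroup.card_map_of_injective D.subtype_injective, Subgroup.card_mul_index]

theorem IsTop.card_eq_of_ge {D2 Q : Subgroup G} (h : Setting G Ω) (hxy : x ≠ y)
    (ht : IsTop x y D2) (hQ : IsPGroup 2 Q) (hQx : Q ≤ stabilizer G x) (hle : D2 ≤ Q) :
    Q = D2 := by
  haveI : Fact (Nat.Prime 2) := ⟨Nat.prime_two⟩
  obtain ⟨s, hs, hD⟩ := ht.odd
  have hn : Odd (Nat.card Ω - 1) :=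
    Nat.Even.sub_odd (by have := h.four; omega) h.even odd_one
  have hB : Nat.card (stabilizer G x) = Nat.card D2 * ((Nat.card Ω - 1) * s) := by
    have e := card_eq_orbit_mul (⊤ : Subgroup G) x
    have o : {w | ∃ g ∈ (⊤ : Subgroup G), g • x = w} = Set.univ := by
      refine Set.eq_univ_of_forall fun w => ?_
      haveI := h.two
      haveI := isPretransitive_of_is_two_pretransitive (G := G) (α := Ω)
      obtain ⟨g, hg⟩ := exists_smul_eq G x w
      exact ⟨g, Subgroup.mem_top g, hg⟩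
    rw [Subgroup.card_top, h.card_group hxy, top_inf_eq, o, Set.ncard_univ, hD, mul_assoc] at e
    rw [← Nat.eq_of_mul_eq_mul_left (by have := h.four; omega) e]
    ring
  obtain ⟨a, ha⟩ := IsPGroup.iff_card.1 hQ
  obtain ⟨b, hb⟩ := IsPGroup.iff_card.1 ht.two
  have hdvd := Subgroup.card_dvd_of_le hQx
  rw [hB, ha, hb] at hdvd
  exact (Subgroup.eq_of_le_of_card_ge hle (by
    rw [ha, hb]; exact Nat.le_of_dvd (by positivity) (two_pow_dvd (hn.mul hs) hdvd))).symm

/-- A 2-group inside a subgroup splits as a semiregular cyclic group times the two-point part. -/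
structure IsSplit (X : Subgroup G) (x : Ω) (D2 S T W : Subgroup G) : Prop where
  sylow : ∃ P : Sylow 2 G, (P : Subgroup G) = S
  top_le : D2 ≤ W
  W_eq : W = S ⊓ X
  S_stab : S ⊓ stabilizer G x = D2
  T_le : T ≤ S
  T_cyclic : IsCyclic T
  T_free : ∀ t ∈ T, ∀ z : Ω, t • z = z → t = 1
  T_card : ∃ r, Odd r ∧ Nat.card Ω = Nat.card T * r
  S_mul : ∀ g ∈ S, ∃ t ∈ T, ∃ q ∈ D2, g = t * q
  W_mul : ∀ g ∈ W, ∃ t ∈ T ⊓ X, ∃ q ∈ D2, g = t * q

/-- The splitting exists, and the semiregular part in the subgroup has the two-part of the size of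
the orbit as its order. -/
theorem Setting.exists_split (h : Setting G Ω) (hxy : x ≠ y) {D2 : Subgroup G}
    (ht : IsTop x y D2) (X : Subgroup G) (hDX : stabilizer G x ⊓ stabilizer G y ≤ X) (f : ℕ)
    (hf : Even f) (hX : Nat.card X = f * (f - 1) *
      Nat.card (stabilizer G x ⊓ stabilizer G y : Subgroup G)) :
    ∃ S T W : Subgroup G, IsSplit X x D2 S T W ∧
      (∃ r, Odd r ∧ f = Nat.card (T ⊓ X : Subgroup G) * r) ∧
        ∃ r, Odd r ∧ Nat.card X = Nat.card W * r := by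
  haveI : Fact (Nat.Prime 2) := ⟨Nat.prime_two⟩
  obtain ⟨W₁, hW₁⟩ := IsPGroup.exists_le_sylow (p := 2) (G := X) (P := D2.subgroupOf X)
    ((ht.two.of_injective (Subgroup.subgroupOfEquivOfLe (ht.le.trans hDX)).toMonoidHom
      (Subgroup.subgroupOfEquivOfLe (ht.le.trans hDX)).injective))
  have hW : IsPGroup 2 ((W₁ : Subgroup X).map X.subtype) := W₁.2.map _
  obtain ⟨P, hP⟩ := hW.exists_le_sylow
  set S : Subgroup G := (P : Subgroup G)
  set W : Subgroup G := (W₁ : Subgroup X).map X.subtype with hWdef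
  have htopW : D2 ≤ W := fun d hd => ⟨⟨d, (ht.le.trans hDX) hd⟩, hW₁ hd, rfl⟩
  have hWeq : W = S ⊓ X := by
    refine le_antisymm (le_inf hP (Subgroup.map_subtype_le _)) fun g hg => ?_
    have hsub : (S.subgroupOf X) = (W₁ : Subgroup X) := by
      refine W₁.3 (P.2.comap_subtype) fun k hk => ?_
      exact hP ⟨k, hk, rfl⟩
    exact ⟨⟨g, hg.2⟩, hsub ▸ hg.1, rfl⟩
  have hSx : S ⊓ stabilizer G x = D2 :=
    ht.card_eq_of_ge h hxy (P.2.to_le inf_le_left) inf_le_right
      (le_inf (htopW.trans hP) (ht.le.trans inf_le_left))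
  obtain ⟨T₀, hT₀c, hT₀p, ⟨r, hr, hTr⟩, hT₀f⟩ := h.semi
  obtain ⟨P₀, hP₀⟩ := hT₀p.exists_le_sylow
  obtain ⟨g, hg⟩ := exists_smul_eq G P₀ P
  set T : Subgroup G := T₀.map (MulAut.conj g).toMonoidHom with hTdef
  have hTS : T ≤ S := by
    rintro _ ⟨t, ht', rfl⟩
    show _ ∈ (P : Subgroup G)
    rw [← hg]
    exact Subgroup.smul_mem_pointwise_smul t (MulAut.conj g) _ (hP₀ ht')
  haveI := hT₀c
  have hTc : IsCyclic T := isCyclic_of_surjective _
    (Subgroup.equivMapOfInjective T₀ _ (MulAut.conj g).injective).surjective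
  have hTf : ∀ t ∈ T, ∀ z : Ω, t • z = z → t = 1 := by
    rintro _ ⟨t, ht', rfl⟩ z hz
    simp only [MulEquiv.coe_toMonoidHom, MulAut.conj_apply] at hz ⊢
    rw [mul_smul, mul_smul, smul_eq_iff_eq_inv_smul] at hz
    rw [hT₀f t ht' _ hz]
    group
  have hTcard : Nat.card T = Nat.card T₀ :=
    Subgroup.card_map_of_injective (MulAut.conj g).injective
  -- the product is everything
  have hdis : T ⊓ D2 = ⊥ := by
    rw [eq_bot_iff]
    exact fun t ht' => hTf t ht'.1 x (ht.le ht'.2).1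
  obtain ⟨s, hs, hD⟩ := ht.odd
  have hn1 : Odd (Nat.card Ω - 1) :=
    Nat.Even.sub_odd (by have := h.four; omega) h.even odd_one
  have hScard : Nat.card S ≤ Nat.card T * Nat.card D2 := by
    obtain ⟨a, ha⟩ := IsPGroup.iff_card.1 P.2
    obtain ⟨b, hb⟩ := IsPGroup.iff_card.1 (hT₀p)
    obtain ⟨c, hc⟩ := IsPGroup.iff_card.1 ht.two
    have hdvd := Subgroup.card_subgroup_dvd_card S
    rw [h.card_group hxy, hTr, hD] at hdvd
    rw [hTcard, ha, hb, hc, ← pow_add]
    refine Nat.le_of_dvd (by positivity) (two_pow_dvd ((hr.mul hn1).mul hs) ?_)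
    rw [ha] at hdvd
    rw [hTr]
    refine hdvd.trans (dvd_of_eq ?_)
    rw [hb, hc, pow_add]
    ring
  have hmul : ∀ k ∈ S, ∃ t ∈ T, ∃ q ∈ D2, k = t * q := by
    let φ : T × D2 → S := fun q => ⟨q.1.1 * q.2.1, mul_mem (hTS q.1.2) (hP (htopW q.2.2))⟩
    have hφ : Function.Injective φ := fun a b e =>
      Subgroup.mul_injective_of_disjoint (disjoint_iff.2 hdis) (congrArg Subtype.val e)
    have hφs := (Nat.bijective_iff_injective_and_card φ).2 ⟨hφ, le_antisymm
      (Nat.card_le_card_of_injective φ hφ) (by rw [Nat.card_prod]; exact hScard)⟩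
    intro k hk
    obtain ⟨⟨t, q⟩, e⟩ := hφs.2 ⟨k, hk⟩
    exact ⟨t, t.2, q, q.2, (congrArg Subtype.val e).symm⟩
  have hWmul : ∀ k ∈ W, ∃ t ∈ T ⊓ X, ∃ q ∈ D2, k = t * q := by
    intro k hk
    rw [hWeq] at hk
    obtain ⟨t, ht', q, hq, rfl⟩ := hmul k hk.1
    have := mul_mem (show t * q ∈ X from hk.2) (inv_mem ((ht.le.trans hDX) hq))
    rw [mul_inv_cancel_right] at this
    exact ⟨t, ⟨ht', this⟩, q, hq, rfl⟩
  refine ⟨S, T, W, ⟨⟨P, rfl⟩, htopW, hWeq, hSx, hTS, hTc, hTf, ⟨r, hr, by rw [hTcard, hTr]⟩,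
    hmul, hWmul⟩, ?_⟩
  -- the order of the semiregular part
  have hWcard : Nat.card W = Nat.card (T ⊓ X : Subgroup G) * Nat.card D2 := by
    rw [← Nat.card_prod]
    refine (Nat.card_eq_of_bijective
      (fun q : (T ⊓ X : Subgroup G) × D2 => (⟨q.1.1 * q.2.1, ?_⟩ : W)) ⟨fun a b e => ?_, ?_⟩).symm
    · rw [hWeq]
      exact ⟨mul_mem (hTS q.1.2.1) (hP (htopW q.2.2)), mul_mem q.1.2.2 ((ht.le.trans hDX) q.2.2)⟩
    · exact Subgroup.mul_injective_of_disjoint
        (disjoint_iff.2 (eq_bot_iff.2 fun t ht' => hdis ▸ ⟨ht'.1.1, ht'.2⟩)) (congrArg Subtype.val e)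
    · rintro ⟨k, hk⟩
      obtain ⟨t, ht', q, hq, rfl⟩ := hWmul k hk
      exact ⟨(⟨t, ht'⟩, ⟨q, hq⟩), rfl⟩
  have hWo : Odd (W₁ : Subgroup X).index :=
    Nat.odd_iff.2 (Nat.two_dvd_ne_zero.1 W₁.not_dvd_index)
  have hXc : Nat.card X = Nat.card W * (W₁ : Subgroup X).index := by
    rw [hWdef, Subgroup.card_map_of_injective X.subtype_injective, Subgroup.card_mul_index]
  refine ⟨?_, _, hWo, hXc⟩
  rcases Nat.eq_zero_or_pos f with rfl | hfpos
  · exact absurd (Nat.card_pos (α := X)) (by simp [hX])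
  have hf1 : Odd (f - 1) := Nat.Even.sub_odd hfpos hf odd_one
  set k := Nat.card (T ⊓ X : Subgroup G)
  have hkey : f * ((f - 1) * s) = k * (W₁ : Subgroup X).index := by
    apply Nat.eq_of_mul_eq_mul_left (Nat.card_pos (α := D2))
    rw [hD, hXc, hWcard] at hX
    linear_combination -hX
  obtain ⟨a, ha⟩ := IsPGroup.iff_card.1
    (P.2.to_le (inf_le_left.trans hTS) : IsPGroup 2 (T ⊓ X : Subgroup G))
  have hdvd : k ∣ f :=
    (show Nat.Coprime k ((f - 1) * s) by
      rw [show k = 2 ^ a from ha]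
      exact Nat.Coprime.pow_left a (Nat.coprime_two_left.2 (hf1.mul hs))).dvd_of_dvd_mul_right
      (hkey ▸ dvd_mul_right _ _)
  obtain ⟨r', hr'⟩ := hdvd
  refine ⟨r', ?_, hr'⟩
  rw [hr', mul_assoc] at hkey
  refine Nat.Odd.of_mul_left (n := (k * r' - 1) * s) ?_
  rw [Nat.eq_of_mul_eq_mul_left Nat.card_pos hkey]
  exact hWo

end Cfsg.Agent.CyclicZProd23
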