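import Mathlib
import Cfsg.Agent.Lib.CyclicZProdSetup23

/-!
The fixed points of the 2-part of a two-point stabiliser, the regular derived subgroup of a point
stabiliser and the involutions.
-/

set_option autoImplicit false
set_option linter.unusedSectionVars false

namespace Cfsg.Agent.CyclicZProd23

open MulAction
open scoped Pointwise

variable {G Ω : Type*} [Group G] [MulAction G Ω] [Finite G] [Finite Ω] {x y : Ω}

/-- The fixed points of a subgroup as an invariant set of its normaliser. -/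
def fixAct (Ω : Type*) [MulAction G Ω] (Y : Subgroup G) :
    SubMulAction (Subgroup.normalizer (Y : Set G)) Ω where
  carrier := fixSet Ω Y
  smul_mem' g _ hz := fixSet_smul_mem g.2 hz

theorem mem_fixAct {Y : Subgroup G} {z : Ω} : z ∈ fixAct Ω Y ↔ z ∈ fixSet Ω Y := Iff.rfl

theorem card_fixAct {Y : Subgroup G} : Nat.card (fixAct Ω Y) = (fixSet Ω Y).ncard :=
  Nat.card_coe_set_eq _

theorem card_fix_parity {Y : Subgroup G} (hY : IsPGroup 2 Y) (hn : Even (Nat.card Ω)) :
    Even (fixSet Ω Y).ncard := by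
  haveI : Fact (Nat.Prime 2) := ⟨Nat.prime_two⟩
  have h := hY.card_modEq_card_fixedPoints Ω
  have e : fixedPoints Y Ω = fixSet Ω Y := by
    ext z
    exact ⟨fun hz g hg => hz ⟨g, hg⟩, fun hz g => hz g g.2⟩
  rw [e, Nat.card_coe_set_eq] at h
  rw [Nat.even_iff] at hn ⊢
  rw [← hn]
  exact h.symm

theorem two_le_fix {Y : Subgroup G} (hxy : x ≠ y)
    (hY : Y ≤ stabilizer G x ⊓ stabilizer G y) : 2 ≤ (fixSet Ω Y).ncard := by
  obtain ⟨hx, hy⟩ := mem_fixSet hY
  rw [← Set.ncard_pair hxy]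
  exact Set.ncard_le_ncard (Set.insert_subset hx (Set.singleton_subset_iff.2 hy)) (Set.toFinite _)

/-- The 2-part of a two-point stabiliser fixes only the two points. -/
theorem Setting.fix_top (h : Setting G Ω) (hxy : x ≠ y) {D2 : Subgroup G} (ht : IsTop x y D2) :
    fixSet Ω D2 = {x, y} := by
  haveI : Fact (Nat.Prime 2) := ⟨Nat.prime_two⟩
  set X := Subgroup.normalizer (D2 : Set G) with hXdef
  set f := (fixSet Ω D2).ncard with hfdef
  have hf : Even f := card_fix_parity ht.two h.even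
  have hf2 : 2 ≤ f := two_le_fix hxy ht.le
  obtain ⟨hx, hy⟩ := mem_fixSet ht.le
  by_contra hne
  have hf3 : 2 < f := by
    by_contra hle
    refine hne (Set.eq_of_subset_of_ncard_le
      (Set.insert_subset hx (Set.singleton_subset_iff.2 hy)) ?_ (Set.toFinite _)).symm
    rw [Set.ncard_pair hxy]
    omega
  obtain ⟨S, T, W, hs, -, r, hr, hXc⟩ := h.exists_split hxy ht X
    (h.two_point_le_normalizer hxy ht.le) f hf (h.card_normalizer hxy ht.le)
  let ρ := MulAction.toPermHom X (fixAct Ω D2)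
  set R := ρ.range
  let Q : Subgroup R := (W.subgroupOf X).map ρ.rangeRestrict
  have hsurj : Function.Surjective ρ.rangeRestrict := ρ.rangeRestrict_surjective
  have hWX : W ≤ X := hs.W_eq ▸ inf_le_right
  have hWo : Odd (W.subgroupOf X).index := by
    have e := (W.subgroupOf X).card_mul_index
    rw [Nat.card_congr (Subgroup.subgroupOfEquivOfLe hWX).toEquiv, hXc] at e
    rw [Nat.eq_of_mul_eq_mul_left Nat.card_pos e]
    exact hr
  have hQo : Odd Q.index := hWo.of_dvd_nat (Subgroup.index_map_dvd _ hsurj)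
  obtain ⟨P, hP⟩ := hs.sylow
  have hW2 : IsPGroup 2 W := P.2.to_le (hP ▸ hs.W_eq ▸ inf_le_left)
  have hQp : IsPGroup 2 Q :=
    (hW2.of_equiv (Subgroup.subgroupOfEquivOfLe hWX).symm).map _
  have hnd : ¬ 2 ∣ Q.index := fun hd => by
    rw [Nat.odd_iff] at hQo; omega
  let PQ : Sylow 2 R := hQp.toSylow hnd
  -- the image of the semiregular part generates
  haveI hTc : IsCyclic T := hs.T_cyclic
  let TX : Subgroup X := T.subgroupOf X
  haveI : IsCyclic TX :=
    isCyclic_of_injective (MonoidHom.mk' (fun a : TX => (⟨(a : X), a.2⟩ : T)) fun _ _ => rfl)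
      fun a b e => Subtype.ext (Subtype.ext (congrArg Subtype.val e :))
  have hQle : Q ≤ TX.map ρ.rangeRestrict := by
    rintro _ ⟨w, hw, rfl⟩
    obtain ⟨t, ht', q, hq, e⟩ := hs.W_mul w hw
    have hqX : q ∈ X := h.two_point_le_normalizer hxy ht.le (ht.le hq)
    refine ⟨⟨t, ht'.2⟩, ht'.1, Subtype.ext (Equiv.ext fun z => Subtype.ext ?_)⟩
    show t • (z : Ω) = (w : G) • (z : Ω)
    rw [e, mul_smul, z.2 q hq]
  haveI : IsCyclic (TX.map ρ.rangeRestrict) :=
    isCyclic_of_surjective (ρ.rangeRestrict.subgroupMap TX) (ρ.rangeRestrict.subgroupMap_surjective _)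
  haveI hQc : IsCyclic Q :=
    isCyclic_of_injective (Subgroup.inclusion hQle) (Subgroup.inclusion_injective _)
  -- double transitivity of the image
  have h2 : ∀ {a b c d : fixAct Ω D2}, a ≠ b → c ≠ d → ∃ g : R,
      (g : Equiv.Perm (fixAct Ω D2)) a = c ∧ (g : Equiv.Perm (fixAct Ω D2)) b = d := by
    intro a b c d hab hcd
    have hab' : (a : Ω) ≠ b := fun e => hab (Subtype.ext e)
    have hcd' : (c : Ω) ≠ d := fun e => hcd (Subtype.ext e)
    obtain ⟨g, hg, hga, hgb⟩ := h.witt hxy ht.le hab' a.2 b.2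
    obtain ⟨k, hk, hkc, hkd⟩ := h.witt hxy ht.le hcd' c.2 d.2
    refine ⟨ρ.rangeRestrict (⟨k, hk⟩ * (⟨g, hg⟩ : X)⁻¹), Subtype.ext ?_, Subtype.ext ?_⟩
    · show (k * g⁻¹) • (a : Ω) = c
      rw [mul_smul, ← hga, inv_smul_smul, hkc]
    · show (k * g⁻¹) • (b : Ω) = d
      rw [mul_smul, ← hgb, inv_smul_smul, hkd]
  haveI h2' : IsMultiplyPretransitive R (fixAct Ω D2) 2 :=
    is_two_pretransitive_iff.2 fun hab hcd => h2 hab hcd
  haveI := isPreprimitive_of_is_two_pretransitive h2'
  by_cases hR : 2 ∣ Nat.card R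
  swap
  · -- odd order
    haveI := isPretransitive_of_is_two_pretransitive (G := R) (α := fixAct Ω D2)
    refine hR (dvd_trans ?_ (MulAction.index_stabilizer_of_transitive R
      (⟨x, hx⟩ : fixAct Ω D2) ▸ Subgroup.index_dvd_card _))
    rw [card_fixAct]
    exact hf.two_dvd
  have hmin : (Nat.card R).minFac = 2 := (Nat.minFac_eq_two_iff _).2 hR
  have hcompl := IsCyclic.isComplement' hmin (P := PQ) hQc
  set N := (MonoidHom.transferSylow PQ
    ((show IsCyclic PQ from hQc).normalizer_le_centralizer hmin)).ker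
  by_cases hN : N = ⊥
  · -- the image is abelian
    have hQtop : Q = ⊤ := by
      have := hcompl.sup_eq_top
      rwa [hN, bot_sup_eq] at this
    have hcomm : ∀ a b : R, a * b = b * a := fun a b => by
      letI := IsCyclic.commGroup (α := Q)
      exact congrArg Subtype.val (mul_comm (⟨a, hQtop ▸ Subgroup.mem_top a⟩ : Q)
        ⟨b, hQtop ▸ Subgroup.mem_top b⟩)
    obtain ⟨c, hc, hcxy⟩ : ∃ c ∈ fixSet Ω D2, c ∉ ({x, y} : Set Ω) :=
      Set.exists_mem_notMem_of_ncard_lt_ncard (by rw [Set.ncard_pair hxy]; exact hf3) (Set.toFinite _)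
    simp only [Set.mem_insert_iff, Set.mem_singleton_iff, not_or] at hcxy
    set a : fixAct Ω D2 := ⟨x, hx⟩
    set b : fixAct Ω D2 := ⟨y, hy⟩
    set d : fixAct Ω D2 := ⟨c, hc⟩
    have hab : a ≠ b := fun e => hxy (congrArg Subtype.val e)
    have had : a ≠ d := fun e => hcxy.1 (congrArg Subtype.val e).symm
    obtain ⟨g, g1, g2⟩ := h2 hab had
    obtain ⟨k, k1, -⟩ := h2 hab hab.symm
    have e := congrArg (fun s : R => (s : Equiv.Perm (fixAct Ω D2)) a) (hcomm g k)
    simp only [Subgroup.coe_mul, Equiv.Perm.mul_apply] at e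
    rw [k1, g2, g1, k1] at e
    exact hcxy.2 (congrArg Subtype.val e)
  · -- the complement is transitive of odd order
    have hNn : N.Normal := MonoidHom.normal_ker _
    haveI : IsPretransitive N (fixAct Ω D2) := by
      refine IsQuasiPreprimitive.isPretransitive_of_normal fun hfix => hN ?_
      rw [Subgroup.eq_bot_iff_forall]
      intro g hg
      refine Subtype.ext (Equiv.ext fun z => ?_)
      exact (Set.eq_univ_iff_forall.1 hfix z) ⟨g, hg⟩
    have hdvd : f ∣ Nat.card N := by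
      rw [hfdef, ← card_fixAct,
        ← MulAction.index_stabilizer_of_transitive N (⟨x, hx⟩ : fixAct Ω D2)]
      exact Subgroup.index_dvd_card _
    rw [← hcompl.index_eq_card] at hdvd
    exact hnd (hf.two_dvd.trans hdvd)

theorem Setting.core1_transitive (h : Setting G Ω) (hxy : x ≠ y) {D2 : Subgroup G}
    (ht : IsTop x y D2) {w : Ω} (hw : w ≠ x) : ∃ c ∈ core1 G x, c • y = w := by
  haveI : Fact (Nat.Prime 2) := ⟨Nat.prime_two⟩
  obtain ⟨b, hbx, hby⟩ := h.move hxy (Ne.symm hw)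
  set H := core1 G x ⊔ D2
  have hDB : D2 ≤ stabilizer G x := ht.le.trans inf_le_left
  have hHB : H ≤ stabilizer G x := sup_le (core1_le x) hDB
  set D2' := D2.map (MulAut.conj b).toMonoidHom with hD2'
  have hle' : D2' ≤ H := by
    rintro _ ⟨d, hd, rfl⟩
    simp only [MulEquiv.coe_toMonoidHom, MulAut.conj_apply]
    rw [show b * d * b⁻¹ = (b * d * b⁻¹ * d⁻¹) * d by group]
    exact mul_mem (Subgroup.mem_sup_left (commutator_mem_core1 hbx (hDB hd)))
      (Subgroup.mem_sup_right hd)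
  -- both are Sylow subgroups of `H`
  obtain ⟨P, hP⟩ := IsPGroup.exists_le_sylow (p := 2) (G := H) (P := D2.subgroupOf H)
    (ht.two.of_equiv (Subgroup.subgroupOfEquivOfLe (le_sup_right : D2 ≤ H)).symm)
  obtain ⟨P', hP'⟩ := IsPGroup.exists_le_sylow (p := 2) (G := H) (P := D2'.subgroupOf H)
    ((ht.two.map _).of_equiv (Subgroup.subgroupOfEquivOfLe hle').symm)
  have hPD : (P : Subgroup H).map H.subtype = D2 := by
    refine ht.card_eq_of_ge h hxy (P.2.map _) ((Subgroup.map_subtype_le _).trans hHB) fun d hd => ?_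
    exact ⟨⟨d, le_sup_right (a := core1 G x) hd⟩, hP hd, rfl⟩
  obtain ⟨k, hk⟩ := exists_smul_eq H P P'
  have hconj : ∀ d ∈ D2, ∃ d' ∈ D2, b * d * b⁻¹ = (k : G) * d' * (k : G)⁻¹ := by
    intro d hd
    have hm : (⟨b * d * b⁻¹, hle' ⟨d, hd, rfl⟩⟩ : H) ∈ (P' : Subgroup H) := hP' ⟨d, hd, rfl⟩
    rw [← hk] at hm
    obtain ⟨a, ha, e⟩ := hm
    refine ⟨a, hPD ▸ ⟨a, ha, rfl⟩, ?_⟩
    have := congrArg Subtype.val e
    simpa [MulAut.conj_apply] using this.symm
  set g := (k : G)⁻¹ * b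
  have hgn : g ∈ Subgroup.normalizer (D2 : Set G) := by
    refine mem_normalizer_of_conj_le ?_
    intro d hd
    obtain ⟨d', hd', e⟩ := hconj d hd
    rw [show g * d * g⁻¹ = (k : G)⁻¹ * (b * d * b⁻¹) * k by simp [g]; group, e]
    rwa [show (k : G)⁻¹ * ((k : G) * d' * (k : G)⁻¹) * k = d' by group]
  have hgx : g • x = x := by
    rw [mul_smul, hbx, inv_smul_eq_iff]
    exact (hHB k.2).symm
  have hgy : g • y = y := by
    have := fixSet_smul_mem hgn (mem_fixSet ht.le).2
    rw [h.fix_top hxy ht] at this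
    rcases this with e | e
    · exact absurd (MulAction.injective g (e.trans hgx.symm)) hxy.symm
    · exact e
  have hky : (k : G) • y = w := by
    rw [← hby, show b = (k : G) * g by simp [g], mul_smul, hgy]
  have hDn : D2 ≤ Subgroup.normalizer (core1 G x : Set G) := fun d hd =>
    mem_normalizer_of_conj_le fun c hc => core1_normal (hDB hd) hc
  have hmul : (k : G) ∈ ((D2 : Set G) * (core1 G x : Set G)) := by
    rw [← Subgroup.coe_mul_of_left_le_normalizer_right _ _ hDn, sup_comm]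
    exact k.2
  obtain ⟨d, hd, c, hc, e⟩ := Set.mem_mul.1 hmul
  refine ⟨d * c * d⁻¹, core1_normal (hDB hd) hc, ?_⟩
  rw [mul_smul, show d⁻¹ • y = y from inv_smul_eq_iff.2 (ht.le hd).2.symm, e, hky]
where
  mem_normalizer_of_conj_le {H : Subgroup G} {g : G} (hg : ∀ a ∈ H, g * a * g⁻¹ ∈ H) :
      g ∈ Subgroup.normalizer (H : Set G) := by
    have heq : H.map (MulAut.conj g).toMonoidHom = H := by
      refine Subgroup.eq_of_le_of_card_ge ?_
        (Subgroup.card_map_of_injective (MulAut.conj g).injective).ge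
      rintro _ ⟨a, ha, rfl⟩; exact hg a ha
    rw [Subgroup.mem_normalizer_iff]
    intro a
    refine ⟨hg a, fun ha => ?_⟩
    rw [← heq] at ha
    obtain ⟨c, hc, e⟩ := ha
    simp only [MulEquiv.coe_toMonoidHom, MulAut.conj_apply] at e
    rwa [← mul_left_cancel (mul_right_cancel e)]

theorem Setting.card_core1 (h : Setting G Ω) (hxy : x ≠ y) {D2 : Subgroup G}
    (ht : IsTop x y D2) : Nat.card (core1 G x) = Nat.card Ω - 1 := by
  have e := card_eq_orbit_mul (core1 G x) y
  have o : {w | ∃ g ∈ core1 G x, g • y = w} = {x}ᶜ := by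
    ext w
    refine ⟨?_, fun hw => h.core1_transitive hxy ht hw⟩
    rintro ⟨g, hg, rfl⟩
    exact fun e : g • y = x => hxy (MulAction.injective g ((core1_le x hg).trans e.symm))
  have hb : (core1 G x ⊓ stabilizer G y : Subgroup G) = ⊥ :=
    eq_bot_iff.2 fun c hc => h.core1_free hxy hc.1 hc.2
  rw [o, hb, Subgroup.card_bot, mul_one, Set.ncard_compl, Set.ncard_singleton] at e
  exact e

theorem Setting.stab_decomp (h : Setting G Ω) (hxy : x ≠ y) {D2 : Subgroup G}
    (ht : IsTop x y D2) {b : G} (hb : b ∈ stabilizer G x) :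
    ∃ c ∈ core1 G x, c⁻¹ * b ∈ stabilizer G x ⊓ stabilizer G y := by
  obtain ⟨c, hc, hcy⟩ := h.core1_transitive hxy ht
    (show b • y ≠ x from fun e => hxy (MulAction.injective b (hb.trans e.symm)))
  refine ⟨c, hc, Subgroup.mem_inf.2 ⟨mul_mem (inv_mem (core1_le x hc)) hb, ?_⟩⟩
  show (c⁻¹ * b) • y = y
  rw [mul_smul, ← hcy, inv_smul_smul]

theorem Setting.eq_of_involution (h : Setting G Ω) (hxy : x ≠ y) {u v : G}
    (hu : orderOf u = 2) (huD : u ∈ stabilizer G x ⊓ stabilizer G y)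
    (hv : orderOf v = 2) (hvD : v ∈ stabilizer G x ⊓ stabilizer G y) : v = u := by
  classical
  have e := eq_of_card_eq (h.two_point_cyclic hxy) (Subgroup.zpowers_le.2 hvD)
    (Subgroup.zpowers_le.2 huD) (by rw [Nat.card_zpowers, Nat.card_zpowers, hu, hv])
  have hm : v ∈ Subgroup.zpowers u := e ▸ Subgroup.mem_zpowers v
  rw [mem_zpowers_iff_mem_range_orderOf, hu] at hm
  simp only [Finset.mem_image, Finset.mem_range] at hm
  obtain ⟨i, hi, e'⟩ := hm
  interval_cases i
  · simp [← e'] at hv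
  · simpa using e'.symm

theorem fixSet_zpowers (u : G) : fixSet Ω (Subgroup.zpowers u) = {z | u • z = z} := by
  ext z
  exact ⟨fun hz => hz u (Subgroup.mem_zpowers u), fun hz g hg =>
    (Subgroup.zpowers_le.2 (show u ∈ stabilizer G z from hz)) hg⟩

theorem Setting.isConj_of_fix (h : Setting G Ω) (hxy : x ≠ y) {u v : G} (hu : orderOf u = 2)
    (huD : u ∈ stabilizer G x ⊓ stabilizer G y) (hv : orderOf v = 2) {z : Ω} (hz : v • z = z) :
    ∃ g : G, g * u * g⁻¹ = v := by
  haveI : Fact (Nat.Prime 2) := ⟨Nat.prime_two⟩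
  have hp : IsPGroup 2 (Subgroup.zpowers v) :=
    IsPGroup.of_card (n := 1) (by rw [Nat.card_zpowers, hv, pow_one])
  have hev := card_fix_parity hp h.even
  have hzm : z ∈ fixSet Ω (Subgroup.zpowers v) := by rw [fixSet_zpowers]; exact hz
  obtain ⟨w, hw, hwz⟩ := Set.exists_ne_of_one_lt_ncard (s := fixSet Ω (Subgroup.zpowers v))
    (by
      have h1 := (Set.ncard_pos (Set.toFinite _)).2 ⟨z, hzm⟩
      rw [Nat.even_iff] at hev
      omega) z
  obtain ⟨g, hgx, hgy⟩ := h.move hxy hwz.symm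
  rw [fixSet_zpowers] at hw
  refine ⟨g, ?_⟩
  have key : g⁻¹ * v * g = u := by
    refine h.eq_of_involution hxy hu huD ?_ ⟨?_, ?_⟩
    · rw [← hv]
      exact orderOf_injective (MulAut.conj g⁻¹).toMonoidHom (MulEquiv.injective _) v ▸ by simp
    · show (g⁻¹ * v * g) • x = x
      rw [mul_smul, mul_smul, hgx, hz, inv_smul_eq_iff, hgx]
    · show (g⁻¹ * v * g) • y = y
      rw [mul_smul, mul_smul, hgy, hw, inv_smul_eq_iff, hgy]
  rw [← key]; group

end Cfsg.Agent.CyclicZProd23
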