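import Mathlib
import Cfsg.Agent.Lib.CyclicZProdFix23

/-!
The distinguished involutions, the count of involutions exchanging two points, and the case in
which an involution of a two-point stabiliser fixes only two points.
-/

set_option autoImplicit false
set_option linter.unusedSectionVars false

namespace Cfsg.Agent.CyclicZProd23

open MulAction

variable {G Ω : Type*} [Group G] [MulAction G Ω] [Finite G] [Finite Ω] {x y : Ω}

theorem mem_normalizer_zpowers {u g : G} (hu : orderOf u = 2) :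
    g ∈ Subgroup.normalizer (Subgroup.zpowers u : Set G) ↔ g * u = u * g := by
  classical
  have hz : ∀ v ∈ Subgroup.zpowers u, v = 1 ∨ v = u := by
    intro v hv
    rw [mem_zpowers_iff_mem_range_orderOf, hu] at hv
    simp only [Finset.mem_image, Finset.mem_range] at hv
    obtain ⟨i, hi, rfl⟩ := hv
    interval_cases i <;> simp
  constructor
  · intro hg
    rcases hz _ ((Subgroup.mem_normalizer_iff.1 hg u).1 (Subgroup.mem_zpowers u)) with e | e
    · have : u = 1 := by rwa [mul_inv_eq_one, mul_eq_left] at e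
      simp [this] at hu
    · rwa [mul_inv_eq_iff_eq_mul] at e
  · intro hg
    rw [Subgroup.mem_normalizer_iff]
    intro v
    have hu' : g * u * g⁻¹ = u := by rw [mul_inv_eq_iff_eq_mul, hg]
    constructor
    · intro hv
      rcases hz v hv with rfl | rfl
      · simp
      · rw [hu']; exact Subgroup.mem_zpowers _
    · intro hv
      rcases hz _ hv with e | e
      · rw [conj_eq_one_iff] at e; rw [e]; exact one_mem _
      · rw [show v = u from mul_left_cancel (mul_right_cancel (e.trans hu'.symm))]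
        exact Subgroup.mem_zpowers _

/-- The distinguished data. -/
structure IsFrame (x y : Ω) (D2 S T W : Subgroup G) (u a : G) : Prop where
  ne : x ≠ y
  top : IsTop x y D2
  u_mem : u ∈ D2
  u_ord : orderOf u = 2
  split : IsSplit (Subgroup.normalizer (Subgroup.zpowers u : Set G)) x D2 S T W
  part : ∃ r, Odd r ∧ {z : Ω | u • z = z}.ncard =
    Nat.card (T ⊓ Subgroup.normalizer (Subgroup.zpowers u : Set G) : Subgroup G) * r
  a_mem : a ∈ T
  a_sq : a * a = 1
  a_x : a • x = y
  a_y : a • y = x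
  a_u : a * u = u * a

theorem Setting.exists_frame (h : Setting G Ω) :
    ∃ (x y : Ω) (D2 S T W : Subgroup G) (u a : G), IsFrame x y D2 S T W u a := by
  haveI : Fact (Nat.Prime 2) := ⟨Nat.prime_two⟩
  haveI := h.faithful
  have hn : 1 < Nat.card Ω := by have := h.four; omega
  haveI : Nontrivial Ω := Finite.one_lt_card_iff_nontrivial.1 hn
  obtain ⟨x, y, hxy⟩ := exists_pair_ne Ω
  obtain ⟨D2, ht⟩ := exists_isTop (G := G) x y
  obtain ⟨s, hs, hD⟩ := ht.odd
  have h2 : 2 ∣ Nat.card D2 := by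
    have h2D := h.evenD x y hxy
    rw [hD] at h2D
    exact (Nat.prime_two.dvd_mul.1 h2D).resolve_right fun e => by
      rw [Nat.odd_iff] at hs; omega
  obtain ⟨⟨u, hu⟩, huo⟩ := exists_prime_orderOf_dvd_card' 2 h2
  rw [Subgroup.orderOf_mk] at huo
  have huD : Subgroup.zpowers u ≤ stabilizer G x ⊓ stabilizer G y :=
    Subgroup.zpowers_le.2 (ht.le hu)
  have hup : IsPGroup 2 (Subgroup.zpowers u) :=
    IsPGroup.of_card (n := 1) (by rw [Nat.card_zpowers, huo, pow_one])
  obtain ⟨S, T, W, hsp, hpart, -⟩ := h.exists_split hxy ht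
    (Subgroup.normalizer (Subgroup.zpowers u : Set G)) (h.two_point_le_normalizer hxy huD)
    (fixSet Ω (Subgroup.zpowers u)).ncard (card_fix_parity hup h.even) (h.card_normalizer hxy huD)
  rw [fixSet_zpowers] at hpart
  -- an element of the semiregular part exchanging the two points
  obtain ⟨P, hP⟩ := hsp.sylow
  have hD2S : D2 ≤ S := hsp.S_stab ▸ inf_le_left
  obtain ⟨r, hr, hTr⟩ := hsp.T_card
  have hT1 : T ≠ ⊥ := by
    rintro rfl
    rw [Subgroup.card_bot, one_mul] at hTr
    exact (Nat.not_even_iff_odd.2 hr) (hTr ▸ h.even)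
  have hlt : D2.subgroupOf S < ⊤ := by
    rw [lt_top_iff_ne_top, Ne, Subgroup.subgroupOf_eq_top]
    intro hle
    refine hT1 ((Subgroup.eq_bot_iff_forall _).2 fun t htT => hsp.T_free t htT x ?_)
    exact (ht.le (hle (hsp.T_le htT))).1
  haveI : Finite S := inferInstance
  haveI : Group.IsNilpotent S := (hP ▸ P.2).isNilpotent
  obtain ⟨g, hgN, hgD⟩ :=
    SetLike.exists_of_lt (normalizerCondition_of_isNilpotent _ hlt)
  obtain ⟨t, htT, q, hq, hgtq⟩ := hsp.S_mul g g.2
  have hgn : ∀ d ∈ D2, (g : G) * d * (g : G)⁻¹ ∈ D2 := by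
    intro d hd
    exact (Subgroup.mem_normalizer_iff.1 hgN ⟨d, hD2S hd⟩).1 hd
  have htn : ∀ d ∈ D2, t * d * t⁻¹ ∈ D2 := by
    intro d hd
    have := hgn (q⁻¹ * d * q) (mul_mem (mul_mem (inv_mem hq) hd) hq)
    rwa [hgtq, show t * q * (q⁻¹ * d * q) * (t * q)⁻¹ = t * d * t⁻¹ by group] at this
  have ht1 : t ≠ 1 := fun e => hgD (show (g : G) ∈ D2 by rw [hgtq, e, one_mul]; exact hq)
  have hmap : D2.map (MulAut.conj t).toMonoidHom = D2 := by
    refine Subgroup.eq_of_le_of_card_ge ?_
      (Subgroup.card_map_of_injective (MulAut.conj t).injective).ge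
    rintro _ ⟨d, hd, rfl⟩; exact htn d hd
  have hfix : ∀ z ∈ fixSet Ω D2, t • z ∈ fixSet Ω D2 := by
    intro z hz d hd
    rw [← hmap] at hd
    obtain ⟨d', hd', rfl⟩ := hd
    simp only [MulEquiv.coe_toMonoidHom, MulAut.conj_apply]
    rw [mul_smul, mul_smul, inv_smul_smul, hz d' hd']
  rw [h.fix_top hxy ht] at hfix
  have htx : t • x = y := by
    rcases hfix x (Or.inl rfl) with e | e
    · exact absurd (hsp.T_free t htT x e) ht1
    · exact e
  have hty : t • y = x := by
    rcases hfix y (Or.inr rfl) with e | e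
    · exact e
    · exact absurd (hsp.T_free t htT y e) ht1
  have htt : t * t = 1 := hsp.T_free _ (mul_mem htT htT) x (by rw [mul_smul, htx, hty])
  refine ⟨x, y, D2, S, T, W, u, t, hxy, ht, hu, huo, hsp, hpart, htT, htt, htx, hty, ?_⟩
  have := h.eq_of_involution hxy huo (ht.le hu)
    (v := t * u * t⁻¹) (by
      rw [← huo]; exact orderOf_injective (MulAut.conj t).toMonoidHom (MulEquiv.injective _) u)
    (ht.le (htn u hu))
  rwa [mul_inv_eq_iff_eq_mul] at this

variable {D2 S T W : Subgroup G} {u a : G}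

theorem IsFrame.u_D (hF : IsFrame x y D2 S T W u a) : u ∈ stabilizer G x ⊓ stabilizer G y :=
  hF.top.le hF.u_mem

theorem IsFrame.a_free (hF : IsFrame x y D2 S T W u a) (z : Ω) : a • z ≠ z := fun e =>
  hF.ne (by rw [← hF.a_x, hF.split.T_free a hF.a_mem z e, one_smul])

theorem IsFrame.a_inv (hF : IsFrame x y D2 S T W u a) : a⁻¹ = a :=
  inv_eq_of_mul_eq_one_right hF.a_sq

theorem IsFrame.a_conj_mem (hF : IsFrame x y D2 S T W u a) {d : G}
    (hd : d ∈ stabilizer G x ⊓ stabilizer G y) :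
    a * d * a⁻¹ ∈ stabilizer G x ⊓ stabilizer G y := by
  refine Subgroup.mem_inf.2 ⟨?_, ?_⟩
  · show (a * d * a⁻¹) • x = x
    rw [hF.a_inv, mul_smul, mul_smul, hF.a_x, show d • y = y from hd.2, hF.a_y]
  · show (a * d * a⁻¹) • y = y
    rw [hF.a_inv, mul_smul, mul_smul, hF.a_y, show d • x = x from hd.1, hF.a_x]

/-- The number of fixed points in terms of the derived subgroup of the stabiliser. -/
theorem IsFrame.card_fix (h : Setting G Ω) (hF : IsFrame x y D2 S T W u a) :
    {z : Ω | u • z = z}.ncard = {c : G | c ∈ core1 G x ∧ c * u = u * c}.ncard + 1 := by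
  have hset : {z : Ω | u • z = z} =
      insert x ((fun c : G => c • y) '' {c : G | c ∈ core1 G x ∧ c * u = u * c}) := by
    ext z
    constructor
    · intro hz
      rcases eq_or_ne z x with rfl | hzx
      · exact Or.inl rfl
      obtain ⟨c, hc, rfl⟩ := h.core1_transitive hF.ne hF.top hzx
      refine Or.inr ⟨c, ⟨hc, ?_⟩, rfl⟩
      have hk : c⁻¹ * (u * c * u⁻¹) = 1 := by
        refine h.core1_free hF.ne (mul_mem (inv_mem hc) (core1_normal hF.u_D.1 hc)) ?_
        rw [mul_smul, mul_smul, mul_smul, inv_smul_eq_iff.2 hF.u_D.2.symm,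
          show u • c • y = c • y from hz, inv_smul_smul]
      rw [inv_mul_eq_one] at hk
      conv_lhs => rw [hk]
      rw [inv_mul_cancel_right]
    · rintro (rfl | ⟨c, ⟨-, hc⟩, rfl⟩)
      · exact hF.u_D.1
      · show u • c • y = c • y
        rw [← mul_smul, ← hc, mul_smul, show u • y = y from hF.u_D.2]
  rw [hset, Set.ncard_insert_of_notMem ?_ (Set.toFinite _), Set.ncard_image_of_injOn ?_]
  · intro c hc d hd (e : c • y = d • y)
    exact (inv_mul_eq_one.1 (h.core1_free hF.ne (mul_mem (inv_mem hd.1) hc.1)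
      (by rw [mul_smul, e, inv_smul_smul]))).symm
  · rintro ⟨c, ⟨hc, -⟩, e : c • y = x⟩
    exact hF.ne (MulAction.injective c ((core1_le x hc).trans e.symm))

/-- Counting the involutions exchanging the two points. -/
theorem IsFrame.counts (h : Setting G Ω) (hF : IsFrame x y D2 S T W u a) :
    ∃ j, 0 < j ∧
      j * ({z : Ω | u • z = z}.ncard * ({z : Ω | u • z = z}.ncard - 1)) =
        Nat.card Ω - {z : Ω | u • z = z}.ncard ∧
      {d : G | d ∈ stabilizer G x ⊓ stabilizer G y ∧ a * d * a⁻¹ = d}.ncard * j =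
        Nat.card (stabilizer G x ⊓ stabilizer G y : Subgroup G) ∧
      {d : G | d ∈ stabilizer G x ⊓ stabilizer G y ∧ d * (a * d * a⁻¹) = 1}.ncard = 2 * j := by
  classical
  haveI := h.faithful
  set f := {z : Ω | u • z = z}.ncard with hfdef
  set U : Set G := {v | ∃ g : G, g * u * g⁻¹ = v} with hU
  have hUconj : ∀ g : G, ∀ v ∈ U, g * v * g⁻¹ ∈ U := by
    rintro g _ ⟨k, rfl⟩; exact ⟨g * k, by group⟩
  have hUf : ∀ v ∈ U, {z : Ω | v • z = z}.ncard = f := by
    rintro _ ⟨g, rfl⟩
    rw [hfdef, ← Set.ncard_image_of_injective {z : Ω | u • z = z} (MulAction.injective g)]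
    congr 1
    ext z
    constructor
    · intro (hz : (g * u * g⁻¹) • z = z)
      refine ⟨g⁻¹ • z, ?_, smul_inv_smul g z⟩
      show u • g⁻¹ • z = g⁻¹ • z
      rw [mul_smul, mul_smul, ← eq_inv_smul_iff] at hz
      exact hz
    · rintro ⟨w, hw, rfl⟩
      show (g * u * g⁻¹) • g • w = g • w
      rw [mul_smul, mul_smul, inv_smul_smul, show u • w = w from hw]
  have hX := h.card_normalizer hF.ne (Subgroup.zpowers_le.2 hF.u_D)
  rw [fixSet_zpowers, ← hfdef] at hX
  have hUcard : U.ncard * Nat.card (Subgroup.normalizer (Subgroup.zpowers u : Set G)) =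
      Nat.card G := by
    haveI : Finite (ConjAct G) := Finite.of_equiv G ConjAct.toConjAct.toEquiv
    have e := card_eq_orbit_mul (G := ConjAct G) (⊤ : Subgroup (ConjAct G)) u
    rw [Subgroup.card_top, top_inf_eq,
      show Nat.card (ConjAct G) = Nat.card G from Nat.card_congr ConjAct.ofConjAct.toEquiv,
      show {w | ∃ g ∈ (⊤ : Subgroup (ConjAct G)), g • u = w} = U from Set.ext fun v => by
        simp only [Set.mem_setOf_eq, Subgroup.mem_top, true_and, hU, ConjAct.smul_def]
        exact ⟨fun ⟨g, e⟩ => ⟨_, e⟩, fun ⟨g, e⟩ => ⟨ConjAct.toConjAct g, by simpa using e⟩⟩] at e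
    rw [e]
    congr 1
    refine Nat.card_congr (Equiv.subtypeEquiv ConjAct.ofConjAct.toEquiv fun g => ?_).symm
    rw [mem_stabilizer_iff, ConjAct.smul_def]
    show _ ↔ ConjAct.ofConjAct g ∈ _
    rw [mem_normalizer_zpowers hF.u_ord, mul_inv_eq_iff_eq_mul]
  obtain ⟨hx, hy⟩ := mem_fixSet (Subgroup.zpowers_le.2 hF.u_D)
  have hf2 : 2 ≤ f := by
    have := two_le_fix (Ω := Ω) hF.ne (Subgroup.zpowers_le.2 hF.u_D)
    rwa [fixSet_zpowers] at this
  set J : Set G := {v | v ∈ U ∧ v • x = y} with hJdef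
  have hjeq : J.ncard * (f * (f - 1)) = Nat.card Ω - f := by
    have e1 := card_moved h.two U hUconj f hUf hF.ne
    rw [← hJdef] at e1
    have e2 : U.ncard * (f * (f - 1)) = Nat.card Ω * (Nat.card Ω - 1) := by
      rw [hX, h.card_group hF.ne, ← mul_assoc] at hUcard
      exact Nat.eq_of_mul_eq_mul_right Nat.card_pos hUcard
    have hpos : 0 < U.ncard := (Set.ncard_pos (Set.toFinite _)).2 ⟨u, 1, by simp⟩
    apply Nat.eq_of_mul_eq_mul_left hpos
    calc U.ncard * (J.ncard * (f * (f - 1))) = Nat.card Ω * (Nat.card Ω - 1) * J.ncard := by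
          rw [← e2]; ring
      _ = _ := e1
  have hjpos : 0 < J.ncard := by
    rcases Nat.eq_zero_or_pos J.ncard with h0 | h0
    swap; · exact h0
    exfalso
    rw [h0, zero_mul] at hjeq
    have hu1 : u = 1 := by
      refine FaithfulSMul.eq_of_smul_eq_smul (α := Ω) fun z => ?_
      rw [one_smul]
      by_contra hz
      have : {z : Ω | u • z = z}.ncard < Nat.card Ω := by
        rw [← Set.ncard_univ]
        exact Set.ncard_lt_ncard ((Set.ssubset_univ_iff).2 fun e =>
          hz (Set.eq_univ_iff_forall.1 e z)) (Set.toFinite _)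
      omega
    have := hF.u_ord
    simp [hu1] at this
  -- the twisted involutions
  set D : Subgroup G := stabilizer G x ⊓ stabilizer G y with hDdef
  haveI hDc : IsCyclic D := h.two_point_cyclic hF.ne
  letI : CommGroup D := IsCyclic.commGroup
  let σ : D →* D := MonoidHom.mk' (fun d => ⟨a * d * a⁻¹, hF.a_conj_mem d.2⟩) fun d e =>
    Subtype.ext (by simp only [Subgroup.coe_mul]; group)
  let J' : Set D := {d | (d : G) * a ∈ U}
  have hsq : ∀ v ∈ U, v * v = 1 := by
    rintro _ ⟨g, rfl⟩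
    rw [show g * u * g⁻¹ * (g * u * g⁻¹) = g * (u * u) * g⁻¹ by group, ← sq, ← hF.u_ord,
      pow_orderOf_eq_one]
    simp
  have hJ' : J' ⊆ twisted σ := by
    intro d hd
    refine Subtype.ext ?_
    show (d : G) * (a * d * a⁻¹) = 1
    rw [hF.a_inv, show (d : G) * (a * d * a) = d * a * (d * a) by group]
    exact hsq _ hd
  have hdis : ∀ d ∈ J', d ∉ shifts σ := by
    rintro d hd ⟨b, rfl⟩
    have e : ((b / σ b : D) : G) * a = (b : G) * a * (b : G)⁻¹ := by
      show ((b : G) / (a * b * a⁻¹)) * a = _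
      rw [div_eq_mul_inv]; group
    have hm : (b : G) * a * (b : G)⁻¹ ∈ U := e ▸ hd
    have hne : {z : Ω | ((b : G) * a * (b : G)⁻¹) • z = z}.Nonempty :=
      Set.nonempty_of_ncard_ne_zero (by rw [hUf _ hm]; omega)
    obtain ⟨z, hz⟩ := hne
    simp only [Set.mem_setOf_eq, mul_smul] at hz
    exact hF.a_free _ ((smul_eq_iff_eq_inv_smul _).1 hz)
  have hinv : ∀ d ∈ J', ∀ s ∈ shifts σ, s * d ∈ J' := by
    rintro d hd _ ⟨b, rfl⟩
    show ((b / σ b * d : D) : G) * a ∈ U
    have e : ((b / σ b * d : D) : G) * a = (b : G) * ((d : G) * a) * (b : G)⁻¹ := by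
      rw [mul_comm (b / σ b) d]
      show (d : G) * ((b : G) / (a * b * a⁻¹)) * a = _
      rw [div_eq_mul_inv, ← mul_assoc (b : G) (d : G),
        h.two_point_comm hF.ne (a := (b : G)) b.2 d.2]
      group
    rw [e]; exact hUconj _ _ hd
  have hJJ : J'.ncard = J.ncard := by
    refine Set.ncard_congr (fun d _ => (d : G) * a) (fun d hd => ⟨hd, ?_⟩) ?_ ?_
    · rw [mul_smul, hF.a_x]; exact d.2.2
    · intro d e _ _ hde
      exact Subtype.ext (mul_right_cancel hde)
    · rintro v ⟨hv, hvx⟩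
      have hvy : v • y = x := by rw [← hvx, ← mul_smul, hsq v hv, one_smul]
      refine ⟨⟨v * a⁻¹, Subgroup.mem_inf.2 ⟨?_, ?_⟩⟩, ?_, by simp⟩
      · show (v * a⁻¹) • x = x
        rw [hF.a_inv, mul_smul, hF.a_x, hvy]
      · show (v * a⁻¹) • y = y
        rw [hF.a_inv, mul_smul, hF.a_y, hvx]
      · show v * a⁻¹ * a ∈ U
        rw [inv_mul_cancel_right]; exact hv
  obtain ⟨hc1, hc2⟩ := coset_of_twisted σ hJ' hdis hinv
    (Set.nonempty_of_ncard_ne_zero (by omega))
  have hfixed := card_fixed_mul σ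
  refine ⟨J.ncard, hjpos, hjeq, ?_, ?_⟩
  · rw [← hfixed, ← hc1, hJJ]
    congr 1
    rw [← Nat.card_coe_set_eq]
    refine Nat.card_congr ⟨fun d => ⟨⟨d.1, d.2.1⟩, mem_fixed.2 (Subtype.ext d.2.2)⟩,
      fun d => ⟨d.1.1, d.1.2, congrArg Subtype.val (mem_fixed.1 d.2)⟩, fun _ => rfl, fun _ => rfl⟩
  · rw [← hJJ, hc1, ← hc2, ← Nat.card_coe_set_eq]
    refine Nat.card_congr ⟨fun d => ⟨⟨d.1, d.2.1⟩, Subtype.ext d.2.2⟩,
      fun d => ⟨d.1.1, d.1.2, congrArg Subtype.val (mem_twisted.1 d.2)⟩, fun _ => rfl, fun _ => rfl⟩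

end Cfsg.Agent.CyclicZProd23
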