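import Mathlib
import Cfsg.Agent.Lib.DicksonLine

/-!
Permutation groups that act on a set as the projective linear group of degree two over a prime
field acts on the projective line, and the facts about swaps used later.
-/

set_option autoImplicit false

open scoped OnePoint MatrixGroups Classical

namespace Cfsg.Agent.CyclicZProd23

open Cfsg.Agent.DicksonLine
open Matrix.ProjGenLinGroup (mk mk_eq_mk_iff)

/-- The action is that of the projective linear group on the projective line. -/
def IsMobius (G : Type*) [Group G] {Ω : Type*} [MulAction G Ω] (p : ℕ) [Fact p.Prime]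
    (e : Ω ≃ OnePoint (ZMod p)) : Prop :=
  (∀ g : G, ∃ M : Matrix.ProjGenLinGroup (Fin 2) (ZMod p), ∀ z, e (g • z) = M • e z) ∧
    ∀ M : Matrix.ProjGenLinGroup (Fin 2) (ZMod p), ∃ g : G, ∀ z, e (g • z) = M • e z

section Line

variable {K : Type*} [Field K]

/-- An element is determined by its action. -/
theorem ext_smul {M N : Matrix.ProjGenLinGroup (Fin 2) K} (h : ∀ z : OnePoint K, M • z = N • z) :
    M = N := by
  have hne : ((0 : K) : OnePoint K) ≠ ((1 : K) : OnePoint K) := fun e =>
    zero_ne_one (OnePoint.coe_injective e)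
  refine (inv_mul_eq_one.1 (eq_one_of_three (g := M⁻¹ * N) (OnePoint.infty_ne_coe (0 : K))
    (OnePoint.infty_ne_coe (1 : K)) hne ?_ ?_ ?_)) <;>
    rw [mul_smul, ← h, inv_smul_smul]

/-- The matrix of `z ↦ b / (g z)`. -/
noncomputable def swapGL (b g : Kˣ) : GL (Fin 2) K :=
  Matrix.GeneralLinearGroup.mkOfDetNeZero !![0, (b : K); (g : K), 0] (by simp [Matrix.det_fin_two])

theorem swapGL_coe (b g : Kˣ) :
    (swapGL b g : Matrix (Fin 2) (Fin 2) K) = !![0, (b : K); (g : K), 0] := rfl

/-- An element exchanging `∞` and `0` has an antidiagonal matrix. -/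
theorem exists_swapGL {T : Matrix.ProjGenLinGroup (Fin 2) K}
    (h1 : T • (∞ : OnePoint K) = ((0 : K) : OnePoint K))
    (h2 : T • ((0 : K) : OnePoint K) = ∞) : ∃ b g : Kˣ, T = mk (swapGL b g) := by
  induction T using Matrix.ProjGenLinGroup.induction_on with | mk T =>
  rw [mk_smul, OnePoint.smul_infty_eq_ite] at h1
  rw [mk_smul, OnePoint.smul_some_eq_ite] at h2
  have h10 : T 1 0 ≠ 0 := fun e => by simp [e] at h1
  rw [if_neg h10, OnePoint.coe_eq_coe, div_eq_zero_iff] at h1
  have h00 : T 0 0 = 0 := h1.resolve_right h10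
  have h11 : T 1 1 = 0 := by
    by_contra e
    simp [e] at h2
  have h01 : T 0 1 ≠ 0 := fun e => T.det_ne_zero (by simp [Matrix.det_fin_two, e, h00])
  refine ⟨Units.mk0 _ h01, Units.mk0 _ h10, congrArg mk (Units.ext ?_)⟩
  ext i j
  fin_cases i <;> fin_cases j <;> simp [swapGL_coe, h00, h11]

/-- A swap of `∞` and `0` inverts the diagonal. -/
theorem swap_aff {T : Matrix.ProjGenLinGroup (Fin 2) K}
    (h1 : T • (∞ : OnePoint K) = ((0 : K) : OnePoint K))
    (h2 : T • ((0 : K) : OnePoint K) = ∞) (m : Kˣ) : aff m 0 * T * aff m 0 = T := by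
  obtain ⟨b, g, rfl⟩ := exists_swapGL h1 h2
  rw [aff, ← map_mul, ← map_mul, eq_comm, mk_eq_mk_iff]
  refine ⟨m, Units.ext ?_⟩
  ext i j
  fin_cases i <;> fin_cases j <;>
    simp [swapGL_coe, affGL_coe, Matrix.mul_apply, Fin.sum_univ_two, mul_comm]

/-- Two elements that are not involutions and centralise a swap commute. -/
theorem commute_of_swap {T A B : Matrix.ProjGenLinGroup (Fin 2) K}
    (h1 : T • (∞ : OnePoint K) = ((0 : K) : OnePoint K))
    (h2 : T • ((0 : K) : OnePoint K) = ∞) (hA : Commute A T) (hB : Commute B T)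
    (hA2 : A * A ≠ 1) (hB2 : B * B ≠ 1) : Commute A B := by
  obtain ⟨b, g, rfl⟩ := exists_swapGL h1 h2
  have key : ∀ M : GL (Fin 2) K, Commute (mk M) (mk (swapGL b g)) → mk M * mk M ≠ 1 →
      M 1 1 = M 0 0 ∧ M 0 1 * g = b * M 1 0 := by
    intro M hc hsq
    rw [Commute, SemiconjBy, ← map_mul, ← map_mul, mk_eq_mk_iff] at hc
    obtain ⟨l, hl⟩ := hc
    have hl' := congrArg (fun X : GL (Fin 2) K => (X : Matrix (Fin 2) (Fin 2) K)) hl
    have e00 := congrFun (congrFun hl' 0) 0
    have e01 := congrFun (congrFun hl' 0) 1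
    have e10 := congrFun (congrFun hl' 1) 0
    have e11 := congrFun (congrFun hl' 1) 1
    simp [swapGL_coe, Matrix.mul_apply, Fin.sum_univ_two] at e00 e01 e10 e11
    by_cases hl1 : (l : K) = 1
    · rw [hl1] at e00 e01
      constructor
      · apply mul_left_cancel₀ b.ne_zero
        linear_combination -e01
      · linear_combination e00
    exfalso
    by_cases hl2 : (l : K) = -1
    · rw [hl2] at e01
      have h11 : M 1 1 = -M 0 0 := by
        apply mul_left_cancel₀ b.ne_zero
        linear_combination -e01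
      have hd : M 0 0 * M 0 0 + M 0 1 * M 1 0 ≠ 0 := by
        intro e
        apply M.det_ne_zero
        rw [Matrix.det_fin_two, h11]
        linear_combination -e
      refine hsq ?_
      rw [← map_mul, ← map_one mk, eq_comm, mk_eq_mk_iff]
      refine ⟨Units.mk0 _ hd, Units.ext ?_⟩
      ext i j
      fin_cases i <;> fin_cases j <;>
        simp [Matrix.mul_apply, Fin.sum_univ_two, h11] <;> ring
    · have hne : (l : K) * l - 1 ≠ 0 := by
        intro e
        have : ((l : K) - 1) * (l + 1) = 0 := by linear_combination e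
        rcases mul_eq_zero.1 this with h | h
        · exact hl1 (sub_eq_zero.1 h)
        · exact hl2 (eq_neg_of_add_eq_zero_left h)
      have z00 : M 0 0 = 0 := by
        apply mul_left_cancel₀ (mul_ne_zero (mul_ne_zero g.ne_zero b.ne_zero) hne)
        linear_combination (g : K) * (l : K) * e01 + (b : K) * e10
      have z01 : M 0 1 = 0 := by
        apply mul_left_cancel₀ (mul_ne_zero (mul_ne_zero g.ne_zero b.ne_zero) hne)
        linear_combination (b : K) * (l : K) * e00 + (b : K) * e11
      exact M.det_ne_zero (by simp [Matrix.det_fin_two, z00, z01])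
  induction A using Matrix.ProjGenLinGroup.induction_on with | mk A =>
  induction B using Matrix.ProjGenLinGroup.induction_on with | mk B =>
  obtain ⟨a1, a2⟩ := key A hA hA2
  obtain ⟨b1, b2⟩ := key B hB hB2
  rw [Commute, SemiconjBy, ← map_mul, ← map_mul]
  refine congrArg mk (Units.ext ?_)
  ext i j
  fin_cases i <;> fin_cases j <;> simp [Matrix.mul_apply, Fin.sum_univ_two, a1, b1]
  all_goals apply mul_left_cancel₀ (mul_ne_zero g.ne_zero b.ne_zero)
  · linear_combination (b : K) * B 1 0 * a2 - (b : K) * A 1 0 * b2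
  · ring
  · ring
  · linear_combination (b : K) * A 1 0 * b2 - (b : K) * B 1 0 * a2

end Line

section Mobius

variable {G : Type*} [Group G] {Ω : Type*} [MulAction G Ω] {p : ℕ} [Fact p.Prime]
  {e : Ω ≃ OnePoint (ZMod p)}

/-- The coordinates may be chosen with two given points at infinity and at zero. -/
theorem IsMobius.normalise (h : IsMobius G p e) {x y : Ω} (hxy : x ≠ y) :
    ∃ e' : Ω ≃ OnePoint (ZMod p), IsMobius G p e' ∧ e' x = ∞ ∧
      e' y = ((0 : ZMod p) : OnePoint (ZMod p)) := by
  obtain ⟨c, hc⟩ := exists_smul_eq_infty (e x)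
  obtain ⟨b, hb⟩ := OnePoint.ne_infty_iff_exists.1 (show c • e y ≠ ∞ from fun he =>
    hxy (e.injective (MulAction.injective c (hc.trans he.symm))))
  let M := aff (1 : (ZMod p)ˣ) (-b) * c
  refine ⟨e.trans (MulAction.toPerm M), ⟨fun g => ?_, fun N => ?_⟩, ?_, ?_⟩
  · obtain ⟨N, hN⟩ := h.1 g
    exact ⟨M * N * M⁻¹, fun z => by simp [hN, mul_smul]⟩
  · obtain ⟨g, hg⟩ := h.2 (M⁻¹ * N * M)
    exact ⟨g, fun z => by simp [hg, mul_smul]⟩
  · simp [M, mul_smul, hc, aff_smul_infty]
  · simp [M, mul_smul, ← hb, aff_smul_coe]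

/-- The projective element of a group element. -/
theorem IsMobius.matrix_unique (h : IsMobius G p e) {g : G}
    {M N : Matrix.ProjGenLinGroup (Fin 2) (ZMod p)} (hM : ∀ z, e (g • z) = M • e z)
    (hN : ∀ z, e (g • z) = N • e z) : M = N := by
  refine ext_smul fun w => ?_
  obtain ⟨z, rfl⟩ := e.surjective w
  rw [← hM, ← hN]

/-- A faithful such group is the projective linear group. -/
theorem IsMobius.nonempty_equiv [FaithfulSMul G Ω] (h : IsMobius G p e) :
    Nonempty (G ≃* Matrix.ProjGenLinGroup (Fin 2) (ZMod p)) := by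
  choose f hf using h.1
  have hmul : ∀ a b, f (a * b) = f a * f b := fun a b =>
    h.matrix_unique (hf _) fun z => by rw [mul_smul, hf, hf, mul_smul]
  refine ⟨MulEquiv.ofBijective (MonoidHom.mk' f hmul) ⟨fun a b hab => ?_, fun N => ?_⟩⟩
  · replace hab : f a = f b := hab
    exact FaithfulSMul.eq_of_smul_eq_smul (α := Ω) fun z => e.injective (by rw [hf, hf, hab])
  · obtain ⟨g, hg⟩ := h.2 N
    exact ⟨g, h.matrix_unique (hf g) hg⟩

end Mobius

end Cfsg.Agent.CyclicZProd23
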