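import Mathlib
import Cfsg.Agent.Lib.CyclicZProdFrame23
import Cfsg.Agent.Lib.CyclicZProdPGL23

/-!
If an involution of a two-point stabiliser fixes only two points, the degree is one more than a
prime and the group is the projective linear group in its natural action.
-/

set_option autoImplicit false
set_option linter.unusedSectionVars false

open scoped OnePoint

namespace Cfsg.Agent.CyclicZProd23

open MulAction Cfsg.Agent.DicksonLine
open scoped Classical

variable {G Ω : Type*} [Group G] [MulAction G Ω] [Finite G] [Finite Ω] {x y : Ω}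
  {D2 S T W : Subgroup G} {u a : G}

theorem addHom_zmod {p : ℕ} [NeZero p] (f : ZMod p →+ ZMod p) (k : ZMod p) : f k = f 1 * k := by
  conv_lhs => rw [← ZMod.natCast_zmod_val k, ← nsmul_one k.val, map_nsmul, nsmul_eq_mul]
  rw [ZMod.natCast_zmod_val, mul_comm]

theorem IsFrame.endgame (h : Setting G Ω) (hF : IsFrame x y D2 S T W u a)
    (hf : {z : Ω | u • z = z}.ncard = 2) :
    ∃ (p : ℕ) (_ : Fact p.Prime) (e : Ω ≃ OnePoint (ZMod p)), IsMobius G p e := by
  haveI := h.faithful
  set D : Subgroup G := stabilizer G x ⊓ stabilizer G y with hDdef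
  obtain ⟨j, hj0, hj, hfix, htw⟩ := hF.counts h
  rw [hf] at hj
  have hn4 := h.four
  have hC := h.card_core1 hF.ne hF.top
  haveI hCc : IsCyclic (core1 G x) := h.core1_cyclic x
  -- the two-point stabiliser acts faithfully on the derived subgroup
  have hconj : ∀ d : D, ∀ c : core1 G x, (d : G) * c * (d : G)⁻¹ ∈ core1 G x := fun d c =>
    core1_normal d.2.1 c.2
  let ι : D → MulAut (core1 G x) := fun d =>
    { toFun := fun c => ⟨_, hconj d c⟩
      invFun := fun c => ⟨_, hconj d⁻¹ c⟩
      left_inv := fun c => Subtype.ext (by simp only [Subgroup.coe_inv]; group)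
      right_inv := fun c => Subtype.ext (by simp only [Subgroup.coe_inv]; group)
      map_mul' := fun c c' => Subtype.ext (by simp only [Subgroup.coe_mul]; group) }
  have hιinj : Function.Injective ι := by
    intro d d' e
    refine Subtype.ext (FaithfulSMul.eq_of_smul_eq_smul (α := Ω) fun z => ?_)
    rcases eq_or_ne z x with rfl | hz
    · rw [show (d : G) • z = z from d.2.1, show (d' : G) • z = z from d'.2.1]
    obtain ⟨c, hc, rfl⟩ := h.core1_transitive hF.ne hF.top hz
    have e' : (d : G) * c * (d : G)⁻¹ = (d' : G) * c * (d' : G)⁻¹ :=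
      congrArg Subtype.val (congrArg (fun F : MulAut (core1 G x) => F ⟨c, hc⟩) e)
    calc (d : G) • c • y = ((d : G) * c * (d : G)⁻¹) • y := by
          rw [mul_smul, mul_smul, show (d : G)⁻¹ • y = y from (inv_mem d.2 : (d : G)⁻¹ ∈ D).2]
      _ = ((d' : G) * c * (d' : G)⁻¹) • y := by rw [e']
      _ = (d' : G) • c • y := by
          rw [mul_smul, mul_smul, show (d' : G)⁻¹ • y = y from (inv_mem d'.2 : (d' : G)⁻¹ ∈ D).2]
  have hDle : Nat.card D ≤ (Nat.card Ω - 1).totient := by
    rw [← hC, ← IsCyclic.card_mulAut]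
    exact Nat.card_le_card_of_injective ι hιinj
  have h2fix : 2 ≤ {d : G | d ∈ D ∧ a * d * a⁻¹ = d}.ncard := by
    have hu1 : (1 : G) ≠ u := by
      intro e
      have := hF.u_ord
      simp [← e] at this
    rw [← Set.ncard_pair hu1]
    refine Set.ncard_le_ncard ?_ (Set.toFinite _)
    rintro v (rfl | rfl)
    · exact ⟨one_mem _, by simp⟩
    · exact ⟨hF.u_D, by rw [hF.a_u, mul_inv_cancel_right]⟩
  have hDge : Nat.card Ω - 2 ≤ Nat.card D := by
    have hfix' : {d : G | d ∈ D ∧ a * d * a⁻¹ = d}.ncard * j = Nat.card D := hfix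
    rw [← hj, ← hfix']
    have := Nat.mul_le_mul_right j h2fix
    omega
  have htot := Nat.totient_lt (Nat.card Ω - 1) (by omega)
  have hprime : (Nat.card Ω - 1).Prime :=
    (Nat.totient_eq_iff_prime (by omega)).1 (by omega)
  set p := Nat.card Ω - 1 with hpdef
  haveI : Fact p.Prime := ⟨hprime⟩
  have hDcard : Nat.card D = p - 1 := by omega
  -- every element is inverted
  have hinv : ∀ d ∈ D, a * d * a⁻¹ = d⁻¹ := by
    intro d hd
    have hall : {d : G | d ∈ D ∧ d * (a * d * a⁻¹) = 1} = (D : Set G) := by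
      refine Set.eq_of_subset_of_ncard_le (fun d hd => hd.1) ?_ (Set.toFinite _)
      rw [htw, ← Nat.card_coe_set_eq]
      show Nat.card D ≤ 2 * j
      omega
    have : d ∈ {d : G | d ∈ D ∧ d * (a * d * a⁻¹) = 1} := by rw [hall]; exact hd
    exact eq_inv_of_mul_eq_one_right this.2
  -- coordinates
  have hCp : Nat.card (Multiplicative (ZMod p)) = Nat.card (core1 G x) := by
    rw [hC, Nat.card_congr Multiplicative.toAdd, Nat.card_zmod]
  let E : Multiplicative (ZMod p) ≃* core1 G x := mulEquivOfCyclicCardEq hCp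
  let φ : ZMod p → G := fun k => (E (Multiplicative.ofAdd k) : G)
  have hφC : ∀ k, φ k ∈ core1 G x := fun k => (E _).2
  have hφadd : ∀ k l, φ (k + l) = φ k * φ l := fun k l => by
    simp only [φ, ofAdd_add, map_mul, Subgroup.coe_mul]
  have hφ0 : φ 0 = 1 := by simp [φ]
  have hφsurj : ∀ c ∈ core1 G x, ∃ k, φ k = c := fun c hc =>
    ⟨Multiplicative.toAdd (E.symm ⟨c, hc⟩), by simp [φ]⟩
  have hφx : ∀ k, φ k • x = x := fun k => core1_le x (hφC k)
  have hφinj : ∀ k l, φ k • y = φ l • y → k = l := by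
    intro k l e
    have h1 := inv_mul_eq_one.1 (h.core1_free hF.ne (mul_mem (inv_mem (hφC k)) (hφC l))
      (by rw [mul_smul, ← e, inv_smul_smul]))
    exact Multiplicative.ofAdd.injective (E.injective (Subtype.ext h1))
  have hφne : ∀ k, φ k • y ≠ x := fun k e =>
    hF.ne (MulAction.injective (φ k) ((hφx k).trans e.symm))
  let F : OnePoint (ZMod p) → Ω := fun z => z.elim x fun k => φ k • y
  have hFinj : Function.Injective F := by
    intro z w e
    cases z with
    | infty => cases w with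
      | infty => rfl
      | coe l => exact absurd (Eq.symm e) (hφne l)
    | coe k => cases w with
      | infty => exact absurd e (hφne k)
      | coe l => exact congrArg _ (hφinj k l e)
  have hFbij : Function.Bijective F := by
    refine (Nat.bijective_iff_injective_and_card F).2 ⟨hFinj, ?_⟩
    rw [show Nat.card (OnePoint (ZMod p)) = Nat.card (Option (ZMod p)) from rfl,
      Finite.card_option, Nat.card_zmod]
    omega
  set e : Ω ≃ OnePoint (ZMod p) := (Equiv.ofBijective F hFbij).symm with he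
  have heF : ∀ z, e (F z) = z := fun z => (Equiv.ofBijective F hFbij).symm_apply_apply z
  have hlift : ∀ {M : Matrix.ProjGenLinGroup (Fin 2) (ZMod p)} {g : G},
      (∀ w, g • F w = F (M • w)) → ∀ z, e (g • z) = M • e z := by
    intro M g hw z
    obtain ⟨w, rfl⟩ := hFbij.2 z
    rw [hw, heF, heF]
  -- the multipliers
  have hlam : ∀ d : D, ∃ l : ZMod p, ∀ k, (d : G) * φ k * (d : G)⁻¹ = φ (l * k) := by
    intro d
    let f : ZMod p →+ ZMod p := AddMonoidHom.mk'
      (fun k => Multiplicative.toAdd (E.symm ⟨_, hconj d (E (Multiplicative.ofAdd k))⟩))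
      fun k l => by
        rw [← toAdd_mul, ← map_mul]
        refine congrArg _ (congrArg _ (Subtype.ext ?_))
        simp only [ofAdd_add, map_mul, Subgroup.coe_mul]
        group
    refine ⟨f 1, fun k => ?_⟩
    rw [← addHom_zmod f k]
    simp [φ, f]
  choose lam hlam using hlam
  have hDy : ∀ d : D, ∀ k, (d : G) • φ k • y = φ (lam d * k) • y := by
    intro d k
    rw [← hlam d k, mul_smul, mul_smul, show (d : G)⁻¹ • y = y from (inv_mem d.2 : (d : G)⁻¹ ∈ D).2]
  have hlam0 : ∀ d : D, lam d ≠ 0 := by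
    intro d e0
    have h1 := hlam d 1
    rw [e0, zero_mul, hφ0, conj_eq_one_iff, ← hφ0] at h1
    exact one_ne_zero (hφinj 1 0 (by rw [h1]))
  have hlaminj : Function.Injective lam := by
    intro d d' e0
    refine Subtype.ext (FaithfulSMul.eq_of_smul_eq_smul (α := Ω) fun z => ?_)
    obtain ⟨w, rfl⟩ := hFbij.2 z
    cases w with
    | infty => exact (show (d : G) • x = x from d.2.1).trans (show (d' : G) • x = x from d'.2.1).symm
    | coe k =>
      show (d : G) • φ k • y = (d' : G) • φ k • y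
      rw [hDy, hDy, e0]
  have hlamsurj : ∀ l : ZMod p, l ≠ 0 → ∃ d : D, lam d = l := by
    intro l hl
    let g : D → (ZMod p)ˣ := fun d => Units.mk0 _ (hlam0 d)
    have hg : Function.Bijective g := by
      refine (Nat.bijective_iff_injective_and_card g).2
        ⟨fun d d' e => hlaminj (by simpa [g] using congrArg Units.val e), ?_⟩
      rw [hDcard, Nat.card_eq_fintype_card, ZMod.card_units]
    obtain ⟨d, hd⟩ := hg.2 (Units.mk0 l hl)
    exact ⟨d, congrArg Units.val hd⟩
  -- the exchanging involution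
  have h1x : a • φ 1 • y ≠ x := fun e => one_ne_zero (α := ZMod p) (hφinj 1 0
    (by rw [hφ0, one_smul]; exact MulAction.injective a (e.trans hF.a_y.symm)))
  obtain ⟨c0, hc0C, hc0⟩ := h.core1_transitive hF.ne hF.top h1x
  obtain ⟨c, rfl⟩ := hφsurj c0 hc0C
  have hc : c ≠ 0 := by
    rintro rfl
    rw [hφ0, one_smul] at hc0
    exact hφne 1 (MulAction.injective a (hc0.symm.trans hF.a_x.symm))
  have hlammul : ∀ d d' : D, lam (d * d') = lam d * lam d' := by
    intro d d'
    have h1 : ((d * d' : D) : G) • φ 1 • y = (d : G) • (d' : G) • φ 1 • y := by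
      rw [Subgroup.coe_mul, mul_smul]
    rw [hDy, hDy, hDy, mul_one, mul_one] at h1
    exact hφinj _ _ h1
  have ha : ∀ k, k ≠ 0 → a • φ k • y = φ (c * k⁻¹) • y := by
    intro k hk
    obtain ⟨d, hd⟩ := hlamsurj k hk
    have hdinv : lam d⁻¹ = k⁻¹ := by
      refine eq_inv_of_mul_eq_one_left ?_
      rw [← hd, ← hlammul, inv_mul_cancel]
      have h1 : ((1 : D) : G) • φ 1 • y = φ 1 • y := by simp
      rw [hDy, mul_one] at h1
      exact hφinj _ _ h1
    have h1 : φ k • y = (d : G) • φ 1 • y := by rw [hDy, mul_one, hd]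
    rw [h1, show a • (d : G) • φ 1 • y = (a * d * a⁻¹) • a • φ 1 • y by
      rw [mul_smul, mul_smul, inv_smul_smul], hinv d d.2, ← hc0]
    have h2 := hDy d⁻¹ c
    rw [Subgroup.coe_inv, hdinv, mul_comm] at h2
    exact h2
  let Tm : Matrix.ProjGenLinGroup (Fin 2) (ZMod p) :=
    Matrix.ProjGenLinGroup.mk (swapGL (Units.mk0 c hc) 1)
  have hTm : ∀ w, a • F w = F (Tm • w) := by
    intro w
    cases w with
    | infty =>
      rw [show Tm • (∞ : OnePoint (ZMod p)) = ((0 : ZMod p) : OnePoint (ZMod p)) by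
        simp [Tm, mk_smul, OnePoint.smul_infty_eq_ite, swapGL_coe]]
      show a • x = φ 0 • y
      rw [hφ0, one_smul, hF.a_x]
    | coe k =>
      by_cases hk : k = 0
      · subst hk
        rw [show Tm • ((0 : ZMod p) : OnePoint (ZMod p)) = ∞ by
          simp [Tm, mk_smul, OnePoint.smul_some_eq_ite, swapGL_coe]]
        show a • φ 0 • y = x
        rw [hφ0, one_smul, hF.a_y]
      · rw [show Tm • (k : OnePoint (ZMod p)) = ((c * k⁻¹ : ZMod p) : OnePoint (ZMod p)) by
          simp [Tm, mk_smul, OnePoint.smul_some_eq_ite, swapGL_coe, hk, div_eq_mul_inv]]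
        exact ha k hk
  have hTr : ∀ b : ZMod p, ∀ w, φ b • F w = F (aff 1 b • w) := by
    intro b w
    cases w with
    | infty => rw [aff_smul_infty]; exact hφx b
    | coe k =>
      rw [aff_smul_coe]
      show φ b • φ k • y = φ _ • y
      rw [← mul_smul, ← hφadd, Units.val_one, one_mul, add_comm]
  have hDm : ∀ d : D, ∀ w, (d : G) • F w = F (aff (Units.mk0 _ (hlam0 d)) 0 • w) := by
    intro d w
    cases w with
    | infty => rw [aff_smul_infty]; exact d.2.1
    | coe k =>
      rw [aff_smul_coe]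
      show (d : G) • φ k • y = φ _ • y
      rw [hDy, Units.val_mk0, add_zero]
  -- the group of elements acting projectively
  let Γ : Subgroup G :=
    { carrier := {g | ∃ M : Matrix.ProjGenLinGroup (Fin 2) (ZMod p), ∀ w, g • F w = F (M • w)}
      one_mem' := ⟨1, fun w => by simp⟩
      mul_mem' := fun {g g'} ⟨M, hM⟩ ⟨M', hM'⟩ =>
        ⟨M * M', fun w => by rw [mul_smul, hM', hM, mul_smul]⟩
      inv_mem' := fun {g} ⟨M, hM⟩ => ⟨M⁻¹, fun w => by
        rw [inv_smul_eq_iff, hM, smul_inv_smul]⟩ }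
  have hB : ∀ g : G, g • x = x → g ∈ Γ := by
    intro g hg
    obtain ⟨c', hc', hd⟩ := h.stab_decomp hF.ne hF.top (b := g) hg
    obtain ⟨b, rfl⟩ := hφsurj c' hc'
    rw [show g = φ b * ((φ b)⁻¹ * g) by group]
    exact mul_mem ⟨_, hTr b⟩ ⟨_, hDm ⟨_, hd⟩⟩
  have hall : ∀ g : G, g ∈ Γ := by
    intro g
    by_cases hgx : g • x = x
    · exact hB g hgx
    obtain ⟨c', hc', hce⟩ := h.core1_transitive hF.ne hF.top hgx
    have hm : a * c'⁻¹ * g ∈ Γ := hB _ (by rw [mul_smul, mul_smul, ← hce, inv_smul_smul, hF.a_y])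
    obtain ⟨b, rfl⟩ := hφsurj c' hc'
    have := mul_mem (mul_mem (show φ b ∈ Γ from ⟨_, hTr b⟩)
      (inv_mem (show a ∈ Γ from ⟨_, hTm⟩))) hm
    rwa [show φ b * a⁻¹ * (a * (φ b)⁻¹ * g) = g by group] at this
  refine ⟨p, inferInstance, e, fun g => ?_, fun M => ?_⟩
  · obtain ⟨M, hM⟩ := hall g
    exact ⟨M, hlift hM⟩
  · set A := F (M • (∞ : OnePoint (ZMod p)))
    set B := F (M • ((0 : ZMod p) : OnePoint (ZMod p)))
    set C := F (M • ((1 : ZMod p) : OnePoint (ZMod p)))
    have hne01 : ((0 : ZMod p) : OnePoint (ZMod p)) ≠ ((1 : ZMod p) : OnePoint (ZMod p)) :=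
      fun e => zero_ne_one (OnePoint.coe_injective e)
    obtain ⟨g, hgA, hgB⟩ := h.move hF.ne (show A ≠ B from fun e =>
      OnePoint.infty_ne_coe _ (MulAction.injective M (hFinj e)))
    obtain ⟨w, hw⟩ := hFbij.2 (g⁻¹ • C)
    obtain ⟨k, rfl⟩ : ∃ k : ZMod p, (k : OnePoint (ZMod p)) = w := by
      refine OnePoint.ne_infty_iff_exists.1 ?_
      rintro rfl
      change x = g⁻¹ • C at hw
      rw [eq_inv_smul_iff, hgA] at hw
      exact OnePoint.infty_ne_coe _ (MulAction.injective M (hFinj hw))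
    have hk : k ≠ 0 := by
      rintro rfl
      change φ 0 • y = g⁻¹ • C at hw
      rw [hφ0, one_smul, eq_inv_smul_iff, hgB] at hw
      exact hne01 (MulAction.injective M (hFinj hw))
    obtain ⟨d, hd⟩ := hlamsurj k hk
    obtain ⟨N, hN⟩ := hall (g * d)
    refine ⟨g * d, hlift ?_⟩
    suffices N = M by rwa [← this]
    have k1 : N • (∞ : OnePoint (ZMod p)) = M • ∞ := hFinj (by
      rw [← hN, mul_smul, show (d : G) • F ∞ = x from d.2.1, hgA])
    have k2 : N • ((0 : ZMod p) : OnePoint (ZMod p)) = M • ((0 : ZMod p) : OnePoint (ZMod p)) :=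
      hFinj (by
        rw [← hN, mul_smul, show F ((0 : ZMod p) : OnePoint (ZMod p)) = φ 0 • y from rfl, hφ0,
          one_smul, show (d : G) • y = y from d.2.2, hgB])
    have k3 : N • ((1 : ZMod p) : OnePoint (ZMod p)) = M • ((1 : ZMod p) : OnePoint (ZMod p)) :=
      hFinj (by
        rw [← hN, mul_smul, show F ((1 : ZMod p) : OnePoint (ZMod p)) = φ 1 • y from rfl, hDy,
          mul_one, hd, show φ k • y = g⁻¹ • C from hw, smul_inv_smul])
    refine inv_mul_eq_one.1 (eq_one_of_three (g := N⁻¹ * M) (OnePoint.infty_ne_coe _)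
      (OnePoint.infty_ne_coe _) hne01 ?_ ?_ ?_)
    · rw [mul_smul, ← k1, inv_smul_smul]
    · rw [mul_smul, ← k2, inv_smul_smul]
    · rw [mul_smul, ← k3, inv_smul_smul]

end Cfsg.Agent.CyclicZProd23
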