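import Mathlib
import Cfsg.Agent.Lib.CyclicZProdFrame23
import Cfsg.Agent.Lib.CyclicZProdPGL23

/-!
The case of an involution with more than two fixed points: its centraliser modulo the kernel on
the fixed points satisfies the same hypotheses, and if that quotient is the projective linear
group, a contradiction follows.
-/

set_option autoImplicit false
set_option linter.unusedSectionVars false

open scoped OnePoint

namespace Cfsg.Agent.CyclicZProd23

open MulAction Cfsg.Agent.DicksonLine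
open scoped Classical

variable {G Ω : Type*} [Group G] [MulAction G Ω] [Finite G] [Finite Ω] {x y : Ω}
  {D2 S T W : Subgroup G} {u a : G}

theorem IsFrame.mem_X (hF : IsFrame x y D2 S T W u a) {g : G} :
    g ∈ Subgroup.normalizer (Subgroup.zpowers u : Set G) ↔ g * u = u * g :=
  mem_normalizer_zpowers hF.u_ord

theorem IsFrame.D_le_X (h : Setting G Ω) (hF : IsFrame x y D2 S T W u a) :
    stabilizer G x ⊓ stabilizer G y ≤ Subgroup.normalizer (Subgroup.zpowers u : Set G) :=
  h.two_point_le_normalizer hF.ne (Subgroup.zpowers_le.2 hF.u_D)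

theorem IsFrame.card_X_fix (hF : IsFrame x y D2 S T W u a) :
    Nat.card (fixAct Ω (Subgroup.zpowers u)) = {z : Ω | u • z = z}.ncard := by
  rw [card_fixAct, fixSet_zpowers]

/-- The centraliser of the involution on its fixed points satisfies the hypotheses. -/
theorem IsFrame.quotient_setting (h : Setting G Ω) (hF : IsFrame x y D2 S T W u a)
    (hf : 2 < {z : Ω | u • z = z}.ncard) :
    Setting (MulAction.toPermHom (Subgroup.normalizer (Subgroup.zpowers u : Set G))
        (fixAct Ω (Subgroup.zpowers u))).range (fixAct Ω (Subgroup.zpowers u)) ∧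
      Nat.card (MulAction.toPermHom (Subgroup.normalizer (Subgroup.zpowers u : Set G))
        (fixAct Ω (Subgroup.zpowers u))).range < Nat.card G := by
  haveI : Fact (Nat.Prime 2) := ⟨Nat.prime_two⟩
  set X := Subgroup.normalizer (Subgroup.zpowers u : Set G) with hX
  set ρ := MulAction.toPermHom X (fixAct Ω (Subgroup.zpowers u)) with hρ
  have huY := Subgroup.zpowers_le.2 hF.u_D
  obtain ⟨hx, hy⟩ := mem_fixSet huY
  have hup : IsPGroup 2 (Subgroup.zpowers u) :=
    IsPGroup.of_card (n := 1) (by rw [Nat.card_zpowers, hF.u_ord, pow_one])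
  refine ⟨⟨inferInstance, ?_, ?_, ?_, fun z => ?_, fun z w hzw => ?_, ?_⟩, ?_⟩
  · refine is_two_pretransitive_iff.2 fun {a b c d} hab hcd => ?_
    obtain ⟨g, hg, hga, hgb⟩ := h.witt hF.ne huY (fun e => hab (Subtype.ext e)) a.2 b.2
    obtain ⟨k, hk, hkc, hkd⟩ := h.witt hF.ne huY (fun e => hcd (Subtype.ext e)) c.2 d.2
    refine ⟨ρ.rangeRestrict (⟨k, hk⟩ * (⟨g, hg⟩ : X)⁻¹), Subtype.ext ?_, Subtype.ext ?_⟩
    · show (k * g⁻¹) • (a : Ω) = c
      rw [mul_smul, ← hga, inv_smul_smul, hkc]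
    · show (k * g⁻¹) • (b : Ω) = d
      rw [mul_smul, ← hgb, inv_smul_smul, hkd]
  · rw [hF.card_X_fix]; exact hf
  · rw [card_fixAct]; exact card_fix_parity hup h.even
  · -- point stabilisers
    haveI := h.zstab (z : Ω)
    haveI : IsZGroup (stabilizer X z) := by
      refine IsZGroup.of_injective (f := MonoidHom.mk' (fun g : stabilizer X z =>
        (⟨((g : X) : G), congrArg Subtype.val g.2⟩ : stabilizer G (z : Ω))) fun _ _ => rfl) ?_
      exact fun g g' e => Subtype.ext (Subtype.ext (congrArg Subtype.val e :))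
    refine IsZGroup.of_surjective (f := MonoidHom.mk' (fun g : stabilizer X z =>
      (⟨ρ.rangeRestrict (g : X), g.2⟩ : stabilizer ρ.range z)) fun g g' => Subtype.ext (by simp)) ?_
    rintro ⟨r, hr⟩
    obtain ⟨g, rfl⟩ := ρ.rangeRestrict_surjective r
    exact ⟨⟨g, hr⟩, rfl⟩
  · -- two-point stabilisers have even order
    obtain ⟨d, hd, v, hv, hdv⟩ : ∃ d ∈ D2, ∃ v ∈ fixSet Ω (Subgroup.zpowers u), d • v ≠ v := by
      by_contra hall
      push Not at hall
      have hsub : fixSet Ω (Subgroup.zpowers u) ⊆ fixSet Ω D2 := fun v hv d hd => hall d hd v hv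
      rw [h.fix_top hF.ne hF.top, fixSet_zpowers] at hsub
      have := Set.ncard_le_ncard hsub (Set.toFinite _)
      rw [Set.ncard_pair hF.ne] at this
      omega
    obtain ⟨g, hg, hgx, hgy⟩ := h.witt hF.ne huY (fun e => hzw (Subtype.ext e)) z.2 w.2
    have hdX : d ∈ X := hF.D_le_X h (hF.top.le hd)
    set r := ρ.rangeRestrict ((⟨g, hg⟩ : X) * ⟨d, hdX⟩ * (⟨g, hg⟩ : X)⁻¹)
    have hrm : r ∈ stabilizer ρ.range z ⊓ stabilizer ρ.range w := by
      refine Subgroup.mem_inf.2 ⟨Subtype.ext ?_, Subtype.ext ?_⟩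
      · show (g * d * g⁻¹) • (z : Ω) = z
        rw [mul_smul, mul_smul, ← hgx, inv_smul_smul, show d • x = x from (hF.top.le hd).1]
      · show (g * d * g⁻¹) • (w : Ω) = w
        rw [mul_smul, mul_smul, ← hgy, inv_smul_smul, show d • y = y from (hF.top.le hd).2]
    have hr1 : r ≠ 1 := by
      intro e
      have e1 : (g * d * g⁻¹) • g • v = g • v :=
        congrArg Subtype.val (congrArg (fun k : ρ.range =>
          (k : Equiv.Perm (fixAct Ω (Subgroup.zpowers u))) ⟨g • v, fixSet_smul_mem hg hv⟩) e)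
      rw [mul_smul, mul_smul, inv_smul_smul] at e1
      exact hdv (MulAction.injective g e1)
    obtain ⟨i, hi⟩ := hF.top.two ⟨d, hd⟩
    have hr2 : r ^ (2 ^ i) = 1 := by
      have e : (⟨d, hdX⟩ : X) ^ (2 ^ i) = 1 := Subtype.ext (by
        rw [SubmonoidClass.coe_pow]; exact congrArg Subtype.val hi)
      rw [← map_pow, conj_pow, e, mul_one, mul_inv_cancel, map_one]
    obtain ⟨k, -, hk⟩ := (Nat.dvd_prime_pow Nat.prime_two).1 (orderOf_dvd_of_pow_eq_one hr2)
    have h2 : 2 ∣ orderOf r := by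
      rcases k with _ | k
      · exact absurd (orderOf_eq_one_iff.1 (by simpa using hk)) hr1
      · exact hk ▸ dvd_pow_self 2 k.succ_ne_zero
    refine h2.trans ?_
    rw [← Subgroup.orderOf_mk r hrm]
    exact orderOf_dvd_natCard _
  · -- the semiregular part
    haveI := hF.split.T_cyclic
    let TX : Subgroup X := T.subgroupOf X
    haveI : IsCyclic TX :=
      isCyclic_of_injective (MonoidHom.mk' (fun a : TX => (⟨(a : X), a.2⟩ : T)) fun _ _ => rfl)
        fun a b e => Subtype.ext (Subtype.ext (congrArg Subtype.val e :))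
    obtain ⟨P, hP⟩ := hF.split.sylow
    have hT2 : IsPGroup 2 T := P.2.to_le (hP ▸ hF.split.T_le)
    have hTX2 : IsPGroup 2 TX := hT2.comap_subtype
    refine ⟨TX.map ρ.rangeRestrict, isCyclic_of_surjective _
      (ρ.rangeRestrict.subgroupMap_surjective TX), hTX2.map _, ?_, ?_⟩
    · obtain ⟨r, hr, e⟩ := hF.part
      refine ⟨r, hr, ?_⟩
      rw [hF.card_X_fix, e]
      congr 1
      refine Nat.card_eq_of_bijective (fun t : (T ⊓ X : Subgroup G) =>
        (⟨ρ.rangeRestrict ⟨t.1, t.2.2⟩, _, t.2.1, rfl⟩ : TX.map ρ.rangeRestrict)) ⟨?_, ?_⟩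
      · intro t t' e'
        have h1 : (t : G) • x = (t' : G) • x :=
          congrArg Subtype.val (congrArg (fun k : ρ.range => (k : Equiv.Perm (fixAct Ω (Subgroup.zpowers u))) ⟨x, hx⟩)
            (congrArg Subtype.val e'))
        refine Subtype.ext (inv_mul_eq_one.1 (hF.split.T_free _
          (mul_mem (inv_mem t.2.1) t'.2.1) x ?_))
        rw [mul_smul, ← h1, inv_smul_smul]
      · rintro ⟨_, g, hg, rfl⟩
        exact ⟨⟨g, hg, g.2⟩, rfl⟩
    · rintro _ ⟨t, ht, rfl⟩ z hz
      rw [show t = 1 from Subtype.ext (hF.split.T_free _ ht (z : Ω) (congrArg Subtype.val hz)),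
        map_one]
  · have hlt : ρ.ker ≠ ⊥ := by
      intro e
      have hm : (⟨u, hF.D_le_X h hF.u_D⟩ : X) ∈ ρ.ker :=
        Equiv.ext fun z => Subtype.ext (z.2 u (Subgroup.mem_zpowers u))
      rw [e, Subgroup.mem_bot] at hm
      have hu1 : u = 1 := congrArg Subtype.val hm
      have := hF.u_ord
      simp [hu1] at this
    have h1 := ρ.ker.card_mul_index
    rw [Subgroup.index_ker] at h1
    have h2 := (Subgroup.one_lt_card_iff_ne_bot _).2 hlt
    have h3 := Subgroup.card_le_card_group X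
    have h4 : 0 < Nat.card ρ.range := Nat.card_pos
    have h5 : 2 * Nat.card ρ.range ≤ Nat.card ρ.ker * Nat.card ρ.range := Nat.mul_le_mul_right _ h2
    rw [h1] at h5
    omega

theorem mem_zpowers_of_odd {v : G} {i : ℕ} (hv : v ^ (2 ^ i) = 1) {m : ℤ} (hm : Odd m) :
    v ∈ Subgroup.zpowers (v ^ m) := by
  have hc : IsCoprime m ((2 : ℤ) ^ i) := by
    refine IsCoprime.pow_right ?_
    obtain ⟨k, rfl⟩ := hm
    exact ⟨1, -k, by ring⟩
  obtain ⟨s, t, hst⟩ := hc
  refine ⟨s, ?_⟩
  show (v ^ m) ^ s = v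
  rw [← zpow_mul]
  conv_rhs => rw [← zpow_one v, ← hst, zpow_add, mul_comm t, zpow_mul v _ t,
    show ((2 : ℤ) ^ i) = ((2 ^ i : ℕ) : ℤ) by push_cast; rfl, zpow_natCast, hv, one_zpow, mul_one,
    mul_comm s]

theorem mem_zpowers_or {H : Subgroup G} (hH : IsCyclic H) (hp : IsPGroup 2 H) {v w : G}
    (hv : v ∈ H) (hw : w ∈ H) : v ∈ Subgroup.zpowers w ∨ w ∈ Subgroup.zpowers v := by
  obtain ⟨i, hi⟩ := (IsPGroup.iff_orderOf.1 hp) ⟨v, hv⟩
  obtain ⟨k, hk⟩ := (IsPGroup.iff_orderOf.1 hp) ⟨w, hw⟩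
  rw [Subgroup.orderOf_mk] at hi hk
  have key : ∀ {v w : G}, v ∈ H → w ∈ H → orderOf v ∣ orderOf w → v ∈ Subgroup.zpowers w := by
    intro v w hv hw hd
    have e := eq_of_card_eq hH (Subgroup.zpowers_le.2 hv)
      (Subgroup.zpowers_le.2 (pow_mem hw (orderOf w / orderOf v)))
      (by rw [Nat.card_zpowers, Nat.card_zpowers,
        orderOf_pow_orderOf_div (orderOf_pos w).ne' hd])
    exact Subgroup.zpowers_le.2 (pow_mem (Subgroup.mem_zpowers w) _)
      (e ▸ Subgroup.mem_zpowers v)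
  rcases le_total i k with hle | hle
  · exact Or.inl (key hv hw (by rw [hi, hk]; exact pow_dvd_pow 2 hle))
  · exact Or.inr (key hw hv (by rw [hi, hk]; exact pow_dvd_pow 2 hle))

/-- An element of the two-point stabiliser of 2-power order lies in its 2-part. -/
theorem IsFrame.mem_D2 (h : Setting G Ω) (hF : IsFrame x y D2 S T W u a) {v : G}
    (hv : v ∈ stabilizer G x ⊓ stabilizer G y) (hv2 : v ^ Nat.card D2 = 1) : v ∈ D2 := by
  haveI : IsCyclic D2 := by
    haveI := h.two_point_cyclic hF.ne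
    exact isCyclic_of_injective (Subgroup.inclusion hF.top.le) (Subgroup.inclusion_injective _)
  obtain ⟨g, hg⟩ := IsCyclic.exists_generator (α := D2)
  have hgo : orderOf (g : G) = Nat.card D2 := by
    exact (Subgroup.orderOf_coe g).trans (orderOf_eq_card_of_forall_mem_zpowers hg)
  have hd : orderOf v ∣ orderOf (g : G) := hgo ▸ orderOf_dvd_of_pow_eq_one hv2
  have e := eq_of_card_eq (h.two_point_cyclic hF.ne) (Subgroup.zpowers_le.2 hv)
    (Subgroup.zpowers_le.2 (pow_mem (hF.top.le g.2) (orderOf (g : G) / orderOf v)))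
    (by rw [Nat.card_zpowers, Nat.card_zpowers,
      orderOf_pow_orderOf_div (orderOf_pos (g : G)).ne' hd])
  exact Subgroup.zpowers_le.2 (pow_mem g.2 _) (e ▸ Subgroup.mem_zpowers v)

/-- The involution cannot fix a subgroup of prime order of a cyclic group of cube order. -/
theorem IsFrame.not_cube (h : Setting G Ω) (hF : IsFrame x y D2 S T W u a) {p : ℕ}
    (hp : p.Prime) (hf : {z : Ω | u • z = z}.ncard = p + 1) (hn : Nat.card Ω = p ^ 3 + 1) :
    False := by
  haveI : Fact p.Prime := ⟨hp⟩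
  haveI := h.core1_cyclic x
  letI : CommGroup (core1 G x) := IsCyclic.commGroup
  let cu : core1 G x → core1 G x := fun c => ⟨_, core1_normal hF.u_D.1 c.2⟩
  have hcu : ∀ c, (cu c : G) = u * c * u⁻¹ := fun c => rfl
  let ψ : core1 G x →* core1 G x := MonoidHom.mk' (fun c => cu c / c) fun c c' => by
    rw [show cu (c * c') = cu c * cu c' from Subtype.ext (by
      simp only [hcu, Subgroup.coe_mul]; group), mul_div_mul_comm]
  have hker : ∀ c, c ∈ ψ.ker ↔ (c : G) * u = u * c := by
    intro c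
    rw [MonoidHom.mem_ker, show ψ c = cu c / c from rfl, div_eq_one, Subtype.ext_iff, hcu,
      mul_inv_eq_iff_eq_mul, eq_comm]
  have hkc : Nat.card ψ.ker = p := by
    have e := hF.card_fix h
    rw [hf, ← Nat.card_coe_set_eq] at e
    rw [Nat.add_right_cancel e]
    exact Nat.card_congr
      ⟨fun c => ⟨c.1.1, c.1.2, (hker _).1 c.2⟩,
        fun c => ⟨⟨c.1, c.2.1⟩, (hker _).2 c.2.2⟩, fun _ => rfl, fun _ => rfl⟩
  have hrc : Nat.card ψ.range = p ^ 2 := by
    have e := ψ.ker.card_mul_index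
    rw [Subgroup.index_ker, hkc, h.card_core1 hF.ne hF.top, hn, Nat.add_sub_cancel,
      show p ^ 3 = p * p ^ 2 by ring] at e
    exact Nat.eq_of_mul_eq_mul_left hp.pos e
  obtain ⟨⟨r, hr⟩, hro⟩ := exists_prime_orderOf_dvd_card' (G := ψ.range) p
    (hrc ▸ dvd_pow_self p two_ne_zero)
  rw [Subgroup.orderOf_mk] at hro
  haveI : IsCyclic (⊤ : Subgroup (core1 G x)) :=
    isCyclic_of_surjective _ Subgroup.topEquiv.symm.surjective
  have e := eq_of_card_eq (D := (⊤ : Subgroup (core1 G x))) inferInstance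
    (H := Subgroup.zpowers r) (K := ψ.ker) le_top le_top (by rw [Nat.card_zpowers, hro, hkc])
  have h1 : r ∈ ψ.ker := e ▸ Subgroup.mem_zpowers r
  obtain ⟨c, rfl⟩ := hr
  have h2 := (hker _).1 h1
  have huu : u * u = 1 := by
    rw [← sq]
    simpa [hF.u_ord] using pow_orderOf_eq_one u
  have h3 : (ψ c : G) * (ψ c : G) = 1 := by
    have hv : (ψ c : G) = u * c * u⁻¹ * (c : G)⁻¹ := by
      show ((cu c / c : core1 G x) : G) = _
      rw [Subgroup.coe_div, hcu, div_eq_mul_inv]
    have hi : u * (ψ c : G) * u⁻¹ = (ψ c : G)⁻¹ := by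
      rw [hv, show u⁻¹ = u from inv_eq_of_mul_eq_one_right huu]
      simp only [mul_inv_rev, inv_inv, show u⁻¹ = u from inv_eq_of_mul_eq_one_right huu, mul_assoc]
      rw [← mul_assoc u u, huu, one_mul]
    rw [← h2, mul_inv_cancel_right] at hi
    exact eq_inv_iff_mul_eq_one.1 hi
  have h4 : orderOf (ψ c) ∣ 2 :=
    orderOf_dvd_of_pow_eq_one (Subtype.ext (by rw [SubmonoidClass.coe_pow, sq]; exact h3))
  rw [hro, Nat.prime_dvd_prime_iff_eq hp Nat.prime_two] at h4
  subst h4
  have := h.even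
  rw [hn] at this
  exact absurd this (by decide)

end Cfsg.Agent.CyclicZProd23
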