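import Mathlib
import Cfsg.Agent.Lib.CyclicZProdStep23

/-!
An involution of a two-point stabiliser cannot have more than two fixed points when its centraliser
acts on them as the projective linear group.
-/

set_option autoImplicit false
set_option linter.unusedSectionVars false

open scoped OnePoint

namespace Cfsg.Agent.CyclicZProd23

open MulAction Cfsg.Agent.DicksonLine
open scoped Classical

variable {G Ω : Type*} [Group G] [MulAction G Ω] [Finite G] [Finite Ω] {x y : Ω}
  {D2 S T W : Subgroup G} {u a : G}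

/-- What fixes every fixed point of the involution is central in its centraliser. -/
theorem IsFrame.commute_of_fix (h : Setting G Ω) (hF : IsFrame x y D2 S T W u a)
    (hf : 2 < {z : Ω | u • z = z}.ncard) {k : G} (hk : ∀ z : Ω, u • z = z → k • z = z) {g : G}
    (hg : Commute g u) : Commute g k := by
  have hD : ∀ {k : G}, (∀ z : Ω, u • z = z → k • z = z) →
      k ∈ stabilizer G x ⊓ stabilizer G y := fun hk =>
    Subgroup.mem_inf.2 ⟨hk x hF.u_D.1, hk y hF.u_D.2⟩
  have hfixed : ∀ {c : G}, Commute c u → ∀ {z : Ω}, u • z = z → u • c • z = c • z := by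
    intro c hc z hz
    rw [← mul_smul, ← hc.eq, mul_smul, hz]
  have hC : ∀ {k : G}, (∀ z : Ω, u • z = z → k • z = z) → ∀ c ∈ core1 G x, Commute c u →
      Commute c k := by
    intro k hk c hc hcu
    have e := inv_mul_eq_one.1 (h.core1_free hF.ne
      (c := c⁻¹ * (k * c * k⁻¹)) (mul_mem (inv_mem hc) (core1_normal (hD hk).1 hc)) (by
        rw [mul_smul, mul_smul, mul_smul, inv_smul_eq_iff.2 (hD hk).2.symm,
          hk _ (hfixed hcu hF.u_D.2), inv_smul_smul]))
    show c * k = k * c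
    conv_lhs => rw [e]
    rw [inv_mul_cancel_right]
  have hget : ∀ z : Ω, u • z = z → z ≠ x → ∃ c ∈ core1 G x, Commute c u ∧ c • y = z := by
    intro z hz hzx
    obtain ⟨c, hc, rfl⟩ := h.core1_transitive hF.ne hF.top hzx
    refine ⟨c, hc, ?_, rfl⟩
    have e := inv_mul_eq_one.1 (h.core1_free hF.ne
      (c := c⁻¹ * (u * c * u⁻¹)) (mul_mem (inv_mem hc) (core1_normal hF.u_D.1 hc)) (by
        rw [mul_smul, mul_smul, mul_smul, inv_smul_eq_iff.2 hF.u_D.2.symm, hz, inv_smul_smul]))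
    show c * u = u * c
    conv_lhs => rw [e]
    rw [inv_mul_cancel_right]
  have hB : ∀ b : G, b • x = x → Commute b u → Commute b k := by
    intro b hb hbu
    obtain ⟨c, hc, hcu, hcy⟩ := hget (b • y) (hfixed hbu hF.u_D.2)
      (fun e => hF.ne (MulAction.injective b (hb.trans e.symm)))
    have hm : c⁻¹ * b ∈ stabilizer G x ⊓ stabilizer G y := by
      refine Subgroup.mem_inf.2 ⟨mul_mem (inv_mem (core1_le x hc)) hb, ?_⟩
      show (c⁻¹ * b) • y = y
      rw [mul_smul, ← hcy, inv_smul_smul]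
    have := (hC hk c hc hcu).mul_left
      (show Commute (c⁻¹ * b) k from h.two_point_comm hF.ne hm (hD hk))
    rwa [mul_inv_cancel_left] at this
  -- an element moving the base point
  obtain ⟨c0, ⟨hc0, hc0u⟩, hc1⟩ := Set.exists_ne_of_one_lt_ncard
    (s := {c : G | c ∈ core1 G x ∧ c * u = u * c}) (by have := hF.card_fix h; omega) (1 : G)
  set g0 := a * c0 * a⁻¹ with hg0
  have hau : Commute a u := hF.a_u
  have hg0u : Commute g0 u := (hau.mul_left hc0u).mul_left hau.inv_left
  have hg0k : Commute g0 k := by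
    have hk' : ∀ z : Ω, u • z = z → (a⁻¹ * k * a) • z = z := fun z hz => by
      rw [mul_smul, mul_smul, hk _ (hfixed hau hz), inv_smul_smul]
    have e := (hC hk' c0 hc0 hc0u).eq
    show a * c0 * a⁻¹ * k = k * (a * c0 * a⁻¹)
    calc a * c0 * a⁻¹ * k = a * (c0 * (a⁻¹ * k * a)) * a⁻¹ := by group
      _ = a * ((a⁻¹ * k * a) * c0) * a⁻¹ := by rw [e]
      _ = k * (a * c0 * a⁻¹) := by group
  have hz0 : g0 • x ≠ x := by
    intro e
    rw [hg0, hF.a_inv, mul_smul, mul_smul, hF.a_x] at e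
    exact hc1 (h.core1_free hF.ne hc0 (MulAction.injective a (e.trans hF.a_y.symm)))
  by_cases hgx : g • x = x
  · exact hB g hgx hg
  obtain ⟨c', hc', hc'u, hc'y⟩ := hget (g • x) (hfixed hg hF.u_D.1) hgx
  obtain ⟨c'', hc'', hc''u, hc''y⟩ := hget (g0 • x) (hfixed hg0u hF.u_D.1) hz0
  have hbk := hB (c' * c''⁻¹) (mul_mem (core1_le x hc') (inv_mem (core1_le x hc'')))
    (hc'u.mul_left hc''u.inv_left)
  have hrest := hB ((c' * c''⁻¹ * g0)⁻¹ * g) (by
    rw [mul_smul, inv_smul_eq_iff, mul_smul, mul_smul, ← hc''y, inv_smul_smul, hc'y])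
    (((hc'u.mul_left hc''u.inv_left).mul_left hg0u).inv_left.mul_left hg)
  have := (hbk.mul_left hg0k).mul_left hrest
  rwa [mul_inv_cancel_left] at this

/-- An element of the semiregular part outside the centraliser sends the involution to its product
with the exchanging one. -/
theorem IsFrame.conj_u (h : Setting G Ω) (hF : IsFrame x y D2 S T W u a) {t : G}
    (htX : t * u ≠ u * t) (htW : t ∈ Subgroup.normalizer (W : Set G)) :
    t * u * t⁻¹ = a * u := by
  set X := Subgroup.normalizer (Subgroup.zpowers u : Set G)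
  have hWX : ∀ v ∈ W, Commute v u := fun v hv =>
    hF.mem_X.1 (by rw [hF.split.W_eq] at hv; exact hv.2)
  have hu'W : t * u * t⁻¹ ∈ W :=
    (Subgroup.mem_normalizer_iff.1 htW u).1 (hF.split.top_le hF.u_mem)
  have hcen : ∀ v ∈ W, Commute (t * u * t⁻¹) v := by
    intro v hv
    have h1 : t⁻¹ * v * t ∈ W := (Subgroup.mem_normalizer_iff.1 htW _).2 (by
      rwa [show t * (t⁻¹ * v * t) * t⁻¹ = v by group])
    have e := (hWX _ h1).eq
    show t * u * t⁻¹ * v = v * (t * u * t⁻¹)
    calc t * u * t⁻¹ * v = t * (u * (t⁻¹ * v * t)) * t⁻¹ := by group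
      _ = t * ((t⁻¹ * v * t) * u) * t⁻¹ := by rw [e]
      _ = v * (t * u * t⁻¹) := by group
  obtain ⟨τ, hτ, q, hq, e⟩ := hF.split.W_mul _ hu'W
  have hqD := hF.top.le hq
  have hτD : ∀ d ∈ D2, Commute τ d := by
    intro d hd
    have := (hcen d (hF.split.top_le hd)).mul_left
      (show Commute q⁻¹ d from (h.two_point_comm hF.ne (inv_mem hqD) (hF.top.le hd)))
    rwa [e, mul_inv_cancel_right] at this
  have hτx : τ • x ∈ fixSet Ω D2 := fun d hd => by
    rw [← mul_smul, ← (hτD d hd).eq, mul_smul, show d • x = x from (hF.top.le hd).1]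
  have huu : u * u = 1 := by rw [← sq, ← hF.u_ord, pow_orderOf_eq_one]
  have hu'2 : t * u * t⁻¹ * (t * u * t⁻¹) = 1 := by
    rw [show t * u * t⁻¹ * (t * u * t⁻¹) = t * (u * u) * t⁻¹ by group, huu, mul_one, mul_inv_cancel]
  have huo : orderOf (t * u * t⁻¹) = 2 := by
    rw [← hF.u_ord]
    exact orderOf_injective (MulAut.conj t).toMonoidHom (MulEquiv.injective _) u
  rw [h.fix_top hF.ne hF.top] at hτx
  rcases hτx with e1 | e1
  · have hτ1 : τ = 1 := hF.split.T_free τ hτ.1 x e1
    rw [hτ1, one_mul] at e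
    have := h.eq_of_involution hF.ne hF.u_ord hF.u_D (e ▸ huo) hqD
    rw [this, mul_inv_eq_iff_eq_mul] at e
    exact absurd e htX
  · have hτa : τ = a := by
      have := hF.split.T_free (a⁻¹ * τ) (mul_mem (inv_mem hF.a_mem) hτ.1) x (by
        rw [mul_smul, Set.mem_singleton_iff.1 e1, hF.a_inv, hF.a_y])
      exact (inv_mul_eq_one.1 this).symm
    subst hτa
    have hq2 : q * q = 1 := by
      have hqe : q = τ * (t * u * t⁻¹) := by rw [e, ← mul_assoc, hF.a_sq, one_mul]
      have hτW : τ ∈ W := by rw [hF.split.W_eq]; exact ⟨hF.split.T_le hτ.1, hτ.2⟩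
      have hc := (hcen τ hτW).eq
      generalize t * u * t⁻¹ = v at hqe hc hu'2
      calc q * q = τ * (v * τ) * v := by rw [hqe]; simp only [mul_assoc]
        _ = (τ * τ) * (v * v) := by rw [hc]; simp only [mul_assoc]
        _ = 1 := by rw [hF.a_sq, hu'2, one_mul]
    have hq1 : q ≠ 1 := by
      rintro rfl
      rw [mul_one] at e
      refine hF.a_free (t • x) ?_
      rw [← e, mul_smul, mul_smul, inv_smul_smul, show u • x = x from hF.u_D.1]
    rw [e, h.eq_of_involution hF.ne hF.u_ord hF.u_D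
      (orderOf_eq_prime (by rw [sq]; exact hq2) hq1) hqD]

/-- The impossibility of more than two fixed points. -/
theorem IsFrame.no_large_fix (h : Setting G Ω) (hF : IsFrame x y D2 S T W u a)
    (hf : 2 < {z : Ω | u • z = z}.ncard) {p : ℕ} [Fact p.Prime]
    {e0 : fixAct Ω (Subgroup.zpowers u) ≃ OnePoint (ZMod p)}
    (he0 : IsMobius (MulAction.toPermHom (Subgroup.normalizer (Subgroup.zpowers u : Set G))
        (fixAct Ω (Subgroup.zpowers u))).range p e0) : False := by
  haveI : Fact (Nat.Prime 2) := ⟨Nat.prime_two⟩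
  have hp : p.Prime := Fact.out
  set X := Subgroup.normalizer (Subgroup.zpowers u : Set G) with hX
  set ρ := MulAction.toPermHom X (fixAct Ω (Subgroup.zpowers u)) with hρ
  obtain ⟨hxF, hyF⟩ := mem_fixSet (Subgroup.zpowers_le.2 hF.u_D)
  set xl : fixAct Ω (Subgroup.zpowers u) := ⟨x, hxF⟩ with hxl
  set yl : fixAct Ω (Subgroup.zpowers u) := ⟨y, hyF⟩ with hyl
  obtain ⟨e, he, hex, hey⟩ :=
    he0.normalise (x := xl) (y := yl) fun e' => hF.ne (congrArg Subtype.val e')
  -- the homomorphism onto the projective group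
  have hM : ∀ g : X, ∃ M, ∀ z, e (g • z) = M • e z := fun g => by
    obtain ⟨M, hM⟩ := he.1 (ρ.rangeRestrict g)
    exact ⟨M, hM⟩
  choose μ0 hμ0 using hM
  let μ : X →* Matrix.ProjGenLinGroup (Fin 2) (ZMod p) := MonoidHom.mk' μ0 fun g g' =>
    he.matrix_unique (g := ρ.rangeRestrict (g * g')) (hμ0 (g * g')) fun z => by
      show e ((g * g') • z) = _
      rw [mul_smul, hμ0, hμ0, mul_smul]
  have hμ : ∀ g z, e (g • z) = μ g • e z := hμ0
  have hμs : ∀ M, ∃ g, μ g = M := fun M => by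
    obtain ⟨r, hr⟩ := he.2 M
    obtain ⟨g, rfl⟩ := ρ.rangeRestrict_surjective r
    exact ⟨g, he.matrix_unique (g := ρ.rangeRestrict g) (hμ g) hr⟩
  -- the number of fixed points
  have hfp : {z : Ω | u • z = z}.ncard = p + 1 := by
    rw [← hF.card_X_fix, Nat.card_congr e,
      show Nat.card (OnePoint (ZMod p)) = Nat.card (Option (ZMod p)) from rfl,
      Finite.card_option, Nat.card_zmod]
  have hpodd : Odd p := by
    have := card_fix_parity (Ω := Ω) (Y := Subgroup.zpowers u)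
      (IsPGroup.of_card (n := 1) (by rw [Nat.card_zpowers, hF.u_ord, pow_one])) h.even
    rw [fixSet_zpowers, hfp, Nat.even_add_one, Nat.not_even_iff_odd] at this
    exact this
  have hp2 : p ≠ 2 := fun e => by rw [e] at hpodd; exact absurd hpodd (by decide)
  have hneg : (-1 : (ZMod p)ˣ) ≠ 1 := fun e' => by
    haveI : Fact (2 < p) := ⟨lt_of_le_of_ne hp.two_le (Ne.symm hp2)⟩
    exact ZMod.neg_one_ne_one (congrArg Units.val e')
  -- the two-point stabiliser
  set D := stabilizer G x ⊓ stabilizer G y with hDdef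
  let ι : D →* X := Subgroup.inclusion (hF.D_le_X h)
  have hlam : ∀ d : D, ∃ m : (ZMod p)ˣ, μ (ι d) = aff m 0 := by
    intro d
    have h1 : μ (ι d) • (∞ : OnePoint (ZMod p)) = ∞ := by
      rw [← hex, ← hμ]; exact congrArg e (Subtype.ext d.2.1)
    have h2 : μ (ι d) • ((0 : ZMod p) : OnePoint (ZMod p)) = ((0 : ZMod p) : OnePoint (ZMod p)) := by
      rw [← hey, ← hμ]; exact congrArg e (Subtype.ext d.2.2)
    obtain ⟨m, b, hmb⟩ := exists_aff h1
    rw [hmb, aff_smul_coe, mul_zero, zero_add, OnePoint.coe_eq_coe] at h2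
    exact ⟨m, by rw [hmb, h2]⟩
  choose lam0 hlam0 using hlam
  let lam : D →* (ZMod p)ˣ := MonoidHom.mk' lam0 fun d d' => (aff_inj (b := (0 : ZMod p))
    (c := (0 : ZMod p))
    (by rw [← hlam0, map_mul, map_mul, hlam0, hlam0, aff_mul, mul_zero, zero_add])).1
  have hl : ∀ d, μ (ι d) = aff (lam d) 0 := hlam0
  have hls : Function.Surjective lam := by
    intro m
    obtain ⟨g, hg⟩ := hμs (aff m 0)
    have hgx : g • xl = xl := e.injective (by rw [hμ, hg, hex, aff_smul_infty])
    have hgy : g • yl = yl := e.injective (by rw [hμ, hg, hey, aff_smul_coe, mul_zero, zero_add])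
    exact ⟨⟨g, Subgroup.mem_inf.2 ⟨congrArg Subtype.val hgx, congrArg Subtype.val hgy⟩⟩,
      (aff_inj ((hl _).symm.trans hg)).1⟩
  have hKc : ∀ d : D, lam d = 1 → ∀ g : G, Commute g u → Commute g (d : G) := by
    intro d hd g hg
    refine hF.commute_of_fix h hf (fun z hz => ?_) hg
    have hzm : z ∈ fixSet Ω (Subgroup.zpowers u) := by rw [fixSet_zpowers]; exact hz
    have : ι d • (⟨z, hzm⟩ : fixAct Ω (Subgroup.zpowers u)) = ⟨z, hzm⟩ :=
      e.injective (by rw [hμ, hl, hd, aff_one, one_smul])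
    exact congrArg Subtype.val this
  -- conjugation by the exchanging involution inverts the multiplier
  have haX : a ∈ X := hF.mem_X.2 hF.a_u
  let ax : X := ⟨a, haX⟩
  have hax : μ ax • (∞ : OnePoint (ZMod p)) = ((0 : ZMod p) : OnePoint (ZMod p)) := by
    rw [← hex, ← hμ, ← hey]; exact congrArg e (Subtype.ext hF.a_x)
  have hay : μ ax • ((0 : ZMod p) : OnePoint (ZMod p)) = ∞ := by
    rw [← hey, ← hμ, ← hex]; exact congrArg e (Subtype.ext hF.a_y)
  let σ : D → D := fun d => ⟨a * d * a⁻¹, hF.a_conj_mem d.2⟩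
  have hlσ : ∀ d, lam (σ d) = (lam d)⁻¹ := by
    intro d
    rw [← map_inv]
    refine (aff_inj (b := (0 : ZMod p)) (c := (0 : ZMod p)) ?_).1
    rw [← hl, ← hl, map_inv, map_inv, show ι (σ d) = ax * ι d * ax⁻¹ from Subtype.ext rfl,
      map_mul, map_mul, map_inv, hl, mul_inv_eq_iff_eq_mul, eq_inv_mul_iff_mul_eq, ← mul_assoc]
    exact swap_aff hax hay (lam d)
  -- the fixed part
  obtain ⟨j, hj0, hjn, hjF, -⟩ := hF.counts h
  rw [hfp, Nat.add_sub_cancel] at hjn
  have hn : Nat.card Ω = (p + 1) * (1 + j * p) := by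
    have : 0 < j * ((p + 1) * p) := Nat.mul_pos hj0 (Nat.mul_pos p.succ_pos hp.pos)
    have e1 : Nat.card Ω = p + 1 + j * ((p + 1) * p) := by omega
    rw [e1]; ring
  have hidx : ∀ L : Subgroup D, (∀ d : D, σ d = d ↔ d ∈ L) → j = L.index := by
    intro L hL
    have hc : {d : G | d ∈ D ∧ a * d * a⁻¹ = d}.ncard = Nat.card L := by
      rw [← Nat.card_coe_set_eq]
      exact Nat.card_congr
        ⟨fun d => ⟨⟨d.1, d.2.1⟩, (hL _).1 (Subtype.ext d.2.2)⟩,
          fun d => ⟨d.1.1, d.1.2, congrArg Subtype.val ((hL _).2 d.2)⟩, fun _ => rfl, fun _ => rfl⟩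
    rw [← hDdef, hc, ← L.card_mul_index] at hjF
    exact Nat.eq_of_mul_eq_mul_left Nat.card_pos hjF
  have hσK : ∀ d, lam d = 1 → σ d = d := fun d hd => Subtype.ext (by
    show a * d * a⁻¹ = d
    rw [(hKc d hd a hF.a_u).eq, mul_inv_cancel_right])
  have hunits : Nat.card (ZMod p)ˣ = p - 1 := by
    rw [Nat.card_eq_fintype_card, ZMod.card_units]
  by_cases hA : ∀ d, σ d = d → lam d = 1
  · have hj : j = p - 1 := by
      rw [hidx lam.ker fun d => ⟨fun hd => hA d hd, hσK d⟩, Subgroup.index_ker,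
        MonoidHom.range_eq_top.2 hls, Subgroup.card_top, hunits]
    refine hF.not_cube h hp hfp ?_
    rw [hn, hj]
    obtain ⟨q, rfl⟩ : ∃ q, p = q + 1 := ⟨p - 1, by omega⟩
    rw [Nat.add_sub_cancel]
    ring
  push Not at hA
  obtain ⟨δ₁, hσ1, hl1⟩ := hA
  have hsqu : ∀ d, σ d = d → lam d = 1 ∨ lam d = -1 := by
    intro d hd
    have e1 := hlσ d
    rw [hd, eq_inv_iff_mul_eq_one] at e1
    have e2 : (lam d : ZMod p) * lam d = 1 := by
      rw [← Units.val_mul, e1, Units.val_one]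
    rcases mul_self_eq_one_iff.1 e2 with e3 | e3
    · exact Or.inl (Units.ext e3)
    · exact Or.inr (Units.ext (by rw [e3, Units.val_neg, Units.val_one]))
  have hl1' : lam δ₁ = -1 := (hsqu δ₁ hσ1).resolve_left hl1
  have hnegord : orderOf (-1 : (ZMod p)ˣ) = 2 := orderOf_eq_prime (neg_one_sq) hneg
  have hj : 2 * j = p - 1 := by
    have hL : ∀ d : D, σ d = d ↔ d ∈ (Subgroup.zpowers (-1 : (ZMod p)ˣ)).comap lam := by
      intro d
      rw [Subgroup.mem_comap]
      constructor
      · intro hd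
        rcases hsqu d hd with e1 | e1 <;> rw [e1]
        · exact one_mem _
        · exact Subgroup.mem_zpowers _
      · intro hd
        obtain ⟨i, hi⟩ := hd
        have e1 : lam (d * (δ₁ ^ i)⁻¹) = 1 := by
          rw [map_mul, map_inv, map_zpow, hl1', ← hi, mul_inv_cancel]
        have e2 : σ (δ₁ ^ i) = δ₁ ^ i := Subtype.ext (by
          show a * ((δ₁ ^ i : D) : G) * a⁻¹ = _
          rw [SubgroupClass.coe_zpow, ← conj_zpow,
            show a * (δ₁ : G) * a⁻¹ = δ₁ from congrArg Subtype.val hσ1])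
        have e3 := congrArg Subtype.val (hσK _ e1)
        refine Subtype.ext ?_
        show a * (d : G) * a⁻¹ = d
        have e4 : a * ((δ₁ ^ i : D) : G) * a⁻¹ = ((δ₁ ^ i : D) : G) := congrArg Subtype.val e2
        calc a * (d : G) * a⁻¹
            = (a * ((d * (δ₁ ^ i)⁻¹ : D) : G) * a⁻¹) * (a * ((δ₁ ^ i : D) : G) * a⁻¹) := by
              simp only [Subgroup.coe_mul, Subgroup.coe_inv]; group
          _ = ((d * (δ₁ ^ i)⁻¹ : D) : G) * ((δ₁ ^ i : D) : G) := by
              rw [show a * ((d * (δ₁ ^ i)⁻¹ : D) : G) * a⁻¹ = ((d * (δ₁ ^ i)⁻¹ : D) : G) from e3, e4]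
          _ = d := by simp
    rw [hidx _ hL, Subgroup.index_comap_of_surjective _ hls, ← hunits,
      ← (Subgroup.zpowers (-1 : (ZMod p)ˣ)).card_mul_index, Nat.card_zpowers, hnegord]
  -- the 2-part
  obtain ⟨s, hs, hDs⟩ := hF.top.odd
  have hmem2 : ∀ δ : D, ((δ ^ s : D) : G) ∈ D2 := by
    intro δ
    refine hF.mem_D2 h (δ ^ s).2 ?_
    rw [← SubmonoidClass.coe_pow, ← pow_mul, mul_comm, ← hDs, pow_card_eq_one', OneMemClass.coe_one]
  set wD : D := δ₁ ^ s with hwD
  have hw2 : (wD : G) ∈ D2 := hmem2 δ₁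
  have hlw : lam wD = -1 := by rw [hwD, map_pow, hl1', hs.neg_one_pow]
  have hσw : a * (wD : G) * a⁻¹ = wD := by
    rw [hwD, SubmonoidClass.coe_pow, ← conj_pow,
      show a * (δ₁ : G) * a⁻¹ = δ₁ from congrArg Subtype.val hσ1]
  set w : G := (wD : G) with hwdef
  haveI : IsCyclic D := h.two_point_cyclic hF.ne
  haveI hD2c : IsCyclic D2 :=
    isCyclic_of_injective (Subgroup.inclusion hF.top.le) (Subgroup.inclusion_injective _)
  have hlu : lam ⟨u, hF.u_D⟩ = 1 := by
    refine (aff_inj (b := (0 : ZMod p)) (c := (0 : ZMod p)) ?_).1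
    rw [← hl, aff_one]
    refine ext_smul fun z => ?_
    obtain ⟨z', rfl⟩ := e.surjective z
    rw [← hμ, one_smul]
    exact congrArg e (Subtype.ext (z'.2 u (Subgroup.mem_zpowers u)))
  have hnsq : ∀ v ∈ D2, v * v ≠ w := by
    intro v hv hvw
    set vD : D := ⟨v, hF.top.le hv⟩ with hvD
    have hvw' : vD * vD = wD := Subtype.ext hvw
    set k : D := vD * σ vD with hk
    have hlk : lam k = 1 := by rw [hk, map_mul, hlσ, mul_inv_cancel]
    have hσ2 : a * v * a⁻¹ ∈ D2 := by
      refine hF.mem_D2 h (hF.a_conj_mem (hF.top.le hv)) ?_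
      rw [conj_pow, show v ^ Nat.card D2 = 1 from
        congrArg Subtype.val (pow_card_eq_one' (x := (⟨v, hv⟩ : D2))), mul_one, mul_inv_cancel]
    have hk2 : (k : G) ∈ D2 := mul_mem hv hσ2
    rcases mem_zpowers_or hD2c hF.top.two hw2 hk2 with ⟨i, hi⟩ | ⟨i, hi⟩
    · have : wD = k ^ i := Subtype.ext (by rw [SubgroupClass.coe_zpow]; exact hi.symm)
      rw [this, map_zpow, hlk, one_zpow] at hlw
      exact hneg hlw.symm
    have hki : k = wD ^ i := Subtype.ext (by rw [SubgroupClass.coe_zpow]; exact hi.symm)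
    obtain ⟨i', rfl⟩ : Even i := by
      rw [hki, map_zpow, hlw] at hlk
      rcases Int.even_or_odd i with he | ho
      · exact he
      · rw [ho.neg_one_zpow] at hlk; exact absurd hlk hneg
    -- `σ v = v ^ (4 i' - 1)`
    have hσv : a * v * a⁻¹ = v ^ (4 * i' - 1) := by
      have e1 : v * (a * v * a⁻¹) = w ^ (i' + i') := hi.symm
      rw [← hvw, ← sq v, ← zpow_natCast, ← zpow_mul] at e1
      rw [show (4 * i' - 1 : ℤ) = -1 + ((2 : ℕ) : ℤ) * (i' + i') by push_cast; ring, zpow_add,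
        zpow_neg_one, ← e1, inv_mul_cancel_left]
    have e2 : (v * v) ^ (4 * i' - 1) = v * v := by
      rw [(Commute.refl v).mul_zpow, ← hσv, hvw,
        show a * v * a⁻¹ * (a * v * a⁻¹) = a * (v * v) * a⁻¹ by group, hvw, hσw]
    rw [hvw] at e2
    have e3 : (w * w) ^ (2 * i' - 1) = 1 := by
      rw [(Commute.refl w).mul_zpow, ← zpow_add,
        show (2 * i' - 1 + (2 * i' - 1) : ℤ) = 4 * i' - 1 + -1 by ring, zpow_add, e2, zpow_neg_one,
        mul_inv_cancel]
    obtain ⟨m, hm⟩ := hF.top.two ⟨w, hw2⟩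
    have hm' : (w * w) ^ (2 ^ m) = 1 := by
      rw [(Commute.refl w).mul_pow, show w ^ (2 ^ m) = 1 from congrArg Subtype.val hm, one_mul]
    have e4 : w * w = 1 := by
      have := mem_zpowers_of_odd hm' (m := 2 * i' - 1) ⟨i' - 1, by ring⟩
      rw [e3, Subgroup.zpowers_one_eq_bot, Subgroup.mem_bot] at this
      exact this
    have hw1 : w ≠ 1 := fun e5 => by
      rw [show wD = 1 from Subtype.ext e5, map_one] at hlw
      exact hneg hlw.symm
    have := h.eq_of_involution hF.ne hF.u_ord hF.u_D (v := w)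
      (orderOf_eq_prime (by rw [sq]; exact e4) hw1) (hF.top.le hw2)
    rw [show wD = (⟨u, hF.u_D⟩ : D) from Subtype.ext this, hlu] at hlw
    exact hneg hlw.symm
  -- the 2-part is generated by `w`
  have hgen : ∀ v ∈ D2, v ∈ Subgroup.zpowers w := by
    obtain ⟨g, hg⟩ := IsCyclic.exists_generator (α := D2)
    obtain ⟨k, hk⟩ := hg ⟨w, hw2⟩
    have hk' : (g : G) ^ k = w := congrArg Subtype.val hk
    have hko : Odd k := by
      refine Int.not_even_iff_odd.1 ?_
      rintro ⟨i, rfl⟩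
      exact hnsq _ (zpow_mem g.2 i) (by rw [← zpow_add, hk'])
    obtain ⟨m, hm⟩ := hF.top.two g
    have hgw : (g : G) ∈ Subgroup.zpowers w :=
      hk' ▸ mem_zpowers_of_odd (congrArg Subtype.val hm) hko
    intro v hv
    obtain ⟨l, hl'⟩ := hg ⟨v, hv⟩
    rw [← show (g : G) ^ l = v from congrArg Subtype.val hl']
    exact zpow_mem hgw l
  have hlD2 : ∀ v : D, (v : G) ∈ D2 → lam v * lam v = 1 := by
    intro v hv
    obtain ⟨i, hi⟩ := hgen v hv
    rw [show v = wD ^ i from Subtype.ext (by rw [SubgroupClass.coe_zpow]; exact hi.symm), map_zpow,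
      hlw, ← mul_zpow, neg_mul_neg, mul_one, one_zpow]
  have hp4 : p % 4 = 3 := by
    by_contra hp4
    obtain ⟨m0, hm0⟩ := (ZMod.exists_sq_eq_neg_one_iff (p := p)).2 hp4
    have hm00 : m0 ≠ 0 := fun e1 => by
      rw [e1, mul_zero, neg_eq_zero] at hm0; exact one_ne_zero hm0
    obtain ⟨δ, hδ⟩ := hls (Units.mk0 m0 hm00)
    have h1 := hlD2 (δ ^ s) (hmem2 δ)
    have h2 : Units.mk0 m0 hm00 * Units.mk0 m0 hm00 = -1 := Units.ext (by simp [← hm0])
    rw [map_pow, hδ, ← mul_pow, h2, hs.neg_one_pow] at h1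
    exact hneg h1
  have hjo : Odd j := by rw [Nat.odd_iff]; omega
  -- the semiregular part is bigger than its part in the centraliser
  obtain ⟨r, hr, hTr⟩ := hF.split.T_card
  obtain ⟨r', hr', hfr⟩ := hF.part
  rw [hfp] at hfr
  have hne : ¬ T ≤ X := by
    intro hle
    rw [← hX, inf_eq_left.2 hle] at hfr
    rw [hTr, hfr, mul_assoc] at hn
    have := Nat.eq_of_mul_eq_mul_left Nat.card_pos hn
    have hev : Even (r' * (1 + j * p)) := (Odd.add_odd odd_one (hjo.mul hpodd)).mul_left _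
    exact Nat.not_even_iff_odd.2 hr (this ▸ hev)
  have hfour : 4 ∣ Nat.card (T ⊓ X : Subgroup G) := by
    have h4 : 4 ∣ Nat.card (T ⊓ X : Subgroup G) * r' := by rw [← hfr]; omega
    exact ((Nat.coprime_two_left.2 hr').pow_left 2).dvd_of_dvd_mul_right h4
  obtain ⟨P, hP⟩ := hF.split.sylow
  have hWS : W ≤ S := hF.split.W_eq ▸ inf_le_left
  have hlt : W.subgroupOf S < ⊤ := by
    rw [lt_top_iff_ne_top, Ne, Subgroup.subgroupOf_eq_top]
    intro hle
    refine hne fun t ht => ?_
    have := hle (hF.split.T_le ht)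
    rw [hF.split.W_eq] at this
    exact this.2
  haveI : Group.IsNilpotent S := (hP ▸ P.2).isNilpotent
  obtain ⟨gS, hgN, hgW⟩ := SetLike.exists_of_lt (normalizerCondition_of_isNilpotent _ hlt)
  obtain ⟨t, htT, q, hq, hgtq⟩ := hF.split.S_mul gS gS.2
  have hqW : q ∈ W := hF.split.top_le hq
  have hgn : (gS : G) ∈ Subgroup.normalizer (W : Set G) := by
    rw [Subgroup.mem_normalizer_iff]
    intro v
    constructor
    · intro hv
      exact (Subgroup.mem_normalizer_iff.1 hgN ⟨v, hWS hv⟩).1 hv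
    · intro hv
      have hvS : v ∈ S := by
        have := mul_mem (mul_mem (inv_mem gS.2) (hWS hv)) gS.2
        rwa [show (gS : G)⁻¹ * ((gS : G) * v * (gS : G)⁻¹) * gS = v by group] at this
      exact (Subgroup.mem_normalizer_iff.1 hgN ⟨v, hvS⟩).2 hv
  have htW : t ∈ Subgroup.normalizer (W : Set G) := by
    have := mul_mem hgn (inv_mem (Subgroup.le_normalizer hqW))
    rwa [hgtq, mul_inv_cancel_right] at this
  have htX : t ∉ X := by
    intro htX
    refine hgW ?_
    show (gS : G) ∈ W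
    rw [hgtq]
    exact mul_mem (by rw [hF.split.W_eq]; exact ⟨hF.split.T_le htT, htX⟩) hqW
  have hu' := hF.conj_u h (fun e1 => htX (hF.mem_X.2 e1)) htW
  -- the conjugate of `w`
  obtain ⟨i, hi⟩ : ∃ i : ℕ, orderOf w = 2 ^ (i + 2) := by
    obtain ⟨k, hk⟩ := IsPGroup.iff_orderOf.1 hF.top.two ⟨w, hw2⟩
    rw [Subgroup.orderOf_mk] at hk
    rcases k with _ | _ | k
    · rw [pow_zero, orderOf_eq_one_iff] at hk
      rw [show wD = 1 from Subtype.ext hk, map_one] at hlw
      exact absurd hlw.symm hneg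
    · have := h.eq_of_involution hF.ne hF.u_ord hF.u_D (v := w) (by simpa using hk) (hF.top.le hw2)
      rw [show wD = (⟨u, hF.u_D⟩ : D) from Subtype.ext this, hlu] at hlw
      exact absurd hlw.symm hneg
    · exact ⟨k, hk⟩
  have hwu : w ^ (2 ^ (i + 1)) = u := by
    refine h.eq_of_involution hF.ne hF.u_ord hF.u_D ?_ (pow_mem (hF.top.le hw2) _)
    rw [orderOf_pow' w (pow_ne_zero _ two_ne_zero), hi,
      Nat.gcd_eq_right (pow_dvd_pow 2 (by omega : i + 1 ≤ i + 2)), Nat.pow_div (by omega) two_pos,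
      show i + 2 - (i + 1) = 1 by omega, pow_one]
  have hd'W : t * w * t⁻¹ ∈ W :=
    (Subgroup.mem_normalizer_iff.1 htW w).1 (hF.split.top_le hw2)
  have hd'p : (t * w * t⁻¹) ^ (2 ^ (i + 1)) = a * u := by rw [conj_pow, hwu, hu']
  obtain ⟨τ, hτ, q', hq', hd'⟩ := hF.split.W_mul _ hd'W
  obtain ⟨l, hlq⟩ := hgen q' hq'
  change w ^ l = q' at hlq
  subst hlq
  set qD : D := wD ^ l with hqD
  have hqDc : (qD : G) = w ^ l := by rw [hqD, SubgroupClass.coe_zpow]
  rcases Int.even_or_odd l with ⟨l', rfl⟩ | hlo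
  · -- the central case
    have hlq1 : lam qD = 1 := by
      rw [hqD, map_zpow, hlw, zpow_add, ← mul_zpow, neg_mul_neg, mul_one, one_zpow]
    have hc : Commute τ (w ^ (l' + l')) := hqDc ▸ hKc qD hlq1 τ (hF.mem_X.1 hτ.2)
    have hqp : (w ^ (l' + l')) ^ (2 ^ (i + 1)) = 1 := by
      rw [← zpow_natCast, ← zpow_mul,
        show (l' + l') * ((2 ^ (i + 1) : ℕ) : ℤ) = ((2 ^ (i + 2) : ℕ) : ℤ) * l' by
          push_cast; ring, zpow_mul, zpow_natCast, ← hi, pow_orderOf_eq_one, one_zpow]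
    rw [hd', hc.mul_pow, hqp, mul_one] at hd'p
    have huT : u ∈ T := by
      have h1 : a⁻¹ * τ ^ (2 ^ (i + 1)) ∈ T := mul_mem (inv_mem hF.a_mem) (pow_mem hτ.1 _)
      rwa [hd'p, inv_mul_cancel_left] at h1
    have hu1 := hF.split.T_free u huT x hF.u_D.1
    have := hF.u_ord
    simp [hu1] at this
  · -- the swapping case
    have hlq1 : lam qD = -1 := by rw [hqD, map_zpow, hlw, hlo.neg_one_zpow]
    haveI := hF.split.T_cyclic
    haveI : IsCyclic (T ⊓ X : Subgroup G) :=
      isCyclic_of_injective (Subgroup.inclusion (inf_le_left : T ⊓ X ≤ T))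
        (Subgroup.inclusion_injective _)
    obtain ⟨τ0, hτ0⟩ := IsCyclic.exists_generator (α := (T ⊓ X : Subgroup G))
    have hτo : 4 ∣ orderOf (τ0 : G) := by
      rw [Subgroup.orderOf_coe, orderOf_eq_card_of_forall_mem_zpowers hτ0]; exact hfour
    have hTcomm : ∀ {b c : G}, b ∈ T → c ∈ T → Commute b c := fun hb hc => by
      letI := IsCyclic.commGroup (α := T)
      exact congrArg Subtype.val (mul_comm (⟨_, hb⟩ : T) ⟨_, hc⟩)
    let tX : X := ⟨(τ0 : G), τ0.2.2⟩
    let dX : X := ⟨t * w * t⁻¹, by rw [hF.split.W_eq] at hd'W; exact hd'W.2⟩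
    have hA : Commute (μ tX) (μ ax) :=
      Commute.map (show Commute tX ax from Subtype.ext (hTcomm τ0.2.1 hF.a_mem).eq) μ
    have hB : Commute (μ dX) (μ ax) := by
      refine Commute.map (show Commute dX ax from Subtype.ext ?_) μ
      show t * w * t⁻¹ * a = a * (t * w * t⁻¹)
      have e1 : a * w = w * a := by rwa [mul_inv_eq_iff_eq_mul] at hσw
      have e2 := (hTcomm htT hF.a_mem).eq
      calc t * w * t⁻¹ * a = t * w * (t⁻¹ * a) := by group
        _ = t * w * (a * t⁻¹) := by rw [(hTcomm (inv_mem htT) hF.a_mem).eq]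
        _ = t * (w * a) * t⁻¹ := by group
        _ = t * (a * w) * t⁻¹ := by rw [e1]
        _ = t * a * (w * t⁻¹) := by group
        _ = a * (t * w * t⁻¹) := by rw [e2]; group
    have hne1 : ∀ g : X, μ g = 1 → (g : G) • x = x := fun g hg => by
      have : g • xl = xl := e.injective (by rw [hμ, hg, one_smul])
      exact congrArg Subtype.val this
    have hA2 : μ tX * μ tX ≠ 1 := by
      intro e1
      rw [← map_mul] at e1
      have e2 := hF.split.T_free _ (mul_mem τ0.2.1 τ0.2.1) x (hne1 _ e1)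
      have e3 : orderOf (τ0 : G) ∣ 2 := orderOf_dvd_of_pow_eq_one (by rw [sq]; exact e2)
      exact absurd (hτo.trans e3) (by decide)
    have hB2 : μ dX * μ dX ≠ 1 := by
      intro e1
      rw [← map_mul] at e1
      have e2 : μ ((dX * dX) ^ (2 ^ i)) = 1 := by rw [map_pow, e1, one_pow]
      have e3 := hne1 _ e2
      rw [SubmonoidClass.coe_pow, Subgroup.coe_mul, ← sq, ← pow_mul, ← pow_succ', hd'p, mul_smul,
        show u • x = x from hF.u_D.1, hF.a_x] at e3
      exact hF.ne e3.symm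
    have hAB := commute_of_swap hax hay hA hB hA2 hB2
    obtain ⟨m, hm⟩ := hτ0 ⟨τ, hτ⟩
    have hdX : dX = tX ^ m * ι qD := Subtype.ext (by
      show t * w * t⁻¹ = _
      rw [hd', Subgroup.coe_mul, SubgroupClass.coe_zpow,
        show (τ0 : G) ^ m = τ from congrArg Subtype.val hm, show ((ι qD : X) : G) = (qD : G) from rfl,
        hqDc])
    have hqc : Commute (μ tX) (μ (ι qD)) := by
      have h1 : Commute (μ tX) (μ (tX ^ m)⁻¹ * μ dX) :=
        (Commute.map ((Commute.refl tX).zpow_right m).inv_right μ).mul_right hAB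
      rwa [← map_mul, hdX, inv_mul_cancel_left] at h1
    -- `w` fixes the image of the base point
    have hwc : Commute (μ tX) (μ (ι wD)) := by rwa [hl, hlw, ← hlq1, ← hl]
    have hfix : (tX : G) • x ∈ fixSet Ω D2 := by
      intro v hv
      have h1 : w • (tX : G) • x = (tX : G) • x := by
        have : ι wD • tX • xl = tX • xl := e.injective (by
          rw [hμ, hμ, hex, ← mul_smul, ← hwc.eq, mul_smul, hl, aff_smul_infty])
        exact congrArg Subtype.val this
      exact (Subgroup.zpowers_le.2 (show w ∈ stabilizer G ((tX : G) • x) from h1)) (hgen v hv)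
    rw [h.fix_top hF.ne hF.top] at hfix
    rcases hfix with e1 | e1
    · have e2 : (τ0 : G) = 1 := hF.split.T_free _ τ0.2.1 x e1
      rw [e2, orderOf_one] at hτo
      exact absurd hτo (by decide)
    · have e2 := hF.split.T_free (a⁻¹ * τ0) (mul_mem (inv_mem hF.a_mem) τ0.2.1) x (by
        rw [mul_smul, Set.mem_singleton_iff.1 e1, hF.a_inv, hF.a_y])
      rw [inv_mul_eq_one] at e2
      have e3 : orderOf (τ0 : G) ∣ 2 :=
        orderOf_dvd_of_pow_eq_one (by rw [sq, ← e2]; exact hF.a_sq)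
      exact absurd (hτo.trans e3) (by decide)

end Cfsg.Agent.CyclicZProd23
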