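import Mathlib
import Cfsg.Agent.Lib.CyclicZProdEndgame23
import Cfsg.Agent.Lib.CyclicZProdStep23b

/-!
Doubly transitive groups of even degree with cyclic Sylow subgroups in the point stabilisers, even
two-point stabilisers and a large semiregular cyclic 2-group are projective linear groups.
-/

set_option autoImplicit false

universe u

namespace Cfsg.Agent.CyclicZProd23

open MulAction

theorem exists_mobius {G Ω : Type u} [Group G] [MulAction G Ω] [Finite G] [Finite Ω]
    (h : Setting G Ω) :
    ∃ (p : ℕ) (_ : Fact p.Prime) (e : Ω ≃ OnePoint (ZMod p)), IsMobius G p e := by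
  suffices key : ∀ (N : ℕ) (G Ω : Type u) [Group G] [MulAction G Ω] [Finite G] [Finite Ω],
      Nat.card G < N → Setting G Ω →
      ∃ (p : ℕ) (_ : Fact p.Prime) (e : Ω ≃ OnePoint (ZMod p)), IsMobius G p e from
    key _ G Ω (Nat.lt_succ_self _) h
  intro N
  induction N with
  | zero => intro G Ω _ _ _ _ hN _; omega
  | succ N ih =>
    intro G Ω _ _ _ _ hN h
    obtain ⟨x, y, D2, S, T, W, u, a, hF⟩ := h.exists_frame
    have h2 : 2 ≤ {z : Ω | u • z = z}.ncard := by
      rw [← fixSet_zpowers]
      exact two_le_fix hF.ne (Subgroup.zpowers_le.2 hF.u_D)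
    rcases h2.eq_or_lt with hf | hf
    · exact hF.endgame h hf.symm
    · obtain ⟨hR, hlt⟩ := hF.quotient_setting h hf
      obtain ⟨p, hp, e, he⟩ := ih _ _ (by omega) hR
      exact (hF.no_large_fix h hf he).elim

/-- The group itself is the projective linear group. -/
theorem nonempty_equiv_pgl {G Ω : Type u} [Group G] [MulAction G Ω] [Finite G] [Finite Ω]
    (h : Setting G Ω) : ∃ (p : ℕ) (_ : Fact p.Prime),
      Nat.card Ω = p + 1 ∧ Nonempty (G ≃* Matrix.ProjGenLinGroup (Fin 2) (ZMod p)) := by
  obtain ⟨p, hp, e, he⟩ := exists_mobius h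
  haveI := h.faithful
  refine ⟨p, hp, ?_, he.nonempty_equiv⟩
  rw [Nat.card_congr e, show Nat.card (OnePoint (ZMod p)) = Nat.card (Option (ZMod p)) from rfl,
    Finite.card_option, Nat.card_zmod]

end Cfsg.Agent.CyclicZProd23
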