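import Mathlib
import Cfsg.Agent.Lib.DicksonDihedralMax

/-!
Tools for the maximality of `A4`, `S4` and `A5` in `PSL(2,q)`.
-/

set_option autoImplicit false
set_option linter.unusedSectionVars false

open scoped MatrixGroups

namespace Cfsg.Agent.DicksonExceptionalMax

open Cfsg.Agent.DicksonPSL Cfsg.Agent.DicksonTorus Cfsg.Agent.DicksonDihedralMax

theorem dihedral_commute {n : ℕ} (x y : DihedralGroup n) (hx : 3 ≤ orderOf x) (hy : 3 ≤ orderOf y) :
    x * y = y * x := by
  cases x with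
  | sr i => rw [DihedralGroup.orderOf_sr] at hx; omega
  | r i =>
    cases y with
    | sr j => rw [DihedralGroup.orderOf_sr] at hy; omega
    | r j => rw [DihedralGroup.r_mul_r, DihedralGroup.r_mul_r, add_comm]

variable {F : Type*} [Field F] [Finite F] (p : ℕ) [hp : Fact p.Prime] [CharP F p]

include p hp in
/-- A subgroup with an inverted element of order prime to `p` and two noncommuting elements of
order at least three: the possibilities for a proper subgroup containing it. -/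
theorem over_cases {H M : Subgroup (Matrix.ProjectiveSpecialLinearGroup (Fin 2) F)} (hle : H ≤ M)
    (hM : M ≠ ⊤)
    (hinv : (∃ g ∈ H, ∃ h ∈ H, h * g * h⁻¹ = g⁻¹ ∧ ¬ orderOf g ∣ 2 * p) ∨
      ¬ dd F * Nat.card H ∣ Nat.card F * (Nat.card F - 1))
    (hnc : ∃ x ∈ H, ∃ y ∈ H, x * y ≠ y * x ∧ 3 ≤ orderOf x ∧ 3 ≤ orderOf y) :
    Nonempty (M ≃* alternatingGroup (Fin 4)) ∨ Nonempty (M ≃* Equiv.Perm (Fin 4)) ∨
      Nonempty (M ≃* alternatingGroup (Fin 5)) ∨
      ∃ s m, 3 ≤ s ∧ 2 ≤ m ∧ s ^ m = Nat.card F ∧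
        (Nat.card M = s * (s ^ 2 - 1) ∨ 2 * Nat.card M = s * (s ^ 2 - 1)) := by
  obtain ⟨x, hx, y, hy, hxy, hx3, hy3⟩ := hnc
  have hne : (⟨x, hle hx⟩ : M) * ⟨y, hle hy⟩ ≠ ⟨y, hle hy⟩ * ⟨x, hle hx⟩ :=
    fun e => hxy (congrArg Subtype.val e)
  rcases dickson_psl p M with ⟨hc, -⟩ | ⟨-, a, ha⟩ | ⟨k, -, -, -, ⟨e⟩⟩ | h | h | h | ⟨R, hR3, hR⟩
  · exact absurd (by letI := hc.commGroup; exact mul_comm _ _) hne
  · exfalso
    rcases hinv with ⟨g, hg, h, hh, hgh, hord⟩ | hnd
    · have mg := ha ⟨g, hle hg, rfl⟩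
      have mh := ha ⟨h, hle hh, rfl⟩
      have e := borel_inverted p mg mh (by rw [← map_mul, ← map_inv, ← map_mul, hgh, map_inv])
      rw [← map_pow] at e
      exact hord (orderOf_dvd_of_pow_eq_one ((MulAut.conj a).injective (e.trans (map_one _).symm)))
    · exact hnd ((Nat.mul_dvd_mul_left _ (Subgroup.card_dvd_of_le hle)).trans (card_dvd_borel ha))
  · refine absurd ?_ hne
    apply e.injective
    rw [map_mul, map_mul]
    refine dihedral_commute _ _ ?_ ?_ <;> rw [e.orderOf_eq, ← Subgroup.orderOf_coe]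
    · exact hx3
    · exact hy3
  · exact Or.inl h
  · exact Or.inr (Or.inl h)
  · exact Or.inr (Or.inr (Or.inl h))
  · obtain ⟨-, m, -, -, hm⟩ := exists_galoisField_equiv p R
    set s := Nat.card R
    have hMc : Nat.card M = s * (s ^ 2 - 1) ∨ (Odd s ∧ 2 * Nat.card M = s * (s ^ 2 - 1)) := by
      rcases hR with ⟨⟨e⟩⟩ | ⟨ho, ⟨e⟩⟩
      · exact Or.inl (by rw [Nat.card_congr e.toEquiv, PSLCard.card_PGL2])
      · refine Or.inr ⟨ho, ?_⟩
        rw [Nat.card_congr e.toEquiv, ← PSLCard.card_PSL2_mul (F := R)]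
        congr 1
        obtain ⟨j, hj⟩ := ho
        exact (Nat.gcd_eq_left ⟨j, by omega⟩).symm
    have h1 := PSLCard.one_lt_card F
    rcases m with _ | _ | m
    · simp at hm; omega
    · exfalso
      rw [pow_one] at hm
      rw [hm] at hMc
      have hdvd : dd F * Nat.card M ∣ Nat.card F * (Nat.card F ^ 2 - 1) := by
        rw [← PSLCard.card_PSL2_mul (F := F)]
        exact Nat.mul_dvd_mul_left _ (Subgroup.card_subgroup_dvd_card M)
      refine card_not_top hM ?_
      rcases hMc with h | ⟨ho, h⟩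
      · have := Nat.le_of_dvd (Nat.mul_pos Nat.card_pos (by
          have := Nat.pow_le_pow_left (show 2 ≤ Nat.card F by omega) 2; omega)) hdvd
        rw [h] at this ⊢
        have := Nat.le_mul_of_pos_left (Nat.card F * (Nat.card F ^ 2 - 1)) (card_pos_dd (F := F))
        omega
      · rcases arith_facts (F := F) with ⟨-, hd, -⟩ | ⟨he, -⟩
        · rw [hd]; exact h
        · exact absurd he (Nat.not_even_iff_odd.mpr ho)
    · exact Or.inr (Or.inr (Or.inr ⟨s, m + 1 + 1, hR3, by omega, hm, hMc.imp_right And.right⟩))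

/-- A prime has no proper root. -/
theorem no_root {P s m : ℕ} (hP : P.Prime) (hm : 2 ≤ m) (h : s ^ m = P) : False := by
  exact Nat.Prime.not_prime_pow hm (h ▸ hP)

end Cfsg.Agent.DicksonExceptionalMax
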