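import Mathlib
import Cfsg.Agent.Lib.DicksonExceptional
import Cfsg.Agent.Lib.DicksonSubfieldEmbed
import Cfsg.Agent.Lib.PSL2Small

/-!
Existence of `A4` and `A5` in `PSL(2,q)`.
-/

set_option autoImplicit false
set_option linter.unusedSectionVars false

open scoped MatrixGroups

namespace Cfsg.Agent.DicksonExistence

variable {F : Type*} [Field F] [Finite F]

theorem char_cases (p : ℕ) [hp : Fact p.Prime] [CharP F p] : (p = 2 ∧ (2 : F) = 0) ∨ (p ≠ 2 ∧ (2 : F) ≠ 0) := by
  rcases eq_or_ne p 2 with rfl | h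
  · exact Or.inl ⟨rfl, CharP.cast_eq_zero F 2 ▸ by norm_num⟩
  · refine Or.inr ⟨h, fun e => h ((Nat.prime_dvd_prime_iff_eq hp.out Nat.prime_two).mp ?_)⟩
    exact (CharP.cast_eq_zero_iff F p 2).mp (by exact_mod_cast e)

/-- An embedding of `PSL(2,K)` for a field of order `r` when `q` is a power of `r`. -/
theorem exists_psl_sub {r m : ℕ} (K : Type*) [Field K] [Finite K] (hK : Nat.card K = r)
    (hm : r ^ m = Nat.card F) :
    ∃ ψ : Matrix.ProjectiveSpecialLinearGroup (Fin 2) K →*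
      Matrix.ProjectiveSpecialLinearGroup (Fin 2) F, Function.Injective ψ := by
  obtain ⟨f⟩ := DicksonSubfieldEmbed.exists_ringHom (F := F) (K := K) (m := m) (by rw [hK, hm])
  exact DicksonSubfieldEmbed.exists_psl_embedding f

/-- `A5` in `PSL(2,4^m)`. -/
theorem exists_A5_four {m : ℕ} (hm : 4 ^ m = Nat.card F) :
    ∃ ψ : alternatingGroup (Fin 5) →* Matrix.ProjectiveSpecialLinearGroup (Fin 2) F,
      Function.Injective ψ := by
  have hK : Nat.card (GaloisField 2 2) = 4 := GaloisField.card 2 2 two_ne_zero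
  obtain ⟨ψ, hψ⟩ := exists_psl_sub (GaloisField 2 2) hK hm
  obtain ⟨e⟩ := PSL2Small.psl2_four _ hK
  exact ⟨ψ.comp e.symm.toMonoidHom, hψ.comp e.symm.injective⟩

/-- `A5` in `PSL(2,5^m)`. -/
theorem exists_A5_five {m : ℕ} (hm : 5 ^ m = Nat.card F) :
    ∃ ψ : alternatingGroup (Fin 5) →* Matrix.ProjectiveSpecialLinearGroup (Fin 2) F,
      Function.Injective ψ := by
  have : Fact (Nat.Prime 5) := ⟨by norm_num⟩
  have hK : Nat.card (ZMod 5) = 5 := Nat.card_zmod 5
  obtain ⟨ψ, hψ⟩ := exists_psl_sub (ZMod 5) hK hm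
  obtain ⟨e⟩ := PSL2Small.psl2_five _ hK
  exact ⟨ψ.comp e.symm.toMonoidHom, hψ.comp e.symm.injective⟩

/-- The embedding of `A4` in `A5`. -/
theorem exists_A4_A5 : ∃ φ : alternatingGroup (Fin 4) →* alternatingGroup (Fin 5),
    Function.Injective φ := by
  let f : Equiv.Perm (Fin 4) →* Equiv.Perm (Fin 5) :=
    (Equiv.Perm.viaEmbeddingHom (Fin.castSuccEmb : Fin 4 ↪ Fin 5))
  have hf : Function.Injective f := Equiv.Perm.viaEmbeddingHom_injective _
  refine ⟨MonoidHom.codRestrict (f.comp (alternatingGroup (Fin 4)).subtype) _ fun g => ?_,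
    fun a b h => Subtype.ext (hf (congrArg Subtype.val h))⟩
  rw [Equiv.Perm.mem_alternatingGroup]
  show Equiv.Perm.sign (Equiv.Perm.viaEmbedding (g : Equiv.Perm (Fin 4)) Fin.castSuccEmb) = 1
  rw [Equiv.Perm.viaEmbedding, Equiv.Perm.sign_extendDomain]
  exact g.2

/-- A root of `φ ^ 2 = φ + 1` when `5 ∣ q ^ 2 - 1`. -/
theorem exists_golden (p : ℕ) [Fact p.Prime] [CharP F p] {N : ℕ}
    (hN : N = Nat.card F - 1 ∨ N = Nat.card F + 1) (h5 : 5 ∣ N) :
    ∃ φ : F, φ ^ 2 = φ + 1 := by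
  have hq := PSLCard.one_lt_card F
  obtain ⟨A, hA⟩ : ∃ A : SL(2, F), orderOf A = N := by
    rcases hN with rfl | rfl
    · obtain ⟨a, ha⟩ := PSL2Proj52.exists_orderOf_card_sub_one (F := F); exact ⟨_, ha⟩
    · exact PSL2Proj52.exists_orderOf_card_add_one (F := F)
  obtain ⟨c, hc⟩ := h5
  have hc0 : c ≠ 0 := by rintro rfl; omega
  set B := A ^ c with hB
  have hB5 : orderOf B = 5 := by
    rw [hB, orderOf_pow' _ hc0, hA, hc, Nat.gcd_mul_left_left, Nat.mul_div_cancel _ (by omega)]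
  have h1 : B ≠ 1 := fun e => by rw [e, orderOf_one] at hB5; norm_num at hB5
  have hp5 : B ^ 5 = 1 := hB5 ▸ pow_orderOf_eq_one B
  set t := PSL2Elements.tr B
  set M : Matrix (Fin 2) (Fin 2) F := B.1
  have hsq : M * M = t • M - 1 := PSL2Elements.sq_eq B
  have h3 : M * M * M = (t ^ 2 - 1) • M - t • (1 : Matrix (Fin 2) (Fin 2) F) := by
    rw [hsq, sub_mul, smul_mul_assoc, hsq, one_mul, smul_sub, smul_smul, sub_smul, sq, one_smul]
    abel
  have h5' : M * M * (M * M * M) = 1 := by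
    have := congrArg Subtype.val hp5
    rw [show B ^ 5 = B * B * (B * B * B) by
      simp [pow_succ, mul_assoc]] at this
    exact this
  have e5 : (t ^ 4 - 3 * t ^ 2 + 1) • M - (t ^ 3 - 2 * t) • (1 : Matrix (Fin 2) (Fin 2) F) = 1 := by
    conv_rhs => rw [← h5', h3, hsq]
    simp only [mul_sub, sub_mul, smul_mul_assoc, mul_smul_comm, one_mul, mul_one, hsq]
    module
  have hfac : (t ^ 2 + t - 1) * (t ^ 2 - t - 1) = 0 := by
    by_cases hz : t ^ 4 - 3 * t ^ 2 + 1 = 0
    · linear_combination hz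
    · exfalso
      have hM : M = ((t ^ 4 - 3 * t ^ 2 + 1)⁻¹ * (t ^ 3 - 2 * t + 1)) • (1 : Matrix (Fin 2) (Fin 2) F) := by
        have e6 : (t ^ 4 - 3 * t ^ 2 + 1) • M =
            (t ^ 3 - 2 * t + 1) • (1 : Matrix (Fin 2) (Fin 2) F) := by
          rw [add_smul (t ^ 3 - 2 * t), one_smul]
          exact (sub_eq_iff_eq_add.mp e5).trans (add_comm _ _)
        rw [← smul_smul, ← e6, smul_smul, inv_mul_cancel₀ hz, one_smul]
      have hcent : B ∈ Subgroup.center SL(2, F) := by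
        rw [Subgroup.mem_center_iff]
        intro g
        apply Subtype.ext
        show g.1 * M = M * g.1
        rw [hM, mul_smul_comm, smul_mul_assoc, mul_one, one_mul]
      rcases (PSL2Elements.mem_center_iff B).mp hcent with e | e
      · exact h1 e
      · have : B ^ 2 = 1 := by rw [e, neg_one_sq]
        have := orderOf_dvd_of_pow_eq_one this
        rw [hB5] at this; norm_num at this
  by_cases ht : t ^ 2 + t - 1 = 0
  · exact ⟨-t, by linear_combination ht⟩
  · exact ⟨t, by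
      have := (mul_eq_zero.mp hfac).resolve_left ht
      linear_combination this⟩

end Cfsg.Agent.DicksonExistence
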