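import Mathlib
import Cfsg.Agent.Lib.DicksonSubfieldEmbed

/-!
Maximality of subfield subgroups of `PSL(2,q)`.
-/

set_option autoImplicit false
set_option linter.unusedSectionVars false

open scoped MatrixGroups

namespace Cfsg.Agent.DicksonSubfieldMax

open Cfsg.Agent.DicksonPSL Cfsg.Agent.DicksonTorus Cfsg.Agent.DicksonDihedralMax

theorem not_two_mul_dvd {x t : ℕ} (hx : Odd x) (hx1 : 1 < x) :
    ¬ 2 * (x - 1) ∣ x ^ (2 * t + 1) - 1 := by
  intro h
  obtain ⟨j, hj⟩ := hx
  have e1 : x ^ 2 ≡ 1 [MOD 2 * (x - 1)] := by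
    refine ((Nat.modEq_iff_dvd' (Nat.one_le_pow _ _ (by omega))).mpr ?_).symm
    refine ⟨j + 1, ?_⟩
    have : x ^ 2 = (x - 1) * (x + 1) + 1 := by
      subst hj; simp; ring
    rw [this, Nat.add_sub_cancel, show x + 1 = 2 * (j + 1) by omega]
    ring
  have e2 : x ^ (2 * t + 1) ≡ x [MOD 2 * (x - 1)] := by
    rw [pow_succ, pow_mul]
    simpa using ((e1.pow t).mul_right x)
  have e3 : 1 ≡ x ^ (2 * t + 1) [MOD 2 * (x - 1)] :=
    (Nat.modEq_iff_dvd' (Nat.one_le_pow _ _ (by omega))).mpr h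
  have e4 := (Nat.modEq_iff_dvd' hx1.le).mp (e3.trans e2)
  have := Nat.le_of_dvd (by omega) e4
  omega

variable {F : Type*} [Field F] [Finite F] (p : ℕ) [hp : Fact p.Prime] [CharP F p]

theorem three_pow_odd_mod {m : ℕ} (hm : Odd m) :
    3 ^ m % 8 = 3 ∧ (3 ^ m) ^ 2 % 16 = 9 ∧ (3 ^ m) ^ 2 % 5 = 4 := by
  obtain ⟨t, rfl⟩ := hm
  refine ⟨?_, ?_, ?_⟩ <;> induction t with
    | zero => rfl
    | succ t ih =>
      rw [show 2 * (t + 1) + 1 = 2 * t + 1 + 2 by ring, pow_add]
      first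
        | (rw [Nat.mul_mod, ih]; norm_num)
        | (rw [mul_pow, Nat.mul_mod, ih]; norm_num)

set_option maxHeartbeats 1000000 in
include p hp in
/-- A subgroup with the order of a subfield subgroup is maximal. -/
theorem coatom_of {H : Subgroup (Matrix.ProjectiveSpecialLinearGroup (Fin 2) F)} {r m : ℕ}
    (hr : 3 ≤ r) (hm : m.Prime) (hq : r ^ m = Nat.card F)
    (hn : (Nat.card H = r * (r ^ 2 - 1) ∧ (m = 2 ∨ Even r)) ∨
      (2 * Nat.card H = r * (r ^ 2 - 1) ∧ Odd r ∧ Odd m))
    (hnc : ∃ x ∈ H, ∃ y ∈ H, x * y ≠ y * x)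
    (hpair : 4 ≤ r → ∃ g ∈ H, ∃ h ∈ H, h * g * h⁻¹ = g⁻¹ ∧ 3 ≤ orderOf g ∧ ¬ p ∣ orderOf g) :
    IsCoatom H := by
  obtain ⟨b, hb0, hb⟩ := PSL2Sylow.card_field_eq (F := F) p
  obtain ⟨a, -, ha⟩ := (Nat.dvd_prime_pow hp.out).mp
    (show r ∣ p ^ b by rw [← hb, ← hq]; exact dvd_pow_self r hm.ne_zero)
  have hab : a * m = b := Nat.pow_right_injective hp.out.two_le
    (show p ^ _ = p ^ b by rw [pow_mul, ← ha, hq, hb])
  have hq2 : r * r ≤ Nat.card F := by
    rw [← hq, ← sq]; exact Nat.pow_le_pow_right (by omega) hm.two_le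
  have hr1 : 9 ≤ r * r := Nat.mul_le_mul hr hr
  have hG : dd F * Nat.card (Matrix.ProjectiveSpecialLinearGroup (Fin 2) F) =
      Nat.card F * (Nat.card F ^ 2 - 1) := PSLCard.card_PSL2_mul (F := F)
  have hd2 : dd F ≤ 2 := Nat.le_of_dvd two_pos (Nat.gcd_dvd_left _ _)
  have hsqr : ∀ x : ℕ, 1 ≤ x → r ≤ x → r * (r ^ 2 - 1) ≤ x * (x ^ 2 - 1) := fun x _ hrx =>
    Nat.mul_le_mul hrx (Nat.sub_le_sub_right (Nat.pow_le_pow_left hrx 2) 1)
  have hne : H ≠ ⊤ := by
    intro e
    rw [e, Subgroup.card_top] at hn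
    have h9 : 8 ≤ r ^ 2 - 1 := by rw [sq]; omega
    have hbig : 3 * (r * (r ^ 2 - 1)) ≤ Nat.card F * (Nat.card F ^ 2 - 1) := by
      rw [← mul_assoc]
      exact Nat.mul_le_mul ((Nat.mul_le_mul_right r hr).trans hq2)
        (Nat.sub_le_sub_right (Nat.pow_le_pow_left
          ((Nat.le_mul_of_pos_left r (by omega : 0 < r)).trans hq2) 2) 1)
    have hpos : 0 < r * (r ^ 2 - 1) := Nat.mul_pos (by omega) (by omega)
    rw [← hG] at hbig
    have hle2 := Nat.mul_le_mul_right
      (Nat.card (Matrix.ProjectiveSpecialLinearGroup (Fin 2) F)) hd2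
    omega
  refine ⟨hne, fun M hlt => ?_⟩
  by_contra hM
  have hHM := Subgroup.card_dvd_of_le hlt.le
  suffices Nat.card M ≤ Nat.card H from hlt.ne (Subgroup.eq_of_le_of_card_ge hlt.le this)
  have hMG : dd F * Nat.card M ∣ Nat.card F * (Nat.card F ^ 2 - 1) := by
    rw [← hG]; exact Nat.mul_dvd_mul_left _ (Subgroup.card_subgroup_dvd_card M)
  have hHpos : 0 < Nat.card H := Nat.card_pos
  have hsmall : r = 3 → Odd m → Nat.card H = 12 ∧ dd F = 2 ∧ Nat.card F = 3 ^ m := by
    intro h3 hmo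
    subst h3
    have : dd F = 2 := by
      rcases arith_facts (F := F) with ⟨-, h, -⟩ | ⟨he, -⟩
      · exact h
      · rw [← hq] at he
        exact absurd he (Nat.not_even_iff_odd.mpr (Odd.pow (by decide)))
    rcases hn with ⟨-, h | h⟩ | ⟨h, -, -⟩
    · rw [h] at hmo; exact absurd hmo (by decide)
    · exact absurd h (by decide)
    · exact ⟨by norm_num at h; omega, this, hq.symm⟩
  rcases dickson_psl p M with ⟨hc, -⟩ | ⟨-, c, hc⟩ | ⟨k', -, hk'p, -, ⟨e⟩⟩ | ⟨⟨e⟩⟩ | ⟨⟨e⟩⟩ |
      ⟨⟨e⟩⟩ | ⟨R, hR3, hR⟩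
  · exfalso
    obtain ⟨x, hx, y, hy, hxy⟩ := hnc
    have hcomm : (⟨x, hlt.le hx⟩ : M) * ⟨y, hlt.le hy⟩ = ⟨y, hlt.le hy⟩ * ⟨x, hlt.le hx⟩ := by
      letI := hc.commGroup; exact mul_comm _ _
    exact hxy (congrArg Subtype.val hcomm)
  · exfalso
    rcases Nat.lt_or_ge r 4 with h3 | h4
    · have hdvd := card_dvd_borel hc
      have h3' : r = 3 := by omega
      rcases hm.eq_two_or_odd' with rfl | hmo
      · subst h3'
        have hq9 : Nat.card F = 9 := by omega
        have hd : dd F = 2 := by rw [dd, hq9]; rfl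
        rw [hq9, hd] at hdvd
        have hH : Nat.card H = 24 := by
          rcases hn with ⟨h, -⟩ | ⟨-, -, h⟩
          · exact h
          · exact absurd h (by decide)
        have := (Nat.mul_dvd_mul_left 2 hHM).trans hdvd
        rw [hH] at this
        norm_num at this
      · obtain ⟨hH, hd, hq3⟩ := hsmall h3' hmo
        have h8 : 2 ^ 3 ∣ Nat.card F * (Nat.card F - 1) := (Dvd.intro 3 (by norm_num : 2 ^ 3 * 3 = 24)).trans
          (((by rw [hH, hd] : 24 = dd F * Nat.card H) ▸ Nat.mul_dvd_mul_left _ hHM).trans hdvd)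
        have hcop : Nat.Coprime (2 ^ 3) (Nat.card F) := by
          rw [hq3]; exact Nat.Coprime.pow _ _ (by decide)
        have h' := hcop.dvd_of_dvd_mul_left h8
        have h'' := (three_pow_odd_mod hmo).1
        rw [hq3] at h'
        clear hpair
        omega
    · obtain ⟨g, hg, h, hh, hgh, h3, hco⟩ := hpair h4
      have mg := hc ⟨g, hlt.le hg, rfl⟩
      have mh := hc ⟨h, hlt.le hh, rfl⟩
      have e := borel_inverted p mg mh (by rw [← map_mul, ← map_inv, ← map_mul, hgh, map_inv])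
      rw [← map_pow] at e
      have e' : g ^ (2 * p) = 1 := (MulAut.conj c).injective (e.trans (map_one _).symm)
      have hcp : Nat.Coprime (orderOf g) p := (hp.out.coprime_iff_not_dvd.mpr hco).symm
      have := Nat.le_of_dvd two_pos (hcp.dvd_of_dvd_mul_right (orderOf_dvd_of_pow_eq_one e'))
      omega
  · clear hpair
    exfalso
    rw [Nat.card_congr e.toEquiv, DihedralGroup.nat_card] at hHM
    have hrdvd : r ∣ 2 * Nat.card H := by
      rcases hn with ⟨h, -⟩ | ⟨h, -, -⟩
      · exact h ▸ dvd_mul_of_dvd_right (dvd_mul_right r _) 2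
      · exact h ▸ dvd_mul_right r _
    have ha0 : a ≠ 0 := by rintro rfl; simp at ha; omega
    have hp4 : p ∣ 2 * (2 * k') := (ha ▸ dvd_pow_self p ha0 : p ∣ r).trans
      (hrdvd.trans (Nat.mul_dvd_mul_left 2 hHM))
    rcases hp.out.eq_two_or_odd' with rfl | hpo
    · have hre : ¬ Odd r := by
        rw [ha, Nat.not_odd_iff_even]; exact Nat.even_pow.mpr ⟨even_two, ha0⟩
      rcases hn with ⟨h, -⟩ | ⟨-, h, -⟩
      · have h4 : 2 * 2 ∣ r := by
          rw [ha, ← sq]; refine pow_dvd_pow 2 ?_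
          by_contra h1
          have : a = 1 := by omega
          subst this; simp at ha; omega
        have := (h4.trans (h ▸ dvd_mul_right r _)).trans hHM
        exact hk'p (Nat.dvd_of_mul_dvd_mul_left two_pos this)
      · exact hre h
    · have hcop : Nat.Coprime p 2 := (Nat.coprime_primes hp.out Nat.prime_two).mpr fun e => by
        rw [e] at hpo; exact absurd hpo (by decide)
      exact hk'p (hcop.dvd_of_dvd_mul_left (hcop.dvd_of_dvd_mul_left hp4))
  · clear hpair
    rw [Nat.card_congr e.toEquiv, nat_card_alternatingGroup, Nat.card_fin,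
      (by norm_num [Nat.factorial] : Nat.factorial 4 / 2 = 12)]
    have : 24 ≤ r * (r ^ 2 - 1) := by
      have := Nat.mul_le_mul hr (show 8 ≤ r ^ 2 - 1 by rw [sq]; omega)
      omega
    omega
  · clear hpair
    rw [Nat.card_congr e.toEquiv, Nat.card_perm, Nat.card_fin] at hHM hMG ⊢
    rw [(by norm_num [Nat.factorial] : Nat.factorial 4 = 24)] at hHM hMG ⊢
    rcases Nat.lt_or_ge r 4 with h3 | h4
    · have h3' : r = 3 := by omega
      rcases hm.eq_two_or_odd' with rfl | hmo
      · subst h3'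
        rcases hn with ⟨h, -⟩ | ⟨-, -, h⟩
        · omega
        · exact absurd h (by decide)
      · exfalso
        obtain ⟨hH, hd, hq3⟩ := hsmall h3' hmo
        have h16 : 2 ^ 4 ∣ Nat.card F * (Nat.card F ^ 2 - 1) :=
          (Dvd.intro 3 (by norm_num : 2 ^ 4 * 3 = 48)).trans
            ((by rw [hd] : 48 = dd F * 24) ▸ hMG)
        have hcop : Nat.Coprime (2 ^ 4) (Nat.card F) := by
          rw [hq3]; exact Nat.Coprime.pow _ _ (by decide)
        have h' := hcop.dvd_of_dvd_mul_left h16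
        have h'' := (three_pow_odd_mod hmo).2.1
        rw [hq3] at h'
        omega
    · have := Nat.mul_le_mul h4 (show 15 ≤ r ^ 2 - 1 by
        have := Nat.pow_le_pow_left h4 2; omega)
      omega
  · clear hpair
    rw [Nat.card_congr e.toEquiv, nat_card_alternatingGroup, Nat.card_fin,
      (by norm_num [Nat.factorial] : Nat.factorial 5 / 2 = 60)] at hHM hMG ⊢
    rcases Nat.lt_or_ge r 4 with h3 | h4
    · exfalso
      have h3' : r = 3 := by omega
      rcases hm.eq_two_or_odd' with rfl | hmo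
      · subst h3'
        rcases hn with ⟨h, -⟩ | ⟨-, -, h⟩
        · rw [h] at hHM; norm_num at hHM
        · exact absurd h (by decide)
      · obtain ⟨hH, hd, hq3⟩ := hsmall h3' hmo
        have h5 : 5 ∣ Nat.card F * (Nat.card F ^ 2 - 1) :=
          (dvd_mul_of_dvd_right (by norm_num : 5 ∣ 60) _).trans hMG
        have hcop : Nat.Coprime 5 (Nat.card F) := by
          rw [hq3]; exact Nat.Coprime.pow_right _ (by decide)
        have h' := hcop.dvd_of_dvd_mul_left h5
        have h'' := (three_pow_odd_mod hmo).2.2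
        rw [hq3] at h'
        omega
    · rcases hn with ⟨h, -⟩ | ⟨h, ho, -⟩
      · have := Nat.mul_le_mul h4 (show 15 ≤ r ^ 2 - 1 by
          have := Nat.pow_le_pow_left h4 2; omega)
        omega
      · have hr5 : 5 ≤ r := by obtain ⟨j, hj⟩ := ho; omega
        have := Nat.mul_le_mul hr5 (show 24 ≤ r ^ 2 - 1 by
          have := Nat.pow_le_pow_left hr5 2; omega)
        omega
  · clear hpair
    obtain ⟨-, u, -, -, hu⟩ := exists_galoisField_equiv p R
    set s := Nat.card R
    obtain ⟨c, -, hc⟩ := (Nat.dvd_prime_pow hp.out).mp (show s ∣ p ^ b by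
      rw [← hb, ← hu]; refine dvd_pow_self s ?_
      rintro rfl; simp at hu; have := PSLCard.one_lt_card F; omega)
    have hMcard : Nat.card M = s * (s ^ 2 - 1) ∨ (Odd s ∧ 2 * Nat.card M = s * (s ^ 2 - 1)) := by
      rcases hR with ⟨⟨e⟩⟩ | ⟨ho, ⟨e⟩⟩
      · exact Or.inl (by rw [Nat.card_congr e.toEquiv, PSLCard.card_PGL2])
      · refine Or.inr ⟨ho, ?_⟩
        rw [Nat.card_congr e.toEquiv, ← PSLCard.card_PSL2_mul (F := R)]
        congr 1
        obtain ⟨j, hj⟩ := ho
        exact (Nat.gcd_eq_left ⟨j, by omega⟩).symm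
    have hdvd : r ^ 2 - 1 ∣ 2 * (s ^ 2 - 1) := by
      have h1 : r ^ 2 - 1 ∣ s * (2 * (s ^ 2 - 1)) := by
        have h : r ^ 2 - 1 ∣ 2 * Nat.card H := by
          rcases hn with ⟨h, -⟩ | ⟨h, -, -⟩
          · exact h ▸ dvd_mul_of_dvd_right (dvd_mul_left _ r) 2
          · exact h ▸ dvd_mul_left _ r
        rw [mul_left_comm]
        refine h.trans ((Nat.mul_dvd_mul_left 2 hHM).trans (Nat.mul_dvd_mul_left 2 ?_))
        rcases hMcard with h | ⟨-, h⟩
        · exact h ▸ dvd_rfl
        · exact h ▸ dvd_mul_left _ 2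
      refine Nat.Coprime.dvd_of_dvd_mul_left ?_ h1
      rw [hc]
      refine Nat.Coprime.pow_right c (hp.out.coprime_iff_not_dvd.mpr fun h => ?_).symm
      have ha0 : a ≠ 0 := by rintro rfl; simp at ha; omega
      have hpr : p ∣ r ^ 2 := dvd_pow (ha ▸ dvd_pow_self p ha0) two_ne_zero
      have := Nat.dvd_sub hpr h
      rw [Nat.sub_sub_self (Nat.one_le_pow _ _ (by omega))] at this
      exact hp.out.one_lt.ne' (Nat.dvd_one.mp this)
    have hac : a ∣ c := by
      have hg : Nat.gcd (2 * (r ^ 2 - 1)) (2 * (s ^ 2 - 1)) = 2 * (p ^ (2 * Nat.gcd a c) - 1) := by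
        rw [Nat.gcd_mul_left, ha, hc, ← pow_mul, ← pow_mul, Nat.pow_sub_one_gcd_pow_sub_one,
          Nat.gcd_mul_right, mul_comm (Nat.gcd a c)]
      have hle := Nat.dvd_gcd (dvd_mul_left (r ^ 2 - 1) 2) hdvd
      rw [hg] at hle
      by_contra hna
      obtain ⟨t, ht⟩ := Nat.gcd_dvd_left a c
      have hga : 2 * Nat.gcd a c ≤ a := by
        rcases t with _ | _ | t
        · simp at ht; rw [ht] at ha; simp at ha; omega
        · refine absurd ?_ hna
          rw [zero_add, mul_one] at ht; rw [ht]; exact Nat.gcd_dvd_right a c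
        · conv_rhs => rw [ht]
          rw [mul_comm]; exact Nat.mul_le_mul le_rfl (by omega)
      have hple : p ^ (2 * Nat.gcd a c) ≤ r := ha ▸ Nat.pow_le_pow_right hp.out.pos hga
      have hgpos : 0 < Nat.gcd a c := Nat.pos_of_ne_zero fun e => by
        rw [e, zero_mul] at ht; rw [ht] at ha; simp at ha; omega
      have h2 : 2 ≤ p ^ (2 * Nat.gcd a c) := hp.out.two_le.trans
        (Nat.le_self_pow (by omega) p)
      have := Nat.le_of_dvd (by omega) hle
      rw [sq] at this
      have := Nat.mul_le_mul_right r hr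
      omega
    obtain ⟨v, rfl⟩ := hac
    have hv : v * u = m := Nat.eq_of_mul_eq_mul_left
      (Nat.pos_of_ne_zero (n := a) fun e => by rw [e] at ha; simp at ha; omega)
      (by rw [← mul_assoc, hab]
          exact Nat.pow_right_injective hp.out.two_le
            (show p ^ _ = p ^ b by rw [pow_mul, ← hc, hu, hb]))
    rcases hm.eq_one_or_self_of_dvd v ⟨u, hv.symm⟩ with rfl | rfl
    · have hsr : s = r := by rw [hc, ha, mul_one]
      rw [hsr] at hMcard
      rcases hn with ⟨hn, -⟩ | ⟨hn, hro, hmo⟩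
      · omega
      · rcases hMcard with h | ⟨-, h⟩
        · exfalso
          rw [h] at hMG
          have hd : dd F = 2 := by
            rcases arith_facts (F := F) with ⟨-, h, -⟩ | ⟨he, -⟩
            · exact h
            · rw [← hq] at he; exact absurd he (Nat.not_even_iff_odd.mpr hro.pow)
          rw [hd] at hMG
          have hcop : Nat.Coprime (2 * (r ^ 2 - 1)) (Nat.card F) := by
            rw [← hq]
            refine Nat.Coprime.pow_right m (Nat.Coprime.mul ?_ ?_)
            · exact Nat.coprime_two_left.mpr hro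
            · have h1 : 1 ≤ r ^ 2 := Nat.one_le_pow _ _ (by omega)
              refine Nat.Coprime.symm ?_
              exact (Nat.Coprime.coprime_dvd_left (dvd_pow_self r two_ne_zero)
                (Nat.coprime_self_sub_right h1 |>.mpr (Nat.coprime_one_right _)))
          have h2 : 2 * (r ^ 2 - 1) ∣ Nat.card F ^ 2 - 1 := hcop.dvd_of_dvd_mul_left
            ((Nat.mul_dvd_mul_left 2 (dvd_mul_left _ r)).trans hMG)
          obtain ⟨t, rfl⟩ := hmo
          rw [← hq, pow_right_comm] at h2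
          exact not_two_mul_dvd hro.pow (Nat.one_lt_pow two_ne_zero (by omega)) h2
        · omega
    · exfalso
      have hsq' : s = Nat.card F := by rw [hc, hab, hb]
      rw [hsq'] at hMcard
      refine card_not_top hM ?_
      rcases hMcard with h | ⟨ho, h⟩
      · have := Nat.le_of_dvd (Nat.mul_pos Nat.card_pos (by
          have := Nat.pow_le_pow_left (show 2 ≤ Nat.card F by omega) 2; omega)) hMG
        rw [h] at this ⊢
        have h1 := Nat.le_mul_of_pos_left (Nat.card F * (Nat.card F ^ 2 - 1)) (card_pos_dd (F := F))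
        omega
      · rcases arith_facts (F := F) with ⟨-, hd, -⟩ | ⟨he, -⟩
        · rw [hd]; exact h
        · exact absurd he (Nat.not_even_iff_odd.mpr ho)

end Cfsg.Agent.DicksonSubfieldMax

namespace Cfsg.Agent.DicksonSubfieldMax

open Matrix hiding inv_zero mul_inv_rev
open Cfsg.Agent.DicksonPSL Cfsg.Agent.DicksonTorus Cfsg.Agent.DicksonDihedralMax

/-- The image of an embedded subfield group is maximal. -/
theorem exists_coatom {F K : Type*} [Field F] [Finite F] [Field K] [Finite K] {m : ℕ}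
    (hm : m.Prime) (hq : Nat.card K ^ m = Nat.card F) (hr : 3 ≤ Nat.card K) :
    ((m = 2 ∨ Even (Nat.card K)) → ∃ H : Subgroup (Matrix.ProjectiveSpecialLinearGroup (Fin 2) F),
      IsCoatom H ∧ Nonempty (H ≃* Matrix.ProjGenLinGroup (Fin 2) K)) ∧
    ((Even (Nat.card K) ∨ Odd m) → ∃ H : Subgroup (Matrix.ProjectiveSpecialLinearGroup (Fin 2) F),
      IsCoatom H ∧ Nonempty (H ≃* Matrix.ProjectiveSpecialLinearGroup (Fin 2) K)) := by
  obtain ⟨f⟩ := DicksonSubfieldEmbed.exists_ringHom hq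
  obtain ⟨p, hp⟩ := CharP.exists F
  have : Fact p.Prime := ⟨CharP.char_is_prime F p⟩
  have : CharP K p := (RingHom.charP_iff f f.injective p).mpr hp
  have key : ∀ (G : Type _) [Group G] (ψ : G →* Matrix.ProjectiveSpecialLinearGroup (Fin 2) F)
      (φ : Matrix.ProjectiveSpecialLinearGroup (Fin 2) K →* G), Function.Injective ψ →
      Function.Injective φ →
      ((Nat.card G = Nat.card K * (Nat.card K ^ 2 - 1) ∧ (m = 2 ∨ Even (Nat.card K))) ∨
        (2 * Nat.card G = Nat.card K * (Nat.card K ^ 2 - 1) ∧ Odd (Nat.card K) ∧ Odd m)) →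
      ∃ H : Subgroup (Matrix.ProjectiveSpecialLinearGroup (Fin 2) F),
        IsCoatom H ∧ Nonempty (H ≃* G) := by
    intro G _ ψ φ hψ hφ hn
    have hmem : ∀ x, ψ (φ x) ∈ ψ.range := fun x => ⟨_, rfl⟩
    refine ⟨ψ.range, coatom_of p (r := Nat.card K) hr hm hq ?_ ?_ ?_,
      ⟨(MonoidHom.ofInjective hψ).symm⟩⟩
    · rwa [← Nat.card_congr (MonoidHom.ofInjective hψ).toEquiv]
    · refine ⟨_, hmem (PSL2Proj52.π (PSL2Elements.u 1)), _, hmem (PSL2Proj52.π PSL2Elements.w),
        fun e => ?_⟩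
      simp only [← map_mul] at e
      have e' := hφ (hψ e)
      rw [PSL2Proj52.π_eq_iff] at e'
      rcases e' with e' | e' <;>
        have h1 := congrArg (fun A : Matrix.SpecialLinearGroup (Fin 2) K => A.1 0 0) e' <;>
        simp [PSL2Elements.u, PSL2Elements.w, PSL2Elements.mul_apply2] at h1
    · intro h4
      have hk : 3 ≤ (Nat.card K + 1) / dd K := by
        rcases arith_facts (F := K) with ⟨⟨j, hj⟩, -, e1, -⟩ | ⟨-, -, e1, -⟩ <;> omega
      obtain ⟨g, h, hg, hgh, -, -⟩ := exists_torus p (F := K) (N := Nat.card K + 1) (Or.inr rfl)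
        (by omega)
      refine ⟨_, hmem g, _, hmem h, by
        rw [← map_inv, ← map_mul, ← map_mul, ← map_inv, ← map_mul, ← map_mul, hgh, map_inv, map_inv],
        ?_, ?_⟩
      all_goals rw [orderOf_injective ψ hψ, orderOf_injective φ hφ, hg]
      · exact hk
      · exact not_dvd_torus p (F := K) (Or.inl dvd_rfl)
  refine ⟨fun hm2 => ?_, fun hm2 => ?_⟩
  · obtain ⟨ψ, hψ⟩ := DicksonSubfieldEmbed.exists_pgl_embedding f hq
      (hm2.imp_left fun h : m = 2 => by subst h; exact even_two)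
    exact key _ ψ ProjectiveSpecialLinearGroup.toPGL hψ
      ProjectiveSpecialLinearGroup.toPGL_injective (Or.inl ⟨PSLCard.card_PGL2, hm2⟩)
  · obtain ⟨ψ, hψ⟩ := DicksonSubfieldEmbed.exists_psl_embedding f
    refine key _ ψ (MonoidHom.id _) hψ Function.injective_id ?_
    rw [← PSLCard.card_PSL2_mul (F := K)]
    rcases arith_facts (F := K) with ⟨ho, hd, -⟩ | ⟨he, hd, -⟩ <;>
      simp only [dd] at hd <;> rw [hd]
    · exact Or.inr ⟨rfl, ho, hm2.resolve_left (Nat.not_even_iff_odd.mpr ho)⟩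
    · exact Or.inl ⟨(one_mul _).symm, Or.inr he⟩

end Cfsg.Agent.DicksonSubfieldMax
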