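import Mathlib
import Cfsg.Agent.Lib.DicksonMaximal
import Cfsg.Agent.Lib.DicksonRational
import Cfsg.Agent.Lib.DicksonExistence
import Cfsg.Agent.Lib.DicksonSubfieldMax

/-!
The case analysis of the maximal subgroups of `PSL(2,q)`.
-/

set_option autoImplicit false
set_option linter.unusedSectionVars false

open scoped MatrixGroups

namespace Cfsg.Agent.DicksonLists

open Cfsg.Agent.DicksonPSL Cfsg.Agent.DicksonTorus Cfsg.Agent.DicksonDihedralMax
open Cfsg.Agent.DicksonRational

variable {F : Type*} [Field F] [Finite F]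

theorem pull_mono {R R' : Subfield F} (h : R ≤ R') (c : Matrix.ProjGenLinGroup (Fin 2) F) :
    pull R c ≤ pull R' c := by
  intro g hg
  rw [mem_pull] at hg ⊢
  obtain ⟨x, hx⟩ := hg
  refine ⟨Matrix.ProjGenLinGroup.map (Subfield.inclusion h) x, ?_⟩
  rw [← MonoidHom.comp_apply, ← Matrix.ProjGenLinGroup.map_comp]
  exact hx

theorem coatom_eq_pull {M : Subgroup (Matrix.ProjectiveSpecialLinearGroup (Fin 2) F)}
    (hM : IsCoatom M) {R : Subfield F} {c : Matrix.ProjGenLinGroup (Fin 2) F}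
    (hle : M ≤ pull R c) (hR : Nat.card R ^ 2 ≤ Nat.card F) : M = pull R c :=
  ((hM.le_iff.mp hle).resolve_left (pull_ne_top c hR)).symm

variable (p : ℕ) [hp : Fact p.Prime] [CharP F p]

include p hp in
/-- A maximal subgroup isomorphic to a subfield group has prime degree. -/
theorem sub_case {M : Subgroup (Matrix.ProjectiveSpecialLinearGroup (Fin 2) F)} (hM : IsCoatom M)
    {R : Subfield F} (h3 : 3 ≤ Nat.card R) {c : Matrix.ProjGenLinGroup (Fin 2) F}
    (hle : M ≤ pull R c)
    (hiso : Nonempty (M ≃* Matrix.ProjGenLinGroup (Fin 2) R) ∨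
      (Odd (Nat.card R) ∧ Nonempty (M ≃* Matrix.ProjectiveSpecialLinearGroup (Fin 2) R))) :
    ∃ r, r.Prime ∧ Nat.card F = Nat.card R ^ r ∧
      ((Nonempty (M ≃* Matrix.ProjGenLinGroup (Fin 2) R) ∧ (Even (Nat.card R) ∨ r = 2)) ∨
        (Nonempty (M ≃* Matrix.ProjectiveSpecialLinearGroup (Fin 2) R) ∧ Odd (Nat.card R) ∧
          r ≠ 2)) := by
  obtain ⟨a, ha0, ha⟩ := prime_dvd_card_subfield p R
  obtain ⟨n, hn0, hn⟩ := PSL2Sylow.card_field_eq (F := F) p
  obtain ⟨-, m, -, -, hm⟩ := exists_galoisField_equiv p R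
  have ham : a * m = n := Nat.pow_right_injective hp.out.two_le
    (show p ^ _ = p ^ n by rw [pow_mul, ← ha, hm, hn])
  set s := Nat.card R with hsdef
  have hMc : Nat.card M = s * (s ^ 2 - 1) ∨ (Odd s ∧ 2 * Nat.card M = s * (s ^ 2 - 1)) := by
    rcases hiso with ⟨⟨e⟩⟩ | ⟨ho, ⟨e⟩⟩
    · exact Or.inl (by rw [Nat.card_congr e.toEquiv, PSLCard.card_PGL2])
    · refine Or.inr ⟨ho, ?_⟩
      rw [Nat.card_congr e.toEquiv, ← PSLCard.card_PSL2_mul (F := R)]
      congr 1
      obtain ⟨j, hj⟩ := ho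
      exact (Nat.gcd_eq_left ⟨j, by omega⟩).symm
  have hG : dd F * Nat.card (Matrix.ProjectiveSpecialLinearGroup (Fin 2) F) =
      Nat.card F * (Nat.card F ^ 2 - 1) := PSLCard.card_PSL2_mul (F := F)
  have hdvd : dd F * Nat.card M ∣ Nat.card F * (Nat.card F ^ 2 - 1) := by
    rw [← hG]; exact Nat.mul_dvd_mul_left _ (Subgroup.card_subgroup_dvd_card M)
  have h1 := PSLCard.one_lt_card F
  have hm2 : 2 ≤ m := by
    rcases m with _ | _ | m
    · simp at hm; omega
    · exfalso
      rw [pow_one] at hm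
      rw [hm] at hMc
      refine card_not_top hM.1 ?_
      rcases hMc with h | ⟨ho, h⟩
      · have := Nat.le_of_dvd (Nat.mul_pos Nat.card_pos (by
          have := Nat.pow_le_pow_left (show 2 ≤ Nat.card F by omega) 2; omega)) hdvd
        rw [h] at this ⊢
        have := Nat.le_mul_of_pos_left (Nat.card F * (Nat.card F ^ 2 - 1)) (card_pos_dd (F := F))
        omega
      · rcases arith_facts (F := F) with ⟨-, hd, -⟩ | ⟨he, -⟩
        · rw [hd]; exact h
        · exact absurd he (Nat.not_even_iff_odd.mpr ho)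
    · omega
  have hs2 : s ^ 2 ≤ Nat.card F := by rw [← hm]; exact Nat.pow_le_pow_right (by omega) hm2
  have hprime : m.Prime := by
    by_contra hnp
    obtain ⟨u, hum, hu2, hult⟩ := Nat.exists_dvd_of_not_prime2 hm2 hnp
    obtain ⟨v, hv⟩ := hum
    have hv2 : 2 ≤ v := by
      rcases v with _ | _ | v
      · omega
      · omega
      · omega
    have hau : Nat.card (fixSub F p (a * u)) = p ^ (a * u) :=
      card_fixSub p hn (Nat.mul_pos ha0 (by omega)) ⟨v, by rw [← ham, hv, mul_assoc]⟩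
    have hle' := hle.trans (pull_mono (le_fixSub p ha (dvd_mul_right a u)) c)
    have hbig : Nat.card (fixSub F p (a * u)) ^ 2 ≤ Nat.card F := by
      rw [hau, hn, ← pow_mul, ← ham, hv]
      refine Nat.pow_le_pow_right hp.out.pos ?_
      rw [mul_assoc]
      exact Nat.mul_le_mul le_rfl (Nat.mul_le_mul le_rfl hv2)
    have heq := coatom_eq_pull hM hle' hbig
    have hlow := card_psl_le_pull (fixSub F p (a * u)) c
    rw [← heq, hau, pow_mul, ← ha] at hlow
    have hss : s ^ 2 ≤ s ^ u := Nat.pow_le_pow_right (by omega) hu2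
    have h9 : 9 ≤ s ^ 2 := by rw [sq]; exact Nat.mul_le_mul h3 h3
    have key : 3 * (s * (s ^ 2 - 1)) ≤ s ^ u * ((s ^ u) ^ 2 - 1) := by
      rw [← mul_assoc]
      refine Nat.mul_le_mul ?_ ?_
      · refine le_trans ?_ hss
        rw [sq]; exact Nat.mul_le_mul_right _ h3
      · have : s ^ 2 ≤ (s ^ u) ^ 2 := by
          refine le_trans hss ?_
          rw [sq]; exact Nat.le_mul_of_pos_left _ (by omega)
        omega
    have hpos : 0 < s * (s ^ 2 - 1) := Nat.mul_pos (by omega) (by omega)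
    rcases hMc with h | ⟨-, h⟩ <;> omega
  have heq := coatom_eq_pull hM hle hs2
  refine ⟨m, hprime, hm.symm, ?_⟩
  rcases hiso with h | ⟨ho, h⟩
  · rcases Nat.even_or_odd s with he | ho
    · exact Or.inl ⟨h, Or.inl he⟩
    · refine Or.inl ⟨h, Or.inr (hprime.eq_two_or_odd'.resolve_right fun hmo => ?_)⟩
      obtain ⟨t, rfl⟩ := hmo
      obtain ⟨e⟩ := h
      have hd : dd F = 2 := by
        rcases arith_facts (F := F) with ⟨-, h, -⟩ | ⟨he, -⟩
        · exact h
        · rw [← hm] at he; exact absurd he (Nat.not_even_iff_odd.mpr ho.pow)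
      rw [hd, Nat.card_congr e.toEquiv, PSLCard.card_PGL2, ← hsdef] at hdvd
      have hcop : Nat.Coprime (2 * (s ^ 2 - 1)) (Nat.card F) := by
        rw [← hm]
        refine Nat.Coprime.pow_right _ (Nat.Coprime.mul_left (Nat.coprime_two_left.mpr ho) ?_)
        exact (Nat.Coprime.coprime_dvd_left (dvd_pow_self _ two_ne_zero)
          (Nat.coprime_self_sub_right (Nat.one_le_pow _ _ (by omega)) |>.mpr
            (Nat.coprime_one_right _))).symm
      have h2 : 2 * (s ^ 2 - 1) ∣ Nat.card F ^ 2 - 1 := hcop.dvd_of_dvd_mul_left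
        ((Nat.mul_dvd_mul_left 2 (dvd_mul_left _ s)).trans hdvd)
      rw [← hm, pow_right_comm] at h2
      exact DicksonSubfieldMax.not_two_mul_dvd ho.pow (Nat.one_lt_pow two_ne_zero (by omega)) h2
  · refine Or.inr ⟨h, ho, fun hm' => ?_⟩
    subst hm'
    have hsq : ∀ d : R, IsSquare (R.subtype d) := by
      intro d
      rcases eq_or_ne d 0 with rfl | hd
      · exact ⟨0, by simp⟩
      cases nonempty_fintype F
      cases nonempty_fintype R
      have hodd : Odd (Nat.card F) := hm ▸ ho.pow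
      have h2 : ringChar F ≠ 2 := by
        intro h
        have : Even (Fintype.card F) := FiniteField.even_card_iff_char_two.mp h |> Nat.even_iff.mpr
        rw [← Nat.card_eq_fintype_card] at this
        exact absurd this (Nat.not_even_iff_odd.mpr hodd)
      rw [FiniteField.isSquare_iff h2 ((map_ne_zero R.subtype).mpr hd), ← Nat.card_eq_fintype_card,
        ← hm]
      obtain ⟨j, hj⟩ := ho
      rw [hj, show (2 * j + 1) ^ 2 / 2 = 2 * j * (j + 1) by
        rw [show (2 * j + 1) ^ 2 = 2 * (2 * j * (j + 1)) + 1 by ring]; omega,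
        show 2 * j = Fintype.card R - 1 by rw [← Nat.card_eq_fintype_card, ← hsdef]; omega,
        pow_mul, ← map_pow, FiniteField.pow_card_sub_one_eq_one d hd, map_one, one_pow]
    have h' := card_pgl_le_pull R c hsq
    rw [← heq, ← hsdef] at h'
    obtain ⟨e⟩ := h
    have h'' := PSLCard.card_PSL2_mul (F := R)
    rw [← Nat.card_congr e.toEquiv, ← hsdef] at h''
    have hgcd : Nat.gcd 2 (s - 1) = 2 := by
      obtain ⟨j, hj⟩ := ho; exact Nat.gcd_eq_left ⟨j, by omega⟩
    rw [hgcd] at h''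
    have : 0 < Nat.card M := Nat.card_pos
    omega

/-! ### The exceptional groups -/

theorem orders_A4 : ∀ x : alternatingGroup (Fin 4), x ^ 2 = 1 ∨ x ^ 3 = 1 := A4_pow_cases

theorem prime_orderOf {G : Type*} [Group G] {x : G} {n : ℕ} (hn : n.Prime) (h : x ^ n = 1) :
    orderOf x = 1 ∨ orderOf x = n := (Nat.dvd_prime hn).mp (orderOf_dvd_of_pow_eq_one h)

variable {M : Subgroup (Matrix.ProjectiveSpecialLinearGroup (Fin 2) F)}

include p hp in
/-- An element of a subfield containing the traces. -/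
theorem trIn_one {R : Subfield F} {g : Matrix.ProjectiveSpecialLinearGroup (Fin 2) F}
    (h2 : (2 : F) ≠ 0) (hg : orderOf g = 1 ∨ orderOf g = 2 ∨ orderOf g = 3) :
    TrIn R 1 g := by
  intro C hC
  rw [inv_one, one_mul]
  obtain ⟨c1, c2, c3, -, -⟩ := trace_cases h2 (A := C)
  rw [hC] at c1 c2 c3
  rcases hg with h | h | h
  · have : (PSL2Elements.tr C - 2) * (PSL2Elements.tr C + 2) = 0 := by linear_combination c1 h
    have h2R : (2 : F) ∈ R := by exact_mod_cast natCast_mem R 2
    rcases mul_eq_zero.mp this with e | e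
    · rw [sub_eq_zero.mp e]; exact h2R
    · rw [eq_neg_of_add_eq_zero_left e]; exact R.neg_mem h2R
  · rw [c2 h]; exact R.zero_mem
  · rcases sq_eq_one_iff.mp (c3 h) with e | e <;> rw [e]
    · exact R.one_mem
    · exact R.neg_mem R.one_mem

include p hp in
theorem five_le_of_not_dvd (h2 : ¬ p ∣ 2) (h3 : ¬ p ∣ 3) : 5 ≤ p := by
  have := hp.out.two_le
  by_contra h
  interval_cases p
  · exact h2 dvd_rfl
  · exact h3 dvd_rfl
  · exact absurd hp.out (by norm_num)

include p hp in
/-- The prime field as a subfield, with the consequences for a maximal subgroup inside it. -/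
theorem prime_of_le_pull (hM : IsCoatom M) (h5 : 5 ≤ p) (hcard : Nat.card M < 60)
    {c : Matrix.ProjGenLinGroup (Fin 2) F} (hle : M ≤ pull (fixSub F p 1) c) :
    Nat.card F = p := by
  obtain ⟨n, hn0, hn⟩ := PSL2Sylow.card_field_eq (F := F) p
  by_contra hne
  have hn2 : 2 ≤ n := by
    by_contra h
    exact hne (by rw [hn, show n = 1 by omega, pow_one])
  have hR : Nat.card (fixSub F p 1) = p := by
    rw [card_fixSub p hn one_pos (one_dvd n), pow_one]
  have heq := coatom_eq_pull hM hle (by rw [hR, hn]; exact Nat.pow_le_pow_right hp.out.pos hn2)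
  have h := card_psl_le_pull (fixSub F p 1) c
  rw [hR, ← heq] at h
  have := Nat.mul_le_mul h5 (show 24 ≤ p ^ 2 - 1 by have := Nat.pow_le_pow_left h5 2; omega)
  omega

include p hp in
theorem s4_case (hM : IsCoatom M) (hco : ¬ p ∣ Nat.card M) (e : M ≃* Equiv.Perm (Fin 4)) :
    Nat.card F = p ∧ (p % 8 = 1 ∨ p % 8 = 7) := by
  have hc : Nat.card M = 24 := by
    rw [Nat.card_congr e.toEquiv, Nat.card_perm, Nat.card_fin]; rfl
  rw [hc] at hco
  have h5 : 5 ≤ p := five_le_of_not_dvd p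
    (fun h => hco (h.trans (by norm_num))) (fun h => hco (h.trans (by norm_num)))
  have h2 : (2 : F) ≠ 0 := ((DicksonExistence.char_cases (F := F) p).resolve_left
    (fun h => by omega)).2
  have hinj : Function.Injective (fun t => Subtype.val (e.symm t)) :=
    Subtype.val_injective.comp e.symm.injective
  set φ := M.subtype.comp e.symm.toMonoidHom with hφ
  have hφi : Function.Injective φ := hinj
  have hord : ∀ t, orderOf (φ t) = orderOf t := fun t => orderOf_injective φ hφi t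
  have hsurj : ∀ g ∈ M, ∃ t, φ t = g := fun g hg => ⟨e ⟨g, hg⟩, by simp [φ]⟩
  obtain ⟨u, v, hu, hv, huv, hne, hus, hvs⟩ : ∃ u v : Equiv.Perm (Fin 4),
      (u ^ 2 = 1 ∧ u ≠ 1) ∧ (v ^ 2 = 1 ∧ v ≠ 1) ∧ u * v = v * u ∧ u ≠ v ∧
        Equiv.Perm.sign u = 1 ∧ Equiv.Perm.sign v = 1 := by decide +kernel
  have heven : ∀ t : Equiv.Perm (Fin 4), Equiv.Perm.sign t = 1 → t ^ 2 = 1 ∨ t ^ 3 = 1 := by
    decide +kernel
  have hodd : ∀ t : Equiv.Perm (Fin 4), Equiv.Perm.sign t ≠ 1 →
      (t ^ 4 = 1 ∧ t ^ 2 ≠ 1) ∨ (t ^ 2 = 1 ∧ t ≠ 1) := by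
    decide +kernel
  obtain ⟨x, hx⟩ : ∃ x : Equiv.Perm (Fin 4), x ^ 4 = 1 ∧ x ^ 2 ≠ 1 := by decide +kernel
  have hord4 : orderOf x = 4 :=
    orderOf_eq_prime_pow (p := 2) (n := 1) (by simpa using hx.2) (by simpa using hx.1)
  obtain ⟨X, hX⟩ := PSL2Proj52.π_surjective (φ x)
  have hs : (PSL2Elements.tr X) ^ 2 = 2 :=
    (trace_cases h2).2.2.2.1 (by rw [hX, hord, hord4])
  set s := PSL2Elements.tr X with hsdef
  have hs0 : s ≠ 0 := fun h => h2 (by rw [← hs, h]; ring)
  have hev : ∀ t, Equiv.Perm.sign t = 1 → TrIn (fixSub F p 1) 1 (φ t) := by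
    intro t ht
    refine trIn_one p h2 ?_
    rw [hord]
    rcases heven t ht with h | h
    · exact (prime_orderOf Nat.prime_two h).imp_right Or.inl
    · exact (prime_orderOf Nat.prime_three h).imp_right Or.inr
  have hod : ∀ t, Equiv.Perm.sign t ≠ 1 → TrIn (fixSub F p 1) s (φ t) := by
    intro t ht C hC
    obtain ⟨-, c2, -, c4, -⟩ := trace_cases h2 (A := C)
    rw [hC, hord] at c2 c4
    rcases hodd t ht with ⟨h4, h2'⟩ | ⟨h2', h1⟩
    · have := c4 (orderOf_eq_prime_pow (p := 2) (n := 1) (by simpa using h2') (by simpa using h4))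
      rw [← hs] at this
      rcases sq_eq_sq_iff_eq_or_eq_neg.mp this with e | e <;> rw [e]
      · rw [inv_mul_cancel₀ hs0]; exact Subfield.one_mem _
      · rw [mul_neg, inv_mul_cancel₀ hs0]; exact Subfield.neg_mem _ (Subfield.one_mem _)
    · rw [c2 (orderOf_eq_prime h2' h1), mul_zero]; exact Subfield.zero_mem _
  obtain ⟨c, hle⟩ := exists_le_pull h2 (fixSub F p 1) (u := φ u) (v := φ v)
    (by rw [hord, orderOf_eq_prime hu.1 hu.2]) (by rw [hord, orderOf_eq_prime hv.1 hv.2])
    (by rw [← map_mul, ← map_mul, huv]) (fun h => hne (hφi h)) fun g hg => by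
      obtain ⟨t, rfl⟩ := hsurj g hg
      rw [← map_mul, ← map_mul, ← map_mul]
      by_cases ht : Equiv.Perm.sign t = 1
      · exact ⟨1, one_ne_zero, hev _ ht, hev _ (by rw [map_mul, ht, hus, one_mul]),
          hev _ (by rw [map_mul, ht, hvs, one_mul]),
          hev _ (by rw [map_mul, map_mul, ht, hus, hvs, one_mul, one_mul])⟩
      · exact ⟨s, hs0, hod _ ht, hod _ (by rwa [map_mul, hus, mul_one]),
          hod _ (by rwa [map_mul, hvs, mul_one]),
          hod _ (by rwa [map_mul, map_mul, hus, hvs, mul_one, mul_one])⟩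
  have hFp := prime_of_le_pull p hM h5 (by omega) hle
  refine ⟨hFp, ?_⟩
  cases nonempty_fintype F
  have := (FiniteField.isSquare_two_iff (F := F)).mp ⟨s, by rw [← sq, hs]⟩
  rw [← Nat.card_eq_fintype_card, hFp] at this
  have hpo : p % 2 = 1 := Nat.odd_iff.mp (hp.out.odd_of_ne_two (by omega))
  omega

include p hp in
theorem a4_case (h4 : 4 ≤ Nat.card F) (hM : IsCoatom M) (hco : ¬ p ∣ Nat.card M)
    (e : M ≃* alternatingGroup (Fin 4)) :
    Nat.card F = p ∧ (p % 8 = 3 ∨ p % 8 = 5) ∧ ¬ (p % 10 = 1 ∨ p % 10 = 9) := by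
  have hc : Nat.card M = 12 := by
    rw [Nat.card_congr e.toEquiv, nat_card_alternatingGroup, Nat.card_fin]; rfl
  rw [hc] at hco
  have h5 : 5 ≤ p := five_le_of_not_dvd p
    (fun h => hco (h.trans (by norm_num))) (fun h => hco (h.trans (by norm_num)))
  have h2 : (2 : F) ≠ 0 := ((DicksonExistence.char_cases (F := F) p).resolve_left
    (fun h => by omega)).2
  have hinj : Function.Injective (fun t => Subtype.val (e.symm t)) :=
    Subtype.val_injective.comp e.symm.injective
  set φ := M.subtype.comp e.symm.toMonoidHom with hφ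
  have hφi : Function.Injective φ := hinj
  have hord : ∀ t, orderOf (φ t) = orderOf t := fun t => orderOf_injective φ hφi t
  have hsurj : ∀ g ∈ M, ∃ t, φ t = g := fun g hg => ⟨e ⟨g, hg⟩, by simp [φ]⟩
  obtain ⟨u, v, hu, hv, huv, hne⟩ : ∃ u v : alternatingGroup (Fin 4),
      (u ^ 2 = 1 ∧ u ≠ 1) ∧ (v ^ 2 = 1 ∧ v ≠ 1) ∧ u * v = v * u ∧ u ≠ v := by decide +kernel
  have hev : ∀ t, TrIn (fixSub F p 1) 1 (φ t) := by
    intro t
    refine trIn_one p h2 ?_
    rw [hord]
    rcases A4_pow_cases t with h | h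
    · exact (prime_orderOf Nat.prime_two h).imp_right Or.inl
    · exact (prime_orderOf Nat.prime_three h).imp_right Or.inr
  obtain ⟨c, hle⟩ := exists_le_pull h2 (fixSub F p 1) (u := φ u) (v := φ v)
    (by rw [hord, orderOf_eq_prime hu.1 hu.2]) (by rw [hord, orderOf_eq_prime hv.1 hv.2])
    (by rw [← map_mul, ← map_mul, huv]) (fun h => hne (hφi h)) fun g hg => by
      obtain ⟨t, rfl⟩ := hsurj g hg
      rw [← map_mul, ← map_mul, ← map_mul]
      exact ⟨1, one_ne_zero, hev _, hev _, hev _, hev _⟩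
  have hFp := prime_of_le_pull p hM h5 (by omega) hle
  have hpo : p % 2 = 1 := Nat.odd_iff.mp (hp.out.odd_of_ne_two (by omega))
  have hG : dd F * Nat.card (Matrix.ProjectiveSpecialLinearGroup (Fin 2) F) =
      Nat.card F * (Nat.card F ^ 2 - 1) := PSLCard.card_PSL2_mul (F := F)
  have hd : dd F = 2 := by
    rcases arith_facts (F := F) with ⟨-, h, -⟩ | ⟨he, -⟩
    · exact h
    · rw [hFp] at he; exact absurd he (Nat.not_even_iff.mpr hpo)
  rw [hd, hFp] at hG
  have := DicksonMaximal.simple p h4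
  have : Fact (Nat.Prime 2) := ⟨Nat.prime_two⟩
  -- the Klein subgroup
  obtain ⟨K, hK, hKsq, hKnorm⟩ : ∃ K : Subgroup (alternatingGroup (Fin 4)), Nat.card K = 4 ∧
      (∀ x ∈ K, x * x = 1) ∧ K.Normal := by
    refine ⟨{ carrier := {x | x * x = 1}
              mul_mem' := fun {a b} ha hb => (by decide +kernel : ∀ a b : alternatingGroup (Fin 4),
                a * a = 1 → b * b = 1 → a * b * (a * b) = 1) a b ha hb
              one_mem' := one_mul 1
              inv_mem' := fun {a} ha => (by decide +kernel : ∀ a : alternatingGroup (Fin 4),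
                a * a = 1 → a⁻¹ * a⁻¹ = 1) a ha }, ?_, fun x hx => hx, ⟨fun a ha g => ?_⟩⟩
    · show Nat.card {x : alternatingGroup (Fin 4) // x * x = 1} = 4
      rw [Nat.card_eq_fintype_card]
      rfl
    · exact (by decide +kernel : ∀ a g : alternatingGroup (Fin 4),
        a * a = 1 → g * a * g⁻¹ * (g * a * g⁻¹) = 1) a g ha
  set V := K.map φ with hV
  have hVc : Nat.card V = 2 ^ 2 := by
    rw [hV, ← Nat.card_congr (K.equivMapOfInjective φ hφi).toEquiv, hK]; rfl
  have hVbot : V ≠ ⊥ := fun h => by rw [h, Subgroup.card_bot] at hVc; norm_num at hVc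
  have hVM : V ≤ M := by rintro _ ⟨t, -, rfl⟩; exact (e.symm t).2
  have hN : Subgroup.normalizer (V : Set _) = M := by
    refine DicksonMaximal.normalizer_eq hM hVbot hVM fun g hg => ?_
    obtain ⟨t, rfl⟩ := hsurj g hg
    refine DicksonMaximal.mem_normalizer_of ?_
    rintro _ ⟨y, hy, rfl⟩
    exact ⟨_, hKnorm.conj_mem y hy t, by rw [map_mul, map_mul, map_inv]⟩
  have hsyl : ¬ 2 ^ 3 ∣ Nat.card (Matrix.ProjectiveSpecialLinearGroup (Fin 2) F) := by
    intro hdvd
    obtain ⟨L, hL, hVL⟩ := Sylow.exists_subgroup_card_pow_succ (p := 2) (n := 2) hdvd hVc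
    have hLn : L ≤ Subgroup.normalizer (V : Set _) := by
      have hidx : (V.subgroupOf L).index = 2 := by
        have h1 := (V.subgroupOf L).card_mul_index
        rw [Nat.card_congr (Subgroup.subgroupOfEquivOfLe hVL).toEquiv, hVc, hL] at h1
        omega
      have := Subgroup.normal_of_index_eq_two hidx
      exact Subgroup.normal_subgroupOf_iff_le_normalizer hVL |>.mp this
    have h12 := Subgroup.card_dvd_of_le (hN ▸ hLn : L ≤ M)
    rw [hL, hc] at h12
    norm_num at h12
  have h8 : p % 8 = 3 ∨ p % 8 = 5 := by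
    by_contra h
    refine hsyl ?_
    have hp8 : p % 8 = 1 ∨ p % 8 = 7 := by omega
    have h16 : 2 ^ 4 ∣ p ^ 2 - 1 := by
      have hm : p ^ 2 % 16 = 1 := by
        rw [Nat.pow_mod]
        have : p % 16 = 1 ∨ p % 16 = 7 ∨ p % 16 = 9 ∨ p % 16 = 15 := by omega
        rcases this with e | e | e | e <;> rw [e]
      exact ⟨p ^ 2 / 16, by omega⟩
    have := hG ▸ dvd_mul_of_dvd_right h16 p
    rw [pow_succ' 2 3] at this
    exact Nat.dvd_of_mul_dvd_mul_left two_pos this
  refine ⟨hFp, h8, fun h10 => ?_⟩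
  obtain ⟨ψ, hψ⟩ : ∃ ψ : alternatingGroup (Fin 5) →* Matrix.ProjectiveSpecialLinearGroup (Fin 2) F,
      Function.Injective ψ := by
    have h5d : 5 ∣ Nat.card F - 1 ∨ 5 ∣ Nat.card F + 1 := by rw [hFp]; omega
    obtain ⟨φ', hφ'⟩ : ∃ φ' : F, φ' ^ 2 = φ' + 1 := by
      rcases h5d with h | h
      · exact DicksonExistence.exists_golden p (Or.inl rfl) h
      · exact DicksonExistence.exists_golden p (Or.inr rfl) h
    exact DicksonExceptional.exists_A5 h2 hφ'
  obtain ⟨ι, hι⟩ := DicksonExistence.exists_A4_A5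
  set φ' := ψ.comp ι with hφ'
  have hφ'i : Function.Injective φ' := hψ.comp hι
  obtain ⟨P, hP⟩ : ∃ P : Sylow 2 (Matrix.ProjectiveSpecialLinearGroup (Fin 2) F),
      (P : Subgroup _) = K.map φ := by
    obtain ⟨P, hP⟩ := (IsPGroup.of_card (p := 2) (n := 2) hVc).exists_le_sylow
    refine ⟨P, (Subgroup.eq_of_le_of_card_ge hP ?_).symm⟩
    obtain ⟨b, hb⟩ := IsPGroup.iff_card.mp P.2
    rw [hVc, hb]
    refine Nat.pow_le_pow_right two_pos ?_
    by_contra hb2
    exact hsyl ((pow_dvd_pow 2 (by omega : 3 ≤ b)).trans (hb ▸ Subgroup.card_subgroup_dvd_card _))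
  obtain ⟨Q, hQ⟩ : ∃ Q : Sylow 2 (Matrix.ProjectiveSpecialLinearGroup (Fin 2) F),
      (Q : Subgroup _) = K.map φ' := by
    have hc' : Nat.card (K.map φ') = 2 ^ 2 := by
      rw [← Nat.card_congr (K.equivMapOfInjective φ' hφ'i).toEquiv, hK]; rfl
    obtain ⟨Q, hQ⟩ := (IsPGroup.of_card (p := 2) (n := 2) hc').exists_le_sylow
    refine ⟨Q, (Subgroup.eq_of_le_of_card_ge hQ ?_).symm⟩
    obtain ⟨b, hb⟩ := IsPGroup.iff_card.mp Q.2
    rw [hc', hb]
    refine Nat.pow_le_pow_right two_pos ?_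
    by_contra hb2
    exact hsyl ((pow_dvd_pow 2 (by omega : 3 ≤ b)).trans (hb ▸ Subgroup.card_subgroup_dvd_card _))
  obtain ⟨x, hx⟩ := MulAction.exists_smul_eq
    (Matrix.ProjectiveSpecialLinearGroup (Fin 2) F) Q P
  have hx' : (K.map φ').map (MulAut.conj x).toMonoidHom = K.map φ := by
    rw [← hP, ← hx, Sylow.coe_subgroup_smul, hQ]
    rfl
  set A' := φ'.range.map (MulAut.conj x).toMonoidHom with hA'
  have hA'c : Nat.card A' = 12 := by
    rw [hA', ← Nat.card_congr (φ'.range.equivMapOfInjective _ (MulAut.conj x).injective).toEquiv,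
      ← Nat.card_congr (MonoidHom.ofInjective hφ'i).toEquiv, nat_card_alternatingGroup, Nat.card_fin]
    rfl
  have hA'M : A' = M := by
    refine Subgroup.eq_of_le_of_card_ge ?_ (by rw [hA'c, hc])
    rw [← hN]
    rintro _ ⟨_, ⟨t, rfl⟩, rfl⟩
    refine DicksonMaximal.mem_normalizer_of ?_
    intro y hy
    rw [hV, ← hx'] at hy ⊢
    obtain ⟨_, ⟨z, hz, rfl⟩, rfl⟩ := hy
    exact ⟨φ' (t * z * t⁻¹), ⟨_, hKnorm.conj_mem z hz t, rfl⟩, by simp [mul_assoc]⟩
  set A5' := ψ.range.map (MulAut.conj x).toMonoidHom with hA5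
  have hA5c : Nat.card A5' = 60 := by
    rw [hA5, ← Nat.card_congr (ψ.range.equivMapOfInjective _ (MulAut.conj x).injective).toEquiv,
      ← Nat.card_congr (MonoidHom.ofInjective hψ).toEquiv, nat_card_alternatingGroup, Nat.card_fin]
    rfl
  have hle5 : M ≤ A5' := by
    rw [← hA'M]
    refine Subgroup.map_mono ?_
    rintro _ ⟨t, rfl⟩
    exact ⟨ι t, rfl⟩
  rcases hM.le_iff.mp hle5 with h | h
  · rw [h, Subgroup.card_top] at hA5c
    rw [hA5c] at hG
    have h11 : 11 ≤ p := by omega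
    have := Nat.mul_le_mul h11 (show 120 ≤ p ^ 2 - 1 by have := Nat.pow_le_pow_left h11 2; omega)
    omega
  · rw [h, hc] at hA5c; omega

include p hp in
theorem a5_case (hp2 : p ≠ 2) (hM : IsCoatom M) (hco : ¬ p ∣ Nat.card M ∨ p = 3)
    (e : M ≃* alternatingGroup (Fin 5)) :
    (Nat.card F % 10 = 1 ∨ Nat.card F % 10 = 9) ∧
      (Nat.card F = p ∨ (Nat.card F = p ^ 2 ∧ (p % 10 = 3 ∨ p % 10 = 7))) := by
  have hc : Nat.card M = 60 := by
    rw [Nat.card_congr e.toEquiv, nat_card_alternatingGroup, Nat.card_fin]; rfl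
  rw [hc] at hco
  have hp5 : p ≠ 5 := by rintro rfl; rcases hco with h | h <;> norm_num at h
  have hpo : p % 2 = 1 := Nat.odd_iff.mp (hp.out.odd_of_ne_two hp2)
  have h2 : (2 : F) ≠ 0 := ((DicksonExistence.char_cases (F := F) p).resolve_left
    (fun h => hp2 h.1)).2
  obtain ⟨n, hn0, hn⟩ := PSL2Sylow.card_field_eq (F := F) p
  have hqodd : Odd (Nat.card F) := hn ▸ (Nat.odd_iff.mpr hpo).pow
  have h5q : 5 ∣ Nat.card F - 1 ∨ 5 ∣ Nat.card F + 1 := by
    have hG := PSLCard.card_PSL2_mul (F := F)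
    have h5 : 5 ∣ Nat.card F * (Nat.card F ^ 2 - 1) := by
      rw [← hG]
      exact dvd_mul_of_dvd_right ((by norm_num : 5 ∣ 60).trans
        (hc ▸ Subgroup.card_subgroup_dvd_card M)) _
    have hsq : Nat.card F ^ 2 - 1 = (Nat.card F - 1) * (Nat.card F + 1) := by
      rw [mul_comm, ← Nat.sq_sub_sq, one_pow]
    rw [hsq] at h5
    rcases (Nat.Prime.dvd_mul (by norm_num)).mp h5 with h | h
    · exact absurd ((Nat.prime_dvd_prime_iff_eq (by norm_num) hp.out).mp
        ((show Nat.Prime 5 by norm_num).dvd_of_dvd_pow (hn ▸ h))).symm hp5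
    · exact (Nat.Prime.dvd_mul (by norm_num)).mp h
  refine ⟨by
    have := Nat.odd_iff.mp hqodd
    have := PSLCard.one_lt_card F
    rcases h5q with h | h <;> omega, ?_⟩
  obtain ⟨w, hw⟩ : ∃ w : F, w ^ 2 = w + 1 := by
    rcases h5q with h | h
    · exact DicksonExistence.exists_golden p (Or.inl rfl) h
    · exact DicksonExistence.exists_golden p (Or.inr rfl) h
  have hfrob : ∀ j : ℕ, w ^ p ^ j = w ∨ w ^ p ^ j = 1 - w := by
    intro j
    have h : (w ^ p ^ j) ^ 2 = w ^ p ^ j + 1 := by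
      rw [← pow_mul, mul_comm, pow_mul, hw, add_pow_char_pow, one_pow]
    have : (w ^ p ^ j - w) * (w ^ p ^ j - (1 - w)) = 0 := by linear_combination h - hw
    exact (mul_eq_zero.mp this).imp sub_eq_zero.mp sub_eq_zero.mp
  have hw2 : w ∈ fixSub F p 2 := by
    rw [mem_fixSub, pow_succ, pow_mul]
    rcases hfrob 1 with h | h
    · rw [h, ← pow_one p, h]
    · rw [h, sub_pow_char, one_pow, ← pow_one p, h, sub_sub_cancel]
  -- the traces
  have hinj : Function.Injective (fun t => Subtype.val (e.symm t)) :=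
    Subtype.val_injective.comp e.symm.injective
  set φ := M.subtype.comp e.symm.toMonoidHom with hφ
  have hφi : Function.Injective φ := hinj
  have hord : ∀ t, orderOf (φ t) = orderOf t := fun t => orderOf_injective φ hφi t
  have hsurj : ∀ g ∈ M, ∃ t, φ t = g := fun g hg => ⟨e ⟨g, hg⟩, by simp [φ]⟩
  obtain ⟨u, v, hu, hv, huv, hne⟩ : ∃ u v : alternatingGroup (Fin 5),
      (u ^ 2 = 1 ∧ u ≠ 1) ∧ (v ^ 2 = 1 ∧ v ≠ 1) ∧ u * v = v * u ∧ u ≠ v := by decide +kernel
  have htr : ∀ R : Subfield F, w ∈ R → ∀ t, TrIn R 1 (φ t) := by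
    intro R hwR t
    rcases A5_pow_cases t with h | h | h
    · exact trIn_one p h2 (by rw [hord]; exact (prime_orderOf Nat.prime_two h).imp_right Or.inl)
    · exact trIn_one p h2 (by rw [hord]; exact (prime_orderOf Nat.prime_three h).imp_right Or.inr)
    · rcases prime_orderOf (by norm_num) h with h1 | h5'
      · exact trIn_one p h2 (by rw [hord]; exact Or.inl h1)
      intro C hC
      rw [inv_one, one_mul]
      have := (trace_cases h2 (A := C)).2.2.2.2 (by rw [hC, hord, h5'])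
      rcases mul_eq_zero.mp this with e | e
      · have : (PSL2Elements.tr C + w) * (PSL2Elements.tr C + (1 - w)) = 0 := by
          linear_combination e - hw
        rcases mul_eq_zero.mp this with e' | e' <;> rw [eq_neg_of_add_eq_zero_left e']
        · exact R.neg_mem hwR
        · exact R.neg_mem (R.sub_mem R.one_mem hwR)
      · have : (PSL2Elements.tr C - w) * (PSL2Elements.tr C - (1 - w)) = 0 := by
          linear_combination e - hw
        rcases mul_eq_zero.mp this with e' | e' <;> rw [sub_eq_zero.mp e']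
        · exact hwR
        · exact R.sub_mem R.one_mem hwR
  -- the field is generated by `w`
  have hgen : ∀ j, 0 < j → j ∣ n → j < n → w ∈ fixSub F p j → 5 ≤ p ^ j → False := by
    intro j hj hjn hlt hwR h5j
    obtain ⟨c, hle⟩ := exists_le_pull h2 (fixSub F p j) (u := φ u) (v := φ v)
      (by rw [hord, orderOf_eq_prime hu.1 hu.2]) (by rw [hord, orderOf_eq_prime hv.1 hv.2])
      (by rw [← map_mul, ← map_mul, huv]) (fun h => hne (hφi h)) fun g hg => by
        obtain ⟨t, rfl⟩ := hsurj g hg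
        rw [← map_mul, ← map_mul, ← map_mul]
        exact ⟨1, one_ne_zero, htr _ hwR _, htr _ hwR _, htr _ hwR _, htr _ hwR _⟩
    have hR : Nat.card (fixSub F p j) = p ^ j := card_fixSub p hn hj hjn
    have heq := coatom_eq_pull hM hle (by
      rw [hR, hn, ← pow_mul]
      refine Nat.pow_le_pow_right hp.out.pos ?_
      obtain ⟨i, rfl⟩ := hjn
      refine Nat.mul_le_mul le_rfl ?_
      by_contra hi
      interval_cases i <;> omega)
    have h := card_psl_le_pull (fixSub F p j) c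
    rw [hR, ← heq, hc] at h
    have hpj5 : p ^ j ≠ 5 := fun h => hp5
      (((Nat.prime_dvd_prime_iff_eq hp.out (by norm_num)).mp (h ▸ dvd_pow_self p (by omega))))
    have h7 : 6 ≤ p ^ j := by omega
    have := Nat.mul_le_mul h7 (show 35 ≤ (p ^ j) ^ 2 - 1 by
      have := Nat.pow_le_pow_left h7 2; omega)
    omega
  have hp3 : 3 ≤ p := by have := hp.out.two_le; omega
  by_cases hw1 : w ∈ fixSub F p 1
  · left
    by_contra hne'
    rcases Nat.lt_or_ge p 5 with h | h
    · -- p = 3 has no root in the prime field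
      have hp3' : p = 3 := by omega
      subst hp3'
      have h3 : w ^ 3 = w := by simpa using (mem_fixSub 3).mp hw1
      have h03 : (3 : F) = 0 := CharP.cast_eq_zero F 3
      have : w + 1 = 0 := by linear_combination h3 - (w + 1) * hw
      have hw' : w = -1 := eq_neg_of_add_eq_zero_left this
      rw [hw'] at hw
      exact one_ne_zero (α := F) (by linear_combination hw)
    · refine hgen 1 one_pos (one_dvd n) ?_ hw1 (by simpa using h)
      by_contra hn1
      exact hne' (by rw [hn, show n = 1 by omega, pow_one])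
  · right
    have hne1 : ¬ (w ^ p = w) := fun h => hw1 (by rw [mem_fixSub, pow_one]; exact h)
    have hnev : Even n := by
      by_contra hodd
      obtain ⟨t, rfl⟩ := Nat.not_even_iff_odd.mp hodd
      cases nonempty_fintype F
      have h := FiniteField.pow_card w
      rw [← Nat.card_eq_fintype_card, hn, pow_succ, pow_mul] at h
      have h' : w ^ p ^ (2 * t) = w := by
        clear h hn hn0 hodd hgen
        induction t with
        | zero => simp
        | succ t ih =>
          rw [show 2 * (t + 1) = 2 * t + 2 by ring, pow_add, pow_mul, ih]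
          exact (mem_fixSub p).mp hw2
      rw [h'] at h
      exact hne1 h
    have hn2 : n = 2 := by
      by_contra h
      refine hgen 2 two_pos (even_iff_two_dvd.mp hnev) (by obtain ⟨t, rfl⟩ := hnev; omega) hw2 ?_
      have := Nat.pow_le_pow_left hp3 2
      omega
    refine ⟨by rw [hn, hn2], ?_⟩
    -- `p` is not `±1` modulo five
    have hpm : ¬ (p % 5 = 1 ∨ p % 5 = 4) := by
      intro h
      obtain ⟨z, hz⟩ : ∃ z : ZMod p, z ^ 2 = z + 1 :=
        DicksonExistence.exists_golden (F := ZMod p) p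
          (N := if p % 5 = 1 then p - 1 else p + 1)
          (by rw [Nat.card_zmod]; split_ifs <;> simp)
          (by split_ifs <;> omega)
      set f := ZMod.castHom (dvd_refl p) F
      have hz' : (f z) ^ 2 = f z + 1 := by rw [← map_pow, hz, map_add, map_one]
      have hzp : (f z) ^ p = f z := by rw [← map_pow, ZMod.pow_card]
      have : (w - f z) * (w - (1 - f z)) = 0 := by linear_combination hw - hz'
      rcases mul_eq_zero.mp this with h' | h'
      · exact hne1 (by rw [sub_eq_zero.mp h', hzp])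
      · exact hne1 (by rw [sub_eq_zero.mp h', sub_pow_char, one_pow, hzp])
    have hp5' : p % 5 ≠ 0 := fun h =>
      hp5 ((Nat.prime_dvd_prime_iff_eq (by norm_num) hp.out).mp (Nat.dvd_of_mod_eq_zero h)).symm
    omega

include p hp in
/-- The small dihedral groups that are not maximal. -/
theorem not_small_dihedral (hp2 : p ≠ 2) (hM : IsCoatom M) {k : ℕ} (hk2 : 2 ≤ k) (hco : ¬ p ∣ k)
    (e : M ≃* DihedralGroup k)
    (hk : (2 * k = Nat.card F + 1 ∧ (Nat.card F = 7 ∨ Nat.card F = 9)) ∨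
      (2 * k = Nat.card F - 1 ∧ (Nat.card F = 7 ∨ Nat.card F = 9 ∨ Nat.card F = 11))) : False := by
  cases nonempty_fintype F
  have h4 : 4 ≤ Nat.card F := by omega
  obtain ⟨h3, -, g, hg, hN⟩ := DicksonMaximal.dihedral_case p h4 hM hk2 hco e
  have := DicksonMaximal.simple p h4
  have hMc : Nat.card M = 2 * k := by rw [Nat.card_congr e.toEquiv, DihedralGroup.nat_card]
  have h2 : (2 : F) ≠ 0 := ((DicksonExistence.char_cases (F := F) p).resolve_left
    (fun h => hp2 h.1)).2
  have hG : 2 * Nat.card (Matrix.ProjectiveSpecialLinearGroup (Fin 2) F) =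
      Nat.card F * (Nat.card F ^ 2 - 1) := by
    rw [← PSLCard.card_PSL2_mul (F := F)]
    rcases arith_facts (F := F) with ⟨-, h, -⟩ | ⟨⟨j, hj⟩, -⟩
    · rw [show Nat.gcd 2 (Nat.card F - 1) = 2 from h]
    · omega
  have hS4 : Nat.card F = 7 ∨ Nat.card F = 9 →
      ∃ ψ : Equiv.Perm (Fin 4) →* Matrix.ProjectiveSpecialLinearGroup (Fin 2) F,
        Function.Injective ψ := by
    intro hq
    obtain ⟨s, hs⟩ : IsSquare (2 : F) := FiniteField.isSquare_two_iff.mpr (by
      rw [← Nat.card_eq_fintype_card]; omega)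
    exact DicksonExceptional.exists_S4 h2 (s := s) (by rw [sq, ← hs])
  have hA5 : Nat.card F = 9 ∨ Nat.card F = 11 →
      ∃ ψ : alternatingGroup (Fin 5) →* Matrix.ProjectiveSpecialLinearGroup (Fin 2) F,
        Function.Injective ψ := by
    intro hq
    obtain ⟨w, hw⟩ : ∃ w : F, w ^ 2 = w + 1 := by
      rcases hq with h | h
      · exact DicksonExistence.exists_golden p (Or.inr rfl) (by rw [h]; norm_num)
      · exact DicksonExistence.exists_golden p (Or.inl rfl) (by rw [h]; norm_num)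
    exact DicksonExceptional.exists_A5 h2 hw
  have hsub : ∀ {G : Type} [Group G] (ψ : G →* Matrix.ProjectiveSpecialLinearGroup (Fin 2) F),
      Function.Injective ψ → Nat.card G < Nat.card (Matrix.ProjectiveSpecialLinearGroup (Fin 2) F) →
      Nat.card ψ.range = Nat.card G ∧ ψ.range ≠ ⊤ := by
    intro G _ ψ hψ hlt
    have h := (Nat.card_congr (MonoidHom.ofInjective hψ).toEquiv).symm
    exact ⟨h, fun e => by rw [e, Subgroup.card_top] at h; omega⟩
  have hcS4 : Nat.card (Equiv.Perm (Fin 4)) = 24 := by rw [Nat.card_perm, Nat.card_fin]; rfl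
  have hcA5 : Nat.card (alternatingGroup (Fin 5)) = 60 := by
    rw [nat_card_alternatingGroup, Nat.card_fin]; rfl
  rcases hk with ⟨hk, hq | hq⟩ | ⟨hk, hq | hq | hq⟩ <;> rw [hq] at hG hk <;> norm_num at hG
  · obtain ⟨ψ, hψ⟩ := hS4 (Or.inl hq)
    obtain ⟨hc, hne⟩ := hsub ψ hψ (by omega)
    have : Fact (Nat.Prime 2) := ⟨Nat.prime_two⟩
    exact DicksonMaximal.sylow_not_coatom (r := 2) (a := 3) hM (by omega) (by omega) (by omega)
      (by omega) hne
  · obtain ⟨ψ, hψ⟩ := hA5 (Or.inl hq)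
    obtain ⟨hc, hne⟩ := hsub ψ hψ (by omega)
    obtain ⟨x, z, hx, hx1, hz, hz1, hxz⟩ : ∃ x z : alternatingGroup (Fin 5),
        x ^ 5 = 1 ∧ x ≠ 1 ∧ z ^ 2 = 1 ∧ z ≠ 1 ∧ z * x * z⁻¹ = x⁻¹ := by decide +kernel
    have : Fact (Nat.Prime 5) := ⟨by norm_num⟩
    exact DicksonMaximal.dihedral_not_coatom (r := 5) hM (by omega) (by norm_num) (by omega)
      (by omega) hN (S := ψ.range) (g' := ψ x) (h' := ψ z) ⟨x, rfl⟩ ⟨z, rfl⟩
      (by rw [orderOf_injective ψ hψ, orderOf_eq_prime hx hx1])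
      (by rw [← map_inv, ← map_mul, ← map_mul, hxz, map_inv])
      (by rw [orderOf_injective ψ hψ, orderOf_eq_prime hz hz1]) (by omega) hne
  · obtain ⟨ψ, hψ⟩ := hS4 (Or.inl hq)
    obtain ⟨hc, hne⟩ := hsub ψ hψ (by omega)
    obtain ⟨x, z, hx, hx1, hz, hz1, hxz⟩ : ∃ x z : Equiv.Perm (Fin 4),
        x ^ 3 = 1 ∧ x ≠ 1 ∧ z ^ 2 = 1 ∧ z ≠ 1 ∧ z * x * z⁻¹ = x⁻¹ := by decide +kernel
    have : Fact (Nat.Prime 3) := ⟨by norm_num⟩
    exact DicksonMaximal.dihedral_not_coatom (r := 3) hM (by omega) (by norm_num) (by omega)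
      (by omega) hN (S := ψ.range) (g' := ψ x) (h' := ψ z) ⟨x, rfl⟩ ⟨z, rfl⟩
      (by rw [orderOf_injective ψ hψ, orderOf_eq_prime hx hx1])
      (by rw [← map_inv, ← map_mul, ← map_mul, hxz, map_inv])
      (by rw [orderOf_injective ψ hψ, orderOf_eq_prime hz hz1]) (by omega) hne
  · obtain ⟨ψ, hψ⟩ := hS4 (Or.inr hq)
    obtain ⟨hc, hne⟩ := hsub ψ hψ (by omega)
    have : Fact (Nat.Prime 2) := ⟨Nat.prime_two⟩
    exact DicksonMaximal.sylow_not_coatom (r := 2) (a := 3) hM (by omega) (by omega) (by omega)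
      (by omega) hne
  · obtain ⟨ψ, hψ⟩ := hA5 (Or.inr hq)
    obtain ⟨hc, hne⟩ := hsub ψ hψ (by omega)
    obtain ⟨x, z, hx, hx1, hz, hz1, hxz⟩ : ∃ x z : alternatingGroup (Fin 5),
        x ^ 5 = 1 ∧ x ≠ 1 ∧ z ^ 2 = 1 ∧ z ≠ 1 ∧ z * x * z⁻¹ = x⁻¹ := by decide +kernel
    have : Fact (Nat.Prime 5) := ⟨by norm_num⟩
    exact DicksonMaximal.dihedral_not_coatom (r := 5) hM (by omega) (by norm_num) (by omega)
      (by omega) hN (S := ψ.range) (g' := ψ x) (h' := ψ z) ⟨x, rfl⟩ ⟨z, rfl⟩
      (by rw [orderOf_injective ψ hψ, orderOf_eq_prime hx hx1])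
      (by rw [← map_inv, ← map_mul, ← map_mul, hxz, map_inv])
      (by rw [orderOf_injective ψ hψ, orderOf_eq_prime hz hz1]) (by omega) hne

end Cfsg.Agent.DicksonLists
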