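import Mathlib
import Cfsg.Agent.Lib.DicksonFourGroups
import Cfsg.Agent.Lib.DicksonExceptionalMax
import Cfsg.Agent.Lib.DicksonSubfieldMax
import Cfsg.Agent.Lib.DicksonMaximal
import Cfsg.Agent.Lib.DicksonLists

/-!
Maximal subgroups of `PGL(2,q)`, `q` odd, not containing `PSL(2,q)`.
-/

set_option autoImplicit false
set_option linter.unusedSectionVars false

open scoped MatrixGroups Classical
open Matrix hiding inv_zero mul_inv_rev
open Cfsg.Agent.DicksonFourGroups

namespace Cfsg.Agent.DicksonPGLMax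

variable {F : Type*} [Field F] [Finite F]

local notation "PSL₂" => Matrix.ProjectiveSpecialLinearGroup (Fin 2) F
local notation "PGL₂" => Matrix.ProjGenLinGroup (Fin 2) F
local notation "ιF" => Matrix.ProjectiveSpecialLinearGroup.toPGL (n := Fin 2) (R := F)
local notation "π" => QuotientGroup.mk' (Subgroup.center SL(2, F))

theorem range_eq (K : Type*) [Field K] :
    (Matrix.ProjGenLinGroup.mk.comp (Matrix.SpecialLinearGroup.toGL (n := Fin 2) (R := K))).range =
      (Matrix.ProjectiveSpecialLinearGroup.toPGL (n := Fin 2) (R := K)).range := by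
  ext g
  constructor
  · rintro ⟨A, rfl⟩
    exact ⟨QuotientGroup.mk A, rfl⟩
  · rintro ⟨x, rfl⟩
    obtain ⟨A, rfl⟩ := QuotientGroup.mk'_surjective _ x
    exact ⟨A, rfl⟩

theorem index_range (hq : Odd (Nat.card F)) : (ιF).range.index = 2 := by
  have h1 := PSLCard.card_PSL2_mul (F := F)
  have hd : Nat.gcd 2 (Nat.card F - 1) = 2 := by
    obtain ⟨j, hj⟩ := hq
    exact Nat.gcd_eq_left ⟨j, by omega⟩
  rw [hd, ← PSLCard.card_PGL2 (F := F),
    Nat.card_congr (MonoidHom.ofInjective ProjectiveSpecialLinearGroup.toPGL_injective).toEquiv,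
    ← Subgroup.index_mul_card (ιF).range] at h1
  exact (Nat.eq_of_mul_eq_mul_right Nat.card_pos h1).symm

theorem ne_top_comap {M : Subgroup PGL₂} (hML : ¬ (ιF).range ≤ M) : M.comap ιF ≠ ⊤ := fun e =>
  hML (by rintro _ ⟨x, rfl⟩; exact (Subgroup.eq_top_iff' _).mp e x)

theorem exists_out (hq : Odd (Nat.card F)) {M : Subgroup PGL₂} (hM : IsCoatom M)
    (hML : ¬ (ιF).range ≤ M) : ∃ g ∈ M, g ∉ (ιF).range := by
  by_contra h
  push Not at h
  rcases hM.le_iff.mp (show M ≤ (ιF).range from h) with e | e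
  · have := index_range (F := F) hq
    rw [e, Subgroup.index_top] at this
    omega
  · exact hML e.le

theorem card_comap (hq : Odd (Nat.card F)) {M : Subgroup PGL₂} (hM : IsCoatom M)
    (hML : ¬ (ιF).range ≤ M) : 2 * Nat.card (M.comap ιF) = Nat.card M := by
  obtain ⟨g, hgM, hg⟩ := exists_out hq hM hML
  have hi := index_range (F := F) hq
  have h2 : ((ιF).range.subgroupOf M).index = 2 := by
    rw [Subgroup.index_eq_two_iff]
    refine ⟨⟨g, hgM⟩, fun b => ?_⟩
    simp only [Subgroup.mem_subgroupOf, Subgroup.coe_mul]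
    rw [Subgroup.mul_mem_iff_of_index_two hi]
    simp only [hg, iff_false, Xor']
    tauto
  let f : M.comap ιF → (ιF).range.subgroupOf M := fun x => ⟨⟨ιF x, x.2⟩, ⟨x, rfl⟩⟩
  have hf : Function.Bijective f := by
    refine ⟨fun a b e => Subtype.ext (ProjectiveSpecialLinearGroup.toPGL_injective
      (congrArg (fun z : (ιF).range.subgroupOf M => ((z : M) : PGL₂)) e)), ?_⟩
    rintro ⟨⟨m, hm⟩, hl⟩
    obtain ⟨x, hx⟩ := hl
    exact ⟨⟨x, show ιF x ∈ M by rw [hx]; exact hm⟩, Subtype.ext (Subtype.ext hx)⟩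
  rw [Nat.card_eq_of_bijective f hf, ← Subgroup.card_mul_index ((ιF).range.subgroupOf M), h2,
    mul_comm]

theorem normalizer_eq (h4 : 4 ≤ Nat.card F) {M : Subgroup PGL₂} (hM : IsCoatom M)
    (hML : ¬ (ιF).range ≤ M) {N : Subgroup PSL₂} (hN : N ≠ ⊥) (hle : N ≤ M.comap ιF)
    (hn : M ≤ Subgroup.normalizer ((N.map ιF : Subgroup PGL₂) : Set PGL₂)) :
    Subgroup.normalizer ((N.map ιF : Subgroup PGL₂) : Set PGL₂) = M := by
  refine (hM.le_iff.mp hn).resolve_left fun e => ?_
  haveI := PSLSimple.isSimpleGroup_PSL_fin' (F := F) (n := 2) le_rfl (fun _ => h4)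
  have hnorm : N.Normal := by
    refine ⟨fun n hn g => ?_⟩
    obtain ⟨n', hn', e'⟩ := (Subgroup.mem_normalizer_iff.mp
      ((Subgroup.eq_top_iff' _).mp e (ιF g)) (ιF n)).mp ⟨n, hn, rfl⟩
    rw [← map_inv, ← map_mul, ← map_mul] at e'
    exact ProjectiveSpecialLinearGroup.toPGL_injective e' ▸ hn'
  rcases hnorm.eq_bot_or_eq_top with h | h
  · exact hN h
  · exact ne_top_comap hML (top_le_iff.mp (h ▸ hle))

theorem mem_normalizer_map {N : Subgroup PSL₂} {x : PGL₂}
    (h : ∀ y ∈ N, ∃ z ∈ N, x * ιF y * x⁻¹ = ιF z) :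
    x ∈ Subgroup.normalizer ((N.map ιF : Subgroup PGL₂) : Set PGL₂) := by
  refine DicksonMaximal.mem_normalizer_of ?_
  rintro _ ⟨y, hy, rfl⟩
  obtain ⟨z, hz, e⟩ := h y hy
  exact ⟨z, hz, e.symm⟩

theorem zpowers_normal {M : Subgroup PGL₂} {g : PSL₂}
    (h : ∀ m ∈ M, ∃ i : ℤ, m * ιF g * m⁻¹ = ιF g ^ i) :
    M ≤ Subgroup.normalizer (((Subgroup.zpowers g).map ιF : Subgroup PGL₂) : Set PGL₂) := by
  intro m hm
  refine mem_normalizer_map ?_
  intro y hy
  obtain ⟨j, rfl⟩ := Subgroup.mem_zpowers_iff.mp hy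
  obtain ⟨i, hi⟩ := h m hm
  exact ⟨g ^ (i * j), Subgroup.zpow_mem_zpowers g _, by
    rw [map_zpow, map_zpow, ← conj_zpow, hi, _root_.zpow_mul]⟩

theorem inverter_mem {M : Subgroup PGL₂} {g h : PSL₂}
    (hN : Subgroup.normalizer (((Subgroup.zpowers g).map ιF : Subgroup PGL₂) : Set PGL₂) = M)
    {i : ℤ} (hh : h * g * h⁻¹ = g ^ i) : h ∈ M.comap ιF := by
  show ιF h ∈ M
  rw [← hN]
  refine mem_normalizer_map ?_
  intro y hy
  obtain ⟨j, rfl⟩ := Subgroup.mem_zpowers_iff.mp hy
  exact ⟨g ^ (i * j), Subgroup.zpow_mem_zpowers g _, by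
    rw [← map_inv, ← map_mul, ← map_mul, ← conj_zpow, hh, _root_.zpow_mul]⟩

theorem dvd_card (hq : Odd (Nat.card F)) (h4 : 4 ≤ Nat.card F) :
    8 ∣ Nat.card PGL₂ ∧ 16 < Nat.card PGL₂ := by
  obtain ⟨hd, hb⟩ := DicksonMaximal.four_dvd_card (F := F) h4
  rw [← Subgroup.index_mul_card (ιF).range, index_range hq,
    ← Nat.card_congr (MonoidHom.ofInjective ProjectiveSpecialLinearGroup.toPGL_injective).toEquiv]
  obtain ⟨c, hc⟩ := hd
  exact ⟨⟨c, by omega⟩, by omega⟩

theorem not_small (hq : Odd (Nat.card F)) (h4 : 4 ≤ Nat.card F) {M : Subgroup PGL₂}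
    (hM : IsCoatom M) (hML : ¬ (ιF).range ≤ M) (hs : Nat.card (M.comap ιF) ≤ 2) : False := by
  haveI : Fact (Nat.Prime 2) := ⟨Nat.prime_two⟩
  have hc := card_comap hq hM hML
  have hpos : 0 < Nat.card (M.comap ιF) := Nat.card_pos
  obtain ⟨n, hn, hn2⟩ : ∃ n, Nat.card M = 2 ^ n ∧ n ≤ 2 := by
    rcases (show Nat.card (M.comap ιF) = 1 ∨ Nat.card (M.comap ιF) = 2 by omega) with e | e
    · exact ⟨1, by omega, by omega⟩
    · exact ⟨2, by omega, le_rfl⟩
  obtain ⟨h8, hbig⟩ := dvd_card (F := F) hq h4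
  obtain ⟨K, hK, hMK⟩ := Sylow.exists_subgroup_card_pow_succ (p := 2) (n := n)
    ((pow_dvd_pow 2 (show n + 1 ≤ 3 by omega)).trans h8) hn
  have h3 : 2 ^ (n + 1) ≤ 2 ^ 3 := Nat.pow_le_pow_right two_pos (by omega)
  rcases hM.le_iff.mp hMK with e | e
  · rw [e, Subgroup.card_top] at hK
    omega
  · rw [e, hn, pow_succ] at hK
    have : 0 < 2 ^ n := by positivity
    omega

/-- The normaliser in `PGL(2,q)` of a four-group of `PSL(2,q)` has order at least 24. -/
theorem card_normalizer_four (hq : Odd (Nat.card F)) {W : Subgroup PSL₂} (hW : IsKleinFour W) :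
    24 ≤ Nat.card (Subgroup.normalizer ((W.map ιF : Subgroup PGL₂) : Set PGL₂)) := by
  classical
  have h2 : (2 : F) ≠ 0 := PSL2SylowTwo.two_ne_zero_of_odd hq
  set N := Subgroup.normalizer ((W.map ιF : Subgroup PGL₂) : Set PGL₂)
  choose φ hφ using exists_pgl_aut (F := F)
  let f : PGL₂ → {V : Subgroup PSL₂ // IsKleinFour V} := fun g =>
    ⟨W.map (φ g).toMonoidHom, map_klein hW _ (φ g).injective⟩
  haveI : Nonempty PGL₂ := ⟨1⟩
  have key : ∀ g g', f g' = f g → g'⁻¹ * g ∈ N := by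
    intro g g' e
    refine mem_normalizer_map fun y hy => ?_
    obtain ⟨z, hz, hz'⟩ : φ g y ∈ (f g').1 := by rw [e]; exact ⟨y, hy, rfl⟩
    refine ⟨z, hz, ?_⟩
    have h1 : g' * ιF z * g'⁻¹ = g * ιF y * g⁻¹ := by
      rw [← hφ g' z, ← hφ g y]
      exact congrArg _ hz'
    calc g'⁻¹ * g * ιF y * (g'⁻¹ * g)⁻¹ = g'⁻¹ * (g * ιF y * g⁻¹) * g' := by group
      _ = g'⁻¹ * (g' * ιF z * g'⁻¹) * g' := by rw [h1]
      _ = ιF z := by group
  let F' : PGL₂ → {V : Subgroup PSL₂ // IsKleinFour V} × N := fun g =>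
    (f g, ⟨(Function.invFun f (f g))⁻¹ * g, key g _ (Function.invFun_eq ⟨g, rfl⟩)⟩)
  have hF : Function.Injective F' := by
    intro a b e
    have e1 : f a = f b := congrArg Prod.fst e
    have e2 : (Function.invFun f (f a))⁻¹ * a = (Function.invFun f (f b))⁻¹ * b :=
      congrArg (fun z => ((z.2 : N) : PGL₂)) e
    rw [e1] at e2
    exact mul_left_cancel e2
  have hle := Nat.card_le_card_of_injective F' hF
  rw [Nat.card_prod, ← Subgroup.index_mul_card (ιF).range, index_range hq,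
    ← Nat.card_congr (MonoidHom.ofInjective ProjectiveSpecialLinearGroup.toPGL_injective).toEquiv,
    ← card_kleinFour h2] at hle
  have hpos : 0 < Nat.card {V : Subgroup PSL₂ // IsKleinFour V} := by
    haveI : Nonempty {V : Subgroup PSL₂ // IsKleinFour V} := ⟨⟨W, hW⟩⟩
    exact Nat.card_pos
  by_contra h
  have := Nat.mul_le_mul_left (Nat.card {V : Subgroup PSL₂ // IsKleinFour V})
    (show Nat.card N ≤ 23 by omega)
  omega

variable (p : ℕ) [hp : Fact p.Prime] [CharP F p]

include p hp in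
theorem not_cyclic (hq : Odd (Nat.card F)) (h4 : 4 ≤ Nat.card F) {M : Subgroup PGL₂}
    (hM : IsCoatom M) (hML : ¬ (ιF).range ≤ M) (hc : IsCyclic M) (hco : ¬ p ∣ Nat.card M) :
    False := by
  rcases Nat.lt_or_ge (Nat.card (M.comap ιF)) 3 with h3 | h3
  · exact not_small hq h4 hM hML (by omega)
  letI := hc.commGroup
  let j : M.comap ιF →* M := ((ιF).comp (M.comap ιF).subtype).codRestrict M (fun x => x.2)
  have hj : Function.Injective j := fun a b e =>
    Subtype.ext (ProjectiveSpecialLinearGroup.toPGL_injective (congrArg Subtype.val e))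
  haveI : IsCyclic (M.comap ιF) := isCyclic_of_injective j hj
  obtain ⟨g, hg⟩ := IsCyclic.exists_ofOrder_eq_natCard (α := M.comap ιF)
  rw [← Subgroup.orderOf_coe] at hg
  have hzle : Subgroup.zpowers (g : PSL₂) ≤ M.comap ιF := Subgroup.zpowers_le.mpr g.2
  have hcM : ∀ m ∈ M, m * ιF g * m⁻¹ = ιF g := fun m hm => by
    have := congrArg Subtype.val (mul_comm (⟨m, hm⟩ : M) ⟨ιF g, g.2⟩)
    rw [mul_inv_eq_iff_eq_mul]
    exact this
  have hN := normalizer_eq h4 hM hML (N := Subgroup.zpowers (g : PSL₂))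
    (fun e => by
      have := congrArg (fun H : Subgroup PSL₂ => Nat.card H) e
      simp only [Nat.card_zpowers, Subgroup.card_bot] at this
      omega) hzle (zpowers_normal fun m hm => ⟨1, by rw [zpow_one, hcM m hm]⟩)
  obtain ⟨⟨h, hh⟩, -⟩ := DicksonMaximal.exists_torus_elt p (g := (g : PSL₂)) (by omega)
    (by rw [hg]; exact fun hd => hco (hd.trans ⟨2, by rw [← card_comap hq hM hML, mul_comm]⟩))
  have hhM : ιF h ∈ M := inverter_mem hN (i := -1) (by rw [hh, _root_.zpow_neg_one])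
  have h1 := hcM _ hhM
  rw [← map_inv, ← map_mul, ← map_mul] at h1
  have h2 := ProjectiveSpecialLinearGroup.toPGL_injective h1
  rw [hh] at h2
  have : (g : PSL₂) ^ 2 = 1 := by rw [sq]; nth_rw 1 [← h2]; exact inv_mul_cancel _
  have := Nat.le_of_dvd two_pos (orderOf_dvd_of_pow_eq_one this)
  omega

theorem commute_rot_two {k : ℕ} (hk : ¬ k ∣ 4) {x : DihedralGroup k}
    (h : x * DihedralGroup.r 2 = DihedralGroup.r 2 * x) : ∃ i, x = DihedralGroup.r i := by
  cases x with
  | r i => exact ⟨i, rfl⟩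
  | sr i =>
    exfalso
    rw [DihedralGroup.sr_mul_r, DihedralGroup.r_mul_sr, DihedralGroup.sr.injEq] at h
    exact hk ((ZMod.natCast_eq_zero_iff 4 k).mp (by push_cast; linear_combination h))

include p hp in
theorem dihedral_case (hq : Odd (Nat.card F)) (h4 : 4 ≤ Nat.card F) {M : Subgroup PGL₂}
    (hM : IsCoatom M) (hML : ¬ (ιF).range ≤ M) {k : ℕ} (h2 : 2 ≤ k) (hco : ¬ p ∣ k)
    (e : M ≃* DihedralGroup k) :
    6 ≤ k ∧ (k = Nat.card F + 1 ∨ k = Nat.card F - 1) ∧
      ∃ g h : PSL₂, g ∈ M.comap ιF ∧ h ∈ M.comap ιF ∧ 2 * orderOf g = k ∧ 3 ≤ orderOf g ∧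
        h * g * h⁻¹ = g⁻¹ := by
  have : NeZero k := ⟨by omega⟩
  have hMc : Nat.card M = 2 * k := by rw [Nat.card_congr e.toEquiv, DihedralGroup.nat_card]
  have hMc' := card_comap hq hM hML
  have h3 : 3 ≤ k := by
    by_contra h
    exact not_small hq h4 hM hML (by omega)
  have hi := index_range (F := F) hq
  set g : PGL₂ := Subtype.val (e.symm (DihedralGroup.r 1)) with hgdef
  have hg : orderOf g = k := by
    rw [hgdef, Subgroup.orderOf_coe, MulEquiv.orderOf_eq, DihedralGroup.orderOf_r_one]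
  have hgM : g ∈ M := (e.symm _).2
  have hmg : ∀ m ∈ M, ∃ i : ℤ, m * g * m⁻¹ = g ^ i := by
    intro m hm
    obtain ⟨j, hj⟩ : ∃ j : ℤ, e ⟨m, hm⟩ * DihedralGroup.r 1 * (e ⟨m, hm⟩)⁻¹ =
        (DihedralGroup.r 1 : DihedralGroup k) ^ j := by
      cases e ⟨m, hm⟩ with
      | r u => exact ⟨1, by simp⟩
      | sr u => exact ⟨-1, by simp⟩
    refine ⟨j, ?_⟩
    have := congrArg (fun t => Subtype.val (e.symm t)) hj
    simp only [map_mul, map_inv, MulEquiv.symm_apply_apply, map_zpow, Subgroup.coe_mul,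
      Subgroup.coe_inv, SubgroupClass.coe_zpow] at this
    exact this
  -- a power of `g` in `PSL` normal in `M`
  have hnorm : ∀ (g' : PSL₂) (n : ℕ), ιF g' = g ^ n → 2 ≤ orderOf g' → ¬ p ∣ orderOf g' →
      g' ∈ M.comap ιF ∧ Subgroup.normalizer
        (((Subgroup.zpowers g').map ιF : Subgroup PGL₂) : Set PGL₂) = M := by
    intro g' n hn h2' _
    have hmem : g' ∈ M.comap ιF := show ιF g' ∈ M by rw [hn]; exact pow_mem hgM n
    refine ⟨hmem, normalizer_eq h4 hM hML ?_ (Subgroup.zpowers_le.mpr hmem)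
      (zpowers_normal fun m hm => ?_)⟩
    · intro h
      have := congrArg (fun H : Subgroup PSL₂ => Nat.card H) h
      simp only [Nat.card_zpowers, Subgroup.card_bot] at this
      omega
    · obtain ⟨i, hi⟩ := hmg m hm
      refine ⟨i, ?_⟩
      rw [hn, ← conj_pow, hi, ← _root_.zpow_natCast, ← _root_.zpow_natCast (G := PGL₂),
        ← _root_.zpow_mul, ← _root_.zpow_mul, mul_comm]
  have hgL : g ∉ (ιF).range := by
    rintro ⟨g', hg'⟩
    have hog : orderOf g' = k := by
      rw [← orderOf_injective ιF ProjectiveSpecialLinearGroup.toPGL_injective, hg', hg]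
    obtain ⟨hmem, hN⟩ := hnorm g' 1 (by rw [pow_one, hg']) (by omega) (hog ▸ hco)
    obtain ⟨⟨h, hh⟩, -⟩ := DicksonMaximal.exists_torus_elt p (g := g') (hog ▸ h3) (hog ▸ hco)
    have hhM := inverter_mem hN (i := -1) (by rw [hh, _root_.zpow_neg_one])
    have hz : Subgroup.zpowers g' = M.comap ιF :=
      Subgroup.eq_of_le_of_card_ge (Subgroup.zpowers_le.mpr hmem) (by rw [Nat.card_zpowers, hog]; omega)
    rw [← hz] at hhM
    obtain ⟨i, rfl⟩ := Subgroup.mem_zpowers_iff.mp hhM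
    rw [((Commute.refl g').zpow_left i).eq, mul_inv_cancel_right] at hh
    have : g' ^ 2 = 1 := by rw [sq]; nth_rw 2 [hh]; exact mul_inv_cancel g'
    have := Nat.le_of_dvd two_pos (orderOf_dvd_of_pow_eq_one this)
    omega
  obtain ⟨j, rfl⟩ : ∃ j, k = 2 * j := by
    rcases Nat.even_or_odd' k with ⟨j, rfl | rfl⟩
    · exact ⟨j, rfl⟩
    · exfalso
      refine hgL ?_
      have : (g ^ 2) ^ (j + 1) = g := by
        rw [← pow_mul, show 2 * (j + 1) = 2 * j + 1 + 1 by ring, pow_succ, ← hg, pow_orderOf_eq_one,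
          one_mul]
      rw [← this]
      exact pow_mem (Subgroup.sq_mem_of_index_two hi g) _
  obtain ⟨g', hg'⟩ : g ^ 2 ∈ (ιF).range := Subgroup.sq_mem_of_index_two hi g
  have hog : orderOf g' = j := by
    rw [← orderOf_injective ιF ProjectiveSpecialLinearGroup.toPGL_injective, hg',
      orderOf_pow' g two_ne_zero, hg, Nat.gcd_mul_right_left, Nat.mul_div_cancel_left _ two_pos]
  have hcoj : ¬ p ∣ j := fun h => hco (h.mul_left 2)
  have hpar : ∀ i : ℕ, g ^ i ∈ (ιF).range → Even i := by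
    intro i hil
    by_contra ho
    obtain ⟨l, rfl⟩ := Nat.not_even_iff_odd.mp ho
    refine hgL ?_
    rw [pow_succ, pow_mul] at hil
    exact ((ιF).range.mul_mem_cancel_left (pow_mem (Subgroup.sq_mem_of_index_two hi g) l)).mp hil
  have hrot : ∀ (x : PSL₂) (hx : x ∈ M.comap ιF) (i : ZMod (2 * j)),
      e ⟨ιF x, hx⟩ = DihedralGroup.r i → ∃ l : ℕ, ιF x = (g ^ 2) ^ l := by
    intro x hx i hi'
    have h1 : ιF x = g ^ i.val := by
      have := congrArg (fun t => Subtype.val (e.symm t)) hi'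
      simp only [MulEquiv.symm_apply_apply] at this
      rw [this, show DihedralGroup.r i = (DihedralGroup.r 1 : DihedralGroup (2 * j)) ^ i.val by
        rw [DihedralGroup.r_one_pow, ZMod.natCast_zmod_val], map_pow]
      rfl
    obtain ⟨l, hl⟩ := hpar i.val (h1 ▸ ⟨x, rfl⟩)
    exact ⟨l, by rw [h1, hl, ← pow_mul, two_mul]⟩
  rcases Nat.lt_or_ge j 3 with hj | hj
  · exfalso
    obtain rfl : j = 2 := by omega
    have hW : IsKleinFour (M.comap ιF) := by
      have hc4 : Nat.card (M.comap ιF) = 4 := by omega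
      haveI : Nontrivial (M.comap ιF) := Finite.one_lt_card_iff_nontrivial.mp (by omega)
      refine ⟨hc4, (Monoid.exponent_eq_prime_iff Nat.prime_two).mpr fun x hx => ?_⟩
      refine orderOf_eq_prime (Subtype.ext (ProjectiveSpecialLinearGroup.toPGL_injective ?_)) hx
      rw [Subgroup.coe_pow, map_pow, Subgroup.coe_one, map_one]
      cases hx' : e ⟨ιF x, x.2⟩ with
      | r i =>
        obtain ⟨l, hl⟩ := hrot x x.2 i hx'
        rw [hl, ← pow_mul, ← pow_mul, show 2 * (l * 2) = 2 * 2 * l by ring, pow_mul, ← hg,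
          pow_orderOf_eq_one, one_pow]
      | sr i =>
        have h := congrArg Subtype.val (e.injective (show e (⟨ιF x, x.2⟩ ^ 2) = e 1 by
          rw [map_pow, map_one, hx', sq, DihedralGroup.sr_mul_self]))
        simpa using h
    have hMle : M ≤ Subgroup.normalizer (((M.comap ιF).map ιF : Subgroup PGL₂) : Set PGL₂) := by
      intro m hm
      refine mem_normalizer_map fun y hy => ?_
      obtain ⟨z, hz⟩ : m * ιF y * m⁻¹ ∈ (ιF).range :=
        (Subgroup.normal_of_index_eq_two hi).conj_mem _ ⟨y, rfl⟩ m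
      exact ⟨z, show ιF z ∈ M by rw [hz]; exact mul_mem (mul_mem hm hy) (inv_mem hm), hz.symm⟩
    have hN := normalizer_eq h4 hM hML (fun h => by
      have := hW.card_four; rw [h, Subgroup.card_bot] at this; omega) le_rfl hMle
    have := card_normalizer_four hq hW
    rw [hN, hMc] at this
    omega
  obtain ⟨hgmem, hN⟩ := hnorm g' 2 hg' (by omega) (hog ▸ hcoj)
  obtain ⟨⟨h, hh⟩, K, x, hK, hdvd, hx, hcomm⟩ :=
    DicksonMaximal.exists_torus_elt p (g := g') (hog ▸ hj) (hog ▸ hcoj)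
  have hhM := inverter_mem hN (i := -1) (by rw [hh, _root_.zpow_neg_one])
  have hxM : x ∈ M.comap ιF := inverter_mem hN (i := 1) (by rw [zpow_one, hcomm.eq, mul_inv_cancel_right])
  have hr2 : e ⟨ιF g', hgmem⟩ = DihedralGroup.r 2 := by
    have : (⟨ιF g', hgmem⟩ : M) = e.symm (DihedralGroup.r 1) ^ 2 := Subtype.ext hg'
    rw [this, map_pow, MulEquiv.apply_symm_apply, DihedralGroup.r_one_pow]
    norm_num
  obtain ⟨i, hi'⟩ := commute_rot_two (k := 2 * j)
    (fun h => by have := Nat.le_of_dvd (by omega) h; omega) (x := e ⟨ιF x, hxM⟩) (by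
      rw [← hr2, ← map_mul, ← map_mul]
      exact congrArg e (Subtype.ext (by
        show ιF x * ιF g' = ιF g' * ιF x
        rw [← map_mul, ← map_mul, hcomm.eq])))
  obtain ⟨l, hl⟩ := hrot x hxM i hi'
  rw [← hg', ← map_pow] at hl
  have hKj : K = j := by
    refine Nat.dvd_antisymm ?_ (hog ▸ hdvd)
    rw [← hx, ← hog, ProjectiveSpecialLinearGroup.toPGL_injective hl]
    exact orderOf_dvd_of_mem_zpowers ⟨l, zpow_natCast _ _⟩
  refine ⟨by omega, ?_, g', h, hgmem, hhM, by omega, by omega, hh⟩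
  rcases DicksonDihedralMax.arith_facts (F := F) with ⟨-, -, e1, e2⟩ | ⟨he, -⟩
  · rcases hK with hK | hK <;> omega
  · exact absurd he (Nat.not_even_iff_odd.mpr hq)

theorem fix_point {M : Subgroup PGL₂} (hM : IsCoatom M) {x : OnePoint F}
    (h : M ≤ MulAction.stabilizer PGL₂ x) : M = MulAction.stabilizer PGL₂ x := by
  rcases hM.le_iff.mp h with e | e
  · exfalso
    obtain ⟨g, hg⟩ := DicksonLine.exists_smul_eq_infty x
    have h1 := (Subgroup.eq_top_iff' _).mp e
    have hx : x = OnePoint.infty := by rw [← hg, MulAction.mem_stabilizer_iff.mp (h1 g)]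
    obtain ⟨g', hg'⟩ := DicksonLine.exists_smul_eq_infty ((0 : F) : OnePoint F)
    have := MulAction.mem_stabilizer_iff.mp (h1 g'⁻¹)
    rw [hx, inv_smul_eq_iff, ← hx] at this
    rw [hx] at this
    exact OnePoint.coe_ne_infty _ (smul_left_cancel g' (hg'.trans this))
  · exact e.symm

theorem card_stab (x : OnePoint F) :
    Nat.card (MulAction.stabilizer PGL₂ x) = Nat.card F * (Nat.card F - 1) := by
  haveI : Finite (OnePoint F) := inferInstanceAs (Finite (Option F))
  have huniv : MulAction.orbit PGL₂ x = Set.univ := Set.eq_univ_of_forall fun y => by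
    obtain ⟨a, ha⟩ := DicksonLine.exists_smul_eq_infty x
    obtain ⟨b, hb⟩ := DicksonLine.exists_smul_eq_infty y
    exact ⟨b⁻¹ * a, show (b⁻¹ * a) • x = y by rw [mul_smul, ha, inv_smul_eq_iff, hb]⟩
  have h := Nat.card_congr (MulAction.orbitProdStabilizerEquivGroup PGL₂ x)
  rw [Nat.card_prod, huniv, Nat.card_congr (Equiv.Set.univ _),
    show Nat.card (OnePoint F) = Nat.card F + 1 from Finite.card_option (α := F),
    PSLCard.card_PGL2] at h
  have h1 := PSLCard.one_lt_card F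
  refine Nat.eq_of_mul_eq_mul_left (Nat.succ_pos (Nat.card F)) ?_
  rw [h, show Nat.card F ^ 2 - 1 = (Nat.card F + 1) * (Nat.card F - 1) by rw [← Nat.sq_sub_sq, one_pow]]
  rw [Nat.succ_eq_add_one]
  ring

theorem toGL_apply (g : SL(2, F)) (i j : Fin 2) :
    (Matrix.SpecialLinearGroup.toGL g : GL (Fin 2) F) i j = g.1 i j := rfl

/-- A point stabiliser of `PSL(2,q)` is maximal. -/
theorem stab_coatom (x : OnePoint F) :
    IsCoatom ((MulAction.stabilizer PGL₂ x).comap ιF) := by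
  obtain ⟨a, ha⟩ := DicksonPSL.exists_toPGL_smul_eq_infty x
  have trans : ∀ y z : OnePoint F, y ≠ x → z ≠ x →
      ∃ s : PSL₂, ιF s • x = x ∧ ιF s • y = z := by
    intro y z hy hz
    have ne : ∀ w : OnePoint F, w ≠ x → ∃ b : F, ιF a • w = (b : OnePoint F) := by
      intro w hw
      cases hc : ιF a • w with
      | infty => exact absurd (smul_left_cancel _ (hc.trans ha.symm)) hw
      | coe b => exact ⟨b, rfl⟩
    obtain ⟨y₀, hy₀⟩ := ne y hy
    obtain ⟨z₀, hz₀⟩ := ne z hz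
    set u : PSL₂ := DicksonPSL.proj (PSL2Elements.u (z₀ - y₀)) with hu
    have u1 : ιF u • (OnePoint.infty : OnePoint F) = OnePoint.infty := by
      rw [hu]
      refine (DicksonPSL.toPGL_proj_smul _ _).trans ?_
      rw [OnePoint.smul_infty_eq_self_iff]
      show (PSL2Elements.u (z₀ - y₀)).1 1 0 = 0
      simp [PSL2Elements.u, PSL2Elements.mk2]
    have u2 : ιF u • (y₀ : OnePoint F) = (z₀ : OnePoint F) := by
      rw [hu]
      refine (DicksonPSL.toPGL_proj_smul _ _).trans ?_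
      rw [OnePoint.smul_some_eq_ite]
      simp only [toGL_apply]
      simp [PSL2Elements.u, PSL2Elements.mk2]
    refine ⟨a⁻¹ * u * a, ?_, ?_⟩ <;>
      rw [map_mul, map_mul, map_inv, mul_smul, mul_smul, inv_smul_eq_iff]
    · rw [ha, u1]
    · rw [hy₀, u2, hz₀]
  refine ⟨fun e => ?_, fun H hlt => ?_⟩
  · obtain ⟨g, hg⟩ : ∃ g : PSL₂, ιF g • x ≠ x := by
      obtain ⟨w, hw⟩ : ∃ w : OnePoint F, w ≠ x := by
        cases x with
        | infty => exact ⟨((0 : F) : OnePoint F), OnePoint.coe_ne_infty _⟩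
        | coe b => exact ⟨OnePoint.infty, OnePoint.infty_ne_coe _⟩
      obtain ⟨b, hb⟩ := DicksonPSL.exists_toPGL_smul_eq_infty w
      refine ⟨b⁻¹ * a, ?_⟩
      rw [map_mul, map_inv, mul_smul, ha]
      intro h
      rw [inv_smul_eq_iff] at h
      exact hw (smul_left_cancel _ (hb.trans h))
    exact hg ((Subgroup.eq_top_iff' _).mp e g)
  · obtain ⟨h, hhH, hh⟩ := SetLike.exists_of_lt hlt
    rw [eq_top_iff]
    intro g _
    by_cases hg : ιF g • x = x
    · exact hlt.le hg
    obtain ⟨s, hs, hs'⟩ := trans (ιF h • x) (ιF g • x) hh hg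
    have hmem : (s * h)⁻¹ * g ∈ H := hlt.le (show ιF ((s * h)⁻¹ * g) • x = x by
      rw [map_mul, map_inv, mul_smul, inv_smul_eq_iff, map_mul, mul_smul, hs'])
    have := mul_mem (mul_mem (hlt.le (show ιF s • x = x from hs)) hhH) hmem
    rwa [mul_inv_cancel_left] at this

theorem klein_elements : ∀ x : Equiv.Perm (Fin 4),
    x ∈ [Equiv.swap (0 : Fin 4) 1 * Equiv.swap 2 3, Equiv.swap (0 : Fin 4) 2 * Equiv.swap 1 3] →
      ∃ y, x = y * y := by
  decide +kernel

include p hp in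
theorem s4_case (hq : Odd (Nat.card F)) (h4 : 4 ≤ Nat.card F) {M : Subgroup PGL₂}
    (hM : IsCoatom M) (hML : ¬ (ιF).range ≤ M) (hco : ¬ p ∣ Nat.card M)
    (e : M ≃* Equiv.Perm (Fin 4)) :
    (Nat.card F).Prime ∧ (Nat.card F % 8 = 3 ∨ Nat.card F % 8 = 5) := by
  classical
  have h2 : (2 : F) ≠ 0 := PSL2SylowTwo.two_ne_zero_of_odd hq
  have hi := index_range (F := F) hq
  have hM24 : Nat.card M = 24 := by rw [Nat.card_congr e.toEquiv, Nat.card_perm, Nat.card_fin]; rfl
  have hMc := card_comap hq hM hML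
  have lift : ∀ x : Equiv.Perm (Fin 4), (∃ y, x = y * y) → ∃ u : PSL₂, ιF u = (e.symm x).1 := by
    rintro x ⟨y, rfl⟩
    rw [map_mul]
    exact Subgroup.mul_self_mem_of_index_two hi ((e.symm y).1)
  set s1 : Equiv.Perm (Fin 4) := Equiv.swap 0 1 * Equiv.swap 2 3
  set s2 : Equiv.Perm (Fin 4) := Equiv.swap 0 2 * Equiv.swap 1 3
  obtain ⟨u, hu⟩ := lift s1 (klein_elements _ (by simp [s1]))
  obtain ⟨v, hv⟩ := lift s2 (klein_elements _ (by simp [s2]))
  have inj := ProjectiveSpecialLinearGroup.toPGL_injective (n := Fin 2) (R := F)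
  have e1 : s1 * s1 = 1 := by decide
  have e2 : s2 * s2 = 1 := by decide
  have e3 : s1 * s2 = s2 * s1 := by decide
  have hprod : ∀ a b a' b' : Equiv.Perm (Fin 4), a * b = a' * b' →
      (e.symm a).1 * (e.symm b).1 = (e.symm a').1 * (e.symm b').1 := fun a b a' b' h => by
    rw [← Subgroup.coe_mul, ← Subgroup.coe_mul, ← map_mul, ← map_mul, h]
  have k1 : u * u = 1 := inj (by rw [map_mul, map_one, hu, hprod s1 s1 1 1 (by rw [e1, one_mul])]; simp)
  have k2 : v * v = 1 := inj (by rw [map_mul, map_one, hv, hprod s2 s2 1 1 (by rw [e2, one_mul])]; simp)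
  have k3 : u * v = v * u := inj (by rw [map_mul, map_mul, hu, hv, hprod _ _ _ _ e3])
  have hu1 : u ≠ 1 := fun h => by
    rw [h, map_one] at hu
    exact absurd (e.symm.injective ((Subtype.ext hu.symm : e.symm s1 = 1).trans (map_one e.symm).symm))
      (by decide : s1 ≠ 1)
  have hv1 : v ≠ 1 := fun h => by
    rw [h, map_one] at hv
    exact absurd (e.symm.injective ((Subtype.ext hv.symm : e.symm s2 = 1).trans (map_one e.symm).symm))
      (by decide : s2 ≠ 1)
  have huv : u ≠ v := fun h => by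
    rw [h, hv] at hu
    exact absurd (e.symm.injective (Subtype.ext hu)) (by decide : s2 ≠ s1)
  set W := four u v k1 k2 k3 with hWdef
  have hW : IsKleinFour W := isKleinFour_four hu1 hv1 huv
  have hWM : W ≤ M.comap ιF := four_le (show ιF u ∈ M by rw [hu]; exact (e.symm s1).2)
    (show ιF v ∈ M by rw [hv]; exact (e.symm s2).2)
  have hMle : M ≤ Subgroup.normalizer ((W.map ιF : Subgroup PGL₂) : Set PGL₂) := by
    intro m hm
    refine DicksonMaximal.mem_normalizer_of ?_
    have hm' : (e.symm (e ⟨m, hm⟩)).1 = m := by rw [MulEquiv.symm_apply_apply]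
    have hmem : ∀ s, e ⟨m, hm⟩ * s * (e ⟨m, hm⟩)⁻¹ ∈ [s1, s2, s1 * s2] →
        m * (e.symm s).1 * m⁻¹ ∈ W.map ιF := by
      intro s h
      rw [← hm', ← Subgroup.coe_inv, ← map_inv, ← Subgroup.coe_mul, ← Subgroup.coe_mul, ← map_mul,
        ← map_mul]
      simp only [List.mem_cons, List.not_mem_nil, or_false] at h
      rcases h with h | h | h <;> rw [h]
      · exact ⟨u, left_mem_four, hu⟩
      · exact ⟨v, right_mem_four, hv⟩
      · exact ⟨u * v, mul_mem left_mem_four right_mem_four, by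
          rw [map_mul, hu, hv, ← Subgroup.coe_mul, ← map_mul]⟩
    rintro _ ⟨y, hy, rfl⟩
    rcases mem_four.mp hy with rfl | rfl | rfl | rfl
    · rw [map_one, mul_one, mul_inv_cancel]; exact one_mem _
    · rw [hu]; exact hmem _ (s4_normal _ _ (by simp [s1]))
    · rw [hv]; exact hmem _ (s4_normal _ _ (by simp [s2]))
    · rw [map_mul, hu, hv,
        show m * ((e.symm s1).1 * (e.symm s2).1) * m⁻¹ =
          (m * (e.symm s1).1 * m⁻¹) * (m * (e.symm s2).1 * m⁻¹) by group]
      exact mul_mem (hmem _ (s4_normal _ _ (by simp [s1]))) (hmem _ (s4_normal _ _ (by simp [s2])))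
  have hN := normalizer_eq h4 hM hML (fun h => by
    have := hW.card_four; rw [h, Subgroup.card_bot] at this; omega) hWM hMle
  have h8 : Nat.card F % 8 = 3 ∨ Nat.card F % 8 = 5 := by
    by_contra h8
    cases nonempty_fintype F
    obtain ⟨s, hs⟩ := (FiniteField.isSquare_two_iff (F := F)).mpr
      (by rw [← Nat.card_eq_fintype_card]; omega)
    have hbig := card_normalizer_ge h2 (s := s) (by rw [sq]; exact hs.symm) hW
    have hle : Subgroup.normalizer (W : Set PSL₂) ≤ M.comap ιF := by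
      intro x hx
      show ιF x ∈ M
      rw [← hN]
      exact mem_normalizer_map fun y hy =>
        ⟨x * y * x⁻¹, (Subgroup.mem_normalizer_iff.mp hx y).mp hy, by rw [map_mul, map_mul, map_inv]⟩
    have := Nat.card_le_card_of_injective _ (Subgroup.inclusion_injective hle)
    omega
  refine ⟨?_, h8⟩
  have hp5 : 5 ≤ p := DicksonLists.five_le_of_not_dvd p
    (fun h => hco (h.trans (by rw [hM24]; norm_num))) (fun h => hco (h.trans (by rw [hM24]; norm_num)))
  obtain ⟨n, hn0, hn⟩ := PSL2Sylow.card_field_eq (F := F) p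
  by_contra hP
  have hn2 : 2 ≤ n := by
    by_contra h
    obtain rfl : n = 1 := by omega
    exact hP (by rw [hn, pow_one]; exact hp.out)
  set R := DicksonRational.fixSub F p 1
  have hR : Nat.card R = p := by rw [DicksonRational.card_fixSub p hn one_pos (one_dvd n), pow_one]
  have hR2 : (2 : R) ≠ 0 := fun h => h2 (by have := congrArg R.subtype h; rwa [map_ofNat, map_zero] at this)
  have hRodd : Odd (Nat.card R) := hR ▸ hp.out.odd_of_ne_two (by omega)
  obtain ⟨α, β, hab⟩ := DicksonExceptional.exists_neg_one_sum R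
  obtain ⟨U, hU⟩ := PSL2Proj52.π_surjective u
  obtain ⟨V, hV⟩ := PSL2Proj52.π_surjective v
  have hA : Anti U V := by
    refine anti_of_comm h2 ?_ ?_ ?_ ?_ ?_ ?_ <;> simp only [hU, hV] <;> assumption
  have sU := congrArg Subtype.val ((PSL2Elements.sq_eq_neg_one_iff U h2).mpr hA.1)
  have sV := congrArg Subtype.val ((PSL2Elements.sq_eq_neg_one_iff V h2).mpr (hA.tr_right h2))
  rw [PSL2Elements.coe_pow', sq] at sU sV
  have hUV : U.1 * V.1 = -(V.1 * U.1) := by
    have := congrArg Subtype.val hA.2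
    rw [PSL2Elements.coe_mul', PSL2Elements.coe_neg', PSL2Elements.coe_mul'] at this
    rw [this, neg_neg]
  obtain ⟨P, hPU, hPV⟩ := DicksonRational.exists_conj_standard h2 sU sV hUV
    (α := (α : F)) (β := (β : F)) (by simpa using congrArg R.subtype hab)
  let IR : SL(2, R) := ⟨DicksonRational.Imat R, by simp [DicksonRational.Imat]⟩
  let VR : SL(2, R) := ⟨!![α, β; β, -α], by simp [Matrix.det_fin_two_of]; linear_combination -hab⟩
  have tI : PSL2Elements.tr IR = 0 := by simp [IR, DicksonRational.Imat, PSL2Elements.tr]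
  have hAR : Anti IR VR := ⟨tI, Subtype.ext (by
    show !![α, β; β, -α] * DicksonRational.Imat R = -(DicksonRational.Imat R * !![α, β; β, -α])
    ext i j
    fin_cases i <;> fin_cases j <;> simp [DicksonRational.Imat])⟩
  let WR := four (PSL2Proj52.π IR) (PSL2Proj52.π VR) (sq_of_tr_zero hR2 tI)
    (sq_of_tr_zero hR2 (hAR.tr_right hR2)) hAR.comm
  have hWR : IsKleinFour WR := isKleinFour_four (ne_one_of_tr_zero hR2 tI)
    (ne_one_of_tr_zero hR2 (hAR.tr_right hR2)) (hAR.ne hR2)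
  let ι : Matrix.ProjGenLinGroup (Fin 2) R →* PGL₂ :=
    (MulAut.conj (Matrix.ProjGenLinGroup.mk P)⁻¹).toMonoidHom.comp
      (Matrix.ProjGenLinGroup.map R.subtype)
  have hι : Function.Injective ι :=
    (MulAut.conj _).injective.comp (DicksonSubfield.pglMap_injective _)
  have img : ∀ (A : SL(2, R)) (B : SL(2, F)),
      P.1 * B.1 = (A.1.map R.subtype) * P.1 →
      ι (ProjectiveSpecialLinearGroup.toPGL (PSL2Proj52.π A)) = ιF (PSL2Proj52.π B) := by
    intro A B h
    show (Matrix.ProjGenLinGroup.mk P)⁻¹ *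
      Matrix.ProjGenLinGroup.mk (Matrix.GeneralLinearGroup.map R.subtype (SpecialLinearGroup.toGL A)) *
      (Matrix.ProjGenLinGroup.mk P)⁻¹⁻¹ = Matrix.ProjGenLinGroup.mk (SpecialLinearGroup.toGL B)
    rw [inv_inv, ← map_inv, ← map_mul, ← map_mul]
    refine congrArg _ ?_
    rw [mul_assoc, inv_mul_eq_iff_eq_mul]
    exact Units.ext h.symm
  have iu : ι (ProjectiveSpecialLinearGroup.toPGL (PSL2Proj52.π IR)) = ιF u := by
    rw [← hU]
    refine img _ _ (hPU.trans ?_)
    congr 1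
    ext i j
    fin_cases i <;> fin_cases j <;> simp [IR, DicksonRational.Imat]
  have iv : ι (ProjectiveSpecialLinearGroup.toPGL (PSL2Proj52.π VR)) = ιF v := by
    rw [← hV]
    refine img _ _ (hPV.trans ?_)
    congr 1
    ext i j
    fin_cases i <;> fin_cases j <;> simp [VR]
  have hmap : (WR.map (ProjectiveSpecialLinearGroup.toPGL (n := Fin 2) (R := R))).map ι =
      W.map ιF := by
    have hinjR := ProjectiveSpecialLinearGroup.toPGL_injective (n := Fin 2) (R := R)
    have hK := map_klein (map_klein hWR _ hinjR) ι hι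
    have hK' := map_klein hW ιF inj
    exact (eq_four (ha := by rw [← map_mul, k1, map_one]) (hb := by rw [← map_mul, k2, map_one])
        (hc := by rw [← map_mul, ← map_mul, k3]) hK
        ⟨_, ⟨_, left_mem_four, rfl⟩, iu⟩ ⟨_, ⟨_, right_mem_four, rfl⟩, iv⟩
        ((map_ne_one_iff ιF inj).mpr hu1) ((map_ne_one_iff ιF inj).mpr hv1) (inj.ne huv)).symm.trans
      (eq_four hK' ⟨u, left_mem_four, rfl⟩ ⟨v, right_mem_four, rfl⟩
        ((map_ne_one_iff ιF inj).mpr hu1) ((map_ne_one_iff ιF inj).mpr hv1) (inj.ne huv))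
  have h24 := card_normalizer_four (F := R) hRodd hWR
  set NR := Subgroup.normalizer ((WR.map (ProjectiveSpecialLinearGroup.toPGL (n := Fin 2) (R := R)) :
    Subgroup (Matrix.ProjGenLinGroup (Fin 2) R)) : Set (Matrix.ProjGenLinGroup (Fin 2) R))
  have hle : NR.map ι ≤ M := by
    rw [← hN, ← hmap]
    exact Subgroup.le_normalizer_map _
  have heq : NR.map ι = M := Subgroup.eq_of_le_of_card_ge hle (by
    rw [← Nat.card_congr (NR.equivMapOfInjective ι hι).toEquiv, hM24]; exact h24)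
  have hrange : M ≤ ι.range := by
    rw [← heq]
    rintro _ ⟨z, -, rfl⟩
    exact ⟨z, rfl⟩
  have hcι : Nat.card ι.range = p * (p ^ 2 - 1) := by
    rw [← Nat.card_congr (MonoidHom.ofInjective hι).toEquiv, PSLCard.card_PGL2, hR]
  have hp2 : 5 ^ 2 ≤ p ^ 2 := Nat.pow_le_pow_left hp5 2
  have hbig : 5 * 24 ≤ p * (p ^ 2 - 1) := Nat.mul_le_mul hp5 (by omega)
  rcases hM.le_iff.mp hrange with h | h
  · rw [h, Subgroup.card_top, PSLCard.card_PGL2, hn] at hcι
    have hpp : p ^ 2 ≤ p ^ n := Nat.pow_le_pow_right hp.out.pos hn2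
    have hlt : p < p ^ n := lt_of_lt_of_le (by rw [sq]; exact lt_mul_of_one_lt_left hp.out.pos hp.out.one_lt) hpp
    have : p ^ 2 - 1 ≤ (p ^ n) ^ 2 - 1 := Nat.sub_le_sub_right (Nat.pow_le_pow_left hlt.le 2) 1
    have := Nat.mul_lt_mul_of_lt_of_le hlt this (by omega)
    omega
  · rw [h] at hcι
    omega

theorem mem_range_of_squares (hq : Odd (Nat.card F)) {M : Subgroup PGL₂} {X : Type*} [Group X]
    (e : M ≃* X) (h : ∀ x : X, ∃ y z, x = y * y * (z * z)) : M ≤ (ιF).range := by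
  intro m hm
  obtain ⟨y, z, hyz⟩ := h (e ⟨m, hm⟩)
  have : m = (e.symm y).1 * (e.symm y).1 * ((e.symm z).1 * (e.symm z).1) := by
    have := congrArg (fun t => (e.symm t).1) hyz
    simpa using this
  rw [this]
  exact mul_mem (Subgroup.mul_self_mem_of_index_two (index_range hq) _)
    (Subgroup.mul_self_mem_of_index_two (index_range hq) _)

theorem A4_squares : ∀ x : alternatingGroup (Fin 4), ∃ y z, x = y * y * (z * z) := by decide +kernel

theorem A5_squares : ∀ x : alternatingGroup (Fin 5), ∃ y z, x = y * y * (z * z) := by decide +kernel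

theorem mem_range_psl (hq : Odd (Nat.card F)) {M : Subgroup PGL₂} (R : Subfield F)
    (e : M ≃* Matrix.ProjectiveSpecialLinearGroup (Fin 2) R) : M ≤ (ιF).range := by
  have h2 : (2 : R) ≠ 0 := fun h => PSL2SylowTwo.two_ne_zero_of_odd hq
    (by have := congrArg R.subtype h; rwa [map_ofNat, map_zero] at this)
  haveI : NeZero (2 : R) := ⟨h2⟩
  intro m hm
  obtain ⟨A, hA⟩ := PSL2Proj52.π_surjective (e ⟨m, hm⟩)
  let θ : SL(2, R) →* PGL₂ := M.subtype.comp (e.symm.toMonoidHom.comp PSL2Proj52.π)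
  have hθ : m = θ A := by
    show m = (e.symm (PSL2Proj52.π A)).1
    rw [hA, MulEquiv.symm_apply_apply]
  rw [hθ]
  have htop : ((ιF).range).comap θ = ⊤ := by
    refine PSLSimple.eq_top_of_transvection_mem _ fun i j hij c => ?_
    have hsq : SpecialLinearGroup.transvection hij c =
        SpecialLinearGroup.transvection hij (c / 2) * SpecialLinearGroup.transvection hij (c / 2) := by
      apply Subtype.ext
      show Matrix.transvection i j c = Matrix.transvection i j (c / 2) * Matrix.transvection i j (c / 2)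
      rw [Matrix.transvection_mul_transvection_same _ _ hij, add_halves]
    rw [hsq, Subgroup.mem_comap, map_mul]
    exact Subgroup.mul_self_mem_of_index_two (index_range hq) _
  exact (Subgroup.eq_top_iff' _).mp htop A

/-- `c⁻¹ PGL(2,R) c`. -/
noncomputable def sub (R : Subfield F) (c : PGL₂) : Subgroup PGL₂ :=
  ((Matrix.ProjGenLinGroup.map (n := Fin 2) R.subtype).range).comap (MulAut.conj c).toMonoidHom

theorem card_sub (R : Subfield F) (c : PGL₂) :
    Nat.card (sub R c) = Nat.card R * (Nat.card R ^ 2 - 1) := by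
  rw [← PSLCard.card_PGL2 (F := R),
    Nat.card_congr (MonoidHom.ofInjective (DicksonSubfield.pglMap_injective R.subtype)).toEquiv]
  refine Nat.card_eq_of_bijective (fun x => (⟨MulAut.conj c x.1, x.2⟩ :
    (Matrix.ProjGenLinGroup.map (n := Fin 2) R.subtype).range)) ⟨fun a b h => ?_, fun y => ?_⟩
  · exact Subtype.ext ((MulAut.conj c).injective (congrArg Subtype.val h))
  · refine ⟨⟨(MulAut.conj c).symm y.1, ?_⟩, Subtype.ext ((MulAut.conj c).apply_symm_apply _)⟩
    show MulAut.conj c ((MulAut.conj c).symm y.1) ∈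
      (Matrix.ProjGenLinGroup.map (n := Fin 2) R.subtype).range
    rw [MulEquiv.apply_symm_apply]
    exact y.2

theorem sub_mono {R R' : Subfield F} (h : R ≤ R') (c : PGL₂) : sub R c ≤ sub R' c := by
  intro g hg
  obtain ⟨x, hx⟩ := hg
  refine ⟨Matrix.ProjGenLinGroup.map (Subfield.inclusion h) x, ?_⟩
  rw [← MonoidHom.comp_apply, ← Matrix.ProjGenLinGroup.map_comp]
  exact hx

theorem cube_lt {a b : ℕ} (ha : 2 ≤ a) (hab : a < b) : a * (a ^ 2 - 1) < b * (b ^ 2 - 1) := by
  have : a ^ 2 < b ^ 2 := Nat.pow_lt_pow_left hab two_ne_zero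
  have : 4 ≤ a ^ 2 := by have := Nat.pow_le_pow_left ha 2; simpa using this
  exact Nat.mul_lt_mul_of_lt_of_le hab (by omega) (by omega)

include p hp in
theorem subfield_case (hq : Odd (Nat.card F)) {M : Subgroup PGL₂}
    (hM : IsCoatom M) (hML : ¬ (ιF).range ≤ M) {R : Subfield F} {c : PGL₂}
    (hle : M ≤ sub R c) (e : M ≃* Matrix.ProjGenLinGroup (Fin 2) R) :
    ∃ m, m.Prime ∧ Odd m ∧ Nat.card F = Nat.card R ^ m ∧ M = sub R c := by
  obtain ⟨a, ha0, ha⟩ := DicksonRational.prime_dvd_card_subfield p R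
  obtain ⟨n, hn0, hn⟩ := PSL2Sylow.card_field_eq (F := F) p
  obtain ⟨-, m, -, -, hm⟩ := DicksonPSL.exists_galoisField_equiv p R
  have ham : a * m = n := Nat.pow_right_injective hp.out.two_le
    (show p ^ _ = p ^ n by rw [pow_mul, ← ha, hm, hn])
  have hMc : Nat.card M = Nat.card R * (Nat.card R ^ 2 - 1) := by
    rw [Nat.card_congr e.toEquiv, PSLCard.card_PGL2]
  have heq : M = sub R c := Subgroup.eq_of_le_of_card_ge hle (by rw [card_sub, hMc])
  have h1 := PSLCard.one_lt_card R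
  have hm2 : 2 ≤ m := by
    rcases m with _ | _ | m
    · have := PSLCard.one_lt_card F; simp at hm; omega
    · exfalso
      refine hM.1 (Subgroup.eq_top_of_card_eq M ?_)
      rw [hMc, PSLCard.card_PGL2, ← hm, pow_one]
    · omega
  have hprime : m.Prime := by
    by_contra hnp
    obtain ⟨u, hum, hu2, hult⟩ := Nat.exists_dvd_of_not_prime2 hm2 hnp
    obtain ⟨v, rfl⟩ := hum
    have hv2 : 2 ≤ v := by
      rcases v with _ | _ | v <;> omega
    have hau : Nat.card (DicksonRational.fixSub F p (a * u)) = p ^ (a * u) :=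
      DicksonRational.card_fixSub p hn (Nat.mul_pos ha0 (by omega)) ⟨v, by rw [← ham, mul_assoc]⟩
    have hle' := hle.trans (sub_mono (DicksonRational.le_fixSub p ha (dvd_mul_right a u)) c)
    have hp2 := hp.out.one_lt
    have hab : Nat.card R < p ^ (a * u) := by
      rw [ha]; exact Nat.pow_lt_pow_right hp2 (lt_mul_of_one_lt_right ha0 (by omega))
    have hbc : p ^ (a * u) < Nat.card F := by
      rw [hn, ← ham, ← mul_assoc]
      exact Nat.pow_lt_pow_right hp2 (lt_mul_of_one_lt_right (Nat.mul_pos ha0 (by omega)) (by omega))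
    rcases hM.le_iff.mp hle' with h | h
    · have hc := card_sub (DicksonRational.fixSub F p (a * u)) c
      rw [h, Subgroup.card_top, hau, PSLCard.card_PGL2] at hc
      have := cube_lt (show 2 ≤ p ^ (a * u) by omega) hbc
      omega
    · have hc := card_sub (DicksonRational.fixSub F p (a * u)) c
      rw [h, hau, hMc] at hc
      have := cube_lt h1 hab
      omega
  refine ⟨m, hprime, hprime.odd_of_ne_two fun hm' => ?_, hm.symm, heq⟩
  subst hm'
  cases nonempty_fintype F
  cases nonempty_fintype R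
  have hsq : ∀ d : R, IsSquare (R.subtype d) := by
    intro d
    rcases eq_or_ne d 0 with rfl | hd
    · exact ⟨0, by simp⟩
    have h2 : ringChar F ≠ 2 := by
      intro h
      have : Even (Fintype.card F) := FiniteField.even_card_iff_char_two.mp h |> Nat.even_iff.mpr
      rw [← Nat.card_eq_fintype_card] at this
      exact absurd this (Nat.not_even_iff_odd.mpr hq)
    rw [FiniteField.isSquare_iff h2 ((map_ne_zero R.subtype).mpr hd), ← Nat.card_eq_fintype_card, ← hm]
    have hRodd : Odd (Nat.card R) := by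
      rw [← hm] at hq
      exact (Nat.odd_pow_iff (by omega)).mp hq
    obtain ⟨j, hj⟩ := hRodd
    rw [hj, show (2 * j + 1) ^ 2 / 2 = 2 * j * (j + 1) by
      rw [show (2 * j + 1) ^ 2 = 2 * (2 * j * (j + 1)) + 1 by ring]; omega,
      show 2 * j = Fintype.card R - 1 by rw [← Nat.card_eq_fintype_card]; omega,
      pow_mul, ← map_pow, FiniteField.pow_card_sub_one_eq_one d hd, map_one, one_pow]
  obtain ⟨g, hgM, hg⟩ := exists_out hq hM hML
  obtain ⟨x, hx⟩ := hle hgM
  have hr := DicksonSubfieldEmbed.pglMap_mem_range R.subtype hsq x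
  refine hg ?_
  have hx' : Matrix.ProjGenLinGroup.map R.subtype x = c * g * c⁻¹ := hx
  have h1' := DicksonRational.conj_mem_range c⁻¹ (hx' ▸ hr)
  rwa [show c⁻¹ * (c * g * c⁻¹) * c⁻¹⁻¹ = g by group] at h1'

/-- The types of maximal subgroups. -/
inductive MaxType (M : Subgroup PGL₂) : Prop
  | point (x : OnePoint F) (h : M = MulAction.stabilizer PGL₂ x)
  | dihedral (k : ℕ) (h6 : 6 ≤ k) (hk : k = Nat.card F + 1 ∨ k = Nat.card F - 1)
      (e : Nonempty (M ≃* DihedralGroup k))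
      (hgh : ∃ g h : PSL₂, g ∈ M.comap ιF ∧ h ∈ M.comap ιF ∧ 2 * orderOf g = k ∧ 3 ≤ orderOf g ∧
        h * g * h⁻¹ = g⁻¹)
  | octahedral (hp : (Nat.card F).Prime) (h8 : Nat.card F % 8 = 3 ∨ Nat.card F % 8 = 5)
      (e : Nonempty (M ≃* Equiv.Perm (Fin 4)))
  | subfield (R : Subfield F) (c : PGL₂) (m : ℕ) (h3 : 3 ≤ Nat.card R) (hm : m.Prime) (ho : Odd m)
      (hq : Nat.card F = Nat.card R ^ m) (h : M = sub R c)
      (e : Nonempty (M ≃* Matrix.ProjGenLinGroup (Fin 2) R))

include p hp in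
theorem classify (hq : Odd (Nat.card F)) (h4 : 4 ≤ Nat.card F) {M : Subgroup PGL₂}
    (hM : IsCoatom M) (hML : ¬ (ιF).range ≤ M) : MaxType M := by
  obtain ⟨g₀, hg₀, hg₀'⟩ := exists_out hq hM hML
  rcases Dickson.dickson_pgl_strong p M with ⟨hc, hco⟩ | ⟨x, hx, -⟩ |
    ⟨C, -, hco, -, h2, ⟨e⟩⟩ | ⟨-, ⟨e⟩⟩ | ⟨hco, ⟨e⟩⟩ | ⟨-, ⟨e⟩⟩ | ⟨R, h3, ⟨c, hc⟩, hR⟩
  · exact (not_cyclic p hq h4 hM hML hc hco).elim
  · exact .point x (fix_point hM hx)
  · obtain ⟨h6, hk, hgh⟩ := dihedral_case p hq h4 hM hML h2 hco e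
    exact .dihedral _ h6 hk ⟨e⟩ hgh
  · exact absurd (mem_range_of_squares hq e A4_squares hg₀) hg₀'
  · obtain ⟨h1, h8⟩ := s4_case p hq h4 hM hML hco e
    exact .octahedral h1 h8 ⟨e⟩
  · exact absurd (mem_range_of_squares hq e A5_squares hg₀) hg₀'
  · rcases hR with ⟨⟨e⟩⟩ | ⟨-, ⟨e⟩⟩
    · have hle : M ≤ sub R c := fun g hg => hc ⟨g, hg, rfl⟩
      obtain ⟨m, hm, ho, hF, heq⟩ := subfield_case p hq hM hML hle e
      exact .subfield R c m h3 hm ho hF heq ⟨e⟩
    · exact absurd (mem_range_psl hq R e hg₀) hg₀'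

end Cfsg.Agent.DicksonPGLMax
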