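import Cfsg.Agent.Lib.PermMultiTrans
import Cfsg.Prelude.Def_Perm

/-!
Permutation groups of prime degree: Burnside's theorem by Müller's polynomial argument.
-/

set_option autoImplicit false

open MulAction Polynomial

namespace Cfsg.Agent.PermPrimeDegree

variable {p : ℕ} [Fact p.Prime]

/-- Some power sum of exponent between `1` and the cardinality of a set of non-zero residues is
non-zero. -/
theorem exists_powerSum_ne_zero (D : Finset (ZMod p)) (hD : D.Nonempty) (h0 : (0 : ZMod p) ∉ D)
    (hcard : D.card < p) : ∃ j, 1 ≤ j ∧ j ≤ D.card ∧ ∑ d ∈ D, d ^ j ≠ 0 := by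
  by_contra hc
  push Not at hc
  set P : (ZMod p)[X] := ∏ d ∈ D, (X - C d) with hP
  have hdeg : P.natDegree = D.card := by
    rw [hP, natDegree_prod _ _ fun d _ => X_sub_C_ne_zero d]
    simp
  have h1 : ∑ d ∈ D, P.eval d = 0 := Finset.sum_eq_zero fun d hd => by
    rw [hP, eval_prod]
    exact Finset.prod_eq_zero hd (by simp)
  have h2 : ∑ d ∈ D, P.eval d = ∑ j ∈ Finset.range (D.card + 1), P.coeff j * ∑ d ∈ D, d ^ j := by
    simp_rw [eval_eq_sum_range (p := P), hdeg, Finset.mul_sum]
    exact Finset.sum_comm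
  rw [h1, Finset.sum_range_succ'] at h2
  rw [Finset.sum_eq_zero (fun j hj => by
    rw [hc (j + 1) (by omega) (by have := Finset.mem_range.1 hj; omega), mul_zero]), zero_add] at h2
  simp only [pow_zero, Finset.sum_const, nsmul_eq_mul, mul_one] at h2
  rcases mul_eq_zero.1 h2.symm with h3 | h3
  · rw [coeff_zero_eq_eval_zero, hP, eval_prod, Finset.prod_eq_zero_iff] at h3
    obtain ⟨d, hd, hd0⟩ := h3
    simp only [eval_sub, eval_X, eval_C, zero_sub, neg_eq_zero] at hd0
    exact h0 (hd0 ▸ hd)
  · rw [ZMod.natCast_eq_zero_iff] at h3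
    exact absurd (Nat.le_of_dvd hD.card_pos h3) (by omega)

omit [Fact p.Prime] in
theorem choose_cast_ne_zero [hp : Fact p.Prime] {n r : ℕ} (hn : n < p) (hr : r ≤ n) :
    ((n.choose r : ℕ) : ZMod p) ≠ 0 := by
  rw [Ne, ZMod.natCast_eq_zero_iff]
  intro h
  have h1 : p ∣ n.factorial := by
    rw [← Nat.choose_mul_factorial_mul_factorial hr]
    exact (h.mul_right _).mul_right _
  have := (hp.out.dvd_factorial).1 h1
  omega

/-- Müller's lemma: a permutation of `ZMod p` preserving a small non-trivial difference relation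
is affine. -/
theorem affine_of_preserves (π : Equiv.Perm (ZMod p)) (D : Finset (ZMod p)) (hD : D.Nonempty)
    (h0 : (0 : ZMod p) ∉ D) (hcard : 2 * D.card ≤ p - 1)
    (hπ : ∀ x y : ZMod p, π y - π x ∈ D ↔ y - x ∈ D) :
    ∃ a b : ZMod p, a ≠ 0 ∧ ∀ x, π x = a * x + b := by
  classical
  have hp : p.Prime := Fact.out
  -- minimal exponent with non-zero power sum
  have hex := exists_powerSum_ne_zero D hD h0 (by have := hp.two_le; omega)
  obtain ⟨r, hr1, hrD, hrne, hrmin⟩ : ∃ r, 1 ≤ r ∧ r ≤ D.card ∧ ∑ d ∈ D, d ^ r ≠ 0 ∧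
      ∀ j, 1 ≤ j → j < r → ∑ d ∈ D, d ^ j = 0 := by
    obtain ⟨h1, h2, h3⟩ := Nat.find_spec hex
    refine ⟨Nat.find hex, h1, h2, h3, fun j hj1 hjr => ?_⟩
    by_contra hj
    exact Nat.find_min hex hjr ⟨hj1, by omega, hj⟩
  -- polynomial representing `π`
  set f : (ZMod p)[X] := Lagrange.interpolate Finset.univ id π with hf
  have hfeval : ∀ x, f.eval x = π x := fun x =>
    Lagrange.eval_interpolate_at_node π Function.injective_id.injOn (Finset.mem_univ x)
  have hfdeg : f.degree < (p : WithBot ℕ) := by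
    have := Lagrange.degree_interpolate_lt (v := id) (π : ZMod p → ZMod p)
      (Function.injective_id.injOn (s := ((Finset.univ : Finset (ZMod p)) : Set (ZMod p))))
    rwa [Finset.card_univ, ZMod.card] at this
  set m := f.natDegree with hm
  have hmp : m < p := by
    rw [hm]
    by_cases hz : f = 0
    · simp [hz, hp.pos]
    · exact (natDegree_lt_iff_degree_lt hz).2 hfdeg
  -- the key identity
  have hΔ : ∀ x i, ∑ d ∈ D, (π (x + d) - π x) ^ i = ∑ d ∈ D, d ^ i := by
    intro x i
    refine Finset.sum_nbij' (fun d => π (x + d) - π x) (fun d => π.symm (π x + d) - x) ?_ ?_ ?_ ?_ ?_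
    · intro d hd
      rw [hπ]; simpa using hd
    · intro d hd
      rw [← hπ, Equiv.apply_symm_apply]; simpa using hd
    · intro d _; simp
    · intro d _; simp
    · intro d _; rfl
  rcases Nat.lt_or_ge m 2 with hm2 | hm2
  · refine ⟨f.coeff 1, f.coeff 0, fun ha => ?_, fun x => ?_⟩
    · have hconst : ∀ x, π x = f.coeff 0 := fun x => by
        rw [← hfeval, eval_eq_sum_range' (n := 2) hm2]
        simp [Finset.sum_range_succ, ha]
      exact zero_ne_one (π.injective ((hconst (0 : ZMod p)).trans (hconst 1).symm))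
    · rw [← hfeval, eval_eq_sum_range' (n := 2) hm2]
      simp [Finset.sum_range_succ]
      ring
  · exfalso
    set k := r / m + 1 with hk
    have hk1 : 1 ≤ k := Nat.succ_pos _
    have hkr : k ≤ r := by
      have : r / m ≤ r / 2 := Nat.div_le_div_left hm2 (by norm_num)
      omega
    set n := k * m with hn
    have hrn : r < n := by
      have := Nat.lt_div_mul_add (a := r) (b := m) (by omega)
      rw [hn, hk, add_mul, one_mul]; omega
    have hnp : n < p := by
      have h1 : r / m * m ≤ r := Nat.div_mul_le_self r m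
      rcases Nat.lt_or_ge r m with h | h
      · rw [hn, hk, Nat.div_eq_of_lt h]; omega
      · rw [hn, hk, add_mul, one_mul]; omega
    set F : (ZMod p)[X] := f ^ k with hF
    have hFdeg : F.natDegree = n := by rw [hF, natDegree_pow, hn]
    set Q : (ZMod p)[X] :=
      ∑ j ∈ Finset.Icc 1 n, C (∑ d ∈ D, d ^ j) * hasseDeriv j F with hQ
    have hQeval : ∀ x, Q.eval x = ∑ d ∈ D, d ^ k := by
      intro x
      have h1 : ∀ d, π (x + d) ^ k =
          ∑ j ∈ Finset.range (n + 1), (hasseDeriv j F).eval x * d ^ j := fun d => by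
        have : (taylor x F).eval d = π (x + d) ^ k := by
          rw [taylor_eval, hF, eval_pow, hfeval, add_comm]
        rw [← this, eval_eq_sum_range' (n := n + 1) (by rw [natDegree_taylor, hFdeg]; omega)]
        simp [taylor_coeff]
      have h2 : ∑ d ∈ D, π (x + d) ^ k = (D.card : ZMod p) * π x ^ k + ∑ d ∈ D, d ^ k := by
        have : ∀ d ∈ D, π (x + d) ^ k = ∑ i ∈ Finset.range (k + 1),
            (π (x + d) - π x) ^ i * π x ^ (k - i) * (k.choose i : ZMod p) := fun d _ => by
          rw [← add_pow, sub_add_cancel]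
        rw [Finset.sum_congr rfl this, Finset.sum_comm]
        simp_rw [← Finset.sum_mul, hΔ]
        obtain ⟨k', hk'⟩ : ∃ k', k = k' + 1 := ⟨k - 1, by omega⟩
        rw [hk', Finset.sum_range_succ, Finset.sum_range_succ', Finset.sum_eq_zero fun i hi => by
          rw [hrmin (i + 1) (by omega) (by have := Finset.mem_range.1 hi; omega)]; simp]
        simp
      have h3 : Q.eval x = ∑ d ∈ D, π (x + d) ^ k - (D.card : ZMod p) * π x ^ k := by
        rw [Finset.sum_congr rfl fun d _ => h1 d, Finset.sum_comm, hQ, eval_finsetSum,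
          Finset.range_eq_Ico, Finset.sum_eq_sum_Ico_succ_bot (by omega : 0 < n + 1)]
        simp only [zero_add, pow_zero, mul_one, Finset.sum_const, hasseDeriv_zero',
          nsmul_eq_mul, hF, eval_pow, hfeval, eval_mul, eval_C]
        rw [add_sub_cancel_left]
        exact Finset.sum_congr (by ext j; simp) fun j _ => by rw [← Finset.mul_sum, mul_comm]
      rw [h3, h2, add_sub_cancel_left]
    have hQdeg : Q.natDegree ≤ n := by
      rw [hQ]
      refine natDegree_sum_le_of_forall_le _ _ fun j _ => (natDegree_C_mul_le _ _).trans ?_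
      rw [← hFdeg]
      exact (natDegree_hasseDeriv_le F j).trans (Nat.sub_le _ _)
    have hzero : Q - C (∑ d ∈ D, d ^ k) = 0 := by
      refine eq_zero_of_natDegree_lt_card_of_eval_eq_zero _ Function.injective_id
        (fun x => ?_) ?_
      · rw [eval_sub, eval_C, id, hQeval, sub_self]
      · rw [natDegree_sub_C, ZMod.card]; omega
    have hc := congrArg (fun q => q.coeff (n - r)) hzero
    simp only [coeff_sub, coeff_C, coeff_zero] at hc
    rw [if_neg (by omega), sub_zero, hQ, finsetSum_coeff, Finset.sum_eq_single r] at hc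
    · rw [coeff_C_mul, hasseDeriv_coeff, Nat.sub_add_cancel hrn.le] at hc
      rcases mul_eq_zero.1 hc with h | h
      · exact hrne h
      · rcases mul_eq_zero.1 h with h | h
        · exact choose_cast_ne_zero hnp hrn.le h
        · have : F.leadingCoeff = 0 := by rw [leadingCoeff, hFdeg]; exact h
          rw [leadingCoeff_eq_zero] at this
          rw [this, natDegree_zero] at hFdeg
          omega
    · intro j hj hjr
      rw [Finset.mem_Icc] at hj
      rw [coeff_C_mul]
      rcases Nat.lt_or_ge j r with h | h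
      · rw [hrmin j hj.1 h, zero_mul]
      · rw [hasseDeriv_coeff, coeff_eq_zero_of_natDegree_lt (p := F)
          (by rw [hFdeg]; omega), mul_zero, mul_zero]
    · intro h
      exact absurd (Finset.mem_Icc.2 ⟨hr1, hrn.le⟩) h

/-! ### Transitive groups of prime degree -/

section Group

universe u

variable {α : Type u} [Finite α]

/-- In a transitive group of prime degree some element acts as a translation. -/
theorem exists_translation (hα : Nat.card α = p) (G : Subgroup (Equiv.Perm α))
    [IsPretransitive G α] :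
    ∃ t : Equiv.Perm α, t ∈ G ∧ orderOf t = p ∧
      ∃ e : ZMod p ≃ α, ∀ x : ZMod p, e (x + 1) = t (e x) := by
  have hp : p.Prime := Fact.out
  have : Nonempty α := (Nat.card_pos_iff.1 (hα ▸ hp.pos)).1
  have hdvd : p ∣ Nat.card G := hα ▸ PermBasic.card_dvd_of_transitive (G := G) (X := α)
  obtain ⟨⟨t, htG⟩, ht⟩ := exists_prime_orderOf_dvd_card' p hdvd
  rw [← Subgroup.orderOf_coe] at ht
  change orderOf t = p at ht
  refine ⟨t, htG, ht, ?_⟩
  have ht1 : t ≠ 1 := fun h => by rw [h, orderOf_one] at ht; exact hp.one_lt.ne ht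
  obtain ⟨b, hb⟩ : ∃ b, t b ≠ b := by
    by_contra h
    push Not at h
    exact ht1 (Equiv.ext h)
  let T := Subgroup.zpowers t
  have hT : Nat.card T = p := by rw [Nat.card_zpowers, ht]
  have horb : orbit T b = Set.univ := by
    have h1 := PermBasic.card_orbit_dvd (G := T) b
    rw [hT, Nat.dvd_prime hp] at h1
    refine Set.eq_of_subset_of_ncard_le (Set.subset_univ _) ?_
    rw [Set.ncard_univ, hα]
    rcases h1 with h1 | h1
    · exfalso
      rw [Nat.card_eq_one_iff_exists] at h1
      obtain ⟨y, hy⟩ := h1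
      have e1 := hy ⟨t b, ⟨⟨t, Subgroup.mem_zpowers t⟩, rfl⟩⟩
      have e2 := hy ⟨b, mem_orbit_self b⟩
      exact hb (congrArg Subtype.val (e1.trans e2.symm))
    · rw [← Nat.card_coe_set_eq]; omega
  have hper : ∀ i j : ℕ, i % p = j % p → (t ^ i) b = (t ^ j) b := fun i j h => by
    rw [← pow_mod_orderOf t i, ← pow_mod_orderOf t j, ht, h]
  have hsurj : Function.Surjective fun x : ZMod p => (t ^ x.val) b := by
    intro y
    obtain ⟨⟨s, hs⟩, hsy⟩ := (horb ▸ Set.mem_univ y : y ∈ orbit T b)
    obtain ⟨i, rfl⟩ := (isOfFinOrder_of_finite t).mem_powers_iff_mem_zpowers.2 hs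
    refine ⟨(i : ZMod p), ?_⟩
    simp only [ZMod.val_natCast]
    rw [hper (i % p) i (Nat.mod_mod _ _)]
    exact hsy
  have hbij : Function.Bijective fun x : ZMod p => (t ^ x.val) b :=
    hsurj.bijective_of_nat_card_le (by rw [Nat.card_zmod, hα])
  refine ⟨Equiv.ofBijective _ hbij, fun x => ?_⟩
  simp only [Equiv.ofBijective_apply]
  rw [← Equiv.Perm.mul_apply, ← pow_succ']
  apply hper
  rw [ZMod.val_add, Nat.mod_mod, ZMod.val_one]

omit [Finite α] in
/-- `t` acts as translation by one, so its powers as translations. -/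
theorem translation_pow {t : Equiv.Perm α} {e : ZMod p ≃ α}
    (he : ∀ x : ZMod p, e (x + 1) = t (e x)) (i : ℕ) (x : ZMod p) :
    (t ^ i) (e x) = e (x + i) := by
  induction i with
  | zero => simp
  | succ i ih => rw [pow_succ', Equiv.Perm.mul_apply, ih, ← he]; push_cast; ring_nf

/-- A transitive group of prime degree which is not 2-transitive consists of affine maps. -/
theorem affine_or_twoTransitive (hα : Nat.card α = p) (G : Subgroup (Equiv.Perm α))
    [IsPretransitive G α] :
    IsMultiplyPretransitive G α 2 ∨ ∃ e : ZMod p ≃ α, ∀ g ∈ G, ∃ a b : ZMod p, a ≠ 0 ∧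
      ∀ x, g (e x) = e (a * x + b) := by
  classical
  obtain ⟨t, htG, -, e, he⟩ := exists_translation hα G
  have hp : p.Prime := Fact.out
  by_cases h2 : IsMultiplyPretransitive G α 2
  · exact Or.inl h2
  refine Or.inr ⟨e, ?_⟩
  let R : ZMod p → ZMod p → Prop := fun x y =>
    ∃ h ∈ G, h (e 0) = e x ∧ h (e 1) = e y
  have hRinv : ∀ g ∈ G, ∀ x y x' y', g (e x) = e x' → g (e y) = e y' →
      (R x y ↔ R x' y') := by
    intro g hg x y x' y' hx hy
    constructor
    · rintro ⟨h, hh, h1, h2⟩
      exact ⟨g * h, G.mul_mem hg hh, by rw [Equiv.Perm.mul_apply, h1, hx],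
        by rw [Equiv.Perm.mul_apply, h2, hy]⟩
    · rintro ⟨h, hh, h1, h2⟩
      refine ⟨g⁻¹ * h, G.mul_mem (G.inv_mem hg) hh, ?_, ?_⟩
      · rw [Equiv.Perm.mul_apply, h1, ← hx, Equiv.Perm.inv_def, Equiv.symm_apply_apply]
      · rw [Equiv.Perm.mul_apply, h2, ← hy, Equiv.Perm.inv_def, Equiv.symm_apply_apply]
  have hRdiff : ∀ x y, R x y ↔ R 0 (y - x) := by
    intro x y
    refine (hRinv _ (G.pow_mem htG x.val) 0 (y - x) x y ?_ ?_).symm
    · rw [translation_pow he]; simp
    · rw [translation_pow he]; simp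
  let D : Finset (ZMod p) := Finset.univ.filter fun d => R 0 d
  have hD1 : (1 : ZMod p) ∈ D :=
    Finset.mem_filter.2 ⟨Finset.mem_univ _, 1, G.one_mem, rfl, rfl⟩
  have hD0 : (0 : ZMod p) ∉ D := by
    intro h
    obtain ⟨g, -, h1, h2⟩ := (Finset.mem_filter.1 h).2
    exact zero_ne_one (e.injective (g.injective (h1.trans h2.symm)))
  let D' : Finset (ZMod p) := (Finset.univ.erase 0) \ D
  have hDsub : D ⊆ Finset.univ.erase (0 : ZMod p) := fun d hd =>
    Finset.mem_erase.2 ⟨fun h => hD0 (h ▸ hd), Finset.mem_univ _⟩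
  have hcards : D.card + D'.card = p - 1 := by
    have := Finset.card_sdiff_add_card_eq_card hDsub
    rw [Finset.card_erase_of_mem (Finset.mem_univ _), Finset.card_univ, ZMod.card] at this
    simp only [D']
    omega
  have hD' : D'.Nonempty := by
    by_contra hne
    rw [Finset.not_nonempty_iff_eq_empty] at hne
    apply h2
    have hall : ∀ d : ZMod p, d ≠ 0 → R 0 d := fun d hd => by
      by_contra hR
      have : d ∈ D' := by simp [D', D, hd, hR]
      rw [hne] at this
      simp at this
    refine PermMultiTrans.isTwoPretransitive_of_stabilizer (e 0) fun x y hx hy => ?_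
    obtain ⟨i, rfl⟩ := e.surjective x
    obtain ⟨j, rfl⟩ := e.surjective y
    obtain ⟨g, hg, hg0, hg1⟩ := hall i (fun h => hx (h ▸ rfl))
    obtain ⟨k, hk, hk0, hk1⟩ := hall j (fun h => hy (h ▸ rfl))
    refine ⟨⟨k * g⁻¹, G.mul_mem hk (G.inv_mem hg)⟩, ?_, ?_⟩
    · change (k * g⁻¹) (e 0) = e 0
      rw [Equiv.Perm.mul_apply, show g⁻¹ (e 0) = e 0 from by
        rw [Equiv.Perm.inv_def, Equiv.symm_apply_eq, hg0], hk0]
    · change (k * g⁻¹) (e i) = e j
      rw [Equiv.Perm.mul_apply, show g⁻¹ (e i) = e 1 from by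
        rw [Equiv.Perm.inv_def, Equiv.symm_apply_eq, hg1], hk1]
  intro g hg
  let π : Equiv.Perm (ZMod p) := e.trans (Equiv.trans g e.symm)
  have hπe : ∀ x, g (e x) = e (π x) := fun x => by simp [π]
  have hinv : ∀ x y, π y - π x ∈ D ↔ y - x ∈ D := by
    intro x y
    simp only [D, Finset.mem_filter, Finset.mem_univ, true_and]
    rw [← hRdiff, ← hRdiff]
    exact (hRinv g hg x y _ _ (hπe x) (hπe y)).symm
  have hinv' : ∀ x y, π y - π x ∈ D' ↔ y - x ∈ D' := by
    intro x y
    simp only [D', Finset.mem_sdiff, Finset.mem_erase, Finset.mem_univ, and_true, hinv, sub_ne_zero,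
      π.injective.ne_iff]
  have hfin : ∃ a b : ZMod p, a ≠ 0 ∧ ∀ x, π x = a * x + b := by
    rcases le_total D.card D'.card with h | h
    · exact affine_of_preserves π D ⟨1, hD1⟩ hD0 (by omega) hinv
    · exact affine_of_preserves π D' hD' (by simp [D']) (by omega) hinv'
  obtain ⟨a, b, ha, hab⟩ := hfin
  exact ⟨a, b, ha, fun x => by rw [hπe, hab]⟩

/-- The linear part of an affine map. -/
theorem affine_linearPart_exists (σ : Cfsg.affineGroup (ZMod p)) :
    ∃ a : (ZMod p)ˣ, ∀ x, σ.1 x = (a : ZMod p) * x + σ.1 0 := by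
  obtain ⟨a, b, h⟩ := σ.2
  exact ⟨a, fun x => by rw [h, h 0, mul_zero, zero_add]⟩

/-- The affine group of `ZMod p` is solvable. -/
theorem isSolvable_affineGroup : Group.IsSolvable (Cfsg.affineGroup (ZMod p)) := by
  classical
  have huniq : ∀ (σ : Cfsg.affineGroup (ZMod p)) (a : (ZMod p)ˣ),
      (∀ x, σ.1 x = (a : ZMod p) * x + σ.1 0) → a = (affine_linearPart_exists σ).choose := by
    intro σ a ha
    apply Units.ext
    have h := (affine_linearPart_exists σ).choose_spec 1
    rw [ha 1] at h
    simpa using h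
  let f : Cfsg.affineGroup (ZMod p) →* (ZMod p)ˣ :=
    MonoidHom.mk' (fun σ => (affine_linearPart_exists σ).choose) (by
      intro σ τ
      refine (huniq _ _ fun x => ?_).symm
      simp only [Subgroup.coe_mul, Equiv.Perm.mul_apply, Units.val_mul]
      rw [(affine_linearPart_exists τ).choose_spec x,
        (affine_linearPart_exists σ).choose_spec (_ + _),
        (affine_linearPart_exists σ).choose_spec (τ.1 0)]
      ring)
  have hker : Group.IsSolvable f.ker := by
    apply Group.isSolvable_of_comm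
    rintro ⟨σ, hσ⟩ ⟨τ, hτ⟩
    apply Subtype.ext
    apply Subtype.ext
    ext x
    have h1 : ∀ y, σ.1 y = y + σ.1 0 := fun y => by
      have := (affine_linearPart_exists σ).choose_spec y
      rw [show (affine_linearPart_exists σ).choose = 1 from hσ] at this
      simpa using this
    have h2 : ∀ y, τ.1 y = y + τ.1 0 := fun y => by
      have := (affine_linearPart_exists τ).choose_spec y
      rw [show (affine_linearPart_exists τ).choose = 1 from hτ] at this
      simpa using this
    simp only [Subgroup.coe_mul, Equiv.Perm.mul_apply]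
    rw [h1 (τ.1 x), h2 x, h2 (σ.1 x), h1 x]
    ring
  have hr : Group.IsSolvable f.range :=
    Group.isSolvable_of_isSolvable_injective f.range.subtype_injective
  exact Group.isSolvable_of_ker_le_range f.ker.subtype f.rangeRestrict
    (by rw [MonoidHom.ker_rangeRestrict, Subgroup.range_subtype])

omit [Finite α] in
/-- A group of permutations that are affine in some coordinates is solvable. -/
theorem isSolvable_of_affine (G : Subgroup (Equiv.Perm α)) (e : ZMod p ≃ α)
    (h : ∀ g ∈ G, ∃ a b : ZMod p, a ≠ 0 ∧ ∀ x, g (e x) = e (a * x + b)) :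
    Group.IsSolvable G := by
  have := isSolvable_affineGroup (p := p)
  let f : G →* Cfsg.affineGroup (ZMod p) :=
    ((e.symm.permCongrHom.toMonoidHom).comp G.subtype).codRestrict _ (by
      intro g
      obtain ⟨a, b, ha, hab⟩ := h g g.2
      exact ⟨Units.mk0 a ha, b, fun x => by simp [Equiv.permCongr_apply, hab]⟩)
  refine Group.isSolvable_of_isSolvable_injective (f := f) ?_
  intro g g' hgg
  exact Subtype.ext (e.symm.permCongrHom.injective (congrArg Subtype.val hgg))

/-- Burnside's theorem on transitive groups of prime degree. -/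
theorem solvable_or_twoTransitive (hα : (Nat.card α).Prime) (G : Subgroup (Equiv.Perm α))
    [IsPretransitive G α] : Group.IsSolvable G ∨ IsMultiplyPretransitive G α 2 := by
  have : Fact (Nat.card α).Prime := ⟨hα⟩
  rcases affine_or_twoTransitive rfl G with h | ⟨e, he⟩
  · exact Or.inr h
  · exact Or.inl (isSolvable_of_affine G e he)

end Group

end Cfsg.Agent.PermPrimeDegree
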