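import Mathlib
import Cfsg.Agent.S3377

/-!
The presentation ⟨x, y, z | x³ = y⁵ = z² = 1, z central, (xy)² = z⟩ of SL(2,5).
-/

set_option autoImplicit false

namespace Cfsg.Agent.SL25Presentation

open Cfsg.Agent.S3377

/-- the relators -/
def rels : Set (FreeGroup (Fin 3)) :=
  {FreeGroup.of (0 : Fin 3) ^ 3, FreeGroup.of (1 : Fin 3) ^ 5, FreeGroup.of (2 : Fin 3) ^ 2,
    (FreeGroup.of (2 : Fin 3))⁻¹ * FreeGroup.of 0 * FreeGroup.of 2 * (FreeGroup.of (0 : Fin 3))⁻¹,
    (FreeGroup.of (2 : Fin 3))⁻¹ * FreeGroup.of 1 * FreeGroup.of 2 * (FreeGroup.of (1 : Fin 3))⁻¹,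
    (FreeGroup.of (0 : Fin 3) * FreeGroup.of 1) ^ 2 * (FreeGroup.of (2 : Fin 3))⁻¹}

/-- the presented group -/
abbrev P : Type := PresentedGroup rels

/-- the generators -/
def gx : P := PresentedGroup.of 0
/-- second generator -/
def gy : P := PresentedGroup.of 1
/-- third generator -/
def gz : P := PresentedGroup.of 2

theorem rel_of {r : FreeGroup (Fin 3)} (h : r ∈ rels) : PresentedGroup.mk rels r = 1 :=
  PresentedGroup.one_of_mem h

theorem gx3 : gx ^ 3 = 1 := by
  exact (map_pow (PresentedGroup.mk rels) (FreeGroup.of 0) 3).symm.trans (rel_of (r := FreeGroup.of 0 ^ 3) (by simp [rels]))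

theorem gy5 : gy ^ 5 = 1 := by
  exact (map_pow (PresentedGroup.mk rels) (FreeGroup.of 1) 5).symm.trans (rel_of (r := FreeGroup.of 1 ^ 5) (by simp [rels]))

theorem gz2 : gz ^ 2 = 1 := by
  exact (map_pow (PresentedGroup.mk rels) (FreeGroup.of 2) 2).symm.trans (rel_of (r := FreeGroup.of 2 ^ 2) (by simp [rels]))

theorem gzx : gx * gz = gz * gx := by
  have h := rel_of (r := (FreeGroup.of (2 : Fin 3))⁻¹ * FreeGroup.of 0 * FreeGroup.of 2 * (FreeGroup.of (0 : Fin 3))⁻¹) (by simp [rels])
  simp only [map_mul, map_inv] at h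
  calc gx * gz = gz * (gz⁻¹ * gx * gz * gx⁻¹) * gx := by group
    _ = gz * gx := by rw [show gz⁻¹ * gx * gz * gx⁻¹ = 1 from h, mul_one]

theorem gzy : gy * gz = gz * gy := by
  have h := rel_of (r := (FreeGroup.of (2 : Fin 3))⁻¹ * FreeGroup.of 1 * FreeGroup.of 2 * (FreeGroup.of (1 : Fin 3))⁻¹) (by simp [rels])
  simp only [map_mul, map_inv] at h
  calc gy * gz = gz * (gz⁻¹ * gy * gz * gy⁻¹) * gy := by group
    _ = gz * gy := by rw [show gz⁻¹ * gy * gz * gy⁻¹ = 1 from h, mul_one]

theorem gxy2 : (gx * gy) ^ 2 = gz := by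
  have h := rel_of (r := (FreeGroup.of (0 : Fin 3) * FreeGroup.of 1) ^ 2 * (FreeGroup.of (2 : Fin 3))⁻¹) (by simp [rels])
  simp only [map_mul, map_inv, map_pow] at h
  exact mul_inv_eq_one.1 h

theorem closure_gens : Subgroup.closure ({gx, gy, gz} : Set P) = ⊤ := by
  rw [← PresentedGroup.closure_range_of rels]
  congr 1
  ext g
  constructor
  · rintro (rfl | rfl | rfl) <;> exact ⟨_, rfl⟩
  · rintro ⟨i, rfl⟩; fin_cases i <;> simp [gx, gy, gz]

theorem gz_central : gz ∈ Subgroup.center P := by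
  rw [Subgroup.mem_center_iff]
  intro g
  have hg : g ∈ Subgroup.closure ({gx, gy, gz} : Set P) := closure_gens ▸ Subgroup.mem_top g
  induction hg using Subgroup.closure_induction with
  | mem a ha => rcases ha with rfl | rfl | rfl; exacts [gzx, gzy, rfl]
  | one => simp
  | mul a b _ _ iha ihb => exact (Commute.mul_left iha ihb)
  | inv a _ ih => exact (Commute.inv_left ih)

theorem zpowers_normal : (Subgroup.zpowers gz).Normal := by
  refine ⟨fun u hu g => ?_⟩
  have hc : u ∈ Subgroup.center P := (Subgroup.zpowers_le.2 gz_central) hu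
  rw [Subgroup.mem_center_iff.1 hc g, mul_inv_cancel_right]
  exact hu

/-- The map to A₅. -/
theorem rels_a5 : ∀ r ∈ rels, FreeGroup.lift ![a5 0, a5 1, 1] r = 1 := by
  intro r hr
  rcases hr with rfl | rfl | rfl | rfl | rfl | rfl <;>
    simp only [map_pow, map_mul, map_inv, FreeGroup.lift_apply_of] <;> decide +kernel

/-- The map to A₅. -/
def toA5 : P →* alternatingGroup (Fin 5) := PresentedGroup.toGroup rels_a5

theorem toA5_surjective : Function.Surjective toA5 := by
  rw [← MonoidHom.range_eq_top, eq_top_iff, ← a5_closure, Subgroup.closure_le]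
  rintro g (rfl | rfl)
  · exact ⟨gx, PresentedGroup.toGroup.of _⟩
  · exact ⟨gy, PresentedGroup.toGroup.of _⟩

theorem finite_card_le : Finite P ∧ Nat.card P ≤ 120 := by
  haveI := zpowers_normal
  let π := QuotientGroup.mk' (Subgroup.zpowers gz)
  have hz : π gz = 1 := (QuotientGroup.eq_one_iff _).2 (Subgroup.mem_zpowers gz)
  have hgen : Subgroup.closure {π gx, π gy} = ⊤ := by
    rw [eq_top_iff]
    have := congrArg (Subgroup.map π) closure_gens
    rw [MonoidHom.map_closure, Subgroup.map_top_of_surjective π (QuotientGroup.mk'_surjective _)] at this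
    rw [← this, Subgroup.closure_le]
    rintro a ⟨b, rfl | rfl | rfl, rfl⟩
    · exact Subgroup.subset_closure (by simp)
    · exact Subgroup.subset_closure (by simp)
    · rw [hz]; exact Subgroup.one_mem _
  obtain ⟨hfin, hle⟩ := card_le_sixty (π gx) (π gy) hgen (by rw [← map_pow, gx3, map_one])
    (by rw [← map_pow, gy5, map_one]) (by rw [← map_mul, ← map_pow, gxy2, hz])
  haveI := hfin
  have h2 : Nat.card (Subgroup.zpowers gz) ∣ 2 := by
    rw [Nat.card_zpowers]; exact orderOf_dvd_of_pow_eq_one gz2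
  have h0 : Nat.card (Subgroup.zpowers gz) ≠ 0 := fun h => by simp [h] at h2
  have hi : (Subgroup.zpowers gz).index = Nat.card (P ⧸ Subgroup.zpowers gz) := Subgroup.index_eq_card _
  have hm := (Subgroup.zpowers gz).card_mul_index
  refine ⟨Nat.finite_of_card_ne_zero ?_, ?_⟩
  · rw [← hm, hi]; exact mul_ne_zero h0 Nat.card_pos.ne'
  · rw [← hm, hi]
    exact (Nat.mul_le_mul (Nat.le_of_dvd (by norm_num) h2) hle).trans (by norm_num)

theorem mem_zpowers_gz {u : P} (h : u ∈ Subgroup.zpowers gz) : u = 1 ∨ u = gz := by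
  obtain ⟨i, rfl⟩ := h
  rcases Int.even_or_odd' i with ⟨j, rfl | rfl⟩
  · left; simp only; rw [zpow_mul, show gz ^ (2 : ℤ) = 1 by exact_mod_cast gz2, one_zpow]
  · right; simp only; rw [zpow_add, zpow_mul, show gz ^ (2 : ℤ) = 1 by exact_mod_cast gz2, one_zpow, one_mul, zpow_one]

/-- A homomorphism out of the presented group which kills neither `z` nor `x` is injective. -/
theorem injective_of {T : Type*} [Group T] (φ : P →* T) (hz : φ gz ≠ 1) (hx : φ gx ≠ 1) :
    Function.Injective φ := by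
  obtain ⟨hfin, hle⟩ := finite_card_le
  haveI := hfin
  haveI := zpowers_normal
  have hA : Nat.card (alternatingGroup (Fin 5)) = 60 := by
    rw [nat_card_alternatingGroup, Nat.card_fin]; rfl
  have hker : toA5.ker = Subgroup.zpowers gz := by
    have h1 : Subgroup.zpowers gz ≤ toA5.ker := by
      rw [Subgroup.zpowers_le, MonoidHom.mem_ker]
      exact PresentedGroup.toGroup.of _
    refine (Subgroup.eq_of_le_of_card_ge h1 ?_).symm
    have hm := toA5.ker.card_mul_index
    rw [Subgroup.index_ker, MonoidHom.range_eq_top.2 toA5_surjective, Subgroup.card_top, hA] at hm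
    have hz2 : orderOf gz = 2 := orderOf_eq_prime gz2 (fun h => hz (by rw [h, map_one]))
    rw [Nat.card_zpowers, hz2]
    omega
  rw [← MonoidHom.ker_eq_bot_iff, Subgroup.eq_bot_iff_forall]
  intro k hk
  haveI : (φ.ker.map toA5).Normal := Subgroup.Normal.map inferInstance _ toA5_surjective
  rcases IsSimpleGroup.eq_bot_or_eq_top_of_normal (φ.ker.map toA5) inferInstance with h | h
  · rw [Subgroup.map_eq_bot_iff, hker] at h
    rcases mem_zpowers_gz (h hk) with rfl | rfl
    · rfl
    · exact absurd (MonoidHom.mem_ker.1 hk) hz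
  · exfalso
    obtain ⟨u, hu, hue⟩ := (h ▸ Subgroup.mem_top (toA5 gx) : toA5 gx ∈ φ.ker.map toA5)
    have h1 : u⁻¹ * gx ∈ toA5.ker := by rw [MonoidHom.mem_ker, map_mul, map_inv, hue, inv_mul_cancel]
    rw [hker] at h1
    apply hx
    have h2 : φ gx = φ (u⁻¹ * gx) := by rw [map_mul, map_inv, MonoidHom.mem_ker.1 hu, inv_one, one_mul]
    have h3 : φ gx ^ 2 = 1 := by
      rcases mem_zpowers_gz h1 with e | e <;> rw [h2, e, ← map_pow]
      · simp
      · rw [gz2, map_one]
    have h4 : φ gx ^ 3 = 1 := by rw [← map_pow, gx3, map_one]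
    rwa [pow_succ, h3, one_mul] at h4

/-- generators of SL(2,5) -/
def sl5 : Fin 3 → Matrix.SpecialLinearGroup (Fin 2) (ZMod 5) :=
  ![⟨!![0, 4; 1, 4], by decide +kernel⟩, ⟨!![1, 1; 0, 1], by decide +kernel⟩, ⟨!![4, 0; 0, 4], by decide +kernel⟩]

/-- generators of the copy inside SL(2,11) -/
def sl11 : Fin 3 → Matrix.SpecialLinearGroup (Fin 2) (ZMod 11) :=
  ![⟨!![7, 1; 9, 3], by decide +kernel⟩, ⟨!![3, 0; 0, 4], by decide +kernel⟩, ⟨!![10, 0; 0, 10], by decide +kernel⟩]

theorem rels_sl5 : ∀ r ∈ rels, FreeGroup.lift sl5 r = 1 := by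
  intro r hr
  rcases hr with rfl | rfl | rfl | rfl | rfl | rfl <;>
    simp only [map_pow, map_mul, map_inv, FreeGroup.lift_apply_of] <;> decide +kernel

theorem rels_sl11 : ∀ r ∈ rels, FreeGroup.lift sl11 r = 1 := by
  intro r hr
  rcases hr with rfl | rfl | rfl | rfl | rfl | rfl <;>
    simp only [map_pow, map_mul, map_inv, FreeGroup.lift_apply_of] <;> decide +kernel

/-- The map to SL(2,5). -/
def toSL5 : P →* Matrix.SpecialLinearGroup (Fin 2) (ZMod 5) := PresentedGroup.toGroup rels_sl5

/-- The map to SL(2,11). -/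
def toSL11 : P →* Matrix.SpecialLinearGroup (Fin 2) (ZMod 11) := PresentedGroup.toGroup rels_sl11

theorem toSL11_injective : Function.Injective toSL11 := by
  refine injective_of _ ?_ ?_ <;>
    (unfold toSL11; simp only [gz, gx, PresentedGroup.toGroup.of]; decide +kernel)

theorem toSL5_injective : Function.Injective toSL5 := by
  refine injective_of _ ?_ ?_ <;>
    (unfold toSL5; simp only [gz, gx, PresentedGroup.toGroup.of]; decide +kernel)

theorem card_SL25 : Nat.card (Matrix.SpecialLinearGroup (Fin 2) (ZMod 5)) = 120 := by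
  rw [Nat.card_eq_fintype_card]; decide +kernel

theorem card_P : Nat.card P = 120 := by
  obtain ⟨hfin, hle⟩ := finite_card_le
  haveI := hfin
  have hsurj := toA5_surjective
  have hm := toA5.ker.card_mul_index
  rw [Subgroup.index_ker, MonoidHom.range_eq_top.2 hsurj, Subgroup.card_top,
    nat_card_alternatingGroup, Nat.card_fin, show Nat.factorial 5 = 120 from rfl] at hm
  have hz : gz ∈ toA5.ker := by rw [MonoidHom.mem_ker]; exact PresentedGroup.toGroup.of _
  have h2 : orderOf gz = 2 := by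
    refine orderOf_eq_prime gz2 fun h => ?_
    have h' : toSL5 gz = 1 := by rw [h, map_one]
    revert h'
    unfold toSL5; simp only [gz, PresentedGroup.toGroup.of]; decide +kernel
  have h3 := Subgroup.card_dvd_of_le (Subgroup.zpowers_le.2 hz)
  rw [Nat.card_zpowers, h2] at h3
  have := Nat.le_of_dvd Nat.card_pos h3
  omega

theorem nonempty_mulEquiv : Nonempty (P ≃* Matrix.SpecialLinearGroup (Fin 2) (ZMod 5)) := by
  haveI := finite_card_le.1
  exact ⟨MulEquiv.ofBijective toSL5 ((Nat.bijective_iff_injective_and_card _).2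
    ⟨toSL5_injective, by rw [card_P, card_SL25]⟩)⟩

end Cfsg.Agent.SL25Presentation
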