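import Mathlib
import Cfsg.Agent.Lib.CyclicZProdMain23
import Cfsg.Agent.Lib.DicksonPGLMax
import Cfsg.Agent.Lib.PSLSimple
import Cfsg.Agent.Lib.AutPSLApi
import Cfsg.Agent.S0205
import Cfsg.Agent.S0675
import Cfsg.Agent.S3378
import Cfsg.Agent.S3559
import Cfsg.Agent.S3972

/-!
Reduction of a non-solvable product of a cyclic group and a group with cyclic Sylow subgroups to
the doubly transitive situation.
-/

set_option autoImplicit false
set_option linter.unusedSectionVars false

universe u

open scoped MatrixGroups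

namespace Cfsg.Agent.CyclicZProd23

open MulAction

variable {G : Type u} [Group G]

/-- The group is the product of a cyclic subgroup and a subgroup with cyclic Sylow subgroups. -/
structure Factorised (A B : Subgroup G) : Prop where
  cyc : IsCyclic A
  zgrp : IsZGroup B
  mul : ∀ g : G, ∃ a ∈ A, ∃ b ∈ B, g = a * b

/-- There is no non-trivial normal solvable subgroup. -/
def NoRadical (G : Type*) [Group G] : Prop :=
  ∀ K : Subgroup G, K.Normal → Group.IsSolvable K → K = ⊥

theorem isSolvable_sup_normal {H K : Subgroup G} [H.Normal] (hH : Group.IsSolvable H)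
    (hK : Group.IsSolvable K) : Group.IsSolvable (H ⊔ K : Subgroup G) := by
  haveI := hH
  haveI := hK
  haveI : Group.IsSolvable ((H ⊔ K).map (QuotientGroup.mk' H)) := by
    rw [Subgroup.map_sup, QuotientGroup.map_mk'_self, bot_sup_eq]
    exact Group.isSolvable_of_surjective ((QuotientGroup.mk' H).subgroupMap_surjective K)
  refine Group.isSolvable_of_ker_le_range (Subgroup.inclusion (le_sup_left : H ≤ H ⊔ K))
    ((QuotientGroup.mk' H).subgroupMap (H ⊔ K)) fun z hz => ?_
  exact ⟨⟨z.1, (QuotientGroup.eq_one_iff _).1 (congrArg Subtype.val hz)⟩, rfl⟩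

theorem exists_radical (G : Type u) [Group G] [Finite G] :
    ∃ R : Subgroup G, R.Normal ∧ Group.IsSolvable R ∧
      ∀ N : Subgroup G, N.Normal → Group.IsSolvable N → N ≤ R := by
  obtain ⟨R, ⟨hRn, hRs⟩, hmax⟩ := Set.exists_max_image
    {N : Subgroup G | N.Normal ∧ Group.IsSolvable N} (fun N => Nat.card N) (Set.toFinite _)
    ⟨⊥, inferInstance, inferInstance⟩
  refine ⟨R, hRn, hRs, fun N hN hNs => ?_⟩
  haveI := hRn
  haveI := hN
  have e : R = R ⊔ N := Subgroup.eq_of_le_of_card_ge le_sup_left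
    (hmax _ ⟨inferInstance, isSolvable_sup_normal hRs hNs⟩)
  exact e ▸ le_sup_right

theorem Factorised.map {A B : Subgroup G} [Finite G] (h : Factorised A B) {H : Type*} [Group H]
    (f : G →* H) (hf : Function.Surjective f) : Factorised (A.map f) (B.map f) := by
  haveI := h.cyc
  haveI := h.zgrp
  refine ⟨isCyclic_of_surjective _ (f.subgroupMap_surjective A),
    IsZGroup.of_surjective (f.subgroupMap_surjective B), fun k => ?_⟩
  obtain ⟨g, rfl⟩ := hf k
  obtain ⟨a, ha, b, hb, rfl⟩ := h.mul g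
  exact ⟨f a, ⟨a, ha, rfl⟩, f b, ⟨b, hb, rfl⟩, map_mul f a b⟩

theorem not_solvable_quotient [Finite G] {R : Subgroup G} [R.Normal] (hs : Group.IsSolvable R)
    (hG : ¬ Group.IsSolvable G) : ¬ Group.IsSolvable (G ⧸ R) := fun e =>
  hG ((Group.isSolvable_iff_subgroup_quotient R).2 ⟨hs, e⟩)

theorem noRadical_quotient [Finite G] {R : Subgroup G} [R.Normal] (hs : Group.IsSolvable R)
    (hmax : ∀ N : Subgroup G, N.Normal → Group.IsSolvable N → N ≤ R) : NoRadical (G ⧸ R) := by
  intro K hK hKs
  haveI := hK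
  haveI := hs
  haveI := hKs
  have hle : R ≤ K.comap (QuotientGroup.mk' R) := fun r hr => by
    rw [Subgroup.mem_comap, QuotientGroup.mk'_apply, (QuotientGroup.eq_one_iff r).2 hr]
    exact one_mem _
  have hsol : Group.IsSolvable (K.comap (QuotientGroup.mk' R)) :=
    Group.isSolvable_of_ker_le_range (Subgroup.inclusion hle)
      ((QuotientGroup.mk' R).subgroupComap K) fun z hz =>
        ⟨⟨z.1, (QuotientGroup.eq_one_iff _).1 (congrArg Subtype.val hz)⟩, rfl⟩
  rw [eq_bot_iff]
  intro k hk
  obtain ⟨g, rfl⟩ := QuotientGroup.mk'_surjective R k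
  exact (QuotientGroup.eq_one_iff g).2 (hmax _ inferInstance hsol hk)

section Basic

variable [Finite G] {A B : Subgroup G}

theorem eq_bot_of_le_B (h : Factorised A B) (hr : NoRadical G) {K : Subgroup G} (hK : K.Normal)
    (hle : K ≤ B) : K = ⊥ := by
  haveI := h.zgrp
  haveI : IsZGroup K := IsZGroup.of_injective (Subgroup.inclusion_injective hle)
  exact hr K hK inferInstance

theorem Factorised.conj_mem (h : Factorised A B) {H : Subgroup G} (hB : B ≤ H) {z : G}
    (hzA : z ∈ A) (hzH : z ∈ H) (g : G) : g * z * g⁻¹ ∈ H := by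
  obtain ⟨a, ha, b, hb, e⟩ := h.mul g⁻¹
  haveI := h.cyc
  letI := IsCyclic.commGroup (α := A)
  have hcomm : a⁻¹ * z = z * a⁻¹ :=
    congrArg Subtype.val (mul_comm (⟨a⁻¹, inv_mem ha⟩ : A) ⟨z, hzA⟩)
  have hg : g = b⁻¹ * a⁻¹ := by rw [← mul_inv_rev, ← e, inv_inv]
  rw [hg, show b⁻¹ * a⁻¹ * z * (b⁻¹ * a⁻¹)⁻¹ = b⁻¹ * (a⁻¹ * z) * a * b by group, hcomm,
    show b⁻¹ * (z * a⁻¹) * a * b = b⁻¹ * z * b by group]
  exact mul_mem (mul_mem (inv_mem (hB hb)) hzH) (hB hb)

theorem Factorised.disjoint (h : Factorised A B) (hr : NoRadical G) : A ⊓ B = ⊥ := by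
  rw [Subgroup.eq_bot_iff_forall]
  intro z hz
  have hle : Subgroup.normalClosure ({z} : Set G) ≤ B := by
    rw [Subgroup.normalClosure, Subgroup.closure_le]
    intro w hw
    obtain ⟨s, rfl, hs⟩ := Group.mem_conjugatesOfSet_iff.1 hw
    obtain ⟨g, rfl⟩ := isConj_iff.1 hs
    exact h.conj_mem le_rfl hz.1 hz.2 g
  have := Subgroup.subset_normalClosure (Set.mem_singleton z)
  rw [eq_bot_of_le_B h hr Subgroup.normalClosure_normal hle] at this
  exact this

theorem Factorised.card_mul (h : Factorised A B) (hr : NoRadical G) :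
    Nat.card A * Nat.card B = Nat.card G := by
  rw [← Nat.card_prod]
  refine Nat.card_eq_of_bijective (fun q : A × B => (q.1 : G) * q.2) ⟨fun a b e =>
    Subgroup.mul_injective_of_disjoint (disjoint_iff.2 (h.disjoint hr)) e, fun g => ?_⟩
  obtain ⟨a, ha, b, hb, rfl⟩ := h.mul g
  exact ⟨(⟨a, ha⟩, ⟨b, hb⟩), rfl⟩

theorem solvable_of_cyclic_two {C : Subgroup G} (hc : IsCyclic C) (hp : IsPGroup 2 C)
    (hi : Odd C.index) : Group.IsSolvable G := by
  haveI : Fact (Nat.Prime 2) := ⟨Nat.prime_two⟩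
  by_cases h2 : 2 ∣ Nat.card G
  swap
  · exact Cfsg.Agent.S0205.result (Nat.odd_iff.2 (Nat.two_dvd_ne_zero.1 h2))
  have hnd : ¬ 2 ∣ C.index := fun hd => by rw [Nat.odd_iff] at hi; omega
  let PC : Sylow 2 G := hp.toSylow hnd
  have hmin : (Nat.card G).minFac = 2 := (Nat.minFac_eq_two_iff _).2 h2
  have hcompl := IsCyclic.isComplement' hmin (P := PC) hc
  set N := (MonoidHom.transferSylow PC
    ((show IsCyclic PC from hc).normalizer_le_centralizer hmin)).ker
  have hN : Group.IsSolvable N := by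
    refine Cfsg.Agent.S0205.result ?_
    rw [← hcompl.index_eq_card]
    exact hi
  haveI := hN
  haveI : Group.IsSolvable PC := by
    haveI : IsCyclic PC := hc
    letI := IsCyclic.commGroup (α := PC)
    infer_instance
  exact Group.isSolvable_of_ker_le_range N.subtype (MonoidHom.transferSylow PC
    ((show IsCyclic PC from hc).normalizer_le_centralizer hmin)) (Subgroup.range_subtype N).ge

/-- Both factors have even order. -/
theorem Factorised.evens (h : Factorised A B) (hns : ¬ Group.IsSolvable G) (hr : NoRadical G) :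
    2 ∣ Nat.card A ∧ 2 ∣ Nat.card B := by
  haveI : Fact (Nat.Prime 2) := ⟨Nat.prime_two⟩
  have hc := h.card_mul hr
  have hodd : ∀ H : Subgroup G, IsZGroup H → ∀ k, Nat.card H * k = Nat.card G → 2 ∣ k := by
    intro H hH k hk
    by_contra hk2
    obtain ⟨P⟩ : Nonempty (Sylow 2 H) := inferInstance
    haveI : IsCyclic ((P : Subgroup H).map H.subtype) :=
      isCyclic_of_surjective _ (H.subtype.subgroupMap_surjective (P : Subgroup H))
    refine hns (solvable_of_cyclic_two (C := (P : Subgroup H).map H.subtype) this (P.2.map _) ?_)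
    rw [Subgroup.index_map_subtype]
    refine (Nat.odd_iff.2 (Nat.two_dvd_ne_zero.1 P.not_dvd_index)).mul ?_
    rw [← H.card_mul_index] at hk
    rw [← Nat.eq_of_mul_eq_mul_left Nat.card_pos hk]
    exact Nat.odd_iff.2 (Nat.two_dvd_ne_zero.1 hk2)
  haveI := h.cyc
  exact ⟨hodd B h.zgrp _ (by rw [mul_comm, hc]), hodd A inferInstance _ hc⟩

theorem exists_minNormal {K : Subgroup G} (hK : K.Normal) (hne : K ≠ ⊥) :
    ∃ N : Subgroup G, N.Normal ∧ N ≠ ⊥ ∧ N ≤ K ∧
      ∀ L : Subgroup G, L.Normal → L ≤ N → L ≠ ⊥ → L = N := by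
  obtain ⟨N, ⟨h1, h2, h3⟩, hmin⟩ := Set.exists_min_image
    {N : Subgroup G | N.Normal ∧ N ≠ ⊥ ∧ N ≤ K} (fun N => Nat.card N) (Set.toFinite _)
    ⟨K, hK, hne, le_rfl⟩
  exact ⟨N, h1, h2, h3, fun L hL hle hL0 =>
    Subgroup.eq_of_le_of_card_ge hle (hmin L ⟨hL, hL0, hle.trans h3⟩)⟩

theorem perfect_of_minNormal (hr : NoRadical G) {N : Subgroup G} (hN : N.Normal) (hne : N ≠ ⊥)
    (hmin : ∀ L : Subgroup G, L.Normal → L ≤ N → L ≠ ⊥ → L = N) : ⁅N, N⁆ = N := by
  haveI := hN
  refine hmin _ inferInstance (Subgroup.commutator_le_left N N) fun e => hne (hr N hN ?_)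
  rw [Subgroup.commutator_eq_bot_iff_le_centralizer] at e
  let _ : CommGroup N := CommGroup.mk fun a b =>
    Subtype.ext ((Subgroup.mem_centralizer_iff.1 (e a.2) b b.2).symm)
  infer_instance

end Basic

section PGL

variable {p : ℕ} [Fact p.Prime]

theorem isSimpleGroup_psl (hp : 3 < p) :
    IsSimpleGroup (Matrix.ProjectiveSpecialLinearGroup (Fin 2) (ZMod p)) :=
  Cfsg.Agent.PSLSimple.isSimpleGroup_PSL_fin' le_rfl fun _ => by rw [Nat.card_zmod]; omega

theorem index_psl (hp : 3 < p) :
    (Matrix.ProjectiveSpecialLinearGroup.toPGL (n := Fin 2) (R := ZMod p)).range.index = 2 :=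
  Cfsg.Agent.DicksonPGLMax.index_range (by
    rw [Nat.card_zmod]; exact (Fact.out : p.Prime).odd_of_ne_two (by omega))

/-- A non-trivial perfect normal subgroup is the special group. -/
theorem eq_range_of_perfect (hp : 3 < p)
    {L : Subgroup (Matrix.ProjGenLinGroup (Fin 2) (ZMod p))} (hL : L.Normal) (hperf : ⁅L, L⁆ = L)
    (hne : L ≠ ⊥) :
    L = (Matrix.ProjectiveSpecialLinearGroup.toPGL (n := Fin 2) (R := ZMod p)).range := by
  set ι := Matrix.ProjectiveSpecialLinearGroup.toPGL (n := Fin 2) (R := ZMod p)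
  have hle : L ≤ ι.range := by
    rw [← hperf, Subgroup.commutator_le]
    intro g _ k _
    rw [commutatorElement_def]
    have hi : ι.range.index = 2 := index_psl hp
    simp only [Subgroup.mul_mem_iff_of_index_two hi, inv_mem_iff]
    tauto
  haveI := hL
  haveI := isSimpleGroup_psl hp
  rcases IsSimpleGroup.eq_bot_or_eq_top_of_normal (L.comap ι) inferInstance with e | e
  · exfalso
    apply hne
    rw [← Subgroup.map_comap_eq_self hle, e, Subgroup.map_bot]
  · rw [← Subgroup.map_comap_eq_self hle, e, ← MonoidHom.range_eq_map]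

theorem two_card_of_perfect {K : Type*} [Group K] (hp : 3 < p)
    (e : K ≃* Matrix.ProjGenLinGroup (Fin 2) (ZMod p)) {L : Subgroup K} (hL : L.Normal)
    (hperf : ⁅L, L⁆ = L) (hne : L ≠ ⊥) : 2 * Nat.card L = Nat.card K := by
  have hn : (L.map e.toMonoidHom).Normal := hL.map _ e.surjective
  have h1 := eq_range_of_perfect hp hn (by rw [← Subgroup.map_commutator, hperf]) (fun h0 =>
    hne ((Subgroup.map_eq_bot_iff_of_injective L e.injective).1 h0))
  have h2 := (L.map e.toMonoidHom).card_mul_index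
  rw [h1, index_psl hp, ← h1, Subgroup.card_map_of_injective e.injective,
    ← Nat.card_congr e.toEquiv] at h2
  omega

end PGL

section MaximalCase

variable [Finite G] {A B : Subgroup G}

theorem pgl_of_isCoatom (h : Factorised A B) (hns : ¬ Group.IsSolvable G) (hr : NoRadical G)
    (hmax : IsCoatom B) : ∃ (p : ℕ) (_ : Fact p.Prime), 3 < p ∧
      Nonempty (G ≃* Matrix.ProjGenLinGroup (Fin 2) (ZMod p)) := by
  classical
  haveI : Fact (Nat.Prime 2) := ⟨Nat.prime_two⟩
  haveI := h.cyc
  haveI := h.zgrp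
  obtain ⟨hA2, hB2⟩ := h.evens hns hr
  have hc := h.card_mul hr
  set Ω := G ⧸ B
  haveI := Fintype.ofFinite Ω
  set x0 : Ω := QuotientGroup.mk 1
  have hx0 : stabilizer G x0 = B := MulAction.stabilizer_quotient B
  haveI hfaith : FaithfulSMul G Ω := by
    refine ⟨fun {g g'} e => ?_⟩
    have h1 : g⁻¹ * g' ∈ B.normalCore := by
      rw [Subgroup.normalCore_eq_ker, MonoidHom.mem_ker]
      refine Equiv.ext fun z => ?_
      show (g⁻¹ * g') • z = z
      rw [mul_smul, ← e, inv_smul_smul]
    rw [eq_bot_of_le_B h hr inferInstance B.normalCore_le] at h1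
    exact inv_mul_eq_one.1 h1
  have htrA : ∀ z : Ω, ∃ a ∈ A, a • x0 = z := by
    intro z
    obtain ⟨g, rfl⟩ := QuotientGroup.mk_surjective z
    obtain ⟨a, ha, b, hb, rfl⟩ := h.mul g
    refine ⟨a, ha, ?_⟩
    show (QuotientGroup.mk (a * 1) : Ω) = QuotientGroup.mk (a * b)
    rw [mul_one, QuotientGroup.eq, inv_mul_cancel_left]
    exact hb
  have hfreeA : ∀ a ∈ A, ∀ z : Ω, a • z = z → a = 1 := by
    intro a ha z hz
    refine FaithfulSMul.eq_of_smul_eq_smul (α := Ω) fun w => ?_
    obtain ⟨a1, ha1, e1⟩ := htrA z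
    obtain ⟨a2, ha2, rfl⟩ := htrA w
    letI := IsCyclic.commGroup (α := A)
    have hcomm : a * (a2 * a1⁻¹) = a2 * a1⁻¹ * a :=
      congrArg Subtype.val
        (mul_comm (⟨a, ha⟩ : A) ⟨a2 * a1⁻¹, mul_mem ha2 (inv_mem ha1)⟩)
    rw [one_smul, show a2 • x0 = (a2 * a1⁻¹) • z by rw [← e1, mul_smul, inv_smul_smul], ← mul_smul,
      hcomm, mul_smul, hz]
  have hn : Nat.card Ω = Nat.card A := by
    refine (Nat.card_eq_of_bijective (fun a : A => (a : G) • x0) ⟨fun a b e => ?_, fun z => ?_⟩).symm
    · exact Subtype.ext (inv_mul_eq_one.1 (hfreeA ((a : G)⁻¹ * b) (mul_mem (inv_mem a.2) b.2) x0 (by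
        rw [mul_smul, show (b : G) • x0 = (a : G) • x0 from e.symm, inv_smul_smul])))
    · obtain ⟨a, ha, e⟩ := htrA z
      exact ⟨⟨a, ha⟩, e⟩
  have hfive : 5 ≤ Nat.card Ω := by
    by_contra hlt
    have h1 : Nat.card G ≤ Nat.card (Equiv.Perm Ω) :=
      Nat.card_le_card_of_injective _ (MulAction.toPerm_injective (α := G) (β := Ω))
    have h24 : Nat.card (Equiv.Perm Ω) ≤ 24 := by
      rw [Nat.card_eq_fintype_card, Fintype.card_perm, ← Nat.card_eq_fintype_card]
      exact (Nat.factorial_le (show Nat.card Ω ≤ 4 by omega)).trans (by decide)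
    have := (Cfsg.Agent.S3378.nonsolvable_small (Nat.card G) G rfl hns (by omega)).2
    omega
  haveI : Nontrivial Ω := Finite.one_lt_card_iff_nontrivial.1 (by omega)
  haveI hprim : IsPreprimitive G Ω := (isCoatom_stabilizer_iff_preprimitive G x0).1 (hx0.symm ▸ hmax)
  -- double transitivity
  set ρ := MulAction.toPermHom G Ω
  have hρ : Function.Injective ρ := MulAction.toPerm_injective
  let F : Ω →ₑ[ρ.rangeRestrict] Ω := { toFun := id, map_smul' := fun _ _ => rfl }
  haveI hprimR : IsPreprimitive ρ.range Ω :=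
    IsPreprimitive.of_surjective (f := F) Function.surjective_id
  have htwo : IsMultiplyPretransitive G Ω 2 := by
    by_contra h2
    have h2R : ¬ IsMultiplyPretransitive ρ.range Ω 2 := by
      intro h2R
      refine h2 (is_two_pretransitive_iff.2 fun {a b c d} hab hcd => ?_)
      obtain ⟨r, hra, hrb⟩ := (is_two_pretransitive_iff.1 h2R) hab hcd
      obtain ⟨g, rfl⟩ := ρ.rangeRestrict_surjective r
      exact ⟨g, hra, hrb⟩
    by_cases hpp : IsPrimePow (Nat.card Ω)
    · obtain ⟨q, m, hq, hm, hqm⟩ := (isPrimePow_nat_iff _).1 hpp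
      rcases (show m = 1 ∨ 2 ≤ m by omega) with rfl | hm2
      · rw [pow_one] at hqm
        rcases Cfsg.Agent.S0675.result (α := Ω)
          (by rw [← Nat.card_eq_fintype_card, ← hqm]; exact hq) ρ.range with hs | hs
        · haveI := hs
          exact hns (Group.isSolvable_of_isSolvable_injective
            (f := ρ.rangeRestrict) fun _ _ e => hρ (congrArg Subtype.val e))
        · exact h2R hs
      · obtain ⟨a, ha⟩ := IsCyclic.exists_generator (α := A)
        have hord : orderOf (ρ (a : G)) = q ^ m := by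
          rw [orderOf_injective ρ hρ, Subgroup.orderOf_coe, orderOf_eq_card_of_forall_mem_zpowers ha,
            ← hn, hqm]
        have hmem : ρ (a : G) ∈ ρ.range := ⟨a, rfl⟩
        exact (Cfsg.Agent.S3972.result (Ω := Ω) q m hq hm2
          (by rw [← Nat.card_eq_fintype_card, hqm]) ρ.range inferInstance h2R ⟨_, hmem⟩
          (by rw [Subgroup.orderOf_mk]; exact hord)).1 hprimR
    · refine (Cfsg.Agent.S3559.result (G := G) (Ω := Ω) inferInstance (by omega) hpp A inferInstance
        ⟨⟨fun z w => ?_⟩, fun z => ?_⟩).elim (fun h3 => h3 hprim) h2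
      · obtain ⟨a, ha, rfl⟩ := htrA z
        obtain ⟨b, hb, rfl⟩ := htrA w
        refine ⟨⟨b * a⁻¹, mul_mem hb (inv_mem ha)⟩, ?_⟩
        show (b * a⁻¹) • a • x0 = b • x0
        rw [mul_smul, inv_smul_smul]
      · rw [Subgroup.eq_bot_iff_forall]
        intro a hfix
        exact Subtype.ext (hfreeA a a.2 z hfix)
  -- the hypotheses
  obtain ⟨P⟩ : Nonempty (Sylow 2 A) := inferInstance
  have hset : Setting G Ω := by
    refine ⟨hfaith, htwo, by omega, even_iff_two_dvd.2 (hn ▸ hA2), fun z => ?_, fun z w hzw => ?_,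
      ⟨(P : Subgroup A).map A.subtype, isCyclic_of_surjective _
        (A.subtype.subgroupMap_surjective (P : Subgroup A)), P.2.map _,
        ⟨(P : Subgroup A).index, Nat.odd_iff.2 (Nat.two_dvd_ne_zero.1 P.not_dvd_index), ?_⟩,
        fun t ht z hz => hfreeA t ((Subgroup.map_subtype_le _) ht) z hz⟩⟩
    · obtain ⟨a, -, rfl⟩ := htrA z
      refine IsZGroup.of_injective (G' := B)
        (f := MonoidHom.mk' (fun k : stabilizer G (a • x0) => (⟨a⁻¹ * k * a, ?_⟩ : B))
          fun k k' => Subtype.ext (by simp only [Subgroup.coe_mul]; group)) fun k k' e => ?_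
      · refine (SetLike.ext_iff.1 hx0 _).1 ?_
        rw [mem_stabilizer_iff, mul_smul, mul_smul, show (k : G) • a • x0 = a • x0 from k.2,
          inv_smul_smul]
      · exact Subtype.ext (mul_left_cancel (mul_right_cancel (congrArg Subtype.val e :)))
    · by_contra hD
      have e := card_eq_orbit_mul (stabilizer G z) w
      have o : {v | ∃ g ∈ stabilizer G z, g • w = v} = {z}ᶜ := by
        ext v
        constructor
        · rintro ⟨g, hg, rfl⟩
          exact fun e' : g • w = z => hzw (MulAction.injective g (hg.trans e'.symm))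
        · intro hv
          obtain ⟨g, hgz, hgw⟩ := (is_two_pretransitive_iff.1 htwo) hzw
            (show z ≠ v from fun e' => hv e'.symm)
          exact ⟨g, hgz, hgw⟩
      rw [o, Set.ncard_compl, Set.ncard_singleton] at e
      have hst : Nat.card (stabilizer G z) = Nat.card B := by
        have e1 := (stabilizer G z).card_mul_index
        rw [index_stabilizer_of_transitive G z, hn, ← hc, mul_comm (Nat.card A)] at e1
        exact Nat.eq_of_mul_eq_mul_right Nat.card_pos e1
      rw [hst] at e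
      have hodd1 : Odd (Nat.card Ω - 1) :=
        Nat.Even.sub_odd (by omega) (even_iff_two_dvd.2 (hn ▸ hA2)) odd_one
      have hodd2 := hodd1.mul (Nat.odd_iff.2 (Nat.two_dvd_ne_zero.1 hD))
      rw [← e, Nat.odd_iff] at hodd2
      omega
    · rw [Subgroup.card_map_of_injective A.subtype_injective, Subgroup.card_mul_index, hn]
  obtain ⟨p, hp, hpn, he⟩ := nonempty_equiv_pgl hset
  refine ⟨p, hp, ?_, he⟩
  have : p ≠ 4 := fun e4 => absurd (e4 ▸ hp.out) (by decide)
  omega

end MaximalCase

theorem card_dvd_lcm {Q₁ Q₂ : Type*} [Group Q₁] [Group Q₂] [Finite Q₁] [Finite Q₂]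
    (L : Subgroup (Q₁ × Q₂)) [IsZGroup L] :
    Nat.card L ∣ Nat.lcm (Nat.card (L.map (MonoidHom.fst Q₁ Q₂)))
      (Nat.card (L.map (MonoidHom.snd Q₁ Q₂))) := by
  rw [← IsZGroup.exponent_eq_card]
  refine Monoid.exponent_dvd_of_forall_pow_eq_one fun g => Subtype.ext (Prod.ext ?_ ?_)
  · obtain ⟨c, hc⟩ := Nat.dvd_lcm_left (Nat.card (L.map (MonoidHom.fst Q₁ Q₂)))
      (Nat.card (L.map (MonoidHom.snd Q₁ Q₂)))
    have h1 := congrArg Subtype.val (pow_card_eq_one' (x :=
      (⟨g.1.1, g.1, g.2, rfl⟩ : L.map (MonoidHom.fst Q₁ Q₂))))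
    rw [SubmonoidClass.coe_pow] at h1
    rw [hc, SubmonoidClass.coe_pow, Prod.pow_fst, pow_mul, h1]
    simp
  · obtain ⟨c, hc⟩ := Nat.dvd_lcm_right (Nat.card (L.map (MonoidHom.fst Q₁ Q₂)))
      (Nat.card (L.map (MonoidHom.snd Q₁ Q₂)))
    have h1 := congrArg Subtype.val (pow_card_eq_one' (x :=
      (⟨g.1.2, g.1, g.2, rfl⟩ : L.map (MonoidHom.snd Q₁ Q₂))))
    rw [SubmonoidClass.coe_pow] at h1
    rw [hc, SubmonoidClass.coe_pow, Prod.pow_snd, pow_mul, h1]
    simp

theorem two_lcm_le {a b : ℕ} (hb0 : 0 < b) (ha : 2 ∣ a) (hb : 2 ∣ b) :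
    2 * Nat.lcm a b ≤ a * b := by
  rw [← Nat.gcd_mul_lcm a b]
  exact Nat.mul_le_mul_right _ (Nat.le_of_dvd (Nat.gcd_pos_of_pos_right _ hb0) (Nat.dvd_gcd ha hb))

/-- Two non-solvable quotients with perfect complementary kernels are impossible. -/
theorem no_two_quotients [Finite G] {A B : Subgroup G} (h : Factorised A B)
    {K₁ K₂ : Type u} [Group K₁] [Group K₂] [Finite K₁] [Finite K₂]
    (φ₁ : G →* K₁) (φ₂ : G →* K₂) (hs₁ : Function.Surjective φ₁) (hs₂ : Function.Surjective φ₂)
    (hn₁ : ¬ Group.IsSolvable K₁) (hn₂ : ¬ Group.IsSolvable K₂)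
    (hr₁ : NoRadical K₁) (hr₂ : NoRadical K₂)
    (L : Subgroup G) (hLk : L ≤ φ₂.ker) (hL : 2 * Nat.card (L.map φ₁) = Nat.card K₁) : False := by
  classical
  have h1 := h.map φ₁ hs₁
  have h2 := h.map φ₂ hs₂
  obtain ⟨a1, b1⟩ := h1.evens hn₁ hr₁
  obtain ⟨a2, b2⟩ := h2.evens hn₂ hr₂
  set Φ := φ₁.prod φ₂
  have hlow : Nat.card (L.map φ₁) * Nat.card K₂ ≤ Nat.card Φ.range := by
    rw [← Nat.card_prod]
    choose s hs using hs₂
    refine Nat.card_le_card_of_injective (fun q : L.map φ₁ × K₂ =>
      (⟨((q.1 : K₁) * φ₁ (s q.2), q.2), ?_⟩ : Φ.range)) fun q q' e => ?_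
    · obtain ⟨l, hl, e⟩ := q.1.2
      refine ⟨l * s q.2, ?_⟩
      show (φ₁ (l * s q.2), φ₂ (l * s q.2)) = _
      rw [map_mul, map_mul, e, MonoidHom.mem_ker.1 (hLk hl), one_mul, hs]
    · have e' := congrArg Subtype.val e
      simp only [Prod.mk.injEq] at e'
      obtain ⟨e1, e2⟩ := e'
      rw [e2] at e1
      exact Prod.ext (Subtype.ext (mul_right_cancel e1)) e2
  have hup : Nat.card Φ.range ≤ Nat.card (A.map Φ) * Nat.card (B.map Φ) := by
    rw [← Nat.card_prod]
    refine Nat.card_le_card_of_surjective (fun q : A.map Φ × B.map Φ =>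
      (⟨q.1.1 * q.2.1, mul_mem (Subgroup.map_le_range Φ A q.1.2)
        (Subgroup.map_le_range Φ B q.2.2)⟩ : Φ.range)) ?_
    rintro ⟨_, g, rfl⟩
    obtain ⟨a, ha, b, hb, rfl⟩ := h.mul g
    exact ⟨(⟨Φ a, a, ha, rfl⟩, ⟨Φ b, b, hb, rfl⟩), Subtype.ext (map_mul Φ a b).symm⟩
  have hbound : ∀ C : Subgroup G, IsZGroup C → 2 ∣ Nat.card (C.map φ₁) →
      2 ∣ Nat.card (C.map φ₂) →
      2 * Nat.card (C.map Φ) ≤ Nat.card (C.map φ₁) * Nat.card (C.map φ₂) := by
    intro C hC e1 e2
    haveI : IsZGroup (C.map Φ) := IsZGroup.of_surjective (Φ.subgroupMap_surjective C)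
    have hd := card_dvd_lcm (C.map Φ)
    rw [Subgroup.map_map, Subgroup.map_map, MonoidHom.fst_comp_prod, MonoidHom.snd_comp_prod] at hd
    refine le_trans ?_ (two_lcm_le Nat.card_pos e1 e2)
    exact Nat.mul_le_mul_left 2 (Nat.le_of_dvd (Nat.lcm_pos Nat.card_pos Nat.card_pos) hd)
  haveI := h.cyc
  have hA := hbound A inferInstance a1 a2
  have hB := hbound B h.zgrp b1 b2
  have hK1 := h1.card_mul hr₁
  have hK2 := h2.card_mul hr₂
  have hpos : 0 < Nat.card K₁ * Nat.card K₂ := Nat.mul_pos Nat.card_pos Nat.card_pos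
  have key : 4 * Nat.card Φ.range ≤ Nat.card K₁ * Nat.card K₂ := by
    calc 4 * Nat.card Φ.range ≤ 4 * (Nat.card (A.map Φ) * Nat.card (B.map Φ)) :=
          Nat.mul_le_mul_left 4 hup
      _ = 2 * Nat.card (A.map Φ) * (2 * Nat.card (B.map Φ)) := by ring
      _ ≤ Nat.card (A.map φ₁) * Nat.card (A.map φ₂) *
          (Nat.card (B.map φ₁) * Nat.card (B.map φ₂)) := Nat.mul_le_mul hA hB
      _ = Nat.card K₁ * Nat.card K₂ := by rw [← hK1, ← hK2]; ring
  have key2 : Nat.card K₁ * Nat.card K₂ ≤ 2 * Nat.card Φ.range := by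
    rw [← hL, mul_assoc]
    exact Nat.mul_le_mul_left 2 hlow
  omega

/-- A non-solvable product with trivial solvable radical is the projective linear group. -/
theorem pgl_of_noRadical : ∀ (n : ℕ) (G : Type u) [Group G] [Finite G] (A B : Subgroup G),
    Nat.card G < n → Factorised A B → ¬ Group.IsSolvable G → NoRadical G →
    ∃ (p : ℕ) (_ : Fact p.Prime), 3 < p ∧
      Nonempty (G ≃* Matrix.ProjGenLinGroup (Fin 2) (ZMod p)) := by
  intro n
  induction n with
  | zero => intro G _ _ A B hn; omega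
  | succ n ih =>
    intro G _ _ A B hn h hns hr
    classical
    haveI := h.zgrp
    have hBtop : B ≠ ⊤ := by
      rintro rfl
      exact hns (Group.isSolvable_of_surjective
        (f := (Subgroup.topEquiv (G := G)).toMonoidHom) Subgroup.topEquiv.surjective)
    by_cases hmax : IsCoatom B
    · exact pgl_of_isCoatom h hns hr hmax
    exfalso
    obtain ⟨M, hBM, hM⟩ : ∃ M, B < M ∧ M ≠ ⊤ := by
      by_contra hc
      push Not at hc
      exact hmax ⟨hBtop, hc⟩
    obtain ⟨m, hm, hmB⟩ := SetLike.exists_of_lt hBM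
    obtain ⟨z, hz, b, hb, e⟩ := h.mul m
    have hzM : z ∈ M := by
      have := mul_mem hm (inv_mem (hBM.le hb))
      rwa [e, mul_inv_cancel_right] at this
    have hz1 : z ≠ 1 := fun e1 => hmB (by rw [e, e1, one_mul]; exact hb)
    have hcore : M.normalCore ≠ ⊥ := by
      intro e1
      have hzc : z ∈ M.normalCore := fun g => h.conj_mem hBM.le hz hzM g
      rw [e1] at hzc
      exact hz1 hzc
    obtain ⟨N, hN, hN0, hNM, hNmin⟩ := exists_minNormal inferInstance hcore
    replace hNM : N ≤ M := hNM.trans M.normalCore_le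
    have hperf := perfect_of_minNormal hr hN hN0 hNmin
    haveI := hN
    have hNns : ¬ Group.IsSolvable N := fun e1 => hN0 (hr N hN e1)
    -- non-solvable quotients
    have quot : ∀ (K L : Subgroup G) [K.Normal], L.Normal → K ≠ ⊥ → ⁅L, L⁆ = L →
        ¬ Group.IsSolvable L → L ⊓ K = ⊥ →
        ∃ (Q : Type u) (_ : Group Q) (_ : Finite Q) (φ : G →* Q), Function.Surjective φ ∧
          ¬ Group.IsSolvable Q ∧ NoRadical Q ∧ K ≤ φ.ker ∧
          2 * Nat.card (L.map φ) = Nat.card Q := by
      intro K L _ hL hK0 hLp hLns hLK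
      haveI := hL
      set π := QuotientGroup.mk' K
      have hπ : Function.Surjective π := QuotientGroup.mk'_surjective K
      have hinj : Function.Injective (π.subgroupMap L) := by
        refine (injective_iff_map_eq_one _).2 fun l hl => ?_
        have : (l : G) ∈ L ⊓ K := ⟨l.2, (QuotientGroup.eq_one_iff _).1 (congrArg Subtype.val hl)⟩
        rw [hLK] at this
        exact Subtype.ext this
      have hns' : ¬ Group.IsSolvable (G ⧸ K) := fun e1 => by
        haveI := e1
        exact hLns (Group.isSolvable_of_isSolvable_injective hinj)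
      obtain ⟨R, hR, hRs, hRmax⟩ := exists_radical (G ⧸ K)
      haveI := hR
      have hlt : Nat.card ((G ⧸ K) ⧸ R) < n := by
        have e1 : Nat.card (G ⧸ K) * Nat.card K = Nat.card G :=
          (Subgroup.card_eq_card_quotient_mul_card_subgroup K).symm
        have e2 : Nat.card ((G ⧸ K) ⧸ R) ≤ Nat.card (G ⧸ K) :=
          Nat.card_le_card_of_surjective _ (QuotientGroup.mk'_surjective R)
        have e3 := (Subgroup.one_lt_card_iff_ne_bot _).2 hK0
        have e4 : 0 < Nat.card (G ⧸ K) := Nat.card_pos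
        have e5 : Nat.card (G ⧸ K) * 2 ≤ Nat.card (G ⧸ K) * Nat.card K := Nat.mul_le_mul_left _ e3
        omega
      obtain ⟨p, hp, hp3, ⟨ε⟩⟩ := ih ((G ⧸ K) ⧸ R) _ _ hlt
        ((h.map π hπ).map (QuotientGroup.mk' R) (QuotientGroup.mk'_surjective R))
        (not_solvable_quotient hRs hns') (noRadical_quotient hRs hRmax)
      refine ⟨_, inferInstance, inferInstance, (QuotientGroup.mk' R).comp π,
        (QuotientGroup.mk'_surjective R).comp hπ, not_solvable_quotient hRs hns',
        noRadical_quotient hRs hRmax, fun k hk => ?_, ?_⟩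
      · rw [MonoidHom.mem_ker, MonoidHom.comp_apply, show π k = 1 from
          (QuotientGroup.eq_one_iff k).2 hk, map_one]
      refine two_card_of_perfect hp3 ε (hL.map _ ((QuotientGroup.mk'_surjective R).comp hπ))
        (by rw [← Subgroup.map_commutator, hLp]) fun e1 => ?_
      rw [Subgroup.map_eq_bot_iff, ← MonoidHom.comap_ker, QuotientGroup.ker_mk',
        ← Subgroup.map_le_iff_le_comap] at e1
      haveI : Group.IsSolvable R := hRs
      haveI : Group.IsSolvable (L.map π) :=
        Group.isSolvable_of_isSolvable_injective (Subgroup.inclusion_injective e1)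
      exact hLns (Group.isSolvable_of_isSolvable_injective hinj)
    -- the centraliser of the minimal normal subgroup is trivial
    have hC : Subgroup.centralizer (N : Set G) = ⊥ := by
      by_contra hC0
      obtain ⟨N', hN', hN'0, hN'C, hN'min⟩ := exists_minNormal inferInstance hC0
      haveI := hN'
      have hdis : N' ⊓ N = ⊥ := by
        by_contra hne
        have e1 := hN'min _ inferInstance inf_le_left hne
        have hN'N : N' ≤ N := e1 ▸ inf_le_right
        have e2 := hNmin _ hN' hN'N hN'0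
        rw [e2] at hN'C
        exact hN0 (by rw [← hperf, Subgroup.commutator_eq_bot_iff_le_centralizer]; exact hN'C)
      have hp' := perfect_of_minNormal hr hN' hN'0 hN'min
      have hns' : ¬ Group.IsSolvable N' := fun e1 => hN'0 (hr N' hN' e1)
      obtain ⟨Q₁, _, _, φ₁, hs₁, hn₁, hr₁, -, hc₁⟩ := quot N N' hN' hN0 hp' hns' hdis
      obtain ⟨Q₂, _, _, φ₂, hs₂, hn₂, hr₂, hk₂, -⟩ :=
        quot N' N hN hN'0 hperf hNns (by rw [inf_comm, hdis])
      exact no_two_quotients h φ₁ φ₂ hs₁ hs₂ hn₁ hn₂ hr₁ hr₂ N' hk₂ hc₁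
    -- the maximal subgroup is the projective linear group
    have hNM' : (N.subgroupOf M).map M.subtype = N := Subgroup.map_subgroupOf_eq_of_le hNM
    have hMns : ¬ Group.IsSolvable M := fun e1 => by
      haveI := e1
      exact hNns (Group.isSolvable_of_isSolvable_injective (Subgroup.inclusion_injective hNM))
    haveI : (N.subgroupOf M).Normal := Subgroup.normal_subgroupOf
    obtain ⟨RN, hRN, hRNs, hRNmax⟩ := exists_radical N
    haveI := hRNs
    have hRN0 : RN = ⊥ := by
      have hnorm : (RN.map N.subtype).Normal := by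
        refine ⟨fun r hr' g => ?_⟩
        obtain ⟨r, hr', rfl⟩ := hr'
        have h1 : (RN.map (MulAut.conjNormal g : MulAut N).toMonoidHom).Normal :=
          hRN.map _ (MulEquiv.surjective _)
        have h2 : RN.map (MulAut.conjNormal g : MulAut N).toMonoidHom ≤ RN :=
          hRNmax _ h1 (Group.isSolvable_of_surjective (MonoidHom.subgroupMap_surjective _ RN))
        exact ⟨_, h2 ⟨r, hr', rfl⟩, MulAut.conjNormal_apply g r⟩
      have := hr _ hnorm
        (Group.isSolvable_of_surjective (N.subtype.subgroupMap_surjective RN))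
      exact (Subgroup.map_eq_bot_iff_of_injective _ N.subtype_injective).1 this
    have hrM : NoRadical M := by
      intro K hK hKs
      haveI := hK
      haveI := hKs
      have hdis : K ⊓ N.subgroupOf M = ⊥ := by
        have h1 : ((K ⊓ N.subgroupOf M).map M.subtype).subgroupOf N ≤ RN := by
          refine hRNmax _ ⟨fun v hv w => ?_⟩ ?_
          · obtain ⟨k, hk, e1⟩ := hv
            exact ⟨⟨(w : G), hNM w.2⟩ * k * ⟨(w : G), hNM w.2⟩⁻¹,
              (inferInstance : (K ⊓ N.subgroupOf M).Normal).conj_mem k hk _,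
              by simp [show (k : G) = v from e1]⟩
          · haveI : Group.IsSolvable (K ⊓ N.subgroupOf M : Subgroup M) :=
              Group.isSolvable_of_isSolvable_injective
                (Subgroup.inclusion_injective (inf_le_left (b := N.subgroupOf M)))
            haveI : Group.IsSolvable ((K ⊓ N.subgroupOf M).map M.subtype) :=
              Group.isSolvable_of_surjective (M.subtype.subgroupMap_surjective _)
            exact Group.isSolvable_of_isSolvable_injective (f := MonoidHom.mk'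
              (fun v : ((K ⊓ N.subgroupOf M).map M.subtype).subgroupOf N =>
                (⟨((v : N) : G), v.2⟩ : (K ⊓ N.subgroupOf M).map M.subtype)) fun _ _ => rfl)
              fun v w e1 => Subtype.ext (Subtype.ext (congrArg Subtype.val e1 :))
        rw [Subgroup.eq_bot_iff_forall]
        intro k hk
        have h2 : (⟨(k : G), hk.2⟩ : N) ∈ RN := h1 ⟨k, hk, rfl⟩
        rw [hRN0, Subgroup.mem_bot] at h2
        exact Subtype.ext (congrArg Subtype.val h2 :)
      have hcent : K.map M.subtype ≤ Subgroup.centralizer (N : Set G) := by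
        rintro _ ⟨k, hk, rfl⟩
        refine Subgroup.mem_centralizer_iff.2 fun v hv => ?_
        exact congrArg Subtype.val (Subgroup.commute_of_normal_of_disjoint _ _ hK inferInstance
          (disjoint_iff.2 hdis) k ⟨v, hNM hv⟩ hk hv).eq.symm
      rw [hC, le_bot_iff] at hcent
      exact (Subgroup.map_eq_bot_iff_of_injective _ M.subtype_injective).1 hcent
    have hfac : Factorised (A.subgroupOf M) (B.subgroupOf M) := by
      haveI := h.cyc
      refine ⟨isCyclic_of_injective (MonoidHom.mk'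
          (fun v : A.subgroupOf M => (⟨(v : M), v.2⟩ : A)) fun _ _ => rfl)
          fun v w e1 => Subtype.ext (Subtype.ext (congrArg Subtype.val e1 :)),
        IsZGroup.of_injective (f := MonoidHom.mk'
          (fun v : B.subgroupOf M => (⟨(v : M), v.2⟩ : B)) fun _ _ => rfl)
          (fun v w e1 => Subtype.ext (Subtype.ext (congrArg Subtype.val e1 :))), fun g => ?_⟩
      obtain ⟨a, ha, b, hb, e1⟩ := h.mul g
      have haM : a ∈ M := by
        have := mul_mem g.2 (inv_mem (hBM.le hb))
        rwa [e1, mul_inv_cancel_right] at this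
      exact ⟨⟨a, haM⟩, ha, ⟨b, hBM.le hb⟩, hb, Subtype.ext e1⟩
    have hMlt : Nat.card M < Nat.card G :=
      lt_of_le_of_ne (Subgroup.card_le_card_group M) fun e1 => hM (Subgroup.eq_top_of_card_eq M e1)
    obtain ⟨p, hp, hp3, ⟨ε⟩⟩ := ih M _ _ (by omega) hfac hMns hrM
    -- the minimal normal subgroup is the special group
    have hperfM : ⁅N.subgroupOf M, N.subgroupOf M⁆ = N.subgroupOf M := by
      apply Subgroup.map_injective M.subtype_injective
      rw [Subgroup.map_commutator, hNM', hperf]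
    have hrange := eq_range_of_perfect hp3
      (L := (N.subgroupOf M).map ε.toMonoidHom) (Subgroup.Normal.map inferInstance _ ε.surjective)
      (by rw [← Subgroup.map_commutator, hperfM]) (fun e1 => hN0 (by
        rw [← hNM', (Subgroup.map_eq_bot_iff_of_injective _ ε.injective).1 e1, Subgroup.map_bot]))
    let η : N ≃* Matrix.ProjectiveSpecialLinearGroup (Fin 2) (ZMod p) :=
      (Subgroup.subgroupOfEquivOfLe hNM).symm.trans
        (((Subgroup.equivMapOfInjective _ ε.toMonoidHom ε.injective).trans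
          (MulEquiv.subgroupCongr hrange)).trans
          (MonoidHom.ofInjective Matrix.ProjectiveSpecialLinearGroup.toPGL_injective).symm)
    have hψ : Function.Injective (MulAut.conjNormal : G →* MulAut N) := by
      refine (injective_iff_map_eq_one _).2 fun g hg => ?_
      have : g ∈ Subgroup.centralizer (N : Set G) := Subgroup.mem_centralizer_iff.2 fun v hv => by
        have e1 := congrArg (fun σ : MulAut N => ((σ ⟨v, hv⟩ : N) : G)) hg
        simp only [MulAut.conjNormal_apply, MulAut.one_apply] at e1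
        rw [mul_inv_eq_iff_eq_mul] at e1
        exact e1.symm
      rwa [hC] at this
    have hle := Nat.card_le_card_of_injective _ hψ
    rw [Nat.card_congr (MulAut.congr η).toEquiv] at hle
    have hcard := Cfsg.Agent.AutPSLApi.card_mulAut (n := 2) (F := ZMod p) (p := p) (f := 1)
      (by rw [ZMod.card, pow_one]) le_rfl le_rfl
    rw [if_pos rfl, one_mul, one_mul] at hcard
    have hcard' : Nat.card (MulAut (Matrix.ProjectiveSpecialLinearGroup (Fin 2) (ZMod p))) =
        Nat.card M := by
      rw [Nat.card_congr ε.toEquiv]; exact hcard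
    omega

/-- The quotient by the solvable radical. -/
theorem quotient_pgl [Finite G] {A B : Subgroup G} (h : Factorised A B)
    (hns : ¬ Group.IsSolvable G) (R : Subgroup G) [R.Normal] (hRs : Group.IsSolvable R)
    (hRmax : ∀ N : Subgroup G, N.Normal → Group.IsSolvable N → N ≤ R) :
    ∃ (p : ℕ) (_ : Fact p.Prime), 3 < p ∧
      Nonempty ((G ⧸ R) ≃* Matrix.ProjGenLinGroup (Fin 2) (ZMod p)) :=
  pgl_of_noRadical _ (G ⧸ R) _ _ (Nat.lt_succ_self _)
    (h.map (QuotientGroup.mk' R) (QuotientGroup.mk'_surjective R))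
    (not_solvable_quotient hRs hns) (noRadical_quotient hRs hRmax)

end Cfsg.Agent.CyclicZProd23
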