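import Cfsg.Agent.Lib.TwistedD4Torus

/-!
The positive unipotent group of `D₄` in characteristic two: collection to a normal form.
-/

set_option autoImplicit false
set_option linter.unusedSectionVars false
set_option maxRecDepth 20000

namespace Cfsg.Agent.D4CharTwoNf71

open Cfsg.Lie Cfsg.Agent.ChevalleyCert Cfsg.Agent.ChevalleyCore Cfsg.Agent.ChevalleyRoots Cfsg.Agent.ChevalleyTorus
  Cfsg.Agent.TwistedTools Cfsg.Agent.TwistedD4

/-- `(s, r, k)`: collecting `x_s x_r` produces `x_k`; `k = 24` if they commute. -/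
def okPair (p : ℕ × ℕ × ℕ) : Bool :=
  decide (p.2.1 < 24) && decide (p.1 < 24) && decide (p.1 ≠ p.2.1) && decide (p.1 ≠ chevD4.neg p.2.1) &&
    (if p.2.2 = 24 then (chevD4.commTerms p.2.1 p.1).isEmpty
     else decide (chevD4.commTerms p.2.1 p.1 = [(p.2.2, 1, 1, 1)]) || decide (chevD4.commTerms p.2.1 p.1 = [(p.2.2, -1, 1, 1)]))

variable {F : Type*} [Field F] [CharP F 2]

local notation "G" => GL chevD4.Idx F

/-- root element -/
noncomputable abbrev X (r : ℕ) (t : F) : G := xg c4 r t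

theorem neg2 (x : F) : -x = x := CharTwo.neg_eq x

theorem swap {s r k : ℕ} (h : okPair (s, r, k) = true) (hk : k ≠ 24) (u t : F) :
    X s u * X r t = X r t * (X s u * X k (t * u)) := by
  simp only [okPair, hk, if_false, Bool.and_eq_true, Bool.or_eq_true, decide_eq_true_eq] at h
  obtain ⟨⟨⟨⟨h1, h2⟩, h3⟩, h4⟩, h5⟩ := h
  rw [comm_formula c4 h1 h2 h3 h4 t u, mul_assoc]
  congr 2
  rcases h5 with e | e <;> simp [ChevalleyDatum.commWord, e, wg, neg2]

theorem swap0 {s r : ℕ} (h : okPair (s, r, 24) = true) (u t : F) : X s u * X r t = X r t * X s u := by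
  simp only [okPair, if_true, Bool.and_eq_true, decide_eq_true_eq, List.isEmpty_iff] at h
  obtain ⟨⟨⟨⟨h1, h2⟩, h3⟩, h4⟩, h5⟩ := h
  exact (TwistedTools.commute_xg c4 h1 h2 h3 h4 h5 t u).eq.symm

theorem swap' {s r k : ℕ} (h : okPair (s, r, k) = true) (hk : k ≠ 24) (u t : F) (w : G) :
    X s u * (X r t * w) = X r t * (X s u * (X k (t * u) * w)) := by
  rw [← mul_assoc, swap h hk, mul_assoc, mul_assoc]

theorem swap0' {s r : ℕ} (h : okPair (s, r, 24) = true) (u t : F) (w : G) :
    X s u * (X r t * w) = X r t * (X s u * w) := by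
  rw [← mul_assoc, swap0 h, mul_assoc]

theorem merge (r : ℕ) (t u : F) : X r t * X r u = X r (t + u) := xg_mul c4 r t u

theorem merge' (r : ℕ) (t u : F) (w : G) : X r t * (X r u * w) = X r (t + u) * w := by
  rw [← mul_assoc, merge]

theorem pairs_ok : ([(13, 18, 24), (12, 18, 24), (14, 18, 19), (19, 18, 24), (16, 18, 21), (15, 18, 20), (17, 18, 22), (20, 18, 24), (21, 18, 24), (22, 18, 24), (23, 18, 24), (12, 13, 24), (14, 13, 16), (19, 13, 21), (16, 13, 24), (15, 13, 17), (17, 13, 24), (20, 13, 22), (21, 13, 24), (22, 13, 24), (23, 13, 24), (14, 12, 15), (19, 12, 20), (16, 12, 17), (15, 12, 24), (17, 12, 24), (20, 12, 24), (21, 12, 22), (22, 12, 24), (23, 12, 24), (19, 14, 24), (16, 14, 24), (15, 14, 24), (17, 14, 24), (20, 14, 24), (21, 14, 24), (22, 14, 23), (23, 14, 24), (16, 19, 24), (15, 19, 24), (17, 19, 23), (20, 19, 24), (21, 19, 24), (22, 19, 24), (23, 19, 24), (15, 16, 24), (17, 16, 24), (20, 16, 23), (21, 16, 24), (22, 16, 24), (23, 16, 24), (17, 15, 24),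 (20, 15, 24), (21, 15, 23), (22, 15, 24), (23, 15, 24), (20, 17, 24), (21, 17, 24), (22, 17, 24), (23, 17, 24), (21, 20, 24), (22, 20, 24), (23, 20, 24), (22, 21, 24), (23, 21, 24), (23, 22, 24)] : List (ℕ × ℕ × ℕ)).all okPair = true := by decide +kernel

theorem ok (p : ℕ × ℕ × ℕ) (h : p ∈ ([(13, 18, 24), (12, 18, 24), (14, 18, 19), (19, 18, 24), (16, 18, 21), (15, 18, 20), (17, 18, 22), (20, 18, 24), (21, 18, 24), (22, 18, 24), (23, 18, 24), (12, 13, 24), (14, 13, 16), (19, 13, 21), (16, 13, 24), (15, 13, 17), (17, 13, 24), (20, 13, 22), (21, 13, 24), (22, 13, 24), (23, 13, 24), (14, 12, 15), (19, 12, 20), (16, 12, 17), (15, 12, 24), (17, 12, 24), (20, 12, 24), (21, 12, 22), (22, 12, 24), (23, 12, 24), (19, 14, 24), (16, 14, 24), (15, 14, 24), (17, 14, 24), (20, 14, 24), (21, 14, 24), (22, 14, 23), (23, 14, 24), (16, 19, 24), (15, 19, 24), (17, 19, 23), (20, 19, 24), (21, 19, 24), (22, 19, 24), (23, 19, 24), (15, 16, 24), (17, 16, 24), (20, 16, 23), (21, 16, 24), (22,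 16, 24), (23, 16, 24), (17, 15, 24), (20, 15, 24), (21, 15, 23), (22, 15, 24), (23, 15, 24), (20, 17, 24), (21, 17, 24), (22, 17, 24), (23, 17, 24), (21, 20, 24), (22, 20, 24), (23, 20, 24), (22, 21, 24), (23, 21, 24), (23, 22, 24)] : List (ℕ × ℕ × ℕ))) : okPair p = true :=
  List.all_eq_true.1 pairs_ok p h

theorem c13_18 (u t : F) : X 13 u * X 18 t = X 18 t * X 13 u := swap0 (ok _ (by decide)) u t
theorem c13_18' (u t : F) (w : G) : X 13 u * (X 18 t * w) = X 18 t * (X 13 u * w) := swap0' (ok _ (by decide)) u t w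
theorem c12_18 (u t : F) : X 12 u * X 18 t = X 18 t * X 12 u := swap0 (ok _ (by decide)) u t
theorem c12_18' (u t : F) (w : G) : X 12 u * (X 18 t * w) = X 18 t * (X 12 u * w) := swap0' (ok _ (by decide)) u t w
theorem c14_18 (u t : F) : X 14 u * X 18 t = X 18 t * (X 14 u * X 19 (t * u)) := swap (ok _ (by decide)) (by decide) u t
theorem c14_18' (u t : F) (w : G) : X 14 u * (X 18 t * w) = X 18 t * (X 14 u * (X 19 (t * u) * w)) := swap' (ok _ (by decide)) (by decide) u t w
theorem c19_18 (u t : F) : X 19 u * X 18 t = X 18 t * X 19 u := swap0 (ok _ (by decide)) u t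
theorem c19_18' (u t : F) (w : G) : X 19 u * (X 18 t * w) = X 18 t * (X 19 u * w) := swap0' (ok _ (by decide)) u t w
theorem c16_18 (u t : F) : X 16 u * X 18 t = X 18 t * (X 16 u * X 21 (t * u)) := swap (ok _ (by decide)) (by decide) u t
theorem c16_18' (u t : F) (w : G) : X 16 u * (X 18 t * w) = X 18 t * (X 16 u * (X 21 (t * u) * w)) := swap' (ok _ (by decide)) (by decide) u t w
theorem c15_18 (u t : F) : X 15 u * X 18 t = X 18 t * (X 15 u * X 20 (t * u)) := swap (ok _ (by decide)) (by decide) u t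
theorem c15_18' (u t : F) (w : G) : X 15 u * (X 18 t * w) = X 18 t * (X 15 u * (X 20 (t * u) * w)) := swap' (ok _ (by decide)) (by decide) u t w
theorem c17_18 (u t : F) : X 17 u * X 18 t = X 18 t * (X 17 u * X 22 (t * u)) := swap (ok _ (by decide)) (by decide) u t
theorem c17_18' (u t : F) (w : G) : X 17 u * (X 18 t * w) = X 18 t * (X 17 u * (X 22 (t * u) * w)) := swap' (ok _ (by decide)) (by decide) u t w
theorem c20_18 (u t : F) : X 20 u * X 18 t = X 18 t * X 20 u := swap0 (ok _ (by decide)) u t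
theorem c20_18' (u t : F) (w : G) : X 20 u * (X 18 t * w) = X 18 t * (X 20 u * w) := swap0' (ok _ (by decide)) u t w
theorem c21_18 (u t : F) : X 21 u * X 18 t = X 18 t * X 21 u := swap0 (ok _ (by decide)) u t
theorem c21_18' (u t : F) (w : G) : X 21 u * (X 18 t * w) = X 18 t * (X 21 u * w) := swap0' (ok _ (by decide)) u t w
theorem c22_18 (u t : F) : X 22 u * X 18 t = X 18 t * X 22 u := swap0 (ok _ (by decide)) u t
theorem c22_18' (u t : F) (w : G) : X 22 u * (X 18 t * w) = X 18 t * (X 22 u * w) := swap0' (ok _ (by decide)) u t w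
theorem c23_18 (u t : F) : X 23 u * X 18 t = X 18 t * X 23 u := swap0 (ok _ (by decide)) u t
theorem c23_18' (u t : F) (w : G) : X 23 u * (X 18 t * w) = X 18 t * (X 23 u * w) := swap0' (ok _ (by decide)) u t w
theorem c12_13 (u t : F) : X 12 u * X 13 t = X 13 t * X 12 u := swap0 (ok _ (by decide)) u t
theorem c12_13' (u t : F) (w : G) : X 12 u * (X 13 t * w) = X 13 t * (X 12 u * w) := swap0' (ok _ (by decide)) u t w
theorem c14_13 (u t : F) : X 14 u * X 13 t = X 13 t * (X 14 u * X 16 (t * u)) := swap (ok _ (by decide)) (by decide) u t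
theorem c14_13' (u t : F) (w : G) : X 14 u * (X 13 t * w) = X 13 t * (X 14 u * (X 16 (t * u) * w)) := swap' (ok _ (by decide)) (by decide) u t w
theorem c19_13 (u t : F) : X 19 u * X 13 t = X 13 t * (X 19 u * X 21 (t * u)) := swap (ok _ (by decide)) (by decide) u t
theorem c19_13' (u t : F) (w : G) : X 19 u * (X 13 t * w) = X 13 t * (X 19 u * (X 21 (t * u) * w)) := swap' (ok _ (by decide)) (by decide) u t w
theorem c16_13 (u t : F) : X 16 u * X 13 t = X 13 t * X 16 u := swap0 (ok _ (by decide)) u t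
theorem c16_13' (u t : F) (w : G) : X 16 u * (X 13 t * w) = X 13 t * (X 16 u * w) := swap0' (ok _ (by decide)) u t w
theorem c15_13 (u t : F) : X 15 u * X 13 t = X 13 t * (X 15 u * X 17 (t * u)) := swap (ok _ (by decide)) (by decide) u t
theorem c15_13' (u t : F) (w : G) : X 15 u * (X 13 t * w) = X 13 t * (X 15 u * (X 17 (t * u) * w)) := swap' (ok _ (by decide)) (by decide) u t w
theorem c17_13 (u t : F) : X 17 u * X 13 t = X 13 t * X 17 u := swap0 (ok _ (by decide)) u t
theorem c17_13' (u t : F) (w : G) : X 17 u * (X 13 t * w) = X 13 t * (X 17 u * w) := swap0' (ok _ (by decide)) u t w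
theorem c20_13 (u t : F) : X 20 u * X 13 t = X 13 t * (X 20 u * X 22 (t * u)) := swap (ok _ (by decide)) (by decide) u t
theorem c20_13' (u t : F) (w : G) : X 20 u * (X 13 t * w) = X 13 t * (X 20 u * (X 22 (t * u) * w)) := swap' (ok _ (by decide)) (by decide) u t w
theorem c21_13 (u t : F) : X 21 u * X 13 t = X 13 t * X 21 u := swap0 (ok _ (by decide)) u t
theorem c21_13' (u t : F) (w : G) : X 21 u * (X 13 t * w) = X 13 t * (X 21 u * w) := swap0' (ok _ (by decide)) u t w
theorem c22_13 (u t : F) : X 22 u * X 13 t = X 13 t * X 22 u := swap0 (ok _ (by decide)) u t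
theorem c22_13' (u t : F) (w : G) : X 22 u * (X 13 t * w) = X 13 t * (X 22 u * w) := swap0' (ok _ (by decide)) u t w
theorem c23_13 (u t : F) : X 23 u * X 13 t = X 13 t * X 23 u := swap0 (ok _ (by decide)) u t
theorem c23_13' (u t : F) (w : G) : X 23 u * (X 13 t * w) = X 13 t * (X 23 u * w) := swap0' (ok _ (by decide)) u t w
theorem c14_12 (u t : F) : X 14 u * X 12 t = X 12 t * (X 14 u * X 15 (t * u)) := swap (ok _ (by decide)) (by decide) u t
theorem c14_12' (u t : F) (w : G) : X 14 u * (X 12 t * w) = X 12 t * (X 14 u * (X 15 (t * u) * w)) := swap' (ok _ (by decide)) (by decide) u t w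
theorem c19_12 (u t : F) : X 19 u * X 12 t = X 12 t * (X 19 u * X 20 (t * u)) := swap (ok _ (by decide)) (by decide) u t
theorem c19_12' (u t : F) (w : G) : X 19 u * (X 12 t * w) = X 12 t * (X 19 u * (X 20 (t * u) * w)) := swap' (ok _ (by decide)) (by decide) u t w
theorem c16_12 (u t : F) : X 16 u * X 12 t = X 12 t * (X 16 u * X 17 (t * u)) := swap (ok _ (by decide)) (by decide) u t
theorem c16_12' (u t : F) (w : G) : X 16 u * (X 12 t * w) = X 12 t * (X 16 u * (X 17 (t * u) * w)) := swap' (ok _ (by decide)) (by decide) u t w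
theorem c15_12 (u t : F) : X 15 u * X 12 t = X 12 t * X 15 u := swap0 (ok _ (by decide)) u t
theorem c15_12' (u t : F) (w : G) : X 15 u * (X 12 t * w) = X 12 t * (X 15 u * w) := swap0' (ok _ (by decide)) u t w
theorem c17_12 (u t : F) : X 17 u * X 12 t = X 12 t * X 17 u := swap0 (ok _ (by decide)) u t
theorem c17_12' (u t : F) (w : G) : X 17 u * (X 12 t * w) = X 12 t * (X 17 u * w) := swap0' (ok _ (by decide)) u t w
theorem c20_12 (u t : F) : X 20 u * X 12 t = X 12 t * X 20 u := swap0 (ok _ (by decide)) u t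
theorem c20_12' (u t : F) (w : G) : X 20 u * (X 12 t * w) = X 12 t * (X 20 u * w) := swap0' (ok _ (by decide)) u t w
theorem c21_12 (u t : F) : X 21 u * X 12 t = X 12 t * (X 21 u * X 22 (t * u)) := swap (ok _ (by decide)) (by decide) u t
theorem c21_12' (u t : F) (w : G) : X 21 u * (X 12 t * w) = X 12 t * (X 21 u * (X 22 (t * u) * w)) := swap' (ok _ (by decide)) (by decide) u t w
theorem c22_12 (u t : F) : X 22 u * X 12 t = X 12 t * X 22 u := swap0 (ok _ (by decide)) u t
theorem c22_12' (u t : F) (w : G) : X 22 u * (X 12 t * w) = X 12 t * (X 22 u * w) := swap0' (ok _ (by decide)) u t w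
theorem c23_12 (u t : F) : X 23 u * X 12 t = X 12 t * X 23 u := swap0 (ok _ (by decide)) u t
theorem c23_12' (u t : F) (w : G) : X 23 u * (X 12 t * w) = X 12 t * (X 23 u * w) := swap0' (ok _ (by decide)) u t w
theorem c19_14 (u t : F) : X 19 u * X 14 t = X 14 t * X 19 u := swap0 (ok _ (by decide)) u t
theorem c19_14' (u t : F) (w : G) : X 19 u * (X 14 t * w) = X 14 t * (X 19 u * w) := swap0' (ok _ (by decide)) u t w
theorem c16_14 (u t : F) : X 16 u * X 14 t = X 14 t * X 16 u := swap0 (ok _ (by decide)) u t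
theorem c16_14' (u t : F) (w : G) : X 16 u * (X 14 t * w) = X 14 t * (X 16 u * w) := swap0' (ok _ (by decide)) u t w
theorem c15_14 (u t : F) : X 15 u * X 14 t = X 14 t * X 15 u := swap0 (ok _ (by decide)) u t
theorem c15_14' (u t : F) (w : G) : X 15 u * (X 14 t * w) = X 14 t * (X 15 u * w) := swap0' (ok _ (by decide)) u t w
theorem c17_14 (u t : F) : X 17 u * X 14 t = X 14 t * X 17 u := swap0 (ok _ (by decide)) u t
theorem c17_14' (u t : F) (w : G) : X 17 u * (X 14 t * w) = X 14 t * (X 17 u * w) := swap0' (ok _ (by decide)) u t w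
theorem c20_14 (u t : F) : X 20 u * X 14 t = X 14 t * X 20 u := swap0 (ok _ (by decide)) u t
theorem c20_14' (u t : F) (w : G) : X 20 u * (X 14 t * w) = X 14 t * (X 20 u * w) := swap0' (ok _ (by decide)) u t w
theorem c21_14 (u t : F) : X 21 u * X 14 t = X 14 t * X 21 u := swap0 (ok _ (by decide)) u t
theorem c21_14' (u t : F) (w : G) : X 21 u * (X 14 t * w) = X 14 t * (X 21 u * w) := swap0' (ok _ (by decide)) u t w
theorem c22_14 (u t : F) : X 22 u * X 14 t = X 14 t * (X 22 u * X 23 (t * u)) := swap (ok _ (by decide)) (by decide) u t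
theorem c22_14' (u t : F) (w : G) : X 22 u * (X 14 t * w) = X 14 t * (X 22 u * (X 23 (t * u) * w)) := swap' (ok _ (by decide)) (by decide) u t w
theorem c23_14 (u t : F) : X 23 u * X 14 t = X 14 t * X 23 u := swap0 (ok _ (by decide)) u t
theorem c23_14' (u t : F) (w : G) : X 23 u * (X 14 t * w) = X 14 t * (X 23 u * w) := swap0' (ok _ (by decide)) u t w
theorem c16_19 (u t : F) : X 16 u * X 19 t = X 19 t * X 16 u := swap0 (ok _ (by decide)) u t
theorem c16_19' (u t : F) (w : G) : X 16 u * (X 19 t * w) = X 19 t * (X 16 u * w) := swap0' (ok _ (by decide)) u t w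
theorem c15_19 (u t : F) : X 15 u * X 19 t = X 19 t * X 15 u := swap0 (ok _ (by decide)) u t
theorem c15_19' (u t : F) (w : G) : X 15 u * (X 19 t * w) = X 19 t * (X 15 u * w) := swap0' (ok _ (by decide)) u t w
theorem c17_19 (u t : F) : X 17 u * X 19 t = X 19 t * (X 17 u * X 23 (t * u)) := swap (ok _ (by decide)) (by decide) u t
theorem c17_19' (u t : F) (w : G) : X 17 u * (X 19 t * w) = X 19 t * (X 17 u * (X 23 (t * u) * w)) := swap' (ok _ (by decide)) (by decide) u t w
theorem c20_19 (u t : F) : X 20 u * X 19 t = X 19 t * X 20 u := swap0 (ok _ (by decide)) u t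
theorem c20_19' (u t : F) (w : G) : X 20 u * (X 19 t * w) = X 19 t * (X 20 u * w) := swap0' (ok _ (by decide)) u t w
theorem c21_19 (u t : F) : X 21 u * X 19 t = X 19 t * X 21 u := swap0 (ok _ (by decide)) u t
theorem c21_19' (u t : F) (w : G) : X 21 u * (X 19 t * w) = X 19 t * (X 21 u * w) := swap0' (ok _ (by decide)) u t w
theorem c22_19 (u t : F) : X 22 u * X 19 t = X 19 t * X 22 u := swap0 (ok _ (by decide)) u t
theorem c22_19' (u t : F) (w : G) : X 22 u * (X 19 t * w) = X 19 t * (X 22 u * w) := swap0' (ok _ (by decide)) u t w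
theorem c23_19 (u t : F) : X 23 u * X 19 t = X 19 t * X 23 u := swap0 (ok _ (by decide)) u t
theorem c23_19' (u t : F) (w : G) : X 23 u * (X 19 t * w) = X 19 t * (X 23 u * w) := swap0' (ok _ (by decide)) u t w
theorem c15_16 (u t : F) : X 15 u * X 16 t = X 16 t * X 15 u := swap0 (ok _ (by decide)) u t
theorem c15_16' (u t : F) (w : G) : X 15 u * (X 16 t * w) = X 16 t * (X 15 u * w) := swap0' (ok _ (by decide)) u t w
theorem c17_16 (u t : F) : X 17 u * X 16 t = X 16 t * X 17 u := swap0 (ok _ (by decide)) u t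
theorem c17_16' (u t : F) (w : G) : X 17 u * (X 16 t * w) = X 16 t * (X 17 u * w) := swap0' (ok _ (by decide)) u t w
theorem c20_16 (u t : F) : X 20 u * X 16 t = X 16 t * (X 20 u * X 23 (t * u)) := swap (ok _ (by decide)) (by decide) u t
theorem c20_16' (u t : F) (w : G) : X 20 u * (X 16 t * w) = X 16 t * (X 20 u * (X 23 (t * u) * w)) := swap' (ok _ (by decide)) (by decide) u t w
theorem c21_16 (u t : F) : X 21 u * X 16 t = X 16 t * X 21 u := swap0 (ok _ (by decide)) u t
theorem c21_16' (u t : F) (w : G) : X 21 u * (X 16 t * w) = X 16 t * (X 21 u * w) := swap0' (ok _ (by decide)) u t w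
theorem c22_16 (u t : F) : X 22 u * X 16 t = X 16 t * X 22 u := swap0 (ok _ (by decide)) u t
theorem c22_16' (u t : F) (w : G) : X 22 u * (X 16 t * w) = X 16 t * (X 22 u * w) := swap0' (ok _ (by decide)) u t w
theorem c23_16 (u t : F) : X 23 u * X 16 t = X 16 t * X 23 u := swap0 (ok _ (by decide)) u t
theorem c23_16' (u t : F) (w : G) : X 23 u * (X 16 t * w) = X 16 t * (X 23 u * w) := swap0' (ok _ (by decide)) u t w
theorem c17_15 (u t : F) : X 17 u * X 15 t = X 15 t * X 17 u := swap0 (ok _ (by decide)) u t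
theorem c17_15' (u t : F) (w : G) : X 17 u * (X 15 t * w) = X 15 t * (X 17 u * w) := swap0' (ok _ (by decide)) u t w
theorem c20_15 (u t : F) : X 20 u * X 15 t = X 15 t * X 20 u := swap0 (ok _ (by decide)) u t
theorem c20_15' (u t : F) (w : G) : X 20 u * (X 15 t * w) = X 15 t * (X 20 u * w) := swap0' (ok _ (by decide)) u t w
theorem c21_15 (u t : F) : X 21 u * X 15 t = X 15 t * (X 21 u * X 23 (t * u)) := swap (ok _ (by decide)) (by decide) u t
theorem c21_15' (u t : F) (w : G) : X 21 u * (X 15 t * w) = X 15 t * (X 21 u * (X 23 (t * u) * w)) := swap' (ok _ (by decide)) (by decide) u t w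
theorem c22_15 (u t : F) : X 22 u * X 15 t = X 15 t * X 22 u := swap0 (ok _ (by decide)) u t
theorem c22_15' (u t : F) (w : G) : X 22 u * (X 15 t * w) = X 15 t * (X 22 u * w) := swap0' (ok _ (by decide)) u t w
theorem c23_15 (u t : F) : X 23 u * X 15 t = X 15 t * X 23 u := swap0 (ok _ (by decide)) u t
theorem c23_15' (u t : F) (w : G) : X 23 u * (X 15 t * w) = X 15 t * (X 23 u * w) := swap0' (ok _ (by decide)) u t w
theorem c20_17 (u t : F) : X 20 u * X 17 t = X 17 t * X 20 u := swap0 (ok _ (by decide)) u t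
theorem c20_17' (u t : F) (w : G) : X 20 u * (X 17 t * w) = X 17 t * (X 20 u * w) := swap0' (ok _ (by decide)) u t w
theorem c21_17 (u t : F) : X 21 u * X 17 t = X 17 t * X 21 u := swap0 (ok _ (by decide)) u t
theorem c21_17' (u t : F) (w : G) : X 21 u * (X 17 t * w) = X 17 t * (X 21 u * w) := swap0' (ok _ (by decide)) u t w
theorem c22_17 (u t : F) : X 22 u * X 17 t = X 17 t * X 22 u := swap0 (ok _ (by decide)) u t
theorem c22_17' (u t : F) (w : G) : X 22 u * (X 17 t * w) = X 17 t * (X 22 u * w) := swap0' (ok _ (by decide)) u t w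
theorem c23_17 (u t : F) : X 23 u * X 17 t = X 17 t * X 23 u := swap0 (ok _ (by decide)) u t
theorem c23_17' (u t : F) (w : G) : X 23 u * (X 17 t * w) = X 17 t * (X 23 u * w) := swap0' (ok _ (by decide)) u t w
theorem c21_20 (u t : F) : X 21 u * X 20 t = X 20 t * X 21 u := swap0 (ok _ (by decide)) u t
theorem c21_20' (u t : F) (w : G) : X 21 u * (X 20 t * w) = X 20 t * (X 21 u * w) := swap0' (ok _ (by decide)) u t w
theorem c22_20 (u t : F) : X 22 u * X 20 t = X 20 t * X 22 u := swap0 (ok _ (by decide)) u t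
theorem c22_20' (u t : F) (w : G) : X 22 u * (X 20 t * w) = X 20 t * (X 22 u * w) := swap0' (ok _ (by decide)) u t w
theorem c23_20 (u t : F) : X 23 u * X 20 t = X 20 t * X 23 u := swap0 (ok _ (by decide)) u t
theorem c23_20' (u t : F) (w : G) : X 23 u * (X 20 t * w) = X 20 t * (X 23 u * w) := swap0' (ok _ (by decide)) u t w
theorem c22_21 (u t : F) : X 22 u * X 21 t = X 21 t * X 22 u := swap0 (ok _ (by decide)) u t
theorem c22_21' (u t : F) (w : G) : X 22 u * (X 21 t * w) = X 21 t * (X 22 u * w) := swap0' (ok _ (by decide)) u t w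
theorem c23_21 (u t : F) : X 23 u * X 21 t = X 21 t * X 23 u := swap0 (ok _ (by decide)) u t
theorem c23_21' (u t : F) (w : G) : X 23 u * (X 21 t * w) = X 21 t * (X 23 u * w) := swap0' (ok _ (by decide)) u t w
theorem c23_22 (u t : F) : X 23 u * X 22 t = X 22 t * X 23 u := swap0 (ok _ (by decide)) u t
theorem c23_22' (u t : F) (w : G) : X 23 u * (X 22 t * w) = X 22 t * (X 23 u * w) := swap0' (ok _ (by decide)) u t w


/-- sorting a product of root elements -/
macro "collect71" : tactic => `(tactic| simp only [mul_assoc, merge, merge', c13_18, c13_18', c12_18, c12_18', c14_18, c14_18', c19_18, c19_18', c16_18, c16_18', c15_18, c15_18', c17_18, c17_18', c20_18, c20_18', c21_18, c21_18', c22_18, c22_18', c23_18, c23_18', c12_13, c12_13', c14_13, c14_13', c19_13, c19_13', c16_13, c16_13', c15_13, c15_13', c17_13, c17_13', c20_13, c20_13', c21_13, c21_13', c22_13, c22_13', c23_13, c23_13', c14_12, c14_12', c19_12, c19_12', c16_12, c16_12', c15_12, c15_12', c17_12, c17_12',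 c20_12, c20_12', c21_12, c21_12', c22_12, c22_12', c23_12, c23_12', c19_14, c19_14', c16_14, c16_14', c15_14, c15_14', c17_14, c17_14', c20_14, c20_14', c21_14, c21_14', c22_14, c22_14', c23_14, c23_14', c16_19, c16_19', c15_19, c15_19', c17_19, c17_19', c20_19, c20_19', c21_19, c21_19', c22_19, c22_19', c23_19, c23_19', c15_16, c15_16', c17_16, c17_16', c20_16, c20_16', c21_16, c21_16', c22_16, c22_16', c23_16, c23_16', c17_15, c17_15', c20_15, c20_15', c21_15, c21_15', c22_15, c22_15', c23_15, c23_15', c20_17, c20_17', c21_17, c21_17', c22_17, c22_17', c23_17, c23_17', c21_20, c21_20', c22_20, c22_20', c23_20, c23_20', c22_21, c22_21', c23_21, c23_21', c23_22, c23_22'])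

/-- the normal form -/
noncomputable def nf (a : Fin 12 → F) : G :=
  X 18 (a 0) * X 13 (a 1) * X 12 (a 2) * X 14 (a 3) * X 19 (a 4) * X 16 (a 5) * X 15 (a 6) *
    X 17 (a 7) * X 20 (a 8) * X 21 (a 9) * X 22 (a 10) * X 23 (a 11)

theorem left_mem {r : ℕ} (hr : 12 ≤ r) (hr' : r < 24) (v : F) (a : Fin 12 → F) : ∃ b, X r v * nf a = nf b := by
  interval_cases r <;> (simp only [nf]; collect71; exact ⟨![_, _, _, _, _, _, _, _, _, _, _, _], by simp; rfl⟩)

theorem nf_zero : nf (0 : Fin 12 → F) = 1 := by simp [nf]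

theorem mem_posUnipotent {g : G} (hg : g ∈ chevD4.posUnipotent F) : ∃ a, g = nf a := by
  rw [ChevalleyDatum.posUnipotent] at hg
  induction hg using Subgroup.closure_induction_left with
  | one => exact ⟨0, nf_zero.symm⟩
  | mul_left x hx y _ ih =>
    obtain ⟨r, t, hr, hx⟩ := hx
    obtain rfl := (xg_eq_iff c4).1 hx
    obtain ⟨a, rfl⟩ := ih
    rw [isPos c4] at hr
    obtain ⟨b, hb⟩ := left_mem hr.1 hr.2 t a
    exact ⟨b, hb⟩
  | inv_mul_cancel x hx y _ ih =>
    obtain ⟨r, t, hr, hx⟩ := hx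
    obtain rfl := (xg_eq_iff c4).1 hx
    obtain ⟨a, rfl⟩ := ih
    rw [isPos c4] at hr
    obtain ⟨b, hb⟩ := left_mem hr.1 hr.2 (-t) a
    exact ⟨b, by rw [xg_inv c4]; exact hb⟩

theorem nf_mem (a : Fin 12 → F) : nf a ∈ chevD4.posUnipotent F := by
  have h : ∀ r : ℕ, 12 ≤ r → r < 24 → ∀ t : F, X r t ∈ chevD4.posUnipotent F := fun r h1 h2 t =>
    Subgroup.subset_closure ⟨r, t, (isPos c4).2 ⟨h1, h2⟩, (xg_eq_iff c4).2 rfl⟩
  simp only [nf]
  exact mul_mem (mul_mem (mul_mem (mul_mem (mul_mem (mul_mem (mul_mem (mul_mem (mul_mem (mul_mem (mul_mem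
    (h _ (by norm_num) (by norm_num) _) (h _ (by norm_num) (by norm_num) _)) (h _ (by norm_num) (by norm_num) _))
    (h _ (by norm_num) (by norm_num) _)) (h _ (by norm_num) (by norm_num) _)) (h _ (by norm_num) (by norm_num) _))
    (h _ (by norm_num) (by norm_num) _)) (h _ (by norm_num) (by norm_num) _)) (h _ (by norm_num) (by norm_num) _))
    (h _ (by norm_num) (by norm_num) _)) (h _ (by norm_num) (by norm_num) _)) (h _ (by norm_num) (by norm_num) _)

theorem nf_injective [Fintype F] : Function.Injective (nf (F := F)) := by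
  have h : Function.Bijective (fun a => (⟨nf a, nf_mem a⟩ : ↥(chevD4.posUnipotent F))) := by
    refine Function.Surjective.bijective_of_nat_card_le (fun g => ?_) ?_
    · obtain ⟨a, ha⟩ := mem_posUnipotent g.2
      exact ⟨a, Subtype.ext ha.symm⟩
    · rw [ChevalleyUnipotent.card_U c4]; simp [Nat.card_eq_fintype_card, chevD4]
  exact fun a b e => h.1 (Subtype.ext e)

end Cfsg.Agent.D4CharTwoNf71
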