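import Cfsg.Agent.Lib.StemPairing
import Mathlib

/-!
Central extensions of a `2`-group generated by an elementary abelian group `A` and an involution whose
`A`-conjugates have commutators in a group of order two.
-/

set_option autoImplicit false
set_option linter.unusedSectionVars false
set_option linter.unusedVariables false

namespace Cfsg.Agent.StemRegular9

open Subgroup
open scoped commutatorElement

variable {Γ G : Type*} [Group Γ] [Group G] {σ : Γ →* G}

/-- a group generated by commuting-modulo-`d` elements with squares in `⟨d⟩` is small -/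
theorem card_closure_le [Finite Γ] (d : Γ) (hd : d * d = 1) : ∀ l : List Γ,
    (∀ a ∈ l, Commute a d) → (∀ a ∈ l, a * a = 1 ∨ a * a = d) →
    (∀ a ∈ l, ∀ b ∈ l, ⁅a, b⁆ = 1 ∨ ⁅a, b⁆ = d) →
    Nat.card (closure (insert d {x | x ∈ l})) ≤ 2 ^ (l.length + 1) := by
  intro l
  induction l with
  | nil =>
    intro _ _ _
    have e : closure (insert d {x : Γ | x ∈ ([] : List Γ)}) = zpowers d := by
      rw [zpowers_eq_closure]; congr 1; ext x; simp
    rw [e, Nat.card_zpowers, List.length_nil, zero_add, pow_one]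
    exact Nat.le_of_dvd two_pos (orderOf_dvd_of_pow_eq_one (by rw [pow_two, hd]))
  | cons a l ih =>
    intro hc hsq hbr
    set L := closure (insert d {x | x ∈ l}) with hL
    have hdL : d ∈ L := subset_closure (Set.mem_insert _ _)
    have hlL : ∀ b ∈ l, b ∈ L := fun b hb => subset_closure (Set.mem_insert_of_mem _ hb)
    have haa : a * a ∈ L := by
      rcases hsq a List.mem_cons_self with h | h <;> rw [h]
      exacts [one_mem _, hdL]
    have hn : ∀ v ∈ L, a * v * a⁻¹ ∈ L := by
      intro v hv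
      induction hv using closure_induction with
      | mem x hx =>
        rcases hx with rfl | hx
        · rw [(hc a List.mem_cons_self).eq, mul_inv_cancel_right]; exact hdL
        · have e : a * x * a⁻¹ = ⁅a, x⁆ * x := by rw [commutatorElement_def]; group
          rw [e]
          refine mul_mem ?_ (hlL x hx)
          rcases hbr a List.mem_cons_self x (List.mem_cons_of_mem _ hx) with h | h <;> rw [h]
          exacts [one_mem _, hdL]
      | one => simp
      | mul x y _ _ hx hy => simpa [mul_assoc] using mul_mem hx hy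
      | inv x _ hx => simpa [mul_assoc] using inv_mem hx
    have hn' : ∀ v ∈ L, a⁻¹ * v * a ∈ L := by
      intro v hv
      have e : a⁻¹ * v * a = (a * a)⁻¹ * (a * v * a⁻¹) * (a * a) := by group
      rw [e]
      exact mul_mem (mul_mem (inv_mem haa) (hn v hv)) haa
    have hcover : ∀ g ∈ closure (insert d {x | x ∈ a :: l}), g ∈ L ∨ a⁻¹ * g ∈ L := by
      intro g hg
      induction hg using closure_induction with
      | mem x hx =>
        rcases hx with rfl | hx
        · exact Or.inl hdL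
        · rcases List.mem_cons.1 hx with rfl | hx
          · exact Or.inr (by simp)
          · exact Or.inl (hlL x hx)
      | one => exact Or.inl (one_mem _)
      | mul x y _ _ hx hy =>
        rcases hx with hx | hx <;> rcases hy with hy | hy
        · exact Or.inl (mul_mem hx hy)
        · refine Or.inr ?_
          have e : a⁻¹ * (x * y) = (a⁻¹ * x * a) * (a⁻¹ * y) := by group
          rw [e]; exact mul_mem (hn' x hx) hy
        · refine Or.inr ?_
          rw [← mul_assoc]; exact mul_mem hx hy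
        · refine Or.inl ?_
          have e : x * y = a * (a⁻¹ * x) * a⁻¹ * (a * a) * (a⁻¹ * y) := by group
          rw [e]; exact mul_mem (mul_mem (hn _ hx) haa) hy
      | inv x _ hx =>
        rcases hx with hx | hx
        · exact Or.inl (inv_mem hx)
        · refine Or.inr ?_
          have e : a⁻¹ * x⁻¹ = a⁻¹ * (a⁻¹ * x)⁻¹ * a * (a * a)⁻¹ := by group
          rw [e]; exact mul_mem (hn' _ (inv_mem hx)) (inv_mem haa)
    have hsub : ∀ x ∈ L, x ∈ closure (insert d {x | x ∈ a :: l}) := fun x hx =>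
      closure_mono (Set.insert_subset_insert (fun y hy => List.mem_cons_of_mem _ hy)) hx
    have haC : a ∈ closure (insert d {x | x ∈ a :: l}) :=
      subset_closure (Set.mem_insert_of_mem _ List.mem_cons_self)
    let m : Bool × L → closure (insert d {x | x ∈ a :: l}) := fun p =>
      ⟨(if p.1 then a else 1) * (p.2 : Γ), mul_mem (by split <;> [exact haC; exact one_mem _]) (hsub _ p.2.2)⟩
    have hm : Function.Surjective m := by
      rintro ⟨g, hg⟩
      rcases hcover g hg with h | h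
      · exact ⟨(false, ⟨g, h⟩), Subtype.ext (by simp [m])⟩
      · exact ⟨(true, ⟨_, h⟩), Subtype.ext (by simp [m])⟩
    refine (Nat.card_le_card_of_surjective m hm).trans ?_
    rw [Nat.card_prod, List.length_cons, pow_succ', Nat.card_eq_fintype_card, Fintype.card_bool]
    exact Nat.mul_le_mul_left _ (ih (fun x hx => hc x (List.mem_cons_of_mem _ hx))
      (fun x hx => hsq x (List.mem_cons_of_mem _ hx))
      fun x hx y hy => hbr x (List.mem_cons_of_mem _ hx) y (List.mem_cons_of_mem _ hy))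

variable [Finite Γ] [Finite G]

/-- the hypotheses: `SA` lifts the elementary abelian `A`, `A` and `b` generate `U`, and all
commutators of conjugates of `b` under `A` lie in the central group `{1, c}`; some elements of odd order
centralising `b` and `c` are transitive on the non-trivial elements of `A` -/
structure Data (σ : Γ →* G) (U A : Subgroup G) (SA : Subgroup Γ) (b c : G) : Prop where
  cen : σ.ker ≤ center Γ
  map_eq : SA.map σ = A
  inj : ∀ x ∈ SA, σ x = 1 → x = 1
  sq : ∀ a ∈ A, a * a = 1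
  comm : ∀ x y : Γ, σ x ∈ A → σ y ∈ A → Commute x y
  gen : U = closure (insert b (A : Set G))
  bsq : b * b = 1
  csq : c * c = 1
  cA : ∀ x y : Γ, σ x ∈ A → σ y = c → Commute x y
  cb : Commute c b
  bracket : ∀ a ∈ A, ⁅b, a * b * a⁻¹⁆ = 1 ∨ ⁅b, a * b * a⁻¹⁆ = c
  size : Nat.card U = 2 ^ (2 * 6)
  sizeA : Nat.card A = 8
  trans : ∀ x ∈ A, ∀ y ∈ A, x ≠ 1 → y ≠ 1 →
    ∃ h : Γ, σ h * x * (σ h)⁻¹ = y ∧ Commute (σ h) b ∧ Commute (σ h) c ∧ σ h ^ 7 = 1

theorem Data.kerFree (hs : Function.Surjective σ) {U A : Subgroup G} {SA : Subgroup Γ} {b c : G}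
    (D : Data σ U A SA b c) : StemBasic.KerFree σ U := by
  classical
  obtain ⟨β, hβ⟩ := hs b
  have hlift : ∀ a ∈ A, ∃ s ∈ SA, σ s = a := fun a ha => by rw [← D.map_eq] at ha; exact ha
  have hσA : ∀ s ∈ SA, σ s ∈ A := fun s hs' => D.map_eq ▸ Subgroup.mem_map_of_mem σ hs'
  choose L hLS hLσ using fun a : A => hlift a a.2
  have hLmul : ∀ a a' : A, L a * L a' = L (a * a') := by
    intro a a'
    have h := D.inj ((L a * L a') * (L (a * a'))⁻¹) (mul_mem (mul_mem (hLS _) (hLS _)) (inv_mem (hLS _)))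
      (by rw [map_mul, map_mul, map_inv, hLσ, hLσ, hLσ, Subgroup.coe_mul, mul_inv_cancel])
    exact mul_inv_eq_one.1 h
  have hL1 : L 1 = 1 := D.inj _ (hLS _) (by rw [hLσ]; rfl)
  have hA2 : ∀ a : A, a * a = 1 := fun a => Subtype.ext (D.sq a a.2)
  let g : A → Γ := fun a => L a * β * (L a)⁻¹
  have hg1 : g 1 = β := by simp [g, hL1]
  have hgconj : ∀ a a' : A, L a * g a' * (L a)⁻¹ = g (a * a') := by
    intro a a'
    simp only [g, ← hLmul]; group
  have hker : ∀ {z}, σ z = 1 → ∀ x : Γ, x * z = z * x := fun hz x => StemBasic.ker_comm D.cen hz x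
  have hσg : ∀ a : A, σ (g a) = (a : G) * b * (a : G)⁻¹ := fun a => by simp [g, hLσ, hβ]
  have he : ∀ x y : A, σ ⁅g x, g y⁆ = 1 ∨ σ ⁅g x, g y⁆ = c := by
    intro x y
    have e1 : g x = L x * g 1 * (L x)⁻¹ := by rw [hgconj, mul_one]
    have e2 : g y = L x * g (x * y) * (L x)⁻¹ := by rw [hgconj, ← mul_assoc, hA2, one_mul]
    rw [e1, e2, ← conjugate_commutatorElement, map_mul, map_mul, map_inv, map_commutatorElement, hσg, hσg, hLσ]
    have hb' : ((1 : A) : G) * b * ((1 : A) : G)⁻¹ = b := by simp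
    rw [hb']
    rcases D.bracket _ (x * y).2 with h | h <;> rw [h]
    · left; simp
    · right
      obtain ⟨γ, hγ⟩ := hs c
      have := congrArg σ (D.cA (L x) γ (by rw [hLσ]; exact x.2) hγ).eq
      rw [map_mul, map_mul, hLσ, hγ] at this
      rw [this, mul_inv_cancel_right]
  have hAfix : ∀ (a x y : A), L a * ⁅g x, g y⁆ * (L a)⁻¹ = ⁅g x, g y⁆ := by
    intro a x y
    have h : Commute (L a) ⁅g x, g y⁆ := by
      rcases he x y with h | h
      · exact hker h _
      · exact D.cA _ _ (by rw [hLσ]; exact a.2) h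
    rw [h.eq, mul_inv_cancel_right]
  have htrans : ∀ x y : A, ⁅g x, g y⁆ = ⁅g 1, g (x * y)⁆ := by
    intro x y
    conv_rhs => rw [← hAfix x 1 (x * y), conjugate_commutatorElement, hgconj, hgconj, mul_one, ← mul_assoc,
      hA2, one_mul]
  have hne : ∃ a0 : A, a0 ≠ 1 := by
    by_contra hcon
    push Not at hcon
    have h1 : Nat.card A = 1 := Nat.card_eq_one_iff_unique.2 ⟨⟨fun a a' => (hcon a).trans (hcon a').symm⟩, ⟨1⟩⟩
    rw [D.sizeA] at h1; norm_num at h1
  obtain ⟨a0, ha0⟩ := hne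
  set d := ⁅g 1, g a0⁆ with hd
  have hσd : σ d = 1 ∨ σ d = c := he 1 a0
  have hd2 : σ (d * d) = 1 := by
    rw [map_mul]; rcases hσd with h | h <;> rw [h]
    exacts [one_mul 1, D.csq]
  have hall : ∀ a : A, a ≠ 1 → ⁅g 1, g a⁆ = d := by
    intro a ha
    obtain ⟨h, hh1, hhb, hhc, hh7⟩ := D.trans a0 a0.2 a a.2 (fun e => ha0 (Subtype.ext e))
      (fun e => ha (Subtype.ext e))
    have hconj : h * d * h⁻¹ = ⁅g 1, g a⁆ := by
      rw [hd, conjugate_commutatorElement]
      refine StemPairing.bracket_congr D.cen ?_ ?_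
      · rw [hg1, map_mul, map_mul, map_inv, hβ, hhb.eq, mul_inv_cancel_right]
      · rw [map_mul, map_mul, map_inv, hσg, hσg]
        rw [show σ h * ((a0 : G) * b * (a0 : G)⁻¹) * (σ h)⁻¹ =
          (σ h * a0 * (σ h)⁻¹) * (σ h * b * (σ h)⁻¹) * (σ h * a0 * (σ h)⁻¹)⁻¹ by group, hh1, hhb.eq,
          mul_inv_cancel_right]
    have hcomm : Commute (σ h) (σ d) := by
      rcases hσd with e | e <;> rw [e]
      exacts [Commute.one_right _, hhc]
    obtain ⟨z, hz, hze⟩ := StemBasic.exists_ker_mul (σ := σ) (a := h * d * h⁻¹) (b := d)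
      (by rw [map_mul, map_mul, map_inv, hcomm.eq, mul_inv_cancel_right])
    have hzc : ∀ x, Commute x z := hker hz
    have hpow : ∀ k : ℕ, h ^ k * d * (h ^ k)⁻¹ = d * z ^ k := by
      intro k
      induction k with
      | zero => simp
      | succ k ih =>
        rw [pow_succ', show h * h ^ k * d * (h * h ^ k)⁻¹ = h * (h ^ k * d * (h ^ k)⁻¹) * h⁻¹ by group, ih]
        calc h * (d * z ^ k) * h⁻¹ = h * d * (z ^ k * h⁻¹) := by group
          _ = h * d * (h⁻¹ * z ^ k) := by rw [((hzc h⁻¹).pow_right k).eq]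
          _ = d * z * z ^ k := by rw [← hze]; group
          _ = d * z ^ (k + 1) := by rw [pow_succ', mul_assoc]
    have h7 : z ^ 7 = 1 := by
      have e := hpow 7
      have hk : σ (h ^ 7) = 1 := by rw [map_pow, hh7]
      rw [← hker hk d, mul_inv_cancel_right] at e
      exact left_eq_mul.1 e
    have h2 : z ^ 2 = 1 := by
      have e : h * (d * d) * h⁻¹ = (h * d * h⁻¹) * (h * d * h⁻¹) := by group
      rw [hze, hker hd2 h, mul_inv_cancel_right] at e
      have e' : d * z * (d * z) = d * d * z ^ 2 := by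
        rw [pow_two, mul_assoc d z, ← mul_assoc z d, ← (hzc d).eq]; group
      rw [e'] at e
      exact left_eq_mul.1 e
    have hz1 : z = 1 := by
      have : z ^ 7 = z := by rw [show 7 = 2 * 3 + 1 from rfl, pow_succ, pow_mul, h2, one_pow, one_mul]
      rw [← this, h7]
    rw [← hconj, hze, hz1, mul_one]
  have hpair : ∀ x y : A, x ≠ y → ⁅g x, g y⁆ = d := fun x y hxy => by
    rw [htrans, hall]
    intro e
    exact hxy (by rw [← mul_one x, ← hA2 y, ← mul_assoc, e, one_mul])
  have hdd : d * d = 1 := by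
    have h := commutatorElement_inv (g 1) (g a0)
    rw [← hd, hpair a0 1 ha0] at h
    exact mul_eq_one_iff_eq_inv.2 h.symm
  have hdA : ∀ a : A, Commute (L a) d := fun a => mul_inv_eq_iff_eq_mul.1 (hAfix a 1 a0)
  have hμ : ∀ x : A, ⁅d, g x⁆ = ⁅d, g 1⁆ := by
    intro x
    have h0 : L x * ⁅d, g 1⁆ * (L x)⁻¹ = ⁅d, g x⁆ := by
      rw [conjugate_commutatorElement, (hdA x).eq, mul_inv_cancel_right, hgconj, mul_one]
    rw [← h0, hker ?_ (L x), mul_inv_cancel_right]
    rw [map_commutatorElement, commutatorElement_eq_one_iff_mul_comm, hg1, hβ]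
    rcases hσd with e | e <;> rw [e]
    exacts [(Commute.one_left b).eq, D.cb.eq]
  have hgd : ∀ w : A, Commute (g w) d := by
    intro w
    obtain ⟨x, y, hxw, hyw, hxy⟩ : ∃ x y : A, x ≠ w ∧ y ≠ w ∧ x ≠ y := by
      haveI := Fintype.ofFinite A
      have hcard : Fintype.card A = 8 := by rw [← Nat.card_eq_fintype_card, D.sizeA]
      have h1 : 1 < ((Finset.univ : Finset A).erase w).card := by
        rw [Finset.card_erase_of_mem (Finset.mem_univ w), Finset.card_univ, hcard]; norm_num
      obtain ⟨x, hx, y, hy, hxy⟩ := Finset.one_lt_card.1 h1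
      exact ⟨x, y, (Finset.mem_erase.1 hx).1, (Finset.mem_erase.1 hy).1, hxy⟩
    have e := conjugate_commutatorElement (g x) (g y) (g w)
    have c1 : ∀ u : A, u ≠ w → g w * g u * (g w)⁻¹ = d * g u := by
      intro u hu
      rw [← hpair w u hu.symm, commutatorElement_def]; group
    rw [c1 x hxw, c1 y hyw, hpair x y hxy] at e
    have hk : ∀ u : A, σ ⁅d, g u⁆ = 1 := by
      intro u
      rw [hμ, map_commutatorElement, commutatorElement_eq_one_iff_mul_comm, hg1, hβ]
      rcases hσd with e | e <;> rw [e]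
      exacts [(Commute.one_left b).eq, D.cb.eq]
    have e2 : ⁅d * g x, d * g y⁆ = d * ⁅g x, d * g y⁆ * d⁻¹ * ⁅d, d * g y⁆ := by
      simp only [commutatorElement_def]; group
    have e3 : ⁅g x, d * g y⁆ = ⁅g x, d⁆ * (d * ⁅g x, g y⁆ * d⁻¹) := by
      simp only [commutatorElement_def]; group
    have e4 : ⁅d, d * g y⁆ = d * ⁅d, g y⁆ * d⁻¹ := by simp only [commutatorElement_def]; group
    have hm : ⁅g x, d⁆ = (⁅d, g 1⁆)⁻¹ := by rw [← commutatorElement_inv, hμ]
    have hzc := hker (hk 1)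
    rw [e2, e3, e4, hpair x y hxy, hm, hμ y, mul_inv_cancel_right, hzc d, mul_inv_cancel_right] at e
    have e5 : d * (⁅d, g 1⁆⁻¹ * d) * d⁻¹ * ⁅d, g 1⁆ = d := by
      rw [← mul_assoc, mul_inv_cancel_right, mul_assoc, inv_mul_cancel, mul_one]
    rw [e5] at e
    exact mul_inv_eq_iff_eq_mul.1 e
  -- the derived group
  have hbd : Commute β d := hg1 ▸ hgd 1
  let e : A → Γ := fun a => g a * β⁻¹
  haveI := Fintype.ofFinite A
  set l := ((Finset.univ : Finset A).erase 1).toList.map e with hl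
  set Dq := closure (insert d {x | x ∈ l}) with hDq
  have hdD : d ∈ Dq := subset_closure (Set.mem_insert _ _)
  have heD : ∀ a : A, e a ∈ Dq := by
    intro a
    by_cases ha : a = 1
    · subst ha; simp only [e, hg1, mul_inv_cancel]; exact one_mem _
    · refine subset_closure (Set.mem_insert_of_mem _ (List.mem_map.2 ⟨a, ?_, rfl⟩))
      simp [ha]
  have hgg : ∀ x y : A, ⁅g x, g y⁆ = 1 ∨ ⁅g x, g y⁆ = d := by
    intro x y
    by_cases h : x = y
    · left; rw [h, commutatorElement_self]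
    · right; exact hpair x y h
  have hβe : ∀ a : A, β * e a * β⁻¹ = ⁅β, g a⁆ * e a := by
    intro a; simp only [e, commutatorElement_def]; group
  have hβbr : ∀ a : A, Commute d ⁅β, g a⁆ ∧ ⁅β, g a⁆ ∈ Dq := by
    intro a
    rcases hg1 ▸ hgg 1 a with h | h <;> rw [h]
    exacts [⟨Commute.one_right d, one_mem _⟩, ⟨Commute.refl d, hdD⟩]
  have hk2 : ∀ a : A, g a * g a = β * β := by
    intro a
    have h : σ (β * β) = 1 := by rw [map_mul, hβ, D.bsq]
    calc g a * g a = L a * (β * β) * (L a)⁻¹ := by simp only [g]; group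
      _ = β * β := by rw [hker h (L a), mul_inv_cancel_right]
  have hcard : Nat.card Dq ≤ 2 ^ 8 := by
    have hlen : l.length = 7 := by
      rw [hl, List.length_map, Finset.length_toList, Finset.card_erase_of_mem (Finset.mem_univ _),
        Finset.card_univ, ← Nat.card_eq_fintype_card, D.sizeA]
    have := card_closure_le d hdd l ?_ ?_ ?_
    · rwa [hlen] at this
    · intro a ha
      obtain ⟨x, -, rfl⟩ := List.mem_map.1 ha
      exact (hgd x).mul_left hbd.inv_left
    · intro a ha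
      obtain ⟨x, hx, rfl⟩ := List.mem_map.1 ha
      have hx1 : x ≠ 1 := by simpa using hx
      right
      have hd' : ⁅g x, β⁻¹⁆ = d := by
        have e1 : ⁅g x, β⁻¹⁆ = β⁻¹ * ⁅g x, β⁆⁻¹ * β := by simp only [commutatorElement_def]; group
        rw [e1, ← hg1, hpair x 1 hx1, inv_eq_of_mul_eq_one_right hdd, hg1, mul_assoc, ← hbd.eq,
          inv_mul_cancel_left]
      have e2 : e x * e x = (g x * g x) * ((g x)⁻¹ * β⁻¹ * g x) * β⁻¹ := by simp only [e]; group
      have e3 : (g x)⁻¹ * β⁻¹ * g x = d * β⁻¹ := by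
        have e4 : g x * β⁻¹ * (g x)⁻¹ = d * β⁻¹ := by
          rw [← hd', commutatorElement_def]; group
        have e5 : (g x)⁻¹ * β⁻¹ * g x = (g x * g x)⁻¹ * (g x * β⁻¹ * (g x)⁻¹) * (g x * g x) := by group
        rw [e5, e4, hk2]
        have hβ2 : Commute (β * β) (d * β⁻¹) :=
          (((hbd.mul_left hbd)).mul_right ((Commute.refl β).inv_right.mul_left (Commute.refl β).inv_right))
        rw [mul_assoc, ← hβ2.eq, inv_mul_cancel_left]
      rw [e2, e3, hk2, show β * β * (d * β⁻¹) * β⁻¹ = β * (β * d * β⁻¹) * β⁻¹ by group, hbd.eq,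
        mul_inv_cancel_right, hbd.eq, mul_inv_cancel_right]
    · intro a ha a' ha'
      obtain ⟨x, -, rfl⟩ := List.mem_map.1 ha
      obtain ⟨y, -, rfl⟩ := List.mem_map.1 ha'
      have hcd : ∀ u : A, Commute (g u) d := hgd
      have hz : ∀ {p}, p = 1 ∨ p = d → ∀ w : Γ, Commute w d → Commute w p := by
        rintro p (rfl | rfl) w hw
        exacts [Commute.one_right w, hw]
      have hb1 : ⁅β⁻¹, g y⁆ = 1 ∨ ⁅β⁻¹, g y⁆ = d := by
        have e1 : ⁅β⁻¹, g y⁆ = β⁻¹ * ⁅β, g y⁆⁻¹ * β := by simp only [commutatorElement_def]; group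
        rcases hg1 ▸ hgg 1 y with h | h
        · left; rw [e1, h]; group
        · right; rw [e1, h, inv_eq_of_mul_eq_one_right hdd, mul_assoc, ← hbd.eq, inv_mul_cancel_left]
      have hb2 : ⁅g x, β⁻¹⁆ = 1 ∨ ⁅g x, β⁻¹⁆ = d := by
        have e1 : ⁅g x, β⁻¹⁆ = β⁻¹ * ⁅g x, β⁆⁻¹ * β := by simp only [commutatorElement_def]; group
        rcases hg1 ▸ hgg x 1 with h | h
        · left; rw [e1, h]; group
        · right; rw [e1, h, inv_eq_of_mul_eq_one_right hdd, mul_assoc, ← hbd.eq, inv_mul_cancel_left]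
      have e2 : ⁅e x, e y⁆ = g x * (⁅β⁻¹, g y⁆ * (g y * ⁅β⁻¹, β⁻¹⁆ * (g y)⁻¹)) * (g x)⁻¹ *
          (⁅g x, g y⁆ * (g y * ⁅g x, β⁻¹⁆ * (g y)⁻¹)) := by
        simp only [e, commutatorElement_def]; group
      rw [commutatorElement_self, mul_one, mul_inv_cancel, mul_one] at e2
      rw [e2, (hz hb1 (g x) (hcd x)).eq, mul_inv_cancel_right, (hz hb2 (g y) (hcd y)).eq, mul_inv_cancel_right]
      rcases hb1 with h | h <;> rcases hgg x y with h' | h' <;> rcases hb2 with h'' | h'' <;>
        rw [h, h', h''] <;> simp [hdd]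
  -- the image
  set M := Dq.map σ with hM
  have hconjD : ∀ v : Γ, (∀ x ∈ insert d {x | x ∈ l}, v * x * v⁻¹ ∈ Dq) → ∀ x ∈ Dq, v * x * v⁻¹ ∈ Dq := by
    intro v hv x hx
    induction hx using closure_induction with
    | mem x hx => exact hv x hx
    | one => simp
    | mul x y _ _ hx hy => simpa [mul_assoc] using mul_mem hx hy
    | inv x _ hx => simpa [mul_assoc] using inv_mem hx
  have hnA : ∀ a : A, ∀ x ∈ Dq, L a * x * (L a)⁻¹ ∈ Dq := fun a => hconjD _ (by
    intro x hx
    rcases hx with rfl | hx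
    · rw [(hdA a).eq, mul_inv_cancel_right]; exact hdD
    · obtain ⟨u, -, rfl⟩ := List.mem_map.1 hx
      have e1 : L a * e u * (L a)⁻¹ = e (a * u) * (e a)⁻¹ := by
        simp only [e, ← hgconj a u]
        simp only [g]; group
      rw [e1]; exact mul_mem (heD _) (inv_mem (heD _)))
  have hnb : ∀ x ∈ Dq, β * x * β⁻¹ ∈ Dq := hconjD _ (by
    intro x hx
    rcases hx with rfl | hx
    · rw [hbd.eq, mul_inv_cancel_right]; exact hdD
    · obtain ⟨u, -, rfl⟩ := List.mem_map.1 hx
      rw [hβe]; exact mul_mem (hβbr u).2 (heD u))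
  have hab : ∀ a : A, ⁅L a, β⁆ ∈ Dq := fun a => by
    have : ⁅L a, β⁆ = e a := by simp only [e, g, commutatorElement_def]
    rw [this]; exact heD a
  -- lifts of `U`
  set R := closure (insert β (SA : Set Γ)) with hR
  have hSA : ∀ s ∈ SA, ∀ x ∈ Dq, s * x * s⁻¹ ∈ Dq := by
    intro s hs' x hx
    have : s = L ⟨σ s, hσA s hs'⟩ :=
      mul_inv_eq_one.1 (D.inj _ (mul_mem hs' (inv_mem (hLS _))) (by rw [map_mul, map_inv, hLσ]; simp))
    rw [this]; exact hnA _ x hx
  have hSAb : ∀ s ∈ SA, ⁅s, β⁆ ∈ Dq := by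
    intro s hs'
    have : s = L ⟨σ s, hσA s hs'⟩ :=
      mul_inv_eq_one.1 (D.inj _ (mul_mem hs' (inv_mem (hLS _))) (by rw [map_mul, map_inv, hLσ]; simp))
    rw [this]; exact hab _
  have hRn : ∀ r ∈ R, ∀ x ∈ Dq, r * x * r⁻¹ ∈ Dq ∧ r⁻¹ * x * r ∈ Dq := by
    intro r hr
    induction hr using closure_induction with
    | mem r hr =>
      intro x hx
      rcases hr with rfl | hr
      · refine ⟨hnb x hx, ?_⟩
        have e1 : r⁻¹ * x * r = (r * r)⁻¹ * (r * x * r⁻¹) * (r * r) := by group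
        have h : σ (r * r) = 1 := by rw [map_mul, hβ, D.bsq]
        rw [e1, mul_assoc, hker h (r * x * r⁻¹), inv_mul_cancel_left]
        exact hnb x hx
      · refine ⟨hSA r hr x hx, ?_⟩
        simpa using hSA r⁻¹ (inv_mem hr) x hx
    | one => intro x hx; simpa using hx
    | mul a a' _ _ ha ha' =>
      intro x hx
      exact ⟨by simpa [mul_assoc] using (ha _ (ha' x hx).1).1, by simpa [mul_assoc] using (ha' _ (ha x hx).2).2⟩
    | inv a _ ha =>
      intro x hx
      exact ⟨by simpa using (ha x hx).2, by simpa using (ha x hx).1⟩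
  have hRbr : ∀ r ∈ R, ∀ r' ∈ R, ⁅r, r'⁆ ∈ Dq := by
    have hgen : ∀ r ∈ (insert β (SA : Set Γ)), ∀ r' ∈ (insert β (SA : Set Γ)), ⁅r, r'⁆ ∈ Dq := by
      intro r hr r' hr'
      rcases hr with rfl | hr <;> rcases hr' with rfl | hr'
      · rw [commutatorElement_self]; exact one_mem _
      · rw [← commutatorElement_inv]; exact inv_mem (hSAb r' hr')
      · exact hSAb r hr
      · rw [commutatorElement_eq_one_iff_commute.2 (D.comm _ _ (hσA r hr) (hσA r' hr'))]
        exact one_mem _
    intro r hr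
    induction hr using closure_induction with
    | mem r hr =>
      intro r' hr'
      induction hr' using closure_induction with
      | mem r' hr' => exact hgen r hr r' hr'
      | one => simp
      | mul x y hx _ ihx ihy =>
        have e1 : ⁅r, x * y⁆ = ⁅r, x⁆ * (x * ⁅r, y⁆ * x⁻¹) := by simp only [commutatorElement_def]; group
        rw [e1]; exact mul_mem ihx (hRn x hx _ ihy).1
      | inv x hx ihx =>
        have e1 : ⁅r, x⁻¹⁆ = x⁻¹ * ⁅r, x⁆⁻¹ * x := by simp only [commutatorElement_def]; group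
        rw [e1]; exact (hRn x hx _ (inv_mem ihx)).2
    | one => intro r' _; simp
    | mul x y hx _ ihx ihy =>
      intro r' hr'
      have e1 : ⁅x * y, r'⁆ = x * ⁅y, r'⁆ * x⁻¹ * ⁅x, r'⁆ := by simp only [commutatorElement_def]; group
      rw [e1]; exact mul_mem (hRn x hx _ (ihy r' hr')).1 (ihx r' hr')
    | inv x hx ihx =>
      intro r' hr'
      have e1 : ⁅x⁻¹, r'⁆ = x⁻¹ * ⁅x, r'⁆⁻¹ * x := by simp only [commutatorElement_def]; group
      rw [e1]; exact (hRn x hx _ (inv_mem (ihx r' hr'))).2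
  have hUR : R.map σ = U := by
    rw [hR, MonoidHom.map_closure, Set.image_insert_eq, hβ, ← Subgroup.coe_map, D.map_eq, D.gen]
  have hcover : ∀ u ∈ U, ∃ m ∈ M, ∃ i : Bool, ∃ a ∈ A, u = m * (if i then b else 1) * a := by
    have hMn : ∀ u ∈ U, ∀ m ∈ M, u * m * u⁻¹ ∈ M := by
      intro u hu m hm
      rw [← hUR] at hu
      obtain ⟨r, hr, rfl⟩ := hu
      obtain ⟨x, hx, rfl⟩ := hm
      exact ⟨_, (hRn r hr x hx).1, by simp⟩
    have hUM : ∀ u ∈ U, ∀ v ∈ U, ⁅u, v⁆ ∈ M := by
      intro u hu v hv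
      rw [← hUR] at hu hv
      obtain ⟨r, hr, rfl⟩ := hu
      obtain ⟨r', hr', rfl⟩ := hv
      exact ⟨_, hRbr r hr r' hr', map_commutatorElement _ _ _⟩
    have hAU : ∀ a ∈ A, a ∈ U := fun a ha => D.gen ▸ subset_closure (Set.mem_insert_of_mem _ ha)
    have hbU : b ∈ U := D.gen ▸ subset_closure (Set.mem_insert _ _)
    have hi : ∀ i : Bool, (if i then b else 1) ∈ U := by rintro (_ | _) <;> simp [hbU, one_mem]
    intro u hu
    rw [D.gen] at hu
    induction hu using closure_induction_left with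
    | one => exact ⟨1, one_mem _, false, 1, one_mem _, by simp⟩
    | mul_left x hx y _ ih =>
      obtain ⟨m, hm, i, a, ha, rfl⟩ := ih
      rcases hx with rfl | hx
      · refine ⟨x * m * x⁻¹, hMn x hbU m hm, !i, a, ha, ?_⟩
        rcases i with _ | _ <;> simp [mul_assoc, inv_eq_of_mul_eq_one_right D.bsq] <;> rw [← mul_assoc, D.bsq, one_mul]
      · refine ⟨x * m * x⁻¹ * ⁅x, if i then b else 1⁆, mul_mem (hMn x (hAU x hx) m hm)
          (hUM x (hAU x hx) _ (hi i)), i, x * a, mul_mem hx ha, ?_⟩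
        rw [commutatorElement_def]; group
    | inv_mul_cancel x hx y _ ih =>
      obtain ⟨m, hm, i, a, ha, rfl⟩ := ih
      rcases hx with rfl | hx
      · have hxx : x⁻¹ = x := inv_eq_of_mul_eq_one_right D.bsq
        rw [hxx]
        refine ⟨x * m * x⁻¹, hMn x hbU m hm, !i, a, ha, ?_⟩
        rcases i with _ | _ <;> simp [mul_assoc, inv_eq_of_mul_eq_one_right D.bsq] <;> rw [← mul_assoc, D.bsq, one_mul]
      · have hxU := inv_mem (hAU x hx)
        refine ⟨x⁻¹ * m * x⁻¹⁻¹ * ⁅x⁻¹, if i then b else 1⁆, mul_mem (hMn _ hxU m hm)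
          (hUM _ hxU _ (hi i)), i, x⁻¹ * a, mul_mem (inv_mem hx) ha, ?_⟩
        rw [commutatorElement_def]; group
  have hMcard : 2 ^ 8 ≤ Nat.card M := by
    have hMU : M ≤ U := by
      rw [← hUR]
      refine Subgroup.map_mono ((closure_le _).2 ?_)
      rintro x (rfl | hx)
      · rw [hd, commutatorElement_def]
        have hgR : ∀ a : A, g a ∈ R := fun a => mul_mem (mul_mem (subset_closure (Set.mem_insert_of_mem _ (hLS a)))
          (subset_closure (Set.mem_insert _ _))) (inv_mem (subset_closure (Set.mem_insert_of_mem _ (hLS a))))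
        exact mul_mem (mul_mem (mul_mem (hgR 1) (hgR a0)) (inv_mem (hgR 1))) (inv_mem (hgR a0))
      · obtain ⟨a, -, rfl⟩ := List.mem_map.1 hx
        exact mul_mem (mul_mem (mul_mem (subset_closure (Set.mem_insert_of_mem _ (hLS a)))
          (subset_closure (Set.mem_insert _ _))) (inv_mem (subset_closure (Set.mem_insert_of_mem _ (hLS a)))))
          (inv_mem (subset_closure (Set.mem_insert _ _)))
    let k : M × Bool × A → U := fun p => ⟨(p.1 : G) * (if p.2.1 then b else 1) * (p.2.2 : G), by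
      refine mul_mem (mul_mem (hMU p.1.2) ?_) (D.gen ▸ subset_closure (Set.mem_insert_of_mem _ p.2.2.2))
      split
      · exact D.gen ▸ subset_closure (Set.mem_insert _ _)
      · exact one_mem _⟩
    have hk : Function.Surjective k := by
      rintro ⟨u, hu⟩
      obtain ⟨m, hm, i, a, ha, rfl⟩ := hcover u hu
      exact ⟨(⟨m, hm⟩, i, ⟨a, ha⟩), rfl⟩
    have := Nat.card_le_card_of_surjective k hk
    rw [D.size, Nat.card_prod, Nat.card_prod, D.sizeA, Nat.card_eq_fintype_card (α := Bool), Fintype.card_bool]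
      at this
    omega
  have hinj : ∀ x ∈ Dq, σ x = 1 → x = 1 := by
    let r : Dq → M := fun x => ⟨σ x, ⟨x, x.2, rfl⟩⟩
    have hr : Function.Surjective r := by
      rintro ⟨_, x, hx, rfl⟩
      exact ⟨⟨x, hx⟩, rfl⟩
    have hb := hr.bijective_of_nat_card_le (hcard.trans hMcard)
    intro x hx h1
    exact congrArg Subtype.val (hb.1 (a₁ := ⟨x, hx⟩) (a₂ := 1) (Subtype.ext (by simp [r, h1])))
  intro w hw hw1
  refine hinj w ?_ hw1
  refine (show (commutator (U.comap σ)).map (U.comap σ).subtype ≤ Dq from ?_) hw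
  rw [Subgroup.map_le_iff_le_comap, _root_.commutator_def, Subgroup.commutator_le]
  intro x _ y _
  show ⁅(x : Γ), (y : Γ)⁆ ∈ Dq
  obtain ⟨r, hr, hre⟩ : σ (x : Γ) ∈ R.map σ := hUR ▸ x.2
  obtain ⟨r', hr', hre'⟩ : σ (y : Γ) ∈ R.map σ := hUR ▸ y.2
  rw [StemPairing.bracket_congr D.cen hre.symm hre'.symm]
  exact hRbr r hr r' hr'

end Cfsg.Agent.StemRegular9
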