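import Cfsg.Agent.Lib.TwistedWeyl
import Cfsg.Agent.S0319

/-!
Perfectness and simplicity of a group of fixed points of a twist.
-/

set_option autoImplicit false
set_option linter.unusedSectionVars false

namespace Cfsg.Agent.TwistedCore

open Cfsg.Lie Cfsg.Agent.ChevalleyCert Cfsg.Agent.ChevalleyCore Cfsg.Agent.ChevalleyTorus
  Cfsg.Agent.ChevWeyl Cfsg.Agent.ChevBruhat
open scoped commutatorElement

variable {D : ChevalleyDatum} {C : Cert D} {F : Type*} [Field F]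

/-- the subgroup of the negatives of the root subgroups made negative by `w` -/
def Twist.Vw (T : Twist C F) (w : T.X.W) : Subgroup (GL D.Idx F) :=
  Subgroup.closure {g | ∃ r t, r ∈ T.X.invSet w ∧ g = T.S.xg (D.neg r) t}

namespace Classes

variable {T : Twist C F} {G1 : Subgroup (GL D.Idx F)} (K : Classes T G1)

lemma negConj (J : K.κ) {x : GL D.Idx F} (hx : x ∈ G1) (hV : x ∈ T.Vw (K.cw J)) :
    (K.cn J)⁻¹ * x * K.cn J ∈ T.UF (K.cw J) := by
  have hacts : T.S.Acts (K.cn J)⁻¹ (K.cw J) := by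
    have := (T.S.acts_toW (K.cnN J)).inv T.S
    rw [K.cn_toW J, show (T.wd (K.cl J))⁻¹ = K.cw J from K.cw_inv J] at this
    exact this
  refine ⟨?_, Subgroup.mul_mem _ (Subgroup.mul_mem _ (Subgroup.inv_mem _ (K.G1_le (K.cn_G1 J))) (K.G1_le hx))
    (K.G1_le (K.cn_G1 J))⟩
  have : (K.cn J)⁻¹ * x * (K.cn J)⁻¹⁻¹ ∈ T.S.Uw (K.cw J) := by
    refine Sys.conj_closure_le (T := {g | ∃ r t, r ∈ T.X.invSet (K.cw J) ∧ g = T.S.xg (D.neg r) t}) _ ?_ hV
    rintro y ⟨r, t, hr, rfl⟩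
    obtain ⟨c, -, -, h2⟩ := hacts r (T.X.mem_invSet.mp hr).1.1
    rw [h2]
    refine Subgroup.subset_closure ⟨_, c⁻¹ * t, ?_, rfl⟩
    rw [T.X.mem_invSet] at hr ⊢
    have hlt := T.X.img_lt (K.cw J) hr.1.1
    refine ⟨(T.X.pos_neg_iff hlt).mpr hr.2, ?_⟩
    rw [T.X.img_neg _ hlt, ← T.X.img_mul, K.cl_sq J, T.X.img_one,
      ← T.X.pos_neg_iff (T.X.root_facts hr.1.1).1, (T.X.root_facts hr.1.1).2.1]
    exact hr.1
  rwa [inv_inv] at this

variable [Fintype F]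

/-- a group generated by the fixed parts of the classes and their opposites is perfect when these parts lie in
its derived group -/
theorem perfect_of (A : Set (GL D.Idx F)) (hA : G1 = Subgroup.closure A)
    (hgen : ∀ a ∈ A, ∃ J : K.κ, a ∈ T.UF (K.cw J) ∨ a ∈ T.Vw (K.cw J))
    (hder : ∀ J, T.UF (K.cw J) ≤ ⁅G1, G1⁆) : commutator ↥G1 = ⊤ := by
  apply Subgroup.map_injective G1.subtype_injective
  rw [commutator_def, Subgroup.map_commutator, ← MonoidHom.range_eq_map, Subgroup.range_subtype]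
  refine le_antisymm (Subgroup.commutator_le.mpr fun a ha b hb => ?_) ?_
  · exact Subgroup.mul_mem _ (Subgroup.mul_mem _ (Subgroup.mul_mem _ ha hb) (Subgroup.inv_mem _ ha))
      (Subgroup.inv_mem _ hb)
  rw [hA, Subgroup.closure_le, ← hA]
  intro a ha
  have haG : a ∈ G1 := by rw [hA]; exact Subgroup.subset_closure ha
  obtain ⟨J, h | h⟩ := hgen a ha
  · exact hder J h
  · have h1 := hder J (K.negConj J haG h)
    set n := K.cn J
    have hn : n ∈ G1 := K.cn_G1 J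
    have h2 : ⁅n, n⁻¹ * a * n⁆ ∈ ⁅G1, G1⁆ :=
      Subgroup.commutator_mem_commutator hn (G1.mul_mem (G1.mul_mem (G1.inv_mem hn) haG) hn)
    have e : a = ⁅n, n⁻¹ * a * n⁆ * (n⁻¹ * a * n) := by rw [commutatorElement_def]; group
    rw [e]
    exact mul_mem h2 h1

include K in
lemma fixed_V_le {v : GL D.Idx F} (hv : v ∈ D.negUnipotent F) (hf : v ∈ T.Fixed) : v ∈ G1 := by
  obtain ⟨w0, hw0, hneg, -⟩ := T.exists_w0_fix
  obtain ⟨m, hm, hmw⟩ := K.exists_rep hw0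
  have hacts := (T.S.acts_toW m).inv T.S
  rw [hmw] at hacts
  have hU : (m : GL D.Idx F)⁻¹ * v * (m : GL D.Idx F)⁻¹⁻¹ ∈ D.posUnipotent F := by
    refine Sys.conj_closure_le (T := {g : GL D.Idx F | ∃ (r : ℕ) (t : F), D.IsNegRoot r ∧
      (g : Matrix D.Idx D.Idx F) = D.x F r t}) _ ?_ hv
    rintro y ⟨r, t, hr, hy⟩
    obtain ⟨c, -, h1, -⟩ := hacts r hr.1
    rw [T.S.eq_xg.mp hy, h1]
    refine T.S.xg_mem_U ?_ _
    have hlt := T.X.img_lt w0⁻¹ hr.1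
    refine (T.X.pos_or_neg hlt).resolve_right fun hn => ?_
    have h := hneg _ ((T.X.pos_neg_iff hlt).mpr hn)
    rw [T.X.img_neg _ hlt, T.X.img_img_inv, ← T.X.pos_neg_iff (T.X.root_facts hr.1).1,
      (T.X.root_facts hr.1).2.1] at h
    exact T.X.not_pos_and_neg h hr
  rw [inv_inv] at hU
  have hf' := K.G1_le hm
  have h1 := K.fixed_U_le hU (Subgroup.mul_mem _ (Subgroup.mul_mem _ (Subgroup.inv_mem _ hf') hf) hf')
  have := G1.mul_mem (G1.mul_mem hm h1) (G1.inv_mem hm)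
  simpa [mul_assoc] using this

/-- simplicity from Tits' criterion -/
theorem simple_of (hB : Group.IsSolvable ↥(D.borelSubgroup F))
    (hcore : ((D.borelSubgroup F ⊓ G1).subgroupOf G1).normalCore = ⊥)
    (hperf : commutator ↥G1 = ⊤)
    (hirr : ∀ A : Set K.κ, A.Nonempty → Aᶜ.Nonempty →
      ∃ J ∈ A, ∃ L ∉ A, ∃ r < D.nroots, pact T.X.P (K.cl J ++ K.cl L) r ≠ pact T.X.P (K.cl L ++ K.cl J) r)
    (h0 : 0 < D.rank) :
    IsSimpleGroup ↥G1 ∧ ¬ IsMulCommutative ↥G1 := by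
  set P := K.bnPair with hP
  haveI : Nontrivial ↥G1 := by
    refine ⟨⟨⟨K.cn (K.cls 0), K.cn_G1 _⟩, 1, fun h => ?_⟩⟩
    have h1 : K.cnN (K.cls 0) = 1 := Subtype.ext (congrArg Subtype.val h :)
    have h2 := K.cn_toW (K.cls 0)
    rw [show (⟨K.cn (K.cls 0), K.cn_N _⟩ : ↥(D.monomialSubgroup F)) = 1 from h1, map_one] at h2
    exact K.cw_ne_one _ h2.symm
  have hnc : ¬ IsMulCommutative ↥G1 := by
    intro hc
    have h : commutator ↥G1 = ⊥ := by
      rw [eq_bot_iff, commutator_def, Subgroup.commutator_le]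
      intro a _ b _
      rw [Subgroup.mem_bot, commutatorElement_eq_one_iff_commute]
      exact hc.is_comm.comm a b
    rw [hperf] at h
    exact top_ne_bot h
  refine ⟨?_, hnc⟩
  have hsolv : Group.IsSolvable ↥P.B := by
    let f : ↥P.B →* ↥(D.borelSubgroup F) :=
      (G1.subtype.comp P.B.subtype).codRestrict _ fun b => (b.2 : (b : GL D.Idx F) ∈ D.borelSubgroup F ⊓ G1).1
    exact @Group.isSolvable_of_isSolvable_injective _ _ _ _ f
      (fun a b h => Subtype.ext (Subtype.ext (congrArg (fun z : ↥(D.borelSubgroup F) => (z : GL D.Idx F)) h :))) hB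
  refine S0319.result P ?_ hsolv hperf hcore
  intro A hA hne hne'
  obtain ⟨s, hs⟩ := hne
  obtain ⟨s', hs'⟩ := hne'
  obtain ⟨J0, rfl⟩ := hA hs
  obtain ⟨L0, rfl⟩ := hs'.1
  let B : Set K.κ := {J | (⟨K.cn J, K.cn_G1 J⟩ : ↥G1) ∈ A}
  obtain ⟨J, hJ, L, hL, r, hr, hne⟩ := hirr B ⟨J0, hs⟩ ⟨L0, hs'.2⟩
  refine ⟨_, hJ, _, ⟨⟨L, rfl⟩, hL⟩, fun hB' => hne ?_⟩
  have hN : K.cn J * K.cn L * (K.cn J)⁻¹ * (K.cn L)⁻¹ ∈ D.monomialSubgroup F :=
    mul_mem (mul_mem (mul_mem (K.cn_N J) (K.cn_N L)) (inv_mem (K.cn_N J))) (inv_mem (K.cn_N L))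
  have hH : (⟨_, hN⟩ : ↥(D.monomialSubgroup F)) ∈ T.S.toW.ker :=
    T.S.toW_ker.ge (T.S.B_inf_N.le ⟨(Subgroup.mem_subgroupOf.mp hB').1, hN⟩)
  have he : (⟨_, hN⟩ : ↥(D.monomialSubgroup F)) = K.cnN J * K.cnN L * (K.cnN J)⁻¹ * (K.cnN L)⁻¹ := rfl
  rw [MonoidHom.mem_ker, he] at hH
  simp only [map_mul, map_inv, K.cn_toW] at hH
  have hcomm : T.wd (K.cl J ++ K.cl L) = T.wd (K.cl L ++ K.cl J) := by
    rw [T.wd_append, T.wd_append]
    calc T.wd (K.cl J) * T.wd (K.cl L)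
        = T.wd (K.cl J) * T.wd (K.cl L) * (T.wd (K.cl J))⁻¹ * (T.wd (K.cl L))⁻¹ *
            (T.wd (K.cl L) * T.wd (K.cl J)) := by group
      _ = _ := by rw [hH, one_mul]
  rw [← T.img_pact _ hr, ← T.img_pact _ hr, hcomm]

end Classes

end Cfsg.Agent.TwistedCore
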