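import Cfsg.Agent.Lib.TwistedD4Torus
import Cfsg.Agent.Lib.TwistedSimple
import Cfsg.Agent.S1050

/-!
`³D₄(q)` is perfect and simple.
-/

set_option autoImplicit false
set_option linter.unusedSectionVars false
set_option maxRecDepth 20000

namespace Cfsg.Agent.TwistedD4

open Cfsg.Lie Cfsg.Agent.ChevalleyCert Cfsg.Agent.ChevalleyCore Cfsg.Agent.ChevalleyRoots Cfsg.Agent.ChevalleyTorus
  Cfsg.Agent.TwistedCore Cfsg.Agent.TwistedTools Cfsg.Agent.ChevWeyl Cfsg.Agent.ChevBruhat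
open scoped commutatorElement

variable {K : Type*} [Field K] {q : ℕ} (f : K →+* K) (hf : ∀ t, f t = t ^ q)
variable [Fintype K] (hK : Fintype.card K = q ^ 3)

theorem sg_all {r : ℕ} (hr : r < chevD4.nroots) (t : K) :
    (tw f).sg (xg c4 r t) =
      xg c4 (ChevalleyGraph.symD4a.rho r) ((ChevalleyGraph.symD4a.eps r : K) * f t) := by
  rw [(tw f).sg_eq (xg_mem_group c4 r t)]
  show (Units.mapEquiv (ChevalleyGraph.conjM (F := K) chevD4 ChevalleyGraph.symD4a))
    (Matrix.GeneralLinearGroup.map f (xg c4 r t)) = _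
  rw [xg_map]
  apply Units.ext
  exact ChevalleyGraph.conjM_x ChevalleyGraph.symD4a c4 hr (f t)

include hf hK in
theorem tri_comm (t : K) : tri t (t ^ q) (t ^ q ^ 2) ∈ ⁅twistedD4 K q, twistedD4 K q⁆ := by
  have hq := TwistedField.one_lt_base hK
  obtain ⟨b, hb⟩ : ∃ b : Kˣ, (b : K) ^ 2 ≠ 1 := by
    by_contra hcon
    push Not at hcon
    have h1 : Nat.card {t : Kˣ // t ^ 2 = 1} = Nat.card Kˣ :=
      Nat.card_congr (Equiv.subtypeUnivEquiv fun x => Units.ext (by rw [Units.val_pow_eq_pow_val, hcon, Units.val_one]))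
    rw [TwistedField.card_units_pow, TwistedField.card_units_eq, hK] at h1
    have h2 := Nat.gcd_le_right (q ^ 3 - 1) (show 0 < 2 by norm_num)
    have h3 : 2 ^ 3 ≤ q ^ 3 := Nat.pow_le_pow_left hq 3
    omega
  set h := torus chevD4 (tp q 1 b) with hh
  have hhG : h ∈ twistedD4 K q := torus_tp_mem f hf (one_pow q) b
  obtain ⟨t0, t1, t2, t3⟩ := tchar_simples (tp q 1 b)
  obtain ⟨e1, e2, e3, e4, -⟩ := simples
  set x := t / ((b : K) ^ 2 - 1) with hx
  have hne : (b : K) ^ 2 - 1 ≠ 0 := sub_ne_zero.mpr hb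
  have hc1 : (tchar chevD4 (tp q 1 b) d4p1 : K) = (b : K) ^ 2 := by rw [← e1, t0]; simp [tp]
  have hc3 : (tchar chevD4 (tp q 1 b) d4p3 : K) = ((b : K) ^ 2) ^ q := by
    rw [← e3, t2]; simp [tp, ← pow_mul, mul_comm]
  have hc4 : (tchar chevD4 (tp q 1 b) d4p4 : K) = ((b : K) ^ 2) ^ q ^ 2 := by
    rw [← e4, t3]; simp [tp, ← pow_mul, mul_comm]
  have hconj : h * tri x (x ^ q) (x ^ q ^ 2) * h⁻¹ =
      tri ((b : K) ^ 2 * x) (((b : K) ^ 2 * x) ^ q) (((b : K) ^ 2 * x) ^ q ^ 2) := by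
    have e : h * tri x (x ^ q) (x ^ q ^ 2) * h⁻¹ = (h * xg c4 d4p1 x * h⁻¹) * (h * xg c4 d4p3 (x ^ q) * h⁻¹) *
        (h * xg c4 d4p4 (x ^ q ^ 2) * h⁻¹) := by unfold tri; group
    rw [e, hh, torus_conj_xg c4 (by decide +kernel), torus_conj_xg c4 (by decide +kernel),
      torus_conj_xg c4 (by decide +kernel), hc1, hc3, hc4, tri, mul_pow, mul_pow]
  have hinv : (tri x (x ^ q) (x ^ q ^ 2))⁻¹ = tri (-x) (-(x ^ q)) (-(x ^ q ^ 2)) := by
    apply inv_eq_of_mul_eq_one_right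
    rw [tri_mul]; simp [tri]
  have key : ⁅h, tri x (x ^ q) (x ^ q ^ 2)⁆ = tri t (t ^ q) (t ^ q ^ 2) := by
    rw [commutatorElement_def, hconj, hinv, tri_mul]
    have h1 : (b : K) ^ 2 * x + -x = t := by rw [hx]; field_simp; ring
    rw [h1]
    congr 1
    · rw [← hf, ← hf, ← hf, ← map_neg, ← map_add, h1]
    · rw [← f_f f hf, ← f_f f hf, ← f_f f hf, ← map_neg, ← map_neg, ← map_add, ← map_add, h1]
  rw [← key]
  exact Subgroup.commutator_mem_commutator hhG (tri_mem q x).1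

theorem long_pair : (23 : ℕ) < chevD4.nroots ∧ 1 < chevD4.nroots ∧ chevD4.neg 23 ≠ 1 ∧
    chevD4.IsPosRoot 23 ∧ chevD4.IsNegRoot 1 ∧ ChevalleyGraph.symD4a.rho 23 = 23 ∧
    ChevalleyGraph.symD4a.rho 1 = 1 ∧
    (chevD4.commTerms 23 1 = [(14, 1, 1, 1)] ∨ chevD4.commTerms 23 1 = [(14, -1, 1, 1)]) := by decide +kernel

include hf hK in
theorem p2_comm {t : K} (ht : t ^ q = t) : xg c4 d4p2 t ∈ ⁅twistedD4 K q, twistedD4 K q⁆ := by
  by_cases hb : ∃ b : Kˣ, (b : K) * (b : K) ^ q * (b : K) ^ q ^ 2 ≠ 1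
  · obtain ⟨b, hb⟩ := hb
    set h := torus chevD4 (tp q 1 b) with hh
    have hhG : h ∈ twistedD4 K q := torus_tp_mem f hf (one_pow q) b
    obtain ⟨t0, t1, t2, t3⟩ := tchar_simples (tp q 1 b)
    obtain ⟨e1, e2, e3, e4, -⟩ := simples
    set N := (b : K) * (b : K) ^ q * (b : K) ^ q ^ 2 with hN
    have hc : (tchar chevD4 (tp q 1 b) d4p2 : K) = N⁻¹ := by rw [← e2, t1, hN]; simp [tp, mul_comm, mul_left_comm]
    have hNq : N ^ q = N := by
      rw [hN, mul_pow, mul_pow, ← pow_mul, ← pow_mul, ← pow_two, ← pow_succ, pow_q3 hK]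
      ring
    set c := N⁻¹ - 1 with hc'
    have hne : c ≠ 0 := sub_ne_zero.mpr (by simpa using hb)
    have hcq : c ^ q = c := by rw [hc', ← hf, map_sub, map_one, map_inv₀, hf, hNq]
    have hxq : (t / c) ^ q = t / c := by rw [div_pow, ht, hcq]
    have key : ⁅h, xg c4 d4p2 (t / c)⁆ = xg c4 d4p2 t := by
      rw [commutatorElement_def, hh, torus_conj_xg c4 (by decide +kernel), hc, xg_inv c4, xg_mul c4]
      congr 1
      rw [← sub_eq_add_neg, ← sub_one_mul, ← hc', mul_div_cancel₀ _ hne]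
    rw [← key]
    exact Subgroup.commutator_mem_commutator hhG (xg_mem_p2 q hxq).1
  · push Not at hb
    have hq := TwistedField.one_lt_base hK
    have hq2 : q = 2 := by
      by_contra hne
      have h1 : Nat.card {t : Kˣ // t ^ (q ^ 2 + q + 1) = 1} = Nat.card Kˣ :=
        Nat.card_congr (Equiv.subtypeUnivEquiv fun x => Units.ext (by
          have := hb x
          rw [Units.val_pow_eq_pow_val, Units.val_one, ← this]
          ring))
      rw [TwistedField.card_units_pow, TwistedField.card_units_eq, hK] at h1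
      have h2 := Nat.gcd_le_right (q ^ 3 - 1) (show 0 < q ^ 2 + q + 1 by positivity)
      obtain ⟨k, rfl⟩ : ∃ k, q = k + 3 := ⟨q - 3, by omega⟩
      have h3 : (k + 3) ^ 3 = (k + 2) * ((k + 3) ^ 2 + (k + 3) + 1) + 1 := by ring
      have h4 : ((k + 3) ^ 2 + (k + 3) + 1) * 2 ≤ (k + 2) * ((k + 3) ^ 2 + (k + 3) + 1) := by
        rw [mul_comm]; exact Nat.mul_le_mul_right _ (by omega)
      omega
    haveI : CharP K 2 := charP_of_card_eq_prime_pow (p := 2) (f := 3) (by rw [hK, hq2])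
    have ht' : t = 0 ∨ t = 1 := by
      rw [hq2] at ht
      have h0 : t * (t - 1) = 0 := by rw [mul_sub, mul_one, ← pow_two, ht, sub_self]
      exact (mul_eq_zero.mp h0).imp id sub_eq_zero.mp
    rcases ht' with rfl | rfl
    · rw [xg_zero]; exact one_mem _
    obtain ⟨h23, h1, hne, hp, hn, r23, r1, hterm⟩ := long_pair
    have hneg : (-1 : K) = 1 := CharTwo.neg_eq 1
    have heps : ∀ r, r < chevD4.nroots → ((ChevalleyGraph.symD4a.eps r : ℤ) : K) = 1 := by
      intro r hr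
      rcases mul_self_eq_one_iff.mp (ChevalleyGraph.symD4a.neg_ok r hr).2.2 with e | e <;> simp [e, hneg]
    have hu : xg c4 23 (1 : K) ∈ twistedD4 K q :=
      (classes f hf hK).fixed_U_le ((tw f).S.xg_mem_U hp 1)
        ⟨xg_mem_group c4 _ _, by rw [sg_all f h23, r23, map_one, heps 23 h23, one_mul]⟩
    have hv : xg c4 1 (1 : K) ∈ twistedD4 K q :=
      (classes f hf hK).fixed_V_le ((tw f).S.xg_mem_V hn 1)
        ⟨xg_mem_group c4 _ _, by rw [sg_all f h1, r1, map_one, heps 1 h1, one_mul]⟩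
    have hform := comm_formula c4 h23 h1 (by decide) (fun h => hne h.symm) (1 : K) 1
    have hw : wg c4 (chevD4.commWord K 23 1 (1 : K) 1) = xg c4 d4p2 1 := by
      rcases hterm with e | e <;> simp [ChevalleyDatum.commWord, e, wg, hneg, d4p2]
    rw [hw] at hform
    have e : xg c4 d4p2 (1 : K) = ⁅(xg c4 1 (1 : K))⁻¹, (xg c4 23 (1 : K))⁻¹⁆ := by
      rw [commutatorElement_def, inv_inv, inv_inv, mul_assoc _ (xg c4 1 (1 : K)), hform]
      group
    rw [e]
    exact Subgroup.commutator_mem_commutator (inv_mem hv) (inv_mem hu)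

include hf hK in
theorem perfect : commutator ↥(twistedD4 K q) = ⊤ := by
  refine (classes f hf hK).perfect_of _ rfl ?_ ?_
  · intro a ha
    obtain ⟨w, hw, he⟩ := ha
    obtain rfl : a = wg c4 w := Units.ext (he.trans (coe_wg c4 w).symm)
    have hfix := le_fixed f hf hK (mem_gen c4 hw)
    obtain ⟨-, -, -, -, g1, g2, g3, g4⟩ := simples
    have hV : ∀ (J : Bool), ∀ r ∈ (if J then [d4p2] else [d4p1, d4p3, d4p4]), ∀ t : K,
        xg c4 (chevD4.neg r) t ∈ (tw f).Vw ((tw f).wd (cl4 J)) := fun J r hr t =>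
      Subgroup.subset_closure ⟨r, t, ((tw f).mem_invSet_wd _ _).mpr (invSet_cl4_mem J r hr), rfl⟩
    rcases hw with ⟨t, ht, r, hr, rfl⟩ | ⟨t, rs, hrs, rfl⟩
    · simp only [List.mem_cons, List.not_mem_nil, or_false] at hr
      refine ⟨(true : Bool), ?_⟩
      rcases hr with rfl | rfl
      · left
        rw [show wg c4 [(d4p2, t)] = xg c4 d4p2 t by simp [wg]] at hfix ⊢
        exact ⟨xg_mem_Uw f true (by simp) t, hfix⟩
      · right
        rw [show wg c4 [(d4m2, t)] = xg c4 d4m2 t by simp [wg], ← g2]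
        exact hV true _ (by simp) t
    · simp only [List.mem_cons, List.not_mem_nil, or_false] at hrs
      refine ⟨(false : Bool), ?_⟩
      rcases hrs with rfl | rfl
      · left
        rw [show wg c4 [(d4p1, t), (d4p3, t ^ q), (d4p4, t ^ q ^ 2)] = tri t (t ^ q) (t ^ q ^ 2) by
          simp [wg, tri, mul_assoc]] at hfix ⊢
        exact ⟨tri_mem_Uw f _ _ _, hfix⟩
      · right
        rw [show wg c4 [(d4m1, t), (d4m3, t ^ q), (d4m4, t ^ q ^ 2)] = trin t (t ^ q) (t ^ q ^ 2) by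
          simp [wg, trin, mul_assoc], trin, ← g1, ← g3, ← g4]
        exact mul_mem (mul_mem (hV false _ (by simp) _) (hV false _ (by simp) _)) (hV false _ (by simp) _)
  · intro J u hu
    cases J
    · obtain ⟨t, rfl⟩ := UF_false_le f hf hK hu
      exact tri_comm f hf hK t
    · obtain ⟨t, ht, rfl⟩ := UF_true_le f hf hK hu
      exact p2_comm f hf hK ht

include hf hK in
theorem simple : IsSimpleGroup ↥(twistedD4 K q) ∧ ¬ IsMulCommutative ↥(twistedD4 K q) := by
  refine (classes f hf hK).simple_of (S1050.result chevD4 (by simp)) ((classes f hf hK).core_eq_bot (coef f hf hK))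
    (perfect f hf hK) ?_ (by decide)
  intro A hA hA'
  obtain ⟨r, hr, hne⟩ : ∃ r < chevD4.nroots, pact ChevWeylData.d4.P (cl4 true ++ cl4 false) r ≠
      pact ChevWeylData.d4.P (cl4 false ++ cl4 true) r := by decide +kernel
  obtain ⟨(J : Bool), hJ⟩ := hA
  obtain ⟨(L : Bool), hL⟩ := hA'
  cases J <;> cases L
  · exact absurd hJ hL
  · exact ⟨false, hJ, true, hL, r, hr, hne.symm⟩
  · exact ⟨true, hJ, false, hL, r, hr, hne⟩
  · exact absurd hJ hL

end Cfsg.Agent.TwistedD4
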