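import Cfsg.Agent.Lib.D4CharTwoNf71
import Cfsg.Agent.Lib.TwistedD4Simple

/-!
Involutions of `³D₄(q)`, `q` even: every one is conjugate to a long or a short root element.
-/

set_option autoImplicit false
set_option linter.unusedSectionVars false
set_option linter.unusedSimpArgs false
set_option maxRecDepth 20000
set_option maxHeartbeats 2000000

namespace Cfsg.Agent.TwistedD4Invol71

open Cfsg.Lie Cfsg.Agent.ChevalleyCert Cfsg.Agent.ChevalleyCore Cfsg.Agent.ChevalleyRoots Cfsg.Agent.ChevalleyTorus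
  Cfsg.Agent.TwistedCore Cfsg.Agent.TwistedTools Cfsg.Agent.TwistedD4 Cfsg.Agent.D4CharTwoNf71
  Cfsg.Agent.ChevWeyl Cfsg.Agent.ChevBruhat

variable {K : Type*} [Field K] [CharP K 2] {q : ℕ} (φ : K →+* K) (hf : ∀ t, φ t = t ^ q)
variable [Fintype K] (hK : Fintype.card K = q ^ 3)

/-- the twisted normal form -/
noncomputable def nft (t s c d e z : K) : GL chevD4.Idx K :=
  nf ![t, φ t, φ (φ t), s, c, φ c, φ (φ c), d, φ d, φ (φ d), e, z]

theorem epsK {r : ℕ} (hr : r < chevD4.nroots) : ((ChevalleyGraph.symD4a.eps r : ℤ) : K) = 1 := by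
  rcases mul_self_eq_one_iff.mp (ChevalleyGraph.symD4a.neg_ok r hr).2.2 with e | e <;>
    simp [e, CharTwo.neg_eq (1 : K)]

include hf hK in
theorem triple_fixed {r1 r2 r3 : ℕ} (h : (r1, r2, r3) ∈ [(18, 13, 12), (19, 16, 15), (17, 20, 21)]) (t : K) :
    X r1 t * X r2 (φ t) * X r3 (φ (φ t)) ∈ (tw φ).Fixed := by
  have key : ∀ p ∈ [((18 : ℕ), (13 : ℕ), (12 : ℕ)), (19, 16, 15), (17, 20, 21)],
      p.1 < chevD4.nroots ∧ p.2.1 < chevD4.nroots ∧ p.2.2 < chevD4.nroots ∧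
      ChevalleyGraph.symD4a.rho p.1 = p.2.1 ∧ ChevalleyGraph.symD4a.rho p.2.1 = p.2.2 ∧
      ChevalleyGraph.symD4a.rho p.2.2 = p.1 ∧ okPair (p.2.2, p.1, 24) = true ∧ okPair (p.2.1, p.1, 24) = true ∧
      okPair (p.2.2, p.2.1, 24) = true := by decide +kernel
  obtain ⟨h1, h2, h3, e1, e2, e3, k1, k2, k3⟩ := key _ h
  dsimp only at h1 h2 h3 e1 e2 e3 k1 k2 k3
  have hm : ∀ r t, xg c4 r t ∈ chevD4.group K := fun r t => xg_mem_group c4 r t
  refine ⟨mul_mem (mul_mem (hm _ _) (hm _ _)) (hm _ _), ?_⟩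
  rw [(tw φ).sg_mul (mul_mem (hm _ _) (hm _ _)) (hm _ _), (tw φ).sg_mul (hm _ _) (hm _ _),
    sg_all φ h1, sg_all φ h2, sg_all φ h3, e1, e2, e3, epsK h1, epsK h2, epsK h3, one_mul, one_mul, one_mul,
    f3 φ hf hK]
  show X r2 (φ t) * X r3 (φ (φ t)) * X r1 t = _
  rw [mul_assoc, swap0 k1, ← mul_assoc, swap0 k2]

include hf hK in
theorem single_fixed {r : ℕ} (h : r ∈ [14, 22, 23]) {t : K} (ht : φ t = t) : X r t ∈ (tw φ).Fixed := by
  have key : ∀ r ∈ [14, 22, 23], r < chevD4.nroots ∧ ChevalleyGraph.symD4a.rho r = r := by decide +kernel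
  obtain ⟨h1, e1⟩ := key r h
  exact ⟨xg_mem_group c4 _ _, by rw [sg_all φ h1, e1, epsK h1, one_mul, ht]⟩

include hf hK in
theorem fixed_mem {g : GL chevD4.Idx K} (hu : g ∈ chevD4.posUnipotent K) (hg : g ∈ (tw φ).Fixed) :
    g ∈ twistedD4 K q :=
  (classes φ hf hK).fixed_U_le hu hg

include hf hK in
theorem nft_mem {t s c d e z : K} (hs : φ s = s) (he : φ e = e) (hz : φ z = z) :
    nft φ t s c d e z ∈ chevD4.posUnipotent K ⊓ twistedD4 K q := by
  refine ⟨nf_mem _, fixed_mem φ hf hK (nf_mem _) ?_⟩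
  have hA := triple_fixed φ hf hK (r1 := 18) (r2 := 13) (r3 := 12) (by decide) t
  have hAB := triple_fixed φ hf hK (r1 := 19) (r2 := 16) (r3 := 15) (by decide) c
  have hAAB := triple_fixed φ hf hK (r1 := 17) (r2 := 20) (r3 := 21) (by decide) d
  have := mul_mem (mul_mem (mul_mem (mul_mem (mul_mem hA (single_fixed φ hf hK (r := 14) (by decide) hs)) hAB) hAAB)
    (single_fixed φ hf hK (r := 22) (by decide) he)) (single_fixed φ hf hK (r := 23) (by decide) hz)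
  simpa [nft, nf, mul_assoc] using this

include hf in
theorem fix_iff (t : K) : φ t = t ↔ t ^ q = t := by rw [hf]

include hf hK in
theorem exists_nft {g : GL chevD4.Idx K} (hg : g ∈ chevD4.posUnipotent K ⊓ twistedD4 K q) :
    ∃ t s c d e z, φ s = s ∧ φ e = e ∧ φ z = z ∧ g = nft φ t s c d e z := by
  let Fq := {t : K // t ^ q = t}
  let g' : K × Fq × K × K × Fq × Fq → ↥(chevD4.posUnipotent K ⊓ twistedD4 K q) := fun p =>
    ⟨nft φ p.1 p.2.1.1 p.2.2.1 p.2.2.2.1 p.2.2.2.2.1.1 p.2.2.2.2.2.1,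
      nft_mem φ hf hK ((fix_iff φ hf _).2 p.2.1.2) ((fix_iff φ hf _).2 p.2.2.2.2.1.2) ((fix_iff φ hf _).2 p.2.2.2.2.2.2)⟩
  have hb : Function.Bijective g' := by
    refine Function.Injective.bijective_of_nat_card_le ?_ ?_
    · rintro ⟨t, s, c, d, e, z⟩ ⟨t', s', c', d', e', z'⟩ h
      have h' := nf_injective (congrArg Subtype.val h)
      have e0 := congrFun h' 0
      have e3 := congrFun h' 3
      have e4 := congrFun h' 4
      have e7 := congrFun h' 7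
      have e10 := congrFun h' 10
      have e11 := congrFun h' 11
      simp at e0 e3 e4 e7 e10 e11
      simp [e0, Subtype.ext e3, e4, e7, Subtype.ext e10, Subtype.ext e11]
    · rw [card_U1 φ hf hK]
      simp only [Nat.card_prod, Fq, TwistedField.card_fix hK, Nat.card_eq_fintype_card, hK]
      exact le_of_eq (by ring)
  obtain ⟨⟨t, s, c, d, e, z⟩, h⟩ := hb.2 ⟨g, hg⟩
  exact ⟨t, s.1, c, d, e.1, z.1, (fix_iff φ hf _).2 s.2, (fix_iff φ hf _).2 e.2, (fix_iff φ hf _).2 z.2,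
    (congrArg Subtype.val h).symm⟩

/-- conjugacy inside the twisted group -/
def Cj (q : ℕ) (g h : GL chevD4.Idx K) : Prop := ∃ x ∈ twistedD4 K q, x * g * x⁻¹ = h

theorem Cj.trans' {g h k : GL chevD4.Idx K} (h1 : Cj q g h) (h2 : Cj q h k) : Cj q g k := by
  obtain ⟨x, hx, rfl⟩ := h1
  obtain ⟨y, hy, rfl⟩ := h2
  exact ⟨y * x, mul_mem hy hx, by group⟩

theorem Cj.sq {g h : GL chevD4.Idx K} (h1 : Cj q g h) (hg : g * g = 1) : h * h = 1 := by
  obtain ⟨x, -, rfl⟩ := h1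
  rw [show x * g * x⁻¹ * (x * g * x⁻¹) = x * (g * g) * x⁻¹ by group, hg]; group

include hf hK in
/-- conjugation by an element of `U¹` -/
theorem cj_nft {t s c d e z : K} (x : GL chevD4.Idx K) (hs : φ s = s) (he : φ e = e) (hz : φ z = z)
    (hx : x ∈ chevD4.posUnipotent K ⊓ twistedD4 K q) :
    ∃ t' s' c' d' e' z', φ s' = s' ∧ φ e' = e' ∧ φ z' = z' ∧
      x * nft φ t s c d e z * x⁻¹ = nft φ t' s' c' d' e' z' ∧
      Cj q (nft φ t s c d e z) (nft φ t' s' c' d' e' z') := by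
  obtain ⟨t', s', c', d', e', z', h1, h2, h3, h4⟩ :=
    exists_nft φ hf hK (mul_mem (mul_mem hx (nft_mem φ hf hK (t := t) (c := c) (d := d) hs he hz)) (inv_mem hx))
  exact ⟨t', s', c', d', e', z', h1, h2, h3, h4, x, hx.2, h4⟩

theorem char2 (x : K) : x + x = 0 := CharTwo.add_self_eq_zero x

theorem nf_one {a : Fin 12 → K} (h : nf a = 1) : a = 0 :=
  nf_injective (h.trans nf_zero.symm)

include hf hK in
theorem sq_general {t s c d e z : K} (h : nft φ t s c d e z * nft φ t s c d e z = 1) : t = 0 ∨ s = 0 := by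
  have he : ∃ a : Fin 12 → K, nft φ t s c d e z * nft φ t s c d e z = nf a ∧ a 4 = s * t := by
    simp only [nft, nf]
    collect71
    refine ⟨![_, _, _, _, _, _, _, _, _, _, _, _], by simp only [Matrix.cons_val, mul_assoc]; rfl, ?_⟩
    simp only [Matrix.cons_val]
    ring_nf
    simp [CharTwo.two_eq_zero]
  obtain ⟨a, ha, h4⟩ := he
  rw [nf_one (ha.symm.trans h), Pi.zero_apply, eq_comm, mul_eq_zero] at h4
  exact h4.symm

theorem three2 : (3 : K) = 1 := by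
  linear_combination (CharTwo.two_eq_zero : (2 : K) = 0)

/-- finishing a coefficient computation -/
macro "coef71" : tactic => `(tactic| (funext i; fin_cases i <;> simp <;> ring_nf <;>
  simp [CharTwo.two_eq_zero, three2, CharTwo.neg_eq]))

theorem sq_A (t1 t2 t3 c1 c2 c3 d1 d2 d3 e z : K) :
    ∃ a, nf ![t1, t2, t3, 0, c1, c2, c3, d1, d2, d3, e, z] * nf ![t1, t2, t3, 0, c1, c2, c3, d1, d2, d3, e, z] = nf a ∧
      a 7 = c2 * t3 + c3 * t2 := by
  simp only [nf]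
  collect71
  refine ⟨![_, _, _, _, _, _, _, _, _, _, _, _], by simp only [Matrix.cons_val, mul_assoc]; rfl, ?_⟩
  simp only [Matrix.cons_val]
  ring_nf
  simp [CharTwo.two_eq_zero]

theorem sq_B (s d1 d2 d3 e z : K) :
    ∃ a, nf ![0, 0, 0, s, 0, 0, 0, d1, d2, d3, e, z] * nf ![0, 0, 0, s, 0, 0, 0, d1, d2, d3, e, z] = nf a ∧
      a 11 = s * e := by
  simp only [nf]
  collect71
  refine ⟨![_, _, _, _, _, _, _, _, _, _, _, _], by simp only [Matrix.cons_val, mul_assoc]; rfl, ?_⟩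
  simp only [Matrix.cons_val]
  ring_nf
  simp [CharTwo.two_eq_zero]

theorem sq_0 (c1 c2 c3 d1 d2 d3 e z : K) :
    ∃ a, nf ![0, 0, 0, 0, c1, c2, c3, d1, d2, d3, e, z] * nf ![0, 0, 0, 0, c1, c2, c3, d1, d2, d3, e, z] = nf a ∧
      a 11 = c1 * d1 + c2 * d2 + c3 * d3 := by
  simp only [nf]
  collect71
  refine ⟨![_, _, _, _, _, _, _, _, _, _, _, _], by simp only [Matrix.cons_val, mul_assoc]; rfl, ?_⟩
  simp only [Matrix.cons_val]
  ring_nf
  simp [CharTwo.two_eq_zero]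

theorem conj_B (l t1 t2 t3 c1 c2 c3 d1 d2 d3 e z : K) :
    X 14 l * nf ![t1, t2, t3, 0, c1, c2, c3, d1, d2, d3, e, z] * (X 14 l)⁻¹ =
      nf ![t1, t2, t3, 0, c1 + l * t1, c2 + l * t2, c3 + l * t3, d1 + l * t2 * t3, d2 + l * t1 * t3,
        d3 + l * t1 * t2, e + l * t1 * t2 * t3,
        c1 * l * t2 * t3 + c2 * l * t1 * t3 + c3 * l * t1 * t2 + e * l + z] := by
  obtain ⟨a, ha, hw⟩ : ∃ a, X 14 l * nf ![t1, t2, t3, 0, c1, c2, c3, d1, d2, d3, e, z] * (X 14 l)⁻¹ = nf a ∧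
      a = ![t1, t2, t3, 0, c1 + l * t1, c2 + l * t2, c3 + l * t3, d1 + l * t2 * t3, d2 + l * t1 * t3,
        d3 + l * t1 * t2, e + l * t1 * t2 * t3,
        c1 * l * t2 * t3 + c2 * l * t1 * t3 + c3 * l * t1 * t2 + e * l + z] := by
    rw [xg_inv c4, neg2]
    simp only [nf]
    collect71
    refine ⟨![_, _, _, _, _, _, _, _, _, _, _, _], by simp only [Matrix.cons_val, mul_assoc]; rfl, ?_⟩
    coef71
  rw [ha, hw]

/-- the product of the root elements of the short simple class -/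
noncomputable def AA (r1 r2 r3 : K) : GL chevD4.Idx K := X 18 r1 * X 13 r2 * X 12 r3

theorem AA_inv (r1 r2 r3 : K) : (AA r1 r2 r3)⁻¹ = X 12 r3 * X 13 r2 * X 18 r1 := by
  simp [AA, mul_assoc, xg_inv c4, neg2]

theorem conj_A (r1 r2 r3 s c1 c2 c3 d1 d2 d3 e z : K) : ∃ z',
    AA r1 r2 r3 * nf ![0, 0, 0, s, c1, c2, c3, d1, d2, d3, e, z] * (AA r1 r2 r3)⁻¹ =
      nf ![0, 0, 0, s, c1 + r1 * s, c2 + r2 * s, c3 + r3 * s,
        d1 + (c2 * r3 + c3 * r2) + r2 * r3 * s, d2 + (c1 * r3 + c3 * r1) + r1 * r3 * s,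
        d3 + (c1 * r2 + c2 * r1) + r1 * r2 * s,
        e + (c1 * r2 * r3 + c2 * r1 * r3 + c3 * r1 * r2) + (d1 * r1 + d2 * r2 + d3 * r3) + r1 * r2 * r3 * s, z'] := by
  obtain ⟨a, ha, hw⟩ : ∃ a, AA r1 r2 r3 * nf ![0, 0, 0, s, c1, c2, c3, d1, d2, d3, e, z] * (AA r1 r2 r3)⁻¹ = nf a ∧
      a = ![0, 0, 0, s, c1 + r1 * s, c2 + r2 * s, c3 + r3 * s,
        d1 + (c2 * r3 + c3 * r2) + r2 * r3 * s, d2 + (c1 * r3 + c3 * r1) + r1 * r3 * s,
        d3 + (c1 * r2 + c2 * r1) + r1 * r2 * s,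
        e + (c1 * r2 * r3 + c2 * r1 * r3 + c3 * r1 * r2) + (d1 * r1 + d2 * r2 + d3 * r3) + r1 * r2 * r3 * s, a 11] := by
    rw [AA_inv, AA]
    simp only [nf]
    collect71
    refine ⟨![_, _, _, _, _, _, _, _, _, _, _, _], by simp only [Matrix.cons_val, mul_assoc]; rfl, ?_⟩
    coef71
  exact ⟨_, ha.trans (congrArg nf hw)⟩

theorem conj_z {x : GL chevD4.Idx K} {v w : Fin 12 → K} (h : ∃ a, x * nf v * x⁻¹ = nf a ∧ a = w) :
    x * nf v * x⁻¹ = nf w := by
  obtain ⟨a, ha, rfl⟩ := h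
  exact ha

theorem conj_E (r s d1 d2 d3 z : K) :
    X 22 r * nf ![0, 0, 0, s, 0, 0, 0, d1, d2, d3, 0, z] * (X 22 r)⁻¹ =
      nf ![0, 0, 0, s, 0, 0, 0, d1, d2, d3, 0, r * s + z] := by
  apply conj_z
  rw [xg_inv c4, neg2]
  simp only [nf]
  collect71
  refine ⟨![_, _, _, _, _, _, _, _, _, _, _, _], by simp only [Matrix.cons_val, mul_assoc]; rfl, ?_⟩
  coef71

theorem conj_Br (r e z : K) :
    X 14 r * nf ![0, 0, 0, 0, 0, 0, 0, 0, 0, 0, e, z] * (X 14 r)⁻¹ =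
      nf ![0, 0, 0, 0, 0, 0, 0, 0, 0, 0, e, e * r + z] := by
  apply conj_z
  rw [xg_inv c4, neg2]
  simp only [nf]
  collect71
  refine ⟨![_, _, _, _, _, _, _, _, _, _, _, _], by simp only [Matrix.cons_val, mul_assoc]; rfl, ?_⟩
  coef71

theorem conj_AAB (r1 r2 r3 c1 c2 c3 z : K) :
    X 17 r1 * X 20 r2 * X 21 r3 * nf ![0, 0, 0, 0, c1, c2, c3, 0, 0, 0, 0, z] * (X 17 r1 * X 20 r2 * X 21 r3)⁻¹ =
      nf ![0, 0, 0, 0, c1, c2, c3, 0, 0, 0, 0, c1 * r1 + c2 * r2 + c3 * r3 + z] := by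
  apply conj_z
  simp only [nf, mul_inv_rev, xg_inv c4, neg2]
  collect71
  refine ⟨![_, _, _, _, _, _, _, _, _, _, _, _], by simp only [Matrix.cons_val, mul_assoc]; rfl, ?_⟩
  coef71

theorem conj_AB (r1 r2 r3 d1 d2 d3 z : K) :
    X 19 r1 * X 16 r2 * X 15 r3 * nf ![0, 0, 0, 0, 0, 0, 0, d1, d2, d3, 0, z] * (X 19 r1 * X 16 r2 * X 15 r3)⁻¹ =
      nf ![0, 0, 0, 0, 0, 0, 0, d1, d2, d3, 0, d1 * r1 + d2 * r2 + d3 * r3 + z] := by
  apply conj_z
  simp only [nf, mul_inv_rev, xg_inv c4, neg2]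
  collect71
  refine ⟨![_, _, _, _, _, _, _, _, _, _, _, _], by simp only [Matrix.cons_val, mul_assoc]; rfl, ?_⟩
  coef71

/-! ### the fundamental reflections -/

/-- `n_b` -/
noncomputable def nB : GL chevD4.Idx K := ng c4 d4p2 1

theorem ngc {i : ℕ} (hi : i < 4) {r : ℕ} (hr : r < 24) (t : K) :
    ng c4 (chevD4.simple i) 1 * X r t * (ng c4 (chevD4.simple i) 1)⁻¹ = X (chevD4.reflectRoot i r) t := by
  rw [ng_simple_conj c4 hi hr]
  rcases c4.eta_sq i r with e | e <;> simp [e, CharTwo.neg_eq (1 : K)]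

theorem refl_lt : ∀ i < 4, ∀ r < 24, chevD4.reflectRoot i r < 24 := by decide +kernel

theorem nB_conj {r : ℕ} (h : r < 24) (t : K) : MulAut.conj nB (X r t) = X (chevD4.reflectRoot 1 r) t := by
  rw [MulAut.conj_apply, nB, ← simples.2.1]
  exact ngc (by norm_num) h t

theorem nA_conj {r : ℕ} (h : r < 24) (t : K) :
    MulAut.conj (tn (1 : K) 1 1) (X r t) =
      X (chevD4.reflectRoot 0 (chevD4.reflectRoot 2 (chevD4.reflectRoot 3 r))) t := by
  obtain ⟨e1, -, e3, e4, -⟩ := simples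
  have h4 : chevD4.reflectRoot 3 r < 24 := refl_lt 3 (by norm_num) _ h
  rw [tn, map_mul, map_mul, MulAut.mul_apply, MulAut.mul_apply, MulAut.conj_apply (ng c4 d4p4 1), ← e4,
    ngc (by norm_num) h, MulAut.conj_apply (ng c4 d4p3 1), ← e3, ngc (by norm_num) h4,
    MulAut.conj_apply (ng c4 d4p1 1), ← e1, ngc (by norm_num) (refl_lt 2 (by norm_num) _ h4)]

include hf hK in
theorem nA_mem : tn (1 : K) 1 1 ∈ twistedD4 K q := by
  simpa using tn_mem φ hf (1 : K)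

include hf in
theorem nB_mem : (nB : GL chevD4.Idx K) ∈ twistedD4 K q := ng2_mem φ hf (one_pow q)

theorem swap_AAB (t1 t2 t3 d1 d2 d3 e z : K) :
    MulAut.conj nB (nf ![t1, t2, t3, 0, 0, 0, 0, d1, d2, d3, e, z]) =
      nf ![0, 0, 0, 0, t1, t2, t3, d1, d2, d3, z, e] := by
  have h : ∀ p ∈ [((18 : ℕ), (19 : ℕ)), (13, 16), (12, 15), (17, 17), (20, 20), (21, 21), (22, 23), (23, 22)],
      p.1 < 24 ∧ chevD4.reflectRoot 1 p.1 = p.2 := by decide +kernel
  simp only [nf, Matrix.cons_val, xg_zero, mul_one, one_mul, map_mul]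
  rw [nB_conj (h _ (by decide : ((18 : ℕ), (19 : ℕ)) ∈ _)).1, (h _ (by decide : ((18 : ℕ), (19 : ℕ)) ∈ _)).2,
    nB_conj (h _ (by decide : ((13 : ℕ), (16 : ℕ)) ∈ _)).1, (h _ (by decide : ((13 : ℕ), (16 : ℕ)) ∈ _)).2,
    nB_conj (h _ (by decide : ((12 : ℕ), (15 : ℕ)) ∈ _)).1, (h _ (by decide : ((12 : ℕ), (15 : ℕ)) ∈ _)).2,
    nB_conj (h _ (by decide : ((17 : ℕ), (17 : ℕ)) ∈ _)).1, (h _ (by decide : ((17 : ℕ), (17 : ℕ)) ∈ _)).2,
    nB_conj (h _ (by decide : ((20 : ℕ), (20 : ℕ)) ∈ _)).1, (h _ (by decide : ((20 : ℕ), (20 : ℕ)) ∈ _)).2,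
    nB_conj (h _ (by decide : ((21 : ℕ), (21 : ℕ)) ∈ _)).1, (h _ (by decide : ((21 : ℕ), (21 : ℕ)) ∈ _)).2,
    nB_conj (h _ (by decide : ((22 : ℕ), (23 : ℕ)) ∈ _)).1, (h _ (by decide : ((22 : ℕ), (23 : ℕ)) ∈ _)).2,
    nB_conj (h _ (by decide : ((23 : ℕ), (22 : ℕ)) ∈ _)).1, (h _ (by decide : ((23 : ℕ), (22 : ℕ)) ∈ _)).2]
  collect71

theorem nA_BD (s d1 d2 d3 : K) :
    MulAut.conj (tn (1 : K) 1 1) (nf ![0, 0, 0, s, 0, 0, 0, d1, d2, d3, 0, 0]) =
      nf ![0, 0, 0, 0, d1, d2, d3, 0, 0, 0, s, 0] := by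
  have h : ∀ p ∈ [((14 : ℕ), (22 : ℕ)), (17, 19), (20, 16), (21, 15)], p.1 < 24 ∧
      chevD4.reflectRoot 0 (chevD4.reflectRoot 2 (chevD4.reflectRoot 3 p.1)) = p.2 := by decide +kernel
  simp only [nf, Matrix.cons_val, xg_zero, mul_one, one_mul, map_mul]
  rw [nA_conj (h _ (by decide : ((14 : ℕ), (22 : ℕ)) ∈ _)).1, (h _ (by decide : ((14 : ℕ), (22 : ℕ)) ∈ _)).2,
    nA_conj (h _ (by decide : ((17 : ℕ), (19 : ℕ)) ∈ _)).1, (h _ (by decide : ((17 : ℕ), (19 : ℕ)) ∈ _)).2,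
    nA_conj (h _ (by decide : ((20 : ℕ), (16 : ℕ)) ∈ _)).1, (h _ (by decide : ((20 : ℕ), (16 : ℕ)) ∈ _)).2,
    nA_conj (h _ (by decide : ((21 : ℕ), (15 : ℕ)) ∈ _)).1, (h _ (by decide : ((21 : ℕ), (15 : ℕ)) ∈ _)).2]
  collect71

theorem nA_E (e : K) :
    MulAut.conj (tn (1 : K) 1 1) (X 22 e) = X 14 e := by
  have h : (22 : ℕ) < 24 ∧ chevD4.reflectRoot 0 (chevD4.reflectRoot 2 (chevD4.reflectRoot 3 22)) = 14 := by
    decide +kernel
  rw [nA_conj h.1, h.2]

/-! ### field lemmas -/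

section Field

/-- the trace form -/
def T (c : K) : K → K := fun r => c * r + φ c * φ r + φ (φ c) * φ (φ r)

include hf hK in
theorem φ3 (x : K) : φ (φ (φ x)) = x := f3 φ hf hK x

include hf hK in
theorem T_fix (c r : K) : φ (T φ c r) = T φ c r := by
  simp only [T, map_add, map_mul, φ3 φ hf hK]; ring

include hf hK in
theorem card_T_ker {c : K} (hc : c ≠ 0) : Nat.card {r : K // T φ c r = 0} ≤ q ^ 2 := by
  classical
  have hq := TwistedField.one_lt_base hK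
  let P : Polynomial K := Polynomial.C (φ (φ c)) * Polynomial.X ^ q ^ 2 + (Polynomial.C (φ c) * Polynomial.X ^ q +
    Polynomial.C c * Polynomial.X)
  have hφc : φ (φ c) ≠ 0 := by simp [hc]
  have hdeg : P.natDegree ≤ q ^ 2 := by
    refine Polynomial.natDegree_add_le_of_degree_le (Polynomial.natDegree_C_mul_X_pow_le _ _)
      (Polynomial.natDegree_add_le_of_degree_le ((Polynomial.natDegree_C_mul_X_pow_le _ _).trans ?_)
        ((Polynomial.natDegree_C_mul_le _ _).trans (Polynomial.natDegree_X_le.trans ?_)))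
    · exact le_self_pow₀ hq.le (by norm_num)
    · exact Nat.one_le_pow _ _ (by omega)
  have hP : P ≠ 0 := by
    intro h0
    have := congrArg (fun p : Polynomial K => p.coeff (q ^ 2)) h0
    simp only [P, Polynomial.coeff_add, Polynomial.coeff_C_mul, Polynomial.coeff_X_pow, Polynomial.coeff_zero,
      Polynomial.coeff_X] at this
    rw [if_neg (show ¬ q ^ 2 = q by intro e; nlinarith), if_neg (show ¬ 1 = q ^ 2 by intro e; nlinarith)] at this
    simp [hφc] at this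
  rw [Nat.card_eq_fintype_card]
  refine le_trans ?_ ((Polynomial.card_roots' P).trans hdeg)
  refine le_trans ?_ P.roots.toFinset_card_le
  rw [Fintype.card_subtype]
  refine Finset.card_le_card fun r hr => ?_
  replace hr : c * r + φ c * φ r + φ (φ c) * φ (φ r) = 0 := (Finset.mem_filter.1 hr).2
  rw [Multiset.mem_toFinset, Polynomial.mem_roots hP, Polynomial.IsRoot.def]
  simp only [P, Polynomial.eval_add, Polynomial.eval_mul, Polynomial.eval_C, Polynomial.eval_pow, Polynomial.eval_X]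
  rw [f_f φ hf r, hf r] at hr
  linear_combination hr

include hf hK in
theorem card_fix' : Nat.card {x : K // φ x = x} = q := by
  rw [← TwistedField.card_fix hK]
  exact Nat.card_congr (Equiv.subtypeEquivRight fun x => by rw [hf])

include hf hK in
theorem T_surj {c : K} (hc : c ≠ 0) {y : K} (hy : φ y = y) : ∃ r, T φ c r = y := by
  let h : K →+ K := AddMonoidHom.mk' (T φ c) fun a b => by simp only [T, map_add]; ring
  have hle : h.range ≤ AddMonoidHom.eqLocus φ.toAddMonoidHom (AddMonoidHom.id K) := by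
    rintro _ ⟨r, rfl⟩
    exact T_fix φ hf hK c r
  have hker : Nat.card ↥h.ker ≤ q ^ 2 := card_T_ker φ hf hK hc
  have hm := AddSubgroup.card_mul_index h.ker
  rw [AddSubgroup.index_ker, Nat.card_eq_fintype_card (α := K), hK] at hm
  have he : Nat.card ↥(AddMonoidHom.eqLocus φ.toAddMonoidHom (AddMonoidHom.id K)) = q := card_fix' φ hf hK
  have heq := AddSubgroup.eq_of_le_of_card_ge hle (by
    rw [he]
    have h' : q ^ 2 * q ≤ q ^ 2 * Nat.card ↥h.range :=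
      le_of_eq_of_le (by rw [hm]; ring) (Nat.mul_le_mul_right _ hker)
    exact Nat.le_of_mul_le_mul_left h' (pow_pos (by have := TwistedField.one_lt_base hK; omega) 2))
  have : y ∈ h.range := heq ▸ hy
  exact this

/-- the pairing of the short classes -/
def B2 (c r : K) : K := φ c * φ (φ r) + φ (φ c) * φ r

include hf hK in
theorem B2_zero {c r : K} (hc : c ≠ 0) (h : B2 φ c r = 0) : φ (r / c) = r / c := by
  have h1 : φ c * φ (φ r) = φ (φ c) * φ r := CharTwo.add_eq_zero.1 h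
  have h2 := congrArg (fun x => φ (φ x)) h1
  simp only [map_mul, φ3 φ hf hK] at h2
  rw [map_div₀, div_eq_div_iff ((map_ne_zero φ).2 hc) hc]
  linear_combination h2

include hf hK in
theorem B2_surj {c d : K} (hc : c ≠ 0) (hd : T φ c d = 0) : ∃ r, B2 φ c r = d := by
  let h : K →+ K := AddMonoidHom.mk' (B2 φ c) fun a b => by simp only [B2, map_add]; ring
  let g : K →+ K := AddMonoidHom.mk' (T φ c) fun a b => by simp only [T, map_add]; ring
  have hle : h.range ≤ g.ker := by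
    rintro _ ⟨r, rfl⟩
    show T φ c (B2 φ c r) = 0
    simp only [T, B2, map_add, map_mul, φ3 φ hf hK]
    ring_nf
    simp [CharTwo.two_eq_zero]
  have hker : Nat.card ↥h.ker ≤ q := by
    rw [← card_fix' φ hf hK]
    refine Nat.card_le_card_of_injective (fun r => ⟨r.1 / c, B2_zero φ hf hK hc r.2⟩) fun a b e => Subtype.ext ?_
    have := congrArg Subtype.val e
    simpa [div_left_inj' hc] using this
  have hm := AddSubgroup.card_mul_index h.ker
  rw [AddSubgroup.index_ker, Nat.card_eq_fintype_card (α := K), hK] at hm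
  have heq := AddSubgroup.eq_of_le_of_card_ge hle ((card_T_ker φ hf hK hc).trans (by
    have h' : q * q ^ 2 ≤ q * Nat.card ↥h.range := le_of_eq_of_le (by rw [hm]; ring) (Nat.mul_le_mul_right _ hker)
    exact Nat.le_of_mul_le_mul_left h' (by have := TwistedField.one_lt_base hK; omega)))
  have : d ∈ h.range := heq ▸ hd
  exact this

end Field

end Cfsg.Agent.TwistedD4Invol71
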