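import Cfsg.Agent.Lib.D4StemU9
import Cfsg.Agent.Lib.StemRegular9
import Cfsg.Agent.Lib.TwistedD4Invol71

/-!
`³D₄(2)`: the unipotent subgroup has no multiplier.
-/

set_option autoImplicit false
set_option linter.unusedSectionVars false
set_option linter.unusedVariables false
set_option linter.unusedSimpArgs false
set_option maxRecDepth 20000
set_option maxHeartbeats 2000000

namespace Cfsg.Agent.D4StemTwo9

open Cfsg.Lie Cfsg.Agent.ChevalleyCert Cfsg.Agent.ChevalleyCore Cfsg.Agent.ChevalleyRoots Cfsg.Agent.ChevalleyTorus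
  Cfsg.Agent.TwistedCore Cfsg.Agent.TwistedTools Cfsg.Agent.TwistedD4 Cfsg.Agent.ChevWeyl Cfsg.Agent.ChevBruhat
  Cfsg.Agent.D4Levels9 Cfsg.Agent.StemSection9 Cfsg.Agent.D4StemP9 Cfsg.Agent.D4CharTwoNf71
  Cfsg.Agent.TwistedD4Invol71
open scoped commutatorElement

variable {K : Type*} [Field K] [CharP K 2] {q : ℕ} (φ : K →+* K) (hf : ∀ t, φ t = t ^ q)
variable [Fintype K] (hK : Fintype.card K = q ^ 3)

/-! ### generation by the two simple levels -/

variable (K q) in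
/-- the group generated by the two simple levels -/
def W : Subgroup (GL chevD4.Idx K) :=
  Subgroup.closure (insert (xg c4 14 (1 : K)) (Set.range fun t : K => tri t (t ^ q) (t ^ q ^ 2)))

theorem tri_eq (t : K) : tri t (t ^ q) (t ^ q ^ 2) = AA t (t ^ q) (t ^ q ^ 2) := rfl

include hf in
theorem AA_mem (t : K) : AA t (φ t) (φ (φ t)) ∈ W K q := by
  rw [f_f φ hf, hf]
  exact Subgroup.subset_closure (Set.mem_insert_of_mem _ ⟨t, rfl⟩)

theorem b_mem : xg c4 14 (1 : K) ∈ W K q := Subgroup.subset_closure (Set.mem_insert _ _)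

theorem low_mul (c1 c2 c3 d1 d2 d3 e z c1' c2' c3' d1' d2' d3' e' z' : K) : ∃ w,
    nf ![0, 0, 0, 0, c1, c2, c3, d1, d2, d3, e, z] * nf ![0, 0, 0, 0, c1', c2', c3', d1', d2', d3', e', z'] =
      nf ![0, 0, 0, 0, c1 + c1', c2 + c2', c3 + c3', d1 + d1', d2 + d2', d3 + d3', e + e', w] := by
  obtain ⟨a, ha, hw⟩ : ∃ a, nf ![0, 0, 0, 0, c1, c2, c3, d1, d2, d3, e, z] *
      nf ![0, 0, 0, 0, c1', c2', c3', d1', d2', d3', e', z'] = nf a ∧
      a = ![0, 0, 0, 0, c1 + c1', c2 + c2', c3 + c3', d1 + d1', d2 + d2', d3 + d3', e + e', a 11] := by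
    simp only [nf]
    collect71
    refine ⟨![_, _, _, _, _, _, _, _, _, _, _, _], by simp only [Matrix.cons_val, mul_assoc]; rfl, ?_⟩
    coef71
  exact ⟨_, ha.trans (congrArg nf hw)⟩

theorem A_mul (t1 t2 t3 c1 c2 c3 d1 d2 d3 e z : K) :
    AA t1 t2 t3 * nf ![t1, t2, t3, 0, c1, c2, c3, d1, d2, d3, e, z] =
      nf ![0, 0, 0, 0, c1, c2, c3, d1, d2, d3, e, z] := by
  obtain ⟨a, ha, hw⟩ : ∃ a, AA t1 t2 t3 * nf ![t1, t2, t3, 0, c1, c2, c3, d1, d2, d3, e, z] = nf a ∧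
      a = ![0, 0, 0, 0, c1, c2, c3, d1, d2, d3, e, z] := by
    simp only [nf, AA]
    collect71
    refine ⟨![_, _, _, _, _, _, _, _, _, _, _, _], by simp only [Matrix.cons_val, mul_assoc]; rfl, ?_⟩
    coef71
  rw [ha, hw]

theorem AA_nf (t1 t2 t3 : K) : AA t1 t2 t3 = nf ![t1, t2, t3, 0, 0, 0, 0, 0, 0, 0, 0, 0] := by
  simp [nf, AA]

include hf hK in
theorem P_mem (t : K) : ∃ z, nf ![0, 0, 0, 0, t, φ t, φ (φ t), φ t * φ (φ t), t * φ (φ t), t * φ t,
    t * φ t * φ (φ t), z] ∈ W K q := by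
  have h := conj_B (1 : K) t (φ t) (φ (φ t)) 0 0 0 0 0 0 0 0
  simp only [zero_add, one_mul, zero_mul, mul_zero, add_zero] at h
  refine ⟨0, ?_⟩
  rw [← A_mul, ← h, ← AA_nf]
  exact mul_mem (AA_mem φ hf t) (mul_mem (mul_mem b_mem (AA_mem φ hf t)) (inv_mem b_mem))

include hf hK in
theorem T_kernel (hq : q = 2) (d : K) : ∃ t : K, t ≠ 0 ∧ T φ t d = 0 := by
  by_contra hcon
  push Not at hcon
  let g : K → {x : K // φ x = x} := fun t => ⟨T φ t d, T_fix φ hf hK t d⟩
  have hinj : Function.Injective g := by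
    intro t u e
    have e' : T φ t d = T φ u d := congrArg Subtype.val e
    by_contra hne
    refine hcon (t - u) (sub_ne_zero.2 hne) ?_
    have : T φ (t - u) d = T φ t d - T φ u d := by simp only [T, map_sub]; ring
    rw [this, e', sub_self]
  have := Nat.card_le_card_of_injective g hinj
  rw [card_fix' φ hf hK, Nat.card_eq_fintype_card, hK, hq] at this
  norm_num at this

include hf hK in
theorem D_mem (hq : q = 2) (d : K) : ∃ e z, φ e = e ∧ nf ![0, 0, 0, 0, 0, 0, 0, d, φ d, φ (φ d), e, z] ∈ W K q := by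
  obtain ⟨t, ht, hT⟩ := T_kernel φ hf hK hq d
  obtain ⟨r, hr⟩ := B2_surj φ hf hK ht hT
  obtain ⟨z, hP⟩ := P_mem φ hf hK t
  obtain ⟨z', hc⟩ := conj_A r (φ r) (φ (φ r)) 0 t (φ t) (φ (φ t)) (φ t * φ (φ t)) (t * φ (φ t)) (t * φ t)
    (t * φ t * φ (φ t)) z
  simp only [mul_zero, add_zero, zero_mul] at hc
  have h2 := mul_mem hP (hc ▸ mul_mem (mul_mem (AA_mem φ hf r) hP) (inv_mem (AA_mem φ hf r)))
  obtain ⟨w, hw⟩ := low_mul t (φ t) (φ (φ t)) (φ t * φ (φ t)) (t * φ (φ t)) (t * φ t) (t * φ t * φ (φ t)) z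
    t (φ t) (φ (φ t)) (φ t * φ (φ t) + (φ t * φ (φ r) + φ (φ t) * φ r))
    (t * φ (φ t) + (t * φ (φ r) + φ (φ t) * r)) (t * φ t + (t * φ r + φ t * r))
    (t * φ t * φ (φ t) + (t * φ r * φ (φ r) + φ t * r * φ (φ r) + φ (φ t) * r * φ r) +
      (φ t * φ (φ t) * r + t * φ (φ t) * φ r + t * φ t * φ (φ r))) z'
  rw [hw] at h2
  simp only [char2, ← add_assoc, zero_add] at h2
  have e1 : φ t * φ (φ r) + φ (φ t) * φ r = d := hr
  have e2 : t * φ (φ r) + φ (φ t) * r = φ d := by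
    rw [← e1]; simp only [map_add, map_mul, φ3 φ hf hK]; ring
  have e3 : t * φ r + φ t * r = φ (φ d) := by
    rw [← e1]; simp only [map_add, map_mul, φ3 φ hf hK]
  rw [e1, e2, e3] at h2
  refine ⟨_, w, ?_, h2⟩
  simp only [map_add, map_mul, φ3 φ hf hK]
  ring

include hf hK in
theorem gen_U (hq : q = 2) {g : GL chevD4.Idx K} (hg : g ∈ chevD4.posUnipotent K ⊓ twistedD4 K q) :
    g ∈ W K q := by
  have hfix : ∀ e : K, φ e = e → e = 0 ∨ e = 1 := by
    intro e he
    rw [hf, hq] at he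
    have h0 : e * (e - 1) = 0 := by rw [mul_sub, mul_one, ← pow_two, he, sub_self]
    exact (mul_eq_zero.1 h0).imp id sub_eq_zero.1
  -- the two long levels
  obtain ⟨e0, z0, he0, h0⟩ := D_mem φ hf hK hq 1
  have hE1 : ∃ z, nf ![0, 0, 0, 0, 0, 0, 0, 0, 0, 0, 1, z] ∈ W K q := by
    obtain ⟨r, hr⟩ := T_surj φ hf hK (one_ne_zero : (1 : K) ≠ 0) (map_one φ)
    obtain ⟨z', hc⟩ := conj_A r (φ r) (φ (φ r)) 0 0 0 0 1 (φ 1) (φ (φ 1)) e0 z0
    simp only [mul_zero, add_zero, zero_mul] at hc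
    have h2 := mul_mem h0 (hc ▸ mul_mem (mul_mem (AA_mem φ hf r) h0) (inv_mem (AA_mem φ hf r)))
    obtain ⟨w, hw⟩ := low_mul 0 0 0 1 (φ 1) (φ (φ 1)) e0 z0 0 0 0 1 (φ 1) (φ (φ 1))
      (e0 + (1 * r + φ 1 * φ r + φ (φ 1) * φ (φ r))) z'
    rw [hw] at h2
    simp only [char2, ← add_assoc, zero_add, add_zero] at h2
    have e1 : 1 * r + φ 1 * φ r + φ (φ 1) * φ (φ r) = 1 := hr
    rw [e1] at h2
    exact ⟨w, h2⟩
  obtain ⟨z1, h1⟩ := hE1
  have hZ : nf ![0, 0, 0, 0, 0, 0, 0, 0, 0, 0, 0, (1 : K)] ∈ W K q := by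
    have hc := conj_Br (1 : K) 1 z1
    simp only [mul_one] at hc
    have h2 := mul_mem h1 (hc ▸ mul_mem (mul_mem b_mem h1) (inv_mem b_mem))
    obtain ⟨a, ha, hw⟩ : ∃ a, nf ![0, 0, 0, 0, 0, 0, 0, 0, 0, 0, (1 : K), z1] *
        nf ![0, 0, 0, 0, 0, 0, 0, 0, 0, 0, 1, 1 + z1] = nf a ∧
        a = ![0, 0, 0, 0, 0, 0, 0, 0, 0, 0, 0, 1] := by
      simp only [nf]
      collect71
      refine ⟨![_, _, _, _, _, _, _, _, _, _, _, _], by simp only [Matrix.cons_val, mul_assoc]; rfl, ?_⟩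
      coef71
    rwa [ha, hw] at h2
  have hX23 : ∀ z : K, φ z = z → xg c4 23 z ∈ W K q := by
    intro z hz
    rcases hfix z hz with rfl | rfl
    · rw [xg_zero]; exact one_mem _
    · simpa [nf] using hZ
  have hX22 : ∀ e : K, φ e = e → xg c4 22 e ∈ W K q := by
    intro e he
    rcases hfix e he with rfl | rfl
    · rw [xg_zero]; exact one_mem _
    · have hz1 : φ z1 = z1 := by
        have hG : nf ![0, 0, 0, 0, 0, 0, 0, 0, 0, 0, (1 : K), z1] ∈ chevD4.posUnipotent K ⊓ twistedD4 K q := by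
          refine ⟨nf_mem _, ?_⟩
          have : W K q ≤ twistedD4 K q := by
            refine (Subgroup.closure_le _).2 ?_
            rintro x (rfl | ⟨t, rfl⟩)
            · exact (xg_mem_p2 q (one_pow q)).1
            · exact (tri_mem q t).1
          exact this h1
        obtain ⟨t, s, c, d, e', z, -, -, hz, hn⟩ := exists_nft φ hf hK hG
        have := congrFun (nf_injective hn) 11
        simp at this
        rw [this]; exact hz
      have := mul_mem h1 (inv_mem (hX23 z1 hz1))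
      simpa [nf] using this
  obtain ⟨t, s, c, d, e, z, hs, he, hz, rfl⟩ := exists_nft φ hf hK hg
  have hS : xg c4 14 s ∈ W K q := by
    rcases hfix s hs with rfl | rfl
    · rw [xg_zero]; exact one_mem _
    · exact b_mem
  have hD : ∀ d : K, xg c4 17 d * xg c4 20 (φ d) * xg c4 21 (φ (φ d)) ∈ W K q := by
    intro d
    obtain ⟨e', z', he', h'⟩ := D_mem φ hf hK hq d
    have hz' : φ z' = z' := by
      have hWG : W K q ≤ chevD4.posUnipotent K ⊓ twistedD4 K q := by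
        refine (Subgroup.closure_le _).2 ?_
        rintro x (rfl | ⟨t, rfl⟩)
        · exact ⟨ChevalleyUnipotent.xg_mem_U c4 (by decide) (by decide) _, (xg_mem_p2 q (one_pow q)).1⟩
        · exact ⟨(tw φ).S.Uw_le_U _ (tri_mem_Uw φ _ _ _), (tri_mem q t).1⟩
      obtain ⟨t, s, c, d, e, z, -, -, hz, hn⟩ := exists_nft φ hf hK (hWG h')
      have := congrFun (nf_injective hn) 11
      simp at this
      rw [this]; exact hz
    have := mul_mem (mul_mem h' (inv_mem (hX23 z' hz'))) (inv_mem (hX22 e' he'))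
    simpa [nf] using this
  have hC : xg c4 19 c * xg c4 16 (φ c) * xg c4 15 (φ (φ c)) ∈ W K q := by
    obtain ⟨z', h'⟩ := P_mem φ hf hK c
    have hWG : W K q ≤ chevD4.posUnipotent K ⊓ twistedD4 K q := by
      refine (Subgroup.closure_le _).2 ?_
      rintro x (rfl | ⟨t, rfl⟩)
      · exact ⟨ChevalleyUnipotent.xg_mem_U c4 (by decide) (by decide) _, (xg_mem_p2 q (one_pow q)).1⟩
      · exact ⟨(tw φ).S.Uw_le_U _ (tri_mem_Uw φ _ _ _), (tri_mem q t).1⟩
    have hz' : φ z' = z' := by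
      obtain ⟨t, s, c', d, e, z, -, -, hz, hn⟩ := exists_nft φ hf hK (hWG h')
      have := congrFun (nf_injective hn) 11
      simp at this
      rw [this]; exact hz
    have h3 := mul_mem (mul_mem h' (inv_mem (hX23 z' hz'))) (inv_mem (hX22 (c * φ c * φ (φ c)) (by
      simp only [map_mul, φ3 φ hf hK]; ring)))
    have h4 := mul_mem h3 (inv_mem (hD (φ c * φ (φ c))))
    simp only [map_mul, φ3 φ hf hK] at h4
    simpa [nf, mul_comm (φ (φ c)) c, mul_assoc] using h4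
  have hA : xg c4 18 t * xg c4 13 (φ t) * xg c4 12 (φ (φ t)) ∈ W K q := AA_mem φ hf t
  have := mul_mem (mul_mem (mul_mem (mul_mem (mul_mem hA hS) hC) (hD d)) (hX22 e he)) (hX23 z hz)
  simpa [nft, nf, mul_assoc] using this

/-! ### the data -/

/-- the check on a pair of roots of the radical -/
def highOk (r s : ℕ) : Bool :=
  decide (r < 12 ∨ s < 12 ∨ r = s ∨ lv r = 0 ∨ lv s = 0) || (chevD4.commTerms r s).all fun c => decide (5 ≤ lv c.1)

theorem highOk_all : ∀ r < 24, ∀ s < 24, highOk r s = true := by decide +kernel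

theorem high_terms (r : ℕ) (hr : r < 24) (s : ℕ) (hs : s < 24) (hr' : 12 ≤ r) (hs' : 12 ≤ s) (hne : r ≠ s)
    (h1 : 1 ≤ lv r) (h2 : 1 ≤ lv s) :
    ((chevD4.commTerms r s).all fun c => decide (5 ≤ lv c.1)) = true := by
  have h := highOk_all r hr s hs
  simp only [highOk, Bool.or_eq_true, decide_eq_true_eq] at h
  exact h.resolve_left (by omega)

/-- the radical is abelian modulo the long root group -/
theorem bracket_R1 {g v : GL chevD4.Idx K} (hg : g ∈ R K 1) (hv : v ∈ R K 1) : ⁅g, v⁆ ∈ R K 5 := by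
  have hU : ∀ {a}, a ∈ R K 1 → a ∈ chevD4.posUnipotent K := fun ha => R_le_U _ ha
  induction hg using Subgroup.closure_induction generalizing v with
  | mem x hx =>
    obtain ⟨r, t, hr, hr', hj, rfl⟩ := hx
    induction hv using Subgroup.closure_induction with
    | mem y hy =>
      obtain ⟨s, u, hs, hs', hi, rfl⟩ := hy
      by_cases hne : r = s
      · subst hne
        rw [commutatorElement_eq_one_iff_mul_comm.2 (by rw [xg_mul, xg_mul, add_comm])]
        exact one_mem _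
      obtain ⟨-, hn, hc⟩ := comm_level s hs' r hr' hs hr (fun e => hne e.symm)
      have hw : wg c4 (chevD4.commWord K s r u t) ∈ R K 5 := by
        apply Subgroup.list_prod_mem
        intro g hg
        simp only [ChevalleyDatum.commWord, List.map_map, List.mem_map] at hg
        obtain ⟨c, hcm, rfl⟩ := hg
        obtain ⟨a1, a2, -, -⟩ := hc c hcm
        have := List.all_eq_true.1 (high_terms s hs' r hr' hs hr (fun e => hne e.symm) hi hj) c hcm
        exact xg_mem_R a2 a1 (of_decide_eq_true this) _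
      have he := comm_formula c4 (r := s) (s := r) hs' hr' hne hn u t
      rw [commutatorElement_def, he]
      have e : xg c4 s u * xg c4 r t * wg c4 (chevD4.commWord K s r u t) * (xg c4 r t)⁻¹ * (xg c4 s u)⁻¹ =
          (xg c4 s u * xg c4 r t) * wg c4 (chevD4.commWord K s r u t) * (xg c4 s u * xg c4 r t)⁻¹ := by group
      rw [e]
      exact conj_R (mul_mem (hU (xg_mem_R hs hs' hi u)) (hU (xg_mem_R hr hr' hj t))) _ hw
    | one => simp
    | mul a b ha _ iha ihb =>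
      have e : ⁅xg c4 r t, a * b⁆ = ⁅xg c4 r t, a⁆ * (a * ⁅xg c4 r t, b⁆ * a⁻¹) := by
        simp only [commutatorElement_def]; group
      rw [e]; exact mul_mem iha (conj_R (hU ha) _ ihb)
    | inv a ha iha =>
      have e : ⁅xg c4 r t, a⁻¹⁆ = a⁻¹ * ⁅xg c4 r t, a⁆⁻¹ * a⁻¹⁻¹ := by
        simp only [commutatorElement_def]; group
      rw [e]; exact conj_R (inv_mem (hU ha)) _ (inv_mem iha)
  | one => simp
  | mul a b ha _ iha ihb =>
    have e : ⁅a * b, v⁆ = a * ⁅b, v⁆ * a⁻¹ * ⁅a, v⁆ := by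
      simp only [commutatorElement_def]; group
    rw [e]; exact mul_mem (conj_R (hU ha) _ (ihb hv)) (iha hv)
  | inv a ha iha =>
    have e : ⁅a⁻¹, v⁆ = a⁻¹ * ⁅a, v⁆⁻¹ * a⁻¹⁻¹ := by
      simp only [commutatorElement_def]; group
    rw [e]; exact conj_R (inv_mem (hU ha)) _ (inv_mem (iha hv))

section Ext

variable {Γ : Type*} [Group Γ] [Finite Γ] {σ : Γ →* ↥(twistedD4 K q)} (hs : Function.Surjective σ)
  (hc : σ.ker ≤ Subgroup.center Γ)

include hf hK hs hc in
theorem kerFree_U_two (hq : q = 2) : StemBasic.KerFree σ (TwistAutRigid.U1 (twistedD4 K q)) := by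
  have hK8 : Fintype.card K = 8 := by rw [hK, hq]; norm_num
  have h7 : ∀ b : Kˣ, b ^ 7 = 1 := by
    intro b
    have hc7 : Nat.card Kˣ = 7 := by rw [TwistedField.card_units_eq, hK8]
    rw [← hc7, pow_card_eq_one']
  have hN : ∀ b : Kˣ, b * b ^ q * b ^ q ^ 2 = 1 := by
    intro b
    rw [hq, ← h7 b, show b ^ 7 = b ^ (1 + 2 + 2 ^ 2) from rfl, pow_add, pow_add, pow_one]
  have hsq : ∀ b : Kˣ, b ≠ 1 → b ^ 2 ≠ 1 := by
    intro b hb h
    apply hb
    calc b = b ^ 7 * (b ^ 2)⁻¹ * (b ^ 2)⁻¹ * (b ^ 2)⁻¹ := by group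
      _ = 1 := by rw [h, h7]; simp
  have move : ∀ b : Kˣ, b ≠ 1 → D4StemP9.Move q 1 b 0 := by
    intro b hb
    refine D4StemU9.h5_move (hN b) (hsq b hb) (hsq _ ?_) (hsq _ ?_) 0 (by simp) <;>
    · intro e
      apply hb
      calc b = b ^ 8 := by rw [show b ^ 8 = b ^ 7 * b from pow_succ b 7, h7, one_mul]
        _ = 1 := by
          rw [hq] at e
          first
            | rw [show b ^ 8 = (b ^ 2) ^ 4 from pow_mul b 2 4, e, one_pow]
            | rw [show b ^ 8 = (b ^ 2 ^ 2) ^ 2 from pow_mul b (2 ^ 2) 2, e, one_pow]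
  have fix5 : ∀ b : Kˣ, D4StemP9.Fix q 1 b 5 := by
    intro b r hr
    simp only [orb, List.mem_singleton] at hr
    subst hr
    rw [D4StemU9.orb5]
  have fix1 : ∀ b : Kˣ, D4StemP9.Fix q 1 b 1 := by
    intro b r hr
    simp only [orb, List.mem_singleton] at hr
    subst hr
    rw [D4StemU9.orb1, hN]; simp
  obtain ⟨b0, hb0⟩ : ∃ b : Kˣ, b ≠ 1 := by
    by_contra hcon
    push Not at hcon
    have h1 : Nat.card Kˣ = 1 := Nat.card_eq_one_iff_unique.2 ⟨⟨fun a a' => (hcon a).trans (hcon a').symm⟩, ⟨1⟩⟩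
    rw [TwistedField.card_units_eq, hK8] at h1
    norm_num at h1
  have h1q : (1 : Kˣ) ^ q = 1 := one_pow q
  obtain ⟨h, hh⟩ := hs (th φ hf h1q b0)
  obtain ⟨SA, hSA, -, -⟩ := StemSection9.step (X := X K q 0) (N := X K q 0) hs hc (Sec.bot σ) le_rfl bot_le
    (fun g hg => ⟨g, hg, 1, Subgroup.one_mem _, (mul_one g).symm⟩) (fun x _ h2 => Subgroup.mem_bot.1 h2)
    (ab_all φ hf hK hs hc (by norm_num)) (fun x _ => nrm_bot x) h
    (fun x hx => by rw [hh]; exact th_bracket_X φ hf h1q b0 hx)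
    (fun x hx => by
      obtain ⟨y, hy, he⟩ := move_X φ hf hK h1q (move b0 hb0) hx
      exact ⟨y, hy, by rw [hh]; exact he⟩)
  have hb14 : xg c4 14 (1 : K) ∈ twistedD4 K q := (xg_mem_p2 q (one_pow q)).1
  have hz23 : xg c4 23 (1 : K) ∈ twistedD4 K q :=
    fixed_mem φ hf hK (ChevalleyUnipotent.xg_mem_U c4 (by decide) (by decide) _)
      (single_fixed φ hf hK (by decide) (map_one φ))
  set bG : ↥(twistedD4 K q) := ⟨_, hb14⟩ with hbG
  set cG : ↥(twistedD4 K q) := ⟨_, hz23⟩ with hcG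
  have hbX : bG ∈ X K q 1 := show xg c4 14 (1 : K) ∈ Y K (lv 14) from xg_mem_Y (by norm_num) (by norm_num) _
  have hcX : cG ∈ X K q 5 := show xg c4 23 (1 : K) ∈ Y K (lv 23) from xg_mem_Y (by norm_num) (by norm_num) _
  have hX5 : ∀ x ∈ X K q 5, x = 1 ∨ x = cG := by
    intro x hx
    obtain ⟨c, he⟩ := Y5_form (K := K) hx
    have hG : xg c4 23 c ∈ twistedD4 K q := he ▸ x.2
    obtain ⟨t, s, c', d, e, z, -, -, hz, hn⟩ := exists_nft φ hf hK
      ⟨ChevalleyUnipotent.xg_mem_U c4 (by decide) (by decide) c, hG⟩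
    have hn' : nf ![0, 0, 0, 0, 0, 0, 0, 0, 0, 0, 0, c] = nft φ t s c' d e z := by rw [← hn]; simp [nf]
    have hcz := congrFun (nf_injective hn') 11
    simp at hcz
    subst hcz
    rw [hf, hq] at hz
    have h0 : c * (c - 1) = 0 := by rw [mul_sub, mul_one, ← pow_two, hz, sub_self]
    rcases (mul_eq_zero.1 h0).imp id sub_eq_zero.1 with rfl | rfl
    · left; exact Subtype.ext (he.trans (xg_zero c4 _))
    · right; exact Subtype.ext he
  let el : K → ↥(twistedD4 K q) := fun t => ⟨tri t (t ^ q) (t ^ q ^ 2), (tri_mem q t).1⟩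
  have hel : ∀ t, el t ∈ X K q 0 := fun t => tri_mem_Y (K := K) _ _ _
  have hform : ∀ x ∈ X K q 0, ∃ t, x = el t := fun x hx => by
    obtain ⟨t, ht⟩ := X0_form φ hf hK hx
    exact ⟨t, Subtype.ext ht⟩
  have hU1 : ∀ {x : ↥(twistedD4 K q)} {i}, x ∈ X K q i → x ∈ TwistAutRigid.U1 (twistedD4 K q) :=
    fun hx => R_le_U _ (Y_le_R _ hx)
  refine StemRegular9.Data.kerFree hs (A := X K q 0) (SA := SA) (b := bG) (c := cG)
    ⟨hc, hSA.map_eq, hSA.inj, ?_, ab_all φ hf hK hs hc (by norm_num), ?_, ?_, ?_, ?_, ?_, ?_, ?_, ?_, ?_⟩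
  · intro a ha
    obtain ⟨t, rfl⟩ := hform a ha
    refine Subtype.ext ?_
    show tri t (t ^ q) (t ^ q ^ 2) * tri t (t ^ q) (t ^ q ^ 2) = 1
    rw [tri_mul, char2, char2, char2]
    simp [tri]
  · refine le_antisymm ?_ ((Subgroup.closure_le _).2 ?_)
    · intro x hx
      have h1 := gen_U φ hf hK hq (Subgroup.mem_inf.2 ⟨hx, x.2⟩)
      have hle : W K q ≤ (Subgroup.closure (insert bG (X K q 0 : Set ↥(twistedD4 K q)))).map
          (twistedD4 K q).subtype := by
        refine (Subgroup.closure_le _).2 ?_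
        rintro y (rfl | ⟨t, rfl⟩)
        · exact ⟨bG, Subgroup.subset_closure (Set.mem_insert _ _), rfl⟩
        · exact ⟨el t, Subgroup.subset_closure (Set.mem_insert_of_mem _ (hel t)), rfl⟩
      obtain ⟨y, hy, he⟩ := hle h1
      rwa [← show y = x from Subtype.ext he]
    · rintro x (rfl | hx)
      exacts [hU1 hbX, hU1 hx]
  · refine Subtype.ext ?_
    show xg c4 14 (1 : K) * xg c4 14 1 = 1
    rw [xg_mul, char2, xg_zero]
  · refine Subtype.ext ?_
    show xg c4 23 (1 : K) * xg c4 23 1 = 1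
    rw [xg_mul, char2, xg_zero]
  · intro x y hx hy
    obtain ⟨x', hx', he⟩ := move_X φ hf hK h1q (move b0 hb0) hx
    obtain ⟨x'', rfl⟩ := hs x'
    have hhy : Commute (σ h) (σ y) := by
      rw [hh, hy]; exact fix_X φ hf h1q (by norm_num) (fix5 b0) hcX
    have hb : σ ⁅x'', y⁆ ∈ (⊥ : Subgroup ↥(twistedD4 K q)) := by
      rw [map_commutatorElement, hy, Subgroup.mem_bot]
      exact N_top (by norm_num) (bracket_X hx' hcX)
    exact commutatorElement_eq_one_iff_commute.1 (Subgroup.mem_bot.1 (bracket_lift' (g := x) (g' := x'') hc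
      (Sec.bot σ) hhy (by rw [hh, he]) (nrm_bot h) (nrm_bot x) hb))
  · exact commutatorElement_eq_one_iff_commute.1 (N_top (by norm_num) (bracket_X hcX hbX))
  · intro a ha
    have hbR : (bG : GL chevD4.Idx K) ∈ R K 1 := Y_le_R 1 hbX
    have h5 : ⁅bG, a * bG * a⁻¹⁆ ∈ N K q 5 :=
      bracket_R1 (K := K) hbR (conj_R (R_le_U _ (Y_le_R 0 ha)) _ hbR)
    obtain ⟨x, hx, v, hv, he⟩ := exists_XN φ hf hK (by norm_num) h5
    rw [N_top le_rfl hv, mul_one] at he
    exact he ▸ hX5 x hx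
  · have e : Nat.card (TwistAutRigid.U1 (twistedD4 K q)) = Nat.card ↥(chevD4.posUnipotent K ⊓ twistedD4 K q) :=
      Nat.card_congr ⟨fun y => ⟨y.1, y.2, y.1.2⟩, fun y => ⟨⟨y, y.2.2⟩, y.2.1⟩, fun _ => rfl, fun _ => rfl⟩
    rw [e, card_U1 φ hf hK, hq]
  · have hb : Function.Bijective (fun t : K => (⟨el t, hel t⟩ : X K q 0)) :=
      ⟨fun t u e => (tri_inj (congrArg Subtype.val (congrArg Subtype.val e) :)).1, fun x => by
        obtain ⟨t, ht⟩ := hform x x.2
        exact ⟨t, Subtype.ext ht.symm⟩⟩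
    rw [← Nat.card_eq_of_bijective _ hb, Nat.card_eq_fintype_card, hK8]
  · intro x hx y hy hx1 hy1
    obtain ⟨t, rfl⟩ := hform x hx
    obtain ⟨u, rfl⟩ := hform y hy
    have hel0 : el 0 = 1 := Subtype.ext (by simp [el, tri, hq])
    have ht0 : t ≠ 0 := by rintro rfl; exact hx1 hel0
    have hu0 : u ≠ 0 := by rintro rfl; exact hy1 hel0
    obtain ⟨w, hw⟩ := FiniteField.isSquare_of_char_two (ringChar.eq K 2) (u / t)
    have hw0 : w ≠ 0 := by
      rintro rfl
      rw [mul_zero] at hw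
      exact div_ne_zero hu0 ht0 hw
    obtain ⟨g, hg⟩ := hs (th φ hf h1q (Units.mk0 w hw0))
    refine ⟨g, ?_, ?_, ?_, ?_⟩
    · rw [hg]
      refine Subtype.ext ?_
      show torus chevD4 (tp q 1 (Units.mk0 w hw0)) * tri t (t ^ q) (t ^ q ^ 2) *
        (torus chevD4 (tp q 1 (Units.mk0 w hw0)))⁻¹ = tri u (u ^ q) (u ^ q ^ 2)
      have hu : u = w ^ 2 * t := by rw [pow_two, ← hw, div_mul_cancel₀ u ht0]
      obtain ⟨t0, t1, t2, t3⟩ := tchar_simples (tp q 1 (Units.mk0 w hw0))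
      obtain ⟨e1, e2, e3, e4, -⟩ := simples
      rw [e1] at t0; rw [e3] at t2; rw [e4] at t3
      set T := torus chevD4 (tp q 1 (Units.mk0 w hw0)) with hT
      have e : ∀ a b c : K, T * tri a b c * T⁻¹ =
          (T * xg c4 d4p1 a * T⁻¹) * (T * xg c4 d4p3 b * T⁻¹) * (T * xg c4 d4p4 c * T⁻¹) := by
        intro a b c; unfold tri; group
      rw [e, hT, torus_conj_xg c4 (by decide +kernel), torus_conj_xg c4 (by decide +kernel),
        torus_conj_xg c4 (by decide +kernel), t0, t2, t3, tri, hu, mul_pow, mul_pow]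
      simp [tp, ← pow_mul, mul_comm]
    · rw [hg]; exact fix_X φ hf h1q (by norm_num) (fix1 _) hbX
    · rw [hg]; exact fix_X φ hf h1q (by norm_num) (fix5 _) hcX
    · rw [hg]
      refine Subtype.ext ?_
      show torus chevD4 (tp q 1 (Units.mk0 w hw0)) ^ 7 = 1
      rw [← map_pow]
      have : (tp q 1 (Units.mk0 w hw0)) ^ 7 = 1 := by
        funext i
        exact h7 _
      rw [this, map_one]

end Ext

end Cfsg.Agent.D4StemTwo9
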