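import Cfsg.Agent.Lib.StemSL2

/-!
Central extensions of `SL₂(q)`: a kernel element of prime order different from the characteristic
is not a product of commutators.
-/

set_option autoImplicit false
set_option linter.unusedSectionVars false

namespace Cfsg.Agent.StemSL2Kill9

open Subgroup
open scoped MatrixGroups commutatorElement

variable {F : Type*} [Field F] [Fintype F] (p : ℕ) [Fact p.Prime] [CharP F p]
variable {Γ : Type*} [Group Γ] [Finite Γ] {σ : Γ →* SL(2, F)}

include p in
/-- No kernel elements of prime order different from the characteristic. -/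
theorem kill_prime9 (hs : Function.Surjective σ) (hc : σ.ker ≤ center Γ) {ℓ : ℕ} (hl : ℓ.Prime) (hlp : ℓ ≠ p) {z : Γ}
    (hz : σ z = 1) (hzd : z ∈ commutator Γ) (ho : orderOf z = ℓ) : False := by
  obtain ⟨n, hp, hn⟩ := FiniteField.card F p
  have hlq : ¬ ℓ ∣ Fintype.card F := by
    rw [hn]
    intro h
    exact hlp ((Nat.prime_dvd_prime_iff_eq hl hp).1 (hl.dvd_of_dvd_pow h))
  have hq1 : 1 < Fintype.card F := Fintype.one_lt_card
  have hz1 : z ≠ 1 := fun h => by
    rw [h, orderOf_one] at ho
    exact hl.ne_one ho.symm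
  have kill : ∀ H : Subgroup SL(2, F), StemBasic.KerFree σ H → ¬ ℓ ∣ H.index → False :=
    fun H hH hH' => hz1 (hH z (StemBasic.mem_commutator_of_index (show z ∈ H.comap σ from Subgroup.mem_comap.2 (by rw [hz]; exact H.one_mem))
      (hc hz) hzd (by rw [ho, StemBasic.index_comap hs]; exact hl.coprime_iff_not_dvd.2 hH')) hz)
  obtain ⟨g, hg⟩ := StemSL2.exists_split (F := F)
  obtain ⟨a, ha⟩ := StemSL2.exists_nonsplit (F := F)
  set q := Fintype.card F with hq
  by_cases h2 : ℓ = 2
  · subst h2
    have h2F : (2 : F) ≠ 0 := by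
      intro h
      exact hlp ((Nat.prime_dvd_prime_iff_eq hp Nat.prime_two).1
        ((CharP.cast_eq_zero_iff F p 2).1 (by exact_mod_cast h))).symm
    have hqodd : q % 2 = 1 := by omega
    have hq4 : q % 4 = 1 ∨ q % 4 = 3 := by omega
    have main : ∀ (a b : SL(2, F)) (o : ℕ), orderOf a = o → o % 2 = 0 → 0 < o →
        b * a * b⁻¹ = a⁻¹ → b * b = -1 → b ∉ zpowers a →
        ∀ r, o * r = q * ((q + 1) * (q - 1)) → r % 4 ≠ 0 → False := by
      intro a b o ho2 heven hpos hinv hb hbn r hr hr4
      have hm := StemSL2.pow_half_eq_neg_one h2F (a := a) (m := o / 2) (by omega) (by omega)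
      refine kill (closure {a, b}) (StemBasic.kerFree_dicyclic σ hs hc a b (o / 2) hinv
        (hb.trans hm.symm) (by omega)) ?_
      intro hdvd
      obtain ⟨i, hi⟩ := hdvd
      obtain ⟨c, hc⟩ := StemSL2.two_mul_dvd_card_closure a b hinv (by rw [hb, ← hm]; exact npow_mem_zpowers _ _) hbn
      have hprod := (closure ({a, b} : Set SL(2, F))).index_mul_card
      rw [StemSL2.card_SL2', ← hq, hi, hc, ho2, ← hr] at hprod
      have : r = 4 * (i * c) :=
        Nat.eq_of_mul_eq_mul_left hpos (by rw [← hprod]; ring)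
      omega
    rcases hq4 with h4 | h4
    · refine main (PSL2Elements.d g) PSL2Elements.w (q - 1) hg (by omega) (by omega) ?_
        PSL2Elements.w_sq ?_ (q * (q + 1)) (by ring) ?_
      · rw [PSL2Elements.w_conj_d]
        exact map_inv PSL2Elements.dHom g
      · intro hw
        obtain ⟨k, hk⟩ := mem_zpowers_iff.1 hw
        have : PSL2Elements.dHom (g ^ k) = PSL2Elements.w := by rw [map_zpow]; exact hk
        have := congrArg (fun A : SL(2, F) => A.1 1 0) this
        simp [PSL2Elements.dHom, PSL2Elements.d, PSL2Elements.w] at this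
      · rw [Nat.mul_mod, Nat.add_mod, h4]; simp
    · obtain ⟨b, hb1, hb2⟩ := StemSL2.exists_invert p h2F ha
      refine main a b (q + 1) ha (by omega) (by omega) hb1 hb2 ?_ (q * (q - 1)) (by ring) ?_
      · intro hb
        obtain ⟨k, hk⟩ := mem_zpowers_iff.1 hb
        rw [← hk] at hb1
        have e : a ^ k * a * (a ^ k)⁻¹ = a := by group
        rw [e] at hb1
        have : a ^ 2 = 1 := by
          rw [pow_two]; nth_rewrite 1 [hb1]; rw [inv_mul_cancel]
        have := Nat.le_of_dvd two_pos (ha ▸ orderOf_dvd_of_pow_eq_one this)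
        omega
      · have : (q - 1) % 4 = 2 := by omega
        rw [Nat.mul_mod, h4, this]; simp
  · by_cases hsplit : ℓ ∣ q + 1
    · refine kill (zpowers a) (StemBasic.kerFree_zpowers σ hc a) ?_
      have h := StemSL2.index_zpowers a
      rw [ha] at h
      have hidx : (zpowers a).index = q * (q - 1) :=
        Nat.eq_of_mul_eq_mul_right (show 0 < q + 1 by omega) (by rw [h]; ring)
      rw [hidx]
      intro hd
      rcases hl.dvd_mul.1 hd with hd | hd
      · exact hlq hd
      · have := Nat.dvd_sub hsplit hd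
        rw [show q + 1 - (q - 1) = 2 by omega] at this
        exact h2 ((Nat.prime_dvd_prime_iff_eq hl Nat.prime_two).1 this)
    · refine kill (zpowers (PSL2Elements.d g)) (StemBasic.kerFree_zpowers σ hc _) ?_
      have h := StemSL2.index_zpowers (PSL2Elements.d g)
      rw [hg] at h
      have hidx : (zpowers (PSL2Elements.d g)).index = q * (q + 1) :=
        Nat.eq_of_mul_eq_mul_right (show 0 < q - 1 by omega) (by rw [h]; ring)
      rw [hidx]
      intro hd
      rcases hl.dvd_mul.1 hd with hd | hd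
      · exact hlq hd
      · exact hsplit hd

include p in
/-- a subgroup isomorphic to `SL₂(q)` has no multiplier prime to `q` -/
theorem kerFree_range {Δ G : Type*} [Group Δ] [Finite Δ] [Group G] {τ : Δ →* G} (hs : Function.Surjective τ)
    (hc : τ.ker ≤ center Δ) (hp : Nat.Coprime (Nat.card τ.ker) p) {φ : SL(2, F) →* G}
    (hφ : Function.Injective φ) : StemBasic.KerFree τ φ.range := by
  rintro w ⟨w', hw', rfl⟩ hw1
  by_contra hne
  let e := MonoidHom.ofInjective hφ
  let ρ : φ.range.comap τ →* SL(2, F) :=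
    e.symm.toMonoidHom.comp ((τ.comp (φ.range.comap τ).subtype).codRestrict φ.range fun x => x.2)
  have hρ : ∀ x, ρ x = 1 → τ (x : Δ) = 1 := fun x hx => by
    have : (⟨τ (x : Δ), x.2⟩ : φ.range) = 1 := e.symm.injective (by rw [map_one]; exact hx)
    exact congrArg Subtype.val this
  have hρs : Function.Surjective ρ := fun g => by
    obtain ⟨γ, hγ⟩ := hs (φ g)
    refine ⟨⟨γ, g, hγ.symm⟩, ?_⟩
    show e.symm ⟨τ γ, _⟩ = g
    rw [MulEquiv.symm_apply_eq]
    exact Subtype.ext hγ
  have hρc : ρ.ker ≤ center (φ.range.comap τ) := fun x hx =>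
    mem_center_iff.2 fun g => Subtype.ext (StemBasic.ker_comm hc (hρ x (MonoidHom.mem_ker.1 hx)) (g : Δ))
  have hw'1 : ρ w' = 1 := by
    show e.symm ⟨τ (w' : Δ), _⟩ = 1
    rw [MulEquiv.symm_apply_eq, map_one]
    exact Subtype.ext hw1
  have hwne : w' ≠ 1 := fun h => hne (by rw [h]; rfl)
  have h1 : orderOf w' ≠ 1 := fun h => hwne (orderOf_eq_one_iff.1 h)
  obtain ⟨ℓ, hl, hd⟩ := Nat.exists_prime_and_dvd h1
  have ho : orderOf (w' ^ (orderOf w' / ℓ)) = ℓ := orderOf_pow_orderOf_div (orderOf_pos w').ne' hd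
  refine kill_prime9 p hρs hρc hl ?_ (z := w' ^ (orderOf w' / ℓ)) (by rw [map_pow, hw'1, one_pow])
    ((commutator _).pow_mem hw' _) ho
  rintro rfl
  have h2 : ℓ ∣ Nat.card τ.ker := by
    refine hd.trans ?_
    rw [← Subgroup.orderOf_coe]
    exact StemBasic.orderOf_dvd_card_ker hw1
  exact hl.not_dvd_one (hp ▸ Nat.dvd_gcd h2 dvd_rfl)

end Cfsg.Agent.StemSL2Kill9
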