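import Cfsg.Agent.Lib.D4StemU9
import Cfsg.Agent.Lib.D4StemTwo9
import Cfsg.Agent.Lib.StemTwistBN9
import Cfsg.Agent.Lib.StemSL2Kill9
import Cfsg.Agent.Lib.TwistAutD4
import Cfsg.Agent.Lib.TwistedD4Levi77

/-!
The Schur multiplier of `³D₄(q)` is trivial.
-/

set_option autoImplicit false
set_option linter.unusedSectionVars false
set_option linter.unusedVariables false
set_option linter.unusedSimpArgs false
set_option maxRecDepth 20000

namespace Cfsg.Agent.D4StemMain9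

open Cfsg.Lie Cfsg.Agent Cfsg.Agent.ChevalleyCert Cfsg.Agent.ChevalleyCore Cfsg.Agent.ChevalleyRoots
  Cfsg.Agent.ChevalleyTorus Cfsg.Agent.TwistedCore Cfsg.Agent.TwistedTools Cfsg.Agent.TwistedD4
  Cfsg.Agent.ChevWeyl Cfsg.Agent.ChevBruhat Cfsg.Agent.D4Levels9 Cfsg.Agent.D4StemP9 Cfsg.Agent.TwistAutD4
open scoped commutatorElement MatrixGroups

variable {K : Type*} [Field K] {q : ℕ} (f : K →+* K) (hf : ∀ t, f t = t ^ q)
variable [Fintype K] (hK : Fintype.card K = q ^ 3)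

/-! ### elements over the Weyl group -/

/-- `g` lies in `N` and maps to the element of a word -/
def HasW (g : GL chevD4.Idx K) (l : List (Fin chevD4.rank)) : Prop :=
  ∃ h : g ∈ chevD4.monomialSubgroup K, (tw f).S.toW ⟨g, h⟩ = (tw f).wd l

theorem HasW.mul {g g' : GL chevD4.Idx K} {l l' : List (Fin chevD4.rank)} (h : HasW f g l) (h' : HasW f g' l') :
    HasW f (g * g') (l ++ l') := by
  obtain ⟨a, e⟩ := h
  obtain ⟨b, e'⟩ := h'
  refine ⟨mul_mem a b, ?_⟩
  rw [show (⟨g * g', mul_mem a b⟩ : ↥(chevD4.monomialSubgroup K)) = ⟨g, a⟩ * ⟨g', b⟩ from rfl, map_mul, e, e',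
    (tw f).wd_append]

theorem HasW.one : HasW f (1 : GL chevD4.Idx K) [] :=
  ⟨one_mem _, by rw [show (⟨1, one_mem _⟩ : ↥(chevD4.monomialSubgroup K)) = 1 from rfl, map_one]; rfl⟩

theorem wd_reverse_mul : ∀ l : List (Fin chevD4.rank), (tw f).wd l.reverse * (tw f).wd l = 1 := by
  intro l
  induction l with
  | nil => show (tw f).wd [] * (tw f).wd [] = 1; simp [Twist.wd]
  | cons i l ih =>
    rw [List.reverse_cons, (tw f).wd_append, show i :: l = [i] ++ l from rfl, (tw f).wd_append, mul_assoc,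
      ← mul_assoc ((tw f).wd [i]),
      show (tw f).wd [i] * (tw f).wd [i] = 1 from (tw f).wd_mul_self fun r hr => by
        have key : ∀ i : Fin chevD4.rank, ∀ r < chevD4.nroots,
            Twist.wact' chevD4 [i] (Twist.wact' chevD4 [i] r) = r := by decide +kernel
        exact key i r hr, one_mul, ih]

theorem HasW.inv {g : GL chevD4.Idx K} {l : List (Fin chevD4.rank)} (h : HasW f g l) :
    HasW f g⁻¹ l.reverse := by
  obtain ⟨a, e⟩ := h
  refine ⟨inv_mem a, ?_⟩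
  rw [show (⟨g⁻¹, inv_mem a⟩ : ↥(chevD4.monomialSubgroup K)) = (⟨g, a⟩ : ↥(chevD4.monomialSubgroup K))⁻¹ from rfl,
    map_inv, e, inv_eq_iff_mul_eq_one]
  exact mul_eq_one_comm.1 (wd_reverse_mul f l)

theorem HasW.pow {g : GL chevD4.Idx K} {l : List (Fin chevD4.rank)} (h : HasW f g l) :
    ∀ i : ℕ, HasW f (g ^ i) (List.replicate i l).flatten := by
  intro i
  induction i with
  | zero => simpa using HasW.one f
  | succ i ih =>
    rw [pow_succ', List.replicate_succ, List.flatten_cons]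
    exact h.mul f ih

theorem HasW.conj {g : GL chevD4.Idx K} {l : List (Fin chevD4.rank)} (h : HasW f g l) {r : ℕ} (hr : r < 24)
    (t : K) : ∃ u : K, g * xg c4 r t * g⁻¹ = xg c4 (Twist.wact' chevD4 l r) u := by
  obtain ⟨a, e⟩ := h
  obtain ⟨c, -, h1, -⟩ := (tw f).S.acts_toW ⟨g, a⟩ r hr
  refine ⟨c * t, ?_⟩
  have := h1 t
  rw [e, (tw f).img_wd l hr] at this
  exact this

theorem HasW.mem_H {g : GL chevD4.Idx K} {l : List (Fin chevD4.rank)} (h : HasW f g l)
    (hl : ∀ r < chevD4.nroots, Twist.wact' chevD4 l r = r) : g ∈ chevD4.diagonalSubgroup K := by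
  obtain ⟨a, e⟩ := h
  have h1 : (tw f).S.toW ⟨g, a⟩ = (tw f).S.toW 1 := by
    rw [e, map_one]
    exact (tw f).eq_of_img fun r hr => by rw [(tw f).img_wd l hr, (tw f).X.img_one, hl r hr]
  have := (tw f).S.toW_eq_iff.1 h1.symm
  simpa using this

theorem HasW.fixed_of_B {g h u : GL chevD4.Idx K} {l : List (Fin chevD4.rank)} (hg : HasW f g l)
    (hh : h ∈ chevD4.diagonalSubgroup K) (hu : u ∈ chevD4.posUnipotent K) (e : g = h * u) :
    ∀ r < chevD4.nroots, Twist.wact' chevD4 l r = r := by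
  obtain ⟨a, ew⟩ := hg
  intro r hr
  have h1 := (tw f).S.toW_unique (n := ⟨g, a⟩) (n' := 1) (b := 1) (b' := h) (u := 1) (u' := u)
    (one_mem _) (Sys.H_le_B hh) (one_mem _) (Sys.U_le_B hu) (by simpa using e)
  rw [map_one, ew] at h1
  rw [← (tw f).img_wd l hr, h1, (tw f).X.img_one]

/-- a positive root -/
def pos (r : ℕ) : Bool := decide (12 ≤ r) && decide (r < 24)

/-- roots going to positive roots -/
theorem HasW.conj_U {g : GL chevD4.Idx K} {l : List (Fin chevD4.rank)} (h : HasW f g l) (P : ℕ → Prop)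
    (hP : ∀ r < 24, P r → pos (Twist.wact' chevD4 l r) = true) {x : GL chevD4.Idx K}
    (hx : x ∈ Subgroup.closure {y | ∃ r t, r < 24 ∧ P r ∧ y = xg c4 r t}) :
    g * x * g⁻¹ ∈ chevD4.posUnipotent K := by
  induction hx using Subgroup.closure_induction with
  | mem y hy =>
    obtain ⟨r, t, hr, hPr, rfl⟩ := hy
    obtain ⟨u, hu⟩ := h.conj f hr t
    have := hP r hr hPr
    simp only [pos, Bool.and_eq_true, decide_eq_true_eq] at this
    rw [hu]
    exact ChevalleyUnipotent.xg_mem_U c4 this.1 this.2 _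
  | one => simp
  | mul a b _ _ ha hb =>
    have e : g * (a * b) * g⁻¹ = g * a * g⁻¹ * (g * b * g⁻¹) := by group
    rw [e]; exact mul_mem ha hb
  | inv a _ ha =>
    have e : g * a⁻¹ * g⁻¹ = (g * a * g⁻¹)⁻¹ := by group
    rw [e]; exact inv_mem ha

theorem Y_le_roots {j : ℕ} (P : ℕ → Prop) (h : ∀ r ∈ orb j, P r) :
    Y K j ≤ Subgroup.closure {y : GL chevD4.Idx K | ∃ r t, r < 24 ∧ P r ∧ y = xg c4 r t} := by
  refine Subgroup.closure_mono ?_
  rintro g ⟨r, t, h1, h2, h3, rfl⟩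
  exact ⟨r, t, h2, h r (h3 ▸ (mem_orb r h2 h1).2), rfl⟩

theorem R_le_roots {j : ℕ} (P : ℕ → Prop) (h : ∀ r < 24, 12 ≤ r → j ≤ lv r → P r) :
    R K j ≤ Subgroup.closure {y : GL chevD4.Idx K | ∃ r t, r < 24 ∧ P r ∧ y = xg c4 r t} := by
  refine Subgroup.closure_mono ?_
  rintro g ⟨r, t, h1, h2, h3, rfl⟩
  exact ⟨r, t, h2, h r h2 h1 h3, rfl⟩

/-- the words of the twelve elements -/
def wl (i : ℕ) (j : Bool) : List (Fin chevD4.rank) :=
  (List.replicate i (cl4 false ++ cl4 true)).flatten ++ (if j then cl4 false else [])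

/-- a word moves some root -/
def movesOk (i : ℕ) (j : Bool) : Bool :=
  (i == 0 && !j) || (List.range 24).any fun r => decide (Twist.wact' chevD4 (wl i j) r ≠ r)

/-- the dichotomy of a word and a class -/
def dichOk (c : Bool) (o : ℕ) (i : ℕ) (j : Bool) : Bool :=
  ((orb o).all fun r => pos (Twist.wact' chevD4 (wl i j).reverse r)) ||
    ((orb o).all fun r => pos (Twist.wact' chevD4 (cl4 c ++ wl i j).reverse r))

theorem words_ok : ∀ i < 6, ∀ j : Bool, movesOk i j = true ∧ dichOk false 0 i j = true ∧ dichOk true 1 i j = true := by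
  decide +kernel

/-- the word `babab` -/
def vl : List (Fin chevD4.rank) := cl4 true ++ cl4 false ++ cl4 true ++ cl4 false ++ cl4 true

theorem vl_orb : ∀ r ∈ orb 0, Twist.wact' chevD4 vl r ∈ orb 0 := by decide +kernel

theorem vl_comm : ∀ r < chevD4.nroots,
    Twist.wact' chevD4 ((cl4 false).reverse ++ (vl ++ cl4 false ++ vl.reverse)) r = r := by decide +kernel

theorem sq_word : ∀ J : Bool, ∀ r < chevD4.nroots, Twist.wact' chevD4 (cl4 J ++ cl4 J) r = r := by decide +kernel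

/-- roots kept positive by `n_a` -/
theorem split_A : ∀ r < 24, 12 ≤ r → 1 ≤ lv r → pos (Twist.wact' chevD4 (cl4 false) r) = true := by decide +kernel

/-- roots kept positive by `n_b` -/
theorem split_B : ∀ r < 24, 12 ≤ r ∧ r ≠ 14 → pos (Twist.wact' chevD4 (cl4 true) r) = true := by decide +kernel

include hf hK in
theorem hasW_cG (J : Bool) :
    HasW f ((TwistAutRigid.cG (classes f hf hK) J : ↥(twistedD4 K q)) : GL chevD4.Idx K) (cl4 J) :=
  cn4_toW f J

/-! ### `SL₂` -/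

section SL2

variable {L : Type*} [Field L]

/-- the diagonal element -/
def dd (t : L) : SL(2, L) := TwistAutSL2.nel t * TwistAutSL2.nel (-1)

theorem dd_val {t : L} (ht : t ≠ 0) : ((dd t : SL(2, L)) : Matrix (Fin 2) (Fin 2) L) = !![t, 0; 0, t⁻¹] := by
  ext i j
  fin_cases i <;> fin_cases j <;>
    simp [dd, TwistAutSL2.nel, TwistAutSL2.upper_val, TwistAutSL2.lower_val, Matrix.SpecialLinearGroup.coe_mul,
      Matrix.mul_apply, Fin.sum_univ_two, ht]

theorem bruhat_SL2 (g : SL(2, L)) : (∃ (x t : L), t ≠ 0 ∧ g = ChevalleySL2.upper x * dd t) ∨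
    ∃ (x t y : L), t ≠ 0 ∧ g = ChevalleySL2.upper x * dd t * TwistAutSL2.nel 1 * ChevalleySL2.upper y := by
  set M := (g : Matrix (Fin 2) (Fin 2) L) with hM
  have hdet := ChevalleySL2.det_eq g
  rw [← hM] at hdet
  by_cases hc : M 1 0 = 0
  · left
    have ha : M 0 0 ≠ 0 := by intro h; rw [h, hc] at hdet; simp at hdet
    refine ⟨M 0 1 * M 0 0, M 0 0, ha, ?_⟩
    ext i j
    fin_cases i <;> fin_cases j <;>
      simp [TwistAutSL2.upper_val, dd_val ha, Matrix.SpecialLinearGroup.coe_mul, Matrix.mul_apply,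
        Fin.sum_univ_two, ← hM, hc, ha]
    rw [hc, mul_zero, sub_zero] at hdet
    exact eq_inv_of_mul_eq_one_right hdet
  · right
    have ht : -(M 1 0)⁻¹ ≠ 0 := neg_ne_zero.2 (inv_ne_zero hc)
    refine ⟨M 0 0 / M 1 0, -(M 1 0)⁻¹, M 1 1 / M 1 0, ht, ?_⟩
    ext i j
    fin_cases i <;> fin_cases j <;>
      simp [TwistAutSL2.nel, TwistAutSL2.upper_val, TwistAutSL2.lower_val, dd_val ht,
        Matrix.SpecialLinearGroup.coe_mul, Matrix.mul_apply, Fin.sum_univ_two, ← hM, hc]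
    all_goals field_simp
    all_goals linear_combination -hdet

variable {G : Type*} [Group G] {U H X : Subgroup G} {Φ : SL(2, L) →* G}

/-- the facts about one class -/
structure Cls (U H X : Subgroup G) (Φ : SL(2, L) →* G) : Prop where
  memX : ∀ y, y ∈ X ↔ ∃ t, y = Φ (ChevalleySL2.upper t)
  X_le : X ≤ U
  upper_one : ∀ t, Φ (ChevalleySL2.upper t) = 1 → t = 0
  dd_H : ∀ t : L, t ≠ 0 → Φ (dd t) ∈ H
  dd_one : ∀ t : L, t ≠ 0 → Φ (dd t) = 1 → t = 1
  HU : ∀ h ∈ H, ∀ u ∈ U, h * u * h⁻¹ ∈ U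
  inter : ∀ g ∈ H, g ∈ U → g = 1
  notHU : ∀ h ∈ H, ∀ u ∈ U, Φ (TwistAutSL2.nel 1) ≠ h * u

variable (C : Cls U H X Φ)
include C

theorem Cls.bruhat {g : G} (hg : g ∈ Φ.range) : (∃ x ∈ X, ∃ h ∈ H ⊓ Φ.range, g = x * h) ∨
    ∃ x ∈ X, ∃ h ∈ H ⊓ Φ.range, ∃ y ∈ X, g = x * h * Φ (TwistAutSL2.nel 1) * y := by
  obtain ⟨g, rfl⟩ := hg
  rcases bruhat_SL2 g with ⟨x, t, ht, e⟩ | ⟨x, t, y, ht, e⟩
  · exact Or.inl ⟨_, (C.memX _).2 ⟨x, rfl⟩, _, ⟨C.dd_H t ht, ⟨_, rfl⟩⟩, by rw [e, map_mul]⟩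
  · exact Or.inr ⟨_, (C.memX _).2 ⟨x, rfl⟩, _, ⟨C.dd_H t ht, ⟨_, rfl⟩⟩, _, (C.memX _).2 ⟨y, rfl⟩,
      by rw [e, map_mul, map_mul, map_mul]⟩

theorem Cls.mem_H {g : SL(2, L)} (hg : Φ g ∈ H) : ∃ t : L, t ≠ 0 ∧ g = dd t := by
  rcases bruhat_SL2 g with ⟨x, t, ht, e⟩ | ⟨x, t, y, ht, e⟩
  · refine ⟨t, ht, ?_⟩
    rw [e, map_mul] at hg
    have hx := C.upper_one x (C.inter _ ((H.mul_mem_cancel_right (C.dd_H t ht)).1 hg)
      (C.X_le ((C.memX _).2 ⟨x, rfl⟩)))
    rw [e, hx]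
    have e1 : ChevalleySL2.upper (0 : L) = 1 := by
      ext i j; fin_cases i <;> fin_cases j <;> simp [TwistAutSL2.upper_val]
    rw [e1, one_mul]
  · exfalso
    rw [e, map_mul, map_mul, map_mul] at hg
    set X1 := Φ (ChevalleySL2.upper x)
    set D1 := Φ (dd t)
    set Y1 := Φ (ChevalleySL2.upper y)
    set A := Φ (TwistAutSL2.nel 1) with hA
    set gg := X1 * D1 * A * Y1
    refine C.notHU (D1⁻¹ * gg) (H.mul_mem (H.inv_mem (C.dd_H t ht)) hg) (gg⁻¹ * X1⁻¹ * gg * Y1⁻¹)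
      (U.mul_mem ?_ (U.inv_mem (C.X_le ((C.memX _).2 ⟨y, rfl⟩)))) (by simp only [gg, ← hA]; group)
    have h1 := C.HU _ (H.inv_mem hg) _ (U.inv_mem (C.X_le ((C.memX _).2 ⟨x, rfl⟩)))
    simpa using h1

theorem Cls.injective : Function.Injective Φ := by
  rw [injective_iff_map_eq_one]
  intro g hg
  obtain ⟨t, ht, rfl⟩ := C.mem_H (g := g) (by rw [hg]; exact H.one_mem)
  rw [C.dd_one t ht hg]
  ext i j
  fin_cases i <;> fin_cases j <;> simp [dd_val (one_ne_zero (α := L))]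

theorem Cls.gen : Φ.range = Subgroup.closure ((X : Set G) ∪
    {g | ∃ x ∈ X, g = Φ (TwistAutSL2.nel 1) * x * (Φ (TwistAutSL2.nel 1))⁻¹}) := by
  refine le_antisymm ?_ ((Subgroup.closure_le _).2 ?_)
  · rintro _ ⟨g, rfl⟩
    refine TwistAutD4.hom_mem Φ (fun t => Subgroup.subset_closure (Or.inl ((C.memX _).2 ⟨t, rfl⟩)))
      (fun t => Subgroup.subset_closure (Or.inr ⟨Φ (ChevalleySL2.upper (-t)), (C.memX _).2 ⟨_, rfl⟩, ?_⟩)) g
    rw [← map_inv, ← map_mul, ← map_mul, TwistAutSL2.nel_conj one_ne_zero]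
    simp
  · rintro x (hx | ⟨y, hy, rfl⟩)
    · obtain ⟨t, rfl⟩ := (C.memX x).1 hx
      exact ⟨_, rfl⟩
    · obtain ⟨t, rfl⟩ := (C.memX y).1 hy
      exact ⟨TwistAutSL2.nel 1 * ChevalleySL2.upper t * (TwistAutSL2.nel 1)⁻¹, by simp⟩

end SL2

/-! ### the instance -/

variable (K q) in
/-- `H¹` -/
def H1 : Subgroup ↥(twistedD4 K q) := (chevD4.diagonalSubgroup K).subgroupOf (twistedD4 K q)

include hf hK in
theorem sPhi_dd (t : Kˣ) : ((sPhi f hf (dd (t : K)) : ↥(twistedD4 K q)) : GL chevD4.Idx K) =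
    torus chevD4 (tp q 1 t) := by
  show triPhi f _ = torus chevD4 (tp q 1 t)
  obtain ⟨e1, e2, e3, e4, g1, -, g3, g4⟩ := simples
  have hn : ∀ (g : K →+* K) (u : K), Matrix.SpecialLinearGroup.map g (TwistAutSL2.nel u) =
      TwistAutSL2.nel (g u) := fun g u => by
    simp only [TwistAutSL2.nel, map_mul, map_upper, map_lower, map_neg, map_inv₀]
  have hp : ∀ (r : ℕ) (hr : r < chevD4.nroots) (u : K),
      rootPhi r hr (TwistAutSL2.nel u * TwistAutSL2.nel (-1)) = hg c4 r u := fun r hr u => by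
    simp only [TwistAutSL2.nel, map_mul, rootPhi_upper, rootPhi_lower, hg, ng]
  rw [dd, triPhi_apply, map_mul (Matrix.SpecialLinearGroup.map f), map_mul (Matrix.SpecialLinearGroup.map f), hn, hn,
    hn, hn, map_neg, map_one, map_neg, map_one, hp, hp, hp, ← e1, ← e3, ← e4]
  have c3 : f (t : K) = ((t ^ q : Kˣ) : K) := by rw [Units.val_pow_eq_pow_val, hf]
  have c4' : f (f (t : K)) = ((t ^ q ^ 2 : Kˣ) : K) := by rw [Units.val_pow_eq_pow_val, f_f f hf]
  rw [c3, ← c3, c4', c3, hg_simple c4 (i := nd 0), hg_simple c4 (i := nd 2), hg_simple c4 (i := nd 3),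
    ← map_mul, ← map_mul]
  congr 1
  funext i
  have hi : i = nd 0 ∨ i = nd 1 ∨ i = nd 2 ∨ i = nd 3 := by revert i; decide
  rcases hi with rfl | rfl | rfl | rfl <;> simp [tp, Pi.mulSingle_apply]

include hf hK in
theorem lPhi_dd (t : L0 f) (s : Kˣ) (hs : (s : K) = (t : K)) :
    ((lPhi f hf (dd t) : ↥(twistedD4 K q)) : GL chevD4.Idx K) = torus chevD4 (tp q s 1) := by
  show rootPhi d4p2 lts.2.1 (Matrix.SpecialLinearGroup.map (L0 f).subtype (dd t)) = _
  have hu : ∀ u : L0 f, Matrix.SpecialLinearGroup.map (L0 f).subtype (TwistAutSL2.nel u) =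
      TwistAutSL2.nel (u : K) := fun u => by
    ext i j
    fin_cases i <;> fin_cases j <;>
      simp [TwistAutSL2.nel, TwistAutSL2.upper_val, TwistAutSL2.lower_val, Matrix.SpecialLinearGroup.coe_mul,
        Matrix.mul_apply, Fin.sum_univ_two]
  rw [dd, map_mul (Matrix.SpecialLinearGroup.map (L0 f).subtype), hu, hu]
  have hp : rootPhi d4p2 lts.2.1 (TwistAutSL2.nel (t : K) * TwistAutSL2.nel (((-1 : L0 f)) : K)) =
      hg c4 d4p2 (t : K) := by
    simp only [TwistAutSL2.nel, map_mul, rootPhi_upper, rootPhi_lower, hg, ng]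
    simp
  rw [hp, ← simples.2.1, ← hs, hg_simple c4 (i := nd 1)]
  congr 1
  funext i
  have hi : i = nd 0 ∨ i = nd 1 ∨ i = nd 2 ∨ i = nd 3 := by revert i; decide
  rcases hi with rfl | rfl | rfl | rfl <;> simp [tp, Pi.mulSingle_apply]

theorem Y0_Y1_mem : (∀ r ∈ [d4p1, d4p3, d4p4], r ∈ orb 0) ∧ d4p2 = 14 := by decide +kernel

include hf hK in
theorem X1_form {x : ↥(twistedD4 K q)} (hx : x ∈ X K q 1) :
    ∃ t : K, t ^ q = t ∧ (x : GL chevD4.Idx K) = xg c4 d4p2 t := by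
  refine UF_true_le f hf hK ⟨?_, le_fixed f hf hK x.2⟩
  refine (Subgroup.closure_le _).2 ?_ hx
  rintro _ ⟨r, t, h1, h2, h3, rfl⟩
  have h := (mem_orb r h2 h1).2
  rw [h3] at h
  refine xg_mem_Uw f true ?_ t
  simpa [orb, d4p2] using h

include hf hK in
theorem cls_A : Cls (TwistAutRigid.U1 (twistedD4 K q)) (H1 K q) (X K q 0) (sPhi f hf) where
  memX y := by
    constructor
    · intro hy
      obtain ⟨t, ht⟩ := X0_form f hf hK hy
      exact ⟨t, Subtype.ext (by rw [coe_sPhi, triPhi_upper f hf, ← ht])⟩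
    · rintro ⟨t, rfl⟩
      show triPhi f _ ∈ Y K 0
      rw [triPhi_upper f hf]
      exact tri_mem_Y _ _ _
  X_le _ hx := R_le_U _ (Y_le_R _ hx)
  upper_one t h := (sPair f hf hK).upper_eq_one t h
  dd_H t ht := by
    show ((sPhi f hf (dd t) : ↥(twistedD4 K q)) : GL chevD4.Idx K) ∈ chevD4.diagonalSubgroup K
    rw [show t = ((Units.mk0 t ht : Kˣ) : K) from rfl, sPhi_dd f hf hK]
    exact torus_mem_H c4 _
  dd_one t ht h := by
    have h1 := sPhi_dd f hf hK (Units.mk0 t ht)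
    rw [show ((Units.mk0 t ht : Kˣ) : K) = t from rfl, h] at h1
    exact congrArg Units.val (TwistedD4Levi77.tp_eq_one hf hK (one_pow q) h1.symm).2
  HU h hh u hu := Subgroup.mem_normalizer_iff.1 ((tw f).S.H_le_normalizer hh) _ |>.1 hu
  inter g hg hu := Subtype.ext (Subgroup.mem_bot.1 ((tw f).S.U_inf_H.le ⟨hu, hg⟩))
  notHU h hh u hu e := by
    have hw := hasW_cG f hf hK false
    rw [cG_false f hf hK] at hw
    have := hw.fixed_of_B f hh hu (congrArg Subtype.val e)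
    revert this
    decide +kernel

include hf hK in
theorem cls_B : Cls (TwistAutRigid.U1 (twistedD4 K q)) (H1 K q) (X K q 1) (lPhi f hf) where
  memX y := by
    constructor
    · intro hy
      obtain ⟨t, ht, he⟩ := X1_form f hf hK hy
      exact ⟨⟨t, (mem_L0 f hf).mpr ht⟩, Subtype.ext (by rw [coe_lPhi, midPhi_upper, he])⟩
    · rintro ⟨t, rfl⟩
      show midPhi f _ ∈ Y K 1
      rw [midPhi_upper, Y0_Y1_mem.2]
      exact xg_mem_Y (r := 14) (by norm_num) (by norm_num) _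
  X_le _ hx := R_le_U _ (Y_le_R _ hx)
  upper_one t h := (lPair f hf hK).upper_eq_one t h
  dd_H t ht := by
    show ((lPhi f hf (dd t) : ↥(twistedD4 K q)) : GL chevD4.Idx K) ∈ chevD4.diagonalSubgroup K
    rw [lPhi_dd f hf hK t (Units.mk0 (t : K) (fun h => ht (Subtype.ext h))) rfl]
    exact torus_mem_H c4 _
  dd_one t ht h := by
    have ht' : (t : K) ≠ 0 := fun h => ht (Subtype.ext h)
    have h1 := lPhi_dd f hf hK t (Units.mk0 (t : K) ht') rfl
    rw [h] at h1
    have := (TwistedD4Levi77.tp_eq_one hf hK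
      (Units.ext (by rw [Units.val_pow_eq_pow_val, Units.val_mk0]; exact (mem_L0 f hf).mp t.2)) h1.symm).1
    exact Subtype.ext (by simpa using congrArg Units.val this)
  HU h hh u hu := Subgroup.mem_normalizer_iff.1 ((tw f).S.H_le_normalizer hh) _ |>.1 hu
  inter g hg hu := Subtype.ext (Subgroup.mem_bot.1 ((tw f).S.U_inf_H.le ⟨hu, hg⟩))
  notHU h hh u hu e := by
    have hw := hasW_cG f hf hK true
    rw [cG_true f hf hK] at hw
    have := hw.fixed_of_B f hh hu (congrArg Subtype.val e)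
    revert this
    decide +kernel

include hf hK in
theorem gen_top : Subgroup.closure ((TwistAutRigid.U1 (twistedD4 K q) : Set ↥(twistedD4 K q)) ∪
    {TwistAutRigid.cG (classes f hf hK) false, TwistAutRigid.cG (classes f hf hK) true}) = ⊤ := by
  set M := Subgroup.closure ((TwistAutRigid.U1 (twistedD4 K q) : Set ↥(twistedD4 K q)) ∪
    {TwistAutRigid.cG (classes f hf hK) false, TwistAutRigid.cG (classes f hf hK) true}) with hM
  have cA := cls_A f hf hK
  have cB := cls_B f hf hK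
  have hA : (sPhi f hf).range ≤ M := by
    rw [cA.gen, Subgroup.closure_le, ← cG_false f hf hK]
    rintro x (hx | ⟨y, hy, rfl⟩)
    · exact Subgroup.subset_closure (Or.inl (cA.X_le hx))
    · exact mul_mem (mul_mem (Subgroup.subset_closure (Or.inr (Set.mem_insert _ _)))
        (Subgroup.subset_closure (Or.inl (cA.X_le hy)))) (inv_mem (Subgroup.subset_closure (Or.inr (Set.mem_insert _ _))))
  have hB : (lPhi f hf).range ≤ M := by
    rw [cB.gen, Subgroup.closure_le, ← cG_true f hf hK]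
    rintro x (hx | ⟨y, hy, rfl⟩)
    · exact Subgroup.subset_closure (Or.inl (cB.X_le hx))
    · exact mul_mem (mul_mem (Subgroup.subset_closure (Or.inr (Set.mem_insert_of_mem _ rfl)))
        (Subgroup.subset_closure (Or.inl (cB.X_le hy))))
        (inv_mem (Subgroup.subset_closure (Or.inr (Set.mem_insert_of_mem _ rfl))))
  have key : twistedD4 K q ≤ M.map (twistedD4 K q).subtype := by
    unfold twistedD4
    refine gen_le c4 ?_
    rintro w (⟨t, ht, r, hr, rfl⟩ | ⟨t, rs, hrs, rfl⟩)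
    · simp only [List.mem_cons, List.not_mem_nil, or_false] at hr
      rcases hr with rfl | rfl
      · refine ⟨lPhi f hf (ChevalleySL2.upper ⟨t, (mem_L0 f hf).mpr ht⟩), hB ⟨_, rfl⟩, ?_⟩
        show midPhi f _ = _
        rw [midPhi_upper]; simp [wg]
      · refine ⟨lPhi f hf (ChevalleySL2.lower ⟨t, (mem_L0 f hf).mpr ht⟩), hB ⟨_, rfl⟩, ?_⟩
        show midPhi f _ = _
        rw [midPhi_lower]; simp [wg]
    · simp only [List.mem_cons, List.not_mem_nil, or_false] at hrs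
      rcases hrs with rfl | rfl
      · refine ⟨sPhi f hf (ChevalleySL2.upper t), hA ⟨_, rfl⟩, ?_⟩
        show triPhi f _ = _
        rw [triPhi_upper f hf]; simp [wg, tri, mul_assoc]
      · refine ⟨sPhi f hf (ChevalleySL2.lower t), hA ⟨_, rfl⟩, ?_⟩
        show triPhi f _ = _
        rw [triPhi_lower f hf]; simp [wg, trin, mul_assoc]
  rw [eq_top_iff]
  intro g _
  obtain ⟨y, hy, he⟩ := key g.2
  rwa [← show y = g from Subtype.ext he]

include hf hK in
theorem conj_H1 {g : ↥(twistedD4 K q)} {l : List (Fin chevD4.rank)} (hg : HasW f (g : GL chevD4.Idx K) l)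
    {h : ↥(twistedD4 K q)} (hh : h ∈ H1 K q) : g * h * g⁻¹ ∈ H1 K q := by
  obtain ⟨a, -⟩ := hg
  exact (tw f).S.conj_H ((tw f).S.acts_toW ⟨(g : GL chevD4.Idx K), a⟩) hh

theorem conj_X {g : GL chevD4.Idx K} {j : ℕ} (hg : g ∈ chevD4.diagonalSubgroup K) {x : GL chevD4.Idx K}
    (hx : x ∈ Y K j) : g * x * g⁻¹ ∈ Y K j := by
  obtain ⟨c, rfl⟩ := (mem_H_iff c4).1 hg
  exact torus_conj_Y c hx

set_option maxHeartbeats 1600000 in
include hf hK in
theorem rank2 {p : ℕ} [Fact p.Prime] [CharP K p] :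
    StemTwistBN9.Rank2 p (TwistAutRigid.U1 (twistedD4 K q)) (H1 K q) (sPhi f hf).range (lPhi f hf).range
      (X K q 0) (X K q 1) (TwistAutRigid.cG (classes f hf hK) false) (TwistAutRigid.cG (classes f hf hK) true) := by
  have cA := cls_A f hf hK
  have cB := cls_B f hf hK
  have wA := hasW_cG f hf hK false
  have wB := hasW_cG f hf hK true
  set a := TwistAutRigid.cG (classes f hf hK) false with ha
  set b := TwistAutRigid.cG (classes f hf hK) true with hb
  have hsq : ∀ J : Bool, TwistAutRigid.cG (classes f hf hK) J * TwistAutRigid.cG (classes f hf hK) J ∈ H1 K q :=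
    fun J => ((hasW_cG f hf hK J).mul f (hasW_cG f hf hK J)).mem_H f (sq_word J)
  have hwl : ∀ i j, HasW f ((StemTwistBN9.word a b i j : ↥(twistedD4 K q)) : GL chevD4.Idx K) (wl i j) := by
    intro i j
    unfold StemTwistBN9.word wl
    rw [Subgroup.coe_mul, Subgroup.coe_pow, Subgroup.coe_mul]
    refine ((wA.mul f wB).pow f i).mul f ?_
    cases j
    · simpa using HasW.one f
    · simpa using wA
  have dich : ∀ (J : Bool) (o : ℕ) (hdo : ∀ i < 6, ∀ j : Bool, dichOk J o i j = true), ∀ i < 6, ∀ j : Bool,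
      (∀ x ∈ X K q o, (StemTwistBN9.word a b i j)⁻¹ * x * StemTwistBN9.word a b i j ∈
        TwistAutRigid.U1 (twistedD4 K q)) ∨
      (∀ x ∈ X K q o, (TwistAutRigid.cG (classes f hf hK) J * StemTwistBN9.word a b i j)⁻¹ * x *
        (TwistAutRigid.cG (classes f hf hK) J * StemTwistBN9.word a b i j) ∈
          TwistAutRigid.U1 (twistedD4 K q)) := by
    intro J o hdo i hi j
    have h := hdo i hi j
    simp only [dichOk, Bool.or_eq_true, List.all_eq_true] at h
    rcases h with h | h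
    · left
      intro x hx
      have := ((hwl i j).inv f).conj_U f (fun r => r ∈ orb o) (fun r _ hr => h r hr)
        (Y_le_roots (fun r => r ∈ orb o) (fun r hr => hr) hx)
      rw [TwistAutRigid.U1, Subgroup.mem_subgroupOf]
      simpa [Subgroup.coe_mul, Subgroup.coe_inv, mul_assoc] using this
    · right
      intro x hx
      have := (((hasW_cG f hf hK J).mul f (hwl i j)).inv f).conj_U f (fun r => r ∈ orb o) (fun r _ hr => h r hr)
        (Y_le_roots (fun r => r ∈ orb o) (fun r hr => hr) hx)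
      rw [TwistAutRigid.U1, Subgroup.mem_subgroupOf]
      simpa [Subgroup.coe_mul, Subgroup.coe_inv, mul_assoc] using this
  have hv := (((wB.mul f wA).mul f wB).mul f wA).mul f wB
  refine
    { perfect := TwistedD4.perfect f hf hK
      pU := ?_
      gen := gen_top f hf hK
      HU := cA.HU
      inter := cA.inter
      HLL := ?_
      notHU := ?_
      dichA := dich false 0 fun i hi j => (words_ok i hi j).2.1
      dichB := dich true 1 fun i hi j => (words_ok i hi j).2.2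
      vX := ?_
      vA := ?_
      Ua := ⟨?_, cA.X_le, ?_, fun h hh => conj_H1 f hf hK wA hh, ?_, hsq false, ?_, ?_, ?_⟩
      Ub := ⟨?_, cB.X_le, ?_, fun h hh => conj_H1 f hf hK wB hh, ?_, hsq true, ?_, ?_, ?_⟩ }
  -- the class `a`
  · rw [ha, cG_false f hf hK]; exact ⟨_, rfl⟩
  · rw [ha, cG_false f hf hK]; exact cA.gen
  · intro h hh
    have := conj_H1 f hf hK (g := a⁻¹) (wA.inv f) hh
    simpa using this
  · exact fun h hh x hx => conj_X hh hx
  · intro u hu
    have hu' : u⁻¹ ∈ N K q 0 := by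
      show (((u⁻¹ : ↥(twistedD4 K q))) : GL chevD4.Idx K) ∈ R K 0
      rw [R_zero]; exact (TwistAutRigid.U1 (twistedD4 K q)).inv_mem hu
    obtain ⟨x, hx, v, hv, e⟩ := exists_XN f hf hK (by norm_num) hu'
    refine ⟨x⁻¹, inv_mem hx, v⁻¹, inv_mem (R_le_U _ hv : v ∈ TwistAutRigid.U1 (twistedD4 K q)), ?_, ?_⟩
    · exact wA.conj_U f (fun r => 12 ≤ r ∧ 1 ≤ lv r) (fun r hr h => split_A r hr h.1 h.2)
        (R_le_roots _ (fun r _ h1 h2 => ⟨h1, h2⟩) (inv_mem hv))
    · rw [← mul_inv_rev, ← e, inv_inv]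
  · intro g hg
    rw [ha, cG_false f hf hK]; exact cA.bruhat hg
  -- the class `b`
  · rw [hb, cG_true f hf hK]; exact ⟨_, rfl⟩
  · rw [hb, cG_true f hf hK]; exact cB.gen
  · intro h hh
    have := conj_H1 f hf hK (g := b⁻¹) (wB.inv f) hh
    simpa using this
  · exact fun h hh x hx => conj_X hh hx
  · intro u hu
    have hu' : u⁻¹ ∈ N K q 0 := by
      show (((u⁻¹ : ↥(twistedD4 K q))) : GL chevD4.Idx K) ∈ R K 0
      rw [R_zero]; exact (TwistAutRigid.U1 (twistedD4 K q)).inv_mem hu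
    obtain ⟨x0, hx0, v, hv, e⟩ := exists_XN f hf hK (by norm_num) hu'
    obtain ⟨x1, hx1, v2, hv2, e2⟩ := exists_XN f hf hK (i := 1) (by norm_num) hv
    set w := x1⁻¹ * x0 * x1 * v2 with hw
    have hwr : ((w : ↥(twistedD4 K q)) : GL chevD4.Idx K) ∈
        Subgroup.closure {y : GL chevD4.Idx K | ∃ r t, r < 24 ∧ (12 ≤ r ∧ r ≠ 14) ∧ y = xg c4 r t} := by
      have h0 : ∀ r ∈ orb 0, 12 ≤ r ∧ r ≠ 14 := by decide +kernel
      have h2 : ∀ r < 24, 12 ≤ r → 2 ≤ lv r → 12 ≤ r ∧ r ≠ 14 := by decide +kernel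
      have e1 : w = ⁅x1⁻¹, x0⁆ * x0 * v2 := by rw [hw, commutatorElement_def]; group
      rw [e1, Subgroup.coe_mul, Subgroup.coe_mul]
      exact mul_mem (mul_mem (R_le_roots _ h2 (bracket_X (inv_mem hx1) hx0)) (Y_le_roots _ h0 hx0))
        (R_le_roots _ h2 hv2)
    refine ⟨x1⁻¹, inv_mem hx1, w⁻¹, ?_, ?_, ?_⟩
    · have hX0 : x0 ∈ TwistAutRigid.U1 (twistedD4 K q) := cA.X_le hx0
      have hX1 : x1 ∈ TwistAutRigid.U1 (twistedD4 K q) := cB.X_le hx1
      exact inv_mem (mul_mem (mul_mem (mul_mem (inv_mem hX1) hX0) hX1)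
        (R_le_U _ hv2 : v2 ∈ TwistAutRigid.U1 (twistedD4 K q)))
    · exact wB.conj_U f _ (fun r hr h => split_B r hr h) (inv_mem hwr)
    · have e3 : u = (u⁻¹)⁻¹ := (inv_inv u).symm
      rw [e3, e, e2, hw]; group
  · intro g hg
    rw [hb, cG_true f hf hK]; exact cB.bruhat hg
  -- the group
  · obtain ⟨P, hP⟩ := TwistAutRigid.exists_sylow (classes f hf hK) p
    intro u hu
    rw [← hP] at hu
    obtain ⟨k, hk⟩ := P.isPGroup' ⟨u, hu⟩
    exact ⟨k, by simpa using congrArg Subtype.val hk⟩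
  · rintro g hg ⟨gA, rfl⟩ ⟨gB, hgB⟩
    obtain ⟨t, ht, rfl⟩ := cA.mem_H (g := gA) hg
    obtain ⟨s, hs, rfl⟩ := cB.mem_H (g := gB) (hgB ▸ hg)
    have hs' : (s : K) ≠ 0 := fun h => hs (Subtype.ext h)
    have e := congrArg Subtype.val hgB
    rw [lPhi_dd f hf hK s (Units.mk0 (s : K) hs') rfl] at e
    have e2 := sPhi_dd f hf hK (Units.mk0 t ht)
    rw [show ((Units.mk0 t ht : Kˣ) : K) = t from rfl] at e2
    rw [show ((sPhi f hf (dd t) : ↥(twistedD4 K q)) : GL chevD4.Idx K) = _ from e2] at e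
    have hsq' : (Units.mk0 (s : K) hs') ^ q = Units.mk0 (s : K) hs' :=
      Units.ext (by rw [Units.val_pow_eq_pow_val, Units.val_mk0]; exact (mem_L0 f hf).mp s.2)
    have h1 : torus chevD4 (tp q (Units.mk0 (s : K) hs')⁻¹ (Units.mk0 t ht)) = 1 := by
      have em : tp q (Units.mk0 (s : K) hs')⁻¹ (Units.mk0 t ht) =
          tp q 1 (Units.mk0 t ht) * (tp q (Units.mk0 (s : K) hs') 1)⁻¹ := by
        funext i
        have hi : i = nd 0 ∨ i = nd 1 ∨ i = nd 2 ∨ i = nd 3 := by revert i; decide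
        rcases hi with rfl | rfl | rfl | rfl <;> simp [tp]
      rw [em, map_mul, map_inv, ← e, mul_inv_cancel]
    have h2 := (TwistedD4Levi77.tp_eq_one hf hK (by rw [inv_pow, hsq']) h1).2
    refine Subtype.ext ?_
    show ((sPhi f hf (dd t) : ↥(twistedD4 K q)) : GL chevD4.Idx K) = 1
    rw [e2, h2]
    have em : tp q (1 : Kˣ) 1 = 1 := by
      funext i
      have hi : i = nd 0 ∨ i = nd 1 ∨ i = nd 2 ∨ i = nd 3 := by revert i; decide
      rcases hi with rfl | rfl | rfl | rfl <;> simp [tp]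
    rw [em, map_one]
  · intro i hi j hij h hh u hu e
    have hfix := (hwl i j).fixed_of_B f hh hu (congrArg Subtype.val e)
    have h := (words_ok i hi j).1
    simp only [movesOk, Bool.or_eq_true, Bool.and_eq_true, beq_iff_eq, Bool.not_eq_true', List.any_eq_true,
      List.mem_range, decide_eq_true_eq] at h
    rcases h with ⟨rfl, rfl⟩ | ⟨r, hr, hne⟩
    · simp at hij
    · exact hne (hfix r hr)
  · intro x hx
    exact map_Y (by norm_num) _ (Twist.wact' chevD4 vl) (fun r hr t => hv.conj f hr t)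
      (fun r hr => orb_spec 0 (by norm_num) _ (vl_orb r hr)) hx
  · have h := (wA.inv f).mul f ((hv.mul f wA).mul f (hv.inv f))
    exact h.mem_H f vl_comm

include hf hK in
theorem ker_eq_bot {Γ : Type*} [Group Γ] [Finite Γ] {σ : Γ →* ↥(twistedD4 K q)}
    (hσ : Cfsg.IsStemExtension σ) : σ.ker = ⊥ := by
  obtain ⟨p, hp⟩ := CharP.exists K
  haveI := hp
  obtain ⟨n, hpp, hn⟩ := FiniteField.card K p
  haveI : Fact p.Prime := ⟨hpp⟩
  have hqp : q = 2 → p = 2 := by
    intro hq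
    rw [hK, hq] at hn
    have h2 : p ∣ 2 ^ 3 := hn ▸ dvd_pow_self p n.pos.ne'
    exact (Nat.prime_dvd_prime_iff_eq hpp Nat.prime_two).1 (hpp.dvd_of_dvd_pow h2)
  have hU : StemBasic.KerFree σ (TwistAutRigid.U1 (twistedD4 K q)) := by
    rcases Nat.lt_or_ge q 3 with h | h
    · have hq : q = 2 := by have := TwistedField.one_lt_base hK; omega
      haveI : CharP K 2 := hqp hq ▸ hp
      exact D4StemTwo9.kerFree_U_two f hf hK hσ.1 hσ.2.1 hq
    · exact D4StemU9.kerFree_U f hf hK hσ.1 hσ.2.1 h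
  obtain ⟨P, hP⟩ := TwistAutRigid.exists_sylow (classes f hf hK) p
  have hidx : ¬ p ∣ (TwistAutRigid.U1 (twistedD4 K q)).index := hP ▸ P.not_dvd_index
  have hZ : Nat.Coprime (Nat.card σ.ker) p := by
    rw [Nat.coprime_comm, hpp.coprime_iff_not_dvd]
    intro hd
    obtain ⟨⟨z, hz⟩, ho⟩ := exists_prime_orderOf_dvd_card' p hd
    rw [← Subgroup.orderOf_coe] at ho
    have h1 := StemBasic.eq_one_of_kerFree hσ hU hz (by rw [ho]; exact hpp.coprime_iff_not_dvd.2 hidx)
    simp only at h1 ho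
    rw [h1, orderOf_one] at ho
    exact hpp.ne_one ho.symm
  haveI : CharP (L0 f) p := RingHom.charP (L0 f).subtype Subtype.coe_injective p
  letI : Fintype (L0 f) := Fintype.ofFinite _
  exact StemTwistBN9.ker_eq_bot (rank2 f hf hK (p := p)) hσ hZ
    (StemSL2Kill9.kerFree_range p hσ.1 hσ.2.1 hZ (cls_A f hf hK).injective)
    (StemSL2Kill9.kerFree_range p hσ.1 hσ.2.1 hZ (cls_B f hf hK).injective)

end Cfsg.Agent.D4StemMain9
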