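import Cfsg.Agent.Lib.StemPairing
import Mathlib

/-!
Sections of central extensions over a filtration by abelian pieces, built with fixed-point-free
elements.
-/

set_option autoImplicit false
set_option linter.unusedSectionVars false

namespace Cfsg.Agent.StemSection9

open Subgroup
open scoped commutatorElement

variable {Γ G : Type*} [Group Γ] [Group G] {σ : Γ →* G}

/-- `S` lifts `N` without meeting the kernel -/
structure Sec (σ : Γ →* G) (S : Subgroup Γ) (N : Subgroup G) : Prop where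
  map_eq : S.map σ = N
  inj : ∀ x ∈ S, σ x = 1 → x = 1

/-- conjugation by `g` preserves `S` -/
def Nrm (S : Subgroup Γ) (g : Γ) : Prop := ∀ s ∈ S, g * s * g⁻¹ ∈ S

theorem Sec.bot (σ : Γ →* G) : Sec σ (⊥ : Subgroup Γ) (⊥ : Subgroup G) :=
  ⟨Subgroup.map_bot σ, fun _ hx _ => Subgroup.mem_bot.1 hx⟩

theorem nrm_bot (g : Γ) : Nrm (⊥ : Subgroup Γ) g := by
  intro s hs
  simp [Subgroup.mem_bot.1 hs]

theorem Sec.mem {S : Subgroup Γ} {N : Subgroup G} (h : Sec σ S N) {x : Γ} (hx : x ∈ S) : σ x ∈ N :=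
  h.map_eq ▸ Subgroup.mem_map_of_mem σ hx

theorem Sec.lift {S : Subgroup Γ} {N : Subgroup G} (h : Sec σ S N) {n : G} (hn : n ∈ N) :
    ∃ s ∈ S, σ s = n := by
  rw [← h.map_eq] at hn
  exact hn

/-- a subgroup with a section has no multiplier -/
theorem Sec.kerFree (hc : σ.ker ≤ center Γ) {S : Subgroup Γ} {N : Subgroup G} (h : Sec σ S N) :
    StemBasic.KerFree σ N := by
  intro w hw hw1
  refine h.inj w ?_ hw1
  refine (show (commutator (N.comap σ)).map (N.comap σ).subtype ≤ S from ?_) hw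
  rw [Subgroup.map_le_iff_le_comap, _root_.commutator_def, Subgroup.commutator_le]
  intro a _ b _
  show ⁅(a : Γ), (b : Γ)⁆ ∈ S
  obtain ⟨s, hs, hse⟩ := h.lift a.2
  obtain ⟨t, ht, hte⟩ := h.lift b.2
  rw [StemPairing.bracket_congr hc hse.symm hte.symm, commutatorElement_def]
  exact S.mul_mem (S.mul_mem (S.mul_mem hs ht) (S.inv_mem hs)) (S.inv_mem ht)

/-- lifts of a piece inside the section -/
theorem bracket_of_mem (hc : σ.ker ≤ center Γ) {S : Subgroup Γ} {N : Subgroup G} (h : Sec σ S N) {g x : Γ}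
    (hg : σ g ∈ N) (hx : Nrm S x) : ⁅g, x⁆ ∈ S := by
  obtain ⟨s, hs, hse⟩ := h.lift hg
  rw [StemPairing.bracket_congr hc (a' := s) (b' := x) hse.symm rfl, commutatorElement_def, mul_assoc s x,
    mul_assoc s]
  exact S.mul_mem hs (hx _ (S.inv_mem hs))

/-- the pairing step: `g` and `x = [h, x']`, with `h` centralising `g` -/
theorem bracket_lift (hc : σ.ker ≤ center Γ) {S : Subgroup Γ} {N : Subgroup G} (hS : Sec σ S N) {h g x x' : Γ}
    (hcomm : Commute (σ h) (σ g)) (hx : σ x = ⁅σ h, σ x'⁆) (hh : Nrm S h) (hxn : Nrm S x)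
    (hb : σ ⁅g, x'⁆ ∈ N) : ⁅g, x⁆ ∈ S := by
  obtain ⟨s, hs, hse⟩ := hS.lift hb
  obtain ⟨z, hz, hze⟩ := StemBasic.exists_ker_mul hse.symm
  have hzc := StemBasic.ker_comm hc hz
  set a := ⁅h, x'⁆ with ha
  have hax : σ a = σ x := by rw [hx, ha, map_commutatorElement]
  obtain ⟨y, hy, hye⟩ := StemBasic.exists_ker_mul hax
  have hyc := StemBasic.ker_comm hc hy
  have han : Nrm S a := by
    intro t ht
    rw [hye]
    have e : x * y * t * (x * y)⁻¹ = x * (y * t * y⁻¹) * x⁻¹ := by group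
    rw [e, ← hyc t, mul_inv_cancel_right]
    exact hxn t ht
  have e0 : ⁅h * g * h⁻¹, h * x' * h⁻¹⁆ = ⁅g, a * x'⁆ := by
    refine StemPairing.bracket_congr hc ?_ (congrArg σ ?_)
    · rw [map_mul, map_mul, map_inv, hcomm.eq, mul_inv_cancel_right]
    · rw [ha, commutatorElement_def]; group
  rw [← conjugate_commutatorElement, hze] at e0
  have e1 : ⁅g, a * x'⁆ = ⁅g, a⁆ * (a * ⁅g, x'⁆ * a⁻¹) := by
    simp only [commutatorElement_def]; group
  rw [e1, hze] at e0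
  have e2 : ∀ u : Γ, u * (s * z) * u⁻¹ = u * s * u⁻¹ * z := by
    intro u
    calc u * (s * z) * u⁻¹ = u * s * (z * u⁻¹) := by group
      _ = u * s * (u⁻¹ * z) := by rw [← hzc u⁻¹]
      _ = _ := by group
  rw [e2, e2, ← mul_assoc] at e0
  have e3 : ⁅g, a⁆ = h * s * h⁻¹ * (a * s * a⁻¹)⁻¹ :=
    eq_mul_inv_of_mul_eq (mul_right_cancel e0).symm
  rw [StemPairing.bracket_congr hc (a' := g) (b' := a) rfl hax.symm, e3]
  exact S.mul_mem (hh s hs) (S.inv_mem (han s hs))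

/-- the same with the sides exchanged -/
theorem bracket_lift' (hc : σ.ker ≤ center Γ) {S : Subgroup Γ} {N : Subgroup G} (hS : Sec σ S N) {h g g' x : Γ}
    (hcomm : Commute (σ h) (σ x)) (hg : σ g = ⁅σ h, σ g'⁆) (hh : Nrm S h) (hgn : Nrm S g)
    (hb : σ ⁅g', x⁆ ∈ N) : ⁅g, x⁆ ∈ S := by
  rw [← commutatorElement_inv]
  refine S.inv_mem (bracket_lift hc hS hcomm hg hh hgn ?_)
  rw [← commutatorElement_inv, map_inv]
  exact N.inv_mem hb

variable [Finite G]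

/-- adding an abelian piece on which `h` acts without fixed points -/
theorem step (hs : Function.Surjective σ) (hc : σ.ker ≤ center Γ) {S : Subgroup Γ} {N' N X : Subgroup G}
    (hS : Sec σ S N') (hX : X ≤ N) (hN' : N' ≤ N) (hsplit : ∀ n ∈ N, ∃ x ∈ X, ∃ v ∈ N', n = x * v)
    (hint : ∀ x ∈ X, x ∈ N' → x = 1) (hab : ∀ a b : Γ, σ a ∈ X → σ b ∈ X → Commute a b)
    (hXn : ∀ x : Γ, σ x ∈ X → Nrm S x) (h : Γ) (hh : ∀ x ∈ X, ⁅σ h, x⁆ ∈ X)
    (hsurj : ∀ x ∈ X, ∃ y ∈ X, ⁅σ h, y⁆ = x) :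
    ∃ S' : Subgroup Γ, Sec σ S' N ∧ S ≤ S' ∧ ∀ g, Nrm S g →
      ((Commute (σ g) (σ h) ∧ ∀ x ∈ X, σ g * x * (σ g)⁻¹ ∈ X) ∨ ∀ x, σ x ∈ X → ⁅g, x⁆ ∈ S) →
      Nrm S' g := by
  have hmem : ∀ x, σ x ∈ X → σ ⁅h, x⁆ ∈ X := fun x hx => by
    rw [map_commutatorElement]; exact hh _ hx
  let f : X.comap σ →* Γ :=
    { toFun := fun x => ⁅h, (x : Γ)⁆
      map_one' := by simp
      map_mul' := fun x y => by
        have hcy : Commute (x : Γ) ⁅h, (y : Γ)⁆ := hab _ _ x.2 (hmem _ y.2)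
        have e : ⁅h, (x : Γ) * y⁆ = ⁅h, (x : Γ)⁆ * ((x : Γ) * ⁅h, (y : Γ)⁆ * (x : Γ)⁻¹) := by
          simp only [commutatorElement_def]; group
        show ⁅h, (x : Γ) * y⁆ = _
        rw [e, hcy.eq, mul_inv_cancel_right] }
  have hinj : ∀ x, σ x ∈ X → σ ⁅h, x⁆ = 1 → ⁅h, x⁆ = 1 := by
    intro x hx h1
    let m : X → X := fun u => ⟨⁅σ h, (u : G)⁆, hh u u.2⟩
    have hm : Function.Injective m := by
      refine Finite.injective_iff_surjective.2 ?_
      rintro ⟨u, hu⟩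
      obtain ⟨y, hy, he⟩ := hsurj u hu
      exact ⟨⟨y, hy⟩, Subtype.ext he⟩
    rw [map_commutatorElement] at h1
    have h0 : (⟨σ x, hx⟩ : X) = 1 := hm (Subtype.ext (by
      show ⁅σ h, σ x⁆ = ⁅σ h, ((1 : X) : G)⁆
      rw [h1, OneMemClass.coe_one, commutatorElement_one_right]))
    have hx1 : σ x = 1 := congrArg Subtype.val h0
    rw [StemPairing.bracket_congr hc (a' := h) (b' := 1) rfl (hx1.trans (map_one σ).symm),
      commutatorElement_one_right]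
  set A := f.range with hA
  have hAX : ∀ a ∈ A, σ a ∈ X := by
    rintro _ ⟨x, rfl⟩
    exact hmem _ x.2
  let S' : Subgroup Γ :=
    { carrier := {g | ∃ a ∈ A, ∃ s ∈ S, g = a * s}
      one_mem' := ⟨1, A.one_mem, 1, S.one_mem, (mul_one 1).symm⟩
      mul_mem' := by
        rintro _ _ ⟨a, ha, s, hs, rfl⟩ ⟨a', ha', s', hs', rfl⟩
        refine ⟨a * a', A.mul_mem ha ha', a'⁻¹ * s * a'⁻¹⁻¹ * s', S.mul_mem ?_ hs', by group⟩
        exact hXn _ (by rw [map_inv]; exact X.inv_mem (hAX _ ha')) _ hs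
      inv_mem' := by
        rintro _ ⟨a, ha, s, hs, rfl⟩
        exact ⟨a⁻¹, A.inv_mem ha, a * s⁻¹ * a⁻¹, hXn _ (hAX _ ha) _ (S.inv_mem hs), by group⟩ }
  have hSS' : S ≤ S' := fun s hs => ⟨1, A.one_mem, s, hs, (one_mul s).symm⟩
  have hAS' : A ≤ S' := fun a ha => ⟨a, ha, 1, S.one_mem, (mul_one a).symm⟩
  refine ⟨S', ⟨le_antisymm ?_ ?_, ?_⟩, hSS', ?_⟩
  · rintro _ ⟨_, ⟨a, ha, s, hs, rfl⟩, rfl⟩
    rw [map_mul]
    exact N.mul_mem (hX (hAX a ha)) (hN' (hS.mem hs))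
  · intro n hn
    obtain ⟨x, hx, v, hv, rfl⟩ := hsplit n hn
    obtain ⟨y, hy, rfl⟩ := hsurj x hx
    obtain ⟨γ, rfl⟩ := hs y
    obtain ⟨s, hs', rfl⟩ := hS.lift hv
    exact ⟨⁅h, γ⁆ * s, ⟨_, ⟨⟨γ, hy⟩, rfl⟩, s, hs', rfl⟩, by rw [map_mul, map_commutatorElement]⟩
  · rintro _ ⟨a, ⟨x, rfl⟩, s, hs', rfl⟩ h1
    rw [map_mul] at h1
    have h2 : σ (f x) = 1 := by
      refine hint _ (hmem _ x.2) ?_
      rw [show σ (f x) = (σ s)⁻¹ from eq_inv_of_mul_eq_one_left h1]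
      exact N'.inv_mem (hS.mem hs')
    rw [h2, one_mul] at h1
    rw [hS.inj s hs' h1, mul_one]
    exact hinj _ x.2 h2
  · intro g hg hcase
    have hga : ∀ a ∈ A, g * a * g⁻¹ ∈ S' := by
      rcases hcase with ⟨hgh, hgX⟩ | hgb
      · rintro _ ⟨x, rfl⟩
        have hx' : σ (g * (x : Γ) * g⁻¹) ∈ X := by
          rw [map_mul, map_mul, map_inv]; exact hgX _ x.2
        refine hAS' ⟨⟨_, hx'⟩, ?_⟩
        show ⁅h, g * (x : Γ) * g⁻¹⁆ = g * ⁅h, (x : Γ)⁆ * g⁻¹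
        rw [conjugate_commutatorElement]
        refine StemPairing.bracket_congr hc ?_ rfl
        rw [map_mul, map_mul, map_inv, hgh.eq, mul_inv_cancel_right]
      · intro a ha
        have e : g * a * g⁻¹ = ⁅g, a⁆ * a := by rw [commutatorElement_def]; group
        rw [e]
        exact S'.mul_mem (hSS' (hgb a (hAX a ha))) (hAS' ha)
    rintro _ ⟨a, ha, s, hs', rfl⟩
    have e : g * (a * s) * g⁻¹ = g * a * g⁻¹ * (g * s * g⁻¹) := by group
    rw [e]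
    exact S'.mul_mem (hga a ha) (hSS' (hg s hs'))

end Cfsg.Agent.StemSection9
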