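import Cfsg.Agent.Lib.D4Levels9
import Cfsg.Agent.Lib.StemSection9
import Cfsg.Agent.Lib.TwistAutRigid

/-!
Central extensions of `³D₄(q)`, `q > 2`: the unipotent subgroup has no multiplier.
-/

set_option autoImplicit false
set_option linter.unusedSectionVars false
set_option linter.unusedVariables false
set_option maxRecDepth 20000

namespace Cfsg.Agent.D4StemP9

open Cfsg.Lie Cfsg.Agent.ChevalleyCert Cfsg.Agent.ChevalleyCore Cfsg.Agent.ChevalleyRoots Cfsg.Agent.ChevalleyTorus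
  Cfsg.Agent.TwistedCore Cfsg.Agent.TwistedTools Cfsg.Agent.TwistedD4 Cfsg.Agent.ChevWeyl Cfsg.Agent.ChevBruhat
  Cfsg.Agent.D4Levels9 Cfsg.Agent.StemSection9
open scoped commutatorElement

variable {K : Type*} [Field K] {q : ℕ} (f : K →+* K) (hf : ∀ t, f t = t ^ q)
variable [Fintype K] (hK : Fintype.card K = q ^ 3)

/-- the exponents of the torus character of a positive root -/
def ex (r : ℕ) : List ℤ :=
  ([[0, -1, 0, 2], [0, -1, 2, 0], [-1, 2, -1, -1], [-1, 1, -1, 1], [-1, 1, 1, -1], [-1, 0, 1, 1], [2, -1, 0, 0],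
    [1, 1, -1, -1], [1, 0, -1, 1], [1, 0, 1, -1], [1, -1, 1, 1], [0, 1, 0, 0]] : List (List ℤ)).getD (r - 12) []

theorem ex_spec : ∀ r < 24, 12 ≤ r → chevD4.cartan 0 r = (ex r).getD 0 0 ∧ chevD4.cartan 1 r = (ex r).getD 1 0 ∧
    chevD4.cartan 2 r = (ex r).getD 2 0 ∧ chevD4.cartan 3 r = (ex r).getD 3 0 := by decide +kernel

theorem chi (a b : Kˣ) {r : ℕ} (h : 12 ≤ r) (h' : r < 24) :
    tchar chevD4 (tp q a b) r = b ^ (ex r).getD 0 0 * a ^ (ex r).getD 1 0 * (b ^ q) ^ (ex r).getD 2 0 *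
      (b ^ q ^ 2) ^ (ex r).getD 3 0 := by
  obtain ⟨e0, e1, e2, e3⟩ := ex_spec r h' h
  rw [← e0, ← e1, ← e2, ← e3]
  exact Fin.prod_univ_four (fun i : Fin 4 => tp q a b i ^ chevD4.cartan i.val r)

/-- a torus element -/
noncomputable def th {a : Kˣ} (ha : a ^ q = a) (b : Kˣ) : ↥(twistedD4 K q) :=
  ⟨torus chevD4 (tp q a b), torus_tp_mem f hf ha b⟩

include hf in
theorem th_commute {a a' : Kˣ} (ha : a ^ q = a) (b : Kˣ) (ha' : a' ^ q = a') (b' : Kˣ) :
    Commute (th f hf ha b) (th f hf ha' b') :=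
  Subtype.ext (H_comm c4 (torus_mem_H c4 _) (torus_mem_H c4 _))

/-- the torus element fixes a level -/
def Fix (q : ℕ) (a b : Kˣ) (j : ℕ) : Prop := ∀ r ∈ orb j, tchar chevD4 (tp q a b) r = 1

/-- the torus element moves every root of a level -/
def Move (q : ℕ) (a b : Kˣ) (j : ℕ) : Prop := ∀ r ∈ orb j, tchar chevD4 (tp q a b) r ≠ 1

theorem torus_conj_Y {j : ℕ} (c : Fin chevD4.rank → Kˣ) {y : GL chevD4.Idx K} (hy : y ∈ Y K j) :
    torus chevD4 c * y * (torus chevD4 c)⁻¹ ∈ Y K j := by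
  induction hy using Subgroup.closure_induction with
  | mem x hx =>
    obtain ⟨r, t, h1, h2, h3, rfl⟩ := hx
    rw [torus_conj_xg c4 h2, ← h3]
    exact xg_mem_Y h1 h2 _
  | one => simp
  | mul x z _ _ hx hz =>
    have e : torus chevD4 c * (x * z) * (torus chevD4 c)⁻¹ =
        (torus chevD4 c * x * (torus chevD4 c)⁻¹) * (torus chevD4 c * z * (torus chevD4 c)⁻¹) := by group
    rw [e]; exact mul_mem hx hz
  | inv x _ hx =>
    have e : torus chevD4 c * x⁻¹ * (torus chevD4 c)⁻¹ = (torus chevD4 c * x * (torus chevD4 c)⁻¹)⁻¹ := by group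
    rw [e]; exact inv_mem hx

include hf in
theorem th_conj_X {a : Kˣ} (ha : a ^ q = a) (b : Kˣ) {j : ℕ} {x : ↥(twistedD4 K q)} (hx : x ∈ X K q j) :
    th f hf ha b * x * (th f hf ha b)⁻¹ ∈ X K q j :=
  torus_conj_Y _ hx

include hf in
theorem th_bracket_X {a : Kˣ} (ha : a ^ q = a) (b : Kˣ) {j : ℕ} {x : ↥(twistedD4 K q)} (hx : x ∈ X K q j) :
    ⁅th f hf ha b, x⁆ ∈ X K q j := by
  rw [commutatorElement_def]
  exact mul_mem (th_conj_X f hf ha b hx) (inv_mem hx)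

theorem fix_torus {a b : Kˣ} {j : ℕ} (hj : j < 6) (h : Fix q a b j) {y : GL chevD4.Idx K} (hy : y ∈ Y K j) :
    Commute (torus chevD4 (tp q a b)) y := by
  refine commute_of_closure (s := {torus chevD4 (tp q a b)}) ?_ (Subgroup.subset_closure rfl) hy
  rintro _ rfl _ ⟨r, t, h1, h2, h3, rfl⟩
  have := torus_conj_xg c4 h2 (tp q a b) t
  rw [h r (h3 ▸ (mem_orb r h2 h1).2), Units.val_one, one_mul] at this
  exact mul_inv_eq_iff_eq_mul.1 this

include hf in
theorem fix_X {a b : Kˣ} (ha : a ^ q = a) {j : ℕ} (hj : j < 6) (h : Fix q a b j) {x : ↥(twistedD4 K q)}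
    (hx : x ∈ X K q j) : Commute (th f hf ha b) x :=
  Subtype.ext (fix_torus hj h hx).eq

include hf hK in
theorem move_X {a b : Kˣ} (ha : a ^ q = a) {j : ℕ} (h : Move q a b j) {x : ↥(twistedD4 K q)}
    (hx : x ∈ X K q j) : ∃ y ∈ X K q j, ⁅th f hf ha b, y⁆ = x := by
  set T := torus chevD4 (tp q a b) with hT
  let m : Y K j →* Y K j :=
    { toFun := fun y => ⟨⁅T, (y : GL chevD4.Idx K)⁆, by
        rw [commutatorElement_def]; exact mul_mem (torus_conj_Y _ y.2) (inv_mem y.2)⟩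
      map_one' := Subtype.ext (by simp)
      map_mul' := fun y z => Subtype.ext (by
        have hz : ⁅T, (z : GL chevD4.Idx K)⁆ ∈ Y K j := by
          rw [commutatorElement_def]; exact mul_mem (torus_conj_Y _ z.2) (inv_mem z.2)
        have hc := Y_commute y.2 hz
        show ⁅T, (y : GL chevD4.Idx K) * z⁆ = ⁅T, (y : GL chevD4.Idx K)⁆ * ⁅T, (z : GL chevD4.Idx K)⁆
        have e : ⁅T, (y : GL chevD4.Idx K) * z⁆ =
            ⁅T, (y : GL chevD4.Idx K)⁆ * ((y : GL chevD4.Idx K) * ⁅T, (z : GL chevD4.Idx K)⁆ * (y : GL chevD4.Idx K)⁻¹) := by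
          simp only [commutatorElement_def]; group
        rw [e, hc.eq, mul_inv_cancel_right]) }
  have hms : Function.Surjective m := by
    suffices hle : Y K j ≤ m.range.map (Y K j).subtype by
      rintro ⟨y, hy⟩
      obtain ⟨_, ⟨z, rfl⟩, e⟩ := hle hy
      exact ⟨z, Subtype.ext e⟩
    refine (Subgroup.closure_le _).2 ?_
    rintro _ ⟨r, t, h1, h2, h3, rfl⟩
    set c : K := (tchar chevD4 (tp q a b) r : K) with hc
    have hc1 : c - 1 ≠ 0 := sub_ne_zero.2 fun e => h r (h3 ▸ (mem_orb r h2 h1).2) (Units.ext e)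
    have hy : xg c4 r (t / (c - 1)) ∈ Y K j := h3 ▸ xg_mem_Y h1 h2 _
    refine ⟨_, ⟨⟨_, hy⟩, rfl⟩, ?_⟩
    show ⁅T, xg c4 r (t / (c - 1))⁆ = _
    rw [commutatorElement_def, hT, torus_conj_xg c4 h2, xg_inv c4, xg_mul c4, ← hc]
    congr 1
    field_simp
    ring
  obtain ⟨⟨y, hy⟩, he⟩ := hms ⟨x, hx⟩
  have he' : ⁅T, y⁆ = (x : GL chevD4.Idx K) := congrArg Subtype.val he
  have hyU : y ∈ chevD4.posUnipotent K := R_le_U _ (Y_le_R _ hy)
  have hTf := le_fixed f hf hK (torus_tp_mem f hf ha b)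
  have hyg := (tw f).S.U_le_group hyU
  have hsy : (tw f).sg y = y := by
    have hm : m ⟨(tw f).sg y, sg_Y f hy⟩ = m ⟨y, hy⟩ := by
      refine Subtype.ext ?_
      show ⁅T, (tw f).sg y⁆ = ⁅T, y⁆
      have e : (tw f).sg ⁅T, y⁆ = ⁅T, y⁆ := by rw [he']; exact (le_fixed f hf hK x.2).2
      rw [commutatorElement_def, (tw f).sg_mul (mul_mem (mul_mem hTf.1 hyg) (inv_mem hTf.1)) (inv_mem hyg),
        (tw f).sg_conj hTf.1 hyg, (tw f).sg_inv hyg, hTf.2, ← commutatorElement_def,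
        ← commutatorElement_def] at e
      exact e
    exact congrArg Subtype.val ((Finite.injective_iff_surjective.2 hms) hm)
  exact ⟨⟨y, (classes f hf hK).fixed_U_le hyU ⟨hyg, hsy⟩⟩, hy, Subtype.ext he'⟩

/-! ### Weyl conjugations -/

/-- conjugation by the fundamental representatives on root elements -/
theorem ngc9 {i : ℕ} (hi : i < 4) {r : ℕ} (hr : r < 24) (t : K) :
    ∃ u : K, ng c4 (chevD4.simple i) 1 * xg c4 r t * (ng c4 (chevD4.simple i) 1)⁻¹ =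
      xg c4 (chevD4.reflectRoot i r) u :=
  ⟨_, ng_simple_conj c4 hi hr t⟩

theorem refl_lt : ∀ i < 4, ∀ r < 24, chevD4.reflectRoot i r < 24 := by decide +kernel

/-- the reflection of the outer class -/
def rA (r : ℕ) : ℕ := chevD4.reflectRoot 0 (chevD4.reflectRoot 2 (chevD4.reflectRoot 3 r))

theorem nB_conj9 {r : ℕ} (hr : r < 24) (t : K) :
    ∃ u : K, ng c4 d4p2 1 * xg c4 r t * (ng c4 d4p2 1)⁻¹ = xg c4 (chevD4.reflectRoot 1 r) u := by
  rw [← simples.2.1]; exact ngc9 (by norm_num) hr t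

theorem nA_conj9 {r : ℕ} (hr : r < 24) (t : K) :
    ∃ u : K, tn (1 : K) 1 1 * xg c4 r t * (tn (1 : K) 1 1)⁻¹ = xg c4 (rA r) u := by
  obtain ⟨e1, -, e3, e4, -⟩ := simples
  obtain ⟨u3, h3⟩ := ngc9 (i := 3) (by norm_num) hr t
  have l3 := refl_lt 3 (by norm_num) r hr
  obtain ⟨u2, h2⟩ := ngc9 (i := 2) (by norm_num) l3 u3
  obtain ⟨u0, h0⟩ := ngc9 (i := 0) (by norm_num) (refl_lt 2 (by norm_num) _ l3) u2
  refine ⟨u0, ?_⟩
  rw [e4] at h3
  rw [e3, ← h3] at h2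
  rw [e1, ← h2] at h0
  rw [rA, ← h0, tn]
  group

theorem map_Y {i k : ℕ} (hi : i < 6) (g : GL chevD4.Idx K) (ρ : ℕ → ℕ)
    (hg : ∀ r < 24, ∀ t : K, ∃ u : K, g * xg c4 r t * g⁻¹ = xg c4 (ρ r) u)
    (hρ : ∀ r ∈ orb i, 12 ≤ ρ r ∧ ρ r < 24 ∧ lv (ρ r) = k) {y : GL chevD4.Idx K} (hy : y ∈ Y K i) :
    g * y * g⁻¹ ∈ Y K k := by
  induction hy using Subgroup.closure_induction with
  | mem x hx =>
    obtain ⟨r, t, h1, h2, h3, rfl⟩ := hx
    obtain ⟨u, hu⟩ := hg r h2 t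
    obtain ⟨a1, a2, a3⟩ := hρ r (h3 ▸ (mem_orb r h2 h1).2)
    rw [hu, ← a3]
    exact xg_mem_Y a1 a2 _
  | one => simp
  | mul x z _ _ hx hz =>
    have e : g * (x * z) * g⁻¹ = (g * x * g⁻¹) * (g * z * g⁻¹) := by group
    rw [e]; exact mul_mem hx hz
  | inv x _ hx =>
    have e : g * x⁻¹ * g⁻¹ = (g * x * g⁻¹)⁻¹ := by group
    rw [e]; exact inv_mem hx

include hf in
/-- `n_a` inside the group -/
theorem nA_mem9 : tn (1 : K) 1 1 ∈ twistedD4 K q := by simpa using tn_mem f hf (1 : K)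

include hf in
/-- `n_b` inside the group -/
theorem nB_mem9 : (ng c4 d4p2 (1 : K)) ∈ twistedD4 K q := ng2_mem f hf (one_pow q)

theorem orb_refl_B : ∀ p ∈ [((0 : ℕ), (2 : ℕ)), (2, 0), (4, 5), (5, 4), (3, 3)], ∀ r ∈ orb p.1,
    12 ≤ chevD4.reflectRoot 1 r ∧ chevD4.reflectRoot 1 r < 24 ∧ lv (chevD4.reflectRoot 1 r) = p.2 := by
  decide +kernel

theorem orb_refl_A : ∀ p ∈ [((3 : ℕ), (2 : ℕ)), (2, 3), (4, 1), (1, 4), (5, 5)], ∀ r ∈ orb p.1,
    12 ≤ rA r ∧ rA r < 24 ∧ lv (rA r) = p.2 := by decide +kernel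

include hf in
theorem nB_X {i k : ℕ} (hi : i < 6) (h : (i, k) ∈ [((0 : ℕ), (2 : ℕ)), (2, 0), (4, 5), (5, 4), (3, 3)])
    {x : ↥(twistedD4 K q)} (hx : x ∈ X K q i) :
    (⟨_, nB_mem9 f hf⟩ : ↥(twistedD4 K q)) * x * (⟨_, nB_mem9 f hf⟩ : ↥(twistedD4 K q))⁻¹ ∈ X K q k :=
  map_Y hi _ _ (fun _ hr t => nB_conj9 hr t) (orb_refl_B _ h) hx

include hf in
theorem nA_X {i k : ℕ} (hi : i < 6) (h : (i, k) ∈ [((3 : ℕ), (2 : ℕ)), (2, 3), (4, 1), (1, 4), (5, 5)])
    {x : ↥(twistedD4 K q)} (hx : x ∈ X K q i) :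
    (⟨_, nA_mem9 f hf⟩ : ↥(twistedD4 K q)) * x * (⟨_, nA_mem9 f hf⟩ : ↥(twistedD4 K q))⁻¹ ∈ X K q k :=
  map_Y hi _ _ (fun _ hr t => nA_conj9 hr t) (orb_refl_A _ h) hx

theorem Y0_le_Uw : Y K 0 ≤ (tw f).S.Uw ((tw f).wd (cl4 false)) := by
  refine (Subgroup.closure_le _).2 ?_
  rintro _ ⟨r, t, h1, h2, h3, rfl⟩
  have h := (mem_orb r h2 h1).2
  rw [h3] at h
  refine xg_mem_Uw f false ?_ t
  simpa [orb, d4p1, d4p3, d4p4] using h

include hf hK in
theorem X0_form {x : ↥(twistedD4 K q)} (hx : x ∈ X K q 0) :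
    ∃ t : K, (x : GL chevD4.Idx K) = tri t (t ^ q) (t ^ q ^ 2) :=
  UF_false_le f hf hK ⟨Y0_le_Uw f hx, le_fixed f hf hK x.2⟩

theorem tri_mem_Y (a b c : K) : tri a b c ∈ Y K 0 := by
  have h : ∀ r ∈ [d4p1, d4p3, d4p4], 12 ≤ r ∧ r < 24 ∧ lv r = 0 := by decide +kernel
  have hm : ∀ r ∈ [d4p1, d4p3, d4p4], ∀ t : K, xg c4 r t ∈ Y K 0 := fun r hr t =>
    (h r hr).2.2 ▸ xg_mem_Y (h r hr).1 (h r hr).2.1 t
  exact mul_mem (mul_mem (hm _ (by simp) a) (hm _ (by simp) b)) (hm _ (by simp) c)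

theorem pair_22_14 : (22 : ℕ) ≠ 14 ∧ 22 ≠ chevD4.neg 14 ∧
    (chevD4.commTerms 14 22 = [(23, 1, 1, 1)] ∨ chevD4.commTerms 14 22 = [(23, -1, 1, 1)]) := by decide +kernel

theorem Y5_form {y : GL chevD4.Idx K} (hy : y ∈ Y K 5) : ∃ c, y = xg c4 23 c := by
  induction hy using Subgroup.closure_induction with
  | mem x hx =>
    obtain ⟨r, t, h1, h2, h3, rfl⟩ := hx
    have := (mem_orb r h2 h1).2
    rw [h3] at this
    simp only [orb, List.mem_cons, List.not_mem_nil, or_false] at this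
    exact ⟨t, by rw [this]⟩
  | one => exact ⟨0, (xg_zero c4 _).symm⟩
  | mul a b _ _ ha hb => obtain ⟨s, rfl⟩ := ha; obtain ⟨t, rfl⟩ := hb; exact ⟨s + t, xg_mul c4 _ _ _⟩
  | inv a _ ha => obtain ⟨s, rfl⟩ := ha; exact ⟨-s, xg_inv c4 _ _⟩

include hf hK in
/-- every element of `Z` is a commutator of `B` and `E` -/
theorem Z_bracket {z : ↥(twistedD4 K q)} (hz : z ∈ X K q 5) :
    ∃ b ∈ X K q 1, ∃ e ∈ X K q 4, z = ⁅e, b⁆ := by
  obtain ⟨c, hc⟩ := Y5_form (K := K) hz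
  obtain ⟨h1, h2, h3⟩ := pair_22_14
  have h14 : chevD4.simple 1 = 14 := simples.2.1
  have hrefl : chevD4.reflectRoot 1 23 = 22 := by decide +kernel
  have hn : ng c4 d4p2 1 * xg c4 23 c * (ng c4 d4p2 1)⁻¹ = xg c4 22 ((c4.eta 1 23 : K) * c) := by
    rw [← simples.2.1, ng_simple_conj c4 (by decide) (by decide), hrefl]
  have hG : xg c4 22 ((c4.eta 1 23 : K) * c) ∈ twistedD4 K q := by
    rw [← hn]
    have hcG : xg c4 23 c ∈ twistedD4 K q := hc ▸ z.2
    exact mul_mem (mul_mem (nB_mem9 f hf) hcG) (inv_mem (nB_mem9 f hf))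
  have hcG' : ∀ s : K, (s = c ∨ s = -c) → xg c4 22 s ∈ twistedD4 K q := by
    intro s hs
    rcases c4.eta_sq 1 23 with e | e <;> rcases hs with rfl | rfl <;> simp [e] at hG <;>
      first | exact hG | (have := inv_mem hG; simpa [xg_inv] using this)
  have hb14 : xg c4 14 (1 : K) ∈ twistedD4 K q := (xg_mem_p2 q (one_pow q)).1
  have hY : ∀ r, 12 ≤ r → r < 24 → ∀ t : K, xg c4 r t ∈ Y K (lv r) := fun r a b t => xg_mem_Y a b t
  have key : ∃ s : K, (s = c ∨ s = -c) ∧ (z : GL chevD4.Idx K) = ⁅(xg c4 22 s)⁻¹, (xg c4 14 (1 : K))⁻¹⁆ := by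
    rcases h3 with e | e
    · refine ⟨-c, Or.inr rfl, ?_⟩
      have hform := comm_formula c4 (r := 14) (s := 22) (by decide) (by decide) h1 h2 (1 : K) (-c)
      simp [ChevalleyDatum.commWord, e, wg] at hform
      rw [commutatorElement_def, inv_inv, inv_inv, mul_assoc _ (xg c4 22 (-c)), hform]
      rw [show (z : GL chevD4.Idx K) = xg c4 23 c from hc]
      group
    · refine ⟨c, Or.inl rfl, ?_⟩
      have hform := comm_formula c4 (r := 14) (s := 22) (by decide) (by decide) h1 h2 (1 : K) c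
      simp [ChevalleyDatum.commWord, e, wg] at hform
      rw [commutatorElement_def, inv_inv, inv_inv, mul_assoc _ (xg c4 22 c), hform]
      rw [show (z : GL chevD4.Idx K) = xg c4 23 c from hc]
      group
  obtain ⟨s, hs, he⟩ := key
  exact ⟨(⟨_, hb14⟩ : ↥(twistedD4 K q))⁻¹, inv_mem (show _ ∈ X K q 1 from hY 14 (by decide) (by decide) 1),
    (⟨_, hcG' s hs⟩ : ↥(twistedD4 K q))⁻¹, inv_mem (show _ ∈ X K q 4 from hY 22 (by decide) (by decide) s),
    Subtype.ext he⟩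

/-! ### abelian preimages -/

section Ext

variable {Γ : Type*} [Group Γ] {σ : Γ →* ↥(twistedD4 K q)} (hs : Function.Surjective σ)
  (hc : σ.ker ≤ Subgroup.center Γ)

/-- the preimage of a level is commutative -/
def Ab (σ : Γ →* ↥(twistedD4 K q)) (i : ℕ) : Prop := ∀ a b : Γ, σ a ∈ X K q i → σ b ∈ X K q i → Commute a b

include hs hc in
theorem ab_conj {i k : ℕ} (g : ↥(twistedD4 K q)) (hg : ∀ x ∈ X K q i, g * x * g⁻¹ ∈ X K q k) (hk : Ab σ k) :
    Ab σ i := by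
  intro a b ha hb
  obtain ⟨γ, rfl⟩ := hs g
  have h := hk (γ * a * γ⁻¹) (γ * b * γ⁻¹) (by rw [map_mul, map_mul, map_inv]; exact hg _ ha)
    (by rw [map_mul, map_mul, map_inv]; exact hg _ hb)
  rw [← commutatorElement_eq_one_iff_commute] at h ⊢
  rw [← conjugate_commutatorElement, conj_eq_one_iff] at h
  exact h

include hf hK hs hc in
theorem ab_A : Ab σ 0 := by
  let el : K → ↥(twistedD4 K q) := fun t => ⟨tri t (t ^ q) (t ^ q ^ 2), (tri_mem q t).1⟩
  have hel : ∀ t, el t ∈ X K q 0 := fun t => tri_mem_Y (K := K) _ _ _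
  have hadd : ∀ t u, el t * el u = el (t + u) := by
    intro t u
    refine Subtype.ext ?_
    show tri t (t ^ q) (t ^ q ^ 2) * tri u (u ^ q) (u ^ q ^ 2) = _
    rw [tri_mul]
    show _ = tri (t + u) ((t + u) ^ q) ((t + u) ^ q ^ 2)
    rw [← hf t, ← hf u, ← hf (t + u), map_add, ← f_f f hf t, ← f_f f hf u, ← f_f f hf (t + u), map_add, map_add]
  let L : K → Γ := fun t => Function.surjInv hs (el t)
  have hL : ∀ t, σ (L t) = el t := fun t => Function.surjInv_eq hs _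
  have hcomm : ∀ t u, Commute (σ (L t)) (σ (L u)) := fun t u => by
    rw [hL, hL]; exact X_commute (hel t) (hel u)
  have hB : ∀ t u, ⁅L t, L u⁆ = 1 := by
    have h2 : 2 ≤ q := TwistedField.one_lt_base hK
    have hcard : 8 ≤ Fintype.card K := by
      rw [hK]; exact (show 2 ^ 3 = 8 by norm_num) ▸ Nat.pow_le_pow_left h2 3
    refine StemPairing.pairing_eq_one (by omega) ?_ (fun t u => ⁅L t, L u⁆) ?_ ?_
      (fun t => commutatorElement_self _) ?_
    · rw [hK]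
      intro h9
      rcases Nat.lt_or_ge q 3 with h | h
      · obtain rfl : q = 2 := by omega
        norm_num at h9
      · have := Nat.pow_le_pow_left h 3
        omega
    · intro t t' u
      show _ = ⁅L t, L u⁆ * ⁅L t', L u⁆
      rw [← StemPairing.bracket_mul_left hc (hcomm t' u)]
      exact StemPairing.bracket_congr hc (by rw [map_mul, hL, hL, hL, hadd]) rfl
    · intro t u u'
      show _ = ⁅L t, L u⁆ * ⁅L t, L u'⁆
      rw [← StemPairing.bracket_mul_right hc (hcomm t u')]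
      exact StemPairing.bracket_congr hc rfl (by rw [map_mul, hL, hL, hL, hadd])
    · intro s hs0 t u
      obtain ⟨g, hg⟩ := hs (th f hf (a := 1) (one_pow q) (Units.mk0 s hs0))
      have hconj : ∀ v, th f hf (a := 1) (one_pow q) (Units.mk0 s hs0) * el v *
          (th f hf (a := 1) (one_pow q) (Units.mk0 s hs0))⁻¹ = el (s ^ 2 * v) := by
        intro v
        refine Subtype.ext ?_
        show torus chevD4 (tp q 1 (Units.mk0 s hs0)) * tri v (v ^ q) (v ^ q ^ 2) *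
          (torus chevD4 (tp q 1 (Units.mk0 s hs0)))⁻¹ = tri (s ^ 2 * v) ((s ^ 2 * v) ^ q) ((s ^ 2 * v) ^ q ^ 2)
        obtain ⟨t0, t1, t2, t3⟩ := tchar_simples (tp q 1 (Units.mk0 s hs0))
        obtain ⟨e1, e2, e3, e4, -⟩ := simples
        rw [e1] at t0; rw [e3] at t2; rw [e4] at t3
        set T := torus chevD4 (tp q 1 (Units.mk0 s hs0)) with hT
        have e : ∀ a b c : K, T * tri a b c * T⁻¹ =
            (T * xg c4 d4p1 a * T⁻¹) * (T * xg c4 d4p3 b * T⁻¹) * (T * xg c4 d4p4 c * T⁻¹) := by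
          intro a b c; unfold tri; group
        rw [e, hT, torus_conj_xg c4 (by decide +kernel), torus_conj_xg c4 (by decide +kernel),
          torus_conj_xg c4 (by decide +kernel), t0, t2, t3, tri, mul_pow, mul_pow]
        simp [tp, ← pow_mul, mul_comm]
      refine StemPairing.bracket_conj hc g (hcomm t u) ?_ ?_
      · rw [map_mul, map_mul, map_inv, hg, hL, hL, hconj]
      · rw [map_mul, map_mul, map_inv, hg, hL, hL, hconj]
  intro a b ha hb
  obtain ⟨t, ht⟩ := X0_form f hf hK ha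
  obtain ⟨u, hu⟩ := X0_form f hf hK hb
  rw [← commutatorElement_eq_one_iff_commute,
    StemPairing.bracket_congr hc (a' := L t) (b' := L u) (by rw [hL]; exact Subtype.ext ht)
      (by rw [hL]; exact Subtype.ext hu)]
  exact hB t u

include hf hK hs hc in
theorem ab_Z : Ab σ 5 := by
  intro a b ha hb
  obtain ⟨bb, hbb, e, he, hz⟩ := Z_bracket f hf hK hb
  obtain ⟨β, rfl⟩ := hs bb
  obtain ⟨ε, rfl⟩ := hs e
  have hfix : ∀ x, ⁅σ a, σ x⁆ = 1 → σ (a * x * a⁻¹) = σ x := by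
    intro x hx
    rw [commutatorElement_eq_one_iff_mul_comm] at hx
    rw [map_mul, map_mul, map_inv, hx, mul_inv_cancel_right]
  have h1 : ∀ {j} {x}, j < 5 → σ x ∈ X K q j → ⁅σ a, σ x⁆ = 1 := by
    intro j x hj hx
    refine N_top ?_ (bracket_X (q := q) (i := j) (j := 5) ha hx)
    omega
  have h2 : a * ⁅ε, β⁆ * a⁻¹ = ⁅ε, β⁆ := by
    rw [conjugate_commutatorElement]
    exact StemPairing.bracket_congr hc (hfix _ (h1 (by norm_num) he)) (hfix _ (h1 (by norm_num) hbb))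
  rw [← commutatorElement_eq_one_iff_commute,
    StemPairing.bracket_congr hc (a' := a) (b' := ⁅ε, β⁆) rfl (by rw [map_commutatorElement]; exact hz),
    commutatorElement_eq_one_iff_commute]
  exact mul_inv_eq_iff_eq_mul.1 h2

include hf hK hs hc in
theorem ab_all {i : ℕ} (hi : i < 6) : Ab σ i := by
  have h0 := ab_A f hf hK hs hc
  have h5 := ab_Z f hf hK hs hc
  have h2 : Ab σ 2 := ab_conj hs hc _ (fun _ hx => nB_X f hf (by norm_num) (by decide) hx) h0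
  have h4 : Ab σ 4 := ab_conj hs hc _ (fun _ hx => nB_X f hf (by norm_num) (by decide) hx) h5
  interval_cases i
  · exact h0
  · exact ab_conj hs hc _ (fun _ hx => nA_X f hf (by norm_num) (by decide) hx) h4
  · exact h2
  · exact ab_conj hs hc _ (fun _ hx => nA_X f hf (by norm_num) (by decide) hx) h2
  · exact h4
  · exact h5

end Ext

end Cfsg.Agent.D4StemP9
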