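import Cfsg.Agent.Lib.D4StemP9

/-!
`³D₄(q)`, `q > 2`: torus elements killing all pairings, and the resulting section over `U`.
-/

set_option autoImplicit false
set_option linter.unusedSectionVars false
set_option linter.unusedVariables false
set_option linter.unusedSimpArgs false
set_option maxRecDepth 20000

namespace Cfsg.Agent.D4StemU9

open Cfsg.Lie Cfsg.Agent.ChevalleyCert Cfsg.Agent.ChevalleyCore Cfsg.Agent.ChevalleyRoots Cfsg.Agent.ChevalleyTorus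
  Cfsg.Agent.TwistedCore Cfsg.Agent.TwistedTools Cfsg.Agent.TwistedD4 Cfsg.Agent.ChevWeyl Cfsg.Agent.ChevBruhat
  Cfsg.Agent.D4Levels9 Cfsg.Agent.StemSection9 Cfsg.Agent.D4StemP9
open scoped commutatorElement

variable {K : Type*} [Field K] {q : ℕ} (f : K →+* K) (hf : ∀ t, f t = t ^ q)
variable [Fintype K] (hK : Fintype.card K = q ^ 3)

/-- a torus element whose two parameters are powers of one unit of the fixed field -/
theorem chi_line {b : Kˣ} (hb : b ^ q = b) (k : ℤ) {r : ℕ} (h : 12 ≤ r) (h' : r < 24) :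
    tchar chevD4 (tp q (b ^ k) b) r =
      b ^ ((ex r).getD 0 0 + k * (ex r).getD 1 0 + (ex r).getD 2 0 + (ex r).getD 3 0) := by
  have hb2 : b ^ q ^ 2 = b := by rw [pow_two, pow_mul, hb, hb]
  rw [chi (b ^ k) b h h', hb, hb2, ← zpow_mul, ← zpow_add, ← zpow_add, ← zpow_add]

theorem orb1 (a b : Kˣ) : tchar chevD4 (tp q a b) 14 = a ^ 2 * (b * b ^ q * b ^ q ^ 2)⁻¹ := by
  rw [chi a b (by norm_num) (by norm_num)]
  simp [ex, zpow_ofNat, mul_comm, mul_left_comm, mul_assoc]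

theorem orb4 (a b : Kˣ) : tchar chevD4 (tp q a b) 22 = b * b ^ q * b ^ q ^ 2 * a⁻¹ := by
  rw [chi a b (by norm_num) (by norm_num)]
  simp [ex, zpow_ofNat, mul_comm, mul_left_comm, mul_assoc]

theorem orb5 (a b : Kˣ) : tchar chevD4 (tp q a b) 23 = a := by
  rw [chi a b (by norm_num) (by norm_num)]
  simp [ex, zpow_ofNat]

theorem norm_one_move {G : Type*} [CommGroup G] {x y z : G} (h : x * y * z = 1) (hx : x ^ 2 ≠ 1) :
    x * y⁻¹ * z⁻¹ ≠ 1 ∧ x⁻¹ * y * z ≠ 1 := by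
  have hyz : y * z = x⁻¹ := by
    rw [eq_comm, inv_eq_iff_mul_eq_one, ← mul_assoc]; exact h
  constructor
  · rw [mul_assoc, ← mul_inv, hyz, inv_inv, ← pow_two]; exact hx
  · rw [mul_assoc, hyz, ← mul_inv, inv_ne_one, ← pow_two]; exact hx

theorem h5_move {b : Kˣ} (hN : b * b ^ q * b ^ q ^ 2 = 1) (hb : b ^ 2 ≠ 1)
    (hb1 : (b ^ q) ^ 2 ≠ 1) (hb2 : (b ^ q ^ 2) ^ 2 ≠ 1) : ∀ j ∈ [0, 2, 3], Move q 1 b j := by
  intro j hj r hr
  have h1 := norm_one_move (x := b) hN hb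
  have h2 := norm_one_move (x := b ^ q) (y := b) (z := b ^ q ^ 2) (by rw [mul_comm (b ^ q) b]; exact hN) hb1
  have h3 := norm_one_move (x := b ^ q ^ 2) (y := b) (z := b ^ q) (by rw [mul_assoc, mul_comm]; exact hN) hb2
  have hl : 12 ≤ r ∧ r < 24 := by
    have : j < 6 := by fin_cases hj <;> norm_num
    exact ⟨(orb_spec j this r hr).1, (orb_spec j this r hr).2.1⟩
  rw [chi 1 b hl.1 hl.2]
  fin_cases hj <;> fin_cases hr <;>
    simp only [ex, List.getD_cons_succ, List.getD_cons_zero, zpow_zero, zpow_one, zpow_neg_one, zpow_two,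
      one_zpow, mul_one, one_mul, inv_one, ← pow_two]
  all_goals first
    | exact hb
    | exact hb1
    | (rw [zpow_ofNat]; assumption)
    | (simpa [pow_two] using hb1)
    | (simpa [pow_two] using hb2)
    | exact hb2
    | exact h1.1
    | exact h1.2
    | (simpa [mul_comm, mul_left_comm, mul_assoc] using h2.1)
    | (simpa [mul_comm, mul_left_comm, mul_assoc] using h2.2)
    | (simpa [mul_comm, mul_left_comm, mul_assoc] using h3.1)
    | (simpa [mul_comm, mul_left_comm, mul_assoc] using h3.2)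

include hf hK in
/-- torus elements which kill all pairings -/
theorem killers (hq : 3 ≤ q) :
    (∀ i < 6, ∃ a b : Kˣ, a ^ q = a ∧ Move q a b i) ∧
      ∀ i < 6, ∀ j < i, ∃ a b : Kˣ, a ^ q = a ∧
        ((Fix q a b j ∧ Move q a b i) ∨ (Fix q a b i ∧ Move q a b j)) := by
  obtain ⟨g, hg⟩ := IsCyclic.exists_ofOrder_eq_natCard (α := Kˣ)
  rw [TwistedField.card_units_eq, hK] at hg
  set M := q ^ 2 + q + 1 with hM
  have hcard : q ^ 3 - 1 = (q - 1) * M := by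
    obtain ⟨k, rfl⟩ : ∃ k, q = k + 1 := ⟨q - 1, by omega⟩
    have : (k + 1) ^ 3 = k * ((k + 1) ^ 2 + (k + 1) + 1) + 1 := by ring
    rw [hM, this, Nat.add_sub_cancel, Nat.add_sub_cancel]
  rw [hcard] at hg
  have hq3 : ∀ t : Kˣ, t ^ q ^ 3 = t := fun t => Units.ext (by rw [Units.val_pow_eq_pow_val, pow_q3 hK])
  have hN : ∀ t : Kˣ, t * t ^ q * t ^ q ^ 2 = t ^ M := by
    intro t
    rw [hM, show q ^ 2 + q + 1 = 1 + q + q ^ 2 by ring, pow_add, pow_add, pow_one]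
  set s := g ^ M with hsdef
  have hgM : g ^ ((q - 1) * M) = 1 := hg ▸ pow_orderOf_eq_one g
  have hsq : s ^ q = s := by
    rw [hsdef, ← pow_mul, show M * q = (q - 1) * M + M by
      obtain ⟨k, rfl⟩ : ∃ k, q = k + 1 := ⟨q - 1, by omega⟩
      rw [Nat.add_sub_cancel]; ring, pow_add, hgM, one_mul]
  have hMpos : 0 < M := by positivity
  have hs1 : s ≠ 1 := pow_ne_one_of_lt_orderOf hMpos.ne' (by
    rw [hg]
    have : 2 * M ≤ (q - 1) * M := Nat.mul_le_mul_right _ (by omega)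
    omega)
  set β := g ^ (q - 1) with hβdef
  have hβN : β * β ^ q * β ^ q ^ 2 = 1 := by rw [hN, hβdef, ← pow_mul, hgM]
  have hM7 : 2 < M := by
    have : q ≤ q ^ 2 := Nat.le_self_pow two_ne_zero q
    omega
  have hβ : β ^ 2 ≠ 1 := by
    rw [hβdef, ← pow_mul]
    refine pow_ne_one_of_lt_orderOf (Nat.mul_pos (by omega) (by norm_num)).ne' ?_
    rw [hg]
    exact Nat.mul_lt_mul_of_pos_left hM7 (by omega)
  have hβ1 : (β ^ q) ^ 2 ≠ 1 := by
    intro h
    apply hβ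
    have e := congrArg (fun t : Kˣ => t ^ q ^ 2) h
    simp only [one_pow] at e
    rwa [← pow_mul, ← pow_mul, show q * (2 * q ^ 2) = q ^ 3 * 2 by ring, pow_mul, hq3] at e
  have hβ2 : (β ^ q ^ 2) ^ 2 ≠ 1 := by
    intro h
    apply hβ
    have e := congrArg (fun t : Kˣ => t ^ q) h
    simp only [one_pow] at e
    rwa [← pow_mul, ← pow_mul, show q ^ 2 * (2 * q) = q ^ 3 * 2 by ring, pow_mul, hq3] at e
  have hk : ∀ k : ℤ, (s ^ k) ^ q = s ^ k := fun k => by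
    rw [← zpow_natCast, ← zpow_mul, mul_comm, zpow_mul, zpow_natCast, hsq]
  have line : ∀ (k : ℤ) (j : ℕ), j < 6 → ∀ e : ℤ,
      (∀ r ∈ orb j, (ex r).getD 0 0 + k * (ex r).getD 1 0 + (ex r).getD 2 0 + (ex r).getD 3 0 = e) →
      (e = 0 → Fix q (s ^ k) s j) ∧ (e = 1 ∨ e = -1 → Move q (s ^ k) s j) := by
    intro k j hj e h
    refine ⟨fun he r hr => ?_, fun he r hr => ?_⟩ <;> obtain ⟨r1, r2, -⟩ := orb_spec j hj r hr <;>
      rw [chi_line hsq k r1 r2, h r hr]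
    · rw [he, zpow_zero]
    · rcases he with rfl | rfl
      · rwa [zpow_one]
      · rwa [zpow_neg_one, inv_ne_one]
  have A1 : Fix q (s ^ (2 : ℤ)) s 0 := (line 2 0 (by norm_num) 0 (by decide)).1 rfl
  have B1 : Move q (s ^ (2 : ℤ)) s 1 := (line 2 1 (by norm_num) 1 (by decide)).2 (Or.inl rfl)
  have C1 : Move q (s ^ (2 : ℤ)) s 2 := (line 2 2 (by norm_num) 1 (by decide)).2 (Or.inl rfl)
  have D1 : Move q (s ^ (2 : ℤ)) s 3 := (line 2 3 (by norm_num) 1 (by decide)).2 (Or.inl rfl)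
  have E1 : Move q (s ^ (2 : ℤ)) s 4 := (line 2 4 (by norm_num) 1 (by decide)).2 (Or.inl rfl)
  have A3 : Move q (s ^ (1 : ℤ)) s 0 := (line 1 0 (by norm_num) 1 (by decide)).2 (Or.inl rfl)
  have C3 : Fix q (s ^ (1 : ℤ)) s 2 := (line 1 2 (by norm_num) 0 (by decide)).1 rfl
  have D3 : Move q (s ^ (1 : ℤ)) s 3 := (line 1 3 (by norm_num) 1 (by decide)).2 (Or.inl rfl)
  have Z3 : Move q (s ^ (1 : ℤ)) s 5 := (line 1 5 (by norm_num) 1 (by decide)).2 (Or.inl rfl)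
  have single : ∀ (a b : Kˣ) (j r : ℕ), orb j = [r] →
      (tchar chevD4 (tp q a b) r = 1 → Fix q a b j) ∧ (tchar chevD4 (tp q a b) r ≠ 1 → Move q a b j) := by
    intro a b j r hj
    refine ⟨fun h x hx => ?_, fun h x hx => ?_⟩ <;> rw [hj, List.mem_singleton] at hx <;> exact hx ▸ h
  have hgN : g * g ^ q * g ^ q ^ 2 = s := hN g
  have B2 : Move q 1 g 1 := (single 1 g 1 14 rfl).2 (by
    rw [orb1, hgN, one_pow, one_mul]; exact inv_ne_one.2 hs1)
  have E2 : Move q 1 g 4 := (single 1 g 4 22 rfl).2 (by rw [orb4, hgN, inv_one, mul_one]; exact hs1)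
  have Z2 : Fix q 1 g 5 := (single 1 g 5 23 rfl).1 (by rw [orb5])
  have B4 : Move q s g 1 := (single s g 1 14 rfl).2 (by
    rw [orb1, hgN, pow_two, mul_inv_cancel_right]; exact hs1)
  have E4 : Fix q s g 4 := (single s g 4 22 rfl).1 (by rw [orb4, hgN, mul_inv_cancel])
  have B5 : Fix q 1 β 1 := (single 1 β 1 14 rfl).1 (by rw [orb1, hβN]; simp)
  have E5 : Fix q 1 β 4 := (single 1 β 4 22 rfl).1 (by rw [orb4, hβN]; simp)
  have Z5 : Fix q 1 β 5 := (single 1 β 5 23 rfl).1 (by rw [orb5])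
  have m5 := h5_move (q := q) hβN hβ hβ1 hβ2
  have h1 := hk 2
  have h3 := hk 1
  refine ⟨fun i hi => ?_, fun i hi j hj => ?_⟩
  · interval_cases i
    · exact ⟨_, _, h3, A3⟩
    · exact ⟨_, _, h1, B1⟩
    · exact ⟨_, _, h1, C1⟩
    · exact ⟨_, _, h1, D1⟩
    · exact ⟨_, _, h1, E1⟩
    · exact ⟨_, _, h3, Z3⟩
  · interval_cases i <;> interval_cases j
    · exact ⟨_, _, h1, Or.inl ⟨A1, B1⟩⟩
    · exact ⟨_, _, h1, Or.inl ⟨A1, C1⟩⟩
    · exact ⟨_, _, one_pow q, Or.inl ⟨B5, m5 2 (by simp)⟩⟩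
    · exact ⟨_, _, h1, Or.inl ⟨A1, D1⟩⟩
    · exact ⟨_, _, one_pow q, Or.inl ⟨B5, m5 3 (by simp)⟩⟩
    · exact ⟨_, _, h3, Or.inl ⟨C3, D3⟩⟩
    · exact ⟨_, _, h1, Or.inl ⟨A1, E1⟩⟩
    · exact ⟨_, _, hsq, Or.inr ⟨E4, B4⟩⟩
    · exact ⟨_, _, one_pow q, Or.inr ⟨E5, m5 2 (by simp)⟩⟩
    · exact ⟨_, _, one_pow q, Or.inr ⟨E5, m5 3 (by simp)⟩⟩
    · exact ⟨_, _, one_pow q, Or.inr ⟨Z5, m5 0 (by simp)⟩⟩
    · exact ⟨_, _, one_pow q, Or.inr ⟨Z2, B2⟩⟩
    · exact ⟨_, _, one_pow q, Or.inr ⟨Z5, m5 2 (by simp)⟩⟩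
    · exact ⟨_, _, one_pow q, Or.inr ⟨Z5, m5 3 (by simp)⟩⟩
    · exact ⟨_, _, one_pow q, Or.inr ⟨Z2, E2⟩⟩

section Ext

variable {Γ : Type*} [Group Γ] {σ : Γ →* ↥(twistedD4 K q)} (hs : Function.Surjective σ)
  (hc : σ.ker ≤ Subgroup.center Γ)

/-- the generators used for normalisation -/
def Good (σ : Γ →* ↥(twistedD4 K q)) (g : Γ) : Prop :=
  (∃ (a : Kˣ) (ha : a ^ q = a) (b : Kˣ), σ g = th f hf ha b) ∨ ∃ j < 6, σ g ∈ X K q j

include hf hK hs hc in
theorem exists_sec (hq : 3 ≤ q) (i : ℕ) (hi : i ≤ 6) :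
    ∃ S : Subgroup Γ, Sec σ S (N K q i) ∧ ∀ g, Good f hf σ g → Nrm S g := by
  obtain ⟨movers, kill⟩ := killers f hf hK hq
  induction hn : 6 - i generalizing i with
  | zero =>
    obtain rfl : i = 6 := by omega
    have e : N K q 6 = ⊥ := by
      rw [eq_bot_iff]
      intro x hx
      exact Subgroup.mem_bot.2 (N_top le_rfl hx)
    exact ⟨⊥, e ▸ Sec.bot σ, fun g _ => nrm_bot g⟩
  | succ n ih =>
    have hi6 : i < 6 := by omega
    obtain ⟨S, hS, hnrm⟩ := ih (i + 1) (by omega) (by omega)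
    obtain ⟨a, b, ha, hmv⟩ := movers i hi6
    obtain ⟨h, hh⟩ := hs (th f hf ha b)
    have hXn : ∀ j, j < 6 → ∀ x : Γ, σ x ∈ X K q j → Nrm S x := fun j hj x hx => hnrm x (Or.inr ⟨j, hj, hx⟩)
    obtain ⟨S', hS', -, hext⟩ := StemSection9.step (X := X K q i) (N := N K q i) hs hc hS (X_le_N le_rfl)
      (N_mono i.le_succ) (fun g hg => exists_XN f hf hK hi6 hg) (fun x h1 h2 => X_inf_N hi6 h1 h2)
      (ab_all f hf hK hs hc hi6) (hXn i hi6) h
      (fun x hx => by rw [hh]; exact th_bracket_X f hf ha b hx)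
      (fun x hx => by
        obtain ⟨y, hy, he⟩ := move_X f hf hK ha hmv hx
        exact ⟨y, hy, by rw [hh]; exact he⟩)
    refine ⟨S', hS', fun g hg => hext g (hnrm g hg) ?_⟩
    rcases hg with ⟨a', ha', b', hga⟩ | ⟨j, hj, hgj⟩
    · left
      rw [hga, hh]
      exact ⟨th_commute f hf ha' b' ha b, fun x hx => th_conj_X f hf ha' b' hx⟩
    · right
      intro x hx
      rcases Nat.lt_trichotomy i j with hij | hij | hij
      · exact bracket_of_mem hc hS (X_le_N hij hgj) (hXn i hi6 x hx)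
      · subst hij
        rw [commutatorElement_eq_one_iff_commute.2 (ab_all f hf hK hs hc hi6 g x hgj hx)]
        exact one_mem _
      · obtain ⟨a', b', ha', hk⟩ := kill i hi6 j hij
        obtain ⟨k, hk'⟩ := hs (th f hf ha' b')
        have hkn : Nrm S k := hnrm k (Or.inl ⟨a', ha', b', hk'⟩)
        rcases hk with ⟨hfx, hmv'⟩ | ⟨hfx, hmv'⟩
        · obtain ⟨y, hy, he⟩ := move_X f hf hK ha' hmv' hx
          obtain ⟨y', rfl⟩ := hs y
          refine bracket_lift hc hS (h := k) (x' := y') ?_ (by rw [hk', he]) hkn (hXn i hi6 x hx) ?_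
          · rw [hk']; exact fix_X f hf ha' hj hfx hgj
          · rw [map_commutatorElement]
            exact N_mono (by omega) (bracket_X hgj hy)
        · obtain ⟨y, hy, he⟩ := move_X f hf hK ha' hmv' hgj
          obtain ⟨y', rfl⟩ := hs y
          refine bracket_lift' hc hS (h := k) (g' := y') ?_ (by rw [hk', he]) hkn (hXn j hj g hgj) ?_
          · rw [hk']; exact fix_X f hf ha' hi6 hfx hx
          · rw [map_commutatorElement]
            exact N_mono (by omega) (bracket_X hy hx)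

include hf hK hs hc in
/-- `U` has no multiplier -/
theorem kerFree_U (hq : 3 ≤ q) : StemBasic.KerFree σ (TwistAutRigid.U1 (twistedD4 K q)) := by
  obtain ⟨S, hS, -⟩ := exists_sec f hf hK hs hc hq 0 (Nat.zero_le _)
  have e : N K q 0 = TwistAutRigid.U1 (twistedD4 K q) := by rw [N, R_zero]; rfl
  exact e ▸ hS.kerFree hc

end Ext

end Cfsg.Agent.D4StemU9
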