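import Mathlib
import Cfsg.Agent.S3279
import Cfsg.Agent.Lib.FourExceptional

/-!
A finite group with one class of involutions in which an involution has centraliser dihedral of
order eight has order 168 or 360 (exceptional characters).
-/

set_option autoImplicit false

namespace Cfsg.Agent.D8CharOrder

open scoped ComplexConjugate
open DihedralGroup
open Cfsg.Agent.S3279 (inv_mul_self_eq inv_eq inv_ne_one order_conj commute_conj order_mul)
open Cfsg.Agent.CharBasicOrth Cfsg.Agent.CharBasicDecomp Cfsg.Agent.CharBasic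

universe u

/-- The centraliser of the involution `φ (r 2)` is the image of the dihedral group of order eight. -/
structure Setup {G : Type u} [Group G] (φ : DihedralGroup 4 →* G) : Prop where
  inj : Function.Injective φ
  cent : ∀ c : G, Commute c (φ (r 2)) → c ∈ φ.range

variable {G : Type u} [Group G] {φ : DihedralGroup 4 →* G}

theorem Setup.map_eq_iff (hs : Setup φ) {a b : DihedralGroup 4} : φ a = φ b ↔ a = b := hs.inj.eq_iff

theorem Setup.order_two_iff (hs : Setup φ) {a : DihedralGroup 4} :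
    orderOf (φ a) = 2 ↔ a * a = 1 ∧ a ≠ 1 := by
  rw [orderOf_injective φ hs.inj a, orderOf_eq_prime_iff, pow_two]

theorem Setup.ot (hs : Setup φ) : orderOf (φ (r 2)) = 2 := hs.order_two_iff.2 (by decide)

theorem Setup.mem_cent_iff (hs : Setup φ) (c : G) :
    c ∈ Subgroup.centralizer ({φ (r 2)} : Set G) ↔ c ∈ φ.range := by
  rw [Subgroup.mem_centralizer_singleton_iff]
  refine ⟨hs.cent c, ?_⟩
  rintro ⟨d, rfl⟩
  rw [← map_mul, ← map_mul, show d * r 2 = r 2 * d by revert d; decide]

theorem Setup.centralizer_eq (hs : Setup φ) :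
    Subgroup.centralizer ({φ (r 2)} : Set G) = φ.range := Subgroup.ext hs.mem_cent_iff

theorem Setup.card_centralizer (hs : Setup φ) :
    Nat.card (Subgroup.centralizer ({φ (r 2)} : Set G)) = 8 := by
  rw [hs.centralizer_eq, ← Nat.card_congr (MonoidHom.ofInjective hs.inj).toEquiv,
    DihedralGroup.nat_card]

section Functions

variable [Fintype G]

open Classical in
/-- The class function on the centraliser, extended by zero. -/
noncomputable def theta (φ : DihedralGroup 4 →* G) (y : G) : ℂ :=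
  4 * (if y = φ (r 2) then 1 else 0) + 2 * (if y = φ (r 1) then 1 else 0) +
    2 * (if y = φ (r 3) then 1 else 0)

/-- The exceptional class function. -/
noncomputable def excFun (φ : DihedralGroup 4 →* G) (y : G) : ℂ :=
  (8 : ℂ)⁻¹ * ∑ h : G, theta φ (h⁻¹ * y * h)

theorem sum_theta (φ : DihedralGroup 4 →* G) (f : G → ℂ) :
    ∑ y, theta φ y * f y = 4 * f (φ (r 2)) + 2 * f (φ (r 1)) + 2 * f (φ (r 3)) := by
  classical
  simp only [theta, add_mul, Finset.sum_add_distrib, mul_assoc, ← Finset.mul_sum]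
  simp

theorem isClassFunction_excFun : Cfsg.IsClassFunction G (excFun φ) := by
  intro y k
  simp only [excFun]
  congr 1
  refine (Equiv.sum_comp (Equiv.mulLeft k⁻¹) (fun h => theta φ (h⁻¹ * y * h))).symm.trans ?_ |>.symm
  exact Finset.sum_congr rfl fun h _ => by simp [mul_assoc]

theorem classInner_excFun {f : G → ℂ} (hf : Cfsg.IsClassFunction G f) :
    Cfsg.classInner (excFun φ) f = (8 : ℂ)⁻¹ *
      (4 * conj (f (φ (r 2))) + 2 * conj (f (φ (r 1))) + 2 * conj (f (φ (r 3)))) := by
  have hsum : ∀ h : G, ∑ y, theta φ (h⁻¹ * y * h) * conj (f y) =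
      ∑ y, theta φ y * conj (f y) := by
    intro h
    rw [← Equiv.sum_comp (MulAut.conj h).toEquiv]
    refine Finset.sum_congr rfl fun y _ => ?_
    have e2 : f ((MulAut.conj h).toEquiv y) = f y := hf y h
    rw [e2]
    simp [mul_assoc]
  have hA : ∑ y, excFun φ y * conj (f y) =
      (8 : ℂ)⁻¹ * ∑ h : G, ∑ y, theta φ (h⁻¹ * y * h) * conj (f y) := by
    rw [Finset.sum_comm (γ := G), Finset.mul_sum]
    exact Finset.sum_congr rfl fun y _ => by rw [excFun, mul_assoc, Finset.sum_mul]
  simp only [Cfsg.classInner]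
  rw [hA, Finset.sum_congr rfl fun h _ => hsum h, Finset.sum_const, nsmul_eq_mul,
    Finset.card_univ, ← Nat.card_eq_fintype_card, sum_theta φ (fun y => conj (f y))]
  have : (Nat.card G : ℂ) ≠ 0 := Nat.cast_ne_zero.2 Nat.card_pos.ne'
  field_simp

theorem excFun_one (hs : Setup φ) : excFun φ 1 = 0 := by
  classical
  have h : ∀ a : DihedralGroup 4, a ≠ 1 → (1 : G) ≠ φ a := fun a ha he =>
    ha (hs.inj (he.symm.trans (map_one φ).symm))
  simp [excFun, theta, h (r 2) (by decide), h (r 1) (by decide), h (r 3) (by decide)]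

theorem theta_values (hs : Setup φ) :
    theta φ (φ (r 2)) = 4 ∧ theta φ (φ (r 1)) = 2 ∧ theta φ (φ (r 3)) = 2 := by
  classical
  have e1 : (r 2 : DihedralGroup 4) ≠ r 1 := by decide
  have e2 : (r 2 : DihedralGroup 4) ≠ r 3 := by decide
  have e3 : (r 1 : DihedralGroup 4) ≠ r 3 := by decide
  refine ⟨?_, ?_, ?_⟩ <;> unfold theta <;>
    simp only [hs.map_eq_iff, e1, e2, e3, e1.symm, e2.symm, e3.symm, if_true, if_false] <;> norm_num

/-- The class function at a special element of the centraliser. -/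
theorem excFun_special (hs : Setup φ) {a : DihedralGroup 4} (ha : a = r 2 ∨ a = r 1 ∨ a = r 3) :
    excFun φ (φ a) = theta φ (φ a) := by
  classical
  have key : ∀ h : G, theta φ (h⁻¹ * φ a * h) =
      if h ∈ φ.range then theta φ (φ a) else 0 := by
    intro h
    split_ifs with hh
    · obtain ⟨d, rfl⟩ := hh
      rw [← map_inv, ← map_mul, ← map_mul]
      obtain ⟨t2, t1, t3⟩ := theta_values hs
      have key3 : ∀ d : DihedralGroup 4, d⁻¹ * r 2 * d = r 2 ∧
          (d⁻¹ * r 1 * d = r 1 ∨ d⁻¹ * r 1 * d = r 3) ∧ (d⁻¹ * r 3 * d = r 1 ∨ d⁻¹ * r 3 * d = r 3) := by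
        decide
      obtain ⟨k2, k1, k3⟩ := key3 d
      rcases ha with rfl | rfl | rfl
      · rw [k2]
      · rcases k1 with k | k <;> rw [k, t1] <;> assumption
      · rcases k3 with k | k <;> rw [k, t3] <;> assumption
    · have hno : ∀ b : DihedralGroup 4, b = r 2 ∨ b = r 1 ∨ b = r 3 → h⁻¹ * φ a * h ≠ φ b := by
        intro b hb he
        apply hh
        refine hs.cent h ?_
        have ho : orderOf a = orderOf b := by
          rw [← orderOf_injective φ hs.inj a, ← orderOf_injective φ hs.inj b, ← he]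
          have := order_conj h⁻¹ (φ a)
          rw [inv_inv] at this
          exact this.symm
        have key2 : ∀ a b : DihedralGroup 4, (a = r 2 ∨ a = r 1 ∨ a = r 3) →
            (b = r 2 ∨ b = r 1 ∨ b = r 3) → (a * a = 1 ↔ b * b = 1) →
            (a = r 2 ∧ b = r 2) ∨ (a * a = r 2 ∧ b * b = r 2) := by decide
        have hiff : a * a = 1 ↔ b * b = 1 := by
          rw [← pow_two, ← pow_two, ← orderOf_dvd_iff_pow_eq_one, ← orderOf_dvd_iff_pow_eq_one, ho]
        have hc : h⁻¹ * φ (r 2) * h = φ (r 2) := by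
          rcases key2 a b ha hb hiff with ⟨rfl, rfl⟩ | ⟨h1, h2⟩
          · exact he
          · have e1 : φ (r 2) = φ a * φ a := by rw [← map_mul, h1]
            have e2 : φ (r 2) = φ b * φ b := by rw [← map_mul, h2]
            rw [← he] at e2
            conv_rhs => rw [e2]
            rw [e1]
            group
        show h * φ (r 2) = φ (r 2) * h
        conv_lhs => rw [← hc]
        group
      simp [theta, hno (r 2) (Or.inl rfl), hno (r 1) (Or.inr (Or.inl rfl)),
        hno (r 3) (Or.inr (Or.inr rfl))]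
  rw [excFun, Finset.sum_congr rfl fun h _ => key h, ← Finset.sum_filter, Finset.sum_const,
    nsmul_eq_mul]
  have hc : (Finset.univ.filter fun h : G => h ∈ φ.range).card = 8 := by
    rw [← Fintype.card_subtype, ← Nat.card_eq_fintype_card]
    have := hs.card_centralizer
    rwa [hs.centralizer_eq] at this
  rw [hc]
  push_cast
  ring

theorem exists_average {K : Type*} [Group K] [Fintype K] (j : K →* G) {χ : G → ℂ}
    (hχ : Cfsg.IsCharacter G χ) : ∃ m : ℕ, ∑ k, χ (j k) = (Fintype.card K : ℂ) * m := by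
  obtain ⟨m, hm⟩ := classInner_isCharacter (isCharacter_comap j hχ) (isCharacter_one (G := K))
  refine ⟨m, ?_⟩
  rw [← hm]
  simp [Cfsg.classInner]

/-- The inner products with irreducible characters are rational integers, and so are the values at
the involution. -/
theorem exists_int_classInner (hs : Setup φ) {χ : G → ℂ} (hχ : Cfsg.IsCharacter G χ) :
    ∃ v k : ℤ, Cfsg.classInner (excFun φ) χ = v ∧ χ (φ (r 2)) = k ∧
      ∃ n : ℕ, χ 1 = n ∧ 2 ∣ k - n := by
  have hcl := isClassFunction_of_isCharacter hχ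
  let j1 : Multiplicative (ZMod 4) →* DihedralGroup 4 :=
    { toFun := fun a => r a.toAdd, map_one' := rfl, map_mul' := by decide }
  let j2 : Multiplicative (ZMod 2) →* DihedralGroup 4 :=
    { toFun := fun a => if a.toAdd = 0 then 1 else sr 0, map_one' := rfl, map_mul' := by decide }
  let j3 : Multiplicative (ZMod 2) →* DihedralGroup 4 :=
    { toFun := fun a => if a.toAdd = 0 then 1 else r 2, map_one' := rfl, map_mul' := by decide }
  let j4 : Multiplicative (ZMod 2) × Multiplicative (ZMod 2) →* DihedralGroup 4 :=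
    { toFun := fun a => j3 a.1 * j2 a.2, map_one' := rfl, map_mul' := by decide }
  obtain ⟨m1, h1⟩ := exists_average (φ.comp j1) hχ
  obtain ⟨m2, h2⟩ := exists_average (φ.comp j2) hχ
  obtain ⟨m3, h3⟩ := exists_average (φ.comp j3) hχ
  obtain ⟨m4, h4⟩ := exists_average (φ.comp j4) hχ
  have hts : χ (φ (r 2 * sr 0)) = χ (φ (sr 0)) := by
    rw [show (r 2 * sr 0 : DihedralGroup 4) = r 1 * sr 0 * (r 1)⁻¹ by decide, map_mul, map_mul,
      map_inv, hcl]
  have e1 : χ (φ (r 0)) + χ (φ (r 1)) + χ (φ (r 2)) + χ (φ (r 3)) = 4 * (m1 : ℂ) := by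
    rw [← h1.trans (by simp : ((Fintype.card (Multiplicative (ZMod 4)) : ℂ) * m1) = 4 * m1)]
    exact (Fin.sum_univ_four (fun i : ZMod 4 => χ (φ (r i)))).symm
  have e2 : χ 1 + χ (φ (sr 0)) = 2 * (m2 : ℂ) := by
    rw [← h2.trans (by simp : ((Fintype.card (Multiplicative (ZMod 2)) : ℂ) * m2) = 2 * m2)]
    rw [← map_one φ]
    exact (Fin.sum_univ_two (fun i : ZMod 2 => χ (φ (j2 (Multiplicative.ofAdd i))))).symm
  have e3 : χ 1 + χ (φ (r 2)) = 2 * (m3 : ℂ) := by
    rw [← h3.trans (by simp : ((Fintype.card (Multiplicative (ZMod 2)) : ℂ) * m3) = 2 * m3)]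
    rw [← map_one φ]
    exact (Fin.sum_univ_two (fun i : ZMod 2 => χ (φ (j3 (Multiplicative.ofAdd i))))).symm
  have e4 : χ 1 + χ (φ (sr 0)) + χ (φ (r 2)) + χ (φ (r 2 * sr 0)) = 4 * (m4 : ℂ) := by
    rw [← h4.trans (by simp : ((Fintype.card (Multiplicative (ZMod 2) × Multiplicative (ZMod 2)) : ℂ) * m4) = 4 * m4)]
    rw [Fintype.sum_prod_type, Finset.sum_eq_add (Multiplicative.ofAdd (0 : ZMod 2)) (Multiplicative.ofAdd 1)
      (by decide) (fun c _ hc => absurd hc (by revert c; decide)) (by simp) (by simp),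
      Finset.sum_eq_add (Multiplicative.ofAdd (0 : ZMod 2)) (Multiplicative.ofAdd 1)
      (by decide) (fun c _ hc => absurd hc (by revert c; decide)) (by simp) (by simp),
      Finset.sum_eq_add (Multiplicative.ofAdd (0 : ZMod 2)) (Multiplicative.ofAdd 1)
      (by decide) (fun c _ hc => absurd hc (by revert c; decide)) (by simp) (by simp)]
    simp only [MonoidHom.comp_apply, show j4 (Multiplicative.ofAdd 0, Multiplicative.ofAdd 0) = 1 by decide,
      show j4 (Multiplicative.ofAdd 0, Multiplicative.ofAdd 1) = sr 0 by decide,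
      show j4 (Multiplicative.ofAdd 1, Multiplicative.ofAdd 0) = r 2 by decide,
      show j4 (Multiplicative.ofAdd 1, Multiplicative.ofAdd 1) = r 2 * sr 0 by decide, map_one]
    ring
  rw [hts] at e4
  obtain ⟨n, hn⟩ := isCharacter_apply_one hχ
  have h0 : φ (r 0) = 1 := map_one φ
  rw [h0] at e1
  refine ⟨(m1 : ℤ) - m2 + m4, 2 * (m3 : ℤ) - n, ?_, ?_, n, hn, ⟨(m3 : ℤ) - n, by ring⟩⟩
  · have hreal : (8 : ℂ)⁻¹ * (4 * χ (φ (r 2)) + 2 * χ (φ (r 1)) + 2 * χ (φ (r 3))) =
        (((m1 : ℤ) - m2 + m4 : ℤ) : ℂ) := by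
      push_cast
      linear_combination (1 / 4 : ℂ) * e1 - (1 / 2 : ℂ) * e2 + (1 / 4 : ℂ) * e4
    have := congrArg conj hreal
    rw [classInner_excFun hcl]
    simp only [map_mul, map_add, map_inv₀, map_ofNat, map_intCast] at this
    exact this
  · push_cast
    linear_combination e3 - hn

theorem sum_pairs_theta (hs : Setup φ) :
    ∑ u ∈ Finset.univ.filter (fun u : G => orderOf u = 2),
      ∑ w ∈ Finset.univ.filter (fun u : G => orderOf u = 2), theta φ (u * w) = 32 := by
  classical
  set I := Finset.univ.filter fun u : G => orderOf u = 2 with hI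
  set R : Finset G := (Finset.univ : Finset (ZMod 4)).image (fun i => φ (sr i)) with hR
  have hiff : ∀ u ∈ I, ∀ a : DihedralGroup 4, a = r 2 ∨ a = r 1 ∨ a = r 3 →
      (orderOf (u⁻¹ * φ a) = 2 ↔ u ∈ R) := by
    intro u hu a ha
    have hu2 : orderOf u = 2 := (Finset.mem_filter.1 hu).2
    constructor
    · intro h
      have h' := inv_eq h
      rw [mul_inv_rev, inv_inv] at h'
      -- u inverts φ a
      have hinv : u * φ a * u⁻¹ = (φ a)⁻¹ := by
        rw [inv_eq hu2] at h' ⊢
        calc u * φ a * u = (φ a)⁻¹ * u * u := by rw [h']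
          _ = (φ a)⁻¹ := by rw [mul_assoc, inv_mul_self_eq hu2, mul_one]
      have hcom : Commute u (φ (r 2)) := by
        refine mul_inv_eq_iff_eq_mul.1 ?_
        rcases ha with rfl | rfl | rfl
        · rw [hinv, ← map_inv]; rfl
        · rw [show (r 2 : DihedralGroup 4) = r 1 * r 1 by decide, map_mul,
            show u * (φ (r 1) * φ (r 1)) * u⁻¹ = (u * φ (r 1) * u⁻¹) * (u * φ (r 1) * u⁻¹) by group,
            hinv, ← map_inv, ← map_mul, ← map_mul]
          rfl
        · rw [show (r 2 : DihedralGroup 4) = r 3 * r 3 by decide, map_mul,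
            show u * (φ (r 3) * φ (r 3)) * u⁻¹ = (u * φ (r 3) * u⁻¹) * (u * φ (r 3) * u⁻¹) by group,
            hinv, ← map_inv, ← map_mul, ← map_mul]
          rfl
      obtain ⟨d, rfl⟩ := hs.cent u hcom
      rw [← map_inv, ← map_mul, hs.order_two_iff] at h
      rw [hs.order_two_iff] at hu2
      have key : ∀ d a : DihedralGroup 4, (a = r 2 ∨ a = r 1 ∨ a = r 3) → d * d = 1 ∧ d ≠ 1 →
          d⁻¹ * a * (d⁻¹ * a) = 1 ∧ d⁻¹ * a ≠ 1 → ∃ i, d = sr i := by decide
      obtain ⟨i, rfl⟩ := key d a ha hu2 h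
      exact Finset.mem_image.2 ⟨i, Finset.mem_univ _, rfl⟩
    · intro h
      obtain ⟨i, -, rfl⟩ := Finset.mem_image.1 h
      rw [← map_inv, ← map_mul, hs.order_two_iff]
      have key : ∀ (a : DihedralGroup 4) (i : ZMod 4), (a = r 2 ∨ a = r 1 ∨ a = r 3) →
          (sr i)⁻¹ * a * ((sr i)⁻¹ * a) = 1 ∧ (sr i)⁻¹ * a ≠ 1 := by decide
      exact key a i ha
  have hinner : ∀ u ∈ I, ∑ w ∈ I, theta φ (u * w) = if u ∈ R then 8 else 0 := by
    intro u hu
    calc ∑ w ∈ I, theta φ (u * w)
        = ∑ w, theta φ (u * w) * (if orderOf w = 2 then 1 else 0) := by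
          rw [hI, Finset.sum_filter]
          exact Finset.sum_congr rfl fun w _ => by split_ifs <;> simp
      _ = ∑ y, theta φ y * (if orderOf (u⁻¹ * y) = 2 then 1 else 0) := by
          refine (Equiv.sum_comp (Equiv.mulLeft u⁻¹)
            (fun w => theta φ (u * w) * (if orderOf w = 2 then 1 else 0))).symm.trans ?_
          refine Finset.sum_congr rfl fun y _ => ?_
          show theta φ (u * (u⁻¹ * y)) * (if orderOf (u⁻¹ * y) = 2 then 1 else 0) = _
          rw [mul_inv_cancel_left]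
      _ = _ := by
          rw [sum_theta φ (fun y => if orderOf (u⁻¹ * y) = 2 then (1 : ℂ) else 0)]
          simp only [hiff u hu (r 2) (Or.inl rfl), hiff u hu (r 1) (Or.inr (Or.inl rfl)),
            hiff u hu (r 3) (Or.inr (Or.inr rfl))]
          split_ifs <;> norm_num
  rw [Finset.sum_congr rfl hinner, ← Finset.sum_filter, Finset.sum_const, nsmul_eq_mul]
  have hRI : I.filter (fun u => u ∈ R) = R := by
    ext u
    simp only [Finset.mem_filter, hI, Finset.mem_univ, true_and]
    refine ⟨fun h => h.2, fun h => ⟨?_, h⟩⟩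
    obtain ⟨i, -, rfl⟩ := Finset.mem_image.1 h
    have key : ∀ i : ZMod 4, (sr i : DihedralGroup 4) * sr i = 1 ∧ sr i ≠ (1 : DihedralGroup 4) := by decide
    exact hs.order_two_iff.2 (key i)
  rw [hRI, hR, Finset.card_image_of_injective _ (fun i j h => by simpa using hs.inj h),
    Finset.card_univ, ZMod.card]
  norm_num

theorem sum_pairs_excFun (hs : Setup φ) :
    ∑ u ∈ Finset.univ.filter (fun u : G => orderOf u = 2),
      ∑ w ∈ Finset.univ.filter (fun u : G => orderOf u = 2), excFun φ (u * w) =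
      4 * (Nat.card G : ℂ) := by
  set I := Finset.univ.filter fun u : G => orderOf u = 2 with hI
  have hconj : ∀ h : G, ∑ u ∈ I, ∑ w ∈ I, theta φ (h⁻¹ * (u * w) * h) = 32 := by
    intro h
    rw [← sum_pairs_theta hs]
    refine Finset.sum_equiv (MulAut.conj h⁻¹).toEquiv ?_ fun u _ => ?_
    · intro u; simp only [hI, Finset.mem_filter, Finset.mem_univ, true_and]
      show _ ↔ orderOf (h⁻¹ * u * h⁻¹⁻¹) = 2
      rw [order_conj]
    refine Finset.sum_equiv (MulAut.conj h⁻¹).toEquiv ?_ fun w _ => ?_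
    · intro u; simp only [hI, Finset.mem_filter, Finset.mem_univ, true_and]
      show _ ↔ orderOf (h⁻¹ * u * h⁻¹⁻¹) = 2
      rw [order_conj]
    · simp [mul_assoc]
  simp only [excFun, ← Finset.mul_sum]
  rw [Finset.sum_congr rfl fun u _ => Finset.sum_comm, Finset.sum_comm,
    Finset.sum_congr rfl fun h _ => hconj h, Finset.sum_const, nsmul_eq_mul, Finset.card_univ,
    ← Nat.card_eq_fintype_card]
  ring

end Functions

theorem solve_minus (N a : ℕ) (hN : N % 16 = 8) (ha : 0 < a) (hodd : a % 2 = 1)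
    (h : (N : ℤ) * ((a : ℤ) - 1) ^ 2 = 256 * a * (a + 1)) : N = 360 := by
  obtain ⟨m, rfl⟩ : ∃ m, a = m + 1 := ⟨a - 1, by omega⟩
  have h' : N * m ^ 2 = 256 * (m + 1) * (m + 2) := by
    push_cast at h
    zify
    linear_combination h
  have hd : m ∣ 512 := by
    have h1 : m ∣ 256 * (m + 1) * (m + 2) := h' ▸ ⟨N * m, by ring⟩
    have e : 256 * (m + 1) * (m + 2) = 512 + m * (256 * m + 768) := by ring
    rw [e] at h1
    exact (Nat.dvd_add_left (dvd_mul_right _ _)).1 h1
  have key : ∀ m ∈ Nat.divisors 512, m % 2 = 0 →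
      256 * (m + 1) * (m + 2) % m ^ 2 ≠ 0 ∨
        256 * (m + 1) * (m + 2) / m ^ 2 % 16 ≠ 8 ∨ 256 * (m + 1) * (m + 2) / m ^ 2 = 360 := by
    decide +kernel
  rcases Nat.eq_zero_or_pos m with rfl | hm
  · simp at h'
  have := key m (Nat.mem_divisors.2 ⟨hd, by norm_num⟩) (by omega)
  rw [← h', Nat.mul_mod_left, Nat.mul_div_cancel _ (by positivity)] at this
  rcases this with h1 | h1 | h1
  · exact absurd rfl h1
  · exact absurd hN h1
  · exact h1

theorem solve_plus (N a : ℕ) (hN : N % 16 = 8) (heven : a % 2 = 0) (ha : 0 < a)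
    (h : (N : ℤ) * ((a : ℤ) + 2) ^ 2 = 256 * a * (a + 1)) : N = 168 := by
  have h' : N * (a + 2) ^ 2 = 256 * a * (a + 1) := by exact_mod_cast h
  have hd : a + 2 ∣ 512 := by
    have h1 : a + 2 ∣ 256 * a * (a + 1) := h' ▸ ⟨N * (a + 2), by ring⟩
    have e : 256 * a * (a + 1) + 3 * 256 * (a + 2) = 512 + 256 * (a + 2) * (a + 2) := by ring
    have h2 : a + 2 ∣ 512 + 256 * (a + 2) * (a + 2) := e ▸ dvd_add h1 (dvd_mul_left _ _)
    exact (Nat.dvd_add_left (dvd_mul_left _ _)).1 h2
  have key : ∀ m ∈ Nat.divisors 512, 4 ≤ m →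
      256 * (m - 2) * (m - 1) % m ^ 2 ≠ 0 ∨
        256 * (m - 2) * (m - 1) / m ^ 2 % 16 ≠ 8 ∨ 256 * (m - 2) * (m - 1) / m ^ 2 = 168 := by
    decide +kernel
  have := key (a + 2) (Nat.mem_divisors.2 ⟨hd, by norm_num⟩) (by omega)
  rw [show a + 2 - 2 = a by omega, show a + 2 - 1 = a + 1 by omega, ← h', Nat.mul_mod_left,
    Nat.mul_div_cancel _ (by positivity)] at this
  rcases this with h1 | h1 | h1
  · exact absurd rfl h1
  · exact absurd hN h1
  · exact h1

/-- The order of the group. -/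
theorem card_eq [Finite G] (hs : Setup φ)
    (hconj : ∀ u v : G, orderOf u = 2 → orderOf v = 2 → IsConj u v)
    (hN : Nat.card G % 16 = 8) : Nat.card G = 168 ∨ Nat.card G = 360 := by
  classical
  haveI := Fintype.ofFinite G
  set o := trivIrr G
  set t := φ (r 2) with ht
  choose v k hv hk hpar using fun χ : Cfsg.IrrCharacter G =>
    exists_int_classInner hs (isCharacter_of_isIrrCharacter χ.2)
  choose n hn hdvd using hpar
  have hcl := isClassFunction_excFun (φ := φ)
  have hF : excFun φ = ∑ χ, (v χ : ℂ) • (χ : G → ℂ) := by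
    conv_lhs => rw [eq_sum_classInner hcl]
    exact Finset.sum_congr rfl fun χ _ => by rw [hv]
  have hthe := theta_values hs
  have hvo : v o = 1 := by
    have h := hv o
    rw [classInner_excFun (isClassFunction_of_isCharacter (isCharacter_of_isIrrCharacter o.2))] at h
    have h1 : ∀ y : G, (o : G → ℂ) y = 1 := fun y => rfl
    rw [h1, h1, h1, map_one] at h
    have : ((v o : ℤ) : ℂ) = ((1 : ℤ) : ℂ) := by rw [← h]; norm_num
    exact Int.cast_injective this
  have hv3 : ∑ χ, v χ * v χ = 3 := by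
    have h := classInner_eq_sum (φ := excFun φ) hcl
    rw [classInner_excFun hcl, excFun_special hs (Or.inl rfl), excFun_special hs (Or.inr (Or.inl rfl)),
      excFun_special hs (Or.inr (Or.inr rfl)), hthe.1, hthe.2.1, hthe.2.2] at h
    simp only [hv, map_ofNat, map_intCast] at h
    have : ((∑ χ, v χ * v χ : ℤ) : ℂ) = ((3 : ℤ) : ℂ) := by
      push_cast; rw [← h]; norm_num
    exact Int.cast_injective this
  set V := Finset.univ.filter fun χ : Cfsg.IrrCharacter G => χ ≠ o ∧ v χ ≠ 0 with hV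
  have hsplit0 : ∀ {M : Type} [AddCommMonoid M] (f : Cfsg.IrrCharacter G → M),
      (∀ χ, v χ = 0 → f χ = 0) → ∑ χ, f χ = f o + ∑ χ ∈ V, f χ := by
    intro M _ f hf
    rw [← Finset.add_sum_erase _ _ (Finset.mem_univ o)]
    congr 1
    refine (Finset.sum_subset (fun i hi => Finset.mem_erase.2
      ⟨(Finset.mem_filter.1 hi).2.1, Finset.mem_univ _⟩) fun i hi hiV => hf i ?_).symm
    by_contra hne
    exact hiV (Finset.mem_filter.2 ⟨Finset.mem_univ _, (Finset.mem_erase.1 hi).1, hne⟩)
  have hsum2 : ∑ χ ∈ V, v χ * v χ = 2 := by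
    have h := hsplit0 (fun χ => v χ * v χ) (fun χ h => by simp [h])
    rw [hv3, hvo] at h
    omega
  have hone : ∀ χ ∈ V, v χ = 1 ∨ v χ = -1 := by
    intro χ hχ
    have hne := (Finset.mem_filter.1 hχ).2.2
    have hle : v χ * v χ ≤ 2 := hsum2 ▸ Finset.single_le_sum
      (f := fun χ => v χ * v χ) (fun i _ => mul_self_nonneg (v i)) hχ
    have : -1 ≤ v χ ∧ v χ ≤ 1 := by constructor <;> nlinarith
    omega
  have hV2 : V.card = 2 := by
    have h := Finset.sum_congr rfl (fun χ hχ =>
      (by rcases hone χ hχ with h | h <;> rw [h] <;> rfl : v χ * v χ = 1)) (s₁ := V)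
    rw [hsum2] at h
    simp at h
    omega
  obtain ⟨P, Q, hPQ, hVeq⟩ := Finset.card_eq_two.1 hV2
  have hPV : P ∈ V := by simp [hVeq]
  have hQV : Q ∈ V := by simp [hVeq]
  have hsplit : ∀ f : Cfsg.IrrCharacter G → ℂ, (∀ χ, v χ = 0 → f χ = 0) →
      ∑ χ, f χ = f o + (f P + f Q) := by
    intro f hf
    rw [hsplit0 f hf, hVeq, Finset.sum_pair hPQ]
  have hzero := congrFun hF 1
  rw [excFun_one hs, Finset.sum_apply, hsplit _ (fun χ h => by simp [h])] at hzero
  have hval := congrFun hF t
  rw [ht, excFun_special hs (Or.inl rfl), hthe.1, Finset.sum_apply,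
    hsplit _ (fun χ h => by simp [h])] at hval
  simp only [Pi.smul_apply, smul_eq_mul, hn, hk] at hzero hval
  have hno : n o = 1 := by
    have h : ((n o : ℕ) : ℂ) = ((1 : ℕ) : ℂ) := by rw [← hn o]; simp [o, trivIrr]
    exact Nat.cast_injective h
  have hko : k o = 1 := by
    have h : ((k o : ℤ) : ℂ) = ((1 : ℤ) : ℂ) := by rw [← hk o]; simp [o, trivIrr]
    exact Int.cast_injective h
  rw [hvo, hno] at hzero
  rw [hvo, hko] at hval
  have hz : 1 + (v P * n P + v Q * n Q) = 0 := by
    have : ((1 + (v P * n P + v Q * n Q) : ℤ) : ℂ) = ((0 : ℤ) : ℂ) := by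
      push_cast at hzero ⊢; linear_combination -hzero
    exact Int.cast_injective this
  have hv4 : 1 + (v P * k P + v Q * k Q) = 4 := by
    have : ((1 + (v P * k P + v Q * k Q) : ℤ) : ℂ) = ((4 : ℤ) : ℂ) := by
      push_cast at hval ⊢; linear_combination -hval
    exact Int.cast_injective this
  -- column orthogonality
  have hcol : k P * k P + k Q * k Q ≤ 7 := by
    have h := sum_irr_mul_conj t t
    rw [if_pos (IsConj.refl t), ht, hs.card_centralizer] at h
    simp only [hk, map_intCast] at h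
    have h8 : ∑ χ, k χ * k χ = 8 := by
      have : ((∑ χ, k χ * k χ : ℤ) : ℂ) = ((8 : ℤ) : ℂ) := by push_cast at h ⊢; exact h
      exact Int.cast_injective this
    have hle : ∑ χ ∈ insert o V, k χ * k χ ≤ ∑ χ, k χ * k χ :=
      Finset.sum_le_sum_of_subset_of_nonneg (Finset.subset_univ _) fun i _ _ => mul_self_nonneg _
    rw [Finset.sum_insert (by simp [hV]), hVeq, Finset.sum_pair hPQ, hko, h8] at hle
    omega
  set I := Finset.univ.filter fun u : G => orderOf u = 2 with hI
  have hIN : 8 * I.card = Nat.card G := by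
    rw [← card_conj_mul_card_centralizer t, ht, hs.card_centralizer, mul_comm]
    congr 1
    rw [Nat.card_eq_fintype_card, Fintype.card_subtype, hI]
    congr 1
    ext w
    simp only [Finset.mem_filter, Finset.mem_univ, true_and]
    exact ⟨fun h => hconj _ w hs.ot h, fun h => Cfsg.Agent.S3279.orderOf_eq_of_isConj hs.ot h⟩
  have hmain : (4 : ℂ) * Nat.card G = ∑ χ, (v χ : ℂ) *
      (((I.card : ℂ) * (χ : G → ℂ) t) ^ 2 / (χ : G → ℂ) 1) := by
    rw [← sum_pairs_excFun hs]
    simp only [hF, Finset.sum_apply, Pi.smul_apply, smul_eq_mul]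
    rw [Finset.sum_congr rfl fun u _ => Finset.sum_comm, Finset.sum_comm]
    refine Finset.sum_congr rfl fun χ _ => ?_
    simp only [← Finset.mul_sum]
    rw [Cfsg.Agent.FourExceptional.sum_involution_pairs hconj hs.ot χ]
  rw [hsplit _ (fun χ h => by simp [h]), hvo] at hmain
  simp only [ht, hn, hk, hno, hko] at hmain
  have hpos : ∀ χ, 0 < n χ := fun χ => Nat.pos_of_ne_zero fun h0 =>
    isIrrCharacter_apply_one_ne_zero χ.2 (by rw [hn, h0, Nat.cast_zero])
  have hP0 : (n P : ℂ) ≠ 0 := Nat.cast_ne_zero.2 (hpos P).ne'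
  have hQ0 : (n Q : ℂ) ≠ 0 := Nat.cast_ne_zero.2 (hpos Q).ne'
  have heq : (Nat.card G : ℤ) * ((n P : ℤ) * n Q + v P * k P ^ 2 * n Q + v Q * k Q ^ 2 * n P) =
      256 * n P * n Q := by
    have hI0 : (I.card : ℂ) ≠ 0 := by
      have := Nat.card_pos (α := G)
      exact Nat.cast_ne_zero.2 (by omega)
    have hG : (Nat.card G : ℂ) = 8 * I.card := by rw [← hIN]; push_cast; ring
    rw [hG] at hmain
    have : (((Nat.card G : ℤ) * ((n P : ℤ) * n Q + v P * k P ^ 2 * n Q + v Q * k Q ^ 2 * n P) : ℤ) : ℂ) =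
        ((256 * n P * n Q : ℤ) : ℂ) := by
      push_cast
      rw [hG]
      field_simp at hmain
      push_cast at hmain
      linear_combination -8 * hmain
    exact Int.cast_injective this
  -- the cases
  have main : ∀ A B : ℕ, ∀ c d : ℤ, 0 < A → 2 ∣ c - A → B = A + 1 → c - d = 3 →
      c * c + d * d ≤ 7 →
      (Nat.card G : ℤ) * ((A : ℤ) * B + c ^ 2 * B - d ^ 2 * A) = 256 * A * B →
      Nat.card G = 168 ∨ Nat.card G = 360 := by
    intro A B c d hA hdvd hB hcd hle he
    subst hB
    have h1 : -2 ≤ c ∧ c ≤ 2 := by constructor <;> nlinarith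
    have h2 : d = c - 3 := by omega
    subst h2
    push_cast at he
    obtain rfl | rfl : c = 1 ∨ c = 2 := by
      obtain ⟨h1, h1'⟩ := h1
      interval_cases c <;> omega
    · refine Or.inr (solve_minus _ A hN hA (by omega) ?_)
      linear_combination he
    · refine Or.inl (solve_plus _ A hN (by omega) hA ?_)
      linear_combination he
  rcases hone P hPV with hP | hP <;> rcases hone Q hQV with hQ | hQ <;>
    rw [hP, hQ] at hz hv4 heq
  · omega
  · refine main (n P) (n Q) (k P) (k Q) (hpos P) (hdvd P) (by omega) (by omega) hcol ?_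
    linear_combination heq
  · refine main (n Q) (n P) (k Q) (k P) (hpos Q) (hdvd Q) (by omega) (by omega) (by omega) ?_
    linear_combination heq
  · have := hpos P; have := hpos Q; omega

end Cfsg.Agent.D8CharOrder
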