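import Mathlib
import Cfsg.Agent.Lib.D8CharOrder
import Cfsg.Agent.Lib.KleinSelfCent
import Cfsg.Agent.Lib.TransferThompson
import Cfsg.Agent.Lib.SmallGroupS4
import Cfsg.Prelude.Def_Solvable

/-!
Finite groups in which an involution has centraliser dihedral of order eight.
-/

set_option autoImplicit false

namespace Cfsg.Agent.D8Centralizer

open DihedralGroup
open Cfsg.Agent.S3279 (inv_mul_self_eq inv_eq inv_ne_one order_conj commute_conj order_mul)
open Cfsg.Agent.D8CharOrder (Setup)

variable {G : Type*} [Group G] {φ : DihedralGroup 4 →* G}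

/-- The set-up from an isomorphism of the centraliser with the dihedral group of order eight. -/
theorem exists_setup {t : G} (ht : orderOf t = 2)
    (e : Subgroup.centralizer ({t} : Set G) ≃* DihedralGroup 4) :
    ∃ φ : DihedralGroup 4 →* G, Setup φ ∧ φ (r 2) = t := by
  set C := Subgroup.centralizer ({t} : Set G)
  let t' : C := ⟨t, Subgroup.mem_centralizer_singleton_iff.2 rfl⟩
  have key : ∀ d : DihedralGroup 4, d * d = 1 → d ≠ 1 → (∀ y, d * y = y * d) → d = r 2 := by decide
  have hd : e t' = r 2 := by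
    refine key _ ?_ ?_ ?_
    · rw [← map_mul, show t' * t' = 1 from Subtype.ext (inv_mul_self_eq ht), map_one]
    · intro h
      exact inv_ne_one ht (congrArg Subtype.val (e.map_eq_one_iff.1 h))
    · intro y
      obtain ⟨c, rfl⟩ := e.surjective y
      rw [← map_mul, ← map_mul]
      exact congrArg e (Subtype.ext (Subgroup.mem_centralizer_singleton_iff.1 c.2).symm)
  have hφt : (C.subtype.comp e.symm.toMonoidHom) (r 2) = t := by
    rw [← hd]
    show ((e.symm (e t') : C) : G) = t
    rw [e.symm_apply_apply]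
  refine ⟨C.subtype.comp e.symm.toMonoidHom, ⟨C.subtype_injective.comp e.symm.injective, ?_⟩, hφt⟩
  intro c hc
  rw [hφt] at hc
  exact ⟨e ⟨c, Subgroup.mem_centralizer_singleton_iff.2 hc⟩, by simp⟩

theorem isPGroup_range (hs : Setup φ) : IsPGroup 2 φ.range := by
  refine IsPGroup.of_card (n := 3) ?_
  rw [← Nat.card_congr (MonoidHom.ofInjective hs.inj).toEquiv, DihedralGroup.nat_card]
  rfl

theorem exists_sylow [Finite G] (hs : Setup φ) : ∃ T : Sylow 2 G, (T : Subgroup G) = φ.range := by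
  haveI : Fact (Nat.Prime 2) := ⟨Nat.prime_two⟩
  obtain ⟨T, hT⟩ := (isPGroup_range hs).exists_le_sylow
  refine ⟨T, le_antisymm ?_ hT⟩
  haveI : Nontrivial (T : Subgroup G) := ⟨⟨⟨φ (r 2), hT ⟨_, rfl⟩⟩, 1,
    fun h => inv_ne_one hs.ot (congrArg Subtype.val h)⟩⟩
  have hZ := T.isPGroup'.center_nontrivial
  obtain ⟨⟨z, hz⟩, hz1⟩ := exists_ne (1 : Subgroup.center (T : Subgroup G))
  have hcomm : ∀ y ∈ (T : Subgroup G), Commute (z : G) y := fun y hy =>
    (congrArg Subtype.val (Subgroup.mem_center_iff.1 hz ⟨y, hy⟩)).symm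
  obtain ⟨d, hd⟩ := hs.cent (z : G) (hcomm _ (hT ⟨_, rfl⟩))
  have key : ∀ d : DihedralGroup 4, d * r 1 = r 1 * d → d * sr 0 = sr 0 * d → d = 1 ∨ d = r 2 := by
    decide
  rcases key d (hs.inj (by simp only [map_mul, hd]; exact (hcomm _ (hT ⟨_, rfl⟩)).eq))
      (hs.inj (by simp only [map_mul, hd]; exact (hcomm _ (hT ⟨_, rfl⟩)).eq)) with rfl | rfl
  · exact absurd (Subtype.ext (Subtype.ext (hd.symm.trans (map_one φ))) : (⟨z, hz⟩ : Subgroup.center (T : Subgroup G)) = 1) hz1
  · intro y hy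
    exact hs.cent y (hd ▸ (hcomm y hy).symm)

theorem card_mod [Finite G] (hs : Setup φ) : Nat.card G % 16 = 8 := by
  haveI : Fact (Nat.Prime 2) := ⟨Nat.prime_two⟩
  obtain ⟨T, hT⟩ := exists_sylow hs
  have h := (T : Subgroup G).card_mul_index
  have h8 : Nat.card (T : Subgroup G) = 8 := by
    rw [hT, ← hs.centralizer_eq, hs.card_centralizer]
  have hodd := T.not_dvd_index
  rw [h8] at h
  omega

theorem conj_rep [Finite G] (hs : Setup φ) {y : G} (hy : orderOf y = 2) :
    ∃ d : DihedralGroup 4, (d = r 2 ∨ ∃ i, d = sr i) ∧ IsConj y (φ d) := by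
  haveI : Fact (Nat.Prime 2) := ⟨Nat.prime_two⟩
  obtain ⟨T, hT⟩ := exists_sylow hs
  obtain ⟨P, hP⟩ := (IsPGroup.of_card (n := 1) (by rw [Nat.card_zpowers, hy]; norm_num) :
    IsPGroup 2 (Subgroup.zpowers y)).exists_le_sylow
  obtain ⟨g, hg⟩ := MulAction.exists_smul_eq G P T
  have hmem : g * y * g⁻¹ ∈ (T : Subgroup G) := by
    rw [← hg, Sylow.coe_subgroup_smul]
    exact ⟨y, hP (Subgroup.mem_zpowers y), rfl⟩
  rw [hT] at hmem
  obtain ⟨d, hd⟩ := hmem
  have key : ∀ d : DihedralGroup 4, d * d = 1 ∧ d ≠ 1 → d = r 2 ∨ ∃ i, d = sr i := by decide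
  exact ⟨d, key d (hs.order_two_iff.1 (by rw [hd, order_conj, hy])), isConj_iff.2 ⟨g, hd.symm⟩⟩

theorem isConj_sr (φ : DihedralGroup 4 →* G) (i : ZMod 4) : IsConj (φ (sr i)) (φ (sr (i + 2))) := by
  refine isConj_iff.2 ⟨φ (r 1), ?_⟩
  rw [← map_inv, ← map_mul, ← map_mul]
  congr 1
  revert i
  decide

theorem allConj_of [Finite G] (hs : Setup φ) (h : ∀ i, IsConj (φ (sr i)) (φ (r 2))) :
    ∀ u v : G, orderOf u = 2 → orderOf v = 2 → IsConj u v := by
  intro u v hu hv
  have h' : ∀ y : G, orderOf y = 2 → IsConj y (φ (r 2)) := fun y hy => by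
    obtain ⟨d, (rfl | ⟨i, rfl⟩), hd⟩ := conj_rep hs hy
    exacts [hd, hd.trans (h i)]
  exact (h' u hu).trans (h' v hv).symm

/-- The four-subgroup through `sr j`. -/
def fourSub (j : ZMod 4) : Subgroup (DihedralGroup 4) where
  carrier := {d | d = 1 ∨ d = r 2 ∨ d = sr j ∨ d = sr (j + 2)}
  one_mem' := Or.inl rfl
  mul_mem' {a b} ha hb := by
    have key : ∀ j : ZMod 4, ∀ a b : DihedralGroup 4,
        (a = 1 ∨ a = r 2 ∨ a = sr j ∨ a = sr (j + 2)) → (b = 1 ∨ b = r 2 ∨ b = sr j ∨ b = sr (j + 2)) →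
        (a * b = 1 ∨ a * b = r 2 ∨ a * b = sr j ∨ a * b = sr (j + 2)) := by decide
    exact key j a b ha hb
  inv_mem' {a} ha := by
    have key : ∀ j : ZMod 4, ∀ a : DihedralGroup 4, (a = 1 ∨ a = r 2 ∨ a = sr j ∨ a = sr (j + 2)) →
        (a⁻¹ = 1 ∨ a⁻¹ = r 2 ∨ a⁻¹ = sr j ∨ a⁻¹ = sr (j + 2)) := by decide
    exact key j a ha

theorem mem_fourSub {j : ZMod 4} {d : DihedralGroup 4} :
    d ∈ fourSub j ↔ d = 1 ∨ d = r 2 ∨ d = sr j ∨ d = sr (j + 2) := Iff.rfl

theorem card_fourSub (j : ZMod 4) : Nat.card (fourSub j) = 4 := by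
  rw [← SetLike.coe_sort_coe, Nat.card_coe_set_eq]
  have e : (fourSub j : Set (DihedralGroup 4)) = ({1, r 2, sr j, sr (j + 2)} : Finset _) := by
    ext d; simp [mem_fourSub]
  rw [e, Set.ncard_coe_finset]
  exact (by decide : ∀ j : ZMod 4, ({1, r 2, sr j, sr (j + 2)} : Finset (DihedralGroup 4)).card = 4) j

theorem card_rot : Nat.card (Subgroup.zpowers (r 1 : DihedralGroup 4)) = 4 := by
  rw [Nat.card_zpowers, orderOf_r_one]

theorem rot_involution {d : DihedralGroup 4} (hd : d ∈ Subgroup.zpowers (r 1 : DihedralGroup 4))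
    (h2 : d * d = 1) (h1 : d ≠ 1) : d = r 2 := by
  obtain ⟨k, rfl⟩ := hd
  have key : ∀ i : ZMod 4, (r i : DihedralGroup 4) * r i = 1 → (r i : DihedralGroup 4) ≠ 1 → i = 2 := by
    decide
  simp only [r_one_zpow] at h2 h1 ⊢
  rw [key _ h2 h1]

theorem exists_index_two [Finite G] (hs : Setup φ) {i : ZMod 4} (Qd : Subgroup (DihedralGroup 4))
    (hQd : Nat.card Qd = 4)
    (hQ : ∀ d ∈ Qd, d * d = 1 → d ≠ 1 → ¬ IsConj (φ (sr i)) (φ d)) :
    ∃ M : Subgroup G, M.Normal ∧ M.index = 2 ∧ φ (sr i) ∉ M := by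
  haveI : Fact (Nat.Prime 2) := ⟨Nat.prime_two⟩
  obtain ⟨T, hT⟩ := exists_sylow hs
  have hu : orderOf (φ (sr i)) = 2 := hs.order_two_iff.2
    ((by decide : ∀ i : ZMod 4, (sr i : DihedralGroup 4) * sr i = 1 ∧ sr i ≠ (1 : DihedralGroup 4)) i)
  refine TransferThompson.thompson_transfer T (Qd.map φ)
    (hT ▸ Subgroup.map_le_range φ Qd) ?_ hu (hT ▸ ⟨_, rfl⟩) ?_
  · rw [hT, MonoidHom.range_eq_map, Subgroup.relIndex_map_map_of_injective _ _ hs.inj,
      Subgroup.relIndex_top_right]
    have h := Qd.card_mul_index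
    rw [hQd, DihedralGroup.nat_card] at h
    omega
  · intro g hg
    obtain ⟨d, hd, hde⟩ := hg
    obtain ⟨h2, h1⟩ := hs.order_two_iff.1 (by rw [hde, order_conj, hu] : orderOf (φ d) = 2)
    exact hQ d hd h2 h1 (isConj_iff.2 ⟨g, hde.symm⟩)

theorem sr_cases (i j : ZMod 4) : j = i ∨ j = i + 2 ∨ j = i + 1 ∨ j = i + 1 + 2 := by
  revert i j; decide

/-- Without a subgroup of index two all involutions are conjugate. -/
theorem allConj_of_no_index_two [Finite G] (hs : Setup φ) (hG : ∀ H : Subgroup G, H.index ≠ 2) :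
    ∀ u v : G, orderOf u = 2 → orderOf v = 2 → IsConj u v := by
  refine allConj_of hs fun i => ?_
  by_contra hi
  by_cases hj : IsConj (φ (sr (i + 1))) (φ (r 2))
  · obtain ⟨M, -, hM, -⟩ := exists_index_two hs (i := i) (fourSub (i + 1)) (card_fourSub _) (by
      intro d hd h2 h1 hc
      rcases mem_fourSub.1 hd with rfl | rfl | rfl | rfl
      · exact h1 rfl
      · exact hi hc
      · exact hi (hc.trans hj)
      · exact hi (hc.trans ((isConj_sr φ _).symm.trans hj)))
    exact hG M hM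
  · obtain ⟨M, -, hM, -⟩ := exists_index_two hs (i := i) _ card_rot (fun d hd h2 h1 hc =>
      hi (rot_involution hd h2 h1 ▸ hc))
    exact hG M hM

theorem fixed_point_free [Finite G] (hs : Setup φ) (K : Subgroup G) (hK : Odd (Nat.card K)) {y : G}
    (hy : IsConj y (φ (r 2))) : ∀ k ∈ K, Commute y k → k = 1 := by
  intro k hk hyk
  obtain ⟨g, hg⟩ := isConj_iff.1 hy
  obtain ⟨d, hd⟩ := hs.cent _ (hg ▸ (commute_conj g hyk).symm)
  have h1 : orderOf k ∣ Nat.card K := by
    have := orderOf_dvd_natCard (⟨k, hk⟩ : K)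
    rwa [Subgroup.orderOf_mk] at this
  have h8 : orderOf k ∣ 2 ^ 3 := by
    rw [← order_conj g k, ← hd, orderOf_injective φ hs.inj]
    have := orderOf_dvd_natCard d
    rwa [DihedralGroup.nat_card] at this
  exact orderOf_eq_one_iff.1 (Nat.eq_one_of_dvd_coprimes ((Nat.coprime_two_left.2 hK).pow_left 3) h8 h1)

/-- With one class of involutions the group is simple. -/
theorem isSimpleGroup_of_allConj [Finite G] (hs : Setup φ)
    (hconj : ∀ u v : G, orderOf u = 2 → orderOf v = 2 → IsConj u v) : IsSimpleGroup G := by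
  haveI : Fact (Nat.Prime 2) := ⟨Nat.prime_two⟩
  haveI : Nontrivial G := ⟨⟨φ (r 2), 1, inv_ne_one hs.ot⟩⟩
  obtain ⟨T, hT⟩ := exists_sylow hs
  refine ⟨fun K hKn => ?_⟩
  haveI := hKn
  by_cases hK : Odd (Nat.card K)
  · left
    have hsr : orderOf (φ (sr 0)) = 2 := hs.order_two_iff.2 (by decide)
    refine KleinSelfCent.eq_bot_of_four K hK (inv_mul_self_eq hs.ot) (inv_mul_self_eq hsr) ?_ ?_
    · show φ (r 2) * φ (sr 0) = φ (sr 0) * φ (r 2)
      rw [← map_mul, ← map_mul]
      rfl
    · intro u hu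
      refine fixed_point_free hs K hK (hconj u _ ?_ hs.ot)
      simp only [Set.mem_insert_iff, Set.mem_singleton_iff] at hu
      rcases hu with rfl | rfl | rfl
      · exact hs.ot
      · exact hsr
      · rw [← map_mul]; exact hs.order_two_iff.2 (by decide)
  · right
    obtain ⟨y, hy, hy2⟩ := KleinSelfCent.exists_involution_of_not_odd K hK
    have hinv : ∀ i, φ (sr i) ∈ K := fun i => by
      obtain ⟨g, hg⟩ := isConj_iff.1 (hconj y (φ (sr i)) hy2 (hs.order_two_iff.2 (by revert i; decide)))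
      rw [← hg]
      exact hKn.conj_mem y hy g
    have hTK : (T : Subgroup G) ≤ K := by
      rw [hT]
      rintro _ ⟨d, rfl⟩
      have key : ∀ d : DihedralGroup 4, ∃ i j, d = sr i ∨ d = sr i * sr j := by decide
      obtain ⟨i, j, rfl | rfl⟩ := key d
      · exact hinv i
      · rw [map_mul]; exact K.mul_mem (hinv i) (hinv j)
    have hfr := Sylow.normalizer_sup_eq_top (T.subtype hTK)
    have hmap : ((T.subtype hTK : Sylow 2 K) : Subgroup K).map K.subtype = (T : Subgroup G) := by
      rw [Sylow.coe_subtype, Subgroup.map_subgroupOf_eq_of_le hTK]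
    rw [hmap] at hfr
    refine top_le_iff.1 (hfr ▸ sup_le ?_ le_rfl)
    intro c hc
    apply hTK
    rw [hT]
    have htT : φ (r 2) ∈ (T : Subgroup G) := hT ▸ ⟨_, rfl⟩
    have hct := (Subgroup.mem_normalizer_iff.1 hc _).1 htT
    rw [hT] at hct
    obtain ⟨d, hd⟩ := hct
    refine hs.cent c ?_
    have hcen : ∀ e : DihedralGroup 4, d * e = e * d := by
      intro e
      obtain ⟨e', he'⟩ : c⁻¹ * φ e * c ∈ φ.range := by
        have := (Subgroup.mem_normalizer_iff.1 hc (c⁻¹ * φ e * c)).2 (by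
          rw [show c * (c⁻¹ * φ e * c) * c⁻¹ = φ e by group, hT]; exact ⟨e, rfl⟩)
        rwa [hT] at this
      apply hs.inj
      have hc2 : Commute (φ (r 2)) (φ e') := by
        show _ * _ = _ * _
        rw [← map_mul, ← map_mul, (by decide : ∀ d : DihedralGroup 4, r 2 * d = d * r 2) e']
      have h3 := commute_conj c hc2
      rw [he', show c * (c⁻¹ * φ e * c) * c⁻¹ = φ e by group, ← hd] at h3
      rw [map_mul, map_mul]
      exact h3.eq
    have key : ∀ d : DihedralGroup 4, (∀ e, d * e = e * d) → d = 1 ∨ d = r 2 := by decide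
    rcases key d hcen with rfl | rfl
    · exfalso
      rw [map_one] at hd
      exact inv_ne_one hs.ot (conj_eq_one_iff.1 hd.symm)
    · exact mul_inv_eq_iff_eq_mul.1 hd.symm

/-- No conjugate of `φ (r 2)` among the reflections: a normal complement. -/
theorem exists_odd_normal_of_isolated [Finite G] (hs : Setup φ)
    (h : ∀ i, ¬ IsConj (φ (sr i)) (φ (r 2))) :
    ∃ O : Subgroup G, O.Normal ∧ Odd (Nat.card O) ∧ φ.range ⊔ O = ⊤ := by
  classical
  haveI : Fact (Nat.Prime 2) := ⟨Nat.prime_two⟩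
  obtain ⟨T, hT⟩ := exists_sylow hs
  choose M hMn hMi hMu using fun i => exists_index_two hs (i := i) _ card_rot (fun d hd h2 h1 hc =>
    h i (rot_involution hd h2 h1 ▸ hc))
  set N := M 0 ⊓ M 1 with hN
  haveI := hMn 0
  haveI := hMn 1
  haveI hNn : N.Normal := inferInstance
  have hnot : ∀ i, φ (sr i) ∉ N := by
    intro i hi
    have hcases : i = 0 ∨ i = 0 + 2 ∨ i = 1 ∨ i = 1 + 2 := sr_cases 0 i |>.imp id
      (Or.imp id (Or.imp (fun h => by simpa using h) (fun h => by simpa using h)))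
    have hback : ∀ j k, (IsConj (φ (sr j)) (φ (sr k))) → ∀ H : Subgroup G, H.Normal → φ (sr k) ∈ H →
        φ (sr j) ∈ H := by
      intro j k hjk H hH hk
      obtain ⟨g, hg⟩ := isConj_iff.1 hjk.symm
      exact hg ▸ hH.conj_mem _ hk g
    rcases hcases with rfl | rfl | rfl | rfl
    · exact hMu 0 hi.1
    · exact hMu 0 (hback _ _ (isConj_sr φ 0) _ (hMn 0) hi.1)
    · exact hMu 1 hi.2
    · exact hMu 1 (hback _ _ (isConj_sr φ 1) _ (hMn 1) hi.2)
  -- the Sylow subgroups of N are cyclic
  obtain ⟨P⟩ : Nonempty (Sylow 2 N) := inferInstance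
  have hPcyc : IsCyclic (P : Subgroup N) := by
    obtain ⟨S, hS⟩ := (P.isPGroup'.map N.subtype).exists_le_sylow
    obtain ⟨g, hg⟩ := MulAction.exists_smul_eq G S T
    let f : (P : Subgroup N) →* G := (MulAut.conj g).toMonoidHom.comp (N.subtype.comp (P : Subgroup N).subtype)
    have hf : Function.Injective f := (MulAut.conj g).injective.comp
      (N.subtype_injective.comp (Subgroup.subtype_injective _))
    have hmem : ∀ p, f p ∈ (Subgroup.zpowers (r 1 : DihedralGroup 4)).map φ := by
      intro p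
      have hp : f p ∈ φ.range := by
        rw [← hT, ← hg, Sylow.coe_subgroup_smul]
        exact ⟨_, hS ⟨_, p.2, rfl⟩, rfl⟩
      obtain ⟨d, hd⟩ := hp
      have key : ∀ d : DihedralGroup 4, (∃ i, d = sr i) ∨ (∃ k : Fin 4, d = r 1 ^ (k : ℕ)) := by decide
      rcases key d with ⟨i, rfl⟩ | ⟨k, rfl⟩
      · exfalso
        refine hnot i (hd ▸ ?_)
        exact hNn.conj_mem _ (p : N).2 g
      · exact ⟨_, pow_mem (Subgroup.mem_zpowers _) _, hd⟩
    haveI : IsCyclic ((Subgroup.zpowers (r 1 : DihedralGroup 4)).map φ) :=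
      isCyclic_of_surjective (φ.subgroupMap (Subgroup.zpowers (r 1 : DihedralGroup 4)))
        (φ.subgroupMap_surjective _)
    exact isCyclic_of_injective (f.codRestrict _ hmem) fun a b hab => hf (congrArg Subtype.val hab)
  have htN : φ (r 2) ∈ N := by
    rw [show (r 2 : DihedralGroup 4) = r 1 * r 1 by decide, map_mul]
    exact ⟨Subgroup.mul_self_mem_of_index_two (hMi 0) _, Subgroup.mul_self_mem_of_index_two (hMi 1) _⟩
  have hmin : (Nat.card N).minFac = 2 := by
    rw [Nat.minFac_eq_two_iff]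
    have := orderOf_dvd_natCard (⟨φ (r 2), htN⟩ : N)
    rwa [Subgroup.orderOf_mk, hs.ot] at this
  set f := MonoidHom.transferSylow P (hPcyc.normalizer_le_centralizer hmin) with hf
  have hcompl : f.ker.IsComplement' (P : Subgroup N) := hPcyc.isComplement' hmin
  have hOodd : Odd (Nat.card f.ker) := by
    rw [← Nat.not_even_iff_odd, even_iff_two_dvd]
    exact MonoidHom.not_dvd_card_ker_transferSylow P _
  refine ⟨f.ker.map N.subtype, ⟨?_⟩, ?_, ?_⟩
  · rintro _ ⟨k, hk, rfl⟩ g
    refine ⟨MulAut.conjNormal g k, ?_, MulAut.conjNormal_apply g k⟩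
    have h1 : orderOf (f (MulAut.conjNormal g k)) ∣ Nat.card f.ker := by
      refine (orderOf_map_dvd f _).trans ?_
      rw [MulEquiv.orderOf_eq]
      have := orderOf_dvd_natCard (⟨k, hk⟩ : f.ker)
      rwa [Subgroup.orderOf_mk] at this
    obtain ⟨n, hn⟩ := P.isPGroup'.exists_card_eq
    have h2 : orderOf (f (MulAut.conjNormal g k)) ∣ 2 ^ n := hn ▸ orderOf_dvd_natCard _
    exact MonoidHom.mem_ker.2 (orderOf_eq_one_iff.1 (Nat.eq_one_of_dvd_coprimes
      ((Nat.coprime_two_left.2 hOodd).pow_left n) h2 h1))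
  · rwa [Subgroup.card_map_of_injective N.subtype_injective]
  · refine Subgroup.eq_top_of_card_eq _ ?_
    set H := φ.range ⊔ f.ker.map N.subtype
    have h8 : 8 ∣ Nat.card H := by
      have e8 : Nat.card φ.range = 8 := by rw [← hs.centralizer_eq, hs.card_centralizer]
      have := Subgroup.card_dvd_of_le (le_sup_left : φ.range ≤ H)
      rwa [e8] at this
    have hO : Nat.card f.ker ∣ Nat.card H := by
      have := Subgroup.card_dvd_of_le (le_sup_right : f.ker.map N.subtype ≤ H)
      rwa [Subgroup.card_map_of_injective N.subtype_injective] at this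
    obtain ⟨n, hn⟩ := P.isPGroup'.exists_card_eq
    have hcard : Nat.card G ∣ Nat.card f.ker * 2 ^ n * (2 * 2) := by
      rw [← hn, hcompl.card_mul, ← N.card_mul_index]
      refine mul_dvd_mul_left _ ?_
      have h2 : (M 0).relIndex (M 1) ∣ 2 :=
        hMi 0 ▸ Subgroup.relIndex_dvd_index_of_normal (M 0) (M 1)
      rw [hN, ← Subgroup.relIndex_mul_index (inf_le_right : M 0 ⊓ M 1 ≤ M 1), Subgroup.inf_relIndex_right, hMi 1]
      exact mul_dvd_mul h2 dvd_rfl
    obtain ⟨m, hm, hmG⟩ : ∃ m, Odd m ∧ Nat.card G = 8 * m := by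
      have := card_mod hs
      exact ⟨Nat.card G / 8, by rw [Nat.odd_iff]; omega, by omega⟩
    have hmO : m ∣ Nat.card f.ker := by
      have h1 : m ∣ Nat.card f.ker * 2 ^ (n + 2) := by
        rw [pow_add, ← mul_assoc]
        exact (Dvd.intro_left 8 hmG.symm).trans hcard
      exact (Nat.Coprime.pow_right (n + 2) (Nat.coprime_two_right.2 hm)).dvd_of_dvd_mul_right h1
    refine Nat.dvd_antisymm (Subgroup.card_subgroup_dvd_card H) ?_
    rw [hmG]
    exact Nat.Coprime.mul_dvd_of_dvd_of_dvd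
      (by simpa using (Nat.coprime_two_left.2 hm).pow_left 3) h8 (hmO.trans hO)

/-- Exactly one class of reflections meets the class of `φ (r 2)`. -/
theorem perm_four_or_five [Finite G] (hs : Setup φ) {i : ZMod 4} (hi : ¬ IsConj (φ (sr i)) (φ (r 2)))
    (hj : IsConj (φ (sr (i + 1))) (φ (r 2))) :
    Nonempty (G ≃* Equiv.Perm (Fin 4)) ∨ Nonempty (G ≃* Equiv.Perm (Fin 5)) := by
  classical
  haveI : Fact (Nat.Prime 2) := ⟨Nat.prime_two⟩
  haveI := Fintype.ofFinite G
  have hj2 : IsConj (φ (sr (i + 1 + 2))) (φ (r 2)) := (isConj_sr φ _).symm.trans hj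
  obtain ⟨M, hMn, hMi, hMu⟩ := exists_index_two hs (i := i) (fourSub (i + 1)) (card_fourSub _) (by
    intro d hd h2 h1 hc
    rcases mem_fourSub.1 hd with rfl | rfl | rfl | rfl
    · exact h1 rfl
    · exact hi hc
    · exact hi (hc.trans hj)
    · exact hi (hc.trans hj2))
  haveI := hMn
  have htM : φ (r 2) ∈ M := by
    rw [show (r 2 : DihedralGroup 4) = r 1 * r 1 by decide, map_mul]
    exact Subgroup.mul_self_mem_of_index_two hMi _
  have hconjM : ∀ {y z : G}, IsConj y z → z ∈ M → y ∈ M := by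
    intro y z hyz hz
    obtain ⟨g, hg⟩ := isConj_iff.1 hyz.symm
    exact hg ▸ hMn.conj_mem _ hz g
  have hsj : φ (sr (i + 1)) ∈ M := hconjM hj htM
  have hV : ∀ d, φ d ∈ M ↔ d ∈ fourSub (i + 1) := by
    have hVM : ∀ d ∈ fourSub (i + 1), φ d ∈ M := fun d hd => by
      rcases mem_fourSub.1 hd with rfl | rfl | rfl | rfl
      exacts [(map_one φ).symm ▸ M.one_mem, htM, hsj, hconjM hj2 htM]
    intro d
    refine ⟨fun h => ?_, hVM d⟩
    by_contra hd
    have key : ∀ i : ZMod 4, ∀ d : DihedralGroup 4,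
        (d = 1 ∨ d = r 2 ∨ d = sr (i + 1) ∨ d = sr (i + 1 + 2)) ∨
        (d * sr i = 1 ∨ d * sr i = r 2 ∨ d * sr i = sr (i + 1) ∨ d * sr i = sr (i + 1 + 2)) := by decide
    have h' := hVM _ ((key i d).resolve_left hd)
    rw [map_mul] at h'
    exact hMu ((M.mul_mem_cancel_left h).1 h')
  -- in M
  let t' : M := ⟨φ (r 2), htM⟩
  let a' : M := ⟨φ (sr (i + 1)), hsj⟩
  have ht' : orderOf t' = 2 := by rw [← Subgroup.orderOf_coe]; exact hs.ot
  have ha' : orderOf a' = 2 := by
    rw [← Subgroup.orderOf_coe]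
    exact hs.order_two_iff.2 (by
      have key : ∀ j : ZMod 4, (sr j : DihedralGroup 4) * sr j = 1 ∧ sr j ≠ (1 : DihedralGroup 4) := by decide
      exact key _)
  have hat : Commute t' a' := by
    refine Subtype.ext ?_
    show φ (r 2) * φ (sr (i + 1)) = φ (sr (i + 1)) * φ (r 2)
    rw [← map_mul, ← map_mul, (by decide : ∀ d : DihedralGroup 4, r 2 * d = d * r 2) (sr (i + 1))]
  have hne : a' ≠ t' := fun h => by
    have := hs.inj (congrArg Subtype.val h : φ (sr (i + 1)) = φ (r 2))
    simp at this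
  have hcent : ∀ c : M, Commute c t' → c = 1 ∨ c = t' ∨ c = a' ∨ c = t' * a' := by
    intro c hc
    obtain ⟨d, hd⟩ := hs.cent (c : G) (congrArg Subtype.val hc)
    rcases mem_fourSub.1 ((hV d).1 (hd ▸ c.2)) with rfl | rfl | rfl | rfl
    · exact Or.inl (Subtype.ext (hd.symm.trans (map_one φ)))
    · exact Or.inr (Or.inl (Subtype.ext hd.symm))
    · exact Or.inr (Or.inr (Or.inl (Subtype.ext hd.symm)))
    · refine Or.inr (Or.inr (Or.inr (Subtype.ext ?_)))
      show (c : G) = φ (r 2) * φ (sr (i + 1))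
      rw [← map_mul, ← hd, (by decide : ∀ k : ZMod 4, (r 2 * sr k : DihedralGroup 4) = sr (k + 2)) (i + 1)]
  have hu : φ (sr i) * φ (r 2) * (φ (sr i))⁻¹ = φ (r 2) := by
    rw [← map_inv, ← map_mul, ← map_mul]
    rw [(by decide : ∀ k : ZMod 4, (sr k * r 2 * (sr k)⁻¹ : DihedralGroup 4) = r 2) i]
  have hMconj : ∀ u v : M, orderOf u = 2 → orderOf v = 2 → IsConj u v := by
    have h' : ∀ y : M, orderOf y = 2 → IsConj y t' := by
      intro y hy
      obtain ⟨d, hd, hyd⟩ := conj_rep hs (y := (y : G)) (by rw [Subgroup.orderOf_coe, hy])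
      have hdt : IsConj (φ d) (φ (r 2)) := by
        rcases mem_fourSub.1 ((hV d).1 (hconjM hyd.symm y.2)) with rfl | rfl | rfl | rfl
        · rcases hd with h | ⟨k, h⟩
          · exact absurd h (by decide)
          · exact absurd h (by revert k; decide)
        exacts [IsConj.refl _, hj, hj2]
      obtain ⟨g, hg⟩ := isConj_iff.1 (hyd.trans hdt)
      by_cases hgM : g ∈ M
      · exact isConj_iff.2 ⟨⟨g, hgM⟩, Subtype.ext hg⟩
      · refine isConj_iff.2 ⟨⟨φ (sr i) * g,
          (Subgroup.mul_mem_iff_of_index_two hMi).2 (iff_of_false hMu hgM)⟩, Subtype.ext ?_⟩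
        show φ (sr i) * g * (y : G) * (φ (sr i) * g)⁻¹ = φ (r 2)
        calc _ = φ (sr i) * (g * y * g⁻¹) * (φ (sr i))⁻¹ := by group
          _ = _ := by rw [hg, hu]
    exact fun u v hu hv => (h' u hu).trans (h' v hv).symm
  have hG2 : Nat.card G = Nat.card M * 2 := by rw [← M.card_mul_index, hMi]
  have h8 : ¬ 8 ∣ Nat.card M := fun h => by
    have := card_mod hs
    obtain ⟨m, hm⟩ := h
    omega
  rcases KleinSelfCent.card_twelve_or_alternating ht' ha' hat hne hcent hMconj h8 with h12 | ⟨hsimp, ⟨e⟩⟩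
  · left
    refine Cfsg.Agent.SmallGroupS4.nonempty_equiv_perm_four (by rw [hG2, h12]) fun g hg => ?_
    have hy : orderOf (g ^ 3) = 2 := by rw [orderOf_pow, hg]; rfl
    have hd : orderOf (g ^ 2) = 3 := by rw [orderOf_pow, hg]; rfl
    have hyd : Commute (g ^ 3) (g ^ 2) := Commute.pow_pow_self g 3 2
    have hno3 : ∀ c : G, orderOf c = 3 → ¬ Commute c (φ (r 2)) := by
      intro c hc hcc
      obtain ⟨d, hd'⟩ := hs.cent c hcc
      have := orderOf_dvd_natCard d
      rw [← orderOf_injective φ hs.inj, hd', hc, DihedralGroup.nat_card] at this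
      norm_num at this
    have hnoY : ∀ y : G, IsConj y (φ (r 2)) → ∀ c : G, orderOf c = 3 → ¬ Commute c y := by
      intro y hyt c hc hcy
      obtain ⟨k, hk⟩ := isConj_iff.1 hyt
      exact hno3 _ (by rw [order_conj, hc]) (hk ▸ commute_conj k hcy)
    obtain ⟨d, hd', hyd'⟩ := conj_rep hs hy
    by_cases hdt : IsConj (φ d) (φ (r 2))
    · exact hnoY _ (hyd'.trans hdt) _ hd hyd.symm
    have hdi : IsConj (φ d) (φ (sr i)) := by
      rcases hd' with rfl | ⟨k, rfl⟩
      · exact absurd (IsConj.refl _) hdt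
      rcases sr_cases i k with rfl | rfl | rfl | rfl
      exacts [IsConj.refl _, (isConj_sr φ i).symm, absurd hj hdt, absurd hj2 hdt]
    obtain ⟨k, hk⟩ := isConj_iff.1 (hyd'.trans hdi)
    set c := k * g ^ 2 * k⁻¹ with hc
    have hc3 : orderOf c = 3 := by rw [hc, order_conj, hd]
    have hcu : Commute c (φ (sr i)) := hk ▸ commute_conj k hyd.symm
    have hcM : c ∈ M := hMn.conj_mem _ (by rw [pow_two]; exact Subgroup.mul_self_mem_of_index_two hMi g) k
    -- the involutions of M
    have hcls : ∀ y : M, orderOf y = 2 → y = t' ∨ y = a' ∨ y = t' * a' := by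
      have hb' := order_mul ht' ha' hat hne.symm
      have hcnt := Cfsg.Agent.CharBasicOrth.card_conj_mul_card_centralizer t'
      have h4 : Nat.card (Subgroup.centralizer ({t'} : Set M)) = 4 := by
        have e : (Subgroup.centralizer ({t'} : Set M) : Set M) = ({1, t', a', t' * a'} : Finset M) := by
          ext z
          simp only [SetLike.mem_coe, Subgroup.mem_centralizer_singleton_iff, Finset.coe_insert,
            Finset.coe_singleton, Set.mem_insert_iff, Set.mem_singleton_iff]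
          refine ⟨fun h => hcent z h, ?_⟩
          rintro (rfl | rfl | rfl | rfl)
          exacts [(Commute.one_left t').eq, rfl, hat.symm.eq, ((Commute.refl t').mul_left hat.symm).eq]
        rw [← SetLike.coe_sort_coe, Nat.card_coe_set_eq, e, Set.ncard_coe_finset]
        have e1 : a' ≠ t' * a' := fun h => inv_ne_one ht' (by simpa using h)
        have e2 : t' ≠ t' * a' := fun h => inv_ne_one ha' (by simpa using h)
        rw [Finset.card_insert_of_notMem (by simp [(inv_ne_one ht').symm, (inv_ne_one ha').symm, (inv_ne_one hb').symm]),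
          Finset.card_insert_of_notMem (by simp [hne.symm, e2]), Finset.card_pair e1]
      rw [h4, h12] at hcnt
      have hset : ({t', a', t' * a'} : Finset M) = Finset.univ.filter fun y : M => IsConj t' y := by
        refine Finset.eq_of_subset_of_card_le ?_ ?_
        · intro y hy
          simp only [Finset.mem_insert, Finset.mem_singleton] at hy
          refine Finset.mem_filter.2 ⟨Finset.mem_univ _, ?_⟩
          rcases hy with rfl | rfl | rfl
          exacts [IsConj.refl _, hMconj _ _ ht' ha', hMconj _ _ ht' hb']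
        · rw [← Fintype.card_subtype, ← Nat.card_eq_fintype_card]
          have e1 : a' ≠ t' * a' := fun h => inv_ne_one ht' (by simpa using h)
          have e2 : t' ≠ t' * a' := fun h => inv_ne_one ha' (by simpa using h)
          rw [Finset.card_insert_of_notMem (by simp [hne.symm, e2]), Finset.card_pair e1]
          omega
      intro y hy
      have : y ∈ ({t', a', t' * a'} : Finset M) := by
        rw [hset]; exact Finset.mem_filter.2 ⟨Finset.mem_univ _, hMconj _ _ ht' hy⟩
      simpa using this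
    have hctM : c * φ (r 2) * c⁻¹ ∈ M := hMn.conj_mem _ htM c
    have hcomm2 : Commute (c * φ (r 2) * c⁻¹) (φ (sr i)) := by
      have h := commute_conj c (mul_inv_eq_iff_eq_mul.1 hu : Commute (φ (sr i)) (φ (r 2)))
      rw [show c * φ (sr i) * c⁻¹ = φ (sr i) by rw [hcu.eq, mul_inv_cancel_right]] at h
      exact h.symm
    have hkey : ∀ i : ZMod 4, ∀ d : DihedralGroup 4,
        (d = sr (i + 1) ∨ d = r 2 * sr (i + 1)) → d * sr i ≠ sr i * d := by decide
    rcases hcls ⟨_, hctM⟩ (by rw [← Subgroup.orderOf_coe]; exact (order_conj c _).trans hs.ot) with h | h | h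
    · exact hno3 c hc3 (mul_inv_eq_iff_eq_mul.1 (congrArg Subtype.val h))
    · have e' : c * φ (r 2) * c⁻¹ = φ (sr (i + 1)) := congrArg Subtype.val h
      rw [e'] at hcomm2
      exact hkey i _ (Or.inl rfl) (hs.inj (by simpa only [map_mul] using hcomm2.eq))
    · have e' : c * φ (r 2) * c⁻¹ = φ (r 2) * φ (sr (i + 1)) := congrArg Subtype.val h
      rw [e', ← map_mul] at hcomm2
      exact hkey i _ (Or.inr rfl) (hs.inj (by simpa only [map_mul] using hcomm2.eq))
  · right
    haveI := hsimp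
    have hM60 : Nat.card M = 60 := by
      rw [Nat.card_congr e.toEquiv, nat_card_alternatingGroup, Nat.card_fin]
      rfl
    set Q := (fourSub (i + 1)).map φ with hQ
    have hQM : Q ≤ M := by
      rintro _ ⟨d, hd, rfl⟩
      exact (hV d).2 hd
    set N := Subgroup.normalizer (Q : Set G) with hN
    have hCN : φ.range ≤ N := by
      rintro _ ⟨d, rfl⟩
      rw [hN, Subgroup.mem_normalizer_iff]
      intro z
      constructor
      · rintro ⟨q, hq, rfl⟩
        refine ⟨d * q * d⁻¹, ?_, by simp⟩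
        rw [SetLike.mem_coe, mem_fourSub] at hq ⊢
        have key : ∀ j : ZMod 4, ∀ d q : DihedralGroup 4, (q = 1 ∨ q = r 2 ∨ q = sr j ∨ q = sr (j + 2)) →
            (d * q * d⁻¹ = 1 ∨ d * q * d⁻¹ = r 2 ∨ d * q * d⁻¹ = sr j ∨ d * q * d⁻¹ = sr (j + 2)) := by decide
        exact key _ d q hq
      · rintro ⟨q, hq, hqe⟩
        refine ⟨d⁻¹ * q * d, ?_, by simp [hqe, mul_assoc]⟩
        rw [SetLike.mem_coe, mem_fourSub] at hq ⊢
        have key : ∀ j : ZMod 4, ∀ d q : DihedralGroup 4, (q = 1 ∨ q = r 2 ∨ q = sr j ∨ q = sr (j + 2)) →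
            (d⁻¹ * q * d = 1 ∨ d⁻¹ * q * d = r 2 ∨ d⁻¹ * q * d = sr j ∨ d⁻¹ * q * d = sr (j + 2)) := by decide
        exact key _ d q hq
    obtain ⟨g, hg⟩ := isConj_iff.1 (hMconj t' a' ht' ha')
    have hgN : (g : G) ∈ N := by
      have hgt : (g : G) * φ (r 2) * (g : G)⁻¹ = φ (sr (i + 1)) := congrArg Subtype.val hg
      have hfwd : ∀ z ∈ Q, (g : G) * z * (g : G)⁻¹ ∈ Q := by
        rintro _ ⟨q, hq, rfl⟩
        -- centralises the image of t in M
        have hcq : Commute (φ q) (φ (r 2)) := by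
          show _ * _ = _ * _
          rw [← map_mul, ← map_mul, (by decide : ∀ q : DihedralGroup 4, q * r 2 = r 2 * q) q]
        have h1 := commute_conj (g : G) hcq
        rw [hgt] at h1
        obtain ⟨w, hw⟩ := isConj_iff.1 (hMconj a' t' ha' ht')
        set z := (g : G) * φ q * (g : G)⁻¹
        have hzM : z ∈ M := hMn.conj_mem _ ((hV q).2 hq) g
        -- C_M(a) = C_M(t)
        have hsub : ∀ c : M, Commute c a' → c = 1 ∨ c = t' ∨ c = a' ∨ c = t' * a' := by
          let S4 : Finset M := {1, t', a', t' * a'}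
          have hS4 : ∀ c : M, c ∈ S4 ↔ c = 1 ∨ c = t' ∨ c = a' ∨ c = t' * a' := fun c => by simp [S4]
          have himg : S4.image (fun c => w⁻¹ * c * w) = S4 := by
            symm
            refine Finset.eq_of_subset_of_card_le ?_ Finset.card_image_le
            intro c hc
            refine Finset.mem_image.2 ⟨w * c * w⁻¹, (hS4 _).2 (hcent _ ?_), by group⟩
            rw [← hw]
            refine commute_conj w ?_
            rcases (hS4 c).1 hc with rfl | rfl | rfl | rfl
            exacts [Commute.one_left _, hat, Commute.refl _, hat.mul_left (Commute.refl _)]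
          intro c hc
          have h' : w * c * w⁻¹ ∈ S4 := (hS4 _).2 (hcent _ (hw ▸ commute_conj w hc))
          rw [← hS4, ← himg]
          exact Finset.mem_image.2 ⟨_, h', by group⟩
        rcases hsub ⟨z, hzM⟩ (Subtype.ext h1.eq) with h | h | h | h <;>
          rw [show z = ((⟨z, hzM⟩ : M) : G) from rfl, h]
        · exact Q.one_mem
        · exact ⟨r 2, mem_fourSub.2 (Or.inr (Or.inl rfl)), rfl⟩
        · exact ⟨sr (i + 1), mem_fourSub.2 (Or.inr (Or.inr (Or.inl rfl))), rfl⟩
        · refine ⟨r 2 * sr (i + 1), (fourSub _).mul_mem (mem_fourSub.2 (Or.inr (Or.inl rfl)))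
            (mem_fourSub.2 (Or.inr (Or.inr (Or.inl rfl)))), ?_⟩
          rw [map_mul]
          rfl
      exact Subgroup.mem_normalizer_fintype hfwd
    have hN8 : 8 ∣ Nat.card N := by
      have := Subgroup.card_dvd_of_le hCN
      rwa [← hs.centralizer_eq, hs.card_centralizer] at this
    have hN120 : Nat.card N * N.index = 120 := by rw [N.card_mul_index, hG2, hM60]
    have hNtop : N ≠ ⊤ := by
      intro h
      have hQn : Q.Normal := Subgroup.normalizer_eq_top_iff.1 h
      haveI := hQn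
      rcases (inferInstance : (Q.subgroupOf M).Normal).eq_bot_or_eq_top with h' | h'
      · have : (t' : M) ∈ Q.subgroupOf M :=
          Subgroup.mem_subgroupOf.2 ⟨r 2, mem_fourSub.2 (Or.inr (Or.inl rfl)), rfl⟩
        rw [h', Subgroup.mem_bot] at this
        exact inv_ne_one ht' this
      · have hle : M ≤ Q := Subgroup.subgroupOf_eq_top.1 h'
        have h1 := Subgroup.card_le_of_le hle
        rw [hM60, hQ, Subgroup.card_map_of_injective hs.inj, card_fourSub] at h1
        omega
    have hNne : Nat.card N ≠ 8 := by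
      intro h
      have heq : φ.range = N := Subgroup.eq_of_le_of_card_ge hCN (by
        rw [h, ← hs.centralizer_eq, hs.card_centralizer])
      have hgt : Commute (g : G) (φ (r 2)) := by
        have := heq ▸ hgN
        exact Subgroup.mem_centralizer_singleton_iff.1 ((hs.mem_cent_iff _).2 this)
      apply hne
      rw [← hg]
      exact Subtype.ext (show (g : G) * φ (r 2) * (g : G)⁻¹ = φ (r 2) by
        rw [hgt.eq, mul_inv_cancel_right])
    let act : G →* Equiv.Perm (G ⧸ N) := MulAction.toPermHom G (G ⧸ N)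
    have hinj : Function.Injective act := by
      rw [← MonoidHom.ker_eq_bot_iff]
      set K := act.ker with hK
      have hKN : K ≤ N := by
        rw [hK, ← Subgroup.normalCore_eq_ker]
        exact Subgroup.normalCore_le N
      rcases (inferInstance : (K.subgroupOf M).Normal).eq_bot_or_eq_top with h' | h'
      · rw [Subgroup.eq_bot_iff_forall]
        intro k hk
        have hcomm : ∀ m ∈ M, Commute k m := by
          intro m hm
          have h1 : k * m * k⁻¹ * m⁻¹ ∈ (K.subgroupOf M).map M.subtype := by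
            refine ⟨⟨k * m * k⁻¹ * m⁻¹, M.mul_mem (hMn.conj_mem m hm k) (M.inv_mem hm)⟩, ?_, rfl⟩
            rw [SetLike.mem_coe, Subgroup.mem_subgroupOf]
            show k * m * k⁻¹ * m⁻¹ ∈ K
            rw [show k * m * k⁻¹ * m⁻¹ = k * (m * k⁻¹ * m⁻¹) by group]
            exact K.mul_mem hk ((MonoidHom.normal_ker act).conj_mem _ (K.inv_mem hk) m)
          rw [h', Subgroup.map_bot, Subgroup.mem_bot] at h1
          exact mul_inv_eq_iff_eq_mul.1 (mul_inv_eq_one.1 h1)
        obtain ⟨d, rfl⟩ := hs.cent k (hcomm _ htM)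
        have hkey2 : ∀ i : ZMod 4, ∀ d : DihedralGroup 4, d * sr (i + 1) = sr (i + 1) * d →
            d = 1 ∨ d = r 2 ∨ d = sr (i + 1) ∨ d = sr (i + 1 + 2) := by decide
        have hdV := hkey2 i d (hs.inj (by simpa only [map_mul] using (hcomm _ hsj).eq))
        have hdM : φ d ∈ M := (hV d).2 (mem_fourSub.2 hdV)
        have : (⟨φ d, hdM⟩ : M) ∈ K.subgroupOf M := Subgroup.mem_subgroupOf.2 hk
        rw [h', Subgroup.mem_bot] at this
        exact congrArg Subtype.val this
      · exfalso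
        have hMN : M ≤ N := (Subgroup.subgroupOf_eq_top.1 h').trans hKN
        apply hNtop
        have hu' : φ (sr i) ∈ N := hCN ⟨_, rfl⟩
        rw [eq_top_iff]
        intro z _
        by_cases hz : z ∈ M
        · exact hMN hz
        · have := hMN ((Subgroup.mul_mem_iff_of_index_two hMi).2 (iff_of_false hMu hz))
          exact (N.mul_mem_cancel_left hu').1 this
    have hidx : N.index = 5 := by
      have hle := Nat.card_le_card_of_injective act hinj
      rw [Nat.card_perm, ← Subgroup.index_eq_card, hG2, hM60] at hle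
      have hne1 : N.index ≠ 1 := fun h => hNtop (Subgroup.index_eq_one.1 h)
      obtain ⟨k, hk⟩ := hN8
      rw [hk] at hN120 hNne
      have hk15 : k * N.index = 15 := by nlinarith
      have hd : N.index ∣ 15 := ⟨k, by rw [mul_comm]; exact hk15.symm⟩
      have hle15 := Nat.le_of_dvd (by norm_num) hd
      have hall : ∀ m ≤ 15, m ∣ 15 → m = 1 ∨ m = 3 ∨ m = 5 ∨ m = 15 := by decide
      rcases hall _ hle15 hd with h | h | h | h
      · exact absurd h hne1
      · rw [h] at hle; norm_num [Nat.factorial] at hle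
      · exact h
      · rw [h] at hk15; omega
    let eF : G ⧸ N ≃ Fin 5 := Finite.equivFinOfCardEq (by rw [← Subgroup.index_eq_card, hidx])
    let ψ : G →* Equiv.Perm (Fin 5) := (Equiv.permCongrHom eF).toMonoidHom.comp act
    have hψ : Function.Injective ψ := (Equiv.permCongrHom eF).injective.comp hinj
    refine ⟨MulEquiv.ofBijective ψ (Function.Injective.bijective_of_nat_card_le hψ ?_)⟩
    rw [Nat.card_perm, Nat.card_fin, hG2, hM60]
    rfl

end Cfsg.Agent.D8Centralizer
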