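import Cfsg.Agent.Lib.D8WreathModel81

/-!
The table checks for the wreath square of the dihedral group of order eight.
-/

set_option autoImplicit false

namespace Cfsg.Agent.D8WreathModel81

/-- Value in a table of pairs. -/
def look : List (ℕ × ℕ) → ℕ → Option ℕ
  | [], _ => none
  | (k, v) :: l, n => if k == n then some v else look l n

/-- The code commutation test. -/
def cmB (x y : ℕ) : Bool := pm x y == pm y x

/-- The inverse of a code: the seventh power. -/
def pinv (x : ℕ) : ℕ := pw x 7

theorem code_inv (x : W) : code x⁻¹ = pinv (code x) := by
  have h : ∀ n < 128, (List.all [n] fun n => pm (pinv n) n == 0) = true := by decide +kernel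
  have h1 := h _ (code_lt x)
  simp only [List.all_cons, List.all_nil, Bool.and_true, beq_iff_eq] at h1
  have h2 : dec (pinv (code x)) * x = 1 := by
    apply code_inj
    have h3 : ∀ n < 128, pinv n < 128 := by decide +kernel
    rw [code_mul, code_dec (h3 _ (code_lt x)), h1, code_one]
  rw [← eq_inv_of_mul_eq_one_left h2]
  have h3 : ∀ n < 128, pinv n < 128 := by decide +kernel
  exact code_dec (h3 _ (code_lt x))

/-- Conjugate of a code. -/
def pc (g x : ℕ) : ℕ := pm (pm g x) (pinv g)

theorem code_conj (g x : W) : code (g * x * g⁻¹) = pc (code g) (code x) := by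
  rw [code_mul, code_mul, code_inv]; rfl

theorem code_commute {x y : W} : cmB (code x) (code y) = true ↔ x * y = y * x := by
  rw [cmB, beq_iff_eq, ← code_mul, ← code_mul, code_inj.eq_iff]

/-- Any element of order at most two is listed. -/
def invOK : Bool := (List.range 128).all fun n => !(pm n n == 0) || invList.contains n

theorem invOK_true : invOK = true := by decide +kernel

/-- Every automorphism is listed. -/
def autOK : Bool :=
  (List.range 128).all fun x =>
    !(pw x 4 == 0 && !(pw x 2 == 0)) || invList.all fun y =>
      !(pm (pm y x) (pm y x) == 0) || invList.all fun u =>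
        !(cmB x (pm (pm u x) u) && cmB x (pm (pm u y) u) && cmB y (pm (pm u x) u) &&
            cmB y (pm (pm u y) u) && !(pm (pw x 2) (pm (pm u (pw x 2)) u) == 0)) ||
          (autRows.getD x []).any fun r =>
            r.1 == y && r.2.1 == u && decide (r.2.2.1 < 128) && decide (r.2.2.2 < 8) &&
              (autReps.getD r.2.2.2 (0, 0, 0) == (pc r.2.2.1 x, pc r.2.2.1 y, pc r.2.2.1 u))

theorem autOK_true : autOK = true := by decide +kernel

/-- The possible squares of an outer element. -/
def sqOK : Bool :=
  (List.range 8).all fun k => (List.range 128).all fun c =>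
    let r := autReps.getD k (0, 0, 0)
    !(ap r c == c && ap r r.1 == pc c 1 && ap r r.2.1 == pc c 4 && ap r r.2.2 == pc c 64) ||
      ((secCerts.map Prod.fst).contains (k, c) || (isoCerts.map Prod.fst).contains (k, c))

theorem sqOK_true : sqOK = true := by decide +kernel

/-- The product of two codes of the extension. -/
def em (r : ℕ × ℕ × ℕ) (c u v : ℕ) : ℕ :=
  if u / 128 = 0 then pm u (v % 128) + 128 * (v / 128)
  else if v / 128 = 0 then pm (u % 128) (ap r v) + 128
  else pm (pm (u % 128) (ap r (v % 128))) c

/-- The check of a witness of rank five. -/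
def secCheck (r : ℕ × ℕ × ℕ) (c : ℕ) (gens : List ℕ) (tab : List (ℕ × ℕ)) : Bool :=
  look tab 0 == some 0 && (tab.all fun p => decide (p.1 < 256) && decide (p.2 < 32)) &&
    (gens.all fun g => decide (g < 256) && (look tab g).isSome) &&
    (gens.map fun g => look tab g) == [some 1, some 2, some 4, some 8, some 16] &&
    tab.all fun p => gens.all fun g =>
      look tab (em r c p.1 g) == some (p.2 ^^^ (look tab g).getD 0)

theorem secCerts_ok :
    (secCerts.all fun d => secCheck (autReps.getD d.1.1 (0, 0, 0)) d.1.2 d.2.1 d.2.2) = true := by
  decide +kernel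

/-- The check of a map onto the model. -/
def isoCheck (r : ℕ × ℕ × ℕ) (c : ℕ) (tab : List ℕ) : Bool :=
  tab.getD 0 1 == 0 && tab.length == 256 &&
    ((List.range 256).all fun u =>
      decide (tab.getD u 128 < 128) && (!(tab.getD u 1 == 0) || u == 0 || u == 18) &&
        [1, 4, 64, 128].all fun g =>
          tab.getD (em r c u g) 128 == pm (tab.getD u 128) (tab.getD g 128)) &&
    (tab.getD 18 1 == 0) && (List.range 128).all fun w => tab.contains w

theorem isoCerts_ok :
    (isoCerts.all fun d => isoCheck (autReps.getD d.1.1 (0, 0, 0)) d.1.2 d.2) = true := by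
  decide +kernel

/-- Only the first and third representatives admit the extensions of rank at most four. -/
theorem isoCerts_index : (isoCerts.all fun d => d.1.1 == 1 || d.1.1 == 3) = true := by decide +kernel

/-- The two elementary abelian normal subgroups of order sixteen. -/
def v0 : List ℕ := [0, 2, 4, 6, 16, 18, 20, 22, 32, 34, 36, 38, 48, 50, 52, 54]
/-- The second one. -/
def v1 : List ℕ := [0, 2, 5, 7, 16, 18, 21, 23, 40, 42, 45, 47, 56, 58, 61, 63]

/-- The conjugates by the generators commute with the second element. -/
def relB (v w : ℕ) : Bool := cmB v w && cmB (pc 1 v) w && cmB (pc 4 v) w && cmB (pc 64 v) w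

/-- Membership in a normal elementary abelian subgroup of order sixteen decides it. -/
def normOK : Bool :=
  invList.all fun v => !(relB v v) || (invList.all fun w => !(relB v w) || v0.contains w) ||
    (invList.all fun w => !(relB v w) || v1.contains w) ||
      (v0.contains v && v1.contains v)

theorem normOK_true : normOK = true := by decide +kernel

/-- The elements common to both are fewer than sixteen. -/
theorem inter_lt : (v0.filter fun n => v1.contains n).length < 16 := by decide +kernel

theorem v_lengths : v0.length = 16 ∧ v1.length = 16 := by decide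

/-- The first and third representatives move both subgroups. -/
theorem moved : ([1, 3].all fun k => [v0, v1].all fun l =>
    l.any fun n => !(l.contains (ap (autReps.getD k (0, 0, 0)) n))) = true := by decide +kernel

/-- The centre of the model. -/
theorem center_codes : ((List.range 128).all fun n =>
    (cmB n 1 && cmB n 4 && cmB n 64) == (n == 0 || n == 18)) = true := by decide +kernel

theorem autReps_zero : autReps.getD 0 (0, 0, 0) = (1, 4, 64) := rfl

end Cfsg.Agent.D8WreathModel81
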