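import Cfsg.Agent.Lib.D8WreathChecks81
import Cfsg.Prelude.Def_CaseTheorems
import Cfsg.Prelude.Def_Transfer

/-!
Extensions of the wreath square of the dihedral group of order eight by an element outside it.
-/

set_option autoImplicit false

namespace Cfsg.Agent.D8WreathModel81

variable {S : Type*} [Group S]

/-- The images of the generators. -/
def trip (f : W →* W) : ℕ × ℕ × ℕ := (code (f gA), code (f gB), code (f gT))

theorem code_f (f : W →* W) (w : W) : code (f w) = ap (trip f) (code w) := code_hom f w

/-- An element normalising a copy of the model, with square inside it. -/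
structure Ext (e : W →* S) (h : S) (f : W →* W) (c : W) : Prop where
  inj : Function.Injective e
  out : h ∉ e.range
  conj : ∀ w, h * e w * h⁻¹ = e (f w)
  sq : h * h = e c

/-- The element of a code of the extension. -/
def big (e : W →* S) (h : S) (u : ℕ) : S := e (dec (u % 128)) * h ^ (u / 128)

theorem dec_pm (x y : W) : dec (pm (code x) (code y)) = x * y := by rw [← code_mul, dec_code]

variable {e : W →* S} {h : S} {f : W →* W} {c : W}

theorem big_code (w : W) : big e h (code w) = e w := by
  have := code_lt w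
  rw [big, Nat.mod_eq_of_lt this, Nat.div_eq_of_lt this, pow_zero, mul_one, dec_code]

theorem big_h : big e h 128 = h := by
  rw [big, Nat.mod_self, show dec 0 = (1 : W) from rfl, map_one, one_mul,
    Nat.div_self (by norm_num), pow_one]

theorem big_mul (hx : Ext e h f c) {u v : ℕ} (hu : u < 256) (hv : v < 256) :
    em (trip f) (code c) u v < 256 ∧
      big e h u * big e h v = big e h (em (trip f) (code c) u v) := by
  have hxy : ∀ x y : W, pm (code x) (code y) = code (x * y) := fun x y => (code_mul x y).symm
  have hfy : ∀ y : W, ap (trip f) (code y) = code (f y) := fun y => (code_f f y).symm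
  have swap : ∀ y : W, h * e y = e (f y) * h := fun y => by
    rw [← hx.conj y, inv_mul_cancel_right]
  obtain ⟨x, hxu⟩ : ∃ x, code x = u % 128 := ⟨dec (u % 128), code_dec (Nat.mod_lt _ (by norm_num))⟩
  obtain ⟨y, hyv⟩ : ∃ y, code y = v % 128 := ⟨dec (v % 128), code_dec (Nat.mod_lt _ (by norm_num))⟩
  have bu : big e h u = e x * h ^ (u / 128) := by rw [big, ← hxu, dec_code]
  have bv : big e h v = e y * h ^ (v / 128) := by rw [big, ← hyv, dec_code]
  by_cases hi : u / 128 = 0
  · have hu' : code x = u := by omega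
    have hm : em (trip f) (code c) u v = code (x * y) + 128 * (v / 128) := by
      rw [em, if_pos hi, ← hyv, ← hu', hxy]
    have := code_lt (x * y)
    refine ⟨by omega, ?_⟩
    rw [hm, bu, bv, hi, pow_zero, mul_one, big,
      show (code (x * y) + 128 * (v / 128)) % 128 = code (x * y) by omega,
      show (code (x * y) + 128 * (v / 128)) / 128 = v / 128 by omega, dec_code, map_mul, mul_assoc]
  · have hi1 : u / 128 = 1 := by omega
    by_cases hj : v / 128 = 0
    · have hv' : code y = v := by omega
      have hm : em (trip f) (code c) u v = code (x * f y) + 128 := by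
        rw [em, if_neg hi, if_pos hj, ← hxu, ← hv', hfy, hxy]
      have := code_lt (x * f y)
      refine ⟨by omega, ?_⟩
      rw [hm, bu, bv, hi1, hj, pow_zero, mul_one, pow_one, mul_assoc, swap, big,
        show (code (x * f y) + 128) % 128 = code (x * f y) by omega,
        show (code (x * f y) + 128) / 128 = 1 by omega, dec_code, map_mul, pow_one, mul_assoc]
    · have hj1 : v / 128 = 1 := by omega
      have hm : em (trip f) (code c) u v = code (x * f y * c) := by
        rw [em, if_neg hi, if_neg hj, ← hxu, ← hyv, hfy, hxy, hxy]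
      refine ⟨hm ▸ (code_lt _).trans (by norm_num), ?_⟩
      rw [hm, big_code, bu, bv, hi1, hj1, pow_one, map_mul, map_mul, ← hx.sq]
      calc e x * h * (e y * h) = e x * (h * e y) * h := by simp only [mul_assoc]
        _ = _ := by rw [swap]; simp only [mul_assoc]

theorem big_inj (hx : Ext e h f c) {u v : ℕ} (hu : u < 256) (hv : v < 256)
    (heq : big e h u = big e h v) : u = v := by
  have hd : ∀ {a b : ℕ}, e (dec (a % 128)) * h = e (dec (b % 128)) → False := fun {a b} hab =>
    hx.out ⟨(dec (a % 128))⁻¹ * dec (b % 128), by rw [map_mul, map_inv, ← hab, inv_mul_cancel_left]⟩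
  have hm : ∀ {a b : ℕ}, e (dec (a % 128)) = e (dec (b % 128)) → a % 128 = b % 128 := fun {a b} hab => by
    have := congrArg code (hx.inj hab)
    rwa [code_dec (Nat.mod_lt _ (by norm_num)), code_dec (Nat.mod_lt _ (by norm_num))] at this
  rcases (show u / 128 = 0 ∨ u / 128 = 1 by omega) with hi | hi <;>
    rcases (show v / 128 = 0 ∨ v / 128 = 1 by omega) with hj | hj <;>
      simp only [big, hi, hj, pow_zero, pow_one, mul_one] at heq
  · have := hm heq; omega
  · exact (hd heq.symm).elim
  · exact (hd heq).elim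
  · have := hm (mul_right_cancel heq); omega

theorem look_mem : ∀ {l : List (ℕ × ℕ)} {n t : ℕ}, look l n = some t → (n, t) ∈ l := by
  intro l
  induction l with
  | nil => intro n t h; simp [look] at h
  | cons p l ih =>
    intro n t h
    obtain ⟨k, v⟩ := p
    by_cases hk : k = n
    · subst hk
      simp [look] at h
      simp [h]
    · simp [look, hk] at h
      exact List.mem_cons_of_mem _ (ih h)

/-- Five binary coordinates. -/
def bits (n : ℕ) : Multiplicative (Fin 5 → ZMod 2) :=
  Multiplicative.ofAdd fun j => if n.testBit j then 1 else 0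

theorem bits_xor (a b : ℕ) : bits (a ^^^ b) = bits a * bits b := by
  unfold bits
  rw [← ofAdd_add]
  congr 1
  funext j
  simp only [Nat.testBit_xor, Pi.add_apply]
  cases a.testBit j <;> cases b.testBit j <;> decide

theorem bits_surj (v : Multiplicative (Fin 5 → ZMod 2)) : ∃ n, n < 32 ∧ bits n = v := by
  revert v
  decide +kernel

theorem bits_gen : ∀ n < 32, bits n = bits (n % 2 * 1) * bits (n / 2 % 2 * 2) *
    bits (n / 4 % 2 * 4) * bits (n / 8 % 2 * 8) * bits (n / 16 % 2 * 16) := by decide +kernel

/-- A witness of rank five contradicts sectional rank at most four. -/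
theorem false_of_secCheck [Finite S] (hr : Cfsg.SectionalPRankLE 2 4 S) (hx : Ext e h f c)
    {gens : List ℕ} {tab : List (ℕ × ℕ)} (hc : secCheck (trip f) (code c) gens tab = true) : False := by
  simp only [secCheck, Bool.and_eq_true, List.all_eq_true, beq_iff_eq, decide_eq_true_eq] at hc
  obtain ⟨⟨⟨⟨h0, hlt⟩, hg⟩, hm⟩, hstep⟩ := hc
  let K : Set S := {s | ∃ g ∈ gens, s = big e h g}
  set H := Subgroup.closure K with hH
  have key : ∀ s ∈ H, ∃ u t, look tab u = some t ∧ s = big e h u := by
    intro s hs
    rw [hH, ← Subgroup.mem_toSubmonoid, Subgroup.closure_toSubmonoid_of_finite] at hs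
    induction hs using Submonoid.closure_induction_right with
    | one => exact ⟨0, 0, h0, by rw [← code_one, big_code, map_one]⟩
    | mul_right x hx' y hy ih =>
      obtain ⟨u, t, hu, rfl⟩ := ih
      obtain ⟨g, hgm, rfl⟩ := hy
      exact ⟨_, _, hstep _ (look_mem hu) g hgm,
        (big_mul hx (hlt _ (look_mem hu)).1 (hg g hgm).1).2⟩
  choose! U T hU hs using key
  have uniq : ∀ {x : S} {u : ℕ}, x ∈ H → u < 256 → x = big e h u → U x = u := fun {x u} hxH hu hxu =>
    big_inj hx (hlt _ (look_mem (hU x hxH))).1 hu ((hs x hxH).symm.trans hxu)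
  have tval : ∀ {x : S} {u t : ℕ}, x ∈ H → look tab u = some t → x = big e h u → T x = t :=
    fun {x u t} hxH hu hxu => by
      have := uniq hxH (hlt _ (look_mem hu)).1 hxu
      have h2 := hU x hxH
      rw [this, hu] at h2
      exact (Option.some.inj h2).symm
  have gmem : ∀ g ∈ gens, big e h g ∈ H := fun g hgm => Subgroup.subset_closure ⟨g, hgm, rfl⟩
  have step : ∀ x ∈ H, ∀ g ∈ gens, bits (T (x * big e h g)) = bits (T x) * bits (T (big e h g)) := by
    intro x hxH g hgm
    obtain ⟨tg, htg⟩ := Option.isSome_iff_exists.mp (hg g hgm).2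
    have hxu := hU x hxH
    have e1 := hstep _ (look_mem hxu) g hgm
    rw [htg, Option.getD_some] at e1
    rw [tval (gmem g hgm) htg rfl, tval (mul_mem hxH (gmem g hgm)) e1 (by
      conv_lhs => rw [hs x hxH]
      exact (big_mul hx (hlt _ (look_mem hxu)).1 (hg g hgm).1).2), bits_xor]
  have mul : ∀ x ∈ H, ∀ y ∈ H, bits (T (x * y)) = bits (T x) * bits (T y) := by
    have one : bits (T 1) = 1 := by
      rw [tval (one_mem _) h0 (by rw [← code_one, big_code, map_one])]
      decide +kernel
    intro x hxH y hy
    have hy' := hy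
    rw [hH, ← Subgroup.mem_toSubmonoid, Subgroup.closure_toSubmonoid_of_finite] at hy'
    clear hy
    induction hy' using Submonoid.closure_induction_right with
    | one => rw [mul_one, one, mul_one]
    | mul_right z hz g hgm ih =>
      obtain ⟨g, hgm, rfl⟩ := hgm
      have hzH : z ∈ H := by
        rw [hH, ← Subgroup.mem_toSubmonoid, Subgroup.closure_toSubmonoid_of_finite]; exact hz
      rw [← mul_assoc, step _ (mul_mem hxH hzH) g hgm, ih, step z hzH g hgm, mul_assoc]
  let ψ : ↥H →* Multiplicative (Fin 5 → ZMod 2) :=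
    MonoidHom.mk' (fun x => bits (T x)) fun x y => mul x x.2 y y.2
  have hb : ∀ j : ℕ, j < 5 → bits (2 ^ j) ∈ ψ.range := by
    intro j hj
    have hlen : gens.length = 5 := by simpa using congrArg List.length hm
    have hjl : j < gens.length := by omega
    have e1 : look tab gens[j] = some (2 ^ j) := by
      have e2 := List.getElem_map (fun g => look tab g) (l := gens) (i := j) (h := by simpa using hjl)
      simp only [hm] at e2
      rw [← e2]
      rcases (show j = 0 ∨ j = 1 ∨ j = 2 ∨ j = 3 ∨ j = 4 by omega) with rfl | rfl | rfl | rfl | rfl <;> rfl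
    refine ⟨⟨big e h gens[j], gmem _ (List.getElem_mem hjl)⟩, ?_⟩
    show bits (T _) = _
    rw [tval (gmem _ (List.getElem_mem hjl)) e1 rfl]
  have hsurj : Function.Surjective ψ := by
    intro v
    obtain ⟨n, hn, rfl⟩ := bits_surj v
    rw [← MonoidHom.mem_range, bits_gen n hn]
    have b0 : ∀ i j : ℕ, j < 5 → bits (i % 2 * 2 ^ j) ∈ ψ.range := fun i j hj => by
      rcases Nat.mod_two_eq_zero_or_one i with hi | hi <;> rw [hi]
      · rw [zero_mul, show bits 0 = 1 by decide +kernel]; exact one_mem _
      · rw [one_mul]; exact hb j hj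
    exact mul_mem (mul_mem (mul_mem (mul_mem (b0 n 0 (by norm_num)) (b0 _ 1 (by norm_num)))
      (b0 _ 2 (by norm_num))) (b0 _ 3 (by norm_num))) (b0 _ 4 (by norm_num))
  let q := QuotientGroup.quotientKerEquivOfSurjective ψ hsurj
  have hq := hr H ψ.ker ⊤ ⟨⟨fun a b => Subtype.ext (q.injective (by
    simp only [Subgroup.coe_mul, map_mul]; exact mul_comm _ _))⟩⟩ (fun a _ => q.injective (by
    rw [map_pow, map_one]
    generalize q a = v
    revert v
    decide +kernel))
  rw [Subgroup.card_top, Nat.card_congr q.toEquiv, Nat.card_eq_fintype_card,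
    Fintype.card_multiplicative, Fintype.card_fun, ZMod.card, Fintype.card_fin] at hq
  norm_num at hq

/-- The outer representatives that can occur. -/
theorem index_mem [Finite S] (hr : Cfsg.SectionalPRankLE 2 4 S) (hx : Ext e h f c) {k : ℕ}
    (hk : k < 8) (hf : trip f = autReps.getD k (0, 0, 0)) :
    ∃ d ∈ isoCerts, d.1 = (k, code c) := by
  have h1 := List.all_eq_true.mp (List.all_eq_true.mp sqOK_true k (List.mem_range.mpr hk)) (code c)
    (List.mem_range.mpr (code_lt c))
  simp only [← hf] at h1
  have hfc : f c = c := hx.inj (by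
    rw [← hx.conj c, ← hx.sq]; simp only [mul_assoc, mul_inv_cancel, mul_one])
  have hff : ∀ w, f (f w) = c * w * c⁻¹ := fun w => hx.inj (by
    rw [← hx.conj, ← hx.conj, map_mul, map_mul, map_inv, ← hx.sq, mul_inv_rev]
    simp only [mul_assoc])
  have e1 : ∀ w, ap (trip f) (code (f w)) = pc (code c) (code w) := fun w => by
    rw [← code_f, hff, code_conj]
  have e0 : ap (trip f) (code c) = code c := by rw [← code_f, hfc]
  have eA := e1 gA; have eB := e1 gB; have eT := e1 gT
  rw [show code gA = 1 from rfl] at eA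
  rw [show code gB = 4 from rfl] at eB
  rw [show code gT = 64 from rfl] at eT
  simp only [Bool.or_eq_true, List.contains_iff_mem, List.mem_map, Bool.not_eq_true',
    Bool.and_eq_false_iff, beq_eq_false_iff_ne] at h1
  rcases h1 with h1 | ⟨d, hd, hdk⟩ | ⟨d, hd, hdk⟩
  · exact absurd h1 (by simp [trip] at eA eB eT e0 ⊢; simp [eA, eB, eT, e0])
  · refine (false_of_secCheck hr hx (gens := d.2.1) (tab := d.2.2) ?_).elim
    have := List.all_eq_true.mp secCerts_ok d hd
    rwa [hdk, ← hf] at this
  · exact ⟨d, hd, hdk⟩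

/-- A map onto the model from the group generated by the copy and the element. -/
theorem exists_onto [Finite S] (hx : Ext e h f c) {tab : List ℕ}
    (hc : isoCheck (trip f) (code c) tab = true) (N : Subgroup S)
    (hN : ∀ s, s ∈ N ↔ ∃ u < 256, s = big e h u) :
    ∃ ψ : ↥N →* W, Function.Surjective ψ ∧ ∀ s : ↥N, ψ s = 1 ↔ (s : S) = 1 ∨ (s : S) = e (dec 18) := by
  simp only [isoCheck, Bool.and_eq_true, List.all_eq_true, beq_iff_eq, decide_eq_true_eq,
    Bool.or_eq_true, Bool.not_eq_true', beq_eq_false_iff_ne, List.mem_range,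
    List.contains_iff_mem] at hc
  obtain ⟨⟨⟨⟨h0, hlen⟩, hall⟩, h18⟩, hsur⟩ := hc
  choose U hU hs using fun s : ↥N => (hN s).mp s.2
  let φ : ↥N → W := fun s => dec (tab.getD (U s) 128)
  have cφ : ∀ s, code (φ s) = tab.getD (U s) 128 := fun s => code_dec (hall _ (hU s)).1.1
  have uniq : ∀ (s : ↥N) {u : ℕ}, u < 256 → (s : S) = big e h u → U s = u :=
    fun s {u} hu hsu => big_inj hx (hU s) hu ((hs s).symm.trans hsu)
  have gm : ∀ g, g < 256 → big e h g ∈ N := fun g hg => (hN _).mpr ⟨g, hg, rfl⟩
  have step : ∀ (x : ↥N) (g : ℕ), g ∈ [1, 4, 64, 128] → ∀ hg : g < 256,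
      φ (x * ⟨big e h g, gm g hg⟩) = φ x * φ ⟨big e h g, gm g hg⟩ := by
    intro x g hgm hg
    obtain ⟨hlt, heq⟩ := big_mul hx (hU x) hg
    apply code_inj
    rw [code_mul, cφ, cφ, cφ, uniq ⟨big e h g, gm g hg⟩ hg rfl,
      uniq (x * ⟨big e h g, gm g hg⟩) hlt (by rw [Subgroup.coe_mul]; rw [hs x]; exact heq)]
    exact (hall _ (hU x)).2 g hgm
  let Y : Submonoid ↥N :=
    { carrier := {y | ∀ x, φ (x * y) = φ x * φ y}
      one_mem' := fun x => by
        have : φ 1 = 1 := by
          apply code_inj
          rw [cφ, code_one, uniq 1 (u := 0) (by norm_num)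
            (by rw [Subgroup.coe_one, ← code_one, big_code, map_one])]
          exact (List.getD_eq_getElem?_getD ..).trans (by
            rw [List.getD_eq_getElem?_getD] at h0
            revert h0
            cases tab[0]? <;> simp)
        rw [mul_one, this, mul_one]
      mul_mem' := fun {a b} ha hb x => by rw [← mul_assoc, hb, ha, hb a, mul_assoc] }
  have hY : ∀ y : ↥N, y ∈ Y := by
    have g1 : ∀ g (hgm : g ∈ [1, 4, 64, 128]) (hg : g < 256), (⟨big e h g, gm g hg⟩ : ↥N) ∈ Y :=
      fun g hgm hg x => step x g hgm hg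
    have hmem : ∀ w, e w ∈ N := fun w => big_code (e := e) (h := h) w ▸ gm _ ((code_lt w).trans (by norm_num))
    let j : W →* ↥N := e.codRestrict N hmem
    have jg : ∀ w, code w ∈ [1, 4, 64, 128] → j w ∈ Y := fun w hw => by
      have := g1 _ hw ((code_lt w).trans (by norm_num))
      convert this using 1
      exact Subtype.ext (big_code (e := e) (h := h) w).symm
    have jA : j gA ∈ Y := jg _ (show 1 ∈ _ by simp)
    have jB : j gB ∈ Y := jg _ (show 4 ∈ _ by simp)
    have jT : j gT ∈ Y := jg _ (show 64 ∈ _ by simp)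
    intro y
    have hy : y = j (dec (U y % 128)) * ⟨big e h 128, gm 128 (by norm_num)⟩ ^ (U y / 128) :=
      Subtype.ext (by rw [Subgroup.coe_mul, Subgroup.coe_pow]; simp only [j, MonoidHom.codRestrict_apply, big_h]; exact hs y)
    rw [hy, ← evalG_gens (dec (U y % 128)), map_evalG]
    exact mul_mem (mul_mem (mul_mem (mul_mem (pow_mem jA _) (pow_mem jB _))
      (mul_mem (mul_mem jT (mul_mem (pow_mem jA _) (pow_mem jB _))) jT)) (pow_mem jT _))
      (pow_mem (g1 128 (by simp) (by norm_num)) _)
  refine ⟨MonoidHom.mk' φ fun x y => hY y x, fun w => ?_, fun s => ?_⟩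
  · obtain ⟨u, hu, huw⟩ := List.getElem_of_mem (hsur (code w) (code_lt w))
    have hu' : u < 256 := hlen ▸ hu
    refine ⟨⟨_, gm u hu'⟩, code_inj ?_⟩
    show code (φ _) = _
    rw [cφ, uniq ⟨_, gm u hu'⟩ hu' rfl, List.getD_eq_getElem _ _ hu, huw]
  · have hd : ∀ u, u < 256 → (tab.getD u 128 = 0 ↔ u = 0 ∨ u = 18) := fun u hu => by
      have := (hall u hu).1
      refine ⟨fun hz => ?_, ?_⟩
      · have hlen : u < tab.length := by
          by_contra hl
          rw [List.getD_eq_default _ _ (by omega)] at hz
          norm_num at hz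
        rcases this.2 with (h1 | h1) | h1
        · rw [List.getD_eq_getElem _ _ hlen] at hz h1; exact absurd hz h1
        · exact Or.inl h1
        · exact Or.inr h1
      · have t : ∀ v, tab.getD v 1 = 0 → tab.getD v 128 = 0 := fun v hv => by
          rw [List.getD_eq_getElem?_getD] at hv ⊢
          revert hv
          cases tab[v]? <;> simp
        rintro (rfl | rfl)
        exacts [t _ h0, t _ h18]
    show φ s = 1 ↔ _
    rw [← code_eq_zero, cφ, hd _ (hU s), ← dec_code (dec 18), code_dec (by norm_num : (18:ℕ) < 128),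
      ← map_one e, ← big_code (e := e) (h := h) 1, ← big_code (e := e) (h := h) (dec 18), code_one,
      code_dec (by norm_num : (18:ℕ) < 128)]
    constructor
    · rintro (h1 | h1) <;> [left; right] <;> rw [hs s, h1]
    · rintro (h1 | h1) <;> [left; right] <;> exact uniq s (by norm_num) h1

end Cfsg.Agent.D8WreathModel81
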