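import Mathlib
import Cfsg.Agent.Lib.D8WreathData81

/-!
A computable model of the wreath product of the dihedral group of order eight by a group of order
two, its automorphisms up to inner ones, and the table checks for its extensions by a group of
order two.
-/

set_option autoImplicit false

namespace Cfsg.Agent.D8WreathModel81

/-! ### Arithmetic of codes -/

/-- The product in the dihedral group of order eight, an element being `i + 4 j`. -/
def dm (x y : ℕ) : ℕ :=
  ((if x / 4 = 0 then x % 4 + y % 4 else x % 4 + 4 - y % 4)) % 4 + 4 * ((x / 4 + y / 4) % 2)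

theorem dm_lt (x y : ℕ) : dm x y < 8 := by unfold dm; omega

/-- The product in the wreath square, an element being `a + 8 b + 64 e`. -/
def pm (x y : ℕ) : ℕ :=
  if x / 64 = 0 then dm (x % 8) (y % 8) + 8 * dm (x / 8 % 8) (y / 8 % 8) + 64 * (y / 64)
  else dm (x % 8) (y / 8 % 8) + 8 * dm (x / 8 % 8) (y % 8) + 64 * (1 - y / 64)

/-- Powers of codes. -/
def pw (x : ℕ) : ℕ → ℕ
  | 0 => 0
  | n + 1 => pm (pw x n) x

/-! ### The group -/

/-- The dihedral inverse. -/
def dinv (x : ℕ) : ℕ := if x / 4 = 0 then (4 - x % 4) % 4 else x % 8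

theorem dinv_lt (x : ℕ) : dinv x < 8 := by unfold dinv; split <;> omega

/-- The wreath square of the dihedral group of order eight. -/
structure W where
  /-- first coordinate -/
  a : Fin 8
  /-- second coordinate -/
  b : Fin 8
  /-- the swap -/
  e : Bool
deriving DecidableEq

/-- Product of two dihedral elements. -/
def dmul (x y : Fin 8) : Fin 8 := ⟨dm x y, dm_lt x y⟩

theorem dmul_assoc : ∀ x y z : Fin 8, dmul (dmul x y) z = dmul x (dmul y z) := by decide +kernel

theorem dmul_zero_left : ∀ x : Fin 8, dmul 0 x = x := by decide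

theorem dinv_mul : ∀ x : Fin 8, dmul ⟨dinv x, dinv_lt x⟩ x = 0 := by decide

instance : Mul W := ⟨fun x y =>
  if x.e then ⟨dmul x.a y.b, dmul x.b y.a, !y.e⟩ else ⟨dmul x.a y.a, dmul x.b y.b, y.e⟩⟩

theorem mul_def (x y : W) : x * y =
    if x.e then ⟨dmul x.a y.b, dmul x.b y.a, !y.e⟩ else ⟨dmul x.a y.a, dmul x.b y.b, y.e⟩ := rfl

instance : One W := ⟨⟨0, 0, false⟩⟩

theorem one_def : (1 : W) = ⟨0, 0, false⟩ := rfl

instance : Inv W := ⟨fun x =>
  if x.e then ⟨⟨dinv x.b, dinv_lt _⟩, ⟨dinv x.a, dinv_lt _⟩, true⟩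
  else ⟨⟨dinv x.a, dinv_lt _⟩, ⟨dinv x.b, dinv_lt _⟩, false⟩⟩

theorem inv_def (x : W) : x⁻¹ =
    if x.e then ⟨⟨dinv x.b, dinv_lt _⟩, ⟨dinv x.a, dinv_lt _⟩, true⟩
    else ⟨⟨dinv x.a, dinv_lt _⟩, ⟨dinv x.b, dinv_lt _⟩, false⟩ := rfl

instance : Group W := Group.ofLeftAxioms
  (fun x y z => by
    rcases x with ⟨a, b, _ | _⟩ <;> rcases y with ⟨a', b', _ | _⟩ <;> rcases z with ⟨a'', b'', _⟩ <;>
      simp [mul_def, dmul_assoc])
  (fun x => by rcases x with ⟨a, b, _⟩; simp [mul_def, one_def, dmul_zero_left])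
  (fun x => by rcases x with ⟨a, b, _ | _⟩ <;> simp [mul_def, inv_def, one_def, dinv_mul])

/-- The code of an element. -/
def code (x : W) : ℕ := x.a.val + 8 * x.b.val + 64 * x.e.toNat

/-- The element of a code. -/
def dec (n : ℕ) : W :=
  ⟨⟨n % 8, by omega⟩, ⟨n / 8 % 8, by omega⟩, decide (n / 64 % 2 = 1)⟩

theorem code_lt (x : W) : code x < 128 := by
  rcases x with ⟨a, b, _ | _⟩ <;> simp [code] <;> omega

theorem dec_code (x : W) : dec (code x) = x := by
  rcases x with ⟨a, b, e⟩
  have ha := a.isLt; have hb := b.isLt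
  simp only [dec, code, W.mk.injEq, Fin.ext_iff]
  cases e <;> simp <;> omega

theorem code_dec {n : ℕ} (h : n < 128) : code (dec n) = n := by
  rcases Nat.lt_or_ge n 64 with h' | h'
  · have : n / 64 % 2 = 0 := by omega
    simp [code, dec, this]; omega
  · have : n / 64 % 2 = 1 := by omega
    simp [code, dec, this]; omega

theorem code_inj : Function.Injective code := Function.LeftInverse.injective dec_code

theorem code_one : code 1 = 0 := rfl

theorem code_eq_zero {x : W} : code x = 0 ↔ x = 1 :=
  ⟨fun h => code_inj (h.trans code_one.symm), fun h => h ▸ code_one⟩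

theorem code_fields (x : W) :
    code x % 8 = x.a.val ∧ code x / 8 % 8 = x.b.val ∧ code x / 64 = x.e.toNat := by
  rcases x with ⟨a, b, _ | _⟩ <;> simp [code] <;> omega

theorem code_mul (x y : W) : code (x * y) = pm (code x) (code y) := by
  obtain ⟨h1, h2, h3⟩ := code_fields x
  obtain ⟨k1, k2, k3⟩ := code_fields y
  unfold pm
  rw [h1, h2, h3, k1, k2, k3]
  rcases x with ⟨a, b, _ | _⟩ <;> rcases y with ⟨a', b', _ | _⟩ <;> simp [mul_def, code, dmul]

theorem code_pow (x : W) (n : ℕ) : code (x ^ n) = pw (code x) n := by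
  induction n with
  | zero => simp [pw, code_one]
  | succ n ih => rw [pow_succ, code_mul, ih]; rfl

/-- The three generators. -/
def gA : W := dec 1
/-- The second generator. -/
def gB : W := dec 4
/-- The swap. -/
def gT : W := dec 64

instance : Fintype W :=
  Fintype.ofEquiv (Fin 8 × Fin 8 × Bool)
    ⟨fun p => ⟨p.1, p.2.1, p.2.2⟩, fun x => (x.a, x.b, x.e), fun _ => rfl, fun _ => rfl⟩

theorem card_W : Nat.card W = 128 := by
  rw [Nat.card_eq_fintype_card, Fintype.ofEquiv_card]; rfl

/-! ### Words -/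

/-- The value of the word of a code at three given elements. -/
def evalG {G : Type*} [Group G] (X Y U : G) (n : ℕ) : G :=
  X ^ (n % 4) * Y ^ (n / 4 % 2) * (U * (X ^ (n / 8 % 4) * Y ^ (n / 32 % 2)) * U) * U ^ (n / 64 % 2)

theorem map_evalG {G K : Type*} [Group G] [Group K] (f : G →* K) (X Y U : G) (n : ℕ) :
    f (evalG X Y U n) = evalG (f X) (f Y) (f U) n := by simp [evalG]

/-- The code of the value of a word at three given codes. -/
def ap (r : ℕ × ℕ × ℕ) (n : ℕ) : ℕ :=
  pm (pm (pm (pw r.1 (n % 4)) (pw r.2.1 (n / 4 % 2)))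
    (pm (pm r.2.2 (pm (pw r.1 (n / 8 % 4)) (pw r.2.1 (n / 32 % 2)))) r.2.2)) (pw r.2.2 (n / 64 % 2))

theorem code_evalG (X Y U : W) (n : ℕ) :
    code (evalG X Y U n) = ap (code X, code Y, code U) n := by
  simp [evalG, ap, code_mul, code_pow]

theorem ap_gens : (List.range 128).all (fun n => ap (1, 4, 64) n == n) = true := by decide +kernel

theorem evalG_gens (w : W) : evalG gA gB gT (code w) = w := by
  apply code_inj
  rw [code_evalG]
  have h := List.all_eq_true.mp ap_gens (code w) (List.mem_range.mpr (code_lt w))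
  exact eq_of_beq h

theorem code_hom (f : W →* W) (w : W) :
    code (f w) = ap (code (f gA), code (f gB), code (f gT)) (code w) := by
  conv_lhs => rw [← evalG_gens w, map_evalG, code_evalG]

theorem hom_ext_gens {G : Type*} [Group G] {f g : W →* G} (hA : f gA = g gA) (hB : f gB = g gB)
    (hT : f gT = g gT) : f = g := by
  ext w
  rw [← evalG_gens w, map_evalG, map_evalG, hA, hB, hT]

/-! ### The faithful action on eight points -/

/-- The action of a dihedral element on four points. -/
def d4 (x : Fin 8) : Equiv.Perm (Fin 4) where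
  toFun i := if x.val / 4 = 0 then i + (Fin.ofNat 4 x.val) else (Fin.ofNat 4 x.val) - i
  invFun i := if x.val / 4 = 0 then i - (Fin.ofNat 4 x.val) else (Fin.ofNat 4 x.val) - i
  left_inv i := by split <;> simp
  right_inv i := by split <;> simp

theorem d4_mul : ∀ (x y : Fin 8) (i : Fin 4), d4 (dmul x y) i = d4 x (d4 y i) := by decide +kernel

/-- The action of the model on two copies of four points. -/
def act (w : W) : Equiv.Perm (Fin 4 ⊕ Fin 4) :=
  Equiv.sumCongr (d4 w.a) (d4 w.b) * if w.e then Equiv.sumComm (Fin 4) (Fin 4) else 1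

theorem act_mul (x y : W) : act (x * y) = act x * act y := by
  rcases x with ⟨a, b, _ | _⟩ <;> rcases y with ⟨a', b', _ | _⟩ <;> ext (i | i) <;>
    simp [act, mul_def, d4_mul]

/-- The embedding in the symmetric group of degree eight. -/
def toPerm : W →* Equiv.Perm (Fin 8) where
  toFun w := finSumFinEquiv.permCongr (act w)
  map_one' := by
    ext i
    revert i
    decide +kernel
  map_mul' x y := by
    rw [act_mul]; ext i; simp [Equiv.permCongr_apply]

theorem toPerm_injective : Function.Injective toPerm := by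
  rw [injective_iff_map_eq_one]
  intro w h
  have h' : ∀ i, toPerm w i = i := fun i => by rw [h]; rfl
  revert h'
  revert w
  intro w h h'
  rw [← dec_code w] at h' ⊢
  have key : (List.range 128).all (fun n => decide ((∀ i, toPerm (dec n) i = i) → n = 0)) = true := by
    decide +kernel
  have := List.all_eq_true.mp key (code w) (List.mem_range.mpr (code_lt w))
  rw [of_decide_eq_true this h']
  exact dec_code (1 : W) ▸ (by rw [code_one])

theorem nonempty_equiv_sylow (T : Sylow 2 (Equiv.Perm (Fin 8))) :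
    Nonempty (W ≃* ↥(T : Subgroup (Equiv.Perm (Fin 8)))) := by
  have hc : Nat.card toPerm.range = 2 ^ (Nat.card (Equiv.Perm (Fin 8))).factorization 2 := by
    have h8 : Nat.card (Equiv.Perm (Fin 8)) = 2 ^ 7 * 315 := by
      rw [Nat.card_eq_fintype_card, Fintype.card_perm, Fintype.card_fin]; rfl
    have hf : (Nat.card (Equiv.Perm (Fin 8))).factorization 2 = 7 := by
      rw [h8, Nat.factorization_mul (by norm_num) (by norm_num),
        Nat.prime_two.factorization_pow, Finsupp.add_apply,
        Nat.factorization_eq_zero_of_not_dvd (show ¬ 2 ∣ 315 by norm_num)]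
      simp
    rw [← Nat.card_congr (MonoidHom.ofInjective toPerm_injective).toEquiv, card_W, hf]
    rfl
  exact ⟨(MonoidHom.ofInjective toPerm_injective).trans
    ((MulEquiv.subgroupCongr (Sylow.coe_ofCard toPerm.range hc).symm).trans
      ((Sylow.ofCard toPerm.range hc).equiv T))⟩

end Cfsg.Agent.D8WreathModel81
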