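import Mathlib

/-!
Certificate tables for the elements of order three of the simple group of type D4 over the field with three elements.
A number codes the coordinates of a unipotent element in base three.
-/

set_option autoImplicit false
set_option maxRecDepth 20000

namespace Cfsg.Agent.DFourThreeData29

/-- The fundamental roots. -/
def simples : List ℕ := [18, 14, 13, 12]

/-- Representatives of the levels of the descent. -/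
def reps : List (List ℕ) := [[0],
  [0, 1],
  [0, 1, 3, 4, 7],
  [0, 1, 3, 4, 7, 9, 10, 12, 13, 16],
  [0, 1, 3, 4, 7, 9, 10, 12, 13, 16, 27, 30],
  [0, 1, 3, 4, 7, 9, 10, 12, 13, 16, 27, 30, 81, 82, 85, 88,
   108, 189],
  [0, 1, 3, 4, 7, 9, 10, 12, 13, 16, 27, 30, 81, 82, 85, 88,
   108, 189, 243, 252, 495],
  [0, 1, 3, 4, 7, 9, 10, 12, 13, 16, 27, 30, 81, 82, 85, 88,
   108, 189, 243, 252, 495, 729, 730, 732, 733, 736, 738, 739, 741, 742, 745, 756,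
   759, 810, 811, 814, 817, 837, 918, 972, 981, 1224, 1459, 1461, 1462, 1465, 1468, 1470,
   1471, 1474, 1488, 1540, 1543, 1546],
  [0, 1, 3, 4, 7, 9, 10, 12, 13, 16, 27, 30, 81, 82, 85, 88,
   108, 189, 243, 252, 495, 729, 730, 732, 733, 736, 738, 739, 741, 742, 745, 756,
   759, 810, 811, 814, 817, 837, 918, 972, 981, 1224, 1459, 1461, 1462, 1465, 1468, 1470,
   1471, 1474, 1488, 1540, 1543, 1546, 2187, 2188, 2190, 2191, 2194, 2214, 2217, 2268, 2269, 2272,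
   2275, 2295, 2376, 2430, 2917, 2919, 2920, 2923, 2946, 2998, 3001, 3004, 3646, 3648, 3649, 3652,
   3675, 3727, 3730, 3733, 4401, 4404, 4455, 4456, 4459, 4462, 4482, 4563, 5133, 5185, 5188, 5191,
   5862, 5914, 5917, 5920],
  [0, 1, 3, 4, 7, 9, 10, 12, 13, 16, 27, 30, 81, 82, 85, 88,
   108, 189, 243, 252, 495, 729, 730, 732, 733, 736, 738, 739, 741, 742, 745, 756,
   759, 810, 811, 814, 817, 837, 918, 972, 981, 1224, 1459, 1461, 1462, 1465, 1468, 1470,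
   1471, 1474, 1488, 1540, 1543, 1546, 2187, 2188, 2190, 2191, 2194, 2214, 2217, 2268, 2269, 2272,
   2275, 2295, 2376, 2430, 2917, 2919, 2920, 2923, 2946, 2998, 3001, 3004, 3646, 3648, 3649, 3652,
   3675, 3727, 3730, 3733, 4401, 4404, 4455, 4456, 4459, 4462, 4482, 4563, 5133, 5185, 5188, 5191,
   5862, 5914, 5917, 5920, 6561, 6564, 6570, 6573, 6642, 6804, 6813, 7056, 7293, 7302, 8022, 8031,
   8829, 11016, 13131, 13134, 13365, 13374, 13617, 13863, 14592],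
  [0, 1, 3, 4, 7, 9, 10, 12, 13, 16, 27, 30, 81, 82, 85, 88,
   108, 189, 243, 252, 495, 729, 730, 732, 733, 736, 738, 739, 741, 742, 745, 756,
   759, 810, 811, 814, 817, 837, 918, 972, 981, 1224, 1459, 1461, 1462, 1465, 1468, 1470,
   1471, 1474, 1488, 1540, 1543, 1546, 2187, 2188, 2190, 2191, 2194, 2214, 2217, 2268, 2269, 2272,
   2275, 2295, 2376, 2430, 2917, 2919, 2920, 2923, 2946, 2998, 3001, 3004, 3646, 3648, 3649, 3652,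
   3675, 3727, 3730, 3733, 4401, 4404, 4455, 4456, 4459, 4462, 4482, 4563, 5133, 5185, 5188, 5191,
   5862, 5914, 5917, 5920, 6561, 6564, 6570, 6573, 6642, 6804, 6813, 7056, 7293, 7302, 8022, 8031,
   8829, 11016, 13131, 13134, 13365, 13374, 13617, 13863, 14592, 19683, 19684, 19687, 19690, 19692, 19693, 19696,
   19699, 19710, 19791, 19872, 19926, 19935, 20178, 20413, 20422, 21142, 21151, 21897, 24084, 26244, 26253, 26487,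
   26496, 26739, 32814, 33048, 33057, 33300, 39375, 39376, 39379, 39382, 39609, 39618, 39861, 40105, 40834, 45927,
   45936, 46170, 46179, 46422, 52497, 52731, 52740, 52983],
  [0, 1, 3, 4, 7, 9, 10, 12, 13, 16, 27, 30, 81, 82, 85, 88,
   108, 189, 243, 252, 495, 729, 730, 732, 733, 736, 738, 739, 741, 742, 745, 756,
   759, 810, 811, 814, 817, 837, 918, 972, 981, 1224, 1459, 1461, 1462, 1465, 1468, 1470,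
   1471, 1474, 1488, 1540, 1543, 1546, 2187, 2188, 2190, 2191, 2194, 2214, 2217, 2268, 2269, 2272,
   2275, 2295, 2376, 2430, 2917, 2919, 2920, 2923, 2946, 2998, 3001, 3004, 3646, 3648, 3649, 3652,
   3675, 3727, 3730, 3733, 4401, 4404, 4455, 4456, 4459, 4462, 4482, 4563, 5133, 5185, 5188, 5191,
   5862, 5914, 5917, 5920, 6561, 6564, 6570, 6573, 6642, 6804, 6813, 7056, 7293, 7302, 8022, 8031,
   8829, 11016, 13131, 13134, 13365, 13374, 13617, 13863, 14592, 19683, 19684, 19687, 19690, 19692, 19693, 19696,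
   19699, 19710, 19791, 19872, 19926, 19935, 20178, 20413, 20422, 21142, 21151, 21897, 24084, 26244, 26253, 26487,
   26496, 26739, 32814, 33048, 33057, 33300, 39375, 39376, 39379, 39382, 39609, 39618, 39861, 40105, 40834, 45927,
   45936, 46170, 46179, 46422, 52497, 52731, 52740, 52983, 59049, 59058, 59076, 59130, 59157, 59238, 59301, 59544,
   61236, 61263, 61317, 61344, 61425, 63450, 63504, 63531, 63612, 65619, 65862, 66105, 72180, 72423, 72666, 78741,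
   78984, 79227, 85302, 85545, 85788, 91863, 92106, 92349, 98424, 98667, 98910, 104985, 105228, 105471, 111546, 111789,
   112032, 118125, 118179, 118206, 118287, 120285, 120312, 120366, 120393, 120474, 122499, 122553, 122580, 122661],
  [0, 1, 3, 4, 7, 9, 10, 12, 13, 16, 27, 30, 81, 82, 85, 88,
   108, 189, 243, 252, 495, 729, 730, 732, 733, 736, 738, 739, 741, 742, 745, 756,
   759, 810, 811, 814, 817, 837, 918, 972, 981, 1224, 1459, 1461, 1462, 1465, 1468, 1470,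
   1471, 1474, 1488, 1540, 1543, 1546, 2187, 2188, 2190, 2191, 2194, 2214, 2217, 2268, 2269, 2272,
   2275, 2295, 2376, 2430, 2917, 2919, 2920, 2923, 2946, 2998, 3001, 3004, 3646, 3648, 3649, 3652,
   3675, 3727, 3730, 3733, 4401, 4404, 4455, 4456, 4459, 4462, 4482, 4563, 5133, 5185, 5188, 5191,
   5862, 5914, 5917, 5920, 6561, 6564, 6570, 6573, 6642, 6804, 6813, 7056, 7293, 7302, 8022, 8031,
   8829, 11016, 13131, 13134, 13365, 13374, 13617, 13863, 14592, 19683, 19684, 19687, 19690, 19692, 19693, 19696,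
   19699, 19710, 19791, 19872, 19926, 19935, 20178, 20413, 20422, 21142, 21151, 21897, 24084, 26244, 26253, 26487,
   26496, 26739, 32814, 33048, 33057, 33300, 39375, 39376, 39379, 39382, 39609, 39618, 39861, 40105, 40834, 45927,
   45936, 46170, 46179, 46422, 52497, 52731, 52740, 52983, 59049, 59058, 59076, 59130, 59157, 59238, 59301, 59544,
   61236, 61263, 61317, 61344, 61425, 63450, 63504, 63531, 63612, 65619, 65862, 66105, 72180, 72423, 72666, 78741,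
   78984, 79227, 85302, 85545, 85788, 91863, 92106, 92349, 98424, 98667, 98910, 104985, 105228, 105471, 111546, 111789,
   112032, 118125, 118179, 118206, 118287, 120285, 120312, 120366, 120393, 120474, 122499, 122553, 122580, 122661, 177147, 177148,
   177150, 177151, 177154, 177876, 177877, 177879, 177880, 177883, 178606, 178608, 178609, 178612, 354295, 354297, 354298, 354301,
   355023, 355024, 355026, 355027, 355030, 355753, 355755, 355756, 355759]]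

/-- Conjugating moves at level 0. -/
def moves0 : List (List ℕ × ℕ) := [([], 0), ([], 1), ([5], 1)]

/-- Conjugating moves at level 1. -/
def moves1 : List (List ℕ × ℕ) := [([], 0), ([], 3), ([5], 3), ([], 1), ([], 4),
   ([], 7)]

/-- Conjugating moves at level 2. -/
def moves2 : List (List ℕ × ℕ) := [([], 0), ([], 9), ([4], 9), ([], 1), ([], 10),
   ([4], 10), ([], 3), ([], 12), ([4], 12), ([], 4),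
   ([], 13), ([4], 13), ([], 7), ([], 16), ([4], 16)]

/-- Conjugating moves at level 3. -/
def moves3 : List (List ℕ × ℕ) := [([], 0), ([], 27), ([4], 27), ([], 1), ([1, 1, 1, 1], 1),
   ([1, 1], 1), ([], 3), ([], 30), ([4], 30), ([], 4),
   ([1, 1, 1, 1], 409), ([1, 1], 571), ([], 7), ([1, 1, 1, 1], 574), ([1, 1], 412),
   ([], 9), ([3, 3], 9), ([3, 3, 3, 3], 9), ([], 10), ([3, 3], 10),
   ([1, 1], 10), ([], 12), ([3, 3], 12), ([3, 3, 3, 3], 12), ([], 13),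
   ([3, 3], 13), ([1, 1], 580), ([], 16), ([3, 3], 16), ([1, 1], 421)]

/-- Conjugating moves at level 4. -/
def moves4 : List (List ℕ × ℕ) := [([], 0), ([], 81), ([4], 81), ([], 1), ([], 82),
   ([4], 82), ([], 3), ([1, 1, 1, 1], 3), ([1, 1], 3), ([], 4),
   ([], 85), ([4], 85), ([], 7), ([], 88), ([4], 88),
   ([], 9), ([2, 2], 9), ([2, 2, 2, 2], 9), ([], 10), ([2, 2], 10),
   ([2, 2, 2, 2], 10), ([], 12), ([2, 2], 12), ([1, 1], 12), ([], 13),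
   ([2, 2], 13), ([3, 3, 1, 1], 13), ([], 16), ([2, 2], 16), ([2, 2, 2, 2], 16),
   ([], 27), ([], 108), ([], 189), ([], 30), ([1, 1, 1, 1], 30),
   ([1, 1], 30)]

/-- Conjugating moves at level 5. -/
def moves5 : List (List ℕ × ℕ) := [([], 0), ([], 243), ([4], 243), ([], 1), ([1, 1, 2, 2, 1, 1, 1, 1], 1),
   ([1, 1, 1, 1, 2, 2, 1, 1], 1), ([], 3), ([1, 1, 3, 3, 1, 1, 1, 1], 3), ([1, 1, 1, 1, 3, 3, 1, 1], 3), ([], 4),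
   ([1, 1, 2, 2, 1, 1, 1, 1], 4), ([1, 1, 1, 1, 2, 2, 1, 1], 4), ([], 7), ([1, 1, 2, 2, 1, 1, 1, 1], 7), ([1, 1, 3, 3, 1, 1, 1, 1], 7),
   ([], 9), ([], 252), ([], 495), ([], 10), ([3, 3, 2, 2, 2, 2, 1, 1, 2, 2], 10),
   ([3, 3, 2, 2, 1, 1, 2, 2, 2, 2], 10), ([], 12), ([3, 3, 3, 3, 1, 1, 3, 3, 2, 2], 12), ([3, 3, 1, 1, 3, 3, 3, 3, 2, 2], 12), ([], 13),
   ([3, 3, 1, 1, 2, 2], 13), ([1, 1, 3, 3, 2, 2], 13), ([], 16), ([3, 3, 2, 2, 1, 1, 2, 2], 16), ([3, 3, 1, 1, 2, 2, 2, 2], 16),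
   ([], 27), ([2, 2], 27), ([2, 2, 2, 2], 27), ([], 30), ([2, 2], 30),
   ([2, 2, 2, 2], 30), ([], 81), ([3, 3], 81), ([3, 3, 3, 3], 81), ([], 82),
   ([3, 3], 82), ([3, 3, 3, 3], 82), ([], 85), ([3, 3], 85), ([3, 3, 3, 3], 85),
   ([], 88), ([3, 3], 88), ([3, 3, 3, 3], 88), ([], 108), ([2, 2], 108),
   ([2, 2, 2, 2], 108), ([], 189), ([2, 2], 189), ([3, 3], 189)]

/-- Conjugating moves at level 6. -/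
def moves6 : List (List ℕ × ℕ) := [([], 0), ([], 729), ([5], 729), ([], 1), ([], 730),
   ([], 1459), ([], 3), ([], 732), ([], 1461), ([], 4),
   ([], 733), ([], 1462), ([], 7), ([], 736), ([], 1465),
   ([], 9), ([], 738), ([5], 738), ([], 10), ([], 739),
   ([], 1468), ([], 12), ([], 741), ([], 1470), ([], 13),
   ([], 742), ([], 1471), ([], 16), ([], 745), ([], 1474),
   ([], 27), ([], 756), ([5, 4], 756), ([], 30), ([], 759),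
   ([], 1488), ([], 81), ([], 810), ([5, 4], 810), ([], 82),
   ([], 811), ([], 1540), ([], 85), ([], 814), ([], 1543),
   ([], 88), ([], 817), ([], 1546), ([], 108), ([], 837),
   ([5, 4], 837), ([], 189), ([], 918), ([5, 4], 918), ([], 243),
   ([], 972), ([5], 972), ([], 252), ([], 981), ([5], 981),
   ([], 495), ([], 1224), ([5], 1224)]

/-- Conjugating moves at level 7. -/
def moves7 : List (List ℕ × ℕ) := [([], 0), ([], 2187), ([4], 2187), ([], 1), ([], 2188),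
   ([4], 2188), ([], 3), ([], 2190), ([4], 2190), ([], 4),
   ([], 2191), ([4], 2191), ([], 7), ([], 2194), ([4], 2194),
   ([], 9), ([0, 0, 0, 0], 9), ([0, 0], 9), ([], 10), ([0, 0, 0, 0], 10),
   ([0, 0], 10), ([], 12), ([0, 0, 0, 0], 12), ([0, 0], 12), ([], 13),
   ([0, 0, 0, 0], 13), ([0, 0], 13), ([], 16), ([0, 0, 0, 0], 16), ([0, 0], 16),
   ([], 27), ([], 2214), ([], 4401), ([], 30), ([], 2217),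
   ([], 4404), ([], 81), ([], 2268), ([], 4455), ([], 82),
   ([], 2269), ([], 4456), ([], 85), ([], 2272), ([], 4459),
   ([], 88), ([], 2275), ([], 4462), ([], 108), ([], 2295),
   ([], 4482), ([], 189), ([], 2376), ([], 4563), ([], 243),
   ([], 2430), ([5], 2430), ([], 252), ([0, 0, 0, 0], 295497), ([0, 0], 413595),
   ([], 495), ([0, 0, 0, 0], 413838), ([0, 0], 295740), ([], 729), ([1, 1], 729),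
   ([1, 1, 1, 1], 729), ([], 730), ([], 2917), ([4], 2917), ([], 732),
   ([], 2919), ([4], 2919), ([], 733), ([], 2920), ([4], 2920),
   ([], 736), ([], 2923), ([4], 2923), ([], 738), ([1, 1], 738),
   ([0, 0], 738), ([], 739), ([0, 0, 0, 0], 739), ([0, 0], 739), ([], 741),
   ([0, 0, 0, 0], 741), ([0, 0], 741), ([], 742), ([0, 0, 0, 0], 742), ([0, 0], 742),
   ([], 745), ([0, 0, 0, 0], 745), ([0, 0], 745), ([], 756), ([1, 1], 756),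
   ([1, 1, 1, 1], 756), ([], 759), ([], 2946), ([], 5133), ([], 810),
   ([1, 1], 810), ([1, 1, 1, 1], 810), ([], 811), ([], 2998), ([], 5185),
   ([], 814), ([], 3001), ([], 5188), ([], 817), ([], 3004),
   ([], 5191), ([], 837), ([1, 1], 837), ([1, 1, 1, 1], 837), ([], 918),
   ([1, 1], 918), ([1, 1, 1, 1], 918), ([], 972), ([1, 1], 972), ([1, 1, 1, 1], 972),
   ([], 981), ([1, 1], 981), ([0, 0], 414324), ([], 1224), ([1, 1], 1224),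
   ([0, 0], 296469), ([], 1459), ([], 3646), ([4], 3646), ([], 1461),
   ([], 3648), ([4], 3648), ([], 1462), ([], 3649), ([4], 3649),
   ([], 1465), ([], 3652), ([4], 3652), ([], 1468), ([0, 0, 0, 0], 1468),
   ([0, 0], 1468), ([], 1470), ([0, 0, 0, 0], 1470), ([0, 0], 1470), ([], 1471),
   ([0, 0, 0, 0], 1471), ([0, 0], 1471), ([], 1474), ([0, 0, 0, 0], 1474), ([0, 0], 1474),
   ([], 1488), ([], 3675), ([], 5862), ([], 1540), ([], 3727),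
   ([], 5914), ([], 1543), ([], 3730), ([], 5917), ([], 1546),
   ([], 3733), ([], 5920)]

/-- Conjugating moves at level 8. -/
def moves8 : List (List ℕ × ℕ) := [([], 0), ([], 6561), ([4], 6561), ([], 1), ([1, 1, 1, 1, 0, 0, 1, 1], 1),
   ([1, 1, 4, 0, 0, 1, 1], 1), ([], 3), ([], 6564), ([4], 6564), ([], 4),
   ([1, 1, 1, 1, 0, 0, 1, 1], 98419), ([1, 1, 4, 0, 0, 1, 1], 98419), ([], 7), ([1, 1, 1, 1, 0, 0, 1, 1], 137788), ([1, 1, 4, 0, 0, 1, 1], 137788),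
   ([], 9), ([], 6570), ([], 13131), ([], 10), ([3, 3, 0, 0, 1, 1, 0, 0, 0, 0], 10),
   ([3, 3, 0, 0, 0, 0, 1, 1, 0, 0], 10), ([], 12), ([], 6573), ([], 13134), ([], 13),
   ([1, 1, 1, 1, 0, 0, 1, 1, 0, 0, 0, 0], 452722), ([1, 1, 0, 0, 1, 1, 1, 1, 0, 0, 0, 0], 314941), ([], 16), ([1, 1, 1, 1, 0, 0, 1, 1, 0, 0, 0, 0], 314944), ([1, 1, 0, 0, 1, 1, 1, 1, 0, 0, 0, 0], 452725),
   ([], 27), ([0, 0, 0, 0], 27), ([0, 0], 27), ([], 30), ([0, 0, 0, 0], 30),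
   ([0, 0], 30), ([], 81), ([], 6642), ([5, 4], 6642), ([], 82),
   ([1, 1, 1, 1, 0, 0, 1, 1], 374059), ([1, 1, 0, 0, 1, 1, 1, 1], 196912), ([], 85), ([1, 1, 1, 1, 0, 0, 1, 1], 413428), ([1, 1, 0, 0, 1, 1, 1, 1], 334696),
   ([], 88), ([1, 1, 1, 1, 0, 0, 1, 1], 511846), ([1, 1, 0, 0, 1, 1, 1, 1], 236284), ([], 108), ([0, 0, 0, 0], 393768),
   ([0, 0], 196938), ([], 189), ([0, 0, 0, 0], 197019), ([0, 0], 393849), ([], 243),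
   ([], 6804), ([], 13365), ([], 252), ([], 6813), ([], 13374),
   ([], 495), ([], 7056), ([], 13617), ([], 729), ([1, 1, 1, 1, 3, 3, 1, 1], 729),
   ([1, 1, 3, 3, 1, 1, 1, 1], 729), ([], 730), ([1, 1, 1, 1, 0, 0, 1, 1], 730), ([1, 1, 4, 0, 0, 1, 1], 730), ([], 732),
   ([], 7293), ([4], 7293), ([], 733), ([1, 1, 1, 1, 0, 0, 1, 1], 99148), ([1, 1, 4, 0, 0, 1, 1], 99148),
   ([], 736), ([1, 1, 1, 1, 0, 0, 1, 1], 138517), ([1, 1, 4, 0, 0, 1, 1], 138517), ([], 738), ([3, 3, 1, 1, 3, 3, 3, 3, 0, 0], 738),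
   ([3, 3, 3, 3, 1, 1, 3, 3, 0, 0], 738), ([], 739), ([3, 3, 0, 0, 1, 1], 739), ([1, 1, 3, 3, 0, 0], 739), ([], 741),
   ([], 7302), ([], 13863), ([], 742), ([3, 3, 2, 2, 0, 0, 1, 1], 40108), ([1, 1, 0, 0, 1, 1, 1, 1, 0, 0, 0, 0], 315670),
   ([], 745), ([3, 3, 2, 2, 2, 2, 0, 0, 1, 1], 20428), ([2, 2, 1, 1, 3, 3, 2, 2, 0, 0], 433771), ([], 756), ([0, 0, 0, 0], 756),
   ([0, 0], 756), ([], 759), ([0, 0, 0, 0], 759), ([0, 0], 759), ([], 810),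
   ([3, 3, 1, 1, 3, 3, 3, 3, 1, 1, 1, 1], 810), ([3, 3, 3, 3, 1, 1, 3, 3, 1, 1, 1, 1], 810), ([], 811), ([1, 1, 1, 1, 0, 0, 1, 1], 374788), ([1, 1, 0, 0, 1, 1, 1, 1], 197641),
   ([], 814), ([1, 1, 1, 1, 0, 0, 1, 1], 414157), ([1, 1, 0, 0, 1, 1, 1, 1], 335425), ([], 817), ([1, 1, 1, 1, 0, 0, 1, 1], 512575),
   ([1, 1, 0, 0, 1, 1, 1, 1], 237013), ([], 837), ([0, 0, 0, 0], 394497), ([0, 0], 197667), ([], 918),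
   ([0, 0, 0, 0], 197748), ([0, 0], 394578), ([], 972), ([1, 1, 1, 1, 3, 3, 1, 1], 972), ([1, 1, 3, 3, 1, 1, 1, 1], 972),
   ([], 981), ([3, 3, 1, 1, 3, 3, 3, 3, 0, 0], 414324), ([3, 3, 3, 3, 1, 1, 3, 3, 0, 0], 414324), ([], 1224), ([3, 3, 1, 1, 3, 3, 3, 3, 0, 0], 296469),
   ([3, 3, 3, 3, 1, 1, 3, 3, 0, 0], 296469), ([], 1459), ([1, 1, 1, 1, 0, 0, 1, 1], 1459), ([1, 1, 4, 0, 0, 1, 1], 1459), ([], 1461),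
   ([], 8022), ([4], 8022), ([], 1462), ([1, 1, 1, 1, 0, 0, 1, 1], 99877), ([1, 1, 4, 0, 0, 1, 1], 99877),
   ([], 1465), ([1, 1, 1, 1, 0, 0, 1, 1], 139246), ([1, 1, 4, 0, 0, 1, 1], 139246), ([], 1468), ([1, 1, 3, 3, 0, 0, 0, 0], 1468),
   ([0, 0, 1, 1, 3, 3, 0, 0], 1468), ([], 1470), ([], 8031), ([], 14592), ([], 1471),
   ([3, 3, 2, 2, 0, 0, 1, 1, 0, 0], 40837), ([3, 3, 2, 2, 0, 0, 0, 0, 1, 1], 21154), ([], 1474), ([1, 1, 1, 1, 0, 0, 1, 1, 0, 0, 0, 0], 316402), ([1, 1, 0, 0, 1, 1, 1, 1, 0, 0, 0, 0], 454183),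
   ([], 1488), ([0, 0, 0, 0], 1488), ([0, 0], 1488), ([], 1540), ([1, 1, 1, 1, 0, 0, 1, 1], 375517),
   ([1, 1, 0, 0, 1, 1, 1, 1], 198370), ([], 1543), ([1, 1, 1, 1, 0, 0, 1, 1], 414886), ([1, 1, 0, 0, 1, 1, 1, 1], 336154), ([], 1546),
   ([1, 1, 1, 1, 0, 0, 1, 1], 513304), ([1, 1, 0, 0, 1, 1, 1, 1], 237742), ([], 2187), ([3, 3], 2187), ([3, 3, 3, 3], 2187),
   ([], 2188), ([3, 3], 2188), ([3, 3, 3, 3], 2188), ([], 2190), ([3, 3], 2190),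
   ([3, 3, 3, 3], 2190), ([], 2191), ([3, 3], 2191), ([3, 3, 3, 3], 2191), ([], 2194),
   ([3, 3], 2194), ([3, 3, 3, 3], 2194), ([], 2214), ([3, 3], 2214), ([0, 0], 2214),
   ([], 2217), ([3, 3], 2217), ([0, 0], 2217), ([], 2268), ([], 8829),
   ([5, 4], 8829), ([], 2269), ([1, 1, 1, 1, 0, 0, 1, 1], 376246), ([1, 1, 0, 0, 1, 1, 1, 1], 199099), ([], 2272),
   ([1, 1, 1, 1, 0, 0, 1, 1], 415615), ([1, 1, 0, 0, 1, 1, 1, 1], 336883), ([], 2275), ([1, 1, 1, 1, 0, 0, 1, 1], 514033), ([1, 1, 0, 0, 1, 1, 1, 1], 238471),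
   ([], 2295), ([0, 0, 0, 0], 395955), ([0, 0], 199125), ([], 2376), ([0, 0, 0, 0], 199206),
   ([0, 0], 396036), ([], 2430), ([3, 3], 2430), ([3, 3, 3, 3], 2430), ([], 2917),
   ([3, 3], 2917), ([3, 3, 3, 3], 2917), ([], 2919), ([3, 3], 2919), ([3, 3, 3, 3], 2919),
   ([], 2920), ([3, 3], 2920), ([3, 3, 3, 3], 2920), ([], 2923), ([3, 3], 2923),
   ([3, 3, 3, 3], 2923), ([], 2946), ([3, 3], 2946), ([0, 0], 2946), ([], 2998),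
   ([1, 1, 1, 1, 0, 0, 1, 1], 376975), ([1, 1, 0, 0, 1, 1, 1, 1], 199828), ([], 3001), ([1, 1, 1, 1, 0, 0, 1, 1], 416344), ([1, 1, 0, 0, 1, 1, 1, 1], 337612),
   ([], 3004), ([1, 1, 1, 1, 0, 0, 1, 1], 514762), ([1, 1, 0, 0, 1, 1, 1, 1], 239200), ([], 3646), ([3, 3], 3646),
   ([3, 3, 3, 3], 3646), ([], 3648), ([3, 3], 3648), ([3, 3, 3, 3], 3648), ([], 3649),
   ([3, 3], 3649), ([3, 3, 3, 3], 3649), ([], 3652), ([3, 3], 3652), ([3, 3, 3, 3], 3652),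
   ([], 3675), ([3, 3], 3675), ([0, 0], 3675), ([], 3727), ([1, 1, 1, 1, 0, 0, 1, 1], 377704),
   ([1, 1, 0, 0, 1, 1, 1, 1], 200557), ([], 3730), ([1, 1, 1, 1, 0, 0, 1, 1], 417073), ([1, 1, 0, 0, 1, 1, 1, 1], 338341), ([], 3733),
   ([1, 1, 1, 1, 0, 0, 1, 1], 515491), ([1, 1, 0, 0, 1, 1, 1, 1], 239929), ([], 4401), ([0, 0, 0, 0], 4401), ([0, 0], 4401),
   ([], 4404), ([0, 0, 0, 0], 4404), ([0, 0], 4404), ([], 4455), ([], 11016),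
   ([5, 4], 11016), ([], 4456), ([1, 1, 1, 1, 0, 0, 1, 1], 378433), ([1, 1, 0, 0, 1, 1, 1, 1], 201286), ([], 4459),
   ([1, 1, 1, 1, 0, 0, 1, 1], 417802), ([1, 1, 0, 0, 1, 1, 1, 1], 339070), ([], 4462), ([1, 1, 1, 1, 0, 0, 1, 1], 516220), ([1, 1, 0, 0, 1, 1, 1, 1], 240658),
   ([], 4482), ([0, 0, 0, 0], 398142), ([0, 0], 201312), ([], 4563), ([0, 0, 0, 0], 201393),
   ([0, 0], 398223), ([], 5133), ([0, 0, 0, 0], 5133), ([0, 0], 5133), ([], 5185),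
   ([1, 1, 1, 1, 0, 0, 1, 1], 379162), ([1, 1, 0, 0, 1, 1, 1, 1], 202015), ([], 5188), ([1, 1, 1, 1, 0, 0, 1, 1], 418531), ([1, 1, 0, 0, 1, 1, 1, 1], 339799),
   ([], 5191), ([1, 1, 1, 1, 0, 0, 1, 1], 516949), ([1, 1, 0, 0, 1, 1, 1, 1], 241387), ([], 5862), ([0, 0, 0, 0], 5862),
   ([0, 0], 5862), ([], 5914), ([1, 1, 1, 1, 0, 0, 1, 1], 379891), ([1, 1, 0, 0, 1, 1, 1, 1], 202744), ([], 5917),
   ([1, 1, 1, 1, 0, 0, 1, 1], 419260), ([1, 1, 0, 0, 1, 1, 1, 1], 340528), ([], 5920), ([1, 1, 1, 1, 0, 0, 1, 1], 517678), ([1, 1, 0, 0, 1, 1, 1, 1], 242116)]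

/-- Conjugating moves at level 9. -/
def moves9 : List (List ℕ × ℕ) := [([], 0), ([], 19683), ([4], 19683), ([], 1), ([], 19684),
   ([4], 19684), ([], 3), ([1, 1, 1, 1, 0, 0, 1, 1], 3), ([1, 1, 4, 0, 0, 1, 1], 3), ([], 4),
   ([], 19687), ([4], 19687), ([], 7), ([], 19690), ([4], 19690),
   ([], 9), ([], 19692), ([], 39375), ([], 10), ([], 19693),
   ([], 39376), ([], 12), ([2, 2, 0, 0, 1, 1, 0, 0, 0, 0], 12), ([2, 2, 0, 0, 0, 0, 1, 1, 0, 0], 12), ([], 13),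
   ([], 19696), ([], 39379), ([], 16), ([], 19699), ([], 39382),
   ([], 27), ([], 19710), ([5, 4], 19710), ([], 30), ([1, 1, 1, 1, 0, 0, 1, 1, 0, 0, 0, 0], 354324),
   ([1, 1, 0, 0, 1, 1, 1, 1, 0, 0, 0, 0], 177177), ([], 81), ([0, 0, 0, 0], 81), ([0, 0], 81), ([], 82),
   ([0, 0, 0, 0], 82), ([0, 0], 82), ([], 85), ([0, 0, 0, 0], 85), ([0, 0], 85),
   ([], 88), ([0, 0, 0, 0], 88), ([0, 0], 88), ([], 108), ([], 19791),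
   ([5, 4], 19791), ([], 189), ([], 19872), ([5, 4], 19872), ([], 243),
   ([], 19926), ([], 39609), ([], 252), ([], 19935), ([], 39618),
   ([], 495), ([], 20178), ([], 39861), ([], 729), ([1, 1, 1, 1, 2, 2, 1, 1], 729),
   ([1, 1, 2, 2, 1, 1, 1, 1], 729), ([], 730), ([], 20413), ([4], 20413), ([], 732),
   ([1, 1, 1, 1, 0, 0, 1, 1], 732), ([1, 1, 4, 0, 0, 1, 1], 732), ([], 733), ([1, 1, 2, 2, 0, 0, 1, 1, 3, 3, 1, 1], 414076), ([1, 1, 3, 3, 1, 1, 2, 2, 0, 0, 1, 1], 414076),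
   ([], 736), ([1, 1, 3, 3, 2, 2, 1, 1, 0, 0, 1, 1], 177883), ([1, 1, 0, 0, 1, 1, 3, 3, 2, 2, 1, 1], 177883), ([], 738), ([2, 2, 1, 1, 2, 2, 2, 2, 0, 0], 738),
   ([2, 2, 2, 2, 1, 1, 2, 2, 0, 0], 738), ([], 739), ([], 20422), ([], 40105), ([], 741),
   ([2, 2, 0, 0, 1, 1], 741), ([1, 1, 2, 2, 0, 0], 741), ([], 742), ([1, 1, 2, 2, 1, 1, 3, 3, 0, 0, 1, 1, 1, 1], 355036), ([1, 1, 3, 3, 1, 1, 2, 2, 1, 1, 0, 0, 1, 1], 236938),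
   ([], 745), ([2, 2, 0, 0, 1, 1, 3, 3, 2, 2], 745), ([3, 3, 3, 3, 1, 1, 2, 2, 1, 1, 0, 0, 0, 0], 473137), ([], 756), ([2, 2, 1, 1, 2, 2, 2, 2, 1, 1, 1, 1], 756),
   ([2, 2, 2, 2, 1, 1, 2, 2, 1, 1, 1, 1], 756), ([], 759), ([1, 1, 1, 1, 0, 0, 1, 1, 0, 0, 0, 0], 355053), ([1, 1, 0, 0, 1, 1, 1, 1, 0, 0, 0, 0], 177906), ([], 810),
   ([0, 0, 0, 0], 810), ([0, 0], 810), ([], 811), ([0, 0, 0, 0], 811), ([0, 0], 811),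
   ([], 814), ([0, 0, 0, 0], 814), ([0, 0], 814), ([], 817), ([0, 0, 0, 0], 817),
   ([0, 0], 817), ([], 837), ([2, 2, 1, 1, 2, 2, 2, 2, 1, 1, 1, 1], 837), ([2, 2, 2, 2, 1, 1, 2, 2, 1, 1, 1, 1], 837), ([], 918),
   ([3, 3, 1, 1, 1, 1, 2, 2, 1, 1], 119016), ([3, 3, 1, 1, 2, 2, 1, 1, 1, 1], 59967), ([], 972), ([1, 1, 1, 1, 2, 2, 1, 1], 972), ([1, 1, 2, 2, 1, 1, 1, 1], 972),
   ([], 981), ([2, 2, 1, 1, 2, 2, 2, 2, 0, 0], 414324), ([2, 2, 2, 2, 1, 1, 2, 2, 0, 0], 414324), ([], 1224), ([2, 2, 1, 1, 2, 2, 2, 2, 0, 0], 296469),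
   ([2, 2, 2, 2, 1, 1, 2, 2, 0, 0], 296469), ([], 1459), ([], 21142), ([4], 21142), ([], 1461),
   ([1, 1, 1, 1, 0, 0, 1, 1], 1461), ([1, 1, 4, 0, 0, 1, 1], 1461), ([], 1462), ([1, 1, 3, 3, 0, 0, 1, 1, 2, 2, 1, 1], 178609), ([1, 1, 2, 2, 1, 1, 3, 3, 0, 0, 1, 1], 178609),
   ([], 1465), ([1, 1, 1, 1, 3, 3, 2, 2, 0, 0, 1, 1], 355759), ([1, 1, 4, 3, 3, 2, 2, 0, 0, 1, 1], 355759), ([], 1468), ([], 21151),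
   ([], 40834), ([], 1470), ([1, 1, 2, 2, 0, 0, 0, 0], 1470), ([0, 0, 1, 1, 2, 2, 0, 0], 1470), ([], 1471),
   ([2, 2, 2, 2, 1, 1, 3, 3, 3, 3, 0, 0, 1, 1], 296716), ([3, 3, 3, 3, 1, 1, 2, 2, 2, 2, 1, 1, 0, 0], 473863), ([], 1474), ([3, 3, 3, 3, 1, 1, 2, 2, 1, 1, 0, 0], 237670), ([2, 2, 1, 1, 3, 3, 3, 3, 0, 0, 1, 1], 414817),
   ([], 1488), ([1, 1, 1, 1, 0, 0, 1, 1, 0, 0, 0, 0], 355782), ([1, 1, 0, 0, 1, 1, 1, 1, 0, 0, 0, 0], 178635), ([], 1540), ([0, 0, 0, 0], 1540),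
   ([0, 0], 1540), ([], 1543), ([0, 0, 0, 0], 1543), ([0, 0], 1543), ([], 1546),
   ([0, 0, 0, 0], 1546), ([0, 0], 1546), ([], 2187), ([2, 2], 2187), ([2, 2, 2, 2], 2187),
   ([], 2188), ([2, 2], 2188), ([2, 2, 2, 2], 2188), ([], 2190), ([2, 2], 2190),
   ([2, 2, 2, 2], 2190), ([], 2191), ([2, 2], 2191), ([2, 2, 2, 2], 2191), ([], 2194),
   ([2, 2], 2194), ([2, 2, 2, 2], 2194), ([], 2214), ([], 21897), ([5, 4], 21897),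
   ([], 2217), ([3, 3, 1, 1, 1, 1, 0, 0, 1, 1], 474609), ([3, 3, 1, 1, 0, 0, 1, 1, 1, 1], 238413), ([], 2268), ([2, 2], 2268),
   ([0, 0], 2268), ([], 2269), ([2, 2], 2269), ([0, 0], 2269), ([], 2272),
   ([2, 2], 2272), ([0, 0], 2272), ([], 2275), ([2, 2], 2275), ([0, 0], 2275),
   ([], 2295), ([3, 3, 2, 2, 2, 2, 0, 0], 238491), ([3, 3, 3, 3, 2, 2, 0, 0, 0, 0], 415638), ([], 2376), ([5, 4, 3, 3, 2, 2, 0, 0], 474768),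
   ([3, 3, 2, 2, 0, 0], 474768), ([], 2430), ([2, 2], 2430), ([2, 2, 2, 2], 2430), ([], 2917),
   ([2, 2], 2917), ([2, 2, 2, 2], 2917), ([], 2919), ([2, 2], 2919), ([2, 2, 2, 2], 2919),
   ([], 2920), ([2, 2], 2920), ([2, 2, 2, 2], 2920), ([], 2923), ([2, 2], 2923),
   ([2, 2, 2, 2], 2923), ([], 2946), ([3, 3, 1, 1, 1, 1, 0, 0, 1, 1], 475338), ([3, 3, 1, 1, 0, 0, 1, 1, 1, 1], 239142), ([], 2998),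
   ([2, 2], 2998), ([0, 0], 2998), ([], 3001), ([2, 2], 3001), ([0, 0], 3001),
   ([], 3004), ([2, 2], 3004), ([0, 0], 3004), ([], 3646), ([2, 2], 3646),
   ([2, 2, 2, 2], 3646), ([], 3648), ([2, 2], 3648), ([2, 2, 2, 2], 3648), ([], 3649),
   ([2, 2], 3649), ([2, 2, 2, 2], 3649), ([], 3652), ([2, 2], 3652), ([2, 2, 2, 2], 3652),
   ([], 3675), ([3, 3, 1, 1, 1, 1, 0, 0, 1, 1], 476067), ([3, 3, 1, 1, 0, 0, 1, 1, 1, 1], 239871), ([], 3727), ([2, 2], 3727),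
   ([0, 0], 3727), ([], 3730), ([2, 2], 3730), ([0, 0], 3730), ([], 3733),
   ([2, 2], 3733), ([0, 0], 3733), ([], 4401), ([], 24084), ([5, 4], 24084),
   ([], 4404), ([1, 1, 1, 1, 0, 0, 1, 1, 0, 0, 0, 0], 358698), ([1, 1, 0, 0, 1, 1, 1, 1, 0, 0, 0, 0], 181551), ([], 4455), ([0, 0, 0, 0], 4455),
   ([0, 0], 4455), ([], 4456), ([0, 0, 0, 0], 4456), ([0, 0], 4456), ([], 4459),
   ([0, 0, 0, 0], 4459), ([0, 0], 4459), ([], 4462), ([0, 0, 0, 0], 4462), ([0, 0], 4462),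
   ([], 4482), ([3, 3, 3, 3, 2, 2, 0, 0], 299727), ([3, 3, 2, 2, 2, 2, 0, 0, 0, 0], 476874), ([], 4563), ([3, 3, 2, 2, 0, 0, 0, 0], 240759),
   ([3, 3, 3, 3, 2, 2, 2, 2, 0, 0], 417906), ([], 5133), ([1, 1, 2, 2, 1, 1, 3, 3, 1, 1], 5133), ([2, 2, 1, 1, 1, 1, 3, 3, 1, 1], 5133), ([], 5185),
   ([0, 0, 0, 0], 5185), ([0, 0], 5185), ([], 5188), ([0, 0, 0, 0], 5188), ([0, 0], 5188),
   ([], 5191), ([0, 0, 0, 0], 5191), ([0, 0], 5191), ([], 5862), ([1, 1, 1, 1, 0, 0, 1, 1, 0, 0, 0, 0], 360156),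
   ([1, 1, 0, 0, 1, 1, 1, 1, 0, 0, 0, 0], 183009), ([], 5914), ([0, 0, 0, 0], 5914), ([0, 0], 5914), ([], 5917),
   ([0, 0, 0, 0], 5917), ([0, 0], 5917), ([], 5920), ([0, 0, 0, 0], 5920), ([0, 0], 5920),
   ([], 6561), ([], 26244), ([], 45927), ([], 6564), ([1, 1, 1, 1, 0, 0, 1, 1], 6564),
   ([1, 1, 0, 0, 1, 1, 1, 1], 6564), ([], 6570), ([], 26253), ([], 45936), ([], 6573),
   ([2, 2, 0, 0, 1, 1, 0, 0, 0, 0], 301818), ([2, 2, 0, 0, 0, 0, 1, 1, 0, 0], 301818), ([], 6642), ([0, 0, 0, 0], 6642), ([0, 0], 6642),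
   ([], 6804), ([], 26487), ([], 46170), ([], 6813), ([], 26496),
   ([], 46179), ([], 7056), ([], 26739), ([], 46422), ([], 7293),
   ([1, 1, 1, 1, 0, 0, 1, 1], 7293), ([1, 1, 0, 0, 1, 1, 1, 1], 7293), ([], 7302), ([2, 2, 0, 0, 1, 1], 302547), ([1, 1, 2, 2, 0, 0], 125400),
   ([], 8022), ([1, 1, 1, 1, 0, 0, 1, 1], 8022), ([1, 1, 0, 0, 1, 1, 1, 1], 8022), ([], 8031), ([1, 1, 2, 2, 0, 0, 0, 0], 126129),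
   ([0, 0, 1, 1, 2, 2, 0, 0], 126129), ([], 8829), ([2, 2], 126927), ([0, 0], 8829), ([], 11016),
   ([0, 0, 0, 0], 11016), ([0, 0], 11016), ([], 13131), ([], 32814), ([], 52497),
   ([], 13134), ([2, 2, 0, 0, 1, 1, 0, 0, 0, 0], 426477), ([2, 2, 0, 0, 0, 0, 1, 1, 0, 0], 426477), ([], 13365), ([], 33048),
   ([], 52731), ([], 13374), ([], 33057), ([], 52740), ([], 13617),
   ([], 33300), ([], 52983), ([], 13863), ([2, 2, 0, 0, 1, 1], 427206), ([1, 1, 2, 2, 0, 0], 72912),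
   ([], 14592), ([1, 1, 2, 2, 0, 0, 0, 0], 73641), ([0, 0, 1, 1, 2, 2, 0, 0], 73641)]

/-- Conjugating moves at level 10. -/
def moves10 : List (List ℕ × ℕ) := [([], 0), ([], 59049), ([4], 59049), ([], 1), ([4, 1, 1, 2, 2, 0, 0, 1, 1, 2, 2, 0, 0, 1, 1], 1),
   ([1, 1, 2, 2, 0, 0, 1, 1, 2, 2, 0, 0, 1, 1], 1), ([], 3), ([4, 1, 1, 3, 3, 0, 0, 1, 1, 3, 3, 0, 0, 1, 1], 3), ([1, 1, 3, 3, 0, 0, 1, 1, 3, 3, 0, 0, 1, 1], 3), ([], 4),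
   ([4, 1, 1, 2, 2, 0, 0, 1, 1, 2, 2, 0, 0, 1, 1], 4), ([1, 1, 2, 2, 0, 0, 1, 1, 2, 2, 0, 0, 1, 1], 4), ([], 7), ([1, 1, 3, 3, 0, 0, 1, 1, 3, 3, 0, 0, 1, 1], 7), ([1, 1, 2, 2, 0, 0, 1, 1, 2, 2, 0, 0, 1, 1], 7),
   ([], 9), ([], 59058), ([5], 59058), ([], 10), ([3, 3, 2, 2, 2, 2, 1, 1, 0, 0, 1, 1, 1, 1, 2, 2, 1, 1, 0, 0, 0, 0], 10),
   ([2, 2, 1, 1, 2, 2, 0, 0, 1, 1, 2, 2, 0, 0, 1, 1, 0, 0], 354304), ([], 12), ([3, 3, 3, 3, 1, 1, 0, 0, 1, 1, 1, 1, 3, 3, 2, 2, 1, 1, 0, 0, 0, 0], 177159), ([3, 3, 1, 1, 3, 3, 0, 0, 1, 1, 3, 3, 0, 0, 1, 1, 0, 0], 354306), ([], 13),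
   ([3, 3, 1, 1, 0, 0, 1, 1, 1, 1, 2, 2, 1, 1, 0, 0, 0, 0], 13), ([1, 1, 3, 3, 0, 0, 1, 1, 2, 2, 1, 1, 1, 1, 0, 0, 0, 0], 13), ([], 16), ([3, 3, 0, 0, 1, 1, 3, 3, 0, 0, 1, 1, 2, 2, 0, 0], 177163), ([3, 3, 3, 3, 0, 0, 1, 1, 2, 2, 0, 0, 1, 1, 0, 0], 177163),
   ([], 27), ([], 59076), ([], 118125), ([], 30), ([0, 0, 1, 1, 1, 1, 3, 3, 2, 2, 1, 1, 0, 0, 0, 0], 177177),
   ([1, 1, 0, 0, 1, 1, 3, 3, 2, 2, 0, 0, 1, 1, 0, 0], 354324), ([], 81), ([], 59130), ([], 118179), ([], 82),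
   ([3, 3, 0, 0, 1, 1, 1, 1, 2, 2, 1, 1, 0, 0, 0, 0], 82), ([3, 3, 1, 1, 0, 0, 1, 1, 2, 2, 0, 0, 1, 1, 0, 0], 82), ([], 85), ([0, 0, 1, 1, 1, 1, 3, 3, 1, 1, 0, 0, 0, 0], 177232), ([1, 1, 0, 0, 1, 1, 3, 3, 0, 0, 1, 1, 0, 0], 354379),
   ([], 88), ([0, 0, 1, 1, 3, 3, 1, 1, 1, 1, 0, 0, 0, 0], 354382), ([0, 0, 0, 0, 1, 1, 3, 3, 1, 1, 1, 1, 0, 0], 177235), ([], 108), ([], 59157),
   ([], 118206), ([], 189), ([], 59238), ([], 118287), ([], 243),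
   ([0, 0, 0, 0], 243), ([0, 0], 243), ([], 252), ([], 59301), ([5], 59301),
   ([], 495), ([], 59544), ([5], 59544), ([], 729), ([4, 1, 1, 3, 3, 2, 2, 1, 1, 3, 3, 2, 2, 1, 1], 729),
   ([1, 1, 3, 3, 2, 2, 1, 1, 3, 3, 2, 2, 1, 1], 729), ([], 730), ([4, 1, 1, 2, 2, 0, 0, 1, 1, 2, 2, 0, 0, 1, 1], 730), ([1, 1, 2, 2, 0, 0, 1, 1, 2, 2, 0, 0, 1, 1], 730), ([], 732),
   ([4, 1, 1, 3, 3, 0, 0, 1, 1, 3, 3, 0, 0, 1, 1], 732), ([1, 1, 3, 3, 0, 0, 1, 1, 3, 3, 0, 0, 1, 1], 732), ([], 733), ([4, 1, 1, 2, 2, 0, 0, 1, 1, 2, 2, 0, 0, 1, 1], 733), ([1, 1, 2, 2, 0, 0, 1, 1, 2, 2, 0, 0, 1, 1], 733),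
   ([], 736), ([1, 1, 3, 3, 0, 0, 1, 1, 3, 3, 0, 0, 1, 1], 736), ([1, 1, 2, 2, 0, 0, 1, 1, 2, 2, 0, 0, 1, 1], 736), ([], 738), ([3, 3, 1, 1, 3, 3, 2, 2, 2, 2, 1, 1, 3, 3, 1, 1, 1, 1, 2, 2, 0, 0], 738),
   ([3, 3, 2, 2, 1, 1, 3, 3, 2, 2, 1, 1, 3, 3, 2, 2, 1, 1], 738), ([], 739), ([3, 3, 2, 2, 1, 1, 3, 3, 2, 2, 0, 0, 1, 1, 2, 2, 0, 0], 177886), ([2, 2, 1, 1, 3, 3, 2, 2, 1, 1, 3, 3, 2, 2, 0, 0, 0, 0], 739), ([], 741),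
   ([3, 3, 2, 2, 1, 1, 3, 3, 2, 2, 0, 0, 1, 1, 3, 3, 0, 0], 177888), ([3, 3, 1, 1, 3, 3, 2, 2, 1, 1, 3, 3, 2, 2, 0, 0, 0, 0], 741), ([], 742), ([3, 3, 1, 1, 0, 0, 1, 1, 1, 1, 2, 2, 1, 1], 742), ([1, 1, 0, 0, 1, 1, 1, 1, 3, 3, 2, 2, 1, 1], 177889),
   ([], 745), ([3, 3, 1, 1, 3, 3, 0, 0, 1, 1, 2, 2, 0, 0], 177892), ([1, 1, 1, 1, 2, 2, 1, 1, 3, 3, 1, 1, 2, 2, 0, 0], 745), ([], 756), ([2, 2, 1, 1, 1, 1, 3, 3, 1, 1, 2, 2, 2, 2, 0, 0], 756),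
   ([1, 1, 2, 2, 1, 1, 3, 3, 2, 2, 1, 1, 2, 2, 0, 0], 756), ([], 759), ([1, 1, 2, 2, 1, 1, 3, 3, 0, 0, 1, 1], 759), ([1, 1, 1, 1, 3, 3, 1, 1, 2, 2, 0, 0], 759), ([], 810),
   ([3, 3, 1, 1, 1, 1, 2, 2, 1, 1, 3, 3, 3, 3, 0, 0], 810), ([3, 3, 3, 3, 1, 1, 1, 1, 2, 2, 1, 1, 3, 3, 0, 0], 810), ([], 811), ([1, 1, 3, 3, 1, 1, 2, 2, 0, 0, 1, 1], 811), ([1, 1, 1, 1, 2, 2, 1, 1, 3, 3, 0, 0], 811),
   ([], 814), ([1, 1, 1, 1, 3, 3, 0, 0, 0, 0, 1, 1], 177961), ([1, 1, 1, 1, 2, 2, 1, 1, 3, 3, 0, 0], 814), ([], 817), ([1, 1, 3, 3, 1, 1, 0, 0, 1, 1, 0, 0], 355111),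
   ([1, 1, 1, 1, 2, 2, 1, 1, 3, 3, 0, 0], 817), ([], 837), ([1, 1, 1, 1, 3, 3, 2, 2, 1, 1, 2, 2, 0, 0], 837), ([1, 1, 3, 3, 3, 3, 1, 1, 2, 2, 1, 1, 0, 0], 837), ([], 918),
   ([1, 1, 2, 2, 1, 1, 3, 3, 1, 1, 0, 0], 918), ([1, 1, 3, 3, 2, 2, 1, 1, 3, 3, 2, 2, 1, 1], 918), ([], 972), ([0, 0, 0, 0], 972), ([0, 0], 972),
   ([], 981), ([1, 1, 1, 1, 0, 0, 0, 0], 355275), ([1, 1, 0, 0], 981), ([], 1224), ([1, 1, 0, 0], 1224),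
   ([1, 1, 1, 1, 0, 0, 0, 0], 178371), ([], 1459), ([1, 1, 3, 3, 2, 2, 1, 1, 3, 3, 2, 2, 1, 1], 1459), ([1, 1, 2, 2, 0, 0, 1, 1, 2, 2, 0, 0, 1, 1], 1459), ([], 1461),
   ([1, 1, 3, 3, 2, 2, 1, 1, 3, 3, 2, 2, 1, 1], 1461), ([1, 1, 3, 3, 0, 0, 1, 1, 3, 3, 0, 0, 1, 1], 1461), ([], 1462), ([1, 1, 3, 3, 2, 2, 1, 1, 3, 3, 2, 2, 1, 1], 1462), ([1, 1, 2, 2, 0, 0, 1, 1, 2, 2, 0, 0, 1, 1], 1462),
   ([], 1465), ([1, 1, 3, 3, 0, 0, 1, 1, 3, 3, 0, 0, 1, 1], 1465), ([1, 1, 2, 2, 0, 0, 1, 1, 2, 2, 0, 0, 1, 1], 1465), ([], 1468), ([2, 2, 1, 1, 3, 3, 2, 2, 1, 1, 3, 3, 2, 2, 0, 0], 1468),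
   ([3, 3, 2, 2, 1, 1, 2, 2, 0, 0, 1, 1, 3, 3, 2, 2], 1468), ([], 1470), ([3, 3, 1, 1, 3, 3, 2, 2, 1, 1, 3, 3, 2, 2, 0, 0], 1470), ([3, 3, 2, 2, 1, 1, 3, 3, 0, 0, 1, 1, 3, 3, 2, 2], 1470), ([], 1471),
   ([3, 3, 2, 2, 0, 0, 1, 1, 3, 3, 2, 2, 1, 1], 178618), ([1, 1, 0, 0, 1, 1, 1, 1, 3, 3, 2, 2, 1, 1, 0, 0], 178618), ([], 1474), ([1, 1, 1, 1, 2, 2, 1, 1, 3, 3, 1, 1, 2, 2, 0, 0, 0, 0], 1474), ([3, 3, 1, 1, 3, 3, 0, 0, 0, 0, 1, 1, 2, 2, 0, 0, 0, 0], 355768),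
   ([], 1488), ([1, 1, 1, 1, 3, 3, 1, 1, 2, 2, 0, 0, 0, 0], 1488), ([2, 2, 1, 1, 3, 3, 1, 1, 1, 1, 2, 2, 0, 0], 1488), ([], 1540), ([1, 1, 1, 1, 2, 2, 1, 1, 3, 3, 0, 0, 0, 0], 1540),
   ([3, 3, 1, 1, 2, 2, 1, 1, 1, 1, 3, 3, 0, 0], 1540), ([], 1543), ([1, 1, 1, 1, 2, 2, 1, 1, 3, 3, 0, 0, 0, 0], 1543), ([1, 1, 1, 1, 3, 3, 0, 0, 1, 1], 355837), ([], 1546),
   ([1, 1, 1, 1, 2, 2, 1, 1, 3, 3, 0, 0, 0, 0], 1546), ([1, 1, 3, 3, 0, 0, 1, 1, 1, 1], 178693), ([], 2187), ([], 61236), ([], 120285),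
   ([], 2188), ([3, 3, 2, 2, 2, 2, 1, 1, 0, 0, 1, 1, 1, 1, 2, 2], 2188), ([2, 2, 1, 1, 2, 2, 0, 0, 1, 1, 2, 2, 0, 0, 1, 1], 2188), ([], 2190), ([3, 3, 3, 3, 1, 1, 0, 0, 1, 1, 1, 1, 3, 3, 2, 2], 2190),
   ([3, 3, 1, 1, 3, 3, 0, 0, 1, 1, 3, 3, 0, 0, 1, 1], 2190), ([], 2191), ([3, 3, 1, 1, 0, 0, 1, 1, 1, 1, 2, 2], 2191), ([1, 1, 3, 3, 0, 0, 1, 1, 2, 2, 1, 1], 356485), ([], 2194),
   ([1, 1, 3, 3, 0, 0, 1, 1, 2, 2, 2, 2, 1, 1], 179341), ([3, 3, 3, 3, 2, 2, 1, 1, 1, 1, 0, 0, 1, 1], 2194), ([], 2214), ([], 61263), ([], 120312),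
   ([], 2217), ([1, 1, 0, 0, 1, 1, 3, 3, 2, 2, 1, 1], 356511), ([1, 1, 3, 3, 0, 0, 1, 1, 3, 3, 0, 0, 1, 1], 2217), ([], 2268), ([], 61317),
   ([], 120366), ([], 2269), ([3, 3, 1, 1, 0, 0, 1, 1, 2, 2, 1, 1], 2269), ([1, 1, 2, 2, 0, 0, 1, 1, 2, 2, 0, 0, 1, 1], 2269), ([], 2272),
   ([1, 1, 1, 1, 3, 3, 0, 0, 0, 0, 1, 1], 179419), ([3, 3, 1, 1, 3, 3, 1, 1, 0, 0, 1, 1], 356566), ([], 2275), ([1, 1, 3, 3, 3, 3, 1, 1, 0, 0, 1, 1, 0, 0], 356569), ([1, 1, 3, 3, 0, 0, 1, 1, 1, 1], 179422),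
   ([], 2295), ([], 61344), ([], 120393), ([], 2376), ([], 61425),
   ([], 120474), ([], 2430), ([0, 0, 0, 0], 2430), ([0, 0], 2430), ([], 2917),
   ([2, 2, 2, 2, 1, 1, 3, 3, 1, 1, 1, 1, 2, 2], 357211), ([2, 2, 1, 1, 3, 3, 2, 2, 1, 1, 2, 2, 1, 1], 180064), ([], 2919), ([3, 3, 3, 3, 1, 1, 2, 2, 1, 1, 1, 1, 3, 3], 357213), ([3, 3, 1, 1, 3, 3, 2, 2, 1, 1, 3, 3, 1, 1], 180066),
   ([], 2920), ([3, 3, 1, 1, 0, 0, 1, 1, 1, 1, 2, 2], 2920), ([2, 2, 1, 1, 3, 3, 1, 1, 2, 2, 1, 1], 180067), ([], 2923), ([2, 2, 1, 1, 3, 3, 3, 3, 1, 1, 2, 2, 1, 1], 357217),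
   ([3, 3, 3, 3, 2, 2, 1, 1, 1, 1, 0, 0, 1, 1], 2923), ([], 2946), ([1, 1, 1, 1, 3, 3, 2, 2, 0, 0, 1, 1, 0, 0], 2946), ([2, 2, 1, 1, 3, 3, 1, 1, 2, 2, 1, 1], 180093), ([], 2998),
   ([1, 1, 1, 1, 3, 3, 2, 2, 0, 0, 1, 1, 0, 0], 2998), ([2, 2, 1, 1, 3, 3, 1, 1, 2, 2, 1, 1], 180145), ([], 3001), ([2, 2, 1, 1, 1, 1, 3, 3, 0, 0, 1, 1, 0, 0], 180148), ([1, 1, 1, 1, 3, 3, 0, 0, 1, 1], 357295),
   ([], 3004), ([0, 0, 1, 1, 3, 3, 1, 1, 1, 1, 2, 2], 357298), ([2, 2, 1, 1, 3, 3, 1, 1, 1, 1, 0, 0], 180151), ([], 3646), ([1, 1, 2, 2, 1, 1, 3, 3, 2, 2, 1, 1, 2, 2], 180793),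
   ([2, 2, 1, 1, 1, 1, 3, 3, 1, 1, 2, 2, 2, 2], 357940), ([], 3648), ([3, 3, 3, 3, 1, 1, 1, 1, 2, 2, 1, 1, 3, 3], 180795), ([3, 3, 1, 1, 1, 1, 2, 2, 1, 1, 3, 3, 3, 3], 357942), ([], 3649),
   ([3, 3, 1, 1, 0, 0, 1, 1, 1, 1, 2, 2], 3649), ([1, 1, 0, 0, 1, 1, 1, 1, 3, 3, 2, 2], 3649), ([], 3652), ([3, 3, 2, 2, 1, 1, 3, 3, 2, 2, 1, 1, 1, 1], 180799), ([3, 3, 3, 3, 2, 2, 1, 1, 1, 1, 0, 0, 1, 1], 3652),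
   ([], 3675), ([2, 2, 1, 1, 3, 3, 3, 3, 0, 0, 1, 1, 1, 1], 3675), ([1, 1, 3, 3, 3, 3, 1, 1, 2, 2, 1, 1, 0, 0], 357969), ([], 3727), ([3, 3, 1, 1, 2, 2, 2, 2, 0, 0, 1, 1, 1, 1], 3727),
   ([2, 2, 1, 1, 1, 1, 3, 3, 2, 2, 1, 1, 0, 0], 358021), ([], 3730), ([0, 0, 1, 1, 1, 1, 3, 3, 1, 1, 2, 2], 180877), ([2, 2, 1, 1, 1, 1, 3, 3, 1, 1, 0, 0], 358024), ([], 3733),
   ([1, 1, 3, 3, 1, 1, 0, 0, 1, 1, 0, 0], 358027), ([0, 0, 1, 1, 3, 3, 1, 1, 0, 0, 1, 1], 180880), ([], 4401), ([], 63450), ([], 122499),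
   ([], 4404), ([1, 1, 1, 1, 3, 3, 2, 2, 0, 0, 1, 1, 0, 0], 4404), ([1, 1, 3, 3, 3, 3, 2, 2, 1, 1, 0, 0, 1, 1], 4404), ([], 4455), ([], 63504),
   ([], 122553), ([], 4456), ([3, 3, 1, 1, 1, 1, 2, 2, 0, 0, 1, 1, 0, 0], 4456), ([3, 3, 1, 1, 2, 2, 2, 2, 1, 1, 0, 0, 1, 1], 4456), ([], 4459),
   ([3, 3, 1, 1, 3, 3, 0, 0, 1, 1, 1, 1, 0, 0], 181606), ([1, 1, 1, 1, 3, 3, 0, 0, 1, 1], 358753), ([], 4462), ([1, 1, 3, 3, 1, 1, 0, 0, 1, 1, 0, 0], 358756), ([0, 0, 1, 1, 3, 3, 1, 1, 0, 0, 1, 1], 181609),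
   ([], 4482), ([], 63531), ([], 122580), ([], 4563), ([], 63612),
   ([], 122661), ([], 5133), ([1, 1, 3, 3, 1, 1, 2, 2, 2, 2, 1, 1, 0, 0], 182280), ([2, 2, 2, 2, 1, 1, 3, 3, 0, 0, 1, 1, 1, 1], 359427), ([], 5185),
   ([1, 1, 2, 2, 1, 1, 3, 3, 3, 3, 1, 1, 0, 0], 182332), ([3, 3, 3, 3, 1, 1, 2, 2, 0, 0, 1, 1, 1, 1], 359479), ([], 5188), ([1, 1, 1, 1, 2, 2, 0, 0, 1, 1, 3, 3], 182335), ([1, 1, 0, 0, 1, 1, 3, 3, 0, 0, 1, 1, 0, 0], 359482),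
   ([], 5191), ([1, 1, 3, 3, 3, 3, 1, 1, 0, 0, 1, 1, 0, 0], 359485), ([1, 1, 3, 3, 0, 0, 1, 1, 1, 1], 182338), ([], 5862), ([2, 2, 1, 1, 1, 1, 3, 3, 0, 0, 1, 1], 5862),
   ([1, 1, 1, 1, 3, 3, 0, 0, 1, 1, 2, 2], 183009), ([], 5914), ([3, 3, 1, 1, 1, 1, 2, 2, 0, 0, 1, 1], 5914), ([1, 1, 1, 1, 2, 2, 0, 0, 1, 1, 3, 3], 183061), ([], 5917),
   ([1, 1, 1, 1, 3, 3, 0, 0, 0, 0, 1, 1], 183064), ([3, 3, 1, 1, 3, 3, 1, 1, 0, 0, 1, 1], 360211), ([], 5920), ([0, 0, 1, 1, 3, 3, 1, 1, 1, 1, 0, 0, 0, 0], 360214), ([0, 0, 0, 0, 1, 1, 3, 3, 1, 1, 1, 1, 0, 0], 183067),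
   ([], 6561), ([2, 2], 6561), ([2, 2, 2, 2], 6561), ([], 6564), ([2, 2], 6564),
   ([2, 2, 2, 2], 6564), ([], 6570), ([], 65619), ([5], 65619), ([], 6573),
   ([2, 2, 1, 1], 6573), ([2, 2, 2, 2, 1, 1, 1, 1], 6573), ([], 6642), ([2, 2], 6642), ([2, 2, 2, 2], 6642),
   ([], 6804), ([2, 2], 6804), ([0, 0], 6804), ([], 6813), ([], 65862),
   ([5], 65862), ([], 7056), ([], 66105), ([5], 66105), ([], 7293),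
   ([2, 2], 7293), ([2, 2, 2, 2], 7293), ([], 7302), ([2, 2, 1, 1, 0, 0], 7302), ([2, 2, 2, 2, 1, 1, 1, 1, 0, 0, 0, 0], 7302),
   ([], 8022), ([2, 2], 8022), ([2, 2, 2, 2], 8022), ([], 8031), ([2, 2, 1, 1, 0, 0, 0, 0], 8031),
   ([2, 2, 2, 2, 1, 1, 1, 1, 0, 0], 8031), ([], 8829), ([2, 2, 0, 0], 8829), ([2, 2, 2, 2, 0, 0, 0, 0], 8829), ([], 11016),
   ([2, 2, 0, 0, 0, 0], 11016), ([2, 2, 2, 2, 0, 0], 11016), ([], 13131), ([], 72180), ([5], 72180),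
   ([], 13134), ([2, 2, 2, 2, 1, 1, 1, 1], 13134), ([2, 2, 1, 1], 13134), ([], 13365), ([0, 0, 0, 0], 13365),
   ([0, 0], 13365), ([], 13374), ([], 72423), ([5], 72423), ([], 13617),
   ([], 72666), ([5], 72666), ([], 13863), ([2, 2, 2, 2, 1, 1, 1, 1, 0, 0, 0, 0], 13863), ([2, 2, 1, 1, 0, 0], 13863),
   ([], 14592), ([2, 2, 2, 2, 1, 1, 1, 1, 0, 0], 14592), ([2, 2, 1, 1, 0, 0, 0, 0], 14592), ([], 19683), ([3, 3], 19683),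
   ([3, 3, 3, 3], 19683), ([], 19684), ([3, 3], 19684), ([3, 3, 3, 3], 19684), ([], 19687),
   ([3, 3], 19687), ([3, 3, 3, 3], 19687), ([], 19690), ([3, 3], 19690), ([3, 3, 3, 3], 19690),
   ([], 19692), ([], 78741), ([5], 78741), ([], 19693), ([3, 3, 1, 1], 19693),
   ([3, 3, 3, 3, 1, 1, 1, 1], 19693), ([], 19696), ([3, 3, 2, 2, 1, 1], 19696), ([3, 3, 3, 3, 1, 1, 2, 2, 2, 2, 1, 1], 19696), ([], 19699),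
   ([3, 3, 2, 2, 2, 2, 1, 1], 19699), ([3, 3, 3, 3, 1, 1, 2, 2, 1, 1], 19699), ([], 19710), ([3, 3], 19710), ([3, 3, 3, 3], 19710),
   ([], 19791), ([3, 3, 2, 2, 2, 2], 19791), ([3, 3, 3, 3, 2, 2], 19791), ([], 19872), ([3, 3, 2, 2], 19872),
   ([3, 3, 3, 3, 2, 2, 2, 2], 19872), ([], 19926), ([3, 3], 19926), ([0, 0], 19926), ([], 19935),
   ([], 78984), ([5], 78984), ([], 20178), ([], 79227), ([5], 79227),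
   ([], 20413), ([3, 3], 20413), ([3, 3, 3, 3], 20413), ([], 20422), ([3, 3, 1, 1, 0, 0], 20422),
   ([3, 3, 3, 3, 1, 1, 1, 1, 0, 0, 0, 0], 20422), ([], 21142), ([3, 3], 21142), ([3, 3, 3, 3], 21142), ([], 21151),
   ([3, 3, 1, 1, 0, 0, 0, 0], 21151), ([3, 3, 3, 3, 1, 1, 1, 1, 0, 0], 21151), ([], 21897), ([3, 3, 0, 0], 21897), ([3, 3, 3, 3, 0, 0, 0, 0], 21897),
   ([], 24084), ([3, 3, 0, 0, 0, 0], 24084), ([3, 3, 3, 3, 0, 0], 24084), ([], 26244), ([2, 2], 26244),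
   ([2, 2, 2, 2], 26244), ([], 26253), ([], 85302), ([5], 85302), ([], 26487),
   ([2, 2], 26487), ([0, 0], 26487), ([], 26496), ([], 85545), ([5], 85545),
   ([], 26739), ([], 85788), ([5], 85788), ([], 32814), ([], 91863),
   ([5], 91863), ([], 33048), ([3, 3], 33048), ([0, 0], 33048), ([], 33057),
   ([], 92106), ([5], 92106), ([], 33300), ([], 92349), ([5], 92349),
   ([], 39375), ([], 98424), ([5], 98424), ([], 39376), ([3, 3, 3, 3, 1, 1, 1, 1], 39376),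
   ([3, 3, 1, 1], 39376), ([], 39379), ([3, 3, 3, 3, 1, 1, 2, 2, 2, 2, 1, 1], 39379), ([3, 3, 2, 2, 1, 1], 39379), ([], 39382),
   ([3, 3, 3, 3, 1, 1, 2, 2, 1, 1], 39382), ([3, 3, 2, 2, 2, 2, 1, 1], 39382), ([], 39609), ([0, 0, 0, 0], 39609), ([0, 0], 39609),
   ([], 39618), ([], 98667), ([5], 98667), ([], 39861), ([], 98910),
   ([5], 98910), ([], 40105), ([3, 3, 3, 3, 1, 1, 1, 1, 0, 0, 0, 0], 40105), ([3, 3, 1, 1, 0, 0], 40105), ([], 40834),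
   ([3, 3, 3, 3, 1, 1, 1, 1, 0, 0], 40834), ([3, 3, 1, 1, 0, 0, 0, 0], 40834), ([], 45927), ([2, 2], 45927), ([3, 3], 45927),
   ([], 45936), ([], 104985), ([5], 104985), ([], 46170), ([2, 2], 46170),
   ([0, 0], 46170), ([], 46179), ([], 105228), ([5], 105228), ([], 46422),
   ([], 105471), ([5], 105471), ([], 52497), ([], 111546), ([5], 111546),
   ([], 52731), ([0, 0, 0, 0], 52731), ([0, 0], 52731), ([], 52740), ([], 111789),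
   ([5], 111789), ([], 52983), ([], 112032), ([5], 112032)]

/-- Conjugating moves at level 11. -/
def moves11 : List (List ℕ × ℕ) := [([], 0), ([], 177147), ([5], 177147), ([], 1), ([], 177148),
   ([], 354295), ([], 3), ([], 177150), ([], 354297), ([], 4),
   ([], 177151), ([], 354298), ([], 7), ([], 177154), ([], 354301),
   ([], 9), ([3, 3, 2, 2, 0, 0, 5, 1, 1, 3, 3, 2, 2, 0, 0], 9), ([3, 3, 2, 2, 5, 0, 0, 1, 1, 3, 3, 2, 2, 0, 0, 0, 0], 9), ([], 10), ([1, 1, 2, 2, 2, 2, 0, 0, 1, 1, 3, 3, 1, 1, 1, 1, 2, 2, 0, 0, 0, 0], 10),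
   ([1, 1, 2, 2, 0, 0, 1, 1, 3, 3, 2, 2, 1, 1, 2, 2, 1, 1, 0, 0, 0, 0], 10), ([], 12), ([1, 1, 3, 3, 3, 3, 0, 0, 1, 1, 2, 2, 1, 1, 1, 1, 3, 3, 0, 0, 0, 0], 12), ([1, 1, 3, 3, 0, 0, 1, 1, 3, 3, 2, 2, 1, 1, 3, 3, 1, 1, 0, 0, 0, 0], 12), ([], 13),
   ([0, 0, 1, 1, 3, 3, 1, 1, 2, 2, 0, 0, 1, 1, 1, 1, 0, 0], 13), ([0, 0, 0, 0, 1, 1, 3, 3, 1, 1, 2, 2, 1, 1, 0, 0, 1, 1], 13), ([], 16), ([2, 2, 1, 1, 0, 0, 1, 1, 3, 3, 2, 2, 1, 1, 1, 1, 0, 0, 0, 0], 16), ([0, 0, 1, 1, 3, 3, 2, 2, 0, 0, 1, 1, 3, 3, 0, 0], 16),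
   ([], 27), ([2, 2, 2, 2, 0, 0, 1, 1, 2, 2, 0, 0, 0, 0], 27), ([2, 2, 0, 0, 1, 1, 2, 2, 2, 2, 0, 0, 0, 0], 27), ([], 30), ([0, 0, 1, 1, 2, 2, 0, 0, 1, 1, 3, 3, 0, 0, 1, 1], 30),
   ([2, 2, 0, 0, 1, 1, 2, 2, 2, 2, 1, 1, 1, 1, 0, 0, 0, 0], 30), ([], 81), ([3, 3, 3, 3, 0, 0, 1, 1, 3, 3, 0, 0, 0, 0], 81), ([3, 3, 0, 0, 1, 1, 3, 3, 3, 3, 0, 0, 0, 0], 81), ([], 82),
   ([0, 0, 1, 1, 3, 3, 0, 0, 1, 1, 2, 2, 0, 0, 1, 1], 82), ([3, 3, 0, 0, 1, 1, 3, 3, 3, 3, 1, 1, 1, 1, 0, 0, 0, 0], 82), ([], 85), ([3, 3, 3, 3, 0, 0, 1, 1, 3, 3, 1, 1, 2, 2, 1, 1, 0, 0, 0, 0], 85), ([3, 3, 0, 0, 1, 1, 3, 3, 3, 3, 2, 2, 1, 1, 1, 1, 0, 0, 0, 0], 85),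
   ([], 88), ([0, 0, 1, 1, 3, 3, 2, 2, 0, 0, 1, 1, 2, 2, 0, 0, 1, 1], 88), ([3, 3, 0, 0, 1, 1, 3, 3, 3, 3, 1, 1, 2, 2, 1, 1, 0, 0, 0, 0], 88), ([], 108), ([2, 2, 2, 2, 0, 0, 1, 1, 2, 2, 0, 0, 0, 0], 108),
   ([2, 2, 0, 0, 1, 1, 2, 2, 2, 2, 0, 0, 0, 0], 108), ([], 189), ([3, 3, 0, 0, 1, 1, 2, 2, 0, 0, 0, 0], 189), ([2, 2, 0, 0, 1, 1, 3, 3, 0, 0, 0, 0], 189), ([], 243),
   ([0, 0, 1, 1, 0, 0, 0, 0], 243), ([0, 0, 0, 0, 1, 1, 0, 0], 243), ([], 252), ([0, 0, 1, 1, 0, 0, 0, 0], 252), ([0, 0, 0, 0, 1, 1, 0, 0], 252),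
   ([], 495), ([0, 0, 0, 0, 1, 1, 0, 0], 495), ([0, 0, 1, 1, 0, 0, 0, 0], 495), ([], 729), ([], 177876),
   ([], 355023), ([], 730), ([], 177877), ([], 355024), ([], 732),
   ([], 177879), ([], 355026), ([], 733), ([], 177880), ([], 355027),
   ([], 736), ([], 177883), ([], 355030), ([], 738), ([5, 3, 3, 2, 2, 1, 1, 0, 0, 5, 1, 1, 1, 1, 3, 3, 2, 2, 0, 0], 738),
   ([5, 3, 3, 2, 2, 1, 1, 1, 1, 0, 0, 5, 1, 1, 3, 3, 2, 2, 0, 0], 738), ([], 739), ([5, 3, 3, 2, 2, 1, 1, 0, 0, 5, 3, 3, 1, 1, 1, 1, 2, 2, 0, 0], 739), ([5, 3, 3, 2, 2, 1, 1, 1, 1, 0, 0, 5, 3, 3, 1, 1, 2, 2, 0, 0], 739), ([], 741),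
   ([5, 3, 3, 1, 1, 2, 2, 1, 1, 0, 0, 5, 1, 1, 3, 3, 2, 2, 0, 0], 741), ([3, 3, 5, 1, 1, 2, 2, 1, 1, 0, 0, 1, 1, 3, 3, 5, 2, 2, 0, 0], 741), ([], 742), ([3, 3, 3, 3, 1, 1, 3, 3, 0, 0, 1, 1, 3, 3, 1, 1, 2, 2, 1, 1], 742), ([2, 2, 1, 1, 0, 0, 1, 1, 2, 2, 1, 1, 3, 3, 2, 2, 1, 1, 2, 2], 742),
   ([], 745), ([1, 1, 1, 1, 3, 3, 2, 2, 1, 1, 1, 1, 0, 0, 1, 1, 3, 3, 0, 0], 745), ([2, 2, 1, 1, 0, 0, 1, 1, 1, 1, 3, 3, 2, 2, 1, 1], 745), ([], 756), ([2, 2, 1, 1, 2, 2, 0, 0, 1, 1, 3, 3, 2, 2, 1, 1], 756),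
   ([2, 2, 2, 2, 1, 1, 0, 0, 1, 1, 1, 1, 2, 2, 0, 0, 0, 0], 756), ([], 759), ([2, 2, 0, 0, 1, 1, 3, 3, 0, 0, 1, 1, 2, 2, 1, 1], 759), ([2, 2, 1, 1, 2, 2, 2, 2, 0, 0, 1, 1, 1, 1, 0, 0, 0, 0], 759), ([], 810),
   ([3, 3, 1, 1, 3, 3, 0, 0, 1, 1, 3, 3, 2, 2, 1, 1], 810), ([3, 3, 3, 3, 1, 1, 0, 0, 1, 1, 1, 1, 3, 3, 0, 0, 0, 0], 810), ([], 811), ([1, 1, 2, 2, 0, 0, 1, 1, 3, 3, 2, 2, 2, 2, 1, 1], 811), ([3, 3, 1, 1, 3, 3, 3, 3, 0, 0, 1, 1, 1, 1, 0, 0, 0, 0], 811),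
   ([], 814), ([3, 3, 1, 1, 3, 3, 3, 3, 2, 2, 0, 0, 1, 1, 1, 1], 814), ([1, 1, 3, 3, 2, 2, 1, 1, 0, 0, 1, 1, 0, 0, 0, 0], 814), ([], 817), ([1, 1, 2, 2, 1, 1, 3, 3, 0, 0, 0, 0, 1, 1, 0, 0], 817),
   ([3, 3, 1, 1, 2, 2, 1, 1, 3, 3, 3, 3, 0, 0, 1, 1], 817), ([], 837), ([2, 2, 1, 1, 2, 2, 0, 0, 1, 1, 2, 2, 1, 1, 0, 0, 0, 0], 837), ([2, 2, 2, 2, 1, 1, 0, 0, 1, 1, 1, 1, 2, 2, 0, 0, 0, 0], 837), ([], 918),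
   ([3, 3, 1, 1, 1, 1, 0, 0, 1, 1, 2, 2, 0, 0, 0, 0], 918), ([3, 3, 1, 1, 0, 0, 1, 1, 1, 1, 2, 2, 0, 0, 0, 0], 918), ([], 972), ([1, 1, 1, 1, 0, 0, 1, 1, 0, 0, 0, 0], 972), ([1, 1, 0, 0, 1, 1, 1, 1, 0, 0, 0, 0], 972),
   ([], 981), ([1, 1, 1, 1, 0, 0, 1, 1, 0, 0, 0, 0], 981), ([1, 1, 0, 0, 1, 1, 1, 1, 0, 0, 0, 0], 981), ([], 1224), ([1, 1, 0, 0, 1, 1, 1, 1, 0, 0, 0, 0], 1224),
   ([1, 1, 1, 1, 0, 0, 1, 1, 0, 0, 0, 0], 1224), ([], 1459), ([], 178606), ([], 355753), ([], 1461),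
   ([], 178608), ([], 355755), ([], 1462), ([], 178609), ([], 355756),
   ([], 1465), ([], 178612), ([], 355759), ([], 1468), ([3, 3, 5, 2, 2, 1, 1, 3, 3, 0, 0, 5, 1, 1, 1, 1, 2, 2, 0, 0], 1468),
   ([2, 2, 0, 0, 1, 1, 3, 3, 1, 1, 2, 2, 1, 1, 0, 0, 1, 1, 2, 2], 1468), ([], 1470), ([5, 3, 3, 1, 1, 1, 1, 2, 2, 0, 0, 5, 1, 1, 3, 3, 2, 2, 0, 0], 1470), ([3, 3, 1, 1, 0, 0, 1, 1, 3, 3, 2, 2, 1, 1, 0, 0, 1, 1, 3, 3], 1470), ([], 1471),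
   ([3, 3, 1, 1, 3, 3, 1, 1, 2, 2, 1, 1, 0, 0, 1, 1, 1, 1, 2, 2], 1471), ([5, 3, 3, 1, 1, 0, 0, 1, 1, 1, 1, 3, 3, 5, 2, 2, 1, 1], 1471), ([], 1474), ([2, 2, 1, 1, 1, 1, 0, 0, 1, 1, 3, 3, 2, 2, 0, 0, 1, 1], 1474), ([2, 2, 1, 1, 0, 0, 1, 1, 1, 1, 3, 3, 2, 2, 1, 1, 0, 0], 1474),
   ([], 1488), ([2, 2, 1, 1, 2, 2, 2, 2, 1, 1, 0, 0, 1, 1, 0, 0, 0, 0], 1488), ([2, 2, 2, 2, 1, 1, 2, 2, 0, 0, 1, 1, 1, 1, 0, 0, 0, 0], 1488), ([], 1540), ([3, 3, 1, 1, 3, 3, 3, 3, 1, 1, 0, 0, 1, 1, 0, 0, 0, 0], 1540),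
   ([3, 3, 3, 3, 1, 1, 3, 3, 0, 0, 1, 1, 1, 1, 0, 0, 0, 0], 1540), ([], 1543), ([1, 1, 3, 3, 2, 2, 0, 0, 1, 1, 1, 1, 0, 0, 0, 0], 1543), ([3, 3, 1, 1, 0, 0, 1, 1, 3, 3, 3, 3, 2, 2, 1, 1], 1543), ([], 1546),
   ([1, 1, 3, 3, 3, 3, 2, 2, 1, 1, 2, 2, 0, 0, 1, 1, 0, 0], 1546), ([1, 1, 2, 2, 1, 1, 3, 3, 0, 0, 1, 1, 0, 0, 0, 0], 1546), ([], 2187), ([3, 3, 2, 2, 1, 1, 3, 3, 3, 3, 2, 2, 2, 2], 2187), ([3, 3, 3, 3, 2, 2, 1, 1, 3, 3, 2, 2, 2, 2], 2187),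
   ([], 2188), ([2, 2, 1, 1, 3, 3, 3, 3, 2, 2, 1, 1, 2, 2, 0, 0, 1, 1], 2188), ([1, 1, 2, 2, 0, 0, 1, 1, 3, 3, 2, 2, 1, 1, 2, 2], 2188), ([], 2190), ([3, 3, 1, 1, 3, 3, 2, 2, 2, 2, 1, 1, 3, 3, 0, 0, 1, 1], 2190),
   ([1, 1, 3, 3, 0, 0, 1, 1, 3, 3, 2, 2, 1, 1, 3, 3], 2190), ([], 2191), ([1, 1, 3, 3, 1, 1, 2, 2, 0, 0, 0, 0, 1, 1], 2191), ([3, 3, 1, 1, 3, 3, 1, 1, 2, 2, 0, 0, 1, 1, 2, 2], 2191), ([], 2194),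
   ([2, 2, 1, 1, 3, 3, 2, 2, 0, 0, 1, 1, 1, 1], 2194), ([2, 2, 1, 1, 0, 0, 1, 1, 3, 3, 2, 2, 1, 1], 2194), ([], 2214), ([3, 3, 2, 2, 1, 1, 2, 2, 2, 2, 0, 0], 2214), ([3, 3, 2, 2, 2, 2, 1, 1, 2, 2, 0, 0], 2214),
   ([], 2217), ([3, 3, 2, 2, 1, 1, 2, 2, 2, 2, 1, 1, 1, 1, 0, 0], 2217), ([3, 3, 2, 2, 2, 2, 1, 1, 2, 2, 1, 1, 1, 1, 0, 0], 2217), ([], 2268), ([3, 3, 2, 2, 1, 1, 3, 3, 3, 3, 0, 0], 2268),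
   ([3, 3, 3, 3, 2, 2, 1, 1, 3, 3, 0, 0], 2268), ([], 2269), ([3, 3, 2, 2, 1, 1, 3, 3, 3, 3, 1, 1, 1, 1, 0, 0], 2269), ([3, 3, 3, 3, 2, 2, 1, 1, 3, 3, 1, 1, 1, 1, 0, 0], 2269), ([], 2272),
   ([1, 1, 3, 3, 0, 0, 1, 1, 2, 2, 2, 2, 1, 1], 2272), ([1, 1, 2, 2, 0, 0, 1, 1, 3, 3, 2, 2, 1, 1], 2272), ([], 2275), ([1, 1, 1, 1, 2, 2, 0, 0, 0, 0, 1, 1, 3, 3], 2275), ([1, 1, 3, 3, 3, 3, 2, 2, 1, 1, 3, 3, 1, 1, 0, 0], 2275),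
   ([], 2295), ([2, 2, 2, 2, 0, 0, 1, 1, 2, 2, 0, 0, 0, 0], 2295), ([2, 2, 0, 0, 1, 1, 2, 2, 2, 2, 0, 0, 0, 0], 2295), ([], 2376), ([2, 2, 2, 2, 0, 0, 1, 1, 2, 2, 0, 0, 0, 0], 2376),
   ([2, 2, 0, 0, 1, 1, 2, 2, 2, 2, 0, 0, 0, 0], 2376), ([], 2430), ([0, 0, 1, 1, 0, 0, 0, 0], 2430), ([0, 0, 0, 0, 1, 1, 0, 0], 2430), ([], 2917),
   ([2, 2, 1, 1, 3, 3, 3, 3, 2, 2, 0, 0, 1, 1, 2, 2, 0, 0, 1, 1], 2917), ([2, 2, 1, 1, 3, 3, 2, 2, 0, 0, 0, 0, 1, 1, 3, 3, 2, 2, 1, 1], 2917), ([], 2919), ([3, 3, 1, 1, 3, 3, 2, 2, 2, 2, 0, 0, 1, 1, 3, 3, 0, 0, 1, 1], 2919), ([3, 3, 1, 1, 3, 3, 2, 2, 0, 0, 0, 0, 1, 1, 3, 3, 2, 2, 1, 1], 2919),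
   ([], 2920), ([1, 1, 0, 0, 1, 1, 3, 3, 3, 3, 2, 2, 1, 1, 2, 2, 2, 2], 2920), ([3, 3, 3, 3, 1, 1, 3, 3, 1, 1, 2, 2, 0, 0, 1, 1], 2920), ([], 2923), ([1, 1, 2, 2, 1, 1, 3, 3, 2, 2, 2, 2, 0, 0, 1, 1], 2923),
   ([1, 1, 0, 0, 1, 1, 3, 3, 2, 2, 1, 1, 3, 3, 3, 3], 2923), ([], 2946), ([1, 1, 0, 0, 1, 1, 3, 3, 1, 1, 2, 2, 0, 0], 2946), ([3, 3, 1, 1, 2, 2, 0, 0, 1, 1, 2, 2, 2, 2, 1, 1], 2946), ([], 2998),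
   ([1, 1, 0, 0, 1, 1, 2, 2, 1, 1, 3, 3, 0, 0], 2998), ([2, 2, 1, 1, 3, 3, 0, 0, 1, 1, 3, 3, 3, 3, 1, 1], 2998), ([], 3001), ([3, 3, 1, 1, 2, 2, 1, 1, 0, 0, 1, 1, 3, 3], 3001), ([3, 3, 3, 3, 1, 1, 2, 2, 1, 1, 0, 0, 1, 1], 3001),
   ([], 3004), ([2, 2, 1, 1, 0, 0, 1, 1, 2, 2, 1, 1, 3, 3], 3004), ([1, 1, 1, 1, 3, 3, 2, 2, 2, 2, 0, 0, 1, 1, 2, 2], 3004), ([], 3646), ([3, 3, 3, 3, 2, 2, 2, 2, 1, 1, 3, 3, 0, 0, 1, 1, 1, 1, 2, 2], 3646),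
   ([1, 1, 2, 2, 0, 0, 1, 1, 3, 3, 2, 2, 0, 0, 1, 1, 2, 2], 3646), ([], 3648), ([3, 3, 3, 3, 1, 1, 2, 2, 0, 0, 1, 1, 1, 1, 3, 3, 2, 2, 2, 2], 3648), ([1, 1, 3, 3, 0, 0, 1, 1, 3, 3, 2, 2, 0, 0, 1, 1, 3, 3], 3648), ([], 3649),
   ([2, 2, 1, 1, 3, 3, 2, 2, 2, 2, 1, 1, 0, 0, 1, 1], 3649), ([1, 1, 2, 2, 0, 0, 1, 1, 3, 3, 0, 0, 1, 1, 2, 2], 3649), ([], 3652), ([1, 1, 3, 3, 3, 3, 2, 2, 0, 0, 1, 1, 3, 3, 1, 1], 3652), ([2, 2, 2, 2, 1, 1, 3, 3, 2, 2, 1, 1, 0, 0, 1, 1], 3652),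
   ([], 3675), ([2, 2, 1, 1, 3, 3, 0, 0, 1, 1, 2, 2, 1, 1, 0, 0], 3675), ([3, 3, 1, 1, 2, 2, 1, 1, 3, 3, 0, 0, 1, 1], 3675), ([], 3727), ([3, 3, 1, 1, 2, 2, 0, 0, 1, 1, 3, 3, 1, 1, 0, 0], 3727),
   ([2, 2, 1, 1, 3, 3, 1, 1, 2, 2, 0, 0, 1, 1], 3727), ([], 3730), ([2, 2, 1, 1, 0, 0, 1, 1, 2, 2, 1, 1, 3, 3, 2, 2], 3730), ([1, 1, 3, 3, 2, 2, 1, 1, 0, 0, 1, 1, 2, 2], 3730), ([], 3733),
   ([1, 1, 0, 0, 1, 1, 2, 2, 1, 1, 3, 3], 3733), ([3, 3, 3, 3, 2, 2, 1, 1, 2, 2, 1, 1, 0, 0, 1, 1, 0, 0], 3733), ([], 4401), ([2, 2, 2, 2, 0, 0, 1, 1, 2, 2, 0, 0, 0, 0], 4401), ([2, 2, 0, 0, 1, 1, 2, 2, 2, 2, 0, 0, 0, 0], 4401),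
   ([], 4404), ([2, 2, 2, 2, 0, 0, 1, 1, 2, 2, 1, 1, 1, 1, 0, 0, 0, 0], 4404), ([2, 2, 0, 0, 1, 1, 2, 2, 2, 2, 1, 1, 1, 1, 0, 0, 0, 0], 4404), ([], 4455), ([3, 3, 3, 3, 0, 0, 1, 1, 3, 3, 0, 0, 0, 0], 4455),
   ([3, 3, 0, 0, 1, 1, 3, 3, 3, 3, 0, 0, 0, 0], 4455), ([], 4456), ([3, 3, 3, 3, 0, 0, 1, 1, 3, 3, 1, 1, 1, 1, 0, 0, 0, 0], 4456), ([3, 3, 0, 0, 1, 1, 3, 3, 3, 3, 1, 1, 1, 1, 0, 0, 0, 0], 4456), ([], 4459),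
   ([3, 3, 3, 3, 1, 1, 2, 2, 0, 0, 1, 1, 1, 1], 4459), ([1, 1, 3, 3, 2, 2, 1, 1, 0, 0, 1, 1, 0, 0, 0, 0], 4459), ([], 4462), ([5, 3, 3, 1, 1, 1, 1, 2, 2, 0, 0, 5, 1, 1], 4462), ([1, 1, 1, 1, 2, 2, 0, 0, 1, 1, 3, 3], 4462),
   ([], 4482), ([2, 2, 2, 2, 0, 0, 1, 1, 2, 2, 0, 0, 0, 0], 4482), ([2, 2, 0, 0, 1, 1, 2, 2, 2, 2, 0, 0, 0, 0], 4482), ([], 4563), ([2, 2, 2, 2, 0, 0, 1, 1, 2, 2, 0, 0, 0, 0], 4563),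
   ([2, 2, 0, 0, 1, 1, 2, 2, 2, 2, 0, 0, 0, 0], 4563), ([], 5133), ([0, 0, 1, 1, 2, 2, 1, 1, 3, 3, 0, 0, 0, 0, 1, 1], 5133), ([2, 2, 1, 1, 3, 3, 0, 0, 1, 1, 1, 1, 2, 2], 5133), ([], 5185),
   ([0, 0, 1, 1, 3, 3, 1, 1, 2, 2, 0, 0, 0, 0, 1, 1], 5185), ([3, 3, 1, 1, 2, 2, 0, 0, 1, 1, 1, 1, 3, 3], 5185), ([], 5188), ([1, 1, 3, 3, 2, 2, 0, 0, 1, 1, 1, 1, 0, 0, 0, 0], 5188), ([1, 1, 0, 0, 1, 1, 2, 2, 0, 0, 0, 0, 1, 1, 3, 3, 0, 0], 5188),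
   ([], 5191), ([3, 3, 3, 3, 0, 0, 1, 1, 2, 2, 0, 0, 1, 1, 1, 1], 5191), ([1, 1, 2, 2, 2, 2, 1, 1, 0, 0, 1, 1, 3, 3], 5191), ([], 5862), ([2, 2, 1, 1, 2, 2, 2, 2, 1, 1, 0, 0, 1, 1, 0, 0, 0, 0], 5862),
   ([2, 2, 2, 2, 1, 1, 2, 2, 0, 0, 1, 1, 1, 1, 0, 0, 0, 0], 5862), ([], 5914), ([3, 3, 1, 1, 3, 3, 3, 3, 1, 1, 0, 0, 1, 1, 0, 0, 0, 0], 5914), ([3, 3, 3, 3, 1, 1, 3, 3, 0, 0, 1, 1, 1, 1, 0, 0, 0, 0], 5914), ([], 5917),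
   ([3, 3, 3, 3, 1, 1, 2, 2, 0, 0, 1, 1, 1, 1, 0, 0], 5917), ([1, 1, 1, 1, 2, 2, 0, 0, 1, 1, 3, 3, 0, 0], 5917), ([], 5920), ([1, 1, 1, 1, 3, 3, 2, 2, 2, 2, 0, 0, 0, 0, 1, 1, 0, 0], 5920), ([1, 1, 0, 0, 1, 1, 2, 2, 0, 0, 0, 0, 1, 1, 3, 3], 5920),
   ([], 6561), ([2, 2, 2, 2, 1, 1, 2, 2], 6561), ([2, 2, 5, 1, 1, 2, 2], 6561), ([], 6564), ([2, 2, 2, 2, 1, 1, 2, 2, 1, 1, 1, 1], 6564),
   ([2, 2, 1, 1, 2, 2, 2, 2, 1, 1, 1, 1], 6564), ([], 6570), ([2, 2, 2, 2, 1, 1, 2, 2], 6570), ([2, 2, 5, 1, 1, 2, 2], 6570), ([], 6573),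
   ([2, 2, 2, 2, 1, 1, 2, 2, 1, 1, 1, 1], 6573), ([2, 2, 1, 1, 2, 2, 2, 2, 1, 1, 1, 1], 6573), ([], 6642), ([2, 2, 2, 2, 1, 1, 2, 2], 6642), ([2, 2, 1, 1, 2, 2, 2, 2], 6642),
   ([], 6804), ([0, 0, 1, 1, 2, 2], 6804), ([2, 2, 1, 1, 0, 0], 6804), ([], 6813), ([0, 0, 1, 1, 0, 0, 0, 0], 6813),
   ([0, 0, 0, 0, 1, 1, 0, 0], 6813), ([], 7056), ([0, 0, 0, 0, 1, 1, 0, 0], 7056), ([0, 0, 1, 1, 0, 0, 0, 0], 7056), ([], 7293),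
   ([2, 2, 2, 2, 1, 1, 2, 2, 1, 1, 0, 0, 1, 1], 7293), ([2, 2, 1, 1, 2, 2, 2, 2, 0, 0, 1, 1, 1, 1], 7293), ([], 7302), ([2, 2, 2, 2, 1, 1, 2, 2, 1, 1, 0, 0, 1, 1, 0, 0, 0, 0], 7302), ([2, 2, 1, 1, 2, 2, 2, 2, 0, 0, 1, 1, 1, 1, 0, 0, 0, 0], 7302),
   ([], 8022), ([2, 2, 2, 2, 1, 1, 2, 2, 0, 0, 1, 1, 1, 1], 8022), ([2, 2, 1, 1, 2, 2, 2, 2, 1, 1, 0, 0, 1, 1], 8022), ([], 8031), ([3, 3, 1, 1, 3, 3, 2, 2, 2, 2, 0, 0, 1, 1, 3, 3], 8031),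
   ([2, 2, 1, 1, 2, 2, 2, 2, 1, 1, 0, 0, 1, 1, 0, 0, 0, 0], 8031), ([], 8829), ([2, 2, 2, 2, 1, 1, 2, 2], 8829), ([2, 2, 1, 1, 2, 2, 2, 2], 8829), ([], 11016),
   ([2, 2, 2, 2, 1, 1, 2, 2], 11016), ([2, 2, 1, 1, 2, 2, 2, 2], 11016), ([], 13131), ([2, 2, 5, 1, 1, 2, 2], 13131), ([2, 2, 2, 2, 1, 1, 2, 2], 13131),
   ([], 13134), ([2, 2, 1, 1, 2, 2, 2, 2, 1, 1, 1, 1], 13134), ([2, 2, 2, 2, 1, 1, 2, 2, 1, 1, 1, 1], 13134), ([], 13365), ([0, 0, 1, 1, 0, 0, 0, 0], 13365),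
   ([0, 0, 0, 0, 1, 1, 0, 0], 13365), ([], 13374), ([0, 0, 1, 1, 0, 0, 0, 0], 13374), ([0, 0, 0, 0, 1, 1, 0, 0], 13374), ([], 13617),
   ([0, 0, 0, 0, 1, 1, 0, 0], 13617), ([0, 0, 1, 1, 0, 0, 0, 0], 13617), ([], 13863), ([2, 2, 1, 1, 2, 2, 2, 2, 0, 0, 1, 1, 1, 1, 0, 0, 0, 0], 13863), ([2, 2, 2, 2, 1, 1, 2, 2, 1, 1, 0, 0, 1, 1, 0, 0, 0, 0], 13863),
   ([], 14592), ([3, 3, 2, 2, 1, 1, 3, 3, 0, 0, 1, 1, 3, 3, 2, 2], 14592), ([2, 2, 2, 2, 1, 1, 2, 2, 0, 0, 1, 1, 1, 1, 0, 0, 0, 0], 14592), ([], 19683), ([3, 3, 3, 3, 1, 1, 3, 3], 19683),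
   ([3, 3, 5, 1, 1, 3, 3], 19683), ([], 19684), ([3, 3, 3, 3, 1, 1, 3, 3, 1, 1, 1, 1], 19684), ([3, 3, 1, 1, 3, 3, 3, 3, 1, 1, 1, 1], 19684), ([], 19687),
   ([1, 1, 3, 3, 0, 0, 1, 1, 2, 2, 0, 0, 1, 1], 19687), ([1, 1, 2, 2, 0, 0, 1, 1, 3, 3, 0, 0, 1, 1], 19687), ([], 19690), ([3, 3, 3, 3, 1, 1, 3, 3, 2, 2, 1, 1, 1, 1], 19690), ([3, 3, 1, 1, 3, 3, 3, 3, 1, 1, 2, 2, 1, 1], 19690),
   ([], 19692), ([3, 3, 3, 3, 1, 1, 3, 3], 19692), ([3, 3, 5, 1, 1, 3, 3], 19692), ([], 19693), ([3, 3, 3, 3, 1, 1, 3, 3, 1, 1, 1, 1], 19693),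
   ([3, 3, 1, 1, 3, 3, 3, 3, 1, 1, 1, 1], 19693), ([], 19696), ([1, 1, 3, 3, 0, 0, 1, 1, 2, 2, 1, 1, 1, 1, 0, 0, 0, 0], 19696), ([1, 1, 2, 2, 0, 0, 1, 1, 3, 3, 1, 1, 1, 1, 0, 0, 0, 0], 19696), ([], 19699),
   ([3, 3, 3, 3, 2, 2, 2, 2, 1, 1, 3, 3, 2, 2, 1, 1, 1, 1], 19699), ([3, 3, 2, 2, 1, 1, 3, 3, 3, 3, 2, 2, 2, 2, 1, 1, 1, 1], 19699), ([], 19710), ([3, 3, 3, 3, 1, 1, 3, 3], 19710), ([3, 3, 1, 1, 3, 3, 3, 3], 19710),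
   ([], 19791), ([3, 3, 3, 3, 1, 1, 3, 3], 19791), ([3, 3, 1, 1, 3, 3, 3, 3], 19791), ([], 19872), ([3, 3, 3, 3, 1, 1, 3, 3], 19872),
   ([3, 3, 1, 1, 3, 3, 3, 3], 19872), ([], 19926), ([0, 0, 1, 1, 3, 3], 19926), ([3, 3, 1, 1, 0, 0], 19926), ([], 19935),
   ([0, 0, 1, 1, 0, 0, 0, 0], 19935), ([0, 0, 0, 0, 1, 1, 0, 0], 19935), ([], 20178), ([0, 0, 0, 0, 1, 1, 0, 0], 20178), ([0, 0, 1, 1, 0, 0, 0, 0], 20178),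
   ([], 20413), ([3, 3, 3, 3, 1, 1, 3, 3, 1, 1, 0, 0, 1, 1], 20413), ([3, 3, 1, 1, 3, 3, 3, 3, 0, 0, 1, 1, 1, 1], 20413), ([], 20422), ([3, 3, 3, 3, 1, 1, 3, 3, 1, 1, 0, 0, 1, 1, 0, 0, 0, 0], 20422),
   ([3, 3, 1, 1, 3, 3, 3, 3, 0, 0, 1, 1, 1, 1, 0, 0, 0, 0], 20422), ([], 21142), ([3, 3, 3, 3, 1, 1, 3, 3, 0, 0, 1, 1, 1, 1], 21142), ([3, 3, 1, 1, 3, 3, 3, 3, 1, 1, 0, 0, 1, 1], 21142), ([], 21151),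
   ([2, 2, 1, 1, 3, 3, 3, 3, 2, 2, 0, 0, 1, 1, 2, 2], 21151), ([3, 3, 1, 1, 3, 3, 3, 3, 1, 1, 0, 0, 1, 1, 0, 0, 0, 0], 21151), ([], 21897), ([3, 3, 3, 3, 1, 1, 3, 3], 21897), ([3, 3, 1, 1, 3, 3, 3, 3], 21897),
   ([], 24084), ([3, 3, 3, 3, 1, 1, 3, 3], 24084), ([3, 3, 1, 1, 3, 3, 3, 3], 24084), ([], 26244), ([2, 2, 2, 2, 1, 1, 2, 2], 26244),
   ([2, 2, 5, 1, 1, 2, 2], 26244), ([], 26253), ([2, 2, 2, 2, 1, 1, 2, 2], 26253), ([2, 2, 5, 1, 1, 2, 2], 26253), ([], 26487),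
   ([0, 0, 1, 1, 2, 2], 26487), ([2, 2, 1, 1, 0, 0], 26487), ([], 26496), ([0, 0, 1, 1, 0, 0, 0, 0], 26496), ([0, 0, 0, 0, 1, 1, 0, 0], 26496),
   ([], 26739), ([0, 0, 0, 0, 1, 1, 0, 0], 26739), ([0, 0, 1, 1, 0, 0, 0, 0], 26739), ([], 32814), ([2, 2, 5, 1, 1, 2, 2], 32814),
   ([2, 2, 2, 2, 1, 1, 2, 2], 32814), ([], 33048), ([0, 0, 1, 1, 3, 3], 33048), ([3, 3, 1, 1, 0, 0], 33048), ([], 33057),
   ([0, 0, 1, 1, 0, 0, 0, 0], 33057), ([0, 0, 0, 0, 1, 1, 0, 0], 33057), ([], 33300), ([0, 0, 0, 0, 1, 1, 0, 0], 33300), ([0, 0, 1, 1, 0, 0, 0, 0], 33300),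
   ([], 39375), ([3, 3, 5, 1, 1, 3, 3], 39375), ([3, 3, 3, 3, 1, 1, 3, 3], 39375), ([], 39376), ([3, 3, 1, 1, 3, 3, 3, 3, 1, 1, 1, 1], 39376),
   ([3, 3, 3, 3, 1, 1, 3, 3, 1, 1, 1, 1], 39376), ([], 39379), ([1, 1, 1, 1, 0, 0, 1, 1, 3, 3, 2, 2, 0, 0, 1, 1, 0, 0], 39379), ([1, 1, 3, 3, 0, 0, 0, 0, 1, 1, 2, 2, 1, 1, 1, 1, 0, 0], 39379), ([], 39382),
   ([3, 3, 2, 2, 1, 1, 3, 3, 3, 3, 2, 2, 2, 2, 1, 1, 1, 1], 39382), ([3, 3, 3, 3, 0, 0, 1, 1, 2, 2, 0, 0, 1, 1, 0, 0], 39382), ([], 39609), ([0, 0, 1, 1, 0, 0, 0, 0], 39609), ([0, 0, 0, 0, 1, 1, 0, 0], 39609),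
   ([], 39618), ([0, 0, 1, 1, 0, 0, 0, 0], 39618), ([0, 0, 0, 0, 1, 1, 0, 0], 39618), ([], 39861), ([0, 0, 0, 0, 1, 1, 0, 0], 39861),
   ([0, 0, 1, 1, 0, 0, 0, 0], 39861), ([], 40105), ([3, 3, 1, 1, 3, 3, 3, 3, 0, 0, 1, 1, 1, 1, 0, 0, 0, 0], 40105), ([3, 3, 3, 3, 1, 1, 3, 3, 1, 1, 0, 0, 1, 1, 0, 0, 0, 0], 40105), ([], 40834),
   ([3, 3, 2, 2, 1, 1, 2, 2, 0, 0, 1, 1, 3, 3, 2, 2], 40834), ([3, 3, 3, 3, 1, 1, 3, 3, 0, 0, 1, 1, 1, 1, 0, 0, 0, 0], 40834), ([], 45927), ([3, 3, 1, 1, 2, 2], 45927), ([2, 2, 1, 1, 3, 3], 45927),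
   ([], 45936), ([2, 2, 2, 2, 1, 1, 2, 2], 45936), ([2, 2, 5, 1, 1, 2, 2], 45936), ([], 46170), ([0, 0, 1, 1, 2, 2], 46170),
   ([2, 2, 1, 1, 0, 0], 46170), ([], 46179), ([0, 0, 1, 1, 0, 0, 0, 0], 46179), ([0, 0, 0, 0, 1, 1, 0, 0], 46179), ([], 46422),
   ([0, 0, 0, 0, 1, 1, 0, 0], 46422), ([0, 0, 1, 1, 0, 0, 0, 0], 46422), ([], 52497), ([2, 2, 5, 1, 1, 2, 2], 52497), ([2, 2, 2, 2, 1, 1, 2, 2], 52497),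
   ([], 52731), ([0, 0, 1, 1, 0, 0, 0, 0], 52731), ([0, 0, 0, 0, 1, 1, 0, 0], 52731), ([], 52740), ([0, 0, 1, 1, 0, 0, 0, 0], 52740),
   ([0, 0, 0, 0, 1, 1, 0, 0], 52740), ([], 52983), ([0, 0, 0, 0, 1, 1, 0, 0], 52983), ([0, 0, 1, 1, 0, 0, 0, 0], 52983), ([], 59049),
   ([1, 1], 59049), ([1, 1, 1, 1], 59049), ([], 59058), ([1, 1], 59058), ([1, 1, 1, 1], 59058),
   ([], 59076), ([1, 1], 59076), ([1, 1, 1, 1], 59076), ([], 59130), ([1, 1], 59130),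
   ([1, 1, 1, 1], 59130), ([], 59157), ([1, 1], 59157), ([1, 1, 1, 1], 59157), ([], 59238),
   ([1, 1], 59238), ([1, 1, 1, 1], 59238), ([], 59301), ([1, 1], 59301), ([1, 1, 1, 1], 59301),
   ([], 59544), ([1, 1], 59544), ([1, 1, 1, 1], 59544), ([], 61236), ([1, 1], 61236),
   ([1, 1, 1, 1], 61236), ([], 61263), ([1, 1], 61263), ([1, 1, 1, 1], 61263), ([], 61317),
   ([1, 1], 61317), ([1, 1, 1, 1], 61317), ([], 61344), ([1, 1], 61344), ([1, 1, 1, 1], 61344),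
   ([], 61425), ([1, 1], 61425), ([1, 1, 1, 1], 61425), ([], 63450), ([1, 1], 63450),
   ([1, 1, 1, 1], 63450), ([], 63504), ([1, 1], 63504), ([1, 1, 1, 1], 63504), ([], 63531),
   ([1, 1], 63531), ([1, 1, 1, 1], 63531), ([], 63612), ([1, 1], 63612), ([1, 1, 1, 1], 63612),
   ([], 65619), ([1, 1], 65619), ([1, 1, 1, 1], 65619), ([], 65862), ([1, 1], 65862),
   ([1, 1, 1, 1], 65862), ([], 66105), ([1, 1], 66105), ([1, 1, 1, 1], 66105), ([], 72180),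
   ([1, 1], 72180), ([1, 1, 1, 1], 72180), ([], 72423), ([1, 1], 72423), ([1, 1, 1, 1], 72423),
   ([], 72666), ([1, 1], 72666), ([1, 1, 1, 1], 72666), ([], 78741), ([1, 1], 78741),
   ([1, 1, 1, 1], 78741), ([], 78984), ([1, 1], 78984), ([1, 1, 1, 1], 78984), ([], 79227),
   ([1, 1], 79227), ([1, 1, 1, 1], 79227), ([], 85302), ([1, 1], 85302), ([1, 1, 1, 1], 85302),
   ([], 85545), ([1, 1], 85545), ([1, 1, 1, 1], 85545), ([], 85788), ([1, 1], 85788),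
   ([1, 1, 1, 1], 85788), ([], 91863), ([1, 1], 91863), ([1, 1, 1, 1], 91863), ([], 92106),
   ([1, 1], 92106), ([1, 1, 1, 1], 92106), ([], 92349), ([1, 1], 92349), ([1, 1, 1, 1], 92349),
   ([], 98424), ([1, 1], 98424), ([1, 1, 1, 1], 98424), ([], 98667), ([1, 1], 98667),
   ([1, 1, 1, 1], 98667), ([], 98910), ([1, 1], 98910), ([1, 1, 1, 1], 98910), ([], 104985),
   ([1, 1], 104985), ([1, 1, 1, 1], 104985), ([], 105228), ([1, 1], 105228), ([1, 1, 1, 1], 105228),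
   ([], 105471), ([1, 1], 105471), ([1, 1, 1, 1], 105471), ([], 111546), ([1, 1], 111546),
   ([1, 1, 1, 1], 111546), ([], 111789), ([1, 1], 111789), ([1, 1, 1, 1], 111789), ([], 112032),
   ([1, 1], 112032), ([1, 1, 1, 1], 112032), ([], 118125), ([1, 1, 1, 1], 118125), ([1, 1], 118125),
   ([], 118179), ([1, 1, 1, 1], 118179), ([1, 1], 118179), ([], 118206), ([1, 1, 1, 1], 118206),
   ([1, 1], 118206), ([], 118287), ([1, 1, 1, 1], 118287), ([1, 1], 118287), ([], 120285),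
   ([1, 1, 1, 1], 120285), ([1, 1], 120285), ([], 120312), ([1, 1, 1, 1], 120312), ([1, 1], 120312),
   ([], 120366), ([1, 1, 1, 1], 120366), ([1, 1], 120366), ([], 120393), ([1, 1, 1, 1], 120393),
   ([1, 1], 120393), ([], 120474), ([1, 1, 1, 1], 120474), ([1, 1], 120474), ([], 122499),
   ([1, 1, 1, 1], 122499), ([1, 1], 122499), ([], 122553), ([1, 1, 1, 1], 122553), ([1, 1], 122553),
   ([], 122580), ([1, 1, 1, 1], 122580), ([1, 1], 122580), ([], 122661), ([1, 1, 1, 1], 122661),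
   ([1, 1], 122661)]

/-- Conjugating moves. -/
def moves : List (List (List ℕ × ℕ)) := [moves0, moves1, moves2, moves3, moves4, moves5, moves6, moves7, moves8, moves9, moves10, moves11]

/-- Classes: the word in fundamental root elements and the code. -/
def classes : List (List (ℕ × ℕ) × ℕ) := [([(0, 1)], 729), ([(2, 1), (3, 1)], 4),
   ([(2, 1), (3, 2)], 5), ([(0, 1), (1, 1)], 5112),
   ([(0, 1), (3, 1)], 730), ([(0, 1), (3, 2)], 731),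
   ([(0, 1), (2, 1)], 732), ([(0, 1), (2, 1), (3, 1)], 733),
   ([(0, 1), (2, 1), (3, 2)], 734), ([(0, 1), (2, 2)], 735),
   ([(0, 1), (2, 2), (3, 1)], 736), ([(0, 1), (2, 2), (3, 2)], 737),
   ([(0, 1), (1, 1), (0, 1), (2, 1), (1, 1), (0, 1), (3, 1), (1, 2), (0, 1), (2, 1), (1, 2), (3, 1)], 272519)]

/-- Fusion of the last level onto the classes. -/
def fusion : List (Option (List ℕ × ℕ)) := [none, some ([9, 11, 8, 9], 0), some ([9, 10, 8, 9], 0),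
   some ([], 1), some ([5], 2), some ([8, 9], 0),
   some ([8, 9, 11, 0], 3), some ([8, 9, 10, 0], 3), none,
   none, some ([11, 8, 9, 5], 0), some ([9, 10, 8, 9, 11], 3),
   some ([10, 8, 9, 5], 0), some ([9, 11, 8, 9, 10], 3), some ([9, 1, 1, 11, 8, 9, 10], 3),
   some ([9, 1, 11, 8, 9, 10], 3), some ([9], 1), some ([9, 5], 2),
   some ([10, 11, 8, 9], 0), some ([10, 9], 2), some ([10, 9], 1),
   some ([], 0), some ([], 4), some ([], 6),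
   some ([], 7), some ([], 10), some ([0], 3),
   none, none, none,
   none, some ([11, 4, 0], 3), none,
   some ([10, 4, 0], 3), none, none,
   none, none, none,
   some ([10, 11, 0], 3), none, none,
   some ([5], 5), some ([5], 9), some ([5], 11),
   some ([5], 8), none, none,
   none, none, none,
   none, none, none,
   some ([9, 5], 0), some ([4, 9, 11, 0], 3), some ([4, 9, 10, 0], 3),
   none, none, some ([9, 5], 5),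
   none, some ([9, 5], 9), none,
   none, none, some ([9, 5], 11),
   some ([9, 5], 8), some ([9, 5, 10, 11, 0], 3), some ([9, 1, 11, 5, 0], 3),
   some ([9, 1, 10, 5, 0], 3), none, none,
   none, none, none,
   none, some ([4, 9, 1, 11, 0], 3), some ([4, 9, 1, 10, 0], 3),
   none, none, none,
   none, none, none,
   some ([9], 4), none, some ([9], 6),
   none, none, none,
   some ([9], 7), some ([9], 10), none,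
   none, none, none,
   none, none, none,
   none, some ([11, 9], 0), some ([11, 9, 10, 0], 3),
   some ([8, 9], 4), none, some ([11, 9, 10, 11, 0], 3),
   some ([11, 9], 9), some ([11, 9], 10), some ([11, 9], 7),
   some ([11, 9, 1, 1, 10, 0], 3), none, some ([11, 9, 1, 10, 0], 3),
   none, some ([11, 3, 9, 10, 11, 0], 3), some ([11, 3, 3, 9, 10, 11, 0], 3),
   some ([8, 9], 5), none, some ([11, 9, 5], 6),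
   some ([11, 9, 5], 8), some ([11, 9, 5], 11), none,
   none, some ([10, 9], 0), some ([10, 9, 11, 0], 3),
   some ([9, 8, 0, 11, 9, 10, 11], 3), some ([8, 9, 1, 11, 8, 9, 10], 3), some ([8, 9], 6),
   none, none, none,
   some ([10, 9, 10, 11, 0], 3), some ([5, 8, 0, 11, 9, 10, 11], 3), some ([8, 0, 11, 9, 10, 11, 5], 3),
   some ([10, 9], 5), some ([10, 9], 8), some ([10, 9], 7),
   some ([10, 9, 1, 1, 11, 0], 3), none, some ([10, 9, 1, 11, 0], 3),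
   none, some ([10, 2, 9, 10, 11, 0], 3), some ([10, 2, 2, 9, 10, 11, 0], 3),
   some ([8, 9], 1), some ([8, 9], 7), some ([10, 8, 11, 9], 11),
   some ([3, 2, 0, 8, 5, 11, 3, 0, 9, 10, 9, 1, 11, 4, 1], 3), some ([2, 10, 3, 5, 2, 11, 0, 9, 1], 12), some ([8, 9], 8),
   some ([8, 10, 11, 9], 8), some ([3, 3, 11, 0, 8, 9, 1], 12), some ([3, 2, 11, 0, 5, 3, 11, 8, 0, 9, 10, 9, 1, 11, 1], 3),
   some ([8, 9], 9), none, none,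
   none, some ([10, 9, 5], 4), some ([10, 9, 5], 10),
   some ([10, 9, 5], 11), none, none,
   some ([8, 9, 5], 2), some ([8, 9], 10), some ([10, 8, 11, 9], 10),
   some ([2, 3, 5, 10, 2, 0, 8, 9, 1], 12), some ([0, 8, 3, 2, 5, 0, 11, 3, 9, 10, 9, 1, 9, 11, 1], 3), some ([8, 9], 11),
   some ([8, 10, 11, 9], 7), some ([3, 2, 0, 5, 8, 0, 11, 3, 8, 9, 10, 9, 1, 11, 1], 3), some ([8, 3, 3, 0, 9, 1], 12),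
   some ([10, 11, 9, 5], 0), some ([8, 9, 10, 11], 3), some ([8, 11, 9, 5], 6),
   some ([10, 8, 9, 5], 4), some ([10, 11, 9, 5], 7), some ([10, 11, 9, 5], 8),
   some ([8, 0, 0, 9, 10, 11], 3), some ([8, 0, 9, 10, 11], 3), some ([8, 10, 9], 2),
   some ([8, 11, 9, 5], 8), some ([10, 8, 9, 5], 10), some ([3, 11, 2, 0, 5, 3, 8, 0, 9, 10, 9, 1, 11, 1], 3),
   some ([0, 8, 0, 3, 11, 9, 5, 1], 12), some ([8, 11, 9, 5], 7), some ([8, 10, 9, 5], 7),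
   some ([2, 0, 5, 3, 10, 11, 2, 9, 5, 1], 12), some ([2, 0, 5, 8, 10, 2, 0, 3, 11, 5, 3, 9, 10, 11, 1], 3), some ([10, 2, 11, 9, 5, 10, 11, 0], 3),
   some ([10, 2, 3, 5, 8, 0, 9, 10, 9, 11, 4], 3), some ([8, 0, 5, 3, 9, 10, 1, 9, 1, 11, 4], 3), some ([5, 10, 2, 11, 9, 10, 11, 0], 3),
   some ([8, 5, 0, 3, 9, 10, 9, 1, 9, 11, 4], 3), some ([8, 0, 3, 9, 10, 1, 9, 1, 5, 11], 3), some ([10, 11, 3, 9, 5, 10, 11, 0], 3),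
   some ([11, 3, 2, 5, 8, 0, 11, 9, 10, 11, 4], 3), some ([8, 0, 11, 3, 11, 9, 5, 10, 1, 11, 4], 3), some ([10, 11, 2, 3, 5, 0, 9, 10, 11, 0], 3),
   some ([2, 2, 10, 11, 8, 9, 1, 2], 12), some ([1, 0, 2, 5, 11, 3, 9], 7), some ([11, 3, 0, 10, 5, 2, 9, 10, 11, 0], 3),
   some ([8, 0, 1, 2, 2, 3, 9], 8), some ([11, 4, 9, 1, 0, 2], 12), some ([5, 10, 11, 3, 9, 10, 11, 0], 3),
   some ([8, 5, 0, 11, 3, 11, 9, 10, 1, 11, 4], 3), some ([3, 11, 8, 0, 3, 9, 10, 1, 5, 11], 3), some ([10, 2, 0, 11, 5, 3, 9, 10, 11, 0], 3),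
   some ([1, 0, 0, 2, 11, 3, 9], 10), some ([10, 2, 9, 5, 3, 1], 12), some ([5, 10, 2, 0, 11, 3, 9, 10, 11, 0], 3),
   some ([3, 8, 9, 1, 2], 12), some ([1, 0, 10, 2, 5, 3, 9], 11), some ([10, 11, 9], 9),
   some ([10, 11, 9], 5), some ([10, 11, 9], 11), some ([10, 11, 9], 10),
   some ([8, 10, 9], 1), some ([8, 11, 9, 5], 11), some ([10, 8, 9, 5], 11),
   some ([3, 5, 0, 9, 1], 12), some ([3, 0, 5, 8, 0, 11, 3, 9, 10, 1, 9, 4, 1, 11, 1], 3), some ([8, 11, 9, 5], 10),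
   some ([8, 10, 9, 5], 8), some ([2, 10, 3, 5, 2, 11, 3, 0, 5, 8, 0, 9, 10, 11, 1], 3), some ([0, 1, 2, 10, 8, 9, 1, 2, 3], 12),
   some ([9, 10, 11, 9], 0), some ([9, 8, 11, 9], 6), some ([9, 10, 8, 9], 4),
   some ([9, 10, 11, 9], 7), some ([9, 10, 11, 9], 8), some ([9, 8, 10, 9], 1),
   some ([9, 8, 11, 9], 7), some ([9, 8, 10, 9], 7), some ([9, 2, 10, 0, 5, 3, 11, 2, 9, 5, 1], 12),
   some ([9, 2, 0, 8, 5, 10, 2, 0, 3, 11, 5, 3, 9, 10, 11, 1], 3), some ([9, 8, 11, 9], 8), some ([9, 8, 10, 9], 10),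
   some ([9, 3, 2, 0, 5, 11, 3, 8, 0, 9, 10, 9, 1, 11, 1], 3), some ([9, 3, 11, 3, 0, 8, 9, 1], 12), some ([9, 8, 11, 9], 9),
   some ([9, 10, 8, 9], 5), some ([9, 10, 11, 9, 5], 11), some ([9, 10, 11, 9, 5], 10),
   some ([9, 8, 10, 9], 2), some ([9, 8, 11, 9], 10), some ([9, 8, 10, 9], 8),
   some ([9, 3, 2, 5, 10, 2, 11, 3, 0, 5, 8, 0, 9, 10, 11, 1], 3), some ([9, 2, 0, 8, 5, 10, 3, 2, 9, 5, 1], 12), some ([9, 8, 11, 9], 11),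
   some ([9, 8, 10, 9], 11), some ([9, 3, 3, 0, 9, 1], 12), some ([9, 3, 0, 8, 5, 0, 11, 3, 9, 10, 1, 9, 4, 1, 11, 1], 3)]

/-- The six symmetries of the nodes. -/
def nodeMaps : List (List ℕ) := [[0, 1, 2, 3], [0, 1, 3, 2], [2, 1, 0, 3], [2, 1, 3, 0], [3, 1, 0, 2], [3, 1, 2, 0]]

/-- The images of the classes under the symmetries: moves and class. -/
def images : List (List (List ℕ × ℕ)) := [[([], 0), ([], 0), ([9, 10, 8, 9], 0),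
   ([9, 10, 8, 9], 0), ([9, 11, 8, 9], 0), ([9, 11, 8, 9], 0)],
  [([], 1), ([], 1), ([], 4),
   ([], 4), ([], 6), ([], 6)],
  [([], 2), ([5], 2), ([], 5),
   ([5], 5), ([], 9), ([5], 9)],
  [([], 3), ([], 3), ([8, 9, 10, 0], 3),
   ([8, 9, 10, 0], 3), ([8, 9, 11, 0], 3), ([8, 9, 11, 0], 3)],
  [([], 4), ([], 6), ([], 1),
   ([], 6), ([], 1), ([], 4)],
  [([], 5), ([], 9), ([], 2),
   ([5], 9), ([5], 2), ([5], 5)],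
  [([], 6), ([], 4), ([], 6),
   ([], 1), ([], 4), ([], 1)],
  [([], 7), ([], 7), ([], 7),
   ([], 7), ([], 7), ([], 7)],
  [([], 8), ([], 10), ([], 8),
   ([5], 11), ([], 10), ([5], 11)],
  [([], 9), ([], 5), ([5], 9),
   ([], 2), ([5], 5), ([5], 2)],
  [([], 10), ([], 8), ([5], 11),
   ([], 8), ([5], 11), ([], 10)],
  [([], 11), ([], 11), ([5], 10),
   ([5], 10), ([5], 8), ([5], 8)],
  [([], 12), ([2, 2, 3], 12), ([4, 1, 9, 10, 2, 2, 0, 8, 9, 1], 12),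
   ([4, 0, 1, 9, 10, 8, 9, 1, 2, 3], 12), ([4, 1, 9, 11, 2, 3, 0, 8, 9, 1], 12), ([9, 1, 9, 8, 11, 10, 9, 5, 1], 12)]]

/-- Witness vectors of the values of the quadratic invariant, with the forms as sums of two squares. -/
def quads : List (List (List (Option (List ℕ)) × ℕ × List ℕ × ℕ × List ℕ)) := [[([none, none, none], 0, [0, 0, 0, 0, 0, 0, 0, 0], 0, [0, 0, 0, 0, 0, 0, 0, 0]),
   ([none, none, none], 0, [0, 0, 0, 0, 0, 0, 0, 0], 0, [0, 0, 0, 0, 0, 0, 0, 0]),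
   ([none, none, none], 0, [0, 0, 0, 0, 0, 0, 0, 0], 0, [0, 0, 0, 0, 0, 0, 0, 0]),
   ([none, none, none], 0, [0, 0, 0, 0, 0, 0, 0, 0], 0, [0, 0, 0, 0, 0, 0, 0, 0]),
   ([none, none, none], 0, [0, 0, 0, 0, 0, 0, 0, 0], 0, [0, 0, 0, 0, 0, 0, 0, 0]),
   ([none, none, none], 0, [0, 0, 0, 0, 0, 0, 0, 0], 0, [0, 0, 0, 0, 0, 0, 0, 0])],
  [([none, some [0, 0, 0, 0, 0, 0, 1, 0], none], 1, [0, 0, 0, 0, 0, 0, 1, 0], 0, [0, 0, 0, 0, 0, 0, 0, 0]),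
   ([none, some [0, 0, 0, 0, 0, 0, 1, 0], none], 1, [0, 0, 0, 0, 0, 0, 1, 0], 0, [0, 0, 0, 0, 0, 0, 0, 0]),
   ([none, none, none], 0, [0, 0, 0, 0, 0, 0, 0, 0], 0, [0, 0, 0, 0, 0, 0, 0, 0]),
   ([none, none, none], 0, [0, 0, 0, 0, 0, 0, 0, 0], 0, [0, 0, 0, 0, 0, 0, 0, 0]),
   ([none, none, none], 0, [0, 0, 0, 0, 0, 0, 0, 0], 0, [0, 0, 0, 0, 0, 0, 0, 0]),
   ([none, none, none], 0, [0, 0, 0, 0, 0, 0, 0, 0], 0, [0, 0, 0, 0, 0, 0, 0, 0])],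
  [([none, none, some [0, 0, 0, 0, 0, 0, 1, 0]], 2, [0, 0, 0, 0, 0, 0, 2, 0], 0, [0, 0, 0, 0, 0, 0, 0, 0]),
   ([none, none, some [0, 0, 0, 0, 0, 0, 1, 0]], 2, [0, 0, 0, 0, 0, 0, 2, 0], 0, [0, 0, 0, 0, 0, 0, 0, 0]),
   ([none, none, none], 0, [0, 0, 0, 0, 0, 0, 0, 0], 0, [0, 0, 0, 0, 0, 0, 0, 0]),
   ([none, none, none], 0, [0, 0, 0, 0, 0, 0, 0, 0], 0, [0, 0, 0, 0, 0, 0, 0, 0]),
   ([none, none, none], 0, [0, 0, 0, 0, 0, 0, 0, 0], 0, [0, 0, 0, 0, 0, 0, 0, 0]),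
   ([none, none, none], 0, [0, 0, 0, 0, 0, 0, 0, 0], 0, [0, 0, 0, 0, 0, 0, 0, 0])],
  [([some [0, 0, 0, 0, 1, 0, 0, 0], some [0, 0, 1, 0, 2, 0, 0, 0], some [0, 0, 1, 0, 1, 0, 0, 0]], 2, [0, 0, 1, 0, 1, 0, 0, 0], 1, [0, 0, 2, 0, 1, 0, 0, 0]),
   ([some [0, 0, 0, 0, 1, 0, 0, 0], some [0, 0, 1, 0, 2, 0, 0, 0], some [0, 0, 1, 0, 1, 0, 0, 0]], 2, [0, 0, 1, 0, 1, 0, 0, 0], 1, [0, 0, 2, 0, 1, 0, 0, 0]),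
   ([some [0, 0, 0, 0, 0, 1, 0, 0], some [0, 0, 0, 1, 0, 2, 0, 0], some [0, 0, 0, 1, 0, 1, 0, 0]], 2, [0, 0, 0, 1, 0, 1, 0, 0], 1, [0, 0, 0, 2, 0, 1, 0, 0]),
   ([some [0, 0, 0, 0, 0, 1, 0, 0], some [0, 0, 0, 1, 0, 2, 0, 0], some [0, 0, 0, 1, 0, 1, 0, 0]], 2, [0, 0, 0, 1, 0, 1, 0, 0], 1, [0, 0, 0, 2, 0, 1, 0, 0]),
   ([some [0, 0, 0, 0, 0, 0, 0, 1], some [0, 0, 0, 0, 0, 1, 0, 2], some [0, 0, 0, 0, 0, 1, 0, 1]], 2, [0, 0, 0, 0, 0, 1, 0, 1], 1, [0, 0, 0, 0, 0, 2, 0, 1]),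
   ([some [0, 0, 0, 0, 0, 0, 0, 1], some [0, 0, 0, 0, 0, 1, 0, 2], some [0, 0, 0, 0, 0, 1, 0, 1]], 2, [0, 0, 0, 0, 0, 1, 0, 1], 1, [0, 0, 0, 0, 0, 2, 0, 1])],
  [([none, none, none], 0, [0, 0, 0, 0, 0, 0, 0, 0], 0, [0, 0, 0, 0, 0, 0, 0, 0]),
   ([none, none, none], 0, [0, 0, 0, 0, 0, 0, 0, 0], 0, [0, 0, 0, 0, 0, 0, 0, 0]),
   ([none, some [0, 0, 0, 0, 0, 0, 1, 0], none], 1, [0, 0, 0, 0, 0, 0, 1, 0], 0, [0, 0, 0, 0, 0, 0, 0, 0]),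
   ([none, none, none], 0, [0, 0, 0, 0, 0, 0, 0, 0], 0, [0, 0, 0, 0, 0, 0, 0, 0]),
   ([none, some [0, 0, 0, 0, 0, 0, 1, 0], none], 1, [0, 0, 0, 0, 0, 0, 1, 0], 0, [0, 0, 0, 0, 0, 0, 0, 0]),
   ([none, none, none], 0, [0, 0, 0, 0, 0, 0, 0, 0], 0, [0, 0, 0, 0, 0, 0, 0, 0])],
  [([none, none, none], 0, [0, 0, 0, 0, 0, 0, 0, 0], 0, [0, 0, 0, 0, 0, 0, 0, 0]),
   ([none, none, none], 0, [0, 0, 0, 0, 0, 0, 0, 0], 0, [0, 0, 0, 0, 0, 0, 0, 0]),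
   ([none, none, some [0, 0, 0, 0, 0, 0, 1, 0]], 2, [0, 0, 0, 0, 0, 0, 2, 0], 0, [0, 0, 0, 0, 0, 0, 0, 0]),
   ([none, none, none], 0, [0, 0, 0, 0, 0, 0, 0, 0], 0, [0, 0, 0, 0, 0, 0, 0, 0]),
   ([none, none, some [0, 0, 0, 0, 0, 0, 1, 0]], 2, [0, 0, 0, 0, 0, 0, 2, 0], 0, [0, 0, 0, 0, 0, 0, 0, 0]),
   ([none, none, none], 0, [0, 0, 0, 0, 0, 0, 0, 0], 0, [0, 0, 0, 0, 0, 0, 0, 0])],
  [([none, none, none], 0, [0, 0, 0, 0, 0, 0, 0, 0], 0, [0, 0, 0, 0, 0, 0, 0, 0]),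
   ([none, none, none], 0, [0, 0, 0, 0, 0, 0, 0, 0], 0, [0, 0, 0, 0, 0, 0, 0, 0]),
   ([none, none, none], 0, [0, 0, 0, 0, 0, 0, 0, 0], 0, [0, 0, 0, 0, 0, 0, 0, 0]),
   ([none, some [0, 0, 0, 0, 0, 0, 1, 0], none], 1, [0, 0, 0, 0, 0, 0, 1, 0], 0, [0, 0, 0, 0, 0, 0, 0, 0]),
   ([none, none, none], 0, [0, 0, 0, 0, 0, 0, 0, 0], 0, [0, 0, 0, 0, 0, 0, 0, 0]),
   ([none, some [0, 0, 0, 0, 0, 0, 1, 0], none], 1, [0, 0, 0, 0, 0, 0, 1, 0], 0, [0, 0, 0, 0, 0, 0, 0, 0])],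
  [([none, some [0, 0, 0, 0, 0, 0, 1, 0], none], 1, [0, 0, 0, 0, 0, 0, 1, 0], 0, [0, 0, 0, 0, 0, 0, 0, 0]),
   ([none, some [0, 0, 0, 0, 0, 0, 1, 0], none], 1, [0, 0, 0, 0, 0, 0, 1, 0], 0, [0, 0, 0, 0, 0, 0, 0, 0]),
   ([none, some [0, 0, 0, 0, 0, 0, 1, 0], none], 1, [0, 0, 0, 0, 0, 0, 1, 0], 0, [0, 0, 0, 0, 0, 0, 0, 0]),
   ([none, some [0, 0, 0, 0, 0, 0, 1, 0], none], 1, [0, 0, 0, 0, 0, 0, 1, 0], 0, [0, 0, 0, 0, 0, 0, 0, 0]),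
   ([none, some [0, 0, 0, 0, 0, 0, 1, 0], none], 1, [0, 0, 0, 0, 0, 0, 1, 0], 0, [0, 0, 0, 0, 0, 0, 0, 0]),
   ([none, some [0, 0, 0, 0, 0, 0, 1, 0], none], 1, [0, 0, 0, 0, 0, 0, 1, 0], 0, [0, 0, 0, 0, 0, 0, 0, 0])],
  [([none, none, some [0, 0, 0, 0, 0, 0, 1, 0]], 2, [0, 0, 0, 0, 0, 0, 2, 0], 0, [0, 0, 0, 0, 0, 0, 0, 0]),
   ([none, none, some [0, 0, 0, 0, 0, 0, 1, 0]], 2, [0, 0, 0, 0, 0, 0, 2, 0], 0, [0, 0, 0, 0, 0, 0, 0, 0]),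
   ([none, none, some [0, 0, 0, 0, 0, 0, 1, 0]], 2, [0, 0, 0, 0, 0, 0, 2, 0], 0, [0, 0, 0, 0, 0, 0, 0, 0]),
   ([none, some [0, 0, 0, 0, 0, 0, 1, 0], none], 1, [0, 0, 0, 0, 0, 0, 1, 0], 0, [0, 0, 0, 0, 0, 0, 0, 0]),
   ([none, none, some [0, 0, 0, 0, 0, 0, 1, 0]], 2, [0, 0, 0, 0, 0, 0, 2, 0], 0, [0, 0, 0, 0, 0, 0, 0, 0]),
   ([none, some [0, 0, 0, 0, 0, 0, 1, 0], none], 1, [0, 0, 0, 0, 0, 0, 1, 0], 0, [0, 0, 0, 0, 0, 0, 0, 0])],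
  [([none, none, none], 0, [0, 0, 0, 0, 0, 0, 0, 0], 0, [0, 0, 0, 0, 0, 0, 0, 0]),
   ([none, none, none], 0, [0, 0, 0, 0, 0, 0, 0, 0], 0, [0, 0, 0, 0, 0, 0, 0, 0]),
   ([none, none, none], 0, [0, 0, 0, 0, 0, 0, 0, 0], 0, [0, 0, 0, 0, 0, 0, 0, 0]),
   ([none, none, some [0, 0, 0, 0, 0, 0, 1, 0]], 2, [0, 0, 0, 0, 0, 0, 2, 0], 0, [0, 0, 0, 0, 0, 0, 0, 0]),
   ([none, none, none], 0, [0, 0, 0, 0, 0, 0, 0, 0], 0, [0, 0, 0, 0, 0, 0, 0, 0]),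
   ([none, none, some [0, 0, 0, 0, 0, 0, 1, 0]], 2, [0, 0, 0, 0, 0, 0, 2, 0], 0, [0, 0, 0, 0, 0, 0, 0, 0])],
  [([none, none, some [0, 0, 0, 0, 0, 0, 1, 0]], 2, [0, 0, 0, 0, 0, 0, 2, 0], 0, [0, 0, 0, 0, 0, 0, 0, 0]),
   ([none, none, some [0, 0, 0, 0, 0, 0, 1, 0]], 2, [0, 0, 0, 0, 0, 0, 2, 0], 0, [0, 0, 0, 0, 0, 0, 0, 0]),
   ([none, some [0, 0, 0, 0, 0, 0, 1, 0], none], 1, [0, 0, 0, 0, 0, 0, 1, 0], 0, [0, 0, 0, 0, 0, 0, 0, 0]),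
   ([none, none, some [0, 0, 0, 0, 0, 0, 1, 0]], 2, [0, 0, 0, 0, 0, 0, 2, 0], 0, [0, 0, 0, 0, 0, 0, 0, 0]),
   ([none, some [0, 0, 0, 0, 0, 0, 1, 0], none], 1, [0, 0, 0, 0, 0, 0, 1, 0], 0, [0, 0, 0, 0, 0, 0, 0, 0]),
   ([none, none, some [0, 0, 0, 0, 0, 0, 1, 0]], 2, [0, 0, 0, 0, 0, 0, 2, 0], 0, [0, 0, 0, 0, 0, 0, 0, 0])],
  [([none, some [0, 0, 0, 0, 0, 0, 1, 0], none], 1, [0, 0, 0, 0, 0, 0, 1, 0], 0, [0, 0, 0, 0, 0, 0, 0, 0]),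
   ([none, some [0, 0, 0, 0, 0, 0, 1, 0], none], 1, [0, 0, 0, 0, 0, 0, 1, 0], 0, [0, 0, 0, 0, 0, 0, 0, 0]),
   ([none, none, some [0, 0, 0, 0, 0, 0, 1, 0]], 2, [0, 0, 0, 0, 0, 0, 2, 0], 0, [0, 0, 0, 0, 0, 0, 0, 0]),
   ([none, none, some [0, 0, 0, 0, 0, 0, 1, 0]], 2, [0, 0, 0, 0, 0, 0, 2, 0], 0, [0, 0, 0, 0, 0, 0, 0, 0]),
   ([none, none, some [0, 0, 0, 0, 0, 0, 1, 0]], 2, [0, 0, 0, 0, 0, 0, 2, 0], 0, [0, 0, 0, 0, 0, 0, 0, 0]),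
   ([none, none, some [0, 0, 0, 0, 0, 0, 1, 0]], 2, [0, 0, 0, 0, 0, 0, 2, 0], 0, [0, 0, 0, 0, 0, 0, 0, 0])],
  [([none, some [0, 0, 0, 0, 0, 0, 1, 0], some [0, 0, 0, 0, 1, 0, 0, 0]], 1, [0, 0, 0, 0, 2, 1, 1, 0], 1, [0, 0, 0, 0, 1, 0, 0, 0]),
   ([none, some [0, 0, 0, 0, 0, 0, 1, 0], some [0, 0, 0, 0, 1, 0, 0, 0]], 1, [0, 0, 0, 0, 2, 1, 1, 0], 1, [0, 0, 0, 0, 1, 0, 0, 0]),
   ([none, some [0, 0, 0, 0, 1, 0, 1, 0], some [0, 0, 0, 0, 0, 0, 1, 0]], 2, [0, 0, 0, 0, 0, 2, 2, 0], 2, [0, 0, 0, 0, 2, 0, 0, 0]),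
   ([none, some [0, 0, 0, 0, 1, 0, 0, 0], some [0, 0, 0, 0, 0, 0, 1, 0]], 2, [0, 0, 0, 0, 2, 2, 2, 0], 2, [0, 0, 0, 0, 2, 0, 0, 0]),
   ([none, some [0, 0, 0, 0, 1, 0, 1, 0], some [0, 0, 0, 0, 0, 0, 1, 0]], 2, [0, 0, 0, 0, 0, 2, 2, 0], 2, [0, 0, 0, 0, 2, 0, 0, 0]),
   ([none, some [0, 0, 0, 0, 1, 0, 0, 0], some [0, 0, 0, 0, 0, 0, 1, 0]], 2, [0, 0, 0, 0, 2, 2, 2, 0], 2, [0, 0, 0, 0, 2, 0, 0, 0])]]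

/-- Conjugates of the positive root elements by the moves. -/
def borelTab : List (List ℕ) := [[1, 3, 4383, 13149, 39447, 118341, 729, 2187, 6561, 19683, 59049, 177147],
   [55, 165, 9, 27, 81, 243, 2916, 2187, 6561, 19683, 236196, 177147],
   [1, 3, 90, 270, 81, 243, 729, 21870, 65610, 19683, 59049, 177147],
   [1, 3, 36, 27, 324, 243, 729, 8748, 6561, 78732, 59049, 177147],
   [1, 3, 18, 54, 162, 486, 729, 4374, 13122, 39366, 118098, 177147],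
   [2, 6, 9, 54, 162, 243, 1458, 4374, 6561, 19683, 118098, 354294],
   [1, 3, 18, 54, 162, 486, 729, 4374, 13122, 39366, 118098, 177147],
   [1, 3, 18, 54, 162, 486, 729, 4374, 13122, 39366, 118098, 177147]]

end Cfsg.Agent.DFourThreeData29
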