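import Cfsg.Agent.Lib.DFourThreeWord29
import Cfsg.Agent.Lib.DFourThreeData29

/-!
Kernel checks of the certificates for the elements of order three of `D4(3)`.
-/

set_option autoImplicit false
set_option maxRecDepth 100000

namespace Cfsg.Agent.DFourThreeCheck29

open Cfsg.Agent.DFourThreeWord29 Cfsg.Agent.DFourThreeData29 Cfsg.Agent.DFourRoots

/-- The unipotent word of a code. -/
def uWord (n : ℕ) : List (ℕ × ℕ) :=
  (List.range 12).filterMap fun i => if n / 3 ^ i % 3 = 0 then none else some (12 + i, n / 3 ^ i % 3)

/-- The moves: fundamental root elements, torus elements, Weyl elements. -/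
def letter (g : ℕ) : List (ℕ × ℕ) :=
  let p := simples.getD (g % 4) 0
  if g < 4 then [(p, 1)]
  else if g < 8 then [(p, 2), (23 - p, 1), (p, 2), (p, 2), (23 - p, 1), (p, 2)]
  else [(p, 1), (23 - p, 2), (p, 1)]

/-- A sequence of moves as a word. -/
def pathWord (ps : List ℕ) : List (ℕ × ℕ) := ps.reverse.flatMap letter

/-- A word in fundamental root elements. -/
def nodeWord (w : List (ℕ × ℕ)) : List (ℕ × ℕ) := w.map fun e => (simples.getD (e.1 % 4) 0, e.2)

/-- A word in fundamental root elements with the nodes permuted. -/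
def relabel (m : List ℕ) (w : List (ℕ × ℕ)) : List (ℕ × ℕ) :=
  w.map fun e => (m.getD e.1 0, e.2)

/-- The word of a class. -/
def classWord (j : ℕ) : List (ℕ × ℕ) := nodeWord (classes.getD j ([], 0)).1

/-- Comparison of lists of pairs. -/
def beqW : List (ℕ × ℕ) → List (ℕ × ℕ) → Bool
  | [], [] => true
  | x :: xs, y :: ys => Nat.beq x.1 y.1 && Nat.beq x.2 y.2 && beqW xs ys
  | _, _ => false

theorem beqW_eq : ∀ {v w : List (ℕ × ℕ)}, beqW v w = true → v = w := by
  intro v
  induction v with
  | nil => intro w h; cases w with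
    | nil => rfl
    | cons => simp [beqW] at h
  | cons x xs ih =>
    intro w h
    cases w with
    | nil => simp [beqW] at h
    | cons y ys =>
      simp only [beqW, Bool.and_eq_true] at h
      rw [ih h.2, Prod.ext (Nat.eq_of_beq_eq_true h.1.1) (Nat.eq_of_beq_eq_true h.1.2)]

/-- Two words have the same value. -/
def sameVal (v w : List (ℕ × ℕ)) : Bool := Nat.beq (evalW v) (evalW w)

/-- The children of the representatives of a level. -/
def children (k : ℕ) : List (ℕ × ℕ × ℕ) :=
  (reps.getD k []).flatMap fun r => (List.range 3).map fun t => (r, t, r + t * 3 ^ k)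

/-- The check of one child. -/
def childOK (k : ℕ) (next : List ℕ) (M : ℕ) (ce : (ℕ × ℕ × ℕ) × (List ℕ × ℕ)) : Bool :=
  beqW (uWord ce.1.2.2) (uWord ce.1.1 ++ if ce.1.2.1 = 0 then [] else [(12 + k, ce.1.2.1)]) &&
  ce.2.1.all (fun g => Nat.blt g 8) && next.any (Nat.beq (ce.2.2 % M)) &&
  beqW (uWord ce.2.2) (uWord (ce.2.2 % M) ++ (uWord ce.2.2).filter fun e => Nat.blt (12 + k) e.1) &&
  sameVal (pathWord ce.2.1 ++ uWord ce.1.2.2) (uWord ce.2.2 ++ pathWord ce.2.1)

/-- The check of a level. -/
def levelOK (k : ℕ) : Bool :=
  Nat.beq (moves.getD k []).length (children k).length &&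
    ((children k).zip (moves.getD k [])).all (childOK k (reps.getD (k + 1) []) (3 ^ (k + 1)))

theorem level0 : levelOK 0 = true := by decide +kernel
theorem level1 : levelOK 1 = true := by decide +kernel
theorem level2 : levelOK 2 = true := by decide +kernel
theorem level3 : levelOK 3 = true := by decide +kernel
theorem level4 : levelOK 4 = true := by decide +kernel
theorem level5 : levelOK 5 = true := by decide +kernel
theorem level6 : levelOK 6 = true := by decide +kernel
theorem level7 : levelOK 7 = true := by decide +kernel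
theorem level8 : levelOK 8 = true := by decide +kernel
theorem level9 : levelOK 9 = true := by decide +kernel
theorem level10 : levelOK 10 = true := by decide +kernel
theorem level11 : levelOK 11 = true := by decide +kernel

theorem level_ok : ∀ k, k < 12 → levelOK k = true
  | 0, _ => level0 | 1, _ => level1 | 2, _ => level2 | 3, _ => level3 | 4, _ => level4
  | 5, _ => level5 | 6, _ => level6 | 7, _ => level7 | 8, _ => level8 | 9, _ => level9
  | 10, _ => level10 | 11, _ => level11
  | k + 12, h => absurd h (by omega)

/-- Conjugates of the positive root elements by the moves of the Borel subgroup. -/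
def borelOK (g : ℕ) : Bool :=
  (List.range 12).all fun i =>
    let y := (borelTab.getD g []).getD i 0
    (uWord y).all (fun e => Nat.ble (12 + i) e.1) && sameVal (letter g ++ [(12 + i, 1)]) (uWord y ++ letter g)

theorem borel_ok : ∀ g : Fin 8, borelOK g.val = true := by decide +kernel

/-- The packed matrices with cube of the value central. -/
def central (n : ℕ) : Bool := Nat.beq n idP || Nat.beq n (2 * idP)

/-- The check of the last level. -/
def fuseOK (nf : ℕ × Option (List ℕ × ℕ)) : Bool :=
  match nf.2 with
  | none => central (evalW (uWord nf.1)) || !central (evalW (uWord nf.1 ++ (uWord nf.1 ++ uWord nf.1)))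
  | some (ps, j) => Nat.blt j 13 && sameVal (pathWord ps ++ uWord nf.1) (classWord j ++ pathWord ps)

theorem fusion_ok : Nat.beq (reps.getD 12 []).length fusion.length = true ∧
    ((reps.getD 12 []).zip fusion).all fuseOK = true := by
  decide +kernel

/-- Representatives have order three. -/
def classOK (j : ℕ) : Bool :=
  sameVal (classWord j ++ (classWord j ++ classWord j)) [] && !central (evalW (classWord j)) &&
    (classes.getD j ([], 0)).1.all fun e => Nat.blt e.1 4

theorem class_ok : ∀ j : Fin 13, classOK j.val = true := by decide +kernel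

/-- The images under the symmetries. -/
def imageOK (j s : ℕ) : Bool :=
  let e := (images.getD j []).getD s ([], 0)
  Nat.blt e.2 13 &&
    sameVal (pathWord e.1 ++ nodeWord (relabel (nodeMaps.getD s []) (classes.getD j ([], 0)).1))
      (classWord e.2 ++ pathWord e.1)

theorem image_ok : ∀ (j : Fin 13) (s : Fin 6), imageOK j.val s.val = true := by decide +kernel

/-! ### the quadratic invariant -/

/-- A vector from a list. -/
def vecL (L : List ℕ) : I8 → F3 := fun i => ((L.getD (code i) 0 : ℕ) : F3)

/-- The data of an image of a class. -/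
def quad (j s : ℕ) : List (Option (List ℕ)) × ℕ × List ℕ × ℕ × List ℕ :=
  (quads.getD j []).getD s ([], 0, [], 0, [])

/-- The word of an image of a class. -/
def imageWord (j s : ℕ) : List (ℕ × ℕ) :=
  nodeWord (relabel (nodeMaps.getD s []) (classes.getD j ([], 0)).1)

/-- The square of `u - 1` as a sum of two tensors. -/
def quadMatOK (j s : ℕ) : Bool :=
  let E1 := evalL (imageWord j s)
  let E2 := evalL (imageWord j s ++ imageWord j s)
  let q := quad j s
  sameVal (imageWord j s ++ (imageWord j s ++ imageWord j s)) [] &&
  decide (∀ a b : I8,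
    (((E2.getD (code a) []).getD (code b) 0 + (E1.getD (code a) []).getD (code b) 0 +
        (if code a = code b then 1 else 0)) % 3) =
      (q.2.1 * q.2.2.1.getD (code (bar a)) 0 * q.2.2.1.getD (code b) 0 +
        q.2.2.2.1 * q.2.2.2.2.getD (code (bar a)) 0 * q.2.2.2.2.getD (code b) 0) % 3)

theorem quad_mat_ok : ∀ (j : Fin 13) (s : Fin 6), quadMatOK j.val s.val = true := by decide +kernel

/-- Whether a value is taken. -/
def truth (j s k : ℕ) : Bool := ((quad j s).1.getD k none).isSome

/-- The values taken. -/
def QuadValOK (j s k : ℕ) : Prop :=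
  let q := quad j s
  let c1 : F3 := (q.2.1 : F3)
  let c2 : F3 := (q.2.2.2.1 : F3)
  match q.1.getD k none with
  | none => ∀ x y : F3, (c1 ≠ 0 ∧ x ≠ 0) ∨ (c2 ≠ 0 ∧ y ≠ 0) → c1 * (x * x) + c2 * (y * y) ≠ (k : F3)
  | some v =>
    let x : F3 := ∑ i, vecL q.2.2.1 i * vecL v i
    let y : F3 := ∑ i, vecL q.2.2.2.2 i * vecL v i
    (∃ a : I8, c1 * vecL q.2.2.1 (bar a) * x + c2 * vecL q.2.2.2.2 (bar a) * y ≠ 0) ∧
      c1 * (x * x) + c2 * (y * y) = (k : F3)

instance (j s k : ℕ) : Decidable (QuadValOK j s k) := by
  unfold QuadValOK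
  dsimp only
  split <;> infer_instance

theorem quad_val_ok : ∀ (j : Fin 13) (s : Fin 6) (k : Fin 3), QuadValOK j.val s.val k.val := by
  decide +kernel

/-- The rows of values separate the classes. -/
theorem rows_sep : ∀ i j : Fin 13, (∀ (s : Fin 6) (k : Fin 3), truth i s k = truth j s k) → i = j := by
  decide +kernel

end Cfsg.Agent.DFourThreeCheck29
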