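import Cfsg.Agent.Lib.DFourThreeCheck29
import Cfsg.Agent.Lib.DFourIso
import Cfsg.Agent.Lib.DFourOutStructure
import Cfsg.Agent.Lib.ChevalleySylow

/-!
The subgroups of order three of `D4(3)` and their fusion under the symmetries of the diagram.
-/

set_option autoImplicit false

namespace Cfsg.Agent.DFourThreeClasses29

open Cfsg.Lie Cfsg.Agent.DFourThreeWord29 Cfsg.Agent.DFourThreeData29 Cfsg.Agent.DFourThreeCheck29
open Cfsg.Agent.DFourRoots Cfsg.Agent.DFourAdjoint Cfsg.Agent.ChevalleyCore Cfsg.Agent.ChevalleyUnipotent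
open Cfsg.Agent.ChevAutRigid Cfsg.Agent.ChevAutOut Cfsg.Agent.DFourOutStructure Cfsg.Agent.ChevAutForm
open scoped Matrix

/-- The group. -/
abbrev K : Type := ↥(chevD4.group F3)

/-- The context. -/
noncomputable def Xc : Ctx chevD4 F3 := (Ctx.exists_ctx (D := chevD4) (F := F3) (by simp)).some

/-- The projection onto the adjoint group. -/
noncomputable def piK : ↥(rootGroup F3) →* K :=
  (DFourIso.adRoot (F := F3)).codRestrict (chevD4.group F3) fun u =>
    DFourIso.range_adRoot (F := F3) ▸ ⟨u, rfl⟩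

theorem piK_surjective : Function.Surjective piK := by
  rintro ⟨x, hx⟩
  rw [← DFourIso.range_adRoot] at hx
  obtain ⟨u, rfl⟩ := hx
  exact ⟨u, rfl⟩

theorem scalar_of_piK {u : ↥(rootGroup F3)} (h : piK u = 1) :
    ∃ a : F3, a * a = 1 ∧ mat8 (u : O8 F3) = a • 1 := by
  have hu : u ∈ (DFourIso.adRoot (F := F3)).ker :=
    MonoidHom.mem_ker.2 (congrArg Subtype.val h)
  rw [DFourIso.ker_adRoot, Subgroup.mem_center_iff] at hu
  exact DFourOmega.scalar_of_commute fun x y h =>
    (congrArg Subtype.val (hu ⟨pelt x y h 1, pelt_mem x y h 1⟩)).symm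

theorem piK_of_scalar {u : ↥(rootGroup F3)} {a : F3} (ha : a * a = 1) (h : mat8 (u : O8 F3) = a • 1) :
    piK u = 1 :=
  Subtype.ext (Units.ext (adM_eq_one_of_scalar h ha))

/-- The value of a word in the adjoint group. -/
noncomputable def vK (w : List (ℕ × ℕ)) : K := piK ⟨val w, val_mem w⟩

theorem vK_append (v w : List (ℕ × ℕ)) : vK (v ++ w) = vK v * vK w := by
  rw [vK, vK, vK, ← map_mul]
  exact congrArg piK (Subtype.ext (val_append v w))

theorem vK_nil : vK [] = 1 := by
  rw [vK, ← map_one piK]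
  exact congrArg piK (Subtype.ext val_nil)

theorem vK_single {r : ℕ} (hr : r < 24) (n : ℕ) : vK [(r, n)] = xG Xc.C r (n : F3) := by
  refine Subtype.ext (Units.ext ?_)
  show adM (val [(r, n)]) = _
  rw [coe_xG, coe_xg, ChevalleyDatum.x, dif_pos (show r < chevD4.nroots from hr)]
  simp only [val, List.map_cons, List.map_nil, List.prod_cons, List.prod_nil, mul_one, rt, dif_pos hr]
  exact adM_root _ _

theorem vK_congr {v w : List (ℕ × ℕ)} (hv : ∀ e ∈ v, e.1 < 24) (hw : ∀ e ∈ w, e.1 < 24)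
    (h : sameVal v w = true) : vK v = vK w := by
  have := val_eq_of_eval hv hw (Nat.eq_of_beq_eq_true h)
  simp only [vK, this]

theorem uWord_spec (n : ℕ) : ∀ e ∈ uWord n, 12 ≤ e.1 ∧ e.1 < 24 := by
  intro e he
  simp only [uWord, List.mem_filterMap, List.mem_range] at he
  obtain ⟨i, hi, he⟩ := he
  split_ifs at he
  simp only [Option.some.injEq] at he
  subst he
  simp only
  omega

theorem uWord_lt (n : ℕ) : ∀ e ∈ uWord n, e.1 < 24 := fun e he => (uWord_spec n e he).2

theorem simples_lt : ∀ g : Fin 4, 12 ≤ simples.getD g.val 0 ∧ simples.getD g.val 0 < 24 := by decide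

theorem letter_lt (g : ℕ) : ∀ e ∈ letter g, e.1 < 24 := by
  intro e he
  have h := simples_lt ⟨g % 4, Nat.mod_lt _ (by norm_num)⟩
  simp only [letter] at he
  simp only at h
  split_ifs at he <;> simp only [List.mem_cons, List.not_mem_nil, or_false] at he <;>
    (try casesm* _ ∨ _) <;> subst e <;> simp only <;> omega

theorem pathWord_lt (ps : List ℕ) : ∀ e ∈ pathWord ps, e.1 < 24 := by
  intro e he
  simp only [pathWord, List.mem_flatMap] at he
  obtain ⟨g, -, he⟩ := he
  exact letter_lt g e he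

theorem nodeWord_lt (w : List (ℕ × ℕ)) : ∀ e ∈ nodeWord w, e.1 < 24 := by
  intro e he
  obtain ⟨f, -, rfl⟩ := List.mem_map.1 he
  exact (simples_lt ⟨f.1 % 4, Nat.mod_lt _ (by norm_num)⟩).2

theorem lt_append {v w : List (ℕ × ℕ)} (hv : ∀ e ∈ v, e.1 < 24) (hw : ∀ e ∈ w, e.1 < 24) :
    ∀ e ∈ v ++ w, e.1 < 24 := fun e he => (List.mem_append.1 he).elim (hv e) (hw e)

theorem cube_of_same {w : List (ℕ × ℕ)} (hw : ∀ e ∈ w, e.1 < 24)
    (h : sameVal (w ++ (w ++ w)) [] = true) : val w ^ 3 = 1 ∧ vK w ^ 3 = 1 := by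
  have h1 := val_eq_of_eval (lt_append hw (lt_append hw hw)) (by simp) (Nat.eq_of_beq_eq_true h)
  rw [val_append, val_append, val_nil] at h1
  have h2 : val w ^ 3 = 1 := by rw [pow_succ', pow_two]; exact h1
  refine ⟨h2, ?_⟩
  rw [vK, ← map_pow, ← map_one piK]
  exact congrArg piK (Subtype.ext h2)

/-! ### centrality of packed matrices -/

/-- Minus the identity on lists. -/
def negL : List (List ℕ) :=
  (List.range 8).map fun i => (List.range 8).map fun j => if i = j then 2 else 0

theorem negL_spec : IsMat negL ∧ 2 * idP = pack negL ∧ matL negL = (2 : F3) • (1 : Matrix I8 I8 F3) := by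
  refine ⟨⟨by decide, by simp only [IsRow]; decide⟩, ?_, by decide⟩
  decide +kernel

theorem code_surj : ∀ i : Fin 8, ∃ a : I8, code a = i.val := by decide

theorem mat_inj {D E : List (List ℕ)} (hD : IsMat D) (hE : IsMat E) (h : matL D = matL E) : D = E := by
  refine List.ext_getElem (by rw [hD.1, hE.1]) fun i h1 h2 => ?_
  have hX := hD.2 _ (List.getElem_mem h1)
  have hY := hE.2 _ (List.getElem_mem h2)
  refine List.ext_getElem (by rw [hX.1, hY.1]) fun j h3 h4 => ?_
  obtain ⟨a, ha⟩ := code_surj ⟨i, by rw [hD.1] at h1; exact h1⟩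
  obtain ⟨b, hb⟩ := code_surj ⟨j, by rw [hX.1] at h3; exact h3⟩
  have hab := congrFun (congrFun h a) b
  simp only [matL, Matrix.of_apply, ha, hb, List.getD_eq_getElem _ _ h1, List.getD_eq_getElem _ _ h2,
    List.getD_eq_getElem _ _ h3, List.getD_eq_getElem _ _ h4] at hab
  have := congrArg ZMod.val hab
  rwa [ZMod.val_natCast, ZMod.val_natCast, Nat.mod_eq_of_lt (hX.2 _ (List.getElem_mem h3)),
    Nat.mod_eq_of_lt (hY.2 _ (List.getElem_mem h4))] at this

theorem vK_eq_one {w : List (ℕ × ℕ)} (hw : ∀ e ∈ w, e.1 < 24) :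
    vK w = 1 ↔ central (evalW w) = true := by
  rw [evalW_eq hw]
  constructor
  · intro h
    obtain ⟨a, ha, hm⟩ := scalar_of_piK h
    change mat8 (val w) = a • 1 at hm
    rw [mat_val hw] at hm
    have : a = 1 ∨ a = 2 := (by decide : ∀ a : F3, a * a = 1 → a = 1 ∨ a = 2) a ha
    simp only [central, Bool.or_eq_true]
    rcases this with rfl | rfl
    · left
      rw [one_smul, ← matL_id] at hm
      rw [mat_inj (evalL_mat w) idL_mat hm, idP_eq]
      exact Nat.beq_refl _
    · right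
      rw [← negL_spec.2.2] at hm
      rw [mat_inj (evalL_mat w) negL_spec.1 hm, ← negL_spec.2.1]
      exact Nat.beq_refl _
  · intro h
    simp only [central, Bool.or_eq_true] at h
    have hm : ∀ D, IsMat D → pack (evalL w) = pack D → mat8 (val w) = matL D := by
      intro D hD he
      rw [mat_val hw]
      ext i j
      simp only [matL, Matrix.of_apply, pack_inj (evalL_mat w) hD he _ _ (code_lt i)]
    rcases h with h | h
    · refine piK_of_scalar (a := 1) (one_mul 1) ?_
      show mat8 (val w) = _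
      rw [hm _ idL_mat ((Nat.eq_of_beq_eq_true h).trans idP_eq), matL_id, one_smul]
    · refine piK_of_scalar (a := 2) (by decide) ?_
      show mat8 (val w) = _
      rw [hm _ negL_spec.1 ((Nat.eq_of_beq_eq_true h).trans negL_spec.2.1), negL_spec.2.2]

/-! ### the descent -/

/-- The filtration of the unipotent subgroup, as a predicate. -/
def InU (k : ℕ) (x : K) : Prop := (x : GL chevD4.Idx F3) ∈ uGe Xc.C (F := F3) k

theorem inU_xG {k r : ℕ} (hk : k ≤ r) (h12 : 12 ≤ r) (hr : r < 24) (t : F3) : InU k (xG Xc.C r t) :=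
  xg_mem_uGe Xc.C hk h12 hr t

theorem inU_word {k : ℕ} : ∀ w : List (ℕ × ℕ), (∀ e ∈ w, k ≤ e.1 ∧ 12 ≤ e.1 ∧ e.1 < 24) → InU k (vK w) := by
  intro w
  induction w with
  | nil => intro _; rw [vK_nil]; exact one_mem _
  | cons e w ih =>
    intro h
    obtain ⟨h1, h2, h3⟩ := h e List.mem_cons_self
    rw [show e :: w = [(e.1, e.2)] ++ w from rfl, vK_append, vK_single h3]
    exact mul_mem (inU_xG h1 h2 h3 _) (ih fun f hf => h f (List.mem_cons_of_mem _ hf))

theorem uGe_le_group (k : ℕ) : uGe Xc.C (F := F3) k ≤ chevD4.group F3 := by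
  rw [uGe, Subgroup.closure_le]
  rintro g ⟨r, t, -, -, -, rfl⟩
  exact xg_mem_group Xc.C r t

theorem letter_conj {g : ℕ} (hg : g < 8) {k : ℕ} (hk : 12 ≤ k) {v : K} (hv : InU k v) :
    InU k (vK (letter g) * v * (vK (letter g))⁻¹) := by
  have hb := borel_ok ⟨g, hg⟩
  simp only [borelOK, List.all_eq_true, List.mem_range, Bool.and_eq_true] at hb
  set c := vK (letter g)
  suffices h : uGe Xc.C (F := F3) k ≤
      (uGe Xc.C (F := F3) k).comap (MulAut.conj (c : GL chevD4.Idx F3)).toMonoidHom by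
    have h' := Subgroup.mem_comap.1 (h hv)
    rw [InU, Subgroup.coe_mul, Subgroup.coe_mul, Subgroup.coe_inv]
    simpa [MulAut.conj_apply] using h'
  conv_lhs => rw [uGe]
  rw [Subgroup.closure_le]
  rintro x ⟨r, t, hkr, h12, hr, rfl⟩
  change 12 ≤ r at h12
  change r < 24 at hr
  obtain ⟨hy, hs⟩ := hb (r - 12) (by omega)
  set y := (borelTab.getD g []).getD (r - 12) 0
  have he : 12 + (r - 12) = r := by omega
  rw [he] at hy hs
  have h1 := vK_congr (lt_append (letter_lt g) (by simp only [List.mem_singleton, forall_eq]; exact hr))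
    (lt_append (uWord_lt y) (letter_lt g)) hs
  rw [vK_append, vK_append, vK_single hr, ← eq_mul_inv_iff_mul_eq.trans eq_comm] at h1
  have hgen : InU k (c * xG Xc.C r ((1 : ℕ) : F3) * c⁻¹) := by
    simp only [c]
    rw [← h1]
    exact inU_word _ fun e he =>
      ⟨hkr.trans (Nat.le_of_ble_eq_true (hy e he)), (uWord_spec y e he).1, (uWord_spec y e he).2⟩
  have hpow : ∀ n : ℕ, InU k (c * xG Xc.C r (n : F3) * c⁻¹) := by
    intro n
    induction n with
    | zero =>
      rw [Nat.cast_zero, show xG Xc.C r (0 : F3) = 1 from Subtype.ext (xg_zero Xc.C r), mul_one,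
        mul_inv_cancel]
      exact one_mem _
    | succ n ih =>
      rw [Nat.cast_succ, ← xG_mul, show c * (xG Xc.C r (n : F3) * xG Xc.C r 1) * c⁻¹ =
        (c * xG Xc.C r (n : F3) * c⁻¹) * (c * xG Xc.C r ((1 : ℕ) : F3) * c⁻¹) by
          rw [Nat.cast_one]; group]
      exact mul_mem ih hgen
  have := hpow t.val
  rw [ZMod.natCast_zmod_val, InU, Subgroup.coe_mul, Subgroup.coe_mul, Subgroup.coe_inv, coe_xG] at this
  rw [SetLike.mem_coe, Subgroup.mem_comap]
  simpa [MulAut.conj_apply] using this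

theorem path_conj : ∀ (ps : List ℕ), (∀ g ∈ ps, g < 8) → ∀ {k : ℕ}, 12 ≤ k → ∀ {v : K}, InU k v →
    InU k (vK (pathWord ps) * v * (vK (pathWord ps))⁻¹) := by
  intro ps
  induction ps with
  | nil => intro _ k _ v hv; simpa [pathWord, vK_nil] using hv
  | cons g ps ih =>
    intro h k hk v hv
    have h1 := ih (fun g' hg' => h g' (List.mem_cons_of_mem _ hg')) hk (letter_conj (h g List.mem_cons_self) hk hv)
    rw [show pathWord (g :: ps) = pathWord ps ++ letter g by simp [pathWord], vK_append,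
      show vK (pathWord ps) * vK (letter g) * v * (vK (pathWord ps) * vK (letter g))⁻¹ =
        vK (pathWord ps) * (vK (letter g) * v * (vK (letter g))⁻¹) * (vK (pathWord ps))⁻¹ by group]
    exact h1

theorem exists_zip {α β : Type*} : ∀ (L : List α) (M : List β), M.length = L.length →
    ∀ a ∈ L, ∃ b, (a, b) ∈ L.zip M := by
  intro L
  induction L with
  | nil => intro _ _ a ha; simp at ha
  | cons x L ih =>
    intro M hM a ha
    cases M with
    | nil => simp at hM
    | cons y M =>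
      rcases List.mem_cons.1 ha with rfl | ha
      · exact ⟨y, by simp⟩
      · obtain ⟨b, hb⟩ := ih M (by simpa using hM) a ha
        exact ⟨b, by simp [hb]⟩

theorem descend : ∀ m ≤ 12, ∀ u : K, InU 12 u →
    ∃ n ∈ reps.getD m [], ∃ c v : K, InU (12 + m) v ∧ c * u * c⁻¹ = vK (uWord n) * v := by
  intro m
  induction m with
  | zero =>
    intro _ u hu
    refine ⟨0, by decide, 1, u, hu, ?_⟩
    rw [show uWord 0 = [] by decide, vK_nil]
    simp
  | succ m ih =>
    intro hm u hu
    obtain ⟨n, hn, c, v, hv, he⟩ := ih (by omega) u hu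
    obtain ⟨t, v', hv', hvt⟩ := uGe_split Xc.C (show chevD4.nroots / 2 ≤ 12 + m by
      show 12 ≤ 12 + m; omega) (show 12 + m < 24 by omega) hv
    have hvK : v = vK (if t.val = 0 then [] else [(12 + m, t.val)]) * ⟨v', uGe_le_group _ hv'⟩ := by
      refine Subtype.ext ?_
      rw [Subgroup.coe_mul, hvt]
      congr 1
      split_ifs with h0
      · rw [(ZMod.val_eq_zero t).1 h0, vK_nil, OneMemClass.coe_one, xg_zero]
      · rw [vK_single (by omega), ZMod.natCast_zmod_val, coe_xG]
    have hl := level_ok m (by omega)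
    simp only [levelOK, Bool.and_eq_true, List.all_eq_true] at hl
    have hmem : (n, t.val, n + t.val * 3 ^ m) ∈ children m := by
      simp only [children, List.mem_flatMap, List.mem_map, List.mem_range]
      exact ⟨n, hn, t.val, ZMod.val_lt t, rfl⟩
    obtain ⟨⟨ps, y⟩, hz⟩ := exists_zip (children m) (moves.getD m []) (Nat.eq_of_beq_eq_true hl.1) _ hmem
    have hc := hl.2 _ hz
    simp only [childOK, Bool.and_eq_true, List.all_eq_true, List.any_eq_true] at hc
    obtain ⟨⟨⟨⟨hb1, hps⟩, ⟨n', hn', hy⟩⟩, hb2⟩, hs⟩ := hc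
    rw [Nat.eq_of_beq_eq_true hy] at hb2
    have hps' : ∀ g ∈ ps, g < 8 := fun g hg => by
      have := hps g hg
      simpa [Nat.blt] using this
    set W := vK (pathWord ps)
    set w' : K := ⟨v', uGe_le_group _ hv'⟩
    have h1 := vK_congr (lt_append (pathWord_lt ps) (uWord_lt _)) (lt_append (uWord_lt y) (pathWord_lt ps)) hs
    rw [vK_append, vK_append, beqW_eq hb1, vK_append] at h1
    rw [beqW_eq hb2, vK_append] at h1
    set high := (uWord y).filter fun e => Nat.blt (12 + m) e.1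
    refine ⟨n', hn', W * c, vK high * (W * w' * W⁻¹), mul_mem (inU_word _ fun e he => ?_) ?_, ?_⟩
    · obtain ⟨he1, he2⟩ := List.mem_filter.1 he
      refine ⟨?_, (uWord_spec y e he1).1, (uWord_spec y e he1).2⟩
      have : 12 + m < e.1 := by simpa [Nat.blt] using he2
      omega
    · exact path_conj ps hps' (by omega) hv'
    · calc W * c * u * (W * c)⁻¹ = W * (c * u * c⁻¹) * W⁻¹ := by group
        _ = W * (vK (uWord n) * vK (if t.val = 0 then [] else [(12 + m, t.val)])) * w' * W⁻¹ := by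
          rw [he, hvK]; group
        _ = _ := by rw [h1]; simp only [W]; group

/-- The representative of a class. -/
noncomputable def rep (j : ℕ) : K := vK (classWord j)

theorem rep_spec (j : Fin 13) : rep j.val ^ 3 = 1 ∧ rep j.val ≠ 1 := by
  have h := class_ok j
  simp only [classOK, Bool.and_eq_true, Bool.not_eq_true'] at h
  refine ⟨(cube_of_same (nodeWord_lt _) h.1.1).2, fun h1 => ?_⟩
  rw [(vK_eq_one (w := classWord j.val) (nodeWord_lt _)).1 h1] at h
  exact Bool.noConfusion h.1.2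

theorem class_of_elem {x : K} (h3 : x ^ 3 = 1) (h1 : x ≠ 1) :
    ∃ (j : Fin 13) (c : K), c * x * c⁻¹ = rep j.val := by
  haveI : Finite K := inferInstance
  obtain ⟨P, hP⟩ := ChevalleySylow.exists_sylow Xc.C Xc.S 3 (F := F3)
  have hp : IsPGroup 3 (Subgroup.zpowers x) := by
    refine IsPGroup.of_card (n := 1) ?_
    rw [Nat.card_zpowers, pow_one, orderOf_eq_prime h3 h1]
  obtain ⟨R, hR⟩ := hp.exists_le_sylow
  obtain ⟨g, hg⟩ := MulAction.exists_smul_eq K R P
  have hmem : g * x * g⁻¹ ∈ (P : Subgroup K) := by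
    rw [← hg, Sylow.coe_subgroup_smul]
    exact ⟨x, hR (Subgroup.mem_zpowers x), rfl⟩
  rw [hP, Subgroup.mem_subgroupOf, posUnipotent_eq Xc.C] at hmem
  obtain ⟨n, hn, c, v, hv, he⟩ := descend 12 le_rfl (g * x * g⁻¹) hmem
  have hv1 : v = 1 := by
    refine Subtype.ext (Subgroup.mem_bot.1 ?_)
    rw [← uGe_top Xc.C (F := F3) (show chevD4.nroots ≤ 24 from le_rfl)]
    exact hv
  rw [hv1, mul_one] at he
  set d := c * g
  have hd : d * x * d⁻¹ = vK (uWord n) := by rw [← he]; simp only [d]; group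
  obtain ⟨hlen, hall⟩ := fusion_ok
  obtain ⟨o, ho⟩ := exists_zip (reps.getD 12 []) fusion (Nat.eq_of_beq_eq_true hlen).symm n hn
  have hf := List.all_eq_true.1 hall _ ho
  rcases o with _ | ⟨ps, j⟩
  · exfalso
    simp only [fuseOK, Bool.or_eq_true, Bool.not_eq_true'] at hf
    rcases hf with hf | hf
    · rw [(vK_eq_one (uWord_lt n)).2 hf] at hd
      exact h1 (conj_eq_one_iff.1 hd)
    · have : vK (uWord n ++ (uWord n ++ uWord n)) = 1 := by
        rw [vK_append, vK_append, ← hd, show d * x * d⁻¹ * (d * x * d⁻¹ * (d * x * d⁻¹)) = (d * x * d⁻¹) ^ 3 by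
          rw [pow_succ', pow_two], conj_pow, h3]
        group
      rw [(vK_eq_one (lt_append (uWord_lt n) (lt_append (uWord_lt n) (uWord_lt n)))).1 this] at hf
      exact Bool.noConfusion hf
  · simp only [fuseOK, Bool.and_eq_true] at hf
    have hj : j < 13 := by simpa [Nat.blt] using hf.1
    have h2 := vK_congr (lt_append (pathWord_lt ps) (uWord_lt n))
      (lt_append (nodeWord_lt _) (pathWord_lt ps)) hf.2
    rw [vK_append, vK_append, ← hd] at h2
    refine ⟨⟨j, hj⟩, vK (pathWord ps) * d, ?_⟩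
    rw [mul_inv_rev, show vK (pathWord ps) * d * x * (d⁻¹ * (vK (pathWord ps))⁻¹) =
      (vK (pathWord ps) * (d * x * d⁻¹)) * (vK (pathWord ps))⁻¹ by group, h2]
    group
    rfl

/-! ### the invariant -/

/-- The image of a vector under `(u - 1) ^ 2`. -/
def sq1 (u : O8 F3) (v : I8 → F3) : I8 → F3 := ((mat8 u - 1) * (mat8 u - 1)) *ᵥ v

/-- A value of the quadratic invariant is taken. -/
def Pk (u : O8 F3) (k : F3) : Prop := ∃ v, sq1 u v ≠ 0 ∧ pol8 v (sq1 u v) = k

theorem mat8_mul (g h : O8 F3) : mat8 (g * h) = mat8 g * mat8 h := by simp [mat8]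

theorem mat8_one' : mat8 (1 : O8 F3) = 1 := by simp [mat8]

set_option maxHeartbeats 1000000 in
theorem Pk_conj {g u : O8 F3} {k : F3} (h : Pk u k) : Pk (g * u * g⁻¹) k := by
  obtain ⟨v, hne, hk⟩ := h
  have hkey : sq1 (g * u * g⁻¹) (ap g v) = ap g (sq1 u v) := by
    have e : mat8 (g * u * g⁻¹) = mat8 g * mat8 u * mat8 g⁻¹ := by rw [mat8_mul, mat8_mul]
    have i1 : mat8 g⁻¹ * mat8 g = 1 := by rw [← mat8_mul, inv_mul_cancel, mat8_one']
    have i2 : mat8 g * mat8 g⁻¹ = 1 := by rw [← mat8_mul, mul_inv_cancel, mat8_one']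
    simp only [sq1, ap, Matrix.mulVec_mulVec]
    refine congrArg (fun M => M *ᵥ v) ?_
    rw [e, show mat8 g * mat8 u * mat8 g⁻¹ - 1 = mat8 g * (mat8 u - 1) * mat8 g⁻¹ by
      rw [mul_sub, sub_mul, mul_one, i2]]
    calc mat8 g * (mat8 u - 1) * mat8 g⁻¹ * (mat8 g * (mat8 u - 1) * mat8 g⁻¹) * mat8 g
        = mat8 g * (mat8 u - 1) * (mat8 g⁻¹ * mat8 g) * (mat8 u - 1) * (mat8 g⁻¹ * mat8 g) := by
          simp only [mul_assoc]
      _ = _ := by rw [i1]; simp [mul_assoc]
  refine ⟨ap g v, ?_, ?_⟩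
  · rw [hkey]
    intro h0
    apply hne
    have := congrArg (fun w => ap g⁻¹ w) h0
    simpa [ap, mat8, Matrix.mulVec_mulVec] using this
  · rw [hkey, ap_pol, hk]

theorem sq1_inv {u : O8 F3} (h : u ^ 3 = 1) (v : I8 → F3) : sq1 u⁻¹ v = sq1 u v := by
  have e : u⁻¹ = u * u := inv_eq_of_mul_eq_one_right (by rw [← h, pow_succ', pow_two])
  have e3 : mat8 u * mat8 u * mat8 u = 1 := by
    have := congrArg mat8 h
    simpa [mat8, pow_succ] using this
  simp only [sq1]
  congr 1
  rw [e, show mat8 (u * u) = mat8 u * mat8 u by simp [mat8]]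
  set M := mat8 u
  have h3 : (3 : Matrix I8 I8 F3) = 0 := by
    have := congrArg (algebraMap F3 (Matrix I8 I8 F3)) (show (3 : F3) = 0 by decide)
    simpa [map_ofNat] using this
  have : (M * M - 1) * (M * M - 1) - (M - 1) * (M - 1) = (M * M * M - 1) * M + 3 * (M - M * M) := by
    noncomm_ring
  rw [e3, h3, sub_self, zero_mul, zero_mul, add_zero] at this
  exact sub_eq_zero.1 this

/-- The invariant on the adjoint group. -/
def PK (k : F3) (x : K) : Prop :=
  ∃ u : ↥(rootGroup F3), piK u = x ∧ (u : O8 F3) ^ 3 = 1 ∧ Pk (u : O8 F3) k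

theorem PK_conj_of {k : F3} {x : K} (g : K) (h : PK k x) : PK k (g * x * g⁻¹) := by
  obtain ⟨u, rfl, h3, hP⟩ := h
  obtain ⟨w, rfl⟩ := piK_surjective g
  refine ⟨w * u * w⁻¹, by simp, ?_, ?_⟩
  · rw [Subgroup.coe_mul, Subgroup.coe_mul, Subgroup.coe_inv, conj_pow, h3]
    group
  · rw [Subgroup.coe_mul, Subgroup.coe_mul, Subgroup.coe_inv]
    exact Pk_conj hP

theorem PK_conj {k : F3} {x : K} (g : K) : PK k (g * x * g⁻¹) ↔ PK k x := by
  refine ⟨fun h => ?_, PK_conj_of g⟩
  have := PK_conj_of g⁻¹ h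
  rwa [show g⁻¹ * (g * x * g⁻¹) * g⁻¹⁻¹ = x by group] at this

theorem PK_inv {k : F3} {x : K} : PK k x⁻¹ ↔ PK k x := by
  have h : ∀ {y : K}, PK k y → PK k y⁻¹ := by
    rintro y ⟨u, rfl, h3, v, hv⟩
    refine ⟨u⁻¹, map_inv _ _, by rw [Subgroup.coe_inv, inv_pow, h3, inv_one], v, ?_⟩
    rw [Subgroup.coe_inv, sq1_inv h3]
    exact hv
  exact ⟨fun hx => by simpa using h hx, h⟩

theorem PK_word {k : F3} {w : List (ℕ × ℕ)} (h3 : val w ^ 3 = 1) :
    PK k (vK w) ↔ Pk (val w) k := by
  refine ⟨fun ⟨u, hu, hu3, hP⟩ => ?_, fun hP => ⟨⟨val w, val_mem w⟩, rfl, h3, hP⟩⟩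
  have hz : piK (u * ⟨val w, val_mem w⟩⁻¹) = 1 := by rw [map_mul, map_inv, hu, vK, mul_inv_cancel]
  obtain ⟨a, ha, hm⟩ := scalar_of_piK hz
  have hm' : mat8 (u : O8 F3) = a • mat8 (val w) := by
    have e : mat8 (u : O8 F3) = mat8 ((u * ⟨val w, val_mem w⟩⁻¹ : ↥(rootGroup F3)) : O8 F3) * mat8 (val w) := by
      simp [mat8, mul_assoc]
    rw [e, hm, Matrix.smul_mul, Matrix.one_mul]
  have hw3 : mat8 (val w) * mat8 (val w) * mat8 (val w) = 1 := by
    simpa [mat8, pow_succ] using congrArg mat8 h3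
  have hu3' : mat8 (u : O8 F3) * mat8 (u : O8 F3) * mat8 (u : O8 F3) = 1 := by
    simpa [mat8, pow_succ] using congrArg mat8 hu3
  rw [hm'] at hu3'
  simp only [Matrix.smul_mul, Matrix.mul_smul, hw3, smul_smul] at hu3'
  have ha1 : a = 1 := by
    have := congrFun (congrFun hu3' (Sum.inl 0)) (Sum.inl 0)
    simp only [Matrix.smul_apply, Matrix.one_apply_eq, smul_eq_mul, mul_one] at this
    rwa [ha, mul_one] at this
  rw [ha1, one_smul] at hm'
  rwa [mat8_ext hm'] at hP

/-! ### the symmetries -/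

/-- The six symmetries. -/
def perm6 : Fin 6 → Equiv.Perm (Fin 3) :=
  ![1, Equiv.swap 1 2, Equiv.swap 0 1, finRotate 3, finRotate 3 * finRotate 3, Equiv.swap 0 2]

theorem perm6_surj : ∀ σ : Equiv.Perm (Fin 3), ∃ s, perm6 s = σ := by decide +kernel

theorem node_ok : ∀ (s : Fin 6) (g : Fin 4), (emb (perm6 s) g).val = (nodeMaps.getD s.val []).getD g.val 0 := by
  decide +kernel

theorem simple_eq : ∀ g : Fin 4, chevD4.simple g.val = simples.getD g.val 0 := by decide +kernel

theorem graph_word (σ : Fin 6) : ∀ w : List (ℕ × ℕ), (∀ e ∈ w, e.1 < 4) →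
    gHom Xc (perm6 σ) (vK (nodeWord w)) = vK (nodeWord (relabel (nodeMaps.getD σ.val []) w)) := by
  intro w
  induction w with
  | nil => intro _; simp [nodeWord, relabel, vK_nil]
  | cons e w ih =>
    intro h
    have he := h e List.mem_cons_self
    have hi : emb (perm6 σ) (⟨e.1, he⟩ : Fin chevD4.rank) =
        (⟨(nodeMaps.getD σ.val []).getD e.1 0, node_ok σ ⟨e.1, he⟩ ▸ (emb (perm6 σ) ⟨e.1, he⟩).isLt⟩ :
          Fin chevD4.rank) := Fin.ext (node_ok σ ⟨e.1, he⟩)
    have hm : (nodeMaps.getD σ.val []).getD e.1 0 < 4 := node_ok σ ⟨e.1, he⟩ ▸ (emb (perm6 σ) ⟨e.1, he⟩).isLt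
    simp only [nodeWord, relabel, List.map_cons] at ih ⊢
    rw [show ((simples.getD (e.1 % 4) 0, e.2) :: w.map fun e => (simples.getD (e.1 % 4) 0, e.2)) =
      [(simples.getD (e.1 % 4) 0, e.2)] ++ (w.map fun e => (simples.getD (e.1 % 4) 0, e.2)) from rfl,
      vK_append, map_mul, ih fun f hf => h f (List.mem_cons_of_mem _ hf)]
    rw [← List.singleton_append (l := List.map _ _), vK_append]
    congr 1
    rw [Nat.mod_eq_of_lt he, Nat.mod_eq_of_lt hm, vK_single (simples_lt ⟨e.1, he⟩).2,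
      vK_single (simples_lt ⟨_, hm⟩).2, ← simple_eq ⟨e.1, he⟩, ← simple_eq ⟨_, hm⟩]
    rw [(gHom_form Xc (perm6 σ)).pos ⟨e.1, he⟩ (e.2 : F3), hi, ex_D4]
    simp

/-- The image of a class under a symmetry. -/
noncomputable def img (j : Fin 13) (s : Fin 6) : K := gHom Xc (perm6 s) (rep j.val)

theorem img_eq (j : Fin 13) (s : Fin 6) : img j s = vK (imageWord j.val s.val) := by
  have h := class_ok j
  simp only [classOK, Bool.and_eq_true, List.all_eq_true] at h
  exact graph_word s _ fun e he => by simpa [Nat.blt] using h.2 e he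

theorem pol8_sum (v x : I8 → F3) : pol8 v x = ∑ i : I8, v i * x (bar i) := by
  simp only [pol8, Fintype.sum_sum_type, bar_inl, bar_inr, Finset.sum_add_distrib]

theorem sum_left (l v : I8 → F3) (c : F3) : ∑ i, c * l i * v i = c * ∑ i, l i * v i := by
  rw [Finset.mul_sum]
  exact Finset.sum_congr rfl fun i _ => by ring

theorem sum_right (l v : I8 → F3) (c S : F3) :
    ∑ i, v i * (c * l i * S) = c * ((∑ i, l i * v i) * S) := by
  rw [Finset.sum_mul, Finset.mul_sum]
  exact Finset.sum_congr rfl fun i _ => by ring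

set_option maxHeartbeats 1000000 in
theorem PK_img (j : Fin 13) (s : Fin 6) (k : Fin 3) :
    PK (k.val : F3) (img j s) ↔ truth j.val s.val k.val = true := by
  have hm := quad_mat_ok j s
  simp only [quadMatOK, Bool.and_eq_true, decide_eq_true_eq] at hm
  obtain ⟨hc, hM⟩ := hm
  have hw : ∀ e ∈ imageWord j.val s.val, e.1 < 24 := nodeWord_lt _
  obtain ⟨h3, -⟩ := cube_of_same hw hc
  rw [img_eq, PK_word h3]
  have hv := quad_val_ok j s k
  simp only [QuadValOK] at hv
  simp only [truth]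
  generalize quad j.val s.val = q at hM hv ⊢
  clear hc
  generalize imageWord j.val s.val = w at hM hw h3 ⊢
  set c1 : F3 := (q.2.1 : F3)
  set c2 : F3 := (q.2.2.2.1 : F3)
  set l1 := vecL q.2.2.1 with hl1
  set l2 := vecL q.2.2.2.2 with hl2
  have hN : ∀ v a, sq1 (val w) v a =
      c1 * l1 (bar a) * (∑ i, l1 i * v i) + c2 * l2 (bar a) * (∑ i, l2 i * v i) := by
    intro v a
    have hsq : ∀ a b, ((mat8 (val w) - 1) * (mat8 (val w) - 1)) a b =
        c1 * l1 (bar a) * l1 b + c2 * l2 (bar a) * l2 b := by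
      intro a b
      have e : (mat8 (val w) - 1) * (mat8 (val w) - 1) =
          mat8 (val (w ++ w)) + mat8 (val w) + 1 := by
        rw [val_append, show mat8 (val w * val w) =
          mat8 (val w) * mat8 (val w) by simp [mat8]]
        set M := mat8 (val w)
        have h2 : ((-2 : ℤ) • M) = M := by
          ext i j
          simp only [Matrix.smul_apply, zsmul_eq_mul]
          rw [show ((-2 : ℤ) : F3) = 1 by decide, one_mul]
        have h2' : (M - 1) * (M - 1) = M * M + (-2 : ℤ) • M + 1 := by noncomm_ring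
        rw [h2', h2]
      rw [e, mat_val (lt_append hw hw), mat_val hw]
      have h := congrArg (fun n : ℕ => (n : F3)) (hM a b)
      simp only [ZMod.natCast_mod, Nat.cast_add, Nat.cast_mul] at h
      simp only [Matrix.add_apply, matL, Matrix.of_apply, hl1, hl2, vecL]
      rw [← h]
      congr 1
      by_cases hab : a = b
      · subst hab; simp
      · rw [Matrix.one_apply_ne hab, if_neg fun h => hab (code_inj _ _ h), Nat.cast_zero]
    simp only [sq1, Matrix.mulVec, dotProduct, hsq, add_mul, Finset.sum_add_distrib]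
    rw [sum_left, sum_left]
  have hpol : ∀ v, pol8 v (sq1 (val w) v) =
      c1 * ((∑ i, l1 i * v i) * (∑ i, l1 i * v i)) + c2 * ((∑ i, l2 i * v i) * (∑ i, l2 i * v i)) := by
    intro v
    simp only [pol8_sum, hN, bar_bar, mul_add, Finset.sum_add_distrib]
    rw [sum_right, sum_right]
  rcases hT : q.1.getD k.val none with _ | v
  · rw [hT] at hv
    simp only [Option.isSome_none, Bool.false_eq_true, iff_false]
    rintro ⟨v, hne, hk⟩
    refine hv _ _ ?_ ((hpol v).symm.trans hk)
    by_contra hcon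
    push Not at hcon
    refine hne (funext fun a => ?_)
    rw [hN, Pi.zero_apply]
    have t1 : c1 * (∑ i, l1 i * v i) = 0 := by
      by_cases hc : c1 = 0
      · rw [hc, zero_mul]
      · rw [hcon.1 hc, mul_zero]
    have t2 : c2 * (∑ i, l2 i * v i) = 0 := by
      by_cases hc : c2 = 0
      · rw [hc, zero_mul]
      · rw [hcon.2 hc, mul_zero]
    rw [show c1 * l1 (bar a) * (∑ i, l1 i * v i) = l1 (bar a) * (c1 * ∑ i, l1 i * v i) by ring,
      show c2 * l2 (bar a) * (∑ i, l2 i * v i) = l2 (bar a) * (c2 * ∑ i, l2 i * v i) by ring, t1, t2]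
    simp
  · rw [hT] at hv
    obtain ⟨⟨a, ha⟩, hval⟩ := hv
    simp only [Option.isSome_some, iff_true]
    refine ⟨vecL v, fun h0 => ha ?_, (hpol _).trans hval⟩
    rw [← hN, h0, Pi.zero_apply]

/-! ### the classes of subgroups -/

attribute [local irreducible] rep

/-- The subgroup of a class. -/
noncomputable def Y (j : Fin 13) : Subgroup K := Subgroup.zpowers (rep j.val)

theorem card_Y (j : Fin 13) : Nat.card (Y j) = 3 := by
  rw [Y, Nat.card_zpowers, orderOf_eq_prime (rep_spec j).1 (rep_spec j).2]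

theorem eq_or_inv {G : Type*} [Group G] {a b : G} (hb : b ^ 3 = 1) (ha : a ≠ 1)
    (h : a ∈ Subgroup.zpowers b) : a = b ∨ a = b⁻¹ := by
  obtain ⟨n, rfl⟩ := Subgroup.mem_zpowers_iff.1 h
  have e : b ^ n = b ^ (n % 3) := by
    rw [show (3 : ℤ) = ((3 : ℕ) : ℤ) from rfl] at *
    conv_lhs => rw [← Int.mul_ediv_add_emod n ((3 : ℕ) : ℤ), zpow_add, zpow_mul, zpow_natCast, hb, one_zpow,
      one_mul]
  rw [e] at ha ⊢
  obtain h | h | h : n % 3 = 0 ∨ n % 3 = 1 ∨ n % 3 = 2 := by omega
  · rw [h, zpow_zero] at ha; exact absurd rfl ha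
  · left; rw [h, zpow_one]
  · right
    rw [h, zpow_two]
    exact eq_inv_of_mul_eq_one_left (by rw [← hb, pow_succ, pow_two])

theorem exists_Y {Z : Subgroup K} (hZ : Nat.card Z = 3) :
    ∃ (i : Fin 13) (c : K), Z.map (MulAut.conj c).toMonoidHom = Y i := by
  obtain ⟨x, hx⟩ := exists_prime_orderOf_dvd_card' (G := Z) 3 (by rw [hZ])
  have hx' : orderOf (x : K) = 3 := by rw [Subgroup.orderOf_coe]; exact hx
  have hZx : Z = Subgroup.zpowers (x : K) := by
    refine (Subgroup.eq_of_le_of_card_ge (Subgroup.zpowers_le.2 x.2) ?_).symm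
    rw [hZ, Nat.card_zpowers, hx']
  obtain ⟨j, c, hc⟩ := class_of_elem (x := (x : K)) (by
    have h := pow_orderOf_eq_one (x : K); rwa [hx'] at h)
    fun h => by rw [h, orderOf_one] at hx'; omega
  refine ⟨j, c, ?_⟩
  rw [hZx, MonoidHom.map_zpowers, Y, ← hc]
  rfl

/-- An automorphism carrying one class of subgroups to another, read on the invariants. -/
theorem truth_of_map {i i' : Fin 13} {c : K} {ρ : Equiv.Perm (Fin 3)}
    (h : (Y i).map ((MulAut.conj c) * gHom Xc ρ).toMonoidHom = Y i') :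
    ∀ (s s' : Fin 6) (k : Fin 3), perm6 s' = perm6 s * ρ →
      truth i'.val s.val k.val = truth i.val s'.val k.val := by
  intro s s' k hss
  have hmem : ((MulAut.conj c) * gHom Xc ρ) (rep i.val) ∈ Y i' :=
    h ▸ ⟨rep i.val, Subgroup.mem_zpowers _, rfl⟩
  have hne : ((MulAut.conj c) * gHom Xc ρ) (rep i.val) ≠ 1 := fun h1 =>
    (rep_spec i).2 (((MulAut.conj c) * gHom Xc ρ).map_eq_one_iff.1 h1)
  have key : PK (k.val : F3) (gHom Xc (perm6 s) (((MulAut.conj c) * gHom Xc ρ) (rep i.val))) ↔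
      PK (k.val : F3) (img i s') := by
    rw [MulAut.mul_apply, MulAut.conj_apply, map_mul, map_mul, map_inv, PK_conj, img, hss, map_mul,
      MulAut.mul_apply]
  have key' : PK (k.val : F3) (gHom Xc (perm6 s) (((MulAut.conj c) * gHom Xc ρ) (rep i.val))) ↔
      PK (k.val : F3) (img i' s) := by
    rcases eq_or_inv (rep_spec i').1 hne hmem with e | e
    · rw [e]; rfl
    · rw [e, map_inv, PK_inv]; rfl
  rw [PK_img] at key key'
  exact Bool.eq_iff_iff.2 (key'.symm.trans key)

theorem Y_inj {i i' : Fin 13} {c : K} (h : (Y i).map (MulAut.conj c).toMonoidHom = Y i') : i = i' := by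
  refine rows_sep i i' fun s k => ?_
  refine (truth_of_map (i := i) (i' := i') (c := c) (ρ := 1) ?_ s s k (mul_one _).symm).symm
  rw [map_one, mul_one]
  exact h

/-- The classes up to the symmetries. -/
def canon : Fin 7 → Fin 13 := ![0, 1, 2, 3, 7, 8, 12]

theorem canon_cover : ∀ j : Fin 13, ∃ (o : Fin 7) (s : Fin 6),
    ((images.getD j.val []).getD s.val ([], 0)).2 = (canon o).val := by
  decide +kernel

theorem canon_sep : ∀ (o o' : Fin 7) (r : Fin 6), (∀ (s s' : Fin 6), perm6 s' = perm6 s * perm6 r →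
    ∀ k : Fin 3, truth (canon o').val s.val k.val = truth (canon o).val s'.val k.val) → o = o' := by
  decide +kernel

theorem canon_inj {o o' : Fin 7} {c : K} {ρ : Equiv.Perm (Fin 3)}
    (h : (Y (canon o)).map ((MulAut.conj c) * gHom Xc ρ).toMonoidHom = Y (canon o')) : o = o' := by
  obtain ⟨r, rfl⟩ := perm6_surj ρ
  exact canon_sep o o' r fun s s' hss k => truth_of_map h s s' k hss

theorem canon_exists {Z : Subgroup K} (hZ : Nat.card Z = 3) :
    ∃ (o : Fin 7) (c : K) (ρ : Equiv.Perm (Fin 3)),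
      Z.map ((MulAut.conj c) * gHom Xc ρ).toMonoidHom = Y (canon o) := by
  obtain ⟨j, c, hc⟩ := exists_Y hZ
  obtain ⟨o, s, hos⟩ := canon_cover j
  have hi := image_ok j s
  simp only [imageOK, Bool.and_eq_true] at hi
  set e := (images.getD j.val []).getD s.val ([], 0)
  have h2 := vK_congr (lt_append (pathWord_lt e.1) (nodeWord_lt _))
    (lt_append (nodeWord_lt _) (pathWord_lt e.1)) hi.2
  rw [vK_append, vK_append, hos] at h2
  set W := vK (pathWord e.1)
  refine ⟨o, W * gHom Xc (perm6 s) c, perm6 s, ?_⟩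
  have h3 : (Y j).map (MulAut.conj W * gHom Xc (perm6 s)).toMonoidHom = Y (canon o) := by
    rw [Y, MonoidHom.map_zpowers, Y]
    refine congrArg Subgroup.zpowers ?_
    simp only [MulEquiv.coe_toMonoidHom, MulAut.mul_apply, MulAut.conj_apply]
    rw [← img, img_eq, rep]
    exact mul_inv_eq_iff_eq_mul.2 h2
  rw [← h3, ← hc, Subgroup.map_map]
  refine congrArg (fun f => Z.map f) (MonoidHom.ext fun x => ?_)
  simp [MulAut.mul_apply, mul_assoc]

end Cfsg.Agent.DFourThreeClasses29
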