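import Cfsg.Agent.Lib.DFourRoots

/-!
Products of root elements of the eight-dimensional orthogonal group over the field with three elements,
evaluated on packed numbers: three bits for an entry, twenty-four for a row.
-/

set_option autoImplicit false

namespace Cfsg.Agent.DFourThreeWord29

open Cfsg.Agent.DFourRoots
open scoped Matrix

/-! ### digit lists -/

/-- A number from its digits. -/
def enc (B : ℕ) : List ℕ → ℕ
  | [] => 0
  | x :: xs => x + B * enc B xs

theorem enc_get {B : ℕ} (hB : 0 < B) : ∀ (L : List ℕ), (∀ x ∈ L, x < B) → ∀ i,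
    enc B L / B ^ i % B = L.getD i 0 := by
  intro L
  induction L with
  | nil => intro _ i; simp [enc]
  | cons x xs ih =>
    intro h i
    have hx := h x List.mem_cons_self
    cases i with
    | zero => simp [enc, Nat.mod_eq_of_lt hx]
    | succ n =>
      rw [enc, pow_succ', ← Nat.div_div_eq_div_mul, Nat.add_mul_div_left _ _ hB,
        Nat.div_eq_of_lt hx, zero_add, ih (fun y hy => h y (List.mem_cons_of_mem _ hy)) n,
        List.getD_cons_succ]

theorem enc_lt {B : ℕ} : ∀ (L : List ℕ), (∀ x ∈ L, x < B) → enc B L < B ^ L.length := by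
  intro L
  induction L with
  | nil => intro _; simp [enc]
  | cons x xs ih =>
    intro h
    have h1 := h x List.mem_cons_self
    have h2 := ih fun y hy => h y (List.mem_cons_of_mem _ hy)
    rw [enc, List.length_cons, pow_succ']
    have h3 : B * (enc B xs + 1) ≤ B * B ^ xs.length := Nat.mul_le_mul_left B h2
    rw [Nat.mul_succ] at h3
    omega

theorem enc_set {B : ℕ} : ∀ (L : List ℕ) (i v : ℕ), i < L.length →
    enc B (L.set i v) + L.getD i 0 * B ^ i = enc B L + v * B ^ i := by
  intro L
  induction L with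
  | nil => intro i v h; simp at h
  | cons x xs ih =>
    intro i v h
    cases i with
    | zero => simp [enc]; omega
    | succ n =>
      have := ih n v (by simpa using h)
      simp only [List.set_cons_succ, enc, List.getD_cons_succ, pow_succ']
      linear_combination B * this

/-! ### the ring of three elements on digits -/

/-- A one in every place. -/
def ones : ℕ → ℕ
  | 0 => 0
  | n + 1 => 1 + 8 * ones n

/-- Subtract three in the places holding at least three. -/
def red (z : ℕ) : ℕ := z - 3 * (((z + 2396745) / 4) &&& 2396745)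

/-- `x + c y` in every place. -/
def comb (c x y : ℕ) : ℕ := red (red (x + c * y))

theorem land_step (X o : ℕ) : X &&& (1 + 8 * o) = X % 2 + 8 * ((X / 8) &&& o) := by
  refine Nat.eq_of_testBit_eq fun i => ?_
  rw [Nat.testBit_and, show 1 + 8 * o = 2 ^ 3 * o + 1 by ring,
    show X % 2 + 8 * (X / 8 &&& o) = 2 ^ 3 * (X / 8 &&& o) + X % 2 by ring,
    Nat.testBit_two_pow_mul_add _ (by norm_num), Nat.testBit_two_pow_mul_add _ (by omega)]
  by_cases hi : i < 3
  · rw [if_pos hi, if_pos hi]
    rcases i with _ | j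
    · simp [Nat.testBit_zero]
    · have h1 : Nat.testBit 1 (j + 1) = false := by simp [Nat.testBit_succ]
      have h2 : Nat.testBit (X % 2) (j + 1) = false := by
        rw [Nat.testBit_succ, Nat.div_eq_of_lt (Nat.mod_lt _ two_pos)]; simp
      simp [h1, h2]
  · rw [if_neg hi, if_neg hi, Nat.testBit_and]
    congr 1
    rw [show (8 : ℕ) = 2 ^ 3 by norm_num, Nat.testBit_div_two_pow]
    congr 1
    omega

theorem red_digits : ∀ L : List ℕ, (∀ x ∈ L, x ≤ 6) →
    3 * (((enc 8 L + ones L.length) / 4) &&& ones L.length) +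
        enc 8 (L.map fun x => if 3 ≤ x then x - 3 else x) = enc 8 L := by
  intro L
  induction L with
  | nil => intro _; simp [enc, ones]
  | cons x xs ih =>
    intro h
    have hx := h x List.mem_cons_self
    have ih' := ih fun y hy => h y (List.mem_cons_of_mem _ hy)
    simp only [List.map_cons, enc, List.length_cons, ones]
    rw [land_step]
    have e1 : (x + 8 * enc 8 xs + (1 + 8 * ones xs.length)) / 4 % 2 = if 3 ≤ x then 1 else 0 := by
      split_ifs <;> omega
    have e2 : (x + 8 * enc 8 xs + (1 + 8 * ones xs.length)) / 4 / 8 =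
        (enc 8 xs + ones xs.length) / 4 := by omega
    rw [e1, e2]
    split_ifs <;> omega

theorem red_spec (L : List ℕ) (hlen : L.length = 8) (h : ∀ x ∈ L, x ≤ 6) :
    red (enc 8 L) = enc 8 (L.map fun x => if 3 ≤ x then x - 3 else x) := by
  have h1 := red_digits L h
  rw [hlen, show ones 8 = 2396745 by decide] at h1
  rw [red]
  omega

theorem enc_comb (c : ℕ) : ∀ X Y : List ℕ, X.length = Y.length →
    enc 8 X + c * enc 8 Y = enc 8 (List.zipWith (fun x y => x + c * y) X Y) := by
  intro X
  induction X with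
  | nil => intro Y h; cases Y with
    | nil => simp [enc]
    | cons => simp at h
  | cons x xs ih =>
    intro Y h
    cases Y with
    | nil => simp at h
    | cons y ys =>
      simp only [List.zipWith_cons_cons, enc, ← ih ys (by simpa using h)]
      ring

/-- `x + c y` on lists. -/
def combL (c : ℕ) (X Y : List ℕ) : List ℕ := List.zipWith (fun x y => (x + c * y) % 3) X Y

/-- A row: eight entries below three. -/
def IsRow (X : List ℕ) : Prop := X.length = 8 ∧ ∀ x ∈ X, x < 3

theorem getD_le {X : List ℕ} (h : IsRow X) (i : ℕ) : X.getD i 0 < 3 := by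
  by_cases hi : i < X.length
  · rw [List.getD_eq_getElem _ _ hi]; exact h.2 _ (List.getElem_mem hi)
  · rw [List.getD_eq_default _ _ (by omega)]; norm_num

theorem combL_row {c : ℕ} {X Y : List ℕ} (hX : IsRow X) (hY : IsRow Y) : IsRow (combL c X Y) := by
  refine ⟨by simp [combL, hX.1, hY.1], fun x hx => ?_⟩
  obtain ⟨i, hi, rfl⟩ := List.mem_iff_getElem.1 hx
  simp only [combL, List.getElem_zipWith]
  exact Nat.mod_lt _ (by norm_num)

theorem comb_spec {c : ℕ} (hc : c ≤ 2) {X Y : List ℕ} (hX : IsRow X) (hY : IsRow Y) :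
    comb c (enc 8 X) (enc 8 Y) = enc 8 (combL c X Y) := by
  have hlen : (List.zipWith (fun x y => x + c * y) X Y).length = 8 := by simp [hX.1, hY.1]
  have hle : ∀ z ∈ List.zipWith (fun x y => x + c * y) X Y, z ≤ 6 := by
    intro z hz
    obtain ⟨i, hi, rfl⟩ := List.mem_iff_getElem.1 hz
    rw [List.getElem_zipWith]
    simp only [List.length_zipWith] at hi
    have h1 := hX.2 _ (List.getElem_mem (by omega : i < X.length))
    have h2 := hY.2 _ (List.getElem_mem (by omega : i < Y.length))
    calc X[i] + c * Y[i] ≤ 2 + 2 * 2 := Nat.add_le_add (by omega) (Nat.mul_le_mul hc (by omega))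
      _ = 6 := rfl
  rw [comb, enc_comb c X Y (by rw [hX.1, hY.1]), red_spec _ hlen hle, red_spec _ (by simpa using hlen)]
  · congr 1
    rw [combL, List.map_map, List.map_zipWith]
    refine List.ext_getElem (by simp [hX.1, hY.1]) fun i h1 h2 => ?_
    simp only [List.getElem_zipWith, Function.comp_apply]
    simp only [List.length_zipWith] at h2
    have h3 := hle (X[i]'(by omega) + c * Y[i]'(by omega))
      (List.mem_iff_getElem.2 ⟨i, by simpa using h2, by rw [List.getElem_zipWith]⟩)
    split_ifs <;> omega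
  · intro z hz
    obtain ⟨w, hw, rfl⟩ := List.mem_map.1 hz
    have := hle w hw
    split_ifs <;> omega

/-! ### root elements -/

/-- The first coordinates of the roots. -/
def tabA : List ℕ := [4,4,3,4,2,1,5,3,5,2,3,6,2,2,1,1,1,1,0,0,0,0,0,0]
/-- The second coordinates of the roots. -/
def tabB : List ℕ := [5,6,4,7,4,4,6,5,7,5,6,7,3,7,6,3,7,2,5,6,3,7,2,1]
/-- The signs of the roots. -/
def tabS : List ℕ := [2,2,1,2,2,1,1,2,1,1,1,2,1,1,1,2,2,2,1,2,1,1,1,1]
/-- The partner coordinate. -/
def opp (a : ℕ) : ℕ := (a + 4) % 8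

/-- The number of a coordinate. -/
def code : I8 → ℕ := Sum.elim (fun i => i.val) fun i => 4 + i.val

theorem code_lt : ∀ a : I8, code a < 8 := by decide

theorem code_inj : ∀ a b : I8, code a = code b → a = b := by decide

theorem code_bar : ∀ a : I8, code (bar a) = opp (code a) := by decide

theorem tab_spec : ∀ r : Fin 24, code (rootData r).1 = tabA.getD r.val 0 ∧
    code (rootData r).2.1 = tabB.getD r.val 0 ∧ ((rootData r).2.2 : ZMod 3) = (tabS.getD r.val 0 : ℕ) := by
  decide

/-- Left multiplication by a root element, on lists. -/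
def stepL (e : ℕ × ℕ) (M : List (List ℕ)) : List (List ℕ) :=
  let a := tabA.getD e.1 0
  let b := tabB.getD e.1 0
  let c := tabS.getD e.1 0 * e.2 % 3
  (M.set a (combL c (M.getD a []) (M.getD (opp b) []))).set b
    (combL (2 * c % 3) (M.getD b []) (M.getD (opp a) []))

/-- The identity. -/
def idL : List (List ℕ) :=
  (List.range 8).map fun i => (List.range 8).map fun j => if i = j then 1 else 0

/-- Evaluation on lists. -/
def evalL (w : List (ℕ × ℕ)) : List (List ℕ) := w.foldr stepL idL

/-- The tables packed. -/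
def pA : ℕ := enc 8 tabA
/-- The tables packed. -/
def pB : ℕ := enc 8 tabB
/-- The tables packed. -/
def pS : ℕ := enc 8 tabS
/-- The partners packed. -/
def pO : ℕ := enc 8 ((List.range 8).map opp)
/-- An entry of a packed table. -/
def get8 (T i : ℕ) : ℕ := (T >>> (3 * i)) &&& 7
/-- A packed row. -/
def getRow (M i : ℕ) : ℕ := (M >>> (24 * i)) &&& 16777215

/-- Left multiplication by a root element, packed. -/
def step (e : ℕ × ℕ) (M : ℕ) : ℕ :=
  let a := get8 pA e.1
  let b := get8 pB e.1
  let c := get8 pS e.1 * e.2 % 3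
  let x := getRow M a
  let y := getRow M b
  ((M - (x <<< (24 * a))) - (y <<< (24 * b))) + (comb c x (getRow M (get8 pO b)) <<< (24 * a)) +
    (comb (2 * c % 3) y (getRow M (get8 pO a)) <<< (24 * b))

/-- The packed identity. -/
def idP : ℕ := enc 16777216 ((List.range 8).map fun i => 8 ^ i)

/-- Evaluation of a word. -/
def evalW (w : List (ℕ × ℕ)) : ℕ := w.foldr step idP

/-- Packing. -/
def pack (D : List (List ℕ)) : ℕ := enc 16777216 (D.map (enc 8))

/-- A matrix of lists. -/
def IsMat (D : List (List ℕ)) : Prop := D.length = 8 ∧ ∀ X ∈ D, IsRow X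

theorem get8_eq {L : List ℕ} (h : ∀ x ∈ L, x < 8) (i : ℕ) : get8 (enc 8 L) i = L.getD i 0 := by
  rw [get8, show (7 : ℕ) = 2 ^ 3 - 1 from rfl, Nat.and_two_pow_sub_one_eq_mod, Nat.shiftRight_eq_div_pow,
    pow_mul, show (2 : ℕ) ^ 3 = 8 from rfl, enc_get (by norm_num) L h]

theorem row_lt {X : List ℕ} (h : IsRow X) : enc 8 X < 16777216 := by
  have := enc_lt (B := 8) X fun x hx => by have := h.2 x hx; omega
  rwa [h.1, show (8 : ℕ) ^ 8 = 16777216 by norm_num] at this

theorem getRow_pack {D : List (List ℕ)} (hD : IsMat D) {i : ℕ} (hi : i < 8) :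
    getRow (pack D) i = enc 8 (D.getD i []) := by
  rw [getRow, show (16777215 : ℕ) = 2 ^ 24 - 1 by norm_num, Nat.and_two_pow_sub_one_eq_mod,
    Nat.shiftRight_eq_div_pow, pow_mul, show (2 : ℕ) ^ 24 = 16777216 by norm_num, pack,
    enc_get (by norm_num) _ (fun x hx => by
      obtain ⟨X, hX, rfl⟩ := List.mem_map.1 hx; exact row_lt (hD.2 X hX))]
  have hi' : i < D.length := by rw [hD.1]; exact hi
  rw [List.getD_eq_getElem _ _ (by simpa using hi'), List.getD_eq_getElem _ _ hi', List.getElem_map]

theorem getRow_mem {D : List (List ℕ)} (hD : IsMat D) {i : ℕ} (hi : i < 8) : IsRow (D.getD i []) := by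
  rw [List.getD_eq_getElem _ _ (by rw [hD.1]; exact hi)]
  exact hD.2 _ (List.getElem_mem _)

theorem opp_lt (a : ℕ) : opp a < 8 := Nat.mod_lt _ (by norm_num)

theorem tab_lt : ∀ r, tabA.getD r 0 < 8 ∧ tabB.getD r 0 < 8 := by
  intro r
  by_cases h : r < 24
  · exact (by decide : ∀ r : Fin 24, tabA.getD r.val 0 < 8 ∧ tabB.getD r.val 0 < 8) ⟨r, h⟩
  · rw [List.getD_eq_default _ _ (by simp [tabA]; omega), List.getD_eq_default _ _ (by simp [tabB]; omega)]
    omega

theorem tab_ne : ∀ r : Fin 24, tabA.getD r.val 0 ≠ tabB.getD r.val 0 := by decide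

theorem stepL_mat {e : ℕ × ℕ} {D : List (List ℕ)} (hD : IsMat D) : IsMat (stepL e D) := by
  obtain ⟨ha, hb⟩ := tab_lt e.1
  refine ⟨by simp [stepL, hD.1], fun X hX => ?_⟩
  simp only [stepL] at hX
  rcases List.mem_or_eq_of_mem_set hX with hX | rfl
  · rcases List.mem_or_eq_of_mem_set hX with hX | rfl
    · exact hD.2 X hX
    · exact combL_row (getRow_mem hD ha) (getRow_mem hD (opp_lt _))
  · exact combL_row (getRow_mem hD hb) (getRow_mem hD (opp_lt _))

theorem step_pack {e : ℕ × ℕ} (he : e.1 < 24) {D : List (List ℕ)} (hD : IsMat D) :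
    step e (pack D) = pack (stepL e D) := by
  obtain ⟨ha, hb⟩ := tab_lt e.1
  have hne : tabA.getD e.1 0 ≠ tabB.getD e.1 0 := tab_ne ⟨e.1, he⟩
  have hoppL : ∀ a, a < 8 → ((List.range 8).map opp).getD a 0 = opp a := fun a h =>
    (by decide : ∀ a : Fin 8, ((List.range 8).map opp).getD a.val 0 = opp a.val) ⟨a, h⟩
  simp only [step, stepL, pA, pB, pS, pO, get8_eq (show ∀ x ∈ tabA, x < 8 by decide),
    get8_eq (show ∀ x ∈ tabB, x < 8 by decide), get8_eq (show ∀ x ∈ tabS, x < 8 by decide),
    get8_eq (show ∀ x ∈ (List.range 8).map opp, x < 8 by decide), hoppL _ ha, hoppL _ hb]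
  set a := tabA.getD e.1 0
  set b := tabB.getD e.1 0
  set c := tabS.getD e.1 0 * e.2 % 3
  have hc : c ≤ 2 := Nat.le_of_lt_succ (Nat.mod_lt _ (by norm_num))
  have hc' : 2 * c % 3 ≤ 2 := Nat.le_of_lt_succ (Nat.mod_lt _ (by norm_num))
  rw [getRow_pack hD ha, getRow_pack hD hb, getRow_pack hD (opp_lt _), getRow_pack hD (opp_lt _),
    comb_spec hc (getRow_mem hD ha) (getRow_mem hD (opp_lt _)),
    comb_spec hc' (getRow_mem hD hb) (getRow_mem hD (opp_lt _)),
    Nat.shiftLeft_eq, Nat.shiftLeft_eq, Nat.shiftLeft_eq, Nat.shiftLeft_eq, pow_mul, pow_mul,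
    show (2 : ℕ) ^ 24 = 16777216 by norm_num, pack, pack, List.map_set, List.map_set]
  set L := D.map (enc 8) with hL
  have hlen : L.length = 8 := by simp [hL, hD.1]
  have hget : ∀ i, i < 8 → L.getD i 0 = enc 8 (D.getD i []) := fun i hi => by
    rw [List.getD_eq_getElem _ _ (by omega), List.getD_eq_getElem _ _ (by rw [hD.1]; exact hi)]
    simp [hL]
  rw [← hget a ha, ← hget b hb]
  set x' := enc 8 (combL c (D.getD a []) (D.getD (opp b) []))
  set y' := enc 8 (combL (2 * c % 3) (D.getD b []) (D.getD (opp a) []))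
  have h0 := enc_set (B := 16777216) L a 0 (by omega)
  have h0' := enc_set (B := 16777216) (L.set a 0) b 0 (by simp; omega)
  have h1 := enc_set (B := 16777216) L a x' (by omega)
  have h2 := enc_set (B := 16777216) (L.set a x') b y' (by simp; omega)
  rw [List.getD_eq_getElem?_getD, List.getElem?_set_ne hne, ← List.getD_eq_getElem?_getD] at h0' h2
  omega

theorem idL_mat : IsMat idL := ⟨by decide, by simp only [IsRow]; decide⟩

theorem evalL_mat (w : List (ℕ × ℕ)) : IsMat (evalL w) := by
  induction w with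
  | nil => exact idL_mat
  | cons e w ih => exact stepL_mat ih

theorem evalW_cons (e : ℕ × ℕ) (w : List (ℕ × ℕ)) : evalW (e :: w) = step e (evalW w) := by
  unfold evalW
  rw [List.foldr_cons]

theorem evalL_cons (e : ℕ × ℕ) (w : List (ℕ × ℕ)) : evalL (e :: w) = stepL e (evalL w) := by
  unfold evalL
  rw [List.foldr_cons]

theorem idP_eq : idP = pack idL := by decide +kernel

theorem evalW_eq {w : List (ℕ × ℕ)} (hw : ∀ e ∈ w, e.1 < 24) : evalW w = pack (evalL w) := by
  induction w with
  | nil => unfold evalW evalL; rw [List.foldr_nil, List.foldr_nil, idP_eq]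
  | cons e w ih =>
    rw [evalW_cons, evalL_cons]
    rw [ih fun f hf => hw f (List.mem_cons_of_mem _ hf), step_pack (hw e List.mem_cons_self) (evalL_mat w)]

theorem pack_inj {D E : List (List ℕ)} (hD : IsMat D) (hE : IsMat E) (h : pack D = pack E) :
    ∀ i j, i < 8 → (D.getD i []).getD j 0 = (E.getD i []).getD j 0 := by
  intro i j hi
  have h1 : enc 8 (D.getD i []) = enc 8 (E.getD i []) := by
    rw [← getRow_pack hD hi, ← getRow_pack hE hi, h]
  have h2 := enc_get (B := 8) (by norm_num) _
    (fun x hx => by have := (getRow_mem hD hi).2 x hx; omega) j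
  rw [h1, enc_get (B := 8) (by norm_num) _
    (fun x hx => by have := (getRow_mem hE hi).2 x hx; omega) j] at h2
  exact h2.symm

/-! ### words in the group -/

/-- The field. -/
abbrev F3 := ZMod 3

instance : Fact (Nat.Prime 3) := ⟨Nat.prime_three⟩

/-- A root element of a number. -/
def rt (e : ℕ × ℕ) : O8 F3 :=
  if h : e.1 < 24 then root ⟨e.1, h⟩ (e.2 : F3) else 1

/-- The value of a word. -/
def val (w : List (ℕ × ℕ)) : O8 F3 := (w.map rt).prod

theorem val_nil : val [] = 1 := rfl

theorem val_cons (e : ℕ × ℕ) (w : List (ℕ × ℕ)) : val (e :: w) = rt e * val w := by simp [val]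

theorem val_append (v w : List (ℕ × ℕ)) : val (v ++ w) = val v * val w := by simp [val]

theorem rt_mem (e : ℕ × ℕ) : rt e ∈ rootGroup F3 := by
  rw [rt]
  split
  · exact root_mem _ _
  · exact one_mem _

theorem val_mem (w : List (ℕ × ℕ)) : val w ∈ rootGroup F3 :=
  Subgroup.list_prod_mem _ fun x hx => by
    obtain ⟨e, -, rfl⟩ := List.mem_map.1 hx; exact rt_mem e

/-- The matrix of a list of rows. -/
def matL (D : List (List ℕ)) : Matrix I8 I8 F3 :=
  Matrix.of fun i j => (((D.getD (code i) []).getD (code j) 0 : ℕ) : F3)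

theorem matL_id : matL idL = 1 := by decide

theorem cast_combL {c : ℕ} {X Y : List ℕ} (hX : IsRow X) (hY : IsRow Y) {j : ℕ} (hj : j < 8) :
    (((combL c X Y).getD j 0 : ℕ) : F3) = (X.getD j 0 : ℕ) + (c : F3) * (Y.getD j 0 : ℕ) := by
  rw [List.getD_eq_getElem _ _ (by simp [combL, hX.1, hY.1]; omega),
    List.getD_eq_getElem _ _ (by rw [hX.1]; exact hj), List.getD_eq_getElem _ _ (by rw [hY.1]; exact hj)]
  simp [combL]

theorem mat_rt_mul {e : ℕ × ℕ} (he : e.1 < 24) {D : List (List ℕ)} (hD : IsMat D) :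
    mat8 (rt e) * matL D = matL (stepL e D) := by
  obtain ⟨ha, hb, hs⟩ := tab_spec ⟨e.1, he⟩
  simp only at ha hb hs
  ext i j
  rw [rt, dif_pos he, root, mat8_pelt, Matrix.mul_apply]
  have hfun := congrFun (pairM_mulVec (rootData ⟨e.1, he⟩).1 (rootData ⟨e.1, he⟩).2.1
    (((rootData ⟨e.1, he⟩).2.2 : F3) * (e.2 : F3)) (fun k => matL D k j)) i
  simp only [Matrix.mulVec, dotProduct] at hfun
  rw [hfun, pairFun_apply (rootData_pair _)]
  set a := (rootData ⟨e.1, he⟩).1 with hadef
  set b := (rootData ⟨e.1, he⟩).2.1 with hbdef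
  have hab : code a ≠ code b := fun h => (rootData_pair ⟨e.1, he⟩).1 (code_inj _ _ h).symm
  simp only [stepL, matL, Matrix.of_apply, ← ha, ← hb, code_bar, List.getD_eq_getElem?_getD,
    List.getElem?_set, List.length_set, hD.1, code_lt]
  by_cases h1 : i = a
  · subst h1
    rw [if_pos rfl, if_neg hab.symm, if_pos rfl]
    simp only [← List.getD_eq_getElem?_getD, if_true, Option.getD_some]
    rw [cast_combL (getRow_mem hD (code_lt _)) (getRow_mem hD (opp_lt _)) (code_lt _)]
    rw [ZMod.natCast_mod, Nat.cast_mul, hs]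
  rw [if_neg h1]
  by_cases h2 : i = b
  · subst h2
    rw [if_pos rfl, if_pos rfl]
    simp only [← List.getD_eq_getElem?_getD, if_true, Option.getD_some]
    rw [cast_combL (getRow_mem hD (code_lt _)) (getRow_mem hD (opp_lt _)) (code_lt _)]
    rw [ZMod.natCast_mod, Nat.cast_mul, ZMod.natCast_mod, Nat.cast_mul, hs,
      show ((2 : ℕ) : F3) = -1 by decide]
    ring
  rw [if_neg h2, if_neg fun h => h2 (code_inj _ _ h).symm, if_neg fun h => h1 (code_inj _ _ h).symm]

theorem mat_val {w : List (ℕ × ℕ)} (hw : ∀ e ∈ w, e.1 < 24) : mat8 (val w) = matL (evalL w) := by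
  induction w with
  | nil =>
    rw [evalL, List.foldr_nil, matL_id, val_nil]
    simp [mat8]
  | cons e w ih =>
    rw [val_cons, show mat8 (rt e * val w) = mat8 (rt e) * mat8 (val w) by simp [mat8],
      ih fun f hf => hw f (List.mem_cons_of_mem _ hf), mat_rt_mul (hw e List.mem_cons_self) (evalL_mat w), evalL_cons]

/-- Packed evaluation decides equality. -/
theorem val_eq_of_eval {v w : List (ℕ × ℕ)} (hv : ∀ e ∈ v, e.1 < 24) (hw : ∀ e ∈ w, e.1 < 24)
    (h : evalW v = evalW w) : val v = val w := by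
  rw [evalW_eq hv, evalW_eq hw] at h
  refine mat8_ext ?_
  rw [mat_val hv, mat_val hw]
  ext i j
  simp only [matL, Matrix.of_apply, pack_inj (evalL_mat v) (evalL_mat w) h _ _ (code_lt i)]

end Cfsg.Agent.DFourThreeWord29
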