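import Mathlib
import Cfsg.Prelude.Def_DStar

/-!
Basic properties of `D*(S)` for a finite nilpotent group: it is abelian, a member of its defining family, normal,
and lies in every self-centralizing normal abelian subgroup.
-/

namespace Cfsg.Agent.DStarBasic

open scoped commutatorElement

variable {S : Type*} [Group S]

/-- If `x` commutes with all commutators of `A` and `x`, the subgroup `A ⊔ ⟨x⟩` has class at most two. -/
theorem class_two_of_generators {A : Subgroup S} (hA : IsMulCommutative A) {x : S}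
    (hA2 : ∀ a ∈ A, ∀ b ∈ A, Commute (a * x * a⁻¹ * x⁻¹) b)
    (hx2 : ∀ a ∈ A, Commute (a * x * a⁻¹ * x⁻¹) x) :
    ⁅⁅A ⊔ Subgroup.zpowers x, A ⊔ Subgroup.zpowers x⁆, A ⊔ Subgroup.zpowers x⁆ = ⊥ := by
  set K := A ⊔ Subgroup.zpowers x with hK
  set Z := Subgroup.centralizer (K : Set S) with hZ
  rw [Subgroup.commutator_eq_bot_iff_le_centralizer, Subgroup.commutator_le]
  have key : ∀ c : S, (∀ b ∈ A, Commute c b) → Commute c x → c ∈ Z := by
    intro c h1 h2
    rw [hZ, hK, Subgroup.sup_eq_closure, Subgroup.centralizer_closure, Subgroup.mem_centralizer_iff]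
    rintro y (hy | hy)
    · exact (h1 y hy).symm.eq
    · obtain ⟨k, rfl⟩ := Subgroup.mem_zpowers_iff.mp hy
      exact (h2.zpow_right k).symm.eq
  have hcA : ∀ a ∈ A, a * x * a⁻¹ * x⁻¹ ∈ Z := fun a ha => key _ (hA2 a ha) (hx2 a ha)
  -- the subgroup of elements commuting with `x` and `A` modulo `Z`
  have hZK : ∀ z ∈ Z, ∀ k ∈ K, k * z * k⁻¹ = z := fun z hz k hk => by
    rw [Subgroup.mem_centralizer_iff.mp hz k hk, mul_inv_cancel_right]
  have step : ∀ g ∈ K, (∀ a ∈ A, ⁅g, a⁆ ∈ Z) → ⁅g, x⁆ ∈ Z → ∀ h ∈ K, ⁅g, h⁆ ∈ Z := by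
    intro g hg ha hx h hh
    let T : Subgroup S :=
      { carrier := {h | h ∈ K ∧ ⁅g, h⁆ ∈ Z}
        one_mem' := ⟨one_mem _, by simp [Z.one_mem]⟩
        mul_mem' := fun {u v} hu hv => by
          refine ⟨mul_mem hu.1 hv.1, ?_⟩
          have : ⁅g, u * v⁆ = ⁅g, u⁆ * (u * ⁅g, v⁆ * u⁻¹) := by
            simp only [commutatorElement_def]; group
          rw [this, hZK _ hv.2 _ hu.1]
          exact mul_mem hu.2 hv.2
        inv_mem' := fun {u} hu => by
          refine ⟨inv_mem hu.1, ?_⟩
          have : ⁅g, u⁻¹⁆ = u⁻¹ * ⁅g, u⁆⁻¹ * (u⁻¹)⁻¹ := by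
            simp only [commutatorElement_def]; group
          rw [this, hZK _ (inv_mem hu.2) _ (inv_mem hu.1)]
          exact inv_mem hu.2 }
    have : K ≤ T := sup_le (fun a haA => ⟨Subgroup.mem_sup_left haA, ha a haA⟩)
      (Subgroup.zpowers_le.mpr ⟨Subgroup.mem_sup_right (Subgroup.mem_zpowers x), hx⟩)
    exact (this hh).2
  intro g hg h hh
  have hax : ∀ a ∈ A, ⁅a, x⁆ ∈ Z := hcA
  have sA : ∀ a ∈ A, ∀ h ∈ K, ⁅a, h⁆ ∈ Z := fun a ha => step a (Subgroup.mem_sup_left ha)
    (fun b hb => by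
      have := congrArg Subtype.val (hA.is_comm.comm (⟨a, ha⟩ : A) ⟨b, hb⟩)
      rw [commutatorElement_eq_one_iff_mul_comm.mpr this]; exact Z.one_mem)
    (hax a ha)
  have sx : ∀ h ∈ K, ⁅x, h⁆ ∈ Z := step x (Subgroup.mem_sup_right (Subgroup.mem_zpowers x))
    (fun a ha => by rw [← commutatorElement_inv]; exact inv_mem (hax a ha)) (by simp [Z.one_mem])
  exact step g hg (fun a ha => by rw [← commutatorElement_inv]; exact inv_mem (sA a ha g hg))
    (by rw [← commutatorElement_inv]; exact inv_mem (sx g hg)) h hh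

/-- A member of the family centralizes every normal abelian subgroup. -/
theorem commute_normal_abelian [Group.IsNilpotent S] {A : Subgroup S}
    (hA : A ∈ Cfsg.dStarFamily S) {M : Subgroup S} [M.Normal] (hM : IsMulCommutative M) :
    ∀ m ∈ M, ∀ a ∈ A, a * m = m * a := by
  obtain ⟨n, hn⟩ := Group.IsNilpotent.nilpotent (G := S)
  suffices h : ∀ i, ∀ m ∈ M, m ∈ Subgroup.upperCentralSeries S i → ∀ a ∈ A, a * m = m * a by
    intro m hm
    exact h n m hm (by rw [hn]; trivial)
  intro i
  induction i with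
  | zero =>
    intro m _ hm a _
    rw [Subgroup.upperCentralSeries_zero, Subgroup.mem_bot] at hm
    rw [hm, mul_one, one_mul]
  | succ i ih =>
    intro m hm hmi a ha
    refine hA.2 m (class_two_of_generators hA.1 ?_ ?_) a ha
    all_goals
      intro b hb
      have hcM : b * m * b⁻¹ * m⁻¹ ∈ M :=
        mul_mem (Subgroup.Normal.conj_mem inferInstance m hm b) (inv_mem hm)
      have hci : b * m * b⁻¹ * m⁻¹ ∈ Subgroup.upperCentralSeries S i := by
        have := inv_mem (Subgroup.mem_upperCentralSeries_succ_iff.mp hmi b)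
        simpa [commutatorElement_def, mul_assoc] using this
    · intro c hc
      exact (ih _ hcM hci c hc).symm
    · exact congrArg Subtype.val (hM.is_comm.comm (⟨_, hcM⟩ : M) ⟨m, hm⟩)

/-- The centre is in the family. -/
theorem center_mem : Subgroup.center S ∈ Cfsg.dStarFamily S :=
  ⟨inferInstance, fun x _ a ha => (Subgroup.mem_center_iff.mp ha x).symm⟩

/-- `Z(S) ≤ D*(S)`. -/
theorem center_le_dStar : Subgroup.center S ≤ Cfsg.dStar S := le_sSup center_mem

/-- A conjugate of a member is a member. -/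
theorem map_mem (e : S ≃* S) {A : Subgroup S} (hA : A ∈ Cfsg.dStarFamily S) :
    A.map e.toMonoidHom ∈ Cfsg.dStarFamily S := by
  refine ⟨⟨⟨?_⟩⟩, ?_⟩
  · rintro ⟨_, a, ha, rfl⟩ ⟨_, b, hb, rfl⟩
    apply Subtype.ext
    show e a * e b = e b * e a
    rw [← map_mul, ← map_mul]
    exact congrArg e (congrArg Subtype.val (hA.1.is_comm.comm (⟨a, ha⟩ : A) ⟨b, hb⟩))
  · intro x hx b hb
    obtain ⟨a, ha, rfl⟩ := hb
    have h1 : a * e.symm x = e.symm x * a := by
      refine hA.2 _ ?_ a ha
      refine (Subgroup.map_eq_bot_iff_of_injective _ (f := e.toMonoidHom) e.injective).mp ?_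
      rw [Subgroup.map_commutator, Subgroup.map_commutator, Subgroup.map_sup, MonoidHom.map_zpowers]
      simpa using hx
    have := congrArg e h1
    simpa using this

/-- `D*(S)` lies in every self-centralizing normal abelian subgroup. -/
theorem dStar_le_of_centralizer_le [Group.IsNilpotent S] {M : Subgroup S} [M.Normal]
    (hM : IsMulCommutative M) (hC : Subgroup.centralizer (M : Set S) ≤ M) : Cfsg.dStar S ≤ M :=
  sSup_le fun _ hA => fun a ha => hC (Subgroup.mem_centralizer_iff.mpr fun m hm =>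
    (commute_normal_abelian hA hM m hm a ha).symm)

/-- A maximal normal abelian subgroup of a finite nilpotent group is self-centralizing. -/
theorem centralizer_le_of_maximal [Group.IsNilpotent S] {M : Subgroup S} [M.Normal]
    (hM : IsMulCommutative M)
    (hmax : ∀ B : Subgroup S, B.Normal → IsMulCommutative B → M ≤ B → B = M) :
    Subgroup.centralizer (M : Set S) ≤ M := by
  obtain ⟨n, hn⟩ := Group.IsNilpotent.nilpotent (G := S)
  suffices h : ∀ i, Subgroup.centralizer (M : Set S) ⊓ Subgroup.upperCentralSeries S i ≤ M by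
    intro x hx
    exact h n ⟨hx, by rw [hn]; trivial⟩
  intro i
  induction i with
  | zero => rw [Subgroup.upperCentralSeries_zero, inf_bot_eq]; exact bot_le
  | succ i ih =>
    rintro x ⟨hxC, hxi⟩
    -- `M⟨x⟩` is normal abelian
    have hCn : (Subgroup.centralizer (M : Set S)).Normal := inferInstance
    have hconj : ∀ g : S, g * x * g⁻¹ * x⁻¹ ∈ M := by
      intro g
      refine ih ⟨Subgroup.mul_mem _ (hCn.conj_mem x hxC g) (Subgroup.inv_mem _ hxC), ?_⟩
      have := inv_mem (Subgroup.mem_upperCentralSeries_succ_iff.mp hxi g)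
      simpa [commutatorElement_def, mul_assoc] using this
    set B := Subgroup.closure ((M : Set S) ∪ {x}) with hB
    have hBn : B.Normal := by
      refine ⟨fun z hz g => ?_⟩
      suffices h : B.map (MulAut.conj g).toMonoidHom ≤ B from h ⟨z, hz, rfl⟩
      rw [hB, MonoidHom.map_closure, Subgroup.closure_le]
      rintro _ ⟨y, hy | rfl, rfl⟩
      · exact Subgroup.subset_closure (Or.inl (Subgroup.Normal.conj_mem inferInstance y hy g))
      · show g * y * g⁻¹ ∈ Subgroup.closure _
        rw [← inv_mul_cancel_right (g * y * g⁻¹) y]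
        exact mul_mem (Subgroup.subset_closure (Or.inl (hconj g)))
          (Subgroup.subset_closure (Or.inr rfl))
    have hBc : IsMulCommutative B := by
      refine Subgroup.isMulCommutative_closure ?_
      rintro u (hu | rfl) v (hv | rfl)
      · exact congrArg Subtype.val (hM.is_comm.comm (⟨u, hu⟩ : M) ⟨v, hv⟩)
      · exact Subgroup.mem_centralizer_iff.mp hxC u hu
      · exact (Subgroup.mem_centralizer_iff.mp hxC v hv).symm
      · rfl
    rw [← hmax B hBn hBc (fun y hy => Subgroup.subset_closure (Or.inl hy))]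
    exact Subgroup.subset_closure (Or.inr rfl)

theorem exists_maximal_normal_abelian [Finite S] (B : Subgroup S) (hBn : B.Normal)
    (hBc : IsMulCommutative B) :
    ∃ M : Subgroup S, M.Normal ∧ IsMulCommutative M ∧ B ≤ M ∧
      ∀ C : Subgroup S, C.Normal → IsMulCommutative C → M ≤ C → C = M := by
  obtain ⟨M, hM⟩ := Finite.exists_le_maximal (α := Subgroup S)
    (p := fun C => C.Normal ∧ IsMulCommutative C) ⟨hBn, hBc⟩
  exact ⟨M, hM.2.1.1, hM.2.1.2, hM.1, fun C h1 h2 h3 => le_antisymm (hM.2.2 ⟨h1, h2⟩ h3) h3⟩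

/-- `D*(S)` is abelian. -/
theorem dStar_commutative [Finite S] [Group.IsNilpotent S] : IsMulCommutative (Cfsg.dStar S) := by
  obtain ⟨M, hMn, hMc, -, hMmax⟩ :=
    exists_maximal_normal_abelian (Subgroup.center S) inferInstance inferInstance
  have := hMn
  have hle := dStar_le_of_centralizer_le hMc (centralizer_le_of_maximal hMc hMmax)
  exact ⟨⟨fun a b => Subtype.ext
    (congrArg (fun z : M => (z : S)) (hMc.is_comm.comm ⟨a, hle a.2⟩ ⟨b, hle b.2⟩))⟩⟩

/-- `D*(S)` is a member of its defining family. -/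
theorem dStar_mem [Finite S] {p : ℕ} [Fact p.Prime] (hS : IsPGroup p S) :
    Cfsg.dStar S ∈ Cfsg.dStarFamily S := by
  have := hS.isNilpotent
  refine ⟨dStar_commutative, fun x hx a ha => ?_⟩
  have hle : ∀ B ∈ Cfsg.dStarFamily S, ∀ b ∈ B, b * x = x * b := by
    intro B hB
    refine hB.2 x (le_bot_iff.mp (hx ▸ ?_))
    have h : B ⊔ Subgroup.zpowers x ≤ Cfsg.dStar S ⊔ Subgroup.zpowers x :=
      sup_le_sup_right (le_sSup hB) _
    exact Subgroup.commutator_mono (Subgroup.commutator_mono h h) h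
  have : Cfsg.dStar S ≤ Subgroup.centralizer ({x} : Set S) :=
    sSup_le fun B hB b hb => Subgroup.mem_centralizer_iff.mpr fun y hy => by
      rw [Set.mem_singleton_iff.mp hy]; exact (hle B hB b hb).symm
  exact (Subgroup.mem_centralizer_iff.mp (this ha) x rfl).symm

/-- `D*(S)` is normal. -/
theorem dStar_normal : (Cfsg.dStar S).Normal := by
  refine ⟨fun z hz g => ?_⟩
  suffices h : (Cfsg.dStar S).map (MulAut.conj g).toMonoidHom ≤ Cfsg.dStar S from h ⟨z, hz, rfl⟩
  rw [Cfsg.dStar, Subgroup.map_le_iff_le_comap]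
  exact sSup_le fun B hB => Subgroup.map_le_iff_le_comap.mp
    (le_sSup (map_mem (MulAut.conj g) hB))

end Cfsg.Agent.DStarBasic
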