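import Mathlib
import Cfsg.Prelude.Def_DStar
import Cfsg.Prelude.Def_PLocal
import Cfsg.Agent.Lib.DStarBasic
import Cfsg.Agent.Lib.HallCore

/-!
The Glauberman–Solomon `D*`-theorem.
-/

set_option autoImplicit false

open scoped commutatorElement

namespace Cfsg.Agent.DStarTheorem

variable {G : Type*} [Group G]

/-- The defining condition of the family, stated in the ambient group. -/
def Good (P A : Subgroup G) : Prop :=
  ∀ x ∈ P, ⁅⁅A ⊔ Subgroup.zpowers x, A ⊔ Subgroup.zpowers x⁆, A ⊔ Subgroup.zpowers x⁆ = ⊥ →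
    ∀ a ∈ A, a * x = x * a

theorem triple_map {P : Subgroup G} (A : Subgroup P) (x : P) :
    (⁅⁅A ⊔ Subgroup.zpowers x, A ⊔ Subgroup.zpowers x⁆, A ⊔ Subgroup.zpowers x⁆).map P.subtype =
      ⁅⁅A.map P.subtype ⊔ Subgroup.zpowers (x : G), A.map P.subtype ⊔ Subgroup.zpowers (x : G)⁆,
        A.map P.subtype ⊔ Subgroup.zpowers (x : G)⁆ := by
  rw [Subgroup.map_commutator, Subgroup.map_commutator, Subgroup.map_sup, MonoidHom.map_zpowers]
  rfl

theorem good_map {P : Subgroup G} {A : Subgroup P} (hA : A ∈ Cfsg.dStarFamily P) :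
    Good P (A.map P.subtype) := by
  rintro x hx hbot _ ⟨a, ha, rfl⟩
  have h : a * (⟨x, hx⟩ : P) = ⟨x, hx⟩ * a := hA.2 ⟨x, hx⟩
    ((Subgroup.map_eq_bot_iff_of_injective _ P.subtype_injective).1
      ((triple_map A ⟨x, hx⟩).trans hbot)) a ha
  exact congrArg (fun t : P => (t : G)) h

theorem mem_family_of_good {P A : Subgroup G} (hAP : A ≤ P)
    (hcomm : ∀ a ∈ A, ∀ b ∈ A, a * b = b * a) (hA : Good P A) :
    A.subgroupOf P ∈ Cfsg.dStarFamily P := by
  refine ⟨⟨⟨fun a b => Subtype.ext (Subtype.ext (hcomm _ a.2 _ b.2))⟩⟩, fun x hx a ha => ?_⟩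
  refine Subtype.ext (hA x x.2 ?_ (a : G) ha)
  have h := triple_map (A.subgroupOf P) x
  rw [Subgroup.map_subgroupOf_eq_of_le hAP, hx, Subgroup.map_bot] at h
  exact h.symm

theorem d_star_normal [Finite G] {p : ℕ} [Fact p.Prime]
    (hc : Subgroup.centralizer (Cfsg.pCore p G : Set G) ≤ Cfsg.pCore p G)
    (hst : ∀ (P : Subgroup G) [P.Normal], IsPGroup p P → Cfsg.IsPStableOn p P) (S : Sylow p G) :
    (Cfsg.dStarOf (S : Subgroup G)).Normal := by
  set Q := Cfsg.pCore p G with hQ
  have hQn : Q.Normal := HallCore.pCore_normal p G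
  have hQp : IsPGroup p Q := HallCore.isPGroup_pCore p G
  set SS : Subgroup G := (S : Subgroup G) with hSS
  set D := Cfsg.dStarOf SS with hD
  have hDmem := DStarBasic.dStar_mem (S := SS) (p := p) S.isPGroup'
  have hDgood : Good SS D := good_map hDmem
  have hDS : D ≤ SS := Subgroup.map_subtype_le _
  have hDcomm : ∀ a ∈ D, ∀ b ∈ D, a * b = b * a := by
    rintro _ ⟨a, ha, rfl⟩ _ ⟨b, hb, rfl⟩
    have := congrArg Subtype.val (hDmem.1.is_comm.comm (⟨a, ha⟩ : Cfsg.dStar SS) ⟨b, hb⟩)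
    exact congrArg (fun t : SS => (t : G)) this
  have hDn : ∀ g ∈ SS, ∀ d ∈ D, g * d * g⁻¹ ∈ D := by
    rintro g hg _ ⟨d, hd, rfl⟩
    exact ⟨_, (DStarBasic.dStar_normal (S := SS)).conj_mem d hd ⟨g, hg⟩, rfl⟩
  have hQS : Q ≤ SS := HallCore.pCore_le_sylow S
  -- `D ≤ O_p(G)`
  have hDQ : D ≤ Q := by
    intro a ha
    have hquad : ⁅⁅Q, Subgroup.zpowers a⁆, Subgroup.zpowers a⁆ = ⊥ := by
      have h1 : ⁅Q, Subgroup.zpowers a⁆ ≤ D := by
        rw [Subgroup.commutator_le]
        intro g hg y hy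
        have hyD : y ∈ D := Subgroup.zpowers_le.2 ha hy
        rw [commutatorElement_def]
        exact D.mul_mem (hDn g (hQS hg) y hyD) (D.inv_mem hyD)
      refine le_bot_iff.1 ((Subgroup.commutator_mono h1 le_rfl).trans ?_)
      rw [Subgroup.commutator_le]
      intro u hu y hy
      rw [Subgroup.mem_bot, commutatorElement_eq_one_iff_mul_comm]
      exact hDcomm u hu y (Subgroup.zpowers_le.2 ha hy)
    have h2 := hst Q hQp a hquad
    have hCp : IsPGroup p (Subgroup.centralizer (Q : Set G)) := hQp.to_le hc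
    have hL := HallCore.isPGroup_comap_mk' hCp
      (HallCore.isPGroup_pCore p (G ⧸ Subgroup.centralizer (Q : Set G)))
    have hLn := (HallCore.pCore_normal p (G ⧸ Subgroup.centralizer (Q : Set G))).comap
      (QuotientGroup.mk' (Subgroup.centralizer (Q : Set G)))
    exact HallCore.le_pCore (hN := hLn) hL (Subgroup.mem_comap.2 h2)
  -- all conjugates of `D` commute
  have hconjQ : ∀ g : G, ∀ d ∈ D, g * d * g⁻¹ ∈ (Cfsg.dStar Q).map Q.subtype := by
    intro g d hd
    have hgood : Good Q D := fun x hx => hDgood x (hQS hx)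
    have hmem := mem_family_of_good hDQ hDcomm hgood
    have hmem' := DStarBasic.map_mem (MulAut.conjNormal g : Q ≃* Q) hmem
    refine ⟨(MulAut.conjNormal g : Q ≃* Q) ⟨d, hDQ hd⟩, le_sSup hmem' ⟨⟨d, hDQ hd⟩, hd, rfl⟩, ?_⟩
    exact MulAut.conjNormal_apply g ⟨d, hDQ hd⟩
  set N := Subgroup.normalClosure (D : Set G) with hN
  have hNn : N.Normal := Subgroup.normalClosure_normal
  have hconjN : ∀ g : G, ∀ d ∈ D, g * d * g⁻¹ ∈ N := fun g d hd =>
    hNn.conj_mem d (Subgroup.subset_normalClosure hd) g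
  have hDN : D ≤ N := Subgroup.subset_normalClosure
  have hNle : N ≤ (Cfsg.dStar Q).map Q.subtype := by
    rw [hN, Subgroup.normalClosure, Subgroup.closure_le]
    intro y hy
    obtain ⟨d, hd, hdy⟩ := Group.mem_conjugatesOfSet_iff.1 hy
    obtain ⟨g, rfl⟩ := isConj_iff.1 hdy
    exact hconjQ g d hd
  have hNcomm : ∀ a ∈ N, ∀ b ∈ N, a * b = b * a := by
    intro a ha b hb
    obtain ⟨a, ha', rfl⟩ := hNle ha
    obtain ⟨b, hb', rfl⟩ := hNle hb
    exact congrArg (fun t : Q => (t : G)) (congrArg Subtype.val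
      ((DStarBasic.dStar_mem hQp).1.is_comm.comm (⟨a, ha'⟩ : Cfsg.dStar Q) ⟨b, hb'⟩))
  have hNS : N ≤ SS := (hNle.trans (Subgroup.map_subtype_le _)).trans hQS
  have hNp : IsPGroup p N := S.isPGroup'.to_le hNS
  -- `N` belongs to the family of `S`
  have hNgood : Good SS N := by
    intro x hx hbot
    set W := N ⊔ Subgroup.zpowers x with hW
    set K := Subgroup.centralizer (N : Set G) with hK
    have hq : ∀ c ∈ ⁅N, Subgroup.zpowers x⁆, Commute c x := by
      intro c hcm
      refine commutatorElement_eq_one_iff_commute.1 ?_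
      rw [← Subgroup.mem_bot, ← hbot]
      exact Subgroup.commutator_mem_commutator
        (Subgroup.commutator_mono le_sup_left le_sup_right hcm)
        (Subgroup.mem_sup_right (Subgroup.mem_zpowers x))
    have hquad : ⁅⁅N, Subgroup.zpowers x⁆, Subgroup.zpowers x⁆ = ⊥ :=
      le_bot_iff.1 ((Subgroup.commutator_mono
        (Subgroup.commutator_mono le_sup_left le_sup_right) le_sup_right).trans hbot.le)
    have hmk := hst N hNp x hquad
    -- every conjugate of `D` commutes with `x`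
    suffices key : ∀ g : G, ∀ d ∈ D, Commute (g * d * g⁻¹) x by
      have hle : N ≤ Subgroup.centralizer ({x} : Set G) := by
        rw [hN, Subgroup.normalClosure, Subgroup.closure_le]
        intro y hy
        obtain ⟨d, hd, hdy⟩ := Group.mem_conjugatesOfSet_iff.1 hy
        obtain ⟨g, rfl⟩ := isConj_iff.1 hdy
        exact Subgroup.mem_centralizer_singleton_iff.2 (key g d hd).eq
      exact fun a ha => Subgroup.mem_centralizer_singleton_iff.1 (hle ha)
    intro g d hd
    set S' := SS.map (MulAut.conj g).toMonoidHom with hS'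
    set f := QuotientGroup.mk' K with hf
    have hSf : IsPGroup p (S'.map f) := (S.isPGroup'.map _).map _
    have hidx : ¬ p ∣ (S'.map f).index := fun h => by
      have h1 := h.trans (Subgroup.index_map_dvd S' (QuotientGroup.mk'_surjective K))
      rw [hS', show (MulAut.conj g).toMonoidHom = ((MulAut.conj g : G ≃* G) : G →* G) from rfl, Subgroup.index_map_equiv] at h1
      exact S.not_dvd_index h1
    have hcore := HallCore.pCore_le_sylow (hSf.toSylow hidx) hmk
    obtain ⟨x', hx'S, hx'⟩ := hcore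
    have hkK : x⁻¹ * x' ∈ K := QuotientGroup.eq.1 hx'.symm
    have hact : ∀ a ∈ N, x' * a * x'⁻¹ = x * a * x⁻¹ := by
      intro a ha
      have h1 : a * (x⁻¹ * x') = x⁻¹ * x' * a := hkK a ha
      calc x' * a * x'⁻¹ = x * (x⁻¹ * x' * a) * (x'⁻¹) := by group
        _ = x * (a * (x⁻¹ * x')) * x'⁻¹ := by rw [h1]
        _ = x * a * x⁻¹ := by group
    have hNx : ∀ a ∈ N, Commute (a * x' * a⁻¹ * x'⁻¹) x' ∧ a * x' * a⁻¹ * x'⁻¹ ∈ N := by
      intro a ha
      have h1 : a * x' * a⁻¹ * x'⁻¹ = a * (x * a * x⁻¹)⁻¹ := by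
        rw [← hact a ha]; group
      have h2 : a * x' * a⁻¹ * x'⁻¹ = a * x * a⁻¹ * x⁻¹ := by rw [h1]; group
      have h3 : a * x' * a⁻¹ * x'⁻¹ ∈ N := by
        rw [h1]; exact N.mul_mem ha (N.inv_mem (hNn.conj_mem a ha x))
      refine ⟨?_, h3⟩
      have h4 : Commute (a * x' * a⁻¹ * x'⁻¹) x := by
        refine hq _ ?_
        rw [h2, ← commutatorElement_def]
        exact Subgroup.commutator_mem_commutator ha (Subgroup.mem_zpowers x)
      have h5 := hact _ h3
      rw [show x * (a * x' * a⁻¹ * x'⁻¹) * x⁻¹ = a * x' * a⁻¹ * x'⁻¹ by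
        rw [← h4.eq]; group] at h5
      exact (mul_inv_eq_iff_eq_mul.1 h5).symm
    have htriple : ⁅⁅N ⊔ Subgroup.zpowers x', N ⊔ Subgroup.zpowers x'⁆,
        N ⊔ Subgroup.zpowers x'⁆ = ⊥ :=
      DStarBasic.class_two_of_generators ⟨⟨fun a b => Subtype.ext (hNcomm _ a.2 _ b.2)⟩⟩
        (fun a ha b hb => hNcomm _ (hNx a ha).2 b hb) (fun a ha => (hNx a ha).1)
    -- apply the defining property of `D`, conjugated by `g`
    obtain ⟨y, hy, hyx⟩ := hx'S
    have hyx' : g * y * g⁻¹ = x' := hyx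
    have htri : ⁅⁅D ⊔ Subgroup.zpowers y, D ⊔ Subgroup.zpowers y⁆, D ⊔ Subgroup.zpowers y⁆ = ⊥ := by
      refine (Subgroup.map_eq_bot_iff_of_injective _ (f := (MulAut.conj g).toMonoidHom)
        (MulAut.conj g).injective).1 (le_bot_iff.1 ?_)
      rw [Subgroup.map_commutator, Subgroup.map_commutator, ← htriple]
      have hle : (D ⊔ Subgroup.zpowers y).map (MulAut.conj g).toMonoidHom ≤
          N ⊔ Subgroup.zpowers x' := by
        rw [Subgroup.map_sup, MonoidHom.map_zpowers]
        refine sup_le_sup ?_ (le_of_eq (congrArg Subgroup.zpowers hyx'))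
        rintro _ ⟨e, he, rfl⟩
        exact hconjN g e he
      exact Subgroup.commutator_mono (Subgroup.commutator_mono hle hle) hle
    have hdy : d * y = y * d := hDgood y hy htri d hd
    have hc' : Commute (g * d * g⁻¹) x' := by
      have := congrArg (MulAut.conj g) hdy
      simp only [map_mul, MulAut.conj_apply] at this
      rwa [hyx'] at this
    have h6 := hact (g * d * g⁻¹) (hconjN g d hd)
    rw [← hc'.eq, mul_inv_cancel_right] at h6
    exact (mul_inv_eq_iff_eq_mul.1 h6.symm).symm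
  have hND : N ≤ D := fun z hz =>
    ⟨⟨z, hNS hz⟩, le_sSup (mem_family_of_good hNS hNcomm hNgood) hz, rfl⟩
  exact (le_antisymm hND hDN) ▸ hNn

end Cfsg.Agent.DStarTheorem
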