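import Mathlib
import Cfsg.Agent.Lib.TransvectionMax

/-!
Diagonal, monomial and elementary elements for the maximality of stabilisers of decompositions in the special
linear group.
-/

set_option autoImplicit false
set_option linter.unusedSectionVars false

namespace Cfsg.Agent.DecompMaxBasic

open Cfsg.Agent.TransvectionMax
open scoped MatrixGroups Matrix

variable {ι : Type} [Fintype ι] [DecidableEq ι] {F : Type*} [Field F]

/-- `e_j ↦ d j • e_(σ j)`. -/
noncomputable def mn (σ : Equiv.Perm ι) (d : ι → Fˣ) : GL ι F :=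
  Matrix.GeneralLinearGroup.mkOfDetNeZero ((σ⁻¹).permMatrix F * Matrix.diagonal (fun k => (d k : F))) (by
    rw [Matrix.det_mul, Matrix.det_permutation, Matrix.det_diagonal, mul_ne_zero_iff]
    refine ⟨?_, Finset.prod_ne_zero_iff.2 fun k _ => (d k).ne_zero⟩
    rcases Int.units_eq_one_or (Equiv.Perm.sign σ⁻¹) with h | h <;> simp [h])

theorem mn_act (σ : Equiv.Perm ι) (d : ι → Fˣ) (x : ι → F) (k : ι) :
    ((mn σ d : Matrix ι ι F) *ᵥ x) k = d (σ.symm k) * x (σ.symm k) := by
  show (((σ⁻¹).permMatrix F * Matrix.diagonal (fun k => (d k : F))) *ᵥ x) k = _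
  rw [← Matrix.mulVec_mulVec, Matrix.permMatrix_mulVec]
  simp [Matrix.mulVec_diagonal]

theorem mn_act' (σ : Equiv.Perm ι) (d : ι → Fˣ) (x : ι → F) (k : ι) :
    ((mn σ d : Matrix ι ι F) *ᵥ x) (σ k) = d k * x k := by
  rw [mn_act, Equiv.symm_apply_apply]

theorem mn_det (σ : Equiv.Perm ι) (d : ι → Fˣ) :
    (mn σ d : Matrix ι ι F).det = ((Equiv.Perm.sign σ : ℤ) : F) * ∏ k, (d k : F) := by
  show ((σ⁻¹).permMatrix F * Matrix.diagonal (fun k => (d k : F))).det = _
  rw [Matrix.det_mul, Matrix.det_permutation, Matrix.det_diagonal, Equiv.Perm.sign_inv]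

theorem mem_sl {g : GL ι F} : g ∈ Cfsg.Geo.specialLinear ι F ↔ (g : Matrix ι ι F).det = 1 := by
  rw [Cfsg.Geo.specialLinear, MonoidHom.mem_ker, Units.ext_iff]
  rfl

/-- The diagonal element. -/
noncomputable def dg (d : ι → Fˣ) : GL ι F := mn 1 d

theorem dg_act (d : ι → Fˣ) (x : ι → F) (k : ι) : ((dg d : Matrix ι ι F) *ᵥ x) k = d k * x k := by
  rw [dg, mn_act]; rfl

theorem dg_det (d : ι → Fˣ) : (dg d : Matrix ι ι F).det = ∏ k, (d k : F) := by
  rw [dg, mn_det, Equiv.Perm.sign_one]; simp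

theorem mulVec_single (g : Matrix ι ι F) (q : ι) : g *ᵥ Pi.single q 1 = fun p => g p q :=
  Matrix.mulVec_single_one g q

/-- `x ↦ x + c (x j) e_i`. -/
noncomputable def el (i j : ι) (c : F) : GL ι F := tv (Pi.single i c) (Pi.single j 1)

theorem el_act {i j : ι} (h : i ≠ j) (c : F) (x : ι → F) :
    (el i j c : Matrix ι ι F) *ᵥ x = x + (c * x j) • (Pi.single i (1 : F)) := by
  rw [el, tv_act (single_dot_single h.symm c)]
  congr 1
  rw [single_dotProduct, one_mul, ← Pi.single_smul, ← Pi.single_smul]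
  simp [mul_comm]

theorem el_mem_sl (i j : ι) (c : F) : el i j c ∈ Cfsg.Geo.specialLinear ι F := tv_mem_sl _ _

theorem el_inv {i j : ι} (h : i ≠ j) (c : F) : (el i j c)⁻¹ = el i j (-c) := by
  refine inv_eq_of_mul_eq_one_right (gl_ext fun x => ?_)
  rw [mul_act, el_act h, el_act h, one_act]
  simp [h.symm]

theorem el_det (i j : ι) (c : F) : (el i j c : Matrix ι ι F).det = 1 := mem_sl.1 (el_mem_sl i j c)

/-- A matrix differing from the identity by one row has the corresponding diagonal entry as determinant. -/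
theorem det_one_row (o : ι) (z : GL ι F) (r : ι → F)
    (hz : ∀ x, (z : Matrix ι ι F) *ᵥ x = x + (r ⬝ᵥ x) • (Pi.single o (1 : F))) :
    (z : Matrix ι ι F).det = 1 + r o := by
  have h : (z : Matrix ι ι F) = 1 + Matrix.vecMulVec (Pi.single o (1 : F)) r :=
    Matrix.ext_iff_mulVec.mpr fun x => by
      rw [hz, Matrix.add_mulVec, Matrix.one_mulVec, Matrix.vecMulVec_mulVec, op_smul_eq_smul]
  rw [h, Matrix.vecMulVec_eq Unit, Matrix.det_one_add_replicateCol_mul_replicateRow, dotProduct_single,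
    mul_one]

variable [Fintype F]

/-- A unit avoiding at most three given values of a field with at least five elements. -/
theorem exists_avoid (hq : 5 ≤ Fintype.card F) (s : Finset F) (hs : s.card ≤ 3) : ∃ μ : Fˣ, (μ : F) ∉ s := by
  classical
  obtain ⟨x, -, hx⟩ : ∃ x ∈ (Finset.univ : Finset F), x ∉ insert (0 : F) s :=
    Finset.exists_mem_notMem_of_card_lt_card (by
      have := Finset.card_insert_le (0 : F) s
      rw [Finset.card_univ]; omega)
  rw [Finset.mem_insert, not_or] at hx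
  exact ⟨Units.mk0 x hx.1, hx.2⟩

/-- A generator of the multiplicative group has order at least four. -/
theorem exists_lam (hq : 5 ≤ Fintype.card F) :
    ∃ l : Fˣ, (l : F) ≠ 1 ∧ (l : F) ^ 2 ≠ 1 ∧ (l : F) ^ 3 ≠ 1 := by
  classical
  obtain ⟨l, hl⟩ := IsCyclic.exists_generator (α := Fˣ)
  have ho : orderOf l = Fintype.card F - 1 := by
    rw [orderOf_eq_card_of_forall_mem_zpowers hl, Nat.card_eq_fintype_card, Fintype.card_units]
  have hn : ∀ k, 0 < k → k ≤ 3 → (l : F) ^ k ≠ 1 := fun k hk hk3 h => by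
    have h1 : orderOf l ∣ k := orderOf_dvd_of_pow_eq_one (Units.ext (by simpa using h))
    have := Nat.le_of_dvd hk h1
    omega
  exact ⟨l, by simpa using hn 1 (by omega) (by omega), hn 2 (by omega) (by omega), hn 3 (by omega) (by omega)⟩

end Cfsg.Agent.DecompMaxBasic
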