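import Cfsg.Agent.Lib.DecompMaxBasic

/-!
A subgroup of SL containing the block-diagonal matrices of determinant one and an element not permuting the blocks
contains an elementary transvection between two blocks (blocks of size at least two).
-/

set_option autoImplicit false
set_option linter.unusedSectionVars false

namespace Cfsg.Agent.DecompMaxBlock

open Cfsg.Agent.TransvectionMax Cfsg.Agent.DecompMaxBasic
open scoped MatrixGroups Matrix

variable {t m : ℕ} {F : Type*} [Field F] [Fintype F]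

/-- The index set. -/
abbrev I (t m : ℕ) := Fin t × Fin m

/-- Conjugating a transvection. -/
theorem tv_conj {ι : Type} [Fintype ι] [DecidableEq ι] {v φ : ι → F} (h : φ ⬝ᵥ v = 0) (g : GL ι F) {β : ι → F}
    (hβ : ∀ x, β ⬝ᵥ x = φ ⬝ᵥ (((g⁻¹ : GL ι F) : Matrix ι ι F) *ᵥ x)) :
    g * tv v φ * g⁻¹ = tv ((g : Matrix ι ι F) *ᵥ v) β := by
  refine gl_ext fun x => ?_
  rw [mul_act, mul_act, tv_act h, tv_act (by rw [hβ, inv_act_act, h]), Matrix.mulVec_add, act_inv_act,
    Matrix.mulVec_smul, hβ]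

/-- Transvections with a common functional. -/
theorem tv_add_left {ι : Type} [Fintype ι] [DecidableEq ι] {v w φ : ι → F} (h : φ ⬝ᵥ v = 0) (h' : φ ⬝ᵥ w = 0) :
    tv v φ * tv w φ = tv (v + w) φ := by
  refine gl_ext fun x => ?_
  rw [mul_act, tv_act h, tv_act h', tv_act (by rw [dotProduct_add, h, h', add_zero]), dotProduct_add,
    dotProduct_smul, h', smul_zero, add_zero]
  module

/-- The commutator of two transvections, the second functional killing the first centre. -/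
theorem tv_comm {ι : Type} [Fintype ι] [DecidableEq ι] {v φ w ψ : ι → F} (h : φ ⬝ᵥ v = 0) (h' : ψ ⬝ᵥ w = 0)
    (h'' : ψ ⬝ᵥ v = 0) :
    tv v φ * tv w ψ * (tv v φ)⁻¹ * (tv w ψ)⁻¹ = tv ((φ ⬝ᵥ w) • v) ψ := by
  have h3 : ψ ⬝ᵥ ((tv v φ : Matrix ι ι F) *ᵥ w) = 0 := by
    rw [tv_act h, dotProduct_add, dotProduct_smul, h', h'', smul_zero, add_zero]
  have hc : tv v φ * tv w ψ * (tv v φ)⁻¹ = tv ((tv v φ : Matrix ι ι F) *ᵥ w) ψ := tv_conj h' (tv v φ) fun x => by
    rw [tv_inv h, tv_act (by rw [neg_dotProduct, h, neg_zero]), dotProduct_add, dotProduct_smul, h'', smul_zero,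
      add_zero]
  rw [hc]
  rw [mul_inv_eq_iff_eq_mul, tv_add_left (by rw [dotProduct_smul, h'', smul_zero]) h', tv_act h, add_comm w]

/-- The block-diagonal condition. -/
def Diag (g : GL (I t m) F) : Prop := ∀ p q, (g : Matrix (I t m) (I t m) F) p q ≠ 0 → p.1 = q.1

/-- Supported in one block. -/
def Sup (v : I t m → F) (j : Fin t) : Prop := ∀ p, p.1 ≠ j → v p = 0

theorem sup_single (p : I t m) (c : F) : Sup (Pi.single p c) p.1 := fun r hq => by
  rw [Pi.single_eq_of_ne (fun h : r = p => hq (congrArg Prod.fst h))]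

theorem sup_single' {p : I t m} {j : Fin t} (h : p.1 = j) (c : F) : Sup (Pi.single p c) j := h ▸ sup_single p c

theorem sup_smul {v : I t m → F} {j : Fin t} (hv : Sup v j) (c : F) : Sup (c • v) j := fun p hp => by
  simp [hv p hp]

theorem sup_add {v w : I t m → F} {j : Fin t} (hv : Sup v j) (hw : Sup w j) : Sup (v + w) j := fun p hp => by
  simp [hv p hp, hw p hp]

theorem dot_of_sup {v φ : I t m → F} {j : Fin t} (hφ : Sup φ j) (h : ∀ p, p.1 = j → v p = 0) :
    φ ⬝ᵥ v = 0 :=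
  Finset.sum_eq_zero fun p _ => by
    rcases eq_or_ne p.1 j with hp | hp
    · rw [h p hp, mul_zero]
    · rw [hφ p hp, zero_mul]

/-- The standing hypotheses. -/
structure Over (M : Subgroup (GL (I t m) F)) : Prop where
  sl : ∀ g ∈ M, (g : Matrix (I t m) (I t m) F).det = 1
  diag : ∀ g : GL (I t m) F, (g : Matrix (I t m) (I t m) F).det = 1 → Diag g → g ∈ M

variable {M : Subgroup (GL (I t m) F)} (hM : Over M)
include hM

theorem tv_block_mem {v φ : I t m → F} {j : Fin t} (hv : Sup v j) (hφ : Sup φ j) : tv v φ ∈ M := by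
  refine hM.diag _ (mem_sl.1 (tv_mem_sl v φ)) fun p q hne => ?_
  by_contra hpq
  apply hne
  by_cases h : φ ⬝ᵥ v = 0
  · have h1 := congrFun (tv_act h (Pi.single q 1)) p
    simp only [mulVec_single] at h1
    rw [h1, dotProduct_single, mul_one, Pi.add_apply, Pi.smul_apply, smul_eq_mul,
      Pi.single_eq_of_ne (fun e => hpq (by rw [e])), zero_add]
    rcases eq_or_ne p.1 j with hp | hp
    · rw [hφ q (fun e => hpq (hp.trans e.symm)), zero_mul]
    · rw [hv p hp, mul_zero]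
  · rw [TransvectionMax.tv, dif_neg h, Units.val_one, Matrix.one_apply_ne (fun e => hpq (by rw [e]))]

/-- From a centre in one block to an elementary transvection. -/
theorem el_of_centre (hm : 2 ≤ m) {w α : I t m → F} {j : Fin t} (hw : Sup w j) (hw0 : w ≠ 0)
    (hαw : α ⬝ᵥ w = 0) {p : I t m} (hpj : p.1 ≠ j) (hαp : α p ≠ 0) (hT : tv w α ∈ M) :
    ∃ a b : I t m, a.1 ≠ b.1 ∧ ∃ c : F, c ≠ 0 ∧ el a b c ∈ M := by
  classical
  haveI : Nontrivial (Fin m) := Fin.nontrivial_iff_two_le.2 hm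
  obtain ⟨i', hi'⟩ := exists_ne p.2
  let q : I t m := (p.1, i')
  have hqp : q ≠ p := fun h => hi' (congrArg Prod.snd h)
  have hφ : (Pi.single q (1 : F) : I t m → F) ⬝ᵥ Pi.single p (1 : F) = 0 := by simp [hqp]
  have hqw : (Pi.single q (1 : F) : I t m → F) ⬝ᵥ w = 0 :=
    dot_of_sup (sup_single q 1) fun r hr => hw r (fun e => hpj (hr.symm.trans e))
  have h1 := tv_comm (v := w) (φ := α) (w := Pi.single p (1 : F)) (ψ := Pi.single q (1 : F)) hαw hφ hqw
  have hu := tv_block_mem hM (sup_single p (1 : F)) (sup_single' (p := q) rfl (1 : F))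
  have hT2 : tv ((α p) • w) (Pi.single q (1 : F)) ∈ M := by
    rw [dotProduct_single, mul_one] at h1
    rw [← h1]
    exact M.mul_mem (M.mul_mem (M.mul_mem hT hu) (M.inv_mem hT)) (M.inv_mem hu)
  obtain ⟨r, hr⟩ : ∃ r, w r ≠ 0 := Function.ne_iff.1 hw0
  have hrj : r.1 = j := by_contra fun h => hr (hw r h)
  obtain ⟨s', hs'⟩ := exists_ne r.2
  let s : I t m := (r.1, s')
  have hsr : s ≠ r := fun h => hs' (congrArg Prod.snd h)
  have hqs : q ≠ s := fun h => hpj ((congrArg Prod.fst h).trans hrj)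
  have hsr' : (Pi.single r (1 : F) : I t m → F) ⬝ᵥ Pi.single s (1 : F) = 0 := by simp [Ne.symm hsr]
  have h2 := tv_comm (v := Pi.single s (1 : F)) (φ := Pi.single r (1 : F)) (w := (α p) • w)
    (ψ := Pi.single q (1 : F)) hsr' (by rw [dotProduct_smul, hqw, smul_zero]) (by simp [hqs])
  have hu2 := tv_block_mem hM (sup_single' (p := s) rfl (1 : F)) (sup_single r (1 : F))
  rw [dotProduct_smul, single_dotProduct, one_mul] at h2
  refine ⟨s, q, fun h => hpj ((h.symm).trans hrj), α p * w r, mul_ne_zero hαp hr, ?_⟩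
  rw [el, show (Pi.single s (α p * w r) : I t m → F) = (α p • w r) • Pi.single s (1 : F) from by
    rw [← Pi.single_smul]; simp, ← h2]
  exact M.mul_mem (M.mul_mem (M.mul_mem hu2 hT2) (M.inv_mem hu2)) (M.inv_mem hT2)

/-- A pseudo-reflection inside a block with prescribed determinant. -/
theorem exists_pr {z ρ : I t m → F} {j : Fin t} (hz : Sup z j) (hρ : Sup ρ j) (h1 : ρ ⬝ᵥ z = 1) (δ : Fˣ) :
    ∃ g : GL (I t m) F, (g : Matrix (I t m) (I t m) F).det = δ ∧ Diag g ∧
      ∀ x, (g : Matrix (I t m) (I t m) F) *ᵥ x = x + (((δ : F) - 1) * (ρ ⬝ᵥ x)) • z := by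
  set A : Matrix (I t m) (I t m) F := 1 + Matrix.vecMulVec (((δ : F) - 1) • z) ρ
  have hA : A.det = δ := by
    rw [show A = 1 + Matrix.vecMulVec (((δ : F) - 1) • z) ρ from rfl, Matrix.vecMulVec_eq Unit, Matrix.det_one_add_replicateCol_mul_replicateRow, dotProduct_smul, h1]
    simp
  refine ⟨Matrix.GeneralLinearGroup.mkOfDetNeZero A (by rw [hA]; exact δ.ne_zero), hA, fun p q hne => ?_,
    fun x => ?_⟩
  · by_contra hpq
    apply hne
    show A p q = 0
    have : p ≠ q := fun e => hpq (by rw [e])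
    simp only [A, Matrix.add_apply, Matrix.one_apply_ne this, Matrix.vecMulVec_apply, zero_add, Pi.smul_apply,
      smul_eq_mul]
    rcases eq_or_ne p.1 j with hp | hp
    · rw [hρ q (fun e => hpq (hp.trans e.symm)), mul_zero]
    · rw [hz p hp]; ring
  · show A *ᵥ x = _
    rw [Matrix.add_mulVec, Matrix.one_mulVec, Matrix.vecMulVec_mulVec, op_smul_eq_smul, smul_smul, mul_comm]

/-- From a centre meeting several blocks to an elementary transvection. -/
theorem el_of_multi (hm : 2 ≤ m) (h3 : m = 2 → 3 ≤ t) (hq : m = 2 → 3 ≤ Fintype.card F) {a α : I t m → F}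
    (hαa : α ⬝ᵥ a = 0) (hα : α ≠ 0) {p p₂ : I t m} (hap : a p ≠ 0) (hap₂ : a p₂ ≠ 0) (hpp : p.1 ≠ p₂.1)
    (hT : tv a α ∈ M) : ∃ x y : I t m, x.1 ≠ y.1 ∧ ∃ c : F, c ≠ 0 ∧ el x y c ∈ M := by
  classical
  haveI : Nontrivial (Fin m) := Fin.nontrivial_iff_two_le.2 hm
  obtain ⟨l0, hl0⟩ : ∃ l, α l ≠ 0 := Function.ne_iff.1 hα
  -- arrange that α is non-zero outside the block of p
  wlog hl : l0.1 ≠ p.1 generalizing p p₂
  · rw [not_not] at hl
    exact this (p := p₂) (p₂ := p) hap₂ hap (Ne.symm hpp) (hl ▸ hpp)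
  set j := p.1 with hj
  -- a vector killed by α in the block, independent of the component of a
  have fromW : ∀ w ψ : I t m → F, Sup w j → Sup ψ j → ψ ⬝ᵥ w = 0 → ψ ⬝ᵥ a = 1 → α ⬝ᵥ w = 0 → w ≠ 0 →
      ∃ x y : I t m, x.1 ≠ y.1 ∧ ∃ c : F, c ≠ 0 ∧ el x y c ∈ M := by
    intro w ψ hw hψ hψw hψa hαw hw0
    have h1 := tv_comm (v := w) (φ := ψ) (w := a) (ψ := α) hψw hαa hαw
    rw [hψa, one_smul] at h1
    have hu := tv_block_mem hM hw hψ
    refine el_of_centre hM hm hw hw0 hαw hl hl0 ?_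
    rw [← h1]
    exact M.mul_mem (M.mul_mem (M.mul_mem hu hT) (M.inv_mem hu)) (M.inv_mem hT)
  set ψ0 : I t m → F := Pi.single p (a p)⁻¹ with hψ0def
  have hψ0 : Sup ψ0 j := sup_single _ _
  have hψ0a : ψ0 ⬝ᵥ a = 1 := by simp [hψ0def, hap]
  have dotψ0 : ∀ w : I t m → F, w p = 0 → ψ0 ⬝ᵥ w = 0 := fun w h => by simp [hψ0def, h]
  obtain ⟨q', hq'⟩ := exists_ne p.2
  let q : I t m := (p.1, q')
  have hqp : q ≠ p := fun h => hq' (congrArg Prod.snd h)
  by_cases hαq : α q = 0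
  · exact fromW (Pi.single q 1) ψ0 (sup_single' (p := q) rfl _) hψ0 (dotψ0 _ (Pi.single_eq_of_ne (Ne.symm hqp) _))
      hψ0a (by rw [dotProduct_single, hαq, zero_mul]) (fun h => by simpa using congrFun h q)
  rcases Nat.lt_or_ge 2 m with hm3 | hm2
  · obtain ⟨r', -, hr'⟩ : ∃ r ∈ (Finset.univ : Finset (Fin m)), r ∉ ({p.2, q'} : Finset (Fin m)) :=
      Finset.exists_mem_notMem_of_card_lt_card (by
        rw [Finset.card_univ, Fintype.card_fin]; exact lt_of_le_of_lt Finset.card_le_two hm3)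
    simp only [Finset.mem_insert, Finset.mem_singleton, not_or] at hr'
    let r : I t m := (p.1, r')
    have hrp : r ≠ p := fun h => hr'.1 (congrArg Prod.snd h)
    have hrq : r ≠ q := fun h => hr'.2 (congrArg Prod.snd h)
    refine fromW (α q • Pi.single r (1 : F) + (-(α r)) • Pi.single q (1 : F)) ψ0
      (sup_add (sup_smul (sup_single' (p := r) rfl _) _) (sup_smul (sup_single' (p := q) rfl _) _)) hψ0
      (dotψ0 _ (by simp [Ne.symm hrp, Ne.symm hqp])) hψ0a
      (by simp only [dotProduct_add, dotProduct_smul, dotProduct_single, smul_eq_mul]; ring)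
      (fun h => hαq (by simpa [hrq] using congrFun h r))
  obtain rfl : m = 2 := by omega
  have hblock : ∀ x : I t 2, x.1 = j → x = p ∨ x = q := fun x hx => by
    rcases (by omega : x.2 = p.2 ∨ x.2 = q') with h | h
    · exact Or.inl (Prod.ext hx h)
    · exact Or.inr (Prod.ext hx h)
  by_cases hc : α p * a p + α q * a q = 0
  swap
  · set c := α p * a p + α q * a q
    refine fromW (α q • Pi.single p (1 : F) + (-(α p)) • Pi.single q (1 : F))
      (c⁻¹ • (α p • Pi.single p (1 : F) + α q • Pi.single q (1 : F)))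
      (sup_add (sup_smul (sup_single p _) _) (sup_smul (sup_single' (p := q) rfl _) _))
      (sup_smul (sup_add (sup_smul (sup_single p _) _) (sup_smul (sup_single' (p := q) rfl _) _)) _) ?_ ?_ ?_ ?_
    · simp only [smul_dotProduct, add_dotProduct, dotProduct_add, dotProduct_smul, single_dotProduct,
        Pi.single_eq_same, Pi.single_eq_of_ne hqp, Pi.single_eq_of_ne (Ne.symm hqp), smul_eq_mul]
      ring
    · simp only [smul_dotProduct, add_dotProduct, single_dotProduct, smul_eq_mul, one_mul]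
      exact inv_mul_cancel₀ hc
    · simp only [dotProduct_add, dotProduct_smul, dotProduct_single, smul_eq_mul]; ring
    · exact fun h => hαq (by simpa [hqp, Ne.symm hqp] using congrFun h p)
  -- the nilpotent exception
  obtain ⟨δ, hδ⟩ : ∃ δ : Fˣ, (δ : F) ≠ 1 := by
    obtain ⟨x, -, hx⟩ : ∃ x ∈ (Finset.univ : Finset F), x ∉ ({0, 1} : Finset F) :=
      Finset.exists_mem_notMem_of_card_lt_card (by
        rw [Finset.card_univ]; exact lt_of_le_of_lt Finset.card_le_two (hq rfl))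
    simp only [Finset.mem_insert, Finset.mem_singleton, not_or] at hx
    exact ⟨Units.mk0 x hx.1, hx.2⟩
  obtain ⟨k, -, hk⟩ : ∃ k ∈ (Finset.univ : Finset (Fin t)), k ∉ ({j, l0.1} : Finset (Fin t)) :=
    Finset.exists_mem_notMem_of_card_lt_card (by
      rw [Finset.card_univ, Fintype.card_fin]; exact lt_of_le_of_lt Finset.card_le_two (h3 rfl))
  simp only [Finset.mem_insert, Finset.mem_singleton, not_or] at hk
  set f : I t 2 → F := Pi.single q (α q)⁻¹ with hf
  have hfj : Sup f j := sup_single' (p := q) rfl _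
  have hαf : α ⬝ᵥ f = 1 := by simp [hf, hαq]
  have hψ0f : ψ0 ⬝ᵥ f = 0 := dotψ0 _ (Pi.single_eq_of_ne (Ne.symm hqp) _)
  have hu := tv_block_mem hM (sup_smul hfj (-1)) hψ0
  set u := tv ((-1 : F) • f) ψ0
  have hux : ∀ x, (u : Matrix (I t 2) (I t 2) F) *ᵥ x = x + (ψ0 ⬝ᵥ x) • ((-1 : F) • f) :=
    tv_act (by rw [dotProduct_smul, hψ0f, smul_zero])
  set aj : I t 2 → F := a p • Pi.single p (1 : F) + a q • Pi.single q (1 : F)
  set ρ : I t 2 → F := ((1 + α p * a p) / a p) • Pi.single p (1 : F) + α q • Pi.single q (1 : F) with hρdef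
  have hρ : Sup ρ j := sup_add (sup_smul (sup_single p _) _) (sup_smul (sup_single' (p := q) rfl _) _)
  have hρx : ∀ x, ρ ⬝ᵥ x = (1 + α p * a p) / a p * x p + α q * x q := fun x => by
    simp [hρdef, add_dotProduct, smul_dotProduct]
  have haj : Sup aj j := sup_add (sup_smul (sup_single p _) _) (sup_smul (sup_single' (p := q) rfl _) _)
  have hρaj : ρ ⬝ᵥ aj = 1 := by
    rw [hρx]
    simp [aj, hqp, Ne.symm hqp]
    field_simp
    linear_combination hc
  obtain ⟨e, he1, he2, hex⟩ := exists_pr hM haj hρ hρaj δ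
  obtain ⟨z, ρ', hz, hρ', hρz, hρa⟩ : ∃ z ρ' : I t 2 → F, Sup z k ∧ Sup ρ' k ∧ ρ' ⬝ᵥ z = 1 ∧ ρ' ⬝ᵥ a = 0 := by
    by_cases h0 : a (k, 0) = 0
    · exact ⟨Pi.single (k, 0) 1, Pi.single (k, 0) 1, sup_single' (p := ((k, 0) : I t 2)) rfl _,
        sup_single' (p := ((k, 0) : I t 2)) rfl _, by simp, by simp [h0]⟩
    · refine ⟨Pi.single (k, 1) 1, Pi.single (k, 1) 1 + (-(a (k, 1)) / a (k, 0)) • Pi.single (k, 0) 1,
        sup_single' (p := ((k, 1) : I t 2)) rfl _,
        sup_add (sup_single' (p := ((k, 1) : I t 2)) rfl _) (sup_smul (sup_single' (p := ((k, 0) : I t 2)) rfl _) _),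
        by simp [add_dotProduct], ?_⟩
      simp [add_dotProduct, smul_dotProduct, h0]
  obtain ⟨e', he'1, he'2, he'x⟩ := exists_pr hM hz hρ' hρz δ⁻¹
  have hee : e * e' ∈ M := by
    refine hM.diag _ ?_ fun x y hne => ?_
    · rw [Units.val_mul, Matrix.det_mul, he1, he'1]; simp
    · rw [Units.val_mul, Matrix.mul_apply] at hne
      obtain ⟨w, -, hw⟩ := Finset.exists_ne_zero_of_sum_ne_zero hne
      exact (he2 x w (left_ne_zero_of_mul hw)).trans (he'2 w y (right_ne_zero_of_mul hw))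
  set h := e * e' * u
  have hhM : h ∈ M := M.mul_mem hee hu
  have hρ'f : ρ' ⬝ᵥ f = 0 := dot_of_sup hρ' fun x hx => hfj x (fun e => hk.1 (hx.symm.trans e))
  have hρf : ρ ⬝ᵥ f = 1 := by
    rw [hρx, hf, Pi.single_eq_same, Pi.single_eq_of_ne (Ne.symm hqp), mul_zero, zero_add, mul_inv_cancel₀ hαq]
  have hρa1 : ρ ⬝ᵥ a = 1 := by
    rw [hρx]; field_simp; linear_combination hc
  set a' := (h : Matrix (I t 2) (I t 2) F) *ᵥ a with ha'def
  have ha' : a' = a - f := by
    rw [ha'def, mul_act, mul_act, hux, hψ0a, he'x, dotProduct_add, dotProduct_smul, dotProduct_smul, hρa, hρ'f,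
      hex]
    simp only [dotProduct_add, dotProduct_smul, hρa1, hρf, smul_zero, add_zero, mul_zero, zero_smul]
    match_scalars <;> simp <;> ring
  set α' : I t 2 → F := Matrix.vecMul α ((h⁻¹ : GL (I t 2) F) : Matrix (I t 2) (I t 2) F) with hα'
  have hα'x : ∀ x, α' ⬝ᵥ x = α ⬝ᵥ (((h⁻¹ : GL (I t 2) F) : Matrix (I t 2) (I t 2) F) *ᵥ x) := fun x =>
    (Matrix.dotProduct_mulVec _ _ _).symm
  have hconj : h * tv a α * h⁻¹ = tv a' α' := tv_conj hαa h hα'x
  have hT' : tv a' α' ∈ M := hconj ▸ M.mul_mem (M.mul_mem hhM hT) (M.inv_mem hhM)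
  have hαa' : α ⬝ᵥ a' = -1 := by rw [ha', dotProduct_sub, hαa, hαf, zero_sub]
  -- α' on a: compute h⁻¹ a
  set x0 : I t 2 → F := a + ((δ⁻¹ : Fˣ) - 1 : F) • aj + ((δ⁻¹ : Fˣ) : F) • f with hx0
  have hρf' : ρ' ⬝ᵥ aj = 0 := dot_of_sup hρ' fun x hx => haj x (fun e => hk.1 (hx.symm.trans e))
  have hψ0aj : ψ0 ⬝ᵥ aj = 1 := by simp [hψ0def, aj, hqp, Ne.symm hqp, hap]
  have hx0h : (h : Matrix (I t 2) (I t 2) F) *ᵥ x0 = a := by
    rw [mul_act, mul_act, hux, he'x, hex, hx0]
    simp only [dotProduct_add, dotProduct_smul, hρa, hρf', hρ'f, hρa1, hρaj, hρf, hψ0a, hψ0aj, hψ0f, smul_eq_mul]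
    have hnn : (δ : F) * ((δ⁻¹ : Fˣ) : F) = 1 := by simp
    simp only [Units.val_inv_eq_inv_val] at hnn ⊢
    match_scalars <;> first | ring1 | linear_combination hnn | linear_combination -hnn | linear_combination a p * hnn | linear_combination a q * hnn
  have hd : α' ⬝ᵥ a = ((δ⁻¹ : Fˣ) : F) := by
    rw [hα'x]
    conv_lhs => rw [← hx0h, inv_act_act, hx0]
    have hαaj : α ⬝ᵥ aj = 0 := by
      simp only [aj, dotProduct_add, dotProduct_smul, dotProduct_single, smul_eq_mul, mul_one]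
      linear_combination hc
    simp only [dotProduct_add, dotProduct_smul, hαa, hαaj, hαf, smul_eq_mul]
    ring
  set β : I t 2 → F := α' - ((δ⁻¹ : Fˣ) : F) • α with hβ
  have hβT : tv (-f) β ∈ M := by
    have hα'a' : α' ⬝ᵥ a' = 0 := by rw [hα'x, ha'def, inv_act_act, hαa]
    have h1 : tv a α * tv a' α' * (tv a α)⁻¹ = tv ((tv a α : Matrix (I t 2) (I t 2) F) *ᵥ a') β :=
      tv_conj hα'a' _ fun x => by
        rw [tv_inv hαa, tv_act (by rw [neg_dotProduct, hαa, neg_zero]), dotProduct_add, dotProduct_smul, hd, hβ,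
          sub_dotProduct, smul_dotProduct, neg_dotProduct, smul_eq_mul, smul_eq_mul]
        ring
    rw [tv_act hαa, hαa', ha'] at h1
    rw [show -f = a - f + (-1 : F) • a by module, ← h1]
    exact M.mul_mem (M.mul_mem hT (ha' ▸ hT')) (M.inv_mem hT)
  have hβl : β l0 ≠ 0 := by
    have hfix : (h : Matrix (I t 2) (I t 2) F) *ᵥ Pi.single l0 (1 : F) = Pi.single l0 (1 : F) := by
      rw [mul_act, mul_act, hux, dot_of_sup hψ0 (fun x hx => sup_single l0 (1 : F) x (hx ▸ hl.symm)), zero_smul,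
        add_zero, he'x, dot_of_sup hρ' (fun x hx => sup_single l0 (1 : F) x (hx ▸ hk.2)), mul_zero, zero_smul,
        add_zero, hex, dot_of_sup hρ (fun x hx => sup_single l0 (1 : F) x (hx ▸ hl.symm)), mul_zero, zero_smul,
        add_zero]
    have h1 := hα'x (Pi.single l0 (1 : F))
    conv_rhs at h1 => rw [← hfix, inv_act_act]
    rw [dotProduct_single, dotProduct_single, mul_one, mul_one] at h1
    rw [hβ, Pi.sub_apply, Pi.smul_apply, smul_eq_mul, h1,
      show α l0 - ((δ⁻¹ : Fˣ) : F) * α l0 = (1 - ((δ⁻¹ : Fˣ) : F)) * α l0 by ring]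
    refine mul_ne_zero (fun e => hδ ?_) hl0
    have hnn : (δ : F) * ((δ⁻¹ : Fˣ) : F) = 1 := by simp
    linear_combination (δ : F) * e + hnn
  have hβf : β ⬝ᵥ (-f) = 0 := by
    have e1 : α' ⬝ᵥ a' = 0 := by rw [hα'x, ha'def, inv_act_act, hαa]
    rw [ha', dotProduct_sub, hd] at e1
    rw [hβ, sub_dotProduct, smul_dotProduct, dotProduct_neg, dotProduct_neg, hαf, smul_eq_mul]
    linear_combination e1
  refine el_of_centre hM hm (fun x hx => by simp [hfj x hx]) (fun e => ?_) hβf hl hβl hβT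
  have := congrFun e q
  simp [hf, hαq] at this

/-- An element not permuting the blocks gives an elementary transvection between two blocks. -/
theorem exists_el (ht : 1 ≤ t) (hm : 2 ≤ m) (h3 : m = 2 → 3 ≤ t) (hq : m = 2 → 3 ≤ Fintype.card F)
    {g : GL (I t m) F} (hg : g ∈ M)
    (hgB : ¬ ∃ σ : Equiv.Perm (Fin t), ∀ p q, (g : Matrix (I t m) (I t m) F) p q ≠ 0 → p.1 = σ q.1) :
    ∃ x y : I t m, x.1 ≠ y.1 ∧ ∃ c : F, c ≠ 0 ∧ el x y c ∈ M := by
  classical
  haveI : Nontrivial (Fin m) := Fin.nontrivial_iff_two_le.2 hm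
  have hne0 : ∀ p : I t m, (Pi.single p (1 : F) : I t m → F) ≠ 0 := fun p h => by simpa using congrFun h p
  have finish : ∀ (v φ : I t m → F) (i : Fin t), Sup v i → Sup φ i → φ ⬝ᵥ v = 0 → φ ≠ 0 →
      (∃ p p₂ : I t m, p.1 ≠ p₂.1 ∧ ((g : Matrix (I t m) (I t m) F) *ᵥ v) p ≠ 0 ∧
        ((g : Matrix (I t m) (I t m) F) *ᵥ v) p₂ ≠ 0) →
      ∃ x y : I t m, x.1 ≠ y.1 ∧ ∃ c : F, c ≠ 0 ∧ el x y c ∈ M := by
    intro v φ i hv hφ hφv hφ0 hex
    obtain ⟨p, p₂, hpp, hp, hp₂⟩ := hex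
    set β := Matrix.vecMul φ ((g⁻¹ : GL (I t m) F) : Matrix (I t m) (I t m) F)
    have hβx : ∀ x, β ⬝ᵥ x = φ ⬝ᵥ (((g⁻¹ : GL (I t m) F) : Matrix (I t m) (I t m) F) *ᵥ x) := fun x =>
      (Matrix.dotProduct_mulVec _ _ _).symm
    have hT : tv ((g : Matrix (I t m) (I t m) F) *ᵥ v) β ∈ M := tv_conj hφv g hβx ▸
      M.mul_mem (M.mul_mem hg (tv_block_mem hM hv hφ)) (M.inv_mem hg)
    refine el_of_multi hM hm h3 hq (by rw [hβx, inv_act_act, hφv]) (fun e => hφ0 ?_) hp hp₂ hpp hT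
    funext x
    have := hβx ((g : Matrix (I t m) (I t m) F) *ᵥ Pi.single x 1)
    rw [inv_act_act, e, zero_dotProduct, dotProduct_single, mul_one] at this
    rw [Pi.zero_apply, ← this]
  by_contra hno
  have hsingle : ∀ (v φ : I t m → F) (i : Fin t), Sup v i → Sup φ i → φ ⬝ᵥ v = 0 → φ ≠ 0 →
      ∀ p p₂ : I t m, ((g : Matrix (I t m) (I t m) F) *ᵥ v) p ≠ 0 →
        ((g : Matrix (I t m) (I t m) F) *ᵥ v) p₂ ≠ 0 → p.1 = p₂.1 := fun v φ i h1 h2 h4 h5 p p₂ hp hp₂ =>
    by_contra fun hpp => hno (finish v φ i h1 h2 h4 h5 ⟨p, p₂, hpp, hp, hp₂⟩)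
  have hcol : ∀ (x : I t m) p p₂, (g : Matrix (I t m) (I t m) F) p x ≠ 0 →
      (g : Matrix (I t m) (I t m) F) p₂ x ≠ 0 → p.1 = p₂.1 := by
    intro x p p₂ hp hp₂
    obtain ⟨y', hy'⟩ := exists_ne x.2
    let y : I t m := (x.1, y')
    refine hsingle (Pi.single x 1) (Pi.single y 1) x.1 (sup_single x 1) (sup_single' (p := y) rfl 1) ?_ (hne0 y)
      p p₂ (by rwa [mulVec_single]) (by rwa [mulVec_single])
    simp [y, show ((x.1, y') : I t m) ≠ x from fun h => hy' (congrArg Prod.snd h)]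
  have hpair : ∀ (x y : I t m), x.1 = y.1 → ∀ p p₂, (g : Matrix (I t m) (I t m) F) p x ≠ 0 →
      (g : Matrix (I t m) (I t m) F) p₂ y ≠ 0 → p.1 = p₂.1 := by
    intro x y hxy p p₂ hp hp₂
    rcases eq_or_ne x y with rfl | hne
    · exact hcol x p p₂ hp hp₂
    by_contra hpp
    have hp0 : (g : Matrix (I t m) (I t m) F) p y = 0 := by_contra fun h => hpp (hcol y p p₂ h hp₂)
    have hp₂0 : (g : Matrix (I t m) (I t m) F) p₂ x = 0 := by_contra fun h => hpp (hcol x p p₂ hp h)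
    refine hpp (hsingle (Pi.single x 1 + Pi.single y 1) (Pi.single x 1 + (-1 : F) • Pi.single y 1) x.1
      (sup_add (sup_single x 1) (sup_single' hxy.symm 1))
      (sup_add (sup_single x 1) (sup_smul (sup_single' hxy.symm 1) _)) ?_ (fun h => ?_) p p₂ ?_ ?_)
    · simp [add_dotProduct, hne, Ne.symm hne]
    · have := congrFun h x
      simp [hne] at this
    · simpa [Matrix.mulVec_add, mulVec_single, hp0] using hp
    · simpa [Matrix.mulVec_add, mulVec_single, hp₂0] using hp₂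
  have hex : ∀ x : I t m, ∃ p, (g : Matrix (I t m) (I t m) F) p x ≠ 0 := fun x => by
    by_contra! h
    exact act_ne_zero g (hne0 x) (by rw [mulVec_single]; exact funext h)
  choose r hr using hex
  haveI : Nonempty (Fin m) := ⟨⟨0, by omega⟩⟩
  let i0 : Fin m := ⟨0, by omega⟩
  let s : Fin t → Fin t := fun i => (r (i, i0)).1
  have hs : ∀ p x : I t m, (g : Matrix (I t m) (I t m) F) p x ≠ 0 → p.1 = s x.1 := fun p x h =>
    hpair x (x.1, i0) rfl p _ h (hr _)
  have hsurj : Function.Surjective s := fun k => by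
    by_contra! hk
    have h1 := congrFun (act_inv_act g (Pi.single ((k, i0) : I t m) (1 : F))) (k, i0)
    rw [Pi.single_eq_same] at h1
    refine one_ne_zero (h1.symm.trans ?_)
    exact Finset.sum_eq_zero fun x _ => by
      by_cases h : (g : Matrix (I t m) (I t m) F) (k, i0) x = 0
      · show (g : Matrix (I t m) (I t m) F) (k, i0) x * _ = 0
        rw [h, zero_mul]
      · exact absurd (hs _ _ h).symm (hk x.1)
  exact hgB ⟨Equiv.ofBijective s ⟨Finite.injective_iff_surjective.2 hsurj, hsurj⟩, hs⟩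

end Cfsg.Agent.DecompMaxBlock
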