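import Cfsg.Agent.Lib.DecompMaxMonomial

/-!
An overgroup of the monomial matrices of determinant one in dimension 4, at least seven elements in the field, with a
non-monomial element contains an elementary transvection.
-/

set_option autoImplicit false
set_option linter.unusedSectionVars false

namespace Cfsg.Agent.DecompMaxFour69

open Cfsg.Agent.TransvectionMax Cfsg.Agent.DecompMaxBasic Cfsg.Agent.DecompMaxLift Cfsg.Agent.DecompMaxMonomial
open scoped MatrixGroups Matrix

variable {ι : Type} [Fintype ι] [DecidableEq ι] {F : Type*} [Field F] [Fintype F]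
variable {M : Subgroup (GL ι F)}

theorem exists_gen (hq : 7 ≤ Fintype.card F) :
    ∃ l : Fˣ, (l : F) ^ 2 ≠ 1 ∧ (l : F) ^ 3 ≠ 1 ∧ (l : F) ^ 4 ≠ 1 := by
  classical
  obtain ⟨l, hl⟩ := IsCyclic.exists_ofOrder_eq_natCard (α := Fˣ)
  rw [Nat.card_eq_fintype_card, Fintype.card_units] at hl
  have key : ∀ k, 0 < k → k ≤ 4 → (l : F) ^ k ≠ 1 := by
    intro k hk hk4 h
    have h1 : l ^ k = 1 := by
      refine Units.ext ?_
      rw [Units.val_pow_eq_pow_val, h, Units.val_one]
    have := Nat.le_of_dvd hk (orderOf_dvd_of_pow_eq_one h1)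
    omega
  exact ⟨l, key 2 (by omega) (by omega), key 3 (by omega) (by omega), key 4 (by omega) le_rfl⟩

theorem exists_other2 (hn : Fintype.card ι = 4) (a b : ι) : ∃ c, c ≠ a ∧ c ≠ b := by
  obtain ⟨c, -, hc⟩ : ∃ x ∈ (Finset.univ : Finset ι), x ∉ ({a, b} : Finset ι) :=
    Finset.exists_mem_notMem_of_card_lt_card (by
      rw [Finset.card_univ]; exact lt_of_le_of_lt Finset.card_le_two (by omega))
  simp only [Finset.mem_insert, Finset.mem_singleton, not_or] at hc
  exact ⟨c, hc⟩

theorem exists_other3 (hn : Fintype.card ι = 4) (a b c : ι) : ∃ d, d ≠ a ∧ d ≠ b ∧ d ≠ c := by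
  obtain ⟨d, -, hd⟩ : ∃ x ∈ (Finset.univ : Finset ι), x ∉ ({a, b, c} : Finset ι) :=
    Finset.exists_mem_notMem_of_card_lt_card (by
      rw [Finset.card_univ]; exact lt_of_le_of_lt Finset.card_le_three (by omega))
  simp only [Finset.mem_insert, Finset.mem_singleton, not_or] at hd
  exact ⟨d, hd⟩

theorem sum_four (hn : Fintype.card ι = 4) {a b c d : ι} (hab : a ≠ b) (hac : a ≠ c) (had : a ≠ d)
    (hbc : b ≠ c) (hbd : b ≠ d) (hcd : c ≠ d) {R : Type*} [AddCommMonoid R] (f : ι → R) :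
    ∑ i, f i = f a + (f b + (f c + f d)) := by
  have h : (Finset.univ : Finset ι) = {a, b, c, d} := by
    refine (Finset.eq_univ_of_card _ ?_).symm
    rw [hn]
    simp [hab, hac, had, hbc, hbd, hcd]
  rw [h]
  simp [hab, hac, had, hbc, hbd, hcd]

theorem prod_four (hn : Fintype.card ι = 4) {a b c d : ι} (hab : a ≠ b) (hac : a ≠ c) (had : a ≠ d)
    (hbc : b ≠ c) (hbd : b ≠ d) (hcd : c ≠ d) {R : Type*} [CommMonoid R] (f : ι → R) :
    ∏ i, f i = f a * (f b * (f c * f d)) := by
  have h : (Finset.univ : Finset ι) = {a, b, c, d} := by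
    refine (Finset.eq_univ_of_card _ ?_).symm
    rw [hn]
    simp [hab, hac, had, hbc, hbd, hcd]
  rw [h]
  simp [hab, hac, had, hbc, hbd, hcd]

/-- The coordinates of a conjugated diagonal element. -/
theorem conj_apply (g : GL ι F) (d : ι → Fˣ) (p q : ι) :
    ((g⁻¹ * dg d * g : GL ι F) : Matrix ι ι F) p q =
      ∑ r, (d r : F) * (((g⁻¹ : GL ι F) : Matrix ι ι F) p r * (g : Matrix ι ι F) r q) := by
  have h := congrFun (mulVec_single ((g⁻¹ * dg d * g : GL ι F) : Matrix ι ι F) q) p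
  rw [← h, mul_act, mul_act]
  show ∑ r, ((g⁻¹ : GL ι F) : Matrix ι ι F) p r *
    ((dg d : Matrix ι ι F) *ᵥ ((g : Matrix ι ι F) *ᵥ Pi.single q (1 : F))) r = _
  refine Finset.sum_congr rfl fun r _ => ?_
  rw [dg_act, mulVec_single]
  ring

/-- A conjugated diagonal element on a column of the inverse. -/
theorem conj_eigen (g : GL ι F) (d : ι → Fˣ) (r : ι) :
    ((g⁻¹ * dg d * g : GL ι F) : Matrix ι ι F) *ᵥ (((g⁻¹ : GL ι F) : Matrix ι ι F) *ᵥ Pi.single r (1 : F)) =
      (d r : F) • (((g⁻¹ : GL ι F) : Matrix ι ι F) *ᵥ Pi.single r (1 : F)) := by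
  rw [mul_act, mul_act, act_inv_act, ← Matrix.mulVec_smul]
  congr 1
  funext p
  rw [dg_act]
  rcases eq_or_ne p r with rfl | h
  · simp
  · simp [h]

theorem inv_sum (g : GL ι F) (p q : ι) :
    ∑ r, ((g⁻¹ : GL ι F) : Matrix ι ι F) p r * (g : Matrix ι ι F) r q = if p = q then 1 else 0 := by
  have h := congrFun (inv_act_act g (Pi.single q (1 : F))) p
  rw [mulVec_single (g : Matrix ι ι F)] at h
  rw [Pi.single_apply] at h
  exact h

variable (hn : Fintype.card ι = 4) (hq : 7 ≤ Fintype.card F) (hB : Bad M)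
include hn hq hB

/-- No column has two zeros. -/
theorem col_zero_le_one {g : GL ι F} (hg : g ∈ M) (hgm : ¬ Mono g) {q a b : ι}
    (hab : a ≠ b) (ha : (g : Matrix ι ι F) a q = 0) (hb : (g : Matrix ι ι F) b q = 0) : False := by
  classical
  obtain ⟨l, hl2, hl3, hl4⟩ := exists_gen hq
  have hd := dpair_mem hB.toOver hab l
  set h := dg (dpair a b l)
  set y := g⁻¹ * h * g with hy
  have hhe : ∀ x, (h : Matrix ι ι F) *ᵥ x =
      x + (((l : F) - 1) * x a) • Pi.single a 1 + ((((l⁻¹ : Fˣ) : F) - 1) * x b) • Pi.single b 1 := fun x => by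
    funext p
    rw [dg_act]
    rcases eq_or_ne p a with rfl | hpa
    · simp [dpair_left hab, hab]; ring
    rcases eq_or_ne p b with rfl | hpb
    · simp [dpair_right, hpa]; ring
    simp [dpair_other hpa hpb, hpa, hpb]
  have hfix : (y : Matrix ι ι F) *ᵥ Pi.single q (1 : F) = (1 : F) • Pi.single q (1 : F) := by
    rw [hy, mul_act, mul_act, hhe, mulVec_single (g : Matrix ι ι F)]
    simp only [ha, hb, mul_zero, zero_smul, add_zero]
    rw [← mulVec_single, inv_act_act, one_smul]
  have hym := hB.line y (M.mul_mem (M.mul_mem (M.inv_mem hg) hd) hg) q 1 hfix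
  set f := ((g⁻¹ : GL ι F) : Matrix ι ι F) *ᵥ Pi.single a (1 : F) with hf
  set f' := ((g⁻¹ : GL ι F) : Matrix ι ι F) *ᵥ Pi.single b (1 : F) with hf'
  have hyf : (y : Matrix ι ι F) *ᵥ f = (l : F) • f := by
    rw [hy, hf, conj_eigen, dpair_left hab]
  have hyf' : (y : Matrix ι ι F) *ᵥ f' = ((l : F))⁻¹ • f' := by
    rw [hy, hf', conj_eigen, dpair_right, Units.val_inv_eq_inv_val]
  have hli : LinearIndependent F ![f, f'] := by
    rw [LinearIndependent.pair_iff]
    intro s t hst
    have h1 := congrArg (fun v => (g : Matrix ι ι F) *ᵥ v) hst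
    simp only [Matrix.mulVec_add, Matrix.mulVec_smul, hf, hf', act_inv_act, Matrix.mulVec_zero] at h1
    have e1 := congrFun h1 a
    have e2 := congrFun h1 b
    simp [hab, Ne.symm hab] at e1 e2
    exact ⟨e1, e2⟩
  have himg : ∀ x, ∃ A B : F, (y : Matrix ι ι F) *ᵥ x = x + A • f + B • f' := fun x =>
    ⟨_, _, by rw [hy, mul_act, mul_act, hhe, Matrix.mulVec_add, Matrix.mulVec_add, inv_act_act,
      Matrix.mulVec_smul, Matrix.mulVec_smul]⟩
  have hgi : ¬ Mono g⁻¹ := fun h => hgm (inv_inv g ▸ mono_inv h)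
  rcases plane_of_mono hym hli l.ne_zero hl2 hl3 hyf hyf' himg with ⟨k, hk⟩ | ⟨k, k', hk⟩
  · obtain ⟨p', hp', hne⟩ := col_two hB (M.inv_mem hg) hgi a k
    exact hne (by simpa [hf, mulVec_single] using hk p' hp')
  have hfk : f k ≠ 0 := by
    obtain ⟨p, hp, hne⟩ := col_two hB (M.inv_mem hg) hgi a k'
    rcases eq_or_ne p k with rfl | h
    · simpa [hf, mulVec_single] using hne
    · exact absurd (by simpa [hf, mulVec_single] using (hk p h hp).1) hne
  have hfk' : f' k ≠ 0 := by
    obtain ⟨p, hp, hne⟩ := col_two hB (M.inv_mem hg) hgi b k'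
    rcases eq_or_ne p k with rfl | h
    · simpa [hf', mulVec_single] using hne
    · exact absurd (by simpa [hf', mulVec_single] using (hk p h hp).2) hne
  obtain ⟨σ, d, hσd⟩ := hym
  have e : ∀ (v : ι → F) (s : F), (y : Matrix ι ι F) *ᵥ v = s • v → ∀ i, (d i : F) * v i = s * v (σ i) := by
    intro v s hv i
    have h1 := congrFun hv (σ i)
    rw [hσd, mn_act'] at h1
    simpa using h1
  have hl0 : (l : F) ≠ 0 := l.ne_zero
  have e1 := e f _ hyf k
  have e2 := e f' _ hyf' k
  rcases eq_or_ne (σ k) k with hs | hs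
  · rw [hs] at e1 e2
    refine hl2 ?_
    rw [mul_right_cancel₀ hfk e1] at e2
    have e3 := mul_right_cancel₀ hfk' e2
    field_simp at e3
    linear_combination e3
  rcases eq_or_ne (σ k) k' with hs' | hs'
  swap
  · rw [(hk _ hs hs').1, mul_zero] at e1
    exact mul_ne_zero (d k).ne_zero hfk e1
  rw [hs'] at e1 e2
  have e3 := e f _ hyf k'
  have e4 := e f' _ hyf' k'
  have hkk : k ≠ k' := fun h => hs (h ▸ hs')
  rcases eq_or_ne (σ k') k with ht | ht
  · rw [ht] at e3 e4
    refine hl4 ?_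
    have h1 : (d k : F) * d k' * f k = (l : F) ^ 2 * f k := by
      linear_combination (d k' : F) * e1 + (l : F) * e3
    have h2 : (d k : F) * d k' * f' k = ((l : F)⁻¹) ^ 2 * f' k := by
      linear_combination (d k' : F) * e2 + (l : F)⁻¹ * e4
    rw [mul_right_cancel₀ hfk h1] at h2
    have h3 := mul_right_cancel₀ hfk' h2
    field_simp at h3
    linear_combination h3
  · have ht' : σ k' ≠ k' := fun h => hkk (σ.injective (hs'.trans h.symm))
    rw [(hk _ ht ht').1, mul_zero] at e3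
    have : f k' = 0 := (mul_eq_zero.1 e3).resolve_left (d k').ne_zero
    rw [this, mul_zero] at e1
    exact mul_ne_zero (d k).ne_zero hfk e1

/-- No zero entries at all. -/
theorem entry_ne {g : GL ι F} (hg : g ∈ M) (hgm : ¬ Mono g) (r q : ι) : (g : Matrix ι ι F) r q ≠ 0 := by
  classical
  intro h0
  obtain ⟨ν, -, -, hν⟩ := exists_gen hq
  set d : ι → Fˣ := Function.update (fun _ => ν) r (ν⁻¹ ^ 3) with hd
  have hdM : dg d ∈ M := by
    refine hB.mono _ _ ?_
    obtain ⟨b, hb⟩ := exists_other2 hn r r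
    obtain ⟨c, hc⟩ := exists_other2 hn r b
    obtain ⟨e, he⟩ := exists_other3 hn r b c
    rw [mn_det, Equiv.Perm.sign_one, Units.val_one, Int.cast_one, one_mul,
      prod_four hn (Ne.symm hb.1) (Ne.symm hc.1) (Ne.symm he.1) (Ne.symm hc.2) (Ne.symm he.2.1) (Ne.symm he.2.2)]
    simp only [hd, Function.update_self, Function.update_of_ne hb.1, Function.update_of_ne hc.1,
      Function.update_of_ne he.1, ← Units.val_mul]
    rw [show ν⁻¹ ^ 3 * (ν * (ν * ν)) = 1 by group, Units.val_one]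
  set y := g⁻¹ * dg d * g with hy
  set κ := ((ν⁻¹ ^ 3 : Fˣ) : F) - (ν : F) with hκ
  have hκ0 : κ ≠ 0 := by
    intro h
    apply hν
    have h1 : ((ν⁻¹ ^ 3 : Fˣ) : F) * (ν : F) ^ 3 = 1 := by
      rw [← Units.val_pow_eq_pow_val, ← Units.val_mul, ← mul_pow, inv_mul_cancel, one_pow, Units.val_one]
    rw [hκ, sub_eq_zero] at h
    rw [h] at h1
    linear_combination h1
  have hyx : ∀ x, (y : Matrix ι ι F) *ᵥ x = (ν : F) • x + (κ * ((g : Matrix ι ι F) *ᵥ x) r) •
      (((g⁻¹ : GL ι F) : Matrix ι ι F) *ᵥ Pi.single r (1 : F)) := fun x => by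
    rw [hy, mul_act, mul_act]
    conv_rhs => enter [1, 2]; rw [← inv_act_act g x]
    rw [show ∀ (A : Matrix ι ι F) (u v : ι → F) (s t : F), s • (A *ᵥ u) + t • (A *ᵥ v) = A *ᵥ (s • u + t • v)
      from fun A u v s t => by rw [Matrix.mulVec_add, Matrix.mulVec_smul, Matrix.mulVec_smul]]
    congr 1
    funext p
    rw [dg_act, hd]
    rcases eq_or_ne p r with rfl | hp
    · simp [hκ]; ring
    · simp [hp]
  have hline : (y : Matrix ι ι F) *ᵥ Pi.single q (1 : F) = (ν : F) • Pi.single q (1 : F) := by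
    rw [hyx, show ((g : Matrix ι ι F) *ᵥ Pi.single q (1 : F)) r = 0 from
      (congrFun (mulVec_single _ q) r).trans h0, mul_zero, zero_smul, add_zero]
  obtain ⟨σ, e, he⟩ := hB.line y (M.mul_mem (M.mul_mem (M.inv_mem hg) hdM) hg) q _ hline
  obtain ⟨p, hp⟩ : ∃ p, (g : Matrix ι ι F) r p ≠ 0 := by
    by_contra! h
    have := congrFun (act_inv_act g (Pi.single r (1 : F))) r
    simp [Matrix.mulVec, dotProduct, h] at this
  have hgi : ¬ Mono g⁻¹ := fun h => hgm (inv_inv g ▸ mono_inv h)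
  obtain ⟨i, hip, his⟩ := exists_other2 hn p (σ p)
  have hz : ∀ i, i ≠ p → i ≠ σ p → ((g⁻¹ : GL ι F) : Matrix ι ι F) i r = 0 := by
    intro i hip his
    have h1 := congrFun (hyx (Pi.single p 1)) i
    rw [he, mn_single, mulVec_single (g : Matrix ι ι F), mulVec_single] at h1
    simp [hip, his, -Matrix.coe_units_inv] at h1
    rcases h1 with h1 | h1
    · rcases h1 with h1 | h1
      · exact absurd h1 hκ0
      · exact absurd h1 hp
    · exact h1
  obtain ⟨j, hjp, hjs, hji⟩ := exists_other3 hn p (σ p) i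
  exact col_zero_le_one hn hq hB (M.inv_mem hg) hgi hji (hz j hjp hjs) (hz i hip his)

/-- The products of an element and its inverse, two at a time. -/
theorem pair_ne {g : GL ι F} (hg : g ∈ M) (hgm : ¬ Mono g) {p q a b : ι} (hpq : p ≠ q) (hab : a ≠ b) :
    ((g⁻¹ : GL ι F) : Matrix ι ι F) p a * (g : Matrix ι ι F) a q +
      ((g⁻¹ : GL ι F) : Matrix ι ι F) p b * (g : Matrix ι ι F) b q ≠ 0 := by
  classical
  intro h0
  obtain ⟨s, hs2, -, hs4⟩ := exists_gen hq
  obtain ⟨c, hca, hcb⟩ := exists_other2 hn a b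
  obtain ⟨e, hea, heb, hec⟩ := exists_other3 hn a b c
  set d : ι → Fˣ := fun i => if i = a ∨ i = b then s else s⁻¹ with hd
  have hda : d a = s := by simp [hd]
  have hdb : d b = s := by simp [hd]
  have hdc : d c = s⁻¹ := by simp [hd, hca, hcb]
  have hde : d e = s⁻¹ := by simp [hd, hea, heb]
  have h4 : a ≠ c ∧ a ≠ e ∧ b ≠ c ∧ b ≠ e ∧ c ≠ e :=
    ⟨hca.symm, hea.symm, hcb.symm, heb.symm, hec.symm⟩
  have hdM : dg d ∈ M := by
    refine hB.mono _ _ ?_
    rw [mn_det, Equiv.Perm.sign_one, Units.val_one, Int.cast_one, one_mul,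
      prod_four hn hab h4.1 h4.2.1 h4.2.2.1 h4.2.2.2.1 h4.2.2.2.2, hda, hdb, hdc, hde]
    simp only [← Units.val_mul]
    rw [show s * (s * (s⁻¹ * s⁻¹)) = 1 by group, Units.val_one]
  set y := g⁻¹ * dg d * g with hy
  have hyM : y ∈ M := M.mul_mem (M.mul_mem (M.inv_mem hg) hdM) hg
  have hy0 : (y : Matrix ι ι F) p q = 0 := by
    have h1 := inv_sum g p q
    rw [if_neg hpq, sum_four hn hab h4.1 h4.2.1 h4.2.2.1 h4.2.2.2.1 h4.2.2.2.2] at h1
    rw [hy, conj_apply, sum_four hn hab h4.1 h4.2.1 h4.2.2.1 h4.2.2.2.1 h4.2.2.2.2, hda, hdb, hdc, hde]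
    linear_combination ((s : F) - ((s⁻¹ : Fˣ) : F)) * h0 + ((s⁻¹ : Fˣ) : F) * h1
  have hym : Mono y := by
    by_contra h
    exact entry_ne hn hq hB hyM h p q hy0
  obtain ⟨σ, t, ht⟩ := hym
  have hss : (s : F) * ((s⁻¹ : Fˣ) : F) = 1 := by simp
  have hquad : ∀ i, (d i : F) * d i - ((s : F) + ((s⁻¹ : Fˣ) : F)) * d i + 1 = 0 := fun i => by
    by_cases h : i = a ∨ i = b
    · simp only [hd, if_pos h]; linear_combination -hss
    · simp only [hd, if_neg h]; linear_combination -hss
  have hσ : ∀ i, σ i = i := by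
    intro i
    by_contra hi
    have h1 : (y : Matrix ι ι F) *ᵥ ((y : Matrix ι ι F) *ᵥ Pi.single i (1 : F)) -
        ((s : F) + ((s⁻¹ : Fˣ) : F)) • ((y : Matrix ι ι F) *ᵥ Pi.single i (1 : F)) + Pi.single i (1 : F) = 0 := by
      refine act_injective g ?_
      dsimp only
      simp only [hy, mul_act, Matrix.mulVec_add, Matrix.mulVec_sub, Matrix.mulVec_smul, act_inv_act,
        Matrix.mulVec_zero]
      funext j
      simp only [Pi.add_apply, Pi.sub_apply, Pi.smul_apply, smul_eq_mul, dg_act, Pi.zero_apply]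
      linear_combination ((g : Matrix ι ι F) *ᵥ Pi.single i (1 : F)) j * hquad j
    rw [ht, mn_single, Matrix.mulVec_smul, mn_single] at h1
    have h2 := congrFun h1 (σ i)
    have hi' : σ i ≠ σ (σ i) := fun h => hi (σ.injective h).symm
    simp [hi, hi', (t i).ne_zero] at h2
    apply hs4
    field_simp at h2
    linear_combination ((s : F) ^ 2 - 1) * h2
  have key : ∀ r i, (t i : F) = d r := fun r i => by
    have h1 := congrFun (conj_eigen g d r) i
    rw [← hy, ht] at h1
    rw [mn_act, show σ.symm i = i from σ.symm_apply_eq.2 (hσ i).symm, Pi.smul_apply, smul_eq_mul,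
      mulVec_single] at h1
    exact mul_right_cancel₀ (entry_ne hn hq hB (M.inv_mem hg) (fun h => hgm (inv_inv g ▸ mono_inv h)) i r) h1
  have h5 : (d a : F) = d c := (key a a).symm.trans (key c a)
  rw [hda, hdc] at h5
  exact hs2 (by linear_combination (s : F) * h5 + hss)

/-- Three of the products are equal. -/
theorem pattern {g : GL ι F} (hg : g ∈ M) (hgm : ¬ Mono g) {p q : ι} (hpq : p ≠ q) :
    ∃ (j : ι) (l : F), l ≠ 0 ∧ ∀ r, ((g⁻¹ : GL ι F) : Matrix ι ι F) p r * (g : Matrix ι ι F) r q =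
      l * (if r = j then -3 else 1) := by
  classical
  set c := fun r => ((g⁻¹ : GL ι F) : Matrix ι ι F) p r * (g : Matrix ι ι F) r q
  have hgi : ¬ Mono g⁻¹ := fun h => hgm (inv_inv g ▸ mono_inv h)
  have hc0 : ∀ r, c r ≠ 0 := fun r => mul_ne_zero (entry_ne hn hq hB (M.inv_mem hg) hgi p r)
    (entry_ne hn hq hB hg hgm r q)
  have hpair : ∀ {a b}, a ≠ b → c a + c b ≠ 0 := fun hab => pair_ne hn hq hB hg hgm hpq hab
  have hrat : ∀ {a b}, a ≠ b → c a ≠ c b → c b * c b + c b * c a + c a * c a = 0 := by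
    intro a b hab hne
    by_contra hcube
    set l := c b / c a with hl
    have hl0 : l ≠ 0 := div_ne_zero (hc0 b) (hc0 a)
    have hlb : l * c a = c b := div_mul_cancel₀ _ (hc0 a)
    have hl2 : l ^ 2 ≠ 1 := fun h => by
      have : (c b - c a) * (c b + c a) = 0 := by
        linear_combination (c a * c a) * h - (c b + l * c a) * hlb
      rcases mul_eq_zero.1 this with h | h
      · exact hne (sub_eq_zero.1 h).symm
      · exact hpair hab (by linear_combination h)
    have hl3 : l ^ 3 ≠ 1 := fun h => by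
      have : (c b - c a) * (c b * c b + c b * c a + c a * c a) = 0 := by
        linear_combination (c a * c a * c a) * h - (c b * c b + c b * (l * c a) + (l * c a) * (l * c a)) * hlb
      rcases mul_eq_zero.1 this with h | h
      · exact hne (sub_eq_zero.1 h).symm
      · exact hcube h
    set u := Units.mk0 l hl0
    set y := g⁻¹ * dg (dpair a b u) * g with hy
    have hyM : y ∈ M := M.mul_mem (M.mul_mem (M.inv_mem hg) (dpair_mem hB.toOver hab u)) hg
    obtain ⟨x, hxa, hxb⟩ := exists_other2 hn a b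
    obtain ⟨z, hza, hzb, hzx⟩ := exists_other3 hn a b x
    have hy0 : (y : Matrix ι ι F) p q = 0 := by
      have h1 := inv_sum g p q
      rw [if_neg hpq, sum_four hn hab hxa.symm hza.symm hxb.symm hzb.symm hzx.symm] at h1
      rw [hy, conj_apply, sum_four hn hab hxa.symm hza.symm hxb.symm hzb.symm hzx.symm, dpair_left hab,
        dpair_right, dpair_other hxa hxb, dpair_other hza hzb]
      have h2 : ((u⁻¹ : Fˣ) : F) * l = 1 := by simp [u, hl0]
      simp only [u, Units.val_mk0, Units.val_one] at h2 ⊢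
      linear_combination h1 + (1 - ((u⁻¹ : Fˣ) : F)) * hlb + c a * h2
    have hym : Mono y := by
      by_contra h
      exact entry_ne hn hq hB hyM h p q hy0
    set f := ((g⁻¹ : GL ι F) : Matrix ι ι F) *ᵥ Pi.single a (1 : F) with hf
    set f' := ((g⁻¹ : GL ι F) : Matrix ι ι F) *ᵥ Pi.single b (1 : F) with hf'
    have hyf : (y : Matrix ι ι F) *ᵥ f = l • f := by
      rw [hy, hf, conj_eigen, dpair_left hab]; rfl
    have hyf' : (y : Matrix ι ι F) *ᵥ f' = l⁻¹ • f' := by
      rw [hy, hf', conj_eigen, dpair_right, Units.val_inv_eq_inv_val]; rfl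
    have hli : LinearIndependent F ![f, f'] := by
      rw [LinearIndependent.pair_iff]
      intro s t hst
      have h1 := congrArg (fun v => (g : Matrix ι ι F) *ᵥ v) hst
      simp only [Matrix.mulVec_add, Matrix.mulVec_smul, hf, hf', act_inv_act, Matrix.mulVec_zero] at h1
      have e1 := congrFun h1 a
      have e2 := congrFun h1 b
      simp [hab, Ne.symm hab] at e1 e2
      exact ⟨e1, e2⟩
    have himg : ∀ v, ∃ A B : F, (y : Matrix ι ι F) *ᵥ v = v + A • f + B • f' := fun v => by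
      set w := (g : Matrix ι ι F) *ᵥ v
      refine ⟨(l - 1) * w a, (l⁻¹ - 1) * w b, ?_⟩
      rw [hy, mul_act, mul_act, hf, hf', ← Matrix.mulVec_smul, ← Matrix.mulVec_smul]
      conv_rhs => enter [1, 1]; rw [← inv_act_act g v]
      rw [← Matrix.mulVec_add, ← Matrix.mulVec_add]
      congr 1
      funext i
      rw [dg_act]
      rcases eq_or_ne i a with rfl | hia
      · simp [dpair_left hab, hab, u, w]; ring
      rcases eq_or_ne i b with rfl | hib
      · simp [dpair_right, hia, u, w]; ring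
      simp [dpair_other hia hib, hia, hib, w]
    have hfull : ∀ i, f i ≠ 0 := fun i => by
      rw [hf, mulVec_single]; exact entry_ne hn hq hB (M.inv_mem hg) hgi i a
    rcases plane_of_mono hym hli hl0 hl2 hl3 hyf hyf' himg with ⟨k, hk⟩ | ⟨k, k', hk⟩
    · obtain ⟨i, hi, -⟩ := exists_other2 hn k k
      exact hfull i (hk i hi)
    · obtain ⟨i, hi, hi'⟩ := exists_other2 hn k k'
      exact hfull i (hk i hi hi').1
  obtain ⟨a, -, -⟩ := exists_other2 hn p p
  obtain ⟨b, hba, -⟩ := exists_other2 hn a a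
  obtain ⟨x, hxa, hxb⟩ := exists_other2 hn a b
  obtain ⟨z, hza, hzb, hzx⟩ := exists_other3 hn a b x
  have hsum : c a + (c b + (c x + c z)) = 0 := by
    have h1 := inv_sum g p q
    rwa [if_neg hpq, sum_four hn hba.symm hxa.symm hza.symm hxb.symm hzb.symm hzx.symm] at h1
  -- two of the four are equal
  have hcube3 : ∀ {i j k}, i ≠ j → i ≠ k → j ≠ k → c i ≠ c j → c i ≠ c k → c j ≠ c k →
      c i + c j + c k = 0 := by
    intro i j k h1 h2 h3 n1 n2 n3
    have e1 := hrat h1 n1
    have e2 := hrat h2 n2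
    have : (c j - c k) * (c i + c j + c k) = 0 := by linear_combination e1 - e2
    exact (mul_eq_zero.1 this).resolve_left (sub_ne_zero.2 n3)
  have huniv : ∀ r, r = a ∨ r = b ∨ r = x ∨ r = z := fun r => by
    by_contra h
    push Not at h
    have := Finset.card_le_univ ({a, b, x, z, r} : Finset ι)
    rw [hn] at this
    simp [hba.symm, hxa.symm, hza.symm, hxb.symm, hzb.symm, hzx.symm, Ne.symm h.1, Ne.symm h.2.1,
      Ne.symm h.2.2.1, Ne.symm h.2.2.2] at this
  -- the four values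
  have main : ∀ {i j k m}, i ≠ j → i ≠ k → i ≠ m → j ≠ k → j ≠ m → k ≠ m →
      c i + (c j + (c k + c m)) = 0 → c i = c j → c k = c i ∨ c m = c i := by
    intro i j k m h1 h2 h3 h4 h5 h6 hs hij
    by_contra! h
    rcases eq_or_ne (c k) (c m) with hkm | hkm
    · rcases eq_or_ne (2 : F) 0 with ht | ht
      · exact hpair h1 (by linear_combination c i * ht - hij)
      · have : 2 * (c i + c k) = 0 := by linear_combination hs + hij + hkm
        exact hpair h2 ((mul_eq_zero.1 this).resolve_left ht)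
    · have := hcube3 h2 h3 h6 h.1.symm h.2.symm hkm
      exact hc0 i (by linear_combination hs - this + hij)
  have fin : ∀ {i j k m}, i ≠ m → j ≠ m → k ≠ m → (∀ r, r = i ∨ r = j ∨ r = k ∨ r = m) → c i = c j →
      c i = c k → c i + (c j + (c k + c m)) = 0 → ∃ (j' : ι) (l : F), l ≠ 0 ∧ ∀ r, c r = l * (if r = j' then -3 else 1) := by
    intro i j k m h1 h2 h3 hu e1 e2 hs
    refine ⟨m, c i, hc0 i, fun r => ?_⟩
    rcases hu r with rfl | rfl | rfl | rfl
    · rw [if_neg h1, mul_one]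
    · rw [if_neg h2, mul_one, e1]
    · rw [if_neg h3, mul_one, e2]
    · rw [if_pos rfl]; linear_combination hs + e1 + e2
  have resolve : ∀ {i j k m}, i ≠ j → i ≠ k → i ≠ m → j ≠ k → j ≠ m → k ≠ m →
      (∀ r, r = i ∨ r = j ∨ r = k ∨ r = m) →
      c i + (c j + (c k + c m)) = 0 → c i = c j →
      ∃ (j' : ι) (l : F), l ≠ 0 ∧ ∀ r, c r = l * (if r = j' then -3 else 1) := by
    intro i j k m h1 h2 h3 h4 h5 h6 hu hs hij
    rcases main h1 h2 h3 h4 h5 h6 hs hij with h | h
    · exact fin h3 h5 h6 hu hij h.symm hs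
    · exact fin h2 h4 h6.symm (fun r => by rcases hu r with h | h | h | h <;> simp [h]) hij h.symm
        (by linear_combination hs)
  have n1 := hba.symm
  have n2 := hxa.symm
  have n3 := hza.symm
  have n4 := hxb.symm
  have n5 := hzb.symm
  have n6 := hzx.symm
  by_cases e1 : c a = c b
  · exact resolve n1 n2 n3 n4 n5 n6 huniv hsum e1
  by_cases e2 : c a = c x
  · exact resolve n2 n1 n3 n4.symm n6 n5 (fun r => by rcases huniv r with h | h | h | h <;> simp [h])
      (by linear_combination hsum) e2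
  by_cases e3 : c b = c x
  · exact resolve n4 n1.symm n5 n2.symm n6 n3 (fun r => by rcases huniv r with h | h | h | h <;> simp [h])
      (by linear_combination hsum) e3
  exfalso
  have := hcube3 n1 n2 n4 e1 e2 e3
  exact hc0 z (by linear_combination hsum - this)

/-- There is no non-monomial element at all. -/
theorem all_mono {g : GL ι F} (hg : g ∈ M) : Mono g := by
  classical
  by_contra hgm
  have hgi : ¬ Mono g⁻¹ := fun h => hgm (inv_inv g ▸ mono_inv h)
  obtain ⟨p, -, -⟩ : ∃ p : ι, True ∧ True := by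
    haveI : Nonempty ι := Fintype.card_pos_iff.1 (by omega)
    exact ⟨Classical.arbitrary ι, trivial, trivial⟩
  obtain ⟨p', hp', -⟩ := exists_other2 hn p p
  obtain ⟨q₁, h1p, h1p'⟩ := exists_other2 hn p p'
  obtain ⟨q₂, h2p, h2p', h21⟩ := exists_other3 hn p p' q₁
  obtain ⟨j1, l1, hl1, e1⟩ := pattern hn hq hB hg hgm h1p.symm
  obtain ⟨j2, l2, hl2, e2⟩ := pattern hn hq hB hg hgm h2p.symm
  obtain ⟨i1, m1, hm1, f1⟩ := pattern hn hq hB hg hgm h1p'.symm
  obtain ⟨i2, m2, hm2, f2⟩ := pattern hn hq hB hg hgm h2p'.symm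
  set H := ((g⁻¹ : GL ι F) : Matrix ι ι F)
  set G := (g : Matrix ι ι F)
  have hH : ∀ i r, H i r ≠ 0 := entry_ne hn hq hB (M.inv_mem hg) hgi
  have h12 : j1 ≠ j2 := by
    intro h
    subst h
    have hprop : ∀ r, G r q₁ * l2 = G r q₂ * l1 := fun r =>
      mul_left_cancel₀ (hH p r) (by linear_combination l2 * e1 r - l1 * e2 r)
    have h3 : (∑ r, H q₁ r * G r q₁) * l2 = (∑ r, H q₁ r * G r q₂) * l1 := by
      rw [Finset.sum_mul, Finset.sum_mul]
      exact Finset.sum_congr rfl fun r _ => by linear_combination H q₁ r * hprop r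
    rw [inv_sum, inv_sum, if_pos rfl, if_neg h21.symm, one_mul, zero_mul] at h3
    exact hl2 h3
  have hrows : i1 ≠ j1 := by
    intro h
    subst h
    have hprop : ∀ r, H p r * m1 = H p' r * l1 := fun r =>
      mul_right_cancel₀ (entry_ne hn hq hB hg hgm r q₁) (by linear_combination m1 * e1 r - l1 * f1 r)
    have h3 : (∑ r, H p r * G r p) * m1 = (∑ r, H p' r * G r p) * l1 := by
      rw [Finset.sum_mul, Finset.sum_mul]
      exact Finset.sum_congr rfl fun r _ => by linear_combination G r p * hprop r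
    rw [inv_sum, inv_sum, if_pos rfl, if_neg hp', one_mul, zero_mul] at h3
    exact hm1 h3
  -- the case distinction
  set w : ι → ι → F := fun j r => if r = j then -3 else 1
  have hR : ∀ r, m1 * l2 * (w i1 r * w j2 r) = l1 * m2 * (w j1 r * w i2 r) := fun r => by
    have hx : H p' r * G r q₁ * (H p r * G r q₂) = H p r * G r q₁ * (H p' r * G r q₂) := by ring
    rw [f1, e2, e1, f2] at hx
    linear_combination hx
  have h2 : (2 : F) ≠ 0 := by
    intro h
    refine pair_ne hn hq hB hg hgm (p := p) (q := q₁) h1p.symm h12 ?_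
    rw [e1 j1, e1 j2, if_pos rfl, if_neg h12.symm]
    linear_combination -l1 * h
  have hz1 : (-3 : F) ≠ 1 := fun h => mul_ne_zero h2 h2 (by linear_combination -h)
  have hz2 : (-3 : F) * -3 ≠ 1 := fun h => mul_ne_zero (mul_ne_zero h2 h2) h2 (by linear_combination h)
  have hK : ∀ r, r ≠ i1 → r ≠ j2 → r ≠ j1 → r ≠ i2 → m1 * l2 = l1 * m2 := fun r a b c d => by
    simpa [w, a, b, c, d] using hR r
  by_cases hex : ∃ r, r ≠ i1 ∧ r ≠ j2 ∧ r ≠ j1 ∧ r ≠ i2
  · obtain ⟨r, a, b, c, d⟩ := hex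
    have hk := hK r a b c d
    have hne : m1 * l2 ≠ 0 := mul_ne_zero hm1 hl2
    have h5 : w i1 j1 * w j2 j1 = w j1 j1 * w i2 j1 := by
      have h6 := hR j1
      rw [← hk] at h6
      exact mul_left_cancel₀ hne h6
    by_cases h7 : j1 = i2
    · simp only [w, if_neg hrows.symm, if_neg h12, ← h7, if_true, one_mul] at h5
      exact hz2 h5.symm
    · simp only [w, if_neg hrows.symm, if_neg h12, if_neg h7, if_true, one_mul, mul_one] at h5
      exact hz1 h5.symm
  push Not at hex
  -- otherwise the four positions are all of ι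
  have hcard : ({i1, j2, j1, i2} : Finset ι) = Finset.univ := by
    refine Finset.eq_univ_of_forall fun r => ?_
    by_contra h
    simp only [Finset.mem_insert, Finset.mem_singleton, not_or] at h
    exact h.2.2.2 (hex r h.1 h.2.1 h.2.2.1)
  have hdist : i1 ≠ j2 ∧ i1 ≠ i2 ∧ j1 ≠ i2 ∧ j2 ≠ i2 := by
    have hc : ({i1, j2, j1, i2} : Finset ι).card = 4 := by rw [hcard, Finset.card_univ, hn]
    have key : ∀ x y z : ι, ({i1, j2, j1, i2} : Finset ι) ⊆ {x, y, z} → False := fun x y z h => by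
      have h1 := Finset.card_le_card h
      have h2 := Finset.card_le_three (a := x) (b := y) (c := z)
      omega
    refine ⟨fun h => key j2 j1 i2 ?_, fun h => key j2 j1 i2 ?_, fun h => key i1 j2 i2 ?_,
      fun h => key i1 j1 i2 ?_⟩ <;> simp [Finset.insert_subset_iff, h]
  obtain ⟨d1, d2, d3, d4⟩ := hdist
  have ha := hR i1
  have hb := hR j1
  simp [w, d1, hrows] at ha
  simp [w, d1, d2, d3, hrows, hrows.symm, h12, d2] at hb ha
  have h9 : m1 * l2 * ((-3) * (-3) - 1) = 0 := by linear_combination -3 * ha - hb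
  exact mul_ne_zero (mul_ne_zero hm1 hl2) (sub_ne_zero.2 hz2) h9

omit hB in
/-- An elementary transvection in a non-monomial overgroup. -/
theorem exists_el (hM : Over M) {g : GL ι F} (hg : g ∈ M)
    (hgm : ¬ Mono g) : ∃ i j, i ≠ j ∧ ∃ c : F, c ≠ 0 ∧ el i j c ∈ M := by
  by_contra hno
  have hB : Bad M := ⟨hM, fun y hy q c hc => by
    by_contra hy'
    exact hno (found_of_line hM (by omega) (by omega) hy hy' hc)⟩
  exact hgm (all_mono hn hq hB hg)

end Cfsg.Agent.DecompMaxFour69
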