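import Cfsg.Agent.Lib.DecompMaxTorus

/-!
A non-monomial element of an overgroup of the monomial matrices of determinant one that stabilises a coordinate line
yields an elementary transvection.
-/

set_option autoImplicit false
set_option linter.unusedSectionVars false

namespace Cfsg.Agent.DecompMaxLift

open Cfsg.Agent.TransvectionMax Cfsg.Agent.DecompMaxBasic
open scoped MatrixGroups Matrix

variable {ι : Type} [Fintype ι] [DecidableEq ι] {F : Type*} [Field F] [Fintype F]

/-- Monomial. -/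
def Mono (g : GL ι F) : Prop := ∃ σ d, g = mn σ d

theorem mn_mul (σ τ : Equiv.Perm ι) (d e : ι → Fˣ) :
    mn σ d * mn τ e = mn (σ * τ) (fun k => d (τ k) * e k) := by
  refine gl_ext fun x => funext fun p => ?_
  simp only [mul_act, mn_act]
  simp [mul_assoc, Equiv.Perm.mul_def]

theorem mn_one : mn (1 : Equiv.Perm ι) (1 : ι → Fˣ) = 1 := by
  refine gl_ext fun x => funext fun p => ?_
  rw [mn_act, one_act]
  simp [Equiv.Perm.one_def]

theorem mn_perm_inj {σ τ : Equiv.Perm ι} {d e : ι → Fˣ} (h : mn σ d = mn τ e) : σ = τ := by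
  refine Equiv.ext fun q => ?_
  by_contra hne
  have h1 := congrFun (congrArg (fun g : GL ι F => (g : Matrix ι ι F) *ᵥ Pi.single q (1 : F)) h) (σ q)
  simp only [mn_act, Equiv.symm_apply_apply, Pi.single_eq_same, mul_one] at h1
  rw [Pi.single_eq_of_ne (fun h2 => hne (by rw [Equiv.symm_apply_eq] at h2; exact h2)), mul_zero] at h1
  exact (d q).ne_zero h1

theorem mn_single (σ : Equiv.Perm ι) (d : ι → Fˣ) (q : ι) :
    (mn σ d : Matrix ι ι F) *ᵥ Pi.single q (1 : F) = (d q : F) • Pi.single (σ q) (1 : F) := by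
  funext p
  rw [mn_act]
  rcases eq_or_ne p (σ q) with rfl | h
  · simp
  · rw [Pi.single_eq_of_ne (fun e => h (by rw [← e, Equiv.apply_symm_apply])), Pi.smul_apply,
      Pi.single_eq_of_ne h]
    simp

theorem mono_mul {g h : GL ι F} (hg : Mono g) (hh : Mono h) : Mono (g * h) := by
  obtain ⟨σ, d, rfl⟩ := hg
  obtain ⟨τ, e, rfl⟩ := hh
  exact ⟨_, _, mn_mul σ τ d e⟩

theorem mono_inv {g : GL ι F} (hg : Mono g) : Mono g⁻¹ := by
  obtain ⟨σ, d, rfl⟩ := hg
  refine ⟨σ⁻¹, fun k => (d (σ⁻¹ k))⁻¹, inv_eq_of_mul_eq_one_right ?_⟩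
  rw [mn_mul]
  convert mn_one (F := F) (ι := ι) using 2
  · simp
  · funext k; simp

/-- Single supported columns make a matrix monomial. -/
theorem mono_of_cols (g : GL ι F) (h : ∀ q, ∃ p, ∀ p', p' ≠ p → (g : Matrix ι ι F) p' q = 0) : Mono g := by
  classical
  choose s hs using h
  have hne : ∀ q, (g : Matrix ι ι F) (s q) q ≠ 0 := fun q h0 => by
    have h1 : (g : Matrix ι ι F) *ᵥ Pi.single q (1 : F) = 0 := by
      rw [mulVec_single]
      funext p
      rcases eq_or_ne p (s q) with rfl | hp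
      · exact h0
      · exact hs q p hp
    exact act_ne_zero g (x := Pi.single q (1 : F)) (fun e => by simpa using congrFun e q) h1
  have hinj : Function.Injective s := fun q r hqr => by
    by_contra hqr'
    have h1 : (g : Matrix ι ι F) *ᵥ ((g : Matrix ι ι F) (s q) r • Pi.single q (1 : F) -
        (g : Matrix ι ι F) (s q) q • Pi.single r (1 : F)) = 0 := by
      rw [Matrix.mulVec_sub, Matrix.mulVec_smul, Matrix.mulVec_smul, mulVec_single, mulVec_single]
      funext p
      simp only [Pi.sub_apply, Pi.smul_apply, smul_eq_mul, Pi.zero_apply]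
      rcases eq_or_ne p (s q) with rfl | hp
      · ring
      · rw [hs q p hp, hs r p (hqr ▸ hp)]; ring
    have h2 : (g : Matrix ι ι F) (s q) r • Pi.single q (1 : F) -
        (g : Matrix ι ι F) (s q) q • Pi.single r (1 : F) = 0 := by
      by_contra hx
      exact act_ne_zero g hx h1
    have h3 := congrFun h2 r
    simp [Ne.symm hqr'] at h3
    exact hne q h3
  refine ⟨Equiv.ofBijective s ⟨hinj, Finite.surjective_of_injective hinj⟩,
    fun q => Units.mk0 _ (hne q), Units.ext (Matrix.ext fun p q => ?_)⟩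
  have h1 := congrFun (mn_single (Equiv.ofBijective s ⟨hinj, Finite.surjective_of_injective hinj⟩)
    (fun q => Units.mk0 _ (hne q)) q) p
  simp only [mulVec_single] at h1
  rw [h1]
  show _ = ((g : Matrix ι ι F) (s q) q) • (Pi.single (s q) (1 : F) : ι → F) p
  rcases eq_or_ne p (s q) with rfl | hp
  · simp
  · simp [hs q p hp, hp]

variable {M : Subgroup (GL ι F)}

/-- The group induced on the quotient by a coordinate line, realised on the other coordinates. -/
def quot (M : Subgroup (GL ι F)) (o : ι) : Subgroup (GL ι F) where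
  carrier := {X | (∀ p, p ≠ o → (X : Matrix ι ι F) p o = 0) ∧ (∀ x, ((X : Matrix ι ι F) *ᵥ x) o = x o) ∧
    ∃ m ∈ M, (∃ c : F, (m : Matrix ι ι F) *ᵥ Pi.single o (1 : F) = c • Pi.single o (1 : F)) ∧
      ∀ x p, p ≠ o → ((m : Matrix ι ι F) *ᵥ x) p = ((X : Matrix ι ι F) *ᵥ x) p}
  one_mem' := ⟨fun p hp => by simp [hp], fun x => by simp, 1, M.one_mem, ⟨1, by rw [one_act, one_smul]⟩, fun x p _ => rfl⟩
  mul_mem' {X Y} hX hY := by
    obtain ⟨hX1, hX2, m, hm, ⟨c, hc⟩, hmx⟩ := hX
    obtain ⟨hY1, hY2, m', hm', ⟨c', hc'⟩, hmy⟩ := hY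
    refine ⟨fun p hp => ?_, fun x => by rw [mul_act, hX2, hY2], m * m', M.mul_mem hm hm',
      ⟨c' * c, by rw [mul_act, hc', Matrix.mulVec_smul, hc, smul_smul]⟩, fun x p hp => ?_⟩
    · rw [Units.val_mul, Matrix.mul_apply]
      refine Finset.sum_eq_zero fun q _ => ?_
      rcases eq_or_ne q o with rfl | hq
      · rw [hX1 p hp, zero_mul]
      · rw [hY1 q hq, mul_zero]
    · rw [mul_act, mul_act, hmx _ p hp]
      refine Finset.sum_congr rfl fun q _ => ?_
      rcases eq_or_ne q o with rfl | hq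
      · show (X : Matrix ι ι F) p _ * _ = (X : Matrix ι ι F) p _ * _
        rw [hX1 p hp, zero_mul, zero_mul]
      · show (X : Matrix ι ι F) p q * _ = (X : Matrix ι ι F) p q * _
        rw [hmy x q hq]
  inv_mem' {X} hX := by
    obtain ⟨hX1, hX2, m, hm, ⟨c, hc⟩, hmx⟩ := hX
    have he : (X : Matrix ι ι F) *ᵥ Pi.single o (1 : F) = Pi.single o (1 : F) := funext fun p => by
      rcases eq_or_ne p o with rfl | hp
      · rw [hX2]
      · rw [mulVec_single, Pi.single_eq_of_ne hp]; exact hX1 p hp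
    have he' : ((X⁻¹ : GL ι F) : Matrix ι ι F) *ᵥ Pi.single o (1 : F) = Pi.single o (1 : F) := by
      conv_lhs => rw [← he]
      exact inv_act_act X _
    have hc0 : c ≠ 0 := fun h => act_ne_zero m (x := Pi.single o (1 : F))
      (fun e => by simpa using congrFun e o) (by rw [hc, h, zero_smul])
    have hcm : ((m⁻¹ : GL ι F) : Matrix ι ι F) *ᵥ Pi.single o (1 : F) = c⁻¹ • Pi.single o (1 : F) := by
      refine act_injective m ?_; dsimp only
      rw [act_inv_act, Matrix.mulVec_smul, hc, smul_smul, inv_mul_cancel₀ hc0, one_smul]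
    refine ⟨fun p hp => ?_, fun x => ?_, m⁻¹, M.inv_mem hm, ⟨_, hcm⟩, fun x p hp => ?_⟩
    · have := congrFun he' p
      rwa [mulVec_single, Pi.single_eq_of_ne hp] at this
    · conv_rhs => rw [← act_inv_act X x]
      rw [hX2]
    · set y := ((X⁻¹ : GL ι F) : Matrix ι ι F) *ᵥ x with hy
      set e := ((m : Matrix ι ι F) *ᵥ y) o - x o with hedef
      have h1 : (m : Matrix ι ι F) *ᵥ y = x + e • Pi.single o (1 : F) := funext fun q => by
        rcases eq_or_ne q o with rfl | hq
        · simp [hedef]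
        · rw [hmx y q hq, hy, act_inv_act]; simp [hq]
      have h2 := congrArg (fun v => ((m⁻¹ : GL ι F) : Matrix ι ι F) *ᵥ v) h1
      simp only [inv_act_act, Matrix.mulVec_add, Matrix.mulVec_smul, hcm] at h2
      rw [h2]
      simp [hp]

/-- The standing hypotheses. -/
structure Over (M : Subgroup (GL ι F)) : Prop where
  sl : ∀ g ∈ M, (g : Matrix ι ι F).det = 1
  mono : ∀ σ d, (mn σ d : Matrix ι ι F).det = 1 → mn σ d ∈ M

/-- Diagonal: `ν` at `k` and `ν⁻¹` at `l`. -/
def dpair (k l : ι) (ν : Fˣ) : ι → Fˣ := Function.update (Function.update 1 k ν) l ν⁻¹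

theorem dpair_left {k l : ι} (h : k ≠ l) (ν : Fˣ) : dpair k l ν k = ν := by simp [dpair, h]

theorem dpair_right {k l : ι} (ν : Fˣ) : dpair k l ν l = ν⁻¹ := by simp [dpair]

theorem dpair_other {k l q : ι} (hk : q ≠ k) (hl : q ≠ l) (ν : Fˣ) : dpair k l ν q = 1 := by simp [dpair, hk, hl]

variable (hM : Over M)
include hM

/-- Compensate the determinant at one coordinate. -/
theorem exists_mono (σ : Equiv.Perm ι) (d : ι → Fˣ) (q : ι) :
    ∃ c : Fˣ, mn σ (Function.update d q c) ∈ M := by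
  classical
  set P := ∏ k ∈ Finset.univ.erase q, (d k : F)
  have hP : P ≠ 0 := Finset.prod_ne_zero_iff.2 fun k _ => (d k).ne_zero
  have hs : ((Equiv.Perm.sign σ : ℤ) : F) * ((Equiv.Perm.sign σ : ℤ) : F) = 1 := by
    rw [← Int.cast_mul, ← Units.val_mul, Int.units_mul_self]; simp
  refine ⟨Units.mk0 (((Equiv.Perm.sign σ : ℤ) : F) * P⁻¹) ?_, hM.mono _ _ ?_⟩
  · exact mul_ne_zero (fun h => by rw [h, zero_mul] at hs; exact zero_ne_one hs) (inv_ne_zero hP)
  · rw [mn_det, ← Finset.mul_prod_erase Finset.univ _ (Finset.mem_univ q), Function.update_self,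
      Finset.prod_congr rfl (fun k hk => by rw [Function.update_of_ne (Finset.ne_of_mem_erase hk)]),
      Units.val_mk0, mul_assoc _ P⁻¹, inv_mul_cancel₀ hP, mul_one, hs]

theorem dpair_mem {k l : ι} (h : k ≠ l) (ν : Fˣ) : dg (dpair k l ν) ∈ M := by
  refine hM.mono _ _ ?_
  rw [mn_det, Equiv.Perm.sign_one, Units.val_one, Int.cast_one, one_mul,
    Finset.prod_eq_mul k l h (fun q _ hq => by rw [dpair_other hq.1 hq.2]; simp) (by simp) (by simp),
    dpair_left h, dpair_right]
  simp

theorem setting (o : ι) : DecompMaxTorus.Setting (quot M o) o := by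
  refine ⟨fun σ d hσ hd => ?_, fun X hX p hp => hX.1 p hp, fun X hX p hp => ?_⟩
  · have hσ' : σ.symm o = o := by rw [Equiv.symm_apply_eq, hσ]
    obtain ⟨c, hc⟩ := exists_mono hM σ d o
    refine ⟨fun p hp => ?_, fun x => ?_, _, hc, ⟨c, ?_⟩, fun x p hp => ?_⟩
    · have := congrFun (mn_single σ d o) p
      simp only [mulVec_single] at this
      rw [this, hσ]
      simp [hp]
    · rw [mn_act, hσ', hd, Units.val_one, one_mul]
    · rw [mn_single, hσ, Function.update_self]
    · rw [mn_act, mn_act, Function.update_of_ne (fun e => hp (by rw [← σ.apply_symm_apply p, e, hσ]))]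
  · have := hX.2.1 (Pi.single p 1)
    rwa [mulVec_single, Pi.single_eq_of_ne hp.symm] at this

/-- A transvection with centre a coordinate vector gives an elementary one. -/
theorem isolate (hq : 5 ≤ Fintype.card F) (h4 : 4 ≤ Fintype.card ι) {o : ι} {r : ι → F} (hro : r o = 0)
    (hr : r ≠ 0) {z : GL ι F} (hz : z ∈ M)
    (hzx : ∀ x, (z : Matrix ι ι F) *ᵥ x = x + (r ⬝ᵥ x) • Pi.single o (1 : F)) :
    ∃ i j, i ≠ j ∧ ∃ c : F, c ≠ 0 ∧ el i j c ∈ M := by
  obtain ⟨k, hk⟩ : ∃ k, r k ≠ 0 := Function.ne_iff.1 hr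
  have hko : k ≠ o := fun e => hk (e ▸ hro)
  obtain ⟨ν, hν⟩ := exists_avoid hq {1} (by simp)
  have hν1 : (ν : F) - 1 ≠ 0 := sub_ne_zero.2 (by simpa using hν)
  obtain ⟨l, -, hl⟩ : ∃ q ∈ (Finset.univ : Finset ι), q ∉ ({o, k} : Finset ι) :=
    Finset.exists_mem_notMem_of_card_lt_card (by
      rw [Finset.card_univ]
      exact lt_of_le_of_lt Finset.card_le_two (by omega))
  obtain ⟨w, -, hw⟩ : ∃ q ∈ (Finset.univ : Finset ι), q ∉ ({o, k, l} : Finset ι) :=
    Finset.exists_mem_notMem_of_card_lt_card (by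
      rw [Finset.card_univ]
      exact lt_of_le_of_lt Finset.card_le_three (by omega))
  simp only [Finset.mem_insert, Finset.mem_singleton, not_or] at hl hw
  have key : ∀ (r : ι → F) (z : GL ι F), r o = 0 → z ∈ M →
      (∀ x, (z : Matrix ι ι F) *ᵥ x = x + (r ⬝ᵥ x) • Pi.single o (1 : F)) →
      ∀ d : ι → Fˣ, dg d ∈ M → d o = 1 → ∃ z' ∈ M, ∀ x, (z' : Matrix ι ι F) *ᵥ x =
        x + ((fun i => r i * (1 - (((d i)⁻¹ : Fˣ) : F))) ⬝ᵥ x) • Pi.single o (1 : F) := by
    intro r z hro hz hzx d hdM hdo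
    refine ⟨z * dg d * z⁻¹ * (dg d)⁻¹, M.mul_mem (M.mul_mem (M.mul_mem hz hdM) (M.inv_mem hz)) (M.inv_mem hdM),
      fun x => ?_⟩
    rw [mul_act, mul_act, mul_act]
    set y := (((dg d)⁻¹ : GL ι F) : Matrix ι ι F) *ᵥ x with hy
    have hyq : ∀ i, y i = ((d i)⁻¹ : Fˣ) * x i := fun i => by
      have := congrFun (act_inv_act (dg d) x) i
      rw [dg_act, ← hy] at this
      rw [← this, ← mul_assoc, ← Units.val_mul, inv_mul_cancel, Units.val_one, one_mul]
    have hzi : ((z⁻¹ : GL ι F) : Matrix ι ι F) *ᵥ y = y - (r ⬝ᵥ y) • Pi.single o (1 : F) := by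
      refine act_injective z ?_; dsimp only
      rw [act_inv_act, hzx, dotProduct_sub, dotProduct_smul, dotProduct_single, hro, zero_mul, smul_zero,
        sub_zero]
      abel
    have hdy : (dg d : Matrix ι ι F) *ᵥ (y - (r ⬝ᵥ y) • Pi.single o (1 : F)) =
        x - (r ⬝ᵥ y) • Pi.single o (1 : F) := by
      rw [Matrix.mulVec_sub, Matrix.mulVec_smul, hy, act_inv_act]
      congr 2
      funext i
      rw [dg_act]
      rcases eq_or_ne i o with rfl | hi
      · rw [hdo]; simp
      · simp [hi]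
    rw [hzi, hdy, hzx, dotProduct_sub, dotProduct_smul, dotProduct_single, hro, zero_mul, smul_zero, sub_zero,
      show (fun i => r i * (1 - (((d i)⁻¹ : Fˣ) : F))) ⬝ᵥ x = r ⬝ᵥ x - r ⬝ᵥ y from by
        simp only [dotProduct, hyq, ← Finset.sum_sub_distrib]
        exact Finset.sum_congr rfl fun i _ => by ring]
    module
  have hν3 : 1 - ((ν⁻¹ : Fˣ) : F) ≠ 0 := fun e => hν1 (by
    have hnn : (ν : F) * ((ν⁻¹ : Fˣ) : F) = 1 := by simp
    linear_combination (ν : F) * e + hnn)
  obtain ⟨z1, hz1, hz1x⟩ := key r z hro hz hzx _ (dpair_mem hM (Ne.symm hl.2) ν)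
    (dpair_other hko.symm (Ne.symm hl.1) ν)
  set r1 : ι → F := fun i => r i * (1 - (((dpair k l ν i)⁻¹ : Fˣ) : F))
  have hr1k : r1 k ≠ 0 := by
    simp only [r1, dpair_left (Ne.symm hl.2)]
    exact mul_ne_zero hk hν3
  have hr1z : ∀ i, i ≠ k → i ≠ l → r1 i = 0 := fun i h1 h2 => by simp [r1, dpair_other h1 h2]
  obtain ⟨z2, hz2, hz2x⟩ := key r1 z1 (hr1z o hko.symm (Ne.symm hl.1)) hz1 hz1x _
    (dpair_mem hM (Ne.symm hw.2.1) ν) (dpair_other hko.symm (Ne.symm hw.1) ν)
  refine ⟨o, k, hko.symm, r1 k * (1 - ((ν⁻¹ : Fˣ) : F)), mul_ne_zero hr1k hν3, ?_⟩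
  convert hz2 using 1
  refine gl_ext fun x => ?_
  rw [el_act hko.symm, hz2x]
  congr 2
  simp only [dotProduct]
  rw [Finset.sum_eq_single k]
  · rw [dpair_left (Ne.symm hw.2.1)]
  · intro i _ hik
    rcases eq_or_ne i l with rfl | hil
    · simp [dpair_other hik (Ne.symm hw.2.2)]
    · rw [hr1z i hik hil]; simp
  · simp

/-- A non-monomial element stabilising a coordinate line is enough. -/
theorem found_of_line (hq : 5 ≤ Fintype.card F) (h4 : 4 ≤ Fintype.card ι) {y : GL ι F} (hy : y ∈ M)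
    (hmono : ¬ Mono y) {o : ι} {c : F}
    (hc : (y : Matrix ι ι F) *ᵥ Pi.single o (1 : F) = c • Pi.single o (1 : F)) :
    ∃ i j, i ≠ j ∧ ∃ e : F, e ≠ 0 ∧ el i j e ∈ M := by
  classical
  have hc0 : c ≠ 0 := fun h => act_ne_zero y (x := Pi.single o (1 : F))
    (fun e => by simpa using congrFun e o) (by rw [hc, h, zero_smul])
  -- the induced element
  let Y : Matrix ι ι F := fun p q => if p = o then (if q = o then 1 else 0) else (y : Matrix ι ι F) p q
  have hYx : ∀ x p, (Y *ᵥ x) p = if p = o then x o else ((y : Matrix ι ι F) *ᵥ x) p := fun x p => by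
    split_ifs with hp
    · subst hp
      show ∑ q, Y p q * x q = _
      simp [Y, ite_mul]
    · show ∑ q, Y p q * x q = ∑ q, _
      simp [Y, hp]
  have hYinj : Function.Injective Y.mulVec := fun u v huv => by
    have ho : u o = v o := by have := congrFun huv o; rwa [hYx, hYx, if_pos rfl, if_pos rfl] at this
    have h1 : (y : Matrix ι ι F) *ᵥ (u - v) =
        (((y : Matrix ι ι F) *ᵥ (u - v)) o * c⁻¹) • ((y : Matrix ι ι F) *ᵥ Pi.single o (1 : F)) := funext fun p => by
      rcases eq_or_ne p o with rfl | hp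
      · rw [hc]; simp [hc0]
      · rw [Matrix.mulVec_sub, hc]
        have := congrFun huv p
        rw [hYx, hYx, if_neg hp, if_neg hp] at this
        simp [hp, this]
    rw [← Matrix.mulVec_smul] at h1
    have h2 := act_injective y h1
    have h3 := congrFun h2 o
    simp only [Pi.sub_apply, ho, sub_self, Pi.smul_apply, Pi.single_eq_same, smul_eq_mul, mul_one] at h3
    rw [← h3, zero_smul] at h2
    exact sub_eq_zero.1 h2
  let X : GL ι F := (Matrix.mulVec_injective_iff_isUnit.1 hYinj).unit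
  have hXY : (X : Matrix ι ι F) = Y := rfl
  have hXN : X ∈ quot M o := by
    refine ⟨fun p hp => ?_, fun x => by rw [hXY, hYx, if_pos rfl], y, hy, ⟨c, hc⟩,
      fun x p hp => by rw [hXY, hYx, if_neg hp]⟩
    have := congrFun hc p
    rw [mulVec_single] at this
    simp [hXY, Y, hp, this]
  have hpure : ∀ z ∈ M, ∀ r : ι → F,
      (∀ x, (z : Matrix ι ι F) *ᵥ x = x + (r ⬝ᵥ x) • Pi.single o (1 : F)) → r o = 0 := fun z hz r hzx => by
    have := det_one_row o z r hzx
    rw [hM.sl z hz] at this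
    linear_combination -this
  by_cases hX : Mono X
  · obtain ⟨σ, d, hσd⟩ := hX
    have hso : σ o = o ∧ d o = 1 := by
      have h1 := congrArg (fun g : GL ι F => (g : Matrix ι ι F) *ᵥ Pi.single o (1 : F)) hσd
      simp only [hXY, mn_single] at h1
      have h2 := congrFun h1 o
      rw [hYx, if_pos rfl, Pi.single_eq_same, Pi.smul_apply, smul_eq_mul] at h2
      by_cases hso : σ o = o
      · rw [hso, Pi.single_eq_same, mul_one] at h2
        exact ⟨hso, Units.ext h2.symm⟩
      · rw [Pi.single_eq_of_ne (Ne.symm hso), mul_zero] at h2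
        exact absurd h2 one_ne_zero
    obtain ⟨e, he⟩ := exists_mono hM σ d o
    set h := mn σ (Function.update d o e)
    set z := y * h⁻¹ with hzdef
    have hhx : ∀ x p, p ≠ o → ((y : Matrix ι ι F) *ᵥ x) p = ((h : Matrix ι ι F) *ᵥ x) p := fun x p hp => by
      have h1 := congrArg (fun g : GL ι F => ((g : Matrix ι ι F) *ᵥ x) p) hσd
      simp only [hXY, hYx, if_neg hp] at h1
      rw [h1, mn_act, mn_act, Function.update_of_ne (fun e => hp (by rw [← σ.apply_symm_apply p, e, hso.1]))]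
    let r : ι → F := fun q => ((z : Matrix ι ι F) *ᵥ Pi.single q (1 : F)) o - if q = o then 1 else 0
    have hzx : ∀ x, (z : Matrix ι ι F) *ᵥ x = x + (r ⬝ᵥ x) • Pi.single o (1 : F) := fun x => funext fun p => by
      rcases eq_or_ne p o with rfl | hp
      · simp only [Pi.add_apply, Pi.smul_apply, Pi.single_eq_same, smul_eq_mul, mul_one]
        simp only [r, mulVec_single, dotProduct, sub_mul, Finset.sum_sub_distrib]
        simp [Matrix.mulVec, dotProduct, ite_mul]
      · rw [hzdef, mul_act, hhx _ p hp, act_inv_act]; simp [hp]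
    have hzM : z ∈ M := M.mul_mem hy (M.inv_mem he)
    refine isolate hM hq h4 (hpure z hzM r hzx) (fun hr => hmono ?_) hzM hzx
    have hz1 : z = 1 := gl_ext fun x => by rw [hzx, hr, zero_dotProduct, zero_smul, add_zero, one_act]
    rw [hzdef, mul_inv_eq_one] at hz1
    exact ⟨_, _, hz1⟩
  · obtain ⟨i, hi⟩ : ∃ i, ∀ p, ∃ p', p' ≠ p ∧ (X : Matrix ι ι F) p' i ≠ 0 := by
      by_contra! hcon
      exact hX (mono_of_cols X hcon)
    obtain ⟨j, -, hXj⟩ := hi o
    obtain ⟨k, hkj, hXk⟩ := hi j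
    have hio : i ≠ o := by
      rintro rfl
      obtain ⟨p', hp', hne⟩ := hi i
      exact hne (hXN.1 p' hp')
    obtain ⟨j, k, hjk, hjo, hko, κ, hκ, hel⟩ :=
      DecompMaxTorus.of_column (setting hM o) hq h4 hXN hio hkj.symm hXj hXk
    obtain ⟨-, -, m, hm, ⟨c', hc'⟩, hmx⟩ := hel
    set z := m * (el j k κ)⁻¹ with hzdef
    let r : ι → F := fun q => ((z : Matrix ι ι F) *ᵥ Pi.single q (1 : F)) o - if q = o then 1 else 0
    have hzx : ∀ x, (z : Matrix ι ι F) *ᵥ x = x + (r ⬝ᵥ x) • Pi.single o (1 : F) := fun x => funext fun p => by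
      rcases eq_or_ne p o with rfl | hp
      · simp only [Pi.add_apply, Pi.smul_apply, Pi.single_eq_same, smul_eq_mul, mul_one]
        simp only [r, mulVec_single, dotProduct, sub_mul, Finset.sum_sub_distrib]
        simp [Matrix.mulVec, dotProduct, ite_mul]
      · rw [hzdef, mul_act, hmx _ p hp, act_inv_act]; simp [hp]
    have hro : r o = 0 := by
      have := det_one_row o z r hzx
      rw [hzdef, Units.val_mul, Matrix.det_mul, hM.sl m hm, el_inv hjk, el_det, one_mul] at this
      linear_combination -this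
    -- commute with a torus element fixing `el j k κ`
    obtain ⟨μ, hμ1, hμ2, -⟩ := exists_lam hq
    obtain ⟨l, -, hl⟩ : ∃ q ∈ (Finset.univ : Finset ι), q ∉ ({o, j, k} : Finset ι) :=
      Finset.exists_mem_notMem_of_card_lt_card (by
        rw [Finset.card_univ]
        exact lt_of_le_of_lt Finset.card_le_three (by omega))
    simp only [Finset.mem_insert, Finset.mem_singleton, not_or] at hl
    by_cases hr : r = 0
    · refine ⟨j, k, hjk, κ, hκ, ?_⟩
      have hz1 : z = 1 := gl_ext fun x => by rw [hzx, hr, zero_dotProduct, zero_smul, add_zero, one_act]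
      rw [hzdef, mul_inv_eq_one] at hz1
      rwa [← hz1]
    set d : ι → Fˣ := dpair o l μ with hd
    have hdM : dg d ∈ M := dpair_mem hM (Ne.symm hl.1) μ
    have hde : dg d * el j k κ = el j k κ * dg d := by
      refine gl_ext fun x => funext fun p => ?_
      rw [mul_act, mul_act, el_act hjk, el_act hjk, dg_act]
      simp only [Pi.add_apply, Pi.smul_apply, dg_act, smul_eq_mul]
      have hdj : d j = 1 := by simp [hd, dpair, Ne.symm hl.2.1, hjo]
      have hdk : d k = 1 := by simp [hd, dpair, Ne.symm hl.2.2, hko]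
      rcases eq_or_ne p j with rfl | hp
      · rw [hdj, hdk]; simp
      · simp [hp]
    set r' : ι → F := fun q => r q * ((d o : F) * ((d q)⁻¹ : Fˣ) - 1) with hr'
    have hz'x : ∀ x, ((dg d * z * (dg d)⁻¹ * z⁻¹ : GL ι F) : Matrix ι ι F) *ᵥ x =
        x + (r' ⬝ᵥ x) • Pi.single o (1 : F) := by
      intro x
      have hzi : ((z⁻¹ : GL ι F) : Matrix ι ι F) *ᵥ x = x - (r ⬝ᵥ x) • Pi.single o (1 : F) := by
        refine act_injective z ?_; dsimp only
        rw [act_inv_act, hzx, dotProduct_sub, dotProduct_smul, dotProduct_single, hro, zero_mul, smul_zero,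
          sub_zero]
        abel
      rw [mul_act, mul_act, mul_act, hzi]
      set u := (((dg d)⁻¹ : GL ι F) : Matrix ι ι F) *ᵥ (x - (r ⬝ᵥ x) • Pi.single o (1 : F)) with hu
      set v : ι → F := x - (r ⬝ᵥ x) • Pi.single o (1 : F) with hv
      have hui : ∀ q, u q = ((d q)⁻¹ : Fˣ) * v q := fun q => by
        have := congrFun (act_inv_act (dg d) v) q
        rw [dg_act, ← hu] at this
        rw [← this, ← mul_assoc, ← Units.val_mul, inv_mul_cancel, Units.val_one, one_mul]
      rw [hzx, Matrix.mulVec_add, Matrix.mulVec_smul, hu, act_inv_act, ← hu]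
      have h1 : r' ⬝ᵥ x = (d o : F) * (r ⬝ᵥ u) - r ⬝ᵥ x := by
        simp only [dotProduct, Finset.mul_sum, ← Finset.sum_sub_distrib, hr', hui, hv, Pi.sub_apply,
          Pi.smul_apply, smul_eq_mul]
        refine Finset.sum_congr rfl fun q _ => ?_
        rcases eq_or_ne q o with rfl | hq
        · rw [hro]; ring
        · simp [hq]; ring
      rw [h1]
      funext p
      simp only [Pi.add_apply, Pi.smul_apply, dg_act, smul_eq_mul]
      rcases eq_or_ne p o with rfl | hp
      · simp [hv]; ring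
      · simp [hp, hv]
    have hz'M : dg d * z * (dg d)⁻¹ * z⁻¹ ∈ M := by
      have e1 : dg d * z * (dg d)⁻¹ * z⁻¹ = dg d * m * (dg d)⁻¹ * m⁻¹ := by
        have hde' : (el j k κ)⁻¹ * (dg d)⁻¹ = (dg d)⁻¹ * (el j k κ)⁻¹ := by
          rw [← mul_inv_rev, ← mul_inv_rev, hde]
        rw [hzdef, mul_inv_rev, inv_inv]
        simp only [mul_assoc]
        congr 2
        rw [← mul_assoc (el j k κ)⁻¹, hde', mul_assoc, inv_mul_cancel_left]
      rw [e1]
      exact M.mul_mem (M.mul_mem (M.mul_mem hdM hm) (M.inv_mem hdM)) (M.inv_mem hm)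
    refine isolate hM hq h4 (o := o) (r := r') (by simp [hr', hro]) (fun e => ?_) hz'M hz'x
    obtain ⟨q, hq0⟩ := Function.ne_iff.1 hr
    have := congrFun e q
    simp only [hr', Pi.zero_apply] at this
    rcases mul_eq_zero.1 this with h | h
    · exact hq0 h
    rcases eq_or_ne q o with rfl | hqo
    · exact hq0 hro
    have hdo : d o = μ := by simp [hd, dpair, Ne.symm hl.1]
    rw [hdo] at h
    rcases eq_or_ne q l with rfl | hql
    · simp only [hd, dpair, Function.update_self, inv_inv] at h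
      exact hμ2 (by linear_combination h)
    · simp only [hd, dpair, Function.update_of_ne hql, Function.update_of_ne hqo, Pi.one_apply, inv_one, Units.val_one,
        mul_one] at h
      exact hμ1 (by linear_combination h)

end Cfsg.Agent.DecompMaxLift
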