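import Cfsg.Agent.Lib.DecompMaxBlock
import Cfsg.Agent.Lib.DecompMaxLift
import Cfsg.Agent.Lib.PSLSimple

/-!
One elementary transvection between two blocks together with the stabiliser of the blocks generates SL.
-/

set_option autoImplicit false
set_option linter.unusedSectionVars false

namespace Cfsg.Agent.DecompMaxGen

open Cfsg.Agent.TransvectionMax Cfsg.Agent.DecompMaxBasic
open scoped MatrixGroups Matrix

variable {F : Type*} [Field F] [Fintype F]

theorem el_conj {ι : Type} [Fintype ι] [DecidableEq ι] (σ : Equiv.Perm ι) (d : ι → Fˣ) {i j : ι} (h : i ≠ j)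
    (c : F) : mn σ d * el i j c * (mn σ d)⁻¹ = el (σ i) (σ j) ((d i : F) * c * ((d j)⁻¹ : Fˣ)) := by
  rw [mul_inv_eq_iff_eq_mul]
  refine gl_ext fun x => ?_
  rw [mul_act, mul_act, el_act h, el_act (σ.injective.ne h), Matrix.mulVec_add, Matrix.mulVec_smul,
    DecompMaxLift.mn_single, mn_act', smul_smul]
  congr 2
  have : ((d j)⁻¹ : Fˣ) * (d j : F) = 1 := by simp
  linear_combination -(d i : F) * c * x j * this

/-- The special linear group lies in M. -/
theorem sl_le {ι : Type} [Fintype ι] [DecidableEq ι] [Nontrivial ι] {M : Subgroup (GL ι F)}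
    (hM : ∀ i j : ι, i ≠ j → ∀ c : F, el i j c ∈ M) : Cfsg.Geo.specialLinear ι F ≤ M := by
  intro g hg
  have h := PSLSimple.eq_top_of_transvection_mem (M.comap Matrix.SpecialLinearGroup.toGL) fun i j hij c => by
    rw [Subgroup.mem_comap]
    convert hM i j hij c using 1
    refine Units.ext ?_
    show Matrix.transvection i j c = _
    rw [el, tv_single_val hij]
  let g' : Matrix.SpecialLinearGroup ι F := ⟨(g : Matrix ι ι F), mem_sl.1 hg⟩
  have hmem : g' ∈ M.comap Matrix.SpecialLinearGroup.toGL := h ▸ Subgroup.mem_top g'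
  rw [show g = Matrix.SpecialLinearGroup.toGL g' from Units.ext rfl]
  exact hmem

variable {t m : ℕ}

/-- All elementary transvections from one between two blocks. -/
theorem all_el {M : Subgroup (GL (DecompMaxBlock.I t m) F)} (hcard : 3 ≤ t * m)
    (hdiag : ∀ g : GL (DecompMaxBlock.I t m) F,
      (g : Matrix (DecompMaxBlock.I t m) (DecompMaxBlock.I t m) F).det = 1 → DecompMaxBlock.Diag g → g ∈ M)
    (hmn : ∀ (σ : Equiv.Perm (DecompMaxBlock.I t m)) (d : DecompMaxBlock.I t m → Fˣ),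
      (∃ π : Equiv.Perm (Fin t), ∀ p, (σ p).1 = π p.1) →
      (mn σ d : Matrix (DecompMaxBlock.I t m) (DecompMaxBlock.I t m) F).det = 1 → mn σ d ∈ M)
    {x₀ y₀ : DecompMaxBlock.I t m} (hxy : x₀.1 ≠ y₀.1) {c₀ : F} (hc₀ : c₀ ≠ 0) (h : el x₀ y₀ c₀ ∈ M) :
    ∀ i j : DecompMaxBlock.I t m, i ≠ j → ∀ c : F, el i j c ∈ M := by
  classical
  intro x y hne c
  by_cases hb : x.1 = y.1
  · refine hdiag _ (el_det x y c) fun p q hpq => ?_
    by_contra hb'
    apply hpq
    have hpq' : p ≠ q := fun e => hb' (by rw [e])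
    rw [el, tv_single_val hne]
    simp only [Matrix.transvection, Matrix.add_apply, Matrix.one_apply_ne hpq', zero_add, Matrix.single_apply]
    rw [if_neg]
    rintro ⟨rfl, rfl⟩
    exact hb' hb
  rcases eq_or_ne c 0 with rfl | hc
  · have h0 : el x y (0 : F) = 1 := gl_ext fun z => by rw [el_act hne, one_act, zero_mul, zero_smul, add_zero]
    rw [h0]; exact M.one_mem
  -- the permutation of the blocks
  set π1 := Equiv.swap x₀.1 x.1 with hπ1
  set π := Equiv.swap (π1 y₀.1) y.1 * π1 with hπ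
  have hπ1x : π1 x₀.1 = x.1 := Equiv.swap_apply_left _ _
  have hπx : π x₀.1 = x.1 := by
    rw [hπ, Equiv.Perm.mul_apply, hπ1x, Equiv.swap_apply_of_ne_of_ne ?_ hb]
    exact fun e => hxy (π1.injective (hπ1x.trans e))
  have hπy : π y₀.1 = y.1 := by rw [hπ, Equiv.Perm.mul_apply, Equiv.swap_apply_left]
  set ρ : Fin t → Equiv.Perm (Fin m) := fun i =>
    if i = x₀.1 then Equiv.swap x₀.2 x.2 else if i = y₀.1 then Equiv.swap y₀.2 y.2 else 1 with hρ
  set σ : Equiv.Perm (DecompMaxBlock.I t m) := Equiv.prodShear π ρ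
  have hσ : ∀ p, σ p = (π p.1, ρ p.1 p.2) := fun p => rfl
  have hσx : σ x₀ = x := by rw [hσ, hπx]; simp [hρ]
  have hσy : σ y₀ = y := by rw [hσ, hπy]; simp [hρ, Ne.symm hxy]
  obtain ⟨z, -, hz⟩ : ∃ z ∈ (Finset.univ : Finset (DecompMaxBlock.I t m)),
      z ∉ ({x₀, y₀} : Finset (DecompMaxBlock.I t m)) :=
    Finset.exists_mem_notMem_of_card_lt_card (by
      rw [Finset.card_univ, Fintype.card_prod, Fintype.card_fin, Fintype.card_fin]
      exact lt_of_le_of_lt Finset.card_le_two hcard)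
  simp only [Finset.mem_insert, Finset.mem_singleton, not_or] at hz
  have hx0y0 : x₀ ≠ y₀ := fun e => hxy (by rw [e])
  have hs : IsUnit (((Equiv.Perm.sign σ : ℤ) : F)) := by
    rcases Int.units_eq_one_or (Equiv.Perm.sign σ) with h | h <;> simp [h]
  set v : Fˣ := Units.mk0 (c / c₀) (div_ne_zero hc hc₀)
  set d : DecompMaxBlock.I t m → Fˣ := Function.update (Function.update 1 x₀ v) z (hs.unit⁻¹ * v⁻¹) with hd
  have hdM : mn σ d ∈ M := hmn σ d ⟨π, fun p => rfl⟩ (by
    rw [mn_det, Finset.prod_eq_mul x₀ z (Ne.symm hz.1) (fun q _ hq => by simp [hd, hq.1, hq.2]) (by simp) (by simp)]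
    have e1 : d x₀ = v := by simp [hd, Ne.symm hz.1]
    have e2 : d z = hs.unit⁻¹ * v⁻¹ := by simp [hd]
    rw [e1, e2, Units.val_mul]
    have h1 : ((Equiv.Perm.sign σ : ℤ) : F) * ((hs.unit⁻¹ : Fˣ) : F) = 1 := by
      conv_lhs => enter [1]; rw [← hs.unit_spec]
      rw [← Units.val_mul, mul_inv_cancel, Units.val_one]
    have h2 : (v : F) * ((v⁻¹ : Fˣ) : F) = 1 := by rw [← Units.val_mul, mul_inv_cancel, Units.val_one]
    linear_combination (v : F) * ((v⁻¹ : Fˣ) : F) * h1 + h2)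
  have := M.mul_mem (M.mul_mem hdM h) (M.inv_mem hdM)
  rw [el_conj σ d hx0y0, hσx, hσy] at this
  convert this using 2
  have e1 : d x₀ = v := by simp [hd, Ne.symm hz.1]
  have e2 : d y₀ = 1 := by simp [hd, Ne.symm hz.2, Ne.symm hx0y0]
  rw [e1, e2]
  simp [v, hc₀]

end Cfsg.Agent.DecompMaxGen
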