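import Cfsg.Agent.Lib.DecompMaxLift

/-!
A subgroup of SL containing the monomial matrices of determinant one and a non-monomial element contains an
elementary transvection (dimension at least thirteen, at least five elements in the field).
-/

set_option autoImplicit false
set_option linter.unusedSectionVars false

namespace Cfsg.Agent.DecompMaxMonomial

open Cfsg.Agent.TransvectionMax Cfsg.Agent.DecompMaxBasic Cfsg.Agent.DecompMaxLift
open scoped MatrixGroups Matrix

variable {ι : Type} [Fintype ι] [DecidableEq ι] {F : Type*} [Field F] [Fintype F]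
  {M : Subgroup (GL ι F)}

theorem single_ne (q : ι) : (Pi.single q (1 : F) : ι → F) ≠ 0 := fun h => by simpa using congrFun h q

/-- The eigenvectors of a monomial element with the eigenvalues of a two-coordinate torus element. -/
theorem plane_of_mono {y : GL ι F} (hy : Mono y) {f f' : ι → F} (hli : LinearIndependent F ![f, f']) {l : F}
    (hl0 : l ≠ 0) (hl2 : l ^ 2 ≠ 1) (hl3 : l ^ 3 ≠ 1)
    (hf : (y : Matrix ι ι F) *ᵥ f = l • f) (hf' : (y : Matrix ι ι F) *ᵥ f' = l⁻¹ • f')
    (himg : ∀ x, ∃ A B : F, (y : Matrix ι ι F) *ᵥ x = x + A • f + B • f') :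
    (∃ k, ∀ p, p ≠ k → f p = 0) ∨ ∃ k k', ∀ p, p ≠ k → p ≠ k' → f p = 0 ∧ f' p = 0 := by
  classical
  obtain ⟨σ, d, rfl⟩ := hy
  have hl1 : l ≠ 1 := fun h => hl2 (by rw [h]; ring)
  have hind := LinearIndependent.pair_iff.1 hli
  by_cases hσ : σ = 1
  · subst hσ
    obtain ⟨k, hk⟩ : ∃ k, f k ≠ 0 := Function.ne_iff.1 (hli.ne_zero 0)
    have hdk : (d k : F) = l := by
      have h1 := congrFun hf k
      rw [mn_act] at h1
      exact mul_right_cancel₀ hk (by simpa [Equiv.Perm.one_def] using h1)
    obtain ⟨A, B, hAB⟩ := himg (Pi.single k 1)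
    rw [mn_single] at hAB
    have h2 : (l - 1) • (Pi.single k (1 : F) : ι → F) = A • f + B • f' := by
      rw [sub_smul, ← hdk, one_smul]
      simp only [Equiv.Perm.one_apply] at hAB
      rw [hAB]; abel
    have h3 := congrArg (fun v => (mn (1 : Equiv.Perm ι) d : Matrix ι ι F) *ᵥ v) h2
    simp only [Matrix.mulVec_smul, Matrix.mulVec_add, hf, hf', mn_single, Equiv.Perm.one_apply, hdk] at h3
    rw [smul_comm, h2] at h3
    have h4 : (A * (l - l)) • f + (B * (l - l⁻¹)) • f' = 0 := by
      rw [← sub_eq_zero] at h3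
      rw [← h3]
      module
    have hB : B * (l - l⁻¹) = 0 := (hind _ _ h4).2
    rcases mul_eq_zero.1 hB with hB | hB
    · refine Or.inl ⟨k, fun p hp => ?_⟩
      have h5 := congrFun h2 p
      simp [hp, hB] at h5
      rcases h5 with h5 | h5
      · rw [h5, hB, zero_smul, zero_smul, add_zero, smul_eq_zero] at h2
        exact absurd h2 (by rintro (h | h); exacts [hl1 (sub_eq_zero.1 h), single_ne k h])
      · exact h5
    · exfalso
      apply hl2
      field_simp at hB
      linear_combination hB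
  obtain ⟨k, hk⟩ : ∃ k, σ k ≠ k := by
    by_contra! h
    exact hσ (Equiv.ext h)
  set k1 := σ k with hk1
  have hk1' : σ k1 ≠ k1 := fun h => hk (σ.injective h)
  let u : ι → ι → F := fun q => (d q : F) • Pi.single (σ q) (1 : F) - Pi.single q (1 : F)
  have hu : ∀ q, ∃ A B : F, u q = A • f + B • f' := fun q => by
    obtain ⟨A, B, h⟩ := himg (Pi.single q 1)
    rw [mn_single] at h
    exact ⟨A, B, by simp only [u]; rw [h]; abel⟩
  -- two independent differences span both eigenvectors
  have hspan : ∀ {q q'}, LinearIndependent F ![u q, u q'] →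
      ∀ v : ι → F, (∃ A B : F, v = A • f + B • f') → ∃ A B : F, v = A • u q + B • u q' := by
    intro q q' hqq v hv
    have hU : ∀ w : ι → F, (∃ A B : F, w = A • f + B • f') ↔ w ∈ Submodule.span F {f, f'} := fun w => by
      rw [Submodule.mem_span_pair]
      exact ⟨fun ⟨A, B, h⟩ => ⟨A, B, h.symm⟩, fun ⟨A, B, h⟩ => ⟨A, B, h.symm⟩⟩
    have hle : Submodule.span F {u q, u q'} ≤ Submodule.span F {f, f'} := by
      rw [Submodule.span_le]
      rintro w (rfl | rfl)
      · exact (hU _).1 (hu q)
      · exact (hU _).1 (hu q')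
    have hr1 : ∀ {a b : ι → F}, LinearIndependent F ![a, b] →
        Module.finrank F (Submodule.span F {a, b}) = 2 := fun {a b} h => by
      rw [show ({a, b} : Set (ι → F)) = Set.range ![a, b] from by simp [Set.pair_comm]]
      rw [finrank_span_eq_card h, Fintype.card_fin]
    have hmem := (Submodule.eq_of_le_of_finrank_eq hle (by rw [hr1 hqq, hr1 hli])).symm ▸ (hU v).1 hv
    rw [Submodule.mem_span_pair] at hmem
    obtain ⟨A, B, h⟩ := hmem
    exact ⟨A, B, h.symm⟩
  by_cases hcyc : σ k1 = k
  · by_cases hD : (d k : F) * d k1 = 1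
    · exfalso
      have hzero : ∀ {g : ι → F} {s : F}, s ^ 2 ≠ 1 → (mn σ d : Matrix ι ι F) *ᵥ g = s • g → g k = 0 := by
        intro g s hs hg
        have e1 := congrFun hg k1
        have e2 := congrFun hg k
        rw [hk1, mn_act', ← hk1] at e1
        rw [← hcyc, mn_act', hcyc] at e2
        simp only [Pi.smul_apply, smul_eq_mul] at e1 e2
        by_contra h0
        apply hs
        refine mul_right_cancel₀ h0 ?_
        linear_combination -(d k1 : F) * e1 - s * e2 + g k * hD
      have hl2' : l⁻¹ ^ 2 ≠ 1 := by rwa [inv_pow, Ne, inv_eq_one]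
      obtain ⟨A, B, h⟩ := hu k
      have h1 := congrFun h k
      simp [u, ← hk1, hzero hl2 hf, hzero hl2' hf', Ne.symm hk] at h1
    · refine Or.inr ⟨k, k1, fun p hp hp1 => ?_⟩
      have hli2 : LinearIndependent F ![u k, u k1] := by
        rw [LinearIndependent.pair_iff]
        intro a b hab
        have e1 := congrFun hab k
        have e2 := congrFun hab k1
        simp [u, hcyc, ← hk1, hk, Ne.symm hk] at e1 e2
        have ha : a * ((d k : F) * d k1 - 1) = 0 := by
          linear_combination e1 + (d k1 : F) * e2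
        rcases mul_eq_zero.1 ha with ha | ha
        · exact ⟨ha, by simpa [ha] using e2⟩
        · exact absurd (sub_eq_zero.1 ha) hD
      have hz : ∀ v : ι → F, (∃ A B : F, v = A • f + B • f') → v p = 0 := fun v hv => by
        obtain ⟨A, B, rfl⟩ := hspan hli2 v hv
        simp [u, hcyc, ← hk1, hp, hp1]
      exact ⟨hz f ⟨1, 0, by simp⟩, hz f' ⟨0, 1, by simp⟩⟩
  exfalso
  set k2 := σ k1 with hk2
  have hli2 : LinearIndependent F ![u k, u k1] := by
    rw [LinearIndependent.pair_iff]
    intro a b hab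
    have e1 := congrFun hab k
    have e2 := congrFun hab k2
    simp [u, ← hk1, ← hk2, Ne.symm hk, Ne.symm hcyc, hcyc, hk1'] at e1 e2
    refine ⟨?_, ?_⟩
    · simpa using e1
    · simpa using e2
  obtain ⟨A, B, h3⟩ := hspan hli2 _ (hu k2)
  have hσ2 : σ k2 = k := by
    by_contra hne
    have hne1 : σ k2 ≠ k1 := fun h => hcyc (σ.injective (h.trans hk1))
    have hne2 : σ k2 ≠ k2 := fun h => hk1' (σ.injective h)
    have := congrFun h3 (σ k2)
    simp [u, ← hk1, ← hk2, hne, hne1, hne2] at this
  have hD : (d k : F) * d k1 * d k2 = 1 := by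
    have e1 := congrFun h3 k
    have e2 := congrFun h3 k1
    have e3 := congrFun h3 k2
    simp [u, ← hk1, ← hk2, hσ2, Ne.symm hk, hk, Ne.symm hcyc, hcyc, hk1', Ne.symm hk1'] at e1 e2 e3
    linear_combination (d k1 : F) * (d k : F) * e1 + (d k1 : F) * e2 + e3
  have hf3 : f k = 0 ∧ f k1 = 0 ∧ f k2 = 0 := by
    have e1 := congrFun hf k1
    have e2 := congrFun hf k2
    have e3 := congrFun hf k
    rw [hk1, mn_act', ← hk1] at e1
    rw [hk2, mn_act', ← hk2] at e2
    rw [← hσ2, mn_act', hσ2] at e3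
    simp only [Pi.smul_apply, smul_eq_mul] at e1 e2 e3
    have h0 : f k = 0 := by
      by_contra h0
      apply hl3
      refine mul_right_cancel₀ h0 ?_
      linear_combination -(d k1 : F) * d k2 * e1 - l * (d k2 : F) * e2 - l ^ 2 * e3 + f k * hD
    rw [h0, mul_zero] at e1
    have h1 : f k1 = 0 := (mul_eq_zero.1 e1.symm).resolve_left hl0
    rw [h1, mul_zero] at e2
    exact ⟨h0, h1, (mul_eq_zero.1 e2.symm).resolve_left hl0⟩
  obtain ⟨A, B, h⟩ := hspan hli2 f ⟨1, 0, by simp⟩
  refine hli.ne_zero 0 (funext fun p => ?_)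
  show f p = 0
  rcases eq_or_ne p k with rfl | h1
  · exact hf3.1
  rcases eq_or_ne p k1 with rfl | h2
  · exact hf3.2.1
  rcases eq_or_ne p k2 with rfl | h3'
  · exact hf3.2.2
  rw [h]
  simp [u, ← hk1, ← hk2, h1, h2, h3']

/-- The standing assumptions for the first stage: nothing stabilising a line is non-monomial. -/
structure Bad (M : Subgroup (GL ι F)) : Prop extends Over M where
  line : ∀ y ∈ M, ∀ (q : ι) (c : F),
    (y : Matrix ι ι F) *ᵥ Pi.single q (1 : F) = c • Pi.single q (1 : F) → Mono y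

variable (hB : Bad M) (hq : 5 ≤ Fintype.card F)
include hB

theorem col_two {g : GL ι F} (hg : g ∈ M) (hgm : ¬ Mono g) (q : ι) :
    ∀ p, ∃ p', p' ≠ p ∧ (g : Matrix ι ι F) p' q ≠ 0 := by
  intro p
  by_contra! h
  obtain ⟨c, hc⟩ := exists_mono hB.toOver (Equiv.swap p q) 1 p
  set π := mn (Equiv.swap p q) (Function.update (1 : ι → Fˣ) p c) with hπ
  obtain ⟨e, he⟩ : ∃ e : F, (g : Matrix ι ι F) *ᵥ Pi.single q (1 : F) = e • Pi.single p (1 : F) := by
    refine ⟨(g : Matrix ι ι F) p q, ?_⟩
    rw [mulVec_single]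
    funext r
    rcases eq_or_ne r p with rfl | hr
    · simp
    · simp [hr, h r hr]
  have hm := hB.line (π * g) (M.mul_mem hc hg) q (e * (c : F)) (by
    rw [mul_act, he, Matrix.mulVec_smul, hπ, mn_single, Equiv.swap_apply_left, Function.update_self, smul_smul])
  exact hgm (by simpa [mul_assoc] using mono_mul (mono_inv ⟨_, _, rfl⟩ : Mono π⁻¹) hm)

include hq

/-- No column has two zeros. -/
theorem col_zero_le_one (h5 : 5 ≤ Fintype.card ι) {g : GL ι F} (hg : g ∈ M) (hgm : ¬ Mono g) {q a b : ι}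
    (hab : a ≠ b) (ha : (g : Matrix ι ι F) a q = 0) (hb : (g : Matrix ι ι F) b q = 0) : False := by
  classical
  obtain ⟨l, hl1, hl2, hl3⟩ := exists_lam hq
  have step : ∀ g ∈ M, ¬ Mono g → ∀ q a b, a ≠ b → (g : Matrix ι ι F) a q = 0 → (g : Matrix ι ι F) b q = 0 →
      ∃ k k', ∀ p, p ≠ k → p ≠ k' → ((g⁻¹ : GL ι F) : Matrix ι ι F) p a = 0 ∧
        ((g⁻¹ : GL ι F) : Matrix ι ι F) p b = 0 := by
    intro g hg hgm q a b hab ha hb
    have hd := dpair_mem hB.toOver hab l
    set h := dg (dpair a b l)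
    set y := g⁻¹ * h * g with hy
    have hhe : ∀ x, (h : Matrix ι ι F) *ᵥ x =
        x + (((l : F) - 1) * x a) • Pi.single a 1 + ((((l⁻¹ : Fˣ) : F) - 1) * x b) • Pi.single b 1 := fun x => by
      funext p
      rw [dg_act]
      rcases eq_or_ne p a with rfl | hpa
      · simp [dpair_left hab, hab]; ring
      rcases eq_or_ne p b with rfl | hpb
      · simp [dpair_right, hpa]; ring
      simp [dpair_other hpa hpb, hpa, hpb]
    have hfix : (y : Matrix ι ι F) *ᵥ Pi.single q (1 : F) = (1 : F) • Pi.single q (1 : F) := by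
      rw [hy, mul_act, mul_act, hhe, mulVec_single (g : Matrix ι ι F)]
      simp only [ha, hb, mul_zero, zero_smul, add_zero]
      rw [← mulVec_single, inv_act_act, one_smul]
    have hym := hB.line y (M.mul_mem (M.mul_mem (M.inv_mem hg) hd) hg) q 1 hfix
    set f := ((g⁻¹ : GL ι F) : Matrix ι ι F) *ᵥ Pi.single a (1 : F) with hf
    set f' := ((g⁻¹ : GL ι F) : Matrix ι ι F) *ᵥ Pi.single b (1 : F) with hf'
    have hli : LinearIndependent F ![f, f'] := by
      rw [LinearIndependent.pair_iff]
      intro s t hst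
      have h1 := congrArg (fun v => (g : Matrix ι ι F) *ᵥ v) hst
      simp only [Matrix.mulVec_add, Matrix.mulVec_smul, hf, hf', act_inv_act, Matrix.mulVec_zero] at h1
      have e1 := congrFun h1 a
      have e2 := congrFun h1 b
      simp [hab, Ne.symm hab] at e1 e2
      exact ⟨e1, e2⟩
    have hyf : (y : Matrix ι ι F) *ᵥ f = (l : F) • f := by
      rw [hy, hf, mul_act, mul_act, act_inv_act, hhe, ← Matrix.mulVec_smul]
      congr 1
      funext p
      rcases eq_or_ne p a with rfl | hpa
      · simp [hab]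
      · simp [hpa, Ne.symm hab]
    have hyf' : (y : Matrix ι ι F) *ᵥ f' = ((l : F))⁻¹ • f' := by
      rw [hy, hf', mul_act, mul_act, act_inv_act, hhe, ← Matrix.mulVec_smul]
      congr 1
      funext p
      rcases eq_or_ne p b with rfl | hpb
      · simp [Ne.symm hab]
      · simp [hpb, hab]
    have himg : ∀ x, ∃ A B : F, (y : Matrix ι ι F) *ᵥ x = x + A • f + B • f' := fun x =>
      ⟨_, _, by rw [hy, mul_act, mul_act, hhe, Matrix.mulVec_add, Matrix.mulVec_add, inv_act_act,
        Matrix.mulVec_smul, Matrix.mulVec_smul]⟩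
    rcases plane_of_mono hym hli l.ne_zero hl2 hl3 hyf hyf' himg with ⟨k, hk⟩ | ⟨k, k', hk⟩
    · exfalso
      obtain ⟨p', hp', hne⟩ := col_two hB (M.inv_mem hg) (fun h => hgm (inv_inv g ▸ mono_inv h)) a k
      exact hne (by simpa [hf, mulVec_single] using hk p' hp')
    · exact ⟨k, k', fun p h1 h2 => by simpa [hf, hf', mulVec_single] using hk p h1 h2⟩
  -- the inverse has a column with two entries only
  have hgi : ¬ Mono g⁻¹ := fun h => hgm (inv_inv g ▸ mono_inv h)
  obtain ⟨k, k', hk⟩ := step g hg hgm q a b hab ha hb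
  obtain ⟨c, -, hc⟩ : ∃ c ∈ (Finset.univ : Finset ι), c ∉ ({k, k'} : Finset ι) :=
    Finset.exists_mem_notMem_of_card_lt_card (by
      rw [Finset.card_univ]; exact lt_of_le_of_lt Finset.card_le_two (by omega))
  obtain ⟨c1, -, hc1⟩ : ∃ x ∈ (Finset.univ : Finset ι), x ∉ ({k, k', c} : Finset ι) :=
    Finset.exists_mem_notMem_of_card_lt_card (by
      rw [Finset.card_univ]; exact lt_of_le_of_lt Finset.card_le_three (by omega))
  obtain ⟨c2, -, hc2⟩ : ∃ x ∈ (Finset.univ : Finset ι), x ∉ ({k, k', c, c1} : Finset ι) :=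
    Finset.exists_mem_notMem_of_card_lt_card (by
      rw [Finset.card_univ]; exact lt_of_le_of_lt Finset.card_le_four (by omega))
  simp only [Finset.mem_insert, Finset.mem_singleton, not_or] at hc hc1 hc2
  have hcol : ∀ x, x ≠ k → x ≠ k' → ((g⁻¹ : GL ι F) : Matrix ι ι F) x a = 0 := fun x h1 h2 => (hk x h1 h2).1
  obtain ⟨i, i', hi⟩ := step g⁻¹ (M.inv_mem hg) hgi a c c1 (Ne.symm hc1.2.2) (hcol c hc.1 hc.2)
    (hcol c1 hc1.1 hc1.2.1)
  obtain ⟨j, j', hj⟩ := step g⁻¹ (M.inv_mem hg) hgi a c c2 (Ne.symm hc2.2.2.1) (hcol c hc.1 hc.2)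
    (hcol c2 hc2.1 hc2.2.1)
  simp only [inv_inv] at hi hj
  -- both planes are the support of the column c
  have hii : i ≠ i' := by
    intro e
    obtain ⟨p, hp, hne⟩ := col_two hB hg hgm c i
    exact hne (hi p hp (e ▸ hp)).1
  have hci : (g : Matrix ι ι F) i c ≠ 0 := by
    obtain ⟨p, hp, hne⟩ := col_two hB hg hgm c i'
    rcases eq_or_ne p i with rfl | hpi
    · exact hne
    · exact absurd (hi p hpi hp).1 hne
  have hci' : (g : Matrix ι ι F) i' c ≠ 0 := by
    obtain ⟨p, hp, hne⟩ := col_two hB hg hgm c i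
    rcases eq_or_ne p i' with rfl | hpi
    · exact hne
    · exact absurd (hi p hp hpi).1 hne
  have hij : ∀ p, p ≠ i → p ≠ i' → p ≠ j ∧ p ≠ j' := by
    have hi1 : i = j ∨ i = j' := by by_contra! h; exact hci (hj i h.1 h.2).1
    have hi2 : i' = j ∨ i' = j' := by by_contra! h; exact hci' (hj i' h.1 h.2).1
    intro p h1 h2
    rcases hi1 with rfl | rfl <;> rcases hi2 with rfl | rfl
    · exact absurd rfl hii
    · exact ⟨h1, h2⟩
    · exact ⟨h2, h1⟩
    · exact absurd rfl hii
  -- three independent columns inside a plane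
  let W : Submodule F (ι → F) := Submodule.span F {Pi.single i (1 : F), Pi.single i' (1 : F)}
  have hmem : ∀ x, (∀ p, p ≠ i → p ≠ i' → (g : Matrix ι ι F) p x = 0) →
      (g : Matrix ι ι F) *ᵥ Pi.single x (1 : F) ∈ W := fun x hx => by
    refine Submodule.mem_span_pair.2 ⟨(g : Matrix ι ι F) i x, (g : Matrix ι ι F) i' x, ?_⟩
    rw [mulVec_single]
    funext p
    rcases eq_or_ne p i with rfl | h1
    · simp [hii]
    rcases eq_or_ne p i' with rfl | h2
    · simp [h1]
    simp [h1, h2, hx p h1 h2]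
  let v : Fin 3 → ι := ![c, c1, c2]
  have hv : Function.Injective v := by
    intro s t hst
    fin_cases s <;> fin_cases t <;> first
      | rfl
      | exact absurd hst hc1.2.2
      | exact absurd hst.symm hc1.2.2
      | exact absurd hst hc2.2.2.1
      | exact absurd hst.symm hc2.2.2.1
      | exact absurd hst hc2.2.2.2
      | exact absurd hst.symm hc2.2.2.2
  have hli3 : LinearIndependent F fun s => (g : Matrix ι ι F) *ᵥ Pi.single (v s) (1 : F) := by
    have h1 : LinearIndependent F fun p : ι => (Pi.single p (1 : F) : ι → F) := by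
      convert (Pi.basisFun F ι).linearIndependent using 1
      funext p; simp
    have h2 := (h1.comp v hv).map' (Matrix.toLin' (g : Matrix ι ι F))
      (LinearMap.ker_eq_bot.2 fun x x' h => act_injective g (by simpa [Matrix.toLin'_apply] using h))
    rw [show (fun s => (g : Matrix ι ι F) *ᵥ Pi.single (v s) (1 : F)) =
      ⇑(Matrix.toLin' (g : Matrix ι ι F)) ∘ (fun p => Pi.single p (1 : F)) ∘ v from
        funext fun s => by simp [Matrix.toLin'_apply]]
    exact h2
  have hle : Submodule.span F (Set.range fun s => (g : Matrix ι ι F) *ᵥ Pi.single (v s) (1 : F)) ≤ W := by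
    rw [Submodule.span_le]
    rintro _ ⟨s, rfl⟩
    fin_cases s
    · exact hmem c fun p h1 h2 => (hi p h1 h2).1
    · exact hmem c1 fun p h1 h2 => (hi p h1 h2).2
    · exact hmem c2 fun p h1 h2 => (hj p (hij p h1 h2).1 (hij p h1 h2).2).2
  have h3 := Submodule.finrank_mono hle
  rw [finrank_span_eq_card hli3, Fintype.card_fin] at h3
  have h4 : Module.finrank F W ≤ 2 := by
    have := finrank_span_finset_le_card (R := F) ({Pi.single i (1 : F), Pi.single i' (1 : F)} : Finset (ι → F))
    simp only [Finset.coe_insert, Finset.coe_singleton] at this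
    exact le_trans this Finset.card_le_two
  omega

omit hq in
/-- No column is free of zeros. -/
theorem col_full (h5 : 5 ≤ Fintype.card ι) {g : GL ι F} (hg : g ∈ M) (hgm : ¬ Mono g) (o : ι) :
    ∃ p, (g : Matrix ι ι F) p o = 0 := by
  classical
  by_contra! hfull
  let u : ι → Fˣ := fun p => Units.mk0 _ (hfull p)
  let m : Equiv.Perm ι → GL ι F := fun σ => mn σ fun k => u (σ k) / u k
  have hmmul : ∀ σ τ, m (σ * τ) = m σ * m τ := fun σ τ => by
    simp only [m, mn_mul]
    congr 1
    funext k
    simp [Equiv.Perm.mul_apply]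
  have hmM : ∀ σ ∈ alternatingGroup ι, m σ ∈ M := fun σ hσ => by
    refine hB.mono _ _ ?_
    rw [mn_det, Equiv.Perm.mem_alternatingGroup.1 hσ, Units.val_one, Int.cast_one, one_mul, ← Units.coe_prod,
      Finset.prod_div_distrib, Equiv.prod_comp σ u, div_self', Units.val_one]
  let y : Equiv.Perm ι → GL ι F := fun σ => g⁻¹ * m σ * g
  have hfix : ∀ σ, (y σ : Matrix ι ι F) *ᵥ Pi.single o (1 : F) = (1 : F) • Pi.single o (1 : F) := fun σ => by
    simp only [y, mul_act, one_smul]
    rw [← inv_act_act g (Pi.single o (1 : F))]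
    congr 1
    funext p
    simp only [m, mn_act, inv_act_act, mulVec_single]
    rw [Units.val_div_eq_div_val, Equiv.apply_symm_apply]
    simp [u, hfull]
  have hmono : ∀ s : alternatingGroup ι, Mono (y s) := fun s =>
    hB.line _ (M.mul_mem (M.mul_mem (M.inv_mem hg) (hmM _ s.2)) hg) o 1 (hfix _)
  choose ps pd hpd using hmono
  have hymul : ∀ s t : alternatingGroup ι, y (s * t) = y s * y t := fun s t => by
    simp only [y, hmmul, mul_assoc, mul_inv_cancel_left]
  let π : alternatingGroup ι →* Equiv.Perm ι := MonoidHom.mk' ps fun s t => by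
    refine mn_perm_inj (d := pd (s * t)) (e := fun k => pd s (ps t k) * pd t k) ?_
    rw [← mn_mul, ← hpd, ← hpd, ← hpd, ← hymul, Subgroup.coe_mul]
  have hπo : ∀ s, π s ∈ MulAction.stabilizer (Equiv.Perm ι) o := fun s => by
    show ps s o = o
    by_contra hne
    have h1 := hfix s
    rw [hpd s, mn_single] at h1
    have := congrFun h1 (ps s o)
    simp [hne] at this
  have hnon : ¬ Function.Injective π := by
    intro hinj
    have hcard : Nat.card (MulAction.stabilizer (Equiv.Perm ι) o) * Fintype.card ι = (Fintype.card ι).factorial := by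
      have := MulAction.card_orbit_mul_card_stabilizer_eq_card_group (Equiv.Perm ι) o
      rw [Fintype.card_perm] at this
      have horb : MulAction.orbit (Equiv.Perm ι) o = Set.univ :=
        Set.eq_univ_of_forall fun p => ⟨Equiv.swap o p, Equiv.swap_apply_left o p⟩
      rw [Nat.card_eq_fintype_card, ← this, mul_comm]
      congr 1
      simp only [horb, Fintype.card_setUniv]
    have h2 : Nat.card (alternatingGroup ι) ≤ Nat.card (MulAction.stabilizer (Equiv.Perm ι) o) :=
      Nat.card_le_card_of_injective (fun s => (⟨π s, hπo s⟩ : MulAction.stabilizer (Equiv.Perm ι) o))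
        (fun s t h => hinj (congrArg Subtype.val h))
    haveI : Nontrivial ι := Fintype.one_lt_card_iff_nontrivial.1 (by omega)
    have h3 : 2 * Nat.card (alternatingGroup ι) = (Fintype.card ι).factorial := by
      rw [nat_card_alternatingGroup, Nat.mul_div_cancel', Nat.card_eq_fintype_card]
      rw [Nat.card_eq_fintype_card]
      exact Nat.dvd_factorial (by norm_num) (by omega)
    have hpos : 0 < Nat.card (alternatingGroup ι) := Nat.card_pos
    nlinarith
  have hs := alternatingGroup.isSimpleGroup (α := ι) (by rw [Nat.card_eq_fintype_card]; omega)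
  have hker : π.ker = ⊤ := ((π.normal_ker).eq_bot_or_eq_top).resolve_left fun h =>
    hnon ((MonoidHom.ker_eq_bot_iff π).1 h)
  have hcomm : ∀ s t : alternatingGroup ι, s * t = t * s := fun s t => by
    have hs1 : ps s = 1 := (hker ▸ Subgroup.mem_top s : s ∈ π.ker)
    have ht1 : ps t = 1 := (hker ▸ Subgroup.mem_top t : t ∈ π.ker)
    have h1 : y s * y t = y t * y s := by
      rw [hpd, hpd, hs1, ht1, mn_mul, mn_mul]
      congr 1
      funext k
      simp [mul_comm]
    rw [← hymul, ← hymul] at h1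
    simp only [y, mul_left_inj, mul_right_inj, m] at h1
    exact Subtype.ext (mn_perm_inj h1)
  obtain ⟨a, -, b, -, hab⟩ := Finset.one_lt_card.1 (show 1 < (Finset.univ : Finset ι).card by
    rw [Finset.card_univ]; omega)
  obtain ⟨c, -, hc⟩ : ∃ x ∈ (Finset.univ : Finset ι), x ∉ ({a, b} : Finset ι) :=
    Finset.exists_mem_notMem_of_card_lt_card (by
      rw [Finset.card_univ]; exact lt_of_le_of_lt Finset.card_le_two (by omega))
  obtain ⟨d, -, hd⟩ : ∃ x ∈ (Finset.univ : Finset ι), x ∉ ({a, b, c} : Finset ι) :=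
    Finset.exists_mem_notMem_of_card_lt_card (by
      rw [Finset.card_univ]; exact lt_of_le_of_lt Finset.card_le_three (by omega))
  simp only [Finset.mem_insert, Finset.mem_singleton, not_or] at hc hd
  have ha : ∀ {p q r : ι}, p ≠ q → q ≠ r → Equiv.swap p q * Equiv.swap q r ∈ alternatingGroup ι :=
    fun h h' => Equiv.Perm.mem_alternatingGroup.2 (by
      rw [Equiv.Perm.sign_mul, Equiv.Perm.sign_swap h, Equiv.Perm.sign_swap h']; rfl)
  have := congrFun (congrArg (fun s : alternatingGroup ι => ((s : Equiv.Perm ι) : ι → ι))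
    (hcomm ⟨_, ha (p := a) (q := b) (r := c) hab (Ne.symm hc.2)⟩
      ⟨_, ha (p := a) (q := b) (r := d) hab (Ne.symm hd.2.1)⟩)) c
  simp [Equiv.swap_apply_of_ne_of_ne, hab, Ne.symm hab, hc.1, hc.2, Ne.symm hc.1, Ne.symm hc.2, hd.1, hd.2.1,
    hd.2.2, Ne.symm hd.1, Ne.symm hd.2.1, Ne.symm hd.2.2] at this

end Cfsg.Agent.DecompMaxMonomial
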