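import Cfsg.Agent.Lib.DecompMaxMonomial

/-!
An overgroup of the monomial matrices cannot consist of monomial matrices and matrices with exactly one zero in
each column; hence it contains an elementary transvection.
-/

set_option autoImplicit false
set_option linter.unusedSectionVars false

namespace Cfsg.Agent.DecompMaxOneZero

open Cfsg.Agent.TransvectionMax Cfsg.Agent.DecompMaxBasic Cfsg.Agent.DecompMaxLift Cfsg.Agent.DecompMaxMonomial
open scoped MatrixGroups Matrix

variable {ι : Type} [Fintype ι] [DecidableEq ι] {F : Type*} [Field F] [Fintype F]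

/-- A vector without zero entries on S avoiding the kernels of a few forms. -/
theorem exists_avoiding (hq : 5 ≤ Fintype.card F) (S : Finset ι) (L : List (ι → F)) (hL : L.length ≤ 3)
    (hne : ∀ A ∈ L, ∃ k ∈ S, A k ≠ 0) :
    ∃ x : ι → F, (∀ k ∈ S, x k ≠ 0) ∧ ∀ A ∈ L, ∑ k ∈ S, A k * x k ≠ 0 := by
  classical
  induction L with
  | nil => exact ⟨1, fun k _ => one_ne_zero, fun A hA => absurd hA (by simp)⟩
  | cons A L ih =>
    obtain ⟨x, hx, hxL⟩ := ih (by simp at hL; omega) (fun B hB => hne B (List.mem_cons_of_mem A hB))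
    by_cases hA : ∑ k ∈ S, A k * x k ≠ 0
    · exact ⟨x, hx, fun B hB => by rcases List.mem_cons.1 hB with rfl | hB; exacts [hA, hxL B hB]⟩
    rw [not_not] at hA
    obtain ⟨k, hk, hAk⟩ := hne A (List.mem_cons_self)
    -- the values of the k-th entry to avoid
    let bad : Finset F := insert (x k) ((L.map fun B => x k - (∑ i ∈ S, B i * x i) / B k).toFinset)
    obtain ⟨μ, hμ⟩ := exists_avoid hq bad (by
      refine le_trans (Finset.card_insert_le _ _) ?_
      have := List.toFinset_card_le (L.map fun B => x k - (∑ i ∈ S, B i * x i) / B k)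
      simp at this hL
      omega)
    simp only [bad, Finset.mem_insert, List.mem_toFinset, List.mem_map, not_or, not_exists, not_and] at hμ
    have hsum : ∀ B : ι → F, ∑ i ∈ S, B i * Function.update x k (μ : F) i =
        (∑ i ∈ S, B i * x i) + B k * ((μ : F) - x k) := fun B => by
      rw [← Finset.add_sum_erase _ _ hk, ← Finset.add_sum_erase (f := fun i => B i * x i) _ hk,
        Function.update_self, Finset.sum_congr rfl (fun i hi => by
          rw [Function.update_of_ne (Finset.ne_of_mem_erase hi)])]
      ring
    refine ⟨Function.update x k μ, fun i hi => ?_, fun B hB => ?_⟩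
    · rcases eq_or_ne i k with rfl | hik
      · rw [Function.update_self]; exact μ.ne_zero
      · rw [Function.update_of_ne hik]; exact hx i hi
    rw [hsum]
    rcases List.mem_cons.1 hB with rfl | hB
    · rw [hA, zero_add]
      exact mul_ne_zero hAk (sub_ne_zero.2 hμ.1)
    · intro e
      by_cases hBk : B k = 0
      · rw [hBk, zero_mul, add_zero] at e
        exact hxL B hB e
      · apply hμ.2 B hB
        field_simp
        linear_combination -e

/-- A vector with full support on S annihilated by R and U but not by W. -/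
theorem exists_solution (hq : 5 ≤ Fintype.card F) (S : Finset ι) {R U W : ι → F} (h2 : 2 ≤ S.card)
    (hlight : ∀ a b : F, a ≠ 0 ∨ b ≠ 0 → ∀ i, ∃ k ∈ S, k ≠ i ∧ a * R k + b * U k ≠ 0)
    (hW : ∀ a b : F, ∃ k ∈ S, W k + a * R k + b * U k ≠ 0) :
    ∃ x : ι → F, (∀ k ∈ S, x k ≠ 0) ∧ ∑ k ∈ S, R k * x k = 0 ∧ ∑ k ∈ S, U k * x k = 0 ∧
      ∑ k ∈ S, W k * x k ≠ 0 := by
  classical
  obtain ⟨i, hi, j, hj, hij, hΔ⟩ : ∃ i ∈ S, ∃ j ∈ S, i ≠ j ∧ R i * U j - R j * U i ≠ 0 := by
    obtain ⟨i, hi, -⟩ := Finset.card_pos.1 (by omega : 0 < S.card) |>.imp fun a ha => (⟨ha, ha⟩ : a ∈ S ∧ a ∈ S)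
    obtain ⟨k, hk, -, hRk⟩ := hlight 1 0 (Or.inl one_ne_zero) i
    simp only [one_mul, zero_mul, add_zero] at hRk
    obtain ⟨j, hj, hjk, hne⟩ := hlight (-(U k)) (R k) (Or.inr hRk) k
    refine ⟨k, hk, j, hj, hjk.symm, fun e => hne ?_⟩
    linear_combination e
  set Δ := R i * U j - R j * U i with hΔdef
  set T := (S.erase i).erase j with hT
  set A : ι → F := fun k => -(R k * U j - R j * U k) / Δ
  set B : ι → F := fun k => -(R i * U k - R k * U i) / Δ
  set C : ι → F := fun k => W k + W i * A k + W j * B k
  have hnA : ∃ k ∈ T, A k ≠ 0 := by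
    by_contra! h
    obtain ⟨k, hk, hki, hne⟩ := hlight (U j) (-(R j)) (by
      by_contra! hc
      apply hΔ
      rw [hΔdef, hc.1, neg_eq_zero.1 hc.2]; ring) i
    rcases eq_or_ne k j with rfl | hkj
    · exact hne (by ring)
    have := h k (by simp [hT, hk, hki, hkj])
    simp only [A, div_eq_zero_iff, hΔ, or_false] at this
    exact hne (by linear_combination -this)
  have hnB : ∃ k ∈ T, B k ≠ 0 := by
    by_contra! h
    obtain ⟨k, hk, hkj, hne⟩ := hlight (-(U i)) (R i) (by
      by_contra! hc
      apply hΔ
      rw [hΔdef, hc.2, neg_eq_zero.1 hc.1]; ring) j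
    rcases eq_or_ne k i with rfl | hki
    · exact hne (by ring)
    have := h k (by simp [hT, hk, hki, hkj])
    simp only [B, div_eq_zero_iff, hΔ, or_false] at this
    exact hne (by linear_combination -this)
  have hnC : ∃ k ∈ T, C k ≠ 0 := by
    by_contra! h
    obtain ⟨k, hk, hne⟩ := hW (-(W i * U j - W j * U i) / Δ) (-(W j * R i - W i * R j) / Δ)
    apply hne
    rcases eq_or_ne k i with rfl | hki
    · field_simp
      rw [hΔdef]; ring
    rcases eq_or_ne k j with rfl | hkj
    · field_simp
      rw [hΔdef]; ring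
    have := h k (by simp [hT, hk, hki, hkj])
    rw [← this]
    simp only [C, A, B]
    field_simp
    ring
  obtain ⟨x, hx, hxL⟩ := exists_avoiding hq T [A, B, C] (by simp) (by
    intro D hD
    simp at hD
    rcases hD with rfl | rfl | rfl
    exacts [hnA, hnB, hnC])
  set y := Function.update (Function.update x i (∑ k ∈ T, A k * x k)) j (∑ k ∈ T, B k * x k)
  have hyi : y i = ∑ k ∈ T, A k * x k := by simp [y, hij]
  have hyj : y j = ∑ k ∈ T, B k * x k := by simp [y]
  have hsum : ∀ D : ι → F, ∑ k ∈ S, D k * y k = ∑ k ∈ T, (D k + D i * A k + D j * B k) * x k := fun D => by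
    have hyT : ∀ k ∈ T, D k * y k = D k * x k := fun k hk => by
      simp only [hT, Finset.mem_erase] at hk
      simp [y, hk.1, hk.2.1]
    rw [← Finset.add_sum_erase _ _ hi, ← Finset.add_sum_erase _ _ (Finset.mem_erase.2 ⟨hij.symm, hj⟩), hyi, hyj,
      ← hT]
    rw [Finset.sum_congr rfl hyT, Finset.mul_sum, Finset.mul_sum, ← Finset.sum_add_distrib, ← Finset.sum_add_distrib]
    exact Finset.sum_congr rfl fun k _ => by ring
  refine ⟨y, fun k hk => ?_, ?_, ?_, ?_⟩
  · rcases eq_or_ne k j with rfl | hkj
    · rw [hyj]; exact hxL B (by simp)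
    rcases eq_or_ne k i with rfl | hki
    · rw [hyi]; exact hxL A (by simp)
    rw [show y k = x k by simp [y, hkj, hki]]
    exact hx k (by simp [hT, hk, hki, hkj])
  · rw [hsum]
    refine Finset.sum_eq_zero fun k _ => ?_
    simp only [A, B]
    field_simp
    rw [hΔdef]; ring
  · rw [hsum]
    refine Finset.sum_eq_zero fun k _ => ?_
    simp only [A, B]
    field_simp
    rw [hΔdef]; ring
  · rw [hsum]
    exact hxL C (by simp)

variable {M : Subgroup (GL ι F)}

/-- An elementary transvection in a non-monomial overgroup. -/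
theorem exists_el (hM : Over M) (hq : 5 ≤ Fintype.card F) (hn : 13 ≤ Fintype.card ι) {g : GL ι F} (hg : g ∈ M)
    (hgm : ¬ Mono g) : ∃ i j, i ≠ j ∧ ∃ c : F, c ≠ 0 ∧ el i j c ∈ M := by
  classical
  by_contra hno
  have hB : Bad M := ⟨hM, fun y hy q c hc => by
    by_contra hy'
    exact hno (found_of_line hM hq (by omega) hy hy' hc)⟩
  -- every non-monomial element has one zero in each column
  have hzero : ∀ g ∈ M, ¬ Mono g → ∀ q, ∃ z, (g : Matrix ι ι F) z q = 0 ∧
      ∀ p, p ≠ z → (g : Matrix ι ι F) p q ≠ 0 := by
    intro g hg hgm q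
    obtain ⟨z, hz⟩ := col_full hB (by omega) hg hgm q
    exact ⟨z, hz, fun p hp h => col_zero_le_one hB hq (by omega) hg hgm hp h hz⟩
  choose zg hzg hzg' using hzero g hg hgm
  have hgi : ¬ Mono g⁻¹ := fun h => hgm (inv_inv g ▸ mono_inv h)
  choose zi hzi hzi' using hzero g⁻¹ (M.inv_mem hg) hgi
  -- rows with few zeros
  let many : (ι → ι) → ℕ → Finset ι := fun z k => Finset.univ.filter fun p =>
    k ≤ (Finset.univ.filter fun q => z q = p).card
  have hmany : ∀ (z : ι → ι) (k : ℕ), k * (many z k).card ≤ Fintype.card ι := fun z k => by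
    calc k * (many z k).card = ∑ _p ∈ many z k, k := by rw [Finset.sum_const, smul_eq_mul, mul_comm]
      _ ≤ ∑ p ∈ many z k, (Finset.univ.filter fun q => z q = p).card :=
          Finset.sum_le_sum fun p hp => (Finset.mem_filter.1 hp).2
      _ ≤ ∑ p, (Finset.univ.filter fun q => z q = p).card :=
          Finset.sum_le_sum_of_subset (Finset.subset_univ _)
      _ = Fintype.card ι := (Finset.card_eq_sum_card_fiberwise (fun x _ => Finset.mem_univ _)).symm
  -- the light rows of the inverse
  let wI : ι → Finset ι := fun k => Finset.univ.filter fun q => ((g⁻¹ : GL ι F) : Matrix ι ι F) k q ≠ 0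
  let light := Finset.univ.filter fun k => (wI k).card ≤ 3
  have hlight1 : light.card ≤ 1 := by
    have hsub : light ⊆ many zi (Fintype.card ι - 3) := fun k hk => by
      have hk' := (Finset.mem_filter.1 hk).2
      refine Finset.mem_filter.2 ⟨Finset.mem_univ _, ?_⟩
      have h1 : (wI k)ᶜ ⊆ Finset.univ.filter fun q => zi q = k := fun q hq => by
        refine Finset.mem_filter.2 ⟨Finset.mem_univ _, ?_⟩
        have hq' : ((g⁻¹ : GL ι F) : Matrix ι ι F) k q = 0 := by simpa [wI] using hq
        exact by_contra fun hne => hzi' q k (Ne.symm hne) hq'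
      have := Finset.card_le_card h1
      rw [Finset.card_compl] at this
      omega
    have h2 := Finset.card_le_card hsub
    have h3 := hmany zi (Fintype.card ι - 3)
    by_contra! h
    have : (Fintype.card ι - 3) * 2 ≤ (Fintype.card ι - 3) * (many zi (Fintype.card ι - 3)).card :=
      Nat.mul_le_mul_left _ (by omega)
    omega
  let avoid := many zg 2 ∪ light.biUnion wI
  have havoid : avoid.card + 3 ≤ Fintype.card ι := by
    have h1 := Finset.card_union_le (many zg 2) (light.biUnion wI)
    have h2 := hmany zg 2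
    have h3 : (light.biUnion wI).card ≤ light.card * 3 :=
      Finset.card_biUnion_le_card_mul light wI 3 fun k hk => (Finset.mem_filter.1 hk).2
    show (many zg 2 ∪ light.biUnion wI).card + 3 ≤ _
    omega
  obtain ⟨R, hRsub, hR3⟩ := Finset.exists_subset_card_eq (s := avoidᶜ) (n := 3) (by rw [Finset.card_compl]; omega)
  obtain ⟨r, s, w, hrs, hrw, hsw, rfl⟩ := Finset.card_eq_three.1 hR3
  have hgood : ∀ p ∈ ({r, s, w} : Finset ι), p ∉ avoid := fun p hp => Finset.mem_compl.1 (hRsub hp)
  let row : ι → ι → F := fun p q => (g : Matrix ι ι F) p q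
  -- no coordinate functional in the span of the three rows
  have hnoe : ∀ a b c : F, ∀ k : ι, ∀ e : F, e ≠ 0 →
      (∀ q, a * row r q + b * row s q + c * row w q = if q = k then e else 0) → False := by
    intro a b c k e he hrow
    let v : ι → F := fun p => (if p = r then a else 0) + (if p = s then b else 0) + (if p = w then c else 0)
    have hv : v ᵥ* (g : Matrix ι ι F) = fun q => if q = k then e else 0 := by
      funext q
      rw [← hrow q]
      simp [Matrix.vecMul, dotProduct, v, add_mul, Finset.sum_add_distrib, ite_mul, row]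
    have hv2 : v = fun p => e * ((g⁻¹ : GL ι F) : Matrix ι ι F) k p := by
      have h1 := congrArg (fun u => u ᵥ* ((g⁻¹ : GL ι F) : Matrix ι ι F)) hv
      simp only [Matrix.vecMul_vecMul, Units.mul_inv, Matrix.vecMul_one] at h1
      rw [h1]
      funext p
      simp [Matrix.vecMul, dotProduct, ite_mul]
    have hsub : wI k ⊆ {r, s, w} := fun p hp => by
      have hp' := (Finset.mem_filter.1 hp).2
      by_contra hc
      simp only [Finset.mem_insert, Finset.mem_singleton, not_or] at hc
      have h0 : v p = 0 := by simp [v, hc.1, hc.2.1, hc.2.2]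
      rw [hv2] at h0
      exact mul_ne_zero he hp' h0
    have hkl : k ∈ light := Finset.mem_filter.2 ⟨Finset.mem_univ _,
      le_trans (Finset.card_le_card hsub) Finset.card_le_three⟩
    have hne : (wI k).Nonempty := by
      by_contra hc
      rw [Finset.not_nonempty_iff_eq_empty] at hc
      have h0 : ∀ q, ((g⁻¹ : GL ι F) : Matrix ι ι F) k q = 0 := fun q => by
        by_contra hq
        have hm : q ∈ wI k := Finset.mem_filter.2 ⟨Finset.mem_univ q, hq⟩
        rw [hc] at hm
        exact Finset.notMem_empty q hm
      have := congrFun (inv_act_act g (Pi.single k (1 : F))) k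
      simp [Matrix.mulVec, dotProduct, h0] at this
    obtain ⟨p, hp⟩ := hne
    exact hgood p (hsub hp) (Finset.mem_union_right _ (Finset.mem_biUnion.2 ⟨k, hkl, hp⟩))
  -- the support of the light combinations of two rows
  let comb : F → F → Finset ι := fun a b => Finset.univ.filter fun q => a * row r q + b * row s q ≠ 0
  have hrow : ∀ p ∈ ({r, s, w} : Finset ι), Fintype.card ι ≤
      (Finset.univ.filter fun q => row p q ≠ 0).card + 1 := by
    intro p hp
    have h1 : (Finset.univ.filter fun q => zg q = p).card < 2 := by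
      by_contra! h
      exact hgood p hp (Finset.mem_union_left _ (Finset.mem_filter.2 ⟨Finset.mem_univ _, h⟩))
    have h2 : (Finset.univ.filter fun q => row p q ≠ 0)ᶜ ⊆ Finset.univ.filter fun q => zg q = p := fun q hq => by
      refine Finset.mem_filter.2 ⟨Finset.mem_univ _, ?_⟩
      have : row p q = 0 := by simpa using hq
      exact by_contra fun hne => hzg' q p (Ne.symm hne) this
    have := Finset.card_le_card h2
    rw [Finset.card_compl] at this
    omega
  obtain ⟨T, hT2, hT⟩ : ∃ T : Finset ι, T.card ≤ 2 ∧ ∀ a b, (comb a b).card ≤ 2 → comb a b ⊆ T := by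
    by_cases h : ∃ a b, (comb a b).card ≤ 2 ∧ (a ≠ 0 ∨ b ≠ 0)
    · obtain ⟨a0, b0, hc0, hne0⟩ := h
      refine ⟨comb a0 b0, hc0, fun a b hc => ?_⟩
      intro q hq
      by_contra hq0
      have e0 : a0 * row r q + b0 * row s q = 0 := by simpa [comb] using hq0
      have e1 : a * row r q + b * row s q ≠ 0 := by simpa [comb] using hq
      have hd : a * b0 - b * a0 ≠ 0 := by
        intro hd
        rcases hne0 with ha | hb
        · apply e1
          have : a0 * (a * row r q + b * row s q) = 0 := by linear_combination a * e0 - row s q * hd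
          exact (mul_eq_zero.1 this).resolve_left ha
        · apply e1
          have : b0 * (a * row r q + b * row s q) = 0 := by linear_combination b * e0 + row r q * hd
          exact (mul_eq_zero.1 this).resolve_left hb
      -- then the row r is supported by both
      have hsub : (Finset.univ.filter fun q => row r q ≠ 0) ⊆ comb a b ∪ comb a0 b0 := fun p hp => by
        have hp' := (Finset.mem_filter.1 hp).2
        by_contra hc'
        simp only [Finset.mem_union, not_or, comb, Finset.mem_filter, Finset.mem_univ, true_and, not_not] at hc'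
        apply hp'
        have : (a * b0 - b * a0) * row r p = 0 := by linear_combination b0 * hc'.1 - b * hc'.2
        exact (mul_eq_zero.1 this).resolve_left hd
      have := le_trans (Finset.card_le_card hsub) (Finset.card_union_le _ _)
      have := hrow r (by simp)
      omega
    · push Not at h
      refine ⟨∅, by simp, fun a b hc => ?_⟩
      obtain ⟨ha, hb⟩ := h a b hc
      intro q hq
      simp [comb, ha, hb] at hq
  obtain ⟨z, -, hz⟩ : ∃ z ∈ (Finset.univ : Finset ι), z ∉ insert (zi w) T :=
    Finset.exists_mem_notMem_of_card_lt_card (by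
      have := Finset.card_insert_le (zi w) T
      rw [Finset.card_univ]; omega)
  rw [Finset.mem_insert, not_or] at hz
  set S := Finset.univ.erase z with hS
  have hScard : 2 ≤ S.card := by rw [hS, Finset.card_erase_of_mem (Finset.mem_univ z), Finset.card_univ]; omega
  obtain ⟨x, hx, hxr, hxs, hxw⟩ := exists_solution hq S (R := row r) (U := row s) (W := row w) hScard (by
    intro a b hab i
    by_contra! hc
    have hsub : comb a b ⊆ {z, i} := fun q hq => by
      by_contra hq'
      simp only [Finset.mem_insert, Finset.mem_singleton, not_or] at hq'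
      exact (Finset.mem_filter.1 hq).2 (hc q (by simp [hS, hq'.1]) hq'.2)
    have hT' := hT a b (le_trans (Finset.card_le_card hsub) Finset.card_le_two)
    refine hnoe a b 0 i (a * row r i + b * row s i) ?_ fun q => ?_
    · intro h0
      -- the combination vanishes
      have hall : ∀ q, a * row r q + b * row s q = 0 := fun q => by
        by_contra hne
        have hq : q ∈ comb a b := Finset.mem_filter.2 ⟨Finset.mem_univ _, hne⟩
        rcases Finset.mem_insert.1 (hsub hq) with rfl | hq'
        · exact hz.2 (hT' hq)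
        · rw [Finset.mem_singleton] at hq'
          exact hne (hq' ▸ h0)
      let v : ι → F := fun p => (if p = r then a else 0) + (if p = s then b else 0)
      have hv : v ᵥ* (g : Matrix ι ι F) = 0 := funext fun q => by
        rw [Pi.zero_apply, ← hall q]
        simp [Matrix.vecMul, dotProduct, v, add_mul, Finset.sum_add_distrib, ite_mul, row]
      have h1 := congrArg (fun u => u ᵥ* ((g⁻¹ : GL ι F) : Matrix ι ι F)) hv
      simp only [Matrix.vecMul_vecMul, Units.mul_inv, Matrix.vecMul_one, Matrix.zero_vecMul] at h1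
      rcases hab with ha | hb
      · exact ha (by simpa [v, hrs] using congrFun h1 r)
      · exact hb (by simpa [v, Ne.symm hrs] using congrFun h1 s)
    · rw [zero_mul, add_zero]
      rcases eq_or_ne q i with rfl | hqi
      · rw [if_pos rfl]
      · rw [if_neg hqi]
        by_contra hne
        have hq : q ∈ comb a b := Finset.mem_filter.2 ⟨Finset.mem_univ _, hne⟩
        rcases Finset.mem_insert.1 (hsub hq) with rfl | hq'
        · exact hz.2 (hT' hq)
        · exact hqi (Finset.mem_singleton.1 hq')) (by
    intro a b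
    by_contra! hc
    have hall : ∀ q, a * row r q + b * row s q + 1 * row w q =
        if q = z then row w z + a * row r z + b * row s z else 0 := fun q => by
      rcases eq_or_ne q z with rfl | hqz
      · rw [if_pos rfl]; ring
      · rw [if_neg hqz]
        linear_combination hc q (by simp [hS, hqz])
    rcases eq_or_ne (row w z + a * row r z + b * row s z) 0 with h0 | h0
    · let v : ι → F := fun p => (if p = r then a else 0) + (if p = s then b else 0) + (if p = w then 1 else 0)
      have hv : v ᵥ* (g : Matrix ι ι F) = 0 := funext fun q => by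
        have := hall q
        rw [h0, ite_self] at this
        rw [Pi.zero_apply, ← this]
        simp [Matrix.vecMul, dotProduct, v, add_mul, Finset.sum_add_distrib, ite_mul, row]
      have h1 := congrArg (fun u => u ᵥ* ((g⁻¹ : GL ι F) : Matrix ι ι F)) hv
      simp only [Matrix.vecMul_vecMul, Units.mul_inv, Matrix.vecMul_one, Matrix.zero_vecMul] at h1
      simpa [v, Ne.symm hrw, Ne.symm hsw] using congrFun h1 w
    · exact hnoe a b 1 z _ h0 hall)
  -- the corresponding element
  set x0 := Function.update x z 0 with hx0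
  have hgx : ∀ p, ((g : Matrix ι ι F) *ᵥ x0) p = ∑ k ∈ S, row p k * x k := fun p => by
    show ∑ k, row p k * x0 k = _
    rw [hS, ← Finset.add_sum_erase _ _ (Finset.mem_univ z), hx0, Function.update_self, mul_zero, zero_add]
    exact Finset.sum_congr rfl fun k hk => by rw [Function.update_of_ne (Finset.ne_of_mem_erase hk)]
  set v := (g : Matrix ι ι F) *ᵥ Pi.single r (1 : F) with hv
  have hvp : ∀ p, v p = row p r := fun p => congrFun (mulVec_single (g : Matrix ι ι F) r) p
  set z0 := zg r
  set σ := Equiv.swap z0 z with hσ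
  let d : ι → Fˣ := fun k => if h : v k = 0 ∨ x0 (σ k) = 0 then 1 else
    Units.mk0 (x0 (σ k) / v k) (div_ne_zero (fun e => h (Or.inr e)) (fun e => h (Or.inl e)))
  obtain ⟨c, hc⟩ := exists_mono hM σ d z0
  set m := mn σ (Function.update d z0 c) with hm
  have hmv : (m : Matrix ι ι F) *ᵥ v = x0 := funext fun p => by
    rw [hm, mn_act, hσ, Equiv.symm_swap]
    rcases eq_or_ne p z with rfl | hpz
    · rw [Equiv.swap_apply_right, Function.update_self, hvp, show row z0 r = 0 from hzg r, mul_zero, hx0,
        Function.update_self]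
    have hσp : Equiv.swap z0 z p ≠ z0 := fun e => hpz (by rw [← Equiv.swap_apply_self z0 z p, e, Equiv.swap_apply_left])
    rw [Function.update_of_ne hσp]
    have hvne : v (Equiv.swap z0 z p) ≠ 0 := by rw [hvp]; exact hzg' r _ hσp
    have hxne : x0 p ≠ 0 := by rw [hx0, Function.update_of_ne hpz]; exact hx p (by simp [hS, hpz])
    simp only [d, hσ, Equiv.swap_apply_self]
    rw [dif_neg (not_or.2 ⟨hvne, hxne⟩), Units.val_mk0, div_mul_cancel₀ _ hvne]
  set k := g * m * g with hk
  have hkM : k ∈ M := M.mul_mem (M.mul_mem hg hc) hg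
  have hkcol : ∀ p, (k : Matrix ι ι F) p r = ∑ q ∈ S, row p q * x q := fun p => by
    rw [← congrFun (mulVec_single (k : Matrix ι ι F) r) p, hk, mul_act, mul_act, ← hv, hmv, hgx]
  by_cases hkm : Mono k
  · obtain ⟨τ, e, he⟩ := hkm
    have h1 := congrArg (fun u : GL ι F => (u : Matrix ι ι F) *ᵥ Pi.single r (1 : F)) he
    simp only [mn_single] at h1
    rw [hk, mul_act, mul_act, ← hv, hmv] at h1
    have hτ : τ r = w := by
      by_contra hne
      apply hxw
      rw [← hgx, h1]
      simp [Ne.symm hne]
    rw [hτ] at h1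
    have h2 := congrArg (fun u => ((g⁻¹ : GL ι F) : Matrix ι ι F) *ᵥ u) h1
    simp only [inv_act_act, Matrix.mulVec_smul, mulVec_single] at h2
    have h3 := congrFun h2 (zi w)
    simp only [Pi.smul_apply, hzi w, smul_zero] at h3
    rw [hx0, Function.update_of_ne (Ne.symm hz.1)] at h3
    exact hx (zi w) (by simp [hS, Ne.symm hz.1]) h3
  · exact col_zero_le_one hB hq (by omega) hkM hkm hrs (by rw [hkcol]; exact hxr) (by rw [hkcol]; exact hxs)

end Cfsg.Agent.DecompMaxOneZero
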