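import Cfsg.Agent.Lib.DecompMaxOneZero

/-!
The non-monomial overgroup lemma of DecompMaxOneZero for every dimension at least 6: only the first of the three
rows has to avoid the rows with several zeros.
-/

set_option autoImplicit false
set_option linter.unusedSectionVars false

namespace Cfsg.Agent.DecompMaxSix97

open Cfsg.Agent.TransvectionMax Cfsg.Agent.DecompMaxBasic Cfsg.Agent.DecompMaxLift Cfsg.Agent.DecompMaxMonomial
open scoped MatrixGroups Matrix
open Cfsg.Agent.DecompMaxOneZero

variable {ι : Type} [Fintype ι] [DecidableEq ι] {F : Type*} [Field F] [Fintype F]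
variable {M : Subgroup (GL ι F)}

/-- An elementary transvection in a non-monomial overgroup. -/
theorem exists_el (hM : Over M) (hq : 5 ≤ Fintype.card F) (hn : 6 ≤ Fintype.card ι) {g : GL ι F} (hg : g ∈ M)
    (hgm : ¬ Mono g) : ∃ i j, i ≠ j ∧ ∃ c : F, c ≠ 0 ∧ el i j c ∈ M := by
  classical
  by_contra hno
  have hB : Bad M := ⟨hM, fun y hy q c hc => by
    by_contra hy'
    exact hno (found_of_line hM hq (by omega) hy hy' hc)⟩
  -- every non-monomial element has one zero in each column
  have hzero : ∀ g ∈ M, ¬ Mono g → ∀ q, ∃ z, (g : Matrix ι ι F) z q = 0 ∧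
      ∀ p, p ≠ z → (g : Matrix ι ι F) p q ≠ 0 := by
    intro g hg hgm q
    obtain ⟨z, hz⟩ := col_full hB (by omega) hg hgm q
    exact ⟨z, hz, fun p hp h => col_zero_le_one hB hq (by omega) hg hgm hp h hz⟩
  choose zg hzg hzg' using hzero g hg hgm
  have hgi : ¬ Mono g⁻¹ := fun h => hgm (inv_inv g ▸ mono_inv h)
  choose zi hzi hzi' using hzero g⁻¹ (M.inv_mem hg) hgi
  -- rows with few zeros
  let many : (ι → ι) → ℕ → Finset ι := fun z k => Finset.univ.filter fun p =>
    k ≤ (Finset.univ.filter fun q => z q = p).card
  have hmany : ∀ (z : ι → ι) (k : ℕ), k * (many z k).card ≤ Fintype.card ι := fun z k => by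
    calc k * (many z k).card = ∑ _p ∈ many z k, k := by rw [Finset.sum_const, smul_eq_mul, mul_comm]
      _ ≤ ∑ p ∈ many z k, (Finset.univ.filter fun q => z q = p).card :=
          Finset.sum_le_sum fun p hp => (Finset.mem_filter.1 hp).2
      _ ≤ ∑ p, (Finset.univ.filter fun q => z q = p).card :=
          Finset.sum_le_sum_of_subset (Finset.subset_univ _)
      _ = Fintype.card ι := (Finset.card_eq_sum_card_fiberwise (fun x _ => Finset.mem_univ _)).symm
  -- the light rows of the inverse
  let wI : ι → Finset ι := fun k => Finset.univ.filter fun q => ((g⁻¹ : GL ι F) : Matrix ι ι F) k q ≠ 0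
  let light := Finset.univ.filter fun k => (wI k).card ≤ 3
  have hlight1 : light.card ≤ 2 := by
    have hsub : light ⊆ many zi (Fintype.card ι - 3) := fun k hk => by
      have hk' := (Finset.mem_filter.1 hk).2
      refine Finset.mem_filter.2 ⟨Finset.mem_univ _, ?_⟩
      have h1 : (wI k)ᶜ ⊆ Finset.univ.filter fun q => zi q = k := fun q hq => by
        refine Finset.mem_filter.2 ⟨Finset.mem_univ _, ?_⟩
        have hq' : ((g⁻¹ : GL ι F) : Matrix ι ι F) k q = 0 := by simpa [wI] using hq
        exact by_contra fun hne => hzi' q k (Ne.symm hne) hq'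
      have := Finset.card_le_card h1
      rw [Finset.card_compl] at this
      omega
    have h2 := Finset.card_le_card hsub
    have h3 := hmany zi (Fintype.card ι - 3)
    by_contra! h
    have : (Fintype.card ι - 3) * 3 ≤ (Fintype.card ι - 3) * (many zi (Fintype.card ι - 3)).card :=
      Nat.mul_le_mul_left _ (by omega)
    omega
  -- one point in the support of each light row is avoided by all three rows
  have hwne : ∀ k, (wI k).Nonempty := fun k => by
    by_contra hc
    rw [Finset.not_nonempty_iff_eq_empty] at hc
    have h0 : ∀ q, ((g⁻¹ : GL ι F) : Matrix ι ι F) k q = 0 := fun q => by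
      by_contra hq
      have hm : q ∈ wI k := Finset.mem_filter.2 ⟨Finset.mem_univ q, hq⟩
      rw [hc] at hm
      exact Finset.notMem_empty q hm
    have := congrFun (inv_act_act g (Pi.single k (1 : F))) k
    simp [Matrix.mulVec, dotProduct, h0] at this
  choose pt hpt using hwne
  set avoid := light.image pt with havoid
  have hav : avoid.card ≤ 2 := Finset.card_image_le.trans hlight1
  obtain ⟨r, -, hr⟩ : ∃ r ∈ (Finset.univ : Finset ι), r ∉ many zg 2 ∪ avoid :=
    Finset.exists_mem_notMem_of_card_lt_card (by
      have := hmany zg 2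
      have := Finset.card_union_le (many zg 2) avoid
      rw [Finset.card_univ]; omega)
  rw [Finset.mem_union, not_or] at hr
  obtain ⟨R, hRsub, hR2⟩ := Finset.exists_subset_card_eq (s := (insert r avoid)ᶜ) (n := 2) (by
    rw [Finset.card_compl]; have := Finset.card_insert_le r avoid; omega)
  obtain ⟨s, w, hsw, rfl⟩ := Finset.card_eq_two.1 hR2
  have hs := Finset.mem_compl.1 (hRsub (Finset.mem_insert_self s _))
  have hw := Finset.mem_compl.1 (hRsub (Finset.mem_insert_of_mem (Finset.mem_singleton_self w)))
  rw [Finset.mem_insert, not_or] at hs hw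
  have hrs : r ≠ s := Ne.symm hs.1
  have hrw : r ≠ w := Ne.symm hw.1
  have hgood : ∀ p ∈ ({r, s, w} : Finset ι), p ∉ avoid := by
    intro p hp
    simp only [Finset.mem_insert, Finset.mem_singleton] at hp
    rcases hp with rfl | rfl | rfl
    exacts [hr.2, hs.2, hw.2]
  let row : ι → ι → F := fun p q => (g : Matrix ι ι F) p q
  -- no coordinate functional in the span of the three rows
  have hnoe : ∀ a b c : F, ∀ k : ι, ∀ e : F, e ≠ 0 →
      (∀ q, a * row r q + b * row s q + c * row w q = if q = k then e else 0) → False := by
    intro a b c k e he hrow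
    let v : ι → F := fun p => (if p = r then a else 0) + (if p = s then b else 0) + (if p = w then c else 0)
    have hv : v ᵥ* (g : Matrix ι ι F) = fun q => if q = k then e else 0 := by
      funext q
      rw [← hrow q]
      simp [Matrix.vecMul, dotProduct, v, add_mul, Finset.sum_add_distrib, ite_mul, row]
    have hv2 : v = fun p => e * ((g⁻¹ : GL ι F) : Matrix ι ι F) k p := by
      have h1 := congrArg (fun u => u ᵥ* ((g⁻¹ : GL ι F) : Matrix ι ι F)) hv
      simp only [Matrix.vecMul_vecMul, Units.mul_inv, Matrix.vecMul_one] at h1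
      rw [h1]
      funext p
      simp [Matrix.vecMul, dotProduct, ite_mul]
    have hsub : wI k ⊆ {r, s, w} := fun p hp => by
      have hp' := (Finset.mem_filter.1 hp).2
      by_contra hc
      simp only [Finset.mem_insert, Finset.mem_singleton, not_or] at hc
      have h0 : v p = 0 := by simp [v, hc.1, hc.2.1, hc.2.2]
      rw [hv2] at h0
      exact mul_ne_zero he hp' h0
    have hkl : k ∈ light := Finset.mem_filter.2 ⟨Finset.mem_univ _,
      le_trans (Finset.card_le_card hsub) Finset.card_le_three⟩
    exact hgood _ (hsub (hpt k)) (Finset.mem_image_of_mem pt hkl)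
  -- the support of the light combinations of two rows
  let comb : F → F → Finset ι := fun a b => Finset.univ.filter fun q => a * row r q + b * row s q ≠ 0
  have hrow : Fintype.card ι ≤ (Finset.univ.filter fun q => row r q ≠ 0).card + 1 := by
    have h1 : (Finset.univ.filter fun q => zg q = r).card < 2 := by
      by_contra! h
      exact hr.1 (Finset.mem_filter.2 ⟨Finset.mem_univ _, h⟩)
    have h2 : (Finset.univ.filter fun q => row r q ≠ 0)ᶜ ⊆ Finset.univ.filter fun q => zg q = r := fun q hq => by
      refine Finset.mem_filter.2 ⟨Finset.mem_univ _, ?_⟩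
      have : row r q = 0 := by simpa using hq
      exact by_contra fun hne => hzg' q r (Ne.symm hne) this
    have := Finset.card_le_card h2
    rw [Finset.card_compl] at this
    omega
  obtain ⟨T, hT2, hT⟩ : ∃ T : Finset ι, T.card ≤ 2 ∧ ∀ a b, (comb a b).card ≤ 2 → comb a b ⊆ T := by
    by_cases h : ∃ a b, (comb a b).card ≤ 2 ∧ (a ≠ 0 ∨ b ≠ 0)
    · obtain ⟨a0, b0, hc0, hne0⟩ := h
      refine ⟨comb a0 b0, hc0, fun a b hc => ?_⟩
      intro q hq
      by_contra hq0
      have e0 : a0 * row r q + b0 * row s q = 0 := by simpa [comb] using hq0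
      have e1 : a * row r q + b * row s q ≠ 0 := by simpa [comb] using hq
      have hd : a * b0 - b * a0 ≠ 0 := by
        intro hd
        rcases hne0 with ha | hb
        · apply e1
          have : a0 * (a * row r q + b * row s q) = 0 := by linear_combination a * e0 - row s q * hd
          exact (mul_eq_zero.1 this).resolve_left ha
        · apply e1
          have : b0 * (a * row r q + b * row s q) = 0 := by linear_combination b * e0 + row r q * hd
          exact (mul_eq_zero.1 this).resolve_left hb
      -- then the row r is supported by both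
      have hsub : (Finset.univ.filter fun q => row r q ≠ 0) ⊆ comb a b ∪ comb a0 b0 := fun p hp => by
        have hp' := (Finset.mem_filter.1 hp).2
        by_contra hc'
        simp only [Finset.mem_union, not_or, comb, Finset.mem_filter, Finset.mem_univ, true_and, not_not] at hc'
        apply hp'
        have : (a * b0 - b * a0) * row r p = 0 := by linear_combination b0 * hc'.1 - b * hc'.2
        exact (mul_eq_zero.1 this).resolve_left hd
      have := le_trans (Finset.card_le_card hsub) (Finset.card_union_le _ _)
      have := hrow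
      omega
    · push Not at h
      refine ⟨∅, by simp, fun a b hc => ?_⟩
      obtain ⟨ha, hb⟩ := h a b hc
      intro q hq
      simp [comb, ha, hb] at hq
  obtain ⟨z, -, hz⟩ : ∃ z ∈ (Finset.univ : Finset ι), z ∉ insert (zi w) T :=
    Finset.exists_mem_notMem_of_card_lt_card (by
      have := Finset.card_insert_le (zi w) T
      rw [Finset.card_univ]; omega)
  rw [Finset.mem_insert, not_or] at hz
  set S := Finset.univ.erase z with hS
  have hScard : 2 ≤ S.card := by rw [hS, Finset.card_erase_of_mem (Finset.mem_univ z), Finset.card_univ]; omega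
  obtain ⟨x, hx, hxr, hxs, hxw⟩ := exists_solution hq S (R := row r) (U := row s) (W := row w) hScard (by
    intro a b hab i
    by_contra! hc
    have hsub : comb a b ⊆ {z, i} := fun q hq => by
      by_contra hq'
      simp only [Finset.mem_insert, Finset.mem_singleton, not_or] at hq'
      exact (Finset.mem_filter.1 hq).2 (hc q (by simp [hS, hq'.1]) hq'.2)
    have hT' := hT a b (le_trans (Finset.card_le_card hsub) Finset.card_le_two)
    refine hnoe a b 0 i (a * row r i + b * row s i) ?_ fun q => ?_
    · intro h0
      -- the combination vanishes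
      have hall : ∀ q, a * row r q + b * row s q = 0 := fun q => by
        by_contra hne
        have hq : q ∈ comb a b := Finset.mem_filter.2 ⟨Finset.mem_univ _, hne⟩
        rcases Finset.mem_insert.1 (hsub hq) with rfl | hq'
        · exact hz.2 (hT' hq)
        · rw [Finset.mem_singleton] at hq'
          exact hne (hq' ▸ h0)
      let v : ι → F := fun p => (if p = r then a else 0) + (if p = s then b else 0)
      have hv : v ᵥ* (g : Matrix ι ι F) = 0 := funext fun q => by
        rw [Pi.zero_apply, ← hall q]
        simp [Matrix.vecMul, dotProduct, v, add_mul, Finset.sum_add_distrib, ite_mul, row]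
      have h1 := congrArg (fun u => u ᵥ* ((g⁻¹ : GL ι F) : Matrix ι ι F)) hv
      simp only [Matrix.vecMul_vecMul, Units.mul_inv, Matrix.vecMul_one, Matrix.zero_vecMul] at h1
      rcases hab with ha | hb
      · exact ha (by simpa [v, hrs] using congrFun h1 r)
      · exact hb (by simpa [v, Ne.symm hrs] using congrFun h1 s)
    · rw [zero_mul, add_zero]
      rcases eq_or_ne q i with rfl | hqi
      · rw [if_pos rfl]
      · rw [if_neg hqi]
        by_contra hne
        have hq : q ∈ comb a b := Finset.mem_filter.2 ⟨Finset.mem_univ _, hne⟩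
        rcases Finset.mem_insert.1 (hsub hq) with rfl | hq'
        · exact hz.2 (hT' hq)
        · exact hqi (Finset.mem_singleton.1 hq')) (by
    intro a b
    by_contra! hc
    have hall : ∀ q, a * row r q + b * row s q + 1 * row w q =
        if q = z then row w z + a * row r z + b * row s z else 0 := fun q => by
      rcases eq_or_ne q z with rfl | hqz
      · rw [if_pos rfl]; ring
      · rw [if_neg hqz]
        linear_combination hc q (by simp [hS, hqz])
    rcases eq_or_ne (row w z + a * row r z + b * row s z) 0 with h0 | h0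
    · let v : ι → F := fun p => (if p = r then a else 0) + (if p = s then b else 0) + (if p = w then 1 else 0)
      have hv : v ᵥ* (g : Matrix ι ι F) = 0 := funext fun q => by
        have := hall q
        rw [h0, ite_self] at this
        rw [Pi.zero_apply, ← this]
        simp [Matrix.vecMul, dotProduct, v, add_mul, Finset.sum_add_distrib, ite_mul, row]
      have h1 := congrArg (fun u => u ᵥ* ((g⁻¹ : GL ι F) : Matrix ι ι F)) hv
      simp only [Matrix.vecMul_vecMul, Units.mul_inv, Matrix.vecMul_one, Matrix.zero_vecMul] at h1
      simpa [v, Ne.symm hrw, Ne.symm hsw] using congrFun h1 w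
    · exact hnoe a b 1 z _ h0 hall)
  -- the corresponding element
  set x0 := Function.update x z 0 with hx0
  have hgx : ∀ p, ((g : Matrix ι ι F) *ᵥ x0) p = ∑ k ∈ S, row p k * x k := fun p => by
    show ∑ k, row p k * x0 k = _
    rw [hS, ← Finset.add_sum_erase _ _ (Finset.mem_univ z), hx0, Function.update_self, mul_zero, zero_add]
    exact Finset.sum_congr rfl fun k hk => by rw [Function.update_of_ne (Finset.ne_of_mem_erase hk)]
  set v := (g : Matrix ι ι F) *ᵥ Pi.single r (1 : F) with hv
  have hvp : ∀ p, v p = row p r := fun p => congrFun (mulVec_single (g : Matrix ι ι F) r) p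
  set z0 := zg r
  set σ := Equiv.swap z0 z with hσ
  let d : ι → Fˣ := fun k => if h : v k = 0 ∨ x0 (σ k) = 0 then 1 else
    Units.mk0 (x0 (σ k) / v k) (div_ne_zero (fun e => h (Or.inr e)) (fun e => h (Or.inl e)))
  obtain ⟨c, hc⟩ := exists_mono hM σ d z0
  set m := mn σ (Function.update d z0 c) with hm
  have hmv : (m : Matrix ι ι F) *ᵥ v = x0 := funext fun p => by
    rw [hm, mn_act, hσ, Equiv.symm_swap]
    rcases eq_or_ne p z with rfl | hpz
    · rw [Equiv.swap_apply_right, Function.update_self, hvp, show row z0 r = 0 from hzg r, mul_zero, hx0,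
        Function.update_self]
    have hσp : Equiv.swap z0 z p ≠ z0 := fun e => hpz (by rw [← Equiv.swap_apply_self z0 z p, e, Equiv.swap_apply_left])
    rw [Function.update_of_ne hσp]
    have hvne : v (Equiv.swap z0 z p) ≠ 0 := by rw [hvp]; exact hzg' r _ hσp
    have hxne : x0 p ≠ 0 := by rw [hx0, Function.update_of_ne hpz]; exact hx p (by simp [hS, hpz])
    simp only [d, hσ, Equiv.swap_apply_self]
    rw [dif_neg (not_or.2 ⟨hvne, hxne⟩), Units.val_mk0, div_mul_cancel₀ _ hvne]
  set k := g * m * g with hk
  have hkM : k ∈ M := M.mul_mem (M.mul_mem hg hc) hg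
  have hkcol : ∀ p, (k : Matrix ι ι F) p r = ∑ q ∈ S, row p q * x q := fun p => by
    rw [← congrFun (mulVec_single (k : Matrix ι ι F) r) p, hk, mul_act, mul_act, ← hv, hmv, hgx]
  by_cases hkm : Mono k
  · obtain ⟨τ, e, he⟩ := hkm
    have h1 := congrArg (fun u : GL ι F => (u : Matrix ι ι F) *ᵥ Pi.single r (1 : F)) he
    simp only [mn_single] at h1
    rw [hk, mul_act, mul_act, ← hv, hmv] at h1
    have hτ : τ r = w := by
      by_contra hne
      apply hxw
      rw [← hgx, h1]
      simp [Ne.symm hne]
    rw [hτ] at h1
    have h2 := congrArg (fun u => ((g⁻¹ : GL ι F) : Matrix ι ι F) *ᵥ u) h1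
    simp only [inv_act_act, Matrix.mulVec_smul, mulVec_single] at h2
    have h3 := congrFun h2 (zi w)
    simp only [Pi.smul_apply, hzi w, smul_zero] at h3
    rw [hx0, Function.update_of_ne (Ne.symm hz.1)] at h3
    exact hx (zi w) (by simp [hS, Ne.symm hz.1]) h3
  · exact col_zero_le_one hB hq (by omega) hkM hkm hrs (by rw [hkcol]; exact hxr) (by rw [hkcol]; exact hxs)

end Cfsg.Agent.DecompMaxSix97
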