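import Cfsg.Agent.Lib.DecompMaxBasic

/-!
A subgroup of GL fixing a coordinate o that contains all monomial matrices fixing o and is not monomial contains an
elementary transvection away from o (at least five elements in the field).
-/

set_option autoImplicit false
set_option linter.unusedSectionVars false

namespace Cfsg.Agent.DecompMaxTorus

open Cfsg.Agent.TransvectionMax Cfsg.Agent.DecompMaxBasic
open scoped MatrixGroups Matrix

variable {ι : Type} [Fintype ι] [DecidableEq ι] {F : Type*} [Field F] [Fintype F]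
  {N : Subgroup (GL ι F)} {o : ι}

/-- The diagonal matrix with one entry different from one. -/
noncomputable def sd (k : ι) (ν : Fˣ) : GL ι F := dg (Function.update 1 k ν)

theorem sd_act (k : ι) (ν : Fˣ) (x : ι → F) :
    (sd k ν : Matrix ι ι F) *ᵥ x = x + (((ν : F) - 1) * x k) • (Pi.single k (1 : F)) := by
  funext p
  rw [sd, dg_act]
  rcases eq_or_ne p k with rfl | h
  · simp; ring
  · simp [h]

theorem sd_inv (k : ι) (ν : Fˣ) : (sd k ν)⁻¹ = sd k ν⁻¹ := by
  refine inv_eq_of_mul_eq_one_right (gl_ext fun x => funext fun p => ?_)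
  rw [mul_act, one_act, sd, sd, dg_act, dg_act]
  rcases eq_or_ne p k with rfl | h
  · simp
  · simp [h]

/-- `N` contains the elements `x ↦ x + M (α · x) a` for all `M ≠ -1`. -/
def PS (N : Subgroup (GL ι F)) (o : ι) (a α : ι → F) : Prop :=
  a o = 0 ∧ α o = 0 ∧ α ⬝ᵥ a = 1 ∧
    ∀ μ : Fˣ, ∃ S ∈ N, ∀ x, (S : Matrix ι ι F) *ᵥ x = x + (((μ : F) - 1) * (α ⬝ᵥ x)) • a

/-- The conclusion. -/
def Found (N : Subgroup (GL ι F)) (o : ι) : Prop :=
  ∃ j k, j ≠ k ∧ j ≠ o ∧ k ≠ o ∧ ∃ c : F, c ≠ 0 ∧ el j k c ∈ N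

/-- The hypotheses. -/
structure Setting (N : Subgroup (GL ι F)) (o : ι) : Prop where
  mono : ∀ (σ : Equiv.Perm ι) (d : ι → Fˣ), σ o = o → d o = 1 → mn σ d ∈ N
  col : ∀ X ∈ N, ∀ p, p ≠ o → (X : Matrix ι ι F) p o = 0
  row : ∀ X ∈ N, ∀ p, p ≠ o → (X : Matrix ι ι F) o p = 0

variable (hN : Setting N o)
include hN

theorem sd_mem {k : ι} (hk : k ≠ o) (ν : Fˣ) : sd k ν ∈ N :=
  hN.mono 1 _ rfl (Function.update_of_ne hk.symm _ _)

theorem ps_conj {a α : ι → F} (h : PS N o a α) {X : GL ι F} (hX : X ∈ N) {β : ι → F}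
    (hβ : ∀ x, β ⬝ᵥ x = α ⬝ᵥ (((X⁻¹ : GL ι F) : Matrix ι ι F) *ᵥ x)) :
    PS N o ((X : Matrix ι ι F) *ᵥ a) β := by
  obtain ⟨hao, hαo, hαa, hS⟩ := h
  refine ⟨?_, ?_, by rw [hβ, inv_act_act, hαa], fun μ => ?_⟩
  · show ∑ q, (X : Matrix ι ι F) o q * a q = 0
    exact Finset.sum_eq_zero fun q _ => by
      rcases eq_or_ne q o with rfl | hq
      · rw [hao, mul_zero]
      · rw [hN.row X hX q hq, zero_mul]
  · have h1 := hβ (Pi.single o 1)
    rw [dotProduct_single, mul_one] at h1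
    rw [h1, mulVec_single]
    simp only [dotProduct]
    exact Finset.sum_eq_zero fun q _ => by
      rcases eq_or_ne q o with rfl | hq
      · rw [hαo, zero_mul]
      · rw [hN.col _ (N.inv_mem hX) q hq, mul_zero]
  · obtain ⟨S, hSN, hSx⟩ := hS μ
    refine ⟨X * S * X⁻¹, N.mul_mem (N.mul_mem hX hSN) (N.inv_mem hX), fun x => ?_⟩
    rw [mul_act, mul_act, hSx, Matrix.mulVec_add, act_inv_act, Matrix.mulVec_smul, hβ]

theorem ps_single {i : ι} (hi : i ≠ o) : PS N o (Pi.single i 1) (Pi.single i 1) := by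
  refine ⟨Pi.single_eq_of_ne hi.symm _, Pi.single_eq_of_ne hi.symm _, by simp, fun μ =>
    ⟨sd i μ, sd_mem hN hi μ, fun x => ?_⟩⟩
  rw [sd_act, single_dotProduct, one_mul]

/-- A transvection one of whose functional coordinates lies outside the centre. -/
theorem te_single (hq : 5 ≤ Fintype.card F) {b ψ : ι → F} (hbo : b o = 0) (hψo : ψ o = 0) (hψb : ψ ⬝ᵥ b = 0)
    (hb : b ≠ 0) {k : ι} (hψk : ψ k ≠ 0) (hbk : b k = 0) {u : GL ι F} (hu : u ∈ N)
    (hux : ∀ x, (u : Matrix ι ι F) *ᵥ x = x + (ψ ⬝ᵥ x) • b) : Found N o := by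
  have hko : k ≠ o := fun h => hψk (h ▸ hψo)
  obtain ⟨ν, hν⟩ := exists_avoid hq {1} (by simp)
  have hν1 : (ν : F) - 1 ≠ 0 := sub_ne_zero.2 (by simpa using hν)
  have hνi : 1 - ((ν⁻¹ : Fˣ) : F) ≠ 0 := by
    intro h
    apply hν1
    have := congrArg (· * (ν : F)) h
    simp [sub_mul] at this
    linear_combination this
  -- the functional becomes the coordinate k
  set κ := ψ k * (1 - ((ν⁻¹ : Fˣ) : F)) with hκ
  have hu2 : ∀ x, ((u * sd k ν * u⁻¹ * sd k ν⁻¹ : GL ι F) : Matrix ι ι F) *ᵥ x = x + (κ * x k) • b := by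
    intro x
    set y := ((u⁻¹ : GL ι F) : Matrix ι ι F) *ᵥ ((sd k ν⁻¹ : Matrix ι ι F) *ᵥ x) with hy
    have h1 : (u : Matrix ι ι F) *ᵥ y = (sd k ν⁻¹ : Matrix ι ι F) *ᵥ x := act_inv_act u _
    rw [hux, sd_act] at h1
    have hyk : y k = x k + (((ν⁻¹ : Fˣ) : F) - 1) * x k := by
      have := congrFun h1 k
      simpa [hbk] using this
    rw [mul_act, mul_act, mul_act, ← hy, hux, sd_act, dotProduct_add, dotProduct_smul, dotProduct_single,
      hyk, hκ]
    have hy' : y = x + ((((ν⁻¹ : Fˣ) : F) - 1) * x k) • Pi.single k (1 : F) - (ψ ⬝ᵥ y) • b :=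
      eq_sub_of_add_eq h1
    conv_lhs => enter [1, 1]; rw [hy']
    have hnn : (ν : F) * ((ν⁻¹ : Fˣ) : F) = 1 := by simp
    match_scalars
    · ring
    · simp only [smul_eq_mul, Units.val_inv_eq_inv_val] at hnn ⊢; linear_combination x k * hnn
    · simp only [smul_eq_mul, Units.val_inv_eq_inv_val] at hnn ⊢; linear_combination ψ k * x k * hnn
  have hu2N : u * sd k ν * u⁻¹ * sd k ν⁻¹ ∈ N :=
    N.mul_mem (N.mul_mem (N.mul_mem hu (sd_mem hN hko ν)) (N.inv_mem hu)) (sd_mem hN hko _)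
  -- the centre becomes a coordinate vector
  obtain ⟨j, hj⟩ : ∃ j, b j ≠ 0 := Function.ne_iff.1 hb
  have hjk : j ≠ k := fun h => hj (h ▸ hbk)
  have hjo : j ≠ o := fun h => hj (h ▸ hbo)
  refine ⟨j, k, hjk, hjo, hko, ((ν : F) - 1) * b j * κ,
    mul_ne_zero (mul_ne_zero hν1 hj) (mul_ne_zero hψk hνi), ?_⟩
  set u2 := u * sd k ν * u⁻¹ * sd k ν⁻¹
  have : el j k (((ν : F) - 1) * b j * κ) = sd j ν * u2 * sd j ν⁻¹ * u2⁻¹ := by
    rw [eq_mul_inv_iff_mul_eq]
    refine gl_ext fun x => ?_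
    rw [mul_act, el_act hjk, hu2, mul_act, mul_act, hu2, sd_act, sd_act]
    have hnn : (ν : F) * ((ν⁻¹ : Fˣ) : F) = 1 := by simp
    simp only [Pi.add_apply, Pi.smul_apply, smul_eq_mul, hbk, Pi.single_eq_same, Pi.single_eq_of_ne hjk.symm,
      mul_zero, add_zero, mul_one]
    simp only [Units.val_inv_eq_inv_val] at hnn ⊢
    match_scalars <;> first | ring1 | linear_combination x j * hnn | linear_combination -x j * hnn
  rw [this]
  exact N.mul_mem (N.mul_mem (N.mul_mem (sd_mem hN hjo ν) hu2N) (sd_mem hN hjo _)) (N.inv_mem hu2N)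

/-- A family of transvections. -/
theorem te (hq : 5 ≤ Fintype.card F) {b ψ : ι → F} (hbo : b o = 0) (hψo : ψ o = 0) (hψb : ψ ⬝ᵥ b = 0)
    (hb : b ≠ 0) (hψ : ψ ≠ 0)
    (hfam : ∀ κ : F, ∃ u ∈ N, ∀ x, (u : Matrix ι ι F) *ᵥ x = x + (κ * (ψ ⬝ᵥ x)) • b) : Found N o := by
  by_cases hcase : ∃ k, ψ k ≠ 0 ∧ b k = 0
  · obtain ⟨k, h1, h2⟩ := hcase
    obtain ⟨u, hu, hux⟩ := hfam 1
    exact te_single hN hq hbo hψo hψb hb h1 h2 hu fun x => by rw [hux, one_mul]
  push Not at hcase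
  obtain ⟨j, hj⟩ : ∃ j, ψ j ≠ 0 := Function.ne_iff.1 hψ
  have hbj := hcase j hj
  obtain ⟨l, hlj, hl⟩ : ∃ l, l ≠ j ∧ ψ l ≠ 0 := by
    by_contra! h
    rw [dotProduct, Finset.sum_eq_single j (fun l _ hl => by rw [h l hl, zero_mul]) (by simp)] at hψb
    exact mul_ne_zero hj hbj hψb
  have hjo : j ≠ o := fun h => hj (h ▸ hψo)
  obtain ⟨ν, hν⟩ := exists_avoid hq {1} (by simp)
  have hν1 : (ν : F) - 1 ≠ 0 := sub_ne_zero.2 (by simpa using hν)
  set p := ((ν : F) - 1) * (ψ j * b j) with hp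
  have hp0 : p ≠ 0 := mul_ne_zero hν1 (mul_ne_zero hj hbj)
  set ψ' := fun q => ψ q * ((Function.update (1 : ι → Fˣ) j ν⁻¹ q : Fˣ) : F) with hψ'
  set b' := (sd j ν : Matrix ι ι F) *ᵥ b with hb'
  have hψ'x : ∀ x, ψ' ⬝ᵥ x = ψ ⬝ᵥ ((sd j ν⁻¹ : Matrix ι ι F) *ᵥ x) := fun x => by
    simp only [dotProduct, hψ', sd, dg_act]
    exact Finset.sum_congr rfl fun q _ => by ring
  obtain ⟨u, hu, hux⟩ := hfam (-p⁻¹)
  set w := u * (sd j ν * u * sd j ν⁻¹) * u⁻¹ with hw
  have hwN : w ∈ N := N.mul_mem (N.mul_mem hu (N.mul_mem (N.mul_mem (sd_mem hN hjo ν) hu) (sd_mem hN hjo _)))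
    (N.inv_mem hu)
  have hψb' : ψ ⬝ᵥ b' = p := by
    rw [hb', sd_act, dotProduct_add, dotProduct_smul, dotProduct_single, hψb, hp, smul_eq_mul]; ring
  set c := ψ' ⬝ᵥ b with hc
  set φ := (-p⁻¹ * (((ν : F) - 1) * b j)) • (ψ' + (c * p⁻¹) • ψ) with hφ
  have hui : ∀ x, ((u⁻¹ : GL ι F) : Matrix ι ι F) *ᵥ x = x + (p⁻¹ * (ψ ⬝ᵥ x)) • b := fun x => by
    refine act_injective u ?_; dsimp only
    rw [act_inv_act, hux, dotProduct_add, dotProduct_smul, hψb]
    match_scalars <;> simp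
  have hwx : ∀ x, (w : Matrix ι ι F) *ᵥ x = x + (φ ⬝ᵥ x) • (Pi.single j (1 : F)) := by
    intro x
    rw [hw, mul_act, mul_act, mul_act, mul_act]
    set y := ((u⁻¹ : GL ι F) : Matrix ι ι F) *ᵥ x with hy
    have h1 : (sd j ν : Matrix ι ι F) *ᵥ ((u : Matrix ι ι F) *ᵥ ((sd j ν⁻¹ : Matrix ι ι F) *ᵥ y)) =
        y + (-p⁻¹ * (ψ' ⬝ᵥ y)) • b' := by
      rw [hux, Matrix.mulVec_add, Matrix.mulVec_smul, ← hψ'x, ← sd_inv, act_inv_act, hb']
    rw [h1, Matrix.mulVec_add, Matrix.mulVec_smul, hy, act_inv_act, hux, hψb', hui, dotProduct_add,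
      dotProduct_smul, ← hc, hφ, smul_dotProduct, add_dotProduct, smul_dotProduct, hb', sd_act]
    match_scalars
    · ring
    · simp only [smul_eq_mul]; field_simp; ring
    · simp only [smul_eq_mul]; field_simp
  have hφj : φ j = 0 := by
    have hcv : c = ((ν⁻¹ : Fˣ) : F) * (ψ j * b j) - ψ j * b j := by
      rw [hc, hψ'x, sd_act, dotProduct_add, dotProduct_smul, dotProduct_single, hψb, smul_eq_mul]; ring
    simp only [hφ, Pi.smul_apply, Pi.add_apply, smul_eq_mul, hψ', Function.update_self, hcv, hp]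
    have hnn : (ν : F) * ((ν⁻¹ : Fˣ) : F) = 1 := by simp
    field_simp
    linear_combination -hnn
  refine te_single hN hq (b := Pi.single j 1) (ψ := φ) (Pi.single_eq_of_ne hjo.symm _) ?_ ?_
    (fun h => by simpa using congrFun h j) (k := l) ?_ (Pi.single_eq_of_ne hlj _) hwN hwx
  · simp [hφ, hψ', hψo]
  · rw [dotProduct_single, mul_one, hφj]
  · simp only [hφ, Pi.smul_apply, Pi.add_apply, smul_eq_mul, hψ', Function.update_of_ne hlj, Pi.one_apply,
      Units.val_one, mul_one]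
    refine mul_ne_zero (mul_ne_zero (neg_ne_zero.2 (inv_ne_zero hp0)) (mul_ne_zero hν1 hbj)) ?_
    have hcv : c = ((ν⁻¹ : Fˣ) : F) * (ψ j * b j) - ψ j * b j := by
      rw [hc, hψ'x, sd_act, dotProduct_add, dotProduct_smul, dotProduct_single, hψb, smul_eq_mul]; ring
    have h2 : c * p⁻¹ = -((ν⁻¹ : Fˣ) : F) := by
      rw [hcv, hp]
      field_simp
      have hnn : (ν : F) * ((ν⁻¹ : Fˣ) : F) = 1 := by simp
      linear_combination hnn
    rw [h2]
    have h3 : 1 - ((ν⁻¹ : Fˣ) : F) ≠ 0 := by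
      intro h
      apply hν1
      have hnn : (ν : F) * ((ν⁻¹ : Fˣ) : F) = 1 := by simp
      linear_combination (ν : F) * h + hnn
    have : ψ l + -((ν⁻¹ : Fˣ) : F) * ψ l = ψ l * (1 - ((ν⁻¹ : Fˣ) : F)) := by ring
    rw [this]
    exact mul_ne_zero hl h3

/-- A monomial element fixing the centre but not the functional. -/
theorem of_monomial (hq : 5 ≤ Fintype.card F) {a α : ι → F} (h : PS N o a α) {m : GL ι F} (hm : m ∈ N)
    (hma : (m : Matrix ι ι F) *ᵥ a = a) {β : ι → F}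
    (hβ : ∀ x, β ⬝ᵥ x = α ⬝ᵥ (((m⁻¹ : GL ι F) : Matrix ι ι F) *ᵥ x)) (hne : α ≠ β) : Found N o := by
  have hβa := ps_conj hN h hm hβ
  rw [hma] at hβa
  obtain ⟨hao, hαo, hαa, hS⟩ := h
  obtain ⟨-, hβo, hba, hS'⟩ := hβa
  refine te hN hq (b := a) (ψ := α - β) hao (by simp [hαo, hβo])
    (by rw [sub_dotProduct, hαa, hba, sub_self]) (fun h => by simp [h] at hαa) (sub_ne_zero.2 hne) ?_
  have hmu : ∀ μ : Fˣ, ∃ u ∈ N, ∀ x, (u : Matrix ι ι F) *ᵥ x = x + (((μ : F) - 1) * ((α - β) ⬝ᵥ x)) • a := by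
    intro μ
    obtain ⟨S, hS1, hS2⟩ := hS μ
    obtain ⟨T, hT1, hT2⟩ := hS' μ⁻¹
    refine ⟨S * T, N.mul_mem hS1 hT1, fun x => ?_⟩
    rw [mul_act, hS2, hT2, dotProduct_add, dotProduct_smul, hαa, sub_dotProduct]
    have hnn : (μ : F) * ((μ⁻¹ : Fˣ) : F) = 1 := by simp
    match_scalars
    · ring
    · simp only [smul_eq_mul, Units.val_inv_eq_inv_val] at hnn ⊢; linear_combination (β ⬝ᵥ x) * hnn
  intro κ
  by_cases hκ : κ = -1
  · subst hκ
    obtain ⟨ν, hν⟩ := exists_avoid hq {-1} (by simp)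
    have hν' : (ν : F) ≠ -1 := by simpa using hν
    obtain ⟨u1, h11, h12⟩ := hmu (Units.mk0 ((ν : F) + 1) (fun h => hν' (eq_neg_of_add_eq_zero_left h)))
    obtain ⟨u2, h21, h22⟩ := hmu (Units.mk0 (-(ν : F)) (neg_ne_zero.2 ν.ne_zero))
    refine ⟨u1 * u2, N.mul_mem h11 h21, fun x => ?_⟩
    rw [mul_act, h12, h22, dotProduct_add, dotProduct_smul, sub_dotProduct α β a, hαa, hba]
    match_scalars
    · ring
    · simp only [smul_eq_mul, Units.val_mk0]; ring
  · obtain ⟨u, h1, h2⟩ := hmu (Units.mk0 (1 + κ) (fun h => hκ (eq_neg_of_add_eq_zero_right h)))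
    exact ⟨u, h1, fun x => by rw [h2, Units.val_mk0, add_sub_cancel_left]⟩

theorem of_offsupp (hq : 5 ≤ Fintype.card F) {a α : ι → F} (h : PS N o a α) {k : ι} (hak : a k = 0)
    (hαk : α k ≠ 0) : Found N o := by
  have hko : k ≠ o := fun e => hαk (e ▸ h.2.1)
  obtain ⟨ν, hν⟩ := exists_avoid hq {1} (by simp)
  refine of_monomial hN hq h (sd_mem hN hko ν) (by rw [sd_act, hak, mul_zero, zero_smul, add_zero])
    (β := fun q => α q * ((Function.update (1 : ι → Fˣ) k ν⁻¹ q : Fˣ) : F)) (fun x => ?_) fun e => ?_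
  · rw [sd_inv]
    simp only [dotProduct, sd, dg_act]
    exact Finset.sum_congr rfl fun q _ => by ring
  · have h1 := congrFun e k
    simp only [Function.update_self] at h1
    have h2 : ((ν⁻¹ : Fˣ) : F) = 1 := mul_left_cancel₀ hαk (by rw [mul_one]; exact h1.symm)
    apply hν
    simp [inv_eq_one.1 (Units.val_eq_one.1 h2)]

theorem of_nonconst (hq : 5 ≤ Fintype.card F) {a α : ι → F} (h : PS N o a α) {j k : ι} (haj : a j ≠ 0)
    (hak : a k ≠ 0) (hne : α j * a j ≠ α k * a k) : Found N o := by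
  have hjk : j ≠ k := fun e => hne (by rw [e])
  have hjo : j ≠ o := fun e => haj (e ▸ h.1)
  have hko : k ≠ o := fun e => hak (e ▸ h.1)
  set d : ι → Fˣ := Function.update (Function.update 1 j (Units.mk0 (a k / a j) (div_ne_zero hak haj))) k
    (Units.mk0 (a j / a k) (div_ne_zero haj hak)) with hd
  set σ := Equiv.swap j k with hσ
  have hm : mn σ d ∈ N := hN.mono σ d (Equiv.swap_apply_of_ne_of_ne hjo.symm hko.symm)
    (by simp [hd, Function.update_of_ne hjo.symm, Function.update_of_ne hko.symm])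
  have hdj : (d j : F) = a k / a j := by simp [hd, Function.update_of_ne hjk]
  have hdk : (d k : F) = a j / a k := by simp [hd]
  have hinv : ∀ x, (((mn σ d)⁻¹ : GL ι F) : Matrix ι ι F) *ᵥ x = fun q => (d q : F)⁻¹ * x (σ q) := fun x => by
    refine act_injective (mn σ d) ?_; dsimp only
    rw [act_inv_act]
    funext p
    rw [mn_act]
    simp
  refine of_monomial hN hq h hm ?_ (β := fun q => α (σ.symm q) * (d (σ.symm q) : F)⁻¹) (fun x => ?_) fun e => ?_
  · funext p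
    rw [mn_act, hσ, Equiv.symm_swap]
    rcases eq_or_ne p j with rfl | hpj
    · rw [Equiv.swap_apply_left, hdk, div_mul_cancel₀ _ hak]
    rcases eq_or_ne p k with rfl | hpk
    · rw [Equiv.swap_apply_right, hdj, div_mul_cancel₀ _ haj]
    rw [Equiv.swap_apply_of_ne_of_ne hpj hpk]
    simp [hd, Function.update_of_ne hpj, Function.update_of_ne hpk]
  · rw [hinv]
    simp only [dotProduct]
    rw [← Equiv.sum_comp σ]
    exact Finset.sum_congr rfl fun q _ => by rw [Equiv.symm_apply_apply]; ring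
  · have h1 := congrFun e j
    simp only [hσ, Equiv.symm_swap, Equiv.swap_apply_left, hdk] at h1
    apply hne
    rw [h1]
    field_simp

/-- A pseudo-reflection with at least two coordinates in its centre. -/
theorem of_ps_missing (hq : 5 ≤ Fintype.card F) {a α : ι → F} (h : PS N o a α) {j k l : ι} (hjk : j ≠ k)
    (haj : a j ≠ 0) (hak : a k ≠ 0) (hlo : l ≠ o) (hal : a l = 0) (hr : α j * a j ≠ 1) : Found N o := by
  by_cases hoff : ∃ q, a q = 0 ∧ α q ≠ 0
  · obtain ⟨q, h1, h2⟩ := hoff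
    exact of_offsupp hN hq h h1 h2
  by_cases hc : α j * a j = α k * a k
  swap
  · exact of_nonconst hN hq h haj hak hc
  rcases eq_or_ne (α j * a j) 0 with hr0 | hr0
  · obtain ⟨q, -, hq0⟩ := Finset.exists_ne_zero_of_sum_ne_zero (show ∑ q, α q * a q ≠ 0 from by
      rw [show ∑ q, α q * a q = 1 from h.2.2.1]; exact one_ne_zero)
    exact of_nonconst hN hq h haj (k := q) (fun e => hq0 (by rw [e, mul_zero])) (by rw [hr0]; exact Ne.symm hq0)
  push Not at hoff
  have hαl := hoff l hal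
  have hlj : l ≠ j := fun e => haj (e ▸ hal)
  have hlk : l ≠ k := fun e => hak (e ▸ hal)
  set σ := Equiv.swap k l with hσ
  have hko : k ≠ o := fun e => hak (e ▸ h.1)
  have hm : mn σ (1 : ι → Fˣ) ∈ N := hN.mono σ 1 (Equiv.swap_apply_of_ne_of_ne hko.symm hlo.symm) rfl
  set r := α j * a j with hrdef
  -- the conjugate by the permutation
  have hinv : ∀ x, (((mn σ (1 : ι → Fˣ))⁻¹ : GL ι F) : Matrix ι ι F) *ᵥ x = x ∘ σ := fun x => by
    refine act_injective (mn σ (1 : ι → Fˣ)) ?_; dsimp only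
    rw [act_inv_act]
    funext p
    rw [mn_act]
    simp
  have h2 := ps_conj hN h hm (β := α ∘ σ) fun x => by
    rw [hinv]
    simp only [dotProduct, Function.comp]
    rw [← Equiv.sum_comp σ]
    exact Finset.sum_congr rfl fun q _ => by simp [hσ]
  have hd0 : α ⬝ᵥ ((mn σ (1 : ι → Fˣ) : Matrix ι ι F) *ᵥ a) = 1 - r := by
    have e : (mn σ (1 : ι → Fˣ) : Matrix ι ι F) *ᵥ a = a - Pi.single k (a k) + Pi.single l (a k) := by
      funext p
      rw [mn_act, hσ, Equiv.symm_swap]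
      rcases eq_or_ne p k with rfl | hpk
      · simp [hlk, hlk.symm, hal]
      rcases eq_or_ne p l with rfl | hpl
      · simp [hlk, hal]
      simp [Equiv.swap_apply_of_ne_of_ne hpk hpl, hpk, hpl]
    rw [e, dotProduct_add, dotProduct_sub, dotProduct_single, dotProduct_single, h.2.2.1, hαl, hc]
    ring
  have hd0' : (α ∘ σ) ⬝ᵥ a = 1 - r := by
    rw [← hd0]
    simp only [dotProduct, Function.comp, mn_act]
    conv_rhs => rw [← Equiv.sum_comp σ]
    exact Finset.sum_congr rfl fun q _ => by simp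
  -- conjugate it by an element of the first family
  classical
  obtain ⟨μ, hμ⟩ := exists_avoid hq ({1, 1 - (1 - r)⁻¹} : Finset F) (le_trans Finset.card_le_two (by norm_num))
  simp only [Finset.mem_insert, Finset.mem_singleton, not_or] at hμ
  obtain ⟨S, hSN, hSx⟩ := h.2.2.2 μ
  set M := (μ : F) - 1
  set M' := ((μ⁻¹ : Fˣ) : F) - 1
  set β := α ∘ σ + (M' * (1 - r)) • α with hβ
  have hSinv : ∀ x, ((S⁻¹ : GL ι F) : Matrix ι ι F) *ᵥ x = x + (M' * (α ⬝ᵥ x)) • a := fun x => by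
    refine act_injective S ?_; dsimp only
    rw [act_inv_act, hSx, dotProduct_add, dotProduct_smul, h.2.2.1]
    have hnn : (μ : F) * ((μ⁻¹ : Fˣ) : F) = 1 := by simp
    match_scalars
    · ring
    · simp only [smul_eq_mul, M, M', Units.val_inv_eq_inv_val] at hnn ⊢; linear_combination -(α ⬝ᵥ x) * hnn
  have h3 := ps_conj hN h2 hSN (β := β) fun x => by
    rw [hSinv, dotProduct_add, dotProduct_smul, hd0', hβ, add_dotProduct, smul_dotProduct]
    simp only [smul_eq_mul]; ring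
  rw [hSx, hd0] at h3
  set a3 := (mn σ (1 : ι → Fˣ) : Matrix ι ι F) *ᵥ a + (M * (1 - r)) • a with ha3
  have e1 : a3 j = a j * (1 + M * (1 - r)) := by
    rw [ha3, Pi.add_apply, mn_act, hσ, Equiv.symm_swap, Equiv.swap_apply_of_ne_of_ne hjk hlj.symm]
    simp; ring
  have e2 : a3 l = a k := by
    rw [ha3, Pi.add_apply, mn_act, hσ, Equiv.symm_swap, Equiv.swap_apply_right]
    simp [hal]
  have f1 : β j = α j * (1 + M' * (1 - r)) := by
    simp [hβ, hσ, Equiv.swap_apply_of_ne_of_ne hjk hlj.symm]; ring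
  have f2 : β l = α k := by simp [hβ, hσ, hαl]
  have hr1 : 1 - r ≠ 0 := sub_ne_zero.2 (Ne.symm hr)
  have hne1 : 1 + M * (1 - r) ≠ 0 := fun e => hμ.2 (by
    simp only [M] at e
    field_simp
    linear_combination e)
  refine of_nonconst hN hq h3 (j := j) (k := l) (by rw [e1]; exact mul_ne_zero haj hne1)
    (by rwa [e2]) ?_
  rw [e1, e2, f1, f2, ← hc, show α j * (1 + M' * (1 - r)) * (a j * (1 + M * (1 - r))) =
    r * ((1 + M' * (1 - r)) * (1 + M * (1 - r))) from by rw [hrdef]; ring]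
  intro e
  have hMM : M + M' = -(M * M') := by
    simp only [M, M']
    have hnn : (μ : F) * ((μ⁻¹ : Fˣ) : F) = 1 := by simp
    linear_combination hnn
  have h5 : r * (1 - r) * r * (M * M') = 0 := by
    linear_combination -e + r * (1 - r) * hMM
  have hM : M ≠ 0 := sub_ne_zero.2 hμ.1
  have hM' : M' ≠ 0 := fun e0 => hM (by rw [e0] at hMM; simpa using hMM)
  exact mul_ne_zero (mul_ne_zero (mul_ne_zero hr0 hr1) hr0) (mul_ne_zero hM hM') h5

/-- The conjugate of a diagonal pseudo-reflection. -/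
theorem ps_moved (hq : 5 ≤ Fintype.card F) {a α : ι → F} (h : PS N o a α) {j : ι} (hj : j ≠ o) (μ : Fˣ) :
    PS N o (Pi.single j (1 : F) + (((μ : F) - 1) * α j) • a)
      (Pi.single j (1 : F) + ((((μ⁻¹ : Fˣ) : F) - 1) * a j) • α) := by
  obtain ⟨S, hSN, hSx⟩ := h.2.2.2 μ
  have hnn : (μ : F) * ((μ⁻¹ : Fˣ) : F) = 1 := by simp
  have hSinv : ∀ x, ((S⁻¹ : GL ι F) : Matrix ι ι F) *ᵥ x =
      x + ((((μ⁻¹ : Fˣ) : F) - 1) * (α ⬝ᵥ x)) • a := fun x => by
    refine act_injective S ?_; dsimp only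
    rw [act_inv_act, hSx, dotProduct_add, dotProduct_smul, h.2.2.1]
    match_scalars
    · ring
    · simp only [smul_eq_mul, Units.val_inv_eq_inv_val] at hnn ⊢; linear_combination -(α ⬝ᵥ x) * hnn
  have h2 := ps_conj hN (ps_single hN hj) hSN
    (β := Pi.single j (1 : F) + ((((μ⁻¹ : Fˣ) : F) - 1) * a j) • α) fun x => by
    rw [hSinv, add_dotProduct, smul_dotProduct, dotProduct_add, dotProduct_smul, single_dotProduct,
      single_dotProduct]
    simp only [smul_eq_mul]; ring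
  rwa [hSx, dotProduct_single, mul_one] at h2

/-- The constant one. -/
theorem of_ps_one (hq : 5 ≤ Fintype.card F) {a α : ι → F} (h : PS N o a α) {j k : ι} (hjk : j ≠ k)
    (haj : a j ≠ 0) (hak : a k ≠ 0) (hr : α j * a j = 1) : Found N o := by
  by_cases hc : α j * a j = α k * a k
  swap
  · exact of_nonconst hN hq h haj hak hc
  have hjo : j ≠ o := fun e => haj (e ▸ h.1)
  obtain ⟨μ, hμ1, hμ⟩ : ∃ μ : Fˣ, (μ : F) ≠ 1 ∧ (μ : F) ^ 2 - μ + 1 ≠ 0 := by
    classical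
    by_cases hroot : ∃ x : F, x ^ 2 - x + 1 = 0
    · obtain ⟨x, hx⟩ := hroot
      obtain ⟨μ, hμ⟩ := exists_avoid hq ({1, x, 1 - x} : Finset F) Finset.card_le_three
      simp only [Finset.mem_insert, Finset.mem_singleton, not_or] at hμ
      refine ⟨μ, hμ.1, fun e => ?_⟩
      have : ((μ : F) - x) * ((μ : F) - (1 - x)) = 0 := by linear_combination e - hx
      rcases mul_eq_zero.1 this with h | h
      · exact hμ.2.1 (sub_eq_zero.1 h)
      · exact hμ.2.2 (sub_eq_zero.1 h)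
    · push Not at hroot
      obtain ⟨μ, hμ⟩ := exists_avoid hq {1} (by simp)
      exact ⟨μ, by simpa using hμ, hroot _⟩
  set M := (μ : F) - 1 with hM
  set M' := ((μ⁻¹ : Fˣ) : F) - 1 with hM'
  have hM0 : M ≠ 0 := sub_ne_zero.2 hμ1
  have hαj : α j ≠ 0 := fun e => by rw [e, zero_mul] at hr; exact zero_ne_one hr
  refine of_nonconst hN hq (ps_moved hN hq h hjo μ) (j := j) (k := k) ?_ ?_ ?_
  · simp only [Pi.add_apply, Pi.smul_apply, Pi.single_eq_same, smul_eq_mul]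
    rw [mul_assoc, hr]
    simp
  · simp only [Pi.add_apply, Pi.smul_apply, Pi.single_eq_of_ne hjk.symm, smul_eq_mul, zero_add]
    exact mul_ne_zero (mul_ne_zero hM0 hαj) hak
  · intro e
    simp only [Pi.add_apply, Pi.smul_apply, Pi.single_eq_same, Pi.single_eq_of_ne hjk.symm, smul_eq_mul,
      zero_add] at e
    apply hμ
    have hnn : (μ : F) * ((μ⁻¹ : Fˣ) : F) = 1 := by simp
    have h1 : α k * a k = 1 := hc ▸ hr
    have hl : (1 + (((μ⁻¹ : Fˣ) : F) - 1) * a j * α j) * (1 + ((μ : F) - 1) * α j * a j) = 1 := by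
      rw [mul_assoc (((μ⁻¹ : Fˣ) : F) - 1), mul_comm (a j), mul_assoc ((μ : F) - 1), hr]
      linear_combination hnn
    rw [hl] at e
    have e2 : (((μ⁻¹ : Fˣ) : F) - 1) * ((μ : F) - 1) * (α j * a j) * (α k * a k) = 1 := by
      linear_combination -e
    rw [h1, hr] at e2
    linear_combination -(μ : F) * e2 + ((μ : F) - 1) * hnn

/-- A pseudo-reflection with at least two coordinates in its centre is enough. -/
theorem of_ps (hq : 5 ≤ Fintype.card F) (h4 : 4 ≤ Fintype.card ι) {a α : ι → F} (h : PS N o a α) {j k : ι}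
    (hjk : j ≠ k) (haj : a j ≠ 0) (hak : a k ≠ 0) : Found N o := by
  classical
  by_cases hr1 : α j * a j = 1
  · exact of_ps_one hN hq h hjk haj hak hr1
  by_cases hmiss : ∃ l, l ≠ o ∧ a l = 0
  · obtain ⟨l, hlo, hal⟩ := hmiss
    exact of_ps_missing hN hq h hjk haj hak hlo hal hr1
  push Not at hmiss
  by_cases hc : α j * a j = α k * a k
  swap
  · exact of_nonconst hN hq h haj hak hc
  have hjo : j ≠ o := fun e => haj (e ▸ h.1)
  obtain ⟨k2, -, hk2⟩ : ∃ q ∈ (Finset.univ : Finset ι), q ∉ ({o, j, k} : Finset ι) :=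
    Finset.exists_mem_notMem_of_card_lt_card (by
      rw [Finset.card_univ]
      exact lt_of_le_of_lt Finset.card_le_three (by omega))
  simp only [Finset.mem_insert, Finset.mem_singleton, not_or] at hk2
  rcases eq_or_ne (α j * a j) 0 with hr0 | hr0
  · obtain ⟨q, -, hq0⟩ := Finset.exists_ne_zero_of_sum_ne_zero (show ∑ q, α q * a q ≠ 0 from by
      rw [show ∑ q, α q * a q = 1 from h.2.2.1]; exact one_ne_zero)
    exact of_nonconst hN hq h haj (k := q) (fun e => hq0 (by rw [e, mul_zero])) (by rw [hr0]; exact Ne.symm hq0)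
  set r := α j * a j with hr
  have hμ0 : 1 - r⁻¹ ≠ 0 := fun e => hr1 (inv_eq_one.1 (sub_eq_zero.1 e).symm)
  set μ := Units.mk0 (1 - r⁻¹) hμ0
  have hps := ps_moved hN hq h hjo μ
  set a' := Pi.single j (1 : F) + (((μ : F) - 1) * α j) • a with ha'
  set β := Pi.single j (1 : F) + ((((μ⁻¹ : Fˣ) : F) - 1) * a j) • α with hβ
  have hM : (μ : F) - 1 = -r⁻¹ := by simp [μ]
  have e1 : a' j = 0 := by
    simp only [ha', Pi.add_apply, Pi.smul_apply, Pi.single_eq_same, smul_eq_mul, hM]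
    rw [mul_assoc, ← hr, neg_mul, inv_mul_cancel₀ hr0, add_neg_cancel]
  by_cases e2 : β j = 0
  swap
  · exact of_offsupp hN hq hps e1 e2
  have hαj : α j ≠ 0 := left_ne_zero_of_mul hr0
  have hane : ∀ q, q ≠ j → q ≠ o → a' q ≠ 0 := fun q hqj hqo => by
    simp only [ha', Pi.add_apply, Pi.smul_apply, Pi.single_eq_of_ne hqj, smul_eq_mul, hM, zero_add]
    exact mul_ne_zero (mul_ne_zero (neg_ne_zero.2 (inv_ne_zero hr0)) hαj) (hmiss q hqo)
  have hko : k ≠ o := fun e => hak (e ▸ h.1)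
  by_cases hr' : β k * a' k = 1
  · exact of_ps_one hN hq hps (Ne.symm hk2.2.2) (hane k hjk.symm hko) (hane k2 hk2.2.1 hk2.1) hr'
  · exact of_ps_missing hN hq hps (Ne.symm hk2.2.2) (hane k hjk.symm hko) (hane k2 hk2.2.1 hk2.1) hjo e1 hr'

/-- A non-monomial member is enough. -/
theorem of_column (hq : 5 ≤ Fintype.card F) (h4 : 4 ≤ Fintype.card ι) {X : GL ι F} (hX : X ∈ N) {i j k : ι}
    (hio : i ≠ o) (hjk : j ≠ k) (hXj : (X : Matrix ι ι F) j i ≠ 0) (hXk : (X : Matrix ι ι F) k i ≠ 0) :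
    Found N o := by
  refine of_ps hN hq h4 (ps_conj hN (ps_single hN hio) hX
    (β := fun q => ((X⁻¹ : GL ι F) : Matrix ι ι F) i q) fun x => ?_) hjk (by rwa [mulVec_single])
    (by rwa [mulVec_single])
  rw [single_dotProduct, one_mul]
  rfl

end Cfsg.Agent.DecompMaxTorus
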