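import Mathlib
import Cfsg.Agent.Lib.SemisimpleConjGL

/-!
Invariant subspaces of elements of prime order modulo scalars over a finite field: possible
dimensions, existence of extreme elements, counts of subspaces.
-/

set_option autoImplicit false

namespace Cfsg.Agent.PrimeOrderModule84

open Polynomial Module

universe u v

variable {F : Type u} [Field F] {V : Type v} [AddCommGroup V] [Module F V]

/-! ### Growing invariant subspaces -/

theorem map_le_iff' {g : Module.End F V} {W : Submodule F V} :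
    W.map g ≤ W ↔ ∀ v ∈ W, g v ∈ W :=
  ⟨fun h v hv => h ⟨v, hv, rfl⟩, fun h => by rintro _ ⟨v, hv, rfl⟩; exact h v hv⟩

theorem aeval_mem {g : Module.End F V} {T : Submodule F V} (hT : T.map g ≤ T) (P : F[X]) {v : V}
    (hv : v ∈ T) : aeval g P v ∈ T := by
  induction P using Polynomial.induction_on' with
  | add a b ha hb => rw [map_add]; exact T.add_mem ha hb
  | monomial k c =>
    have hk : ∀ j, (g ^ j) v ∈ T := by
      intro j
      induction j with
      | zero => simpa using hv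
      | succ j ih => rw [pow_succ', Module.End.mul_apply]; exact map_le_iff'.1 hT _ ih
    rw [aeval_monomial, Module.End.mul_apply, Module.algebraMap_end_apply]
    exact T.smul_mem c (hk k)

theorem exists_prime_step {g : Module.End F V} {T S : Submodule F V} (hT : T.map g ≤ T)
    {P : F[X]} (hP : aeval g P = 0) (hP0 : P ≠ 0) {v : V} (hvT : v ∈ T) (hvS : v ∉ S) :
    ∃ h w, Irreducible h ∧ h ∣ P ∧ w ∈ T ∧ w ∉ S ∧ aeval g h w ∈ S := by
  have key : ∀ D : F[X], D ≠ 0 → D ∣ P → aeval g D v ∈ S →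
      ∃ h w, Irreducible h ∧ h ∣ P ∧ w ∈ T ∧ w ∉ S ∧ aeval g h w ∈ S := by
    intro D
    induction D using UniqueFactorizationMonoid.induction_on_prime with
    | h₁ => exact fun h => absurd rfl h
    | h₂ x hx =>
      intro _ _ hmem
      exfalso
      obtain ⟨a, ha, rfl⟩ := Polynomial.isUnit_iff.1 hx
      rw [aeval_C, Module.algebraMap_end_apply] at hmem
      exact hvS ((Submodule.smul_mem_iff S ha.ne_zero).1 hmem)
    | h₃ a h ha hh ih =>
      intro _ hdvd hmem
      by_cases hw : aeval g a v ∈ S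
      · exact ih ha (dvd_trans (dvd_mul_left a h) hdvd) hw
      · refine ⟨h, aeval g a v, hh.irreducible, dvd_trans (dvd_mul_right h a) hdvd,
          aeval_mem hT a hvT, hw, ?_⟩
        rwa [map_mul, Module.End.mul_apply] at hmem
  exact key P hP0 dvd_rfl (by rw [hP]; exact S.zero_mem)

variable [FiniteDimensional F V]

/-- One step of the chain of invariant subspaces. -/
theorem exists_step (g : Module.End F V) {P : F[X]} (hP : aeval g P = 0) (hP0 : P ≠ 0) {c : ℕ}
    (hdeg : ∀ h : F[X], Irreducible h → h ∣ P → h.natDegree ≤ c) (T : Submodule F V)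
    (hT : T.map g ≤ T) (hdiv : ∀ W ≤ T, W.map g ≤ W → c ∣ finrank F ↥W) (S : Submodule F V)
    (hST : S ≤ T) (hS : S.map g ≤ S) (hne : S ≠ T) :
    ∃ S', S ≤ S' ∧ S' ≤ T ∧ S'.map g ≤ S' ∧ finrank F ↥S' = finrank F ↥S + c := by
  obtain ⟨v, hvT, hvS⟩ := SetLike.exists_of_lt (lt_of_le_of_ne hST hne)
  obtain ⟨h, w, hh, hhP, hwT, hwS, hhw⟩ := exists_prime_step hT hP hP0 hvT hvS
  have hd := hh.natDegree_pos
  set d := h.natDegree with hdd
  set f : Fin d → V := fun i => (g ^ (i : ℕ)) w with hf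
  set S' := S ⊔ Submodule.span F (Set.range f) with hS'
  have hwS' : w ∈ S' := Submodule.mem_sup_right (Submodule.subset_span ⟨⟨0, hd⟩, by simp [hf]⟩)
  have hpowmem : ∀ i ≤ d, (g ^ i) w ∈ S' := by
    intro i hi
    rcases Nat.lt_or_eq_of_le hi with hi | rfl
    · exact Submodule.mem_sup_right (Submodule.subset_span ⟨⟨i, hi⟩, rfl⟩)
    · have hsum : aeval g h w = ∑ i ∈ Finset.range (d + 1), h.coeff i • (g ^ i) w := by
        rw [aeval_eq_sum_range, LinearMap.sum_apply]
        exact Finset.sum_congr rfl fun i _ => by rw [LinearMap.smul_apply]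
      rw [Finset.sum_range_succ] at hsum
      have h1 : h.coeff d • (g ^ d) w ∈ S' := by
        have h2 : h.coeff d • (g ^ d) w = aeval g h w - ∑ i ∈ Finset.range d, h.coeff i • (g ^ i) w :=
          by rw [hsum]; abel
        rw [h2]
        refine S'.sub_mem (Submodule.mem_sup_left hhw) (S'.sum_mem fun i hi => S'.smul_mem _ ?_)
        exact Submodule.mem_sup_right (Submodule.subset_span ⟨⟨i, Finset.mem_range.1 hi⟩, rfl⟩)
      exact (Submodule.smul_mem_iff S' (show h.coeff d ≠ 0 from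
        leadingCoeff_ne_zero.2 hh.ne_zero)).1 h1
  have hinv : S'.map g ≤ S' := by
    rw [hS', Submodule.map_sup, Submodule.map_span]
    refine sup_le (hS.trans le_sup_left) (Submodule.span_le.2 ?_)
    rintro _ ⟨_, ⟨i, rfl⟩, rfl⟩
    have := hpowmem (i + 1) i.2
    rwa [pow_succ', Module.End.mul_apply] at this
  have hle : S' ≤ T := by
    refine sup_le hST (Submodule.span_le.2 ?_)
    rintro _ ⟨i, rfl⟩
    have h3 := aeval_mem hT (X ^ (i : ℕ) : F[X]) hwT
    rwa [map_pow, aeval_X] at h3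
  refine ⟨S', le_sup_left, hle, hinv, ?_⟩
  have h1 : finrank F ↥S' ≤ finrank F ↥S + d := by
    refine le_trans (Submodule.finrank_add_le_finrank_add_finrank _ _) ?_
    have := finrank_range_le_card (R := F) f
    rw [Fintype.card_fin] at this
    exact Nat.add_le_add_left this _
  have h2 : finrank F ↥S < finrank F ↥S' :=
    Submodule.finrank_lt_finrank_of_lt (lt_of_le_of_ne le_sup_left fun e => hwS (e ▸ hwS'))
  have h4 := hdeg h hh hhP
  obtain ⟨a, ha⟩ := hdiv S hST hS
  obtain ⟨b, hb⟩ := hdiv S' hle hinv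
  rw [ha, hb] at h1 h2 ⊢
  have hab : a < b := Nat.lt_of_mul_lt_mul_left h2
  have hba : b ≤ a + 1 := by
    have hc0 : 0 < c := by omega
    have hle : c * b ≤ c * (a + 1) := by rw [Nat.mul_add, Nat.mul_one]; omega
    exact Nat.le_of_mul_le_mul_left hle hc0
  rw [show b = a + 1 by omega, Nat.mul_add, Nat.mul_one]

/-- Invariant subspaces of all admissible dimensions above a given one. -/
theorem exists_chain (g : Module.End F V) {P : F[X]} (hP : aeval g P = 0) (hP0 : P ≠ 0) {c : ℕ}
    (hdeg : ∀ h : F[X], Irreducible h → h ∣ P → h.natDegree ≤ c) (T : Submodule F V)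
    (hT : T.map g ≤ T) (hdiv : ∀ W ≤ T, W.map g ≤ W → c ∣ finrank F ↥W) (S : Submodule F V)
    (hST : S ≤ T) (hS : S.map g ≤ S) :
    ∀ j : ℕ, finrank F ↥S + j * c ≤ finrank F ↥T →
      ∃ S', S ≤ S' ∧ S' ≤ T ∧ S'.map g ≤ S' ∧ finrank F ↥S' = finrank F ↥S + j * c := by
  intro j
  induction j with
  | zero => exact fun _ => ⟨S, le_rfl, hST, hS, by simp⟩
  | succ j ih =>
    intro hj
    rw [Nat.succ_mul] at hj
    obtain ⟨S1, h1, h2, h3, h4⟩ := ih (by omega)
    by_cases hne : S1 = T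
    · refine ⟨S1, h1, h2, h3, ?_⟩
      rw [hne] at h4 ⊢
      rw [Nat.succ_mul]; omega
    · obtain ⟨S2, k1, k2, k3, k4⟩ := exists_step g hP hP0 hdeg T hT hdiv S1 h2 h3 hne
      exact ⟨S2, h1.trans k1, k2, k3, by rw [k4, h4, Nat.succ_mul]; omega⟩

/-- Between two subspaces there is one of every intermediate dimension. -/
theorem exists_between {S T : Submodule F V} (h : S ≤ T) {k : ℕ} (hk : finrank F ↥S ≤ k)
    (hk' : k ≤ finrank F ↥T) : ∃ U, S ≤ U ∧ U ≤ T ∧ finrank F ↥U = k := by
  have hid : ∀ W : Submodule F V, W.map (1 : Module.End F V) ≤ W := fun W => by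
    rw [Module.End.one_eq_id, Submodule.map_id]
  obtain ⟨U, h1, h2, -, h4⟩ := exists_chain (1 : Module.End F V) (P := X - C 1) (by simp)
    (X_sub_C_ne_zero 1) (c := 1)
    (fun e _ he => (natDegree_le_of_dvd he (X_sub_C_ne_zero 1)).trans (natDegree_X_sub_C 1).le)
    T (hid T) (fun _ _ _ => one_dvd _) S h (hid S) (k - finrank F ↥S) (by omega)
  exact ⟨U, h1, h2, by omega⟩

/-! ### Elements with `g ^ r = 1` -/

theorem map_le_of_le_ker {g : Module.End F V} {U : Submodule F V}
    (h : U ≤ LinearMap.ker (g - 1)) : U.map g ≤ U := by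
  rw [map_le_iff']
  intro v hv
  have := h hv
  rw [LinearMap.mem_ker, LinearMap.sub_apply, Module.End.one_apply, sub_eq_zero] at this
  rwa [this]

theorem range_inv (g : Module.End F V) :
    (LinearMap.range (g - 1)).map g ≤ LinearMap.range (g - 1) := by
  rw [map_le_iff']
  rintro _ ⟨v, rfl⟩
  exact ⟨g v, by simp⟩

theorem disjoint_ker_range {r : ℕ} (hr : (r : F) ≠ 0) {g : Module.End F V} (hg : g ^ r = 1) :
    Disjoint (LinearMap.ker (g - 1)) (LinearMap.range (g - 1)) := by
  rw [Submodule.disjoint_def]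
  rintro v hv ⟨u, rfl⟩
  rw [LinearMap.mem_ker, LinearMap.sub_apply, Module.End.one_apply, sub_eq_zero] at hv
  have hfix : ∀ i, (g ^ i) ((g - 1) u) = (g - 1) u := by
    intro i
    induction i with
    | zero => simp
    | succ i ih => rw [pow_succ, Module.End.mul_apply, hv, ih]
  have h1 : (∑ i ∈ Finset.range r, g ^ i) ((g - 1) u) = (r : F) • (g - 1) u := by
    rw [LinearMap.sum_apply, Finset.sum_congr rfl fun i _ => hfix i, Finset.sum_const,
      Finset.card_range, Nat.cast_smul_eq_nsmul]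
  rw [← Module.End.mul_apply, geom_sum_mul, hg, sub_self, LinearMap.zero_apply, eq_comm,
    smul_eq_zero] at h1
  exact h1.resolve_left hr

theorem isCompl_ker_range {r : ℕ} (hr : (r : F) ≠ 0) {g : Module.End F V} (hg : g ^ r = 1) :
    IsCompl (LinearMap.ker (g - 1)) (LinearMap.range (g - 1)) := by
  refine ⟨disjoint_ker_range hr hg, codisjoint_iff.2 (Submodule.eq_top_of_finrank_eq ?_)⟩
  have h1 := Submodule.finrank_sup_add_finrank_inf_eq (LinearMap.ker (g - 1)) (LinearMap.range (g - 1))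
  rw [(disjoint_ker_range hr hg).eq_bot, finrank_bot] at h1
  have h2 := LinearMap.finrank_range_add_finrank_ker (g - 1)
  omega

section Finite

variable [Fintype F] {r : ℕ} [Fact r.Prime]

theorem natCast_card_ne_zero (hr : (r : F) ≠ 0) : (Fintype.card F : ZMod r) ≠ 0 := by
  obtain ⟨p, hp⟩ := CharP.exists F
  obtain ⟨n, hpp, hn⟩ := FiniteField.card F p
  rw [hn, Nat.cast_pow]
  apply pow_ne_zero
  rw [Ne, ZMod.natCast_eq_zero_iff]
  · intro h
    rcases (Nat.dvd_prime hpp).1 h with h1 | h1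
    · exact (Fact.out : r.Prime).ne_one h1
    · exact hr (by rw [h1, CharP.cast_eq_zero])

theorem modEq_of_card_pow_modEq (hr : (r : F) ≠ 0) {a b : ℕ}
    (h : Fintype.card F ^ a ≡ Fintype.card F ^ b [MOD r]) :
    a ≡ b [MOD orderOf (Fintype.card F : ZMod r)] := by
  rw [← ZMod.natCast_eq_natCast_iff, Nat.cast_pow, Nat.cast_pow] at h
  set u : (ZMod r)ˣ := Units.mk0 _ (natCast_card_ne_zero (r := r) hr) with hu
  have hu' : (Fintype.card F : ZMod r) = (u : ZMod r) := rfl
  rw [hu', ← Units.val_pow_eq_pow_val, ← Units.val_pow_eq_pow_val, Units.val_inj,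
    pow_eq_pow_iff_modEq] at h
  rwa [hu', orderOf_units]

theorem card_pow_eq_one_iff (k : ℕ) :
    (Fintype.card F : ZMod r) ^ k = 1 ↔ r ∣ Fintype.card F ^ k - 1 := by
  rw [← ZMod.natCast_eq_zero_iff, Nat.cast_sub (Nat.one_le_pow _ _ Fintype.card_pos), Nat.cast_pow,
    Nat.cast_one, sub_eq_zero]

theorem orderOf_card_pos (hr : (r : F) ≠ 0) : 0 < orderOf (Fintype.card F : ZMod r) := by
  rw [show (Fintype.card F : ZMod r) = ((Units.mk0 _ (natCast_card_ne_zero (r := r) hr) : (ZMod r)ˣ) : ZMod r)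
    from rfl, orderOf_units]
  exact orderOf_pos _

/-- Dimension of an invariant subspace modulo the order of `q` modulo `r`. -/
theorem finrank_modEq (hr : (r : F) ≠ 0) {g : Module.End F V} (hg : g ^ r = 1) {W : Submodule F V}
    (hW : W.map g ≤ W) :
    finrank F ↥W ≡ finrank F ↥(W ⊓ LinearMap.ker (g - 1) : Submodule F V)
      [MOD orderOf (Fintype.card F : ZMod r)] := by
  classical
  have : Finite V := Module.finite_of_finite F
  have : Fintype ↥W := Fintype.ofFinite _
  have hmem : ∀ (i : ℕ), ∀ v ∈ W, (g ^ i) v ∈ W := fun i v hv => by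
    have := aeval_mem hW (X ^ i : F[X]) hv
    rwa [map_pow, aeval_X] at this
  have hr1 : r - 1 + 1 = r := Nat.sub_add_cancel (Fact.out : r.Prime).one_le
  let σ : Equiv.Perm ↥W :=
    { toFun := fun v => ⟨g v, map_le_iff'.1 hW _ v.2⟩
      invFun := fun v => ⟨(g ^ (r - 1)) v, hmem _ _ v.2⟩
      left_inv := fun v => Subtype.ext (by
        show (g ^ (r - 1)) (g (v : V)) = v
        rw [← Module.End.mul_apply, ← pow_succ, hr1, hg, Module.End.one_apply])
      right_inv := fun v => Subtype.ext (by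
        show g ((g ^ (r - 1)) (v : V)) = v
        rw [← Module.End.mul_apply, ← pow_succ', hr1, hg, Module.End.one_apply]) }
  have hσ : σ ^ r ^ 1 = 1 := by
    have hpow : ∀ (i : ℕ) (v : ↥W), ((σ ^ i) v : V) = (g ^ i) (v : V) := by
      intro i
      induction i with
      | zero => simp
      | succ i ih =>
        intro v
        rw [pow_succ', Equiv.Perm.mul_apply, pow_succ', Module.End.mul_apply, ← ih]
        rfl
    refine Equiv.ext fun v => Subtype.ext ?_
    rw [hpow, pow_one, hg]; simp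
  have h := Equiv.Perm.card_compl_support_modEq hσ
  have hc : σ.supportᶜ.card = Nat.card ↥(W ⊓ LinearMap.ker (g - 1) : Submodule F V) := by
    rw [← Nat.card_eq_finsetCard]
    refine Nat.card_congr
      { toFun := fun v => ⟨(v.1 : V), v.1.2, ?_⟩
        invFun := fun v => ⟨⟨v.1, v.2.1⟩, ?_⟩
        left_inv := fun _ => rfl
        right_inv := fun _ => rfl }
    · have hv := v.2
      rw [Finset.mem_compl, Equiv.Perm.notMem_support] at hv
      have := congrArg Subtype.val hv
      change g (v.1 : V) = v.1 at this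
      simp [this]
    · rw [Finset.mem_compl, Equiv.Perm.notMem_support]
      have hv := v.2.2
      rw [SetLike.mem_coe, LinearMap.mem_ker, LinearMap.sub_apply, Module.End.one_apply,
        sub_eq_zero] at hv
      exact Subtype.ext hv
  rw [hc, ← Nat.card_eq_fintype_card (α := ↥W), Module.natCard_eq_pow_finrank (K := F),
    Module.natCard_eq_pow_finrank (K := F) (V := ↥W), Nat.card_eq_fintype_card] at h
  exact (modEq_of_card_pow_modEq hr h).symm

theorem dvd_finrank_of_le_range (hr : (r : F) ≠ 0) {g : Module.End F V} (hg : g ^ r = 1)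
    {W : Submodule F V} (hW : W.map g ≤ W) (hle : W ≤ LinearMap.range (g - 1)) :
    orderOf (Fintype.card F : ZMod r) ∣ finrank F ↥W := by
  have h := finrank_modEq hr hg hW
  rw [((disjoint_ker_range hr hg).symm.mono_left hle).eq_bot, finrank_bot] at h
  exact Nat.modEq_zero_iff_dvd.1 h

theorem natDegree_le_order (hr : (r : F) ≠ 0) {h : F[X]} (hh : Irreducible h)
    (hd : h ∣ X ^ r - 1) : h.natDegree ≤ orderOf (Fintype.card F : ZMod r) := by
  set c := orderOf (Fintype.card F : ZMod r) with hc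
  have hdvd : r ∣ Fintype.card F ^ c - 1 := (card_pow_eq_one_iff c).1 (pow_orderOf_eq_one _)
  obtain ⟨s, hs⟩ := hdvd
  refine Nat.le_of_dvd (orderOf_card_pos hr) (hh.natDegree_dvd_of_dvd_X_pow_card_pow_sub_X ?_)
  rw [Nat.card_eq_fintype_card]
  have h1 : (X : F[X]) ^ Fintype.card F ^ c - X = X * (X ^ (Fintype.card F ^ c - 1) - 1) := by
    rw [mul_sub, mul_one, ← pow_succ', Nat.sub_add_cancel (Nat.one_le_pow _ _ Fintype.card_pos)]
  rw [h1, hs, pow_mul]
  exact dvd_mul_of_dvd_right (hd.trans (sub_one_dvd_pow_sub_one ((X : F[X]) ^ r) s)) _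

/-- Nested invariant subspaces with prescribed fixed and moved parts. -/
theorem exists_pair (hr : (r : F) ≠ 0) {g : Module.End F V} (hg : g ^ r = 1) {a₁ a₂ b₁ b₂ : ℕ}
    (ha : a₁ ≤ a₂) (ha2 : a₂ ≤ finrank F ↥(LinearMap.ker (g - 1))) (hb : b₁ ≤ b₂)
    (hb2 : b₂ * orderOf (Fintype.card F : ZMod r) + finrank F ↥(LinearMap.ker (g - 1)) ≤ finrank F V) :
    ∃ U W : Submodule F V, U ≤ W ∧
      finrank F ↥U = a₁ + b₁ * orderOf (Fintype.card F : ZMod r) ∧
      finrank F ↥W = a₂ + b₂ * orderOf (Fintype.card F : ZMod r) ∧ U.map g ≤ U ∧ W.map g ≤ W := by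
  set K := LinearMap.ker (g - 1) with hK
  set T := LinearMap.range (g - 1) with hTdef
  have hT : finrank F ↥T + finrank F ↥K = finrank F V := LinearMap.finrank_range_add_finrank_ker _
  set c := orderOf (Fintype.card F : ZMod r) with hc
  obtain ⟨A₁, -, hA₁, hA₁d⟩ := exists_between (bot_le : (⊥ : Submodule F V) ≤ K) (k := a₁)
    (by simp) (by omega)
  obtain ⟨A₂, hA12, hA₂, hA₂d⟩ := exists_between hA₁ (k := a₂) (by omega) ha2
  have hP : aeval g (X ^ r - 1 : F[X]) = 0 := by simp [hg]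
  have hP0 : (X ^ r - 1 : F[X]) ≠ 0 := (monic_X_pow_sub_C (1 : F) (Fact.out : r.Prime).ne_zero).ne_zero
  have hdiv : ∀ W ≤ T, W.map g ≤ W → c ∣ finrank F ↥W :=
    fun W hW hW' => dvd_finrank_of_le_range hr hg hW' hW
  have hbc : b₁ * c ≤ b₂ * c := Nat.mul_le_mul_right c hb
  obtain ⟨B₁, -, hB₁, hB₁i, hB₁d⟩ := exists_chain g hP hP0 (c := c) (fun h => natDegree_le_order hr) T
    (range_inv g) hdiv ⊥ bot_le (by simp) b₁ (by rw [finrank_bot]; omega)
  obtain ⟨B₂, hB12, hB₂, hB₂i, hB₂d⟩ := exists_chain g hP hP0 (c := c) (fun h => natDegree_le_order hr) T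
    (range_inv g) hdiv B₁ hB₁ hB₁i (b₂ - b₁) (by
      rw [hB₁d, finrank_bot, Nat.sub_mul]; omega)
  have hsup : ∀ A B : Submodule F V, A ≤ K → B ≤ T →
      finrank F ↥(A ⊔ B) = finrank F ↥A + finrank F ↥B := by
    intro A B hA hB
    have := Submodule.finrank_sup_add_finrank_inf_eq A B
    rw [((disjoint_ker_range hr hg).mono hA hB).eq_bot, finrank_bot] at this
    exact this
  refine ⟨A₁ ⊔ B₁, A₂ ⊔ B₂, sup_le_sup hA12 hB12, ?_, ?_, ?_, ?_⟩
  · rw [hsup _ _ hA₁ hB₁, hA₁d, hB₁d, finrank_bot, zero_add]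
  · rw [hsup _ _ hA₂ hB₂, hA₂d, hB₂d, hB₁d, finrank_bot, Nat.sub_mul]; omega
  · rw [Submodule.map_sup]; exact sup_le_sup (map_le_of_le_ker hA₁) hB₁i
  · rw [Submodule.map_sup]; exact sup_le_sup (map_le_of_le_ker hA₂) hB₂i

theorem exists_one (hr : (r : F) ≠ 0) {g : Module.End F V} (hg : g ^ r = 1) {a b : ℕ}
    (ha : a ≤ finrank F ↥(LinearMap.ker (g - 1)))
    (hb : b * orderOf (Fintype.card F : ZMod r) + finrank F ↥(LinearMap.ker (g - 1)) ≤ finrank F V) :
    ∃ W : Submodule F V, finrank F ↥W = a + b * orderOf (Fintype.card F : ZMod r) ∧ W.map g ≤ W := by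
  obtain ⟨U, -, -, h1, -, h2, -⟩ := exists_pair hr hg (le_refl a) ha (le_refl b) hb
  exact ⟨U, h1, h2⟩

end Finite

/-! ### Elements with `g ^ r` a scalar which is not an `r`-th power -/

theorem exists_pow_of_pow_eq {r : ℕ} (hr : r.Prime) {z d : F} (hz : z ≠ 0) {k : ℕ} (hk : ¬ r ∣ k)
    (h : z ^ k = d ^ r) : ∃ b : F, b ^ r = z := by
  obtain ⟨a, ha⟩ := Nat.exists_mul_mod_eq_one_of_coprime
    (Nat.coprime_comm.1 (hr.coprime_iff_not_dvd.2 hk)) hr.one_lt
  obtain ⟨M, hM⟩ : ∃ M, k * a = r * M + 1 := ⟨k * a / r, by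
    have := Nat.div_add_mod (k * a) r; rw [ha.2] at this; exact this.symm⟩
  refine ⟨d ^ a / z ^ M, ?_⟩
  rw [div_pow, ← pow_mul, ← pow_mul, mul_comm a r, pow_mul, ← h, ← pow_mul, hM, mul_comm M r,
    pow_succ, mul_div_cancel_left₀ _ (pow_ne_zero _ hz)]

theorem dvd_finrank_of_pow_smul {r : ℕ} (hr : r.Prime) {g : Module.End F V} {z : F} (hz : z ≠ 0)
    (hg : g ^ r = z • 1) (hnp : ∀ b : F, b ^ r ≠ z) {W : Submodule F V} (hW : W.map g ≤ W) :
    r ∣ finrank F ↥W := by
  by_contra hnd
  have hW' : ∀ v ∈ W, g v ∈ W := map_le_iff'.1 hW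
  have hpow : (g.restrict hW') ^ r = z • 1 := by
    refine LinearMap.ext fun v => Subtype.ext ?_
    rw [Module.End.pow_restrict]
    simp [hg]
  have h := congrArg LinearMap.det hpow
  rw [map_pow, LinearMap.det_smul, map_one, mul_one] at h
  obtain ⟨b, hb⟩ := exists_pow_of_pow_eq hr hz hnd h.symm
  exact hnp b hb

/-- Nested invariant subspaces of dimensions divisible by `r`. -/
theorem exists_pair_smul {r : ℕ} (hr : r.Prime) {g : Module.End F V} {z : F} (hz : z ≠ 0)
    (hg : g ^ r = z • 1) (hnp : ∀ b : F, b ^ r ≠ z) {b₁ b₂ : ℕ} (hb : b₁ ≤ b₂)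
    (hb2 : b₂ * r ≤ finrank F V) :
    ∃ U W : Submodule F V, U ≤ W ∧ finrank F ↥U = b₁ * r ∧ finrank F ↥W = b₂ * r ∧
      U.map g ≤ U ∧ W.map g ≤ W := by
  have hP : aeval g (X ^ r - C z : F[X]) = 0 := by
    rw [map_sub, map_pow, aeval_X, aeval_C, hg, Algebra.algebraMap_eq_smul_one, sub_self]
  have hP0 : (X ^ r - C z : F[X]) ≠ 0 := (monic_X_pow_sub_C z hr.ne_zero).ne_zero
  have hdeg : ∀ h : F[X], Irreducible h → h ∣ X ^ r - C z → h.natDegree ≤ r := fun h _ hd =>
    (natDegree_le_of_dvd hd hP0).trans (natDegree_X_pow_sub_C).le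
  have hdiv : ∀ W ≤ (⊤ : Submodule F V), W.map g ≤ W → r ∣ finrank F ↥W :=
    fun W _ hW => dvd_finrank_of_pow_smul hr hz hg hnp hW
  have hbc : b₁ * r ≤ b₂ * r := Nat.mul_le_mul_right r hb
  obtain ⟨B₁, -, -, hB₁i, hB₁d⟩ := exists_chain g hP hP0 hdeg ⊤ le_top hdiv ⊥ bot_le (by simp) b₁
    (by rw [finrank_bot, finrank_top]; omega)
  obtain ⟨B₂, hB12, -, hB₂i, hB₂d⟩ := exists_chain g hP hP0 hdeg ⊤ le_top hdiv B₁ le_top hB₁i
    (b₂ - b₁) (by rw [hB₁d, finrank_bot, finrank_top, Nat.sub_mul]; omega)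
  exact ⟨B₁, B₂, hB12, by rw [hB₁d, finrank_bot, zero_add],
    by rw [hB₂d, hB₁d, finrank_bot, Nat.sub_mul]; omega, hB₁i, hB₂i⟩

theorem det_eq_of_pow_smul {r : ℕ} (hr : r.Prime) {g : Module.End F V} {z : F} (hz : z ≠ 0)
    (hg : g ^ r = z • 1) (hnp : ∀ b : F, b ^ r ≠ z) :
    ∃ t, finrank F V = r * t ∧ LinearMap.det g = ((-1) ^ (r + 1) * z) ^ t := by
  set f : F[X] := X ^ r - C z with hf
  have hfm : f.Monic := monic_X_pow_sub_C z hr.ne_zero
  have hfi : Irreducible f := X_pow_sub_C_irreducible_of_prime hr hnp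
  have hfg : aeval g f = 0 := by
    rw [hf, map_sub, map_pow, aeval_X, aeval_C, hg, Algebra.algebraMap_eq_smul_one, sub_self]
  have hfac : ∀ e : F[X], e.Monic → Irreducible e → e ∣ g.charpoly → e = f := by
    intro e hem hei hed
    obtain ⟨x, hx0, hx⟩ := SemisimpleConjGL.exists_ker_of_dvd_charpoly g hei hed
    refine eq_of_monic_of_associated hem hfm (hei.associated_of_dvd hfi ?_)
    by_contra hnd
    obtain ⟨u, w, huw⟩ := hei.coprime_iff_not_dvd.2 hnd
    apply hx0
    have := congrArg (fun P : F[X] => aeval g P x) huw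
    simpa [hx, hfg] using this.symm
  have key : ∀ m, ∀ D : F[X], D.natDegree ≤ m → D.Monic → D ∣ g.charpoly → ∃ t, D = f ^ t := by
    intro m
    induction m with
    | zero =>
      intro D hD hDm _
      exact ⟨0, by rw [pow_zero]; exact eq_one_of_monic_natDegree_zero hDm (by omega)⟩
    | succ m ih =>
      intro D hD hDm hDd
      by_cases hu : IsUnit D
      · exact ⟨0, by rw [pow_zero]; exact hDm.eq_one_of_isUnit hu⟩
      obtain ⟨e, hem, hei, D', rfl⟩ := exists_monic_irreducible_factor D hu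
      have hD'm : D'.Monic := hem.of_mul_monic_left hDm
      rw [hem.natDegree_mul hD'm] at hD
      obtain ⟨t, ht⟩ := ih D' (by have := hei.natDegree_pos; omega) hD'm
        (dvd_trans (dvd_mul_left D' e) hDd)
      exact ⟨t + 1, by rw [ht, hfac e hem hei (dvd_trans (dvd_mul_right e D') hDd), pow_succ']⟩
  obtain ⟨t, ht⟩ := key _ g.charpoly le_rfl (LinearMap.charpoly_monic g) dvd_rfl
  have hdim : finrank F V = r * t := by
    rw [← LinearMap.charpoly_natDegree g, ht, natDegree_pow, hf, natDegree_X_pow_sub_C, mul_comm]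
  refine ⟨t, hdim, ?_⟩
  rw [LinearMap.det_eq_sign_charpoly_coeff, ht, hdim, coeff_zero_eq_eval_zero, eval_pow, hf,
    eval_sub, eval_pow, eval_X, eval_C, zero_pow hr.ne_zero, zero_sub, pow_mul, ← mul_pow,
    pow_succ, mul_assoc, neg_one_mul]

/-! ### Constructions -/

section Construct

variable [Fintype F] {r : ℕ} [Fact r.Prime]

theorem exists_fpf (hr : (r : F) ≠ 0) (hc : 2 ≤ orderOf (Fintype.card F : ZMod r)) :
    ∃ g : Module.End F V, g ^ r = 1 ∧ LinearMap.det g = 1 ∧
      finrank F ↥(LinearMap.ker (g - 1)) = finrank F V % orderOf (Fintype.card F : ZMod r) := by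
  classical
  set c := orderOf (Fintype.card F : ZMod r) with hcdef
  set t := finrank F V / c with ht
  set k := finrank F V % c with hk
  obtain ⟨M, hM⟩ := exists_prime_orderOf_dvd_card' (G := GL (Fin c) F) r (by
    rw [Matrix.card_GL_field]
    refine dvd_trans ?_ (Finset.dvd_prod_of_mem _ (Finset.mem_univ (⟨0, by omega⟩ : Fin c)))
    rw [pow_zero]
    exact (card_pow_eq_one_iff c).1 (pow_orderOf_eq_one _))
  let h : Module.End F (Fin c → F) := Matrix.toLinAlgEquiv' (M : Matrix (Fin c) (Fin c) F)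
  have hh : h ^ r = 1 := by
    rw [← map_pow, ← Units.val_pow_eq_pow_val, ← hM, pow_orderOf_eq_one, Units.val_one, map_one]
  have hh1 : h ≠ 1 := by
    intro e
    have : M = 1 := Units.ext (Matrix.toLinAlgEquiv'.injective (e.trans (map_one _).symm))
    rw [this, orderOf_one] at hM
    exact (Fact.out : r.Prime).ne_one hM.symm
  have hker : LinearMap.ker (h - 1) = ⊥ := by
    have h1 := finrank_modEq hr hh (W := ⊤) le_top
    rw [top_inf_eq, finrank_top, Module.finrank_fin_fun] at h1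
    by_contra hne
    rw [← Submodule.finrank_eq_zero] at hne
    have h2 : finrank F ↥(LinearMap.ker (h - 1)) < c := by
      have := Submodule.finrank_lt (s := LinearMap.ker (h - 1)) (fun e => hh1 (by
        rw [LinearMap.ker_eq_top, sub_eq_zero] at e; exact e))
      rwa [Module.finrank_fin_fun] at this
    rw [Nat.ModEq, ← hcdef, Nat.mod_self, Nat.mod_eq_of_lt h2] at h1
    exact hne h1.symm
  let g₀ : Module.End F ((Fin t → Fin c → F) × (Fin k → F)) :=
    (LinearMap.compLeft h (Fin t)).prodMap LinearMap.id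
  have hg₀i : ∀ i (x : (Fin t → Fin c → F) × (Fin k → F)),
      (g₀ ^ i) x = (fun j => (h ^ i) (x.1 j), x.2) := by
    intro i
    induction i with
    | zero => intro x; simp
    | succ i ih => intro x; rw [pow_succ', Module.End.mul_apply, ih]; simp [g₀, pow_succ']; rfl
  have hg₀ : g₀ ^ r = 1 := LinearMap.ext fun x => by rw [hg₀i, hh]; simp
  have hdim : finrank F ((Fin t → Fin c → F) × (Fin k → F)) = finrank F V := by
    rw [Module.finrank_prod, Module.finrank_pi_fintype]
    simp [ht, hk, Nat.div_add_mod']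
  let e : ((Fin t → Fin c → F) × (Fin k → F)) ≃ₗ[F] V := LinearEquiv.ofFinrankEq _ _ hdim
  refine ⟨LinearEquiv.conjAlgEquiv F e g₀, by rw [← map_pow, hg₀, map_one], ?_, ?_⟩
  · set d := LinearMap.det (LinearEquiv.conjAlgEquiv F e g₀) with hd
    have hdr : d ^ r = 1 := by rw [hd, ← map_pow, ← map_pow, hg₀, map_one, map_one]
    have hd0 : d ≠ 0 := fun e0 => by
      rw [e0, zero_pow (Fact.out : r.Prime).ne_zero] at hdr; exact zero_ne_one hdr
    have hcop : Nat.gcd r (Fintype.card F - 1) = 1 := by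
      refine (Fact.out : r.Prime).coprime_iff_not_dvd.2 fun hdvd => ?_
      have h1 : (Fintype.card F : ZMod r) ^ 1 = 1 := by
        rw [card_pow_eq_one_iff, pow_one]; exact hdvd
      rw [pow_one] at h1
      rw [hcdef, h1, orderOf_one] at hc
      omega
    have := pow_gcd_eq_one.2 ⟨hdr, FiniteField.pow_card_sub_one_eq_one d hd0⟩
    rwa [hcop, pow_one] at this
  · have hK : LinearMap.ker (LinearEquiv.conjAlgEquiv F e g₀ - 1) =
        LinearMap.range (e.toLinearMap ∘ₗ LinearMap.inr F (Fin t → Fin c → F) (Fin k → F)) := by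
      ext v
      obtain ⟨x, rfl⟩ := e.surjective v
      have hfix : (LinearEquiv.conjAlgEquiv F e g₀ - 1) (e x) = e (g₀ x - x) := by
        simp [LinearEquiv.conjAlgEquiv]
      rw [LinearMap.mem_ker, hfix, LinearEquiv.map_eq_zero_iff]
      constructor
      · intro hx
        refine ⟨x.2, congrArg e (Prod.ext ?_ rfl)⟩
        funext j
        have hj : (h - 1) (x.1 j) = 0 := congrArg (fun y => y.1 j) hx
        rw [← LinearMap.mem_ker, hker, Submodule.mem_bot] at hj
        exact hj.symm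
      · rintro ⟨y, hy⟩
        rw [LinearMap.comp_apply, LinearEquiv.coe_coe, e.injective.eq_iff] at hy
        subst hy
        rw [sub_eq_zero]
        refine Prod.ext (funext fun j => ?_) rfl
        show h 0 = 0
        exact map_zero h
    rw [hK]
    rw [LinearMap.finrank_range_of_inj]
    · exact Module.finrank_fin_fun F
    · exact e.injective.comp LinearMap.inr_injective

theorem exists_pow_smul {z : F} {t : ℕ} (hdim : finrank F V = r * t) :
    ∃ g : Module.End F V, g ^ r = z • 1 := by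
  have hfm : (X ^ r - C z : F[X]).Monic := monic_X_pow_sub_C z (Fact.out : r.Prime).ne_zero
  let pb := AdjoinRoot.powerBasis' hfm
  have : Module.Finite F (AdjoinRoot (X ^ r - C z : F[X])) := pb.finite
  have hfr : finrank F (AdjoinRoot (X ^ r - C z : F[X])) = r := by
    rw [pb.finrank]
    exact natDegree_X_pow_sub_C
  let S := Fin t → AdjoinRoot (X ^ r - C z : F[X])
  let e : S ≃ₗ[F] V := LinearEquiv.ofFinrankEq _ _ (by
    rw [Module.finrank_pi_fintype, hdim]; simp [hfr, mul_comm])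
  let h : Module.End F S := Algebra.lmul F S (fun _ => AdjoinRoot.root (X ^ r - C z : F[X]))
  refine ⟨LinearEquiv.conjAlgEquiv F e h, ?_⟩
  have hh : h ^ r = algebraMap F (Module.End F S) z := by
    have h1 : (fun _ : Fin t => AdjoinRoot.root (X ^ r - C z : F[X])) ^ r = algebraMap F S z := by
      funext j
      have := AdjoinRoot.eval₂_root (X ^ r - C z : F[X])
      rw [eval₂_sub, eval₂_pow, eval₂_X, eval₂_C, sub_eq_zero] at this
      show AdjoinRoot.root (X ^ r - C z : F[X]) ^ r = _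
      rw [this, Pi.algebraMap_apply]; rfl
    rw [← map_pow, h1, AlgHom.commutes]
  rw [← map_pow, hh, AlgEquiv.commutes, Algebra.algebraMap_eq_smul_one]

theorem exists_generator :
    ∃ a : Fˣ, (∀ u : Fˣ, ∃ k : ℕ, a ^ k = u) ∧ orderOf a = Fintype.card F - 1 := by
  classical
  obtain ⟨a, ha⟩ := IsCyclic.exists_generator (α := Fˣ)
  refine ⟨a, fun u => ?_, ?_⟩
  · obtain ⟨k, hk⟩ := (mem_powers_iff_mem_zpowers).2 (ha u)
    exact ⟨k, hk⟩
  · rw [orderOf_eq_card_of_forall_mem_zpowers ha, Nat.card_units, Nat.card_eq_fintype_card]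

/-- When is there a non-power scalar giving determinant one. -/
theorem exists_bad_iff (hrq : r ∣ Fintype.card F - 1) {n t : ℕ} (hn : n = r * t) (ht : t ≠ 0) :
    (∃ z : F, z ≠ 0 ∧ (∀ b : F, b ^ r ≠ z) ∧ ((-1) ^ (r + 1) * z) ^ t = 1) ↔
      ¬ (padicValNat r n ≤ padicValNat r (Fintype.card F - 1) ∧
        (r = 2 → Even n → Fintype.card F % 4 = 1)) := by
  set q := Fintype.card F with hq
  have hrp : r.Prime := Fact.out
  have hq1 : q - 1 ≠ 0 := by have := Fintype.one_lt_card (α := F); omega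
  set e := padicValNat r (q - 1) with he
  have hvn : padicValNat r n = padicValNat r t + 1 := by
    rw [hn, padicValNat.mul hrp.ne_zero ht, padicValNat.self hrp.one_lt, add_comm]
  obtain ⟨a, ha, hord⟩ := exists_generator (F := F)
  have hsign : ∀ hr2 : (r = 2 → q % 4 = 1), ∃ i : F, i ^ r = (-1) ^ (r + 1) := by
    intro hr2
    rcases hrp.eq_two_or_odd' with rfl | hodd
    · obtain ⟨i, hi⟩ := FiniteField.isSquare_neg_one_iff.2 (show Fintype.card F % 4 ≠ 3 by have := hr2 rfl; omega)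
      exact ⟨i, by rw [sq, ← hi]; ring⟩
    · exact ⟨1, by rw [one_pow, pow_succ, hodd.neg_one_pow, neg_one_mul, neg_neg]⟩
  have hmul : ∀ (z i : F), i ≠ 0 → (∀ b : F, b ^ r ≠ z) → ∀ b : F, b ^ r ≠ i ^ r * z := by
    intro z i hi hnp b hb
    exact hnp (b / i) (by rw [div_pow, hb, mul_div_cancel_left₀ _ (pow_ne_zero _ hi)])
  have hpm : ((-1 : F) ^ (r + 1)) ≠ 0 := pow_ne_zero _ (neg_ne_zero.2 one_ne_zero)
  constructor
  · rintro ⟨z, hz, hnp, hzt⟩ ⟨hv, h4⟩
    obtain ⟨i, hi⟩ := hsign (fun h2 => h4 h2 (by rw [hn, h2]; exact even_two_mul t))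
    have hi0 : i ≠ 0 := fun e0 => hpm (by rw [← hi, e0, zero_pow hrp.ne_zero])
    have hnp' := hmul z i hi0 hnp
    rw [hi] at hnp'
    set u := (-1) ^ (r + 1) * z
    have hu0 : u ≠ 0 := mul_ne_zero hpm hz
    have hug := pow_gcd_eq_one.2 ⟨hzt, FiniteField.pow_card_sub_one_eq_one u hu0⟩
    set G := Nat.gcd t (q - 1) with hG
    obtain ⟨s, hs⟩ : G ∣ q - 1 := Nat.gcd_dvd_right _ _
    have hrs : r ∣ s := by
      by_contra hnd
      have h1 : padicValNat r G = e := by
        rw [he, hs, padicValNat.mul (fun e0 => hq1 (by rw [hs, e0, zero_mul]))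
          (fun e0 => hq1 (by rw [hs, e0, mul_zero])), padicValNat.eq_zero_of_not_dvd hnd, add_zero]
      have h2 : padicValNat r G ≤ padicValNat r t := by
        rw [← padicValNat_dvd_iff_le ht]
        exact dvd_trans pow_padicValNat_dvd (Nat.gcd_dvd_left _ _)
      omega
    obtain ⟨k, hk⟩ := ha (Units.mk0 u hu0)
    have hk1 : a ^ (k * G) = 1 := by
      rw [pow_mul, hk]; ext; simpa using hug
    rw [← orderOf_dvd_iff_pow_eq_one, hord, hs, mul_comm k G] at hk1
    have hG0 : 0 < G := Nat.pos_of_ne_zero fun e0 => hq1 (by rw [hs, e0, zero_mul])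
    obtain ⟨l, hl⟩ := dvd_trans hrs (Nat.dvd_of_mul_dvd_mul_left hG0 hk1)
    refine hnp' ((a ^ l : Fˣ) : F) ?_
    rw [← Units.val_pow_eq_pow_val, ← pow_mul, mul_comm l r, ← hl, hk, Units.val_mk0]
  · intro hneg
    by_cases h4 : r = 2 ∧ q % 4 ≠ 1
    · obtain ⟨rfl, h4⟩ := h4
      refine ⟨-1, neg_ne_zero.2 one_ne_zero, fun b hb => ?_, by norm_num⟩
      have := FiniteField.isSquare_neg_one_iff.1 (⟨b, by rw [← hb, sq]⟩ : IsSquare (-1 : F))
      rw [← hq] at this
      omega
    · have hr2 : r = 2 → q % 4 = 1 := fun h2 => by_contra fun h => h4 ⟨h2, h⟩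
      have hv : e ≤ padicValNat r t := by
        by_contra hlt
        exact hneg ⟨by omega, fun h2 _ => hr2 h2⟩
      obtain ⟨s, hs⟩ : r ^ e ∣ q - 1 := pow_padicValNat_dvd
      have hns : ¬ r ∣ s := fun hd => by
        refine pow_succ_padicValNat_not_dvd (p := r) hq1 ?_
        rw [← he, pow_succ, hs]
        exact mul_dvd_mul_left _ hd
      set u : F := ((a ^ s : Fˣ) : F) with hu
      have hunp : ∀ b : F, b ^ r ≠ u := by
        intro b hb
        have hb0 : b ≠ 0 := fun e0 => by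
          rw [e0, zero_pow hrp.ne_zero] at hb; exact (a ^ s).ne_zero hb.symm
        obtain ⟨k, hk⟩ := ha (Units.mk0 b hb0)
        have h1 : a ^ (k * r) = a ^ s := by
          rw [pow_mul, hk]; ext; simpa [hu] using hb
        rw [pow_eq_pow_iff_modEq, hord] at h1
        exact hns ((h1.of_dvd hrq).symm.trans (Nat.modEq_zero_iff_dvd.2 (dvd_mul_left r k)) |> Nat.modEq_zero_iff_dvd.1)
      have hut : u ^ t = 1 := by
        obtain ⟨w, hw⟩ : r ^ e ∣ t := (padicValNat_dvd_iff_le ht).2 hv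
        rw [hu, ← Units.val_pow_eq_pow_val, hw, ← pow_mul,
          show s * (r ^ e * w) = (q - 1) * w by rw [hs]; ring, pow_mul, ← hord, pow_orderOf_eq_one,
          one_pow, Units.val_one]
      obtain ⟨i, hi⟩ := hsign hr2
      have hi0 : i ≠ 0 := fun e0 => hpm (by rw [← hi, e0, zero_pow hrp.ne_zero])
      refine ⟨i ^ r * u, mul_ne_zero (pow_ne_zero _ hi0) (a ^ s).ne_zero, hmul u i hi0 hunp, ?_⟩
      rw [hi, ← mul_assoc, ← pow_add, Even.neg_one_pow ⟨r + 1, rfl⟩, one_mul, hut]

end Construct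

/-! ### Counting subspaces -/

section Count

variable [Fintype F]

theorem card_subspaces_mul {m : ℕ} (hm : m ≤ finrank F V) :
    Nat.card {W : Submodule F V // finrank F ↥W = m} *
        ∏ i : Fin m, (Fintype.card F ^ m - Fintype.card F ^ (i : ℕ)) =
      ∏ i : Fin m, (Fintype.card F ^ finrank F V - Fintype.card F ^ (i : ℕ)) := by
  classical
  have : Finite V := Module.finite_of_finite F
  rw [← card_linearIndependent (K := F) (V := V) hm]
  let Φ : {s : Fin m → V // LinearIndependent F s} → {W : Submodule F V // finrank F ↥W = m} :=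
    fun s => ⟨Submodule.span F (Set.range s.1), by rw [finrank_span_eq_card s.2, Fintype.card_fin]⟩
  have hfib : ∀ W, Nat.card {s // Φ s = W} =
      ∏ i : Fin m, (Fintype.card F ^ m - Fintype.card F ^ (i : ℕ)) := by
    rintro ⟨W, hW⟩
    have h := card_linearIndependent (K := F) (V := ↥W) (k := m) (by omega)
    rw [hW] at h
    rw [← h]
    refine Nat.card_congr
      { toFun := fun s => ⟨fun i => ⟨s.1.1 i, by
            have h' : Submodule.span F (Set.range s.1.1) = W := congrArg Subtype.val s.2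
            exact h'.le (Submodule.subset_span ⟨i, rfl⟩)⟩,
          LinearIndependent.of_comp W.subtype s.1.2⟩
        invFun := fun t => ⟨⟨fun i => (t.1 i : V), t.2.map' W.subtype (Submodule.ker_subtype W)⟩, by
          refine Subtype.ext (Submodule.eq_of_le_of_finrank_eq ?_ ?_)
          · exact Submodule.span_le.2 (by rintro _ ⟨i, rfl⟩; exact (t.1 i).2)
          · show finrank F ↥(Submodule.span F (Set.range fun i => (t.1 i : V))) = finrank F ↥W
            rw [finrank_span_eq_card (b := fun i => (t.1 i : V))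
              (t.2.map' W.subtype (Submodule.ker_subtype W)), Fintype.card_fin, hW]⟩
        left_inv := fun _ => rfl
        right_inv := fun _ => rfl }
  rw [← Nat.card_congr (Equiv.sigmaFiberEquiv Φ)]
  have : Fintype {W : Submodule F V // finrank F ↥W = m} := Fintype.ofFinite _
  rw [Nat.card_sigma]
  simp [hfib]

theorem sub_eq_mul {q a i : ℕ} (hi : i ≤ a) : q ^ a - q ^ i = q ^ i * (q ^ (a - i) - 1) := by
  rw [Nat.mul_sub, mul_one, ← pow_add, Nat.add_sub_cancel' hi]

theorem not_dvd_card_subspaces {r : ℕ} [Fact r.Prime] (hr : (r : F) ≠ 0) {m : ℕ}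
    (hm : m ≤ finrank F V)
    (h : ∀ i < m, ¬ orderOf (Fintype.card F : ZMod r) ∣ finrank F V - i) :
    ¬ r ∣ Nat.card {W : Submodule F V // finrank F ↥W = m} := by
  intro hd
  have hd' := dvd_mul_of_dvd_left hd (∏ i : Fin m, (Fintype.card F ^ m - Fintype.card F ^ (i : ℕ)))
  rw [card_subspaces_mul hm, (Fact.out : r.Prime).prime.dvd_finsetProd_iff] at hd'
  obtain ⟨i, -, hi⟩ := hd'
  rw [sub_eq_mul (i.2.le.trans hm)] at hi
  rcases (Fact.out : r.Prime).dvd_mul.1 hi with h1 | h1
  · exact natCast_card_ne_zero hr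
      ((ZMod.natCast_eq_zero_iff _ _).2 ((Fact.out : r.Prime).dvd_of_dvd_pow h1))
  · rw [← card_pow_eq_one_iff, ← orderOf_dvd_iff_pow_eq_one] at h1
    exact h i i.2 h1

theorem not_char_dvd_card_subspaces {p : ℕ} [Fact p.Prime] [CharP F p] {m : ℕ}
    (hm : m ≤ finrank F V) : ¬ p ∣ Nat.card {W : Submodule F V // finrank F ↥W = m} := by
  intro hd
  have h := card_subspaces_mul (F := F) (V := V) hm
  rw [Finset.prod_congr rfl (fun i _ => sub_eq_mul (q := Fintype.card F) (i.2.le)),
    Finset.prod_congr rfl (fun i _ => sub_eq_mul (q := Fintype.card F) (i.2.le.trans hm)),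
    Finset.prod_mul_distrib, Finset.prod_mul_distrib, ← mul_assoc, mul_comm (Nat.card _),
    mul_assoc] at h
  have h2 := Nat.eq_of_mul_eq_mul_left (Finset.prod_pos fun i _ => pow_pos Fintype.card_pos _) h
  have hd' := dvd_mul_of_dvd_left hd (∏ i : Fin m, (Fintype.card F ^ (m - (i : ℕ)) - 1))
  rw [h2, (Fact.out : p.Prime).prime.dvd_finsetProd_iff] at hd'
  obtain ⟨i, -, hi⟩ := hd'
  obtain ⟨n, -, hn⟩ := FiniteField.card F p
  have hpow : p ∣ Fintype.card F ^ (finrank F V - (i : ℕ)) := by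
    rw [hn, ← pow_mul]
    refine dvd_pow_self p (Nat.mul_ne_zero n.ne_zero ?_)
    have := i.2; omega
  have := Nat.dvd_sub hpow hi
  rw [Nat.sub_sub_self (Nat.one_le_pow _ _ Fintype.card_pos), Nat.dvd_one] at this
  exact (Fact.out : p.Prime).ne_one this

theorem card_subspaces_symm {V' : Type v} [AddCommGroup V'] [Module F V'] [FiniteDimensional F V']
    {a b : ℕ} (hV : finrank F V' = finrank F V) (hab : a + b = finrank F V) :
    Nat.card {W : Submodule F V // finrank F ↥W = a} =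
      Nat.card {W : Submodule F V' // finrank F ↥W = b} := by
  let e : Module.Dual F V ≃ₗ[F] V' := LinearEquiv.ofFinrankEq _ _ (by rw [Subspace.dual_finrank_eq, hV])
  let φ : Submodule F V ≃ Submodule F V' :=
    (Subspace.orderIsoFiniteDimensional (K := F) (V := V)).toEquiv.trans
      (OrderDual.ofDual.trans (Submodule.orderIsoMapComap e).toEquiv)
  refine Nat.card_congr (φ.subtypeEquiv fun W => ?_)
  have h1 : finrank F ↥(φ W) = finrank F ↥(W.dualAnnihilator) :=
    LinearEquiv.finrank_map_eq e _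
  have h2 := Subspace.finrank_add_finrank_dualAnnihilator_eq W
  omega

theorem card_complements {m : ℕ} {U : Submodule F V} (hU : finrank F ↥U = m) :
    Nat.card {W : Submodule F V // IsCompl U W} = Fintype.card F ^ (m * (finrank F V - m)) := by
  classical
  obtain ⟨W₀, hW₀⟩ := U.exists_isCompl
  rw [Nat.card_congr U.isComplEquivProj]
  let f₀ := U.isComplEquivProj ⟨W₀, hW₀⟩
  let R : (V →ₗ[F] ↥U) →ₗ[F] (↥U →ₗ[F] ↥U) := LinearMap.lcomp F _ U.subtype
  have e : {f : V →ₗ[F] ↥U // ∀ x : ↥U, f x = x} ≃ ↥(LinearMap.ker R) :=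
    { toFun := fun f => ⟨f.1 - f₀.1, by
        rw [LinearMap.mem_ker]; ext x; simp [R, f.2 x, f₀.2 x]⟩
      invFun := fun d => ⟨d.1 + f₀.1, fun x => by
        have hd : (d : V →ₗ[F] ↥U) (x : V) = 0 := LinearMap.congr_fun (LinearMap.mem_ker.1 d.2) x
        simp [hd, f₀.2 x]⟩
      left_inv := fun f => Subtype.ext (by simp)
      right_inv := fun d => Subtype.ext (by simp) }
  rw [Nat.card_congr e, Module.natCard_eq_pow_finrank (K := F), Nat.card_eq_fintype_card]
  congr 1
  have h1 := LinearMap.finrank_range_add_finrank_ker R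
  have h2 : LinearMap.range R = ⊤ := by
    rw [LinearMap.range_eq_top]
    intro k
    refine ⟨k ∘ₗ f₀.1, ?_⟩
    ext x; simp [R, f₀.2 x]
  rw [h2, finrank_top, Module.finrank_linearMap, Module.finrank_linearMap, hU] at h1
  rw [Nat.mul_sub, mul_comm m (finrank F V)]
  omega

end Count

end Cfsg.Agent.PrimeOrderModule84
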