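import Mathlib
import Cfsg.Agent.Lib.PrimeOrderModule84

/-!
Decompositions into subspaces of equal dimension permuted by an element of prime order:
existence and necessary conditions.
-/

set_option autoImplicit false

namespace Cfsg.Agent.DecompPerm84

open Module Cfsg.Agent.PrimeOrderModule84

universe u v

variable {F : Type u} [Field F] {V : Type v} [AddCommGroup V] [Module F V]

/-- A basis in which `g` permutes `t` blocks of size `a` by `σ`. -/
def DecP (g : Module.End F V) {t : ℕ} (a : ℕ) (σ : Equiv.Perm (Fin t)) : Prop :=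
  ∃ b : Basis (Fin t × Fin a) F V,
    ∀ i j, g (b (i, j)) ∈ Submodule.span F (Set.range fun j' => b (σ i, j'))

/-- Some permutation. -/
def Dec (g : Module.End F V) (a t : ℕ) : Prop := ∃ σ : Equiv.Perm (Fin t), DecP g a σ

theorem of_single [FiniteDimensional F V] (g : Module.End F V) {a : ℕ} (h : finrank F V = a) :
    DecP g a (1 : Equiv.Perm (Fin 1)) := by
  let b : Basis (Fin 1 × Fin a) F V :=
    (Module.finBasisOfFinrankEq F V h).reindex (Equiv.uniqueProd (Fin a) (Fin 1)).symm
  refine ⟨b, fun i j => ?_⟩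
  have hrange : Set.range (fun j' => b ((1 : Equiv.Perm (Fin 1)) i, j')) = Set.range b := by
    ext x
    constructor
    · rintro ⟨j', rfl⟩; exact ⟨_, rfl⟩
    · rintro ⟨⟨i', j'⟩, rfl⟩; exact ⟨j', by simp [Subsingleton.elim i' i]⟩
  rw [hrange, b.span_eq]
  trivial

theorem of_zero [FiniteDimensional F V] (g : Module.End F V) {t a : ℕ} (h : finrank F V = 0)
    (hat : t * a = 0) (σ : Equiv.Perm (Fin t)) : DecP g a σ := by
  have he : IsEmpty (Fin t × Fin a) := by
    rw [← Fintype.card_eq_zero_iff, Fintype.card_prod, Fintype.card_fin, Fintype.card_fin, hat]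
  exact ⟨(Module.finBasisOfFinrankEq F V h).reindex (Equiv.equivOfIsEmpty _ _),
    fun i j => (he.false (i, j)).elim⟩

theorem coe_mem_span {W : Submodule F V} {ι : Type*} {f : ι → ↥W} {x : ↥W}
    (h : x ∈ Submodule.span F (Set.range f)) :
    (x : V) ∈ Submodule.span F (Set.range fun i => (f i : V)) := by
  have h1 := Submodule.apply_mem_span_image_of_mem_span W.subtype h
  rwa [← Set.range_comp] at h1

variable {g : Module.End F V} {W W' : Submodule F V}

theorem seq (hc : IsCompl W W') (hW : ∀ v ∈ W, g v ∈ W) (hW' : ∀ v ∈ W', g v ∈ W') {a t t' : ℕ}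
    (h : Dec (g.restrict hW) a t) (h' : Dec (g.restrict hW') a t') : Dec g a (t + t') := by
  obtain ⟨σ, b, hb⟩ := h
  obtain ⟨σ', b', hb'⟩ := h'
  let e : (Fin t × Fin a) ⊕ (Fin t' × Fin a) ≃ Fin (t + t') × Fin a :=
    (Equiv.sumProdDistrib _ _ _).symm.trans (finSumFinEquiv.prodCongr (Equiv.refl _))
  let B := ((b.prod b').map (Submodule.prodEquivOfIsCompl W W' hc)).reindex e
  let τ : Equiv.Perm (Fin (t + t')) := finSumFinEquiv.permCongr (σ.sumCongr σ')
  have hl : ∀ i j, B (finSumFinEquiv (Sum.inl i), j) = (b (i, j) : V) := fun i j => by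
    simp [B, e, Submodule.coe_prodEquivOfIsCompl']
  have hr : ∀ i j, B (finSumFinEquiv (Sum.inr i), j) = (b' (i, j) : V) := fun i j => by
    simp [B, e, Submodule.coe_prodEquivOfIsCompl']
  refine ⟨τ, B, fun i j => ?_⟩
  obtain ⟨i, rfl⟩ := finSumFinEquiv.surjective i
  rcases i with i | i
  · have hτ : τ (finSumFinEquiv (Sum.inl i)) = finSumFinEquiv (Sum.inl (σ i)) := by simp [τ]
    rw [hτ, hl]
    simp only [hl]
    exact coe_mem_span (hb i j)
  · have hτ : τ (finSumFinEquiv (Sum.inr i)) = finSumFinEquiv (Sum.inr (σ' i)) := by simp [τ]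
    rw [hτ, hr]
    simp only [hr]
    exact coe_mem_span (hb' i j)

theorem par (hc : IsCompl W W') (hW : ∀ v ∈ W, g v ∈ W) (hW' : ∀ v ∈ W', g v ∈ W') {a a' t : ℕ}
    {σ : Equiv.Perm (Fin t)} (h : DecP (g.restrict hW) a σ) (h' : DecP (g.restrict hW') a' σ) :
    DecP g (a + a') σ := by
  obtain ⟨b, hb⟩ := h
  obtain ⟨b', hb'⟩ := h'
  let e : (Fin t × Fin a) ⊕ (Fin t × Fin a') ≃ Fin t × Fin (a + a') :=
    (Equiv.prodSumDistrib _ _ _).symm.trans ((Equiv.refl _).prodCongr finSumFinEquiv)
  let B := ((b.prod b').map (Submodule.prodEquivOfIsCompl W W' hc)).reindex e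
  have hl : ∀ i j, B (i, finSumFinEquiv (Sum.inl j)) = (b (i, j) : V) := fun i j => by
    simp [B, e, Submodule.coe_prodEquivOfIsCompl']
  have hr : ∀ i j, B (i, finSumFinEquiv (Sum.inr j)) = (b' (i, j) : V) := fun i j => by
    simp [B, e, Submodule.coe_prodEquivOfIsCompl']
  refine ⟨B, fun i j => ?_⟩
  obtain ⟨j, rfl⟩ := finSumFinEquiv.surjective j
  rcases j with j | j
  · rw [hl]
    refine Submodule.span_mono ?_ (coe_mem_span (hb i j))
    rintro _ ⟨j', rfl⟩
    exact ⟨finSumFinEquiv (Sum.inl j'), hl _ _⟩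
  · rw [hr]
    refine Submodule.span_mono ?_ (coe_mem_span (hb' i j))
    rintro _ ⟨j', rfl⟩
    exact ⟨finSumFinEquiv (Sum.inr j'), hr _ _⟩

/-- The decomposition given by a block basis. -/
theorem Dec.submodules [FiniteDimensional F V] (hg : Function.Injective g) {a t : ℕ}
    (h : Dec g a t) :
    ∃ D : Fin t → Submodule F V, (∀ i, finrank F ↥(D i) = a) ∧ iSupIndep D ∧ iSup D = ⊤ ∧
      ∃ σ : Equiv.Perm (Fin t), ∀ j, (D j).map g = D (σ j) := by
  classical
  obtain ⟨σ, b, hb⟩ := h
  let D : Fin t → Submodule F V := fun i => Submodule.span F (Set.range fun j => b (i, j))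
  have hdim : ∀ i, finrank F ↥(D i) = a := fun i => by
    show finrank F ↥(Submodule.span F (Set.range fun j => b (i, j))) = a
    rw [finrank_span_eq_card (b := fun j => b (i, j))
      (b.linearIndependent.comp _ (fun x y h => (Prod.ext_iff.1 h).2)), Fintype.card_fin]
  refine ⟨D, hdim, fun i => ?_, ?_, σ, fun j => ?_⟩
  · have h1 := b.linearIndependent.disjoint_span_image
      (s := {x | x.1 = i}) (t := {x | x.1 ≠ i}) (Set.disjoint_left.2 fun x hx hx' => hx' hx)
    refine h1.mono (Submodule.span_mono ?_) (iSup₂_le fun k hk => Submodule.span_mono ?_)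
    · rintro _ ⟨j, rfl⟩; exact ⟨(i, j), rfl, rfl⟩
    · rintro _ ⟨j, rfl⟩; exact ⟨(k, j), hk, rfl⟩
  · rw [eq_top_iff, ← b.span_eq, Submodule.span_le]
    rintro _ ⟨⟨i, j⟩, rfl⟩
    exact Submodule.mem_iSup_of_mem i (Submodule.subset_span ⟨j, rfl⟩)
  · refine Submodule.eq_of_le_of_finrank_eq ?_ ?_
    · rw [Submodule.map_span, Submodule.span_le]
      rintro _ ⟨_, ⟨k, rfl⟩, rfl⟩
      exact hb j k
    · rw [← (Submodule.equivMapOfInjective g hg (D j)).finrank_eq, hdim, hdim]

theorem restrict_pow {r : ℕ} {z : F} (hz : g ^ r = z • 1) (hW : ∀ v ∈ W, g v ∈ W) :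
    (g.restrict hW) ^ r = z • 1 := by
  refine LinearMap.ext fun v => Subtype.ext ?_
  rw [Module.End.pow_restrict]
  simp [hz]

theorem restrict_pow_one {r : ℕ} (hz : g ^ r = 1) (hW : ∀ v ∈ W, g v ∈ W) :
    (g.restrict hW) ^ r = 1 := by
  refine LinearMap.ext fun v => Subtype.ext ?_
  rw [Module.End.pow_restrict]
  simp [hz]

theorem exists_invt_compl [FiniteDimensional F V] {r : ℕ} (hr : (r : F) ≠ 0) {z : F} (hz : z ≠ 0)
    (hg : g ^ r = z • 1) (hW : W.map g ≤ W) : ∃ W' : Submodule F V, IsCompl W W' ∧ W'.map g ≤ W' := by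
  have hss : g.IsSemisimple := Module.End.isSemisimple_of_squarefree_aeval_eq_zero
    (p := Polynomial.X ^ r - Polynomial.C z)
    (Polynomial.separable_X_pow_sub_C z hr hz).squarefree
    (by rw [map_sub, map_pow, Polynomial.aeval_X, Polynomial.aeval_C, hg,
      Algebra.algebraMap_eq_smul_one, sub_self])
  obtain ⟨W', hW', hc⟩ := Module.End.isSemisimple_iff.1 hss W
    ((Module.End.mem_invtSubmodule _).2 (Submodule.map_le_iff_le_comap.1 hW))
  exact ⟨W', hc, Submodule.map_le_iff_le_comap.2 ((Module.End.mem_invtSubmodule _).1 hW')⟩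

/-- A cyclic block. -/
theorem of_cyclic [FiniteDimensional F V] (g : Module.End F V) {r : ℕ} (hdim : finrank F V = r)
    (hr : 0 < r) (v : V) (hspan : ⊤ ≤ Submodule.span F (Set.range fun i : Fin r => (g ^ (i : ℕ)) v))
    (hv : (g ^ r) v ∈ Submodule.span F ({v} : Set V)) : DecP g 1 (finRotate r) := by
  classical
  obtain ⟨k, rfl⟩ : ∃ k, r = k + 1 := ⟨r - 1, by omega⟩
  let b₀ := basisOfTopLeSpanOfCardEqFinrank (fun i : Fin (k + 1) => (g ^ (i : ℕ)) v) hspan
    (by simp [hdim])
  let b : Basis (Fin (k + 1) × Fin 1) F V := b₀.reindex (Equiv.prodUnique _ _).symm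
  have hb : ∀ i j, b (i, j) = (g ^ (i : ℕ)) v := fun i j => by simp [b, b₀]
  refine ⟨b, fun i j => ?_⟩
  rw [hb, ← Module.End.mul_apply, ← pow_succ']
  simp only [hb, Set.range_const]
  rw [finRotate_succ_apply]
  rcases Nat.lt_or_ge (i : ℕ) k with h | h
  · rw [Fin.val_add_one_of_lt (show i < Fin.last k from h)]
    exact Submodule.subset_span rfl
  · have hi : i = Fin.last k := Fin.ext (by simp; omega)
    subst hi
    rw [Fin.last_add_one]
    simpa using hv

/-! ### Elements whose `r`-th power is a scalar that is not a power -/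

section NonPower

variable [FiniteDimensional F V] {r : ℕ} [Fact r.Prime] {z : F}

theorem nonpower_block (hz : z ≠ 0) (hnp : ∀ b : F, b ^ r ≠ z) {g : Module.End F V}
    (hg : g ^ r = z • 1) (hdim : finrank F V = r) : DecP g 1 (finRotate r) := by
  have hr := (Fact.out : r.Prime).pos
  have hnt : Nontrivial V := Module.nontrivial_of_finrank_pos (R := F) (by omega)
  obtain ⟨v, hv⟩ := exists_ne (0 : V)
  set S := Submodule.span F (Set.range fun i : Fin r => (g ^ (i : ℕ)) v) with hS
  have hinv : S.map g ≤ S := by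
    rw [hS, Submodule.map_span, Submodule.span_le]
    rintro _ ⟨_, ⟨i, rfl⟩, rfl⟩
    rw [SetLike.mem_coe, ← Module.End.mul_apply, ← pow_succ']
    rcases Nat.lt_or_ge ((i : ℕ) + 1) r with h | h
    · exact Submodule.subset_span ⟨⟨_, h⟩, rfl⟩
    · rw [show (i : ℕ) + 1 = r by omega, hg]
      exact Submodule.smul_mem _ z (Submodule.subset_span ⟨⟨0, hr⟩, by simp⟩)
  have hmem : v ∈ S := Submodule.subset_span ⟨⟨0, hr⟩, by simp⟩
  have hne : S ≠ ⊥ := fun e => hv (by rw [e] at hmem; exact hmem)
  have htop : S = ⊤ := Submodule.eq_top_of_finrank_eq (by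
    have h1 := dvd_finrank_of_pow_smul Fact.out hz hg hnp hinv
    have h2 : finrank F ↥S ≤ finrank F V := Submodule.finrank_le _
    have h3 : finrank F ↥S ≠ 0 := fun e => hne (Submodule.finrank_eq_zero.1 e)
    have := Nat.le_of_dvd (Nat.pos_of_ne_zero h3) h1
    omega)
  exact of_cyclic g hdim hr v htop.ge (by rw [hg]; exact Submodule.smul_mem _ z (Submodule.subset_span rfl))

theorem nonpower_par (hr : (r : F) ≠ 0) (hz : z ≠ 0) (hnp : ∀ b : F, b ^ r ≠ z) :
    ∀ (a : ℕ) {V : Type v} [AddCommGroup V] [Module F V] [FiniteDimensional F V]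
      {g : Module.End F V}, g ^ r = z • 1 → finrank F V = r * a → DecP g a (finRotate r) := by
  intro a
  induction a with
  | zero => intro V _ _ _ g _ hdim; exact of_zero g (by simpa using hdim) (mul_zero r) _
  | succ a ih =>
    intro V _ _ _ g hg hdim
    rw [Nat.mul_succ] at hdim
    obtain ⟨W, -, -, hWd, -, hWi, -⟩ := exists_pair_smul Fact.out hz hg hnp (le_refl 1)
      (by rw [one_mul, hdim]; omega)
    rw [one_mul] at hWd
    obtain ⟨W', hc, hW'i⟩ := exists_invt_compl hr hz hg hWi
    have hd := Submodule.finrank_add_eq_of_isCompl hc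
    exact par hc.symm (map_le_iff'.1 hW'i) (map_le_iff'.1 hWi)
      (ih (restrict_pow hg _) (by omega))
      (nonpower_block hz hnp (restrict_pow hg _) hWd)

theorem nonpower_seq (hr : (r : F) ≠ 0) (hz : z ≠ 0) (hnp : ∀ b : F, b ^ r ≠ z) (a : ℕ) :
    ∀ (u : ℕ) {V : Type v} [AddCommGroup V] [Module F V] [FiniteDimensional F V]
      {g : Module.End F V}, g ^ r = z • 1 → finrank F V = r * (a * u) → Dec g a (r * u) := by
  intro u
  induction u with
  | zero => intro V _ _ _ g _ hdim; exact ⟨1, of_zero g (by simpa using hdim) (by simp) _⟩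
  | succ u ih =>
    intro V _ _ _ g hg hdim
    rw [Nat.mul_succ a, Nat.mul_add] at hdim
    obtain ⟨W, -, -, hWd, -, hWi, -⟩ := exists_pair_smul Fact.out hz hg hnp (le_refl a)
      (by rw [mul_comm a r, hdim]; omega)
    rw [mul_comm a r] at hWd
    obtain ⟨W', hc, hW'i⟩ := exists_invt_compl hr hz hg hWi
    have hd := Submodule.finrank_add_eq_of_isCompl hc
    rw [Nat.mul_succ r]
    exact seq hc.symm (map_le_iff'.1 hW'i) (map_le_iff'.1 hWi)
      (ih (restrict_pow hg _) (by omega))
      ⟨_, nonpower_par hr hz hnp a (restrict_pow hg _) hWd⟩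

theorem nonpower_fixed (hr : (r : F) ≠ 0) (hz : z ≠ 0) (hnp : ∀ b : F, b ^ r ≠ z) (b : ℕ) :
    ∀ (t : ℕ) {V : Type v} [AddCommGroup V] [Module F V] [FiniteDimensional F V]
      {g : Module.End F V}, g ^ r = z • 1 → finrank F V = r * b * t → Dec g (r * b) t := by
  intro t
  induction t with
  | zero => intro V _ _ _ g _ hdim; exact ⟨1, of_zero g (by simpa using hdim) (by simp) _⟩
  | succ t ih =>
    intro V _ _ _ g hg hdim
    rw [Nat.mul_succ] at hdim
    obtain ⟨W, -, -, hWd, -, hWi, -⟩ := exists_pair_smul Fact.out hz hg hnp (le_refl b)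
      (by rw [mul_comm b r, hdim]; omega)
    rw [mul_comm b r] at hWd
    obtain ⟨W', hc, hW'i⟩ := exists_invt_compl hr hz hg hWi
    have hd := Submodule.finrank_add_eq_of_isCompl hc
    exact seq hc.symm (map_le_iff'.1 hW'i) (map_le_iff'.1 hWi)
      (ih (restrict_pow hg _) (by omega)) ⟨_, of_single _ hWd⟩

end NonPower

/-! ### Elements with `g ^ r = 1` -/

section Power

variable [Fintype F] {r : ℕ} [Fact r.Prime]

theorem exists_sub [FiniteDimensional F V] (hr : (r : F) ≠ 0) {g : Module.End F V} (hg : g ^ r = 1)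
    {a b : ℕ} (ha : a ≤ finrank F ↥(LinearMap.ker (g - 1)))
    (hb : b * orderOf (Fintype.card F : ZMod r) + finrank F ↥(LinearMap.ker (g - 1)) ≤ finrank F V) :
    ∃ W : Submodule F V, W.map g ≤ W ∧
      finrank F ↥W = a + b * orderOf (Fintype.card F : ZMod r) ∧
      finrank F ↥(W ⊓ LinearMap.ker (g - 1) : Submodule F V) = a := by
  set K := LinearMap.ker (g - 1) with hK
  set T := LinearMap.range (g - 1) with hTdef
  have hT : finrank F ↥T + finrank F ↥K = finrank F V := LinearMap.finrank_range_add_finrank_ker _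
  obtain ⟨A, -, hA, hAd⟩ := exists_between (bot_le : (⊥ : Submodule F V) ≤ K) (k := a) (by simp) ha
  obtain ⟨B, -, hB, hBi, hBd⟩ := exists_chain g (P := Polynomial.X ^ r - 1) (by simp [hg])
    (Polynomial.monic_X_pow_sub_C (1 : F) (Fact.out : r.Prime).ne_zero).ne_zero
    (fun h => natDegree_le_order hr) T (range_inv g)
    (fun W hW hW' => dvd_finrank_of_le_range hr hg hW' hW) ⊥ bot_le (by simp) b
    (by rw [finrank_bot]; omega)
  have hdisj := disjoint_ker_range hr hg
  refine ⟨A ⊔ B, ?_, ?_, ?_⟩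
  · rw [Submodule.map_sup]; exact sup_le_sup (map_le_of_le_ker hA) hBi
  · have := Submodule.finrank_sup_add_finrank_inf_eq A B
    rw [(hdisj.mono hA hB).eq_bot, finrank_bot, hAd, hBd, finrank_bot] at this
    omega
  · rw [sup_inf_assoc_of_le B hA, (hdisj.symm.mono_left hB).eq_bot, sup_bot_eq, hAd]

omit [Fintype F] [Fact r.Prime] in
theorem finrank_ker_restrict [FiniteDimensional F V] {g : Module.End F V} {W : Submodule F V}
    (hW : ∀ v ∈ W, g v ∈ W) :
    finrank F ↥(LinearMap.ker (g.restrict hW - 1)) =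
      finrank F ↥(W ⊓ LinearMap.ker (g - 1) : Submodule F V) := by
  rw [← Submodule.finrank_map_subtype_eq W (LinearMap.ker (g.restrict hW - 1))]
  have : (LinearMap.ker (g.restrict hW - 1)).map W.subtype = W ⊓ LinearMap.ker (g - 1) := by
    ext v
    constructor
    · rintro ⟨x, hx, rfl⟩
      refine ⟨x.2, ?_⟩
      have := congrArg Subtype.val (LinearMap.mem_ker.1 hx)
      simpa using this
    · rintro ⟨hv, hv'⟩
      refine ⟨⟨v, hv⟩, LinearMap.mem_ker.2 (Subtype.ext ?_), rfl⟩
      simpa using hv'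
  rw [this]

omit [Fintype F] [Fact r.Prime] in
theorem finrank_ker_add [FiniteDimensional F V] {g : Module.End F V} {W W' : Submodule F V}
    (hc : IsCompl W W') (hW : W.map g ≤ W) (hW' : W'.map g ≤ W') :
    finrank F ↥(LinearMap.ker (g - 1)) =
      finrank F ↥(W ⊓ LinearMap.ker (g - 1) : Submodule F V) +
      finrank F ↥(W' ⊓ LinearMap.ker (g - 1) : Submodule F V) := by
  set K := LinearMap.ker (g - 1) with hK
  have h := Submodule.finrank_sup_add_finrank_inf_eq (W ⊓ K) (W' ⊓ K)
  rw [(hc.disjoint.mono inf_le_left inf_le_left).eq_bot, finrank_bot, add_zero] at h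
  rw [← h]
  have hsup : (W ⊓ K) ⊔ (W' ⊓ K) = K := by
    refine le_antisymm (sup_le inf_le_right inf_le_right) fun v hv => ?_
    obtain ⟨w, hw, w', hw', rfl⟩ := Submodule.mem_sup.1 (hc.sup_eq_top.ge (Submodule.mem_top (x := v)))
    rw [hK, LinearMap.mem_ker, map_add] at hv
    have h1 : (g - 1) w ∈ W := W.sub_mem (hW ⟨w, hw, rfl⟩) hw
    have h2 : (g - 1) w' ∈ W' := W'.sub_mem (hW' ⟨w', hw', rfl⟩) hw'
    have h3 : (g - 1) w = 0 := Submodule.disjoint_def.1 hc.disjoint _ h1
      (by rw [eq_neg_of_add_eq_zero_left hv]; exact W'.neg_mem h2)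
    rw [h3, zero_add] at hv
    exact Submodule.mem_sup.2 ⟨w, ⟨hw, h3⟩, w', ⟨hw', hv⟩, rfl⟩
  rw [hsup]

/-- Invariant summands of dimension `a`. -/
theorem power_fixed (hr : (r : F) ≠ 0) (a : ℕ) :
    ∀ (t : ℕ) {V : Type v} [AddCommGroup V] [Module F V] [FiniteDimensional F V]
      {g : Module.End F V}, g ^ r = 1 → finrank F V = a * t →
      t * (a % orderOf (Fintype.card F : ZMod r)) ≤ finrank F ↥(LinearMap.ker (g - 1)) →
      Dec g a t := by
  intro t
  induction t with
  | zero => intro V _ _ _ g _ hdim _; exact ⟨1, of_zero g (by simpa using hdim) (by simp) _⟩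
  | succ t ih =>
    intro V _ _ _ g hg hdim hfix
    set k := finrank F ↥(LinearMap.ker (g - 1)) with hk
    set c := orderOf (Fintype.card F : ZMod r) with hc
    have hkn : k ≤ finrank F V := Submodule.finrank_le _
    have hmod := finrank_modEq hr hg (W := ⊤) le_top
    rw [top_inf_eq, finrank_top, ← hc, ← hk] at hmod
    obtain ⟨M, hM⟩ := (Nat.modEq_iff_dvd' hkn).1 hmod.symm
    rw [mul_comm c M] at hM
    rw [Nat.mul_succ] at hdim
    rw [Nat.succ_mul] at hfix
    set b := min (a / c) M with hb
    have hac := Nat.mod_add_div' a c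
    have hb1 : b * c ≤ a / c * c := Nat.mul_le_mul_right c (min_le_left _ _)
    have hb2 : b * c ≤ M * c := Nat.mul_le_mul_right c (min_le_right _ _)
    have hkey : a - b * c ≤ k ∧ t * (a % c) + (a - b * c) ≤ k := by
      rcases le_total (a / c) M with h | h
      · rw [hb, min_eq_left h]; omega
      · rw [hb, min_eq_right h]
        have h' : M * c ≤ a / c * c := Nat.mul_le_mul_right c h
        have h'' : t * (a % c) ≤ a * t := by
          rw [mul_comm a t]; exact Nat.mul_le_mul_left t (Nat.mod_le a c)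
        omega
    obtain ⟨W, hWi, hWd, hWk⟩ := exists_sub hr hg (a := a - b * c) (b := b) hkey.1
      (by rw [← hc, ← hk]; omega)
    obtain ⟨W', hcp, hW'i⟩ := exists_invt_compl (z := (1 : F)) hr one_ne_zero
      (by rw [hg, one_smul]) hWi
    have hd := Submodule.finrank_add_eq_of_isCompl hcp
    have hka := finrank_ker_add hcp hWi hW'i
    rw [← hc] at hWd
    exact seq hcp.symm (map_le_iff'.1 hW'i) (map_le_iff'.1 hWi)
      (ih (restrict_pow_one hg _) (by omega) (by rw [finrank_ker_restrict]; omega))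
      ⟨_, of_single _ (by omega)⟩

/-- Lines permuted. -/
theorem power_lines (hr : (r : F) ≠ 0) (hc : orderOf (Fintype.card F : ZMod r) + 1 = r) :
    ∀ (l : ℕ) {V : Type v} [AddCommGroup V] [Module F V] [FiniteDimensional F V]
      {g : Module.End F V}, g ^ r = 1 → l ≤ finrank F ↥(LinearMap.ker (g - 1)) →
      finrank F V = finrank F ↥(LinearMap.ker (g - 1)) + l * orderOf (Fintype.card F : ZMod r) →
      Dec g 1 (finrank F V) := by
  intro l
  induction l with
  | zero =>
    intro V _ _ _ g _ _ hdim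
    rw [zero_mul, add_zero] at hdim
    have htop : LinearMap.ker (g - 1) = ⊤ := Submodule.eq_top_of_finrank_eq hdim.symm
    refine ⟨1, (Module.finBasis F V).reindex (Equiv.prodUnique _ _).symm, fun i j => ?_⟩
    have h1 : ∀ v, g v = v := fun v => by
      have : v ∈ LinearMap.ker (g - 1) := htop.ge trivial
      simpa [sub_eq_zero] using this
    rw [h1]
    exact Submodule.subset_span ⟨j, rfl⟩
  | succ l ih =>
    intro V _ _ _ g hg hl hdim
    set c := orderOf (Fintype.card F : ZMod r) with hcdef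
    have hcpos : 0 < c := orderOf_card_pos hr
    rw [Nat.succ_mul] at hdim
    obtain ⟨W, hWi, hWd, hWk⟩ := exists_sub hr hg (a := 1) (b := 1) (show 1 ≤ finrank F ↥(LinearMap.ker (g - 1)) by omega)
      (by rw [one_mul, ← hcdef]; omega)
    rw [one_mul, ← hcdef] at hWd
    obtain ⟨W', hcp, hW'i⟩ := exists_invt_compl (z := (1 : F)) hr one_ne_zero
      (by rw [hg, one_smul]) hWi
    have hd := Submodule.finrank_add_eq_of_isCompl hcp
    have hka := finrank_ker_add hcp hWi hW'i
    have hblock : DecP (g.restrict (map_le_iff'.1 hWi)) 1 (finRotate r) := by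
      set h := g.restrict (map_le_iff'.1 hWi) with hh
      have hh1 : h ^ r = 1 := restrict_pow_one hg _
      have hkh : finrank F ↥(LinearMap.ker (h - 1)) = 1 :=
        (finrank_ker_restrict (map_le_iff'.1 hWi)).trans hWk
      obtain ⟨f, hf, hf0⟩ := Submodule.exists_mem_ne_zero_of_ne_bot
        (fun e => by rw [e, finrank_bot] at hkh; exact zero_ne_one hkh : LinearMap.ker (h - 1) ≠ ⊥)
      have hTd := LinearMap.finrank_range_add_finrank_ker (h - 1)
      obtain ⟨w, hw, hw0⟩ := Submodule.exists_mem_ne_zero_of_ne_bot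
        (fun e => by rw [e, finrank_bot] at hTd; omega : LinearMap.range (h - 1) ≠ ⊥)
      set S := Submodule.span F (Set.range fun i : Fin r => (h ^ (i : ℕ)) (f + w)) with hS
      have hrpos := (Fact.out : r.Prime).pos
      have hmem : f + w ∈ S := Submodule.subset_span ⟨⟨0, hrpos⟩, by simp⟩
      have hinv : S.map h ≤ S := by
        rw [hS, Submodule.map_span, Submodule.span_le]
        rintro _ ⟨_, ⟨i, rfl⟩, rfl⟩
        rw [SetLike.mem_coe, ← Module.End.mul_apply, ← pow_succ']
        rcases Nat.lt_or_ge ((i : ℕ) + 1) r with h2 | h2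
        · exact Submodule.subset_span ⟨⟨_, h2⟩, rfl⟩
        · rw [show (i : ℕ) + 1 = r by omega, hh1]
          exact hmem
      have hsub : (h - 1) (f + w) ∈ S := S.sub_mem (hinv ⟨_, hmem, rfl⟩) hmem
      have hfz : (h - 1) f = 0 := hf
      have hne : (h - 1) w ≠ 0 := fun e =>
        hw0 (Submodule.disjoint_def.1 (disjoint_ker_range hr hh1) w e hw)
      have hT : LinearMap.range (h - 1) ≤ S := by
        have hle : S ⊓ LinearMap.range (h - 1) ≤ LinearMap.range (h - 1) := inf_le_right
        have hdvd : c ∣ finrank F ↥(S ⊓ LinearMap.range (h - 1) : Submodule F ↥W) :=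
          dvd_finrank_of_le_range hr hh1 (by
            rw [map_le_iff']
            exact fun v hv => ⟨map_le_iff'.1 hinv v hv.1, map_le_iff'.1 (range_inv h) v hv.2⟩) hle
        have hpos : 0 < finrank F ↥(S ⊓ LinearMap.range (h - 1) : Submodule F ↥W) := by
          refine Nat.pos_of_ne_zero fun e => hne ?_
          have : (h - 1) w ∈ S ⊓ LinearMap.range (h - 1) :=
            ⟨by simpa [map_add, hfz] using hsub, ⟨w, rfl⟩⟩
          rw [Submodule.finrank_eq_zero.1 e] at this
          exact this
        have := Nat.le_of_dvd hpos hdvd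
        rw [← Submodule.eq_of_le_of_finrank_le hle (by omega)]
        exact inf_le_left
      have hfS : f ∈ S := by
        have := S.sub_mem hmem (hT hw)
        simpa using this
      have hKS : LinearMap.ker (h - 1) ≤ S := by
        have h4 : Submodule.span F {f} = LinearMap.ker (h - 1) :=
          Submodule.eq_of_le_of_finrank_eq (Submodule.span_le.2 (Set.singleton_subset_iff.2 hf))
            (by rw [finrank_span_singleton hf0, hkh])
        rw [← h4]
        exact Submodule.span_le.2 (Set.singleton_subset_iff.2 hfS)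
      refine of_cyclic h (by omega) hrpos (f + w) ?_ (by rw [hh1]; exact Submodule.subset_span rfl)
      rw [← (isCompl_ker_range hr hh1).sup_eq_top]
      exact sup_le hKS hT
    have h1 := ih (restrict_pow_one hg (map_le_iff'.1 hW'i))
      (by rw [finrank_ker_restrict]; omega) (by rw [finrank_ker_restrict]; omega)
    have h2 := seq hcp.symm (map_le_iff'.1 hW'i) (map_le_iff'.1 hWi) h1 ⟨_, hblock⟩
    rwa [show finrank F ↥W' + r = finrank F V by omega] at h2

/-- An element with prescribed number of moved blocks and an annihilating polynomial of small degree. -/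
theorem exists_blocks [FiniteDimensional F V] (hr : (r : F) ≠ 0)
    (hc : 2 ≤ orderOf (Fintype.card F : ZMod r)) {b : ℕ} (hb : 0 < b)
    (hbn : b * orderOf (Fintype.card F : ZMod r) ≤ finrank F V) :
    ∃ g : Module.End F V, g ^ r = 1 ∧ LinearMap.det g = 1 ∧ g ≠ 1 ∧
      finrank F ↥(LinearMap.ker (g - 1)) + b * orderOf (Fintype.card F : ZMod r) = finrank F V ∧
      ∃ P : Polynomial F, P ≠ 0 ∧ P.natDegree ≤ orderOf (Fintype.card F : ZMod r) + 1 ∧
        Polynomial.aeval g P = 0 := by
  classical
  set c := orderOf (Fintype.card F : ZMod r) with hcdef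
  set k := finrank F V - b * c with hk
  obtain ⟨h, hh, hdet, hker⟩ := exists_fpf (V := Fin c → F) hr hc
  rw [Module.finrank_fin_fun, ← hcdef, Nat.mod_self, Submodule.finrank_eq_zero] at hker
  let g₀ : Module.End F ((Fin b → Fin c → F) × (Fin k → F)) :=
    (LinearMap.compLeft h (Fin b)).prodMap LinearMap.id
  have hpow : ∀ i (x : (Fin b → Fin c → F) × (Fin k → F)),
      (g₀ ^ i) x = (fun j => (h ^ i) (x.1 j), x.2) := by
    intro i
    induction i with
    | zero => intro x; simp
    | succ i ih => intro x; rw [pow_succ', Module.End.mul_apply, ih]; simp [g₀, pow_succ']; rfl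
  have hg₀ : g₀ ^ r = 1 := LinearMap.ext fun x => by rw [hpow, hh]; simp
  have hP : ∀ P : Polynomial F, ∀ x : (Fin b → Fin c → F) × (Fin k → F),
      Polynomial.aeval g₀ P x = (fun j => Polynomial.aeval h P (x.1 j), P.eval 1 • x.2) := by
    intro P
    induction P using Polynomial.induction_on' with
    | add p q hp hq => intro x; simp [hp, hq, add_smul, Pi.add_def]
    | monomial i s => intro x; simp [Polynomial.aeval_monomial, hpow, Pi.smul_def]
  have hd : finrank F ((Fin b → Fin c → F) × (Fin k → F)) = finrank F V := by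
    rw [Module.finrank_prod, Module.finrank_pi_fintype]; simp [hk]; omega
  let e : ((Fin b → Fin c → F) × (Fin k → F)) ≃ₗ[F] V := LinearEquiv.ofFinrankEq _ _ hd
  have hkerdim : finrank F ↥(LinearMap.ker (LinearEquiv.conjAlgEquiv F e g₀ - 1)) = k := by
    have hK : LinearMap.ker (LinearEquiv.conjAlgEquiv F e g₀ - 1) =
        LinearMap.range (e.toLinearMap ∘ₗ LinearMap.inr F (Fin b → Fin c → F) (Fin k → F)) := by
      ext v
      obtain ⟨x, rfl⟩ := e.surjective v
      have hfix : (LinearEquiv.conjAlgEquiv F e g₀ - 1) (e x) = e (g₀ x - x) := by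
        simp [LinearEquiv.conjAlgEquiv]
      rw [LinearMap.mem_ker, hfix, LinearEquiv.map_eq_zero_iff]
      constructor
      · intro hx
        refine ⟨x.2, congrArg e (Prod.ext ?_ rfl)⟩
        funext j
        have hj : (h - 1) (x.1 j) = 0 := congrArg (fun y => y.1 j) hx
        rw [← LinearMap.mem_ker, hker, Submodule.mem_bot] at hj
        exact hj.symm
      · rintro ⟨y, hy⟩
        rw [LinearMap.comp_apply, LinearEquiv.coe_coe, e.injective.eq_iff] at hy
        subst hy
        rw [sub_eq_zero]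
        refine Prod.ext (funext fun j => ?_) rfl
        show h 0 = 0
        exact map_zero h
    rw [hK, LinearMap.finrank_range_of_inj]
    rotate_left
    · exact e.injective.comp LinearMap.inr_injective
    exact Module.finrank_fin_fun F
  have hbc : 0 < b * c := Nat.mul_pos hb (by omega)
  refine ⟨LinearEquiv.conjAlgEquiv F e g₀, by rw [← map_pow, hg₀, map_one], ?_, ?_, by omega, ?_⟩
  · rw [LinearEquiv.conjAlgEquiv_apply, LinearMap.det_conj,
      LinearMap.det_prodMap, LinearMap.det_id, mul_one]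
    set d := LinearMap.det (LinearMap.compLeft h (Fin b)) with hd'
    have hdr : d ^ r = 1 := by
      rw [hd', ← map_pow]
      have : LinearMap.compLeft h (Fin b) ^ r = 1 := LinearMap.ext fun x => by
        have := congrArg Prod.fst (hpow r (x, 0))
        rw [hg₀] at this
        have h2 : ∀ i, (LinearMap.compLeft h (Fin b) ^ i) x = fun j => (h ^ i) (x j) := by
          intro i
          induction i with
          | zero => simp
          | succ i ih => rw [pow_succ', Module.End.mul_apply, ih]; simp [pow_succ']; rfl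
        rw [h2, hh]; simp
      rw [this, map_one]
    have hd0 : d ≠ 0 := fun e0 => by
      rw [e0, zero_pow (Fact.out : r.Prime).ne_zero] at hdr; exact zero_ne_one hdr
    have hcop : Nat.gcd r (Fintype.card F - 1) = 1 := by
      refine (Fact.out : r.Prime).coprime_iff_not_dvd.2 fun hdvd => ?_
      have h1 : (Fintype.card F : ZMod r) ^ 1 = 1 := by
        rw [card_pow_eq_one_iff, pow_one]; exact hdvd
      rw [pow_one] at h1
      rw [hcdef, h1, orderOf_one] at hc
      omega
    have := pow_gcd_eq_one.2 ⟨hdr, FiniteField.pow_card_sub_one_eq_one d hd0⟩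
    rwa [hcop, pow_one] at this
  · intro e1
    rw [e1, sub_self, LinearMap.ker_zero, finrank_top] at hkerdim
    omega
  · refine ⟨(Polynomial.X - Polynomial.C 1) * LinearMap.charpoly h,
      mul_ne_zero (Polynomial.X_sub_C_ne_zero 1) (LinearMap.charpoly_monic h).ne_zero, ?_, ?_⟩
    · refine Polynomial.natDegree_mul_le.trans ?_
      rw [Polynomial.natDegree_X_sub_C, LinearMap.charpoly_natDegree, Module.finrank_fin_fun]
      omega
    · rw [Polynomial.aeval_algHom_apply]
      have : Polynomial.aeval g₀ ((Polynomial.X - Polynomial.C 1) * LinearMap.charpoly h) = 0 :=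
        LinearMap.ext fun x => by
          rw [hP]
          simp [LinearMap.aeval_self_charpoly, Prod.ext_iff]
          rfl
      rw [this, map_zero]

end Power

/-! ### Necessary conditions -/

section Necessary

variable [FiniteDimensional F V] {t a : ℕ} {D : Fin t → Submodule F V}

theorem exists_proj (hind : iSupIndep D) (htop : iSup D = ⊤) :
    ∃ π : Fin t → Module.End F V, (∀ j, ∀ x, π j x ∈ D j) ∧ (∀ j, ∀ x ∈ D j, π j x = x) ∧
      (∀ i j, i ≠ j → ∀ x ∈ D i, π j x = 0) ∧ ∀ x, (∑ j, π j x) = x := by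
  classical
  have hc : ∀ j, IsCompl (D j) (⨆ (i) (_ : i ≠ j), D i) := fun j => ⟨hind j, by
    rw [codisjoint_iff, eq_top_iff, ← htop]
    refine iSup_le fun i => ?_
    by_cases hi : i = j
    · subst hi; exact le_sup_left
    · exact le_sup_of_le_right (le_iSup₂_of_le i hi le_rfl)⟩
  let π : Fin t → Module.End F V := fun j => Submodule.projection _ _ (hc j)
  have h1 : ∀ j, ∀ x ∈ D j, π j x = x := fun j x hx =>
    Submodule.projection_apply_left (hc j) ⟨x, hx⟩
  have h2 : ∀ i j, i ≠ j → ∀ x ∈ D i, π j x = 0 := fun i j hij x hx => by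
    show Submodule.projection _ _ (hc j) x = 0
    rw [Submodule.projection_apply_eq_zero_iff]
    exact (le_iSup₂_of_le i hij le_rfl : D i ≤ _) hx
  refine ⟨π, fun j x => Submodule.projection_apply_mem (hc j) x, h1, h2, ?_⟩
  suffices ⊤ ≤ LinearMap.eqLocus (∑ j, π j) LinearMap.id from fun x => by
    have := this (Submodule.mem_top (x := x))
    rw [LinearMap.mem_eqLocus, LinearMap.sum_apply] at this
    exact this
  rw [← htop]
  refine iSup_le fun i x hx => ?_
  rw [LinearMap.mem_eqLocus, LinearMap.sum_apply, Finset.sum_eq_single i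
    (fun j _ hj => h2 i j (Ne.symm hj) x hx) (fun h => absurd (Finset.mem_univ i) h), h1 i x hx]
  rfl

/-- Families of vectors from independent subspaces map injectively. -/
theorem sum_finrank_le (hind : iSupIndep D) (htop : iSup D = ⊤) (U : Fin t → Submodule F V)
    (hU : ∀ j, U j ≤ D j) (X : Submodule F V) (hX : ∀ j, U j ≤ X) :
    ∑ j, finrank F ↥(U j) ≤ finrank F ↥X := by
  classical
  obtain ⟨π, -, h1, h2, -⟩ := exists_proj hind htop
  let Φ : (∀ j, ↥(U j)) →ₗ[F] ↥X :=
    LinearMap.codRestrict X (∑ j, (U j).subtype ∘ₗ LinearMap.proj j) (fun f => by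
      rw [LinearMap.sum_apply]
      exact X.sum_mem fun j _ => hX j (f j).2)
  have hinj : Function.Injective Φ := by
    rw [injective_iff_map_eq_zero]
    intro f hf
    funext j
    have := congrArg (fun y : ↥X => π j (y : V)) hf
    simp only [Φ, LinearMap.codRestrict_apply, LinearMap.sum_apply, LinearMap.comp_apply,
      LinearMap.proj_apply, Submodule.coe_subtype, map_sum, ZeroMemClass.coe_zero, map_zero] at this
    rw [Finset.sum_eq_single j (fun i _ hi => h2 i j hi _ (hU i (f i).2))
      (fun h => absurd (Finset.mem_univ j) h), h1 j _ (hU j (f j).2)] at this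
    exact Subtype.ext this
  have := LinearMap.finrank_le_finrank_of_injective hinj
  rwa [Module.finrank_pi_fintype] at this

variable {g : Module.End F V} {σ : Equiv.Perm (Fin t)} {r : ℕ}

theorem map_pow_eq (hσ : ∀ j, (D j).map g = D (σ j)) :
    ∀ i j, (D j).map (g ^ i) = D ((σ ^ i) j) := by
  intro i
  induction i with
  | zero => intro j; rw [pow_zero, pow_zero, Module.End.one_eq_id, Submodule.map_id]; rfl
  | succ i ih =>
    intro j
    rw [pow_succ', Module.End.mul_eq_comp, Submodule.map_comp, ih, hσ, pow_succ',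
      Equiv.Perm.mul_apply]

theorem perm_pow_eq_one (hind : iSupIndep D) (hne : ∀ j, D j ≠ ⊥) (hg : g ^ r = 1)
    (hσ : ∀ j, (D j).map g = D (σ j)) (j : Fin t) : (σ ^ r) j = j := by
  apply hind.injective hne
  rw [← map_pow_eq hσ, hg, Module.End.one_eq_id, Submodule.map_id]

variable [Fact r.Prime]

theorem period (hr1 : ∀ j, (σ ^ r) j = j) {j : Fin t} (hj : σ j ≠ j) {i : ℕ} (hi : 0 < i)
    (hir : i < r) : (σ ^ i) j ≠ j := by
  intro heq
  have h1 : Function.IsPeriodicPt σ r j := by
    rw [Function.IsPeriodicPt, Function.IsFixedPt, ← Equiv.Perm.coe_pow]; exact hr1 j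
  have h2 : Function.IsPeriodicPt σ i j := by
    rw [Function.IsPeriodicPt, Function.IsFixedPt, ← Equiv.Perm.coe_pow]; exact heq
  have h3 := h2.gcd h1
  rw [Nat.coprime_comm.mp ((Nat.Prime.coprime_iff_not_dvd Fact.out).mpr
    (Nat.not_dvd_of_pos_of_lt hi hir))] at h3
  exact hj h3

theorem pow_inj (hr1 : ∀ j, (σ ^ r) j = j) {j : Fin t} (hj : σ j ≠ j) {i l : ℕ} (hi : i < r)
    (hl : l < r) (h : (σ ^ i) j = (σ ^ l) j) : i = l := by
  by_contra hne
  rcases Nat.lt_or_gt_of_ne hne with hlt | hlt
  · apply period hr1 hj (show 0 < l - i by omega) (by omega)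
    apply (σ ^ i).injective
    rw [← Equiv.Perm.mul_apply, ← pow_add, show i + (l - i) = l by omega, h]
  · apply period hr1 hj (show 0 < i - l by omega) (by omega)
    apply (σ ^ l).injective
    rw [← Equiv.Perm.mul_apply, ← pow_add, show l + (i - l) = i by omega, ← h]

/-- A moved summand forces the whole of `X ^ r - 1`. -/
theorem orbit_poly (hind : iSupIndep D) (htop : iSup D = ⊤) (hne : ∀ j, D j ≠ ⊥) (hg : g ^ r = 1)
    (hσ : ∀ j, (D j).map g = D (σ j)) {j : Fin t} (hj : σ j ≠ j) {P : Polynomial F} (hP0 : P ≠ 0)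
    (hP : Polynomial.aeval g P = 0) : r ≤ P.natDegree := by
  by_contra hlt
  push Not at hlt
  obtain ⟨π, -, h1, h2, -⟩ := exists_proj hind htop
  obtain ⟨v, hv, hv0⟩ := Submodule.exists_mem_ne_zero_of_ne_bot (hne j)
  have hmem : ∀ i, (g ^ i) v ∈ D ((σ ^ i) j) := fun i =>
    (map_pow_eq hσ i j).le ⟨v, hv, rfl⟩
  have hr1 := perm_pow_eq_one hind hne hg hσ
  have hsum := LinearMap.congr_fun hP v
  rw [Polynomial.aeval_eq_sum_range, LinearMap.sum_apply, LinearMap.zero_apply] at hsum
  apply Polynomial.leadingCoeff_ne_zero.2 hP0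
  have := congrArg (π ((σ ^ P.natDegree) j)) hsum
  rw [map_sum, map_zero, Finset.sum_eq_single P.natDegree] at this
  · rw [LinearMap.smul_apply, map_smul, h1 _ _ (hmem _), smul_eq_zero] at this
    refine this.resolve_right fun e => hv0 ?_
    have h3 := congrArg (g ^ (r - P.natDegree)) e
    rw [← Module.End.mul_apply, ← pow_add, show r - P.natDegree + P.natDegree = r by omega, hg,
      map_zero] at h3
    exact h3
  · intro i hi hne'
    rw [Finset.mem_range] at hi
    rw [LinearMap.smul_apply, map_smul, h2 _ _ ?_ _ (hmem i), smul_zero]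
    exact fun e => hne' (pow_inj hr1 hj (by omega) hlt e)
  · intro h; exact absurd (Finset.mem_range.2 (Nat.lt_succ_self _)) h

omit [FiniteDimensional F V] [Fact r.Prime] in
theorem sum_pow_mem_ker (hg : g ^ r = 1) (v : V) :
    (∑ i ∈ Finset.range r, g ^ i) v ∈ LinearMap.ker (g - 1) := by
  rw [LinearMap.mem_ker, ← Module.End.mul_apply, mul_geom_sum, hg, sub_self, LinearMap.zero_apply]

/-- A moved summand embeds into the fixed space. -/
theorem le_finrank_ker (hind : iSupIndep D) (htop : iSup D = ⊤) (hne : ∀ j, D j ≠ ⊥) (hg : g ^ r = 1)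
    (hσ : ∀ j, (D j).map g = D (σ j)) {j : Fin t} (hj : σ j ≠ j) :
    finrank F ↥(D j) ≤ finrank F ↥(LinearMap.ker (g - 1)) := by
  obtain ⟨π, -, h1, h2, -⟩ := exists_proj hind htop
  have hr1 := perm_pow_eq_one hind hne hg hσ
  let Φ : ↥(D j) →ₗ[F] ↥(LinearMap.ker (g - 1)) :=
    LinearMap.codRestrict _ ((∑ i ∈ Finset.range r, g ^ i) ∘ₗ (D j).subtype)
      (fun v => sum_pow_mem_ker hg _)
  refine LinearMap.finrank_le_finrank_of_injective (f := Φ) ?_
  rw [injective_iff_map_eq_zero]
  intro v hv
  have := congrArg (fun y : ↥(LinearMap.ker (g - 1)) => π j (y : V)) hv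
  simp only [Φ, LinearMap.codRestrict_apply, LinearMap.comp_apply, Submodule.coe_subtype,
    LinearMap.sum_apply, map_sum, ZeroMemClass.coe_zero, map_zero] at this
  rw [Finset.sum_eq_single 0] at this
  · rw [pow_zero, Module.End.one_apply, h1 j _ v.2] at this
    exact Subtype.ext this
  · intro i hi hi0
    rw [Finset.mem_range] at hi
    exact h2 _ j (period hr1 hj (Nat.pos_of_ne_zero hi0) hi) _ ((map_pow_eq hσ i j).le ⟨_, v.2, rfl⟩)
  · intro h; exact absurd (Finset.mem_range.2 (Fact.out : r.Prime).pos) h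

/-- Orbit representatives when fixed summands are fixed pointwise. -/
theorem exists_reps (hr : (r : F) ≠ 0) (hind : iSupIndep D) (htop : iSup D = ⊤)
    (hdim : ∀ j, finrank F ↥(D j) = a) (ha : 0 < a) (hg : g ^ r = 1)
    (hσ : ∀ j, (D j).map g = D (σ j)) (hpt : ∀ j, σ j = j → ∀ v ∈ D j, g v = v) :
    ∃ R : ℕ, finrank F ↥(LinearMap.ker (g - 1)) = R * a ∧ t ≤ r * R ∧
      ((∃ j, σ j ≠ j) → R + (r - 1) ≤ t) := by
  classical
  obtain ⟨π, h0, h1, h2, h3⟩ := exists_proj hind htop
  have hne : ∀ j, D j ≠ ⊥ := fun j e => by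
    have := hdim j; rw [e, finrank_bot] at this; omega
  have hr1 := perm_pow_eq_one hind hne hg hσ
  have hrp := (Fact.out : r.Prime).pos
  let R : Finset (Fin t) := Finset.univ.filter fun j => ∀ i, i < r → j ≤ (σ ^ i) j
  have hrep : ∀ j, ∃ p ∈ R, ∃ i < r, (σ ^ i) p = j := by
    intro j
    let O := (Finset.range r).image fun i => (σ ^ i) j
    have hO : O.Nonempty := ⟨j, Finset.mem_image.2 ⟨0, Finset.mem_range.2 hrp, by simp⟩⟩
    obtain ⟨i₀, hi₀, hp⟩ := Finset.mem_image.1 (O.min'_mem hO)
    rw [Finset.mem_range] at hi₀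
    refine ⟨(σ ^ i₀) j, Finset.mem_filter.2 ⟨Finset.mem_univ _, fun i hi => ?_⟩, ?_⟩
    · rw [hp, ← hp, ← Equiv.Perm.mul_apply, ← pow_add, hp]
      refine O.min'_le _ ?_
      rcases Nat.lt_or_ge (i + i₀) r with h | h
      · exact Finset.mem_image.2 ⟨i + i₀, Finset.mem_range.2 h, rfl⟩
      · refine Finset.mem_image.2 ⟨i + i₀ - r, Finset.mem_range.2 (by omega), ?_⟩
        conv_rhs => rw [show i + i₀ = (i + i₀ - r) + r by omega, pow_add, Equiv.Perm.mul_apply, hr1]
    · rcases Nat.eq_zero_or_pos i₀ with h | h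
      · exact ⟨0, hrp, by subst h; simp⟩
      · refine ⟨r - i₀, by omega, ?_⟩
        rw [← Equiv.Perm.mul_apply, ← pow_add, show r - i₀ + i₀ = r by omega, hr1]
  have huniq : ∀ p ∈ R, ∀ p' ∈ R, ∀ i < r, (σ ^ i) p = p' → p = p' := by
    intro p hp p' hp' i hi h
    have hle := (Finset.mem_filter.1 hp).2 i hi
    rcases Nat.eq_zero_or_pos i with h0' | h0'
    · subst h0'; simpa using h
    have hle' := (Finset.mem_filter.1 hp').2 (r - i) (by omega)
    rw [← h, ← Equiv.Perm.mul_apply, ← pow_add, show r - i + i = r by omega, hr1] at hle'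
    rw [h] at hle hle'
    exact le_antisymm hle hle'
  refine ⟨R.card, le_antisymm ?_ ?_, ?_, ?_⟩
  · let Ψ : ↥(LinearMap.ker (g - 1)) →ₗ[F] (∀ p : R, ↥(D p)) :=
      LinearMap.pi fun p => LinearMap.codRestrict (D p) (π p ∘ₗ (LinearMap.ker (g - 1)).subtype)
        (fun x => h0 _ _)
    have hinj : Function.Injective Ψ := by
      rw [injective_iff_map_eq_zero]
      intro x hx
      apply Subtype.ext
      rw [← h3 (x : V)]
      refine Finset.sum_eq_zero fun j _ => ?_
      obtain ⟨p, hp, i, -, rfl⟩ := hrep j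
      have hzero : π p (x : V) = 0 := congrArg Subtype.val (congrFun hx ⟨p, hp⟩)
      have hfix : (g ^ i) (x : V) = x := by
        have h4 : g (x : V) = x := by
          have h5 := LinearMap.mem_ker.1 x.2
          rw [LinearMap.sub_apply, Module.End.one_apply, sub_eq_zero] at h5
          exact h5
        induction i with
        | zero => simp
        | succ i ih => rw [pow_succ, Module.End.mul_apply, h4, ih (Finset.mem_univ _)]
      have hcomm : π ((σ ^ i) p) ((g ^ i) (x : V)) = (g ^ i) (π p (x : V)) := by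
        conv_lhs => rw [← h3 (x : V), map_sum, map_sum]
        rw [Finset.sum_eq_single p]
        · exact h1 _ _ ((map_pow_eq hσ i p).le ⟨_, h0 _ _, rfl⟩)
        · intro l _ hl
          refine h2 _ _ ?_ _ ((map_pow_eq hσ i l).le ⟨_, h0 _ _, rfl⟩)
          exact fun e => hl ((σ ^ i).injective e)
        · intro h; exact absurd (Finset.mem_univ p) h
      rwa [hfix, hzero, map_zero] at hcomm
    have := LinearMap.finrank_le_finrank_of_injective hinj
    rw [Module.finrank_pi_fintype] at this
    simpa [hdim] using this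
  · let Φ : (∀ p : R, ↥(D p)) →ₗ[F] ↥(LinearMap.ker (g - 1)) :=
      LinearMap.codRestrict _
        ((∑ i ∈ Finset.range r, g ^ i) ∘ₗ ∑ p : R, (D p).subtype ∘ₗ LinearMap.proj p)
        (fun f => sum_pow_mem_ker hg _)
    have hinj : Function.Injective Φ := by
      rw [injective_iff_map_eq_zero]
      intro f hf
      funext p
      have := congrArg (fun y : ↥(LinearMap.ker (g - 1)) => π p (y : V)) hf
      simp only [Φ, LinearMap.codRestrict_apply, LinearMap.comp_apply, LinearMap.sum_apply,
        LinearMap.proj_apply, Submodule.coe_subtype, map_sum, ZeroMemClass.coe_zero, map_zero] at this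
      rw [Finset.sum_eq_single p] at this
      · by_cases hp : σ p = p
        · have hfix : ∀ i, (g ^ i) (f p : V) = (f p : V) := by
            intro i
            induction i with
            | zero => simp
            | succ i ih => rw [pow_succ, Module.End.mul_apply, hpt _ hp _ (f p).2, ih]
          simp only [hfix, h1 _ _ (f p).2, Finset.sum_const, Finset.card_range,
            ← Nat.cast_smul_eq_nsmul F, smul_eq_zero] at this
          exact Subtype.ext (this.resolve_left hr)
        · rw [Finset.sum_eq_single 0] at this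
          · rw [pow_zero, Module.End.one_apply, h1 _ _ (f p).2] at this
            exact Subtype.ext this
          · intro i hi hi0
            rw [Finset.mem_range] at hi
            exact h2 _ _ (period hr1 hp (Nat.pos_of_ne_zero hi0) hi) _
              ((map_pow_eq hσ i p).le ⟨_, (f p).2, rfl⟩)
          · intro h; exact absurd (Finset.mem_range.2 hrp) h
      · intro l _ hl
        refine Finset.sum_eq_zero fun i hi => ?_
        rw [Finset.mem_range] at hi
        refine h2 _ _ ?_ _ ((map_pow_eq hσ i l).le ⟨_, (f l).2, rfl⟩)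
        exact fun e => hl (Subtype.ext (huniq l l.2 p p.2 i hi e))
      · intro h; exact absurd (Finset.mem_univ p) h
    have := LinearMap.finrank_le_finrank_of_injective hinj
    rw [Module.finrank_pi_fintype] at this
    simpa [hdim] using this
  · have hcov : Finset.univ ⊆ (R ×ˢ Finset.range r).image fun x => (σ ^ x.2) x.1 := by
      intro j _
      obtain ⟨p, hp, i, hi, h⟩ := hrep j
      exact Finset.mem_image.2 ⟨(p, i), Finset.mem_product.2 ⟨hp, Finset.mem_range.2 hi⟩, h⟩
    have := (Finset.card_le_card hcov).trans Finset.card_image_le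
    rw [Finset.card_univ, Fintype.card_fin, Finset.card_product, Finset.card_range] at this
    rw [mul_comm]; exact this
  · rintro ⟨j, hj⟩
    obtain ⟨p, hp, i, -, rfl⟩ := hrep j
    have hp' : σ p ≠ p := fun e => hj (by
      rw [← Equiv.Perm.mul_apply, ← pow_succ', pow_succ, Equiv.Perm.mul_apply, e])
    let O := (Finset.Ico 1 r).image fun l => (σ ^ l) p
    have hO : O.card = r - 1 := by
      rw [Finset.card_image_of_injOn, Nat.card_Ico]
      intro l hl l' hl' h
      simp only [Finset.coe_Ico, Set.mem_Ico] at hl hl'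
      exact pow_inj hr1 hp' hl.2 hl'.2 h
    have hd : Disjoint R O := by
      rw [Finset.disjoint_left]
      intro x hx hxO
      obtain ⟨l, hl, rfl⟩ := Finset.mem_image.1 hxO
      rw [Finset.mem_Ico] at hl
      exact period hr1 hp' hl.1 hl.2 (huniq p hp _ hx l hl.2 rfl).symm
    have := Finset.card_le_univ (R ∪ O)
    rw [Finset.card_union_of_disjoint hd, hO, Fintype.card_fin] at this
    exact this

end Necessary

end Cfsg.Agent.DecompPerm84
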