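import Mathlib
import Cfsg.Agent.Lib.BlockTheoryDefect
import Cfsg.Agent.Lib.BlockContribBounds

/-!
# Regular classes of a given defect and the blocks of that defect

The defect of an element is the exponent of `p` in the order of its centralizer.
-/

set_option autoImplicit false

open scoped ComplexConjugate

namespace Cfsg.Agent.DefectClasses79

open Cfsg BlockTheoryLocalRing BlockTheoryCentre BlockTheoryBrauer BlockTheoryIdem BlockTheoryDefect

attribute [local instance] Classical.propDecidable

variable {p : ℕ} {M : Ideal AlgInt} {G : Type*} [Group G] [Fintype G]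

/-- The defect of the class of an element. -/
noncomputable def elemDefect (p : ℕ) (x : G) : ℕ :=
  (Nat.card (Subgroup.centralizer ({x} : Set G))).factorization p

variable [Fact p.Prime]

theorem card_sylowIn {x : G} (S : Sylow p (Subgroup.centralizer ({x} : Set G))) :
    Nat.card (sylowIn S) = p ^ elemDefect p x := by
  rw [sylowIn, Subgroup.card_map_of_injective (Subgroup.subtype_injective _)]
  exact S.card_eq_multiplicity

/-- A unit coefficient bounds the defect of the class by that of the block. -/
theorem elemDefect_le_of_coeff (hM : IsPModular p M) {B : Set (IrrCharacter G)} (hB : IsPBlock M B)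
    {x : G} (hx : ¬ MemLocalIdeal M (blockCoeff B x)) : elemDefect p x ≤ blockDefect p B := by
  obtain ⟨D, hD⟩ := exists_defectGroup hM hB
  let S : Sylow p (Subgroup.centralizer ({x} : Set G)) := default
  have h := card_le_of_conjLe (conjLe_defect_of_coeff hM hB hD hx (IsConj.refl x)
    (isPGroup_sylowIn S) (mem_centralizer_sylowIn S))
  rw [card_sylowIn, BlockContribBounds.card_defectGroup hM hB hD] at h
  exact (Nat.pow_le_pow_iff_right hM.1.one_lt).1 h

/-- A unit central character bounds the defect of the block by that of the class. -/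
theorem le_elemDefect_of_omega (hM : IsPModular p M) {B : Set (IrrCharacter G)} (hB : IsPBlock M B)
    {χ : IrrCharacter G} (hχ : χ ∈ B) {x : G}
    (hx : ¬ MemLocalIdeal M (centralChar (χ : G → ℂ) x)) : blockDefect p B ≤ elemDefect p x := by
  obtain ⟨D, hD⟩ := exists_defectGroup hM hB
  let S : Sylow p (Subgroup.centralizer ({x} : Set G)) := default
  have hDp := isPGroup_of_isDefectGroup hD
  by_contra hlt
  refine hx ?_
  rw [← omega_classSum (irr_classFun χ)]
  refine omega_ideal_of_cut_small hM hB hDp (not_small_cut_defect hM hB hD) (isCen_classSum x)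
    (isInt_classSum hM x) (fun y => ?_) hχ
  rw [coeff_cut]
  split_ifs with hy
  · rw [classSum, coeff_ofFun]
    split_ifs with hxy
    · exfalso
      have h := card_le_of_conjLe (conjLe_sylowIn_of_isConj hDp hxy hy S)
      rw [card_sylowIn, BlockContribBounds.card_defectGroup hM hB hD] at h
      exact hlt ((Nat.pow_le_pow_iff_right hM.1.one_lt).1 h)
    · exact ideal_zero hM
  · exact ideal_zero hM

/-- The classes of regular elements of defect `d`. -/
noncomputable def regClasses (p d : ℕ) (G : Type*) [Group G] [Fintype G] : Finset (ConjClasses G) :=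
  Finset.univ.filter fun C => ¬ p ∣ orderOf C.out ∧ elemDefect p C.out = d

/-- Orthogonality on the regular classes of defect `d`. -/
theorem sum_regClasses_sub (hM : IsPModular p M) {d : ℕ} {B : Set (IrrCharacter G)}
    (hB : IsPBlock M B) (hd : blockDefect p B = d) (φ : IrrCharacter G)
    (hφ : blockDefect p (blockOf M (φ : G → ℂ)) = d) :
    MemLocalIdeal M ((∑ C ∈ regClasses p d G, blockCoeff B C.out * centralChar (φ : G → ℂ) C.out) -
      if φ ∈ B then 1 else 0) := by
  have h : ∑ C : ConjClasses G, blockCoeff B C.out * centralChar (φ : G → ℂ) C.out =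
      if φ ∈ B then 1 else 0 := by
    rw [← omega_idem B φ, (isCen_idem B).eq_sum_classSum, map_sum]
    refine Finset.sum_congr rfl fun C _ => ?_
    rw [map_smul, smul_eq_mul, omega_classSum (irr_classFun φ), coeff_idem]
  rw [← h, ← Finset.sum_sdiff (Finset.subset_univ (regClasses p d G)), sub_add_cancel_right]
  refine ideal_neg (ideal_sum hM fun C hC => ?_)
  by_cases hr : p ∣ orderOf C.out
  · rw [blockCoeff_eq_zero_of_dvd hM hB hr, zero_mul]; exact ideal_zero hM
  by_cases hc : MemLocalIdeal M (blockCoeff B C.out)
  · exact ideal_mul_right hM hc (of_isIntegral hM (isIntegral_centralChar φ _))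
  by_cases hw : MemLocalIdeal M (centralChar (φ : G → ℂ) C.out)
  · exact ideal_mul_left hM (blockCoeff_mem hM hB _) hw
  have h1 := elemDefect_le_of_coeff hM hB hc
  have h2 := le_elemDefect_of_omega hM (isPBlock_blockOf φ) (self_mem_blockOf hM φ) hw
  exact absurd ⟨hr, by omega⟩ fun h' => (Finset.mem_sdiff.1 hC).2 (Finset.mem_filter.2 ⟨Finset.mem_univ _, h'⟩)

/-- The local ideal as an ideal of the local ring. -/
noncomputable def idealOf (hM : IsPModular p M) : Ideal (localRing hM) where
  carrier := {z | MemLocalIdeal M (z : ℂ)}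
  add_mem' := fun ha hb => ideal_add hM ha hb
  zero_mem' := ideal_zero hM
  smul_mem' := fun c _ hx => ideal_mul_left hM c.2 hx

/-- A matrix congruent to the identity has nonzero determinant. -/
theorem det_ne_zero_of_congr_one (hM : IsPModular p M) {n : Type*} [Fintype n] [DecidableEq n]
    (X : Matrix n n ℂ) (hX : ∀ i j, MemLocalRing M (X i j))
    (h : ∀ i j, MemLocalIdeal M (X i j - if i = j then 1 else 0)) : X.det ≠ 0 := by
  let Y : Matrix n n (localRing hM) := fun i j => ⟨X i j, hX i j⟩
  have hY : (Ideal.Quotient.mk (idealOf hM)).mapMatrix Y = 1 := by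
    ext i j
    rw [RingHom.mapMatrix_apply, Matrix.map_apply, Matrix.one_apply]
    by_cases hij : i = j
    · rw [if_pos hij, ← map_one (Ideal.Quotient.mk (idealOf hM)), Ideal.Quotient.eq]
      show MemLocalIdeal M (X i j - 1)
      simpa [hij] using h i j
    · rw [if_neg hij, Ideal.Quotient.eq_zero_iff_mem]
      show MemLocalIdeal M (X i j)
      simpa [hij] using h i j
  intro h0
  have hdet : Y.det = 0 := by
    refine Subtype.ext ?_
    show (localRing hM).subtype Y.det = 0
    rw [RingHom.map_det]
    exact h0
  have := RingHom.map_det (Ideal.Quotient.mk (idealOf hM)) Y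
  rw [hY, hdet, map_zero, Matrix.det_one, eq_comm, ← map_one (Ideal.Quotient.mk (idealOf hM)),
    Ideal.Quotient.eq_zero_iff_mem] at this
  exact one_not_ideal hM this

/-- Blocks of defect `d` are no more numerous than regular classes of defect `d`. -/
theorem card_blocks_le (hM : IsPModular p M) (d : ℕ) :
    Nat.card {B : Set (IrrCharacter G) // IsPBlock M B ∧ blockDefect p B = d} ≤
      (regClasses p d G).card := by
  have := Fintype.ofFinite {B : Set (IrrCharacter G) // IsPBlock M B ∧ blockDefect p B = d}
  set ι := {B : Set (IrrCharacter G) // IsPBlock M B ∧ blockDefect p B = d}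
  choose χ hχ using fun B : ι => block_nonempty hM B.2.1
  let A : Matrix ι (regClasses p d G) ℂ := fun B C => blockCoeff B.1 C.1.out
  let W : Matrix (regClasses p d G) ι ℂ := fun C B => centralChar (χ B : G → ℂ) C.1.out
  have hdet : (A * W).det ≠ 0 := by
    refine det_ne_zero_of_congr_one hM _ (fun B B' => ?_) fun B B' => ?_
    · rw [Matrix.mul_apply]
      exact (localRing hM).sum_mem fun C _ => (localRing hM).mul_mem (blockCoeff_mem hM B.2.1 _)
        (of_isIntegral hM (isIntegral_centralChar _ _))
    · rw [Matrix.mul_apply]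
      have hB' : blockOf M (χ B' : G → ℂ) = B'.1 := (eq_blockOf_of_mem hM B'.2.1 (hχ B')).symm
      have h := sum_regClasses_sub hM B.2.1 B.2.2 (χ B') (hB'.symm ▸ B'.2.2)
      rw [← Finset.sum_coe_sort] at h
      have hiff : (χ B' ∈ B.1) ↔ B = B' :=
        ⟨fun hm => Subtype.ext (block_eq_of_mem hM B.2.1 B'.2.1 hm (hχ B')), fun e => e ▸ hχ B'⟩
      rw [if_congr hiff rfl rfl] at h
      exact h
  have hr := Matrix.rank_of_isUnit (A * W) ((Matrix.isUnit_iff_isUnit_det _).2 (isUnit_iff_ne_zero.2 hdet))
  have := (Matrix.rank_mul_le_left A W).trans (Matrix.rank_le_card_width A)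
  rw [hr, Fintype.card_coe, ← Nat.card_eq_fintype_card] at this
  exact this

/-- Agreement on the regular classes of defect `d` decides the block. -/
theorem sameBlock_of_agree (hM : IsPModular p M) {d : ℕ} (χ ψ : IrrCharacter G)
    (hχ : blockDefect p (blockOf M (χ : G → ℂ)) = d) (hψ : blockDefect p (blockOf M (ψ : G → ℂ)) = d)
    (h : ∀ x : G, ¬ p ∣ orderOf x → elemDefect p x = d →
      MemLocalIdeal M (centralChar (χ : G → ℂ) x - centralChar (ψ : G → ℂ) x)) :
    SameBlock M (χ : G → ℂ) (ψ : G → ℂ) := by
  have hB := isPBlock_blockOf χ (M := M)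
  by_contra hne
  have h1 := sum_regClasses_sub hM hB hχ χ hχ
  have h2 := sum_regClasses_sub hM hB hχ ψ hψ
  rw [if_pos (self_mem_blockOf hM χ)] at h1
  rw [if_neg (show ψ ∉ blockOf M (χ : G → ℂ) from hne)] at h2
  refine one_not_ideal hM ?_
  have hs : MemLocalIdeal M (∑ C ∈ regClasses p d G, blockCoeff (blockOf M (χ : G → ℂ)) C.out *
      (centralChar (χ : G → ℂ) C.out - centralChar (ψ : G → ℂ) C.out)) :=
    ideal_sum hM fun C hC => ideal_mul_left hM (blockCoeff_mem hM hB _)
      (h _ (Finset.mem_filter.1 hC).2.1 (Finset.mem_filter.1 hC).2.2)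
  have h3 := ideal_sub hM (ideal_sub hM hs h1) (ideal_neg h2)
  simp only [mul_sub, Finset.sum_sub_distrib] at h3
  convert h3 using 1
  ring

end Cfsg.Agent.DefectClasses79
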