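import Cfsg.Agent.Lib.BrauerBlocksVal
import Mathlib

/-!
# The field of roots of unity of order prime to `p`, and adjoining a `p`-th root of unity

`p` is unramified in `Km m = ℚ(μ_m)` for `p ∤ m`; hence in `Km m (ζ)`, `ζ ^ p = 1`, the integral
elements are congruent to their conjugates fixing `μ_m`.
-/

set_option autoImplicit false

open Finset

namespace Cfsg.Agent.DefectOneField7

open Cfsg Cfsg.Agent.BrauerBlocksVal

/-- The `m`-th roots of unity. -/
def muSet (m : ℕ) : Set ℂ := {z | z ^ m = 1}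

/-- The field generated by the `m`-th roots of unity. -/
noncomputable def Km (m : ℕ) : IntermediateField ℚ ℂ := IntermediateField.adjoin ℚ (muSet m)

theorem mem_Km_of_pow {m : ℕ} {z : ℂ} (h : z ^ m = 1) : z ∈ Km m :=
  IntermediateField.subset_adjoin ℚ _ h

theorem mem_Km_of_dvd {m n : ℕ} (hd : n ∣ m) {z : ℂ} (h : z ^ n = 1) : z ∈ Km m := by
  obtain ⟨k, rfl⟩ := hd
  exact mem_Km_of_pow (by rw [pow_mul, h, one_pow])

/-- The ring of integral combinations of the roots. -/
def R0 (m : ℕ) : Submodule ℤ ℂ := Submodule.span ℤ (muSet m)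

theorem one_mem_R0 (m : ℕ) : (1 : ℂ) ∈ R0 m := Submodule.subset_span (one_pow m)

theorem natCast_mem_R0 (m n : ℕ) : (n : ℂ) ∈ R0 m := by
  have h := (R0 m).smul_mem (n : ℤ) (one_mem_R0 m)
  simpa using h

theorem mul_mem_R0 {m : ℕ} {x y : ℂ} (hx : x ∈ R0 m) (hy : y ∈ R0 m) : x * y ∈ R0 m := by
  induction hx using Submodule.span_induction with
  | mem a ha =>
    induction hy using Submodule.span_induction with
    | mem b hb => exact Submodule.subset_span (show (a * b) ^ m = 1 by
        rw [mul_pow, show a ^ m = 1 from ha, show b ^ m = 1 from hb, one_mul])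
    | zero => simp
    | add u v _ _ hu hv => rw [mul_add]; exact add_mem hu hv
    | smul n u _ hu => rw [mul_smul_comm]; exact Submodule.smul_mem _ _ hu
  | zero => simp
  | add u v _ _ hu hv => rw [add_mul]; exact add_mem hu hv
  | smul n u _ hu => rw [smul_mul_assoc]; exact Submodule.smul_mem _ _ hu

theorem pow_mem_R0 {m : ℕ} {x : ℂ} (hx : x ∈ R0 m) : ∀ n : ℕ, x ^ n ∈ R0 m
  | 0 => by simpa using one_mem_R0 m
  | n + 1 => by rw [pow_succ]; exact mul_mem_R0 (pow_mem_R0 hx n) hx

theorem R0_le_Km {m : ℕ} {x : ℂ} (hx : x ∈ R0 m) : x ∈ Km m := by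
  induction hx using Submodule.span_induction with
  | mem a ha => exact mem_Km_of_pow ha
  | zero => exact zero_mem _
  | add u v _ _ hu hv => exact add_mem hu hv
  | smul n u _ hu => exact zsmul_mem hu n

/-- Clearing denominators. -/
theorem exists_denom {m : ℕ} (hm : 0 < m) {x : ℂ} (hx : x ∈ Km m) :
    ∃ D : ℕ, 0 < D ∧ (D : ℂ) * x ∈ R0 m := by
  have halg : ∀ z ∈ muSet m, IsAlgebraic ℚ z := fun z hz =>
    (IsIntegral.of_pow hm (by rw [show z ^ m = 1 from hz]; exact isIntegral_one) :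
      IsIntegral ℚ z).isAlgebraic
  have hmem : x ∈ (Km m).toSubalgebra := hx
  rw [Km, IntermediateField.adjoin_toSubalgebra_of_isAlgebraic halg, ← Subalgebra.mem_toSubmodule,
    Algebra.adjoin_eq_span] at hmem
  have hcl : (Submonoid.closure (muSet m) : Set ℂ) ⊆ muSet m := by
    intro z hz
    induction hz using Submonoid.closure_induction with
    | mem a ha => exact ha
    | one => exact one_pow m
    | mul a b _ _ ha hb =>
      show (a * b) ^ m = 1
      rw [mul_pow, show a ^ m = 1 from ha, show b ^ m = 1 from hb, one_mul]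
  clear hx
  induction hmem using Submodule.span_induction with
  | mem a ha => exact ⟨1, Nat.one_pos, by simpa [R0] using Submodule.subset_span (R := ℤ) (hcl ha)⟩
  | zero => exact ⟨1, Nat.one_pos, by simp⟩
  | add u v _ _ hu hv =>
    obtain ⟨a, ha, hau⟩ := hu
    obtain ⟨b, hb, hbv⟩ := hv
    refine ⟨a * b, Nat.mul_pos ha hb, ?_⟩
    rw [show ((a * b : ℕ) : ℂ) * (u + v) = (b : ℤ) • ((a : ℂ) * u) + (a : ℤ) • ((b : ℂ) * v) by
      simp only [zsmul_eq_mul, Int.cast_natCast, Nat.cast_mul]; ring]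
    exact add_mem (Submodule.smul_mem _ _ hau) (Submodule.smul_mem _ _ hbv)
  | smul q u _ hu =>
    obtain ⟨a, ha, hau⟩ := hu
    refine ⟨q.den * a, Nat.mul_pos q.den_pos ha, ?_⟩
    rw [show ((q.den * a : ℕ) : ℂ) * (q • u) = q.num • ((a : ℂ) * u) by
      rw [zsmul_eq_mul, Rat.smul_def, Nat.cast_mul]
      have h1 : (q.den : ℂ) * (q : ℂ) = (q.num : ℂ) := by
        rw [mul_comm]; exact_mod_cast Rat.mul_den_eq_num q
      linear_combination ((a : ℂ) * u) * h1]
    exact Submodule.smul_mem _ _ hau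

variable {p : ℕ} {M : Ideal AlgInt}

theorem int'_R0 (hM : IsPModular p M) {m : ℕ} (hm : 0 < m) {x : ℂ} (hx : x ∈ R0 m) : Int' M x := by
  induction hx using Submodule.span_induction with
  | mem a ha =>
    exact int'_of_isIntegral hM
      (IsIntegral.of_pow hm (by rw [show a ^ m = 1 from ha]; exact isIntegral_one))
  | zero => exact int'_zero
  | add u v _ _ hu hv => exact hu.add hv
  | smul n u _ hu => rw [zsmul_eq_mul]; exact (int'_intCast n).mul hu

/-- The Frobenius congruence. -/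
theorem frob (hM : IsPModular p M) {m : ℕ} (hm : ¬ p ∣ m) {x : ℂ} (hx : x ∈ R0 m) :
    Int' M ((x ^ p ^ m.totient - x) / p) := by
  haveI : Fact p.Prime := ⟨hM.1⟩
  have hm0 : 0 < m := Nat.pos_of_ne_zero fun h => hm (h ▸ dvd_zero p)
  have hp0 : (p : ℂ) ≠ 0 := Nat.cast_ne_zero.2 hM.1.ne_zero
  set q := p ^ m.totient with hq
  have hq1 : q % m = 1 % m := Nat.ModEq.pow_totient
    ((hM.1.coprime_iff_not_dvd).2 hm)
  have hq0 : 0 < q := pow_pos hM.1.pos _
  have hint : ∀ y ∈ R0 m, IsIntegral ℤ y := by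
    intro y hy
    induction hy using Submodule.span_induction with
    | mem a ha => exact IsIntegral.of_pow hm0 (by rw [show a ^ m = 1 from ha]; exact isIntegral_one)
    | zero => exact isIntegral_zero
    | add u v _ _ hu hv => exact hu.add hv
    | smul n u _ hu => exact hu.smul n
  induction hx using Submodule.span_induction with
  | mem a ha =>
    have ha' : a ^ m = 1 := ha
    have : a ^ q = a := by
      rcases Nat.lt_or_ge 1 m with h1 | h1
      · rw [← Nat.div_add_mod q m, hq1, Nat.mod_eq_of_lt h1, pow_add, pow_mul, ha', one_pow,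
          one_mul, pow_one]
      · obtain rfl : m = 1 := by omega
        rw [pow_one] at ha'
        rw [ha', one_pow]
    rw [this, sub_self, zero_div]
    exact int'_zero
  | zero => rw [zero_pow hq0.ne', sub_self, zero_div]; exact int'_zero
  | add u v hu' hv' hu hv =>
    obtain ⟨r, hr⟩ := exists_add_pow_prime_pow_eq hM.1
      (⟨u, hint u hu'⟩ : AlgInt) ⟨v, hint v hv'⟩ m.totient
    have hr' : (u + v) ^ q = u ^ q + v ^ q + (p : ℂ) * u * v * (r : ℂ) := by
      have h := congrArg (fun z : AlgInt => (z : ℂ)) hr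
      simpa using h
    have e : ((u + v) ^ q - (u + v)) / (p : ℂ) =
        (u ^ q - u) / p + (v ^ q - v) / p + u * v * r := by
      rw [hr']; field_simp; ring
    rw [e]
    exact (hu.add hv).add (((int'_R0 hM hm0 hu').mul (int'_R0 hM hm0 hv')).mul (int'_coe hM r))
  | smul n u hu' hu =>
    rw [zsmul_eq_mul]
    obtain ⟨c, hc⟩ : (p : ℤ) ∣ n ^ q - n := by
      rw [← ZMod.intCast_zmod_eq_zero_iff_dvd, Int.cast_sub, Int.cast_pow, hq,
        ZMod.pow_card_pow, sub_self]
    have e : (((n : ℂ) * u) ^ q - (n : ℂ) * u) / p =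
        (n : ℂ) ^ q * ((u ^ q - u) / p) + (c : ℂ) * u := by
      have hc' : (n : ℂ) ^ q - n = (p : ℂ) * c := by exact_mod_cast hc
      field_simp
      rw [mul_pow]
      linear_combination u * hc'
    rw [e]
    exact (((int'_intCast n).pow q).mul hu).add ((int'_intCast c).mul (int'_R0 hM hm0 hu'))

/-- Integral elements of `Km m` are quotients by units. -/
theorem exists_unit_denom (hM : IsPModular p M) {m : ℕ} (hm : ¬ p ∣ m) :
    ∀ (k : ℕ) (y : ℂ), y ∈ R0 m → Int' M (y / (p : ℂ) ^ k) →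
      ∃ b ∈ R0 m, ¬ Sm M b ∧ y / (p : ℂ) ^ k * b ∈ R0 m := by
  have hm0 : 0 < m := Nat.pos_of_ne_zero fun h => hm (h ▸ dvd_zero p)
  have hp0 : (p : ℂ) ≠ 0 := Nat.cast_ne_zero.2 hM.1.ne_zero
  intro k
  induction k with
  | zero => intro y hy _; exact ⟨1, one_mem_R0 m, not_sm_one, by simpa using hy⟩
  | succ k ih =>
    intro y hy hint
    have hk : Int' M (y / (p : ℂ) ^ k) := by
      have := hint.mul (int'_natCast p)
      rwa [pow_succ, ← div_div, div_mul_cancel₀ _ hp0] at this
    obtain ⟨b, hb, hbu, hz⟩ := ih y hy hk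
    set z := y / (p : ℂ) ^ k * b with hzdef
    have hzs : Sm M z := by
      have h1 := (sm_p hM).mul_right (hint.mul (int'_R0 hM hm0 hb))
      rwa [show (p : ℂ) * (y / (p : ℂ) ^ (k + 1) * b) = z by
        rw [hzdef, pow_succ]; field_simp] at h1
    -- `z / p` times a unit lies in the span
    set q := p ^ m.totient with hq
    obtain ⟨d, hd, hdu, hdz⟩ : ∃ d ∈ R0 m, ¬ Sm M d ∧ z * d / p ∈ R0 m := by
      have hq0 : 0 < q := pow_pos hM.1.pos _
      refine ⟨1 - z ^ (q - 1), sub_mem (one_mem_R0 m) (pow_mem_R0 hz _), fun h => ?_, ?_⟩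
      · have hq2 : q - 1 ≠ 0 := by
          have : 1 < q := Nat.one_lt_pow (Nat.totient_pos.2 hm0).ne' hM.1.one_lt
          omega
        exact not_sm_one (by simpa using h.add (hzs.pow hq2))
      · have e : z * (1 - z ^ (q - 1)) = z - z ^ q := by
          conv_rhs => rw [← Nat.sub_add_cancel hq0, pow_succ]
          ring
        rw [e]
        -- divisibility by `p` inside the span
        have key : ∀ x ∈ R0 m, (x - x ^ q) / (p : ℂ) ∈ R0 m := by
          haveI : Fact p.Prime := ⟨hM.1⟩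
          intro x hx
          induction hx using Submodule.span_induction with
          | mem a ha =>
            have ha' : a ^ m = 1 := ha
            have hq1 : q % m = 1 % m := Nat.ModEq.pow_totient ((hM.1.coprime_iff_not_dvd).2 hm)
            have : a ^ q = a := by
              rcases Nat.lt_or_ge 1 m with h1 | h1
              · rw [← Nat.div_add_mod q m, hq1, Nat.mod_eq_of_lt h1, pow_add, pow_mul, ha',
                  one_pow, one_mul, pow_one]
              · obtain rfl : m = 1 := by omega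
                rw [pow_one] at ha'
                rw [ha', one_pow]
            rw [this, sub_self, zero_div]; exact zero_mem _
          | zero => rw [zero_pow hq0.ne', sub_self, zero_div]; exact zero_mem _
          | add u v hu' hv' hu hv =>
            let S : Subring ℂ :=
              { carrier := R0 m
                one_mem' := one_mem_R0 m
                mul_mem' := mul_mem_R0
                zero_mem' := zero_mem _
                add_mem' := add_mem
                neg_mem' := neg_mem }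
            obtain ⟨r, hr⟩ := exists_add_pow_prime_pow_eq hM.1 (⟨u, hu'⟩ : S) ⟨v, hv'⟩ m.totient
            have hr' : (u + v) ^ q = u ^ q + v ^ q + (p : ℂ) * u * v * (r : ℂ) := by
              have h := congrArg (fun z : S => (z : ℂ)) hr
              simpa using h
            have e : (u + v - (u + v) ^ q) / (p : ℂ) =
                (u - u ^ q) / p + (v - v ^ q) / p - u * v * r := by
              rw [hr']; field_simp; ring
            rw [e]
            exact sub_mem (add_mem hu hv) (mul_mem_R0 (mul_mem_R0 hu' hv') r.2)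
          | smul n u hu' hu =>
            obtain ⟨c, hc⟩ : (p : ℤ) ∣ n ^ q - n := by
              rw [← ZMod.intCast_zmod_eq_zero_iff_dvd, Int.cast_sub, Int.cast_pow, hq,
                ZMod.pow_card_pow, sub_self]
            have hc' : (n : ℂ) ^ q - n = (p : ℂ) * c := by exact_mod_cast hc
            have e : (n • u - (n • u) ^ q) / (p : ℂ) =
                (n ^ q) • ((u - u ^ q) / (p : ℂ)) - c • u := by
              simp only [zsmul_eq_mul, Int.cast_pow]
              field_simp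
              rw [mul_pow]
              linear_combination (-u) * hc'
            rw [e]
            exact sub_mem (Submodule.smul_mem _ _ hu) (Submodule.smul_mem _ _ hu')
        exact key z hz
    refine ⟨b * d, mul_mem_R0 hb hd, not_sm_mul hbu hdu, ?_⟩
    rwa [show y / (p : ℂ) ^ (k + 1) * (b * d) = z * d / p by rw [hzdef, pow_succ]; field_simp]

/-- `p` generates the maximal ideal of the local integers of `Km m`. -/
theorem int'_div_p (hM : IsPModular p M) {m : ℕ} (hm : ¬ p ∣ m) {x : ℂ} (hx : x ∈ Km m)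
    (hs : Sm M x) : Int' M (x / p) := by
  have hm0 : 0 < m := Nat.pos_of_ne_zero fun h => hm (h ▸ dvd_zero p)
  obtain ⟨D, hD, hDx⟩ := exists_denom hm0 hx
  obtain ⟨k, D', hD', rfl⟩ := Nat.exists_eq_pow_mul_and_not_dvd hD.ne' p hM.1.ne_one
  have hp0 : (p : ℂ) ≠ 0 := Nat.cast_ne_zero.2 hM.1.ne_zero
  set y := ((p ^ k * D' : ℕ) : ℂ) * x with hy
  have hyk : y / (p : ℂ) ^ k = (D' : ℂ) * x := by
    rw [hy]; push_cast; field_simp
  obtain ⟨b, hb, hbu, hz⟩ := exists_unit_denom hM hm k y hDx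
    (by rw [hyk]; exact (int'_natCast D').mul hs.int')
  rw [hyk] at hz
  have hzs : Sm M ((D' : ℂ) * x * b) := (hs.mul_left (int'_natCast D')).mul_right (int'_R0 hM hm0 hb)
  set z := (D' : ℂ) * x * b with hzdef
  set q := p ^ m.totient with hq
  have hq2 : q - 1 ≠ 0 := by
    have : 1 < q := Nat.one_lt_pow (Nat.totient_pos.2 hm0).ne' hM.1.one_lt
    omega
  have hdu : ¬ Sm M (1 - z ^ (q - 1)) := fun h =>
    not_sm_one (by simpa using h.add (hzs.pow hq2))
  have h1 : Int' M (z * (1 - z ^ (q - 1)) / p) := by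
    have e : z * (1 - z ^ (q - 1)) = -(z ^ q - z) := by
      conv_rhs => rw [← Nat.sub_add_cancel (show 1 ≤ q from pow_pos hM.1.pos m.totient), pow_succ]
      ring
    rw [e, neg_div, hq]
    exact (frob hM hm hz).neg
  refine int'_of_mul (z := (D' : ℂ) * b * (1 - z ^ (q - 1))) ?_
    (((int'_natCast D').mul (int'_R0 hM hm0 hb)).mul (int'_one.sub (hzs.int'.pow _)))
    (not_sm_mul (not_sm_mul (not_sm_natCast_of_coprime hM hD') hbu) hdu)
  rwa [show (D' : ℂ) * b * (1 - z ^ (q - 1)) * (x / p) = z * (1 - z ^ (q - 1)) / p by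
    rw [hzdef]; ring]

/-- An element of `Km m` becomes integral after multiplication by a power of `p`. -/
theorem exists_pow_int' (hM : IsPModular p M) {m : ℕ} (hm : ¬ p ∣ m) {x : ℂ} (hx : x ∈ Km m) :
    ∃ k : ℕ, Int' M ((p : ℂ) ^ k * x) := by
  have hm0 : 0 < m := Nat.pos_of_ne_zero fun h => hm (h ▸ dvd_zero p)
  obtain ⟨D, hD, hDx⟩ := exists_denom hm0 hx
  obtain ⟨k, D', hD', rfl⟩ := Nat.exists_eq_pow_mul_and_not_dvd hD.ne' p hM.1.ne_one
  refine ⟨k, int'_of_mul (z := (D' : ℂ)) ?_ (int'_natCast D') (not_sm_natCast_of_coprime hM hD')⟩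
  have := int'_R0 hM hm0 hDx
  push_cast at this
  rwa [show (D' : ℂ) * ((p : ℂ) ^ k * x) = (p : ℂ) ^ k * (D' : ℂ) * x by ring]

variable {m : ℕ}

/-- The algebra generated over `Km m` by `ζ`. -/
noncomputable def Kz (m : ℕ) (ζ : ℂ) : Subalgebra (Km m) ℂ := Algebra.adjoin (Km m) {ζ}

theorem mem_Kz_of_Km {ζ x : ℂ} (hx : x ∈ Km m) : x ∈ Kz m ζ :=
  (Kz m ζ).algebraMap_mem ⟨x, hx⟩

theorem self_mem_Kz (ζ : ℂ) : ζ ∈ Kz m ζ := Algebra.self_mem_adjoin_singleton _ _

/-- Roots of unity of order dividing `p * m`. -/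
theorem mem_Kz_of_pow (hp : p.Prime) (hm : ¬ p ∣ m) {ζ : ℂ} (hζ : IsPrimitiveRoot ζ p) {z : ℂ}
    (hz : z ^ (p * m) = 1) : z ∈ Kz m ζ := by
  obtain ⟨a, b, hab⟩ : IsCoprime (p : ℤ) (m : ℤ) :=
    Int.isCoprime_iff_nat_coprime.2 (by simpa using hp.coprime_iff_not_dvd.2 hm)
  have hm0 : 0 < m := Nat.pos_of_ne_zero fun h => hm (h ▸ dvd_zero p)
  have hz0 : z ≠ 0 := by
    rintro rfl
    rw [zero_pow (Nat.mul_ne_zero hp.ne_zero hm0.ne')] at hz
    exact one_ne_zero hz.symm
  have hs : z = (z ^ p) ^ a * (z ^ m) ^ b := by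
    rw [← zpow_natCast z p, ← zpow_natCast z m, ← zpow_mul, ← zpow_mul, ← zpow_add₀ hz0,
      show (p : ℤ) * a + (m : ℤ) * b = 1 by linarith, zpow_one]
  have h1 : (z ^ p) ^ a ∈ Kz m ζ := mem_Kz_of_Km (zpow_mem (mem_Km_of_pow (by rw [← pow_mul, hz])) a)
  have h2 : (z ^ m) ^ b ∈ Kz m ζ := by
    have hzm : (z ^ m) ^ p = 1 := by rw [← pow_mul, mul_comm, hz]
    haveI : NeZero p := ⟨hp.ne_zero⟩
    obtain ⟨i, -, hi⟩ := hζ.eq_pow_of_pow_eq_one (ξ := (z ^ m) ^ b) (by
      rw [← zpow_natCast, ← zpow_mul, mul_comm, zpow_mul, zpow_natCast, hzm, one_zpow])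
    rw [← hi]
    exact pow_mem (self_mem_Kz ζ) i
  rw [hs]
  exact mul_mem h1 h2

/-- Coordinates with respect to powers of `ζ - 1`. -/
theorem exists_coords (hp : p.Prime) {ζ : ℂ} (hζ : IsPrimitiveRoot ζ p) {x : ℂ}
    (hx : x ∈ Kz m ζ) : ∃ c : ℕ → ℂ, (∀ i, c i ∈ Km m) ∧
      x = ∑ i ∈ range (p - 1), c i * (ζ - 1) ^ i := by
  set W := Submodule.span (Km m) ((fun i => (ζ - 1) ^ i) '' (range (p - 1) : Set ℕ)) with hW
  have hlow : ∀ i < p - 1, ζ ^ i ∈ W := by
    intro i hi
    rw [show ζ ^ i = ((ζ - 1) + 1) ^ i by rw [sub_add_cancel], add_pow]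
    refine Submodule.sum_mem _ fun j hj => ?_
    have h1 : ((i.choose j : ℕ) : Km m) • (ζ - 1) ^ j ∈ W :=
      Submodule.smul_mem _ _ (Submodule.subset_span ⟨j, Finset.mem_coe.2 (Finset.mem_range.2
        (by have := Finset.mem_range.1 hj; omega)), rfl⟩)
    convert h1 using 1
    rw [one_pow, mul_one, Nat.cast_smul_eq_nsmul, nsmul_eq_mul, mul_comm]
  have hall : ∀ i, ζ ^ i ∈ W := by
    intro i
    rw [← Nat.div_add_mod i p, pow_add, pow_mul, hζ.pow_eq_one, one_pow, one_mul]
    rcases Nat.lt_or_ge (i % p) (p - 1) with h | h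
    · exact hlow _ h
    · have hi : i % p = p - 1 := by have := Nat.mod_lt i hp.pos; omega
      rw [hi]
      have hg := hζ.geom_sum_eq_zero hp.one_lt
      rw [show range p = range ((p - 1) + 1) by rw [Nat.sub_add_cancel hp.one_le],
        Finset.sum_range_succ, add_eq_zero_iff_eq_neg'] at hg
      rw [hg]
      exact neg_mem (Submodule.sum_mem _ fun j hj => hlow j (Finset.mem_range.1 hj))
  have hx' : x ∈ W := by
    have h1 : x ∈ Submodule.span (Km m) (Submonoid.closure ({ζ} : Set ℂ) : Set ℂ) := by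
      rw [← Algebra.adjoin_eq_span]; exact hx
    refine Submodule.span_le.2 ?_ h1
    intro z hz
    obtain ⟨i, rfl⟩ := Submonoid.mem_closure_singleton.1 hz
    exact hall i
  rw [hW, ← Finset.coe_image] at hx'
  obtain ⟨f, hf⟩ := (Submodule.mem_span_image_finset_iff_exists_fun' (R := Km m)
    (v := fun i => (ζ - 1) ^ i) (s := range (p - 1))).1 (by rwa [Finset.coe_image] at hx')
  refine ⟨fun i => ((f i : Km m) : ℂ), fun i => SetLike.coe_mem _, ?_⟩
  rw [← hf]
  rfl

/-- `p / (ζ - 1) ^ (p - 1)` is integral. -/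
theorem int'_p_div (hM : IsPModular p M) {ζ : ℂ} (hζ : IsPrimitiveRoot ζ p) :
    Int' M ((p : ℂ) / (ζ - 1) ^ (p - 1)) := by
  have hζi : Int' M ζ := int'_of_isIntegral hM (hζ.isIntegral hM.1.pos)
  have h0 : (ζ - 1) ≠ 0 := sub_ne_zero.2 (hζ.ne_one hM.1.one_lt)
  obtain ⟨n, hn⟩ : ∃ n, p = n + 1 := ⟨p - 1, (Nat.sub_add_cancel hM.1.one_le).symm⟩
  have hprod : ∏ j ∈ range n, (1 - ζ ^ (j + 1)) = (p : ℂ) := by
    rw [hn] at hζ
    have := IsPrimitiveRoot.prod_one_sub_pow_eq_order hζ
    rw [this, hn]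
    push_cast
    ring
  rw [← hprod, hn, Nat.add_sub_cancel, show (ζ - 1) ^ n = ∏ _j ∈ range n, (ζ - 1) by simp,
    ← Finset.prod_div_distrib]
  refine int'_prod _ fun j _ => ?_
  rw [show (1 - ζ ^ (j + 1)) / (ζ - 1) = -∑ i ∈ range (j + 1), ζ ^ i by
    rw [geom_sum_eq (hζ.ne_one hM.1.one_lt) (j + 1), ← neg_div, neg_sub]]
  exact (int'_sum _ fun i _ => hζi.pow i).neg

/-- Integral coordinates. -/
theorem int'_coords (hM : IsPModular p M) (hm : ¬ p ∣ m) {ζ : ℂ} (hζ : IsPrimitiveRoot ζ p)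
    {c : ℕ → ℂ} (hc : ∀ i, c i ∈ Km m)
    (hx : Int' M (∑ i ∈ range (p - 1), c i * (ζ - 1) ^ i)) :
    ∀ i < p - 1, Int' M (c i) := by
  have hp0 : (p : ℂ) ≠ 0 := Nat.cast_ne_zero.2 hM.1.ne_zero
  set π := ζ - 1 with hπ
  have hπ0 : π ≠ 0 := sub_ne_zero.2 (hζ.ne_one hM.1.one_lt)
  have hπs : Sm M π := sm_sub_one_of_pow_pPow hM 1 (by rw [pow_one, hζ.pow_eq_one])
  have hpπ := int'_p_div hM hζ
  -- the step
  have step : ∀ d : ℕ → ℂ, (∀ i, d i ∈ Km m) → (∀ i < p - 1, Int' M (d i)) →
      Int' M ((∑ i ∈ range (p - 1), d i * π ^ i) / p) → ∀ i < p - 1, Int' M (d i / p) := by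
    intro d hd hdi hsum
    have key : ∀ j ≤ p - 1, ∀ i < j, Int' M (d i / p) := by
      intro j
      induction j with
      | zero => intro _ i hi; omega
      | succ j ih =>
        intro hj i hi
        rcases Nat.lt_succ_iff_lt_or_eq.1 hi with h | rfl
        · exact ih (Nat.le_of_succ_le hj) i h
        have ih' := ih (Nat.le_of_succ_le hj)
        refine int'_div_p hM hm (hd i) ?_
        have hi' : i < p - 1 := hj
        set r := ∑ k ∈ range (p - 1), d k * π ^ k with hr
        have hlow : Int' M ((∑ k ∈ range i, d k * π ^ k) / p) := by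
          rw [Finset.sum_div]
          refine int'_sum _ fun k hk => ?_
          rw [mul_div_right_comm]
          exact (ih' k (Finset.mem_range.1 hk)).mul (hπs.int'.pow k)
        have hsplit : r = (∑ k ∈ range i, d k * π ^ k) +
            (d i * π ^ i + ∑ k ∈ Ico (i + 1) (p - 1), d k * π ^ k) := by
          rw [hr, ← Finset.sum_range_add_sum_Ico _ hi'.le, Finset.sum_eq_sum_Ico_succ_bot hi']
        have hhigh : ∑ k ∈ Ico (i + 1) (p - 1), d k * π ^ k =
            π ^ i * ∑ k ∈ Ico (i + 1) (p - 1), d k * π ^ (k - i) := by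
          rw [Finset.mul_sum]
          refine Finset.sum_congr rfl fun k hk => ?_
          have := (Finset.mem_Ico.1 hk).1
          rw [show π ^ k = π ^ i * π ^ (k - i) by rw [← pow_add, Nat.add_sub_cancel' (by omega)]]
          ring
        have e : d i = (r / p - (∑ k ∈ range i, d k * π ^ k) / p) *
            ((p : ℂ) / π ^ (p - 1)) * π ^ (p - 1 - i) -
            ∑ k ∈ Ico (i + 1) (p - 1), d k * π ^ (k - i) := by
          have hpow : π ^ (p - 1) = π ^ i * π ^ (p - 1 - i) := by
            rw [← pow_add, Nat.add_sub_cancel' hi'.le]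
          rw [hsplit, hhigh, hpow]
          field_simp
          ring
        rw [e]
        refine Sm.sub ((hπs.pow (by omega)).mul_left ((hsum.sub hlow).mul hpπ))
          (sm_sum _ fun k hk => ?_)
        exact (hπs.pow (by have := (Finset.mem_Ico.1 hk).1; omega)).mul_left
          (hdi k (Finset.mem_Ico.1 hk).2)
    exact key (p - 1) le_rfl
  -- a common denominator
  choose k hk using fun i => exists_pow_int' hM hm (hc i)
  set K := ∑ i ∈ range (p - 1), k i with hK
  have hbig : ∀ i < p - 1, Int' M ((p : ℂ) ^ K * c i) := by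
    intro i hi
    have hle : k i ≤ K := Finset.single_le_sum (fun _ _ => Nat.zero_le _) (Finset.mem_range.2 hi)
    obtain ⟨l, hl⟩ := Nat.exists_eq_add_of_le hle
    rw [hl, pow_add, mul_comm ((p : ℂ) ^ k i), mul_assoc]
    exact ((int'_natCast p).pow l).mul (hk i)
  have key : ∀ K : ℕ, (∀ i < p - 1, Int' M ((p : ℂ) ^ K * c i)) → ∀ i < p - 1, Int' M (c i) := by
    intro K
    induction K with
    | zero => intro h i hi; simpa using h i hi
    | succ K ih =>
      intro h
      refine ih fun i hi => ?_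
      have := step (fun i => (p : ℂ) ^ (K + 1) * c i)
        (fun i => mul_mem (pow_mem (natCast_mem _ p) _) (hc i)) h ?_ i hi
      · rwa [pow_succ, mul_comm ((p : ℂ) ^ K), mul_assoc, mul_div_cancel_left₀ _ hp0] at this
      · rw [show (∑ i ∈ range (p - 1), (p : ℂ) ^ (K + 1) * c i * π ^ i) / (p : ℂ) =
            (p : ℂ) ^ K * ∑ i ∈ range (p - 1), c i * π ^ i by
          simp only [mul_assoc, ← Finset.mul_sum, pow_succ, mul_comm ((p : ℂ) ^ K) (p : ℂ)]
          rw [mul_div_cancel_left₀ _ hp0]]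
        exact ((int'_natCast p).pow K).mul hx
  exact key K hbig

/-- A ring automorphism fixing the roots fixes the field. -/
theorem aut_fix (σ : ℂ ≃+* ℂ) (h : ∀ z, z ^ m = 1 → σ z = z) {x : ℂ} (hx : x ∈ Km m) : σ x = x := by
  induction hx using IntermediateField.adjoin_induction with
  | mem a ha => exact h a ha
  | algebraMap q => exact map_ratCast σ q
  | add a b _ _ ha hb => rw [map_add, ha, hb]
  | inv a _ ha => rw [map_inv₀, ha]
  | mul a b _ _ ha hb => rw [map_mul, ha, hb]

/-- Integral elements are congruent to their conjugates. -/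
theorem sm_aut_sub (hM : IsPModular p M) (hm : ¬ p ∣ m) {ζ : ℂ} (hζ : IsPrimitiveRoot ζ p)
    (σ : ℂ ≃+* ℂ) (h : ∀ z, z ^ m = 1 → σ z = z) {x : ℂ} (hx : x ∈ Kz m ζ) (hxi : Int' M x) :
    Sm M (σ x - x) := by
  obtain ⟨c, hc, rfl⟩ := exists_coords hM.1 hζ hx
  have hci := int'_coords hM hm hζ hc hxi
  rw [map_sum, ← Finset.sum_sub_distrib]
  refine sm_sum _ fun i hi => ?_
  rw [map_mul, map_pow, map_sub, map_one, aut_fix σ h (hc i), ← mul_sub]
  refine Sm.mul_left ?_ (hci i (Finset.mem_range.1 hi))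
  have h1 : Sm M (ζ - 1) := sm_sub_one_of_pow_pPow hM 1 (by rw [pow_one, hζ.pow_eq_one])
  have h2 : Sm M (σ ζ - 1) :=
    sm_sub_one_of_pow_pPow hM 1 (by rw [pow_one, ← map_pow, hζ.pow_eq_one, map_one])
  exact sm_pow_sub_pow h2.int' h1.int' (h2.sub h1) i

end Cfsg.Agent.DefectOneField7
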