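import Cfsg.Agent.Lib.DefectOneSign7

/-!
# Congruent eigenvalues on Galois conjugate isotypic parts

For a representation by integer matrices with character `∑_{η ∈ S} η(1) η`, where the members of
`S` are conjugate under automorphisms of `ℂ` fixing the roots of unity of order prime to `p`, an
integral commuting matrix with entries in `ℚ(μ_m)`, `p ∤ m`, has at most `η(1)` incongruent
eigenvalues which are units.
-/

set_option autoImplicit false

open Matrix Finset

namespace Cfsg.Agent.DefectOneSign7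

open Cfsg Cfsg.Agent.BrauerBlocksVal Cfsg.Agent.BrauerBlocksTrace
open Cfsg.Agent.CharBasic Cfsg.Agent.CharBasicDecomp Cfsg.Agent.CharBasicOrth
open Cfsg.Agent.DefectOneField7

attribute [local instance] Classical.propDecidable

variable {G : Type*} [Group G] [Fintype G] {D : ℕ}

/-- The isotypic projection. -/
noncomputable def isoE (ρ : G →* Matrix (Fin D) (Fin D) ℤ) (η : IrrCharacter G) :
    Matrix (Fin D) (Fin D) ℂ :=
  ((η : G → ℂ) 1 / (Nat.card G : ℂ)) • ∑ g : G, (η : G → ℂ) g⁻¹ • toC (ρ g)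

theorem isoE_comm_of_comm (ρ : G →* Matrix (Fin D) (Fin D) ℤ) (η : IrrCharacter G)
    {T : Matrix (Fin D) (Fin D) ℂ} (hT : ∀ g, toC (ρ g) * T = T * toC (ρ g)) :
    isoE ρ η * T = T * isoE ρ η := by
  simp only [isoE, Matrix.smul_mul, Matrix.mul_smul, Finset.sum_mul, Finset.mul_sum, hT]

theorem isoE_comm (ρ : G →* Matrix (Fin D) (Fin D) ℤ) (η : IrrCharacter G) (x : G) :
    toC (ρ x) * isoE ρ η = isoE ρ η * toC (ρ x) := by
  simp only [isoE, Matrix.smul_mul, Matrix.mul_smul, Finset.sum_mul, Finset.mul_sum, ← toC_mul,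
    ← map_mul]
  congr 1
  refine Fintype.sum_equiv (MulAut.conj x).toEquiv _ _ fun g => ?_
  have h1 : (η : G → ℂ) (x * g * x⁻¹)⁻¹ = (η : G → ℂ) g⁻¹ := by
    rw [show (x * g * x⁻¹)⁻¹ = x * g⁻¹ * x⁻¹ by group]
    exact isClassFunction_of_isCharacter (isCharacter_of_isIrrCharacter η.2) g⁻¹ x
  simp only [MulEquiv.toEquiv_eq_coe, MulEquiv.coe_toEquiv, MulAut.conj_apply, h1,
    inv_mul_cancel_right]

theorem isoE_mul (ρ : G →* Matrix (Fin D) (Fin D) ℤ) (η η' : IrrCharacter G) :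
    isoE ρ η * isoE ρ η' = if η = η' then isoE ρ η else 0 := by
  have hn : (η : G → ℂ) 1 ≠ 0 := isIrrCharacter_apply_one_ne_zero η.2
  have hG : (Nat.card G : ℂ) ≠ 0 := Nat.cast_ne_zero.2 Nat.card_pos.ne'
  have key : (∑ g : G, (η : G → ℂ) g⁻¹ • toC (ρ g)) * (∑ h : G, (η' : G → ℂ) h⁻¹ • toC (ρ h)) =
      ∑ x : G, (if η = η' then (Nat.card G : ℂ) * (η : G → ℂ) x⁻¹ / (η : G → ℂ) 1 else 0) •
        toC (ρ x) := by
    rw [Finset.sum_mul_sum, Finset.sum_comm]
    have h1 : ∀ h : G, ∑ g : G, ((η : G → ℂ) g⁻¹ • toC (ρ g)) * ((η' : G → ℂ) h⁻¹ • toC (ρ h)) =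
        ∑ x : G, ((η : G → ℂ) (h * x⁻¹) * (η' : G → ℂ) h⁻¹) • toC (ρ x) := by
      intro h
      refine Fintype.sum_equiv (Equiv.mulRight h) _ _ fun g => ?_
      rw [Equiv.coe_mulRight, smul_mul_smul_comm, ← toC_mul, ← map_mul, _root_.mul_inv_rev,
        mul_inv_cancel_left]
    rw [Finset.sum_congr rfl fun h _ => h1 h, Finset.sum_comm]
    refine Finset.sum_congr rfl fun x _ => ?_
    rw [← Finset.sum_smul]
    congr 1
    rw [← sum_irr_conv η η' x⁻¹]
    refine Fintype.sum_equiv (Equiv.inv G) _ _ fun h => ?_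
    rw [Equiv.inv_apply, inv_inv]
    congr 1
    rw [show h * x⁻¹ = h * (x⁻¹ * h) * h⁻¹ by group]
    exact isClassFunction_of_isCharacter (isCharacter_of_isIrrCharacter η.2) (x⁻¹ * h) h
  rw [isoE, isoE, smul_mul_smul_comm, key]
  split_ifs with he
  · subst he
    rw [Finset.smul_sum, Finset.smul_sum]
    refine Finset.sum_congr rfl fun x _ => ?_
    rw [smul_smul, smul_smul]
    congr 1
    field_simp
  · simp

theorem trace_isoE_mul (ρ : G →* Matrix (Fin D) (Fin D) ℤ) (S : Finset (IrrCharacter G))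
    (hρ : ∀ x : G, (((ρ x).trace : ℤ) : ℂ) = ∑ ψ ∈ S, (ψ : G → ℂ) 1 * (ψ : G → ℂ) x)
    {η : IrrCharacter G} (hη : η ∈ S) (x : G) :
    (isoE ρ η * toC (ρ x)).trace = (η : G → ℂ) 1 * (η : G → ℂ) x := by
  have hn : (η : G → ℂ) 1 ≠ 0 := isIrrCharacter_apply_one_ne_zero η.2
  have hG : (Nat.card G : ℂ) ≠ 0 := Nat.cast_ne_zero.2 Nat.card_pos.ne'
  simp only [isoE, Matrix.smul_mul, Finset.sum_mul, Matrix.trace_smul, trace_sum, ← toC_mul,
    ← map_mul, smul_eq_mul]
  have h1 : ∀ g : G, (toC (ρ (g * x))).trace = ∑ ψ ∈ S, (ψ : G → ℂ) 1 * (ψ : G → ℂ) (g * x) :=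
    fun g => by rw [← hρ]; simp [toC_apply, Matrix.trace]
  simp only [h1, Finset.mul_sum]
  rw [Finset.sum_comm]
  calc ∑ ψ ∈ S, ∑ g : G, (η : G → ℂ) 1 / (Nat.card G : ℂ) *
        ((η : G → ℂ) g⁻¹ * ((ψ : G → ℂ) 1 * (ψ : G → ℂ) (g * x)))
      = ∑ ψ ∈ S, (η : G → ℂ) 1 / (Nat.card G : ℂ) * (ψ : G → ℂ) 1 *
          ∑ g : G, (η : G → ℂ) (x * g⁻¹) * (ψ : G → ℂ) g := by
        refine Finset.sum_congr rfl fun ψ _ => ?_
        rw [Finset.mul_sum]
        refine Fintype.sum_equiv (Equiv.mulRight x) _ _ fun g => ?_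
        rw [Equiv.coe_mulRight, _root_.mul_inv_rev, mul_inv_cancel_left]
        ring
    _ = ∑ ψ ∈ S, if η = ψ then (η : G → ℂ) 1 * (η : G → ℂ) x else 0 := by
        refine Finset.sum_congr rfl fun ψ _ => ?_
        rw [sum_irr_conv]
        split_ifs with he
        · subst he; field_simp
        · simp
    _ = _ := by rw [Finset.sum_ite_eq, if_pos hη]

theorem trace_isoE (ρ : G →* Matrix (Fin D) (Fin D) ℤ) (S : Finset (IrrCharacter G))
    (hρ : ∀ x : G, (((ρ x).trace : ℤ) : ℂ) = ∑ ψ ∈ S, (ψ : G → ℂ) 1 * (ψ : G → ℂ) x)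
    {η : IrrCharacter G} (hη : η ∈ S) :
    (isoE ρ η).trace = (η : G → ℂ) 1 * (η : G → ℂ) 1 := by
  have := trace_isoE_mul ρ S hρ hη 1
  rwa [map_one, show toC (1 : Matrix (Fin D) (Fin D) ℤ) = 1 from map_one _, Matrix.mul_one] at this

omit [Fintype G] in
/-- An idempotent matrix of trace zero vanishes. -/
theorem eq_zero_of_idem {A : Matrix (Fin D) (Fin D) ℂ} (h : A * A = A) (ht : A.trace = 0) :
    A = 0 := by
  have hp : LinearMap.IsProj (LinearMap.range (Matrix.toLin' A)) (Matrix.toLin' A) := by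
    refine ⟨fun x => LinearMap.mem_range_self _ x, ?_⟩
    rintro _ ⟨y, rfl⟩
    rw [← Module.End.mul_apply, ← show Matrix.toLin' (A * A) = Matrix.toLin' A * Matrix.toLin' A
      from Matrix.toLin'_mul A A, h]
  have h1 := hp.trace
  rw [LinearMap.trace_eq_matrix_trace ℂ (Pi.basisFun ℂ (Fin D)),
    LinearMap.toMatrix_eq_toMatrix', LinearMap.toMatrix'_toLin', ht] at h1
  have h2 : LinearMap.range (Matrix.toLin' A) = ⊥ :=
    Submodule.finrank_eq_zero.1 (Nat.cast_eq_zero.1 h1.symm)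
  exact Matrix.toLin'.injective ((LinearMap.range_eq_bot.1 h2).trans (map_zero _).symm)

theorem sum_isoE (ρ : G →* Matrix (Fin D) (Fin D) ℤ) (S : Finset (IrrCharacter G))
    (hρ : ∀ x : G, (((ρ x).trace : ℤ) : ℂ) = ∑ ψ ∈ S, (ψ : G → ℂ) 1 * (ψ : G → ℂ) x) :
    ∑ η ∈ S, isoE ρ η = 1 := by
  set E := ∑ η ∈ S, isoE ρ η with hE
  have hEE : E * E = E := by
    conv_rhs => rw [hE]
    rw [hE, Finset.sum_mul_sum]
    refine Finset.sum_congr rfl fun η hη => ?_
    simp only [isoE_mul]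
    rw [Finset.sum_ite_eq, if_pos hη]
  have h1 : (1 - E) * (1 - E) = 1 - E := by
    rw [Matrix.sub_mul, Matrix.mul_sub, Matrix.mul_sub, Matrix.one_mul, Matrix.one_mul,
      Matrix.mul_one, hEE, sub_self, sub_zero]
  have h2 : (1 - E).trace = 0 := by
    rw [Matrix.trace_sub, hE, trace_sum, Finset.sum_congr rfl fun η hη => trace_isoE ρ S hρ hη,
      ← hρ 1, map_one, Matrix.trace_one, Matrix.trace_one]
    simp
  exact (sub_eq_zero.1 (eq_zero_of_idem h1 h2)).symm

variable {p : ℕ} {M : Ideal AlgInt}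

omit [Fintype G] in
/-- A monic polynomial with integral roots has integral coefficients. -/
theorem int'_coeff {f : Polynomial ℂ} (hf : f.Monic) (h : ∀ r ∈ f.roots, Int' M r) (i : ℕ) :
    Int' M (f.coeff i) := by
  have hsplit : (f.roots.map fun r => Polynomial.X - Polynomial.C r).prod = f :=
    Polynomial.prod_multiset_X_sub_C_of_monic_of_roots_card_eq hf
      ((IsAlgClosed.splits f).natDegree_eq_card_roots).symm
  have key : ∀ s : Multiset ℂ, (∀ r ∈ s, Int' M r) → ∀ i,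
      Int' M ((s.map fun r => Polynomial.X - Polynomial.C r).prod.coeff i) := by
    intro s
    induction s using Multiset.induction with
    | empty =>
      intro _ i
      simp only [Multiset.map_zero, Multiset.prod_zero, Polynomial.coeff_one]
      split_ifs
      · exact int'_one
      · exact int'_zero
    | cons a s ih =>
      intro hs i
      rw [Multiset.map_cons, Multiset.prod_cons, sub_mul, Polynomial.coeff_sub,
        Polynomial.coeff_C_mul]
      have hs' := fun r hr => hs r (Multiset.mem_cons_of_mem hr)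
      refine Int'.sub ?_ ((hs a (Multiset.mem_cons_self a s)).mul (ih hs' i))
      rcases i with _ | i
      · rw [Polynomial.coeff_X_mul_zero]; exact int'_zero
      · rw [Polynomial.coeff_X_mul]; exact ih hs' i
  rw [← hsplit]
  exact key _ h i

/-- The eigenvalue bound for conjugate isotypic parts. -/
theorem roots_of_conj (hM : IsPModular p M) (hpG : p ∣ Nat.card G) (hp2 : ¬ p * p ∣ Nat.card G)
    (S : Finset (IrrCharacter G)) {η₀ : IrrCharacter G} (hη₀ : η₀ ∈ S)
    (hconj : ∀ m : ℕ, ¬ p ∣ m → ∀ η ∈ S, ∃ σ : ℂ ≃+* ℂ, (∀ z : ℂ, z ^ m = 1 → σ z = z) ∧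
      ∀ g, σ ((η₀ : G → ℂ) g) = (η : G → ℂ) g)
    (ρ : G →* Matrix (Fin D) (Fin D) ℤ)
    (hρ : ∀ x : G, (((ρ x).trace : ℤ) : ℂ) = ∑ ψ ∈ S, (ψ : G → ℂ) 1 * (ψ : G → ℂ) x)
    (m : ℕ) (hm : ¬ p ∣ m) (T : Matrix (Fin D) (Fin D) ℂ)
    (hT : ∀ g, toC (ρ g) * T = T * toC (ρ g)) (hTi : IntM M T)
    (hTF : ∀ i j, T i j ∈ Km m) :
    ∃ (l : List ℂ) (R : Finset ℂ), R.card ≤ charDegree (η₀ : G → ℂ) ∧
      (∀ μ ∈ l, Module.End.HasEigenvalue (Matrix.toLin' T) μ) ∧
      (l.map fun μ => Matrix.toLin' T - μ • (1 : Module.End ℂ (Fin D → ℂ))).prod = 0 ∧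
      ∀ μ ∈ l, ¬ Sm M μ → ∃ ν ∈ R, Sm M (μ - ν) := by
  have hcomm : ∀ g v, Matrix.toLin' T (complexRep ρ g v) = complexRep ρ g (Matrix.toLin' T v) :=
    fun g v => by
      show Matrix.toLin' T (Matrix.toLin' (toC (ρ g)) v) =
        Matrix.toLin' (toC (ρ g)) (Matrix.toLin' T v)
      simp only [Matrix.toLin'_apply, mulVec_mulVec, hT g]
  obtain ⟨k, hk, -⟩ := exists_constituents (isCharacter_of_rep (complexRep ρ))
  obtain ⟨l, -, hev, hprod⟩ := exists_roots k (complexRep ρ) hk (Matrix.toLin' T) hcomm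
  -- the part of `η₀`
  set E0 := isoE ρ η₀ with hE0
  have hE0E : E0 * E0 = E0 := by rw [hE0, isoE_mul, if_pos rfl]
  let U : Subrepresentation (complexRep ρ) := ⟨LinearMap.range (Matrix.toLin' E0), fun g v hv => by
    obtain ⟨w, rfl⟩ := hv
    refine ⟨complexRep ρ g w, ?_⟩
    show Matrix.toLin' E0 (Matrix.toLin' (toC (ρ g)) w) =
      Matrix.toLin' (toC (ρ g)) (Matrix.toLin' E0 w)
    simp only [Matrix.toLin'_apply, mulVec_mulVec, hE0, isoE_comm]⟩
  have hfix : ∀ v ∈ U.toSubmodule, E0 *ᵥ v = v := by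
    rintro _ ⟨w, rfl⟩
    rw [Matrix.toLin'_apply, mulVec_mulVec, hE0E]
  have hchar : U.toRepresentation.character = (η₀ : G → ℂ) 1 • (η₀ : G → ℂ) := by
    funext g
    have hmem : ∀ v, Matrix.toLin' (E0 * toC (ρ g)) v ∈ U.toSubmodule := fun v =>
      ⟨toC (ρ g) *ᵥ v, by rw [Matrix.toLin'_apply, Matrix.toLin'_apply, mulVec_mulVec]⟩
    have h1 := LinearMap.trace_restrict_eq_of_forall_mem U.toSubmodule _ hmem
    rw [LinearMap.trace_eq_matrix_trace ℂ (Pi.basisFun ℂ (Fin D)) (Matrix.toLin' (E0 * toC (ρ g))),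
      LinearMap.toMatrix_eq_toMatrix', LinearMap.toMatrix'_toLin',
      show (E0 * toC (ρ g)).trace = _ from trace_isoE_mul ρ S hρ hη₀ g] at h1
    rw [Pi.smul_apply, smul_eq_mul, ← h1, Representation.character]
    congr 1
    refine LinearMap.ext fun v => Subtype.ext ?_
    show Matrix.toLin' (toC (ρ g)) v.1 = Matrix.toLin' (isoE ρ η₀ * toC (ρ g)) v.1
    rw [← isoE_comm, Matrix.toLin'_apply, Matrix.toLin'_apply, ← mulVec_mulVec, ← hE0,
      hfix v.1 v.2]
  set n := charDegree (η₀ : G → ℂ) with hn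
  have hcon : constituents U.toRepresentation.character = (n : ℂ) := by
    rw [hchar, constituents]
    simp only [classInner_smul_left]
    rw [Finset.sum_eq_single η₀ (fun φ _ hφ => by
      rw [classInner_irr_ne η₀.2 φ.2 (fun h => hφ (Subtype.ext h.symm)), mul_zero])
      (fun h => absurd (mem_univ η₀) h), classInner_irr_self η₀.2, mul_one,
      ClassAlgebraVal.apply_one_eq_charDegree, hn]
  have hfU : ∀ v ∈ U.toSubmodule, Matrix.toLin' T v ∈ U.toSubmodule := by
    rintro _ ⟨w, rfl⟩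
    refine ⟨T *ᵥ w, ?_⟩
    simp only [Matrix.toLin'_apply, mulVec_mulVec, hE0, isoE_comm_of_comm ρ η₀ hT]
  obtain ⟨l0, hl0, -, hprod0⟩ := exists_roots n U.toRepresentation hcon
    ((Matrix.toLin' T).restrict hfU) (fun g v => Subtype.ext (hcomm g v.1))
  refine ⟨l, l0.toFinset, (List.toFinset_card_le l0).trans hl0, hev, hprod, fun μ hμ hμu => ?_⟩
  obtain ⟨v, hv⟩ := (hev μ hμ).exists_hasEigenvector
  have hTv : T *ᵥ v = μ • v := by simpa [Matrix.toLin'_apply] using hv.apply_eq_smul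
  obtain ⟨η, hη, hEv⟩ : ∃ η ∈ S, isoE ρ η *ᵥ v ≠ 0 := by
    by_contra hall
    push Not at hall
    refine hv.2 ?_
    rw [← one_mulVec v, ← sum_isoE ρ S hρ, sum_mulVec, Finset.sum_eq_zero hall]
  set m' := m * (Nat.card G / p) with hm'
  have hpp := hM.1
  have hmG : ¬ p ∣ Nat.card G / p := fun h => hp2 (Nat.mul_dvd_of_dvd_div hpG h)
  have hm'p : ¬ p ∣ m' := fun h => by
    rcases hpp.dvd_mul.1 h with h | h
    · exact hm h
    · exact hmG h
  obtain ⟨σ, hσ, hση⟩ := hconj m' hm'p η hη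
  set ζ : ℂ := Complex.exp (2 * Real.pi * Complex.I / p)
  have hζ : IsPrimitiveRoot ζ p := Complex.isPrimitiveRoot_exp p hpp.ne_zero
  have hKm : ∀ {x : ℂ}, x ∈ Km m → x ∈ Km m' := fun hx =>
    (IntermediateField.adjoin_le_iff.2 fun z hz => mem_Km_of_dvd (dvd_mul_right m _) hz) hx
  -- the characteristic polynomials
  have hηK : ∀ (ψ : IrrCharacter G) (g : G), (ψ : G → ℂ) g ∈ Kz m' ζ := by
    intro ψ g
    obtain ⟨N, ρψ, -, hψ⟩ := ψ.2
    obtain ⟨b, ev, -, hevp, -, h4⟩ := exists_rep_eigenbasis ρψ g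
    rw [← hψ, show ρψ.character g = ∑ i, ev i by simpa using h4 1]
    refine sum_mem fun i _ => mem_Kz_of_pow hpp hm'p hζ ?_
    obtain ⟨j, hj⟩ : orderOf g ∣ p * m' := by
      rw [hm', mul_left_comm, Nat.mul_div_cancel' hpG]
      exact (orderOf_dvd_natCard g).trans (dvd_mul_left _ _)
    rw [hj, pow_mul, hevp, one_pow]
  set B0 := T * E0 with hB0
  have hB0K : ∀ i j, B0 i j ∈ Kz m' ζ := by
    intro i j
    rw [hB0, Matrix.mul_apply]
    refine sum_mem fun x _ => mul_mem (mem_Kz_of_Km (hKm (hTF i x))) ?_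
    simp only [hE0, isoE, Matrix.smul_apply, Matrix.sum_apply, smul_eq_mul]
    refine mul_mem ?_ (sum_mem fun g _ => mul_mem (hηK η₀ g⁻¹) ?_)
    · rw [div_eq_mul_inv]
      refine mul_mem (hηK η₀ 1) (mem_Kz_of_Km (inv_mem (natCast_mem _ _)))
    · exact mem_Kz_of_Km (intCast_mem _ _)
  set f := B0.charpoly with hf
  have hcoefK : ∀ i, f.coeff i ∈ Kz m' ζ := by
    let B' : Matrix (Fin D) (Fin D) (Kz m' ζ) := Matrix.of fun i j => ⟨B0 i j, hB0K i j⟩
    intro i
    have h1 : f = B'.charpoly.map (Kz m' ζ).val.toRingHom := by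
      rw [hf, ← Matrix.charpoly_map]
      rfl
    rw [h1, Polynomial.coeff_map]
    exact (B'.charpoly.coeff i).2
  have hrootev : ∀ r ∈ f.roots, r ≠ 0 →
      ∃ w, w ≠ 0 ∧ E0 *ᵥ w = w ∧ T *ᵥ w = r • w := by
    intro r hr hr0
    have hr' : Module.End.HasEigenvalue (Matrix.toLin' B0) r := by
      rw [Module.End.hasEigenvalue_iff_isRoot_charpoly, Matrix.charpoly_toLin']
      exact Polynomial.isRoot_of_mem_roots hr
    obtain ⟨w, hw⟩ := hr'.exists_hasEigenvector
    have hBw : B0 *ᵥ w = r • w := by simpa [Matrix.toLin'_apply] using hw.apply_eq_smul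
    have hE : E0 *ᵥ w = w := by
      refine smul_right_injective _ hr0 (?_ : r • (E0 *ᵥ w) = r • w)
      rw [← mulVec_smul, ← hBw, mulVec_mulVec, hB0, ← Matrix.mul_assoc, hE0,
        isoE_comm_of_comm ρ η₀ hT, Matrix.mul_assoc, ← hE0, hE0E]
    exact ⟨w, hw.2, hE, by rw [hB0, ← mulVec_mulVec, hE] at hBw; exact hBw⟩
  have hroots : ∀ r ∈ f.roots, Int' M r := by
    intro r hr
    rcases eq_or_ne r 0 with rfl | hr0
    · exact int'_zero
    · obtain ⟨w, hw0, -, hTw⟩ := hrootev r hr hr0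
      exact int'_eigenvalue hTi (Module.End.hasEigenvalue_of_hasEigenvector
        ⟨Module.End.mem_eigenspace_iff.2 (by rw [Matrix.toLin'_apply, hTw]), hw0⟩)
  have hcoefI : ∀ i, Int' M (f.coeff i) := int'_coeff B0.charpoly_monic hroots
  have hσB : (T * isoE ρ η).charpoly = f.map σ.toRingHom := by
    rw [hf, ← Matrix.charpoly_map]
    congr 1
    rw [hB0, Matrix.map_mul]
    congr 1
    · ext i j
      rw [Matrix.map_apply]
      exact (aut_fix σ hσ (hKm (hTF i j))).symm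
    · ext i j
      rw [Matrix.map_apply]
      show _ = σ (E0 i j)
      simp only [hE0, isoE, Matrix.smul_apply, Matrix.sum_apply, smul_eq_mul, map_mul, map_sum,
        map_div₀, map_natCast, toC_apply, Matrix.map_apply, map_intCast, hση]
  have hμroot : (f.map σ.toRingHom).eval μ = 0 := by
    have hμ' : Module.End.HasEigenvalue (Matrix.toLin' (T * isoE ρ η)) μ := by
      refine Module.End.hasEigenvalue_of_hasEigenvector (x := isoE ρ η *ᵥ v)
        ⟨Module.End.mem_eigenspace_iff.2 ?_, hEv⟩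
      rw [Matrix.toLin'_apply, ← mulVec_mulVec, mulVec_mulVec v (isoE ρ η) (isoE ρ η), isoE_mul,
        if_pos rfl, mulVec_mulVec, ← isoE_comm_of_comm ρ η hT, ← mulVec_mulVec, hTv, mulVec_smul]
    rw [Module.End.hasEigenvalue_iff_isRoot_charpoly, Matrix.charpoly_toLin', hσB] at hμ'
    exact hμ'
  have hμi : Int' M μ := int'_eigenvalue hTi (hev μ hμ)
  have hsm : Sm M (f.eval μ) := by
    have h1 : f.eval μ = ∑ i ∈ range (f.natDegree + 1), (f.coeff i - σ (f.coeff i)) * μ ^ i := by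
      rw [Polynomial.eval_eq_sum_range]
      rw [Polynomial.eval_eq_sum_range,
        Polynomial.natDegree_map_eq_of_injective σ.toRingHom.injective] at hμroot
      simp only [Polynomial.coeff_map] at hμroot
      simp only [sub_mul, Finset.sum_sub_distrib]
      rw [show (∑ i ∈ range (f.natDegree + 1), σ (f.coeff i) * μ ^ i) = 0 from hμroot, sub_zero]
    rw [h1]
    refine sm_sum _ fun i _ => Sm.mul_right ?_ (hμi.pow i)
    exact sm_sub_comm.1 (sm_aut_sub hM hm'p hζ σ hσ (hcoefK i) (hcoefI i))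
  rw [(IsAlgClosed.splits f).eval_eq_prod_roots_of_monic B0.charpoly_monic] at hsm
  obtain ⟨r, hr, hrs⟩ : ∃ r ∈ f.roots, Sm M (μ - r) := by
    have key : ∀ s : Multiset ℂ, Sm M (s.map fun r => μ - r).prod → ∃ r ∈ s, Sm M (μ - r) := by
      intro s
      induction s using Multiset.induction with
      | empty => intro h; exact absurd (by simpa using h) not_sm_one
      | cons a s ih =>
        intro h
        rw [Multiset.map_cons, Multiset.prod_cons] at h
        rcases sm_of_mul h with h | h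
        · exact ⟨a, Multiset.mem_cons_self a s, h⟩
        · obtain ⟨r, hr, hr'⟩ := ih h
          exact ⟨r, Multiset.mem_cons_of_mem hr, hr'⟩
    exact key _ hsm
  have hr0 : r ≠ 0 := fun h => hμu (by simpa [h] using hrs)
  obtain ⟨w, hw0, hEw, hTw⟩ := hrootev r hr hr0
  refine ⟨r, List.mem_toFinset.2 ?_, hrs⟩
  have hwU : w ∈ U.toSubmodule := ⟨w, by rw [Matrix.toLin'_apply, hEw]⟩
  have hkey : ∀ l' : List ℂ, (l'.map fun ν => (Matrix.toLin' T).restrict hfU -
      ν • (1 : Module.End ℂ U.toSubmodule)).prod ⟨w, hwU⟩ =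
        (l'.map fun ν => r - ν).prod • (⟨w, hwU⟩ : U.toSubmodule) := by
    intro l'
    induction l' with
    | nil => simp
    | cons a l' ih =>
      simp only [List.map_cons, List.prod_cons, Module.End.mul_apply, ih, map_smul]
      refine Subtype.ext ?_
      show (l'.map fun ν => r - ν).prod • (T *ᵥ w - a • w) =
        ((r - a) * (l'.map fun ν => r - ν).prod) • w
      rw [hTw, ← sub_smul, smul_smul, mul_comm]
  have h0 := hkey l0
  rw [hprod0, LinearMap.zero_apply, eq_comm, smul_eq_zero] at h0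
  rcases h0 with h0 | h0
  · obtain ⟨a, ha, ha'⟩ := List.mem_map.1 (List.prod_eq_zero_iff.1 h0)
    rwa [sub_eq_zero.1 ha']
  · exact absurd (congrArg Subtype.val h0) hw0

end Cfsg.Agent.DefectOneSign7
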