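import Cfsg.Agent.Lib.DefectOneSign7Eigen

/-!
# The number of dual vectors is at most the length of the annihilating products

Abstract form of the argument: from a dual system modulo the image of `Φ` one gets eigenvectors
for the cyclic group `N / C`, hence an endomorphism commuting with `N` with many incongruent
eigenvalues; its relative trace to `G` commutes with `ρ`.
-/

set_option autoImplicit false

open Matrix Finset

namespace Cfsg.Agent.DefectOneSign7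

open Cfsg Cfsg.Agent.BrauerBlocksVal Cfsg.Agent.BrauerBlocksTrace

variable {ι : Type*} [Fintype ι] [DecidableEq ι] {G : Type*} [Group G] [Fintype G]
  {M : Ideal AlgInt} {p : ℕ}

attribute [local instance] Classical.propDecidable

/-- The relative trace to `G`. -/
noncomputable def relTr (ρ : G →* Matrix ι ι ℂ) (N : Subgroup G) (A : Matrix ι ι ℂ) :
    Matrix ι ι ℂ :=
  ∑ q : G ⧸ N, ρ q.out * A * ρ q.out⁻¹

theorem conj_of_commute (ρ : G →* Matrix ι ι ℂ) {A : Matrix ι ι ℂ} {n : G}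
    (h : ρ n * A = A * ρ n) : ρ n * A * ρ n⁻¹ = A := by
  rw [h, Matrix.mul_assoc, ← map_mul, mul_inv_cancel, map_one, Matrix.mul_one]

/-- The summand of the relative trace at a translated coset. -/
theorem relTr_term_smul (ρ : G →* Matrix ι ι ℂ) (N : Subgroup G) {A : Matrix ι ι ℂ}
    (hA : ∀ n ∈ N, ρ n * A = A * ρ n) (g : G) (q : G ⧸ N) :
    ρ (g • q).out * A * ρ (g • q).out⁻¹ = ρ g * (ρ q.out * A * ρ q.out⁻¹) * ρ g⁻¹ := by
  obtain ⟨n, hn⟩ := QuotientGroup.mk_out_eq_mul N (g * q.out)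
  have hq : g • q = ((g * q.out : G) : G ⧸ N) := by
    conv_lhs => rw [← QuotientGroup.out_eq' q]
    rfl
  rw [hq, hn, _root_.mul_inv_rev, _root_.mul_inv_rev, map_mul, map_mul, map_mul, map_mul]
  have h1 := conj_of_commute ρ (hA n n.2)
  calc ρ g * ρ q.out * ρ (n : G) * A * (ρ (n : G)⁻¹ * (ρ q.out⁻¹ * ρ g⁻¹))
      = ρ g * ρ q.out * (ρ (n : G) * A * ρ (n : G)⁻¹) * (ρ q.out⁻¹ * ρ g⁻¹) := by
        simp only [Matrix.mul_assoc]
    _ = ρ g * (ρ q.out * A * ρ q.out⁻¹) * ρ g⁻¹ := by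
        rw [h1]
        simp only [Matrix.mul_assoc]

theorem relTr_comm (ρ : G →* Matrix ι ι ℂ) (N : Subgroup G) {A : Matrix ι ι ℂ}
    (hA : ∀ n ∈ N, ρ n * A = A * ρ n) (g : G) : ρ g * relTr ρ N A = relTr ρ N A * ρ g := by
  have h1 : ρ g * relTr ρ N A * ρ g⁻¹ = relTr ρ N A := by
    rw [relTr, Finset.mul_sum, Finset.sum_mul]
    exact Fintype.sum_equiv (MulAction.toPerm g) _ _ fun q => (relTr_term_smul ρ N hA g q).symm
  conv_rhs => rw [← h1]
  rw [Matrix.mul_assoc _ (ρ g⁻¹), ← map_mul, inv_mul_cancel, map_one, Matrix.mul_one]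

/-- The term of the relative trace at the trivial coset. -/
theorem relTr_term_one (ρ : G →* Matrix ι ι ℂ) (N : Subgroup G) {A : Matrix ι ι ℂ}
    (hA : ∀ n ∈ N, ρ n * A = A * ρ n) :
    ρ ((1 : G) : G ⧸ N).out * A * ρ ((1 : G) : G ⧸ N).out⁻¹ = A := by
  obtain ⟨n, hn⟩ := QuotientGroup.mk_out_eq_mul N (1 : G)
  rw [hn, one_mul]
  exact conj_of_commute ρ (hA n n.2)

omit [DecidableEq ι] in
/-- An integral square matrix with unit determinant modulo the maximal ideal. -/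
theorem exists_left_inverse {h : ℕ} (Z : Matrix (Fin h) (Fin h) (vs M))
    (hZ : LinearIndependent (IsLocalRing.ResidueField (vs M))
      (fun j => (fun l => IsLocalRing.residue _ (Z l j))))
    (F : Subfield ℂ) (hF : ∀ i j, (Z i j : ℂ) ∈ F) :
    ∃ Y : Matrix (Fin h) (Fin h) (vs M), Y * Z = 1 ∧ ∀ i j, (Y i j : ℂ) ∈ F := by
  let q : vs M →+* IsLocalRing.ResidueField (vs M) := IsLocalRing.residue _
  have h1 : IsUnit (q.mapMatrix Z) := Matrix.linearIndependent_cols_iff_isUnit.1 hZ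
  have h2 : IsUnit Z.det := by
    have h3 := (Matrix.isUnit_iff_isUnit_det _).1 h1
    rw [← RingHom.map_det] at h3
    exact (isUnit_map_iff q Z.det).1 h3
  refine ⟨Z⁻¹, Matrix.nonsing_inv_mul Z h2, fun i j => ?_⟩
  let ψ : vs M →+* ℂ := (vs M).subtype
  have h3 : (ψ.mapMatrix Z)⁻¹ = ψ.mapMatrix Z⁻¹ :=
    Matrix.inv_eq_left_inv (by rw [← map_mul, Matrix.nonsing_inv_mul Z h2, map_one])
  let W : Matrix (Fin h) (Fin h) F := Matrix.of fun i j => ⟨(Z i j : ℂ), hF i j⟩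
  have hW : F.subtype.mapMatrix W = ψ.mapMatrix Z := rfl
  have h4 : IsUnit W.det := by
    rw [isUnit_iff_ne_zero]
    intro h0
    have h5 := (RingHom.map_det F.subtype W).symm
    rw [hW, h0, map_zero, ← RingHom.map_det] at h5
    exact (h2.map ψ).ne_zero h5
  have h6 : (ψ.mapMatrix Z)⁻¹ = F.subtype.mapMatrix W⁻¹ :=
    Matrix.inv_eq_left_inv (by rw [← hW, ← map_mul, Matrix.nonsing_inv_mul W h4, map_one])
  have h7 := congrFun (congrFun (h3.symm.trans h6) i) j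
  show ψ (Z⁻¹ i j) ∈ F
  rw [show ψ (Z⁻¹ i j) = F.subtype (W⁻¹ i j) from h7]
  exact (W⁻¹ i j).2

omit [Fintype G] in
theorem intV_mulVec_rep {ρ : G →* Matrix ι ι ℂ} (hρ : ∀ g, IntM M (ρ g)) {v : ι → ℂ}
    (hv : IntV M v) (g : G) : IntV M (ρ g *ᵥ v) := hv.mulVec (hρ g)

/-- The counting bound. -/
theorem card_le_of_dual [Fact p.Prime] (hM : IsPModular p M) (ρ : G →* Matrix ι ι ℂ)
    (hρ : ∀ g, IntM M (ρ g)) (N C : Subgroup G) [Fintype C] (n0 : G) {e : ℕ} (he : 0 < e)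
    (hep : ¬ p ∣ e) (hne : n0 ^ e ∈ C) (hgen : ∀ n ∈ N, ∃ i : ℕ, ∃ c ∈ C, n = n0 ^ i * c)
    (Φ : Matrix ι ι ℂ) (hΦG : ∀ A, (∀ g, ρ g * A = A * ρ g) → A * Φ = Φ * A)
    (hΦN : ∀ i : ℕ, ∃ Y, IntM M Y ∧ ρ (n0 ^ i) * Φ = Φ * Y)
    (K : Submodule ℂ (ι → ℂ)) (hK : ∀ i : ℕ, ∀ v ∈ K, ρ (n0 ^ i) *ᵥ v ∈ K)
    (hnorm : ∀ d ∈ C, ∀ i : ℕ, (n0 ^ i)⁻¹ * d * n0 ^ i ∈ C)
    (hKfix : ∀ v ∈ K, ρ (n0 ^ e) *ᵥ v = v)
    (s : ℤ) (hs : s = 1 ∨ s = -1)
    (hAvg : ∀ v f, v ∈ K → IntV M v → IntV M f → Good M p Φ f → IntM M (avg ρ C v f) ∧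
      ∀ w ∈ K, IntV M w → InT M Φ (avg ρ C v f *ᵥ w - ((s : ℂ) * (f ⬝ᵥ w)) • v))
    (hTr : ∀ A, IntM M A → (∀ n ∈ N, ρ n * A = A * ρ n) → ∀ v ∈ K, IntV M v →
      InT M Φ ((relTr ρ N A - A) *ᵥ v))
    {h : ℕ} (F : Subfield ℂ) (hFe : ∀ z : ℂ, z ^ e = 1 → z ∈ F)
    (hFh : ∀ z : ℂ, z ^ (h * p + 1) = 1 → z ∈ F) (hρF : ∀ g i j, ρ g i j ∈ F)
    (ℓ : ℕ) (hroots : ∀ A, (∀ g, ρ g * A = A * ρ g) → IntM M A → (∀ i j, A i j ∈ F) →
      ∃ (l : List ℂ) (R : Finset ℂ), R.card ≤ ℓ ∧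
      (∀ μ ∈ l, Module.End.HasEigenvalue (Matrix.toLin' A) μ) ∧
      (l.map fun μ => Matrix.toLin' A - μ • (1 : Module.End ℂ (ι → ℂ))).prod = 0 ∧
      ∀ μ ∈ l, ¬ Sm M μ → ∃ ν ∈ R, Sm M (μ - ν)) (u g : Fin h → ι → ℂ) (hu : ∀ i, u i ∈ K) (hui : ∀ i, IntV M (u i))
    (hgi : ∀ l, IntV M (g l)) (hgg : ∀ l, Good M p Φ (g l))
    (hdual : ∀ l i, Sm M (g l ⬝ᵥ u i - if l = i then 1 else 0))
    (huF : ∀ i k, u i k ∈ F) (hgF : ∀ l k, g l k ∈ F) : h ≤ ℓ := by
  classical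
  -- roots of unity
  set ζ : ℂ := Complex.exp (2 * Real.pi * Complex.I / e) with hζdef
  have hζ : IsPrimitiveRoot ζ e := Complex.isPrimitiveRoot_exp e he.ne'
  have hζi : ∀ r : ℕ, Int' M (ζ ^ r) := fun r =>
    (int'_of_isIntegral hM (hζ.isIntegral he)).pow r
  have hζ' : ∀ r : ℕ, Int' M ((ζ ^ r)⁻¹) := fun r => by
    rw [← inv_pow]
    exact (int'_of_isIntegral hM (hζ.inv.isIntegral he)).pow r
  -- projections to eigenvectors
  let P : ℕ → (ι → ℂ) → (ι → ℂ) := fun r v =>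
    (e : ℂ)⁻¹ • ∑ i ∈ range e, ((ζ ^ r) ^ i)⁻¹ • (ρ (n0 ^ i) *ᵥ v)
  have hPK : ∀ r, ∀ v ∈ K, P r v ∈ K := fun r v hv =>
    K.smul_mem _ (K.sum_mem fun i _ => K.smul_mem _ (hK i v hv))
  have hPi : ∀ r v, IntV M v → IntV M (P r v) := fun r v hv k => by
    simp only [P, Pi.smul_apply, Finset.sum_apply, smul_eq_mul]
    refine (int'_inv_natCast hM hep).mul (int'_sum _ fun i _ => ?_)
    rw [← pow_mul]
    exact (hζ' _).mul (hv.mulVec (hρ _) k)
  have hPsum : ∀ v, (∑ r ∈ range e, P r v) = v := by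
    intro v
    simp only [P, ← Finset.smul_sum]
    rw [Finset.sum_comm]
    have h1 : ∀ i ∈ range e, ∑ r ∈ range e, ((ζ ^ r) ^ i)⁻¹ • (ρ (n0 ^ i) *ᵥ v) =
        if i = 0 then (e : ℂ) • v else 0 := by
      intro i hi
      rw [← Finset.sum_smul]
      split_ifs with h0
      · subst h0
        simp
      · have hz : (ζ ^ i)⁻¹ ≠ 1 := fun h1 =>
          hζ.pow_ne_one_of_pos_of_lt h0 (Finset.mem_range.1 hi) (inv_eq_one.1 h1)
        have hz2 : ((ζ ^ i)⁻¹) ^ e = 1 := by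
          rw [inv_pow, ← pow_mul, mul_comm, pow_mul, hζ.pow_eq_one, one_pow, inv_one]
        have h2 : ∑ r ∈ range e, ((ζ ^ r) ^ i)⁻¹ = ∑ r ∈ range e, ((ζ ^ i)⁻¹) ^ r :=
          Finset.sum_congr rfl fun r _ => by rw [inv_pow, ← pow_mul, ← pow_mul, mul_comm]
        rw [h2, geom_sum_eq hz, hz2, sub_self, zero_div, zero_smul]
    rw [Finset.sum_congr rfl h1, Finset.sum_ite_eq', if_pos (Finset.mem_range.2 he), smul_smul,
      inv_mul_cancel₀ (Nat.cast_ne_zero.2 he.ne'), one_smul]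
  have hPeig : ∀ r, ∀ v ∈ K, ρ n0 *ᵥ P r v = ζ ^ r • P r v := by
    intro r v hv
    obtain ⟨d, rfl⟩ := Nat.exists_eq_succ_of_ne_zero he.ne'
    simp only [P, mulVec_smul, mulVec_sum]
    rw [smul_comm]
    congr 1
    rw [Finset.smul_sum]
    have h1 : ∀ i, ((ζ ^ r) ^ i)⁻¹ • (ρ n0 *ᵥ (ρ (n0 ^ i) *ᵥ v)) =
        ζ ^ r • (((ζ ^ r) ^ (i + 1))⁻¹ • (ρ (n0 ^ (i + 1)) *ᵥ v)) := by
      intro i
      rw [mulVec_mulVec, ← map_mul, ← pow_succ', smul_smul]
      congr 1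
      rw [pow_succ (ζ ^ r) i, _root_.mul_inv_rev, ← mul_assoc,
        mul_inv_cancel₀ (pow_ne_zero _ (hζ.ne_zero (Nat.succ_ne_zero d))), one_mul]
    rw [Finset.sum_congr rfl fun i _ => h1 i,
      Finset.sum_range_succ (fun i => ζ ^ r • (((ζ ^ r) ^ (i + 1))⁻¹ • (ρ (n0 ^ (i + 1)) *ᵥ v))) d,
      Finset.sum_range_succ' (fun i => ζ ^ r • (((ζ ^ r) ^ i)⁻¹ • (ρ (n0 ^ i) *ᵥ v))) d]
    congr 2
    rw [hKfix v hv, ← pow_mul, mul_comm r, pow_mul, hζ.pow_eq_one, one_pow]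
    simp
  -- images in the residue space
  have hgPi : ∀ (ir : Fin h × Fin e) (l : Fin h), Int' M (g l ⬝ᵥ P ir.2 (u ir.1)) := fun ir l =>
    int'_dot (hgi l) (hPi _ _ (hui _))
  let q : vs M →+* IsLocalRing.ResidueField (vs M) := IsLocalRing.residue _
  let z : Fin h × Fin e → Fin h → IsLocalRing.ResidueField (vs M) := fun ir l =>
    q ⟨g l ⬝ᵥ P ir.2 (u ir.1), hgPi ir l⟩
  have hspan : Submodule.span _ (Set.range z) = (⊤ : Submodule (IsLocalRing.ResidueField (vs M))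
      (Fin h → IsLocalRing.ResidueField (vs M))) := by
    rw [eq_top_iff]
    intro y _
    have hy : y = ∑ i, y i • (Pi.single i 1 : Fin h → IsLocalRing.ResidueField (vs M)) :=
      pi_eq_sum_univ' y
    rw [hy]
    refine Submodule.sum_mem _ fun i _ => Submodule.smul_mem _ _ ?_
    have h1 : (Pi.single i 1 : Fin h → IsLocalRing.ResidueField (vs M)) = ∑ r : Fin e, z (i, r) := by
      funext l
      rw [Finset.sum_apply]
      show _ = ∑ r : Fin e, q ⟨g l ⬝ᵥ P r (u i), hgPi (i, r) l⟩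
      rw [← map_sum]
      have hval : ((∑ r : Fin e, (⟨g l ⬝ᵥ P r (u i), hgPi (i, r) l⟩ : vs M) : vs M) : ℂ) =
          g l ⬝ᵥ u i := by
        rw [AddSubmonoidClass.coe_finsetSum,
          Fin.sum_univ_eq_sum_range (fun r => g l ⬝ᵥ P r (u i)) e, ← dotProduct_sum, hPsum]
      have h2 : q (∑ r : Fin e, (⟨g l ⬝ᵥ P r (u i), hgPi (i, r) l⟩ : vs M)) =
          q (if l = i then 1 else 0) := by
        rw [← sub_eq_zero, ← map_sub, IsLocalRing.residue_eq_zero_iff,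
          (vs M).valuation_lt_one_iff]
        show Sm M _
        rw [AddSubgroupClass.coe_sub, hval]
        convert hdual l i using 2
        split_ifs <;> simp
      rw [h2, Pi.single_apply]
      split_ifs <;> simp
    rw [h1]
    exact Submodule.sum_mem _ fun r _ => Submodule.subset_span ⟨(i, r), rfl⟩
  obtain ⟨b, hbsub, hbspan, hbli⟩ :=
    exists_linearIndependent (IsLocalRing.ResidueField (vs M)) (Set.range z)
  rw [hspan] at hbspan
  let B := Module.Basis.mk hbli (by rw [Subtype.range_coe, hbspan])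
  have : Finite b := hbli.finite
  have := Fintype.ofFinite b
  have hcard : Fintype.card b = h := by
    rw [← Module.finrank_eq_card_basis B, Module.finrank_fin_fun]
  let E : Fin h ≃ b := (Fintype.equivFinOfCardEq hcard).symm
  choose ir hir using fun j : Fin h => hbsub (E j).2
  obtain ⟨v, hv⟩ : ∃ v : Fin h → ι → ℂ, ∀ j, v j = P (ir j).2 (u (ir j).1) := ⟨_, fun j => rfl⟩
  set r : Fin h → ℕ := fun j => (ir j).2 with hr
  have hvK : ∀ j, v j ∈ K := fun j => hv j ▸ hPK _ _ (hu _)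
  have hvi : ∀ j, IntV M (v j) := fun j => hv j ▸ hPi _ _ (hui _)
  let Z : Matrix (Fin h) (Fin h) (vs M) := Matrix.of fun l j => ⟨g l ⬝ᵥ v j, int'_dot (hgi l) (hvi j)⟩
  have hmv : ∀ (a : G) (w : ι → ℂ), (∀ k, w k ∈ F) → ∀ k, (ρ a *ᵥ w) k ∈ F := fun a w hw k =>
    sum_mem fun j _ => mul_mem (hρF a k j) (hw j)
  have hζF : ∀ r : ℕ, ζ ^ r ∈ F := fun r => pow_mem (hFe ζ hζ.pow_eq_one) r
  have hvF : ∀ j k, v j k ∈ F := by
    intro j k
    rw [hv j]
    simp only [P, Pi.smul_apply, Finset.sum_apply, smul_eq_mul]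
    exact mul_mem (inv_mem (natCast_mem F e)) (sum_mem fun i _ =>
      mul_mem (inv_mem (pow_mem (hζF _) i)) (hmv _ _ (huF _) k))
  have hdotF : ∀ l j, g l ⬝ᵥ v j ∈ F := fun l j =>
    sum_mem fun k _ => mul_mem (hgF l k) (hvF j k)
  obtain ⟨Y, hY, hYF⟩ := exists_left_inverse Z (F := F) (hF := fun l j => hdotF l j) (hZ := by
    have : (fun j => fun l => IsLocalRing.residue _ (Z l j)) = fun j => ((E j : b) : Fin h → _) := by
      funext j
      rw [← hir j]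
      funext l
      exact congrArg q (Subtype.ext (congrArg (g l ⬝ᵥ ·) (hv j)))
    rw [this]
    exact hbli.comp _ E.injective)
  set f : Fin h → ι → ℂ := fun j => ∑ l, (Y j l : ℂ) • g l with hf
  have hfi : ∀ j, IntV M (f j) := fun j k => by
    simp only [hf, Finset.sum_apply, Pi.smul_apply, smul_eq_mul]
    exact int'_sum _ fun l _ => Int'.mul (Y j l).2 (hgi l k)
  have hfg : ∀ j, Good M p Φ (f j) := fun j =>
    Good.sum _ (fun l _ => (Y j l).2) fun l _ => hgg l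
  have hfv : ∀ j i, f j ⬝ᵥ v i = if j = i then 1 else 0 := by
    intro j i
    have h1 := congrArg Subtype.val (congrFun (congrFun hY j) i)
    rw [Matrix.mul_apply, AddSubmonoidClass.coe_finsetSum] at h1
    simp only [hf, sum_dotProduct, smul_dotProduct, smul_eq_mul]
    refine Eq.trans h1 ?_
    rw [Matrix.one_apply]
    split_ifs <;> simp
  -- eigen relations
  have hveig : ∀ j (i : ℕ), ρ (n0 ^ i) *ᵥ v j = (ζ ^ r j) ^ i • v j := by
    intro j i
    induction i with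
    | zero => simp
    | succ i ih =>
      have h0 : ρ n0 *ᵥ v j = ζ ^ r j • v j := by rw [hv j]; exact hPeig _ _ (hu _)
      rw [pow_succ n0 i, map_mul, ← mulVec_mulVec, h0, mulVec_smul]
      rw [ih, smul_smul, pow_succ']
  have hveig' : ∀ j (i : ℕ), ρ (n0 ^ i)⁻¹ *ᵥ v j = ((ζ ^ r j) ^ i)⁻¹ • v j := by
    intro j i
    have h1 := congrArg (fun w => ((ζ ^ r j) ^ i)⁻¹ • (ρ (n0 ^ i)⁻¹ *ᵥ w)) (hveig j i)
    simp only [mulVec_smul, smul_smul, mulVec_mulVec, ← map_mul, inv_mul_cancel, map_one,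
      one_mulVec, inv_mul_cancel₀ (pow_ne_zero _ (pow_ne_zero _ (hζ.ne_zero he.ne'))), one_smul] at h1
    exact h1.symm
  -- incongruent scalars
  set n : ℕ := h * p + 1 with hn
  set ω : ℂ := Complex.exp (2 * Real.pi * Complex.I / n) with hωdef
  have hω : IsPrimitiveRoot ω n := Complex.isPrimitiveRoot_exp n (Nat.succ_ne_zero _)
  have hωi : Int' M ω := int'_of_isIntegral hM (hω.isIntegral (Nat.succ_pos _))
  have hωp : ¬ p ∣ n := fun hd => hM.1.ne_one <| Nat.dvd_one.1 <|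
    (Nat.dvd_add_right (dvd_mul_left p h)).1 hd
  have hlt : ∀ i j : Fin h, i < j → ¬ Sm M (ω ^ (j : ℕ) - ω ^ (i : ℕ)) := by
    intro i j hij hsm
    have h1 : Sm M (ω ^ ((j : ℕ) - i) - 1) := by
      rcases sm_of_mul (z := ω ^ (i : ℕ)) (w := ω ^ ((j : ℕ) - i) - 1) (by
        rwa [mul_sub, ← pow_add, Nat.add_sub_cancel' (le_of_lt hij), mul_one]) with h0 | h0
      · exfalso
        have h2 := h0.mul_left (hωi.pow (n - i))
        rw [← pow_add, Nat.sub_add_cancel, hω.pow_eq_one] at h2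
        · exact not_sm_one h2
        · have hp1 : h * 1 ≤ h * p := Nat.mul_le_mul_left _ hM.1.one_le
          omega
      · exact h0
    have h2 := eq_one_of_pow_eq_one_of_sm hM hωp (by rw [← pow_mul, mul_comm, pow_mul, hω.pow_eq_one, one_pow]) h1
    have hp1 : h * 1 ≤ h * p := Nat.mul_le_mul_left _ hM.1.one_le
    have hij' : (i : ℕ) < j := hij
    have hj := j.2
    exact hω.pow_ne_one_of_pos_of_lt (by omega) (by omega) h2
  have hcc : ∀ i j : Fin h, Sm M (ω ^ (i : ℕ) - ω ^ (j : ℕ)) → i = j := by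
    intro i j hsm
    rcases lt_trichotomy i j with h1 | h1 | h1
    · exact absurd (sm_sub_comm.1 hsm) (hlt i j h1)
    · exact h1
    · exact absurd hsm (hlt j i h1)
  set c : Fin h → ℂ := fun j => (s : ℂ) * ω ^ (j : ℕ) with hcdef
  have hs2 : (s : ℂ) * s = 1 := by rcases hs with rfl | rfl <;> norm_num
  -- the endomorphism
  set A0 : Matrix ι ι ℂ := ∑ j, ((c j) * (e : ℂ)⁻¹) •
    (∑ i ∈ range e, ρ (n0 ^ i) * avg ρ C (v j) (f j) * ρ (n0 ^ i)⁻¹) with hA0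
  have hA0i : IntM M A0 := by
    refine intM_sum _ fun j _ => IntM.smul (intM_sum _ fun i _ => ?_) ?_
    · exact ((hρ _).mul (hAvg _ _ (hvK j) (hvi j) (hfi j) (hfg j)).1).mul (hρ _)
    · exact ((int'_intCast s).mul (hωi.pow _)).mul (int'_inv_natCast hM hep)
  have hCcomm : ∀ d ∈ C, ρ n0 * (ρ d) = ρ (n0 * d) := fun d _ => (map_mul ρ n0 d).symm
  have hA0n : ρ n0 * A0 = A0 * ρ n0 := by
    rw [hA0, Finset.mul_sum, Finset.sum_mul]
    refine Finset.sum_congr rfl fun j _ => ?_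
    rw [Matrix.mul_smul, Matrix.smul_mul, avg_cyclic_comm ρ he _ (avg_comm ρ C _ _ hne)]
  have hA0C : ∀ d ∈ C, (∀ i : ℕ, (n0 ^ i)⁻¹ * d * n0 ^ i ∈ C) → ρ d * A0 = A0 * ρ d := by
    intro d _ hconj
    rw [hA0, Finset.mul_sum, Finset.sum_mul]
    refine Finset.sum_congr rfl fun j _ => ?_
    rw [Matrix.mul_smul, Matrix.smul_mul, Finset.mul_sum, Finset.sum_mul]
    congr 1
    refine Finset.sum_congr rfl fun i _ => ?_
    set a := n0 ^ i with ha
    have h1 : ρ d * ρ a = ρ a * ρ (a⁻¹ * d * a) := by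
      rw [← map_mul, ← map_mul]; congr 1; group
    have h2 : ρ (a⁻¹ * d * a) * ρ a⁻¹ = ρ a⁻¹ * ρ d := by
      rw [← map_mul, ← map_mul]; congr 1; group
    calc ρ d * (ρ a * avg ρ C (v j) (f j) * ρ a⁻¹)
        = (ρ d * ρ a) * avg ρ C (v j) (f j) * ρ a⁻¹ := by simp only [Matrix.mul_assoc]
      _ = ρ a * (ρ (a⁻¹ * d * a) * avg ρ C (v j) (f j)) * ρ a⁻¹ := by
          rw [h1]; simp only [Matrix.mul_assoc]
      _ = ρ a * avg ρ C (v j) (f j) * (ρ (a⁻¹ * d * a) * ρ a⁻¹) := by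
          rw [avg_comm ρ C _ _ (show a⁻¹ * d * a ∈ C from hconj i)]; simp only [Matrix.mul_assoc]
      _ = _ := by rw [h2]; simp only [Matrix.mul_assoc]
  have hA0v : ∀ l, InT M Φ (A0 *ᵥ v l - ω ^ (l : ℕ) • v l) := by
    intro l
    have h1 : ∀ j, ∀ i ∈ range e, InT M Φ
        ((ρ (n0 ^ i) * avg ρ C (v j) (f j) * ρ (n0 ^ i)⁻¹) *ᵥ v l -
          ((s : ℂ) * if j = l then 1 else 0) • v l) := by
      intro j i _
      obtain ⟨Y', hY', hY'e⟩ := hΦN i
      have h2 := ((hAvg _ _ (hvK j) (hvi j) (hfi j) (hfg j)).2 _ (hvK l) (hvi l)).mulVec (hρ _) hY' hY'e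
      have h3 : ∀ k : ℕ, Int' M ((((ζ ^ r l) ^ k))⁻¹) := fun k => by rw [← pow_mul]; exact hζ' _
      have h4 := h2.smul (h3 i)
      convert h4 using 1
      rw [← mulVec_mulVec, ← mulVec_mulVec, hveig' l i, mulVec_smul, mulVec_smul, mulVec_sub,
        mulVec_smul, smul_sub, smul_smul, hfv, hveig j i, smul_smul]
      congr 1
      split_ifs with hjl
      · subst hjl
        congr 1
        field_simp [hζ.ne_zero he.ne']
      · simp
    have h5 : InT M Φ (∑ j, ((c j) * (e : ℂ)⁻¹) • ∑ i ∈ range e,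
        ((ρ (n0 ^ i) * avg ρ C (v j) (f j) * ρ (n0 ^ i)⁻¹) *ᵥ v l -
          ((s : ℂ) * if j = l then 1 else 0) • v l)) :=
      inT_sum _ fun j _ => (inT_sum _ (h1 j)).smul
        (((int'_intCast s).mul (hωi.pow _)).mul (int'_inv_natCast hM hep))
    convert h5 using 1
    simp only [Finset.sum_sub_distrib, smul_sub, hA0, sum_mulVec, smul_mulVec, Finset.sum_const,
      Finset.card_range]
    congr 1
    rw [Finset.sum_eq_single l (fun j _ hj => by simp [hj]) (fun h0 => absurd (mem_univ l) h0),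
      if_pos rfl, mul_one, ← Nat.cast_smul_eq_nsmul ℂ e, smul_smul, smul_smul]
    congr 1
    simp only [hcdef]
    rw [show (s : ℂ) * ω ^ (l : ℕ) * (e : ℂ)⁻¹ * (e : ℂ) * s =
        ((s : ℂ) * s) * ω ^ (l : ℕ) * ((e : ℂ)⁻¹ * e) by ring,
      hs2, inv_mul_cancel₀ (Nat.cast_ne_zero.2 he.ne'), one_mul, mul_one]
  have hA0N : ∀ x ∈ N, ρ x * A0 = A0 * ρ x := by
    intro x hx
    obtain ⟨i, d, hd, rfl⟩ := hgen x hx
    have h1 : ∀ k : ℕ, ρ (n0 ^ k) * A0 = A0 * ρ (n0 ^ k) := by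
      intro k
      induction k with
      | zero => simp
      | succ k ih => rw [pow_succ, map_mul, Matrix.mul_assoc, hA0n, ← Matrix.mul_assoc, ih,
          Matrix.mul_assoc]
    rw [map_mul, Matrix.mul_assoc, hA0C d hd (hnorm d hd), ← Matrix.mul_assoc, h1,
      Matrix.mul_assoc]
  have hTi : IntM M (relTr ρ N A0) := intM_sum _ fun q _ => ((hρ _).mul hA0i).mul (hρ _)
  have hfF : ∀ j k, f j k ∈ F := by
    intro j k
    simp only [hf, Finset.sum_apply, Pi.smul_apply, smul_eq_mul]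
    exact sum_mem fun l _ => mul_mem (hYF j l) (hgF l k)
  have hMmul : ∀ {A B : Matrix ι ι ℂ}, (∀ i j, A i j ∈ F) → (∀ i j, B i j ∈ F) →
      ∀ i j, (A * B) i j ∈ F := fun hA hB i j =>
    sum_mem fun k _ => mul_mem (hA i k) (hB k j)
  have hA0F : ∀ i j, A0 i j ∈ F := by
    intro a b
    simp only [hA0, Matrix.sum_apply, Matrix.smul_apply, smul_eq_mul]
    refine sum_mem fun j _ => mul_mem (mul_mem (mul_mem (intCast_mem F s)
      (pow_mem (hFh ω hω.pow_eq_one) _)) (inv_mem (natCast_mem F e))) (sum_mem fun i _ => ?_)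
    refine hMmul (hMmul (hρF _) fun x y => ?_) (hρF _) a b
    simp only [avg, Matrix.smul_apply, Matrix.sum_apply, smul_eq_mul]
    refine mul_mem (inv_mem (natCast_mem F _)) (sum_mem fun c _ => hMmul (hMmul (hρF _) ?_) (hρF _) x y)
    intro x y
    rw [vecMulVec_apply]
    exact mul_mem (hvF j x) (hfF j y)
  have hTF : ∀ i j, relTr ρ N A0 i j ∈ F := by
    intro a b
    simp only [relTr, Matrix.sum_apply]
    exact sum_mem fun q _ => hMmul (hMmul (hρF _) hA0F) (hρF _) a b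
  obtain ⟨l, R, hlen, hev, hprod, hR⟩ := hroots _ (relTr_comm ρ N hA0N) hTi hTF
  refine (card_le_of_eigen hM hTi (hΦG _ (relTr_comm ρ N hA0N)) v f
    (fun j => ω ^ (j : ℕ)) hvi hfi hfg (fun j => by rw [hfv, if_pos rfl]) (fun j => hωi.pow _)
    hcc (fun j => ?_) l hev hprod R (fun j => not_sm_pow (fun h0 => ?_) _) hR).trans hlen
  rotate_left
  · have h1 := h0.pow (n := n) (Nat.succ_ne_zero _)
    rw [hω.pow_eq_one] at h1
    exact not_sm_one h1
  have h2 := (hTr A0 hA0i hA0N (v j) (hvK j) (hvi j)).add (hA0v j)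
  convert h2 using 1
  rw [sub_mulVec]
  abel

end Cfsg.Agent.DefectOneSign7
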