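import Mathlib

/-!
# Reduction mod `p` of an integral representation of a group of order `p` times a `p′`-group

`X` is an integer matrix with `X ^ p = 1`, `A` one with `A * A = u • A`, `p ∤ u`.  We produce
vectors in the fixed lattice (resp. the lattice killed by `∑ X ^ k`) which are dual, mod `p`, to
functionals killing the relative traces (resp. the image of `X - 1`).
-/

set_option autoImplicit false

open Module Matrix

namespace Cfsg.Agent.DefectOneSign7

variable {ι : Type*} [Fintype ι] [DecidableEq ι]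

/-- Reduction of integer vectors. -/
def red (p : ℕ) : (ι → ℤ) →+ (ι → ZMod p) where
  toFun v i := (v i : ZMod p)
  map_zero' := by ext i; simp
  map_add' v w := by ext i; simp

/-- Reduction of an integer matrix. -/
def redMat (p : ℕ) (A : Matrix ι ι ℤ) : Matrix ι ι (ZMod p) :=
  (Int.castRingHom (ZMod p)).mapMatrix A

theorem red_mulVec (p : ℕ) (A : Matrix ι ι ℤ) (v : ι → ℤ) :
    red p (A *ᵥ v) = redMat p A *ᵥ red p v := by
  funext i
  exact RingHom.map_mulVec (Int.castRingHom (ZMod p)) A v i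

omit [Fintype ι] [DecidableEq ι] in
theorem red_surjective (p : ℕ) : Function.Surjective (red (ι := ι) p) := fun v =>
  ⟨fun i => (ZMod.intCast_surjective (v i)).choose,
    funext fun i => (ZMod.intCast_surjective (v i)).choose_spec⟩

omit [Fintype ι] [DecidableEq ι] in
theorem red_zsmul (p : ℕ) (n : ℤ) (v : ι → ℤ) : red p (n • v) = (n : ZMod p) • red p v := by
  funext i; simp [red]

/-- The reduction of a sublattice. -/
def redSub (p : ℕ) (L : Submodule ℤ (ι → ℤ)) : Submodule (ZMod p) (ι → ZMod p) where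
  carrier := red p '' L
  zero_mem' := ⟨0, L.zero_mem, map_zero _⟩
  add_mem' := by
    rintro _ _ ⟨v, hv, rfl⟩ ⟨w, hw, rfl⟩
    exact ⟨v + w, L.add_mem hv hw, map_add _ _ _⟩
  smul_mem' := by
    rintro c _ ⟨v, hv, rfl⟩
    obtain ⟨n, rfl⟩ := ZMod.intCast_surjective c
    exact ⟨n • v, L.smul_mem n hv, red_zsmul p n v⟩

variable {p : ℕ} [Fact p.Prime]

omit [Fintype ι] [DecidableEq ι] in
theorem red_eq_zero {v : ι → ℤ} (h : red p v = 0) : ∃ w, v = (p : ℤ) • w := by
  have : ∀ i, ∃ w : ℤ, v i = (p : ℤ) * w := fun i =>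
    (ZMod.intCast_zmod_eq_zero_iff_dvd (v i) p).1 (congrFun h i)
  choose w hw using this
  exact ⟨w, funext fun i => by simp [hw i]⟩

theorem finrank_redSub (L : Submodule ℤ (ι → ℤ)) (hsat : ∀ v, (p : ℤ) • v ∈ L → v ∈ L) :
    finrank (ZMod p) (redSub p L) = finrank ℤ L := by
  let b := Module.Free.chooseBasis ℤ L
  have hp0 : (p : ℤ) ≠ 0 := Int.natCast_ne_zero.2 (Fact.out : p.Prime).ne_zero
  let f : Module.Free.ChooseBasisIndex ℤ L → redSub p L := fun i =>
    ⟨red p (b i : ι → ℤ), (b i : ι → ℤ), (b i).2, rfl⟩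
  have hli : LinearIndependent (ZMod p) f := by
    rw [Fintype.linearIndependent_iff]
    intro c hc i
    choose n hn using fun j => ZMod.intCast_surjective (c j)
    have h1 : red p ((∑ j, n j • b j : L) : ι → ℤ) = 0 := by
      rw [Submodule.coe_sum, map_sum]
      have h2 := congrArg Subtype.val hc
      simp only [Submodule.coe_sum, Submodule.coe_smul, ZeroMemClass.coe_zero] at h2
      rw [← h2]
      refine Finset.sum_congr rfl fun j _ => ?_
      rw [Submodule.coe_smul, red_zsmul, hn]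
    obtain ⟨w, hw⟩ := red_eq_zero h1
    have hwL : w ∈ L := hsat w (hw ▸ (∑ j, n j • b j : L).2)
    have h3 : (∑ j, n j • b j : L) = (p : ℤ) • ⟨w, hwL⟩ := Subtype.ext hw
    have h4 := congrArg (fun x => b.repr x i) h3
    simp only [map_sum, map_smul, Finsupp.coe_finsetSum, Finsupp.coe_smul, Finset.sum_apply,
      Pi.smul_apply, smul_eq_mul, b.repr_self] at h4
    rw [Finset.sum_eq_single i (fun j _ hj => by rw [Finsupp.single_eq_of_ne (Ne.symm hj), mul_zero])
      (fun h => absurd (Finset.mem_univ i) h), Finsupp.single_eq_same, mul_one] at h4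
    rw [← hn i, ZMod.intCast_zmod_eq_zero_iff_dvd, h4]
    exact dvd_mul_right _ _
  have hsp : ⊤ ≤ Submodule.span (ZMod p) (Set.range f) := by
    rintro ⟨_, v, hv, rfl⟩ -
    have h1 := b.sum_repr ⟨v, hv⟩
    have h2 : (⟨red p v, v, hv, rfl⟩ : redSub p L) =
        ∑ j, ((b.repr ⟨v, hv⟩ j : ℤ) : ZMod p) • f j := by
      refine Subtype.ext ?_
      simp only [Submodule.coe_sum, Submodule.coe_smul, f]
      conv_lhs => rw [show v = ((⟨v, hv⟩ : L) : ι → ℤ) from rfl, ← h1]
      rw [Submodule.coe_sum, map_sum]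
      exact Finset.sum_congr rfl fun j _ => by rw [Submodule.coe_smul, red_zsmul]
    rw [h2]
    exact Submodule.sum_mem _ fun j _ => Submodule.smul_mem _ _ (Submodule.subset_span ⟨j, rfl⟩)
  rw [finrank_eq_card_basis (Basis.mk hli hsp), finrank_eq_card_basis b]

omit [Fintype ι] [DecidableEq ι] [Fact p.Prime] in
theorem finrank_comap_subtype {R V : Type*} [CommRing R] [AddCommGroup V] [Module R V]
    (W T : Submodule R V) : finrank R (T.comap W.subtype) = finrank R ↥(W ⊓ T) := by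
  rw [← Submodule.map_comap_subtype, Submodule.finrank_map_subtype_eq]

/-- Dual integer functionals for the image of a lattice in a quotient mod `p`. -/
theorem exists_dual (L : Submodule ℤ (ι → ℤ)) (T : Submodule (ZMod p) (ι → ZMod p)) :
    ∃ (h : ℕ) (v : Fin h → ι → ℤ) (g : Fin h → ι → ℤ), (∀ i, v i ∈ L) ∧
      (∀ l i, (p : ℤ) ∣ g l ⬝ᵥ v i - if l = i then 1 else 0) ∧
      (∀ l, ∀ w : ι → ℤ, red p w ∈ T → (p : ℤ) ∣ g l ⬝ᵥ w) ∧
      finrank (ZMod p) (redSub p L) = h + finrank (ZMod p) ↥(redSub p L ⊓ T) := by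
  set q := T.mkQ.domRestrict (redSub p L) with hq
  let b := Module.finBasis (ZMod p) (LinearMap.range q)
  have hb : ∀ i, ∃ v ∈ L, T.mkQ (red p v) = (b i : (ι → ZMod p) ⧸ T) := by
    intro i
    obtain ⟨⟨_, v, hv, rfl⟩, hx⟩ := (b i).2
    exact ⟨v, hv, hx⟩
  choose v hvL hv using hb
  have hc : ∀ l, ∃ φ : ((ι → ZMod p) ⧸ T) →ₗ[ZMod p] ZMod p,
      φ.comp (LinearMap.range q).subtype = b.coord l := fun l => LinearMap.exists_extend _
  choose φ hφ using hc
  have hg : ∀ l, ∃ g : ι → ℤ, ∀ w, ((g ⬝ᵥ w : ℤ) : ZMod p) = φ l (T.mkQ (red p w)) := by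
    intro l
    choose g hg using fun i => ZMod.intCast_surjective (φ l (T.mkQ (Pi.single i 1)))
    refine ⟨g, fun w => ?_⟩
    have h1 : red p w = ∑ i, (w i : ZMod p) • (Pi.single i (1 : ZMod p) : ι → ZMod p) := by
      funext j
      simp [red, Finset.sum_apply, Pi.single_apply]
    rw [h1, map_sum, map_sum]
    simp only [map_smul, ← hg, dotProduct, Int.cast_sum, Int.cast_mul, smul_eq_mul]
    exact Finset.sum_congr rfl fun i _ => mul_comm _ _
  choose g hg using hg
  refine ⟨_, v, g, hvL, fun l i => ?_, fun l w hw => ?_, ?_⟩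
  · rw [← ZMod.intCast_zmod_eq_zero_iff_dvd, Int.cast_sub, hg, hv]
    have h1 : φ l (b i : (ι → ZMod p) ⧸ T) = b.coord l (b i) := by rw [← hφ l]; rfl
    rw [h1, Basis.coord_apply, Basis.repr_self, Finsupp.single_apply]
    simp [eq_comm]
  · rw [← ZMod.intCast_zmod_eq_zero_iff_dvd, hg, Submodule.mkQ_apply,
      (Submodule.Quotient.mk_eq_zero T).2 hw, map_zero]
  · rw [← q.finrank_range_add_finrank_ker, hq, LinearMap.ker_domRestrict, Submodule.ker_mkQ,
      finrank_comap_subtype]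

/-- The dimensions of the successive kernels of a nilpotent endomorphism on a stable subspace. -/
theorem nilpotent_count {k V : Type*} [Field k] [AddCommGroup V] [Module k V]
    [FiniteDimensional k V] (N : Module.End k V) (W : Submodule k V) (hW : W.map N ≤ W)
    {n : ℕ} (hn : W.map (N ^ (n + 1)) = ⊥) :
    n * finrank k (W.map (N ^ n)) ≤ finrank k (W.map N) ∧
      finrank k W + n * finrank k (W.map N) ≤ n * finrank k W + finrank k (W.map (N ^ n)) := by
  set d : ℕ → ℕ := fun j => finrank k (W.map (N ^ j)) with hd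
  set e : ℕ → ℕ := fun j => finrank k ↥(W.map (N ^ j) ⊓ LinearMap.ker N) with he
  have hstep : ∀ j, d (j + 1) + e j = d j := by
    intro j
    have h1 := (N.domRestrict (W.map (N ^ j))).finrank_range_add_finrank_ker
    have h2 : LinearMap.range (N.domRestrict (W.map (N ^ j))) = W.map (N ^ (j + 1)) := by
      rw [pow_succ', Module.End.mul_eq_comp, Submodule.map_comp, LinearMap.range_domRestrict]
    rw [h2, LinearMap.ker_domRestrict, finrank_comap_subtype] at h1
    exact h1
  have hanti : Antitone e := by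
    refine antitone_nat_of_succ_le fun j => Submodule.finrank_mono (inf_le_inf_right _ ?_)
    induction j with
    | zero => rw [pow_one, pow_zero, Module.End.one_eq_id, Submodule.map_id]; exact hW
    | succ j ih =>
      rw [pow_succ', Module.End.mul_eq_comp, Submodule.map_comp, pow_succ' N j,
        Module.End.mul_eq_comp, Submodule.map_comp]
      rw [pow_succ', Module.End.mul_eq_comp, Submodule.map_comp] at ih
      exact Submodule.map_mono ih
  have hlast : e n = d n := by
    have := hstep n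
    have h0 : d (n + 1) = 0 := by
      show finrank k (W.map (N ^ (n + 1))) = 0
      rw [hn, finrank_bot]
    omega
  have hd0 : d 0 = finrank k W := by
    show finrank k (W.map (N ^ 0)) = _
    rw [pow_zero, Module.End.one_eq_id, Submodule.map_id]
  have hd1 : d 1 = finrank k (W.map N) := by show finrank k (W.map (N ^ 1)) = _; rw [pow_one]
  have key : ∀ j, j ≤ n → j * e n + d (j + 1) ≤ d 1 ∧ d 0 ≤ j * e 0 + d j := by
    intro j
    induction j with
    | zero => intro _; simp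
    | succ j ih =>
      intro hj
      obtain ⟨h1, h2⟩ := ih (Nat.le_of_succ_le hj)
      have h3 := hstep j
      have h4 := hstep (j + 1)
      have h5 : e n ≤ e (j + 1) := hanti hj
      have h6 : e j ≤ e 0 := hanti (Nat.zero_le j)
      rw [Nat.succ_mul, Nat.succ_mul]
      omega
  obtain ⟨h1, h2⟩ := key n le_rfl
  refine ⟨?_, ?_⟩
  · rw [← hd1, show finrank k (W.map (N ^ n)) = d n from rfl, ← hlast]
    omega
  · have h3 : n * e 0 + n * d 1 = n * d 0 := by rw [← Nat.mul_add, Nat.add_comm, hstep 0]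
    rw [← hd0, ← hd1, show finrank k (W.map (N ^ n)) = d n from rfl]
    omega

/-- The lattice of vectors fixed by the `p′` part. -/
def latU (u : ℕ) (A : Matrix ι ι ℤ) : Submodule ℤ (ι → ℤ) :=
  LinearMap.ker (A.mulVecLin - (u : ℤ) • LinearMap.id)

/-- The sum of the powers of `X`. -/
def normMat (p : ℕ) (X : Matrix ι ι ℤ) : Matrix ι ι ℤ := ∑ k ∈ Finset.range p, X ^ k

/-- The fixed lattice. -/
def latFix (u : ℕ) (X A : Matrix ι ι ℤ) : Submodule ℤ (ι → ℤ) :=
  latU u A ⊓ LinearMap.ker (X.mulVecLin - LinearMap.id)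

/-- The lattice killed by the norm. -/
def latKer (p u : ℕ) (X A : Matrix ι ι ℤ) : Submodule ℤ (ι → ℤ) :=
  latU u A ⊓ LinearMap.ker (normMat p X).mulVecLin

theorem mem_latU {u : ℕ} {A : Matrix ι ι ℤ} {v : ι → ℤ} :
    v ∈ latU u A ↔ A *ᵥ v = (u : ℤ) • v := by
  simp [latU, sub_eq_zero]

theorem mem_latFix {u : ℕ} {X A : Matrix ι ι ℤ} {v : ι → ℤ} :
    v ∈ latFix u X A ↔ A *ᵥ v = (u : ℤ) • v ∧ X *ᵥ v = v := by
  simp [latFix, mem_latU, sub_eq_zero]

theorem mem_latKer {u : ℕ} {X A : Matrix ι ι ℤ} {v : ι → ℤ} :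
    v ∈ latKer p u X A ↔ A *ᵥ v = (u : ℤ) • v ∧ normMat p X *ᵥ v = 0 := by
  simp [latKer, mem_latU]

variable {u : ℕ} {X A : Matrix ι ι ℤ}

omit [Fact p.Prime] in
theorem mul_normMat (hX : X ^ p = 1) : X * normMat p X = normMat p X := by
  have h := mul_geom_sum X p
  rw [hX, sub_self, sub_mul, one_mul, sub_eq_zero] at h
  exact h

omit [Fact p.Prime] in
theorem normMat_mul_sub (hX : X ^ p = 1) : normMat p X * (X - 1) = 0 := by
  rw [normMat, geom_sum_mul, hX, sub_self]

omit [Fact p.Prime] in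
theorem commute_normMat (hc : Commute X A) : Commute (normMat p X) A :=
  Commute.sum_left _ _ _ fun k _ => hc.pow_left k

omit [Fact p.Prime] in
theorem mapsTo_latU (hA : A * A = (u : ℤ) • A) (v : ι → ℤ) : A *ᵥ v ∈ latU u A := by
  rw [mem_latU, mulVec_mulVec, hA, smul_mulVec]

omit [Fact p.Prime] in
theorem mapsTo_latFix (hX : X ^ p = 1) (hA : A * A = (u : ℤ) • A) (hc : Commute X A)
    (v : ι → ℤ) : (normMat p X * A) *ᵥ v ∈ latFix u X A := by
  rw [mem_latFix]
  refine ⟨?_, by rw [mulVec_mulVec, ← Matrix.mul_assoc, mul_normMat hX]⟩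
  rw [mulVec_mulVec, ← smul_mulVec, ← Matrix.mul_assoc, ← (commute_normMat hc).eq,
    Matrix.mul_assoc, hA, Matrix.mul_smul]

omit [Fact p.Prime] in
theorem trace_eq_latU (hA : A * A = (u : ℤ) • A) :
    A.trace = (u : ℤ) * (finrank ℤ (latU u A) : ℤ) := by
  have h1 := LinearMap.trace_restrict_eq_of_forall_mem (latU u A) A.mulVecLin (mapsTo_latU hA)
  rw [LinearMap.trace_eq_matrix_trace ℤ (Pi.basisFun ℤ ι) A.mulVecLin] at h1
  have h2 : LinearMap.toMatrix (Pi.basisFun ℤ ι) (Pi.basisFun ℤ ι) A.mulVecLin = A := by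
    ext i j
    simp [LinearMap.toMatrix_apply, Pi.basisFun_apply, mulVec_single]
  rw [h2] at h1
  rw [← h1, ← LinearMap.trace_id ℤ (latU u A), ← smul_eq_mul, ← map_smul]
  congr 1
  exact LinearMap.ext fun v => Subtype.ext (mem_latU.1 v.2)

omit [Fact p.Prime] in
theorem trace_eq_latFix (hX : X ^ p = 1) (hA : A * A = (u : ℤ) • A) (hc : Commute X A) :
    (normMat p X * A).trace = (p : ℤ) * (u : ℤ) * (finrank ℤ (latFix u X A) : ℤ) := by
  set Q := normMat p X * A with hQ
  have h1 := LinearMap.trace_restrict_eq_of_forall_mem (latFix u X A) Q.mulVecLin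
    (mapsTo_latFix hX hA hc)
  rw [LinearMap.trace_eq_matrix_trace ℤ (Pi.basisFun ℤ ι) Q.mulVecLin] at h1
  have h2 : LinearMap.toMatrix (Pi.basisFun ℤ ι) (Pi.basisFun ℤ ι) Q.mulVecLin = Q := by
    ext i j
    simp [LinearMap.toMatrix_apply, Pi.basisFun_apply, mulVec_single]
  rw [h2] at h1
  rw [← h1, ← LinearMap.trace_id ℤ (latFix u X A), ← smul_eq_mul, ← map_smul]
  congr 1
  refine LinearMap.ext fun v => Subtype.ext ?_
  obtain ⟨hA', hX'⟩ := mem_latFix.1 v.2
  have hpow : ∀ k : ℕ, X ^ k *ᵥ (v : ι → ℤ) = v := by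
    intro k
    induction k with
    | zero => simp
    | succ k ih => rw [pow_succ, ← mulVec_mulVec, hX', ih]
  show Q *ᵥ (v : ι → ℤ) = ((p : ℤ) * u) • (v : ι → ℤ)
  rw [hQ, ← mulVec_mulVec, hA', mulVec_smul, normMat, sum_mulVec, Finset.sum_congr rfl
    fun k _ => hpow k, Finset.sum_const, Finset.card_range, ← natCast_zsmul, smul_smul, mul_comm]

theorem finrank_latU (hX : X ^ p = 1) (hc : Commute X A) :
    finrank ℤ (latU u A) = finrank ℤ (latFix u X A) + finrank ℤ (latKer p u X A) := by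
  set S := normMat p X with hS
  set f : latU u A →ₗ[ℤ] (ι → ℤ) := S.mulVecLin.domRestrict (latU u A) with hf
  have h1 : finrank ℤ (LinearMap.range f) + finrank ℤ (LinearMap.ker f) = finrank ℤ (latU u A) := by
    rw [← f.quotKerEquivRange.finrank_eq]
    exact Submodule.finrank_quotient_add_finrank _
  have hker : finrank ℤ (LinearMap.ker f) = finrank ℤ (latKer p u X A) := by
    rw [hf, LinearMap.ker_domRestrict, finrank_comap_subtype, latKer, hS]
  have hle : LinearMap.range f ≤ latFix u X A := by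
    rintro _ ⟨⟨v, hv⟩, rfl⟩
    rw [mem_latFix]
    refine ⟨?_, ?_⟩
    · show A *ᵥ (S *ᵥ v) = (u : ℤ) • (S *ᵥ v)
      rw [mulVec_mulVec, ← (commute_normMat hc).eq, ← mulVec_mulVec, mem_latU.1 hv, mulVec_smul]
    · show X *ᵥ (S *ᵥ v) = S *ᵥ v
      rw [mulVec_mulVec, hS, mul_normMat hX]
  have hge : finrank ℤ (latFix u X A) ≤ finrank ℤ (LinearMap.range f) := by
    let m : latFix u X A →ₗ[ℤ] LinearMap.range f :=
      { toFun := fun v => ⟨(p : ℤ) • (v : ι → ℤ), ⟨v.1, (Submodule.mem_inf.1 v.2).1⟩, by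
          show S *ᵥ (v : ι → ℤ) = _
          obtain ⟨-, hX'⟩ := mem_latFix.1 v.2
          have hpow : ∀ k : ℕ, X ^ k *ᵥ (v : ι → ℤ) = v := by
            intro k
            induction k with
            | zero => simp
            | succ k ih => rw [pow_succ, ← mulVec_mulVec, hX', ih]
          rw [hS, normMat, sum_mulVec, Finset.sum_congr rfl fun k _ => hpow k, Finset.sum_const,
            Finset.card_range, natCast_zsmul]⟩
        map_add' := fun v w => Subtype.ext (smul_add _ _ _)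
        map_smul' := fun r v => Subtype.ext (smul_comm _ _ _) }
    refine LinearMap.finrank_le_finrank_of_injective (f := m) fun v w h => Subtype.ext ?_
    exact smul_right_injective _ (Int.natCast_ne_zero.2 (Fact.out : p.Prime).ne_zero)
      (congrArg Subtype.val h)
  have heq := le_antisymm (Submodule.finrank_mono hle) hge
  omega

theorem sat_latU (v : ι → ℤ) (h : (p : ℤ) • v ∈ latU u A) : v ∈ latU u A := by
  rw [mem_latU] at h ⊢
  rw [mulVec_smul, smul_comm] at h
  exact smul_right_injective _ (Int.natCast_ne_zero.2 (Fact.out : p.Prime).ne_zero) h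

theorem sat_latFix (v : ι → ℤ) (h : (p : ℤ) • v ∈ latFix u X A) : v ∈ latFix u X A := by
  rw [mem_latFix] at h ⊢
  rw [mulVec_smul, smul_comm, mulVec_smul] at h
  exact ⟨smul_right_injective _ (Int.natCast_ne_zero.2 (Fact.out : p.Prime).ne_zero) h.1,
    smul_right_injective _ (Int.natCast_ne_zero.2 (Fact.out : p.Prime).ne_zero) h.2⟩

theorem sat_latKer (v : ι → ℤ) (h : (p : ℤ) • v ∈ latKer p u X A) : v ∈ latKer p u X A := by
  rw [mem_latKer] at h ⊢
  rw [mulVec_smul, smul_comm, mulVec_smul] at h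
  exact ⟨smul_right_injective _ (Int.natCast_ne_zero.2 (Fact.out : p.Prime).ne_zero) h.1,
    (smul_eq_zero.1 h.2).resolve_left (Int.natCast_ne_zero.2 (Fact.out : p.Prime).ne_zero)⟩

theorem redMat_normMat (X : Matrix ι ι ℤ) :
    redMat p (normMat p X) = (redMat p X - 1) ^ (p - 1) := by
  have hpoly : ((Polynomial.X : Polynomial (ZMod p)) - 1) ^ (p - 1) =
      ∑ k ∈ Finset.range p, Polynomial.X ^ k := by
    refine mul_right_cancel₀ (b := (Polynomial.X : Polynomial (ZMod p)) - 1) ?_ ?_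
    · simpa using Polynomial.X_sub_C_ne_zero (1 : ZMod p)
    · rw [← pow_succ, Nat.sub_add_cancel (Fact.out : p.Prime).one_le, sub_pow_char, one_pow,
        geom_sum_mul]
  have h := congrArg (Polynomial.aeval (redMat p X)) hpoly
  simp only [map_pow, map_sub, map_one, map_sum, Polynomial.aeval_X] at h
  rw [h, normMat, redMat, map_sum]
  exact Finset.sum_congr rfl fun k _ => map_pow _ _ _

/-- The two dual systems. -/
theorem exists_dual_systems (hu : ¬ p ∣ u) (hX : X ^ p = 1) (hA : A * A = (u : ℤ) • A)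
    (hc : Commute X A) :
    (∃ (h : ℕ) (v : Fin h → ι → ℤ) (g : Fin h → ι → ℤ), (∀ i, v i ∈ latFix u X A) ∧
      (∀ l i, (p : ℤ) ∣ g l ⬝ᵥ v i - if l = i then 1 else 0) ∧
      (∀ l, ∀ w : ι → ℤ, (p : ℤ) ∣ g l ⬝ᵥ ((normMat p X * A) *ᵥ w)) ∧
      (p - 1) * finrank ℤ (latFix u X A) ≤ (p - 1) * h + finrank ℤ (latKer p u X A)) ∧
    ∃ (h : ℕ) (v : Fin h → ι → ℤ) (g : Fin h → ι → ℤ), (∀ i, v i ∈ latKer p u X A) ∧
      (∀ l i, (p : ℤ) ∣ g l ⬝ᵥ v i - if l = i then 1 else 0) ∧
      (∀ l, ∀ w : ι → ℤ, (p : ℤ) ∣ g l ⬝ᵥ ((X - 1) *ᵥ w)) ∧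
      finrank ℤ (latKer p u X A) ≤ (p - 1) * h + (p - 1) * finrank ℤ (latFix u X A) := by
  set N : Module.End (ZMod p) (ι → ZMod p) := (redMat p X - 1).mulVecLin with hN
  set W := redSub p (latU u A) with hWdef
  have hu0 : ((u : ℤ) : ZMod p) ≠ 0 := by
    rw [Int.cast_natCast, Ne, ZMod.natCast_eq_zero_iff]
    exact hu
  have hNpow : ∀ (j : ℕ) (x : ι → ZMod p), (N ^ j) x = (redMat p X - 1) ^ j *ᵥ x := by
    intro j
    induction j with
    | zero => intro x; simp
    | succ j ih =>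
      intro x
      rw [pow_succ', Module.End.mul_apply, ih, hN, mulVecLin_apply, mulVec_mulVec, ← pow_succ']
  have hredsub : ∀ w, red p ((X - 1) *ᵥ w) = N (red p w) := fun w => by
    rw [red_mulVec, hN, mulVecLin_apply]
    congr 1
    rw [redMat, map_sub, map_one]
    rfl
  have hrednorm : ∀ w, red p (normMat p X *ᵥ w) = (N ^ (p - 1)) (red p w) := fun w => by
    rw [red_mulVec, hNpow, redMat_normMat]
  have hNW : W.map N ≤ redSub p (latKer p u X A) := by
    rintro _ ⟨_, ⟨w, hw, rfl⟩, rfl⟩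
    refine ⟨(X - 1) *ᵥ w, ?_, hredsub w⟩
    refine mem_latKer.2 ⟨?_, by rw [mulVec_mulVec, normMat_mul_sub hX, zero_mulVec]⟩
    rw [mulVec_mulVec, ← ((hc.sub_left (Commute.one_left A))).eq, ← mulVec_mulVec,
      mem_latU.1 hw, mulVec_smul]
  have hKW : redSub p (latKer p u X A) ≤ W := Set.image_mono (inf_le_left)
  have hn : W.map (N ^ (p - 1 + 1)) = ⊥ := by
    rw [eq_bot_iff]
    rintro _ ⟨_, ⟨w, -, rfl⟩, rfl⟩
    rw [Submodule.mem_bot, pow_succ, Module.End.mul_apply, ← hredsub, ← hrednorm, mulVec_mulVec,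
      normMat_mul_sub hX, zero_mulVec, map_zero]
  obtain ⟨hc1, hc2⟩ := nilpotent_count N W (hNW.trans hKW) hn
  have hT0 : W.map (N ^ (p - 1)) ≤ redSub p (latFix u X A) := by
    rintro _ ⟨_, ⟨w, hw, rfl⟩, rfl⟩
    refine ⟨normMat p X *ᵥ w, mem_latFix.2 ⟨?_, by rw [mulVec_mulVec, mul_normMat hX]⟩, hrednorm w⟩
    rw [mulVec_mulVec, ← (commute_normMat hc).eq, ← mulVec_mulVec, mem_latU.1 hw, mulVec_smul]
  have hK := finrank_redSub (p := p) (latKer p u X A) sat_latKer
  have hF := finrank_redSub (p := p) (latFix u X A) sat_latFix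
  have hU : finrank (ZMod p) W = finrank ℤ (latFix u X A) + finrank ℤ (latKer p u X A) := by
    rw [hWdef, finrank_redSub _ sat_latU, finrank_latU hX hc]
  refine ⟨?_, ?_⟩
  · obtain ⟨h, v, g, hv, hd, hT, hh⟩ := exists_dual (latFix u X A) (W.map (N ^ (p - 1)))
    refine ⟨h, v, g, hv, hd, fun l w => hT l _ ?_, ?_⟩
    · rw [← mulVec_mulVec, hrednorm]
      exact Submodule.mem_map_of_mem ⟨A *ᵥ w, mapsTo_latU hA w, rfl⟩
    · rw [inf_eq_right.2 hT0, hF] at hh
      have h1 : finrank (ZMod p) (W.map N) ≤ finrank ℤ (latKer p u X A) :=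
        (Submodule.finrank_mono hNW).trans hK.le
      rw [hh, Nat.mul_add]
      omega
  · obtain ⟨h, v, g, hv, hd, hT, hh⟩ := exists_dual (latKer p u X A) (LinearMap.range N)
    refine ⟨h, v, g, hv, hd, fun l w => hT l _ ⟨red p w, (hredsub w).symm⟩, ?_⟩
    have hinf : redSub p (latKer p u X A) ⊓ LinearMap.range N ≤ W.map N := by
      rintro _ ⟨⟨w, hw, rfl⟩, x, hx⟩
      obtain ⟨x, rfl⟩ := red_surjective p x
      refine ⟨((u : ℤ) : ZMod p)⁻¹ • red p (A *ᵥ x),
        W.smul_mem _ ⟨A *ᵥ x, mapsTo_latU hA x, rfl⟩, ?_⟩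
      rw [map_smul, ← hredsub, mulVec_mulVec, (hc.sub_left (Commute.one_left A)).eq,
        ← mulVec_mulVec, red_mulVec p A, hredsub, hx, ← red_mulVec, (mem_latKer.1 hw).1,
        red_zsmul, smul_smul, inv_mul_cancel₀ hu0, one_smul]
    have h1 := Submodule.finrank_mono hinf
    have h2 : finrank (ZMod p) (W.map (N ^ (p - 1))) ≤ finrank ℤ (latFix u X A) :=
      (Submodule.finrank_mono hT0).trans hF.le
    rw [hK] at hh
    rw [hU] at hc2
    rw [Nat.mul_add] at hc2
    have h3 : (p - 1) * finrank ℤ (latKer p u X A) ≤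
        (p - 1) * h + (p - 1) * finrank (ZMod p) (W.map N) := by
      rw [← Nat.mul_add]; exact Nat.mul_le_mul_left _ (by omega)
    omega

end Cfsg.Agent.DefectOneSign7
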