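import Cfsg.Agent.Lib.DefectOneSign7Rep
import Cfsg.Agent.Lib.DefectOneSign7ModP
import Cfsg.Agent.Lib.DefectOneSign7Count
import Cfsg.Agent.Lib.BlockAbelianSylow86
import Cfsg.Agent.Lib.BrauerBlocksRegFun
import Cfsg.Agent.Lib.DefectOneField7

/-!
# Constant values on the sections of a Sylow subgroup of order `p` are signs

If `P` is a Sylow `p`-subgroup of order `p` and an irreducible character takes the constant
integer value `a` on all `y * k`, `1 ≠ y ∈ P`, `k` a `p`-regular element of `C(P)`, then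
`|a| ≤ 1`.
-/

set_option autoImplicit false

open Matrix Finset

namespace Cfsg.Agent.DefectOneSign7

open Cfsg Cfsg.Agent.BrauerBlocksVal Cfsg.Agent.BrauerBlocksTrace
open Cfsg.Agent.CharBasic Cfsg.Agent.CharBasicDecomp Cfsg.Agent.CharBasicOrth

attribute [local instance] Classical.propDecidable

variable {ι : Type*} [Fintype ι] [DecidableEq ι]

/-- The complex matrix of an integer matrix. -/
noncomputable def toC (A : Matrix ι ι ℤ) : Matrix ι ι ℂ := (Int.castRingHom ℂ).mapMatrix A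

omit [DecidableEq ι] in
theorem cast_mulVec (A : Matrix ι ι ℤ) (v : ι → ℤ) :
    (fun i => ((A *ᵥ v) i : ℂ)) = (A.map fun z : ℤ => (z : ℂ)) *ᵥ fun i => (v i : ℂ) := by
  funext i
  exact RingHom.map_mulVec (Int.castRingHom ℂ) A v i

theorem toC_apply (A : Matrix ι ι ℤ) : toC A = A.map fun z : ℤ => (z : ℂ) := rfl

variable {M : Ideal AlgInt}

theorem intM_toC (A : Matrix ι ι ℤ) : IntM M (toC A) := fun i j => int'_intCast _

omit [DecidableEq ι] in
theorem intV_cast (v : ι → ℤ) : IntV M (fun i => (v i : ℂ)) := fun _ => int'_intCast _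

omit [DecidableEq ι] in
theorem dot_cast (g v : ι → ℤ) :
    (fun i => (g i : ℂ)) ⬝ᵥ (fun i => (v i : ℂ)) = ((g ⬝ᵥ v : ℤ) : ℂ) := by
  simp [dotProduct]

variable {p : ℕ}

theorem good_cast (hM : IsPModular p M) (A : Matrix ι ι ℤ) (g : ι → ℤ)
    (h : ∀ w : ι → ℤ, (p : ℤ) ∣ g ⬝ᵥ (A *ᵥ w)) : Good M p (toC A) (fun i => (g i : ℂ)) := by
  intro i
  obtain ⟨k, hk⟩ := h (Pi.single i 1)
  rw [dotProduct_mulVec, dotProduct_single, mul_one] at hk
  have h1 : ((fun j => (g j : ℂ)) ᵥ* toC A) i = (((g ᵥ* A) i : ℤ) : ℂ) :=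
    ((RingHom.map_vecMul (Int.castRingHom ℂ) A g i)).symm
  rw [h1, hk, Int.cast_mul, Int.cast_natCast,
    mul_div_cancel_left₀ _ (Nat.cast_ne_zero.2 hM.1.ne_zero)]
  exact int'_intCast k

theorem sm_dual (hM : IsPModular p M) {z : ℤ} (q : Prop) [Decidable q]
    (h : (p : ℤ) ∣ z - if q then 1 else 0) : Sm M ((z : ℂ) - if q then 1 else 0) := by
  have h1 := (sm_intCast_iff hM _).2 h
  split_ifs at h1 ⊢ with hq <;> simpa using h1

variable {G : Type*} [Group G] [Fintype G] [Fact p.Prime] (P : Sylow p G)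

theorem zpowers_eq (hP : Nat.card P = p) {y : G} (hy : y ∈ (P : Subgroup G)) (hy1 : y ≠ 1) :
    Subgroup.zpowers y = (P : Subgroup G) := by
  refine Subgroup.eq_of_le_of_card_ge ((Subgroup.zpowers_le).2 hy) ?_
  have h1 : orderOf y ∣ p := hP ▸ Subgroup.orderOf_dvd_natCard _ hy
  rcases (Nat.dvd_prime (Fact.out : p.Prime)).1 h1 with h | h
  · exact absurd (orderOf_eq_one_iff.1 h) hy1
  · rw [Nat.card_zpowers, h]; exact hP.le

theorem isMulCommutative_of_card (hP : Nat.card P = p) : IsMulCommutative (P : Subgroup G) := by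
  have : IsCyclic (P : Subgroup G) := isCyclic_of_prime_card (p := p) hP
  infer_instance

theorem centralizer_singleton_eq (hP : Nat.card P = p) {y : G} (hy : y ∈ (P : Subgroup G))
    (hy1 : y ≠ 1) :
    Subgroup.centralizer ({y} : Set G) = Subgroup.centralizer ((P : Subgroup G) : Set G) := by
  refine le_antisymm ?_ (Subgroup.centralizer_le (Set.singleton_subset_iff.2 hy))
  intro g hg
  refine Subgroup.mem_centralizer_iff.2 fun z hz => ?_
  rw [SetLike.mem_coe, ← zpowers_eq P hP hy hy1] at hz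
  obtain ⟨k, rfl⟩ := hz
  exact (Commute.zpow_left (show Commute y g from
    (Subgroup.mem_centralizer_singleton_iff.1 hg).symm) k).eq

theorem freeAction_of_card (hP : Nat.card P = p) : BlockAbelianSylow86.FreeAction P := by
  intro y hy hy1
  rw [centralizer_singleton_eq P hP hy hy1]
  exact inf_eq_left.2 (Subgroup.centralizer_le_normalizer _)

/-- The group of `p`-regular elements of the centralizer. -/
theorem exists_regular_part (hP : Nat.card P = p) :
    ∃ U : Subgroup G, ¬ p ∣ Nat.card U ∧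
      Nat.card U * p = Nat.card (Subgroup.centralizer ((P : Subgroup G) : Set G)) ∧
      ∀ c, c ∈ U ↔ c ∈ Subgroup.centralizer ((P : Subgroup G) : Set G) ∧ ¬ p ∣ orderOf c := by
  haveI : Nontrivial (P : Subgroup G) := Finite.one_lt_card_iff_nontrivial.1
    (by rw [show Nat.card (P : Subgroup G) = p from hP]; exact (Fact.out : p.Prime).one_lt)
  obtain ⟨⟨y, hy⟩, hy1⟩ := exists_ne (1 : (P : Subgroup G))
  have hy1' : y ≠ 1 := fun h => hy1 (Subtype.ext h)
  obtain ⟨K, -, hK, hKc, hKmem⟩ := BlockAbelianSylow86.exists_complement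
    (isMulCommutative_of_card P hP) (freeAction_of_card P hP) hy hy1'
  refine ⟨K.map (Subgroup.centralizer ({y} : Set G)).subtype, ?_, ?_, fun c => ?_⟩
  · rwa [Subgroup.card_map_of_injective (Subgroup.subtype_injective _)]
  · rw [Subgroup.card_map_of_injective (Subgroup.subtype_injective _),
      ← centralizer_singleton_eq P hP hy hy1']
    conv_lhs => rw [← hP]
    exact hKc
  · rw [← centralizer_singleton_eq P hP hy hy1']
    constructor
    · rintro ⟨d, hd, rfl⟩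
      exact ⟨d.2, by rw [Subgroup.coe_subtype, Subgroup.orderOf_coe]; exact (hKmem d).1 hd⟩
    · rintro ⟨hc, hcr⟩
      exact ⟨⟨c, hc⟩, (hKmem _).2 (by rwa [Subgroup.orderOf_mk]), rfl⟩

/-- A `p`-regular element generating the normalizer modulo the centralizer. -/
theorem exists_generator (hP : Nat.card P = p) :
    ∃ (n0 : G) (e : ℕ), n0 ∈ Subgroup.normalizer ((P : Subgroup G) : Set G) ∧ 0 < e ∧ ¬ p ∣ e ∧
      ¬ p ∣ orderOf n0 ∧
      n0 ^ e ∈ Subgroup.centralizer ((P : Subgroup G) : Set G) ∧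
      ∀ n ∈ Subgroup.normalizer ((P : Subgroup G) : Set G), ∃ i : ℕ,
        ∃ c ∈ Subgroup.centralizer ((P : Subgroup G) : Set G), n = n0 ^ i * c := by
  have hp := (Fact.out : p.Prime)
  haveI : IsCyclic (P : Subgroup G) := isCyclic_of_prime_card (p := p) hP
  haveI : IsCyclic (MulAut (P : Subgroup G)) := by
    have hPc : Nat.card (P : Subgroup G) = p := hP
    haveI : IsCyclic (ZMod (Nat.card (P : Subgroup G)))ˣ := by rw [hPc]; infer_instance
    exact isCyclic_of_surjective (IsCyclic.mulAutMulEquiv (P : Subgroup G)).symm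
      (IsCyclic.mulAutMulEquiv (P : Subgroup G)).symm.surjective
  set φ := (P : Subgroup G).normalizerMonoidHom with hφ
  have hker : ∀ n, φ n = 1 ↔ (n : G) ∈ Subgroup.centralizer ((P : Subgroup G) : Set G) := by
    intro n
    rw [← MonoidHom.mem_ker, hφ, Subgroup.normalizerMonoidHom_ker, Subgroup.mem_subgroupOf]
  obtain ⟨⟨_, ⟨n, rfl⟩⟩, hgen⟩ := IsCyclic.exists_generator (α := φ.range)
  set e := orderOf (φ n) with he
  have hep : ¬ p ∣ e := by
    intro hd
    have h1 : e ∣ p - 1 := by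
      have h2 := orderOf_dvd_natCard (φ n)
      rwa [IsCyclic.card_mulAut, show Nat.card (P : Subgroup G) = p from hP,
        Nat.totient_prime hp] at h2
    have := Nat.le_of_dvd (by have := hp.one_lt; omega) (hd.trans h1)
    have := hp.one_lt
    omega
  have hgen' : ∀ m, ∃ i : ℕ, φ m = φ n ^ i := by
    intro m
    obtain ⟨k, hk⟩ := Subgroup.mem_zpowers_iff.1 (hgen ⟨φ m, ⟨m, rfl⟩⟩)
    have h1 : φ n ^ k = φ m := congrArg Subtype.val hk
    obtain ⟨i, hi⟩ := (IsOfFinOrder.mem_zpowers_iff_mem_range_orderOf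
      (isOfFinOrder_of_finite (φ n))).1 ⟨k, h1⟩ |> Finset.mem_image.1
    exact ⟨i, hi.2.symm⟩
  refine ⟨(n : G) ^ p, e, pow_mem n.2 p, orderOf_pos _, hep, ?_, ?_, fun m hm => ?_⟩
  · intro hd
    have hdvd := orderOf_dvd_natCard (n : G)
    have hp2 : ¬ p * p ∣ Nat.card G := by
      intro h2
      have := P.not_dvd_index
      rw [← (P : Subgroup G).card_mul_index, show Nat.card (P : Subgroup G) = p from hP] at h2
      exact this (Nat.dvd_of_mul_dvd_mul_left hp.pos h2)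
    rw [orderOf_pow] at hd
    rcases Nat.coprime_or_dvd_of_prime hp (orderOf (n : G)) with hc | hc
    · rw [Nat.gcd_comm, hc.gcd_eq_one, Nat.div_one] at hd
      exact (hp.coprime_iff_not_dvd.1 hc) hd
    · rw [Nat.gcd_eq_right hc] at hd
      exact hp2 ((Nat.mul_dvd_of_dvd_div hc hd).trans hdvd)
  · have h1 : φ ((n ^ p) ^ e) = 1 := by
      rw [← pow_mul, mul_comm, pow_mul, map_pow, map_pow, pow_orderOf_eq_one, one_pow]
    exact (hker _).1 h1
  · obtain ⟨i, hi⟩ := hgen' ⟨m, hm⟩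
    obtain ⟨j, hj⟩ := exists_pow_eq_self_of_coprime
      (n := p) (x := φ n) ((hp.coprime_iff_not_dvd).2 hep)
    refine ⟨j * i, (((n : G) ^ p) ^ (j * i))⁻¹ * m, ?_, by group⟩
    have h2 : φ (((n ^ p) ^ (j * i))⁻¹ * ⟨m, hm⟩) = 1 := by
      rw [map_mul, map_inv, map_pow, map_pow, pow_mul, hj, ← hi, inv_mul_cancel]
    exact (hker _).1 h2

variable {P}

/-- The points of `G ⧸ N` other than the base point have trivial stabilizer in `P`. -/
theorem eq_base_of_fixed (hP : Nat.card P = p) {y : G} (hy : y ∈ (P : Subgroup G)) (hy1 : y ≠ 1)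
    {q : G ⧸ Subgroup.normalizer ((P : Subgroup G) : Set G)} (h : y • q = q) :
    q = ((1 : G) : G ⧸ Subgroup.normalizer ((P : Subgroup G) : Set G)) := by
  obtain ⟨g, rfl⟩ := QuotientGroup.mk_surjective q
  set N := Subgroup.normalizer ((P : Subgroup G) : Set G) with hN
  have h1 : g⁻¹ * (y * g) ∈ N := by
    rw [MulAction.Quotient.smul_mk] at h
    exact QuotientGroup.eq.1 h.symm
  have hpg : IsPGroup p (Subgroup.zpowers (g⁻¹ * (y * g))) := by
    refine IsPGroup.of_card (n := 1) ?_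
    rw [Nat.card_zpowers, pow_one]
    have h2 : g⁻¹ * (y * g) = MulAut.conj g⁻¹ y := by simp [mul_assoc]
    rw [h2, MulEquiv.orderOf_eq, ← Nat.card_zpowers, zpowers_eq P hP hy hy1]
    exact hP
  have hmemP : g⁻¹ * (y * g) ∈ (P : Subgroup G) := by
    have hle : (P : Subgroup G) ⊔ Subgroup.zpowers (g⁻¹ * (y * g)) = P :=
      P.is_maximal' (IsPGroup.to_sup_of_normal_left' P.isPGroup' hpg
        (Subgroup.zpowers_le.2 h1)) le_sup_left
    rw [← hle]
    exact Subgroup.mem_sup_right (Subgroup.mem_zpowers _)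
  have hgN : g⁻¹ ∈ N := by
    rw [hN, Subgroup.mem_normalizer_iff_map_conj_eq]
    refine Subgroup.eq_of_le_of_card_ge ?_ ?_
    · rw [← zpowers_eq P hP hy hy1, MonoidHom.map_zpowers, Subgroup.zpowers_le,
        zpowers_eq P hP hy hy1]
      simpa [mul_assoc] using hmemP
    · exact (Subgroup.card_map_of_injective (MulAut.conj g⁻¹).injective).ge
  exact QuotientGroup.eq.2 (by rw [mul_one]; exact hgN)

/-- The relative trace minus its base term is a sum over conjugates by `P`. -/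
theorem exists_trace_decomp (hP : Nat.card P = p) [Fintype (P : Subgroup G)]
    (ρ : G →* Matrix ι ι ℂ) (hρ : ∀ g, IntM M (ρ g)) {A : Matrix ι ι ℂ} (hA : IntM M A)
    (hAN : ∀ n ∈ Subgroup.normalizer ((P : Subgroup G) : Set G), ρ n * A = A * ρ n) :
    ∃ W, IntM M W ∧ relTr ρ (Subgroup.normalizer ((P : Subgroup G) : Set G)) A - A =
      ∑ y : (P : Subgroup G), ρ y * W * ρ (y : G)⁻¹ := by
  set N := Subgroup.normalizer ((P : Subgroup G) : Set G) with hN
  set F : G ⧸ N → Matrix ι ι ℂ := fun q => ρ q.out * A * ρ q.out⁻¹ with hF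
  set q0 : G ⧸ N := ((1 : G) : G ⧸ N) with hq0
  have hfix : ∀ y : (P : Subgroup G), (y : G) • q0 = q0 := fun y => by
    show (((y : G) * 1 : G) : G ⧸ N) = _
    refine QuotientGroup.eq.2 ?_
    rw [mul_one, mul_one]
    exact inv_mem (Subgroup.le_normalizer y.2)
  set β : G ⧸ N → ℂ := fun q =>
    if q = (Quotient.mk (MulAction.orbitRel (P : Subgroup G) (G ⧸ N)) q).out then 1 else 0 with hβ
  have hsum : ∀ q, q ≠ q0 → ∑ y : (P : Subgroup G), β ((y : G) • q) = 1 := by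
    intro q hq
    set r := (Quotient.mk (MulAction.orbitRel (P : Subgroup G) (G ⧸ N)) q).out with hr
    obtain ⟨y0, hy0⟩ : ∃ y0 : (P : Subgroup G), y0 • q = r :=
      MulAction.mem_orbit_iff.1 ((MulAction.orbitRel_apply).1
        (Quotient.mk_out (s := MulAction.orbitRel (P : Subgroup G) (G ⧸ N)) q))
    have hy0' : (y0 : G) • q = r := hy0
    have hout : ∀ y : (P : Subgroup G),
        (Quotient.mk (MulAction.orbitRel (P : Subgroup G) (G ⧸ N)) ((y : G) • q)).out = r := by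
      intro y
      rw [hr]
      congr 1
      exact Quotient.sound ((MulAction.orbitRel_apply).2 ⟨y, rfl⟩)
    simp only [hβ, hout]
    rw [Finset.sum_eq_single y0 ?_ (fun h => absurd (mem_univ y0) h), if_pos hy0']
    intro y _ hy
    refine if_neg fun hyr => hq ?_
    refine eq_base_of_fixed hP (y := (y0⁻¹ * y : (P : Subgroup G))) (SetLike.coe_mem _) ?_ ?_
    · intro h1
      exact hy (inv_mul_eq_one.1 (Subtype.ext h1)).symm
    · rw [Subgroup.coe_mul, Subgroup.coe_inv, mul_smul, hyr, ← hy0', inv_smul_smul]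
  set S := (Finset.univ : Finset (G ⧸ N)).erase q0 with hS
  refine ⟨∑ q ∈ S, β q • F q, intM_sum _ fun q _ => IntM.smul (((hρ _).mul hA).mul (hρ _)) ?_, ?_⟩
  · simp only [hβ]
    split_ifs
    · exact int'_one
    · exact int'_zero
  have h0 : F q0 = A := relTr_term_one ρ N hAN
  rw [relTr, ← Finset.add_sum_erase _ F (mem_univ q0), h0, add_sub_cancel_left]
  calc ∑ q ∈ S, F q = ∑ q ∈ S, ∑ y : (P : Subgroup G), β ((y : G) • q) • F q := by
        refine Finset.sum_congr rfl fun q hq => ?_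
        rw [← Finset.sum_smul, hsum q (Finset.ne_of_mem_erase hq), one_smul]
    _ = ∑ y : (P : Subgroup G), ∑ q ∈ S, β q • F (((y : G))⁻¹ • q) := by
        rw [Finset.sum_comm]
        refine Finset.sum_congr rfl fun y _ => ?_
        refine Finset.sum_equiv (MulAction.toPerm (y : G)) (fun q => ?_) fun q _ => ?_
        · simp only [hS, Finset.mem_erase, Finset.mem_univ, and_true, MulAction.toPerm_apply]
          refine not_congr ⟨fun h => by rw [h]; exact hfix y, fun h => ?_⟩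
          exact MulAction.injective (y : G) (h.trans (hfix y).symm)
        · simp [inv_smul_smul]
    _ = ∑ y : (P : Subgroup G), ρ (y : G)⁻¹ * (∑ q ∈ S, β q • F q) * ρ ((y : G)⁻¹)⁻¹ := by
        refine Finset.sum_congr rfl fun y _ => ?_
        rw [Finset.mul_sum, Finset.sum_mul]
        refine Finset.sum_congr rfl fun q _ => ?_
        rw [Matrix.mul_smul, Matrix.smul_mul, hF]
        congr 1
        exact relTr_term_smul ρ N hAN _ q
    _ = _ := by
        refine Fintype.sum_equiv (Equiv.inv _) _ _ fun y => ?_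
        simp [hS]

/-- The complex sum over the elements of a subgroup. -/
theorem toC_sum {κ : Type*} (t : Finset κ) (A : κ → Matrix ι ι ℤ) :
    toC (∑ k ∈ t, A k) = ∑ k ∈ t, toC (A k) := map_sum _ _ _

theorem toC_mul (A B : Matrix ι ι ℤ) : toC (A * B) = toC A * toC B := map_mul _ _ _

/-- Conjugation by the normalizer preserves the centralizer. -/
theorem conj_mem_centralizer {d g : G} (hd : d ∈ Subgroup.centralizer ((P : Subgroup G) : Set G))
    (hg : g ∈ Subgroup.normalizer ((P : Subgroup G) : Set G)) :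
    g⁻¹ * d * g ∈ Subgroup.centralizer ((P : Subgroup G) : Set G) := by
  refine Subgroup.mem_centralizer_iff.2 fun z hz => ?_
  have h1 := Subgroup.mem_centralizer_iff.1 hd (g * z * g⁻¹)
    ((Subgroup.mem_normalizer_iff.1 hg z).1 hz)
  calc z * (g⁻¹ * d * g) = g⁻¹ * ((g * z * g⁻¹) * d) * g := by group
    _ = g⁻¹ * (d * (g * z * g⁻¹)) * g := by rw [h1]
    _ = (g⁻¹ * d * g) * z := by group

variable {U : Subgroup G}

/-- The product map onto the centralizer. -/
def prodC (hUmem : ∀ c, c ∈ U ↔ c ∈ Subgroup.centralizer ((P : Subgroup G) : Set G) ∧ ¬ p ∣ orderOf c)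
    [IsMulCommutative (P : Subgroup G)]
    (z : ↥(P : Subgroup G) × U) : Subgroup.centralizer ((P : Subgroup G) : Set G) :=
  ⟨(z.1 : G) * z.2, mul_mem (Subgroup.le_centralizer _ z.1.2) ((hUmem _).1 z.2.2).1⟩

theorem prodC_bijective (hP : Nat.card P = p) [IsMulCommutative (P : Subgroup G)]
    (hUmem : ∀ c, c ∈ U ↔ c ∈ Subgroup.centralizer ((P : Subgroup G) : Set G) ∧ ¬ p ∣ orderOf c) :
    Function.Bijective (prodC hUmem) := by
  have hp := (Fact.out : p.Prime)
  obtain ⟨U', -, hU'c, hU'mem⟩ := exists_regular_part P hP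
  have hUU : U' = U := Subgroup.ext fun c => (hU'mem c).trans (hUmem c).symm
  rw [hUU] at hU'c
  rw [Fintype.bijective_iff_injective_and_card]
  refine ⟨?_, ?_⟩
  · rintro ⟨y, w⟩ ⟨y', w'⟩ h
    have h1 : (y : G) * w = y' * w' := congrArg Subtype.val h
    have h2 : ((y'⁻¹ * y : (P : Subgroup G)) : G) = ((w' * w⁻¹ : U) : G) := by
      push_cast
      calc (y' : G)⁻¹ * y = (y' : G)⁻¹ * ((y : G) * w) * (w : G)⁻¹ := by group
        _ = (y' : G)⁻¹ * ((y' : G) * w') * (w : G)⁻¹ := by rw [h1]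
        _ = _ := by group
    have h3 : ((y'⁻¹ * y : (P : Subgroup G)) : G) = 1 := by
      by_contra hne1
      have hw2 := ((hUmem _).1 (h2 ▸ (w' * w⁻¹ : U).2)).2
      exact hw2 (BlockAbelianSylow86.singular (SetLike.coe_mem _) hne1)
    have h4 : y' = y := inv_mul_eq_one.1 (Subtype.ext h3)
    subst h4
    exact Prod.ext rfl (Subtype.ext (mul_left_cancel h1))
  · rw [← Nat.card_eq_fintype_card, ← Nat.card_eq_fintype_card, Nat.card_prod,
      show Nat.card (P : Subgroup G) = p from hP, mul_comm, hU'c]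

theorem hasCommute (hUmem : ∀ c, c ∈ U ↔ c ∈ Subgroup.centralizer ((P : Subgroup G) : Set G) ∧ ¬ p ∣ orderOf c)
    (y : (P : Subgroup G)) (w : U) : Commute (y : G) (w : G) :=
  Subgroup.mem_centralizer_iff.1 ((hUmem _).1 w.2).1 y y.2

set_option maxHeartbeats 1000000 in
/-- The bound for the fixed lattice. -/
theorem bound_fix (hM : IsPModular p M) (hP : Nat.card P = p)
    (hUmem : ∀ c, c ∈ U ↔ c ∈ Subgroup.centralizer ((P : Subgroup G) : Set G) ∧ ¬ p ∣ orderOf c)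
    (hup : ¬ p ∣ Fintype.card U) {n0 : G} {e : ℕ}
    (hn0 : n0 ∈ Subgroup.normalizer ((P : Subgroup G) : Set G)) (he : 0 < e) (hep : ¬ p ∣ e)
    (hn0r : ¬ p ∣ orderOf n0) (hne : n0 ^ e ∈ Subgroup.centralizer ((P : Subgroup G) : Set G))
    (hgen : ∀ n ∈ Subgroup.normalizer ((P : Subgroup G) : Set G), ∃ i : ℕ,
      ∃ c ∈ Subgroup.centralizer ((P : Subgroup G) : Set G), n = n0 ^ i * c)
    (ρ : G →* Matrix ι ι ℤ) (ℓ : ℕ)
    (F : Subfield ℂ) (hFe : ∀ z : ℂ, z ^ e = 1 → z ∈ F)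
    (hroots : ∀ A : Matrix ι ι ℂ, (∀ g, toC (ρ g) * A = A * toC (ρ g)) → IntM M A →
      (∀ i j, A i j ∈ F) → ∃ (l : List ℂ) (R : Finset ℂ), R.card ≤ ℓ ∧
      (∀ μ ∈ l, Module.End.HasEigenvalue (Matrix.toLin' A) μ) ∧
      (l.map fun μ => Matrix.toLin' A - μ • (1 : Module.End ℂ (ι → ℂ))).prod = 0 ∧
      ∀ μ ∈ l, ¬ Sm M μ → ∃ ν ∈ R, Sm M (μ - ν))
    (x : (P : Subgroup G)) (hxpow : ∀ y : (P : Subgroup G), ∃ k, k < p ∧ (x : G) ^ k = y)
    {Q : Matrix ι ι ℤ} (hQsum : Q = ∑ c : Subgroup.centralizer ((P : Subgroup G) : Set G), ρ (c : G))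
    {h : ℕ} (hFh : ∀ z : ℂ, z ^ (h * p + 1) = 1 → z ∈ F) (v g : Fin h → ι → ℤ)
    (hv : ∀ i, (∀ w : U, ρ (w : G) *ᵥ v i = v i) ∧ ρ (x : G) *ᵥ v i = v i)
    (hd : ∀ l i, (p : ℤ) ∣ g l ⬝ᵥ v i - if l = i then 1 else 0)
    (hg : ∀ l, ∀ w : ι → ℤ, (p : ℤ) ∣ g l ⬝ᵥ (Q *ᵥ w)) : h ≤ ℓ := by
  have hp := (Fact.out : p.Prime)
  haveI := isMulCommutative_of_card P hP
  set C := Subgroup.centralizer ((P : Subgroup G) : Set G) with hC
  set N := Subgroup.normalizer ((P : Subgroup G) : Set G) with hN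
  have hπ := prodC_bijective hP hUmem
  have hcomm := hasCommute hUmem
  have hPC : (P : Subgroup G) ≤ C := Subgroup.le_centralizer _
  have hUC : U ≤ C := fun c hc => ((hUmem c).1 hc).1
  have hCN : C ≤ N := Subgroup.centralizer_le_normalizer _
  have hneU : n0 ^ e ∈ U := (hUmem _).2 ⟨hne, fun hd => hn0r (hd.trans (orderOf_pow_dvd e))⟩
  set ρC : G →* Matrix ι ι ℂ := (Int.castRingHom ℂ).mapMatrix.toMonoidHom.comp ρ with hρC
  have hρi : ∀ g, IntM M (ρC g) := fun g => intM_toC _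
  have hρC1 : ∀ y : G, ∀ v : ι → ℤ, ρC y *ᵥ (fun i => (v i : ℂ)) =
      fun i => ((ρ y *ᵥ v) i : ℂ) := fun y v => (cast_mulVec _ v).symm
  set u := Fintype.card U with hu
  have hcardU : (u : ℂ) ≠ 0 := Nat.cast_ne_zero.2 fun h => hup (by rw [h]; exact dvd_zero p)
  have hp0 : (p : ℂ) ≠ 0 := Nat.cast_ne_zero.2 hp.ne_zero
  have hcardC : (Fintype.card C : ℂ) = (p : ℂ) * (u : ℂ) := by
    rw [← Fintype.card_of_bijective hπ, Fintype.card_prod, Nat.cast_mul]
    congr 1
    exact_mod_cast (Fintype.card_eq_nat_card.trans hP)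
  have hQC : toC Q = ∑ c : C, ρC (c : G) := by rw [hQsum, toC_sum]; rfl
  set Φ := toC Q with hΦ
  let K : Submodule ℂ (ι → ℂ) :=
    ⨅ c : C, LinearMap.ker ((ρC (c : G)).mulVecLin - LinearMap.id)
  have hKmem : ∀ v, v ∈ K ↔ ∀ c ∈ C, ρC c *ᵥ v = v := fun v => by
    simp [K, sub_eq_zero]
  refine card_le_of_dual hM ρC hρi N C n0 he hep hne hgen Φ (fun B hB => ?_) (fun i => ?_) K
    (fun i v hv => ?_) (fun d hd i => ?_) (fun v hv => (hKmem v).1 hv _ hne) 1 (Or.inl rfl)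
    (fun v f hv hvi hfi hfg => ?_) (fun B hB hBN v hv hvi => ?_) F hFe hFh
    (fun a i j => intCast_mem F (ρ a i j)) ℓ hroots
    (fun i k => (v i k : ℂ)) (fun l k => (g l k : ℂ)) (fun i => (hKmem _).2 fun c hc => ?_)
    (fun i => intV_cast _) (fun l => intV_cast _) (fun l => good_cast hM _ _ (hg l))
    (fun l i => by rw [dot_cast]; exact sm_dual hM _ (hd l i))
    (fun i k => intCast_mem F (v i k)) (fun l k => intCast_mem F (g l k))
  · rw [hQC, Finset.mul_sum, Finset.sum_mul]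
    exact Finset.sum_congr rfl fun c _ => (hB _).symm
  · refine ⟨ρC (n0 ^ i), hρi _, ?_⟩
    rw [hQC, Finset.mul_sum, Finset.sum_mul]
    have hmem : ∀ c : C, n0 ^ i * c * (n0 ^ i)⁻¹ ∈ C := fun c => by
      refine Subgroup.mem_centralizer_iff.2 fun z hz => ?_
      have hg : n0 ^ i ∈ N := pow_mem hn0 i
      have h1 := Subgroup.mem_centralizer_iff.1 c.2 ((n0 ^ i)⁻¹ * z * n0 ^ i)
        ((Subgroup.mem_normalizer_iff.1 hg _).2 (by
          rw [show n0 ^ i * ((n0 ^ i)⁻¹ * z * n0 ^ i) * (n0 ^ i)⁻¹ = z by group]; exact hz))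
      calc z * (n0 ^ i * c * (n0 ^ i)⁻¹)
          = n0 ^ i * (((n0 ^ i)⁻¹ * z * n0 ^ i) * c) * (n0 ^ i)⁻¹ := by group
        _ = n0 ^ i * ((c : G) * ((n0 ^ i)⁻¹ * z * n0 ^ i)) * (n0 ^ i)⁻¹ := by rw [h1]
        _ = _ := by group
    refine Fintype.sum_bijective (fun c : C => (⟨_, hmem c⟩ : C)) ?_ _ _ fun c => ?_
    · refine (Finite.injective_iff_bijective).1 fun c d h => ?_
      exact Subtype.ext (mul_left_cancel (mul_right_cancel (congrArg Subtype.val h)))
    · show ρC (n0 ^ i) * ρC (c : G) = ρC (n0 ^ i * c * (n0 ^ i)⁻¹) * ρC (n0 ^ i)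
      rw [← map_mul, ← map_mul, inv_mul_cancel_right]
  · rw [hKmem] at hv ⊢
    intro c hc
    rw [mulVec_mulVec, ← map_mul, show c * n0 ^ i = n0 ^ i * ((n0 ^ i)⁻¹ * c * n0 ^ i) by group,
      map_mul, ← mulVec_mulVec, hv]
    exact conj_mem_centralizer hc (pow_mem hn0 i)
  · exact conj_mem_centralizer hd (pow_mem hn0 i)
  · have hw : ∀ w, avg ρC C v f *ᵥ w = (((Fintype.card C : ℂ))⁻¹ * ((f ᵥ* Φ) ⬝ᵥ w)) • v := by
      intro w
      rw [avg_mulVec, ← dotProduct_mulVec, hQC, sum_mulVec, dotProduct_sum, ← smul_smul,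
        Finset.sum_congr rfl fun c _ => by rw [(hKmem v).1 hv c c.2], ← Finset.sum_smul]
      congr 2
      exact Fintype.sum_equiv (Equiv.inv C) _ _ fun c => rfl
    refine ⟨fun k j => ?_, fun w hw' hwi => ?_⟩
    · have h1 := congrFun (hw (Pi.single j 1)) k
      rw [mulVec_single_one, dotProduct_single, mul_one, Pi.smul_apply, smul_eq_mul] at h1
      rw [Matrix.col_apply] at h1
      have h2 : avg ρC C v f k j = (u : ℂ)⁻¹ * ((f ᵥ* Φ) j / p) * v k := by
        rw [h1, hcardC, mul_inv]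
        ring
      rw [h2]
      exact ((int'_inv_natCast hM hup).mul (hfg j)).mul (hvi k)
    · have h1 : (f ᵥ* Φ) ⬝ᵥ w = (Fintype.card C : ℂ) * (f ⬝ᵥ w) := by
        rw [← dotProduct_mulVec, hQC, sum_mulVec, Finset.sum_congr rfl fun (c : C) _ =>
          (hKmem w).1 hw' c c.2, Finset.sum_const, Finset.card_univ, dotProduct_smul,
          nsmul_eq_mul]
      rw [hw, h1, ← mul_assoc, inv_mul_cancel₀ (Nat.cast_ne_zero.2 Fintype.card_ne_zero),
        one_mul, Int.cast_one, one_mul, sub_self]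
      exact inT_zero
  · obtain ⟨W, hW, hWe⟩ := exists_trace_decomp hP ρC hρi hB hBN
    have hUfix : ∀ w : U, ρC (w : G) *ᵥ ((relTr ρC N B - B) *ᵥ v) = (relTr ρC N B - B) *ᵥ v := by
      intro w
      rw [mulVec_mulVec, mul_sub, relTr_comm ρC N hBN, hBN _ (hCN (hUC w.2)), ← sub_mul,
        ← mulVec_mulVec, (hKmem v).1 hv _ (hUC w.2)]
    have hform : (relTr ρC N B - B) *ᵥ v = (∑ y : (P : Subgroup G), ρC (y : G)) *ᵥ (W *ᵥ v) := by
      rw [hWe, sum_mulVec, sum_mulVec]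
      refine Finset.sum_congr rfl fun y _ => ?_
      rw [← mulVec_mulVec, ← mulVec_mulVec, (hKmem v).1 hv _ (inv_mem (hPC y.2))]
    have hfin : (relTr ρC N B - B) *ᵥ v = Φ *ᵥ ((u : ℂ)⁻¹ • (W *ᵥ v)) := by
      have h1 : (u : ℂ) • ((relTr ρC N B - B) *ᵥ v) = Φ *ᵥ (W *ᵥ v) := by
        have h2 : Φ = (∑ w : U, ρC (w : G)) * ∑ y : (P : Subgroup G), ρC (y : G) := by
          rw [hQC, ← Fintype.sum_bijective (prodC hUmem) hπ _ _ fun z => rfl, Fintype.sum_prod_type,
            Finset.sum_comm, Finset.sum_mul_sum]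
          exact Finset.sum_congr rfl fun w _ => Finset.sum_congr rfl fun y _ => by
            rw [← map_mul, ← (hcomm y w).eq]; rfl
        rw [h2, ← mulVec_mulVec, ← hform, sum_mulVec, Finset.sum_congr rfl fun w _ => hUfix w,
          Finset.sum_const, Finset.card_univ, ← hu, Nat.cast_smul_eq_nsmul]
      rw [mulVec_smul, ← h1, smul_smul, inv_mul_cancel₀ hcardU, one_smul]
    rw [hfin]
    exact inT_of_mulVec fun k => (int'_inv_natCast hM hup).mul ((hvi.mulVec hW) k)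
  · obtain ⟨hA', hX'⟩ := hv i
    obtain ⟨⟨y, w⟩, hyw⟩ := hπ.2 ⟨c, hc⟩
    have hc' : c = (y : G) * w := (congrArg Subtype.val hyw).symm
    rw [hc', map_mul, ← mulVec_mulVec, hρC1, hA' w, hρC1]
    obtain ⟨k, -, hk⟩ := hxpow y
    have hpow : ∀ k : ℕ, ρ (x : G) ^ k *ᵥ v i = v i := by
      intro k
      induction k with
      | zero => simp
      | succ k ih => rw [pow_succ, ← mulVec_mulVec, hX', ih]
    rw [← hk, map_pow, hpow k]

set_option maxHeartbeats 1000000 in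
/-- The bound for the lattice killed by the norm. -/
theorem bound_ker (hM : IsPModular p M) (hP : Nat.card P = p)
    (hUmem : ∀ c, c ∈ U ↔ c ∈ Subgroup.centralizer ((P : Subgroup G) : Set G) ∧ ¬ p ∣ orderOf c)
    (hup : ¬ p ∣ Fintype.card U) {n0 : G} {e : ℕ}
    (hn0 : n0 ∈ Subgroup.normalizer ((P : Subgroup G) : Set G)) (he : 0 < e) (hep : ¬ p ∣ e)
    (hn0r : ¬ p ∣ orderOf n0) (hne : n0 ^ e ∈ Subgroup.centralizer ((P : Subgroup G) : Set G))
    (hgen : ∀ n ∈ Subgroup.normalizer ((P : Subgroup G) : Set G), ∃ i : ℕ,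
      ∃ c ∈ Subgroup.centralizer ((P : Subgroup G) : Set G), n = n0 ^ i * c)
    (ρ : G →* Matrix ι ι ℤ) (ℓ : ℕ)
    (F : Subfield ℂ) (hFe : ∀ z : ℂ, z ^ e = 1 → z ∈ F)
    (hroots : ∀ A : Matrix ι ι ℂ, (∀ g, toC (ρ g) * A = A * toC (ρ g)) → IntM M A →
      (∀ i j, A i j ∈ F) → ∃ (l : List ℂ) (R : Finset ℂ), R.card ≤ ℓ ∧
      (∀ μ ∈ l, Module.End.HasEigenvalue (Matrix.toLin' A) μ) ∧
      (l.map fun μ => Matrix.toLin' A - μ • (1 : Module.End ℂ (ι → ℂ))).prod = 0 ∧
      ∀ μ ∈ l, ¬ Sm M μ → ∃ ν ∈ R, Sm M (μ - ν))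
    (x : (P : Subgroup G)) (hxpow : ∀ y : (P : Subgroup G), ∃ k, k < p ∧ (x : G) ^ k = y)
    {h : ℕ} (hFh : ∀ z : ℂ, z ^ (h * p + 1) = 1 → z ∈ F) (v g : Fin h → ι → ℤ)
    (hv : ∀ i, (∀ w : U, ρ (w : G) *ᵥ v i = v i) ∧ (∑ y : (P : Subgroup G), ρ (y : G)) *ᵥ v i = 0)
    (hd : ∀ l i, (p : ℤ) ∣ g l ⬝ᵥ v i - if l = i then 1 else 0)
    (hg : ∀ l, ∀ w : ι → ℤ, (p : ℤ) ∣ g l ⬝ᵥ ((ρ (x : G) - 1) *ᵥ w)) : h ≤ ℓ := by
  have hp := (Fact.out : p.Prime)
  haveI := isMulCommutative_of_card P hP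
  set C := Subgroup.centralizer ((P : Subgroup G) : Set G) with hC
  set N := Subgroup.normalizer ((P : Subgroup G) : Set G) with hN
  have hπ := prodC_bijective hP hUmem
  have hcomm := hasCommute hUmem
  have hPC : (P : Subgroup G) ≤ C := Subgroup.le_centralizer _
  have hUC : U ≤ C := fun c hc => ((hUmem c).1 hc).1
  have hCN : C ≤ N := Subgroup.centralizer_le_normalizer _
  have hneU : n0 ^ e ∈ U := (hUmem _).2 ⟨hne, fun hd => hn0r (hd.trans (orderOf_pow_dvd e))⟩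
  set ρC : G →* Matrix ι ι ℂ := (Int.castRingHom ℂ).mapMatrix.toMonoidHom.comp ρ with hρC
  have hρi : ∀ g, IntM M (ρC g) := fun g => intM_toC _
  have hρC1 : ∀ y : G, ∀ v : ι → ℤ, ρC y *ᵥ (fun i => (v i : ℂ)) =
      fun i => ((ρ y *ᵥ v) i : ℂ) := fun y v => (cast_mulVec _ v).symm
  set u := Fintype.card U with hu
  have hcardU : (u : ℂ) ≠ 0 := Nat.cast_ne_zero.2 fun h => hup (by rw [h]; exact dvd_zero p)
  have hp0 : (p : ℂ) ≠ 0 := Nat.cast_ne_zero.2 hp.ne_zero
  have hcardC : (Fintype.card C : ℂ) = (p : ℂ) * (u : ℂ) := by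
    rw [← Fintype.card_of_bijective hπ, Fintype.card_prod, Nat.cast_mul]
    congr 1
    exact_mod_cast (Fintype.card_eq_nat_card.trans hP)
  have hUconj : ∀ w ∈ U, ∀ g ∈ N, g⁻¹ * w * g ∈ U := by
    intro w hw g hg
    obtain ⟨hwC, hwr⟩ := (hUmem w).1 hw
    refine (hUmem _).2 ⟨?_, ?_⟩
    · refine Subgroup.mem_centralizer_iff.2 fun z hz => ?_
      have h1 := Subgroup.mem_centralizer_iff.1 hwC (g * z * g⁻¹)
        ((Subgroup.mem_normalizer_iff.1 hg z).1 hz)
      calc z * (g⁻¹ * w * g) = g⁻¹ * ((g * z * g⁻¹) * w) * g := by group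
        _ = g⁻¹ * (w * (g * z * g⁻¹)) * g := by rw [h1]
        _ = (g⁻¹ * w * g) * z := by group
    · have h2 : g⁻¹ * w * g = MulAut.conj g⁻¹ w := by simp
      rwa [h2, MulEquiv.orderOf_eq]
  set X := ρ (x : G) with hXdef
  set Φ := toC (X - 1) with hΦ
  have hΦ' : Φ = ρC (x : G) - 1 := by
    rw [hΦ, toC, map_sub, map_one, hXdef]; rfl
  have hfac : ∀ y : (P : Subgroup G), ∃ Y, IntM M Y ∧ ρC (y : G) - 1 = Φ * Y := by
    intro y
    obtain ⟨k, -, hk⟩ := hxpow y
    refine ⟨∑ i ∈ range k, ρC (x : G) ^ i, intM_sum _ fun i _ => (hρi _).pow i, ?_⟩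
    rw [hΦ', mul_geom_sum, ← map_pow, hk]
  let K : Submodule ℂ (ι → ℂ) :=
    (⨅ w : U, LinearMap.ker ((ρC (w : G)).mulVecLin - LinearMap.id)) ⊓
      LinearMap.ker (∑ y : (P : Subgroup G), ρC (y : G)).mulVecLin
  have hKmem : ∀ v, v ∈ K ↔ (∀ w ∈ U, ρC w *ᵥ v = v) ∧
      (∑ y : (P : Subgroup G), ρC (y : G)) *ᵥ v = 0 := fun v => by
    simp [K, sub_eq_zero, sum_mulVec]
  refine card_le_of_dual hM ρC hρi N C n0 he hep hne hgen Φ (fun B hB => ?_) (fun i => ?_) K
    (fun i v hv => ?_) (fun d hd i => conj_mem_centralizer hd (pow_mem hn0 i))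
    (fun v hv => ((hKmem v).1 hv).1 _ hneU) (-1) (Or.inr rfl)
    (fun v f hv hvi hfi hfg => ?_) (fun B hB hBN v hv hvi => ?_) F hFe hFh
    (fun a i j => intCast_mem F (ρ a i j)) ℓ hroots
    (fun i k => (v i k : ℂ)) (fun l k => (g l k : ℂ)) (fun i => (hKmem _).2 ?_)
    (fun i => intV_cast _) (fun l => intV_cast _) (fun l => good_cast hM _ _ (hg l))
    (fun l i => by rw [dot_cast]; exact sm_dual hM _ (hd l i))
    (fun i k => intCast_mem F (v i k)) (fun l k => intCast_mem F (g l k))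
  · rw [hΦ', mul_sub, sub_mul, mul_one, one_mul, hB]
  · set g := n0 ^ i with hg
    have hgP : g * x * g⁻¹ ∈ (P : Subgroup G) :=
      (Subgroup.mem_normalizer_iff.1 (pow_mem hn0 i) x).1 x.2
    obtain ⟨Y, hY, hYe⟩ := hfac ⟨_, hgP⟩
    refine ⟨Y * ρC g, hY.mul (hρi _), ?_⟩
    rw [← Matrix.mul_assoc, ← hYe, sub_mul, one_mul, hΦ', mul_sub, mul_one, ← map_mul,
      ← map_mul, inv_mul_cancel_right]
  · rw [hKmem] at hv ⊢
    set g := n0 ^ i with hg
    have hgN : g ∈ N := pow_mem hn0 i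
    refine ⟨fun w hw => ?_, ?_⟩
    · rw [mulVec_mulVec, ← map_mul, show w * g = g * (g⁻¹ * w * g) by group, map_mul,
        ← mulVec_mulVec, hv.1 _ (hUconj w hw g hgN)]
    · rw [mulVec_mulVec, Finset.sum_mul]
      have h1 : ∑ y : (P : Subgroup G), ρC (y : G) * ρC g =
          ρC g * ∑ y : (P : Subgroup G), ρC (y : G) := by
        rw [Finset.mul_sum]
        have hmem : ∀ y : (P : Subgroup G), g⁻¹ * y * g ∈ (P : Subgroup G) := fun y =>
          (Subgroup.mem_normalizer_iff.1 hgN _).2 (by simpa [mul_assoc] using y.2)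
        refine Fintype.sum_bijective (fun y : (P : Subgroup G) =>
          (⟨_, hmem y⟩ : (P : Subgroup G))) ?_ _ _ fun y => ?_
        · refine (Finite.injective_iff_bijective).1 fun c d h => ?_
          exact Subtype.ext (mul_left_cancel (mul_right_cancel (congrArg Subtype.val h)))
        · show ρC (y : G) * ρC g = ρC g * ρC (g⁻¹ * y * g)
          rw [← map_mul, ← map_mul]
          congr 1
          group
      rw [h1, ← mulVec_mulVec, hv.2, mulVec_zero]
  · obtain ⟨hvU, hvS⟩ := (hKmem v).1 hv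
    set F := f ᵥ* ∑ w : U, ρC (w : G) with hF
    have hFi : IntV M F := hfi.vecMul (intM_sum _ fun w _ => hρi _)
    have hdiv : ∀ (y : (P : Subgroup G)) (w : ι → ℂ), IntV M w →
        Int' M ((F ⬝ᵥ (ρC (y : G) *ᵥ w) - F ⬝ᵥ w) / p) := by
      intro y w hw
      obtain ⟨Y, hY, hYe⟩ := hfac y
      have hcm : (∑ b : U, ρC (b : G)) * (ρC (y : G) - 1) =
          (ρC (y : G) - 1) * ∑ b : U, ρC (b : G) := by
        rw [mul_sub, sub_mul, mul_one, one_mul, Finset.mul_sum, Finset.sum_mul]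
        congr 1
        exact Finset.sum_congr rfl fun b _ => by rw [← map_mul, ← map_mul, (hcomm y b).eq]
      have h1 : F ⬝ᵥ (ρC (y : G) *ᵥ w) - F ⬝ᵥ w =
          (f ᵥ* Φ) ⬝ᵥ ((Y * ∑ b : U, ρC (b : G)) *ᵥ w) := by
        rw [← dotProduct_sub, ← dotProduct_mulVec]
        rw [show ρC (y : G) *ᵥ w - w = (ρC (y : G) - 1) *ᵥ w by rw [sub_mulVec, one_mulVec],
          mulVec_mulVec, hcm, hYe]
        rw [← dotProduct_mulVec, mulVec_mulVec, Matrix.mul_assoc]
      rw [h1, dotProduct, Finset.sum_div]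
      refine int'_sum _ fun k _ => ?_
      rw [mul_div_right_comm]
      exact (hfg k).mul ((hw.mulVec (hY.mul (intM_sum _ fun b _ => hρi _))) k)
    have hw : ∀ w, avg ρC C v f *ᵥ w = (u : ℂ)⁻¹ • ∑ y : (P : Subgroup G),
        ((F ⬝ᵥ (ρC (y : G)⁻¹ *ᵥ w) - F ⬝ᵥ w) / p) • (ρC (y : G) *ᵥ v) := by
      intro w
      rw [avg_mulVec, ← Fintype.sum_bijective (prodC hUmem) hπ _ _ fun z => rfl, Fintype.sum_prod_type, hcardC,
        mul_inv, mul_comm (p : ℂ)⁻¹, ← smul_smul]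
      congr 1
      have h2 : ∀ y : (P : Subgroup G), ∑ b : U, (f ⬝ᵥ (ρC ((prodC hUmem (y, b) : G))⁻¹ *ᵥ w)) •
          (ρC ((prodC hUmem (y, b) : G)) *ᵥ v) = (F ⬝ᵥ (ρC (y : G)⁻¹ *ᵥ w)) • (ρC (y : G) *ᵥ v) := by
        intro y
        have h3 : ∀ b : U, ρC ((prodC hUmem (y, b) : G)) *ᵥ v = ρC (y : G) *ᵥ v := fun b => by
          show ρC ((y : G) * b) *ᵥ v = _
          rw [map_mul, ← mulVec_mulVec, hvU b b.2]
        simp only [h3, ← Finset.sum_smul]
        congr 1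
        rw [hF, ← dotProduct_mulVec, sum_mulVec, dotProduct_sum]
        refine Fintype.sum_equiv (Equiv.inv U) _ _ fun b => ?_
        rw [Equiv.inv_apply, Subgroup.coe_inv, mulVec_mulVec, ← map_mul]
        show f ⬝ᵥ (ρC ((y : G) * b)⁻¹ *ᵥ w) = _
        rw [_root_.mul_inv_rev]
      rw [Finset.sum_congr rfl fun y _ => h2 y]
      simp only [sub_div, sub_smul, Finset.sum_sub_distrib, div_eq_inv_mul (b := (p : ℂ)),
        ← smul_smul, ← Finset.smul_sum]
      rw [← sum_mulVec, hvS]; simp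
    refine ⟨fun k j => ?_, fun w hw' hwi => ?_⟩
    · have h1 := congrFun (hw (Pi.single j 1)) k
      rw [mulVec_single_one] at h1
      simp only [Matrix.col_apply, Pi.smul_apply, Finset.sum_apply, smul_eq_mul] at h1
      rw [h1]
      refine (int'_inv_natCast hM hup).mul (int'_sum _ fun y _ => ?_)
      refine Int'.mul (hdiv y⁻¹ _ fun l => ?_) ((hvi.mulVec (hρi _)) k)
      rcases eq_or_ne l j with rfl | hl
      · rw [Pi.single_eq_same]; exact int'_one
      · rw [Pi.single_eq_of_ne hl]; exact int'_zero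
    · obtain ⟨hwU, hwS⟩ := (hKmem w).1 hw'
      have hsum0 : ∑ y : (P : Subgroup G), ((F ⬝ᵥ (ρC (y : G)⁻¹ *ᵥ w) - F ⬝ᵥ w) / p) =
          -((u : ℂ) * (f ⬝ᵥ w)) := by
        rw [← Finset.sum_div, Finset.sum_sub_distrib, ← dotProduct_sum, ← sum_mulVec,
          Finset.sum_const, Finset.card_univ, ← Nat.card_eq_fintype_card,
          show Nat.card (P : Subgroup G) = p from hP, nsmul_eq_mul]
        have h1 : (∑ y : (P : Subgroup G), ρC (y : G)⁻¹) *ᵥ w = 0 := by
          rw [← hwS]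
          congr 1
          exact Fintype.sum_equiv (Equiv.inv _) _ _ fun y => rfl
        rw [h1, dotProduct_zero, zero_sub, hF, ← dotProduct_mulVec, sum_mulVec,
          Finset.sum_congr rfl fun b _ => hwU (b : U) b.2, Finset.sum_const, Finset.card_univ,
          ← hu, dotProduct_smul, nsmul_eq_mul, neg_div, mul_div_assoc, mul_comm (p : ℂ),
          div_mul_cancel₀ _ hp0]
      have hgoal : avg ρC C v f *ᵥ w - (((-1 : ℤ) : ℂ) * (f ⬝ᵥ w)) • v =
          (u : ℂ)⁻¹ • ∑ y : (P : Subgroup G),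
            ((F ⬝ᵥ (ρC (y : G)⁻¹ *ᵥ w) - F ⬝ᵥ w) / p) • ((ρC (y : G) - 1) *ᵥ v) := by
        simp only [sub_mulVec, one_mulVec, smul_sub, Finset.sum_sub_distrib]
        rw [← Finset.sum_smul, hsum0, ← hw, smul_smul]
        congr 2
        push_cast
        field_simp
      rw [hgoal]
      refine InT.smul (inT_sum _ fun y _ => InT.smul ?_ (hdiv y⁻¹ w hwi))
        (int'_inv_natCast hM hup)
      obtain ⟨Y, hY, hYe⟩ := hfac y
      rw [hYe, ← mulVec_mulVec]
      exact inT_of_mulVec (hvi.mulVec hY)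
  · obtain ⟨W, hW, hWe⟩ := exists_trace_decomp hP ρC hρi hB hBN
    have hS0 : ∑ y : (P : Subgroup G), W *ᵥ (ρC (y : G)⁻¹ *ᵥ v) = 0 := by
      rw [← mulVec_sum, ← sum_mulVec]
      have h1 : (∑ y : (P : Subgroup G), ρC (y : G)⁻¹) *ᵥ v = 0 := by
        rw [← ((hKmem v).1 hv).2]
        congr 1
        exact Fintype.sum_equiv (Equiv.inv _) _ _ fun y => rfl
      rw [h1, mulVec_zero]
    have hform : (relTr ρC N B - B) *ᵥ v =
        ∑ y : (P : Subgroup G), (ρC (y : G) - 1) *ᵥ (W *ᵥ (ρC (y : G)⁻¹ *ᵥ v)) := by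
      simp only [sub_mulVec, one_mulVec, Finset.sum_sub_distrib]
      rw [hS0, sub_zero, ← sub_mulVec, hWe, sum_mulVec]
      exact Finset.sum_congr rfl fun y _ => by rw [← mulVec_mulVec, ← mulVec_mulVec]
    rw [hform]
    refine inT_sum _ fun y _ => ?_
    obtain ⟨Y, hY, hYe⟩ := hfac y
    rw [hYe, ← mulVec_mulVec]
    exact inT_of_mulVec (((hvi.mulVec (hρi _)).mulVec hW).mulVec hY)
  · obtain ⟨hA', hS'⟩ := hv i
    refine ⟨fun w hw => by rw [hρC1, hA' ⟨w, hw⟩], ?_⟩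
    have h1 : (∑ y : (P : Subgroup G), ρC (y : G)) = toC (∑ y : (P : Subgroup G), ρ (y : G)) := by
      rw [toC_sum]; rfl
    rw [h1, toC_apply, ← cast_mulVec, hS']
    simp only [Pi.zero_apply, Int.cast_zero]
    rfl

/-- The bound on rational integral sums of character values on the sections of a Sylow subgroup
of order `p`, by the number of incongruent eigenvalues of commuting integral endomorphisms. -/
theorem abs_sum_le (hM : IsPModular p M) (hP : Nat.card P = p) (S : Finset (IrrCharacter G))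
    (hgal : ∀ σ : ℂ ≃+* ℂ, ∀ ψ ∈ S, ∃ ψ' ∈ S, ∀ g, (ψ' : G → ℂ) g = σ ((ψ : G → ℂ) g))
    (a : ℤ) (hval : ∀ y ∈ (P : Subgroup G), y ≠ 1 →
      ∀ k ∈ Subgroup.centralizer ((P : Subgroup G) : Set G), ¬ p ∣ orderOf k →
        ∑ ψ ∈ S, (ψ : G → ℂ) 1 * (ψ : G → ℂ) (y * k) = (a : ℂ))
    (ℓ : ℕ)
    (hroots : ∀ (D : ℕ) (ρ : G →* Matrix (Fin D) (Fin D) ℤ),
      (∀ x : G, (((ρ x).trace : ℤ) : ℂ) = ∑ ψ ∈ S, (ψ : G → ℂ) 1 * (ψ : G → ℂ) x) →
      ∀ m : ℕ, ¬ p ∣ m → ∀ T : Matrix (Fin D) (Fin D) ℂ, (∀ g, toC (ρ g) * T = T * toC (ρ g)) →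
      IntM M T → (∀ i j, T i j ∈ DefectOneField7.Km m) →
      ∃ (l : List ℂ) (R : Finset ℂ), R.card ≤ ℓ ∧
      (∀ μ ∈ l, Module.End.HasEigenvalue (Matrix.toLin' T) μ) ∧
      (l.map fun μ => Matrix.toLin' T - μ • (1 : Module.End ℂ (Fin D → ℂ))).prod = 0 ∧
      ∀ μ ∈ l, ¬ Sm M μ → ∃ ν ∈ R, Sm M (μ - ν)) : |a| ≤ ℓ := by
  have hp := (Fact.out : p.Prime)
  set C := Subgroup.centralizer ((P : Subgroup G) : Set G) with hC
  set N := Subgroup.normalizer ((P : Subgroup G) : Set G) with hN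
  obtain ⟨U, hUp, hUc, hUmem⟩ := exists_regular_part P hP
  obtain ⟨n0, e, hn0, he, hep, hn0r, hne, hgen⟩ := exists_generator P hP
  haveI := isMulCommutative_of_card P hP
  have hPC : (P : Subgroup G) ≤ C := Subgroup.le_centralizer _
  have hUC : U ≤ C := fun c hc => ((hUmem c).1 hc).1
  have hCN : C ≤ N := Subgroup.centralizer_le_normalizer _
  have hcomm : ∀ (y : (P : Subgroup G)) (w : U), Commute (y : G) (w : G) := fun y w =>
    Subgroup.mem_centralizer_iff.1 (hUC w.2) y y.2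
  have hneU : n0 ^ e ∈ U := (hUmem _).2 ⟨hne, fun hd => hn0r (hd.trans (orderOf_pow_dvd e))⟩
  have hπ := prodC_bijective hP hUmem
  have hUc' := hUc
  obtain ⟨D, ρ, hρ⟩ := exists_intRep S hgal
  -- integral matrices
  haveI : Nontrivial (P : Subgroup G) := Finite.one_lt_card_iff_nontrivial.1
    (by rw [show Nat.card (P : Subgroup G) = p from hP]; exact hp.one_lt)
  obtain ⟨x, hx1⟩ := exists_ne (1 : (P : Subgroup G))
  set u := Fintype.card U with hu
  have hup : ¬ p ∣ u := by rwa [hu, ← Nat.card_eq_fintype_card]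
  set X := ρ (x : G) with hXdef
  set A := ∑ w : U, ρ (w : G) with hAdef
  have hxp : (x : G) ^ p = 1 := by
    have h := pow_card_eq_one' (G := (P : Subgroup G)) (x := x)
    rw [show Nat.card (P : Subgroup G) = p from hP] at h
    exact congrArg Subtype.val h
  have hXp : X ^ p = 1 := by rw [hXdef, ← map_pow, hxp, map_one]
  have hwA : ∀ w : U, ρ (w : G) * A = A := fun w => by
    rw [hAdef, Finset.mul_sum]
    exact Fintype.sum_equiv (Equiv.mulLeft w) _ _ fun b => (map_mul ρ (w : G) b).symm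
  have hAA : A * A = (u : ℤ) • A := by
    conv_lhs => arg 1; rw [hAdef]
    rw [Finset.sum_mul, Finset.sum_congr rfl fun w _ => hwA w, Finset.sum_const, Finset.card_univ,
      ← hu, natCast_zsmul]
  have hXA : Commute X A := by
    refine Commute.sum_right _ _ _ fun w _ => ?_
    show ρ (x : G) * ρ (w : G) = ρ (w : G) * ρ (x : G)
    rw [← map_mul, ← map_mul, (hcomm x w).eq]
  have horder : orderOf (x : G) = p := by
    rw [← Nat.card_zpowers, zpowers_eq P hP x.2 fun h => hx1 (Subtype.ext h)]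
    exact hP
  have hxpow : ∀ y : (P : Subgroup G), ∃ k, k < p ∧ (x : G) ^ k = y := by
    intro y
    have h1 : (y : G) ∈ Subgroup.zpowers (x : G) := by
      rw [zpowers_eq P hP x.2 fun h => hx1 (Subtype.ext h)]; exact y.2
    obtain ⟨k, hk⟩ := Finset.mem_image.1
      ((IsOfFinOrder.mem_zpowers_iff_mem_range_orderOf (isOfFinOrder_of_finite (x : G))).1 h1)
    exact ⟨k, horder ▸ Finset.mem_range.1 hk.1, hk.2⟩
  have hnorm_sum : normMat p X = ∑ y : (P : Subgroup G), ρ (y : G) := by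
    rw [normMat]
    refine Finset.sum_bij (fun k _ => x ^ k) (fun k _ => mem_univ _) ?_ ?_
      fun k _ => by rw [hXdef, ← map_pow]; rfl
    · intro k hk l hl h
      refine pow_injOn_Iio_orderOf (x := (x : G)) ?_ ?_ (congrArg Subtype.val h)
      · rw [horder]; exact Finset.mem_range.1 hk
      · rw [horder]; exact Finset.mem_range.1 hl
    · intro y _
      obtain ⟨k, hk, hky⟩ := hxpow y
      exact ⟨k, Finset.mem_range.2 hk, Subtype.ext hky⟩
  set Q := normMat p X * A with hQ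
  have hQsum : Q = ∑ c : C, ρ (c : G) := by
    rw [← Fintype.sum_bijective (prodC hUmem) hπ (fun z => ρ ((z.1 : G) * z.2)) _ fun z => rfl, Fintype.sum_prod_type, hQ, hnorm_sum, hAdef,
      Finset.sum_mul_sum]
    exact Finset.sum_congr rfl fun y _ => Finset.sum_congr rfl fun w _ => (map_mul ρ _ _).symm
  -- the rank identity
  have hd := trace_eq_latU (u := u) (A := A) hAA
  have hf := trace_eq_latFix (p := p) hXp hAA hXA
  rw [finrank_latU hXp hXA] at hd
  have hΦtr : ∀ y : (P : Subgroup G), y ≠ 1 → ∀ w : U, (ρ ((y : G) * w)).trace = a := by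
    intro y hy w
    refine Int.cast_injective (α := ℂ) ?_
    rw [hρ]
    exact hval y y.2 (fun h => hy (Subtype.ext h)) w ((hUmem _).1 w.2).1 ((hUmem _).1 w.2).2
  have htrQ : Q.trace = A.trace + ((p : ℤ) - 1) * ((u : ℤ) * a) := by
    rw [hQ, hnorm_sum, Finset.sum_mul, trace_sum,
      ← Finset.add_sum_erase _ _ (mem_univ (1 : (P : Subgroup G))), OneMemClass.coe_one, map_one,
      Matrix.one_mul]
    congr 1
    have h1 : ∀ y ∈ (Finset.univ : Finset (P : Subgroup G)).erase 1,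
        (ρ (y : G) * A).trace = (u : ℤ) * a := by
      intro y hy
      rw [hAdef, Finset.mul_sum, trace_sum]
      simp only [← map_mul, hΦtr y (Finset.ne_of_mem_erase hy), Finset.sum_const, Finset.card_univ,
        ← hu, nsmul_eq_mul]
    rw [Finset.sum_congr rfl h1, Finset.sum_const, Finset.card_erase_of_mem (mem_univ _),
      Finset.card_univ, ← Nat.card_eq_fintype_card, show Nat.card (P : Subgroup G) = p from hP,
      nsmul_eq_mul, Nat.cast_sub hp.one_le, Nat.cast_one]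
  set m0 := Module.finrank ℤ (latFix u X A) with hm0
  set mK := Module.finrank ℤ (latKer p u X A) with hmK
  have hrank : ((p : ℤ) - 1) * (m0 : ℤ) - (mK : ℤ) = ((p : ℤ) - 1) * a := by
    have hu0 : (u : ℤ) ≠ 0 := Int.natCast_ne_zero.2 fun h => hup (by rw [h]; exact dvd_zero p)
    refine mul_left_cancel₀ hu0 ?_
    rw [hd] at htrQ
    rw [← hQ] at hf
    rw [hf] at htrQ
    push_cast at htrQ
    linear_combination htrQ
  -- common facts
  have hfixU : ∀ v : Fin D → ℤ, A *ᵥ v = (u : ℤ) • v → ∀ w : U, ρ (w : G) *ᵥ v = v := by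
    intro v hv w
    have h1 : (u : ℤ) • (ρ (w : G) *ᵥ v) = (u : ℤ) • v := by
      rw [← mulVec_smul, ← hv, mulVec_mulVec, hwA]
    exact smul_right_injective _ (Int.natCast_ne_zero.2 fun h => hup (by rw [h]; exact dvd_zero p)) h1
  obtain ⟨⟨h0, v0, g0, hv0, hd0, hg0, hle0⟩, ⟨h1, v1, g1, hv1, hd1, hg1, hle1⟩⟩ :=
    exists_dual_systems (p := p) hup hXp hAA hXA
  have hm : ∀ h : ℕ, ¬ p ∣ e * (h * p + 1) := fun h hd => by
    rcases hp.dvd_mul.1 hd with h' | h'
    · exact hep h'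
    · exact hp.ne_one (Nat.dvd_one.1 ((Nat.dvd_add_right (dvd_mul_left p h)).1 h'))
  have hbound0 : h0 ≤ ℓ := bound_fix hM hP hUmem hup hn0 he hep hn0r hne hgen ρ ℓ
    (DefectOneField7.Km (e * (h0 * p + 1))).toSubfield
    (fun z hz => DefectOneField7.mem_Km_of_dvd (dvd_mul_right e _) hz)
    (fun T hT hTi hTF => hroots D ρ hρ _ (hm h0) T hT hTi hTF) x hxpow
    hQsum (fun z hz => DefectOneField7.mem_Km_of_dvd (dvd_mul_left _ e) hz) v0 g0 (fun i => ⟨hfixU _ (mem_latFix.1 (hv0 i)).1, (mem_latFix.1 (hv0 i)).2⟩) hd0 hg0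
  have hbound1 : h1 ≤ ℓ := bound_ker hM hP hUmem hup hn0 he hep hn0r hne hgen ρ ℓ
    (DefectOneField7.Km (e * (h1 * p + 1))).toSubfield
    (fun z hz => DefectOneField7.mem_Km_of_dvd (dvd_mul_right e _) hz)
    (fun T hT hTi hTF => hroots D ρ hρ _ (hm h1) T hT hTi hTF) x hxpow
    (fun z hz => DefectOneField7.mem_Km_of_dvd (dvd_mul_left _ e) hz) v1 g1 (fun i => ⟨hfixU _ (mem_latKer.1 (hv1 i)).1, by
      rw [← hnorm_sum]; exact (mem_latKer.1 (hv1 i)).2⟩) hd1 hg1
  -- conclusion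
  have hp1 : (0 : ℤ) < (p : ℤ) - 1 := by have := hp.one_lt; omega
  have e0 : ((p : ℤ) - 1) * (m0 : ℤ) ≤ ((p : ℤ) - 1) * (h0 : ℤ) + mK := by
    have := (Int.ofNat_le.2 hle0)
    push_cast [Nat.cast_sub hp.one_le] at this
    exact this
  have e1 : (mK : ℤ) ≤ ((p : ℤ) - 1) * (h1 : ℤ) + ((p : ℤ) - 1) * m0 := by
    have := (Int.ofNat_le.2 hle1)
    push_cast [Nat.cast_sub hp.one_le] at this
    exact this
  have hb0 : (h0 : ℤ) ≤ ℓ := by exact_mod_cast hbound0
  have hb1 : (h1 : ℤ) ≤ ℓ := by exact_mod_cast hbound1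
  rw [abs_le]
  constructor
  · have h2 : ((p : ℤ) - 1) * (-a) ≤ ((p : ℤ) - 1) * (ℓ : ℤ) := by
      have := mul_le_mul_of_nonneg_left hb1 hp1.le
      linarith
    have := le_of_mul_le_mul_left h2 hp1
    linarith
  · have h2 : ((p : ℤ) - 1) * a ≤ ((p : ℤ) - 1) * (ℓ : ℤ) := by
      have := mul_le_mul_of_nonneg_left hb0 hp1.le
      linarith
    exact le_of_mul_le_mul_left h2 hp1

/-- The complex representation of an integral one. -/
noncomputable def complexRep {D : ℕ} (ρ : G →* Matrix (Fin D) (Fin D) ℤ) :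
    Representation ℂ G (Fin D → ℂ) where
  toFun g := Matrix.toLin' (toC (ρ g))
  map_one' := by rw [map_one, show toC (1 : Matrix (Fin D) (Fin D) ℤ) = 1 from map_one _, Matrix.toLin'_one]; rfl
  map_mul' x y := by rw [map_mul, toC_mul, Matrix.toLin'_mul]; rfl

theorem complexRep_character {D : ℕ} (ρ : G →* Matrix (Fin D) (Fin D) ℤ) (g : G) :
    (complexRep ρ).character g = (((ρ g).trace : ℤ) : ℂ) := by
  show LinearMap.trace ℂ _ (Matrix.toLin' (toC (ρ g))) = _
  rw [LinearMap.trace_eq_matrix_trace ℂ (Pi.basisFun ℂ (Fin D)),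
    LinearMap.toMatrix_eq_toMatrix', LinearMap.toMatrix'_toLin']
  simp [toC_apply, Matrix.trace]

/-- The number of constituents of the representation of a set of characters. -/
theorem constituents_complexRep {D : ℕ} (ρ : G →* Matrix (Fin D) (Fin D) ℤ)
    (S : Finset (IrrCharacter G))
    (hρ : ∀ x : G, (((ρ x).trace : ℤ) : ℂ) = ∑ ψ ∈ S, (ψ : G → ℂ) 1 * (ψ : G → ℂ) x) :
    constituents (complexRep ρ).character = ((∑ ψ ∈ S, charDegree (ψ : G → ℂ) : ℕ) : ℂ) := by
  have hchar : (complexRep ρ).character = ∑ ψ ∈ S, (ψ : G → ℂ) 1 • (ψ : G → ℂ) := by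
    funext g
    rw [complexRep_character, hρ, Finset.sum_apply]
    rfl
  rw [hchar, constituents, Nat.cast_sum]
  simp only [classInner_sum_left, classInner_smul_left]
  rw [Finset.sum_comm]
  refine Finset.sum_congr rfl fun ψ _ => ?_
  rw [Finset.sum_eq_single ψ (fun φ _ hφ => ?_) (fun h => absurd (mem_univ ψ) h),
    classInner_irr_self ψ.2, mul_one, ClassAlgebraVal.apply_one_eq_charDegree]
  rw [classInner_irr_ne ψ.2 φ.2 (fun h => hφ (Subtype.ext h.symm)), mul_zero]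

/-- Integral values on the sections of a Sylow subgroup of order `p` are at most one in absolute
value. -/
theorem abs_le_one (hP : Nat.card P = p) (χ : IrrCharacter G) (a : ℤ)
    (hval : ∀ y ∈ (P : Subgroup G), y ≠ 1 →
      ∀ k ∈ Subgroup.centralizer ((P : Subgroup G) : Set G), ¬ p ∣ orderOf k →
        (χ : G → ℂ) (y * k) = (a : ℂ)) : |a| ≤ 1 := by
  obtain ⟨M, hM⟩ := BrauerBlocksRegFun.exists_isPModular (Fact.out : p.Prime)
  set S : Finset (IrrCharacter G) := Finset.univ.filter fun ψ =>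
    ∀ y ∈ (P : Subgroup G), y ≠ 1 →
      ∀ k ∈ Subgroup.centralizer ((P : Subgroup G) : Set G), ¬ p ∣ orderOf k →
        (ψ : G → ℂ) (y * k) = (a : ℂ) with hS
  have hχS : χ ∈ S := Finset.mem_filter.2 ⟨mem_univ _, hval⟩
  have hgal : ∀ σ : ℂ ≃+* ℂ, ∀ ψ ∈ S, ∃ ψ' ∈ S, ∀ g, (ψ' : G → ℂ) g = σ ((ψ : G → ℂ) g) := by
    intro σ ψ hψ
    refine ⟨⟨_, isIrrCharacter_aut σ ψ.2⟩, Finset.mem_filter.2 ⟨mem_univ _, ?_⟩, fun g => rfl⟩
    intro y hy hy1 k hk hkr
    show σ _ = _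
    rw [(Finset.mem_filter.1 hψ).2 y hy hy1 k hk hkr, map_intCast]
  set n := ∑ ψ ∈ S, charDegree (ψ : G → ℂ) with hn
  have hn0 : 0 < n := lt_of_lt_of_le (ClassAlgebraVal.charDegree_pos χ)
    (Finset.single_le_sum (f := fun ψ : IrrCharacter G => charDegree (ψ : G → ℂ))
      (fun _ _ => Nat.zero_le _) hχS)
  have h := abs_sum_le hM hP S hgal ((n : ℤ) * a) (fun y hy hy1 k hk hkr => by
    rw [Int.cast_mul, Int.cast_natCast, hn, Nat.cast_sum, Finset.sum_mul]
    refine Finset.sum_congr rfl fun ψ hψ => ?_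
    rw [(Finset.mem_filter.1 hψ).2 y hy hy1 k hk hkr, ClassAlgebraVal.apply_one_eq_charDegree]) n
    (fun D ρ hρ m _ T hT _ _ => by
      obtain ⟨l, hl, hev, hprod⟩ := exists_roots n (complexRep ρ)
        (constituents_complexRep ρ S hρ) (Matrix.toLin' T) (fun g v => by
          show Matrix.toLin' T (Matrix.toLin' (toC (ρ g)) v) =
            Matrix.toLin' (toC (ρ g)) (Matrix.toLin' T v)
          simp only [Matrix.toLin'_apply, mulVec_mulVec, hT g])
      exact ⟨l, l.toFinset, (List.toFinset_card_le l).trans hl, hev, hprod,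
        fun μ hμ _ => ⟨μ, List.mem_toFinset.2 hμ, by rw [sub_self]; exact sm_zero⟩⟩)
  rw [abs_mul, Nat.abs_cast] at h
  have hn' : (0 : ℤ) < n := Int.natCast_pos.2 hn0
  exact le_of_mul_le_mul_left (by rwa [mul_one]) hn'

end Cfsg.Agent.DefectOneSign7
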