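import Cfsg.Agent.Lib.BrauerBlocksTrace

/-!
# Counting eigenvalues of relative traces modulo a prime

`ρ` is a representation by locally integral matrices.  A relative trace from the normalizer of a
group of order `p` commutes with `ρ`; modulo the image of `Φ` it agrees with the endomorphism it
comes from, so that the latter cannot have more distinct eigenvalues than the former.
-/

set_option autoImplicit false

open Matrix Finset

namespace Cfsg.Agent.DefectOneSign7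

open Cfsg Cfsg.Agent.BrauerBlocksVal Cfsg.Agent.BrauerBlocksTrace

variable {ι : Type*} [Fintype ι] [DecidableEq ι] {M : Ideal AlgInt}

/-- All coordinates are local integers. -/
def IntV (M : Ideal AlgInt) (v : ι → ℂ) : Prop := ∀ i, Int' M (v i)

/-- All coordinates are small. -/
def SmV (M : Ideal AlgInt) (v : ι → ℂ) : Prop := ∀ i, Sm M (v i)

/-- Congruent to zero modulo the image of `Φ`. -/
def InT (M : Ideal AlgInt) (Φ : Matrix ι ι ℂ) (v : ι → ℂ) : Prop :=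
  ∃ w, IntV M w ∧ SmV M (v - Φ *ᵥ w)

/-- The row is divisible by `p` on the image of `Φ`. -/
def Good (M : Ideal AlgInt) (p : ℕ) (Φ : Matrix ι ι ℂ) (f : ι → ℂ) : Prop :=
  ∀ i, Int' M ((f ᵥ* Φ) i / p)

omit [DecidableEq ι] in
theorem IntV.mulVec {A : Matrix ι ι ℂ} (hA : IntM M A) {v : ι → ℂ} (hv : IntV M v) :
    IntV M (A *ᵥ v) :=
  fun i => int'_sum _ fun k _ => (hA i k).mul (hv k)

omit [DecidableEq ι] in
theorem IntV.vecMul {A : Matrix ι ι ℂ} (hA : IntM M A) {v : ι → ℂ} (hv : IntV M v) :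
    IntV M (v ᵥ* A) :=
  fun i => int'_sum _ fun k _ => (hv k).mul (hA k i)

omit [DecidableEq ι] in
theorem SmV.mulVec {A : Matrix ι ι ℂ} (hA : IntM M A) {v : ι → ℂ} (hv : SmV M v) :
    SmV M (A *ᵥ v) :=
  fun i => sm_sum _ fun k _ => (hv k).mul_left (hA i k)

omit [DecidableEq ι] in
theorem int'_dot {f v : ι → ℂ} (hf : IntV M f) (hv : IntV M v) : Int' M (f ⬝ᵥ v) :=
  int'_sum _ fun k _ => (hf k).mul (hv k)

omit [DecidableEq ι] in
theorem sm_dot {f v : ι → ℂ} (hf : IntV M f) (hv : SmV M v) : Sm M (f ⬝ᵥ v) :=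
  sm_sum _ fun k _ => (hv k).mul_left (hf k)

omit [DecidableEq ι] in
theorem InT.add {Φ : Matrix ι ι ℂ} {v w : ι → ℂ} (hv : InT M Φ v) (hw : InT M Φ w) :
    InT M Φ (v + w) := by
  obtain ⟨a, ha, ha'⟩ := hv
  obtain ⟨b, hb, hb'⟩ := hw
  refine ⟨a + b, fun i => (ha i).add (hb i), fun i => ?_⟩
  have := (ha' i).add (hb' i)
  simp only [mulVec_add, Pi.sub_apply, Pi.add_apply] at this ⊢
  rwa [show v i + w i - ((Φ *ᵥ a) i + (Φ *ᵥ b) i) =
    v i - (Φ *ᵥ a) i + (w i - (Φ *ᵥ b) i) by ring]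

omit [DecidableEq ι] in
theorem InT.smul {Φ : Matrix ι ι ℂ} {v : ι → ℂ} (hv : InT M Φ v) {c : ℂ} (hc : Int' M c) :
    InT M Φ (c • v) := by
  obtain ⟨a, ha, ha'⟩ := hv
  refine ⟨c • a, fun i => hc.mul (ha i), fun i => ?_⟩
  have := (ha' i).mul_left hc
  simpa [mulVec_smul, mul_sub] using this

omit [DecidableEq ι] in
theorem inT_zero {Φ : Matrix ι ι ℂ} : InT M Φ (0 : ι → ℂ) :=
  ⟨0, fun _ => int'_zero, fun i => by simpa using sm_zero⟩

omit [DecidableEq ι] in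
theorem inT_sum {κ : Type*} (s : Finset κ) {Φ : Matrix ι ι ℂ} {f : κ → ι → ℂ}
    (h : ∀ k ∈ s, InT M Φ (f k)) : InT M Φ (∑ k ∈ s, f k) :=
  Finset.sum_induction _ (InT M Φ) (fun _ _ => InT.add) inT_zero h

omit [DecidableEq ι] in
theorem inT_of_mulVec {Φ : Matrix ι ι ℂ} {w : ι → ℂ} (hw : IntV M w) : InT M Φ (Φ *ᵥ w) :=
  ⟨w, hw, fun i => by simpa using sm_zero⟩

omit [DecidableEq ι] in
theorem InT.mulVec {Φ A Y : Matrix ι ι ℂ} (hA : IntM M A) (hY : IntM M Y)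
    (h : A * Φ = Φ * Y) {v : ι → ℂ} (hv : InT M Φ v) : InT M Φ (A *ᵥ v) := by
  obtain ⟨a, ha, ha'⟩ := hv
  refine ⟨Y *ᵥ a, ha.mulVec hY, fun i => ?_⟩
  have := SmV.mulVec hA ha' i
  rwa [mulVec_sub, mulVec_mulVec, h, ← mulVec_mulVec] at this

variable {p : ℕ}

omit [DecidableEq ι] in
theorem Good.dot (hM : IsPModular p M) {Φ : Matrix ι ι ℂ} {f : ι → ℂ} (hf : Good M p Φ f)
    (hfi : IntV M f) {v : ι → ℂ} (hv : InT M Φ v) : Sm M (f ⬝ᵥ v) := by
  obtain ⟨a, ha, ha'⟩ := hv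
  have h1 : f ⬝ᵥ v = f ⬝ᵥ (v - Φ *ᵥ a) + (p : ℂ) * ∑ i, (f ᵥ* Φ) i / p * a i := by
    have hp : (p : ℂ) ≠ 0 := Nat.cast_ne_zero.2 hM.1.ne_zero
    rw [dotProduct_sub, dotProduct_mulVec, Finset.mul_sum]
    have : (f ᵥ* Φ) ⬝ᵥ a = ∑ i, (p : ℂ) * ((f ᵥ* Φ) i / p * a i) :=
      Finset.sum_congr rfl fun i _ => by rw [← mul_assoc, mul_div_cancel₀ _ hp]
    rw [← this]
    ring
  rw [h1]
  exact (sm_dot hfi ha').add ((sm_p hM).mul_right (int'_sum _ fun i _ => (hf i).mul (ha i)))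

omit [DecidableEq ι] in
theorem Good.vecMul {Φ A Y : Matrix ι ι ℂ} (hY : IntM M Y) (h : A * Φ = Φ * Y) {f : ι → ℂ}
    (hf : Good M p Φ f) : Good M p Φ (f ᵥ* A) := by
  intro i
  rw [vecMul_vecMul, h, ← vecMul_vecMul]
  have : ((f ᵥ* Φ) ᵥ* Y) i / p = ∑ k, (f ᵥ* Φ) k / p * Y k i := by
    show (∑ k, (f ᵥ* Φ) k * Y k i) / p = _
    rw [Finset.sum_div]
    exact Finset.sum_congr rfl fun k _ => by ring
  rw [this]
  exact int'_sum _ fun k _ => (hf k).mul (hY k i)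

omit [DecidableEq ι] in
theorem Good.sum {κ : Type*} (s : Finset κ) {Φ : Matrix ι ι ℂ} {f : κ → ι → ℂ} {c : κ → ℂ}
    (hc : ∀ k ∈ s, Int' M (c k)) (h : ∀ k ∈ s, Good M p Φ (f k)) :
    Good M p Φ (∑ k ∈ s, c k • f k) := by
  intro i
  rw [sum_vecMul, Finset.sum_apply, Finset.sum_div]
  refine int'_sum _ fun k hk => ?_
  rw [smul_vecMul, Pi.smul_apply, smul_eq_mul, mul_div_assoc]
  exact (hc k hk).mul (h k hk i)

/-- An eigenvalue of an integral matrix is integral. -/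
theorem int'_eigenvalue {A : Matrix ι ι ℂ} (hA : IntM M A) {μ : ℂ}
    (h : Module.End.HasEigenvalue (Matrix.toLin' A) μ) : Int' M μ := by
  obtain ⟨v, hv⟩ := h.exists_hasEigenvector
  have hAv : A *ᵥ v = μ • v := by simpa [Matrix.toLin'_apply] using hv.apply_eq_smul
  obtain ⟨k, hk⟩ : ∃ k, v k ≠ 0 := Function.ne_iff.1 hv.2
  obtain ⟨i, -, hi⟩ := exists_max_image univ (fun j => (vs M).valuation (v j)) ⟨k, mem_univ k⟩
  have hvi : v i ≠ 0 := by
    intro h0
    have h1 := hi k (mem_univ k)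
    rw [h0, map_zero, le_zero_iff, map_eq_zero] at h1
    exact hk h1
  have h2 : μ = ∑ j, A i j * (v j / v i) := by
    have := congrFun hAv i
    rw [Pi.smul_apply, smul_eq_mul] at this
    rw [← mul_div_cancel_right₀ μ hvi, ← this]
    show (∑ j, A i j * v j) / v i = _
    rw [Finset.sum_div]
    exact Finset.sum_congr rfl fun j _ => by ring
  rw [h2]
  refine int'_sum _ fun j _ => (hA i j).mul ?_
  rw [int'_iff, map_div₀]
  exact div_le_one_of_le₀ (hi j (mem_univ j)) zero_le'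

/-- The number of incongruent eigenvalues modulo the image of `Φ`. -/
theorem card_le_of_eigen (hM : IsPModular p M) {h : ℕ} {Φ : Matrix ι ι ℂ} {T : Matrix ι ι ℂ}
    (hT : IntM M T) (hTΦ : T * Φ = Φ * T) (v f : Fin h → ι → ℂ) (c : Fin h → ℂ)
    (hv : ∀ j, IntV M (v j)) (hf : ∀ j, IntV M (f j)) (hg : ∀ j, Good M p Φ (f j))
    (hd : ∀ j, f j ⬝ᵥ v j = 1) (hc : ∀ j, Int' M (c j))
    (hcc : ∀ i j, Sm M (c i - c j) → i = j) (heq : ∀ j, InT M Φ (T *ᵥ v j - c j • v j))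
    (l : List ℂ) (hl : ∀ μ ∈ l, Module.End.HasEigenvalue (Matrix.toLin' T) μ)
    (hprod : (l.map fun μ => Matrix.toLin' T - μ • (1 : Module.End ℂ (ι → ℂ))).prod = 0)
    (R : Finset ℂ) (hcu : ∀ j, ¬ Sm M (c j))
    (hR : ∀ μ ∈ l, ¬ Sm M μ → ∃ ν ∈ R, Sm M (μ - ν)) :
    h ≤ R.card := by
  classical
  have key : ∀ (m : List ℂ), (∀ μ ∈ m, Int' M μ) → ∀ j, InT M Φ
      ((m.map fun μ => Matrix.toLin' T - μ • (1 : Module.End ℂ (ι → ℂ))).prod (v j) -
        (m.map fun μ => c j - μ).prod • v j) ∧ Int' M ((m.map fun μ => c j - μ).prod) := by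
    intro m
    induction m with
    | nil => intro _ j; exact ⟨by simpa using inT_zero, by simpa using int'_one⟩
    | cons μ m ih =>
      intro hm j
      obtain ⟨h1, h2⟩ := ih (fun ν hν => hm ν (List.mem_cons_of_mem μ hν)) j
      have hμ : Int' M μ := hm μ (List.mem_cons_self)
      refine ⟨?_, by rw [List.map_cons, List.prod_cons]; exact ((hc j).sub hμ).mul h2⟩
      set w := (m.map fun μ => Matrix.toLin' T - μ • (1 : Module.End ℂ (ι → ℂ))).prod (v j)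
      set q := (m.map fun μ => c j - μ).prod
      have e : ((μ :: m).map fun μ => Matrix.toLin' T - μ • (1 : Module.End ℂ (ι → ℂ))).prod (v j) -
          ((μ :: m).map fun μ => c j - μ).prod • v j =
          T *ᵥ (w - q • v j) + (-μ) • (w - q • v j) + q • (T *ᵥ v j - c j • v j) := by
        rw [List.map_cons, List.prod_cons, List.map_cons, List.prod_cons, Module.End.mul_apply,
          LinearMap.sub_apply, Matrix.toLin'_apply, LinearMap.smul_apply, Module.End.one_apply,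
          mulVec_sub, mulVec_smul]
        funext i
        simp only [Pi.sub_apply, Pi.add_apply, Pi.smul_apply, smul_eq_mul]
        ring
      rw [e]
      exact ((h1.mulVec hT hT hTΦ).add (h1.smul hμ.neg)).add ((heq j).smul h2)
  have hlint : ∀ μ ∈ l, Int' M μ := fun μ hμ => int'_eigenvalue hT (hl μ hμ)
  have hex : ∀ j, ∃ i : Fin l.length, Sm M (c j - l.get i) := by
    intro j
    obtain ⟨h1, -⟩ := key l hlint j
    have h2 := (hg j).dot hM (hf j) h1
    rw [hprod, LinearMap.zero_apply, zero_sub, dotProduct_neg, dotProduct_smul, hd,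
      smul_eq_mul, mul_one, sm_neg_iff] at h2
    have h3 : (l.map fun μ => c j - μ).prod = ∏ i : Fin l.length, (c j - l.get i) := by
      rw [← List.prod_ofFn]
      congr 1
      rw [← List.ofFn_get (l.map fun μ => c j - μ)]
      refine List.ext_getElem (by simp) fun i h1 h2 => by simp
    rw [h3] at h2
    obtain ⟨i, -, hi⟩ := sm_prod_of_mem _ h2
    exact ⟨i, hi⟩
  have hex' : ∀ j, ∃ ν : R, Sm M (c j - ν) := by
    intro j
    obtain ⟨i, hi⟩ := hex j
    obtain ⟨ν, hν, hν'⟩ := hR (l.get i) (List.get_mem l i)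
      (fun h0 => hcu j ((sm_iff_of_sub hi).2 h0))
    exact ⟨⟨ν, hν⟩, hi.trans hν'⟩
  choose F hF using hex'
  have hinj : Function.Injective F := by
    intro i j hij
    refine hcc i j ?_
    have h1 := hF j
    rw [← hij] at h1
    simpa using (hF i).sub h1
  simpa using Fintype.card_le_of_injective F hinj

variable {G : Type*} [Group G] [Fintype G]

/-- The relative trace from `C` of the rank one map `w ↦ (f ⬝ᵥ w) • v`, divided by `|C|`. -/
noncomputable def avg (ρ : G →* Matrix ι ι ℂ) (C : Subgroup G) [Fintype C] (v f : ι → ℂ) :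
    Matrix ι ι ℂ :=
  (Fintype.card C : ℂ)⁻¹ • ∑ c : C, ρ c * vecMulVec v f * ρ (c : G)⁻¹

omit [Fintype G] in
theorem avg_mulVec (ρ : G →* Matrix ι ι ℂ) (C : Subgroup G) [Fintype C] (v f w : ι → ℂ) :
    avg ρ C v f *ᵥ w =
      (Fintype.card C : ℂ)⁻¹ • ∑ c : C, (f ⬝ᵥ (ρ (c : G)⁻¹ *ᵥ w)) • (ρ c *ᵥ v) := by
  rw [avg, smul_mulVec, sum_mulVec]
  congr 1
  refine Finset.sum_congr rfl fun c _ => ?_
  rw [← mulVec_mulVec, ← mulVec_mulVec]
  have : vecMulVec v f *ᵥ (ρ (c : G)⁻¹ *ᵥ w) = (f ⬝ᵥ (ρ (c : G)⁻¹ *ᵥ w)) • v := by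
    rw [vecMulVec_mulVec]
    funext i
    simp [mul_comm]
  rw [this, mulVec_smul]

omit [Fintype G] in
theorem avg_comm (ρ : G →* Matrix ι ι ℂ) (C : Subgroup G) [Fintype C] (v f : ι → ℂ) {d : G}
    (hd : d ∈ C) : ρ d * avg ρ C v f = avg ρ C v f * ρ d := by
  rw [avg, Matrix.mul_smul, Matrix.smul_mul, Finset.mul_sum, Finset.sum_mul]
  congr 1
  refine Fintype.sum_equiv (Equiv.mulLeft (⟨d, hd⟩ : C)) _ _ fun c => ?_
  have h1 : ρ d⁻¹ * ρ d = 1 := by rw [← map_mul, inv_mul_cancel, map_one]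
  simp only [Equiv.coe_mulLeft, Subgroup.coe_mul, _root_.mul_inv_rev, map_mul, Matrix.mul_assoc, h1,
    Matrix.mul_one]

/-- The average over a cyclic extension. -/
theorem avg_cyclic_comm (ρ : G →* Matrix ι ι ℂ) {n : G} {e : ℕ} (he : 0 < e) (A : Matrix ι ι ℂ)
    (hA : ρ (n ^ e) * A = A * ρ (n ^ e)) :
    ρ n * (∑ i ∈ range e, ρ (n ^ i) * A * ρ (n ^ i)⁻¹) =
      (∑ i ∈ range e, ρ (n ^ i) * A * ρ (n ^ i)⁻¹) * ρ n := by
  obtain ⟨d, rfl⟩ := Nat.exists_eq_succ_of_ne_zero he.ne'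
  set F : ℕ → Matrix ι ι ℂ := fun i => ρ (n ^ i) * A * ρ (n ^ i)⁻¹ with hF
  have hstep : ∀ i, ρ n * F i * ρ n⁻¹ = F (i + 1) := by
    intro i
    simp only [hF, pow_succ' n i, map_mul, _root_.mul_inv_rev, Matrix.mul_assoc]
  have hlast : F (d + 1) = F 0 := by
    simp only [hF, pow_zero, inv_one, map_one, Matrix.mul_one, Matrix.one_mul]
    rw [hA, Matrix.mul_assoc, ← map_mul, mul_inv_cancel, map_one, Matrix.mul_one]
  have h1 : ρ n * (∑ i ∈ range (d + 1), F i) * ρ n⁻¹ = ∑ i ∈ range (d + 1), F i := by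
    rw [Finset.mul_sum, Finset.sum_mul, Finset.sum_congr rfl fun i _ => hstep i,
      Finset.sum_range_succ' F d, Finset.sum_range_succ (fun i => F (i + 1)) d, hlast]
  calc ρ n * (∑ i ∈ range (d + 1), F i)
      = ρ n * (∑ i ∈ range (d + 1), F i) * ρ n⁻¹ * ρ n := by
        rw [Matrix.mul_assoc _ (ρ n⁻¹), ← map_mul, inv_mul_cancel, map_one, Matrix.mul_one]
    _ = _ := by rw [h1]

end Cfsg.Agent.DefectOneSign7
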