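import Cfsg.Agent.Lib.GaloisChar80
import Cfsg.Agent.Lib.CharBasicInt
import Cfsg.Agent.Lib.ClassAlgebraVal

/-!
# An integral representation attached to a rational set of irreducible characters

If a set of irreducible characters is stable under the field automorphisms of `ℂ`, the sum
`∑ ψ(1) ψ` over it is the character of a representation by integer matrices.  Also: in a complex
representation whose character is a sum of `n` irreducible characters every commuting
endomorphism is killed by a product of at most `n` linear factors.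
-/

set_option autoImplicit false

open scoped ComplexConjugate Cardinal

namespace Cfsg.Agent.DefectOneSign7

open Cfsg Cfsg.Agent.CharBasic Cfsg.Agent.CharBasicDecomp Cfsg.Agent.CharBasicOrth

universe u

/-- An algebraic number fixed by all field automorphisms of `ℂ` is rational. -/
theorem exists_rat_of_fixed {z : ℂ} (hz : IsAlgebraic ℚ z) (h : ∀ σ : ℂ ≃+* ℂ, σ z = z) :
    ∃ q : ℚ, (q : ℂ) = z := by
  let L := algebraicClosure ℚ ℂ
  haveI : IsAlgClosure ℚ L := algebraicClosure.isAlgClosure ℚ ℂ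
  haveI : IsAlgClosed L := IsAlgClosure.isAlgClosed ℚ
  haveI : Normal ℚ L := IsAlgClosure.normal ℚ L
  let zL : L := ⟨z, mem_algebraicClosure_iff.2 hz⟩
  have hint : IsIntegral ℚ zL := Algebra.IsIntegral.isIntegral zL
  by_contra hne
  push Not at hne
  have hnd : zL ∉ (⊥ : IntermediateField ℚ L) := by
    intro hb
    obtain ⟨q, hq⟩ := IntermediateField.mem_bot.1 hb
    exact hne q (by simpa [zL] using congrArg Subtype.val hq)
  obtain ⟨y, hy, hyz⟩ : ∃ y : L, Polynomial.aeval y (minpoly ℚ zL) = 0 ∧ y ≠ zL := by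
    by_contra hall
    push Not at hall
    have hsep : (minpoly ℚ zL).Separable := (minpoly.irreducible hint).separable
    have hcard := Polynomial.card_rootSet_eq_natDegree (K := L) hsep
      (IsAlgClosed.splits _)
    have hsub : (minpoly ℚ zL).rootSet L ⊆ {zL} := by
      intro y hy
      exact hall y (Polynomial.mem_rootSet.1 hy).2
    have hle : Fintype.card ((minpoly ℚ zL).rootSet L) ≤ 1 :=
      Fintype.card_le_one_iff.2 fun a b => Subtype.ext ((hsub a.2).trans (hsub b.2).symm)
    rw [hcard] at hle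
    have hd : (minpoly ℚ zL).natDegree = 1 := le_antisymm hle (minpoly.natDegree_pos hint)
    exact hnd (IntermediateField.mem_bot.2 (by
      simpa using minpoly.natDegree_eq_one_iff.1 hd))
  obtain ⟨σ0, hσ0⟩ := minpoly.exists_algEquiv_of_root' (Algebra.IsAlgebraic.isAlgebraic zL) hy
  have hR : #L ≤ ℵ₀ :=
    (Algebra.IsAlgebraic.cardinalMk_le_max ℚ L).trans (max_le (Cardinal.mk_le_aleph0) le_rfl)
  have hC : ℵ₀ < #ℂ := by rw [Cardinal.mk_complex]; exact Cardinal.aleph0_lt_continuum
  let j : L →+* ℂ := algebraMap L ℂ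
  have key : ∃ f : ℂ ≃+* ℂ, ∀ r : L, f (j r) = j (σ0 r) :=
    @GaloisChar80.exists_extend L _ _ hR ℂ ℂ _ _ _ _ _
      (j.comp σ0.toRingEquiv.toRingHom).toAlgebra hC rfl
  obtain ⟨f, hf⟩ := key
  have h1 : f (j zL) = j zL := h f
  rw [hf] at h1
  exact hyz (by rw [← hσ0]; exact j.injective h1)

variable {G : Type u} [Group G] [Fintype G]

/-- A field automorphism maps characters to characters. -/
theorem isCharacter_aut (σ : ℂ ≃+* ℂ) {χ : G → ℂ} (hχ : IsCharacter G χ) :
    IsCharacter G (fun g => σ (χ g)) := by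
  obtain ⟨n, ρ, rfl⟩ := hχ
  refine ⟨n, ⟨⟨fun g => Matrix.toLin' ((LinearMap.toMatrix' (ρ g)).map σ), ?_⟩, ?_⟩, ?_⟩
  · have h1 : ρ 1 = LinearMap.id := map_one ρ
    rw [h1, LinearMap.toMatrix'_id, Matrix.map_one _ (map_zero σ) (map_one σ), Matrix.toLin'_one]
    rfl
  · intro a b
    show Matrix.toLin' _ = Matrix.toLin' _ * Matrix.toLin' _
    rw [map_mul, LinearMap.toMatrix'_mul, Matrix.map_mul, Matrix.toLin'_mul]
    rfl
  · funext g
    show LinearMap.trace ℂ _ (Matrix.toLin' ((LinearMap.toMatrix' (ρ g)).map σ)) =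
      σ (LinearMap.trace ℂ _ (ρ g))
    rw [LinearMap.trace_eq_matrix_trace ℂ (Pi.basisFun ℂ (Fin n)),
      LinearMap.trace_eq_matrix_trace ℂ (Pi.basisFun ℂ (Fin n)) (ρ g)]
    simp [Matrix.trace, LinearMap.toMatrix'_toLin', LinearMap.toMatrix_eq_toMatrix', map_sum]

theorem isIrrCharacter_aut (σ : ℂ ≃+* ℂ) {χ : G → ℂ} (hχ : IsIrrCharacter G χ) :
    IsIrrCharacter G (fun g => σ (χ g)) := by
  have hc := isCharacter_of_isIrrCharacter hχ
  have hc' := isCharacter_aut σ hc
  rw [isIrrCharacter_iff]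
  refine ⟨hc', ?_⟩
  have h1 := classInner_irr_self hχ
  simp only [classInner, ← isCharacter_inv hc] at h1
  simp only [classInner, ← isCharacter_inv hc']
  have h2 := congrArg σ h1
  simpa [map_sum, map_inv₀] using h2

/-- The convolution of two irreducible characters. -/
theorem sum_irr_conv (ψ φ : IrrCharacter G) [Decidable (ψ = φ)] (a : G) :
    ∑ k : G, (ψ : G → ℂ) (a * k⁻¹) * (φ : G → ℂ) k =
      if ψ = φ then (Nat.card G : ℂ) * (ψ : G → ℂ) a / (ψ : G → ℂ) 1 else 0 := by
  obtain ⟨n, ρ, hρ, hψ⟩ := ψ.2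
  have hφ := isCharacter_of_isIrrCharacter φ.2
  have hcl : IsClassFunction G (fun k => (φ : G → ℂ) k⁻¹) := fun g h => by
    have h1 : (h * g * h⁻¹)⁻¹ = h * g⁻¹ * h⁻¹ := by simp [mul_assoc]
    simp only [h1, isClassFunction_of_isCharacter hφ g⁻¹ h]
  have h0 := CharBasicInt.sum_smul_rep_eq ρ hcl
  have h1 : (∑ g : G, (φ : G → ℂ) g⁻¹ * ρ.character g) =
      if ψ = φ then (Nat.card G : ℂ) else 0 := by
    rw [hψ]
    have h2 := classInner_irr (ψ : G → ℂ) (φ : G → ℂ)
    have h3 := card_mul_classInner (ψ : G → ℂ) (φ : G → ℂ)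
    split_ifs with he
    · subst he
      rw [classInner_irr_self ψ.2, mul_one] at h3
      rw [h3]
      exact Finset.sum_congr rfl fun g _ => by rw [isCharacter_inv hφ, mul_comm]
    · rw [classInner_irr_ne ψ.2 φ.2 (fun e => he (Subtype.ext e)), mul_zero] at h3
      rw [h3]
      exact Finset.sum_congr rfl fun g _ => by rw [isCharacter_inv hφ, mul_comm]
  rw [h1] at h0
  have h2 : ∑ k : G, (ψ : G → ℂ) (a * k⁻¹) * (φ : G → ℂ) k =
      LinearMap.trace ℂ _ (ρ a * ∑ g : G, (φ : G → ℂ) g⁻¹ • ρ g) := by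
    rw [Finset.mul_sum, map_sum]
    refine Fintype.sum_equiv (Equiv.inv G) _ _ fun k => ?_
    rw [mul_smul_comm, map_smul, ← map_mul, Equiv.inv_apply, inv_inv, smul_eq_mul, ← hψ]
    exact mul_comm _ _
  rw [h2, h0, ← Module.End.one_eq_id, mul_smul_comm, mul_one, map_smul, smul_eq_mul, ← hψ,
    Representation.char_one]
  split_ifs
  · simp only [Representation.character]; ring
  · simp

/-- A representation by integer matrices with character `∑ ψ(1) ψ`, for a set of irreducible
characters stable under the automorphisms of `ℂ`. -/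
theorem exists_intRep (S : Finset (IrrCharacter G))
    (hS : ∀ σ : ℂ ≃+* ℂ, ∀ ψ ∈ S, ∃ ψ' ∈ S, ∀ g, (ψ' : G → ℂ) g = σ ((ψ : G → ℂ) g)) :
    ∃ (D : ℕ) (ρ : G →* Matrix (Fin D) (Fin D) ℤ), ∀ x : G,
      (((ρ x).trace : ℤ) : ℂ) = ∑ ψ ∈ S, (ψ : G → ℂ) 1 * (ψ : G → ℂ) x := by
  classical
  set c : G → ℂ := fun x => ∑ ψ ∈ S, (ψ : G → ℂ) 1 * (ψ : G → ℂ) x with hc
  -- the values are rational integers
  have hint : ∀ x, IsIntegral ℤ (c x) := fun x => IsIntegral.sum _ fun ψ _ =>
    (isCharacter_integral (isCharacter_of_isIrrCharacter ψ.2) 1).mul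
      (isCharacter_integral (isCharacter_of_isIrrCharacter ψ.2) x)
  have hfix : ∀ (σ : ℂ ≃+* ℂ) (x : G), σ (c x) = c x := by
    intro σ x
    choose f hfS hf using hS σ
    rw [hc]
    simp only [map_sum, map_mul]
    refine Finset.sum_bij (fun ψ hψ => f ψ hψ) (fun ψ hψ => hfS ψ hψ) ?_ ?_ ?_
    · intro a ha b hb hab
      refine Subtype.ext (funext fun g => σ.injective ?_)
      rw [← hf a ha g, ← hf b hb g, hab]
    · intro b hb
      have hinj : ∀ a : {ψ // ψ ∈ S}, ∀ a' : {ψ // ψ ∈ S},
          (⟨f a.1 a.2, hfS a.1 a.2⟩ : {ψ // ψ ∈ S}) = ⟨f a'.1 a'.2, hfS a'.1 a'.2⟩ → a = a' := by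
        intro a a' h
        refine Subtype.ext (Subtype.ext (funext fun g => σ.injective ?_))
        have h' : f a.1 a.2 = f a'.1 a'.2 := congrArg Subtype.val h
        rw [← hf a.1 a.2 g, ← hf a'.1 a'.2 g, h']
      obtain ⟨⟨a, ha⟩, he⟩ := (Finite.injective_iff_surjective (f := fun a : {ψ // ψ ∈ S} =>
        (⟨f a.1 a.2, hfS a.1 a.2⟩ : {ψ // ψ ∈ S}))).1 (fun a a' => hinj a a') ⟨b, hb⟩
      exact ⟨a, ha, congrArg Subtype.val he⟩
    · intro ψ hψ
      rw [hf ψ hψ 1, hf ψ hψ x]
  have hz : ∀ x, ∃ m : ℤ, (m : ℂ) = c x := by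
    intro x
    obtain ⟨q, hq⟩ := exists_rat_of_fixed ((hint x).tower_top (A := ℚ)).isAlgebraic
      (fun σ => hfix σ x)
    have h1 : IsIntegral ℤ q := by
      have := hint x
      rw [← hq] at this
      exact (isIntegral_algebraMap_iff (R := ℤ) (A := ℚ) (B := ℂ)
        (algebraMap ℚ ℂ).injective).1 (by simpa using this)
    obtain ⟨m, hm⟩ := IsIntegrallyClosed.isIntegral_iff.1 h1
    exact ⟨m, by rw [← hq, ← hm]; simp⟩
  choose cz hcz using hz
  have hcl : ∀ g h : G, cz (h * g * h⁻¹) = cz g := by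
    intro g h
    refine Int.cast_injective (α := ℂ) ?_
    rw [hcz, hcz, hc]
    exact Finset.sum_congr rfl fun ψ _ => by rw [irr_classFun_aux ψ g h]
  have hconv : ∀ a : G, ∑ k : G, cz (a * k⁻¹) * cz k = (Nat.card G : ℤ) * cz a := by
    intro a
    refine Int.cast_injective (α := ℂ) ?_
    push_cast
    simp only [hcz, hc, Finset.sum_mul, Finset.mul_sum]
    rw [Finset.sum_comm]
    refine Finset.sum_congr rfl fun ψ hψ => ?_
    rw [Finset.sum_comm]
    calc ∑ φ ∈ S, ∑ k : G,
          (φ : G → ℂ) 1 * (φ : G → ℂ) (a * k⁻¹) * ((ψ : G → ℂ) 1 * (ψ : G → ℂ) k)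
        = ∑ φ ∈ S, (φ : G → ℂ) 1 * (ψ : G → ℂ) 1 *
            ∑ k : G, (φ : G → ℂ) (a * k⁻¹) * (ψ : G → ℂ) k := by
          refine Finset.sum_congr rfl fun φ _ => ?_
          rw [Finset.mul_sum]
          exact Finset.sum_congr rfl fun k _ => by ring
      _ = ∑ φ ∈ S, if φ = ψ then (Nat.card G : ℂ) * ((ψ : G → ℂ) 1 * (ψ : G → ℂ) a) else 0 := by
          refine Finset.sum_congr rfl fun φ _ => ?_
          rw [sum_irr_conv]
          split_ifs with he
          · subst he
            field_simp [isIrrCharacter_apply_one_ne_zero φ.2]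
          · simp
      _ = _ := by rw [Finset.sum_ite_eq', if_pos hψ]
  -- the operator
  let F : (G → ℤ) →ₗ[ℤ] (G → ℤ) :=
    { toFun := fun v g => ∑ h : G, cz (g * h⁻¹) * v h
      map_add' := fun v w => funext fun g => by
        simp [mul_add, Finset.sum_add_distrib]
      map_smul' := fun r v => funext fun g => by
        simp only [Pi.smul_apply, smul_eq_mul, RingHom.id_apply, Finset.mul_sum]
        exact Finset.sum_congr rfl fun h _ => by ring }
  let T : G →* Module.End ℤ (G → ℤ) :=
    { toFun := fun x =>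
        { toFun := fun v g => v (x⁻¹ * g)
          map_add' := fun v w => rfl
          map_smul' := fun r v => rfl }
      map_one' := by ext v g; simp
      map_mul' := fun a b => by ext v g; simp [mul_assoc] }
  have hTF : ∀ x v, T x (F v) = F (T x v) := by
    intro x v
    funext g
    show ∑ h : G, cz (x⁻¹ * g * h⁻¹) * v h = ∑ h : G, cz (g * h⁻¹) * v (x⁻¹ * h)
    refine Fintype.sum_equiv (Equiv.mulLeft x) _ _ fun h => ?_
    rw [Equiv.coe_mulLeft, inv_mul_cancel_left]
    congr 1
    rw [← hcl (x⁻¹ * g * h⁻¹) x]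
    congr 1
    group
  have hFF : ∀ v, F (F v) = (Nat.card G : ℤ) • F v := by
    intro v
    funext g
    show ∑ h : G, cz (g * h⁻¹) * (∑ k : G, cz (h * k⁻¹) * v k) =
      (Nat.card G : ℤ) * ∑ k : G, cz (g * k⁻¹) * v k
    simp only [Finset.mul_sum]
    rw [Finset.sum_comm]
    refine Finset.sum_congr rfl fun k _ => ?_
    rw [← mul_assoc, ← hconv (g * k⁻¹), Finset.sum_mul]
    refine Fintype.sum_equiv (Equiv.mulRight k⁻¹) _ _ fun h => ?_
    rw [Equiv.coe_mulRight, mul_assoc]
    congr 2
    group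
  set L := LinearMap.range F with hL
  have hTL : ∀ x, ∀ v ∈ L, T x v ∈ L := by
    rintro x _ ⟨w, rfl⟩
    exact ⟨T x w, (hTF x w).symm⟩
  let R : G →* Module.End ℤ L :=
    { toFun := fun x => (T x).restrict (hTL x)
      map_one' := by ext v; simp
      map_mul' := fun a b => by ext v; simp }
  let b := Module.Free.chooseBasis ℤ L
  let b' := b.reindex (Fintype.equivFin _)
  refine ⟨_, ((LinearMap.toMatrixAlgEquiv b').toMulEquiv.toMonoidHom).comp R, fun x => ?_⟩
  have htr : ((LinearMap.toMatrixAlgEquiv b' (R x)).trace : ℤ) = LinearMap.trace ℤ L (R x) :=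
    (LinearMap.trace_eq_matrix_trace ℤ b' (R x)).symm
  have h1 : LinearMap.trace ℤ (G → ℤ) ((T x).comp F) =
      (Nat.card G : ℤ) * LinearMap.trace ℤ L (R x) := by
    have hmem : ∀ v, ((T x).comp F) v ∈ L := fun v => hTL x _ ⟨v, rfl⟩
    rw [← LinearMap.trace_restrict_eq_of_forall_mem L _ hmem, ← smul_eq_mul, ← map_smul]
    congr 1
    refine LinearMap.ext fun v => Subtype.ext ?_
    obtain ⟨w, hw⟩ := v.2
    show T x (F v.1) = (Nat.card G : ℤ) • T x v.1
    rw [← hw, hFF, map_smul]
  have h2 : LinearMap.trace ℤ (G → ℤ) ((T x).comp F) = (Nat.card G : ℤ) * cz x⁻¹ := by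
    rw [LinearMap.trace_eq_matrix_trace ℤ (Pi.basisFun ℤ G), Matrix.trace]
    have : ∀ g : G, ((LinearMap.toMatrix (Pi.basisFun ℤ G) (Pi.basisFun ℤ G))
        ((T x).comp F)).diag g = cz x⁻¹ := by
      intro g
      rw [Matrix.diag_apply, LinearMap.toMatrix_apply, Pi.basisFun_repr, Pi.basisFun_apply]
      show ∑ h : G, cz (x⁻¹ * g * h⁻¹) * (Pi.single g (1 : ℤ) : G → ℤ) h = _
      simp [Pi.single_apply]
    simp only [this, Finset.sum_const, Finset.card_univ, nsmul_eq_mul, Nat.card_eq_fintype_card]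
  have h3 : LinearMap.trace ℤ L (R x) = cz x⁻¹ :=
    mul_left_cancel₀ (Int.natCast_ne_zero.2 Nat.card_pos.ne') (h1.symm.trans h2)
  show (((LinearMap.toMatrixAlgEquiv b' (R x)).trace : ℤ) : ℂ) = _
  rw [htr, h3, hcz]
  -- the character of the inverse is the conjugate, and the value is real
  have h4 : c x⁻¹ = conj (c x) := by
    rw [hc]
    simp only [map_sum, map_mul]
    refine Finset.sum_congr rfl fun ψ _ => ?_
    rw [isCharacter_inv (isCharacter_of_isIrrCharacter ψ.2)]
    congr 1
    rw [← isCharacter_inv (isCharacter_of_isIrrCharacter ψ.2), inv_one]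
  rw [h4, ← hcz, map_intCast]
  exact hcz x
where
  irr_classFun_aux (ψ : IrrCharacter G) (g h : G) :
      (ψ : G → ℂ) 1 * (ψ : G → ℂ) (h * g * h⁻¹) = (ψ : G → ℂ) 1 * (ψ : G → ℂ) g := by
    rw [isClassFunction_of_isCharacter (isCharacter_of_isIrrCharacter ψ.2) g h]

/-- The number of irreducible constituents, with multiplicity. -/
noncomputable def constituents (χ : G → ℂ) : ℂ :=
  ∑ ψ : IrrCharacter G, classInner χ (ψ : G → ℂ)

theorem exists_constituents {χ : G → ℂ} (h : IsCharacter G χ) :
    ∃ m : ℕ, constituents χ = m ∧ (m = 0 → χ = 0) := by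
  obtain ⟨m, hm, hsum⟩ := exists_mult h
  refine ⟨∑ ψ, m ψ, ?_, fun h0 => ?_⟩
  · rw [constituents, Nat.cast_sum]
    exact Finset.sum_congr rfl fun ψ _ => hm ψ
  · rw [hsum]
    refine Finset.sum_eq_zero fun ψ hψ => ?_
    rw [Finset.sum_eq_zero_iff.1 h0 ψ hψ, Nat.cast_zero, zero_smul]

theorem constituents_add (χ η : G → ℂ) :
    constituents (χ + η) = constituents χ + constituents η := by
  rw [constituents, constituents, constituents, ← Finset.sum_add_distrib]
  exact Finset.sum_congr rfl fun ψ _ => classInner_add_left _ _ _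

/-- A commuting endomorphism is killed by a product of linear factors at its eigenvalues, one
for each irreducible constituent at most. -/
theorem exists_roots (n : ℕ) : ∀ {V : Type*} [AddCommGroup V] [Module ℂ V] [FiniteDimensional ℂ V]
    (ρ : Representation ℂ G V), constituents ρ.character = n →
    ∀ f : Module.End ℂ V, (∀ g v, f (ρ g v) = ρ g (f v)) →
      ∃ l : List ℂ, l.length ≤ n ∧ (∀ μ ∈ l, f.HasEigenvalue μ) ∧
        (l.map fun μ => f - μ • (1 : Module.End ℂ V)).prod = 0 := by
  induction n using Nat.strong_induction_on with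
  | _ n ih =>
    intro V _ _ _ ρ hn f hf
    rcases subsingleton_or_nontrivial V with hV | hV
    · exact ⟨[], by simp, by simp, Subsingleton.elim _ _⟩
    obtain ⟨μ, hμ⟩ := Module.End.exists_eigenvalue f
    set h : Module.End ℂ V := f - μ • (1 : Module.End ℂ V) with hh
    have hcomm : ∀ g v, h (ρ g v) = ρ g (h v) := fun g v => by
      simp [hh, hf, map_sub]
    let U : Subrepresentation ρ := ⟨LinearMap.range h, fun g v hv => by
      obtain ⟨w, rfl⟩ := hv
      exact ⟨ρ g w, hcomm g w⟩⟩
    obtain ⟨U', hU⟩ := CharBasic.exists_isCompl U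
    have hne : h.range ≠ ⊤ := by
      intro ht
      have hinj : Function.Injective h :=
        LinearMap.injective_iff_surjective.2 (LinearMap.range_eq_top.1 ht)
      obtain ⟨v, hv⟩ := hμ.exists_hasEigenvector
      exact hv.2 (hinj (by simp [hh, hv.apply_eq_smul]))
    obtain ⟨k, hk, -⟩ := exists_constituents (isCharacter_of_rep U.toRepresentation)
    obtain ⟨k', hk', hk0⟩ := exists_constituents (isCharacter_of_rep U'.toRepresentation)
    have hlt : k < n := by
      have hsum : k + k' = n := by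
        have := congrArg constituents (character_of_isCompl U U' hU)
        rw [hn, constituents_add, hk, hk'] at this
        exact_mod_cast this.symm
      rcases Nat.eq_zero_or_pos k' with h0 | h0
      · exfalso
        have h1 := congrFun (hk0 h0) 1
        rw [Representation.char_one, Pi.zero_apply, Nat.cast_eq_zero] at h1
        have hbot : U'.toSubmodule = ⊥ := Submodule.finrank_eq_zero.1 h1
        have := hU.sup_eq_top
        rw [hbot, sup_bot_eq] at this
        exact hne this
      · omega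
    have hfU : ∀ v ∈ U.toSubmodule, f v ∈ U.toSubmodule := by
      rintro _ ⟨w, rfl⟩
      exact ⟨f w, by simp [hh, map_sub]⟩
    obtain ⟨l, hl, hev, hprod⟩ := ih k hlt U.toRepresentation hk (f.restrict hfU)
      (fun g v => Subtype.ext (hf g v.1))
    refine ⟨l ++ [μ], by simp; omega, ?_, ?_⟩
    · intro ν hν
      rcases List.mem_append.1 hν with hν | hν
      · obtain ⟨v, hv⟩ := (hev ν hν).exists_hasEigenvector
        refine Module.End.hasEigenvalue_of_hasEigenvector (x := (v : V))
          ⟨Module.End.mem_eigenspace_iff.2 (congrArg Subtype.val hv.apply_eq_smul), ?_⟩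
        exact fun e => hv.2 (Subtype.ext e)
      · rw [List.mem_singleton.1 hν]; exact hμ
    · have key : ∀ (l : List ℂ) (w : U.toSubmodule),
          (l.map fun ν => f - ν • (1 : Module.End ℂ V)).prod (w : V) =
          (((l.map fun ν => f.restrict hfU - ν • (1 : Module.End ℂ U.toSubmodule)).prod w :
            U.toSubmodule) : V) := by
        intro l
        induction l with
        | nil => intro w; simp
        | cons a l ihl => intro w; simp [ihl]
      refine LinearMap.ext fun v => ?_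
      rw [List.map_append, List.prod_append]
      simp only [List.map_cons, List.map_nil, List.prod_cons, List.prod_nil, mul_one,
        Module.End.mul_apply, LinearMap.zero_apply]
      rw [← hh, key l ⟨h v, LinearMap.mem_range_self h v⟩, hprod]
      rfl

end Cfsg.Agent.DefectOneSign7
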