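import Cfsg.Agent.Lib.BrauerReynolds7Block
import Cfsg.Agent.Lib.DefectOneSign7Rep
import Cfsg.Agent.Lib.CharBasicDecomp

/-!
# Inertial index two with a character of degree `p - 1`

If a Sylow subgroup of order `p` is self-centralizing with inertial index two, there is no
non-trivial normal `p'`-subgroup and the principal block has a character of degree `p - 1`, then
the number of Sylow subgroups is `(p - 1) (p - 2) / 2`.  With `v` the common integer value of the
exceptional characters (degree `p - 2`) on regular elements, the sums of `v`, `v ^ 2` and `v ^ 3`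
are known, the sum of `v (v + 1) (v - (p - 2))` is zero, and all summands have the same sign.
-/

set_option autoImplicit false

open Finset
open scoped ComplexConjugate

namespace Cfsg.Agent.DefectTwoIndex63

open Cfsg Cfsg.Agent.BrauerReynolds7 Cfsg.Agent.CharBasic Cfsg.Agent.CharBasicOrth
open Cfsg.Agent.DefectOneSign7 Cfsg.Agent.BlockPrincipal81

attribute [local instance] Classical.propDecidable

universe u

variable {G : Type u} [Group G] [Fintype G]

/-- A character fixed by all field automorphisms has rational integer values. -/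
theorem exists_int_value {χ : G → ℂ} (hχ : IsCharacter G χ)
    (hfix : ∀ (σ : ℂ ≃+* ℂ) (g : G), σ (χ g) = χ g) (g : G) : ∃ m : ℤ, χ g = (m : ℂ) := by
  obtain ⟨q, hq⟩ := DefectOneSign7.exists_rat_of_fixed
    ((isCharacter_integral hχ g).tower_top (A := ℚ)).isAlgebraic (fun σ => hfix σ g)
  have h1 : IsIntegral ℤ q := by
    have := isCharacter_integral hχ g
    rw [← hq] at this
    exact (isIntegral_algebraMap_iff (R := ℤ) (A := ℚ) (B := ℂ)
      (algebraMap ℚ ℂ).injective).1 (by simpa using this)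
  obtain ⟨m, hm⟩ := IsIntegrallyClosed.isIntegral_iff.1 h1
  exact ⟨m, by rw [← hq, ← hm]; simp⟩

variable {p : ℕ} [Fact p.Prime] {P : Sylow p G} {n : ℕ}
  {X Y : Finset (IrrCharacter G)} {a : IrrCharacter G → ℤ} {ε : ℤ}

/-- The number `1 + n p` of Sylow subgroups is `(p - 1) (p - 2) / 2`. -/
theorem two_mul_add_three (B : Blk P 2 X Y a ε) (hP : Nat.card P = p)
    (hC : Subgroup.centralizer ((P : Subgroup G) : Set G) = (P : Subgroup G))
    (he : (Subgroup.centralizer ((P : Subgroup G) : Set G)).relIndex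
      (Subgroup.normalizer ((P : Subgroup G) : Set G)) = 2) (hp5 : 5 ≤ p)
    (hcore : ∀ K : Subgroup G, K.Normal → ¬ p ∣ Nat.card K → K = ⊥)
    (hn : Nat.card (Sylow p G) = 1 + n * p) {χ : IrrCharacter G} (hχ : χ ∈ X)
    (hdeg : charDegree (χ : G → ℂ) = p - 1) : 2 * n + 3 = p := by
  have hp := (Fact.out : p.Prime)
  have haχ : a χ = -1 := by
    refine (B.signX χ hχ).resolve_left fun h => ?_
    have h1 := B.congrX χ hχ
    rw [h, hdeg, Nat.cast_sub hp.one_le] at h1
    have h2 := Int.modEq_iff_dvd.1 h1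
    have h3 : (p : ℤ) ∣ 2 := by
      have h4 := dvd_add h2 (dvd_refl (p : ℤ))
      simpa [sub_eq_add_neg, add_comm, add_left_comm] using h4
    have := Int.le_of_dvd two_pos h3
    omega
  have hne : oneChar G ≠ χ := fun h => by rw [← h, B.a_one] at haχ; exact absurd haχ (by norm_num)
  have hXeq : X = {oneChar G, χ} := by
    refine (Finset.eq_of_subset_of_card_le ?_ ?_).symm
    · intro ψ hψ
      rcases Finset.mem_insert.1 hψ with rfl | h
      · exact B.one_mem
      · rw [Finset.mem_singleton.1 h]; exact hχ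
    · rw [B.cardX, Finset.card_pair hne]
  have hreg : ∀ η ∈ Y, ∀ g : G, ¬ p ∣ orderOf g →
      (ε : ℂ) * (η : G → ℂ) g = 1 - (χ : G → ℂ) g := by
    intro η hη g hg
    rw [B.regular η hη g hg, hXeq, Finset.sum_pair hne, B.a_one, haχ]
    rw [show (oneChar G : G → ℂ) g = 1 from rfl]
    push_cast
    ring
  have h1reg : ¬ p ∣ orderOf (1 : G) := by rw [orderOf_one, Nat.dvd_one]; exact hp.ne_one
  have hY : ∀ η ∈ Y, charDegree (η : G → ℂ) = p - 2 ∧ ε = -1 := by
    intro η hη
    have h := hreg η hη 1 h1reg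
    rw [ClassAlgebraVal.apply_one_eq_charDegree, ClassAlgebraVal.apply_one_eq_charDegree, hdeg] at h
    have h2 : ε * (charDegree (η : G → ℂ) : ℤ) = 1 - ((p - 1 : ℕ) : ℤ) := by
      refine Int.cast_injective (α := ℂ) ?_
      push_cast
      exact h
    rcases B.sign with hs | hs
    · rw [hs, one_mul] at h2; omega
    · rw [hs] at h2; exact ⟨by omega, hs⟩
  obtain ⟨η₀, hη₀⟩ := Y_nonempty B
  have hε : ε = -1 := (hY η₀ hη₀).2
  have hval : ∀ η ∈ Y, ∀ g : G, ¬ p ∣ orderOf g → (η : G → ℂ) g = (χ : G → ℂ) g - 1 := by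
    intro η hη g hg
    have h := hreg η hη g hg
    rw [hε] at h
    push_cast at h
    linear_combination -h
  -- `χ` is rational
  have hfix : ∀ (σ : ℂ ≃+* ℂ) (g : G), σ ((χ : G → ℂ) g) = (χ : G → ℂ) g := by
    intro σ
    set ψ : IrrCharacter G := ⟨_, isIrrCharacter_aut σ χ.2⟩ with hψ
    obtain ⟨y, hy⟩ := exists_mem_Ps hP
    have hψy : (ψ : G → ℂ) y = -1 := by
      show σ ((χ : G → ℂ) y) = -1
      rw [B.valX χ hχ y hy, haχ]
      simp
    have hψ1 : charDegree (ψ : G → ℂ) = p - 1 := by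
      have h : (ψ : G → ℂ) 1 = ((p - 1 : ℕ) : ℂ) := by
        show σ ((χ : G → ℂ) 1) = _
        rw [ClassAlgebraVal.apply_one_eq_charDegree, hdeg, map_natCast]
      rw [ClassAlgebraVal.apply_one_eq_charDegree] at h
      exact_mod_cast h
    have hψχ : ψ = χ := by
      by_cases hX : ψ ∈ X
      · rw [hXeq, Finset.mem_insert, Finset.mem_singleton] at hX
        refine hX.resolve_left fun h => ?_
        rw [h, show (oneChar G : G → ℂ) y = 1 from rfl] at hψy
        norm_num at hψy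
      · exfalso
        by_cases hY' : ψ ∈ Y
        · have := (hY ψ hY').1
          omega
        · rw [vanish B hP hC he hX hY' hy] at hψy
          norm_num at hψy
    intro g
    exact congrFun (congrArg Subtype.val hψχ) g
  choose c hc using exists_int_value (isCharacter_of_isIrrCharacter χ.2) hfix
  set v : G → ℤ := fun g => c g - 1 with hv
  have hηv : ∀ η ∈ Y, ∀ g ∈ Rs p, (η : G → ℂ) g = (v g : ℂ) := by
    intro η hη g hg
    rw [hval η hη g (mem_Rs.1 hg), hc g, hv]
    push_cast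
    rfl
  set N : ℂ := (Nat.card (Sylow p G) : ℂ) with hNdef
  have hN0 : N ≠ 0 := Nat.cast_ne_zero.2 Nat.card_pos.ne'
  have hG : (Nat.card G : ℂ) = N * (p * 2) := by
    rw [card_group hP hC 2 he, hNdef]; push_cast; rfl
  -- the first two sums
  have hV1 : ∑ g ∈ Rs p, (v g : ℂ) = -2 * N := by
    have h := card_mul_classInner (η₀ : G → ℂ) (oneChar G : G → ℂ)
    rw [classInner_irrCharacter, if_neg (ne_one_of_mem B hη₀), mul_zero,
      sum_split hP hC (f := fun g => (η₀ : G → ℂ) g * conj ((oneChar G : G → ℂ) g)) (fun x y => by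
        simp only [BlockTheoryCentre.irr_classFun η₀ x y]; rfl)] at h
    simp only [show ∀ g, (oneChar G : G → ℂ) g = 1 from fun _ => rfl, map_one, mul_one] at h
    rw [sum_Ps_Y B hP hC hη₀, hε, Finset.sum_congr rfl (hηv η₀ hη₀)] at h
    push_cast at h
    linear_combination -h
  have hV2 : ∑ g ∈ Rs p, (v g : ℂ) * (v g : ℂ) = N * 4 := by
    have h := sum_Rs_norm B hP hC he hη₀
    rw [Finset.sum_congr rfl fun g hg => by rw [hηv η₀ hη₀ g hg, map_intCast]] at h
    rw [h, hNdef]
    push_cast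
    ring
  -- the third sum from a product of two exceptional characters
  have hYc : 1 < Y.card := by have := B.cardY; omega
  obtain ⟨θ, hθ, θ', hθ', hθne⟩ := Finset.one_lt_card.1 hYc
  obtain ⟨m, hm, hdec⟩ := CharBasicDecomp.exists_mult
    (CharBasicDecomp.isCharacter_mul (isCharacter_of_isIrrCharacter θ.2)
      (CharBasicDecomp.isCharacter_conj (isCharacter_of_isIrrCharacter θ'.2)))
  set V3 := ∑ g ∈ Rs p, (v g : ℂ) * (v g : ℂ) * (v g : ℂ) with hV3
  have hmult : ∀ ψ : IrrCharacter G, (Nat.card G : ℂ) * m ψ =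
      ∑ g ∈ Rs p, (v g : ℂ) * (v g : ℂ) * conj ((ψ : G → ℂ) g) +
        N * ∑ y ∈ Ps P, (θ : G → ℂ) y * conj ((θ' : G → ℂ) y) * conj ((ψ : G → ℂ) y) := by
    intro ψ
    rw [← hm ψ, card_mul_classInner, sum_split hP hC
      (f := fun g => ((θ : G → ℂ) * fun g => conj ((θ' : G → ℂ) g)) g * conj ((ψ : G → ℂ) g))
      (fun x y => by
        simp only [Pi.mul_apply, BlockTheoryCentre.irr_classFun θ x y,
          BlockTheoryCentre.irr_classFun θ' x y, BlockTheoryCentre.irr_classFun ψ x y])]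
    simp only [Pi.mul_apply]
    congr 1
    exact Finset.sum_congr rfl fun g hg => by
      rw [hηv θ hθ g hg, hηv θ' hθ' g hg, map_intCast]
  have hPs : ∑ y ∈ Ps P, (θ : G → ℂ) y * conj ((θ' : G → ℂ) y) = -4 := by
    rw [sum_Ps_mul B hP hC he hθ hθ', if_neg hθne]
    norm_num
  have hmY : (Nat.card G : ℂ) * ((∑ η ∈ Y, m η : ℕ) : ℂ) = (Y.card : ℂ) * V3 - N * 4 := by
    push_cast
    rw [Finset.mul_sum, Finset.sum_congr rfl fun η _ => hmult η, Finset.sum_add_distrib,
      ← Finset.mul_sum, Finset.sum_comm, Finset.sum_comm (s := Y) (t := Ps P)]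
    rw [Finset.sum_congr (s₁ := Rs p) rfl (g := fun g => (Y.card : ℂ) * ((v g : ℂ) * (v g : ℂ) * (v g : ℂ)))
      fun g hg => by
        rw [Finset.sum_congr rfl fun η hη => by rw [hηv η hη g hg, map_intCast], Finset.sum_const,
          nsmul_eq_mul]]
    rw [Finset.sum_congr (s₁ := Ps P) rfl
      (g := fun y => (θ : G → ℂ) y * conj ((θ' : G → ℂ) y)) fun y hy => by
        rw [← Finset.mul_sum, ← map_sum, B.sumY y hy, hε]; simp]
    rw [← Finset.mul_sum, hPs]
    ring
  have hmχ : (Nat.card G : ℂ) * (m χ : ℂ) = V3 + N * 8 := by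
    rw [hmult χ, Finset.sum_congr (s₁ := Rs p) rfl
      (g := fun g => (v g : ℂ) * (v g : ℂ) * (v g : ℂ) + (v g : ℂ) * (v g : ℂ)) fun g _ => by
        rw [hc g, map_intCast, hv]; push_cast; ring]
    rw [Finset.sum_congr (s₁ := Ps P) rfl
      (g := fun y => -((θ : G → ℂ) y * conj ((θ' : G → ℂ) y))) fun y hy => by
        rw [B.valX χ hχ y hy, haχ]; simp]
    rw [Finset.sum_add_distrib, hV2, Finset.sum_neg_distrib, hPs]
    ring
  have hpc : (p : ℂ) = Y.card * 2 + 1 := by exact_mod_cast B.cardY.symm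
  have hrel : (∑ η ∈ Y, m η) + 2 = Y.card * m χ := by
    have h : (Nat.card G : ℂ) * (((∑ η ∈ Y, m η) + 2 : ℕ) : ℂ) =
        (Nat.card G : ℂ) * ((Y.card * m χ : ℕ) : ℂ) := by
      push_cast at hmY ⊢
      rw [mul_add, hmY, mul_left_comm (Nat.card G : ℂ), hmχ, hG, hpc]
      ring
    exact_mod_cast mul_left_cancel₀ (Nat.cast_ne_zero.2 Nat.card_pos.ne') h
  have hχY : χ ∉ Y := fun h => Finset.disjoint_left.1 B.disj hχ h
  have hsum : m χ * (p - 1) + (∑ η ∈ Y, m η) * (p - 2) ≤ (p - 2) * (p - 2) := by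
    have htot : ∑ ψ : IrrCharacter G, m ψ * charDegree (ψ : G → ℂ) = (p - 2) * (p - 2) := by
      have h := congrFun hdec 1
      simp only [Pi.mul_apply, Finset.sum_apply, Pi.smul_apply, smul_eq_mul,
        ClassAlgebraVal.apply_one_eq_charDegree, map_natCast, (hY θ hθ).1, (hY θ' hθ').1] at h
      exact_mod_cast h.symm
    rw [← htot, Finset.sum_mul]
    calc m χ * (p - 1) + ∑ η ∈ Y, m η * (p - 2)
        = ∑ ψ ∈ insert χ Y, m ψ * charDegree (ψ : G → ℂ) := by
          rw [Finset.sum_insert hχY, hdeg]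
          congr 1
          exact Finset.sum_congr rfl fun η hη => by rw [(hY η hη).1]
      _ ≤ _ := Finset.sum_le_univ_sum_of_nonneg fun _ => Nat.zero_le _
  have hB : m χ = 1 := by
    have hlt : m χ < 2 := by
      by_contra hge
      push Not at hge
      have h2 : Y.card * 2 ≤ Y.card * m χ := Nat.mul_le_mul_left _ hge
      have h3 : 2 * (p - 1) ≤ m χ * (p - 1) := Nat.mul_le_mul_right _ hge
      have h4 : (p - 3) * (p - 2) ≤ (∑ η ∈ Y, m η) * (p - 2) := by
        refine Nat.mul_le_mul_right _ ?_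
        have := B.cardY; omega
      have h5 : (p - 3) * (p - 2) + (p - 2) = (p - 2) * (p - 2) := by
        rw [← Nat.succ_mul]; congr 1; omega
      omega
    rcases Nat.eq_zero_or_pos (m χ) with h | h
    · rw [h, mul_zero] at hrel; omega
    · omega
  have hV3v : V3 = N * (p * 2) - N * 8 := by
    rw [hB, Nat.cast_one, mul_one, hG] at hmχ
    linear_combination -hmχ
  -- all summands of the vanishing sum are zero
  set F : G → ℤ := fun g => v g * (v g + 1) * (v g - ((p : ℤ) - 2)) with hF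
  have hF0 : ∑ g ∈ Rs p, F g = 0 := by
    refine Int.cast_injective (α := ℂ) ?_
    rw [Int.cast_sum, Int.cast_zero]
    calc ∑ g ∈ Rs p, ((F g : ℤ) : ℂ) = ∑ g ∈ Rs p, ((v g : ℂ) * (v g : ℂ) * (v g : ℂ) -
          ((p : ℂ) - 3) * ((v g : ℂ) * (v g : ℂ)) - ((p : ℂ) - 2) * (v g : ℂ)) :=
          Finset.sum_congr rfl fun g _ => by rw [hF]; push_cast; ring
      _ = V3 - ((p : ℂ) - 3) * (N * 4) - ((p : ℂ) - 2) * (-2 * N) := by
          rw [Finset.sum_sub_distrib, Finset.sum_sub_distrib, ← Finset.mul_sum, ← Finset.mul_sum,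
            hV2, hV1]
      _ = 0 := by rw [hV3v]; ring
  obtain ⟨d, ρ, hirr, hρ⟩ := η₀.2
  have hd : (η₀ : G → ℂ) 1 = ((p - 2 : ℕ) : ℂ) := by
    rw [ClassAlgebraVal.apply_one_eq_charDegree, (hY η₀ hη₀).1]
  have hfr : (Module.finrank ℂ (Fin d → ℂ) : ℂ) = ((p - 2 : ℕ) : ℂ) := by
    rw [← hd, ← hρ, Representation.char_one]
  have hpz : ((p - 2 : ℕ) : ℤ) = (p : ℤ) - 2 := by omega
  have hle : ∀ g ∈ Rs p, v g ≤ (p : ℤ) - 2 := by
    intro g hg
    have h := norm_character_le ρ g
    rw [hρ, hηv η₀ hη₀ g hg] at h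
    rw [show Module.finrank ℂ (Fin d → ℂ) = p - 2 by exact_mod_cast hfr] at h
    rw [Complex.norm_intCast] at h
    have h2 : ((v g : ℤ) : ℝ) ≤ (((p - 2 : ℕ) : ℤ) : ℝ) := by
      push_cast
      exact (le_abs_self _).trans h
    rw [← hpz]
    exact_mod_cast h2
  have hq : ∀ g : G, 0 ≤ v g * (v g + 1) := by
    intro g
    rcases le_or_gt 0 (v g) with h | h
    · exact mul_nonneg h (by omega)
    · exact mul_nonneg_of_nonpos_of_nonpos h.le (by omega)
  have hzero : ∀ g ∈ Rs p, F g = 0 :=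
    (Finset.sum_eq_zero_iff_of_nonpos fun g hg =>
      mul_nonpos_of_nonneg_of_nonpos (hq g) (by have := hle g hg; omega)).1 hF0
  let f : G →* Module.End ℂ (Fin d → ℂ) := ρ
  have hker : f.ker = ⊥ := by
    refine hcore _ inferInstance fun hd' => ?_
    obtain ⟨⟨y, hy⟩, hyo⟩ := exists_prime_orderOf_dvd_card' p hd'
    rw [Subgroup.orderOf_mk] at hyo
    obtain ⟨Q, hQ⟩ := (IsPGroup.of_card (n := 1) (G := Subgroup.zpowers y)
      (by rw [Nat.card_zpowers, hyo, pow_one])).exists_le_sylow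
    obtain ⟨g, hg⟩ := MulAction.exists_smul_eq G Q P
    have hyP : g * y * g⁻¹ ∈ (P : Subgroup G) := by
      rw [← hg, Sylow.coe_subgroup_smul]
      exact Subgroup.mem_map_of_mem _ (hQ (Subgroup.mem_zpowers y))
    have hne1 : g * y * g⁻¹ ≠ 1 := fun h => by
      rw [conj_eq_one_iff] at h
      rw [h, orderOf_one] at hyo
      exact hp.ne_one hyo.symm
    have hmem : g * y * g⁻¹ ∈ f.ker := (inferInstance : f.ker.Normal).conj_mem y hy g
    have hPle : (P : Subgroup G) ≤ f.ker := by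
      rw [← zpowers_eq P hP hyP hne1]
      exact Subgroup.zpowers_le.2 hmem
    have h1 := sum_Ps_Y B hP hC hη₀
    rw [Finset.sum_congr rfl (g := fun _ => ((p - 2 : ℕ) : ℂ)) fun z hz => by
      rw [← hρ, ← hfr]
      show LinearMap.trace ℂ _ (ρ z) = _
      rw [show ρ z = 1 from MonoidHom.mem_ker.1 (hPle (mem_Ps.1 hz).1), LinearMap.trace_one],
      Finset.sum_const, card_Ps hP, nsmul_eq_mul, hε] at h1
    have h2 : (p - 1) * (p - 2) = 2 := by
      have h3 : (((p - 1) * (p - 2) : ℕ) : ℂ) = ((2 : ℕ) : ℂ) := by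
        push_cast at h1 ⊢; linear_combination h1
      exact_mod_cast h3
    have : 3 * (p - 1) ≤ (p - 1) * (p - 2) := by
      rw [mul_comm (p - 1)]; exact Nat.mul_le_mul_right _ (by omega)
    omega
  have hv1 : v 1 = (p : ℤ) - 2 := by
    have h := hc 1
    rw [ClassAlgebraVal.apply_one_eq_charDegree, hdeg] at h
    have h2 : ((p - 1 : ℕ) : ℤ) = c 1 := by exact_mod_cast h
    rw [hv]
    simp only
    omega
  have hone : (1 : G) ∈ Rs p := mem_Rs.2 h1reg
  have hsingle : ∑ g ∈ Rs p, v g * (v g + 1) = ((p : ℤ) - 2) * ((p : ℤ) - 1) := by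
    rw [Finset.sum_eq_single_of_mem 1 hone, hv1]
    · ring
    intro g hg hg1
    rcases mul_eq_zero.1 (hzero g hg) with h | h
    · exact h
    · exfalso
      apply hg1
      have hg' : (η₀ : G → ℂ) g = (Module.finrank ℂ (Fin d → ℂ) : ℂ) := by
        rw [hηv η₀ hη₀ g hg, hfr, show v g = ((p - 2 : ℕ) : ℤ) by omega, Int.cast_natCast]
      have hmem : g ∈ f.ker :=
        MonoidHom.mem_ker.2 (eq_one_of_character_eq_finrank ρ g (by rw [hρ, hg']))
      rwa [hker, Subgroup.mem_bot] at hmem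
  have h2N : ((p : ℤ) - 2) * ((p : ℤ) - 1) = 2 * (1 + n * p) := by
    refine Int.cast_injective (α := ℂ) ?_
    rw [← hsingle, Int.cast_sum]
    calc ∑ g ∈ Rs p, (((v g * (v g + 1) : ℤ)) : ℂ)
        = ∑ g ∈ Rs p, ((v g : ℂ) * (v g : ℂ) + (v g : ℂ)) :=
          Finset.sum_congr rfl fun g _ => by push_cast; ring
      _ = N * 4 + -2 * N := by rw [Finset.sum_add_distrib, hV2, hV1]
      _ = _ := by rw [hNdef, hn]; push_cast; ring
  have h : ((p * (2 * n + 3) : ℕ) : ℤ) = ((p * p : ℕ) : ℤ) := by push_cast; linear_combination -h2N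
  exact Nat.eq_of_mul_eq_mul_left hp.pos (by exact_mod_cast h)

end Cfsg.Agent.DefectTwoIndex63
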