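import Mathlib
import Cfsg.Agent.Lib.SignalizerCoprime

/-!
A `5`-subgroup normalizing a subgroup of order dividing `216` centralizes it.
-/

set_option autoImplicit false

namespace Cfsg.Agent.SimpleRange30

variable {G : Type*} [Group G] [Finite G]

/-- The points of `R` fixed by a `p`-subgroup normalizing it form a subgroup of congruent order. -/
theorem card_inf_centralizer_modEq {p : ℕ} [Fact p.Prime] {A R : Subgroup G} (hA : IsPGroup p A)
    (hR : A ≤ Subgroup.normalizer (R : Set G)) :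
    Nat.card R ≡ Nat.card ↥(R ⊓ Subgroup.centralizer (A : Set G)) [MOD p] := by
  letI : MulAction A R :=
    { smul := fun a x => ⟨(a : G) * x * (a : G)⁻¹, (Subgroup.mem_normalizer_iff.1 (hR a.2) x).1 x.2⟩
      one_smul := fun x => Subtype.ext (show ((1 : A) : G) * (x : G) * ((1 : A) : G)⁻¹ = x by simp)
      mul_smul := fun a b x => Subtype.ext (show ((a * b : A) : G) * (x : G) * ((a * b : A) : G)⁻¹ =
        (a : G) * ((b : G) * x * (b : G)⁻¹) * (a : G)⁻¹ by simp [mul_assoc]) }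
  have e : MulAction.fixedPoints A R ≃ ↥(R ⊓ Subgroup.centralizer (A : Set G)) := by
    refine
    { toFun := fun x => ⟨x.1, x.1.2, Subgroup.mem_centralizer_iff.2 fun a ha => ?_⟩
      invFun := fun y => ⟨⟨y.1, y.2.1⟩, fun a => Subtype.ext ?_⟩
      left_inv := fun x => rfl
      right_inv := fun y => rfl }
    · have h : a * (x.1 : G) * a⁻¹ = x.1 := congrArg Subtype.val (x.2 ⟨a, ha⟩)
      exact mul_inv_eq_iff_eq_mul.1 h
    · show (a : G) * y.1 * (a : G)⁻¹ = y.1
      exact mul_inv_eq_iff_eq_mul.2 (Subgroup.mem_centralizer_iff.1 y.2.2 a a.2)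
  rw [← Nat.card_congr e]
  exact hA.card_modEq_card_fixedPoints R

theorem le_centralizer_of_dvd_216 {A X : Subgroup G} (hA : IsPGroup 5 A)
    (hX : A ≤ Subgroup.normalizer (X : Set G)) (hc : Nat.card X ∣ 216) :
    X ≤ Subgroup.centralizer (A : Set G) := by
  haveI : Fact (Nat.Prime 5) := ⟨by norm_num⟩
  refine SignalizerCoprime.le_of_invariant_sylow_le hA hX
    (fun h => absurd (h.trans hc) (by norm_num)) fun R hRX hRA ⟨q, hq, hRq⟩ => ?_
  haveI := Fact.mk hq
  obtain ⟨k, hk⟩ := hRq.exists_card_eq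
  have hd : q ^ k ∣ 216 := hk ▸ (Subgroup.card_dvd_of_le hRX).trans hc
  have hm := card_inf_centralizer_modEq hA hRA
  have hsub := Subgroup.card_dvd_of_le (inf_le_left : R ⊓ Subgroup.centralizer (A : Set G) ≤ R)
  set c := Nat.card ↥(R ⊓ Subgroup.centralizer (A : Set G)) with hcdef
  rw [hk] at hm hsub
  have key : ∀ r ∈ [1, 2, 3, 4, 8, 9, 27], ∀ c ∈ List.range (r + 1), r % c = 0 → r % 5 = c % 5 → c = r := by
    decide
  have hmem : q ^ k ∈ [1, 2, 3, 4, 8, 9, 27] := by
    rcases Nat.eq_zero_or_pos k with rfl | hk0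
    · simp
    have hq216 : q ∣ 216 := (dvd_pow_self q hk0.ne').trans hd
    have hq23 : q = 2 ∨ q = 3 := by
      rcases (Nat.Prime.dvd_mul hq).1 (show q ∣ 2 ^ 3 * 3 ^ 3 by norm_num; exact hq216) with h | h
      · exact Or.inl ((Nat.prime_dvd_prime_iff_eq hq Nat.prime_two).1 (hq.dvd_of_dvd_pow h))
      · exact Or.inr ((Nat.prime_dvd_prime_iff_eq hq Nat.prime_three).1 (hq.dvd_of_dvd_pow h))
    have hk3 : k ≤ 3 := by
      by_contra h
      have h4 := (Nat.pow_dvd_pow q (not_le.1 h)).trans hd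
      rcases hq23 with rfl | rfl <;> norm_num at h4
    rcases hq23 with rfl | rfl <;> interval_cases k <;> simp
  have hcr : c = q ^ k := key _ hmem c (List.mem_range.2 (Nat.lt_succ_of_le
    (Nat.le_of_dvd (pow_pos hq.pos k) hsub))) (Nat.mod_eq_zero_of_dvd hsub) hm
  exact inf_eq_left.1 (Subgroup.eq_of_le_of_card_ge inf_le_left (by rw [hk, ← hcdef, hcr]))

end Cfsg.Agent.SimpleRange30
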