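import Mathlib
import Cfsg.Agent.Lib.SimpleSearch
import Cfsg.Agent.Lib.BlockSearch91
import Cfsg.Agent.Lib.CharInducedBurnside

/-!
A certificate checker excluding an order of a non-abelian simple group.
-/

set_option autoImplicit false

namespace Cfsg.Agent.SimpleRange30

open Cfsg Cfsg.Agent.BlockPrime86 Cfsg.Agent.BlockPrincipal81
open Cfsg.Agent.SimpleOrder Cfsg.Agent.SimpleOrderCheck Cfsg.Agent.SimpleSearch

/-- The reasons excluding an order. -/
inductive Cert where
  | prime
  | two (p a q b : ℕ)
  | least (p : ℕ)
  | kill1 (qs : List ℕ) (p v : ℕ)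
  | killTwo (qs : List ℕ)
  | small (qs : List ℕ) (q : ℕ)
  | given

/-- Every admissible centralizer of a Sylow subgroup of order `q` is forced to be of order `q`
and is not. -/
def smallKill (n : ℕ) (qs : List ℕ) (q : ℕ) : Bool :=
  primeB q && decide (2 < q) && decide (n % q = 0) && decide (n / q % q ≠ 0) &&
    (cand n q (n / q)).all fun d => !iOK n qs d ||
      (eList n q d).all fun e => decide (e < q) && decide (n / d / e ≠ q) &&
        decide (e * (n / d / e) = n / d) && BlockCount91.smallB n q e

/-- The orders not excluded by a certificate. -/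
def exceptions : List ℕ :=
  [3648, 3744, 4032, 4080, 4320, 4960, 5040, 5104, 5400, 5460, 5472, 5600, 5616, 5724, 5760,
    6048, 6072]

/-- Primality by trial division up to `80`. -/
def fastPrime (p : ℕ) : Bool :=
  decide (2 ≤ p) && decide (p < 6561) &&
    (List.range 81).all fun d => decide (d < 2) || decide (p ≤ d) || decide (p % d ≠ 0)

theorem prime_of_fastPrime {p : ℕ} (h : fastPrime p = true) : p.Prime := by
  simp only [fastPrime, Bool.and_eq_true, decide_eq_true_eq, List.all_eq_true, List.mem_range,
    Bool.or_eq_true] at h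
  obtain ⟨⟨h2, hlt⟩, hall⟩ := h
  by_contra hnp
  have hsq := Nat.minFac_sq_le_self (by omega) hnp
  have hpr := Nat.minFac_prime (show p ≠ 1 by omega)
  have h81 : p.minFac < 81 := by
    by_contra h
    have := Nat.pow_le_pow_left (not_lt.1 h) 2
    omega
  rcases hall _ h81 with (h | h) | h
  · exact absurd h (not_lt.2 hpr.two_le)
  · have hlt' : p.minFac < p := by
      refine lt_of_le_of_ne (Nat.minFac_le (by omega)) fun e => hnp (e ▸ hpr)
    omega
  · exact h (Nat.mod_eq_zero_of_dvd (Nat.minFac_dvd p))

/-- The check. -/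
def check (n : ℕ) : Cert → Bool
  | .prime => fastPrime n
  | .two p a q b => fastPrime p && fastPrime q && decide (p ^ a * q ^ b = n)
  | .least p => primeB p && decide (n % p = 0) && decide (n / p % p ≠ 0) &&
      (List.range p).all fun d => decide (d ≤ 1) || decide (n % d ≠ 0)
  | .kill1 qs p v => SimpleOrderCheck.kill n qs p v
  | .killTwo qs => kill2 n qs
  | .small qs q => smallKill n qs q
  | .given => exceptions.contains n

/-- The check along a list of certificates. -/
def checkFrom : ℕ → List Cert → Bool
  | _, [] => true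
  | n, c :: L => check n c && checkFrom (n + 1) L

variable {G : Type*} [Group G] [Finite G] [IsSimpleGroup G]

theorem false_of_smallKill (hG : ¬ IsMulCommutative G) {n : ℕ} (hn : Nat.card G = n) {qs : List ℕ}
    {q : ℕ} (h : smallKill n qs q = true) : False := by
  haveI : Fintype G := Fintype.ofFinite G
  simp only [smallKill, Bool.and_eq_true, decide_eq_true_eq, List.all_eq_true] at h
  obtain ⟨⟨⟨⟨hqp, hq2⟩, hq0⟩, hq1⟩, hall⟩ := h
  have : Fact q.Prime := ⟨prime_of_primeB hqp⟩
  subst hn
  obtain ⟨M, hM⟩ := ZStarCount.exists_isPModular q (Fact.out : q.Prime)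
  obtain ⟨P⟩ : Nonempty (Sylow q G) := inferInstance
  have hP := sylow_card_of_once hq0 hq1 P
  have hd := mem_cand hG (p := q) (v := 1) (m := Nat.card G / q) Nat.one_pos
    (by rw [pow_one]; exact (Nat.mul_div_cancel' (Nat.dvd_of_mod_eq_zero hq0)).symm)
    (fun h' => hq1 (Nat.mod_eq_zero_of_dvd h'))
  obtain ⟨e, he, hC, hN⟩ := exists_eList hG P hP
  have hi := iOK_index hG qs _ (normalizer_ne_top hG (Nat.dvd_of_mod_eq_zero hq0) P)
  rw [show (Subgroup.normalizer ((P : Subgroup G) : Set G)).index = Nat.card (Sylow q G) from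
    P.card_eq_index_normalizer.symm] at hi
  have h' := hall _ hd
  rw [hi] at h'
  simp only [Bool.not_true, Bool.false_or, List.all_eq_true, Bool.and_eq_true, decide_eq_true_eq] at h'
  obtain ⟨⟨⟨heq, hne⟩, hmul⟩, hs⟩ := h' e he
  have he1 : 1 < e := by
    simp only [eList, List.mem_filter, List.mem_range, Bool.and_eq_true, decide_eq_true_eq] at he
    exact he.2.1.1
  have hidx : (Subgroup.centralizer ((P : Subgroup G) : Set G)).relIndex
      (Subgroup.normalizer ((P : Subgroup G) : Set G)) = e := by
    have h1 := ((Subgroup.centralizer ((P : Subgroup G) : Set G)).subgroupOf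
      (Subgroup.normalizer ((P : Subgroup G) : Set G))).card_mul_index
    rw [Nat.card_congr (Subgroup.subgroupOfEquivOfLe (Subgroup.centralizer_le_normalizer _)).toEquiv,
      ← hN, ← hC, ← Subgroup.relIndex] at h1
    rw [mul_comm] at hmul
    exact Nat.eq_of_mul_eq_mul_left (hC ▸ Nat.card_pos) (h1.trans hmul.symm)
  exact hne (hC.trans (BlockCount91.centralizer_eq_of_smallB hG hM hP rfl (by omega) e hidx he1 heq hs))

theorem not_of_check (hG : ¬ IsMulCommutative G) {n : ℕ} (hn : Nat.card G = n) (c : Cert)
    (h : check n c = true) : n ∈ exceptions := by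
  cases c with
  | prime =>
    exfalso
    have hp : n.Prime := prime_of_fastPrime h
    haveI := Fact.mk hp
    haveI : IsCyclic G := isCyclic_of_prime_card hn
    exact hG IsCyclic.isMulCommutative
  | two p a q b =>
    exfalso
    simp only [check, Bool.and_eq_true, decide_eq_true_eq] at h
    have hs : IsSolvable G := CharInduced.solvable_of_card_two_primes p q a b (prime_of_fastPrime h.1.1)
      (prime_of_fastPrime h.1.2) (hn.trans h.2.symm)
    exact hG ⟨⟨IsSimpleGroup.comm_iff_isSolvable.2 hs⟩⟩
  | least p =>
    exfalso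
    simp only [check, Bool.and_eq_true, decide_eq_true_eq, List.all_eq_true, Bool.or_eq_true,
      List.mem_range] at h
    obtain ⟨⟨⟨hp', h0⟩, h1⟩, hmin⟩ := h
    have hp := prime_of_primeB hp'
    haveI := Fact.mk hp
    obtain ⟨P⟩ : Nonempty (Sylow p G) := inferInstance
    subst hn
    have hP := sylow_card_of_once h0 h1 P
    haveI : IsCyclic ↥(P : Subgroup G) := isCyclic_of_prime_card hP
    have hmf : (Nat.card G).minFac = p := by
      refine le_antisymm (Nat.minFac_le_of_dvd hp.two_le (Nat.dvd_of_mod_eq_zero h0)) ?_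
      by_contra hlt
      have h2 : 2 ≤ (Nat.card G).minFac := (Nat.minFac_prime (fun e => by
        have := Nat.le_of_dvd (by omega) (Nat.dvd_of_mod_eq_zero h0)
        have := hp.two_le
        omega)).two_le
      rcases hmin _ (not_le.1 hlt) with h3 | h3
      · omega
      · exact h3 (Nat.mod_eq_zero_of_dvd (Nat.minFac_dvd _))
    exact not_normalizer_le_centralizer hG (Nat.dvd_of_mod_eq_zero h0) P
      (IsCyclic.normalizer_le_centralizer (P := P) hmf inferInstance)
  | kill1 qs p v => exact absurd hn (card_ne_of_kill hG qs p v h)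
  | killTwo qs => exact absurd hn (card_ne_of_kill2 hG qs h)
  | small qs q => exact (false_of_smallKill hG hn h).elim
  | given => simpa [check] using h

theorem mem_exceptions (hG : ¬ IsMulCommutative G) :
    ∀ (L : List Cert) (k : ℕ), checkFrom k L = true →
      k ≤ Nat.card G → Nat.card G < k + L.length → Nat.card G ∈ exceptions
  | [], k, _, h1, h2 => by simp at h2; omega
  | c :: L, k, h, h1, h2 => by
    rw [checkFrom, Bool.and_eq_true] at h
    rcases Nat.eq_or_lt_of_le h1 with he | hlt
    · exact not_of_check hG rfl c (he ▸ h.1)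
    · exact mem_exceptions hG L (k + 1) h.2 hlt (by simp at h2; omega)

end Cfsg.Agent.SimpleRange30
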