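import Cfsg.Agent.Lib.BlockSearch91
import Cfsg.Agent.Lib.M11Order91Five

/-!
There is no simple group of order 4320 or 5040.
-/

set_option autoImplicit false
set_option linter.style.haveILetI false
set_option linter.unusedSectionVars false

open scoped ComplexConjugate

namespace Cfsg.Agent.SmallOrders91

open Cfsg Cfsg.Agent.BlockPrime86 Cfsg.Agent.BlockPrincipal81 Cfsg.Agent.BlockCount91
  Cfsg.Agent.SimpleOrder Cfsg.Agent.SimpleOrderCheck

attribute [local instance] Classical.propDecidable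

variable {G : Type*} [Group G] [Fintype G]

theorem relIndex_eq {p : ℕ} {P : Sylow p G} {e : ℕ}
    (h : e * Nat.card ↥(Subgroup.centralizer ((P : Subgroup G) : Set G)) =
      Nat.card ↥(Subgroup.normalizer ((P : Subgroup G) : Set G))) :
    (Subgroup.centralizer ((P : Subgroup G) : Set G)).relIndex
      (Subgroup.normalizer ((P : Subgroup G) : Set G)) = e := by
  have h1 := ((Subgroup.centralizer ((P : Subgroup G) : Set G)).subgroupOf
    (Subgroup.normalizer ((P : Subgroup G) : Set G))).card_mul_index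
  rw [Nat.card_congr (Subgroup.subgroupOfEquivOfLe (Subgroup.centralizer_le_normalizer _)).toEquiv,
    ← h, mul_comm e] at h1
  exact Nat.eq_of_mul_eq_mul_left Nat.card_pos h1

theorem exists_inverting {p : ℕ} [hp : Fact p.Prime] {P : Sylow p G} (hP : Nat.card ↥(P : Subgroup G) = p)
    (hodd : p ≠ 2) (hC : Nat.card ↥(Subgroup.centralizer ((P : Subgroup G) : Set G)) = p)
    (hN : 2 ∣ Nat.card ↥(Subgroup.normalizer ((P : Subgroup G) : Set G))) :
    ∃ y ∈ (P : Subgroup G), y ≠ 1 ∧ ∃ t : G, orderOf t = 2 ∧ t * y * t⁻¹ = y⁻¹ := by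
  haveI : Fact (Nat.Prime 2) := ⟨Nat.prime_two⟩
  haveI : IsCyclic ↥(P : Subgroup G) := isCyclic_of_prime_card hP
  obtain ⟨⟨t, htN⟩, ht⟩ := exists_prime_orderOf_dvd_card' 2 hN
  rw [Subgroup.orderOf_mk] at ht
  have htC : t ∉ Subgroup.centralizer ((P : Subgroup G) : Set G) := fun h => by
    have h' := Subgroup.orderOf_dvd_natCard _ h
    rw [ht, hC] at h'
    exact hodd (((Nat.dvd_prime hp.out).1 h').resolve_left (by norm_num)).symm
  obtain ⟨y, hy, hy1⟩ : ∃ y ∈ (P : Subgroup G), y ≠ 1 := by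
    obtain ⟨⟨y, hy⟩, ho⟩ := exists_prime_orderOf_dvd_card' p (G := ↥(P : Subgroup G)) (by rw [hP])
    refine ⟨y, hy, fun e => ?_⟩
    rw [Subgroup.orderOf_mk, e, orderOf_one] at ho
    exact hp.out.ne_one ho.symm
  refine ⟨y, hy, hy1, t, ht, ?_⟩
  have hw : t * y * t⁻¹ ∈ (P : Subgroup G) := (Subgroup.mem_normalizer_iff.1 htN y).1 hy
  by_contra hne
  have htt : t * t = 1 := by rw [← pow_two, ← ht]; exact pow_orderOf_eq_one t
  set g := y * (t * y * t⁻¹) with hg
  have hgP : g ∈ (P : Subgroup G) := mul_mem hy hw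
  have hg1 : g ≠ 1 := fun e => hne (inv_eq_of_mul_eq_one_right e).symm
  have hfix : t * g * t⁻¹ = g := by
    have e : t * g * t⁻¹ = (t * y * t⁻¹) * y := by
      have htinv : t⁻¹ = t := inv_eq_of_mul_eq_one_left htt
      rw [hg, htinv]
      simp only [mul_assoc]
      rw [htt, mul_one]
    rw [e]
    exact congrArg Subtype.val
      ((IsCyclic.isMulCommutative (α := ↥(P : Subgroup G))).is_comm.comm ⟨_, hw⟩ ⟨y, hy⟩)
  apply htC
  have he : Subgroup.zpowers g = (P : Subgroup G) := by
    refine Subgroup.eq_of_le_of_card_ge (Subgroup.zpowers_le.2 hgP) ?_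
    rw [hP, Nat.card_zpowers, orderOf_eq_prime (PGroupsBasic.pow_eq_one_of_card hP hgP) hg1]
  rw [← he, Subgroup.zpowers_eq_closure, Subgroup.centralizer_closure, Subgroup.mem_centralizer_singleton_iff]
  exact mul_inv_eq_iff_eq_mul.1 hfix

variable [IsSimpleGroup G]

theorem centralizer_ne_top (hG : ¬ IsMulCommutative G) {u : G} (hu : u ≠ 1) :
    Subgroup.centralizer ({u} : Set G) ≠ ⊤ := by
  intro h
  have hm : u ∈ Subgroup.center G := Subgroup.mem_center_iff.2 fun g =>
    Subgroup.mem_centralizer_singleton_iff.1 (h ▸ Subgroup.mem_top g)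
  rcases eq_bot_or_top (inferInstance : (Subgroup.center G).Normal) with hz | hz
  · exact hu (Subgroup.mem_bot.1 (hz ▸ hm))
  · exact hG ⟨⟨fun a b => Subgroup.mem_center_iff.1 (hz ▸ Subgroup.mem_top b) a⟩⟩

/-- An involution has a centraliser whose order is a multiple of 8, not of `p`, and less than the
group order. -/
theorem centralizer_data (hG : ¬ IsMulCommutative G) {p : ℕ} [hp : Fact p.Prime] (hodd : p ≠ 2)
    {P : Sylow p G} (hP : Nat.card ↥(P : Subgroup G) = p)
    (hC : Nat.card ↥(Subgroup.centralizer ((P : Subgroup G) : Set G)) = p) (h16 : 16 ∣ Nat.card G)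
    {t : G} (ht : orderOf t = 2) :
    8 ∣ Nat.card ↥(Subgroup.centralizer ({t} : Set G)) ∧
      ¬ p ∣ Nat.card ↥(Subgroup.centralizer ({t} : Set G)) ∧
      Nat.card ↥(Subgroup.centralizer ({t} : Set G)) < Nat.card G ∧
      Nat.card ↥(Subgroup.centralizer ({t} : Set G)) ∣ Nat.card G := by
  have ht1 : t ≠ 1 := fun e => by rw [e, orderOf_one] at ht; omega
  refine ⟨SimpleCentralizerKill.eight_dvd_card_centralizer hG h16 ht, fun h => ?_, ?_,
    Subgroup.card_subgroup_dvd_card _⟩
  · obtain ⟨⟨g, hg⟩, ho⟩ := exists_prime_orderOf_dvd_card' p h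
    rw [Subgroup.orderOf_mk] at ho
    have hmem : t ∈ Subgroup.centralizer ({g} : Set G) := Subgroup.mem_centralizer_singleton_iff.2
      (Subgroup.mem_centralizer_singleton_iff.1 hg).symm
    rw [centralizer_of_order hP hC ho] at hmem
    have := Subgroup.orderOf_dvd_natCard _ hmem
    rw [ht, Nat.card_zpowers, ho] at this
    exact hodd (((Nat.dvd_prime hp.out).1 this).resolve_left (by norm_num)).symm
  · refine lt_of_le_of_ne (Nat.le_of_dvd Nat.card_pos (Subgroup.card_subgroup_dvd_card _)) fun h => ?_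
    exact centralizer_ne_top hG ht1 (Subgroup.eq_top_of_card_eq _ h)

/-- The principal block for inertia index 2. -/
theorem two_block {p : ℕ} [hp : Fact p.Prime] {M : Ideal AlgInt} (hM : IsPModular p M) {P : Sylow p G}
    (hP : Nat.card ↥(P : Subgroup G) = p) (hp5 : 5 ≤ p)
    (he : (Subgroup.centralizer ((P : Subgroup G) : Set G)).relIndex
      (Subgroup.normalizer ((P : Subgroup G) : Set G)) = 2) :
    ∃ (χ : IrrCharacter G) (Y : Finset (IrrCharacter G)) (a ε : ℤ) (D : ℕ),
      χ ≠ oneChar G ∧ oneChar G ∉ Y ∧ χ ∉ Y ∧ Y.card = (p - 1) / 2 ∧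
      χ ∈ principalBlock M G ∧ (∀ θ ∈ Y, θ ∈ principalBlock M G ∧ deg θ = D) ∧
      (a = 1 ∨ a = -1) ∧ (ε = 1 ∨ ε = -1) ∧ sgn p (deg χ) = a ∧ (deg χ % p = 1 ∨ deg χ % p = p - 1) ∧
      (D % p = 2 ∨ D % p = p - 2) ∧
      ε * (D : ℤ) = 1 + a * (deg χ : ℤ) ∧
      (∀ θ ∈ Y, ∀ g : G, ¬ p ∣ orderOf g → (ε : ℂ) * (θ : G → ℂ) g = 1 + (a : ℂ) * (χ : G → ℂ) g) ∧
      (Nat.card ↥(Subgroup.centralizer ((P : Subgroup G) : Set G)) = p → ∀ y ∈ (P : Subgroup G), y ≠ 1 →
        (χ : G → ℂ) y = (a : ℂ) ∧ (∀ η, η ≠ oneChar G → η ≠ χ → η ∉ Y → (η : G → ℂ) y = 0) ∧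
          ∑ θ ∈ Y, conj ((θ : G → ℂ) y) = ((-ε : ℤ) : ℂ)) := by
  haveI : Fintype ↥(P : Subgroup G) := Fintype.ofFinite _
  haveI : Fintype (↥(P : Subgroup G) →* ℂˣ) := Fintype.ofFinite _
  have hp2 : 2 < p := by omega
  obtain ⟨X, Y, a, ε, h⟩ := prime_main hP (by omega) hM 2 he
  have hYmod : ∀ θ ∈ Y, deg θ % p = 2 ∨ deg θ % p = p - 2 := fun θ hθ =>
    mod_of_congr (by rcases h.sign with s | s <;> simp [s]) two_pos (by omega) (h.degY θ hθ)
  have h1X : oneChar G ∈ X := by
    rcases (h.block _).1 (oneChar_mem hM) with hx | hy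
    · exact hx
    · have := hYmod _ hy
      rw [deg_one, Nat.one_mod_eq_one.2 (by omega : p ≠ 1)] at this
      omega
  obtain ⟨χ, hχ⟩ := Finset.card_eq_one.1 (show (X.erase (oneChar G)).card = 1 by
    rw [Finset.card_erase_of_mem h1X, h.cardX])
  obtain ⟨hne, hχX⟩ := Finset.mem_erase.1 (show χ ∈ X.erase (oneChar G) by simp [hχ])
  have hnot1 : ¬ p ∣ orderOf (1 : G) := by
    rw [orderOf_one]; exact fun e => by have := Nat.le_of_dvd Nat.one_pos e; omega
  obtain ⟨θ, hθ⟩ : Y.Nonempty := Finset.card_pos.1 (by rw [h.cardY]; omega)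
  have hsame : ∀ η ∈ Y, deg η = deg θ := fun η hη => by
    have := h.agree η hη θ hθ 1 hnot1
    rwa [apply_one, apply_one, Nat.cast_inj] at this
  have ha1 : a (oneChar G) = 1 := by
    have h2 : sgn p (deg (oneChar G)) = a (oneChar G) := sgn_eq hp2 (h.valX _ h1X).1 (h.valX _ h1X).2.1
    rw [deg_one, sgn, if_pos (Nat.one_mod_eq_one.2 (by omega : p ≠ 1))] at h2
    exact h2.symm
  have hreg : ∀ η ∈ Y, ∀ g : G, ¬ p ∣ orderOf g →
      (ε : ℂ) * (η : G → ℂ) g = 1 + (a χ : ℂ) * (χ : G → ℂ) g := by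
    intro η hη g hg
    rw [h.regular η hη g hg, ← Finset.add_sum_erase _ _ h1X, hχ, Finset.sum_singleton, ha1, Int.cast_one, one_mul]
    rfl
  have hrel : ε * (deg θ : ℤ) = 1 + a χ * (deg χ : ℤ) := by
    have := hreg θ hθ 1 hnot1
    rw [apply_one, apply_one] at this
    exact_mod_cast this
  refine ⟨χ, Y, a χ, ε, deg θ, hne, Finset.disjoint_left.1 h.disj h1X, Finset.disjoint_left.1 h.disj hχX,
    h.cardY, (h.block χ).2 (Or.inl hχX), fun η hη => ⟨(h.block η).2 (Or.inr hη), hsame η hη⟩,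
    (h.valX χ hχX).1, h.sign, sgn_eq hp2 (h.valX χ hχX).1 (h.valX χ hχX).2.1,
    mod_of_congr (w := 1) (by simpa using (h.valX χ hχX).1) Nat.one_pos (by omega) (h.valX χ hχX).2.1,
    hYmod θ hθ, hrel, hreg, fun hC y hy hy1 => ?_⟩
  have hXmem : ∀ η ∈ X, η = oneChar G ∨ η = χ := fun η hη => or_iff_not_imp_left.2 fun e =>
    Finset.mem_singleton.1 (hχ ▸ Finset.mem_erase.2 ⟨e, hη⟩)
  have htot : 2 * (p - 1) + (p - 1) / 2 * (2 * (p - 2)) = (p - 1) * p := by
    have hdvd : 2 ∣ p - 1 := by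
      have := hp.out.eq_two_or_odd
      omega
    rw [← mul_assoc, Nat.div_mul_cancel hdvd, mul_comm 2, ← mul_add, show 2 + (p - 2) = p by omega]
  have hout : ∀ η, η ≠ oneChar G → η ≠ χ → η ∉ Y → (η : G → ℂ) y = 0 := fun η h1 h2 h3 =>
    (M11Order91.dvd_outside hP h two_pos (by omega)
      (fun z hz hz1 => (centralizer_conj hP hz hz1).trans hC) htot
      (fun e => (hXmem η e).elim h1 h2) h3).2 y hy hy1
  refine ⟨(h.valX χ hχX).2.2 y hy hy1, hout, ?_⟩
  have ho := CharBasicOrth.sum_irr_mul_conj (1 : G) y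
  rw [if_neg (fun hc => hy1 (isConj_one_right.1 hc)),
    ← Finset.sum_subset (Finset.subset_univ (X ∪ Y)) (fun η _ hη => by
      simp only [Finset.mem_union, not_or] at hη
      rw [hout η (fun e => hη.1 (e ▸ h1X)) (fun e => hη.1 (e ▸ hχX)) hη.2, map_zero, mul_zero]),
    Finset.sum_union h.disj, ← Finset.add_sum_erase _ _ h1X, hχ, Finset.sum_singleton,
    Finset.sum_congr rfl (s₁ := Y) (g := fun η => (deg θ : ℂ) * conj ((η : G → ℂ) y)) fun η hη => by
      rw [apply_one, hsame η hη], ← Finset.mul_sum,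
    (h.valX _ h1X).2.2 y hy hy1, (h.valX χ hχX).2.2 y hy hy1, ha1] at ho
  simp only [apply_one, deg_one, map_intCast, Int.cast_one, Nat.cast_one, mul_one, map_one] at ho
  have hd : (deg θ : ℂ) ≠ 0 := Nat.cast_ne_zero.2 (deg_pos θ).ne'
  refine mul_left_cancel₀ hd ?_
  have hrel' : (ε : ℂ) * (deg θ : ℂ) = 1 + (a χ : ℂ) * (deg χ : ℂ) := by exact_mod_cast hrel
  push_cast
  linear_combination ho + hrel'

theorem not_prime_of {n : ℕ} (hn : Nat.card G = n) (h : ¬ n.Prime) : ¬ IsMulCommutative G :=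
  not_comm_of_not_prime (hn ▸ h)

instance fact5 : Fact (Nat.Prime 5) := ⟨by norm_num⟩
instance fact7 : Fact (Nat.Prime 7) := ⟨by norm_num⟩

theorem ne_4320 : Nat.card G ≠ 4320 := by
  intro hn
  have hG := not_prime_of hn (by norm_num)
  obtain ⟨M, hM⟩ := ZStarCount.exists_isPModular 5 (by norm_num)
  obtain ⟨P⟩ : Nonempty (Sylow 5 G) := inferInstance
  have hP : Nat.card ↥(P : Subgroup G) = 5 := sylow_card_of_once (by rw [hn]) (by rw [hn]; norm_num) P
  have hd := mem_cand hG (p := 5) (v := 1) (m := 864) Nat.one_pos (by rw [hn]; norm_num) (by norm_num)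
  obtain ⟨e, he, hC, hN⟩ := exists_eList hG P hP
  rw [hn] at hd he hC hN
  have key : ∀ d ∈ cand 4320 5 864, ∀ e ∈ eList 4320 5 d,
      (e = 2 ∨ e = 4) ∧ e * (4320 / d / e) = 4320 / d ∧ (4320 / d / e = 5 → e = 4 ∧ 4320 / d = 20) := by
    decide +kernel
  obtain ⟨he24, hmul, hfive⟩ := key _ hd e he
  have hrel := relIndex_eq (P := P) (e := e) (by rw [← hC, ← hN, hmul])
  have hsmall : smallB 4320 5 2 = true ∧ smallB 4320 5 4 = true := by decide +kernel
  have hC5 : Nat.card ↥(Subgroup.centralizer ((P : Subgroup G) : Set G)) = 5 :=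
    centralizer_eq_of_smallB hG hM hP hn (by norm_num) e hrel (by omega) (by omega)
      (by rcases he24 with rfl | rfl; exacts [hsmall.1, hsmall.2])
  obtain ⟨rfl, h20⟩ := hfive (hC.trans hC5)
  obtain ⟨y, hy, hy1, t, ht, hinv⟩ := exists_inverting hP (by norm_num) hC5 (by rw [← hN, h20]; norm_num)
  obtain ⟨h8, hp5, hlt, hdvd⟩ := centralizer_data hG (by norm_num) hP hC5 (by rw [hn]; norm_num) ht
  rw [hn] at hlt hdvd
  obtain ⟨j, hj⟩ := h8
  have kills : ∀ j ∈ List.range 541, 4320 % (8 * j) = 0 → 8 * j % 5 ≠ 0 → 8 * j < 4320 →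
      killB 4320 5 432 (8 * j) = true := by decide +kernel
  exact false_of_killB hG hM hP hn (by norm_num) hrel hC5 hy hy1 ht hinv hj (kills j
    (List.mem_range.2 (by omega)) (Nat.mod_eq_zero_of_dvd (hj ▸ hdvd))
    (fun h => hp5 (hj ▸ Nat.dvd_of_mod_eq_zero h)) (hj ▸ hlt))

theorem ne_5040 : Nat.card G ≠ 5040 := by
  intro hn
  have hG := not_prime_of hn (by norm_num)
  haveI : Fact (Nat.Prime 2) := ⟨Nat.prime_two⟩
  haveI : Fact (Nat.Prime 3) := ⟨Nat.prime_three⟩
  obtain ⟨M, hM⟩ := ZStarCount.exists_isPModular 7 (by norm_num)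
  obtain ⟨P⟩ : Nonempty (Sylow 7 G) := inferInstance
  have hP : Nat.card ↥(P : Subgroup G) = 7 := sylow_card_of_once (by rw [hn]) (by rw [hn]; norm_num) P
  have hd := mem_cand hG (p := 7) (v := 1) (m := 720) Nat.one_pos (by rw [hn]; norm_num) (by norm_num)
  obtain ⟨e, he, hC, hN⟩ := exists_eList hG P hP
  have hi := iOK_index hG [7, 5] _ (normalizer_ne_top hG (by rw [hn]; norm_num) P)
  rw [show (Subgroup.normalizer ((P : Subgroup G) : Set G)).index = Nat.card (Sylow 7 G) from
    P.card_eq_index_normalizer.symm] at hi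
  rw [hn] at hd he hC hN hi
  have key : ∀ d ∈ cand 5040 7 720, iOK 5040 [7, 5] d = true → ∀ e ∈ eList 5040 7 d,
      e * (5040 / d / e) = 5040 / d ∧
      ((e = 6 ∧ (5040 / d / e = 7 → 5040 / d = 42)) ∨ (e = 3 ∧ 5040 / d / e ≠ 7) ∨
        (e = 2 ∧ (5040 / d / e % 2 = 0 ∨ (d = 120 ∧ 5040 / d / e = 21)))) := by decide +kernel
  obtain ⟨hmul, hcases⟩ := key _ hd hi e he
  have hrel := relIndex_eq (P := P) (e := e) (by rw [← hC, ← hN, hmul])
  have hsmall : smallB 5040 7 3 = true ∧ smallB 5040 7 6 = true := by decide +kernel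
  rcases hcases with ⟨rfl, h42⟩ | ⟨rfl, h7⟩ | ⟨rfl, he2⟩
  · have hC7 := centralizer_eq_of_smallB hG hM hP hn (by norm_num) 6 hrel (by norm_num) (by norm_num) hsmall.2
    obtain ⟨y, hy, hy1, t, ht, hinv⟩ := exists_inverting hP (by norm_num) hC7
      (by rw [← hN, h42 (hC.trans hC7)]; norm_num)
    obtain ⟨h8, hp7, hlt, hdvd⟩ := centralizer_data hG (by norm_num) hP hC7 (by rw [hn]; norm_num) ht
    rw [hn] at hlt hdvd
    obtain ⟨j, hj⟩ := h8
    have kills : ∀ j ∈ List.range 631, 5040 % (8 * j) = 0 → 8 * j % 7 ≠ 0 → 8 * j < 5040 →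
        killB 5040 7 720 (8 * j) = true := by decide +kernel
    exact false_of_killB hG hM hP hn (by norm_num) hrel hC7 hy hy1 ht hinv hj (kills j
      (List.mem_range.2 (by omega)) (Nat.mod_eq_zero_of_dvd (hj ▸ hdvd))
      (fun h => hp7 (hj ▸ Nat.dvd_of_mod_eq_zero h)) (hj ▸ hlt))
  · exact h7 (hC.trans (centralizer_eq_of_smallB hG hM hP hn (by norm_num) 3 hrel (by norm_num) (by norm_num) hsmall.1))
  · rcases he2 with heven | ⟨hd120, h21⟩
    · rw [hC] at heven
      obtain ⟨⟨u, huC⟩, hu⟩ := exists_prime_orderOf_dvd_card' 2 (Nat.dvd_of_mod_eq_zero heven)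
      rw [Subgroup.orderOf_mk] at hu
      have hu1 : u ≠ 1 := fun e => by rw [e, orderOf_one] at hu; omega
      obtain ⟨χ, Y, a, ε, D, hχ1, h1Y, hχY, hYc, hχB, hYd, -, hε, hsgn, hdmod, hDmod, heq, -, -⟩ :=
        two_block hM hP (by norm_num) hrel
      obtain ⟨θ, hθ⟩ : Y.Nonempty := Finset.card_pos.1 (by rw [hYc]; norm_num)
      have hθ1 : θ ≠ oneChar G := fun e => h1Y (e ▸ hθ)
      have hval : ∀ η : IrrCharacter G, η ∈ principalBlock M G → η ≠ oneChar G →
          ∃ j : ℕ, 0 < j ∧ 2 * (7 * j) ≤ deg η ∧ (η : G → ℂ) u = (deg η : ℂ) - 4 * ((7 * j : ℕ) : ℂ) :=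
        fun η h1 h2 => value_centralizing_involution hM hP hG (by norm_num) h1 h2 huC hu
      obtain ⟨jχ, jχ0, jχle, hχu⟩ := hval χ hχB hχ1
      obtain ⟨jθ, jθ0, jθle, -⟩ := hval θ (hYd θ hθ).1 hθ1
      rw [(hYd θ hθ).2] at jθle
      have hdle : deg χ < 71 := by
        by_contra h
        have := deg_sq_lt hχ1
        have := Nat.mul_le_mul (Nat.le_of_not_lt h) (Nat.le_of_not_lt h)
        omega
      have hDle : D < 71 := by
        by_contra h
        have := deg_sq_lt hθ1
        rw [(hYd θ hθ).2] at this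
        have := Nat.mul_le_mul (Nat.le_of_not_lt h) (Nat.le_of_not_lt h)
        omega
      have keyd : ∀ d ∈ List.range 71, ∀ D ∈ List.range 71, 14 ≤ d → 14 ≤ D → 5040 % d = 0 → 5040 % D = 0 →
          (d % 7 = 1 ∨ d % 7 = 6) → (D % 7 = 2 ∨ D % 7 = 5) →
          ((d % 7 = 1 → D = d + 1) ∧ (d % 7 = 6 → D + 1 = d)) → d = 15 ∧ D = 16 := by decide +kernel
      have hrl : (deg χ % 7 = 1 → D = deg χ + 1) ∧ (deg χ % 7 = 6 → D + 1 = deg χ) := by
        unfold sgn at hsgn
        constructor <;> intro hm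
        · rw [if_pos hm] at hsgn
          rw [← hsgn] at heq
          rcases hε with rfl | rfl <;> omega
        · rw [if_neg (by omega)] at hsgn
          rw [← hsgn] at heq
          rcases hε with rfl | rfl <;> omega
      obtain ⟨e15, e16⟩ := keyd _ (List.mem_range.2 hdle) _ (List.mem_range.2 hDle) (by omega) (by omega)
        (Nat.mod_eq_zero_of_dvd (hn ▸ deg_dvd χ)) (Nat.mod_eq_zero_of_dvd ((hYd θ hθ).2 ▸ hn ▸ deg_dvd θ))
        hdmod hDmod hrl
      -- the column of `u`
      set H := Subgroup.centralizer ({u} : Set G) with hH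
      have h602 : 602 ≤ Nat.card ↥H := by
        have h := CharBasicOrth.sum_irr_mul_conj u u
        rw [if_pos (IsConj.refl u), ← hH] at h
        simp only [Complex.mul_conj, ← Complex.ofReal_sum] at h
        have h' : ∑ η : IrrCharacter G, Complex.normSq ((η : G → ℂ) u) = (Nat.card ↥H : ℝ) := by exact_mod_cast h
        have hle := Finset.sum_le_sum_of_subset_of_nonneg (f := fun η : IrrCharacter G => Complex.normSq ((η : G → ℂ) u))
          (Finset.subset_univ (insert (oneChar G) (insert χ Y))) fun _ _ _ => Complex.normSq_nonneg _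
        rw [h', Finset.sum_insert (by simp [Ne.symm hχ1, h1Y]), Finset.sum_insert hχY] at hle
        have hy : ∀ η ∈ Y, Complex.normSq ((η : G → ℂ) u) = 144 := by
          intro η hη
          obtain ⟨j, hj0, hjle, hj⟩ := hval η (hYd η hη).1 (fun e => h1Y (e ▸ hη))
          rw [(hYd η hη).2, e16] at hjle hj
          obtain rfl : j = 1 := by omega
          rw [hj, show ((16 : ℕ) : ℂ) - 4 * ((7 * 1 : ℕ) : ℂ) = ((-12 : ℝ) : ℂ) by push_cast; ring,
            Complex.normSq_ofReal]
          norm_num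
        rw [e15] at jχle hχu
        obtain rfl : jχ = 1 := by omega
        rw [Finset.sum_congr rfl hy, Finset.sum_const, hYc, hχu,
          show ((15 : ℕ) : ℂ) - 4 * ((7 * 1 : ℕ) : ℂ) = ((-13 : ℝ) : ℂ) by push_cast; ring,
          Complex.normSq_ofReal] at hle
        simp only [BlockPrincipal81.oneChar, map_one, nsmul_eq_mul] at hle
        norm_num at hle
        rw [Nat.card_eq_fintype_card]
        exact_mod_cast hle
      have hidx := iOK_index hG [7, 5] H (centralizer_ne_top hG hu1)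
      rw [hn] at hidx
      have hm := H.card_mul_index
      rw [hn] at hm
      have hle : H.index ≤ 8 := by
        by_contra h
        have := Nat.mul_le_mul h602 (show 9 ≤ H.index by omega)
        omega
      have keyi : ∀ i ∈ List.range 9, 5040 % i = 0 → iOK 5040 [7, 5] i = false := by decide +kernel
      rw [keyi _ (List.mem_range.2 (by omega)) (Nat.mod_eq_zero_of_dvd (Dvd.intro_left _ hm))] at hidx
      exact Bool.false_ne_true hidx
    · -- a subgroup of order 3 centralising `P`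
      rw [hC] at h21
      set C := Subgroup.centralizer ((P : Subgroup G) : Set G) with hCdef
      set N := Subgroup.normalizer ((P : Subgroup G) : Set G) with hNdef
      obtain ⟨Q⟩ : Nonempty (Sylow 3 ↥C) := inferInstance
      have hQ : Nat.card ↥(Q : Subgroup ↥C) = 3 :=
        sylow_card_of_once (by rw [h21]) (by rw [h21]; norm_num) Q
      have hPC : (P : Subgroup G) ≤ C := SimpleSearch.le_centralizer_self hP
      have hnq : Subgroup.normalizer ((Q : Subgroup ↥C) : Set ↥C) = ⊤ := by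
        refine Subgroup.eq_top_of_card_eq _ (le_antisymm ?_ ?_)
        · exact Nat.card_le_card_of_injective _ Subtype.val_injective
        · rw [h21]
          refine Nat.le_of_dvd Nat.card_pos (Nat.Coprime.mul_dvd_of_dvd_of_dvd (by norm_num : Nat.Coprime 3 7) ?_ ?_)
          · exact hQ.symm.dvd.trans (Subgroup.card_dvd_of_le Subgroup.le_normalizer)
          · have h7 : Nat.card ↥((P : Subgroup G).subgroupOf C) = 7 := by
              rw [Nat.card_congr (Subgroup.subgroupOfEquivOfLe hPC).toEquiv, hP]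
            refine h7.symm.dvd.trans (Subgroup.card_dvd_of_le fun x hx => ?_)
            rw [Subgroup.mem_normalizer_iff]
            intro g
            have e : x * g = g * x := Subtype.ext (Subgroup.mem_centralizer_iff.1 g.2 (x : G) hx)
            rw [e, mul_inv_cancel_right]
      haveI hsub : Subsingleton (Sylow 3 ↥C) := by
        have h1 : Nat.card (Sylow 3 ↥C) = (Subgroup.normalizer ((Q : Subgroup ↥C) : Set ↥C)).index :=
          Q.card_eq_index_normalizer
        rw [hnq, Subgroup.index_top] at h1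
        exact (Nat.card_eq_one_iff_unique.1 h1).1
      set X := (Q : Subgroup ↥C).map C.subtype with hX
      have hX3 : Nat.card ↥X = 3 := by rw [hX, Subgroup.card_map_of_injective C.subtype_injective, hQ]
      have hNC : N ≤ Subgroup.normalizer (C : Set G) := by
        have hn' : (C.subgroupOf N).Normal := Subgroup.normal_subgroupOf_centralizer_normalizer _
        exact (Subgroup.normal_subgroupOf_iff_le_normalizer (Subgroup.centralizer_le_normalizer _)).1 hn'
      have hle : N ≤ Subgroup.normalizer (X : Set G) := fun g hg =>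
        M11Order91.normalizes_of_unique Q (fun R => Subsingleton.elim R Q) (hNC hg)
      have htop : Subgroup.normalizer (X : Set G) ≠ ⊤ := fun h => by
        rcases eq_bot_or_top (Subgroup.normalizer_eq_top_iff.1 h) with h' | h'
        · rw [h', Subgroup.card_bot] at hX3; omega
        · rw [h', Subgroup.card_top, hn] at hX3; omega
      obtain ⟨R, hR⟩ := (IsPGroup.of_card (G := ↥X) (p := 3) (n := 1) (by rw [hX3, pow_one])).exists_le_sylow
      have hR9 : Nat.card ↥(R : Subgroup G) = 3 ^ 2 :=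
        sylow_card_of_eq (k := 2) (m := 560) (by rw [hn]; norm_num) (by norm_num) R
      have h9 : 9 ∣ Nat.card ↥(Subgroup.normalizer (X : Set G)) := by
        haveI := IsPGroup.isMulCommutative_of_card_eq_prime_sq hR9
        have : (R : Subgroup G) ≤ Subgroup.normalizer (X : Set G) := by
          have hXn : (X.subgroupOf (R : Subgroup G)).Normal := ⟨fun x hx g => by
            have e : g * x * g⁻¹ = x := by
              rw [IsMulCommutative.is_comm.comm g x, mul_inv_cancel_right]
            rw [e]; exact hx⟩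
          exact (Subgroup.normal_subgroupOf_iff_le_normalizer hR).1 hXn
        have h := Subgroup.card_dvd_of_le this
        rwa [hR9] at h
      have h1 := Subgroup.relIndex_mul_index hle
      rw [show N.index = 120 from P.card_eq_index_normalizer.symm.trans hd120] at h1
      have h2 : N.relIndex (Subgroup.normalizer (X : Set G)) % 7 = 1 :=
        SimpleCentralizerKill.relIndex_mod_of_normalizer_le P hle
      have h3 := iOK_index hG [7, 5] _ htop
      rw [hn] at h3
      set i := (Subgroup.normalizer (X : Set G)).index with hidef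
      have hm := (Subgroup.normalizer (X : Set G)).card_mul_index
      rw [hn] at hm
      have keyi : ∀ i ∈ List.range 121, 120 % i = 0 → 120 / i % 7 = 1 → iOK 5040 [7, 5] i = true →
          5040 / i % 9 = 0 → i = 15 := by decide +kernel
      have hi0 : 0 < i := Nat.pos_of_ne_zero Subgroup.index_ne_zero_of_finite
      have hi15 : i = 15 := keyi i (List.mem_range.2 (Nat.lt_succ_of_le (Nat.le_of_dvd (by norm_num)
          (Dvd.intro_left _ h1)))) (Nat.mod_eq_zero_of_dvd (Dvd.intro_left _ h1))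
        (by rw [← h1, Nat.mul_div_cancel _ hi0]; exact h2) h3
        (by rw [← hm, Nat.mul_div_cancel _ hi0]; exact Nat.mod_eq_zero_of_dvd h9)
      obtain ⟨⟨x, hxX⟩, hx⟩ := exists_prime_orderOf_dvd_card' 3 (G := ↥X) (by rw [hX3])
      rw [Subgroup.orderOf_mk] at hx
      have hx1 : x ≠ 1 := fun e => by rw [e, orderOf_one] at hx; omega
      refine hx1 (M11Order91.eq_one_of_all_fixed htop ?_)
      have hf := M11Order91.fixed_mod P hle (Subgroup.map_subtype_le _ hxX)
      have hmv := M11Order91.moved_dvd (α := G ⧸ Subgroup.normalizer (X : Set G)) (r := 3) (k := 1)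
        (g := x) (by rw [pow_one, ← hx]; exact pow_orderOf_eq_one x)
      have hle' : Nat.card (MulAction.fixedBy (G ⧸ Subgroup.normalizer (X : Set G)) x) ≤ 15 :=
        (Nat.card_le_card_of_injective _ Subtype.val_injective).trans hi15.le
      rw [← Subgroup.index, ← hidef, hi15] at hmv
      rw [← hidef, hi15]
      omega

end Cfsg.Agent.SmallOrders91
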