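import Mathlib
import Cfsg.Agent.Lib.SimpleRange30
import Cfsg.Agent.Lib.SmallOrders91
import Cfsg.Agent.Lib.PSLCard
import Cfsg.Agent.S0999

/-!
The orders `4960`, `5104`, `5460`, `5600` and `5724` are not orders of simple groups.
-/

set_option autoImplicit false
set_option linter.style.haveILetI false

namespace Cfsg.Agent.SimpleRange30

open Cfsg Cfsg.Agent.BlockPrime86 Cfsg.Agent.BlockPrincipal81 Cfsg.Agent.BlockCount91
  Cfsg.Agent.SimpleOrder Cfsg.Agent.SimpleOrderCheck Cfsg.Agent.SimpleSearch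

section Large

variable {G : Type*} [Group G] [Finite G] [IsSimpleGroup G]

/-- A prime divisor `p` with `n < p ^ 3` forces the order `p * (p ^ 2 - 1) / 2`. -/
theorem ne_of_big_prime {n p : ℕ} (hp : p.Prime) (hodd : p % 2 = 1) (hdvd : p ∣ n) (hbig : n < p ^ 3)
    (hn1 : ¬ n.Prime) (h1 : 2 * n ≠ p * (p ^ 2 - 1)) (h2 : ∀ m ∈ List.range 14, p ≠ 2 ^ m + 1)
    (hp14 : p ≤ 8000) : Nat.card G ≠ n := by
  intro hn
  have hG := not_comm_of_not_prime (G := G) (hn ▸ hn1)
  have hc : ¬ IsCyclic G := fun h => hG IsCyclic.isMulCommutative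
  rcases S0999.result hc p hp (hn ▸ hdvd) (hn ▸ hbig) with
    ⟨F, iF, iT, hF, -, ⟨e⟩⟩ | ⟨m, F, iF, iT, -, hpm, -, -⟩
  · have hcard : Nat.card F = p := by rw [Nat.card_eq_fintype_card, hF]
    have hodd' : Odd (Nat.card F) := hcard ▸ Nat.odd_iff.2 hodd
    have h := PSLCard.card_PSL2_odd (F := F) hodd'
    rw [hcard, ← Nat.card_congr e.toEquiv, hn] at h
    apply h1
    have h4 : Even (p * (p ^ 2 - 1)) := by
      refine Even.mul_left ?_ p
      rw [Nat.even_sub (Nat.one_le_pow _ _ hp.pos)]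
      simp [Nat.even_iff, Nat.pow_mod, hodd]
    obtain ⟨r, hr⟩ := h4
    omega
  · refine h2 m (List.mem_range.2 ?_) hpm
    by_contra hm
    have := Nat.pow_le_pow_right (show 1 ≤ 2 by norm_num) (not_lt.1 hm)
    omega

theorem ne_4960 : Nat.card G ≠ 4960 :=
  ne_of_big_prime (p := 31) (by norm_num) (by norm_num) (by norm_num) (by norm_num) (by norm_num)
    (by norm_num) (by decide +kernel) (by norm_num)

theorem ne_5104 : Nat.card G ≠ 5104 :=
  ne_of_big_prime (p := 29) (by norm_num) (by norm_num) (by norm_num) (by norm_num) (by norm_num)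
    (by norm_num) (by decide +kernel) (by norm_num)

theorem ne_5724 : Nat.card G ≠ 5724 :=
  ne_of_big_prime (p := 53) (by norm_num) (by norm_num) (by norm_num) (by norm_num) (by norm_num)
    (by norm_num) (by decide +kernel) (by norm_num)

end Large

section Blocks

variable {G : Type*} [Group G] [Fintype G] [IsSimpleGroup G]

/-- The centralizer of a Sylow subgroup of order `p` and the index in its normalizer. -/
theorem block_data (hG : ¬ IsMulCommutative G) {n p : ℕ} [hp : Fact p.Prime] (hn : Nat.card G = n)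
    (hp2 : p ≠ 2) (h0 : n % p = 0) (h1 : n / p % p ≠ 0) (good : ℕ → ℕ → Bool)
    (hall : ((cand n p (n / p)).all fun d => !iOK n [] d ||
      (eList n p d).all fun e => decide (1 < e) && decide (e < p) && decide (e * (n / d / e) = n / d) &&
        ((decide (n / d / e ≠ p) && smallB n p e) || (decide (n / d / e = p) && good d e))) = true)
    (P : Sylow p G) :
    Nat.card ↥(P : Subgroup G) = p ∧ ∃ e, good (Nat.card (Sylow p G)) e = true ∧
      (Subgroup.centralizer ((P : Subgroup G) : Set G)).relIndex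
        (Subgroup.normalizer ((P : Subgroup G) : Set G)) = e ∧
      Nat.card ↥(Subgroup.centralizer ((P : Subgroup G) : Set G)) = p := by
  obtain ⟨M, hM⟩ := ZStarCount.exists_isPModular p hp.out
  subst hn
  have hP := sylow_card_of_once h0 h1 P
  refine ⟨hP, ?_⟩
  have hd := mem_cand hG (p := p) (v := 1) (m := Nat.card G / p) Nat.one_pos
    (by rw [pow_one]; exact (Nat.mul_div_cancel' (Nat.dvd_of_mod_eq_zero h0)).symm)
    (fun h' => h1 (Nat.mod_eq_zero_of_dvd h'))
  obtain ⟨e, he, hC, hN⟩ := exists_eList hG P hP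
  have hi := iOK_index hG [] _ (normalizer_ne_top hG (Nat.dvd_of_mod_eq_zero h0) P)
  rw [show (Subgroup.normalizer ((P : Subgroup G) : Set G)).index = Nat.card (Sylow p G) from
    P.card_eq_index_normalizer.symm] at hi
  rw [List.all_eq_true] at hall
  have h' := hall _ hd
  rw [hi] at h'
  simp only [Bool.not_true, Bool.false_or, List.all_eq_true, Bool.and_eq_true, Bool.or_eq_true,
    decide_eq_true_eq] at h'
  obtain ⟨⟨⟨he1, hep⟩, hmul⟩, hcase⟩ := h' e he
  have hrel := SmallOrders91.relIndex_eq (P := P) (e := e) (by rw [← hC, ← hN, hmul])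
  rcases hcase with ⟨hne, hs⟩ | ⟨heq, hgood⟩
  · exact absurd (hC.trans (centralizer_eq_of_smallB hG hM hP rfl hp2 e hrel he1 hep hs)) hne
  · exact ⟨e, hgood, hrel, hC.symm.trans heq⟩

instance fact7 : Fact (Nat.Prime 7) := ⟨by norm_num⟩
instance fact13 : Fact (Nat.Prime 13) := ⟨by norm_num⟩

theorem ne_5600 : Nat.card G ≠ 5600 := by
  intro hn
  have hG := not_comm_of_not_prime (G := G) (by rw [hn]; norm_num)
  obtain ⟨M, hM⟩ := ZStarCount.exists_isPModular 7 (by norm_num)
  obtain ⟨P⟩ : Nonempty (Sylow 7 G) := inferInstance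
  obtain ⟨hP, e, hgood, hrel, -⟩ := block_data hG hn (p := 7) (by norm_num) (by norm_num) (by norm_num)
    (fun _ e => decide (e = 2)) (by decide +kernel) P
  obtain rfl : e = 2 := by simpa using hgood
  obtain ⟨χ, Y, a, ε, D, hχ1, -, -, hYc, -, hYd, -, hε, hsgn, hdmod, hDmod, heq, -, -⟩ :=
    SmallOrders91.two_block hM hP (by norm_num) hrel
  obtain ⟨θ, hθ⟩ : Y.Nonempty := Finset.card_pos.1 (by rw [hYc]; norm_num)
  have h1 := deg_sq_lt hχ1
  have h2 : deg θ ^ 2 ≤ Nat.card G := by simpa using sum_subset_le ({θ} : Finset (IrrCharacter G))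
  rw [(hYd θ hθ).2, hn] at h2
  rw [hn] at h1
  have key : ∀ d ∈ List.range 75, ∀ D ∈ List.range 75, 5600 % d = 0 → 5600 % D = 0 →
      (d % 7 = 1 → D = d + 1 → 2 ≤ d → False) ∧ (d % 7 = 6 → D + 1 = d → False) := by decide +kernel
  have hd75 : deg χ < 75 := by
    by_contra h
    have := Nat.mul_le_mul (not_lt.1 h) (not_lt.1 h)
    omega
  have hD75 : D < 75 := by
    by_contra h
    have := Nat.mul_le_mul (not_lt.1 h) (not_lt.1 h)
    rw [pow_two] at h2
    omega
  obtain ⟨k1, k2⟩ := key _ (List.mem_range.2 hd75) _ (List.mem_range.2 hD75)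
    (Nat.mod_eq_zero_of_dvd (hn ▸ deg_dvd χ)) (Nat.mod_eq_zero_of_dvd ((hYd θ hθ).2 ▸ hn ▸ deg_dvd θ))
  have h2le := two_le_deg hG hχ1
  unfold BlockCount91.sgn at hsgn
  rcases hdmod with hm | hm
  · rw [if_pos hm] at hsgn
    rw [← hsgn] at heq
    exact k1 hm (by rcases hε with rfl | rfl <;> omega) h2le
  · rw [if_neg (by omega)] at hsgn
    rw [← hsgn] at heq
    exact k2 hm (by rcases hε with rfl | rfl <;> omega)

/-- The final test of the search for a prescribed degree. -/
def finX (n p e : ℕ) (s : ℤ × ℕ) : Bool :=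
  let D := s.1.natAbs
  !(decide (n % D = 0) && decide (D % p = e ∨ D % p = p - e) && decide (s.2 + (p - 1) / e * (D * D) ≤ n))

theorem exists_degree_twelve (hG : ¬ IsMulCommutative G) (hn : Nat.card G = 5460) {M : Ideal AlgInt}
    (hM : IsPModular 13 M) {P : Sylow 13 G} (hP : Nat.card ↥(P : Subgroup G) = 13)
    (he : (Subgroup.centralizer ((P : Subgroup G) : Set G)).relIndex
      (Subgroup.normalizer ((P : Subgroup G) : Set G)) = 4) :
    ∃ χ : IrrCharacter G, deg χ = 12 := by
  by_contra hc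
  push Not at hc
  haveI : Fintype ↥(P : Subgroup G) := Fintype.ofFinite _
  haveI : Fintype (↥(P : Subgroup G) →* ℂˣ) := Fintype.ofFinite _
  obtain ⟨X, Y, a, ε, h⟩ := prime_main hP (by norm_num) hM 4 he
  have hsX : ∀ χ ∈ X, BlockCount91.sgn 13 (deg χ) = a χ := fun χ hχ =>
    sgn_eq (by norm_num) (h.valX χ hχ).1 (h.valX χ hχ).2.1
  have hYmod : ∀ θ ∈ Y, deg θ % 13 = 4 ∨ deg θ % 13 = 13 - 4 := fun θ hθ =>
    mod_of_congr (by rcases h.sign with s | s <;> simp [s]) (by norm_num) (by norm_num) (h.degY θ hθ)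
  have h1X : oneChar G ∈ X := by
    rcases (h.block _).1 (oneChar_mem hM) with hx | hy
    · exact hx
    · have := hYmod _ hy
      rw [deg_one] at this
      norm_num at this
  obtain ⟨θ, hθ⟩ := Finset.card_pos.1 (show 0 < Y.card by rw [h.cardY]; norm_num)
  have hnot1 : ¬ 13 ∣ orderOf (1 : G) := by rw [orderOf_one]; norm_num
  have hsame : ∀ η ∈ Y, deg η = deg θ := fun η hη => by
    have := h.agree η hη θ hθ 1 hnot1
    rwa [apply_one, apply_one, Nat.cast_inj] at this
  have h1 := h.regular θ hθ 1 hnot1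
  simp only [apply_one] at h1
  have h1' : ε * (deg θ : ℤ) = ∑ χ ∈ X, BlockCount91.sgn 13 (deg χ) * (deg χ : ℤ) := by
    rw [Finset.sum_congr rfl fun χ hχ => by rw [hsX χ hχ]]
    exact_mod_cast h1
  rw [← Finset.add_sum_erase _ _ h1X, deg_one] at h1'
  have h2 := sum_subset_le (X ∪ Y)
  rw [Finset.sum_union h.disj, ← Finset.add_sum_erase _ _ h1X, deg_one,
    Finset.sum_congr rfl (s₁ := Y) (g := fun _ => deg θ ^ 2) fun η hη => by rw [hsame η hη],
    Finset.sum_const, h.cardY, smul_eq_mul, hn] at h2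
  have hk : srch (stepD 5460 13) (finX 5460 13 4) 3 ((dList 5460 13 0).filter fun d => decide (d ≠ 12))
      (1, 1) = true := by decide +kernel
  set m : Multiset ℕ := (X.erase (oneChar G)).val.map deg with hm
  refine srch_sound (stepD 5460 13) (finX 5460 13 4)
    (fun s m => s.1 + (m.map fun d => BlockCount91.sgn 13 d * (d : ℤ)).sum = ε * (deg θ : ℤ) ∧
      s.2 + (13 - 1) / 4 * (deg θ * deg θ) + (m.map fun d => d * d).sum ≤ 5460)
    ?_ (fun s hI => ?_) 3 _ (1, 1) m hk ?_ ?_ ⟨?_, ?_⟩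
  · intro s x m' hI
    simp only [Multiset.map_cons, Multiset.sum_cons] at hI
    exact ⟨_, by rw [stepD, if_pos (by omega)], by simp only; omega, by simp only; omega⟩
  · simp only [Multiset.map_zero, Multiset.sum_zero, add_zero] at hI
    have hD : s.1.natAbs = deg θ := by rcases h.sign with e' | e' <;> rw [e'] at hI <;> omega
    simp [finX, hD, Nat.mod_eq_zero_of_dvd (hn ▸ deg_dvd θ), hYmod θ hθ, hI.2]
  · rw [hm, Multiset.card_map, ← Finset.card_def, Finset.card_erase_of_mem h1X, h.cardX]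
  · intro d hd
    rw [hm, Multiset.mem_map] at hd
    obtain ⟨χ, hχ, rfl⟩ := hd
    obtain ⟨hne, hχX⟩ := Finset.mem_erase.1 hχ
    exact List.mem_filter.2 ⟨mem_dList hG hn hne (Nat.zero_le _)
      (mod_of_congr (w := 1) (by simpa using (h.valX χ hχX).1) Nat.one_pos (by norm_num)
        (h.valX χ hχX).2.1), decide_eq_true (hc χ)⟩
  · rw [hm, Multiset.map_map]
    show (1 : ℤ) + ∑ χ ∈ X.erase (oneChar G), BlockCount91.sgn 13 (deg χ) * (deg χ : ℤ) = _
    rw [h1']
    simp [BlockCount91.sgn]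
  · rw [hm, Multiset.map_map]
    show 1 + (13 - 1) / 4 * (deg θ * deg θ) + ∑ χ ∈ X.erase (oneChar G), deg χ * deg χ ≤ 5460
    simp only [pow_two] at h2
    omega

theorem ne_5460 : Nat.card G ≠ 5460 := by
  intro hn
  have hG := not_comm_of_not_prime (G := G) (by rw [hn]; norm_num)
  obtain ⟨M, hM⟩ := ZStarCount.exists_isPModular 13 (by norm_num)
  obtain ⟨M', hM'⟩ := ZStarCount.exists_isPModular 7 (by norm_num)
  obtain ⟨P⟩ : Nonempty (Sylow 13 G) := inferInstance
  obtain ⟨Q⟩ : Nonempty (Sylow 7 G) := inferInstance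
  obtain ⟨hP, e, hgood, hrel, -⟩ := block_data hG hn (p := 13) (by norm_num) (by norm_num) (by norm_num)
    (fun _ e => decide (e = 4)) (by decide +kernel) P
  obtain rfl : e = 4 := by simpa using hgood
  obtain ⟨χ, hχ⟩ := exists_degree_twelve hG hn hM hP hrel
  obtain ⟨hQ, e, hgood, hrel', hC⟩ := block_data hG hn (p := 7) (by norm_num) (by norm_num) (by norm_num)
    (fun _ e => decide (e = 3)) (by decide +kernel) Q
  obtain rfl : e = 3 := by simpa using hgood
  haveI : Fintype ↥(Q : Subgroup G) := Fintype.ofFinite _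
  haveI : Fintype (↥(Q : Subgroup G) →* ℂˣ) := Fintype.ofFinite _
  obtain ⟨X, Y, a, ε, h⟩ := prime_main hQ (by norm_num) hM' 3 hrel'
  by_cases hX : χ ∈ X
  · have := mod_of_congr (p := 7) (w := 1) (by simpa using (h.valX χ hX).1) Nat.one_pos (by norm_num)
      (h.valX χ hX).2.1
    change deg χ % 7 = 1 ∨ deg χ % 7 = 7 - 1 at this
    rw [hχ] at this
    norm_num at this
  by_cases hY : χ ∈ Y
  · have := mod_of_congr (p := 7) (w := 3) (by rcases h.sign with s | s <;> simp [s]) (by norm_num)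
      (by norm_num) (h.degY χ hY)
    change deg χ % 7 = 3 ∨ deg χ % 7 = 7 - 3 at this
    rw [hχ] at this
    norm_num at this
  have hd : 7 ∣ deg χ := (M11Order91.dvd_outside hQ h (by norm_num) (by norm_num)
    (fun z hz hz1 => (centralizer_conj hQ hz hz1).trans hC) (by norm_num) hX hY).1
  rw [hχ] at hd
  norm_num at hd

end Blocks

end Cfsg.Agent.SimpleRange30
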