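import Cfsg.Agent.Lib.KleinFourOrder79
import Cfsg.Agent.Lib.KleinSelfCent
import Cfsg.Agent.Lib.BrauerReynolds7Cube
import Cfsg.Agent.S0144

/-!
# Simple groups of order four times the product of two odd prime powers

The principal 2-block has degrees `3, 3, 5`, an involution is self-centralizing up to the four-group,
and the group is `A₅`.
-/

set_option autoImplicit false
set_option linter.style.haveILetI false
set_option maxHeartbeats 800000

open scoped ComplexConjugate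

namespace Cfsg.Agent.KleinTwoOddPrimes40

open Cfsg

/-- Every prime divisor is `3` or `r`. -/
def TwoPrimes (r n : ℕ) : Prop := ∀ s : ℕ, s.Prime → s ∣ n → s = 3 ∨ s = r

theorem pure_power {r x : ℕ} (hx : x ≠ 0) (hT : TwoPrimes r x) (s : ℕ)
    (hs : s = 3 ∨ s = r) (hns : ¬ s ∣ x) : ∃ i, x = (if s = 3 then r else 3) ^ i := by
  refine ⟨_, Nat.eq_prime_pow_of_unique_prime_dvd hx ?_⟩
  intro d hd hdx
  rcases hT d hd hdx with rfl | rfl <;> rcases hs with rfl | rfl
  · exact absurd hdx hns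
  · split_ifs with h
    · exact h.symm
    · rfl
  · simp
  · exact absurd hdx hns

/-- A number and a coprime cofactor, both built from `3` and `r`. -/
theorem split_pair {r x A : ℕ} (hx : 1 < x) (hA : 1 < A) (hTx : TwoPrimes r x) (hTA : TwoPrimes r A)
    (hcop : x.Coprime A) (hr : r.Prime) :
    (∃ i t, 0 < i ∧ 0 < t ∧ x = 3 ^ i ∧ A = r ^ t) ∨ (∃ i t, 0 < i ∧ 0 < t ∧ x = r ^ i ∧ A = 3 ^ t) := by
  obtain ⟨u, hu, hux⟩ := Nat.exists_prime_and_dvd hx.ne'
  obtain ⟨v, hv, hvA⟩ := Nat.exists_prime_and_dvd hA.ne'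
  have huv : u ≠ v := fun h => hu.not_dvd_one (hcop ▸ Nat.dvd_gcd hux (h ▸ hvA))
  have hnx : ¬ v ∣ x := fun h => hv.not_dvd_one (hcop ▸ Nat.dvd_gcd h hvA)
  have hnA : ¬ u ∣ A := fun h => hu.not_dvd_one (hcop ▸ Nat.dvd_gcd hux h)
  obtain ⟨i, hi⟩ := pure_power (by omega) hTx v (hTA v hv hvA) hnx
  obtain ⟨t, ht⟩ := pure_power (by omega) hTA u (hTx u hu hux) hnA
  have hi0 : 0 < i := Nat.pos_of_ne_zero (by rintro rfl; simp at hi; omega)
  have ht0 : 0 < t := Nat.pos_of_ne_zero (by rintro rfl; simp at ht; omega)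
  by_cases h3 : u = 3
  · left
    subst h3
    rw [if_pos rfl] at ht
    rcases hTA v hv hvA with rfl | rfl
    · exact absurd rfl huv
    · rw [if_neg (Ne.symm huv)] at hi
      exact ⟨i, t, hi0, ht0, hi, ht⟩
  · right
    have hur : u = r := (hTx u hu hux).resolve_left h3
    subst hur
    rw [if_neg h3] at ht
    rcases hTA v hv hvA with rfl | rfl
    · rw [if_pos rfl] at hi
      exact ⟨i, t, hi0, ht0, hi, ht⟩
    · exact absurd rfl huv

theorem three_mod {i : ℕ} (hi : 0 < i) : 3 ^ i % 3 = 0 :=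
  Nat.mod_eq_zero_of_dvd (dvd_pow_self 3 hi.ne')

/-- `x₁ ≡ x₂ ≡ 3`, `x₃ ≡ 1 (mod 4)`, `x₁ + x₂ = x₃ + 1` and all six numbers are built from two primes. -/
theorem arith {r x₁ x₂ x₃ : ℕ} (hr : r.Prime) (hr3 : r ≠ 3)
    (h1 : x₁ % 4 = 3) (h2 : x₂ % 4 = 3) (h3 : x₃ % 4 = 1) (h3' : 1 < x₃) (hsum : x₁ + x₂ = x₃ + 1)
    (t1 : TwoPrimes r x₁) (t2 : TwoPrimes r x₂) (t3 : TwoPrimes r x₃)
    (s1 : TwoPrimes r ((x₁ - 1) / 2)) (s2 : TwoPrimes r ((x₂ - 1) / 2))
    (s3 : TwoPrimes r ((x₃ + 1) / 2)) : x₁ = 3 ∧ x₂ = 3 ∧ x₃ = 5 := by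
  have hcopm : ∀ x, x % 4 = 3 → x.Coprime ((x - 1) / 2) := fun x hx => by
    refine Nat.Coprime.coprime_dvd_right (Nat.div_dvd_of_dvd (by omega)) ?_
    rw [Nat.coprime_self_sub_right (by omega)]; simp
  have hcopp : x₃.Coprime ((x₃ + 1) / 2) :=
    Nat.Coprime.coprime_dvd_right (Nat.div_dvd_of_dvd (by omega)) (by simp)
  -- the two kinds of `x ≡ 3 (mod 4)`
  have kind : ∀ x, x % 4 = 3 → TwoPrimes r x → TwoPrimes r ((x - 1) / 2) →
      (∃ i, 0 < i ∧ x = 3 ^ i ∧ (i = 1 ∨ ∃ t, 0 < t ∧ (x - 1) / 2 = r ^ t)) ∨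
      (∃ j t, 0 < j ∧ 0 < t ∧ x = r ^ j ∧ x = 2 * 3 ^ t + 1) := by
    intro x hx tx sx
    by_cases h : x = 3
    · exact Or.inl ⟨1, one_pos, by rw [h]; rfl, Or.inl rfl⟩
    · rcases split_pair (show 1 < x by omega) (show 1 < (x - 1) / 2 by omega) tx sx (hcopm x hx) hr with
        ⟨i, t, hi, ht, ex, eA⟩ | ⟨i, t, hi, ht, ex, eA⟩
      · exact Or.inl ⟨i, hi, ex, Or.inr ⟨t, ht, eA⟩⟩
      · exact Or.inr ⟨i, t, hi, ht, ex, by omega⟩
  have h3r : ¬ r ∣ 3 := fun h => hr3 ((Nat.prime_dvd_prime_iff_eq hr Nat.prime_three).1 h)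
  have h1r : ¬ r ∣ 1 := hr.not_dvd_one
  rcases split_pair h3' (show 1 < (x₃ + 1) / 2 by omega) t3 s3 hcopp hr with
    ⟨k, m, hk, hm, e3, eA⟩ | ⟨k, m, hk, hm, e3, eA⟩
  · exfalso
    have m3 := three_mod hk
    have key : ∀ i t j x y, 0 < i → 0 < t → 0 < j → x = 3 ^ i → y = r ^ j → y = 2 * 3 ^ t + 1 →
        x + y = x₃ + 1 → (i = 1 ∨ ∃ u, 0 < u ∧ (x - 1) / 2 = r ^ u) → False := by
      intro i t j x y hi ht hj ex ey ey' hxy hor
      have hit : i = t := by
        rcases lt_trichotomy i t with h | h | h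
        · exfalso
          obtain ⟨d, rfl⟩ := Nat.exists_eq_add_of_lt h
          have hki : i < k := by
            by_contra hc
            have := Nat.pow_le_pow_right (show 0 < 3 by norm_num) (not_lt.1 hc)
            have : 0 < 3 ^ (i + d + 1) := by positivity
            omega
          obtain ⟨c, rfl⟩ := Nat.exists_eq_add_of_lt hki
          have hp : 0 < 3 ^ i := by positivity
          have : 1 + 2 * 3 ^ (d + 1) = 3 ^ (c + 1) := by
            refine Nat.eq_of_mul_eq_mul_left hp ?_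
            rw [mul_add, mul_one, ← mul_assoc, mul_comm (3 ^ i) 2, mul_assoc, ← pow_add, ← pow_add]
            simp only [← add_assoc] at *
            omega
          simp only [pow_succ] at this
          omega
        · exact h
        · exfalso
          obtain ⟨d, rfl⟩ := Nat.exists_eq_add_of_lt h
          have hkt : t < k := by
            by_contra hc
            have := Nat.pow_le_pow_right (show 0 < 3 by norm_num) (not_lt.1 hc)
            have : 0 < 3 ^ (t + d + 1) := by positivity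
            omega
          obtain ⟨c, rfl⟩ := Nat.exists_eq_add_of_lt hkt
          have hp : 0 < 3 ^ t := by positivity
          have : 3 ^ (d + 1) + 2 = 3 ^ (c + 1) := by
            refine Nat.eq_of_mul_eq_mul_left hp ?_
            rw [mul_add, mul_comm (3 ^ t) 2, ← pow_add, ← pow_add]
            simp only [← add_assoc] at *
            omega
          simp only [pow_succ] at this
          omega
      subst hit
      have hk' : k = i + 1 := by
        refine Nat.pow_right_injective (show 2 ≤ 3 by norm_num) ?_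
        show 3 ^ k = 3 ^ (i + 1)
        rw [pow_succ]; omega
      subst hk'
      have hA : r ∣ (3 * 3 ^ i + 1) / 2 := by
        rw [← pow_succ', ← e3, eA]; exact dvd_pow_self r hm.ne'
      have hy : r ∣ 2 * 3 ^ i + 1 := by rw [← ey', ey]; exact dvd_pow_self r hj.ne'
      rcases hor with rfl | ⟨u, hu, hux⟩
      · norm_num at hA hy
        exact h1r (by
          have := Nat.dvd_sub hy hA
          norm_num at this
          have h5 := (Nat.prime_dvd_prime_iff_eq hr Nat.prime_two).1 this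
          subst h5
          omega)
      · have hx : r ∣ (x - 1) / 2 := hux ▸ dvd_pow_self r hu.ne'
        have hx' : r ∣ x - 1 := hx.trans (Nat.div_dvd_of_dvd (by
          have : 3 ^ i % 2 = 1 := by rw [Nat.pow_mod]; norm_num
          omega))
        rw [ex] at hx'
        refine h3r ?_
        have := Nat.dvd_sub hy (hx'.mul_left 2)
        have h6 : 2 * 3 ^ i + 1 - 2 * (3 ^ i - 1) = 3 := by
          have : 0 < 3 ^ i := by positivity
          omega
        rwa [h6] at this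
    rcases kind x₁ h1 t1 s1 with ⟨i, hi, ex, hor⟩ | ⟨i, t, hi, ht, ex, ex'⟩ <;>
      rcases kind x₂ h2 t2 s2 with ⟨j, hj, ey, hor'⟩ | ⟨j, u, hj, hu, ey, ey'⟩
    · have := three_mod hi; have := three_mod hj; omega
    · exact key i u j x₁ x₂ hi hu hj ex ey ey' hsum hor
    · exact key j t i x₂ x₁ hj ht hi ey ex ex' (by omega) hor'
    · have := three_mod ht; have := three_mod hu; omega
  · have m3 := three_mod hm
    have e3' : x₃ = 2 * 3 ^ m - 1 := by omega
    rcases kind x₁ h1 t1 s1 with ⟨i, hi, ex, hor⟩ | ⟨i, t, hi, ht, ex, ex'⟩ <;>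
      rcases kind x₂ h2 t2 s2 with ⟨j, hj, ey, hor'⟩ | ⟨j, u, hj, hu, ey, ey'⟩
    · have hij : i = m ∧ j = m := by
        have hle : ∀ a b : ℕ, a < b → 3 ^ a + 3 ^ b = 2 * 3 ^ m → False := by
          intro a b hab h
          obtain ⟨d, rfl⟩ := Nat.exists_eq_add_of_lt hab
          rcases Nat.lt_or_ge a m with ham | ham
          · obtain ⟨c, rfl⟩ := Nat.exists_eq_add_of_lt ham
            have : 1 + 3 ^ (d + 1) = 2 * 3 ^ (c + 1) := by
              refine Nat.eq_of_mul_eq_mul_left (show 0 < 3 ^ a by positivity) ?_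
              rw [mul_add, mul_one, ← pow_add, ← mul_assoc, mul_comm (3 ^ a) 2, mul_assoc, ← pow_add]
              simp only [← add_assoc] at *
              omega
            simp only [pow_succ] at this
            omega
          · have := Nat.pow_le_pow_right (show 0 < 3 by norm_num) ham
            have := Nat.pow_lt_pow_right (show 1 < 3 by norm_num) (show a < a + d + 1 by omega)
            omega
        have hsum' : 3 ^ i + 3 ^ j = 2 * 3 ^ m := by omega
        rcases lt_trichotomy i j with h | h | h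
        · exact (hle i j h hsum').elim
        · subst h
          have : i = m := Nat.pow_right_injective (show 2 ≤ 3 by norm_num) (show 3 ^ i = 3 ^ m by omega)
          exact ⟨this, this⟩
        · exact (hle j i h (by omega)).elim
      obtain ⟨rfl, rfl⟩ := hij
      rcases hor with rfl | ⟨u, hu, hux⟩
      · norm_num at ex ey e3'
        omega
      · exfalso
        have hx' : r ∣ x₁ - 1 := (hux ▸ dvd_pow_self r hu.ne' : r ∣ (x₁ - 1) / 2).trans
          (Nat.div_dvd_of_dvd (by omega))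
        have hx3 : r ∣ x₃ := e3 ▸ dvd_pow_self r hk.ne'
        have := Nat.dvd_sub hx3 (hx'.mul_left 2)
        rw [show x₃ - 2 * (x₁ - 1) = 1 by omega] at this
        exact h1r this
    · exfalso; have := three_mod hi; have := three_mod hu; omega
    · exfalso; have := three_mod ht; have := three_mod hj; omega
    · exfalso; have := three_mod ht; have := three_mod hu; omega

universe v

variable {G : Type v} [Group G] [Fintype G]

/-- The eigenvalues of an element of a perfect group in an irreducible representation. -/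
theorem det_data (hperf : commutator G = ⊤) (χ : IrrCharacter G) (g : G) :
    ∃ (d : ℕ) (μ : Fin d → ℂ), d = charDegree (χ : G → ℂ) ∧ (∀ i, μ i ^ orderOf g = 1) ∧
      ∏ i, μ i = 1 ∧ ∀ k : ℕ, (χ : G → ℂ) (g ^ k) = ∑ i, μ i ^ k := by
  classical
  obtain ⟨n, ρ, hirr, hρ⟩ := χ.2
  obtain ⟨b, μ, hb, hord, -, hpow⟩ := CharBasic.exists_rep_eigenbasis ρ g
  have h1 : charDegree (χ : G → ℂ) = n := by
    rw [← hρ]; simp [charDegree, Representation.char_one]
  have hdet : LinearMap.det (ρ g) = 1 := by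
    have h := BrauerReynolds7.perfect_hom_eq_one hperf
      ((LinearMap.det.comp (ρ : G →* ((Fin n → ℂ) →ₗ[ℂ] (Fin n → ℂ)))).toHomUnits) g
    exact congrArg Units.val h
  have hprod : LinearMap.det (ρ g) = ∏ i, μ i := by
    rw [← LinearMap.det_toMatrix b, show LinearMap.toMatrix b b (ρ g) = Matrix.diagonal μ from ?_,
      Matrix.det_diagonal]
    ext i j
    rw [LinearMap.toMatrix_apply, hb, map_smul, Module.Basis.repr_self, Finsupp.smul_apply,
      Finsupp.single_apply, Matrix.diagonal_apply, smul_eq_mul]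
    rcases eq_or_ne i j with rfl | hne
    · simp
    · simp [hne, Ne.symm hne]
  refine ⟨_, μ, by rw [h1]; simp, hord, hprod.symm.trans hdet, fun k => ?_⟩
  rw [← hρ]
  exact hpow k

/-- Three roots of unity with product one and sum and inverse sum `-1`. -/
theorem three_roots {a b c a' b' c' : ℂ} (ha : a * a' = 1) (hb : b * b' = 1) (hc : c * c' = 1)
    (hp : a * b * c = 1) (hs : a + b + c = -1) (hs' : a' + b' + c' = -1) : a ^ 2 = 1 := by
  have he2 : b * c + a * c + a * b = -1 := by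
    linear_combination (a' + b' + c') * hp + hs' - (b * c) * ha - (a * c) * hb - (a * b) * hc
  have h : (a + 1) * ((a + 1) * (a - 1)) = 0 := by
    linear_combination (a ^ 2) * hs - a * he2 + hp
  rcases mul_eq_zero.1 h with h | h
  · linear_combination (a - 1) * h
  · linear_combination h

open KleinFourOrder79 in
/-- The heart of the proof: the signs of the principal block are known. -/
theorem sign_case [IsSimpleGroup G] (hna : ¬ ∀ a b : G, a * b = b * a) {g₀ r b c : ℕ}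
    (hr : r.Prime) (hr3 : r ≠ 3) (hg₀ : Odd g₀) (hG : Nat.card G = 4 * g₀) (hg : g₀ = 3 ^ b * r ^ c)
    (hperf : commutator G = ⊤)
    {M : Ideal AlgInt} (hM : IsPModular 2 M) (P : Sylow 2 G) (hP4 : Nat.card P = 4)
    (hexp : ∀ x : P, x * x = 1) (hone : ∀ s t : G, orderOf s = 2 → orderOf t = 2 → IsConj s t)
    {J : G} (hJ : J ∈ (P : Subgroup G)) (hJ2 : orderOf J = 2)
    (χ₁ χ₂ χ₃ : IrrCharacter G) (ε₁ ε₂ ε₃ : ℤ)
    (hB : principalBlock M G = {χ : IrrCharacter G |
      (χ : G → ℂ) = (fun _ => 1) ∨ χ = χ₁ ∨ χ = χ₂ ∨ χ = χ₃})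
    (hdist : (χ₁ : G → ℂ) ≠ (fun _ => 1) ∧ (χ₂ : G → ℂ) ≠ (fun _ => 1) ∧
      (χ₃ : G → ℂ) ≠ (fun _ => 1) ∧ χ₁ ≠ χ₂ ∧ χ₁ ≠ χ₃ ∧ χ₂ ≠ χ₃)
    (hε : (ε₁ = 1 ∨ ε₁ = -1) ∧ (ε₂ = 1 ∨ ε₂ = -1) ∧ (ε₃ = 1 ∨ ε₃ = -1))
    (hval : (χ₁ : G → ℂ) J = ε₁ ∧ (χ₂ : G → ℂ) J = ε₂ ∧ (χ₃ : G → ℂ) J = ε₃)
    (hcase : (ε₁ = 1 ∧ ε₂ = 1 ∧ ε₃ = -1) ∨ (ε₁ = -1 ∧ ε₂ = -1 ∧ ε₃ = 1)) :
    Nonempty (G ≃* alternatingGroup (Fin 5)) := by
  classical
  haveI : Fact (Nat.Prime 2) := ⟨Nat.prime_two⟩
  have hJ1 : J ≠ 1 := fun h => by rw [h, orderOf_one] at hJ2; omega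
  obtain ⟨hw, h⟩ := relations hM hP4 hexp hJ hJ2 hone hB hdist hε hval
  have hmemB : ∀ χ, χ ∈ principalBlock M G ↔
      ((χ : G → ℂ) = (fun _ => 1) ∨ χ = χ₁ ∨ χ = χ₂ ∨ χ = χ₃) := fun χ => by rw [hB]; rfl
  have hodd : ∀ χ ∈ principalBlock M G, Odd (charDegree (χ : G → ℂ)) := fun χ hχ =>
    (KleinFourChars79.exists_odd_value hM hP4 hJ2 hχ).choose_spec.2.2
  have hdeg1 : ∀ χ : IrrCharacter G, (χ : G → ℂ) ≠ (fun _ => 1) → 1 < charDegree (χ : G → ℂ) := by
    intro χ hne
    by_contra hc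
    refine hne ?_
    have := BrauerReynolds7.eq_oneChar_of_degree_one hperf (χ := χ) (by
      have := CharAverage.irr_degree_pos χ; omega)
    rw [this]; rfl
  -- degrees are congruent to the signs modulo four
  have hmod : ∀ (χ : IrrCharacter G) (ε : ℤ), (ε = 1 ∨ ε = -1) → (χ : G → ℂ) J = ε →
      (4 : ℤ) ∣ (charDegree (χ : G → ℂ) : ℤ) - ε := by
    intro χ ε _ hχJ
    obtain ⟨d, μ, hd, hord, hprod, hpow⟩ := det_data hperf χ J
    rw [hJ2] at hord
    have hpm : ∀ i, μ i = 1 ∨ μ i = -1 := fun i => sq_eq_one_iff.1 (hord i)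
    set S := Finset.univ.filter fun i => μ i = -1 with hS
    have hprod' : ((-1 : ℂ)) ^ S.card = 1 := by
      refine Eq.trans ?_ hprod
      rw [← Finset.prod_filter_mul_prod_filter_not Finset.univ (fun i => μ i = -1),
        Finset.prod_eq_one (s := Finset.univ.filter fun i => ¬ μ i = -1) (fun i hi =>
          (hpm i).resolve_right (Finset.mem_filter.1 hi).2), mul_one,
        Finset.prod_congr rfl (g := fun _ => (-1 : ℂ)) (fun i hi => (Finset.mem_filter.1 hi).2),
        Finset.prod_const]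
    have hev : Even S.card := by
      by_contra hne
      rw [(Nat.not_even_iff_odd.1 hne).neg_one_pow] at hprod'
      norm_num at hprod'
    have hsum : ∑ i, μ i = (d : ℂ) - 2 * S.card := by
      have h1 : ∀ i, μ i = 1 - 2 * (if μ i = -1 then 1 else 0) := fun i => by
        rcases hpm i with e | e <;> norm_num [e]
      rw [Finset.sum_congr rfl fun i _ => h1 i, Finset.sum_sub_distrib, ← Finset.mul_sum, Finset.sum_boole]
      simp [hS]
    have h1 := hpow 1
    simp only [pow_one] at h1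
    rw [hsum, hχJ] at h1
    have h2 : ε = (d : ℤ) - 2 * S.card := by exact_mod_cast h1
    obtain ⟨k, hk⟩ := hev
    exact ⟨k, by rw [← hd, h2, hk]; push_cast; ring⟩
  obtain ⟨v1, v2, v3⟩ := hval
  obtain ⟨d1, d2, d3, -, -, -⟩ := id hdist
  have m1 := hmod χ₁ ε₁ hε.1 v1
  have m2 := hmod χ₂ ε₂ hε.2.1 v2
  have m3 := hmod χ₃ ε₃ hε.2.2 v3
  have p1 := hdeg1 χ₁ d1
  have p2 := hdeg1 χ₂ d2
  have p3 := hdeg1 χ₃ d3
  have q1 := hodd χ₁ ((hmemB _).2 (by simp))
  have q2 := hodd χ₂ ((hmemB _).2 (by simp))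
  have q3 := hodd χ₃ ((hmemB _).2 (by simp))
  have c1 := CharAverage.charDegree_dvd_card χ₁
  have c2 := CharAverage.charDegree_dvd_card χ₂
  have c3 := CharAverage.charDegree_dvd_card χ₃
  have hcJ : Nat.card (Subgroup.centralizer ({J} : Set G)) ∣ Nat.card G := Subgroup.card_subgroup_dvd_card _
  have hTG : ∀ s : ℕ, s.Prime → s ≠ 2 → s ∣ Nat.card G → s = 3 ∨ s = r := by
    intro s hs hs2 hd
    rw [hG, hg] at hd
    rcases hs.dvd_mul.1 hd with h | h
    · exact absurd ((Nat.prime_dvd_prime_iff_eq hs Nat.prime_two).1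
        (hs.dvd_of_dvd_pow (show s ∣ 2 ^ 2 by simpa using h))) hs2
    rcases hs.dvd_mul.1 h with h | h
    · exact Or.inl ((Nat.prime_dvd_prime_iff_eq hs Nat.prime_three).1 (hs.dvd_of_dvd_pow h))
    · exact Or.inr ((Nat.prime_dvd_prime_iff_eq hs hr).1 (hs.dvd_of_dvd_pow h))
  have hTx : ∀ x : ℕ, Odd x → x ∣ Nat.card G → TwoPrimes r x := fun x hx hd s hs hsx => by
    refine hTG s hs ?_ (hsx.trans hd)
    rintro rfl
    exact (Nat.not_even_iff_odd.2 hx) (even_iff_two_dvd.2 hsx)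
  rcases hcase with ⟨rfl, rfl, rfl⟩ | ⟨rfl, rfl, rfl⟩
  · -- the shape of `PSL(2, q)`, `q ≥ 11`: three coprime factors
    exfalso
    obtain ⟨m, -, hm⟩ := psl_shape hM hP4 hexp hJ hJ2 hB hdist hε ⟨v1, v2, v3⟩ (by norm_num) rfl hw h
    have hx12 : charDegree (χ₁ : G → ℂ) = charDegree (χ₂ : G → ℂ) := by
      have hc := KleinFourChars79.conj_mem hM hP4 hexp hJ hJ2 (χ := χ₁) ((hmemB _).2 (by simp))
      have hs := KleinFourChars79.sum_nu hM hP4 hexp hJ hJ2
      rw [sum_members hB hdist] at hs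
      have hn0 : FSIndicatorSum.nu (BlockPrincipal81.oneChar G : G → ℂ) = 1 := by
        simp [FSIndicatorSum.nu, BlockPrincipal81.oneChar, Nat.card_eq_fintype_card]
      rw [hn0, show (BlockPrincipal81.oneChar G : G → ℂ) J = 1 from rfl, v1, v2, v3] at hs
      have c1 := nu_cases (hodd χ₁ ((hmemB _).2 (by simp)))
      have c2 := nu_cases (hodd χ₂ ((hmemB _).2 (by simp)))
      have c3 := nu_cases (hodd χ₃ ((hmemB _).2 (by simp)))
      obtain ⟨⟨g, hg⟩, hr3⟩ : (∃ g, conj ((χ₁ : G → ℂ) g) ≠ (χ₁ : G → ℂ) g) ∧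
          ∀ g, conj ((χ₃ : G → ℂ) g) = (χ₃ : G → ℂ) g := by
        rcases c1 with ⟨_, n1⟩ | ⟨a1, n1⟩ <;> rcases c2 with ⟨_, n2⟩ | ⟨_, n2⟩ <;>
          rcases c3 with ⟨a3, n3⟩ | ⟨_, n3⟩ <;>
          rw [n1, n2, n3] at hs <;> norm_num at hs
        exact ⟨a1, a3⟩
      rcases (hmemB _).1 hc with e | e | e | e
      · exact absurd (funext fun x => by simpa using congrArg conj (congrFun e x)) d1
      · exact absurd (congrFun (congrArg Subtype.val e) g) hg
      · rw [← e]; simp [charDegree]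
      · exfalso
        refine hdist.2.2.2.2.1 ?_
        refine Subtype.ext (funext fun x => ?_)
        have := congrArg conj (congrFun (congrArg Subtype.val e) x)
        simpa [hr3] using this
    rw [← hx12] at hw
    generalize charDegree (χ₁ : G → ℂ) = x at *
    generalize charDegree (χ₃ : G → ℂ) = q at *
    have hq : q = 2 * x + 1 := by push_cast at hw; omega
    subst hq
    push_cast at m1
    have hA : (x + 1) / 2 ∣ Nat.card G := by
      have hcop : Nat.Coprime ((x + 1) / 2) 8 := by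
        rw [show (8 : ℕ) = 2 ^ 3 by norm_num]
        refine Nat.Coprime.pow_right 3 ?_
        rw [Nat.coprime_comm, Nat.prime_two.coprime_iff_not_dvd]; omega
      refine hcop.dvd_of_dvd_mul_left ?_
      rw [hm]
      refine Dvd.dvd.mul_left ?_ _
      rw [show (2 * x + 1) ^ 3 - (2 * x + 1) = 4 * (2 * x + 1) * x * (x + 1) from
        (Nat.eq_sub_of_add_eq (by ring)).symm]
      exact Dvd.dvd.mul_left (Nat.div_dvd_of_dvd (by omega)) _
    have t1 := hTx x q1 c1
    have t2 := hTx (2 * x + 1) q3 c3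
    have t3 := hTx ((x + 1) / 2) (Nat.odd_iff.2 (by omega)) hA
    have hhalf : (x + 1) / 2 ∣ x + 1 := Nat.div_dvd_of_dvd (by omega)
    obtain ⟨u, hu, hux⟩ := Nat.exists_prime_and_dvd (show x ≠ 1 by omega)
    obtain ⟨v, hv, hvx⟩ := Nat.exists_prime_and_dvd (show 2 * x + 1 ≠ 1 by omega)
    obtain ⟨w, hw', hwx⟩ := Nat.exists_prime_and_dvd (show (x + 1) / 2 ≠ 1 by omega)
    have huv : u ≠ v := fun e => hu.not_dvd_one (by
      have := Nat.dvd_sub (e ▸ hvx) (hux.mul_left 2); rwa [Nat.add_sub_cancel_left] at this)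
    have huw : u ≠ w := fun e => hu.not_dvd_one (by
      have := Nat.dvd_sub (e ▸ (hwx.trans hhalf)) hux; rwa [Nat.add_sub_cancel_left] at this)
    have hvw : v ≠ w := fun e => hv.not_dvd_one (by
      have := Nat.dvd_sub ((e ▸ (hwx.trans hhalf)).mul_left 2) hvx
      rwa [show 2 * (x + 1) - (2 * x + 1) = 1 by omega] at this)
    rcases t1 u hu hux with rfl | rfl <;> rcases t2 v hv hvx with rfl | rfl <;>
      rcases t3 w hw' hwx with rfl | rfl <;> simp_all
  · -- the degrees are `3, 3, 5`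
    push_cast at m1 m2 m3
    have hA : ∀ s : ℕ, s.Prime → (s ∣ (charDegree (χ₁ : G → ℂ) - 1) / 2 ∨
        s ∣ (charDegree (χ₂ : G → ℂ) - 1) / 2 ∨ s ∣ (charDegree (χ₃ : G → ℂ) + 1) / 2) →
        s = 3 ∨ s = r := by
      intro s hs hd
      have hs2 : s ≠ 2 := by
        rintro rfl
        rcases hd with h | h | h <;> omega
      refine hTG s hs hs2 ?_
      have hn : Nat.card G * ((charDegree (χ₁ : G → ℂ) - 1) * (charDegree (χ₂ : G → ℂ) - 1) *
          (charDegree (χ₃ : G → ℂ) + 1)) *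
          Nat.card (Subgroup.centralizer ((P : Subgroup G) : Set G)) ^ 2 =
        8 * Nat.card (Subgroup.centralizer ({J} : Set G)) ^ 3 *
          (charDegree (χ₁ : G → ℂ) * charDegree (χ₂ : G → ℂ) * charDegree (χ₃ : G → ℂ)) := by
        zify [show 1 ≤ charDegree (χ₁ : G → ℂ) by omega, show 1 ≤ charDegree (χ₂ : G → ℂ) by omega]
        linear_combination h
      have hL : s ∣ (charDegree (χ₁ : G → ℂ) - 1) * (charDegree (χ₂ : G → ℂ) - 1) *
          (charDegree (χ₃ : G → ℂ) + 1) := by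
        rcases hd with h | h | h
        · exact ((h.trans (Nat.div_dvd_of_dvd (by omega))).mul_right _).mul_right _
        · exact ((h.trans (Nat.div_dvd_of_dvd (by omega))).mul_left _).mul_right _
        · exact (h.trans (Nat.div_dvd_of_dvd (by omega))).mul_left _
      have hR := hn ▸ (hL.mul_left (Nat.card G)).mul_right
        (Nat.card (Subgroup.centralizer ((P : Subgroup G) : Set G)) ^ 2)
      rcases hs.dvd_mul.1 hR with h | h
      · rcases hs.dvd_mul.1 h with h | h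
        · exact absurd ((Nat.prime_dvd_prime_iff_eq hs Nat.prime_two).1
            (hs.dvd_of_dvd_pow (show s ∣ 2 ^ 3 by simpa using h))) hs2
        · exact (hs.dvd_of_dvd_pow h).trans hcJ
      · rcases hs.dvd_mul.1 h with h | h
        · rcases hs.dvd_mul.1 h with h | h
          · exact h.trans c1
          · exact h.trans c2
        · exact h.trans c3
    obtain ⟨e1, e2, -⟩ := arith hr hr3 (by omega) (by omega) (by omega) p3 (by omega)
      (hTx _ q1 c1) (hTx _ q2 c2) (hTx _ q3 c3)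
      (fun s hs hd => hA s hs (Or.inl hd)) (fun s hs hd => hA s hs (Or.inr (Or.inl hd)))
      (fun s hs hd => hA s hs (Or.inr (Or.inr hd)))
    -- no element of odd order commutes with `J`
    obtain ⟨N, -, -, -, hmemN, hrep⟩ := KleinFourLocal79.exists_odd_subgroup P hP4 hexp hJ hJ1
    have hCP : ∀ z, z ∈ Subgroup.centralizer ({J} : Set G) → z ∈ (P : Subgroup G) := by
      intro z hz
      obtain ⟨x, hxP, hxN⟩ := hrep ⟨z, hz⟩
      suffices hz1 : (x⁻¹ * ⟨z, hz⟩ : Subgroup.centralizer ({J} : Set G)) = 1 by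
        rw [inv_mul_eq_one] at hz1
        rw [hz1] at hxP; exact hxP
      generalize (x⁻¹ * ⟨z, hz⟩ : Subgroup.centralizer ({J} : Set G)) = y at hxN ⊢
      have hy : ¬ 2 ∣ orderOf y := (hmemN y).1 hxN
      have hcomm : Commute J (y : G) := (Subgroup.mem_centralizer_singleton_iff.1 y.2).symm
      obtain ⟨d, μ, hd, hord, hprod, hpow⟩ := det_data hperf χ₁ (J * (y : G))
      rw [e1] at hd; subst hd
      set n := orderOf (y : G) with hn
      have hn' : n = orderOf y := Subgroup.orderOf_coe y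
      have hn0 : 0 < n := orderOf_pos _
      have hyn : (y : G) ^ n = 1 := pow_orderOf_eq_one _
      have hJJ : J ^ 2 = 1 := hJ2 ▸ pow_orderOf_eq_one J
      have hval : ∀ k : ℕ, Odd k → (χ₁ : G → ℂ) ((J * (y : G)) ^ k) = -1 := by
        intro k hk
        obtain ⟨t, rfl⟩ := hk
        have h1 : (J * (y : G)) ^ (2 * t + 1) = J * ((y ^ (2 * t + 1) : Subgroup.centralizer ({J} : Set G)) : G) := by
          rw [hcomm.mul_pow, pow_add J, pow_mul J, hJJ, one_pow, one_mul, pow_one]; rfl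
        rw [h1, KleinFourChars79.sec_const hM hP4 hexp hJ hJ2 ((hmemB _).2 (by simp))
          (fun h2 => hy (h2.trans (orderOf_pow_dvd _))), v1]
        norm_num
      have ho : (J * (y : G)) ^ (2 * n) = 1 := by
        rw [hcomm.mul_pow, pow_mul J, hJJ, one_pow, one_mul, mul_comm, pow_mul, hyn, one_pow]
      have hμ : ∀ i, μ i * μ i ^ (2 * n - 1) = 1 := fun i => by
        rw [← pow_succ', Nat.sub_add_cancel (by omega)]
        obtain ⟨t, ht⟩ := orderOf_dvd_of_pow_eq_one ho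
        rw [ht, pow_mul, hord, one_pow]
      have s1 := (hpow 1).symm.trans (hval 1 odd_one)
      have s2 := (hpow (2 * n - 1)).symm.trans (hval _ ⟨n - 1, by omega⟩)
      rw [Fin.sum_univ_three] at s1 s2
      rw [Fin.prod_univ_three] at hprod
      simp only [pow_one] at s1
      have t0 := three_roots (hμ 0) (hμ 1) (hμ 2) hprod s1 s2
      have t1 : μ 1 ^ 2 = 1 := three_roots (hμ 1) (hμ 0) (hμ 2) (by rw [← hprod]; ring)
        (by rw [← s1]; ring) (by rw [← s2]; ring)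
      have t2 : μ 2 ^ 2 = 1 := three_roots (hμ 2) (hμ 1) (hμ 0) (by rw [← hprod]; ring)
        (by rw [← s1]; ring) (by rw [← s2]; ring)
      have hsq : ∀ i, μ i ^ 2 = 1 := by
        intro i
        fin_cases i
        exacts [t0, t1, t2]
      have hnodd : n % 2 = 1 := by omega
      have hev : n + 1 = 2 * ((n + 1) / 2) := by omega
      have hy1 : (J * (y : G)) ^ (n + 1) = (y : G) := by
        rw [hcomm.mul_pow]
        nth_rewrite 1 [hev]
        rw [pow_mul J, hJJ, one_pow, one_mul, pow_succ, hyn, one_mul]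
      have hχy : (χ₁ : G → ℂ) (y : G) = 3 := by
        rw [← hy1, hpow, Finset.sum_congr rfl fun i _ => show μ i ^ (n + 1) = 1 by
          rw [hev, pow_mul, hsq, one_pow]]
        simp
      refine Subtype.ext ?_
      by_contra hne
      obtain ⟨k, ρ, hirr, hρ⟩ := χ₁.2
      haveI := hirr
      refine CharInduced.not_norm_eq_of_simple hna ρ (fun e => d1 (by rw [← hρ]; exact e)) (y : G) hne ?_
      rw [hρ, hχy]
      have hk : k = 3 := by
        rw [← e1, ← hρ]; simp [charDegree, Representation.char_one]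
      simp [hk]
    obtain ⟨t, ht, ht1, htJ⟩ : ∃ t ∈ (P : Subgroup G), t ≠ 1 ∧ t ≠ J := by
      by_contra! hcon
      haveI : Fintype P := Fintype.ofFinite _
      have hle := Finset.card_le_card (s := (Finset.univ : Finset P)) (t := {⟨1, one_mem _⟩, ⟨J, hJ⟩})
        fun x _ => by
          by_cases hx1 : (x : G) = 1
          · exact Finset.mem_insert.2 (Or.inl (Subtype.ext hx1))
          · exact Finset.mem_insert.2 (Or.inr (Finset.mem_singleton.2 (Subtype.ext (hcon x x.2 hx1))))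
      have h2 := hle.trans Finset.card_le_two
      rw [Finset.card_univ, ← Nat.card_eq_fintype_card, hP4] at h2
      omega
    have ht2 : orderOf t = 2 := orderOf_eq_prime (by rw [pow_two]; exact congrArg Subtype.val (hexp ⟨t, ht⟩)) ht1
    have htc : Commute J t := congrArg Subtype.val (KleinFourLocal79.comm_of_exp P hexp ⟨J, hJ⟩ ⟨t, ht⟩)
    have h8 : ¬ 8 ∣ Nat.card G := fun h8 => by
      rw [hG] at h8
      obtain ⟨k, hk⟩ := h8
      obtain ⟨j, hj⟩ := hg₀
      omega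
    rcases KleinSelfCent.card_twelve_or_alternating hJ2 ht2 htc htJ (fun c hc =>
        KleinFourLocal79.eq_of_mem P hP4 hexp hJ ht hJ1 ht1 htJ
          (hCP c (Subgroup.mem_centralizer_singleton_iff.2 hc.eq))) hone h8 with h12 | ⟨-, he⟩
    · have := c3.trans (dvd_of_eq h12)
      have := Nat.le_of_dvd (by norm_num) this
      exfalso
      interval_cases hh : charDegree (χ₃ : G → ℂ) <;> omega
    · exact he

/-- A simple group of order `4 · 3 ^ b · r ^ c` is alternating of degree five. -/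
theorem alternating_five [IsSimpleGroup G] (hna : ¬ ∀ a b : G, a * b = b * a) {r b c : ℕ}
    (hr : r.Prime) (hr2 : r ≠ 2) (hr3 : r ≠ 3) (hG : Nat.card G = 4 * (3 ^ b * r ^ c)) :
    Nonempty (G ≃* alternatingGroup (Fin 5)) := by
  classical
  haveI : Fact (Nat.Prime 2) := ⟨Nat.prime_two⟩
  have hcyc : ¬ IsCyclic G := fun h => hna fun a b => by
    letI := IsCyclic.commGroup (α := G); exact mul_comm a b
  have hperf := BrauerReynolds7.perfect_of_simple hcyc
  set g₀ := 3 ^ b * r ^ c with hg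
  have hg₀ : Odd g₀ := (Odd.pow (by decide)).mul ((hr.odd_of_ne_two hr2).pow)
  have hnc : ¬ ∃ N : Subgroup G, N.Normal ∧ Nat.card N = g₀ := by
    rintro ⟨N, hN, hNc⟩
    rcases hN.eq_bot_or_eq_top with rfl | rfl
    · rw [Subgroup.card_bot] at hNc
      refine hcyc ?_
      haveI : Fact (Nat.Prime 2) := ⟨Nat.prime_two⟩
      rw [← hNc, mul_one] at hG
      haveI : Finite G := inferInstance
      have hsol : Group.IsSolvable G := S0144.result 2 3 2 0 Nat.prime_two Nat.prime_three (by rw [hG]; norm_num)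
      exact absurd ((Group.IsSolvable.commutator_lt_top_of_nontrivial G).ne hperf) id
    · rw [Subgroup.card_top, hG] at hNc
      have := hg₀.pos
      omega
  set P : Sylow 2 G := default
  obtain ⟨hP4, hexp, hone⟩ := KleinFourOrder79.setup g₀ hg₀ hG hnc P
  obtain ⟨x, hx⟩ := exists_prime_orderOf_dvd_card' 2 (G := (P : Subgroup G)) (by rw [hP4]; norm_num)
  have hJ2 : orderOf (x : G) = 2 := (Subgroup.orderOf_coe x).trans hx
  obtain ⟨M, hM⟩ := BrauerBlocksRegFun.exists_isPModular Nat.prime_two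
  set B := principalBlock M G with hBdef
  obtain ⟨hcard, -⟩ := KleinFourChars79.card_and_rank hM hP4 hexp x.2 hJ2 hone
  have h1 : BlockPrincipal81.oneChar G ∈ BlockContribBounds.members B :=
    BlockContribBounds.mem_members.2 (BlockPrincipal81.oneChar_mem hM)
  have h4 : (BlockContribBounds.members B).card = 4 := by
    rw [← hcard, Nat.card_eq_fintype_card, ← Set.toFinset_card]; rfl
  obtain ⟨χ₁, χ₂, χ₃, h12, h13, h23, he⟩ := Finset.card_eq_three.1
    (show ((BlockContribBounds.members B).erase (BlockPrincipal81.oneChar G)).card = 3 by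
      rw [Finset.card_erase_of_mem h1, h4])
  have hmem : ∀ χ, χ ∈ B ↔ ((χ : G → ℂ) = (fun _ => 1) ∨ χ = χ₁ ∨ χ = χ₂ ∨ χ = χ₃) := by
    intro χ
    rw [← BlockContribBounds.mem_members (B := B), ← Finset.insert_erase h1, he]
    simp only [Finset.mem_insert, Finset.mem_singleton]
    exact or_congr_left ⟨fun h => by rw [h]; rfl, fun h => Subtype.ext h⟩
  have hne : ∀ χ ∈ ({χ₁, χ₂, χ₃} : Finset (IrrCharacter G)), (χ : G → ℂ) ≠ fun _ => 1 := by
    intro χ hχ e
    rw [← he] at hχ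
    exact Finset.ne_of_mem_erase hχ (Subtype.ext e)
  have hsq := KleinFourChars79.sum_sq hM hP4 hexp x.2 hJ2
  have hdist : (χ₁ : G → ℂ) ≠ (fun _ => 1) ∧ (χ₂ : G → ℂ) ≠ (fun _ => 1) ∧
      (χ₃ : G → ℂ) ≠ (fun _ => 1) ∧ χ₁ ≠ χ₂ ∧ χ₁ ≠ χ₃ ∧ χ₂ ≠ χ₃ :=
    ⟨hne _ (by simp), hne _ (by simp), hne _ (by simp), h12, h13, h23⟩
  have hB : B = {χ : IrrCharacter G | (χ : G → ℂ) = (fun _ => 1) ∨ χ = χ₁ ∨ χ = χ₂ ∨ χ = χ₃} :=
    Set.ext hmem
  rw [KleinFourOrder79.sum_members hB hdist] at hsq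
  obtain ⟨z₁, o1, v1, -⟩ := KleinFourChars79.exists_odd_value hM hP4 hJ2 ((hmem χ₁).2 (by simp))
  obtain ⟨z₂, o2, v2, -⟩ := KleinFourChars79.exists_odd_value hM hP4 hJ2 ((hmem χ₂).2 (by simp))
  obtain ⟨z₃, o3, v3, -⟩ := KleinFourChars79.exists_odd_value hM hP4 hJ2 ((hmem χ₃).2 (by simp))
  rw [show (BlockPrincipal81.oneChar G : G → ℂ) (x : G) = 1 from rfl, v1, v2, v3] at hsq
  have hsq' : 1 * 1 + z₁ * z₁ + z₂ * z₂ + z₃ * z₃ = 4 := by exact_mod_cast hsq
  have hz : ∀ z : ℤ, Odd z → 1 ≤ z * z := fun z ⟨k, hk⟩ => by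
    rcases le_or_gt 0 k with h | h <;> rw [hk] <;> nlinarith
  have s1 : z₁ = 1 ∨ z₁ = -1 :=
    mul_self_eq_one_iff.1 (by nlinarith [hz _ o1, hz _ o2, hz _ o3])
  have s2 : z₂ = 1 ∨ z₂ = -1 :=
    mul_self_eq_one_iff.1 (by nlinarith [hz _ o1, hz _ o2, hz _ o3])
  have s3 : z₃ = 1 ∨ z₃ = -1 :=
    mul_self_eq_one_iff.1 (by nlinarith [hz _ o1, hz _ o2, hz _ o3])
  obtain ⟨hw, -⟩ := KleinFourOrder79.relations hM hP4 hexp x.2 hJ2 hone hB hdist ⟨s1, s2, s3⟩ ⟨v1, v2, v3⟩
  have := CharAverage.irr_degree_pos χ₁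
  have := CharAverage.irr_degree_pos χ₂
  have := CharAverage.irr_degree_pos χ₃
  have key : ∀ (a b c : IrrCharacter G) (za zb zc : ℤ),
      (∀ χ, χ ∈ B ↔ ((χ : G → ℂ) = (fun _ => 1) ∨ χ = a ∨ χ = b ∨ χ = c)) →
      ((a : G → ℂ) ≠ (fun _ => 1) ∧ (b : G → ℂ) ≠ (fun _ => 1) ∧ (c : G → ℂ) ≠ (fun _ => 1) ∧
        a ≠ b ∧ a ≠ c ∧ b ≠ c) →
      ((za = 1 ∨ za = -1) ∧ (zb = 1 ∨ zb = -1) ∧ (zc = 1 ∨ zc = -1)) →
      ((a : G → ℂ) (x : G) = za ∧ (b : G → ℂ) (x : G) = zb ∧ (c : G → ℂ) (x : G) = zc) →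
      ((za = 1 ∧ zb = 1 ∧ zc = -1) ∨ (za = -1 ∧ zb = -1 ∧ zc = 1)) →
      Nonempty (G ≃* alternatingGroup (Fin 5)) :=
    fun a b c za zb zc hB' hd hz hv hc =>
      sign_case hna hr hr3 hg₀ hG hg hperf hM P hP4 hexp hone x.2 hJ2 a b c za zb zc
        (Set.ext hB') hd hz hv hc
  obtain ⟨n1, n2, n3, -, -, -⟩ := hdist
  rcases s1 with rfl | rfl <;> rcases s2 with rfl | rfl <;> rcases s3 with rfl | rfl
  · exfalso; omega
  · exact key χ₁ χ₂ χ₃ 1 1 (-1) hmem ⟨n1, n2, n3, h12, h13, h23⟩ (by norm_num) ⟨v1, v2, v3⟩ (by norm_num)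
  · exact key χ₁ χ₃ χ₂ 1 1 (-1) (fun χ => (hmem χ).trans (by tauto))
      ⟨n1, n3, n2, h13, h12, h23.symm⟩ (by norm_num) ⟨v1, v3, v2⟩ (by norm_num)
  · exact key χ₂ χ₃ χ₁ (-1) (-1) 1 (fun χ => (hmem χ).trans (by tauto))
      ⟨n2, n3, n1, h23, h12.symm, h13.symm⟩ (by norm_num) ⟨v2, v3, v1⟩ (by norm_num)
  · exact key χ₂ χ₃ χ₁ 1 1 (-1) (fun χ => (hmem χ).trans (by tauto))
      ⟨n2, n3, n1, h23, h12.symm, h13.symm⟩ (by norm_num) ⟨v2, v3, v1⟩ (by norm_num)
  · exact key χ₁ χ₃ χ₂ (-1) (-1) 1 (fun χ => (hmem χ).trans (by tauto))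
      ⟨n1, n3, n2, h13, h12, h23.symm⟩ (by norm_num) ⟨v1, v3, v2⟩ (by norm_num)
  · exact key χ₁ χ₂ χ₃ (-1) (-1) 1 hmem ⟨n1, n2, n3, h12, h13, h23⟩ (by norm_num) ⟨v1, v2, v3⟩ (by norm_num)
  · exfalso; omega

end Cfsg.Agent.KleinTwoOddPrimes40
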