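import Mathlib
import Cfsg.Agent.Lib.SimpleRangeSpecial30
import Cfsg.Agent.Lib.SelfCentThreeMain
import Cfsg.Agent.S4501
import Cfsg.Agent.S0997
import Cfsg.Agent.S0999

/-!
The orders between `1093` and `3640` needing individual arguments, except `1800` and `3600`.
-/

set_option autoImplicit false
set_option linter.style.haveILetI false

open scoped ComplexConjugate

namespace Cfsg.Agent.SimpleRangeLow81

open Cfsg Cfsg.Agent.BlockPrime86 Cfsg.Agent.BlockPrincipal81 Cfsg.Agent.BlockCount91
  Cfsg.Agent.SimpleOrder Cfsg.Agent.SimpleOrderCheck Cfsg.Agent.SimpleRange30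

attribute [local instance] Classical.propDecidable

variable {G : Type*} [Group G] [Finite G] [IsSimpleGroup G]

theorem exists_noncomm (hG : ¬ IsMulCommutative G) : ∃ x y : G, x * y ≠ y * x := by
  by_contra h
  push Not at h
  exact hG ⟨⟨h⟩⟩

theorem ne_of_four {n p q a b : ℕ} (hp : p.Prime) (hq : q.Prime) (hpq : p ≠ q) (ha : a ≤ 2)
    (hn : n = 4 * p ^ a * q ^ b) (h60 : n ≠ 60) (hn1 : ¬ n.Prime) : Nat.card G ≠ n := by
  intro h
  obtain ⟨e⟩ := (S4501.result (exists_noncomm (not_comm_of_not_prime (G := G) (h ▸ hn1))) p q a b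
    hp hq hpq ha).1 (h.trans hn)
  have := Nat.card_congr e.toEquiv
  rw [h, nat_card_alternatingGroup, Nat.card_fin] at this
  exact h60 (this.trans (by decide))

theorem ne_of_three {n p q a b : ℕ} (hp : p.Prime) (hq : q.Prime) (hpq : p ≠ q) (ha : a ≤ 2)
    (hn : n = 3 * p ^ a * q ^ b) (h60 : n ≠ 60) (h168 : n ≠ 168) (hn1 : ¬ n.Prime) :
    Nat.card G ≠ n := by
  intro h
  rcases (S4501.result (exists_noncomm (not_comm_of_not_prime (G := G) (h ▸ hn1))) p q a b
    hp hq hpq ha).2 (h.trans hn) with ⟨⟨e⟩⟩ | ⟨⟨e⟩⟩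
  · have := Nat.card_congr e.toEquiv
    rw [h, nat_card_alternatingGroup, Nat.card_fin] at this
    exact h60 (this.trans (by decide))
  · haveI : Fact (Nat.Prime 7) := ⟨by norm_num⟩
    have := Nat.card_congr e.toEquiv
    rw [h, PSLCard.card_PSL2_odd (F := ZMod 7) (by rw [Nat.card_zmod]; decide), Nat.card_zmod] at this
    exact h168 (this.trans (by norm_num))

theorem ne_1224 : Nat.card G ≠ 1224 := by
  intro hn
  have hc : ¬ IsCyclic G := fun h =>
    (not_comm_of_not_prime (G := G) (by rw [hn]; norm_num)) IsCyclic.isMulCommutative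
  rcases S0999.result hc 17 (by norm_num) (by rw [hn]; norm_num) (by rw [hn]; norm_num) with
    ⟨F, _, _, hF, -, ⟨e⟩⟩ | ⟨m, F, _, _, hF, hm, -, ⟨e⟩⟩
  · have := Nat.card_congr e.toEquiv
    rw [hn, PSLCard.card_PSL2_odd (F := F) (by rw [Nat.card_eq_fintype_card, hF]; decide),
      Nat.card_eq_fintype_card, hF] at this
    norm_num at this
  · obtain rfl : m = 4 := by
      rcases lt_or_ge m 5 with h | h
      · interval_cases m <;> first | rfl | (norm_num at hm)
      · have := Nat.pow_le_pow_right (show 1 ≤ 2 by norm_num) h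
        omega
    have := Nat.card_congr e.toEquiv
    rw [hn, PSLCard.card_PSL2_even (F := F) (by rw [Nat.card_eq_fintype_card, hF]; decide),
      Nat.card_eq_fintype_card, hF] at this
    norm_num at this

theorem ne_2976 : Nat.card G ≠ 2976 :=
  ne_of_big_prime (p := 31) (by norm_num) (by norm_num) (by norm_num) (by norm_num) (by norm_num)
    (by norm_num) (by decide +kernel) (by norm_num)

theorem ne_1344 : Nat.card G ≠ 1344 :=
  ne_of_three (p := 7) (q := 2) (a := 1) (b := 6) (by norm_num) (by norm_num) (by norm_num)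
    (by norm_num) (by norm_num) (by norm_num) (by norm_num) (by norm_num)

theorem ne_2688 : Nat.card G ≠ 2688 :=
  ne_of_three (p := 7) (q := 2) (a := 1) (b := 7) (by norm_num) (by norm_num) (by norm_num)
    (by norm_num) (by norm_num) (by norm_num) (by norm_num) (by norm_num)

theorem ne_2400 : Nat.card G ≠ 2400 :=
  ne_of_three (p := 5) (q := 2) (a := 2) (b := 5) (by norm_num) (by norm_num) (by norm_num)
    (by norm_num) (by norm_num) (by norm_num) (by norm_num) (by norm_num)

theorem ne_1620 : Nat.card G ≠ 1620 :=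
  ne_of_four (p := 5) (q := 3) (a := 1) (b := 4) (by norm_num) (by norm_num) (by norm_num)
    (by norm_num) (by norm_num) (by norm_num) (by norm_num)

theorem ne_2268 : Nat.card G ≠ 2268 :=
  ne_of_four (p := 7) (q := 3) (a := 1) (b := 4) (by norm_num) (by norm_num) (by norm_num)
    (by norm_num) (by norm_num) (by norm_num) (by norm_num)

theorem ne_2700 : Nat.card G ≠ 2700 :=
  ne_of_four (p := 5) (q := 3) (a := 2) (b := 3) (by norm_num) (by norm_num) (by norm_num)
    (by norm_num) (by norm_num) (by norm_num) (by norm_num)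

theorem ne_3168 : Nat.card G ≠ 3168 := by
  intro hn
  have hc : ¬ IsCyclic G := fun h =>
    (not_comm_of_not_prime (G := G) (by rw [hn]; norm_num)) IsCyclic.isMulCommutative
  rcases S0997.result hc 11 2 5 9 (by norm_num) (by norm_num) (by norm_num) (by rw [hn]; norm_num)
    (by norm_num) with ⟨m, -, -, -, -, hm, -⟩ | ⟨m, -, -, -, -, hm, -⟩
  · rcases hm with hm | hm <;>
    · rcases lt_or_ge m 5 with h | h
      · interval_cases m <;> norm_num at hm
      · have := Nat.pow_le_pow_right (show 1 ≤ 2 by norm_num) h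
        omega
  · rcases lt_or_ge m 5 with h | h
    · interval_cases m <;> norm_num at hm
    · have := Nat.pow_le_pow_right (show 1 ≤ 2 by norm_num) h
      omega

theorem ne_3120 : Nat.card G ≠ 3120 := by
  intro hn
  have hG := not_comm_of_not_prime (G := G) (by rw [hn]; norm_num)
  haveI : Fact (Nat.Prime 3) := ⟨Nat.prime_three⟩
  haveI := Fintype.ofFinite G
  obtain ⟨P⟩ : Nonempty (Sylow 3 G) := inferInstance
  obtain ⟨hP, e, -, -, hC⟩ := block_data hG hn (p := 3) (by norm_num) (by norm_num) (by norm_num)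
    (fun _ _ => true) (by decide +kernel) P
  obtain ⟨x, hxP, hx⟩ : ∃ x ∈ (P : Subgroup G), orderOf x = 3 := by
    obtain ⟨g, hg⟩ := exists_prime_orderOf_dvd_card' 3 (G := ↥(P : Subgroup G)) (dvd_of_eq hP.symm)
    exact ⟨g, g.2, by rw [Subgroup.orderOf_coe, hg]⟩
  have hzP : Subgroup.zpowers x = (P : Subgroup G) :=
    Subgroup.eq_of_le_of_card_ge (Subgroup.zpowers_le.2 hxP) (by rw [hP, Nat.card_zpowers, hx])
  have hCx : Subgroup.centralizer ({x} : Set G) = Subgroup.zpowers x := by
    have hle : Subgroup.zpowers x ≤ Subgroup.centralizer ({x} : Set G) :=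
      Subgroup.zpowers_le.2 (by simp [Subgroup.mem_centralizer_singleton_iff])
    refine (Subgroup.eq_of_le_of_card_ge hle ?_).symm
    rw [Nat.card_zpowers, hx, ← Subgroup.centralizer_closure, ← Subgroup.zpowers_eq_closure, hzP, hC]
  have hsc : SelfCentThreeBase.SC3 x := by
    refine ⟨hx, fun g hg => ?_⟩
    have hmem : g ∈ Subgroup.zpowers x := hCx ▸ Subgroup.mem_centralizer_singleton_iff.2 hg.eq
    classical
    rw [mem_zpowers_iff_mem_range_orderOf, hx] at hmem
    obtain ⟨k, hk, rfl⟩ := Finset.mem_image.1 hmem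
    rw [Finset.mem_range] at hk
    have h3 : x ^ 3 = 1 := hx ▸ pow_orderOf_eq_one x
    interval_cases k
    · exact Or.inl (pow_zero x)
    · exact Or.inr (Or.inl (pow_one x))
    · exact Or.inr (Or.inr (eq_inv_of_mul_eq_one_left (by rw [← pow_succ]; exact h3)))
  rcases SelfCentThreeMain.tri _ G x rfl hsc with ⟨N, hN, hI, h⟩ | ⟨N, T, hN, hlt, -, -, h, -⟩ | ⟨-, h⟩
  · rcases eq_bot_or_top hN with rfl | rfl
    · rw [Subgroup.card_bot, hn] at h
      omega
    · exact hI.cop (by rw [Subgroup.card_top, hn]; norm_num)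
  · rcases eq_bot_or_top hN with rfl | rfl
    · rw [Subgroup.card_bot, hn] at h
      omega
    · exact not_top_lt hlt
  · omega

/-- An involution inverting a self-centralising `P` is centralised by an element of order `3` when
the automizer is the whole automorphism group, of order `6`. -/
theorem exists_inverting_six {P : Sylow 7 G} [Fact (Nat.Prime 7)] (hP : Nat.card ↥(P : Subgroup G) = 7)
    (hrel : (Subgroup.centralizer ((P : Subgroup G) : Set G)).relIndex
      (Subgroup.normalizer ((P : Subgroup G) : Set G)) = 6)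
    (hC : Nat.card ↥(Subgroup.centralizer ((P : Subgroup G) : Set G)) = 7) :
    ∃ y ∈ (P : Subgroup G), y ≠ 1 ∧ ∃ t : G, orderOf t = 2 ∧ t * y * t⁻¹ = y⁻¹ ∧
      3 ∣ Nat.card ↥(Subgroup.centralizer ({t} : Set G)) := by
  haveI hcyc : IsCyclic ↥(P : Subgroup G) := isCyclic_of_prime_card hP
  set N := Subgroup.normalizer ((P : Subgroup G) : Set G) with hN
  let φ : ↥N →* MulAut ↥(P : Subgroup G) := (P : Subgroup G).normalizerMonoidHom
  have hker : φ.ker = (Subgroup.centralizer ((P : Subgroup G) : Set G)).subgroupOf N :=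
    Subgroup.normalizerMonoidHom_ker (P : Subgroup G)
  have hcard : Nat.card (MulAut ↥(P : Subgroup G)) = 6 := by
    rw [IsCyclic.card_mulAut, hP]; decide +kernel
  have hrange : φ.range = ⊤ := by
    refine Subgroup.eq_top_of_card_eq _ ?_
    rw [hcard, ← Subgroup.index_ker, hker]
    exact hrel
  haveI : IsCyclic (MulAut ↥(P : Subgroup G)) := by
    haveI : IsCyclic (ZMod (Nat.card ↥(P : Subgroup G)))ˣ := by
      rw [hP]; infer_instance
    exact isCyclic_of_surjective (IsCyclic.mulAutMulEquiv ↥(P : Subgroup G)).symm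
      (IsCyclic.mulAutMulEquiv ↥(P : Subgroup G)).symm.surjective
  obtain ⟨s, hs⟩ := IsCyclic.exists_generator (α := MulAut ↥(P : Subgroup G))
  have hs6 : orderOf s = 6 := by rw [orderOf_eq_card_of_forall_mem_zpowers hs, hcard]
  obtain ⟨g, hg⟩ : ∃ g : ↥N, φ g = s := by
    have : s ∈ φ.range := hrange ▸ Subgroup.mem_top s
    exact this
  have h6 : 6 ∣ orderOf g := hs6 ▸ hg ▸ orderOf_map_dvd φ g
  set k := orderOf g / 6 with hk
  have hk0 : orderOf g = 6 * k := (Nat.mul_div_cancel' h6).symm
  have hgpos : 0 < k := by have := orderOf_pos g; omega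
  set t : ↥N := g ^ (3 * k) with htd
  set b : ↥N := g ^ (2 * k) with hbd
  have ht : orderOf t = 2 := by
    rw [htd, orderOf_pow, hk0, Nat.gcd_mul_right, Nat.mul_div_mul_right _ _ hgpos]
    norm_num
  have hb : orderOf b = 3 := by
    rw [hbd, orderOf_pow, hk0, Nat.gcd_mul_right, Nat.mul_div_mul_right _ _ hgpos]
    norm_num
  have htG : orderOf (t : G) = 2 := by rw [Subgroup.orderOf_coe, ht]
  have htC : (t : G) ∉ Subgroup.centralizer ((P : Subgroup G) : Set G) := fun h => by
    have h' := Subgroup.orderOf_dvd_natCard _ h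
    rw [htG, hC] at h'
    norm_num at h'
  obtain ⟨y, hy, hy1⟩ : ∃ y ∈ (P : Subgroup G), y ≠ 1 := by
    obtain ⟨⟨y, hy⟩, ho⟩ := exists_prime_orderOf_dvd_card' 7 (G := ↥(P : Subgroup G)) (by rw [hP])
    refine ⟨y, hy, fun e => ?_⟩
    rw [Subgroup.orderOf_mk, e, orderOf_one] at ho
    omega
  refine ⟨y, hy, hy1, t, htG, ?_, ?_⟩
  · have hw : (t : G) * y * (t : G)⁻¹ ∈ (P : Subgroup G) := (Subgroup.mem_normalizer_iff.1 t.2 y).1 hy
    by_contra hne
    have htt : (t : G) * t = 1 := by rw [← pow_two, ← htG]; exact pow_orderOf_eq_one _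
    have htinv : (t : G)⁻¹ = t := inv_eq_of_mul_eq_one_left htt
    set u := y * ((t : G) * y * (t : G)⁻¹) with hu
    have huP : u ∈ (P : Subgroup G) := mul_mem hy hw
    have hu1 : u ≠ 1 := fun e => hne (inv_eq_of_mul_eq_one_right e).symm
    have hfix : (t : G) * u * (t : G)⁻¹ = u := by
      have e : (t : G) * u * (t : G)⁻¹ = ((t : G) * y * (t : G)⁻¹) * y := by
        rw [hu, htinv]
        simp only [mul_assoc]
        rw [htt, mul_one]
      rw [e]
      exact congrArg Subtype.val
        ((IsCyclic.isMulCommutative (α := ↥(P : Subgroup G))).is_comm.comm ⟨_, hw⟩ ⟨y, hy⟩)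
    apply htC
    have he : Subgroup.zpowers u = (P : Subgroup G) := by
      refine Subgroup.eq_of_le_of_card_ge (Subgroup.zpowers_le.2 huP) ?_
      rw [hP, Nat.card_zpowers, orderOf_eq_prime (PGroupsBasic.pow_eq_one_of_card hP huP) hu1]
    rw [← he, Subgroup.zpowers_eq_closure, Subgroup.centralizer_closure,
      Subgroup.mem_centralizer_singleton_iff]
    exact mul_inv_eq_iff_eq_mul.1 hfix
  · have hmem : (b : G) ∈ Subgroup.centralizer ({(t : G)} : Set G) := by
      refine Subgroup.mem_centralizer_singleton_iff.2 ?_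
      rw [← Subgroup.coe_mul, ← Subgroup.coe_mul]
      exact congrArg Subtype.val ((Commute.refl g).pow_pow _ _).eq
    have h := Subgroup.orderOf_dvd_natCard _ hmem
    rwa [Subgroup.orderOf_coe, hb] at h

theorem ne_1512 : Nat.card G ≠ 1512 := by
  intro hn
  have hG := not_comm_of_not_prime (G := G) (by rw [hn]; norm_num)
  haveI := Fintype.ofFinite G
  obtain ⟨M, hM⟩ := ZStarCount.exists_isPModular 7 (by norm_num)
  obtain ⟨P⟩ : Nonempty (Sylow 7 G) := inferInstance
  obtain ⟨hP, e, hgood, hrel, hC⟩ := block_data hG hn (p := 7) (by norm_num) (by norm_num) (by norm_num)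
    (fun _ e => decide (e = 6)) (by decide +kernel) P
  obtain rfl : e = 6 := by simpa using hgood
  obtain ⟨y, hy, hy1, t, ht, hinv, h3⟩ := exists_inverting_six hP hrel hC
  obtain ⟨c, hc⟩ : ∃ c, Nat.card ↥(Subgroup.centralizer ({t} : Set G)) = c := ⟨_, rfl⟩
  have h2 : 2 ∣ c := hc ▸ ht ▸ Subgroup.orderOf_dvd_natCard _
    (Subgroup.mem_centralizer_singleton_iff.2 rfl)
  have hd : c ∣ 1512 := hc ▸ hn ▸ Subgroup.card_subgroup_dvd_card _
  rw [hc] at h3
  have hlt : c ≠ 1512 := fun e => SmallOrders91.centralizer_ne_top hG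
    (u := t) (fun e => by rw [e, orderOf_one] at ht; omega)
    (Subgroup.eq_top_of_card_eq _ (by rw [hc, e, hn]))
  have kills : ∀ j ∈ List.range 253, 1512 % (6 * j) = 0 → 6 * j ≠ 1512 →
      killB 1512 7 216 (6 * j) = true := by decide +kernel
  obtain ⟨j, rfl⟩ : 6 ∣ c := Nat.Coprime.mul_dvd_of_dvd_of_dvd (by norm_num : Nat.Coprime 2 3) h2 h3
  have hj : j ≤ 252 := by have := Nat.le_of_dvd (by norm_num) hd; omega
  exact false_of_killB hG hM hP hn (by norm_num) hrel hC hy hy1 ht hinv hc
    (kills j (List.mem_range.2 (by omega)) (Nat.mod_eq_zero_of_dvd hd) hlt)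

end Cfsg.Agent.SimpleRangeLow81
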