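import Mathlib
import Cfsg.Agent.Lib.SimpleStarKill
import Cfsg.Agent.Lib.DihedralStar68
import Cfsg.Agent.Lib.CharKernel

/-!
A simple group with a self-centralizing subgroup of order `p` whose normalizer is dihedral has
`p * |C(w)| ^ 2 < 4 * |G|` for every involution `w`: two characters of consecutive degrees and the
class algebra (Brauer's argument).
-/

set_option autoImplicit false

open scoped ComplexConjugate
open Finset

namespace Cfsg.Agent.DihedralBound81

open Cfsg.Agent.CharBasic Cfsg.Agent.CharBasicOrth Cfsg.Agent.CharBasicInt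
open Cfsg.Agent.CharBasicLinear Cfsg.Agent.SimpleStarKill Cfsg.Agent.DihedralStar68

variable {G : Type*} [Group G] [Finite G]

theorem exists_int_apply_le {u : G} (hu : orderOf u = 2) (χ : Cfsg.IrrCharacter G) {d : ℕ}
    (hd : (χ : G → ℂ) 1 = d) : ∃ z : ℤ, (χ : G → ℂ) u = z ∧ -(d : ℤ) ≤ z ∧ z ≤ d := by
  haveI : Fact (Nat.Prime 2) := ⟨Nat.prime_two⟩
  obtain ⟨n, hn⟩ := exists_mult hu (isCharacter_of_isIrrCharacter χ.2) (0 : ZMod 2)
  obtain ⟨m, hm⟩ := exists_mult hu (isCharacter_of_isIrrCharacter χ.2) (1 : ZMod 2)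
  have huniv : (Finset.univ : Finset (ZMod 2)) = {0, 1} := by ext z; fin_cases z <;> simp <;> rfl
  have hs := sum_mult (x := u) (p := 2) (χ : G → ℂ)
  rw [huniv, Finset.sum_pair zero_ne_one, hn, hm, hd] at hs
  have hs' : n + m = d := by exact_mod_cast hs
  refine ⟨(n : ℤ) - m, ?_, by omega, by omega⟩
  rw [mult, huniv, Finset.sum_pair zero_ne_one, pw_zero, pw_one, hd] at hn
  simp only [neg_zero, zero_mul, AddChar.map_zero_eq_one, mul_one] at hn
  rw [← hs'] at hn
  push_cast
  push_cast at hn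
  linear_combination (2 : ℂ) * hn

/-- A nontrivial element of a nonabelian simple group lies in no kernel. -/
theorem apply_ne_apply_one [IsSimpleGroup G] {w : G} (hw : w ≠ 1) (χ : Cfsg.IrrCharacter G)
    {d : ℕ} (hd : (χ : G → ℂ) 1 = d) (hd1 : 1 < d) : (χ : G → ℂ) w ≠ (χ : G → ℂ) 1 := by
  intro h
  obtain ⟨n, ρ, hi, hρ⟩ := χ.2
  have hwk : w ∈ MonoidHom.ker ρ := by
    rw [← hρ, Representation.char_one, character_eq_finrank_iff] at h
    exact h
  have htop : MonoidHom.ker ρ = ⊤ := by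
    refine (SimpleOrder.eq_bot_or_top ρ.normal_ker).resolve_left fun h0 => hw ?_
    rw [h0, Subgroup.mem_bot] at hwk
    exact hwk
  have hall : ∀ g ∈ (⊤ : Subgroup G), (χ : G → ℂ) g = (χ : G → ℂ) 1 := fun g _ => by
    have hg : ρ g = 1 := MonoidHom.mem_ker.1 (htop ▸ Subgroup.mem_top g)
    rw [← hρ, Representation.char_one, character_eq_finrank_iff]
    exact hg
  obtain ⟨ψ, hψ⟩ := CharKernel.exists_quot_irr ⊤ χ hall
  obtain ⟨e, -, he, hed⟩ := exists_apply_one_dvd_card ψ.2
  have hde : d = e := by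
    have := hψ 1
    rw [hd, QuotientGroup.mk_one, he] at this
    exact_mod_cast this
  have : Nat.card (G ⧸ (⊤ : Subgroup G)) = 1 := by
    rw [← Subgroup.index_eq_card, Subgroup.index_top]
  rw [this, Nat.dvd_one] at hed
  omega

set_option maxHeartbeats 1200000 in
/-- The dihedral criterion. -/
theorem false_of_dihedral_bound [IsSimpleGroup G] (hG : ¬ IsMulCommutative G) {p : ℕ} [Fact p.Prime]
    (hp2 : p ≠ 2) (P : Sylow p G) (hP : Nat.card ↥(P : Subgroup G) = p)
    (hN : Nat.card ↥(Subgroup.normalizer ((P : Subgroup G) : Set G)) = 2 * p)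
    (hC : Nat.card ↥(Subgroup.centralizer ((P : Subgroup G) : Set G)) = p)
    {w : G} (hw : orderOf w = 2)
    (hbig : 4 * Nat.card G ≤ p * Nat.card ↥(Subgroup.centralizer ({w} : Set G)) ^ 2) : False := by
  classical
  letI : Fintype G := Fintype.ofFinite G
  have hp : p.Prime := Fact.out
  set N := Subgroup.normalizer ((P : Subgroup G) : Set G) with hNdef
  obtain ⟨x, hxP, hx⟩ : ∃ x ∈ (P : Subgroup G), orderOf x = p := by
    obtain ⟨g, hg⟩ := exists_prime_orderOf_dvd_card' p (G := ↥(P : Subgroup G))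
      (dvd_of_eq hP.symm)
    exact ⟨g, g.2, by rw [Subgroup.orderOf_coe, hg]⟩
  have hzP : Subgroup.zpowers x = (P : Subgroup G) :=
    Subgroup.eq_of_le_of_card_ge (Subgroup.zpowers_le.2 hxP) (by rw [hP, Nat.card_zpowers, hx])
  have hCx : Subgroup.centralizer ({x} : Set G) = Subgroup.zpowers x := by
    have hle : Subgroup.zpowers x ≤ Subgroup.centralizer ({x} : Set G) :=
      Subgroup.zpowers_le.2 (by simp [Subgroup.mem_centralizer_singleton_iff])
    refine (Subgroup.eq_of_le_of_card_ge hle ?_).symm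
    rw [Nat.card_zpowers, hx, ← Subgroup.centralizer_closure, ← Subgroup.zpowers_eq_closure,
      hzP, hC]
  have hE : (fus (p := p) x).card = 2 := by
    have h1 := card_fus_mul P hP hxP hx hCx
    rw [P.card_eq_index_normalizer] at h1
    have h2 := N.card_mul_index
    rw [hN, ← h1] at h2
    exact (Nat.eq_of_mul_eq_mul_right hp.pos
      (Nat.eq_of_mul_eq_mul_right (Nat.pos_of_ne_zero Subgroup.index_ne_zero_of_finite) h2)).symm
  -- the involutions of the dihedral group
  have hout : ∀ q : G, q ∈ N → q ∉ (P : Subgroup G) → orderOf q = 2 := by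
    intro q hqN hqP
    have hd : orderOf q ∣ 2 * p := hN ▸ Subgroup.orderOf_coe (⟨q, hqN⟩ : N) ▸ orderOf_dvd_natCard _
    obtain ⟨a, b, ha, hb, hab⟩ := (Nat.dvd_mul.1 hd)
    rcases (Nat.dvd_prime hp).1 hb with rfl | rfl
    · rcases (Nat.dvd_prime Nat.prime_two).1 ha with rfl | rfl
      · simp only [mul_one] at hab
        exact absurd (orderOf_eq_one_iff.1 hab.symm ▸ (P : Subgroup G).one_mem) hqP
      · simpa using hab.symm
    · rcases (Nat.dvd_prime Nat.prime_two).1 ha with rfl | rfl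
      · exfalso
        have hzp : IsPGroup b ↥(Subgroup.zpowers q) := IsPGroup.of_card (n := 1) (by
          rw [Nat.card_zpowers, pow_one, ← hab, one_mul])
        exact hqP ((hzp.inf_normalizer_sylow P).le ⟨Subgroup.mem_zpowers q, hqN⟩).2
      · exfalso
        -- `q` would centralize `P`
        have hq2 : q ^ 2 ∈ (P : Subgroup G) := by
          have hzp : IsPGroup b ↥(Subgroup.zpowers (q ^ 2)) := IsPGroup.of_card (n := 1) (by
            rw [Nat.card_zpowers, pow_one, orderOf_pow, ← hab, Nat.gcd_mul_right_left,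
              Nat.mul_div_cancel_left b two_pos])
          exact ((hzp.inf_normalizer_sylow P).le ⟨Subgroup.mem_zpowers _, pow_mem hqN 2⟩).2
        have hgen : Subgroup.zpowers (q ^ 2) = (P : Subgroup G) :=
          Subgroup.eq_of_le_of_card_ge (Subgroup.zpowers_le.2 hq2) (by
            rw [hP, Nat.card_zpowers, orderOf_pow, ← hab, Nat.gcd_mul_right_left,
              Nat.mul_div_cancel_left b two_pos])
        have hqC : q ∈ Subgroup.centralizer ((P : Subgroup G) : Set G) := by
          rw [Subgroup.mem_centralizer_iff, ← hgen]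
          intro h hh
          obtain ⟨k, rfl⟩ := Subgroup.mem_zpowers_iff.1 hh
          exact (((Commute.refl q).pow_left 2).zpow_left k).eq
        have := Subgroup.orderOf_coe (⟨q, hqC⟩ : Subgroup.centralizer ((P : Subgroup G) : Set G)) ▸
          orderOf_dvd_natCard (⟨q, hqC⟩ : Subgroup.centralizer ((P : Subgroup G) : Set G))
        rw [hC, ← hab] at this
        have := Nat.le_of_dvd hp.pos this
        have := hp.pos
        omega
  obtain ⟨u, huN, hu⟩ : ∃ u ∈ N, orderOf u = 2 := by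
    haveI : Fact (Nat.Prime 2) := ⟨Nat.prime_two⟩
    obtain ⟨g, hg⟩ := exists_prime_orderOf_dvd_card' 2 (G := ↥N) (hN ▸ dvd_mul_right 2 p)
    exact ⟨g, g.2, by rw [Subgroup.orderOf_coe, hg]⟩
  have hnotP : ∀ q : G, orderOf q = 2 → q ∉ (P : Subgroup G) := by
    intro q hq hqP
    have := Subgroup.orderOf_coe (⟨q, hqP⟩ : (P : Subgroup G)) ▸
      orderOf_dvd_natCard (⟨q, hqP⟩ : (P : Subgroup G))
    rw [hP, hq] at this
    exact hp2 ((Nat.prime_dvd_prime_iff_eq Nat.prime_two hp).1 this).symm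
  have hPN : (P : Subgroup G) ≤ N := Subgroup.le_normalizer
  have hidx : ((P : Subgroup G).subgroupOf N).index = 2 := by
    have h := ((P : Subgroup G).subgroupOf N).card_mul_index
    rw [Nat.card_congr (Subgroup.subgroupOfEquivOfLe hPN).toEquiv, hP, hN, mul_comm 2 p] at h
    exact Nat.eq_of_mul_eq_mul_left hp.pos h
  have hprod : ∀ a b : G, a ∈ N → b ∈ N → (a * b ∈ (P : Subgroup G) ↔
      (a ∈ (P : Subgroup G) ↔ b ∈ (P : Subgroup G))) := by
    intro a b ha hb
    simpa [Subgroup.mem_subgroupOf] using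
      Subgroup.mul_mem_iff_of_index_two hidx (a := ⟨a, ha⟩) (b := ⟨b, hb⟩)
  have hconj : ∀ q : G, q ∈ N → q ∉ (P : Subgroup G) → IsConj u q := by
    intro q hqN hqP
    have huP := hnotP u hu
    have hu2 : u * u = 1 := by rw [← pow_two, ← hu]; exact pow_orderOf_eq_one u
    have hy : q * u ∈ (P : Subgroup G) := (hprod q u hqN huN).2 (by simp [hqP, huP])
    -- a square root in `P`
    set y := (q * u) ^ ((p + 1) / 2) with hy'
    have hyP : y ∈ (P : Subgroup G) := pow_mem hy _
    have hyy : y * y = q * u := by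
      have h1 : (q * u) ^ p = 1 := by
        have := hP ▸ pow_card_eq_one' (x := (⟨q * u, hy⟩ : (P : Subgroup G)))
        exact congrArg Subtype.val this
      obtain ⟨k, hk⟩ := hp.odd_of_ne_two hp2
      rw [hy', ← pow_add, show (p + 1) / 2 + (p + 1) / 2 = p + 1 by omega, pow_succ, h1, one_mul]
    have hyu : y * u ∉ (P : Subgroup G) := fun h =>
      huP ((Subgroup.mul_mem_cancel_left _ hyP).1 h)
    have h2 : (y * u) * (y * u) = 1 := by
      rw [← pow_two, ← hout _ (mul_mem (hPN hyP) huN) hyu]; exact pow_orderOf_eq_one _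
    refine isConj_iff.2 ⟨y, ?_⟩
    have h3 : u * y⁻¹ = y * u := by
      calc u * y⁻¹ = u⁻¹ * y⁻¹ := by rw [inv_eq_of_mul_eq_one_right hu2]
        _ = (y * u)⁻¹ := by group
        _ = y * u := inv_eq_of_mul_eq_one_right h2
    rw [mul_assoc, h3, ← mul_assoc, hyy, mul_assoc, hu2, mul_one]
  set c := Nat.card (Subgroup.centralizer ({u} : Set G)) with hcdef
  set cw := Nat.card (Subgroup.centralizer ({w} : Set G)) with hcwdef
  -- the pairs
  have hpairs : ∀ d ∈ (P : Subgroup G), d ≠ 1 →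
      Nat.card {q : G × G // q.1 * u * q.1⁻¹ * (q.2 * u * q.2⁻¹) = d} = c ^ 2 * p := by
    intro d hdP hd1
    have hzd : Subgroup.zpowers d = (P : Subgroup G) := by
      refine Subgroup.eq_of_le_of_card_ge (Subgroup.zpowers_le.2 hdP) ?_
      rw [hP, Nat.card_zpowers]
      have := Subgroup.orderOf_coe (⟨d, hdP⟩ : (P : Subgroup G)) ▸
        orderOf_dvd_natCard (⟨d, hdP⟩ : (P : Subgroup G))
      rw [hP, Nat.dvd_prime hp] at this
      rcases this with h | h
      · exact absurd (orderOf_eq_one_iff.1 h) hd1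
      · exact h.ge
    have hinvN : ∀ a b : G, IsConj u a → IsConj u b → a * b = d → a ∈ N ∧ b ∈ N := by
      intro a b ha hb hab
      have sq : ∀ z, IsConj u z → z * z = 1 := by
        intro z hz
        obtain ⟨g, rfl⟩ := isConj_iff.1 hz
        rw [conj_mul, ← pow_two, ← hu, pow_orderOf_eq_one, mul_one, mul_inv_cancel]
      have haN : a ∈ N := by
        have hinv : a * d * a⁻¹ = d⁻¹ := by
          rw [← hab, mul_inv_rev, inv_eq_of_mul_eq_one_right (sq a ha),
            inv_eq_of_mul_eq_one_right (sq b hb), ← mul_assoc, sq a ha, one_mul]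
        rw [hNdef, Subgroup.mem_normalizer_iff]
        have hmem : ∀ h ∈ (P : Subgroup G), a * h * a⁻¹ ∈ (P : Subgroup G) := by
          intro h hh
          obtain ⟨k, rfl⟩ := Subgroup.mem_zpowers_iff.1 (hzd ▸ hh : h ∈ Subgroup.zpowers d)
          rw [← conj_zpow, hinv]
          exact zpow_mem (inv_mem hdP) k
        intro h
        refine ⟨hmem h, fun h' => ?_⟩
        have := hmem _ h'
        have e : a * (a * h * a⁻¹) * a⁻¹ = (a * a) * h * (a * a)⁻¹ := by group
        rw [e, sq a ha, one_mul, inv_one, mul_one] at this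
        exact this
      exact ⟨haN, by rw [show b = a⁻¹ * d by rw [← hab]; group]; exact mul_mem (inv_mem haN) (hPN hdP)⟩
    haveI : Fintype ↥N := Fintype.ofFinite _
    have h := ExcChar68.card_pairs (ι := N.subtype) N.subtype_injective u ⟨d, hPN hdP⟩
      (fun a b ha hb hab => ⟨⟨⟨a, (hinvN a b ha hb hab).1⟩, rfl⟩, ⟨⟨b, (hinvN a b ha hb hab).2⟩, rfl⟩⟩)
    rw [Subgroup.coe_subtype] at h
    rw [h, ← hcdef]
    congr 1
    have hiff : ∀ a : ↥N, IsConj u (a : G) ↔ (a : G) ∉ (P : Subgroup G) := by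
      intro a
      refine ⟨fun ha => hnotP _ ?_, hconj _ a.2⟩
      obtain ⟨g, hg⟩ := isConj_iff.1 ha
      rw [← hg, ← MulAut.conj_apply, MulEquiv.orderOf_eq, hu]
    rw [Nat.card_congr (β := {a : ↥N // (a : G) ∉ (P : Subgroup G)})
      { toFun := fun q => ⟨q.1.1, (hiff _).1 q.2.1⟩
        invFun := fun a => ⟨(a.1, a.1⁻¹ * ⟨d, hPN hdP⟩), (hiff _).2 a.2, (hiff _).2 (by
          intro h
          have := (hprod _ _ (inv_mem a.1.2) (hPN hdP)).1 h
          exact a.2 (inv_mem_iff.1 (this.2 hdP))), mul_inv_cancel_left _ _⟩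
        left_inv := fun q => Subtype.ext (Prod.ext rfl (inv_mul_eq_iff_eq_mul.2 q.2.2.2.symm))
        right_inv := fun a => rfl }]
    have hsplit := Fintype.card_subtype_compl (fun a : ↥N => (a : G) ∈ (P : Subgroup G))
    rw [Nat.card_eq_fintype_card, hsplit, ← Nat.card_eq_fintype_card, hN, ← Nat.card_eq_fintype_card]
    have : Nat.card {a : ↥N // (a : G) ∈ (P : Subgroup G)} = p := by
      refine Eq.trans ?_ hP
      exact Nat.card_congr (Subgroup.subgroupOfEquivOfLe hPN).toEquiv
    rw [this]; omega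
  have hwpairs : ∃ K : ℕ, (K = 0 ∨ K = cw ^ 2 * p) ∧ ∀ d ∈ (P : Subgroup G), d ≠ 1 →
      Nat.card {q : G × G // q.1 * w * q.1⁻¹ * (q.2 * w * q.2⁻¹) = d} = K := by
    by_cases huw : IsConj u w
    · refine ⟨cw ^ 2 * p, Or.inr rfl, fun d hd hd1 => ?_⟩
      have hcc : cw = c := by
        obtain ⟨g, hg⟩ := isConj_iff.1 huw
        rw [hcwdef, hcdef, ← hg]
        have h1 := card_conj_mul_card_centralizer u
        have h2 := card_conj_mul_card_centralizer (g * u * g⁻¹)
        have e : Nat.card {y : G // IsConj u y} = Nat.card {y : G // IsConj (g * u * g⁻¹) y} :=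
          Nat.card_congr (Equiv.subtypeEquivRight fun y =>
            ⟨fun h => (isConj_iff.2 ⟨g, rfl⟩).symm.trans h,
              fun h => (isConj_iff.2 ⟨g, rfl⟩).trans h⟩)
        rw [← e, ← h1] at h2
        exact Nat.eq_of_mul_eq_mul_left
          (Nat.card_pos_iff.2 ⟨⟨⟨u, IsConj.refl u⟩⟩, inferInstance⟩) h2
      rw [hcc, ← hpairs d hd hd1]
      obtain ⟨g, hg⟩ := isConj_iff.1 huw
      refine Nat.card_congr ((Equiv.prodCongr (Equiv.mulRight g) (Equiv.mulRight g)).subtypeEquiv
        fun q => ?_)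
      rw [← hg]
      simp [mul_assoc]
    · refine ⟨0, Or.inl rfl, fun d hdP hd1 => ?_⟩
      rw [Nat.card_eq_zero]
      left
      refine ⟨fun ⟨⟨g, h⟩, hq⟩ => huw ?_⟩
      -- `g w g⁻¹` inverts `d`
      have sq : ∀ k : G, (k * w * k⁻¹) * (k * w * k⁻¹) = 1 := fun k => by
        rw [conj_mul, ← pow_two, ← hw, pow_orderOf_eq_one, mul_one, mul_inv_cancel]
      set a := g * w * g⁻¹ with ha
      set b := h * w * h⁻¹ with hb
      have sa : a * a = 1 := sq g
      have sb : b * b = 1 := sq h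
      have hab : a * b = d := hq
      clear_value a b
      have hinv : a * d * a⁻¹ = d⁻¹ := by
        rw [← hab, mul_inv_rev, inv_eq_of_mul_eq_one_right sa,
          inv_eq_of_mul_eq_one_right sb, ← mul_assoc, sa, one_mul]
      have hzd : Subgroup.zpowers d = (P : Subgroup G) := by
        refine Subgroup.eq_of_le_of_card_ge (Subgroup.zpowers_le.2 hdP) ?_
        rw [hP, Nat.card_zpowers]
        have := Subgroup.orderOf_coe (⟨d, hdP⟩ : (P : Subgroup G)) ▸
          orderOf_dvd_natCard (⟨d, hdP⟩ : (P : Subgroup G))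
        rw [hP, Nat.dvd_prime hp] at this
        rcases this with h | h
        · exact absurd (orderOf_eq_one_iff.1 h) hd1
        · exact h.ge
      have haN : a ∈ N := by
        rw [hNdef, Subgroup.mem_normalizer_iff]
        have hmem : ∀ h ∈ (P : Subgroup G), a * h * a⁻¹ ∈ (P : Subgroup G) := by
          intro h hh
          obtain ⟨k, rfl⟩ := Subgroup.mem_zpowers_iff.1 (hzd ▸ hh : h ∈ Subgroup.zpowers d)
          rw [← conj_zpow, hinv]
          exact zpow_mem (inv_mem hdP) k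
        intro k
        refine ⟨hmem k, fun h' => ?_⟩
        have := hmem _ h'
        rw [show a * (a * k * a⁻¹) * a⁻¹ = (a * a) * k * (a * a)⁻¹ by group, sa, one_mul,
          inv_one, mul_one] at this
        exact this
      have hao : orderOf a = 2 := by rw [ha, ← MulAut.conj_apply, MulEquiv.orderOf_eq, hw]
      exact (hconj a haN (hnotP a hao)).trans (isConj_iff.2 ⟨g, ha.symm⟩).symm
  obtain ⟨K, hK, hKpairs⟩ := hwpairs
  -- integral coordinates
  have hZ : ∀ (χ : Cfsg.IrrCharacter G) (j : ZMod p), ∃ z : ℤ, dv x (χ : G → ℂ) j = z := by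
    intro χ j
    obtain ⟨a, ha⟩ := exists_mult hx (isCharacter_of_isIrrCharacter χ.2) (0 : ZMod p)
    obtain ⟨b, hb⟩ := exists_mult hx (isCharacter_of_isIrrCharacter χ.2) j
    exact ⟨(a : ℤ) - b, by rw [dv, ha, hb]; push_cast; ring⟩
  choose v hv using hZ
  choose d hd0 hd hdn using fun χ : Cfsg.IrrCharacter G => exists_apply_one_dvd_card χ.2
  choose a hau hage hale using fun χ : Cfsg.IrrCharacter G => exists_int_apply_le hw χ (hd χ)
  let τ : Cfsg.IrrCharacter G := ⟨fun _ => 1, by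
    simpa using CharBasicDecomp.isIrrCharacter_linear (1 : G →* ℂˣ)⟩
  have hτv : v τ 1 = 1 := by
    have h := hv τ 1
    rw [dv_triv one_ne_zero] at h
    exact_mod_cast h.symm
  have hdτ : d τ = 1 := by
    have h : (1 : ℂ) = (d τ : ℂ) := hd τ
    exact_mod_cast h.symm
  have haτ : a τ = 1 := by
    have h : (1 : ℂ) = (a τ : ℂ) := hau τ
    exact_mod_cast h.symm
  have hd1 : ∀ χ, χ ≠ τ → 1 < d χ := by
    intro χ hχ
    by_contra hle
    have := hd0 χ
    exact hχ (Subtype.ext (linear_eq_one hG χ (by rw [hd χ, show d χ = 1 by omega, Nat.cast_one])))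
  set U := (Finset.univ : Finset (Cfsg.IrrCharacter G)).erase τ with hU
  have hone : (1 : ZMod p) ∈ fus x := mem_fus.2 (by rw [pw_one])
  have hsq : ∑ χ ∈ U, v χ 1 * v χ 1 = 2 := by
    have h := gram hx hCx (one_ne_zero (α := ZMod p)) one_ne_zero
    simp only [hv, map_intCast, hE, inv_one, mul_one, if_pos hone] at h
    rw [← Finset.add_sum_erase _ _ (Finset.mem_univ τ), hτv] at h
    have h' : (1 : ℤ) * 1 + ∑ χ ∈ U, v χ 1 * v χ 1 = 3 := by
      simp only [Int.cast_one, map_one] at h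
      exact_mod_cast h
    omega
  -- the three relations
  set S := U.filter (fun χ => v χ 1 ≠ 0) with hS
  have hsupp : ∀ f : Cfsg.IrrCharacter G → ℂ,
      ∑ χ : Cfsg.IrrCharacter G, (v χ 1 : ℂ) * f χ = f τ + ∑ χ ∈ S, (v χ 1 : ℂ) * f χ := by
    intro f
    rw [← Finset.add_sum_erase _ _ (Finset.mem_univ τ), hτv, Int.cast_one, one_mul, ← hU, hS,
      Finset.sum_filter_of_ne (p := fun χ => v χ 1 ≠ 0)]
    intro χ _ h h0
    exact h (by simp [h0])
  have e1 : (1 : ℂ) + ∑ χ ∈ S, (v χ 1 : ℂ) * (d χ : ℂ) = 0 := by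
    have h := sum_deg hx (j := (1 : ZMod p))
    simp only [hv, hd, map_natCast] at h
    rw [hsupp, hdτ] at h
    simpa using h
  have hdvsum : ∀ (f : Cfsg.IrrCharacter G → ℂ) (k : ℂ),
      (∀ a : ZMod p, a ≠ 0 → ∑ χ : Cfsg.IrrCharacter G, f χ * (χ : G → ℂ) (pw x a) = k) →
      ∑ χ : Cfsg.IrrCharacter G, (v χ 1 : ℂ) * f χ = k := by
    intro f k hf
    simp only [← hv, dv_eq, mul_assoc, Finset.sum_mul, ← Finset.mul_sum]
    rw [Finset.sum_comm]
    have hterm : ∀ b : ZMod p, ∑ χ : Cfsg.IrrCharacter G,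
        (χ : G → ℂ) (pw x b) * ((1 - sg (-1 * b)) * f χ) = k * (1 - sg (-1 * b)) := by
      intro b
      rcases eq_or_ne b 0 with rfl | hb
      · simp
      · rw [← hf b hb, Finset.sum_mul]
        exact Finset.sum_congr rfl fun χ _ => by ring
    simp only [hterm]
    rw [← Finset.mul_sum, Finset.sum_sub_distrib, sum_sg, if_neg (neg_ne_zero.2 one_ne_zero),
      Finset.sum_const, Finset.card_univ, ZMod.card, nsmul_eq_mul, mul_one, sub_zero,
      mul_left_comm, inv_mul_cancel₀ (Nat.cast_ne_zero.2 hp.ne_zero), mul_one]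
  have e2 : (1 : ℂ) + ∑ χ ∈ S, (v χ 1 : ℂ) * (a χ : ℂ) = 0 := by
    have h := hdvsum (fun χ => (a χ : ℂ)) 0 fun b hb => by
      simp only [← hau]
      have := sum_irr_mul_conj w (pw x b)⁻¹
      simp only [isCharacter_inv (isCharacter_of_isIrrCharacter (Subtype.prop _)), Complex.conj_conj] at this
      rw [this, if_neg]
      intro hc
      obtain ⟨g, hg⟩ := isConj_iff.1 hc
      apply hnotP w hw
      have hmem : (pw x b)⁻¹ ∈ (P : Subgroup G) := inv_mem (pow_mem hxP _)
      have h2 : orderOf (pw x b)⁻¹ = 2 := by rw [← hg, ← MulAut.conj_apply, MulEquiv.orderOf_eq, hw]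
      exact absurd hmem (hnotP _ h2)
    rw [hsupp, haτ] at h
    simpa using h
  have e3 : (1 : ℂ) + ∑ χ ∈ S, (v χ 1 : ℂ) * ((a χ : ℂ) ^ 2 / (d χ : ℂ)) =
      (K : ℂ) / (Nat.card G : ℂ) := by
    have h := hdvsum (fun χ => (a χ : ℂ) ^ 2 / (d χ : ℂ)) ((K : ℂ) / (Nat.card G : ℂ))
      fun b hb => by
      have hne : (pw x b)⁻¹ ≠ 1 := fun h => hb (pw_inj hx ((inv_eq_one.1 h).trans pw_zero.symm))
      have hcs := ExcChar68.class_sum w (pw x b)⁻¹
      rw [hKpairs (pw x b)⁻¹ (inv_mem (pow_mem hxP _)) hne] at hcs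
      rw [← hcs]
      refine Finset.sum_congr rfl fun χ _ => ?_
      rw [isCharacter_inv (isCharacter_of_isIrrCharacter χ.2), Complex.conj_conj, ← hau, ← hd]
      ring
    rw [hsupp, haτ, hdτ] at h
    simpa using h
  -- exactly two characters
  have hsmall : ∀ χ ∈ S, v χ 1 = 1 ∨ v χ 1 = -1 := by
    intro χ hχ
    obtain ⟨hχU, hne⟩ := Finset.mem_filter.1 hχ
    have h := Finset.single_le_sum (f := fun χ => v χ 1 * v χ 1) (fun χ _ => mul_self_nonneg _) hχU
    rw [hsq] at h
    have : -1 ≤ v χ 1 ∧ v χ 1 ≤ 1 := ⟨by nlinarith, by nlinarith⟩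
    omega
  have hScard : S.card = 2 := by
    have h := hsq
    rw [← Finset.sum_filter_of_ne (p := fun χ => v χ 1 ≠ 0) (fun χ _ h h0 => h (by simp [h0])),
      ← hS, Finset.sum_congr rfl (g := fun _ => (1 : ℤ)) (fun χ hχ => by
        rcases hsmall χ hχ with h | h <;> simp [h]), Finset.sum_const, nsmul_eq_mul, mul_one] at h
    exact_mod_cast h
  obtain ⟨s, t, hst, hSst⟩ := Finset.card_eq_two.1 hScard
  rw [hSst, Finset.sum_pair hst] at e1 e2 e3
  have hgt : ∀ χ ∈ S, 1 < d χ := fun χ hχ => hd1 χ (Finset.ne_of_mem_erase (Finset.mem_filter.1 hχ).1)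
  have hds := hgt s (by simp [hSst])
  have hdt := hgt t (by simp [hSst])
  have hG0 : (0 : ℤ) < Nat.card G := by exact_mod_cast Nat.card_pos
  have key : ∀ (χ : Cfsg.IrrCharacter G) (E : ℕ) (B : ℤ), 1 < d χ → (1 : ℂ) + d χ - E = 0 →
      (1 : ℂ) + a χ - B = 0 →
      (1 : ℂ) + (a χ : ℂ) ^ 2 / d χ - (B : ℂ) ^ 2 / E = (K : ℂ) / (Nat.card G : ℂ) → False := by
    intro χ E B hD r1 r2 r3
    obtain rfl : E = d χ + 1 := by
      have : ((d χ + 1 : ℕ) : ℂ) = (E : ℂ) := by push_cast; linear_combination r1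
      exact_mod_cast this.symm
    obtain rfl : B = a χ + 1 := by
      have : ((a χ + 1 : ℤ) : ℂ) = (B : ℂ) := by push_cast; linear_combination r2
      exact_mod_cast this.symm
    have hD0 : (d χ : ℂ) ≠ 0 := Nat.cast_ne_zero.2 (by omega)
    have hD1 : ((d χ : ℂ) + 1) ≠ 0 := by exact_mod_cast Nat.succ_ne_zero (d χ)
    have hn0 : (Nat.card G : ℂ) ≠ 0 := Nat.cast_ne_zero.2 Nat.card_pos.ne'
    push_cast at r3
    field_simp at r3
    have hint : (Nat.card G : ℤ) * (a χ - d χ) ^ 2 = (K : ℤ) * ((d χ : ℤ) * (d χ + 1)) := by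
      have : (((Nat.card G : ℤ) * (a χ - d χ) ^ 2 : ℤ) : ℂ) =
          (((K : ℤ) * ((d χ : ℤ) * (d χ + 1)) : ℤ) : ℂ) := by
        push_cast
        linear_combination r3
      exact_mod_cast this
    have hne : a χ ≠ (d χ : ℤ) := by
      intro h
      refine apply_ne_apply_one (fun h1 => ?_) χ (hd χ) hD (by rw [hau χ, hd χ, h]; norm_num)
      rw [h1, orderOf_one] at hw
      omega
    have hsq0 : 0 < (a χ - d χ) ^ 2 := by
      have := sub_ne_zero.2 hne
      positivity
    rcases hK with hK0 | hK0 <;> rw [hK0] at hint <;> push_cast at hint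
    · rw [zero_mul] at hint
      rcases mul_eq_zero.1 hint with h | h <;> omega
    · have hb : (a χ - d χ) ^ 2 ≤ 4 * (d χ : ℤ) ^ 2 := by nlinarith [hage χ, hale χ]
      have hbig' : 4 * (Nat.card G : ℤ) ≤ (p : ℤ) * (cw : ℤ) ^ 2 := by exact_mod_cast hbig
      have hdz : (1 : ℤ) < d χ := by exact_mod_cast hD
      nlinarith [mul_le_mul_of_nonneg_left hb hG0.le,
        mul_le_mul_of_nonneg_right hbig' (mul_nonneg (by omega : (0 : ℤ) ≤ d χ)
          (by omega : (0 : ℤ) ≤ (d χ : ℤ) + 1)), mul_pos hG0 (by omega : (0 : ℤ) < d χ)]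
  rcases hsmall s (by simp [hSst]) with hs | hs <;> rcases hsmall t (by simp [hSst]) with ht | ht <;>
    rw [hs, ht] at e1 e2 e3 <;> push_cast at e1 e2 e3
  · have : ((1 + d s + d t : ℕ) : ℂ) = 0 := by push_cast; linear_combination e1
    exact absurd (Nat.cast_eq_zero.1 this) (by omega)
  · exact key s (d t) (a t) hds (by linear_combination e1) (by linear_combination e2)
      (by push_cast; linear_combination e3)
  · exact key t (d s) (a s) hdt (by linear_combination e1) (by linear_combination e2)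
      (by push_cast; linear_combination e3)
  · have : ((d s + d t : ℕ) : ℂ) = ((1 : ℕ) : ℂ) := by push_cast; linear_combination -e1
    have := Nat.cast_injective this
    omega

end Cfsg.Agent.DihedralBound81
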