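import Mathlib
import Cfsg.Agent.Lib.SimpleRangeCentralize30
import Cfsg.Agent.Lib.SimpleSearch
import Cfsg.Agent.Lib.SmallOrders91

/-!
No simple group has order `5400`.
-/

set_option autoImplicit false

namespace Cfsg.Agent.SimpleRange30

open Cfsg.Agent.SimpleOrder

section Burnside

variable {G : Type*} [Group G] [Finite G]

/-- Burnside's transfer theorem inside a subgroup whose `5'`-part divides `216`. -/
theorem le_centralizer_of_burnside {K A : Subgroup G} (hA : IsPGroup 5 A) (hAK : A ≤ K) {m : ℕ}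
    (hm : Nat.card K = Nat.card A * m) (hm' : m ∣ 216)
    (h : K ⊓ Subgroup.normalizer (A : Set G) ≤ Subgroup.centralizer (A : Set G)) :
    K ≤ Subgroup.centralizer (A : Set G) := by
  haveI : Fact (Nat.Prime 5) := ⟨by norm_num⟩
  obtain ⟨a, ha⟩ := hA.exists_card_eq
  have hm5 : ¬ 5 ∣ m := fun h => absurd (h.trans hm') (by norm_num)
  have hm0 : m ≠ 0 := fun h => by subst h; simp at hm'
  have hcard : Nat.card ↥(A.subgroupOf K) = 5 ^ (Nat.card K).factorization 5 := by
    rw [Nat.card_congr (Subgroup.subgroupOfEquivOfLe hAK).toEquiv, hm, ha,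
      Nat.factorization_mul (pow_ne_zero _ (by norm_num)) hm0, Nat.Prime.factorization_pow (by norm_num),
      Finsupp.add_apply, Finsupp.single_eq_same, Nat.factorization_eq_zero_of_not_dvd hm5, add_zero]
  let S : Sylow 5 K := Sylow.ofCard (A.subgroupOf K) hcard
  have hS : (S : Subgroup K) = A.subgroupOf K := rfl
  have hNC : Subgroup.normalizer ((S : Subgroup K) : Set K) ≤
      Subgroup.centralizer ((S : Subgroup K) : Set K) := by
    intro k hk
    rw [hS] at hk ⊢
    have hkN : (k : G) ∈ Subgroup.normalizer (A : Set G) := by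
      refine Subgroup.mem_normalizer_iff.2 fun x => ⟨fun hx => ?_, fun hx => ?_⟩
      · have := (Subgroup.mem_normalizer_iff.1 hk ⟨x, hAK hx⟩).1 (Subgroup.mem_subgroupOf.2 hx)
        simpa [Subgroup.mem_subgroupOf] using this
      · have hxK : x ∈ K := by
          have := K.mul_mem (K.mul_mem (K.inv_mem k.2) (hAK hx)) k.2
          simpa [mul_assoc] using this
        have := (Subgroup.mem_normalizer_iff.1 hk ⟨x, hxK⟩).2
          (by simpa [Subgroup.mem_subgroupOf] using hx)
        simpa [Subgroup.mem_subgroupOf] using this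
    refine Subgroup.mem_centralizer_iff.2 fun y hy => Subtype.ext ?_
    exact Subgroup.mem_centralizer_iff.1 (h ⟨k.2, hkN⟩) y (Subgroup.mem_subgroupOf.1 hy)
  have hc := MonoidHom.ker_transferSylow_isComplement' S hNC
  set W := (MonoidHom.transferSylow S hNC).ker with hWdef
  have hWc : Nat.card W = m := by
    have h1 := hc.card_mul
    rw [hS, Nat.card_congr (Subgroup.subgroupOfEquivOfLe hAK).toEquiv, hm, mul_comm (Nat.card A)] at h1
    exact Nat.eq_of_mul_eq_mul_right Nat.card_pos h1
  have hW' : W.map K.subtype ≤ Subgroup.centralizer (A : Set G) := by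
    refine le_centralizer_of_dvd_216 hA ?_ (by rw [Subgroup.card_map_of_injective K.subtype_injective, hWc]; exact hm')
    refine SignalizerCoprime.le_normalizer_of_forall fun a ha' x hx => ?_
    obtain ⟨w, hw, rfl⟩ := hx
    have hWn : W.Normal := MonoidHom.normal_ker _
    have hmem := hWn.conj_mem w hw ⟨a, hAK ha'⟩
    exact Subgroup.mem_map_of_mem K.subtype hmem
  have hsup := congrArg (Subgroup.map K.subtype) hc.sup_eq_top
  rw [Subgroup.map_sup, ← MonoidHom.range_eq_map, Subgroup.range_subtype, hS,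
    Subgroup.map_subgroupOf_eq_of_le hAK] at hsup
  rw [← hsup]
  exact sup_le hW' ((le_inf hAK Subgroup.le_normalizer).trans h)

end Burnside

variable {G : Type*} [Group G] [Finite G] [IsSimpleGroup G]

theorem ne_5400 : Nat.card G ≠ 5400 := by
  intro hn
  have hG := not_comm_of_not_prime (G := G) (by rw [hn]; norm_num)
  haveI : Fact (Nat.Prime 5) := ⟨by norm_num⟩
  haveI : Fact (Nat.Prime 2) := ⟨Nat.prime_two⟩
  haveI : Fact (Nat.Prime 3) := ⟨Nat.prime_three⟩
  have hn' : Nat.card G = 5 ^ 2 * 216 := by rw [hn]; norm_num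
  have hbig : ∀ H : Subgroup G, H ≠ ⊤ → 10 ≤ H.index := by
    intro H hH
    by_contra hlt
    have h := two_mul_card_dvd_factorial_index hG H hH
    rw [hn] at h
    have key : ∀ i ∈ List.range 10, ¬ 10800 ∣ i.factorial := by decide +kernel
    exact key _ (List.mem_range.2 (by omega)) h
  have hP25 : ∀ R : Sylow 5 G, Nat.card ↥(R : Subgroup G) = 25 := fun R => by
    rw [sylow_card_of_eq hn' (by norm_num) R]; norm_num
  have hab : ∀ R : Sylow 5 G, (R : Subgroup G) ≤ Subgroup.centralizer ((R : Subgroup G) : Set G) := by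
    intro R a ha
    have hc := IsPGroup.commutative_of_card_eq_prime_sq (G := ↥(R : Subgroup G)) (p := 5)
      (by rw [hP25]; norm_num)
    exact Subgroup.mem_centralizer_iff.2 fun b hb => congrArg Subtype.val (hc ⟨b, hb⟩ ⟨a, ha⟩)
  have hd36 : Nat.card (Sylow 5 G) = 36 := by
    obtain ⟨R⟩ : Nonempty (Sylow 5 G) := inferInstance
    have h1 := card_sylow_dvd (p := 5) hn' (by norm_num)
    have h2 : Nat.card (Sylow 5 G) % 5 = 1 := card_sylow_modEq_one 5 G
    have h3 := hbig _ (normalizer_ne_top hG (by rw [hn]; norm_num) R)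
    rw [show (Subgroup.normalizer ((R : Subgroup G) : Set G)).index = Nat.card (Sylow 5 G) from
      R.card_eq_index_normalizer.symm] at h3
    have key : ∀ d ∈ List.range 217, d % 5 = 1 → 10 ≤ d → 216 % d = 0 → d = 36 ∨ d = 216 := by
      decide +kernel
    rcases key _ (List.mem_range.2 (Nat.lt_succ_of_le (Nat.le_of_dvd (by norm_num) h1))) h2 h3
      (Nat.mod_eq_zero_of_dvd h1) with h | h
    · exact h
    exfalso
    have hN := (Subgroup.normalizer ((R : Subgroup G) : Set G)).card_mul_index
    rw [show (Subgroup.normalizer ((R : Subgroup G) : Set G)).index = Nat.card (Sylow 5 G) from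
      R.card_eq_index_normalizer.symm, h, hn] at hN
    have hNR : (R : Subgroup G) = Subgroup.normalizer ((R : Subgroup G) : Set G) :=
      Subgroup.eq_of_le_of_card_ge Subgroup.le_normalizer (by rw [hP25]; omega)
    exact not_normalizer_le_centralizer hG (by rw [hn]; norm_num) R (hNR ▸ hab R)
  obtain ⟨P, Q, hPQ, hrel⟩ := exists_inter_relIndex_eq (G := G) (p := 5) (by rw [hd36]; norm_num)
  set Z := (P : Subgroup G) ⊓ (Q : Subgroup G) with hZdef
  have hZ5 : Nat.card Z = 5 := by
    have h1 := Subgroup.card_mul_index ((Q : Subgroup G).subgroupOf (P : Subgroup G))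
    rw [← Subgroup.relIndex, hrel, hP25, ← Subgroup.inf_subgroupOf_left,
      Nat.card_congr (Subgroup.subgroupOfEquivOfLe (inf_le_left : Z ≤ _)).toEquiv] at h1
    rw [hZdef]; omega
  set N := Subgroup.normalizer ((P : Subgroup G) : Set G) with hNdef
  set C := Subgroup.centralizer ((P : Subgroup G) : Set G) with hCdef
  set K := Subgroup.centralizer (Z : Set G) with hKdef
  have hPK : (P : Subgroup G) ≤ K :=
    (hab P).trans (Subgroup.centralizer_le (show (Z : Set G) ⊆ (P : Subgroup G) from inf_le_left))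
  have hQK : (Q : Subgroup G) ≤ K :=
    (hab Q).trans (Subgroup.centralizer_le (show (Z : Set G) ⊆ (Q : Subgroup G) from inf_le_right))
  have hCK : C ≤ K := Subgroup.centralizer_le (show (Z : Set G) ⊆ (P : Subgroup G) from inf_le_left)
  have hCN : C ≤ N := Subgroup.centralizer_le_normalizer _
  have hN150 : Nat.card N = 150 := by
    have h := N.card_mul_index
    rw [show N.index = Nat.card (Sylow 5 G) from P.card_eq_index_normalizer.symm, hd36, hn] at h
    omega
  -- `K ∩ N` is not inside `C`
  have hne1 : ¬ K ⊓ N ≤ C := by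
    intro h
    obtain ⟨j, hj⟩ := Subgroup.card_dvd_of_le hPK
    have hj' : j ∣ 216 := by
      have h1 := Subgroup.card_subgroup_dvd_card K
      rw [hj, hP25, hn', show (5 : ℕ) ^ 2 = 25 by norm_num] at h1
      exact Nat.dvd_of_mul_dvd_mul_left (by norm_num) h1
    have hle := le_centralizer_of_burnside P.2 hPK hj hj' h
    exact hPQ (Sylow.ext (P.3 Q.2 (P.2.sylow_mem_fixedPoints_iff.mp (fun g => by
      refine Sylow.smul_eq_iff_mem_normalizer.2 ?_
      have hgK : (g : G) ∈ K := hPK g.2
      have hgC : (g : G) ∈ Subgroup.centralizer ((Q : Subgroup G) : Set G) :=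
        Subgroup.le_centralizer_iff.1 (hQK.trans hle) g.2
      exact Subgroup.centralizer_le_normalizer _ hgC))).symm)
  -- `N` does not centralize `Z`
  have hne2 : ¬ N ≤ K := by
    intro h
    haveI : IsMulCommutative ↥(P : Subgroup G) :=
      ⟨⟨fun a b => Subtype.ext (Subgroup.mem_centralizer_iff.1 (hab P b.2) a a.2)⟩⟩
    obtain ⟨⟨z, hz⟩, ho⟩ := exists_prime_orderOf_dvd_card' 5 (G := Z) (by rw [hZ5])
    rw [Subgroup.orderOf_mk] at ho
    have hzP : z ∈ (P : Subgroup G) := (inf_le_left : Z ≤ _) hz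
    letI : CommGroup ↥(P : Subgroup G) :=
      { (inferInstance : Group ↥(P : Subgroup G)) with mul_comm := IsMulCommutative.is_comm.comm }
    let f := MonoidHom.transfer (MonoidHom.id ↥(P : Subgroup G))
    have hkey : ∀ (k : ℕ) (g₀ : G), g₀⁻¹ * z ^ k * g₀ ∈ (P : Subgroup G) →
        g₀⁻¹ * z ^ k * g₀ = z ^ k := by
      intro k g₀ hg
      obtain ⟨n, hnN, hconj⟩ := P.conj_eq_normalizer_conj_of_mem (z ^ k) g₀ (pow_mem hzP k) hg
      rw [hconj]
      have hc := Subgroup.mem_centralizer_iff.1 (h hnN) (z ^ k) (pow_mem hz k)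
      rw [mul_assoc, hc, inv_mul_cancel_left]
    have hfz : f z = ⟨z ^ (P : Subgroup G).index, MonoidHom.transfer_eq_pow_aux z hkey⟩ :=
      MonoidHom.transfer_eq_pow _ z hkey
    rcases eq_bot_or_top (MonoidHom.normal_ker f) with h' | h'
    · exact hG ⟨⟨fun a b => (MonoidHom.ker_eq_bot_iff f).1 h' (by rw [map_mul, map_mul, mul_comm])⟩⟩
    · have h1 : f z = 1 := by rw [← MonoidHom.mem_ker, h']; exact Subgroup.mem_top z
      rw [hfz] at h1
      have h2 : z ^ (P : Subgroup G).index = 1 := congrArg Subtype.val h1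
      rw [← orderOf_dvd_iff_pow_eq_one, ho, sylow_index_of_eq hn' (by norm_num) P] at h2
      norm_num at h2
  obtain ⟨a, ha⟩ := Subgroup.card_dvd_of_le (show (P : Subgroup G) ≤ C from hab P)
  obtain ⟨b, hb⟩ := Subgroup.card_dvd_of_le (show (P : Subgroup G) ≤ K ⊓ N from le_inf hPK Subgroup.le_normalizer)
  rw [hP25] at ha hb
  have hab' : a ∣ b ∧ b ∣ 6 := by
    refine ⟨Nat.dvd_of_mul_dvd_mul_left (by norm_num : 0 < 25) ?_,
      Nat.dvd_of_mul_dvd_mul_left (by norm_num : 0 < 25) ?_⟩
    · rw [← ha, ← hb]; exact Subgroup.card_dvd_of_le (le_inf hCK hCN)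
    · rw [← hb, show 25 * 6 = Nat.card N by rw [hN150]]; exact Subgroup.card_dvd_of_le inf_le_right
  have hab1 : a ≠ b := fun h => hne1 (le_of_eq (Subgroup.eq_of_le_of_card_ge (le_inf hCK hCN)
    (by rw [ha, hb, h])).symm)
  have hb6 : b ≠ 6 := fun h => hne2 ((Subgroup.eq_of_le_of_card_ge (inf_le_right : K ⊓ N ≤ N)
    (by rw [hN150, hb, h])).symm.le.trans inf_le_left)
  have hab2 : a = 1 ∧ (b = 2 ∨ b = 3) := by
    have key : ∀ b ∈ List.range 7, ∀ a ∈ List.range 7, b % a = 0 → 6 % b = 0 → a ≠ b → b ≠ 6 →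
        a = 1 ∧ (b = 2 ∨ b = 3) := by decide +kernel
    have hb' := Nat.le_of_dvd (by norm_num) hab'.2
    have hb0 : 0 < b := Nat.pos_of_dvd_of_pos hab'.2 (by norm_num)
    have ha' := Nat.le_of_dvd hb0 hab'.1
    exact key b (List.mem_range.2 (by omega)) a (List.mem_range.2 (by omega))
      (Nat.mod_eq_zero_of_dvd hab'.1) (Nat.mod_eq_zero_of_dvd hab'.2) hab1 hb6
  have hC25 : Nat.card C = 25 := by rw [ha, hab2.1]
  have hb2 : b = 2 := by
    refine hab2.2.resolve_right fun hb3 => ?_
    obtain ⟨⟨g, hg⟩, hgo⟩ := exists_prime_orderOf_dvd_card' 3 (G := ↥(K ⊓ N)) (by rw [hb, hb3]; norm_num)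
    rw [Subgroup.orderOf_mk] at hgo
    have hA : IsPGroup 3 ↥(Subgroup.zpowers g) :=
      IsPGroup.of_card (n := 1) (by rw [Nat.card_zpowers, hgo, pow_one])
    have hm := card_inf_centralizer_modEq hA (R := (P : Subgroup G)) (Subgroup.zpowers_le.2 hg.2)
    have hdvd := Subgroup.card_dvd_of_le
      (inf_le_left : (P : Subgroup G) ⊓ Subgroup.centralizer (Subgroup.zpowers g : Set G) ≤ (P : Subgroup G))
    have hZle : Z ≤ (P : Subgroup G) ⊓ Subgroup.centralizer (Subgroup.zpowers g : Set G) :=
      le_inf inf_le_left (Subgroup.le_centralizer_iff.1 (Subgroup.zpowers_le.2 hg.1))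
    have hge := Subgroup.card_le_of_le hZle
    set c := Nat.card ↥((P : Subgroup G) ⊓ Subgroup.centralizer (Subgroup.zpowers g : Set G)) with hc
    rw [hP25] at hm hdvd
    rw [hZ5] at hge
    have key : ∀ c ∈ List.range 26, 25 % c = 0 → 5 ≤ c → 25 % 3 = c % 3 → c = 25 := by decide +kernel
    have h25 := key c (List.mem_range.2 (Nat.lt_succ_of_le (Nat.le_of_dvd (by norm_num) hdvd)))
      (Nat.mod_eq_zero_of_dvd hdvd) hge hm
    have hPle : (P : Subgroup G) ≤ Subgroup.centralizer (Subgroup.zpowers g : Set G) :=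
      inf_eq_left.1 (Subgroup.eq_of_le_of_card_ge inf_le_left (by rw [hP25, ← hc, h25]))
    have hgC : g ∈ C := Subgroup.le_centralizer_iff.1 hPle (Subgroup.mem_zpowers g)
    have := Subgroup.orderOf_dvd_natCard C hgC
    rw [hgo, hC25] at this
    norm_num at this
  -- the order of `K`
  have hKtop : K ≠ ⊤ := by
    intro h
    obtain ⟨⟨z, hz⟩, ho⟩ := exists_prime_orderOf_dvd_card' 5 (G := Z) (by rw [hZ5])
    rw [Subgroup.orderOf_mk] at ho
    have hz1 : z ≠ 1 := fun e => by rw [e, orderOf_one] at ho; omega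
    haveI := Fintype.ofFinite G
    refine SmallOrders91.centralizer_ne_top hG hz1 (top_le_iff.1 (h.symm.le.trans ?_))
    exact Subgroup.centralizer_le (by simpa using hz)
  have hK300 : Nat.card K = 300 := by
    have hnt : Nat.card (Sylow 5 K) ≠ 1 := by
      intro h
      have := (Nat.card_eq_one_iff_unique.1 h).1
      exact hPQ (Sylow.subtype_injective (Subsingleton.elim (P.subtype hPK) (Q.subtype hQK)))
    have hmod : Nat.card (Sylow 5 K) % 5 = 1 := card_sylow_modEq_one 5 K
    have hi := (P.subtype hPK).card_eq_index_normalizer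
    have hc := (Subgroup.normalizer ((P.subtype hPK : Subgroup K) : Set K)).card_mul_index
    rw [show (Subgroup.normalizer ((P.subtype hPK : Subgroup K) : Set K)).index = Nat.card (Sylow 5 K) from
      hi.symm] at hc
    have hcN : Nat.card ↥(Subgroup.normalizer ((P.subtype hPK : Subgroup K) : Set K)) = 50 := by
      have e : Subgroup.normalizer ((P.subtype hPK : Subgroup K) : Set K) = (K ⊓ N).subgroupOf K := by
        rw [Subgroup.inf_subgroupOf_left]
        exact (Subgroup.subgroupOf_normalizer_eq hPK).symm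
      rw [e, Nat.card_congr (Subgroup.subgroupOfEquivOfLe inf_le_left).toEquiv, hb, hb2]
    rw [hcN] at hc
    have h1 := K.card_mul_index
    rw [← hc, hn] at h1
    have h2 := hbig K hKtop
    set d := Nat.card (Sylow 5 K) with hd
    have hdle : d ≤ 10 := by
      by_contra h
      have := Nat.mul_le_mul (Nat.mul_le_mul_left 50 (show 11 ≤ d by omega)) h2
      omega
    have hd6 : d = 6 := by omega
    rw [← hc, hd6]
  have hKN : Subgroup.normalizer (Z : Set G) = K := by
    have hle : K ≤ Subgroup.normalizer (Z : Set G) := Subgroup.centralizer_le_normalizer _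
    refine (Subgroup.eq_of_le_of_card_ge hle ?_).symm
    by_contra hlt
    obtain ⟨j, hj⟩ := Subgroup.card_dvd_of_le hle
    have hHtop : Subgroup.normalizer (Z : Set G) ≠ ⊤ := by
      intro h
      rcases eq_bot_or_top (Subgroup.normalizer_eq_top_iff.1 h) with e | e
      · rw [e, Subgroup.card_bot] at hZ5; omega
      · rw [e, Subgroup.card_top, hn] at hZ5; omega
    have h1 := (Subgroup.normalizer (Z : Set G)).card_mul_index
    have h2 := hbig _ hHtop
    rw [hj, hn] at h1
    rw [hj, hK300] at hlt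
    rw [hK300] at h1
    have := Nat.mul_le_mul (show 600 ≤ 300 * j by omega) h2
    omega
  -- an involution of `K` central in a Sylow subgroup
  obtain ⟨V0, hV0⟩ := Sylow.exists_subgroup_card_pow_prime (G := K) 2 (n := 2) (by rw [hK300]; norm_num)
  set V := V0.map K.subtype with hV
  have hV4 : Nat.card V = 4 := by rw [hV, Subgroup.card_map_of_injective K.subtype_injective, hV0]; norm_num
  obtain ⟨S, hVS⟩ := (IsPGroup.of_card (p := 2) (n := 2) (by rw [hV4]; norm_num)).exists_le_sylow (G := G)
  have hS8 : Nat.card ↥(S : Subgroup G) = 8 := by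
    rw [sylow_card_of_eq (p := 2) (k := 3) (m := 675) (by rw [hn]; norm_num) (by norm_num) S]
    norm_num
  have hSV : (S : Subgroup G) ≤ Subgroup.normalizer (V : Set G) := by
    haveI : (V.subgroupOf (S : Subgroup G)).Normal := by
      refine Subgroup.normal_of_index_eq_two ?_
      have h1 := (V.subgroupOf (S : Subgroup G)).card_mul_index
      rw [Nat.card_congr (Subgroup.subgroupOfEquivOfLe hVS).toEquiv, hV4, hS8] at h1
      omega
    exact (Subgroup.normal_subgroupOf_iff_le_normalizer hVS).1 inferInstance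
  obtain ⟨t, ht, ht1⟩ : ∃ t ∈ V ⊓ Subgroup.centralizer ((S : Subgroup G) : Set G), t ≠ 1 := by
    by_contra h
    push Not at h
    have e : V ⊓ Subgroup.centralizer ((S : Subgroup G) : Set G) = ⊥ := (Subgroup.eq_bot_iff_forall _).2 h
    have hm := card_inf_centralizer_modEq S.2 hSV
    rw [e, Subgroup.card_bot, hV4] at hm
    exact absurd hm (by decide)
  set L := Subgroup.centralizer ({t} : Set G) with hLdef
  have htK : t ∈ K := Subgroup.map_subtype_le _ ht.1
  have hZL : Z ≤ L := fun z hz => Subgroup.mem_centralizer_singleton_iff.2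
    (Subgroup.mem_centralizer_iff.1 htK z hz)
  have hSL : (S : Subgroup G) ≤ L := fun s hs => Subgroup.mem_centralizer_singleton_iff.2
    (Subgroup.mem_centralizer_iff.1 ht.2 s hs)
  obtain ⟨j, hj⟩ := Subgroup.card_dvd_of_le hZL
  have hj5 : ¬ 5 ∣ j := by
    rintro ⟨i, rfl⟩
    obtain ⟨R0, hR0⟩ := Sylow.exists_subgroup_card_pow_prime (G := L) 5 (n := 2)
      (by rw [hj, hZ5]; exact ⟨i, by ring⟩)
    have hR : Nat.card ↥(R0.map L.subtype) = 5 ^ (Nat.card G).factorization 5 := by
      rw [Subgroup.card_map_of_injective L.subtype_injective, hR0, hn',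
        Nat.factorization_mul (by norm_num) (by norm_num), Nat.Prime.factorization_pow (by norm_num),
        Finsupp.add_apply, Finsupp.single_eq_same, Nat.factorization_eq_zero_of_not_dvd (by norm_num), add_zero]
    let R : Sylow 5 G := Sylow.ofCard (R0.map L.subtype) hR
    have htR : t ∈ Subgroup.centralizer ((R : Subgroup G) : Set G) := Subgroup.mem_centralizer_iff.2
      fun r hr => by
        obtain ⟨r', _, rfl⟩ := hr
        exact Subgroup.mem_centralizer_singleton_iff.1 r'.2
    have h1 := Subgroup.orderOf_dvd_natCard _ htR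
    rw [SimpleSearch.card_centralizer_congr R P, ← hCdef, hC25] at h1
    have h2 := Subgroup.orderOf_dvd_natCard _ ht.1
    rw [hV4] at h2
    have h3 := Nat.dvd_gcd h1 h2
    norm_num at h3
    exact ht1 h3
  have hj216 : j ∣ 216 := by
    have h1 := Subgroup.card_subgroup_dvd_card L
    rw [hj, hZ5, hn'] at h1
    have h2 : j ∣ 5 * 216 := Nat.dvd_of_mul_dvd_mul_left (by norm_num : 0 < 5) (by
      rw [show 5 * (5 * 216) = 5 ^ 2 * 216 by norm_num]; exact h1)
    exact ((Nat.Prime.coprime_iff_not_dvd (by norm_num)).2 hj5).symm.dvd_of_dvd_mul_left h2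
  have hLK := le_centralizer_of_burnside (IsPGroup.of_card (n := 1) (by rw [hZ5, pow_one])) hZL hj hj216
    (inf_le_right.trans hKN.le)
  have h8 := Subgroup.card_dvd_of_le (hSL.trans hLK)
  rw [hS8, hK300] at h8
  norm_num at h8

end Cfsg.Agent.SimpleRange30
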