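import Mathlib
import Cfsg.Agent.Lib.SimpleRange5400X30
import Cfsg.Agent.Lib.SimpleRangeSpecial30
import Cfsg.Agent.Lib.DihedralBound81

/-!
There are no simple groups of order `1800`, `3600` or `2160`.
-/

set_option autoImplicit false
set_option linter.style.haveILetI false

open scoped ComplexConjugate

namespace Cfsg.Agent.SimpleRangeLow81

open Cfsg Cfsg.Agent.BlockPrime86 Cfsg.Agent.BlockPrincipal81 Cfsg.Agent.BlockCount91
  Cfsg.Agent.SimpleOrder Cfsg.Agent.SimpleOrderCheck Cfsg.Agent.SimpleRange30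

set_option synthInstance.maxSize 2000 in
theorem key2160 : ∀ d ∈ List.range 47, ∀ D ∈ List.range 47, 2160 % d = 0 → 2160 % D = 0 → 2 ≤ d →
    1 + (d ^ 2 + 2 * D ^ 2) ≤ 2160 → (D % 5 = 2 ∨ D % 5 = 3) →
    (d % 5 = 1 → D ≠ d + 1) ∧ (d % 5 = 4 → D + 1 = d → (d = 4 ∧ D = 3) ∨ (d = 9 ∧ D = 8)) := by
  decide +kernel

attribute [local instance] Classical.propDecidable

variable {G : Type*} [Group G] [Finite G] [IsSimpleGroup G]

theorem ne_sq_five {m : ℕ} (hm : m = 72 ∨ m = 144) : Nat.card G ≠ 5 ^ 2 * m := by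
  intro hn
  have hm5 : ¬ 5 ∣ m := by rcases hm with rfl | rfl <;> norm_num
  have hm144 : m ∣ 144 := by rcases hm with rfl | rfl <;> norm_num
  have hm0 : 0 < m := by omega
  have hnp : ¬ (Nat.card G).Prime := by rw [hn]; exact Nat.not_prime_mul (by norm_num) (by omega)
  have hG := not_comm_of_not_prime (G := G) hnp
  haveI : Fact (Nat.Prime 5) := ⟨by norm_num⟩
  have hidx : ∀ H : Subgroup G, H ≠ ⊤ → 10 ≤ H.index := by
    intro H hH
    by_contra hlt
    have h := two_mul_card_dvd_factorial_index hG H hH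
    have h25 : 25 ∣ H.index.factorial := (Dvd.intro (2 * m) (by rw [hn]; ring)).trans h
    have key : ∀ i ∈ List.range 10, ¬ 25 ∣ i.factorial := by decide +kernel
    exact key _ (List.mem_range.2 (by omega)) h25
  have hbig : ∀ H : Subgroup G, H ≠ ⊤ → 10 * Nat.card H ≤ 25 * 144 := by
    intro H hH
    calc 10 * Nat.card H ≤ H.index * Nat.card H := Nat.mul_le_mul_right _ (hidx H hH)
      _ = Nat.card G := by rw [mul_comm]; exact H.card_mul_index
      _ ≤ 25 * 144 := by rw [hn]; exact Nat.mul_le_mul_left _ (Nat.le_of_dvd (by norm_num) hm144)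
  have hP25 : ∀ R : Sylow 5 G, Nat.card ↥(R : Subgroup G) = 25 := fun R => by
    rw [sylow_card_of_eq hn hm5 R]; norm_num
  have hab : ∀ R : Sylow 5 G, (R : Subgroup G) ≤ Subgroup.centralizer ((R : Subgroup G) : Set G) := by
    intro R a ha
    have hc := IsPGroup.commutative_of_card_eq_prime_sq (G := ↥(R : Subgroup G)) (p := 5)
      (by rw [hP25]; norm_num)
    exact Subgroup.mem_centralizer_iff.2 fun b hb => congrArg Subtype.val (hc ⟨b, hb⟩ ⟨a, ha⟩)
  have hd10 : ∀ R : Sylow 5 G, 10 ≤ Nat.card (Sylow 5 G) := fun R =>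
    (hidx _ (normalizer_ne_top hG (by rw [hn]; exact Dvd.intro (5 * m) (by ring)) R)).trans
      R.card_eq_index_normalizer.symm.le
  have hd : Nat.card (Sylow 5 G) % 5 ^ 2 ≠ 1 := by
    obtain ⟨R⟩ : Nonempty (Sylow 5 G) := inferInstance
    have h1 := (card_sylow_dvd (p := 5) hn hm5).trans hm144
    have h2 : Nat.card (Sylow 5 G) % 5 = 1 := card_sylow_modEq_one 5 G
    have key : ∀ d ∈ List.range 145, 144 % d = 0 → d % 5 = 1 → 10 ≤ d → d % 25 ≠ 1 := by decide +kernel
    simpa using key _ (List.mem_range.2 (Nat.lt_succ_of_le (Nat.le_of_dvd (by norm_num) h1)))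
      (Nat.mod_eq_zero_of_dvd h1) h2 (hd10 R)
  obtain ⟨P, Q, hPQ, hrel⟩ := exists_inter_relIndex_eq (G := G) (p := 5) hd
  set Z := (P : Subgroup G) ⊓ (Q : Subgroup G) with hZdef
  have hZ5 : Nat.card Z = 5 := by
    have h1 := Subgroup.card_mul_index ((Q : Subgroup G).subgroupOf (P : Subgroup G))
    rw [← Subgroup.relIndex, hrel, hP25, ← Subgroup.inf_subgroupOf_left,
      Nat.card_congr (Subgroup.subgroupOfEquivOfLe (inf_le_left : Z ≤ _)).toEquiv] at h1
    rw [hZdef]; omega
  set N := Subgroup.normalizer ((P : Subgroup G) : Set G) with hNdef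
  set C := Subgroup.centralizer ((P : Subgroup G) : Set G) with hCdef
  set K := Subgroup.centralizer (Z : Set G) with hKdef
  have hPK : (P : Subgroup G) ≤ K :=
    (hab P).trans (Subgroup.centralizer_le (show (Z : Set G) ⊆ (P : Subgroup G) from inf_le_left))
  have hQK : (Q : Subgroup G) ≤ K :=
    (hab Q).trans (Subgroup.centralizer_le (show (Z : Set G) ⊆ (Q : Subgroup G) from inf_le_right))
  have hKtop : K ≠ ⊤ := by
    intro h
    obtain ⟨⟨z, hz⟩, ho⟩ := exists_prime_orderOf_dvd_card' 5 (G := Z) (by rw [hZ5])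
    rw [Subgroup.orderOf_mk] at ho
    have hz1 : z ≠ 1 := fun e => by rw [e, orderOf_one] at ho; omega
    haveI := Fintype.ofFinite G
    refine SmallOrders91.centralizer_ne_top hG hz1 (top_le_iff.1 (h.symm.le.trans ?_))
    exact Subgroup.centralizer_le (by simpa using hz)
  obtain ⟨b, hb⟩ := Subgroup.card_dvd_of_le (show (P : Subgroup G) ≤ K ⊓ N from le_inf hPK Subgroup.le_normalizer)
  rw [hP25] at hb
  set q := Nat.card (Sylow 5 K) with hq
  have hKq : Nat.card K = q * (25 * b) := by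
    have hi := (P.subtype hPK).card_eq_index_normalizer
    have hc := (Subgroup.normalizer ((P.subtype hPK : Subgroup K) : Set K)).card_mul_index
    rw [show (Subgroup.normalizer ((P.subtype hPK : Subgroup K) : Set K)).index = q from hi.symm] at hc
    have e : Subgroup.normalizer ((P.subtype hPK : Subgroup K) : Set K) = (K ⊓ N).subgroupOf K := by
      rw [Subgroup.inf_subgroupOf_left]
      exact (Subgroup.subgroupOf_normalizer_eq hPK).symm
    rw [e, Nat.card_congr (Subgroup.subgroupOfEquivOfLe inf_le_left).toEquiv, hb] at hc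
    rw [← hc, mul_comm]
  have hq1 : q ≠ 1 := by
    intro h
    have := (Nat.card_eq_one_iff_unique.1 h).1
    exact hPQ (Sylow.subtype_injective (Subsingleton.elim (P.subtype hPK) (Q.subtype hQK)))
  have hb0 : 0 < b := Nat.pos_of_ne_zero fun h => by
    have h0 : 0 < Nat.card ↥(K ⊓ N) := Nat.card_pos
    rw [hb, h] at h0; omega
  have hqb : q = 6 ∧ b ≤ 2 := by
    have h1 := hbig K hKtop
    have h2 : q % 5 = 1 := card_sylow_modEq_one 5 K
    have hq0 : 0 < q := Nat.card_pos
    have hle : q * b ≤ 14 := by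
      rw [hKq, show q * (25 * b) = 25 * (q * b) by ring] at h1
      omega
    have h3 : q * b ∣ m := by
      have h := Subgroup.card_subgroup_dvd_card K
      rw [hKq, hn, show q * (25 * b) = 25 * (q * b) by ring, show (5 : ℕ) ^ 2 = 25 by norm_num] at h
      exact Nat.dvd_of_mul_dvd_mul_left (by norm_num) h
    have key : ∀ q ∈ List.range 15, ∀ b ∈ List.range 15, q % 5 = 1 → q ≠ 1 → 0 < b → q * b ≤ 14 →
        144 % (q * b) = 0 → q = 6 ∧ b ≤ 2 := by decide +kernel
    exact key q (List.mem_range.2 (by nlinarith)) b (List.mem_range.2 (by nlinarith)) h2 hq1 hb0 hle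
      (Nat.mod_eq_zero_of_dvd (h3.trans hm144))
  obtain ⟨hq6, hb2⟩ := hqb
  -- `K ∩ N` is not inside `C`
  have hne1 : ¬ K ⊓ N ≤ C := by
    intro h
    have hj : Nat.card K = Nat.card ↥(P : Subgroup G) * (6 * b) := by rw [hKq, hq6, hP25]; ring
    have hj' : 6 * b ∣ 216 := by interval_cases b <;> norm_num
    have hle := le_centralizer_of_burnside P.2 hPK hj hj' h
    exact hPQ (Sylow.ext (P.3 Q.2 (P.2.sylow_mem_fixedPoints_iff.mp (fun g => by
      refine Sylow.smul_eq_iff_mem_normalizer.2 ?_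
      have hgC : (g : G) ∈ Subgroup.centralizer ((Q : Subgroup G) : Set G) :=
        Subgroup.le_centralizer_iff.1 (hQK.trans hle) g.2
      exact Subgroup.centralizer_le_normalizer _ hgC))).symm)
  obtain rfl : b = 2 := by
    by_contra h
    obtain rfl : b = 1 := by omega
    refine hne1 ((Subgroup.eq_of_le_of_card_ge (show (P : Subgroup G) ≤ K ⊓ N from
      le_inf hPK Subgroup.le_normalizer) ?_).symm.le.trans (hab P))
    rw [hb, hP25]
  -- `N` does not centralize `Z`
  have hne2 : ¬ N ≤ K := by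
    intro h
    haveI : IsMulCommutative ↥(P : Subgroup G) :=
      ⟨⟨fun a b => Subtype.ext (Subgroup.mem_centralizer_iff.1 (hab P b.2) a a.2)⟩⟩
    obtain ⟨⟨z, hz⟩, ho⟩ := exists_prime_orderOf_dvd_card' 5 (G := Z) (by rw [hZ5])
    rw [Subgroup.orderOf_mk] at ho
    have hzP : z ∈ (P : Subgroup G) := (inf_le_left : Z ≤ _) hz
    letI : CommGroup ↥(P : Subgroup G) :=
      { (inferInstance : Group ↥(P : Subgroup G)) with mul_comm := IsMulCommutative.is_comm.comm }
    let f := MonoidHom.transfer (MonoidHom.id ↥(P : Subgroup G))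
    have hkey : ∀ (k : ℕ) (g₀ : G), g₀⁻¹ * z ^ k * g₀ ∈ (P : Subgroup G) →
        g₀⁻¹ * z ^ k * g₀ = z ^ k := by
      intro k g₀ hg
      obtain ⟨n, hnN, hconj⟩ := P.conj_eq_normalizer_conj_of_mem (z ^ k) g₀ (pow_mem hzP k) hg
      rw [hconj]
      have hc := Subgroup.mem_centralizer_iff.1 (h hnN) (z ^ k) (pow_mem hz k)
      rw [mul_assoc, hc, inv_mul_cancel_left]
    have hfz : f z = ⟨z ^ (P : Subgroup G).index, MonoidHom.transfer_eq_pow_aux z hkey⟩ :=
      MonoidHom.transfer_eq_pow _ z hkey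
    rcases eq_bot_or_top (MonoidHom.normal_ker f) with h' | h'
    · exact hG ⟨⟨fun a b => (MonoidHom.ker_eq_bot_iff f).1 h' (by rw [map_mul, map_mul, mul_comm])⟩⟩
    · have h1 : f z = 1 := by rw [← MonoidHom.mem_ker, h']; exact Subgroup.mem_top z
      rw [hfz] at h1
      have h2 : z ^ (P : Subgroup G).index = 1 := congrArg Subtype.val h1
      rw [← orderOf_dvd_iff_pow_eq_one, ho, sylow_index_of_eq hn hm5 P] at h2
      exact hm5 h2
  obtain ⟨r, hr⟩ := Subgroup.card_dvd_of_le (inf_le_right : K ⊓ N ≤ N)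
  rw [hb] at hr
  have hr1 : r ≠ 1 := fun h => hne2 ((Subgroup.eq_of_le_of_card_ge (inf_le_right : K ⊓ N ≤ N)
    (by rw [hr, hb, h])).symm.le.trans inf_le_left)
  have hr2 : r = 2 := by
    have h1 := N.card_mul_index
    rw [show N.index = Nat.card (Sylow 5 G) from P.card_eq_index_normalizer.symm, hr, hn] at h1
    have h2 : Nat.card (Sylow 5 G) % 5 = 1 := card_sylow_modEq_one 5 G
    have h3 := (card_sylow_dvd (p := 5) hn hm5).trans hm144
    have h4 := hd10 P
    have key : ∀ d ∈ List.range 145, d % 5 = 1 → 10 ≤ d → 144 % d = 0 →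
        (72 % (2 * d) = 0 → 72 / (2 * d) = 1 ∨ 72 / (2 * d) = 2) ∧
        (144 % (2 * d) = 0 → 144 / (2 * d) = 1 ∨ 144 / (2 * d) = 2) := by decide +kernel
    set d := Nat.card (Sylow 5 G) with hddef
    obtain ⟨k1, k2⟩ := key d (List.mem_range.2 (Nat.lt_succ_of_le (Nat.le_of_dvd (by norm_num) h3))) h2 h4
      (Nat.mod_eq_zero_of_dvd h3)
    have hm' : m = 2 * d * r := by linarith
    have hdiv : m / (2 * d) = r := by rw [hm', Nat.mul_div_cancel_left _ (by omega)]
    have hmod : m % (2 * d) = 0 := by rw [hm']; exact Nat.mul_mod_right _ _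
    rcases hm with rfl | rfl
    · rcases k1 hmod with e | e <;> omega
    · rcases k2 hmod with e | e <;> omega
  have hNI : N ≤ Subgroup.normalizer ((K ⊓ N : Subgroup G) : Set G) := by
    refine (Subgroup.normal_subgroupOf_iff_le_normalizer inf_le_right).1 (Subgroup.normal_of_index_eq_two ?_)
    have h1 := ((K ⊓ N).subgroupOf N).card_mul_index
    rw [Nat.card_congr (Subgroup.subgroupOfEquivOfLe inf_le_right).toEquiv, hb, hr, hr2] at h1
    omega
  have hfix : (P : Subgroup G) ⊓ Subgroup.centralizer ((K ⊓ N : Subgroup G) : Set G) = Z := by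
    have hZle : Z ≤ (P : Subgroup G) ⊓ Subgroup.centralizer ((K ⊓ N : Subgroup G) : Set G) :=
      le_inf inf_le_left (Subgroup.le_centralizer_iff.1 inf_le_left)
    refine (Subgroup.eq_of_le_of_card_ge hZle ?_).symm
    have hdvd := Subgroup.card_dvd_of_le (inf_le_left :
      (P : Subgroup G) ⊓ Subgroup.centralizer ((K ⊓ N : Subgroup G) : Set G) ≤ (P : Subgroup G))
    set c := Nat.card ↥((P : Subgroup G) ⊓ Subgroup.centralizer ((K ⊓ N : Subgroup G) : Set G)) with hc
    rw [hP25] at hdvd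
    have hne : c ≠ 25 := fun h => hne1 (Subgroup.le_centralizer_iff.1
      (inf_eq_left.1 (Subgroup.eq_of_le_of_card_ge inf_le_left (by rw [hP25, ← hc, h]))))
    have key : ∀ c ∈ List.range 26, 25 % c = 0 → c ≠ 25 → c ≤ 5 := by decide +kernel
    rw [hZ5]
    exact key c (List.mem_range.2 (Nat.lt_succ_of_le (Nat.le_of_dvd (by norm_num) hdvd)))
      (Nat.mod_eq_zero_of_dvd hdvd) hne
  have hNZ : N ≤ Subgroup.normalizer (Z : Set G) := by
    refine SignalizerCoprime.le_normalizer_of_forall fun g hg z hz => ?_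
    rw [← hfix] at hz ⊢
    refine ⟨(Subgroup.mem_normalizer_iff.1 hg z).1 hz.1, Subgroup.mem_centralizer_iff.2 fun h hh => ?_⟩
    have hw : g⁻¹ * h * g ∈ K ⊓ N := (Subgroup.mem_normalizer_iff''.1 (hNI hg) h).1 hh
    have h1 := Subgroup.mem_centralizer_iff.1 hz.2 _ hw
    calc h * (g * z * g⁻¹) = g * ((g⁻¹ * h * g) * z) * g⁻¹ := by group
      _ = g * (z * (g⁻¹ * h * g)) * g⁻¹ := by rw [h1]
      _ = g * z * g⁻¹ * h := by group
  have hKN : Subgroup.normalizer (Z : Set G) = K := by
    have hle : K ≤ Subgroup.normalizer (Z : Set G) := Subgroup.centralizer_le_normalizer _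
    refine (Subgroup.eq_of_le_of_card_ge hle ?_).symm
    obtain ⟨j, hj⟩ := Subgroup.card_dvd_of_le hle
    have hHtop : Subgroup.normalizer (Z : Set G) ≠ ⊤ := by
      intro h
      rcases eq_bot_or_top (Subgroup.normalizer_eq_top_iff.1 h) with e | e
      · rw [e, Subgroup.card_bot] at hZ5; omega
      · rw [e, Subgroup.card_top, hn] at hZ5; omega
    have h2 := hbig _ hHtop
    rw [hj, hKq, hq6] at h2 ⊢
    omega
  exact hne2 (hKN ▸ hNZ)

theorem ne_1800 : Nat.card G ≠ 1800 := by
  simpa using ne_sq_five (G := G) (Or.inl rfl)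

theorem ne_3600 : Nat.card G ≠ 3600 := by
  simpa using ne_sq_five (G := G) (Or.inr rfl)

theorem ne_2160 : Nat.card G ≠ 2160 := by
  intro hn
  have hG := not_comm_of_not_prime (G := G) (by rw [hn]; norm_num)
  haveI : Fact (Nat.Prime 5) := ⟨by norm_num⟩
  haveI := Fintype.ofFinite G
  obtain ⟨M, hM⟩ := ZStarCount.exists_isPModular 5 (by norm_num)
  obtain ⟨P⟩ : Nonempty (Sylow 5 G) := inferInstance
  obtain ⟨hP, e, hgood, hrel, hC⟩ := block_data hG hn (p := 5) (by norm_num) (by norm_num) (by norm_num)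
    (fun d e => decide (d = 216 ∧ e = 2)) (by decide +kernel) P
  obtain ⟨hd216, rfl⟩ : Nat.card (Sylow 5 G) = 216 ∧ e = 2 := by simpa using hgood
  have hN : Nat.card ↥(Subgroup.normalizer ((P : Subgroup G) : Set G)) = 2 * 5 := by
    have h := (Subgroup.normalizer ((P : Subgroup G) : Set G)).card_mul_index
    rw [show (Subgroup.normalizer ((P : Subgroup G) : Set G)).index = Nat.card (Sylow 5 G) from
      P.card_eq_index_normalizer.symm, hd216, hn] at h
    omega
  -- a central involution of a Sylow `2`-subgroup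
  haveI : Fact (Nat.Prime 2) := ⟨Nat.prime_two⟩
  obtain ⟨S⟩ : Nonempty (Sylow 2 G) := inferInstance
  have hS : Nat.card ↥(S : Subgroup G) = 2 ^ 4 :=
    sylow_card_of_eq (p := 2) (k := 4) (m := 135) (by rw [hn]; norm_num) (by norm_num) S
  haveI : Nontrivial ↥(S : Subgroup G) := Finite.one_lt_card_iff_nontrivial.1 (by rw [hS]; norm_num)
  haveI : Nontrivial (Subgroup.center ↥(S : Subgroup G)) := (S.2).center_nontrivial
  obtain ⟨⟨⟨t, htS⟩, htc⟩, ht⟩ := exists_prime_orderOf_dvd_card' 2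
    (G := Subgroup.center ↥(S : Subgroup G)) (by
      obtain ⟨k, hk⟩ := (S.2.to_subgroup (Subgroup.center ↥(S : Subgroup G))).exists_card_eq
      have h1 : 1 < Nat.card (Subgroup.center ↥(S : Subgroup G)) := Finite.one_lt_card
      rw [hk] at h1 ⊢
      exact dvd_pow_self 2 (fun h => by rw [h] at h1; omega))
  rw [Subgroup.orderOf_mk, Subgroup.orderOf_mk] at ht
  have hSc : (S : Subgroup G) ≤ Subgroup.centralizer ({t} : Set G) := fun s hs =>
    Subgroup.mem_centralizer_singleton_iff.2 (congrArg Subtype.val (Subgroup.mem_center_iff.1 htc ⟨s, hs⟩))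
  obtain ⟨h8, hp5, hlt, hdvd⟩ := SmallOrders91.centralizer_data hG (by norm_num) hP hC (by rw [hn]; norm_num) ht
  set c := Nat.card ↥(Subgroup.centralizer ({t} : Set G)) with hc
  have h16 : 16 ∣ c := by
    have := Subgroup.card_dvd_of_le hSc
    rwa [hS] at this
  have hc16 : c = 16 := by
    by_contra hne
    refine DihedralBound81.false_of_dihedral_bound hG (by norm_num) P hP hN hC ht ?_
    have hpos : 0 < c := Nat.card_pos
    have h32 : 42 ≤ c := by
      rw [hn] at hdvd
      obtain ⟨j, hj⟩ := h16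
      by_contra hlt'
      have hj2 : j = 2 := by omega
      subst hj2
      rw [hj] at hdvd
      norm_num at hdvd
    have := Nat.mul_le_mul h32 h32
    rw [hn, ← hc, pow_two]
    omega
  obtain ⟨χ, Y, a, ε, D, hχ1, h1Y, hχY, hYc, -, hYd, ha, hε, hsgn, hdmod, hDmod, heq, h120, hy0⟩ :=
    SmallOrders91.two_block hM hP (by norm_num) hrel
  obtain ⟨⟨y, hyP⟩, hyo⟩ := exists_prime_orderOf_dvd_card' 5 (G := ↥(P : Subgroup G)) (by rw [hP])
  rw [Subgroup.orderOf_mk] at hyo
  have hy1 : y ≠ 1 := fun e => by rw [e, orderOf_one] at hyo; omega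
  obtain ⟨hχy, hout, hYsum⟩ := hy0 hC y hyP hy1
  obtain ⟨θ, hθ⟩ : Y.Nonempty := Finset.card_pos.1 (by rw [hYc]; norm_num)
  -- degrees
  have hsum : 1 + (deg χ ^ 2 + 2 * D ^ 2) ≤ 2160 := by
    have h := sum_subset_le (insert (oneChar G) (insert χ Y))
    rw [Finset.sum_insert (by simp [Ne.symm hχ1, h1Y]), Finset.sum_insert hχY, deg_one,
      Finset.sum_congr rfl (g := fun _ => D ^ 2) fun η hη => by rw [(hYd η hη).2],
      Finset.sum_const, hYc, hn] at h
    simpa using h
  have hdd : deg χ ∣ 2160 := hn ▸ deg_dvd χ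
  have hDd : D ∣ 2160 := (hYd θ hθ).2 ▸ hn ▸ deg_dvd θ
  have h2le := two_le_deg hG hχ1
  obtain ⟨d, hd⟩ : ∃ d, deg χ = d := ⟨_, rfl⟩
  rw [hd] at hdd hsum hdmod h2le heq hsgn
  have hcase : (d = 4 ∧ D = 3 ∧ a = -1 ∧ ε = -1) ∨ (d = 9 ∧ D = 8 ∧ a = -1 ∧ ε = -1) := by
    have key := key2160
    have hd47 : d < 47 := by
      by_contra h
      have := Nat.mul_le_mul (not_lt.1 h) (not_lt.1 h)
      rw [pow_two] at hsum
      omega
    have hD47 : D < 47 := by
      by_contra h
      have := Nat.mul_le_mul (not_lt.1 h) (not_lt.1 h)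
      rw [pow_two, pow_two] at hsum
      omega
    obtain ⟨k1, k2⟩ := key d (List.mem_range.2 hd47) D (List.mem_range.2 hD47) (Nat.mod_eq_zero_of_dvd hdd)
      (Nat.mod_eq_zero_of_dvd hDd) h2le hsum hDmod
    unfold BlockCount91.sgn at hsgn
    rcases hdmod with hm | hm
    · rw [if_pos hm] at hsgn
      subst hsgn
      rcases hε with rfl | rfl
      · exact absurd (by omega) (k1 hm)
      · omega
    · rw [if_neg (by omega)] at hsgn
      subst hsgn
      rcases hε with rfl | rfl
      · omega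
      · rcases k2 (by omega) (by omega) with ⟨rfl, rfl⟩ | ⟨rfl, rfl⟩
        · exact Or.inl ⟨rfl, rfl, rfl, rfl⟩
        · exact Or.inr ⟨rfl, rfl, rfl, rfl⟩
  -- values at `t`
  obtain ⟨z, hz, hzlo, hzhi⟩ := DihedralBound81.exists_int_apply_le ht χ (d := d) (by rw [apply_one, hd])
  have ht1 : t ≠ 1 := fun e => by rw [e, orderOf_one] at ht; omega
  have hzd : z ≠ d := fun h => DihedralBound81.apply_ne_apply_one ht1 χ (d := d)
    (by rw [apply_one, hd]) (by omega) (by rw [hz, apply_one, hd, h]; norm_num)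
  have hnot : ¬ 5 ∣ orderOf t := by rw [ht]; norm_num
  have hcy : Nat.card ↥(Subgroup.centralizer ({y} : Set G)) = 5 := by
    rw [centralizer_of_order hP hC hyo, Nat.card_zpowers, hyo]
  have htr := ClassAlgebraVal.sum_irr_triple t t y
  set N' := Nat.card {x : G // IsConj y (t * (x * t * x⁻¹))} with hN'
  have hN2 : N' = 0 ∨ N' = 256 := by
    rcases (count_eq hP (by norm_num) hC hyo ht).1 with h | h
    · exact Or.inl h
    · exact Or.inr (by rw [hN', h, ← hc, hc16]; norm_num)
  rw [hcy, hn, ← Finset.sum_subset (Finset.subset_univ (insert (oneChar G) (insert χ Y))) (fun η _ hη => by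
      simp only [Finset.mem_insert, not_or] at hη
      rw [hout η hη.1 hη.2.1 hη.2.2]; simp),
    Finset.sum_insert (by simp [Ne.symm hχ1, h1Y]), Finset.sum_insert hχY] at htr
  have hYs : ∑ η ∈ Y, (η : G → ℂ) t * (η : G → ℂ) t * conj ((η : G → ℂ) y) / (η : G → ℂ) 1 =
      (1 + (a : ℂ) * z) ^ 2 / D * ((-ε : ℤ) : ℂ) := by
    rw [← hYsum, Finset.mul_sum]
    refine Finset.sum_congr rfl fun η hη => ?_
    have h := h120 η hη t hnot
    rw [hz] at h
    rw [apply_one, (hYd η hη).2]
    have hsq : (η : G → ℂ) t * (η : G → ℂ) t = (1 + (a : ℂ) * z) ^ 2 := by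
      rw [← h]
      rcases hε with rfl | rfl <;> push_cast <;> ring
    rw [hsq]; ring
  rw [hYs, hχy, hz, apply_one, apply_one, deg_one, hd] at htr
  simp only [BlockPrincipal81.oneChar] at htr
  rw [map_one, show conj ((a : ℂ)) = (a : ℂ) from map_intCast _ a] at htr
  rcases hcase with ⟨rfl, rfl, rfl, rfl⟩ | ⟨rfl, rfl, rfl, rfl⟩ <;>
    rcases hN2 with e | e <;> rw [e] at htr
  all_goals
    push_cast at htr
    norm_num at htr
    ring_nf at htr
    interval_cases z <;> first | omega | (norm_num at htr)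

end Cfsg.Agent.SimpleRangeLow81
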