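import Cfsg.Agent.Lib.SimpleRangeLow81

/-!
Certificates for the orders 1957..2820.
-/

set_option autoImplicit false

namespace Cfsg.Agent.SimpleRangeLow81

open Cfsg Cfsg.Agent.SimpleRange30

/-- Certificates from 1957. -/
def certsLow1957 : List Cert := [
  .two 19 1 103 1,
  .least 2,
  .two 3 1 653 1,
  .kill1 [] 7 2,
  .two 37 1 53 1,
  .least 2,
  .two 13 1 151 1,
  .two 2 2 491 1,
  .least 3,
  .two 2 1 983 1,
  .two 7 1 281 1,
  .kill1 [] 41 1,
  .two 11 1 179 1,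
  .least 2,
  .two 3 3 73 1,
  .kill1 [] 29 1,
  .prime,
  .least 2,
  .two 5 2 79 1,
  .kill1 [] 19 1,
  .two 3 1 659 1,
  .least 2,
  .prime,
  .small [5, 11] 11,
  .two 7 1 283 1,
  .two 2 1 991 1,
  .two 3 1 661 1,
  .two 2 6 31 1,
  .two 5 1 397 1,
  .least 2,
  .prime,
  .kill1 [] 71 1,
  .kill1 [] 17 1,
  .least 2,
  .two 11 1 181 1,
  .kill1 [] 83 1,
  .prime,
  .two 2 1 997 1,
  .least 3,
  .two 2 2 499 1,
  .prime,
  .least 2,
  .prime,
  .two 2 4 5 3,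
  .least 3,
  .least 2,
  .prime,
  .kill1 [] 167 1,
  .two 5 1 401 1,
  .least 2,
  .two 3 2 223 1,
  .two 2 3 251 1,
  .two 7 2 41 1,
  .least 2,
  .prime,
  .two 2 2 503 1,
  .least 3,
  .least 2,
  .least 5,
  .small [7] 7,
  .prime,
  .two 2 1 1009 1,
  .two 3 1 673 1,
  .kill1 [] 101 1,
  .two 43 1 47 1,
  .least 2,
  .two 7 1 17 2,
  .kill1 [] 23 1,
  .two 3 4 5 2,
  .two 2 1 1013 1,
  .prime,
  .kill1 [] 13 2,
  .prime,
  .least 2,
  .two 3 1 677 1,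
  .two 2 4 127 1,
  .two 19 1 107 1,
  .least 2,
  .least 5,
  .two 2 2 509 1,
  .least 3,
  .two 2 1 1019 1,
  .prime,
  .kill1 [] 17 1,
  .two 13 1 157 1,
  .two 2 1 1021 1,
  .two 3 2 227 1,
  .kill1 [] 73 1,
  .two 5 1 409 1,
  .least 2,
  .two 23 1 89 1,
  .kill1 [] 2 11,
  .two 3 1 683 1,
  .least 2,
  .two 7 1 293 1,
  .kill1 [] 19 1,
  .prime,
  .least 2,
  .least 3,
  .two 2 3 257 1,
  .two 11 2 17 1,
  .least 2,
  .two 29 1 71 1,
  .kill1 [] 103 1,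
  .two 3 2 229 1,
  .two 2 1 1031 1,
  .prime,
  .kill1 [] 43 1]

theorem certsLow1957_length : certsLow1957.length = 108 := rfl

theorem certsLow1957_check : checkLowFrom 1957 certsLow1957 = true := by
  decide +kernel

/-- Certificates from 2065. -/
def certsLow2065 : List Cert := [
  .least 5,
  .two 2 1 1033 1,
  .least 3,
  .kill1 [] 47 1,
  .prime,
  .least 2,
  .two 19 1 109 1,
  .kill1 [] 37 1,
  .two 3 1 691 1,
  .least 2,
  .two 5 2 83 1,
  .kill1 [] 173 1,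
  .two 31 1 67 1,
  .two 2 1 1039 1,
  .kill1 [] 11 1,
  .small [5, 13] 5,
  .prime,
  .least 2,
  .prime,
  .two 2 2 521 1,
  .least 3,
  .least 2,
  .prime,
  .kill1 [] 29 1,
  .prime,
  .least 2,
  .least 3,
  .two 2 2 523 1,
  .least 7,
  .least 2,
  .two 5 1 419 1,
  .two 2 4 131 1,
  .two 3 2 233 1,
  .two 2 1 1049 1,
  .prime,
  .small [3, 7] 3,
  .two 11 1 191 1,
  .two 2 1 1051 1,
  .two 3 1 701 1,
  .two 2 3 263 1,
  .two 5 1 421 1,
  .least 2,
  .two 7 2 43 1,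
  .kill1 [] 31 1,
  .least 3,
  .least 2,
  .prime,
  .kill1 [3, 11] 11 1,
  .prime,
  .least 2,
  .kill1 [] 47 1,
  .two 2 2 23 2,
  .two 29 1 73 1,
  .least 2,
  .two 13 1 163 1,
  .kill1 [] 53 1,
  .least 3,
  .two 2 1 1061 1,
  .two 11 1 193 1,
  .kill1 [] 59 1,
  .two 5 3 17 1,
  .two 2 1 1063 1,
  .two 3 1 709 1,
  .kill1 [] 19 1,
  .prime,
  .least 2,
  .prime,
  .kill1 [] 41 1,
  .two 3 3 79 1,
  .least 2,
  .least 5,
  .kill1 [] 89 1,
  .prime,
  .two 2 1 1069 1,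
  .least 3,
  .kill1 [] 107 1,
  .prime,
  .least 2,
  .prime,
  .two 2 5 67 1,
  .least 3,
  .least 2,
  .two 19 1 113 1,
  .kill1 [] 179 1,
  .two 7 1 307 1,
  .least 2,
  .two 3 2 239 1,
  .two 2 3 269 1,
  .prime,
  .least 2,
  .two 5 1 431 1,
  .kill1 [] 11 1,
  .two 3 1 719 1,
  .least 2,
  .two 17 1 127 1,
  .given,
  .prime,
  .least 2,
  .least 3,
  .two 2 2 541 1,
  .two 5 1 433 1,
  .least 2,
  .two 11 1 197 1,
  .two 2 3 271 1,
  .two 3 2 241 1,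
  .least 2,
  .two 13 1 167 1,
  .kill1 [] 181 1]

theorem certsLow2065_length : certsLow2065.length = 108 := rfl

theorem certsLow2065_check : checkLowFrom 2065 certsLow2065 = true := by
  decide +kernel

/-- Certificates from 2173. -/
def certsLow2173 : List Cert := [
  .two 41 1 53 1,
  .two 2 1 1087 1,
  .least 3,
  .two 2 7 17 1,
  .two 7 1 311 1,
  .least 2,
  .prime,
  .kill1 [] 109 1,
  .two 3 1 727 1,
  .two 2 1 1091 1,
  .two 37 1 59 1,
  .kill1 [3, 7, 13] 13 1,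
  .least 5,
  .two 2 1 1093 1,
  .kill1 [] 3 7,
  .two 2 2 547 1,
  .two 11 1 199 1,
  .least 2,
  .two 7 1 313 1,
  .two 2 4 137 1,
  .least 3,
  .two 2 1 1097 1,
  .two 5 1 439 1,
  .kill1 [] 61 1,
  .kill1 [] 13 3,
  .least 2,
  .two 3 1 733 1,
  .kill1 [] 5 2,
  .two 31 1 71 1,
  .least 2,
  .prime,
  .kill1 [] 29 1,
  .kill1 [] 7 2,
  .two 2 1 1103 1,
  .prime,
  .kill1 [3, 23] 23 1,
  .kill1 [] 47 2,
  .least 2,
  .least 3,
  .kill1 [] 79 1,
  .prime,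
  .least 2,
  .two 5 1 443 1,
  .two 2 3 277 1,
  .two 3 1 739 1,
  .two 2 1 1109 1,
  .two 7 1 317 1,
  .kill1 [] 37 1,
  .prime,
  .least 2,
  .kill1 [] 13 1,
  .two 2 4 139 1,
  .two 5 2 89 1,
  .least 2,
  .two 17 1 131 1,
  .two 2 2 557 1,
  .two 3 1 743 1,
  .least 2,
  .two 23 1 97 1,
  .kill1 [] 31 1,
  .least 7,
  .two 2 1 1117 1,
  .least 3,
  .kill1 [] 43 1,
  .prime,
  .least 2,
  .prime,
  .kill1 [] 2 6,
  .two 3 3 83 1,
  .least 2,
  .prime,
  .kill1 [] 17 1,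
  .two 5 1 449 1,
  .two 2 1 1123 1,
  .least 3,
  .two 2 3 281 1,
  .two 13 1 173 1,
  .least 2,
  .prime,
  .two 2 2 563 1,
  .two 3 1 751 1,
  .least 2,
  .least 5,
  .kill1 [] 47 1,
  .two 37 1 61 1,
  .two 2 1 1129 1,
  .two 3 2 251 1,
  .kill1 [] 113 1,
  .least 7,
  .least 2,
  .two 31 1 73 1,
  .two 2 3 283 1,
  .least 3,
  .least 2,
  .prime,
  .given,
  .prime,
  .least 2,
  .two 3 1 757 1,
  .two 2 5 71 1,
  .prime,
  .least 2,
  .kill1 [] 13 1,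
  .two 2 2 569 1,
  .kill1 [] 23 1,
  .least 2,
  .two 43 1 53 1,
  .kill1 [3, 5, 19] 19 1]

theorem certsLow2173_length : certsLow2173.length = 108 := rfl

theorem certsLow2173_check : checkLowFrom 2173 certsLow2173 = true := by
  decide +kernel

/-- Certificates from 2281. -/
def certsLow2281 : List Cert := [
  .prime,
  .least 2,
  .two 3 1 761 1,
  .two 2 2 571 1,
  .two 5 1 457 1,
  .least 2,
  .prime,
  .kill1 [] 13 1,
  .least 3,
  .least 2,
  .two 29 1 79 1,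
  .kill1 [] 191 1,
  .prime,
  .least 2,
  .kill1 [] 17 1,
  .kill1 [] 41 1,
  .prime,
  .least 2,
  .two 11 2 19 1,
  .kill1 [] 23 1,
  .least 3,
  .two 2 1 1151 1,
  .two 7 2 47 1,
  .two 2 8 3 2,
  .two 5 1 461 1,
  .two 2 1 1153 1,
  .two 3 1 769 1,
  .two 2 2 577 1,
  .prime,
  .least 2,
  .prime,
  .two 2 3 17 2,
  .two 3 2 257 1,
  .least 2,
  .two 5 1 463 1,
  .kill1 [] 193 1,
  .two 7 1 331 1,
  .least 2,
  .two 3 1 773 1,
  .kill1 [] 29 1,
  .two 11 1 211 1,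
  .least 2,
  .two 23 1 101 1,
  .kill1 [] 83 1,
  .least 3,
  .two 2 1 1163 1,
  .two 13 1 179 1,
  .kill1 [] 97 1,
  .two 17 1 137 1,
  .least 2,
  .kill1 [] 37 1,
  .kill1 [] 53 1,
  .prime,
  .least 2,
  .two 5 1 467 1,
  .two 2 5 73 1,
  .least 3,
  .least 2,
  .prime,
  .kill1 [] 13 1,
  .prime,
  .two 2 1 1171 1,
  .least 3,
  .two 2 3 293 1,
  .least 5,
  .least 2,
  .prime,
  .two 2 2 587 1,
  .two 3 4 29 1,
  .least 2,
  .prime,
  .kill1 [] 7 2,
  .two 13 1 181 1,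
  .least 2,
  .least 3,
  .kill1 [] 31 1,
  .prime,
  .least 2,
  .two 7 1 337 1,
  .kill1 [] 59 1,
  .two 3 1 787 1,
  .two 2 1 1181 1,
  .two 17 1 139 1,
  .kill1 [] 197 1,
  .least 5,
  .least 2,
  .two 3 2 263 1,
  .two 2 6 37 1,
  .two 23 1 103 1,
  .least 2,
  .prime,
  .two 2 2 593 1,
  .least 3,
  .two 2 1 1187 1,
  .two 5 3 19 1,
  .kill1 [11] 11 1,
  .prime,
  .least 2,
  .least 3,
  .kill1 [] 5 1,
  .prime,
  .least 2,
  .prime,
  .two 2 4 149 1,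
  .kill1 [] 53 1,
  .two 2 1 1193 1,
  .least 7,
  .kill1 [] 199 1]

theorem certsLow2281_length : certsLow2281.length = 108 := rfl

theorem certsLow2281_check : checkLowFrom 2281 certsLow2281 = true := by
  decide +kernel

/-- Certificates from 2389. -/
def certsLow2389 : List Cert := [
  .prime,
  .least 2,
  .two 3 1 797 1,
  .kill1 [] 23 1,
  .prime,
  .least 2,
  .two 5 1 479 1,
  .two 2 2 599 1,
  .least 3,
  .least 2,
  .prime,
  .given,
  .kill1 [] 7 4,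
  .two 2 1 1201 1,
  .two 3 3 89 1,
  .two 2 2 601 1,
  .least 5,
  .least 2,
  .two 29 1 83 1,
  .kill1 [] 43 1,
  .least 3,
  .least 2,
  .prime,
  .kill1 [] 67 1,
  .two 19 1 127 1,
  .least 2,
  .least 3,
  .two 2 4 151 1,
  .prime,
  .least 2,
  .two 41 1 59 1,
  .kill1 [] 11 2,
  .two 3 2 269 1,
  .least 2,
  .prime,
  .kill1 [] 101 1,
  .two 5 2 97 1,
  .two 2 1 1213 1,
  .two 3 1 809 1,
  .two 2 2 607 1,
  .two 7 1 347 1,
  .least 2,
  .least 11,
  .two 2 7 19 1,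
  .two 3 1 811 1,
  .two 2 1 1217 1,
  .two 5 1 487 1,
  .kill1 [] 29 1,
  .prime,
  .least 2,
  .two 3 2 271 1,
  .kill1 [] 61 1,
  .prime,
  .least 2,
  .two 7 1 349 1,
  .kill1 [] 47 1,
  .least 3,
  .two 2 1 1223 1,
  .prime,
  .given,
  .two 31 1 79 1,
  .least 2,
  .least 3,
  .two 2 2 613 1,
  .two 11 1 223 1,
  .least 2,
  .two 5 1 491 1,
  .two 2 3 307 1,
  .kill1 [] 13 1,
  .two 2 1 1229 1,
  .prime,
  .kill1 [] 41 1,
  .two 23 1 107 1,
  .two 2 1 1231 1,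
  .two 3 1 821 1,
  .small [7, 11] 11,
  .least 5,
  .least 2,
  .prime,
  .two 2 2 617 1,
  .two 3 1 823 1,
  .least 2,
  .two 7 1 353 1,
  .kill1 [] 103 1,
  .prime,
  .two 2 1 1237 1,
  .kill1 [] 5 2,
  .two 2 2 619 1,
  .prime,
  .least 2,
  .two 37 1 67 1,
  .kill1 [] 31 1,
  .two 3 1 827 1,
  .least 2,
  .two 13 1 191 1,
  .kill1 [] 23 1,
  .least 5,
  .least 2,
  .two 3 1 829 1,
  .two 2 3 311 1,
  .two 19 1 131 1,
  .least 2,
  .two 47 1 53 1,
  .kill1 [] 89 1,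
  .two 3 2 277 1,
  .least 2,
  .two 5 1 499 1,
  .kill1 [] 13 1]

theorem certsLow2389_length : certsLow2389.length = 108 := rfl

theorem certsLow2389_check : checkLowFrom 2389 certsLow2389 = true := by
  decide +kernel

/-- Certificates from 2497. -/
def certsLow2497 : List Cert := [
  .two 11 1 227 1,
  .two 2 1 1249 1,
  .least 3,
  .two 2 2 5 4,
  .two 41 1 61 1,
  .least 2,
  .prime,
  .two 2 3 313 1,
  .least 3,
  .least 2,
  .two 23 1 109 1,
  .kill1 [] 19 1,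
  .two 13 1 193 1,
  .least 2,
  .two 3 4 31 1,
  .two 2 4 157 1,
  .two 7 1 359 1,
  .least 2,
  .two 5 1 503 1,
  .kill1 [] 37 1,
  .two 3 1 839 1,
  .two 2 1 1259 1,
  .two 11 1 229 1,
  .given,
  .prime,
  .least 2,
  .two 3 1 29 2,
  .two 2 2 631 1,
  .two 5 2 101 1,
  .least 2,
  .two 7 1 19 2,
  .two 2 5 79 1,
  .two 3 2 281 1,
  .least 2,
  .prime,
  .kill1 [] 211 1,
  .two 17 1 149 1,
  .least 2,
  .least 3,
  .two 2 3 317 1,
  .two 43 1 59 1,
  .least 2,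
  .prime,
  .kill1 [] 127 1,
  .least 3,
  .least 2,
  .prime,
  .kill1 [] 53 1,
  .two 5 1 509 1,
  .least 2,
  .two 3 2 283 1,
  .kill1 [] 7 2,
  .prime,
  .least 2,
  .prime,
  .kill1 [] 29 1,
  .least 3,
  .two 2 1 1277 1,
  .least 5,
  .kill1 [] 71 1,
  .prime,
  .two 2 1 1279 1,
  .two 3 1 853 1,
  .two 2 9 5 1,
  .two 13 1 197 1,
  .least 2,
  .two 11 1 233 1,
  .two 2 2 641 1,
  .kill1 [] 19 1,
  .two 2 1 1283 1,
  .two 17 1 151 1,
  .kill1 [] 107 1,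
  .two 7 1 367 1,
  .least 2,
  .two 3 1 857 1,
  .two 2 2 643 1,
  .two 31 1 83 1,
  .least 2,
  .two 5 2 103 1,
  .kill1 [] 23 1,
  .two 3 1 859 1,
  .two 2 1 1289 1,
  .prime,
  .kill1 [] 43 1,
  .two 29 1 89 1,
  .two 2 1 1291 1,
  .kill1 [] 41 1,
  .kill1 [] 19 1,
  .least 5,
  .least 2,
  .two 13 1 199 1,
  .two 2 2 647 1,
  .two 3 1 863 1,
  .least 2,
  .prime,
  .two 2 5 3 4,
  .prime,
  .two 2 1 1297 1,
  .least 3,
  .kill1 [] 59 1,
  .two 7 2 53 1,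
  .least 2,
  .two 23 1 113 1,
  .kill1 [] 13 1,
  .two 3 2 17 2,
  .two 2 1 1301 1,
  .two 19 1 137 1,
  .kill1 [] 31 1]

theorem certsLow2497_length : certsLow2497.length = 108 := rfl

theorem certsLow2497_check : checkLowFrom 2497 certsLow2497 = true := by
  decide +kernel

/-- Certificates from 2605. -/
def certsLow2605 : List Cert := [
  .two 5 1 521 1,
  .two 2 1 1303 1,
  .least 3,
  .two 2 4 163 1,
  .prime,
  .least 2,
  .two 7 1 373 1,
  .two 2 2 653 1,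
  .least 3,
  .two 2 1 1307 1,
  .two 5 1 523 1,
  .kill1 [] 109 1,
  .prime,
  .least 2,
  .two 3 3 97 1,
  .kill1 [] 131 1,
  .prime,
  .least 2,
  .two 43 1 61 1,
  .two 2 6 41 1,
  .least 3,
  .least 2,
  .two 37 1 71 1,
  .kill1 [] 73 1,
  .two 11 1 239 1,
  .least 2,
  .two 3 1 877 1,
  .kill1 [] 47 1,
  .prime,
  .least 2,
  .least 5,
  .two 2 2 659 1,
  .two 3 2 293 1,
  .two 2 1 1319 1,
  .least 7,
  .kill1 [3, 5, 11] 11 1,
  .two 19 1 139 1,
  .two 2 1 1321 1,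
  .two 3 1 881 1,
  .two 2 2 661 1,
  .two 5 1 23 2,
  .least 2,
  .prime,
  .two 2 3 331 1,
  .two 3 1 883 1,
  .least 2,
  .two 11 1 241 1,
  .kill1 [] 17 1,
  .two 7 1 379 1,
  .two 2 1 1327 1,
  .kill1 [] 59 1,
  .two 2 5 83 1,
  .prime,
  .least 2,
  .prime,
  .kill1 [] 19 1,
  .two 3 1 887 1,
  .two 2 1 11 3,
  .prime,
  .kill1 [] 37 1,
  .least 5,
  .least 2,
  .least 3,
  .kill1 [] 29 1,
  .two 17 1 157 1,
  .least 2,
  .prime,
  .two 2 4 167 1,
  .two 3 5 11 1,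
  .least 2,
  .two 5 2 107 1,
  .kill1 [] 223 1,
  .prime,
  .least 2,
  .least 3,
  .kill1 [] 67 1,
  .two 7 1 383 1,
  .least 2,
  .prime,
  .kill1 [] 61 1,
  .least 3,
  .least 2,
  .prime,
  .given,
  .prime,
  .least 2,
  .kill1 [] 23 1,
  .two 2 2 673 1,
  .prime,
  .least 2,
  .least 5,
  .two 2 3 337 1,
  .least 3,
  .least 2,
  .prime,
  .given,
  .two 37 1 73 1,
  .least 2,
  .least 3,
  .two 2 4 13 2,
  .two 5 1 541 1,
  .least 2,
  .prime,
  .two 2 2 677 1,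
  .kill1 [] 43 1,
  .least 2,
  .prime,
  .kill1 [] 113 1]

theorem certsLow2605_length : certsLow2605.length = 108 := rfl

theorem certsLow2605_check : checkLowFrom 2605 certsLow2605 = true := by
  decide +kernel

/-- Certificates from 2713. -/
def certsLow2713 : List Cert := [
  .prime,
  .least 2,
  .least 3,
  .kill1 [] 97 1,
  .least 11,
  .least 2,
  .prime,
  .kill1 [] 17 1,
  .two 3 1 907 1,
  .two 2 1 1361 1,
  .two 7 1 389 1,
  .kill1 [] 227 1,
  .two 5 2 109 1,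
  .least 2,
  .two 3 3 101 1,
  .kill1 [] 31 1,
  .prime,
  .least 2,
  .prime,
  .two 2 2 683 1,
  .two 3 1 911 1,
  .two 2 1 1367 1,
  .two 5 1 547 1,
  .kill1 [] 19 1,
  .least 7,
  .two 2 1 37 2,
  .least 3,
  .kill1 [] 137 1,
  .prime,
  .least 2,
  .two 13 1 211 1,
  .two 2 3 7 3,
  .kill1 [] 61 1,
  .two 2 1 1373 1,
  .two 41 1 67 1,
  .kill1 [] 229 1,
  .prime,
  .least 2,
  .least 3,
  .two 2 6 43 1,
  .prime,
  .least 2,
  .least 5,
  .kill1 [] 53 1,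
  .two 3 1 919 1,
  .least 2,
  .two 31 1 89 1,
  .kill1 [] 23 1,
  .two 11 1 251 1,
  .two 2 1 1381 1,
  .two 3 2 307 1,
  .two 2 2 691 1,
  .least 5,
  .least 2,
  .prime,
  .two 2 4 173 1,
  .least 3,
  .least 2,
  .two 17 1 163 1,
  .kill1 [] 11 1,
  .two 47 1 59 1,
  .least 2,
  .least 3,
  .two 2 3 347 1,
  .prime,
  .least 2,
  .two 7 1 397 1,
  .kill1 [] 139 1,
  .two 3 3 103 1,
  .least 2,
  .two 11 2 23 1,
  .kill1 [] 29 1,
  .two 5 1 557 1,
  .least 2,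
  .two 3 1 929 1,
  .kill1 [] 41 1,
  .prime,
  .least 2,
  .prime,
  .two 2 3 349 1,
  .least 3,
  .least 2,
  .least 5,
  .kill1 [] 233 1,
  .prime,
  .two 2 1 1399 1,
  .two 3 2 311 1,
  .kill1 [] 5 2,
  .prime,
  .least 2,
  .prime,
  .two 2 2 701 1,
  .least 3,
  .least 2,
  .two 7 1 401 1,
  .small [13] 13,
  .kill1 [] 53 2,
  .least 2,
  .two 3 1 937 1,
  .kill1 [] 19 1,
  .two 29 1 97 1,
  .least 2,
  .two 5 1 563 1,
  .two 2 8 11 1,
  .two 3 2 313 1,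
  .two 2 1 1409 1,
  .prime,
  .kill1 [] 47 1]

theorem certsLow2713_length : certsLow2713.length = 108 := rfl

theorem certsLow2713_check : checkLowFrom 2713 certsLow2713 = true := by
  decide +kernel

theorem mem_low1 {G : Type*} [Group G] [Finite G] [IsSimpleGroup G] (hG : ¬ IsMulCommutative G) (h1 : 1957 ≤ Nat.card G) (h2 : Nat.card G < 2821) : Nat.card G ∈ lowExceptions := by
  rcases lt_or_ge (Nat.card G) 2065 with h | h
  · exact mem_lowExceptions hG _ 1957 certsLow1957_check (by rw [certsLow1957_length] <;> omega) (by omega) (by rw [certsLow1957_length]; omega)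
  rcases lt_or_ge (Nat.card G) 2173 with h | h
  · exact mem_lowExceptions hG _ 2065 certsLow2065_check (by rw [certsLow2065_length] <;> omega) (by omega) (by rw [certsLow2065_length]; omega)
  rcases lt_or_ge (Nat.card G) 2281 with h | h
  · exact mem_lowExceptions hG _ 2173 certsLow2173_check (by rw [certsLow2173_length] <;> omega) (by omega) (by rw [certsLow2173_length]; omega)
  rcases lt_or_ge (Nat.card G) 2389 with h | h
  · exact mem_lowExceptions hG _ 2281 certsLow2281_check (by rw [certsLow2281_length] <;> omega) (by omega) (by rw [certsLow2281_length]; omega)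
  rcases lt_or_ge (Nat.card G) 2497 with h | h
  · exact mem_lowExceptions hG _ 2389 certsLow2389_check (by rw [certsLow2389_length] <;> omega) (by omega) (by rw [certsLow2389_length]; omega)
  rcases lt_or_ge (Nat.card G) 2605 with h | h
  · exact mem_lowExceptions hG _ 2497 certsLow2497_check (by rw [certsLow2497_length] <;> omega) (by omega) (by rw [certsLow2497_length]; omega)
  rcases lt_or_ge (Nat.card G) 2713 with h | h
  · exact mem_lowExceptions hG _ 2605 certsLow2605_check (by rw [certsLow2605_length] <;> omega) (by omega) (by rw [certsLow2605_length]; omega)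
  exact mem_lowExceptions hG _ 2713 certsLow2713_check (by rw [certsLow2713_length] <;> omega) (by omega) (by rw [certsLow2713_length]; omega)

end Cfsg.Agent.SimpleRangeLow81
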