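import Cfsg.Agent.Lib.SimpleRangeLow81

/-!
Certificates for the orders 2821..3640.
-/

set_option autoImplicit false

namespace Cfsg.Agent.SimpleRangeLow81

open Cfsg Cfsg.Agent.SimpleRange30

/-- Certificates from 2821. -/
def certsLow2821 : List Cert := [
  .least 7,
  .least 2,
  .two 3 1 941 1,
  .two 2 3 353 1,
  .two 5 2 113 1,
  .least 2,
  .two 11 1 257 1,
  .kill1 [] 101 1,
  .least 3,
  .least 2,
  .two 19 1 149 1,
  .kill1 [] 59 1,
  .prime,
  .least 2,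
  .kill1 [] 5 1,
  .two 2 2 709 1,
  .prime,
  .least 2,
  .two 17 1 167 1,
  .kill1 [] 71 1,
  .two 3 1 947 1,
  .least 2,
  .prime,
  .kill1 [] 79 1,
  .two 5 1 569 1,
  .two 2 1 1423 1,
  .least 3,
  .two 2 5 89 1,
  .least 7,
  .least 2,
  .prime,
  .kill1 [] 31 1,
  .two 3 2 317 1,
  .two 2 1 1427 1,
  .two 5 1 571 1,
  .kill1 [] 17 1,
  .prime,
  .two 2 1 1429 1,
  .two 3 1 953 1,
  .kill1 [] 13 1,
  .prime,
  .least 2,
  .two 7 1 409 1,
  .two 2 4 179 1,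
  .least 3,
  .two 2 1 1433 1,
  .two 47 1 61 1,
  .kill1 [] 239 1,
  .two 19 1 151 1,
  .least 2,
  .kill1 [] 29 1,
  .two 2 3 359 1,
  .two 13 2 17 1,
  .least 2,
  .two 5 3 23 1,
  .two 2 2 719 1,
  .least 3,
  .two 2 1 1439 1,
  .prime,
  .small [5] 5,
  .two 43 1 67 1,
  .least 2,
  .two 3 1 31 2,
  .kill1 [] 103 1,
  .two 5 1 577 1,
  .least 2,
  .prime,
  .two 2 3 19 2,
  .two 3 3 107 1,
  .least 2,
  .two 7 2 59 1,
  .kill1 [] 241 1,
  .two 11 1 263 1,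
  .two 2 1 1447 1,
  .least 3,
  .two 2 4 181 1,
  .prime,
  .least 2,
  .two 13 1 223 1,
  .kill1 [] 29 1,
  .two 3 1 967 1,
  .two 2 1 1451 1,
  .prime,
  .kill1 [] 11 2,
  .least 5,
  .two 2 1 1453 1,
  .kill1 [] 19 1,
  .two 2 2 727 1,
  .prime,
  .least 2,
  .two 41 1 71 1,
  .kill1 [] 7 1,
  .two 3 1 971 1,
  .least 2,
  .least 5,
  .two 2 2 3 6,
  .prime,
  .two 2 1 1459 1,
  .least 3,
  .kill1 [] 73 1,
  .two 23 1 127 1,
  .least 2,
  .two 37 1 79 1,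
  .kill1 [] 43 1,
  .kill1 [] 13 1,
  .least 2,
  .prime,
  .kill1 [] 61 1]

theorem certsLow2821_length : certsLow2821.length = 108 := rfl

theorem certsLow2821_check : checkLowFrom 2821 certsLow2821 = true := by
  decide +kernel

/-- Certificates from 2929. -/
def certsLow2929 : List Cert := [
  .two 29 1 101 1,
  .least 2,
  .two 3 1 977 1,
  .two 2 2 733 1,
  .two 7 1 419 1,
  .least 2,
  .two 5 1 587 1,
  .two 2 3 367 1,
  .least 3,
  .least 2,
  .prime,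
  .kill1 [] 7 2,
  .two 17 1 173 1,
  .two 2 1 1471 1,
  .two 3 3 109 1,
  .two 2 7 23 1,
  .least 5,
  .least 2,
  .two 7 1 421 1,
  .kill1 [] 67 1,
  .two 3 1 983 1,
  .least 2,
  .two 13 1 227 1,
  .kill1 [] 41 1,
  .prime,
  .least 2,
  .least 3,
  .two 2 2 739 1,
  .prime,
  .least 2,
  .two 11 1 269 1,
  .kill1 [] 37 1,
  .kill1 [] 47 1,
  .two 2 1 1481 1,
  .prime,
  .kill1 [] 13 1,
  .two 5 1 593 1,
  .two 2 1 1483 1,
  .least 3,
  .kill1 [] 53 1,
  .prime,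
  .least 2,
  .prime,
  .two 2 2 743 1,
  .two 3 1 991 1,
  .two 2 1 1487 1,
  .kill1 [] 17 1,
  .given,
  .two 13 1 229 1,
  .two 2 1 1489 1,
  .two 3 2 331 1,
  .kill1 [] 149 1,
  .two 11 1 271 1,
  .least 2,
  .two 19 1 157 1,
  .two 2 3 373 1,
  .least 3,
  .two 2 1 1493 1,
  .two 29 1 103 1,
  .kill1 [] 83 1,
  .two 7 2 61 1,
  .least 2,
  .two 3 1 997 1,
  .kill1 [] 17 1,
  .two 41 1 73 1,
  .least 2,
  .two 5 1 599 1,
  .kill1 [] 107 1,
  .two 3 4 37 1,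
  .two 2 1 1499 1,
  .prime,
  .kill1 [] 5 3,
  .prime,
  .least 2,
  .least 3,
  .two 2 2 751 1,
  .two 5 1 601 1,
  .least 2,
  .two 31 1 97 1,
  .two 2 6 47 1,
  .least 3,
  .least 2,
  .prime,
  .kill1 [] 251 1,
  .two 23 1 131 1,
  .least 2,
  .kill1 [] 67 1,
  .kill1 [] 29 1,
  .two 7 1 431 1,
  .least 2,
  .prime,
  .kill1 [] 151 1,
  .least 3,
  .two 2 1 1511 1,
  .prime,
  .small [7] 7,
  .two 5 2 11 2,
  .least 2,
  .two 3 1 1009 1,
  .two 2 2 757 1,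
  .two 13 1 233 1,
  .least 2,
  .two 7 1 433 1,
  .two 2 3 379 1,
  .two 3 2 337 1,
  .least 2,
  .two 5 1 607 1,
  .kill1 [] 23 1]

theorem certsLow2929_length : certsLow2929.length = 108 := rfl

theorem certsLow2929_check : checkLowFrom 2929 certsLow2929 = true := by
  decide +kernel

/-- Certificates from 3037. -/
def certsLow3037 : List Cert := [
  .prime,
  .least 2,
  .two 3 1 1013 1,
  .kill1 [5, 19] 19 1,
  .prime,
  .least 2,
  .two 17 1 179 1,
  .two 2 2 761 1,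
  .least 3,
  .two 2 1 1523 1,
  .two 11 1 277 1,
  .kill1 [] 127 1,
  .prime,
  .least 2,
  .two 3 3 113 1,
  .kill1 [] 109 1,
  .two 43 1 71 1,
  .least 2,
  .least 5,
  .two 2 4 191 1,
  .two 3 1 1019 1,
  .least 2,
  .least 7,
  .kill1 [5, 17] 17 1,
  .prime,
  .two 2 1 1531 1,
  .two 3 1 1021 1,
  .two 2 3 383 1,
  .two 5 1 613 1,
  .least 2,
  .prime,
  .kill1 [] 59 1,
  .kill1 [] 31 1,
  .least 2,
  .two 37 1 83 1,
  .two 2 10 3 1,
  .two 7 1 439 1,
  .least 2,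
  .least 3,
  .two 2 2 769 1,
  .two 17 1 181 1,
  .least 2,
  .prime,
  .kill1 [5, 7, 11] 5 1,
  .least 3,
  .least 2,
  .prime,
  .kill1 [] 257 1,
  .two 5 1 617 1,
  .two 2 1 1543 1,
  .two 3 2 7 3,
  .two 2 4 193 1,
  .prime,
  .least 2,
  .two 11 1 281 1,
  .two 2 2 773 1,
  .two 3 1 1031 1,
  .least 2,
  .two 5 1 619 1,
  .kill1 [] 43 1,
  .two 19 1 163 1,
  .two 2 1 1549 1,
  .two 3 1 1033 1,
  .kill1 [] 31 1,
  .two 7 1 443 1,
  .least 2,
  .two 29 1 107 1,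
  .two 2 5 97 1,
  .kill1 [] 23 1,
  .two 2 1 1553 1,
  .two 13 1 239 1,
  .kill1 [] 37 1,
  .prime,
  .least 2,
  .least 3,
  .two 2 3 389 1,
  .two 11 1 283 1,
  .least 2,
  .least 5,
  .kill1 [] 41 1,
  .two 3 1 1039 1,
  .two 2 1 1559 1,
  .prime,
  .given,
  .prime,
  .least 2,
  .two 3 2 347 1,
  .kill1 [] 71 1,
  .kill1 [] 5 5,
  .least 2,
  .two 53 1 59 1,
  .kill1 [] 23 1,
  .least 3,
  .least 2,
  .two 31 1 101 1,
  .kill1 [] 29 1,
  .two 13 1 241 1,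
  .two 2 1 1567 1,
  .least 3,
  .two 2 6 7 2,
  .prime,
  .least 2,
  .two 43 1 73 1,
  .kill1 [] 157 1,
  .two 3 2 349 1,
  .two 2 1 1571 1,
  .two 7 1 449 1,
  .kill1 [] 131 1]

theorem certsLow3037_length : certsLow3037.length = 108 := rfl

theorem certsLow3037_check : checkLowFrom 3037 certsLow3037 = true := by
  decide +kernel

/-- Certificates from 3145. -/
def certsLow3145 : List Cert := [
  .least 5,
  .least 2,
  .two 3 1 1049 1,
  .two 2 2 787 1,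
  .two 47 1 67 1,
  .least 2,
  .two 23 1 137 1,
  .two 2 4 197 1,
  .two 3 1 1051 1,
  .least 2,
  .two 5 1 631 1,
  .kill1 [] 263 1,
  .least 7,
  .two 2 1 1579 1,
  .two 3 5 13 1,
  .kill1 [] 79 1,
  .two 29 1 109 1,
  .least 2,
  .prime,
  .kill1 [] 113 1,
  .least 3,
  .two 2 1 1583 1,
  .prime,
  .given,
  .prime,
  .least 2,
  .least 3,
  .kill1 [] 61 1,
  .two 19 1 167 1,
  .least 2,
  .two 5 2 127 1,
  .two 2 3 397 1,
  .two 3 2 353 1,
  .least 2,
  .two 11 1 17 2,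
  .kill1 [] 53 1,
  .prime,
  .least 2,
  .two 3 1 1061 1,
  .two 2 4 199 1,
  .least 5,
  .least 2,
  .prime,
  .two 2 2 797 1,
  .two 3 1 1063 1,
  .least 2,
  .prime,
  .kill1 [] 19 1,
  .two 31 1 103 1,
  .two 2 1 1597 1,
  .kill1 [] 71 1,
  .kill1 [] 47 1,
  .two 23 1 139 1,
  .least 2,
  .two 7 1 457 1,
  .two 2 7 5 2,
  .least 3,
  .two 2 1 1601 1,
  .prime,
  .kill1 [] 89 1,
  .two 5 1 641 1,
  .least 2,
  .two 3 1 1069 1,
  .two 2 3 401 1,
  .prime,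
  .least 2,
  .two 13 2 19 1,
  .kill1 [] 73 1,
  .kill1 [] 17 1,
  .two 2 1 1607 1,
  .two 5 1 643 1,
  .kill1 [] 67 1,
  .prime,
  .two 2 1 1609 1,
  .least 3,
  .kill1 [] 7 1,
  .prime,
  .least 2,
  .two 11 1 293 1,
  .kill1 [] 31 1,
  .least 3,
  .two 2 1 1613 1,
  .two 7 1 461 1,
  .kill1 [] 269 1,
  .prime,
  .least 2,
  .two 3 2 359 1,
  .two 2 5 101 1,
  .two 53 1 61 1,
  .least 2,
  .two 5 1 647 1,
  .two 2 2 809 1,
  .least 3,
  .two 2 1 1619 1,
  .two 41 1 79 1,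
  .small [5] 5,
  .two 7 1 463 1,
  .two 2 1 1621 1,
  .least 3,
  .two 2 2 811 1,
  .least 5,
  .least 2,
  .two 17 1 191 1,
  .kill1 [] 29 1,
  .two 3 2 19 2,
  .least 2,
  .prime,
  .kill1 [] 271 1]

theorem certsLow3145_length : certsLow3145.length = 108 := rfl

theorem certsLow3145_check : checkLowFrom 3145 certsLow3145 = true := by
  decide +kernel

/-- Certificates from 3253. -/
def certsLow3253 : List Cert := [
  .prime,
  .two 2 1 1627 1,
  .least 3,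
  .kill1 [] 37 1,
  .prime,
  .least 2,
  .prime,
  .kill1 [] 163 1,
  .two 3 1 1087 1,
  .least 2,
  .two 13 1 251 1,
  .kill1 [] 17 1,
  .two 5 1 653 1,
  .least 2,
  .two 3 3 11 2,
  .kill1 [] 43 1,
  .two 7 1 467 1,
  .least 2,
  .prime,
  .two 2 3 409 1,
  .two 3 1 1091 1,
  .two 2 1 1637 1,
  .two 5 2 131 1,
  .kill1 [7, 13] 13 1,
  .two 29 1 113 1,
  .least 2,
  .two 3 1 1093 1,
  .kill1 [] 41 1,
  .two 17 1 193 1,
  .least 2,
  .two 7 2 67 1,
  .two 2 2 821 1,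
  .kill1 [] 73 1,
  .least 2,
  .two 19 1 173 1,
  .kill1 [] 137 1,
  .least 11,
  .least 2,
  .two 3 1 1097 1,
  .two 2 2 823 1,
  .two 37 1 89 1,
  .least 2,
  .two 5 1 659 1,
  .two 2 5 103 1,
  .least 3,
  .least 2,
  .prime,
  .kill1 [3, 11] 11 1,
  .prime,
  .least 2,
  .two 3 2 367 1,
  .kill1 [] 59 1,
  .two 5 1 661 1,
  .least 2,
  .prime,
  .two 2 2 827 1,
  .two 3 1 1103 1,
  .least 2,
  .least 7,
  .kill1 [23] 23 1,
  .prime,
  .two 2 1 1657 1,
  .least 3,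
  .two 2 2 829 1,
  .two 31 1 107 1,
  .least 2,
  .prime,
  .kill1 [] 83 1,
  .two 3 4 41 1,
  .least 2,
  .prime,
  .kill1 [] 277 1,
  .kill1 [] 19 1,
  .two 2 1 1663 1,
  .two 3 1 1109 1,
  .two 2 8 13 1,
  .prime,
  .least 2,
  .prime,
  .kill1 [] 17 1,
  .least 3,
  .two 2 1 1667 1,
  .least 5,
  .kill1 [] 139 1,
  .two 47 1 71 1,
  .two 2 1 1669 1,
  .kill1 [] 53 1,
  .kill1 [] 167 1,
  .two 13 1 257 1,
  .least 2,
  .prime,
  .kill1 [] 19 1,
  .least 3,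
  .least 2,
  .prime,
  .kill1 [] 31 1,
  .two 17 1 197 1,
  .least 2,
  .two 3 1 1117 1,
  .two 2 3 419 1,
  .two 7 1 479 1,
  .least 2,
  .least 5,
  .two 2 2 839 1,
  .two 3 2 373 1,
  .least 2,
  .prime,
  .killTwo [7, 5, 3]]

theorem certsLow3253_length : certsLow3253.length = 108 := rfl

theorem certsLow3253_check : checkLowFrom 3253 certsLow3253 = true := by
  decide +kernel

/-- Certificates from 3361. -/
def certsLow3361 : List Cert := [
  .prime,
  .two 2 1 41 2,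
  .least 3,
  .two 2 2 29 2,
  .two 5 1 673 1,
  .least 2,
  .least 7,
  .two 2 3 421 1,
  .two 3 1 1123 1,
  .least 2,
  .prime,
  .kill1 [] 281 1,
  .prime,
  .least 2,
  .two 3 3 5 3,
  .two 2 4 211 1,
  .two 11 1 307 1,
  .least 2,
  .two 31 1 109 1,
  .kill1 [] 13 2,
  .least 3,
  .least 2,
  .two 17 1 199 1,
  .kill1 [] 47 1,
  .two 5 1 677 1,
  .two 2 1 1693 1,
  .two 3 1 1129 1,
  .kill1 [] 11 2,
  .prime,
  .least 2,
  .prime,
  .two 2 6 53 1,
  .kill1 [] 29 1,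
  .two 2 1 1697 1,
  .least 5,
  .kill1 [] 283 1,
  .two 43 1 79 1,
  .two 2 1 1699 1,
  .least 3,
  .kill1 [] 17 1,
  .two 19 1 179 1,
  .least 2,
  .two 41 1 83 1,
  .kill1 [] 37 1,
  .least 3,
  .least 2,
  .prime,
  .kill1 [] 71 1,
  .two 7 1 487 1,
  .least 2,
  .two 3 2 379 1,
  .two 2 2 853 1,
  .prime,
  .least 2,
  .two 5 1 683 1,
  .kill1 [] 61 1,
  .least 3,
  .two 2 1 1709 1,
  .two 13 1 263 1,
  .given,
  .two 11 1 311 1,
  .least 2,
  .least 3,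
  .two 2 5 107 1,
  .two 5 2 137 1,
  .least 2,
  .two 23 1 149 1,
  .two 2 2 857 1,
  .two 3 3 127 1,
  .least 2,
  .two 47 1 73 1,
  .killTwo [13, 11, 3],
  .prime,
  .least 2,
  .least 3,
  .two 2 2 859 1,
  .two 7 1 491 1,
  .least 2,
  .two 19 1 181 1,
  .kill1 [] 43 1,
  .least 3,
  .two 2 1 1721 1,
  .two 11 1 313 1,
  .killTwo [41, 7, 3],
  .least 5,
  .two 2 1 1723 1,
  .two 3 2 383 1,
  .two 2 3 431 1,
  .prime,
  .least 2,
  .least 7,
  .two 2 2 863 1,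
  .two 3 1 1151 1,
  .least 2,
  .two 5 1 691 1,
  .two 2 7 3 3,
  .prime,
  .least 2,
  .two 3 1 1153 1,
  .kill1 [] 173 1,
  .prime,
  .least 2,
  .prime,
  .two 2 3 433 1,
  .kill1 [] 11 1,
  .two 2 1 1733 1,
  .prime,
  .kill1 [] 17 2]

theorem certsLow3361_length : certsLow3361.length = 108 := rfl

theorem certsLow3361_check : checkLowFrom 3361 certsLow3361 = true := by
  decide +kernel

/-- Certificates from 3469. -/
def certsLow3469 : List Cert := [
  .prime,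
  .least 2,
  .least 3,
  .kill1 [] 31 1,
  .two 23 1 151 1,
  .least 2,
  .two 5 2 139 1,
  .kill1 [] 79 1,
  .least 3,
  .least 2,
  .two 7 2 71 1,
  .kill1 [3, 5, 29] 29 1,
  .kill1 [] 59 2,
  .two 2 1 1741 1,
  .two 3 4 43 1,
  .kill1 [] 67 1,
  .least 5,
  .least 2,
  .two 11 1 317 1,
  .two 2 5 109 1,
  .two 3 1 1163 1,
  .least 2,
  .prime,
  .kill1 [] 97 1,
  .two 7 1 499 1,
  .two 2 1 1747 1,
  .least 3,
  .kill1 [] 23 1,
  .two 13 1 269 1,
  .least 2,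
  .prime,
  .kill1 [] 5 3,
  .two 3 2 389 1,
  .least 2,
  .two 31 1 113 1,
  .kill1 [] 73 1,
  .two 5 1 701 1,
  .two 2 1 1753 1,
  .least 3,
  .two 2 2 877 1,
  .two 11 2 29 1,
  .least 2,
  .prime,
  .two 2 3 439 1,
  .two 3 1 1171 1,
  .least 2,
  .least 5,
  .kill1 [] 293 1,
  .prime,
  .two 2 1 1759 1,
  .kill1 [] 23 1,
  .kill1 [] 11 1,
  .two 7 1 503 1,
  .least 2,
  .two 13 1 271 1,
  .two 2 2 881 1,
  .least 3,
  .least 2,
  .prime,
  .kill1 [] 7 2,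
  .prime,
  .least 2,
  .least 3,
  .two 2 2 883 1,
  .prime,
  .least 2,
  .least 5,
  .kill1 [] 13 1,
  .two 3 3 131 1,
  .least 2,
  .prime,
  .kill1 [] 59 1,
  .prime,
  .least 2,
  .two 3 1 1181 1,
  .two 2 3 443 1,
  .two 5 1 709 1,
  .least 2,
  .prime,
  .two 2 2 887 1,
  .least 3,
  .least 2,
  .two 53 1 67 1,
  .kill1 [] 37 1,
  .least 11,
  .two 2 1 1777 1,
  .kill1 [] 79 1,
  .kill1 [] 127 1,
  .prime,
  .least 2,
  .prime,
  .kill1 [] 89 1,
  .two 3 1 1187 1,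
  .least 2,
  .two 7 1 509 1,
  .kill1 [] 11 1,
  .least 5,
  .two 2 1 1783 1,
  .least 3,
  .two 2 4 223 1,
  .two 43 1 83 1,
  .least 2,
  .prime,
  .kill1 [] 47 1,
  .two 3 2 397 1,
  .two 2 1 1787 1,
  .kill1 [] 13 1,
  .kill1 [] 149 1]

theorem certsLow3469_length : certsLow3469.length = 108 := rfl

theorem certsLow3469_check : checkLowFrom 3469 certsLow3469 = true := by
  decide +kernel

/-- Certificates from 3577. -/
def certsLow3577 : List Cert := [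
  .two 7 2 73 1,
  .two 2 1 1789 1,
  .two 3 1 1193 1,
  .kill1 [] 179 1,
  .prime,
  .least 2,
  .prime,
  .two 2 9 7 1,
  .least 3,
  .least 2,
  .two 17 1 211 1,
  .kill1 [] 23 1,
  .two 37 1 97 1,
  .least 2,
  .kill1 [] 19 1,
  .two 2 3 449 1,
  .prime,
  .least 2,
  .two 5 1 719 1,
  .kill1 [] 31 1,
  .least 3,
  .least 2,
  .two 59 1 61 1,
  .given,
  .two 13 1 277 1,
  .two 2 1 1801 1,
  .two 3 1 1201 1,
  .kill1 [] 53 1,
  .least 5,
  .least 2,
  .prime,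
  .kill1 [] 41 1,
  .two 3 2 401 1,
  .least 2,
  .two 23 1 157 1,
  .kill1 [] 43 1,
  .prime,
  .least 2,
  .least 3,
  .two 2 5 113 1,
  .prime,
  .least 2,
  .least 7,
  .kill1 [] 181 1,
  .least 3,
  .two 2 1 1811 1,
  .prime,
  .kill1 [] 151 1,
  .two 5 3 29 1,
  .least 2,
  .kill1 [] 31 1,
  .two 2 2 907 1,
  .two 19 1 191 1,
  .least 2,
  .prime,
  .two 2 4 227 1,
  .least 3,
  .least 2,
  .two 5 1 727 1,
  .kill1 [] 101 1,
  .prime,
  .least 2,
  .two 3 1 1213 1,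
  .kill1 [5, 7, 13] 13 1]

theorem certsLow3577_length : certsLow3577.length = 64 := rfl

theorem certsLow3577_check : checkLowFrom 3577 certsLow3577 = true := by
  decide +kernel

theorem mem_low2 {G : Type*} [Group G] [Finite G] [IsSimpleGroup G] (hG : ¬ IsMulCommutative G) (h1 : 2821 ≤ Nat.card G) (h2 : Nat.card G < 3641) : Nat.card G ∈ lowExceptions := by
  rcases lt_or_ge (Nat.card G) 2929 with h | h
  · exact mem_lowExceptions hG _ 2821 certsLow2821_check (by rw [certsLow2821_length] <;> omega) (by omega) (by rw [certsLow2821_length]; omega)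
  rcases lt_or_ge (Nat.card G) 3037 with h | h
  · exact mem_lowExceptions hG _ 2929 certsLow2929_check (by rw [certsLow2929_length] <;> omega) (by omega) (by rw [certsLow2929_length]; omega)
  rcases lt_or_ge (Nat.card G) 3145 with h | h
  · exact mem_lowExceptions hG _ 3037 certsLow3037_check (by rw [certsLow3037_length] <;> omega) (by omega) (by rw [certsLow3037_length]; omega)
  rcases lt_or_ge (Nat.card G) 3253 with h | h
  · exact mem_lowExceptions hG _ 3145 certsLow3145_check (by rw [certsLow3145_length] <;> omega) (by omega) (by rw [certsLow3145_length]; omega)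
  rcases lt_or_ge (Nat.card G) 3361 with h | h
  · exact mem_lowExceptions hG _ 3253 certsLow3253_check (by rw [certsLow3253_length] <;> omega) (by omega) (by rw [certsLow3253_length]; omega)
  rcases lt_or_ge (Nat.card G) 3469 with h | h
  · exact mem_lowExceptions hG _ 3361 certsLow3361_check (by rw [certsLow3361_length] <;> omega) (by omega) (by rw [certsLow3361_length]; omega)
  rcases lt_or_ge (Nat.card G) 3577 with h | h
  · exact mem_lowExceptions hG _ 3469 certsLow3469_check (by rw [certsLow3469_length] <;> omega) (by omega) (by rw [certsLow3469_length]; omega)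
  exact mem_lowExceptions hG _ 3577 certsLow3577_check (by rw [certsLow3577_length] <;> omega) (by omega) (by rw [certsLow3577_length]; omega)

end Cfsg.Agent.SimpleRangeLow81
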