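import Cfsg.Agent.Lib.SimpleRange30

/-!
Certificates for the orders 3641..4288.
-/

set_option autoImplicit false

namespace Cfsg.Agent.SimpleRange30

/-- Certificates from 3641. -/
def certs3641 : List Cert := [
  .two 11 1 331 1,
  .least 2,
  .prime,
  .two 2 2 911 1,
  .two 3 6 5 1,
  .two 2 1 1823 1,
  .two 7 1 521 1,
  .small  [3, 19] 3,
  .two 41 1 89 1,
  .least 2,
  .two 3 1 1217 1,
  .kill1  [] 83 1,
  .two 13 1 281 1,
  .least 2,
  .least 5,
  .two 2 3 457 1,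
  .least 3,
  .least 2,
  .prime,
  .kill1  [] 61 1,
  .two 7 1 523 1,
  .two 2 1 1831 1,
  .kill1  [] 11 1,
  .two 2 4 229 1,
  .two 5 1 733 1,
  .least 2,
  .two 19 1 193 1,
  .kill1  [] 7 1,
  .two 3 1 1223 1,
  .least 2,
  .prime,
  .kill1  [17] 17 1,
  .prime,
  .least 2,
  .least 3,
  .two 2 2 919 1,
  .prime,
  .least 2,
  .two 13 1 283 1,
  .kill1  [] 23 1,
  .two 3 2 409 1,
  .least 2,
  .two 29 1 127 1,
  .kill1  [] 307 1,
  .least 5,
  .least 2,
  .two 3 1 1229 1,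
  .two 2 3 461 1,
  .least 7,
  .least 2,
  .prime,
  .kill1  [] 13 1,
  .two 3 1 1231 1,
  .two 2 1 1847 1,
  .two 5 1 739 1,
  .killTwo  [3, 7, 11],
  .prime,
  .two 2 1 43 2,
  .two 3 3 137 1,
  .kill1  [] 5 2,
  .prime,
  .least 2,
  .two 7 1 23 2,
  .two 2 3 463 1,
  .least 3,
  .least 2,
  .two 11 1 337 1,
  .kill1  [] 103 1,
  .prime,
  .least 2,
  .two 3 1 1237 1,
  .two 2 7 29 1,
  .two 47 1 79 1,
  .least 2,
  .two 5 1 743 1,
  .two 2 2 929 1,
  .kill1  [] 3 2,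
  .least 2,
  .prime,
  .kill1  [] 31 1,
  .two 61 2 61 0,
  .two 2 1 1861 1,
  .least 3,
  .kill1  [] 7 2,
  .two 5 2 149 1,
  .least 2,
  .prime,
  .two 2 4 233 1,
  .least 3,
  .least 2,
  .least 7,
  .kill1  [] 311 1,
  .prime,
  .two 2 1 1867 1,
  .kill1  [] 5 1,
  .two 2 3 467 1,
  .two 37 1 101 1,
  .least 2,
  .prime,
  .kill1  [] 5 1,
  .least 3,
  .two 2 1 1871 1,
  .two 19 1 197 1,
  .given,
  .least 5,
  .two 2 1 1873 1,
  .two 3 1 1249 1,
  .two 2 2 937 1]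

theorem certs3641_check : checkFrom 3641 certs3641 = true := by decide +kernel

theorem certs3641_length : certs3641.length = 108 := rfl

/-- Certificates from 3749. -/
def certs3749 : List Cert := [
  .two 23 1 163 1,
  .least 2,
  .two 11 2 31 1,
  .kill1  [] 67 1,
  .two 3 3 139 1,
  .two 2 1 1877 1,
  .two 5 1 751 1,
  .kill1  [] 313 1,
  .two 13 1 17 2,
  .two 2 1 1879 1,
  .least 3,
  .kill1  [] 47 1,
  .prime,
  .least 2,
  .two 53 1 71 1,
  .two 2 2 941 1,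
  .least 3,
  .least 2,
  .prime,
  .kill1  [] 157 1,
  .prime,
  .least 2,
  .two 3 2 419 1,
  .kill1  [] 23 1,
  .two 7 3 11 1,
  .least 2,
  .two 5 2 151 1,
  .two 2 6 59 1,
  .two 3 1 1259 1,
  .two 2 1 1889 1,
  .prime,
  .small  [5, 7] 5,
  .two 19 1 199 1,
  .least 2,
  .least 3,
  .kill1  [] 11 1,
  .two 5 1 757 1,
  .least 2,
  .two 7 1 541 1,
  .two 2 2 947 1,
  .two 3 2 421 1,
  .least 2,
  .two 17 1 223 1,
  .kill1  [] 79 1,
  .prime,
  .least 2,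
  .least 3,
  .kill1  [] 13 1,
  .prime,
  .least 2,
  .two 29 1 131 1,
  .kill1  [19] 19 1,
  .least 3,
  .two 2 1 1901 1,
  .prime,
  .kill1  [] 317 1,
  .two 5 1 761 1,
  .least 2,
  .two 3 4 47 1,
  .kill1  [] 7 1,
  .two 13 1 293 1,
  .least 2,
  .two 37 1 103 1,
  .two 2 2 953 1,
  .least 3,
  .two 2 1 1907 1,
  .least 5,
  .kill1  [] 53 1,
  .two 11 1 347 1,
  .least 2,
  .least 3,
  .kill1  [] 191 1,
  .prime,
  .least 2,
  .prime,
  .two 2 4 239 1,
  .kill1  [] 17 1,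
  .two 2 1 1913 1,
  .two 43 1 89 1,
  .kill1  [] 11 1,
  .two 7 1 547 1,
  .least 2,
  .two 3 1 1277 1,
  .two 2 3 479 1,
  .prime,
  .least 2,
  .least 5,
  .kill1  [] 137 1,
  .two 3 1 1279 1,
  .least 2,
  .two 11 1 349 1,
  .kill1  [] 2 8,
  .two 23 1 167 1,
  .least 2,
  .kill1  [] 61 1,
  .two 2 2 31 2,
  .two 5 1 769 1,
  .least 2,
  .prime,
  .kill1  [] 13 1,
  .two 3 1 1283 1,
  .least 2,
  .prime,
  .kill1  [] 107 1,
  .prime,
  .least 2,
  .least 3,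
  .two 2 4 241 1]

theorem certs3749_check : checkFrom 3749 certs3749 = true := by decide +kernel

theorem certs3749_length : certs3749.length = 108 := rfl

/-- Certificates from 3857. -/
def certs3857 : List Cert := [
  .least 7,
  .least 2,
  .two 17 1 227 1,
  .kill1  [] 193 1,
  .kill1  [] 3 3,
  .two 2 1 1931 1,
  .prime,
  .kill1  [] 23 1,
  .two 5 1 773 1,
  .two 2 1 1933 1,
  .two 3 1 1289 1,
  .two 2 2 967 1,
  .two 53 1 73 1,
  .least 2,
  .two 7 2 79 1,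
  .two 2 5 11 2,
  .two 3 1 1291 1,
  .least 2,
  .two 5 3 31 1,
  .kill1  [] 17 1,
  .prime,
  .least 2,
  .two 3 2 431 1,
  .kill1  [] 5 1,
  .prime,
  .least 2,
  .two 11 1 353 1,
  .two 2 2 971 1,
  .least 3,
  .least 2,
  .two 13 2 23 1,
  .two 2 4 3 5,
  .prime,
  .least 2,
  .two 3 1 1297 1,
  .kill1  [] 7 1,
  .two 17 1 229 1,
  .least 2,
  .least 5,
  .two 2 3 487 1,
  .two 3 2 433 1,
  .two 2 1 1949 1,
  .two 7 1 557 1,
  .kill1  [] 13 1,
  .two 47 1 83 1,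
  .two 2 1 1951 1,
  .two 3 1 1301 1,
  .two 2 6 61 1,
  .least 5,
  .least 2,
  .prime,
  .two 2 2 977 1,
  .two 3 1 1303 1,
  .least 2,
  .prime,
  .kill1  [] 163 1,
  .least 7,
  .least 2,
  .kill1  [] 5 1,
  .kill1  [] 89 1,
  .prime,
  .least 2,
  .prime,
  .kill1  [] 7 2,
  .two 3 1 1307 1,
  .least 2,
  .prime,
  .kill1  [] 109 1,
  .two 5 2 157 1,
  .least 2,
  .least 3,
  .two 2 3 491 1,
  .prime,
  .least 2,
  .prime,
  .two 2 2 983 1,
  .kill1  [] 3 2,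
  .least 2,
  .two 5 1 787 1,
  .kill1  [] 41 1,
  .two 31 1 127 1,
  .least 2,
  .least 3,
  .kill1  [] 5 1,
  .two 7 1 563 1,
  .least 2,
  .prime,
  .kill1  [] 17 1,
  .least 3,
  .two 2 1 1973 1,
  .prime,
  .kill1  [] 47 1,
  .two 11 1 359 1,
  .least 2,
  .two 3 2 439 1,
  .kill1  [] 13 1,
  .two 59 1 67 1,
  .least 2,
  .least 5,
  .kill1  [] 23 1,
  .two 3 1 1319 1,
  .two 2 1 1979 1,
  .two 37 1 107 1,
  .small  [5, 11] 11,
  .two 17 1 233 1,
  .least 2,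
  .two 3 1 1321 1,
  .two 2 2 991 1]

theorem certs3857_check : checkFrom 3857 certs3857 = true := by decide +kernel

theorem certs3857_length : certs3857.length = 108 := rfl

/-- Certificates from 3965. -/
def certs3965 : List Cert := [
  .least 5,
  .least 2,
  .prime,
  .two 2 7 31 1,
  .two 3 4 7 2,
  .least 2,
  .two 11 1 19 2,
  .kill1  [] 331 1,
  .two 29 1 137 1,
  .two 2 1 1987 1,
  .least 3,
  .kill1  [] 71 1,
  .two 41 1 97 1,
  .least 2,
  .two 23 1 173 1,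
  .kill1  [] 5 1,
  .two 3 1 1327 1,
  .least 2,
  .two 7 1 569 1,
  .kill1  [] 83 1,
  .two 5 1 797 1,
  .two 2 1 1993 1,
  .two 3 2 443 1,
  .two 2 2 997 1,
  .prime,
  .least 2,
  .two 13 1 307 1,
  .two 2 3 499 1,
  .two 3 1 11 3,
  .two 2 1 1997 1,
  .least 5,
  .kill1  [] 37 1,
  .two 7 1 571 1,
  .two 2 1 1999 1,
  .least 3,
  .two 2 5 5 3,
  .prime,
  .least 2,
  .prime,
  .kill1  [] 11 1,
  .kill1  [] 3 2,
  .two 2 1 2003 1,
  .prime,
  .kill1  [] 167 1,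
  .two 19 1 211 1,
  .least 2,
  .least 3,
  .kill1  [] 17 1,
  .prime,
  .least 2,
  .least 5,
  .two 2 4 251 1,
  .least 3,
  .least 2,
  .prime,
  .kill1  [] 67 1,
  .prime,
  .two 2 1 2011 1,
  .two 3 3 149 1,
  .two 2 3 503 1,
  .kill1  [] 5 2,
  .least 2,
  .prime,
  .kill1  [] 19 1,
  .least 3,
  .least 2,
  .two 29 1 139 1,
  .given,
  .two 37 1 109 1,
  .two 2 1 2017 1,
  .least 3,
  .two 2 2 1009 1,
  .two 11 1 367 1,
  .least 2,
  .two 7 1 577 1,
  .kill1  [] 101 1,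
  .two 3 2 449 1,
  .least 2,
  .two 13 1 311 1,
  .kill1  [] 337 1,
  .two 5 1 809 1,
  .least 2,
  .least 3,
  .kill1  [] 23 1,
  .prime,
  .least 2,
  .prime,
  .two 2 2 1013 1,
  .least 3,
  .two 2 1 2027 1,
  .two 5 1 811 1,
  .kill1  [] 13 2,
  .prime,
  .two 2 1 2029 1,
  .kill1  [] 11 1,
  .kill1  [] 29 1,
  .two 31 1 131 1,
  .least 2,
  .two 17 1 239 1,
  .two 2 5 127 1,
  .least 3,
  .least 2,
  .two 7 2 83 1,
  .kill1  [] 113 1,
  .two 13 1 313 1,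
  .least 2,
  .least 3,
  .two 2 3 509 1]

theorem certs3965_check : checkFrom 3965 certs3965 = true := by decide +kernel

theorem certs3965_length : certs3965.length = 108 := rfl

/-- Certificates from 4073. -/
def certs4073 : List Cert := [
  .prime,
  .least 2,
  .two 5 2 163 1,
  .two 2 2 1019 1,
  .two 3 3 151 1,
  .two 2 1 2039 1,
  .prime,
  .given,
  .least 7,
  .least 2,
  .two 3 1 1361 1,
  .two 2 2 1021 1,
  .least 5,
  .least 2,
  .two 61 1 67 1,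
  .kill1  [] 7 1,
  .least 3,
  .least 2,
  .prime,
  .kill1  [] 11 1,
  .prime,
  .least 2,
  .kill1  [] 5 1,
  .two 2 12 2 0,
  .two 17 1 241 1,
  .least 2,
  .prime,
  .kill1  [] 5 2,
  .two 3 1 1367 1,
  .least 2,
  .two 11 1 373 1,
  .kill1  [] 19 1,
  .two 5 1 821 1,
  .two 2 1 2053 1,
  .two 3 1 37 2,
  .kill1  [] 79 1,
  .two 7 1 587 1,
  .least 2,
  .prime,
  .two 2 4 257 1,
  .two 3 2 457 1,
  .least 2,
  .two 5 1 823 1,
  .kill1  [] 7 3,
  .two 23 1 179 1,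
  .least 2,
  .two 3 1 1373 1,
  .kill1  [] 103 1,
  .two 13 1 317 1,
  .least 2,
  .least 7,
  .two 2 2 1031 1,
  .least 3,
  .two 2 1 2063 1,
  .prime,
  .kill1  [] 43 1,
  .prime,
  .least 2,
  .two 3 5 17 1,
  .two 2 2 1033 1,
  .prime,
  .least 2,
  .two 5 1 827 1,
  .kill1  [] 47 1,
  .least 3,
  .two 2 1 2069 1,
  .prime,
  .kill1  [] 23 1,
  .two 41 1 101 1,
  .least 2,
  .two 3 1 1381 1,
  .kill1  [] 37 1,
  .two 5 1 829 1,
  .least 2,
  .least 11,
  .kill1  [] 17 1,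
  .two 3 2 461 1,
  .least 2,
  .two 7 1 593 1,
  .kill1  [] 173 1,
  .prime,
  .least 2,
  .least 3,
  .two 2 2 1039 1,
  .prime,
  .least 2,
  .prime,
  .small  [5, 13] 13,
  .least 3,
  .two 2 1 2081 1,
  .two 23 1 181 1,
  .kill1  [] 347 1,
  .least 5,
  .two 2 1 2083 1,
  .two 3 2 463 1,
  .two 2 3 521 1,
  .two 11 1 379 1,
  .least 2,
  .two 43 1 97 1,
  .kill1  [] 7 1,
  .least 3,
  .two 2 1 2087 1,
  .two 5 2 167 1,
  .kill1  [] 29 1,
  .prime,
  .two 2 1 2089 1,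
  .least 3,
  .kill1  [] 5 1]

theorem certs4073_check : checkFrom 4073 certs4073 = true := by decide +kernel

theorem certs4073_length : certs4073.length = 108 := rfl

/-- Certificates from 4181. -/
def certs4181 : List Cert := [
  .two 37 1 113 1,
  .least 2,
  .two 47 1 89 1,
  .two 2 3 523 1,
  .kill1  [] 3 3,
  .least 2,
  .two 53 1 79 1,
  .kill1  [] 349 1,
  .two 59 1 71 1,
  .least 2,
  .least 3,
  .two 2 5 131 1,
  .two 7 1 599 1,
  .least 2,
  .two 5 1 839 1,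
  .two 2 2 1049 1,
  .two 3 1 1399 1,
  .two 2 1 2099 1,
  .least 13,
  .small  [3, 7] 7,
  .prime,
  .least 2,
  .two 3 2 467 1,
  .two 2 2 1051 1,
  .two 5 1 29 2,
  .least 2,
  .two 7 1 601 1,
  .two 2 4 263 1,
  .least 3,
  .least 2,
  .prime,
  .kill1  [13] 3 4,
  .two 11 1 383 1,
  .least 2,
  .least 3,
  .kill1  [] 17 1,
  .prime,
  .least 2,
  .prime,
  .kill1  [] 211 1,
  .kill1  [] 7 1,
  .two 2 1 2111 1,
  .two 41 1 103 1,
  .kill1  [3, 11] 11 1,
  .two 5 2 13 2,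
  .two 2 1 2113 1,
  .two 3 1 1409 1,
  .kill1  [] 151 1,
  .prime,
  .least 2,
  .prime,
  .two 2 3 23 2,
  .least 3,
  .least 2,
  .least 5,
  .kill1  [] 353 1,
  .two 19 1 223 1,
  .least 2,
  .two 3 3 157 1,
  .kill1  [] 53 1,
  .prime,
  .least 2,
  .prime,
  .two 2 2 1061 1,
  .least 3,
  .least 2,
  .two 31 1 137 1,
  .kill1  [] 59 1,
  .two 7 1 607 1,
  .least 2,
  .least 3,
  .two 2 2 1063 1,
  .prime,
  .least 2,
  .least 5,
  .kill1  [] 7 1,
  .kill1  [] 3 2,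
  .two 2 1 2129 1,
  .prime,
  .kill1  [] 71 1,
  .prime,
  .two 2 1 2131 1,
  .least 3,
  .kill1  [] 13 1,
  .two 5 1 853 1,
  .least 2,
  .two 17 1 251 1,
  .kill1  [] 11 1,
  .two 3 1 1423 1,
  .least 2,
  .prime,
  .kill1  [] 89 1,
  .prime,
  .two 2 1 2137 1,
  .kill1  [] 5 2,
  .two 2 2 1069 1,
  .least 7,
  .least 2,
  .two 11 1 389 1,
  .kill1  [] 5 1,
  .two 3 1 1427 1,
  .two 2 1 2141 1,
  .prime,
  .kill1  [7, 17] 17 1,
  .two 5 1 857 1,
  .two 2 1 2143 1,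
  .two 3 1 1429 1,
  .two 2 6 67 1]

theorem certs4181_check : checkFrom 4181 certs4181 = true := by decide +kernel

theorem certs4181_length : certs4181.length = 108 := rfl

variable {G : Type*} [Group G] [Finite G] [IsSimpleGroup G]

theorem mem_exceptions0 (hG : ¬ IsMulCommutative G) (h1 : 3641 ≤ Nat.card G)
    (h2 : Nat.card G < 4289) : Nat.card G ∈ exceptions := by
  rcases lt_or_ge (Nat.card G) 3749 with h | h
  · exact mem_exceptions hG _ 3641 certs3641_check (by omega) (by rw [certs3641_length]; omega)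
  rcases lt_or_ge (Nat.card G) 3857 with h | h
  · exact mem_exceptions hG _ 3749 certs3749_check (by omega) (by rw [certs3749_length]; omega)
  rcases lt_or_ge (Nat.card G) 3965 with h | h
  · exact mem_exceptions hG _ 3857 certs3857_check (by omega) (by rw [certs3857_length]; omega)
  rcases lt_or_ge (Nat.card G) 4073 with h | h
  · exact mem_exceptions hG _ 3965 certs3965_check (by omega) (by rw [certs3965_length]; omega)
  rcases lt_or_ge (Nat.card G) 4181 with h | h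
  · exact mem_exceptions hG _ 4073 certs4073_check (by omega) (by rw [certs4073_length]; omega)
  exact mem_exceptions hG _ 4181 certs4181_check (by omega) (by rw [certs4181_length]; omega)

end Cfsg.Agent.SimpleRange30
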