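import Cfsg.Agent.Lib.SimpleRange30

/-!
Certificates for the orders 4289..4936.
-/

set_option autoImplicit false

namespace Cfsg.Agent.SimpleRange30

/-- Certificates from 4289. -/
def certs4289 : List Cert := [
  .prime,
  .least 2,
  .two 7 1 613 1,
  .kill1  [] 29 1,
  .two 3 4 53 1,
  .least 2,
  .two 5 1 859 1,
  .kill1  [] 179 1,
  .prime,
  .least 2,
  .two 3 1 1433 1,
  .kill1  [] 5 2,
  .least 11,
  .least 2,
  .two 13 1 331 1,
  .two 2 4 269 1,
  .least 3,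
  .two 2 1 2153 1,
  .two 59 1 73 1,
  .kill1  [] 359 1,
  .two 31 1 139 1,
  .least 2,
  .two 3 2 479 1,
  .kill1  [] 7 2,
  .two 19 1 227 1,
  .least 2,
  .two 5 1 863 1,
  .kill1  [] 13 1,
  .two 3 1 1439 1,
  .least 2,
  .two 7 1 617 1,
  .given,
  .two 29 1 149 1,
  .two 2 1 2161 1,
  .least 3,
  .kill1  [] 47 1,
  .two 5 2 173 1,
  .least 2,
  .prime,
  .two 2 3 541 1,
  .kill1  [] 13 1,
  .least 2,
  .two 61 1 71 1,
  .kill1  [] 19 2,
  .two 7 1 619 1,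
  .least 2,
  .least 3,
  .two 2 4 271 1,
  .prime,
  .least 2,
  .prime,
  .kill1  [] 31 1,
  .two 3 1 1447 1,
  .least 2,
  .two 43 1 101 1,
  .kill1  [] 181 1,
  .least 5,
  .least 2,
  .kill1  [] 3 3,
  .two 2 2 1087 1,
  .prime,
  .least 2,
  .two 19 1 229 1,
  .two 2 8 17 1,
  .two 3 1 1451 1,
  .least 2,
  .least 5,
  .kill1  [] 11 2,
  .prime,
  .two 2 1 2179 1,
  .two 3 1 1453 1,
  .kill1  [] 109 1,
  .two 7 2 89 1,
  .least 2,
  .prime,
  .two 2 2 1091 1,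
  .kill1  [] 3 2,
  .least 2,
  .two 11 1 397 1,
  .kill1  [3, 7, 13] 13 1,
  .two 17 1 257 1,
  .least 2,
  .least 3,
  .two 2 2 1093 1,
  .prime,
  .two 2 1 3 7,
  .two 5 4 7 1,
  .two 2 3 547 1,
  .two 3 1 1459 1,
  .least 2,
  .two 29 1 151 1,
  .kill1  [] 73 1,
  .two 13 1 337 1,
  .least 2,
  .two 3 2 487 1,
  .two 2 5 137 1,
  .two 5 1 877 1,
  .least 2,
  .two 41 1 107 1,
  .two 2 2 1097 1,
  .least 3,
  .least 2,
  .prime,
  .kill1  [] 61 1,
  .two 23 1 191 1,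
  .two 2 1 13 3,
  .least 3,
  .kill1  [] 7 1]

theorem certs4289_check : checkFrom 4289 certs4289 = true := by decide +kernel

theorem certs4289_length : certs4289.length = 108 := rfl

/-- Certificates from 4397. -/
def certs4397 : List Cert := [
  .prime,
  .least 2,
  .two 53 1 83 1,
  .small  [11] 11,
  .two 3 3 163 1,
  .least 2,
  .least 7,
  .kill1  [] 367 1,
  .two 5 1 881 1,
  .two 2 1 2203 1,
  .least 3,
  .kill1  [] 29 1,
  .prime,
  .least 2,
  .two 11 1 401 1,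
  .two 2 2 1103 1,
  .two 3 1 1471 1,
  .two 2 1 2207 1,
  .two 5 1 883 1,
  .kill1  [3, 23] 23 1,
  .two 7 1 631 1,
  .two 2 1 47 2,
  .two 3 2 491 1,
  .kill1  [] 17 1,
  .prime,
  .least 2,
  .prime,
  .kill1  [] 79 1,
  .least 3,
  .two 2 1 2213 1,
  .two 19 1 233 1,
  .kill1  [] 41 1,
  .two 43 1 103 1,
  .least 2,
  .least 3,
  .two 2 4 277 1,
  .least 11,
  .least 2,
  .two 5 1 887 1,
  .two 2 2 1109 1,
  .kill1  [] 3 2,
  .least 2,
  .two 23 1 193 1,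
  .kill1  [] 37 1,
  .prime,
  .two 2 1 2221 1,
  .two 3 1 1481 1,
  .kill1  [] 11 1,
  .least 5,
  .least 2,
  .prime,
  .two 2 5 139 1,
  .two 3 1 1483 1,
  .least 2,
  .prime,
  .kill1  [] 53 1,
  .two 61 1 73 1,
  .least 2,
  .kill1  [] 5 1,
  .two 2 3 557 1,
  .prime,
  .least 2,
  .two 7 3 13 1,
  .kill1  [] 223 1,
  .two 3 1 1487 1,
  .least 2,
  .prime,
  .kill1  [] 31 1,
  .least 5,
  .least 2,
  .two 3 1 1489 1,
  .two 2 2 1117 1,
  .two 41 1 109 1,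
  .least 2,
  .two 17 1 263 1,
  .kill1  [] 13 1,
  .kill1  [] 3 2,
  .two 2 1 2237 1,
  .two 5 2 179 1,
  .kill1  [] 373 1,
  .two 11 2 37 1,
  .two 2 1 2239 1,
  .two 3 1 1493 1,
  .kill1  [] 2 7,
  .prime,
  .least 2,
  .prime,
  .kill1  [] 19 1,
  .least 3,
  .two 2 1 2243 1,
  .two 7 1 641 1,
  .kill1  [] 17 1,
  .two 67 2 67 0,
  .least 2,
  .two 3 2 499 1,
  .two 2 2 1123 1,
  .prime,
  .least 2,
  .least 5,
  .two 2 4 281 1,
  .two 3 1 1499 1,
  .least 2,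
  .two 11 1 409 1,
  .kill1  [] 5 3,
  .two 7 1 643 1,
  .two 2 1 2251 1,
  .least 3,
  .two 2 3 563 1]

theorem certs4397_check : checkFrom 4397 certs4397 = true := by decide +kernel

theorem certs4397_length : certs4397.length = 108 := rfl

/-- Certificates from 4505. -/
def certs4505 : List Cert := [
  .least 5,
  .least 2,
  .prime,
  .kill1  [] 7 2,
  .two 3 3 167 1,
  .least 2,
  .two 13 1 347 1,
  .kill1  [3, 47] 47 1,
  .prime,
  .least 2,
  .least 3,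
  .two 2 2 1129 1,
  .prime,
  .least 2,
  .prime,
  .kill1  [] 113 1,
  .least 3,
  .least 2,
  .prime,
  .kill1  [] 13 1,
  .two 5 2 181 1,
  .least 2,
  .two 3 2 503 1,
  .two 2 4 283 1,
  .two 7 1 647 1,
  .least 2,
  .two 23 1 197 1,
  .kill1  [] 11 1,
  .two 3 1 1511 1,
  .two 2 1 2267 1,
  .two 5 1 907 1,
  .small  [7] 7,
  .two 13 1 349 1,
  .two 2 1 2269 1,
  .least 3,
  .kill1  [] 5 1,
  .two 19 1 239 1,
  .least 2,
  .least 7,
  .two 2 6 71 1,
  .kill1  [] 5 1,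
  .two 2 1 2273 1,
  .prime,
  .kill1  [] 379 1,
  .prime,
  .least 2,
  .least 3,
  .two 2 3 569 1,
  .two 29 1 157 1,
  .least 2,
  .two 5 1 911 1,
  .kill1  [] 17 1,
  .least 3,
  .least 2,
  .two 47 1 97 1,
  .kill1  [3, 5, 19] 19 1,
  .prime,
  .two 2 1 2281 1,
  .two 3 3 13 2,
  .kill1  [] 7 1,
  .least 5,
  .least 2,
  .prime,
  .two 2 3 571 1,
  .two 3 1 1523 1,
  .least 2,
  .two 7 1 653 1,
  .kill1  [] 127 1,
  .two 17 1 269 1,
  .two 2 1 2287 1,
  .least 3,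
  .kill1  [] 11 1,
  .two 23 1 199 1,
  .least 2,
  .two 19 1 241 1,
  .kill1  [] 5 1,
  .two 3 2 509 1,
  .least 2,
  .prime,
  .kill1  [] 191 1,
  .least 5,
  .two 2 1 2293 1,
  .least 3,
  .kill1  [] 31 1,
  .two 13 1 353 1,
  .least 2,
  .prime,
  .kill1  [] 7 1,
  .two 3 1 1531 1,
  .two 2 1 2297 1,
  .two 5 1 919 1,
  .kill1  [] 383 1,
  .prime,
  .least 2,
  .kill1  [] 7 1,
  .kill1  [] 5 2,
  .two 43 1 107 1,
  .least 2,
  .prime,
  .two 2 2 1151 1,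
  .least 3,
  .least 2,
  .two 17 1 271 1,
  .two 2 9 3 2,
  .two 11 1 419 1,
  .least 2,
  .least 3,
  .two 2 2 1153 1]

theorem certs4505_check : checkFrom 4505 certs4505 = true := by decide +kernel

theorem certs4505_length : certs4505.length = 108 := rfl

/-- Certificates from 4613. -/
def certs4613 : List Cert := [
  .two 7 1 659 1,
  .least 2,
  .least 5,
  .two 2 3 577 1,
  .two 3 5 19 1,
  .two 2 1 2309 1,
  .two 31 1 149 1,
  .killTwo  [3, 5, 7, 11],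
  .prime,
  .two 2 1 2311 1,
  .least 3,
  .two 2 4 17 2,
  .two 5 3 37 1,
  .least 2,
  .two 7 1 661 1,
  .kill1  [] 13 1,
  .two 3 1 1543 1,
  .least 2,
  .two 11 1 421 1,
  .kill1  [] 193 1,
  .two 41 1 113 1,
  .least 2,
  .kill1  [] 3 2,
  .kill1  [] 19 1,
  .prime,
  .least 2,
  .prime,
  .kill1  [] 29 1,
  .least 3,
  .least 2,
  .prime,
  .kill1  [] 43 1,
  .two 5 1 929 1,
  .least 2,
  .two 3 1 1549 1,
  .kill1  [] 7 1,
  .prime,
  .least 2,
  .prime,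
  .two 2 2 1163 1,
  .kill1  [] 3 2,
  .least 2,
  .least 5,
  .kill1  [] 97 1,
  .prime,
  .least 2,
  .two 3 1 1553 1,
  .kill1  [] 233 1,
  .two 59 1 79 1,
  .least 2,
  .prime,
  .kill1  [] 11 1,
  .least 3,
  .two 2 1 2333 1,
  .two 13 1 359 1,
  .kill1  [] 389 1,
  .least 7,
  .least 2,
  .two 3 3 173 1,
  .two 2 6 73 1,
  .prime,
  .least 2,
  .kill1  [] 5 2,
  .kill1  [] 7 1,
  .two 3 1 1559 1,
  .two 2 1 2339 1,
  .prime,
  .small  [5, 13] 13,
  .two 31 1 151 1,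
  .two 2 1 2341 1,
  .least 3,
  .two 2 2 1171 1,
  .two 5 1 937 1,
  .least 2,
  .two 43 1 109 1,
  .two 2 4 293 1,
  .two 3 2 521 1,
  .least 2,
  .prime,
  .kill1  [] 23 1,
  .two 13 1 19 2,
  .two 2 1 2347 1,
  .least 3,
  .two 2 3 587 1,
  .least 7,
  .least 2,
  .two 37 1 127 1,
  .kill1  [] 5 2,
  .two 3 1 1567 1,
  .two 2 1 2351 1,
  .prime,
  .kill1  [] 7 2,
  .two 5 1 941 1,
  .least 2,
  .two 3 2 523 1,
  .kill1  [] 11 1,
  .two 17 1 277 1,
  .least 2,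
  .two 7 1 673 1,
  .kill1  [] 19 1,
  .two 3 1 1571 1,
  .two 2 1 2357 1,
  .least 5,
  .kill1  [] 131 1,
  .two 53 1 89 1,
  .least 2,
  .least 3,
  .kill1  [] 59 1]

theorem certs4613_check : checkFrom 4613 certs4613 = true := by decide +kernel

theorem certs4613_length : certs4613.length = 108 := rfl

/-- Certificates from 4721. -/
def certs4721 : List Cert := [
  .prime,
  .least 2,
  .prime,
  .two 2 2 1181 1,
  .kill1  [] 5 2,
  .least 2,
  .two 29 1 163 1,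
  .kill1  [] 197 1,
  .prime,
  .least 2,
  .least 3,
  .kill1  [] 13 2,
  .prime,
  .least 2,
  .two 5 1 947 1,
  .two 2 7 37 1,
  .two 3 1 1579 1,
  .least 2,
  .two 7 1 677 1,
  .kill1  [] 5 1,
  .two 11 1 431 1,
  .two 2 1 2371 1,
  .kill1  [] 3 2,
  .two 2 3 593 1,
  .least 5,
  .least 2,
  .two 47 1 101 1,
  .two 2 2 1187 1,
  .two 3 1 1583 1,
  .least 2,
  .prime,
  .kill1  [11] 11 1,
  .two 7 2 97 1,
  .two 2 1 2377 1,
  .least 3,
  .kill1  [] 29 1,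
  .two 67 1 71 1,
  .least 2,
  .prime,
  .small  [5, 7, 17] 7,
  .two 3 2 23 2,
  .two 2 1 2381 1,
  .two 11 1 433 1,
  .kill1  [] 397 1,
  .two 5 1 953 1,
  .two 2 1 2383 1,
  .least 3,
  .two 2 5 149 1,
  .two 19 1 251 1,
  .least 2,
  .two 13 1 367 1,
  .two 2 2 1193 1,
  .least 3,
  .least 2,
  .two 5 2 191 1,
  .kill1  [] 199 1,
  .two 17 1 281 1,
  .two 2 1 2389 1,
  .two 3 4 59 1,
  .kill1  [] 5 1,
  .two 7 1 683 1,
  .least 2,
  .prime,
  .kill1  [] 23 1,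
  .least 3,
  .two 2 1 2393 1,
  .prime,
  .kill1  [] 19 1,
  .prime,
  .least 2,
  .two 3 1 1597 1,
  .two 2 3 599 1,
  .prime,
  .least 2,
  .least 5,
  .kill1  [] 11 1,
  .kill1  [] 3 2,
  .two 2 1 2399 1,
  .prime,
  .small  [3] 3,
  .prime,
  .two 2 1 7 4,
  .two 3 1 1601 1,
  .two 2 2 1201 1,
  .two 5 1 31 2,
  .least 2,
  .least 11,
  .two 2 3 601 1,
  .least 3,
  .least 2,
  .two 17 1 283 1,
  .kill1  [] 401 1,
  .prime,
  .least 2,
  .kill1  [] 3 2,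
  .kill1  [] 43 1,
  .prime,
  .least 2,
  .two 61 1 79 1,
  .kill1  [] 241 1,
  .two 3 1 1607 1,
  .two 2 1 2411 1,
  .least 7,
  .kill1  [] 67 1,
  .two 5 2 193 1,
  .least 2,
  .two 3 1 1609 1,
  .kill1  [] 17 1]

theorem certs4721_check : checkFrom 4721 certs4721 = true := by decide +kernel

theorem certs4721_length : certs4721.length = 108 := rfl

/-- Certificates from 4829. -/
def certs4829 : List Cert := [
  .two 11 1 439 1,
  .least 2,
  .prime,
  .two 2 5 151 1,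
  .two 3 3 179 1,
  .two 2 1 2417 1,
  .two 5 1 967 1,
  .kill1  [] 13 1,
  .two 7 1 691 1,
  .least 2,
  .two 3 1 1613 1,
  .kill1  [] 11 2,
  .two 47 1 103 1,
  .least 2,
  .two 29 1 167 1,
  .kill1  [] 7 1,
  .least 3,
  .two 2 1 2423 1,
  .two 37 1 131 1,
  .kill1  [] 101 1,
  .two 13 1 373 1,
  .least 2,
  .kill1  [] 11 1,
  .two 2 2 1213 1,
  .two 23 1 211 1,
  .least 2,
  .two 5 1 971 1,
  .two 2 3 607 1,
  .two 3 1 1619 1,
  .least 2,
  .two 43 1 113 1,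
  .kill1  [] 3 5,
  .prime,
  .least 2,
  .two 3 1 1621 1,
  .two 2 8 19 1,
  .least 5,
  .least 2,
  .two 31 1 157 1,
  .two 2 2 1217 1,
  .two 3 2 541 1,
  .least 2,
  .prime,
  .kill1  [] 29 1,
  .two 11 1 443 1,
  .two 2 1 2437 1,
  .least 3,
  .kill1  [] 23 1,
  .prime,
  .least 2,
  .least 7,
  .kill1  [] 61 1,
  .two 3 1 1627 1,
  .two 2 1 2441 1,
  .two 19 1 257 1,
  .kill1  [] 37 1,
  .two 5 1 977 1,
  .least 2,
  .two 3 3 181 1,
  .kill1  [] 13 1,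
  .prime,
  .least 2,
  .two 67 1 73 1,
  .two 2 2 1223 1,
  .least 3,
  .two 2 1 2447 1,
  .least 5,
  .kill1  [17] 17 1,
  .two 59 1 83 1,
  .least 2,
  .least 3,
  .kill1  [] 5 2,
  .two 13 2 29 1,
  .least 2,
  .prime,
  .two 2 3 613 1,
  .kill1  [] 5 1,
  .least 2,
  .two 7 1 701 1,
  .kill1  [] 409 1,
  .prime,
  .least 2,
  .two 3 1 1637 1,
  .two 2 4 307 1,
  .two 17 3 17 0,
  .least 2,
  .two 5 1 983 1,
  .two 2 2 1229 1,
  .least 3,
  .two 2 1 2459 1,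
  .prime,
  .kill1  [] 41 1,
  .least 7,
  .least 2,
  .two 3 2 547 1,
  .two 2 2 1231 1,
  .two 5 2 197 1,
  .least 2,
  .two 13 1 379 1,
  .small  [7, 11] 7,
  .least 3,
  .least 2,
  .prime,
  .kill1  [] 137 1,
  .prime,
  .two 2 1 2467 1,
  .least 3,
  .two 2 3 617 1]

theorem certs4829_check : checkFrom 4829 certs4829 = true := by decide +kernel

theorem certs4829_length : certs4829.length = 108 := rfl

variable {G : Type*} [Group G] [Finite G] [IsSimpleGroup G]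

theorem mem_exceptions1 (hG : ¬ IsMulCommutative G) (h1 : 4289 ≤ Nat.card G)
    (h2 : Nat.card G < 4937) : Nat.card G ∈ exceptions := by
  rcases lt_or_ge (Nat.card G) 4397 with h | h
  · exact mem_exceptions hG _ 4289 certs4289_check (by omega) (by rw [certs4289_length]; omega)
  rcases lt_or_ge (Nat.card G) 4505 with h | h
  · exact mem_exceptions hG _ 4397 certs4397_check (by omega) (by rw [certs4397_length]; omega)
  rcases lt_or_ge (Nat.card G) 4613 with h | h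
  · exact mem_exceptions hG _ 4505 certs4505_check (by omega) (by rw [certs4505_length]; omega)
  rcases lt_or_ge (Nat.card G) 4721 with h | h
  · exact mem_exceptions hG _ 4613 certs4613_check (by omega) (by rw [certs4613_length]; omega)
  rcases lt_or_ge (Nat.card G) 4829 with h | h
  · exact mem_exceptions hG _ 4721 certs4721_check (by omega) (by rw [certs4721_length]; omega)
  exact mem_exceptions hG _ 4829 certs4829_check (by omega) (by rw [certs4829_length]; omega)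

end Cfsg.Agent.SimpleRange30
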