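import Cfsg.Agent.Lib.SimpleRange30

/-!
Certificates for the orders 4937..5584.
-/

set_option autoImplicit false

namespace Cfsg.Agent.SimpleRange30

/-- Certificates from 4937. -/
def certs4937 : List Cert := [
  .prime,
  .least 2,
  .two 11 1 449 1,
  .kill1  [] 13 1,
  .two 3 4 61 1,
  .least 2,
  .prime,
  .kill1  [] 103 1,
  .least 5,
  .two 2 1 2473 1,
  .least 3,
  .two 2 2 1237 1,
  .two 7 2 101 1,
  .least 2,
  .prime,
  .two 2 3 619 1,
  .least 3,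
  .two 2 1 2477 1,
  .two 5 1 991 1,
  .kill1  [] 7 1,
  .prime,
  .least 2,
  .kill1  [] 3 2,
  .given,
  .two 11 2 41 1,
  .least 2,
  .two 7 1 709 1,
  .kill1  [] 17 1,
  .least 3,
  .least 2,
  .prime,
  .kill1  [] 23 1,
  .prime,
  .least 2,
  .two 3 1 1657 1,
  .kill1  [] 11 1,
  .prime,
  .least 2,
  .two 5 2 199 1,
  .two 2 4 311 1,
  .kill1  [] 7 1,
  .least 2,
  .two 13 1 383 1,
  .kill1  [] 83 1,
  .two 17 1 293 1,
  .least 2,
  .least 3,
  .kill1  [] 7 1,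
  .two 5 1 997 1,
  .least 2,
  .prime,
  .kill1  [] 29 1,
  .two 3 1 1663 1,
  .least 2,
  .least 7,
  .kill1  [] 13 1,
  .prime,
  .least 2,
  .kill1  [] 5 1,
  .two 2 2 1249 1,
  .two 19 1 263 1,
  .least 2,
  .prime,
  .two 2 3 5 4,
  .two 3 1 1667 1,
  .least 2,
  .prime,
  .kill1  [] 139 1,
  .least 5,
  .two 2 1 2503 1,
  .two 3 1 1669 1,
  .two 2 4 313 1,
  .prime,
  .least 2,
  .prime,
  .kill1  [] 179 1,
  .two 3 2 557 1,
  .least 2,
  .least 5,
  .kill1  [] 11 1,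
  .two 29 1 173 1,
  .least 2,
  .least 3,
  .kill1  [] 251 1,
  .prime,
  .least 2,
  .prime,
  .two 2 5 157 1,
  .least 3,
  .least 2,
  .two 11 1 457 1,
  .kill1  [] 419 1,
  .two 47 1 107 1,
  .least 2,
  .kill1  [] 13 1,
  .kill1  [] 17 1,
  .two 7 1 719 1,
  .least 2,
  .least 5,
  .two 2 2 1259 1,
  .least 3,
  .least 2,
  .prime,
  .given,
  .two 71 2 71 0,
  .two 2 1 2521 1,
  .two 3 1 41 2,
  .kill1  [] 13 1]

theorem certs4937_check : checkFrom 4937 certs4937 = true := by decide +kernel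

theorem certs4937_length : certs4937.length = 108 := rfl

/-- Certificates from 5045. -/
def certs5045 : List Cert := [
  .two 5 1 1009 1,
  .least 2,
  .two 7 2 103 1,
  .two 2 3 631 1,
  .kill1  [] 3 3,
  .least 2,
  .prime,
  .kill1  [] 421 1,
  .two 31 1 163 1,
  .least 2,
  .least 3,
  .two 2 6 79 1,
  .two 13 1 389 1,
  .least 2,
  .prime,
  .kill1  [] 23 1,
  .least 3,
  .two 2 1 2531 1,
  .two 61 1 83 1,
  .kill1  [] 211 1,
  .two 5 1 1013 1,
  .least 2,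
  .two 3 2 563 1,
  .kill1  [] 7 1,
  .two 37 1 137 1,
  .least 2,
  .two 11 1 461 1,
  .two 2 4 317 1,
  .least 3,
  .least 2,
  .kill1  [] 5 2,
  .kill1  [] 47 1,
  .prime,
  .two 2 1 2539 1,
  .two 3 1 1693 1,
  .kill1  [] 5 1,
  .prime,
  .least 2,
  .least 13,
  .kill1  [] 31 1,
  .kill1  [] 3 2,
  .two 2 1 2543 1,
  .prime,
  .kill1  [] 53 1,
  .two 7 1 727 1,
  .least 2,
  .two 3 1 1697 1,
  .kill1  [] 67 1,
  .two 11 1 463 1,
  .least 2,
  .two 5 1 1019 1,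
  .kill1  [] 7 2,
  .two 3 1 1699 1,
  .two 2 1 2549 1,
  .prime,
  .kill1  [] 17 1,
  .prime,
  .two 2 1 2551 1,
  .two 3 6 7 1,
  .given,
  .two 5 1 1021 1,
  .least 2,
  .prime,
  .two 2 2 1277 1,
  .least 3,
  .least 2,
  .two 19 1 269 1,
  .kill1  [] 71 1,
  .prime,
  .two 2 1 2557 1,
  .least 3,
  .two 2 2 1279 1,
  .least 7,
  .least 2,
  .prime,
  .two 2 10 5 1,
  .two 3 2 569 1,
  .least 2,
  .two 47 1 109 1,
  .kill1  [] 61 1,
  .two 5 3 41 1,
  .least 2,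
  .two 3 1 1709 1,
  .two 2 3 641 1,
  .two 23 1 223 1,
  .least 2,
  .two 7 1 733 1,
  .two 2 2 1283 1,
  .least 3,
  .least 2,
  .least 5,
  .kill1  [] 107 1,
  .two 11 1 467 1,
  .least 2,
  .two 3 2 571 1,
  .kill1  [] 5 1,
  .two 53 1 97 1,
  .least 2,
  .two 37 1 139 1,
  .two 2 3 643 1,
  .least 3,
  .least 2,
  .prime,
  .small  [11, 13] 11,
  .two 19 1 271 1,
  .least 2,
  .least 3,
  .kill1  [] 23 1]

theorem certs5045_check : checkFrom 5045 certs5045 = true := by decide +kernel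

theorem certs5045_length : certs5045.length = 108 := rfl

/-- Certificates from 5153. -/
def certs5153 : List Cert := [
  .prime,
  .least 2,
  .two 5 1 1031 1,
  .two 2 2 1289 1,
  .two 3 3 191 1,
  .two 2 1 2579 1,
  .least 7,
  .kill1  [] 43 1,
  .two 13 1 397 1,
  .least 2,
  .two 3 1 1721 1,
  .two 2 2 1291 1,
  .two 5 1 1033 1,
  .least 2,
  .prime,
  .kill1  [] 17 1,
  .two 3 1 1723 1,
  .least 2,
  .prime,
  .kill1  [] 431 1,
  .two 7 1 739 1,
  .least 2,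
  .kill1  [] 5 2,
  .two 2 3 647 1,
  .two 31 1 167 1,
  .least 2,
  .prime,
  .kill1  [] 5 1,
  .least 3,
  .two 2 1 2591 1,
  .two 71 1 73 1,
  .two 2 6 3 4,
  .least 5,
  .two 2 1 2593 1,
  .least 3,
  .two 2 2 1297 1,
  .prime,
  .least 2,
  .two 29 1 179 1,
  .kill1  [] 11 1,
  .two 3 2 577 1,
  .least 2,
  .two 5 1 1039 1,
  .kill1  [] 433 1,
  .prime,
  .least 2,
  .two 3 1 1733 1,
  .small  [13] 13,
  .two 7 1 743 1,
  .least 2,
  .two 11 2 43 1,
  .two 2 2 1301 1,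
  .least 3,
  .least 2,
  .two 41 1 127 1,
  .kill1  [] 31 1,
  .prime,
  .least 2,
  .two 3 3 193 1,
  .two 2 2 1303 1,
  .two 13 1 401 1,
  .least 2,
  .least 5,
  .two 2 5 163 1,
  .least 3,
  .two 2 1 2609 1,
  .two 17 1 307 1,
  .kill1  [5, 29] 29 1,
  .two 23 1 227 1,
  .least 2,
  .two 3 1 1741 1,
  .two 2 3 653 1,
  .kill1  [] 5 2,
  .least 2,
  .prime,
  .two 2 2 1307 1,
  .kill1  [] 3 2,
  .least 2,
  .prime,
  .kill1  [] 109 1,
  .prime,
  .two 2 1 2617 1,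
  .least 3,
  .killTwo  [7, 11, 17],
  .prime,
  .least 2,
  .two 13 2 31 1,
  .kill1  [] 131 1,
  .two 3 1 1747 1,
  .two 2 1 2621 1,
  .two 7 2 107 1,
  .kill1  [] 19 1,
  .two 5 1 1049 1,
  .least 2,
  .kill1  [] 3 2,
  .two 2 7 41 1,
  .two 29 1 181 1,
  .least 2,
  .two 59 1 89 1,
  .kill1  [] 13 1,
  .least 3,
  .least 2,
  .two 5 1 1051 1,
  .kill1  [] 73 1,
  .two 7 1 751 1,
  .least 2,
  .two 3 1 1753 1,
  .kill1  [] 263 1]

theorem certs5153_check : checkFrom 5153 certs5153 = true := by decide +kernel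

theorem certs5153_length : certs5153.length = 108 := rfl

/-- Certificates from 5261. -/
def certs5261 : List Cert := [
  .prime,
  .least 2,
  .two 19 1 277 1,
  .kill1  [] 7 1,
  .kill1  [] 3 4,
  .two 2 1 2633 1,
  .two 23 1 229 1,
  .kill1  [] 439 1,
  .two 11 1 479 1,
  .least 2,
  .least 3,
  .two 2 3 659 1,
  .prime,
  .least 2,
  .two 5 2 211 1,
  .two 2 2 1319 1,
  .two 3 1 1759 1,
  .least 2,
  .prime,
  .kill1  [3, 5, 11] 11 1,
  .prime,
  .least 2,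
  .two 3 2 587 1,
  .two 2 2 1321 1,
  .least 5,
  .least 2,
  .two 17 1 311 1,
  .two 2 3 661 1,
  .least 3,
  .least 2,
  .least 11,
  .kill1  [] 7 2,
  .two 67 1 79 1,
  .two 2 1 2647 1,
  .least 3,
  .two 2 4 331 1,
  .prime,
  .least 2,
  .two 7 1 757 1,
  .kill1  [] 5 2,
  .kill1  [] 19 1,
  .least 2,
  .prime,
  .kill1  [] 13 1,
  .two 5 1 1061 1,
  .least 2,
  .least 3,
  .two 2 2 1327 1,
  .prime,
  .least 2,
  .two 47 1 113 1,
  .two 2 6 83 1,
  .least 3,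
  .two 2 1 2657 1,
  .two 5 1 1063 1,
  .kill1  [] 443 1,
  .two 13 1 409 1,
  .two 2 1 2659 1,
  .two 3 3 197 1,
  .kill1  [5, 7, 19] 19 1,
  .two 17 1 313 1,
  .least 2,
  .prime,
  .two 2 2 11 3,
  .least 3,
  .two 2 1 2663 1,
  .two 7 1 761 1,
  .kill1  [] 37 1,
  .two 73 2 73 0,
  .least 2,
  .two 3 1 1777 1,
  .kill1  [] 31 1,
  .prime,
  .least 2,
  .least 5,
  .kill1  [] 29 1,
  .two 3 2 593 1,
  .least 2,
  .two 19 1 281 1,
  .kill1  [] 5 1,
  .two 7 2 109 1,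
  .two 2 1 2671 1,
  .least 3,
  .two 2 5 167 1,
  .two 5 1 1069 1,
  .least 2,
  .prime,
  .kill1  [] 7 1,
  .two 3 1 1783 1,
  .least 2,
  .prime,
  .kill1  [] 223 1,
  .two 53 1 101 1,
  .two 2 1 2677 1,
  .kill1  [] 5 1,
  .kill1  [] 13 1,
  .two 11 1 487 1,
  .least 2,
  .two 23 1 233 1,
  .kill1  [] 67 1,
  .two 3 1 1787 1,
  .least 2,
  .two 31 1 173 1,
  .kill1  [] 149 1,
  .least 5,
  .two 2 1 2683 1,
  .two 3 1 1789 1,
  .kill1  [] 61 1]

theorem certs5261_check : checkFrom 5261 certs5261 = true := by decide +kernel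

theorem certs5261_length : certs5261.length = 108 := rfl

/-- Certificates from 5369. -/
def certs5369 : List Cert := [
  .least 7,
  .least 2,
  .two 41 1 131 1,
  .kill1  [] 17 1,
  .two 3 3 199 1,
  .two 2 1 2687 1,
  .two 5 3 43 1,
  .small  [3, 7] 7,
  .two 19 1 283 1,
  .two 2 1 2689 1,
  .least 3,
  .kill1  [] 5 1,
  .prime,
  .least 2,
  .two 7 1 769 1,
  .two 2 3 673 1,
  .least 3,
  .two 2 1 2693 1,
  .prime,
  .kill1  [] 449 1,
  .two 17 1 317 1,
  .least 2,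
  .two 3 2 599 1,
  .two 2 4 337 1,
  .prime,
  .least 2,
  .least 5,
  .kill1  [] 19 1,
  .least 3,
  .two 2 1 2699 1,
  .prime,
  .given,
  .two 11 1 491 1,
  .least 2,
  .two 3 1 1801 1,
  .kill1  [] 193 1,
  .least 5,
  .least 2,
  .prime,
  .two 2 5 13 2,
  .two 3 2 601 1,
  .least 2,
  .two 7 1 773 1,
  .kill1  [] 11 1,
  .prime,
  .two 2 1 2707 1,
  .least 3,
  .two 2 3 677 1,
  .prime,
  .least 2,
  .prime,
  .kill1  [] 271 1,
  .least 3,
  .two 2 1 2711 1,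
  .least 11,
  .kill1  [] 113 1,
  .kill1  [] 5 2,
  .two 2 1 2713 1,
  .two 3 4 67 1,
  .kill1  [] 23 1,
  .two 61 1 89 1,
  .least 2,
  .prime,
  .kill1  [] 7 1,
  .two 3 1 1811 1,
  .least 2,
  .two 5 1 1087 1,
  .kill1  [] 151 1,
  .prime,
  .two 2 1 2719 1,
  .least 3,
  .kill1  [] 17 1,
  .prime,
  .least 2,
  .prime,
  .two 2 2 1361 1,
  .kill1  [] 5 1,
  .least 2,
  .two 13 1 419 1,
  .kill1  [] 227 1,
  .prime,
  .least 2,
  .least 3,
  .kill1  [] 29 1,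
  .least 7,
  .least 2,
  .two 5 1 1091 1,
  .kill1  [] 11 1,
  .least 3,
  .two 2 1 2729 1,
  .two 53 1 103 1,
  .given,
  .two 43 1 127 1,
  .two 2 1 2731 1,
  .two 3 2 607 1,
  .two 2 3 683 1,
  .two 5 1 1093 1,
  .least 2,
  .least 7,
  .two 2 2 1367 1,
  .two 3 1 1823 1,
  .least 2,
  .prime,
  .given,
  .two 13 1 421 1,
  .least 2,
  .least 3,
  .two 2 2 37 2]

theorem certs5369_check : checkFrom 5369 certs5369 = true := by decide +kernel

theorem certs5369_length : certs5369.length = 108 := rfl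

/-- Certificates from 5477. -/
def certs5477 : List Cert := [
  .prime,
  .least 2,
  .prime,
  .kill1  [] 5 1,
  .kill1  [] 3 3,
  .two 2 1 2741 1,
  .prime,
  .kill1  [] 457 1,
  .two 5 1 1097 1,
  .least 2,
  .least 3,
  .two 2 4 7 3,
  .two 11 1 499 1,
  .least 2,
  .two 17 2 19 1,
  .two 2 2 1373 1,
  .two 3 1 1831 1,
  .least 2,
  .least 5,
  .kill1  [] 229 1,
  .two 23 1 239 1,
  .two 2 1 2749 1,
  .kill1  [] 3 2,
  .kill1  [] 5 3,
  .prime,
  .least 2,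
  .prime,
  .two 2 7 43 1,
  .least 3,
  .two 2 1 2753 1,
  .prime,
  .kill1  [17] 3 4,
  .two 7 1 787 1,
  .least 2,
  .least 3,
  .kill1  [] 53 1,
  .two 37 1 149 1,
  .least 2,
  .two 5 1 1103 1,
  .kill1  [] 197 1,
  .two 3 2 613 1,
  .least 2,
  .prime,
  .kill1  [3, 5, 23] 23 1,
  .prime,
  .least 2,
  .least 3,
  .two 2 2 1381 1,
  .kill1  [] 5 2,
  .least 2,
  .prime,
  .two 2 3 691 1,
  .least 3,
  .least 2,
  .prime,
  .kill1  [] 461 1,
  .two 11 1 503 1,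
  .two 2 1 2767 1,
  .kill1  [] 3 3,
  .two 2 5 173 1,
  .two 7 2 113 1,
  .least 2,
  .two 29 1 191 1,
  .kill1  [] 5 1,
  .two 3 1 1847 1,
  .least 2,
  .two 23 1 241 1,
  .kill1  [7, 11] 11 1,
  .two 5 1 1109 1,
  .least 2,
  .two 3 1 43 2,
  .kill1  [] 19 1,
  .two 31 1 179 1,
  .least 2,
  .least 7,
  .two 2 4 347 1,
  .two 3 2 617 1,
  .two 2 1 2777 1,
  .least 5,
  .kill1  [] 463 1,
  .prime,
  .least 2,
  .least 3,
  .kill1  [] 139 1,
  .two 67 1 83 1,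
  .least 2,
  .prime,
  .kill1  [] 13 1,
  .least 3,
  .least 2,
  .two 19 1 293 1,
  .kill1  [] 29 1,
  .prime,
  .least 2,
  .two 3 2 619 1,
  .kill1  [] 7 1,
  .prime,
  .least 2,
  .two 5 2 223 1,
  .kill1  [] 17 1,
  .least 3,
  .two 2 1 2789 1,
  .two 7 1 797 1,
  .kill1  [] 31 1,
  .prime,
  .two 2 1 2791 1,
  .two 3 1 1861 1,
  .two 2 4 349 1]

theorem certs5477_check : checkFrom 5477 certs5477 = true := by decide +kernel

theorem certs5477_length : certs5477.length = 108 := rfl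

variable {G : Type*} [Group G] [Finite G] [IsSimpleGroup G]

theorem mem_exceptions2 (hG : ¬ IsMulCommutative G) (h1 : 4937 ≤ Nat.card G)
    (h2 : Nat.card G < 5585) : Nat.card G ∈ exceptions := by
  rcases lt_or_ge (Nat.card G) 5045 with h | h
  · exact mem_exceptions hG _ 4937 certs4937_check (by omega) (by rw [certs4937_length]; omega)
  rcases lt_or_ge (Nat.card G) 5153 with h | h
  · exact mem_exceptions hG _ 5045 certs5045_check (by omega) (by rw [certs5045_length]; omega)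
  rcases lt_or_ge (Nat.card G) 5261 with h | h
  · exact mem_exceptions hG _ 5153 certs5153_check (by omega) (by rw [certs5153_length]; omega)
  rcases lt_or_ge (Nat.card G) 5369 with h | h
  · exact mem_exceptions hG _ 5261 certs5261_check (by omega) (by rw [certs5261_length]; omega)
  rcases lt_or_ge (Nat.card G) 5477 with h | h
  · exact mem_exceptions hG _ 5369 certs5369_check (by omega) (by rw [certs5369_length]; omega)
  exact mem_exceptions hG _ 5477 certs5477_check (by omega) (by rw [certs5477_length]; omega)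

end Cfsg.Agent.SimpleRange30
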