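import Cfsg.Agent.Lib.SimpleRange30

/-!
Certificates for the orders 5585..6232.
-/

set_option autoImplicit false

namespace Cfsg.Agent.SimpleRange30

/-- Certificates from 5585. -/
def certs5585 : List Cert := [
  .two 5 1 1117 1,
  .least 2,
  .two 37 1 151 1,
  .kill1  [] 127 1,
  .two 3 5 23 1,
  .least 2,
  .prime,
  .kill1  [] 233 1,
  .least 7,
  .two 2 1 2797 1,
  .least 3,
  .two 2 2 1399 1,
  .two 29 1 193 1,
  .least 2,
  .two 11 1 509 1,
  .given,
  .two 3 1 1867 1,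
  .two 2 1 2801 1,
  .two 13 1 431 1,
  .kill1  [] 467 1,
  .least 5,
  .two 2 1 2803 1,
  .kill1  [] 3 2,
  .two 2 3 701 1,
  .two 71 1 79 1,
  .least 2,
  .two 31 1 181 1,
  .kill1  [] 23 1,
  .two 3 1 1871 1,
  .least 2,
  .two 5 1 1123 1,
  .given,
  .two 41 1 137 1,
  .two 2 1 53 2,
  .two 3 1 1873 1,
  .kill1  [] 281 1,
  .least 7,
  .least 2,
  .prime,
  .kill1  [] 19 1,
  .two 3 2 5 4,
  .least 2,
  .two 17 1 331 1,
  .kill1  [] 67 1,
  .two 13 1 433 1,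
  .least 2,
  .two 3 1 1877 1,
  .two 2 9 11 1,
  .two 43 1 131 1,
  .least 2,
  .least 5,
  .two 2 2 1409 1,
  .two 3 1 1879 1,
  .two 2 1 2819 1,
  .prime,
  .kill1  [] 47 1,
  .prime,
  .least 2,
  .kill1  [] 11 1,
  .kill1  [] 17 1,
  .two 5 1 1129 1,
  .least 2,
  .prime,
  .two 2 4 353 1,
  .least 3,
  .least 2,
  .prime,
  .kill1  [] 157 1,
  .prime,
  .least 2,
  .least 3,
  .kill1  [] 7 1,
  .prime,
  .least 2,
  .prime,
  .kill1  [] 283 1,
  .kill1  [] 17 1,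
  .least 2,
  .two 7 1 809 1,
  .kill1  [] 59 1,
  .least 5,
  .two 2 1 2833 1,
  .two 3 1 1889 1,
  .kill1  [] 13 1,
  .prime,
  .least 2,
  .two 53 1 107 1,
  .two 2 3 709 1,
  .least 3,
  .two 2 1 2837 1,
  .two 5 2 227 1,
  .kill1  [] 11 1,
  .two 7 1 811 1,
  .least 2,
  .two 3 2 631 1,
  .kill1  [] 71 1,
  .least 13,
  .least 2,
  .prime,
  .kill1  [] 7 2,
  .least 3,
  .two 2 1 2843 1,
  .two 11 2 47 1,
  .kill1  [] 79 1,
  .prime,
  .least 2,
  .least 3,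
  .two 2 2 1423 1]

theorem certs5585_check : checkFrom 5585 certs5585 = true := by decide +kernel

theorem certs5585_length : certs5585.length = 108 := rfl

/-- Certificates from 5693. -/
def certs5693 : List Cert := [
  .prime,
  .least 2,
  .least 5,
  .two 2 6 89 1,
  .two 3 3 211 1,
  .least 2,
  .two 41 1 139 1,
  .kill1  [3, 19] 19 1,
  .prime,
  .two 2 1 2851 1,
  .two 3 1 1901 1,
  .kill1  [] 23 1,
  .least 5,
  .least 2,
  .two 13 1 439 1,
  .two 2 2 1427 1,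
  .least 3,
  .least 2,
  .prime,
  .kill1  [] 17 1,
  .two 29 1 197 1,
  .two 2 1 2857 1,
  .kill1  [] 5 1,
  .two 2 2 1429 1,
  .prime,
  .least 2,
  .least 7,
  .kill1  [] 11 1,
  .two 3 1 1907 1,
  .two 2 1 2861 1,
  .two 59 1 97 1,
  .given,
  .two 5 2 229 1,
  .least 2,
  .least 3,
  .two 2 5 179 1,
  .two 17 1 337 1,
  .least 2,
  .two 11 1 521 1,
  .two 2 2 1433 1,
  .kill1  [] 7 2,
  .least 2,
  .least 5,
  .kill1  [] 239 1,
  .prime,
  .least 2,
  .two 3 1 1913 1,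
  .kill1  [] 7 1,
  .prime,
  .least 2,
  .prime,
  .two 2 4 359 1,
  .least 3,
  .least 2,
  .two 7 1 821 1,
  .kill1  [] 479 1,
  .prime,
  .least 2,
  .two 3 4 71 1,
  .two 2 3 719 1,
  .two 11 1 523 1,
  .least 2,
  .two 5 1 1151 1,
  .two 2 2 1439 1,
  .least 3,
  .two 2 1 2879 1,
  .two 13 1 443 1,
  .given,
  .two 7 1 823 1,
  .least 2,
  .least 3,
  .kill1  [] 11 1,
  .two 5 1 1153 1,
  .least 2,
  .two 73 1 79 1,
  .kill1  [] 7 1,
  .two 3 2 641 1,
  .least 2,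
  .two 29 1 199 1,
  .kill1  [] 37 1,
  .two 23 1 251 1,
  .two 2 1 2887 1,
  .least 3,
  .two 2 4 19 2,
  .two 53 1 109 1,
  .least 2,
  .prime,
  .kill1  [] 5 1,
  .least 3,
  .least 2,
  .prime,
  .kill1  [] 241 1,
  .least 5,
  .least 2,
  .two 3 2 643 1,
  .two 2 2 1447 1,
  .two 7 1 827 1,
  .least 2,
  .prime,
  .two 2 5 181 1,
  .two 3 1 1931 1,
  .two 2 1 2897 1,
  .least 5,
  .kill1  [] 23 1,
  .least 11,
  .least 2,
  .two 3 1 1933 1,
  .kill1  [] 5 2]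

theorem certs5693_check : checkFrom 5693 certs5693 = true := by decide +kernel

theorem certs5693_length : certs5693.length = 108 := rfl

/-- Certificates from 5801. -/
def certs5801 : List Cert := [
  .prime,
  .least 2,
  .two 7 1 829 1,
  .two 2 2 1451 1,
  .kill1  [] 3 3,
  .two 2 1 2903 1,
  .prime,
  .kill1  [] 11 2,
  .two 37 1 157 1,
  .least 2,
  .least 3,
  .two 2 2 1453 1,
  .prime,
  .least 2,
  .two 5 1 1163 1,
  .two 2 3 727 1,
  .least 3,
  .two 2 1 2909 1,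
  .two 11 1 23 2,
  .kill1  [] 97 1,
  .prime,
  .least 2,
  .two 3 2 647 1,
  .kill1  [] 7 1,
  .two 5 2 233 1,
  .least 2,
  .prime,
  .kill1  [] 47 1,
  .least 3,
  .least 2,
  .two 7 3 17 1,
  .two 2 3 3 6,
  .two 19 1 307 1,
  .two 2 1 2917 1,
  .least 3,
  .two 2 2 1459 1,
  .two 13 1 449 1,
  .least 2,
  .prime,
  .kill1  [] 73 1,
  .kill1  [] 11 1,
  .least 2,
  .prime,
  .kill1  [] 487 1,
  .least 5,
  .least 2,
  .two 3 1 1949 1,
  .kill1  [] 43 1,
  .prime,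
  .least 2,
  .prime,
  .kill1  [7, 11, 19] 7 1,
  .two 3 1 1951 1,
  .two 2 1 2927 1,
  .two 5 1 1171 1,
  .kill1  [] 61 1,
  .prime,
  .least 2,
  .kill1  [] 7 1,
  .kill1  [] 293 1,
  .prime,
  .least 2,
  .least 11,
  .two 2 3 733 1,
  .least 3,
  .least 2,
  .prime,
  .kill1  [] 163 1,
  .prime,
  .least 2,
  .least 3,
  .two 2 4 367 1,
  .two 7 1 839 1,
  .least 2,
  .two 5 3 47 1,
  .kill1  [] 13 1,
  .two 3 2 653 1,
  .two 2 1 2939 1,
  .prime,
  .small  [3, 5] 5,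
  .prime,
  .least 2,
  .least 3,
  .two 2 2 1471 1,
  .least 5,
  .least 2,
  .two 7 1 29 2,
  .two 2 8 23 1,
  .least 3,
  .least 2,
  .two 43 1 137 1,
  .kill1  [] 491 1,
  .two 71 1 83 1,
  .least 2,
  .kill1  [] 3 2,
  .kill1  [] 67 1,
  .prime,
  .least 2,
  .two 17 1 347 1,
  .kill1  [] 5 2,
  .least 3,
  .least 2,
  .prime,
  .kill1  [] 41 1,
  .two 5 1 1181 1,
  .two 2 1 2953 1,
  .least 3,
  .kill1  [] 211 1]

theorem certs5801_check : checkFrom 5801 certs5801 = true := by decide +kernel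

theorem certs5801_length : certs5801.length = 108 := rfl

/-- Certificates from 5909. -/
def certs5909 : List Cert := [
  .two 19 1 311 1,
  .least 2,
  .two 23 1 257 1,
  .two 2 3 739 1,
  .two 3 4 73 1,
  .two 2 1 2957 1,
  .least 5,
  .kill1  [] 17 1,
  .two 61 1 97 1,
  .least 2,
  .two 3 1 1973 1,
  .kill1  [] 37 1,
  .two 31 1 191 1,
  .least 2,
  .prime,
  .two 2 2 1481 1,
  .least 3,
  .two 2 1 2963 1,
  .prime,
  .kill1  [] 13 1,
  .two 7 2 11 2,
  .least 2,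
  .two 3 2 659 1,
  .two 2 2 1483 1,
  .two 17 1 349 1,
  .least 2,
  .two 5 1 1187 1,
  .kill1  [] 53 1,
  .two 3 1 1979 1,
  .two 2 1 2969 1,
  .prime,
  .small  [5, 11] 11,
  .two 13 1 457 1,
  .two 2 1 2971 1,
  .least 3,
  .two 2 3 743 1,
  .least 5,
  .least 2,
  .two 19 1 313 1,
  .two 2 2 1487 1,
  .two 3 2 661 1,
  .least 2,
  .two 11 1 541 1,
  .kill1  [3, 31] 31 1,
  .prime,
  .least 2,
  .least 3,
  .two 2 2 1489 1,
  .least 7,
  .least 2,
  .two 59 1 101 1,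
  .kill1  [] 149 1,
  .two 3 1 1987 1,
  .least 2,
  .two 67 1 89 1,
  .kill1  [] 71 1,
  .two 5 1 1193 1,
  .least 2,
  .kill1  [] 3 3,
  .two 2 4 373 1,
  .two 47 1 127 1,
  .least 2,
  .two 7 1 853 1,
  .two 2 2 1493 1,
  .least 3,
  .least 2,
  .two 5 2 239 1,
  .kill1  [] 83 1,
  .two 43 1 139 1,
  .least 2,
  .two 3 1 1993 1,
  .kill1  [] 13 1,
  .prime,
  .least 2,
  .two 31 1 193 1,
  .kill1  [] 17 1,
  .kill1  [] 5 1,
  .least 2,
  .prime,
  .kill1  [] 499 1,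
  .two 53 1 113 1,
  .least 2,
  .two 3 1 1997 1,
  .kill1  [] 107 1,
  .two 13 1 461 1,
  .least 2,
  .least 5,
  .two 2 2 1499 1,
  .two 3 1 1999 1,
  .two 2 1 2999 1,
  .two 7 1 857 1,
  .kill1  [] 5 3,
  .two 17 1 353 1,
  .two 2 1 3001 1,
  .kill1  [] 23 1,
  .kill1  [] 19 1,
  .two 5 1 1201 1,
  .least 2,
  .prime,
  .two 2 3 751 1,
  .two 3 1 2003 1,
  .least 2,
  .prime,
  .kill1  [] 167 1,
  .two 7 1 859 1,
  .least 2,
  .least 3,
  .two 2 7 47 1]

theorem certs5909_check : checkFrom 5909 certs5909 = true := by decide +kernel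

theorem certs5909_length : certs5909.length = 108 := rfl

/-- Certificates from 6017. -/
def certs6017 : List Cert := [
  .two 11 1 547 1,
  .least 2,
  .two 13 1 463 1,
  .kill1  [] 43 1,
  .two 3 3 223 1,
  .two 2 1 3011 1,
  .two 19 1 317 1,
  .kill1  [] 251 1,
  .two 5 2 241 1,
  .least 2,
  .least 3,
  .kill1  [] 11 1,
  .prime,
  .least 2,
  .two 37 1 163 1,
  .kill1  [] 13 1,
  .two 3 1 2011 1,
  .least 2,
  .least 5,
  .kill1  [] 503 1,
  .prime,
  .two 2 1 3019 1,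
  .kill1  [] 3 2,
  .kill1  [] 151 1,
  .two 7 1 863 1,
  .least 2,
  .prime,
  .two 2 2 1511 1,
  .least 3,
  .two 2 1 3023 1,
  .prime,
  .given,
  .two 23 1 263 1,
  .least 2,
  .two 3 1 2017 1,
  .kill1  [] 17 1,
  .prime,
  .least 2,
  .least 5,
  .two 2 3 757 1,
  .two 3 2 673 1,
  .least 2,
  .two 73 1 83 1,
  .kill1  [] 101 1,
  .least 11,
  .least 2,
  .least 3,
  .two 2 4 379 1,
  .two 5 1 1213 1,
  .least 2,
  .prime,
  .kill1  [] 37 1,
  .least 3,
  .least 2,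
  .two 13 1 467 1,
  .given,
  .prime,
  .two 2 1 3037 1,
  .two 3 5 5 2,
  .kill1  [] 7 2,
  .two 59 1 103 1,
  .least 2,
  .prime,
  .kill1  [5, 19] 2 6,
  .two 3 1 2027 1,
  .two 2 1 3041 1,
  .least 7,
  .kill1  [] 13 2,
  .two 5 1 1217 1,
  .least 2,
  .two 3 1 2029 1,
  .two 2 3 761 1,
  .prime,
  .least 2,
  .prime,
  .two 2 2 1523 1,
  .two 3 2 677 1,
  .least 2,
  .least 5,
  .kill1  [] 127 1,
  .least 7,
  .two 2 1 3049 1,
  .least 3,
  .kill1  [] 5 2,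
  .prime,
  .least 2,
  .two 17 1 359 1,
  .kill1  [] 109 1,
  .least 3,
  .least 2,
  .two 31 1 197 1,
  .kill1  [] 509 1,
  .two 41 1 149 1,
  .least 2,
  .kill1  [] 7 1,
  .two 2 5 191 1,
  .prime,
  .least 2,
  .two 5 1 1223 1,
  .kill1  [] 11 1,
  .two 3 1 2039 1,
  .least 2,
  .two 29 1 211 1,
  .kill1  [5, 17] 17 1,
  .prime,
  .two 2 1 3061 1,
  .least 3,
  .two 2 2 1531 1]

theorem certs6017_check : checkFrom 6017 certs6017 = true := by decide +kernel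

theorem certs6017_length : certs6017.length = 108 := rfl

/-- Certificates from 6125. -/
def certs6125 : List Cert := [
  .two 5 3 7 2,
  .least 2,
  .two 11 1 557 1,
  .two 2 4 383 1,
  .two 3 3 227 1,
  .least 2,
  .prime,
  .kill1  [] 7 1,
  .prime,
  .two 2 1 3067 1,
  .least 3,
  .kill1  [] 59 1,
  .two 17 1 19 2,
  .least 2,
  .two 7 1 877 1,
  .kill1  [] 5 1,
  .least 3,
  .least 2,
  .prime,
  .two 2 11 3 1,
  .two 5 1 1229 1,
  .least 2,
  .two 3 2 683 1,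
  .kill1  [] 29 1,
  .least 11,
  .least 2,
  .prime,
  .two 2 3 769 1,
  .least 3,
  .least 2,
  .two 5 1 1231 1,
  .kill1  [] 19 1,
  .two 47 1 131 1,
  .two 2 1 3079 1,
  .two 3 1 2053 1,
  .killTwo  [5, 7, 11],
  .two 61 1 101 1,
  .least 2,
  .prime,
  .kill1  [] 23 1,
  .kill1  [] 5 1,
  .two 2 1 3083 1,
  .two 7 1 881 1,
  .kill1  [] 257 1,
  .two 31 1 199 1,
  .least 2,
  .least 3,
  .two 2 2 1543 1,
  .prime,
  .least 2,
  .kill1  [] 5 2,
  .two 2 5 193 1,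
  .least 3,
  .two 2 1 3089 1,
  .two 37 1 167 1,
  .kill1  [] 103 1,
  .two 7 1 883 1,
  .least 2,
  .two 3 3 229 1,
  .two 2 3 773 1,
  .two 5 1 1237 1,
  .least 2,
  .two 23 1 269 1,
  .kill1  [] 13 1,
  .two 3 1 2063 1,
  .least 2,
  .two 41 1 151 1,
  .kill1  [] 43 1,
  .two 11 1 563 1,
  .least 2,
  .least 3,
  .two 2 2 1549 1,
  .prime,
  .least 2,
  .prime,
  .kill1  [] 5 2,
  .kill1  [] 3 2,
  .least 2,
  .prime,
  .kill1  [] 11 1,
  .least 5,
  .least 2,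
  .two 3 1 2069 1,
  .two 2 6 97 1,
  .two 7 1 887 1,
  .least 2,
  .prime,
  .two 2 2 1553 1,
  .least 3,
  .least 2,
  .least 5,
  .kill1  [] 37 1,
  .prime,
  .two 2 1 3109 1,
  .two 3 2 691 1,
  .kill1  [] 311 1,
  .prime,
  .least 2,
  .two 7 2 127 1,
  .two 2 4 389 1,
  .least 3,
  .least 2,
  .two 13 1 479 1,
  .kill1  [] 173 1,
  .prime,
  .least 2,
  .least 3,
  .kill1  [] 19 1]

theorem certs6125_check : checkFrom 6125 certs6125 = true := by decide +kernel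

theorem certs6125_length : certs6125.length = 108 := rfl

variable {G : Type*} [Group G] [Finite G] [IsSimpleGroup G]

theorem mem_exceptions3 (hG : ¬ IsMulCommutative G) (h1 : 5585 ≤ Nat.card G)
    (h2 : Nat.card G < 6233) : Nat.card G ∈ exceptions := by
  rcases lt_or_ge (Nat.card G) 5693 with h | h
  · exact mem_exceptions hG _ 5585 certs5585_check (by omega) (by rw [certs5585_length]; omega)
  rcases lt_or_ge (Nat.card G) 5801 with h | h
  · exact mem_exceptions hG _ 5693 certs5693_check (by omega) (by rw [certs5693_length]; omega)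
  rcases lt_or_ge (Nat.card G) 5909 with h | h
  · exact mem_exceptions hG _ 5801 certs5801_check (by omega) (by rw [certs5801_length]; omega)
  rcases lt_or_ge (Nat.card G) 6017 with h | h
  · exact mem_exceptions hG _ 5909 certs5909_check (by omega) (by rw [certs5909_length]; omega)
  rcases lt_or_ge (Nat.card G) 6125 with h | h
  · exact mem_exceptions hG _ 6017 certs6017_check (by omega) (by rw [certs6017_length]; omega)
  exact mem_exceptions hG _ 6125 certs6125_check (by omega) (by rw [certs6125_length]; omega)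

end Cfsg.Agent.SimpleRange30
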