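import Mathlib
import Cfsg.Agent.Lib.SimpleOrderCheck

/-!
A fusion trick for excluding orders: if a 2-subgroup `U` of `N(P)` is not a Sylow 2-subgroup
and most of it centralises `P`, then some nontrivial subgroup of `U` centralising `P` is
normalised by `P`, by `U` and by a larger 2-subgroup.
-/

set_option autoImplicit false

namespace Cfsg.Agent.OrderExclusion71

variable {G : Type*} [Group G] [Finite G]

/-- Sylow count inside a subgroup containing the Sylow subgroup. -/
theorem relIndex_normalizer_modEq {p : ℕ} [Fact p.Prime] (P : Sylow p G) {K : Subgroup G}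
    (hK : (P : Subgroup G) ≤ K) :
    (Subgroup.normalizer ((P : Subgroup G) : Set G)).relIndex K % p = 1 := by
  have h := card_sylow_modEq_one p K
  rw [Sylow.card_eq_index_normalizer (P.subtype hK)] at h
  have h2 : Subgroup.normalizer (((P.subtype hK : Sylow p K) : Subgroup K) : Set K) =
      (Subgroup.normalizer ((P : Subgroup G) : Set G)).subgroupOf K := by
    rw [Sylow.coe_subtype, Subgroup.subgroupOf_normalizer_eq hK]
  change (Subgroup.normalizer (((P.subtype hK : Sylow p K) : Subgroup K) : Set K)).index % p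
    = 1 % p at h
  rw [h2] at h
  have h3 : 1 % p = 1 := Nat.mod_eq_of_lt (Fact.out : p.Prime).one_lt
  unfold Subgroup.relIndex
  rw [h, h3]

/-- A subgroup containing a Sylow subgroup and as many conjugates as the group is everything. -/
theorem eq_top_of_relIndex_eq [IsSimpleGroup G] {p : ℕ} [Fact p.Prime] (P : Sylow p G)
    (hP : (P : Subgroup G) ≠ ⊥) {K : Subgroup G} (hK : (P : Subgroup G) ≤ K)
    (h : (Subgroup.normalizer ((P : Subgroup G) : Set G)).relIndex K =
      (Subgroup.normalizer ((P : Subgroup G) : Set G)).index) : K = ⊤ := by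
  set N := Subgroup.normalizer ((P : Subgroup G) : Set G) with hN
  have hb : Function.Bijective (Subgroup.quotientSubgroupOfEmbeddingOfLE N (le_top : K ≤ ⊤)) := by
    refine ⟨(Subgroup.quotientSubgroupOfEmbeddingOfLE N _).injective, ?_⟩
    refine ((Nat.bijective_iff_injective_and_card _).2
      ⟨(Subgroup.quotientSubgroupOfEmbeddingOfLE N _).injective, ?_⟩).surjective
    have e1 : Nat.card (K ⧸ N.subgroupOf K) = N.relIndex K := rfl
    have e2 : Nat.card ((⊤ : Subgroup G) ⧸ N.subgroupOf ⊤) = N.relIndex ⊤ := rfl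
    rw [e1, e2, h, Subgroup.relIndex_top_right]
  have hn : Subgroup.normalClosure ((P : Subgroup G) : Set G) ≤ K := by
    unfold Subgroup.normalClosure
    rw [Subgroup.closure_le]
    intro y hy
    obtain ⟨a, ha, hay⟩ := Group.mem_conjugatesOfSet_iff.1 hy
    obtain ⟨c, hc⟩ := isConj_iff.1 hay
    obtain ⟨q, hq⟩ := hb.2 (QuotientGroup.mk ⟨c, Subgroup.mem_top c⟩)
    obtain ⟨k, rfl⟩ := QuotientGroup.mk_surjective q
    rw [Subgroup.quotientSubgroupOfEmbeddingOfLE_apply_mk, QuotientGroup.eq] at hq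
    rw [Subgroup.mem_subgroupOf] at hq
    have hkc : (k : G)⁻¹ * c ∈ N := hq
    have hm : ((k : G)⁻¹ * c) * a * ((k : G)⁻¹ * c)⁻¹ ∈ (P : Subgroup G) :=
      (Subgroup.mem_normalizer_iff.1 hkc a).1 ha
    rw [← hc]
    have hk := k.2
    have e : c * a * c⁻¹ = (k : G) * (((k : G)⁻¹ * c) * a * ((k : G)⁻¹ * c)⁻¹) * (k : G)⁻¹ := by
      group
    rw [SetLike.mem_coe, e]
    exact K.mul_mem (K.mul_mem hk (hK hm)) (K.inv_mem hk)
  rcases IsSimpleGroup.eq_bot_or_eq_top_of_normal
    (Subgroup.normalClosure ((P : Subgroup G) : Set G)) inferInstance with h1 | h1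
  · exact absurd (eq_bot_iff.2 (fun x hx => h1 ▸ Subgroup.subset_normalClosure hx)) hP
  · exact eq_top_iff.2 (h1 ▸ hn)

theorem le_normalizer_of_centralizes {P H : Subgroup G}
    (hH : H ≤ Subgroup.centralizer (P : Set G)) : P ≤ Subgroup.normalizer (H : Set G) := by
  intro a ha
  refine Subgroup.mem_normalizer_iff.2 fun y => ⟨fun hy => ?_, fun hy => ?_⟩
  · have := Subgroup.mem_centralizer_iff.1 (hH hy) a ha
    simpa [this] using hy
  · have h1 := Subgroup.mem_centralizer_iff.1 (hH hy) a ha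
    have h2 : a * y * a⁻¹ = y := by
      calc a * y * a⁻¹ = a⁻¹ * (a * (a * y * a⁻¹)) := by group
        _ = a⁻¹ * ((a * y * a⁻¹) * a) := by rw [h1]
        _ = y := by group
    rwa [h2] at hy

/-- The two-part trick. -/
theorem exists_big_normalizer (P U : Subgroup G) {a k : ℕ}
    (hUN : U ≤ Subgroup.normalizer (P : Set G)) (hUc : Nat.card U = 2 ^ a)
    (hdvd : 2 ^ (a + 1) ∣ Nat.card G) (hk0 : 0 < k)
    (hk : (Subgroup.centralizer (P : Set G)).relIndex U ∣ k) (hsq : k * k < 2 ^ a) :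
    ∃ H : Subgroup G, H ≠ ⊥ ∧ H ≤ U ⊓ Subgroup.centralizer (P : Set G) ∧
      U ≤ Subgroup.normalizer (H : Set G) ∧ P ≤ Subgroup.normalizer (H : Set G) ∧
      2 ^ (a + 1) ∣ Nat.card (Subgroup.normalizer (H : Set G)) := by
  haveI : Fact (Nat.Prime 2) := ⟨Nat.prime_two⟩
  set C := Subgroup.centralizer (P : Set G) with hC
  obtain ⟨V, hVc, hUV⟩ := Sylow.exists_subgroup_card_pow_succ (p := 2) (n := a)
    hdvd hUc
  haveI hUVn : (U.subgroupOf V).Normal := by
    refine Subgroup.normal_of_index_eq_two ?_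
    have h1 := (U.subgroupOf V).card_mul_index
    rw [Nat.card_congr (Subgroup.subgroupOfEquivOfLe hUV).toEquiv, hUc, hVc, pow_succ] at h1
    exact Nat.eq_of_mul_eq_mul_left (by positivity) h1
  obtain ⟨v, hvV, hvU⟩ : ∃ v ∈ V, v ∉ U := by
    by_contra h
    push Not at h
    have := Subgroup.card_le_of_le (h : V ≤ U)
    rw [hUc, hVc, pow_succ] at this
    have : 0 < 2 ^ a := by positivity
    omega
  have hVnorm : ∀ w ∈ V, ∀ u, u ∈ U → w * u * w⁻¹ ∈ U := fun w hw u hu =>
    hUVn.conj_mem ⟨u, hUV hu⟩ hu ⟨w, hw⟩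
  set T := U ⊓ C with hT
  have hTconj : ∀ u ∈ U, ∀ t ∈ T, u * t * u⁻¹ ∈ T := by
    intro u hu t ht
    refine ⟨U.mul_mem (U.mul_mem hu ht.1) (U.inv_mem hu), (?_ : u * t * u⁻¹ ∈ C)⟩
    rw [hC, Subgroup.mem_centralizer_iff]
    intro a ha
    have ha' : u⁻¹ * a * u ∈ (P : Subgroup G) := by
      have := (Subgroup.mem_normalizer_iff.1 (hUN (U.inv_mem hu)) a).1 ha
      simpa using this
    have h2 := Subgroup.mem_centralizer_iff.1 (show t ∈ C from ht.2) _ ha'
    calc a * (u * t * u⁻¹) = u * ((u⁻¹ * a * u) * t) * u⁻¹ := by group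
      _ = u * (t * (u⁻¹ * a * u)) * u⁻¹ := by rw [h2]
      _ = u * t * u⁻¹ * a := by group
  have hTc : 2 ^ a ≤ Nat.card T * k := by
    have h1 : Nat.card (C.subgroupOf U) * C.relIndex U = Nat.card U :=
      (C.subgroupOf U).card_mul_index
    have h2 : Nat.card (C.subgroupOf U) = Nat.card T := by
      rw [hT, ← Subgroup.inf_subgroupOf_left C U,
        Nat.card_congr (Subgroup.subgroupOfEquivOfLe inf_le_left).toEquiv]
    rw [h2, hUc] at h1
    calc 2 ^ a = Nat.card T * C.relIndex U := h1.symm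
      _ ≤ Nat.card T * k := Nat.mul_le_mul_left _ (Nat.le_of_dvd hk0 hk)
  -- the core `H` of `T`
  let H : Subgroup G := T ⊓ T.comap (MulAut.conj v⁻¹).toMonoidHom
  have hmemH : ∀ {h}, h ∈ H ↔ h ∈ T ∧ v⁻¹ * h * v ∈ T := by
    intro h
    simp [H, Subgroup.mem_inf, MulAut.conj_apply]
  have hHC : H ≤ C := fun h hh => ((hmemH.1 hh).1).2
  have hconjT : ∀ a b, a ∈ T → b ∈ U → b⁻¹ * a * b ∈ T := fun a b ha hb => by
    simpa using hTconj b⁻¹ (U.inv_mem hb) a ha
  have hUH : ∀ u ∈ U, ∀ h ∈ H, u * h * u⁻¹ ∈ H := by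
    intro u hu h hh
    obtain ⟨h1, h2⟩ := hmemH.1 hh
    refine hmemH.2 ⟨hTconj u hu h h1, ?_⟩
    have hu' : v⁻¹ * u * v ∈ U := by simpa using hVnorm v⁻¹ (V.inv_mem hvV) u hu
    have := hTconj _ hu' _ h2
    convert this using 1
    group
  have hvv : v * v ∈ U := by
    have := Subgroup.sq_mem_of_index_two (H := U.subgroupOf V) (by
      have h1 := (U.subgroupOf V).card_mul_index
      rw [Nat.card_congr (Subgroup.subgroupOfEquivOfLe hUV).toEquiv, hUc, hVc, pow_succ] at h1
      exact Nat.eq_of_mul_eq_mul_left (by positivity) h1) ⟨v, hvV⟩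
    simpa [pow_two, Subgroup.mem_subgroupOf] using this
  have hvH : ∀ h ∈ H, v * h * v⁻¹ ∈ H := by
    intro h hh
    obtain ⟨h1, h2⟩ := hmemH.1 hh
    refine hmemH.2 ⟨?_, ?_⟩
    · have := hTconj (v * v) hvv _ h2
      convert this using 1
      group
    · have e : v⁻¹ * (v * h * v⁻¹) * v = h := by group
      rw [e]; exact h1
  set K := Subgroup.normalizer (H : Set G) with hK
  have hmemK : ∀ g, (∀ h ∈ H, g * h * g⁻¹ ∈ H) → g ∈ K := by
    intro g hg
    refine Subgroup.mem_normalizer_iff.2 fun y => ⟨fun hy => hg y hy, fun hy => ?_⟩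
    let f : H → H := fun h => ⟨g * h * g⁻¹, hg h h.2⟩
    have hf : Function.Injective f := by
      intro a b hab
      have := congrArg Subtype.val hab
      exact Subtype.ext (mul_left_cancel (mul_right_cancel this))
    obtain ⟨z, hz⟩ := Finite.injective_iff_surjective.1 hf ⟨g * y * g⁻¹, hy⟩
    have : (z : G) = y := mul_left_cancel (mul_right_cancel (congrArg Subtype.val hz))
    exact this ▸ z.2
  have hUK : U ≤ K := fun u hu => hmemK u (hUH u hu)
  have hvK : v ∈ K := hmemK v hvH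
  have hVK : V ≤ K := by
    have h1 : U < V ⊓ K := lt_of_le_of_ne (le_inf hUV hUK) (fun h => hvU (h ▸ ⟨hvV, hvK⟩))
    have h2 : Nat.card (V ⊓ K : Subgroup G) ∣ 2 ^ (a + 1) :=
      hVc ▸ Subgroup.card_dvd_of_le inf_le_left
    have h3 : Nat.card U ∣ Nat.card (V ⊓ K : Subgroup G) := Subgroup.card_dvd_of_le h1.le
    have h4 : Nat.card U ≠ Nat.card (V ⊓ K : Subgroup G) := fun h =>
      h1.ne (Subgroup.eq_of_le_of_card_ge h1.le h.ge)
    obtain ⟨j, hj, hj2⟩ := (Nat.dvd_prime_pow Nat.prime_two).1 h2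
    rw [hUc, hj2, Nat.pow_dvd_pow_iff_le_right one_lt_two] at h3
    rw [hUc, hj2] at h4
    have : j = a + 1 := by
      rcases eq_or_ne j a with rfl | hne
      · exact absurd rfl h4
      · omega
    exact inf_eq_left.1 (Subgroup.eq_of_le_of_card_ge inf_le_left (by rw [hVc, hj2, this]))
  have hPK : (P : Subgroup G) ≤ K := le_normalizer_of_centralizes hHC
  have hHb : H ≠ ⊥ := by
    intro hb
    let f : T × T → U := fun x => ⟨(x.1 : G) * (v * x.2 * v⁻¹),
      U.mul_mem x.1.2.1 (hVnorm v hvV _ x.2.2.1)⟩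
    have hf : Function.Injective f := by
      rintro ⟨a, b⟩ ⟨c, d⟩ hab
      have e : (a : G) * (v * b * v⁻¹) = c * (v * d * v⁻¹) := congrArg Subtype.val hab
      have e2 : (c : G)⁻¹ * a = v * (d * (b : G)⁻¹) * v⁻¹ := by
        calc (c : G)⁻¹ * a = (c : G)⁻¹ * ((a : G) * (v * b * v⁻¹)) * (v * b * v⁻¹)⁻¹ := by group
          _ = (c : G)⁻¹ * ((c : G) * (v * d * v⁻¹)) * (v * b * v⁻¹)⁻¹ := by rw [e]
          _ = _ := by group
      have hm : (c : G)⁻¹ * a ∈ H := by
        refine hmemH.2 ⟨T.mul_mem (T.inv_mem c.2) a.2, ?_⟩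
        rw [e2]
        have e3 : v⁻¹ * (v * ((d : G) * (b : G)⁻¹) * v⁻¹) * v = d * (b : G)⁻¹ := by group
        rw [e3]
        exact T.mul_mem d.2 (T.inv_mem b.2)
      rw [hb, Subgroup.mem_bot] at hm
      have hac : (a : G) = c := (inv_mul_eq_one.1 hm).symm
      rw [hac] at e
      have hbd : (b : G) = d := mul_left_cancel (mul_right_cancel (mul_left_cancel e))
      exact Prod.ext (Subtype.ext hac) (Subtype.ext hbd)
    have := Nat.card_le_card_of_injective f hf
    rw [Nat.card_prod, hUc] at this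
    have h1 : 2 ^ a * 2 ^ a ≤ (Nat.card T * k) * (Nat.card T * k) := Nat.mul_le_mul hTc hTc
    nlinarith [hsq, this, h1, (by positivity : 0 < 2 ^ a)]
  exact ⟨H, hHb, inf_le_left, hUK, hPK, hVc ▸ Subgroup.card_dvd_of_le hVK⟩

theorem relIndex_centralizer_dvd {p : ℕ} [hp : Fact p.Prime] (P U : Subgroup G)
    (hP : Nat.card P = p) (hUN : U ≤ Subgroup.normalizer (P : Set G)) :
    (Subgroup.centralizer (P : Set G)).relIndex U ∣ Nat.gcd (Nat.card U) (p - 1) := by
  haveI hcyc : IsCyclic P := isCyclic_of_prime_card hP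
  refine Nat.dvd_gcd (Subgroup.relIndex_dvd_card _ _) ?_
  let φ : U →* MulAut P := (P.normalizerMonoidHom).comp (Subgroup.inclusion hUN)
  have hk : φ.ker = (Subgroup.centralizer (P : Set G)).subgroupOf U := by
    ext u
    have : φ u = 1 ↔ Subgroup.inclusion hUN u ∈ P.normalizerMonoidHom.ker := Iff.rfl
    rw [MonoidHom.mem_ker, this, Subgroup.normalizerMonoidHom_ker]
    rfl
  rw [Subgroup.relIndex, ← hk, Subgroup.index_ker]
  refine (Subgroup.card_subgroup_dvd_card φ.range).trans ?_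
  rw [IsCyclic.card_mulAut, hP, Nat.totient_prime hp.out]

/-- The criterion: no subgroup can be as big as the trick requires. -/
theorem false_of_two_le [IsSimpleGroup G] (hG : ¬ IsMulCommutative G) {p : ℕ} [hp : Fact p.Prime]
    (P : Sylow p G) (hP : Nat.card (P : Subgroup G) = p) (a m k : ℕ) (hm : 0 < m) (hk0 : 0 < k)
    (hkU : ∀ U : Subgroup G, U ≤ Subgroup.normalizer ((P : Subgroup G) : Set G) →
      Nat.card U = 2 ^ a → (Subgroup.centralizer ((P : Subgroup G) : Set G)).relIndex U ∣ k)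
    (hN : Nat.card (Subgroup.normalizer ((P : Subgroup G) : Set G)) = m)
    (ha : 2 ^ a ∣ m) (ha' : ¬ 2 ^ (a + 1) ∣ m) (ha2 : 2 ^ (a + 1) ∣ Nat.card G)
    (hsq : k * k < 2 ^ a)
    (hkill : ∀ r ∈ (Nat.card G / p).divisors, r % p = 1 → 1 < r → r < Nat.card G / m →
      ∀ i ∈ (Nat.card G / (2 ^ a * p)).divisors,
        i * r * (2 ^ a * p) ∣ Nat.card G → ¬ 2 * Nat.card G ∣ i.factorial) : False := by
  haveI : Fact (Nat.Prime 2) := ⟨Nat.prime_two⟩
  set N := Subgroup.normalizer ((P : Subgroup G) : Set G) with hNd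
  have hNi : N.index = Nat.card G / m := by
    rw [← N.card_mul_index, hN, Nat.mul_div_cancel_left _ hm]
  have hp2 : p ≠ 2 := by
    intro h
    subst h
    have h1 : (2 : ℕ) ^ 2 ∣ Nat.card G := by
      refine dvd_trans (pow_dvd_pow 2 ?_) ha2
      rcases Nat.eq_zero_or_pos a with rfl | h
      · simp only [pow_zero, Nat.lt_one_iff, mul_eq_zero] at hsq
        omega
      · omega
    obtain ⟨Q, hQ⟩ := Sylow.exists_subgroup_card_pow_prime 2 h1
    obtain ⟨S, hS⟩ := (IsPGroup.of_card hQ).exists_le_sylow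
    have h2 := Subgroup.card_dvd_of_le hS
    rw [hQ, show Nat.card (S : Subgroup G) = 2 by
      rw [S.card_eq_multiplicity, ← P.card_eq_multiplicity, hP]] at h2
    norm_num at h2
  have hdN : 2 ^ a ∣ Nat.card N := by rw [hN]; exact ha
  obtain ⟨U0, hU0⟩ := Sylow.exists_subgroup_card_pow_prime 2 hdN
  have hUN : U0.map N.subtype ≤ N := Subgroup.map_subtype_le U0
  have hUc : Nat.card (U0.map N.subtype) = 2 ^ a := by
    rw [Subgroup.card_map_of_injective N.subtype_injective, hU0]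
  have hk := hkU _ hUN hUc
  obtain ⟨H, hHb, hHU, hUK, hPK, hK2⟩ := exists_big_normalizer (P : Subgroup G) _ hUN hUc ha2 hk0 hk hsq
  set K := Subgroup.normalizer (H : Set G) with hKd
  have hHt : H ≠ ⊤ := by
    intro h
    have h1 : N = ⊤ := top_le_iff.1 (h ▸ (hHU.trans inf_le_left).trans hUN)
    exact SimpleOrder.normalizer_ne_top hG (hP ▸ (P : Subgroup G).card_subgroup_dvd_card) P h1
  have hKt : K ≠ ⊤ := by
    intro h
    rcases SimpleOrder.eq_bot_or_top (Subgroup.normalizer_eq_top_iff.1 h) with h3 | h3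
    · exact hHb h3
    · exact hHt h3
  set r := N.relIndex K with hr
  have hr1 : r % p = 1 := relIndex_normalizer_modEq P hPK
  have hNK : Nat.card (N.subgroupOf K) * r = Nat.card K := (N.subgroupOf K).card_mul_index
  have hUP : 2 ^ a * p ∣ Nat.card (N.subgroupOf K) := by
    refine Nat.Coprime.mul_dvd_of_dvd_of_dvd
      (Nat.Coprime.pow_left _ ((Nat.coprime_primes Nat.prime_two hp.out).2 (Ne.symm hp2))) ?_ ?_
    · rw [← hUc, ← Nat.card_congr (Subgroup.subgroupOfEquivOfLe hUK).toEquiv]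
      exact Subgroup.card_dvd_of_le (fun x hx => hUN hx)
    · rw [← hP, ← Nat.card_congr (Subgroup.subgroupOfEquivOfLe hPK).toEquiv]
      exact Subgroup.card_dvd_of_le (fun x (hx : x.1 ∈ (P : Subgroup G)) => Subgroup.le_normalizer hx)
  have hr2 : r ∣ Nat.card G / p := by
    have h2 : r ∣ (P : Subgroup G).index :=
      (Subgroup.relIndex_dvd_of_le_left K Subgroup.le_normalizer).trans
        (Dvd.intro _ (Subgroup.relIndex_mul_index hPK))
    rwa [← (P : Subgroup G).card_mul_index, hP, Nat.mul_div_cancel_left _ hp.out.pos]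
  have hr3 : r ≠ 1 := by
    intro h
    have h1 := hK2.trans (Subgroup.card_dvd_of_le (Subgroup.relIndex_eq_one.1 h : K ≤ N))
    rw [hN] at h1
    exact ha' h1
  have hr4 : r ≠ Nat.card G / m := by
    intro h
    refine hKt (eq_top_of_relIndex_eq P ?_ hPK (h.trans hNi.symm))
    intro h'
    rw [h', Subgroup.card_bot] at hP
    exact hp.out.ne_one hP.symm
  have hi : K.index ∈ (Nat.card G / (2 ^ a * p)).divisors := by
    obtain ⟨c, hc⟩ := hUP
    refine Nat.mem_divisors.2 ⟨⟨c * r, ?_⟩, ?_⟩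
    · rw [← K.card_mul_index, ← hNK, hc]
      rw [show 2 ^ a * p * c * r * K.index = 2 ^ a * p * (K.index * (c * r)) by ring,
        Nat.mul_div_cancel_left _ (by have := hp.out.pos; positivity)]
    · rw [← K.card_mul_index, ← hNK, hc]
      rw [show 2 ^ a * p * c * r * K.index = 2 ^ a * p * (K.index * (c * r)) by ring,
        Nat.mul_div_cancel_left _ (by have := hp.out.pos; positivity)]
      have h0 : K.index ≠ 0 := Subgroup.index_ne_zero_of_finite
      have h7 : Nat.card K ≠ 0 := Nat.card_pos.ne'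
      rw [← hNK, hc] at h7
      intro h8
      rcases mul_eq_zero.1 h8 with h9 | h9
      · exact h0 h9
      · exact h7 (by rw [mul_assoc _ c r, h9, mul_zero])
  refine hkill r (Nat.mem_divisors.2 ⟨hr2, ?_⟩) hr1 ?_ ?_ K.index hi ?_
    (SimpleOrder.two_mul_card_dvd_factorial_index hG K hKt)
  · rw [← (P : Subgroup G).card_mul_index, hP, Nat.mul_div_cancel_left _ hp.out.pos]
    exact Subgroup.index_ne_zero_of_finite
  · have : r ≠ 0 := fun h => by
      rw [h] at hr1
      simp at hr1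
    omega
  · refine lt_of_le_of_ne ?_ hr4
    rw [← hNi, ← Subgroup.relIndex_top_right N]
    exact Subgroup.relIndex_le_of_le_right le_top
      (by rw [Subgroup.relIndex_top_right]; exact Subgroup.index_ne_zero_of_finite)
  · have h1 := mul_dvd_mul_left (K.index * r) hUP
    refine h1.trans (dvd_of_eq ?_)
    rw [← K.card_mul_index, ← hNK]
    ring

/-- The criterion with the bound coming from `Aut P`. -/
theorem false_of_two [IsSimpleGroup G] (hG : ¬ IsMulCommutative G) {p : ℕ} [hp : Fact p.Prime]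
    (P : Sylow p G) (hP : Nat.card (P : Subgroup G) = p) (a m : ℕ) (hm : 0 < m)
    (hN : Nat.card (Subgroup.normalizer ((P : Subgroup G) : Set G)) = m)
    (ha : 2 ^ a ∣ m) (ha' : ¬ 2 ^ (a + 1) ∣ m) (ha2 : 2 ^ (a + 1) ∣ Nat.card G)
    (hsq : Nat.gcd (2 ^ a) (p - 1) * Nat.gcd (2 ^ a) (p - 1) < 2 ^ a)
    (hkill : ∀ r ∈ (Nat.card G / p).divisors, r % p = 1 → 1 < r → r < Nat.card G / m →
      ∀ i ∈ (Nat.card G / (2 ^ a * p)).divisors,
        i * r * (2 ^ a * p) ∣ Nat.card G → ¬ 2 * Nat.card G ∣ i.factorial) : False :=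
  false_of_two_le hG P hP a m _ hm (Nat.gcd_pos_of_pos_left _ (by positivity))
    (fun U hU hc => hc ▸ relIndex_centralizer_dvd (P : Subgroup G) U hP hU) hN ha ha' ha2 hsq hkill

end Cfsg.Agent.OrderExclusion71
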