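import Mathlib

/-!
The arithmetic attached to a rational self-centralizing element of prime order and an involution
inverting it, as a kernel-computable search.
-/

set_option autoImplicit false

namespace Cfsg.Agent.RationalStar81

/-- Candidate pairs (value at the element of order `p`, degree). -/
def pairs (n p : ℕ) : List (ℤ × ℕ) :=
  (List.range (Nat.sqrt n + 1)).flatMap fun d =>
    if 1 < d ∧ n % d = 0 then
      (((List.range (2 * p)).map fun i : ℕ => ((i : ℤ) - p)).filter fun v : ℤ =>
        decide (v ≠ 0) && decide (v * v < (p : ℤ)) && decide (((d : ℤ) - v) % (p : ℤ) = 0)).map fun v => (v, d)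
    else []

/-- Multisets of pairs with prescribed sum of squared values and bounded sum of squared degrees. -/
def sets : List (ℤ × ℕ) → ℕ → ℕ → List (List (ℤ × ℕ))
  | [], b, _ => if b = 0 then [[]] else []
  | (v, d) :: ks, b, e =>
    (List.range (b + 1)).flatMap fun m =>
      if m * (v.natAbs * v.natAbs) ≤ b ∧ m * (d * d) ≤ e then
        (sets ks (b - m * (v.natAbs * v.natAbs)) (e - m * (d * d))).map
          (List.replicate m (v, d) ++ ·)
      else []

/-- Possible values at the involution. -/
def zvals (n c d : ℕ) : List ℤ :=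
  let b := min d (Nat.sqrt c)
  ((List.range (2 * b + 1)).map fun i : ℕ => ((i : ℤ) - b)).filter fun z =>
    decide (((d : ℤ) - z) % 4 = 0) && decide (((n / c : ℕ) : ℤ) * z % (d : ℤ) = 0)

/-- Whether values at the involution exist. -/
def zrec (n p c : ℕ) (r : ℤ) : List (ℤ × ℕ) → ℤ → ℤ → ℤ → ℤ → Bool
  | [], s, q, ss, tot =>
    decide (s = -1) && decide ((n : ℤ) + q = (p : ℤ) * c * c) &&
      decide (tot * tot ≤ r * ((c : ℤ) - 1 - ss))
  | (v, d) :: ks, s, q, ss, tot =>
    (zvals n c d).any fun z =>
      decide (ss + z * z ≤ (c : ℤ) - 1) &&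
        zrec n p c r ks (s + v * z) (q + v * ((n / d : ℕ) : ℤ) * (z * z)) (ss + z * z)
          (tot + (d : ℤ) * z)

/-- No configuration exists. -/
def kill (n p c : ℕ) : Bool :=
  (sets (pairs n p) (p - 1) (n - 1)).all fun S =>
    decide ((S.map fun k => k.1 * (k.2 : ℤ)).sum ≠ -1) ||
      !zrec n p c ((n : ℤ) - 1 - (S.map fun k => (k.2 : ℤ) * k.2).sum) S 0 0 0 1

theorem exists_enum {α : Type*} [DecidableEq α] (key : α → ℤ × ℕ) :
    ∀ (ks : List (ℤ × ℕ)) (T : Finset α) (b e : ℕ), (∀ a ∈ T, key a ∈ ks) →
      (∑ a ∈ T, (key a).1.natAbs * (key a).1.natAbs = b) → (∀ a ∈ T, (key a).1 ≠ 0) →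
      (∑ a ∈ T, (key a).2 * (key a).2 ≤ e) →
      ∃ L : List α, L.Nodup ∧ L.toFinset = T ∧ L.map key ∈ sets ks b e := by
  intro ks
  induction ks with
  | nil =>
    intro T b e h hb _ _
    have hT : T = ∅ := Finset.eq_empty_of_forall_notMem fun a ha => by simpa using h a ha
    subst hT
    refine ⟨[], List.nodup_nil, rfl, ?_⟩
    simp only [Finset.sum_empty] at hb
    simp [sets, ← hb]
  | cons k ks ih =>
    intro T b e h hb h0 he
    obtain ⟨v, d⟩ := k
    set T₁ := T.filter fun a => key a = (v, d) with hT₁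
    set T₂ := T.filter fun a => ¬ key a = (v, d) with hT₂
    set m := T₁.card with hm
    have e1 : ∀ f : ℤ × ℕ → ℕ, ∑ a ∈ T₁, f (key a) = m * f (v, d) := fun f => by
      rw [Finset.sum_congr rfl fun a ha => by rw [(Finset.mem_filter.1 ha).2], Finset.sum_const,
        smul_eq_mul]
    have hb' := Finset.sum_filter_add_sum_filter_not T (fun a => key a = (v, d))
      (fun a => (key a).1.natAbs * (key a).1.natAbs)
    have he' := Finset.sum_filter_add_sum_filter_not T (fun a => key a = (v, d))
      (fun a => (key a).2 * (key a).2)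
    rw [← hT₁, ← hT₂, e1 fun k => k.1.natAbs * k.1.natAbs, hb] at hb'
    rw [← hT₁, ← hT₂, e1 fun k => k.2 * k.2] at he'
    obtain ⟨L, hL, hLT, hLm⟩ := ih T₂ (b - m * (v.natAbs * v.natAbs)) (e - m * (d * d))
      (fun a ha => (List.mem_cons.1 (h a (Finset.mem_filter.1 ha).1)).resolve_left
        (Finset.mem_filter.1 ha).2)
      (by simp only [] at hb'; omega) (fun a ha => h0 a (Finset.mem_filter.1 ha).1)
      (by simp only [] at he'; omega)
    refine ⟨T₁.toList ++ L, ?_, ?_, ?_⟩
    · refine List.nodup_append.2 ⟨T₁.nodup_toList, hL, ?_⟩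
      intro a ha b' hb2 hab
      subst hab
      rw [Finset.mem_toList] at ha
      have : a ∈ T₂ := hLT ▸ List.mem_toFinset.2 hb2
      exact (Finset.mem_filter.1 this).2 (Finset.mem_filter.1 ha).2
    · rw [List.toFinset_append, Finset.toList_toFinset, hLT]
      exact Finset.filter_union_filter_not_eq _ T
    · have hmb : m ≤ b := by
        rcases Nat.eq_zero_or_pos m with h' | h'
        · omega
        · obtain ⟨a, ha⟩ := Finset.card_pos.1 (hm ▸ h')
          have hv : v ≠ 0 := by
            have := h0 a (Finset.mem_filter.1 ha).1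
            rwa [(Finset.mem_filter.1 ha).2] at this
          have h1 : 1 ≤ v.natAbs * v.natAbs := by
            have := Int.natAbs_pos.2 hv
            exact Nat.mul_pos this this
          have h2 : m * 1 ≤ m * (v.natAbs * v.natAbs) := Nat.mul_le_mul_left m h1
          simp only [] at hb'
          omega
      simp only [sets, List.mem_flatMap]
      refine ⟨m, List.mem_range.2 (by omega), ?_⟩
      simp only [] at hb' he'
      rw [if_pos ⟨by omega, by omega⟩, List.mem_map]
      refine ⟨L.map key, hLm, ?_⟩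
      rw [List.map_append]
      congr 1
      refine (List.eq_replicate_iff.2 ⟨by simp [hm], fun k hk => ?_⟩).symm
      obtain ⟨a, ha, rfl⟩ := List.mem_map.1 hk
      exact (Finset.mem_filter.1 (Finset.mem_toList.1 ha)).2

theorem zrec_eq_true {α : Type*} (n p c : ℕ) (r : ℤ) (key : α → ℤ × ℕ) (z : α → ℤ) :
    ∀ (L : List α) (s q ss tot : ℤ), (∀ a ∈ L, z a ∈ zvals n c (key a).2) →
      s + (L.map fun a => (key a).1 * z a).sum = -1 →
      (n : ℤ) + (q + (L.map fun a => (key a).1 * ((n / (key a).2 : ℕ) : ℤ) * (z a * z a)).sum) =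
        (p : ℤ) * c * c →
      ss + (L.map fun a => z a * z a).sum ≤ (c : ℤ) - 1 →
      (tot + (L.map fun a => ((key a).2 : ℤ) * z a).sum) *
          (tot + (L.map fun a => ((key a).2 : ℤ) * z a).sum) ≤
        r * ((c : ℤ) - 1 - (ss + (L.map fun a => z a * z a).sum)) →
      zrec n p c r (L.map key) s q ss tot = true := by
  intro L
  induction L with
  | nil =>
    intro s q ss tot _ h1 h2 _ h4
    simp only [List.map_nil, List.sum_nil, add_zero] at h1 h2 h4
    simp [zrec, h1, h2, h4]
  | cons a L ih =>
    intro s q ss tot hz h1 h2 h3 h4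
    rw [List.map_cons]
    generalize hk : key a = k
    obtain ⟨v, d⟩ := k
    simp only [List.map_cons, List.sum_cons, hk] at h1 h2 h3 h4
    simp only [zrec, List.any_eq_true, Bool.and_eq_true, decide_eq_true_eq]
    refine ⟨z a, by simpa [hk] using hz a (List.mem_cons_self ..), ?_, ?_⟩
    · have : 0 ≤ (L.map fun a => z a * z a).sum := List.sum_nonneg (by
        intro x hx
        obtain ⟨b, -, rfl⟩ := List.mem_map.1 hx
        exact mul_self_nonneg _)
      linarith
    · refine ih _ _ _ _ (fun b hb => hz b (List.mem_cons_of_mem _ hb)) ?_ ?_ ?_ ?_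
      · linarith
      · linarith
      · linarith
      · rw [add_assoc ss, add_assoc tot]; exact h4

end Cfsg.Agent.RationalStar81
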