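import Mathlib
import Cfsg.Agent.Lib.Simple720
import Cfsg.Agent.Lib.ExcChar68
import Cfsg.Agent.Lib.DihedralBound81
import Cfsg.Agent.Lib.ClassAlgebraOmega
import Cfsg.Agent.Lib.RationalStarSearch81

/-!
A simple group with a self-centralizing subgroup of prime order `p` whose normalizer induces the
whole automorphism group: column orthogonality and the class algebra of an inverting involution
reduce the impossibility of an order to a finite search.
-/

set_option autoImplicit false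

open scoped ComplexConjugate

namespace Cfsg.Agent.RationalStar81

open Cfsg.Agent.CharBasic Cfsg.Agent.CharBasicOrth Cfsg.Agent.SimpleStarKill

variable {G : Type*} [Group G] [Finite G]

set_option maxHeartbeats 1600000 in
/-- The criterion. -/
theorem false_of_rational [IsSimpleGroup G] (hG : ¬ IsMulCommutative G) {p : ℕ} [Fact p.Prime]
    (hp2 : p ≠ 2) (P : Sylow p G) (hP : Nat.card ↥(P : Subgroup G) = p)
    (hN : Nat.card ↥(Subgroup.normalizer ((P : Subgroup G) : Set G)) = (p - 1) * p)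
    (hC : Nat.card ↥(Subgroup.centralizer ((P : Subgroup G) : Set G)) = p)
    (h16 : 16 ∣ Nat.card G)
    (hkill : ∀ c : ℕ, c ∣ Nat.card G / p → 8 ∣ c → kill (Nat.card G) p c = true) : False := by
  classical
  letI : Fintype G := Fintype.ofFinite G
  have hp : p.Prime := Fact.out
  have hp3 : 3 ≤ p := by have := hp.two_le; omega
  set N := Subgroup.normalizer ((P : Subgroup G) : Set G) with hNdef
  obtain ⟨x, hxP, hx⟩ : ∃ x ∈ (P : Subgroup G), orderOf x = p := by
    obtain ⟨g, hg⟩ := exists_prime_orderOf_dvd_card' p (G := ↥(P : Subgroup G))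
      (dvd_of_eq hP.symm)
    exact ⟨g, g.2, by rw [Subgroup.orderOf_coe, hg]⟩
  have hzP : Subgroup.zpowers x = (P : Subgroup G) :=
    Subgroup.eq_of_le_of_card_ge (Subgroup.zpowers_le.2 hxP) (by rw [hP, Nat.card_zpowers, hx])
  have hCx : Subgroup.centralizer ({x} : Set G) = Subgroup.zpowers x := by
    have hle : Subgroup.zpowers x ≤ Subgroup.centralizer ({x} : Set G) :=
      Subgroup.zpowers_le.2 (by simp [Subgroup.mem_centralizer_singleton_iff])
    refine (Subgroup.eq_of_le_of_card_ge hle ?_).symm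
    rw [Nat.card_zpowers, hx, ← Subgroup.centralizer_closure, ← Subgroup.zpowers_eq_closure,
      hzP, hC]
  have hCxc : Nat.card ↥(Subgroup.centralizer ({x} : Set G)) = p := by
    rw [hCx, Nat.card_zpowers, hx]
  have hfus : ∀ a : ZMod p, a ≠ 0 → IsConj x (pw x a) := by
    intro a ha
    have h1 := card_fus_mul P hP hxP hx hCx
    have hidx : Nat.card (Sylow p G) = N.index := P.card_eq_index_normalizer
    have h2 := N.card_mul_index
    rw [hN, ← h1, hidx] at h2
    have h3 : (fus (p := p) x).card = p - 1 :=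
      (Nat.eq_of_mul_eq_mul_right hp.pos
        (Nat.eq_of_mul_eq_mul_right (Nat.pos_of_ne_zero Subgroup.index_ne_zero_of_finite) h2)).symm
    have h4 : fus x = (Finset.univ : Finset (ZMod p)).erase 0 :=
      Finset.eq_of_subset_of_card_le
        (fun t ht => Finset.mem_erase.2 ⟨fus_ne_zero hx ht, Finset.mem_univ _⟩)
        (by rw [Finset.card_erase_of_mem (Finset.mem_univ _), Finset.card_univ, ZMod.card]; omega)
    exact mem_fus.1 (h4 ▸ Finset.mem_erase.2 ⟨ha, Finset.mem_univ _⟩)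
  -- an element inverting `x`
  obtain ⟨g, hg⟩ : ∃ g : G, g * x * g⁻¹ = x⁻¹ := by
    obtain ⟨g, hg⟩ := isConj_iff.1 (hfus (-1) (neg_ne_zero.2 one_ne_zero))
    refine ⟨g, hg.trans (eq_inv_of_mul_eq_one_right ?_)⟩
    have h := (pw_add hx 1 (-1)).symm
    rwa [add_neg_cancel, pw_zero, pw_one] at h
  have hcx : ∀ a : G, a * x * a⁻¹ = x → a ∈ Subgroup.zpowers x := fun a ha => by
    rw [← hCx, Subgroup.mem_centralizer_singleton_iff]
    exact mul_inv_eq_iff_eq_mul.1 ha
  have hinvsq : ∀ a : G, a * x * a⁻¹ = x⁻¹ → a * a = 1 := by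
    intro a ha
    have h1 : (a * a) * x * (a * a)⁻¹ = x := by
      rw [show (a * a) * x * (a * a)⁻¹ = a * (a * x * a⁻¹) * a⁻¹ by group, ha,
        show a * x⁻¹ * a⁻¹ = (a * x * a⁻¹)⁻¹ by group, ha, inv_inv]
    obtain ⟨i, hi⟩ := Subgroup.mem_zpowers_iff.1 (hcx _ h1)
    -- `a` both fixes and inverts its square
    have h2 : a * (x ^ i) * a⁻¹ = x ^ i := by rw [hi]; group
    rw [← conj_zpow, ha, inv_zpow] at h2
    have h3 : (x ^ i) ^ 2 = 1 := by
      rw [pow_two]; exact mul_eq_one_iff_eq_inv.2 h2.symm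
    rw [hi] at h3
    have h4 : orderOf (a * a) ∣ 2 := orderOf_dvd_of_pow_eq_one h3
    have h5 : orderOf (a * a) ∣ p := by
      rw [← hx, ← hi, ← Nat.card_zpowers x]
      exact Subgroup.orderOf_dvd_natCard _ (zpow_mem (Subgroup.mem_zpowers x) i)
    exact orderOf_eq_one_iff.1 (Nat.eq_one_of_dvd_coprimes
      ((Nat.coprime_primes Nat.prime_two hp).2 (Ne.symm hp2)) h4 h5)
  have hxne : x⁻¹ ≠ x := by
    intro h
    have h2 : x ^ 2 = 1 := by rw [pow_two]; exact mul_eq_one_iff_eq_inv.2 h.symm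
    have := Nat.le_of_dvd two_pos (orderOf_dvd_of_pow_eq_one h2)
    omega
  set u := g with hudef
  have hu : orderOf u = 2 := orderOf_eq_prime (by rw [pow_two]; exact hinvsq u hg) fun h => by
    rw [h, one_mul, inv_one, mul_one] at hg
    exact hxne hg.symm
  have hu2 : u * u = 1 := hinvsq u hg
  have hui : u⁻¹ = u := inv_eq_of_mul_eq_one_right hu2
  -- the elements inverting `x`
  have hinv_iff : ∀ a : G, a * x * a⁻¹ = x⁻¹ ↔ a * u ∈ Subgroup.zpowers x := by
    intro a
    constructor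
    · intro ha
      refine hcx _ ?_
      rw [show (a * u) * x * (a * u)⁻¹ = a * (u * x * u⁻¹) * a⁻¹ by group, hg,
        show a * x⁻¹ * a⁻¹ = (a * x * a⁻¹)⁻¹ by group, ha, inv_inv]
    · intro h
      obtain ⟨i, hi⟩ := Subgroup.mem_zpowers_iff.1 h
      have ha : a = x ^ i * u := by rw [hi, mul_assoc, hu2, mul_one]
      rw [ha, show x ^ i * u * x * (x ^ i * u)⁻¹ = x ^ i * (u * x * u⁻¹) * (x ^ i)⁻¹ by group, hg]
      group
  have hconj : ∀ q ∈ Subgroup.zpowers x, IsConj u (q * u) := by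
    intro q hq
    obtain ⟨i, rfl⟩ := Subgroup.mem_zpowers_iff.1 hq
    obtain ⟨k, hk⟩ : ∃ k : ℕ, p + 1 = 2 * k := by
      obtain ⟨j, hj⟩ := hp.odd_of_ne_two hp2
      exact ⟨j + 1, by omega⟩
    refine isConj_iff.2 ⟨x ^ (i * k), ?_⟩
    have hmove : u * (x ^ (i * k))⁻¹ = x ^ (i * k) * u := by
      rw [← mul_inv_eq_iff_eq_mul, ← conj_inv, ← conj_zpow, hg, inv_zpow, inv_inv]
    rw [mul_assoc, hmove, ← mul_assoc, ← zpow_add]
    congr 1
    rw [show i * k + i * k = i + (p : ℤ) * i by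
      rw [← mul_add, ← two_mul, show (2 : ℤ) * k = p + 1 by exact_mod_cast hk.symm]; ring,
      zpow_add, zpow_mul, zpow_natCast, ← hx, pow_orderOf_eq_one, one_zpow, mul_one]
  have hmemN : ∀ a : G, a * x * a⁻¹ = x⁻¹ → a ∈ N := by
    intro a ha
    rw [hNdef, Subgroup.mem_normalizer_iff]
    have hmem : ∀ h ∈ (P : Subgroup G), a * h * a⁻¹ ∈ (P : Subgroup G) := by
      intro h hh
      obtain ⟨k, rfl⟩ := Subgroup.mem_zpowers_iff.1 (hzP ▸ hh : h ∈ Subgroup.zpowers x)
      rw [← conj_zpow, ha]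
      exact zpow_mem (inv_mem hxP) k
    intro h
    refine ⟨hmem h, fun h' => ?_⟩
    have := hmem _ h'
    rw [show a * (a * h * a⁻¹) * a⁻¹ = (a * a) * h * (a * a)⁻¹ by group, hinvsq a ha, one_mul,
      inv_one, mul_one] at this
    exact this
  have hsqconj : ∀ a : G, IsConj u a → a * a = 1 := by
    intro a ha
    obtain ⟨h, rfl⟩ := isConj_iff.1 ha
    rw [conj_mul, hu2, mul_one, mul_inv_cancel]
  have hpair : ∀ a b : G, IsConj u a → IsConj u b → a * b = x → a * x * a⁻¹ = x⁻¹ := by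
    intro a b ha hb hab
    rw [← hab, mul_inv_rev, inv_eq_of_mul_eq_one_right (hsqconj a ha),
      inv_eq_of_mul_eq_one_right (hsqconj b hb), ← mul_assoc, hsqconj a ha, one_mul]
  set c := Nat.card ↥(Subgroup.centralizer ({u} : Set G)) with hcdef
  have hpairs : Nat.card {q : G × G // q.1 * u * q.1⁻¹ * (q.2 * u * q.2⁻¹) = x} = c ^ 2 * p := by
    haveI : Fintype ↥N := Fintype.ofFinite _
    have hxN : x ∈ N := Subgroup.le_normalizer hxP
    have h := ExcChar68.card_pairs (ι := N.subtype) N.subtype_injective u ⟨x, hxN⟩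
      (fun a b ha hb hab => ⟨⟨⟨a, hmemN a (hpair a b ha hb hab)⟩, rfl⟩,
        ⟨⟨b, by rw [show b = a⁻¹ * x from eq_inv_mul_iff_mul_eq.2 hab]
                exact mul_mem (inv_mem (hmemN a (hpair a b ha hb hab))) hxN⟩, rfl⟩⟩)
    rw [Subgroup.coe_subtype] at h
    rw [h, ← hcdef]
    congr 1
    rw [← hx, ← Nat.card_zpowers x]
    refine Nat.card_congr
      { toFun := fun q => ⟨(q.1.1 : G) * u, (hinv_iff _).1 (hpair _ (q.1.2 : G) q.2.1 q.2.2.1
          (congrArg Subtype.val q.2.2.2))⟩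
        invFun := fun q => ⟨(⟨(q : G) * u, mul_mem (Subgroup.le_normalizer (hzP ▸ q.2 : (q : G) ∈ (P : Subgroup G))) (hmemN u hg)⟩,
            ⟨((q : G) * u)⁻¹ * x, mul_mem (inv_mem (mul_mem (Subgroup.le_normalizer (hzP ▸ q.2 : (q : G) ∈ (P : Subgroup G))) (hmemN u hg))) hxN⟩),
          hconj _ q.2, ?_, Subtype.ext (mul_inv_cancel_left _ _)⟩
        left_inv := fun q => ?_
        right_inv := fun q => Subtype.ext (by
          show (q : G) * u * u = q
          rw [mul_assoc, hu2, mul_one]) }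
    · obtain ⟨i, hi⟩ := Subgroup.mem_zpowers_iff.1 q.2
      have hmove : u * (q : G)⁻¹ = (q : G) * u := by
        rw [← hi, ← mul_inv_eq_iff_eq_mul, ← conj_inv, ← conj_zpow, hg, inv_zpow, inv_inv]
      show IsConj u (((q : G) * u)⁻¹ * x)
      rw [mul_inv_rev, hui, hmove]
      have e : (q : G) * u * x = (q * x⁻¹) * u := by
        rw [mul_assoc (q : G) x⁻¹ u, mul_assoc, ← hg]; group
      rw [e]
      exact hconj _ (mul_mem q.2 (inv_mem (Subgroup.mem_zpowers x)))
    · obtain ⟨⟨a, b⟩, h1, h2, h3⟩ := q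
      refine Subtype.ext (Prod.ext (Subtype.ext ?_) (Subtype.ext ?_))
      · show (a : G) * u * u = a
        rw [mul_assoc, hu2, mul_one]
      · show ((a : G) * u * u)⁻¹ * x = b
        rw [mul_assoc, hu2, mul_one, inv_mul_eq_iff_eq_mul]
        exact (congrArg Subtype.val h3).symm
  -- the centralizer of `u`
  have hc8 : 8 ∣ c := SimpleCentralizerKill.eight_dvd_card_centralizer hG h16 hu
  have hcp : ¬ p ∣ c := by
    intro h
    obtain ⟨⟨y, hyC⟩, hy⟩ := exists_prime_orderOf_dvd_card' p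
      (G := ↥(Subgroup.centralizer ({u} : Set G))) h
    rw [Subgroup.orderOf_mk] at hy
    obtain ⟨Q, hQ⟩ := (IsPGroup.of_card (G := Subgroup.zpowers y) (p := p) (n := 1)
      (by rw [Nat.card_zpowers, hy, pow_one])).exists_le_sylow
    obtain ⟨k, hk⟩ := MulAction.exists_smul_eq G Q P
    have hyk : k * y * k⁻¹ ∈ (P : Subgroup G) := by
      rw [← hk]
      exact ⟨y, hQ (Subgroup.mem_zpowers y), rfl⟩
    have hzy : Subgroup.zpowers (k * y * k⁻¹) = Subgroup.zpowers x := by
      rw [hzP]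
      refine Subgroup.eq_of_le_of_card_ge (Subgroup.zpowers_le.2 hyk) ?_
      rw [hP, Nat.card_zpowers, ← MulAut.conj_apply, MulEquiv.orderOf_eq, hy]
    have hm : k * u * k⁻¹ ∈ Subgroup.centralizer ({x} : Set G) := by
      rw [← Subgroup.centralizer_closure, ← Subgroup.zpowers_eq_closure, ← hzy,
        Subgroup.zpowers_eq_closure, Subgroup.centralizer_closure,
        Subgroup.mem_centralizer_singleton_iff]
      rw [conj_mul, conj_mul, Subgroup.mem_centralizer_singleton_iff.1 hyC]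
    rw [hCx] at hm
    have := Subgroup.orderOf_dvd_natCard _ hm
    rw [Nat.card_zpowers, hx, ← MulAut.conj_apply, MulEquiv.orderOf_eq, hu] at this
    exact hp2 ((Nat.prime_dvd_prime_iff_eq Nat.prime_two hp).1 this).symm
  have hcn : c ∣ Nat.card G / p := by
    have h1 : c ∣ Nat.card G := Subgroup.card_subgroup_dvd_card _
    have h2 : p ∣ Nat.card G := hP ▸ Subgroup.card_subgroup_dvd_card _
    rw [← Nat.mul_div_cancel' h2] at h1
    exact ((Nat.Prime.coprime_iff_not_dvd hp).2 hcp).symm.dvd_of_dvd_mul_left h1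
  have hk := hkill c hcn hc8
  -- characters
  choose D hD0 hD1 hDdvd using fun χ : Cfsg.IrrCharacter G =>
    CharBasicInt.exists_apply_one_dvd_card χ.2
  choose A hA hA4 using fun χ : Cfsg.IrrCharacter G =>
    Simple720.exists_invol_value (Simple720.commutator_eq_top hG)
      (isCharacter_of_isIrrCharacter χ.2) (hD1 χ) hu
  have hAle : ∀ χ, (A χ).natAbs ≤ D χ := by
    intro χ
    obtain ⟨z, hz, hl, hr⟩ := DihedralBound81.exists_int_apply_le hu χ (hD1 χ)
    have : A χ = z := by exact_mod_cast (hA χ).symm.trans hz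
    omega
  have hdv : ∀ (χ : Cfsg.IrrCharacter G) (j : ZMod p), j ≠ 0 →
      dv x (χ : G → ℂ) j = (χ : G → ℂ) x := by
    intro χ j hj
    have hterm : ∀ a : ZMod p, (χ : G → ℂ) (pw x a) * (1 - sg (-j * a)) =
        (χ : G → ℂ) x * (1 - sg (-j * a)) := by
      intro a
      rcases eq_or_ne a 0 with rfl | ha
      · simp
      · rw [apply_eq_of_isConj (isClassFunction_of_isCharacter (isCharacter_of_isIrrCharacter χ.2))
          (hfus a ha)]
    rw [dv_eq, Finset.sum_congr rfl fun a _ => hterm a, ← Finset.mul_sum, Finset.sum_sub_distrib,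
      sum_sg, if_neg (neg_ne_zero.2 hj), Finset.sum_const, Finset.card_univ, ZMod.card, sub_zero,
      nsmul_eq_mul, mul_one, mul_comm ((χ : G → ℂ) x), ← mul_assoc,
      inv_mul_cancel₀ (Nat.cast_ne_zero.2 hp.ne_zero), one_mul]
  have hVex : ∀ χ : Cfsg.IrrCharacter G, ∃ V : ℤ, (χ : G → ℂ) x = V ∧ (p : ℤ) ∣ (D χ : ℤ) - V := by
    intro χ
    obtain ⟨a, ha⟩ := exists_mult hx (isCharacter_of_isIrrCharacter χ.2) (0 : ZMod p)
    obtain ⟨b, hb⟩ := exists_mult hx (isCharacter_of_isIrrCharacter χ.2) (1 : ZMod p)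
    have hv := hdv χ 1 one_ne_zero
    rw [dv, ha, hb] at hv
    refine ⟨(a : ℤ) - b, by rw [← hv]; push_cast; ring, ⟨(b : ℤ), ?_⟩⟩
    have h := sum_mult (x := x) (p := p) (χ : G → ℂ)
    rw [hD1 χ, ← Finset.add_sum_erase _ _ (Finset.mem_univ (0 : ZMod p)),
      Finset.sum_congr rfl (g := fun _ => (b : ℂ)) (fun j hj => by
        have h2 := hdv χ j (Finset.ne_of_mem_erase hj)
        rw [dv, ha, ← hv] at h2
        linear_combination -h2),
      Finset.sum_const, Finset.card_erase_of_mem (Finset.mem_univ _), Finset.card_univ,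
      ZMod.card, ha, nsmul_eq_mul] at h
    have h' : (a : ℤ) + ((p - 1 : ℕ) : ℤ) * b = D χ := by exact_mod_cast h
    rw [Nat.cast_sub hp.one_lt.le] at h'
    push_cast at h'
    linarith
  choose V hV hVp using hVex
  have hint : ∀ χ, (((Nat.card G / c : ℕ) : ℤ) * A χ) % (D χ : ℤ) = 0 := by
    intro χ
    have h := ClassAlgebraOmega.isIntegral_centralChar χ.2 u
    rw [Cfsg.centralChar, hA χ, hD1 χ] at h
    have hidx : (Subgroup.centralizer ({u} : Set G)).index = Nat.card G / c := by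
      rw [hcdef, ← (Subgroup.centralizer ({u} : Set G)).index_mul_card,
        Nat.mul_div_cancel _ Nat.card_pos]
    rw [hidx] at h
    apply Int.emod_eq_zero_of_dvd
    rcases Int.natAbs_eq (A χ) with he | he
    · rw [he] at h ⊢
      rw [Int.cast_natCast, ← Nat.cast_mul] at h
      exact_mod_cast CharBasicInt.dvd_of_isIntegral_div (hD0 χ).ne' h
    · rw [he] at h ⊢
      rw [Int.cast_neg, Int.cast_natCast, mul_neg, neg_div, ← Nat.cast_mul] at h
      have h' := h.neg
      rw [neg_neg] at h'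
      rw [mul_neg, dvd_neg]
      exact_mod_cast CharBasicInt.dvd_of_isIntegral_div (hD0 χ).ne' h'
  have hx1 : ¬ IsConj x 1 := fun h => by
    rw [isConj_one_left] at h
    rw [h, orderOf_one] at hx
    omega
  have hu1 : ¬ IsConj u 1 := fun h => by
    rw [isConj_one_left] at h
    rw [h, orderOf_one] at hu
    omega
  have hxu : ¬ IsConj x u := fun h => by
    obtain ⟨e, he⟩ := isConj_iff.1 h
    rw [← he, ← MulAut.conj_apply, MulEquiv.orderOf_eq, hx] at hu
    omega
  have oxx : ∑ χ, V χ * V χ = p := by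
    have := (sum_irr_mul_conj x x).trans (if_pos (IsConj.refl x))
    rw [hCxc] at this
    simp only [hV, map_intCast] at this
    exact_mod_cast this
  have oxu : ∑ χ, V χ * A χ = 0 := by
    have := (sum_irr_mul_conj x u).trans (if_neg hxu)
    simp only [hV, hA, map_intCast] at this
    exact_mod_cast this
  have ox1 : ∑ χ, V χ * (D χ : ℤ) = 0 := by
    have := (sum_irr_mul_conj x 1).trans (if_neg hx1)
    simp only [hV, hD1, map_natCast] at this
    exact_mod_cast this
  have ou1 : ∑ χ, A χ * (D χ : ℤ) = 0 := by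
    have := (sum_irr_mul_conj u 1).trans (if_neg hu1)
    simp only [hA, hD1, map_natCast] at this
    exact_mod_cast this
  have ouu : ∑ χ, A χ * A χ = c := by
    have := (sum_irr_mul_conj u u).trans (if_pos (IsConj.refl u))
    rw [← hcdef] at this
    simp only [hA, map_intCast] at this
    exact_mod_cast this
  have odd' : ∑ χ, (D χ : ℤ) * D χ = Nat.card G := by
    have := sum_sq_apply_one (G := G)
    simp only [hD1, pow_two] at this
    exact_mod_cast this
  have otriple : ∑ χ, V χ * ((Nat.card G / D χ : ℕ) : ℤ) * (A χ * A χ) = (p : ℤ) * c * c := by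
    have h := ExcChar68.class_sum u x
    rw [hpairs] at h
    have hn0 : (Nat.card G : ℂ) ≠ 0 := Nat.cast_ne_zero.2 Nat.card_pos.ne'
    rw [eq_div_iff hn0, Finset.sum_mul] at h
    have hterm : ∀ χ : Cfsg.IrrCharacter G,
        (χ : G → ℂ) u * (χ : G → ℂ) u * conj ((χ : G → ℂ) x) / (χ : G → ℂ) 1 * Nat.card G =
          ((V χ * ((Nat.card G / D χ : ℕ) : ℤ) * (A χ * A χ) : ℤ) : ℂ) := by
      intro χ
      have hD' : (D χ : ℂ) ≠ 0 := Nat.cast_ne_zero.2 (hD0 χ).ne'
      obtain ⟨k, hk⟩ := hDdvd χ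
      rw [hA, hV, hD1, map_intCast, hk, Nat.mul_div_cancel_left _ (hD0 χ)]
      push_cast
      field_simp
    simp only [hterm] at h
    rw [← Int.cast_sum] at h
    have h' : ∑ χ, V χ * ((Nat.card G / D χ : ℕ) : ℤ) * (A χ * A χ) = ((c ^ 2 * p : ℕ) : ℤ) := by
      exact_mod_cast h
    rw [h']; push_cast; ring
  set τ := CharBasicDecomp.trivIrr G with hτ
  have hτD : D τ = 1 := by
    have h : (1 : ℂ) = (D τ : ℂ) := hD1 τ
    exact_mod_cast h.symm
  have hτA : A τ = 1 := by
    have h : (1 : ℂ) = (A τ : ℂ) := hA τ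
    exact_mod_cast h.symm
  have hτV : V τ = 1 := by
    have h : (1 : ℂ) = (V τ : ℂ) := hV τ
    exact_mod_cast h.symm
  set T := Finset.univ.filter fun χ => χ ≠ τ ∧ V χ ≠ 0 with hT
  set R := Finset.univ.filter fun χ => χ ≠ τ ∧ V χ = 0 with hR
  have hsplit : ∀ F : Cfsg.IrrCharacter G → ℤ, ∑ χ, F χ = F τ + (∑ χ ∈ T, F χ + ∑ χ ∈ R, F χ) := by
    intro F
    rw [← Finset.add_sum_erase _ _ (Finset.mem_univ τ),
      ← Finset.sum_filter_add_sum_filter_not ((Finset.univ : Finset _).erase τ) (fun χ => V χ ≠ 0) F]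
    congr 2 <;> refine Finset.sum_congr ?_ fun _ _ => rfl <;> ext χ <;> simp [hT, hR]
  have hR0 : ∀ χ ∈ R, V χ = 0 := fun χ hχ => (Finset.mem_filter.1 hχ).2.2
  rw [hsplit, Finset.sum_eq_zero (s := R) fun χ hχ => by rw [hR0 χ hχ, mul_zero], hτV] at oxx
  rw [hsplit, Finset.sum_eq_zero (s := R) fun χ hχ => by rw [hR0 χ hχ, zero_mul], hτV, hτA] at oxu
  rw [hsplit, Finset.sum_eq_zero (s := R) fun χ hχ => by rw [hR0 χ hχ, zero_mul], hτV, hτD] at ox1
  rw [hsplit, Finset.sum_eq_zero (s := R) fun χ hχ => by rw [hR0 χ hχ, zero_mul, zero_mul], hτV,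
    hτA, hτD, Nat.div_one] at otriple
  rw [hsplit, hτA, hτD] at ou1
  rw [hsplit, hτA] at ouu
  rw [hsplit, hτD] at odd'
  simp only [Nat.cast_one, one_mul, mul_one, add_zero] at oxx oxu ox1 otriple ou1 ouu odd'
  have hRd : (0 : ℤ) ≤ ∑ χ ∈ R, (D χ : ℤ) * D χ := Finset.sum_nonneg fun _ _ => mul_self_nonneg _
  have hRa : (0 : ℤ) ≤ ∑ χ ∈ R, A χ * A χ := Finset.sum_nonneg fun _ _ => mul_self_nonneg _
  have hDT : ∀ χ ∈ T, 1 < D χ := by
    intro χ hχ
    have h0 := hD0 χ
    by_contra h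
    exact (Finset.mem_filter.1 hχ).2.1 (Subtype.ext (DihedralStar68.linear_eq_one hG χ
      (by rw [hD1 χ, show D χ = 1 by omega, Nat.cast_one])))
  -- the enumeration
  let key : Cfsg.IrrCharacter G → ℤ × ℕ := fun χ => (V χ, D χ)
  have hkeys : ∀ χ ∈ T, key χ ∈ pairs (Nat.card G) p := by
    intro χ hχ
    have hD2 := hDT χ hχ
    have hV2 : V χ * V χ ≤ (p : ℤ) - 1 := by
      have := Finset.single_le_sum (f := fun χ => V χ * V χ) (fun _ _ => mul_self_nonneg _) hχ
      linarith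
    have hsq : D χ * D χ ≤ Nat.card G := by
      have := Finset.single_le_sum (f := fun χ => (D χ : ℤ) * D χ)
        (fun _ _ => mul_self_nonneg _) hχ
      have h' : (D χ : ℤ) * D χ ≤ Nat.card G := by linarith
      exact_mod_cast h'
    have hlo : -(p : ℤ) < V χ := by nlinarith
    have hhi : V χ < p := by nlinarith
    simp only [pairs, List.mem_flatMap, key]
    refine ⟨D χ, List.mem_range.2 (Nat.lt_succ_of_le (Nat.le_sqrt.2 hsq)), ?_⟩
    rw [if_pos ⟨hD2, Nat.mod_eq_zero_of_dvd (hDdvd χ)⟩, List.mem_map]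
    refine ⟨V χ, List.mem_filter.2 ⟨List.mem_map.2 ⟨(V χ + p).toNat, List.mem_range.2 (by omega),
      by omega⟩, ?_⟩, rfl⟩
    simp [(Finset.mem_filter.1 hχ).2.2, show V χ * V χ < (p : ℤ) by linarith,
      Int.emod_eq_zero_of_dvd (hVp χ)]
  obtain ⟨L, hL, hLT, hLm⟩ := exists_enum key (pairs (Nat.card G) p) T (p - 1) (Nat.card G - 1)
    hkeys (by
      have h : ((∑ χ ∈ T, (key χ).1.natAbs * (key χ).1.natAbs : ℕ) : ℤ) = ((p - 1 : ℕ) : ℤ) := by
        rw [Nat.cast_sum, Nat.cast_sub hp.one_lt.le]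
        simp only [key, Nat.cast_mul, Int.natAbs_mul_self', Nat.cast_one]
        linarith
      exact_mod_cast h)
    (fun χ hχ => (Finset.mem_filter.1 hχ).2.2) (by
      have h : ((∑ χ ∈ T, (key χ).2 * (key χ).2 : ℕ) : ℤ) ≤ ((Nat.card G - 1 : ℕ) : ℤ) := by
        rw [Nat.cast_sum, Nat.cast_sub Nat.card_pos]
        simp only [key, Nat.cast_mul, Nat.cast_one]
        linarith
      exact_mod_cast h)
  have hLsum : ∀ F : Cfsg.IrrCharacter G → ℤ, (L.map F).sum = ∑ χ ∈ T, F χ := fun F => by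
    rw [← hLT, List.sum_toFinset F hL]
  rw [kill, List.all_eq_true] at hk
  have hk' := hk _ hLm
  simp only [Bool.or_eq_true, decide_eq_true_eq, Bool.not_eq_true', List.map_map,
    Function.comp_def, hLsum, key] at hk'
  rcases hk' with hk' | hk'
  · exact hk' (by linarith)
  rw [zrec_eq_true (z := A)] at hk'
  · simp at hk'
  · intro χ hχ
    have hχT : χ ∈ T := hLT ▸ List.mem_toFinset.2 hχ
    have hA2 : A χ * A χ ≤ c := by
      have := Finset.single_le_sum (f := fun χ => A χ * A χ) (fun _ _ => mul_self_nonneg _) hχT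
      linarith
    have hb : (A χ).natAbs ≤ min (D χ) (Nat.sqrt c) := by
      refine le_min (hAle χ) (Nat.le_sqrt.2 ?_)
      have : (((A χ).natAbs * (A χ).natAbs : ℕ) : ℤ) ≤ (c : ℤ) := by
        rw [Nat.cast_mul, Int.natAbs_mul_self']; exact hA2
      exact_mod_cast this
    simp only [zvals, key]
    refine List.mem_filter.2 ⟨List.mem_map.2 ⟨(A χ + (min (D χ) (Nat.sqrt c) : ℕ)).toNat,
      List.mem_range.2 (by omega), by omega⟩, ?_⟩
    simp only [Bool.and_eq_true, decide_eq_true_eq]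
    exact ⟨Int.emod_eq_zero_of_dvd (hA4 χ), hint χ⟩
  all_goals simp only [hLsum, key]
  · linarith
  · linarith
  · linarith
  · have hcs := Finset.sum_mul_sq_le_sq_mul_sq R (fun χ => (D χ : ℤ)) A
    simp only [sq] at hcs
    rw [show (1 : ℤ) + ∑ χ ∈ T, (D χ : ℤ) * A χ = -∑ χ ∈ R, (D χ : ℤ) * A χ by
        simp only [mul_comm (D _ : ℤ)]; linarith, neg_mul_neg,
      show (Nat.card G : ℤ) - 1 - ∑ χ ∈ T, (D χ : ℤ) * D χ = ∑ χ ∈ R, (D χ : ℤ) * D χ by linarith,
      show (c : ℤ) - 1 - (0 + ∑ χ ∈ T, A χ * A χ) = ∑ χ ∈ R, A χ * A χ by linarith]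
    exact hcs

end Cfsg.Agent.RationalStar81
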