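import Mathlib
import Cfsg.Agent.Lib.SimpleOrder
import Cfsg.Agent.Lib.ZStarTheorem

/-!
Tools for excluding orders of simple groups: the centralizer of a Sylow subgroup of prime order
inside the action on all its conjugates, and the commuting graph on a small class of involutions.
-/

set_option autoImplicit false

namespace Cfsg.Agent.SylowCentBound81

open scoped Nat

variable {G : Type*} [Group G] [Finite G]

/-- The centralizer of a Sylow subgroup of order `q` embeds into the centralizer of a product of
`j` cycles of length `q` with one fixed point. -/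
theorem card_centralizer_dvd [IsSimpleGroup G] (hG : ¬ IsMulCommutative G) {q : ℕ} [Fact q.Prime]
    (P : Sylow q G) (hP : Nat.card ↥(P : Subgroup G) = q) (j : ℕ)
    (hd : Nat.card (Sylow q G) = j * q + 1) :
    Nat.card ↥(Subgroup.centralizer ((P : Subgroup G) : Set G)) ∣ q ^ j * j ! := by
  classical
  have hq : q.Prime := Fact.out
  have : Fintype (Sylow q G) := Fintype.ofFinite _
  obtain ⟨x, hxP, hx⟩ : ∃ x ∈ (P : Subgroup G), orderOf x = q := by
    obtain ⟨g, hg⟩ := exists_prime_orderOf_dvd_card' q (G := ↥(P : Subgroup G))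
      (dvd_of_eq hP.symm)
    exact ⟨g, g.2, by rw [Subgroup.orderOf_coe, hg]⟩
  have hdvd : q ∣ Nat.card G := hP ▸ Subgroup.card_subgroup_dvd_card _
  set ρ := MulAction.toPermHom G (Sylow q G) with hρ
  have hinj : Function.Injective ρ := by
    rw [← MonoidHom.ker_eq_bot_iff]
    refine (SimpleOrder.eq_bot_or_top ρ.normal_ker).resolve_right fun h => ?_
    refine SimpleOrder.normalizer_ne_top hG hdvd P (eq_top_iff.2 fun g _ => ?_)
    have hg : g ∈ ρ.ker := h ▸ Subgroup.mem_top g
    exact Sylow.smul_eq_iff_mem_normalizer.1 (Equiv.ext_iff.1 (MonoidHom.mem_ker.1 hg) P)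
  set σ := ρ x with hσ
  have hσo : orderOf σ = q := by rw [hσ, orderOf_injective ρ hinj, hx]
  have hfix : σ.supportᶜ = {P} := by
    ext Q
    simp only [Finset.mem_compl, Equiv.Perm.mem_support, not_not, Finset.mem_singleton]
    show x • Q = Q ↔ Q = P
    rw [Sylow.smul_eq_iff_mem_normalizer]
    constructor
    · intro h
      have hzp : IsPGroup q ↥(Subgroup.zpowers x) :=
        IsPGroup.of_card (n := 1) (by rw [Nat.card_zpowers, hx, pow_one])
      have hxQ := ((hzp.inf_normalizer_sylow Q).le ⟨Subgroup.mem_zpowers x, h⟩).2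
      have hle : (P : Subgroup G) ≤ (Q : Subgroup G) := by
        rw [← Subgroup.eq_of_le_of_card_ge (Subgroup.zpowers_le.2 hxP)
          (by rw [hP, Nat.card_zpowers, hx])]
        exact Subgroup.zpowers_le.2 hxQ
      exact Sylow.ext (P.3 Q.2 hle)
    · rintro rfl
      exact Subgroup.le_normalizer hxP
  have hsupp : σ.support.card = j * q := by
    have h := Finset.card_compl σ.support
    rw [hfix, Finset.card_singleton, ← Nat.card_eq_fintype_card, hd] at h
    have := Finset.card_le_univ σ.support
    rw [← Nat.card_eq_fintype_card, hd] at this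
    omega
  obtain ⟨k, hk⟩ := Equiv.Perm.cycleType_prime_order (σ := σ) (hσo.symm ▸ hq)
  rw [hσo] at hk
  have hsum := σ.sum_cycleType
  rw [hk, Multiset.sum_replicate, smul_eq_mul, hsupp] at hsum
  have hkj : k + 1 = j := Nat.eq_of_mul_eq_mul_right hq.pos hsum
  have hcard : Nat.card ↥(Subgroup.centralizer ({σ} : Set (Equiv.Perm (Sylow q G)))) =
      q ^ j * j ! := by
    rw [Equiv.Perm.nat_card_centralizer, hk, Multiset.sum_replicate, smul_eq_mul, hkj,
      Multiset.prod_replicate, Multiset.toFinset_replicate, if_neg (by omega),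
      Finset.prod_singleton, Multiset.count_replicate_self, ← Nat.card_eq_fintype_card, hd,
      Nat.add_sub_cancel_left, Nat.factorial_one, one_mul]
  rw [← hcard]
  refine Subgroup.card_dvd_of_injective
    (f := (ρ.comp (Subgroup.centralizer ((P : Subgroup G) : Set G)).subtype).codRestrict _
      (fun g => ?_)) fun a b h => Subtype.ext (hinj (congrArg Subtype.val h))
  rw [Subgroup.mem_centralizer_singleton_iff, hσ, MonoidHom.comp_apply, Subgroup.coe_subtype,
    ← map_mul, ← map_mul, Subgroup.mem_centralizer_iff.1 g.2 x hxP]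

/-- A class of involutions of odd size at most `2 q + 1` on which an element of order `q` acts
with one fixed point does not occur in a simple group. -/
theorem false_of_small_class [IsSimpleGroup G] (hG : ¬ IsMulCommutative G) {q : ℕ} [Fact q.Prime]
    (hq2 : q ≠ 2) {t x : G} (ht : orderOf t = 2) (hx : orderOf x = q) (htx : t * x = x * t)
    (hcard : Nat.card {s : G // IsConj t s} = 2 * q + 1)
    (hfix : ∀ s : G, IsConj t s → s * x = x * s → s = t) : False := by
  classical
  have : Fintype G := Fintype.ofFinite G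
  have hq : q.Prime := Fact.out
  have : Fact (Nat.Prime 2) := ⟨Nat.prime_two⟩
  -- commuting partners
  let S : G → Finset G := fun a => Finset.univ.filter fun s => IsConj t s ∧ a * s = s * a ∧ s ≠ a
  have hS : ∀ a, IsConj t a → (S a).card = (S t).card := by
    intro a ha
    obtain ⟨g, rfl⟩ := isConj_iff.1 ha
    refine (Finset.card_bij (fun s _ => g * s * g⁻¹) ?_ ?_ ?_).symm
    · intro s hs
      simp only [S, Finset.mem_filter, Finset.mem_univ, true_and] at hs ⊢
      refine ⟨hs.1.trans (isConj_iff.2 ⟨g, rfl⟩), ?_, fun h => hs.2.2 ?_⟩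
      · rw [conj_mul, conj_mul, hs.2.1]
      · exact mul_left_cancel (mul_right_cancel h)
    · intro a _ b _ h; exact mul_left_cancel (mul_right_cancel h)
    · intro s hs
      simp only [S, Finset.mem_filter, Finset.mem_univ, true_and] at hs ⊢
      refine ⟨g⁻¹ * s * g, ⟨?_, ?_, fun h => hs.2.2 ?_⟩, by group⟩
      · exact hs.1.trans (isConj_iff.2 ⟨g⁻¹, by group⟩)
      · have := congrArg (fun z => g⁻¹ * z * g) hs.2.1
        simpa [mul_assoc] using this
      · rw [← h]; group
  set k := (S t).card with hk
  -- conjugation by `x`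
  have hqk : q ∣ k := by
    have hm : ∀ i : G, i * x = x * i → ∀ s, s ∈ S t → x * s * x⁻¹ ∈ S t := by
      intro _ _ s hs
      simp only [S, Finset.mem_filter, Finset.mem_univ, true_and] at hs ⊢
      refine ⟨hs.1.trans (isConj_iff.2 ⟨x, rfl⟩), ?_, fun h => hs.2.2 ?_⟩
      · have htc : x * t * x⁻¹ = t := by rw [← htx, mul_inv_cancel_right]
        calc t * (x * s * x⁻¹) = x * t * x⁻¹ * (x * s * x⁻¹) := by rw [htc]
          _ = x * s * x⁻¹ * (x * t * x⁻¹) := by rw [conj_mul, conj_mul, hs.2.1]
          _ = x * s * x⁻¹ * t := by rw [htc]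
      · have htc : x * t * x⁻¹ = t := by rw [← htx, mul_inv_cancel_right]
        exact mul_left_cancel (mul_right_cancel (h.trans htc.symm))
    have hm' : ∀ s, s ∈ S t → x⁻¹ * s * x ∈ S t := by
      intro s hs
      simp only [S, Finset.mem_filter, Finset.mem_univ, true_and] at hs ⊢
      have htc : x⁻¹ * t * x = t := by rw [mul_assoc, htx, inv_mul_cancel_left]
      refine ⟨hs.1.trans (isConj_iff.2 ⟨x⁻¹, by group⟩), ?_, fun h => hs.2.2 ?_⟩
      · calc t * (x⁻¹ * s * x) = x⁻¹ * t * x * (x⁻¹ * s * x) := by rw [htc]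
          _ = x⁻¹ * (t * s) * x := by group
          _ = x⁻¹ * (s * t) * x := by rw [hs.2.1]
          _ = x⁻¹ * s * x * (x⁻¹ * t * x) := by group
          _ = x⁻¹ * s * x * t := by rw [htc]
      · exact mul_left_cancel (mul_right_cancel (h.trans htc.symm))
    let σ : Equiv.Perm ↥(S t) :=
      { toFun := fun s => ⟨x * s * x⁻¹, hm t htx s s.2⟩
        invFun := fun s => ⟨x⁻¹ * s * x, hm' s s.2⟩
        left_inv := fun s => Subtype.ext (by simp [mul_assoc])
        right_inv := fun s => Subtype.ext (by simp [mul_assoc]) }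
    have hpow : ∀ (n : ℕ) (s : ↥(S t)), (((σ ^ n) s : ↥(S t)) : G) = x ^ n * s * (x ^ n)⁻¹ := by
      intro n
      induction n with
      | zero => intro s; simp
      | succ n ih =>
        intro s
        rw [pow_succ' σ n, Equiv.Perm.mul_apply]
        show x * _ * x⁻¹ = _
        rw [ih, pow_succ']
        group
    have hf : σ ^ q ^ 1 = 1 := Equiv.ext fun s => Subtype.ext (by
      rw [pow_one, hpow, ← hx, pow_orderOf_eq_one, one_mul, inv_one, mul_one,
        Equiv.Perm.one_apply])
    have h := Equiv.Perm.card_compl_support_modEq hf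
    rw [Fintype.card_coe] at h
    have h0 : σ.supportᶜ = ∅ := Finset.eq_empty_of_forall_notMem fun s hs => by
      rw [Finset.mem_compl, Equiv.Perm.mem_support, not_not] at hs
      have h1 : x * (s : G) * x⁻¹ = s := congrArg Subtype.val hs
      have h2 := s.2
      simp only [S, Finset.mem_filter, Finset.mem_univ, true_and] at h2
      exact h2.2.2 (hfix _ h2.1 (mul_inv_eq_iff_eq_mul.1 h1).symm)
    rw [h0, Finset.card_empty] at h
    exact Nat.modEq_zero_iff_dvd.1 h.symm
  -- handshaking
  have hkev : 2 ∣ k := by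
    set Ω := Finset.univ.filter fun s => IsConj t s with hΩ
    set T := Ω.sigma S with hT
    have hTc : T.card = (2 * q + 1) * k := by
      rw [hT, Finset.card_sigma, Finset.sum_congr rfl fun a ha => hS a (Finset.mem_filter.1 ha).2,
        Finset.sum_const, smul_eq_mul, ← Fintype.card_subtype, ← Nat.card_eq_fintype_card,
        hcard]
    have hev : Even T.card := by
      rw [← ZMod.natCast_eq_zero_iff_even, Finset.card_eq_sum_ones]
      push_cast
      refine Finset.sum_involution (fun a _ => (⟨a.2, a.1⟩ : Σ _ : G, G)) (fun _ _ => CharTwo.add_self_eq_zero _)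
        (fun a ha _ h => ?_) (fun a ha => ?_) (fun a _ => rfl)
      · simp only [hT, hΩ, Finset.mem_sigma, S, Finset.mem_filter, Finset.mem_univ, true_and] at ha
        exact ha.2.2.2 (congrArg Sigma.fst h)
      · simp only [hT, hΩ, Finset.mem_sigma, S, Finset.mem_filter, Finset.mem_univ, true_and] at ha ⊢
        exact ⟨ha.2.1, ha.1, ha.2.2.1.symm, ha.2.2.2.symm⟩
    rw [hTc, even_iff_two_dvd] at hev
    exact (Nat.Coprime.dvd_of_dvd_mul_left (by simp) hev)
  have hk2q : k ≤ 2 * q := by
    have hsub : insert t (S t) ⊆ Finset.univ.filter fun s => IsConj t s := by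
      intro s hs
      rcases Finset.mem_insert.1 hs with rfl | hs
      · exact Finset.mem_filter.2 ⟨Finset.mem_univ _, IsConj.refl _⟩
      · exact Finset.mem_filter.2 ⟨Finset.mem_univ _, (Finset.mem_filter.1 hs).2.1⟩
    have := Finset.card_le_card hsub
    rw [Finset.card_insert_of_notMem (by simp [S]), ← hk, ← Fintype.card_subtype,
      ← Nat.card_eq_fintype_card, hcard] at this
    omega
  have ht1 : t ≠ 1 := fun h => by rw [h, orderOf_one] at ht; omega
  have hcentral : ¬ t ∈ Subgroup.center G := by
    intro h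
    rcases SimpleOrder.eq_bot_or_top (inferInstance : (Subgroup.center G).Normal) with hz | hz
    · rw [hz, Subgroup.mem_bot] at h; exact ht1 h
    · exact hG ⟨⟨fun a b => (Subgroup.mem_center_iff.1 (hz ▸ Subgroup.mem_top b) a)⟩⟩
  have hcases : k = 0 ∨ k = 2 * q := by
    obtain ⟨r, hr⟩ := Nat.Coprime.mul_dvd_of_dvd_of_dvd
      ((Nat.coprime_primes Nat.prime_two hq).2 (Ne.symm hq2)) hkev hqk
    rcases r with _ | _ | r
    · left; rw [hr, mul_zero]
    · right; omega
    · exfalso
      rw [hr] at hk2q
      have : 2 * q * 2 ≤ 2 * q * (r + 1 + 1) := Nat.mul_le_mul_left _ (by omega)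
      have := hq.pos
      omega
  rcases hcases with h0 | hfull
  · -- isolated
    have hiso : Cfsg.IsIsolatedInvolution t := by
      refine ⟨ht, fun g hg => ?_⟩
      by_contra hne
      have hmem : g * t * g⁻¹ ∈ S t := Finset.mem_filter.2
        ⟨Finset.mem_univ _, isConj_iff.2 ⟨g, rfl⟩, hg.eq, hne⟩
      rw [Finset.card_eq_zero.1 h0] at hmem
      exact Finset.notMem_empty _ hmem
    obtain ⟨N, hNn, hNodd, hN⟩ := ZStarTheorem.exists_odd_normal hiso
    refine hcentral (Subgroup.mem_center_iff.2 fun g => ?_)
    rcases SimpleOrder.eq_bot_or_top hNn with rfl | rfl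
    · have h := hN g
      rw [Subgroup.mem_bot, mul_inv_eq_one, mul_inv_eq_iff_eq_mul] at h
      exact h.symm
    · rw [Subgroup.card_top] at hNodd
      exact absurd ((ht ▸ orderOf_dvd_natCard t : 2 ∣ Nat.card G)) hNodd.not_two_dvd_nat
  · refine hcentral (Subgroup.mem_center_iff.2 fun g => ?_)
    have hall : ∀ s, IsConj t s → t * s = s * t := by
      intro s hs
      rcases eq_or_ne s t with rfl | hne
      · rfl
      · have hE : S t = (Finset.univ.filter fun s => IsConj t s).erase t := by
          refine Finset.eq_of_subset_of_card_le (fun a ha => ?_) ?_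
          · exact Finset.mem_erase.2 ⟨(Finset.mem_filter.1 ha).2.2.2,
              Finset.mem_filter.2 ⟨Finset.mem_univ _, (Finset.mem_filter.1 ha).2.1⟩⟩
          · rw [Finset.card_erase_of_mem (Finset.mem_filter.2 ⟨Finset.mem_univ _, IsConj.refl _⟩), ← hk, ← Fintype.card_subtype,
              ← Nat.card_eq_fintype_card, hcard, hfull]
            omega
        have : s ∈ S t := hE ▸ Finset.mem_erase.2 ⟨hne, Finset.mem_filter.2 ⟨Finset.mem_univ _, hs⟩⟩
        exact (Finset.mem_filter.1 this).2.2.1
    have htop : Subgroup.normalClosure ({t} : Set G) = ⊤ :=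
      (SimpleOrder.eq_bot_or_top Subgroup.normalClosure_normal).resolve_left fun h =>
        ht1 (by simpa [h] using Subgroup.subset_normalClosure (Set.mem_singleton t))
    have hle : Subgroup.normalClosure ({t} : Set G) ≤ Subgroup.centralizer ({t} : Set G) := by
      unfold Subgroup.normalClosure
      rw [Subgroup.closure_le]
      intro s hs
      obtain ⟨a, ha, has⟩ := Group.mem_conjugatesOfSet_iff.1 hs
      rw [Set.mem_singleton_iff] at ha
      subst ha
      exact Subgroup.mem_centralizer_singleton_iff.2 (hall s has).symm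
    exact Subgroup.mem_centralizer_singleton_iff.1 (hle (htop ▸ Subgroup.mem_top g))

end Cfsg.Agent.SylowCentBound81
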