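import Cfsg.Agent.Lib.SimpleRangeLowTable81N0
import Cfsg.Agent.Lib.SimpleRangeLowTable81N1
import Cfsg.Agent.Lib.SimpleRangeLowTable81N2
import Cfsg.Agent.Lib.SimpleRangeLowSpecial81
import Cfsg.Agent.Lib.SimpleRangeLowSquare81
import Cfsg.Agent.S0496
import Cfsg.Agent.S0983

/-!
The orders of the nonabelian simple groups below `6000`.
-/

set_option autoImplicit false

namespace Cfsg.Agent.SimpleRangeLow81

variable {G : Type*} [Group G] [Finite G] [IsSimpleGroup G]

theorem card_low (hG : ¬ IsMulCommutative G) (h1 : 1093 ≤ Nat.card G) (h2 : Nat.card G ≤ 3640) :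
    Nat.card G = 2448 ∨ Nat.card G = 2520 ∨ Nat.card G = 3420 := by
  have h : Nat.card G ∈ lowExceptions := by
    rcases lt_or_ge (Nat.card G) 1957 with a | a
    · exact mem_low0 hG h1 a
    rcases lt_or_ge (Nat.card G) 2821 with b | b
    · exact mem_low1 hG a b
    · exact mem_low2 hG b (by omega)
  simp only [lowExceptions, List.mem_cons, List.not_mem_nil, or_false] at h
  rcases h with h | h | h | h | h | h | h | h | h | h | h | h | h | h | h | h | h
  · exact absurd h ne_1224
  · exact absurd h ne_1344
  · exact absurd h ne_1512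
  · exact absurd h ne_1620
  · exact absurd h ne_1800
  · exact absurd h ne_2160
  · exact absurd h ne_2268
  · exact absurd h ne_2400
  · exact Or.inl h
  · exact Or.inr (Or.inl h)
  · exact absurd h ne_2688
  · exact absurd h ne_2700
  · exact absurd h ne_2976
  · exact absurd h ne_3120
  · exact absurd h ne_3168
  · exact Or.inr (Or.inr h)
  · exact absurd h ne_3600

/-- The orders of the nonabelian simple groups below `6000`. -/
theorem card_lt_6000 (hG : ¬ IsMulCommutative G) (h : Nat.card G < 6000) :
    Nat.card G ∈ [60, 168, 360, 504, 660, 1092, 2448, 2520, 3420, 4080, 5616] := by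
  simp only [List.mem_cons, List.not_mem_nil, or_false]
  rcases le_or_gt (Nat.card G) 1092 with a | a
  · rcases S0496.result hG a with e | e | e | e | e | e <;> omega
  rcases le_or_gt (Nat.card G) 3640 with b | b
  · rcases card_low hG a b with e | e | e <;> omega
  · rcases S0983.result hG b (by omega) with e | e | e | e <;> omega

end Cfsg.Agent.SimpleRangeLow81
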