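import Mathlib
import Cfsg.Prelude.Def_DegreeGraph
import Cfsg.Agent.Lib.SimpleRangeLowMain81
import Cfsg.Agent.Lib.SimpleRangeCentralize30
import Cfsg.Agent.Lib.FitLength57
import Cfsg.Agent.Lib.DegreeDvd
import Cfsg.Agent.Lib.CharAverage

/-!
Normal Sylow subgroups of prime order in groups of small order.
-/

set_option autoImplicit false
set_option linter.style.haveILetI false

namespace Cfsg.Agent.DegGraphSmall81

open Cfsg Cfsg.Agent.SimpleOrder
open scoped commutatorElement

universe u

/-- The orders of the nonabelian simple groups below `6000`. -/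
def simpleOrders : List ℕ := [60, 168, 360, 504, 660, 1092, 2448, 2520, 3420, 4080, 5616]

theorem simple_order_mem {T : Type u} [Group T] [Finite T] [IsSimpleGroup T]
    (hT : ¬ IsMulCommutative T) (h : Nat.card T < 6000) : Nat.card T ∈ simpleOrders :=
  SimpleRangeLow81.card_lt_6000 hT h

theorem solvable_of_normal {H : Type u} [Group H] (N : Subgroup H) [N.Normal] (h1 : Group.IsSolvable N)
    (h2 : Group.IsSolvable (H ⧸ N)) : Group.IsSolvable H :=
  solvable_of_ker_le_range N.subtype (QuotientGroup.mk' N)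
    (by rw [QuotientGroup.ker_mk', Subgroup.range_subtype])

theorem card_quotient_mul {H : Type u} [Group H] [Finite H] (N : Subgroup H) :
    Nat.card N * Nat.card (H ⧸ N) = Nat.card H := by
  rw [← Subgroup.index_eq_card, Subgroup.card_mul_index]

theorem not_isMulCommutative_of_not_solvable {H : Type u} [Group H] (h : ¬ Group.IsSolvable H) :
    ¬ IsMulCommutative H := fun hc => h (isSolvable_of_comm fun a b => hc.is_comm.comm a b)

/-- A nonsolvable group below `6000` is simple or has order a proper multiple of the order of a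
nonabelian simple group. -/
theorem exists_simple_dvd : ∀ (k : ℕ) (H : Type u) [Group H] [Finite H], Nat.card H = k → k < 6000 →
    ¬ Group.IsSolvable H →
    ∃ t ∈ simpleOrders, t ∣ k ∧ (t = k ∨ t < k) ∧ (t = k → IsSimpleGroup H) := by
  intro k
  induction k using Nat.strong_induction_on with
  | _ k ih =>
    intro H _ _ hk hlt hns
    by_cases hs : IsSimpleGroup H
    · exact ⟨k, hk ▸ simple_order_mem (not_isMulCommutative_of_not_solvable hns) (hk ▸ hlt), dvd_rfl,
        Or.inl rfl, fun _ => hs⟩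
    haveI : Nontrivial H := by
      by_contra h
      rw [not_nontrivial_iff_subsingleton] at h
      exact hns (isSolvable_of_comm fun a b => Subsingleton.elim _ _)
    obtain ⟨N, hN, hN1, hN2⟩ : ∃ N : Subgroup H, N.Normal ∧ N ≠ ⊥ ∧ N ≠ ⊤ := by
      by_contra h
      push Not at h
      exact hs ⟨fun N hN => or_iff_not_imp_left.2 (h N hN)⟩
    have hmul := card_quotient_mul N
    have hN0 : 1 < Nat.card N := (Subgroup.one_lt_card_iff_ne_bot _).2 hN1
    have hq0 : 1 < Nat.card (H ⧸ N) := by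
      rw [← Subgroup.index_eq_card]
      refine Nat.one_lt_iff_ne_zero_and_ne_one.2 ⟨Subgroup.index_ne_zero_of_finite, ?_⟩
      exact fun h => hN2 (Subgroup.index_eq_one.1 h)
    rw [hk] at hmul
    have hlt1 : Nat.card N < k := by
      rw [← hmul]
      exact Nat.lt_mul_iff_one_lt_right (by omega) |>.2 hq0
    have hlt2 : Nat.card (H ⧸ N) < k := by
      rw [← hmul]
      exact Nat.lt_mul_iff_one_lt_left (by omega) |>.2 hN0
    have key : ∀ c, c < k → c ∣ k → (∃ t ∈ simpleOrders, t ∣ c) →
        ∃ t ∈ simpleOrders, t ∣ k ∧ (t = k ∨ t < k) ∧ (t = k → IsSimpleGroup H) := by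
      rintro c hc hck ⟨t, ht, htc⟩
      have ht0 : 0 < c := Nat.pos_of_dvd_of_pos hck (by omega)
      have := Nat.le_of_dvd ht0 htc
      exact ⟨t, ht, htc.trans hck, Or.inr (by omega), fun h => absurd h (by omega)⟩
    by_cases h1 : Group.IsSolvable N
    · have h2 : ¬ Group.IsSolvable (H ⧸ N) := fun h => hns (solvable_of_normal N h1 h)
      obtain ⟨t, ht, htc, -, -⟩ := ih _ hlt2 (H ⧸ N) rfl (by omega) h2
      exact key _ hlt2 (Dvd.intro_left _ hmul) ⟨t, ht, htc⟩
    · obtain ⟨t, ht, htc, -, -⟩ := ih _ hlt1 N rfl (by omega) h1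
      exact key _ hlt1 (Dvd.intro _ hmul) ⟨t, ht, htc⟩

theorem nonsolvable_dvd {H : Type u} [Group H] [Finite H] (hlt : Nat.card H < 6000)
    (h : ¬ Group.IsSolvable H) : ∃ t ∈ simpleOrders, t ∣ Nat.card H := by
  obtain ⟨t, ht, htc, -, -⟩ := exists_simple_dvd _ H rfl hlt h
  exact ⟨t, ht, htc⟩

theorem solvable_of_no_simple {H : Type u} [Group H] [Finite H] {m : ℕ} (hH : Nat.card H ∣ m)
    (hm : m < 6000) (hm0 : 0 < m) (h : ∀ t ∈ simpleOrders, m % t ≠ 0) : Group.IsSolvable H := by
  by_contra hns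
  obtain ⟨t, ht, htd⟩ := nonsolvable_dvd (lt_of_le_of_lt (Nat.le_of_dvd hm0 hH) hm) hns
  exact h t ht (Nat.mod_eq_zero_of_dvd (htd.trans hH))

theorem exists_minimal_normal (H : Type u) [Group H] [Finite H] [Nontrivial H] :
    ∃ N : Subgroup H, N.Normal ∧ N ≠ ⊥ ∧ ∀ K : Subgroup H, K.Normal → K ≤ N → K ≠ ⊥ → K = N := by
  obtain ⟨N, ⟨hN, hN1⟩, hmin⟩ := Set.Finite.exists_minimal
    (Set.toFinite {N : Subgroup H | N.Normal ∧ N ≠ ⊥}) ⟨⊤, inferInstance, top_ne_bot⟩
  exact ⟨N, hN, hN1, fun K hK hle hK1 => le_antisymm hle (hmin ⟨hK, hK1⟩ hle)⟩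

/-- A minimal normal solvable subgroup is an abelian group of prime power order. -/
theorem solvable_minimal {H : Type u} [Group H] [Finite H] {N : Subgroup H} [N.Normal] (hN : N ≠ ⊥)
    (hmin : ∀ K : Subgroup H, K.Normal → K ≤ N → K ≠ ⊥ → K = N) (hs : Group.IsSolvable N) :
    (∀ x ∈ N, ∀ y ∈ N, x * y = y * x) ∧ ∃ q i, q.Prime ∧ 0 < i ∧ Nat.card N = q ^ i := by
  obtain ⟨V, r, hr, hV1, hVN, hVn, hVp, hab, -⟩ := FitLength57.exists_minimal_normal_pGroup hs hN
  obtain rfl := hmin V hVn hVN hV1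
  refine ⟨hab, r, ?_⟩
  haveI := Fact.mk hr
  obtain ⟨i, hi⟩ := hVp.exists_card_eq
  refine ⟨i, hr, Nat.pos_of_ne_zero fun h => hV1 ?_, hi⟩
  rw [← Subgroup.card_eq_one, hi, h, pow_zero]

section Sylow

variable {H : Type u} [Group H] [Finite H] {p : ℕ} [Fact p.Prime]

theorem sylow_card_prime {n : ℕ} (hp2 : ¬ p ^ 2 ∣ n) (hdvd : Nat.card H ∣ n) (hp : p ∣ Nat.card H)
    (P : Sylow p H) : Nat.card ↥(P : Subgroup H) = p := by
  obtain ⟨m, hm⟩ := hp
  have hmp : ¬ p ∣ m := by
    rintro ⟨j, rfl⟩
    exact hp2 ((Dvd.intro j (by rw [hm, pow_two, mul_assoc])).trans hdvd)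
  rw [sylow_card_of_eq (p := p) (k := 1) (m := m) (by rw [hm, pow_one]) hmp P, pow_one]

theorem inf_normalizer_eq_inf_centralizer {N : Subgroup H} [N.Normal] {P : Subgroup H}
    (hdisj : P ⊓ N = ⊥) :
    N ⊓ Subgroup.normalizer (P : Set H) = N ⊓ Subgroup.centralizer (P : Set H) := by
  refine le_antisymm (fun x hx => ⟨hx.1, Subgroup.mem_centralizer_iff.2 fun y hy => ?_⟩)
    (inf_le_inf_left _ (Subgroup.centralizer_le_normalizer _))
  have h1 : y⁻¹ * (x * y * x⁻¹) ∈ P := P.mul_mem (P.inv_mem hy) ((Subgroup.mem_normalizer_iff.1 hx.2 y).1 hy)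
  have h2 : y⁻¹ * (x * y * x⁻¹) ∈ N := by
    have h := N.mul_mem ((inferInstance : N.Normal).conj_mem x hx.1 y⁻¹) (N.inv_mem hx.1)
    simpa [mul_assoc] using h
  have h3 : y⁻¹ * (x * y * x⁻¹) ∈ P ⊓ N := ⟨h1, h2⟩
  rw [hdisj, Subgroup.mem_bot, inv_mul_eq_one] at h3
  exact eq_mul_inv_iff_mul_eq.1 h3

theorem disjoint_of_coprime {N P : Subgroup H} (hP : Nat.card P = p) (hN : ¬ p ∣ Nat.card N) :
    P ⊓ N = ⊥ := by
  rw [← Subgroup.card_eq_one]
  refine ((Nat.dvd_prime (Fact.out : p.Prime)).1 (hP ▸ Subgroup.card_dvd_of_le inf_le_left)).resolve_right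
    fun h => hN ?_
  exact h ▸ Subgroup.card_dvd_of_le inf_le_right

/-- The fixed points of a subgroup of order `p` on a normal `q`-subgroup. -/
theorem fixed_part {N : Subgroup H} [N.Normal] {P : Subgroup H} (hP : Nat.card P = p) {q i : ℕ}
    (hq : q.Prime) (hqp : q ≠ p) (hN : Nat.card N = q ^ i) :
    ∃ j, j ≤ i ∧ Nat.card ↥(N ⊓ Subgroup.centralizer (P : Set H)) = q ^ j ∧ q ^ (i - j) % p = 1 := by
  have hA : IsPGroup p P := IsPGroup.of_card (n := 1) (by rw [hP, pow_one])
  have hle : P ≤ Subgroup.normalizer (N : Set H) := by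
    rw [Subgroup.normalizer_eq_top]; exact le_top
  have hm := SimpleRange30.card_inf_centralizer_modEq hA hle
  obtain ⟨j, hji, hj⟩ := (Nat.dvd_prime_pow hq).1
    (hN ▸ Subgroup.card_dvd_of_le (inf_le_left : N ⊓ Subgroup.centralizer (P : Set H) ≤ N))
  refine ⟨j, hji, hj, ?_⟩
  rw [hN, hj] at hm
  have hcop : Nat.Coprime p (q ^ j) :=
    (Nat.coprime_primes (Fact.out : p.Prime) hq).2 (Ne.symm hqp) |>.pow_right j
  have h1 : q ^ (i - j) * q ^ j ≡ 1 * q ^ j [MOD p] := by
    rw [← pow_add, Nat.sub_add_cancel hji, one_mul]; exact hm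
  have h2 := Nat.ModEq.cancel_right_of_coprime hcop h1
  rwa [Nat.ModEq, Nat.one_mod_eq_one.2 (Fact.out : p.Prime).ne_one] at h2

/-- Either a subgroup of order `p`, normal modulo a minimal normal subgroup, is normal, or it fixes
no nontrivial element of that subgroup. -/
theorem normal_or_free (P : Sylow p H) {N : Subgroup H} [N.Normal] (hP : Nat.card ↥(P : Subgroup H) = p)
    (hN : ¬ p ∣ Nat.card N) (hab : ∀ x ∈ N, ∀ y ∈ N, x * y = y * x)
    (hmin : ∀ K : Subgroup H, K.Normal → K ≤ N → K ≠ ⊥ → K = N)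
    (hJ : ((P : Subgroup H) ⊔ N).Normal) :
    (P : Subgroup H).Normal ∨ N ⊓ Subgroup.centralizer ((P : Subgroup H) : Set H) = ⊥ := by
  set C := N ⊓ Subgroup.centralizer ((P : Subgroup H) : Set H) with hC
  haveI := hJ
  have hfr := Sylow.normalizer_sup_eq_top' P (le_sup_left : (P : Subgroup H) ≤ (P : Subgroup H) ⊔ N)
  have hfr' : Subgroup.normalizer ((P : Subgroup H) : Set H) ⊔ N = ⊤ :=
    top_le_iff.1 (hfr ▸ sup_le le_sup_left (sup_le (Subgroup.le_normalizer.trans le_sup_left) le_sup_right))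
  have hnormC : Subgroup.normalizer (C : Set H) = ⊤ := by
    refine top_le_iff.1 (hfr' ▸ sup_le ?_ ?_)
    · refine SignalizerCoprime.le_normalizer_of_forall fun g hg x hx => ?_
      refine ⟨(inferInstance : N.Normal).conj_mem x hx.1 g, Subgroup.mem_centralizer_iff.2 fun y hy => ?_⟩
      have hy' : g⁻¹ * y * g ∈ (P : Subgroup H) := (Subgroup.mem_normalizer_iff''.1 hg y).1 hy
      have h1 := Subgroup.mem_centralizer_iff.1 hx.2 _ hy'
      calc y * (g * x * g⁻¹) = g * ((g⁻¹ * y * g) * x) * g⁻¹ := by group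
        _ = g * (x * (g⁻¹ * y * g)) * g⁻¹ := by rw [h1]
        _ = g * x * g⁻¹ * y := by group
    · refine SignalizerCoprime.le_normalizer_of_forall fun g hg x hx => ?_
      rwa [hab g hg x hx.1, mul_inv_cancel_right]
  haveI : C.Normal := Subgroup.normalizer_eq_top_iff.1 hnormC
  by_cases hC1 : C = ⊥
  · exact Or.inr hC1
  left
  have hCN := hmin C inferInstance inf_le_left hC1
  refine Subgroup.normalizer_eq_top_iff.1 (top_le_iff.1 (hfr' ▸ sup_le le_rfl ?_))
  rw [← hCN]
  exact inf_le_right.trans (Subgroup.centralizer_le_normalizer _)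

end Sylow

/-- In a solvable group the Sylow `p`-subgroup of prime order is normal, or there is a normal
abelian subgroup of the exceptional order `v` meeting its normalizer trivially. -/
theorem normal_or_chief {n p v : ℕ} [Fact p.Prime] (hp2 : ¬ p ^ 2 ∣ n)
    (hv : ∀ q i, q.Prime → q ^ i ∣ n → q ^ i % p = 1 → q ^ i = 1 ∨ q ^ i = v)
    (hvp : v = 0 ∨ ∃ r a, r.Prime ∧ 0 < a ∧ v = r ^ a ∧ ¬ r * v ∣ n) :
    ∀ (k : ℕ) (H : Type u) [Group H] [Finite H], Nat.card H = k → k ∣ n → Group.IsSolvable H → p ∣ k →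
      ∀ P : Sylow p H, (P : Subgroup H).Normal ∨
        ∃ M : Subgroup H, M.Normal ∧ (∀ x ∈ M, ∀ y ∈ M, x * y = y * x) ∧ Nat.card M = v ∧
          M ⊓ Subgroup.normalizer ((P : Subgroup H) : Set H) = ⊥ := by
  intro k
  induction k using Nat.strong_induction_on with
  | _ k ih =>
    intro H _ _ hk hkn hsol hpk P
    have hp := (Fact.out : p.Prime)
    have hP : Nat.card ↥(P : Subgroup H) = p := sylow_card_prime hp2 (hk ▸ hkn) (hk ▸ hpk) P
    haveI : Nontrivial H := by
      rw [← Finite.one_lt_card_iff_nontrivial, hk]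
      exact lt_of_lt_of_le hp.one_lt (Nat.le_of_dvd (hk ▸ Nat.card_pos) hpk)
    obtain ⟨N, hNn, hN1, hmin⟩ := exists_minimal_normal H
    obtain ⟨hab, q, i, hq, hi, hNq⟩ := solvable_minimal hN1 hmin inferInstance
    by_cases hqp : q = p
    · left
      subst hqp
      obtain ⟨Q, hQ⟩ := (IsPGroup.of_card (n := i) hNq).exists_le_sylow
      have hQc := sylow_card_prime hp2 (hk ▸ hkn) (hk ▸ hpk) Q
      have he : N = (Q : Subgroup H) := Subgroup.eq_of_le_of_card_ge hQ (by
        rw [hQc, hNq]; exact Nat.le_self_pow hi.ne' _)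
      haveI : Subsingleton (Sylow q H) := by
          letI := Sylow.unique_of_normal Q (he ▸ hNn)
          infer_instance
      rw [Subsingleton.elim P Q, ← he]
      exact hNn
    have hpN : ¬ p ∣ Nat.card N := by
      rw [hNq]
      exact fun h => hqp ((Nat.prime_dvd_prime_iff_eq hp hq).1 (hp.dvd_of_dvd_pow h)).symm
    set π := QuotientGroup.mk' N with hπ
    have hsurj : Function.Surjective π := QuotientGroup.mk'_surjective N
    set Q := Sylow.mapSurjective hsurj P with hQ
    have hQeq : (Q : Subgroup (H ⧸ N)) = (P : Subgroup H).map π := rfl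
    have hmul := card_quotient_mul N
    rw [hk] at hmul
    have hlt : Nat.card (H ⧸ N) < k := by
      rw [← hmul]
      exact Nat.lt_mul_iff_one_lt_left Nat.card_pos |>.2 ((Subgroup.one_lt_card_iff_ne_bot _).2 hN1)
    have hpq : p ∣ Nat.card (H ⧸ N) := by
      rw [← hmul] at hpk
      exact (hp.dvd_mul.1 hpk).resolve_left hpN
    have hdisj := disjoint_of_coprime hP hpN
    rcases ih _ hlt (H ⧸ N) rfl ((Dvd.intro_left _ hmul).trans hkn) inferInstance hpq Q with
      hQn | ⟨M', hM'n, hM'ab, hM'c, hM'free⟩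
    · have hJ : ((P : Subgroup H) ⊔ N).Normal := by
        have h := hQn.comap π
        rwa [hQeq, Subgroup.comap_map_eq, hπ, QuotientGroup.ker_mk'] at h
      rcases normal_or_free P hP hpN hab hmin hJ with h | h
      · exact Or.inl h
      right
      refine ⟨N, hNn, hab, ?_, by rw [inf_normalizer_eq_inf_centralizer hdisj, h]⟩
      obtain ⟨j, -, hj, hmod⟩ := fixed_part hP hq hqp hNq
      rw [h, Subgroup.card_bot] at hj
      obtain rfl : j = 0 := by
        rcases Nat.pow_eq_one.1 hj.symm with h | h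
        · exact absurd h hq.ne_one
        · exact h
      rw [Nat.sub_zero] at hmod
      rcases hv q i hq ((hNq ▸ Dvd.intro _ hmul : q ^ i ∣ k).trans hkn) hmod with h' | h'
      · rcases Nat.pow_eq_one.1 h' with h | h
        · exact absurd h hq.ne_one
        · omega
      · exact hNq.trans h'
    -- a normal subgroup of order `v` above `N`
    rcases hvp with hv0 | ⟨r, a, hr, ha, hva, hfull⟩
    · exact absurd (hM'c.trans hv0) Nat.card_pos.ne'
    right
    haveI := hM'n
    set M := M'.comap π with hM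
    have hNM : N ≤ M := fun x hx => by
      rw [hM, Subgroup.mem_comap, show π x = 1 from (QuotientGroup.eq_one_iff x).2 hx]
      exact one_mem _
    have hMc : Nat.card M = v * q ^ i := by
      have h1 := M.card_mul_index
      rw [hM, Subgroup.index_comap_of_surjective _ hsurj, ← hM] at h1
      have h2 := M'.card_mul_index
      rw [hM'c] at h2
      have h3 : Nat.card M * M'.index = v * q ^ i * M'.index := by
        rw [h1, hk, ← hmul, ← h2, hNq]; ring
      exact Nat.eq_of_mul_eq_mul_right (Nat.pos_of_ne_zero Subgroup.index_ne_zero_of_finite) h3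
    have hMn : v * q ^ i ∣ n := hMc ▸ (Subgroup.card_subgroup_dvd_card M).trans (hk ▸ hkn)
    have hqr : q ≠ r := by
      rintro rfl
      exact hfull ((mul_comm q v).dvd.trans ((mul_dvd_mul_left v (dvd_pow_self q hi.ne')).trans hMn))
    -- `P` centralises `N`
    have hPN : N ≤ Subgroup.centralizer ((P : Subgroup H) : Set H) := by
      obtain ⟨j, hji, hj, hmod⟩ := fixed_part hP hq hqp hNq
      rcases hv q (i - j) hq ((pow_dvd_pow q (Nat.sub_le i j)).trans ((dvd_mul_left _ v).trans hMn)) hmod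
        with h | h
      · have : i = j := by
          rcases Nat.pow_eq_one.1 h with h | h
          · exact absurd h hq.ne_one
          · omega
        exact inf_eq_left.1 (Subgroup.eq_of_le_of_card_ge inf_le_left (by rw [hNq, hj, this]))
      · exfalso
        rcases Nat.eq_zero_or_pos (i - j) with h0 | h0
        · rw [h0, pow_zero, hva] at h
          exact absurd h.symm (one_lt_pow₀ hr.one_lt ha.ne').ne'
        · exact hqr ((Nat.prime_dvd_prime_iff_eq hq hr).1 (hq.dvd_of_dvd_pow (hva ▸ h ▸ dvd_pow_self q h0.ne')))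
    -- hence `M` centralises `N`
    set C := M ⊓ Subgroup.centralizer (N : Set H) with hC
    have hNC : N ≤ C := le_inf hNM fun x hx => Subgroup.mem_centralizer_iff.2 fun y hy => hab y hy x hx
    have hCM : C = M := by
      haveI hCn : C.Normal := inferInstance
      set C' := C.map π with hC'
      haveI : C'.Normal := hCn.map π hsurj
      have hC'M : C' ≤ M' := Subgroup.map_le_iff_le_comap.2 inf_le_left
      obtain ⟨b, hb, hCb⟩ := (Nat.dvd_prime_pow hr).1 (hva ▸ hM'c ▸ Subgroup.card_dvd_of_le hC'M)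
      have hQc : Nat.card ↥(Q : Subgroup (H ⧸ N)) = p :=
        sylow_card_prime hp2 ((Dvd.intro_left _ hmul).trans hkn) hpq Q
      have hrp : r ≠ p := by
        rintro rfl
        obtain ⟨R, hR⟩ := (IsPGroup.of_card (p := r) (n := a) (hM'c.trans hva)).exists_le_sylow
        have hRc := sylow_card_prime hp2 ((Dvd.intro_left _ hmul).trans hkn) hpq R
        have he : M' = (R : Subgroup (H ⧸ N)) := Subgroup.eq_of_le_of_card_ge hR (by
          rw [hRc, hM'c, hva]; exact Nat.le_self_pow ha.ne' _)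
        haveI : Subsingleton (Sylow r (H ⧸ N)) := by
          letI := Sylow.unique_of_normal R (he ▸ hM'n)
          infer_instance
        have hbot : (Q : Subgroup (H ⧸ N)) = ⊥ := by
          rw [Subsingleton.elim R Q] at he
          rw [← hM'free, he, inf_eq_left.2 Subgroup.le_normalizer]
        rw [hbot, Subgroup.card_bot] at hQc
        exact hr.ne_one hQc.symm
      obtain ⟨j, hjb, hj, hmod⟩ := fixed_part hQc hr hrp hCb
      have hj0 : j = 0 := by
        have hbot : C' ⊓ Subgroup.centralizer ((Q : Subgroup (H ⧸ N)) : Set (H ⧸ N)) = ⊥ :=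
          le_bot_iff.1 (hM'free ▸ inf_le_inf hC'M (Subgroup.centralizer_le_normalizer _))
        rw [hbot, Subgroup.card_bot] at hj
        rcases Nat.pow_eq_one.1 hj.symm with h | h
        · exact absurd h hr.ne_one
        · exact h
      rw [hj0, Nat.sub_zero] at hmod
      rcases hv r b hr ((hva ▸ pow_dvd_pow r hb : r ^ b ∣ v).trans ((dvd_mul_right v _).trans hMn)) hmod with
        h | h
      · exfalso
        rw [h, Subgroup.card_eq_one] at hCb
        obtain ⟨⟨m, hm⟩, hmne⟩ : ∃ m : M', m ≠ 1 := by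
          haveI : Nontrivial M' := Finite.one_lt_card_iff_nontrivial.1 (by
            rw [hM'c, hva]; exact one_lt_pow₀ hr.one_lt ha.ne')
          exact exists_ne 1
        obtain ⟨g, rfl⟩ := hsurj m
        refine hmne (Subtype.ext (Subgroup.mem_bot.1 (hM'free ▸ ⟨hm, ?_⟩)))
        refine Subgroup.centralizer_le_normalizer _ (Subgroup.mem_centralizer_iff.2 fun y hy => ?_)
        obtain ⟨x, hx, rfl⟩ := hy
        rw [← commutatorElement_eq_one_iff_mul_comm]
        have hmem : π ⁅x, g⁆ ∈ C' := by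
          refine Subgroup.mem_map_of_mem π ⟨?_, ?_⟩
          · exact M.mul_mem ((inferInstance : M.Normal).conj_mem g hm x) (M.inv_mem hm)
          · refine Subgroup.mem_centralizer_iff.2 fun y hy => ?_
            have hx1 : ∀ z ∈ N, x⁻¹ * z * x = z := fun z hz => by
              have h := Subgroup.mem_centralizer_iff.1 (hPN hz) x hx
              rw [mul_assoc, ← h, inv_mul_cancel_left]
            have hx2 : ∀ z ∈ N, x * z * x⁻¹ = z := fun z hz => by
              rw [Subgroup.mem_centralizer_iff.1 (hPN hz) x hx, mul_inv_cancel_right]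
            have h1 : ⁅x, g⁆ * y * ⁅x, g⁆⁻¹ = y := by
              calc ⁅x, g⁆ * y * ⁅x, g⁆⁻¹ = x * (g * (x⁻¹ * (g⁻¹ * y * g) * x) * g⁻¹) * x⁻¹ := by
                    rw [commutatorElement_def]; group
                _ = x * (g * (g⁻¹ * y * g) * g⁻¹) * x⁻¹ := by
                    rw [hx1 _ (by simpa using hNn.conj_mem y hy g⁻¹)]
                _ = x * y * x⁻¹ := by group
                _ = y := hx2 y hy
            exact (mul_inv_eq_iff_eq_mul.1 h1).symm
        rw [hCb, Subgroup.mem_bot, map_commutatorElement] at hmem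
        exact hmem
      · have hC'eq : C' = M' := Subgroup.eq_of_le_of_card_ge hC'M (by rw [hCb, h, hM'c])
        refine le_antisymm inf_le_left fun x hx => ?_
        have hx' : π x ∈ C' := hC'eq ▸ hx
        obtain ⟨c, hc, hcx⟩ := hx'
        have hd : c⁻¹ * x ∈ N := QuotientGroup.eq.1 hcx
        have := C.mul_mem hc (hNC hd)
        rwa [mul_inv_cancel_left] at this
    -- the Sylow subgroup of `M`
    haveI := Fact.mk hr
    obtain ⟨S⟩ : Nonempty (Sylow r M) := inferInstance
    have hS : Nat.card ↥(S : Subgroup M) = v := by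
      rw [sylow_card_of_eq (p := r) (k := a) (m := q ^ i) (by rw [hMc, hva])
        (fun h => hqr ((Nat.prime_dvd_prime_iff_eq hr hq).1 (hr.dvd_of_dvd_pow h)).symm) S, hva]
    have hSn : (S : Subgroup M).Normal := by
      refine Subgroup.normalizer_eq_top_iff.1 (Subgroup.eq_top_of_card_eq _ ?_)
      set NS := Subgroup.normalizer ((S : Subgroup M) : Set M) with hNS
      have h1 : N.subgroupOf M ≤ NS := le_trans (fun x hx => Subgroup.mem_centralizer_iff.2 fun y _ =>
        Subtype.ext (Subgroup.mem_centralizer_iff.1 ((hCM.ge y.2 : (y : H) ∈ C)).2 (x : H) hx).symm)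
        (Subgroup.centralizer_le_normalizer _)
      have h2 : q ^ i ∣ Nat.card NS := by
        have := Subgroup.card_dvd_of_le h1
        rwa [Nat.card_congr (Subgroup.subgroupOfEquivOfLe hNM).toEquiv, hNq] at this
      have h3 : v ∣ Nat.card NS := hS ▸ Subgroup.card_dvd_of_le Subgroup.le_normalizer
      have h4 : v * q ^ i ∣ Nat.card NS := by
        refine Nat.Coprime.mul_dvd_of_dvd_of_dvd ?_ h3 h2
        rw [hva]
        exact ((Nat.coprime_primes hr hq).2 hqr.symm).pow a i
      have h5 := Subgroup.card_subgroup_dvd_card NS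
      rw [hMc] at h5 ⊢
      exact Nat.dvd_antisymm h5 h4
    haveI := hSn
    haveI : (S : Subgroup M).Characteristic := S.characteristic_of_normal hSn
    have hcap : ∀ x ∈ (S : Subgroup M), π (x : H) = 1 → x = 1 := by
      intro x hx h
      have h1 : orderOf x ∣ v := hS ▸ Subgroup.orderOf_dvd_natCard _ hx
      have h2 : orderOf x ∣ q ^ i := by
        rw [← Subgroup.orderOf_coe, ← hNq]
        exact Subgroup.orderOf_dvd_natCard _ ((QuotientGroup.eq_one_iff _).1 h)
      have hcop : Nat.Coprime v (q ^ i) := hva ▸ ((Nat.coprime_primes hr hq).2 hqr.symm).pow a i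
      exact orderOf_eq_one_iff.1 (Nat.eq_one_of_dvd_coprimes hcop h1 h2)
    refine ⟨(S : Subgroup M).map M.subtype, ConjAct.normal_of_characteristic_of_normal, ?_, ?_, ?_⟩
    · rintro _ ⟨x, hx, rfl⟩ _ ⟨y, hy, rfl⟩
      have h : x * y * (y * x)⁻¹ = 1 := by
        refine hcap _ ((S : Subgroup M).mul_mem ((S : Subgroup M).mul_mem hx hy)
          ((S : Subgroup M).inv_mem ((S : Subgroup M).mul_mem hy hx))) ?_
        simp only [Subgroup.coe_mul, Subgroup.coe_inv, map_mul, map_inv]
        rw [hM'ab _ x.2 _ y.2, mul_inv_cancel]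
      exact congrArg Subtype.val (mul_inv_eq_one.1 h)
    · rw [Subgroup.card_map_of_injective M.subtype_injective, hS]
    · refine (Subgroup.eq_bot_iff_forall _).2 ?_
      rintro _ ⟨⟨x, hx, rfl⟩, hxN⟩
      have h : π (x : H) ∈ M' ⊓ Subgroup.normalizer ((Q : Subgroup (H ⧸ N)) : Set (H ⧸ N)) :=
        ⟨x.2, Subgroup.le_normalizer_map π (Subgroup.mem_map_of_mem π hxN)⟩
      rw [hM'free, Subgroup.mem_bot] at h
      show (x : H) = 1
      rw [hcap x hx h, Subgroup.coe_one]

end Cfsg.Agent.DegGraphSmall81
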