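import Mathlib
import Cfsg.Agent.Lib.CharCliffordCorr
import Cfsg.Agent.Lib.CharInducedMonomial
import Cfsg.Agent.Lib.CharInducedCorr
import Cfsg.Agent.Lib.CharKernel
import Cfsg.Agent.Lib.DegreeDvd
import Cfsg.Agent.Lib.CharProjDegree
import Cfsg.Agent.Lib.CharBasicInt
import Cfsg.Agent.S4456

/-!
Groups with exactly two irreducible character degrees `1` and `m` (Isaacs, Chapter 12),
by the coprime splitting `G = A ⋊ H` given by Thompson's normal complement theorem.
-/

set_option autoImplicit false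

open scoped commutatorElement
open Cfsg Cfsg.Agent

namespace Cfsg.Agent.TwoDegrees72

open CharBasic CharBasicOrth CharBasicDecomp CharInduced

universe u

variable {G : Type u} [Group G]

/-- All irreducible degrees lie in `{1, m}`. -/
def Deg (G : Type u) [Group G] (m : ℕ) : Prop :=
  ∀ χ : G → ℂ, IsIrrCharacter G χ → χ 1 = 1 ∨ χ 1 = (m : ℂ)

theorem deg_of_surjective {Q : Type u} [Group Q] {m : ℕ} (h : Deg G m) (f : G →* Q)
    (hf : Function.Surjective f) : Deg Q m := fun ψ hψ => by
  simpa using h (ψ ∘ f) (CharBasic.isIrrCharacter_comap f hf hψ)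

theorem exists_degree [Finite G] {m : ℕ} (h : Deg G m) (hna : ¬ ∀ a b : G, a * b = b * a) :
    ∃ χ : G → ℂ, IsIrrCharacter G χ ∧ χ 1 = (m : ℂ) ∧ χ 1 ≠ 1 := by
  by_contra hno
  push Not at hno
  exact hna (CharBasicLinear.comm_of_forall_apply_one fun χ => (h χ χ.2).elim id (hno χ χ.2))

/-- A degree is at most the index of an abelian subgroup. -/
theorem le_index_abelian [Finite G] {χ : G → ℂ} (hχ : IsIrrCharacter G χ) {m : ℕ}
    (hm : χ 1 = (m : ℂ)) (K : Subgroup G) (hK : ∀ a ∈ K, ∀ b ∈ K, a * b = b * a) : m ≤ K.index := by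
  classical
  have := Fintype.ofFinite G
  obtain ⟨d, hd, hd1⟩ := isIrrCharacter_apply_one hχ
  have hres := isCharacter_res K (isCharacter_of_isIrrCharacter hχ)
  obtain ⟨φ, hφ, hne⟩ := exists_constituent hres
    (isCharacter_ne_zero_of_apply_one (d := d) hd (by simpa using hd1))
  have h1 := DegreeDvd.exists_irr_inner_ne_zero hχ hφ hne
  rw [CharBasicLinear.apply_one_eq_one_of_comm (fun a b => Subtype.ext (hK a a.2 b b.2)) hφ, hm] at h1
  simpa using h1

/-- Taketa's argument for two degrees. -/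
theorem comm_commutator_of_nilpotent [Finite G] [Group.IsNilpotent G] {m : ℕ} (h : Deg G m) :
    ∀ a ∈ commutator G, ∀ b ∈ commutator G, a * b = b * a := by
  classical
  have := Fintype.ofFinite G
  intro a ha b hb
  have hlin : ∀ η : G → ℂ, IsIrrCharacter G η → η 1 = 1 → ∀ x ∈ commutator G, η x = η 1 := by
    intro η hη h1 x hx
    obtain ⟨lam, rfl⟩ := CharBasicLinear.exists_hom_of_apply_one_eq_one
      (isCharacter_of_isIrrCharacter hη) h1
    have : lam x = 1 := MonoidHom.mem_ker.1 (Abelianization.commutator_subset_ker lam hx)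
    simp [this]
  suffices hone : a * b * a⁻¹ * b⁻¹ = 1 by
    rwa [mul_inv_eq_one, mul_inv_eq_iff_eq_mul] at hone
  rw [← isConj_one_left, isConj_iff_forall_irr]
  intro χ
  rcases h χ χ.2 with h1 | h1
  · rw [hlin χ χ.2 h1 _ (by
      exact mul_mem (mul_mem (mul_mem ha hb) (inv_mem ha)) (inv_mem hb))]
  by_cases hone1 : (χ : G → ℂ) 1 = 1
  · rw [hlin χ χ.2 hone1 _ (by
      exact mul_mem (mul_mem (mul_mem ha hb) (inv_mem ha)) (inv_mem hb))]
  obtain ⟨K, lam, hK⟩ := exists_monomial χ.2
  have hidx : K.index = m := by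
    rw [hK, ind_one_apply, map_one, Units.val_one, mul_one] at h1
    exact_mod_cast h1
  have hD : ∀ x ∈ commutator G, x ∈ K := by
    intro x hx
    have hc := isCharacter_ind K (CharBasicDecomp.isCharacter_one (G := K))
    obtain ⟨mu, hm, hsum⟩ := exists_mult hc
    have hm1 : mu (trivIrr G) = 1 := by
      have h1 := hm (trivIrr G)
      rw [show ((trivIrr G : IrrCharacter G) : G → ℂ) = fun _ => (1 : ℂ) from rfl,
        inner_ind_left K _ (fun _ _ => rfl), classInner_irr_self isIrrCharacter_one] at h1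
      exact_mod_cast h1.symm
    have hval : indFun K (fun _ => (1 : ℂ)) x = indFun K (fun _ => (1 : ℂ)) 1 := by
      rw [hsum, Finset.sum_apply, Finset.sum_apply]
      refine Finset.sum_congr rfl fun η _ => ?_
      simp only [Pi.smul_apply]
      by_cases hm0 : mu η = 0
      · simp [hm0]
      by_cases hη : η = trivIrr G
      · subst hη; rfl
      congr 1
      refine hlin η η.2 ?_ x hx
      refine (h η η.2).resolve_right fun hηm => ?_
      have h1 := congrFun hsum 1
      rw [ind_one_apply, mul_one, hidx, Finset.sum_apply] at h1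
      choose deg hdeg0 hdeg using fun ξ : IrrCharacter G => isIrrCharacter_apply_one ξ.2
      simp only [Pi.smul_apply, smul_eq_mul, hdeg] at h1
      have h2 : m = ∑ ξ, mu ξ * deg ξ := by exact_mod_cast h1
      have h3 : ∑ ξ ∈ ({η, trivIrr G} : Finset (IrrCharacter G)), mu ξ * deg ξ ≤
          ∑ ξ, mu ξ * deg ξ := Finset.sum_le_sum_of_subset (Finset.subset_univ _)
      rw [Finset.sum_pair hη, hm1, one_mul, ← h2] at h3
      have hdj : deg η = m := by
        have := hdeg η
        rw [hηm] at this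
        exact_mod_cast this.symm
      have h4 : m ≤ mu η * deg η := hdj ▸ Nat.le_mul_of_pos_left _ (Nat.pos_of_ne_zero hm0)
      have h5 := hdeg0 (trivIrr G)
      omega
    by_contra hxH
    rw [indFun_apply, indFun_apply] at hval
    have hH0 := card_subgroup_ne_zero K
    have h2 := mul_left_cancel₀ (inv_ne_zero hH0) hval
    have hone : ∀ y : G, extendByZero K (fun _ => (1 : ℂ)) (y⁻¹ * 1 * y) = 1 := fun y => by
      rw [ext_zero_of_mem _ (by simp [K.one_mem])]
    rw [Finset.sum_congr rfl fun y _ => hone y] at h2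
    have h3 : ∑ y : G, (extendByZero K (fun _ => (1 : ℂ)) (y⁻¹ * x * y)).re = ∑ _y : G, (1 : ℝ) := by
      rw [← Complex.re_sum, h2]; simp
    have hb : ∀ y ∈ (Finset.univ : Finset G),
        (extendByZero K (fun _ => (1 : ℂ)) (y⁻¹ * x * y)).re ≤ 1 := by
      intro y _
      by_cases hy : y⁻¹ * x * y ∈ K
      · rw [ext_zero_of_mem _ hy]; simp
      · rw [ext_zero_of_not_mem _ hy]; simp
    have h4 := (Finset.sum_eq_sum_iff_of_le hb).1 h3 1 (Finset.mem_univ _)
    rw [ext_zero_of_not_mem _ (by simpa using hxH)] at h4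
    simp at h4
  rw [hK, ind_one_apply, map_one, Units.val_one, indFun_apply,
    Finset.sum_congr rfl (g := fun _ => (1 : ℂ)) (fun y _ => ?_), Finset.sum_const,
    Finset.card_univ, ← Nat.card_eq_fintype_card, nsmul_eq_mul, ← K.card_mul_index, Nat.cast_mul,
    mul_assoc, inv_mul_cancel_left₀ (card_subgroup_ne_zero K)]
  have hn : (commutator G).Normal := inferInstance
  have haK := hD _ (hn.conj_mem' a ha y)
  have hbK := hD _ (hn.conj_mem' b hb y)
  have he : y⁻¹ * (a * b * a⁻¹ * b⁻¹) * y =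
      (((⟨_, haK⟩ : K) * ⟨_, hbK⟩ * (⟨_, haK⟩ : K)⁻¹ * (⟨_, hbK⟩ : K)⁻¹ : K) : G) := by
    simp only [Subgroup.coe_mul, Subgroup.coe_inv]
    group
  rw [he, ext_zero_coe, map_mul, map_mul, map_mul, map_inv, map_inv, mul_right_comm (lam _) (lam _),
    mul_inv_cancel, one_mul, mul_inv_cancel, Units.val_one]

/-- A coprime splitting `G = A ⋊ H` with abelian `A`. -/
structure Split (G : Type u) [Group G] where
  A : Subgroup G
  H : Subgroup G
  normal : A.Normal
  compl : Subgroup.IsComplement' A H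
  comm : ∀ a ∈ A, ∀ b ∈ A, a * b = b * a
  coprime : (Nat.card A).Coprime (Nat.card H)

namespace Split

variable (S : Split G)

instance : S.A.Normal := S.normal

/-- The complement is isomorphic to the quotient. -/
noncomputable def quotIso : S.H ≃* G ⧸ S.A :=
  MulEquiv.ofBijective ((QuotientGroup.mk' S.A).comp S.H.subtype) (by
    refine ⟨fun a b h => ?_, fun q => ?_⟩
    · have h1 : ((a : G))⁻¹ * b ∈ S.A := QuotientGroup.eq.1 h
      have h2 : ((a : G))⁻¹ * b ∈ S.A ⊓ S.H := ⟨h1, S.H.mul_mem (S.H.inv_mem a.2) b.2⟩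
      rw [S.compl.disjoint.eq_bot, Subgroup.mem_bot, inv_mul_eq_one] at h2
      exact Subtype.ext h2
    · obtain ⟨g, rfl⟩ := QuotientGroup.mk_surjective q
      obtain ⟨⟨a, h⟩, hg⟩ := S.compl.2 g
      refine ⟨h, ?_⟩
      show ((h : G) : G ⧸ S.A) = (g : G ⧸ S.A)
      rw [QuotientGroup.eq]
      have hg' : (a : G) * (h : G) = g := hg
      rw [← hg', ← mul_assoc]
      exact S.normal.conj_mem' _ a.2 _)

/-- The projection onto the complement. -/
noncomputable def proj : G →* S.H :=
  S.quotIso.symm.toMonoidHom.comp (QuotientGroup.mk' S.A)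

theorem mk_proj (g : G) : ((S.proj g : G) : G ⧸ S.A) = (g : G ⧸ S.A) :=
  S.quotIso.apply_symm_apply ((QuotientGroup.mk' S.A) g)

theorem proj_spec (g : G) : g * (S.proj g : G)⁻¹ ∈ S.A := by
  rw [← QuotientGroup.eq_one_iff, QuotientGroup.mk_mul, QuotientGroup.mk_inv, mk_proj, mul_inv_cancel]

theorem proj_coe (h : S.H) : S.proj (h : G) = h :=
  S.quotIso.symm_apply_apply h

theorem proj_surjective : Function.Surjective S.proj := fun h => ⟨h, S.proj_coe h⟩

theorem proj_of_mem {a : G} (ha : a ∈ S.A) : S.proj a = 1 := by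
  show S.quotIso.symm ((QuotientGroup.mk' S.A) a) = 1
  rw [show (QuotientGroup.mk' S.A) a = 1 from (QuotientGroup.eq_one_iff a).2 ha, map_one]

instance : IsMulCommutative S.A := ⟨⟨fun a b => Subtype.ext (S.comm a a.2 b b.2)⟩⟩

/-- Conjugation acting on the linear characters of `A`. -/
def twist (g : G) : (S.A →* ℂˣ) →* (S.A →* ℂˣ) where
  toFun l := l.comp (MulAut.conjNormal g : S.A ≃* S.A).toMonoidHom
  map_one' := rfl
  map_mul' _ _ := rfl

theorem twist_apply (g : G) (l : S.A →* ℂˣ) (a : S.A) : S.twist g l a = l (MulAut.conjNormal g a) :=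
  rfl

theorem twist_mul (g h : G) (l : S.A →* ℂˣ) : S.twist (g * h) l = S.twist h (S.twist g l) := by
  refine MonoidHom.ext fun a => ?_
  simp only [twist_apply, map_mul, MulAut.mul_apply]

theorem twist_one (l : S.A →* ℂˣ) : S.twist 1 l = l := by
  refine MonoidHom.ext fun a => ?_
  simp only [twist_apply, map_one, MulAut.one_apply]

/-- The stabiliser in `G` of a linear character of `A`. -/
def stab (l : S.A →* ℂˣ) : Subgroup G where
  carrier := {g | S.twist g l = l}
  one_mem' := S.twist_one l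
  mul_mem' := fun {a b} (ha : S.twist a l = l) (hb : S.twist b l = l) => by
    show S.twist (a * b) l = l
    rw [twist_mul, ha, hb]
  inv_mem' := fun {a} (ha : S.twist a l = l) => by
    show S.twist a⁻¹ l = l
    conv_lhs => rw [← ha]
    rw [← twist_mul, mul_inv_cancel, twist_one]

theorem le_stab (l : S.A →* ℂˣ) : S.A ≤ S.stab l := fun b hb => by
  show S.twist b l = l
  refine MonoidHom.ext fun a => ?_
  rw [twist_apply]
  exact congrArg l (Subtype.ext (by
    rw [MulAut.conjNormal_apply, S.comm b hb a a.2, mul_inv_cancel_right]))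

/-- The part of the stabiliser inside the complement. -/
def stabH (l : S.A →* ℂˣ) : Subgroup S.H := (S.stab l).subgroupOf S.H

theorem comap_stabH (l : S.A →* ℂˣ) : (S.stabH l).comap S.proj = S.stab l := by
  ext g
  rw [Subgroup.mem_comap, stabH, Subgroup.mem_subgroupOf]
  have e : g = (g * (S.proj g : G)⁻¹) * (S.proj g : G) := (inv_mul_cancel_right _ _).symm
  conv_rhs => rw [e]
  exact ((S.stab l).mul_mem_cancel_left (S.le_stab l (S.proj_spec g))).symm

theorem index_stabH (l : S.A →* ℂˣ) : (S.stabH l).index = (S.stab l).index := by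
  rw [← S.comap_stabH l, Subgroup.index_comap_of_surjective _ S.proj_surjective]

theorem exists_separating [Finite G] {g : G} (hg : ¬ ∀ a ∈ S.A, g * a = a * g) :
    ∃ l : S.A →* ℂˣ, S.twist g l ≠ l := by
  push Not at hg
  obtain ⟨a, ha, hne⟩ := hg
  letI : CommGroup S.A := { (inferInstance : Group S.A) with mul_comm := fun x y => Subtype.ext (S.comm x x.2 y y.2) }
  have hne' : (MulAut.conjNormal g (⟨a, ha⟩ : S.A)) * (⟨a, ha⟩ : S.A)⁻¹ ≠ 1 := by
    intro h
    rw [mul_inv_eq_one] at h
    have := congrArg Subtype.val h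
    rw [MulAut.conjNormal_apply] at this
    exact hne (mul_inv_eq_iff_eq_mul.1 this)
  obtain ⟨l, hl⟩ := CommGroup.exists_apply_ne_one_of_hasEnoughRootsOfUnity S.A ℂ hne'
  refine ⟨l, fun h => hl ?_⟩
  rw [map_mul, map_inv, mul_inv_eq_one]
  exact DFunLike.congr_fun h ⟨a, ha⟩

/-- A moved linear character has stabiliser of index `m`, abelian modulo `A`. -/
theorem stab_spec [Finite G] {m : ℕ} (hdeg : Deg G m) (l : S.A →* ℂˣ) (hl : S.stab l ≠ ⊤) :
    (S.stabH l).index = m ∧ ∀ a ∈ S.stabH l, ∀ b ∈ S.stabH l, a * b = b * a := by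
  classical
  have := Fintype.ofFinite G
  set I := S.stab l
  set K := S.stabH l
  let θ : S.A → ℂ := fun a => (l a : ℂ)
  have hθ : IsIrrCharacter S.A θ := isIrrCharacter_linear l
  have hT : ∀ g : G, g ∈ I ↔ conjFun S.A θ g = θ := by
    intro g
    rw [conjFun_eq_comp]
    constructor
    · intro h
      funext a
      exact congrArg Units.val (DFunLike.congr_fun (show S.twist g l = l from h) a)
    · intro h
      exact MonoidHom.ext fun a => Units.ext (congrFun h a)
  let πI : I →* K := (S.proj.comp I.subtype).codRestrict K fun t => by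
    have ht : (t : G) ∈ (S.stabH l).comap S.proj := by rw [S.comap_stabH]; exact t.2
    exact ht
  have hπI : Function.Surjective πI := fun k => by
    refine ⟨⟨((k : S.H) : G), Subgroup.mem_subgroupOf.1 k.2⟩, Subtype.ext ?_⟩
    exact S.proj_coe (k : S.H)
  let ext : I →* ℂˣ :=
    { toFun := fun t => l ⟨(t : G) * (S.proj t : G)⁻¹, S.proj_spec t⟩
      map_one' := by
        rw [← map_one l]
        exact congrArg l (Subtype.ext (by simp))
      map_mul' := fun t u => by
        have htI : (S.proj t : G) ∈ I := by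
          have := (πI t).2
          exact Subgroup.mem_subgroupOf.1 this
        have h1 := DFunLike.congr_fun (show S.twist _ l = l from htI) ⟨(u : G) * (S.proj u : G)⁻¹, S.proj_spec u⟩
        rw [twist_apply] at h1
        rw [← h1, ← map_mul]
        refine congrArg l (Subtype.ext ?_)
        simp only [Subgroup.coe_mul, MulAut.conjNormal_apply, map_mul, mul_inv_rev]
        group }
  have key : ∀ β : IrrCharacter K, ((S.stab l).index : ℂ) * (β : K → ℂ) 1 = 1 ∨
      ((S.stab l).index : ℂ) * (β : K → ℂ) 1 = (m : ℂ) := by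
    intro β
    let ψ : I → ℂ := fun t => (β : K → ℂ) (πI t) * (ext t : ℂ)
    have hψ : IsIrrCharacter I ψ :=
      isIrrCharacter_mul_linear (CharBasic.isIrrCharacter_comap πI hπI β.2) ext
    have hψA : (fun n : S.A => ψ ⟨(n : G), S.le_stab l n.2⟩) = (β : K → ℂ) 1 • θ := by
      funext n
      have h1 : πI ⟨(n : G), S.le_stab l n.2⟩ = 1 := Subtype.ext (S.proj_of_mem n.2)
      show (β : K → ℂ) _ * _ = (β : K → ℂ) 1 * θ n
      rw [h1]
      congr 1
      show ((l _ : ℂˣ) : ℂ) = (l n : ℂ)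
      congr 2
      exact Subtype.ext (by simp [S.proj_of_mem n.2])
    have hne : classInner (fun n : S.A => ψ ⟨(n : G), S.le_stab l n.2⟩) θ ≠ 0 := by
      rw [hψA, CharInduced.inner_smul_left, classInner_irr_self hθ, mul_one]
      exact isIrrCharacter_apply_one_ne_zero β.2
    have hirr := ind_inertia_irr S.A I (S.le_stab l) hθ hT hψ hne
    have h1 : indFun I ψ 1 = ((S.stab l).index : ℂ) * (β : K → ℂ) 1 := by
      rw [ind_one_apply]
      show _ * ((β : K → ℂ) (πI 1) * (ext 1 : ℂ)) = _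
      rw [map_one, map_one, Units.val_one, mul_one]
    rw [← h1]
    exact hdeg _ hirr
  have hi1 : (S.stab l).index ≠ 1 := fun h => hl (Subgroup.index_eq_one.1 h)
  have hm : (S.stab l).index = m := by
    rcases key (trivIrr K) with h | h
    · exfalso
      apply hi1
      have : ((S.stab l).index : ℂ) * 1 = 1 := h
      rw [mul_one] at this
      exact_mod_cast this
    · have : ((S.stab l).index : ℂ) * 1 = (m : ℂ) := h
      rw [mul_one] at this
      exact_mod_cast this
  refine ⟨(S.index_stabH l).trans hm, fun a ha b hb => ?_⟩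
  have := CharBasicLinear.comm_of_forall_apply_one (G := K) (fun β => by
    obtain ⟨d, hd, hd1⟩ := isIrrCharacter_apply_one β.2
    rcases key β with h | h <;> rw [hd1] at h ⊢
    · have : (S.stab l).index * d = 1 := by exact_mod_cast h
      exact absurd (Nat.eq_one_of_mul_eq_one_right this) hi1
    · have h' : (S.stab l).index * d = (S.stab l).index * 1 := by
        rw [mul_one]
        have : (S.stab l).index * d = m := by exact_mod_cast h
        rw [this, hm]
      rw [Nat.eq_of_mul_eq_mul_left (Nat.pos_of_ne_zero Subgroup.index_ne_zero_of_finite) h',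
        Nat.cast_one]) ⟨a, ha⟩ ⟨b, hb⟩
  exact congrArg Subtype.val this

/-- The image splitting modulo a normal subgroup. -/
def map (Z : Subgroup G) [Z.Normal] [Finite G] : Split (G ⧸ Z) where
  A := S.A.map (QuotientGroup.mk' Z)
  H := S.H.map (QuotientGroup.mk' Z)
  normal := S.normal.map _ (QuotientGroup.mk'_surjective Z)
  compl := by
    have hcop : (Nat.card (S.A.map (QuotientGroup.mk' Z))).Coprime (Nat.card (S.H.map (QuotientGroup.mk' Z))) :=
      Nat.Coprime.of_dvd (Subgroup.card_map_dvd _ _) (Subgroup.card_map_dvd _ _) S.coprime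
    refine Subgroup.isComplement'_of_disjoint_and_mul_eq_univ ?_ ?_
    · rw [disjoint_iff]
      exact Subgroup.inf_eq_bot_of_coprime hcop
    · refine Set.eq_univ_of_forall fun q => ?_
      obtain ⟨g, rfl⟩ := QuotientGroup.mk'_surjective Z q
      refine ⟨QuotientGroup.mk' Z (g * (S.proj g : G)⁻¹), ⟨_, S.proj_spec g, rfl⟩,
        QuotientGroup.mk' Z (S.proj g : G), ⟨_, (S.proj g).2, rfl⟩, ?_⟩
      show _ * _ = _
      rw [← map_mul, inv_mul_cancel_right]
  comm := by
    rintro _ ⟨a, ha, rfl⟩ _ ⟨b, hb, rfl⟩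
    rw [← map_mul, S.comm a ha b hb, map_mul]
  coprime := Nat.Coprime.of_dvd (Subgroup.card_map_dvd _ _) (Subgroup.card_map_dvd _ _) S.coprime

end Split

/-- The derived group of a nilpotent complement centralises `A`. -/
theorem commutator_centralizes {m : ℕ} : ∀ (n : ℕ) (G : Type u) [Group G] [Finite G] (S : Split G),
    Nat.card G = n → Group.IsNilpotent S.H → Deg G m →
    ∀ x ∈ S.H, ∀ y ∈ S.H, ∀ a ∈ S.A, ⁅x, y⁆ * a = a * ⁅x, y⁆ := by
  intro n
  induction n using Nat.strong_induction_on with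
  | _ n ih =>
  intro G _ _ S hn hnil hdeg x hx y hy a ha
  by_cases hab : ∀ u v : S.H, u * v = v * u
  · have h1 : ⁅x, y⁆ = 1 := by
      rw [commutatorElement_eq_one_iff_mul_comm]
      exact congrArg Subtype.val (hab ⟨x, hx⟩ ⟨y, hy⟩)
    rw [h1, one_mul, mul_one]
  have hHdeg : Deg S.H m := deg_of_surjective hdeg S.proj S.proj_surjective
  obtain ⟨χ, hχ, hχm, -⟩ := exists_degree hHdeg hab
  have hcen : ∀ z ∈ Subgroup.center S.H, ∀ b ∈ S.A, (z : G) * b = b * z := by
    intro z hz
    by_contra hzA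
    obtain ⟨l, hl⟩ := S.exists_separating hzA
    have hl' : S.stab l ≠ ⊤ := fun e => hl (show (z : G) ∈ S.stab l from e ▸ Subgroup.mem_top _)
    obtain ⟨hidx, hKab⟩ := S.stab_spec hdeg l hl'
    set K := S.stabH l
    have hzn : z ∉ K := fun h => hl (Subgroup.mem_subgroupOf.1 h)
    haveI : (Subgroup.zpowers z).Normal := ⟨fun u hu g => by
      have hu' : u ∈ Subgroup.center S.H := Subgroup.zpowers_le.2 hz hu
      rwa [Subgroup.mem_center_iff.1 hu' g, mul_inv_cancel_right]⟩
    have hab' : ∀ u ∈ K ⊔ Subgroup.zpowers z, ∀ v ∈ K ⊔ Subgroup.zpowers z, u * v = v * u := by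
      intro u hu v hv
      obtain ⟨k, hk, i, hi, rfl⟩ := Subgroup.mem_sup_of_normal_right.1 hu
      obtain ⟨k', hk', i', hi', rfl⟩ := Subgroup.mem_sup_of_normal_right.1 hv
      have hic := Subgroup.mem_center_iff.1 (Subgroup.zpowers_le.2 hz hi)
      have hic' := Subgroup.mem_center_iff.1 (Subgroup.zpowers_le.2 hz hi')
      rw [mul_assoc, ← mul_assoc i, ← hic k', mul_assoc, ← mul_assoc k, hKab k hk k' hk', hic' i,
        mul_assoc k', ← mul_assoc k i', hic' k, mul_assoc i', ← mul_assoc k' i']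
    have hlt : K < K ⊔ Subgroup.zpowers z := lt_of_le_of_ne le_sup_left fun e =>
      hzn (by rw [e]; exact Subgroup.mem_sup_right (Subgroup.mem_zpowers z))
    have h1 := le_index_abelian hχ hχm _ hab'
    have h2 := Subgroup.index_strictAnti hlt
    omega
  haveI : Nontrivial S.H := not_subsingleton_iff_nontrivial.1 fun h => hab fun u v => Subsingleton.elim _ _
  set Z : Subgroup G := (Subgroup.center S.H).map S.H.subtype with hZdef
  have hZc : Z ≤ Subgroup.center G := by
    rintro _ ⟨z, hz, rfl⟩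
    rw [Subgroup.mem_center_iff]
    intro g
    have h1 := hcen z hz _ (S.proj_spec g)
    have h2 : (S.proj g : G) * z = z * S.proj g :=
      congrArg Subtype.val (Subgroup.mem_center_iff.1 hz (S.proj g))
    calc g * (z : G) = (g * (S.proj g : G)⁻¹) * ((S.proj g : G) * z) := by group
      _ = ((g * (S.proj g : G)⁻¹) * z) * S.proj g := by rw [h2]; group
      _ = (z : G) * g := by rw [← h1]; group
  haveI : Z.Normal := ⟨fun u hu g => by
    rw [Subgroup.mem_center_iff.1 (hZc hu) g, mul_inv_cancel_right]; exact hu⟩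
  have hZne : Z ≠ ⊥ := by
    intro e
    haveI : Nontrivial (Subgroup.center S.H) :=
      (Subgroup.nontrivial_iff_ne_bot _).2 (Group.IsNilpotent.center_ne_bot S.H)
    obtain ⟨z, hz⟩ := exists_ne (1 : Subgroup.center S.H)
    have h1 : ((z : S.H) : G) ∈ Z := ⟨z, z.2, rfl⟩
    rw [e, Subgroup.mem_bot] at h1
    exact hz (Subtype.ext (Subtype.ext h1))
  have hlt : Nat.card (G ⧸ Z) < n := by
    rw [← hn, ← Subgroup.index_eq_card, ← Subgroup.card_mul_index Z]
    exact lt_mul_of_one_lt_left (Nat.pos_of_ne_zero Subgroup.index_ne_zero_of_finite)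
      ((Subgroup.one_lt_card_iff_ne_bot Z).2 hZne)
  have hnil' : Group.IsNilpotent (S.map Z).H :=
    Group.nilpotent_of_surjective ((QuotientGroup.mk' Z).subgroupMap S.H)
      (MonoidHom.subgroupMap_surjective _ _)
  have h1 := ih _ hlt (G ⧸ Z) (S.map Z) rfl hnil'
    (deg_of_surjective hdeg _ (QuotientGroup.mk'_surjective Z))
    _ ⟨x, hx, rfl⟩ _ ⟨y, hy, rfl⟩ _ ⟨a, ha, rfl⟩
  rw [← map_commutatorElement, ← map_mul, ← map_mul, QuotientGroup.mk'_eq_mk'] at h1
  obtain ⟨w, hw, hwe⟩ := h1
  -- the discrepancy lies in `A ⊓ H`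
  have hc : ⁅x, y⁆ ∈ S.H := by
    rw [commutatorElement_def]
    exact S.H.mul_mem (S.H.mul_mem (S.H.mul_mem hx hy) (S.H.inv_mem hx)) (S.H.inv_mem hy)
  have hwA : w ∈ S.A := by
    have e : w = (⁅x, y⁆ * a)⁻¹ * (a * ⁅x, y⁆) := by rw [← hwe]; group
    rw [e, show (⁅x, y⁆ * a)⁻¹ * (a * ⁅x, y⁆) = a⁻¹ * (⁅x, y⁆⁻¹ * a * ⁅x, y⁆) by group]
    exact S.A.mul_mem (S.A.inv_mem ha) (S.normal.conj_mem' a ha _)
  have hwH : w ∈ S.H := by
    obtain ⟨z, -, rfl⟩ := hw
    exact z.2
  have hw1 : w ∈ S.A ⊓ S.H := ⟨hwA, hwH⟩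
  rw [S.compl.disjoint.eq_bot, Subgroup.mem_bot] at hw1
  rw [← hwe, hw1, mul_one]

/-- The stabiliser of a moved linear character is then abelian. -/
theorem stab_abelian {G : Type u} [Group G] [Finite G] (S : Split G) {m : ℕ}
    (hnil : Group.IsNilpotent S.H) (hdeg : Deg G m) (hnc : ¬ ∀ h ∈ S.H, ∀ a ∈ S.A, h * a = a * h) :
    ∃ I : Subgroup G, I.index = m ∧ commutator G ≤ I ∧ ∀ a ∈ I, ∀ b ∈ I, a * b = b * a := by
  classical
  have := Fintype.ofFinite G
  have hcomm := commutator_centralizes (m := m) _ G S rfl hnil hdeg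
  push Not at hnc
  obtain ⟨h0, hh0, a0, ha0, hne0⟩ := hnc
  obtain ⟨l, hl⟩ := S.exists_separating (g := h0) (fun h => hne0 (h a0 ha0))
  have hl' : S.stab l ≠ ⊤ := fun e => hl (show h0 ∈ S.stab l from e ▸ Subgroup.mem_top _)
  obtain ⟨hidx, hKab⟩ := S.stab_spec hdeg l hl'
  set K := S.stabH l with hKdef
  have hcK : commutator S.H ≤ K := by
    rw [_root_.commutator_def, Subgroup.commutator_le]
    intro u _ v _
    rw [hKdef, Split.stabH, Subgroup.mem_subgroupOf]
    show S.twist _ l = l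
    refine MonoidHom.ext fun b => congrArg l (Subtype.ext ?_)
    show ((⁅u, v⁆ : S.H) : G) * b * ((⁅u, v⁆ : S.H) : G)⁻¹ = b
    rw [show ((⁅u, v⁆ : S.H) : G) = ⁅(u : G), (v : G)⁆ from map_commutatorElement S.H.subtype u v]
    rw [hcomm u u.2 v v.2 b b.2, mul_inv_cancel_right]
  have hKn : ∀ h k : S.H, k ∈ K → h * k * h⁻¹ ∈ K := fun h k hk => by
    have : h * k * h⁻¹ = ⁅h, k⁆ * k := by rw [commutatorElement_def]; group
    rw [this]
    exact K.mul_mem (hcK (Subgroup.commutator_mem_commutator (Subgroup.mem_top h) (Subgroup.mem_top k))) hk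
  have hKcen : ∀ s ∈ K, ∀ b ∈ S.A, (s : G) * b = b * s := by
    intro s hs
    by_contra hns
    obtain ⟨μ, hμ⟩ := S.exists_separating hns
    letI : CommGroup (S.A →* ℂˣ) := inferInstance
    let N : (S.A →* ℂˣ) →* (S.A →* ℂˣ) := ∏ t : K, S.twist ((t : S.H) : G)
    have hN : ∀ f, N f = ∏ t : K, S.twist ((t : S.H) : G) f := fun f =>
      MonoidHom.finsetProd_apply _ _ f
    set η := μ / S.twist (s : G) μ with hη
    have hNη : N η = 1 := by
      rw [hη, map_div, div_eq_one, hN, hN,
        ← Equiv.prod_comp (Equiv.mulLeft (⟨s, hs⟩ : K)) (fun t : K => S.twist ((t : S.H) : G) μ)]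
      refine Finset.prod_congr rfl fun t _ => ?_
      rw [← S.twist_mul]
      rfl
    have hfix : ∀ f, (∀ t : K, S.twist ((t : S.H) : G) f = f) → N f = f ^ Nat.card K := fun f hf => by
      rw [hN, Finset.prod_congr rfl (fun t _ => hf t), Finset.prod_const, Finset.card_univ,
        Nat.card_eq_fintype_card]
    have hlK : ∀ t : K, S.twist ((t : S.H) : G) l = l := fun t => Subgroup.mem_subgroupOf.1 t.2
    have hcopK : (Nat.card K).Coprime (Nat.card S.A) :=
      (S.coprime.symm).coprime_dvd_left (K.card_subgroup_dvd_card)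
    have hpow : ∀ f : S.A →* ℂˣ, f ^ Nat.card K = 1 → f = 1 := fun f hf => by
      have h2 : f ^ Nat.card S.A = 1 := MonoidHom.ext fun a => by
        rw [MonoidHom.pow_apply, ← map_pow, pow_card_eq_one', map_one]; rfl
      have := pow_gcd_eq_one.2 ⟨hf, h2⟩
      rwa [hcopK.gcd_eq_one, pow_one] at this
    have hequiv : ∀ (h : S.H) f, N (S.twist (h : G) f) = S.twist (h : G) (N f) := by
      intro h f
      rw [hN, hN, map_prod]
      let e : K ≃ K :=
        { toFun := fun t => ⟨h * t * h⁻¹, hKn h t t.2⟩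
          invFun := fun t => ⟨h⁻¹ * t * h, by simpa using hKn h⁻¹ t t.2⟩
          left_inv := fun t => Subtype.ext (by simp [mul_assoc])
          right_inv := fun t => Subtype.ext (by simp [mul_assoc]) }
      rw [← Equiv.prod_comp e (fun t : K => S.twist (h : G) (S.twist ((t : S.H) : G) f))]
      refine Finset.prod_congr rfl fun t _ => ?_
      rw [← S.twist_mul, ← S.twist_mul]
      refine congrArg (fun w => S.twist w f) ?_
      show (h : G) * ((t : S.H) : G) = ((h * (t : S.H) * h⁻¹ : S.H) : G) * h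
      simp
    set x := l * η with hx
    have hsub : ∀ h ∈ S.stabH x, h ∈ K ∧ S.twist (h : G) η = η := by
      intro h hh
      have hh' : S.twist (h : G) x = x := Subgroup.mem_subgroupOf.1 hh
      have hNx : N x = l ^ Nat.card K := by rw [hx, map_mul, hNη, mul_one, hfix l hlK]
      have h1 : (S.twist (h : G) l / l) ^ Nat.card K = 1 := by
        rw [div_pow, ← map_pow, ← hNx, ← hequiv, hh', div_self']
      have h2 : S.twist (h : G) l = l := div_eq_one.1 (hpow _ h1)
      refine ⟨Subgroup.mem_subgroupOf.2 h2, ?_⟩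
      rw [hx, map_mul, h2] at hh'
      exact mul_left_cancel hh'
    have hxne : S.stab x ≠ ⊤ := fun e => by
      apply hl
      have : (⟨h0, hh0⟩ : S.H) ∈ S.stabH x := Subgroup.mem_subgroupOf.2 (e ▸ Subgroup.mem_top _)
      exact Subgroup.mem_subgroupOf.1 (hsub _ this).1
    obtain ⟨hxidx, -⟩ := S.stab_spec hdeg x hxne
    have heq : S.stabH x = K := by
      refine Subgroup.eq_of_le_of_card_ge (fun h hh => (hsub h hh).1) ?_
      have h1 := (S.stabH x).card_mul_index
      have h2 := K.card_mul_index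
      rw [hxidx] at h1
      rw [hidx] at h2
      have hm0 : 0 < m := hidx ▸ Nat.pos_of_ne_zero Subgroup.index_ne_zero_of_finite
      exact (Nat.eq_of_mul_eq_mul_right hm0 (h1.trans h2.symm)).ge
    have hη1 : η = 1 := hpow η (by
      rw [← hNη, hfix η fun t => (hsub t (by rw [heq]; exact t.2)).2])
    exact hμ (div_eq_one.1 (hη ▸ hη1)).symm
  refine ⟨S.stab l, (S.index_stabH l).symm.trans hidx, ?_, ?_⟩
  · rw [_root_.commutator_def, Subgroup.commutator_le]
    intro g _ h _
    rw [← S.comap_stabH l, Subgroup.mem_comap, map_commutatorElement]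
    exact hcK (Subgroup.commutator_mem_commutator (Subgroup.mem_top _) (Subgroup.mem_top _))
  · intro a ha b hb
    have ha' : S.proj a ∈ K := by rwa [← S.comap_stabH l, Subgroup.mem_comap] at ha
    have hb' : S.proj b ∈ K := by rwa [← S.comap_stabH l, Subgroup.mem_comap] at hb
    have hA : Commute (a * (S.proj a : G)⁻¹) (b * (S.proj b : G)⁻¹) :=
      S.comm _ (S.proj_spec a) _ (S.proj_spec b)
    have hH : Commute (S.proj a : G) (S.proj b : G) := congrArg Subtype.val (hKab _ ha' _ hb')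
    have h1 : Commute (S.proj a : G) (b * (S.proj b : G)⁻¹) := hKcen _ ha' _ (S.proj_spec b)
    have h2 : Commute (S.proj b : G) (a * (S.proj a : G)⁻¹) := hKcen _ hb' _ (S.proj_spec a)
    have := ((hA.mul_left h1).mul_right (h2.symm.mul_left hH))
    rw [inv_mul_cancel_right, inv_mul_cancel_right] at this
    exact this

/-- The dichotomy for groups with degrees `{1, m}`. -/
theorem dichotomy {G : Type u} [Group G] [Finite G] {m : ℕ} (hdeg : Deg G m)
    (hna : ¬ ∀ a b : G, a * b = b * a) :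
    (∃ I : Subgroup G, I.index = m ∧ commutator G ≤ I ∧ ∀ a ∈ I, ∀ b ∈ I, a * b = b * a) ∨
      ∃ (p e : ℕ) (S : Split G), p.Prime ∧ m = p ^ e ∧ IsPGroup p S.H ∧
        ∀ h ∈ S.H, ∀ a ∈ S.A, h * a = a * h := by
  classical
  have := Fintype.ofFinite G
  obtain ⟨χ, hχ, hχm, hχ1⟩ := exists_degree hdeg hna
  have hm0 : m ≠ 0 := fun e => isIrrCharacter_apply_one_ne_zero hχ (by rw [hχm, e, Nat.cast_zero])
  have hdvd : ∀ p ∈ m.primeFactors, ∀ ξ : IrrCharacter G,
      charDegree (ξ : G → ℂ) ≠ 1 → p ∣ charDegree (ξ : G → ℂ) := by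
    intro p hp ξ hξ
    have h1 := CharAverage.irr_apply_one ξ
    rcases hdeg ξ ξ.2 with h | h <;> rw [h] at h1
    · exact absurd (by exact_mod_cast h1.symm) hξ
    · have : charDegree (ξ : G → ℂ) = m := by exact_mod_cast h1.symm
      rw [this]
      exact Nat.dvd_of_mem_primeFactors hp
  choose Np hNn hNc hNk using fun p : m.primeFactors =>
    S4456.result (G := G) (p : ℕ) (Nat.prime_of_mem_primeFactors p.2) (hdvd p p.2)
  haveI := hNn
  set A : Subgroup G := ⨅ p : m.primeFactors, Np p with hAdef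
  haveI hAn : A.Normal := Subgroup.normal_iInf_normal hNn
  have hAp : ∀ p : m.primeFactors, ¬ (p : ℕ) ∣ Nat.card A := fun p h =>
    (Nat.prime_of_mem_primeFactors p.2).not_dvd_one
      ((hNc p).gcd_eq_one ▸ Nat.dvd_gcd (h.trans (Subgroup.card_dvd_of_le (iInf_le _ p))) dvd_rfl)
  have hidx : ∀ q : ℕ, q.Prime → q ∣ A.index → q ∈ m.primeFactors := by
    intro q hq hqd
    by_contra hqm
    haveI := Fact.mk hq
    obtain ⟨P⟩ : Nonempty (Sylow q G) := inferInstance
    have hle : (P : Subgroup G) ≤ A := le_iInf fun p x hx => by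
      rw [← QuotientGroup.eq_one_iff]
      obtain ⟨k, hk⟩ := hNk p
      obtain ⟨j, hj⟩ := P.2 ⟨x, hx⟩
      have h1 : (x : G ⧸ Np p) ^ (p : ℕ) ^ k = 1 := by
        rw [← hk, Subgroup.index_eq_card, pow_card_eq_one']
      have h2 : (x : G ⧸ Np p) ^ q ^ j = 1 := by
        rw [← QuotientGroup.mk_pow, show x ^ q ^ j = 1 from congrArg Subtype.val hj, QuotientGroup.mk_one]
      have h3 := pow_gcd_eq_one.2 ⟨h1, h2⟩
      have hpq : (p : ℕ) ≠ q := fun e => hqm (e ▸ p.2)
      rwa [Nat.Coprime.gcd_eq_one (Nat.Coprime.pow k j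
        ((Nat.coprime_primes (Nat.prime_of_mem_primeFactors p.2) hq).2 hpq)), pow_one] at h3
    exact P.not_dvd_index (hqd.trans (Subgroup.index_dvd_of_le hle))
  have hcop : (Nat.card A).Coprime A.index := Nat.coprime_of_dvd fun q hq h1 h2 =>
    hAp ⟨q, hidx q hq h2⟩ h1
  obtain ⟨H, hH⟩ := Subgroup.exists_right_complement'_of_coprime hcop
  have hHc : Nat.card H = A.index := by
    have h1 := hH.card_mul
    rw [← A.card_mul_index] at h1
    exact Nat.eq_of_mul_eq_mul_left Nat.card_pos h1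
  have hab : ∀ a ∈ A, ∀ b ∈ A, a * b = b * a := by
    intro a ha b hb
    refine congrArg Subtype.val (CharBasicLinear.comm_of_forall_apply_one (G := A) (fun θ => ?_) ⟨a, ha⟩ ⟨b, hb⟩)
    obtain ⟨d, hd, hd1⟩ := isIrrCharacter_apply_one θ.2
    have hind := isCharacter_ind A (isCharacter_of_isIrrCharacter θ.2)
    obtain ⟨ξ, hξ, hne⟩ := exists_constituent hind (isCharacter_ne_zero_of_apply_one
      (Nat.mul_pos (Nat.pos_of_ne_zero A.index_ne_zero_of_finite) hd) (by rw [ind_one_apply, hd1, Nat.cast_mul]))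
    rw [inner_ind_left A _ (isClassFunction_irr hξ), ← CharInduced.inner_conj_symm] at hne
    obtain ⟨k, d', hd', hk, -⟩ := CharProjDegree.degree_dvd A hξ θ.2 (by simpa using hne)
    rcases hdeg ξ hξ with h | h <;> rw [hk] at h
    · have : d' * k = 1 := by exact_mod_cast h
      rw [hd', Nat.eq_one_of_mul_eq_one_right this, Nat.cast_one]
    · have hdm : d' ∣ m := ⟨k, (by exact_mod_cast h : d' * k = m).symm⟩
      obtain ⟨j, -, hj, hjd⟩ := CharBasicInt.exists_apply_one_dvd_card θ.2
      have hjd' : j = d' := by rw [hd'] at hj; exact_mod_cast hj.symm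
      have : d' = 1 := by
        by_contra hd1'
        obtain ⟨q, hq, hqd⟩ := Nat.exists_prime_and_dvd hd1'
        exact hAp ⟨q, Nat.mem_primeFactors.2 ⟨hq, hqd.trans hdm, hm0⟩⟩ (hqd.trans (hjd' ▸ hjd))
      rw [hd', this, Nat.cast_one]
  let S : Split G := ⟨A, H, hAn, hH, hab, hHc ▸ hcop⟩
  haveI : ∀ p : m.primeFactors, Group.IsNilpotent (G ⧸ Np p) := fun p => by
    haveI := Fact.mk (Nat.prime_of_mem_primeFactors p.2)
    obtain ⟨k, hk⟩ := hNk p
    exact (IsPGroup.of_card (n := k) (Subgroup.index_eq_card (Np p) ▸ hk)).isNilpotent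
  have hnil : Group.IsNilpotent H := by
    let f : H →* ∀ p : m.primeFactors, G ⧸ Np p := MonoidHom.pi fun p => (QuotientGroup.mk' (Np p)).comp H.subtype
    refine Subgroup.isNilpotent_of_ker_le_center f ?_
    intro x hx
    have hxA : (x : G) ∈ A := by
      rw [hAdef, Subgroup.mem_iInf]
      intro p
      exact (QuotientGroup.eq_one_iff _).1 (congrFun (MonoidHom.mem_ker.1 hx) p)
    have hx1 : (x : G) ∈ A ⊓ H := ⟨hxA, x.2⟩
    rw [hH.disjoint.eq_bot, Subgroup.mem_bot] at hx1
    rw [show x = 1 from Subtype.ext hx1]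
    exact one_mem _
  by_cases hnc : ∀ h ∈ H, ∀ a ∈ A, h * a = a * h
  swap
  · exact Or.inl (stab_abelian S hnil hdeg hnc)
  refine Or.inr ?_
  obtain ⟨p, hp⟩ : ∃ p : m.primeFactors, ¬ ∀ a b : G ⧸ Np p, a * b = b * a := by
    by_contra hall
    push Not at hall
    apply hna
    have hHab : ∀ u ∈ H, ∀ v ∈ H, u * v = v * u := fun u hu v hv => by
      rw [← commutatorElement_eq_one_iff_mul_comm, ← Subgroup.mem_bot, ← hH.disjoint.eq_bot]
      refine ⟨?_, ?_⟩
      · show _ ∈ A
        rw [hAdef, Subgroup.mem_iInf]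
        intro p
        rw [← QuotientGroup.eq_one_iff, ← QuotientGroup.mk'_apply, map_commutatorElement,
          commutatorElement_eq_one_iff_mul_comm]
        exact hall p _ _
      · show _ ∈ H
        rw [commutatorElement_def]
        exact H.mul_mem (H.mul_mem (H.mul_mem hu hv) (H.inv_mem hu)) (H.inv_mem hv)
    intro a b
    have hA' : Commute (a * (S.proj a : G)⁻¹) (b * (S.proj b : G)⁻¹) :=
      S.comm _ (S.proj_spec a) _ (S.proj_spec b)
    have h1 : Commute (S.proj a : G) (b * (S.proj b : G)⁻¹) := hnc _ (S.proj a).2 _ (S.proj_spec b)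
    have h2 : Commute (S.proj b : G) (a * (S.proj a : G)⁻¹) := hnc _ (S.proj b).2 _ (S.proj_spec a)
    have h3 : Commute (S.proj a : G) (S.proj b : G) := hHab _ (S.proj a).2 _ (S.proj b).2
    have := ((hA'.mul_left h1).mul_right (h2.symm.mul_left h3))
    rw [inv_mul_cancel_right, inv_mul_cancel_right] at this
    exact this
  have hpp := Nat.prime_of_mem_primeFactors p.2
  obtain ⟨ψ, hψ, hψm, -⟩ := exists_degree (deg_of_surjective hdeg _ (QuotientGroup.mk'_surjective (Np p))) hp
  obtain ⟨k, hk⟩ := hNk p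
  obtain ⟨j, -, hj, hjd⟩ := CharBasicInt.exists_apply_one_dvd_card hψ
  have hjm : j = m := by rw [hψm] at hj; exact_mod_cast hj.symm
  rw [← Subgroup.index_eq_card, hk, hjm] at hjd
  obtain ⟨e, -, he⟩ := (Nat.dvd_prime_pow hpp).1 hjd
  refine ⟨(p : ℕ), e, S, hpp, he, ?_, hnc⟩
  haveI := Fact.mk hpp
  exact IsPGroup.of_card (hHc.trans (Nat.eq_prime_pow_of_unique_prime_dvd
    Subgroup.index_ne_zero_of_finite fun {q} hq hqd => (Nat.prime_dvd_prime_iff_eq hq hpp).1
      (hq.dvd_of_dvd_pow (he ▸ Nat.dvd_of_mem_primeFactors (hidx q hq hqd)))))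

/-- With two degrees the derived group is abelian. -/
theorem comm_commutator {G : Type u} [Group G] [Finite G] {m : ℕ} (hdeg : Deg G m) :
    ∀ a ∈ commutator G, ∀ b ∈ commutator G, a * b = b * a := by
  intro a ha b hb
  by_cases hna : ∀ x y : G, x * y = y * x
  · exact hna a b
  rcases dichotomy hdeg hna with ⟨I, -, hI, hab⟩ | ⟨p, e, S, hp, -, hP, hnc⟩
  · exact hab a (hI ha) b (hI hb)
  haveI := Fact.mk hp
  haveI : Group.IsNilpotent S.H := hP.isNilpotent
  have hH := comm_commutator_of_nilpotent (deg_of_surjective hdeg S.proj S.proj_surjective)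
  have hle : commutator G ≤ (commutator S.H).map S.H.subtype := by
    rw [_root_.commutator_def, Subgroup.commutator_le]
    intro g _ h _
    refine ⟨⁅S.proj g, S.proj h⁆, Subgroup.commutator_mem_commutator (Subgroup.mem_top _) (Subgroup.mem_top _), ?_⟩
    rw [map_commutatorElement]
    show ⁅(S.proj g : G), (S.proj h : G)⁆ = ⁅g, h⁆
    have hg1 : g = (g * (S.proj g : G)⁻¹) * S.proj g := (inv_mul_cancel_right _ _).symm
    have hh1 : h = (h * (S.proj h : G)⁻¹) * S.proj h := (inv_mul_cancel_right _ _).symm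
    have hcen : ∀ z ∈ S.A, ∀ w : G, z * w = w * z := fun z hz w => by
      have h1 : Commute z (w * (S.proj w : G)⁻¹) := S.comm _ hz _ (S.proj_spec w)
      have h2 : Commute z (S.proj w : G) := (hnc _ (S.proj w).2 _ hz).symm
      have := h1.mul_right h2
      rwa [inv_mul_cancel_right] at this
    have hu := hcen _ (S.proj_spec g)
    have hv := hcen _ (S.proj_spec h)
    generalize g * (S.proj g : G)⁻¹ = u at hg1 hu
    generalize h * (S.proj h : G)⁻¹ = v at hh1 hv
    generalize (S.proj g : G) = g' at hg1 ⊢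
    generalize (S.proj h : G) = h' at hh1 ⊢
    subst hg1 hh1
    simp only [commutatorElement_def, mul_inv_rev]
    rw [show u * g' * (v * h') * (g'⁻¹ * u⁻¹) * (h'⁻¹ * v⁻¹) = u * (g' * (v * h') * g'⁻¹) * u⁻¹ * h'⁻¹ * v⁻¹ by group,
      hu, mul_inv_cancel_right, ← mul_assoc g' v h', ← hv g',
      show v * g' * h' * g'⁻¹ * h'⁻¹ * v⁻¹ = v * (g' * h' * g'⁻¹ * h'⁻¹) * v⁻¹ by group,
      hv, mul_inv_cancel_right]
  obtain ⟨x, hx, rfl⟩ := hle ha
  obtain ⟨y, hy, rfl⟩ := hle hb
  rw [← map_mul, hH x hx y hy, map_mul]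

theorem deg_of_charDegree {G : Type u} [Group G] [Finite G] {m : ℕ}
    (hcd : ∀ χ : Cfsg.IrrCharacter G, Cfsg.charDegree (χ : G → ℂ) = 1 ∨ Cfsg.charDegree (χ : G → ℂ) = m) :
    Deg G m := by
  intro χ hχ
  have h := CharAverage.irr_apply_one (⟨χ, hχ⟩ : Cfsg.IrrCharacter G)
  rcases hcd ⟨χ, hχ⟩ with e | e <;> rw [e] at h
  · exact Or.inl (h.trans Nat.cast_one)
  · exact Or.inr h

theorem not_comm_of_charDegree {G : Type u} [Group G] [Finite G] {m : ℕ}
    (hm : ∃ χ : Cfsg.IrrCharacter G, Cfsg.charDegree (χ : G → ℂ) = m) (hm1 : m ≠ 1) :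
    ¬ ∀ a b : G, a * b = b * a := by
  intro h
  obtain ⟨χ, hχ⟩ := hm
  have h1 := CharBasicLinear.apply_one_eq_one_of_comm h χ.2
  rw [CharAverage.irr_apply_one χ, hχ] at h1
  exact hm1 (by exact_mod_cast h1)

end Cfsg.Agent.TwoDegrees72
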