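import Mathlib
import Cfsg.Agent.Lib.TwoDegrees72

/-!
Groups whose irreducible degrees are `{1, p}` (Isaacs 12.11): an abelian subgroup of index `p`
containing the derived group, or centre of index `p ^ 3`.
-/

set_option autoImplicit false

open scoped commutatorElement
open Cfsg Cfsg.Agent

namespace Cfsg.Agent.TwoDegreesPrime72

open CharBasic CharBasicOrth CharBasicDecomp CharInduced TwoDegrees72

universe u

variable {G : Type u} [Group G] {p : ℕ}

/-- `|χ(1)|² ≤ [G : Z(G)]`. -/
theorem sq_le_index_center [Finite G] {χ : G → ℂ} (hχ : IsIrrCharacter G χ) {d : ℕ}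
    (hd : χ 1 = (d : ℂ)) : d ^ 2 ≤ (Subgroup.center G).index := by
  classical
  have := Fintype.ofFinite G
  have h1 := classInner_irr_self hχ
  obtain ⟨n, ρ, hρ, rfl⟩ := hχ
  have hdn : n = d := by
    rw [Representation.char_one, Module.finrank_fintype_fun_eq_card, Fintype.card_fin] at hd
    exact_mod_cast hd
  subst hdn
  haveI := hρ
  have hnorm : ∀ z ∈ Subgroup.center G, ‖ρ.character z‖ = (n : ℝ) := by
    intro z hz
    obtain ⟨c, hc⟩ := CharBasic.exists_scalar_of_mem_center ρ hz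
    have hn0 : 0 < n := by
      have := CharBasic.finrank_pos_of_irreducible ρ
      rwa [Module.finrank_fintype_fun_eq_card, Fintype.card_fin] at this
    have hpow : c ^ orderOf z = 1 := by
      have h2 : ρ z ^ orderOf z = 1 := by rw [← map_pow, pow_orderOf_eq_one, map_one]
      rw [hc] at h2
      have h3 := congrArg (fun f : Module.End ℂ (Fin n → ℂ) => f (fun _ => 1) ⟨0, hn0⟩) h2
      have h4 : ∀ k : ℕ, ((c • LinearMap.id : Module.End ℂ (Fin n → ℂ)) ^ k) = (c ^ k) • LinearMap.id := by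
        intro k
        induction k with
        | zero => ext v; simp
        | succ k ih => rw [pow_succ, ih]; ext v; simp [pow_succ, mul_assoc, mul_left_comm]
      simpa [h4] using h3
    have hc1 : ‖c‖ = 1 := Complex.norm_eq_one_of_pow_eq_one hpow (orderOf_pos z).ne'
    simp only [Representation.character, hc, map_smul, LinearMap.trace_id,
      Module.finrank_fintype_fun_eq_card, Fintype.card_fin, smul_eq_mul, norm_mul, hc1, one_mul,
      Complex.norm_natCast]
  have hsum : ∑ g : G, ‖ρ.character g‖ ^ 2 = (Nat.card G : ℝ) := by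
    rw [Cfsg.classInner, inv_mul_eq_one₀ (Nat.cast_ne_zero.2 Nat.card_pos.ne')] at h1
    have h2 := congrArg Complex.re h1
    rw [Complex.natCast_re, Complex.re_sum] at h2
    rw [h2]
    refine Finset.sum_congr rfl fun g _ => ?_
    rw [Complex.mul_conj, Complex.ofReal_re, Complex.normSq_eq_norm_sq]
  have hle : (Nat.card (Subgroup.center G) : ℝ) * (n : ℝ) ^ 2 ≤ (Nat.card G : ℝ) := by
    rw [← hsum]
    calc (Nat.card (Subgroup.center G) : ℝ) * (n : ℝ) ^ 2
        = ∑ g ∈ Finset.univ.filter (· ∈ Subgroup.center G), ‖ρ.character g‖ ^ 2 := by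
          rw [Finset.sum_congr rfl (fun g hg => by rw [hnorm g (Finset.mem_filter.1 hg).2]),
            Finset.sum_const, nsmul_eq_mul, Nat.card_eq_fintype_card, Fintype.card_subtype]
      _ ≤ _ := Finset.sum_le_sum_of_subset_of_nonneg (Finset.subset_univ _) (fun _ _ _ => by positivity)
  have : Nat.card (Subgroup.center G) * n ^ 2 ≤ Nat.card (Subgroup.center G) * (Subgroup.center G).index := by
    rw [Subgroup.card_mul_index]
    exact_mod_cast hle
  exact Nat.le_of_mul_le_mul_left this Nat.card_pos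

/-- Conjugation on linear characters of a normal subgroup. -/
def tw (A : Subgroup G) [A.Normal] (g : G) : (A →* ℂˣ) →* (A →* ℂˣ) where
  toFun l := l.comp (MulAut.conjNormal g : A ≃* A).toMonoidHom
  map_one' := rfl
  map_mul' _ _ := rfl

theorem tw_apply (A : Subgroup G) [A.Normal] (g : G) (l : A →* ℂˣ) (a : A) :
    tw A g l a = l (MulAut.conjNormal g a) := rfl

theorem tw_mul (A : Subgroup G) [A.Normal] (g h : G) (l : A →* ℂˣ) :
    tw A (g * h) l = tw A h (tw A g l) := by
  refine MonoidHom.ext fun a => ?_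
  simp only [tw_apply, map_mul, MulAut.mul_apply]

theorem tw_one (A : Subgroup G) [A.Normal] (l : A →* ℂˣ) : tw A 1 l = l := by
  refine MonoidHom.ext fun a => ?_
  simp only [tw_apply, map_one, MulAut.one_apply]

/-- The stabiliser of a linear character. -/
def stb (A : Subgroup G) [A.Normal] (l : A →* ℂˣ) : Subgroup G where
  carrier := {g | tw A g l = l}
  one_mem' := tw_one A l
  mul_mem' := fun {a b} (ha : tw A a l = l) (hb : tw A b l = l) => by
    show tw A (a * b) l = l
    rw [tw_mul, ha, hb]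
  inv_mem' := fun {a} (ha : tw A a l = l) => by
    show tw A a⁻¹ l = l
    conv_lhs => rw [← ha]
    rw [← tw_mul, mul_inv_cancel, tw_one]

/-- Stabilisers of linear characters of abelian normal subgroups have index `1` or `p`. -/
theorem stb_index [Finite G] (hp : p.Prime) (hdeg : Deg G p) (A : Subgroup G) [A.Normal]
    (l : A →* ℂˣ) : stb A l = ⊤ ∨ (stb A l).index = p := by
  classical
  have := Fintype.ofFinite G
  let θ : A → ℂ := fun a => (l a : ℂ)
  have hθ : IsIrrCharacter A θ := isIrrCharacter_linear l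
  have hI : inertia A θ = stb A l := by
    ext g
    rw [mem_inertia, conjFun_eq_comp]
    constructor
    · exact fun h => MonoidHom.ext fun a => Units.ext (congrFun h a)
    · intro h
      funext a
      exact congrArg Units.val (DFunLike.congr_fun (show tw A g l = l from h) a)
  have hind := isCharacter_ind A (isCharacter_of_isIrrCharacter hθ)
  have hθ1 : θ 1 = ((1 : ℕ) : ℂ) := by simp [θ]
  obtain ⟨χ, hχ, hne⟩ := exists_constituent hind (isCharacter_ne_zero_of_apply_one
    (d := A.index) (Nat.pos_of_ne_zero A.index_ne_zero_of_finite)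
    (by rw [ind_one_apply, hθ1, Nat.cast_one, mul_one]))
  rw [inner_ind_left A _ (isClassFunction_irr hχ), ← CharInduced.inner_conj_symm] at hne
  have hne' : classInner (fun n : A => χ n) θ ≠ 0 := by simpa using hne
  obtain ⟨e, he⟩ := classInner_isCharacter (isCharacter_res A (isCharacter_of_isIrrCharacter hχ))
    (isCharacter_of_isIrrCharacter hθ)
  have h1 := CharCliffordCorr.apply_one_eq A hχ hθ hne'
  rw [he, hI, hθ1, Nat.cast_one, mul_one, ← Nat.cast_mul] at h1
  rcases hdeg χ hχ with h | h <;> rw [h] at h1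
  · left
    have : e * (stb A l).index = 1 := by exact_mod_cast h1.symm
    exact Subgroup.index_eq_one.1 (Nat.eq_one_of_mul_eq_one_left this)
  · have : e * (stb A l).index = p := by exact_mod_cast h1.symm
    rcases (Nat.dvd_prime hp).1 (Dvd.intro_left _ this) with h2 | h2
    · exact Or.inl (Subgroup.index_eq_one.1 h2)
    · exact Or.inr h2

/-- Linear characters separate the points of a finite abelian subgroup. -/
theorem exists_hom_ne [Finite G] (A : Subgroup G) (hab : ∀ a ∈ A, ∀ b ∈ A, a * b = b * a) {a : A}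
    (ha : a ≠ 1) : ∃ l : A →* ℂˣ, l a ≠ 1 := by
  letI : CommGroup A := { (inferInstance : Group A) with mul_comm := fun x y => Subtype.ext (hab x x.2 y y.2) }
  exact CommGroup.exists_apply_ne_one_of_hasEnoughRootsOfUnity A ℂ ha

/-- Linear characters extend from subgroups of a finite abelian subgroup. -/
theorem exists_hom_extend [Finite G] (B : Subgroup G) (hab : ∀ a ∈ B, ∀ b ∈ B, a * b = b * a)
    (H : Subgroup B) (f : H →* ℂˣ) : ∃ l : B →* ℂˣ, ∀ h : H, l (h : B) = f h := by
  letI : CommGroup B := { (inferInstance : Group B) with mul_comm := fun x y => Subtype.ext (hab x x.2 y y.2) }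
  obtain ⟨l, hl⟩ := MonoidHom.domRestrict_surjective ℂ H f
  exact ⟨l, fun h => DFunLike.congr_fun hl h⟩

/-- A maximal abelian subgroup containing the derived group, with no abelian subgroup of index
`p` above the derived group, has central quotient of order `p`. -/
theorem maxAb_structure [Finite G] (hp : p.Prime) (hdeg : Deg G p)
    (hno : ∀ B : Subgroup G, commutator G ≤ B → (∀ a ∈ B, ∀ b ∈ B, a * b = b * a) → B.index ≠ p)
    (hna : ¬ ∀ a b : G, a * b = b * a)
    (A : Subgroup G) [hAn : A.Normal] (hA : commutator G ≤ A) (hab : ∀ a ∈ A, ∀ b ∈ A, a * b = b * a)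
    (hmax : ∀ x : G, (∀ a ∈ A, x * a = a * x) → x ∈ A) :
    ∃ a1 ∈ A, a1 ∉ Subgroup.center G ∧ a1 ^ p ∈ Subgroup.center G ∧
      (∀ a ∈ A, ∃ i : ℤ, a * (a1 ^ i)⁻¹ ∈ Subgroup.center G) ∧
      ∀ g : G, ⁅g, a1⁆ ∈ Subgroup.center G := by
  classical
  haveI := Fact.mk hp
  letI : CommGroup (A →* ℂˣ) := inferInstance
  have hAstb : ∀ l : A →* ℂˣ, A ≤ stb A l := fun l b hb => by
    refine MonoidHom.ext fun a => ?_
    rw [tw_apply]
    exact congrArg l (Subtype.ext (by rw [MulAut.conjNormal_apply, hab b hb a a.2, mul_inv_cancel_right]))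
  have hcomm : ∀ (g h : G) (l : A →* ℂˣ), tw A (g * h) l = tw A (h * g) l := by
    intro g h l
    have hc : ⁅g, h⁆ ∈ A := hA (Subgroup.commutator_mem_commutator (Subgroup.mem_top _) (Subgroup.mem_top _))
    rw [show g * h = ⁅g, h⁆ * (h * g) by rw [commutatorElement_def]; group, tw_mul,
      show tw A ⁅g, h⁆ l = l from hAstb l hc]
  have hsep : ∀ g : G, g ∉ A → ∃ l, g ∉ stb A l := by
    intro g hg
    have : ¬ ∀ a ∈ A, g * a = a * g := fun h => hg (hmax g h)
    push Not at this
    obtain ⟨a, ha, hne⟩ := this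
    have hne' : (MulAut.conjNormal g (⟨a, ha⟩ : A)) * (⟨a, ha⟩ : A)⁻¹ ≠ 1 := by
      intro h
      rw [mul_inv_eq_one] at h
      have := congrArg Subtype.val h
      rw [MulAut.conjNormal_apply] at this
      exact hne (mul_inv_eq_iff_eq_mul.1 this)
    obtain ⟨l, hl⟩ := exists_hom_ne A hab hne'
    refine ⟨l, fun h => hl ?_⟩
    rw [map_mul, map_inv, mul_inv_eq_one]
    exact DFunLike.congr_fun (show tw A g l = l from h) ⟨a, ha⟩
  have hidx : ∀ (l : A →* ℂˣ) g, g ∉ stb A l → (stb A l).index = p := fun l g hg =>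
    (stb_index hp hdeg A l).resolve_left fun e => hg (e ▸ Subgroup.mem_top g)
  have hnle : ∀ l l' : A →* ℂˣ, (stb A l).index = p → (stb A l').index = p → stb A l ≠ stb A l' →
      ¬ stb A l ≤ stb A l' := fun l l' h h' hne hle => by
    refine hne (Subgroup.eq_of_le_of_card_ge hle ?_)
    have e1 := (stb A l).card_mul_index
    have e2 := (stb A l').card_mul_index
    rw [h] at e1; rw [h'] at e2
    exact (Nat.eq_of_mul_eq_mul_right hp.pos (e2.trans e1.symm)).le
  -- two characters with different stabilisers determine the same order `p` group of displacements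
  have hpair : ∀ l1 l2 : A →* ℂˣ, (stb A l1).index = p → (stb A l2).index = p → stb A l1 ≠ stb A l2 →
      ∃ d : A →* ℂˣ, d ≠ 1 ∧ d ^ p = 1 ∧ (∀ g, tw A g d = d) ∧
        (∀ g, tw A g l1 / l1 ∈ Subgroup.zpowers d) ∧ (∀ g, tw A g l2 / l2 ∈ Subgroup.zpowers d) := by
    intro l1 l2 h1 h2 hne
    set K1 := stb A l1
    set K2 := stb A l2
    haveI hn1 : K1.Normal := ⟨fun u hu g => by
      show tw A (g * u * g⁻¹) l1 = l1
      rw [hcomm (g * u) g⁻¹, inv_mul_cancel_left]
      exact hu⟩
    obtain ⟨k, hk1, hk2⟩ := SetLike.not_le_iff_exists.1 (hnle l1 l2 h1 h2 hne)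
    obtain ⟨j, hj2, hj1⟩ := SetLike.not_le_iff_exists.1 (hnle l2 l1 h2 h1 (Ne.symm hne))
    obtain ⟨h, hhT, hhn⟩ : ∃ h ∈ stb A (l1 * l2), h ∉ K1 := by
      by_contra hall
      push Not at hall
      have hle : stb A (l1 * l2) ≤ K1 := fun t ht => hall t ht
      have hle2 : stb A (l1 * l2) ≤ K2 := fun t ht => by
        have e : tw A t (l1 * l2) = l1 * l2 := ht
        rw [map_mul, show tw A t l1 = l1 from hle ht] at e
        exact mul_left_cancel e
      rcases stb_index hp hdeg A (l1 * l2) with e | e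
      · exact hp.ne_one (h1.symm.trans (Subgroup.index_eq_one.2 (top_le_iff.1 (e ▸ hle))))
      · have e1 := Subgroup.relIndex_mul_index hle
        rw [h1, e] at e1
        have : (stb A (l1 * l2)).relIndex K1 = 1 := by
          have hp0 := hp.pos
          exact (Nat.mul_eq_right hp.ne_zero).1 e1
        exact hk2 (hle2 (Subgroup.relIndex_eq_one.1 this hk1))
    set d := tw A h l1 / l1 with hd
    have hd2 : d = l2 / tw A h l2 := by
      have e : tw A h (l1 * l2) = l1 * l2 := hhT
      rw [map_mul] at e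
      rw [hd, div_eq_div_iff_mul_eq_mul, e, mul_comm]
    have hd0 : d ≠ 1 := fun e => hhn (div_eq_one.1 (hd ▸ e))
    have hdK1 : ∀ k ∈ K1, tw A k d = d := fun k hk => by
      rw [hd, map_div, ← tw_mul, hcomm, tw_mul, show tw A k l1 = l1 from hk]
    have hdK2 : ∀ k ∈ K2, tw A k d = d := fun k hk => by
      rw [hd2, map_div, ← tw_mul A h k, hcomm, tw_mul, show tw A k l2 = l2 from hk]
    have hdall : ∀ g, tw A g d = d := by
      have hle : K1 ⊔ K2 ≤ stb A d := sup_le (fun k hk => hdK1 k hk) (fun k hk => hdK2 k hk)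
      have htop : K1 ⊔ K2 = ⊤ := by
        rw [← Subgroup.index_eq_one]
        have e1 := Subgroup.relIndex_mul_index (le_sup_left : K1 ≤ K1 ⊔ K2)
        rw [h1] at e1
        rcases (Nat.dvd_prime hp).1 (Dvd.intro_left _ e1) with e | e
        · exact e
        · exfalso
          rw [e] at e1
          exact hj1 (Subgroup.relIndex_eq_one.1 ((Nat.mul_eq_right hp.ne_zero).1 e1)
            (Subgroup.mem_sup_right hj2))
      exact fun g => hle (htop ▸ Subgroup.mem_top g)
    have hpow : ∀ n : ℕ, tw A (h ^ n) l1 = l1 * d ^ n := by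
      intro n
      induction n with
      | zero => rw [pow_zero, pow_zero, tw_one, mul_one]
      | succ n ih =>
        rw [pow_succ, tw_mul, ih, map_mul, map_pow, hdall, pow_succ']
        rw [show tw A h l1 = l1 * d from by rw [hd]; exact (mul_div_cancel _ _).symm, mul_assoc]
    have hhp : h ^ p ∈ K1 := by
      rw [← h1]; exact Subgroup.pow_index_mem K1 h
    have hdp : d ^ p = 1 := by
      have := hpow p
      rw [show tw A (h ^ p) l1 = l1 from hhp] at this
      exact mul_eq_left.1 this.symm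
    have hgen : ∀ g : G, ∃ n : ℕ, g * (h ^ n)⁻¹ ∈ K1 := by
      intro g
      haveI : Fact (Nat.card (G ⧸ K1)).Prime := ⟨by rw [← Subgroup.index_eq_card, h1]; exact hp⟩
      have hq : (h : G ⧸ K1) ≠ 1 := fun e => hhn ((QuotientGroup.eq_one_iff h).1 e)
      obtain ⟨n, hn⟩ := (mem_powers_iff_mem_zpowers (G := G ⧸ K1)).2
        (show (g : G ⧸ K1) ∈ Subgroup.zpowers (h : G ⧸ K1) by
          rw [zpowers_eq_top_of_prime_card (rfl : Nat.card (G ⧸ K1) = Nat.card (G ⧸ K1)) hq]; trivial)
      refine ⟨n, ?_⟩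
      rw [← QuotientGroup.eq_one_iff, QuotientGroup.mk_mul, QuotientGroup.mk_inv, QuotientGroup.mk_pow,
        show (h : G ⧸ K1) ^ n = (g : G ⧸ K1) from hn, mul_inv_cancel]
    refine ⟨d, hd0, hdp, hdall, fun g => ?_, fun g => ?_⟩
    · obtain ⟨n, hn⟩ := hgen g
      have e : tw A g l1 = l1 * d ^ n := by
        conv_lhs => rw [← inv_mul_cancel_right g (h ^ n)]
        rw [tw_mul, show tw A (g * (h ^ n)⁻¹) l1 = l1 from hn, hpow]
      rw [e, mul_div_cancel_left]
      exact Subgroup.pow_mem _ (Subgroup.mem_zpowers d) n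
    · -- the roles of the two characters are symmetric up to inverting `d`
      obtain ⟨n, hn⟩ := hgen g
      have hle : K1 ≤ ⊤ := le_top
      have hfix : ∀ u, tw A u l2 / l2 ∈ Subgroup.zpowers d ↔ u ∈ (({
          carrier := {u | tw A u l2 / l2 ∈ Subgroup.zpowers d}
          one_mem' := by
            show tw A 1 l2 / l2 ∈ Subgroup.zpowers d
            rw [tw_one, div_self']; exact one_mem _
          mul_mem' := fun {u v} (hu : tw A u l2 / l2 ∈ Subgroup.zpowers d)
              (hv : tw A v l2 / l2 ∈ Subgroup.zpowers d) => by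
            show tw A (u * v) l2 / l2 ∈ Subgroup.zpowers d
            have e : tw A (u * v) l2 / l2 = (tw A u l2 / l2) * (tw A v l2 / l2) := by
              rw [tw_mul]
              have e2 : tw A v (tw A u l2 / l2) = tw A u l2 / l2 := by
                obtain ⟨i, hi⟩ := hu
                have hi' : d ^ i = tw A u l2 / l2 := hi
                rw [← hi', map_zpow, hdall]
              rw [map_div] at e2
              calc tw A v (tw A u l2) / l2
                  = (tw A v (tw A u l2) / tw A v l2) * (tw A v l2 / l2) := by rw [div_mul_div_cancel]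
                _ = _ := by rw [e2]
            rw [e]; exact mul_mem hu hv } : Submonoid G)) := fun u => Iff.rfl
      have hjoin : g ∈ (K1 ⊔ K2 : Subgroup G) := by
        have e1 := Subgroup.relIndex_mul_index (le_sup_left : K1 ≤ K1 ⊔ K2)
        rw [h1] at e1
        rcases (Nat.dvd_prime hp).1 (Dvd.intro_left _ e1) with e | e
        · rw [Subgroup.index_eq_one.1 e]; trivial
        · exfalso
          rw [e] at e1
          exact hj1 (Subgroup.relIndex_eq_one.1 ((Nat.mul_eq_right hp.ne_zero).1 e1)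
            (Subgroup.mem_sup_right hj2))
      obtain ⟨u, hu, v, hv, rfl⟩ := Subgroup.mem_sup_of_normal_left.1 hjoin
      rw [hfix]
      refine mul_mem ?_ ?_
      · -- `u ∈ K1`: write `u` through `h` and `K2`
        show tw A u l2 / l2 ∈ Subgroup.zpowers d
        have e : tw A u (l1 * l2) / (l1 * l2) = tw A u l2 / l2 := by
          rw [map_mul, show tw A u l1 = l1 from hu, mul_div_mul_left_eq_div]
        by_cases huT : u ∈ stb A (l1 * l2)
        · rw [← e, show tw A u (l1 * l2) = l1 * l2 from huT, div_self']; exact one_mem _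
        have h12 := hidx _ u huT
        haveI hn12 : (stb A (l1 * l2)).Normal := ⟨fun w hw g => by
          show tw A (g * w * g⁻¹) (l1 * l2) = l1 * l2
          rw [hcomm (g * w) g⁻¹, inv_mul_cancel_left]
          exact hw⟩
        haveI : Fact (Nat.card (G ⧸ stb A (l1 * l2))).Prime :=
          ⟨by rw [← Subgroup.index_eq_card, h12]; exact hp⟩
        -- `k` generates `G` modulo `stb A (l1 * l2)`
        have hkh : j ∉ stb A (l1 * l2) := fun hj => hj1 (by
          have e : tw A j (l1 * l2) = l1 * l2 := hj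
          rw [map_mul, show tw A j l2 = l2 from hj2] at e
          exact mul_right_cancel e)
        obtain ⟨i, hi⟩ := (mem_powers_iff_mem_zpowers (G := G ⧸ stb A (l1 * l2))).2
          (show (u : G ⧸ stb A (l1 * l2)) ∈ Subgroup.zpowers (j : G ⧸ stb A (l1 * l2)) by
            rw [zpowers_eq_top_of_prime_card (rfl : Nat.card (G ⧸ stb A (l1 * l2)) = _)
              (fun e => hkh ((QuotientGroup.eq_one_iff j).1 e))]; trivial)
        have hi' : u * (j ^ i)⁻¹ ∈ stb A (l1 * l2) := by
          rw [← QuotientGroup.eq_one_iff, QuotientGroup.mk_mul, QuotientGroup.mk_inv, QuotientGroup.mk_pow,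
            show (j : G ⧸ stb A (l1 * l2)) ^ i = (u : G ⧸ stb A (l1 * l2)) from hi, mul_inv_cancel]
        have e' : tw A u (l1 * l2) = tw A (j ^ i) (l1 * l2) := by
          conv_lhs => rw [← inv_mul_cancel_right u (j ^ i)]
          rw [tw_mul, show tw A (u * (j ^ i)⁻¹) (l1 * l2) = l1 * l2 from hi']
        rw [← e, e', map_mul, show tw A (j ^ i) l2 = l2 from K2.pow_mem hj2 i, mul_div_mul_right_eq_div]
        obtain ⟨n', hn'⟩ := hgen (j ^ i)
        have e3 : tw A (j ^ i) l1 = l1 * d ^ n' := by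
          conv_lhs => rw [← inv_mul_cancel_right (j ^ i) (h ^ n')]
          rw [tw_mul, show tw A (j ^ i * (h ^ n')⁻¹) l1 = l1 from hn', hpow]
        rw [e3, mul_div_cancel_left]
        exact Subgroup.pow_mem _ (Subgroup.mem_zpowers d) n'
      · show tw A v l2 / l2 ∈ Subgroup.zpowers d
        rw [show tw A v l2 = l2 from hv, div_self']
        exact one_mem _
  -- existence of two different stabilisers
  obtain ⟨g0, hg0⟩ : ∃ g, g ∉ A := by
    by_contra h
    push Not at h
    exact hna fun a b => hab a (h a) b (h b)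
  obtain ⟨l1, hl1⟩ := hsep g0 hg0
  have h1 := hidx l1 g0 hl1
  obtain ⟨k, hk1, hkA⟩ : ∃ k ∈ stb A l1, k ∉ A := by
    by_contra h
    push Not at h
    exact hno A hA hab ((le_antisymm (hAstb l1) h) ▸ h1)
  obtain ⟨l2, hl2⟩ := hsep k hkA
  have h2 := hidx l2 k hl2
  have hne : stb A l1 ≠ stb A l2 := fun e => hl2 (e ▸ hk1)
  obtain ⟨d, hd0, hdp, hdall, hd1, hd2⟩ := hpair l1 l2 h1 h2 hne
  have hall : ∀ (l : A →* ℂˣ) g, tw A g l / l ∈ Subgroup.zpowers d := by
    intro l g
    by_cases hlT : g ∈ stb A l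
    · rw [show tw A g l = l from hlT, div_self']; exact one_mem _
    have hl := hidx l g hlT
    -- choose the one of `l1`, `l2` with stabiliser different from that of `l`
    obtain ⟨l', hl', hne', hd'⟩ : ∃ l', (stb A l').index = p ∧ stb A l ≠ stb A l' ∧
        ∀ g, tw A g l' / l' ∈ Subgroup.zpowers d := by
      by_cases e : stb A l = stb A l1
      · exact ⟨l2, h2, fun e2 => hne (e ▸ e2), hd2⟩
      · exact ⟨l1, h1, e, hd1⟩
    obtain ⟨d', hd'0, hd'p, -, hdl, hdl'⟩ := hpair l l' hl hl' hne'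
    obtain ⟨g', hg'⟩ : ∃ g', g' ∉ stb A l' := by
      by_contra hh
      push Not at hh
      rw [(Subgroup.eq_top_iff' _).2 hh, Subgroup.index_top] at hl'
      exact hp.ne_one hl'.symm
    have hq : tw A g' l' / l' ≠ 1 := fun e => hg' (div_eq_one.1 e)
    have hsub : ∀ {c : A →* ℂˣ}, c ≠ 1 → c ^ p = 1 → ∀ {x}, x ∈ Subgroup.zpowers c → x ≠ 1 →
        Subgroup.zpowers x = Subgroup.zpowers c := by
      intro c hc0 hcp x hx hx1
      have hoc : orderOf c = p := orderOf_eq_prime hcp hc0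
      refine Subgroup.eq_of_le_of_card_ge (Subgroup.zpowers_le.2 hx) ?_
      rw [Nat.card_zpowers, Nat.card_zpowers, hoc]
      have hxd : orderOf x ∣ p := hoc ▸ orderOf_dvd_of_mem_zpowers hx
      rcases (Nat.dvd_prime hp).1 hxd with e | e
      · exact absurd (orderOf_eq_one_iff.1 e) hx1
      · exact e.ge
    rw [← hsub hd0 hdp (hd' g') hq, hsub hd'0 hd'p (hdl' g') hq]
    exact hdl g
  have hker : ∀ a : A, d a = 1 → (a : G) ∈ Subgroup.center G := by
    intro a ha
    rw [Subgroup.mem_center_iff]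
    intro g
    have h0 : (MulAut.conjNormal g a) * a⁻¹ = (1 : A) := by
      by_contra hne1
      obtain ⟨l, hl⟩ := exists_hom_ne A hab hne1
      apply hl
      obtain ⟨i, hi⟩ := hall l g
      have h3 := DFunLike.congr_fun (show d ^ i = tw A g l / l from hi) a
      rw [MonoidHom.div_apply, tw_apply] at h3
      rw [map_mul, map_inv, ← div_eq_mul_inv, ← h3]
      show (d ^ i) a = 1
      have : ((MonoidHom.eval a) : (A →* ℂˣ) →* ℂˣ) (d ^ i) = (MonoidHom.eval a d) ^ i := map_zpow _ _ _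
      simpa [ha] using this
    rw [mul_inv_eq_one] at h0
    have := congrArg Subtype.val h0
    rw [MulAut.conjNormal_apply] at this
    exact mul_inv_eq_iff_eq_mul.1 this
  obtain ⟨a1, ha1⟩ : ∃ a : A, d a ≠ 1 := by
    by_contra h
    push Not at h
    exact hd0 (MonoidHom.ext h)
  have hdA : ∀ a : A, d a ^ p = 1 := fun a => by
    rw [← MonoidHom.pow_apply, hdp]; rfl
  refine ⟨a1, a1.2, fun hz => ha1 ?_, ?_, fun a ha => ?_, fun g => ?_⟩
  · -- a central element is killed by every displacement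
    obtain ⟨g', hg'⟩ : ∃ g', g' ∉ stb A l1 := ⟨g0, hl1⟩
    have hq : tw A g' l1 / l1 ≠ 1 := fun e => hg' (div_eq_one.1 e)
    obtain ⟨i, hi⟩ := hd1 g'
    have hi' : d ^ i = tw A g' l1 / l1 := hi
    have h0 : (tw A g' l1 / l1) a1 = 1 := by
      rw [MonoidHom.div_apply, tw_apply, div_eq_one]
      exact congrArg l1 (Subtype.ext (by
        rw [MulAut.conjNormal_apply, Subgroup.mem_center_iff.1 hz g', mul_inv_cancel_right]))
    have hoc : orderOf d = p := orderOf_eq_prime hdp hd0
    have hzp : Subgroup.zpowers (tw A g' l1 / l1) = Subgroup.zpowers d := by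
      refine Subgroup.eq_of_le_of_card_ge (Subgroup.zpowers_le.2 (hd1 g')) ?_
      rw [Nat.card_zpowers, Nat.card_zpowers, hoc]
      rcases (Nat.dvd_prime hp).1 (hoc ▸ orderOf_dvd_of_mem_zpowers (hd1 g')) with e | e
      · exact absurd (orderOf_eq_one_iff.1 e) hq
      · exact e.ge
    obtain ⟨j, hj⟩ : d ∈ Subgroup.zpowers (tw A g' l1 / l1) := hzp ▸ Subgroup.mem_zpowers d
    have : ((MonoidHom.eval a1) : (A →* ℂˣ) →* ℂˣ) ((tw A g' l1 / l1) ^ j) = 1 := by
      rw [map_zpow]
      show ((tw A g' l1 / l1) a1) ^ j = 1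
      rw [h0, one_zpow]
    rw [← hj]
    exact this
  · rw [← Subgroup.coe_pow]
    exact hker _ (by rw [map_pow]; exact hdA a1)
  · have hord : orderOf (d a1) = p := orderOf_eq_prime (hdA a1) ha1
    have hprim : IsPrimitiveRoot (d a1) p := IsPrimitiveRoot.iff_orderOf.2 hord
    have hmem : d ⟨a, ha⟩ ∈ rootsOfUnity p ℂ := hdA _
    haveI : NeZero p := ⟨hp.ne_zero⟩
    rw [← hprim.zpowers_eq] at hmem
    obtain ⟨i, hi⟩ := hmem
    refine ⟨i, ?_⟩
    have := hker (⟨a, ha⟩ * (a1 ^ i)⁻¹) (by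
      rw [map_mul, map_inv, map_zpow, show d a1 ^ i = d ⟨a, ha⟩ from hi, mul_inv_cancel])
    simpa using this
  · refine hker ⟨⁅g, (a1 : G)⁆, hA (Subgroup.commutator_mem_commutator (Subgroup.mem_top _) (Subgroup.mem_top _))⟩ ?_
    have e : (⟨⁅g, (a1 : G)⁆, hA (Subgroup.commutator_mem_commutator (Subgroup.mem_top _) (Subgroup.mem_top _))⟩ : A)
        = MulAut.conjNormal g a1 * a1⁻¹ := Subtype.ext (by
      show ⁅g, (a1 : G)⁆ = _
      rw [Subgroup.coe_mul, MulAut.conjNormal_apply, Subgroup.coe_inv, commutatorElement_def])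
    rw [e, map_mul, map_inv, mul_inv_eq_one]
    exact DFunLike.congr_fun (hdall g) a1


theorem comm_mul_left {x y z : G} (h : ⁅y, z⁆ ∈ Subgroup.center G) : ⁅x * y, z⁆ = ⁅x, z⁆ * ⁅y, z⁆ := by
  have hc := Subgroup.mem_center_iff.1 h
  calc ⁅x * y, z⁆ = x * ⁅y, z⁆ * (z * x⁻¹ * z⁻¹) := by simp only [commutatorElement_def]; group
    _ = ⁅y, z⁆ * (x * (z * x⁻¹ * z⁻¹)) := by rw [hc x, mul_assoc]
    _ = ⁅y, z⁆ * ⁅x, z⁆ := by simp only [commutatorElement_def]; group
    _ = _ := (hc _).symm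

theorem comm_mul_right {x y z : G} (h : ⁅x, z⁆ ∈ Subgroup.center G) : ⁅x, y * z⁆ = ⁅x, y⁆ * ⁅x, z⁆ := by
  have hc := Subgroup.mem_center_iff.1 h
  calc ⁅x, y * z⁆ = ⁅x, y⁆ * (y * ⁅x, z⁆ * y⁻¹) := by simp only [commutatorElement_def]; group
    _ = _ := by rw [hc y, mul_inv_cancel_right]

theorem comm_zpow_left {x z : G} (h : ∀ n : ℤ, ⁅x ^ n, z⁆ ∈ Subgroup.center G) (n : ℤ) :
    ⁅x ^ n, z⁆ = ⁅x, z⁆ ^ n := by
  induction n with
  | zero => simp
  | succ n ih =>
    rw [zpow_add_one, comm_mul_left (by simpa using h 1), ih, zpow_add_one]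
  | pred n ih =>
    have h1 : ⁅x⁻¹, z⁆ = ⁅x, z⁆⁻¹ := by
      have e := comm_mul_left (x := x) (y := x⁻¹) (z := z) (by simpa using h (-1))
      rw [mul_inv_cancel, show ⁅(1 : G), z⁆ = 1 from commutatorElement_one_left z] at e
      exact eq_inv_of_mul_eq_one_right e.symm
    rw [zpow_sub_one, comm_mul_left (by simpa using h (-1)), ih, h1, zpow_sub_one]

/-- Linear functionals on the centre cut out at most hyperplanes. -/
theorem perp_le [Finite G] (hp : p.Prime) (hdeg : Deg G p)
    (h2 : ∀ x y : G, ⁅x, y⁆ ∈ Subgroup.center G) (φ : Subgroup.center G →* ℂˣ) (x z q q0 : G)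
    (hxz : φ ⟨⁅x, z⁆, h2 x z⟩ = 1) (hq : φ ⟨⁅q, x⁆, h2 q x⟩ = 1) (hq0 : φ ⟨⁅q0, x⁆, h2 q0 x⟩ ≠ 1) :
    φ ⟨⁅q, z⁆, h2 q z⟩ = 1 := by
  classical
  haveI := Fact.mk hp
  set K : Subgroup G := φ.ker.map (Subgroup.center G).subtype
  haveI : K.Normal := ⟨fun u hu g => by
    obtain ⟨w, hw, rfl⟩ := hu
    rw [Subgroup.coe_subtype, Subgroup.mem_center_iff.1 w.2 g, mul_inv_cancel_right]
    exact ⟨w, hw, rfl⟩⟩
  set π := QuotientGroup.mk' K
  set Zb : Subgroup (G ⧸ K) := (Subgroup.center G).map π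
  have hπc : ∀ u v : G, φ ⟨⁅u, v⁆, h2 u v⟩ = 1 → π u * π v = π v * π u := fun u v h => by
    rw [← commutatorElement_eq_one_iff_mul_comm, ← map_commutatorElement]
    exact (QuotientGroup.eq_one_iff _).2 ⟨_, h, rfl⟩
  set B : Subgroup (G ⧸ K) := Subgroup.closure ({π x, π z} ∪ (Zb : Set (G ⧸ K)))
  have hgen : ∀ u ∈ ({π x, π z} ∪ (Zb : Set (G ⧸ K))), ∀ v ∈ ({π x, π z} ∪ (Zb : Set (G ⧸ K))),
      v * u = u * v := by
    have hxz' := hπc x z hxz
    have hZ : ∀ w ∈ (Zb : Set (G ⧸ K)), ∀ v : G ⧸ K, v * w = w * v := by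
      rintro _ ⟨w, hw, rfl⟩ v
      obtain ⟨v, rfl⟩ := QuotientGroup.mk'_surjective K v
      rw [← map_mul, Subgroup.mem_center_iff.1 hw v, map_mul]
    rintro u (hu | hu) v (hv | hv)
    · rcases hu with rfl | rfl <;> rcases hv with rfl | rfl <;> first | rfl | exact hxz' | exact hxz'.symm
    · exact (hZ v hv u).symm
    · exact hZ u hu v
    · exact hZ u hu v
  have hBab : ∀ a ∈ B, ∀ b ∈ B, a * b = b * a := by
    have h1 : B ≤ Subgroup.centralizer ({π x, π z} ∪ (Zb : Set (G ⧸ K))) :=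
      (Subgroup.closure_le _).2 fun u hu => Subgroup.mem_centralizer_iff.2 fun v hv => hgen u hu v hv
    have h2' : B ≤ Subgroup.centralizer (B : Set (G ⧸ K)) :=
      (Subgroup.closure_le _).2 fun u hu => Subgroup.mem_centralizer_iff.2 fun v hv =>
        (Subgroup.mem_centralizer_iff.1 (h1 hv) u hu).symm
    exact fun a ha b hb => (Subgroup.mem_centralizer_iff.1 (h2' ha) b hb).symm
  have hZB : Zb ≤ B := fun w hw => Subgroup.subset_closure (Or.inr hw)
  haveI hBn : B.Normal := ⟨fun u hu g => by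
    obtain ⟨g', hg'⟩ := QuotientGroup.mk'_surjective K g
    obtain ⟨u', hu'⟩ := QuotientGroup.mk'_surjective K u
    have hc : ⁅g, u⁆ ∈ B := by
      rw [← hg', ← hu', ← map_commutatorElement]
      exact hZB ⟨_, h2 g' u', rfl⟩
    have h4 : g * u * g⁻¹ = ⁅g, u⁆ * u := by rw [commutatorElement_def]; group
    rw [h4]
    exact B.mul_mem hc hu⟩
  let πZ : Subgroup.center G →* Zb.subgroupOf B :=
    ((π.comp (Subgroup.center G).subtype).codRestrict B (fun w => hZB ⟨w, w.2, rfl⟩)).codRestrict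
      (Zb.subgroupOf B) (fun w => Subgroup.mem_subgroupOf.2 ⟨w, w.2, rfl⟩)
  have hsurj : Function.Surjective πZ := by
    rintro ⟨⟨b, hb⟩, hb'⟩
    obtain ⟨w, hw, rfl⟩ := Subgroup.mem_subgroupOf.1 hb'
    exact ⟨⟨w, hw⟩, rfl⟩
  have hkerle : πZ.ker ≤ φ.ker := by
    intro w hw
    have h1 : π (w : G) = 1 := congrArg (fun t : Zb.subgroupOf B => ((t : B) : G ⧸ K)) (MonoidHom.mem_ker.1 hw)
    obtain ⟨w', hw', he⟩ := (QuotientGroup.eq_one_iff _).1 h1
    rwa [← Subtype.ext he]
  let φb : Zb.subgroupOf B →* ℂˣ := MonoidHom.liftOfSurjective πZ hsurj ⟨φ, hkerle⟩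
  have hφb : ∀ w, φb (πZ w) = φ w := fun w =>
    MonoidHom.liftOfRightInverse_comp_apply πZ _ (Function.rightInverse_surjInv hsurj) ⟨φ, hkerle⟩ w
  obtain ⟨l, hl⟩ := exists_hom_extend B hBab (Zb.subgroupOf B) φb
  have hlφ : ∀ (g : G) (v : G) (hv : π v ∈ B) , tw B (π g) l ⟨π v, hv⟩ =
      φ ⟨⁅g, v⁆, h2 g v⟩ * l ⟨π v, hv⟩ := by
    intro g v hv
    have e : MulAut.conjNormal (π g) (⟨π v, hv⟩ : B) =
        ((πZ ⟨⁅g, v⁆, h2 g v⟩ : Zb.subgroupOf B) : B) * ⟨π v, hv⟩ := Subtype.ext (by
      rw [MulAut.conjNormal_apply, Subgroup.coe_mul]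
      show π g * π v * (π g)⁻¹ = π ⁅g, v⁆ * π v
      rw [commutatorElement_def]
      simp only [map_mul, map_inv, inv_mul_cancel_right])
    rw [tw_apply, e, map_mul]
    congr 1
    rw [hl, hφb]
  have hx : π x ∈ B := Subgroup.subset_closure (Or.inl (Or.inl rfl))
  have hz : π z ∈ B := Subgroup.subset_closure (Or.inl (Or.inr rfl))
  set T := (stb B l).comap π
  have hTx : ∀ g ∈ T, φ ⟨⁅g, x⁆, h2 g x⟩ = 1 ∧ φ ⟨⁅g, z⁆, h2 g z⟩ = 1 := fun g hg => by
    have hg' : tw B (π g) l = l := hg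
    have e1 := hlφ g x hx
    have e2 := hlφ g z hz
    rw [hg'] at e1 e2
    exact ⟨mul_eq_right.1 e1.symm, mul_eq_right.1 e2.symm⟩
  let C : Subgroup G :=
    { carrier := {g | φ ⟨⁅g, x⁆, h2 g x⟩ = 1}
      one_mem' := by
        show φ _ = 1
        rw [show (⟨⁅(1 : G), x⁆, h2 1 x⟩ : Subgroup.center G) = 1 from Subtype.ext (commutatorElement_one_left x), map_one]
      mul_mem' := fun {a b} (ha : φ ⟨⁅a, x⁆, h2 a x⟩ = 1) (hb : φ ⟨⁅b, x⁆, h2 b x⟩ = 1) => by
        show φ _ = 1
        rw [show (⟨⁅a * b, x⁆, h2 (a * b) x⟩ : Subgroup.center G) = ⟨⁅a, x⁆, h2 a x⟩ * ⟨⁅b, x⁆, h2 b x⟩ from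
          Subtype.ext (comm_mul_left (h2 b x)), map_mul, ha, hb, mul_one]
      inv_mem' := fun {a} (ha : φ ⟨⁅a, x⁆, h2 a x⟩ = 1) => by
        show φ _ = 1
        have e : (⟨⁅a, x⁆, h2 a x⟩ : Subgroup.center G) * ⟨⁅a⁻¹, x⁆, h2 a⁻¹ x⟩ = 1 := Subtype.ext (by
          rw [Subgroup.coe_mul]
          show ⁅a, x⁆ * ⁅a⁻¹, x⁆ = _
          rw [← comm_mul_left (h2 a⁻¹ x), mul_inv_cancel, commutatorElement_one_left]
          rfl)
        have := congrArg φ e
        rwa [map_mul, ha, one_mul, map_one] at this }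
  have hTC : T ≤ C := fun g hg => (hTx g hg).1
  have hCne : C ≠ ⊤ := fun e => hq0 (show q0 ∈ C from e ▸ Subgroup.mem_top q0)
  have hTidx : T.index = 1 ∨ T.index = p := by
    have hπs : Function.Surjective π := QuotientGroup.mk'_surjective K
    rcases stb_index hp (deg_of_surjective hdeg π hπs) B l with e | e
    · left
      show ((stb B l).comap π).index = 1
      rw [e, Subgroup.comap_top, Subgroup.index_top]
    · right
      show ((stb B l).comap π).index = p
      rw [Subgroup.index_comap_of_surjective _ hπs, e]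
  have e1 := Subgroup.relIndex_mul_index hTC
  have hT : T.index = p := hTidx.resolve_left fun e =>
    hCne (top_le_iff.1 (Subgroup.index_eq_one.1 e ▸ hTC))
  rw [hT] at e1
  have hCp : C.index = p := ((Nat.dvd_prime hp).1 (Dvd.intro_left _ e1)).resolve_left fun e =>
    hCne (Subgroup.index_eq_one.1 e)
  rw [hCp] at e1
  have hCT : C ≤ T := Subgroup.relIndex_eq_one.1 ((Nat.mul_eq_right hp.ne_zero).1 e1)
  exact (hTx q (hCT hq)).2

/-- **Isaacs 12.11**, forward direction. -/
theorem index_center_eq [Finite G] (hp : p.Prime) (hdeg : Deg G p)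
    (hna : ¬ ∀ a b : G, a * b = b * a)
    (hno : ∀ B : Subgroup G, commutator G ≤ B → (∀ a ∈ B, ∀ b ∈ B, a * b = b * a) → B.index ≠ p) :
    (Subgroup.center G).index = p ^ 3 := by
  classical
  haveI := Fact.mk hp
  -- maximal abelian subgroups above a given abelian subgroup
  have hext : ∀ B : Subgroup G, commutator G ≤ B → (∀ a ∈ B, ∀ b ∈ B, a * b = b * a) →
      ∃ A : Subgroup G, B ≤ A ∧ A.Normal ∧ commutator G ≤ A ∧ (∀ a ∈ A, ∀ b ∈ A, a * b = b * a) ∧
        ∀ x : G, (∀ a ∈ A, x * a = a * x) → x ∈ A := by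
    intro B hB hBab
    haveI := Fintype.ofFinite (Subgroup G)
    obtain ⟨A, hA, hAmax⟩ := (Finset.univ.filter fun A : Subgroup G =>
        B ≤ A ∧ ∀ a ∈ A, ∀ b ∈ A, a * b = b * a).exists_max_image (fun A => Nat.card A)
      ⟨B, Finset.mem_filter.2 ⟨Finset.mem_univ _, le_rfl, hBab⟩⟩
    obtain ⟨-, hBA, hAab⟩ := Finset.mem_filter.1 hA
    refine ⟨A, hBA, ⟨fun n hn g => ?_⟩, hB.trans hBA, hAab, fun x hx => ?_⟩
    · have : g * n * g⁻¹ = ⁅g, n⁆ * n := by rw [commutatorElement_def]; group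
      rw [this]
      exact A.mul_mem (hBA (hB (Subgroup.commutator_mem_commutator (Subgroup.mem_top _) (Subgroup.mem_top _)))) hn
    · set A' := Subgroup.closure ((A : Set G) ∪ {x})
      have hle : A ≤ A' := fun a ha => Subgroup.subset_closure (Or.inl ha)
      have hgen : ∀ u ∈ (A : Set G) ∪ {x}, ∀ v ∈ (A : Set G) ∪ {x}, v * u = u * v := by
        rintro u (hu | rfl) v (hv | rfl)
        · exact hAab v hv u hu
        · exact hx u hu
        · exact (hx v hv).symm
        · rfl
      have h1 : A' ≤ Subgroup.centralizer ((A : Set G) ∪ {x}) :=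
        (Subgroup.closure_le _).2 fun u hu => Subgroup.mem_centralizer_iff.2 fun v hv => hgen u hu v hv
      have h2 : A' ≤ Subgroup.centralizer (A' : Set G) :=
        (Subgroup.closure_le _).2 fun u hu => Subgroup.mem_centralizer_iff.2 fun v hv =>
          (Subgroup.mem_centralizer_iff.1 (h1 hv) u hu).symm
      have h3 := hAmax A' (Finset.mem_filter.2 ⟨Finset.mem_univ _, hBA.trans hle,
        fun a ha b hb => (Subgroup.mem_centralizer_iff.1 (h2 ha) b hb).symm⟩)
      rw [Subgroup.eq_of_le_of_card_ge hle h3]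
      exact Subgroup.subset_closure (Or.inr rfl)
  obtain ⟨A, -, hAn, hA, hAab, hAmax⟩ := hext (commutator G) le_rfl (comm_commutator hdeg)
  haveI := hAn
  obtain ⟨a1, ha1, ha1Z, ha1p, hA1, hc1⟩ := maxAb_structure hp hdeg hno hna A hA hAab hAmax
  have hZA : Subgroup.center G ≤ A := fun z hz =>
    hAmax z fun a _ => (Subgroup.mem_center_iff.1 hz a).symm
  -- the displacement homomorphism
  letI : CommGroup (Subgroup.center G) :=
    { (inferInstance : Group (Subgroup.center G)) with
      mul_comm := fun x y => Subtype.ext (Subgroup.mem_center_iff.1 y.2 x) }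
  let δ : G →* Subgroup.center G :=
    { toFun := fun g => ⟨⁅g, a1⁆, hc1 g⟩
      map_one' := Subtype.ext (commutatorElement_one_left a1)
      map_mul' := fun g h => Subtype.ext (comm_mul_left (hc1 h)) }
  have hδker : δ.ker = A := by
    ext g
    rw [MonoidHom.mem_ker]
    constructor
    · intro h
      have h1 : Commute g a1 := commutatorElement_eq_one_iff_mul_comm.1 (congrArg Subtype.val h)
      refine hAmax g fun a ha => ?_
      obtain ⟨i, hi⟩ := hA1 a ha
      have h3 : Commute g (a * (a1 ^ i)⁻¹ * a1 ^ i) :=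
        Commute.mul_right (show Commute g _ from Subgroup.mem_center_iff.1 hi g) (h1.zpow_right i)
      rwa [inv_mul_cancel_right] at h3
    · intro hg
      exact Subtype.ext (commutatorElement_eq_one_iff_mul_comm.2 (hAab g hg a1 ha1))
  have hδp : ∀ g, δ g ^ p = 1 := by
    intro g
    refine Subtype.ext ?_
    have h1 : ∀ n : ℕ, ⁅g, a1 ^ n⁆ = ⁅g, a1⁆ ^ n := by
      intro n
      induction n with
      | zero => simp
      | succ n ih => rw [pow_succ, comm_mul_right (hc1 g), ih, pow_succ]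
    show ⁅g, a1⁆ ^ p = 1
    rw [← h1, commutatorElement_eq_one_iff_mul_comm]
    exact Subgroup.mem_center_iff.1 ha1p g
  set R := δ.range with hR
  have hRcard : Nat.card R = A.index := by rw [← hδker, Subgroup.index_ker]
  obtain ⟨k, hk⟩ : ∃ k, Nat.card R = p ^ k := IsPGroup.iff_card.1 fun r => by
    refine ⟨1, Subtype.ext ?_⟩
    obtain ⟨g, hg⟩ := r.2
    rw [pow_one, Subgroup.coe_pow, ← hg]
    exact hδp g
  have hk2 : 2 ≤ k := by
    by_contra hlt
    rcases Nat.lt_or_ge k 1 with h | h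
    · have : A = ⊤ := Subgroup.index_eq_one.1 (by rw [← hRcard, hk, show k = 0 by omega, pow_zero])
      exact hna fun a b => hAab a (this ▸ Subgroup.mem_top a) b (this ▸ Subgroup.mem_top b)
    · exact hno A hA hAab (by rw [← hRcard, hk, show k = 1 by omega, pow_one])
  -- the image is generated by two elements
  have hpair : ∀ r s : G, Nat.card (Subgroup.closure ({δ r, δ s} : Set (Subgroup.center G))) ≤ p ^ 2 := by
    intro r s
    let f : Subgroup.zpowers (δ r) × Subgroup.zpowers (δ s) →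
        Subgroup.closure ({δ r, δ s} : Set (Subgroup.center G)) := fun t =>
      ⟨(t.1 : Subgroup.center G) * (t.2 : Subgroup.center G), Subgroup.mul_mem _
        ((Subgroup.zpowers_le (H := Subgroup.closure ({δ r, δ s} : Set (Subgroup.center G)))).2
          (Subgroup.subset_closure (Or.inl rfl)) t.1.2)
        ((Subgroup.zpowers_le (H := Subgroup.closure ({δ r, δ s} : Set (Subgroup.center G)))).2
          (Subgroup.subset_closure (Or.inr rfl)) t.2.2)⟩
    have hf : Function.Surjective f := by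
      rintro ⟨w, hw⟩
      obtain ⟨i, j, rfl⟩ := Subgroup.mem_closure_pair.1 hw
      exact ⟨(⟨_, i, rfl⟩, ⟨_, j, rfl⟩), rfl⟩
    refine (Nat.card_le_card_of_surjective f hf).trans ?_
    rw [Nat.card_prod, sq, Nat.card_zpowers, Nat.card_zpowers]
    exact Nat.mul_le_mul (orderOf_le_of_pow_eq_one hp.pos (hδp r)) (orderOf_le_of_pow_eq_one hp.pos (hδp s))
  have hle : ∃ r s : G, R ≤ Subgroup.closure ({δ r, δ s} : Set (Subgroup.center G)) := by
    by_cases hcl2 : ∀ x y : G, ⁅x, y⁆ ∈ Subgroup.center G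
    · -- class two
      obtain ⟨g1, hg1⟩ : ∃ g, δ g ≠ 1 := by
        by_contra h
        push Not at h
        exact hna fun a b => hAab a (hδker ▸ MonoidHom.mem_ker.2 (h a)) b (hδker ▸ MonoidHom.mem_ker.2 (h b))
      obtain ⟨g2, hg2⟩ : ∃ g, δ g ∉ Subgroup.zpowers (δ g1) := by
        by_contra h
        push Not at h
        have hRle : R ≤ Subgroup.zpowers (δ g1) := by rintro _ ⟨g, rfl⟩; exact h g
        have h1 := Subgroup.card_le_of_le hRle
        rw [hk, Nat.card_zpowers] at h1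
        have h4 := orderOf_le_of_pow_eq_one hp.pos (hδp g1)
        have h5 : p < p ^ k := lt_self_pow₀ hp.one_lt (by omega)
        omega
      refine ⟨g1, g2, ?_⟩
      rintro _ ⟨g3, rfl⟩
      by_contra hg3
      set D := Subgroup.closure ({δ g1, δ g2} : Set (Subgroup.center G))
      let c : Subgroup.center G := ⟨⁅g1, g2⁆, hcl2 g1 g2⟩
      have hcD : c ∈ D := by
        by_contra hc
        have hsepD : ∀ w, w ∉ D → ∃ φ : Subgroup.center G →* ℂˣ, (∀ d ∈ D, φ d = 1) ∧ φ w ≠ 1 := by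
          intro w hw
          by_contra hno'
          push Not at hno'
          exact hw ((CommGroup.forall_monoidHom_apply_eq_one_iff ℂ D w).1 hno')
        obtain ⟨φ1, hφ1, hφ1c⟩ := hsepD c hc
        obtain ⟨φ2, hφ2, hφ2c⟩ := hsepD (δ g3) hg3
        obtain ⟨φ, hφD, hφc, hφ3⟩ : ∃ φ : Subgroup.center G →* ℂˣ, (∀ d ∈ D, φ d = 1) ∧ φ c ≠ 1 ∧ φ (δ g3) ≠ 1 := by
          by_cases e1 : φ1 (δ g3) = 1
          · by_cases e2 : φ2 c = 1
            · exact ⟨φ1 * φ2, fun d hd => by rw [MonoidHom.mul_apply, hφ1 d hd, hφ2 d hd, mul_one],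
                by rwa [MonoidHom.mul_apply, e2, mul_one], by rwa [MonoidHom.mul_apply, e1, one_mul]⟩
            · exact ⟨φ2, hφ2, e2, hφ2c⟩
          · exact ⟨φ1, hφ1, hφ1c, e1⟩
        have e1 : φ ⟨⁅a1, g2⁆, hcl2 a1 g2⟩ = 1 := by
          have h1 : φ (δ g2)⁻¹ = 1 := hφD _ (D.inv_mem (Subgroup.subset_closure (Or.inr rfl)))
          rw [← h1]
          exact congrArg φ (Subtype.ext (commutatorElement_inv g2 a1).symm)
        exact hφc (perp_le hp hdeg hcl2 φ a1 g2 g1 g3 e1
          (hφD _ (Subgroup.subset_closure (Or.inl rfl))) hφ3)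
      obtain ⟨α, β, hαβ⟩ := Subgroup.mem_closure_pair.1 hcD
      set u := g1 * a1 ^ β
      set v := g2 * a1 ^ (-α)
      have huv : ⁅u, v⁆ = 1 := by
        have hl : ∀ (x : G) (n : ℤ), ⁅a1 ^ n, x⁆ = ⁅a1, x⁆ ^ n := fun x n =>
          comm_zpow_left (fun n => hcl2 _ _) n
        have hr : ∀ (x : G) (n : ℤ), ⁅x, a1 ^ n⁆ = ⁅x, a1⁆ ^ n := fun x n => by
          rw [← commutatorElement_inv (a1 ^ n) x, hl, ← commutatorElement_inv a1 x, inv_zpow]
        rw [comm_mul_left (hcl2 _ _), comm_mul_right (hcl2 _ _), hr, hl,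
          comm_mul_right (hcl2 _ _), show ⁅a1, a1 ^ (-α)⁆ = 1 from
            commutatorElement_eq_one_iff_mul_comm.2 ((Commute.refl a1).zpow_right _), mul_one,
          ← commutatorElement_inv g2 a1]
        have hc' : ⁅g1, g2⁆ = ⁅g1, a1⁆ ^ α * ⁅g2, a1⁆ ^ β :=
          (congrArg Subtype.val hαβ).symm.trans (by simp [δ])
        rw [hc', inv_zpow, zpow_neg]
        have hcm : Commute (⁅g2, a1⁆ ^ β) ((⁅g1, a1⁆ ^ α)⁻¹) :=
          Subgroup.mem_center_iff.1 (inv_mem (Subgroup.zpow_mem _ (hc1 g1) α)) _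
        rw [mul_assoc (⁅g1, a1⁆ ^ α), hcm.eq]
        group
      have hδu : δ u = δ g1 := by
        rw [map_mul, map_zpow, show δ a1 = 1 from Subtype.ext (commutatorElement_self a1), one_zpow, mul_one]
      have hδv : δ v = δ g2 := by
        rw [map_mul, map_zpow, show δ a1 = 1 from Subtype.ext (commutatorElement_self a1), one_zpow, mul_one]
      have hcG : commutator G ≤ Subgroup.center G := by
        rw [_root_.commutator_def, Subgroup.commutator_le]; exact fun x _ y _ => hcl2 x y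
      obtain ⟨A', hBA', hA'n, hA', hA'ab, hA'max⟩ := hext
        (Subgroup.closure (({u, v} : Set G) ∪ (Subgroup.center G : Set G)))
        (hcG.trans fun z hz => Subgroup.subset_closure (Or.inr hz)) (by
          have hgen : ∀ a ∈ ({u, v} : Set G) ∪ (Subgroup.center G : Set G),
              ∀ b ∈ ({u, v} : Set G) ∪ (Subgroup.center G : Set G), b * a = a * b := by
            have huv' := commutatorElement_eq_one_iff_mul_comm.1 huv
            rintro a (ha | ha) b (hb | hb)
            · rcases ha with rfl | rfl <;> rcases hb with rfl | rfl <;> first | rfl | exact huv' | exact huv'.symm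
            · exact (Subgroup.mem_center_iff.1 hb a).symm
            · exact Subgroup.mem_center_iff.1 ha b
            · exact Subgroup.mem_center_iff.1 ha b
          have h1 : Subgroup.closure (({u, v} : Set G) ∪ (Subgroup.center G : Set G)) ≤
              Subgroup.centralizer (({u, v} : Set G) ∪ (Subgroup.center G : Set G)) :=
            (Subgroup.closure_le _).2 fun a ha => Subgroup.mem_centralizer_iff.2 fun b hb => hgen a ha b hb
          have h2 : Subgroup.closure (({u, v} : Set G) ∪ (Subgroup.center G : Set G)) ≤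
              Subgroup.centralizer (Subgroup.closure (({u, v} : Set G) ∪ (Subgroup.center G : Set G)) : Set G) :=
            (Subgroup.closure_le _).2 fun a ha => Subgroup.mem_centralizer_iff.2 fun b hb =>
              (Subgroup.mem_centralizer_iff.1 (h1 hb) a ha).symm
          exact fun a ha b hb => (Subgroup.mem_centralizer_iff.1 (h2 ha) b hb).symm)
      haveI := hA'n
      obtain ⟨b, -, hbZ, hbp, hA'1, -⟩ := maxAb_structure hp hdeg hno hna A' hA' hA'ab hA'max
      have hdcoord : ∀ w ∈ A', ∃ i : ℤ, δ w = δ b ^ i := by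
        intro w hw
        obtain ⟨i, hi⟩ := hA'1 w hw
        refine ⟨i, ?_⟩
        have h3 : δ (w * (b ^ i)⁻¹) = 1 := by rw [← MonoidHom.mem_ker, hδker]; exact hZA hi
        rw [map_mul, map_inv, mul_inv_eq_one, map_zpow] at h3
        exact h3
      obtain ⟨i, hi⟩ := hdcoord u (hBA' (Subgroup.subset_closure (Or.inl (Or.inl rfl))))
      obtain ⟨j, hj⟩ := hdcoord v (hBA' (Subgroup.subset_closure (Or.inl (Or.inr rfl))))
      rw [hδu] at hi
      rw [hδv] at hj
      apply hg2
      have hb : δ b ∈ Subgroup.zpowers (δ g1) := by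
        have hle : Subgroup.zpowers (δ g1) ≤ Subgroup.zpowers (δ b) :=
          Subgroup.zpowers_le.2 (hi ▸ Subgroup.zpow_mem _ (Subgroup.mem_zpowers _) i)
        rw [Subgroup.eq_of_le_of_card_ge hle ?_]
        · exact Subgroup.mem_zpowers _
        · rw [Nat.card_zpowers, Nat.card_zpowers, orderOf_eq_prime (hδp g1) hg1]
          exact orderOf_le_of_pow_eq_one hp.pos (hδp b)
      rw [hj]
      exact Subgroup.zpow_mem _ hb j
    · -- class three
      push Not at hcl2
      obtain ⟨x, y, hxy⟩ := hcl2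
      refine ⟨x, y, ?_⟩
      rintro _ ⟨g, rfl⟩
      set D := Subgroup.closure ({δ x, δ y} : Set (Subgroup.center G))
      have hG' : ∀ a b : G, ⁅a, b⁆ ∈ A := fun a b =>
        hA (Subgroup.commutator_mem_commutator (Subgroup.mem_top _) (Subgroup.mem_top _))
      obtain ⟨i, hi⟩ := hA1 _ (hG' x y)
      obtain ⟨j, hj⟩ := hA1 _ (hG' g x)
      obtain ⟨l, hl⟩ := hA1 _ (hG' g y)
      -- everything in `A` displaces `x, y` into `D`
      have hcen : ∀ (h : G), ∀ a ∈ A, ∀ n : ℤ, a * (a1 ^ n)⁻¹ ∈ Subgroup.center G →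
          ⁅h, a⁆ = ⁅h, a1⁆ ^ n := by
        intro h a ha n hn
        have e1 : a = (a * (a1 ^ n)⁻¹) * a1 ^ n := (inv_mul_cancel_right _ _).symm
        have hz := Subgroup.mem_center_iff.1 hn
        generalize a * (a1 ^ n)⁻¹ = z at e1 hz
        subst e1
        have e2 : ⁅h, z * a1 ^ n⁆ = ⁅h, a1 ^ n⁆ := by
          simp only [commutatorElement_def, mul_inv_rev, ← mul_assoc]
          rw [show h * z * a1 ^ n * h⁻¹ * (a1 ^ n)⁻¹ * z⁻¹ = h * z * (a1 ^ n * h⁻¹ * (a1 ^ n)⁻¹) * z⁻¹ by group]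
          rw [hz h, show z * h * (a1 ^ n * h⁻¹ * (a1 ^ n)⁻¹) * z⁻¹ = z * (h * (a1 ^ n * h⁻¹ * (a1 ^ n)⁻¹)) * z⁻¹ by group,
            ← hz (h * (a1 ^ n * h⁻¹ * (a1 ^ n)⁻¹)), mul_inv_cancel_right]
          group
        rw [e2]
        have h1 : ∀ m : ℤ, ⁅h, a1 ^ m⁆ = ⁅h, a1⁆ ^ m := by
          intro m
          induction m with
          | zero => simp
          | succ m ih => rw [zpow_add_one, comm_mul_right (hc1 h), ih, zpow_add_one]
          | pred m ih =>
            have h2' : ⁅h, a1⁻¹⁆ = ⁅h, a1⁆⁻¹ := by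
              have e3 := comm_mul_right (x := h) (y := a1⁻¹) (z := a1) (hc1 h)
              rw [inv_mul_cancel, commutatorElement_one_right] at e3
              exact eq_inv_of_mul_eq_one_left e3.symm
            rw [zpow_sub_one, comm_mul_right (by rw [h2']; exact inv_mem (hc1 h)), ih, h2', zpow_sub_one]
        exact h1 n
      -- conjugating `⁅x, y⁆` by `g`
      set b := ⁅g, x⁆
      set b' := ⁅g, y⁆
      have hu : ⁅g, ⁅x, y⁆⁆ = ⁅x, b'⁆ * ⁅b, y⁆ := by
        have hxb : ⁅x, b'⁆ = ⁅x, a1⁆ ^ l := hcen x b' (hG' g y) l hl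
        have hyb : ⁅y, b⁆ = ⁅y, a1⁆ ^ j := hcen y b (hG' g x) j hj
        have h1 : ⁅x, b'⁆ ∈ Subgroup.center G := by rw [hxb]; exact Subgroup.zpow_mem _ (hc1 x) l
        have h2 : ⁅b, y⁆ ∈ Subgroup.center G := by
          rw [← commutatorElement_inv y b, hyb]
          exact inv_mem (Subgroup.zpow_mem _ (hc1 y) j)
        have e : g * ⁅x, y⁆ * g⁻¹ = ⁅b * x, b' * y⁆ := by
          simp only [b, b', commutatorElement_def]; group
        have hbu : b * ⁅x, y⁆ = ⁅x, y⁆ * b := hAab _ (hG' g x) _ (hG' x y)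
        have hbu' : b' * ⁅x, y⁆ = ⁅x, y⁆ * b' := hAab _ (hG' g y) _ (hG' x y)
        have hbb : b * b' = b' * b := hAab _ (hG' g x) _ (hG' g y)
        have e1 : ⁅x, b' * y⁆ = ⁅x, b'⁆ * ⁅x, y⁆ := by
          calc ⁅x, b' * y⁆ = ⁅x, b'⁆ * (b' * ⁅x, y⁆ * b'⁻¹) := by simp only [commutatorElement_def]; group
            _ = _ := by rw [hbu', mul_inv_cancel_right]
        have e2 : ⁅b, b' * y⁆ = ⁅b, y⁆ := by
          calc ⁅b, b' * y⁆ = ⁅b, b'⁆ * (b' * ⁅b, y⁆ * b'⁻¹) := by simp only [commutatorElement_def]; group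
            _ = _ := by rw [commutatorElement_eq_one_iff_mul_comm.2 hbb, one_mul,
                Subgroup.mem_center_iff.1 h2 b', mul_inv_cancel_right]
        have e3 : ⁅b * x, b' * y⁆ = b * ⁅x, b' * y⁆ * b⁻¹ * ⁅b, b' * y⁆ := by
          simp only [commutatorElement_def]; group
        have hbx : b * (⁅x, b'⁆ * ⁅x, y⁆) = (⁅x, b'⁆ * ⁅x, y⁆) * b := by
          rw [← mul_assoc, Subgroup.mem_center_iff.1 h1 b, mul_assoc, hbu, mul_assoc]
        rw [e1, e2, hbx, mul_inv_cancel_right] at e3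
        calc ⁅g, ⁅x, y⁆⁆ = (g * ⁅x, y⁆ * g⁻¹) * (⁅x, y⁆)⁻¹ := by rw [commutatorElement_def]
          _ = ⁅x, b'⁆ * ⁅x, y⁆ * ⁅b, y⁆ * (⁅x, y⁆)⁻¹ := by rw [e, e3]
          _ = _ := by rw [mul_assoc _ ⁅x, y⁆, Subgroup.mem_center_iff.1 h2 ⁅x, y⁆, ← mul_assoc, mul_inv_cancel_right]
      rw [hcen g _ (hG' x y) i hi, hcen x b' (hG' g y) l hl, ← commutatorElement_inv y b,
        hcen y b (hG' g x) j hj] at hu
      have hgi : δ g ^ i ∈ D := by
        have e : δ g ^ i = δ x ^ l * (δ y ^ j)⁻¹ := Subtype.ext (by simpa [δ] using hu)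
        rw [e]
        exact D.mul_mem (D.zpow_mem (Subgroup.subset_closure (Or.inl rfl)) l)
          (D.inv_mem (D.zpow_mem (Subgroup.subset_closure (Or.inr rfl)) j))
      have hpi : ¬ (p : ℤ) ∣ i := by
        rintro ⟨t, rfl⟩
        apply hxy
        have h3 : (a1 ^ ((p : ℤ) * t)) ∈ Subgroup.center G := by
          rw [zpow_mul, zpow_natCast]; exact Subgroup.zpow_mem _ ha1p t
        have := mul_mem hi h3
        rwa [inv_mul_cancel_right] at this
      have hcop : IsCoprime i (p : ℤ) :=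
        (((Nat.prime_iff_prime_int.1 hp).coprime_iff_not_dvd).2 hpi).symm
      obtain ⟨s, t, hst⟩ := hcop
      have : δ g = (δ g ^ i) ^ s := by
        rw [← zpow_mul]
        conv_lhs => rw [← zpow_one (δ g), ← hst, zpow_add, zpow_mul' _ t, zpow_natCast, hδp, one_zpow, mul_one,
          mul_comm]
      rw [this]
      exact D.zpow_mem hgi s
  obtain ⟨r, s, hrs⟩ := hle
  have hk3 : k = 2 := by
    have h1 := (Subgroup.card_le_of_le hrs).trans (hpair r s)
    rw [hk] at h1
    have := (Nat.pow_le_pow_iff_right hp.one_lt).1 h1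
    omega
  have hrel : (Subgroup.center G).relIndex A = p := by
    haveI : ((Subgroup.center G).subgroupOf A).Normal := inferInstance
    rw [Subgroup.relIndex, Subgroup.index_eq_card]
    set q : A ⧸ (Subgroup.center G).subgroupOf A := QuotientGroup.mk (⟨a1, ha1⟩ : A)
    have hq1 : q ≠ 1 := fun e => ha1Z (Subgroup.mem_subgroupOf.1 ((QuotientGroup.eq_one_iff _).1 e))
    have hqp : q ^ p = 1 := (QuotientGroup.eq_one_iff _).2 (Subgroup.mem_subgroupOf.2 ha1p)
    have htop : Subgroup.zpowers q = ⊤ := by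
      rw [Subgroup.eq_top_iff']
      intro w
      obtain ⟨a, rfl⟩ := QuotientGroup.mk_surjective w
      obtain ⟨i, hi⟩ := hA1 a a.2
      refine ⟨i, ?_⟩
      show q ^ i = (a : A ⧸ (Subgroup.center G).subgroupOf A)
      rw [eq_comm, ← mul_inv_eq_one]
      exact (QuotientGroup.eq_one_iff (a * ((⟨a1, ha1⟩ : A) ^ i)⁻¹)).2 (Subgroup.mem_subgroupOf.2 (by simpa using hi))
    rw [← Subgroup.card_top, ← htop, Nat.card_zpowers, orderOf_eq_prime hqp hq1]
  rw [← Subgroup.relIndex_mul_index hZA, hrel, ← hRcard, hk, hk3]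
  ring

end Cfsg.Agent.TwoDegreesPrime72
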