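import Mathlib
import Cfsg.Prelude.Def_LocalEven
import Cfsg.Agent.Lib.PSL2Sylow
import Cfsg.Agent.Lib.PSLSimple

/-! The group Qd over a field: block form, translations, and `SL(2,F)` facts. -/

set_option autoImplicit false
set_option linter.all false

namespace Cfsg.Agent.QdStructure56

open Matrix
open scoped MatrixGroups

variable {F : Type*} [Field F]

theorem coeMul {n : ℕ} (A B : SpecialLinearGroup (Fin n) F) : (A * B).1 = A.1 * B.1 := rfl

theorem coeOne {n : ℕ} : (1 : SpecialLinearGroup (Fin n) F).1 = 1 := rfl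

/-- Matrices with last row `(0, 0, 1)`. -/
def aff (F : Type*) [Field F] : Subgroup (SL(3, F)) where
  carrier := {M | (Pi.single 2 1 : Fin 3 → F) ᵥ* M.1 = Pi.single 2 1}
  one_mem' := Matrix.vecMul_one _
  mul_mem' {A B} hA hB := by
    simp only [Set.mem_ofPred_eq] at hA hB ⊢
    rw [coeMul, ← Matrix.vecMul_vecMul, hA, hB]
  inv_mem' {A} hA := by
    simp only [Set.mem_ofPred_eq] at hA ⊢
    conv_lhs => rw [← hA]
    rw [Matrix.vecMul_vecMul, ← coeMul, mul_inv_cancel,
      coeOne, Matrix.vecMul_one]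

theorem mem_aff {M : SL(3, F)} : M ∈ aff F ↔ M.1 2 0 = 0 ∧ M.1 2 1 = 0 ∧ M.1 2 2 = 1 := by
  show (Pi.single 2 1 : Fin 3 → F) ᵥ* M.1 = Pi.single 2 1 ↔ _
  rw [funext_iff, Fin.forall_fin_succ, Fin.forall_fin_two]
  simp [Matrix.single_vecMul]

theorem qdOver_eq : Cfsg.qdOver F = aff F := by
  refine le_antisymm ((Subgroup.closure_le _).mpr fun M hM => mem_aff.mpr hM) fun M hM => ?_
  exact Subgroup.subset_closure (mem_aff.mp hM)

theorem mem_qdOver {M : SL(3, F)} :
    M ∈ Cfsg.qdOver F ↔ M.1 2 0 = 0 ∧ M.1 2 1 = 0 ∧ M.1 2 2 = 1 := by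
  rw [qdOver_eq, mem_aff]

/-- The group Qd over `F`. -/
abbrev Qd (F : Type*) [Field F] := ↥(Cfsg.qdOver F)

/-- Entry of an element of Qd. -/
abbrev ent (M : Qd F) (i j : Fin 3) : F := (M : SL(3, F)).1 i j

theorem row (M : Qd F) : ent M 2 0 = 0 ∧ ent M 2 1 = 0 ∧ ent M 2 2 = 1 := mem_qdOver.mp M.2

theorem ext6 {A B : Qd F} (h00 : ent A 0 0 = ent B 0 0) (h01 : ent A 0 1 = ent B 0 1)
    (h02 : ent A 0 2 = ent B 0 2) (h10 : ent A 1 0 = ent B 1 0) (h11 : ent A 1 1 = ent B 1 1)
    (h12 : ent A 1 2 = ent B 1 2) : A = B := by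
  obtain ⟨a0, a1, a2⟩ := row A
  obtain ⟨b0, b1, b2⟩ := row B
  refine Subtype.ext (Subtype.ext ?_)
  ext i j
  fin_cases i <;> fin_cases j
  · exact h00
  · exact h01
  · exact h02
  · exact h10
  · exact h11
  · exact h12
  · exact a0.trans b0.symm
  · exact a1.trans b1.symm
  · exact a2.trans b2.symm

theorem ent_mul (A B : Qd F) (i j : Fin 3) :
    ent (A * B) i j = ent A i 0 * ent B 0 j + ent A i 1 * ent B 1 j + ent A i 2 * ent B 2 j := by
  show ((A : SL(3, F)) * (B : SL(3, F))).1 i j = _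
  rw [coeMul, Matrix.mul_apply, Fin.sum_univ_three]

@[simp] theorem ent_one (i j : Fin 3) : ent (1 : Qd F) i j = (1 : Matrix (Fin 3) (Fin 3) F) i j := rfl

theorem ent_mul_zero (A B : Qd F) (i : Fin 3) :
    ent (A * B) i 0 = ent A i 0 * ent B 0 0 + ent A i 1 * ent B 1 0 := by
  rw [ent_mul, (row B).1, mul_zero, add_zero]

theorem ent_mul_one (A B : Qd F) (i : Fin 3) :
    ent (A * B) i 1 = ent A i 0 * ent B 0 1 + ent A i 1 * ent B 1 1 := by
  rw [ent_mul, (row B).2.1, mul_zero, add_zero]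

theorem ent_mul_two (A B : Qd F) (i : Fin 3) :
    ent (A * B) i 2 = ent A i 0 * ent B 0 2 + ent A i 1 * ent B 1 2 + ent A i 2 := by
  rw [ent_mul, (row B).2.2, mul_one]

theorem blk_det (M : Qd F) : ent M 0 0 * ent M 1 1 - ent M 0 1 * ent M 1 0 = 1 := by
  obtain ⟨a0, a1, a2⟩ := row M
  have h := (M : SL(3, F)).2
  rw [Matrix.det_fin_three] at h
  simp only [ent] at a0 a1 a2 ⊢
  rw [a0, a1, a2] at h
  linear_combination h

/-- The upper left block. -/
def blk : Qd F →* SL(2, F) where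
  toFun M := PSL2Elements.mk2 (ent M 0 0) (ent M 0 1) (ent M 1 0) (ent M 1 1) (blk_det M)
  map_one' := by apply PSL2Elements.ext2 <;> simp
  map_mul' A B := by
    apply PSL2Elements.ext2 <;>
      simp [PSL2Elements.mul_apply2, ent_mul_zero, ent_mul_one]

theorem blk_apply (M : Qd F) :
    (blk M).1 0 0 = ent M 0 0 ∧ (blk M).1 0 1 = ent M 0 1 ∧
      (blk M).1 1 0 = ent M 1 0 ∧ (blk M).1 1 1 = ent M 1 1 := by simp [blk]

/-- Element with given block and translation part. -/
def mk (A : SL(2, F)) (v : Fin 2 → F) : Qd F :=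
  ⟨⟨!![A.1 0 0, A.1 0 1, v 0; A.1 1 0, A.1 1 1, v 1; 0, 0, 1], by
      rw [Matrix.det_fin_three]
      simp
      linear_combination PSL2Elements.det_eq A⟩,
    mem_qdOver.mpr ⟨rfl, rfl, rfl⟩⟩

/-- The translation part. -/
def vec (M : Qd F) : Fin 2 → F := ![ent M 0 2, ent M 1 2]

@[simp] theorem blk_mk (A : SL(2, F)) (v : Fin 2 → F) : blk (mk A v) = A := by
  apply PSL2Elements.ext2 <;> simp [blk, mk, ent]

@[simp] theorem vec_mk (A : SL(2, F)) (v : Fin 2 → F) : vec (mk A v) = v := by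
  funext i; fin_cases i <;> simp [vec, mk, ent]

theorem mk_blk_vec (M : Qd F) : mk (blk M) (vec M) = M := by
  apply ext6 <;> simp [blk, vec, mk, ent]

theorem ext_blk_vec {A B : Qd F} (h1 : blk A = blk B) (h2 : vec A = vec B) : A = B := by
  rw [← mk_blk_vec A, ← mk_blk_vec B, h1, h2]

theorem vec_mul (A B : Qd F) : vec (A * B) = (blk A).1 *ᵥ vec B + vec A := by
  funext i
  fin_cases i <;> simp [vec, blk, ent_mul_two, Matrix.mulVec, dotProduct, Fin.sum_univ_two] <;> ring

theorem mk_mul (A B : SL(2, F)) (v w : Fin 2 → F) :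
    mk A v * mk B w = mk (A * B) (A.1 *ᵥ w + v) := by
  apply ext_blk_vec <;> simp [vec_mul]

@[simp] theorem vec_one : vec (1 : Qd F) = 0 := by
  funext i; fin_cases i <;> simp [vec]

/-- The block-diagonal complement. -/
def lift : SL(2, F) →* Qd F where
  toFun A := mk A 0
  map_one' := by apply ext_blk_vec <;> simp [vec_one]
  map_mul' A B := by rw [mk_mul]; simp

@[simp] theorem blk_lift (A : SL(2, F)) : blk (lift A) = A := blk_mk A 0
@[simp] theorem vec_lift (A : SL(2, F)) : vec (lift A) = 0 := vec_mk A 0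

theorem lift_injective : Function.Injective (lift : SL(2, F) → Qd F) := fun A B h => by
  simpa using congrArg blk h

theorem blk_surjective : Function.Surjective (blk : Qd F → SL(2, F)) := fun A => ⟨lift A, blk_lift A⟩

/-- The translation with vector `v`. -/
def trn : Multiplicative (Fin 2 → F) →* Qd F where
  toFun v := mk 1 v.toAdd
  map_one' := by apply ext_blk_vec <;> simp [vec_one]
  map_mul' v w := by rw [mk_mul]; simp [add_comm]

theorem eq_trn_of_blk {M : Qd F} (h : blk M = 1) : M = trn (Multiplicative.ofAdd (vec M)) := by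
  apply ext_blk_vec <;> simp [trn, h]

/-- The translation subgroup. -/
def transl (F : Type*) [Field F] : Subgroup (Qd F) := (blk : Qd F →* SL(2, F)).ker

theorem mem_transl {M : Qd F} : M ∈ transl F ↔ blk M = 1 := MonoidHom.mem_ker

instance transl_normal : (transl F).Normal := MonoidHom.normal_ker _

theorem transl_comm {a b : Qd F} (ha : a ∈ transl F) (hb : b ∈ transl F) : a * b = b * a := by
  rw [eq_trn_of_blk ha, eq_trn_of_blk hb, ← map_mul trn, ← map_mul trn, mul_comm]

theorem conj_transl (g : Qd F) {M : Qd F} (hM : M ∈ transl F) :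
    vec (g * M * g⁻¹) = (blk g).1 *ᵥ vec M := by
  have h1 : vec (g * M * g⁻¹) = ((blk g * blk M).1 *ᵥ vec g⁻¹) + ((blk g).1 *ᵥ vec M + vec g) := by
    rw [vec_mul, map_mul, vec_mul g M]
  rw [h1, mem_transl.mp hM, mul_one]
  have h2 := vec_mul g g⁻¹
  rw [mul_inv_cancel] at h2
  have h3 : vec (1 : Qd F) = 0 := by funext i; fin_cases i <;> simp [vec]
  rw [h3] at h2
  linear_combination (norm := abel) -h2

theorem transl_pow {p : ℕ} [CharP F p] {M : Qd F} (hM : M ∈ transl F) : M ^ p = 1 := by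
  rw [eq_trn_of_blk hM, ← map_pow]
  have : (Multiplicative.ofAdd (vec M)) ^ p = 1 := by
    rw [← ofAdd_nsmul]
    have : p • vec M = 0 := by
      funext i; simp [CharP.cast_eq_zero F p]
    rw [this]; rfl
  rw [this, map_one]

theorem transl_isPGroup {p : ℕ} [CharP F p] : IsPGroup p ↥(transl F) :=
  fun M => ⟨1, Subtype.ext (by rw [pow_one]; exact transl_pow M.2)⟩

/-- Transitivity on nonzero vectors. -/
theorem exists_mulVec_eq {v w : Fin 2 → F} (hv : v ≠ 0) (hw : w ≠ 0) :
    ∃ A : SL(2, F), A.1 *ᵥ v = w := by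
  have key : ∀ {x : Fin 2 → F}, x ≠ 0 → ∃ A : SL(2, F), A.1 *ᵥ ![1, 0] = x := by
    intro x hx
    by_cases h : x 0 = 0
    · have h1 : x 1 ≠ 0 := fun h1 => hx (by funext i; fin_cases i <;> simp [h, h1])
      refine ⟨PSL2Elements.mk2 0 (-(x 1)⁻¹) (x 1) 0 (by field_simp; ring), ?_⟩
      funext i; fin_cases i <;> simp [h, Matrix.mulVec, dotProduct, Fin.sum_univ_two]
    · refine ⟨PSL2Elements.mk2 (x 0) 0 (x 1) (x 0)⁻¹ (by field_simp; ring), ?_⟩
      funext i; fin_cases i <;> simp [Matrix.mulVec, dotProduct, Fin.sum_univ_two]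
  obtain ⟨A, rfl⟩ := key hv
  obtain ⟨B, rfl⟩ := key hw
  refine ⟨B * A⁻¹, ?_⟩
  rw [coeMul, Matrix.mulVec_mulVec, Matrix.mul_assoc,
    ← coeMul, inv_mul_cancel, coeOne, Matrix.mul_one]

theorem eq_one_of_mulVec {A : SL(2, F)} (h : ∀ v : Fin 2 → F, v ≠ 0 → A.1 *ᵥ v = v) : A = 1 := by
  refine Subtype.ext (Matrix.ext_iff_mulVec.2 fun v => ?_)
  rw [coeOne, Matrix.one_mulVec]
  by_cases hv : v = 0
  · rw [hv, Matrix.mulVec_zero]
  · exact h v hv

/-- `O_p(SL(2,F)) = 1` in characteristic `p`. -/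
theorem normal_pGroup_eq_bot [Finite F] {p : ℕ} [Fact p.Prime] [CharP F p]
    (N : Subgroup SL(2, F)) [hN : N.Normal] (hp : IsPGroup p N) : N = ⊥ := by
  classical
  let f : SL(2, F) →* Function.End (Fin 2 → F) :=
    { toFun := fun g v => g.1 *ᵥ v
      map_one' := by funext v; exact Matrix.one_mulVec v
      map_mul' := fun a b => by funext v; exact (Matrix.mulVec_mulVec v _ _).symm }
  letI : MulAction N (Fin 2 → F) := MulAction.compHom _ (f.comp N.subtype)
  have hdvd : p ∣ Nat.card (Fin 2 → F) := by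
    haveI := Fintype.ofFinite F
    obtain ⟨k, _, hk⟩ := FiniteField.card F p
    rw [Nat.card_eq_fintype_card, Fintype.card_fun, hk, Fintype.card_fin]
    exact dvd_pow (dvd_pow_self p k.ne_zero) two_ne_zero
  have h0 : (0 : Fin 2 → F) ∈ MulAction.fixedPoints N (Fin 2 → F) := fun s =>
    Matrix.mulVec_zero (s : SL(2, F)).1
  obtain ⟨v, hvfix, hv0⟩ := hp.exists_fixed_point_of_prime_dvd_card_of_fixed_point (Fin 2 → F) hdvd h0
  rw [Subgroup.eq_bot_iff_forall]
  intro n hn
  refine eq_one_of_mulVec fun w hw => ?_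
  obtain ⟨A, rfl⟩ := exists_mulVec_eq (v := v) (Ne.symm hv0) hw
  have h1 : (A⁻¹ * n * A).1 *ᵥ v = v := hvfix ⟨A⁻¹ * n * A, hN.conj_mem' n hn A⟩
  calc n.1 *ᵥ A.1 *ᵥ v = (A * (A⁻¹ * n * A)).1 *ᵥ v := by
        rw [Matrix.mulVec_mulVec, ← coeMul]; group
    _ = A.1 *ᵥ v := by rw [coeMul, ← Matrix.mulVec_mulVec, h1]

theorem transl_eq_pCore [Finite F] {p : ℕ} [Fact p.Prime] [CharP F p] :
    Cfsg.pCore p (Qd F) = transl F := by
  refine le_antisymm (sSup_le fun N hN => ?_) (le_sSup ⟨transl_normal, transl_isPGroup⟩)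
  haveI := hN.1
  haveI : (N.map (blk : Qd F →* SL(2, F))).Normal := Subgroup.Normal.map hN.1 _ blk_surjective
  exact (Subgroup.map_eq_bot_iff N).mp (normal_pGroup_eq_bot _ (hN.2.map _))

/-- A subgroup of `SL(2,p)` with two Sylow `p`-subgroups is everything. -/
theorem eq_top_of_two_sylow {p : ℕ} [hp : Fact p.Prime] (H : Subgroup SL(2, ZMod p))
    (P Q : Sylow p SL(2, ZMod p)) (hne : P ≠ Q) (hP : (P : Subgroup _) ≤ H)
    (hQ : (Q : Subgroup _) ≤ H) : H = ⊤ := by
  classical
  have hall : ∀ R : Sylow p SL(2, ZMod p), (R : Subgroup _) ≤ H := by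
    have hbig : ∀ S : Sylow p ↥H, Nat.card ↥(P : Subgroup SL(2, ZMod p)) ≤ Nat.card ↥(S : Subgroup ↥H) := by
      intro S
      rw [← Nat.card_congr (Subgroup.subgroupOfEquivOfLe hP).toEquiv]
      obtain ⟨S', hS'⟩ := IsPGroup.exists_le_sylow (p := p)
        (P := (P : Subgroup SL(2, ZMod p)).subgroupOf H) (P.2.comap_of_injective _ H.subtype_injective)
      rw [S.card_eq_multiplicity, ← S'.card_eq_multiplicity]
      exact Nat.le_of_dvd Nat.card_pos (Subgroup.card_dvd_of_le hS')
    let g : Sylow p ↥H → Sylow p SL(2, ZMod p) := fun S =>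
      Sylow.ofCard ((S : Subgroup ↥H).map H.subtype) (by
        have hS : IsPGroup p ↥((S : Subgroup ↥H).map H.subtype) := S.2.map _
        obtain ⟨R, hR⟩ := hS.exists_le_sylow
        have heq : (S : Subgroup ↥H).map H.subtype = R := by
          refine Subgroup.eq_of_le_of_card_ge hR ?_
          rw [Subgroup.card_subtype, R.card_eq_multiplicity, ← P.card_eq_multiplicity]
          exact hbig S
        rw [heq]; exact R.card_eq_multiplicity)
    have hgle : ∀ S, (g S : Subgroup SL(2, ZMod p)) ≤ H := fun S => Subgroup.map_subtype_le _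
    have hinj : Function.Injective g := fun S T h => Sylow.ext
      (Subgroup.map_injective H.subtype_injective
        (congrArg (fun R : Sylow p SL(2, ZMod p) => (R : Subgroup SL(2, ZMod p))) h))
    have hn : 2 ≤ Nat.card (Sylow p ↥H) := by
      haveI : Nontrivial (Sylow p ↥H) := by
        refine ⟨⟨P.subtype hP, Q.subtype hQ, fun h => hne (Sylow.ext ?_)⟩⟩
        have := congrArg (fun R : Sylow p ↥H => (R : Subgroup ↥H).map H.subtype) h
        simpa [Subgroup.subgroupOf_map_subtype, inf_of_le_left hP, inf_of_le_left hQ] using this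
      exact Finite.one_lt_card
    have hle : Nat.card (Sylow p ↥H) ≤ p + 1 := by
      have := Nat.card_le_card_of_injective g hinj
      rwa [PSL2Sylow.card_sylow_SL p, Nat.card_zmod] at this
    have heq : Nat.card (Sylow p ↥H) = p + 1 := by
      have hm : Nat.card (Sylow p ↥H) ≡ 1 [MOD p] := card_sylow_modEq_one p ↥H
      have h2 := hp.out.two_le
      have hd : p ∣ Nat.card (Sylow p ↥H) - 1 := (Nat.modEq_iff_dvd' (by omega)).mp hm.symm
      have := Nat.le_of_dvd (by omega) hd
      omega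
    have hsurj : Function.Surjective g :=
      ((Nat.bijective_iff_injective_and_card g).mpr ⟨hinj, by
        rw [heq, PSL2Sylow.card_sylow_SL p, Nat.card_zmod]⟩).2
    intro R
    obtain ⟨S, rfl⟩ := hsurj R
    exact hgle S
  refine PSLSimple.eq_top_of_transvection_mem H fun i j hij c => ?_
  have hord : (SpecialLinearGroup.transvection hij c) ^ p = 1 := by
    have h : ∀ k : ℕ, (SpecialLinearGroup.transvection hij c) ^ k =
        SpecialLinearGroup.transvection hij ((k : ZMod p) * c) := by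
      intro k
      induction k with
      | zero => simp
      | succ k ih =>
        rw [pow_succ, ih]
        refine Subtype.ext ?_
        show Matrix.transvection i j _ * Matrix.transvection i j _ = Matrix.transvection i j _
        rw [Matrix.transvection_mul_transvection_same i j hij]
        push_cast; ring_nf
    rw [h, ZMod.natCast_self, zero_mul]
    exact SpecialLinearGroup.transvection_coeff_zero hij
  have hz : IsPGroup p ↥(Subgroup.zpowers (SpecialLinearGroup.transvection hij c)) :=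
    IsPGroup.of_card_dvd_pow (n := 1) (by
      rw [Nat.card_zpowers, pow_one]; exact orderOf_dvd_of_pow_eq_one hord)
  obtain ⟨R, hR⟩ := hz.exists_le_sylow
  exact hall R (hR (Subgroup.mem_zpowers _))

end Cfsg.Agent.QdStructure56
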