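import Mathlib
import Cfsg.Prelude.Def_DegreeGraph
import Cfsg.Agent.Lib.DegGraphSmallTools81
import Cfsg.Agent.Lib.SL2DegreeSets
import Cfsg.Agent.Lib.CharItoMichlerPSolvable
import Cfsg.Agent.Lib.CharProjDegree
import Cfsg.Agent.Lib.TransferPow
import Cfsg.Agent.Lib.TwoDegreesPrime72
import Cfsg.Agent.Lib.BlockCount91
import Cfsg.Agent.Lib.PermMinimalNormal
import Cfsg.Agent.S0494
import Cfsg.Agent.S3669
import Cfsg.Agent.S4231

/-!
Groups of order `360` that are neither solvable nor simple.
-/

set_option autoImplicit false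
set_option linter.style.haveILetI false
set_option linter.unusedSectionVars false

open scoped ComplexConjugate commutatorElement

namespace Cfsg.Agent.DegGraphSmall81

open Cfsg Cfsg.Agent.SimpleOrder

universe u

/-- The even permutations of five points of order three are the three-cycles. -/
theorem threeCycle_key : ∀ x : alternatingGroup (Fin 5), x ^ 3 = 1 → x ≠ 1 →
    (x : Equiv.Perm (Fin 5)).support.card = 3 := by decide +kernel

/-- Two classes of five-cycles are fused by an odd permutation. -/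
theorem fuse_key : ∃ (g : Equiv.Perm (Fin 5)) (x y : alternatingGroup (Fin 5)),
    g * (x : Equiv.Perm (Fin 5)) * g⁻¹ = (y : Equiv.Perm (Fin 5)) ∧
      ∀ c : alternatingGroup (Fin 5), c * x * c⁻¹ ≠ y :=
  ⟨c[1, 2, 4, 3], ⟨c[0, 1, 2, 3, 4], Equiv.Perm.mem_alternatingGroup.2 (by decide)⟩,
    ⟨c[0, 2, 4, 1, 3], Equiv.Perm.mem_alternatingGroup.2 (by decide)⟩, by decide +kernel⟩

theorem squares_key : ∀ r ∈ [2, 3, 4, 5, 6], ∀ a ∈ [2, 3, 4, 5, 6], ∀ b ∈ [2, 3, 4, 5, 6],
    2 * r ^ 2 + a ^ 2 + b ^ 2 = 59 → r = 3 := by decide +kernel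

theorem seven_key : ∀ d ≤ 7, 2 ≤ d → 60 % d = 0 → d ∈ [2, 3, 4, 5, 6] := by decide +kernel

attribute [local instance] Classical.propDecidable

theorem six_perm_five :
    (∃ d ∈ charDegrees (Equiv.Perm (Fin 5)), 6 ∣ d) ∧
      ∃ θ : IrrCharacter (alternatingGroup (Fin 5)), charDegree (θ : alternatingGroup (Fin 5) → ℂ) = 3 := by
  set A := alternatingGroup (Fin 5) with hA
  haveI : IsSimpleGroup A := alternatingGroup.isSimpleGroup_five
  have hcard : Nat.card A = 60 := S3669.card_A5
  have hAc : ¬ IsMulCommutative A := not_comm_of_not_prime (by rw [hcard]; norm_num)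
  obtain ⟨g, x, y, hgxy, hnc⟩ := fuse_key
  have hne : ¬ IsConj x y := fun h => by
    obtain ⟨c, hc⟩ := isConj_iff.1 h
    exact hnc c hc
  obtain ⟨θ, hθ⟩ : ∃ θ : IrrCharacter A, (θ : A → ℂ) x ≠ (θ : A → ℂ) y := by
    by_contra h
    push Not at h
    have h1 := CharBasicOrth.sum_irr_mul_conj x y
    rw [if_neg hne, Finset.sum_congr rfl fun χ _ => by rw [← h χ],
      CharBasicOrth.sum_irr_mul_conj x x, if_pos (IsConj.refl x)] at h1
    exact Nat.card_pos.ne' (by exact_mod_cast h1)
  have hconj : CharInduced.conjFun A (θ : A → ℂ) g x = (θ : A → ℂ) y :=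
    congrArg (θ : A → ℂ) (Subtype.ext hgxy)
  set θ' : IrrCharacter A := ⟨CharInduced.conjFun A (θ : A → ℂ) g,
    CharInduced.isIrrCharacter_conjFun A θ.2 g⟩ with hθ'
  have hne' : θ ≠ θ' := fun h => hθ ((congrFun (congrArg Subtype.val h) x).trans hconj)
  have hθ1 : θ ≠ BlockPrincipal81.oneChar A := fun h => hθ (by rw [h]; rfl)
  have hdeg' : BlockCount91.deg θ' = BlockCount91.deg θ := by
    refine congrArg (fun z : ℂ => ⌊z.re⌋₊) ?_
    show (θ : A → ℂ) _ = _
    refine congrArg (θ : A → ℂ) (Subtype.ext ?_)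
    show g * ((1 : A) : Equiv.Perm (Fin 5)) * g⁻¹ = ((1 : A) : Equiv.Perm (Fin 5))
    rw [Subgroup.coe_one, mul_one, mul_inv_cancel]
  have hθ'1 : θ' ≠ BlockPrincipal81.oneChar A := fun h => by
    have h2 := BlockCount91.two_le_deg hAc hθ1
    rw [← hdeg', h, BlockCount91.deg_one] at h2
    omega
  have huniv : (Finset.univ : Finset (IrrCharacter A)).card = 5 := by
    rw [Finset.card_univ, ← Nat.card_eq_fintype_card, CharBasicOrth.card_irrCharacter, S3669.card_classes]
  set T : Finset (IrrCharacter A) := {BlockPrincipal81.oneChar A, θ, θ'} with hT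
  have hT3 : T.card = 3 := by
    rw [hT, Finset.card_insert_of_notMem (by simp [Ne.symm hθ1, Ne.symm hθ'1]), Finset.card_pair hne']
  obtain ⟨a, b, hab, hrest⟩ := Finset.card_eq_two.1
    (show (Finset.univ \ T).card = 2 by
      rw [Finset.card_sdiff_of_subset (Finset.subset_univ _), huniv, hT3])
  have hnot : ∀ c ∈ ({a, b} : Finset (IrrCharacter A)), c ≠ BlockPrincipal81.oneChar A := by
    intro c hc h
    rw [← hrest, Finset.mem_sdiff] at hc
    exact hc.2 (by simp [hT, h])
  have hsum : ∑ χ : IrrCharacter A, BlockCount91.deg χ ^ 2 = 60 := BlockCount91.sum_deg_sq.trans hcard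
  rw [← Finset.sum_sdiff (Finset.subset_univ T), hrest, Finset.sum_pair hab, hT,
    Finset.sum_insert (by simp [Ne.symm hθ1, Ne.symm hθ'1]), Finset.sum_pair hne', BlockCount91.deg_one,
    hdeg'] at hsum
  have hmem : ∀ c : IrrCharacter A, c ≠ BlockPrincipal81.oneChar A →
      BlockCount91.deg c ∈ [2, 3, 4, 5, 6] := by
    intro c hc
    have h1 := BlockCount91.two_le_deg hAc hc
    have h2 : BlockCount91.deg c ∣ 60 := hcard ▸ CharAverage.charDegree_dvd_card c
    have h3 : BlockCount91.deg c ^ 2 ≤ 60 := (CharKernel.charDegree_sq_le c).trans_eq hcard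
    exact seven_key _ (by nlinarith) h1 (Nat.mod_eq_zero_of_dvd h2)
  have hd3 : BlockCount91.deg θ = 3 := squares_key _ (hmem θ hθ1) _ (hmem a (hnot a (by simp))) _
    (hmem b (hnot b (by simp))) (by omega)
  refine ⟨?_, θ, hd3⟩
  obtain ⟨χ, d, hd, hdvd⟩ := CharItoMichler.constituent_dvd A θ.2
  refine ⟨_, ⟨χ, rfl⟩, ?_⟩
  have hd' : d = 3 := by
    rw [BlockCount91.apply_one, Nat.cast_inj] at hd
    omega
  have horb := CharInduced.card_inertia_mul_card_orbit A (θ : A → ℂ)
  have hle := Subgroup.card_dvd_of_le (CharInduced.le_inertia A (CharInduced.isClassFunction_irr θ.2))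
  rw [Nat.card_perm, Nat.card_fin, show Nat.factorial 5 = 120 from rfl] at horb
  rw [hcard] at hle
  have h2 : 2 ≤ (CharInduced.orbitFin A (θ : A → ℂ)).card := Finset.one_lt_card.2
    ⟨_, CharInduced.self_mem_orbitFin A _, (θ' : A → ℂ), (CharInduced.mem_orbitFin A).2 ⟨g, rfl⟩,
      fun h => hne' (Subtype.ext h)⟩
  obtain ⟨m, hm⟩ := hle
  rw [hm] at horb
  have h3 : m * (CharInduced.orbitFin A (θ : A → ℂ)).card = 2 := by
    rw [mul_assoc] at horb
    omega
  have h4 : (CharInduced.orbitFin A (θ : A → ℂ)).card ≤ 2 := h3 ▸ Nat.le_mul_of_pos_left _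
    (Nat.pos_of_ne_zero fun h => by rw [h, zero_mul] at h3; omega)
  rw [hd', show (CharInduced.orbitFin A (θ : A → ℂ)).card = 2 by omega] at hdvd
  exact hdvd

/-- The automorphism group of `A₅` is `S₅`. -/
theorem exists_perm_hom {G : Type u} [Group G] [Finite G] (K : Subgroup G) [K.Normal] [IsSimpleGroup K]
    (hK : Nat.card K = 60) :
    ∃ f : G →* Equiv.Perm (Fin 5), f.ker = Subgroup.centralizer (K : Set G) := by
  obtain ⟨e⟩ := Cfsg.Agent.S0494.result hK
  set c : Equiv.Perm (Fin 5) →* MulAut (alternatingGroup (Fin 5)) := MulAut.conjNormal with hc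
  have hinj : Function.Injective c := S4231.conjNormal_injective (by norm_num)
  have hsurj : Function.Surjective c := fun φ => by
    refine S4231.exists_conjNormal_eq 5 (by norm_num) φ fun x hx => ?_
    refine card_support_eq_three_iff.1 (threeCycle_key _ ?_ fun h => ?_)
    · rw [← map_pow, ← map_one φ]
      congr 1
      ext1
      rw [Subgroup.coe_pow, Subgroup.coe_one]
      simpa [hx.orderOf] using pow_orderOf_eq_one (x : Equiv.Perm (Fin 5))
    · have := φ.map_eq_one_iff.1 h
      rw [this] at hx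
      simpa [Equiv.Perm.IsThreeCycle] using hx
  let E := MulEquiv.ofBijective c ⟨hinj, hsurj⟩
  refine ⟨E.symm.toMonoidHom.comp ((MulAut.congr e).toMonoidHom.comp MulAut.conjNormal), ?_⟩
  ext g
  simp only [MonoidHom.mem_ker, MonoidHom.comp_apply, MulEquiv.coe_toMonoidHom,
    MulEquiv.map_eq_one_iff, Subgroup.mem_centralizer_iff]
  constructor
  · intro h y hy
    have := congrArg Subtype.val (DFunLike.congr_fun h ⟨y, hy⟩)
    rw [MulAut.conjNormal_apply, MulAut.one_apply] at this
    exact (mul_inv_eq_iff_eq_mul.1 this).symm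
  · intro h
    ext ⟨y, hy⟩
    rw [MulAut.conjNormal_apply, MulAut.one_apply]
    show g * y * g⁻¹ = y
    rw [← h y hy, mul_inv_cancel_right]

theorem charDegrees_subset_of_surjective {G : Type u} [Group G] [Finite G] {H : Type*} [Group H]
    (f : G →* H) (hf : Function.Surjective f) : charDegrees H ⊆ charDegrees G := by
  rintro _ ⟨χ, rfl⟩
  exact ⟨⟨_, CharBasic.isIrrCharacter_comap f hf χ.2⟩, by simp [charDegree]⟩

/-- Twisting a character of a simple direct factor by a linear character moved by `G`. -/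
theorem exists_six_of_moved {G : Type u} [Group G] [Finite G] (K L : Subgroup G) [K.Normal] [L.Normal]
    (hK : Nat.card K = 60) [IsSimpleGroup K] (hL : Nat.card L = 3) (hdisj : K ⊓ L = ⊥)
    (hG : Nat.card G = 360) {c l : G} (hl : l ∈ L)
    (hcl : c * l * c⁻¹ ≠ l) : ∃ d ∈ charDegrees G, 6 ∣ d := by
  haveI := Fintype.ofFinite G
  set M := K ⊔ L with hM
  haveI := Fintype.ofFinite M
  have hrel : K.relIndex M = 3 := by
    rw [hM, sup_comm, Subgroup.relIndex_sup_right, ← Subgroup.inf_relIndex_right, hdisj,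
      Subgroup.relIndex_bot_left, hL]
  have hMc : Nat.card M = 180 := by
    have := Subgroup.card_mul_index (K.subgroupOf M)
    rw [← Subgroup.relIndex, hrel, Nat.card_congr (Subgroup.subgroupOfEquivOfLe le_sup_left).toEquiv,
      hK] at this
    omega
  set K' := K.subgroupOf M with hK'
  set L' := L.subgroupOf M with hL'
  have hK'L' : K' ⊓ L' = ⊥ := by
    rw [hK', hL', Subgroup.subgroupOf, Subgroup.subgroupOf, ← Subgroup.comap_inf, hdisj,
      MonoidHom.comap_bot, Subgroup.ker_subtype]
  -- a linear character nontrivial on `L`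
  have hK'3 : K'.index = 3 := hrel
  have hcommM : commutator M ≤ K' := by
    haveI : IsMulCommutative (M ⧸ K') := by
      haveI : Fact (Nat.Prime 3) := ⟨Nat.prime_three⟩
      haveI : IsCyclic (M ⧸ K') := isCyclic_of_prime_card (p := 3) (by rw [← Subgroup.index_eq_card, hK'3])
      infer_instance
    exact Subgroup.Normal.quotient_commutative_iff_commutator_le.1 inferInstance
  obtain ⟨μ, hμ⟩ : ∃ μ : M →* ℂˣ, μ ≠ 1 := by
    haveI : Nontrivial (M →* ℂˣ) := by
      rw [← Finite.one_lt_card_iff_nontrivial, CharBasicLinear.card_hom_units]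
      have h := Nat.le_of_dvd (Nat.pos_of_ne_zero Subgroup.index_ne_zero_of_finite)
        (Subgroup.index_dvd_of_le hcommM)
      omega
    exact exists_ne 1
  have hKcomm : ⁅K', K'⁆ = K' := by
    have hKc : ¬ IsMulCommutative K := not_comm_of_not_prime (by rw [hK]; norm_num)
    have h : commutator K = ⊤ := by
      refine (eq_bot_or_top (inferInstance : (commutator K).Normal)).resolve_left fun h => hKc ?_
      rw [commutator_def, Subgroup.commutator_eq_bot_iff_le_centralizer] at h
      exact ⟨⟨fun a b => (Subgroup.mem_centralizer_iff.1 (h (Subgroup.mem_top b)) a (Subgroup.mem_top a))⟩⟩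
    set i : K →* M := Subgroup.inclusion le_sup_left with hi
    have hir : (⊤ : Subgroup K).map i = K' := by
      rw [← MonoidHom.range_eq_map]
      ext y
      exact ⟨by rintro ⟨a, rfl⟩; exact a.2, fun hy => ⟨⟨y, hy⟩, Subtype.ext rfl⟩⟩
    conv_rhs => rw [← hir, ← h, commutator_def, Subgroup.map_commutator, hir]
  have hμK : K' ≤ μ.ker := by
    rw [← hKcomm]
    exact (Subgroup.commutator_mono le_top le_top).trans (Abelianization.commutator_subset_ker μ)
  have hμL : ∀ x ∈ L', μ x = 1 → x = 1 := by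
    intro x hx h1
    by_contra hne
    haveI : Fact (Nat.Prime 3) := ⟨Nat.prime_three⟩
    have hLc : Nat.card L' = 3 := (Nat.card_congr (Subgroup.subgroupOfEquivOfLe le_sup_right).toEquiv).trans hL
    have hle : L' ≤ μ.ker := by
      intro y hy
      obtain ⟨k, hk⟩ := mem_zpowers_of_prime_card hLc (g := (⟨x, hx⟩ : L')) (g' := ⟨y, hy⟩)
        (fun h => hne (congrArg Subtype.val h))
      rw [MonoidHom.mem_ker, show y = x ^ k from congrArg Subtype.val hk.symm, map_zpow, h1, one_zpow]
    refine hμ (MonoidHom.ker_eq_top_iff.1 (top_le_iff.1 ?_))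
    have hsup : (⊤ : Subgroup M) = K' ⊔ L' := by
      rw [hK', hL', ← Subgroup.subgroupOf_sup le_sup_left le_sup_right, Subgroup.subgroupOf_self]
    rw [hsup]
    exact sup_le hμK hle
  -- a character of degree `3` of the quotient by `L`
  haveI : L'.Normal := inferInstance
  set π := QuotientGroup.mk' L' with hπ
  have hq : Nat.card (M ⧸ L') = 60 := by
    have h := card_quotient_mul L'
    rw [Nat.card_congr (Subgroup.subgroupOfEquivOfLe le_sup_right).toEquiv, hL, hMc] at h
    omega
  obtain ⟨e⟩ := Cfsg.Agent.S0494.result hK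
  have hbij : Function.Bijective (π.comp (Subgroup.inclusion (le_sup_left : K ≤ M))) := by
    refine (Nat.bijective_iff_injective_and_card _).2 ⟨?_, by rw [hK, hq]⟩
    rw [injective_iff_map_eq_one]
    intro a ha
    have h1 : Subgroup.inclusion (le_sup_left : K ≤ M) a ∈ K' ⊓ L' :=
      ⟨a.2, (QuotientGroup.eq_one_iff _).1 ha⟩
    rw [hK'L', Subgroup.mem_bot] at h1
    exact Subgroup.inclusion_injective _ (h1.trans (map_one _).symm)
  set φ : M →* alternatingGroup (Fin 5) := e.toMonoidHom.comp
    ((MulEquiv.ofBijective _ hbij).symm.toMonoidHom.comp π) with hφ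
  have hφs : Function.Surjective φ :=
    e.surjective.comp ((MulEquiv.ofBijective _ hbij).symm.surjective.comp (QuotientGroup.mk'_surjective _))
  have hφL : ∀ x ∈ L', φ x = 1 := fun x hx => by
    simp [hφ, hπ, (QuotientGroup.eq_one_iff x).2 hx]
  obtain ⟨θ, hθ⟩ := six_perm_five.2
  have hθ1 : (θ : alternatingGroup (Fin 5) → ℂ) 1 = 3 := by
    rw [BlockCount91.apply_one, BlockCount91.deg, hθ]; norm_num
  set ψ : M → ℂ := fun m => (θ : alternatingGroup (Fin 5) → ℂ) (φ m) * (μ m : ℂ) with hψ
  have hψirr : IsIrrCharacter M ψ :=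
    CharBasicDecomp.isIrrCharacter_mul_linear (CharBasic.isIrrCharacter_comap φ hφs θ.2) μ
  haveI : M.Normal := Subgroup.sup_normal K L
  obtain ⟨χ, d, hd, hdvd⟩ := CharItoMichler.constituent_dvd M hψirr
  refine ⟨_, ⟨χ, rfl⟩, ?_⟩
  have hd3 : d = 3 := by
    rw [hψ] at hd
    simp only [map_one, hθ1, Units.val_one, mul_one] at hd
    exact_mod_cast hd.symm
  have h2 : 2 ≤ (CharInduced.orbitFin M ψ).card := by
    refine Finset.one_lt_card.2 ⟨_, CharInduced.self_mem_orbitFin M _, CharInduced.conjFun M ψ c,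
      (CharInduced.mem_orbitFin M).2 ⟨c, rfl⟩, fun h => ?_⟩
    have hlM : l ∈ M := le_sup_right (a := K) hl
    have hclM : c * l * c⁻¹ ∈ L := (inferInstance : L.Normal).conj_mem l hl c
    have h1 : ψ ⟨l, hlM⟩ = ψ ⟨c * l * c⁻¹, le_sup_right (a := K) hclM⟩ := congrFun h ⟨l, hlM⟩
    have ha : (⟨l, hlM⟩ : M) ∈ L' := hl
    have hb : (⟨c * l * c⁻¹, le_sup_right (a := K) hclM⟩ : M) ∈ L' := hclM
    simp only [hψ, hφL _ ha, hφL _ hb, hθ1] at h1
    have h2 := Units.ext (mul_left_cancel₀ (by norm_num : (3 : ℂ) ≠ 0) h1)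
    rw [eq_comm, ← inv_mul_eq_one, ← map_inv, ← map_mul] at h2
    have h3 := hμL _ (L'.mul_mem (L'.inv_mem hb) ha) h2
    rw [inv_mul_eq_one] at h3
    exact hcl (congrArg Subtype.val h3)
  have horb := CharInduced.card_inertia_mul_card_orbit M ψ
  obtain ⟨m, hm⟩ := Subgroup.card_dvd_of_le (CharInduced.le_inertia M (CharInduced.isClassFunction_irr hψirr))
  rw [hm, hMc, hG] at horb
  have h3 : m * (CharInduced.orbitFin M ψ).card = 2 := by
    rw [mul_assoc] at horb
    omega
  have h4 : (CharInduced.orbitFin M ψ).card ≤ 2 := h3 ▸ Nat.le_mul_of_pos_left _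
    (Nat.pos_of_ne_zero fun h => by rw [h, zero_mul] at h3; omega)
  rw [hd3, show (CharInduced.orbitFin M ψ).card = 2 by omega] at hdvd
  exact hdvd

/-- A perfect group of order dividing `360` is simple or has a normal subgroup of order two and
index `60`. -/
theorem perfect_cases {K : Type u} [Group K] [Finite K] (hK : Nat.card K ∣ 360)
    (hperf : commutator K = ⊤) (hns : ¬ Group.IsSolvable K) :
    IsSimpleGroup K ∨ ∃ Z : Subgroup K, Z.Normal ∧ Nat.card K = 120 ∧ Z.index = 60 := by
  haveI : Nontrivial K := by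
    by_contra h
    rw [not_nontrivial_iff_subsingleton] at h
    exact hns (isSolvable_of_comm fun a b => Subsingleton.elim _ _)
  obtain ⟨M, ⟨hMn, hM1⟩, hmax⟩ := Set.Finite.exists_maximal
    (Set.toFinite {M : Subgroup K | M.Normal ∧ M ≠ ⊤}) ⟨⊥, inferInstance, bot_ne_top⟩
  set π := QuotientGroup.mk' M with hπ
  have hsurj : Function.Surjective π := QuotientGroup.mk'_surjective M
  haveI : Nontrivial (K ⧸ M) := by
    rw [← Finite.one_lt_card_iff_nontrivial, ← Subgroup.index_eq_card]
    exact Nat.one_lt_iff_ne_zero_and_ne_one.2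
      ⟨Subgroup.index_ne_zero_of_finite, fun h => hM1 (Subgroup.index_eq_one.1 h)⟩
  haveI hq : IsSimpleGroup (K ⧸ M) := by
    refine ⟨fun X hX => ?_⟩
    by_cases hXt : X.comap π = ⊤
    · right
      rw [← Subgroup.map_comap_eq_self_of_surjective hsurj X, hXt, Subgroup.map_top_of_surjective _ hsurj]
    · left
      have hle : M ≤ X.comap π := fun x hx => by
        rw [Subgroup.mem_comap, show π x = 1 from (QuotientGroup.eq_one_iff x).2 hx]; exact one_mem _
      rw [← Subgroup.map_comap_eq_self_of_surjective hsurj X,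
        le_antisymm (hmax ⟨hX.comap π, hXt⟩ hle) hle, hπ, QuotientGroup.map_mk'_self]
  have hqc : ¬ IsMulCommutative (K ⧸ M) := fun hc => hM1 (top_le_iff.1 (hperf ▸
    Subgroup.Normal.quotient_commutative_iff_commutator_le.1 hc))
  have hKle := Nat.le_of_dvd (by norm_num) hK
  have hmul := card_quotient_mul M
  have hqd : Nat.card (K ⧸ M) ∣ 360 := (Dvd.intro_left _ hmul).trans hK
  have hqle := Nat.le_of_dvd (by norm_num) hqd
  have ht : Nat.card (K ⧸ M) = 60 ∨ Nat.card (K ⧸ M) = 360 := by
    have := simple_order_mem hqc (by omega)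
    simp only [simpleOrders, List.mem_cons, List.not_mem_nil, or_false] at this
    rcases this with h | h | h | h | h | h | h | h | h | h | h <;> rw [h] at hqd hqle <;> omega
  rcases ht with ht | ht
  swap
  · left
    have hM : M = ⊥ := by
      rw [← Subgroup.card_eq_one]
      rw [ht] at hmul
      have := Nat.card_pos (α := M)
      omega
    subst hM
    exact (QuotientGroup.quotientBot (G := K)).symm.isSimpleGroup
  rw [ht] at hmul
  have hM6 : Nat.card M ∣ 6 := by
    rw [← hmul] at hK
    exact Nat.dvd_of_mul_dvd_mul_right (by norm_num : 0 < 60) (by simpa using hK)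
  have hMle := Nat.le_of_dvd (by norm_num) hM6
  by_cases h3 : 3 ∣ Nat.card M
  · exfalso
    haveI : Fact (Nat.Prime 3) := ⟨Nat.prime_three⟩
    obtain ⟨L₀⟩ : Nonempty (Sylow 3 M) := inferInstance
    have hL₀ : Nat.card ↥(L₀ : Subgroup M) = 3 :=
      sylow_card_prime (n := 6) (by norm_num) hM6 h3 L₀
    haveI : Subsingleton (Sylow 3 M) := by
      have hd : Nat.card (Sylow 3 M) ∣ 6 :=
        (L₀.card_dvd_index.trans (Subgroup.index_dvd_card _)).trans hM6
      have hle := Nat.le_of_dvd (by norm_num) hd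
      have hd2 := L₀.card_dvd_index
      have hi := (L₀ : Subgroup M).card_mul_index
      rw [hL₀] at hi
      have hile := Nat.le_of_dvd (Nat.pos_of_ne_zero Subgroup.index_ne_zero_of_finite) hd2
      have hmod : Nat.card (Sylow 3 M) % 3 = 1 := by
        have := card_sylow_modEq_one 3 M
        rwa [Nat.ModEq, Nat.one_mod_eq_one.2 (by norm_num)] at this
      exact (Nat.card_eq_one_iff_unique.1 (by omega)).1
    haveI hL₀n : (L₀ : Subgroup M).Normal := L₀.normal_of_subsingleton
    haveI : (L₀ : Subgroup M).Characteristic := L₀.characteristic_of_normal hL₀n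
    set L := (L₀ : Subgroup M).map M.subtype with hLdef
    haveI : L.Normal := ConjAct.normal_of_characteristic_of_normal
    have hL : Nat.card L = 3 := by rw [hLdef, Subgroup.card_map_of_injective M.subtype_injective, hL₀]
    have hLcen : L ≤ Subgroup.center K := by
      haveI : IsCyclic L := isCyclic_of_prime_card hL
      have hker : commutator K ≤ (MulAut.conjNormal : K →* MulAut L).ker := by
        rw [commutator_def, Subgroup.commutator_le]
        intro a _ b _
        rw [MonoidHom.mem_ker, map_commutatorElement, commutatorElement_eq_one_iff_mul_comm]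
        obtain ⟨e⟩ : Nonempty (MulAut L ≃* (ZMod (Nat.card L))ˣ) := ⟨IsCyclic.mulAutMulEquiv L⟩
        exact e.injective (by rw [map_mul, map_mul, mul_comm])
      rw [hperf] at hker
      intro x hx
      rw [Subgroup.mem_center_iff]
      intro k
      have := congrArg Subtype.val (DFunLike.congr_fun (MonoidHom.mem_ker.1 (hker (Subgroup.mem_top k))) ⟨x, hx⟩)
      rw [MulAut.conjNormal_apply, MulAut.one_apply] at this
      exact mul_inv_eq_iff_eq_mul.1 this
    obtain ⟨x, hx⟩ := exists_prime_orderOf_dvd_card' 3 (G := L) (by rw [hL])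
    obtain ⟨S, hS⟩ := (IsPGroup.of_card (p := 3) (n := 1) (by rw [hL, pow_one] : Nat.card L = 3 ^ 1)).exists_le_sylow
    have hS9 : Nat.card ↥(S : Subgroup K) = 3 ^ 2 := by
      rcases (Nat.dvd_prime Nat.prime_two).1 (Nat.dvd_of_mul_dvd_mul_left (by norm_num : 0 < 3)
        (show 3 * (Nat.card M / 3) ∣ 3 * 2 by rw [Nat.mul_div_cancel' h3]; exact hM6)) with h | h
      · exact sylow_card_of_eq (p := 3) (k := 2) (m := 20) (by omega) (by norm_num) S
      · exact sylow_card_of_eq (p := 3) (k := 2) (m := 40) (by omega) (by norm_num) S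
    haveI : IsMulCommutative (S : Subgroup K) := ⟨⟨(IsPGroup.commGroupOfCardEqPrimeSq hS9).mul_comm⟩⟩
    have hne : ¬ 3 ∣ (S : Subgroup K).index := S.not_dvd_index
    have h1 := TransferPow.eq_one_of_mem_center_commutator (H := (S : Subgroup K)) (x := (x : K))
      (hS x.2) (hLcen x.2) (by rw [hperf]; trivial)
      (by rw [Subgroup.orderOf_coe, hx]; exact ((Nat.Prime.coprime_iff_not_dvd Nat.prime_three).2 hne).symm)
    rw [← orderOf_eq_one_iff, Subgroup.orderOf_coe, hx] at h1
    omega
  obtain h | h : Nat.card M = 1 ∨ Nat.card M = 2 := by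
    have h5 : ∀ c ≤ 6, c ∣ 6 → c = 1 ∨ c = 2 ∨ 3 ∣ c := by decide
    rcases h5 _ hMle hM6 with h | h | h
    exacts [Or.inl h, Or.inr h, absurd h h3]
  · left
    obtain rfl := Subgroup.card_eq_one.1 h
    exact (QuotientGroup.quotientBot (G := K)).symm.isSimpleGroup
  · exact Or.inr ⟨M, hMn, by rw [← hmul, h], by rw [Subgroup.index_eq_card, ht]⟩

/-- A nonsolvable, nonsimple group of order `360` has a degree divisible by `6` or none divisible
by `10`. -/
theorem order_360 {G : Type u} [Group G] [Finite G] (hG : Nat.card G = 360) (hns : ¬ Group.IsSolvable G)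
    (hs : ¬ IsSimpleGroup G) :
    (∃ d ∈ charDegrees G, 6 ∣ d) ∨ ∀ d ∈ charDegrees G, ¬ 10 ∣ d := by
  haveI := Fintype.ofFinite G
  rw [or_iff_not_imp_right]
  intro h10
  push Not at h10
  obtain ⟨-, ⟨χ, rfl⟩, hχ⟩ := h10
  set d := charDegree (χ : G → ℂ) with hd
  have hd10 : d = 10 := by
    have h1 : d ^ 2 ≤ 360 := (CharKernel.charDegree_sq_le χ).trans_eq hG
    obtain ⟨j, hj⟩ := hχ
    have hd0 : 0 < d := ClassAlgebraVal.charDegree_pos χ
    have : d < 19 := by nlinarith
    omega
  -- the perfect residual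
  obtain ⟨K, ⟨hKn, hKns⟩, hmin⟩ := Set.Finite.exists_minimal
    (Set.toFinite {K : Subgroup G | K.Normal ∧ ¬ Group.IsSolvable K})
    ⟨⊤, inferInstance, fun h => hns (solvable_of_normal ⊤ h (by
      haveI : Subsingleton (G ⧸ (⊤ : Subgroup G)) := QuotientGroup.subsingleton_quotient_top
      exact isSolvable_of_comm fun a b => Subsingleton.elim _ _))⟩
  have hperf : commutator K = ⊤ := by
    have hns' : ¬ Group.IsSolvable (commutator K) := fun h => hKns (solvable_of_normal (commutator K) h (by
      exact isSolvable_of_comm fun a b => by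
        haveI : IsMulCommutative (K ⧸ commutator K) :=
          Subgroup.Normal.quotient_commutative_iff_commutator_le.2 le_rfl
        exact mul_comm' a b))
    set D := (commutator K).map K.subtype with hD
    haveI : D.Normal := ConjAct.normal_of_characteristic_of_normal
    have hDK : D ≤ K := Subgroup.map_subtype_le _
    have hDns : ¬ Group.IsSolvable D := fun h => hns' (by
      have e : commutator K ≃* D := Subgroup.equivMapOfInjective _ _ K.subtype_injective
      exact solvable_of_solvable_injective (f := e.toMonoidHom) e.injective)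
    refine top_le_iff.1 fun x _ => ?_
    obtain ⟨y, hy, hxy⟩ := hmin ⟨inferInstance, hDns⟩ hDK x.2
    rwa [← Subtype.ext hxy]
  haveI := hKn
  haveI := Fintype.ofFinite K
  have hK360 : Nat.card K ∣ 360 := hG ▸ Subgroup.card_subgroup_dvd_card K
  have hmulK := K.card_mul_index
  rw [hG] at hmulK
  rcases perfect_cases hK360 hperf hKns with hKs | ⟨Z, hZn, hK120, hZ60⟩
  swap
  · exfalso
    obtain ⟨θ, hθ, hθne⟩ : ∃ θ : K → ℂ, IsIrrCharacter K θ ∧ classInner (fun n : K => (χ : G → ℂ) n) θ ≠ 0 := by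
      refine CharInduced.exists_constituent (CharInduced.isCharacter_res K (CharBasic.isCharacter_of_isIrrCharacter χ.2)) ?_
      intro h
      have := congrFun h 1
      simp only [OneMemClass.coe_one, Pi.zero_apply] at this
      exact CharBasic.isIrrCharacter_apply_one_ne_zero χ.2 this
    obtain ⟨k, e, hθ1, hχ1, hk⟩ := CharProjDegree.degree_dvd K χ.2 hθ hθne
    rw [hK120] at hmulK
    have hk3 : k ∣ 3 := (show K.index = 3 by omega) ▸ hk
    have hek : e * k = 10 := by
      rw [BlockCount91.apply_one, Nat.cast_inj] at hχ1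
      change d = e * k at hχ1
      omega
    have he : e = 10 := by
      rcases (Nat.dvd_prime Nat.prime_three).1 hk3 with rfl | rfl <;> omega
    let θ₀ : IrrCharacter K := ⟨θ, hθ⟩
    have hdθ : charDegree (θ₀ : K → ℂ) = 10 := by
      simp [charDegree, θ₀, hθ1, he]
    have htot := CharKernel.sum_sq_charDegree (G := K)
    have htriv := CharKernel.sum_sq_trivial_on (G := K) Z
    rw [hZ60] at htriv
    by_cases htr : ∀ n ∈ Z, (θ₀ : K → ℂ) n = (θ₀ : K → ℂ) 1
    · have := Finset.single_le_sum (f := fun c : {χ : IrrCharacter K // ∀ n ∈ Z, (χ : K → ℂ) n = (χ : K → ℂ) 1} =>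
        charDegree (c.1 : K → ℂ) ^ 2) (fun _ _ => Nat.zero_le _) (Finset.mem_univ ⟨θ₀, htr⟩)
      rw [htriv, hdθ] at this
      omega
    · rw [← Finset.sum_filter_add_sum_filter_not Finset.univ
        (fun c : IrrCharacter K => ∀ n ∈ Z, (c : K → ℂ) n = (c : K → ℂ) 1), hK120] at htot
      have h1 : ∑ c ∈ Finset.univ.filter (fun c : IrrCharacter K => ∀ n ∈ Z, (c : K → ℂ) n = (c : K → ℂ) 1),
          charDegree (c : K → ℂ) ^ 2 = 60 := by
        rw [← htriv]
        exact Finset.sum_subtype _ (fun c => by simp) _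
      have h2 := Finset.single_le_sum (f := fun c : IrrCharacter K => charDegree (c : K → ℂ) ^ 2)
        (fun _ _ => Nat.zero_le _) (show θ₀ ∈ Finset.univ.filter
          (fun c : IrrCharacter K => ¬ ∀ n ∈ Z, (c : K → ℂ) n = (c : K → ℂ) 1) by simpa using htr)
      rw [hdθ] at h2
      omega
  -- the simple case
  haveI := hKs
  have hKlt : Nat.card K < 360 := by
    refine lt_of_le_of_ne (Nat.le_of_dvd (by norm_num) hK360) fun h => hs ?_
    have hKtop : K = ⊤ := Subgroup.eq_top_of_card_eq K (h.trans hG.symm)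
    subst hKtop
    exact Subgroup.topEquiv.symm.isSimpleGroup
  have hK60 : Nat.card K = 60 := by
    have := simple_order_mem (not_isMulCommutative_of_not_solvable hKns) (by omega : Nat.card K < 6000)
    simp only [simpleOrders, List.mem_cons, List.not_mem_nil, or_false] at this
    rcases this with h | h | h | h | h | h | h | h | h | h | h <;> rw [h] at hK360 hKlt <;> omega
  obtain ⟨f, hf⟩ := exists_perm_hom K hK60
  set C := Subgroup.centralizer (K : Set G) with hC
  have hdisj : K ⊓ C = ⊥ := by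
    have hKC : ¬ IsMulCommutative K := not_isMulCommutative_of_not_solvable hKns
    rcases eq_bot_or_top (G := K) (inferInstance : (C.subgroupOf K).Normal) with h | h
    · rwa [Subgroup.subgroupOf_eq_bot, disjoint_iff, inf_comm] at h
    · refine absurd ⟨⟨fun a b => Subtype.ext ?_⟩⟩ hKC
      exact (Subgroup.mem_centralizer_iff.1 (Subgroup.subgroupOf_eq_top.1 h b.2) a a.2)
  have hKC : Nat.card (K ⊔ C : Subgroup G) = 60 * Nat.card C := by
    have h2 := Subgroup.card_mul_index (K.subgroupOf (K ⊔ C))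
    rw [Nat.card_congr (Subgroup.subgroupOfEquivOfLe le_sup_left).toEquiv, ← Subgroup.relIndex,
      sup_comm, Subgroup.relIndex_sup_right, ← Subgroup.inf_relIndex_right, hdisj,
      Subgroup.relIndex_bot_left, hK60, sup_comm] at h2
    exact h2.symm
  have hC6 : Nat.card C ∣ 6 := by
    have h := Subgroup.card_subgroup_dvd_card (K ⊔ C)
    rw [hKC, hG] at h
    exact Nat.dvd_of_mul_dvd_mul_left (by norm_num : 0 < 60) (by simpa using h)
  have him : C.index ∣ 120 := by
    have h := Subgroup.card_subgroup_dvd_card f.range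
    rwa [← Subgroup.index_ker, hf, Nat.card_perm, Nat.card_fin, show Nat.factorial 5 = 120 from rfl] at h
  have hmulC := C.card_mul_index
  rw [hG] at hmulC
  have hile := Nat.le_of_dvd (by norm_num) him
  have h36 : Nat.card C = 3 ∨ Nat.card C = 6 := by
    have h5 : ∀ c ≤ 6, c ∣ 6 → c = 1 ∨ c = 2 ∨ c = 3 ∨ c = 6 := by decide
    rcases h5 _ (Nat.le_of_dvd (by norm_num) hC6) hC6 with h | h | h | h
    all_goals first
      | exact Or.inl h
      | exact Or.inr h
      | (rw [h] at hmulC; omega)
  rcases h36 with h3 | h6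
  · -- `G` maps onto `S₅`
    have hfs : Function.Surjective f := by
      rw [← MonoidHom.range_eq_top]
      refine Subgroup.eq_top_of_card_eq _ ?_
      rw [← Subgroup.index_ker, hf, Nat.card_perm, Nat.card_fin, show Nat.factorial 5 = 120 from rfl]
      rw [h3] at hmulC
      omega
    obtain ⟨e, he, he6⟩ := six_perm_five.1
    exact ⟨e, charDegrees_subset_of_surjective f hfs he, he6⟩
  have hKCtop : K ⊔ C = ⊤ := Subgroup.eq_top_of_card_eq _ (by rw [hKC, h6, hG])
  haveI : Fact (Nat.Prime 3) := ⟨Nat.prime_three⟩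
  by_cases hab : ∀ a ∈ C, ∀ b ∈ C, a * b = b * a
  · exfalso
    have hcen : C ≤ Subgroup.center G := by
      intro c hc
      rw [Subgroup.mem_center_iff]
      intro g
      have hle : (⊤ : Subgroup G) ≤ Subgroup.centralizer ({c} : Set G) := hKCtop ▸ sup_le
        (fun k hk => Subgroup.mem_centralizer_singleton_iff.2 (Subgroup.mem_centralizer_iff.1 hc k hk))
        (fun a ha => Subgroup.mem_centralizer_singleton_iff.2 (hab a ha c hc))
      exact Subgroup.mem_centralizer_singleton_iff.1 (hle (Subgroup.mem_top g))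
    have h1 := TwoDegreesPrime72.sq_le_index_center χ.2 (d := d) (BlockCount91.apply_one χ)
    have h2 := Nat.le_of_dvd (Nat.pos_of_ne_zero Subgroup.index_ne_zero_of_finite) (Subgroup.index_dvd_of_le hcen)
    rw [h6] at hmulC
    rw [hd10] at h1
    omega
  push Not at hab
  obtain ⟨a, ha, b, hb, hab⟩ := hab
  obtain ⟨L₀⟩ : Nonempty (Sylow 3 C) := inferInstance
  have hL₀ : Nat.card ↥(L₀ : Subgroup C) = 3 := sylow_card_prime (n := 6) (by norm_num) hC6 (by rw [h6]; norm_num) L₀
  have hL₀i : (L₀ : Subgroup C).index = 2 := by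
    have hi := (L₀ : Subgroup C).card_mul_index
    rw [hL₀, h6] at hi
    omega
  haveI hL₀n : (L₀ : Subgroup C).Normal := Subgroup.normal_of_index_eq_two hL₀i
  haveI : (L₀ : Subgroup C).Characteristic := L₀.characteristic_of_normal hL₀n
  set L := (L₀ : Subgroup C).map C.subtype with hLdef
  haveI : L.Normal := ConjAct.normal_of_characteristic_of_normal
  have hLC : L ≤ C := Subgroup.map_subtype_le _
  have hL : Nat.card L = 3 := by rw [hLdef, Subgroup.card_map_of_injective C.subtype_injective, hL₀]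
  obtain ⟨c, hc, l, hl, hcl⟩ : ∃ c ∈ C, ∃ l ∈ L, c * l * c⁻¹ ≠ l := by
    by_contra h
    push Not at h
    suffices hcomm : (⟨a, ha⟩ : C) * ⟨b, hb⟩ = ⟨b, hb⟩ * ⟨a, ha⟩ from hab (congrArg Subtype.val hcomm)
    haveI : Fact (Nat.Prime 2) := ⟨Nat.prime_two⟩
    haveI : IsCyclic (C ⧸ (L₀ : Subgroup C)) := isCyclic_of_prime_card (p := 2) (by rw [← Subgroup.index_eq_card, hL₀i])
    refine (commutative_of_cyclic_center_quotient (QuotientGroup.mk' (L₀ : Subgroup C)) ?_) _ _
    rw [QuotientGroup.ker_mk']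
    intro y hy
    rw [Subgroup.mem_center_iff]
    intro z
    exact Subtype.ext (mul_inv_eq_iff_eq_mul.1 (h z z.2 y ⟨y, hy, rfl⟩))
  exact exists_six_of_moved K L hK60 hL (le_bot_iff.1 (hdisj ▸ inf_le_inf_left K hLC)) hG hl hcl

end Cfsg.Agent.DegGraphSmall81
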