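import Mathlib
import Cfsg.Agent.Lib.DegGraphSmallTools81
import Cfsg.Agent.Lib.PermMinimalNormal
import Cfsg.Agent.S0497

/-!
Normal Sylow subgroups of prime order in nonsolvable, nonsimple groups of small order.
-/

set_option autoImplicit false
set_option linter.style.haveILetI false
set_option linter.unusedSectionVars false

namespace Cfsg.Agent.DegGraphSmall81

open Cfsg Cfsg.Agent.SimpleOrder

universe u

/-- No element of `Perm (Fin 6)` has order `15`. -/
theorem perm_six_key : ∀ σ : Equiv.Perm (Fin 6), σ ^ 15 = 1 → σ ^ 5 = 1 ∨ σ ^ 3 = 1 := by decide +kernel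

/-- A simple group of order `360` has no subgroup of order `45`. -/
theorem no_fortyfive {N : Type u} [Group N] [Finite N] [IsSimpleGroup N] (hN : Nat.card N = 360)
    (C : Subgroup N) : Nat.card C ≠ 45 := by
  intro hC
  haveI : Fact (Nat.Prime 5) := ⟨by norm_num⟩
  haveI : Fact (Nat.Prime 3) := ⟨by norm_num⟩
  have huniq : ∀ p, ∀ [Fact p.Prime], ∀ m : ℕ, m * p ∣ 45 ^ 2 →
      (∀ d ≤ 45, d ∣ 45 → d % p = 1 → d = 1) → Subsingleton (Sylow p C) := by
    intro p _ m _ h
    obtain ⟨Q⟩ : Nonempty (Sylow p C) := inferInstance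
    have hd : Nat.card (Sylow p C) ∣ 45 := hC ▸ Q.card_dvd_index.trans (Subgroup.index_dvd_card _)
    have h1 : Nat.card (Sylow p C) = 1 := h _ (Nat.le_of_dvd (by norm_num) hd) hd (by
      have := card_sylow_modEq_one p C
      rwa [Nat.ModEq, Nat.one_mod_eq_one.2 (Fact.out : p.Prime).ne_one] at this)
    exact (Nat.card_eq_one_iff_unique.1 h1).1
  haveI := huniq 5 1 (by norm_num) (by decide)
  haveI := huniq 3 1 (by norm_num) (by decide)
  obtain ⟨a, ha⟩ := exists_prime_orderOf_dvd_card' 5 (G := C) (by rw [hC]; norm_num)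
  obtain ⟨b, hb⟩ := exists_prime_orderOf_dvd_card' 3 (G := C) (by rw [hC]; norm_num)
  obtain ⟨A, hA⟩ := (IsPGroup.of_card (p := 5) (n := 1)
    (by rw [Nat.card_zpowers, ha, pow_one] : Nat.card (Subgroup.zpowers a) = 5 ^ 1)).exists_le_sylow
  obtain ⟨B, hB⟩ := (IsPGroup.of_card (p := 3) (n := 1)
    (by rw [Nat.card_zpowers, hb, pow_one] : Nat.card (Subgroup.zpowers b) = 3 ^ 1)).exists_le_sylow
  have hdisj : Disjoint (A : Subgroup C) (B : Subgroup C) :=
    IsPGroup.disjoint_of_ne 5 3 (by norm_num) _ _ A.isPGroup' B.isPGroup'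
  have hab : Commute a b := Subgroup.commute_of_normal_of_disjoint _ _ A.normal_of_subsingleton
    B.normal_of_subsingleton hdisj a b (hA (Subgroup.mem_zpowers a)) (hB (Subgroup.mem_zpowers b))
  have hord : orderOf ((a * b : C) : N) = 15 := by
    rw [Subgroup.orderOf_coe, hab.orderOf_mul_eq_mul_orderOf_of_coprime (by rw [ha, hb]; norm_num),
      ha, hb]
  obtain ⟨e⟩ := Cfsg.Agent.S0497.result hN
  set f : N →* Equiv.Perm (Fin 6) := (alternatingGroup (Fin 6)).subtype.comp e.toMonoidHom with hf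
  have hinj : Function.Injective f := (Subgroup.subtype_injective _).comp e.injective
  have hσ : orderOf (f ((a * b : C) : N)) = 15 := by rw [orderOf_injective f hinj, hord]
  rcases perm_six_key _ (hσ ▸ pow_orderOf_eq_one _) with h | h <;>
    have := hσ ▸ orderOf_dvd_of_pow_eq_one h <;> norm_num at this

section

variable {H : Type u} [Group H] [Finite H] {p : ℕ} [Fact p.Prime]

/-- Prime powers `q ^ k` dividing `|N|` with no `q ^ i % p = 1` divide the fixed subgroup. -/
theorem dvd_fixed {N : Subgroup H} [N.Normal] (P : Sylow p H) (hP : Nat.card ↥(P : Subgroup H) = p)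
    (hpN : ¬ p ∣ Nat.card N) (hpH : p ∣ Nat.card H) {q k : ℕ} (hq : q.Prime) (hk : q ^ k ∣ Nat.card N)
    (hgood : ∀ i, 0 < i → q ^ i ∣ Nat.card N → q ^ i % p ≠ 1) :
    q ^ k ∣ Nat.card ↥(N ⊓ Subgroup.centralizer ((P : Subgroup H) : Set H)) := by
  haveI := Fact.mk hq
  have hp := (Fact.out : p.Prime)
  obtain ⟨Q₀⟩ : Nonempty (Sylow q N) := inferInstance
  set Q := (Q₀ : Subgroup N).map N.subtype with hQ
  set M := Subgroup.normalizer (Q : Set H) with hM
  have hfr : M ⊔ N = ⊤ := Sylow.normalizer_sup_eq_top Q₀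
  have hpM : p ∣ Nat.card M := by
    by_contra h
    have h1 : Nat.card H ∣ Nat.card M * Nat.card N := by
      rw [← Subgroup.card_top (G := H), ← hfr]
      have := Subgroup.card_mul_index (N.subgroupOf (M ⊔ N))
      rw [Nat.card_congr (Subgroup.subgroupOfEquivOfLe le_sup_right).toEquiv] at this
      rw [← this, mul_comm (Nat.card M)]
      refine mul_dvd_mul_left _ ?_
      rw [← Subgroup.relIndex, Subgroup.relIndex_sup_right]
      exact Subgroup.relIndex_dvd_card N M
    exact (hp.dvd_mul.1 (hpH.trans h1)).elim h hpN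
  obtain ⟨y, hy⟩ := exists_prime_orderOf_dvd_card' p (G := M) hpM
  have hy' : orderOf (y : H) = p := by rw [Subgroup.orderOf_coe, hy]
  obtain ⟨R, hR⟩ := (IsPGroup.of_card (p := p) (n := 1)
    (by rw [Nat.card_zpowers, hy', pow_one] : Nat.card (Subgroup.zpowers (y : H)) = p ^ 1)).exists_le_sylow
  have hRM : (R : Subgroup H) ≤ M := by
    have hRe : Subgroup.zpowers (y : H) = (R : Subgroup H) := by
      refine Subgroup.eq_of_le_of_card_ge hR ?_
      rw [Nat.card_zpowers, hy', Nat.card_congr (R.equiv P).toEquiv, hP]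
    rw [← hRe, Subgroup.zpowers_le]
    exact y.2
  obtain ⟨g, hg⟩ := MulAction.exists_smul_eq H R P
  set Q' := Q.map (MulAut.conj g).toMonoidHom with hQ'
  have hQN : Q' ≤ N := by
    rintro _ ⟨x, ⟨x₀, -, rfl⟩, rfl⟩
    exact (inferInstance : N.Normal).conj_mem _ x₀.2 g
  have hPQ : (P : Subgroup H) ≤ Subgroup.normalizer (Q' : Set H) := by
    have hPe : (P : Subgroup H) = (R : Subgroup H).map (MulAut.conj g).toMonoidHom := by
      rw [← hg, Sylow.coe_subgroup_smul]; rfl
    rw [hPe, hQ']
    exact (Subgroup.map_mono hRM).trans (Subgroup.le_normalizer_map _)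
  have hA : IsPGroup p (P : Subgroup H) := P.isPGroup'
  obtain ⟨a, ha⟩ := (Q₀.isPGroup'.exists_card_eq)
  have hQc : Nat.card Q' = q ^ a := by
    rw [hQ', Subgroup.card_map_of_injective (MulAut.conj g).injective, hQ,
      Subgroup.card_map_of_injective N.subtype_injective, ha]
  have hka : q ^ k ∣ q ^ a := by
    rw [← ha, Q₀.card_eq_multiplicity]
    exact pow_dvd_pow q ((hq.pow_dvd_iff_le_factorization Nat.card_pos.ne').1 hk)
  obtain ⟨j, hja, hj⟩ := (Nat.dvd_prime_pow hq).1
    (hQc ▸ Subgroup.card_dvd_of_le (inf_le_left : Q' ⊓ Subgroup.centralizer ((P : Subgroup H) : Set H) ≤ Q'))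
  have hm := SimpleRange30.card_inf_centralizer_modEq hA hPQ
  rw [hQc, hj] at hm
  have hje : j = a := by
    rcases eq_or_lt_of_le hja with h | h
    · exact h
    exfalso
    refine hgood (a - j) (by omega) ((pow_dvd_pow q (Nat.sub_le a j)).trans
      (hQc ▸ Subgroup.card_dvd_of_le hQN)) ?_
    have hqp : q ≠ p := by
      rintro rfl
      exact hpN ((dvd_pow_self q (by omega : a ≠ 0)).trans (hQc ▸ Subgroup.card_dvd_of_le hQN))
    have hcop : Nat.Coprime p (q ^ j) := ((Nat.coprime_primes hp hq).2 (Ne.symm hqp)).pow_right j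
    have h1 : q ^ (a - j) * q ^ j ≡ 1 * q ^ j [MOD p] := by
      rw [← pow_add, Nat.sub_add_cancel hja, one_mul]; exact hm
    have h2 := Nat.ModEq.cancel_right_of_coprime hcop h1
    rwa [Nat.ModEq, Nat.one_mod_eq_one.2 hp.ne_one] at h2
  refine hka.trans ?_
  rw [← hje, ← hj]
  exact Subgroup.card_dvd_of_le (inf_le_inf_right _ hQN)

end

theorem primePow_dvd_small {t q i : ℕ} (ht : t ∈ [60, 168, 360, 504]) (hq : q.Prime) (hi : 0 < i)
    (h : q ^ i ∣ t) : q ^ i ∈ [2, 3, 4, 5, 7, 8, 9] := by
  have key : ∀ t ∈ [60, 168, 360, 504], ∀ d ≤ t, d ∣ t → 1 < d →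
      d ∈ [2, 3, 4, 5, 7, 8, 9] ∨ 6 ∣ d ∨ 10 ∣ d ∨ 14 ∣ d ∨ 15 ∣ d ∨ 21 ∣ d ∨ 35 ∣ d := by decide +kernel
  have htpos : 0 < t := by simp only [List.mem_cons, List.not_mem_nil, or_false] at ht; omega
  rcases key t ht _ (Nat.le_of_dvd htpos h) h (one_lt_pow₀ hq.one_lt hi.ne') with
    h' | h' | h' | h' | h' | h' | h'
  · exact h'
  all_goals
    exfalso
    have aux : ∀ r, r.Prime → r ∣ q ^ i → r = q := fun r hr hd =>
      (Nat.prime_dvd_prime_iff_eq hr hq).1 (hr.dvd_of_dvd_pow hd)
    have a2 : 2 ∣ q ^ i → q = 2 := fun e => (aux 2 (by norm_num) e).symm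
    have a3 : 3 ∣ q ^ i → q = 3 := fun e => (aux 3 (by norm_num) e).symm
    have a5 : 5 ∣ q ^ i → q = 5 := fun e => (aux 5 (by norm_num) e).symm
    have a7 : 7 ∣ q ^ i → q = 7 := fun e => (aux 7 (by norm_num) e).symm
    omega

theorem not_two_primes {q i : ℕ} (hq : q.Prime) {r s : ℕ} (hr : r.Prime) (hs : s.Prime) (hrs : r ≠ s) :
    ¬ r * s ∣ q ^ i := fun h => by
  have h3 := (Nat.prime_dvd_prime_iff_eq hr hq).1 (hr.dvd_of_dvd_pow ((dvd_mul_right r s).trans h))
  have h5 := (Nat.prime_dvd_prime_iff_eq hs hq).1 (hs.dvd_of_dvd_pow ((dvd_mul_left s r).trans h))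
  omega

/-- Arithmetic conditions on an order `n` and a list of primes. -/
structure Arith (n : ℕ) (ps : List ℕ) : Prop where
  pos : 0 < n
  lt : n < 6000
  ne : ps ≠ []
  prime : ∀ p ∈ ps, p.Prime ∧ 5 ≤ p ∧ p ∣ n ∧ ¬ p ^ 2 ∣ n
  all : ∀ t ∈ simpleOrders, t ∣ n → (∀ p ∈ ps, p ∣ t) → t = n
  one : ∀ p ∈ ps, ∀ t ∈ simpleOrders, t ∣ n → t ≠ n → ∀ d ≤ n / 60, d * t ∣ n → d % p = 1 →
    d = 1 ∨ 2 * 3 ∣ d ∨ 3 * 5 ∣ d ∨ 3 * 7 ∣ d
  sub : ∀ p ∈ ps, ∀ t ∈ simpleOrders, t * p ∣ n → t ∈ [60, 168, 360, 504] ∧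
    ∀ d ∈ [2, 3, 4, 5, 7, 8, 9], d ∣ t → d % p = 1 → t = 360 ∧ p = 7 ∧ d = 8
  cnt : ∀ p ∈ ps, ∀ t ∈ simpleOrders, t * p ∣ n → ∀ d ≤ n / 60, d ∣ n / t → d % p = 1 → d = 1
  big : ∀ p ∈ ps, n < 3600 * p

/-- A simple normal subgroup is centralised by the Sylow `p`-subgroup. -/
theorem le_centralizer_of_simple {n : ℕ} {ps : List ℕ} (hA : Arith n ps) {H : Type u} [Group H] [Finite H]
    {p : ℕ} [Fact p.Prime] (hp : p ∈ ps) (hH : Nat.card H ∣ n) (hpH : p ∣ Nat.card H) (P : Sylow p H)
    (N : Subgroup H) [N.Normal] [IsSimpleGroup N] (hN : ¬ IsMulCommutative N) (hpN : ¬ p ∣ Nat.card N) :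
    Nat.card N ∈ simpleOrders ∧ Nat.card N * p ∣ n ∧
      N ≤ Subgroup.centralizer ((P : Subgroup H) : Set H) := by
  obtain ⟨-, -, hpn, hp2⟩ := hA.prime p hp
  have hP := sylow_card_prime hp2 hH hpH P
  have htn : Nat.card N * p ∣ n := ((Nat.Prime.coprime_iff_not_dvd (Fact.out : p.Prime)).2 hpN).symm
    |>.mul_dvd_of_dvd_of_dvd ((Subgroup.card_subgroup_dvd_card N).trans hH) hpn
  have ht : Nat.card N ∈ simpleOrders := simple_order_mem hN (lt_of_le_of_lt
    (Nat.le_of_dvd hA.pos ((dvd_mul_right _ p).trans htn)) hA.lt)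
  obtain ⟨ht4, hbad⟩ := hA.sub p hp _ ht htn
  refine ⟨ht, htn, ?_⟩
  set C := N ⊓ Subgroup.centralizer ((P : Subgroup H) : Set H) with hC
  have hCN : Nat.card C ∣ Nat.card N := Subgroup.card_dvd_of_le inf_le_left
  suffices h : Nat.card C = Nat.card N from inf_eq_left.1 (Subgroup.eq_of_le_of_card_ge inf_le_left h.ge)
  by_cases hs : Nat.card N = 360 ∧ p = 7
  · obtain ⟨h360, rfl⟩ := hs
    have h9 : 3 ^ 2 ∣ Nat.card C := dvd_fixed P hP hpN hpH (by norm_num) (by rw [h360]; norm_num)
      fun i hi hd h1 => by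
        have := hbad _ (primePow_dvd_small ht4 (by norm_num) hi hd) hd h1
        have h2 : 2 ∣ 3 ^ i := ⟨4, this.2.2⟩
        exact absurd (Nat.prime_two.dvd_of_dvd_pow h2) (by norm_num)
    have h5 : 5 ^ 1 ∣ Nat.card C := dvd_fixed P hP hpN hpH (by norm_num) (by rw [h360]; norm_num)
      fun i hi hd h1 => by
        have := hbad _ (primePow_dvd_small ht4 (by norm_num) hi hd) hd h1
        have h2 : 2 ∣ 5 ^ i := ⟨4, this.2.2⟩
        exact absurd (Nat.prime_two.dvd_of_dvd_pow h2) (by norm_num)
    have h45 : 45 ∣ Nat.card C := by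
      have := Nat.Coprime.mul_dvd_of_dvd_of_dvd (by norm_num) h9 h5
      simpa using this
    by_contra hne
    rw [h360] at hCN hne
    have hc : Nat.card (C.subgroupOf N) = Nat.card C :=
      Nat.card_congr (Subgroup.subgroupOfEquivOfLe inf_le_left).toEquiv
    have hne' : C.subgroupOf N ≠ ⊤ := fun h => by
      rw [h, Subgroup.card_top, h360] at hc
      exact hne hc.symm
    have h5' := five_le_index hN _ hne'
    have hmul := (C.subgroupOf N).card_mul_index
    rw [hc, h360] at hmul
    have hc45 : Nat.card C = 45 := by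
      obtain ⟨k, hk⟩ := h45
      rw [hk, mul_assoc] at hmul
      have h8 : k * (C.subgroupOf N).index = 8 := by omega
      have hk2 : k ∣ 8 := Dvd.intro _ h8
      have := Nat.le_of_dvd (by norm_num) hk2
      interval_cases k <;> omega
    exact no_fortyfive h360 _ (hc.trans hc45)
  refine Nat.dvd_antisymm hCN ((Nat.dvd_iff_prime_pow_dvd_dvd _ _).2 fun q k hq hqk => ?_)
  rcases Nat.eq_zero_or_pos k with rfl | hk0
  · simp
  refine dvd_fixed P hP hpN hpH hq hqk fun i hi hd h1 => hs ?_
  have := hbad _ (primePow_dvd_small ht4 hq hi hd) hd h1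
  exact ⟨this.1, this.2.1⟩

/-- A nonsolvable group is simple or has a normal Sylow subgroup for one of the primes. -/
theorem simple_or_normal {n : ℕ} {ps : List ℕ} (hA : Arith n ps) :
    ∀ (k : ℕ) (H : Type u) [Group H] [Finite H], Nat.card H = k → k ∣ n → (∀ p ∈ ps, p ∣ k) →
      ¬ Group.IsSolvable H →
      IsSimpleGroup H ∨ ∃ p ∈ ps, ∃ P : Sylow p H, (P : Subgroup H).Normal := by
  intro k
  induction k using Nat.strong_induction_on with
  | _ k ih =>
    intro H _ _ hk hkn hps hns
    by_cases hs : IsSimpleGroup H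
    · exact Or.inl hs
    right
    have hlt : k < 6000 := lt_of_le_of_lt (Nat.le_of_dvd hA.pos hkn) hA.lt
    haveI : Nontrivial H := by
      by_contra h
      rw [not_nontrivial_iff_subsingleton] at h
      exact hns (isSolvable_of_comm fun a b => Subsingleton.elim _ _)
    obtain ⟨N, hNn, hN1, hmin⟩ := exists_minimal_normal H
    have hNtop : N ≠ ⊤ := fun h => hs ⟨fun K hK => or_iff_not_imp_left.2 fun hK1 => by
      rw [← h]; exact hmin K hK (h ▸ le_top) hK1⟩
    have hmul := card_quotient_mul N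
    rw [hk] at hmul
    have hNlt : Nat.card N < k := by
      rw [← hk]
      exact lt_of_le_of_ne (Nat.le_of_dvd Nat.card_pos (Subgroup.card_subgroup_dvd_card N))
        fun h => hNtop (Subgroup.eq_top_of_card_eq N h)
    by_cases hsol : Group.IsSolvable N
    · obtain ⟨hab, q, i, hq, hi, hNq⟩ := solvable_minimal hN1 hmin hsol
      by_cases hqp : q ∈ ps
      · haveI := Fact.mk hq
        obtain ⟨-, -, -, hq2⟩ := hA.prime q hqp
        obtain ⟨Q, hQ⟩ := (IsPGroup.of_card (n := i) hNq).exists_le_sylow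
        have hQc := sylow_card_prime hq2 (hk ▸ hkn) (hk ▸ hps q hqp) Q
        have he : N = (Q : Subgroup H) := Subgroup.eq_of_le_of_card_ge hQ (by
          rw [hQc, hNq]; exact Nat.le_self_pow hi.ne' _)
        exact ⟨q, hqp, Q, he ▸ hNn⟩
      have hpN : ∀ p ∈ ps, ¬ p ∣ Nat.card N := fun p hp h => by
        rw [hNq] at h
        exact hqp ((Nat.prime_dvd_prime_iff_eq (hA.prime p hp).1 hq).1
          ((hA.prime p hp).1.dvd_of_dvd_pow h) ▸ hp)
      have hns' : ¬ Group.IsSolvable (H ⧸ N) := fun h => hns (solvable_of_normal N hsol h)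
      have hqlt : Nat.card (H ⧸ N) < k := by
        rw [← hmul]
        exact Nat.lt_mul_iff_one_lt_left Nat.card_pos |>.2 ((Subgroup.one_lt_card_iff_ne_bot _).2 hN1)
      have hqn : Nat.card (H ⧸ N) ∣ n := (Dvd.intro_left _ hmul).trans hkn
      have hqps : ∀ p ∈ ps, p ∣ Nat.card (H ⧸ N) := fun p hp => by
        have h := hps p hp
        rw [← hmul] at h
        exact ((hA.prime p hp).1.dvd_mul.1 h).resolve_left (hpN p hp)
      rcases ih _ hqlt (H ⧸ N) rfl hqn hqps hns' with hsimp | ⟨p, hp, Q, hQn⟩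
      · exfalso
        haveI := hsimp
        have ht := simple_order_mem (not_isMulCommutative_of_not_solvable hns') (hqlt.trans hlt)
        have := hA.all _ ht hqn hqps
        have := Nat.le_of_dvd hA.pos hkn
        omega
      obtain ⟨hp', -, -, hp2⟩ := hA.prime p hp
      haveI := Fact.mk hp'
      obtain ⟨P₀⟩ : Nonempty (Sylow p H) := inferInstance
      have hP := sylow_card_prime hp2 (hk ▸ hkn) (hk ▸ hps p hp) P₀
      refine ⟨p, hp, P₀, ?_⟩
      set π := QuotientGroup.mk' N with hπ
      have hsurj : Function.Surjective π := QuotientGroup.mk'_surjective N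
      haveI : Subsingleton (Sylow p (H ⧸ N)) := by
        letI := Sylow.unique_of_normal Q hQn
        infer_instance
      have hJ : ((P₀ : Subgroup H) ⊔ N).Normal := by
        rw [Subsingleton.elim Q (Sylow.mapSurjective hsurj P₀)] at hQn
        have h := hQn.comap π
        rwa [Sylow.coe_mapSurjective, Subgroup.comap_map_eq, hπ, QuotientGroup.ker_mk'] at h
      rcases normal_or_free P₀ hP (hpN p hp) hab hmin hJ with h | h
      · exact h
      exfalso
      obtain ⟨j, -, hj, hmod⟩ := fixed_part hP hq (fun e : q = p => hqp (e ▸ hp)) hNq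
      rw [h, Subgroup.card_bot] at hj
      obtain rfl : j = 0 := by
        rcases Nat.pow_eq_one.1 hj.symm with h | h
        · exact absurd h hq.ne_one
        · exact h
      rw [Nat.sub_zero] at hmod
      obtain ⟨t, ht, htd⟩ := nonsolvable_dvd (hqlt.trans hlt) hns'
      have ht0 : 60 ≤ t := by
        simp only [simpleOrders, List.mem_cons, List.not_mem_nil, or_false] at ht; omega
      have hdt : q ^ i * t ∣ n := ((mul_dvd_mul_left _ htd).trans (hNq ▸ hmul.dvd)).trans hkn
      have h2 : 2 ≤ q ^ i := one_lt_pow₀ hq.one_lt hi.ne'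
      have htn : t ≠ n := by
        rintro rfl
        have := Nat.le_of_dvd hA.pos hdt
        nlinarith
      have hle : q ^ i ≤ n / 60 := by
        rw [Nat.le_div_iff_mul_le (by norm_num)]
        exact (Nat.mul_le_mul_left _ ht0).trans (Nat.le_of_dvd hA.pos hdt)
      rcases hA.one p hp t ht ((dvd_mul_left t _).trans hdt) htn _ hle hdt hmod with h | h | h | h
      · omega
      all_goals exact not_two_primes hq (by norm_num) (by norm_num) (by norm_num) h
    -- a nonsolvable minimal normal subgroup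
    obtain ⟨p, hp, hpN⟩ : ∃ p ∈ ps, ¬ p ∣ Nat.card N := by
      by_contra hall
      push Not at hall
      have hNn' : Nat.card N ∣ n := (Subgroup.card_subgroup_dvd_card N).trans (hk ▸ hkn)
      rcases ih _ hNlt N rfl hNn' hall hsol with hsimp | ⟨p, hp, Q, hQn⟩
      · haveI := hsimp
        have ht := simple_order_mem (not_isMulCommutative_of_not_solvable hsol) (hNlt.trans hlt)
        have := hA.all _ ht hNn' hall
        have := Nat.le_of_dvd hA.pos hkn
        omega
      · obtain ⟨hp', -, hpn, hp2⟩ := hA.prime p hp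
        haveI := Fact.mk hp'
        haveI := hQn
        haveI : (Q : Subgroup N).Characteristic := Q.characteristic_of_normal hQn
        have hQc := sylow_card_prime hp2 hNn' (hall p hp) Q
        have he := hmin ((Q : Subgroup N).map N.subtype) ConjAct.normal_of_characteristic_of_normal
          (Subgroup.map_subtype_le _) (fun h => hp'.ne_one (by
            rw [← hQc, ← Subgroup.card_map_of_injective N.subtype_injective, h, Subgroup.card_bot]))
        have hNp : Nat.card N = p ^ 1 := by
          rw [← he, Subgroup.card_map_of_injective N.subtype_injective, hQc, pow_one]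
        haveI := IsPGroup.isNilpotent (IsPGroup.of_card hNp)
        exact hsol inferInstance
    obtain ⟨hp', hp5, hpn, hp2⟩ := hA.prime p hp
    haveI := Fact.mk hp'
    obtain ⟨P⟩ : Nonempty (Sylow p H) := inferInstance
    refine ⟨p, hp, P, ?_⟩
    have hP := sylow_card_prime hp2 (hk ▸ hkn) (hk ▸ hps p hp) P
    -- `N` is simple
    haveI hNsimple : IsSimpleGroup N := by
      obtain ⟨T, hTg, m, hTs, hm, ⟨e⟩⟩ := PermMinimalNormal.IsMinNormal.exists_simple_pow (N := N)
        ⟨hNn, hN1, fun L hL hLN => or_iff_not_imp_left.2 (hmin L hL hLN)⟩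
      haveI := hTs
      haveI : Finite T := Finite.of_surjective (fun x : N => e x ⟨0, hm⟩) (fun t =>
        ⟨e.symm fun _ => t, by simp⟩)
      have hTc : ¬ IsMulCommutative T := fun hc => hsol (isSolvable_of_comm fun a b => e.injective (by
        rw [map_mul, map_mul]
        funext i
        exact hc.is_comm.comm _ _))
      have hcard : Nat.card N = Nat.card T ^ m := by
        rw [Nat.card_congr e.toEquiv, Nat.card_pi, Finset.prod_const, Finset.card_univ, Fintype.card_fin]
      have hT60 : 60 ≤ Nat.card T := by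
        have := simple_order_mem hTc (lt_of_le_of_lt
          (Nat.le_of_dvd Nat.card_pos (hcard ▸ dvd_pow_self _ hm.ne')) (hNlt.trans hlt))
        simp only [simpleOrders, List.mem_cons, List.not_mem_nil, or_false] at this; omega
      have hm1 : m = 1 := by
        by_contra hm1
        have h1 : 3600 ≤ Nat.card N := by
          rw [hcard]
          calc 3600 = 60 ^ 2 := by norm_num
            _ ≤ Nat.card T ^ 2 := Nat.pow_le_pow_left hT60 2
            _ ≤ _ := Nat.pow_le_pow_right (by omega) (by omega)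
        have h2 : Nat.card N * p ≤ n := Nat.le_of_dvd hA.pos
          (((Nat.Prime.coprime_iff_not_dvd hp').2 hpN).symm.mul_dvd_of_dvd_of_dvd
            ((Subgroup.card_subgroup_dvd_card N).trans (hk ▸ hkn)) hpn)
        have := hA.big p hp
        nlinarith
      subst hm1
      haveI : Nontrivial N := (Subgroup.nontrivial_iff_ne_bot N).2 hN1
      exact (e.trans (MulEquiv.piUnique (fun _ : Fin 1 => T))).isSimpleGroup
    have hNc : ¬ IsMulCommutative N := not_isMulCommutative_of_not_solvable hsol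
    obtain ⟨ht, htn, hcen⟩ := le_centralizer_of_simple hA hp (hk ▸ hkn) (hk ▸ hps p hp) P N hNc hpN
    set C := Subgroup.centralizer (N : Set H) with hC
    have hPC : (P : Subgroup H) ≤ C := Subgroup.le_centralizer_iff.1 hcen
    have hCN : Disjoint N C := by
      rw [disjoint_iff]
      by_contra h
      have := hmin (N ⊓ C) inferInstance inf_le_left h
      refine hNc ⟨⟨fun a b => Subtype.ext ?_⟩⟩
      exact (Subgroup.mem_centralizer_iff.1 (inf_eq_left.1 this b.2) a a.2)
    have hCc : Nat.card C ∣ n / Nat.card N := by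
      have h1 : Nat.card N * Nat.card C ∣ k := by
        have h := Subgroup.card_dvd_of_le (le_top : N ⊔ C ≤ ⊤)
        rw [Subgroup.card_top, hk] at h
        have h2 := Subgroup.card_mul_index (C.subgroupOf (N ⊔ C))
        rw [Nat.card_congr (Subgroup.subgroupOfEquivOfLe le_sup_right).toEquiv, ← Subgroup.relIndex,
          Subgroup.relIndex_sup_right, ← Subgroup.inf_relIndex_right, inf_comm,
          disjoint_iff.1 hCN, Subgroup.relIndex_bot_left] at h2
        rw [mul_comm, h2]
        exact h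
      exact Nat.dvd_div_of_mul_dvd (h1.trans hkn)
    -- the Sylow subgroup is normal in `C`
    set S := P.subtype hPC with hS
    have hsyl : Subsingleton (Sylow p C) := by
      have hd : Nat.card (Sylow p C) ∣ Nat.card C := S.card_dvd_index.trans (Subgroup.index_dvd_card _)
      have hmod : Nat.card (Sylow p C) % p = 1 := by
        have := card_sylow_modEq_one p C
        rwa [Nat.ModEq, Nat.one_mod_eq_one.2 hp'.ne_one] at this
      have hle : n / Nat.card N ≤ n / 60 := Nat.div_le_div_left (by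
        simp only [simpleOrders, List.mem_cons, List.not_mem_nil, or_false] at ht; omega) (by norm_num)
      have hpos : 0 < n / Nat.card N := Nat.div_pos
        (Nat.le_of_dvd hA.pos ((dvd_mul_right _ p).trans htn)) Nat.card_pos
      exact (Nat.card_eq_one_iff_unique.1 (hA.cnt p hp _ ht htn _
        ((Nat.le_of_dvd hpos (hd.trans hCc)).trans hle) (hd.trans hCc) hmod)).1
    have hSn : (S : Subgroup C).Normal := S.normal_of_subsingleton
    haveI := hSn
    haveI : (S : Subgroup C).Characteristic := S.characteristic_of_normal hSn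
    have hPe : (S : Subgroup C).map C.subtype = (P : Subgroup H) := by
      rw [hS, Sylow.coe_subtype, Subgroup.map_subgroupOf_eq_of_le hPC]
    exact hPe ▸ ConjAct.normal_of_characteristic_of_normal

theorem arith_660 : Arith 660 [11] := by
  refine ⟨by norm_num, by norm_num, by simp, ?_, ?_, ?_, ?_, ?_, ?_⟩
  · simp only [List.forall_mem_cons, List.not_mem_nil, IsEmpty.forall_iff, implies_true, and_true]
    norm_num
  all_goals decide +kernel

theorem arith_3420 : Arith 3420 [19] := by
  refine ⟨by norm_num, by norm_num, by simp, ?_, ?_, ?_, ?_, ?_, ?_⟩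
  · simp only [List.forall_mem_cons, List.not_mem_nil, IsEmpty.forall_iff, implies_true, and_true]
    norm_num
  all_goals decide +kernel

theorem arith_4080 : Arith 4080 [17] := by
  refine ⟨by norm_num, by norm_num, by simp, ?_, ?_, ?_, ?_, ?_, ?_⟩
  · simp only [List.forall_mem_cons, List.not_mem_nil, IsEmpty.forall_iff, implies_true, and_true]
    norm_num
  all_goals decide +kernel

theorem arith_2520 : Arith 2520 [5, 7] := by
  refine ⟨by norm_num, by norm_num, by simp, ?_, ?_, ?_, ?_, ?_, ?_⟩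
  · simp only [List.forall_mem_cons, List.not_mem_nil, IsEmpty.forall_iff, implies_true, and_true]
    norm_num
  all_goals decide +kernel

end Cfsg.Agent.DegGraphSmall81
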