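import Mathlib
import Cfsg.Agent.Lib.SimpleRangeSpecial30
import Cfsg.Agent.Lib.DihedralBound81
import Cfsg.Agent.Lib.M11Order91Degrees

/-!
The character degrees of a simple group of order `5616`, from the principal `13`-block.
-/

set_option autoImplicit false
set_option linter.style.haveILetI false
set_option linter.unusedSectionVars false

open scoped ComplexConjugate

namespace Cfsg.Agent.Order5616

open Cfsg Cfsg.Agent.BlockPrime86 Cfsg.Agent.BlockPrincipal81 Cfsg.Agent.BlockCount91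
  Cfsg.Agent.SimpleOrder Cfsg.Agent.SimpleOrderCheck Cfsg.Agent.SimpleRange30

instance fact13 : Fact (Nat.Prime 13) := ⟨by norm_num⟩

theorem degree_key : ∀ d ∈ List.range 75, 5616 % d = 0 →
    ((d % 13 = 1 ∨ d % 13 = 12) → d = 1 ∨ d = 12 ∨ d = 27) ∧
    ((d % 13 = 3 ∨ d % 13 = 10) → d = 3 ∨ d = 16 ∨ d = 36) := by decide +kernel

attribute [local instance] Classical.propDecidable

variable {G : Type*} [Group G] [Fintype G] [IsSimpleGroup G]

theorem deg_lt (hn : Nat.card G = 5616) (χ : IrrCharacter G) : deg χ < 75 := by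
  have h : deg χ ^ 2 ≤ Nat.card G := by simpa using sum_subset_le ({χ} : Finset (IrrCharacter G))
  by_contra hlt
  have := Nat.pow_le_pow_left (not_lt.1 hlt) 2
  omega

/-- The Sylow `13`-subgroup is self-centralising of index `3` in its normalizer. -/
theorem thirteen_data (hG : ¬ IsMulCommutative G) (hn : Nat.card G = 5616) (P : Sylow 13 G) :
    Nat.card ↥(P : Subgroup G) = 13 ∧
      Nat.card ↥(Subgroup.centralizer ((P : Subgroup G) : Set G)) = 13 ∧
      Nat.card ↥(Subgroup.normalizer ((P : Subgroup G) : Set G)) = 39 ∧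
      (Subgroup.centralizer ((P : Subgroup G) : Set G)).relIndex
        (Subgroup.normalizer ((P : Subgroup G) : Set G)) = 3 := by
  obtain ⟨hP, e, hgood, hrel, hC⟩ := block_data hG hn (p := 13) (by norm_num) (by norm_num) (by norm_num)
    (fun d e => decide (d = 144 ∧ e = 3)) (by decide +kernel) P
  obtain ⟨hd, rfl⟩ : Nat.card (Sylow 13 G) = 144 ∧ e = 3 := by simpa using hgood
  refine ⟨hP, hC, ?_, hrel⟩
  have h := (Subgroup.normalizer ((P : Subgroup G) : Set G)).card_mul_index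
  rw [show (Subgroup.normalizer ((P : Subgroup G) : Set G)).index = Nat.card (Sylow 13 G) from
    P.card_eq_index_normalizer.symm, hd, hn] at h
  omega

/-- No involution inverts an element of order `13`. -/
theorem not_inverted (hG : ¬ IsMulCommutative G) (hn : Nat.card G = 5616) {t g : G} (ht : orderOf t = 2)
    (hg : orderOf g = 13) : t * g * t⁻¹ ≠ g⁻¹ := by
  intro h
  have hc : Nat.card ↥(Subgroup.zpowers g) = 13 ^ (Nat.card G).factorization 13 := by
    rw [Nat.card_zpowers, hg, hn, show (5616 : ℕ) = 13 * 432 by norm_num,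
      Nat.factorization_mul (by norm_num) (by norm_num), Finsupp.add_apply,
      Nat.Prime.factorization_self (by norm_num), Nat.factorization_eq_zero_of_not_dvd (by norm_num)]
    norm_num
  set R : Sylow 13 G := Sylow.ofCard (Subgroup.zpowers g) hc with hR
  obtain ⟨-, -, hN, -⟩ := thirteen_data hG hn R
  have hmem : t ∈ Subgroup.normalizer ((R : Subgroup G) : Set G) := by
    change t ∈ Subgroup.normalizer ((Subgroup.zpowers g : Subgroup G) : Set G)
    have htt : t * t = 1 := by rw [← pow_two, ← ht]; exact pow_orderOf_eq_one t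
    have htinv : t⁻¹ = t := inv_eq_of_mul_eq_one_left htt
    have key : ∀ x ∈ Subgroup.zpowers g, t * x * t⁻¹ ∈ Subgroup.zpowers g := by
      rintro _ ⟨i, rfl⟩
      show t * g ^ i * t⁻¹ ∈ _
      rw [← conj_zpow, h]
      exact Subgroup.zpow_mem _ (Subgroup.inv_mem _ (Subgroup.mem_zpowers g)) i
    refine Subgroup.mem_normalizer_iff.2 fun x => ⟨key x, fun hx => ?_⟩
    have := key _ hx
    rw [htinv] at this
    simpa [mul_assoc, htt, ← mul_assoc t t] using this
  have := Subgroup.orderOf_dvd_natCard _ hmem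
  rw [ht, hN] at this
  norm_num at this

theorem not_dvd_of_involution (t : G) (ht : orderOf t = 2) : ¬ 13 ∣ orderOf t := by rw [ht]; norm_num

/-- The degrees of the irreducible characters, two exclusions on values at involutions, and the
existence of degrees `12` and a multiple of `13`. -/
theorem characters_full (hG : ¬ IsMulCommutative G) (hn : Nat.card G = 5616) :
    (∀ η : IrrCharacter G, η ≠ oneChar G → deg η = 12 ∨ deg η = 16 ∨ deg η = 27 ∨ 13 ∣ deg η) ∧
    (∀ η η' : IrrCharacter G, deg η = 12 → deg η' = 12 → η = η') ∧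
    ((∃ η : IrrCharacter G, deg η = 12) ∧ ∃ η : IrrCharacter G, 13 ∣ deg η) ∧
    (∀ η : IrrCharacter G, deg η = 12 → ∀ t : G, orderOf t = 2 →
      (η : G → ℂ) t ≠ 8 ∧ (η : G → ℂ) t ≠ 10) := by
  obtain ⟨P⟩ : Nonempty (Sylow 13 G) := inferInstance
  obtain ⟨hP, hC, hN, hrel⟩ := thirteen_data hG hn P
  obtain ⟨M, hM⟩ := ZStarCount.exists_isPModular 13 (by norm_num)
  haveI : Fintype ↥(P : Subgroup G) := Fintype.ofFinite _
  haveI : Fintype (↥(P : Subgroup G) →* ℂˣ) := Fintype.ofFinite _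
  obtain ⟨X, Y, a, ε, h⟩ := prime_main hP (by norm_num) hM 3 hrel
  have hout : ∀ χ, χ ∉ X → χ ∉ Y →
      13 ∣ deg χ ∧ ∀ y ∈ (P : Subgroup G), y ≠ 1 → (χ : G → ℂ) y = 0 := fun χ hx hy =>
    M11Order91.dvd_outside hP h (by norm_num) (by norm_num) (M11Order91.centralizer_mem hP hC)
      (by norm_num) hx hy
  have hkey : ∀ χ : IrrCharacter G, _ := fun χ =>
    degree_key (deg χ) (List.mem_range.2 (deg_lt hn χ)) (Nat.mod_eq_zero_of_dvd (hn ▸ deg_dvd χ))
  have hYmod : ∀ θ ∈ Y, deg θ % 13 = 3 ∨ deg θ % 13 = 13 - 3 := fun θ hθ =>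
    mod_of_congr (by rcases h.sign with s | s <;> simp [s]) (by norm_num) (by norm_num) (h.degY θ hθ)
  have h1X : oneChar G ∈ X := by
    rcases (h.block _).1 (oneChar_mem hM) with hx | hy
    · exact hx
    · have := hYmod _ hy
      rw [deg_one] at this
      norm_num at this
  have hXmod : ∀ χ ∈ X, (a χ = 1 ∧ deg χ % 13 = 1) ∨ (a χ = -1 ∧ deg χ % 13 = 12) := fun χ hx => by
    have h2 : (deg χ : ℤ) % 13 = a χ % 13 := (h.valX χ hx).2.1
    rcases (h.valX χ hx).1 with e | e <;> rw [e] at h2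
    · exact Or.inl ⟨e, by omega⟩
    · exact Or.inr ⟨e, by omega⟩
  have ha1 : a (oneChar G) = 1 := by
    rcases hXmod _ h1X with ⟨e, -⟩ | ⟨-, e⟩
    · exact e
    · rw [deg_one] at e; omega
  obtain ⟨χ, χ', hne, hX'⟩ := Finset.card_eq_two.1
    (show (X.erase (oneChar G)).card = 2 by rw [Finset.card_erase_of_mem h1X, h.cardX])
  have hXeq : X = {oneChar G, χ, χ'} := by rw [← Finset.insert_erase h1X, hX']
  have hmemχ : χ ≠ oneChar G ∧ χ ∈ X := Finset.mem_erase.1 (by rw [hX']; simp)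
  have hmemχ' : χ' ≠ oneChar G ∧ χ' ∈ X := Finset.mem_erase.1 (by rw [hX']; simp)
  have hval : ∀ η : IrrCharacter G, η ∈ X → η ≠ oneChar G →
      (deg η = 12 ∧ a η = -1) ∨ (deg η = 27 ∧ a η = 1) := by
    intro η hη hη1
    have h2 := two_le_deg hG hη1
    rcases hXmod η hη with ⟨e, hm⟩ | ⟨e, hm⟩ <;> rcases (hkey η).1 (by omega) with h3 | h3 | h3 <;>
      first | exact Or.inl ⟨h3, e⟩ | exact Or.inr ⟨h3, e⟩ | omega
  obtain ⟨θ₀, hθ₀⟩ : Y.Nonempty := Finset.card_pos.1 (by rw [h.cardY]; norm_num)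
  have hnot1 : ¬ 13 ∣ orderOf (1 : G) := by rw [orderOf_one]; norm_num
  have hreg : ε * (deg θ₀ : ℤ) = 1 + (a χ * (deg χ : ℤ) + a χ' * (deg χ' : ℤ)) := by
    have h1 := h.regular θ₀ hθ₀ 1 hnot1
    simp only [BlockCount91.apply_one] at h1
    rw [hXeq, Finset.sum_insert (by simp [Ne.symm hmemχ.1, Ne.symm hmemχ'.1]), Finset.sum_pair hne,
      ha1, deg_one] at h1
    have h2 : ((ε * (deg θ₀ : ℤ) : ℤ) : ℂ) = ((1 + (a χ * (deg χ : ℤ) + a χ' * (deg χ' : ℤ)) : ℤ) : ℂ) := by
      push_cast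
      rw [h1]; push_cast; ring
    exact_mod_cast h2
  -- choose the names so that `deg χ = 12` and `deg χ' = 27`
  obtain ⟨χ₁, χ₂, hXe, hd1, ha11, hd2, ha2, hε, hD⟩ : ∃ χ₁ χ₂ : IrrCharacter G,
      X = {oneChar G, χ₁, χ₂} ∧ deg χ₁ = 12 ∧ a χ₁ = -1 ∧ deg χ₂ = 27 ∧ a χ₂ = 1 ∧ ε = 1 ∧ deg θ₀ = 16 := by
    rcases hval χ hmemχ.2 hmemχ.1 with ⟨d1, a1⟩ | ⟨d1, a1⟩ <;>
      rcases hval χ' hmemχ'.2 hmemχ'.1 with ⟨d2, a2⟩ | ⟨d2, a2⟩ <;> rw [a1, a2, d1, d2] at hreg <;>
      rcases (hkey θ₀).2 (hYmod θ₀ hθ₀) with e | e | e <;> rcases h.sign with s | s <;>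
      rw [s, e] at hreg <;> norm_num at hreg
    · exact ⟨χ, χ', hXeq, d1, a1, d2, a2, s, e⟩
    · exact ⟨χ', χ, by rw [hXeq, Finset.pair_comm χ χ'], d2, a2, d1, a1, s, e⟩
  have hYd : ∀ θ ∈ Y, deg θ = 16 := fun θ hθ => by
    have := h.agree θ hθ θ₀ hθ₀ 1 hnot1
    rw [BlockCount91.apply_one, BlockCount91.apply_one, Nat.cast_inj] at this
    omega
  have hne1 : χ₁ ≠ oneChar G := fun e => by rw [e, deg_one] at hd1; omega
  have hne2 : χ₂ ≠ oneChar G := fun e => by rw [e, deg_one] at hd2; omega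
  have hne12 : χ₁ ≠ χ₂ := fun e => by rw [e, hd2] at hd1; omega
  have hXY : ∀ η ∈ X, η ∉ Y := fun η h1 h2 => Finset.disjoint_left.1 h.disj h1 h2
  have hclass : ∀ η : IrrCharacter G, η ≠ oneChar G →
      η = χ₁ ∨ η = χ₂ ∨ deg η = 16 ∨ 13 ∣ deg η := by
    intro η hη
    by_cases hx : η ∈ X
    · rw [hXe] at hx
      simp only [Finset.mem_insert, Finset.mem_singleton] at hx
      rcases hx with e | e | e
      · exact absurd e hη
      · exact Or.inl e
      · exact Or.inr (Or.inl e)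
    by_cases hy : η ∈ Y
    · exact Or.inr (Or.inr (Or.inl (hYd η hy)))
    · exact Or.inr (Or.inr (Or.inr (hout η hx hy).1))
  have huniq : ∀ η : IrrCharacter G, deg η = 12 → η = χ₁ := fun η hη => by
    rcases hclass η (fun e => by rw [e, deg_one] at hη; omega) with e | e | e | e
    · exact e
    · rw [e, hd2] at hη; omega
    · omega
    · rw [hη] at e; norm_num at e
  have hexists : (∃ η : IrrCharacter G, deg η = 12) ∧ ∃ η : IrrCharacter G, 13 ∣ deg η := by
    refine ⟨⟨χ₁, hd1⟩, ?_⟩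
    by_contra hno
    push Not at hno
    have hu : (Finset.univ : Finset (IrrCharacter G)) = X ∪ Y := (Finset.eq_univ_of_forall fun η => by
      by_cases hx : η ∈ X
      · exact Finset.mem_union_left _ hx
      by_cases hy : η ∈ Y
      · exact Finset.mem_union_right _ hy
      exact absurd (hout η hx hy).1 (hno η)).symm
    have hsum : ∑ η : IrrCharacter G, deg η ^ 2 = Nat.card G := CharKernel.sum_sq_charDegree
    rw [hu, Finset.sum_union h.disj, hXe, Finset.sum_insert (by simp [Ne.symm hne1, Ne.symm hne2]),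
      Finset.sum_pair hne12, Finset.sum_congr rfl (s₁ := Y) (g := fun _ => 16 ^ 2)
        (fun θ hθ => by rw [hYd θ hθ]), Finset.sum_const, h.cardY, deg_one, hd1, hd2, hn] at hsum
    norm_num at hsum
  refine ⟨fun η hη => ?_, fun η η' h1 h2 => (huniq η h1).trans (huniq η' h2).symm, hexists, ?_⟩
  · rcases hclass η hη with rfl | rfl | e | e
    exacts [Or.inl hd1, Or.inr (Or.inr (Or.inl hd2)), Or.inr (Or.inl e), Or.inr (Or.inr (Or.inr e))]
  intro η hη t ht
  obtain rfl := huniq η hη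
  -- the column of an element of order `13`
  obtain ⟨⟨y, hyP⟩, hyo⟩ := exists_prime_orderOf_dvd_card' 13 (G := ↥(P : Subgroup G)) (by rw [hP])
  rw [Subgroup.orderOf_mk] at hyo
  have hy1 : y ≠ 1 := fun e => by rw [e, orderOf_one] at hyo; omega
  have hXval : ∀ η ∈ X, (η : G → ℂ) y = (a η : ℂ) := fun η hη => (h.valX η hη).2.2 y hyP hy1
  have hv1 : (η : G → ℂ) y = -1 := by rw [hXval _ (by rw [hXe]; simp), ha11]; norm_num
  have hv2 : (χ₂ : G → ℂ) y = 1 := by rw [hXval _ (by rw [hXe]; simp), ha2]; norm_num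
  have hsplit : ∀ f : IrrCharacter G → ℂ, (∀ θ, θ ∉ X → θ ∉ Y → f θ = 0) →
      ∑ θ, f θ = f (oneChar G) + (f η + f χ₂) + ∑ θ ∈ Y, f θ := by
    intro f hf
    rw [← Finset.sum_subset (Finset.subset_univ (X ∪ Y)) (fun θ _ hθ =>
      hf θ (fun e => hθ (Finset.mem_union_left _ e)) (fun e => hθ (Finset.mem_union_right _ e))),
      Finset.sum_union h.disj, hXe, Finset.sum_insert (by simp [Ne.symm hne1, Ne.symm hne2]),
      Finset.sum_pair hne12]
  have hS : ∑ θ ∈ Y, conj ((θ : G → ℂ) y) = -1 := by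
    have hcol := (CharBasicOrth.sum_irr_mul_conj (1 : G) y).trans
      (if_neg fun e => hy1 (isConj_one_right.1 e))
    have hY1 : ∑ θ ∈ Y, (θ : G → ℂ) 1 * conj ((θ : G → ℂ) y) = ∑ θ ∈ Y, (16 : ℂ) * conj ((θ : G → ℂ) y) :=
      Finset.sum_congr rfl fun θ hθ => by rw [BlockCount91.apply_one, hYd θ hθ]; norm_num
    rw [hsplit _ (fun θ hx hy => by rw [(hout θ hx hy).2 y hyP hy1]; simp), hY1,
      ← Finset.mul_sum, hv1, hv2, BlockCount91.apply_one, BlockCount91.apply_one, BlockCount91.apply_one,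
      deg_one, hd1, hd2] at hcol
    simp only [BlockPrincipal81.oneChar, map_neg, map_one] at hcol
    push_cast at hcol
    linear_combination hcol / 16
  have hzero : Nat.card {x : G // IsConj y (t * (x * t * x⁻¹))} = 0 := by
    by_contra hne0
    obtain ⟨⟨x, hx⟩⟩ : Nonempty {x : G // IsConj y (t * (x * t * x⁻¹))} :=
      (Nat.card_pos_iff.1 (Nat.pos_of_ne_zero hne0)).1
    obtain ⟨c, hc⟩ := isConj_iff.1 hx
    have hg : orderOf (t * (x * t * x⁻¹)) = 13 := by
      rw [← hc, ← hyo]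
      exact orderOf_injective (MulAut.conj c).toMonoidHom (MulAut.conj c).injective y
    refine not_inverted hG hn ht hg ?_
    have htt : t * t = 1 := by rw [← pow_two, ← ht]; exact pow_orderOf_eq_one t
    have htinv : t⁻¹ = t := inv_eq_of_mul_eq_one_left htt
    rw [mul_inv_rev, mul_inv_rev, mul_inv_rev, inv_inv, htinv]
    simp only [mul_assoc]
    rw [← mul_assoc t t, htt, one_mul]
  have htr := ClassAlgebraVal.sum_irr_triple t t y
  rw [hzero, Nat.cast_zero, mul_zero, zero_div,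
    hsplit _ (fun θ hx hy => by rw [(hout θ hx hy).2 y hyP hy1]; simp)] at htr
  obtain ⟨z, hz, hzlo, hzhi⟩ := DihedralBound81.exists_int_apply_le ht η (d := 12)
    (by rw [BlockCount91.apply_one, hd1])
  obtain ⟨u, hu, hulo, huhi⟩ := DihedralBound81.exists_int_apply_le ht χ₂ (d := 27)
    (by rw [BlockCount91.apply_one, hd2])
  have hw : ∀ θ ∈ Y, (θ : G → ℂ) t = ((1 - z + u : ℤ) : ℂ) := fun θ hθ => by
    have h1 := h.regular θ hθ t (not_dvd_of_involution t ht)
    rw [hXe, Finset.sum_insert (by simp [Ne.symm hne1, Ne.symm hne2]), Finset.sum_pair hne12, ha1, ha11,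
      ha2, hε, hz, hu] at h1
    simp only [BlockPrincipal81.oneChar] at h1
    push_cast at h1 ⊢
    linear_combination h1
  have hY2 : ∑ θ ∈ Y, (θ : G → ℂ) t * (θ : G → ℂ) t * conj ((θ : G → ℂ) y) / (θ : G → ℂ) 1 =
      ∑ θ ∈ Y, ((1 - z + u : ℤ) : ℂ) ^ 2 / 16 * conj ((θ : G → ℂ) y) :=
    Finset.sum_congr rfl fun θ hθ => by rw [hw θ hθ, BlockCount91.apply_one, hYd θ hθ]; push_cast; ring
  rw [hY2, ← Finset.mul_sum, hS, hv1, hv2, hz, hu, BlockCount91.apply_one, BlockCount91.apply_one,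
    BlockCount91.apply_one, deg_one, hd1, hd2] at htr
  simp only [BlockPrincipal81.oneChar, map_neg, map_one] at htr
  have heq : ((432 - 36 * z ^ 2 + 16 * u ^ 2 - 27 * (1 - z + u) ^ 2 : ℤ) : ℂ) = 0 := by
    push_cast at htr ⊢
    linear_combination 432 * htr
  have heq' : 432 - 36 * z ^ 2 + 16 * u ^ 2 - 27 * (1 - z + u) ^ 2 = 0 := by exact_mod_cast heq
  -- the column bound
  have hcol : 1 + z ^ 2 + u ^ 2 + 4 * (1 - z + u) ^ 2 ≤ 432 := by
    obtain ⟨c, hc⟩ : ∃ c, Nat.card ↥(Subgroup.centralizer ({t} : Set G)) = c := ⟨_, rfl⟩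
    have hc432 : c ≤ 432 := by
      obtain ⟨-, hp, -, hdvd⟩ := SmallOrders91.centralizer_data hG (by norm_num) hP hC (by rw [hn]; norm_num) ht
      rw [hc] at hp hdvd
      rw [hn, show 5616 = 13 * 432 by norm_num] at hdvd
      exact Nat.le_of_dvd (by norm_num)
        (((Nat.Prime.coprime_iff_not_dvd (by norm_num)).2 hp).symm.dvd_of_dvd_mul_left hdvd)
    have h1 := CharBasicOrth.sum_irr_mul_conj t t
    rw [if_pos (IsConj.refl t), hc] at h1
    simp only [Complex.mul_conj, ← Complex.ofReal_sum] at h1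
    have h' : ∑ θ : IrrCharacter G, Complex.normSq ((θ : G → ℂ) t) = (c : ℝ) := by exact_mod_cast h1
    have hle := Finset.sum_le_sum_of_subset_of_nonneg
      (f := fun θ : IrrCharacter G => Complex.normSq ((θ : G → ℂ) t))
      (Finset.subset_univ (X ∪ Y)) fun _ _ _ => Complex.normSq_nonneg _
    rw [h', Finset.sum_union h.disj, hXe, Finset.sum_insert (by simp [Ne.symm hne1, Ne.symm hne2]),
      Finset.sum_pair hne12,
      Finset.sum_congr rfl (s₁ := Y) (g := fun _ => Complex.normSq ((1 - z + u : ℤ) : ℂ))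
        (fun θ hθ => by rw [hw θ hθ]),
      Finset.sum_const, h.cardY, hz, hu, Complex.normSq_intCast, Complex.normSq_intCast,
      Complex.normSq_intCast] at hle
    simp only [BlockPrincipal81.oneChar, map_one, nsmul_eq_mul] at hle
    have hcr : (c : ℝ) ≤ 432 := by exact_mod_cast hc432
    have : ((1 + z ^ 2 + u ^ 2 + 4 * (1 - z + u) ^ 2 : ℤ) : ℝ) ≤ ((432 : ℤ) : ℝ) := by
      push_cast at hle ⊢
      norm_num at hle
      nlinarith
    exact_mod_cast this
  constructor <;> intro hzv <;>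
    [(have hz' : z = 8 := by rw [hz] at hzv; exact_mod_cast hzv);
     (have hz' : z = 10 := by rw [hz] at hzv; exact_mod_cast hzv)] <;>
    subst hz' <;> interval_cases u <;> omega

/-- The degrees of the irreducible characters, and two exclusions on values at involutions. -/
theorem characters (hG : ¬ IsMulCommutative G) (hn : Nat.card G = 5616) :
    (∀ η : IrrCharacter G, η ≠ oneChar G → deg η = 12 ∨ deg η = 16 ∨ deg η = 27 ∨ 13 ∣ deg η) ∧
    (∀ η η' : IrrCharacter G, deg η = 12 → deg η' = 12 → η = η') ∧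
    (∀ η : IrrCharacter G, deg η = 12 → ∀ t : G, orderOf t = 2 →
      (η : G → ℂ) t ≠ 8 ∧ (η : G → ℂ) t ≠ 10) :=
  ⟨(characters_full hG hn).1, (characters_full hG hn).2.1, (characters_full hG hn).2.2.2⟩

end Cfsg.Agent.Order5616
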