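import Cfsg.Agent.Lib.SimpleZassenhausData

/-! Coordinates on elementary abelian groups of order 8, 16 with a fixed-point-free automorphism. -/

namespace Cfsg.Agent.SimpleTwoCoord

open SimpleZassenhausData

variable {G : Type*} [Group G]

/-- Power by an element of `ZMod 2`. -/
def pw (v : G) (a : ZMod 2) : G := v ^ a.val

theorem pw_add {v : G} (hv : v * v = 1) (a b : ZMod 2) : pw v (a + b) = pw v a * pw v b := by
  show v ^ (a + b).val = v ^ a.val * v ^ b.val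
  rw [ZMod.val_add, ← pow_add]
  exact (pow_eq_pow_mod (a.val + b.val) (by rw [sq]; exact hv)).symm

@[simp] theorem pw_zero (v : G) : pw v 0 = 1 := pow_zero v

@[simp] theorem pw_one (v : G) : pw v 1 = v := by simp [pw, ZMod.val_one]

theorem conj_pw (d v : G) (a : ZMod 2) : d * pw v a * d⁻¹ = pw (d * v * d⁻¹) a := conj_pow.symm

theorem conj_iterate {W : Type*} {d : G} {y : W → G} {J : W → W}
    (hy : ∀ t, d * y t * d⁻¹ = y (J t)) (t : W) (i : ℕ) :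
    d ^ i * y t * (d ^ i)⁻¹ = y (J^[i] t) := by
  induction i with
  | zero => simp
  | succ i ih => rw [Function.iterate_succ_apply', ← hy, ← ih, pow_succ']; group

theorem orbit_inj {d v : G} {m : ℕ} (hfpf : ∀ i, 0 < i → i < m → d ^ i * v * (d ^ i)⁻¹ ≠ v) :
    Function.Injective (fun i : Fin m => d ^ (i : ℕ) * v * (d ^ (i : ℕ))⁻¹) := by
  have key : ∀ i j : ℕ, i ≤ j → j < m →
      d ^ i * v * (d ^ i)⁻¹ = d ^ j * v * (d ^ j)⁻¹ → i = j := by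
    intro i j hij hj e
    by_contra hne
    refine hfpf (j - i) (by omega) (by omega) ?_
    calc d ^ (j - i) * v * (d ^ (j - i))⁻¹
        = (d ^ i)⁻¹ * (d ^ (i + (j - i)) * v * (d ^ (i + (j - i)))⁻¹) * d ^ i := by
          rw [pow_add]; group
      _ = v := by rw [Nat.add_sub_cancel' hij, ← e]; group
  intro i j e
  rcases le_total (i : ℕ) j with hij | hij
  · exact Fin.ext (key _ _ hij j.2 e)
  · exact Fin.ext (key _ _ hij i.2 e.symm).symm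

theorem no_small {W : Type*} [Fintype W] {d : G} {y : W → G} {J : W → W}
    (hy : ∀ t, d * y t * d⁻¹ = y (J t)) (r : W) {m : ℕ}
    (hfpf : ∀ i, 0 < i → i < m → d ^ i * y r * (d ^ i)⁻¹ ≠ y r) : m ≤ Fintype.card W := by
  have h : Function.Injective (fun i : Fin m => J^[(i : ℕ)] r) := fun i j e => orbit_inj hfpf (by
    show d ^ (i : ℕ) * y r * (d ^ (i : ℕ))⁻¹ = d ^ (j : ℕ) * y r * (d ^ (j : ℕ))⁻¹
    rw [conj_iterate hy, conj_iterate hy]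
    exact congrArg y e)
  simpa using Fintype.card_le_of_injective _ h

theorem injective_of_kernel {W : Type*} [AddCommGroup W] {x : W → G}
    (hx : ∀ s t, x (s + t) = x s * x t) (h : ∀ t, x t = 1 → t = 0) : Function.Injective x := by
  intro s t e
  have h0 : x 0 = 1 := by
    have := hx 0 0; rwa [add_zero, left_eq_mul] at this
  exact eq_of_sub_eq_zero (h _ (by
    rw [sub_eq_add_neg, hx, e, ← hx, add_neg_cancel, h0]))

/-! ### The maps -/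

/-- Two generators. -/
def x2 (v₀ v₁ : G) (t : ZMod 2 × ZMod 2) : G := pw v₀ t.1 * pw v₁ t.2

/-- Three generators. -/
def x3 (v₀ v₁ v₂ : G) (t : V504) : G := pw v₀ t.1 * x2 v₁ v₂ t.2

/-- Four generators. -/
def x4 (v₀ v₁ v₂ v₃ : G) (t : V4080) : G := pw v₀ t.1 * x3 v₁ v₂ v₃ t.2

/-- Companion map, two dimensions. -/
def J2 (s : ZMod 2 × ZMod 2) (t : ZMod 2 × ZMod 2) : ZMod 2 × ZMod 2 :=
  (t.2 * s.1, t.1 + t.2 * s.2)

/-- Companion map, three dimensions. -/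
def J3 (s : V504) (t : V504) : V504 :=
  (t.2.2 * s.1, t.1 + t.2.2 * s.2.1, t.2.1 + t.2.2 * s.2.2)

/-- Companion map, four dimensions. -/
def J4 (s : V4080) (t : V4080) : V4080 :=
  (t.2.2.2 * s.1, t.1 + t.2.2.2 * s.2.1, t.2.1 + t.2.2.2 * s.2.2.1, t.2.2.1 + t.2.2.2 * s.2.2.2)

theorem zmod_two : ∀ a : ZMod 2, a = 0 ∨ a = 1 := by decide

theorem primitive_three : ∀ s : V504, (∀ i j : Fin 7, (J3 s)^[(i : ℕ)] (1, 0, 0) = (J3 s)^[(j : ℕ)] (1, 0, 0) → i = j) →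
    s = (1, 1, 0) ∨ s = (1, 0, 1) := by decide +kernel

theorem primitive_four : ∀ s : V4080,
    (∀ i j : Fin 15, (J4 s)^[(i : ℕ)] (1, 0, 0, 0) = (J4 s)^[(j : ℕ)] (1, 0, 0, 0) → i = j) →
    s = (1, 1, 0, 0) ∨ s = (1, 0, 0, 1) := by decide +kernel

theorem J3_eq : ∀ t, J3 (1, 1, 0) t = J504 t := by decide +kernel

theorem J4_eq : ∀ t, J4 (1, 1, 0, 0) t = J4080 t := by decide +kernel

variable {T : Subgroup G} (hsq : ∀ a ∈ T, a * a = 1) (hcomm : ∀ a ∈ T, ∀ b ∈ T, a * b = b * a)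

include hsq hcomm

theorem x2_spec {a b : G} (ha : a ∈ T) (hb : b ∈ T) :
    (∀ t, x2 a b t ∈ T) ∧ ∀ s t, x2 a b (s + t) = x2 a b s * x2 a b t := by
  refine ⟨fun t => mul_mem (pow_mem ha _) (pow_mem hb _), fun s t => ?_⟩
  simp only [x2, Prod.fst_add, Prod.snd_add, pw_add (hsq a ha), pw_add (hsq b hb)]
  exact Commute.mul_mul_mul_comm (hcomm _ (pow_mem ha _) _ (pow_mem hb _)) _ _

theorem x3_spec {a b c : G} (ha : a ∈ T) (hb : b ∈ T) (hc : c ∈ T) :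
    (∀ t, x3 a b c t ∈ T) ∧ ∀ s t, x3 a b c (s + t) = x3 a b c s * x3 a b c t := by
  obtain ⟨hm, hadd⟩ := x2_spec hsq hcomm hb hc
  refine ⟨fun t => mul_mem (pow_mem ha _) (hm _), fun s t => ?_⟩
  simp only [x3, Prod.fst_add, Prod.snd_add, pw_add (hsq a ha), hadd]
  exact Commute.mul_mul_mul_comm (hcomm _ (pow_mem ha _) _ (hm _)) _ _

theorem x4_spec {a b c e : G} (ha : a ∈ T) (hb : b ∈ T) (hc : c ∈ T) (he : e ∈ T) :
    (∀ t, x4 a b c e t ∈ T) ∧ ∀ s t, x4 a b c e (s + t) = x4 a b c e s * x4 a b c e t := by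
  obtain ⟨hm, hadd⟩ := x3_spec hsq hcomm hb hc he
  refine ⟨fun t => mul_mem (pow_mem ha _) (hm _), fun s t => ?_⟩
  simp only [x4, Prod.fst_add, Prod.snd_add, pw_add (hsq a ha), hadd]
  exact Commute.mul_mul_mul_comm (hcomm _ (pow_mem ha _) _ (hm _)) _ _

theorem conj_x2 {v₀ v₁ d : G} (h₀ : v₀ ∈ T) (h₁ : v₁ ∈ T) (e₀ : d * v₀ * d⁻¹ = v₁)
    {s : ZMod 2 × ZMod 2} (e₁ : d * v₁ * d⁻¹ = x2 v₀ v₁ s) (t : ZMod 2 × ZMod 2) :
    d * x2 v₀ v₁ t * d⁻¹ = x2 v₀ v₁ (J2 s t) := by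
  obtain ⟨-, hadd⟩ := x2_spec hsq hcomm h₀ h₁
  rw [x2, show d * (pw v₀ t.1 * pw v₁ t.2) * d⁻¹ = d * pw v₀ t.1 * d⁻¹ * (d * pw v₁ t.2 * d⁻¹) by
    group, conj_pw, conj_pw, e₀, e₁,
    show J2 s t = (0, t.1) + (t.2 * s.1, t.2 * s.2) by simp [J2], hadd]
  congr 1
  · simp [x2]
  · rcases zmod_two t.2 with h | h <;> simp [h] <;> simp [x2]

theorem conj_x3 {v₀ v₁ v₂ d : G} (h₀ : v₀ ∈ T) (h₁ : v₁ ∈ T) (h₂ : v₂ ∈ T)
    (e₀ : d * v₀ * d⁻¹ = v₁) (e₁ : d * v₁ * d⁻¹ = v₂)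
    {s : V504} (e₂ : d * v₂ * d⁻¹ = x3 v₀ v₁ v₂ s) (t : V504) :
    d * x3 v₀ v₁ v₂ t * d⁻¹ = x3 v₀ v₁ v₂ (J3 s t) := by
  obtain ⟨-, hadd⟩ := x3_spec hsq hcomm h₀ h₁ h₂
  rw [x3, x2, show d * (pw v₀ t.1 * (pw v₁ t.2.1 * pw v₂ t.2.2)) * d⁻¹ = d * pw v₀ t.1 * d⁻¹ *
      (d * pw v₁ t.2.1 * d⁻¹) * (d * pw v₂ t.2.2 * d⁻¹) by group, conj_pw, conj_pw, conj_pw, e₀, e₁,
    e₂, show J3 s t = (0, t.1, t.2.1) + (t.2.2 * s.1, t.2.2 * s.2.1, t.2.2 * s.2.2) by simp [J3],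
    hadd]
  congr 1
  · simp [x3, x2]
  · rcases zmod_two t.2.2 with h | h <;> simp [h] <;> simp [x3, x2]

theorem conj_x4 {v₀ v₁ v₂ v₃ d : G} (h₀ : v₀ ∈ T) (h₁ : v₁ ∈ T) (h₂ : v₂ ∈ T) (h₃ : v₃ ∈ T)
    (e₀ : d * v₀ * d⁻¹ = v₁) (e₁ : d * v₁ * d⁻¹ = v₂) (e₂ : d * v₂ * d⁻¹ = v₃)
    {s : V4080} (e₃ : d * v₃ * d⁻¹ = x4 v₀ v₁ v₂ v₃ s) (t : V4080) :
    d * x4 v₀ v₁ v₂ v₃ t * d⁻¹ = x4 v₀ v₁ v₂ v₃ (J4 s t) := by
  obtain ⟨-, hadd⟩ := x4_spec hsq hcomm h₀ h₁ h₂ h₃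
  rw [x4, x3, x2, show d * (pw v₀ t.1 * (pw v₁ t.2.1 * (pw v₂ t.2.2.1 * pw v₃ t.2.2.2))) * d⁻¹ =
      d * pw v₀ t.1 * d⁻¹ * (d * pw v₁ t.2.1 * d⁻¹) * (d * pw v₂ t.2.2.1 * d⁻¹) *
        (d * pw v₃ t.2.2.2 * d⁻¹) by group, conj_pw, conj_pw, conj_pw, conj_pw, e₀, e₁, e₂, e₃,
    show J4 s t = (0, t.1, t.2.1, t.2.2.1) + (t.2.2.2 * s.1, t.2.2.2 * s.2.1, t.2.2.2 * s.2.2.1,
      t.2.2.2 * s.2.2.2) by simp [J4], hadd]
  congr 1
  · simp [x4, x3, x2, mul_assoc]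
  · rcases zmod_two t.2.2.2 with h | h <;> simp [h] <;> simp [x4, x3, x2]

/-- Coordinates, order 8. -/
theorem exists_x_eight [Finite G] (hT : Nat.card ↥T = 8) {d : G}
    (hdT : ∀ a ∈ T, d * a * d⁻¹ ∈ T)
    (hdT' : ∀ a ∈ T, d⁻¹ * a * d ∈ T)
    (hfpf : ∀ i, 0 < i → i < 7 → ∀ v ∈ T, v ≠ 1 → d ^ i * v * (d ^ i)⁻¹ ≠ v) :
    ∃ (x : V504 → G) (d' : G), d' ∈ Subgroup.zpowers d ∧ (∀ a b, x (a + b) = x a * x b) ∧
      Function.Injective x ∧ (∀ a, x a ∈ T) ∧ ∀ t, d' * x t * d'⁻¹ = x (J504 t) := by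
  classical
  have hmain : ∀ (e : G), (∀ a ∈ T, e * a * e⁻¹ ∈ T) →
      (∀ i, 0 < i → i < 7 → ∀ v ∈ T, v ≠ 1 → e ^ i * v * (e ^ i)⁻¹ ≠ v) →
      ∀ v₀ ∈ T, v₀ ≠ 1 → ∃ s, (s = ((1, 1, 0) : V504) ∨ s = (1, 0, 1)) ∧
        ∃ x : V504 → G, (∀ a b, x (a + b) = x a * x b) ∧ Function.Injective x ∧ (∀ a, x a ∈ T) ∧
          (∀ t, x t = x3 v₀ (e * v₀ * e⁻¹) (e * (e * v₀ * e⁻¹) * e⁻¹) t) ∧
          ∀ t, e * x t * e⁻¹ = x (J3 s t) := by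
    intro e he hf v₀ h₀ hv
    set v₁ := e * v₀ * e⁻¹ with hv₁
    set v₂ := e * v₁ * e⁻¹ with hv₂
    have h₁ := he _ h₀
    have h₂ := he _ h₁
    obtain ⟨hm2, hadd2⟩ := x2_spec hsq hcomm h₀ h₁
    obtain ⟨hm, hadd⟩ := x3_spec hsq hcomm h₀ h₁ h₂
    have hn2 : ∀ s, x2 v₀ v₁ s ≠ v₂ := fun s hs => by
      have := no_small (conj_x2 hsq hcomm h₀ h₁ rfl (by rw [hs])) ((1, 0) : ZMod 2 × ZMod 2)
        (m := 7) fun i hi hi' => by
          have : x2 v₀ v₁ ((1, 0) : ZMod 2 × ZMod 2) = v₀ := by simp [x2]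
          rw [this]; exact hf i hi hi' v₀ h₀ hv
      simp at this
    have hn1 : ∀ a, pw v₀ a ≠ v₁ := fun a ha => by
      rcases zmod_two a with rfl | rfl
      · rw [pw_zero] at ha
        exact hv (by
          have : e⁻¹ * v₁ * e = v₀ := by rw [hv₁]; group
          rw [← this, ← ha]; group)
      · rw [pw_one] at ha
        exact hf 1 (by norm_num) (by norm_num) v₀ h₀ hv (by rw [pow_one, ← hv₁]; exact ha.symm)
    have hi : Function.Injective (x3 v₀ v₁ v₂) := by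
      refine injective_of_kernel hadd ?_
      rintro ⟨a, b, c⟩ e0
      simp only [x3, x2, ← mul_assoc] at e0
      rcases zmod_two c with rfl | rfl
      · rw [pw_zero, mul_one] at e0
        rcases zmod_two b with rfl | rfl
        · rw [pw_zero, mul_one] at e0
          rcases zmod_two a with rfl | rfl
          · rfl
          · exact absurd (by simpa using e0) hv
        · rw [pw_one] at e0
          refine absurd ?_ (hn1 a)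
          rw [eq_inv_of_mul_eq_one_left e0]
          exact inv_eq_of_mul_eq_one_right (hsq _ h₁)
      · rw [pw_one] at e0
        refine absurd ?_ (hn2 (a, b))
        rw [x2, eq_inv_of_mul_eq_one_left e0]
        exact inv_eq_of_mul_eq_one_right (hsq _ h₂)
    obtain ⟨s, hs⟩ : ∃ s, x3 v₀ v₁ v₂ s = e * v₂ * e⁻¹ := by
      have hbij : Function.Bijective (fun t : V504 => (⟨x3 v₀ v₁ v₂ t, hm t⟩ : ↥T)) :=
        (Nat.bijective_iff_injective_and_card _).2 ⟨fun a b h => hi (congrArg Subtype.val h), by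
          rw [hT, Nat.card_eq_fintype_card]; rfl⟩
      obtain ⟨t, ht⟩ := hbij.2 ⟨_, he _ h₂⟩
      exact ⟨t, congrArg Subtype.val ht⟩
    have hJ := conj_x3 hsq hcomm h₀ h₁ h₂ rfl rfl hs.symm
    refine ⟨s, primitive_three s fun i j hij => ?_, _, hadd, hi, hm, fun t => rfl, hJ⟩
    refine orbit_inj (d := e) (v := v₀) (fun k hk hk' => hf k hk hk' v₀ h₀ hv) ?_
    show e ^ (i : ℕ) * v₀ * (e ^ (i : ℕ))⁻¹ = e ^ (j : ℕ) * v₀ * (e ^ (j : ℕ))⁻¹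
    have : x3 v₀ v₁ v₂ ((1, 0, 0) : V504) = v₀ := by simp [x3, x2]
    rw [← this, conj_iterate hJ, conj_iterate hJ, hij]
  obtain ⟨⟨v₀, h₀⟩, hv⟩ : ∃ v : ↥T, v ≠ 1 := by
    have : Nontrivial ↥T := Finite.one_lt_card_iff_nontrivial.1 (by omega)
    exact exists_ne 1
  have hv' : v₀ ≠ 1 := fun h => hv (Subtype.ext h)
  obtain ⟨s, hs, x, hx, hxi, hxT, hxe, hxd⟩ := hmain d hdT hfpf v₀ h₀ hv'
  rcases hs with rfl | rfl
  · exact ⟨x, d, Subgroup.mem_zpowers d, hx, hxi, hxT, fun t => by rw [hxd, J3_eq]⟩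
  · have hfpf' : ∀ i, 0 < i → i < 7 → ∀ v ∈ T, v ≠ 1 → d⁻¹ ^ i * v * (d⁻¹ ^ i)⁻¹ ≠ v := by
      intro i h1 h2 v hv1 hv2 h3
      refine hfpf i h1 h2 v hv1 hv2 ?_
      rw [inv_pow] at h3
      nth_rewrite 1 [← h3]
      group
    obtain ⟨s', hs', x', hx', hxi', hxT', hxe', hxd'⟩ :=
      hmain d⁻¹ (fun a ha => by rw [inv_inv]; exact hdT' a ha) hfpf' v₀ h₀ hv'
    refine ⟨x', d⁻¹, inv_mem (Subgroup.mem_zpowers d), hx', hxi', hxT', fun t => ?_⟩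
    rcases hs' with rfl | rfl
    · rw [hxd', J3_eq]
    · exfalso
      -- both polynomials would be annihilating
      have r1 := hxd (0, 0, 1)
      simp only [hxe, J3, x3, x2] at r1
      have r2 := hxd' (0, 0, 1)
      simp only [hxe', J3, x3, x2] at r2
      simp at r1 r2
      have e1 : d⁻¹ ^ 3 * v₀ * (d⁻¹ ^ 3)⁻¹ = v₀ * (d⁻¹ * v₀ * d⁻¹⁻¹) := by
        calc d⁻¹ ^ 3 * v₀ * (d⁻¹ ^ 3)⁻¹
            = d⁻¹ ^ 3 * (d * (d * (d * v₀ * d⁻¹) * d⁻¹) * d⁻¹ * (d * (d * v₀ * d⁻¹) * d⁻¹)) *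
                (d⁻¹ ^ 3)⁻¹ := by
              rw [r1, mul_assoc v₀, hsq _ (hdT _ (hdT _ h₀)), mul_one]
          _ = v₀ * (d⁻¹ * v₀ * d⁻¹⁻¹) := by group
      have e2 : d⁻¹ ^ 3 * v₀ * (d⁻¹ ^ 3)⁻¹ = v₀ * (d⁻¹ * (d⁻¹ * v₀ * d) * d) := by
        rw [← r2]
        simp only [pow_succ, pow_zero, one_mul, mul_inv_rev, inv_inv, mul_assoc]
      have e3 : d⁻¹ * v₀ * d⁻¹⁻¹ = d⁻¹ * (d⁻¹ * v₀ * d) * d :=
        mul_left_cancel (e1.symm.trans e2)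
      refine hfpf 1 (by norm_num) (by norm_num) v₀ h₀ hv' ?_
      have e4 : d * (d * (d⁻¹ * v₀ * d⁻¹⁻¹) * d⁻¹) * d⁻¹ =
          d * (d * (d⁻¹ * (d⁻¹ * v₀ * d) * d) * d⁻¹) * d⁻¹ := by rw [e3]
      rw [pow_one]
      calc d * v₀ * d⁻¹ = d * (d * (d⁻¹ * v₀ * d⁻¹⁻¹) * d⁻¹) * d⁻¹ := by group
        _ = d * (d * (d⁻¹ * (d⁻¹ * v₀ * d) * d) * d⁻¹) * d⁻¹ := e4
        _ = v₀ := by group

/-- Coordinates, order 16. -/
theorem exists_x_sixteen [Finite G] (hT : Nat.card ↥T = 16) {d : G}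
    (hdT : ∀ a ∈ T, d * a * d⁻¹ ∈ T)
    (hdT' : ∀ a ∈ T, d⁻¹ * a * d ∈ T)
    (hfpf : ∀ i, 0 < i → i < 15 → ∀ v ∈ T, v ≠ 1 → d ^ i * v * (d ^ i)⁻¹ ≠ v) :
    ∃ (x : V4080 → G) (d' : G), d' ∈ Subgroup.zpowers d ∧ (∀ a b, x (a + b) = x a * x b) ∧
      Function.Injective x ∧ (∀ a, x a ∈ T) ∧ ∀ t, d' * x t * d'⁻¹ = x (J4080 t) := by
  classical
  have hmain : ∀ (e : G), (∀ a ∈ T, e * a * e⁻¹ ∈ T) →
      (∀ i, 0 < i → i < 15 → ∀ v ∈ T, v ≠ 1 → e ^ i * v * (e ^ i)⁻¹ ≠ v) →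
      ∀ v₀ ∈ T, v₀ ≠ 1 → ∃ s, (s = ((1, 1, 0, 0) : V4080) ∨ s = (1, 0, 0, 1)) ∧
        ∃ x : V4080 → G, (∀ a b, x (a + b) = x a * x b) ∧ Function.Injective x ∧ (∀ a, x a ∈ T) ∧
          (∀ t, x t = x4 v₀ (e * v₀ * e⁻¹) (e * (e * v₀ * e⁻¹) * e⁻¹)
            (e * (e * (e * v₀ * e⁻¹) * e⁻¹) * e⁻¹) t) ∧
          ∀ t, e * x t * e⁻¹ = x (J4 s t) := by
    intro e he hf v₀ h₀ hv
    set v₁ := e * v₀ * e⁻¹ with hv₁
    set v₂ := e * v₁ * e⁻¹ with hv₂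
    set v₃ := e * v₂ * e⁻¹ with hv₃
    have h₁ := he _ h₀
    have h₂ := he _ h₁
    have h₃ := he _ h₂
    obtain ⟨hm2, hadd2⟩ := x2_spec hsq hcomm h₀ h₁
    obtain ⟨hm3, hadd3⟩ := x3_spec hsq hcomm h₀ h₁ h₂
    obtain ⟨hm, hadd⟩ := x4_spec hsq hcomm h₀ h₁ h₂ h₃
    have hn3 : ∀ s, x3 v₀ v₁ v₂ s ≠ v₃ := fun s hs => by
      have := no_small (conj_x3 hsq hcomm h₀ h₁ h₂ rfl rfl (by rw [hs])) ((1, 0, 0) : V504)
        (m := 15) fun i hi hi' => by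
          have : x3 v₀ v₁ v₂ ((1, 0, 0) : V504) = v₀ := by simp [x3, x2]
          rw [this]; exact hf i hi hi' v₀ h₀ hv
      simp at this
    have hn2 : ∀ s, x2 v₀ v₁ s ≠ v₂ := fun s hs => by
      have := no_small (conj_x2 hsq hcomm h₀ h₁ rfl (by rw [hs])) ((1, 0) : ZMod 2 × ZMod 2)
        (m := 15) fun i hi hi' => by
          have : x2 v₀ v₁ ((1, 0) : ZMod 2 × ZMod 2) = v₀ := by simp [x2]
          rw [this]; exact hf i hi hi' v₀ h₀ hv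
      simp at this
    have hn1 : ∀ a, pw v₀ a ≠ v₁ := fun a ha => by
      rcases zmod_two a with rfl | rfl
      · rw [pw_zero] at ha
        exact hv (by
          have : e⁻¹ * v₁ * e = v₀ := by rw [hv₁]; group
          rw [← this, ← ha]; group)
      · rw [pw_one] at ha
        exact hf 1 (by norm_num) (by norm_num) v₀ h₀ hv (by rw [pow_one, ← hv₁]; exact ha.symm)
    have hi : Function.Injective (x4 v₀ v₁ v₂ v₃) := by
      refine injective_of_kernel hadd ?_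
      rintro ⟨a, b, c, g⟩ e0
      simp only [x4, x3, x2, ← mul_assoc] at e0
      rcases zmod_two g with rfl | rfl
      · rw [pw_zero, mul_one] at e0
        rcases zmod_two c with rfl | rfl
        · rw [pw_zero, mul_one] at e0
          rcases zmod_two b with rfl | rfl
          · rw [pw_zero, mul_one] at e0
            rcases zmod_two a with rfl | rfl
            · rfl
            · exact absurd (by simpa using e0) hv
          · rw [pw_one] at e0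
            refine absurd ?_ (hn1 a)
            rw [eq_inv_of_mul_eq_one_left e0]
            exact inv_eq_of_mul_eq_one_right (hsq _ h₁)
        · rw [pw_one] at e0
          refine absurd ?_ (hn2 (a, b))
          rw [x2, eq_inv_of_mul_eq_one_left e0]
          exact inv_eq_of_mul_eq_one_right (hsq _ h₂)
      · rw [pw_one] at e0
        refine absurd ?_ (hn3 (a, b, c))
        rw [x3, x2, ← mul_assoc, eq_inv_of_mul_eq_one_left e0]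
        exact inv_eq_of_mul_eq_one_right (hsq _ h₃)
    obtain ⟨s, hs⟩ : ∃ s, x4 v₀ v₁ v₂ v₃ s = e * v₃ * e⁻¹ := by
      have hbij : Function.Bijective (fun t : V4080 => (⟨x4 v₀ v₁ v₂ v₃ t, hm t⟩ : ↥T)) :=
        (Nat.bijective_iff_injective_and_card _).2 ⟨fun a b h => hi (congrArg Subtype.val h), by
          rw [hT, Nat.card_eq_fintype_card]; rfl⟩
      obtain ⟨t, ht⟩ := hbij.2 ⟨_, he _ h₃⟩
      exact ⟨t, congrArg Subtype.val ht⟩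
    have hJ := conj_x4 hsq hcomm h₀ h₁ h₂ h₃ rfl rfl rfl hs.symm
    refine ⟨s, primitive_four s fun i j hij => ?_, _, hadd, hi, hm, fun t => rfl, hJ⟩
    refine orbit_inj (d := e) (v := v₀) (fun k hk hk' => hf k hk hk' v₀ h₀ hv) ?_
    show e ^ (i : ℕ) * v₀ * (e ^ (i : ℕ))⁻¹ = e ^ (j : ℕ) * v₀ * (e ^ (j : ℕ))⁻¹
    have : x4 v₀ v₁ v₂ v₃ ((1, 0, 0, 0) : V4080) = v₀ := by simp [x4, x3, x2]
    rw [← this, conj_iterate hJ, conj_iterate hJ, hij]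
  obtain ⟨⟨v₀, h₀⟩, hv⟩ : ∃ v : ↥T, v ≠ 1 := by
    have : Nontrivial ↥T := Finite.one_lt_card_iff_nontrivial.1 (by omega)
    exact exists_ne 1
  have hv' : v₀ ≠ 1 := fun h => hv (Subtype.ext h)
  obtain ⟨s, hs, x, hx, hxi, hxT, hxe, hxd⟩ := hmain d hdT hfpf v₀ h₀ hv'
  rcases hs with rfl | rfl
  · exact ⟨x, d, Subgroup.mem_zpowers d, hx, hxi, hxT, fun t => by rw [hxd, J4_eq]⟩
  · have hfpf' : ∀ i, 0 < i → i < 15 → ∀ v ∈ T, v ≠ 1 → d⁻¹ ^ i * v * (d⁻¹ ^ i)⁻¹ ≠ v := by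
      intro i h1 h2 v hv1 hv2 h3
      refine hfpf i h1 h2 v hv1 hv2 ?_
      rw [inv_pow] at h3
      nth_rewrite 1 [← h3]
      group
    obtain ⟨s', hs', x', hx', hxi', hxT', hxe', hxd'⟩ :=
      hmain d⁻¹ (fun a ha => by rw [inv_inv]; exact hdT' a ha) hfpf' v₀ h₀ hv'
    refine ⟨x', d⁻¹, inv_mem (Subgroup.mem_zpowers d), hx', hxi', hxT', fun t => ?_⟩
    rcases hs' with rfl | rfl
    · rw [hxd', J4_eq]
    · exfalso
      -- both polynomials would be annihilating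
      have r1 := hxd (0, 0, 0, 1)
      simp only [hxe, J4, x4, x3, x2] at r1
      have r2 := hxd' (0, 0, 0, 1)
      simp only [hxe', J4, x4, x3, x2] at r2
      simp at r1 r2
      have e1 : d⁻¹ ^ 4 * v₀ * (d⁻¹ ^ 4)⁻¹ = v₀ * (d⁻¹ * v₀ * d⁻¹⁻¹) := by
        calc d⁻¹ ^ 4 * v₀ * (d⁻¹ ^ 4)⁻¹
            = d⁻¹ ^ 4 * (d * (d * (d * (d * v₀ * d⁻¹) * d⁻¹) * d⁻¹) * d⁻¹ *
                (d * (d * (d * v₀ * d⁻¹) * d⁻¹) * d⁻¹)) * (d⁻¹ ^ 4)⁻¹ := by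
              rw [r1, mul_assoc v₀, hsq _ (hdT _ (hdT _ (hdT _ h₀))), mul_one]
          _ = v₀ * (d⁻¹ * v₀ * d⁻¹⁻¹) := by group
      have e2 : d⁻¹ ^ 4 * v₀ * (d⁻¹ ^ 4)⁻¹ = v₀ * (d⁻¹ * (d⁻¹ * (d⁻¹ * v₀ * d) * d) * d) := by
        rw [← r2]
        simp only [pow_succ, pow_zero, one_mul, mul_inv_rev, inv_inv, mul_assoc]
      have e3 : d⁻¹ * v₀ * d⁻¹⁻¹ = d⁻¹ * (d⁻¹ * (d⁻¹ * v₀ * d) * d) * d :=
        mul_left_cancel (e1.symm.trans e2)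
      refine hfpf 2 (by norm_num) (by norm_num) v₀ h₀ hv' ?_
      calc d ^ 2 * v₀ * (d ^ 2)⁻¹ = d * (d * (d * (d⁻¹ * v₀ * d⁻¹⁻¹) * d⁻¹) * d⁻¹) * d⁻¹ := by
            rw [sq]; group
        _ = d * (d * (d * (d⁻¹ * (d⁻¹ * (d⁻¹ * v₀ * d) * d) * d) * d⁻¹) * d⁻¹) * d⁻¹ := by rw [e3]
        _ = v₀ := by group

end Cfsg.Agent.SimpleTwoCoord
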