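import Cfsg.Agent.Lib.SimpleTITwo
import Cfsg.Agent.Lib.SimpleTwoCoord

/-! Simple groups of order 504. -/

namespace Cfsg.Agent.Simple504

open SimpleOrder SmallGroupBasic SimpleZassenhaus SimpleZassenhausData

variable {G : Type*} [Group G] [Finite G] [IsSimpleGroup G]

theorem not_comm (h : Nat.card G = 504) : ¬ IsMulCommutative G :=
  not_comm_of_not_prime (by rw [h]; norm_num)

theorem seven (h : Nat.card G = 504) :
    (∀ P : Sylow 7 G, Nat.card ↥(P : Subgroup G) = 7 ∧
      Nat.card ↥(Subgroup.normalizer ((P : Subgroup G) : Set G)) = 14 ∧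
      Nat.card ↥(Subgroup.centralizer ((P : Subgroup G) : Set G)) = 7) ∧
      Nat.card (Sylow 7 G) = 36 ∧ ∀ H : Subgroup G, H ≠ ⊤ → 9 ≤ H.index := by
  have : Fact (Nat.Prime 7) := ⟨by norm_num⟩
  have hG := not_comm h
  have hn : Nat.card G = 7 ^ 1 * 72 := by norm_num [h]
  have hP : ∀ P : Sylow 7 G, Nat.card ↥(P : Subgroup G) = 7 := fun P =>
    (sylow_card_of_eq hn (by decide) P).trans (by norm_num)
  have hd : 7 ∣ Nat.card G := by rw [h]; norm_num
  have hN : ∀ P : Sylow 7 G,
      Nat.card ↥(Subgroup.normalizer ((P : Subgroup G) : Set G)) * Nat.card (Sylow 7 G) = 504 :=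
    fun P => (congrArg (_ * ·) P.card_eq_index_normalizer).trans
      ((Subgroup.card_mul_index _).trans h)
  obtain ⟨P⟩ : Nonempty (Sylow 7 G) := inferInstance
  have hmem := card_sylow_mem hn (by decide : ¬ 7 ∣ 72)
  rw [show (Nat.divisors 72).filter (fun d => d % 7 = 1) = {1, 8, 36} by decide] at hmem
  simp only [Finset.mem_insert, Finset.mem_singleton] at hmem
  have h36 : Nat.card (Sylow 7 G) = 36 := by
    rcases hmem with h1 | h1 | h1
    · exact absurd h1 (card_sylow_ne_one hG hd)
    · exfalso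
      have hi : (Subgroup.normalizer ((P : Subgroup G) : Set G)).index = 8 :=
        P.card_eq_index_normalizer.symm.trans h1
      have := (card_normalizer_dvd_of_index hG (by norm_num) P (hP P) _ (normalizer_ne_top hG hd P)
        (by rw [hi]; norm_num)).1
      have hc := hN P
      rw [h1] at hc
      rw [hi, show Nat.card ↥(Subgroup.normalizer ((P : Subgroup G) : Set G)) = 63 by omega] at this
      norm_num [Nat.factorial] at this
    · exact h1
  have hN' : ∀ P : Sylow 7 G,
      Nat.card ↥(Subgroup.normalizer ((P : Subgroup G) : Set G)) = 14 := fun P => by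
    have := hN P
    rw [h36] at this
    omega
  refine ⟨fun P => ⟨hP P, hN' P, ?_⟩, h36, fun H hH => ?_⟩
  · obtain ⟨e, he1, he2, he3, c, hc⟩ := exists_card_normalizer_eq hG P (hP P)
    rw [hN' P, hc] at he3
    rw [hc]
    have : e * c = 2 := by linarith
    have : e ≤ 2 := Nat.le_of_dvd (by norm_num) ⟨c, this.symm⟩
    interval_cases e
    omega
  · have h7 : 7 ≤ H.index := le_index hG (fun i hi => by
      rw [h]; interval_cases i <;> norm_num [Nat.factorial]) H hH
    by_contra hlt
    have := (card_normalizer_dvd_of_index hG (by norm_num) P (hP P) H hH (by omega)).1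
    rw [hN' P] at this
    interval_cases H.index <;> norm_num [Nat.factorial] at this

theorem three (h : Nat.card G = 504) :
    (∀ P : Sylow 3 G, Nat.card ↥(P : Subgroup G) = 9) ∧ Nat.card (Sylow 3 G) = 28 ∧
      ∀ P : Sylow 3 G,
        Nat.card ↥(Subgroup.normalizer ((P : Subgroup G) : Set G)) = 18 := by
  have : Fact (Nat.Prime 3) := ⟨Nat.prime_three⟩
  have hG := not_comm h
  have hn : Nat.card G = 3 ^ 2 * 56 := by norm_num [h]
  have hd : 3 ∣ Nat.card G := by rw [h]; norm_num
  obtain ⟨P⟩ : Nonempty (Sylow 3 G) := inferInstance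
  have hmem := card_sylow_mem hn (by decide : ¬ 3 ∣ 56)
  rw [show (Nat.divisors 56).filter (fun d => d % 3 = 1) = {1, 4, 7, 28} by decide] at hmem
  simp only [Finset.mem_insert, Finset.mem_singleton] at hmem
  have h9 : 9 ≤ Nat.card (Sylow 3 G) :=
    ((seven h).2.2 _ (normalizer_ne_top hG hd P)).trans_eq P.card_eq_index_normalizer.symm
  have h28 : Nat.card (Sylow 3 G) = 28 := by omega
  refine ⟨fun P => (sylow_card_of_eq hn (by decide) P).trans (by norm_num), h28, fun Q => ?_⟩
  have := (congrArg (Nat.card ↥(Subgroup.normalizer ((Q : Subgroup G) : Set G)) * ·)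
    Q.card_eq_index_normalizer).trans ((Subgroup.card_mul_index _).trans h)
  simp only [h28] at this
  omega

theorem comm_sylow (h : Nat.card G = 504) (P : Sylow 3 G) :
    IsMulCommutative ↥(P : Subgroup G) :=
  have : Fact (Nat.Prime 3) := ⟨Nat.prime_three⟩
  IsPGroup.isMulCommutative_of_card_eq_prime_sq (p := 3) (((three h).1 P).trans (by norm_num))

theorem inter_eq_bot (h : Nat.card G = 504) (P Q : Sylow 3 G) (hPQ : Q ≠ P) :
    (P : Subgroup G) ⊓ Q = ⊥ := by
  classical
  have : Fact (Nat.Prime 3) := ⟨Nat.prime_three⟩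
  have hG := not_comm h
  obtain ⟨hP, -, -⟩ := three h
  have hidx := (seven h).2.2
  by_contra hne
  set Z := (P : Subgroup G) ⊓ Q with hZ
  set N := Subgroup.normalizer (Z : Set G) with hNZ
  have hle : ∀ R : Sylow 3 G, Z ≤ R → (R : Subgroup G) ≤ N := fun R hR y hy => by
    have hc := comm_sylow h R
    have hcm : ∀ {z}, z ∈ (R : Subgroup G) → y * z * y⁻¹ = z := fun {z} hz => by
      rw [show y * z = z * y from congrArg Subtype.val (hc.is_comm.comm ⟨y, hy⟩ ⟨z, hz⟩),
        mul_inv_cancel_right]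
    rw [hNZ, Subgroup.mem_normalizer_iff]
    intro z
    constructor
    · intro hz
      rwa [hcm (hR hz)]
    · intro hz
      have hzR : z ∈ (R : Subgroup G) := by
        have := mul_mem (mul_mem (inv_mem hy) (hR hz)) hy
        simpa [mul_assoc] using this
      rwa [hcm hzR] at hz
  have hPN := hle P inf_le_left
  have hQN := hle Q inf_le_right
  have hNtop : N ≠ ⊤ := by
    intro ht
    rcases eq_bot_or_top (Subgroup.normalizer_eq_top_iff.1 ht) with h' | h'
    · exact hne h'
    · have h1 : Nat.card ↥Z ≤ Nat.card ↥(P : Subgroup G) :=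
        Nat.le_of_dvd Nat.card_pos (Subgroup.card_dvd_of_le inf_le_left)
      rw [h', Subgroup.card_top, h, hP] at h1
      omega
  have h9i := hidx N hNtop
  have hmul := N.card_mul_index
  rw [h] at hmul
  set P' : Sylow 3 ↥N := Sylow.subtype P hPN with hP'
  have hP'9 : Nat.card ↥(P' : Subgroup ↥N) = 9 := by
    rw [hP', Sylow.coe_subtype, Nat.card_congr (Subgroup.subgroupOfEquivOfLe hPN).toEquiv, hP]
  have hs : Nat.card (Sylow 3 ↥N) ≠ 1 := by
    intro h1
    have := (Nat.card_eq_one_iff_unique.1 h1).1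
    have hh := Subsingleton.elim P' (Sylow.subtype Q hQN)
    exact hPQ (Sylow.subtype_injective hh).symm
  obtain ⟨c, hc⟩ : 9 ∣ Nat.card ↥N := hP P ▸ Subgroup.card_dvd_of_le hPN
  have hdvd : Nat.card (Sylow 3 ↥N) ∣ c := by
    have hh' := (P' : Subgroup ↥N).card_mul_index
    rw [hP'9, hc] at hh'
    exact Nat.eq_of_mul_eq_mul_left (by norm_num) hh' ▸ P'.card_dvd_index
  have hmod := card_sylow_modEq_one 3 ↥N
  rw [hc] at hmul
  have hc6 : c ≤ 6 := by nlinarith
  have hc4 : c = 4 ∧ Nat.card (Sylow 3 ↥N) = 4 := by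
    have hle' : Nat.card (Sylow 3 ↥N) ≤ c := Nat.le_of_dvd (by
      rcases Nat.eq_zero_or_pos c with rfl | hc0
      · simp at hmul
      · exact hc0) hdvd
    rw [Nat.ModEq] at hmod
    have h0 : Nat.card (Sylow 3 ↥N) ≠ 0 := Nat.card_pos.ne'
    generalize Nat.card (Sylow 3 ↥N) = s at *
    interval_cases c <;> interval_cases s <;> omega
  -- a normal complement of order four
  have hNP : Subgroup.normalizer ((P' : Subgroup ↥N) : Set ↥N) = (P' : Subgroup ↥N) := by
    refine (Subgroup.eq_of_le_of_card_ge Subgroup.le_normalizer ?_).symm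
    have h2 := (Subgroup.normalizer ((P' : Subgroup ↥N) : Set ↥N)).card_mul_index
    rw [show (Subgroup.normalizer ((P' : Subgroup ↥N) : Set ↥N)).index = 4 from
      P'.card_eq_index_normalizer.symm.trans hc4.2, hc, hc4.1] at h2
    rw [hP'9]
    omega
  have hcP : IsMulCommutative ↥(P' : Subgroup ↥N) :=
    IsPGroup.isMulCommutative_of_card_eq_prime_sq (p := 3) (hP'9.trans (by norm_num))
  have hburn : Subgroup.normalizer ((P' : Subgroup ↥N) : Set ↥N) ≤
      Subgroup.centralizer ((P' : Subgroup ↥N) : Set ↥N) := by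
    rw [hNP]; exact Subgroup.le_centralizer _
  obtain ⟨K, hK4, hKn⟩ : ∃ K : Subgroup ↥N, Nat.card ↥K = 4 ∧ K.Normal := by
    refine ⟨(MonoidHom.transferSylow P' hburn).ker, ?_, MonoidHom.normal_ker _⟩
    have := (MonoidHom.ker_transferSylow_isComplement' P' hburn).card_mul
    rw [hP'9, hc, hc4.1] at this
    omega
  set K' := K.map N.subtype with hK'def
  have hK'4 : Nat.card ↥K' = 4 := by
    rw [hK'def, ← Nat.card_congr (K.equivMapOfInjective _ N.subtype_injective).toEquiv, hK4]
  set M := Subgroup.normalizer (K' : Set G) with hM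
  have hNM : N ≤ M := by
    intro g hg
    rw [hM, Subgroup.mem_normalizer_iff]
    intro z
    simp only [hK'def, Subgroup.mem_map, Subgroup.coe_subtype]
    constructor
    · rintro ⟨w, hw, rfl⟩
      exact ⟨⟨g, hg⟩ * w * ⟨g, hg⟩⁻¹, hKn.conj_mem w hw _, by simp⟩
    · rintro ⟨w, hw, hwz⟩
      refine ⟨(⟨g, hg⟩ : ↥N)⁻¹ * w * (⟨g, hg⟩ : ↥N)⁻¹⁻¹, hKn.conj_mem w hw _, ?_⟩
      simp [hwz, mul_assoc]
  obtain ⟨S, hS⟩ := (IsPGroup.of_card (p := 2) (n := 2) (by rw [hK'4]; norm_num) :
    IsPGroup 2 ↥K').exists_le_sylow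
  have hS8 : Nat.card ↥(S : Subgroup G) = 8 :=
    (sylow_card_of_eq (show Nat.card G = 2 ^ 3 * 63 by norm_num [h]) (by decide) S).trans (by norm_num)
  have hSM : (S : Subgroup G) ≤ M := by
    have hi : (K'.subgroupOf (S : Subgroup G)).index = 2 := by
      have := (K'.subgroupOf (S : Subgroup G)).card_mul_index
      rw [Nat.card_congr (Subgroup.subgroupOfEquivOfLe hS).toEquiv, hK'4, hS8] at this
      omega
    have hn' := Subgroup.normal_of_index_eq_two hi
    rw [hM]
    exact (Subgroup.normal_subgroupOf_iff_le_normalizer hS).1 hn'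
  have hMtop : M ≠ ⊤ := by
    intro ht
    rcases eq_bot_or_top (Subgroup.normalizer_eq_top_iff.1 ht) with h' | h'
    · rw [h', Subgroup.card_bot] at hK'4; omega
    · rw [h', Subgroup.card_top, h] at hK'4; omega
  have h72 : 72 ∣ Nat.card ↥M := by
    have a1 : 9 ∣ Nat.card ↥M := dvd_trans ⟨c, hc⟩ (Subgroup.card_dvd_of_le hNM)
    have a2 : 8 ∣ Nat.card ↥M := hS8 ▸ Subgroup.card_dvd_of_le hSM
    exact (show Nat.Coprime 9 8 by norm_num).mul_dvd_of_dvd_of_dvd a1 a2
  have h1 := hidx M hMtop
  have h2 := M.card_mul_index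
  rw [h] at h2
  have h3 := Nat.le_of_dvd Nat.card_pos h72
  nlinarith

theorem centralizer_three (h : Nat.card G = 504) (P : Sylow 3 G) {y : G}
    (hy : y ∈ (P : Subgroup G)) (hy1 : y ≠ 1) :
    Subgroup.centralizer ({y} : Set G) = (P : Subgroup G) := by
  classical
  have : Fact (Nat.Prime 3) := ⟨Nat.prime_three⟩
  have hG := not_comm h
  obtain ⟨hP, -, hN⟩ := three h
  have hPC : (P : Subgroup G) ≤ Subgroup.centralizer {y} := fun a ha => by
    rw [Subgroup.mem_centralizer_singleton_iff]
    exact congrArg Subtype.val ((comm_sylow h P).is_comm.comm ⟨a, ha⟩ ⟨y, hy⟩)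
  have key : ∀ {g z : G}, z ∈ (P : Subgroup G) → z ≠ 1 → g⁻¹ * z * g ∈ (P : Subgroup G) →
      g ∈ Subgroup.normalizer ((P : Subgroup G) : Set G) := by
    intro g z hz hz1 hgz
    refine Sylow.smul_eq_iff_mem_normalizer.1 ?_
    by_contra hne
    have hmem : z ∈ ((P : Subgroup G) ⊓ ((g • P : Sylow 3 G) : Subgroup G)) := by
      refine ⟨hz, ?_⟩
      show z ∈ ((g • P : Sylow 3 G) : Subgroup G)
      rw [Sylow.coe_subgroup_smul, Subgroup.mem_pointwise_smul_iff_inv_smul_mem, ← map_inv,
        MulAut.smul_def, MulAut.conj_apply, inv_inv]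
      exact hgz
    rw [inter_eq_bot h P (g • P) hne, Subgroup.mem_bot] at hmem
    exact hz1 hmem
  have hCN : Subgroup.centralizer ({y} : Set G) ≤
      Subgroup.normalizer ((P : Subgroup G) : Set G) := fun g hg => key hy hy1 (by
    rw [Subgroup.mem_centralizer_singleton_iff] at hg
    rw [mul_assoc, ← hg, inv_mul_cancel_left]
    exact hy)
  obtain ⟨c, hc⟩ := hP P ▸ Subgroup.card_dvd_of_le hPC
  have hc2 : c ∣ 2 := by
    have := Subgroup.card_dvd_of_le hCN
    rw [hc, hN P] at this
    exact Nat.dvd_of_mul_dvd_mul_left (by norm_num : 0 < 9) this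
  rcases (Nat.dvd_prime Nat.prime_two).1 hc2 with rfl | rfl
  · exact (Subgroup.eq_of_le_of_card_ge hPC (by rw [hc, hP])).symm
  · exfalso
    have heq : Subgroup.centralizer ({y} : Set G) =
        Subgroup.normalizer ((P : Subgroup G) : Set G) :=
      Subgroup.eq_of_le_of_card_ge hCN (by rw [hc, hN P])
    letI : CommGroup ↥(P : Subgroup G) :=
      { (inferInstance : Group ↥(P : Subgroup G)) with
        mul_comm := fun a b => (comm_sylow h P).is_comm.comm a b }
    let V : G →* ↥(P : Subgroup G) := MonoidHom.transfer (MonoidHom.id ↥(P : Subgroup G))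
    have hkey : ∀ (k : ℕ) (g₀ : G), g₀⁻¹ * y ^ k * g₀ ∈ (P : Subgroup G) →
        g₀⁻¹ * y ^ k * g₀ = y ^ k := by
      intro k g₀ hg
      rcases eq_or_ne (y ^ k) 1 with e | e
      · simp [e]
      · have := key (pow_mem hy k) e hg
        rw [← heq, Subgroup.mem_centralizer_singleton_iff] at this
        have hc' : Commute g₀ y := this
        rw [mul_assoc, ← (hc'.pow_right k).eq, inv_mul_cancel_left]
    have hV := MonoidHom.transfer_eq_pow (MonoidHom.id ↥(P : Subgroup G)) y hkey
    have h1 : V y = 1 := by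
      rcases eq_bot_or_top (MonoidHom.normal_ker V) with hk | hk
      · exact absurd ⟨⟨fun a b => (MonoidHom.ker_eq_bot_iff V).1 hk (by
          rw [map_mul, map_mul, mul_comm])⟩⟩ hG
      · exact MonoidHom.mem_ker.1 (hk ▸ Subgroup.mem_top y)
    have h2 : y ^ (P : Subgroup G).index = 1 := congrArg Subtype.val (hV.symm.trans h1)
    have hi : (P : Subgroup G).index = 56 := by
      have := (P : Subgroup G).card_mul_index
      rw [hP, h] at this
      omega
    have h3 : orderOf y ∣ 56 := hi ▸ orderOf_dvd_of_pow_eq_one h2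
    have h4 : orderOf y ∣ 9 := hP P ▸ Subgroup.orderOf_dvd_natCard _ hy
    exact hy1 (orderOf_eq_one_iff.1
      (Nat.eq_one_of_dvd_coprimes (by norm_num : Nat.Coprime 56 9) h3 h4))

theorem nonempty_coord (h : Nat.card G = 504) : Nonempty (Coord J504 7 G) := by
  classical
  have : Fact (Nat.Prime 3) := ⟨Nat.prime_three⟩
  have : Fact (Nat.Prime 7) := ⟨by norm_num⟩
  have hG := not_comm h
  obtain ⟨h7, h36, -⟩ := seven h
  obtain ⟨hP3, h28, -⟩ := three h
  have hseven : ∀ g : G, 7 ∣ orderOf g → orderOf g = 7 := fun g hg =>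
    orderOf_eq_of_dvd (fun P => (h7 P).1) (fun P => (h7 P).2.2) hg
  have hthree : ∀ g : G, 3 ∣ orderOf g → orderOf g ∣ 9 := by
    intro g hg
    set y := g ^ (orderOf g / 3) with hy
    have hy3 : orderOf y = 3 := orderOf_pow_orderOf_div (orderOf_pos g).ne' hg
    obtain ⟨P, hP⟩ := (IsPGroup.of_card (p := 3) (n := 1) (by rw [Nat.card_zpowers, hy3, pow_one]) :
      IsPGroup 3 ↥(Subgroup.zpowers y)).exists_le_sylow
    have hC := centralizer_three h P (hP (Subgroup.mem_zpowers y))
      (fun e => by rw [e, orderOf_one] at hy3; omega)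
    have hgC : g ∈ Subgroup.centralizer ({y} : Set G) := by
      rw [Subgroup.mem_centralizer_singleton_iff]
      exact (Commute.self_pow g _).eq
    rw [hC] at hgC
    exact hP3 P ▸ Subgroup.orderOf_dvd_natCard _ hgC
  have hA7 : 216 ≤ Nat.card {g : G // 7 ∣ orderOf g} := by
    have := SimpleTITwo.le_card_dvd_orderOf (p := 7) (k := 1) (fun P => (h7 P).1)
      (fun P => (h7 P).2.2) (by norm_num)
    omega
  have hA3 : 224 ≤ Nat.card {g : G // 3 ∣ orderOf g} := by
    let f : (Σ P : Sylow 3 G, {y : ↥(P : Subgroup G) // y ≠ 1}) → {g : G // 3 ∣ orderOf g} :=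
      fun s => ⟨s.2.1, by
        have h1 : orderOf (s.2.1 : G) ∣ 3 ^ 2 := by
          simpa [hP3 s.1] using Subgroup.orderOf_dvd_natCard _ s.2.1.2
        obtain ⟨j, -, hj⟩ := (Nat.dvd_prime_pow Nat.prime_three).1 h1
        rw [hj]
        refine dvd_pow_self 3 fun e => s.2.2 (Subtype.ext ?_)
        rw [e, pow_zero] at hj
        exact orderOf_eq_one_iff.1 hj⟩
    have hf : Function.Injective f := by
      rintro ⟨P, y, hy⟩ ⟨Q, z, hz⟩ e
      have e' : (y : G) = z := congrArg Subtype.val e
      have hPQ : P = Q := Sylow.ext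
        ((centralizer_three h P y.2 fun e0 => hy (Subtype.ext e0)).symm.trans
          (by rw [e']; exact centralizer_three h Q z.2 fun e0 => hz (Subtype.ext e0)))
      subst hPQ
      exact Sigma.ext rfl (heq_of_eq (Subtype.ext (Subtype.ext e')))
    refine le_trans (le_of_eq ?_) (Nat.card_le_card_of_injective f hf)
    have := Fintype.ofFinite (Sylow 3 G)
    rw [Nat.card_sigma, Finset.sum_congr rfl fun P _ => (?_ : _ = 8), Finset.sum_const,
      Finset.card_univ, smul_eq_mul, ← Nat.card_eq_fintype_card, h28]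
    have := Fintype.ofFinite ↥(P : Subgroup G)
    rw [Nat.card_eq_fintype_card, Fintype.card_subtype_compl, Fintype.card_subtype_eq,
      ← Nat.card_eq_fintype_card, hP3]
  have hB : Nat.card {g : G // g ≠ 1 ∧ orderOf g ∣ 2 ^ 3} ≤ 63 := by
    have := SimpleTITwo.card_three_le (fun g : G => 7 ∣ orderOf g) (fun g => 3 ∣ orderOf g)
      (fun g => g ≠ 1 ∧ orderOf g ∣ 2 ^ 3) (by simp) (by simp) (by simp)
      (fun g a b => by rw [hseven g a] at b; norm_num at b)
      (fun g a b => by have := Nat.dvd_trans a b.2; norm_num at this)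
      (fun g a b => by have := Nat.dvd_trans a b.2; norm_num at this)
    rw [h] at this
    omega
  have hinv : ∀ t : G, orderOf t = 2 → ∀ p : ℕ, p.Prime →
      p ∣ Nat.card ↥(Subgroup.centralizer ({t} : Set G)) → p = 2 := by
    intro t ht p hp hd
    have hp' : p ∣ 504 := h ▸ hd.trans (Subgroup.card_subgroup_dvd_card _)
    have hple : p = 2 ∨ p = 3 ∨ p = 7 := by
      have := Nat.mem_primeFactors.2 ⟨hp, hp', by norm_num⟩
      rw [show (504 : ℕ).primeFactors = {2, 3, 7} by
        rw [show (504 : ℕ) = 2 ^ 3 * (3 ^ 2 * 7) by norm_num, Nat.primeFactors_mul (by norm_num)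
          (by norm_num), Nat.primeFactors_mul (by norm_num) (by norm_num),
          Nat.primeFactors_prime_pow (by norm_num) Nat.prime_two,
          Nat.primeFactors_prime_pow (by norm_num) Nat.prime_three,
          Nat.Prime.primeFactors (by norm_num : Nat.Prime 7)]
        rfl] at this
      simpa using this
    by_contra hne
    have : Fact p.Prime := ⟨hp⟩
    obtain ⟨⟨u, huC⟩, hu⟩ := exists_prime_orderOf_dvd_card' p hd
    rw [Subgroup.orderOf_mk] at hu
    rw [Subgroup.mem_centralizer_singleton_iff] at huC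
    have hcomm : Commute t u := huC.symm
    have hprod : orderOf (t * u) = 2 * p := by
      rw [hcomm.orderOf_mul_eq_mul_orderOf_of_coprime (by
        rw [ht, hu]; exact (Nat.coprime_primes Nat.prime_two hp).2 (Ne.symm hne)), ht, hu]
    rcases hple with rfl | rfl | rfl
    · exact hne rfl
    · have := hthree (t * u) (by rw [hprod]; norm_num)
      rw [hprod] at this
      norm_num at this
    · have := hseven (t * u) (by rw [hprod]; norm_num)
      omega
  have hn : Nat.card G = 2 ^ 3 * 63 := by norm_num [h]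
  have hti := SimpleTITwo.ti hn (by norm_num) (by norm_num) hB hinv
  obtain ⟨T⟩ : Nonempty (Sylow 2 G) := inferInstance
  have hn2 : Nat.card (Sylow 2 G) = 9 := by have := (hti T).2.2; omega
  have hT : ∀ S : Sylow 2 G, Nat.card ↥(S : Subgroup G) = 8 := fun S =>
    (sylow_card_of_eq hn (by norm_num) S).trans (by norm_num)
  have hinf := SimpleTITwo.inf_eq_bot (fun S => (hti S).1) T
  have hNT : Nat.card ↥(Subgroup.normalizer ((T : Subgroup G) : Set G)) = 8 * (8 - 1) := by
    have := (congrArg (Nat.card ↥(Subgroup.normalizer ((T : Subgroup G) : Set G)) * ·)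
      T.card_eq_index_normalizer).trans ((Subgroup.card_mul_index _).trans h)
    simp only [hn2] at this
    omega
  obtain ⟨Q₀, D, hQ₀, hD, hDN, hDQ, hfpf⟩ :=
    SimpleTITwo.exists_stab T (hT T) (hti T).1 hinf hn2 hNT
  obtain ⟨⟨d, hdD⟩, hd⟩ : ∃ d : ↥D, orderOf d = 7 :=
    exists_prime_orderOf_dvd_card' 7 (by rw [hD])
  rw [Subgroup.orderOf_mk] at hd
  have hsq := (hti T).2.1
  obtain ⟨x, d', hd', hx, hxi, hxT, hxd⟩ := SimpleTwoCoord.exists_x_eight hsq
    (fun a ha b hb => SimpleTITwo.mul_comm_of_sq _ hsq ha hb) (hT T) (d := d)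
    (fun a ha => (Subgroup.mem_normalizer_iff.1 (hDN hdD) a).1 ha)
    (fun a ha => by
      have := (Subgroup.mem_normalizer_iff.1 (inv_mem (hDN hdD)) a).1 ha
      rwa [inv_inv] at this)
    (fun i hi hi' v hv hv1 => hfpf _ (pow_mem hdD i)
      (fun e => by
        have h9 : orderOf d ∣ i := orderOf_dvd_of_pow_eq_one e
        rw [hd] at h9
        have := Nat.le_of_dvd hi h9
        omega) v hv hv1)
  have hd'D : d' ∈ D := (Subgroup.zpowers_le.2 hdD) hd'
  have hd2 : 2 ∣ Nat.card G := by rw [h]; norm_num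
  have hV : Fintype.card V504 = 8 := rfl
  exact SimpleZassenhaus.exists_coord (p := 2) hG (by norm_num) data504.hJm (r := (1, 0, 0))
    data504.hfree hd2 (by rw [hn2, hV]) T Q₀ hQ₀ hinf (by rw [hNT, hV]) x hx hxi hxT d'
    (hDN hd'D) (hDQ d' hd'D) hxd

theorem nonempty_equiv_model (h : Nat.card G = 504) :
    Nonempty (G ≃* model J504 w504) := by
  obtain ⟨C⟩ := nonempty_coord h
  exact exists_equiv_model data504 C

end Cfsg.Agent.Simple504
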