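import Cfsg.Agent.Lib.SimpleTITwo
import Cfsg.Agent.Lib.SimpleTwoCoord

/-! Simple groups of order 4080. -/

namespace Cfsg.Agent.Simple4080

open SimpleOrder SmallGroupBasic SimpleZassenhaus SimpleZassenhausData
open scoped Pointwise

variable {G : Type*} [Group G] [Finite G] [IsSimpleGroup G]

theorem not_comm (h : Nat.card G = 4080) : ¬ IsMulCommutative G :=
  not_comm_of_not_prime (by rw [h]; norm_num)

theorem seventeen (h : Nat.card G = 4080) :
    (∀ P : Sylow 17 G, Nat.card ↥(P : Subgroup G) = 17 ∧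
      Nat.card ↥(Subgroup.centralizer ((P : Subgroup G) : Set G)) = 17) ∧
      Nat.card (Sylow 17 G) = 120 ∧ ∀ H : Subgroup G, H ≠ ⊤ → 17 ≤ H.index := by
  have : Fact (Nat.Prime 17) := ⟨by norm_num⟩
  have hG := not_comm h
  have hn : Nat.card G = 17 ^ 1 * 240 := by norm_num [h]
  have hP : ∀ P : Sylow 17 G, Nat.card ↥(P : Subgroup G) = 17 := fun P =>
    (sylow_card_of_eq hn (by decide) P).trans (by norm_num)
  have hd : 17 ∣ Nat.card G := by rw [h]; norm_num
  obtain ⟨P⟩ : Nonempty (Sylow 17 G) := inferInstance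
  have hmem := card_sylow_mem hn (by decide : ¬ 17 ∣ 240)
  rw [show (Nat.divisors 240).filter (fun d => d % 17 = 1) = {1, 120} by decide +kernel] at hmem
  simp only [Finset.mem_insert, Finset.mem_singleton] at hmem
  have h120 : Nat.card (Sylow 17 G) = 120 := hmem.resolve_left (card_sylow_ne_one hG hd)
  refine ⟨fun P => ⟨hP P, ?_⟩, h120, fun H hH => ?_⟩
  · have hN := (congrArg (Nat.card ↥(Subgroup.normalizer ((P : Subgroup G) : Set G)) * ·)
      P.card_eq_index_normalizer).trans ((Subgroup.card_mul_index _).trans h)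
    simp only [h120] at hN
    obtain ⟨e, he1, he2, he3, c, hc⟩ := exists_card_normalizer_eq hG P (hP P)
    rw [hc] at he3 ⊢
    have : e * c = 2 := by nlinarith
    have : e ≤ 2 := Nat.le_of_dvd (by norm_num) ⟨c, this.symm⟩
    interval_cases e
    omega
  · refine le_index hG (fun i hi hdvd => ?_) H hH
    rw [h] at hdvd
    have h17 : 17 ∣ i.factorial := dvd_trans (by norm_num) hdvd
    exact absurd ((Nat.Prime.dvd_factorial (by norm_num)).1 h17) (by omega)

/-- Normalizer and centralizer of a Sylow subgroup of prime order. -/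
theorem exists_e (h : Nat.card G = 4080) {p : ℕ} [Fact p.Prime]
    (hP : ∀ P : Sylow p G, Nat.card ↥(P : Subgroup G) = p) (P : Sylow p G) :
    ∃ e c : ℕ, 1 < e ∧ e ∣ p - 1 ∧
      Nat.card ↥(Subgroup.centralizer ((P : Subgroup G) : Set G)) = p * c ∧
      Nat.card (Sylow p G) * (e * (p * c)) = 4080 ∧
      Nat.card ↥(Subgroup.normalizer ((P : Subgroup G) : Set G)) = e * (p * c) := by
  obtain ⟨e, he1, he2, he3, c, hc⟩ := exists_card_normalizer_eq (not_comm h) P (hP P)
  rw [hc] at he3
  refine ⟨e, c, he1, he2, hc, ?_, he3.symm⟩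
  rw [he3, mul_comm]
  exact (congrArg (Nat.card ↥(Subgroup.normalizer ((P : Subgroup G) : Set G)) * ·)
    P.card_eq_index_normalizer).trans ((Subgroup.card_mul_index _).trans h)

theorem le_card_sylow (h : Nat.card G = 4080) {p : ℕ} [Fact p.Prime] (hd : p ∣ Nat.card G) :
    17 ≤ Nat.card (Sylow p G) := by
  obtain ⟨P⟩ : Nonempty (Sylow p G) := inferInstance
  exact ((seventeen h).2.2 _ (normalizer_ne_top (not_comm h) hd P)).trans_eq
    P.card_eq_index_normalizer.symm

theorem commute_centralizer_five {P : Subgroup G} (hP5 : Nat.card ↥P = 5)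
    (hC : Nat.card ↥(Subgroup.centralizer (P : Set G)) = 15) {a b : G}
    (ha : a ∈ Subgroup.centralizer (P : Set G)) (hb : b ∈ Subgroup.centralizer (P : Set G)) :
    Commute a b := by
  have : Fact (Nat.Prime 5) := ⟨by norm_num⟩
  have : Fact (Nat.Prime 3) := ⟨Nat.prime_three⟩
  set C := Subgroup.centralizer (P : Set G)
  obtain ⟨u, hu⟩ := exists_prime_orderOf_dvd_card' 3 (show 3 ∣ Nat.card ↥C by rw [hC]; norm_num)
  obtain ⟨v, hv⟩ := exists_prime_orderOf_dvd_card' 5 (show 5 ∣ Nat.card ↥P by rw [hP5])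
  have hvC : (v : G) ∈ C := by
    have := isCyclic_of_prime_card (α := ↥P) hP5
    intro w hw
    exact congrArg Subtype.val ((IsCyclic.commGroup (α := ↥P)).mul_comm ⟨w, hw⟩ v)
  have hcom : Commute u (⟨v, hvC⟩ : ↥C) := Subtype.ext
    (Subgroup.mem_centralizer_iff.1 u.2 _ v.2).symm
  have ho : orderOf (u * (⟨v, hvC⟩ : ↥C)) = Nat.card ↥C := by
    rw [hC, hcom.orderOf_mul_eq_mul_orderOf_of_coprime (by
      rw [hu, Subgroup.orderOf_mk, Subgroup.orderOf_coe, hv]; norm_num), hu, Subgroup.orderOf_mk,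
      Subgroup.orderOf_coe, hv]
  have : IsCyclic ↥C := isCyclic_of_orderOf_eq_card _ ho
  exact congrArg Subtype.val ((IsCyclic.commGroup (α := ↥C)).mul_comm ⟨a, ha⟩ ⟨b, hb⟩)

theorem five_three (h : Nat.card G = 4080) :
    Nat.card (Sylow 5 G) = 136 ∧
    (∀ P : Sylow 5 G, Nat.card ↥(P : Subgroup G) = 5 ∧
      Nat.card ↥(Subgroup.normalizer ((P : Subgroup G) : Set G)) = 30 ∧
      Nat.card ↥(Subgroup.centralizer ((P : Subgroup G) : Set G)) = 15) ∧
    ∀ u : G, orderOf u = 3 → Nat.card ↥(Subgroup.centralizer ({u} : Set G)) = 15 := by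
  classical
  have : Fact (Nat.Prime 5) := ⟨by norm_num⟩
  have : Fact (Nat.Prime 3) := ⟨Nat.prime_three⟩
  have : Fact (Nat.Prime 17) := ⟨by norm_num⟩
  obtain ⟨h17, h120, -⟩ := seventeen h
  have hP5 : ∀ P : Sylow 5 G, Nat.card ↥(P : Subgroup G) = 5 := fun P =>
    (sylow_card_of_eq (show Nat.card G = 5 ^ 1 * 816 by norm_num [h]) (by norm_num) P).trans
      (by norm_num)
  have hP3 : ∀ P : Sylow 3 G, Nat.card ↥(P : Subgroup G) = 3 := fun P =>
    (sylow_card_of_eq (show Nat.card G = 3 ^ 1 * 1360 by norm_num [h]) (by norm_num) P).trans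
      (by norm_num)
  have hn5 := card_sylow_mem (show Nat.card G = 5 ^ 1 * 816 by norm_num [h]) (by norm_num)
  rw [show (Nat.divisors 816).filter (fun d => d % 5 = 1) = {1, 6, 16, 51, 136, 816} by
    decide +kernel] at hn5
  have hn5' := le_card_sylow h (p := 5) (by rw [h]; norm_num)
  simp only [Finset.mem_insert, Finset.mem_singleton] at hn5
  have hn3 : Nat.card (Sylow 3 G) % 3 = 1 := by
    have := card_sylow_modEq_one 3 G
    rw [Nat.ModEq] at this
    omega
  have hn3' := le_card_sylow h (p := 3) (by rw [h]; norm_num)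
  obtain ⟨P₅⟩ : Nonempty (Sylow 5 G) := inferInstance
  obtain ⟨P₃⟩ : Nonempty (Sylow 3 G) := inferInstance
  obtain ⟨e, c, he1, he2, hc, hec, hN⟩ := exists_e h hP5 P₅
  obtain ⟨e', c', he1', he2', hc', hec', -⟩ := exists_e h hP3 P₃
  obtain rfl : e' = 2 := le_antisymm (Nat.le_of_dvd (by norm_num) he2') he1'
  have hall5 : ∀ P : Sylow 5 G,
      Nat.card ↥(Subgroup.centralizer ((P : Subgroup G) : Set G)) = 5 * c := by
    intro P
    obtain ⟨g, hg⟩ := MulAction.exists_smul_eq G P₅ P
    rw [← hc, ← hg]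
    refine (Nat.card_congr ((MulAut.conj g).toEquiv.subtypeEquiv fun a => ?_)).symm
    rw [Sylow.coe_subgroup_smul]
    show (∀ b ∈ ((P₅ : Subgroup G) : Set G), b * a = a * b) ↔
      ∀ b ∈ ((MulAut.conj g • (P₅ : Subgroup G) : Subgroup G) : Set G),
        b * (MulAut.conj g a) = MulAut.conj g a * b
    constructor
    · intro ha b hb
      obtain ⟨b', hb', rfl⟩ := hb
      show MulAut.conj g b' * _ = _
      rw [← map_mul, ha b' hb', map_mul]
      rfl
    · intro ha b hb
      apply (MulAut.conj g).injective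
      rw [map_mul, map_mul]
      exact ha _ ⟨b, hb, rfl⟩
  have hall3 : ∀ P : Sylow 3 G,
      Nat.card ↥(Subgroup.centralizer ((P : Subgroup G) : Set G)) = 3 * c' := by
    intro P
    obtain ⟨g, hg⟩ := MulAction.exists_smul_eq G P₃ P
    rw [← hc', ← hg]
    refine (Nat.card_congr ((MulAut.conj g).toEquiv.subtypeEquiv fun a => ?_)).symm
    rw [Sylow.coe_subgroup_smul]
    show (∀ b ∈ ((P₃ : Subgroup G) : Set G), b * a = a * b) ↔
      ∀ b ∈ ((MulAut.conj g • (P₃ : Subgroup G) : Subgroup G) : Set G),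
        b * (MulAut.conj g a) = MulAut.conj g a * b
    constructor
    · intro ha b hb
      obtain ⟨b', hb', rfl⟩ := hb
      show MulAut.conj g b' * _ = _
      rw [← map_mul, ha b' hb', map_mul]
      rfl
    · intro ha b hb
      apply (MulAut.conj g).injective
      rw [map_mul, map_mul]
      exact ha _ ⟨b, hb, rfl⟩
  have hc'3 : ¬ 3 ∣ c' := fun ⟨k, hk⟩ => by
    rw [hk] at hec'
    have : 9 ∣ 4080 := ⟨Nat.card (Sylow 3 G) * (2 * k), by rw [← hec']; ring⟩
    norm_num at this
  have hc5 : ¬ 5 ∣ c := fun ⟨k, hk⟩ => by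
    rw [hk] at hec
    have : 25 ∣ 4080 := ⟨Nat.card (Sylow 5 G) * (e * k), by rw [← hec]; ring⟩
    norm_num at this
  have hc3 : 3 ∣ c := by
    by_contra hc3
    have hA17 := SimpleTITwo.le_card_dvd_orderOf (p := 17) (k := 1) (fun P => (h17 P).1)
      (fun P => (h17 P).2) (by norm_num)
    have hA5 := SimpleTITwo.le_card_dvd_orderOf (p := 5) hP5 hall5 hc5
    have hA3 := SimpleTITwo.le_card_dvd_orderOf (p := 3) hP3 hall3 hc'3
    have hdis : ∀ g : G, 17 ∣ orderOf g → orderOf g = 17 := fun g hg =>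
      orderOf_eq_of_dvd (fun P => (h17 P).1) (fun P => (h17 P).2) hg
    have hle := SimpleTITwo.card_three_le (fun g : G => 17 ∣ orderOf g) (fun g => 5 ∣ orderOf g)
      (fun g => 3 ∣ orderOf g) (by simp) (by simp) (by simp)
      (fun g a b => by rw [hdis g a] at b; norm_num at b)
      (fun g a b => by rw [hdis g a] at b; norm_num at b)
      (fun g a b => by
        set y := g ^ (orderOf g / 5) with hy
        have hy5 : orderOf y = 5 := orderOf_pow_orderOf_div (orderOf_pos g).ne' a
        obtain ⟨P, hP⟩ := exists_sylow_of_orderOf hP5 hy5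
        have hgC : g ∈ Subgroup.centralizer ((P : Subgroup G) : Set G) := by
          rw [hP, centralizer_zpowers, Subgroup.mem_centralizer_singleton_iff]
          exact (Commute.self_pow g _).eq
        have := dvd_trans b (Subgroup.orderOf_dvd_natCard _ hgC)
        rw [hall5] at this
        exact hc3 ((Nat.prime_three.dvd_mul.1 this).resolve_left (by norm_num)))
    rw [h120] at hA17
    rw [h] at hle
    have e3 : Nat.card (Sylow 3 G) * ((3 - 1) * c') = 1360 := by linarith
    have e5 : 816 ≤ Nat.card (Sylow 5 G) * ((5 - 1) * c) := by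
      have he4 : e ≤ 4 := Nat.le_of_dvd (by norm_num) he2
      show 816 ≤ Nat.card (Sylow 5 G) * (4 * c)
      nlinarith [Nat.zero_le (Nat.card (Sylow 5 G) * c)]
    omega
  have hec5 : Nat.card (Sylow 5 G) = 136 ∧ e = 2 ∧ c = 3 := by
    obtain ⟨k, rfl⟩ := hc3
    have he4 : e ≤ 4 := Nat.le_of_dvd (by norm_num) he2
    rcases hn5 with h1 | h1 | h1 | h1 | h1 | h1
    · omega
    · omega
    · omega
    all_goals
      rw [h1] at hec ⊢
      interval_cases e <;> first | omega | (norm_num at he2)
  obtain ⟨hn136, rfl, rfl⟩ := hec5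
  have hN5 : ∀ P : Sylow 5 G,
      Nat.card ↥(Subgroup.normalizer ((P : Subgroup G) : Set G)) = 30 := fun P => by
    have := (congrArg (Nat.card ↥(Subgroup.normalizer ((P : Subgroup G) : Set G)) * ·)
      P.card_eq_index_normalizer).trans ((Subgroup.card_mul_index _).trans h)
    simp only [hn136] at this
    omega
  refine ⟨hn136, fun P => ⟨hP5 P, hN5 P, hall5 P⟩, fun u hu => ?_⟩
  -- the centralizer of an element of order three
  obtain ⟨w, hw⟩ := exists_prime_orderOf_dvd_card' 3
    (show 3 ∣ Nat.card ↥(Subgroup.centralizer ((P₅ : Subgroup G) : Set G)) by rw [hc]; norm_num)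
  obtain ⟨R, hR⟩ := exists_sylow_of_orderOf hP3 (show orderOf (w : G) = 3 by
    rw [Subgroup.orderOf_coe, hw])
  set C := Subgroup.centralizer ((R : Subgroup G) : Set G) with hCdef
  have hCw : C = Subgroup.centralizer ({(w : G)} : Set G) := by
    rw [hCdef, hR, centralizer_zpowers]
  have hle : Subgroup.centralizer ((P₅ : Subgroup G) : Set G) ≤ C := by
    intro z hz
    rw [hCw, Subgroup.mem_centralizer_singleton_iff]
    exact (commute_centralizer_five (hP5 P₅) (hall5 P₅) hz w.2).eq
  have hcc : Nat.card ↥C = 15 := by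
    have h15 := Subgroup.card_dvd_of_le hle
    rw [hall5, hCdef, hall3] at h15
    obtain ⟨k, rfl⟩ : 5 ∣ c' :=
      (Nat.Prime.dvd_mul (by norm_num)).1 (dvd_trans (by norm_num) h15) |>.resolve_left (by norm_num)
    have hk : Nat.card (Sylow 3 G) * k = 136 := by linarith
    have hk8 : k ≤ 8 := by nlinarith
    have hcC : Nat.card ↥C = 15 * k := by rw [hCdef, hall3]; ring
    rw [hcC]
    by_contra hk1
    have hk4 : k = 4 := by
      generalize Nat.card (Sylow 3 G) = n at hk hn3
      interval_cases k <;> omega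
    have hPC : (P₅ : Subgroup G) ≤ C := le_trans (by
      have := isCyclic_of_prime_card (α := ↥(P₅ : Subgroup G)) (hP5 P₅)
      intro y hy z hz
      exact congrArg Subtype.val
        ((IsCyclic.commGroup (α := ↥(P₅ : Subgroup G))).mul_comm ⟨z, hz⟩ ⟨y, hy⟩)) hle
    set P' : Sylow 5 ↥C := Sylow.subtype P₅ hPC with hP'
    set M := Subgroup.normalizer ((P' : Subgroup ↥C) : Set ↥C) with hM
    have hMdiv : Nat.card ↥M ∣ 30 := by
      have hmap : M.map C.subtype ≤ Subgroup.normalizer ((P₅ : Subgroup G) : Set G) := by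
        have h1 := Subgroup.le_normalizer_map (H := (P' : Subgroup ↥C)) C.subtype
        rwa [hP', Sylow.coe_subtype, Subgroup.map_subgroupOf_eq_of_le hPC] at h1
      have := Subgroup.card_dvd_of_le hmap
      rwa [← Nat.card_congr (M.equivMapOfInjective _ C.subtype_injective).toEquiv, hN5] at this
    have hM15 : 15 ∣ Nat.card ↥M := by
      have hsub : Subgroup.centralizer ((P₅ : Subgroup G) : Set G) ≤ M.map C.subtype := by
        intro z hz
        refine ⟨⟨z, hle hz⟩, ?_, rfl⟩
        show (⟨z, hle hz⟩ : ↥C) ∈ M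
        rw [hM, Subgroup.mem_normalizer_iff]
        intro a
        simp only [hP', Sylow.coe_subtype, Subgroup.mem_subgroupOf, Subgroup.coe_mul,
          Subgroup.coe_inv]
        exact Subgroup.mem_normalizer_iff.1 (Subgroup.centralizer_le_normalizer _ hz) _
      have := Subgroup.card_dvd_of_le hsub
      rw [hall5, ← Nat.card_congr (M.equivMapOfInjective _ C.subtype_injective).toEquiv] at this
      exact this
    have hmul := M.card_mul_index
    rw [hcC, hk4, show M.index = Nat.card (Sylow 5 ↥C) from P'.card_eq_index_normalizer.symm] at hmul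
    have hmod := card_sylow_modEq_one 5 ↥C
    rw [Nat.ModEq] at hmod
    obtain ⟨j, hj⟩ := hM15
    have : j ≤ 2 := by
      have := Nat.le_of_dvd (by norm_num) hMdiv
      omega
    generalize Nat.card (Sylow 5 ↥C) = n at hmul hmod
    rw [hj] at hmul
    interval_cases j <;> omega
  obtain ⟨Ru, hRu⟩ := exists_sylow_of_orderOf hP3 hu
  have := hall3 Ru
  rw [hRu, centralizer_zpowers] at this
  rw [this, ← hall3 R, ← hCdef, hcc]

theorem nonempty_coord (h : Nat.card G = 4080) : Nonempty (Coord J4080 15 G) := by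
  classical
  have : Fact (Nat.Prime 3) := ⟨Nat.prime_three⟩
  have : Fact (Nat.Prime 5) := ⟨by norm_num⟩
  have : Fact (Nat.Prime 17) := ⟨by norm_num⟩
  have hG := not_comm h
  obtain ⟨h17, h120, -⟩ := seventeen h
  obtain ⟨h136, h5, h3⟩ := five_three h
  have hseventeen : ∀ g : G, 17 ∣ orderOf g → orderOf g = 17 := fun g hg =>
    orderOf_eq_of_dvd (fun P => (h17 P).1) (fun P => (h17 P).2) hg
  have hfive : ∀ g : G, 5 ∣ orderOf g → orderOf g ∣ 15 := by
    intro g hg
    obtain ⟨P, hP⟩ := exists_sylow_of_orderOf (fun P => (h5 P).1)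
      (orderOf_pow_orderOf_div (orderOf_pos g).ne' hg)
    have hgC : g ∈ Subgroup.centralizer ((P : Subgroup G) : Set G) := by
      rw [hP, centralizer_zpowers, Subgroup.mem_centralizer_singleton_iff]
      exact (Commute.self_pow g _).eq
    exact (h5 P).2.2 ▸ Subgroup.orderOf_dvd_natCard _ hgC
  have hthree : ∀ g : G, 3 ∣ orderOf g → orderOf g ∣ 15 := by
    intro g hg
    have hgC : g ∈ Subgroup.centralizer ({g ^ (orderOf g / 3)} : Set G) := by
      rw [Subgroup.mem_centralizer_singleton_iff]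
      exact (Commute.self_pow g _).eq
    have := Subgroup.orderOf_dvd_natCard _ hgC
    rwa [h3 _ (orderOf_pow_orderOf_div (orderOf_pos g).ne' hg)] at this
  have hA17 : 1920 ≤ Nat.card {g : G // 17 ∣ orderOf g} := by
    have := SimpleTITwo.le_card_dvd_orderOf (p := 17) (k := 1) (fun P => (h17 P).1)
      (fun P => (h17 P).2) (by norm_num)
    omega
  have hA15 : 1904 ≤ Nat.card {g : G // 3 ∣ orderOf g ∨ 5 ∣ orderOf g} := by
    let S := Σ P : Sylow 5 G,
      {y : ↥(Subgroup.centralizer ((P : Subgroup G) : Set G)) // y ≠ 1}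
    have hord : ∀ s : S, 3 ∣ orderOf (s.2.1 : G) ∨ 5 ∣ orderOf (s.2.1 : G) := by
      intro s
      have hd : orderOf (s.2.1 : G) ∣ 15 := (h5 s.1).2.2 ▸ Subgroup.orderOf_dvd_natCard _ s.2.1.2
      have h1 : orderOf (s.2.1 : G) ≠ 1 := fun e => s.2.2 (Subtype.ext (orderOf_eq_one_iff.1 e))
      have := Nat.le_of_dvd (by norm_num) hd
      interval_cases hh : orderOf (s.2.1 : G) <;> omega
    let f : S → {g : G // 3 ∣ orderOf g ∨ 5 ∣ orderOf g} := fun s => ⟨s.2.1, hord s⟩
    have hf : Function.Injective f := by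
      rintro ⟨P, y, hy⟩ ⟨Q, z, hz⟩ e
      have e' : (y : G) = z := congrArg Subtype.val e
      have key : ∀ (P : Sylow 5 G) (w : G),
          w ∈ Subgroup.centralizer ((P : Subgroup G) : Set G) → orderOf w = 5 →
            (P : Subgroup G) = Subgroup.zpowers w := by
        intro P w hw hw5
        have hp : IsPGroup 5 ↥(Subgroup.zpowers w) :=
          IsPGroup.of_card (n := 1) (by rw [Nat.card_zpowers, hw5, pow_one])
        have hle : Subgroup.zpowers w ≤ (P : Subgroup G) := fun a ha =>
          ((hp.inf_normalizer_sylow P).le ⟨ha, Subgroup.centralizer_le_normalizer _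
            (Subgroup.zpowers_le.2 hw ha)⟩).2
        exact (Subgroup.eq_of_le_of_card_ge hle (by rw [(h5 P).1, Nat.card_zpowers, hw5])).symm
      have hPQ : P = Q := by
        refine Sylow.ext ?_
        by_cases hy5 : 5 ∣ orderOf (y : G)
        · have hw := orderOf_pow_orderOf_div (orderOf_pos (y : G)).ne' hy5
          rw [key P _ (pow_mem y.2 _) hw, key Q _ (pow_mem (by rw [e']; exact z.2) _) hw]
        · have hy3 : orderOf (y : G) = 3 := by
            have hd : orderOf (y : G) ∣ 15 := (h5 P).2.2 ▸ Subgroup.orderOf_dvd_natCard _ y.2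
            have h1 : orderOf (y : G) ≠ 1 := fun e => hy (Subtype.ext (orderOf_eq_one_iff.1 e))
            have := Nat.le_of_dvd (by norm_num) hd
            interval_cases hh : orderOf (y : G) <;> omega
          have hCP : Subgroup.centralizer ((P : Subgroup G) : Set G) =
              Subgroup.centralizer ({(y : G)} : Set G) := by
            refine Subgroup.eq_of_le_of_card_ge (fun a ha => ?_) (by rw [h3 _ hy3, (h5 P).2.2])
            rw [Subgroup.mem_centralizer_singleton_iff]
            exact (commute_centralizer_five (h5 P).1 (h5 P).2.2 ha y.2).eq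
          obtain ⟨⟨w, hwQ⟩, hw⟩ := exists_prime_orderOf_dvd_card' 5
            (show 5 ∣ Nat.card ↥(Q : Subgroup G) by rw [(h5 Q).1])
          rw [Subgroup.orderOf_mk] at hw
          have hwQ' : w ∈ Subgroup.centralizer ((Q : Subgroup G) : Set G) := fun a ha => by
            have := isCyclic_of_prime_card (α := ↥(Q : Subgroup G)) (h5 Q).1
            exact congrArg Subtype.val
              ((IsCyclic.commGroup (α := ↥(Q : Subgroup G))).mul_comm ⟨a, ha⟩ ⟨w, hwQ⟩)
          have hwP : w ∈ Subgroup.centralizer ((P : Subgroup G) : Set G) := by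
            rw [hCP, Subgroup.mem_centralizer_singleton_iff, e']
            exact (Subgroup.mem_centralizer_iff.1 z.2 w hwQ)
          rw [key P w hwP hw, key Q w hwQ' hw]
      subst hPQ
      exact Sigma.ext rfl (heq_of_eq (Subtype.ext (Subtype.ext e')))
    refine le_trans (le_of_eq ?_) (Nat.card_le_card_of_injective f hf)
    have := Fintype.ofFinite (Sylow 5 G)
    rw [Nat.card_sigma, Finset.sum_congr rfl fun P _ => (?_ : _ = 14), Finset.sum_const,
      Finset.card_univ, smul_eq_mul, ← Nat.card_eq_fintype_card, h136]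
    have := Fintype.ofFinite ↥(Subgroup.centralizer ((P : Subgroup G) : Set G))
    rw [Nat.card_eq_fintype_card, Fintype.card_subtype_compl, Fintype.card_subtype_eq,
      ← Nat.card_eq_fintype_card, (h5 P).2.2]
  have hB : Nat.card {g : G // g ≠ 1 ∧ orderOf g ∣ 2 ^ 4} ≤ 255 := by
    have := SimpleTITwo.card_three_le (fun g : G => 17 ∣ orderOf g)
      (fun g => 3 ∣ orderOf g ∨ 5 ∣ orderOf g)
      (fun g => g ≠ 1 ∧ orderOf g ∣ 2 ^ 4) (by simp) (by simp) (by simp)
      (fun g a b => by rw [hseventeen g a] at b; norm_num at b)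
      (fun g a b => by have := Nat.dvd_trans a b.2; norm_num at this)
      (fun g a b => by
        rcases a with a | a <;> have := Nat.dvd_trans a b.2 <;> norm_num at this)
    rw [h] at this
    omega
  have hinv : ∀ t : G, orderOf t = 2 → ∀ p : ℕ, p.Prime →
      p ∣ Nat.card ↥(Subgroup.centralizer ({t} : Set G)) → p = 2 := by
    intro t ht p hp hd
    have hp' : p ∣ 4080 := h ▸ hd.trans (Subgroup.card_subgroup_dvd_card _)
    have hple : p = 2 ∨ p = 3 ∨ p = 5 ∨ p = 17 := by
      rw [show 4080 = 2 ^ 4 * (3 * (5 * 17)) by norm_num] at hp'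
      rcases hp.dvd_mul.1 hp' with e | e
      · exact Or.inl ((Nat.prime_dvd_prime_iff_eq hp Nat.prime_two).1 (hp.dvd_of_dvd_pow e))
      rcases hp.dvd_mul.1 e with e | e
      · exact Or.inr (Or.inl ((Nat.prime_dvd_prime_iff_eq hp Nat.prime_three).1 e))
      rcases hp.dvd_mul.1 e with e | e
      · exact Or.inr (Or.inr (Or.inl ((Nat.prime_dvd_prime_iff_eq hp (by norm_num)).1 e)))
      · exact Or.inr (Or.inr (Or.inr ((Nat.prime_dvd_prime_iff_eq hp (by norm_num)).1 e)))
    by_contra hne
    have : Fact p.Prime := ⟨hp⟩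
    obtain ⟨⟨u, huC⟩, hu⟩ := exists_prime_orderOf_dvd_card' p hd
    rw [Subgroup.orderOf_mk] at hu
    rw [Subgroup.mem_centralizer_singleton_iff] at huC
    have hcomm : Commute t u := huC.symm
    have hprod : orderOf (t * u) = 2 * p := by
      rw [hcomm.orderOf_mul_eq_mul_orderOf_of_coprime (by
        rw [ht, hu]; exact (Nat.coprime_primes Nat.prime_two hp).2 (Ne.symm hne)), ht, hu]
    rcases hple with rfl | rfl | rfl | rfl
    · exact hne rfl
    · have := hthree (t * u) (by rw [hprod]; norm_num)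
      rw [hprod] at this
      norm_num at this
    · have := hfive (t * u) (by rw [hprod]; norm_num)
      rw [hprod] at this
      norm_num at this
    · have := hseventeen (t * u) (by rw [hprod]; norm_num)
      omega
  have hn : Nat.card G = 2 ^ 4 * 255 := by norm_num [h]
  have hti := SimpleTITwo.ti hn (by norm_num) (by norm_num) hB hinv
  obtain ⟨T⟩ : Nonempty (Sylow 2 G) := inferInstance
  have hn2 : Nat.card (Sylow 2 G) = 17 := by have := (hti T).2.2; omega
  have hT : ∀ S : Sylow 2 G, Nat.card ↥(S : Subgroup G) = 16 := fun S =>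
    (sylow_card_of_eq hn (by norm_num) S).trans (by norm_num)
  have hinf := SimpleTITwo.inf_eq_bot (fun S => (hti S).1) T
  have hNT : Nat.card ↥(Subgroup.normalizer ((T : Subgroup G) : Set G)) = 16 * (16 - 1) := by
    have := (congrArg (Nat.card ↥(Subgroup.normalizer ((T : Subgroup G) : Set G)) * ·)
      T.card_eq_index_normalizer).trans ((Subgroup.card_mul_index _).trans h)
    simp only [hn2] at this
    omega
  obtain ⟨Q₀, D, hQ₀, hD, hDN, hDQ, hfpf⟩ :=
    SimpleTITwo.exists_stab T (hT T) (hti T).1 hinf hn2 hNT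
  -- `D` is cyclic
  obtain ⟨⟨a, haD⟩, ha⟩ : ∃ a : ↥D, orderOf a = 3 :=
    exists_prime_orderOf_dvd_card' 3 (by rw [hD]; norm_num)
  obtain ⟨⟨b, hbD⟩, hb⟩ : ∃ b : ↥D, orderOf b = 5 :=
    exists_prime_orderOf_dvd_card' 5 (by rw [hD]; norm_num)
  rw [Subgroup.orderOf_mk] at ha hb
  obtain ⟨P, hP⟩ := exists_sylow_of_orderOf (fun P => (h5 P).1) hb
  have hPD : (P : Subgroup G) ≤ D := by rw [hP]; exact Subgroup.zpowers_le.2 hbD
  set P' : Sylow 5 ↥D := Sylow.subtype P hPD with hP'
  have hone : Nat.card (Sylow 5 ↥D) = 1 := by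
    have h1 := P'.card_dvd_index
    have h2 := (P' : Subgroup ↥D).card_mul_index
    rw [hP', Sylow.coe_subtype, Nat.card_congr (Subgroup.subgroupOfEquivOfLe hPD).toEquiv,
      (h5 P).1, hD] at h2
    have hmod := card_sylow_modEq_one 5 ↥D
    rw [Nat.ModEq] at hmod
    rw [hP', Sylow.coe_subtype] at h1
    rw [show ((P : Subgroup G).subgroupOf D).index = 3 by omega] at h1
    have := Nat.le_of_dvd (by norm_num) h1
    omega
  have haN : a ∈ Subgroup.normalizer ((P : Subgroup G) : Set G) := by
    have hnor : Subgroup.normalizer ((P' : Subgroup ↥D) : Set ↥D) = ⊤ :=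
      Subgroup.index_eq_one.1 (P'.card_eq_index_normalizer.symm.trans hone)
    rw [Subgroup.mem_normalizer_iff]
    intro z
    constructor
    · intro hz
      have := (Subgroup.mem_normalizer_iff.1
        (hnor ▸ Subgroup.mem_top (⟨a, haD⟩ : ↥D)) ⟨z, hPD hz⟩).1
        (by rw [hP', Sylow.coe_subtype, Subgroup.mem_subgroupOf]; exact hz)
      rw [hP', Sylow.coe_subtype, Subgroup.mem_subgroupOf] at this
      exact this
    · intro hz
      have hzD : z ∈ D := by
        have := mul_mem (mul_mem (inv_mem haD) (hPD hz)) haD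
        simpa [mul_assoc] using this
      have := (Subgroup.mem_normalizer_iff.1
        (hnor ▸ Subgroup.mem_top (⟨a, haD⟩ : ↥D)) ⟨z, hzD⟩).2
        (by rw [hP', Sylow.coe_subtype, Subgroup.mem_subgroupOf]; exact hz)
      rw [hP', Sylow.coe_subtype, Subgroup.mem_subgroupOf] at this
      exact this
  have haC : a ∈ Subgroup.centralizer ((P : Subgroup G) : Set G) := by
    set C := Subgroup.centralizer ((P : Subgroup G) : Set G)
    set N := Subgroup.normalizer ((P : Subgroup G) : Set G)
    have hCN : C ≤ N := Subgroup.centralizer_le_normalizer _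
    have hnor : (C.subgroupOf N).Normal := by
      rw [← Subgroup.normalizerMonoidHom_ker]; infer_instance
    have hidx : (C.subgroupOf N).index = 2 := by
      have hh := (C.subgroupOf N).card_mul_index
      rw [Nat.card_congr (Subgroup.subgroupOfEquivOfLe hCN).toEquiv, (h5 P).2.2, (h5 P).2.1] at hh
      omega
    have h2 : a ^ 2 ∈ C := by
      have := (C.subgroupOf N).pow_index_mem (⟨a, haN⟩ : ↥N)
      rwa [hidx] at this
    have h4 : a ^ 4 = a := by
      rw [pow_succ, show a ^ 3 = 1 by rw [← ha]; exact pow_orderOf_eq_one a, one_mul]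
    rw [← h4, show (4 : ℕ) = 2 * 2 from rfl, pow_mul]
    exact pow_mem h2 2
  have hab : Commute a b :=
    (Subgroup.mem_centralizer_iff.1 haC b (hP ▸ Subgroup.mem_zpowers b)).symm
  have hd : orderOf (a * b) = 15 := by
    rw [hab.orderOf_mul_eq_mul_orderOf_of_coprime (by rw [ha, hb]; norm_num), ha, hb]
  have hdD : a * b ∈ D := mul_mem haD hbD
  have hsq := (hti T).2.1
  obtain ⟨x, d', hd', hx, hxi, hxT, hxd⟩ := SimpleTwoCoord.exists_x_sixteen hsq
    (fun a ha b hb => SimpleTITwo.mul_comm_of_sq _ hsq ha hb) (hT T) (d := a * b)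
    (fun y hy => (Subgroup.mem_normalizer_iff.1 (hDN hdD) y).1 hy)
    (fun y hy => by
      have := (Subgroup.mem_normalizer_iff.1 (inv_mem (hDN hdD)) y).1 hy
      rwa [inv_inv] at this)
    (fun i hi hi' v hv hv1 => hfpf _ (pow_mem hdD i)
      (fun e => by
        have h9 : orderOf (a * b) ∣ i := orderOf_dvd_of_pow_eq_one e
        rw [hd] at h9
        have := Nat.le_of_dvd hi h9
        omega) v hv hv1)
  have hd'D : d' ∈ D := (Subgroup.zpowers_le.2 hdD) hd'
  have hd2 : 2 ∣ Nat.card G := by rw [h]; norm_num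
  have hV : Fintype.card V4080 = 16 := rfl
  exact SimpleZassenhaus.exists_coord (p := 2) hG (by norm_num) data4080.hJm (r := (1, 0, 0, 0))
    data4080.hfree hd2 (by rw [hn2, hV]) T Q₀ hQ₀ hinf (by rw [hNT, hV]) x hx hxi hxT d'
    (hDN hd'D) (hDQ d' hd'D) hxd

theorem nonempty_equiv_model (h : Nat.card G = 4080) :
    Nonempty (G ≃* model J4080 w4080) := by
  obtain ⟨C⟩ := nonempty_coord h
  exact exists_equiv_model data4080 C

end Cfsg.Agent.Simple4080
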