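import Mathlib
import Cfsg.Prelude.Def_DegreeGraph
import Cfsg.Agent.Lib.DegGraphSmall360_81
import Cfsg.Agent.Lib.DegGraphSmallNonsolv81
import Cfsg.Agent.Lib.SimplePSLApply
import Cfsg.Agent.Lib.Simple504
import Cfsg.Agent.Lib.PSLSimple
import Cfsg.Agent.Lib.PSLCard
import Cfsg.Agent.Lib.A7Table29
import Cfsg.Agent.Lib.Order5616Degrees81
import Cfsg.Agent.S0981
import Cfsg.Agent.S4774
import Cfsg.Agent.S4812

/-!
Degree graphs of the simple groups below `6000`, and exclusion of vertices.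
-/

set_option autoImplicit false
set_option linter.style.haveILetI false
set_option linter.unusedSectionVars false

namespace Cfsg.Agent.DegGraphSmall81

open Cfsg Cfsg.Agent.SimpleOrder

universe u

/-- A normal abelian subgroup of index prime to `r` excludes the vertex `r`. -/
theorem no_vertex {G : Type u} [Group G] [Finite G] (A : Subgroup G) [A.Normal]
    (hab : ∀ x ∈ A, ∀ y ∈ A, x * y = y * x) {r : ℕ} (hr : ¬ r ∣ A.index) : r ∉ degreePrimes G := by
  rintro ⟨-, _, ⟨χ, rfl⟩, hdvd⟩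
  obtain ⟨n, -, hn, hd⟩ := DegreeDvd.degree_dvd_index_abelian χ.2 A
    fun a b => Subtype.ext (hab a a.2 b b.2)
  rw [CharAverage.irr_apply_one χ, Nat.cast_inj] at hn
  exact hr ((hn ▸ hdvd).trans hd)

theorem no_vertex_normal {G : Type u} [Group G] [Finite G] {n p : ℕ} [Fact p.Prime]
    (hn : Nat.card G = n) (hp : p ∣ n) (hp2 : ¬ p ^ 2 ∣ n) (P : Sylow p G)
    (hP : (P : Subgroup G).Normal) : p ∉ degreePrimes G := by
  have hPc := sylow_card_prime hp2 (hn ▸ dvd_rfl) (hn ▸ hp) P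
  haveI := hP
  haveI : IsCyclic (P : Subgroup G) := isCyclic_of_prime_card hPc
  refine no_vertex (P : Subgroup G) (fun x hx y hy => ?_) P.not_dvd_index
  exact congrArg Subtype.val (mul_comm' (⟨x, hx⟩ : (P : Subgroup G)) ⟨y, hy⟩)

theorem solvable_no_vertex {G : Type u} [Group G] [Finite G] [Group.IsSolvable G] {n p v r : ℕ}
    (hn : Nat.card G = n) (hp : p.Prime) (hpn : p ∣ n) (hp2 : ¬ p ^ 2 ∣ n)
    (hv : ∀ j ∈ List.range (n / p + 1), n % (p * j + 1) = 0 → p * j + 1 = 1 ∨ p * j + 1 = v ∨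
      ∃ a ∈ [2, 3, 5, 7, 13, 17], ∃ b ∈ [2, 3, 5, 7, 13, 17], a ≠ b ∧ (p * j + 1) % (a * b) = 0)
    (hvp : v = 0 ∨ ∃ r a, r.Prime ∧ 0 < a ∧ v = r ^ a ∧ ¬ r * v ∣ n) (hr : v = 0 ∨ ¬ r ∣ n / v) :
    p ∉ degreePrimes G ∨ (v ≠ 0 ∧ r ∉ degreePrimes G) := by
  haveI := Fact.mk hp
  obtain ⟨P⟩ : Nonempty (Sylow p G) := inferInstance
  have hv' : ∀ q i, q.Prime → q ^ i ∣ n → q ^ i % p = 1 → q ^ i = 1 ∨ q ^ i = v := by
    intro q i hq hd h1
    have hle : q ^ i ≤ n := Nat.le_of_dvd (hn ▸ Nat.card_pos) hd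
    have hdm := Nat.div_add_mod (q ^ i) p
    rw [h1] at hdm
    rcases hv (q ^ i / p) (List.mem_range.2 (Nat.lt_succ_of_le (Nat.div_le_div_right hle)))
      (by rw [hdm]; exact Nat.mod_eq_zero_of_dvd hd) with h | h | ⟨a, ha, b, hb, hab, h⟩
    · exact Or.inl (hdm ▸ h)
    · exact Or.inr (hdm ▸ h)
    · rw [hdm] at h
      have hprime : ∀ x ∈ [2, 3, 5, 7, 13, 17], Nat.Prime x := by
        simp only [List.forall_mem_cons, List.not_mem_nil, IsEmpty.forall_iff, implies_true, and_true]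
        norm_num
      exact absurd (Nat.dvd_of_mod_eq_zero h) (not_two_primes hq (hprime a ha) (hprime b hb) hab)
  rcases normal_or_chief hp2 hv' hvp _ G rfl (hn ▸ dvd_rfl) inferInstance (hn ▸ hpn) P with
    h | ⟨M, hM, hab, hMc, -⟩
  · exact Or.inl (no_vertex_normal hn hpn hp2 P h)
  rcases hr with hv0 | hr
  · exact absurd (hMc.trans hv0) Nat.card_pos.ne'
  have hv0 : v ≠ 0 := hMc ▸ Nat.card_pos.ne'
  refine Or.inr ⟨hv0, ?_⟩
  haveI := hM
  refine no_vertex M hab ?_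
  have h := M.card_mul_index
  rw [hMc, hn] at h
  rwa [← h, Nat.mul_div_cancel_left _ (Nat.pos_of_ne_zero hv0)] at hr

/-- A nonsolvable group is simple when no smaller simple order divides its order. -/
theorem simple_of_card {H : Type u} [Group H] [Finite H] {n : ℕ} (hn : Nat.card H = n) (hlt : n < 6000)
    (h : ∀ t ∈ simpleOrders, n % t = 0 → t = n) (hns : ¬ Group.IsSolvable H) : IsSimpleGroup H := by
  obtain ⟨t, ht, htd, -, hs⟩ := exists_simple_dvd _ H hn hlt hns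
  exact hs (h t ht (Nat.mod_eq_zero_of_dvd htd))

theorem eq_168_key : ∀ t ∈ simpleOrders, ∀ j ≤ 8, t * j < 504 → 504 % (t * j) = 0 → t * j = 168 := by
  decide +kernel

theorem eq_168 {k : ℕ} (hk : k ∣ 504) (hlt : k < 504) (h : ∃ t ∈ simpleOrders, t ∣ k) : k = 168 := by
  obtain ⟨t, ht, j, rfl⟩ := h
  have h60 : 60 ≤ t := by
    simp only [simpleOrders, List.mem_cons, List.not_mem_nil, or_false] at ht; omega
  refine eq_168_key t ht j ?_ hlt (Nat.mod_eq_zero_of_dvd hk)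
  nlinarith

section Simple

variable {S : Type u} [Group S] [Finite S]

theorem psl_odd (F : Type) [Field F] [Fintype F] (t : ℕ) [Fact t.Prime] [CharP F t] (ht : t ≠ 2)
    (q : ℕ) (hq : Fintype.card F = q) (h5 : 5 < q)
    (e : S ≃* Matrix.ProjectiveSpecialLinearGroup (Fin 2) F) :
    (∀ r, r.Prime → r ∣ q * (q ^ 2 - 1) → r ∈ degreePrimes S) ∧
      ∀ r s, (degreeGraph S).Adj r s ↔ (r ≠ s ∧ r.Prime ∧ s.Prime ∧ r ∣ q ^ 2 - 1 ∧ s ∣ q ^ 2 - 1 ∧
        (r = 2 ∨ s = 2 ∨ (r ∣ q + 1 ∧ s ∣ q + 1) ∨ (r ∣ q - 1 ∧ s ∣ q - 1))) := by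
  obtain ⟨h1, h2⟩ := Cfsg.Agent.S4774.result F t ht q hq h5 (Or.inl ⟨e⟩)
  exact ⟨fun r hr hd => by rw [h1]; exact ⟨hr, hd⟩, h2⟩

variable [IsSimpleGroup S]

theorem facts_60 (h : Nat.card S = 60) : 5 ∈ degreePrimes S := by
  obtain ⟨e⟩ := Cfsg.Agent.S0494.result h
  obtain ⟨hp, d, hd, h5⟩ := S3669.five_mem
  exact ⟨hp, d, SL2DegreeSets.charDegrees_congr e ▸ hd, h5⟩

theorem facts_168 (h : Nat.card S = 168) :
    7 ∈ degreePrimes S ∧ 2 ∈ degreePrimes S ∧ ∃ d ∈ charDegrees S, 6 ∣ d := by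
  haveI : Fact (Nat.Prime 7) := ⟨by norm_num⟩
  obtain ⟨e⟩ := SimplePSLApply.iso_seven h (F := ZMod 7) (by rw [Nat.card_eq_fintype_card, ZMod.card])
  obtain ⟨h1, -⟩ := psl_odd (ZMod 7) 7 (by norm_num) 7 (ZMod.card 7) (by norm_num) e
  refine ⟨h1 7 (by norm_num) (by norm_num), h1 2 (by norm_num) (by norm_num), 6, ?_, dvd_rfl⟩
  rw [SL2DegreeSets.charDegrees_congr e]
  have := (SL2DegreeSets.odd_degrees_psl (F := ZMod 7) (by rw [ZMod.card]; decide)
    (by rw [ZMod.card]; norm_num)).2 (Fintype.card (ZMod 7) - 1) (by simp)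
  rwa [ZMod.card] at this

theorem facts_360 (h : Nat.card S = 360) :
    5 ∈ degreePrimes S ∧ (degreeGraph S).Adj 2 5 ∧ ¬ (degreeGraph S).Adj 2 3 := by
  haveI : Fact (Nat.Prime 3) := ⟨Nat.prime_three⟩
  letI : Fintype (GaloisField 3 2) := Fintype.ofFinite _
  have hF : Nat.card (GaloisField 3 2) = 9 := by rw [GaloisField.card 3 2 (by norm_num)]; norm_num
  have hF' : Fintype.card (GaloisField 3 2) = 9 := by rw [← Nat.card_eq_fintype_card, hF]
  haveI := Cfsg.Agent.PSLSimple.isSimpleGroup_PSL_fin' (F := GaloisField 3 2) (n := 2) le_rfl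
    (fun _ => by omega)
  have hc : Nat.card (Matrix.ProjectiveSpecialLinearGroup (Fin 2) (GaloisField 3 2)) = 360 := by
    rw [Cfsg.Agent.PSLCard.card_PSL2_odd (by rw [hF]; decide), hF]
    norm_num
  obtain ⟨a⟩ := Cfsg.Agent.S0497.result h
  obtain ⟨b⟩ := Cfsg.Agent.S0497.result hc
  obtain ⟨h1, h2⟩ := psl_odd (GaloisField 3 2) 3 (by norm_num) 9 hF' (by norm_num) (a.trans b.symm)
  refine ⟨h1 5 (by norm_num) (by norm_num),
    (h2 2 5).2 ⟨by norm_num, by norm_num, by norm_num, by norm_num, by norm_num, Or.inl rfl⟩, fun h => ?_⟩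
  have := ((h2 2 3).1 h).2.2.2.2.1
  norm_num at this

theorem facts_504 (h : Nat.card S = 504) :
    7 ∈ degreePrimes S ∧ 2 ∈ degreePrimes S ∧ ¬ (degreeGraph S).Adj 2 3 := by
  haveI : Fact (Nat.Prime 2) := ⟨Nat.prime_two⟩
  letI : Fintype (GaloisField 2 3) := Fintype.ofFinite _
  have hF : Nat.card (GaloisField 2 3) = 8 := by rw [GaloisField.card 2 3 (by norm_num)]; norm_num
  have hF' : Fintype.card (GaloisField 2 3) = 8 := by rw [← Nat.card_eq_fintype_card, hF]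
  haveI := Cfsg.Agent.PSLSimple.isSimpleGroup_PSL_fin' (F := GaloisField 2 3) (n := 2) le_rfl
    (fun _ => by omega)
  have hc : Nat.card (Matrix.ProjectiveSpecialLinearGroup (Fin 2) (GaloisField 2 3)) = 504 := by
    rw [Cfsg.Agent.PSLCard.card_PSL2_even (by rw [hF]; decide), hF]
    norm_num
  obtain ⟨a⟩ := Simple504.nonempty_equiv_model h
  obtain ⟨b⟩ := Simple504.nonempty_equiv_model hc
  obtain ⟨h1, h2⟩ := Cfsg.Agent.S4812.result (GaloisField 2 3) 8 hF' (by norm_num) (Or.inl ⟨a.trans b.symm⟩)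
  refine ⟨by rw [h1]; norm_num, by rw [h1]; norm_num, fun h => ?_⟩
  rcases ((h2 2 3).1 h).2.2.2 with ⟨h, -⟩ | ⟨h, -⟩ <;> norm_num at h

theorem facts_psl (q : ℕ) [Fact q.Prime] (h5 : 5 < q)
    (hiso : Nonempty (S ≃* Matrix.ProjectiveSpecialLinearGroup (Fin 2) (ZMod q))) :
    q ∈ degreePrimes S := by
  obtain ⟨e⟩ := hiso
  exact (psl_odd (ZMod q) q (by omega) q (ZMod.card q) h5 e).1 q Fact.out (dvd_mul_right _ _)

theorem facts_4080 (h : Nat.card S = 4080) : 17 ∈ degreePrimes S := by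
  haveI : Fact (Nat.Prime 2) := ⟨Nat.prime_two⟩
  letI : Fintype (GaloisField 2 4) := Fintype.ofFinite _
  have hF' : Fintype.card (GaloisField 2 4) = 16 := by
    rw [← Nat.card_eq_fintype_card, GaloisField.card 2 4 (by norm_num)]; norm_num
  obtain ⟨h1, -⟩ := Cfsg.Agent.S4812.result (GaloisField 2 4) 16 hF' (by norm_num)
    (Or.inl (Cfsg.Agent.S0981.result h hF'))
  rw [h1]
  norm_num

theorem facts_2520 (h : Nat.card S = 2520) : 5 ∈ degreePrimes S ∧ 7 ∈ degreePrimes S := by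
  haveI := Fintype.ofFinite S
  obtain ⟨T⟩ := A7Table29.exists_table h
  exact ⟨⟨by norm_num, _, ⟨T.c35, rfl⟩, by
      rw [show charDegree (T.c35 : S → ℂ) = 35 from T.deg35]; norm_num⟩,
    ⟨by norm_num, _, ⟨T.c35, rfl⟩, by
      rw [show charDegree (T.c35 : S → ℂ) = 35 from T.deg35]; norm_num⟩⟩

theorem facts_5616 (h : Nat.card S = 5616) : 13 ∈ degreePrimes S ∧ 3 ∈ degreePrimes S := by
  haveI := Fintype.ofFinite S
  obtain ⟨-, -, ⟨⟨η, hη⟩, ⟨μ, hμ⟩⟩, -⟩ := Order5616.characters_full (G := S)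
    (not_comm_of_not_prime (by rw [h]; norm_num)) h
  exact ⟨⟨by norm_num, _, ⟨μ, rfl⟩, hμ⟩, ⟨by norm_num, _, ⟨η, rfl⟩, by
    rw [show charDegree (η : S → ℂ) = 12 from hη]; norm_num⟩⟩

end Simple

/-- A nonsolvable, nonsimple group of order `504` has a degree divisible by `6`. -/
theorem order_504 {G : Type u} [Group G] [Finite G] (hG : Nat.card G = 504) (hns : ¬ Group.IsSolvable G)
    (hs : ¬ IsSimpleGroup G) : ∃ d ∈ charDegrees G, 6 ∣ d := by
  haveI := Fintype.ofFinite G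
  haveI : Nontrivial G := by rw [← Finite.one_lt_card_iff_nontrivial, hG]; norm_num
  obtain ⟨N, hN, hN1, hmin⟩ := exists_minimal_normal G
  have hmul := card_quotient_mul N
  rw [hG] at hmul
  have hNlt : Nat.card N < 504 := by
    refine hG ▸ lt_of_le_of_ne (Nat.le_of_dvd Nat.card_pos (Subgroup.card_subgroup_dvd_card N)) fun h => hs ?_
    have hNtop := Subgroup.eq_top_of_card_eq N h
    exact ⟨fun K hK => or_iff_not_imp_left.2 fun hK1 => by
      rw [← hNtop]; exact hmin K hK (hNtop ▸ le_top) hK1⟩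
  have hN1' : 1 < Nat.card N := (Subgroup.one_lt_card_iff_ne_bot _).2 hN1
  have hqlt : Nat.card (G ⧸ N) < 504 := by
    rw [← hmul]
    exact Nat.lt_mul_iff_one_lt_left Nat.card_pos |>.2 hN1'
  have key : ∀ t ∈ simpleOrders, 168 % t = 0 → t = 168 := by decide +kernel
  by_cases hsol : Group.IsSolvable N
  · have hns' : ¬ Group.IsSolvable (G ⧸ N) := fun h => hns (solvable_of_normal N hsol h)
    have h168 := eq_168 (Dvd.intro_left _ hmul) hqlt (nonsolvable_dvd (hqlt.trans (by norm_num)) hns')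
    haveI := simple_of_card h168 (by norm_num) key hns'
    obtain ⟨-, -, d, hd, h6⟩ := facts_168 (S := G ⧸ N) h168
    exact ⟨d, charDegrees_subset_of_surjective _ (QuotientGroup.mk'_surjective N) hd, h6⟩
  · haveI := Fintype.ofFinite N
    have h168 := eq_168 (Dvd.intro _ hmul) hNlt (nonsolvable_dvd (hNlt.trans (by norm_num)) hsol)
    haveI := simple_of_card h168 (by norm_num) key hsol
    obtain ⟨-, -, d, ⟨θ, rfl⟩, h6⟩ := facts_168 (S := N) h168
    obtain ⟨χ, e, he, hdvd⟩ := CharItoMichler.constituent_dvd N θ.2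
    refine ⟨_, ⟨χ, rfl⟩, h6.trans ?_⟩
    rw [CharItoMichler.charDegree_eq he]
    exact (dvd_mul_left _ _).trans hdvd

end Cfsg.Agent.DegGraphSmall81
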