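import Mathlib
import Cfsg.Prelude.Def_Characters
import Cfsg.Agent.Lib.DegGraphU33Geo
import Cfsg.Agent.Lib.CharInducedBasic
import Cfsg.Agent.Lib.CharInducedRep
import Cfsg.Agent.Lib.CharBasicDecomp
import Cfsg.Agent.Lib.CharBasicInt
import Cfsg.Agent.Lib.CharBasicLinear

/-!
The principal series of `SU(3,3)`: degrees 1, 27, 28 and 7 + 21; all other irreducible characters
have even degree.
-/

set_option autoImplicit false
set_option linter.unusedSectionVars false

noncomputable section

open scoped ComplexConjugate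

namespace Cfsg.Agent.DegGraphU33

open Cfsg.Agent
open Cfsg.Agent.OrthUnitaryTransvection
open Cfsg.Agent.OrthUnitaryHerm

universe u

/-- A sum of an invariant function along a fixed-point-free permutation of 2-power order is
twice an algebraic integer. -/
theorem exists_half_sum (n : ℕ) : ∀ (α : Type u) [Fintype α] (σ : Equiv.Perm α),
    σ ^ (2 ^ n) = 1 → (∀ a, σ a ≠ a) → ∀ f : α → ℂ, (∀ a, f (σ a) = f a) →
    (∀ a, IsIntegral ℤ (f a)) → ∃ z : ℂ, IsIntegral ℤ z ∧ ∑ a, f a = 2 * z := by
  induction n with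
  | zero =>
    intro α _ σ hσ hfix f _ _
    haveI : IsEmpty α := ⟨fun a => hfix a (by rw [show σ = 1 by simpa using hσ]; rfl)⟩
    exact ⟨0, isIntegral_zero, by simp⟩
  | succ n ih =>
    intro α _ σ hσ hfix f hf hint
    classical
    obtain ⟨τ, hτdef⟩ : ∃ τ, τ = σ ^ (2 ^ n) := ⟨_, rfl⟩
    have hτ2 : ∀ a, τ (τ a) = a := fun a => by
      have : τ * τ = 1 := by rw [hτdef, ← pow_add, ← two_mul, ← pow_succ', hσ]
      exact congrArg (fun p : Equiv.Perm α => p a) this
    have hcomm : ∀ a, τ (σ a) = σ (τ a) := fun a => by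
      have : τ * σ = σ * τ := by rw [hτdef, ← pow_succ, ← pow_succ']
      exact congrArg (fun p : Equiv.Perm α => p a) this
    have hpowf : ∀ m a, f ((σ ^ m) a) = f a := by
      intro m
      induction m with
      | zero => intro a; simp
      | succ m ihm => intro a; rw [pow_succ', Equiv.Perm.mul_apply, hf, ihm]
    let e := Fintype.equivFin α
    have hp : ∀ a, τ a = a ↔ τ (σ a) = σ a := fun a => by rw [hcomm, σ.injective.eq_iff]
    obtain ⟨z₁, hz₁, hs₁⟩ := ih {a // τ a = a} (σ.subtypePerm fun a => (hp a).symm)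
      (by
        refine Equiv.ext fun a => Subtype.ext ?_
        rw [Equiv.Perm.subtypePerm_pow]
        simp only [Equiv.Perm.subtypePerm_apply, Equiv.Perm.coe_one, id]
        rw [← hτdef]
        exact a.2)
      (fun a h => hfix a.1 (congrArg Subtype.val h)) (fun a => f a.1) (fun a => hf a.1)
      (fun a => hint a.1)
    have hsplit : ∑ a, f a = ∑ a ∈ Finset.univ.filter (fun a => τ a = a), f a +
        (∑ a ∈ Finset.univ.filter (fun a => e a < e (τ a)), f a +
          ∑ a ∈ Finset.univ.filter (fun a => e (τ a) < e a), f a) := by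
      simp only [Finset.sum_filter, ← Finset.sum_add_distrib]
      refine Finset.sum_congr rfl fun a _ => ?_
      rcases lt_trichotomy (e a) (e (τ a)) with h | h | h
      · rw [if_neg (fun h' => by rw [h'] at h; exact lt_irrefl _ h), if_pos h,
          if_neg (lt_asymm h)]
        simp
      · have h' : τ a = a := (e.injective h).symm
        rw [if_pos h', if_neg (fun x => x.ne h), if_neg (fun x => x.ne h.symm)]
        simp
      · rw [if_neg (fun h' => by rw [h'] at h; exact lt_irrefl _ h), if_neg (lt_asymm h),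
          if_pos h]
        simp
    have hswap : ∑ a ∈ Finset.univ.filter (fun a => e (τ a) < e a), f a =
        ∑ a ∈ Finset.univ.filter (fun a => e a < e (τ a)), f a := by
      refine Finset.sum_nbij' (fun a => τ a) (fun a => τ a) ?_ ?_ (fun a _ => hτ2 a)
        (fun a _ => hτ2 a) (fun a _ => ?_)
      · intro a ha; simpa [hτ2] using ha
      · intro a ha; simpa [hτ2] using ha
      · rw [hτdef, hpowf]
    refine ⟨z₁ + ∑ a ∈ Finset.univ.filter (fun a => e a < e (τ a)), f a,
      hz₁.add (IsIntegral.sum _ fun a _ => hint a), ?_⟩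
    rw [hsplit, hswap, Finset.sum_subtype (p := fun a => τ a = a)
      (Finset.univ.filter fun a => τ a = a) (fun a => by simp) f, hs₁]
    ring

/-- An algebraic integer which is half of an integer is an integer. -/
theorem even_of_half {k : ℤ} {z : ℂ} (hz : IsIntegral ℤ z) (h : (k : ℂ) = 2 * z) : Even k := by
  have h1 : z = algebraMap ℚ ℂ ((k : ℚ) / 2) := by simp [h]
  rw [h1, isIntegral_algebraMap_iff (algebraMap ℚ ℂ).injective,
    IsIntegrallyClosed.isIntegral_iff] at hz
  obtain ⟨y, hy⟩ := hz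
  refine ⟨y, ?_⟩
  have hy' : (y : ℚ) = (k : ℚ) / 2 := by simpa using hy
  have : (k : ℚ) = ((y + y : ℤ) : ℚ) := by push_cast; linarith
  exact_mod_cast this

variable {F : Type*} [Field F] [Fintype F] (R : Frame F)

/-- Decidable equality in the field. -/
local instance decEqField : DecidableEq F := Classical.decEq F

/-- `SU(3,3)` as a finite type. -/
instance fintypeSU33 : Fintype (SU 3 F 3) := Fintype.ofFinite _

instance fintypeLineStab (e : Fin 3 → F) : Fintype (lineStab e) := Fintype.ofFinite _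

theorem card_units9 (R : Frame F) : Nat.card Fˣ = 8 := by
  rw [Nat.card_units, Nat.card_eq_fintype_card, R.card]

theorem exists_lam (R : Frame F) : ∃ lam : Fˣ →* ℂˣ, ∀ j : ℕ, lam ^ j = 1 ↔ 8 ∣ j := by
  classical
  have h8 : Nat.card (rootsOfUnity 8 ℂ) = 8 := by
    exact Complex.card_rootsOfUnity 8
  let e : Fˣ ≃* rootsOfUnity 8 ℂ := mulEquivOfCyclicCardEq (by rw [h8, card_units9 R])
  let lam : Fˣ →* ℂˣ := (rootsOfUnity 8 ℂ).subtype.comp e.toMonoidHom
  refine ⟨lam, fun j => ⟨fun h => ?_, fun ⟨m, hm⟩ => ?_⟩⟩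
  · obtain ⟨g, hg⟩ := IsCyclic.exists_generator (α := Fˣ)
    have hg8 : orderOf g = 8 := (orderOf_eq_card_of_forall_mem_zpowers hg).trans (card_units9 R)
    have h2 : lam (g ^ j) = 1 := by
      rw [map_pow, ← MonoidHom.pow_apply, h, MonoidHom.one_apply]
    have h3 : g ^ j = 1 := by
      refine e.injective (Subtype.ext ?_)
      rw [map_one]
      exact h2
    rw [← hg8]
    exact orderOf_dvd_of_pow_eq_one h3
  · refine MonoidHom.ext fun c => ?_
    rw [MonoidHom.pow_apply, ← map_pow, hm, pow_mul, ← card_units9 R, pow_card_eq_one', one_pow,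
      map_one, MonoidHom.one_apply]

/-- The basic character of `Fˣ`. -/
def lam : Fˣ →* ℂˣ := (exists_lam R).choose

theorem lam_pow_eq_one (j : ℕ) : lam R ^ j = 1 ↔ 8 ∣ j := (exists_lam R).choose_spec j

/-- Its powers, as functions. -/
def chi (i : ℕ) (c : Fˣ) : ℂ := ((lam R c : ℂˣ) : ℂ) ^ i

theorem chi_eq (i : ℕ) (c : Fˣ) : chi R i c = (((lam R ^ i) c : ℂˣ) : ℂ) := by
  simp [chi]

theorem lam_pow8 (c : Fˣ) : ((lam R c : ℂˣ) : ℂ) ^ 8 = 1 := by
  rw [← chi, chi_eq, (lam_pow_eq_one R 8).2 dvd_rfl]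
  simp

theorem sum_chi (j : ℕ) : ∑ c : Fˣ, chi R j c = if 8 ∣ j then 8 else 0 := by
  classical
  simp only [chi_eq]
  have h := sum_hom_units ((Units.coeHom ℂ).comp (lam R ^ j))
  have hiff : (Units.coeHom ℂ).comp (lam R ^ j) = 1 ↔ 8 ∣ j := by
    rw [← lam_pow_eq_one R j]
    refine ⟨fun h => MonoidHom.ext fun c => Units.ext ?_, fun h => by rw [h]; ext; simp⟩
    exact congrArg (fun φ : Fˣ →* ℂ => φ c) h
  simp only [MonoidHom.comp_apply, Units.coeHom_apply] at h
  rw [h]
  have h8 : Fintype.card Fˣ = 8 := by rw [← Nat.card_eq_fintype_card]; exact card_units9 R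
  by_cases hj : 8 ∣ j
  · rw [if_pos (hiff.2 hj), if_pos hj, h8]
    norm_num
  · rw [if_neg (fun x => hj (hiff.1 x)), if_neg hj]
    simp

theorem conj_chi (i : ℕ) (c : Fˣ) : conj (chi R i c) = chi R (7 * i) c := by
  have h : conj ((lam R c : ℂˣ) : ℂ) = ((lam R c : ℂˣ) : ℂ) ^ 7 := by
    have hn := Complex.norm_eq_one_of_pow_eq_one (lam_pow8 R c) (by norm_num)
    rw [← Complex.inv_eq_conj hn]
    exact inv_eq_of_mul_eq_one_right (by rw [← pow_succ']; exact lam_pow8 R c)
  rw [chi, map_pow, h, ← pow_mul, chi]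

theorem chi_mul (i j : ℕ) (c : Fˣ) : chi R i c * chi R j c = chi R (i + j) c := by
  simp [chi, pow_add]

theorem chi_inv_cube (i : ℕ) (c : Fˣ) : chi R i (c⁻¹ ^ 3) = chi R (5 * i) c := by
  have h : c⁻¹ ^ 3 = c ^ 5 := by
    rw [inv_pow, inv_eq_iff_mul_eq_one, ← pow_add, show 3 + 5 = 8 from rfl, ← card_units9 R,
      pow_card_eq_one']
  rw [h, chi, map_pow, Units.val_pow_eq_pow_val, ← pow_mul, chi]

/-- The linear character of the Borel subgroup. -/
def linB (i : ℕ) : lineStab R.e → ℂ := fun b => chi R i (theta R b)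

theorem isIrr_linB (i : ℕ) : Cfsg.IsIrrCharacter (lineStab R.e) (linB R i) := by
  have h := CharBasicDecomp.isIrrCharacter_linear ((lam R ^ i).comp (theta R))
  have e : linB R i = fun b => ((((lam R ^ i).comp (theta R)) b : ℂˣ) : ℂ) :=
    funext fun b => chi_eq R i _
  rw [e]; exact h

/-- The induced character. -/
def series (i : ℕ) : SU 3 F 3 → ℂ := Cfsg.indFun (lineStab R.e) (linB R i)

theorem isCharacter_series (i : ℕ) : Cfsg.IsCharacter (SU 3 F 3) (series R i) :=
  CharInduced.isCharacter_ind _ (CharBasic.isCharacter_of_isIrrCharacter (isIrr_linB R i))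

theorem series_one (i : ℕ) : series R i 1 = 28 := by
  rw [series, CharInduced.ind_one_apply, index_lineStab]
  simp [linB, chi]

theorem exists_frame_coset (q : SU 3 F 3 ⧸ lineStab R.e)
    (hq : q ≠ ((1 : SU 3 F 3) : SU 3 F 3 ⧸ lineStab R.e)) :
    ∃ (R' : Frame F) (s : F), s ≠ 0 ∧ R'.e = R.e ∧ R'.f = s • act q.out R.e := by
  have hF := hcard R.card
  have h0 : hf R.e (act q.out R.e) ≠ 0 := by
    intro h
    apply hq
    rw [← QuotientGroup.out_eq' q]
    refine QuotientGroup.eq.2 ?_
    rw [mul_one]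
    exact Subgroup.inv_mem _ (mem_lineStab_of R
      (R.mem_line_of_orth ((hf_act _ _ _).trans R.hee) (herm_skew_zero hF h)))
  set a := hf R.e (act q.out R.e) with ha
  refine ⟨_, (a⁻¹) ^ 3, pow_ne_zero _ (inv_ne_zero h0),
    (Classical.choose_spec (exists_frame R.card (e := R.e) (f := (a⁻¹) ^ 3 • act q.out R.e)
      R.hee ?_ ?_)).1, (Classical.choose_spec (exists_frame R.card (e := R.e)
      (f := (a⁻¹) ^ 3 • act q.out R.e) R.hee ?_ ?_)).2⟩
  all_goals first
    | (rw [hf, herm_smul_left, herm_smul_right, show hermForm 3 F 3 (act q.out R.e)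
        (act q.out R.e) = 0 from (hf_act _ _ _).trans R.hee, mul_zero, mul_zero])
    | (rw [hf, herm_smul_right, pow_q_q hF]; exact inv_mul_cancel₀ h0)

/-- The elements of the Borel subgroup fixing a given coset. -/
def Fixes (b : lineStab R.e) (q : SU 3 F 3 ⧸ lineStab R.e) : Prop :=
  q.out⁻¹ * (b : SU 3 F 3) * q.out ∈ lineStab R.e

theorem fixes_iff (b : lineStab R.e) (q : SU 3 F 3 ⧸ lineStab R.e) :
    Fixes R b q ↔ ∃ d : F, act (b : SU 3 F 3) (act q.out R.e) = d • act q.out R.e := by
  constructor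
  · rintro ⟨d, -, hd⟩
    refine ⟨d, ?_⟩
    have h := congrArg (act q.out) hd
    rwa [act_mul, act_mul, ← act_mul q.out, mul_inv_cancel, act_one, act_smul] at h
  · rintro ⟨d, hd⟩
    refine mem_lineStab_of R (c := d) ?_
    rw [act_mul, act_mul, hd, act_smul, act_inv_act]

theorem fixes_frame {b : lineStab R.e} {q : SU 3 F 3 ⧸ lineStab R.e} {R' : Frame F} {s : F}
    (hs : s ≠ 0) (he : R'.e = R.e) (hf' : R'.f = s • act q.out R.e) (h : Fixes R b q) :
    (act (b : SU 3 F 3) R'.e = (theta R b : F) • R'.e) ∧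
      (∃ d : F, act (b : SU 3 F 3) R'.f = d • R'.f) ∧
      act (q.out⁻¹ * (b : SU 3 F 3) * q.out) R.e = ((theta R b : F)⁻¹ ^ 3) • R.e := by
  obtain ⟨d, hd⟩ := (fixes_iff R b q).1 h
  have he' : act (b : SU 3 F 3) R'.e = (theta R b : F) • R'.e := by rw [he]; exact theta_spec R b
  have hfd : ∃ d : F, act (b : SU 3 F 3) R'.f = d • R'.f :=
    ⟨d, by rw [hf', act_smul, hd, smul_comm]⟩
  refine ⟨he', hfd, ?_⟩
  obtain ⟨-, h1, -⟩ := R'.torus_struct he' hfd
  have h2 : d = (theta R b : F)⁻¹ ^ 3 := by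
    rw [hf', act_smul, hd, smul_smul, smul_smul] at h1
    have h3 := smul_left_injective F (act_ne_zero q.out R.e_ne) h1
    exact mul_left_cancel₀ hs (h3.trans (mul_comm _ _))
  rw [act_mul, act_mul, hd, act_smul, act_inv_act, h2]

theorem extend_value (i : ℕ) (b : lineStab R.e) (q : SU 3 F 3 ⧸ lineStab R.e) [Decidable (Fixes R b q)]
    (hq : q ≠ ((1 : SU 3 F 3) : SU 3 F 3 ⧸ lineStab R.e)) :
    Cfsg.extendByZero (lineStab R.e) (linB R i) (q.out⁻¹ * (b : SU 3 F 3) * q.out) =
      if Fixes R b q then chi R (5 * i) (theta R b) else 0 := by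
  split_ifs with h
  · obtain ⟨R', s, hs, he, hf'⟩ := exists_frame_coset R q hq
    obtain ⟨-, -, h3⟩ := fixes_frame R hs he hf' h
    rw [CharInduced.ext_zero_of_mem _ h, linB]
    have ht : theta R ⟨_, h⟩ = (theta R b)⁻¹ ^ 3 :=
      Units.ext (by rw [theta_eq R (b := ⟨_, h⟩) h3]; simp)
    rw [ht, chi_inv_cube]
  · exact CharInduced.ext_zero_of_not_mem _ h

theorem sum_fixes (q : SU 3 F 3 ⧸ lineStab R.e)
    (hq : q ≠ ((1 : SU 3 F 3) : SU 3 F 3 ⧸ lineStab R.e)) (g : Fˣ → ℂ)
    [∀ b, Decidable (Fixes R b q)] :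
    ∑ b : lineStab R.e, (if Fixes R b q then g (theta R b) else 0) = ∑ c : Fˣ, g c := by
  classical
  obtain ⟨R', s, hs, he, hf'⟩ := exists_frame_coset R q hq
  choose t ht using R'.torus_exists
  have hte : ∀ c : Fˣ, act (t c) R.e = (c : F) • R.e := fun c => by
    have := (ht c).1
    rw [he] at this
    exact this
  rw [← Finset.sum_filter]
  symm
  refine Finset.sum_bij (fun c _ => (⟨t c, mem_lineStab_of R (hte c)⟩ :
    lineStab R.e)) ?_ ?_ ?_ ?_
  · intro c _
    rw [Finset.mem_filter, fixes_iff]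
    refine ⟨Finset.mem_univ _, ((c : F)⁻¹) ^ 3, ?_⟩
    have h := (ht c).2
    rw [hf', act_smul, smul_comm] at h
    exact smul_right_injective (Fin 3 → F) hs h
  · intro c _ c' _ h
    have h' : t c = t c' := congrArg Subtype.val h
    have h2 := (ht c).1
    rw [h', (ht c').1] at h2
    exact Units.ext (smul_left_injective F R'.e_ne h2).symm
  · intro b hb
    obtain ⟨h1, h2, -⟩ := fixes_frame R hs he hf' (Finset.mem_filter.1 hb).2
    refine ⟨theta R b, Finset.mem_univ _, Subtype.ext ?_⟩
    exact R'.torus_unique (ht _).1 h1 ⟨_, (ht _).2⟩ h2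
  · intro c _
    congr 1
    exact Units.ext (theta_eq R (b := ⟨t c, _⟩) (hte c)).symm

theorem sum_theta (g : Fˣ → ℂ) :
    ∑ b : lineStab R.e, g (theta R b) = 27 * ∑ c : Fˣ, g c := by
  classical
  rw [← Finset.sum_fiberwise Finset.univ (theta R) (fun b => g (theta R b)), Finset.mul_sum]
  refine Finset.sum_congr rfl fun c _ => ?_
  rw [Finset.sum_congr rfl (g := fun _ => g c) fun b hb => by rw [(Finset.mem_filter.1 hb).2],
    Finset.sum_const, ← Fintype.card_subtype, ← Nat.card_eq_fintype_card, card_theta_fibre,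
    nsmul_eq_mul]
  norm_num

/-- Sums of an induced character over the Borel subgroup. -/
theorem sum_series_res (i : ℕ) (g : Fˣ → ℂ) :
    ∑ b : lineStab R.e, g (theta R b) * series R i (b : SU 3 F 3) =
      27 * ∑ c : Fˣ, g c * (chi R i c + chi R (5 * i) c) := by
  classical
  haveI : Fintype (SU 3 F 3 ⧸ lineStab R.e) := Fintype.ofFinite _
  set q0 : SU 3 F 3 ⧸ lineStab R.e := ((1 : SU 3 F 3) : SU 3 F 3 ⧸ lineStab R.e) with hq0
  have hθ : Cfsg.IsClassFunction (lineStab R.e) (linB R i) :=
    CharBasic.isClassFunction_of_isCharacter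
      (CharBasic.isCharacter_of_isIrrCharacter (isIrr_linB R i))
  have hout : q0.out ∈ lineStab R.e := by
    have h := QuotientGroup.out_eq' q0
    have h2 : (q0.out)⁻¹ * 1 ∈ lineStab R.e := QuotientGroup.eq.1 h
    simpa using h2
  have hval : ∀ b : lineStab R.e, series R i (b : SU 3 F 3) = chi R i (theta R b) +
      ∑ q ∈ Finset.univ.erase q0, (if Fixes R b q then chi R (5 * i) (theta R b) else 0) := by
    intro b
    rw [series, CharInduced.ind_eq_sum_quotient _ hθ,
      ← Finset.add_sum_erase _ _ (Finset.mem_univ q0)]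
    congr 1
    · rw [show q0.out⁻¹ * (b : SU 3 F 3) * q0.out =
        (((⟨q0.out, hout⟩ : lineStab R.e)⁻¹ * b * ⟨q0.out, hout⟩ : lineStab R.e) : SU 3 F 3)
          from rfl, CharInduced.ext_zero_coe]
      show chi R i (theta R _) = _
      rw [map_mul, map_mul, map_inv, mul_comm _ (theta R b), mul_assoc, inv_mul_cancel, mul_one]
    · exact Finset.sum_congr rfl fun q hq => extend_value R i b q (Finset.ne_of_mem_erase hq)
  simp only [hval, mul_add, Finset.mul_sum, Finset.sum_add_distrib]
  rw [sum_theta R (fun c => g c * chi R i c), Finset.mul_sum]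
  congr 1
  rw [Finset.sum_comm]
  have hterm : ∀ q ∈ Finset.univ.erase q0,
      ∑ b : lineStab R.e, g (theta R b) * (if Fixes R b q then chi R (5 * i) (theta R b) else 0) =
        ∑ c : Fˣ, g c * chi R (5 * i) c := by
    intro q hq
    rw [← sum_fixes R q (Finset.ne_of_mem_erase hq) fun c => g c * chi R (5 * i) c]
    exact Finset.sum_congr rfl fun b _ => by split_ifs <;> simp
  rw [Finset.sum_congr rfl hterm, Finset.sum_const, Finset.card_erase_of_mem (Finset.mem_univ _),
    Finset.card_univ, ← Nat.card_eq_fintype_card, ← Subgroup.index_eq_card, index_lineStab,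
    nsmul_eq_mul, Finset.mul_sum]
  norm_num

theorem inner_series (i j : ℕ) :
    Cfsg.classInner (series R j) (series R i) =
      (if 8 ∣ 7 * i + j then 1 else 0) + (if 8 ∣ 7 * i + 5 * j then 1 else 0) := by
  rw [show series R i = Cfsg.indFun (lineStab R.e) (linB R i) from rfl,
    CharInduced.inner_ind_right _ _ (CharBasic.isClassFunction_of_isCharacter
      (isCharacter_series R j)), Cfsg.classInner, card_lineStab]
  simp only [linB, conj_chi]
  rw [Finset.sum_congr rfl fun b _ => mul_comm _ _, sum_series_res R j (chi R (7 * i))]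
  simp only [mul_add, chi_mul, Finset.sum_add_distrib, sum_chi]
  split_ifs <;> norm_num

theorem inner_series_one (i : ℕ) :
    Cfsg.classInner (fun _ : SU 3 F 3 => (1 : ℂ)) (series R i) = if 8 ∣ 7 * i then 1 else 0 := by
  rw [series, CharInduced.inner_ind_right _ _ (fun _ _ => rfl), Cfsg.classInner, card_lineStab]
  simp only [linB, conj_chi, one_mul]
  rw [sum_theta R (chi R (7 * i)), sum_chi]
  split_ifs <;> norm_num

theorem res_integral {a : SU 3 F 3 → ℂ} (ha : Cfsg.IsCharacter (SU 3 F 3) a) (i : ℕ) :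
    ∃ n : ℕ, Cfsg.classInner a (series R i) = n :=
  CharBasicOrth.classInner_isCharacter ha (isCharacter_series R i)

/-- The sum of a character over the unipotent radical. -/
theorem sum_radical {a : SU 3 F 3 → ℂ} (ha : Cfsg.IsCharacter (SU 3 F 3) a)
    [DecidablePred fun b : lineStab R.e => theta R b = 1] :
    ∑ b ∈ Finset.univ.filter (fun b : lineStab R.e => theta R b = 1), a (b : SU 3 F 3) =
      27 * ∑ i ∈ Finset.range 8, Cfsg.classInner a (series R i) := by
  classical
  have h : ∀ i, Cfsg.classInner a (series R i) =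
      (216 : ℂ)⁻¹ * ∑ b : lineStab R.e, a (b : SU 3 F 3) * chi R (7 * i) (theta R b) := by
    intro i
    rw [series, CharInduced.inner_ind_right _ _ (CharBasic.isClassFunction_of_isCharacter ha),
      Cfsg.classInner, card_lineStab]
    simp [linB, conj_chi]
  simp only [h]
  rw [← Finset.mul_sum, Finset.sum_comm, ← mul_assoc, Finset.mul_sum, Finset.sum_filter]
  refine Finset.sum_congr rfl fun b _ => ?_
  rw [← Finset.mul_sum]
  have horth : ∑ i ∈ Finset.range 8, chi R (7 * i) (theta R b) =
      if theta R b = 1 then 8 else 0 := by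
    split_ifs with hb
    · simp [chi, hb]
    · simp only [chi, pow_mul]
      set z := ((lam R (theta R b) : ℂˣ) : ℂ) ^ 7 with hz
      have hz1 : z ≠ 1 := by
        intro h1
        have h2 : ((lam R (theta R b) : ℂˣ) : ℂ) = 1 := by
          have := lam_pow8 R (theta R b)
          rw [pow_succ', ← hz, h1, mul_one] at this
          exact this
        refine hb ?_
        by_contra hne
        obtain ⟨g, hg⟩ := IsCyclic.exists_generator (α := Fˣ)
        obtain ⟨j, hj⟩ := mem_powers_iff_mem_zpowers.2 (hg (theta R b))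
        have hj' : g ^ j = theta R b := hj
        have hone : lam R ^ j = 1 := by
          refine MonoidHom.ext fun c => ?_
          obtain ⟨k, hk⟩ := mem_powers_iff_mem_zpowers.2 (hg c)
          have hk' : g ^ k = c := hk
          rw [← hk', MonoidHom.pow_apply, ← map_pow, ← pow_mul, mul_comm, pow_mul, hj', map_pow,
            Units.ext (h2.trans Units.val_one.symm), one_pow, MonoidHom.one_apply]
        obtain ⟨m, rfl⟩ := (lam_pow_eq_one R j).1 hone
        exact hne (by rw [← hj', pow_mul, ← card_units9 R, pow_card_eq_one', one_pow])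
      rw [geom_sum_eq hz1, hz, ← pow_mul, mul_comm 7 8, pow_mul, lam_pow8, one_pow, sub_self,
        zero_div]
  rw [horth]
  split_ifs <;> ring

theorem exists_torus_gen : ∃ t : lineStab R.e,
    (∀ x : lineStab R.e, theta R x = 1 → (t : SU 3 F 3) * (x : SU 3 F 3) = (x : SU 3 F 3) * t → x = 1)
      ∧ t ^ 8 = 1 := by
  obtain ⟨g, hg⟩ := IsCyclic.exists_generator (α := Fˣ)
  have hg8 : orderOf g = 8 := (orderOf_eq_card_of_forall_mem_zpowers hg).trans (card_units9 R)
  obtain ⟨t, hte, htf⟩ := R.torus_exists g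
  obtain ⟨-, -, htk⟩ := R.torus_struct hte ⟨_, htf⟩
  have hne : ∀ m : ℕ, 0 < m → m < 8 → (g : F) ^ m ≠ 1 := by
    intro m hm hm8 h
    have h1 : g ^ m = 1 := Units.ext (by rw [Units.val_pow_eq_pow_val, h, Units.val_one])
    have := Nat.le_of_dvd hm (hg8 ▸ orderOf_dvd_of_pow_eq_one h1)
    omega
  have hg0 : (g : F) ≠ 0 := g.ne_zero
  have h8 : (g : F) ^ 8 = 1 := by
    rw [← Units.val_pow_eq_pow_val, ← hg8, pow_orderOf_eq_one, Units.val_one]
  refine ⟨⟨t, mem_lineStab_of R hte⟩, fun x hx hc => ?_, ?_⟩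
  · set v := act (x : SU 3 F 3) R.f with hv
    have h1 : act t v = ((g : F)⁻¹) ^ 3 • v := by
      rw [hv, ← act_mul, show t * (x : SU 3 F 3) = (x : SU 3 F 3) * t from hc, act_mul, htf,
        act_smul]
    have h2 := h1
    rw [R.expand v, act_add, act_add, act_smul, act_smul, act_smul, hte, htf, htk] at h2
    have h3 := congrArg R.coordL h2
    simp only [map_add, map_smul, smul_smul, smul_add] at h3
    have h4 := congrFun h3 0
    have h5 := congrFun h3 2
    simp [Frame.coordL_apply, R.hef, R.hff, R.hkf, R.hek, R.hfk, R.hkk] at h4 h5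
    have he0 : hf v R.f = 0 := by
      by_contra h
      refine hne 4 (by norm_num) (by norm_num) ?_
      field_simp at h4
      linear_combination h4
    have hk0 : hf v R.k = 0 := by
      by_contra h
      refine hne 5 (by norm_num) (by norm_num) ?_
      field_simp at h5
      linear_combination h5
    have hxf : ∃ d : F, act (x : SU 3 F 3) R.f = d • R.f := by
      refine ⟨hf v R.e, ?_⟩
      rw [← hv]
      conv_lhs => rw [R.expand v]
      rw [he0, hk0, zero_smul, zero_smul, zero_add, add_zero]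
    have hxe := theta_spec R x
    rw [hx] at hxe
    refine Subtype.ext (R.torus_unique hxe ?_ hxf ⟨1, ?_⟩)
    · rw [Subgroup.coe_one, act_one, Units.val_one, one_smul]
    · rw [Subgroup.coe_one, act_one, one_smul]
  · refine Subtype.ext ?_
    have hpow : ∀ m : ℕ, act (t ^ m) R.e = (g : F) ^ m • R.e ∧
        act (t ^ m) R.f = ((g : F)⁻¹ ^ 3) ^ m • R.f := by
      intro m
      induction m with
      | zero => simp [act_one]
      | succ m ih =>
        rw [pow_succ' t m, act_mul, act_mul, ih.1, ih.2, act_smul, act_smul, hte, htf, smul_smul,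
          smul_smul, ← pow_succ, ← pow_succ]
        exact ⟨rfl, rfl⟩
    refine R.torus_unique (c := 1) ?_ ?_ ⟨_, (hpow 8).2⟩ ⟨1, ?_⟩
    · rw [← h8]; exact (hpow 8).1
    · rw [Subgroup.coe_one, act_one, one_smul]
    · rw [Subgroup.coe_one, act_one, one_smul]

/-- Parity of the degree from the unipotent radical. -/
theorem parity {a : SU 3 F 3 → ℂ} (ha : Cfsg.IsCharacter (SU 3 F 3) a) {d m : ℕ}
    (hd : a 1 = d) (hm : ∑ i ∈ Finset.range 8, Cfsg.classInner a (series R i) = m) :
    Even ((d : ℤ) + m) := by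
  classical
  obtain ⟨t, htfix, ht8⟩ := exists_torus_gen R
  let U' := {x : lineStab R.e // theta R x = 1 ∧ x ≠ 1}
  let cj : MulAut (lineStab R.e) := MulAut.conj t
  have hstab : ∀ x : lineStab R.e,
      (theta R x = 1 ∧ x ≠ 1) ↔ (theta R (cj x) = 1 ∧ cj x ≠ 1) := by
    intro x
    have h1 : theta R (cj x) = theta R x := by
      simp only [cj, MulAut.conj_apply, map_mul, map_inv]
      rw [mul_comm, ← mul_assoc, inv_mul_cancel, one_mul]
    rw [h1]
    simp
  let σ : Equiv.Perm U' := Equiv.Perm.subtypePerm cj.toEquiv fun x => (hstab x).symm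
  have hσ8 : σ ^ (2 ^ 3) = 1 := by
    have hk : ∀ (k : ℕ) (x : lineStab R.e),
        (cj.toEquiv ^ k : Equiv.Perm (lineStab R.e)) x = t ^ k * x * (t ^ k)⁻¹ := by
      intro k
      induction k with
      | zero => intro x; simp
      | succ k ih =>
        intro x
        rw [pow_succ', Equiv.Perm.mul_apply, ih, pow_succ']
        simp [cj, mul_assoc]
    refine Equiv.ext fun x => Subtype.ext ?_
    rw [Equiv.Perm.subtypePerm_pow]
    simp only [Equiv.Perm.subtypePerm_apply, Equiv.Perm.coe_one, id]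
    show (cj.toEquiv ^ (2 ^ 3) : Equiv.Perm (lineStab R.e)) x.1 = x.1
    rw [hk, show 2 ^ 3 = 8 by norm_num, ht8]
    simp
  have hfix : ∀ x : U', σ x ≠ x := by
    intro x h
    have h1 : t * x.1 * t⁻¹ = x.1 := congrArg Subtype.val h
    have h2 : t * x.1 = x.1 * t := mul_inv_eq_iff_eq_mul.1 h1
    exact x.2.2 (htfix x.1 x.2.1 (congrArg Subtype.val h2))
  have hint := fun x : U' => CharBasic.isCharacter_integral ha ((x.1 : lineStab R.e) : SU 3 F 3)
  obtain ⟨z, hz, hzs⟩ := exists_half_sum 3 U' σ hσ8 hfix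
    (fun x => a ((x.1 : lineStab R.e) : SU 3 F 3))
    (fun x => (CharBasic.isClassFunction_of_isCharacter ha) _ (t : SU 3 F 3)) hint
  have hsum := sum_radical R ha
  rw [hm, ← Finset.add_sum_erase _ _ (a := (1 : lineStab R.e)) (by simp), Subgroup.coe_one, hd]
    at hsum
  have he : ∑ b ∈ (Finset.univ.filter fun b : lineStab R.e => theta R b = 1).erase 1,
      a (b : SU 3 F 3) = 2 * z := by
    rw [← hzs]
    exact Finset.sum_subtype (p := fun x : lineStab R.e => theta R x = 1 ∧ x ≠ 1) _
      (fun x => by simp [and_comm]) (fun x : lineStab R.e => a (x : SU 3 F 3))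
  rw [he] at hsum
  have h2 : Even (27 * (m : ℤ) - d) :=
    even_of_half hz (by push_cast; linear_combination -hsum)
  rw [Int.even_sub, Int.even_mul] at h2
  rw [Int.even_add]
  have h27 : ¬ Even (27 : ℤ) := by decide
  tauto

end Cfsg.Agent.DegGraphU33
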