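import Mathlib
import Cfsg.Agent.Lib.DegGraphU33Geo

/-!
Elements of order 7 in `SU(3,3)`: centralisers and fusion.
-/

set_option autoImplicit false
set_option linter.unusedSectionVars false

noncomputable section

namespace Cfsg.Agent.DegGraphU33

open Cfsg.Agent.OrthUnitaryHerm
open Cfsg.Agent.OrthUnitaryTransvection
open scoped Matrix

variable {F : Type*} [Field F] [Fintype F]

/-- The matrix of an element. -/
abbrev mat3 (g : SU 3 F 3) : Matrix (Fin 3) (Fin 3) F :=
  ((g : Matrix.SpecialLinearGroup (Fin 3) F) : Matrix (Fin 3) (Fin 3) F)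

theorem mat3_mul (g h : SU 3 F 3) : mat3 (g * h) = mat3 g * mat3 h := rfl

theorem mat3_one : mat3 (1 : SU 3 F 3) = 1 := rfl

theorem mat3_injective : Function.Injective (mat3 (F := F)) := fun _ _ h =>
  Subtype.ext (Subtype.ext h)

theorem mat3_pow (g : SU 3 F 3) (k : ℕ) : mat3 (g ^ k) = mat3 g ^ k := by
  induction k with
  | zero => rw [pow_zero, pow_zero, mat3_one]
  | succ k ih => rw [pow_succ, pow_succ, mat3_mul, ih]

theorem extendMat_mul {n : ℕ} (A B : Matrix (Fin n) (Fin n) F) :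
    extendMat (A * B) = extendMat A * extendMat B := by
  refine Matrix.toLin'.injective (LinearMap.ext fun v => ?_)
  rw [Matrix.toLin'_apply, Matrix.toLin'_apply, ← Matrix.mulVec_mulVec, extendMat_mulVec,
    extendMat_mulVec, extendMat_mulVec]
  simp

theorem extendMat_one {n : ℕ} : extendMat (1 : Matrix (Fin n) (Fin n) F) = 1 := by
  refine Matrix.toLin'.injective (LinearMap.ext fun v => ?_)
  rw [Matrix.toLin'_apply, Matrix.toLin'_apply, extendMat_mulVec]
  simp

theorem no_eigenvector (hF : Fintype.card F = 9) {x : SU 3 F 3} (hx : orderOf x = 7) {c : F}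
    {v : Fin 3 → F} (hv : v ≠ 0) (h : act x v = c • v) : False := by
  have hF' := hcard hF
  by_cases h0 : hf v v = 0
  · obtain ⟨R, rfl⟩ := exists_frame_at hF hv h0
    have h1 := orderOf_dvd_natCard (⟨x, mem_lineStab_of R h⟩ : lineStab R.e)
    rw [card_lineStab, Subgroup.orderOf_mk, hx] at h1
    norm_num at h1
  have hpow : ∀ m : ℕ, act (x ^ m) v = c ^ m • v := by
    intro m
    induction m with
    | zero => rw [pow_zero, pow_zero, act_one, one_smul]
    | succ m ih => rw [pow_succ' x m, act_mul, ih, act_smul, h, smul_smul, ← pow_succ]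
  have hc7 : c ^ 7 = 1 := by
    have h7 := hpow 7
    rw [← hx, pow_orderOf_eq_one, act_one, hx] at h7
    exact smul_left_injective F hv (show c ^ 7 • v = (1 : F) • v by rw [one_smul, ← h7])
  have hc : c = 1 := by
    have hc0 : c ≠ 0 := fun e => by rw [e] at hc7; simp at hc7
    have h9 : c ^ 9 = c := by rw [← hF]; exact FiniteField.pow_card c
    have : c ^ 2 * c ^ 7 = c := by rw [← pow_add]; exact h9
    rw [hc7, mul_one, pow_two] at this
    exact mul_right_cancel₀ hc0 (this.trans (one_mul c).symm)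
  rw [hc, one_smul] at h
  have hfix : (hf v v)⁻¹ ^ 3 = (hf v v)⁻¹ := by rw [inv_pow, hf, herm_self_pow hF']
  obtain ⟨z, hz⟩ := exists_norm_eq hF' hfix
  have hw : hermForm 3 F 3 (z • v) (z • v) = 1 := by
    rw [herm_smul_left, herm_smul_right, ← mul_assoc, ← pow_succ', hz, inv_mul_cancel₀ h0]
  have he : hermForm 3 F 3 (Pi.single 0 1 : Fin 3 → F) (Pi.single 0 1) = 1 := by
    rw [herm_single_right hF']; simp
  obtain ⟨M, hM, hMe⟩ := exists_isU_map hF' (u := (Pi.single 0 1 : Fin 3 → F)) (v := z • v)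
    (by rw [he, hw]) (by rw [he]; exact one_ne_zero)
  let m : GU 3 F 3 := mkGU hF' M hM
  let y : GU 3 F 3 := m⁻¹ * suToGU x * m
  have hy7 : y ^ 7 = 1 := by
    have : suToGU x ^ 7 = 1 := by rw [← map_pow, ← hx, pow_orderOf_eq_one, map_one]
    rw [show y = MulAut.conj m⁻¹ (suToGU x) by simp [y, MulAut.conj_apply], ← map_pow, this,
      map_one]
  have hy7m : ((y : Matrix.GeneralLinearGroup (Fin 3) F).val) ^ 7 = 1 := by
    rw [← Units.val_pow_eq_pow_val, ← Subgroup.coe_pow, hy7, Subgroup.coe_one, Units.val_one]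
  set Y : Matrix (Fin 3) (Fin 3) F :=
    ((y : Matrix.GeneralLinearGroup (Fin 3) F) : Matrix (Fin 3) (Fin 3) F) with hY
  have hYe : Y *ᵥ Pi.single 0 1 = Pi.single 0 1 := by
    have hinj : Function.Injective M.mulVec := Matrix.mulVec_injective_iff_isUnit.2 (hM.isUnit hF')
    apply hinj
    show M *ᵥ (Y *ᵥ _) = M *ᵥ _
    rw [Matrix.mulVec_mulVec, hMe]
    have h2 : M * Y = mat3 x * M := by
      have h3 : m * y = suToGU x * m := by simp [y, ← mul_assoc]
      have h4 := congrArg
        (fun k : GU 3 F 3 => (k : Matrix.GeneralLinearGroup (Fin 3) F).val) h3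
      simp only [Subgroup.coe_mul, Units.val_mul] at h4
      rw [mkGU_coe] at h4
      exact h4
    rw [h2, ← Matrix.mulVec_mulVec, hMe]
    show act x (z • v) = z • v
    rw [act_smul, h]
  obtain ⟨hext, hA⟩ := isU_stab hF' (isU_of_mem y) hYe
  set A := Y.submatrix Fin.succ Fin.succ with hAdef
  have hA7 : A ^ 7 = 1 := by
    have hp : ∀ k : ℕ, extendMat (A ^ k) = extendMat A ^ k := by
      intro k
      induction k with
      | zero => rw [pow_zero, pow_zero, extendMat_one]
      | succ k ih => rw [pow_succ, pow_succ, extendMat_mul, ih]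
    have h7 : Y ^ 7 = 1 := by
      exact hy7m
    rw [show Y = extendMat A from hext, ← hp, ← extendMat_one] at h7
    have h8 := congrArg (fun Z : Matrix (Fin 3) (Fin 3) F => Z.submatrix Fin.succ Fin.succ) h7
    ext i j
    simpa [extendMat] using congrFun (congrFun h8 i) j
  have hA1 : A = 1 := by
    have h1 : (mkGU hF' A hA) ^ 7 = 1 := by
      refine Subtype.ext (Units.ext ?_)
      rw [Subgroup.coe_pow, Units.val_pow_eq_pow_val, mkGU_coe, hA7, Subgroup.coe_one,
        Units.val_one]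
    have h96 : Nat.card (GU 2 F 3) = 96 := by
      rw [card_GU hF' 2]
      simp [Finset.prod_range_succ]
    have h2 : orderOf (mkGU hF' A hA) ∣ Nat.gcd 7 (Nat.card (GU 2 F 3)) :=
      Nat.dvd_gcd (orderOf_dvd_of_pow_eq_one h1) (orderOf_dvd_natCard _)
    rw [h96, show Nat.gcd 7 96 = 1 from rfl, Nat.dvd_one, orderOf_eq_one_iff] at h2
    have h3 := congrArg
      (fun k : GU 2 F 3 => (k : Matrix.GeneralLinearGroup (Fin 2) F).val) h2
    simpa [mkGU_coe] using h3
  have hy1 : y = 1 := by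
    refine Subtype.ext (Units.ext ?_)
    refine (hext.trans ?_)
    rw [hA1, extendMat_one]
    rfl
  have hx1 : suToGU x = 1 := by
    have h1 : m⁻¹ * suToGU x * m = 1 := hy1
    calc suToGU x = m * (m⁻¹ * suToGU x * m) * m⁻¹ := by group
      _ = 1 := by rw [h1]; group
  have := suToGU_injective (hx1.trans (map_one _).symm)
  rw [this, orderOf_one] at hx
  norm_num at hx

theorem commutant (hF : Fintype.card F = 9) {x : SU 3 F 3} (hx : orderOf x = 7)
    (N : (Fin 3 → F) →ₗ[F] (Fin 3 → F)) (hN : ∀ v, N (act x v) = act x (N v)) :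
    N = 0 ∨ Function.Injective N := by
  by_contra h
  push Not at h
  obtain ⟨hN0, hinj⟩ := h
  have hk : 0 < Module.finrank F (LinearMap.ker N) := by
    refine Nat.pos_of_ne_zero fun e => hinj ?_
    exact LinearMap.ker_eq_bot.1 (Submodule.finrank_eq_zero.1 e)
  have hr : 0 < Module.finrank F (LinearMap.range N) := by
    refine Nat.pos_of_ne_zero fun e => hN0 ?_
    exact LinearMap.range_eq_bot.1 (Submodule.finrank_eq_zero.1 e)
  have hsum := LinearMap.finrank_range_add_finrank_ker N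
  rw [Module.finrank_fin_fun] at hsum
  have key : ∀ W : Submodule F (Fin 3 → F), Module.finrank F W = 1 →
      (∀ v ∈ W, act x v ∈ W) → False := by
    intro W hW hinv
    obtain ⟨⟨v, hv⟩, hv0, hspan⟩ := finrank_eq_one_iff'.1 hW
    obtain ⟨c, hc⟩ := hspan ⟨act x v, hinv v hv⟩
    exact no_eigenvector hF hx (fun e => hv0 (Subtype.ext e)) (congrArg Subtype.val hc).symm
  rcases (show Module.finrank F (LinearMap.ker N) = 1 ∨
      Module.finrank F (LinearMap.range N) = 1 by omega) with h1 | h1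
  · refine key _ h1 fun v hv => ?_
    rw [LinearMap.mem_ker] at hv ⊢
    rw [hN, hv]
    simp [act]
  · refine key _ h1 ?_
    rintro _ ⟨w, rfl⟩
    exact ⟨act x w, hN w⟩

theorem three_eq_zero (hF : Fintype.card F = 9) : (3 : F) = 0 := by
  have h : ((Fintype.card F : ℕ) : F) = 0 := FiniteField.cast_card_eq_zero F
  rw [hF] at h
  refine pow_eq_zero_iff (n := 2) (by norm_num) |>.1 ?_
  linear_combination h

theorem centralizer_seven (hF : Fintype.card F = 9) {x : SU 3 F 3} (hx : orderOf x = 7) :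
    Nat.card (Subgroup.centralizer ({x} : Set (SU 3 F 3))) = 7 := by
  have h3 := three_eq_zero hF
  have hz1 : ∀ z : SU 3 F 3, z * x = x * z → (z ^ 2 = 1 ∨ z ^ 3 = 1) → z = 1 := by
    intro z hzx hz
    set Z := mat3 z with hZ
    let N : (Fin 3 → F) →ₗ[F] (Fin 3 → F) := Matrix.toLin' (Z - 1)
    have hcomm : ∀ v, N (act x v) = act x (N v) := by
      intro v
      simp only [N, Matrix.toLin'_apply, Matrix.sub_mulVec, Matrix.one_mulVec]
      rw [show act x (Z *ᵥ v - v) = act x (Z *ᵥ v) - act x v from Matrix.mulVec_sub _ _ _]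
      congr 1
      show act z (act x v) = act x (act z v)
      rw [← act_mul, ← act_mul, hzx]
    rcases commutant hF hx N hcomm with h0 | hinj
    · refine mat3_injective ?_
      have : Z - 1 = 0 := Matrix.toLin'.injective (by rw [map_zero]; exact h0)
      rw [mat3_one]
      exact sub_eq_zero.1 this
    · have hinj' : ∀ B : Matrix (Fin 3) (Fin 3) F, (Z - 1) * B = 0 → B = 0 := by
        intro B hB
        refine Matrix.toLin'.injective (LinearMap.ext fun v => ?_)
        rw [map_zero, LinearMap.zero_apply, Matrix.toLin'_apply]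
        refine hinj ?_
        rw [map_zero, Matrix.toLin'_apply, Matrix.mulVec_mulVec, hB, Matrix.zero_mulVec]
      exfalso
      rcases hz with h2 | h3'
      · have hZ2 : Z ^ 2 = 1 := by rw [hZ, ← mat3_pow, h2, mat3_one]
        have hZ1 : Z + 1 = 0 := hinj' _ (by
          rw [sub_mul, mul_add, mul_add, ← pow_two, hZ2]; simp [add_comm])
        have hdet : Z.det = 1 := z.1.2
        rw [eq_neg_of_add_eq_zero_left hZ1, Matrix.det_neg, Matrix.det_one] at hdet
        simp at hdet
        exact one_ne_zero (α := F) (by linear_combination (1 : F) * h3 + hdet)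
      · have hZ3 : Z ^ 3 = 1 := by rw [hZ, ← mat3_pow, h3', mat3_one]
        have hN3 : (Z - 1) * ((Z - 1) * (Z - 1)) = 0 := by
          have e : (Z - 1) * ((Z - 1) * (Z - 1)) = Z ^ 3 - 1 - (3 : F) • (Z ^ 2 - Z) := by
            rw [ofNat_smul_eq_nsmul]
            noncomm_ring
          rw [e, hZ3, h3, zero_smul, sub_self, sub_zero]
        have h1 := hinj' _ (hinj' _ hN3)
        have hbot : (1 : Matrix (Fin 3) (Fin 3) F) = 0 := hinj' 1 (by rw [mul_one]; exact h1)
        exact one_ne_zero hbot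
  set C := Subgroup.centralizer ({x} : Set (SU 3 F 3)) with hC
  have hxC : x ∈ C := Subgroup.mem_centralizer_iff.2 fun h hh => by
    rw [Set.mem_singleton_iff.1 hh]
  have h7 : 7 ∣ Nat.card C := by
    have := orderOf_dvd_natCard (⟨x, hxC⟩ : C)
    rwa [Subgroup.orderOf_mk, hx] at this
  have hdvd : Nat.card C ∣ 6048 := card_SU33 hF ▸ C.card_subgroup_dvd_card
  have hno : ∀ r : ℕ, (r = 2 ∨ r = 3) → ¬ r ∣ Nat.card C := by
    intro r hr hd
    haveI : Fact r.Prime := ⟨by rcases hr with rfl | rfl <;> norm_num⟩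
    obtain ⟨⟨z, hzC⟩, hz⟩ := exists_prime_orderOf_dvd_card' r hd
    have hzx : z * x = x * z := (Subgroup.mem_centralizer_iff.1 hzC x rfl).symm
    have hzp : z ^ r = 1 := by
      rw [Subgroup.orderOf_mk] at hz
      rw [← hz, pow_orderOf_eq_one]
    have hz' := hz1 z hzx (by rcases hr with rfl | rfl; exacts [Or.inl hzp, Or.inr hzp])
    rw [Subgroup.orderOf_mk, hz', orderOf_one] at hz
    exact absurd hz.symm (Nat.Prime.one_lt Fact.out).ne'
  have key : ∀ n ∈ Nat.divisors 6048, 7 ∣ n → ¬ 2 ∣ n → ¬ 3 ∣ n → n = 7 := by decide +kernel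
  exact key _ (Nat.mem_divisors.2 ⟨hdvd, by norm_num⟩) h7 (hno 2 (Or.inl rfl)) (hno 3 (Or.inr rfl))

/-- Every generator of the subgroup of order 7 is conjugate to `x` or to its inverse. -/
theorem fusion_seven (hF : Fintype.card F = 9) {x : SU 3 F 3} (hx : orderOf x = 7) (j : ℕ)
    (hj : ¬ 7 ∣ j) : IsConj x (x ^ j) ∨ IsConj x⁻¹ (x ^ j) := by
  haveI : Fact (Nat.Prime 7) := ⟨by norm_num⟩
  have hG := card_SU33 hF
  let P : Sylow 7 (SU 3 F 3) := Sylow.ofCard (Subgroup.zpowers x) (by
    rw [Nat.card_zpowers, hx, hG, show (6048 : ℕ) = 7 * 864 from rfl,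
      Nat.factorization_mul (by norm_num) (by norm_num), Finsupp.add_apply,
      Nat.Prime.factorization_self (by norm_num), Nat.factorization_eq_zero_of_not_dvd (by norm_num), pow_one])
  set N := Subgroup.normalizer ((P : Subgroup (SU 3 F 3)) : Set (SU 3 F 3)) with hN
  have hidx : N.index ≡ 1 [MOD 7] := by
    have h := card_sylow_modEq_one 7 (SU 3 F 3)
    rw [Sylow.card_eq_index_normalizer P] at h
    exact h
  have h7N : 7 ∣ Nat.card N := by
    have h := Subgroup.card_dvd_of_le (Subgroup.le_normalizer (H := (P : Subgroup (SU 3 F 3))))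
    have hP : Nat.card (P : Subgroup (SU 3 F 3)) = 7 := by
      show Nat.card (Subgroup.zpowers x) = 7
      rw [Nat.card_zpowers, hx]
    rwa [hP] at h
  have hcard : Nat.card N * N.index = 6048 := by rw [N.card_mul_index, hG]
  have h3 : 3 ∣ Nat.card N := by
    have key : ∀ n ∈ Nat.divisors 6048, 7 ∣ n → (6048 / n) % 7 = 1 → 3 ∣ n := by decide +kernel
    refine key _ (Nat.mem_divisors.2 ⟨Dvd.intro _ hcard, by norm_num⟩) h7N ?_
    rw [← hcard, Nat.mul_div_cancel_left _ Nat.card_pos]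
    exact hidx
  haveI : Fact (Nat.Prime 3) := ⟨by norm_num⟩
  obtain ⟨⟨g, hgN⟩, hg⟩ := exists_prime_orderOf_dvd_card' 3 h3
  rw [Subgroup.orderOf_mk] at hg
  have hgx : g * x * g⁻¹ ∈ Subgroup.zpowers x :=
    (Subgroup.mem_normalizer_iff.1 hgN x).1 (Subgroup.mem_zpowers x)
  obtain ⟨k, hk⟩ := mem_powers_iff_mem_zpowers.2 hgx
  have hk' : g * x * g⁻¹ = x ^ k := hk.symm
  have hconjk : ∀ n : ℕ, g ^ n * x * (g ^ n)⁻¹ = x ^ (k ^ n) := by
    intro n
    induction n with
    | zero => simp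
    | succ n ih =>
      calc g ^ (n + 1) * x * (g ^ (n + 1))⁻¹ = g * (g ^ n * x * (g ^ n)⁻¹) * g⁻¹ := by
            rw [pow_succ']; group
        _ = g * x ^ (k ^ n) * g⁻¹ := by rw [ih]
        _ = (g * x * g⁻¹) ^ (k ^ n) := conj_pow.symm
        _ = x ^ (k ^ (n + 1)) := by rw [hk', ← pow_mul, pow_succ']
  have hmod : ∀ a b : ℕ, x ^ a = x ^ b → a % 7 = b % 7 := fun a b h => by
    rw [pow_eq_pow_iff_modEq, hx] at h; exact h
  have hk1 : k % 7 ≠ 1 := by
    intro h
    have hgC : g ∈ Subgroup.centralizer ({x} : Set (SU 3 F 3)) := by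
      refine Subgroup.mem_centralizer_iff.2 fun y hy => ?_
      rw [Set.mem_singleton_iff.1 hy]
      have : g * x * g⁻¹ = x := by
        rw [hk', ← pow_mod_orderOf, hx, h, pow_one]
      exact (mul_inv_eq_iff_eq_mul.1 this).symm
    have := orderOf_dvd_natCard (⟨g, hgC⟩ : Subgroup.centralizer ({x} : Set (SU 3 F 3)))
    rw [Subgroup.orderOf_mk, hg, centralizer_seven hF hx] at this
    norm_num at this
  have hk3 : k ^ 3 % 7 = 1 := by
    have h := hconjk 3
    have hg3 : g ^ 3 = 1 := orderOf_dvd_iff_pow_eq_one.1 (dvd_of_eq hg)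
    rw [hg3, one_mul, inv_one, mul_one] at h
    exact (hmod _ 1 (by rw [pow_one]; exact h.symm))
  have hc : ∀ n : ℕ, IsConj x (x ^ (k ^ n)) := fun n => isConj_iff.2 ⟨g ^ n, hconjk n⟩
  have hc' : ∀ n : ℕ, IsConj x⁻¹ (x ^ (6 * k ^ n)) := fun n => by
    rw [isConj_iff]
    refine ⟨g ^ n, ?_⟩
    rw [← conj_inv, hconjk n, inv_eq_iff_mul_eq_one, ← pow_add,
      show k ^ n + 6 * k ^ n = 7 * k ^ n by ring, pow_mul, ← hx, pow_orderOf_eq_one, one_pow]
  have key : ∀ k j : Fin 7, (k : ℕ) ^ 3 % 7 = 1 → (k : ℕ) ≠ 1 → (j : ℕ) ≠ 0 →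
      ∃ n : Fin 3, (k : ℕ) ^ (n : ℕ) % 7 = j ∨ 6 * (k : ℕ) ^ (n : ℕ) % 7 = j := by decide +kernel
  obtain ⟨⟨n, _⟩, hn⟩ := key ⟨k % 7, Nat.mod_lt _ (by norm_num)⟩
    ⟨j % 7, Nat.mod_lt _ (by norm_num)⟩ (by rwa [Nat.pow_mod, Nat.mod_mod, ← Nat.pow_mod]) hk1
    (fun h => hj (Nat.dvd_of_mod_eq_zero h))
  simp only at hn
  rcases hn with hn | hn
  · refine Or.inl ?_
    have : x ^ (k ^ n) = x ^ j := by
      rw [pow_eq_pow_iff_modEq, hx]
      show k ^ n % 7 = j % 7
      rw [Nat.pow_mod, hn]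
    exact this ▸ hc n
  · refine Or.inr ?_
    have : x ^ (6 * k ^ n) = x ^ j := by
      rw [pow_eq_pow_iff_modEq, hx]
      show 6 * k ^ n % 7 = j % 7
      rw [← hn, Nat.mul_mod, Nat.pow_mod, ← Nat.mul_mod]
    exact this ▸ hc' n

end Cfsg.Agent.DegGraphU33
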