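import Mathlib
import Cfsg.Prelude.Def_DegreeGraph
import Cfsg.Agent.Lib.DegGraphU33Series
import Cfsg.Agent.Lib.DegGraphU33Sylow

/-!
`SU(3,3)` has irreducible character degrees divisible by 6, 14 and 21.
-/

set_option autoImplicit false
set_option linter.unusedSectionVars false

noncomputable section

open scoped ComplexConjugate

namespace Cfsg.Agent.DegGraphU33

open Cfsg.Agent

universe u

/-- A character of norm two is a sum of two irreducible ones. -/
theorem two_split {G : Type u} [Group G] [Fintype G] {s : G → ℂ} (hs : Cfsg.IsCharacter G s)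
    (h : Cfsg.classInner s s = 2) :
    ∃ a b : Cfsg.IrrCharacter G, a ≠ b ∧ s = (a : G → ℂ) + (b : G → ℂ) ∧
      Cfsg.classInner (a : G → ℂ) s = 1 ∧ Cfsg.classInner (b : G → ℂ) s = 1 ∧
      ∀ ψ : Cfsg.IrrCharacter G, Cfsg.classInner (ψ : G → ℂ) s ≠ 0 → ψ = a ∨ ψ = b := by
  classical
  obtain ⟨m, hm, hsum⟩ := CharBasicDecomp.exists_mult hs
  have h2 : ∑ ψ, m ψ * m ψ = 2 := by
    have h3 := CharBasicOrth.classInner_eq_sum (φ := s)
      (CharBasic.isClassFunction_of_isCharacter hs) (ψ := s)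
    simp only [h, hm, map_natCast] at h3
    exact_mod_cast h3.symm
  have hle : ∀ ψ, m ψ ≤ 1 := fun ψ => by
    by_contra hc
    have h4 : m ψ * m ψ ≤ ∑ φ, m φ * m φ :=
      Finset.single_le_sum (f := fun φ => m φ * m φ) (fun φ _ => Nat.zero_le _) (Finset.mem_univ ψ)
    have h5 : 2 * 2 ≤ m ψ * m ψ := Nat.mul_le_mul (by omega) (by omega)
    omega
  have hS : (Finset.univ.filter fun ψ => m ψ = 1).card = 2 := by
    rw [Finset.card_filter, ← h2]
    refine Finset.sum_congr rfl fun ψ _ => ?_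
    rcases Nat.le_one_iff_eq_zero_or_eq_one.1 (hle ψ) with e | e <;> simp [e]
  obtain ⟨a, b, hab, hS'⟩ := Finset.card_eq_two.1 hS
  have hmem : ∀ ψ, m ψ = 1 ↔ ψ = a ∨ ψ = b := fun ψ => by
    have h := Finset.ext_iff.1 hS' ψ
    simpa using h
  have hsym : ∀ ψ : Cfsg.IrrCharacter G, Cfsg.classInner (ψ : G → ℂ) s = (m ψ : ℂ) := fun ψ => by
    rw [← CharInduced.inner_conj_symm, hm, map_natCast]
  refine ⟨a, b, hab, ?_, by rw [hsym, (hmem a).2 (Or.inl rfl), Nat.cast_one],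
    by rw [hsym, (hmem b).2 (Or.inr rfl), Nat.cast_one], fun ψ hψ => ?_⟩
  · have h3 : ∀ ψ, (m ψ : ℂ) • (ψ : G → ℂ) = if ψ = a ∨ ψ = b then (ψ : G → ℂ) else 0 := by
      intro ψ
      split_ifs with hψ
      · rw [(hmem ψ).2 hψ, Nat.cast_one, one_smul]
      · rw [(Nat.le_one_iff_eq_zero_or_eq_one.1 (hle ψ)).resolve_right
          (fun e => hψ ((hmem ψ).1 e)), Nat.cast_zero, zero_smul]
    rw [hsum, Finset.sum_congr rfl fun ψ _ => h3 ψ, ← Finset.sum_filter,
      show Finset.univ.filter (fun ψ => ψ = a ∨ ψ = b) = {a, b} by ext ψ; simp,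
      Finset.sum_pair hab]
  · rw [hsym, Nat.cast_ne_zero] at hψ
    exact (hmem ψ).1 ((Nat.le_one_iff_eq_zero_or_eq_one.1 (hle ψ)).resolve_left hψ)

variable {F : Type*} [Field F] [Fintype F] (R : Frame F)

/-- The degree of an irreducible character. -/
abbrev deg (ψ : Cfsg.IrrCharacter (SU 3 F 3)) : ℕ :=
  Cfsg.charDegree (ψ : SU 3 F 3 → ℂ)

theorem deg_spec (ψ : Cfsg.IrrCharacter (SU 3 F 3)) (hF : Fintype.card F = 9) :
    (ψ : SU 3 F 3 → ℂ) 1 = deg ψ ∧ 0 < deg ψ ∧ deg ψ ∣ 6048 ∧ deg ψ * deg ψ ≤ 6048 := by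
  obtain ⟨n, hn0, hn, hd⟩ := CharBasicInt.exists_apply_one_dvd_card ψ.2
  have h : deg ψ = n := by simp [deg, Cfsg.charDegree, hn]
  rw [card_SU33 hF] at hd
  refine ⟨by rw [h, hn], h ▸ hn0, h ▸ hd, ?_⟩
  have hs := CharBasicOrth.sum_sq_apply_one (G := SU 3 F 3)
  rw [card_SU33 hF] at hs
  choose k hk using fun χ : Cfsg.IrrCharacter (SU 3 F 3) =>
    CharBasicInt.exists_apply_one_dvd_card χ.2
  simp only [(hk _).2.1] at hs
  have hs' : ∑ χ, k χ ^ 2 = 6048 := by exact_mod_cast hs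
  have hk1 : k ψ = n := by
    have := (hk ψ).2.1
    rw [hn] at this
    exact_mod_cast this.symm
  rw [h, ← hk1, ← pow_two, ← hs']
  exact Finset.single_le_sum (f := fun χ => k χ ^ 2) (fun χ _ => Nat.zero_le _) (Finset.mem_univ ψ)

theorem deg_one_eq (hF : Fintype.card F = 9) {ψ : Cfsg.IrrCharacter (SU 3 F 3)} (h : deg ψ = 1) :
    ψ = CharBasicDecomp.trivIrr (SU 3 F 3) := by
  have h1 : (ψ : SU 3 F 3 → ℂ) 1 = 1 := by rw [(deg_spec ψ hF).1, h]; simp
  obtain ⟨l, hl⟩ := CharBasicLinear.exists_hom_of_apply_one_eq_one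
    (CharBasic.isCharacter_of_isIrrCharacter ψ.2) h1
  have htop : commutator (SU 3 F 3) = ⊤ :=
    OrthUnitaryPSU.commutator_eq_top (hcard hF) (le_refl 3) (by norm_num)
  have hl1 : ∀ g, l g = 1 := fun g => by
    have : g ∈ commutator (SU 3 F 3) := htop ▸ Subgroup.mem_top g
    exact MonoidHom.mem_ker.1 (Abelianization.commutator_subset_ker l this)
  apply Subtype.ext
  funext g
  show (ψ : SU 3 F 3 → ℂ) g = 1
  simp [hl, hl1 g]

theorem inner_self_series (i : ℕ) (hi : i < 8) :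
    Cfsg.classInner (series R i) (series R i) = if Even i then 2 else 1 := by
  have key : ∀ i : Fin 8, 8 ∣ 7 * (i : ℕ) + i ∧
      (8 ∣ 7 * (i : ℕ) + 5 * i ↔ Even (i : ℕ)) := by decide +kernel
  obtain ⟨h1, h2⟩ := key ⟨i, hi⟩
  rw [inner_series, if_pos h1]
  by_cases he : Even i
  · rw [if_pos (h2.2 he), if_pos he]; norm_num
  · rw [if_neg (fun x => he (h2.1 x)), if_neg he]; norm_num

theorem sum_inner_series (i : ℕ) (hi : i < 8) :
    ∑ j ∈ Finset.range 8, Cfsg.classInner (series R i) (series R j) = 2 := by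
  have key : ∀ i : Fin 8, ∑ j ∈ Finset.range 8, ((if 8 ∣ 7 * j + (i : ℕ) then 1 else 0) +
      (if 8 ∣ 7 * j + 5 * (i : ℕ) then 1 else 0) : ℕ) = 2 := by decide +kernel
  have h := congrArg (fun n : ℕ => (n : ℂ)) (key ⟨i, hi⟩)
  push_cast at h
  simp only [inner_series]
  exact h

theorem exists_mult_series (ψ : Cfsg.IrrCharacter (SU 3 F 3)) :
    ∃ M : ℕ → ℕ, ∀ i, Cfsg.classInner (ψ : SU 3 F 3 → ℂ) (series R i) = M i := by
  choose M hM using fun i => res_integral R (CharBasic.isCharacter_of_isIrrCharacter ψ.2) i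
  exact ⟨M, hM⟩

/-- The splitting of the reducible members of the series. -/
theorem split_even (i : ℕ) (hi : i < 8) (hev : Even i) (hi0 : i ≠ 0) :
    ∃ a b : Cfsg.IrrCharacter (SU 3 F 3),
      (∀ ψ : Cfsg.IrrCharacter (SU 3 F 3),
        Cfsg.classInner (ψ : SU 3 F 3 → ℂ) (series R i) ≠ 0 → ψ = a ∨ ψ = b) ∧
      ((deg a = 7 ∧ deg b = 21) ∨ (deg a = 21 ∧ deg b = 7)) := by
  have hF := R.card
  obtain ⟨a, b, -, hsum, ha, hb, hall⟩ := two_split (isCharacter_series R i)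
    (by rw [inner_self_series R i hi, if_pos hev])
  refine ⟨a, b, hall, ?_⟩
  have hdeg : deg a + deg b = 28 := by
    have h := congrFun hsum 1
    rw [series_one, Pi.add_apply, (deg_spec a hF).1, (deg_spec b hF).1] at h
    exact_mod_cast h.symm
  have hne1 : ∀ c : Cfsg.IrrCharacter (SU 3 F 3),
      Cfsg.classInner (c : SU 3 F 3 → ℂ) (series R i) = 1 → deg c ≠ 1 := by
    intro c hc h1
    rw [deg_one_eq hF h1] at hc
    have key : ∀ i : Fin 8, (i : ℕ) ≠ 0 → ¬ 8 ∣ 7 * (i : ℕ) := by decide +kernel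
    have h0 : Cfsg.classInner (fun _ : SU 3 F 3 => (1 : ℂ)) (series R i) = 0 := by
      rw [inner_series_one, if_neg (key ⟨i, hi⟩ hi0)]
    exact one_ne_zero (hc.symm.trans h0)
  obtain ⟨Ma, hMa⟩ := exists_mult_series R a
  obtain ⟨Mb, hMb⟩ := exists_mult_series R b
  have hpos : ∀ (c : Cfsg.IrrCharacter (SU 3 F 3)) (M : ℕ → ℕ),
      (∀ j, Cfsg.classInner (c : SU 3 F 3 → ℂ) (series R j) = M j) →
      Cfsg.classInner (c : SU 3 F 3 → ℂ) (series R i) = 1 → 1 ≤ ∑ j ∈ Finset.range 8, M j := by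
    intro c M hM hc
    rw [hM] at hc
    have h1 : M i = 1 := by exact_mod_cast hc
    rw [← h1]
    exact Finset.single_le_sum (fun _ _ => Nat.zero_le _) (Finset.mem_range.2 hi)
  have htot : (∑ j ∈ Finset.range 8, Ma j) + ∑ j ∈ Finset.range 8, Mb j = 2 := by
    have h := sum_inner_series R i hi
    rw [hsum] at h
    simp only [CharBasicOrth.classInner_add_left, Finset.sum_add_distrib, hMa, hMb] at h
    exact_mod_cast h
  have ha1 := hpos a Ma hMa ha
  have hb1 := hpos b Mb hMb hb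
  have hA : ∑ j ∈ Finset.range 8, Ma j = 1 := by omega
  have hB : ∑ j ∈ Finset.range 8, Mb j = 1 := by omega
  have pa := parity R (CharBasic.isCharacter_of_isIrrCharacter a.2) (m := 1) (deg_spec a hF).1
    (by simp only [hMa]; exact_mod_cast hA)
  have pb := parity R (CharBasic.isCharacter_of_isIrrCharacter b.2) (m := 1) (deg_spec b hF).1
    (by simp only [hMb]; exact_mod_cast hB)
  have hpa : (deg a + 1) % 2 = 0 := Nat.even_iff.1 (by exact_mod_cast pa)
  have hpb : (deg b + 1) % 2 = 0 := Nat.even_iff.1 (by exact_mod_cast pb)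
  have key : ∀ d : Fin 28, (d : ℕ) ∣ 6048 → 28 - (d : ℕ) ∣ 6048 → ((d : ℕ) + 1) % 2 = 0 →
      (d : ℕ) ≠ 1 → 28 - (d : ℕ) ≠ 1 → (d : ℕ) = 7 ∨ (d : ℕ) = 21 := by decide +kernel
  have hbpos := (deg_spec b hF).2.1
  have hbd : deg b = 28 - deg a := by omega
  have := key ⟨deg a, by omega⟩ (deg_spec a hF).2.2.1 (hbd ▸ (deg_spec b hF).2.2.1) hpa
    (hne1 a ha) (hbd ▸ hne1 b hb)
  simp only at this
  omega

theorem series_odd (i : ℕ) (hi : i < 8) (hodd : ¬ Even i) :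
    ∃ a : Cfsg.IrrCharacter (SU 3 F 3), deg a = 28 ∧
      ∀ ψ : Cfsg.IrrCharacter (SU 3 F 3),
        Cfsg.classInner (ψ : SU 3 F 3 → ℂ) (series R i) ≠ 0 → ψ = a := by
  have h : Cfsg.IsIrrCharacter (SU 3 F 3) (series R i) :=
    CharBasicDecomp.isIrrCharacter_iff.2
      ⟨isCharacter_series R i, by rw [inner_self_series R i hi, if_neg hodd]⟩
  refine ⟨⟨_, h⟩, ?_, fun ψ hψ => ?_⟩
  · simp [deg, Cfsg.charDegree, series_one]
  · by_contra hne
    exact hψ (CharBasicOrth.classInner_irr_ne ψ.2 h fun e => hne (Subtype.ext e))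

theorem exists_chi27 : ∃ c : Cfsg.IrrCharacter (SU 3 F 3), deg c = 27 ∧
    series R 0 = (CharBasicDecomp.trivIrr (SU 3 F 3) : SU 3 F 3 → ℂ) + (c : SU 3 F 3 → ℂ) ∧
    ∀ ψ : Cfsg.IrrCharacter (SU 3 F 3), Cfsg.classInner (ψ : SU 3 F 3 → ℂ) (series R 0) ≠ 0 →
      ψ = CharBasicDecomp.trivIrr (SU 3 F 3) ∨ ψ = c := by
  have hF := R.card
  obtain ⟨a, b, -, hsum, -, -, hall⟩ := two_split (isCharacter_series R 0)
    (by rw [inner_self_series R 0 (by norm_num), if_pos (by decide)])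
  have h1 : Cfsg.classInner (CharBasicDecomp.trivIrr (SU 3 F 3) : SU 3 F 3 → ℂ) (series R 0) ≠ 0 := by
    show Cfsg.classInner (fun _ : SU 3 F 3 => (1 : ℂ)) (series R 0) ≠ 0
    rw [inner_series_one, if_pos (by norm_num)]
    exact one_ne_zero
  have h28 : (28 : ℂ) = (a : SU 3 F 3 → ℂ) 1 + (b : SU 3 F 3 → ℂ) 1 := by
    rw [← series_one R 0, hsum]; rfl
  rcases hall _ h1 with e | e
  · refine ⟨b, ?_, by rw [e]; exact hsum, fun ψ hψ => e ▸ hall ψ hψ⟩
    rw [← e, show (CharBasicDecomp.trivIrr (SU 3 F 3) : SU 3 F 3 → ℂ) 1 = 1 from rfl,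
      (deg_spec b hF).1] at h28
    have : ((28 : ℕ) : ℂ) = ((1 + deg b : ℕ) : ℂ) := by push_cast; exact h28
    have := Nat.cast_injective this
    omega
  · refine ⟨a, ?_, by rw [e, add_comm]; exact hsum, fun ψ hψ => (e ▸ hall ψ hψ).symm⟩
    rw [← e, show (CharBasicDecomp.trivIrr (SU 3 F 3) : SU 3 F 3 → ℂ) 1 = 1 from rfl,
      (deg_spec a hF).1] at h28
    have : ((28 : ℕ) : ℂ) = ((deg a + 1 : ℕ) : ℂ) := by push_cast; exact h28
    have := Nat.cast_injective this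
    omega

/-- Every odd degree comes from the principal series. -/
theorem odd_degrees {c : Cfsg.IrrCharacter (SU 3 F 3)} (hc : deg c = 27)
    (hc0 : ∀ ψ : Cfsg.IrrCharacter (SU 3 F 3),
      Cfsg.classInner (ψ : SU 3 F 3 → ℂ) (series R 0) ≠ 0 →
      ψ = CharBasicDecomp.trivIrr (SU 3 F 3) ∨ ψ = c)
    (ψ : Cfsg.IrrCharacter (SU 3 F 3)) (h1 : ψ ≠ CharBasicDecomp.trivIrr (SU 3 F 3))
    (h27 : ψ ≠ c) : Even (deg ψ) ∨ deg ψ = 7 ∨ deg ψ = 21 := by
  obtain ⟨M, hM⟩ := exists_mult_series R ψ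
  by_cases hz : ∀ i ∈ Finset.range 8, M i = 0
  · refine Or.inl ?_
    have p := parity R (CharBasic.isCharacter_of_isIrrCharacter ψ.2) (m := 0)
      (deg_spec ψ R.card).1 (by simp only [hM]; rw [Nat.cast_zero]; exact_mod_cast Finset.sum_eq_zero hz)
    simpa using p
  push Not at hz
  obtain ⟨i, hi, hMi⟩ := hz
  have hi8 := Finset.mem_range.1 hi
  have hne : Cfsg.classInner (ψ : SU 3 F 3 → ℂ) (series R i) ≠ 0 := by
    rw [hM]; exact Nat.cast_ne_zero.2 hMi
  by_cases hev : Even i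
  · by_cases hi0 : i = 0
    · subst hi0
      rcases hc0 ψ hne with e | e
      · exact absurd e h1
      · exact absurd e h27
    · obtain ⟨a, b, hall, hd⟩ := split_even R i hi8 hev hi0
      rcases hall ψ hne with rfl | rfl <;> omega
  · obtain ⟨a, ha, hall⟩ := series_odd R i hi8 hev
    refine Or.inl ?_
    rw [hall ψ hne, ha]
    decide

theorem sum_seven {G : Type u} [Group G] {x : G} (hx : orderOf x = 7)
    [Fintype (Subgroup.zpowers x)] (f : G → ℂ) :
    ∑ a : Subgroup.zpowers x, f (a : G) = ∑ j ∈ Finset.range 7, f (x ^ j) := by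
  have hfin : IsOfFinOrder x := orderOf_pos_iff.1 (by omega)
  rw [← Equiv.sum_comp (finEquivZPowers hfin) (fun a : Subgroup.zpowers x => f (a : G)),
    ← hx, Finset.sum_range]
  exact Finset.sum_congr rfl fun j _ => by rw [finEquivZPowers_apply hfin]

/-- A character real on the subgroup of order 7 and constant on its non-identity elements. -/
theorem exists_int_value {G : Type u} [Group G] [Fintype G] {x : G} (hx : orderOf x = 7)
    {θ : G → ℂ} (hθ : Cfsg.IsCharacter G θ) {d : ℕ} (hd : θ 1 = d)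
    (hconst : ∀ j : ℕ, ¬ 7 ∣ j → θ (x ^ j) = θ x) :
    ∃ k : ℤ, θ x = k ∧ (7 : ℤ) ∣ k - d := by
  classical
  let P := Subgroup.zpowers x
  obtain ⟨n, hn⟩ := CharBasicOrth.classInner_isCharacter (G := P)
    (CharBasic.isCharacter_comap P.subtype hθ) CharBasicDecomp.isCharacter_one
  have hcardP : Nat.card P = 7 := by rw [Nat.card_zpowers, hx]
  simp only [Cfsg.classInner, map_one, mul_one, hcardP, Subgroup.coe_subtype] at hn
  rw [show (∑ g : P, (θ ∘ Subtype.val) g) = ∑ g : P, θ (g : G) from rfl, sum_seven hx θ,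
    Finset.sum_range_succ', pow_zero, hd] at hn
  have hsix : ∑ j ∈ Finset.range 6, θ (x ^ (j + 1)) = 6 * θ x := by
    rw [Finset.sum_congr rfl (g := fun _ => θ x) fun j hj => hconst _ (fun h => by
      have := Finset.mem_range.1 hj
      have := Nat.le_of_dvd (by omega) h
      omega)]
    simp
  rw [hsix] at hn
  have heq : 6 * θ x + (d : ℂ) = 7 * n := by
    rw [← hn]; norm_num; ring
  have hrat : θ x = algebraMap ℚ ℂ ((7 * (n : ℚ) - d) / 6) := by
    simp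
    linear_combination heq / 6
  have hint := CharBasic.isCharacter_integral hθ x
  rw [hrat, isIntegral_algebraMap_iff (algebraMap ℚ ℂ).injective,
    IsIntegrallyClosed.isIntegral_iff] at hint
  obtain ⟨k, hk⟩ := hint
  have hk' : θ x = (k : ℂ) := by rw [hrat, ← hk]; simp
  refine ⟨k, hk', ?_⟩
  rw [hk'] at heq
  have h6 : (((6 * k + d : ℤ)) : ℂ) = ((7 * n : ℤ) : ℂ) := by push_cast; exact heq
  have h7 : (6 * k + d : ℤ) = 7 * n := Int.cast_injective h6
  exact ⟨k - n, by omega⟩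

include R in
/-- A degree divisible by six. -/
theorem exists_six : ∃ ψ : Cfsg.IrrCharacter (SU 3 F 3), 6 ∣ deg ψ := by
  classical
  by_contra hno
  push Not at hno
  have hF := R.card
  haveI : Fact (Nat.Prime 7) := ⟨by norm_num⟩
  obtain ⟨x, hx⟩ := exists_prime_orderOf_dvd_card' (G := SU 3 F 3) 7
    (by rw [card_SU33 hF]; norm_num)
  set t := CharBasicDecomp.trivIrr (SU 3 F 3)
  obtain ⟨c, hc, hser, hc0⟩ := exists_chi27 R
  have hchar : ∀ χ : Cfsg.IrrCharacter (SU 3 F 3),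
      Cfsg.IsCharacter (SU 3 F 3) (χ : SU 3 F 3 → ℂ) :=
    fun χ => CharBasic.isCharacter_of_isIrrCharacter χ.2
  have hsymm : ∀ θ : SU 3 F 3 → ℂ, Cfsg.IsClassFunction (SU 3 F 3) θ →
      (∀ g, θ g⁻¹ = θ g) → ∀ j : ℕ, ¬ 7 ∣ j → θ (x ^ j) = θ x := by
    intro θ hθ hinv j hj
    rcases fusion_seven hF hx j hj with h | h
    · exact (CharBasic.apply_eq_of_isConj hθ h).symm
    · rw [← CharBasic.apply_eq_of_isConj hθ h, hinv]
  have hinv : ∀ (χ : Cfsg.IrrCharacter (SU 3 F 3)) g,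
      (χ : SU 3 F 3 → ℂ) g⁻¹ = conj ((χ : SU 3 F 3 → ℂ) g) :=
    fun χ g => CharBasic.isCharacter_inv (hchar χ) g
  have hU : ∀ χ : Cfsg.IrrCharacter (SU 3 F 3), ∃ u : ℤ,
      (χ : SU 3 F 3 → ℂ) x + conj ((χ : SU 3 F 3 → ℂ) x) = u ∧ (7 : ℤ) ∣ u - 2 * deg χ := by
    intro χ
    have hθ := CharBasicDecomp.isCharacter_add (hchar χ)
      (CharBasicDecomp.isCharacter_conj (hchar χ))
    have hd1 : ((χ : SU 3 F 3 → ℂ) + fun g => conj ((χ : SU 3 F 3 → ℂ) g)) 1 =
        ((2 * deg χ : ℕ) : ℂ) := by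
      simp [(deg_spec χ hF).1, two_mul]
    obtain ⟨k, hk, hdvd⟩ := exists_int_value hx hθ hd1
      (hsymm _ (CharBasic.isClassFunction_of_isCharacter hθ) fun g => by
        simp [hinv, add_comm])
    exact ⟨k, hk, by push_cast at hdvd; exact hdvd⟩
  have hV : ∀ χ : Cfsg.IrrCharacter (SU 3 F 3), ∃ v : ℤ,
      (χ : SU 3 F 3 → ℂ) x * conj ((χ : SU 3 F 3 → ℂ) x) = v ∧ 0 ≤ v ∧
        (7 : ℤ) ∣ v - deg χ * deg χ := by
    intro χ
    have hθ := CharBasicDecomp.isCharacter_mul (hchar χ)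
      (CharBasicDecomp.isCharacter_conj (hchar χ))
    have hd1 : ((χ : SU 3 F 3 → ℂ) * fun g => conj ((χ : SU 3 F 3 → ℂ) g)) 1 =
        ((deg χ * deg χ : ℕ) : ℂ) := by
      simp [(deg_spec χ hF).1]
    obtain ⟨k, hk, hdvd⟩ := exists_int_value hx hθ hd1
      (hsymm _ (CharBasic.isClassFunction_of_isCharacter hθ) fun g => by
        simp [hinv, mul_comm])
    refine ⟨k, hk, ?_, by push_cast at hdvd; exact hdvd⟩
    have h2 : (k : ℂ) = ((Complex.normSq ((χ : SU 3 F 3 → ℂ) x) : ℝ) : ℂ) :=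
      hk.symm.trans (Complex.mul_conj _)
    have h3 : (k : ℝ) = Complex.normSq ((χ : SU 3 F 3 → ℂ) x) := by exact_mod_cast h2
    exact_mod_cast h3 ▸ Complex.normSq_nonneg _
  choose u hu hu7 using hU
  choose v hv hv0 hv7 using hV
  have hle : ∀ χ, u χ * u χ ≤ 4 * v χ ∧
      ((χ : SU 3 F 3 → ℂ) x = conj ((χ : SU 3 F 3 → ℂ) x) → u χ * u χ = 4 * v χ) := by
    intro χ
    set z := (χ : SU 3 F 3 → ℂ) x with hz
    have h1 : ((u χ * u χ - 4 * v χ : ℤ) : ℂ) = (z - conj z) * (z - conj z) := by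
      push_cast
      rw [← hu χ, ← hv χ, ← hz]
      ring
    refine ⟨?_, fun h => ?_⟩
    · have h2 : ((u χ * u χ - 4 * v χ : ℤ) : ℝ) ≤ 0 := by
        have h3 := congrArg Complex.re h1
        simp only [Complex.intCast_re, Complex.mul_re, Complex.sub_re, Complex.conj_re,
          Complex.sub_im, Complex.conj_im, sub_self, zero_mul, zero_sub] at h3
        rw [h3]
        nlinarith [mul_self_nonneg (z.im - -z.im)]
      have h4 : u χ * u χ - 4 * v χ ≤ 0 := by exact_mod_cast h2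
      omega
    · rw [← h, sub_self, mul_zero] at h1
      have : u χ * u χ - 4 * v χ = 0 := by exact_mod_cast h1
      omega
  have hnc : ¬ IsConj (1 : SU 3 F 3) x := fun h => by
    have h1 : x = 1 := by
      obtain ⟨g, hg⟩ := isConj_iff.1 h
      rw [← hg]
      group
    rw [h1, orderOf_one] at hx
    norm_num at hx
  have hsumv : ∑ χ, v χ = 7 := by
    have h := CharBasicOrth.sum_irr_mul_conj x x
    rw [if_pos (IsConj.refl x), centralizer_seven hF hx] at h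
    simp only [hv] at h
    have h' : ((∑ χ, v χ : ℤ) : ℂ) = ((7 : ℤ) : ℂ) := by push_cast; exact h
    exact Int.cast_injective h'
  have hsumu : ∑ χ, (deg χ : ℤ) * u χ = 0 := by
    have h := CharBasicOrth.sum_irr_mul_conj 1 x
    rw [if_neg hnc] at h
    simp only [(deg_spec _ hF).1] at h
    have h2 := congrArg conj h
    simp only [map_sum, map_mul, map_natCast, Complex.conj_conj, map_zero] at h2
    have h3 : ((∑ χ, (deg χ : ℤ) * u χ : ℤ) : ℂ) = ((0 : ℤ) : ℂ) := by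
      push_cast
      simp only [← hu, mul_add, Finset.sum_add_distrib, h, h2, add_zero]
    exact Int.cast_injective h3
  have htu : u t = 2 ∧ v t = 1 ∧ deg t = 1 := by
    have h1 : (t : SU 3 F 3 → ℂ) x = 1 := rfl
    have a := hu t
    have b := hv t
    rw [h1] at a b
    norm_num at a b
    refine ⟨by exact_mod_cast a.symm, by exact_mod_cast b.symm, ?_⟩
    simp [deg, Cfsg.charDegree, t, CharBasicDecomp.trivIrr]
  have hcx : (c : SU 3 F 3 → ℂ) x = -1 := by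
    have h0 : series R 0 x = 0 := by
      refine CharInduced.ind_eq_zero_of_not_conj _ _ _ fun g hg => ?_
      have h1 := orderOf_dvd_natCard (⟨g⁻¹ * x * g, hg⟩ : lineStab R.e)
      rw [card_lineStab, Subgroup.orderOf_mk,
        show g⁻¹ * x * g = MulAut.conj g⁻¹ x by simp, MulEquiv.orderOf_eq, hx] at h1
      norm_num at h1
    rw [hser, Pi.add_apply, show (t : SU 3 F 3 → ℂ) x = 1 from rfl] at h0
    linear_combination h0
  have hcu : u c = -2 ∧ v c = 1 := by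
    have a := hu c
    have b := hv c
    rw [hcx] at a b
    norm_num at a b
    exact ⟨by exact_mod_cast a.symm, by exact_mod_cast b.symm⟩
  have htc : t ≠ c := fun e => by rw [e] at htu; omega
  set S := (Finset.univ.erase t).erase c with hS
  have hsplit : ∀ f : Cfsg.IrrCharacter (SU 3 F 3) → ℤ, ∑ χ, f χ = f t + f c + ∑ χ ∈ S, f χ := by
    intro f
    rw [← Finset.add_sum_erase _ _ (Finset.mem_univ t),
      ← Finset.add_sum_erase _ _ (Finset.mem_erase.2 ⟨htc.symm, Finset.mem_univ c⟩), hS]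
    ring
  have hv5 : ∀ χ ∈ S, v χ ≤ 5 := by
    intro χ hχ
    have h := hsplit v
    rw [hsumv, htu.2.1, hcu.2] at h
    have h1 : v χ ≤ ∑ ψ ∈ S, v ψ := Finset.single_le_sum (fun ψ _ => hv0 ψ) hχ
    omega
  set T : Cfsg.IrrCharacter (SU 3 F 3) → ℤ := fun χ => (deg χ : ℤ) * u χ - 16 * v χ with hT
  have hTsum : ∑ χ ∈ S, T χ = -28 := by
    have h := hsplit T
    have hall : ∑ χ, T χ = -112 := by
      simp only [hT, Finset.sum_sub_distrib, ← Finset.mul_sum, hsumv, hsumu]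
      norm_num
    have ht' : T t = -14 := by simp only [hT, htu.1, htu.2.1, htu.2.2]; norm_num
    have hc' : T c = -70 := by simp only [hT, hcu.1, hcu.2, hc]; norm_num
    omega
  have key : ∀ d : Fin 78, ((d : ℕ) ∣ 6048 ∧ ¬ 6 ∣ (d : ℕ) ∧
      ((d : ℕ) % 2 = 0 ∨ (d : ℕ) = 7 ∨ (d : ℕ) = 21)) → ∀ w : Fin 6, ∀ y : Fin 9,
      (7 : ℤ) ∣ ((y : ℕ) : ℤ) - 4 - 2 * ((d : ℕ) : ℤ) →
      (7 : ℤ) ∣ ((w : ℕ) : ℤ) - (d : ℕ) * (d : ℕ) →
      (((y : ℕ) : ℤ) - 4) * (((y : ℕ) : ℤ) - 4) ≤ 4 * ((w : ℕ) : ℤ) →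
      ((d : ℕ) : ℤ) * (((y : ℕ) : ℤ) - 4) - 16 * ((w : ℕ) : ℤ) = 0 ∨
      ((d : ℕ) : ℤ) * (((y : ℕ) : ℤ) - 4) - 16 * ((w : ℕ) : ℤ) ≤ -56 ∨
      ((d : ℕ) = 4 ∧ (w : ℕ) = 2 ∧ (y : ℕ) = 5) := by decide +kernel
  have hcases : ∀ χ ∈ S, T χ = 0 ∨ T χ ≤ -56 ∨ (deg χ = 4 ∧ v χ = 2 ∧ u χ = 1 ∧ T χ = -28) := by
    intro χ hχ
    rw [hS, Finset.mem_erase, Finset.mem_erase] at hχ
    have hd := deg_spec χ hF
    have hd78 : deg χ < 78 := by
      by_contra h
      have := Nat.mul_le_mul (le_of_not_gt h) (le_of_not_gt h)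
      omega
    have hsh : deg χ % 2 = 0 ∨ deg χ = 7 ∨ deg χ = 21 := by
      rcases odd_degrees R hc hc0 χ hχ.2.1 hχ.1 with h | h | h
      · exact Or.inl (Nat.even_iff.1 h)
      · exact Or.inr (Or.inl h)
      · exact Or.inr (Or.inr h)
    have hv' := hv5 χ (by rw [hS]; simp [hχ])
    have hv0' := hv0 χ
    obtain ⟨hub, -⟩ := hle χ
    have hu4 : -4 ≤ u χ ∧ u χ ≤ 4 := by constructor <;> nlinarith
    have hk := key ⟨deg χ, hd78⟩ ⟨hd.2.2.1, hno χ, hsh⟩ ⟨(v χ).toNat, by omega⟩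
      ⟨(u χ + 4).toNat, by omega⟩
    simp only at hk
    rw [Int.toNat_of_nonneg hv0', Int.toNat_of_nonneg (show 0 ≤ u χ + 4 by omega),
      show u χ + 4 - 4 = u χ by ring] at hk
    rcases hk (hu7 χ) (hv7 χ) hub with h | h | ⟨h1, h2, h3⟩
    · exact Or.inl h
    · exact Or.inr (Or.inl h)
    · have h2' : v χ = 2 := by omega
      have h3' : u χ = 1 := by omega
      exact Or.inr (Or.inr ⟨h1, h2', h3', by simp only [hT, h1, h2', h3']; norm_num⟩)
  have hnonpos : ∀ χ ∈ S, T χ ≤ 0 := fun χ hχ => by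
    rcases hcases χ hχ with h | h | h <;> omega
  by_cases hall : ∀ χ ∈ S, T χ = 0
  · rw [Finset.sum_eq_zero hall] at hTsum
    norm_num at hTsum
  push Not at hall
  obtain ⟨χ, hχ, hne⟩ := hall
  rcases hcases χ hχ with h | h | ⟨h1, h2, h3, h4⟩
  · exact hne h
  · have hsub := Finset.sum_le_sum_of_subset_of_nonpos' (Finset.singleton_subset_iff.2 hχ)
      (fun ψ hψ _ => hnonpos ψ hψ) (f := T)
    rw [Finset.sum_singleton] at hsub
    omega
  · let χ' : Cfsg.IrrCharacter (SU 3 F 3) := ⟨_, CharBasicDecomp.isIrrCharacter_conj χ.2⟩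
    have hne' : χ ≠ χ' := fun e => by
      have h5 := (hle χ).2 (congrArg (fun ψ : Cfsg.IrrCharacter (SU 3 F 3) =>
        (ψ : SU 3 F 3 → ℂ) x) e)
      rw [h2, h3] at h5
      norm_num at h5
    have hd' : deg χ' = deg χ := by simp [deg, Cfsg.charDegree, χ']
    have hu' : u χ' = u χ := by
      have a := hu χ'
      have e : (χ' : SU 3 F 3 → ℂ) x = conj ((χ : SU 3 F 3 → ℂ) x) := rfl
      rw [e, Complex.conj_conj, add_comm, hu χ] at a
      exact_mod_cast a.symm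
    have hv' : v χ' = v χ := by
      have a := hv χ'
      have e : (χ' : SU 3 F 3 → ℂ) x = conj ((χ : SU 3 F 3 → ℂ) x) := rfl
      rw [e, Complex.conj_conj, mul_comm, hv χ] at a
      exact_mod_cast a.symm
    have hχ' : χ' ∈ S := by
      rw [hS, Finset.mem_erase, Finset.mem_erase]
      refine ⟨fun e => ?_, fun e => ?_, Finset.mem_univ _⟩
      · rw [e, hc, h1] at hd'; omega
      · rw [e, htu.2.2, h1] at hd'; omega
    have h4' : T χ' = -28 := by simp only [hT, hd', hu', hv', h1, h2, h3]; norm_num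
    have hsub := Finset.sum_le_sum_of_subset_of_nonpos'
      (show ({χ, χ'} : Finset _) ⊆ S from Finset.insert_subset hχ
        (Finset.singleton_subset_iff.2 hχ'))
      (fun ψ hψ _ => hnonpos ψ hψ) (f := T)
    rw [Finset.sum_pair hne'] at hsub
    omega

/-- The three edges. -/
theorem degrees_SU33 (hF : Fintype.card F = 9) :
    (∃ d ∈ Cfsg.charDegrees (SU 3 F 3), 6 ∣ d) ∧ (∃ d ∈ Cfsg.charDegrees (SU 3 F 3), 14 ∣ d) ∧
      (∃ d ∈ Cfsg.charDegrees (SU 3 F 3), 21 ∣ d) := by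
  classical
  obtain ⟨v, hv0, hv⟩ : ∃ v : Fin 3 → F, v ≠ 0 ∧ hf v v = 0 := by
    have h := card_iso hF
    have : Nonempty {v : Fin 3 → F // v ≠ 0 ∧ hf v v = 0} :=
      (Nat.card_pos_iff.1 (by omega)).1
    exact ⟨_, this.some.2⟩
  obtain ⟨R, -⟩ := exists_frame_at hF hv0 hv
  obtain ⟨ψ, h6⟩ := exists_six R
  obtain ⟨a, b, -, hd⟩ := split_even R 2 (by norm_num) even_two (by norm_num)
  obtain ⟨e, he, -⟩ := series_odd R 1 (by norm_num) (by decide)
  refine ⟨⟨_, ⟨ψ, rfl⟩, h6⟩, ⟨_, ⟨e, rfl⟩, by rw [show Cfsg.charDegree _ = deg e from rfl, he]; norm_num⟩,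
    ?_⟩
  rcases hd with ⟨-, h⟩ | ⟨h, -⟩
  · exact ⟨_, ⟨b, rfl⟩, by rw [show Cfsg.charDegree _ = deg b from rfl, h]⟩
  · exact ⟨_, ⟨a, rfl⟩, by rw [show Cfsg.charDegree _ = deg a from rfl, h]⟩

end Cfsg.Agent.DegGraphU33
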