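import Mathlib
import Cfsg.Prelude.Def_DegreeGraph
import Cfsg.Agent.Lib.CharInducedBasic
import Cfsg.Agent.Lib.CharInducedRep
import Cfsg.Agent.Lib.CharBasicDecomp
import Cfsg.Agent.Lib.CharBasicInt

/-!
A solvable group of order 6048 with an irreducible character of degree 42, and the shape of the
character degree graph of a group of order 6048 having degrees divisible by 6, 14 and 21.
-/

set_option autoImplicit false

noncomputable section

namespace Cfsg.Agent.DegGraphWitness

open Cfsg.Agent

universe u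

/-- The degree graph of a group of order 6048 with all three edges. -/
theorem graph_of_degrees {G : Type u} [Group G] [Finite G] (hG : Nat.card G = 6048)
    (h6 : ∃ d ∈ Cfsg.charDegrees G, 6 ∣ d) (h14 : ∃ d ∈ Cfsg.charDegrees G, 14 ∣ d)
    (h21 : ∃ d ∈ Cfsg.charDegrees G, 21 ∣ d) :
    Cfsg.degreePrimes G = {2, 3, 7} ∧ ∀ p q : ℕ, (Cfsg.degreeGraph G).Adj p q ↔
      p ≠ q ∧ p ∈ ({2, 3, 7} : Set ℕ) ∧ q ∈ ({2, 3, 7} : Set ℕ) := by
  have hcases : ∀ p : ℕ, p.Prime → p ∣ 6048 → p ∈ ({2, 3, 7} : Set ℕ) := by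
    intro p hp hd
    have h : p ∣ 2 ^ 5 * (3 ^ 3 * 7) := by norm_num; exact hd
    rcases hp.dvd_mul.1 h with h1 | h1
    · exact Or.inl ((Nat.prime_dvd_prime_iff_eq hp Nat.prime_two).1 (hp.dvd_of_dvd_pow h1))
    rcases hp.dvd_mul.1 h1 with h2 | h2
    · exact Or.inr (Or.inl
        ((Nat.prime_dvd_prime_iff_eq hp Nat.prime_three).1 (hp.dvd_of_dvd_pow h2)))
    · exact Or.inr (Or.inr ((Nat.prime_dvd_prime_iff_eq hp (by norm_num)).1 h2))
  have hsub : ∀ p : ℕ, p.Prime → (∃ d ∈ Cfsg.charDegrees G, p ∣ d) → p ∈ ({2, 3, 7} : Set ℕ) := by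
    rintro p hp ⟨d, ⟨χ, rfl⟩, hpd⟩
    obtain ⟨n, -, hn, hnd⟩ := CharBasicInt.exists_apply_one_dvd_card χ.2
    have : Cfsg.charDegree (χ : G → ℂ) = n := by simp [Cfsg.charDegree, hn]
    rw [this] at hpd
    exact hcases p hp (hG ▸ hpd.trans hnd)
  obtain ⟨a, ha, ha'⟩ := h6
  obtain ⟨b, hb, hb'⟩ := h14
  obtain ⟨c, hc, hc'⟩ := h21
  refine ⟨?_, fun p q => ?_⟩
  · ext p
    refine ⟨fun h => hsub p h.1 h.2, ?_⟩
    rintro (rfl | rfl | rfl)
    · exact ⟨Nat.prime_two, a, ha, (by norm_num : (2 : ℕ) ∣ 6).trans ha'⟩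
    · exact ⟨Nat.prime_three, a, ha, (by norm_num : (3 : ℕ) ∣ 6).trans ha'⟩
    · exact ⟨by norm_num, b, hb, (by norm_num : (7 : ℕ) ∣ 14).trans hb'⟩
  · constructor
    · rintro ⟨hne, hp, hq, d, hd, hdd⟩
      exact ⟨hne, hsub p hp ⟨d, hd, (Dvd.intro q rfl).trans hdd⟩,
        hsub q hq ⟨d, hd, (Dvd.intro_left p rfl).trans hdd⟩⟩
    · rintro ⟨hne, hp, hq⟩
      rcases hp with rfl | rfl | rfl <;> rcases hq with rfl | rfl | rfl <;>
        first
        | exact absurd rfl hne
        | exact ⟨hne, by norm_num, by norm_num, a, ha, by norm_num at ha' ⊢; exact ha'⟩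
        | exact ⟨hne, by norm_num, by norm_num, b, hb, by norm_num at hb' ⊢; exact hb'⟩
        | exact ⟨hne, by norm_num, by norm_num, c, hc, by norm_num at hc' ⊢; exact hc'⟩

/-- The abelian normal subgroup, additively. -/
abbrev V : Type := (ZMod 2 × ZMod 2 × ZMod 2) × (ZMod 3 × ZMod 3) × ZMod 2

/-- Its automorphism of order 42. -/
def sigma : V ≃+ V where
  toFun v := ((v.1.2.2, v.1.1 + v.1.2.2, v.1.2.1), (-(v.2.1.1 + v.2.1.2), -v.2.1.2), v.2.2)
  invFun v := ((v.1.2.1 + v.1.1, v.1.2.2, v.1.1), (-v.2.1.1 + v.2.1.2, -v.2.1.2), v.2.2)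
  left_inv := by decide +kernel
  right_inv := by decide +kernel
  map_add' := by
    rintro ⟨⟨a, b, c⟩, ⟨x, y⟩, z⟩ ⟨⟨a', b', c'⟩, ⟨x', y'⟩, z'⟩
    simp only [Prod.mk_add_mk, Prod.mk.injEq]
    exact ⟨⟨trivial, by abel, trivial⟩, ⟨by abel, by abel⟩, trivial⟩

/-- The exponent of the chosen character. -/
def expo (v : V) : ZMod 6 := 3 * (v.1.1.val : ZMod 6) + 2 * (v.2.1.1.val : ZMod 6)

theorem expo_add : ∀ v w : V, expo (v + w) = expo v + expo w := by
  rintro ⟨⟨a, b, c⟩, ⟨x, y⟩, z⟩ ⟨⟨a', b', c'⟩, ⟨x', y'⟩, z'⟩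
  have h1 : ∀ a a' : ZMod 2, (3 : ZMod 6) * ((a + a').val : ZMod 6) =
      3 * (a.val : ZMod 6) + 3 * (a'.val : ZMod 6) := by decide
  have h2 : ∀ a a' : ZMod 3, (2 : ZMod 6) * ((a + a').val : ZMod 6) =
      2 * (a.val : ZMod 6) + 2 * (a'.val : ZMod 6) := by decide
  simp only [expo, Prod.mk_add_mk, h1, h2]
  abel

/-- The automorphism on the multiplicative copy. -/
def sig : MulAut (Multiplicative V) := AddEquiv.toMultiplicative sigma

theorem sig_pow (n : ℕ) (v : Multiplicative V) :
    ((sig ^ n) v).toAdd = sigma^[n] v.toAdd := by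
  induction n with
  | zero => rfl
  | succ n ih =>
    rw [pow_succ', MulAut.mul_apply, Function.iterate_succ_apply', ← ih]
    rfl

theorem sig_order : orderOf sig = 42 := by
  have h42 : ∀ v : V, sigma^[42] v = v := by decide +kernel
  have hne : ∀ m ∈ ({21, 14, 6} : Finset ℕ), ∃ v : V, sigma^[m] v ≠ v := by decide +kernel
  have hpow : sig ^ 42 = 1 := by
    refine MulEquiv.ext fun v => ?_
    exact Multiplicative.toAdd.injective (by rw [sig_pow]; exact h42 _)
  have hnot : ∀ m ∈ ({21, 14, 6} : Finset ℕ), sig ^ m ≠ 1 := by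
    intro m hm h
    obtain ⟨v, hv⟩ := hne m hm
    have := sig_pow m (Multiplicative.ofAdd v)
    rw [h] at this
    exact hv this.symm
  refine orderOf_eq_of_pow_and_pow_div_prime (by norm_num) hpow fun p hp hd => ?_
  have h2 : p ∈ Nat.divisors 42 := Nat.mem_divisors.2 ⟨hd, by norm_num⟩
  have h3 : ∀ p ∈ Nat.divisors 42, p = 2 ∨ p = 3 ∨ p = 7 ∨ ¬ p.Prime := by decide +kernel
  rcases h3 p h2 with rfl | rfl | rfl | h
  · exact hnot _ (by decide)
  · exact hnot _ (by decide)
  · exact hnot _ (by decide)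
  · exact absurd hp h

/-- The cyclic group of order 42. -/
abbrev C : Subgroup (MulAut (Multiplicative V)) := Subgroup.zpowers sig

/-- The solvable group. -/
abbrev H : Type := Multiplicative V ⋊[C.subtype] C

/-- A character of degree 42 in a solvable group of order 6048. -/
theorem exists_witness : ∃ (H : Type) (_ : Group H) (_ : Fintype H), Group.IsSolvable H ∧
    Nat.card H = 6048 ∧ 42 ∈ Cfsg.charDegrees H := by
  classical
  have hC : Nat.card C = 42 := by rw [Nat.card_zpowers, sig_order]
  haveI : Finite C := Nat.finite_of_card_ne_zero (by omega)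
  haveI : Finite H := Finite.of_equiv _ SemidirectProduct.equivProd.symm
  letI : Fintype H := Fintype.ofFinite H
  have hcardV : Nat.card (Multiplicative V) = 144 := by
    rw [Nat.card_congr Multiplicative.toAdd]
    simp [Nat.card_prod]
  have hH : Nat.card H = 6048 := by rw [SemidirectProduct.card, hcardV, hC]
  let π : H →* C := SemidirectProduct.rightHom
  have hsolv : Group.IsSolvable H := by
    letI : CommGroup C :=
      { (inferInstance : Group C) with
        mul_comm := fun a b => (Subgroup.zpowers_isMulCommutative sig).is_comm.comm a b }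
    haveI : Group.IsSolvable C := inferInstance
    exact Group.isSolvable_of_ker_le_range (SemidirectProduct.inl : Multiplicative V →* H) π
      SemidirectProduct.range_inl_eq_ker_rightHom.ge
  refine ⟨H, inferInstance, inferInstance, hsolv, hH, ?_⟩
  let N : Subgroup H := π.ker
  have hNcard : Nat.card N = 144 := by
    have : N = (SemidirectProduct.inl : Multiplicative V →* H).range :=
      SemidirectProduct.range_inl_eq_ker_rightHom.symm
    rw [this, ← hcardV]
    exact (Nat.card_congr (MonoidHom.ofInjective SemidirectProduct.inl_injective).toEquiv).symm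
  have hNind : N.index = 42 := by
    have := N.card_mul_index
    rw [hH, hNcard] at this
    omega
  let z : ℂˣ := (Complex.isPrimitiveRoot_exp 6 (by norm_num)).isUnit (by norm_num) |>.unit
  have hz : IsPrimitiveRoot z 6 := by
    rw [← IsPrimitiveRoot.coe_units_iff]
    exact Complex.isPrimitiveRoot_exp 6 (by norm_num)
  have hzadd : ∀ a b : ZMod 6, z ^ (a + b).val = z ^ a.val * z ^ b.val := fun a b => by
    rw [← pow_add, ← pow_mod_orderOf z (a.val + b.val), ← hz.eq_orderOf, ZMod.val_add]
  have hmem : ∀ n : N, (n : H).right = 1 := fun n => n.2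
  let ψ : N →* ℂˣ :=
    { toFun := fun n => z ^ (expo (n : H).left.toAdd).val
      map_one' := by simp [expo]
      map_mul' := fun a b => by
        have hl : ((a * b : N) : H).left = (a : H).left * (b : H).left := by
          show ((a : H) * (b : H)).left = _
          rw [SemidirectProduct.mul_left, hmem a, map_one, MulAut.one_apply]
        rw [hl, toAdd_mul, expo_add, hzadd] }
  let θ : N → ℂ := fun n => (ψ n : ℂ)
  have hθ : Cfsg.IsIrrCharacter N θ := CharBasicDecomp.isIrrCharacter_linear ψ
  haveI : Fintype N := Fintype.ofFinite N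
  haveI hNn : N.Normal := MonoidHom.normal_ker π
  have hconj : ∀ x : H, (CharInduced.conjFun N θ x = θ ↔ x ∈ N) := by
    intro x
    refine ⟨fun h => ?_, fun h => CharInduced.conjFun_mem_eq N
      (CharBasic.isClassFunction_of_isCharacter
        (CharBasic.isCharacter_of_isIrrCharacter hθ)) h⟩
    obtain ⟨k, hk⟩ := mem_powers_iff_mem_zpowers.2 x.right.2
    have hord : ∀ k < 42, (∀ v : V, expo (sigma^[k] v) = expo v) → k = 0 := by decide +kernel
    have hk2 : sig ^ (k % 42) = (x.right : MulAut (Multiplicative V)) := by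
      rw [← sig_order, pow_mod_orderOf]; exact hk
    have hall : ∀ v : V, expo (sigma^[k % 42] v) = expo v := by
      intro v
      let n : N := ⟨SemidirectProduct.inl (Multiplicative.ofAdd v),
        SemidirectProduct.rightHom_inl _⟩
      have h1 := congrFun h n
      have h2 : z ^ (expo (sigma^[k % 42] v)).val = z ^ (expo v).val := by
        have h3 : (x * (n : H) * x⁻¹).left.toAdd = sigma^[k % 42] v := by
          have h4 : (x * (n : H) * x⁻¹).left =
              (x.right : MulAut (Multiplicative V)) (Multiplicative.ofAdd v) := by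
            show (x * SemidirectProduct.inl (Multiplicative.ofAdd v) * x⁻¹).left =
              C.subtype x.right (Multiplicative.ofAdd v)
            simp only [SemidirectProduct.mul_left, SemidirectProduct.mul_right,
              SemidirectProduct.inv_left, SemidirectProduct.left_inl, SemidirectProduct.right_inl,
              mul_one]
            rw [← MulAut.mul_apply, ← map_mul C.subtype x.right x.right⁻¹, mul_inv_cancel, map_one,
              MulAut.one_apply, mul_comm (x.left) _, mul_assoc, mul_inv_cancel, mul_one]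
          rw [h4, ← hk2, sig_pow]
          rfl
        have h1' : ψ ⟨x * (n : H) * x⁻¹, hNn.conj_mem n n.2 x⟩ = ψ n := Units.ext h1
        simp only [ψ, MonoidHom.coe_mk, OneHom.coe_mk] at h1'
        rw [h3] at h1'
        simpa [n] using h1'
      exact ZMod.val_injective 6 (hz.pow_inj (ZMod.val_lt _) (ZMod.val_lt _) h2)
    have h0 := hord (k % 42) (Nat.mod_lt _ (by norm_num)) hall
    rw [h0, pow_zero] at hk2
    exact MonoidHom.mem_ker.2 (Subtype.ext hk2.symm)
  have hirr : Cfsg.IsIrrCharacter H (Cfsg.indFun N θ) := by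
    rw [CharBasicDecomp.isIrrCharacter_iff]
    refine ⟨CharInduced.isCharacter_ind N (CharBasic.isCharacter_of_isIrrCharacter hθ), ?_⟩
    rw [CharInduced.inner_ind_ind_normal]
    have hsum : ∀ x : H, Cfsg.classInner (CharInduced.conjFun N θ x) θ
        = if x ∈ N then 1 else 0 := by
      intro x
      have hl : Cfsg.IsIrrCharacter N (CharInduced.conjFun N θ x) := by
        have := CharBasicDecomp.isIrrCharacter_linear
          (ψ.comp (MulAut.conjNormal x : N ≃* N).toMonoidHom)
        convert this using 1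
        funext n
        simp only [CharInduced.conjFun, θ, MonoidHom.comp_apply]
        exact congrArg (fun m : N => (ψ m : ℂ)) (Subtype.ext (MulAut.conjNormal_apply x n).symm)
      split_ifs with hx
      · rw [(hconj x).2 hx, CharBasicOrth.classInner_irr_self hθ]
      · exact CharBasicOrth.classInner_irr_ne hl hθ fun e => hx ((hconj x).1 e)
    rw [Finset.sum_congr rfl fun x _ => hsum x, Finset.sum_boole, hNcard]
    have : (Finset.univ.filter fun x : H => x ∈ N).card = 144 := by
      rw [← hNcard, Nat.card_eq_fintype_card, Fintype.card_subtype]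
    rw [this]
    norm_num
  refine ⟨⟨_, hirr⟩, ?_⟩
  show Cfsg.charDegree (Cfsg.indFun N θ) = 42
  rw [Cfsg.charDegree, CharInduced.ind_one_apply, hNind]
  simp [θ]

end Cfsg.Agent.DegGraphWitness
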