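import Cfsg.Agent.Lib.PermPrimeDegree

/-!
Coordinates for a transitive group of prime degree: Sylow subgroups and their normalizers.
-/

namespace Cfsg.Agent.PrimeDegreeCoord

open Cfsg.Agent

universe u

variable {p : ℕ} [hp : Fact p.Prime] {α : Type u}

/-- An element normalising the translations is affine. -/
theorem affine_of_normalizes [Finite α] {t : Equiv.Perm α} (e : ZMod p ≃ α)
    (he : ∀ x : ZMod p, e (x + 1) = t (e x)) {g : Equiv.Perm α}
    (hg : g * t * g⁻¹ ∈ Subgroup.zpowers t) :
    ∃ a b : ZMod p, a ≠ 0 ∧ ∀ x, g (e x) = e (a * x + b) := by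
  obtain ⟨i, hi⟩ := (isOfFinOrder_of_finite t).mem_powers_iff_mem_zpowers.2 hg
  have hi' : t ^ i = g * t * g⁻¹ := hi
  have hstep : ∀ x : ZMod p, g (e (x + 1)) = e (e.symm (g (e x)) + (i : ZMod p)) := by
    intro x
    rw [← PermPrimeDegree.translation_pow he, Equiv.apply_symm_apply, hi', he]
    simp
  have hall : ∀ n : ℕ, g (e (n : ZMod p)) = e ((i : ZMod p) * n + e.symm (g (e 0))) := by
    intro n
    induction n with
    | zero => simp
    | succ n ih => rw [Nat.cast_succ, hstep, ih, Equiv.symm_apply_apply]; ring_nf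
  refine ⟨(i : ZMod p), e.symm (g (e 0)), ?_, fun x => ?_⟩
  · intro h0
    have h1 := hstep 0
    rw [h0, add_zero, Equiv.apply_symm_apply, zero_add] at h1
    exact one_ne_zero (e.injective (g.injective h1))
  · have := hall x.val
    rwa [ZMod.natCast_zmod_val] at this

/-- The number of affine maps of the prime field. -/
theorem card_affineGroup : Nat.card (Cfsg.affineGroup (ZMod p)) = p * (p - 1) := by
  let f : ZMod p × (ZMod p)ˣ → Cfsg.affineGroup (ZMod p) := fun v =>
    ⟨(Units.mulLeft v.2).trans (Equiv.addRight v.1), v.2, v.1, fun x => rfl⟩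
  have hf : Function.Bijective f := by
    constructor
    · rintro ⟨b, a⟩ ⟨b', a'⟩ h
      have h0 := DFunLike.congr_fun (congrArg Subtype.val h) 0
      have h1 := DFunLike.congr_fun (congrArg Subtype.val h) 1
      simp [f] at h0 h1
      subst h0
      rw [add_left_inj, Units.val_inj] at h1
      rw [h1]
    · rintro ⟨σ, a, b, h⟩
      exact ⟨(b, a), Subtype.ext (Equiv.ext fun x => (h x).symm)⟩
  rw [← Nat.card_eq_of_bijective f hf, Nat.card_prod, Nat.card_zmod, Nat.card_eq_fintype_card,
    ZMod.card_units_eq_totient, Nat.totient_prime hp.out]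

/-- A group of affine maps has order dividing `p * (p - 1)`. -/
theorem card_dvd_of_affine (N : Subgroup (Equiv.Perm α)) (e : ZMod p ≃ α)
    (h : ∀ g ∈ N, ∃ a b : ZMod p, a ≠ 0 ∧ ∀ x, g (e x) = e (a * x + b)) :
    Nat.card N ∣ p * (p - 1) := by
  rw [← card_affineGroup]
  let φ : N →* Cfsg.affineGroup (ZMod p) :=
    MonoidHom.codRestrict ((e.symm.permCongrHom).toMonoidHom.comp N.subtype) _ (by
      intro g
      obtain ⟨a, b, ha, hab⟩ := h g g.2
      refine ⟨Units.mk0 a ha, b, fun x => ?_⟩
      change e.symm ((g : Equiv.Perm α) (e x)) = a * x + b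
      rw [hab, Equiv.symm_apply_apply])
  refine Subgroup.card_dvd_of_injective φ fun g g' hgg => ?_
  apply Subtype.ext
  exact (e.symm.permCongrHom).injective (congrArg Subtype.val hgg :)

/-- `p ^ 2` does not divide the order of a group of permutations of `p` points. -/
theorem not_sq_dvd_card [Finite α] (hα : Nat.card α = p) (G : Subgroup (Equiv.Perm α)) :
    ¬ p ^ 2 ∣ Nat.card G := by
  intro h
  have h1 : Nat.card G ∣ p.factorial := by
    have := Subgroup.card_subgroup_dvd_card G
    rwa [Nat.card_perm, hα] at this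
  have h2 := (hp.out.pow_dvd_iff_le_factorization (Nat.factorial_ne_zero p)).mp (h.trans h1)
  have h3 : ¬ p ∣ (p - 1).factorial := fun h' => by
    have := hp.out.dvd_factorial.mp h'
    have := hp.out.pos
    omega
  rw [← Nat.mul_factorial_pred hp.out.ne_zero, Nat.factorization_mul hp.out.ne_zero
    (Nat.factorial_ne_zero _), Finsupp.add_apply, hp.out.factorization_self,
    Nat.factorization_eq_zero_of_not_dvd h3] at h2
  omega

/-- The subgroup of translations is a Sylow subgroup, so a Sylow subgroup has order `p`. -/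
theorem card_sylow [Finite α] (hα : Nat.card α = p) (G : Subgroup (Equiv.Perm α))
    [MulAction.IsPretransitive G α] (P : Sylow p G) : Nat.card P = p := by
  obtain ⟨k, hk⟩ := (IsPGroup.iff_card (p := p)).mp P.isPGroup'
  have hdvd : p ∣ Nat.card G := by
    have : Nonempty α := (Nat.card_pos_iff.1 (hα ▸ hp.out.pos)).1
    exact hα ▸ PermBasic.card_dvd_of_transitive (G := G) (X := α)
  have h1 : p ^ 1 ∣ Nat.card P := P.pow_dvd_card_of_pow_dvd_card (n := 1) (by rwa [pow_one])
  have hk' : Nat.card P = p ^ k := hk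
  have h1' : 1 ≤ k := by
    rw [hk'] at h1
    exact Nat.pow_dvd_pow_iff_le_right hp.out.one_lt |>.mp h1
  have h2' : k < 2 := by
    by_contra hc
    apply not_sq_dvd_card hα G
    exact (pow_dvd_pow p (not_lt.mp hc)).trans (hk' ▸ Subgroup.card_subgroup_dvd_card _)
  rw [hk', show k = 1 by omega, pow_one]

/-- The normalizer of a Sylow subgroup of prime degree has order dividing `p * (p - 1)`. -/
theorem card_normalizer_dvd [Finite α] (hα : Nat.card α = p) (G : Subgroup (Equiv.Perm α))
    [MulAction.IsPretransitive G α] (P : Sylow p G) :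
    Nat.card (Subgroup.normalizer ((P : Subgroup G) : Set G)) ∣ p * (p - 1) := by
  obtain ⟨t, htG, ht, e, he⟩ := PermPrimeDegree.exists_translation hα G
  let T : Sylow p G := Sylow.ofCard (Subgroup.zpowers ⟨t, htG⟩) (by
    rw [Nat.card_zpowers, ← Subgroup.orderOf_coe, ← P.card_eq_multiplicity, card_sylow hα G P]
    exact ht)
  have key : Nat.card (Subgroup.normalizer ((T : Subgroup G) : Set G)) ∣ p * (p - 1) := by
    rw [← Subgroup.card_map_of_injective G.subtype_injective]
    refine card_dvd_of_affine _ e ?_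
    rintro _ ⟨g, hg, rfl⟩
    apply affine_of_normalizes e he
    have h1 : g * ⟨t, htG⟩ * g⁻¹ ∈ (T : Subgroup G) :=
      (Subgroup.mem_normalizer_iff.mp hg _).mp (Subgroup.mem_zpowers _)
    obtain ⟨k, hk⟩ := h1
    exact ⟨k, congrArg Subtype.val hk⟩
  have e1 : (Subgroup.normalizer ((P : Subgroup G) : Set G)).index =
      (Subgroup.normalizer ((T : Subgroup G) : Set G)).index :=
    P.card_eq_index_normalizer.symm.trans T.card_eq_index_normalizer
  have h2 := Subgroup.card_mul_index (Subgroup.normalizer ((P : Subgroup G) : Set G))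
  rw [e1, ← Subgroup.card_mul_index (Subgroup.normalizer ((T : Subgroup G) : Set G))] at h2
  rwa [Nat.eq_of_mul_eq_mul_right (Nat.pos_of_ne_zero Subgroup.index_ne_zero_of_finite) h2]

/-- If a Sylow normalizer has even order, some element of `G` is negation in suitable
coordinates. -/
theorem exists_inversion [Finite α] (hp2 : p ≠ 2) (hα : Nat.card α = p)
    (G : Subgroup (Equiv.Perm α)) [MulAction.IsPretransitive G α] (P : Sylow p G)
    (heven : Even (Nat.card (Subgroup.normalizer ((P : Subgroup G) : Set G)))) :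
    ∃ (t i : G) (e : ZMod p ≃ α), orderOf t = p ∧
      (∀ x : ZMod p, e (x + 1) = (t : Equiv.Perm α) (e x)) ∧
      ∀ x : ZMod p, (i : Equiv.Perm α) (e x) = e (-x) := by
  obtain ⟨t₀, htG, ht₀, e₀, he₀⟩ := PermPrimeDegree.exists_translation hα G
  let t : G := ⟨t₀, htG⟩
  have ht : orderOf t = p := by rw [← Subgroup.orderOf_coe]; exact ht₀
  let T : Sylow p G := Sylow.ofCard (Subgroup.zpowers t) (by
    rw [Nat.card_zpowers, ← P.card_eq_multiplicity, card_sylow hα G P]
    exact ht)
  have hNT : Even (Nat.card (Subgroup.normalizer ((T : Subgroup G) : Set G))) := by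
    have e1 : (Subgroup.normalizer ((P : Subgroup G) : Set G)).index =
        (Subgroup.normalizer ((T : Subgroup G) : Set G)).index :=
      P.card_eq_index_normalizer.symm.trans T.card_eq_index_normalizer
    have h2 := Subgroup.card_mul_index (Subgroup.normalizer ((P : Subgroup G) : Set G))
    rw [e1, ← Subgroup.card_mul_index (Subgroup.normalizer ((T : Subgroup G) : Set G))] at h2
    rwa [Nat.eq_of_mul_eq_mul_right (Nat.pos_of_ne_zero Subgroup.index_ne_zero_of_finite) h2] at heven
  have : Fact (Nat.Prime 2) := ⟨Nat.prime_two⟩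
  obtain ⟨⟨i, hiN⟩, hio⟩ := exists_prime_orderOf_dvd_card' 2 (even_iff_two_dvd.mp hNT)
  rw [← Subgroup.orderOf_coe] at hio
  change orderOf i = 2 at hio
  have hi2 : i * i = 1 := by rw [← pow_two, ← hio, pow_orderOf_eq_one]
  obtain ⟨a, b, ha, hab⟩ := affine_of_normalizes e₀ he₀
    (g := (i : Equiv.Perm α)) (by
      obtain ⟨k, hk⟩ := (Subgroup.mem_normalizer_iff.mp hiN t).mp (Subgroup.mem_zpowers t)
      exact ⟨k, congrArg Subtype.val hk⟩)
  have hcomp : ∀ x : ZMod p, a * (a * x + b) + b = x := fun x => by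
    apply e₀.injective
    rw [← hab, ← hab, ← Equiv.Perm.mul_apply, ← Subgroup.coe_mul, hi2]
    rfl
  have two : (2 : ZMod p) ≠ 0 := Ring.two_ne_zero (by rw [ringChar.eq (ZMod p) p]; exact hp2)
  have ha1 : a = -1 := by
    have h1 : a * a = 1 := by linear_combination hcomp 1 - hcomp 0
    rcases mul_self_eq_one_iff.mp h1 with rfl | h
    · exfalso
      have h0 := hcomp 0
      have hb : b = 0 := by
        have : (2 : ZMod p) * b = 0 := by linear_combination h0
        exact (mul_eq_zero.mp this).resolve_left two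
      have : i = 1 := Subtype.ext (Equiv.ext fun y => by
        obtain ⟨x, rfl⟩ := e₀.surjective y
        rw [hab, hb, one_mul, add_zero]; rfl)
      rw [this, orderOf_one] at hio
      omega
    · exact h
  subst ha1
  refine ⟨t, i, (Equiv.addRight (b / 2)).trans e₀, ht, fun x => ?_, fun x => ?_⟩
  · change e₀ (x + 1 + b / 2) = t₀ (e₀ (x + b / 2))
    rw [← he₀, add_right_comm]
  · change (i : Equiv.Perm α) (e₀ (x + b / 2)) = e₀ (-x + b / 2)
    rw [hab]
    congr 1
    field_simp
    ring

end Cfsg.Agent.PrimeDegreeCoord
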