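import Cfsg.Agent.Lib.PermPrimeDegree

/-!
Translation-invariant spaces of functions on `ZMod p` in characteristic `p`, and the heart of the
permutation module of a transitive group of prime degree.
-/

namespace Cfsg.Agent.TranslationModules

open Polynomial Cfsg.Agent

variable {p : ℕ} [hp : Fact p.Prime] {K : Type*} [Field K] [CharP K p]

/-- The embedding of the prime field. -/
def emb (p : ℕ) (K : Type*) [Field K] [CharP K p] : ZMod p →+* K := ZMod.castHom dvd_rfl K

/-- Evaluation of polynomials on the prime field. -/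
noncomputable def ev (p : ℕ) (K : Type*) [Field K] [CharP K p] : K[X] →ₗ[K] (ZMod p → K) where
  toFun Q := fun j => Q.eval (emb p K j)
  map_add' Q R := funext fun j => eval_add
  map_smul' c Q := funext fun j => by simp

/-- The polynomial functions of degree less than `r`. -/
noncomputable def P (p : ℕ) (K : Type*) [Field K] [CharP K p] (r : ℕ) :
    Submodule K (ZMod p → K) :=
  (degreeLT K r).map (ev p K)

theorem ev_apply (Q : K[X]) (j : ZMod p) : ev p K Q j = Q.eval (emb p K j) := rfl

theorem mem_P {r : ℕ} {f : ZMod p → K} :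
    f ∈ P p K r ↔ ∃ Q : K[X], Q.degree < r ∧ ∀ j, f j = Q.eval (emb p K j) := by
  simp only [P, Submodule.mem_map, mem_degreeLT]
  constructor
  · rintro ⟨Q, hQ, rfl⟩; exact ⟨Q, hQ, fun j => rfl⟩
  · rintro ⟨Q, hQ, h⟩; exact ⟨Q, hQ, funext fun j => (h j).symm⟩

theorem ev_inj {Q R : K[X]} (hQ : Q.degree < p) (hR : R.degree < p) (h : ev p K Q = ev p K R) :
    Q = R := by
  classical
  rw [← sub_eq_zero]
  have hdeg : (Q - R).degree < p := lt_of_le_of_lt (degree_sub_le Q R) (max_lt hQ hR)
  by_contra hne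
  have hle : Fintype.card (ZMod p) ≤ (Q - R).natDegree := by
    rw [← Finset.card_univ, ← Finset.card_map ⟨emb p K, (emb p K).injective⟩]
    refine card_le_degree_of_subset_roots fun x hx => ?_
    simp only [Finset.mem_val, Finset.mem_map, Finset.mem_univ, true_and,
      Function.Embedding.coeFn_mk] at hx
    obtain ⟨j, rfl⟩ := hx
    rw [mem_roots hne, IsRoot, eval_sub, sub_eq_zero]
    exact congrFun h j
  rw [ZMod.card] at hle
  rw [← natDegree_lt_iff_degree_lt hne] at hdeg
  omega

theorem finrank_P {r : ℕ} (hr : r ≤ p) : Module.finrank K (P p K r) = r := by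
  have hinj : Function.Injective ((ev p K).comp (degreeLT K r).subtype) := fun Q R h =>
    Subtype.ext (ev_inj (lt_of_lt_of_le (mem_degreeLT.mp Q.2) (Nat.cast_le.mpr hr))
      (lt_of_lt_of_le (mem_degreeLT.mp R.2) (Nat.cast_le.mpr hr)) h)
  rw [P, ← Submodule.range_subtype (degreeLT K r), ← LinearMap.range_comp,
    LinearMap.finrank_range_of_inj hinj, (degreeLTEquiv K r).finrank_eq, Module.finrank_fin_fun]

theorem P_top : P p K p = ⊤ := by
  apply Submodule.eq_top_of_finrank_eq
  rw [finrank_P le_rfl, Module.finrank_pi, ZMod.card]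

theorem exists_poly (f : ZMod p → K) : ∃ Q : K[X], Q.degree < p ∧ f = ev p K Q := by
  obtain ⟨Q, hQ, h⟩ := mem_P.mp (show f ∈ P p K p from (P_top (p := p) (K := K)).symm ▸ Submodule.mem_top)
  exact ⟨Q, hQ, funext h⟩

/-- A translation-invariant space containing a polynomial function of degree `m < p` contains
all of lower degree. -/
theorem P_le_of_mem (W : Submodule K (ZMod p → K))
    (hW : ∀ f ∈ W, (fun j => f (j - 1)) ∈ W) :
    ∀ m : ℕ, m < p → ∀ Q : K[X], Q.natDegree = m → Q.coeff m ≠ 0 → ev p K Q ∈ W →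
      P p K (m + 1) ≤ W := by
  intro m
  induction m with
  | zero =>
    intro _ Q hdeg hne hQ f hf
    obtain ⟨R, hR, hfR⟩ := mem_P.mp hf
    have hQc := eq_C_of_natDegree_eq_zero hdeg
    have hRd : R.natDegree = 0 := by
      rcases eq_or_ne R 0 with rfl | hR0
      · simp
      · rw [← natDegree_lt_iff_degree_lt hR0] at hR; omega
    have hRc := eq_C_of_natDegree_eq_zero hRd
    have : f = (R.coeff 0 / Q.coeff 0) • ev p K Q := funext fun j => by
      rw [Pi.smul_apply, smul_eq_mul, ev_apply, hfR j, hRc, hQc]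
      simp only [eval_C, coeff_C_zero]
      rw [div_mul_cancel₀ _ hne]
    rw [this]
    exact W.smul_mem _ hQ
  | succ m ih =>
    intro hm Q hdeg hne hQ f hf
    -- the difference has degree exactly `m`
    set D : K[X] := Q - taylor (-1) Q with hD
    have hDm : D.coeff m = ((m + 1 : ℕ) : K) * Q.coeff (m + 1) := by
      have h1 : (hasseDeriv m Q).natDegree ≤ 1 := by
        refine (natDegree_hasseDeriv_le Q m).trans ?_
        omega
      rw [hD, coeff_sub, taylor_coeff, eq_X_add_C_of_natDegree_le_one h1]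
      simp only [eval_add, eval_mul, eval_C, eval_X, hasseDeriv_coeff, zero_add, Nat.choose_self]
      rw [show (1 + m).choose m = m + 1 by rw [add_comm, Nat.choose_succ_self_right]]
      rw [add_comm 1 m]
      push_cast
      ring
    have hDhigh : ∀ i, m < i → D.coeff i = 0 := by
      intro i hi
      rw [hD, coeff_sub]
      rcases lt_or_eq_of_le (Nat.succ_le_of_lt hi) with h | h
      · rw [coeff_eq_zero_of_natDegree_lt (by omega),
          coeff_eq_zero_of_natDegree_lt (by rw [natDegree_taylor]; omega), sub_zero]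
      · rw [taylor_coeff]
        have h1 : (hasseDeriv i Q).natDegree = 0 := by
          have := natDegree_hasseDeriv_le Q i
          omega
        rw [eq_C_of_natDegree_eq_zero h1, eval_C, hasseDeriv_coeff, zero_add, Nat.choose_self,
          Nat.cast_one, one_mul, sub_self]
    have hDne : D.coeff m ≠ 0 := by
      rw [hDm]
      refine mul_ne_zero ?_ hne
      rw [Ne, CharP.cast_eq_zero_iff K p]
      intro h
      exact absurd (Nat.le_of_dvd (Nat.succ_pos m) h) (not_le.mpr hm)
    have hDdeg : D.natDegree = m :=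
      le_antisymm (natDegree_le_iff_coeff_eq_zero.mpr fun i hi => hDhigh i hi)
        (le_natDegree_of_ne_zero hDne)
    have hDW : ev p K D ∈ W := by
      have : ev p K D = ev p K Q - fun j => ev p K Q (j - 1) := funext fun j => by
        simp [ev_apply, hD, taylor_eval, sub_eq_add_neg]
      rw [this]
      exact W.sub_mem hQ (hW _ hQ)
    have hlow := ih (Nat.lt_of_succ_lt hm) D hDdeg hDne hDW
    obtain ⟨R, hR, hfR⟩ := mem_P.mp hf
    set c := R.coeff (m + 1) / Q.coeff (m + 1) with hc
    have hdiff : (R - c • Q).degree < ((m + 1 : ℕ) : WithBot ℕ) := by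
      rw [degree_lt_iff_coeff_zero]
      intro i hi
      rcases lt_or_eq_of_le hi with h | h
      · rw [coeff_sub, coeff_smul, coeff_eq_zero_of_natDegree_lt (by omega : Q.natDegree < i),
          smul_zero, sub_zero]
        exact coeff_eq_zero_of_degree_lt (lt_of_lt_of_le hR (Nat.cast_le.mpr (Nat.succ_le_of_lt h)))
      · rw [← h, coeff_sub, coeff_smul, smul_eq_mul, hc, div_mul_cancel₀ _ hne, sub_self]
    have hfe : f = ev p K (R - c • Q) + c • ev p K Q := by
      rw [map_sub, map_smul, sub_add_cancel]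
      exact funext hfR
    rw [hfe]
    exact W.add_mem (hlow (mem_P.mpr ⟨_, hdiff, fun j => rfl⟩)) (W.smul_mem _ hQ)

/-- The translation-invariant spaces of functions on `ZMod p`. -/
theorem invariant_eq_P (W : Submodule K (ZMod p → K))
    (hW : ∀ f ∈ W, (fun j => f (j - 1)) ∈ W) : ∃ r ≤ p, W = P p K r := by
  classical
  by_cases hbot : W = ⊥
  · refine ⟨0, Nat.zero_le _, ?_⟩
    rw [hbot, eq_comm, eq_bot_iff]
    intro f hf
    obtain ⟨Q, hQ, h⟩ := mem_P.mp hf
    have : Q = 0 := degree_eq_bot.mp ((Nat.WithBot.lt_zero_iff).mp (by simpa using hQ))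
    subst this
    exact (Submodule.mem_bot K).mpr (funext fun j => by simp [h j])
  let S : Set ℕ := {m | m < p ∧ ∃ Q : K[X], Q.natDegree = m ∧ Q.coeff m ≠ 0 ∧ ev p K Q ∈ W}
  have hSne : S.Nonempty := by
    obtain ⟨f, hf, hf0⟩ := (Submodule.ne_bot_iff _).mp hbot
    obtain ⟨Q, hQ, rfl⟩ := exists_poly f
    have hQ0 : Q ≠ 0 := fun h => hf0 (by simp [h])
    exact ⟨Q.natDegree, (natDegree_lt_iff_degree_lt hQ0).mpr hQ, Q, rfl,
      leadingCoeff_ne_zero.mpr hQ0, hf⟩
  have hSfin : S.Finite := (Set.finite_lt_nat p).subset fun m hm => hm.1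
  obtain ⟨m, ⟨hmp, Q, hQd, hQc, hQW⟩, hmax⟩ := hSfin.exists_maximalFor id S hSne
  refine ⟨m + 1, hmp, le_antisymm ?_ (P_le_of_mem W hW m hmp Q hQd hQc hQW)⟩
  intro f hf
  obtain ⟨R, hR, rfl⟩ := exists_poly f
  refine mem_P.mpr ⟨R, ?_, fun j => rfl⟩
  rcases eq_or_ne R 0 with rfl | hR0
  · simp [bot_lt_iff_ne_bot]
  · rw [← natDegree_lt_iff_degree_lt hR0, Nat.lt_succ_iff]
    have hmem : R.natDegree ∈ S :=
      ⟨(natDegree_lt_iff_degree_lt hR0).mpr hR, R, rfl, leadingCoeff_ne_zero.mpr hR0, hf⟩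
    by_contra hlt
    push Not at hlt
    have h' : R.natDegree ≤ m := hmax hmem (le_of_lt hlt)
    omega

theorem sum_eval (Q : K[X]) (hQ : Q.natDegree < p) :
    ∑ j : ZMod p, Q.eval (emb p K j) = - Q.coeff (p - 1) := by
  have hsum : ∀ i < p, ∑ j : ZMod p, (emb p K j) ^ i = if i = p - 1 then -1 else 0 := by
    intro i hi
    have h : ∑ j : ZMod p, j ^ i = if i = p - 1 then (-1 : ZMod p) else 0 := by
      split_ifs with h
      · subst h
        have hne := hp.out.two_le
        rw [← Finset.sum_erase_add _ _ (Finset.mem_univ (0 : ZMod p)), zero_pow (by omega),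
          add_zero]
        rw [Finset.sum_congr rfl fun j hj => ZMod.pow_card_sub_one_eq_one (Finset.mem_erase.mp hj).1]
        simp [ZMod.card, Nat.cast_sub hp.out.one_le]
      · apply FiniteField.sum_pow_lt_card_sub_one
        rw [ZMod.card]; omega
    simp only [← map_pow, ← map_sum, h]
    split_ifs <;> simp
  simp only [eval_eq_sum_range' hQ]
  rw [Finset.sum_comm]
  simp only [← Finset.mul_sum]
  rw [Finset.sum_eq_single (p - 1)]
  · rw [hsum _ (by have := hp.out.pos; omega), if_pos rfl, mul_neg, mul_one]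
  · intro i hi hne
    rw [hsum i (Finset.mem_range.mp hi), if_neg hne, mul_zero]
  · intro h
    exfalso
    exact h (Finset.mem_range.mpr (by have := hp.out.pos; omega))

theorem sum_mul_eq_zero {r : ℕ} {f h : ZMod p → K} (hf : f ∈ P p K r) (hh : h ∈ P p K (p - r)) :
    ∑ j, f j * h j = 0 := by
  obtain ⟨Q, hQ, hfQ⟩ := mem_P.mp hf
  obtain ⟨R, hR, hhR⟩ := mem_P.mp hh
  rcases eq_or_ne (Q * R) 0 with h0 | h0
  · refine Finset.sum_eq_zero fun j _ => ?_
    rw [hfQ, hhR, ← eval_mul, h0, eval_zero]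
  · have hQ0 : Q ≠ 0 := left_ne_zero_of_mul h0
    have hR0 : R ≠ 0 := right_ne_zero_of_mul h0
    rw [← natDegree_lt_iff_degree_lt hQ0] at hQ
    rw [← natDegree_lt_iff_degree_lt hR0] at hR
    have hd : (Q * R).natDegree < p - 1 := by
      rw [natDegree_mul hQ0 hR0]; omega
    simp only [hfQ, hhR, ← eval_mul]
    rw [sum_eval _ (by omega), coeff_eq_zero_of_natDegree_lt hd, neg_zero]

theorem mem_P_of_orthogonal {r : ℕ} {h : ZMod p → K}
    (horth : ∀ f ∈ P p K r, ∑ j, f j * h j = 0) : h ∈ P p K (p - r) := by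
  obtain ⟨R, hR, rfl⟩ := exists_poly h
  refine mem_P.mpr ⟨R, ?_, fun j => rfl⟩
  rcases eq_or_ne R 0 with rfl | hR0
  · simp [bot_lt_iff_ne_bot]
  rw [← natDegree_lt_iff_degree_lt hR0] at hR ⊢
  by_contra hc
  push Not at hc
  have h0 := horth (ev p K (X ^ (p - 1 - R.natDegree)))
    (mem_P.mpr ⟨_, by rw [degree_X_pow]; exact Nat.cast_lt.mpr (by omega), fun j => rfl⟩)
  simp only [ev_apply, ← eval_mul] at h0
  have hnd : (X ^ (p - 1 - R.natDegree) * R).natDegree = p - 1 := by
    rw [natDegree_X_pow_mul _ hR0]; omega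
  rw [sum_eval _ (by omega), neg_eq_zero] at h0
  have hl : (X ^ (p - 1 - R.natDegree) * R).leadingCoeff = 0 := by
    rw [leadingCoeff, hnd]; exact h0
  exact mul_ne_zero (pow_ne_zero _ X_ne_zero) hR0 (leadingCoeff_eq_zero.mp hl)

/-- A permutation of the prime field pulling back the polynomial functions of degree less than
`r` to themselves, `2 ≤ r ≤ p - 2`, is affine. -/
theorem affine_of_preserves_P {r : ℕ} (hr2 : 2 ≤ r) (hrp : r + 2 ≤ p) (π : Equiv.Perm (ZMod p))
    (hπ : ∀ f ∈ P p K r, f ∘ π ∈ P p K r) (hπ' : ∀ f ∈ P p K r, f ∘ π.symm ∈ P p K r) :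
    ∃ a b : ZMod p, a ≠ 0 ∧ ∀ x, π x = a * x + b := by
  classical
  have hdual : ∀ h ∈ P p K (p - r), h ∘ π ∈ P p K (p - r) := by
    intro h hh
    apply mem_P_of_orthogonal
    intro f hf
    have := sum_mul_eq_zero (hπ' f hf) hh
    rw [← this]
    exact Fintype.sum_equiv π _ _ (fun j => by simp)
  obtain ⟨s, hs2, hsp, hs⟩ : ∃ s, 2 ≤ s ∧ 2 * (s - 1) < p - 1 ∧
      ∀ f ∈ P p K s, f ∘ π ∈ P p K s := by
    rcases le_or_gt (2 * r) p with h | h
    · exact ⟨r, hr2, by omega, hπ⟩
    · exact ⟨p - r, by omega, by omega, hdual⟩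
  have hid : ev p K X ∈ P p K s :=
    mem_P.mpr ⟨X, by rw [degree_X]; exact_mod_cast hs2, fun j => rfl⟩
  obtain ⟨Q, hQ, hQe⟩ := mem_P.mp (hs _ hid)
  have hQe' : ∀ j, emb p K (π j) = Q.eval (emb p K j) := fun j => by
    rw [← hQe j]; simp [ev_apply]
  have hm : Q.natDegree ≤ 1 := by
    by_contra hm
    push Not at hm
    have hQ0 : Q ≠ 0 := fun h => by rw [h, natDegree_zero] at hm; omega
    rw [← natDegree_lt_iff_degree_lt hQ0] at hQ
    set m := Q.natDegree with hmdef
    set k := (s - 1) / m + 1 with hk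
    have hk1 : m * k ≤ (s - 1) + m := by
      have := Nat.mul_div_le (s - 1) m
      rw [hk, Nat.mul_add, mul_one]; omega
    have hk2 : s ≤ m * k := by
      have := Nat.lt_mul_div_succ (s - 1) (show 0 < m by omega)
      rw [hk]; omega
    have hks : k < s := by
      have : (s - 1) / m ≤ (s - 1) / 2 := Nat.div_le_div_left (by omega) (by omega)
      rw [hk]; omega
    have hXk : ev p K (X ^ k) ∈ P p K s :=
      mem_P.mpr ⟨X ^ k, by rw [degree_X_pow]; exact Nat.cast_lt.mpr hks, fun j => rfl⟩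
    obtain ⟨R, hR, hRe⟩ := mem_P.mp (hs _ hXk)
    have heq : Q ^ k = R := by
      refine ev_inj (p := p) ?_ (lt_of_lt_of_le hR (Nat.cast_le.mpr (by omega))) ?_
      · rw [degree_pow, degree_eq_natDegree hQ0, ← hmdef]
        rw [show k • (m : WithBot ℕ) = ((k * m : ℕ) : WithBot ℕ) by simp]
        exact Nat.cast_lt.mpr (by rw [mul_comm]; omega)
      · funext j
        rw [ev_apply, ev_apply, ← hRe j, eval_pow, ← hQe' j]
        simp [ev_apply]
    have hR0 : R ≠ 0 := heq ▸ pow_ne_zero k hQ0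
    rw [← natDegree_lt_iff_degree_lt hR0, ← heq, natDegree_pow, ← hmdef, mul_comm] at hR
    omega
  have hlin := eq_X_add_C_of_natDegree_le_one hm
  have key : ∀ x, π x = (π 1 - π 0) * x + π 0 := by
    intro x
    apply (emb p K).injective
    have e0 := hQe' 0
    have e1 := hQe' 1
    rw [hlin] at e0 e1
    simp only [eval_add, eval_mul, eval_C, eval_X, map_zero, map_one, mul_zero, zero_add,
      mul_one] at e0 e1
    rw [hQe' x, hlin, map_add, map_mul, map_sub, e0, e1]
    simp
  refine ⟨π 1 - π 0, π 0, ?_, key⟩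
  intro h
  exact one_ne_zero (π.injective (sub_eq_zero.mp h))

/-- The heart of the permutation module of a non-solvable transitive group of prime degree is
irreducible. -/
theorem heart_irreducible {α : Type*} [Fintype α] (hα : Nat.card α = p)
    (G : Subgroup (Equiv.Perm α)) [MulAction.IsPretransitive G α] (hG : ¬ Group.IsSolvable G)
    (W : Subrepresentation (Cfsg.permRep K G α))
    (h₁ : (Cfsg.permConstants K G α).toSubmodule ≤ W.toSubmodule)
    (h₂ : W.toSubmodule ≤ (Cfsg.permSumZero K G α).toSubmodule) :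
    W = Cfsg.permConstants K G α ∨ W = Cfsg.permSumZero K G α := by
  classical
  obtain ⟨t, htG, -, e, he⟩ := PermPrimeDegree.exists_translation hα G
  let pb : (α → K) →ₗ[K] (ZMod p → K) := LinearMap.funLeft K K e
  let W' : Submodule K (ZMod p → K) := W.toSubmodule.map pb
  have hmem : ∀ f : α → K, f ∈ W.toSubmodule ↔ pb f ∈ W' := fun f => by
    refine ⟨Submodule.mem_map_of_mem, ?_⟩
    rintro ⟨f', hf', h⟩
    rwa [LinearMap.funLeft_injective_of_surjective K K e e.surjective h] at hf'
  have hlift : ∀ u : ZMod p → K, pb (u ∘ e.symm) = u := fun u => funext fun j => by simp [pb]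
  have hact : ∀ (g : G), ∀ u ∈ W',
      (fun j => u (e.symm ((g : Equiv.Perm α).symm (e j)))) ∈ W' := by
    rintro g _ ⟨f, hf, rfl⟩
    refine ⟨_, W.apply_mem_toSubmodule g hf, funext fun j => ?_⟩
    simp only [pb, LinearMap.funLeft_apply, Equiv.apply_symm_apply]
    rfl
  have htrans : ∀ u ∈ W', (fun j => u (j - 1)) ∈ W' := by
    intro u hu
    convert hact ⟨t, htG⟩ u hu using 1
    funext j
    congr 1
    apply e.injective
    rw [Equiv.apply_symm_apply, Equiv.eq_symm_apply]
    rw [← he, sub_add_cancel]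
  obtain ⟨r, hrp, hW'⟩ := invariant_eq_P W' htrans
  have hone : (fun _ => (1 : K)) ∈ W' :=
    ⟨fun _ => 1, h₁ (Submodule.mem_span_singleton_self _), rfl⟩
  have hsum : ∀ u ∈ W', ∑ j, u j = 0 := by
    rintro _ ⟨f, hf, rfl⟩
    have h0 : ∑ x, f x = 0 := h₂ hf
    rw [← h0]
    exact Fintype.sum_equiv e _ _ fun j => rfl
  have hr1 : 1 ≤ r := by
    by_contra h
    obtain rfl : r = 0 := by omega
    rw [hW'] at hone
    obtain ⟨Q, hQ, hQe⟩ := mem_P.mp hone
    have : Q = 0 := degree_eq_bot.mp ((Nat.WithBot.lt_zero_iff).mp (by simpa using hQ))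
    simpa [this] using hQe 0
  have hr2 : r < p := by
    by_contra h
    have h0 := hsum (Pi.single 0 1) (by rw [hW', show r = p by omega, P_top]; trivial)
    simp at h0
  by_cases hlo : r = 1
  · refine Or.inl (Subrepresentation.toSubmodule_injective (le_antisymm (fun f hf => ?_) h₁))
    obtain ⟨Q, hQ, hQe⟩ := mem_P.mp (show pb f ∈ P p K 1 by rw [← hlo, ← hW']; exact (hmem f).mp hf)
    have hQd : Q.natDegree = 0 := by
      rcases eq_or_ne Q 0 with rfl | h0
      · simp
      · rw [← natDegree_lt_iff_degree_lt h0] at hQ; omega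
    refine Submodule.mem_span_singleton.mpr ⟨Q.coeff 0, funext fun x => ?_⟩
    have := hQe (e.symm x)
    rw [eq_C_of_natDegree_eq_zero hQd] at this
    simpa [pb] using this.symm
  by_cases hhi : r = p - 1
  · refine Or.inr (Subrepresentation.toSubmodule_injective (le_antisymm h₂ fun f hf => ?_))
    rw [hmem, hW', hhi]
    apply mem_P_of_orthogonal (r := 1)
    intro u hu
    obtain ⟨Q, hQ, hQe⟩ := mem_P.mp hu
    have hQd : Q.natDegree = 0 := by
      rcases eq_or_ne Q 0 with rfl | h0
      · simp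
      · rw [← natDegree_lt_iff_degree_lt h0] at hQ; omega
    have h0 : ∑ x, f x = 0 := hf
    have hu0 : ∀ j, u j = Q.coeff 0 := fun j => by
      rw [hQe j]
      conv_lhs => rw [eq_C_of_natDegree_eq_zero hQd]
      rw [eval_C]
    simp only [hu0, ← Finset.mul_sum]
    rw [show ∑ j, pb f j = ∑ x, f x from Fintype.sum_equiv e _ _ fun j => rfl, h0, mul_zero]
  exfalso
  apply hG
  refine PermPrimeDegree.isSolvable_of_affine G e fun g hg => ?_
  let π : Equiv.Perm (ZMod p) := e.trans ((g : Equiv.Perm α).trans e.symm)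
  have hπ : ∀ f ∈ P p K r, f ∘ π ∈ P p K r := by
    rw [← hW']
    intro f hf
    exact hact (⟨g, hg⟩ : G)⁻¹ f hf
  have hπ' : ∀ f ∈ P p K r, f ∘ π.symm ∈ P p K r := by
    rw [← hW']
    intro f hf
    exact hact ⟨g, hg⟩ f hf
  obtain ⟨a, b, ha, hab⟩ := affine_of_preserves_P (by omega) (by omega) π hπ hπ'
  refine ⟨a, b, ha, fun x => ?_⟩
  rw [← hab]
  change g (e x) = e (e.symm (g (e x)))
  rw [Equiv.apply_symm_apply]

end Cfsg.Agent.TranslationModules
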