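import Mathlib
import Cfsg.Agent.Lib.PrimeCycle
import Cfsg.Agent.Lib.PermPrimeDegree
import Cfsg.Agent.Lib.PrimeDegreeCoord
import Cfsg.Agent.Lib.PermMultiTrans
import Cfsg.Agent.Lib.PermBasic
import Cfsg.Agent.S0676
import Cfsg.Agent.S0678

/-!
The non-solvable transitive permutation groups on eleven points not containing the alternating
group: they have order 660 and are simple, or order 7920 and are sharply 4-transitive.
-/

set_option autoImplicit false

namespace Cfsg.Agent.DegreeEleven29

open Equiv Equiv.Perm MulAction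

universe u

variable {α : Type u} [Fintype α] [DecidableEq α]

/-- A non-solvable transitive group on eleven points not containing the alternating group. -/
structure Setting (K : Subgroup (Perm α)) : Prop where
  card : Fintype.card α = 11
  trans : IsPretransitive K α
  nonsolv : ¬ Group.IsSolvable K
  notA : ¬ alternatingGroup α ≤ K

theorem natCard {K : Subgroup (Perm α)} (S : Setting K) : Nat.card α = 11 :=
  Nat.card_eq_fintype_card.trans S.card

theorem twoTransitive {K : Subgroup (Perm α)} (S : Setting K) :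
    IsMultiplyPretransitive K α 2 :=
  haveI := S.trans
  (PermPrimeDegree.solvable_or_twoTransitive (by rw [natCard S]; norm_num) K).resolve_left S.nonsolv

theorem primitive {K : Subgroup (Perm α)} (S : Setting K) : IsPreprimitive K α :=
  isPreprimitive_of_is_two_pretransitive (twoTransitive S)

/-- The support of an element of prime order. -/
theorem support_of_prime {g : Perm α} {q : ℕ} (hq : q.Prime) (hg : orderOf g = q) :
    ∃ n, g.cycleType = Multiset.replicate (n + 1) q ∧ g.support.card = (n + 1) * q ∧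
      g.support.card ≤ Fintype.card α := by
  obtain ⟨n, hn⟩ := cycleType_prime_order (hg.symm ▸ hq)
  rw [hg] at hn
  refine ⟨n, hn, ?_, Finset.card_le_univ _⟩
  rw [← sum_cycleType, hn, Multiset.sum_replicate, smul_eq_mul]

theorem sign_involution {g : Perm α} {k : ℕ} (hg : orderOf g = 2) (hk : g.support.card = 2 * k) :
    sign g = (-1) ^ k := by
  obtain ⟨n, hn, hc, -⟩ := support_of_prime Nat.prime_two hg
  have hkn : k = n + 1 := by omega
  rw [sign_of_cycleType, hn, Multiset.sum_replicate, Multiset.card_replicate, hkn, smul_eq_mul,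
    pow_add, pow_mul', neg_one_sq, one_pow, one_mul]

theorem no_prime_cycle {K : Subgroup (Perm α)} (S : Setting K) {g : Perm α} (hgK : g ∈ K) {q : ℕ}
    (hq : q.Prime) (hq8 : q ≤ 8) (hg : orderOf g = q) (hs : g.support.card = q) : False := by
  haveI := S.trans
  have hc : g.IsCycle := isCycle_of_prime_order (hg.symm ▸ hq) (by rw [hs, hg]; have := hq.two_le; omega)
  exact S.notA (PrimeCycle.alternatingGroup_le K (primitive S) hgK hc (hs.symm ▸ hq)
    (by rw [hs, S.card]; omega))

/-- Permutations whose supports meet in one point have a three-cycle as commutator. -/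
theorem isThreeCycle_commutator (y z : Perm α) (a : α) (h : y.support ∩ z.support = {a}) :
    (y * z * y⁻¹ * z⁻¹).IsThreeCycle := by
  have ha : a ∈ y.support ∧ a ∈ z.support := Finset.mem_inter.1 (h ▸ Finset.mem_singleton_self a)
  have hmeet : ∀ w, y w ≠ w → z w ≠ w → w = a := fun w hy hz =>
    Finset.mem_singleton.1 (h ▸ Finset.mem_inter.2 ⟨mem_support.2 hy, mem_support.2 hz⟩)
  have hyz : ∀ w, y w ≠ w → w ≠ a → z w = w := fun w hy hw => by
    by_contra hz; exact hw (hmeet w hy hz)
  have hzy : ∀ w, z w ≠ w → w ≠ a → y w = w := fun w hz hw => by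
    by_contra hy; exact hw (hmeet w hy hz)
  have hya : y a ≠ a := mem_support.1 ha.1
  have hza : z a ≠ a := mem_support.1 ha.2
  have hy2 : y (y a) ≠ y a := fun e => hya (y.injective e)
  have hz2 : z (z a) ≠ z a := fun e => hza (z.injective e)
  have zb : z (y a) = y a := hyz _ hy2 hya
  have yd : y (z a) = z a := hzy _ hz2 hza
  have hbd : y a ≠ z a := fun e => hz2 (e ▸ zb)
  have key : y * z * y⁻¹ * z⁻¹ = swap (y a) a * swap (y a) (z a) := by
    refine Equiv.ext fun w => ?_
    simp only [Perm.mul_apply]
    by_cases hwa : w = a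
    · subst hwa
      rw [swap_apply_of_ne_of_ne hya.symm hza.symm, swap_apply_right]
      have h1 : z (z⁻¹ w) = w := by simp
      have h2 : z⁻¹ w ≠ w := fun e => hza (by rw [e] at h1; exact h1)
      have h3 : y (z⁻¹ w) = z⁻¹ w := hzy _ (by rw [h1]; exact h2.symm) h2
      rw [show y⁻¹ (z⁻¹ w) = z⁻¹ w from by rw [Perm.inv_eq_iff_eq, h3]]
      simp
    by_cases hwb : w = y a
    · subst hwb
      rw [swap_apply_left, swap_apply_of_ne_of_ne hbd.symm hza]
      rw [show z⁻¹ (y a) = y a from by rw [Perm.inv_eq_iff_eq, zb]]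
      simp [yd]
    by_cases hwd : w = z a
    · subst hwd
      rw [swap_apply_right, swap_apply_left]
      have h1 : y (y⁻¹ a) = a := by simp
      have h2 : y⁻¹ a ≠ a := fun e => hya (by rw [e] at h1; exact h1)
      have h3 : z (y⁻¹ a) = y⁻¹ a := hyz _ (by rw [h1]; exact h2.symm) h2
      rw [show z⁻¹ (z a) = a from by simp, h3, h1]
    rw [swap_apply_of_ne_of_ne hwb hwd, swap_apply_of_ne_of_ne hwb hwa]
    by_cases hz : z w = w
    · rw [show z⁻¹ w = w from by rw [Perm.inv_eq_iff_eq, hz]]
      by_cases hy : y w = w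
      · rw [show y⁻¹ w = w from by rw [Perm.inv_eq_iff_eq, hy], hz, hy]
      · have h1 : y (y⁻¹ w) = w := by simp
        have h2 : y⁻¹ w ≠ w := fun e => hy (by rw [e] at h1; exact h1)
        have h3 : y⁻¹ w ≠ a := fun e => hwb (by rw [e] at h1; exact h1.symm)
        rw [hyz _ (by rw [h1]; exact h2.symm) h3, h1]
    · have h1 : z (z⁻¹ w) = w := by simp
      have h2 : z⁻¹ w ≠ w := fun e => hz (by rw [e] at h1; exact h1)
      have h3 : z⁻¹ w ≠ a := fun e => hwd (by rw [e] at h1; exact h1.symm)
      rw [show y⁻¹ (z⁻¹ w) = z⁻¹ w from by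
        rw [Perm.inv_eq_iff_eq, hzy _ (by rw [h1]; exact h2.symm) h3], h1, hzy _ hz hwa]
  rw [key]
  exact isThreeCycle_swap_mul_swap_same hya hbd (Ne.symm hza)

theorem shift_table : (List.sublistsLen 4 (List.range 11)).all (fun l =>
    (List.range 11).any fun i => (l.countP fun j => l.contains ((j + i) % 11)) == 1) = true := by
  decide +kernel
theorem shift_four (s : Finset (ZMod 11)) (hs : s.card = 4) :
    ∃ i : ℕ, ((s.image fun x => x + (i : ZMod 11)) ∩ s).card = 1 := by
  classical
  haveI : Fact (Nat.Prime 11) := ⟨by norm_num⟩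
  set l := (List.range 11).filter (fun j : ℕ => decide ((j : ZMod 11) ∈ s)) with hl
  have hmem : ∀ j, j ∈ l ↔ j < 11 ∧ (j : ZMod 11) ∈ s := fun j => by simp [hl]
  have hnd : l.Nodup := List.nodup_range.filter _
  have hval : ∀ j : ℕ, j < 11 → (j : ZMod 11).val = j := fun j hj => ZMod.val_natCast_of_lt hj
  have hlen : l.length = 4 := by
    rw [← hs, ← List.toFinset_card_of_nodup hnd]
    refine Finset.card_bij (fun j _ => (j : ZMod 11)) (fun j hj => ((hmem j).1 (List.mem_toFinset.1 hj)).2)
      (fun a ha b hb e => ?_) (fun x hx => ?_)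
    · rw [← hval a ((hmem a).1 (List.mem_toFinset.1 ha)).1,
        ← hval b ((hmem b).1 (List.mem_toFinset.1 hb)).1, e]
    · exact ⟨x.val, List.mem_toFinset.2 ((hmem _).2 ⟨x.val_lt, by simpa using hx⟩), by simp⟩
  have ht := List.all_eq_true.1 shift_table l
    (List.mem_sublistsLen.2 ⟨List.filter_sublist, hlen⟩)
  obtain ⟨i, -, hi⟩ := List.any_eq_true.1 ht
  rw [beq_iff_eq, List.countP_eq_length_filter,
    ← List.toFinset_card_of_nodup (hnd.filter _), List.toFinset_filter] at hi
  refine ⟨i, Eq.trans ?_ hi⟩
  symm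
  refine Finset.card_bij (fun j _ => ((j + i : ℕ) : ZMod 11)) (fun j hj => ?_) (fun a ha b hb e => ?_) (fun x hx => ?_)
  · simp only [Finset.mem_filter, List.mem_toFinset, List.contains_iff_mem, hmem, ZMod.natCast_mod] at hj
    exact Finset.mem_inter.2 ⟨Finset.mem_image.2 ⟨j, hj.1.2, by push_cast; rfl⟩, hj.2.2⟩
  · simp only [Finset.mem_filter, List.mem_toFinset, hmem] at ha hb
    push_cast at e
    rw [← hval a ha.1.1, ← hval b hb.1.1, add_right_cancel e]
  · obtain ⟨h1, h2⟩ := Finset.mem_inter.1 hx
    obtain ⟨y, hy, rfl⟩ := Finset.mem_image.1 h1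
    refine ⟨y.val, ?_, by simp⟩
    simp only [Finset.mem_filter, List.mem_toFinset, List.contains_iff_mem, hmem, ZMod.natCast_mod]
    refine ⟨⟨y.val_lt, by simpa using hy⟩, Nat.mod_lt _ (by norm_num), by simpa using h2⟩

theorem no_double_transposition {K : Subgroup (Perm α)} (S : Setting K) {g : Perm α} (hgK : g ∈ K)
    (hs : g.support.card = 4) (hg : orderOf g = 2) : False := by
  haveI := S.trans
  haveI : Fact (Nat.Prime 11) := ⟨by norm_num⟩
  obtain ⟨t, htK, -, e, he⟩ := PermPrimeDegree.exists_translation (natCard S) K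
  obtain ⟨i, hi⟩ := shift_four (g.support.map e.symm.toEmbedding) (by rw [Finset.card_map, hs])
  set g' := t ^ i * g * (t ^ i)⁻¹ with hg'
  have himg : g'.support ∩ g.support = ((g.support.map e.symm.toEmbedding).image
      (fun x => x + (i : ZMod 11)) ∩ g.support.map e.symm.toEmbedding).map e.toEmbedding := by
    ext w
    obtain ⟨x, rfl⟩ := e.surjective w
    simp only [hg', support_conj, Finset.mem_inter, Finset.mem_map_equiv, Equiv.symm_apply_apply,
      Finset.mem_image, Equiv.symm_symm]
    refine and_congr_left fun _ => ⟨fun h => ⟨x - (i : ZMod 11), ?_, by ring⟩, ?_⟩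
    · have : (t ^ i)⁻¹ (e x) = e (x - (i : ZMod 11)) := by
        rw [Perm.inv_eq_iff_eq, PermPrimeDegree.translation_pow he]; ring_nf
      exact this ▸ h
    · rintro ⟨y, hy, rfl⟩
      have : (t ^ i)⁻¹ (e (y + (i : ZMod 11))) = e y := by
        rw [Perm.inv_eq_iff_eq, PermPrimeDegree.translation_pow he]
      exact this.symm ▸ hy
  obtain ⟨a, ha⟩ := Finset.card_eq_one.1 (show (g.support ∩ g'.support).card = 1 by
    rw [Finset.inter_comm, himg, Finset.card_map, hi])
  have h3 := isThreeCycle_commutator g g' a ha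
  have hg'K : g' ∈ K := mul_mem (mul_mem (pow_mem htK _) hgK) (inv_mem (pow_mem htK _))
  exact S.notA (alternatingGroup_le_of_isPreprimitive_of_isThreeCycle_mem (primitive S) h3
    (mul_mem (mul_mem (mul_mem hgK hg'K) (inv_mem hgK)) (inv_mem hg'K)))

theorem not_seven_dvd {K : Subgroup (Perm α)} (S : Setting K) : ¬ 7 ∣ Nat.card K := by
  intro h
  haveI : Fact (Nat.Prime 7) := ⟨by norm_num⟩
  obtain ⟨⟨g, hgK⟩, hg⟩ := exists_prime_orderOf_dvd_card' 7 h
  rw [← Subgroup.orderOf_coe] at hg
  replace hg : orderOf g = 7 := hg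
  obtain ⟨n, -, hn, hle⟩ := support_of_prime (by norm_num : Nat.Prime 7) hg
  rw [S.card] at hle
  exact no_prime_cycle S hgK (by norm_num : Nat.Prime 7) (by norm_num) hg (by omega)

theorem card_perm {K : Subgroup (Perm α)} (S : Setting K) : Nat.card (Perm α) = 39916800 := by
  rw [Nat.card_perm, natCard S]; rfl

theorem not_twentyfive_dvd {K : Subgroup (Perm α)} (S : Setting K) : ¬ 25 ∣ Nat.card K := by
  intro h
  haveI : Fact (Nat.Prime 5) := ⟨by norm_num⟩
  have hf : (39916800 : ℕ).factorization 5 = 2 := by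
    rw [show (39916800 : ℕ) = 5 ^ 2 * 1596672 from rfl,
      Nat.factorization_mul (by norm_num) (by norm_num), Finsupp.add_apply,
      (by norm_num : Nat.Prime 5).factorization_pow, Finsupp.single_eq_same,
      Nat.factorization_eq_zero_of_not_dvd (by norm_num)]
  obtain ⟨s, hs, hs5⟩ : ∃ s : Finset α, s ⊆ Finset.univ ∧ s.card = 5 :=
    Finset.exists_subset_card_eq (by rw [Finset.card_univ, S.card]; norm_num)
  obtain ⟨c, hc, hcs⟩ : ∃ c : Perm α, c.IsCycle ∧ c.support.card = 5 := by
    have hnd : s.toList.Nodup := s.nodup_toList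
    refine ⟨s.toList.formPerm, List.isCycle_formPerm hnd (by rw [Finset.length_toList]; omega), ?_⟩
    rw [List.support_formPerm_of_nodup _ hnd (fun x hx => by
      have := congrArg List.length hx
      rw [Finset.length_toList] at this; simp at this; omega), Finset.toList_toFinset, hs5]
  obtain ⟨r, hr⟩ := S0678.exists_conj_mem K (p := 5) (by rw [card_perm S, hf]; exact h) c (j := 1)
    (by rw [hc.orderOf, hcs, pow_one])
  refine no_prime_cycle S hr (by norm_num : Nat.Prime 5) (by norm_num) ?_
    (by rw [card_support_conj, hcs])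
  rw [(hc.conj).orderOf, card_support_conj, hcs]

theorem dvd_of_bounds {N M : ℕ} (hd : N ∣ 25 * 7 * M) (h7 : ¬ 7 ∣ N) (h25 : ¬ 25 ∣ N) :
    N ∣ 5 * M := by
  have c7 : N.Coprime 7 := ((Nat.Prime.coprime_iff_not_dvd (by norm_num)).2 h7).symm
  have h1 : N ∣ 25 * M := c7.dvd_of_dvd_mul_left (by rwa [show 7 * (25 * M) = 25 * 7 * M by ring])
  by_cases h5 : 5 ∣ N
  · obtain ⟨m, rfl⟩ := h5
    have c5 : m.Coprime 5 := ((Nat.Prime.coprime_iff_not_dvd (by norm_num)).2 fun h => h25 (by
      obtain ⟨c, rfl⟩ := h; exact ⟨c, by ring⟩)).symm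
    have h2 : m ∣ 5 * M := (Nat.mul_dvd_mul_iff_left (by norm_num : 0 < 5)).1
      (by rwa [show 5 * (5 * M) = 25 * M by ring])
    exact Nat.mul_dvd_mul_left 5 (c5.dvd_of_dvd_mul_left h2)
  · have c5 : N.Coprime 25 := by
      have := ((Nat.Prime.coprime_iff_not_dvd (by norm_num : Nat.Prime 5)).2 h5).symm
      exact this.pow_right 2
    exact (c5.dvd_of_dvd_mul_left h1).trans (dvd_mul_left M 5)

section Even

variable {H : Subgroup (Perm α)}

theorem card_dvd (S : Setting H) (hA : H ≤ alternatingGroup α) : Nat.card H ∣ 570240 := by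
  haveI : Nontrivial α := Fintype.one_lt_card_iff_nontrivial.1 (by rw [S.card]; norm_num)
  have h : Nat.card H ∣ 19958400 := by
    refine (Subgroup.card_dvd_of_le hA).trans (dvd_of_eq ?_)
    rw [nat_card_alternatingGroup, natCard S]; rfl
  exact dvd_of_bounds (M := 114048) (by simpa using h) (not_seven_dvd S) (not_twentyfive_dvd S)

/-- Burnside transfer inside a normal subgroup containing the Sylow 11-subgroup. -/
theorem burnside_normal (S : Setting H) (P : Sylow 11 H) (N : Subgroup H) [hNn : N.Normal]
    (hPN : (P : Subgroup H) ≤ N)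
    (hself : ∀ x ∈ N, x ∈ Subgroup.normalizer ((P : Subgroup H) : Set H) → x ∈ (P : Subgroup H)) :
    Nat.card N = 11 := by
  classical
  haveI : Fact (Nat.Prime 11) := ⟨by norm_num⟩
  haveI := S.trans
  haveI := primitive S
  haveI : Nonempty α := Fintype.card_pos_iff.1 (by rw [S.card]; norm_num)
  have hPc : Nat.card P = 11 := PrimeDegreeCoord.card_sylow (natCard S) H P
  haveI : IsCyclic P := isCyclic_of_prime_card hPc
  have hPab : ∀ x ∈ (P : Subgroup H), ∀ y ∈ (P : Subgroup H), x * y = y * x := fun x hx y hy => by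
    obtain ⟨t, ht⟩ := IsCyclic.exists_generator (α := P)
    obtain ⟨i, hi⟩ := Subgroup.mem_zpowers_iff.1 (ht ⟨x, hx⟩)
    obtain ⟨j, hj⟩ := Subgroup.mem_zpowers_iff.1 (ht ⟨y, hy⟩)
    have e := ((Commute.refl t).zpow_zpow i j).eq
    rw [hi, hj] at e
    exact congrArg Subtype.val e
  let PN : Sylow 11 N := P.subtype hPN
  have hPN' : (PN : Subgroup N) = (P : Subgroup H).subgroupOf N := rfl
  have hle : Subgroup.normalizer ((PN : Subgroup N) : Set N) ≤
      Subgroup.centralizer ((PN : Subgroup N) : Set N) := by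
    intro x hx
    have hx' : (x : H) ∈ (P : Subgroup H) := hself _ x.2 (by
      rw [hPN', Subgroup.mem_normalizer_iff] at hx
      rw [Subgroup.mem_normalizer_iff]
      intro y
      constructor
      · intro hy
        exact (hx ⟨y, hPN hy⟩).1 hy
      · intro hy
        have hyN : y ∈ N := by
          have := hNn.conj_mem _ (hPN hy) ((x : H)⁻¹)
          simpa [mul_assoc] using this
        exact (hx ⟨y, hyN⟩).2 hy)
    rw [Subgroup.mem_centralizer_iff]
    intro y hy
    exact Subtype.ext (hPab _ hy _ hx')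
  have hcompl := MonoidHom.ker_transferSylow_isComplement' PN hle
  set K := (MonoidHom.transferSylow PN hle).ker with hK
  have hKc := hcompl.card_mul
  have h11K := MonoidHom.not_dvd_card_ker_transferSylow PN hle
  have hPNc : Nat.card PN = 11 :=
    (Nat.card_congr (Subgroup.subgroupOfEquivOfLe hPN).toEquiv).trans hPc
  have huniq : ∀ z : N, ¬ 11 ∣ orderOf z → z ∈ K := by
    intro z hz
    rw [hK, MonoidHom.mem_ker, ← orderOf_eq_one_iff]
    have h1 := orderOf_map_dvd (MonoidHom.transferSylow PN hle) z
    have h2 := orderOf_dvd_natCard (MonoidHom.transferSylow PN hle z)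
    rw [hPNc] at h2
    rcases (Nat.dvd_prime (by norm_num)).1 h2 with h | h
    · exact h
    · exact absurd (h ▸ h1) hz
  have hKn : (K.map N.subtype).Normal := by
    refine ⟨fun y hy g => ?_⟩
    obtain ⟨z, hz, rfl⟩ := hy
    refine ⟨⟨g * z * g⁻¹, hNn.conj_mem _ z.2 g⟩, huniq _ fun h => h11K ?_, rfl⟩
    rw [← Subgroup.orderOf_coe] at h
    have e : orderOf (g * (z : H) * g⁻¹) = orderOf (z : H) :=
      orderOf_injective (MulAut.conj g).toMonoidHom (MulEquiv.injective _) (z : H)
    rw [e, Subgroup.orderOf_coe] at h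
    exact h.trans (Subgroup.orderOf_dvd_natCard K hz)
  have hbot : K.map N.subtype = ⊥ := by
    by_contra hne
    have := PermBasic.isPretransitive_of_normal (G := H) (X := α) (K.map N.subtype) hne
    have := PermBasic.card_dvd_of_transitive (G := (K.map N.subtype : Subgroup H)) (X := α)
    rw [natCard S, Subgroup.card_map_of_injective N.subtype_injective] at this
    exact h11K this
  rw [Subgroup.map_eq_bot_iff_of_injective _ N.subtype_injective] at hbot
  rw [hbot, Subgroup.card_bot, one_mul, hPNc] at hKc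
  exact hKc.symm

theorem not_squarefree {G : Subgroup (Perm α)} (S : Setting G) : ¬ Squarefree (Nat.card G) :=
  fun h => S.nonsolv (by haveI := IsZGroup.of_squarefree h; infer_instance)

theorem neg_eq_self_iff_eleven : ∀ x : ZMod 11, ¬ -x = x ↔ ¬ x = 0 := by decide

theorem not_even_normalizer (S : Setting H) (hA : H ≤ alternatingGroup α) [Fact (Nat.Prime 11)]
    (P : Sylow 11 H) :
    ¬ Even (Nat.card (Subgroup.normalizer ((P : Subgroup H) : Set H))) := by
  intro hev
  haveI := S.trans
  obtain ⟨t, i, e, -, -, hi⟩ := PrimeDegreeCoord.exists_inversion (by norm_num) (natCard S) H P hev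
  have hsupp : (i : Perm α).support =
      ((Finset.univ : Finset (ZMod 11)).erase 0).map e.toEmbedding := by
    ext w
    obtain ⟨x, rfl⟩ := e.surjective w
    rw [mem_support, hi, Finset.mem_map_equiv, Equiv.symm_apply_apply, Finset.mem_erase, ne_eq,
      e.injective.eq_iff]
    simp only [Finset.mem_univ, and_true]
    exact neg_eq_self_iff_eleven x
  have hc : (i : Perm α).support.card = 10 := by
    rw [hsupp, Finset.card_map, Finset.card_erase_of_mem (Finset.mem_univ _), Finset.card_univ,
      ZMod.card]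
  have ho : orderOf (i : Perm α) = 2 := by
    refine orderOf_eq_prime (Equiv.ext fun w => ?_) fun h => ?_
    · obtain ⟨x, rfl⟩ := e.surjective w
      rw [pow_two, Perm.mul_apply, hi, hi, neg_neg]; rfl
    · rw [h, support_one] at hc; simp at hc
  have hs := sign_involution ho (k := 5) hc
  rw [Perm.mem_alternatingGroup.1 (hA i.2)] at hs
  revert hs; decide

theorem card_normalizer (S : Setting H) (hA : H ≤ alternatingGroup α) [Fact (Nat.Prime 11)]
    (P : Sylow 11 H) :
    Nat.card (Subgroup.normalizer ((P : Subgroup H) : Set H)) = 55 := by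
  haveI := S.trans
  have hd := PrimeDegreeCoord.card_normalizer_dvd (natCard S) H P
  have hPc : Nat.card P = 11 := PrimeDegreeCoord.card_sylow (natCard S) H P
  have h11 : 11 ∣ Nat.card (Subgroup.normalizer ((P : Subgroup H) : Set H)) :=
    hPc.symm.dvd.trans (Subgroup.card_dvd_of_le Subgroup.le_normalizer)
  have hodd : ¬ 2 ∣ Nat.card (Subgroup.normalizer ((P : Subgroup H) : Set H)) :=
    fun h => not_even_normalizer S hA P (even_iff_two_dvd.2 h)
  have hne : Nat.card (Subgroup.normalizer ((P : Subgroup H) : Set H)) ≠ 11 := fun h => by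
    have hPI : (P : Subgroup H) = Subgroup.normalizer ((P : Subgroup H) : Set H) :=
      Subgroup.eq_of_le_of_card_ge Subgroup.le_normalizer (by rw [h]; exact hPc.ge)
    have := burnside_normal S P ⊤ le_top (fun x _ hx => by rw [hPI]; exact hx)
    rw [Subgroup.card_top] at this
    exact not_squarefree S (by rw [this]; exact (by norm_num : Nat.Prime 11).squarefree)
  have key : ∀ d ∈ Nat.divisors 110, 11 ∣ d → ¬ 2 ∣ d → d ≠ 11 → d = 55 := by decide
  exact key _ (Nat.mem_divisors.2 ⟨by simpa using hd, by norm_num⟩) h11 hodd hne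

theorem card_sylow_mul (S : Setting H) (hA : H ≤ alternatingGroup α) [Fact (Nat.Prime 11)] :
    55 * Nat.card (Sylow 11 H) = Nat.card H := by
  obtain ⟨P⟩ : Nonempty (Sylow 11 H) := inferInstance
  rw [P.card_eq_index_normalizer, ← card_normalizer S hA P]
  exact Subgroup.card_mul_index _

theorem no_five_bad (S : Setting H) (hA : H ≤ alternatingGroup α) (h5 : 5 ∣ Nat.card H) :
    ∃ n d : ℕ, n % 5 = 1 ∧ (d = 1 ∨ d = 2 ∨ d = 4) ∧ n * (5 * d) = Nat.card H := by
  classical
  haveI : Fact (Nat.Prime 5) := ⟨by norm_num⟩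
  obtain ⟨x, hx⟩ := exists_prime_orderOf_dvd_card' 5 h5
  have hx' : orderOf (x : Perm α) = 5 := (Subgroup.orderOf_coe x).trans hx
  obtain ⟨n, hct, hn, hle⟩ := support_of_prime (by norm_num : Nat.Prime 5) hx'
  rw [S.card] at hle
  have hn1 : n = 1 := by
    rcases (by omega : n = 0 ∨ n = 1) with rfl | rfl
    · exact (no_prime_cycle S x.2 (by norm_num : Nat.Prime 5) (by norm_num) hx' (by omega)).elim
    · rfl
  subst hn1
  have hsupp10 : (x : Perm α).support.card = 10 := by omega
  have hCS : Nat.card (Subgroup.centralizer {(x : Perm α)}) = 50 := by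
    rw [nat_card_centralizer, hct, S.card]
    decide
  set C : Subgroup H := Subgroup.centralizer {x} with hC
  have hCd : Nat.card C ∣ 50 := by
    rw [← hCS]
    refine (dvd_of_eq (Subgroup.card_map_of_injective H.subtype_injective).symm).trans
      (Subgroup.card_dvd_of_le ?_)
    rintro _ ⟨c, hc, rfl⟩
    rw [Subgroup.mem_centralizer_singleton_iff]
    exact congrArg Subtype.val (Subgroup.mem_centralizer_singleton_iff.1 hc)
  have hC2 : ¬ 2 ∣ Nat.card C := by
    intro h2
    haveI : Fact (Nat.Prime 2) := ⟨Nat.prime_two⟩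
    obtain ⟨t, ht⟩ := exists_prime_orderOf_dvd_card' 2 h2
    have ht' : orderOf ((t : H) : Perm α) = 2 := by
      rw [Subgroup.orderOf_coe, Subgroup.orderOf_coe, ht]
    have hc : Commute (x : Perm α) ((t : H) : Perm α) :=
      (congrArg Subtype.val (Subgroup.mem_centralizer_singleton_iff.1 t.2)).symm
    obtain ⟨m, -, hm, -⟩ := support_of_prime Nat.prime_two ht'
    set τ := ((t : H) : Perm α) with hτ
    -- the support of `τ` is invariant under `x` and avoids its fixed point
    have hinv : ∀ z, (x : Perm α) z ∈ τ.support ↔ z ∈ τ.support := fun z => by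
      rw [mem_support, mem_support, not_iff_not]
      have e : (x : Perm α) (τ z) = τ ((x : Perm α) z) := Equiv.congr_fun hc.eq z
      rw [← e]
      exact (x : Perm α).injective.eq_iff
    have hfix : ∀ z ∈ τ.support, (x : Perm α) z ≠ z := by
      intro z hz hxz
      have h1 : (x : Perm α) (τ z) = τ z := by
        rw [show (x : Perm α) (τ z) = τ ((x : Perm α) z) from Equiv.congr_fun hc.eq z, hxz]
      have hz' : τ z ≠ z := mem_support.1 hz
      have : ({z, τ z} : Finset α) ⊆ (x : Perm α).supportᶜ := by
        intro w hw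
        rw [Finset.mem_compl, notMem_support]
        rcases Finset.mem_insert.1 hw with rfl | hw
        · exact hxz
        · rw [Finset.mem_singleton.1 hw]; exact h1
      have := Finset.card_le_card this
      rw [Finset.card_pair hz'.symm, Finset.card_compl, S.card, hsupp10] at this
      omega
    have h5s : 5 ∣ τ.support.card := by
      by_contra h5'
      let σ : Perm τ.support := (x : Perm α).subtypePerm hinv
      have hσ : σ ^ 5 = 1 := by
        ext z
        simp only [σ, subtypePerm_pow, subtypePerm_apply, Perm.one_apply]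
        rw [← hx', pow_orderOf_eq_one]; rfl
      obtain ⟨z, hz⟩ := Equiv.Perm.exists_fixed_point_of_prime (p := 5) (n := 1)
        (by rw [Fintype.card_coe]; exact h5') (by simpa using hσ)
      exact hfix z z.2 (congrArg Subtype.val hz)
    have hle' : τ.support.card ≤ 11 := (Finset.card_le_univ _).trans_eq S.card
    have h10 : τ.support.card = 2 * 5 := by
      obtain ⟨c, hc5⟩ := h5s; omega
    have hs := sign_involution ht' h10
    rw [Perm.mem_alternatingGroup.1 (hA (t : H).2)] at hs
    revert hs; decide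
  have hCx : Subgroup.zpowers x ≤ C := by
    rw [Subgroup.zpowers_le, hC, Subgroup.mem_centralizer_singleton_iff]
  have hxc : Nat.card (Subgroup.zpowers x) = 5 := by rw [Nat.card_zpowers, hx]
  have hC5 : Nat.card C = 5 := by
    have h5C : 5 ∣ Nat.card C := hxc ▸ Subgroup.card_dvd_of_le hCx
    have h25 : ¬ 25 ∣ Nat.card C := fun h =>
      not_twentyfive_dvd S (h.trans (Subgroup.card_subgroup_dvd_card C))
    have key : ∀ d ∈ Nat.divisors 50, 5 ∣ d → ¬ 2 ∣ d → ¬ 25 ∣ d → d = 5 := by decide
    exact key _ (Nat.mem_divisors.2 ⟨hCd, by norm_num⟩) h5C hC2 h25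
  let Q : Sylow 5 H := Sylow.ofCard (Subgroup.zpowers x) (by
    rw [hxc]
    have h1 := ((by norm_num : Nat.Prime 5).dvd_iff_one_le_factorization Nat.card_pos.ne').1 h5
    have h2 := mt ((by norm_num : Nat.Prime 5).pow_dvd_iff_le_factorization
      (Nat.card_pos (α := H)).ne' (k := 2)).2 (by simpa using not_twentyfive_dvd S)
    rw [show (Nat.card H).factorization 5 = 1 by omega, pow_one])
  let φ := (Q : Subgroup H).normalizerMonoidHom
  have hk : Nat.card φ.ker = 5 := by
    rw [Subgroup.normalizerMonoidHom_ker]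
    refine Eq.trans ?_ hC5
    refine Nat.card_congr ((Subgroup.subgroupOfEquivOfLe ?_).trans
      (MulEquiv.subgroupCongr ?_)).toEquiv
    · exact Subgroup.centralizer_le_normalizer _
    · show Subgroup.centralizer ((Subgroup.zpowers x : Subgroup H) : Set H) = C
      rw [hC, Subgroup.zpowers_eq_closure, Subgroup.centralizer_closure]
  haveI : IsCyclic (Q : Subgroup H) := Subgroup.isCyclic_zpowers x
  have h4 : Nat.card (MulAut (Q : Subgroup H)) = 4 := by
    rw [IsCyclic.card_mulAut, show Nat.card (Q : Subgroup H) = 5 from hxc]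
    rfl
  have hr : Nat.card φ.range ∣ 4 := h4 ▸ Subgroup.card_subgroup_dvd_card φ.range
  have hN : Nat.card (Subgroup.normalizer ((Q : Subgroup H) : Set H)) = 5 * Nat.card φ.range := by
    refine Eq.trans ?_ (congrArg (· * Nat.card φ.range) hk)
    rw [← Subgroup.index_ker φ, Subgroup.card_mul_index]
  refine ⟨Nat.card (Sylow 5 H), Nat.card φ.range, card_sylow_modEq_one 5 H, ?_, ?_⟩
  · have key : ∀ d ∈ Nat.divisors 4, d = 1 ∨ d = 2 ∨ d = 4 := by decide
    exact key _ (Nat.mem_divisors.2 ⟨hr, by norm_num⟩)
  · rw [Q.card_eq_index_normalizer, ← hN]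
    exact Subgroup.index_mul_card _

/-- The order of an even group. -/
theorem card_eq (S : Setting H) (hA : H ≤ alternatingGroup α) :
    Nat.card H = 660 ∨ Nat.card H = 7920 := by
  haveI : Fact (Nat.Prime 11) := ⟨by norm_num⟩
  have h1 := card_sylow_mul S hA
  have h2 : Nat.card (Sylow 11 H) % 11 = 1 := card_sylow_modEq_one 11 H
  have h3 : Nat.card (Sylow 11 H) ∣ 10368 := by
    have := card_dvd S hA
    rw [← h1] at this
    exact (Nat.mul_dvd_mul_iff_left (by norm_num : 0 < 55)).1 (by simpa using this)
  have key : ∀ n ∈ Nat.divisors 10368, n % 11 = 1 → n = 1 ∨ n = 12 ∨ n = 144 ∨ n = 1728 := by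
    decide +kernel
  rcases key _ (Nat.mem_divisors.2 ⟨h3, by norm_num⟩) h2 with h | h | h | h <;> rw [h] at h1
  · exact (not_squarefree S (by rw [← h1]; decide +kernel)).elim
  · exact Or.inl h1.symm
  · exact Or.inr h1.symm
  · exfalso
    obtain ⟨n, d, hn, hd, hnd⟩ := no_five_bad S hA ⟨19008, by omega⟩
    rcases hd with rfl | rfl | rfl <;> omega

theorem simple_660 (S : Setting H) (hA : H ≤ alternatingGroup α) (h : Nat.card H = 660) :
    IsSimpleGroup H := by
  classical
  haveI : Fact (Nat.Prime 11) := ⟨by norm_num⟩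
  haveI := S.trans
  haveI := primitive S
  haveI : Nonempty α := Fintype.card_pos_iff.1 (by rw [S.card]; norm_num)
  obtain ⟨P⟩ : Nonempty (Sylow 11 H) := inferInstance
  have hPc : Nat.card P = 11 := PrimeDegreeCoord.card_sylow (natCard S) H P
  haveI : Nontrivial H := by
    rw [← Finite.one_lt_card_iff_nontrivial, h]; norm_num
  refine ⟨fun N hNn => ?_⟩
  by_contra hcon
  push Not at hcon
  have : N.Normal := hNn
  haveI := PermBasic.isPretransitive_of_normal (G := H) (X := α) N hcon.1
  have hd11 : 11 ∣ Nat.card N :=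
    natCard S ▸ PermBasic.card_dvd_of_transitive (G := N) (X := α)
  have hPN : (P : Subgroup H) ≤ N := by
    obtain ⟨x, hx⟩ := exists_prime_orderOf_dvd_card' 11 hd11
    obtain ⟨Q, hQ⟩ := (IsPGroup.of_card (n := 1) (by
      rw [Nat.card_zpowers, Subgroup.orderOf_coe, hx, pow_one]) :
      IsPGroup 11 (Subgroup.zpowers (x : H))).exists_le_sylow
    have hQe : Subgroup.zpowers (x : H) = (Q : Subgroup H) := Subgroup.eq_of_le_of_card_ge hQ (by
      rw [Nat.card_zpowers, Subgroup.orderOf_coe, hx, Q.card_eq_multiplicity,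
        ← P.card_eq_multiplicity, hPc])
    obtain ⟨g, hg⟩ := MulAction.exists_smul_eq H Q P
    rw [← hg, Sylow.coe_subgroup_smul, ← hQe, Subgroup.pointwise_smul_def]
    rintro _ ⟨y, hy, rfl⟩
    exact hNn.conj_mem _ (Subgroup.zpowers_le.2 x.2 hy) g
  set Nm := Subgroup.normalizer ((P : Subgroup H) : Set H) with hNm
  have hm55 : Nat.card Nm = 55 := card_normalizer S hA P
  have hsup : Nm ⊔ N = ⊤ := Sylow.normalizer_sup_eq_top' P hPN
  have e1 : N.index = N.relIndex Nm := by
    rw [← Subgroup.relIndex_top_right N, ← hsup, Subgroup.relIndex_sup_right]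
  have e2 : Nat.card N * N.index = 660 := h ▸ Subgroup.card_mul_index N
  have e3 : Nat.card (N ⊓ Nm : Subgroup H) * N.index = 55 := by
    rw [e1, ← hm55, ← Subgroup.inf_relIndex_right N Nm, ← Subgroup.relIndex_bot_left (N ⊓ Nm),
      Subgroup.relIndex_mul_relIndex _ _ _ bot_le inf_le_right, Subgroup.relIndex_bot_left]
  obtain ⟨i, hi⟩ : 11 ∣ Nat.card (N ⊓ Nm : Subgroup H) :=
    hPc.symm.dvd.trans (Subgroup.card_dvd_of_le (le_inf hPN Subgroup.le_normalizer))
  rw [hi, mul_assoc] at e3
  have e4 : i * N.index = 5 := by omega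
  rcases (Nat.dvd_prime (by norm_num : Nat.Prime 5)).1 ⟨N.index, e4.symm⟩ with rfl | rfl
  · have hPI : (P : Subgroup H) = N ⊓ Nm := Subgroup.eq_of_le_of_card_ge
      (le_inf hPN Subgroup.le_normalizer) (by rw [hi]; exact hPc.ge)
    have h11N := burnside_normal S P N hPN (fun x hx hx' => by rw [hPI]; exact ⟨hx, hx'⟩)
    rw [h11N] at e2
    omega
  · exact hcon.2 (Subgroup.index_eq_one.1 (by omega))

/-- An even element of order two fixing at least four points is impossible. -/
theorem no_involution_fixing (S : Setting H) (hA : H ≤ alternatingGroup α) {g : Perm α}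
    (hgH : g ∈ H) (hg : orderOf g = 2) (hs : g.support.card ≤ 7) : False := by
  obtain ⟨n, -, hn, -⟩ := support_of_prime Nat.prime_two hg
  rcases (by omega : g.support.card = 2 * 1 ∨ g.support.card = 2 * 2 ∨ g.support.card = 2 * 3) with
    h | h | h
  · exact no_prime_cycle S hgH Nat.prime_two (by norm_num) hg (by omega)
  · exact no_double_transposition S hgH (by omega) hg
  · have hsg := sign_involution hg h
    rw [Perm.mem_alternatingGroup.1 (hA hgH)] at hsg
    revert hsg; decide

theorem no_two_three_cycles (S : Setting H) (hA : H ≤ alternatingGroup α)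
    (h : Nat.card H = 7920) {y : Perm α} (hyH : y ∈ H) (hy : orderOf y = 3)
    (hs : y.support.card = 6) : False := by
  classical
  haveI := twoTransitive S
  haveI : Fact (Nat.Prime 3) := ⟨Nat.prime_three⟩
  haveI : Fact (Nat.Prime 2) := ⟨Nat.prime_two⟩
  -- two fixed points of `y`
  have hfix : y.supportᶜ.card = 5 := by rw [Finset.card_compl, S.card, hs]
  obtain ⟨a, ha, b, hb, hab⟩ := Finset.one_lt_card.1 (by omega : 1 < y.supportᶜ.card)
  rw [Finset.mem_compl, notMem_support] at ha hb
  let x : Fin 2 ↪ α := ⟨![a, b], by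
    intro i j hij
    fin_cases i <;> fin_cases j <;> simp_all [hab.symm]⟩
  set L : Subgroup H := stabilizer H x with hL
  have memL : ∀ g : H, g ∈ L ↔ (g : Perm α) a = a ∧ (g : Perm α) b = b := fun g => by
    refine Iff.trans (PermMultiTrans.mem_stabilizer_embedding (G := H) (X := α) (x := x)) ?_
    rw [Fin.forall_fin_two]
    rfl
  have hLc : Nat.card L = 72 := by
    have := PermMultiTrans.card_eq_descFactorial_mul (G := H) (X := α) x
    rw [natCard S, h, show Nat.descFactorial 11 2 = 110 from rfl] at this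
    have e : 110 * Nat.card L = 7920 := this
    omega
  have hyL : (⟨y, hyH⟩ : H) ∈ L := (memL _).2 ⟨ha, hb⟩
  obtain ⟨Q, hQ⟩ := (IsPGroup.of_card (p := 3) (n := 1) (by
    rw [Nat.card_zpowers, pow_one, Subgroup.orderOf_mk, Subgroup.orderOf_mk, hy]) :
      IsPGroup 3 (Subgroup.zpowers (⟨⟨y, hyH⟩, hyL⟩ : L))).exists_le_sylow
  have hQc : Nat.card Q = 9 := by
    rw [Q.card_eq_multiplicity, hLc, show (72 : ℕ) = 3 ^ 2 * 8 from rfl,
      Nat.factorization_mul (by norm_num) (by norm_num), Finsupp.add_apply,
      Nat.prime_three.factorization_pow, Finsupp.single_eq_same,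
      Nat.factorization_eq_zero_of_not_dvd (by norm_num)]
    rfl
  -- no third point is fixed by all of `Q`
  have hnofix : ∀ c : α, c ≠ a → c ≠ b → ∃ q : (Q : Subgroup L), q • c ≠ c := by
    intro c hca hcb
    by_contra hall
    push Not at hall
    have hfive : ∀ q : (Q : Subgroup L), q ≠ 1 → Fintype.card (fixedBy α q) = 5 := by
      intro q hq
      set g : Perm α := (((q : L) : H) : Perm α) with hg
      have hg1 : g ≠ 1 := fun e => hq (Subtype.ext (Subtype.ext (Subtype.ext e)))
      obtain ⟨hga, hgb⟩ := (memL _).1 (q : L).2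
      have hle : g.support.card ≤ 8 := by
        have hsub : ({a, b, c} : Finset α) ⊆ g.supportᶜ := by
          intro w hw
          rw [Finset.mem_compl, notMem_support]
          simp only [Finset.mem_insert, Finset.mem_singleton] at hw
          rcases hw with rfl | rfl | rfl
          · exact hga
          · exact hgb
          · exact hall q
        have := Finset.card_le_card hsub
        rw [Finset.card_compl, S.card, Finset.card_eq_three.2 ⟨a, b, c, hab, hca.symm, hcb.symm, rfl⟩]
          at this
        omega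
      have hdvd : orderOf g ∣ 9 := by
        rw [hg, Subgroup.orderOf_coe, Subgroup.orderOf_coe, Subgroup.orderOf_coe]
        exact hQc ▸ orderOf_dvd_natCard q
      have h3 : orderOf g = 3 := by
        have hd3 : orderOf g ∣ 3 := by
          rw [← lcm_cycleType, Multiset.lcm_dvd]
          intro m hm
          have h1 : m ∣ 9 := (dvd_of_mem_cycleType hm).trans hdvd
          have h2 : m ≤ 8 := ((Multiset.single_le_sum (fun _ _ => Nat.zero_le _) m hm).trans_eq
            (sum_cycleType g)).trans hle
          have key : ∀ m ∈ Nat.divisors 9, m ≤ 8 → m ∣ 3 := by decide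
          exact key m (Nat.mem_divisors.2 ⟨h1, by norm_num⟩) h2
        exact ((Nat.dvd_prime Nat.prime_three).1 hd3).resolve_left
          (fun e => hg1 (orderOf_eq_one_iff.1 e))
      obtain ⟨n, -, hn, -⟩ := support_of_prime Nat.prime_three h3
      have h6 : g.support.card = 6 := by
        rcases (by omega : g.support.card = 3 ∨ g.support.card = 6) with h' | h'
        · exact (no_prime_cycle S ((q : L) : H).2 Nat.prime_three (by norm_num) h3 h').elim
        · exact h'
      have e : fixedBy α q = ((g.supportᶜ : Finset α) : Set α) := by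
        ext w
        simp only [mem_fixedBy, Finset.coe_compl, Set.mem_compl_iff, Finset.mem_coe,
          mem_support, not_not]
        rfl
      rw [← Set.toFinset_card, Set.toFinset_congr e, Finset.toFinset_coe, Finset.card_compl,
        S.card, h6]
    have hsum := sum_card_fixedBy_eq_card_orbits_mul_card_group (Q : Subgroup L) α
    rw [← Finset.add_sum_erase _ _ (Finset.mem_univ (1 : (Q : Subgroup L))),
      Finset.sum_congr rfl (fun q hq => hfive q (Finset.ne_of_mem_erase hq)), Finset.sum_const,
      Finset.card_erase_of_mem (Finset.mem_univ _), Finset.card_univ,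
      ← Nat.card_eq_fintype_card (α := (Q : Subgroup L)), hQc,
      Fintype.card_congr (Equiv.subtypeUnivEquiv (p := fun w => w ∈ fixedBy α (1 : (Q : Subgroup L)))
        (fun w => by simp)), S.card, smul_eq_mul] at hsum
    omega
  -- the orbit of a third fixed point of `y`
  obtain ⟨z, hz⟩ : ((y.supportᶜ.erase a).erase b).Nonempty := by
    rw [← Finset.card_pos]
    have h1 := Finset.pred_card_le_card_erase (a := b) (s := y.supportᶜ.erase a)
    have h2 := Finset.pred_card_le_card_erase (a := a) (s := y.supportᶜ)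
    omega
  simp only [Finset.mem_erase, Finset.mem_compl, notMem_support] at hz
  obtain ⟨hzb, hza, hyz⟩ := hz
  have hLfix : ∀ g : L, g • a = a ∧ g • b = b := fun g => (memL g).1 g.2
  have hne : ∀ w ∈ orbit L z, w ≠ a ∧ w ≠ b := by
    rintro w ⟨g, rfl⟩
    refine ⟨fun e => hza ?_, fun e => hzb ?_⟩
    · exact (MulAction.injective g) (e.trans (hLfix g).1.symm)
    · exact (MulAction.injective g) (e.trans (hLfix g).2.symm)
  have hO : Nat.card (orbit L z) ∣ 24 ∧ 3 ∣ Nat.card (orbit L z) := by
    constructor
    · have h1 := PermBasic.card_orbit_mul_card_stabilizer (G := L) z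
      rw [hLc] at h1
      have h3 : 3 ∣ Nat.card (stabilizer L z) := by
        have hm : (⟨⟨y, hyH⟩, hyL⟩ : L) ∈ stabilizer L z := hyz
        have := Subgroup.orderOf_dvd_natCard (stabilizer L z) hm
        rwa [Subgroup.orderOf_mk, Subgroup.orderOf_mk, hy] at this
      obtain ⟨c, hc⟩ := h3
      rw [hc] at h1
      exact ⟨c, by nlinarith⟩
    · have hmod := (Q.isPGroup').card_modEq_card_fixedPoints (orbit L z)
      have hempty : Nat.card (fixedPoints (Q : Subgroup L) (orbit L z)) = 0 := by
        rw [Nat.card_eq_zero]; left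
        refine ⟨fun ⟨⟨w, hw⟩, hwf⟩ => ?_⟩
        obtain ⟨q, hq⟩ := hnofix w (hne w hw).1 (hne w hw).2
        exact hq (congrArg Subtype.val (hwf q))
      rw [hempty] at hmod
      exact Nat.modEq_zero_iff_dvd.1 hmod
  have hOle : Nat.card (orbit L z) ≤ 9 := by
    have hsub : orbit L z ⊆ ((Finset.univ.erase a).erase b : Finset α) := fun w hw => by
      simp [(hne w hw).1, (hne w hw).2]
    have := Set.ncard_le_ncard hsub (Finset.finite_toSet _)
    rw [Set.ncard_coe_finset, Finset.card_erase_of_mem (by simp [hab.symm]),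
      Finset.card_erase_of_mem (Finset.mem_univ _), Finset.card_univ, S.card] at this
    rw [Nat.card_coe_set_eq]
    exact this
  -- an invariant set of three points
  obtain ⟨T, hT3, hTa, hTb, hTinv⟩ : ∃ T : Finset α, T.card = 3 ∧ a ∉ T ∧ b ∉ T ∧
      ∀ (g : L) (w : α), g • w ∈ T ↔ w ∈ T := by
    set O : Finset α := (orbit L z).toFinset with hOdef
    have hOc : O.card = Nat.card (orbit L z) := by
      rw [hOdef, Set.toFinset_card, Nat.card_eq_fintype_card]
    have hOinv : ∀ (g : L) (w : α), g • w ∈ O ↔ w ∈ O := fun g w => by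
      simp only [hOdef, Set.mem_toFinset]
      constructor
      · rintro ⟨k, hk⟩
        exact ⟨g⁻¹ * k, by show (g⁻¹ * k) • z = w; rw [mul_smul]; exact inv_smul_eq_iff.2 hk⟩
      · rintro ⟨k, rfl⟩
        exact ⟨g * k, mul_smul g k z⟩
    have hOab : a ∉ O ∧ b ∉ O := by
      simp only [hOdef, Set.mem_toFinset]
      exact ⟨fun e => (hne a e).1 rfl, fun e => (hne b e).2 rfl⟩
    obtain ⟨hd, h3⟩ := hO
    have hcases : Nat.card (orbit L z) = 3 ∨ Nat.card (orbit L z) = 6 := by
      have key : ∀ d ∈ Nat.divisors 24, 3 ∣ d → d ≤ 9 → d = 3 ∨ d = 6 := by decide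
      exact key _ (Nat.mem_divisors.2 ⟨hd, by norm_num⟩) h3 hOle
    rcases hcases with h' | h'
    · exact ⟨O, hOc.trans h', hOab.1, hOab.2, hOinv⟩
    · refine ⟨(insert a (insert b O))ᶜ, ?_, by simp, by simp, fun g w => ?_⟩
      · rw [Finset.card_compl, S.card, Finset.card_insert_of_notMem (by simp [hab, hOab.1]),
          Finset.card_insert_of_notMem hOab.2, hOc, h']
      · simp only [Finset.mem_compl, Finset.mem_insert, hOinv, not_iff_not]
        rw [show g • w = a ↔ w = a from ⟨fun e => MulAction.injective g (e.trans (hLfix g).1.symm),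
            fun e => e ▸ (hLfix g).1⟩,
          show g • w = b ↔ w = b from ⟨fun e => MulAction.injective g (e.trans (hLfix g).2.symm),
            fun e => e ▸ (hLfix g).2⟩]
  let f : L →* Perm T :=
    { toFun := fun g => (((g : H) : Perm α)).subtypePerm (hTinv g)
      map_one' := by ext; rfl
      map_mul' := fun g k => by ext; rfl }
  have hker : 2 ∣ Nat.card f.ker := by
    have h1 := Subgroup.card_mul_index f.ker
    rw [hLc, Subgroup.index_ker] at h1
    have h2 : Nat.card f.range ∣ 6 := by
      refine (Subgroup.card_subgroup_dvd_card f.range).trans (dvd_of_eq ?_)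
      rw [Nat.card_perm, Nat.card_eq_finsetCard, hT3]; rfl
    have key : ∀ d ∈ Nat.divisors 6, ∀ k < 73, k * d = 72 → 2 ∣ k := by decide +kernel
    refine key _ (Nat.mem_divisors.2 ⟨h2, by norm_num⟩) _ ?_ h1
    have := Nat.le_of_dvd (by norm_num : 0 < 72) ⟨_, h1.symm⟩
    omega
  obtain ⟨u, hu⟩ := exists_prime_orderOf_dvd_card' 2 hker
  set g : Perm α := (((u : L) : H) : Perm α) with hg
  have hgo : orderOf g = 2 := by
    rw [hg, Subgroup.orderOf_coe, Subgroup.orderOf_coe, Subgroup.orderOf_coe, hu]
  refine no_involution_fixing S hA (g := g) ((u : L) : H).2 hgo ?_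
  obtain ⟨hga, hgb⟩ := (memL _).1 (u : L).2
  have hsub : insert a (insert b T) ⊆ g.supportᶜ := by
    intro w hw
    rw [Finset.mem_compl, notMem_support]
    simp only [Finset.mem_insert] at hw
    rcases hw with rfl | rfl | hw
    · exact hga
    · exact hgb
    · exact congrArg Subtype.val (Equiv.congr_fun (MonoidHom.mem_ker.1 u.2) ⟨w, hw⟩)
  have := Finset.card_le_card hsub
  rw [Finset.card_compl, S.card, Finset.card_insert_of_notMem (by simp [hab, hTa]),
    Finset.card_insert_of_notMem hTb, hT3] at this
  omega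

theorem sharp (S : Setting H) (hA : H ≤ alternatingGroup α) (h : Nat.card H = 7920)
    {g : Perm α} (hgH : g ∈ H) (hs : g.support.card ≤ 7) : g = 1 := by
  by_contra hg1
  obtain ⟨q, hq, hqd⟩ := Nat.exists_prime_and_dvd (fun e => hg1 (orderOf_eq_one_iff.1 e))
  set k := g ^ (orderOf g / q) with hk
  have hko : orderOf k = q := orderOf_pow_orderOf_div (orderOf_pos g).ne' hqd
  have hkH : k ∈ H := pow_mem hgH _
  have hks : k.support.card ≤ 7 := (Finset.card_le_card (support_pow_le g _)).trans hs
  obtain ⟨n, -, hn, -⟩ := support_of_prime hq hko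
  have hq7 : q ≤ 7 := by
    have : q ≤ (n + 1) * q := Nat.le_mul_of_pos_left q (Nat.succ_pos n)
    omega
  have hqc : q = 2 ∨ q = 3 ∨ q = 5 ∨ q = 7 := by
    have key : ∀ q < 8, q.Prime → q = 2 ∨ q = 3 ∨ q = 5 ∨ q = 7 := by decide
    exact key q (by omega) hq
  rcases hqc with rfl | rfl | rfl | rfl
  · exact no_involution_fixing S hA hkH hko hks
  · rcases (by omega : k.support.card = 3 ∨ k.support.card = 6) with h' | h'
    · exact no_prime_cycle S hkH hq (by norm_num) hko h'
    · exact no_two_three_cycles S hA h hkH hko h'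
  · exact no_prime_cycle S hkH hq (by norm_num) hko (by omega)
  · exact no_prime_cycle S hkH hq (by norm_num) hko (by omega)

theorem stabilizer_four (S : Setting H) (hA : H ≤ alternatingGroup α) (h : Nat.card H = 7920)
    (x : Fin 4 ↪ α) : stabilizer H x = ⊥ := by
  refine (PermMultiTrans.stabilizer_embedding_eq_bot_iff (G := H) (X := α) x).2 ?_
  intro g hg
  refine Subtype.ext (sharp S hA h g.2 ?_)
  have hsub : Finset.univ.map x ⊆ (g : Perm α).supportᶜ := by
    intro w hw
    obtain ⟨i, -, rfl⟩ := Finset.mem_map.1 hw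
    rw [Finset.mem_compl, notMem_support]
    exact hg i
  have := Finset.card_le_card hsub
  rw [Finset.card_map, Finset.card_univ, Fintype.card_fin, Finset.card_compl, S.card] at this
  omega

theorem fourTransitive (S : Setting H) (hA : H ≤ alternatingGroup α) (h : Nat.card H = 7920) :
    IsMultiplyPretransitive H α 4 := by
  refine ⟨fun x y => ?_⟩
  have h1 := PermBasic.card_orbit_mul_card_stabilizer (G := H) x
  rw [Subgroup.card_eq_one.2 (stabilizer_four S hA h x), mul_one, h, Nat.card_coe_set_eq] at h1
  have huniv : orbit H x = Set.univ := Set.eq_of_subset_of_ncard_le (Set.subset_univ _) (by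
    refine le_of_eq (Eq.trans ?_ h1.symm)
    rw [Set.ncard_univ, Nat.card_eq_fintype_card, Fintype.card_embedding_eq, Fintype.card_fin,
      S.card]
    rfl) (Set.toFinite _)
  have hy : y ∈ orbit H x := by rw [huniv]; exact Set.mem_univ y
  exact hy

end Even

set_option maxHeartbeats 800000 in
/-- The group consists of even permutations. -/
theorem le_alternating {K : Subgroup (Perm α)} (S : Setting K) : K ≤ alternatingGroup α := by
  classical
  by_contra hK
  haveI : Fact (Nat.Prime 11) := ⟨by norm_num⟩
  haveI := S.trans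
  haveI : Nontrivial α := Fintype.one_lt_card_iff_nontrivial.1 (by rw [S.card]; norm_num)
  haveI : Nonempty α := inferInstance
  haveI := primitive S
  set H := K ⊓ alternatingGroup α with hH
  set H' : Subgroup K := (alternatingGroup α).subgroupOf K with hH'
  have hH'card : Nat.card H' = Nat.card H := by
    rw [hH', ← Subgroup.card_map_of_injective K.subtype_injective, Subgroup.subgroupOf_map_subtype,
      inf_comm]
  have hidx : H'.index = 2 := by
    have h1 : (sign.comp K.subtype).ker = H' := by
      ext g; simp [hH', MonoidHom.mem_ker, Subgroup.mem_subgroupOf, Perm.mem_alternatingGroup]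
    rw [← h1, Subgroup.index_ker]
    have h2 : Nat.card (sign.comp K.subtype).range ∣ 2 := by
      refine (Subgroup.card_subgroup_dvd_card _).trans (dvd_of_eq ?_)
      rw [Nat.card_eq_fintype_card]; rfl
    rcases (Nat.dvd_prime Nat.prime_two).1 h2 with h | h
    · exfalso
      apply hK
      intro g hg
      rw [Perm.mem_alternatingGroup]
      have : sign g ∈ (sign.comp K.subtype).range := ⟨⟨g, hg⟩, rfl⟩
      rw [Subgroup.card_eq_one.1 h] at this
      exact Subgroup.mem_bot.1 this
    · exact h
  haveI : H'.Normal := Subgroup.normal_of_index_eq_two hidx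
  have hne : H' ≠ ⊥ := by
    intro e
    have h2 := H'.index_mul_card
    rw [hidx, e, Subgroup.card_bot] at h2
    exact not_squarefree S (by rw [← h2]; decide +kernel)
  have htr' := PermBasic.isPretransitive_of_normal (G := K) (X := α) H' hne
  have SH : Setting H := by
    refine ⟨S.card, ?_, fun hsol => S.nonsolv ?_, fun hle => S.notA (hle.trans inf_le_left)⟩
    · refine ⟨fun x y => ?_⟩
      obtain ⟨g, hg⟩ := htr'.exists_smul_eq x y
      exact ⟨⟨((g : K) : Perm α), (g : K).2, g.2⟩, hg⟩
    · have e : Group.IsSolvable H' := by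
        let f : H' →* H :=
          { toFun := fun g => ⟨((g : K) : Perm α), (g : K).2, g.2⟩
            map_one' := rfl
            map_mul' := fun _ _ => rfl }
        haveI := hsol
        exact solvable_of_solvable_injective (f := f) fun g k e =>
          Subtype.ext (Subtype.ext (congrArg (fun w : H => (w : Perm α)) e))
      haveI := e
      haveI : Group.IsSolvable (K ⧸ H') := by
        haveI : Fact (Nat.Prime 2) := ⟨Nat.prime_two⟩
        haveI : IsCyclic (K ⧸ H') := isCyclic_of_prime_card (p := 2) hidx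
        infer_instance
      exact Group.isSolvable_of_ker_le_range H'.subtype (QuotientGroup.mk' H') (by simp)
  have hKc : Nat.card K = 2 * Nat.card H := by
    rw [← hH'card, ← hidx, Subgroup.index_mul_card]
  have hA : H ≤ alternatingGroup α := inf_le_right
  -- the Sylow normalizer in the whole group has even order
  obtain ⟨P⟩ : Nonempty (Sylow 11 K) := inferInstance
  have hPc : Nat.card P = 11 := PrimeDegreeCoord.card_sylow (natCard S) K P
  have hd := PrimeDegreeCoord.card_normalizer_dvd (natCard S) K P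
  have hmul : Nat.card (Sylow 11 K) *
      Nat.card (Subgroup.normalizer ((P : Subgroup K) : Set K)) = Nat.card K := by
    rw [P.card_eq_index_normalizer]
    exact Subgroup.index_mul_card _
  have hmod : Nat.card (Sylow 11 K) % 11 = 1 := card_sylow_modEq_one 11 K
  have h11 : 11 ∣ Nat.card (Subgroup.normalizer ((P : Subgroup K) : Set K)) :=
    hPc.symm.dvd.trans (Subgroup.card_dvd_of_le Subgroup.le_normalizer)
  have heven : Even (Nat.card (Subgroup.normalizer ((P : Subgroup K) : Set K))) := by
    by_contra hodd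
    rw [even_iff_two_dvd] at hodd
    have key : ∀ d ∈ Nat.divisors 110, 11 ∣ d → ¬ 2 ∣ d → d = 11 ∨ d = 55 := by decide
    rcases key _ (Nat.mem_divisors.2 ⟨by simpa using hd, by norm_num⟩) h11 hodd with e | e <;>
      rcases card_eq SH hA with e' | e' <;> rw [e] at hmul <;> rw [e'] at hKc <;>
      rw [hKc] at hmul <;> omega
  haveI : IsMultiplyPretransitive K α 3 := S0676.result S.card K S.nonsolv P heven
  have h990 : 990 ∣ Nat.card K := by
    have := PermMultiTrans.descFactorial_dvd_card (G := K) (X := α) (k := 3)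
      (by rw [natCard S]; norm_num)
    rwa [natCard S, show Nat.descFactorial 11 3 = 990 from rfl] at this
  rcases card_eq SH hA with h660 | h7920
  · rw [hKc, h660] at h990; omega
  -- the larger order
  haveI h4H := fourTransitive SH hA h7920
  obtain ⟨x⟩ := PermMultiTrans.nonempty_embedding (X := α) (k := 4) (by rw [natCard S]; norm_num)
  haveI : IsMultiplyPretransitive K α 4 := ⟨fun x y => by
    obtain ⟨g, hg⟩ := h4H.exists_smul_eq x y
    exact ⟨⟨(g : Perm α), g.2.1⟩, hg⟩⟩
  have hst : Nat.card (stabilizer K x) = 2 := by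
    have := PermMultiTrans.card_eq_descFactorial_mul (G := K) (X := α) x
    rw [hKc, h7920, natCard S, show Nat.descFactorial 11 4 = 7920 from rfl] at this
    have e : 7920 * Nat.card (stabilizer K x) = 2 * 7920 := this
    omega
  haveI : Fact (Nat.Prime 2) := ⟨Nat.prime_two⟩
  obtain ⟨⟨⟨u, huK⟩, hux⟩, hu⟩ := exists_prime_orderOf_dvd_card' 2 hst.symm.dvd
  rw [Subgroup.orderOf_mk, Subgroup.orderOf_mk] at hu
  have hfixu : ∀ i, u (x i) = x i := PermMultiTrans.mem_stabilizer_embedding.1 hux
  have husupp : u.support.card ≤ 7 := by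
    have hsub : Finset.univ.map x ⊆ u.supportᶜ := by
      intro w hw
      obtain ⟨i, -, rfl⟩ := Finset.mem_map.1 hw
      rw [Finset.mem_compl, notMem_support]
      exact hfixu i
    have := Finset.card_le_card hsub
    rw [Finset.card_map, Finset.card_univ, Fintype.card_fin, Finset.card_compl, S.card] at this
    omega
  obtain ⟨n, -, hn, -⟩ := support_of_prime Nat.prime_two hu
  have hu6 : u.support.card = 2 * 3 := by
    rcases (by omega : u.support.card = 2 ∨ u.support.card = 4 ∨ u.support.card = 2 * 3) with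
      h' | h' | h'
    · exact (no_prime_cycle S huK Nat.prime_two (by norm_num) hu h').elim
    · exact (no_double_transposition S huK h' hu).elim
    · exact h'
  -- three points of the support, two of them exchanged
  obtain ⟨a, ha⟩ := Finset.card_pos.1 (by omega : 0 < u.support.card)
  have hinv : ∀ w, u (u w) = w := fun w => by
    rw [← Perm.mul_apply, ← pow_two, ← hu, pow_orderOf_eq_one]; rfl
  have hab : u a ≠ a := mem_support.1 ha
  obtain ⟨c, hc, hca, hcb⟩ : ∃ c ∈ u.support, c ≠ a ∧ c ≠ u a := by
    obtain ⟨c, hc⟩ := Finset.card_pos.1 (show 0 < ((u.support.erase a).erase (u a)).card by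
      have h1 := Finset.pred_card_le_card_erase (a := u a) (s := u.support.erase a)
      have h2 := Finset.pred_card_le_card_erase (a := a) (s := u.support)
      omega)
    simp only [Finset.mem_erase] at hc
    exact ⟨c, hc.2.2, hc.2.1, hc.1⟩
  obtain ⟨g, hg⟩ := Finset.card_pos.1 (show 0 < u.supportᶜ.card by
    rw [Finset.card_compl, S.card]; omega)
  rw [Finset.mem_compl, notMem_support] at hg
  have hcd : u c ≠ c := mem_support.1 hc
  have hda : u c ≠ a := fun e => hcb (by rw [← e, hinv])
  have hdb : u c ≠ u a := fun e => hca (u.injective e)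
  have hga : g ≠ a := fun e => hab (e ▸ hg)
  have hgb : g ≠ u a := fun e => hab (by rw [e, hinv] at hg; exact hg.symm)
  have hgc : g ≠ c := fun e => hcd (e ▸ hg)
  let s₁ : Fin 4 ↪ α := ⟨![a, u a, c, u c], by
    intro i j hij
    fin_cases i <;> fin_cases j <;>
      simp_all [hab.symm, hca.symm, hcb.symm, hda.symm, hdb.symm, hcd.symm]⟩
  let s₂ : Fin 4 ↪ α := ⟨![a, u a, c, g], by
    intro i j hij
    fin_cases i <;> fin_cases j <;>
      simp_all [hab.symm, hca.symm, hcb.symm, hga.symm, hgb.symm, hgc.symm]⟩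
  obtain ⟨k, hk⟩ := h4H.exists_smul_eq s₁ s₂
  have k0 : (k : Perm α) a = a := congrArg (fun w : Fin 4 ↪ α => w 0) hk
  have k1 : (k : Perm α) (u a) = u a := congrArg (fun w : Fin 4 ↪ α => w 1) hk
  have k2 : (k : Perm α) c = c := congrArg (fun w : Fin 4 ↪ α => w 2) hk
  have k3 : (k : Perm α) (u c) = g := congrArg (fun w : Fin 4 ↪ α => w 3) hk
  set u' := (k : Perm α) * u * (k : Perm α)⁻¹ with hu'
  have hkinv : ∀ {p q : α}, (k : Perm α) p = q → (k : Perm α)⁻¹ q = p := fun h => by
    rw [Perm.inv_eq_iff_eq]; exact h.symm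
  have ua : u' a = u a := by simp only [hu', Perm.mul_apply, hkinv k0, k1]
  have ub : u' (u a) = a := by simp only [hu', Perm.mul_apply, hkinv k1, hinv, k0]
  have uc : u' c = g := by simp only [hu', Perm.mul_apply, hkinv k2, k3]
  set w := u * u' with hw
  have hwK : w ∈ K := mul_mem huK (mul_mem (mul_mem k.2.1 huK) (inv_mem k.2.1))
  have hwA : w ∈ alternatingGroup α := by
    rw [Perm.mem_alternatingGroup, hw, hu']
    simp only [map_mul, map_inv, mul_inv_cancel_comm, Int.units_mul_self]
  have hw1 : w ≠ 1 := by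
    intro e
    have := Equiv.congr_fun e c
    rw [hw, Perm.mul_apply, uc, hg] at this
    exact hgc this
  refine hw1 (sharp SH hA h7920 ⟨hwK, hwA⟩ ?_)
  have hwa : w a = a := by rw [hw, Perm.mul_apply, ua, hinv]
  have hwb : w (u a) = u a := by rw [hw, Perm.mul_apply, ub]
  have hsub : w.support ⊆ ((u.support ∪ u'.support).erase a).erase (u a) := by
    intro z hz
    simp only [Finset.mem_erase]
    refine ⟨fun e => mem_support.1 hz (e ▸ hwb), fun e => mem_support.1 hz (e ▸ hwa), ?_⟩
    exact support_mul_le u u' hz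
  have hu'6 : u'.support.card = 6 := by rw [hu', card_support_conj, hu6]
  have h3 : ({a, u a, c} : Finset α) ⊆ u.support ∩ u'.support := by
    intro z hz
    simp only [Finset.mem_insert, Finset.mem_singleton] at hz
    rcases hz with rfl | rfl | rfl <;> simp [mem_support, hinv, ua, ub, uc, hab, hab.symm, hcd, hgc]
  have c3 := Finset.card_le_card h3
  rw [Finset.card_eq_three.2 ⟨a, u a, c, hab.symm, hca.symm, hcb.symm, rfl⟩] at c3
  have hui := Finset.card_union_add_card_inter u.support u'.support
  have hle := Finset.card_le_card hsub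
  have hma : a ∈ u.support ∪ u'.support := Finset.mem_union_left _ ha
  have hmb : u a ∈ (u.support ∪ u'.support).erase a :=
    Finset.mem_erase.2 ⟨hab, Finset.mem_union_left _ (by simp [mem_support, hinv, hab.symm])⟩
  rw [Finset.card_erase_of_mem hmb, Finset.card_erase_of_mem hma] at hle
  omega

end Cfsg.Agent.DegreeEleven29
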