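import Mathlib
import Cfsg.Prelude.Def_LieExceptional
import Cfsg.Agent.Lib.CharKernel
import Cfsg.Agent.Lib.CharBasicInt
import Cfsg.Agent.S0165

/-!
A finite group with the degree data of `PSL(2,p²)` is a simple Zassenhaus group on its Sylow
`p`-subgroups.

The degree data force: no element of order `p * r` for a prime `r ≠ p` (column orthogonality), hence
Sylow `p`-subgroups of order `p²` are TI and self-centralising; counting then gives `p² + 1` of them
and simplicity follows from the degree equation of a quotient.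
-/

set_option autoImplicit false
set_option linter.unusedSectionVars false
set_option linter.style.haveILetI false

namespace Cfsg.Agent.DegreeSquareRecog82

open Cfsg
open scoped ComplexConjugate Pointwise

universe u

variable {G : Type u} [Group G] [Finite G] {p δ m : ℕ}

/-- The degree data. -/
structure Hyp (G : Type u) [Group G] [Finite G] (p δ m : ℕ) : Prop where
  prime : p.Prime
  hδ : (δ = 1 ∧ p = 2) ∨ (δ = 2 ∧ p ≠ 2)
  hm : δ * m = p ^ 2 + 1
  card : Nat.card G = p ^ 2 * ((p ^ 2 - 1) * m)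
  one : ∀ χ ψ : IrrCharacter G,
    charDegree (χ : G → ℂ) = 1 → charDegree (ψ : G → ℂ) = 1 → χ = ψ
  deg : ∀ χ : IrrCharacter G,
    charDegree (χ : G → ℂ) = 1 ∨ charDegree (χ : G → ℂ) = p ^ 2 ∨
      charDegree (χ : G → ℂ) = p ^ 2 + 1 ∨ charDegree (χ : G → ℂ) = p ^ 2 - 1 ∨
      charDegree (χ : G → ℂ) = m

variable (H : Hyp G p δ m)
include H

theorem four_le : 4 ≤ p ^ 2 := by
  nlinarith [H.prime.two_le]

theorem three_le_m : 5 ≤ m := by
  have := H.prime.two_le
  have hm := H.hm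
  rcases H.hδ with ⟨rfl, rfl⟩ | ⟨rfl, h2⟩
  · omega
  · have : 3 ≤ p := by omega
    have : 9 ≤ p ^ 2 := by nlinarith
    omega

theorem m_dvd : m ∣ p ^ 2 + 1 := ⟨δ, by rw [← H.hm, mul_comm]⟩

theorem coprime_pred_m : (p ^ 2 - 1).Coprime m := by
  have hm := H.hm
  have hq := four_le H
  refine Nat.coprime_of_dvd fun k hk h1 h2 => ?_
  have h3 : k ∣ p ^ 2 + 1 := h2.trans (m_dvd H)
  have h4 := Nat.dvd_sub h3 h1
  rw [show p ^ 2 + 1 - (p ^ 2 - 1) = 2 by omega] at h4
  obtain rfl := (Nat.prime_dvd_prime_iff_eq hk Nat.prime_two).1 h4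
  rcases H.hδ with ⟨rfl, rfl⟩ | ⟨rfl, hp2⟩
  · omega
  · obtain ⟨a, ha⟩ := H.prime.odd_of_ne_two hp2
    obtain ⟨b, hb⟩ := h2
    have : p ^ 2 = 4 * (a * a + a) + 1 := by rw [ha]; ring
    omega

theorem not_dvd_pred : ¬ p ∣ p ^ 2 - 1 := fun h => by
  have h1 : p ∣ p ^ 2 := dvd_pow_self p two_ne_zero
  have h2 := Nat.dvd_sub h1 h
  rw [Nat.sub_sub_self (Nat.one_le_pow _ _ H.prime.pos)] at h2
  exact H.prime.not_dvd_one h2

theorem not_dvd_m : ¬ p ∣ m := fun h =>
  H.prime.not_dvd_one ((Nat.dvd_add_right (dvd_pow_self p two_ne_zero)).1 (h.trans (m_dvd H)))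

theorem not_dvd_rest : ¬ p ∣ (p ^ 2 - 1) * m := fun h =>
  (H.prime.dvd_mul.1 h).elim (not_dvd_pred H) (not_dvd_m H)

theorem coprime_m : (p ^ 2 * (p ^ 2 - 1)).Coprime m :=
  Nat.Coprime.mul_left ((H.prime.coprime_iff_not_dvd.2 (not_dvd_m H)).pow_left 2) (coprime_pred_m H)

/-- A character of degree divisible by the full `r`-part vanishes on `r`-singular elements. -/
theorem vanish {r a : ℕ} (hr : r.Prime) (ha : r ^ a ∣ Nat.card G)
    (ha' : ¬ r ^ (a + 1) ∣ Nat.card G) (χ : IrrCharacter G)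
    (hd : r ^ a ∣ charDegree (χ : G → ℂ)) {g : G} (hg : r ∣ orderOf g) : (χ : G → ℂ) g = 0 := by
  obtain ⟨n, ρ, hρ, hρc⟩ := χ.2
  haveI := hρ
  have hn : charDegree (χ : G → ℂ) = n := by
    have h1 : (χ : G → ℂ) 1 = n := by
      rw [← hρc, Representation.char_one, Module.finrank_fin_fun]
    simp [charDegree, h1]
  rw [← hρc]
  exact Cfsg.Agent.S0165.result ρ r a hr ha ha' (by rwa [Module.finrank_fin_fun, ← hn]) g hg

/-- Column orthogonality against the identity. -/
theorem dvd_one_of_column {g : G} (hg : g ≠ 1) {c : ℕ} (hc0 : c ≠ 0)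
    (h : ∀ χ : IrrCharacter G, charDegree (χ : G → ℂ) = 1 ∨ (χ : G → ℂ) g = 0 ∨
      c ∣ charDegree (χ : G → ℂ)) : c ∣ 1 := by
  classical
  let χ₁ : IrrCharacter G := ⟨fun _ => 1, CharBasicDecomp.isIrrCharacter_one⟩
  have h1 : charDegree (χ₁ : G → ℂ) = 1 := by simp [χ₁, charDegree]
  have hcol := CharBasicOrth.sum_irr_mul_conj g 1
  rw [if_neg fun e => hg (isConj_one_left.1 e), ← Finset.add_sum_erase _ _ (Finset.mem_univ χ₁)]
    at hcol
  have hrest : ∀ χ ∈ Finset.univ.erase χ₁, (χ : G → ℂ) g * conj ((χ : G → ℂ) 1) =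
      (c : ℂ) * ((charDegree (χ : G → ℂ) / c : ℕ) * (χ : G → ℂ) g) := by
    intro χ hχ
    rw [CharAverage.irr_apply_one χ, Complex.conj_natCast]
    rcases h χ with e | e | ⟨k, e⟩
    · exact absurd (H.one χ χ₁ e h1) (Finset.ne_of_mem_erase hχ)
    · simp [e]
    · rw [e, Nat.mul_div_cancel_left k (Nat.pos_of_ne_zero hc0)]
      push_cast; ring
  rw [Finset.sum_congr rfl hrest, ← Finset.mul_sum] at hcol
  simp only [χ₁, map_one, mul_one] at hcol
  have hint : IsIntegral ℤ (-(∑ χ ∈ Finset.univ.erase χ₁,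
      (((charDegree (χ : G → ℂ) / c : ℕ) : ℂ) * (χ : G → ℂ) g))) := by
    refine (IsIntegral.sum _ fun χ _ => ?_).neg
    refine IsIntegral.mul ?_
      (CharBasic.isCharacter_integral (CharBasic.isCharacter_of_isIrrCharacter χ.2) g)
    rw [← map_natCast (algebraMap ℤ ℂ)]
    exact isIntegral_algebraMap
  refine CharBasicInt.dvd_of_isIntegral_div (a := 1) hc0 ?_
  convert hint using 1
  rw [div_eq_iff (Nat.cast_ne_zero.2 hc0)]
  push_cast
  linear_combination hcol

/-- The order of a `p`-singular element is a power of `p`. -/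
theorem mixed {g : G} (hp : p ∣ orderOf g) {r : ℕ} (hr : r.Prime) (hrg : r ∣ orderOf g) :
    r = p := by
  by_contra hne
  have hg : g ≠ 1 := fun e => by
    rw [e, orderOf_one] at hp
    exact H.prime.not_dvd_one hp
  have hq := four_le H
  have hm := three_le_m H
  have hp2 : p ^ 2 ∣ Nat.card G := by rw [H.card]; exact dvd_mul_right _ _
  have hp3 : ¬ p ^ (2 + 1) ∣ Nat.card G := by
    rw [H.card, pow_succ]
    exact fun h => not_dvd_rest H ((Nat.mul_dvd_mul_iff_left (pow_pos H.prime.pos 2)).1 h)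
  set a := (Nat.card G).factorization r
  have ha : r ^ a ∣ Nat.card G := Nat.ordProj_dvd _ _
  have ha' : ¬ r ^ (a + 1) ∣ Nat.card G :=
    Nat.pow_succ_factorization_not_dvd Nat.card_pos.ne' hr
  have hrp : (r ^ a).Coprime (p ^ 2) := ((Nat.coprime_primes hr H.prime).2 hne).pow a 2
  have hra : r ^ a ∣ (p ^ 2 - 1) * m := hrp.dvd_of_dvd_mul_left (H.card ▸ ha)
  by_cases hrm : r ∣ m
  · have hcop : (r ^ a).Coprime (p ^ 2 - 1) :=
      ((hr.coprime_iff_not_dvd).2 fun h => hr.not_dvd_one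
        (Nat.Coprime.eq_one_of_dvd ((coprime_pred_m H).coprime_dvd_left h) hrm ▸ dvd_rfl)).pow_left a
    have hram : r ^ a ∣ m := hcop.dvd_of_dvd_mul_left hra
    have h1 := dvd_one_of_column H hg (c := p ^ 2 - 1) (by omega) fun χ => by
      rcases H.deg χ with e | e | e | e | e
      · exact Or.inl e
      · exact Or.inr (Or.inl (vanish H H.prime hp2 hp3 χ (e ▸ dvd_rfl) hp))
      · exact Or.inr (Or.inl (vanish H hr ha ha' χ (e ▸ hram.trans (m_dvd H)) hrg))
      · exact Or.inr (Or.inr (e ▸ dvd_rfl))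
      · exact Or.inr (Or.inl (vanish H hr ha ha' χ (e ▸ hram) hrg))
    have := Nat.le_of_dvd one_pos h1
    omega
  · have hram : r ^ a ∣ p ^ 2 - 1 :=
      ((hr.coprime_iff_not_dvd.2 hrm).pow_left a).dvd_of_dvd_mul_right hra
    have h1 := dvd_one_of_column H hg (c := m) (by omega) fun χ => by
      rcases H.deg χ with e | e | e | e | e
      · exact Or.inl e
      · exact Or.inr (Or.inl (vanish H H.prime hp2 hp3 χ (e ▸ dvd_rfl) hp))
      · exact Or.inr (Or.inr (e ▸ m_dvd H))
      · exact Or.inr (Or.inl (vanish H hr ha ha' χ (e ▸ hram) hrg))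
      · exact Or.inr (Or.inr (e ▸ dvd_rfl))
    have := Nat.le_of_dvd one_pos h1
    omega

theorem card_sylow (P : Sylow p G) : Nat.card (P : Subgroup G) = p ^ 2 := by
  haveI := Fact.mk H.prime
  rw [Sylow.card_eq_multiplicity]
  congr 1
  rw [H.card, Nat.factorization_mul (pow_ne_zero 2 H.prime.ne_zero)
    (show (p ^ 2 - 1) * m ≠ 0 from fun e => not_dvd_rest H (by rw [e]; exact dvd_zero p))]
  simp [Nat.Prime.factorization_pow H.prime,
    Nat.factorization_eq_zero_of_not_dvd (not_dvd_rest H)]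

/-- The Sylow subgroups are self-centralising, elementwise. -/
theorem cent_eq (P : Sylow p G) {u : G} (hu : u ∈ (P : Subgroup G)) (hu1 : u ≠ 1) :
    Subgroup.centralizer ({u} : Set G) = (P : Subgroup G) := by
  haveI := Fact.mk H.prime
  have hle : (P : Subgroup G) ≤ Subgroup.centralizer ({u} : Set G) := by
    intro x hx
    refine Subgroup.mem_centralizer_singleton_iff.2 ?_
    exact congrArg Subtype.val
      ((IsPGroup.isMulCommutative_of_card_eq_prime_sq (p := p) (card_sylow H P)).is_comm.comm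
        (⟨x, hx⟩ : (P : Subgroup G)) ⟨u, hu⟩)
  obtain ⟨k, hk⟩ := (IsPGroup.iff_orderOf.1 P.2) ⟨u, hu⟩
  rw [Subgroup.orderOf_mk] at hk
  have hk0 : k ≠ 0 := fun e => hu1 (orderOf_eq_one_iff.1 (by rw [hk, e, pow_zero]))
  set u' := u ^ (orderOf u / p) with hu'
  have hpu : p ∣ orderOf u := hk ▸ dvd_pow_self p hk0
  have hu'o : orderOf u' = p := orderOf_pow_orderOf_div (orderOf_pos u).ne' hpu
  refine P.3 ?_ hle
  refine IsPGroup.iff_orderOf.2 fun v => ?_
  have h0 : Commute (v : G) u := Subgroup.mem_centralizer_singleton_iff.1 v.2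
  have hvu : Commute (v : G) u' := h0.pow_right _
  refine ⟨_, Nat.eq_prime_pow_of_unique_prime_dvd (orderOf_pos v).ne' fun {r} hr hrv => ?_⟩
  rw [← Subgroup.orderOf_coe] at hrv
  by_contra hne
  set v' := (v : G) ^ (orderOf (v : G) / r) with hv'
  have hv'o : orderOf v' = r := orderOf_pow_orderOf_div (orderOf_pos _).ne' hrv
  have hcop : (orderOf v').Coprime (orderOf u') := by
    rw [hv'o, hu'o]; exact (Nat.coprime_primes hr H.prime).2 hne
  have ho := (hvu.pow_left (orderOf (v : G) / r)).orderOf_mul_eq_mul_orderOf_of_coprime hcop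
  rw [← hv', hv'o, hu'o] at ho
  exact hne (mixed H (g := v' * u') (by rw [ho]; exact dvd_mul_left _ _) hr
    (by rw [ho]; exact dvd_mul_right _ _))

/-- Trivial intersections. -/
theorem sylow_unique (P Q : Sylow p G) {u : G} (hP : u ∈ (P : Subgroup G))
    (hQ : u ∈ (Q : Subgroup G)) (hu : u ≠ 1) : P = Q :=
  Sylow.ext ((cent_eq H P hP hu).symm.trans (cent_eq H Q hQ hu))

/-- A nontrivial element of a Sylow subgroup fixes only that subgroup. -/
theorem eq_of_smul (P Q : Sylow p G) {u : G} (hP : u ∈ (P : Subgroup G)) (hu : u ≠ 1)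
    (h : u • Q = Q) : P = Q := by
  rw [Sylow.smul_eq_iff_mem_normalizer] at h
  haveI := Fact.mk H.prime
  have hz : IsPGroup p (Subgroup.zpowers u) := P.2.to_le (Subgroup.zpowers_le.2 hP)
  have h1 := IsPGroup.inf_normalizer_sylow hz Q
  have h2 : u ∈ Subgroup.zpowers u ⊓ (Q : Subgroup G) := h1 ▸ ⟨Subgroup.mem_zpowers u, h⟩
  exact sylow_unique H P Q hP h2.2 hu

theorem smul_self (P : Sylow p G) {u : G} (hP : u ∈ (P : Subgroup G)) : u • P = P :=
  Sylow.smul_eq_iff_mem_normalizer.2 (Subgroup.le_normalizer hP)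

/-- `p²` divides the number of other Sylow subgroups. -/
theorem dvd_others (P : Sylow p G) : p ^ 2 ∣ Nat.card {Q : Sylow p G // Q ≠ P} := by
  classical
  letI : MulAction (P : Subgroup G) {Q : Sylow p G // Q ≠ P} :=
    { smul := fun x Q => ⟨(x : G) • Q.1, fun e =>
        Q.2 (MulAction.injective (x : G) (e.trans (smul_self H P x.2).symm))⟩
      one_smul := fun Q => Subtype.ext (one_smul G Q.1)
      mul_smul := fun x y Q => Subtype.ext (mul_smul (x : G) y Q.1) }
  have hfree : ∀ Q : {Q : Sylow p G // Q ≠ P},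
      MulAction.stabilizer (P : Subgroup G) Q = ⊥ := fun Q => by
    refine (Subgroup.eq_bot_iff_forall _).2 fun x hx => ?_
    by_contra hne
    exact Q.2 (eq_of_smul H P Q.1 x.2 (fun e => hne (Subtype.ext e))
      (congrArg Subtype.val hx)).symm
  rw [Nat.card_congr (MulAction.selfEquivOrbitsQuotientProd hfree), Nat.card_prod,
    card_sylow H P]
  exact dvd_mul_left _ _

/-- The index of a Sylow subgroup in its normalizer divides `p² - 1`. -/
theorem norm_index (P : Sylow p G) : ∃ e, e ∣ p ^ 2 - 1 ∧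
    Nat.card (Subgroup.normalizer ((P : Subgroup G) : Set G)) = p ^ 2 * e := by
  classical
  set N := Subgroup.normalizer ((P : Subgroup G) : Set G) with hN
  obtain ⟨e, he⟩ : p ^ 2 ∣ Nat.card N :=
    card_sylow H P ▸ Subgroup.card_dvd_of_le Subgroup.le_normalizer
  refine ⟨e, ?_, he⟩
  letI : MulAction N {u : (P : Subgroup G) // u ≠ 1} :=
    { smul := fun x u => ⟨⟨(x : G) * (u.1 : G) * (x : G)⁻¹,
          (Subgroup.mem_normalizer_iff.1 x.2 _).1 u.1.2⟩,
        fun h => u.2 (Subtype.ext (by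
          have h' : (x : G) * (u.1 : G) * (x : G)⁻¹ = 1 := congrArg Subtype.val h
          simpa [mul_assoc] using congrArg (fun z => (x : G)⁻¹ * z * x) h'))⟩
      one_smul := fun u => Subtype.ext (Subtype.ext (by
        show ((1 : N) : G) * _ * ((1 : N) : G)⁻¹ = _
        simp))
      mul_smul := fun x y u => Subtype.ext (Subtype.ext (by
        show ((x * y : N) : G) * _ * ((x * y : N) : G)⁻¹ = (x : G) * ((y : G) * _ * (y : G)⁻¹) * _
        simp only [Subgroup.coe_mul, mul_inv_rev, mul_assoc])) }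
  have horb : ∀ u : {u : (P : Subgroup G) // u ≠ 1},
      Nat.card (MulAction.orbit N u) = e := by
    intro u
    have hstab : MulAction.stabilizer N u = (P : Subgroup G).subgroupOf N := by
      ext x
      rw [MulAction.mem_stabilizer_iff, Subgroup.mem_subgroupOf,
        ← SetLike.ext_iff.1 (cent_eq H P u.1.2 (fun h => u.2 (Subtype.ext h))) (x : G),
        Subgroup.mem_centralizer_singleton_iff, Subtype.ext_iff, Subtype.ext_iff]
      show (x : G) * (u.1 : G) * (x : G)⁻¹ = (u.1 : G) ↔ _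
      rw [mul_inv_eq_iff_eq_mul]
    have h1 := Subgroup.index_mul_card (MulAction.stabilizer N u)
    rw [MulAction.index_stabilizer, ← Nat.card_coe_set_eq, hstab,
      Nat.card_congr (Subgroup.subgroupOfEquivOfLe Subgroup.le_normalizer).toEquiv,
      card_sylow H P, he, mul_comm] at h1
    exact Nat.eq_of_mul_eq_mul_left (pow_pos H.prime.pos 2) h1
  haveI := Fintype.ofFinite (MulAction.orbitRel.Quotient N {u : (P : Subgroup G) // u ≠ 1})
  have hX : Nat.card {u : (P : Subgroup G) // u ≠ 1} = p ^ 2 - 1 := by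
    haveI := Fintype.ofFinite (P : Subgroup G)
    rw [Nat.card_eq_fintype_card, Fintype.card_subtype_compl, Fintype.card_subtype_eq,
      ← Nat.card_eq_fintype_card, card_sylow H P]
  rw [← hX, Nat.card_congr (MulAction.selfEquivSigmaOrbits' N _), Nat.card_sigma]
  refine Finset.dvd_sum fun ω _ => ?_
  induction ω using Quotient.inductionOn' with
  | h u => exact dvd_of_eq ((horb u).symm.trans rfl)

/-- There are `p² + 1` Sylow subgroups; the normalizer is strictly bigger. -/
theorem count (P : Sylow p G) : Nat.card (Sylow p G) = p ^ 2 + 1 ∧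
    p ^ 2 < Nat.card (Subgroup.normalizer ((P : Subgroup G) : Set G)) := by
  classical
  haveI := Fact.mk H.prime
  haveI := Fintype.ofFinite (Sylow p G)
  have hq := four_le H
  have hm5 := three_le_m H
  obtain ⟨e, ⟨f, hf⟩, hN⟩ := norm_index H P
  obtain ⟨k, hk⟩ := dvd_others H P
  have hn : Nat.card (Sylow p G) = p ^ 2 * k + 1 := by
    rw [← hk, Nat.card_eq_fintype_card, Nat.card_eq_fintype_card, Fintype.card_subtype_compl,
      Fintype.card_subtype_eq]
    have : 0 < Fintype.card (Sylow p G) := Fintype.card_pos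
    omega
  have he0 : e ≠ 0 := fun h => by rw [h, zero_mul] at hf; omega
  have hmul : (p ^ 2 * k + 1) * e = (p ^ 2 - 1) * m := by
    have h := (Subgroup.normalizer ((P : Subgroup G) : Set G)).index_mul_card
    have h' := Sylow.card_eq_index_normalizer P
    rw [hn] at h'
    rw [hN, H.card] at h
    erw [← h'] at h
    refine Nat.eq_of_mul_eq_mul_left (pow_pos H.prime.pos 2) ?_
    rw [← h]; ring
  have hnf : p ^ 2 * k + 1 = f * m := by
    rw [hf, mul_assoc, mul_comm _ e] at hmul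
    exact Nat.eq_of_mul_eq_mul_left (Nat.pos_of_ne_zero he0) hmul
  have hδ2 : δ ≤ 2 ∧ 1 ≤ δ := by rcases H.hδ with ⟨h, -⟩ | ⟨h, -⟩ <;> omega
  have hff : f < p ^ 2 := by
    have : f ≤ e * f := Nat.le_mul_of_pos_left f (Nat.pos_of_ne_zero he0)
    omega
  have hfδ : f = δ := by
    have hmod : p ^ 2 * (δ * k) + δ = p ^ 2 * f + f :=
      calc p ^ 2 * (δ * k) + δ = δ * (p ^ 2 * k + 1) := by ring
        _ = f * (δ * m) := by rw [hnf]; ring
        _ = p ^ 2 * f + f := by rw [H.hm]; ring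
    have := congrArg (· % p ^ 2) hmod
    simp only [Nat.mul_add_mod] at this
    rwa [Nat.mod_eq_of_lt (by omega), Nat.mod_eq_of_lt hff, eq_comm] at this
  subst hfδ
  refine ⟨by rw [hn, hnf, H.hm], ?_⟩
  rw [hN]
  have he2 : 2 ≤ e := by
    by_contra hlt
    have : e = 1 := by omega
    rw [this, one_mul] at hf
    omega
  nlinarith

theorem card_others (P : Sylow p G) : Nat.card {Q : Sylow p G // Q ≠ P} = p ^ 2 := by
  classical
  haveI := Fintype.ofFinite (Sylow p G)
  have h := (count H P).1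
  rw [Nat.card_eq_fintype_card] at h
  rw [Nat.card_eq_fintype_card, Fintype.card_subtype_compl, Fintype.card_subtype_eq, h]
  rfl

/-- A Sylow subgroup is regular on the others. -/
theorem regular (P Q R : Sylow p G) (hQ : Q ≠ P) (hR : R ≠ P) :
    ∃ x ∈ (P : Subgroup G), x • Q = R := by
  let f : ↥(P : Subgroup G) → {Q : Sylow p G // Q ≠ P} := fun x => ⟨(x : G) • Q, fun e =>
    hQ (MulAction.injective (x : G) (e.trans (smul_self H P x.2).symm))⟩
  have hf : Function.Injective f := by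
    intro x y e
    have e' : (x : G) • Q = (y : G) • Q := congrArg Subtype.val e
    by_contra hne
    exact hQ (eq_of_smul H P Q (u := (x : G)⁻¹ * y) (mul_mem (inv_mem x.2) y.2)
      (fun h1 => hne (Subtype.ext (inv_mul_eq_one.1 h1)))
      (by rw [mul_smul, ← e', inv_smul_smul])).symm
  obtain ⟨x, hx⟩ := (hf.bijective_of_nat_card_le
    (by rw [card_others H P, card_sylow H P])).2 ⟨R, hR⟩
  exact ⟨x, x.2, congrArg Subtype.val hx⟩

theorem two_trans (a b c d : Sylow p G) (hab : a ≠ b) (hcd : c ≠ d) :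
    ∃ g : G, g • a = c ∧ g • b = d := by
  haveI := Fact.mk H.prime
  obtain ⟨g, hg⟩ := MulAction.exists_smul_eq G a c
  obtain ⟨x, hx, e⟩ := regular H c (g • b) d
    (fun e => hab (MulAction.injective g (hg.trans e.symm))) hcd.symm
  exact ⟨x * g, by rw [mul_smul, hg, smul_self H c hx], by rw [mul_smul, e]⟩

theorem three (g : G) (a b c : Sylow p G) (hab : a ≠ b) (hbc : b ≠ c) (hac : a ≠ c)
    (ha : g • a = a) (hb : g • b = b) (hc : g • c = c) : g = 1 := by
  obtain ⟨x, hx, hxb⟩ := regular H a b c hab.symm hac.symm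
  have hx1 : x ≠ 1 := fun e => hbc (by rw [← hxb, e, one_smul])
  have hy : g * x * g⁻¹ ∈ (a : Subgroup G) :=
    (Subgroup.mem_normalizer_iff.1 (Sylow.smul_eq_iff_mem_normalizer.1 ha) x).1 hx
  have hyb : (g * x * g⁻¹) • b = c := by
    rw [mul_smul, mul_smul, inv_smul_eq_iff.2 hb.symm, hxb, hc]
  have hyx : g * x * g⁻¹ = x := by
    by_contra hne
    refine hab (eq_of_smul H a b (u := x⁻¹ * (g * x * g⁻¹)) (mul_mem (inv_mem hx) hy)
      (fun e => hne (inv_mul_eq_one.1 e).symm) ?_)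
    rw [mul_smul, hyb, inv_smul_eq_iff, hxb]
  have hga : g ∈ (a : Subgroup G) := by
    rw [← cent_eq H a hx hx1, Subgroup.mem_centralizer_singleton_iff]
    exact mul_inv_eq_iff_eq_mul.1 hyx
  by_contra hg
  exact hab (eq_of_smul H a b hga hg hb)

theorem exists_pair : ∃ a b : Sylow p G, a ≠ b := by
  classical
  haveI := Fintype.ofFinite (Sylow p G)
  obtain ⟨P⟩ : Nonempty (Sylow p G) := inferInstance
  have h := (count H P).1
  have := four_le H
  rw [Nat.card_eq_fintype_card] at h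
  obtain ⟨b, hb⟩ := Fintype.exists_ne_of_one_lt_card (by omega) P
  exact ⟨b, P, hb⟩

theorem faithful : FaithfulSMul G (Sylow p G) := by
  classical
  haveI := Fintype.ofFinite (Sylow p G)
  refine ⟨fun {g₁ g₂} h => ?_⟩
  have hfix : ∀ Q : Sylow p G, (g₁⁻¹ * g₂) • Q = Q := fun Q => by
    rw [mul_smul, ← h Q, inv_smul_smul]
  obtain ⟨a, b, hab⟩ := exists_pair H
  obtain ⟨c, hca, hcb⟩ : ∃ c, c ≠ a ∧ c ≠ b := by
    have h := (count H a).1
    have := four_le H
    rw [Nat.card_eq_fintype_card] at h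
    obtain ⟨c, hc⟩ : ((Finset.univ : Finset (Sylow p G)) \ {a, b}).Nonempty := by
      rw [← Finset.card_pos, Finset.card_sdiff]
      have : (({a, b} : Finset (Sylow p G)) ∩ Finset.univ).card ≤ 2 := by
        rw [Finset.inter_univ]; exact Finset.card_le_two
      rw [Finset.card_univ]
      omega
    simp only [Finset.mem_sdiff, Finset.mem_insert, Finset.mem_singleton, not_or] at hc
    exact ⟨c, hc.2.1, hc.2.2⟩
  exact inv_mul_eq_one.1 (three H _ a b c hab hcb.symm hca.symm (hfix a) (hfix b) (hfix c))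

theorem two_point : ∃ g : G, g ≠ 1 ∧ ∃ a b : Sylow p G, a ≠ b ∧ g • a = a ∧ g • b = b := by
  obtain ⟨a, b, hab⟩ := exists_pair H
  by_contra hcon
  push Not at hcon
  let f : Subgroup.normalizer ((a : Subgroup G) : Set G) → {Q : Sylow p G // Q ≠ a} :=
    fun x => ⟨(x : G) • b, fun e => hab
      (MulAction.injective (x : G) (e.trans (Sylow.smul_eq_iff_mem_normalizer.2 x.2).symm)).symm⟩
  have hf : Function.Injective f := by
    intro x y e
    have e' : (x : G) • b = (y : G) • b := congrArg Subtype.val e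
    by_contra hne
    refine hcon ((x : G)⁻¹ * y) (fun h1 => hne (Subtype.ext (inv_mul_eq_one.1 h1))) a b hab ?_
      (by rw [mul_smul, ← e', inv_smul_smul])
    exact Sylow.smul_eq_iff_mem_normalizer.2 (mul_mem (inv_mem x.2) y.2)
  have := Nat.card_le_card_of_injective f hf
  rw [card_others H a] at this
  exact absurd (count H a).2 (by omega)

/-- A nontrivial normal subgroup is transitive. -/
theorem normal_trans (N : Subgroup G) [hN : N.Normal] (hne : N ≠ ⊥) (a b : Sylow p G) :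
    ∃ x ∈ N, x • a = b := by
  rcases eq_or_ne a b with rfl | hab
  · exact ⟨1, N.one_mem, one_smul _ _⟩
  obtain ⟨h, hh, h1⟩ : ∃ h ∈ N, h ≠ 1 := by
    by_contra hcon
    push Not at hcon
    exact hne ((Subgroup.eq_bot_iff_forall _).2 hcon)
  obtain ⟨c, hc⟩ : ∃ c : Sylow p G, h • c ≠ c := by
    by_contra hcon
    push Not at hcon
    exact h1 ((faithful H).eq_of_smul_eq_smul fun Q => by rw [hcon Q, one_smul])
  obtain ⟨g, hga, hgb⟩ := two_trans H c (h • c) a b hc.symm hab
  exact ⟨g * h * g⁻¹, hN.conj_mem h hh g,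
    by rw [mul_smul, mul_smul, inv_smul_eq_iff.2 hga.symm, hgb]⟩

/-- The group is simple. -/
theorem simple : IsSimpleGroup G := by
  classical
  have hq := four_le H
  have hm5 := three_le_m H
  haveI : Nontrivial G := by
    rw [← Finite.one_lt_card_iff_nontrivial, H.card]
    have h1 : 1 ≤ (p ^ 2 - 1) * m := Nat.mul_pos (by omega) (by omega)
    nlinarith
  refine ⟨fun N hN => or_iff_not_imp_left.2 fun hne => ?_⟩
  obtain ⟨a⟩ : Nonempty (Sylow p G) := inferInstance
  haveI : MulAction.IsPretransitive N (Sylow p G) := ⟨fun x y => by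
    obtain ⟨g, hg, e⟩ := normal_trans H N hne x y
    exact ⟨⟨g, hg⟩, e⟩⟩
  have hdvd : p ^ 2 + 1 ∣ Nat.card N := by
    rw [← (count H a).1, ← MulAction.index_stabilizer_of_transitive N a]
    exact Subgroup.index_dvd_card _
  obtain ⟨s, hs⟩ := hdvd
  have hi : δ * s * N.index = p ^ 2 * (p ^ 2 - 1) := by
    have h := N.index_mul_card
    rw [hs, H.card, ← H.hm] at h
    refine Nat.eq_of_mul_eq_mul_right (show 0 < m by omega) ?_
    rw [mul_assoc (p ^ 2), ← h]; ring
  have hiq : N.index ∣ p ^ 2 * (p ^ 2 - 1) := ⟨δ * s, by rw [← hi, mul_comm]⟩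
  have hile : N.index ≤ p ^ 2 * (p ^ 2 - 1) :=
    Nat.le_of_dvd (Nat.mul_pos (by omega) (by omega)) hiq
  let χ₁ : IrrCharacter (G ⧸ N) := ⟨fun _ => 1, CharBasicDecomp.isIrrCharacter_one⟩
  have h1 : charDegree (χ₁ : G ⧸ N → ℂ) = 1 := by simp [χ₁, charDegree]
  have hcardq : Nat.card (G ⧸ N) = N.index := rfl
  have hsum : 1 + ∑ χ ∈ Finset.univ.erase χ₁, charDegree (χ : G ⧸ N → ℂ) ^ 2 = N.index := by
    rw [← hcardq, ← CharKernel.sum_sq_charDegree, ← Finset.add_sum_erase _ _ (Finset.mem_univ χ₁),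
      h1, one_pow]
  have hall : ∀ χ ∈ Finset.univ.erase χ₁, charDegree (χ : G ⧸ N → ℂ) = p ^ 2 - 1 ∧
      p ^ 2 - 1 ∣ N.index := by
    intro χ hχ
    obtain ⟨d, hd0, hd, hdi⟩ := CharBasicInt.exists_apply_one_dvd_card χ.2
    rw [hcardq] at hdi
    have hdd : charDegree (χ : G ⧸ N → ℂ) = d := by simp [charDegree, hd]
    have hdd' : charDegree ((CharKernel.quotEquiv N χ).1 : G → ℂ) = d := by
      rw [CharKernel.charDegree_quotEquiv, hdd]
    have hle : d ^ 2 + 1 ≤ N.index := by
      rw [← hsum, add_comm, ← hdd]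
      exact Nat.add_le_add_left (Finset.single_le_sum
        (f := fun χ : IrrCharacter (G ⧸ N) => charDegree (χ : G ⧸ N → ℂ) ^ 2)
        (fun _ _ => Nat.zero_le _) hχ) 1
    rcases H.deg (CharKernel.quotEquiv N χ).1 with e | e | e | e | e <;> rw [hdd'] at e
    · exfalso
      refine Finset.ne_of_mem_erase hχ ((CharKernel.quotEquiv N).injective
        (Subtype.ext (H.one _ _ (hdd'.trans e) ?_)))
      rw [CharKernel.charDegree_quotEquiv, h1]
    · exfalso
      have : p ^ 2 * (p ^ 2 - 1) ≤ p ^ 2 * p ^ 2 := Nat.mul_le_mul_left _ (Nat.sub_le _ _)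
      rw [e, sq (p ^ 2)] at hle
      omega
    · exfalso
      have : p ^ 2 * (p ^ 2 - 1) ≤ p ^ 2 * p ^ 2 := Nat.mul_le_mul_left _ (Nat.sub_le _ _)
      have : p ^ 2 * p ^ 2 ≤ (p ^ 2 + 1) ^ 2 := by nlinarith
      rw [e] at hle
      omega
    · exact ⟨hdd.trans e, e ▸ hdi⟩
    · exfalso
      have := Nat.eq_one_of_dvd_one (n := m) (by
        rw [← (coprime_m H).gcd_eq_one]; exact Nat.dvd_gcd (e ▸ hdi.trans hiq) dvd_rfl)
      omega
  rcases (Finset.univ.erase χ₁).eq_empty_or_nonempty with he | ⟨χ, hχ⟩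
  · rw [he, Finset.sum_empty, add_zero] at hsum
    exact Subgroup.index_eq_one.1 hsum.symm
  · exfalso
    have h2 : p ^ 2 - 1 ∣ ∑ χ ∈ Finset.univ.erase χ₁, charDegree (χ : G ⧸ N → ℂ) ^ 2 :=
      Finset.dvd_sum fun ψ hψ => (hall ψ hψ).1 ▸ dvd_pow_self _ two_ne_zero
    have h3 : p ^ 2 - 1 ∣ 1 := (Nat.dvd_add_left h2).1 (hsum.symm ▸ (hall χ hχ).2)
    have := Nat.le_of_dvd one_pos h3
    omega

/-- The Zassenhaus group. -/
theorem zassenhaus : IsZassenhausGroup G (Sylow p G) := by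
  haveI := simple H
  refine ⟨faithful H, MulAction.is_two_pretransitive_iff.2 fun hab hcd =>
    two_trans H _ _ _ _ hab hcd, three H, two_point H, fun N hN hT => ?_⟩
  obtain ⟨a, b, hab⟩ := exists_pair H
  have hne : N ≠ ⊥ := by
    rintro rfl
    obtain ⟨x, hx⟩ := MulAction.exists_smul_eq (⊥ : Subgroup G) a b
    rw [Subsingleton.elim x 1, one_smul] at hx
    exact hab hx
  obtain rfl := (hN.eq_bot_or_eq_top).resolve_left hne
  obtain ⟨g, hg, c, d, -, hc, -⟩ := two_point H
  exact ⟨c, fun hbot => hg (congrArg Subtype.val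
    ((Subgroup.eq_bot_iff_forall _).1 hbot ⟨g, Subgroup.mem_top g⟩ hc))⟩

end Cfsg.Agent.DegreeSquareRecog82
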