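import Cfsg.Prelude.Def_Characters
import Cfsg.Agent.Lib.CharBasicPerm
import Cfsg.Agent.Lib.CharBasicLinear
import Cfsg.Agent.Lib.CharInducedClifford

/-!
# Characters of a transitive group with a regular abelian subgroup

`B` is transitive on `Ω`, `P` is a regular abelian subgroup which is the centralizer of each of its
non-identity elements.  The non-trivial constituents of the permutation character are studied.
-/

set_option autoImplicit false
set_option linter.all false

namespace Cfsg.Agent.DerangeIndexChar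

open Cfsg Cfsg.Agent.CharBasic Cfsg.Agent.CharBasicOrth Cfsg.Agent.CharBasicDecomp
open scoped Classical ComplexConjugate

universe u v

variable {B : Type u} [Group B] [Fintype B]

/-- the permutation character -/
noncomputable def permFn (B : Type u) [Group B] (Ω : Type v) [MulAction B Ω] : B → ℂ :=
  fun g => (Nat.card (MulAction.fixedBy Ω g) : ℂ)

/-- multiplicity of `l` in the restriction of `χ` to `P` -/
noncomputable def mu (P : Subgroup B) (χ : B → ℂ) (l : IrrCharacter P) : ℕ :=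
  ⌊(classInner (fun x : P => χ x) (l : P → ℂ)).re⌋₊

/-- the degree -/
noncomputable def dg {G : Type u} [Group G] (χ : G → ℂ) : ℕ := ⌊(χ 1).re⌋₊

/-- the non-trivial constituents of the permutation character -/
noncomputable def cons (B : Type u) [Group B] [Fintype B] (Ω : Type v) [MulAction B Ω] :
    Finset (IrrCharacter B) :=
  Finset.univ.filter fun χ => χ ≠ trivIrr B ∧ classInner (permFn B Ω) (χ : B → ℂ) ≠ 0

theorem dg_cast {G : Type u} [Group G] {χ : G → ℂ} (h : IsCharacter G χ) : (dg χ : ℂ) = χ 1 := by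
  obtain ⟨n, hn⟩ := isCharacter_apply_one h
  rw [dg, hn, Complex.natCast_re, Nat.floor_natCast]

variable (P : Subgroup B)

theorem mu_cast {χ : B → ℂ} (h : IsCharacter B χ) (l : IrrCharacter P) :
    (mu P χ l : ℂ) = classInner (fun x : P => χ x) (l : P → ℂ) := by
  obtain ⟨n, hn⟩ := CharInduced.coeff_nat (CharInduced.isCharacter_res P h) l.2
  rw [mu, hn, Complex.natCast_re, Nat.floor_natCast]

theorem res_eq {χ : B → ℂ} (h : IsCharacter B χ) (x : P) :
    χ x = ∑ l : IrrCharacter P, (mu P χ l : ℂ) * (l : P → ℂ) x := by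
  have h1 := congrFun (eq_sum_classInner
    (isClassFunction_of_isCharacter (CharInduced.isCharacter_res P h))) x
  simp only [Finset.sum_apply, Pi.smul_apply, smul_eq_mul] at h1
  rw [h1]
  simp only [mu_cast P h]

theorem mu_triv (l : IrrCharacter P) :
    mu P (trivIrr B : B → ℂ) l = if l = trivIrr P then 1 else 0 := by
  have h := mu_cast P (isCharacter_of_isIrrCharacter (trivIrr B).2) l
  rw [show (fun x : P => (trivIrr B : B → ℂ) x) = (trivIrr P : P → ℂ) from rfl,
    classInner_irrCharacter] at h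
  by_cases hl : l = trivIrr P
  · rw [if_pos hl.symm] at h
    rw [if_pos hl]
    exact_mod_cast h
  · rw [if_neg (Ne.symm hl)] at h
    rw [if_neg hl]
    exact_mod_cast h

/-- the standing hypotheses -/
structure Reg (Ω : Type v) [MulAction B Ω] (P : Subgroup B) : Prop where
  comm : ∀ x y : P, x * y = y * x
  card : Nat.card P = Nat.card Ω
  free : ∀ x ∈ P, x ≠ 1 → ∀ w : Ω, x • w ≠ w

variable {P} {Ω : Type v} [MulAction B Ω] [Finite Ω]

theorem Reg.lin (h : Reg Ω P) (l : IrrCharacter P) : (l : P → ℂ) 1 = 1 :=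
  CharBasicLinear.apply_one_eq_one_of_comm h.comm l.2

theorem Reg.dg_eq (h : Reg Ω P) {χ : B → ℂ} (hχ : IsCharacter B χ) :
    dg χ = ∑ l : IrrCharacter P, mu P χ l := by
  have h1 : (dg χ : ℂ) = ((∑ l : IrrCharacter P, mu P χ l : ℕ) : ℂ) := by
    rw [dg_cast hχ, Nat.cast_sum, show χ 1 = χ ((1 : P) : B) from rfl, res_eq P hχ]
    simp only [h.lin, mul_one]
  exact_mod_cast h1

theorem Reg.perm_apply (h : Reg Ω P) (x : P) :
    permFn B Ω x = if x = 1 then (Nat.card Ω : ℂ) else 0 := by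
  unfold permFn
  split_ifs with hx
  · subst hx
    norm_cast
    exact Nat.card_congr ((Equiv.setCongr (by ext w; simp)).trans (Equiv.Set.univ Ω))
  · norm_cast
    rw [Nat.card_eq_zero]
    exact Or.inl ⟨fun w => h.free x x.2 (fun e => hx (Subtype.ext e)) w.1 w.2⟩

theorem isCharacter_perm : IsCharacter B (permFn B Ω) :=
  CharBasicPerm.isCharacter_fixedBy Ω

theorem Reg.mu_perm (h : Reg Ω P) (l : IrrCharacter P) : mu P (permFn B Ω) l = 1 := by
  have h1 := mu_cast P (isCharacter_perm (B := B) (Ω := Ω)) l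
  have h2 : classInner (fun x : P => permFn B Ω x) (l : P → ℂ) = 1 := by
    rw [classInner, Finset.sum_eq_single (1 : P)]
    · rw [h.perm_apply, if_pos rfl, h.lin, map_one, mul_one, h.card, inv_mul_cancel₀]
      rw [← h.card]
      exact Nat.cast_ne_zero.2 Nat.card_pos.ne'
    · intro x _ hx
      rw [h.perm_apply, if_neg hx, zero_mul]
    · intro hx
      exact absurd (Finset.mem_univ _) hx
  rw [h2] at h1
  exact_mod_cast h1

variable [MulAction.IsPretransitive B Ω] [Nonempty Ω]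

theorem perm_inner_triv : classInner (permFn B Ω) (trivIrr B : B → ℂ) = 1 := by
  refine (CharBasicPerm.classInner_fixedBy_one (G := B) Ω).trans ?_
  rw [Nat.cast_eq_one, Nat.card_eq_one_iff_unique]
  refine ⟨⟨fun a b => ?_⟩, ⟨Quotient.mk'' (Classical.arbitrary Ω)⟩⟩
  induction a using Quotient.inductionOn with | _ a =>
  induction b using Quotient.inductionOn with | _ b =>
  obtain ⟨g, hg⟩ := MulAction.exists_smul_eq B b a
  exact Quotient.sound ⟨g, hg⟩

theorem Reg.basic (h : Reg Ω P) :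
    (∀ χ ∈ cons B Ω, classInner (permFn B Ω) (χ : B → ℂ) = 1) ∧
    (∀ l : IrrCharacter P,
      ∑ χ ∈ cons B Ω, mu P (χ : B → ℂ) l = if l = trivIrr P then 0 else 1) := by
  obtain ⟨m, hm, hsum⟩ := exists_mult (isCharacter_perm (B := B) (Ω := Ω))
  have hcons : cons B Ω = Finset.univ.filter (fun χ => χ ≠ trivIrr B ∧ m χ ≠ 0) := by
    ext χ
    simp [cons, hm]
  have hlin : ∀ l : IrrCharacter P,
      ∑ χ : IrrCharacter B, m χ * mu P (χ : B → ℂ) l = 1 := by
    intro l
    have h1 : (1 : ℂ) = ∑ χ : IrrCharacter B, (m χ : ℂ) * (mu P (χ : B → ℂ) l : ℂ) := by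
      have h2 := mu_cast P (isCharacter_perm (B := B) (Ω := Ω)) l
      rw [h.mu_perm, Nat.cast_one] at h2
      refine h2.trans ?_
      have h3 : (fun x : P => permFn B Ω x) =
          ∑ χ : IrrCharacter B, (m χ : ℂ) • (fun x : P => (χ : B → ℂ) x) := by
        funext x
        rw [hsum, Finset.sum_apply, Finset.sum_apply]
        rfl
      rw [h3, classInner_sum_left]
      refine Finset.sum_congr rfl fun χ _ => ?_
      rw [classInner_smul_left, mu_cast P (isCharacter_of_isIrrCharacter χ.2)]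
    exact_mod_cast h1.symm
  have hone : m (trivIrr B) = 1 := by
    have := hm (trivIrr B)
    rw [perm_inner_triv] at this
    exact_mod_cast this.symm
  have hsplit : ∀ l : IrrCharacter P,
      ∑ χ ∈ cons B Ω, m χ * mu P (χ : B → ℂ) l = if l = trivIrr P then 0 else 1 := by
    intro l
    have h1 := hlin l
    rw [← Finset.add_sum_erase _ _ (Finset.mem_univ (trivIrr B)), hone, one_mul, mu_triv] at h1
    have h2 : ∑ χ ∈ cons B Ω, m χ * mu P (χ : B → ℂ) l =
        ∑ χ ∈ Finset.univ.erase (trivIrr B), m χ * mu P (χ : B → ℂ) l := by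
      refine Finset.sum_subset (fun χ hχ => ?_) (fun χ hχ hχ' => ?_)
      · rw [hcons, Finset.mem_filter] at hχ
        simp [hχ.2.1]
      · rw [hcons, Finset.mem_filter] at hχ'
        simp only [Finset.mem_erase, Finset.mem_univ, and_true] at hχ
        have : m χ = 0 := by simpa [hχ] using hχ'
        rw [this, zero_mul]
    rw [h2]
    split_ifs at h1 ⊢ <;> omega
  have hm1 : ∀ χ ∈ cons B Ω, m χ = 1 := by
    intro χ hχ
    obtain ⟨d, hd0, hd⟩ := isIrrCharacter_apply_one χ.2
    obtain ⟨l, hl⟩ : ∃ l, mu P (χ : B → ℂ) l ≠ 0 := by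
      by_contra hcon
      push Not at hcon
      have h1 := h.dg_eq (isCharacter_of_isIrrCharacter χ.2)
      rw [Finset.sum_eq_zero fun l _ => hcon l, dg, hd, Complex.natCast_re,
        Nat.floor_natCast] at h1
      omega
    have h1 := Finset.single_le_sum (f := fun χ : IrrCharacter B => m χ * mu P (χ : B → ℂ) l)
      (fun _ _ => Nat.zero_le _) hχ
    rw [hsplit] at h1
    rw [hcons, Finset.mem_filter] at hχ
    have h2 : m χ * 1 ≤ m χ * mu P (χ : B → ℂ) l := Nat.mul_le_mul_left _ (by omega)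
    split_ifs at h1 <;> omega
  refine ⟨fun χ hχ => by rw [hm, hm1 χ hχ, Nat.cast_one], fun l => ?_⟩
  rw [← hsplit l]
  exact Finset.sum_congr rfl fun χ hχ => by rw [hm1 χ hχ, one_mul]

theorem Reg.perm_eq (h : Reg Ω P) (g : B) :
    permFn B Ω g = 1 + ∑ χ ∈ cons B Ω, (χ : B → ℂ) g := by
  have h1 := congrFun (eq_sum_classInner
    (isClassFunction_of_isCharacter (isCharacter_perm (B := B) (Ω := Ω)))) g
  rw [Finset.sum_apply, ← Finset.add_sum_erase _ _ (Finset.mem_univ (trivIrr B))] at h1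
  simp only [Pi.smul_apply, smul_eq_mul, perm_inner_triv, one_mul] at h1
  rw [h1]
  refine congrArg₂ (· + ·) rfl ?_
  refine (Finset.sum_subset_zero_on_sdiff ?_ ?_ ?_).symm
  · intro χ hχ
    simp only [cons, Finset.mem_filter] at hχ
    simp [hχ.2.1]
  · intro χ hχ
    simp only [cons, Finset.mem_sdiff, Finset.mem_erase, Finset.mem_filter, Finset.mem_univ,
      true_and, and_true, not_and, not_not] at hχ
    rw [hχ.2 hχ.1, zero_mul]
  · intro χ hχ
    rw [h.basic.1 χ hχ, one_mul]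

theorem Reg.sum_dg (h : Reg Ω P) :
    ∑ χ ∈ cons B Ω, dg (χ : B → ℂ) + 1 = Nat.card Ω := by
  have h1 := h.perm_eq 1
  rw [show permFn B Ω 1 = permFn B Ω ((1 : P) : B) from rfl, h.perm_apply, if_pos rfl] at h1
  have h2 : ((∑ χ ∈ cons B Ω, dg (χ : B → ℂ) + 1 : ℕ) : ℂ) = (Nat.card Ω : ℂ) := by
    rw [h1, Nat.cast_add, Nat.cast_sum, Nat.cast_one, add_comm]
    simp only [fun χ : IrrCharacter B => dg_cast (isCharacter_of_isIrrCharacter χ.2)]
  exact_mod_cast h2

theorem Reg.mu_le_one (h : Reg Ω P) {χ : IrrCharacter B} (hχ : χ ∈ cons B Ω) (l : IrrCharacter P) :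
    mu P (χ : B → ℂ) l ≤ 1 ∧ mu P (χ : B → ℂ) (trivIrr P) = 0 := by
  have h1 := Finset.single_le_sum (f := fun χ : IrrCharacter B => mu P (χ : B → ℂ) l)
    (fun _ _ => Nat.zero_le _) hχ
  have h2 := Finset.single_le_sum (f := fun χ : IrrCharacter B => mu P (χ : B → ℂ) (trivIrr P))
    (fun _ _ => Nat.zero_le _) hχ
  rw [h.basic.2] at h1 h2
  simp only [if_pos] at h2
  split_ifs at h1 <;> exact ⟨by omega, by omega⟩

theorem Reg.exists_mu (h : Reg Ω P) {χ : IrrCharacter B} (hχ : χ ∈ cons B Ω) :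
    ∃ l : IrrCharacter P, l ≠ trivIrr P ∧ mu P (χ : B → ℂ) l = 1 := by
  obtain ⟨d, hd0, hd⟩ := isIrrCharacter_apply_one χ.2
  obtain ⟨l, hl⟩ : ∃ l, mu P (χ : B → ℂ) l ≠ 0 := by
    by_contra hcon
    push Not at hcon
    have h1 := h.dg_eq (isCharacter_of_isIrrCharacter χ.2)
    rw [Finset.sum_eq_zero fun l _ => hcon l, dg, hd, Complex.natCast_re, Nat.floor_natCast] at h1
    omega
  refine ⟨l, fun e => hl (e ▸ (h.mu_le_one hχ l).2), ?_⟩
  have := (h.mu_le_one hχ l).1
  omega

theorem Reg.mu_unique (h : Reg Ω P) {χ ψ : IrrCharacter B} (hχ : χ ∈ cons B Ω)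
    (hψ : ψ ∈ cons B Ω) (hne : χ ≠ ψ) {l : IrrCharacter P} (hl : mu P (χ : B → ℂ) l ≠ 0) :
    mu P (ψ : B → ℂ) l = 0 := by
  have h1 := Finset.sum_le_sum_of_subset (f := fun χ : IrrCharacter B => mu P (χ : B → ℂ) l)
    (show ({χ, ψ} : Finset (IrrCharacter B)) ⊆ cons B Ω by
      intro x hx
      simp only [Finset.mem_insert, Finset.mem_singleton] at hx
      rcases hx with rfl | rfl <;> assumption)
  rw [Finset.sum_pair hne, h.basic.2] at h1
  split_ifs at h1 <;> omega

/-! ### Trivial intersection -/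

variable (P) in
/-- conjugation by a normalising element -/
def cj (x : Subgroup.normalizer (P : Set B)) : P →* P where
  toFun u := ⟨(x : B)⁻¹ * u * x, (Subgroup.mem_normalizer_iff''.1 x.2 u).1 u.2⟩
  map_one' := Subtype.ext (by simp)
  map_mul' a b := Subtype.ext (by simp [mul_assoc])

theorem cj_surjective (x : Subgroup.normalizer (P : Set B)) : Function.Surjective (cj P x) :=
  fun u => ⟨⟨x * u * (x : B)⁻¹, (Subgroup.mem_normalizer_iff.1 x.2 u).1 u.2⟩,
    Subtype.ext (by simp [cj, mul_assoc])⟩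

variable (P) in
/-- conjugate character -/
noncomputable def cjIrr (x : Subgroup.normalizer (P : Set B)) (l : IrrCharacter P) : IrrCharacter P :=
  ⟨fun u => (l : P → ℂ) (cj P x u), isIrrCharacter_comap (cj P x) (cj_surjective x) l.2⟩

theorem mem_of_cjIrr_eq (h : Reg Ω P)
    (hc : ∀ x ∈ P, x ≠ 1 → Subgroup.centralizer ({x} : Set B) = P)
    {x : Subgroup.normalizer (P : Set B)} {l : IrrCharacter P} (hl : l ≠ trivIrr P)
    (he : cjIrr P x l = l) : (x : B) ∈ P := by
  by_contra hx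
  apply hl
  obtain ⟨lam, hlam⟩ := CharBasicLinear.exists_hom_of_comm h.comm l.2
  let φ : P →* P :=
    { toFun := fun u => cj P x u * u⁻¹
      map_one' := by simp
      map_mul' := fun a b => by
        rw [map_mul, mul_inv_rev, mul_assoc, mul_assoc]
        congr 1
        rw [h.comm b⁻¹ a⁻¹, ← mul_assoc, ← mul_assoc, h.comm (cj P x b) a⁻¹] }
  have hinj : Function.Injective φ := by
    rw [injective_iff_map_eq_one]
    intro u hu
    by_contra hu1
    refine hx ((hc u u.2 fun e => hu1 (Subtype.ext e)).le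
      (Subgroup.mem_centralizer_singleton_iff.2 ?_))
    have h1 : (x : B)⁻¹ * u * x = u := congrArg Subtype.val (mul_inv_eq_one.1 hu : cj P x u = u)
    calc (x : B) * u = x * ((x : B)⁻¹ * u * x) := by rw [h1]
      _ = u * x := by group
  apply Subtype.ext
  funext v
  obtain ⟨u, rfl⟩ := Finite.surjective_of_injective hinj v
  have h1 := congrFun (congrArg Subtype.val he) u
  simp only [cjIrr, hlam] at h1
  show (l : P → ℂ) (φ u) = 1
  rw [hlam]
  simp only [φ, MonoidHom.coe_mk, OneHom.coe_mk, map_mul, map_inv, Units.val_mul, h1,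
    Units.mul_inv]

theorem ind_sub_apply (hc : ∀ x ∈ P, x ≠ 1 → Subgroup.centralizer ({x} : Set B) = P)
    (α : P → ℂ) (hα : α 1 = 0) (u : P) :
    indFun P α (u : B) =
      (Nat.card P : ℂ)⁻¹ * ∑ x : Subgroup.normalizer (P : Set B), α (cj P x u) := by
  rw [CharInduced.indFun_apply]
  congr 1
  by_cases hu : u = 1
  · subst hu
    rw [Finset.sum_eq_zero, Finset.sum_eq_zero]
    · intro x _; rw [map_one, hα]
    · intro x _
      rw [show x⁻¹ * ((1 : P) : B) * x = ((1 : P) : B) by simp, CharInduced.ext_zero_coe, hα]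
  have hz : ∀ x : B, x ∉ Subgroup.normalizer (P : Set B) →
      extendByZero P α (x⁻¹ * u * x) = 0 := by
    intro x hx
    refine CharInduced.ext_zero_of_not_mem α fun hmem => hx ?_
    have hne : x⁻¹ * (u : B) * x ≠ 1 := fun e => hu (Subtype.ext (by
      calc (u : B) = x * (x⁻¹ * u * x) * x⁻¹ := by group
        _ = 1 := by rw [e]; group))
    have h1 := hc _ hmem hne
    have h2 := hc _ u.2 fun e => hu (Subtype.ext e)
    rw [Subgroup.mem_normalizer_iff]
    intro v
    constructor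
    · intro hv
      refine h2.le (Subgroup.mem_centralizer_singleton_iff.2 ?_)
      have := Subgroup.mem_centralizer_singleton_iff.1 (h1.ge hv)
      calc x * v * x⁻¹ * u = x * (v * (x⁻¹ * u * x)) * x⁻¹ := by group
        _ = x * ((x⁻¹ * u * x) * v) * x⁻¹ := by rw [this]
        _ = u * (x * v * x⁻¹) := by group
    · intro hv
      refine h1.le (Subgroup.mem_centralizer_singleton_iff.2 ?_)
      have := Subgroup.mem_centralizer_singleton_iff.1 (h2.ge hv)
      calc v * (x⁻¹ * u * x) = x⁻¹ * ((x * v * x⁻¹) * u) * x := by group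
        _ = x⁻¹ * (u * (x * v * x⁻¹)) * x := by rw [this]
        _ = x⁻¹ * u * x * v := by group
  rw [← Finset.sum_subset (Finset.subset_univ
    (Finset.univ.filter fun x : B => x ∈ Subgroup.normalizer (P : Set B)))
    (fun x _ hx => hz x (by simpa using hx))]
  rw [Finset.sum_subtype (p := fun x : B => x ∈ Subgroup.normalizer (P : Set B)) _ (by simp)
    (fun x => extendByZero P α (x⁻¹ * u * x))]
  refine Finset.sum_congr rfl fun x _ => ?_
  exact CharInduced.ext_zero_coe α (cj P x u)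

/-- The multiplicities of two characters of `P` differ in at most two irreducible characters. -/
theorem Reg.bessel (h : Reg Ω P) (hc : ∀ x ∈ P, x ≠ 1 → Subgroup.centralizer ({x} : Set B) = P)
    {l l' : IrrCharacter P} (hl : l ≠ trivIrr P) (hl' : l' ≠ trivIrr P) :
    ∑ χ : IrrCharacter B, ((mu P (χ : B → ℂ) l : ℤ) - mu P (χ : B → ℂ) l') ^ 2 ≤ 2 := by
  set α : P → ℂ := (l : P → ℂ) - (l' : P → ℂ) with hα
  set f := indFun P α with hf
  have hα1 : α 1 = 0 := by simp [hα, h.lin]
  have hcoef : ∀ χ : IrrCharacter B, classInner f (χ : B → ℂ) =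
      (((mu P (χ : B → ℂ) l : ℤ) - mu P (χ : B → ℂ) l' : ℤ) : ℂ) := by
    intro χ
    have hχ := isCharacter_of_isIrrCharacter χ.2
    rw [hf, CharInduced.inner_ind_left P α (CharInduced.isClassFunction_irr χ.2),
      hα, classInner_sub_left, ← conj_classInner (fun x : P => (χ : B → ℂ) x),
      ← conj_classInner (fun x : P => (χ : B → ℂ) x), ← mu_cast P hχ, ← mu_cast P hχ]
    simp
  have hff : classInner f f =
      ((∑ χ : IrrCharacter B, ((mu P (χ : B → ℂ) l : ℤ) - mu P (χ : B → ℂ) l') ^ 2 : ℤ) : ℂ) := by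
    rw [classInner_eq_sum (CharInduced.isClassFunction_ind (H := P) α), Int.cast_sum]
    refine Finset.sum_congr rfl fun χ _ => ?_
    rw [hcoef, map_intCast, pow_two, Int.cast_mul]
  set N := Subgroup.normalizer (P : Set B) with hN
  have hff' : classInner f f = (Nat.card P : ℂ)⁻¹ *
      ∑ x : N, classInner α (fun u : P => α (cj P x u)) := by
    conv_lhs => arg 1; rw [hf]
    rw [CharInduced.inner_ind_left P α (CharInduced.isClassFunction_ind (H := P) α)]
    simp only [classInner, hf, ind_sub_apply hc α hα1, map_mul, map_sum, map_inv₀, map_natCast,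
      Finset.mul_sum]
    rw [Finset.sum_comm]
    exact Finset.sum_congr rfl fun x _ => Finset.sum_congr rfl fun u _ => by ring
  have hx : ∀ x : N, (classInner α (fun u : P => α (cj P x u))).re ≤
      (if cjIrr P x l = l then 1 else 0) + (if cjIrr P x l' = l' then 1 else 0) := by
    intro x
    have e : (fun u : P => α (cj P x u)) =
        (cjIrr P x l : P → ℂ) - (cjIrr P x l' : P → ℂ) := rfl
    rw [e, hα, classInner_sub_left, classInner_sub_right, classInner_sub_right]
    simp only [classInner_irrCharacter, eq_comm (a := l), eq_comm (a := l')]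
    split_ifs <;> norm_num
  have hcount : ∀ l : IrrCharacter P, l ≠ trivIrr P →
      ∑ x : N, (if cjIrr P x l = l then (1 : ℝ) else 0) ≤ Nat.card P := by
    intro l hl
    rw [Finset.sum_boole]
    refine Nat.cast_le.2 ?_
    rw [Nat.card_eq_fintype_card, ← Finset.card_univ]
    refine Finset.card_le_card_of_injOn
      (fun x => if hx : (x : B) ∈ P then (⟨x, hx⟩ : P) else 1) (fun x _ => Finset.mem_univ _) ?_
    intro x hx y hy e
    simp only [Finset.coe_filter, Finset.mem_univ, true_and, Set.mem_setOf_eq] at hx hy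
    simp only [dif_pos (mem_of_cjIrr_eq h hc hl hx), dif_pos (mem_of_cjIrr_eq h hc hl hy),
      Subtype.mk.injEq] at e
    exact Subtype.ext e
  have hreal : ((∑ χ : IrrCharacter B,
      ((mu P (χ : B → ℂ) l : ℤ) - mu P (χ : B → ℂ) l') ^ 2 : ℤ) : ℝ) ≤ 2 := by
    have h1 := congrArg Complex.re (hff.symm.trans hff')
    rw [Complex.intCast_re] at h1
    rw [h1, ← Complex.ofReal_natCast, ← Complex.ofReal_inv, Complex.re_ofReal_mul, Complex.re_sum]
    have h2 := (Finset.sum_le_sum fun x (_ : x ∈ Finset.univ) => hx x)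
    rw [Finset.sum_add_distrib] at h2
    have h3 := hcount l hl
    have h4 := hcount l' hl'
    have hpos : (0 : ℝ) < Nat.card P := by exact_mod_cast Nat.card_pos
    rw [inv_mul_le_iff₀ hpos]
    linarith
  exact_mod_cast hreal

theorem Reg.mu_const (h : Reg Ω P) (hc : ∀ x ∈ P, x ≠ 1 → Subgroup.centralizer ({x} : Set B) = P)
    (h2 : 2 ≤ (cons B Ω).card) {φ : IrrCharacter B} (hφ : φ ∉ cons B Ω) {l l' : IrrCharacter P}
    (hl : l ≠ trivIrr P) (hl' : l' ≠ trivIrr P) :
    mu P (φ : B → ℂ) l = mu P (φ : B → ℂ) l' := by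
  have own : ∀ l : IrrCharacter P, l ≠ trivIrr P →
      ∃ θ ∈ cons B Ω, mu P (θ : B → ℂ) l = 1 := by
    intro l hl
    have h1 := h.basic.2 l
    rw [if_neg hl] at h1
    obtain ⟨θ, hθ, hne⟩ := Finset.exists_ne_zero_of_sum_ne_zero (by rw [h1]; exact one_ne_zero)
    have := (h.mu_le_one hθ l).1
    exact ⟨θ, hθ, by omega⟩
  have key : ∀ l l' : IrrCharacter P, l ≠ trivIrr P → l' ≠ trivIrr P →
      ∀ θ ∈ cons B Ω, ∀ θ' ∈ cons B Ω, θ ≠ θ' → mu P (θ : B → ℂ) l = 1 →
      mu P (θ' : B → ℂ) l' = 1 → mu P (φ : B → ℂ) l = mu P (φ : B → ℂ) l' := by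
    intro l l' hl hl' θ hθ θ' hθ' hne e e'
    have e2 := h.mu_unique hθ hθ' hne (l := l) (by omega)
    have e2' := h.mu_unique hθ' hθ (Ne.symm hne) (l := l') (by omega)
    have hne1 : φ ≠ θ := fun e => hφ (e ▸ hθ)
    have hne2 : φ ≠ θ' := fun e => hφ (e ▸ hθ')
    have hb := (Finset.sum_le_sum_of_subset_of_nonneg
      (Finset.subset_univ ({φ, θ, θ'} : Finset (IrrCharacter B)))
      (fun χ _ _ => sq_nonneg ((mu P (χ : B → ℂ) l : ℤ) - mu P (χ : B → ℂ) l'))).trans
      (h.bessel hc hl hl')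
    rw [Finset.sum_insert (by simp [hne1, hne2]), Finset.sum_pair hne, e, e', e2, e2'] at hb
    norm_num at hb
    omega
  obtain ⟨θ, hθ, e⟩ := own l hl
  obtain ⟨θ', hθ', e'⟩ := own l' hl'
  by_cases hne : θ = θ'
  · obtain ⟨θ'', hθ'', hne''⟩ := Finset.exists_mem_ne (show 1 < (cons B Ω).card by omega) θ
    obtain ⟨l'', hl'', e''⟩ := h.exists_mu hθ''
    rw [key l l'' hl hl'' θ hθ θ'' hθ'' hne''.symm e e'',
      key l' l'' hl' hl'' θ hθ θ'' hθ'' hne''.symm (hne ▸ e') e'']
  · exact key l l' hl hl' θ hθ θ' hθ' hne e e'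

theorem Reg.eq_triv (h : Reg Ω P)
    (hker : ∀ χ : IrrCharacter B, (∀ x ∈ P, (χ : B → ℂ) x = (χ : B → ℂ) 1) → χ = trivIrr B)
    {χ : IrrCharacter B} (h0 : ∀ l : IrrCharacter P, l ≠ trivIrr P → mu P (χ : B → ℂ) l = 0) :
    χ = trivIrr B := by
  refine hker χ fun x hx => ?_
  have hχ := isCharacter_of_isIrrCharacter χ.2
  have e : ∀ y : P, (χ : B → ℂ) y = (mu P (χ : B → ℂ) (trivIrr P) : ℂ) := by
    intro y
    rw [res_eq P hχ, Finset.sum_eq_single (trivIrr P)]
    · show _ * (1 : ℂ) = _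
      rw [mul_one]
    · intro l _ hl
      rw [h0 l hl, Nat.cast_zero, zero_mul]
    · intro hx; exact absurd (Finset.mem_univ _) hx
  exact (e ⟨x, hx⟩).trans (e 1).symm

theorem Reg.inner_res_self (h : Reg Ω P) {θ : IrrCharacter B} (hθ : θ ∈ cons B Ω) :
    classInner (fun x : P => (θ : B → ℂ) x) (fun x : P => (θ : B → ℂ) x) =
      (dg (θ : B → ℂ) : ℂ) := by
  have hθc := isCharacter_of_isIrrCharacter θ.2
  rw [classInner_eq_sum (isClassFunction_of_isCharacter (CharInduced.isCharacter_res P hθc)),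
    h.dg_eq hθc, Nat.cast_sum]
  refine Finset.sum_congr rfl fun l _ => ?_
  rw [← mu_cast P hθc, map_natCast]
  have := (h.mu_le_one hθ l).1
  interval_cases mu P (θ : B → ℂ) l <;> simp

/-- The degree bound, and the structure when it is attained. -/
theorem Reg.deg_bound (h : Reg Ω P) (hc : ∀ x ∈ P, x ≠ 1 → Subgroup.centralizer ({x} : Set B) = P)
    (hker : ∀ χ : IrrCharacter B, (∀ x ∈ P, (χ : B → ℂ) x = (χ : B → ℂ) 1) → χ = trivIrr B)
    (h2 : 2 ≤ (cons B Ω).card) {θ : IrrCharacter B} (hθ : θ ∈ cons B Ω)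
    (hd : 2 ≤ dg (θ : B → ℂ)) :
    ∃ φ : IrrCharacter B, φ ∉ cons B Ω ∧ φ ≠ trivIrr B ∧
      Nat.card Ω - 1 + dg (θ : B → ℂ) ≤ dg (θ : B → ℂ) ^ 2 ∧
      (Nat.card Ω - 1 + dg (θ : B → ℂ) = dg (θ : B → ℂ) ^ 2 →
        (∀ l, l ≠ trivIrr P → mu P (φ : B → ℂ) l = 1) ∧
          mu P (φ : B → ℂ) (trivIrr P) + 1 = dg (θ : B → ℂ)) := by
  set d := dg (θ : B → ℂ) with hdd
  have hθc := isCharacter_of_isIrrCharacter θ.2
  set ψ : B → ℂ := fun g => (θ : B → ℂ) g * conj ((θ : B → ℂ) g) with hψ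
  have hψc : IsCharacter B ψ := isCharacter_mul hθc (isCharacter_conj hθc)
  obtain ⟨m, hm, hsum⟩ := exists_mult hψc
  have hmu : ∀ l, mu P ψ l = ∑ χ : IrrCharacter B, m χ * mu P (χ : B → ℂ) l := by
    intro l
    have h1 : (mu P ψ l : ℂ) = ∑ χ : IrrCharacter B, (m χ : ℂ) * (mu P (χ : B → ℂ) l : ℂ) := by
      rw [mu_cast P hψc]
      have h3 : (fun x : P => ψ x) =
          ∑ χ : IrrCharacter B, (m χ : ℂ) • (fun x : P => (χ : B → ℂ) x) := by
        funext x
        rw [hsum, Finset.sum_apply, Finset.sum_apply]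
        rfl
      rw [h3, classInner_sum_left]
      refine Finset.sum_congr rfl fun χ _ => ?_
      rw [classInner_smul_left, mu_cast P (isCharacter_of_isIrrCharacter χ.2)]
    exact_mod_cast h1
  have hm1 : m (trivIrr B) = 1 := by
    have h1 := hm (trivIrr B)
    have h3 : classInner ψ (trivIrr B : B → ℂ) = classInner (θ : B → ℂ) (θ : B → ℂ) := by
      simp only [classInner, hψ]
      refine congrArg _ (Finset.sum_congr rfl fun g _ => ?_)
      show _ * conj (1 : ℂ) = _
      rw [map_one, mul_one]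
    rw [h3, classInner_irr_self θ.2] at h1
    exact_mod_cast h1.symm
  have ht : mu P ψ (trivIrr P) = d := by
    have h1 := mu_cast P hψc (trivIrr P)
    have h3 : classInner (fun x : P => ψ x) (trivIrr P : P → ℂ) =
        classInner (fun x : P => (θ : B → ℂ) x) (fun x : P => (θ : B → ℂ) x) := by
      simp only [classInner, hψ]
      refine congrArg _ (Finset.sum_congr rfl fun g _ => ?_)
      show _ * conj (1 : ℂ) = _
      rw [map_one, mul_one]
    rw [h3, h.inner_res_self hθ] at h1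
    exact_mod_cast h1
  have hdeg : d ^ 2 = d + ∑ l ∈ Finset.univ.erase (trivIrr P), mu P ψ l := by
    have h1 : dg ψ = d ^ 2 := by
      have h3 : (dg ψ : ℂ) = ((d ^ 2 : ℕ) : ℂ) := by
        rw [dg_cast hψc, hψ, Nat.cast_pow, hdd, dg_cast hθc]
        obtain ⟨k, hk⟩ := isCharacter_apply_one hθc
        simp only [hk, map_natCast, sq]
      exact_mod_cast h3
    rw [← h1, h.dg_eq hψc, ← Finset.add_sum_erase _ _ (Finset.mem_univ (trivIrr P)), ht]
  -- a constituent with trivial part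
  have ht' := hmu (trivIrr P)
  rw [ht, ← Finset.add_sum_erase _ _ (Finset.mem_univ (trivIrr B)), hm1, mu_triv, if_pos rfl] at ht'
  obtain ⟨φ, hφmem, hφ0⟩ := Finset.exists_ne_zero_of_sum_ne_zero
    (show ∑ χ ∈ Finset.univ.erase (trivIrr B), m χ * mu P (χ : B → ℂ) (trivIrr P) ≠ 0 by omega)
  simp only [Finset.mem_erase, Finset.mem_univ, and_true] at hφmem
  obtain ⟨hφm, hφt⟩ : m φ ≠ 0 ∧ mu P (φ : B → ℂ) (trivIrr P) ≠ 0 := by
    simpa using hφ0
  have hφC : φ ∉ cons B Ω := fun hmem => hφt (h.mu_le_one hmem (trivIrr P)).2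
  refine ⟨φ, hφC, hφmem, ?_⟩
  obtain ⟨l₀, hl₀, hl₀m⟩ : ∃ l, l ≠ trivIrr P ∧ mu P (φ : B → ℂ) l ≠ 0 := by
    by_contra hcon
    push Not at hcon
    exact hφmem (h.eq_triv hker hcon)
  set k := mu P (φ : B → ℂ) l₀ with hk
  have hconst : ∀ l, l ≠ trivIrr P → mu P (φ : B → ℂ) l = k := fun l hl =>
    h.mu_const hc h2 hφC hl hl₀
  have hcardl : (Finset.univ.erase (trivIrr P)).card + 1 = Nat.card Ω := by
    rw [Finset.card_erase_add_one (Finset.mem_univ _), ← h.card, Finset.card_univ,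
      ← Nat.card_eq_fintype_card]
    rw [Nat.card_congr (Equiv.subtypeUnivEquiv
      (p := fun χ : IrrCharacter P => (χ : P → ℂ) 1 = 1) h.lin).symm, CharBasicLinear.card_linear]
    haveI : IsMulCommutative P := ⟨⟨h.comm⟩⟩
    rw [show commutator P = ⊥ by
      rw [commutator_def, Subgroup.commutator_eq_bot_iff_le_centralizer]
      intro a _
      exact Subgroup.mem_centralizer_iff.2 fun b _ => h.comm b a, Subgroup.index_bot]
  -- the count
  have hrest : ∑ l ∈ Finset.univ.erase (trivIrr P), mu P ψ l =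
      ∑ χ : IrrCharacter B, m χ * ∑ l ∈ Finset.univ.erase (trivIrr P), mu P (χ : B → ℂ) l := by
    simp only [hmu, Finset.mul_sum]
    exact Finset.sum_comm
  have hφsum : ∑ l ∈ Finset.univ.erase (trivIrr P), mu P (φ : B → ℂ) l = (Nat.card Ω - 1) * k := by
    rw [Finset.sum_congr rfl (fun l hl => hconst l (Finset.ne_of_mem_erase hl)), Finset.sum_const,
      smul_eq_mul]
    congr 1
    omega
  have hpos : 1 ≤ m φ * k :=
    Nat.mul_pos (Nat.pos_of_ne_zero hφm) (Nat.pos_of_ne_zero hl₀m)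
  have hle : Nat.card Ω - 1 ≤ m φ * ((Nat.card Ω - 1) * k) := by
    calc Nat.card Ω - 1 = (Nat.card Ω - 1) * 1 := (mul_one _).symm
      _ ≤ (Nat.card Ω - 1) * (m φ * k) := Nat.mul_le_mul_left _ hpos
      _ = _ := by ring
  have hsplit := Finset.add_sum_erase Finset.univ
    (fun χ : IrrCharacter B => m χ * ∑ l ∈ Finset.univ.erase (trivIrr P), mu P (χ : B → ℂ) l)
    (Finset.mem_univ φ)
  rw [← hrest, hφsum] at hsplit
  refine ⟨by omega, fun heq => ?_⟩
  have hn2 : 1 ≤ Nat.card Ω - 1 := by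
    have : 0 < (Finset.univ.erase (trivIrr P)).card := Finset.card_pos.2 ⟨l₀, by simp [hl₀]⟩
    omega
  have he1 : m φ * ((Nat.card Ω - 1) * k) = Nat.card Ω - 1 := by omega
  have hmk : m φ * k = 1 := by
    refine Nat.eq_of_mul_eq_mul_left (show 0 < Nat.card Ω - 1 by omega) ?_
    rw [mul_one]
    calc (Nat.card Ω - 1) * (m φ * k) = m φ * ((Nat.card Ω - 1) * k) := by ring
      _ = _ := he1
  obtain ⟨hmφ, hk1⟩ : m φ = 1 ∧ k = 1 := ⟨Nat.eq_one_of_mul_eq_one_right hmk, Nat.eq_one_of_mul_eq_one_left hmk⟩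
  have hothers : ∀ χ : IrrCharacter B, χ ≠ φ → χ ≠ trivIrr B → m χ = 0 := by
    intro χ hχ hχ1
    by_contra hne
    have h0 : ∑ χ ∈ Finset.univ.erase φ,
        m χ * ∑ l ∈ Finset.univ.erase (trivIrr P), mu P (χ : B → ℂ) l = 0 := by omega
    have h1 := Finset.sum_eq_zero_iff.1 h0 χ (by simp [hχ])
    rw [mul_eq_zero] at h1
    rcases h1 with h1 | h1
    · exact hne h1
    refine hχ1 (h.eq_triv hker fun l hl => ?_)
    exact Finset.sum_eq_zero_iff.1 h1 l (by simp [hl])
  refine ⟨fun l hl => (hconst l hl).trans hk1, ?_⟩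
  rw [Finset.sum_eq_single φ (fun χ hχ hne => by
    rw [hothers χ hne (Finset.ne_of_mem_erase hχ), zero_mul])
    (fun hn => absurd (Finset.mem_erase.2 ⟨hφmem, Finset.mem_univ _⟩) hn), hmφ, one_mul] at ht'
  omega

/-- Column orthogonality excludes large degrees in the case of equality. -/
theorem Reg.deg_eq (h : Reg Ω P) (hc : ∀ x ∈ P, x ≠ 1 → Subgroup.centralizer ({x} : Set B) = P)
    (hker : ∀ χ : IrrCharacter B, (∀ x ∈ P, (χ : B → ℂ) x = (χ : B → ℂ) 1) → χ = trivIrr B)
    (h2 : 2 ≤ (cons B Ω).card) {d : ℕ} (hd : 2 ≤ d) (hall : ∀ θ ∈ cons B Ω, dg (θ : B → ℂ) = d)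
    (heq : Nat.card Ω - 1 + d = d ^ 2) :
    d ≤ 3 ∧ ∃ φ : IrrCharacter B, dg (φ : B → ℂ) + 2 = Nat.card Ω + d := by
  obtain ⟨θ, hθ⟩ := Finset.card_pos.1 (show 0 < (cons B Ω).card by omega)
  obtain ⟨φ, hφC, hφ1, -, hφ⟩ := h.deg_bound hc hker h2 hθ (by rw [hall θ hθ]; exact hd)
  rw [hall θ hθ] at hφ
  obtain ⟨hφm, hφt⟩ := hφ heq
  have hφc := isCharacter_of_isIrrCharacter φ.2
  have hφu : ∀ u : P, u ≠ 1 → (φ : B → ℂ) u + 2 = (d : ℂ) := by
    intro u hu
    have hz : ∑ l : IrrCharacter P, (l : P → ℂ) u = 0 := by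
      have h1 := res_eq P (isCharacter_perm (B := B) (Ω := Ω)) u
      simp only [h.mu_perm, Nat.cast_one, one_mul, h.perm_apply, if_neg hu] at h1
      exact h1.symm
    rw [res_eq P hφc, ← Finset.add_sum_erase _ _ (Finset.mem_univ (trivIrr P))]
    rw [← Finset.add_sum_erase _ _ (Finset.mem_univ (trivIrr P))] at hz
    rw [Finset.sum_congr rfl (g := fun l : IrrCharacter P => (l : P → ℂ) u)
      (fun l hl => by rw [hφm l (Finset.ne_of_mem_erase hl), Nat.cast_one, one_mul])]
    have e : (trivIrr P : P → ℂ) u = 1 := rfl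
    rw [e] at hz ⊢
    rw [← hφt, Nat.cast_add, Nat.cast_one]
    linear_combination hz
  have hφ1' : dg (φ : B → ℂ) + 2 = Nat.card Ω + d := by
    rw [h.dg_eq hφc, ← Finset.add_sum_erase _ _ (Finset.mem_univ (trivIrr P)),
      Finset.sum_congr rfl (fun l hl => hφm l (Finset.ne_of_mem_erase hl)), Finset.sum_const,
      smul_eq_mul, mul_one, ← hφt]
    have : (Finset.univ.erase (trivIrr P)).card + 1 = Nat.card (IrrCharacter P) := by
      rw [Finset.card_erase_add_one (Finset.mem_univ _), Finset.card_univ,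
        ← Nat.card_eq_fintype_card]
    have e2 : Nat.card (IrrCharacter P) = Nat.card Ω := by
      have h1 : ((Nat.card (IrrCharacter P) : ℕ) : ℂ) = (Nat.card Ω : ℂ) := by
        have h3 := res_eq P (isCharacter_perm (B := B) (Ω := Ω)) 1
        simp only [h.mu_perm, Nat.cast_one, one_mul, h.perm_apply, if_pos, h.lin,
          Finset.sum_const, nsmul_eq_mul, mul_one, Finset.card_univ] at h3
        rw [h3, Nat.card_eq_fintype_card]
      exact_mod_cast h1
    omega
  refine ⟨?_, φ, hφ1'⟩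
  -- column orthogonality summed over `P`
  have hcol : ∀ u : P, u ≠ 1 →
      1 + ((d : ℝ) - 2) ^ 2 + ∑ χ ∈ cons B Ω, Complex.normSq ((χ : B → ℂ) u) ≤ Nat.card Ω := by
    intro u hu
    have h1 := sum_irr_mul_conj (u : B) (u : B)
    rw [if_pos (IsConj.refl _), hc u u.2 (fun e => hu (Subtype.ext e)), h.card] at h1
    have h3 : ∑ χ : IrrCharacter B, Complex.normSq ((χ : B → ℂ) u) = (Nat.card Ω : ℝ) := by
      have := congrArg Complex.re h1
      rw [Complex.re_sum, Complex.natCast_re] at this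
      rw [← this]
      refine Finset.sum_congr rfl fun χ _ => ?_
      rw [Complex.mul_conj, Complex.ofReal_re]
    rw [← h3]
    have hne : trivIrr B ∉ cons B Ω := by simp [cons]
    have hsub := Finset.sum_le_sum_of_subset_of_nonneg
      (Finset.subset_univ (insert (trivIrr B) (insert φ (cons B Ω))))
      (fun (χ : IrrCharacter B) _ _ => Complex.normSq_nonneg ((χ : B → ℂ) u))
    rw [Finset.sum_insert (by simp [hne, Ne.symm hφ1]), Finset.sum_insert hφC] at hsub
    have e1 : Complex.normSq ((trivIrr B : B → ℂ) u) = 1 := by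
      show Complex.normSq (1 : ℂ) = 1
      simp
    have e2 : Complex.normSq ((φ : B → ℂ) u) = ((d : ℝ) - 2) ^ 2 := by
      rw [show (φ : B → ℂ) u = (((d : ℝ) - 2 : ℝ) : ℂ) by
        push_cast
        linear_combination hφu u hu, Complex.normSq_ofReal, sq]
    rw [e1, e2] at hsub
    linarith
  have hsumθ : ∀ χ ∈ cons B Ω,
      ∑ u ∈ Finset.univ.erase (1 : P), Complex.normSq ((χ : B → ℂ) u) =
        (Nat.card Ω : ℝ) * d - (d : ℝ) ^ 2 := by
    intro χ hχ
    have h1 := h.inner_res_self hχ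
    rw [hall χ hχ, classInner] at h1
    have hne : ((Nat.card P : ℕ) : ℂ) ≠ 0 := Nat.cast_ne_zero.2 Nat.card_pos.ne'
    rw [inv_mul_eq_iff_eq_mul₀ hne] at h1
    have h3 := congrArg Complex.re h1
    rw [Complex.re_sum, ← Nat.cast_mul, Complex.natCast_re, Nat.cast_mul, h.card,
      ← Finset.add_sum_erase _ _ (Finset.mem_univ (1 : P))] at h3
    have e : ((χ : B → ℂ) ((1 : P) : B)) = (d : ℂ) := by
      rw [← hall χ hχ, dg_cast (isCharacter_of_isIrrCharacter χ.2)]; rfl
    simp only [e, Complex.mul_conj, Complex.ofReal_re, Complex.normSq_natCast] at h3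
    linarith
  have htot := Finset.sum_le_sum (s := Finset.univ.erase (1 : P))
    fun u hu => hcol u (Finset.ne_of_mem_erase hu)
  rw [Finset.sum_add_distrib, Finset.sum_const, Finset.sum_const, Finset.sum_comm,
    Finset.sum_congr rfl hsumθ, Finset.sum_const, nsmul_eq_mul, nsmul_eq_mul, nsmul_eq_mul] at htot
  have hP : ((Finset.univ.erase (1 : P)).card : ℝ) = (Nat.card Ω : ℝ) - 1 := by
    rw [Finset.card_erase_of_mem (Finset.mem_univ _), Finset.card_univ, ← Nat.card_eq_fintype_card,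
      Nat.cast_sub Nat.card_pos, h.card]
    simp
  have hC : ((cons B Ω).card : ℝ) * d = (Nat.card Ω : ℝ) - 1 := by
    have h1 := h.sum_dg
    rw [Finset.sum_congr rfl hall, Finset.sum_const, smul_eq_mul] at h1
    have : (((cons B Ω).card * d + 1 : ℕ) : ℝ) = (Nat.card Ω : ℝ) := by rw [h1]
    push_cast at this
    linarith
  have hn : (1 : ℝ) ≤ (Nat.card Ω : ℝ) - 1 := by
    have hd' : (2 : ℝ) ≤ d := by exact_mod_cast hd
    have hc1 : (1 : ℝ) ≤ (cons B Ω).card := by exact_mod_cast (show 1 ≤ (cons B Ω).card by omega)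
    nlinarith
  rw [hP] at htot
  by_contra hlt
  have hd4 : (4 : ℝ) ≤ d := by exact_mod_cast (show 4 ≤ d by omega)
  nlinarith [mul_le_mul_of_nonneg_left hd4 (by linarith : (0 : ℝ) ≤ (Nat.card Ω : ℝ) - 1)]

end Cfsg.Agent.DerangeIndexChar
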