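import Mathlib
import Cfsg.Agent.Lib.PGroupsBasic
import Cfsg.Agent.Lib.PGroupsCritical
import Cfsg.Agent.Lib.PGroupsCyclic
import Cfsg.Agent.Lib.ComponentsCores
import Cfsg.Agent.Lib.FrobeniusFPF

/-!
# Counting fixed vectors of a normalised prime power group

`M` acts on the abelian group `V` by conjugation, elements of `M` outside the normal subgroup `D`
act without fixed points, and `U` is a `q`-subgroup of `M ⊓ D` normalised by `M`.  If some
non-identity element of `U` has a non-trivial fixed point and `M` fixes no proper non-trivial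
subgroup of `V`, then `(D.index + 1) ^ 2 ≤ |V|`.
-/

set_option autoImplicit false
set_option linter.all false

namespace Cfsg.Agent.DerangeIndex

open Subgroup
open scoped Classical

variable {G : Type*} [Group G] [Fintype G]

/-- non-identity elements of `U` commuting with `v` -/
noncomputable def wt (U : Subgroup G) (v : G) : ℕ :=
  (Finset.univ.filter fun u => u ∈ U ∧ u ≠ 1 ∧ u * v = v * u).card

/-- non-identity elements of `V` commuting with `h` -/
noncomputable def fw (V : Subgroup G) (h : G) : ℕ :=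
  (Finset.univ.filter fun v => v ∈ V ∧ v ≠ 1 ∧ h * v = v * h).card

/-- conjugates of `v` by elements of `M` -/
noncomputable def orb (M : Subgroup G) (v : G) : Finset G :=
  (Finset.univ.filter fun x => x ∈ M).image fun x => x * v * x⁻¹

theorem card_filter_mem (H : Subgroup G) :
    (Finset.univ.filter fun x => x ∈ H).card = Nat.card H := by
  rw [Nat.card_eq_fintype_card, Fintype.card_subtype]

theorem wt_eq_card (U : Subgroup G) (v : G) :
    Nat.card ↥(U ⊓ centralizer ({v} : Set G)) = wt U v + 1 := by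
  rw [← card_filter_mem, wt]
  rw [← Finset.card_erase_add_one (a := (1 : G)) (by simp)]
  congr 2
  ext u
  simp only [Finset.mem_erase, Finset.mem_filter, Finset.mem_univ, true_and, Subgroup.mem_inf,
    Subgroup.mem_centralizer_singleton_iff]
  constructor <;> intro hh <;> simp_all [eq_comm]

theorem fw_eq_card (V : Subgroup G) (h : G) :
    Nat.card ↥(V ⊓ centralizer ({h} : Set G)) = fw V h + 1 := by
  rw [← card_filter_mem, fw]
  rw [← Finset.card_erase_add_one (a := (1 : G)) (by simp)]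
  congr 2
  ext v
  simp only [Finset.mem_erase, Finset.mem_filter, Finset.mem_univ, true_and, Subgroup.mem_inf,
    Subgroup.mem_centralizer_singleton_iff]
  constructor <;> intro hh <;> simp_all [eq_comm]

theorem sum_wt_eq (U V : Subgroup G) :
    ∑ v ∈ Finset.univ.filter (fun v => v ∈ V ∧ v ≠ 1), wt U v =
      ∑ h ∈ Finset.univ.filter (fun h => h ∈ U ∧ h ≠ 1), fw V h := by
  simp only [wt, fw, Finset.card_filter, Finset.sum_filter]
  have key : ∀ a b : G,
      (if b ∈ V ∧ b ≠ 1 then (if a ∈ U ∧ a ≠ 1 ∧ a * b = b * a then 1 else 0) else 0 : ℕ) =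
      (if a ∈ U ∧ a ≠ 1 then (if b ∈ V ∧ b ≠ 1 ∧ a * b = b * a then 1 else 0) else 0) := by
    intro a b
    split_ifs <;> tauto
  calc ∑ b : G, (if b ∈ V ∧ b ≠ 1 then ∑ a : G,
        (if a ∈ U ∧ a ≠ 1 ∧ a * b = b * a then 1 else 0) else 0)
      = ∑ b : G, ∑ a : G, (if b ∈ V ∧ b ≠ 1 then
          (if a ∈ U ∧ a ≠ 1 ∧ a * b = b * a then 1 else 0) else 0) := by
        refine Finset.sum_congr rfl fun b _ => ?_
        split_ifs <;> simp
    _ = ∑ a : G, ∑ b : G, (if a ∈ U ∧ a ≠ 1 then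
          (if b ∈ V ∧ b ≠ 1 ∧ a * b = b * a then 1 else 0) else 0) := by
        rw [Finset.sum_comm]
        exact Finset.sum_congr rfl fun a _ => Finset.sum_congr rfl fun b _ => key a b
    _ = _ := by
        refine Finset.sum_congr rfl fun a _ => ?_
        split_ifs <;> simp

theorem card_orb_mul (M : Subgroup G) (v : G) :
    (orb M v).card * (wt M v + 1) = Nat.card M := by
  conv_rhs => rw [← card_filter_mem M, Finset.card_eq_sum_card_image (fun x => x * v * x⁻¹)]
  unfold orb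
  rw [Finset.sum_congr rfl (g := fun _ => wt M v + 1), Finset.sum_const, smul_eq_mul]
  intro w hw
  obtain ⟨x₀, hx₀, rfl⟩ := Finset.mem_image.1 hw
  simp only [Finset.mem_filter, Finset.mem_univ, true_and] at hx₀
  rw [← wt_eq_card, ← card_filter_mem]
  refine Finset.card_nbij' (fun x => x₀⁻¹ * x) (fun s => x₀ * s) ?_ ?_ ?_ ?_
  · intro x hx
    simp only [Finset.mem_coe, Finset.mem_filter, Finset.mem_univ, true_and] at hx ⊢
    refine ⟨M.mul_mem (M.inv_mem hx₀) hx.1, Subgroup.mem_centralizer_singleton_iff.2 ?_⟩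
    calc x₀⁻¹ * x * v = x₀⁻¹ * (x * v * x⁻¹) * x := by group
      _ = x₀⁻¹ * (x₀ * v * x₀⁻¹) * x := by rw [hx.2]
      _ = v * (x₀⁻¹ * x) := by group
  · intro s hs
    simp only [Finset.mem_coe, Finset.mem_filter, Finset.mem_univ, true_and,
      Subgroup.mem_inf] at hs ⊢
    refine ⟨M.mul_mem hx₀ hs.1, ?_⟩
    have h := Subgroup.mem_centralizer_singleton_iff.1 hs.2
    calc x₀ * s * v * (x₀ * s)⁻¹ = x₀ * (s * v) * s⁻¹ * x₀⁻¹ := by group
      _ = x₀ * (v * s) * s⁻¹ * x₀⁻¹ := by rw [h]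
      _ = x₀ * v * x₀⁻¹ := by group
  · intro x _; simp
  · intro s _; simp

theorem orb_mono {U M : Subgroup G} (h : U ≤ M) (v : G) : orb U v ⊆ orb M v :=
  Finset.image_subset_image fun x hx => by
    simp only [Finset.mem_filter, Finset.mem_univ, true_and] at hx ⊢
    exact h hx

theorem mem_orb_self (M : Subgroup G) (v : G) : v ∈ orb M v :=
  Finset.mem_image.2 ⟨1, by simp, by group⟩

theorem conj_mem {H : Subgroup G} {x : G} (hx : x ∈ normalizer (H : Set G)) {v : G} (hv : v ∈ H) :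
    x * v * x⁻¹ ∈ H :=
  (Subgroup.mem_normalizer_iff.1 hx v).1 hv

theorem conj_ne_one {x v : G} (hv : v ≠ 1) : x * v * x⁻¹ ≠ 1 := by
  intro h
  apply hv
  calc v = x⁻¹ * (x * v * x⁻¹) * x := by group
    _ = 1 := by rw [h]; group

theorem wt_conj (U : Subgroup G) {x : G} (hx : x ∈ normalizer (U : Set G)) (v : G) :
    wt U (x * v * x⁻¹) = wt U v := by
  refine Finset.card_nbij' (fun u => x⁻¹ * u * x) (fun u => x * u * x⁻¹) ?_ ?_ ?_ ?_
  · intro u hu
    simp only [Finset.mem_coe, Finset.mem_filter, Finset.mem_univ, true_and] at hu ⊢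
    refine ⟨?_, ?_, ?_⟩
    · simpa using conj_mem (inv_mem hx) hu.1
    · simpa using conj_ne_one (x := x⁻¹) hu.2.1
    · calc x⁻¹ * u * x * v = x⁻¹ * (u * (x * v * x⁻¹)) * x := by group
        _ = x⁻¹ * ((x * v * x⁻¹) * u) * x := by rw [hu.2.2]
        _ = v * (x⁻¹ * u * x) := by group
  · intro u hu
    simp only [Finset.mem_coe, Finset.mem_filter, Finset.mem_univ, true_and] at hu ⊢
    refine ⟨conj_mem hx hu.1, conj_ne_one hu.2.1, ?_⟩
    calc x * u * x⁻¹ * (x * v * x⁻¹) = x * (u * v) * x⁻¹ := by group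
      _ = x * (v * u) * x⁻¹ := by rw [hu.2.2]
      _ = x * v * x⁻¹ * (x * u * x⁻¹) := by group
  · intro u _; simp [mul_assoc]
  · intro u _; simp [mul_assoc]

theorem fw_conj (V : Subgroup G) {x : G} (hx : x ∈ normalizer (V : Set G)) (h : G) :
    fw V (x * h * x⁻¹) = fw V h := by
  refine Finset.card_nbij' (fun u => x⁻¹ * u * x) (fun u => x * u * x⁻¹) ?_ ?_ ?_ ?_
  · intro u hu
    simp only [Finset.mem_coe, Finset.mem_filter, Finset.mem_univ, true_and] at hu ⊢
    refine ⟨?_, ?_, ?_⟩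
    · simpa using conj_mem (inv_mem hx) hu.1
    · simpa using conj_ne_one (x := x⁻¹) hu.2.1
    · calc h * (x⁻¹ * u * x) = x⁻¹ * ((x * h * x⁻¹) * u) * x := by group
        _ = x⁻¹ * (u * (x * h * x⁻¹)) * x := by rw [hu.2.2]
        _ = x⁻¹ * u * x * h := by group
  · intro u hu
    simp only [Finset.mem_coe, Finset.mem_filter, Finset.mem_univ, true_and] at hu ⊢
    refine ⟨conj_mem hx hu.1, conj_ne_one hu.2.1, ?_⟩
    calc x * h * x⁻¹ * (x * u * x⁻¹) = x * (h * u) * x⁻¹ := by group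
      _ = x * (u * h) * x⁻¹ := by rw [hu.2.2]
      _ = x * u * x⁻¹ * (x * h * x⁻¹) := by group
  · intro u _; simp [mul_assoc]
  · intro u _; simp [mul_assoc]

/-- the standing hypotheses -/
structure Free (V M D : Subgroup G) : Prop where
  comm : ∀ a ∈ V, ∀ b ∈ V, a * b = b * a
  nonBot : V ≠ ⊥
  norm : M ≤ normalizer (V : Set G)
  normal : D.Normal
  cover : M ⊔ D = ⊤
  free : ∀ x ∈ M, x ∉ D → ∀ v ∈ V, x * v = v * x → v = 1

variable {V M D U : Subgroup G}

theorem Free.card_eq (h : Free V M D) : Nat.card M = D.index * Nat.card ↥(M ⊓ D) := by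
  haveI := h.normal
  have h1 : D.relIndex M = D.index := by
    rw [← Subgroup.relIndex_sup_right, h.cover, Subgroup.relIndex_top_right]
  have h2 := (D.subgroupOf M).card_mul_index
  have h3 : Nat.card ↥(D.subgroupOf M) = Nat.card ↥(M ⊓ D) := by
    rw [← Subgroup.inf_subgroupOf_left D M]
    exact Nat.card_congr (Subgroup.subgroupOfEquivOfLe inf_le_left).toEquiv
  rw [h3] at h2
  rw [← h2, ← h1]
  exact mul_comm _ _

theorem Free.card_orb (h : Free V M D) (hU : U ≤ M ⊓ D) {v : G} (hv : v ∈ V) (hv1 : v ≠ 1) :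
    D.index * (orb U v).card ≤ (orb M v).card := by
  have hwt : wt (M ⊓ D) v = wt M v := by
    unfold wt
    congr 1
    ext u
    simp only [Finset.mem_filter, Finset.mem_univ, true_and, Subgroup.mem_inf]
    refine ⟨fun hu => ⟨hu.1.1, hu.2⟩, fun hu => ⟨⟨hu.1, ?_⟩, hu.2⟩⟩
    by_contra huD
    exact hv1 (h.free u hu.1 huD v hv hu.2.2)
  have h1 := card_orb_mul M v
  rw [h.card_eq, ← card_orb_mul (M ⊓ D) v, hwt, ← mul_assoc] at h1
  rw [Nat.eq_of_mul_eq_mul_right (by omega) h1]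
  exact Nat.mul_le_mul_left _ (Finset.card_le_card (orb_mono hU v))

/-- The basic inequality. -/
theorem Free.core (h : Free V M D) (hU : U ≤ M ⊓ D) (hMU : M ≤ normalizer (U : Set G))
    {v : G} (hv : v ∈ V) (hv1 : v ≠ 1) :
    D.index * Nat.card U * wt U v ≤
      (∑ k ∈ Finset.univ.filter (fun k => k ∈ U ∧ k ≠ 1), fw V k) * (wt U v + 1) := by
  rw [← sum_wt_eq U V, ← card_orb_mul U v]
  have hsub : orb M v ⊆ Finset.univ.filter (fun w => w ∈ V ∧ w ≠ 1) := by
    intro w hw
    obtain ⟨x, hx, rfl⟩ := Finset.mem_image.1 hw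
    simp only [Finset.mem_filter, Finset.mem_univ, true_and] at hx ⊢
    exact ⟨conj_mem (h.norm hx) hv, conj_ne_one hv1⟩
  have h2 : (orb M v).card * wt U v ≤ ∑ w ∈ Finset.univ.filter (fun w => w ∈ V ∧ w ≠ 1), wt U w := by
    refine le_trans (le_of_eq ?_) (Finset.sum_le_sum_of_subset hsub)
    rw [Finset.sum_congr rfl (g := fun _ => wt U v), Finset.sum_const, smul_eq_mul]
    intro w hw
    obtain ⟨x, hx, rfl⟩ := Finset.mem_image.1 hw
    simp only [Finset.mem_filter, Finset.mem_univ, true_and] at hx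
    exact wt_conj U (hMU hx) v
  have h3 := (Nat.mul_le_mul_right (wt U v) (h.card_orb hU hv hv1)).trans h2
  calc D.index * ((orb U v).card * (wt U v + 1)) * wt U v
      = D.index * (orb U v).card * wt U v * (wt U v + 1) := by ring
    _ ≤ _ := Nat.mul_le_mul_right _ h3

/-- Independent subgroups of an abelian group. -/
theorem prod_card_le {ι : Type*} (hV : ∀ a ∈ V, ∀ b ∈ V, a * b = b * a) (W : ι → Subgroup G)
    (hW : ∀ j, W j ≤ V)
    (hsep : ∀ j l, j ≠ l → ∃ b : G, (∀ m, ∀ w ∈ W m, b * w * b⁻¹ ∈ W m) ∧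
      (∀ w ∈ W j, b * w = w * b) ∧ ∀ w ∈ W l, b * w = w * b → w = 1)
    (s : Finset ι) : ∏ j ∈ s, Nat.card ↥(W j) ≤ Nat.card ↥(s.sup W) := by
  have hle : ∀ t : Finset ι, t.sup W ≤ V := fun t => Finset.sup_le fun j _ => hW j
  have disj : ∀ (t : Finset ι) (l : ι), l ∉ t → ∀ v ∈ W l, v ∈ t.sup W → v = 1 := by
    intro t
    induction t using Finset.induction with
    | empty =>
      intro l _ v _ hv
      simpa using hv
    | insert j t hjt ih =>
      intro l hl v hvl hv
      simp only [Finset.mem_insert, not_or] at hl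
      obtain ⟨b, hinv, hfix, hfree⟩ := hsep j l (Ne.symm hl.1)
      rw [Finset.sup_insert] at hv
      obtain ⟨w, hw, k, hk, hwk⟩ : ∃ w ∈ W j, ∃ k ∈ t.sup W, w * k = v := by
        haveI : IsMulCommutative V := ⟨⟨fun a b => Subtype.ext (hV a a.2 b b.2)⟩⟩
        have hcomm : W j ≤ normalizer ((t.sup W : Subgroup G) : Set G) := by
          intro w hw
          refine Subgroup.centralizer_le_normalizer _ (Subgroup.mem_centralizer_iff.2 fun x hx => ?_)
          exact hV x (hle t hx) w (hW j hw)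
        have hv' : v ∈ ((W j ⊔ t.sup W : Subgroup G) : Set G) := hv
        rw [Subgroup.coe_mul_of_left_le_normalizer_right _ _ hcomm] at hv'
        obtain ⟨w, hw, k, hk, e⟩ := Set.mem_mul.1 hv'
        exact ⟨w, hw, k, hk, e⟩
      apply hfree v hvl
      have hbk : b * k * b⁻¹ ∈ t.sup W := by
        have hmap : (t.sup W).map (MulAut.conj b).toMonoidHom ≤ t.sup W := by
          rw [Finset.sup_eq_iSup, Subgroup.map_iSup]
          refine iSup_le fun m => ?_
          rw [Subgroup.map_iSup]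
          refine iSup_le fun hm => le_trans ?_ (le_iSup₂ (f := fun i _ => W i) m hm)
          rintro _ ⟨w, hw, rfl⟩
          simpa using hinv m w hw
        exact hmap ⟨k, hk, by simp⟩
      have hvk : v * k⁻¹ = w := by rw [← hwk]; group
      have e : b * v * b⁻¹ * v⁻¹ = b * k * b⁻¹ * k⁻¹ := by
        rw [← hwk]
        have := hfix w hw
        calc b * (w * k) * b⁻¹ * (w * k)⁻¹ = (b * w) * k * b⁻¹ * k⁻¹ * w⁻¹ := by group
          _ = w * (b * k * b⁻¹ * k⁻¹) * w⁻¹ := by rw [this]; group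
          _ = b * k * b⁻¹ * k⁻¹ := by
            rw [hV w (hW j hw) _ (hle t (mul_mem hbk (inv_mem hk)))]; group
      have hone : b * v * b⁻¹ * v⁻¹ = 1 := by
        refine ih l hl.2 _ (mul_mem (hinv l v hvl) (inv_mem hvl)) ?_
        rw [e]; exact mul_mem hbk (inv_mem hk)
      calc b * v = (b * v * b⁻¹ * v⁻¹) * v * b := by group
        _ = v * b := by rw [hone, one_mul]
  induction s using Finset.induction with
  | empty => simp
  | insert j t hjt ih =>
    rw [Finset.prod_insert hjt, Finset.sup_insert]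
    refine (Nat.mul_le_mul_left _ ih).trans ?_
    rw [← Nat.card_prod]
    refine Nat.card_le_card_of_injective (fun x => (⟨(x.1 : G) * x.2,
      mul_mem (Subgroup.mem_sup_left x.1.2) (Subgroup.mem_sup_right x.2.2)⟩ :
        ↥(W j ⊔ t.sup W))) ?_
    rintro ⟨⟨a, ha⟩, ⟨c, hc⟩⟩ ⟨⟨a', ha'⟩, ⟨c', hc'⟩⟩ he
    have he' : a * c = a' * c' := congrArg Subtype.val he
    have h1 : a'⁻¹ * a = 1 := disj t j hjt _ (mul_mem (inv_mem ha') ha) (by
      have : a'⁻¹ * a = c' * c⁻¹ := by
        calc a'⁻¹ * a = a'⁻¹ * (a * c) * c⁻¹ := by group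
          _ = a'⁻¹ * (a' * c') * c⁻¹ := by rw [he']
          _ = c' * c⁻¹ := by group
      rw [this]; exact mul_mem hc' (inv_mem hc))
    have h2 : a = a' := by rw [inv_mul_eq_one] at h1; exact h1.symm
    subst h2
    have h3 : c = c' := mul_left_cancel he'
    subst h3
    rfl

theorem arith_imprimitive {q : ℕ} (hq : 3 ≤ q) : ∀ {t : ℕ}, 2 ≤ t →
    (t * (q - 1) + 2) ^ 2 ≤ 4 * q ^ t := by
  intro t ht
  induction t, ht using Nat.le_induction with
  | base =>
    obtain ⟨m, rfl⟩ : ∃ m, q = m + 1 := ⟨q - 1, by omega⟩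
    simp only [Nat.add_sub_cancel]
    nlinarith
  | succ t ht ih =>
    obtain ⟨m, rfl⟩ : ∃ m, q = m + 1 := ⟨q - 1, by omega⟩
    simp only [Nat.add_sub_cancel] at ih ⊢
    rw [pow_succ (m + 1) t]
    have hm : 2 ≤ m := by omega
    have h2 : 4 * ((t + 1) * m + 2) ^ 2 ≤ 9 * (t * m + 2) ^ 2 := by
      have : 2 * ((t + 1) * m + 2) ≤ 3 * (t * m + 2) := by nlinarith
      nlinarith
    nlinarith

theorem le_of_le_or_bot {X : Subgroup G} (h : X = ⊥ ∨ X = V) {v : G} (hv : v ∈ X) (hv1 : v ≠ 1) :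
    X = V := by
  rcases h with h | h
  · exact absurd (Subgroup.mem_bot.1 (h ▸ hv)) hv1
  · exact h

theorem inv_of_fixed {W : Subgroup G} (hW : ∀ a ∈ W, ∀ b ∈ W, a * b = b * a) {b : G}
    (hb : b * b = 1) (hinv : ∀ w ∈ W, b * w * b⁻¹ ∈ W)
    (hfree : ∀ w ∈ W, b * w = w * b → w = 1) {w : G} (hw : w ∈ W) : b * w * b⁻¹ = w⁻¹ := by
  have hbi : b⁻¹ = b := inv_eq_of_mul_eq_one_right hb
  have hm := mul_mem hw (hinv w hw)
  have h1 := hfree _ hm (by
    calc b * (w * (b * w * b⁻¹)) = (b * w * b⁻¹) * (b * b) * w * b⁻¹ := by group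
      _ = (b * w * b⁻¹) * w * b⁻¹ := by rw [hb, mul_one]
      _ = w * (b * w * b⁻¹) * b⁻¹ := by rw [hW w hw _ (hinv w hw)]
      _ = w * (b * w * b⁻¹) * b := by rw [hbi])
  exact eq_inv_of_mul_eq_one_right h1

/-- An abelian subgroup with a non-identity element fixing a vector. -/
theorem Free.abelian (h : Free V M D)
    (hirr : ∀ X : Subgroup G, X ≤ V → M ≤ normalizer (X : Set G) → X = ⊥ ∨ X = V)
    {A : Subgroup G} (hA : A ≤ M ⊓ D) (hMA : M ≤ normalizer (A : Set G))
    (hAc : ∀ a ∈ A, ∀ b ∈ A, a * b = b * a) (hAf : A ⊓ centralizer (V : Set G) = ⊥)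
    (hex : ∃ a ∈ A, a ≠ 1 ∧ fw V a ≠ 0) : (D.index + 1) ^ 2 ≤ Nat.card V := by
  have hMV := h.norm
  let st : G → Subgroup G := fun v => A ⊓ centralizer ({v} : Set G)
  obtain ⟨a₀, ha₀, ha₀1, hfa₀⟩ := hex
  obtain ⟨v₀, hv₀⟩ := Finset.card_ne_zero.1 hfa₀
  simp only [Finset.mem_filter, Finset.mem_univ, true_and] at hv₀
  let S : Set (Subgroup G) := {B | ∃ v ∈ V, v ≠ 1 ∧ B = st v}
  obtain ⟨B, hleB, hBmax⟩ := (Set.toFinite S).exists_le_maximal
    (show st v₀ ∈ S from ⟨v₀, hv₀.1, hv₀.2.1, rfl⟩)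
  obtain ⟨v, hv, hv1, hBv⟩ := hBmax.prop
  have ha₀B : a₀ ∈ B := hleB ⟨ha₀, Subgroup.mem_centralizer_singleton_iff.2 hv₀.2.2⟩
  have hB1 : B ≠ ⊥ := fun e => ha₀1 (Subgroup.mem_bot.1 (e ▸ ha₀B))
  have hA1 : ∀ w ∈ V, w ≠ 1 → st w ≠ A := by
    intro w hw hw1 e
    have hX : V ⊓ centralizer (A : Set G) = V := by
      refine le_of_le_or_bot (hirr _ inf_le_left fun x hx => ?_)
        (v := w) ⟨hw, Subgroup.mem_centralizer_iff.2 fun a ha =>
          Subgroup.mem_centralizer_singleton_iff.1 ((e ▸ ha : a ∈ st w).2)⟩ hw1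
      rw [Subgroup.mem_normalizer_iff]
      intro u
      have key : ∀ y ∈ M, ∀ u ∈ V ⊓ centralizer (A : Set G),
          y * u * y⁻¹ ∈ V ⊓ centralizer (A : Set G) := by
        intro y hy u hu
        refine ⟨conj_mem (hMV hy) hu.1, Subgroup.mem_centralizer_iff.2 fun a ha => ?_⟩
        have ha' : y⁻¹ * a * y ∈ A := by simpa using conj_mem (inv_mem (hMA hy)) ha
        have := Subgroup.mem_centralizer_iff.1 hu.2 _ ha'
        calc a * (y * u * y⁻¹) = y * ((y⁻¹ * a * y) * u) * y⁻¹ := by group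
          _ = y * (u * (y⁻¹ * a * y)) * y⁻¹ := by rw [this]
          _ = y * u * y⁻¹ * a := by group
      exact ⟨key x hx u, fun hu => by
        simpa [mul_assoc] using key x⁻¹ (inv_mem hx) _ hu⟩
    have : A ≤ A ⊓ centralizer (V : Set G) := fun a ha => ⟨ha, Subgroup.mem_centralizer_iff.2
      fun u hu => (Subgroup.mem_centralizer_iff.1 (hX.ge hu).2 a ha).symm⟩
    rw [hAf, le_bot_iff] at this
    exact ha₀1 (Subgroup.mem_bot.1 (this ▸ ha₀))
  -- conjugates of the stabiliser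
  have hst : ∀ x ∈ M, ∀ w : G,
      st (x * w * x⁻¹) = (st w).map (MulAut.conj x).toMonoidHom := by
    intro x hx w
    ext a
    simp only [st, Subgroup.mem_inf, Subgroup.mem_centralizer_singleton_iff, Subgroup.mem_map,
      MulEquiv.coe_toMonoidHom, MulAut.conj_apply]
    constructor
    · intro ha
      refine ⟨x⁻¹ * a * x, ⟨by simpa using conj_mem (inv_mem (hMA hx)) ha.1, ?_⟩, by group⟩
      calc x⁻¹ * a * x * w = x⁻¹ * (a * (x * w * x⁻¹)) * x := by group
        _ = x⁻¹ * ((x * w * x⁻¹) * a) * x := by rw [ha.2]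
        _ = w * (x⁻¹ * a * x) := by group
    · rintro ⟨b, hb, rfl⟩
      refine ⟨conj_mem (hMA hx) hb.1, ?_⟩
      calc x * b * x⁻¹ * (x * w * x⁻¹) = x * (b * w) * x⁻¹ := by group
        _ = x * (w * b) * x⁻¹ := by rw [hb.2]
        _ = x * w * x⁻¹ * (x * b * x⁻¹) := by group
  have hmaxconj : ∀ x ∈ M, Maximal (· ∈ S) (B.map (MulAut.conj x).toMonoidHom) := by
    intro x hx
    refine ⟨⟨x * v * x⁻¹, conj_mem (hMV hx) hv, conj_ne_one hv1, by rw [hBv, hst x hx]⟩, ?_⟩
    rintro _ ⟨w, hw, hw1, rfl⟩ hle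
    have h2 : B ≤ st (x⁻¹ * w * x) := by
      intro b hb
      have := hle ⟨b, hb, rfl⟩
      simp only [st, Subgroup.mem_inf, Subgroup.mem_centralizer_singleton_iff,
        MulEquiv.coe_toMonoidHom, MulAut.conj_apply] at this ⊢
      refine ⟨(hBv ▸ hb : b ∈ st v).1, ?_⟩
      calc b * (x⁻¹ * w * x) = x⁻¹ * (x * b * x⁻¹ * w) * x := by group
        _ = x⁻¹ * (w * (x * b * x⁻¹)) * x := by rw [this.2]
        _ = x⁻¹ * w * x * b := by group
    have h3 := hBmax.le_of_ge ⟨x⁻¹ * w * x, by simpa using conj_mem (inv_mem (hMV hx)) hw,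
      by simpa using conj_ne_one (x := x⁻¹) hw1, rfl⟩ h2
    calc st w = (st (x⁻¹ * w * x)).map (MulAut.conj x).toMonoidHom := by
          rw [← hst x hx]; congr 1; group
      _ ≤ B.map (MulAut.conj x).toMonoidHom := Subgroup.map_mono h3
  let T : Finset (Subgroup G) := (Finset.univ.filter fun x => x ∈ M).image
    fun x => B.map (MulAut.conj x).toMonoidHom
  let W : ↥T → Subgroup G := fun C => V ⊓ centralizer ((C.1 : Subgroup G) : Set G)
  have hTS : ∀ C : ↥T, Maximal (· ∈ S) (C.1) := fun C => by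
    obtain ⟨x, hx, e⟩ := Finset.mem_image.1 C.2
    rw [← e]; exact hmaxconj x (by simpa using hx)
  have hstW : ∀ (C : ↥T), ∀ w ∈ W C, w ≠ 1 → st w = C.1 := by
    intro C w hw hw1
    refine le_antisymm ((hTS C).le_of_ge ⟨w, hw.1, hw1, rfl⟩ ?_) ?_ <;>
    · intro b hb
      obtain ⟨u, hu, hu1, hCu⟩ := (hTS C).prop
      refine ⟨(hCu ▸ hb : b ∈ st u).1, Subgroup.mem_centralizer_singleton_iff.2 ?_⟩
      exact Subgroup.mem_centralizer_iff.1 hw.2 b hb
  have hprod : ∏ C : ↥T, Nat.card ↥(W C) ≤ Nat.card V := by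
    refine (prod_card_le h.comm W (fun C => inf_le_left) ?_ Finset.univ).trans ?_
    · intro C C' hne
      obtain ⟨b, hbC, hbC'⟩ : ∃ b ∈ C.1, b ∉ C'.1 := by
        by_contra hcon
        push Not at hcon
        exact hne (Subtype.ext (le_antisymm hcon ((hTS C).le_of_ge (hTS C').prop hcon)))
      obtain ⟨u, hu, hu1, hCu⟩ := (hTS C).prop
      have hbA : b ∈ A := (hCu ▸ hbC : b ∈ st u).1
      refine ⟨b, fun E w hw => ⟨conj_mem (hMV (hA hbA).1) hw.1,
        Subgroup.mem_centralizer_iff.2 fun c hc => ?_⟩,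
        fun w hw => Subgroup.mem_centralizer_iff.1 hw.2 b hbC, fun w hw hbw => ?_⟩
      · obtain ⟨u', hu', hu'1, hEu⟩ := (hTS E).prop
        have hcA : c ∈ A := (hEu ▸ hc : c ∈ st u').1
        have h1 := Subgroup.mem_centralizer_iff.1 hw.2 c hc
        calc c * (b * w * b⁻¹) = (c * b) * w * b⁻¹ := by group
          _ = (b * c) * w * b⁻¹ := by rw [hAc c hcA b hbA]
          _ = b * (c * w) * b⁻¹ := by group
          _ = b * (w * c) * b⁻¹ := by rw [h1]
          _ = b * w * (c * b⁻¹) := by group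
          _ = b * w * (b⁻¹ * c) := by rw [hAc c hcA b⁻¹ (inv_mem hbA)]
          _ = b * w * b⁻¹ * c := by group
      · by_contra hw1
        exact hbC' (hstW C' w hw hw1 ▸ ⟨hbA, Subgroup.mem_centralizer_singleton_iff.2 hbw⟩)
    · exact Subgroup.card_le_of_le (Finset.sup_le fun C _ => inf_le_left)
  have hWB : ∀ C : ↥T, Nat.card ↥(W C) = Nat.card ↥(V ⊓ centralizer (B : Set G)) := by
    intro C
    obtain ⟨x, hx, e⟩ := Finset.mem_image.1 C.2
    have hx' : x ∈ M := by simpa using hx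
    have : W C = (V ⊓ centralizer (B : Set G)).map (MulAut.conj x).toMonoidHom := by
      ext w
      simp only [W, ← e, Subgroup.mem_inf, Subgroup.mem_centralizer_iff, Subgroup.mem_map,
        MulEquiv.coe_toMonoidHom, MulAut.conj_apply, SetLike.mem_coe]
      constructor
      · rintro ⟨hw, hwc⟩
        refine ⟨x⁻¹ * w * x, ⟨by simpa using conj_mem (inv_mem (hMV hx')) hw, fun b hb => ?_⟩,
          by group⟩
        have h1 := hwc _ ⟨b, hb, rfl⟩
        calc b * (x⁻¹ * w * x) = x⁻¹ * (x * b * x⁻¹ * w) * x := by group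
          _ = x⁻¹ * (w * (x * b * x⁻¹)) * x := by rw [h1]
          _ = x⁻¹ * w * x * b := by group
      · rintro ⟨u, ⟨hu, huc⟩, rfl⟩
        refine ⟨conj_mem (hMV hx') hu, ?_⟩
        rintro _ ⟨b, hb, rfl⟩
        calc x * b * x⁻¹ * (x * u * x⁻¹) = x * (b * u) * x⁻¹ := by group
          _ = x * (u * b) * x⁻¹ := by rw [huc b hb]
          _ = x * u * x⁻¹ * (x * b * x⁻¹) := by group
    rw [this]
    exact (Nat.card_congr (Subgroup.equivMapOfInjective _ _
      (MulAut.conj x).injective).toEquiv).symm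
  set q := Nat.card ↥(V ⊓ centralizer (B : Set G)) with hq
  set t := T.card with ht
  rw [Finset.prod_congr rfl (fun C _ => hWB C), Finset.prod_const, Finset.card_univ,
    Fintype.card_coe] at hprod
  have hBmemT : B ∈ T := Finset.mem_image.2 ⟨1, by simp, by
    ext b; simp⟩
  have hvB : v ∈ V ⊓ centralizer (B : Set G) := ⟨hv, Subgroup.mem_centralizer_iff.2 fun b hb =>
    Subgroup.mem_centralizer_singleton_iff.1 ((hBv ▸ hb : b ∈ st v).2)⟩
  -- the union of the fixed spaces
  let Y : Finset G := (Finset.univ : Finset ↥T).biUnion fun C =>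
    (Finset.univ.filter fun w => w ∈ W C).erase 1
  have hY : Y.card ≤ t * (q - 1) := by
    refine Finset.card_biUnion_le.trans (le_of_eq ?_)
    rw [Finset.sum_congr rfl (g := fun _ => q - 1), Finset.sum_const, Finset.card_univ,
      Fintype.card_coe, smul_eq_mul]
    intro C _
    rw [Finset.card_erase_of_mem (by simp), card_filter_mem, hWB C]
  have horbY : orb M v ⊆ Y := by
    intro w hw
    obtain ⟨x, hx, rfl⟩ := Finset.mem_image.1 hw
    have hx' : x ∈ M := by simpa using hx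
    refine Finset.mem_biUnion.2 ⟨⟨_, Finset.mem_image.2 ⟨x, hx, rfl⟩⟩, Finset.mem_univ _, ?_⟩
    simp only [Finset.mem_erase, Finset.mem_filter, Finset.mem_univ, true_and, W, Subgroup.mem_inf]
    refine ⟨conj_ne_one hv1, conj_mem (hMV hx') hv, Subgroup.mem_centralizer_iff.2 ?_⟩
    rintro _ ⟨b, hb, rfl⟩
    simp only [MulEquiv.coe_toMonoidHom, MulAut.conj_apply]
    calc x * b * x⁻¹ * (x * v * x⁻¹) = x * (b * v) * x⁻¹ := by group
      _ = x * (v * b) * x⁻¹ := by rw [Subgroup.mem_centralizer_iff.1 hvB.2 b hb]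
      _ = x * v * x⁻¹ * (x * b * x⁻¹) := by group
  have horb2 : 2 ≤ (orb A v).card := by
    by_contra hlt
    refine hA1 v hv hv1 (le_antisymm inf_le_left fun a ha => ⟨ha,
      Subgroup.mem_centralizer_singleton_iff.2 ?_⟩)
    have h1 : a * v * a⁻¹ ∈ orb A v := Finset.mem_image.2 ⟨a, by simpa using ha, rfl⟩
    have h2 := Finset.card_le_one.1 (by omega) _ h1 _ (mem_orb_self A v)
    calc a * v = a * v * a⁻¹ * a := by group
      _ = v * a := by rw [h2]
  have hcount : D.index * 2 ≤ t * (q - 1) :=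
    ((Nat.mul_le_mul_left _ horb2).trans (h.card_orb hA hv hv1)).trans
      ((Finset.card_le_card horbY).trans hY)
  have ht1 : t ≠ 1 := by
    intro e
    have huniq : ∀ x ∈ M, B.map (MulAut.conj x).toMonoidHom = B := fun x hx =>
      Finset.card_le_one.1 e.le _ (Finset.mem_image.2 ⟨x, by simpa using hx, rfl⟩) _ hBmemT
    have hX : V ⊓ centralizer (B : Set G) = V := by
      refine le_of_le_or_bot (hirr _ inf_le_left fun x hx => ?_) hvB hv1
      rw [Subgroup.mem_normalizer_iff]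
      intro u
      have key : ∀ y ∈ M, ∀ u ∈ V ⊓ centralizer (B : Set G),
          y * u * y⁻¹ ∈ V ⊓ centralizer (B : Set G) := by
        intro y hy u hu
        refine ⟨conj_mem (hMV hy) hu.1, Subgroup.mem_centralizer_iff.2 fun a ha => ?_⟩
        obtain ⟨b, hb, rfl⟩ := (huniq y hy).ge ha
        simp only [MulEquiv.coe_toMonoidHom, MulAut.conj_apply]
        calc y * b * y⁻¹ * (y * u * y⁻¹) = y * (b * u) * y⁻¹ := by group
          _ = y * (u * b) * y⁻¹ := by rw [Subgroup.mem_centralizer_iff.1 hu.2 b hb]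
          _ = y * u * y⁻¹ * (y * b * y⁻¹) := by group
      exact ⟨key x hx u, fun hu => by
        simpa [mul_assoc] using key x⁻¹ (inv_mem hx) _ hu⟩
    refine hB1 (le_bot_iff.1 (le_trans (fun b hb => ?_) hAf.le))
    exact ⟨(hBv ▸ hb : b ∈ st v).1, Subgroup.mem_centralizer_iff.2 fun u hu =>
      (Subgroup.mem_centralizer_iff.1 (hX.ge hu).2 b hb).symm⟩
  have hi : 0 < D.index := Nat.pos_of_ne_zero D.index_ne_zero_of_finite
  have ht2 : 2 ≤ t := by
    have : 0 < t := Finset.card_pos.2 ⟨B, hBmemT⟩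
    omega
  have hq3 : 3 ≤ q := by
    by_contra hlt
    have hq2 : q ≤ 2 := by omega
    refine hA1 v hv hv1 (le_antisymm inf_le_left fun a ha => ⟨ha,
      Subgroup.mem_centralizer_singleton_iff.2 ?_⟩)
    have hav : a * v * a⁻¹ ∈ V ⊓ centralizer (B : Set G) := by
      refine ⟨conj_mem (hMV (hA ha).1) hv, Subgroup.mem_centralizer_iff.2 fun b hb => ?_⟩
      have hbA : b ∈ A := (hBv ▸ hb : b ∈ st v).1
      have hbv := Subgroup.mem_centralizer_iff.1 hvB.2 b hb
      calc b * (a * v * a⁻¹) = (b * a) * v * a⁻¹ := by group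
        _ = (a * b) * v * a⁻¹ := by rw [hAc b hbA a ha]
        _ = a * (b * v) * a⁻¹ := by group
        _ = a * (v * b) * a⁻¹ := by rw [hbv]
        _ = a * v * (b * a⁻¹) := by group
        _ = a * v * (a⁻¹ * b) := by rw [hAc b hbA a⁻¹ (inv_mem ha)]
        _ = a * v * a⁻¹ * b := by group
    have h2 : ((Finset.univ.filter fun w => w ∈ V ⊓ centralizer (B : Set G)).erase 1).card ≤ 1 := by
      rw [Finset.card_erase_of_mem (by simp), card_filter_mem]; omega
    have h3 := Finset.card_le_one.1 h2 (a * v * a⁻¹)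
      (Finset.mem_erase.2 ⟨conj_ne_one hv1, Finset.mem_filter.2 ⟨Finset.mem_univ _, hav⟩⟩) v
      (Finset.mem_erase.2 ⟨hv1, Finset.mem_filter.2 ⟨Finset.mem_univ _, hvB⟩⟩)
    calc a * v = a * v * a⁻¹ * a := by group
      _ = v * a := by rw [h3]
  have h4 := arith_imprimitive hq3 ht2
  have h5 : (2 * (D.index + 1)) ^ 2 ≤ (t * (q - 1) + 2) ^ 2 := Nat.pow_le_pow_left (by omega) 2
  have h6 : 4 * q ^ t ≤ 4 * Nat.card V := Nat.mul_le_mul_left _ hprod
  have h7 : (2 * (D.index + 1)) ^ 2 = 4 * (D.index + 1) ^ 2 := by ring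
  omega

/-- four numbers -/
theorem four_bound {a b c d R : ℝ} (ha : 1 ≤ a) (hb : 1 ≤ b) (hc : 1 ≤ c) (hd : 1 ≤ d)
    (haR : a ≤ R) (hbR : b ≤ R) (hcR : c ≤ R) (hdR : d ≤ R) (h : a * b * (c * d) ≤ R * R) :
    a + b + c + d ≤ 2 * R + 2 := by
  have hR : 1 ≤ R := le_trans ha haR
  have h1 : a + b ≤ a * b + 1 := by nlinarith
  have h2 : c + d ≤ c * d + 1 := by nlinarith
  have h3 : R * (a + b) ≤ R * R + a * b := by nlinarith
  have h4 : R * (c + d) ≤ R * R + c * d := by nlinarith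
  have aux : ∀ x y s u : ℝ, R < x → x ≤ R * R → 1 ≤ y → x * y ≤ R * R →
      R * s ≤ R * R + x → u ≤ y + 1 → s + u ≤ 2 * R + 2 := by
    intro x y s u hx hxR hy hxy hs hu
    have hx0 : 0 < x := by linarith
    have e1 : 0 ≤ (x - R) * (R * R - x) := by
      apply mul_nonneg <;> linarith
    have e2 : x * (x + R * y) ≤ x * (R * R + R) := by nlinarith
    have e3 : x + R * y ≤ R * R + R := le_of_mul_le_mul_left e2 hx0
    have e4 : R * (s + u) ≤ R * (2 * R + 2) := by nlinarith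
    exact le_of_mul_le_mul_left e4 (by linarith)
  rcases le_or_gt (a * b) R with hab | hab
  · rcases le_or_gt (c * d) R with hcd | hcd
    · linarith
    · have := aux (c * d) (a * b) (c + d) (a + b) hcd (by nlinarith) (by nlinarith)
        (by nlinarith) h4 h1
      linarith
  · have := aux (a * b) (c * d) (a + b) (c + d) hab (by nlinarith) (by nlinarith) h h3 h2
    linarith

theorem le_sq_of_two {i ρ n : ℕ} (h : i ≤ ρ) (hρ : (ρ + 1) ^ 2 ≤ n) : (i + 1) ^ 2 ≤ n :=
  (Nat.pow_le_pow_left (by omega) 2).trans hρ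

theorem le_sq_of_three {i ρ n : ℕ} (h : 2 * i ≤ 3 * ρ) (hρ : (ρ + 1) ^ 3 ≤ n) :
    (i + 1) ^ 2 ≤ n := by
  refine le_trans ?_ hρ
  rcases Nat.lt_or_ge ρ 2 with h2 | h2
  · interval_cases ρ
    · have : i = 0 := by omega
      subst this; norm_num
    · have : i ≤ 1 := by omega
      interval_cases i <;> norm_num
  · have e1 : (2 * (i + 1)) ^ 2 ≤ (3 * ρ + 2) ^ 2 := Nat.pow_le_pow_left (by omega) 2
    nlinarith [Nat.mul_le_mul_left (ρ * ρ) h2]

/-- half of the group at most moves -/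
theorem card_outside_le (U U₀ : Subgroup G) (hle : U₀ ≤ U)
    (h2 : ∀ x ∈ U, x ∉ U₀ → ∀ y ∈ U, y ∉ U₀ → x * y⁻¹ ∈ U₀) :
    2 * (Finset.univ.filter fun x => x ∈ U ∧ x ∉ U₀).card ≤ Nat.card U := by
  have hsplit : Nat.card U = (Finset.univ.filter fun x => x ∈ U₀).card +
      (Finset.univ.filter fun x => x ∈ U ∧ x ∉ U₀).card := by
    rw [← card_filter_mem, ← Finset.card_union_of_disjoint]
    · congr 1
      ext x
      simp only [Finset.mem_filter, Finset.mem_union, Finset.mem_univ, true_and]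
      by_cases hx : x ∈ U₀
      · simp [hx, hle hx]
      · simp [hx]
    · rw [Finset.disjoint_filter]
      intro x _ hx hx'
      exact hx'.2 hx
  rcases (Finset.univ.filter fun x => x ∈ U ∧ x ∉ U₀).eq_empty_or_nonempty with he | ⟨y, hy⟩
  · rw [he]; simp
  have hle' : (Finset.univ.filter fun x => x ∈ U ∧ x ∉ U₀).card ≤
      (Finset.univ.filter fun x => x ∈ U₀).card := by
    simp only [Finset.mem_filter, Finset.mem_univ, true_and] at hy
    refine Finset.card_le_card_of_injOn (fun x => x * y⁻¹) ?_ ?_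
    · intro x hx
      simp only [Finset.coe_filter, Finset.mem_univ, true_and, Set.mem_setOf_eq] at hx ⊢
      exact h2 x hx.1 hx.2 y hy.1 hy.2
    · intro x _ x' _ e
      exact mul_right_cancel e
  omega

theorem sum_fw_le {S : Finset G} {ρ : ℕ} (T : Finset G)
    (hρ : ∀ k ∈ S, fw V k ≤ ρ) (hT : ∀ k ∈ S, fw V k ≠ 0 → k ∈ T) :
    ∑ k ∈ S, fw V k ≤ T.card * ρ := by
  calc ∑ k ∈ S, fw V k = ∑ k ∈ S.filter (fun k => fw V k ≠ 0), fw V k :=
        (Finset.sum_filter_ne_zero S).symm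
    _ ≤ (S.filter (fun k => fw V k ≠ 0)).card * ρ := by
        rw [← smul_eq_mul]
        exact Finset.sum_le_card_nsmul _ _ _ fun k hk => hρ k (Finset.mem_filter.1 hk).1
    _ ≤ T.card * ρ := Nat.mul_le_mul_right _ (Finset.card_le_card fun k hk =>
        hT k (Finset.mem_filter.1 hk).1 (Finset.mem_filter.1 hk).2)

theorem exists_fixed_of_fw {h : G} (hh : fw V h ≠ 0) :
    ∃ v ∈ V, v ≠ 1 ∧ h * v = v * h := by
  obtain ⟨v, hv⟩ := Finset.card_ne_zero.1 hh
  simp only [Finset.mem_filter, Finset.mem_univ, true_and] at hv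
  exact ⟨v, hv⟩

theorem fw_le_pow {h : G} (k : ℕ) : fw V h ≤ fw V (h ^ k) := by
  refine Finset.card_le_card fun v hv => ?_
  simp only [Finset.mem_filter, Finset.mem_univ, true_and] at hv ⊢
  exact ⟨hv.1, hv.2.1, Commute.pow_left (show Commute h v from hv.2.2) k⟩

end Cfsg.Agent.DerangeIndex
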