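import Cfsg.Agent.Lib.DerangeIndexCount21

/-!
# A normalised prime power group with a non-trivial fixed vector

The main counting theorem: `(D.index + 1) ^ 2 ≤ |V|`.
-/

set_option autoImplicit false
set_option linter.all false

namespace Cfsg.Agent.DerangeIndex

open Subgroup
open scoped Classical

variable {G : Type*} [Group G] [Fintype G]
variable {V M D U : Subgroup G} {q : ℕ}

theorem exists_power_order [Fact q.Prime] (hq : IsPGroup q U) {k : G} (hk : k ∈ U) (hk1 : k ≠ 1) :
    ∃ m : ℕ, orderOf (k ^ m) = q := by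
  obtain ⟨e, he⟩ := IsPGroup.iff_orderOf.1 hq ⟨k, hk⟩
  rw [Subgroup.orderOf_mk] at he
  rcases e with _ | e
  · rw [pow_zero] at he
    exact absurd (orderOf_eq_one_iff.1 he) hk1
  · refine ⟨q ^ e, ?_⟩
    rw [orderOf_pow, he]
    have hq0 : 0 < q := (Fact.out : q.Prime).pos
    rw [Nat.gcd_eq_right (pow_dvd_pow q e.le_succ), pow_succ,
      Nat.mul_div_cancel_left _ (pow_pos hq0 e)]

theorem mem_zpowers_of_cyclic [Fact q.Prime] {Z : Subgroup G} (hZ : IsCyclic Z) {z y : G}
    (hz : z ∈ Z) (hzo : orderOf z = q) (hy : y ∈ Z) (hyq : y ^ q = 1) : y ∈ zpowers z := by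
  by_cases hy1 : y = 1
  · rw [hy1]; exact one_mem _
  have hyo : orderOf y = q := orderOf_eq_prime hyq hy1
  have := PGroupsCyclic.eq_of_card_eq_of_isCyclic hZ (zpowers_le.2 hz) (zpowers_le.2 hy)
    (by rw [Nat.card_zpowers, Nat.card_zpowers, hzo, hyo])
  rw [this]
  exact mem_zpowers y

theorem pow_conj_of_central {c h w : G} (hcw : c * w = w * c) (e : c * h * c⁻¹ = w * h) (j : ℕ) :
    c ^ j * h * (c ^ j)⁻¹ = w ^ j * h := by
  induction j with
  | zero => simp
  | succ j ih =>
    have hcwj : c * w ^ j = w ^ j * c := Commute.pow_right (show Commute c w from hcw) j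
    calc c ^ (j + 1) * h * (c ^ (j + 1))⁻¹
        = c * (c ^ j * h * (c ^ j)⁻¹) * c⁻¹ := by rw [pow_succ']; group
      _ = c * w ^ j * h * c⁻¹ := by rw [ih]; group
      _ = w ^ j * (c * h * c⁻¹) := by rw [hcwj]; group
      _ = w ^ (j + 1) * h := by rw [e, pow_succ]; group

/-- The main counting theorem. -/
theorem Free.count (h : Free V M D) [hqF : Fact q.Prime]
    (hirr : ∀ X : Subgroup G, X ≤ V → M ≤ normalizer (X : Set G) → X = ⊥ ∨ X = V)
    (hU : U ≤ M ⊓ D) (hMU : M ≤ normalizer (U : Set G)) (hq : IsPGroup q U)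
    (hUf : U ⊓ centralizer (V : Set G) = ⊥)
    (hex : ∃ k ∈ U, k ≠ 1 ∧ fw V k ≠ 0) : (D.index + 1) ^ 2 ≤ Nat.card V := by
  by_contra hgoal
  have hMV := h.norm
  have hUM : U ≤ M := hU.trans inf_le_left
  have hqp : q.Prime := hqF.out
  -- abelian invariant subgroups act without fixed points and are cyclic
  have hfpf : ∀ A : Subgroup G, A ≤ U → M ≤ normalizer (A : Set G) →
      (∀ a ∈ A, ∀ b ∈ A, a * b = b * a) → ∀ a ∈ A, a ≠ 1 → fw V a = 0 := by
    intro A hA hMA hAc a ha ha1
    by_contra hne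
    exact hgoal (h.abelian hirr (hA.trans hU) hMA hAc
      (le_bot_iff.1 ((inf_le_inf_right _ hA).trans hUf.le)) ⟨a, ha, ha1, hne⟩)
  have hcyc : ∀ A : Subgroup G, A ≤ U → M ≤ normalizer (A : Set G) →
      (∀ a ∈ A, ∀ b ∈ A, a * b = b * a) → IsCyclic A := by
    intro A hA hMA hAc
    refine FrobeniusFPF.isCyclic_of_fpf A V ⟨⟨fun a b => Subtype.ext (h.comm a a.2 b b.2)⟩⟩ h.nonBot
      ((hA.trans hUM).trans hMV) (fun a ha ha1 => ?_)
      (Or.inl ⟨⟨fun a b => Subtype.ext (hAc a a.2 b b.2)⟩⟩)
    rw [← Subgroup.card_eq_one, fw_eq_card, hfpf A hA hMA hAc a ha ha1]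
  -- a critical subgroup
  obtain ⟨C', hCc, -, hCcomm, hCcent⟩ := PGroupsCritical.exists_critical hq
  haveI := hCc
  set E := C'.map U.subtype with hE
  have hEU : E ≤ U := map_subtype_le _
  have hME : M ≤ normalizer (E : Set G) :=
    hMU.trans (Cfsg.Agent.ComponentsCores.normalizer_le_normalizer_map_subtype U C')
  set Z := E ⊓ centralizer (E : Set G) with hZdef
  have hZU : Z ≤ U := inf_le_left.trans hEU
  have hZc : ∀ a ∈ Z, ∀ b ∈ Z, a * b = b * a := fun a ha b hb =>
    Subgroup.mem_centralizer_iff.1 hb.2 a ha.1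
  have hMZ : M ≤ normalizer (Z : Set G) := by
    intro x hx
    rw [Subgroup.mem_normalizer_iff]
    intro u
    have key : ∀ y ∈ M, ∀ u ∈ Z, y * u * y⁻¹ ∈ Z := by
      intro y hy u hu
      refine ⟨conj_mem (hME hy) hu.1, Subgroup.mem_centralizer_iff.2 fun a ha => ?_⟩
      have ha' : y⁻¹ * a * y ∈ E := by simpa using conj_mem (inv_mem (hME hy)) ha
      have := Subgroup.mem_centralizer_iff.1 hu.2 _ ha'
      calc a * (y * u * y⁻¹) = y * ((y⁻¹ * a * y) * u) * y⁻¹ := by group
        _ = y * (u * (y⁻¹ * a * y)) * y⁻¹ := by rw [this]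
        _ = y * u * y⁻¹ * a := by group
    exact ⟨key x hx u, fun hu => by simpa [mul_assoc] using key x⁻¹ (inv_mem hx) _ hu⟩
  have hCE : ∀ u ∈ U, (∀ c ∈ E, c * u = u * c) → u ∈ E := by
    intro u hu hc
    refine ⟨⟨u, hu⟩, hCcent (Subgroup.mem_centralizer_iff.2 fun c hc' => Subtype.ext ?_), rfl⟩
    exact hc c ⟨c, hc', rfl⟩
  have hUE : ∀ u ∈ U, ∀ c ∈ E, c * u * c⁻¹ * u⁻¹ ∈ Z := by
    rintro u hu _ ⟨c, hc, rfl⟩
    have hm := hCcomm (Subgroup.commutator_mem_commutator hc (Subgroup.mem_top (⟨u, hu⟩ : U)))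
    rw [Subgroup.mem_inf, commutatorElement_def] at hm
    refine ⟨⟨_, hm.1, rfl⟩, Subgroup.mem_centralizer_iff.2 ?_⟩
    rintro _ ⟨d, hd, rfl⟩
    exact congrArg Subtype.val (Subgroup.mem_centralizer_iff.1 hm.2 d hd)
  have hZcyc : IsCyclic Z := hcyc Z hZU hMZ hZc
  -- the centre of `E` is not trivial
  have hEnb : E ≠ ⊥ := by
    intro e
    obtain ⟨k, hk, hk1, -⟩ := hex
    refine hk1 (Subgroup.mem_bot.1 (e ▸ hCE k hk fun c hc => ?_))
    rw [Subgroup.mem_bot.1 (e ▸ hc : c ∈ (⊥ : Subgroup G))]
    simp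
  have hEp : IsPGroup q E := hq.to_le hEU
  have hZnb : Z ≠ ⊥ := by
    intro e
    haveI : Nontrivial E := (Subgroup.nontrivial_iff_ne_bot E).2 hEnb
    haveI := hEp.center_nontrivial
    obtain ⟨a, ha, ha1⟩ := (Subgroup.ne_bot_iff_exists_ne_one.1
      ((Subgroup.nontrivial_iff_ne_bot (Subgroup.center E)).1 inferInstance) :
        ∃ a : Subgroup.center E, a ≠ 1) |> fun ⟨a, ha⟩ => (⟨a.1, a.2, fun e => ha (Subtype.ext e)⟩ :
          ∃ a : E, a ∈ Subgroup.center E ∧ a ≠ 1)
    refine ha1 (Subtype.ext (Subgroup.mem_bot.1 (e ▸ ?_ : (a : G) ∈ (⊥ : Subgroup G))))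
    exact ⟨a.2, Subgroup.mem_centralizer_iff.2 fun c hc =>
      congrArg Subtype.val (Subgroup.mem_center_iff.1 ha ⟨c, hc⟩)⟩
  -- the element of order `q` in the centre
  obtain ⟨z, hzZ, hzo⟩ : ∃ z ∈ Z, orderOf z = q := by
    obtain ⟨k, hk, hk1⟩ := (Subgroup.bot_or_exists_ne_one Z).resolve_left hZnb
    obtain ⟨m, hm⟩ := exists_power_order hq (hZU hk) hk1
    exact ⟨k ^ m, pow_mem hk m, hm⟩
  have hz1 : z ≠ 1 := fun e => by
    rw [e, orderOf_one] at hzo
    exact hqp.one_lt.ne hzo
  have hzf : ∀ a ∈ zpowers z, a ≠ 1 → ∀ v ∈ V, a * v = v * a → v = 1 := by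
    intro a ha ha1 v hv hc
    by_contra hv1
    have := hfpf Z hZU hMZ hZc a (zpowers_le.2 hzZ ha) ha1
    rw [fw, Finset.card_eq_zero, Finset.filter_eq_empty_iff] at this
    exact this (Finset.mem_univ v) ⟨hv, hv1, hc⟩
  have hzc : ∀ u ∈ U, ∀ a ∈ zpowers z, u * a = a * u := by
    intro u hu a ha
    have hmem : ∀ w ∈ U, w * z * w⁻¹ ∈ zpowers z := fun w hw => mem_zpowers_of_cyclic hZcyc hzZ hzo
      (conj_mem (hMZ (hUM hw)) hzZ) (by rw [conj_pow, ← hzo, pow_orderOf_eq_one]; group)
    -- a group of prime order normalised by a group of prime power order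
    have hn : U ≤ normalizer ((zpowers z : Subgroup G) : Set G) := by
      intro w hw
      rw [Subgroup.mem_normalizer_iff]
      intro b
      have key : ∀ w ∈ U, ∀ b ∈ zpowers z, w * b * w⁻¹ ∈ zpowers z := by
        rintro w hw _ ⟨k, rfl⟩
        rw [← conj_zpow]
        exact zpow_mem (hmem w hw) k
      exact ⟨key w hw b, fun hb => by simpa [mul_assoc] using key w⁻¹ (inv_mem hw) _ hb⟩
    have hN : ((zpowers z).subgroupOf U).Normal := normal_subgroupOf_of_le_normalizer hn
    have hle : (zpowers z).subgroupOf U ≤ Subgroup.center U := by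
      haveI := hN
      refine PGroupsBasic.le_center_of_card_eq_prime hq ?_
      rw [Nat.card_congr (Subgroup.subgroupOfEquivOfLe (zpowers_le.2 (hZU hzZ))).toEquiv,
        Nat.card_zpowers, hzo]
    exact congrArg Subtype.val (Subgroup.mem_center_iff.1
      (hle (show (⟨a, zpowers_le.2 (hZU hzZ) ha⟩ : U) ∈ (zpowers z).subgroupOf U from ha)) ⟨u, hu⟩)
  -- conjugating an element of order `q` to a translate
  have hconj : ∀ k ∈ U, orderOf k = q → fw V k ≠ 0 →
      ∃ c ∈ U, ∃ w ∈ zpowers z, w ≠ 1 ∧ c * k * c⁻¹ = w * k := by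
    intro k hk hko hkf
    have hk1 : k ≠ 1 := fun e => by
      rw [e, orderOf_one] at hko
      exact hqp.one_lt.ne hko
    by_cases hkZ : ∀ a ∈ Z, a * k = k * a
    · have hkE : ¬ ∀ c ∈ E, c * k = k * c := by
        intro hall
        exact hkf (hfpf Z hZU hMZ hZc k ⟨hCE k hk hall, Subgroup.mem_centralizer_iff.2 hall⟩ hk1)
      push Not at hkE
      obtain ⟨c, hc, hck⟩ := hkE
      have hy := hUE k hk c hc
      set y := c * k * c⁻¹ * k⁻¹ with hy'
      have e : c * k * c⁻¹ = y * k := by rw [hy']; group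
      refine ⟨c, hEU hc, y, mem_zpowers_of_cyclic hZcyc hzZ hzo hy ?_, ?_, e⟩
      · have h1 : (c * k * c⁻¹) ^ q = 1 := by
          rw [conj_pow, ← hko, pow_orderOf_eq_one]; group
        rw [e, Commute.mul_pow (hkZ y hy), ← hko, pow_orderOf_eq_one, mul_one] at h1
        rwa [hko] at h1
      · intro e1
        rw [e1, one_mul] at e
        exact hck (by
          calc c * k = c * k * c⁻¹ * c := by group
            _ = k * c := by rw [e])
    · push Not at hkZ
      obtain ⟨a, ha, hak⟩ := hkZ
      have hnk : k ∈ normalizer (Z : Set G) := hMZ (hUM hk)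
      let f : Z →* G :=
        { toFun := fun b => (b : G) * k * (b : G)⁻¹ * k⁻¹
          map_one' := by simp
          map_mul' := by
            intro b b'
            have h1 : k * (b' : G)⁻¹ * k⁻¹ ∈ Z := conj_mem hnk (inv_mem b'.2)
            have h2 : k * (b : G)⁻¹ * k⁻¹ ∈ Z := conj_mem hnk (inv_mem b.2)
            have hx : (b' : G) * k * (b' : G)⁻¹ * k⁻¹ ∈ Z := by
              have := mul_mem b'.2 h1
              simpa [mul_assoc] using this
            have hc := hZc _ hx _ h2
            simp only [Subgroup.coe_mul]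
            calc (b : G) * b' * k * ((b : G) * b')⁻¹ * k⁻¹
                = (b : G) * (((b' : G) * k * (b' : G)⁻¹ * k⁻¹) * (k * (b : G)⁻¹ * k⁻¹)) := by group
              _ = (b : G) * ((k * (b : G)⁻¹ * k⁻¹) * ((b' : G) * k * (b' : G)⁻¹ * k⁻¹)) := by rw [hc]
              _ = _ := by group }
      have hfZ : f.range ≤ Z := by
        rintro _ ⟨b, rfl⟩
        have := mul_mem b.2 (conj_mem hnk (inv_mem b.2))
        simpa [f, mul_assoc] using this
      have hfn : (a : G) * k * a⁻¹ * k⁻¹ ≠ 1 := by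
        intro e1
        apply hak
        calc a * k = (a * k * a⁻¹ * k⁻¹) * k * a := by group
          _ = k * a := by rw [e1, one_mul]
      obtain ⟨m, hm⟩ := exists_power_order hq (hZU (hfZ ⟨⟨a, ha⟩, rfl⟩)) hfn
      have hmem : z ∈ zpowers ((f ⟨a, ha⟩) ^ m) :=
        mem_zpowers_of_cyclic hZcyc (pow_mem (hfZ ⟨⟨a, ha⟩, rfl⟩) m) hm hzZ
          (by rw [← hzo, pow_orderOf_eq_one])
      obtain ⟨b, hb⟩ : z ∈ f.range :=
        zpowers_le.2 (pow_mem (MonoidHom.mem_range.2 ⟨_, rfl⟩) m) hmem
      refine ⟨b, hZU b.2, z, mem_zpowers z, hz1, ?_⟩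
      rw [← hb]
      simp [f, mul_assoc]
  -- the key inequality
  have hkey : ∀ k ∈ U, k ≠ 1 → fw V k ≠ 0 → (fw V k + 1) ^ q ≤ Nat.card V := by
    intro k hk hk1 hkf
    obtain ⟨m, hm⟩ := exists_power_order hq hk hk1
    have hle : fw V k ≤ fw V (k ^ m) := fw_le_pow m
    refine (Nat.pow_le_pow_left (Nat.add_le_add_right hle 1) q).trans ?_
    have hg := pow_mem hk m
    have hgf : fw V (k ^ m) ≠ 0 := by omega
    generalize k ^ m = g at hg hm hgf ⊢
    obtain ⟨c, hc, w, hw, hw1, e⟩ := hconj g hg hm hgf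
    have hwU : w ∈ U := hZU (zpowers_le.2 hzZ hw)
    have hwo : orderOf w = q := by
      have hd : orderOf w ∣ q := by
        rw [← hzo]
        exact orderOf_dvd_of_mem_zpowers hw
      exact (hqp.eq_one_or_self_of_dvd _ hd).resolve_left fun e => hw1 (orderOf_eq_one_iff.1 e)
    let W : Fin q → Subgroup G := fun j => V ⊓ centralizer ({w ^ (j : ℕ) * g} : Set G)
    have hWc : ∀ j, Nat.card ↥(W j) = fw V g + 1 := by
      intro j
      simp only [W]
      rw [fw_eq_card, ← pow_conj_of_central (hzc c hc w hw) e,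
        fw_conj V (hMV (hUM (pow_mem hc _)))]
    have hp := prod_card_le h.comm W (fun j => inf_le_left) ?_ Finset.univ
    · simp only [hWc, Finset.prod_const, Finset.card_univ, Fintype.card_fin] at hp
      exact hp.trans (Subgroup.card_le_of_le (Finset.sup_le fun j _ => inf_le_left))
    · intro j l hne
      have hcom : ∀ i' j' : ℕ, (w ^ i' * g) * (w ^ j' * g) = (w ^ j' * g) * (w ^ i' * g) := by
        intro i' j'
        have e1 : ∀ n : ℕ, g * w ^ n = w ^ n * g := fun n =>
          Commute.pow_right (show Commute g w from hzc g hg w hw) n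
        calc (w ^ i' * g) * (w ^ j' * g) = w ^ i' * (g * w ^ j') * g := by group
          _ = w ^ i' * (w ^ j' * g) * g := by rw [e1]
          _ = w ^ j' * (w ^ i' * g) * g := by rw [← mul_assoc, ← mul_assoc, ← pow_add, ← pow_add,
                add_comm]
          _ = w ^ j' * (g * w ^ i') * g := by rw [e1]
          _ = (w ^ j' * g) * (w ^ i' * g) := by group
      refine ⟨w ^ (j : ℕ) * g, fun m x hx => ⟨conj_mem (hMV (hUM (mul_mem (pow_mem hwU _) hg)))
        hx.1, Subgroup.mem_centralizer_singleton_iff.2 ?_⟩, fun x hx => ?_, fun x hx hbx => ?_⟩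
      · have h1 := Subgroup.mem_centralizer_singleton_iff.1 hx.2
        have h2 : Commute (w ^ (m : ℕ) * g) (w ^ (j : ℕ) * g) := hcom m j
        exact (((h2.mul_right (show Commute (w ^ (m : ℕ) * g) x from h1.symm)).mul_right
          h2.inv_right).symm).eq
      · exact (Subgroup.mem_centralizer_singleton_iff.1 hx.2).symm
      · by_contra hx1
        have h1 : Commute (w ^ (l : ℕ) * g) x :=
          (Subgroup.mem_centralizer_singleton_iff.1 hx.2).symm
        have h2 : Commute (w ^ (j : ℕ) * g) x := hbx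
        have h3 : Commute ((w ^ (j : ℕ) * g) * (w ^ (l : ℕ) * g)⁻¹) x := h2.mul_left h1.inv_left
        have e3 : (w ^ (j : ℕ) * g) * (w ^ (l : ℕ) * g)⁻¹ = w ^ (j : ℕ) * (w ^ (l : ℕ))⁻¹ := by group
        rw [e3] at h3
        refine hx1 (hzf _ (mul_mem (pow_mem hw _) (inv_mem (pow_mem hw _))) ?_ x hx.1 h3)
        rw [Ne, mul_inv_eq_one]
        intro e4
        exact hne (Fin.ext (pow_injOn_Iio_orderOf (by simp [hwo]) (by simp [hwo]) e4))
  -- the largest fixed space
  obtain ⟨k₀, hk₀, hk₀1, hk₀f⟩ := hex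
  obtain ⟨kM, hkM, hkMmax⟩ := Finset.exists_max_image
    (Finset.univ.filter fun k => k ∈ U ∧ k ≠ 1) (fun k => fw V k) ⟨k₀, by simp [hk₀, hk₀1]⟩
  set ρ := fw V kM with hρdef
  simp only [Finset.mem_filter, Finset.mem_univ, true_and] at hkM hkMmax
  have hρ : ∀ k ∈ U, k ≠ 1 → fw V k ≤ ρ := fun k hk hk1 => hkMmax k ⟨hk, hk1⟩
  have hρ0 : ρ ≠ 0 := by have := hρ k₀ hk₀ hk₀1; omega
  have hρq : (ρ + 1) ^ q ≤ Nat.card V := hkey kM hkM.1 hkM.2 hρ0
  have hwt : ∀ (A : Subgroup G) (v : G), ∀ u ∈ A, u ≠ 1 → u * v = v * u → 0 < wt A v := by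
    intro A v u hu hu1 huv
    exact Finset.card_pos.2 ⟨u, by simp [hu, hu1, huv]⟩
  have hi : 0 < D.index := Nat.pos_of_ne_zero D.index_ne_zero_of_finite
  rcases hqp.eq_two_or_odd with hq2 | hqodd
  swap
  · have hq3 : 3 ≤ q := by have := hqp.two_le; omega
    obtain ⟨m, hm⟩ := exists_power_order hq hk₀ hk₀1
    have hgU := pow_mem hk₀ m
    have hgf : fw V (k₀ ^ m) ≠ 0 := by
      have := fw_le_pow (V := V) (h := k₀) m
      omega
    generalize k₀ ^ m = g at hgU hm hgf
    obtain ⟨v, hv, hv1, hgv⟩ := exists_fixed_of_fw hgf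
    have hg1 : g ≠ 1 := fun e => by
      rw [e, orderOf_one] at hm
      exact hqp.one_lt.ne hm
    have hg2 : g ^ 2 ≠ 1 := fun e => by
      have := Nat.le_of_dvd two_pos (orderOf_dvd_of_pow_eq_one e)
      omega
    have hwt2 : 2 ≤ wt U v := by
      have hsub : ({g, g ^ 2} : Finset G) ⊆
          Finset.univ.filter fun u => u ∈ U ∧ u ≠ 1 ∧ u * v = v * u := by
        intro u hu
        simp only [Finset.mem_insert, Finset.mem_singleton] at hu
        rcases hu with rfl | rfl
        · simp [hgU, hg1, hgv]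
        · simp only [Finset.mem_filter, Finset.mem_univ, true_and]
          exact ⟨pow_mem hgU 2, hg2, Commute.pow_left (show Commute g v from hgv) 2⟩
      refine le_trans (le_of_eq ?_) (Finset.card_le_card hsub)
      rw [Finset.card_insert_of_notMem, Finset.card_singleton]
      simp only [Finset.mem_singleton]
      intro e
      exact hg1 (by
        have : g * 1 = g * g := by rw [mul_one, ← pow_two]; exact e
        exact (mul_left_cancel this).symm)
    have hcore := h.core hU hMU hv hv1
    have hS := sum_fw_le (V := V) (ρ := ρ)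
      (S := Finset.univ.filter fun k => k ∈ U ∧ k ≠ 1) (Finset.univ.filter fun k => k ∈ U)
      (fun k hk => by simp at hk; exact hρ k hk.1 hk.2) (fun k hk _ => by simp at hk ⊢; exact hk.1)
    rw [card_filter_mem] at hS
    refine hgoal (le_sq_of_three ?_ ((Nat.pow_le_pow_right (by omega) hq3).trans hρq))
    have hUpos : 0 < Nat.card U := Nat.card_pos
    have h1 : D.index * wt U v ≤ ρ * (wt U v + 1) := by
      refine Nat.le_of_mul_le_mul_left ?_ hUpos
      calc Nat.card U * (D.index * wt U v) = D.index * Nat.card U * wt U v := by ring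
        _ ≤ _ := hcore.trans (Nat.mul_le_mul_right _ hS)
        _ = Nat.card U * (ρ * (wt U v + 1)) := by ring
    nlinarith
  subst hq2
  have hρ2 : (ρ + 1) ^ 2 ≤ Nat.card V := hρq
  -- `|Z| ≥ 4`
  by_cases hZ4 : ∃ f ∈ Z, f * f ≠ 1
  · obtain ⟨f₀, hf₀, hf₀2⟩ := hZ4
    obtain ⟨f, hfZ, hfo⟩ : ∃ f ∈ Z, orderOf f = 4 := by
      obtain ⟨e, he⟩ := IsPGroup.iff_orderOf.1 hq ⟨f₀, hZU hf₀⟩
      rw [Subgroup.orderOf_mk] at he
      rcases e with _ | _ | e
      · rw [pow_zero] at he
        rw [orderOf_eq_one_iff] at he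
        exact absurd (by rw [he, mul_one]) hf₀2
      · rw [pow_one] at he
        exact absurd (by rw [← pow_two, ← he, pow_orderOf_eq_one]) hf₀2
      · refine ⟨f₀ ^ 2 ^ e, pow_mem hf₀ _, ?_⟩
        rw [orderOf_pow, he, show e + 1 + 1 = e + 2 from rfl,
          Nat.gcd_eq_right (pow_dvd_pow 2 (Nat.le_add_right e 2)),
          pow_add, Nat.mul_div_cancel_left _ (pow_pos two_pos e)]
        rfl
    have hfUnique : ∀ x ∈ M, x * f * x⁻¹ = f ∨ x * f * x⁻¹ = f⁻¹ := by
      intro x hx
      have hm : x * f * x⁻¹ ∈ Z := conj_mem (hMZ hx) hfZ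
      have ho : orderOf (x * f * x⁻¹) = 4 := by
        have : x * f * x⁻¹ = (MulAut.conj x).toMonoidHom f := by simp
        rw [this, orderOf_injective _ (MulAut.conj x).injective, hfo]
      have he := PGroupsCyclic.eq_of_card_eq_of_isCyclic hZcyc (zpowers_le.2 hfZ) (zpowers_le.2 hm)
        (by rw [Nat.card_zpowers, Nat.card_zpowers, hfo, ho])
      obtain ⟨k, hk, hkf⟩ := (IsOfFinOrder.mem_powers_iff_mem_zpowers
        (isOfFinOrder_of_finite f)).2 (he ▸ mem_zpowers (x * f * x⁻¹)) |> fun ⟨k, hk⟩ =>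
          (⟨k % 4, Nat.mod_lt _ (by norm_num), by
            rw [← hfo, pow_mod_orderOf]; exact hk⟩ : ∃ k, k < 4 ∧ f ^ k = x * f * x⁻¹)
      have hf4 : f ^ 4 = 1 := by rw [← hfo, pow_orderOf_eq_one]
      interval_cases k
      · rw [← hkf] at ho; simp at ho
      · left; rw [← hkf, pow_one]
      · rw [← hkf, orderOf_pow, hfo] at ho; norm_num at ho
      · right
        rw [← hkf]
        exact eq_inv_of_mul_eq_one_left (by rw [← pow_succ]; exact hf4)
    set U₀ := U ⊓ centralizer ({f} : Set G) with hU₀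
    have hMU₀ : M ≤ normalizer (U₀ : Set G) := by
      intro x hx
      rw [Subgroup.mem_normalizer_iff]
      intro u
      have key : ∀ y ∈ M, ∀ u ∈ U₀, y * u * y⁻¹ ∈ U₀ := by
        intro y hy u hu
        refine ⟨conj_mem (hMU hy) hu.1, Subgroup.mem_centralizer_singleton_iff.2 ?_⟩
        have h1 : Commute u f := Subgroup.mem_centralizer_singleton_iff.1 hu.2
        rcases hfUnique y hy with e | e
        · have h2 : Commute (y * u * y⁻¹) (y * f * y⁻¹) := h1.map (MulAut.conj y).toMonoidHom
          rw [e] at h2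
          exact h2.eq
        · have h2 : Commute (y * u * y⁻¹) (y * f * y⁻¹) := h1.map (MulAut.conj y).toMonoidHom
          rw [e] at h2
          simpa using h2.inv_right.eq
      exact ⟨key x hx u, fun hu => by simpa [mul_assoc] using key x⁻¹ (inv_mem hx) _ hu⟩
    have hU₀2 : ∀ x ∈ U, x ∉ U₀ → ∀ y ∈ U, y ∉ U₀ → x * y⁻¹ ∈ U₀ := by
      intro x hx hx' y hy hy'
      refine ⟨U.mul_mem hx (U.inv_mem hy), Subgroup.mem_centralizer_singleton_iff.2 ?_⟩
      have aux : ∀ a ∈ U, a ∉ U₀ → a * f * a⁻¹ = f⁻¹ := fun a ha ha' =>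
        (hfUnique a (hUM ha)).resolve_left fun e => ha' ⟨ha,
          Subgroup.mem_centralizer_singleton_iff.2 (by
            calc a * f = a * f * a⁻¹ * a := by group
              _ = f * a := by rw [e])⟩
      have h1 := aux x hx hx'
      have h2 : y⁻¹ * f * y = f⁻¹ := by
        have := congrArg (·⁻¹) (aux y hy hy')
        calc y⁻¹ * f * y = y⁻¹ * (f⁻¹)⁻¹ * y := by rw [inv_inv]
          _ = y⁻¹ * ((y * f * y⁻¹)⁻¹) * y := by rw [aux y hy hy']
          _ = f⁻¹ := by group
      calc x * y⁻¹ * f = x * (y⁻¹ * f * y) * y⁻¹ := by group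
        _ = x * f⁻¹ * y⁻¹ := by rw [h2]
        _ = (x * f * x⁻¹)⁻¹ * x * y⁻¹ := by group
        _ = f * (x * y⁻¹) := by rw [h1, inv_inv]; group
    by_cases hin : ∀ k ∈ U₀, k ≠ 1 → fw V k = 0
    · obtain ⟨v, hv, hv1, hkv⟩ := exists_fixed_of_fw hk₀f
      have hcore := h.core hU hMU hv hv1
      have hS := sum_fw_le (V := V) (ρ := ρ) (S := Finset.univ.filter fun k => k ∈ U ∧ k ≠ 1)
        (Finset.univ.filter fun k => k ∈ U ∧ k ∉ U₀)
        (fun k hk => by simp at hk; exact hρ k hk.1 hk.2)
        (fun k hk hkf => by simp at hk ⊢; exact ⟨hk.1, fun h' => hkf (hin k h' hk.2)⟩)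
      have hT := card_outside_le U U₀ inf_le_left hU₀2
      have hwpos := hwt U v k₀ hk₀ hk₀1 hkv
      refine hgoal (le_sq_of_two ?_ hρ2)
      refine Nat.le_of_mul_le_mul_left ?_
        (show 0 < Nat.card U * wt U v from Nat.mul_pos Nat.card_pos hwpos)
      calc Nat.card U * wt U v * D.index = D.index * Nat.card U * wt U v := by ring
        _ ≤ _ := hcore.trans (Nat.mul_le_mul_right _ hS)
        _ ≤ (Finset.univ.filter fun k => k ∈ U ∧ k ∉ U₀).card * ρ * (2 * wt U v) :=
          Nat.mul_le_mul_left _ (by omega)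
        _ = 2 * (Finset.univ.filter fun k => k ∈ U ∧ k ∉ U₀).card * wt U v * ρ := by ring
        _ ≤ _ := Nat.mul_le_mul_right _ (Nat.mul_le_mul_right _ hT)
    · push Not at hin
      obtain ⟨k₁, hk₁, hk₁1, hk₁f⟩ := hin
      obtain ⟨v, hv, hv1, hkv⟩ := exists_fixed_of_fw hk₁f
      have hcore := h.core (inf_le_left.trans hU) hMU₀ hv hv1
      have hwpos := hwt U₀ v k₁ hk₁ hk₁1 hkv
      set S := ∑ k ∈ Finset.univ.filter (fun k => k ∈ U₀ ∧ k ≠ 1), fw V k with hSdef
      set R := Real.sqrt (Nat.card V) with hR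
      have hR2 : R * R = (Nat.card V : ℝ) := Real.mul_self_sqrt (Nat.cast_nonneg _)
      let g : G → ℕ := fun k => if k = 1 then 0 else fw V k
      have hgR : ∀ k ∈ U, (g k : ℝ) + 1 ≤ R := by
        intro k hk
        have h1 : 1 ≤ R := Real.one_le_sqrt.2 (by exact_mod_cast Nat.card_pos)
        simp only [g]
        split_ifs with hk1
        · simpa using h1
        · rcases Nat.eq_zero_or_pos (fw V k) with h0 | h0
          · simpa [h0] using h1
          · rw [hR]
            refine Real.le_sqrt_of_sq_le ?_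
            have := hkey k hk hk1 h0.ne'
            exact_mod_cast this
      have hfU : f ∈ U := hZU hfZ
      have hfj : ∀ j : ℕ, f ^ j ∈ U₀ := fun j => ⟨pow_mem hfU j,
        Subgroup.mem_centralizer_singleton_iff.2 (Commute.pow_self f j).eq⟩
      have hfour : ∀ k ∈ U₀,
          (g k : ℝ) + g (k * f) + g (k * f ^ 2) + g (k * f ^ 3) ≤ 2 * R - 2 := by
        intro k hk
        have hm : ∀ j : ℕ, k * f ^ j ∈ U₀ := fun j => mul_mem hk (hfj j)
        have hkf : Commute k f := Subgroup.mem_centralizer_singleton_iff.1 hk.2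
        -- product bound
        have hcardW : ∀ j : ℕ, g (k * f ^ j) + 1 ≤
            Nat.card ↥(V ⊓ centralizer ({k * f ^ j} : Set G)) := by
          intro j
          simp only [g]
          rw [fw_eq_card]
          split_ifs <;> omega
        have hprod : ∏ j : Fin 4, (g (k * f ^ (j : ℕ)) + 1) ≤ Nat.card V := by
          refine (Finset.prod_le_prod' fun (j : Fin 4) _ => hcardW (j : ℕ)).trans ?_
          refine (prod_card_le h.comm (fun j : Fin 4 => V ⊓ centralizer ({k * f ^ (j : ℕ)} : Set G))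
            (fun j => inf_le_left) ?_ Finset.univ).trans
            (Subgroup.card_le_of_le (Finset.sup_le fun j _ => inf_le_left))
          intro j l hne
          refine ⟨k * f ^ (j : ℕ), fun m x hx => ⟨conj_mem (hMV (hUM (hm j).1)) hx.1,
            Subgroup.mem_centralizer_singleton_iff.2 ?_⟩, fun x hx => ?_, fun x hx hbx => ?_⟩
          · have h1 := Subgroup.mem_centralizer_singleton_iff.1 hx.2
            have h2 : Commute (k * f ^ (m : ℕ)) (k * f ^ (j : ℕ)) :=
              ((Commute.refl k).mul_right (hkf.pow_right _)).mul_left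
                (((hkf.pow_right _).symm).mul_right (Commute.pow_pow (Commute.refl f) _ _))
            exact (((h2.mul_right (show Commute (k * f ^ (m : ℕ)) x from h1.symm)).mul_right
              h2.inv_right).symm).eq
          · exact (Subgroup.mem_centralizer_singleton_iff.1 hx.2).symm
          · by_contra hx1
            have h1 : Commute (k * f ^ (l : ℕ)) x :=
              (Subgroup.mem_centralizer_singleton_iff.1 hx.2).symm
            have h2 : Commute (k * f ^ (j : ℕ)) x := hbx
            have h3 : Commute ((k * f ^ (l : ℕ))⁻¹ * (k * f ^ (j : ℕ))) x := h1.inv_left.mul_left h2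
            have e3 : (k * f ^ (l : ℕ))⁻¹ * (k * f ^ (j : ℕ)) = (f ^ (l : ℕ))⁻¹ * f ^ (j : ℕ) := by
              group
            rw [e3] at h3
            have hd := hfpf Z hZU hMZ hZc ((f ^ (l : ℕ))⁻¹ * f ^ (j : ℕ))
              (mul_mem (inv_mem (pow_mem hfZ _)) (pow_mem hfZ _)) (by
                rw [Ne, inv_mul_eq_one]
                intro e4
                exact hne (Fin.ext (pow_injOn_Iio_orderOf (by simp [hfo]) (by simp [hfo]) e4.symm)))
            rw [fw, Finset.card_eq_zero, Finset.filter_eq_empty_iff] at hd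
            exact hd (Finset.mem_univ x) ⟨hx.1, hx1, h3.eq⟩
        simp only [Fin.prod_univ_four, Fin.val_zero, Fin.val_one, Fin.val_two, pow_zero, mul_one,
          pow_one, show ((3 : Fin 4) : ℕ) = 3 from rfl] at hprod
        have hb := four_bound (a := (g k : ℝ) + 1) (b := (g (k * f) : ℝ) + 1)
          (c := (g (k * f ^ 2) : ℝ) + 1) (d := (g (k * f ^ 3) : ℝ) + 1) (R := R)
          (by simp) (by simp) (by simp) (by simp) (hgR k hk.1)
          (hgR _ (by simpa using (hm 1).1)) (hgR _ (hm 2).1) (hgR _ (hm 3).1) (by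
            rw [hR2, ← mul_assoc]
            exact_mod_cast hprod)
        linarith
      have hsum : ∀ j : ℕ, ∑ k ∈ Finset.univ.filter (fun k => k ∈ U₀), (g (k * f ^ j) : ℝ) =
          (S : ℝ) := by
        intro j
        have e1 : ∑ k ∈ Finset.univ.filter (fun k => k ∈ U₀), (g (k * f ^ j) : ℝ) =
            ∑ k ∈ Finset.univ.filter (fun k => k ∈ U₀), (g k : ℝ) := by
          refine Finset.sum_nbij' (fun k => k * f ^ j) (fun k => k * (f ^ j)⁻¹) ?_ ?_ ?_ ?_ ?_
          · intro k hk; simp at hk ⊢; exact mul_mem hk (hfj j)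
          · intro k hk; simp at hk ⊢; exact mul_mem hk (inv_mem (hfj j))
          · intro k _; simp
          · intro k _; simp
          · intro k _; rfl
        rw [e1, hSdef, Nat.cast_sum, Finset.sum_filter, Finset.sum_filter]
        refine Finset.sum_congr rfl fun k _ => ?_
        simp only [g]
        by_cases hk1 : k = 1 <;> simp [hk1]
      have h4 : 4 * (S : ℝ) ≤ (Nat.card U₀ : ℝ) * (2 * R - 2) := by
        have hs := Finset.sum_le_sum (s := Finset.univ.filter (fun k => k ∈ U₀))
          fun k hk => hfour k (Finset.mem_filter.1 hk).2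
        rw [Finset.sum_add_distrib, Finset.sum_add_distrib, Finset.sum_add_distrib,
          Finset.sum_const, card_filter_mem, nsmul_eq_mul] at hs
        have s0 := hsum 0
        have s1 := hsum 1
        have s2 := hsum 2
        have s3 := hsum 3
        simp only [pow_zero, mul_one, pow_one] at s0 s1
        linarith
      have h5 : D.index * Nat.card U₀ ≤ 2 * S := by
        refine Nat.le_of_mul_le_mul_right ?_ hwpos
        calc D.index * Nat.card U₀ * wt U₀ v ≤ S * (wt U₀ v + 1) := hcore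
          _ ≤ S * (2 * wt U₀ v) := Nat.mul_le_mul_left _ (by omega)
          _ = 2 * S * wt U₀ v := by ring
      have h6 : (D.index : ℝ) * Nat.card U₀ ≤ 2 * S := by exact_mod_cast h5
      have hU0pos : (0 : ℝ) < Nat.card U₀ := by exact_mod_cast Nat.card_pos
      have h7 : (D.index : ℝ) + 1 ≤ R := by nlinarith
      refine hgoal ?_
      have h8 : ((D.index : ℝ) + 1) ^ 2 ≤ (Nat.card V : ℝ) := by
        rw [← hR2]; nlinarith
      exact_mod_cast h8
  -- `Z` has order two
  push Not at hZ4
  have hZ2 : ∀ a ∈ Z, a = 1 ∨ a = z := by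
    intro a ha
    have := mem_zpowers_of_cyclic hZcyc hzZ hzo ha (by rw [pow_two]; exact hZ4 a ha)
    obtain ⟨k, hk, rfl⟩ := (IsOfFinOrder.mem_powers_iff_mem_zpowers
      (isOfFinOrder_of_finite z)).2 this |> fun ⟨k, hk⟩ =>
        (⟨k % 2, Nat.mod_lt _ two_pos, by rw [← hzo, pow_mod_orderOf]; exact hk⟩ :
          ∃ k, k < 2 ∧ z ^ k = a)
    interval_cases k <;> simp
  have hzz : z * z = 1 := hZ4 z hzZ
  have hzE : z ∈ E := hzZ.1
  have hzcE : ∀ c ∈ E, c * z = z * c := fun c hc => hzc c (hEU hc) z (mem_zpowers z)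
  have hcomm2 : ∀ c ∈ E, ∀ d ∈ E, c * d = d * c ∨ c * d = z * (d * c) := by
    intro c hc d hd
    rcases hZ2 _ (hUE d (hEU hd) c hc) with e | e
    · left
      calc c * d = (c * d * c⁻¹ * d⁻¹) * (d * c) := by group
        _ = d * c := by rw [e, one_mul]
    · right
      calc c * d = (c * d * c⁻¹ * d⁻¹) * (d * c) := by group
        _ = z * (d * c) := by rw [e]
  have hsq : ∀ c ∈ E, c * c = 1 ∨ c * c = z := by
    intro c hc
    refine hZ2 _ ⟨mul_mem hc hc, Subgroup.mem_centralizer_iff.2 fun d hd => ?_⟩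
    rcases hcomm2 d hd c hc with e | e
    · exact ((show Commute d c from e).mul_right e).eq
    · calc d * (c * c) = (d * c) * c := by group
        _ = z * (c * d) * c := by rw [e]
        _ = z * c * (d * c) := by group
        _ = z * c * (z * (c * d)) := by rw [e]
        _ = (z * z) * (c * c * d) := by
          rw [show z * c * (z * (c * d)) = z * (c * z) * (c * d) by group, hzcE c hc]; group
        _ = c * c * d := by rw [hzz, one_mul]
  by_cases hinv : ∃ u ∈ E, u * u = 1 ∧ u ≠ 1 ∧ u ≠ z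
  · obtain ⟨u, hu, huu, hu1, huz⟩ := hinv
    -- involutions outside the centre fix vectors
    have hfix : ∀ a ∈ E, a * a = 1 → a ≠ 1 → a ≠ z → fw V a ≠ 0 := by
      intro a ha haa ha1 haz hf
      rw [fw, Finset.card_eq_zero, Finset.filter_eq_empty_iff] at hf
      have hinvA : ∀ b ∈ U, b * b = 1 → (∀ v ∈ V, b * v = v * b → v = 1) →
          ∀ v ∈ V, b * v * b⁻¹ = v⁻¹ := fun b hb hbb hbf v hv =>
        inv_of_fixed h.comm hbb (fun w hw => conj_mem (hMV (hUM hb)) hw) hbf hv
      have h1 := hinvA a (hEU ha) haa fun v hv hc => by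
        by_contra hv1
        exact hf (Finset.mem_univ v) ⟨hv, hv1, hc⟩
      have h2 := hinvA z (hZU hzZ) hzz fun v hv hc => hzf z (mem_zpowers z) hz1 v hv hc
      have h3 : a * z ∈ U ⊓ centralizer (V : Set G) := by
        refine ⟨mul_mem (hEU ha) (hZU hzZ), Subgroup.mem_centralizer_iff.2 fun v hv => ?_⟩
        have e1 : a * z * v * (a * z)⁻¹ = v := by
          calc a * z * v * (a * z)⁻¹ = a * (z * v * z⁻¹) * a⁻¹ := by group
            _ = a * v⁻¹ * a⁻¹ := by rw [h2 v hv]
            _ = v := by rw [h1 _ (inv_mem hv), inv_inv]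
        calc v * (a * z) = a * z * v * (a * z)⁻¹ * (a * z) := by rw [e1]
          _ = a * z * v := by group
      rw [hUf, Subgroup.mem_bot] at h3
      exact haz (by
        calc a = a * (z * z) := by rw [hzz, mul_one]
          _ = (a * z) * z := by group
          _ = z := by rw [h3, one_mul])
    -- elements moving `u`
    set C := E ⊓ centralizer ({u} : Set G) with hC
    set out := Finset.univ.filter (fun x => x ∈ E ∧ x ∉ C) with hout
    set I := Finset.univ.filter (fun x => x ∈ E ∧ x * x = 1 ∧ x ≠ 1 ∧ x ≠ z) with hI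
    have houtanti : ∀ x ∈ E, x ∉ C → x * u = z * (u * x) := fun x hx hx' =>
      (hcomm2 x hx u hu).resolve_left fun e => hx' ⟨hx, Subgroup.mem_centralizer_singleton_iff.2 e⟩
    obtain ⟨x₀, hx₀, hx₀C⟩ : ∃ x ∈ E, x ∉ C := by
      by_contra hcon
      push Not at hcon
      rcases hZ2 u ⟨hu, Subgroup.mem_centralizer_iff.2 fun x hx =>
        Subgroup.mem_centralizer_singleton_iff.1 (hcon x hx).2⟩ with e | e
      · exact hu1 e
      · exact huz e
    have hidx : ∀ x ∈ E, x ∉ C → ∀ y ∈ E, y ∉ C → x * y⁻¹ ∈ C := by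
      intro x hx hxC y hy hyC
      refine ⟨E.mul_mem hx (E.inv_mem hy), Subgroup.mem_centralizer_singleton_iff.2 ?_⟩
      have h1 := houtanti x hx hxC
      have h2 : y⁻¹ * u = z * (u * y⁻¹) := by
        have e := houtanti y hy hyC
        calc y⁻¹ * u = y⁻¹ * (z * z) * (u * y) * y⁻¹ := by rw [hzz]; group
          _ = y⁻¹ * z * (z * (u * y)) * y⁻¹ := by group
          _ = (y⁻¹ * z * y) * u * y⁻¹ := by rw [← e]; group
          _ = z * (u * y⁻¹) := by
            rw [show y⁻¹ * z * y = y⁻¹ * (z * y) by group, ← hzcE y hy]; group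
      calc x * y⁻¹ * u = x * (y⁻¹ * u) := by group
        _ = (x * z) * u * y⁻¹ := by rw [h2]; group
        _ = z * (x * u) * y⁻¹ := by rw [hzcE x hx]; group
        _ = (z * z) * (u * x) * y⁻¹ := by rw [h1]; group
        _ = u * (x * y⁻¹) := by rw [hzz]; group
    have hsplit : Nat.card E = Nat.card C + out.card := by
      rw [← card_filter_mem, ← card_filter_mem, hout, ← Finset.card_union_of_disjoint]
      · congr 1
        ext x
        simp only [Finset.mem_filter, Finset.mem_union, Finset.mem_univ, true_and]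
        by_cases hx : x ∈ C
        · simp [hx, show x ∈ E from (inf_le_left : C ≤ E) hx]
        · simp [hx]
      · rw [Finset.disjoint_filter]
        intro x _ hx hx'
        exact hx'.2 hx
    have hout1 : Nat.card C ≤ out.card := by
      rw [← card_filter_mem]
      refine Finset.card_le_card_of_injOn (fun c => c * x₀) ?_ ?_
      · intro c hc
        simp only [hout, Finset.coe_filter, Finset.mem_univ, true_and, Set.mem_setOf_eq] at hc ⊢
        exact ⟨mul_mem hc.1 hx₀, fun h' => hx₀C (by
          have := mul_mem (inv_mem hc) h'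
          simpa using this)⟩
      · intro a _ b _ e
        exact mul_right_cancel e
    have hout2 : out.card ≤ Nat.card C := by
      have := card_outside_le E C inf_le_left hidx
      rw [← hout] at this
      omega
    have hI2 : 2 * (I.filter fun x => x ∉ C).card ≤ out.card := by
      have hd : Disjoint (I.filter fun x => x ∉ C) ((I.filter fun x => x ∉ C).image (· * u)) := by
        rw [Finset.disjoint_left]
        intro x hx hx'
        obtain ⟨y, hy, e⟩ := Finset.mem_image.1 hx'
        simp only [hI, Finset.mem_filter, Finset.mem_univ, true_and] at hx hy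
        have e2 : (y * u) * (y * u) = z := by
          calc (y * u) * (y * u) = y * (u * y) * u := by group
            _ = y * (z * z) * (u * y) * u := by rw [hzz]; group
            _ = (y * z) * (z * (u * y)) * u := by group
            _ = (z * y) * (y * u) * u := by rw [← houtanti y hy.1.1 hy.2, hzcE y hy.1.1]
            _ = z * (y * y) * (u * u) := by group
            _ = z := by rw [hy.1.2.1, huu, mul_one, mul_one]
        rw [e, hx.1.2.1] at e2
        exact hz1 e2.symm
      have hsub : (I.filter fun x => x ∉ C) ∪ (I.filter fun x => x ∉ C).image (· * u) ⊆ out := by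
        intro x hx
        simp only [hout, Finset.mem_filter, Finset.mem_univ, true_and]
        rcases Finset.mem_union.1 hx with hx | hx
        · simp only [hI, Finset.mem_filter, Finset.mem_univ, true_and] at hx
          exact ⟨hx.1.1, hx.2⟩
        · obtain ⟨y, hy, rfl⟩ := Finset.mem_image.1 hx
          simp only [hI, Finset.mem_filter, Finset.mem_univ, true_and] at hy
          refine ⟨mul_mem hy.1.1 hu, fun h' => hy.2 ?_⟩
          have := mul_mem h' (inv_mem (⟨hu, Subgroup.mem_centralizer_singleton_iff.2 rfl⟩ : u ∈ C))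
          simpa using this
      have := Finset.card_le_card hsub
      rw [Finset.card_union_of_disjoint hd, Finset.card_image_of_injective _
        (mul_left_injective u)] at this
      omega
    have hIsum : I.card = (I.filter fun x => x ∈ C).card + (I.filter fun x => x ∉ C).card :=
      (Finset.card_filter_add_card_filter_not (s := I) _).symm
    have hIC : (I.filter fun x => x ∈ C).card + 2 ≤ Nat.card C := by
      have hd : Disjoint (I.filter fun x => x ∈ C) ({1, z} : Finset G) := by
        rw [Finset.disjoint_left]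
        intro x hx
        simp only [hI, Finset.mem_filter, Finset.mem_univ, true_and] at hx
        simp [hx.1.2.2.1, hx.1.2.2.2]
      have hsub : (I.filter fun x => x ∈ C) ∪ {1, z} ⊆ Finset.univ.filter (fun x => x ∈ C) := by
        intro x hx
        simp only [Finset.mem_union, Finset.mem_filter, Finset.mem_insert,
          Finset.mem_singleton] at hx
        simp only [Finset.mem_filter, Finset.mem_univ, true_and]
        rcases hx with hx | rfl | rfl
        · exact hx.2
        · exact one_mem _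
        · exact ⟨hzE, Subgroup.mem_centralizer_singleton_iff.2 (hzcE u hu).symm⟩
      have := Finset.card_le_card hsub
      rw [Finset.card_union_of_disjoint hd, card_filter_mem, Finset.card_insert_of_notMem
        (by simp [Ne.symm hz1]), Finset.card_singleton] at this
      omega
    have hS : ∑ k ∈ Finset.univ.filter (fun k => k ∈ E ∧ k ≠ 1), fw V k ≤ I.card * ρ := by
      refine sum_fw_le I (fun k hk => by simp at hk; exact hρ k (hEU hk.1) hk.2) fun k hk hkf => ?_
      simp only [hI, Finset.mem_filter, Finset.mem_univ, true_and] at hk ⊢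
      have hkk : k * k = 1 := (hsq k hk.1).resolve_right fun e => hkf (by
        have h1 := fw_le_pow (V := V) (h := k) 2
        rw [pow_two, e, hfpf Z hZU hMZ hZc z hzZ hz1] at h1
        omega)
      refine ⟨hk.1, hkk, hk.2, fun e => hkf ?_⟩
      rw [e]
      exact hfpf Z hZU hMZ hZc z hzZ hz1
    obtain ⟨v, hv, hv1, huv⟩ := exists_fixed_of_fw (hfix u hu huu hu1 huz)
    refine hgoal (le_sq_of_two ?_ hρ2)
    by_cases hpair : ∃ x ∈ I, x ∈ C ∧ x ≠ u ∧ x ≠ u * z
    · obtain ⟨x, hxI, hxC, hxu, hxuz⟩ := hpair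
      simp only [hI, Finset.mem_filter, Finset.mem_univ, true_and] at hxI
      obtain ⟨hxE, hxx, hx1, hxz⟩ := hxI
      have hxu' : x * u = u * x := Subgroup.mem_centralizer_singleton_iff.1 hxC.2
      obtain ⟨w, b, hw, hw1, huw, hb, hb1, hbu, hbw⟩ : ∃ w b : G, w ∈ V ∧ w ≠ 1 ∧ u * w = w * u ∧
          b ∈ E ∧ b ≠ 1 ∧ b ≠ u ∧ b * w = w * b := by
        by_cases hex' : ∃ w ∈ V, w ≠ 1 ∧ u * w = w * u ∧ x * w = w * x
        · obtain ⟨w, hw, hw1, h1, h2⟩ := hex'
          exact ⟨w, x, hw, hw1, h1, hxE, hx1, hxu, h2⟩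
        push Not at hex'
        refine ⟨v, x * z, hv, hv1, huv, mul_mem hxE hzE, ?_, ?_, ?_⟩
        · intro e
          exact hxz (by
            calc x = x * (z * z) := by rw [hzz, mul_one]
              _ = (x * z) * z := by group
              _ = z := by rw [e, one_mul])
        · intro e
          exact hxuz (by
            calc x = x * (z * z) := by rw [hzz, mul_one]
              _ = (x * z) * z := by group
              _ = u * z := by rw [e])
        · set W := V ⊓ centralizer ({u} : Set G) with hW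
          have hWc : ∀ a ∈ W, ∀ b ∈ W, a * b = b * a := fun a ha b hb => h.comm a ha.1 b hb.1
          have hWinv : ∀ b ∈ E, b * u = u * b → ∀ w ∈ W, b * w * b⁻¹ ∈ W := by
            intro b hb hbu w hw
            refine ⟨conj_mem (hMV (hUM (hEU hb))) hw.1,
              Subgroup.mem_centralizer_singleton_iff.2 ?_⟩
            have h1 : Commute u w := (Subgroup.mem_centralizer_singleton_iff.1 hw.2).symm
            have h2 : Commute u b := (show Commute b u from hbu).symm
            exact ((h2.mul_right h1).mul_right h2.inv_right).symm.eq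
          have hvW : v ∈ W := ⟨hv, Subgroup.mem_centralizer_singleton_iff.2 huv.symm⟩
          have h1 : ∀ {w : G}, w ∈ W → x * w * x⁻¹ = w⁻¹ := fun {w} hw0 =>
            inv_of_fixed hWc hxx (hWinv x hxE hxu') (fun w hw hc => by
              by_contra hw1
              exact hex' w hw.1 hw1 (Subgroup.mem_centralizer_singleton_iff.1 hw.2).symm hc) hw0
          have h2 : ∀ {w : G}, w ∈ W → z * w * z⁻¹ = w⁻¹ := fun {w} hw0 =>
            inv_of_fixed hWc hzz (hWinv z hzE (hzcE u hu).symm)
              (fun w hw hc => hzf z (mem_zpowers z) hz1 w hw.1 hc) hw0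
          calc x * z * v = x * (z * v * z⁻¹) * x⁻¹ * (x * z) := by group
            _ = x * v⁻¹ * x⁻¹ * (x * z) := by rw [h2 hvW]
            _ = v * (x * z) := by rw [h1 (inv_mem hvW), inv_inv]
      have hub : u * b ≠ 1 := fun e => hbu (by
        calc b = (u * u) * b := by rw [huu, one_mul]
          _ = u * (u * b) := by group
          _ = u := by rw [e, mul_one])
      have hwt3 : 3 ≤ wt E w := by
        have hsub : ({u, b, u * b} : Finset G) ⊆
            Finset.univ.filter fun a => a ∈ E ∧ a ≠ 1 ∧ a * w = w * a := by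
          intro a ha
          simp only [Finset.mem_insert, Finset.mem_singleton] at ha
          simp only [Finset.mem_filter, Finset.mem_univ, true_and]
          rcases ha with rfl | rfl | rfl
          · exact ⟨hu, hu1, huw⟩
          · exact ⟨hb, hb1, hbw⟩
          · exact ⟨mul_mem hu hb, hub, (show Commute u w from huw).mul_left hbw⟩
        refine le_trans (le_of_eq ?_) (Finset.card_le_card hsub)
        rw [Finset.card_insert_of_notMem, Finset.card_insert_of_notMem, Finset.card_singleton]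
        · simp only [Finset.mem_singleton]
          intro e
          exact hu1 (right_eq_mul.1 e)
        · simp only [Finset.mem_insert, Finset.mem_singleton, not_or]
          refine ⟨Ne.symm hbu, fun e => hb1 ?_⟩
          exact (left_eq_mul.1 e)
      have hcore := h.core (hEU.trans hU) hME hw hw1
      have hI3 : 4 * I.card ≤ 3 * Nat.card E := by omega
      refine Nat.le_of_mul_le_mul_left ?_
        (show 0 < 3 * Nat.card E * wt E w from
          Nat.mul_pos (Nat.mul_pos (by norm_num) Nat.card_pos) (by omega))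
      calc 3 * Nat.card E * wt E w * D.index = 3 * (D.index * Nat.card E * wt E w) := by ring
        _ ≤ 3 * (I.card * ρ * (wt E w + 1)) :=
          Nat.mul_le_mul_left _ (hcore.trans (Nat.mul_le_mul_right _ hS))
        _ = I.card * ρ * (3 * (wt E w + 1)) := by ring
        _ ≤ I.card * ρ * (4 * wt E w) := Nat.mul_le_mul_left _ (by omega)
        _ = 4 * I.card * wt E w * ρ := by ring
        _ ≤ _ := Nat.mul_le_mul_right _ (Nat.mul_le_mul_right _ hI3)
    · push Not at hpair
      have hsub : (I.filter fun x => x ∈ C) ⊆ {u, u * z} := by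
        intro x hx
        simp only [Finset.mem_filter] at hx
        simp only [Finset.mem_insert, Finset.mem_singleton]
        by_cases e : x = u
        · exact Or.inl e
        · exact Or.inr (hpair x hx.1 hx.2 e)
      have h2 : (I.filter fun x => x ∈ C).card ≤ 2 :=
        (Finset.card_le_card hsub).trans Finset.card_le_two
      have h4 : 4 ≤ Nat.card C := by
        rw [← card_filter_mem]
        have hsub' : ({1, z, u, u * z} : Finset G) ⊆ Finset.univ.filter (fun x => x ∈ C) := by
          intro x hx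
          simp only [Finset.mem_insert, Finset.mem_singleton] at hx
          simp only [Finset.mem_filter, Finset.mem_univ, true_and]
          have hzC : z ∈ C := ⟨hzE, Subgroup.mem_centralizer_singleton_iff.2 (hzcE u hu).symm⟩
          have huC : u ∈ C := ⟨hu, Subgroup.mem_centralizer_singleton_iff.2 rfl⟩
          rcases hx with rfl | rfl | rfl | rfl
          exacts [one_mem _, hzC, huC, mul_mem huC hzC]
        refine le_trans (le_of_eq ?_) (Finset.card_le_card hsub')
        rw [Finset.card_insert_of_notMem, Finset.card_insert_of_notMem,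
          Finset.card_insert_of_notMem, Finset.card_singleton]
        · simp only [Finset.mem_singleton]
          exact fun e => hz1 (left_eq_mul.1 e)
        · simp only [Finset.mem_insert, Finset.mem_singleton, not_or]
          exact ⟨Ne.symm huz, fun e => hu1 (right_eq_mul.1 e)⟩
        · simp only [Finset.mem_insert, Finset.mem_singleton, not_or]
          refine ⟨Ne.symm hz1, Ne.symm hu1, fun e => huz ?_⟩
          calc u = u * (z * z) := by rw [hzz, mul_one]
            _ = (u * z) * z := by group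
            _ = z := by rw [← e, one_mul]
      have hI3 : 2 * I.card ≤ Nat.card E := by omega
      have hcore := h.core (hEU.trans hU) hME hv hv1
      have hwpos := hwt E v u hu hu1 huv
      refine Nat.le_of_mul_le_mul_left ?_
        (show 0 < Nat.card E * wt E v from Nat.mul_pos Nat.card_pos hwpos)
      calc Nat.card E * wt E v * D.index = D.index * Nat.card E * wt E v := by ring
        _ ≤ _ := hcore.trans (Nat.mul_le_mul_right _ hS)
        _ ≤ I.card * ρ * (2 * wt E v) := Nat.mul_le_mul_left _ (by omega)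
        _ = 2 * I.card * wt E v * ρ := by ring
        _ ≤ _ := Nat.mul_le_mul_right _ (Nat.mul_le_mul_right _ hI3)
  -- `E` is the quaternion group and equal to `U`
  push Not at hinv
  obtain ⟨g₀, hg₀, hg₀o, hg₀f⟩ : ∃ g ∈ U, orderOf g = 2 ∧ fw V g ≠ 0 := by
    obtain ⟨m, hm⟩ := exists_power_order hq hk₀ hk₀1
    have := fw_le_pow (V := V) (h := k₀) m
    exact ⟨_, pow_mem hk₀ m, hm, by omega⟩
  have hg₀z : g₀ ≠ z := fun e => hg₀f (e ▸ hfpf Z hZU hMZ hZc z hzZ hz1)
  have hg₀E : g₀ ∈ E → False := by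
    intro hg
    have hg1 : g₀ ≠ 1 := fun e => by simp [e] at hg₀o
    exact hg₀z (hinv g₀ hg (by rw [← pow_two, ← hg₀o, pow_orderOf_eq_one]) hg1)
  obtain ⟨a, ha, haZ⟩ : ∃ a ∈ E, a ∉ Z := by
    by_contra hcon
    push Not at hcon
    refine hg₀E (hCE g₀ hg₀ fun c hc => ?_)
    rcases hZ2 c (hcon c hc) with e | e <;> rw [e]
    · simp
    · exact (hzc g₀ hg₀ z (mem_zpowers z)).symm
  obtain ⟨b, hb, hba⟩ : ∃ b ∈ E, b * a ≠ a * b := by
    by_contra hcon
    push Not at hcon
    exact haZ ⟨ha, Subgroup.mem_centralizer_iff.2 hcon⟩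
  have hsqz : ∀ x ∈ E, x ∉ Z → x * x = z := by
    intro x hx hxZ
    refine (hsq x hx).resolve_left fun e => ?_
    by_cases hx1 : x = 1
    · exact hxZ (hx1 ▸ one_mem _)
    · exact hxZ (hinv x hx e hx1 ▸ hzZ)
  have hCa : ∀ x ∈ E, x * a = a * x → x ∈ Z ∨ x * a ∈ Z := by
    intro x hx hxa
    by_contra hcon
    push Not at hcon
    have h1 : (x * a) * (x * a) = 1 := by
      calc (x * a) * (x * a) = x * (a * x) * a := by group
        _ = (x * x) * (a * a) := by rw [← hxa]; group
        _ = 1 := by rw [hsqz x hx hcon.1, hsqz a ha haZ, hzz]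
    rw [hsqz _ (mul_mem hx ha) hcon.2] at h1
    exact hz1 h1
  have hanti : ∀ c ∈ E, ∀ d ∈ E, c * d ≠ d * c → c * d * c⁻¹ = z * d := by
    intro c hc d hd hne
    rw [(hcomm2 c hc d hd).resolve_left hne]; group
  -- automorphisms centralising `E / Z` are inner
  obtain ⟨e, he, hea, heb⟩ : ∃ e ∈ E, e * a * e⁻¹ = g₀ * a * g₀⁻¹ ∧
      e * b * e⁻¹ = g₀ * b * g₀⁻¹ := by
    have hga : g₀ * a * g₀⁻¹ = a ∨ g₀ * a * g₀⁻¹ = z * a := by
      rcases hZ2 _ (hUE g₀ hg₀ a ha) with h1 | h1
      · left
        calc g₀ * a * g₀⁻¹ = (a * g₀ * a⁻¹ * g₀⁻¹)⁻¹ * a := by group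
          _ = a := by rw [h1]; group
      · right
        calc g₀ * a * g₀⁻¹ = (a * g₀ * a⁻¹ * g₀⁻¹)⁻¹ * a := by group
          _ = z * a := by rw [h1, inv_eq_of_mul_eq_one_right hzz]
    have hgb : g₀ * b * g₀⁻¹ = b ∨ g₀ * b * g₀⁻¹ = z * b := by
      rcases hZ2 _ (hUE g₀ hg₀ b hb) with h1 | h1
      · left
        calc g₀ * b * g₀⁻¹ = (b * g₀ * b⁻¹ * g₀⁻¹)⁻¹ * b := by group
          _ = b := by rw [h1]; group
      · right
        calc g₀ * b * g₀⁻¹ = (b * g₀ * b⁻¹ * g₀⁻¹)⁻¹ * b := by group
          _ = z * b := by rw [h1, inv_eq_of_mul_eq_one_right hzz]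
    have eab : a * b * a⁻¹ = z * b := hanti a ha b hb (Ne.symm hba)
    have eba : b * a * b⁻¹ = z * a := hanti b hb a ha hba
    rcases hga with h1 | h1 <;> rcases hgb with h2 | h2 <;> rw [h1, h2]
    · exact ⟨1, one_mem _, by group, by group⟩
    · exact ⟨a, ha, by group, eab⟩
    · exact ⟨b, hb, eba, by group⟩
    · refine ⟨a * b, mul_mem ha hb, ?_, ?_⟩
      · calc a * b * a * (a * b)⁻¹ = a * (b * a * b⁻¹) * a⁻¹ := by group
          _ = z * a := by
            rw [eba, show a * (z * a) * a⁻¹ = a * z by group, hzcE a ha]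
      · calc a * b * b * (a * b)⁻¹ = a * b * a⁻¹ := by group
          _ = z * b := eab
  -- the element `e⁻¹ g₀` centralises `E`
  refine hg₀E ?_
  have hmem : e⁻¹ * g₀ ∈ U := mul_mem (inv_mem (hEU he)) hg₀
  have hfx : ∀ c : G, e * c * e⁻¹ = g₀ * c * g₀⁻¹ → Commute (e⁻¹ * g₀) c := by
    intro c hc
    show e⁻¹ * g₀ * c = c * (e⁻¹ * g₀)
    calc e⁻¹ * g₀ * c = e⁻¹ * (g₀ * c * g₀⁻¹) * g₀ := by group
      _ = e⁻¹ * (e * c * e⁻¹) * g₀ := by rw [hc]
      _ = c * (e⁻¹ * g₀) := by group
  have hA := hfx a hea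
  have hB := hfx b heb
  have hZcom : ∀ c ∈ Z, Commute (e⁻¹ * g₀) c := by
    intro c hc
    rcases hZ2 c hc with e' | e' <;> rw [e']
    · exact Commute.one_right _
    · exact hzc _ hmem z (mem_zpowers z)
  have hcen : ∀ c ∈ E, c * a = a * c → Commute (e⁻¹ * g₀) c := by
    intro c hc hca
    rcases hCa c hc hca with h1 | h1
    · exact hZcom c h1
    · simpa [mul_assoc] using (hZcom _ h1).mul_right hA.inv_right
  have hall : ∀ c ∈ E, Commute (e⁻¹ * g₀) c := by
    intro c hc
    by_cases hca : c * a = a * c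
    · exact hcen c hc hca
    · have h1 : (c * b⁻¹) * a = a * (c * b⁻¹) := by
        have e1 : c * a = z * (a * c) := (hcomm2 c hc a ha).resolve_left hca
        have e2 := hanti b hb a ha hba
        calc c * b⁻¹ * a = c * a * (a⁻¹ * b⁻¹ * a) := by group
          _ = z * (a * c) * (a⁻¹ * b⁻¹ * a) := by rw [e1]
          _ = a * c * (z * (a⁻¹ * b⁻¹ * a)) := by
            rw [show a * c * (z * (a⁻¹ * b⁻¹ * a)) = a * c * z * (a⁻¹ * b⁻¹ * a) by group,
              hzcE (a * c) (mul_mem ha hc)]
          _ = a * c * b⁻¹ * ((b * z * b⁻¹) * ((b * a⁻¹ * b⁻¹) * a)) := by group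
          _ = a * c * b⁻¹ * (z * ((b * a * b⁻¹)⁻¹ * a)) := by rw [hzcE b hb]; group
          _ = a * c * b⁻¹ * (z * ((a⁻¹ * z⁻¹) * a)) := by rw [e2]; group
          _ = a * (c * b⁻¹) := by
            rw [inv_eq_of_mul_eq_one_right hzz, show a⁻¹ * z * a = a⁻¹ * (z * a) by group,
              ← hzcE a ha, inv_mul_cancel_left, hzz]
            group
      simpa [mul_assoc] using (hcen _ (mul_mem hc (inv_mem hb)) h1).mul_right hB
  have := mul_mem he (hCE _ hmem fun c hc => (hall c hc).symm.eq)
  simpa using this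

end Cfsg.Agent.DerangeIndex
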