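import Cfsg.Agent.Lib.DerangementSubgroup

/-!
# Subgroups covering the quotient by the subgroup generated by the derangements

If the index `i` of the subgroup generated by the derangements exceeds `√n - 1`, then `n` is a
power of a prime and the derangement subgroup has a regular Sylow subgroup.
-/

set_option autoImplicit false
set_option linter.all false

namespace Cfsg.Agent.DerangeIndex

open Subgroup MulAction DerangementSubgroup
open scoped Classical

variable {G Ω : Type*} [Group G] [MulAction G Ω] [Finite G] [Finite Ω] [IsPretransitive G Ω]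

theorem cover_relIndex {M : Subgroup G} (hM : M ⊔ derSub G Ω = ⊤) :
    (derSub G Ω).relIndex M = (derSub G Ω).index := by
  haveI := derSub_normal (G := G) (Ω := Ω)
  rw [← Subgroup.relIndex_sup_right, hM, Subgroup.relIndex_top_right]

theorem cover_card {M : Subgroup G} (hM : M ⊔ derSub G Ω = ⊤) :
    Nat.card M = (derSub G Ω).index * Nat.card ↥(M ⊓ derSub G Ω) := by
  have h2 := ((derSub G Ω).subgroupOf M).card_mul_index
  have h3 : Nat.card ↥((derSub G Ω).subgroupOf M) = Nat.card ↥(M ⊓ derSub G Ω) := by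
    rw [← Subgroup.inf_subgroupOf_left (derSub G Ω) M]
    exact Nat.card_congr (Subgroup.subgroupOfEquivOfLe inf_le_left).toEquiv
  rw [h3] at h2
  rw [← h2, ← cover_relIndex hM]
  exact mul_comm _ _

theorem stab_cover (a : Ω) : stabilizer G a ⊔ derSub G Ω = ⊤ := by
  haveI := derSub_normal (G := G) (Ω := Ω)
  haveI := pretransitive (G := G) (Ω := Ω)
  rw [eq_top_iff]
  intro g _
  obtain ⟨d, hd⟩ := exists_smul_eq (derSub G Ω) (g • a) a
  have h : ((d : G) * g) ∈ stabilizer G a := by
    rw [mem_stabilizer_iff, mul_smul]; exact hd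
  have e : g = (d : G)⁻¹ * ((d : G) * g) := by group
  rw [e]
  exact mul_mem (Subgroup.mem_sup_right (inv_mem d.2)) (Subgroup.mem_sup_left h)

/-- divisibility for invariant sets avoiding the fixed point -/
theorem dvd_of_notMem {M : Subgroup G} (hM : M ⊔ derSub G Ω = ⊤) {a : Ω} (ha : M ≤ stabilizer G a)
    {S : Set Ω} (hα : a ∉ S) (hS : ∀ g ∈ M, ∀ x ∈ S, g • x ∈ S) :
    (derSub G Ω).index ∣ S.ncard := by
  let T : SubMulAction M Ω := ⟨S, fun g x hx => hS g g.2 x hx⟩
  rw [show S.ncard = Nat.card T from (Nat.card_coe_set_eq S).symm]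
  haveI : Finite T := inferInstanceAs (Finite S)
  haveI : Fintype T := Fintype.ofFinite _
  haveI : Fintype (Quotient (orbitRel M T)) := Fintype.ofFinite _
  rw [Nat.card_congr (selfEquivSigmaOrbits M T), Nat.card_sigma]
  refine Finset.dvd_sum fun ω _ => ?_
  have hne : ((ω.out : T) : Ω) ≠ a := fun h => hα (h ▸ (ω.out).2)
  have h : (derSub G Ω).index ∣ Nat.card (orbit M ((ω.out : T) : Ω)) := by
    rw [← cover_relIndex hM, Nat.card_coe_set_eq, ← index_stabilizer]
    refine Subgroup.index_dvd_of_le fun h hh => ?_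
    exact mem_of_fixes_two hne.symm (ha h.2) hh
  rwa [← SubMulAction.val_image_orbit, Nat.card_image_of_injective Subtype.val_injective] at h

/-- divisibility for invariant sets containing the fixed point -/
theorem dvd_of_mem {M : Subgroup G} (hM : M ⊔ derSub G Ω = ⊤) {a : Ω} (ha : M ≤ stabilizer G a)
    {S : Set Ω} (hα : a ∈ S) (hS : ∀ g ∈ M, ∀ x ∈ S, g • x ∈ S) :
    (derSub G Ω).index ∣ S.ncard - 1 := by
  rw [← Set.ncard_sdiff_singleton_of_mem hα]
  refine dvd_of_notMem hM ha (by simp) fun g hg x hx => ?_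
  refine ⟨hS g hg x hx.1, fun h => hx.2 ?_⟩
  rw [Set.mem_singleton_iff] at h ⊢
  calc x = g⁻¹ • (g • x) := (inv_smul_smul g x).symm
    _ = a := by rw [h, inv_smul_eq_iff]; exact (ha hg).symm

/-- a covering subgroup has a covering point stabiliser -/
theorem exists_point {M : Subgroup G} (hM : M ⊔ derSub G Ω = ⊤) [Nonempty Ω] :
    ∃ a : Ω, (M ⊓ stabilizer G a) ⊔ derSub G Ω = ⊤ := by
  haveI := derSub_normal (G := G) (Ω := Ω)
  haveI := Fintype.ofFinite G
  haveI := Fintype.ofFinite Ω
  set D := derSub G Ω with hD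
  by_cases hMD : M ≤ D
  · exact ⟨Classical.arbitrary Ω, by rw [sup_eq_right.2 hMD] at hM; rw [hM, sup_top_eq]⟩
  set A := Finset.univ.filter (fun x => x ∈ M ∧ x ∉ D) with hA
  let F : Ω → Finset G := fun ω => A.filter fun x => x • ω = ω
  have hdisj : ∀ ω ω' : Ω, ω ≠ ω' → Disjoint (F ω) (F ω') := by
    intro ω ω' hne
    rw [Finset.disjoint_filter]
    intro x hx h h'
    simp only [hA, Finset.mem_filter] at hx
    exact hx.2.2 (mem_of_fixes_two hne h h')
  have hcardA : A.card + Nat.card ↥(M ⊓ D) = Nat.card M := by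
    rw [Nat.card_eq_fintype_card, Nat.card_eq_fintype_card, Fintype.card_subtype,
      Fintype.card_subtype, ← Finset.card_union_of_disjoint]
    · congr 1
      ext x
      simp only [hA, Finset.mem_union, Finset.mem_filter, Finset.mem_univ, true_and,
        Subgroup.mem_inf]
      tauto
    · rw [Finset.disjoint_filter]
      intro x _ hx hx'
      exact hx.2 (Subgroup.mem_inf.1 hx').2
  -- the elements fixing a point of an orbit
  let O : Ω → Finset Ω := fun a => Finset.univ.filter fun ω => ω ∈ orbit M a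
  have hFconj : ∀ a : Ω, ∀ ω ∈ O a, (F ω).card = (F a).card := by
    intro a ω hω
    obtain ⟨⟨g, hg⟩, rfl⟩ := (Finset.mem_filter.1 hω).2
    refine Finset.card_nbij' (fun x => g⁻¹ * x * g) (fun x => g * x * g⁻¹) ?_ ?_ ?_ ?_
    · intro x hx
      simp only [F, hA, Finset.mem_coe, Finset.mem_filter, Finset.mem_univ, true_and] at hx ⊢
      refine ⟨⟨M.mul_mem (M.mul_mem (M.inv_mem hg) hx.1.1) hg, fun h => hx.1.2 ?_⟩, ?_⟩
      · have := Subgroup.Normal.conj_mem inferInstance _ h g
        simpa [mul_assoc] using this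
      · rw [mul_smul, mul_smul, inv_smul_eq_iff]; exact hx.2
    · intro x hx
      simp only [F, hA, Finset.mem_coe, Finset.mem_filter, Finset.mem_univ, true_and] at hx ⊢
      refine ⟨⟨M.mul_mem (M.mul_mem hg hx.1.1) (M.inv_mem hg), fun h => hx.1.2 ?_⟩, ?_⟩
      · have := Subgroup.Normal.conj_mem inferInstance _ h g⁻¹
        simpa [mul_assoc] using this
      · show (g * x * g⁻¹) • (g • a) = g • a
        rw [mul_smul, mul_smul, inv_smul_smul, hx.2]
    · intro x _; simp [mul_assoc]
    · intro x _; simp [mul_assoc]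
  have hFcard : ∀ a : Ω,
      (F a).card + Nat.card ↥(M ⊓ stabilizer G a ⊓ D) = Nat.card ↥(M ⊓ stabilizer G a) := by
    intro a
    rw [Nat.card_eq_fintype_card, Nat.card_eq_fintype_card, Fintype.card_subtype,
      Fintype.card_subtype, ← Finset.card_union_of_disjoint]
    · congr 1
      ext x
      simp only [F, hA, Finset.mem_union, Finset.mem_filter, Finset.mem_univ, true_and,
        Subgroup.mem_inf, mem_stabilizer_iff]
      tauto
    · rw [Finset.disjoint_left]
      intro x hx hx'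
      simp only [F, hA, Finset.mem_filter, Finset.mem_univ, true_and] at hx hx'
      exact hx.1.2 hx'.2
  have hOcard : ∀ a : Ω, (O a).card * Nat.card ↥(M ⊓ stabilizer G a) = Nat.card M := by
    intro a
    have e1 : (O a).card = (stabilizer M a).index := by
      rw [index_stabilizer, Set.ncard_eq_toFinset_card']
      congr 1
      ext ω
      simp [O]
    have e2 : Nat.card ↥(M ⊓ stabilizer G a) = Nat.card (stabilizer M a) := by
      refine Nat.card_congr
        { toFun := fun x => ⟨⟨x.1, x.2.1⟩, x.2.2⟩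
          invFun := fun y => ⟨y.1.1, y.1.2, y.2⟩
          left_inv := fun x => rfl
          right_inv := fun y => rfl }
    rw [e1, e2]
    exact Subgroup.index_mul_card _
  let B : Ω → Finset G := fun a => (O a).biUnion F
  have hBcard : ∀ a : Ω, (B a).card = (O a).card * (F a).card := by
    intro a
    rw [Finset.card_biUnion fun ω _ ω' _ h => hdisj ω ω' h, Finset.sum_congr rfl (hFconj a),
      Finset.sum_const, smul_eq_mul]
  have hBhalf : ∀ a : Ω, (F a).Nonempty → Nat.card M ≤ 2 * (B a).card := by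
    intro a ⟨x, hx⟩
    have hlt : 2 * Nat.card ↥(M ⊓ stabilizer G a ⊓ D) ≤ Nat.card ↥(M ⊓ stabilizer G a) := by
      simp only [F, hA, Finset.mem_filter, Finset.mem_univ, true_and] at hx
      have hne : M ⊓ stabilizer G a ⊓ D ≠ M ⊓ stabilizer G a := fun e =>
        hx.1.2 (e.ge ⟨hx.1.1, hx.2⟩).2
      obtain ⟨k, hk⟩ := Subgroup.card_dvd_of_le
        (inf_le_left : M ⊓ stabilizer G a ⊓ D ≤ M ⊓ stabilizer G a)
      have hk1 : k ≠ 1 := fun e => hne (Subgroup.eq_of_le_of_card_ge inf_le_left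
        (by rw [hk, e, mul_one]))
      have hk0 : k ≠ 0 := fun e => by
        have := @Nat.card_pos (↥(M ⊓ stabilizer G a)) _ _
        rw [hk, e, mul_zero] at this
        exact lt_irrefl _ this
      rw [hk, mul_comm 2]
      exact Nat.mul_le_mul_left _ (by omega)
    have h2 : Nat.card ↥(M ⊓ stabilizer G a) ≤ 2 * (F a).card := by
      have := hFcard a
      omega
    calc Nat.card M = (O a).card * Nat.card ↥(M ⊓ stabilizer G a) := (hOcard a).symm
      _ ≤ (O a).card * (2 * (F a).card) := Nat.mul_le_mul_left _ h2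
      _ = 2 * (B a).card := by rw [hBcard]; ring
  have hBA : ∀ a : Ω, B a ⊆ A := fun a => Finset.biUnion_subset.2 fun ω _ => Finset.filter_subset _ _
  obtain ⟨x₀, hx₀, hx₀D⟩ := SetLike.not_le_iff_exists.1 hMD
  obtain ⟨a, ha⟩ := exists_fixed_of_notMem hx₀D
  have hFa : (F a).Nonempty := ⟨x₀, by simp [F, hA, hx₀, hx₀D, ha]⟩
  have hAll : B a = A := by
    refine (hBA a).antisymm fun x hx => ?_
    have hx' := hx
    simp only [hA, Finset.mem_filter, Finset.mem_univ, true_and] at hx'
    obtain ⟨b, hb⟩ := exists_fixed_of_notMem hx'.2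
    by_cases hbO : b ∈ O a
    · exact Finset.mem_biUnion.2 ⟨b, hbO, Finset.mem_filter.2 ⟨hx, hb⟩⟩
    exfalso
    have hd : Disjoint (B a) (B b) := by
      rw [Finset.disjoint_biUnion_left]
      intro ω hω
      rw [Finset.disjoint_biUnion_right]
      intro ω' hω'
      refine hdisj ω ω' fun e => hbO ?_
      subst e
      simp only [O, Finset.mem_filter, Finset.mem_univ, true_and] at hω hω' ⊢
      rw [← MulAction.orbit_eq_iff.2 hω, MulAction.orbit_eq_iff.2 hω']
      exact mem_orbit_self b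
    have h1 := Finset.card_le_card (Finset.union_subset (hBA a) (hBA b))
    rw [Finset.card_union_of_disjoint hd] at h1
    have h2 := hBhalf a hFa
    have h3 := hBhalf b ⟨x, Finset.mem_filter.2 ⟨hx, hb⟩⟩
    have h4 : 0 < Nat.card ↥(M ⊓ D) := Nat.card_pos
    omega
  refine ⟨a, ?_⟩
  have e0 : (O a).card * Nat.card ↥(M ⊓ stabilizer G a ⊓ D) = Nat.card ↥(M ⊓ D) := by
    have e1 := hBcard a
    rw [hAll] at e1
    have e2 := congrArg ((O a).card * ·) (hFcard a)
    rw [mul_add, ← e1, hOcard] at e2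
    omega
  have e3 : Nat.card ↥(M ⊓ stabilizer G a) =
      D.index * Nat.card ↥(M ⊓ stabilizer G a ⊓ D) := by
    have hO : 0 < (O a).card := Finset.card_pos.2 ⟨a, by simp [O, mem_orbit_self]⟩
    refine Nat.eq_of_mul_eq_mul_left hO ?_
    rw [hOcard a, cover_card hM, ← e0]; ring
  have e4 : D.relIndex (M ⊓ stabilizer G a) = D.index := by
    have h2 := (D.subgroupOf (M ⊓ stabilizer G a)).card_mul_index
    have h3 : Nat.card ↥(D.subgroupOf (M ⊓ stabilizer G a)) =
        Nat.card ↥(M ⊓ stabilizer G a ⊓ D) := by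
      rw [← Subgroup.inf_subgroupOf_left D (M ⊓ stabilizer G a)]
      exact Nat.card_congr (Subgroup.subgroupOfEquivOfLe inf_le_left).toEquiv
    rw [h3, e3, mul_comm D.index] at h2
    exact Nat.eq_of_mul_eq_mul_left Nat.card_pos h2
  rw [← Subgroup.relIndex_sup_right] at e4
  have h5 := Subgroup.relIndex_mul_index (le_sup_right : D ≤ (M ⊓ stabilizer G a) ⊔ D)
  rw [e4] at h5
  exact Subgroup.index_eq_one.1 (Nat.eq_of_mul_eq_mul_left
    (Nat.pos_of_ne_zero D.index_ne_zero_of_finite) (h5.trans (mul_one _).symm))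

/-- the Frattini argument -/
theorem exists_normalizer_cover {M : Subgroup G} (hM : M ⊔ derSub G Ω = ⊤) {p : ℕ} [Fact p.Prime]
    {R : Subgroup G} (hR : IsPGroup p R) (hRM : R ≤ M ⊓ derSub G Ω) :
    ∃ P : Subgroup G, R ≤ P ∧ P ≤ M ⊓ derSub G Ω ∧ IsPGroup p P ∧
      (∃ k, Nat.card P * k = Nat.card ↥(M ⊓ derSub G Ω) ∧ ¬ p ∣ k) ∧
      (M ⊓ normalizer (P : Set G)) ⊔ derSub G Ω = ⊤ := by
  haveI := derSub_normal (G := G) (Ω := Ω)
  set D := derSub G Ω with hD
  set N := D.subgroupOf M with hN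
  haveI : N.Normal := by rw [hN]; infer_instance
  have hR' : IsPGroup p ((R.subgroupOf M).subgroupOf N) :=
    (hR.comap_of_injective M.subtype M.subtype_injective).comap_of_injective N.subtype
      N.subtype_injective
  obtain ⟨P', hP'⟩ := hR'.exists_le_sylow
  set P := ((P' : Subgroup N).map N.subtype).map M.subtype with hP
  refine ⟨P, ?_, ?_, (P'.2.map N.subtype).map M.subtype, ?_, ?_⟩
  · intro r hr
    have hrM : r ∈ M := (hRM hr).1
    exact ⟨⟨r, hrM⟩, ⟨⟨⟨r, hrM⟩, (hRM hr).2⟩, hP' (show r ∈ R from hr), rfl⟩, rfl⟩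
  · rintro _ ⟨_, ⟨⟨⟨x, hxM⟩, hxD⟩, -, rfl⟩, rfl⟩
    exact ⟨hxM, hxD⟩
  · refine ⟨(P' : Subgroup N).index, ?_, P'.not_dvd_index⟩
    have e1 : Nat.card P = Nat.card (P' : Subgroup N) := by
      rw [hP, Subgroup.card_map_of_injective M.subtype_injective,
        Subgroup.card_map_of_injective N.subtype_injective]
    have e2 : Nat.card N = Nat.card ↥(M ⊓ D) := by
      rw [hN, ← Subgroup.inf_subgroupOf_left D M]
      exact Nat.card_congr (Subgroup.subgroupOfEquivOfLe inf_le_left).toEquiv
    rw [e1, ← e2, Subgroup.card_mul_index]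
  · rw [eq_top_iff, ← hM]
    refine sup_le ?_ le_sup_right
    intro x hx
    obtain ⟨y, hy, d, hd, e⟩ : ∃ y ∈ normalizer (((P' : Subgroup N).map N.subtype : Subgroup M) : Set M),
        ∃ d ∈ N, y * d = ⟨x, hx⟩ := by
      have h := (Sylow.normalizer_sup_eq_top P').ge (Subgroup.mem_top (⟨x, hx⟩ : M))
      have h' : (⟨x, hx⟩ : M) ∈ ((normalizer (((P' : Subgroup N).map N.subtype : Subgroup M) : Set M) ⊔ N :
          Subgroup M) : Set M) := h
      rw [Subgroup.mul_normal] at h'
      obtain ⟨y, hy, d, hd, e⟩ := Set.mem_mul.1 h'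
      exact ⟨y, hy, d, hd, e⟩
    have e' : (y : G) * (d : G) = x := congrArg Subtype.val e
    rw [← e']
    refine mul_mem (Subgroup.mem_sup_left ⟨y.2, ?_⟩) (Subgroup.mem_sup_right hd)
    exact Subgroup.le_normalizer_map M.subtype (Subgroup.mem_map_of_mem _ hy)

theorem fixedPoints_invariant {Q : Subgroup G} {g : G} (hg : g ∈ normalizer (Q : Set G)) {x : Ω}
    (hx : ∀ q ∈ Q, q • x = x) : ∀ q ∈ Q, q • (g • x) = g • x := by
  intro q hq
  have h := hx _ ((Subgroup.mem_normalizer_iff''.1 hg q).1 hq)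
  rw [mul_smul, mul_smul, inv_smul_eq_iff] at h
  exact h

theorem orbit_invariant {P : Subgroup G} {g : G} (hg : g ∈ normalizer (P : Set G)) {a x : Ω}
    (ha : g • a = a) (hx : x ∈ orbit P a) : g • x ∈ orbit P a := by
  obtain ⟨⟨y, hy⟩, rfl⟩ := hx
  refine ⟨⟨g * y * g⁻¹, (Subgroup.mem_normalizer_iff.1 hg y).1 hy⟩, ?_⟩
  show (g * y * g⁻¹) • a = g • (y • a)
  have : g⁻¹ • a = a := by rw [inv_smul_eq_iff, ha]
  rw [mul_smul, mul_smul, this]

/-- One step for a prime dividing the degree. -/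
theorem step [Nonempty Ω] [FaithfulSMul G Ω] (hi : 2 ≤ (derSub G Ω).index) {p : ℕ}
    [Fact p.Prime] (hp : p ∣ Nat.card Ω) :
    ∃ j, 1 ≤ j ∧ (derSub G Ω).index ∣ p ^ j - 1 ∧ p ^ j ∣ Nat.card Ω ∧
      (p ^ j = Nat.card Ω → ∃ (P : Subgroup G) (a : Ω), IsPGroup p P ∧ P ≤ derSub G Ω ∧
        P ⊓ stabilizer G a = ⊥ ∧ Nat.card P = Nat.card Ω ∧
        ¬ p ∣ Nat.card ↥(stabilizer G a ⊓ derSub G Ω) ∧
        (stabilizer G a ⊓ normalizer (P : Set G)) ⊔ derSub G Ω = ⊤) := by
  have hpp : p.Prime := Fact.out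
  haveI := derSub_normal (G := G) (Ω := Ω)
  haveI := pretransitive (G := G) (Ω := Ω)
  set D := derSub G Ω with hD
  have hDa : ∀ b : Ω, Nat.card D = Nat.card Ω * Nat.card ↥(stabilizer G b ⊓ D) := by
    intro b
    have e2 : Nat.card ↥(stabilizer G b ⊓ D) = Nat.card (stabilizer D b) := by
      refine Nat.card_congr
        { toFun := fun x => ⟨⟨x.1, x.2.2⟩, x.2.1⟩
          invFun := fun y => ⟨y.1.1, y.2, y.1.2⟩
          left_inv := fun x => rfl
          right_inv := fun y => rfl }
    rw [e2, ← Subgroup.index_mul_card (stabilizer D b), index_stabilizer_of_transitive]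
  let a : Ω := Classical.arbitrary Ω
  obtain ⟨Q, -, hQle, hQp, ⟨k, hk, hpk⟩, hQcov⟩ :=
    exists_normalizer_cover (stab_cover (G := G) a) (p := p) (R := ⊥) IsPGroup.of_bot bot_le
  set M := normalizer (Q : Set G) with hMdef
  have hMcov : M ⊔ D = ⊤ := top_le_iff.1 (hQcov.ge.trans (sup_le_sup_right inf_le_right _))
  have hQD : Q ≤ D := hQle.trans inf_le_right
  obtain ⟨P, hQP, hPle, hPp, ⟨l, hl, hpl⟩, hPcov⟩ :=
    exists_normalizer_cover hMcov hQp (le_inf Subgroup.le_normalizer hQD)
  obtain ⟨b, hbcov⟩ := exists_point hPcov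
  set M₃ := M ⊓ normalizer (P : Set G) ⊓ stabilizer G b with hM₃
  -- `b` is fixed by `Q`
  have hQb : ∀ q ∈ Q, q • b = b := by
    by_contra hb
    set S : Set Ω := {x | ∀ q ∈ Q, q • x = x} with hS
    have hSinv : ∀ g ∈ M, ∀ x ∈ S, g • x ∈ S := fun g hg x hx => fixedPoints_invariant hg hx
    have h1 := dvd_of_mem hQcov (inf_le_left) (S := S)
      (fun q hq => (hQle hq).1) (fun g hg => hSinv g hg.2)
    have h2 := dvd_of_notMem hbcov (inf_le_right) (S := S) hb (fun g hg => hSinv g hg.1.1)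
    have hpos : 0 < S.ncard := (Set.ncard_pos).2 ⟨a, fun q hq => (hQle hq).1⟩
    have h3 : D.index ∣ 1 := by
      have := Nat.dvd_sub h2 h1
      rwa [Nat.sub_sub_self (by omega)] at this
    have := Nat.le_of_dvd one_pos h3
    omega
  -- the order of `Q`
  obtain ⟨e, he⟩ := hQp.exists_card_eq
  have hkb : Nat.card Q * k = Nat.card ↥(stabilizer G b ⊓ D) := by
    have h1 := hDa a
    rw [hDa b] at h1
    rw [hk]
    exact (Nat.eq_of_mul_eq_mul_left Nat.card_pos h1).symm
  have hPb : P ⊓ stabilizer G b = Q := by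
    refine (Subgroup.eq_of_le_of_card_ge (le_inf hQP hQb) ?_).symm
    obtain ⟨f, hf⟩ := (hPp.to_le (inf_le_left : P ⊓ stabilizer G b ≤ P)).exists_card_eq
    have hd : p ^ f ∣ p ^ e * k := by
      rw [← hf, ← he, hkb]
      exact Subgroup.card_dvd_of_le (le_inf inf_le_right (inf_le_left.trans (hPle.trans inf_le_right)))
    have hle : f ≤ e := by
      by_contra hlt
      have h1 : p ^ e * p ∣ p ^ e * k := by
        rw [← pow_succ]
        exact (pow_dvd_pow p (by omega)).trans hd
      exact hpk ((Nat.mul_dvd_mul_iff_left (pow_pos hpp.pos e)).1 h1)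
    rw [hf, he]
    exact Nat.pow_le_pow_right hpp.pos hle
  -- the orbit of `P`
  obtain ⟨g, hg⟩ := hPp.exists_card_eq
  have horb : (orbit P b).ncard * Nat.card Q = Nat.card P := by
    have e2 : Nat.card Q = Nat.card (stabilizer P b) := by
      rw [← hPb]
      exact Nat.card_congr
        { toFun := fun x => ⟨⟨x.1, x.2.1⟩, x.2.2⟩
          invFun := fun y => ⟨y.1.1, y.1.2, y.2⟩
          left_inv := fun x => rfl
          right_inv := fun y => rfl }
    rw [← index_stabilizer, e2, Subgroup.index_mul_card]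
  have hge : e + 1 ≤ g := by
    by_contra hlt
    have hd : p ^ (e + 1) ∣ Nat.card D := by
      rw [hDa b, ← hkb, he, pow_succ, mul_comm (p ^ e) p]
      exact mul_dvd_mul hp (dvd_mul_right _ _)
    have hQD' : Nat.card ↥(Q.subgroupOf D) = p ^ e := by
      rw [Nat.card_congr (Subgroup.subgroupOfEquivOfLe hQD).toEquiv, he]
    have h1 := Sylow.prime_dvd_card_quotient_normalizer hd hQD'
    have h2 := Subgroup.card_eq_card_quotient_mul_card_subgroup
      ((Q.subgroupOf D).comap (normalizer ((Q.subgroupOf D : Subgroup D) : Set D)).subtype)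
    rw [show Nat.card ↥((Q.subgroupOf D).comap
        (normalizer ((Q.subgroupOf D : Subgroup D) : Set D)).subtype) = p ^ e from
      (Nat.card_congr (Subgroup.subgroupOfEquivOfLe Subgroup.le_normalizer).toEquiv).trans hQD'] at h2
    have h3 : Nat.card ↥(normalizer ((Q.subgroupOf D : Subgroup D) : Set D)) =
        Nat.card ↥(M ⊓ D) := by
      rw [← Subgroup.subgroupOf_normalizer_eq hQD, ← Subgroup.inf_subgroupOf_right]
      exact Nat.card_congr (Subgroup.subgroupOfEquivOfLe inf_le_right).toEquiv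
    have h4 : p ^ (e + 1) ∣ Nat.card P * l := by
      rw [hl, ← h3, h2, pow_succ, mul_comm (p ^ e) p]
      exact mul_dvd_mul h1 dvd_rfl
    rw [hg] at h4
    have h5 : p ^ g * p ∣ p ^ g * l := by
      rw [← pow_succ]
      exact (pow_dvd_pow p (by omega)).trans h4
    exact hpl ((Nat.mul_dvd_mul_iff_left (pow_pos hpp.pos g)).1 h5)
  have hnc : (orbit P b).ncard = p ^ (g - e) := by
    rw [he, hg] at horb
    refine Nat.eq_of_mul_eq_mul_right (pow_pos hpp.pos e) ?_
    rw [horb, ← pow_add, Nat.sub_add_cancel (by omega)]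
  refine ⟨g - e, by omega, ?_, ?_, fun hfull => ?_⟩
  · rw [← hnc]
    exact dvd_of_mem hbcov inf_le_right (mem_orbit_self b)
      fun y hy x hx => orbit_invariant hy.1.2 hy.2 hx
  · have hd : p ^ (g - e) * p ^ e ∣ Nat.card Ω * k * p ^ e := by
      rw [← pow_add, Nat.sub_add_cancel (by omega), ← hg,
        show Nat.card Ω * k * p ^ e = Nat.card Ω * (Nat.card Q * k) by rw [he]; ring, hkb, ← hDa b]
      exact Subgroup.card_dvd_of_le (hPle.trans inf_le_right)
    exact (((hpp.coprime_iff_not_dvd.2 hpk).pow_left _)).dvd_of_dvd_mul_right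
      ((Nat.mul_dvd_mul_iff_right (pow_pos hpp.pos e)).1 hd)
  · have horbuniv : orbit P b = Set.univ := by
      refine Set.eq_of_subset_of_ncard_le (Set.subset_univ _) ?_
      rw [Set.ncard_univ, hnc, hfull]
    have hQ1 : Q = ⊥ := by
      rw [Subgroup.eq_bot_iff_forall]
      intro q hq
      refine FaithfulSMul.eq_of_smul_eq_smul (α := Ω) fun x => ?_
      rw [one_smul]
      obtain ⟨⟨y, hy⟩, rfl⟩ : x ∈ orbit P b := horbuniv ▸ Set.mem_univ x
      exact fixedPoints_invariant ((hPle hy).1) hQb q hq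
    refine ⟨P, b, hPp, hPle.trans inf_le_right, hPb.trans hQ1, ?_, ?_, ?_⟩
    · rw [← horb, hQ1, Subgroup.card_bot, mul_one, horbuniv, Set.ncard_univ]
    · rw [← hkb, hQ1, Subgroup.card_bot, one_mul]
      exact hpk
    · refine top_le_iff.1 (hbcov.ge.trans (sup_le_sup_right ?_ _))
      exact le_inf inf_le_right (inf_le_left.trans inf_le_right)

end Cfsg.Agent.DerangeIndex
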