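import Cfsg.Agent.Lib.DerangeIndexReduce21
import Cfsg.Agent.Lib.DerangeIndexChar21
import Cfsg.Agent.Lib.DegreeDvd

/-!
# The index of the derangement subgroup is at most `√n - 1`
-/

set_option autoImplicit false
set_option linter.all false

namespace Cfsg.Agent.DerangeIndex

open Cfsg Subgroup MulAction DerangementSubgroup DerangeIndexChar
open Cfsg.Agent.CharBasic Cfsg.Agent.CharBasicOrth Cfsg.Agent.CharBasicDecomp
open scoped Classical ComplexConjugate commutatorElement

universe u v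

variable {G : Type u} {Ω : Type v} [Group G] [MulAction G Ω]

theorem regular_free {p : ℕ} {P : Subgroup G} {a : Ω} [Finite Ω] [Finite G]
    (hR : Residual G Ω p P a) :
    (∀ x ∈ P, x ≠ 1 → ∀ w : Ω, x • w ≠ w) ∧ ∀ w : Ω, ∃ y ∈ P, y • a = w := by
  have hst : stabilizer P a = ⊥ := by
    rw [Subgroup.eq_bot_iff_forall]
    intro x hx
    have hmem : (x : G) ∈ P ⊓ stabilizer G a := ⟨x.2, hx⟩
    rw [hR.regular, Subgroup.mem_bot] at hmem
    exact Subtype.ext hmem
  have horb : orbit P a = Set.univ := Set.eq_of_subset_of_ncard_le (Set.subset_univ _) (by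
    rw [← index_stabilizer, hst, Subgroup.index_bot, Set.ncard_univ, hR.card])
  have htr : ∀ w : Ω, ∃ y ∈ P, y • a = w := by
    intro w
    obtain ⟨⟨y, hy⟩, rfl⟩ := (horb ▸ Set.mem_univ w : w ∈ orbit P a)
    exact ⟨y, hy, rfl⟩
  refine ⟨fun x hx hx1 w hw => hx1 ?_, htr⟩
  obtain ⟨y, hy, rfl⟩ := htr w
  rw [← mul_smul, hR.comm x hx y hy, mul_smul] at hw
  have hmem : x ∈ P ⊓ stabilizer G a := ⟨hx, smul_left_cancel y hw⟩
  rwa [hR.regular, Subgroup.mem_bot] at hmem

variable [FaithfulSMul G Ω] [Finite G] [Finite Ω] [IsPreprimitive G Ω]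

omit [Finite Ω] in
theorem transitive_of_normal {N : Subgroup G} [N.Normal] (hN : N ≠ ⊥) : IsPretransitive N Ω := by
  refine IsQuasiPreprimitive.isPretransitive_of_normal (G := G) fun h => hN ?_
  rw [Subgroup.eq_bot_iff_forall]
  intro x hx
  refine FaithfulSMul.eq_of_smul_eq_smul (α := Ω) fun w => ?_
  rw [one_smul]
  exact (h.ge (Set.mem_univ w) : w ∈ fixedPoints N Ω) ⟨x, hx⟩

/-- an element of order eight cannot sit in a point stabilizer in the extreme case -/
theorem not_eight (hn : Nat.card Ω = 7) {a : Ω} {D : Subgroup G} [D.Normal]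
    [IsPretransitive D Ω] (hrD : Nat.card (orbitRel.Quotient D (Ω × Ω)) = 3)
    (hrG : Nat.card (orbitRel.Quotient G (Ω × Ω)) = 2)
    (h8 : 8 ∣ Nat.card ↥(stabilizer G a ⊓ D)) : False := by
  haveI := Fintype.ofFinite Ω
  set H := stabilizer G a ⊓ D with hH
  have hHa : ∀ h : H, (h : G) • a = a := fun h => h.2.1
  -- transitivity of the stabilizer
  have hG : ∀ b c : Ω, b ≠ a → c ≠ a → ∃ g : G, g • a = a ∧ g • b = c := by
    intro b c hb hc
    by_contra hcon
    let f : Fin 3 → orbitRel.Quotient G (Ω × Ω) :=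
      ![Quotient.mk'' (a, a), Quotient.mk'' (a, b), Quotient.mk'' (a, c)]
    have hd : ∀ x : Ω, x ≠ a → (Quotient.mk'' (a, x) : orbitRel.Quotient G (Ω × Ω)) ≠
        Quotient.mk'' (a, a) := by
      intro x hx e
      obtain ⟨g, hg⟩ := Quotient.eq''.1 e
      exact hx ((congrArg Prod.snd hg).symm.trans (congrArg Prod.fst hg))
    have hbc : (Quotient.mk'' (a, c) : orbitRel.Quotient G (Ω × Ω)) ≠ Quotient.mk'' (a, b) := by
      intro e
      obtain ⟨g, hg⟩ := Quotient.eq''.1 e
      exact hcon ⟨g, congrArg Prod.fst hg, congrArg Prod.snd hg⟩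
    have hinj : Function.Injective f := by
      intro i j e
      fin_cases i <;> fin_cases j <;> simp [f] at e ⊢
      · exact hd b hb e.symm
      · exact hd c hc e.symm
      · exact hd b hb e
      · exact hbc e.symm
      · exact hd c hc e
      · exact hbc e
    have := Nat.card_le_card_of_injective f hinj
    rw [hrG, Nat.card_fin] at this
    omega
  -- orbits of the stabilizer have the same size
  have hsize : ∀ b c : Ω, b ≠ a → c ≠ a → (orbit H b).ncard = (orbit H c).ncard := by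
    intro b c hb hc
    obtain ⟨g, hga, rfl⟩ := hG b c hb hc
    have hga' : g⁻¹ • a = a := by rw [inv_smul_eq_iff, hga]
    have he : orbit H (g • b) = (fun w => g • w) '' orbit H b := by
      ext w
      constructor
      · rintro ⟨⟨h, hh⟩, rfl⟩
        refine ⟨(g⁻¹ * h * g) • b, ⟨⟨g⁻¹ * h * g, ⟨?_, ?_⟩⟩, rfl⟩, ?_⟩
        · show (g⁻¹ * h * g) • a = a
          rw [mul_smul, mul_smul, hga, hh.1, hga']
        · have := Subgroup.Normal.conj_mem (H := D) inferInstance _ hh.2 g⁻¹
          simpa using this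
        · show g • ((g⁻¹ * h * g) • b) = h • (g • b)
          rw [mul_smul, mul_smul, smul_inv_smul]
      · rintro ⟨_, ⟨⟨h, hh⟩, rfl⟩, rfl⟩
        refine ⟨⟨g * h * g⁻¹, ⟨?_, Subgroup.Normal.conj_mem inferInstance _ hh.2 g⟩⟩, ?_⟩
        · show (g * h * g⁻¹) • a = a
          rw [mul_smul, mul_smul, hga', hh.1, hga]
        · show (g * h * g⁻¹) • (g • b) = g • (h • b)
          rw [mul_smul, mul_smul, inv_smul_smul]
    rw [he, Set.ncard_image_of_injective _ (MulAction.injective g)]
  obtain ⟨b, hb⟩ : ∃ b, b ≠ a := by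
    haveI : Nontrivial Ω := Finite.one_lt_card_iff_nontrivial.1 (by omega)
    exact exists_ne a
  -- representatives of `D`-orbits
  have hrep : ∀ x y : Ω, ∃ w : Ω,
      (Quotient.mk'' (x, y) : orbitRel.Quotient D (Ω × Ω)) = Quotient.mk'' (a, w) := by
    intro x y
    obtain ⟨d, hd⟩ := exists_smul_eq D x a
    exact ⟨d • y, Quotient.sound ((MulAction.orbitRel_apply).2 (MulAction.mem_orbit_iff.2 ⟨d⁻¹, Prod.ext (inv_smul_eq_iff.2 hd.symm) (inv_smul_smul d y)⟩))⟩
  have horbit : ∀ c w : Ω, w ∈ orbit H c →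
      (Quotient.mk'' (a, w) : orbitRel.Quotient D (Ω × Ω)) = Quotient.mk'' (a, c) := by
    rintro c _ ⟨⟨h, hh⟩, rfl⟩
    exact Quotient.sound ⟨⟨h, hh.2⟩, Prod.ext hh.1 rfl⟩
  obtain ⟨c, hc, hcb⟩ : ∃ c, c ≠ a ∧ c ∉ orbit H b := by
    by_contra hcon
    push Not at hcon
    let g : Fin 2 → orbitRel.Quotient D (Ω × Ω) := ![Quotient.mk'' (a, a), Quotient.mk'' (a, b)]
    have hsurj : Function.Surjective g := by
      intro q
      induction q using Quotient.inductionOn with | _ q =>
      obtain ⟨x, y⟩ := q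
      obtain ⟨w, hw⟩ := hrep x y
      by_cases hwa : w = a
      · exact ⟨0, by rw [hwa] at hw; exact hw.symm⟩
      · exact ⟨1, ((horbit b w (hcon w hwa)).symm.trans hw.symm)⟩
    have := Nat.card_le_card_of_surjective g hsurj
    rw [hrD, Nat.card_fin] at this
    omega
  have hba : ∀ x ∈ orbit H b, x ≠ a := by
    rintro _ ⟨⟨h, hh⟩, rfl⟩ e
    exact hb ((smul_left_cancel h (hh.1.trans e.symm)).symm)
  have hca : ∀ x ∈ orbit H c, x ≠ a := by
    rintro _ ⟨⟨h, hh⟩, rfl⟩ e
    exact hc ((smul_left_cancel h (hh.1.trans e.symm)).symm)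
  have hcov : ∀ x, x ≠ a → x ∈ orbit H b ∨ x ∈ orbit H c := by
    intro x hx
    by_contra hcon
    push Not at hcon
    let f : Fin 4 → orbitRel.Quotient D (Ω × Ω) :=
      ![Quotient.mk'' (a, a), Quotient.mk'' (a, b), Quotient.mk'' (a, c), Quotient.mk'' (a, x)]
    have hd : ∀ x : Ω, x ≠ a → (Quotient.mk'' (a, x) : orbitRel.Quotient D (Ω × Ω)) ≠
        Quotient.mk'' (a, a) := by
      intro x hx e
      obtain ⟨g, hg⟩ := Quotient.eq''.1 e
      exact hx ((congrArg Prod.snd hg).symm.trans (congrArg Prod.fst hg))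
    have hn' : ∀ u w : Ω, w ∉ orbit H u →
        (Quotient.mk'' (a, w) : orbitRel.Quotient D (Ω × Ω)) ≠ Quotient.mk'' (a, u) := by
      intro u w hw e
      obtain ⟨g, hg⟩ := Quotient.eq''.1 e
      exact hw ⟨(⟨(g : G), (congrArg Prod.fst hg : (g : G) • a = a), g.2⟩ : H), (congrArg Prod.snd hg : (g : G) • u = w)⟩
    have hinj : Function.Injective f := by
      intro i j e
      fin_cases i <;> fin_cases j <;> simp [f] at e ⊢
      · exact hd b hb e.symm
      · exact hd c hc e.symm
      · exact hd x hx e.symm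
      · exact hd b hb e
      · exact hn' b c hcb e.symm
      · exact hn' b x hcon.1 e.symm
      · exact hd c hc e
      · exact hn' b c hcb e
      · exact hn' c x hcon.2 e.symm
      · exact hd x hx e
      · exact hn' b x hcon.1 e
      · exact hn' c x hcon.2 e
    have := Nat.card_le_card_of_injective f hinj
    rw [hrD, Nat.card_fin] at this
    omega
  have hdisj : Disjoint (orbit H b) (orbit H c) := by
    rw [Set.disjoint_left]
    intro x hx hx'
    refine hcb ?_
    rw [← MulAction.orbit_eq_iff.2 hx, MulAction.orbit_eq_iff.2 hx']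
    exact mem_orbit_self c
  have hthree : (orbit H b).ncard = 3 ∧ (orbit H c).ncard = 3 := by
    have h1 : orbit H b ∪ orbit H c = {a}ᶜ := by
      ext x
      simp only [Set.mem_union, Set.mem_compl_iff, Set.mem_singleton_iff]
      exact ⟨fun h => h.elim (hba x) (hca x), hcov x⟩
    have h2 := Set.ncard_union_eq hdisj
    rw [h1, Set.ncard_compl, Set.ncard_singleton, hn, ← hsize b c hb hc] at h2
    have := hsize b c hb hc
    omega
  let φ : H →* Equiv.Perm (orbit H b) × Equiv.Perm (orbit H c) :=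
    (MulAction.toPermHom H (orbit H b)).prod (MulAction.toPermHom H (orbit H c))
  have hinj : Function.Injective φ := by
    rw [injective_iff_map_eq_one]
    intro h hh
    refine Subtype.ext (FaithfulSMul.eq_of_smul_eq_smul (α := Ω) fun x => ?_)
    rw [Subgroup.coe_one, one_smul]
    simp only [φ, MonoidHom.prod_apply, Prod.mk_eq_one] at hh
    by_cases hx : x = a
    · rw [hx]; exact hHa h
    rcases hcov x hx with hx' | hx'
    · exact congrArg Subtype.val (Equiv.Perm.ext_iff.1 hh.1 ⟨x, hx'⟩)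
    · exact congrArg Subtype.val (Equiv.Perm.ext_iff.1 hh.2 ⟨x, hx'⟩)
  have h36 := Subgroup.card_dvd_of_injective φ hinj
  rw [Nat.card_prod, Nat.card_perm, Nat.card_perm, Nat.card_coe_set_eq, Nat.card_coe_set_eq,
    hthree.1, hthree.2] at h36
  have := Nat.le_of_dvd (by decide) (h8.trans h36)
  have h8' := h8.trans h36
  norm_num [Nat.factorial] at h8'

theorem quotient_count [Fintype G] (H : Subgroup G) [Fintype H] :
    classInner (permFn H Ω) (permFn H Ω) = (Nat.card (orbitRel.Quotient H (Ω × Ω)) : ℂ) :=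
  CharBasicPerm.classInner_fixedBy_self (G := H) Ω

/-- restriction of a character along an inclusion -/
def resTo {D : Subgroup G} (B : Subgroup G) (hBD : B ≤ D) (χ : D → ℂ) : B → ℂ :=
  fun x => χ ⟨x, hBD x.2⟩

set_option maxHeartbeats 2000000 in
theorem main (hΩ : 2 ≤ Nat.card Ω)
    (hna : ∀ N : Subgroup G, N.Normal → IsMulCommutative ↥N → N = ⊥) :
    ((derSub G Ω).index + 1) ^ 2 ≤ Nat.card Ω := by
  by_contra hgoal
  haveI : IsPretransitive G Ω := IsPreprimitive.toIsPretransitive
  haveI := derSub_normal (G := G) (Ω := Ω)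
  haveI := pretransitive (G := G) (Ω := Ω)
  haveI := Fintype.ofFinite G
  haveI : Nonempty Ω := (Nat.card_pos_iff.1 (by omega)).1
  obtain ⟨hi, p, P, a, hR⟩ := reduce hΩ hna hgoal
  haveI := Fact.mk hR.prime
  obtain ⟨hfree, htr⟩ := regular_free hR
  set D := derSub G Ω with hD
  set i := D.index with hidef
  have hn1 : i ∣ Nat.card Ω - 1 := by
    have := dvd_of_mem (stab_cover (G := G) a) le_rfl (S := Set.univ) trivial
      (fun _ _ _ _ => trivial)
    rwa [Set.ncard_univ] at this
  -- facts about `D`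
  have hRegD : Reg Ω (P.subgroupOf D) := by
    refine ⟨fun x y => Subtype.ext (Subtype.ext (hR.comm _ x.2 _ y.2)), ?_, ?_⟩
    · rw [Nat.card_congr (Subgroup.subgroupOfEquivOfLe hR.le).toEquiv, hR.card]
    · intro x hx hx1 w
      exact hfree x hx (fun e => hx1 (Subtype.ext e)) w
  -- a constituent of the permutation character of `G`
  obtain ⟨χ, hχ1, hχ0⟩ : ∃ χ : IrrCharacter G, χ ≠ trivIrr G ∧
      classInner (permFn G Ω) (χ : G → ℂ) ≠ 0 := by
    by_contra hcon
    push Not at hcon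
    have h1 := congrFun (eq_sum_classInner (isClassFunction_of_isCharacter
      (DerangeIndexChar.isCharacter_perm (B := G) (Ω := Ω)))) 1
    rw [Finset.sum_apply, Finset.sum_eq_single (trivIrr G)
      (fun χ _ hne => by rw [Pi.smul_apply, hcon χ hne, zero_smul])
      (fun h => absurd (Finset.mem_univ _) h), Pi.smul_apply, smul_eq_mul, perm_inner_triv] at h1
    have h2 : permFn G Ω 1 = (Nat.card Ω : ℂ) := by
      unfold permFn
      norm_cast
      exact Nat.card_congr ((Equiv.setCongr (by ext w; simp)).trans (Equiv.Set.univ Ω))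
    rw [h2, show (trivIrr G : G → ℂ) 1 = 1 from rfl, mul_one] at h1
    have : Nat.card Ω = 1 := by exact_mod_cast h1
    omega
  obtain ⟨e, he⟩ := classInner_isCharacter (DerangeIndexChar.isCharacter_perm (B := G) (Ω := Ω))
    (isCharacter_of_isIrrCharacter χ.2)
  have he0 : e ≠ 0 := by
    intro e0
    rw [e0, Nat.cast_zero] at he
    exact hχ0 he
  have hχc := isCharacter_of_isIrrCharacter χ.2
  set f : D → ℂ := fun x => (χ : G → ℂ) x with hf
  have hfc : IsCharacter D f := CharInduced.isCharacter_res D hχc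
  have hGD : (Nat.card G : ℂ) = (i : ℂ) * Nat.card D := by
    rw [← Nat.cast_mul, hidef, Subgroup.index_mul_card]
  have hD0 : (Nat.card D : ℂ) ≠ 0 := Nat.cast_ne_zero.2 Nat.card_pos.ne'
  have hi0 : (i : ℂ) ≠ 0 := Nat.cast_ne_zero.2 (by omega)
  have hinner : classInner (permFn D Ω) f =
      (i : ℂ) * classInner (permFn G Ω) (χ : G → ℂ) + classInner (fun _ : D => (1 : ℂ)) f := by
    have hout : ∀ g : G, g ∉ D → permFn G Ω g - 1 = 0 := by
      intro g hg
      rw [permFn, card_fixedBy_eq_one hg, Nat.cast_one, sub_self]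
    have h1 : ∑ g : G, (permFn G Ω g - 1) * conj ((χ : G → ℂ) g) =
        ∑ x : D, (permFn D Ω x - 1) * conj (f x) := by
      rw [← Finset.sum_subset (Finset.subset_univ (Finset.univ.filter fun g : G => g ∈ D))
        (fun g _ hg => by rw [hout g (by simpa using hg), zero_mul]),
        Finset.sum_subtype (p := fun g : G => g ∈ D) _ (by simp)]
      rfl
    have h2 : ∑ g : G, conj ((χ : G → ℂ) g) = 0 := by
      have h := classInner_irr_ne (trivIrr G).2 χ.2 (fun e => hχ1 (Subtype.ext e.symm))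
      rw [classInner, mul_eq_zero] at h
      rcases h with h | h
      · exact absurd h (inv_ne_zero (Nat.cast_ne_zero.2 Nat.card_pos.ne'))
      · refine Eq.trans (Finset.sum_congr rfl fun g _ => ?_) h
        show _ = (1 : ℂ) * _
        rw [one_mul]
    simp only [sub_mul, one_mul, Finset.sum_sub_distrib, h2, sub_zero] at h1
    simp only [classInner, hGD, h1, one_mul]
    field_simp
    ring
  obtain ⟨ms, hms, -⟩ := exists_mult hfc
  have hnorm : ∑ θ ∈ cons D Ω, (ms θ) ^ 2 ≤ i := by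
    have h1 : ((∑ θ : IrrCharacter D, (ms θ) ^ 2 : ℕ) : ℂ) = classInner f f := by
      rw [classInner_eq_sum (isClassFunction_of_isCharacter hfc), Nat.cast_sum]
      refine Finset.sum_congr rfl fun θ _ => ?_
      rw [hms, map_natCast, Nat.cast_pow, sq]
    have h2 : (classInner f f).re ≤ (i : ℝ) := by
      have h3 := classInner_irr_self χ.2
      rw [classInner, inv_mul_eq_one₀ (Nat.cast_ne_zero.2 Nat.card_pos.ne')] at h3
      have h4 : ∑ x : D, Complex.normSq (f x) ≤ (Nat.card G : ℝ) := by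
        have h5 := congrArg Complex.re h3
        rw [Complex.natCast_re, Complex.re_sum] at h5
        rw [h5]
        simp only [Complex.mul_conj, Complex.ofReal_re]
        refine (le_of_eq ?_).trans (Finset.sum_le_sum_of_subset_of_nonneg
          (Finset.subset_univ (Finset.univ.filter fun g : G => g ∈ D))
          (fun g _ _ => Complex.normSq_nonneg _))
        rw [Finset.sum_subtype (p := fun g : G => g ∈ D) _ (by simp)]
      have h6 : (classInner f f).re = (Nat.card D : ℝ)⁻¹ * ∑ x : D, Complex.normSq (f x) := by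
        rw [classInner, ← Complex.ofReal_natCast, ← Complex.ofReal_inv, Complex.re_ofReal_mul,
          Complex.re_sum]
        simp only [Complex.mul_conj, Complex.ofReal_re]
      have h7 : (Nat.card G : ℝ) = (i : ℝ) * Nat.card D := by
        rw [← Nat.cast_mul, hidef, Subgroup.index_mul_card]
      rw [h6, inv_mul_le_iff₀ (by exact_mod_cast Nat.card_pos)]
      linarith
    rw [← h1, Complex.natCast_re] at h2
    have h8 : ∑ θ : IrrCharacter D, (ms θ) ^ 2 ≤ i := by exact_mod_cast h2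
    exact (Finset.sum_le_sum_of_subset (Finset.subset_univ _)).trans h8
  have hsumC : ∑ θ ∈ cons D Ω, ms θ = i * e := by
    have h1 : classInner (permFn D Ω) f =
        classInner (fun _ : D => (1 : ℂ)) f + ∑ θ ∈ cons D Ω, (ms θ : ℂ) := by
      have h2 : permFn D Ω = (fun _ : D => (1 : ℂ)) + ∑ θ ∈ cons D Ω, (θ : D → ℂ) := by
        funext g
        rw [hRegD.perm_eq, Pi.add_apply, Finset.sum_apply]
      rw [h2, classInner_add_left, classInner_sum_left]
      refine congrArg₂ (· + ·) rfl (Finset.sum_congr rfl fun θ _ => ?_)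
      rw [← conj_classInner f, hms, map_natCast]
    rw [hinner, he, add_comm ((i : ℂ) * _)] at h1
    have h3 := add_left_cancel h1
    rw [← Nat.cast_mul, ← Nat.cast_sum] at h3
    exact_mod_cast h3.symm
  have hcard : i ≤ (cons D Ω).card := by
    have hle : ∀ θ ∈ cons D Ω, ms θ ≤ 1 := by
      intro θ hθ
      by_contra h2
      have h1 : ∑ θ ∈ cons D Ω, ms θ < ∑ θ ∈ cons D Ω, (ms θ) ^ 2 :=
        Finset.sum_lt_sum (fun x _ => Nat.le_self_pow two_ne_zero _) ⟨θ, hθ, by
          rw [sq]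
          calc ms θ = ms θ * 1 := (mul_one _).symm
            _ < ms θ * ms θ := Nat.mul_lt_mul_of_pos_left (by omega) (by omega)⟩
      have h3 : i ≤ i * e := Nat.le_mul_of_pos_right _ (Nat.pos_of_ne_zero he0)
      omega
    calc i ≤ i * e := Nat.le_mul_of_pos_right _ (Nat.pos_of_ne_zero he0)
      _ = ∑ θ ∈ cons D Ω, ms θ := hsumC.symm
      _ ≤ ∑ θ ∈ cons D Ω, 1 := Finset.sum_le_sum hle
      _ = _ := by simp
  -- the normal closure of `P`
  set B := Subgroup.normalClosure (P : Set G) with hB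
  haveI : B.Normal := Subgroup.normalClosure_normal
  have hPB : P ≤ B := Subgroup.le_normalClosure
  have hBD : B ≤ D := Subgroup.normalClosure_le_normal hR.le
  haveI : IsPretransitive B Ω := ⟨fun x y => by
    obtain ⟨u, hu, rfl⟩ := htr x
    obtain ⟨w, hw, rfl⟩ := htr y
    refine ⟨⟨w * u⁻¹, mul_mem (hPB hw) (inv_mem (hPB hu))⟩, ?_⟩
    show (w * u⁻¹) • (u • a) = w • a
    rw [mul_smul, inv_smul_smul]⟩
  have hRegB : Reg Ω (P.subgroupOf B) := by
    refine ⟨fun x y => Subtype.ext (Subtype.ext (hR.comm _ x.2 _ y.2)), ?_, ?_⟩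
    · rw [Nat.card_congr (Subgroup.subgroupOfEquivOfLe hPB).toEquiv, hR.card]
    · intro x hx hx1 w
      exact hfree x hx (fun e => hx1 (Subtype.ext e)) w
  have hcB : ∀ x ∈ P.subgroupOf B, x ≠ 1 →
      centralizer ({x} : Set B) = P.subgroupOf B := by
    intro x hx hx1
    ext y
    rw [Subgroup.mem_centralizer_singleton_iff, Subgroup.mem_subgroupOf]
    constructor
    · intro hy
      rw [← hR.cent x hx (fun e => hx1 (Subtype.ext e))]
      exact ⟨hBD y.2, Subgroup.mem_centralizer_singleton_iff.2 (congrArg Subtype.val hy)⟩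
    · intro hy
      exact Subtype.ext (hR.comm _ hy _ hx)
  have hDcard : Nat.card D = Nat.card Ω * Nat.card ↥(stabilizer G a ⊓ D) := by
    have e2 : Nat.card ↥(stabilizer G a ⊓ D) = Nat.card (stabilizer D a) := by
      refine Nat.card_congr
        { toFun := fun x => ⟨⟨x.1, x.2.2⟩, x.2.1⟩
          invFun := fun y => ⟨y.1.1, y.2, y.1.2⟩
          left_inv := fun x => rfl
          right_inv := fun y => rfl }
    rw [e2, ← Subgroup.index_mul_card (stabilizer D a), index_stabilizer_of_transitive]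
  have hkerB : ∀ φ : IrrCharacter B,
      (∀ x ∈ P.subgroupOf B, (φ : B → ℂ) x = (φ : B → ℂ) 1) → φ = trivIrr B := by
    intro φ hφ
    have hφc := isCharacter_of_isIrrCharacter φ.2
    set K := CharBasicLinear.charKer (φ : B → ℂ) hφc with hK
    haveI : K.Normal := CharBasicLinear.charKer_normal _ hφc
    have hPK : P.subgroupOf B ≤ K := fun x hx => hφ x hx
    obtain ⟨k, hk⟩ := hR.pGroup.exists_card_eq
    obtain ⟨S, hS⟩ := (hR.pGroup.comap_of_injective B.subtype B.subtype_injective).exists_le_sylow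
    have hScard : ∀ T : Sylow p B, Nat.card (T : Subgroup B) ≤ Nat.card P := by
      intro T
      obtain ⟨m, hm⟩ := T.2.exists_card_eq
      rw [hm, hk]
      refine Nat.pow_le_pow_right hR.prime.pos ?_
      by_contra hlt
      have h1 : p ^ k * p ∣ Nat.card D := by
        rw [← pow_succ]
        refine (pow_dvd_pow p (show k + 1 ≤ m by omega)).trans ?_
        rw [← hm]
        exact (Subgroup.card_subgroup_dvd_card _).trans (Subgroup.card_dvd_of_le hBD)
      rw [hDcard, ← hR.card, hk] at h1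
      exact hR.notDvd ((Nat.mul_dvd_mul_iff_left (pow_pos hR.prime.pos k)).1 h1)
    have hSP : (S : Subgroup B) = P.subgroupOf B :=
      (Subgroup.eq_of_le_of_card_ge hS (by
        show Nat.card (S : Subgroup B) ≤ Nat.card (P.subgroupOf B)
        rw [Nat.card_congr (Subgroup.subgroupOfEquivOfLe hPB).toEquiv]
        exact hScard S)).symm
    have hall : B ≤ K.map B.subtype := by
      refine Subgroup.closure_le _ |>.2 ?_
      intro x hx
      obtain ⟨u, hu, g, rfl⟩ : ∃ u ∈ P, ∃ g : G, g * u * g⁻¹ = x := by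
        obtain ⟨u, hu, hc⟩ := Group.mem_conjugatesOfSet_iff.1 hx
        exact ⟨u, hu, isConj_iff.1 hc⟩
      have hmemB : ∀ v ∈ P, g * v * g⁻¹ ∈ B := fun v hv =>
        Subgroup.Normal.conj_mem inferInstance v (hPB hv) g
      set Q := (P.map (MulAut.conj g).toMonoidHom).subgroupOf B with hQ
      have hQle : P.map (MulAut.conj g).toMonoidHom ≤ B := by
        rintro _ ⟨v, hv, rfl⟩
        simpa using hmemB v hv
      have hQp : IsPGroup p Q :=
        (hR.pGroup.map _).comap_of_injective B.subtype B.subtype_injective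
      obtain ⟨T, hT⟩ := hQp.exists_le_sylow
      have hQcard : Nat.card Q = Nat.card P := by
        rw [Nat.card_congr (Subgroup.subgroupOfEquivOfLe hQle).toEquiv,
          Subgroup.card_map_of_injective (MulAut.conj g).injective]
      have hTQ : (T : Subgroup B) = Q :=
        (Subgroup.eq_of_le_of_card_ge hT (by rw [hQcard]; exact hScard T)).symm
      obtain ⟨y, hy⟩ := MulAction.exists_smul_eq B S T
      have hmem : (⟨g * u * g⁻¹, hmemB u hu⟩ : B) ∈ (T : Subgroup B) := by
        rw [hTQ]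
        exact ⟨u, hu, by simp⟩
      rw [← hy, Sylow.coe_subgroup_smul] at hmem
      obtain ⟨z, hz, e⟩ := hmem
      have hzK : z ∈ K := hPK (hSP ▸ hz)
      refine ⟨⟨g * u * g⁻¹, hmemB u hu⟩, ?_, rfl⟩
      rw [SetLike.mem_coe, ← e]
      exact Subgroup.Normal.conj_mem inferInstance z hzK y
    have hKtop : ∀ x : B, (φ : B → ℂ) x = (φ : B → ℂ) 1 := by
      intro x
      obtain ⟨z, hz, e⟩ := hall x.2
      exact (Subtype.ext e : z = x) ▸ hz
    by_contra hne
    have h0 := classInner_irr_ne φ.2 (trivIrr B).2 (fun e => hne (Subtype.ext e))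
    rw [classInner, mul_eq_zero] at h0
    rcases h0 with h0 | h0
    · exact absurd h0 (inv_ne_zero (Nat.cast_ne_zero.2 Nat.card_pos.ne'))
    · have e1 : ∀ x : B, (φ : B → ℂ) x * conj ((trivIrr B : B → ℂ) x) = (φ : B → ℂ) 1 := by
        intro x
        show _ * conj (1 : ℂ) = _
        rw [map_one, mul_one, hKtop]
      simp only [e1, Finset.sum_const, Finset.card_univ, nsmul_eq_mul, mul_eq_zero] at h0
      rcases h0 with h0 | h0
      · exact absurd h0 (Nat.cast_ne_zero.2 Fintype.card_ne_zero)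
      · exact isIrrCharacter_apply_one_ne_zero φ.2 h0
  -- restrictions to `B`
  let incl : B →* D := Subgroup.inclusion hBD
  have hresc : ∀ θ : IrrCharacter D, IsCharacter B (resTo B hBD (θ : D → ℂ)) := fun θ =>
    isCharacter_comap incl (isCharacter_of_isIrrCharacter θ.2)
  choose mr hmr using fun (θ : IrrCharacter D) (φ : IrrCharacter B) =>
    classInner_isCharacter (hresc θ) (isCharacter_of_isIrrCharacter φ.2)
  have hpermB : permFn B Ω = (trivIrr B : B → ℂ) + ∑ θ ∈ cons D Ω, resTo B hBD (θ : D → ℂ) := by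
    funext x
    rw [Pi.add_apply, Finset.sum_apply]
    exact hRegD.perm_eq (⟨x, hBD x.2⟩ : D)
  have hsumB : ∀ φ : IrrCharacter B, classInner (permFn B Ω) (φ : B → ℂ) =
      (if trivIrr B = φ then 1 else 0) + ((∑ θ ∈ cons D Ω, mr θ φ : ℕ) : ℂ) := by
    intro φ
    rw [hpermB, classInner_add_left, classInner_sum_left, classInner_irrCharacter, Nat.cast_sum]
    exact congrArg₂ (· + ·) rfl (Finset.sum_congr rfl fun θ _ => hmr θ φ)
  have hmr1 : ∀ φ ∈ cons B Ω, ∑ θ ∈ cons D Ω, mr θ φ = 1 := by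
    intro φ hφ
    have h1 := hsumB φ
    have hne : φ ≠ trivIrr B := (Finset.mem_filter.1 hφ).2.1
    rw [hRegB.basic.1 φ hφ, if_neg (Ne.symm hne), zero_add] at h1
    exact_mod_cast h1.symm
  have hmrtriv : ∀ θ ∈ cons D Ω, mr θ (trivIrr B) = 0 := by
    intro θ hθ
    have h1 := hsumB (trivIrr B)
    rw [perm_inner_triv, if_pos rfl] at h1
    have h2 : ((∑ θ ∈ cons D Ω, mr θ (trivIrr B) : ℕ) : ℂ) = 0 := by linear_combination -h1
    have h3 : ∑ θ ∈ cons D Ω, mr θ (trivIrr B) = 0 := by exact_mod_cast h2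
    exact Finset.sum_eq_zero_iff.1 h3 θ hθ
  have hdgle : ∀ (θ : IrrCharacter D) (φ : IrrCharacter B), mr θ φ ≠ 0 →
      dg (φ : B → ℂ) ≤ dg (θ : D → ℂ) := by
    intro θ φ hne
    obtain ⟨m', hm', hsum'⟩ := exists_mult (hresc θ)
    have h1 := congrFun hsum' 1
    rw [Finset.sum_apply] at h1
    have h2 : ((dg (θ : D → ℂ) : ℕ) : ℂ) =
        ((∑ ψ : IrrCharacter B, m' ψ * dg (ψ : B → ℂ) : ℕ) : ℂ) := by
      rw [dg_cast (isCharacter_of_isIrrCharacter θ.2), Nat.cast_sum]
      refine (Eq.trans ?_ (h1.trans (Finset.sum_congr rfl fun ψ _ => ?_)))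
      · rfl
      · rw [Pi.smul_apply, smul_eq_mul, Nat.cast_mul, dg_cast (isCharacter_of_isIrrCharacter ψ.2)]
    have h3 : dg (θ : D → ℂ) = ∑ ψ : IrrCharacter B, m' ψ * dg (ψ : B → ℂ) := by exact_mod_cast h2
    rw [h3]
    have h4 : m' φ = mr θ φ := by
      have := (hm' φ).symm.trans (hmr θ φ)
      exact_mod_cast this
    refine le_trans ?_ (Finset.single_le_sum (f := fun ψ : IrrCharacter B => m' ψ * dg (ψ : B → ℂ))
      (fun _ _ => Nat.zero_le _) (Finset.mem_univ φ))
    exact Nat.le_mul_of_pos_left _ (Nat.pos_of_ne_zero (by omega))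
  have hexB : ∀ θ ∈ cons D Ω, ∃ φ ∈ cons B Ω, mr θ φ ≠ 0 := by
    intro θ hθ
    obtain ⟨φ, hφ⟩ : ∃ φ, mr θ φ ≠ 0 := by
      by_contra hcon
      push Not at hcon
      have h0 : resTo B hBD (θ : D → ℂ) = 0 := by
        rw [eq_sum_classInner (isClassFunction_of_isCharacter (hresc θ))]
        exact Finset.sum_eq_zero fun φ _ => by rw [hmr, hcon, Nat.cast_zero, zero_smul]
      exact isIrrCharacter_apply_one_ne_zero θ.2 (congrFun h0 1)
    refine ⟨φ, ?_, hφ⟩
    have hne : φ ≠ trivIrr B := fun e => hφ (e ▸ hmrtriv θ hθ)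
    refine Finset.mem_filter.2 ⟨Finset.mem_univ _, hne, ?_⟩
    rw [hsumB, if_neg (Ne.symm hne), zero_add, Nat.cast_ne_zero]
    intro h0
    exact hφ (Finset.sum_eq_zero_iff.1 h0 θ hθ)
  have hfromD : ∀ φ ∈ cons B Ω, ∃ θ ∈ cons D Ω, mr θ φ ≠ 0 := fun φ hφ =>
    Finset.exists_ne_zero_of_sum_ne_zero (by rw [hmr1 φ hφ]; exact one_ne_zero)
  have hcardB : 2 ≤ (cons B Ω).card := by
    choose F hF hFne using hexB
    have h1 : (cons D Ω).attach.card ≤ (cons B Ω).card := by
      refine Finset.card_le_card_of_injOn (fun θ => F θ.1 θ.2) (fun θ _ => hF θ.1 θ.2) ?_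
      rintro ⟨θ, hθ⟩ _ ⟨θ', hθ'⟩ _ e
      simp only at e
      by_contra hne
      have hne' : θ ≠ θ' := fun e => hne (Subtype.ext e)
      have h2 := Finset.sum_le_sum_of_subset (f := fun x : IrrCharacter D => mr x (F θ hθ))
        (show ({θ, θ'} : Finset (IrrCharacter D)) ⊆ cons D Ω by
          intro x hx
          simp only [Finset.mem_insert, Finset.mem_singleton] at hx
          rcases hx with rfl | rfl <;> assumption)
      rw [Finset.sum_pair hne', hmr1 _ (hF θ hθ)] at h2
      have := hFne θ hθ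
      have := hFne θ' hθ'
      rw [← e] at this
      omega
    rw [Finset.card_attach] at h1
    omega
  -- no linear constituents
  have hge2 : ∀ φ ∈ cons B Ω, 2 ≤ dg (φ : B → ℂ) := by
    intro φ hφ
    have hφc := isCharacter_of_isIrrCharacter φ.2
    obtain ⟨d, hd0, hd⟩ := isIrrCharacter_apply_one φ.2
    have hdd : dg (φ : B → ℂ) = d := by rw [dg, hd, Complex.natCast_re, Nat.floor_natCast]
    by_contra hlt
    have h1 : (φ : B → ℂ) 1 = 1 := by
      rw [hd, show d = 1 by omega, Nat.cast_one]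
    obtain ⟨lam, hlam⟩ := CharBasicLinear.exists_hom_of_apply_one_eq_one hφc h1
    set K : Subgroup G := ⁅B, B⁆ with hKdef
    have hKB : K ≤ B := Subgroup.commutator_le_left _ _
    haveI : K.Normal := Subgroup.commutator_normal B B
    by_cases hK : K = ⊥
    · have hcom : IsMulCommutative B := by
        rw [hKdef, Subgroup.commutator_eq_bot_iff_le_centralizer] at hK
        exact ⟨⟨fun x y => Subtype.ext (Subgroup.mem_centralizer_iff.1 (hK y.2) x x.2)⟩⟩
      have hB0 := hna B inferInstance hcom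
      have hP0 : P = ⊥ := le_bot_iff.1 (hB0 ▸ hPB)
      have := hR.card
      rw [hP0, Subgroup.card_bot] at this
      omega
    haveI := transitive_of_normal (Ω := Ω) hK
    have hker : ∀ x : K, (φ : B → ℂ) ⟨x, hKB x.2⟩ = 1 := by
      intro x
      have hle : K ≤ lam.ker.map B.subtype := by
        rw [hKdef, Subgroup.commutator_le]
        intro u hu w hw
        refine ⟨⁅(⟨u, hu⟩ : B), (⟨w, hw⟩ : B)⁆, ?_, ?_⟩
        · rw [SetLike.mem_coe, MonoidHom.mem_ker, map_commutatorElement]
          exact commutatorElement_eq_one_iff_mul_comm.2 (mul_comm _ _)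
        · simp [commutatorElement_def]
      obtain ⟨z, hz, e⟩ := hle x.2
      have ez : (⟨x, hKB x.2⟩ : B) = z := Subtype.ext e.symm
      rw [ez, hlam]
      simp only [MonoidHom.mem_ker.1 hz, Units.val_one]
    let inK : K →* B := Subgroup.inclusion hKB
    set rest : K → ℂ := fun x => ∑ ψ ∈ (cons B Ω).erase φ, (ψ : B → ℂ) (inK x) with hrest
    have hrestc : IsCharacter K rest := by
      have : rest = ∑ ψ ∈ (cons B Ω).erase φ, fun x => (ψ : B → ℂ) (inK x) := by
        funext x; rw [Finset.sum_apply]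
      rw [this]
      exact isCharacter_sum _ _ fun ψ _ =>
        isCharacter_comap inK (isCharacter_of_isIrrCharacter ψ.2)
    obtain ⟨r, hr⟩ := classInner_isCharacter hrestc (isCharacter_of_isIrrCharacter (trivIrr K).2)
    have h3 : permFn K Ω = (trivIrr K : K → ℂ) + (trivIrr K : K → ℂ) + rest := by
      funext x
      rw [Pi.add_apply, Pi.add_apply]
      have := hRegB.perm_eq (⟨x, hKB x.2⟩ : B)
      rw [← Finset.add_sum_erase _ _ hφ, hker x] at this
      rw [show permFn K Ω x = permFn B Ω (⟨x, hKB x.2⟩ : B) from rfl, this, ← add_assoc]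
      rfl
    have h4 := perm_inner_triv (B := K) (Ω := Ω)
    rw [h3, classInner_add_left, classInner_add_left, classInner_irr_self (trivIrr K).2, hr] at h4
    have : ((1 + 1 + r : ℕ) : ℂ) = ((1 : ℕ) : ℂ) := by push_cast; linear_combination h4
    have := Nat.cast_injective this
    omega
  -- the degree bound
  have hboundB : ∀ φ ∈ cons B Ω, Nat.card Ω - 1 + dg (φ : B → ℂ) ≤ dg (φ : B → ℂ) ^ 2 := by
    intro φ hφ
    obtain ⟨ψ, -, -, h, -⟩ := hRegB.deg_bound hcB hkerB hcardB hφ (hge2 φ hφ)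
    exact h
  have hboundD : ∀ θ ∈ cons D Ω,
      2 ≤ dg (θ : D → ℂ) ∧ Nat.card Ω - 1 + dg (θ : D → ℂ) ≤ dg (θ : D → ℂ) ^ 2 := by
    intro θ hθ
    obtain ⟨φ, hφ, hne⟩ := hexB θ hθ
    have h1 := hdgle θ φ hne
    have h2 := hboundB φ hφ
    have h3 := hge2 φ hφ
    refine ⟨h3.trans h1, ?_⟩
    obtain ⟨d', hd'⟩ : ∃ d', dg (φ : B → ℂ) = d' := ⟨_, rfl⟩
    obtain ⟨d, hd⟩ : ∃ d, dg (θ : D → ℂ) = d := ⟨_, rfl⟩
    rw [hd'] at h1 h2 h3
    rw [hd] at h1 ⊢
    nlinarith
  obtain ⟨S, hS⟩ := hn1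
  have hsumD := hRegD.sum_dg
  obtain ⟨θ₀, hθ₀, hmin⟩ := Finset.exists_min_image (cons D Ω) (fun θ => dg (θ : D → ℂ))
    (Finset.card_pos.1 (by omega))
  obtain ⟨d, hd⟩ : ∃ d, dg (θ₀ : D → ℂ) = d := ⟨_, rfl⟩
  have hmul : (cons D Ω).card * d ≤ Nat.card Ω - 1 := by
    have h1 := Finset.card_nsmul_le_sum (cons D Ω) _ d
      (fun θ hθ => hd ▸ hmin θ hθ : ∀ θ ∈ cons D Ω, d ≤ dg (θ : D → ℂ))
    rw [smul_eq_mul] at h1
    omega
  obtain ⟨hd2, hdb⟩ := hboundD θ₀ hθ₀
  rw [hd] at hd2 hdb
  have hid : i * d ≤ Nat.card Ω - 1 := (Nat.mul_le_mul_right _ hcard).trans hmul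
  have hdlow : i + 1 ≤ d := by
    by_contra hlt
    have : d * d ≤ i * d := Nat.mul_le_mul_right _ (by omega)
    rw [sq] at hdb
    omega
  have hSi : S = i + 1 ∧ d = i + 1 := by
    rw [hS] at hid
    have h1 : d ≤ S := Nat.le_of_mul_le_mul_left hid (by omega)
    have h2 : S ≤ i + 1 := by
      by_contra hlt
      refine hgoal ?_
      have h3 : i * (i + 2) ≤ i * S := Nat.mul_le_mul_left _ (by omega)
      calc (i + 1) ^ 2 = i * (i + 2) + 1 := by ring
        _ ≤ Nat.card Ω := by omega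
    omega
  obtain ⟨rfl, rfl⟩ := hSi
  have hn : Nat.card Ω = i * (i + 1) + 1 := by omega
  have hcardD : (cons D Ω).card = i := by
    refine le_antisymm ?_ hcard
    rw [hS] at hmul
    exact Nat.le_of_mul_le_mul_right hmul (by omega)
  have hallD : ∀ θ ∈ cons D Ω, dg (θ : D → ℂ) = i + 1 := by
    intro θ hθ
    by_contra hne
    have h1 : ∑ θ ∈ cons D Ω, (i + 1) < ∑ θ ∈ cons D Ω, dg (θ : D → ℂ) :=
      Finset.sum_lt_sum (fun x hx => hd ▸ hmin x hx) ⟨θ, hθ, by
        have := hd ▸ hmin θ hθ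
        omega⟩
    rw [Finset.sum_const, smul_eq_mul, hcardD] at h1
    omega
  have hallB : ∀ φ ∈ cons B Ω, dg (φ : B → ℂ) = i + 1 := by
    intro φ hφ
    obtain ⟨θ, hθ, hne⟩ := hfromD φ hφ
    have h1 := hdgle θ φ hne
    rw [hallD θ hθ] at h1
    have h2 := hboundB φ hφ
    obtain ⟨d', hd'⟩ : ∃ d', dg (φ : B → ℂ) = d' := ⟨_, rfl⟩
    rw [hd'] at h1 h2 ⊢
    by_contra hne'
    have : d' * d' ≤ i * d' := Nat.mul_le_mul_right _ (by omega)
    rw [sq] at h2
    have : i * d' ≤ i * i := Nat.mul_le_mul_left _ (by omega)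
    nlinarith
  obtain ⟨hd3, φ, hφ⟩ := hRegB.deg_eq hcB hkerB hcardB (d := i + 1) (by omega) hallB
    (by rw [hn, Nat.add_sub_cancel]; ring)
  have hi2 : i = 2 := by omega
  have hn7 : Nat.card Ω = 7 := by rw [hn, hi2]
  rw [hn7, hi2] at hφ
  have h8 : 8 ∣ Nat.card ↥(stabilizer G a ⊓ D) := by
    obtain ⟨m, ρ, hρ, hρe⟩ := φ.2
    have h1 : Module.finrank ℂ (Fin m → ℂ) ∣ Nat.card B := DegreeDvd.finrank_dvd_card ρ
    have h2 : Module.finrank ℂ (Fin m → ℂ) = 8 := by
      have h3 : dg (φ : B → ℂ) = Module.finrank ℂ (Fin m → ℂ) := by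
        rw [dg, ← hρe, Representation.char_one, Complex.natCast_re, Nat.floor_natCast]
      omega
    have h4 := (h2 ▸ h1).trans (Subgroup.card_dvd_of_le hBD)
    rw [hDcard, hn7] at h4
    exact (Nat.Coprime.dvd_of_dvd_mul_left (by norm_num) h4)
  -- the ranks
  have hrD : Nat.card (orbitRel.Quotient D (Ω × Ω)) = 3 := by
    have h1 := quotient_count (Ω := Ω) D
    have h2 : classInner (permFn D Ω) (permFn D Ω) = ((1 + (cons D Ω).card : ℕ) : ℂ) := by
      have e : permFn D Ω = (fun _ : D => (1 : ℂ)) + ∑ θ ∈ cons D Ω, (θ : D → ℂ) := by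
        funext g
        rw [hRegD.perm_eq, Pi.add_apply, Finset.sum_apply]
      conv_lhs => arg 1; rw [e]
      rw [classInner_add_left, classInner_sum_left]
      have e1 : classInner (fun _ : D => (1 : ℂ)) (permFn D Ω) = 1 := by
        rw [← conj_classInner (permFn D Ω)]
        rw [show classInner (permFn D Ω) (fun _ : D => (1 : ℂ)) = 1 from perm_inner_triv, map_one]
      rw [e1, Finset.sum_congr rfl (g := fun _ => (1 : ℂ)) (fun θ hθ => by
        rw [← conj_classInner (permFn D Ω), hRegD.basic.1 θ hθ, map_one]), Finset.sum_const,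
        nsmul_eq_mul, mul_one, Nat.cast_add, Nat.cast_one]
    rw [h2] at h1
    have h3 := Nat.cast_injective (R := ℂ) h1
    rw [← h3, hcardD, hi2]
  have hrG : Nat.card (orbitRel.Quotient G (Ω × Ω)) = 2 := by
    have h1 := rank_formula (G := G) (Ω := Ω)
    rw [← hD, hrD, ← hidef, hi2] at h1
    omega
  exact not_eight hn7 hrD hrG h8

end Cfsg.Agent.DerangeIndex
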