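import Cfsg.Agent.Lib.DerangeIndexCover21
import Cfsg.Agent.Lib.DerangeIndexCount21b

/-!
# Reduction to a trivial intersection regular Sylow subgroup

If `(i + 1) ^ 2 ≤ n` fails then the derangement subgroup `D` has a regular abelian Sylow subgroup
which is the centralizer in `D` of each of its non-identity elements.
-/

set_option autoImplicit false
set_option linter.all false

namespace Cfsg.Agent.DerangeIndex

open Subgroup MulAction DerangementSubgroup
open scoped Classical

/-- what is left after the reduction -/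
structure Residual (G Ω : Type*) [Group G] [MulAction G Ω] (p : ℕ) (P : Subgroup G) (a : Ω) :
    Prop where
  prime : p.Prime
  le : P ≤ derSub G Ω
  comm : ∀ x ∈ P, ∀ y ∈ P, x * y = y * x
  pGroup : IsPGroup p P
  card : Nat.card P = Nat.card Ω
  regular : P ⊓ stabilizer G a = ⊥
  notDvd : ¬ p ∣ Nat.card ↥(stabilizer G a ⊓ derSub G Ω)
  cover : (stabilizer G a ⊓ normalizer (P : Set G)) ⊔ derSub G Ω = ⊤
  cent : ∀ u ∈ P, u ≠ 1 → derSub G Ω ⊓ centralizer ({u} : Set G) = P
  irred : ∀ M : Subgroup G, M ≤ stabilizer G a ⊓ normalizer (P : Set G) → M ⊔ derSub G Ω = ⊤ →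
    ∀ X : Subgroup G, X ≤ P → M ≤ normalizer (X : Set G) → X = ⊥ ∨ X = P

theorem gcd_bound {p : ℕ} (hp : p.Prime) {i j k : ℕ} (hj : 1 ≤ j) (hjk : j < k)
    (h1 : i ∣ p ^ j - 1) (h2 : i ∣ p ^ k - 1) : (i + 1) ^ 2 ≤ p ^ k := by
  have h3 := Nat.dvd_gcd h1 h2
  rw [Nat.pow_sub_one_gcd_pow_sub_one] at h3
  set g := Nat.gcd j k with hg
  have hg0 : 0 < g := Nat.gcd_pos_of_pos_left _ (by omega)
  have hgj : g ≤ j := Nat.le_of_dvd (by omega) (Nat.gcd_dvd_left j k)
  have hgk : g * 2 ≤ k := by
    obtain ⟨c, hc⟩ := Nat.gcd_dvd_right j k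
    rw [← hg] at hc
    have : 2 ≤ c := by
      rcases Nat.lt_or_ge c 2 with h | h
      · interval_cases c <;> omega
      · exact h
    rw [hc]; exact Nat.mul_le_mul_left _ this
  have hpg : 2 ≤ p ^ g := le_trans hp.two_le (Nat.le_self_pow hg0.ne' p)
  have h4 : i ≤ p ^ g - 1 := Nat.le_of_dvd (by omega) h3
  calc (i + 1) ^ 2 ≤ (p ^ g) ^ 2 := Nat.pow_le_pow_left (by omega) 2
    _ = p ^ (g * 2) := (pow_mul p g 2).symm
    _ ≤ p ^ k := Nat.pow_le_pow_right hp.pos hgk

theorem four_le {G Ω : Type*} [Group G] [MulAction G Ω] [FaithfulSMul G Ω] [Finite G] [Finite Ω]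
    [IsPretransitive G Ω] (hΩ : 2 ≤ Nat.card Ω)
    (hna : ∀ N : Subgroup G, N.Normal → IsMulCommutative ↥N → N = ⊥) : 4 ≤ Nat.card Ω := by
  haveI := Fintype.ofFinite Ω
  by_contra hlt
  have hinj : Function.Injective (MulAction.toPermHom G Ω) := by
    intro x y h
    exact MulAction.toPerm_injective h
  set A := (alternatingGroup Ω).comap (MulAction.toPermHom G Ω) with hA
  have hAc : IsMulCommutative A := by
    have hcard : Nat.card (alternatingGroup Ω) ≤ 3 := by
      haveI : Nontrivial Ω := (Finite.one_lt_card_iff_nontrivial).1 (by omega)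
      have h1 := two_mul_card_alternatingGroup (α := Ω)
      rw [Fintype.card_perm, ← Nat.card_eq_fintype_card (α := Ω),
        ← Nat.card_eq_fintype_card (α := alternatingGroup Ω)] at h1
      have h2 : (Nat.card Ω).factorial ≤ Nat.factorial 3 := Nat.factorial_le (by omega)
      simp only [Nat.factorial] at h2
      omega
    have hcyc : IsCyclic (alternatingGroup Ω) := by
      rcases Nat.lt_or_ge (Nat.card (alternatingGroup Ω)) 2 with h | h
      · haveI : Subsingleton (alternatingGroup Ω) := Finite.card_le_one_iff_subsingleton.1 (by omega)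
        exact isCyclic_of_subsingleton
      · obtain ⟨r, hr, hc⟩ : ∃ r, r.Prime ∧ Nat.card (alternatingGroup Ω) = r :=
          ⟨_, by interval_cases Nat.card (alternatingGroup Ω) <;> norm_num, rfl⟩
        haveI := Fact.mk hr
        exact isCyclic_of_prime_card hc
    refine ⟨⟨fun x y => Subtype.ext (hinj ?_)⟩⟩
    letI := hcyc.commGroup
    have := congrArg Subtype.val (mul_comm (⟨_, x.2⟩ : alternatingGroup Ω) ⟨_, y.2⟩)
    simpa [map_mul] using this
  have hA0 := hna A (by rw [hA]; infer_instance) hAc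
  have hall : ∀ x y : G, x * y = y * x := by
    intro x y
    have h : x * y * x⁻¹ * y⁻¹ ∈ A := by
      show MulAction.toPermHom G Ω (x * y * x⁻¹ * y⁻¹) ∈ alternatingGroup Ω
      rw [Equiv.Perm.mem_alternatingGroup]
      simp only [map_mul, map_inv]
      rw [mul_right_comm (Equiv.Perm.sign _) (Equiv.Perm.sign _) (Equiv.Perm.sign _)⁻¹,
        mul_inv_cancel, one_mul, mul_inv_cancel]
    rw [hA0, Subgroup.mem_bot, mul_inv_eq_one, mul_inv_eq_iff_eq_mul] at h
    exact h
  have htop := hna ⊤ inferInstance ⟨⟨fun x y => Subtype.ext (hall x y)⟩⟩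
  have : Subsingleton G := by
    refine ⟨fun x y => ?_⟩
    have hx : x ∈ (⊥ : Subgroup G) := htop ▸ Subgroup.mem_top x
    have hy : y ∈ (⊥ : Subgroup G) := htop ▸ Subgroup.mem_top y
    rw [Subgroup.mem_bot] at hx hy
    rw [hx, hy]
  haveI : Subsingleton Ω := ⟨fun u v => by
    obtain ⟨g, rfl⟩ := exists_smul_eq G u v
    rw [Subsingleton.elim g 1, one_smul]⟩
  have : Nat.card Ω ≤ 1 := Finite.card_le_one_iff_subsingleton.2 inferInstance
  omega

variable {G Ω : Type*} [Group G] [MulAction G Ω] [FaithfulSMul G Ω] [Finite G] [Finite Ω]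
  [IsPretransitive G Ω]

theorem reduce_of_four_le (hΩ : 2 ≤ Nat.card Ω) (h4 : 4 ≤ Nat.card Ω)
    (hgoal : ¬ ((derSub G Ω).index + 1) ^ 2 ≤ Nat.card Ω) :
    2 ≤ (derSub G Ω).index ∧ ∃ (p : ℕ) (P : Subgroup G) (a : Ω), Residual G Ω p P a := by
  haveI := derSub_normal (G := G) (Ω := Ω)
  haveI := pretransitive (G := G) (Ω := Ω)
  haveI := Fintype.ofFinite G
  haveI : Nonempty Ω := (Nat.card_pos_iff.1 (by omega)).1
  set D := derSub G Ω with hD
  set i := D.index with hidef
  have hi : 2 ≤ i := by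
    have h0 : i ≠ 0 := D.index_ne_zero_of_finite
    by_contra hlt
    have h1 : i = 1 := by omega
    rw [h1] at hgoal
    omega
  refine ⟨hi, ?_⟩
  have hn1 : ∀ a : Ω, i ∣ Nat.card Ω - 1 := fun a => by
    have := dvd_of_mem (stab_cover (G := G) a) le_rfl (S := Set.univ) trivial
      (fun _ _ _ _ => trivial)
    rwa [Set.ncard_univ] at this
  obtain ⟨p, hp, hpn⟩ := Nat.exists_prime_and_dvd (show Nat.card Ω ≠ 1 by omega)
  haveI := Fact.mk hp
  obtain ⟨k, hk⟩ : ∃ k, Nat.card Ω = p ^ k := by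
    refine ⟨(Nat.card Ω).primeFactorsList.length, Nat.eq_prime_pow_of_unique_prime_dvd (by omega)
      fun {r} hr hrn => ?_⟩
    by_contra hne
    haveI := Fact.mk hr
    obtain ⟨j, hj, hij, hjn, -⟩ := step (G := G) hi hpn
    obtain ⟨l, hl, hil, hln, -⟩ := step (G := G) hi hrn
    refine hgoal ?_
    have hd : p ^ j * r ^ l ∣ Nat.card Ω :=
      (((Nat.coprime_primes hp hr).2 (Ne.symm hne)).pow j l).mul_dvd_of_dvd_of_dvd hjn hln
    have h2 := Nat.le_of_dvd (by omega) hd
    have hpj : 1 < p ^ j := Nat.one_lt_pow (by omega) hp.one_lt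
    have hrl : 1 < r ^ l := Nat.one_lt_pow (by omega) hr.one_lt
    have h3 := Nat.le_of_dvd (by omega) hij
    have h4 := Nat.le_of_dvd (by omega) hil
    calc (i + 1) ^ 2 = (i + 1) * (i + 1) := pow_two _
      _ ≤ p ^ j * r ^ l := Nat.mul_le_mul
          (show i + 1 ≤ p ^ j by have h3' : i ≤ p ^ j - 1 := h3; omega)
          (show i + 1 ≤ r ^ l by have h4' : i ≤ r ^ l - 1 := h4; omega)
      _ ≤ _ := h2
  obtain ⟨j, hj, hij, hjn, hfull⟩ := step (G := G) hi hpn
  have hjk : j = k := by
    rw [hk, Nat.pow_dvd_pow_iff_le_right hp.one_lt] at hjn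
    rcases hjn.eq_or_lt with h | h
    · exact h
    · exfalso
      refine hgoal ?_
      rw [hk]
      exact gcd_bound hp hj h hij (hk ▸ hn1 (Classical.arbitrary Ω))
  obtain ⟨P, a, hPp, hPD, hreg, hcard, hnd, hcov⟩ := hfull (by rw [hjk, hk])
  -- no invariant subgroups
  have hirr : ∀ M : Subgroup G, M ≤ stabilizer G a ⊓ normalizer (P : Set G) → M ⊔ D = ⊤ →
      ∀ X : Subgroup G, X ≤ P → M ≤ normalizer (X : Set G) → X = ⊥ ∨ X = P := by
    intro M hM hMc X hX hMX
    by_contra hcon
    push Not at hcon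
    have hst : stabilizer X a = ⊥ := by
      rw [Subgroup.eq_bot_iff_forall]
      intro x hx
      have hmem : (x : G) ∈ P ⊓ stabilizer G a := ⟨hX x.2, hx⟩
      rw [hreg, Subgroup.mem_bot] at hmem
      exact Subtype.ext hmem
    have horb : (orbit X a).ncard = Nat.card X := by
      rw [← index_stabilizer, hst, Subgroup.index_bot]
    have hd := dvd_of_mem hMc (hM.trans inf_le_left) (mem_orbit_self a) (S := orbit X a)
      (fun g hg x hx => orbit_invariant (hMX hg) (hM hg).1 hx)
    rw [horb] at hd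
    obtain ⟨l, hl⟩ := (hPp.to_le hX).exists_card_eq
    rw [hl] at hd
    have hl1 : 1 ≤ l := by
      rcases Nat.eq_zero_or_pos l with h | h
      · rw [h, pow_zero, Subgroup.card_eq_one] at hl
        exact absurd hl hcon.1
      · exact h
    have hlk : l < k := by
      have h1 : Nat.card X < Nat.card P := by
        by_contra h
        exact hcon.2 (Subgroup.eq_of_le_of_card_ge hX (by omega))
      rw [hl, hcard, hk] at h1
      exact (Nat.pow_lt_pow_iff_right hp.one_lt).1 h1
    refine hgoal ?_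
    rw [hk]
    exact gcd_bound hp hl1 hlk hd (hk ▸ hn1 a)
  set M := stabilizer G a ⊓ normalizer (P : Set G) with hM
  have hPne : P ≠ ⊥ := fun e => by
    rw [e, Subgroup.card_bot] at hcard
    omega
  have hcomm : ∀ x ∈ P, ∀ y ∈ P, x * y = y * x := by
    set Z := (Subgroup.center P).map P.subtype with hZ
    have hZP : Z ≤ P := map_subtype_le _
    rcases hirr M le_rfl hcov Z hZP (inf_le_right.trans
      (Cfsg.Agent.ComponentsCores.normalizer_le_normalizer_map_subtype P _)) with e | e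
    · exfalso
      haveI : Nontrivial P := (Subgroup.nontrivial_iff_ne_bot P).2 hPne
      haveI := hPp.center_nontrivial
      rw [hZ, (Subgroup.map_eq_bot_iff_of_injective _ P.subtype_injective)] at e
      exact (Subgroup.nontrivial_iff_ne_bot _).1 inferInstance e
    · intro x hx y hy
      obtain ⟨x', hx', rfl⟩ := (e.ge hx : x ∈ Z)
      exact (congrArg Subtype.val (Subgroup.mem_center_iff.1 hx' ⟨y, hy⟩)).symm
  have hPorb : ∀ x : Ω, ∃ y ∈ P, y • a = x := by
    have hst : stabilizer P a = ⊥ := by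
      rw [Subgroup.eq_bot_iff_forall]
      intro x hx
      have hmem : (x : G) ∈ P ⊓ stabilizer G a := ⟨x.2, hx⟩
      rw [hreg, Subgroup.mem_bot] at hmem
      exact Subtype.ext hmem
    have horb : orbit P a = Set.univ := Set.eq_of_subset_of_ncard_le (Set.subset_univ _) (by
      rw [← index_stabilizer, hst, Subgroup.index_bot, Set.ncard_univ, hcard])
    intro x
    obtain ⟨⟨y, hy⟩, rfl⟩ := (horb ▸ Set.mem_univ x : x ∈ orbit P a)
    exact ⟨y, hy, rfl⟩
  have hfree : Free P M D := by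
    refine ⟨hcomm, hPne, inf_le_right, inferInstance, hcov, fun x hx hxD v hv hc => ?_⟩
    by_contra hv1
    have hva : v • a ≠ a := fun h => hv1 (Subgroup.mem_bot.1 (hreg ▸ ⟨hv, h⟩))
    refine hxD (mem_of_fixes_two hva ?_ hx.1)
    rw [← mul_smul, hc, mul_smul]
    exact congrArg (v • ·) hx.1
  have hfaith : (M ⊓ D) ⊓ centralizer (P : Set G) = ⊥ := by
    rw [Subgroup.eq_bot_iff_forall]
    intro x hx
    refine FaithfulSMul.eq_of_smul_eq_smul (α := Ω) fun w => ?_
    obtain ⟨y, hy, rfl⟩ := hPorb w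
    rw [one_smul, ← mul_smul, ← Subgroup.mem_centralizer_iff.1 hx.2 y hy, mul_smul]
    exact congrArg (y • ·) hx.1.1.1
  have hfpf : ∀ h ∈ M ⊓ D, h ≠ 1 → fw P h = 0 := by
    intro h hh hh1
    by_contra hne
    obtain ⟨q, hq, hqd⟩ := Nat.exists_prime_and_dvd (fun e => hh1 (orderOf_eq_one_iff.1 e))
    haveI := Fact.mk hq
    set h' := h ^ (orderOf h / q) with hh'
    have ho : orderOf h' = q := by
      rw [hh', orderOf_pow_orderOf_div (orderOf_pos h).ne' hqd]
    have hh'm : h' ∈ M ⊓ D := pow_mem hh _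
    have hgroup : IsPGroup q (zpowers h') :=
      IsPGroup.of_card (n := 1) (by rw [Nat.card_zpowers, ho, pow_one])
    obtain ⟨U, hUge, hUle, hUp, -, hUcov⟩ :=
      exists_normalizer_cover hcov hgroup (zpowers_le.2 hh'm)
    have hF : Free P (M ⊓ normalizer (U : Set G)) D :=
      ⟨hfree.comm, hfree.nonBot, inf_le_left.trans hfree.norm, hfree.normal, hUcov,
        fun x hx => hfree.free x hx.1⟩
    refine hgoal ?_
    rw [← hcard]
    refine hF.count (U := U) (q := q)
      (fun X hX hMX => hirr _ inf_le_left hUcov X hX hMX)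
      (le_inf (le_inf (hUle.trans inf_le_left) Subgroup.le_normalizer) (hUle.trans inf_le_right))
      inf_le_right hUp (le_bot_iff.1 ((inf_le_inf_right _ hUle).trans hfaith.le))
      ⟨h', hUge (mem_zpowers h'), fun e => ?_, ?_⟩
    · rw [e, orderOf_one] at ho
      exact hq.one_lt.ne ho
    · have := fw_le_pow (V := P) (h := h) (orderOf h / q)
      rw [← hh'] at this
      omega
  refine ⟨p, P, a, hp, hPD, hcomm, hPp, hcard, hreg, hnd, hcov, fun u hu hu1 => ?_, hirr⟩
  -- the centralizer of a non-identity element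
  set Y := D ⊓ centralizer ({u} : Set G) with hY
  have hPY : P ≤ Y := le_inf hPD fun x hx =>
    Subgroup.mem_centralizer_singleton_iff.2 (hcomm x hx u hu)
  have hN : ∀ y ∈ Y, y ∈ normalizer (P : Set G) → y ∈ P := by
    intro y hy hyN
    obtain ⟨x, hx, e⟩ := hPorb (y • a)
    have hm : x⁻¹ * y ∈ M ⊓ D := by
      refine ⟨⟨?_, (normalizer (P : Set G)).mul_mem (Subgroup.le_normalizer (P.inv_mem hx)) hyN⟩,
        D.mul_mem (hPD (P.inv_mem hx)) hy.1⟩
      show (x⁻¹ * y) • a = a
      rw [mul_smul, inv_smul_eq_iff, e]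
    have hc : (x⁻¹ * y) * u = u * (x⁻¹ * y) :=
      Subgroup.mem_centralizer_singleton_iff.1 (mul_mem (inv_mem (hPY hx)) hy).2
    by_cases h1 : x⁻¹ * y = 1
    · rw [inv_mul_eq_one] at h1
      exact h1 ▸ hx
    · have h0 := hfpf _ hm h1
      rw [fw, Finset.card_eq_zero, Finset.filter_eq_empty_iff] at h0
      exact absurd ⟨hu, hu1, hc⟩ (h0 (Finset.mem_univ u))
  obtain ⟨S, hS⟩ := (hPp.comap_of_injective Y.subtype Y.subtype_injective).exists_le_sylow
  have hSP : (S : Subgroup Y) = P.subgroupOf Y := by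
    refine (Subgroup.eq_of_le_of_card_ge hS ?_).symm
    obtain ⟨m, hm⟩ := S.2.exists_card_eq
    show Nat.card (S : Subgroup Y) ≤ Nat.card (P.subgroupOf Y)
    rw [Nat.card_congr (Subgroup.subgroupOfEquivOfLe hPY).toEquiv, hcard, hm, hk]
    refine Nat.pow_le_pow_right hp.pos ?_
    by_contra hlt
    have h1 : p ^ k * p ∣ Nat.card D := by
      rw [← pow_succ]
      refine (pow_dvd_pow p (show k + 1 ≤ m by omega)).trans ?_
      rw [← hm]
      exact (Subgroup.card_subgroup_dvd_card _).trans (Subgroup.card_dvd_of_le inf_le_left)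
    have h2 : Nat.card D = p ^ k * Nat.card ↥(stabilizer G a ⊓ D) := by
      have e2 : Nat.card ↥(stabilizer G a ⊓ D) = Nat.card (stabilizer D a) := by
        refine Nat.card_congr
          { toFun := fun x => ⟨⟨x.1, x.2.2⟩, x.2.1⟩
            invFun := fun y => ⟨y.1.1, y.2, y.1.2⟩
            left_inv := fun x => rfl
            right_inv := fun y => rfl }
      rw [e2, ← hk, ← Subgroup.index_mul_card (stabilizer D a), index_stabilizer_of_transitive]
    rw [h2] at h1
    exact hnd ((Nat.mul_dvd_mul_iff_left (pow_pos hp.pos k)).1 h1)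
  have hburn : normalizer ((S : Subgroup Y) : Set Y) ≤ centralizer ((S : Subgroup Y) : Set Y) := by
    intro y hy
    have hyP : (y : G) ∈ P := by
      refine hN _ y.2 ?_
      rw [hSP] at hy
      have h1 : y ∈ (normalizer (P : Set G)).subgroupOf Y := by
        rw [Subgroup.subgroupOf_normalizer_eq hPY]
        exact hy
      exact h1
    rw [Subgroup.mem_centralizer_iff]
    intro z hz
    rw [hSP] at hz
    exact Subtype.ext (hcomm _ hz _ hyP)
  set N := (MonoidHom.transferSylow S hburn).ker with hN'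
  have hcompl := MonoidHom.ker_transferSylow_isComplement' S hburn
  have hpN := MonoidHom.not_dvd_card_ker_transferSylow S hburn
  have hYtrans : ∀ x : Ω, ∃ y : Y, y • a = x := fun x => by
    obtain ⟨y, hy, e⟩ := hPorb x
    exact ⟨⟨y, hPY hy⟩, e⟩
  have hsize : ∀ x : Ω, (orbit N x).ncard = (orbit N a).ncard := by
    intro x
    obtain ⟨y, rfl⟩ := hYtrans x
    have he : orbit N (y • a) = (fun w => y • w) '' orbit N a := by
      ext w
      constructor
      · rintro ⟨⟨m, hm⟩, rfl⟩
        refine ⟨(y⁻¹ * m * y) • a, ⟨⟨y⁻¹ * m * y, ?_⟩, rfl⟩, ?_⟩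
        · have := Subgroup.Normal.conj_mem (H := N) inferInstance _ hm y⁻¹
          simpa using this
        · show y • ((y⁻¹ * m * y) • a) = m • (y • a)
          rw [mul_smul, mul_smul, smul_inv_smul]
      · rintro ⟨_, ⟨⟨m, hm⟩, rfl⟩, rfl⟩
        refine ⟨⟨y * m * y⁻¹, Subgroup.Normal.conj_mem inferInstance _ hm y⟩, ?_⟩
        show (y * m * y⁻¹) • (y • a) = y • (m • a)
        rw [mul_smul, mul_smul, inv_smul_smul]
    rw [he, Set.ncard_image_of_injective _ (MulAction.injective y)]
  have hone : (orbit N a).ncard = 1 := by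
    have hd1 : (orbit N a).ncard ∣ Nat.card Ω := by
      haveI : Fintype (Quotient (orbitRel N Ω)) := Fintype.ofFinite _
      rw [Nat.card_congr (selfEquivSigmaOrbits N Ω), Nat.card_sigma]
      refine Finset.dvd_sum fun w _ => ?_
      rw [Nat.card_coe_set_eq]
      exact dvd_of_eq (hsize _).symm
    have hd2 : (orbit N a).ncard ∣ Nat.card N := by
      rw [← index_stabilizer]
      exact Subgroup.index_dvd_card _
    rw [hk] at hd1
    obtain ⟨m, -, hm⟩ := (Nat.dvd_prime_pow hp).1 hd1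
    rw [hm] at hd2 ⊢
    rcases Nat.eq_zero_or_pos m with h | h
    · rw [h, pow_zero]
    · exact absurd ((dvd_pow_self p h.ne').trans hd2) hpN
  have hNbot : N = ⊥ := by
    rw [Subgroup.eq_bot_iff_forall]
    intro m hm
    refine Subtype.ext (FaithfulSMul.eq_of_smul_eq_smul (α := Ω) fun x => ?_)
    obtain ⟨w, hw⟩ := Set.ncard_eq_one.1 ((hsize x).trans hone)
    have h1 : (m : G) • x ∈ orbit N x := ⟨⟨m, hm⟩, rfl⟩
    have h2 := mem_orbit_self (M := N) x
    rw [hw, Set.mem_singleton_iff] at h1 h2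
    rw [Subgroup.coe_one, one_smul, h1]
    exact h2.symm
  have hc := hcompl.card_mul
  rw [← hN', hNbot, Subgroup.card_bot, one_mul, show Nat.card (S : Subgroup Y) =
    Nat.card (P.subgroupOf Y) by rw [hSP],
    Nat.card_congr (Subgroup.subgroupOfEquivOfLe hPY).toEquiv] at hc
  exact (Subgroup.eq_of_le_of_card_ge hPY hc.ge).symm

theorem reduce (hΩ : 2 ≤ Nat.card Ω)
    (hna : ∀ N : Subgroup G, N.Normal → IsMulCommutative ↥N → N = ⊥)
    (hgoal : ¬ ((derSub G Ω).index + 1) ^ 2 ≤ Nat.card Ω) :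
    2 ≤ (derSub G Ω).index ∧ ∃ (p : ℕ) (P : Subgroup G) (a : Ω), Residual G Ω p P a :=
  reduce_of_four_le hΩ (four_le (G := G) hΩ hna) hgoal

end Cfsg.Agent.DerangeIndex
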