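import Cfsg.Agent.Lib.DerangeIndexFinal21

/-!
# Index of the derangement subgroup for transitive groups

For a transitive group of degree at least 4, either `(D.index + 1) ^ 2 ≤ n` or the group is a
primitive Frobenius group.
-/

set_option autoImplicit false
set_option linter.all false

namespace Cfsg.Agent.DerangeIndex

open Subgroup MulAction DerangementSubgroup
open scoped Classical Pointwise

universe u v

variable {G : Type u} {Ω : Type v} [Group G] [MulAction G Ω]

theorem residual_preprimitive [Finite G] [Finite Ω] [IsPretransitive G Ω] {p : ℕ}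
    {P : Subgroup G} {a : Ω} (hR : Residual G Ω p P a) : IsPreprimitive G Ω := by
  obtain ⟨hfree, htr⟩ := regular_free hR
  refine MulAction.IsPreprimitive.of_isTrivialBlock_base a ?_
  intro B haB hB
  set X := P ⊓ stabilizer G B with hX
  have hfix : ∀ g : G, ∀ b ∈ B, g • b ∈ B → g ∈ stabilizer G B := by
    intro g b hb hgb
    rw [mem_stabilizer_iff]
    by_contra hne
    have hd : Disjoint (g • B) ((1 : G) • B) := hB (by rw [one_smul]; exact hne)
    rw [one_smul] at hd
    exact Set.disjoint_left.1 hd (Set.smul_mem_smul_set hb) hgb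
  have hMX : stabilizer G a ⊓ normalizer (P : Set G) ≤ normalizer (X : Set G) := by
    intro g hg
    have hgB : g ∈ stabilizer G B := hfix g a haB (by rw [mem_stabilizer_iff.1 hg.1]; exact haB)
    rw [Subgroup.mem_normalizer_iff]
    intro h
    have e : g⁻¹ * (g * h * g⁻¹) * g = h := by group
    constructor
    · intro hh
      exact ⟨(Subgroup.mem_normalizer_iff.1 hg.2 h).1 hh.1, (stabilizer G B).mul_mem ((stabilizer G B).mul_mem hgB hh.2) ((stabilizer G B).inv_mem hgB)⟩
    · intro hh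
      exact ⟨(Subgroup.mem_normalizer_iff.1 hg.2 h).2 hh.1,
        e ▸ (stabilizer G B).mul_mem ((stabilizer G B).mul_mem ((stabilizer G B).inv_mem hgB) hh.2) hgB⟩
  rcases hR.irred _ le_rfl hR.cover X inf_le_left hMX with h | h
  · refine Or.inl fun x hx y hy => ?_
    suffices ∀ z ∈ B, z = a by rw [this x hx, this y hy]
    intro z hz
    obtain ⟨w, hw, rfl⟩ := htr z
    have hwX : w ∈ X := ⟨hw, hfix w a haB hz⟩
    rw [h, Subgroup.mem_bot] at hwX
    rw [hwX, one_smul]
  · refine Or.inr (Set.eq_univ_of_forall fun z => ?_)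
    obtain ⟨w, hw, rfl⟩ := htr z
    have hwB : w ∈ stabilizer G B := (h.ge hw).2
    rw [← mem_stabilizer_iff.1 hwB]
    exact Set.smul_mem_smul_set haB

/-- Either the derangement subgroup has small index, or the group is primitive Frobenius. -/
theorem index_or_frobenius [Finite G] [Finite Ω] [FaithfulSMul G Ω] [IsPretransitive G Ω]
    (h4 : 4 ≤ Nat.card Ω) (hgoal : ¬ ((derSub G Ω).index + 1) ^ 2 ≤ Nat.card Ω) :
    IsPreprimitive G Ω ∧ (∃ g : G, g ≠ 1 ∧ ∃ ω : Ω, g • ω = ω) ∧
      ∀ g : G, g ≠ 1 → Nat.card (fixedBy Ω g) ≤ 1 := by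
  haveI := derSub_normal (G := G) (Ω := Ω)
  haveI := pretransitive (G := G) (Ω := Ω)
  have hΩ : 2 ≤ Nat.card Ω := by omega
  haveI : Nonempty Ω := (Nat.card_pos_iff.1 (by omega)).1
  obtain ⟨hi, p, P, a, hR⟩ := reduce_of_four_le (G := G) hΩ h4 hgoal
  obtain ⟨hfree, htr⟩ := regular_free hR
  haveI := residual_preprimitive hR
  haveI := Fact.mk hR.prime
  refine ⟨inferInstance, ?_, ?_⟩
  · obtain ⟨g, hg⟩ : ∃ g : G, g ∉ derSub G Ω := by
      by_contra hcon
      push Not at hcon
      rw [(Subgroup.eq_top_iff' _).2 hcon, Subgroup.index_top] at hi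
      omega
    exact ⟨g, fun e => hg (e ▸ one_mem _), exists_fixed_of_notMem hg⟩
  have hna : ¬ ∀ N : Subgroup G, N.Normal → IsMulCommutative ↥N → N = ⊥ :=
    fun h => hgoal (main (G := G) hΩ h)
  push Not at hna
  obtain ⟨N, hN, hNc, hNb⟩ := hna
  haveI := transitive_of_normal (Ω := Ω) hNb
  have hNfree : ∀ x ∈ N, ∀ w : Ω, x • w = w → x = 1 := by
    intro x hx w hw
    refine FaithfulSMul.eq_of_smul_eq_smul (α := Ω) fun z => ?_
    obtain ⟨⟨y, hy⟩, rfl⟩ := exists_smul_eq N w z
    have hc : x * y = y * x := congrArg Subtype.val (hNc.is_comm.comm ⟨x, hx⟩ ⟨y, hy⟩)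
    show x • (y • w) = (1 : G) • (y • w)
    rw [one_smul, ← mul_smul, hc, mul_smul, hw]
  have hND : N ≤ derSub G Ω := by
    intro x hx
    by_contra hxD
    obtain ⟨w, hw⟩ := exists_fixed_of_notMem hxD
    exact hxD (hNfree x hx w hw ▸ one_mem _)
  have hNcard : Nat.card N = Nat.card Ω := by
    refine Nat.card_congr (Equiv.ofBijective (fun x : N => (x : G) • a) ⟨?_, ?_⟩)
    · intro x y h
      have h1 := hNfree _ (mul_mem (inv_mem y.2) x.2) a (by
        rw [mul_smul, inv_smul_eq_iff]; exact h)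
      exact Subtype.ext (inv_mul_eq_one.1 h1).symm
    · intro z
      obtain ⟨x, hx⟩ := exists_smul_eq N a z
      exact ⟨x, hx⟩
  obtain ⟨k, hk⟩ := hR.pGroup.exists_card_eq
  have hPN : P = N := by
    have hNp : IsPGroup p N := IsPGroup.of_card (n := k) (by rw [hNcard, ← hR.card, hk])
    have hsup : IsPGroup p ↥(P ⊔ N) := hR.pGroup.to_sup_of_normal_right hNp
    obtain ⟨m, hm⟩ := hsup.exists_card_eq
    have hmk : m ≤ k := by
      by_contra hlt
      have h1 : p ^ k * p ∣ Nat.card (derSub G Ω) := by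
        rw [← pow_succ]
        exact (pow_dvd_pow p (show k + 1 ≤ m by omega)).trans
          (hm ▸ Subgroup.card_dvd_of_le (sup_le hR.le hND))
      have h2 : Nat.card (derSub G Ω) =
          p ^ k * Nat.card ↥(stabilizer G a ⊓ derSub G Ω) := by
        have e2 : Nat.card ↥(stabilizer G a ⊓ derSub G Ω) =
            Nat.card (stabilizer (derSub G Ω) a) :=
          Nat.card_congr
            { toFun := fun x => ⟨⟨x.1, x.2.2⟩, x.2.1⟩
              invFun := fun y => ⟨y.1.1, y.2, y.1.2⟩
              left_inv := fun x => rfl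
              right_inv := fun y => rfl }
        rw [e2, ← hk, hR.card, ← Subgroup.index_mul_card (stabilizer (derSub G Ω) a),
          index_stabilizer_of_transitive]
      rw [h2] at h1
      exact hR.notDvd ((Nat.mul_dvd_mul_iff_left (pow_pos hR.prime.pos k)).1 h1)
    have hle : Nat.card ↥(P ⊔ N) ≤ p ^ k := hm ▸ Nat.pow_le_pow_right hR.prime.pos hmk
    exact (Subgroup.eq_of_le_of_card_ge le_sup_left (hle.trans hk.ge)).trans
      (Subgroup.eq_of_le_of_card_ge le_sup_right (hle.trans (by rw [hNcard, ← hR.card, hk]))).symm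
  intro g hg
  rw [Finite.card_le_one_iff_subsingleton]
  refine ⟨fun ⟨x, hx⟩ ⟨y, hy⟩ => Subtype.ext ?_⟩
  by_contra hxy
  have hgD := mem_of_fixes_two hxy hx hy
  obtain ⟨w, hw, rfl⟩ := htr x
  obtain ⟨u, hu, hue⟩ := htr (w⁻¹ • y)
  have hu1 : u ≠ 1 := by
    rintro rfl
    rw [one_smul, eq_inv_smul_iff] at hue
    exact hxy hue
  set h := w⁻¹ * g * w with hh
  have hha : h • a = a := by
    rw [hh, mul_smul, mul_smul, inv_smul_eq_iff]
    exact hx
  have hhu : h • (u • a) = u • a := by
    rw [hh, mul_smul, mul_smul, hue, smul_inv_smul]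
    exact congrArg (w⁻¹ • ·) hy
  have hhD : h ∈ derSub G Ω := by
    rw [hh]
    have := Subgroup.Normal.conj_mem (H := derSub G Ω) inferInstance g hgD w⁻¹
    simpa using this
  have hcm : h * u * h⁻¹ ∈ N := hN.conj_mem u (hPN ▸ hu) h
  have hfix : u⁻¹ * (h * u * h⁻¹) = 1 := by
    refine hNfree _ (mul_mem (inv_mem (hPN ▸ hu)) hcm) a ?_
    rw [mul_smul, mul_smul, mul_smul, show h⁻¹ • a = a by rw [inv_smul_eq_iff, hha], hhu,
      inv_smul_smul]
  have hcomm : h * u = u * h := by
    have := inv_mul_eq_one.1 hfix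
    rw [eq_mul_inv_iff_mul_eq] at this
    exact this.symm
  have hhP : h ∈ P := by
    rw [← hR.cent u hu hu1]
    exact ⟨hhD, Subgroup.mem_centralizer_singleton_iff.2 hcomm⟩
  have h1 : h = 1 := hNfree h (hPN ▸ hhP) a hha
  refine hg ?_
  have : g = w * h * w⁻¹ := by rw [hh]; group
  rw [this, h1]; group

end Cfsg.Agent.DerangeIndex
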