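import Mathlib

/-! Counting derangements of a transitive group; affine groups. -/

set_option autoImplicit false

namespace Cfsg.Agent.DerangementCount

open MulAction

variable {G Ω : Type*} [Group G] [MulAction G Ω]

/-- number of derangements -/
noncomputable def numDer (G Ω : Type*) [Group G] [MulAction G Ω] : ℕ :=
  Nat.card {g : G // ∀ ω : Ω, g • ω ≠ ω}

theorem sum_fix_eq [Finite Ω] [Fintype G] [IsPretransitive G Ω] [Nonempty Ω] :
    ∑ g : G, Nat.card (fixedBy Ω g) = Nat.card G := by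
  classical
  haveI := Fintype.ofFinite Ω
  haveI : Fintype (Quotient (orbitRel G Ω)) := Fintype.ofFinite _
  have h := sum_card_fixedBy_eq_card_orbits_mul_card_group G Ω
  have h1 : Fintype.card (Quotient (orbitRel G Ω)) = 1 := by
    haveI : Subsingleton (Quotient (orbitRel G Ω)) :=
      (MulAction.pretransitive_iff_subsingleton_quotient G Ω).1 ‹_›
    rw [Fintype.card_eq_one_iff]
    exact ⟨⟦Classical.arbitrary Ω⟧, fun _ => Subsingleton.elim _ _⟩
  rw [h1, one_mul] at h
  rw [Nat.card_eq_fintype_card, ← h]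
  exact Finset.sum_congr rfl fun g _ => Nat.card_eq_fintype_card

theorem card_fixedBy_one : Nat.card (fixedBy Ω (1 : G)) = Nat.card Ω :=
  Nat.card_congr (Equiv.subtypeUnivEquiv fun x => by simp)

/-- `#derangements ≥ n - 1`, with equality iff no nontrivial element fixes two points -/
theorem numDer_iff [Finite G] [Finite Ω] [IsPretransitive G Ω] (hΩ : 2 ≤ Nat.card Ω) :
    numDer G Ω + 1 = Nat.card Ω ↔ ∀ g : G, g ≠ 1 → Nat.card (fixedBy Ω g) ≤ 1 := by
  classical
  haveI : Nonempty Ω := (Nat.card_pos_iff.mp (by omega)).1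
  haveI := Fintype.ofFinite G
  have hsum := sum_fix_eq (G := G) (Ω := Ω)
  rw [← Finset.add_sum_erase Finset.univ _ (Finset.mem_univ (1 : G)), card_fixedBy_one] at hsum
  set D := Finset.univ.filter (fun g : G => ∀ ω : Ω, g • ω ≠ ω) with hD
  have hcard : numDer G Ω = D.card := by
    rw [numDer, Nat.card_eq_fintype_card, Fintype.card_subtype]
  have hnot : ∀ g : G, (¬ ∀ ω : Ω, g • ω ≠ ω) → 1 ≤ Nat.card (fixedBy Ω g) := by
    intro g hg
    push Not at hg
    obtain ⟨ω, hω⟩ := hg
    haveI : Nonempty (fixedBy Ω g) := ⟨⟨ω, hω⟩⟩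
    exact Nat.card_pos
  have h1D : (1 : G) ∉ D := by
    simp only [hD, Finset.mem_filter, Finset.mem_univ, true_and]
    exact fun h => h (Classical.arbitrary Ω) (one_smul _ _)
  have hzero : ∀ g ∈ D, Nat.card (fixedBy Ω g) = 0 := by
    intro g hg
    haveI : IsEmpty (fixedBy Ω g) := ⟨fun x => (Finset.mem_filter.mp hg).2 x.1 x.2⟩
    exact Nat.card_of_isEmpty
  set R := (Finset.univ.erase (1 : G)) \ D with hR
  have hDsub : D ⊆ Finset.univ.erase (1 : G) := fun g hg => Finset.mem_erase.mpr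
    ⟨fun e => h1D (e ▸ hg), Finset.mem_univ _⟩
  rw [← Finset.sum_sdiff hDsub, Finset.sum_eq_zero hzero, add_zero, ← hR] at hsum
  have hRcard : R.card + D.card + 1 = Nat.card G := by
    rw [hR, Finset.card_sdiff_add_card_eq_card hDsub, Finset.card_erase_add_one (Finset.mem_univ _),
      Finset.card_univ, Nat.card_eq_fintype_card]
  have hge : ∀ g ∈ R, 1 ≤ Nat.card (fixedBy Ω g) := by
    intro g hg
    refine hnot g fun h => (Finset.mem_sdiff.mp hg).2 ?_
    simp [hD, h]
  constructor
  · intro he g hg1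
    by_cases hgD : g ∈ D
    · rw [hzero g hgD]; exact Nat.zero_le 1
    have heq : ∑ g ∈ R, 1 = ∑ g ∈ R, Nat.card (fixedBy Ω g) := by
      rw [Finset.sum_const, smul_eq_mul, mul_one]; omega
    exact ((Finset.sum_eq_sum_iff_of_le hge).mp heq g (by simp [hR, hgD, hg1])).ge
  · intro hall
    have heq : ∑ g ∈ R, Nat.card (fixedBy Ω g) = R.card := by
      rw [Finset.card_eq_sum_ones]
      refine Finset.sum_congr rfl fun g hg => ?_
      exact le_antisymm (hall g (Finset.mem_erase.mp (Finset.mem_sdiff.mp hg).1).1) (hge g hg)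
    rw [heq] at hsum
    omega

theorem fix_le_one_iff [Finite Ω] {g : G} :
    Nat.card (fixedBy Ω g) ≤ 1 ↔ ∀ a b : Ω, a ≠ b → g • a = a → g • b ≠ b := by
  rw [Finite.card_le_one_iff_subsingleton]
  constructor
  · intro h a b hab ha hb
    exact hab (congrArg Subtype.val (h.elim (⟨a, ha⟩ : fixedBy Ω g) ⟨b, hb⟩))
  · intro h
    exact ⟨fun x y => Subtype.ext (by_contra fun hne => h x.1 y.1 hne x.2 y.2)⟩

/-- 2-transitivity from transitivity of a stabilizer on the other points -/
theorem two_transitive [IsPretransitive G Ω] (α : Ω)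
    (h : ∀ b c : Ω, b ≠ α → c ≠ α → ∃ g : G, g • α = α ∧ g • b = c) :
    IsMultiplyPretransitive G Ω 2 := by
  rw [is_two_pretransitive_iff]
  intro a b c d hab hcd
  obtain ⟨g, hg⟩ := exists_smul_eq G a α
  obtain ⟨k, hk⟩ := exists_smul_eq G c α
  obtain ⟨m, hm1, hm2⟩ := h (g • b) (k • d)
    (fun e => hab (MulAction.injective g (hg.trans e.symm)))
    (fun e => hcd (MulAction.injective k (hk.trans e.symm)))
  refine ⟨k⁻¹ * m * g, ?_, ?_⟩
  · rw [mul_smul, mul_smul, hg, hm1, ← hk, inv_smul_smul]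
  · rw [mul_smul, mul_smul, hm2, inv_smul_smul]

/-- Conjugation inside an abelian regular normal subgroup describes the action of a stabilizer. -/
theorem two_transitive_of_conj [IsPretransitive G Ω] (N : Subgroup G) (hn : N.Normal)
    (hab : IsMulCommutative N) [IsPretransitive N Ω]
    (h : ∀ m ∈ N, ∀ m' ∈ N, m ≠ 1 → m' ≠ 1 → IsConj m m') (α : Ω) :
    IsMultiplyPretransitive G Ω 2 := by
  refine two_transitive α fun b c hb hc => ?_
  obtain ⟨m, hm⟩ := exists_smul_eq N α b
  obtain ⟨m', hm'⟩ := exists_smul_eq N α c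
  have h1 : (m : G) ≠ 1 := fun e => hb (by rw [← hm, Subgroup.smul_def, e, one_smul])
  have h2 : (m' : G) ≠ 1 := fun e => hc (by rw [← hm', Subgroup.smul_def, e, one_smul])
  obtain ⟨g, hg⟩ := isConj_iff.mp (h _ m.2 _ m'.2 h1 h2)
  obtain ⟨k, hk⟩ := exists_smul_eq N (g • α) α
  refine ⟨(k : G) * g, by rw [mul_smul]; exact hk, ?_⟩
  have hcomm : (k : G) * m' = m' * k := congrArg Subtype.val (hab.is_comm.comm k m')
  rw [← hm, ← hm', Subgroup.smul_def, Subgroup.smul_def, ← mul_smul,
    show ((k : G) * g) * m = ((k : G) * (g * m * g⁻¹)) * g by group, hg, hcomm, mul_assoc, mul_smul]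
  congr 1
  rw [mul_smul]; exact hk

end Cfsg.Agent.DerangementCount
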