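import Mathlib

set_option autoImplicit false
set_option linter.all false

namespace Cfsg.Agent.DerivedLengthLower73

open scoped commutatorElement

/-- `G` has a `p`-subgroup whose `k`-th derived subgroup is nontrivial. -/
def HasPDL (p k : ℕ) (G : Type*) [Group G] : Prop :=
  ∃ H : Subgroup G, IsPGroup p H ∧ derivedSeries ↥H k ≠ ⊥

theorem derivedSeries_ne_bot_of_injective {G G' : Type*} [Group G] [Group G'] (f : G →* G')
    (hf : Function.Injective f) {k : ℕ} (h : derivedSeries G k ≠ ⊥) : derivedSeries G' k ≠ ⊥ := by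
  intro h'
  apply h
  rw [eq_bot_iff]
  intro x hx
  have h1 := map_derivedSeries_le_derivedSeries f k (Subgroup.mem_map_of_mem f hx)
  rw [h', Subgroup.mem_bot] at h1
  exact Subgroup.mem_bot.mpr (hf (h1.trans (map_one f).symm))

theorem HasPDL.mono {p k : ℕ} {G G' : Type*} [Group G] [Group G'] (h : HasPDL p k G) (f : G →* G')
    (hf : Function.Injective f) : HasPDL p k G' := by
  obtain ⟨H, hH, hne⟩ := h
  exact ⟨H.map f, hH.map f, derivedSeries_ne_bot_of_injective
    (H.equivMapOfInjective f hf).toMonoidHom (H.equivMapOfInjective f hf).injective hne⟩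

theorem HasPDL.sylow {p k : ℕ} [Fact p.Prime] {G : Type*} [Group G] [Finite G] (h : HasPDL p k G)
    (P : Sylow p G) : derivedSeries ↥(P : Subgroup G) k ≠ ⊥ := by
  obtain ⟨H, hH, hne⟩ := h
  obtain ⟨Q, hQ⟩ := hH.exists_le_sylow
  have h1 := derivedSeries_ne_bot_of_injective (Subgroup.inclusion hQ)
    (Subgroup.inclusion_injective hQ) hne
  exact derivedSeries_ne_bot_of_injective (Sylow.equiv Q P).toMonoidHom
    (Sylow.equiv Q P).injective h1

theorem lift_first {W H : Type*} [Group W] [Group H] {ι : Type*} [DecidableEq ι]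
    (Φ : (ι → W) →* H) (s : H) (σ : Equiv.Perm ι) (i0 : ι) (hσ : σ i0 ≠ i0)
    (hs : ∀ f, s * Φ f * s⁻¹ = Φ (fun i => f (σ i))) (k : ℕ) :
    derivedSeries W k ≤ ((derivedSeries H (k + 1)).comap Φ).map (Pi.evalMonoidHom (fun _ => W) i0) := by
  induction k with
  | zero =>
    intro g _
    obtain ⟨u, hu0, hu⟩ : ∃ u : ι → W, u i0 = g ∧ u (σ i0) = 1 :=
      ⟨Pi.mulSingle i0 g, by simp, by simp [hσ]⟩
    refine ⟨u * fun i => u⁻¹ (σ i), ?_, ?_⟩
    · show Φ _ ∈ derivedSeries H 1
      rw [map_mul, ← hs, map_inv, derivedSeries_one, commutator_def]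
      have h := Subgroup.commutator_mem_commutator (Subgroup.mem_top (Φ u))
        (Subgroup.mem_top s)
      rwa [commutatorElement_def, mul_assoc, mul_assoc, ← mul_assoc s] at h
    · simp [hu0, hu]
  | succ k ih =>
    rw [derivedSeries_succ, Subgroup.commutator_le]
    intro a ha b hb
    obtain ⟨f, hf, rfl⟩ := ih ha
    obtain ⟨f', hf', rfl⟩ := ih hb
    refine ⟨⁅f, f'⁆, ?_, map_commutatorElement _ _ _⟩
    show Φ _ ∈ derivedSeries H (k + 1 + 1)
    rw [derivedSeries_succ, map_commutatorElement]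
    exact Subgroup.commutator_mem_commutator hf hf'

theorem HasPDL.step {p k : ℕ} [Fact p.Prime] {G G' : Type*} [Group G] [Group G'] [Finite G]
    {ι : Type*} [Fintype ι] [DecidableEq ι] (h : HasPDL p k G) (Φ : (ι → G) →* G')
    (hΦ : Function.Injective Φ) (s : G') (σ : Equiv.Perm ι) (i0 : ι) (hσ : σ i0 ≠ i0)
    (hs : ∀ f, s * Φ f * s⁻¹ = Φ (fun i => f (σ i))) (hsord : ∃ m, s ^ p ^ m = 1) :
    HasPDL p (k + 1) G' := by
  obtain ⟨H, hH, hne⟩ := h
  let Ψ : (ι → H) →* G' := Φ.comp (Pi.monoidHom fun i => H.subtype.comp (Pi.evalMonoidHom _ i))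
  have hΨ : Function.Injective Ψ := fun f f' hff => funext fun i => Subtype.ext (congrFun (hΦ hff) i)
  have hsΨ : ∀ f, s * Ψ f * s⁻¹ = Ψ (fun i => f (σ i)) := fun f => hs _
  have hW : IsPGroup p (ι → H) := by
    obtain ⟨a, ha⟩ := IsPGroup.iff_card.mp hH
    exact IsPGroup.iff_card.mpr ⟨a * Fintype.card ι, by
      rw [Nat.card_fun, ha, ← pow_mul, Nat.card_eq_fintype_card]⟩
  have hK : IsPGroup p Ψ.range := hW.of_surjective Ψ.rangeRestrict Ψ.rangeRestrict_surjective
  have hS : IsPGroup p (Subgroup.zpowers s) := by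
    obtain ⟨m, hm⟩ := hsord
    obtain ⟨j, _, hj⟩ := (Nat.dvd_prime_pow Fact.out).mp (orderOf_dvd_of_pow_eq_one hm)
    exact IsPGroup.of_card (n := j) (by rw [Nat.card_zpowers, hj])
  have hnorm : Subgroup.zpowers s ≤ Subgroup.normalizer Ψ.range := by
    rw [Subgroup.zpowers_le, Subgroup.mem_normalizer_iff]
    intro x
    constructor
    · rintro ⟨f, rfl⟩
      exact ⟨_, (hsΨ f).symm⟩
    · rintro ⟨f, hf⟩
      refine ⟨fun i => f (σ.symm i), ?_⟩
      have h1 := hsΨ (fun i => f (σ.symm i))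
      simp only [Equiv.symm_apply_apply] at h1
      exact mul_left_cancel (mul_right_cancel (h1.trans hf))
  set M : Subgroup G' := Ψ.range ⊔ Subgroup.zpowers s with hM
  refine ⟨M, hK.to_sup_of_normal_left' hS hnorm, ?_⟩
  let Ψ' : (ι → H) →* M := Ψ.codRestrict M fun f => (le_sup_left : Ψ.range ≤ M) ⟨f, rfl⟩
  let s' : M := ⟨s, (le_sup_right : Subgroup.zpowers s ≤ M) (Subgroup.mem_zpowers s)⟩
  have hlift := lift_first Ψ' s' σ i0 hσ (fun f => Subtype.ext (hsΨ f)) k
  intro hbot
  apply hne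
  rw [eq_bot_iff]
  intro g hg
  obtain ⟨f, hf, rfl⟩ := hlift hg
  have hf' : Ψ' f ∈ derivedSeries (↥M) (k + 1) := hf
  rw [hbot, Subgroup.mem_bot] at hf'
  have : f = 1 := hΨ ((congrArg Subtype.val hf').trans (map_one Ψ).symm)
  simp [this]

variable {F : Type*} [Field F]

theorem blockDiagonal_conj {m o : Type*} [Fintype m] [DecidableEq m] [Fintype o] [DecidableEq o]
    (σ : Equiv.Perm o) (f : o → Matrix m m F) :
    ((Equiv.prodCongr (Equiv.refl m) σ).toPEquiv.toMatrix : Matrix (m × o) (m × o) F) *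
      Matrix.blockDiagonal f * (Equiv.prodCongr (Equiv.refl m) σ).symm.toPEquiv.toMatrix =
      Matrix.blockDiagonal (fun i => f (σ i)) := by
  rw [PEquiv.toMatrix_toPEquiv_mul, PEquiv.mul_toMatrix_toPEquiv]
  ext ⟨i, a⟩ ⟨j, b⟩
  simp [Matrix.blockDiagonal_apply, σ.injective.eq_iff]

/-- Permutation of blocks as an invertible matrix. -/
def permUnit (R : Type*) [CommRing R] {n : Type*} [Fintype n] [DecidableEq n] (τ : Equiv.Perm n) :
    (Matrix n n R)ˣ where
  val := τ.toPEquiv.toMatrix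
  inv := τ.symm.toPEquiv.toMatrix
  val_inv := by rw [← PEquiv.toMatrix_trans, ← Equiv.toPEquiv_trans, Equiv.self_trans_symm, Equiv.toPEquiv_refl, PEquiv.toMatrix_refl]
  inv_val := by rw [← PEquiv.toMatrix_trans, ← Equiv.toPEquiv_trans, Equiv.symm_trans_self, Equiv.toPEquiv_refl, PEquiv.toMatrix_refl]

theorem permUnit_pow (R : Type*) [CommRing R] {n : Type*} [Fintype n] [DecidableEq n]
    (τ : Equiv.Perm n) (j : ℕ) : permUnit R τ ^ j = permUnit R (τ ^ j) := by
  induction j with
  | zero => exact Units.ext (by simp [permUnit, Equiv.Perm.one_def])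
  | succ j ih =>
    rw [pow_succ', ih]
    refine Units.ext ?_
    simp only [permUnit, Units.val_mul]
    rw [← PEquiv.toMatrix_trans, ← Equiv.toPEquiv_trans, pow_succ, Equiv.Perm.mul_def]

theorem permUnit_prodCongr_pow (R : Type*) [CommRing R] {m o : Type*} [Fintype m] [DecidableEq m]
    [Fintype o] [DecidableEq o] (σ : Equiv.Perm o) (j : ℕ) (hj : σ ^ j = 1) :
    permUnit R (Equiv.prodCongr (Equiv.refl m) σ) ^ j = 1 := by
  rw [permUnit_pow]
  have h : ∀ i, (Equiv.prodCongr (Equiv.refl m) σ : Equiv.Perm (m × o)) ^ i =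
      Equiv.prodCongr (Equiv.refl m) (σ ^ i) := by
    intro i
    induction i with
    | zero => ext x <;> simp
    | succ i ih => rw [pow_succ, ih, pow_succ]; ext x <;> simp
  rw [h, hj]
  refine Units.ext ?_
  show ((Equiv.prodCongr (Equiv.refl m) (Equiv.refl o)).toPEquiv.toMatrix : Matrix (m × o) (m × o) R) = 1
  rw [show Equiv.prodCongr (Equiv.refl m) (Equiv.refl o) = Equiv.refl (m × o) from Equiv.ext fun x => rfl, Equiv.toPEquiv_refl, PEquiv.toMatrix_refl]

/-! General linear group -/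

theorem gl_reindex {p k : ℕ} {a b : Type*} [Fintype a] [DecidableEq a] [Fintype b] [DecidableEq b]
    (e : a ≃ b) (h : HasPDL p k (GL a F)) : HasPDL p k (GL b F) :=
  h.mono (Units.map (Matrix.reindexAlgEquiv F F e : Matrix a a F ≃ₐ[F] Matrix b b F).toRingEquiv.toRingHom.toMonoidHom)
    (Units.map_injective (Matrix.reindexAlgEquiv F F e).injective)

/-- `A ↦ diag(A, 1)`. -/
def padHom (a b : Type*) [Fintype a] [DecidableEq a] [Fintype b] [DecidableEq b] :
    Matrix a a F →* Matrix (a ⊕ b) (a ⊕ b) F where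
  toFun A := Matrix.fromBlocks A 0 0 1
  map_one' := Matrix.fromBlocks_one
  map_mul' A B := by rw [Matrix.fromBlocks_multiply]; simp

theorem padHom_injective (a b : Type*) [Fintype a] [DecidableEq a] [Fintype b] [DecidableEq b] :
    Function.Injective (padHom (F := F) a b) := fun A B h => (Matrix.fromBlocks_inj.mp h).1

theorem gl_pad {p k : ℕ} {d n : ℕ} (hdn : d ≤ n) (h : HasPDL p k (GL (Fin d) F)) :
    HasPDL p k (GL (Fin n) F) :=
  gl_reindex (finSumFinEquiv.trans (finCongr (Nat.add_sub_of_le hdn)))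
    (h.mono (Units.map (padHom (Fin d) (Fin (n - d)))) (Units.map_injective (padHom_injective _ _)))

theorem gl_step [Finite F] {p k : ℕ} [Fact p.Prime] {m : ℕ} (h : HasPDL p k (GL (Fin m) F)) :
    HasPDL p (k + 1) (GL (Fin (m * p)) F) := by
  have hp : p.Prime := Fact.out
  obtain ⟨q, hq⟩ : ∃ q, p = q + 2 := ⟨p - 2, by have := hp.two_le; omega⟩
  subst hq
  let R := Matrix.blockDiagonalRingHom (Fin m) (Fin (q + 2)) F
  let Φ : (Fin (q + 2) → GL (Fin m) F) →* GL (Fin m × Fin (q + 2)) F :=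
    (Units.map R.toMonoidHom).comp MulEquiv.piUnits.symm.toMonoidHom
  have hR : Function.Injective R := Matrix.blockDiagonal_injective
  refine gl_reindex finProdFinEquiv (h.step Φ ((Units.map_injective hR).comp MulEquiv.piUnits.symm.injective)
    (permUnit F (Equiv.prodCongr (Equiv.refl _) (finRotate (q + 2)))) (finRotate (q + 2)) 0 ?_ ?_ ?_)
  · simp [finRotate_succ_apply]
  · intro f
    exact Units.ext (blockDiagonal_conj (finRotate (q + 2)) fun i => (f i : Matrix (Fin m) (Fin m) F))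
  · refine ⟨1, permUnit_prodCongr_pow F _ _ ?_⟩
    rw [pow_one]
    have h1 := (isCycle_finRotate (n := q)).orderOf
    rw [support_finRotate, Finset.card_univ, Fintype.card_fin] at h1
    exact orderOf_dvd_iff_pow_eq_one.mp h1.dvd

/-! Symplectic group -/

/-- A star-preserving monoid hom matching the forms restricts to symplectic groups. -/
def spMap {a b : Type*} [Fintype a] [DecidableEq a] [Fintype b] [DecidableEq b]
    (f : Matrix (a ⊕ a) (a ⊕ a) F →* Matrix (b ⊕ b) (b ⊕ b) F) (ht : ∀ A, f A.transpose = (f A).transpose)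
    (hJ : f (Matrix.J a F) = Matrix.J b F) : Matrix.symplecticGroup a F →* Matrix.symplecticGroup b F where
  toFun A := ⟨f A.1, by
    rw [SymplecticGroup.mem_iff, ← hJ, ← ht, ← map_mul, ← map_mul, SymplecticGroup.mem_iff.mp A.2]⟩
  map_one' := Subtype.ext (map_one f)
  map_mul' A B := Subtype.ext (map_mul f A.1 B.1)

theorem spMap_injective {a b : Type*} [Fintype a] [DecidableEq a] [Fintype b] [DecidableEq b]
    (f : Matrix (a ⊕ a) (a ⊕ a) F →* Matrix (b ⊕ b) (b ⊕ b) F) (ht : ∀ A, f A.transpose = (f A).transpose)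
    (hJ : f (Matrix.J a F) = Matrix.J b F) (hf : Function.Injective f) :
    Function.Injective (spMap f ht hJ) := fun A B h => Subtype.ext (hf (congrArg Subtype.val h))

theorem sp_reindex {p k : ℕ} {a b : Type*} [Fintype a] [DecidableEq a] [Fintype b] [DecidableEq b]
    (e : a ≃ b) (h : HasPDL p k (Matrix.symplecticGroup a F)) :
    HasPDL p k (Matrix.symplecticGroup b F) :=
  h.mono (spMap (Matrix.reindexAlgEquiv F F (Equiv.sumCongr e e)).toRingEquiv.toRingHom.toMonoidHom
      (fun A => rfl)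
      (by
        ext x y
        rcases x with x | x <;> rcases y with y | y <;>
          simp [Matrix.J, Matrix.one_apply, e.symm.injective.eq_iff]))
    (spMap_injective _ _ _ (Matrix.reindexAlgEquiv F F (Equiv.sumCongr e e)).injective)

theorem sp_pad {p k : ℕ} {d n : ℕ} (hdn : d ≤ n) (h : HasPDL p k (Matrix.symplecticGroup (Fin d) F)) :
    HasPDL p k (Matrix.symplecticGroup (Fin n) F) := by
  let a := Fin d
  let b := Fin (n - d)
  let e := Equiv.sumSumSumComm a a b b
  let f : Matrix (a ⊕ a) (a ⊕ a) F →* Matrix ((a ⊕ b) ⊕ (a ⊕ b)) ((a ⊕ b) ⊕ (a ⊕ b)) F :=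
  { toFun := fun A => Matrix.reindex e e (Matrix.fromBlocks A 0 0 1)
    map_one' := by simp [Matrix.fromBlocks_one]
    map_mul' := fun A B => by
      simp only [Matrix.reindex_apply, Matrix.submatrix_mul_equiv, Matrix.fromBlocks_multiply]
      simp }
  -- `f` does not match the forms (it sends `J` to `diag(J, 1)`), so correct the second block
  let g : Matrix.symplecticGroup a F →* Matrix.symplecticGroup (a ⊕ b) F :=
  { toFun := fun A => ⟨f A.1, by
      have hJ : Matrix.J (a ⊕ b) F =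
          Matrix.reindex e e (Matrix.fromBlocks (Matrix.J a F) 0 0 (Matrix.J b F)) := by
        ext x y
        rcases x with (x | x) | (x | x) <;> rcases y with (y | y) | (y | y) <;>
          simp [Matrix.J, Matrix.one_apply, e]
      rw [SymplecticGroup.mem_iff, hJ]
      show Matrix.reindex e e _ * _ * (Matrix.reindex e e _).transpose = _
      rw [Matrix.transpose_reindex]
      simp only [Matrix.reindex_apply, Matrix.submatrix_mul_equiv, Matrix.fromBlocks_multiply,
        Matrix.fromBlocks_transpose]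
      simp [SymplecticGroup.mem_iff.mp A.2]⟩
    map_one' := Subtype.ext (map_one f)
    map_mul' := fun A B => Subtype.ext (map_mul f A.1 B.1) }
  have hg : Function.Injective g := fun A B hAB => Subtype.ext
    ((Matrix.fromBlocks_inj.mp ((Matrix.reindex e e).injective (congrArg Subtype.val hAB))).1)
  exact sp_reindex (finSumFinEquiv.trans (finCongr (Nat.add_sub_of_le hdn))) (h.mono g hg)

theorem sp_step [Finite F] {k : ℕ} {m : ℕ} (h : HasPDL 2 k (Matrix.symplecticGroup (Fin m) F)) :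
    HasPDL 2 (k + 1) (Matrix.symplecticGroup (Fin (m * 2)) F) := by
  let a := Fin m
  let D := Equiv.sumProdDistrib a a (Fin 2)
  let R : (Fin 2 → Matrix (a ⊕ a) (a ⊕ a) F) →+* Matrix ((a × Fin 2) ⊕ (a × Fin 2)) ((a × Fin 2) ⊕ (a × Fin 2)) F :=
    (Matrix.reindexAlgEquiv F F D).toRingEquiv.toRingHom.comp (Matrix.blockDiagonalRingHom (a ⊕ a) (Fin 2) F)
  have hR : Function.Injective R :=
    (Matrix.reindexAlgEquiv F F D).injective.comp Matrix.blockDiagonal_injective
  have hRt : ∀ f, R (fun i => (f i).transpose) = (R f).transpose := fun f => by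
    show Matrix.reindex D D (Matrix.blockDiagonal fun i => (f i).transpose) =
      (Matrix.reindex D D (Matrix.blockDiagonal f)).transpose
    rw [Matrix.transpose_reindex, Matrix.blockDiagonal_transpose]
  have hRJ : R (fun _ => Matrix.J a F) = Matrix.J (a × Fin 2) F := by
    ext x y
    rcases x with ⟨x, i⟩ | ⟨x, i⟩ <;> rcases y with ⟨y, j⟩ | ⟨y, j⟩ <;>
      simp [R, D, Matrix.J, Matrix.one_apply, Matrix.blockDiagonal_apply, Prod.ext_iff, and_comm, ite_and] <;>
      split_ifs <;> simp_all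
  let Φ : (Fin 2 → Matrix.symplecticGroup a F) →* Matrix.symplecticGroup (a × Fin 2) F :=
  { toFun := fun f => ⟨R fun i => (f i).1, by
      rw [SymplecticGroup.mem_iff, ← hRJ, ← hRt, ← map_mul, ← map_mul]
      exact congrArg R (funext fun i => SymplecticGroup.mem_iff.mp (f i).2)⟩
    map_one' := Subtype.ext (map_one R)
    map_mul' := fun f g => Subtype.ext (map_mul R _ _) }
  have hΦ : Function.Injective Φ := fun f g hfg => funext fun i => Subtype.ext
    (congrFun (hR (congrArg Subtype.val hfg)) i)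
  let σ : Equiv.Perm (Fin 2) := Equiv.swap 0 1
  let τ : Equiv.Perm ((a ⊕ a) × Fin 2) := Equiv.prodCongr (Equiv.refl _) σ
  let E : Matrix ((a ⊕ a) × Fin 2) ((a ⊕ a) × Fin 2) F →* Matrix ((a × Fin 2) ⊕ (a × Fin 2)) ((a × Fin 2) ⊕ (a × Fin 2)) F :=
    (Matrix.reindexAlgEquiv F F D).toRingEquiv.toRingHom.toMonoidHom
  let u := Units.map E (permUnit F τ)
  have hu1 : u.1 = E τ.toPEquiv.toMatrix := rfl
  have hu2 : (u⁻¹).1 = E τ.symm.toPEquiv.toMatrix := rfl
  have hRE : ∀ f, R f = E (Matrix.blockDiagonal f) := fun f => rfl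
  have hu : ∀ f : Fin 2 → Matrix (a ⊕ a) (a ⊕ a) F, u.1 * R f * (u⁻¹).1 = R (fun i => f (σ i)) := fun f => by
    rw [hu1, hu2, hRE, hRE, ← map_mul, ← map_mul]
    exact congrArg E (blockDiagonal_conj σ f)
  have hEt : ∀ A, E A.transpose = (E A).transpose := fun A => rfl
  have hut : (u⁻¹).1 = u.1.transpose := by
    rw [hu1, hu2, ← hEt]
    congr 1
    rw [← PEquiv.toMatrix_symm, Equiv.toPEquiv_symm]
  have hmem : u.1 ∈ Matrix.symplecticGroup (a × Fin 2) F := by
    rw [SymplecticGroup.mem_iff, ← hut, ← hRJ, hu]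
  let s : Matrix.symplecticGroup (a × Fin 2) F := ⟨u.1, hmem⟩
  refine sp_reindex finProdFinEquiv (h.step Φ hΦ s σ 0 (by simp [σ]) (fun f => ?_) ⟨1, ?_⟩)
  · rw [mul_inv_eq_iff_eq_mul]
    apply Subtype.ext
    show u.1 * R (fun i => (f i).1) = R (fun i => (f (σ i)).1) * u.1
    rw [← hu (fun i => (f i).1), mul_assoc, Units.inv_mul, mul_one]
  · apply Subtype.ext
    have h1 : u ^ 2 ^ 1 = 1 := by
      rw [← map_pow, permUnit_prodCongr_pow F σ _ (by simp [σ, sq]), map_one]
    simpa using congrArg Units.val h1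

end Cfsg.Agent.DerivedLengthLower73
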