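import Mathlib
import Cfsg.Agent.Lib.PGroupsHallPetrescu

/-!
# Mann's bound on the order of a `p`-group of given derived length

If `N` is a normal subgroup of a finite `p`-group contained in the `w`-th term of the lower central
series and the `m`-th derived subgroup of `N` is not trivial, then `|N|` is at least
`p ^ ((2 ^ m - 1) w + 2 m - 1)` for `m ≥ 2`.  The proof follows the chain `[N, P, ..., P]`: either
its first factor is cyclic, which shifts the weight of `N'`, or `|N : N'|` is one step larger, or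
the next first factor is cyclic.
-/

set_option autoImplicit false

namespace Cfsg.Agent.DerivedLengthMann4

open Subgroup
open scoped commutatorElement
open Cfsg.Agent.PGroupsHallPetrescu (Gf commutator_rotate_le commutator_mem_Gf Gf_one Gf_antitone)

universe u

variable {P : Type u} [Group P]

/-- The chain `N, [N, P], [N, P, P], …`. -/
def chain (N : Subgroup P) : ℕ → Subgroup P
  | 0 => N
  | t + 1 => ⁅chain N t, ⊤⁆

theorem chain_succ' (N : Subgroup P) (t : ℕ) : chain ⁅N, (⊤ : Subgroup P)⁆ t = chain N (t + 1) := by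
  induction t with
  | zero => rfl
  | succ t ih => simp only [chain] at ih ⊢; rw [ih]

theorem chain_normal (N : Subgroup P) [N.Normal] : ∀ t, (chain N t).Normal
  | 0 => inferInstanceAs N.Normal
  | t + 1 => by
    haveI := chain_normal N t
    exact inferInstanceAs (⁅chain N t, (⊤ : Subgroup P)⁆).Normal

theorem chain_succ_le (N : Subgroup P) [N.Normal] (t : ℕ) : chain N (t + 1) ≤ chain N t := by
  haveI := chain_normal N t
  exact Subgroup.commutator_le_left (chain N t) ⊤

theorem chain_antitone (N : Subgroup P) [N.Normal] {s t : ℕ} (h : s ≤ t) :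
    chain N t ≤ chain N s :=
  antitone_nat_of_succ_le (chain_succ_le N) h

theorem commutator_le_Gf {H K : Subgroup P} {i j : ℕ} (hH : H ≤ Gf P i) (hK : K ≤ Gf P j) :
    ⁅H, K⁆ ≤ Gf P (i + j) :=
  Subgroup.commutator_le.2 fun _ ha _ hb => commutator_mem_Gf (hH ha) (hK hb)

theorem chain_le_Gf {N : Subgroup P} {w : ℕ} (h : N ≤ Gf P w) : ∀ t, chain N t ≤ Gf P (w + t)
  | 0 => h
  | t + 1 => commutator_le_Gf (j := 1) (chain_le_Gf h t) le_top

/-- `[N, γ_w] ≤ [N, P, ..., P]` with `w` copies of `P`. -/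
theorem commutator_Gf_le_chain : ∀ (w : ℕ) (N : Subgroup P) [N.Normal],
    ⁅N, Gf P (w + 1)⁆ ≤ chain N (w + 1)
  | 0, N, _ => le_rfl
  | w + 1, N, hN => by
    haveI := chain_normal N (w + 2)
    have hGf : Gf P (w + 2) = ⁅Gf P (w + 1), (⊤ : Subgroup P)⁆ := rfl
    rw [commutator_comm, hGf]
    refine commutator_rotate_le ?_ ?_
    · rw [commutator_comm (⊤ : Subgroup P) N, ← chain_succ']
      exact commutator_Gf_le_chain w ⁅N, (⊤ : Subgroup P)⁆
    · exact commutator_mono (commutator_Gf_le_chain w N) le_rfl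

theorem commutator_le_chain {N K : Subgroup P} [N.Normal] {w : ℕ} (hw : 1 ≤ w)
    (hK : K ≤ Gf P w) : ⁅N, K⁆ ≤ chain N w := by
  obtain ⟨v, rfl⟩ : ∃ v, w = v + 1 := ⟨w - 1, by omega⟩
  exact (commutator_mono le_rfl hK).trans (commutator_Gf_le_chain v N)

/-- Generators commuting modulo a normal subgroup. -/
theorem commutator_le_of_generators {N R : Subgroup P} [R.Normal] (S : Set P)
    (hN : N ≤ Subgroup.closure S) (h : ∀ a ∈ S, ∀ b ∈ S, ⁅a, b⁆ ∈ R) : ⁅N, N⁆ ≤ R := by
  set f := QuotientGroup.mk' R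
  have hcomm : ∀ a ∈ N.map f, ∀ b ∈ N.map f, a * b = b * a := by
    have h1 : N.map f ≤ Subgroup.closure (f '' S) :=
      (Subgroup.map_mono hN).trans (MonoidHom.map_closure f S).le
    have h2 : Subgroup.closure (f '' S) ≤
        Subgroup.centralizer (Subgroup.closure (f '' S) : Set (P ⧸ R)) := by
      rw [Subgroup.centralizer_closure, Subgroup.closure_le]
      rintro _ ⟨a, ha, rfl⟩
      refine Subgroup.mem_centralizer_iff.2 ?_
      rintro _ ⟨b, hb, rfl⟩
      have h3 : f ⁅b, a⁆ = 1 := (QuotientGroup.eq_one_iff _).2 (h b hb a ha)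
      rw [map_commutatorElement] at h3
      exact commutatorElement_eq_one_iff_mul_comm.1 h3
    intro a ha b hb
    exact Subgroup.mem_centralizer_iff.1 (h2 (h1 hb)) a (h1 ha)
  refine Subgroup.commutator_le.2 fun a ha b hb => (QuotientGroup.eq_one_iff _).1 ?_
  change f ⁅a, b⁆ = 1
  rw [map_commutatorElement]
  exact commutatorElement_eq_one_iff_mul_comm.2
    (hcomm _ (Subgroup.mem_map_of_mem f ha) _ (Subgroup.mem_map_of_mem f hb))

variable [Finite P] {p : ℕ} [hp : Fact p.Prime] (hP : IsPGroup p P)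
include hP

theorem mul_card_le_of_lt {H K : Subgroup P} (h : H < K) :
    p * Nat.card H ≤ Nat.card K := by
  obtain ⟨a, ha⟩ := IsPGroup.iff_card.1 (hP.to_subgroup H)
  obtain ⟨b, hb⟩ := IsPGroup.iff_card.1 (hP.to_subgroup K)
  have hlt : Nat.card H < Nat.card K := lt_of_le_of_ne (Subgroup.card_le_of_le h.le)
    fun e => h.ne (Subgroup.eq_of_le_of_card_ge h.le e.ge)
  rw [ha, hb] at hlt ⊢
  rw [← pow_succ']
  exact Nat.pow_le_pow_right hp.out.pos ((Nat.pow_lt_pow_iff_right hp.out.one_lt).1 hlt)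

theorem chain_lt {N : Subgroup P} [N.Normal] {t : ℕ} (h : chain N t ≠ ⊥) :
    chain N (t + 1) < chain N t := by
  refine lt_of_le_of_ne (chain_succ_le N t) fun e => h ?_
  have hs : ∀ s, chain N (t + s) = chain N t := by
    intro s
    induction s with
    | zero => rfl
    | succ s ih =>
      change ⁅chain N (t + s), (⊤ : Subgroup P)⁆ = chain N t
      rw [ih]; exact e
  haveI : Group.IsNilpotent P := hP.isNilpotent
  obtain ⟨c, hc⟩ := Subgroup.nilpotent_iff_lowerCentralSeries.1 (inferInstance : Group.IsNilpotent P)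
  have hle : chain N (t + c) ≤ Gf P (1 + (t + c)) := chain_le_Gf le_top _
  rw [eq_bot_iff, ← hs c]
  refine hle.trans (le_trans ?_ hc.le)
  exact Subgroup.lowerCentralSeries_antitone _ (by omega)

theorem pow_mul_card_chain_le {N : Subgroup P} [N.Normal] {s : ℕ} :
    ∀ {t : ℕ}, (∀ i, s ≤ i → i < s + t → chain N i ≠ ⊥) →
      p ^ t * Nat.card (chain N (s + t)) ≤ Nat.card (chain N s) := by
  intro t
  induction t with
  | zero => intro _; simp
  | succ t ih =>
    intro h
    refine le_trans ?_ (ih fun i h1 h2 => h i h1 (lt_trans h2 (Nat.lt_succ_self _)))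
    rw [pow_succ, mul_assoc]
    exact Nat.mul_le_mul_left _
      (mul_card_le_of_lt hP (chain_lt hP (h _ (Nat.le_add_right s t) (Nat.lt_succ_self _))))

/-- If `N` is cyclic modulo `[N, P]`, the weight of `N'` goes up by one. -/
theorem cyclic_top {N : Subgroup P} [N.Normal] {w : ℕ} (hw : 1 ≤ w) (hN : N ≤ Gf P w)
    (hN' : ⁅N, N⁆ ≠ ⊥) {x : P} (hx : x ∈ N) (hgen : N = Subgroup.zpowers x ⊔ chain N 1) :
    ⁅N, N⁆ ≤ Gf P (2 * w + 1) ∧ p ^ (w + 1) * Nat.card ↥⁅N, N⁆ ≤ Nat.card N := by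
  haveI := chain_normal N 1
  have hle : ⁅N, N⁆ ≤ ⁅N, chain N 1⁆ := by
    refine commutator_le_of_generators ({x} ∪ (chain N 1 : Set P)) ?_ ?_
    · rw [Subgroup.closure_union, Subgroup.closure_eq, ← Subgroup.zpowers_eq_closure]
      exact hgen.le
    · rintro a (rfl | ha) b (rfl | hb)
      · simp
      · exact commutator_mem_commutator hx hb
      · rw [← commutatorElement_inv]
        exact inv_mem (commutator_mem_commutator hx ha)
      · exact commutator_mem_commutator (chain_succ_le N 0 ha) hb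
  have h1 : ⁅N, N⁆ ≤ chain N (w + 1) :=
    hle.trans (commutator_le_chain (by omega) (chain_le_Gf hN 1))
  refine ⟨h1.trans ((chain_le_Gf hN (w + 1)).trans (Gf_antitone (by omega))), ?_⟩
  refine le_trans (Nat.mul_le_mul_left _ (Subgroup.card_le_of_le h1)) ?_
  have := pow_mul_card_chain_le hP (N := N) (s := 0) (t := w + 1) fun i _ hi h0 =>
    hN' (le_bot_iff.1 (h0 ▸ h1.trans (chain_antitone N (by omega))))
  simpa [chain] using this

/-- The trichotomy. -/
theorem step {N : Subgroup P} [N.Normal] {w : ℕ} (hw : 1 ≤ w) (hN : N ≤ Gf P w)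
    (hN' : ⁅N, N⁆ ≠ ⊥) :
    (⁅N, N⁆ ≤ Gf P (2 * w + 1) ∧ p ^ (w + 1) * Nat.card ↥⁅N, N⁆ ≤ Nat.card N) ∨
    (⁅N, N⁆ ≤ Gf P (2 * w) ∧ p ^ (w + 2) * Nat.card ↥⁅N, N⁆ ≤ Nat.card N) ∨
    (⁅N, N⁆ ≤ Gf P (2 * w) ∧ p ^ (w + 1) * Nat.card ↥⁅N, N⁆ ≤ Nat.card N ∧
      ∃ c ∈ ⁅N, N⁆, ⁅N, N⁆ = Subgroup.zpowers c ⊔ chain ⁅N, N⁆ 1) := by
  by_cases hcyc : ∃ x ∈ N, N = Subgroup.zpowers x ⊔ chain N 1
  · obtain ⟨x, hx, hgen⟩ := hcyc
    exact Or.inl (cyclic_top hP hw hN hN' hx hgen)
  push Not at hcyc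
  refine Or.inr ?_
  have hw2 : ⁅N, N⁆ ≤ Gf P (2 * w) := (two_mul w).symm ▸ commutator_le_Gf hN hN
  have h1 : ⁅N, N⁆ ≤ chain N w := commutator_le_chain hw hN
  have hne : ∀ i, i ≤ w → chain N i ≠ ⊥ := fun i hi h0 =>
    hN' (le_bot_iff.1 (h0 ▸ h1.trans (chain_antitone N hi)))
  have hZ1 : chain N 1 ≤ N := chain_succ_le N 0
  obtain ⟨x₁, hx₁, hx₁'⟩ := SetLike.exists_of_lt (chain_lt hP (hne 0 (Nat.zero_le _)))
  set H₁ := Subgroup.zpowers x₁ ⊔ chain N 1 with hH₁
  have hH₁N : H₁ ≤ N := sup_le (Subgroup.zpowers_le.2 hx₁) hZ1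
  have hlt1 : chain N 1 < H₁ := lt_of_le_of_ne le_sup_right fun e =>
    hx₁' (e.symm ▸ Subgroup.mem_sup_left (Subgroup.mem_zpowers x₁))
  obtain ⟨x₂, hx₂, hx₂'⟩ := SetLike.exists_of_lt
    (lt_of_le_of_ne hH₁N (hcyc x₁ hx₁).symm)
  set H₂ := Subgroup.zpowers x₂ ⊔ H₁ with hH₂
  have hH₂N : H₂ ≤ N := sup_le (Subgroup.zpowers_le.2 hx₂) hH₁N
  have hlt2 : H₁ < H₂ := lt_of_le_of_ne le_sup_right fun e =>
    hx₂' (e.symm ▸ Subgroup.mem_sup_left (Subgroup.mem_zpowers x₂))
  have hc2 : p ^ 2 * Nat.card (chain N 1) ≤ Nat.card H₂ := by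
    rw [pow_two, mul_assoc]
    exact (Nat.mul_le_mul_left _ (mul_card_le_of_lt hP hlt1)).trans (mul_card_le_of_lt hP hlt2)
  have hrest : p ^ (w - 1) * Nat.card (chain N w) ≤ Nat.card (chain N 1) := by
    have := pow_mul_card_chain_le hP (N := N) (s := 1) (t := w - 1)
      fun i _ hi => hne i (by omega)
    rwa [show 1 + (w - 1) = w by omega] at this
  have hall : p ^ (w + 1) * Nat.card (chain N w) ≤ Nat.card H₂ := by
    refine le_trans (le_of_eq ?_) ((Nat.mul_le_mul_left _ hrest).trans hc2)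
    rw [← mul_assoc, ← pow_add]
    congr 2
    omega
  by_cases heq : ⁅N, N⁆ = chain N w ∧ H₂ = N
  swap
  · left
    refine ⟨hw2, ?_⟩
    rw [show w + 2 = (w + 1) + 1 from rfl, pow_succ', mul_assoc]
    rcases not_and_or.1 heq with h | h
    · refine le_trans (le_trans (le_of_eq (mul_left_comm _ _ _))
        (Nat.mul_le_mul_left _ (mul_card_le_of_lt hP (lt_of_le_of_ne h1 h)))) ?_
      exact hall.trans (Subgroup.card_le_of_le hH₂N)
    · refine le_trans (Nat.mul_le_mul_left _ (le_trans ?_ hall))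
        (mul_card_le_of_lt hP (lt_of_le_of_ne hH₂N h))
      exact Nat.mul_le_mul_left _ (Subgroup.card_le_of_le h1)
  right
  obtain ⟨heqc, heqH⟩ := heq
  refine ⟨hw2, heqc ▸ hall.trans (Subgroup.card_le_of_le hH₂N), ⁅x₁, x₂⁆,
    commutator_mem_commutator hx₁ hx₂, ?_⟩
  haveI := chain_normal N 1
  haveI := chain_normal N w
  haveI := chain_normal N (w + 1)
  have hR : chain ⁅N, N⁆ 1 = chain N (w + 1) := by rw [heqc]; rfl
  have hc : ⁅x₁, x₂⁆ ∈ chain N w := h1 (commutator_mem_commutator hx₁ hx₂)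
  rw [hR]
  set R' := Subgroup.zpowers ⁅x₁, x₂⁆ ⊔ chain N (w + 1) with hR'
  have hR'le : R' ≤ chain N w := sup_le (Subgroup.zpowers_le.2 hc) (chain_succ_le N w)
  haveI : R'.Normal := ⟨fun r hr g => by
    have h2 : ⁅r, g⁆ ∈ chain N (w + 1) :=
      commutator_mem_commutator (hR'le hr) (Subgroup.mem_top g)
    have h3 : g * r * g⁻¹ = ⁅g, r⁆ * r := by simp [commutatorElement_def]
    rw [h3, ← commutatorElement_inv]
    exact mul_mem (Subgroup.mem_sup_right (inv_mem h2)) hr⟩
  have hNN : ⁅N, chain N 1⁆ ≤ R' :=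
    ((commutator_le_chain (by omega) (chain_le_Gf hN 1)).trans le_sup_right)
  refine le_antisymm ?_ (heqc ▸ hR'le)
  refine commutator_le_of_generators ({x₁, x₂} ∪ (chain N 1 : Set P)) ?_ ?_
  · conv_lhs => rw [← heqH]
    refine sup_le (Subgroup.zpowers_le.2 (Subgroup.subset_closure (Or.inl (Or.inr rfl))))
      (sup_le (Subgroup.zpowers_le.2 (Subgroup.subset_closure (Or.inl (Or.inl rfl)))) ?_)
    exact fun z hz => Subgroup.subset_closure (Or.inr hz)
  · have hcR : ⁅x₁, x₂⁆ ∈ R' := Subgroup.mem_sup_left (Subgroup.mem_zpowers _)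
    have hxz : ∀ a ∈ N, ∀ b ∈ chain N 1, ⁅a, b⁆ ∈ R' ∧ ⁅b, a⁆ ∈ R' := fun a ha b hb => by
      have := hNN (commutator_mem_commutator ha hb)
      exact ⟨this, commutatorElement_inv a b ▸ inv_mem this⟩
    rintro a ((h₁ | h₁) | ha) b ((h₂ | h₂) | hb)
    · rw [h₁, h₂]; simp
    · rw [h₁, Set.mem_singleton_iff.1 h₂]; exact hcR
    · rw [h₁]; exact (hxz _ hx₁ _ hb).1
    · rw [h₂, Set.mem_singleton_iff.1 h₁, ← commutatorElement_inv]; exact inv_mem hcR
    · rw [Set.mem_singleton_iff.1 h₁, Set.mem_singleton_iff.1 h₂]; simp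
    · rw [Set.mem_singleton_iff.1 h₁]; exact (hxz _ hx₂ _ hb).1
    · rw [h₂]; exact (hxz _ hx₁ _ ha).2
    · rw [Set.mem_singleton_iff.1 h₂]; exact (hxz _ hx₂ _ ha).2
    · exact (hxz _ (hZ1 ha) _ hb).1

/-- The exponent in the bound. -/
def expBound : ℕ → ℕ → ℕ
  | 0, _ => 1
  | 1, w => w + 2
  | m + 2, w => (2 ^ (m + 2) - 1) * w + (2 * m + 3)

omit [Group P] [Finite P] hp hP in
theorem two_pow_sub_one_succ (m : ℕ) :
    2 ^ (m + 1) - 1 = 2 * (2 ^ m - 1) + 1 := by
  have : 1 ≤ 2 ^ m := Nat.one_le_two_pow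
  rw [pow_succ]; omega

omit hP [Finite P] hp in
theorem iterate_bot (m : ℕ) :
    (fun X : Subgroup P => ⁅X, X⁆)^[m] (⊥ : Subgroup P) = ⊥ := by
  induction m with
  | zero => rfl
  | succ m ih =>
    rw [Function.iterate_succ_apply]
    simp only [Subgroup.commutator_bot_left]
    exact ih

theorem pow_expBound_le : ∀ (m : ℕ) (N : Subgroup P) [N.Normal] (w : ℕ), 1 ≤ w → N ≤ Gf P w →
    (fun X : Subgroup P => ⁅X, X⁆)^[m] N ≠ ⊥ → p ^ expBound m w ≤ Nat.card N := by
  intro m
  induction m using Nat.strong_induction_on with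
  | _ m ih =>
    intro N _ w hw hN hm
    match m, ih, hm with
    | 0, _, hm =>
      simpa [expBound] using mul_card_le_of_lt hP (bot_lt_iff_ne_bot.2 hm)
    | m + 1, ih, hm =>
      rw [Function.iterate_succ_apply] at hm
      have hN' : ⁅N, N⁆ ≠ ⊥ := fun h => hm (by rw [h, iterate_bot])
      have combine : ∀ {d e : ℕ}, p ^ d * Nat.card ↥⁅N, N⁆ ≤ Nat.card N →
          p ^ e ≤ Nat.card ↥⁅N, N⁆ → expBound (m + 1) w ≤ d + e →
          p ^ expBound (m + 1) w ≤ Nat.card N := fun h1 h2 h3 =>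
        (Nat.pow_le_pow_right hp.out.pos h3).trans
          ((pow_add p _ _).le.trans ((Nat.mul_le_mul_left _ h2).trans h1))
      rcases step hP hw hN hN' with ⟨hw', hd⟩ | ⟨hw', hd⟩ | ⟨hw', hd, c, hc, hgen⟩
      · refine combine hd (ih m (by omega) _ _ (by omega) hw' hm) ?_
        match m with
        | 0 => simp [expBound]
        | 1 => simp [expBound]; omega
        | m + 2 =>
          simp only [expBound]
          rw [two_pow_sub_one_succ (m + 2)]
          have : 3 ≤ 2 ^ (m + 2) - 1 := by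
            have : 1 ≤ 2 ^ m := Nat.one_le_two_pow
            rw [pow_add]; omega
          nlinarith
      · refine combine hd (ih m (by omega) _ _ (by omega) hw' hm) ?_
        match m with
        | 0 => simp [expBound]
        | 1 => simp [expBound]; omega
        | m + 2 =>
          simp only [expBound]
          rw [two_pow_sub_one_succ (m + 2)]
          have : 3 ≤ 2 ^ (m + 2) - 1 := by
            have : 1 ≤ 2 ^ m := Nat.one_le_two_pow
            rw [pow_add]; omega
          nlinarith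
      · match m with
        | 0 =>
          refine combine hd (e := 1) (ih 0 (by omega) _ _ (by omega) hw' hm) ?_
          simp [expBound]
        | m + 1 =>
          rw [Function.iterate_succ_apply] at hm
          set M := ⁅N, N⁆ with hMdef
          have hM' : ⁅M, M⁆ ≠ ⊥ := fun h => hm (by rw [h, iterate_bot])
          obtain ⟨hw'', hd'⟩ := cyclic_top hP (N := M) (w := 2 * w) (by omega) hw' hM' hc hgen
          refine combine hd (e := 2 * w + 1 + expBound m (2 * (2 * w) + 1)) ?_ ?_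
          · rw [pow_add]
            exact (Nat.mul_le_mul_left _ (ih m (by omega) _ _ (by omega) hw'' hm)).trans hd'
          match m with
          | 0 => simp [expBound]; omega
          | 1 => simp [expBound]; omega
          | m + 2 =>
            simp only [expBound]
            rw [two_pow_sub_one_succ (m + 3), two_pow_sub_one_succ (m + 2)]
            have : 3 ≤ 2 ^ (m + 2) - 1 := by
              have : 1 ≤ 2 ^ m := Nat.one_le_two_pow
              rw [pow_add]; omega
            nlinarith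

end Cfsg.Agent.DerivedLengthMann4
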