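import Mathlib
import Cfsg.Agent.Lib.DicksonFourGroups
import Cfsg.Agent.Lib.DicksonMaximal
import Cfsg.Agent.Lib.DicksonRational
import Cfsg.Agent.Lib.DicksonSubfieldEmbed
import Cfsg.Agent.Lib.CharInducedBurnside

/-!
Two-generated solvable subgroups of `PSL(2,q)`, `q = 2^r` or `3^r`, and solubilisers.
-/

set_option autoImplicit false
set_option linter.unusedSectionVars false

open scoped MatrixGroups Classical
open Matrix hiding inv_zero mul_inv_rev
open Cfsg.Agent.PSL2Elements

namespace Cfsg.Agent.DicksonSolubilizer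

section Group

variable {G : Type*} [Group G] [Finite G]

theorem solvable_le {H K : Subgroup G} (hle : H ≤ K) (hK : Group.IsSolvable K) :
    Group.IsSolvable H :=
  Group.isSolvable_of_isSolvable_injective (f := Subgroup.inclusion hle)
    (Subgroup.inclusion_injective hle)

theorem solvable_comm {H : Subgroup G} (h : ∀ a ∈ H, ∀ b ∈ H, a * b = b * a) :
    Group.IsSolvable H :=
  Group.isSolvable_of_comm fun a b => Subtype.ext (h a a.2 b b.2)

theorem solvable_sup_zpowers {K : Subgroup G} (hK : Group.IsSolvable K) {y : G}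
    (hy : ∀ k ∈ K, y * k * y⁻¹ ∈ K) :
    Group.IsSolvable ↥(K ⊔ Subgroup.zpowers y) := by
  set H := K ⊔ Subgroup.zpowers y with hH
  have hle : H ≤ Subgroup.normalizer (K : Set G) := sup_le Subgroup.le_normalizer
    (Subgroup.zpowers_le.mpr (DicksonMaximal.mem_normalizer_of hy))
  haveI hN : (K.subgroupOf H).Normal :=
    ⟨fun n hn g => (Subgroup.mem_normalizer_iff.mp (hle g.2) (n : G)).mp hn⟩
  set y' : H := ⟨y, le_sup_right (a := K) (Subgroup.mem_zpowers y)⟩
  let φ := QuotientGroup.mk' (K.subgroupOf H)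
  have hsplit : K.subgroupOf H ⊔ Subgroup.zpowers y' = ⊤ := by
    apply Subgroup.map_injective H.subtype_injective
    rw [Subgroup.map_sup, Subgroup.subgroupOf_map_subtype, MonoidHom.map_zpowers,
      ← MonoidHom.range_eq_map, Subgroup.range_subtype,
      inf_eq_left.mpr (le_sup_left : K ≤ H)]
    rfl
  haveI : IsCyclic (H ⧸ K.subgroupOf H) := by
    refine ⟨⟨φ y', fun z => ?_⟩⟩
    obtain ⟨h, rfl⟩ := QuotientGroup.mk'_surjective _ z
    have : φ h ∈ (K.subgroupOf H ⊔ Subgroup.zpowers y').map φ :=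
      Subgroup.mem_map_of_mem _ (hsplit ▸ Subgroup.mem_top h)
    rw [Subgroup.map_sup, MonoidHom.map_zpowers, QuotientGroup.map_mk'_self, bot_sup_eq] at this
    exact this
  haveI : Group.IsSolvable (H ⧸ K.subgroupOf H) :=
    Group.isSolvable_of_comm fun a b => IsCyclic.isMulCommutative.is_comm.comm a b
  haveI := hK
  refine Group.isSolvable_of_ker_le_range (Subgroup.inclusion (le_sup_left : K ≤ H)) φ ?_
  rw [QuotientGroup.ker_mk']
  exact fun z hz => ⟨⟨z, hz⟩, rfl⟩

theorem solvable_of_conj_mem {x y : G} (h : y * x * y⁻¹ ∈ Subgroup.zpowers x) :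
    Group.IsSolvable ↥(Subgroup.closure ({x, y} : Set G)) := by
  refine solvable_le (Subgroup.closure_le _ |>.mpr ?_)
    (solvable_sup_zpowers (K := Subgroup.zpowers x) (y := y) (solvable_comm ?_) ?_)
  · rintro z (rfl | rfl)
    · exact le_sup_left (b := Subgroup.zpowers y) (Subgroup.mem_zpowers _)
    · exact le_sup_right (a := Subgroup.zpowers x) (Subgroup.mem_zpowers _)
  · rintro _ ⟨i, rfl⟩ _ ⟨j, rfl⟩
    exact (_root_.zpow_mul_comm x i j)
  · rintro _ ⟨i, rfl⟩
    rw [← conj_zpow]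
    exact Subgroup.zpow_mem _ h i

theorem solvable_two_involutions {x y : G} (hx : x * x = 1) (hy : y * y = 1) :
    Group.IsSolvable ↥(Subgroup.closure ({x, y} : Set G)) := by
  have hyx : x * (x * y) = y := by rw [← mul_assoc, hx, one_mul]
  refine solvable_le (Subgroup.closure_le _ |>.mpr ?_) (solvable_of_conj_mem (x := x * y) (y := x) ?_)
  · rintro z (rfl | rfl)
    · exact Subgroup.subset_closure (Or.inr rfl)
    · have := mul_mem (Subgroup.subset_closure (Or.inr rfl) :
        x ∈ Subgroup.closure ({x * z, x} : Set G)) (Subgroup.subset_closure (Or.inl rfl) :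
        x * z ∈ Subgroup.closure ({x * z, x} : Set G))
      rwa [hyx] at this
  · rw [hyx, inv_eq_of_mul_eq_one_right hx]
    rw [show y * x = (x * y)⁻¹ by
      rw [_root_.mul_inv_rev, inv_eq_of_mul_eq_one_right hx, inv_eq_of_mul_eq_one_right hy]]
    exact inv_mem (Subgroup.mem_zpowers _)

theorem solvable_tetrahedral {z y : G} (hz : z * z = 1) (hy : y * y * y = 1)
    (h : z * y * (z * y) * (z * y) = 1) :
    Group.IsSolvable ↥(Subgroup.closure ({z, y} : Set G)) := by
  set z2 := y * z * y⁻¹ with hz2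
  set z3 := y * z2 * y⁻¹ with hz3
  have h2 : z2 * z2 = 1 := by rw [hz2, conj_mul, hz, mul_one, mul_inv_cancel]
  have h3 : z3 * z3 = 1 := by rw [hz3, conj_mul, h2, mul_one, mul_inv_cancel]
  have hprod : z * z2 * z3 = 1 := by
    rw [hz3, hz2]
    calc z * (y * z * y⁻¹) * (y * (y * z * y⁻¹) * y⁻¹)
        = z * y * (z * y) * (z * y) * (y * y * y)⁻¹ := by group
      _ = 1 := by rw [h, hy, _root_.inv_one, mul_one]
  have h12 : z * z2 = z3 := by
    rw [eq_inv_of_mul_eq_one_left hprod, inv_eq_of_mul_eq_one_right h3]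
  have hc : z * z2 = z2 * z := by
    have : (z * z2)⁻¹ = z * z2 := by rw [h12, inv_eq_of_mul_eq_one_right h3]
    rw [_root_.mul_inv_rev, inv_eq_of_mul_eq_one_right hz, inv_eq_of_mul_eq_one_right h2] at this
    exact this.symm
  set K := DicksonFourGroups.four z z2 hz h2 hc
  refine solvable_le (Subgroup.closure_le _ |>.mpr ?_)
    (solvable_sup_zpowers (K := K) (y := y) (solvable_comm ?_) ?_)
  · rintro w (rfl | rfl)
    · exact le_sup_left (b := Subgroup.zpowers y) DicksonFourGroups.left_mem_four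
    · exact le_sup_right (a := K) (Subgroup.mem_zpowers _)
  · intro a ha b hb
    rcases DicksonFourGroups.mem_four.mp ha with rfl | rfl | rfl | rfl <;>
      rcases DicksonFourGroups.mem_four.mp hb with rfl | rfl | rfl | rfl <;>
      first
      | rfl
      | simp only [one_mul, mul_one]
      | exact hc
      | exact hc.symm
      | (rw [mul_assoc, ← hc])
      | (rw [hc, mul_assoc, hc])
      | (rw [← mul_assoc, ← hc])
      | (rw [← mul_assoc, hc, mul_assoc])
  · intro k hk
    rcases DicksonFourGroups.mem_four.mp hk with e | e | e | e <;> rw [e]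
    · rw [mul_one, mul_inv_cancel]; exact one_mem _
    · exact DicksonFourGroups.right_mem_four
    · rw [← hz3, ← h12]
      exact mul_mem DicksonFourGroups.left_mem_four DicksonFourGroups.right_mem_four
    · rw [← conj_mul, ← hz2, ← hz3, ← h12]
      exact mul_mem DicksonFourGroups.right_mem_four
        (mul_mem DicksonFourGroups.left_mem_four DicksonFourGroups.right_mem_four)

/-- The size of the solubiliser. -/
noncomputable def count (x : G) : ℕ :=
  Nat.card {y : G // Group.IsSolvable ↥(Subgroup.closure ({x, y} : Set G))}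

theorem count_conj {x x' : G} (h : IsConj x x') : count x = count x' := by
  obtain ⟨c, hc⟩ := isConj_iff.mp h
  refine Nat.card_congr (Equiv.subtypeEquiv (MulAut.conj c).toEquiv fun y => ?_)
  have hmap : (Subgroup.closure ({x, y} : Set G)).map (MulAut.conj c).toMonoidHom =
      Subgroup.closure ({x', MulAut.conj c y} : Set G) := by
    rw [MonoidHom.map_closure, Set.image_pair]
    simp [hc]
  show _ ↔ Group.IsSolvable ↥(Subgroup.closure ({x', MulAut.conj c y} : Set G))
  rw [← hmap]
  let e := (Subgroup.closure ({x, y} : Set G)).equivMapOfInjective (MulAut.conj c).toMonoidHom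
    (MulAut.conj c).injective
  exact ⟨fun hs => Group.isSolvable_of_surjective (f := e.toMonoidHom) e.surjective,
    fun hs => Group.isSolvable_of_isSolvable_injective (f := e.toMonoidHom) e.injective⟩

theorem dihedral_cases {k : ℕ} (a b : DihedralGroup k) :
    (a * a = 1 → b * b = 1 ∨ a * b * (a * b) = 1 ∨ a * b = b * a) ∧
      (a * a ≠ 1 → a * b = b * a ∨ b * a * b⁻¹ = a⁻¹) := by
  cases a with
  | r i => cases b with
    | r j =>
      have : (DihedralGroup.r i : DihedralGroup k) * DihedralGroup.r j =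
          DihedralGroup.r j * DihedralGroup.r i := by
        rw [DihedralGroup.r_mul_r, DihedralGroup.r_mul_r, add_comm]
      exact ⟨fun _ => Or.inr (Or.inr this), fun _ => Or.inl this⟩
    | sr j =>
      refine ⟨fun _ => Or.inl (DihedralGroup.sr_mul_self j), fun _ => Or.inr ?_⟩
      simp
  | sr i => cases b with
    | r j => exact ⟨fun _ => Or.inr (Or.inl (by simp)), fun h => absurd (DihedralGroup.sr_mul_self i) h⟩
    | sr j =>
      exact ⟨fun _ => Or.inl (DihedralGroup.sr_mul_self j),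
        fun h => absurd (DihedralGroup.sr_mul_self i) h⟩

end Group

variable {F : Type*} [Field F] [Finite F]

local notation "π" => QuotientGroup.mk' (Subgroup.center SL(2, F))
local notation "PSL₂" => Matrix.ProjectiveSpecialLinearGroup (Fin 2) F
local notation "ιF" => Matrix.ProjectiveSpecialLinearGroup.toPGL (n := Fin 2) (R := F)

theorem not_solvable (h4 : 4 ≤ Nat.card F) : ¬ Group.IsSolvable PSL₂ := by
  intro h
  haveI := PSLSimple.isSimpleGroup_PSL_fin' (F := F) (n := 2) le_rfl (fun _ => h4)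
  exact PSLSimple.not_isMulCommutative_PSL_fin (F := F) le_rfl (fun _ => h4)
    (IsSimpleGroup.comm_iff_isSolvable.mpr h)

theorem solvable_borel : Group.IsSolvable (PSL2Sylow.borel F) := by
  let g : PSL2Sylow.borel F →* F :=
    { toFun := fun A => (A : SL(2, F)).1 0 0
      map_one' := by simp
      map_mul' := fun A B => by
        have hB : (B : SL(2, F)).1 1 0 = 0 := B.2
        simp [Matrix.mul_apply, Fin.sum_univ_two, hB] }
  haveI : Group.IsSolvable Fˣ := Group.isSolvable_of_comm mul_comm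
  haveI : Group.IsSolvable g.toHomUnits.ker := Group.isSolvable_of_comm fun a b => by
    have key : ∀ c : g.toHomUnits.ker, ((c : PSL2Sylow.borel F) : SL(2, F)).1 0 0 = 1 ∧
        ((c : PSL2Sylow.borel F) : SL(2, F)).1 1 0 = 0 ∧
        ((c : PSL2Sylow.borel F) : SL(2, F)).1 1 1 = 1 := by
      intro c
      have h0 : ((c : PSL2Sylow.borel F) : SL(2, F)).1 0 0 = 1 := congrArg Units.val c.2
      have h10 : ((c : PSL2Sylow.borel F) : SL(2, F)).1 1 0 = 0 := (c : PSL2Sylow.borel F).2
      have hd := ((c : PSL2Sylow.borel F) : SL(2, F)).2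
      rw [Matrix.det_fin_two, h0, h10] at hd
      exact ⟨h0, h10, by simpa using hd⟩
    obtain ⟨a0, a10, a1⟩ := key a
    obtain ⟨b0, b10, b1⟩ := key b
    apply Subtype.ext; apply Subtype.ext; apply Subtype.ext
    ext i j
    fin_cases i <;> fin_cases j <;>
      simp [Matrix.mul_apply, Fin.sum_univ_two, a0, a10, a1, b0, b10, b1, add_comm]
  exact Group.isSolvable_of_ker_le_range g.toHomUnits.ker.subtype g.toHomUnits
    (by rw [Subgroup.range_subtype])

theorem solvable_fix {x y : PSL₂} {pt : OnePoint F} (hx : ιF x • pt = pt) (hy : ιF y • pt = pt) :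
    Group.IsSolvable ↥(Subgroup.closure ({x, y} : Set PSL₂)) := by
  let St := (MulAction.stabilizer (Matrix.ProjGenLinGroup (Fin 2) F) pt).comap ιF
  refine solvable_le (Subgroup.closure_le _ |>.mpr ?_ : _ ≤ St) ?_
  · rintro z (rfl | rfl)
    · exact hx
    · exact hy
  obtain ⟨a, ha⟩ := DicksonPSL.exists_conj_le_borel St pt (fun g hg => hg)
  haveI := solvable_borel (F := F)
  haveI : Group.IsSolvable (DicksonPSL.borelPSL F) :=
    Group.isSolvable_of_surjective ((DicksonPSL.proj (F := F)).subgroupMap_surjective _)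
  let e := St.equivMapOfInjective (MulAut.conj a).toMonoidHom (MulAut.conj a).injective
  haveI := solvable_le ha inferInstance
  exact Group.isSolvable_of_isSolvable_injective (f := e.toMonoidHom) e.injective

variable (p : ℕ) [hp : Fact p.Prime] [CharP F p]

include p hp in
theorem cases (h4 : 4 ≤ Nat.card F) (hp23 : p = 2 ∨ p = 3)
    (hsub : ∀ R : Subfield F, 3 ≤ Nat.card R → Nat.card R = Nat.card F ∨ Nat.card R = 3)
    {H : Subgroup PSL₂} (hs : Group.IsSolvable H) :
    (∀ x ∈ H, ∀ y ∈ H, x * y = y * x) ∨ (∃ pt : OnePoint F, ∀ g ∈ H, ιF g • pt = pt) ∨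
      (∃ k, ¬ p ∣ k ∧ Nonempty (H ≃* DihedralGroup k)) ∨
      (p = 3 ∧ ∀ g ∈ H, orderOf g ∣ 24) := by
  have hne : H ≠ ⊤ := by
    rintro rfl
    exact not_solvable h4 (Group.isSolvable_of_surjective (f := (⊤ : Subgroup PSL₂).subtype)
      fun g => ⟨⟨g, Subgroup.mem_top g⟩, rfl⟩)
  rcases DicksonPSL.dickson_psl_strong p H with ⟨hc, -, -⟩ | ⟨-, a, ha⟩ | ⟨k, -, hk, -, he⟩ |
      ⟨hco, ⟨e⟩⟩ | ⟨hco, ⟨e⟩⟩ | ⟨-, ⟨e⟩⟩ | ⟨R, h3, -, he⟩
  · letI := hc.commGroup
    exact Or.inl fun x hx y hy => congrArg Subtype.val (mul_comm (⟨x, hx⟩ : H) ⟨y, hy⟩)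
  · refine Or.inr (Or.inl ⟨ιF a⁻¹ • (OnePoint.infty : OnePoint F), fun g hg => ?_⟩)
    have := (DicksonPSL.mem_borelPSL_iff _).mp (ha ⟨g, hg, rfl⟩)
    simp only [MulEquiv.toMonoidHom_eq_coe, MonoidHom.coe_coe, MulAut.conj_apply, map_mul, map_inv,
      mul_smul] at this
    rw [map_inv]
    exact smul_left_cancel (ιF a) (this.trans (smul_inv_smul _ _).symm)
  · exact Or.inr (Or.inr (Or.inl ⟨k, hk, he⟩))
  · exfalso
    rw [Nat.card_congr e.toEquiv, nat_card_alternatingGroup, Nat.card_fin] at hco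
    rcases hp23 with rfl | rfl <;> exact hco (by decide)
  · exfalso
    rw [Nat.card_congr e.toEquiv, Nat.card_perm, Nat.card_fin] at hco
    rcases hp23 with rfl | rfl <;> exact hco (by decide)
  · exfalso
    have := Group.isSolvable_of_surjective (f := e.toMonoidHom) e.surjective
    exact absurd (IsSimpleGroup.comm_iff_isSolvable.mpr this
      ⟨Equiv.swap 0 1 * Equiv.swap 1 2, Equiv.Perm.mem_alternatingGroup.mpr (by decide)⟩
      ⟨Equiv.swap 0 1 * Equiv.swap 2 3, Equiv.Perm.mem_alternatingGroup.mpr (by decide)⟩)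
      (by decide)
  · rcases hsub R h3 with hR | hR
    · exfalso
      obtain ⟨f⟩ := DicksonSubfieldEmbed.exists_ringHom (F := R) (K := F) (m := 1)
        (by rw [pow_one, hR])
      obtain ⟨ψ, hψ⟩ := DicksonSubfieldEmbed.exists_psl_embedding f
      refine hne (Subgroup.eq_top_of_card_eq H (le_antisymm (Subgroup.card_le_card_group H) ?_))
      refine le_trans (Nat.card_le_card_of_injective ψ hψ) ?_
      rcases he with ⟨⟨e⟩⟩ | ⟨-, ⟨e⟩⟩
      · rw [Nat.card_congr e.toEquiv]
        exact Nat.card_le_card_of_injective _ ProjectiveSpecialLinearGroup.toPGL_injective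
      · rw [Nat.card_congr e.toEquiv]
    · have hcard : Nat.card H ∣ 24 := by
        rcases he with ⟨⟨e⟩⟩ | ⟨-, ⟨e⟩⟩
        · rw [Nat.card_congr e.toEquiv, PSLCard.card_PGL2, hR]
          decide
        · rw [Nat.card_congr e.toEquiv]
          have := PSLCard.card_PSL2_mul (F := R)
          rw [hR] at this
          exact Dvd.intro_left _ this
      obtain ⟨a, -, ha⟩ := DicksonRational.prime_dvd_card_subfield p R
      rw [hR] at ha
      have hp3 : p = 3 := (Nat.prime_dvd_prime_iff_eq hp.out Nat.prime_three).mp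
        (ha ▸ dvd_pow_self p (by rintro rfl; simp at ha))
      exact Or.inr (Or.inr (Or.inr ⟨hp3, fun g hg =>
        (Subgroup.orderOf_dvd_natCard H hg).trans hcard⟩))

theorem card_center : Nat.card (Subgroup.center SL(2, F)) = DicksonPSL.dd F := by
  have h1 := Subgroup.card_eq_card_quotient_mul_card_subgroup (Subgroup.center SL(2, F))
  have h3 := PSLCard.card_PSL2_mul (F := F)
  rw [PSLCard.card_SL2] at h1
  have hpos : 0 < Nat.card PSL₂ := Nat.card_pos
  exact Nat.eq_of_mul_eq_mul_left hpos (by rw [mul_comm _ (DicksonPSL.dd F)]; exact (h1.symm.trans h3.symm))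

theorem card_lift (P : PSL₂ → Prop) :
    Nat.card {A : SL(2, F) // P (π A)} = DicksonPSL.dd F * Nat.card {g : PSL₂ // P g} := by
  have e := QuotientGroup.preimageMkEquivSubgroupProdSet (Subgroup.center SL(2, F))
    {g : PSL₂ | P g}
  have := Nat.card_congr e
  rw [Nat.card_prod, card_center] at this
  exact this

theorem count_lift (x : PSL₂) (P : SL(2, F) → Prop)
    (h : ∀ A, Group.IsSolvable ↥(Subgroup.closure ({x, π A} : Set PSL₂)) ↔ P A) :
    Nat.card {A : SL(2, F) // P A} = DicksonPSL.dd F * count x := by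
  rw [count, ← card_lift (fun y => Group.IsSolvable ↥(Subgroup.closure ({x, y} : Set PSL₂)))]
  exact Nat.card_congr (Equiv.subtypeEquivRight fun A => (h A).symm)

/-! ### Fixed points and entries -/

theorem fix_infty (B : SL(2, F)) :
    ιF (π B) • (OnePoint.infty : OnePoint F) = OnePoint.infty ↔ B.1 1 0 = 0 := by
  constructor
  · intro h
    exact OnePoint.smul_infty_eq_self_iff.mp ((DicksonPSL.toPGL_proj_smul B _).symm.trans h)
  · intro h
    exact (DicksonPSL.toPGL_proj_smul B _).trans (OnePoint.smul_infty_eq_self_iff.mpr h)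

theorem fix_coe (B : SL(2, F)) (z : F) :
    ιF (π B) • (z : OnePoint F) = (z : OnePoint F) ↔
      B.1 1 0 * z + B.1 1 1 ≠ 0 ∧ B.1 0 0 * z + B.1 0 1 = z * (B.1 1 0 * z + B.1 1 1) := by
  rw [show ιF (π B) • (z : OnePoint F) = SpecialLinearGroup.toGL B • (z : OnePoint F) from
    DicksonPSL.toPGL_proj_smul B _, OnePoint.smul_some_eq_ite]
  change (if B.1 1 0 * z + B.1 1 1 = 0 then OnePoint.infty else
    (((B.1 0 0 * z + B.1 0 1) / (B.1 1 0 * z + B.1 1 1) : F) : OnePoint F)) = _ ↔ _
  by_cases h : B.1 1 0 * z + B.1 1 1 = 0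
  · simp [h]
  · rw [if_neg h, OnePoint.coe_eq_coe, div_eq_iff h]
    exact ⟨fun e => ⟨h, e⟩, fun e => e.2⟩

theorem fix_zero_of (B : SL(2, F)) (h : B.1 0 1 = 0) :
    ιF (π B) • ((0 : F) : OnePoint F) = ((0 : F) : OnePoint F) := by
  rw [fix_coe]
  refine ⟨fun e => ?_, by simp [h]⟩
  have hd := det_eq B
  simp only [mul_zero, zero_add] at e
  rw [h, e] at hd
  simp at hd

theorem commute_iff (A B : SL(2, F)) :
    π A * π B = π B * π A ↔ A * B = B * A ∨ A * B = -(B * A) := by
  rw [← map_mul, ← map_mul, PSL2Proj52.π_eq_iff]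

theorem sol_iff_semisimple {x y : PSL₂} (h4 : 4 ≤ Nat.card F) (hp23 : p = 2 ∨ p = 3)
    (hsub : ∀ R : Subfield F, 3 ≤ Nat.card R → Nat.card R = Nat.card F ∨ Nat.card R = 3)
    (hx : x * x ≠ 1) (hx24 : p = 3 → ¬ orderOf x ∣ 24) :
    Group.IsSolvable ↥(Subgroup.closure ({x, y} : Set PSL₂)) ↔
      (x * y = y * x ∨ y * x * y⁻¹ = x⁻¹ ∨
        ∃ pt : OnePoint F, ιF x • pt = pt ∧ ιF y • pt = pt) := by
  constructor
  · intro hs
    have hxm : x ∈ Subgroup.closure ({x, y} : Set PSL₂) := Subgroup.subset_closure (Or.inl rfl)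
    have hym : y ∈ Subgroup.closure ({x, y} : Set PSL₂) := Subgroup.subset_closure (Or.inr rfl)
    rcases cases p h4 hp23 hsub hs with h | ⟨pt, h⟩ | ⟨k, -, ⟨e⟩⟩ | ⟨h3, h⟩
    · exact Or.inl (h x hxm y hym)
    · exact Or.inr (Or.inr ⟨pt, h x hxm, h y hym⟩)
    · have hx' : e ⟨x, hxm⟩ * e ⟨x, hxm⟩ ≠ 1 := fun h => hx (by
        rw [← map_mul, MulEquiv.map_eq_one_iff] at h
        exact congrArg Subtype.val h)
      rcases (dihedral_cases (e ⟨x, hxm⟩) (e ⟨y, hym⟩)).2 hx' with h | h
      · exact Or.inl (congrArg Subtype.val (e.injective (by rw [map_mul, map_mul]; exact h) :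
          (⟨x, hxm⟩ : Subgroup.closure ({x, y} : Set PSL₂)) * ⟨y, hym⟩ = ⟨y, hym⟩ * ⟨x, hxm⟩))
      · exact Or.inr (Or.inl (congrArg Subtype.val (e.injective (by
          rw [map_mul, map_mul, map_inv, map_inv]; exact h) :
          (⟨y, hym⟩ : Subgroup.closure ({x, y} : Set PSL₂)) * ⟨x, hxm⟩ * ⟨y, hym⟩⁻¹ = ⟨x, hxm⟩⁻¹)))
    · exact absurd (h x hxm) (hx24 h3)
  · rintro (h | h | ⟨pt, h, h'⟩)
    · exact solvable_of_conj_mem (by rw [← h, mul_inv_cancel_right]; exact Subgroup.mem_zpowers x)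
    · exact solvable_of_conj_mem (by rw [h]; exact inv_mem (Subgroup.mem_zpowers x))
    · exact solvable_fix h h'

/-! ### Split torus -/

theorem card_split_set :
    Nat.card {B : SL(2, F) // B.1 1 0 = 0 ∨ B.1 0 1 = 0 ∨ (B.1 0 0 = 0 ∧ B.1 1 1 = 0)} =
      2 * Nat.card F * (Nat.card F - 1) := by
  let f : (PSL2Sylow.borel F) ⊕ (Fˣ × Fˣ) ⊕ Fˣ →
      {B : SL(2, F) // B.1 1 0 = 0 ∨ B.1 0 1 = 0 ∨ (B.1 0 0 = 0 ∧ B.1 1 1 = 0)} := fun z =>
    match z with
    | Sum.inl B => ⟨B, Or.inl B.2⟩
    | Sum.inr (Sum.inl (a, c)) => ⟨mk2 a 0 c (a⁻¹ : Fˣ) (by simp), Or.inr (Or.inl rfl)⟩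
    | Sum.inr (Sum.inr c) => ⟨mk2 0 (-(c⁻¹ : Fˣ)) c 0 (by simp), Or.inr (Or.inr ⟨rfl, rfl⟩)⟩
  have hf : Function.Bijective f := by
    constructor
    · rintro (⟨B, hB⟩ | ⟨a, c⟩ | c) (⟨B', hB'⟩ | ⟨a', c'⟩ | c') h <;>
        have h0 := congrArg Subtype.val h <;>
        have e00 := congrArg (fun X : SL(2, F) => X.1 0 0) h0 <;>
        have e10 := congrArg (fun X : SL(2, F) => X.1 1 0) h0 <;>
        simp [f, mk2] at h0 e00 e10
      all_goals first
        | (subst h0; rfl)
        | exact absurd (e10.symm.trans hB) c'.ne_zero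
        | exact absurd (e10.trans hB') c.ne_zero
        | (rw [Units.ext e00, Units.ext e10]; done)
        | (rw [Units.ext e10]; done)
        | exact absurd e00 a.ne_zero
        | exact absurd e00.symm a'.ne_zero
        | exact absurd e00 a'.ne_zero.symm
    · rintro ⟨B, hB⟩
      by_cases h10 : B.1 1 0 = 0
      · exact ⟨Sum.inl ⟨B, h10⟩, rfl⟩
      have hd := det_eq B
      by_cases h01 : B.1 0 1 = 0
      · rw [h01, zero_mul, sub_zero] at hd
        refine ⟨Sum.inr (Sum.inl (Units.mk0 _ (left_ne_zero_of_mul_eq_one hd), Units.mk0 _ h10)),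
          Subtype.ext ?_⟩
        apply ext2 <;> simp [f, mk2, h01, inv_eq_of_mul_eq_one_right hd]
      obtain ⟨h00, h11⟩ := hB.resolve_left h10 |>.resolve_left h01
      refine ⟨Sum.inr (Sum.inr (Units.mk0 _ h10)), Subtype.ext ?_⟩
      rw [h00, zero_mul, zero_sub] at hd
      apply ext2 <;> simp [f, mk2, h00, h11]
      field_simp
      linear_combination hd
  rw [← Nat.card_eq_of_bijective f hf, Nat.card_sum, Nat.card_sum, Nat.card_prod,
    PSL2Sylow.card_borel, PSLCard.card_units_field]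
  have h1 := PSLCard.one_lt_card F
  obtain ⟨j, hj⟩ : ∃ j, Nat.card F = j + 1 := ⟨Nat.card F - 1, by omega⟩
  rw [hj, Nat.add_sub_cancel]
  ring

theorem count_split (h4 : 4 ≤ Nat.card F) (hp23 : p = 2 ∨ p = 3)
    (hsub : ∀ R : Subfield F, 3 ≤ Nat.card R → Nat.card R = Nat.card F ∨ Nat.card R = 3)
    (a : Fˣ) (hx : π (d a) * π (d a) ≠ 1) (hx24 : p = 3 → ¬ orderOf (π (d a)) ∣ 24) :
    DicksonPSL.dd F * count (π (d a)) = 2 * Nat.card F * (Nat.card F - 1) := by
  have ha2 : (a : F) ^ 2 ≠ 1 ∧ (a : F) ^ 2 ≠ -1 := by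
    constructor <;> intro e <;> refine hx ?_ <;> rw [← map_mul, PSL2Proj52.π_eq_one, d_mul]
    · left; rw [show a * a = 1 from Units.ext (by push_cast; linear_combination e), d_one]
    · right; apply ext2 <;> simp [d, mk2]
      · linear_combination e
      · rw [← mul_inv, show (a : F) * a = -1 by linear_combination e]; norm_num
  rw [← count_lift (π (d a)) (fun B => B.1 1 0 = 0 ∨ B.1 0 1 = 0 ∨ (B.1 0 0 = 0 ∧ B.1 1 1 = 0)),
    card_split_set]
  intro B
  rw [sol_iff_semisimple p h4 hp23 hsub hx hx24]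
  have hne : (a : F) - (a : F)⁻¹ ≠ 0 := fun e => ha2.1 (by
    have := sub_eq_zero.1 e; field_simp at this; linear_combination this)
  have hne' : (a : F) + (a : F)⁻¹ ≠ 0 := fun e => ha2.2 (by
    field_simp at e; linear_combination e)
  constructor
  · rintro (h | h | ⟨pt, h, h'⟩)
    · rcases (commute_iff _ _).mp h with e | e <;>
        have e00 := congrArg (fun X : SL(2, F) => X.1 0 0) e <;>
        have e01 := congrArg (fun X : SL(2, F) => X.1 0 1) e <;>
        have e11 := congrArg (fun X : SL(2, F) => X.1 1 1) e <;>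
        simp only [mul_apply2, coe_neg', Matrix.neg_apply] at e00 e01 e11 <;>
        simp [d, mk2] at e00 e01 e11
      · exact Or.inr (Or.inl ((mul_eq_zero.mp
          (show B.1 0 1 * ((a : F) - (a : F)⁻¹) = 0 by linear_combination e01)).resolve_right hne))
      · exact Or.inr (Or.inl ((mul_eq_zero.mp
          (show B.1 0 1 * ((a : F) + (a : F)⁻¹) = 0 by linear_combination e01)).resolve_right hne'))
    · rw [mul_inv_eq_iff_eq_mul, ← map_inv, ← map_mul, ← map_mul, PSL2Proj52.π_eq_iff] at h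
      rw [show (d a)⁻¹ = d a⁻¹ from (map_inv dHom a).symm] at h
      rcases h with e | e <;>
        have e00 := congrArg (fun X : SL(2, F) => X.1 0 0) e <;>
        have e01 := congrArg (fun X : SL(2, F) => X.1 0 1) e <;>
        have e11 := congrArg (fun X : SL(2, F) => X.1 1 1) e <;>
        simp only [mul_apply2, coe_neg', Matrix.neg_apply] at e00 e01 e11 <;>
        simp [d, mk2] at e00 e01 e11
      · exact Or.inr (Or.inr ⟨(mul_eq_zero.mp
          (show B.1 0 0 * ((a : F) - (a : F)⁻¹) = 0 by linear_combination e00)).resolve_right hne,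
          (mul_eq_zero.mp
          (show B.1 1 1 * ((a : F) - (a : F)⁻¹) = 0 by linear_combination -e11)).resolve_right hne⟩)
      · exact Or.inr (Or.inr ⟨(mul_eq_zero.mp
          (show B.1 0 0 * ((a : F) + (a : F)⁻¹) = 0 by linear_combination e00)).resolve_right hne',
          (mul_eq_zero.mp
          (show B.1 1 1 * ((a : F) + (a : F)⁻¹) = 0 by linear_combination e11)).resolve_right hne'⟩)
    · cases pt with
      | infty => exact Or.inl ((fix_infty B).mp h')
      | coe z =>
        obtain ⟨-, e⟩ := (fix_coe (d a) z).mp h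
        simp [d, mk2] at e
        have hz : z = 0 := (mul_eq_zero.mp
          (show z * ((a : F) - (a : F)⁻¹) = 0 by linear_combination e)).resolve_right hne
        obtain ⟨-, e'⟩ := (fix_coe B z).mp h'
        rw [hz] at e'
        exact Or.inr (Or.inl (by linear_combination e'))
  · rintro (h | h | ⟨h0, h1⟩)
    · exact Or.inr (Or.inr ⟨_, (fix_infty _).mpr (by simp [d, mk2]), (fix_infty B).mpr h⟩)
    · exact Or.inr (Or.inr ⟨_, fix_zero_of _ (by simp [d, mk2]), fix_zero_of B h⟩)
    · refine Or.inr (Or.inl ?_)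
      rw [mul_inv_eq_iff_eq_mul, ← map_inv, ← map_mul, ← map_mul]
      congr 1
      rw [show (d a)⁻¹ = d a⁻¹ from (map_inv dHom a).symm]
      apply ext2 <;> rw [mul_apply2, mul_apply2] <;> simp [d, mk2, h0, h1] <;> ring

/-! ### Non-split torus -/

theorem count_nonsplit (h4 : 4 ≤ Nat.card F) (hp23 : p = 2 ∨ p = 3)
    (hsub : ∀ R : Subfield F, 3 ≤ Nat.card R → Nat.card R = Nat.card F ∨ Nat.card R = 3)
    (A : SL(2, F)) (hns : ∀ r : F, r ^ 2 - tr A * r + 1 ≠ 0) (hx : π A * π A ≠ 1)
    (hx24 : p = 3 → ¬ orderOf (π A) ∣ 24) :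
    DicksonPSL.dd F * count (π A) = 2 * (Nat.card F + 1) := by
  obtain ⟨-, hcard⟩ := centralizer_nonsplit hns
  have hnofix : ∀ pt : OnePoint F, ιF (π A) • pt ≠ pt := by
    intro pt
    cases pt with
    | infty =>
      intro h
      have h0 := (fix_infty A).mp h
      exact hns (A.1 0 0) (by
        rw [tr]; linear_combination (-1 : F) * det_eq A - A.1 0 1 * h0)
    | coe z =>
      intro h
      obtain ⟨-, e⟩ := (fix_coe A z).mp h
      exact hns (A.1 1 0 * z + A.1 1 1) (by
        rw [tr]; linear_combination (-1 : F) * det_eq A - A.1 1 0 * e)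
  have h4' : tr A ^ 2 ≠ 4 := by
    intro h
    have h' : (tr A - 2) * (tr A + 2) = 0 := by linear_combination h
    rcases mul_eq_zero.mp h' with e | e
    · exact hns 1 (by linear_combination -e)
    · exact hns (-1) (by linear_combination e)
  obtain ⟨n, hn⟩ := isConj_iff.mp (isConj_inv h4')
  have hset : Nat.card {y : PSL₂ // π A * y = y * π A ∨ y * π A * y⁻¹ = (π A)⁻¹} =
      2 * Nat.card {y : PSL₂ // π A * y = y * π A} := by
    have hinv : π n * π A * (π n)⁻¹ = (π A)⁻¹ := by rw [← map_inv, ← map_mul, ← map_mul, hn, map_inv]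
    let f : {y : PSL₂ // π A * y = y * π A} ⊕ {y : PSL₂ // π A * y = y * π A} →
        {y : PSL₂ // π A * y = y * π A ∨ y * π A * y⁻¹ = (π A)⁻¹} := fun z =>
      z.elim (fun y => ⟨y.1, Or.inl y.2⟩) fun y => ⟨π n * y.1, Or.inr (by
        calc π n * y.1 * π A * (π n * y.1)⁻¹ = π n * (y.1 * π A * y.1⁻¹) * (π n)⁻¹ := by group
          _ = _ := by rw [← y.2, mul_inv_cancel_right, hinv])⟩
    have hdis : ∀ y : PSL₂, π A * y = y * π A → y * π A * y⁻¹ = (π A)⁻¹ → False := by
      intro y h h'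
      rw [← h, mul_inv_cancel_right] at h'
      exact hx (eq_inv_iff_mul_eq_one.mp h')
    have hf : Function.Bijective f := by
      constructor
      · rintro (⟨a, ha⟩ | ⟨a, ha⟩) (⟨b, hb⟩ | ⟨b, hb⟩) h <;>
          have h0 := congrArg Subtype.val h <;> simp [f] at h0
        · subst h0; rfl
        · exact (hdis a ha (by
            rw [h0]
            calc π n * b * π A * (π n * b)⁻¹ = π n * (b * π A * b⁻¹) * (π n)⁻¹ := by group
              _ = _ := by rw [← hb, mul_inv_cancel_right, hinv])).elim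
        · exact (hdis b hb (by
            rw [← h0]
            calc π n * a * π A * (π n * a)⁻¹ = π n * (a * π A * a⁻¹) * (π n)⁻¹ := by group
              _ = _ := by rw [← ha, mul_inv_cancel_right, hinv])).elim
        · subst h0; rfl
      · rintro ⟨y, h | h⟩
        · exact ⟨Sum.inl ⟨y, h⟩, rfl⟩
        · refine ⟨Sum.inr ⟨(π n)⁻¹ * y, ?_⟩, Subtype.ext (mul_inv_cancel_left _ _)⟩
          have : y * π A * y⁻¹ = π n * π A * (π n)⁻¹ := h.trans hinv.symm
          calc π A * ((π n)⁻¹ * y) = (π n)⁻¹ * (π n * π A * (π n)⁻¹) * y := by group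
            _ = (π n)⁻¹ * (y * π A * y⁻¹) * y := by rw [this]
            _ = (π n)⁻¹ * y * π A := by group
    rw [← Nat.card_eq_of_bijective f hf, Nat.card_sum, two_mul]
  have hC : DicksonPSL.dd F * Nat.card {y : PSL₂ // π A * y = y * π A} = Nat.card F + 1 := by
    rw [← card_lift (fun y => π A * y = y * π A), ← hcard]
    refine Nat.card_congr (Equiv.subtypeEquivRight fun B => ?_)
    rw [Subgroup.mem_centralizer_singleton_iff, commute_iff]
    refine ⟨fun h => h.elim Eq.symm fun h => ?_, fun h => Or.inl h.symm⟩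
    by_cases h2 : (2 : F) = 0
    · rw [h, ← neg_one_mul (B * A), PSL2Proj52.neg_one_eq_one h2, one_mul]
    exfalso
    have e : B * A * B⁻¹ = -A := by
      rw [mul_inv_eq_iff_eq_mul, neg_mul, h, neg_neg]
    have h1 := congrArg tr e
    rw [tr_conj, tr_neg] at h1
    have h3 : (2 : F) * tr A = 0 := by linear_combination h1
    exact hx (DicksonFourGroups.sq_of_tr_zero h2 ((mul_eq_zero.mp h3).resolve_left h2))
  rw [← hC, ← mul_assoc, mul_comm 2, mul_assoc, ← hset]
  congr 1
  refine Nat.card_congr (Equiv.subtypeEquivRight fun y => ?_)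
  rw [sol_iff_semisimple p h4 hp23 hsub hx hx24]
  refine ⟨fun h => ?_, fun h => h.elim Or.inl (fun h => Or.inr (Or.inl h))⟩
  rcases h with h | h | ⟨pt, h, -⟩
  · exact Or.inl h
  · exact Or.inr h
  · exact absurd h (hnofix pt)

include p hp in
theorem count_semisimple (h4 : 4 ≤ Nat.card F) (hp23 : p = 2 ∨ p = 3)
    (hsub : ∀ R : Subfield F, 3 ≤ Nat.card R → Nat.card R = Nat.card F ∨ Nat.card R = 3)
    (x : PSL₂) (h1 : x ≠ 1) (h2 : orderOf x ≠ 2) (hx24 : p = 3 → ¬ orderOf x ∣ 24) :
    (orderOf x ∣ Nat.card F - 1 →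
      DicksonPSL.dd F * count x = 2 * Nat.card F * (Nat.card F - 1)) ∧
    (orderOf x ∣ Nat.card F + 1 → DicksonPSL.dd F * count x = 2 * (Nat.card F + 1)) := by
  have hq := PSLCard.one_lt_card F
  have h3 : 3 ≤ orderOf x := by
    have := orderOf_pos x
    have : orderOf x ≠ 1 := fun h => h1 (orderOf_eq_one_iff.mp h)
    omega
  have hxx : x * x ≠ 1 := fun h => by
    have := Nat.le_of_dvd two_pos (orderOf_dvd_of_pow_eq_one (show x ^ 2 = 1 by rw [sq, h]))
    omega
  have hboth : orderOf x ∣ Nat.card F - 1 → orderOf x ∣ Nat.card F + 1 → False := fun ha hb => by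
    have := Nat.dvd_sub hb ha
    rw [show Nat.card F + 1 - (Nat.card F - 1) = 2 by omega] at this
    have := Nat.le_of_dvd two_pos this
    omega
  have huni : orderOf x ∣ Nat.card F - 1 ∨ orderOf x ∣ Nat.card F + 1 → x ^ p ≠ 1 := by
    intro h e
    obtain ⟨n, hn0, hn⟩ := PSL2Sylow.card_field_eq (F := F) p
    have hop : orderOf x = p := ((Nat.dvd_prime hp.out).mp (orderOf_dvd_of_pow_eq_one e)).resolve_left
      (by omega)
    have hpq : orderOf x ∣ Nat.card F := by rw [hn, hop]; exact dvd_pow_self p (by omega)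
    rcases h with h | h
    · have := Nat.dvd_sub hpq h
      rw [show Nat.card F - (Nat.card F - 1) = 1 by omega] at this
      have := Nat.dvd_one.mp this
      omega
    · have := Nat.dvd_sub h hpq
      rw [show Nat.card F + 1 - Nat.card F = 1 by omega] at this
      have := Nat.dvd_one.mp this
      omega
  obtain ⟨A, rfl⟩ : ∃ A, π A = x := PSL2Proj52.π_surjective x
  have hnu : ∀ y : F, (IsConj A (u y) ∨ IsConj A (-(u y))) → π A ^ p = 1 := by
    intro y hy
    rcases hy with hy | hy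
    · rw [← map_pow, pow_char p ((tr_eq_of_isConj hy).trans (tr_u y)), map_one]
    · rw [← PSL2Proj52.π_neg, ← map_pow, pow_char p (A := -A)
        (by rw [tr_neg, tr_eq_of_isConj hy, tr_neg, tr_u, neg_neg]), map_one]
  rcases trichotomy A with ⟨y, hy⟩ | ⟨a, -, hc⟩ | hns
  · exact ⟨fun h => absurd (hnu y hy) (huni (Or.inl h)), fun h => absurd (hnu y hy) (huni (Or.inr h))⟩
  · have hπ : IsConj (π A) (π (d a)) := MonoidHom.map_isConj _ hc
    obtain ⟨c, hc'⟩ := isConj_iff.mp hπ
    have ho : orderOf (π (d a)) = orderOf (π A) := by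
      rw [← hc']; exact (MulAut.conj c).orderOf_eq _
    have hdvd : orderOf (π A) ∣ Nat.card F - 1 := by
      rw [← ho]
      exact orderOf_dvd_of_pow_eq_one (by rw [← map_pow, pow_card_sub_one_d, map_one])
    have hcnt := count_split p h4 hp23 hsub a
      (fun e => by
        have := Nat.le_of_dvd two_pos (orderOf_dvd_of_pow_eq_one (show π (d a) ^ 2 = 1 by rw [sq, e]))
        omega)
      (fun h => ho ▸ hx24 h)
    rw [count_conj hπ]
    exact ⟨fun _ => hcnt, fun h => (hboth hdvd h).elim⟩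
  · have hdvd : orderOf (π A) ∣ Nat.card F + 1 := by
      refine (orderOf_map_dvd π A).trans ?_
      obtain ⟨-, hcard⟩ := centralizer_nonsplit hns
      rw [← hcard]
      exact Subgroup.orderOf_dvd_natCard _ (Subgroup.mem_centralizer_singleton_iff.mpr rfl)
    exact ⟨fun h => (hboth h hdvd).elim, fun _ => count_nonsplit p h4 hp23 hsub A hns hxx hx24⟩

/-- The elements with given non-zero lower entry and trace. -/
theorem card_lower (Q : F → F → Prop) :
    Nat.card {A : SL(2, F) // A.1 1 0 = 0 ∨ Q (A.1 1 0) (tr A)} =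
      Nat.card F * (Nat.card F - 1) + Nat.card F * Nat.card {ct : F × F // ct.1 ≠ 0 ∧ Q ct.1 ct.2} := by
  let f : (PSL2Sylow.borel F) ⊕ (F × {ct : F × F // ct.1 ≠ 0 ∧ Q ct.1 ct.2}) →
      {A : SL(2, F) // A.1 1 0 = 0 ∨ Q (A.1 1 0) (tr A)} := fun z =>
    match z with
    | Sum.inl B => ⟨B, Or.inl B.2⟩
    | Sum.inr (a, ⟨(c, t), hc, hQ⟩) =>
      ⟨mk2 a ((a * (t - a) - 1) / c) c (t - a) (by
        rw [div_mul_cancel₀ _ (show c ≠ 0 from hc)]; ring), Or.inr (by
        simpa [tr, mk2] using hQ)⟩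
  have hf : Function.Bijective f := by
    constructor
    · rintro (⟨B, hB⟩ | ⟨a, ⟨c, t⟩, hc, hQ⟩) (⟨B', hB'⟩ | ⟨a', ⟨c', t'⟩, hc', hQ'⟩) h <;>
        have h0 := congrArg Subtype.val h <;>
        have e00 := congrArg (fun X : SL(2, F) => X.1 0 0) h0 <;>
        have e10 := congrArg (fun X : SL(2, F) => X.1 1 0) h0 <;>
        have e11 := congrArg (fun X : SL(2, F) => X.1 1 1) h0 <;>
        simp [f, mk2] at h0 e00 e10 e11
      · subst h0; rfl
      · exact absurd (e10.symm.trans hB) hc'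
      · exact absurd (e10.trans hB') hc
      · subst e00 e10
        have : t = t' := by linear_combination e11
        subst this
        rfl
    · rintro ⟨A, hA⟩
      by_cases h10 : A.1 1 0 = 0
      · exact ⟨Sum.inl ⟨A, h10⟩, rfl⟩
      refine ⟨Sum.inr (A.1 0 0, ⟨(A.1 1 0, tr A), h10, hA.resolve_left h10⟩), Subtype.ext ?_⟩
      apply ext2 <;> simp [f, mk2, tr]
      rw [div_eq_iff h10]
      linear_combination det_eq A
  rw [← Nat.card_eq_of_bijective f hf, Nat.card_sum, Nat.card_prod, PSL2Sylow.card_borel]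

end Cfsg.Agent.DicksonSolubilizer
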