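import Mathlib

/-!
The invariant algebra of a primitive group containing the left regular representation of a dihedral group:
every non-trivial orbit of the stabiliser of `1` contains rotations and reflections and is closed under inversion.
-/

set_option autoImplicit false

namespace Cfsg.Agent.DihedralBGroup49

open Finset DihedralGroup

variable {m : ℕ} [NeZero m] (G : Subgroup (Equiv.Perm (DihedralGroup m)))

/-- Same orbit of the stabiliser of the identity. -/
def Rel (x y : DihedralGroup m) : Prop := ∃ σ ∈ G, σ 1 = 1 ∧ σ x = y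

/-- Invariant under the stabiliser of the identity. -/
def InvSet (T : Set (DihedralGroup m)) : Prop := ∀ x y, Rel G x y → x ∈ T → y ∈ T

/-- A group ring element invariant under the stabiliser of the identity. -/
def InvA {R : Type*} [Semiring R] (a : MonoidAlgebra R (DihedralGroup m)) : Prop :=
  ∀ x y, Rel G x y → a.coeff x = a.coeff y

/-- The hypotheses: left translations and primitivity. -/
structure Pack : Prop where
  left : ∀ c, Equiv.mulLeft c ∈ G
  prim : ∀ K : Subgroup (DihedralGroup m), InvSet G (K : Set (DihedralGroup m)) → K = ⊥ ∨ K = ⊤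
  two : 2 ≤ m

variable {G}

theorem rel_refl (x : DihedralGroup m) : Rel G x x := ⟨1, G.one_mem, rfl, rfl⟩

theorem rel_symm {x y : DihedralGroup m} (h : Rel G x y) : Rel G y x := by
  obtain ⟨σ, hσ, h0, rfl⟩ := h
  exact ⟨σ⁻¹, G.inv_mem hσ, Equiv.Perm.inv_eq_iff_eq.2 h0.symm, σ.symm_apply_apply x⟩

theorem rel_trans {x y z : DihedralGroup m} (h : Rel G x y) (h' : Rel G y z) : Rel G x z := by
  obtain ⟨σ, hσ, h0, rfl⟩ := h
  obtain ⟨τ, hτ, t0, rfl⟩ := h'
  exact ⟨τ * σ, G.mul_mem hτ hσ, by rw [Equiv.Perm.mul_apply, h0, t0], rfl⟩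

theorem rel_one {x : DihedralGroup m} (h : Rel G x 1) : x = 1 := by
  obtain ⟨σ, -, h0, hx⟩ := h
  exact σ.injective (hx.trans h0.symm)

section pack

variable (P : Pack G)
include P

theorem rel_shift {σ : Equiv.Perm (DihedralGroup m)} (hσ : σ ∈ G) (a d : DihedralGroup m) :
    Rel G d ((σ a)⁻¹ * σ (a * d)) := by
  refine ⟨Equiv.mulLeft (σ a)⁻¹ * σ * Equiv.mulLeft a, G.mul_mem (G.mul_mem (P.left _) hσ) (P.left _), ?_, ?_⟩
  · simp
  · simp

theorem rel_inv {x y : DihedralGroup m} (h : Rel G x y) : Rel G x⁻¹ y⁻¹ := by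
  obtain ⟨σ, hσ, h0, rfl⟩ := h
  have := rel_shift P hσ x x⁻¹
  rwa [mul_inv_cancel, h0, mul_one] at this

theorem invSet_closure {T : Set (DihedralGroup m)} (h : InvSet G T) :
    InvSet G (Subgroup.closure T : Set (DihedralGroup m)) := by
  rintro x y ⟨σ, hσ, h0, rfl⟩ hx
  have key : ∀ d ∈ Subgroup.closure T, ∀ a, (σ a)⁻¹ * σ (a * d) ∈ Subgroup.closure T := by
    intro d hd
    induction hd using Subgroup.closure_induction with
    | mem d hd => exact fun a => Subgroup.subset_closure (h _ _ (rel_shift P hσ a d) hd)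
    | one => simp
    | mul d e _ _ hd he =>
      intro a
      have := mul_mem (hd a) (he (a * d))
      rwa [mul_assoc, mul_inv_cancel_left, mul_assoc a d e] at this
    | inv d _ hd =>
      intro a
      have := inv_mem (hd (a * d⁻¹))
      rwa [inv_mul_cancel_right, mul_inv_rev, inv_inv] at this
  simpa [h0] using key x hx 1

theorem closure_cases {T : Set (DihedralGroup m)} (h : InvSet G T) :
    Subgroup.closure T = ⊥ ∨ Subgroup.closure T = ⊤ := P.prim _ (invSet_closure P h)

end pack

/-- The rotations. -/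
def rot (m : ℕ) : Subgroup (DihedralGroup m) where
  carrier := {x | ∃ i, x = r i}
  one_mem' := ⟨0, rfl⟩
  mul_mem' := by rintro _ _ ⟨i, rfl⟩ ⟨j, rfl⟩; exact ⟨i + j, r_mul_r i j⟩
  inv_mem' := by rintro _ ⟨i, rfl⟩; exact ⟨-i, inv_r i⟩

theorem sr_not_rot (i : ZMod m) : sr i ∉ rot m := by
  rintro ⟨j, hj⟩
  exact absurd hj (by simp)

section pack

variable (P : Pack G)
include P

/-- Every non-trivial orbit contains a reflection. -/
theorem meets_sr {x : DihedralGroup m} (hx : x ≠ 1) : ∃ j, Rel G x (sr j) := by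
  by_contra hcon
  push Not at hcon
  have hT : {y | Rel G x y} ⊆ (rot m : Set (DihedralGroup m)) := by
    intro y hy
    rcases y with i | i
    · exact ⟨i, rfl⟩
    · exact absurd hy (hcon i)
  rcases closure_cases P (T := {y | Rel G x y}) (fun a b h h' => rel_trans h' h) with e | e
  · have := Subgroup.subset_closure (k := {y | Rel G x y}) (rel_refl x)
    rw [e, SetLike.mem_coe, Subgroup.mem_bot] at this
    exact hx this
  · exact sr_not_rot (m := m) 0 ((Subgroup.closure_le _).2 hT (e.ge (Subgroup.mem_top _)))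

/-- Every orbit is closed under inversion. -/
theorem rel_self_inv (x : DihedralGroup m) : Rel G x x⁻¹ := by
  by_cases hx : x = 1
  · subst hx; rw [inv_one]; exact rel_refl 1
  obtain ⟨j, hj⟩ := meets_sr P hx
  have := rel_inv P hj
  rw [inv_sr] at this
  exact rel_trans hj (rel_symm this)

/-- Every non-trivial orbit contains a rotation. -/
theorem meets_r {x : DihedralGroup m} (hx : x ≠ 1) : ∃ i, Rel G x (r i) := by
  by_contra hcon
  push Not at hcon
  have hT : ∀ y, Rel G x y → ∃ j, y = sr j := by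
    intro y hy
    rcases y with i | i
    · exact absurd hy (hcon i)
    · exact ⟨i, rfl⟩
  let T' : Set (DihedralGroup m) := {y | ∃ a b, Rel G x a ∧ Rel G x b ∧ y = a * b}
  have hT' : InvSet G T' := by
    rintro _ y ⟨σ, hσ, h0, rfl⟩ ⟨a, b, ha, hb, rfl⟩
    refine ⟨σ a, (σ a)⁻¹ * σ (a * b), rel_trans ha ⟨σ, hσ, h0, rfl⟩, rel_trans hb (rel_shift P hσ a b), ?_⟩
    rw [mul_inv_cancel_left]
  have hsub : T' ⊆ (rot m : Set (DihedralGroup m)) := by
    rintro _ ⟨a, b, ha, hb, rfl⟩
    obtain ⟨i, rfl⟩ := hT a ha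
    obtain ⟨j, rfl⟩ := hT b hb
    exact ⟨j - i, sr_mul_sr i j⟩
  rcases closure_cases P hT' with e | e
  · have huniq : ∀ y, Rel G x y → y = x := by
      intro y hy
      have h1 := Subgroup.subset_closure (k := T') ⟨x⁻¹, y, rel_self_inv P x, hy, rfl⟩
      rw [e, SetLike.mem_coe, Subgroup.mem_bot] at h1
      exact (inv_mul_eq_one.1 h1).symm
    obtain ⟨j, rfl⟩ := hT x (rel_refl x)
    have hinv : InvSet G ({sr j} : Set (DihedralGroup m)) := by
      rintro a b hab rfl
      exact huniq b hab
    rcases closure_cases P hinv with e' | e'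
    · have := Subgroup.subset_closure (k := ({sr j} : Set (DihedralGroup m))) rfl
      rw [e', SetLike.mem_coe, Subgroup.mem_bot] at this
      exact hx this
    · have h1 : (r 1 : DihedralGroup m) ∈ Subgroup.closure ({sr j} : Set (DihedralGroup m)) :=
        e'.ge (Subgroup.mem_top _)
      obtain ⟨k, hk⟩ := Subgroup.mem_closure_singleton.1 h1
      haveI : Fact (1 < m) := ⟨P.two⟩
      rcases Int.even_or_odd k with ⟨l, rfl⟩ | ⟨l, rfl⟩
      · rw [← two_mul, zpow_mul, zpow_ofNat, pow_two, sr_mul_self, one_zpow] at hk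
        rw [one_def, r.injEq] at hk
        exact zero_ne_one hk
      · rw [zpow_add_one, zpow_mul, zpow_ofNat, pow_two, sr_mul_self, one_zpow, one_mul] at hk
        exact absurd hk (by simp)
  · exact sr_not_rot (m := m) 0 ((Subgroup.closure_le _).2 hsub (e.ge (Subgroup.mem_top _)))

end pack

/-! ### The algebra -/

section algebra

variable {R : Type*} [CommRing R]

theorem coeff_mul' (a b : MonoidAlgebra R (DihedralGroup m)) (z : DihedralGroup m) :
    (a * b).coeff z = ∑ y, a.coeff y * b.coeff (y⁻¹ * z) := by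
  classical
  rw [MonoidAlgebra.coeff_mul_antidiag a b z (univ.image fun y => (y, y⁻¹ * z))
    (fun {q} => by
      constructor
      · intro h
        obtain ⟨y, -, rfl⟩ := mem_image.1 h
        exact mul_inv_cancel_left y z
      · intro h
        exact mem_image.2 ⟨q.1, mem_univ _, Prod.ext rfl (by rw [← h]; simp)⟩)]
  rw [sum_image]
  intro a _ b _ h
  exact congrArg Prod.fst h

theorem invA_mul (P : Pack G) {a b : MonoidAlgebra R (DihedralGroup m)} (ha : InvA G a) (hb : InvA G b) :
    InvA G (a * b) := by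
  rintro x y ⟨σ, hσ, h0, rfl⟩
  rw [coeff_mul', coeff_mul', ← Equiv.sum_comp σ (fun y => a.coeff y * b.coeff (y⁻¹ * σ x))]
  refine sum_congr rfl fun y _ => ?_
  congr 1
  · exact ha _ _ ⟨σ, hσ, h0, rfl⟩
  · have := hb _ _ (rel_shift P hσ y (y⁻¹ * x))
    rwa [mul_inv_cancel_left] at this

theorem invA_one : InvA G (1 : MonoidAlgebra R (DihedralGroup m)) := by
  classical
  intro x y h
  rw [MonoidAlgebra.one_def, MonoidAlgebra.coeff_single, Finsupp.single_apply, Finsupp.single_apply]
  by_cases hx : x = 1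
  · obtain ⟨σ, -, h0, rfl⟩ := h
    rw [hx, h0]
  · rw [if_neg (Ne.symm hx), if_neg]
    intro hy
    exact hx (rel_one (hy ▸ h))

theorem invA_pow (P : Pack G) {a : MonoidAlgebra R (DihedralGroup m)} (ha : InvA G a) (k : ℕ) :
    InvA G (a ^ k) := by
  induction k with
  | zero => rw [pow_zero]; exact invA_one
  | succ k ih => rw [pow_succ]; exact invA_mul P ih ha

/-- A function as a group ring element. -/
noncomputable def ofFun (h : DihedralGroup m → R) : MonoidAlgebra R (DihedralGroup m) :=
  ∑ x, MonoidAlgebra.single x (h x)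

theorem coeff_ofFun (h : DihedralGroup m → R) (z : DihedralGroup m) : (ofFun h).coeff z = h z := by
  classical
  simp [ofFun, Finsupp.single_apply]

theorem ext' {a b : MonoidAlgebra R (DihedralGroup m)} (h : ∀ x, a.coeff x = b.coeff x) : a = b :=
  MonoidAlgebra.ext (Finsupp.ext h)

/-! ### Rotation and reflection parts -/

/-- The rotations as a homomorphism. -/
def rHom (m : ℕ) : Multiplicative (ZMod m) →* DihedralGroup m where
  toFun i := r i.toAdd
  map_one' := rfl
  map_mul' i j := (r_mul_r i.toAdd j.toAdd).symm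

/-- The group ring of the rotations inside the group ring. -/
noncomputable def phi : AddMonoidAlgebra R (ZMod m) →ₐ[R] MonoidAlgebra R (DihedralGroup m) :=
  AddMonoidAlgebra.lift R (MonoidAlgebra R (DihedralGroup m)) (ZMod m)
    ((MonoidAlgebra.of R (DihedralGroup m)).comp (rHom m))

theorem phi_single (i : ZMod m) (c : R) :
    phi (AddMonoidAlgebra.single i c) = MonoidAlgebra.single (r i : DihedralGroup m) c := by
  simp [phi, rHom, AddMonoidAlgebra.lift_single, MonoidAlgebra.of_apply]
  rfl

/-- A function on `ZMod m` as a group ring element. -/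
noncomputable def ofC (h : ZMod m → R) : AddMonoidAlgebra R (ZMod m) := ∑ i, AddMonoidAlgebra.single i (h i)

theorem coeff_ofC (h : ZMod m → R) (i : ZMod m) : (ofC h).coeff i = h i := by
  classical
  simp [ofC, Finsupp.single_apply]

theorem ofC_coeff (X : AddMonoidAlgebra R (ZMod m)) : ofC (fun i => X.coeff i) = X :=
  AddMonoidAlgebra.ext (Finsupp.ext fun i => coeff_ofC _ i)

/-- A reflection. -/
noncomputable def sig : MonoidAlgebra R (DihedralGroup m) := MonoidAlgebra.single (sr 0) 1

/-- The inversion on the group ring of the rotations. -/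
noncomputable def star' : AddMonoidAlgebra R (ZMod m) →ₐ[R] AddMonoidAlgebra R (ZMod m) :=
  AddMonoidAlgebra.mapDomainAlgHom R R (-AddMonoidHom.id (ZMod m))

theorem star'_single (i : ZMod m) (c : R) :
    star' (AddMonoidAlgebra.single i c) = AddMonoidAlgebra.single (-i) c := by
  simp [star']

theorem coeff_star' (X : AddMonoidAlgebra R (ZMod m)) (i : ZMod m) : (star' X).coeff i = X.coeff (-i) := by
  classical
  conv_lhs => rw [← ofC_coeff X]
  simp [ofC, star'_single, Finsupp.single_apply, neg_eq_iff_eq_neg]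

theorem star'_star' (X : AddMonoidAlgebra R (ZMod m)) : star' (star' X) = X :=
  AddMonoidAlgebra.ext (Finsupp.ext fun i => by rw [coeff_star', coeff_star', neg_neg])

theorem phi_mul_sig (X : AddMonoidAlgebra R (ZMod m)) :
    phi X * sig = sig * phi (star' X) := by
  rw [← ofC_coeff X, ofC]
  simp [sum_mul, mul_sum, phi_single, star'_single, sig, MonoidAlgebra.single_mul_single]

theorem sig_sq : (sig : MonoidAlgebra R (DihedralGroup m)) * sig = 1 := by
  rw [sig, MonoidAlgebra.single_mul_single, sr_mul_self, one_mul, MonoidAlgebra.one_def]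

/-- The element with given rotation and reflection parts. -/
noncomputable def mk (X Y : AddMonoidAlgebra R (ZMod m)) : MonoidAlgebra R (DihedralGroup m) :=
  phi X + sig * phi Y

/-- The rotation part. -/
noncomputable def cp (a : MonoidAlgebra R (DihedralGroup m)) : AddMonoidAlgebra R (ZMod m) :=
  ofC fun i => a.coeff (r i)

/-- The reflection part. -/
noncomputable def yp (a : MonoidAlgebra R (DihedralGroup m)) : AddMonoidAlgebra R (ZMod m) :=
  ofC fun i => a.coeff (sr i)

theorem coeff_cp (a : MonoidAlgebra R (DihedralGroup m)) (i : ZMod m) : (cp a).coeff i = a.coeff (r i) :=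
  coeff_ofC _ i

theorem coeff_yp (a : MonoidAlgebra R (DihedralGroup m)) (i : ZMod m) : (yp a).coeff i = a.coeff (sr i) :=
  coeff_ofC _ i

theorem coeff_mk (X Y : AddMonoidAlgebra R (ZMod m)) :
    (∀ i, (mk X Y).coeff (r i) = X.coeff i) ∧ (∀ i, (mk X Y).coeff (sr i) = Y.coeff i) := by
  classical
  constructor <;> intro i <;>
  · conv_lhs => rw [← ofC_coeff X, ← ofC_coeff Y]
    simp [mk, ofC, phi_single, sig, mul_sum, MonoidAlgebra.single_mul_single, Finsupp.single_apply]

theorem mk_cp_yp (a : MonoidAlgebra R (DihedralGroup m)) : mk (cp a) (yp a) = a := by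
  refine ext' fun x => ?_
  rcases x with i | i
  · rw [(coeff_mk _ _).1, coeff_cp]
  · rw [(coeff_mk _ _).2, coeff_yp]

theorem cp_mk (X Y : AddMonoidAlgebra R (ZMod m)) : cp (mk X Y) = X :=
  AddMonoidAlgebra.ext (Finsupp.ext fun i => by rw [coeff_cp, (coeff_mk X Y).1])

theorem yp_mk (X Y : AddMonoidAlgebra R (ZMod m)) : yp (mk X Y) = Y :=
  AddMonoidAlgebra.ext (Finsupp.ext fun i => by rw [coeff_yp, (coeff_mk X Y).2])

theorem mk_mul (X Y X' Y' : AddMonoidAlgebra R (ZMod m)) :
    mk X Y * mk X' Y' = mk (X * X' + star' Y * Y') (star' X * Y' + Y * X') := by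
  simp only [mk, map_add, map_mul, add_mul, mul_add]
  have h1 : phi X * (sig * phi Y') = sig * (phi (star' X) * phi Y') := by
    rw [← mul_assoc, phi_mul_sig, mul_assoc]
  have h2 : sig * phi Y * (sig * phi Y') = phi (star' Y) * phi Y' := by
    rw [mul_assoc, ← mul_assoc (phi Y), phi_mul_sig, mul_assoc sig, ← mul_assoc, sig_sq, one_mul]
  rw [h1, h2, mul_assoc sig (phi Y)]
  abel

theorem cp_mul (a b : MonoidAlgebra R (DihedralGroup m)) :
    cp (a * b) = cp a * cp b + star' (yp a) * yp b := by
  conv_lhs => rw [← mk_cp_yp a, ← mk_cp_yp b, mk_mul, cp_mk]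

theorem yp_mul (a b : MonoidAlgebra R (DihedralGroup m)) :
    yp (a * b) = star' (cp a) * yp b + yp a * cp b := by
  conv_lhs => rw [← mk_cp_yp a, ← mk_cp_yp b, mk_mul, yp_mk]

theorem star'_cp (P : Pack G) {a : MonoidAlgebra R (DihedralGroup m)} (ha : InvA G a) :
    star' (cp a) = cp a := by
  refine AddMonoidAlgebra.ext (Finsupp.ext fun i => ?_)
  rw [coeff_star', coeff_cp, coeff_cp, ← inv_r]
  exact (ha _ _ (rel_self_inv P (r i))).symm

/-- Invariant elements are determined by their rotation parts. -/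
theorem inv_ext (P : Pack G) {a b : MonoidAlgebra R (DihedralGroup m)} (ha : InvA G a) (hb : InvA G b)
    (h : cp a = cp b) : a = b := by
  refine ext' fun x => ?_
  obtain ⟨i, hi⟩ : ∃ i, Rel G x (r i) := by
    by_cases hx : x = 1
    · exact ⟨0, by rw [hx, one_def]; exact rel_refl _⟩
    · exact meets_r P hx
  rw [ha _ _ hi, hb _ _ hi, ← coeff_cp, ← coeff_cp, h]

end algebra

end Cfsg.Agent.DihedralBGroup49
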