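import Cfsg.Agent.Lib.DihedralBGroup49Alg

/-!
For an odd prime `p` dividing `m` every non-trivial orbit contains a rotation whose order is divisible by `p`;
consequently invariant functions with the Galois symmetry are periodic modulo the rotations of order `p`.
-/

set_option autoImplicit false
set_option linter.unusedSectionVars false

namespace Cfsg.Agent.DihedralBGroup49

open Finset DihedralGroup

/-- The decomposition of `m` at an odd prime. -/
structure PFac (m p a k : ℕ) : Prop where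
  prime : p.Prime
  odd : Odd p
  eq : m = p ^ a * k
  cop : Nat.Coprime p k
  pos : 1 ≤ a

variable {m : ℕ} [NeZero m] {p a k : ℕ}

theorem PFac.k_pos (F : PFac m p a k) : 0 < k := by
  rcases Nat.eq_zero_or_pos k with h | h
  · exact absurd (by rw [F.eq, h, mul_zero]) (NeZero.ne m)
  · exact h

theorem PFac.cast_zero (F : PFac m p a k) : ((p : ZMod m) ^ a) * (k : ZMod m) = 0 := by
  rw [← Nat.cast_pow, ← Nat.cast_mul, ← F.eq, ZMod.natCast_self]

/-- The elements killed by `k` are the ones of order prime to `p`. -/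
theorem PFac.kill (F : PFac m p a k) {i : ZMod m} {j : ℕ} (hk : (k : ZMod m) * i = 0)
    (hp : ((p : ZMod m) ^ j) * i = 0) : i = 0 := by
  have h : Nat.Coprime (p ^ j) k := F.cop.pow_left j
  obtain ⟨u, v, huv⟩ := Nat.isCoprime_iff_coprime.2 h
  have h1 := congrArg (fun z : ℤ => (z : ZMod m) * i) huv
  push_cast at h1
  rw [add_mul, mul_assoc, mul_assoc, hp, hk, mul_zero, mul_zero, add_zero, one_mul] at h1
  exact h1.symm

/-- Supported on the elements of order prime to `p`, modulo `p ^ N`. -/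
def HS (p k N : ℕ) (b : AddMonoidAlgebra ℤ (ZMod m)) : Prop :=
  ∀ i : ZMod m, (k : ZMod m) * i ≠ 0 → (p ^ N : ℤ) ∣ b.coeff i

theorem acoeff_mul (x y : AddMonoidAlgebra ℤ (ZMod m)) (z : ZMod m) :
    (x * y).coeff z = ∑ i, x.coeff i * y.coeff (z - i) := by
  classical
  rw [AddMonoidAlgebra.coeff_mul_antidiag x y z (univ.image fun i => (i, z - i))
    (fun {q} => by
      constructor
      · intro h
        obtain ⟨i, -, rfl⟩ := mem_image.1 h
        exact add_sub_cancel i z
      · intro h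
        exact mem_image.2 ⟨q.1, mem_univ _, Prod.ext rfl (by rw [← h]; simp)⟩)]
  rw [sum_image]
  intro i _ j _ h
  exact congrArg Prod.fst h

section HS

variable {N M : ℕ} {x y : AddMonoidAlgebra ℤ (ZMod m)}

theorem HS.mono (h : HS p k N x) (hM : M ≤ N) : HS p k M x :=
  fun i hi => (pow_dvd_pow _ hM).trans (h i hi)

theorem HS.add (hx : HS p k N x) (hy : HS p k N y) : HS p k N (x + y) := by
  intro i hi
  rw [AddMonoidAlgebra.coeff_add, Finsupp.add_apply]
  exact dvd_add (hx i hi) (hy i hi)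

theorem HS.zero : HS p k N (0 : AddMonoidAlgebra ℤ (ZMod m)) := fun i _ => by simp

theorem HS.sum {ι : Type*} {s : Finset ι} {f : ι → AddMonoidAlgebra ℤ (ZMod m)}
    (h : ∀ i ∈ s, HS p k N (f i)) : HS p k N (∑ i ∈ s, f i) := by
  classical
  induction s using Finset.induction with
  | empty => rw [sum_empty]; exact HS.zero
  | insert i s hi ih =>
    rw [sum_insert hi]
    exact (h i (mem_insert_self _ _)).add (ih fun j hj => h j (mem_insert_of_mem hj))

theorem HS.mul (hx : HS p k N x) (hy : HS p k N y) : HS p k N (x * y) := by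
  intro z hz
  rw [acoeff_mul]
  refine dvd_sum fun i _ => ?_
  by_cases hi : (k : ZMod m) * i = 0
  · exact dvd_mul_of_dvd_right (hy _ (by rwa [mul_sub, hi, sub_zero])) _
  · exact dvd_mul_of_dvd_left (hx _ hi) _

theorem HS.one : HS p k N (1 : AddMonoidAlgebra ℤ (ZMod m)) := by
  classical
  intro i hi
  rw [AddMonoidAlgebra.one_def, AddMonoidAlgebra.coeff_single, Finsupp.single_apply, if_neg]
  · exact dvd_zero _
  · rintro rfl
    exact hi (mul_zero _)

theorem HS.pow (hx : HS p k N x) (e : ℕ) : HS p k N (x ^ e) := by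
  induction e with
  | zero => rw [pow_zero]; exact HS.one
  | succ e ih => rw [pow_succ]; exact ih.mul hx

theorem HS.smul (hx : HS p k N x) (c : ℕ) {e : ℕ} (hc : p ^ e ∣ c) :
    HS p k (e + N) (x * (c : AddMonoidAlgebra ℤ (ZMod m))) := by
  intro i hi
  rw [mul_comm, ← nsmul_eq_mul, AddMonoidAlgebra.coeff_smul, Finsupp.smul_apply, nsmul_eq_mul, pow_add]
  exact mul_dvd_mul (by exact_mod_cast hc) (hx i hi)

theorem HS.of_dvd_coeff (h : ∀ i, (p ^ N : ℤ) ∣ x.coeff i) : HS p k N x := fun i _ => h i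

end HS

/-- Multiplication of the exponents by `c`. -/
noncomputable def psi (R : Type*) [CommRing R] (c : ZMod m) :
    AddMonoidAlgebra R (ZMod m) →ₐ[R] AddMonoidAlgebra R (ZMod m) :=
  AddMonoidAlgebra.mapDomainAlgHom R R (AddMonoidHom.mulLeft c)

theorem psi_single {R : Type*} [CommRing R] (c i : ZMod m) (v : R) :
    psi R c (AddMonoidAlgebra.single i v) = AddMonoidAlgebra.single (c * i) v := by
  simp [psi]

theorem coeff_psi {R : Type*} [CommRing R] (c : ZMod m) (X : AddMonoidAlgebra R (ZMod m)) (z : ZMod m) :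
    (psi R c X).coeff z = ∑ i ∈ univ.filter (fun i => c * i = z), X.coeff i := by
  classical
  conv_lhs => rw [← ofC_coeff X]
  simp [ofC, psi_single, Finsupp.single_apply, sum_filter]

/-- The Frobenius congruence. -/
theorem frob_one (hp : p.Prime) (x : AddMonoidAlgebra ℤ (ZMod m)) :
    (p : AddMonoidAlgebra ℤ (ZMod m)) ∣ x ^ p - psi ℤ (p : ZMod m) x := by
  classical
  rw [← ofC_coeff x, ofC]
  induction (univ : Finset (ZMod m)) using Finset.induction with
  | empty => simp [zero_pow hp.ne_zero]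
  | insert i s hi ih =>
    obtain ⟨r, hr⟩ := exists_add_pow_prime_eq hp (x := AddMonoidAlgebra.single i (x.coeff i))
      (y := ∑ j ∈ s, AddMonoidAlgebra.single j (x.coeff j))
    obtain ⟨r', hr'⟩ := ih
    obtain ⟨v, hv⟩ : ∃ v : ℤ, x.coeff i ^ p = x.coeff i + p * v := by
      haveI := Fact.mk hp
      have : ((x.coeff i ^ p - x.coeff i : ℤ) : ZMod p) = 0 := by
        push_cast
        rw [ZMod.pow_card, sub_self]
      obtain ⟨v, hv⟩ := (ZMod.intCast_zmod_eq_zero_iff_dvd _ p).1 this
      exact ⟨v, by omega⟩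
    have hs : AddMonoidAlgebra.single i (x.coeff i) ^ p = psi ℤ (p : ZMod m) (AddMonoidAlgebra.single i (x.coeff i)) +
        (p : AddMonoidAlgebra ℤ (ZMod m)) * AddMonoidAlgebra.single ((p : ZMod m) * i) v := by
      rw [psi_single, AddMonoidAlgebra.single_pow, hv, nsmul_eq_mul, AddMonoidAlgebra.single_add,
        AddMonoidAlgebra.natCast_def, AddMonoidAlgebra.single_mul_single, zero_add]
    rw [sum_insert hi, hr, map_add, hs]
    refine ⟨AddMonoidAlgebra.single ((p : ZMod m) * i) v + r' + AddMonoidAlgebra.single i (x.coeff i) *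
      (∑ j ∈ s, AddMonoidAlgebra.single j (x.coeff j)) * r, ?_⟩
    linear_combination hr'

theorem frob_pow (hp : p.Prime) (x : AddMonoidAlgebra ℤ (ZMod m)) (j : ℕ) :
    (p : AddMonoidAlgebra ℤ (ZMod m)) ∣ x ^ p ^ j - psi ℤ ((p : ZMod m) ^ j) x := by
  induction j with
  | zero =>
    have : psi ℤ (1 : ZMod m) x = x := by
      refine AddMonoidAlgebra.ext (Finsupp.ext fun z => ?_)
      rw [coeff_psi]
      simp [filter_eq']
    rw [pow_zero, pow_zero, pow_one, this, sub_self]
    exact dvd_zero _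
  | succ j ih =>
    have h1 : (p : AddMonoidAlgebra ℤ (ZMod m)) ∣ (x ^ p ^ j) ^ p - (psi ℤ ((p : ZMod m) ^ j) x) ^ p :=
      ih.trans (sub_dvd_pow_sub_pow _ _ p)
    have h2 := frob_one hp (psi ℤ ((p : ZMod m) ^ j) x)
    have h3 : psi ℤ (p : ZMod m) (psi ℤ ((p : ZMod m) ^ j) x) = psi ℤ ((p : ZMod m) ^ (j + 1)) x := by
      conv_lhs => rw [← ofC_coeff x]
      conv_rhs => rw [← ofC_coeff x]
      simp [ofC, psi_single, pow_succ', mul_assoc]
    have := dvd_add h1 h2
    rw [sub_add_sub_cancel, h3, ← pow_mul, ← pow_succ] at this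
    exact this

theorem coeff_dvd {x : AddMonoidAlgebra ℤ (ZMod m)} {n : ℕ}
    (h : (p : AddMonoidAlgebra ℤ (ZMod m)) ^ n ∣ x) (i : ZMod m) : (p ^ n : ℤ) ∣ x.coeff i := by
  obtain ⟨r, rfl⟩ := h
  rw [← Nat.cast_pow p n (α := AddMonoidAlgebra ℤ (ZMod m)), ← nsmul_eq_mul, AddMonoidAlgebra.coeff_smul,
    Finsupp.smul_apply, nsmul_eq_mul]
  exact dvd_mul_of_dvd_left (by push_cast; exact dvd_rfl) _

theorem PFac.hs_pow (F : PFac m p a k) (x : AddMonoidAlgebra ℤ (ZMod m)) (l : ℕ) :
    HS p k (l + 1) (x ^ p ^ (a + l)) := by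
  classical
  have hH : HS p k (l + 1) (psi ℤ ((p : ZMod m) ^ a) x) := by
    intro z hz
    rw [coeff_psi]
    refine dvd_sum fun i hi => absurd ?_ hz
    rw [← (mem_filter.1 hi).2, ← mul_assoc, mul_comm (k : ZMod m), F.cast_zero, zero_mul]
  have h1 := dvd_sub_pow_of_dvd_sub (frob_pow F.prime x a) l
  have h2 : HS p k (l + 1) (((psi ℤ ((p : ZMod m) ^ a)) x) ^ p ^ l) := hH.pow _
  have h3 : HS p k (l + 1) ((x ^ p ^ a) ^ p ^ l - (psi ℤ ((p : ZMod m) ^ a) x) ^ p ^ l) :=
    HS.of_dvd_coeff (coeff_dvd h1)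
  have h4 := h3.add h2
  rw [sub_add_cancel, ← pow_mul, ← pow_add] at h4
  exact h4

/-! ### Powers of invariant elements -/

variable {G : Subgroup (Equiv.Perm (DihedralGroup m))}

section powers

variable {R : Type*} [CommRing R]

theorem cp_add (x y : MonoidAlgebra R (DihedralGroup m)) : cp (x + y) = cp x + cp y :=
  AddMonoidAlgebra.ext (Finsupp.ext fun i => by simp [coeff_cp])

theorem cp_sum {ι : Type*} (s : Finset ι) (f : ι → MonoidAlgebra R (DihedralGroup m)) :
    cp (∑ i ∈ s, f i) = ∑ i ∈ s, cp (f i) := by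
  classical
  induction s using Finset.induction with
  | empty => exact AddMonoidAlgebra.ext (Finsupp.ext fun i => by simp [coeff_cp])
  | insert i s hi ih => rw [sum_insert hi, sum_insert hi, cp_add, ih]

theorem cp_phi (X : AddMonoidAlgebra R (ZMod m)) : cp (phi X) = X := by
  have := cp_mk X 0
  rwa [mk, map_zero, mul_zero, add_zero] at this

theorem cp_sig_phi (Y : AddMonoidAlgebra R (ZMod m)) : cp (sig * phi Y) = 0 := by
  have := cp_mk 0 Y
  rwa [mk, map_zero, zero_add] at this

theorem sig_phi_sq (Y : AddMonoidAlgebra R (ZMod m)) :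
    (sig * phi Y) * (sig * phi Y) = phi (star' Y * Y) := by
  rw [mul_assoc, ← mul_assoc (phi Y), phi_mul_sig, mul_assoc sig, ← mul_assoc, sig_sq, one_mul, map_mul]

theorem phi_commute {X : AddMonoidAlgebra R (ZMod m)} (hX : star' X = X) (Y : AddMonoidAlgebra R (ZMod m)) :
    Commute (phi X) (sig * phi Y) := by
  show phi X * (sig * phi Y) = sig * phi Y * phi X
  rw [← mul_assoc, phi_mul_sig, hX, mul_assoc, mul_assoc, ← map_mul, ← map_mul, mul_comm X]

theorem pow_even (Y : AddMonoidAlgebra R (ZMod m)) (u : ℕ) :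
    (sig * phi Y) ^ (2 * u) = phi ((star' Y * Y) ^ u) := by
  rw [pow_mul, pow_two, sig_phi_sq, map_pow]

theorem cp_term (X Y : AddMonoidAlgebra R (ZMod m)) (i j c : ℕ) :
    cp (phi X ^ i * (sig * phi Y) ^ j * (c : MonoidAlgebra R (DihedralGroup m))) =
      if Even j then X ^ i * (star' Y * Y) ^ (j / 2) * (c : AddMonoidAlgebra R (ZMod m)) else 0 := by
  rcases Nat.even_or_odd' j with ⟨u, rfl | rfl⟩
  · rw [if_pos (even_two_mul u), pow_even, Nat.mul_div_cancel_left _ two_pos, ← map_pow, ← map_mul,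
      ← map_natCast (phi (R := R) (m := m)) c, ← map_mul, cp_phi]
  · rw [if_neg (Nat.not_even_two_mul_add_one u), pow_succ, pow_even]
    rw [← mul_assoc, ← map_pow, ← map_mul]
    generalize X ^ i * (star' Y * Y) ^ u = Z
    rw [← mul_assoc (phi Z), phi_mul_sig, mul_assoc sig, ← map_mul,
      ← map_natCast (phi (R := R) (m := m)) c, mul_assoc sig, ← map_mul, cp_sig_phi]

end powers

theorem PFac.cp_pow (F : PFac m p a k) (P : Pack G) {x : MonoidAlgebra ℤ (DihedralGroup m)} (hx : InvA G x)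
    {N : ℕ} (hN : 1 ≤ N) : HS p k (N + 1) (cp (x ^ p ^ (a + N))) := by
  classical
  have hp := F.prime
  set X := cp x
  set Y := yp x
  set W := star' Y * Y
  have hX : star' X = X := star'_cp P hx
  rw [show x = phi X + sig * phi Y from (mk_cp_yp x).symm, (phi_commute hX Y).add_pow, cp_sum]
  refine HS.sum fun i hi => ?_
  rw [cp_term]
  split_ifs with he
  swap
  · exact HS.zero
  have hile : i ≤ p ^ (a + N) := Nat.lt_succ_iff.1 (mem_range.1 hi)
  generalize hj : p ^ (a + N) - i = j at he ⊢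
  obtain ⟨u, rfl⟩ := he
  rw [← two_mul] at hj ⊢
  rw [Nat.mul_div_cancel_left _ two_pos]
  rcases Nat.eq_zero_or_pos u with hu | hu
  · subst hu
    obtain rfl : i = p ^ (a + N) := by omega
    rw [Nat.choose_self, Nat.cast_one, mul_one, pow_zero, mul_one]
    exact F.hs_pow X N
  obtain ⟨l, e, he', hue⟩ := Nat.exists_eq_pow_mul_and_not_dvd (n := 2 * u) (by omega) p hp.ne_one
  have hl : l ≤ a + N := by
    by_contra hc
    push Not at hc
    have h1 : p ^ (a + N) < p ^ l := Nat.pow_lt_pow_right hp.one_lt hc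
    have h2 : p ^ l ≤ 2 * u := Nat.le_of_dvd (by omega) ⟨e, hue⟩
    omega
  have hch : p ^ (a + N - l) ∣ (p ^ (a + N)).choose i := by
    rw [← Nat.choose_symm hile, hj]
    obtain ⟨n, hn⟩ : ∃ n, p ^ (a + N) = n + 1 := ⟨p ^ (a + N) - 1, by
      have := Nat.one_le_pow (a + N) p hp.pos; omega⟩
    obtain ⟨v, hv⟩ : ∃ v, 2 * u = v + 1 := ⟨2 * u - 1, by omega⟩
    have h1 := Nat.add_one_mul_choose_eq n v
    rw [← hn, ← hv] at h1
    have h2 : p ^ (a + N) ∣ (p ^ (a + N)).choose (2 * u) * (2 * u) := ⟨_, h1.symm⟩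
    generalize (p ^ (a + N)).choose (2 * u) = C at h2 ⊢
    have hsplit : p ^ (a + N) = p ^ (a + N - l) * p ^ l := by rw [← pow_add, Nat.sub_add_cancel hl]
    rw [hsplit, hue, mul_comm (p ^ l) e, ← mul_assoc] at h2
    have h3 := Nat.dvd_of_mul_dvd_mul_right (pow_pos hp.pos l) h2
    exact (Nat.Coprime.pow_left _ ((Nat.Prime.coprime_iff_not_dvd hp).2 he')).dvd_of_dvd_mul_right h3
  rcases le_or_gt a l with hal | hal
  · obtain ⟨l', rfl⟩ := Nat.exists_eq_add_of_le hal
    have hdu : p ^ (a + l') ∣ u := by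
      have h2 : p ^ (a + l') ∣ 2 * u := ⟨e, hue⟩
      refine (Nat.Coprime.pow_left _ ?_).dvd_of_dvd_mul_left h2
      exact (Nat.coprime_primes hp Nat.prime_two).2 fun h => absurd (h ▸ F.odd) (by decide)
    have hdi : p ^ (a + l') ∣ i := by
      have h2 : p ^ (a + l') ∣ p ^ (a + N) - i := hj ▸ dvd_mul_of_dvd_right hdu 2
      have h3 : p ^ (a + l') ∣ p ^ (a + N) := pow_dvd_pow _ hl
      exact (Nat.dvd_sub_iff_right hile h3).1 h2
    obtain ⟨u', rfl⟩ := hdu
    obtain ⟨i', rfl⟩ := hdi
    rw [pow_mul X, pow_mul W]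
    have h := (((F.hs_pow X l').pow i').mul ((F.hs_pow W l').pow u')).smul _ hch
    exact h.mono (by omega)
  · have h := (HS.of_dvd_coeff (p := p) (k := k) (N := 0) (x := X ^ i * W ^ u) fun j => by simp).smul _ hch
    exact h.mono (by omega)

/-! ### No special orbits -/

theorem invA_comm {R : Type*} [CommRing R] (P : Pack G) {x y : MonoidAlgebra R (DihedralGroup m)}
    (hx : InvA G x) (hy : InvA G y) : x * y = y * x := by
  refine inv_ext P (invA_mul P hx hy) (invA_mul P hy hx) ?_
  have h := star'_cp P (invA_mul P hx hy)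
  rw [cp_mul, map_add, map_mul, map_mul, star'_cp P hx, star'_cp P hy, star'_star'] at h
  rw [cp_mul, cp_mul, ← h]
  ring

theorem invA_add {R : Type*} [CommRing R] {x y : MonoidAlgebra R (DihedralGroup m)}
    (hx : InvA G x) (hy : InvA G y) : InvA G (x + y) := fun u v h => by simp [hx u v h, hy u v h]

theorem invA_sub' {R : Type*} [CommRing R] {x y : MonoidAlgebra R (DihedralGroup m)}
    (hx : InvA G x) (hy : InvA G y) : InvA G (x - y) := fun u v h => by simp [hx u v h, hy u v h]

section nospecial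

variable (F : PFac m p a k) (P : Pack G)
include F P

/-- The elements with rotations only of order prime to `p` in their orbit are trivial. -/
theorem no_special {x : DihedralGroup m} (hx : x ≠ 1) : ∃ i, Rel G x (r i) ∧ (k : ZMod m) * i ≠ 0 := by
  classical
  haveI := Fact.mk F.prime
  haveI := P.two
  set N₀ := 2 * m + 1 with hN₀
  set Q := p ^ (a + N₀) with hQ
  have hQodd : Odd Q := F.odd.pow
  let red : MonoidAlgebra ℤ (DihedralGroup m) →+* MonoidAlgebra (ZMod p) (DihedralGroup m) :=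
    MonoidAlgebra.mapRingHom (DihedralGroup m) (Int.castRingHom (ZMod p))
  have hred : ∀ y z, (red y).coeff z = (y.coeff z : ZMod p) := fun y z => by simp [red]
  -- invariant elements mod `p` supported on elements prime to `p`
  let S := {y : MonoidAlgebra (ZMod p) (DihedralGroup m) //
    InvA G y ∧ ∀ i : ZMod m, (k : ZMod m) * i ≠ 0 → (cp y).coeff i = 0}
  haveI : Finite S := Finite.of_injective (fun y : S => fun z => y.1.coeff z)
    (fun y z h => Subtype.ext (ext' fun w => congrFun h w))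
  have hfrob : ∀ X : AddMonoidAlgebra (ZMod p) (ZMod m), X ^ Q = psi (ZMod p) ((p : ZMod m) ^ (a + N₀)) X := by
    intro X
    haveI : CharP (AddMonoidAlgebra (ZMod p) (ZMod m)) p := charP_of_injective_algebraMap' (R := ZMod p) p
    haveI : ExpChar (AddMonoidAlgebra (ZMod p) (ZMod m)) p := ExpChar.prime F.prime
    conv_lhs => rw [← ofC_coeff X]
    conv_rhs => rw [← ofC_coeff X]
    rw [ofC, hQ, sum_pow_char_pow, map_sum]
    refine sum_congr rfl fun i _ => ?_
    rw [AddMonoidAlgebra.single_pow, psi_single, ZMod.pow_card_pow, nsmul_eq_mul, Nat.cast_pow]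
  have hcpQ : ∀ y : MonoidAlgebra (ZMod p) (DihedralGroup m), InvA G y → cp (y ^ Q) = cp y ^ Q := by
    intro y hy
    haveI : CharP (MonoidAlgebra (ZMod p) (DihedralGroup m)) p := charP_of_injective_algebraMap' (R := ZMod p) p
    haveI : ExpChar (MonoidAlgebra (ZMod p) (DihedralGroup m)) p := ExpChar.prime F.prime
    conv_lhs => rw [← mk_cp_yp y, mk, hQ,
      add_pow_char_pow_of_commute p (a + N₀) (phi_commute (star'_cp P hy) _), ← hQ]
    obtain ⟨u, hu⟩ := hQodd
    rw [cp_add, ← map_pow, cp_phi, hu, pow_succ' (sig * phi (yp y)), pow_even, mul_assoc, ← map_mul,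
      cp_sig_phi, add_zero]
  let Phi : S → S := fun y => ⟨y.1 ^ Q, invA_pow P y.2.1 Q, fun i hi => by
    rw [hcpQ _ y.2.1, hfrob, coeff_psi]
    refine sum_eq_zero fun j hj => y.2.2 j fun h => hi ?_
    rw [← (mem_filter.1 hj).2, mul_left_comm, h, mul_zero]⟩
  have hPhi : Function.Surjective Phi := by
    refine Finite.surjective_of_injective fun y z h => ?_
    have h1 : cp (y.1 ^ Q) = cp (z.1 ^ Q) := by rw [show y.1 ^ Q = z.1 ^ Q from congrArg Subtype.val h]
    rw [hcpQ _ y.2.1, hcpQ _ z.2.1, hfrob, hfrob] at h1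
    refine Subtype.ext (inv_ext P y.2.1 z.2.1 (AddMonoidAlgebra.ext (Finsupp.ext fun i => ?_)))
    by_cases hi : (k : ZMod m) * i ≠ 0
    · rw [y.2.2 i hi, z.2.2 i hi]
    push Not at hi
    have key : ∀ w : S, (psi (ZMod p) ((p : ZMod m) ^ (a + N₀)) (cp w.1)).coeff ((p : ZMod m) ^ (a + N₀) * i) =
        (cp w.1).coeff i := by
      intro w
      rw [coeff_psi, sum_eq_single i]
      · intro j hj hji
        refine w.2.2 j fun hjk => hji ?_
        refine sub_eq_zero.1 (F.kill (j := a + N₀) (by rw [mul_sub, hjk, hi, sub_zero]) ?_)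
        rw [mul_sub, (mem_filter.1 hj).2, sub_self]
      · intro hni
        simp at hni
    rw [← key y, ← key z, h1]
  -- the span of the powers
  let Sp : AddSubgroup (MonoidAlgebra ℤ (DihedralGroup m)) :=
    AddSubgroup.closure {w | ∃ y, InvA G y ∧ w = y ^ Q}
  have hSp : ∀ w ∈ Sp, InvA G w ∧ HS p k (N₀ + 1) (cp w) := by
    intro w hw
    induction hw using AddSubgroup.closure_induction with
    | mem w hw =>
      obtain ⟨y, hy, rfl⟩ := hw
      exact ⟨invA_pow P hy Q, F.cp_pow P hy (by omega)⟩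
    | zero => exact ⟨fun _ _ _ => by simp, fun i _ => by simp [coeff_cp]⟩
    | add u v _ _ hu hv => exact ⟨invA_add hu.1 hv.1, by rw [cp_add]; exact hu.2.add hv.2⟩
    | neg u _ hu =>
      refine ⟨fun s t h => by simp [hu.1 s t h], fun i hi => ?_⟩
      rw [coeff_cp, MonoidAlgebra.coeff_neg, Finsupp.neg_apply, dvd_neg, ← coeff_cp]
      exact hu.2 i hi
  have hlift : ∀ x : MonoidAlgebra ℤ (DihedralGroup m), InvA G x → HS p k N₀ (cp x) →
      ∀ n ≤ N₀, ∃ c ∈ Sp, ∀ z, (p ^ n : ℤ) ∣ (x - c).coeff z := by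
    intro x hxI hxH n
    induction n with
    | zero => exact fun _ => ⟨0, zero_mem _, fun z => by simp⟩
    | succ n ih =>
      intro hn
      obtain ⟨c, hc, hdiv⟩ := ih (by omega)
      choose d hd using hdiv
      have hdinv : ∀ s t, Rel G s t → d s = d t := by
        intro s t h
        have := invA_sub' hxI (hSp c hc).1 s t h
        rw [hd, hd] at this
        exact mul_left_cancel₀ (pow_ne_zero _ (by exact_mod_cast F.prime.ne_zero)) this
      let ds : S := ⟨red (ofFun d), fun s t h => by rw [hred, hred, coeff_ofFun, coeff_ofFun, hdinv s t h],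
        fun i hi => by
          rw [coeff_cp, hred, coeff_ofFun, ZMod.intCast_zmod_eq_zero_iff_dvd]
          have h1 : (p ^ (n + 1) : ℤ) ∣ (x - c).coeff (r i) := by
            rw [MonoidAlgebra.coeff_sub, Finsupp.sub_apply, ← coeff_cp, ← coeff_cp]
            exact dvd_sub ((pow_dvd_pow _ hn).trans (hxH i hi)) ((pow_dvd_pow _ (by omega)).trans ((hSp c hc).2 i hi))
          rw [hd, pow_succ] at h1
          exact (mul_dvd_mul_iff_left (pow_ne_zero _ (by exact_mod_cast F.prime.ne_zero))).1 h1⟩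
      obtain ⟨y, hy⟩ := hPhi ds
      set yl : MonoidAlgebra ℤ (DihedralGroup m) := ofFun fun z => ((y.1.coeff z).val : ℤ)
      have hylI : InvA G yl := fun s t h => by simp only [yl, coeff_ofFun, y.2.1 s t h]
      have hred_yl : red yl = y.1 := ext' fun z => by simp [yl, hred, coeff_ofFun]
      refine ⟨c + (p ^ n) • yl ^ Q, add_mem hc (nsmul_mem (show yl ^ Q ∈ Sp from AddSubgroup.subset_closure ⟨yl, hylI, rfl⟩) _), fun z => ?_⟩
      have h1 : red (yl ^ Q) = red (ofFun d) := by rw [map_pow, hred_yl]; exact congrArg Subtype.val hy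
      have h2 : ((d z - (yl ^ Q).coeff z : ℤ) : ZMod p) = 0 := by
        rw [Int.cast_sub, ← hred, h1, hred, coeff_ofFun, sub_self]
      obtain ⟨e, he⟩ := (ZMod.intCast_zmod_eq_zero_iff_dvd _ p).1 h2
      refine ⟨e, ?_⟩
      rw [sub_add_eq_sub_sub, MonoidAlgebra.coeff_sub, Finsupp.sub_apply, hd, MonoidAlgebra.coeff_smul,
        Finsupp.smul_apply, nsmul_eq_mul, Nat.cast_pow, pow_succ, mul_assoc, ← he, mul_sub]
  -- the special elements form an invariant subgroup
  let Z : Set (DihedralGroup m) := {y | ∀ i, Rel G y (r i) → (k : ZMod m) * i = 0}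
  have hZinv : InvSet G Z := fun s t h hs i hi => hs i (rel_trans h hi)
  have hZ1 : (1 : DihedralGroup m) ∈ Z := by
    intro i hi
    have := rel_one (rel_symm hi)
    rw [one_def, r.injEq] at this
    rw [this, mul_zero]
  let z1 : MonoidAlgebra ℤ (DihedralGroup m) := ofFun fun y => if y ∈ Z then 1 else 0
  have hz1I : InvA G z1 := by
    intro s t h
    simp only [z1, coeff_ofFun]
    exact if_congr ⟨hZinv s t h, hZinv t s (rel_symm h)⟩ rfl rfl
  have hz1H : HS p k N₀ (cp z1) := by
    intro i hi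
    simp only [z1, coeff_cp, coeff_ofFun]
    rw [if_neg fun h => hi (h i (rel_refl _))]
    exact dvd_zero _
  obtain ⟨c, hc, hdiv⟩ := hlift z1 hz1I hz1H N₀ le_rfl
  have hmulc : c * c ∈ Sp := by
    have hgen : ∀ y, InvA G y → ∀ w ∈ Sp, y ^ Q * w ∈ Sp := by
      intro y hy w hw
      induction hw using AddSubgroup.closure_induction with
      | mem w hw =>
        obtain ⟨y', hy', rfl⟩ := hw
        exact AddSubgroup.subset_closure ⟨y * y', invA_mul P hy hy',
          (Commute.mul_pow (invA_comm P hy hy') Q).symm⟩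
      | zero => rw [mul_zero]; exact zero_mem _
      | add u v _ _ hu hv => rw [mul_add]; exact add_mem hu hv
      | neg u _ hu => rw [mul_neg]; exact neg_mem hu
    have hall : ∀ v ∈ Sp, v * c ∈ Sp := by
      intro v hv
      induction hv using AddSubgroup.closure_induction with
      | mem w hw =>
        obtain ⟨y', hy', rfl⟩ := hw
        exact hgen y' hy' c hc
      | zero => rw [zero_mul]; exact zero_mem _
      | add u v _ _ hu hv => rw [add_mul]; exact add_mem hu hv
      | neg u _ hu => rw [neg_mul]; exact neg_mem hu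
    exact hall c hc
  have hmul : ∀ u ∈ Z, ∀ v ∈ Z, u * v ∈ Z := by
    intro u hu v hv i hi
    by_contra hki
    have h1 : (p ^ N₀ : ℤ) ∣ (z1 * z1).coeff (r i) := by
      have e1 : z1 * z1 = c * c + (z1 - c) * z1 + c * (z1 - c) := by noncomm_ring
      rw [e1, MonoidAlgebra.coeff_add, Finsupp.add_apply, MonoidAlgebra.coeff_add, Finsupp.add_apply,
        coeff_mul' (z1 - c), coeff_mul' c (z1 - c)]
      refine dvd_add (dvd_add ?_ (dvd_sum fun y _ => dvd_mul_of_dvd_left (hdiv y) _))
        (dvd_sum fun y _ => dvd_mul_of_dvd_right (hdiv _) _)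
      rw [← coeff_cp]
      exact (pow_dvd_pow _ (by omega)).trans ((hSp _ hmulc).2 i hki)
    rw [← invA_mul P hz1I hz1I _ _ hi, coeff_mul'] at h1
    have hle : ∀ y, z1.coeff y * z1.coeff (y⁻¹ * (u * v)) ≤ 1 ∧
        0 ≤ z1.coeff y * z1.coeff (y⁻¹ * (u * v)) := by
      intro y
      simp only [z1, coeff_ofFun]
      split_ifs <;> simp
    have hge : 1 ≤ ∑ y, z1.coeff y * z1.coeff (y⁻¹ * (u * v)) := by
      refine le_trans (le_of_eq ?_) (single_le_sum (fun y _ => (hle y).2) (mem_univ u))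
      simp only [z1, coeff_ofFun, inv_mul_cancel_left, if_pos hu, if_pos hv, mul_one]
    have hlt : ∑ y, z1.coeff y * z1.coeff (y⁻¹ * (u * v)) ≤ ((2 * m : ℕ) : ℤ) := by
      refine (sum_le_sum fun y _ => (hle y).1).trans (le_of_eq ?_)
      rw [sum_const, card_univ, DihedralGroup.card, nsmul_eq_mul, mul_one]
    have h2 := Int.le_of_dvd (by linarith) h1
    have h3 : ((2 * m : ℕ) : ℤ) < (p ^ N₀ : ℕ) := by
      have h4 : N₀ < p ^ N₀ := Nat.lt_pow_self F.prime.one_lt
      exact_mod_cast (show 2 * m < p ^ N₀ by omega)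
    push_cast at h3
    push_cast at hlt
    linarith
  have hinv : ∀ u ∈ Z, u⁻¹ ∈ Z := fun u hu i hi => hu i (rel_trans (rel_self_inv P u) hi)
  let K : Subgroup (DihedralGroup m) :=
    { carrier := Z, one_mem' := hZ1, mul_mem' := fun h h' => hmul _ h _ h', inv_mem' := fun h => hinv _ h }
  rcases P.prim K hZinv with e | e
  · by_contra hcon
    push Not at hcon
    have : x ∈ K := hcon
    rw [e, Subgroup.mem_bot] at this
    exact hx this
  · have h1 : (r 1 : DihedralGroup m) ∈ K := e.ge (Subgroup.mem_top _)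
    have h2 := h1 1 (rel_refl _)
    rw [mul_one, ZMod.natCast_eq_zero_iff] at h2
    exfalso
    have hk := Nat.le_of_dvd F.k_pos h2
    have : k < m := by
      rw [F.eq]
      exact lt_mul_of_one_lt_left F.k_pos (Nat.one_lt_pow (by have := F.pos; omega) F.prime.one_lt)
    omega

end nospecial

end Cfsg.Agent.DihedralBGroup49
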