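import Cfsg.Agent.Lib.DihedralBGroup49Num

/-!
For an odd prime the case of rank one on the characters non-trivial on the prime subgroup is impossible.
-/

set_option autoImplicit false
set_option linter.unusedSectionVars false
set_option maxHeartbeats 1000000

namespace Cfsg.Agent.DihedralBGroup49

open Finset

theorem key_nonpos {p M S : ℝ} (hp : 3 ≤ p) (hM : 0 < M) (hS : S ≤ 0) (hS' : -M ≤ S) :
    2 * S ^ 2 * ((p - 1) * M) + 2 * (M ^ 2 - S ^ 2) * (p * M + S + S) ≤ (p * M + S) * M * ((p - 1) * M) := by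
  obtain ⟨d, hd, rfl⟩ : ∃ d, 0 ≤ d ∧ p = 3 + d := ⟨p - 3, by linarith, by ring⟩
  obtain ⟨u, hu, rfl⟩ : ∃ u, 0 ≤ u ∧ S = -u := ⟨-S, by linarith, by ring⟩
  have huM : u ≤ M := by linarith
  have h1 : 0 ≤ d * (M ^ 2 * ((d + 3) * M - u)) :=
    mul_nonneg hd (mul_nonneg (sq_nonneg M) (by nlinarith))
  have h2 : 0 ≤ u * ((M - u) * (M + 2 * u)) := mul_nonneg hu (mul_nonneg (by linarith) (by linarith))
  nlinarith [h1, h2]

theorem key_pos {p M S : ℝ} (hp : 3 ≤ p) (hM : 0 < M) (hS : 0 ≤ S) :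
    2 * S ^ 2 * ((p - 1) * M + S) + 2 * (M ^ 2 - S ^ 2) * (p * M + S + S) ≤
      (p * M + S) * M * ((p - 1) * M + S) := by
  obtain ⟨d, hd, rfl⟩ : ∃ d, 0 ≤ d ∧ p = 3 + d := ⟨p - 3, by linarith, by ring⟩
  have h1 : 0 ≤ M ^ 2 * S + 3 * M * S ^ 2 + 2 * S ^ 3 := by positivity
  have h2 : 0 ≤ d * (3 * M ^ 3 + 2 * M ^ 2 * S) + d ^ 2 * M ^ 3 := by positivity
  nlinarith [h1, h2]

namespace Num

variable {m : ℕ} [NeZero m] (D : Num m)
variable {p : ℕ} (hp : p.Prime) (hodd : Odd p)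
  (hper : ∀ z t : ZMod m, (p : ZMod m) * z ≠ 0 → (p : ZMod m) * t = 0 → D.g (z + t) = D.g z)
  {t₀ : ZMod m} (ht₀ : t₀ ≠ 0) (hpt₀ : (p : ZMod m) * t₀ = 0)
  (hconst : ∀ t : ZMod m, t ≠ 0 → (p : ZMod m) * t = 0 → D.g t = D.g t₀)
  (hgen : ∀ t : ZMod m, (p : ZMod m) * t = 0 → ∃ l : ℕ, t = (l : ZMod m) * t₀)
  (hcard : (univ.filter fun t : ZMod m => (p : ZMod m) * t = 0).card = p)
include hp hodd hper ht₀ hpt₀ hconst hgen hcard

theorem odd_impossible (htop : ∀ j : ZMod m, j * t₀ ≠ 0 → D.ρ j = 1) : False := by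
  classical
  set K := univ.filter fun t : ZMod m => (p : ZMod m) * t = 0 with hK
  set J := univ.filter fun j : ZMod m => j * t₀ = 0 with hJ
  -- characters trivial on the prime subgroup
  have hJsum : ∀ z : ZMod m, (p : ℂ) * ∑ j ∈ J, (ZMod.stdAddChar (j * z) : ℂ) = if z ∈ K then (m : ℂ) else 0 := by
    intro z
    have e1 : ∀ j : ZMod m, ∑ t ∈ K, (ZMod.stdAddChar (j * (t + z)) : ℂ) =
        if j * t₀ = 0 then (p : ℂ) * ZMod.stdAddChar (j * z) else 0 := by
      intro j
      split_ifs with h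
      · rw [← hcard, ← nsmul_eq_mul, ← sum_const]
        refine sum_congr rfl fun t ht => ?_
        obtain ⟨l, rfl⟩ := hgen t (mem_filter.1 ht).2
        rw [mul_add, mul_left_comm, h, mul_zero, zero_add]
      · have h1 : ∑ t ∈ K, (ZMod.stdAddChar (j * (t + z)) : ℂ) =
            (ZMod.stdAddChar (j * t₀) : ℂ) * ∑ t ∈ K, (ZMod.stdAddChar (j * (t + z)) : ℂ) := by
          calc ∑ t ∈ K, (ZMod.stdAddChar (j * (t + z)) : ℂ)
              = ∑ t ∈ K, (ZMod.stdAddChar (j * (t + t₀ + z)) : ℂ) :=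
                (sum_equiv (Equiv.addRight t₀) (fun t => by simp [hK, mul_add, hpt₀]) (fun t _ => rfl)).symm
            _ = _ := by
                rw [mul_sum]
                refine sum_congr rfl fun t _ => ?_
                rw [← AddChar.map_add_eq_mul]
                congr 1
                ring
        by_contra hne
        exact h (char_eq_one (mul_right_cancel₀ hne (by rw [one_mul]; exact h1.symm)))
    calc (p : ℂ) * ∑ j ∈ J, (ZMod.stdAddChar (j * z) : ℂ)
        = ∑ j, ∑ t ∈ K, (ZMod.stdAddChar (j * (t + z)) : ℂ) := by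
          simp_rw [e1]
          rw [mul_sum, hJ, sum_filter]
      _ = ∑ t ∈ K, if t + z = 0 then (m : ℂ) else 0 := by
          rw [sum_comm]
          simp_rw [sum_char]
      _ = if z ∈ K then (m : ℂ) else 0 := by
          have e : ∀ t, t + z = 0 ↔ t = -z := fun t => add_eq_zero_iff_eq_neg
          simp_rw [e]
          rw [sum_ite_eq']
          simp [hK]
  set M := J.card with hM
  have hpM : p * M = m := by
    have := hJsum 0
    rw [if_pos (show (0 : ZMod m) ∈ K by simp [hK])] at this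
    simp only [mul_zero, AddChar.map_zero_eq_one, sum_const, nsmul_eq_mul, mul_one] at this
    exact_mod_cast this
  -- the perturbation
  let s : ZMod m → ℤ := fun j => (D.ρ j : ℤ) - 1
  let h : ZMod m → ℤ := fun z => D.g z - (if z = 0 then (m : ℤ) else 0)
  have hs0 : s 0 = 0 := by simp [s, D.ρ_zero]
  have hsJ : ∀ j, s j ≠ 0 → j ∈ J.erase 0 := by
    intro j hj
    refine mem_erase.2 ⟨fun e => hj (e ▸ hs0), mem_filter.2 ⟨mem_univ _, ?_⟩⟩
    by_contra hne
    exact hj (by simp [s, htop j hne])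
  have hs1 : ∀ j, |s j| ≤ 1 := fun j => by
    have := D.ρ_le j
    simp only [s, abs_le]
    omega
  have hh : ∀ z, (h z : ℂ) = ∑ j, (s j : ℂ) * ZMod.stdAddChar (j * z) := by
    intro z
    simp only [h, s]
    push_cast
    simp_rw [sub_mul, one_mul]
    rw [sum_sub_distrib, ← D.inv, sum_char]
  have hsum0 : ∑ z, h z = 0 := by
    have : (((∑ z, h z) : ℤ) : ℂ) = 0 := by
      push_cast
      simp_rw [hh]
      rw [sum_comm]
      simp_rw [← mul_sum]
      refine sum_eq_zero fun j _ => ?_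
      rw [sum_congr rfl (g := fun x : ZMod m => (ZMod.stdAddChar (x * j) : ℂ)) fun x _ => by rw [mul_comm j x]]
      rw [show ∑ x : ZMod m, (ZMod.stdAddChar (x * j) : ℂ) = if j = 0 then (m : ℂ) else 0 from sum_char j]
      split_ifs with hj
      · rw [hj, hs0, Int.cast_zero, zero_mul]
      · rw [mul_zero]
    exact_mod_cast this
  set T := ∑ j, s j ^ 2 with hT
  have hsq : ∀ j, |s j| = s j ^ 2 := fun j => by
    have := abs_le.1 (hs1 j)
    rcases (show s j = -1 ∨ s j = 0 ∨ s j = 1 by omega) with e | e | e <;> rw [e] <;> simp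
  have hseven : ∀ j, s (-j) = s j := by
    intro j
    have h1 := D.ghat (-j)
    have h2 : ∑ z, (D.g z : ℂ) * ZMod.stdAddChar (-j * z) = ∑ z, (D.g z : ℂ) * ZMod.stdAddChar (j * z) :=
      sum_equiv (Equiv.neg _) (fun z => by simp) (fun z _ => by simp [D.even])
    rw [h2, D.ghat j] at h1
    have := mul_right_cancel₀ (Nat.cast_ne_zero.2 (NeZero.ne m)) h1
    simp only [s, show D.ρ j = D.ρ (-j) by exact_mod_cast this]
  have hsqsum : ∑ z, h z ^ 2 = m * T := by
    have : (((∑ z, h z ^ 2) : ℤ) : ℂ) = ((m * T : ℤ) : ℂ) := by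
      push_cast
      simp_rw [sq, hh, sum_mul_sum]
      rw [sum_comm]
      simp_rw [sum_comm (γ := ZMod m) (f := fun z j => (s _ : ℂ) * _ * ((s j : ℂ) * ZMod.stdAddChar (j * z)))]
      rw [hT]
      push_cast
      rw [mul_sum]
      refine sum_congr rfl fun j _ => ?_
      have e : ∀ l z : ZMod m, (s j : ℂ) * ZMod.stdAddChar (j * z) * ((s l : ℂ) * ZMod.stdAddChar (l * z)) =
          (s j : ℂ) * (s l : ℂ) * ZMod.stdAddChar (z * (j + l)) := by
        intro l z
        rw [mul_add, AddChar.map_add_eq_mul, mul_comm z j, mul_comm z l]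
        ring
      simp_rw [e, ← mul_sum, sum_char, mul_ite, mul_zero, add_eq_zero_iff_neg_eq]
      rw [sum_ite_eq, if_pos (mem_univ _), hseven]
      ring
    exact_mod_cast this
  have hTM : T ≤ (M : ℤ) - 1 := by
    have h0J : (0 : ZMod m) ∈ J := mem_filter.2 ⟨mem_univ _, zero_mul _⟩
    calc T = ∑ j ∈ J.erase 0, s j ^ 2 := (sum_subset (subset_univ _) fun j _ hj => by
            rw [show s j = 0 from by_contra fun hne => hj (hsJ j hne)]; ring).symm
      _ ≤ ∑ j ∈ J.erase 0, 1 := sum_le_sum fun j _ => by rw [← hsq]; exact hs1 j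
      _ = _ := by
          rw [sum_const, card_erase_of_mem h0J, nsmul_eq_mul, mul_one, hM,
            Nat.cast_sub (Nat.one_le_of_lt (card_pos.2 ⟨0, h0J⟩)), Nat.cast_one]
  have hhT : ∀ z, |h z| ≤ T := by
    intro z
    have h1 : ‖(h z : ℂ)‖ ≤ ((T : ℤ) : ℝ) := by
      rw [hh, hT]
      push_cast
      refine (norm_sum_le _ _).trans (le_of_eq (sum_congr rfl fun j _ => ?_))
      rw [norm_mul, norm_char, mul_one, Complex.norm_intCast, ← Int.cast_abs, hsq, Int.cast_pow]
    rw [Complex.norm_intCast] at h1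
    exact_mod_cast h1
  set S := D.g 0 - (m : ℤ) with hS
  have hh0 : h 0 = S := by simp [h, hS]
  have hhK : ∀ z ∈ K, h z = S := by
    intro z hz
    by_cases hz0 : z = 0
    · rw [hz0, hh0]
    · have e := D.rank_top hp hper ht₀ hpt₀ hconst (j := 1) (by rwa [one_mul])
      rw [htop 1 (by rwa [one_mul]), Nat.cast_one, one_mul, ← hconst z hz0 (mem_filter.1 hz).2] at e
      simp only [h, if_neg hz0, hS]
      omega
  have hlow : ∀ z, z ∉ K → -(M : ℤ) + 2 ≤ h z + S := by
    intro z hz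
    have h0J : (0 : ZMod m) ∈ J := mem_filter.2 ⟨mem_univ _, zero_mul _⟩
    have hJz : ∑ j ∈ J.erase 0, (ZMod.stdAddChar (j * z) : ℂ).re = -1 := by
      have h1 := hJsum z
      rw [if_neg hz, mul_eq_zero, or_iff_right (Nat.cast_ne_zero.2 hp.ne_zero),
        ← add_sum_erase _ _ h0J, zero_mul, AddChar.map_zero_eq_one] at h1
      have := congrArg Complex.re h1
      rw [Complex.add_re, Complex.re_sum, Complex.one_re, Complex.zero_re] at this
      linarith
    have e1 : ((h z + S : ℤ) : ℝ) = ∑ j ∈ J.erase 0, (s j : ℝ) * ((ZMod.stdAddChar (j * z) : ℂ).re + 1) := by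
      have : ((h z + S : ℤ) : ℂ) = ∑ j ∈ J.erase 0, (s j : ℂ) * (ZMod.stdAddChar (j * z) + 1) := by
        rw [sum_subset (subset_univ (J.erase 0)) fun j _ hj => by
          rw [show s j = 0 from by_contra fun hne => hj (hsJ j hne), Int.cast_zero, zero_mul]]
        simp_rw [mul_add, sum_add_distrib, mul_one]
        push_cast
        rw [← hh, ← hh0, hh 0]
        simp
      have := congrArg Complex.re this
      rw [Complex.re_sum, Complex.intCast_re] at this
      rw [this]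
      refine sum_congr rfl fun j _ => ?_
      simp [Complex.mul_re]
    have e2 : -((M : ℝ) - 2) ≤ ((h z + S : ℤ) : ℝ) := by
      rw [e1]
      calc -((M : ℝ) - 2) = ∑ j ∈ J.erase 0, -((ZMod.stdAddChar (j * z) : ℂ).re + 1) := by
            rw [sum_neg_distrib, sum_add_distrib, hJz, sum_const, card_erase_of_mem h0J, nsmul_eq_mul, mul_one,
              Nat.cast_sub (Nat.one_le_of_lt (card_pos.2 ⟨0, h0J⟩)), hM, Nat.cast_one]
            ring
        _ ≤ _ := sum_le_sum fun j _ => by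
            have h1 : (-1 : ℝ) ≤ (s j : ℝ) := by exact_mod_cast (abs_le.1 (hs1 j)).1
            have h2 : 0 ≤ (ZMod.stdAddChar (j * z) : ℂ).re + 1 := by
              have := (abs_le.1 ((Complex.abs_re_le_norm (ZMod.stdAddChar (j * z) : ℂ)).trans (norm_char _).le)).1
              linarith
            nlinarith
    refine (Int.cast_le (R := ℝ)).1 ?_
    push_cast at e2 ⊢
    linarith
  -- the identity
  set n := D.g 0
  have hgh : ∀ z, z ≠ 0 → D.g z = h z := fun z hz => by simp [h, hz]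
  have hnS : 0 < n + S := by
    have h1 := (abs_lt.1 (D.lt_g t₀ ht₀)).1
    have h2 := hhK t₀ (mem_filter.2 ⟨mem_univ _, hpt₀⟩)
    rw [← hgh t₀ ht₀] at h2
    omega
  have hpos : ∀ z, (0 : ℝ) < (n : ℝ) + h z := by
    intro z
    by_cases hz : z = 0
    · rw [hz, hh0]; exact_mod_cast hnS
    · have h1 := (abs_lt.1 (D.lt_g z hz)).1
      rw [hgh z hz] at h1
      exact_mod_cast (by omega : (0 : ℤ) < n + h z)
  have hcount : ∑ z ∈ univ.erase (0 : ZMod m), ((n : ℝ) - h z) / ((n : ℝ) + h z) = m := by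
    have hW : ∀ y, D.f y ∈ (univ.erase (0 : ZMod m)).image D.g := by
      intro y
      by_contra hne
      have hc := D.count (D.f y)
      rw [card_eq_zero.2 (filter_eq_empty_iff.2 fun z _ hz => hne (mem_image.2 ⟨z, mem_erase.2 ⟨hz.1, mem_univ _⟩, hz.2⟩)),
        Nat.cast_zero, mul_zero] at hc
      have h1 : 0 < (univ.filter fun y' => D.f y' = D.f y).card := card_pos.2 ⟨y, by simp⟩
      rcases mul_eq_zero.1 hc.symm with h2 | h2
      · have := (abs_lt.1 (D.lt_f y)).1
        omega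
      · omega
    have e1 : (m : ℝ) = ∑ w ∈ (univ.erase (0 : ZMod m)).image D.g, ((univ.filter fun y => D.f y = w).card : ℝ) := by
      rw [← Nat.cast_sum, ← card_eq_sum_card_fiberwise fun y _ => hW y, card_univ, ZMod.card]
    rw [e1, ← sum_fiberwise_of_maps_to (g := D.g) fun z hz => mem_image_of_mem _ hz]
    refine sum_congr rfl fun w hw => ?_
    obtain ⟨z₁, hz₁, rfl⟩ := mem_image.1 hw
    have hz₁0 := (mem_erase.1 hz₁).1
    have hc := D.count (D.g z₁)
    have hfil : (univ.erase (0 : ZMod m)).filter (fun z => D.g z = D.g z₁) =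
        univ.filter fun z => z ≠ 0 ∧ D.g z = D.g z₁ := by
      ext z; simp
    rw [hfil, sum_congr rfl (g := fun _ => ((n : ℝ) - D.g z₁) / ((n : ℝ) + D.g z₁)) fun z hz => by
      obtain ⟨-, h1, h2⟩ := mem_filter.1 hz
      rw [← hgh z h1, h2], sum_const, nsmul_eq_mul, mul_div_assoc', div_eq_iff, mul_comm,
      mul_comm _ ((n : ℝ) + _)]
    · exact_mod_cast hc
    · have := hpos z₁
      rw [← hgh z₁ hz₁0] at this
      linarith
  have hinvsum : ∑ z ∈ univ.erase (0 : ZMod m), 1 / ((n : ℝ) + h z) = (2 * m - 1) / (2 * n) := by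
    have h1 : ∀ z, ((n : ℝ) - h z) / ((n : ℝ) + h z) = 2 * n * (1 / ((n : ℝ) + h z)) - 1 := fun z => by
      have := (hpos z).ne'
      field_simp
      ring
    simp_rw [h1] at hcount
    rw [sum_sub_distrib, ← mul_sum, sum_const, card_erase_of_mem (mem_univ _), card_univ, ZMod.card,
      nsmul_eq_mul, mul_one, Nat.cast_sub (Nat.one_le_of_lt D.two), Nat.cast_one] at hcount
    have hn0 : (0 : ℝ) < n := by
      have := hpos 0
      rw [hh0, hS] at this
      push_cast at this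
      have : (0 : ℤ) < n := lt_of_le_of_lt (abs_nonneg _) (D.lt_f 0)
      exact_mod_cast this
    rw [eq_div_iff (by positivity)]
    linarith
  have hn0 : (0 : ℝ) < n := by
    exact_mod_cast lt_of_le_of_lt (abs_nonneg _) (D.lt_f 0)
  have htotal : ∑ z, (h z : ℝ) ^ 2 / ((n : ℝ) + h z) = (n : ℝ) * m / (2 * (n + S)) := by
    have h1 : ∀ z, (h z : ℝ) ^ 2 / ((n : ℝ) + h z) = (h z : ℝ) - n + (n : ℝ) ^ 2 * (1 / ((n : ℝ) + h z)) := fun z => by
      have := (hpos z).ne'
      field_simp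
      ring
    simp_rw [h1]
    rw [sum_add_distrib, sum_sub_distrib, ← mul_sum, ← Int.cast_sum, hsum0, sum_const, card_univ, ZMod.card,
      nsmul_eq_mul, Int.cast_zero, ← add_sum_erase _ _ (mem_univ (0 : ZMod m)), hinvsum, hh0]
    have hne := (hpos 0).ne'
    rw [hh0] at hne
    have hSm : (S : ℝ) = n - m := by rw [hS]; push_cast; ring
    field_simp
    rw [hSm]
    ring
  -- the bound
  have hKsum : ∑ z ∈ K, (h z : ℝ) ^ 2 / ((n : ℝ) + h z) = p * ((S : ℝ) ^ 2 / ((n : ℝ) + S)) := by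
    rw [sum_congr rfl fun z hz => by rw [hhK z hz], sum_const, hcard, nsmul_eq_mul]
  have hKsq : ∑ z ∈ univ.filter (fun z => ¬ (p : ZMod m) * z = 0), (h z : ℝ) ^ 2 = m * T - p * (S : ℝ) ^ 2 := by
    have h1 : ∑ z, (h z : ℝ) ^ 2 = (m : ℝ) * T := by exact_mod_cast hsqsum
    rw [← sum_filter_add_sum_filter_not univ (fun z : ZMod m => (p : ZMod m) * z = 0), ← hK,
      sum_congr rfl fun z hz => by rw [hhK z hz], sum_const, hcard, nsmul_eq_mul] at h1
    linarith
  have hmR : (m : ℝ) = p * M := by exact_mod_cast hpM.symm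
  have hn' : (n : ℝ) = p * M + S := by rw [← hmR, hS]; push_cast; ring
  have hMpos : (0 : ℝ) < M := by
    have : 0 < J.card := card_pos.2 ⟨0, by simp [hJ]⟩
    exact_mod_cast this
  have hp3 : (3 : ℝ) ≤ p := by
    have := hp.two_le
    obtain ⟨e, he⟩ := hodd
    exact_mod_cast (by omega : 3 ≤ p)
  have hSb : |(S : ℝ)| ≤ M := by
    have := hhT 0
    rw [hh0] at this
    exact_mod_cast (by omega : |S| ≤ (M : ℤ))
  obtain ⟨Dd, hDd, hDpos, hkey⟩ : ∃ Dd : ℝ, (∀ z, z ∉ K → Dd ≤ (n : ℝ) + h z) ∧ 0 < Dd ∧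
      2 * (S : ℝ) ^ 2 * Dd + 2 * ((M : ℝ) ^ 2 - (S : ℝ) ^ 2) * (p * M + S + S) ≤ (p * M + S) * M * Dd := by
    rcases le_or_gt S 0 with h0 | h0
    · refine ⟨(p - 1) * M, fun z hz => ?_, mul_pos (by linarith) hMpos,
        key_nonpos hp3 hMpos (by exact_mod_cast h0) (abs_le.1 hSb).1⟩
      have : ((-(M : ℤ) + 2 : ℤ) : ℝ) ≤ ((h z + S : ℤ) : ℝ) := Int.cast_le.2 (hlow z hz)
      push_cast at this
      rw [hn']
      linarith
    · refine ⟨(p - 1) * M + S, fun z hz => ?_,
        add_pos (mul_pos (by linarith) hMpos) (by exact_mod_cast h0),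
        key_pos hp3 hMpos (by exact_mod_cast h0.le)⟩
      have : ((-(M : ℤ)) : ℝ) ≤ ((h z : ℤ) : ℝ) := by
        have := abs_le.1 (hhT z)
        exact_mod_cast (by omega : -(M : ℤ) ≤ h z)
      push_cast at this
      rw [hn']
      linarith
  have hle : ∑ z ∈ univ.filter (fun z => ¬ (p : ZMod m) * z = 0), (h z : ℝ) ^ 2 / ((n : ℝ) + h z) ≤
      (m * T - p * (S : ℝ) ^ 2) / Dd := by
    rw [← hKsq, sum_div]
    exact sum_le_sum fun z hz => div_le_div_of_nonneg_left (sq_nonneg _) hDpos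
      (hDd z (by simpa [hK] using (mem_filter.1 hz).2))
  rw [← sum_filter_add_sum_filter_not univ (fun z : ZMod m => (p : ZMod m) * z = 0), ← hK, hKsum] at htotal
  have hTR : (T : ℝ) ≤ (M : ℝ) - 1 := by
    have : ((T : ℤ) : ℝ) ≤ (((M : ℤ) - 1 : ℤ) : ℝ) := Int.cast_le.2 hTM
    push_cast at this
    exact this
  have hpp : (0 : ℝ) < p := by linarith
  have hstrict : ((m : ℝ) * T - p * (S : ℝ) ^ 2) / Dd < (p * ((M : ℝ) ^ 2 - (S : ℝ) ^ 2)) / Dd := by
    refine div_lt_div_of_pos_right ?_ hDpos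
    rw [hmR]
    nlinarith [mul_pos hpp hMpos]
  have hfin : (n : ℝ) * m / (2 * (n + S)) < p * ((S : ℝ) ^ 2 / ((n : ℝ) + S)) + p * ((M : ℝ) ^ 2 - (S : ℝ) ^ 2) / Dd := by
    linarith
  have hnS' : (0 : ℝ) < (n : ℝ) + S := by exact_mod_cast hnS
  rw [hmR, hn'] at hfin
  rw [hn'] at hnS'
  rw [mul_div_assoc', div_add_div _ _ hnS'.ne' hDpos.ne', div_lt_div_iff₀ (by positivity) (by positivity)] at hfin
  have := mul_le_mul_of_nonneg_left hkey (mul_nonneg hpp.le hnS'.le)
  nlinarith [hfin, this]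

end Num

end Cfsg.Agent.DihedralBGroup49
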