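import Cfsg.Agent.Lib.DihedralBGroup49Num

/-!
The case `m` a power of two: an element of `ℤ[ζ]`, `ζ` of order `2 ^ (e + 1)`, of absolute value `2 ^ l` is divisible
by `2 ^ l`, and this rules out rank one on the faithful characters.
-/

set_option autoImplicit false
set_option linter.unusedSectionVars false

namespace Cfsg.Agent.DihedralBGroup49

open Finset Polynomial

section cyclotomic

variable {e : ℕ} {ζ : ℂ} (hζ : IsPrimitiveRoot ζ (2 ^ (e + 1)))
include hζ

theorem root_dvd {A : ℤ[X]} (h : aeval ζ A = 0) : X ^ 2 ^ e + 1 ∣ A := by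
  haveI := Fact.mk Nat.prime_two
  have h1 : cyclotomic (2 ^ (e + 1)) ℤ = X ^ 2 ^ e + 1 := by
    rw [cyclotomic_prime_pow_eq_geom_sum Nat.prime_two, sum_range_succ, sum_range_one, pow_zero, pow_one, add_comm]
  rw [← h1, cyclotomic_eq_minpoly hζ (by positivity)]
  exact minpoly.isIntegrallyClosed_dvd (hζ.isIntegral (by positivity)) h

theorem eval_parity {A : ℤ[X]} (h : aeval ζ A = 0) : (2 : ℤ) ∣ A.eval 1 := by
  obtain ⟨B, rfl⟩ := root_dvd hζ h
  exact ⟨B.eval 1, by simp⟩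

theorem root_pow_half : ζ ^ 2 ^ e = -1 := by
  have h : (ζ ^ 2 ^ e) * (ζ ^ 2 ^ e) = 1 := by
    rw [← pow_add, ← two_mul, ← pow_succ']
    exact hζ.pow_eq_one
  rcases mul_self_eq_one_iff.1 h with h1 | h1
  · exact absurd h1 (hζ.pow_ne_one_of_pos_of_lt (pow_ne_zero _ two_ne_zero)
      (Nat.pow_lt_pow_right one_lt_two (Nat.lt_succ_self e)))
  · exact h1

theorem exists_w : ∃ W : ℤ[X], (ζ - 1) ^ 2 ^ e = 2 * aeval ζ W ∧ ¬ (2 : ℤ) ∣ W.eval 1 := by
  haveI := Fact.mk Nat.prime_two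
  have h : C (2 : ℤ) ∣ (X - 1) ^ 2 ^ e - (X ^ 2 ^ e + 1) := by
    rw [C_dvd_iff_dvd_coeff]
    intro i
    have h1 : Polynomial.map (Int.castRingHom (ZMod 2)) ((X - 1 : ℤ[X]) ^ 2 ^ e - (X ^ 2 ^ e + 1)) = 0 := by
      rw [Polynomial.map_sub, Polynomial.map_pow, Polynomial.map_sub, Polynomial.map_add, Polynomial.map_pow,
        Polynomial.map_X, Polynomial.map_one, sub_pow_char_pow, one_pow, CharTwo.sub_eq_add, CharTwo.sub_eq_add,
        CharTwo.add_self_eq_zero]
    have h2 := congrArg (fun P => Polynomial.coeff P i) h1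
    rw [Polynomial.coeff_map, Polynomial.coeff_zero] at h2
    exact (ZMod.intCast_zmod_eq_zero_iff_dvd _ 2).1 h2
  obtain ⟨W, hW⟩ := h
  refine ⟨W, ?_, fun h2 => ?_⟩
  · have h1 := congrArg (aeval ζ) hW
    simp only [map_sub, map_add, map_mul, map_pow, aeval_X, map_one, aeval_C, map_ofNat,
      root_pow_half hζ, neg_add_cancel, sub_zero] at h1
    exact h1
  · have h1 := congrArg (Polynomial.eval 1) hW
    simp at h1
    omega

theorem exists_conj : ∀ A : ℤ[X], aeval ζ (A.comp (X ^ (2 ^ (e + 1) - 1))) = (starRingEnd ℂ) (aeval ζ A) := by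
  intro A
  have h1 : (starRingEnd ℂ) ζ = ζ ^ (2 ^ (e + 1) - 1) := by
    have hn : ‖ζ‖ = 1 := hζ.norm'_eq_one (by positivity)
    have h2 : ζ * (starRingEnd ℂ) ζ = 1 := by
      rw [Complex.mul_conj, Complex.normSq_eq_norm_sq, hn]
      norm_num
    have h3 : ζ * ζ ^ (2 ^ (e + 1) - 1) = 1 := by
      rw [← pow_succ', Nat.sub_add_cancel Nat.one_le_two_pow]
      exact hζ.pow_eq_one
    exact mul_left_cancel₀ (left_ne_zero_of_mul_eq_one h2) (h2.trans h3.symm)
  rw [aeval_comp, map_pow, aeval_X, ← h1]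
  exact aeval_algHom_apply ((starRingEnd ℂ).toIntAlgHom) ζ A

/-- An element of `ℤ[ζ]` of absolute value `2 ^ l` is divisible by `2 ^ l`. -/
theorem dvd_of_norm {P : ℤ[X]} (hdeg : P.degree < (2 ^ e : ℕ)) {l : ℕ} (hn : ‖aeval ζ P‖ = (2 : ℝ) ^ l)
    (i : ℕ) : (2 : ℤ) ^ l ∣ P.coeff i := by
  haveI := Fact.mk Nat.prime_two
  obtain ⟨W, hW, hW1⟩ := exists_w hζ
  set π : ℂ := ζ - 1 with hπ
  have hπ0 : π ≠ 0 := sub_ne_zero.2 (hζ.ne_one (Nat.one_lt_two_pow (by omega)))
  set U : ℤ[X] := ∑ i ∈ range (2 ^ (e + 1) - 1), X ^ i with hU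
  have hU1 : ¬ (2 : ℤ) ∣ U.eval 1 := by
    simp [hU, eval_finsetSum]
    have h2 : 2 ∣ 2 ^ (e + 1) := dvd_pow_self 2 (by omega)
    have h3 : 1 ≤ 2 ^ (e + 1) := Nat.one_le_two_pow
    omega
  have hUπ : (starRingEnd ℂ) π = aeval ζ U * π := by
    have h1 := exists_conj hζ (X - 1)
    simp only [map_sub, aeval_X, map_one, sub_comp, X_comp, one_comp, map_pow] at h1
    rw [hπ, map_sub, map_one, ← h1, hU, map_sum]
    simp only [map_pow, aeval_X]
    exact (geom_sum_mul ζ _).symm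
  have hαα : aeval ζ P * (starRingEnd ℂ) (aeval ζ P) = (2 : ℂ) ^ (2 * l) := by
    rw [Complex.mul_conj, Complex.normSq_eq_norm_sq, hn, ← pow_mul, mul_comm l 2]
    push_cast
    ring
  have key : ∀ j, j ≤ l * 2 ^ e → ∃ B : ℤ[X], aeval ζ P = π ^ j * aeval ζ B := by
    intro j
    induction j with
    | zero => exact fun _ => ⟨P, by rw [pow_zero, one_mul]⟩
    | succ j ih =>
      intro hj
      obtain ⟨B, hB⟩ := ih (by omega)
      obtain ⟨s, hs⟩ : ∃ s, 2 * (l * 2 ^ e) = 2 * j + (s + 1) := ⟨2 * (l * 2 ^ e) - 2 * j - 1, by omega⟩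
      set A : ℤ[X] := U ^ j * B * B.comp (X ^ (2 ^ (e + 1) - 1)) * W ^ (2 * l) - (X - 1) ^ (s + 1) with hA
      have hA0 : aeval ζ A = 0 := by
        have h1 : π ^ (2 * j) * (aeval ζ (U ^ j * B * B.comp (X ^ (2 ^ (e + 1) - 1)) * W ^ (2 * l))) =
            π ^ (2 * j) * π ^ (s + 1) := by
          rw [← pow_add, ← hs, mul_comm l, mul_left_comm, pow_mul π (2 ^ e), hW, mul_pow, map_mul, map_mul, map_mul,
            map_pow, map_pow, exists_conj hζ, ← hαα, hB, map_mul, map_pow, hUπ]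
          ring
        have h2 := mul_left_cancel₀ (pow_ne_zero _ hπ0) h1
        rw [hA, map_sub, h2, map_pow, map_sub, aeval_X, map_one, sub_self]
      have hB1 : (2 : ℤ) ∣ B.eval 1 := by
        have h1 := eval_parity hζ hA0
        rw [hA] at h1
        simp only [eval_sub, eval_mul, eval_pow, eval_comp, eval_X, one_pow, eval_one, sub_self,
          zero_pow (Nat.succ_ne_zero s), sub_zero] at h1
        rcases (Int.prime_two.dvd_mul.1 h1) with h1 | h1
        swap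
        · exact absurd (Int.prime_two.dvd_of_dvd_pow h1) hW1
        rcases (Int.prime_two.dvd_mul.1 h1) with h1 | h1
        swap
        · exact h1
        rcases (Int.prime_two.dvd_mul.1 h1) with h1 | h1
        · exact absurd (Int.prime_two.dvd_of_dvd_pow h1) hU1
        · exact h1
      obtain ⟨c, hc⟩ := hB1
      obtain ⟨B', hB'⟩ := X_sub_C_dvd_sub_C_eval (p := B) (a := (1 : ℤ))
      refine ⟨B' - C c * ∑ i ∈ range (2 ^ e), X ^ i, ?_⟩
      rw [hB, pow_succ, mul_assoc]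
      congr 1
      have h2 := congrArg (aeval ζ) hB'
      rw [hc] at h2
      simp only [map_sub, map_mul, aeval_X, map_one, map_ofNat, C_1, C_mul, aeval_C] at h2
      simp only [map_sub, map_mul, map_sum, map_pow, aeval_X, aeval_C]
      have h4 : (∑ i ∈ range (2 ^ e), ζ ^ i) * (ζ - 1) = -2 := by
        rw [geom_sum_mul, root_pow_half hζ]; ring
      linear_combination h2 + (algebraMap ℤ ℂ c) * h4
  obtain ⟨B, hB⟩ := key _ le_rfl
  rw [mul_comm l, pow_mul, hW, mul_pow] at hB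
  have hmon : (X ^ 2 ^ e + 1 : ℤ[X]).Monic := monic_X_pow_add_C (a := (1 : ℤ)) (by positivity)
  set R := (W ^ l * B) %ₘ (X ^ 2 ^ e + 1) with hR
  have hRdeg : R.degree < (2 ^ e : ℕ) := by
    have hdeg1 : (X ^ 2 ^ e + 1 : ℤ[X]).degree = (2 ^ e : ℕ) := degree_X_pow_add_C (by positivity) (1 : ℤ)
    rw [← hdeg1]
    exact degree_modByMonic_lt _ hmon
  have hroot : aeval ζ (X ^ 2 ^ e + 1 : ℤ[X]) = 0 := by simp [root_pow_half hζ]
  have hR0 : aeval ζ (P - C ((2 : ℤ) ^ l) * R) = 0 := by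
    rw [map_sub, map_mul, hR, aeval_modByMonic_eq_self_of_root hroot, hB, aeval_C]
    simp only [map_mul, map_pow, map_ofNat]
    ring
  have hzero : P - C ((2 : ℤ) ^ l) * R = 0 := by
    by_contra hne
    have h1 := degree_le_of_dvd (root_dvd hζ hR0) hne
    rw [show (X ^ 2 ^ e + 1 : ℤ[X]).degree = (2 ^ e : ℕ) from degree_X_pow_add_C (by positivity) (1 : ℤ)] at h1
    refine absurd h1 (not_le.2 ((degree_sub_le _ _).trans_lt (max_lt hdeg ?_)))
    refine (degree_mul_le _ _).trans_lt ?_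
    rw [degree_C (pow_ne_zero _ two_ne_zero), zero_add]
    exact hRdeg
  rw [sub_eq_zero.1 hzero, coeff_C_mul]
  exact dvd_mul_right _ _

end cyclotomic

namespace Num

variable {e : ℕ} (D : Num (2 ^ (e + 1)))

theorem two_impossible (htop : ∀ j : ZMod (2 ^ (e + 1)), j * ((2 ^ e : ℕ) : ZMod (2 ^ (e + 1))) ≠ 0 → D.ρ j = 1) :
    False := by
  classical
  have hpos : 0 < 2 ^ e := by positivity
  have hm : 2 ^ (e + 1) = 2 ^ e + 2 ^ e := by rw [pow_succ]; ring
  set J := univ.filter fun j : ZMod (2 ^ (e + 1)) => j * ((2 ^ e : ℕ) : ZMod (2 ^ (e + 1))) = 0 with hJ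
  have hJcard : J.card ≤ 2 ^ e := by
    refine le_trans (card_le_card (t := (range (2 ^ e)).image fun l : ℕ => ((2 * l : ℕ) : ZMod (2 ^ (e + 1))))
      fun j hj => ?_) (card_image_le.trans (card_range _).le)
    have h1 := (mem_filter.1 hj).2
    rw [← ZMod.natCast_zmod_val j, ← Nat.cast_mul, ZMod.natCast_eq_zero_iff] at h1
    have h1' : 2 * 2 ^ e ∣ j.val * 2 ^ e := (dvd_of_eq (pow_succ' 2 e).symm).trans h1
    obtain ⟨l, hl⟩ := Nat.dvd_of_mul_dvd_mul_right hpos h1'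
    refine mem_image.2 ⟨l, mem_range.2 ?_, by rw [← hl, ZMod.natCast_zmod_val]⟩
    have := ZMod.val_lt j
    omega
  have hg : ∀ z : ZMod (2 ^ (e + 1)), z ≠ 0 → |D.g z| ≤ ((2 ^ e : ℕ) : ℤ) - 1 := by
    intro z hz
    have h0 : (∑ j : ZMod (2 ^ (e + 1)), (ZMod.stdAddChar (j * z) : ℂ)) = 0 := by rw [sum_char, if_neg hz]
    have h1 : (D.g z : ℂ) = ∑ j ∈ J.erase 0, ((D.ρ j : ℂ) - 1) * ZMod.stdAddChar (j * z) := by
      rw [sum_subset (subset_univ (J.erase 0)) fun j _ hj => ?_]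
      · simp_rw [sub_mul, one_mul, sum_sub_distrib, ← D.inv, h0, sub_zero]
      · have : D.ρ j = 1 := by
          by_cases hj0 : j = 0
          · rw [hj0, D.ρ_zero]
          · exact htop j fun h => hj (mem_erase.2 ⟨hj0, mem_filter.2 ⟨mem_univ _, h⟩⟩)
        rw [this, Nat.cast_one, sub_self, zero_mul]
    have h2 : ‖(D.g z : ℂ)‖ ≤ ((J.erase 0).card : ℝ) := by
      rw [h1]
      refine (norm_sum_le _ _).trans (le_trans (sum_le_sum (g := fun _ => (1 : ℝ)) fun j _ => ?_) ?_)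
      · rw [norm_mul, norm_char, mul_one]
        have := D.ρ_le j
        interval_cases D.ρ j <;> norm_num
      · rw [sum_const, nsmul_eq_mul, mul_one]
    rw [Complex.norm_intCast, card_erase_of_mem (show (0 : ZMod (2 ^ (e + 1))) ∈ J by simp [hJ])] at h2
    have h3 : |D.g z| ≤ ((J.card - 1 : ℕ) : ℤ) := by exact_mod_cast h2
    omega
  have hf : ∀ y, |D.f y| ≤ ((2 ^ e : ℕ) : ℤ) - 1 := by
    intro y
    by_contra hne
    have hc := D.count (D.f y)
    rw [card_eq_zero.2 (filter_eq_empty_iff.2 fun z _ hz => hne (by rw [← hz.2]; exact hg z hz.1)),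
      Nat.cast_zero, mul_zero] at hc
    have h1 : 0 < (univ.filter fun y' => D.f y' = D.f y).card := card_pos.2 ⟨y, by simp⟩
    rcases mul_eq_zero.1 hc.symm with h2 | h2
    · have := (abs_lt.1 (D.lt_f y)).1
      omega
    · omega
  let d : ℕ → ℤ := fun y => D.f (y : ZMod (2 ^ (e + 1))) - D.f ((2 ^ e + y : ℕ) : ZMod (2 ^ (e + 1)))
  set ζ : ℂ := ZMod.stdAddChar (1 : ZMod (2 ^ (e + 1))) with hζdef
  have hchar : ∀ y : ℕ, (ZMod.stdAddChar (y : ZMod (2 ^ (e + 1))) : ℂ) = ζ ^ y := by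
    intro y
    rw [hζdef, ← AddChar.map_nsmul_eq_pow, nsmul_eq_mul, mul_one]
  have hζ : IsPrimitiveRoot ζ (2 ^ (e + 1)) := by
    refine IsPrimitiveRoot.mk_of_lt _ (by positivity) (by rw [← hchar, ZMod.natCast_self, AddChar.map_zero_eq_one]) ?_
    intro l hl hlt h
    rw [← hchar] at h
    have := congrArg ZMod.val (char_eq_one h)
    rw [ZMod.val_natCast, Nat.mod_eq_of_lt hlt, ZMod.val_zero] at this
    omega
  let P : ℤ[X] := ∑ y ∈ range (2 ^ e), C (d y) * X ^ y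
  have hval : aeval ζ P = ∑ z, (D.f z : ℂ) * ZMod.stdAddChar (1 * z) := by
    have e1 : ∑ z, (D.f z : ℂ) * ZMod.stdAddChar (1 * z) =
        ∑ y ∈ range (2 ^ (e + 1)), (D.f (y : ZMod (2 ^ (e + 1))) : ℂ) * ζ ^ y := by
      refine sum_nbij' (fun z => z.val) (fun y => (y : ZMod (2 ^ (e + 1)))) (fun z _ => mem_range.2 (ZMod.val_lt z))
        (fun _ _ => mem_univ _) (fun z _ => ZMod.natCast_zmod_val z)
        (fun y hy => ZMod.val_cast_of_lt (mem_range.1 hy)) fun z _ => ?_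
      rw [ZMod.natCast_zmod_val, one_mul, ← hchar, ZMod.natCast_zmod_val]
    rw [e1, show range (2 ^ (e + 1)) = range (2 ^ e + 2 ^ e) from congrArg range hm, sum_range_add, ← sum_add_distrib, map_sum]
    refine sum_congr rfl fun y _ => ?_
    rw [map_mul, map_pow, aeval_X, aeval_C, pow_add ζ, root_pow_half hζ]
    simp only [d, algebraMap_int_eq, Int.coe_castRingHom]
    push_cast
    ring
  have hdeg : P.degree < (2 ^ e : ℕ) := by
    refine (degree_sum_le _ _).trans_lt ((Finset.sup_lt_iff (WithBot.bot_lt_coe _)).2 fun y hy => ?_)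
    refine (degree_C_mul_X_pow_le _ _).trans_lt ?_
    exact_mod_cast mem_range.1 hy
  have hnorm : ‖aeval ζ P‖ = (2 : ℝ) ^ (e + 1) := by
    rw [hval, D.fmag, if_pos (htop 1 ?_)]
    · push_cast
      ring
    · rw [one_mul, Ne, ZMod.natCast_eq_zero_iff]
      intro h
      have := Nat.le_of_dvd hpos h
      omega
  have hP0 : P = 0 := by
    refine Polynomial.ext fun i => ?_
    rw [coeff_zero]
    have h1 := dvd_of_norm hζ hdeg hnorm i
    have h2 : |P.coeff i| < (2 : ℤ) ^ (e + 1) := by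
      simp only [P, finsetSum_coeff, coeff_C_mul_X_pow]
      rw [sum_ite_eq]
      split_ifs
      · have ha := hf (i : ZMod (2 ^ (e + 1)))
        have hb := hf ((2 ^ e + i : ℕ) : ZMod (2 ^ (e + 1)))
        have : |d i| ≤ 2 * ((2 ^ e : ℕ) : ℤ) - 2 := (abs_sub _ _).trans (by linarith)
        push_cast at this
        rw [pow_succ]
        linarith
      · rw [abs_zero]; positivity
    exact Int.eq_zero_of_abs_lt_dvd h1 h2
  rw [hP0, map_zero, norm_zero] at hnorm
  exact (pow_ne_zero (e + 1) (two_ne_zero (α := ℝ))) hnorm.symm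

end Num

end Cfsg.Agent.DihedralBGroup49
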