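import Cfsg.Agent.Lib.DihedralBGroup49Spectral
import Cfsg.Agent.Lib.DihedralBGroup49Odd
import Cfsg.Agent.Lib.DihedralBGroup49Two

/-!
Dihedral groups are B-groups (Wielandt).
-/

set_option autoImplicit false
set_option linter.unusedSectionVars false

namespace Cfsg.Agent.DihedralBGroup49

open Finset DihedralGroup

variable {m : ℕ} [NeZero m] {G : Subgroup (Equiv.Perm (DihedralGroup m))}

/-- A power of two has the periodicity from the Galois symmetry alone. -/
theorem two_periodic {e : ℕ} (D : Num (2 ^ (e + 1))) (z t : ZMod (2 ^ (e + 1)))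
    (hz : ((2 : ℕ) : ZMod (2 ^ (e + 1))) * z ≠ 0) (ht : ((2 : ℕ) : ZMod (2 ^ (e + 1))) * t = 0) :
    D.g (z + t) = D.g z := by
  have h2 : t = 0 ∨ t = ((2 ^ e : ℕ) : ZMod (2 ^ (e + 1))) := by
    rw [← ZMod.natCast_zmod_val t, ← Nat.cast_mul, ZMod.natCast_eq_zero_iff] at ht
    have h1 : 2 * 2 ^ e ∣ 2 * t.val := (dvd_of_eq (pow_succ' 2 e).symm).trans ht
    obtain ⟨c, hc⟩ := Nat.dvd_of_mul_dvd_mul_left two_pos h1
    have hlt : t.val < 2 * 2 ^ e := lt_of_lt_of_eq (ZMod.val_lt t) (pow_succ' 2 e)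
    rcases c with _ | _ | c
    · left
      rw [← ZMod.natCast_zmod_val t, hc, mul_zero, Nat.cast_zero]
    · right
      rw [← ZMod.natCast_zmod_val t, hc, zero_add, mul_one]
    · rw [hc] at hlt
      nlinarith
  rcases h2 with rfl | rfl
  · rw [add_zero]
  obtain ⟨l, o, ho, hlo⟩ := Nat.exists_eq_pow_mul_and_not_dvd (n := z.val)
    (fun h => hz (by rw [← ZMod.natCast_zmod_val z, h, Nat.cast_zero, mul_zero])) 2 (by norm_num)
  have hl : l < e := by
    by_contra hc
    push Not at hc
    apply hz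
    rw [← ZMod.natCast_zmod_val z, ← Nat.cast_mul, ZMod.natCast_eq_zero_iff, hlo, ← mul_assoc, ← pow_succ']
    exact dvd_mul_of_dvd_left (pow_dvd_pow 2 (by omega)) _
  have hcop : (1 + 2 ^ (e - l)).Coprime (2 ^ (e + 1)) := by
    refine Nat.Coprime.pow_right _ (Nat.coprime_two_right.2 ?_)
    exact Even.one_add ((Nat.even_pow).2 ⟨even_two, by omega⟩)
  have := D.gal (ZMod.unitOfCoprime _ hcop) z
  rw [ZMod.coe_unitOfCoprime, Nat.cast_add, Nat.cast_one, add_mul, one_mul] at this
  convert this using 3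
  rw [← ZMod.natCast_zmod_val z, ← Nat.cast_mul, hlo, ← mul_assoc, ← pow_add, Nat.sub_add_cancel hl.le]
  obtain ⟨u, hu⟩ : Odd o := Nat.not_even_iff_odd.1 fun h => ho (even_iff_two_dvd.1 h)
  rw [hu, mul_add, mul_one, ← mul_assoc, ← pow_succ, Nat.cast_add, Nat.cast_mul, ZMod.natCast_self, zero_mul,
    zero_add]

/-- The numerical data always has the shape of the complement of a subgroup. -/
theorem shape (P : Pack G) (D : Num m) (M : DihedralGroup m → ℚ) (hM : ∀ x y, Rel G x y → M x = M y)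
    (hMg : ∀ i, M (r i) = D.g i) : D.Shape := by
  classical
  by_cases hodd : ∃ p, p.Prime ∧ Odd p ∧ p ∣ m
  · obtain ⟨p, hp, hpo, hpm⟩ := hodd
    obtain ⟨a, k, hk, hak⟩ := Nat.exists_eq_pow_mul_and_not_dvd (NeZero.ne m) p hp.ne_one
    have ha : 1 ≤ a := by
      by_contra hc
      obtain rfl : a = 0 := by omega
      rw [pow_zero, one_mul] at hak
      exact hk (hak ▸ hpm)
    have F : PFac m p a k := ⟨hp, hpo, hak, (Nat.Prime.coprime_iff_not_dvd hp).2 hk, ha⟩
    set t₀ : ZMod m := ((p ^ (a - 1) * k : ℕ) : ZMod m) with ht₀def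
    have hpt₀ : (p : ZMod m) * t₀ = 0 := by
      rw [ht₀def, ← Nat.cast_mul, ← F.cast_M, ZMod.natCast_self]
    have ht₀ : t₀ ≠ 0 := by
      rw [ht₀def, Ne, ZMod.natCast_eq_zero_iff]
      intro h
      have hpos : 0 < p ^ (a - 1) * k := Nat.mul_pos (pow_pos hp.pos _) F.k_pos
      have h1 := Nat.le_of_dvd hpos h
      have h2 : p ^ (a - 1) * k < m := by
        conv_rhs => rw [F.cast_M]
        exact lt_mul_of_one_lt_left hpos hp.one_lt
      omega
    have hgalQ : ∀ (u : (ZMod m)ˣ) i, (D.g (u * i) : ℚ) = D.g i := fun u i => by rw [D.gal]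
    have hper : ∀ z t : ZMod m, (p : ZMod m) * z ≠ 0 → (p : ZMod m) * t = 0 → D.g (z + t) = D.g z := by
      intro z t hz ht
      have := F.periodic P (h := M) hM (fun u i => by rw [hMg, hMg, D.gal]) hz ht
      rw [hMg, hMg] at this
      exact_mod_cast this
    have hconst : ∀ t : ZMod m, t ≠ 0 → (p : ZMod m) * t = 0 → D.g t = D.g t₀ := by
      intro t ht hpt
      have := F.orbit_const (g := fun i => (D.g i : ℚ)) hgalQ (i₀ := 0) (mul_zero _) ht₀ ht hpt₀ hpt
      simp only [zero_add] at this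
      exact_mod_cast this
    rcases D.rank_cases hp hper ht₀ hpt₀ hconst with h | h
    · exact h
    · exact (D.odd_impossible hp hpo hper ht₀ hpt₀ hconst (fun t ht => F.gen ht₀ hpt₀ ht) F.card_kernel h).elim
  · push Not at hodd
    obtain ⟨e, rfl⟩ : ∃ e, m = 2 ^ (e + 1) := by
      obtain ⟨l, o, ho, hlo⟩ := Nat.exists_eq_pow_mul_and_not_dvd (NeZero.ne m) 2 (by norm_num)
      have ho1 : o = 1 := by
        by_contra hne
        obtain ⟨p, hp, hpo⟩ := Nat.exists_prime_and_dvd hne
        rcases hp.eq_two_or_odd' with rfl | hodd'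
        · exact ho hpo
        · exact hodd p hp hodd' (hlo ▸ dvd_mul_of_dvd_right hpo _)
      subst ho1
      rw [mul_one] at hlo
      rcases l with _ | l
      · have := P.two
        rw [hlo] at this
        norm_num at this
      · exact ⟨l, hlo⟩
    have hpt₀ : ((2 : ℕ) : ZMod (2 ^ (e + 1))) * ((2 ^ e : ℕ) : ZMod (2 ^ (e + 1))) = 0 := by
      rw [← Nat.cast_mul, ← pow_succ', ZMod.natCast_self]
    have ht₀ : ((2 ^ e : ℕ) : ZMod (2 ^ (e + 1))) ≠ 0 := by
      rw [Ne, ZMod.natCast_eq_zero_iff]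
      intro h
      have h1 := Nat.le_of_dvd (by positivity) h
      have h2 : 2 ^ e < 2 ^ (e + 1) := Nat.pow_lt_pow_right one_lt_two (Nat.lt_succ_self e)
      omega
    have hper := fun z t => two_periodic D z t
    have hconst : ∀ t : ZMod (2 ^ (e + 1)), t ≠ 0 → ((2 : ℕ) : ZMod (2 ^ (e + 1))) * t = 0 →
        D.g t = D.g ((2 ^ e : ℕ) : ZMod (2 ^ (e + 1))) := by
      intro t ht hpt
      rw [← ZMod.natCast_zmod_val t, ← Nat.cast_mul, ZMod.natCast_eq_zero_iff] at hpt
      have h1 : 2 * 2 ^ e ∣ 2 * t.val := (dvd_of_eq (pow_succ' 2 e).symm).trans hpt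
      obtain ⟨c, hc⟩ := Nat.dvd_of_mul_dvd_mul_left two_pos h1
      have hlt : t.val < 2 * 2 ^ e := lt_of_lt_of_eq (ZMod.val_lt t) (pow_succ' 2 e)
      rcases c with _ | _ | c
      · exact absurd (by rw [← ZMod.natCast_zmod_val t, hc, mul_zero, Nat.cast_zero]) ht
      · rw [← ZMod.natCast_zmod_val t, hc, zero_add, mul_one]
      · rw [hc] at hlt
        nlinarith
    rcases D.rank_cases Nat.prime_two hper ht₀ hpt₀ hconst with h | h
    · exact h
    · exact (D.two_impossible h).elim

/-- Wielandt's theorem: the stabiliser of the identity is transitive on the other elements. -/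
theorem transitive (P : Pack G) {x y : DihedralGroup m} (hx : x ≠ 1) (hy : y ≠ 1) : Rel G x y := by
  classical
  obtain ⟨D, M, hM, hMg, hMf, hMe, hM0⟩ := exists_num P
  obtain ⟨B, y₀, w, hB, hY, htop⟩ := shape P D M hM hMg
  let K : Subgroup (DihedralGroup m) :=
    { carrier := {z | match z with
        | r i => i ∈ B
        | sr i => i - y₀ ∈ B}
      one_mem' := by
        show (0 : ZMod m) ∈ B
        exact zero_mem B
      mul_mem' := by
        intro u v hu hv
        rcases u with i | i <;> rcases v with j | j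
        · rw [r_mul_r]; exact (add_mem (S := AddSubgroup (ZMod m)) (s := B) hu hv : i + j ∈ B)
        · rw [r_mul_sr]
          show j - i - y₀ ∈ B
          rw [show j - i - y₀ = (j - y₀) - i by abel]
          exact sub_mem hv hu
        · rw [sr_mul_r]
          show i + j - y₀ ∈ B
          rw [show i + j - y₀ = (i - y₀) + j by abel]
          exact add_mem hu hv
        · rw [sr_mul_sr]
          show j - i ∈ B
          rw [show j - i = (j - y₀) - (i - y₀) by abel]
          exact sub_mem hv hu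
      inv_mem' := by
        intro u hu
        rcases u with i | i
        · rw [inv_r]; exact (neg_mem (S := AddSubgroup (ZMod m)) (s := B) hu : -i ∈ B)
        · rw [inv_sr]; exact hu }
  have hmem : ∀ z, z ≠ 1 → (z ∈ K ↔ M z = w) := by
    intro z hz
    rcases z with i | i
    · show i ∈ B ↔ _
      rw [hMg, Int.cast_inj, hB i (r_ne_one.1 hz)]
    · show i - y₀ ∈ B ↔ _
      rw [hMf, Int.cast_inj, hY]
  have hK : InvSet G (K : Set (DihedralGroup m)) := by
    intro u v huv hu
    by_cases hu1 : u = 1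
    · subst hu1
      rw [rel_one (rel_symm huv)]
      exact hu
    · have hv1 : v ≠ 1 := fun h => hu1 (rel_one (h ▸ huv))
      rw [SetLike.mem_coe, hmem v hv1, ← hM u v huv, ← hmem u hu1]
      exact hu
  have hKtop : K = ⊤ := by
    refine (P.prim K hK).resolve_left fun h => ?_
    have h1 : (sr y₀ : DihedralGroup m) ∈ K := by
      show y₀ - y₀ ∈ B
      rw [sub_self]
      exact zero_mem B
    rw [h, Subgroup.mem_bot] at h1
    exact sr_ne_one y₀ h1
  have hBtop : B = ⊤ := eq_top_iff.2 fun i _ => (show (r i : DihedralGroup m) ∈ K by rw [hKtop]; trivial)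
  have hw : ∀ z : DihedralGroup m, z ≠ 1 → M z = -1 := by
    intro z hz
    obtain ⟨i, hi⟩ := meets_r P hz
    have hi0 : (r i : DihedralGroup m) ≠ 1 := fun h => hz (rel_one (h ▸ hi))
    rw [hM _ _ hi, hMg, htop hBtop i (r_ne_one.1 hi0)]
    norm_num
  have hn : (D.g 0 : ℚ) = (2 * m - 1 : ℕ) := by
    have h1 := hM0
    rw [← add_sum_erase _ _ (mem_univ (1 : DihedralGroup m)), sum_congr rfl fun z hz => hw z (mem_erase.1 hz).1,
      sum_const, card_erase_of_mem (mem_univ _), card_univ, DihedralGroup.card, nsmul_eq_mul] at h1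
    have h2 : M 1 = D.g 0 := by rw [one_def, hMg]
    rw [h2] at h1
    linarith
  have horb : orb G x = univ.erase 1 := by
    refine eq_of_subset_of_card_le (fun z hz => mem_erase.2 ⟨fun h => hx (rel_one (h ▸ mem_orb.1 hz)), mem_univ _⟩) ?_
    have h1 := hMe x
    rw [hw x hx, evec, mul_div_assoc', eq_div_iff (by exact_mod_cast (orb_card_pos x).ne'), hn] at h1
    have h2 : ∑ z ∈ orb G x, sgn z = ((∑ z ∈ orb G x, (match z with | r _ => 1 | sr _ => -1 : ℤ) : ℤ) : ℚ) := by
      push_cast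
      refine sum_congr rfl fun z _ => ?_
      rcases z with i | i <;> simp [sgn]
    rw [h2] at h1
    generalize (∑ z ∈ orb G x, (match z with | r _ => 1 | sr _ => -1 : ℤ) : ℤ) = S at h1
    have h3 : ((2 * m - 1 : ℕ) : ℤ) ∣ ((orb G x).card : ℤ) := by
      refine ⟨-S, ?_⟩
      have h4 : ((orb G x).card : ℚ) = ((2 * m - 1 : ℕ) : ℚ) * -(S : ℚ) := by linarith
      exact_mod_cast h4
    rw [card_erase_of_mem (mem_univ _), card_univ, DihedralGroup.card]
    exact Nat.le_of_dvd (orb_card_pos x) (Int.natCast_dvd_natCast.1 h3)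
  exact mem_orb.1 (horb.symm ▸ mem_erase.2 ⟨hy, mem_univ _⟩)

end Cfsg.Agent.DihedralBGroup49
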