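import Mathlib

/-!
The numerical data of the idempotent attached to the sign character: Fourier transforms with values `0`, `m`, `2m`,
bounds, and the case in which it is the complement of a subgroup.
-/

set_option autoImplicit false
set_option linter.unusedSectionVars false

namespace Cfsg.Agent.DihedralBGroup49

open Finset

variable {m : ℕ} [NeZero m]

local notation "χ" => fun z : ZMod m => (ZMod.stdAddChar z : ℂ)

/-- The data. -/
structure Num (m : ℕ) [NeZero m] where
  g : ZMod m → ℤ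
  f : ZMod m → ℤ
  ρ : ZMod m → ℕ
  two : 2 ≤ m
  ρ_le : ∀ j, ρ j ≤ 2
  ρ_zero : ρ 0 = 1
  even : ∀ z, g (-z) = g z
  inv : ∀ z, (g z : ℂ) = ∑ j, (ρ j : ℂ) * ZMod.stdAddChar (j * z)
  ghat : ∀ j, ∑ z, (g z : ℂ) * ZMod.stdAddChar (j * z) = (ρ j : ℂ) * m
  fmag : ∀ j, ‖∑ z, (f z : ℂ) * ZMod.stdAddChar (j * z)‖ = if ρ j = 1 then (m : ℝ) else 0
  lt_g : ∀ z, z ≠ 0 → |g z| < g 0
  lt_f : ∀ y, |f y| < g 0
  count : ∀ w, (g 0 - w) * ((univ.filter fun z => z ≠ 0 ∧ g z = w).card : ℤ) =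
    (g 0 + w) * ((univ.filter fun y => f y = w).card : ℤ)
  mem : ∀ z, z ≠ 0 → ∃ y, f y = g z
  gal : ∀ (u : (ZMod m)ˣ) z, g (u * z) = g z

theorem sum_char (b : ZMod m) :
    ∑ j : ZMod m, (ZMod.stdAddChar (j * b) : ℂ) = if b = 0 then (m : ℂ) else 0 := by
  have := AddChar.sum_mulShift b (ZMod.isPrimitive_stdAddChar m)
  rw [ZMod.card] at this
  exact_mod_cast this

theorem norm_char (z : ZMod m) : ‖(ZMod.stdAddChar z : ℂ)‖ = 1 :=
  AddChar.norm_apply ZMod.stdAddChar z

theorem char_eq_one {z : ZMod m} (h : (ZMod.stdAddChar z : ℂ) = 1) : z = 0 := by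
  refine ZMod.injective_stdAddChar ?_
  rw [h, AddChar.map_zero_eq_one]

/-- If `card` unit complex numbers sum to `card` they are all `1`. -/
theorem all_one {ι : Type*} (s : Finset ι) (θ : ι → ℂ) (h1 : ∀ i ∈ s, ‖θ i‖ = 1)
    (h2 : ∑ i ∈ s, θ i = (s.card : ℂ)) : ∀ i ∈ s, θ i = 1 := by
  intro i hi
  have hle : ∀ j ∈ s, (θ j).re ≤ 1 := fun j hj => (Complex.re_le_norm _).trans (h1 j hj).le
  have hsum : ∑ j ∈ s, (θ j).re = ∑ j ∈ s, (1 : ℝ) := by
    rw [← Complex.re_sum, h2, sum_const, nsmul_eq_mul, mul_one]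
    exact Complex.natCast_re _
  have hre := (sum_eq_sum_iff_of_le hle).1 hsum i hi
  have hn : Complex.normSq (θ i) = 1 := by rw [Complex.normSq_eq_norm_sq, h1 i hi, one_pow]
  rw [Complex.normSq_apply, hre] at hn
  have him : (θ i).im * (θ i).im = 0 := by linarith
  exact Complex.ext (by rw [hre, Complex.one_re]) (by rw [mul_self_eq_zero.1 him, Complex.one_im])

namespace Num

variable (D : Num m)

/-- The indices of rank one. -/
def R1 : Finset (ZMod m) := univ.filter fun j => D.ρ j = 1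

/-- Their number. -/
def N : ℕ := D.R1.card

theorem g_zero : D.g 0 = ∑ j, (D.ρ j : ℤ) := by
  have := D.inv 0
  simp only [mul_zero, AddChar.map_zero_eq_one, mul_one] at this
  exact_mod_cast this

/-- Fourier inversion for the reflection part. -/
theorem f_inv (y : ZMod m) :
    (m : ℂ) * (D.f y : ℂ) =
      ∑ j ∈ D.R1, (∑ z, (D.f z : ℂ) * ZMod.stdAddChar (j * z)) * ZMod.stdAddChar (j * -y) := by
  classical
  have h0 : ∀ j, D.ρ j ≠ 1 → (∑ z, (D.f z : ℂ) * ZMod.stdAddChar (j * z)) = 0 := by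
    intro j hj
    have := D.fmag j
    rw [if_neg hj, norm_eq_zero] at this
    exact this
  rw [R1, sum_filter_of_ne fun j _ hne => by
    by_contra h
    exact hne (by rw [h0 j h, zero_mul])]
  simp_rw [sum_mul, mul_assoc, ← AddChar.map_add_eq_mul, ← mul_add]
  rw [sum_comm]
  simp_rw [← mul_sum, sum_char, mul_ite, mul_zero, add_neg_eq_zero]
  rw [sum_ite_eq', if_pos (mem_univ y), mul_comm]

theorem f_le (y : ZMod m) : |D.f y| ≤ (D.N : ℤ) := by
  have h := congrArg norm (D.f_inv y)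
  have hb : ‖∑ j ∈ D.R1, (∑ z, (D.f z : ℂ) * ZMod.stdAddChar (j * z)) * ZMod.stdAddChar (j * -y)‖ ≤
      D.N * (m : ℝ) := by
    refine (norm_sum_le _ _).trans ?_
    refine (sum_le_sum (g := fun _ => (m : ℝ)) fun j hj => ?_).trans ?_
    · rw [norm_mul, norm_char, mul_one, D.fmag, if_pos (mem_filter.1 hj).2]
    · rw [sum_const, nsmul_eq_mul, N]
  rw [norm_mul, Complex.norm_natCast, Complex.norm_intCast] at h
  have hm : (0 : ℝ) < m := by exact_mod_cast Nat.pos_of_ne_zero (NeZero.ne m)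
  have h1 : |(D.f y : ℝ)| ≤ (D.N : ℝ) := by
    rw [← mul_le_mul_iff_right₀ hm, h]
    linarith [hb]
  exact_mod_cast h1

theorem g_le {z : ZMod m} (hz : z ≠ 0) : |D.g z| ≤ (D.N : ℤ) := by
  obtain ⟨y, hy⟩ := D.mem z hz
  exact hy ▸ D.f_le y

/-- The shape of the data in the top case. -/
def Shape (D : Num m) : Prop :=
  ∃ (B : AddSubgroup (ZMod m)) (y₀ : ZMod m) (w : ℤ), (∀ z, z ≠ 0 → (D.g z = w ↔ z ∈ B)) ∧
    (∀ y, D.f y = w ↔ y - y₀ ∈ B) ∧ (B = ⊤ → ∀ z, z ≠ 0 → D.g z = -1)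

/-- Some value `g z ≤ g 0 - 2m` forces the shape. -/
theorem top_case {t : ZMod m} (ht : t ≠ 0) (hv : D.g t ≤ D.g 0 - 2 * (m : ℤ)) : D.Shape := by
  classical
  have hle : ∀ j, D.ρ j + (if D.ρ j = 1 then 1 else 0) ≤ 2 := by
    intro j
    have := D.ρ_le j
    split_ifs with h <;> omega
  have hN : D.N = ∑ j, if D.ρ j = 1 then 1 else 0 := by rw [N, R1, card_filter]
  have hsum : ∑ j, (D.ρ j + if D.ρ j = 1 then 1 else 0) ≤ 2 * m := by
    refine (sum_le_sum fun j _ => hle j).trans (le_of_eq ?_)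
    rw [sum_const, card_univ, ZMod.card, smul_eq_mul, mul_comm]
  have hn : D.g 0 + D.N = ((∑ j, (D.ρ j + if D.ρ j = 1 then 1 else 0) : ℕ) : ℤ) := by
    rw [D.g_zero, hN, sum_add_distrib]
    push_cast
    rfl
  have hgt := (abs_le.1 (D.g_le ht)).1
  have htight : ∑ j, (D.ρ j + if D.ρ j = 1 then 1 else 0) = 2 * m := by omega
  have hgtv : D.g t = -(D.N : ℤ) := by omega
  have hone : ∀ j, D.ρ j = 1 ∨ D.ρ j = 2 := by
    intro j
    have h2 : ∑ j, (D.ρ j + if D.ρ j = 1 then 1 else 0) = ∑ _j : ZMod m, 2 := by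
      rw [htight, sum_const, card_univ, ZMod.card, smul_eq_mul, mul_comm]
    have h3 := (sum_eq_sum_iff_of_le fun j _ => hle j).1 h2 j (mem_univ j)
    have := D.ρ_le j
    split_ifs at h3 with h
    · exact Or.inl h
    · exact Or.inr (by omega)
  let h : ZMod m → ℤ := fun z => (if z = 0 then 2 * (m : ℤ) else 0) - D.g z
  have hh : ∀ z, (h z : ℂ) = ∑ j ∈ D.R1, (ZMod.stdAddChar (j * z) : ℂ) := by
    intro z
    simp only [h]
    push_cast
    rw [D.inv z, R1, sum_filter]
    have h2 : (if z = 0 then 2 * (m : ℂ) else 0) = ∑ j : ZMod m, 2 * (ZMod.stdAddChar (j * z) : ℂ) := by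
      rw [← mul_sum, sum_char, mul_ite, mul_zero]
    rw [h2, ← sum_sub_distrib]
    refine sum_congr rfl fun j _ => ?_
    rcases hone j with e | e <;> rw [e] <;> simp <;> ring
  have h0 : h 0 = D.N := by
    have := hh 0
    simp only [mul_zero, AddChar.map_zero_eq_one, sum_const, nsmul_eq_mul, mul_one] at this
    exact_mod_cast this
  have hgh : ∀ z, z ≠ 0 → D.g z = -h z := fun z hz => by simp [h, hz]
  have heven : ∀ z, h (-z) = h z := fun z => by simp [h, D.even]
  obtain ⟨y₀, hy₀⟩ := D.mem t ht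
  have halign : ∀ j ∈ D.R1, (∑ z, (D.f z : ℂ) * ZMod.stdAddChar (j * z)) * ZMod.stdAddChar (j * -y₀) =
      -(m : ℂ) := by
    have hm0 : (m : ℂ) ≠ 0 := Nat.cast_ne_zero.2 (NeZero.ne m)
    have hall := all_one D.R1
      (fun j => -((∑ z, (D.f z : ℂ) * ZMod.stdAddChar (j * z)) * ZMod.stdAddChar (j * -y₀) / (m : ℂ)))
      (fun j hj => by
        rw [norm_neg, norm_div, norm_mul, norm_char, mul_one, D.fmag, if_pos (mem_filter.1 hj).2,
          Complex.norm_natCast, div_self (Nat.cast_ne_zero.2 (NeZero.ne m))])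
      (by
        rw [sum_neg_distrib, ← sum_div, ← D.f_inv, mul_div_assoc, mul_comm, div_mul_cancel₀ _ hm0, hy₀, hgtv]
        push_cast
        rw [neg_neg, N])
    intro j hj
    have := hall j hj
    field_simp at this
    linear_combination -this
  have hf : ∀ y, D.f y = -h (y - y₀) := by
    intro y
    have e1 := D.f_inv y
    have e2 : ∀ j ∈ D.R1, (∑ z, (D.f z : ℂ) * ZMod.stdAddChar (j * z)) * ZMod.stdAddChar (j * -y) =
        -(m : ℂ) * ZMod.stdAddChar (j * (y₀ + -y)) := by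
      intro j hj
      rw [mul_add, AddChar.map_add_eq_mul, ← mul_assoc]
      congr 1
      have := halign j hj
      have hu : (ZMod.stdAddChar (j * -y₀) : ℂ) * ZMod.stdAddChar (j * y₀) = 1 := by
        rw [← AddChar.map_add_eq_mul, ← mul_add, neg_add_cancel, mul_zero, AddChar.map_zero_eq_one]
      linear_combination (ZMod.stdAddChar (j * y₀) : ℂ) * this -
        (∑ z, (D.f z : ℂ) * ZMod.stdAddChar (j * z)) * hu
    rw [sum_congr rfl e2] at e1
    rw [← mul_sum, ← hh, show y₀ + -y = -(y - y₀) by abel, heven, neg_mul, ← mul_neg] at e1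
    exact_mod_cast mul_left_cancel₀ (Nat.cast_ne_zero.2 (NeZero.ne m)) e1
  have hvals : ∀ z, z ≠ 0 → h z = 0 ∨ h z = D.N := by
    intro z hz
    by_contra hcon
    push Not at hcon
    have hc := D.count (-h z)
    have hY : ((univ.filter fun y => D.f y = -h z).card) =
        (univ.filter fun i => i ≠ 0 ∧ D.g i = -h z).card := by
      refine card_equiv (Equiv.subRight y₀) fun y => ?_
      simp only [mem_filter, mem_univ, true_and, Equiv.subRight_apply, hf, neg_inj]
      constructor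
      · intro e
        have hne : y - y₀ ≠ 0 := fun e0 => hcon.2 (by rw [← e, e0, h0])
        exact ⟨hne, by rw [hgh _ hne, e]⟩
      · rintro ⟨hne, e⟩
        rw [hgh _ hne, neg_inj] at e
        exact e
    rw [hY] at hc
    have hpos : 0 < (univ.filter fun i => i ≠ 0 ∧ D.g i = -h z).card :=
      card_pos.2 ⟨z, mem_filter.2 ⟨mem_univ _, hz, hgh z hz⟩⟩
    have hpos' : ((univ.filter fun i => i ≠ 0 ∧ D.g i = -h z).card : ℤ) ≠ 0 := by exact_mod_cast hpos.ne'
    have := mul_right_cancel₀ hpos' hc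
    omega
  have hker : ∀ z, h z = D.N ↔ ∀ j ∈ D.R1, (ZMod.stdAddChar (j * z) : ℂ) = 1 := by
    intro z
    constructor
    · intro e
      refine all_one _ _ (fun j _ => norm_char _) ?_
      rw [← hh, e]
      simp [N]
    · intro e
      have := hh z
      rw [sum_congr rfl e, sum_const, nsmul_eq_mul, mul_one] at this
      exact_mod_cast this
  let B : AddSubgroup (ZMod m) :=
    { carrier := {z | h z = D.N}
      zero_mem' := h0
      add_mem' := fun {a b} ha hb => (hker _).2 fun j hj => by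
        rw [mul_add, AddChar.map_add_eq_mul, (hker a).1 ha j hj, (hker b).1 hb j hj, one_mul]
      neg_mem' := fun {a} ha => by
        show h (-a) = _
        rw [heven]
        exact ha }
  refine ⟨B, y₀, -(D.N : ℤ), fun z hz => ?_, fun y => ?_, fun hB z hz => ?_⟩
  · rw [hgh z hz, neg_inj]
    rfl
  · rw [hf, neg_inj]
    rfl
  · have hR : D.R1 = {0} := by
      ext j
      rw [mem_singleton]
      constructor
      · intro hj
        have h1 := (hker 1).1 (show (1 : ZMod m) ∈ B by rw [hB]; trivial) j hj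
        rw [mul_one] at h1
        exact char_eq_one h1
      · rintro rfl
        exact mem_filter.2 ⟨mem_univ _, D.ρ_zero⟩
    rw [hgh z hz, show h z = D.N from (show z ∈ B by rw [hB]; trivial), N, hR, card_singleton]
    rfl

/-! ### The prime subgroup -/

section prime

variable {p : ℕ} (hp : p.Prime)
  (hper : ∀ z t : ZMod m, (p : ZMod m) * z ≠ 0 → (p : ZMod m) * t = 0 → D.g (z + t) = D.g z)
  {t₀ : ZMod m} (ht₀ : t₀ ≠ 0) (hpt₀ : (p : ZMod m) * t₀ = 0)
  (hconst : ∀ t : ZMod m, t ≠ 0 → (p : ZMod m) * t = 0 → D.g t = D.g t₀)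
include hp hper ht₀ hpt₀ hconst

theorem rank_top {j : ZMod m} (hj : j * t₀ ≠ 0) : (D.ρ j : ℤ) * m = D.g 0 - D.g t₀ := by
  classical
  set K := univ.filter fun t : ZMod m => (p : ZMod m) * t = 0
  set c : ℂ := (ZMod.stdAddChar (j * t₀) : ℂ)
  have hc : c ≠ 1 := fun h => hj (char_eq_one h)
  have hK : ∀ z, z ∈ K ↔ (p : ZMod m) * z = 0 := fun z => by simp [K]
  have hshift : ∀ (s : Finset (ZMod m)) (φ : ZMod m → ℂ), (∀ z, z ∈ s ↔ z + t₀ ∈ s) →
      (∀ z ∈ s, φ (z + t₀) = φ z) → ∑ z ∈ s, φ z * ZMod.stdAddChar (j * z) = 0 := by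
    intro s φ hs hφ
    have h1 : ∑ z ∈ s, φ z * ZMod.stdAddChar (j * z) = c * ∑ z ∈ s, φ z * ZMod.stdAddChar (j * z) := by
      calc ∑ z ∈ s, φ z * ZMod.stdAddChar (j * z)
          = ∑ z ∈ s, φ (z + t₀) * ZMod.stdAddChar (j * (z + t₀)) :=
            (sum_equiv (Equiv.addRight t₀) (fun z => by simpa using hs z) (fun z _ => rfl)).symm
        _ = _ := by
            rw [mul_sum]
            refine sum_congr rfl fun z hz => ?_
            rw [hφ z hz, mul_add, AddChar.map_add_eq_mul]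
            ring
    by_contra h
    exact hc (mul_right_cancel₀ h (by rw [one_mul]; exact h1.symm))
  have e1 := D.ghat j
  rw [← sum_filter_add_sum_filter_not univ (fun z : ZMod m => (p : ZMod m) * z = 0),
    hshift (univ.filter fun z : ZMod m => ¬(p : ZMod m) * z = 0) (fun z => (D.g z : ℂ))
      (fun z => by simp [mul_add, hpt₀])
      (fun z hz => by rw [hper z t₀ (mem_filter.1 hz).2 hpt₀]), add_zero] at e1
  have e2 : ∑ z ∈ K, ((D.g z : ℂ) - D.g t₀) * ZMod.stdAddChar (j * z) = (D.g 0 : ℂ) - D.g t₀ := by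
    rw [sum_eq_single 0]
    · rw [mul_zero, AddChar.map_zero_eq_one, mul_one]
    · intro z hz hz0
      rw [hconst z hz0 ((hK z).1 hz), sub_self, zero_mul]
    · intro h
      exact absurd ((hK 0).2 (mul_zero _)) h
  simp_rw [sub_mul] at e2
  rw [sum_sub_distrib, hshift K (fun _ => (D.g t₀ : ℂ)) (fun z => by simp [hK, mul_add, hpt₀]) (fun _ _ => rfl),
    sub_zero, e1] at e2
  exact_mod_cast e2

theorem rank_cases : D.Shape ∨ ∀ j : ZMod m, j * t₀ ≠ 0 → D.ρ j = 1 := by
  have h1 : (1 : ZMod m) * t₀ ≠ 0 := by rwa [one_mul]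
  have e1 := D.rank_top hp hper ht₀ hpt₀ hconst h1
  by_cases h2 : D.ρ 1 = 2
  · left
    exact D.top_case ht₀ (by rw [h2] at e1; push_cast at e1; linarith)
  · right
    intro j hj
    have e2 := D.rank_top hp hper ht₀ hpt₀ hconst hj
    have hm : (m : ℤ) ≠ 0 := by exact_mod_cast NeZero.ne m
    have h3 : D.ρ j = D.ρ 1 := by exact_mod_cast mul_right_cancel₀ hm (e2.trans e1.symm)
    have := D.ρ_le 1
    have hlt := (abs_lt.1 (D.lt_g t₀ ht₀)).2
    have h4 : D.ρ 1 ≠ 0 := by
      intro h0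
      rw [h0, Nat.cast_zero, zero_mul] at e1
      linarith
    omega

end prime

end Num

end Cfsg.Agent.DihedralBGroup49
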