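import Cfsg.Agent.Lib.DihedralBGroup49Closure

/-!
An invariant function with the Galois symmetry is constant on the cosets of the rotations of order `p`,
outside these rotations.
-/

set_option autoImplicit false
set_option linter.unusedSectionVars false

namespace Cfsg.Agent.DihedralBGroup49

open Finset DihedralGroup

variable {m : ℕ} [NeZero m] {p a k : ℕ} (F : PFac m p a k)
include F

theorem PFac.cast_M : m = p * (p ^ (a - 1) * k) := by
  rw [← mul_assoc, ← pow_succ', Nat.sub_add_cancel F.pos, ← F.eq]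

theorem PFac.val_dvd {t : ZMod m} (ht : (p : ZMod m) * t = 0) : (p ^ (a - 1) * k) ∣ t.val := by
  have h1 : ((p * t.val : ℕ) : ZMod m) = 0 := by rw [Nat.cast_mul, ZMod.natCast_zmod_val, ht]
  rw [ZMod.natCast_eq_zero_iff] at h1
  nth_rewrite 1 [F.cast_M] at h1
  exact Nat.dvd_of_mul_dvd_mul_left F.prime.pos h1

/-- The rotations of order `p` form a cyclic group. -/
theorem PFac.gen {s t : ZMod m} (hs0 : s ≠ 0) (hs : (p : ZMod m) * s = 0) (ht : (p : ZMod m) * t = 0) :
    ∃ l : ℕ, t = (l : ZMod m) * s := by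
  haveI := Fact.mk F.prime
  obtain ⟨α, hα⟩ := F.val_dvd hs
  obtain ⟨β, hβ⟩ := F.val_dvd ht
  have hαp : (α : ZMod p) ≠ 0 := by
    intro h
    obtain ⟨γ, rfl⟩ := (ZMod.natCast_eq_zero_iff α p).1 h
    apply hs0
    rw [← ZMod.natCast_zmod_val s, hα, ← mul_assoc, mul_comm _ p, ← F.cast_M, Nat.cast_mul,
      ZMod.natCast_self, zero_mul]
  refine ⟨((β : ZMod p) / (α : ZMod p)).val, ?_⟩
  have h1 : ((((β : ZMod p) / (α : ZMod p)).val * α : ℕ) : ZMod p) = (β : ℕ) := by
    rw [Nat.cast_mul, ZMod.natCast_zmod_val, div_mul_cancel₀ _ hαp]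
  have h2 := ((ZMod.natCast_eq_natCast_iff _ _ p).1 h1).mul_left' (p ^ (a - 1) * k)
  rw [mul_comm (p ^ (a - 1) * k) p, ← F.cast_M, ← hβ, mul_left_comm, ← hα] at h2
  have h3 := (ZMod.natCast_eq_natCast_iff _ _ m).2 h2
  rw [Nat.cast_mul, ZMod.natCast_zmod_val, ZMod.natCast_zmod_val] at h3
  exact h3.symm

theorem PFac.card_kernel : (univ.filter fun t : ZMod m => (p : ZMod m) * t = 0).card = p := by
  have hMpos : 0 < p ^ (a - 1) * k := Nat.mul_pos (pow_pos F.prime.pos _) F.k_pos
  have himg : (univ.filter fun t : ZMod m => (p : ZMod m) * t = 0) =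
      (range p).image fun l : ℕ => ((p ^ (a - 1) * k * l : ℕ) : ZMod m) := by
    ext t
    simp only [mem_filter, mem_univ, true_and, mem_image, mem_range]
    constructor
    · intro ht
      obtain ⟨β, hβ⟩ := F.val_dvd ht
      refine ⟨β, ?_, by rw [← hβ, ZMod.natCast_zmod_val]⟩
      have h := ZMod.val_lt t
      rw [hβ] at h
      nth_rewrite 1 [F.cast_M] at h
      rw [mul_comm p] at h
      exact lt_of_mul_lt_mul_left' h
    · rintro ⟨l, -, rfl⟩
      rw [← Nat.cast_mul, ← mul_assoc, ← F.cast_M, Nat.cast_mul, ZMod.natCast_self, zero_mul]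
  rw [himg, card_image_of_injOn, card_range]
  intro x hx y hy hxy
  rw [coe_range, Set.mem_Iio] at hx hy
  have hlt : ∀ l, l < p → p ^ (a - 1) * k * l < m := fun l hl => by
    nth_rewrite 1 [F.cast_M]
    rw [mul_comm p]
    exact Nat.mul_lt_mul_of_pos_left hl hMpos
  have h := congrArg ZMod.val hxy
  simp only [ZMod.val_natCast, Nat.mod_eq_of_lt (hlt x hx), Nat.mod_eq_of_lt (hlt y hy)] at h
  exact Nat.eq_of_mul_eq_mul_left hMpos h

omit F in
theorem exists_unit_of_coprime {u : ℕ} (h : u.Coprime m) : ∃ U : (ZMod m)ˣ, (U : ZMod m) = u :=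
  ⟨ZMod.unitOfCoprime u h, rfl⟩

variable {g : ZMod m → ℚ} (hgal : ∀ (u : (ZMod m)ˣ) i, g (u * i) = g i)
include hgal

/-- Rotations whose order is divisible by `p ^ 2`. -/
theorem PFac.homogeneous {i t : ZMod m} (hi : (p : ZMod m) * ((k : ZMod m) * i) ≠ 0)
    (ht : (p : ZMod m) * t = 0) : g (i + t) = g i := by
  classical
  have hex : ∃ e : ℕ, (p : ZMod m) ^ e * ((k : ZMod m) * i) = 0 :=
    ⟨a, by rw [← mul_assoc, F.cast_zero, zero_mul]⟩
  have h0 := Nat.find_spec hex
  have hmin := fun e => Nat.find_min hex (m := e)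
  obtain ⟨e, he⟩ : ∃ e, Nat.find hex = e + 2 := by
    refine ⟨Nat.find hex - 2, ?_⟩
    rcases h : Nat.find hex with _ | _ | e
    · rw [h, pow_zero, one_mul] at h0
      exact absurd (by rw [h0, mul_zero]) hi
    · rw [h, pow_one] at h0
      exact absurd h0 hi
    · omega
  rw [he] at h0 hmin
  set c : ℕ := p ^ (e + 1) * k with hc
  have hs0 : (c : ZMod m) * i ≠ 0 := by
    rw [hc, Nat.cast_mul, Nat.cast_pow, mul_assoc]
    exact hmin (e + 1) (by omega)
  have hs : (p : ZMod m) * ((c : ZMod m) * i) = 0 := by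
    rw [hc, Nat.cast_mul, Nat.cast_pow, mul_assoc, ← mul_assoc (p : ZMod m), ← pow_succ', h0]
  obtain ⟨l, hl⟩ := F.gen hs0 hs ht
  have hcop : (1 + l * c).Coprime m := by
    refine Nat.coprime_of_dvd fun q hq hq1 hqm => hq.not_dvd_one ?_
    have hqc : q ∣ c := by
      rw [F.eq] at hqm
      rcases hq.dvd_mul.1 hqm with h | h
      · exact dvd_mul_of_dvd_left (dvd_pow (hq.dvd_of_dvd_pow h) (by omega)) _
      · exact dvd_mul_of_dvd_right h _
    exact (Nat.dvd_add_left (dvd_mul_of_dvd_right hqc l)).1 hq1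
  obtain ⟨U, hU⟩ := exists_unit_of_coprime hcop
  have := hgal U i
  rwa [hU, Nat.cast_add, Nat.cast_one, Nat.cast_mul, add_mul, one_mul, mul_assoc, ← hl] at this

theorem PFac.orbit_const {i₀ t t' : ZMod m} (hi : (k : ZMod m) * i₀ = 0) (ht0 : t ≠ 0) (ht0' : t' ≠ 0)
    (ht : (p : ZMod m) * t = 0) (ht' : (p : ZMod m) * t' = 0) : g (i₀ + t') = g (i₀ + t) := by
  obtain ⟨α, hα⟩ := F.gen ht0 ht ht'
  have hαp : ¬ p ∣ α := by
    rintro ⟨γ, rfl⟩
    exact ht0' (by rw [hα, mul_comm p, Nat.cast_mul, mul_assoc, ht, mul_zero])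
  obtain ⟨u, hu1, hu2⟩ := Nat.chineseRemainder (F.cop.pow_left a) α 1
  have hcop : u.Coprime m := by
    rw [F.eq]
    refine Nat.Coprime.mul_right (Nat.Coprime.pow_right _ ?_) ?_
    · refine ((Nat.Prime.coprime_iff_not_dvd F.prime).2 fun h => hαp ?_).symm
      exact ((hu1 : Nat.ModEq _ u α).of_dvd (dvd_pow_self p (by have := F.pos; omega))).dvd_iff dvd_rfl |>.1 h
    · have h1 : Nat.gcd u k = Nat.gcd 1 k := Nat.ModEq.gcd_eq hu2
      rw [Nat.Coprime, h1, Nat.gcd_one_left]
  obtain ⟨U, hU⟩ := exists_unit_of_coprime hcop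
  have hfix : (u : ZMod m) * i₀ = i₀ := by
    obtain ⟨c, hc⟩ := (Nat.modEq_iff_dvd.1 hu2.symm)
    have h1 := congrArg (fun z : ℤ => (z : ZMod m) * i₀) hc
    push_cast at h1
    rw [mul_right_comm, hi, zero_mul, sub_mul, one_mul, sub_eq_zero] at h1
    exact h1
  have hmove : (u : ZMod m) * t = (α : ZMod m) * t := by
    obtain ⟨c, hc⟩ := (Nat.modEq_iff_dvd.1 hu1.symm)
    have h1 := congrArg (fun z : ℤ => (z : ZMod m) * t) hc
    push_cast at h1
    have hpa : (p : ZMod m) ^ a * t = 0 := by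
      rw [← Nat.sub_add_cancel F.pos, pow_succ, mul_assoc, ht, mul_zero]
    rw [mul_right_comm, hpa, zero_mul, sub_mul, sub_eq_zero] at h1
    exact h1
  have := hgal U (i₀ + t)
  rwa [hU, mul_add, hfix, hmove, ← hα] at this

omit hgal

variable {G : Subgroup (Equiv.Perm (DihedralGroup m))} (P : Pack G)
include P

/-- The periodicity. -/
theorem PFac.periodic {h : DihedralGroup m → ℚ} (hh : ∀ x y, Rel G x y → h x = h y)
    (hgal : ∀ (u : (ZMod m)ˣ) i, h (r (u * i)) = h (r i)) {i t : ZMod m} (hi : (p : ZMod m) * i ≠ 0)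
    (ht : (p : ZMod m) * t = 0) : h (r (i + t)) = h (r i) := by
  classical
  haveI := Fact.mk F.prime
  let g : ZMod m → ℚ := fun j => h (r j)
  show g (i + t) = g i
  by_cases hpk : (p : ZMod m) * ((k : ZMod m) * i) ≠ 0
  · exact F.homogeneous (g := g) hgal hpk ht
  push Not at hpk
  obtain ⟨u, v, huv⟩ := Nat.isCoprime_iff_coprime.2 F.cop
  set i₀ : ZMod m := (u : ZMod m) * ((p : ZMod m) * i) with hi₀
  have hki₀ : (k : ZMod m) * i₀ = 0 := by
    rw [hi₀]
    calc (k : ZMod m) * ((u : ZMod m) * ((p : ZMod m) * i))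
        = (u : ZMod m) * ((p : ZMod m) * ((k : ZMod m) * i)) := by ring
      _ = 0 := by rw [hpk, mul_zero]
  have huv' : (u : ZMod m) * (p : ZMod m) + (v : ZMod m) * (k : ZMod m) = 1 := by
    have := congrArg (fun z : ℤ => (z : ZMod m)) huv
    push_cast at this
    exact this
  have hdiff : (p : ZMod m) * (i - i₀) = 0 := by
    have e : i - i₀ = (v : ZMod m) * ((k : ZMod m) * i) := by
      calc i - i₀ = ((u : ZMod m) * (p : ZMod m) + (v : ZMod m) * (k : ZMod m)) * i - i₀ := by rw [huv', one_mul]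
        _ = (v : ZMod m) * ((k : ZMod m) * i) := by rw [hi₀]; ring
    rw [e, mul_left_comm, hpk, mul_zero]
  suffices key : ∀ s, (p : ZMod m) * s = 0 → g (i₀ + s) = g i₀ by
    rw [show i + t = i₀ + ((i - i₀) + t) by abel, key _ (by rw [mul_add, hdiff, ht, add_zero])]
    conv_rhs => rw [show i = i₀ + (i - i₀) by abel, key _ hdiff]
  intro s hs
  by_cases hs0 : s = 0
  · rw [hs0, add_zero]
  set y : ZMod m := (p : ZMod m) * i₀
  have hy : y = (p : ZMod m) * i := by
    have h1 := hdiff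
    rw [mul_sub, sub_eq_zero] at h1
    exact h1.symm
  have hy0 : (r y : DihedralGroup m) ≠ 1 := by
    rw [one_def, Ne, r.injEq, hy]
    exact hi
  obtain ⟨y', hyy', hy'k⟩ := no_special F P hy0
  let x : MonoidAlgebra (ZMod p) (DihedralGroup m) := ofFun fun z => if h z = g (i₀ + s) then 1 else 0
  have hxI : InvA G x := fun z z' hz => by simp only [x, coeff_ofFun, hh z z' hz]
  haveI : CharP (MonoidAlgebra (ZMod p) (DihedralGroup m)) p := charP_of_injective_algebraMap' (R := ZMod p) p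
  haveI : CharP (AddMonoidAlgebra (ZMod p) (ZMod m)) p := charP_of_injective_algebraMap' (R := ZMod p) p
  have hcount : ∀ z, (x ^ p).coeff (r z) =
      ((univ.filter fun j => (p : ZMod m) * j = z ∧ g j = g (i₀ + s)).card : ZMod p) := by
    intro z
    rw [← coeff_cp, ← mk_cp_yp x, DihedralBGroup49.mk, add_pow_char_of_commute p (phi_commute (star'_cp P hxI) _)]
    obtain ⟨e, he⟩ := F.odd
    have hz : cp ((sig * phi (yp x)) ^ p) = 0 := by
      generalize hw : yp x = W
      rw [show (sig * phi W) ^ p = (sig * phi W) ^ (2 * e + 1) from congrArg (fun n => (sig * phi W) ^ n) he,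
        pow_succ' (sig * phi W), pow_even, mul_assoc, ← map_mul, cp_sig_phi]
    have hX : cp x ^ p = psi (ZMod p) (p : ZMod m) (cp x) := by
      haveI : ExpChar (AddMonoidAlgebra (ZMod p) (ZMod m)) p := ExpChar.prime F.prime
      conv_lhs => rw [← ofC_coeff (cp x)]
      conv_rhs => rw [← ofC_coeff (cp x)]
      rw [ofC, sum_pow_char p, map_sum]
      refine sum_congr rfl fun j _ => ?_
      rw [AddMonoidAlgebra.single_pow, psi_single, ZMod.pow_card, nsmul_eq_mul]
    rw [cp_add, ← map_pow, cp_phi, hz, add_zero, hX, coeff_psi]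
    simp only [coeff_cp, x, coeff_ofFun]
    rw [sum_boole, filter_filter]
  have hzero : (x ^ p).coeff (r y) = 0 := by
    rw [invA_pow P hxI p _ _ hyy', hcount]
    by_cases hne : ∃ j, (p : ZMod m) * j = y'
    · obtain ⟨j, hj⟩ := hne
      have hhom : ∀ q, (p : ZMod m) * q = 0 → g (j + q) = g j := fun q hq =>
        F.homogeneous (g := g) hgal (by rw [mul_left_comm, hj]; exact hy'k) hq
      by_cases hgj : g j = g (i₀ + s)
      · have himg : (univ.filter fun j' => (p : ZMod m) * j' = y' ∧ g j' = g (i₀ + s)) =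
            (univ.filter fun q : ZMod m => (p : ZMod m) * q = 0).image fun q => j + q := by
          ext j'
          simp only [mem_filter, mem_univ, true_and, mem_image]
          constructor
          · rintro ⟨h1, -⟩
            exact ⟨j' - j, by rw [mul_sub, h1, hj, sub_self], by abel⟩
          · rintro ⟨q, hq, rfl⟩
            exact ⟨by rw [mul_add, hj, hq, add_zero], by rw [hhom q hq, hgj]⟩
        rw [himg, card_image_of_injective _ (add_right_injective j), F.card_kernel, ZMod.natCast_self]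
      · rw [filter_false_of_mem fun j' _ hj' => hgj ?_, card_empty, Nat.cast_zero]
        rw [← hj'.2]
        have := hhom (j' - j) (by rw [mul_sub, hj'.1, hj, sub_self])
        rwa [add_sub_cancel, eq_comm] at this
    · rw [filter_false_of_mem fun j' _ hj' => hne ⟨j', hj'.1⟩, card_empty, Nat.cast_zero]
  rw [hcount] at hzero
  by_contra hne
  have himg : (univ.filter fun j => (p : ZMod m) * j = y ∧ g j = g (i₀ + s)) =
      ((univ.filter fun q : ZMod m => (p : ZMod m) * q = 0).erase 0).image fun q => i₀ + q := by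
    ext j
    simp only [mem_filter, mem_univ, true_and, mem_image, mem_erase]
    constructor
    · rintro ⟨h1, h2⟩
      refine ⟨j - i₀, ⟨fun h0 => hne ?_, by rw [mul_sub, h1, sub_self]⟩, by abel⟩
      rw [← h2, sub_eq_zero.1 h0]
    · rintro ⟨q, ⟨hq0, hq⟩, rfl⟩
      exact ⟨by rw [mul_add, hq, add_zero], F.orbit_const (g := g) hgal hki₀ hs0 hq0 hs hq⟩
  rw [himg, card_image_of_injective _ (add_right_injective i₀),
    card_erase_of_mem (by simp), F.card_kernel,
    Nat.cast_sub F.prime.one_le, ZMod.natCast_self, Nat.cast_one, zero_sub, neg_eq_zero] at hzero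
  exact one_ne_zero hzero

end Cfsg.Agent.DihedralBGroup49
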