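import Cfsg.Agent.Lib.DihedralBGroup49Periodic
import Cfsg.Agent.Lib.DihedralBGroup49Num

/-!
The idempotent of the sign character of a primitive group containing a regular dihedral group, and the numerical
data it gives.
-/

set_option autoImplicit false
set_option linter.unusedSectionVars false

namespace Cfsg.Agent.DihedralBGroup49

open Finset DihedralGroup

variable {m : ℕ} [NeZero m] {G : Subgroup (Equiv.Perm (DihedralGroup m))}

/-- The sign character. -/
def sgn : DihedralGroup m → ℚ
  | r _ => 1
  | sr _ => -1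

theorem sgn_mul (x y : DihedralGroup m) : sgn (x * y) = sgn x * sgn y := by
  rcases x with i | i <;> rcases y with j | j <;> simp [sgn]

theorem sr_ne_one (y : ZMod m) : (sr y : DihedralGroup m) ≠ 1 := by
  rw [one_def]
  exact fun h => nomatch h

theorem r_ne_one {i : ZMod m} : (r i : DihedralGroup m) ≠ 1 ↔ i ≠ 0 := by
  rw [one_def, Ne, r.injEq]

/-- The linear form of the sign character. -/
def lam (a : MonoidAlgebra ℚ (DihedralGroup m)) : ℚ := ∑ x, sgn x * a.coeff x

theorem lam_mul (a b : MonoidAlgebra ℚ (DihedralGroup m)) : lam (a * b) = lam a * lam b := by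
  simp only [lam, coeff_mul', mul_sum, sum_mul]
  rw [sum_comm]
  conv_rhs => rw [sum_comm]
  refine sum_congr rfl fun y _ => ?_
  refine (Equiv.sum_comp (Equiv.mulLeft y) _).symm.trans (sum_congr rfl fun w _ => ?_)
  simp only [Equiv.coe_mulLeft, inv_mul_cancel_left, sgn_mul]
  ring

open Classical in
/-- The orbit of the stabiliser. -/
noncomputable def orb (G : Subgroup (Equiv.Perm (DihedralGroup m))) (x : DihedralGroup m) :
    Finset (DihedralGroup m) := univ.filter fun y => Rel G x y

theorem mem_orb {x y : DihedralGroup m} : y ∈ orb G x ↔ Rel G x y := by simp [orb]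

theorem orb_eq {x y : DihedralGroup m} (h : Rel G x y) : orb G x = orb G y := by
  ext z
  simp only [mem_orb]
  exact ⟨fun h' => rel_trans (rel_symm h) h', fun h' => rel_trans h h'⟩

/-- The value representing the sign character on an orbit. -/
noncomputable def evec (G : Subgroup (Equiv.Perm (DihedralGroup m))) (x : DihedralGroup m) : ℚ :=
  (∑ y ∈ orb G x, sgn y) / (orb G x).card

theorem orb_card_pos (x : DihedralGroup m) : 0 < (orb G x).card :=
  card_pos.2 ⟨x, mem_orb.2 (rel_refl x)⟩

theorem sum_evec (a : DihedralGroup m → ℚ) (ha : ∀ x y, Rel G x y → a x = a y) :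
    ∑ x, evec G x * a x = ∑ x, sgn x * a x := by
  classical
  calc ∑ x, evec G x * a x = ∑ x, ∑ y, (if Rel G x y then sgn y * a y / (orb G y).card else 0) := by
        refine sum_congr rfl fun x _ => ?_
        rw [← sum_filter, evec, div_mul_eq_mul_div, sum_mul, sum_div]
        refine sum_congr rfl fun y hy => ?_
        have hxy := mem_orb.1 hy
        rw [ha x y hxy, orb_eq hxy]
    _ = ∑ y, sgn y * a y := by
        rw [sum_comm]
        refine sum_congr rfl fun y _ => ?_
        rw [← sum_filter, sum_const, nsmul_eq_mul]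
        have : (univ.filter fun x => Rel G x y) = orb G y := by
          ext x
          simp only [mem_filter, mem_univ, true_and, mem_orb]
          exact ⟨rel_symm, rel_symm⟩
        rw [this, mul_div_cancel₀]
        exact_mod_cast (orb_card_pos y).ne'

section pack

variable (P : Pack G)
include P

theorem coeff_one_mul {a b : MonoidAlgebra ℚ (DihedralGroup m)} (hb : InvA G b) :
    (a * b).coeff 1 = ∑ x, a.coeff x * b.coeff x := by
  rw [coeff_mul']
  refine sum_congr rfl fun x _ => ?_
  rw [mul_one, ← hb _ _ (rel_self_inv P x)]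

/-- The element representing the sign character. -/
noncomputable def evA (G : Subgroup (Equiv.Perm (DihedralGroup m))) : MonoidAlgebra ℚ (DihedralGroup m) :=
  ofFun (evec G)

theorem invA_evA : InvA G (evA G) := fun x y h => by
  simp only [evA, coeff_ofFun, evec, orb_eq h]

theorem eigen {a : MonoidAlgebra ℚ (DihedralGroup m)} (ha : InvA G a) : a * evA G = lam a • evA G := by
  set u := a * evA G - lam a • evA G with hu
  have hsm : InvA G (lam a • evA G) := fun x y h => by simp [invA_evA P x y h]
  have huI : InvA G u := invA_sub' (invA_mul P ha (invA_evA P)) hsm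
  have he : ∀ b, InvA G b → ∑ x, (evA G).coeff x * b.coeff x = lam b := fun b hb => by
    simp only [evA, coeff_ofFun]
    exact sum_evec _ hb
  have h1 : ∑ x, u.coeff x * u.coeff x = 0 := by
    have e1 : ∑ x, (a * evA G).coeff x * u.coeff x = lam a * lam u := by
      rw [← coeff_one_mul P huI, invA_comm P ha (invA_evA P), mul_assoc, coeff_one_mul P (invA_mul P ha huI),
        he _ (invA_mul P ha huI), lam_mul]
    calc ∑ x, u.coeff x * u.coeff x
        = ∑ x, (a * evA G).coeff x * u.coeff x - lam a * ∑ x, (evA G).coeff x * u.coeff x := by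
          rw [mul_sum, ← sum_sub_distrib]
          refine sum_congr rfl fun x _ => ?_
          conv_lhs => arg 1; rw [hu]
          simp
          ring
      _ = 0 := by rw [e1, he u huI, sub_self]
  refine sub_eq_zero.1 (ext' fun x => ?_)
  have := (sum_eq_zero_iff_of_nonneg fun y _ => mul_self_nonneg (u.coeff y)).1 h1 x (mem_univ x)
  simpa [hu] using mul_self_eq_zero.1 this

theorem evec_one : evec G 1 = 1 := by
  classical
  have h : orb G 1 = {1} := by
    ext y
    rw [mem_orb, mem_singleton]
    exact ⟨fun h => rel_one (rel_symm h), fun h => by rw [h]; exact rel_refl 1⟩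
  rw [evec, h, sum_singleton, card_singleton, Nat.cast_one, div_one, one_def]
  rfl

theorem evec_lt {x : DihedralGroup m} (hx : x ≠ 1) : |evec G x| < 1 := by
  obtain ⟨i, hi⟩ := meets_r P hx
  obtain ⟨j, hj⟩ := meets_sr P hx
  have hc : (0 : ℚ) < (orb G x).card := by exact_mod_cast orb_card_pos x
  rw [evec, abs_div, Nat.abs_cast, div_lt_one hc, abs_lt]
  have hb : ∀ y ∈ orb G x, -1 ≤ sgn y ∧ sgn y ≤ 1 := by
    intro y _
    rcases y with y | y <;> simp [sgn]
  constructor
  · have := sum_lt_sum (f := fun _ => (-1 : ℚ)) (g := sgn) (fun y hy => (hb y hy).1)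
      ⟨r i, mem_orb.2 hi, by simp [sgn]⟩
    simpa [neg_lt] using this
  · have := sum_lt_sum (f := sgn) (g := fun _ => (1 : ℚ)) (fun y hy => (hb y hy).2)
      ⟨sr j, mem_orb.2 hj, by simp [sgn]⟩
    simpa using this

end pack

/-- Evaluation at a character of the rotations. -/
noncomputable def ev (j : ZMod m) : AddMonoidAlgebra ℚ (ZMod m) →ₐ[ℚ] ℂ :=
  AddMonoidAlgebra.lift ℚ ℂ (ZMod m) (((ZMod.stdAddChar : AddChar (ZMod m) ℂ)).mulShift j).toMonoidHom

theorem ev_apply (j : ZMod m) (X : AddMonoidAlgebra ℚ (ZMod m)) :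
    ev j X = ∑ i, (X.coeff i : ℂ) * ZMod.stdAddChar (j * i) := by
  classical
  conv_lhs => rw [← ofC_coeff X]
  rw [ofC, map_sum]
  refine sum_congr rfl fun i _ => ?_
  rw [ev, AddMonoidAlgebra.lift_single, Algebra.smul_def]
  rfl

theorem ev_star' (j : ZMod m) (X : AddMonoidAlgebra ℚ (ZMod m)) : ev j (star' X) = (starRingEnd ℂ) (ev j X) := by
  rw [ev_apply, ev_apply, map_sum]
  refine sum_equiv (Equiv.neg _) (fun i => by simp) fun i _ => ?_
  rw [Equiv.neg_apply, coeff_star', map_mul (starRingEnd ℂ), map_ratCast, ← AddChar.map_neg_eq_conj,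
    show -(j * -i) = j * i by ring]

section pack

variable (P : Pack G)
include P

open Classical in
/-- The numerical data. -/
theorem exists_num : ∃ (D : Num m) (M : DihedralGroup m → ℚ), (∀ x y, Rel G x y → M x = M y) ∧
    (∀ i, M (r i) = D.g i) ∧ (∀ i, M (sr i) = D.f i) ∧
    (∀ x, M x = (D.g 0 : ℚ) * evec G x) ∧ ∑ x, M x = 0 := by
  have hm2 : 2 ≤ m := P.two
  have hsplit : ∀ φ : DihedralGroup m → ℚ, ∑ x, φ x = (∑ i, φ (r i)) + ∑ i, φ (sr i) := by
    intro φ
    let e : ZMod m ⊕ ZMod m ≃ DihedralGroup m :=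
      { toFun := Sum.elim r sr
        invFun := fun x => match x with
          | r i => Sum.inl i
          | sr i => Sum.inr i
        left_inv := by rintro (i | i) <;> rfl
        right_inv := by rintro (i | i) <;> rfl }
    rw [← e.sum_comp, Fintype.sum_sum_type]
    rfl
  have hle : 0 < lam (evA G) := by
    have h1 : lam (evA G) = ∑ x, evec G x * evec G x := by
      rw [lam]
      simp only [evA, coeff_ofFun]
      exact (sum_evec (evec G) fun x y h => by rw [evec, evec, orb_eq h]).symm
    rw [h1]
    refine lt_of_lt_of_le (by rw [evec_one P]; norm_num : (0 : ℚ) < evec G 1 * evec G 1) ?_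
    exact single_le_sum (fun x _ => mul_self_nonneg (evec G x)) (mem_univ _)
  set c : ℚ := 2 * m / lam (evA G) with hc
  have hc0 : 0 < c := div_pos (by positivity) hle
  set A := c • evA G with hA
  have hAI : InvA G A := fun x y h => by simp [hA, invA_evA P x y h]
  let M : DihedralGroup m → ℚ := fun x => A.coeff x
  have hMe : ∀ x, M x = c * evec G x := fun x => by simp [M, hA, evA, coeff_ofFun]
  have hpair : ∀ a : DihedralGroup m → ℚ, (∀ x y, Rel G x y → a x = a y) →
      ∑ x, M x * a x = c * ∑ x, sgn x * a x := by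
    intro a ha
    rw [← sum_evec a ha, mul_sum]
    exact sum_congr rfl fun x _ => by rw [hMe]; ring
  have hM0 : ∑ x, M x = 0 := by
    have h1 := hpair (fun _ => 1) fun _ _ _ => rfl
    simp only [mul_one] at h1
    rw [h1, hsplit sgn]
    simp [sgn]
  have hlamA : lam A = 2 * m := by
    have : lam A = c * lam (evA G) := by
      simp only [lam, hA, mul_sum]
      exact sum_congr rfl fun x _ => by simp; ring
    rw [this, hc, div_mul_cancel₀ _ hle.ne']
  have hAA : A * A = (2 * (m : ℚ)) • A := by
    rw [← hlamA]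
    conv_lhs => arg 2; rw [hA]
    rw [mul_smul_comm, eigen P hAI, smul_comm, ← hA]
  set X := cp A with hX
  set Y := yp A with hY
  have hXs : star' X = X := star'_cp P hAI
  have hcpeq : X * X + star' Y * Y = (2 * (m : ℚ)) • X := by
    rw [hX, hY, ← cp_mul, hAA]
    exact AddMonoidAlgebra.ext (Finsupp.ext fun i => by simp [coeff_cp])
  have hypeq : X * Y + Y * X = (2 * (m : ℚ)) • Y := by
    have : X * Y + Y * X = yp (A * A) := by rw [yp_mul, ← hX, ← hY, hXs]
    rw [this, hAA]
    exact AddMonoidAlgebra.ext (Finsupp.ext fun i => by simp [coeff_yp, hY])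
  have hmC : (m : ℂ) ≠ 0 := Nat.cast_ne_zero.2 (NeZero.ne m)
  have hspec : ∀ j, ev j X * ev j X + (starRingEnd ℂ) (ev j Y) * ev j Y = 2 * (m : ℂ) * ev j X ∧
      (ev j X - m) * ev j Y = 0 := by
    intro j
    have h1 := congrArg (ev j) hcpeq
    have h2 := congrArg (ev j) hypeq
    rw [map_add, map_mul, map_mul, ev_star', map_smul, Algebra.smul_def, map_mul, map_ofNat, map_natCast] at h1
    rw [map_add, map_mul, map_mul, map_smul, Algebra.smul_def, map_mul, map_ofNat, map_natCast] at h2
    exact ⟨h1, by linear_combination (1 / 2 : ℂ) * h2⟩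
  have hrk : ∀ j, ∃ ρ : ℕ, ρ ≤ 2 ∧ ev j X = (ρ : ℂ) * m ∧ ‖ev j Y‖ = if ρ = 1 then (m : ℝ) else 0 := by
    intro j
    obtain ⟨h1, h2⟩ := hspec j
    by_cases hy : ev j Y = 0
    · rw [hy, mul_zero, add_zero] at h1
      by_cases hx : ev j X = 0
      · exact ⟨0, by omega, by rw [hx]; simp, by rw [hy]; simp⟩
      · exact ⟨2, le_rfl, by rw [mul_right_cancel₀ hx h1]; simp, by rw [hy]; simp⟩
    · have hx : ev j X = m := sub_eq_zero.1 ((mul_eq_zero.1 h2).resolve_right hy)
      refine ⟨1, by omega, by rw [hx]; simp, ?_⟩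
      rw [if_pos rfl]
      rw [hx, mul_comm ((starRingEnd ℂ) _), Complex.mul_conj] at h1
      have h3 : (Complex.normSq (ev j Y) : ℂ) = ((m : ℝ) ^ 2 : ℝ) := by push_cast; linear_combination h1
      rw [Complex.norm_def, Complex.ofReal_inj.1 h3, Real.sqrt_sq (Nat.cast_nonneg m)]
  choose ρ hρ2 hρX hρY using hrk
  have hgX : ∀ i, X.coeff i = M (r i) := fun i => coeff_cp _ _
  have hfY : ∀ i, Y.coeff i = M (sr i) := fun i => coeff_yp _ _
  have hsums : ∑ i, M (r i) = m := by
    have h1 := hM0
    rw [hsplit] at h1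
    have h2 := hlamA
    rw [lam, hsplit] at h2
    simp only [sgn, one_mul, neg_one_mul, sum_neg_distrib] at h2
    change (∑ i, M (r i)) + -(∑ i, M (sr i)) = _ at h2
    linarith
  have hρ0 : ρ 0 = 1 := by
    have h1 := hρX 0
    rw [ev_apply] at h1
    simp only [zero_mul, AddChar.map_zero_eq_one, mul_one, hgX] at h1
    rw [← Rat.cast_sum, hsums, Rat.cast_natCast] at h1
    have := mul_right_cancel₀ hmC (h1.symm.trans (one_mul _).symm)
    exact_mod_cast this
  have heven : ∀ i, M (r (-i)) = M (r i) := fun i => by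
    rw [← inv_r]
    exact (hAI _ _ (rel_self_inv P (r i))).symm
  have hinv : ∀ z, (M (r z) : ℂ) = ∑ j, (ρ j : ℂ) * ZMod.stdAddChar (j * z) := by
    intro z
    refine mul_right_cancel₀ hmC ?_
    rw [sum_mul]
    symm
    calc ∑ j, (ρ j : ℂ) * ZMod.stdAddChar (j * z) * m
        = ∑ j, ∑ i, (M (r i) : ℂ) * ZMod.stdAddChar (j * (i + z)) := by
          refine sum_congr rfl fun j _ => ?_
          rw [mul_right_comm, ← hρX, ev_apply, sum_mul]
          refine sum_congr rfl fun i _ => ?_
          rw [hgX, mul_assoc, ← AddChar.map_add_eq_mul, ← mul_add]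
      _ = (M (r z) : ℂ) * m := by
          rw [sum_comm]
          simp_rw [← mul_sum, sum_char, mul_ite, mul_zero, add_eq_zero_iff_eq_neg]
          rw [sum_ite_eq', if_pos (mem_univ _), heven]
  have hint : ∀ z, ∃ k : ℤ, M (r z) = k := by
    intro z
    have h1 : IsIntegral ℤ (algebraMap ℚ ℂ (M (r z))) := by
      rw [eq_ratCast, hinv]
      refine IsIntegral.sum _ fun j _ => IsIntegral.mul ?_ ?_
      · exact map_natCast (algebraMap ℤ ℂ) (ρ j) ▸ isIntegral_algebraMap
      · refine IsIntegral.of_pow (Nat.pos_of_ne_zero (NeZero.ne m)) ?_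
        rw [← AddChar.map_nsmul_eq_pow, nsmul_eq_mul, ZMod.natCast_self, zero_mul, AddChar.map_zero_eq_one]
        exact isIntegral_one
    obtain ⟨k, hk⟩ := IsIntegrallyClosed.isIntegral_iff.1 ((isIntegral_algebraMap_iff (algebraMap ℚ ℂ).injective).1 h1)
    exact ⟨k, by rw [← hk]; simp⟩
  choose g hg using hint
  have hfval : ∀ y, ∃ i, M (sr y) = M (r i) := by
    intro y
    obtain ⟨i, hi⟩ := meets_r P (x := (sr y : DihedralGroup m)) (sr_ne_one y)
    exact ⟨i, hAI _ _ hi⟩
  choose φ hφ using hfval
  let f : ZMod m → ℤ := fun y => g (φ y)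
  have hf : ∀ y, M (sr y) = f y := fun y => by rw [hφ, hg]
  have hg0 : (g 0 : ℚ) = c := by rw [← hg, hMe, ← one_def, evec_one P, mul_one]
  have hlt : ∀ x : DihedralGroup m, x ≠ 1 → |M x| < c := by
    intro x hx
    rw [hMe, abs_mul, abs_of_pos hc0]
    exact mul_lt_of_lt_one_right hc0 (evec_lt P hx)
  have hζ : IsPrimitiveRoot (ZMod.stdAddChar (1 : ZMod m) : ℂ) m := by
    refine IsPrimitiveRoot.mk_of_lt _ (Nat.pos_of_ne_zero (NeZero.ne m))
      (by rw [← AddChar.map_nsmul_eq_pow, nsmul_eq_mul, ZMod.natCast_self, zero_mul, AddChar.map_zero_eq_one]) ?_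
    intro l hl hlt' h
    rw [← AddChar.map_nsmul_eq_pow, nsmul_eq_mul, mul_one] at h
    have := congrArg ZMod.val (char_eq_one h)
    rw [ZMod.val_natCast, Nat.mod_eq_of_lt hlt', ZMod.val_zero] at this
    omega
  have hgal : ∀ (u : (ZMod m)ˣ) z, g (u * z) = g z := by
    intro u z
    have hpw : ∀ (a : ℕ) (w : ZMod m), (ZMod.stdAddChar w : ℂ) ^ a = ZMod.stdAddChar ((a : ZMod m) * w) := by
      intro a w
      rw [← AddChar.map_nsmul_eq_pow, nsmul_eq_mul]
    set Q : Polynomial ℤ := (∑ j, Polynomial.C (ρ j : ℤ) * Polynomial.X ^ (j * z).val) - Polynomial.C (g z)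
    have hQ : Polynomial.aeval (ZMod.stdAddChar (1 : ZMod m) : ℂ) Q = 0 := by
      have h1 := hinv z
      rw [hg, Rat.cast_intCast] at h1
      simp only [Q, map_sub, map_sum, map_mul, map_pow, Polynomial.aeval_X, Polynomial.aeval_C, hpw, mul_one,
        ZMod.natCast_zmod_val, algebraMap_int_eq, Int.coe_castRingHom, Int.cast_natCast]
      rw [← h1, sub_self]
    have hu := hζ.pow_of_coprime (u : ZMod m).val (ZMod.val_coe_unit_coprime u)
    have h2 : Polynomial.aeval ((ZMod.stdAddChar (1 : ZMod m) : ℂ) ^ (u : ZMod m).val) Q = 0 := by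
      obtain ⟨B, hB⟩ := minpoly.isIntegrallyClosed_dvd (hζ.isIntegral (Nat.pos_of_ne_zero (NeZero.ne m))) hQ
      rw [hB, ← Polynomial.cyclotomic_eq_minpoly hζ (Nat.pos_of_ne_zero (NeZero.ne m)),
        Polynomial.cyclotomic_eq_minpoly hu (Nat.pos_of_ne_zero (NeZero.ne m)), map_mul, minpoly.aeval, zero_mul]
    simp only [Q, map_sub, map_sum, map_mul, map_pow, Polynomial.aeval_X, Polynomial.aeval_C, hpw, mul_one,
      ZMod.natCast_zmod_val, algebraMap_int_eq, Int.coe_castRingHom, Int.cast_natCast, sub_eq_zero] at h2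
    have h1 := hinv (u * z)
    rw [hg, Rat.cast_intCast] at h1
    have h3 : (g (u * z) : ℂ) = g z := by
      rw [h1, ← h2]
      exact sum_congr rfl fun j _ => by congr 2; ring
    exact_mod_cast h3
  let D : Num m :=
    { g := g
      f := f
      ρ := ρ
      two := hm2
      ρ_le := hρ2
      ρ_zero := hρ0
      even := fun z => by
        have := heven z
        rw [hg, hg] at this
        exact_mod_cast this
      inv := fun z => by
        have := hinv z
        rw [hg, Rat.cast_intCast] at this
        exact this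
      ghat := fun j => by
        rw [← hρX, ev_apply]
        refine sum_congr rfl fun z _ => ?_
        rw [hgX, hg, Rat.cast_intCast]
      fmag := fun j => by
        rw [← hρY, ev_apply]
        congr 1
        refine sum_congr rfl fun z _ => ?_
        rw [hfY, hf, Rat.cast_intCast]
      lt_g := fun z hz => by
        have := hlt (r z) (by rw [one_def, Ne, r.injEq]; exact hz)
        rw [hg, ← hg0] at this
        exact_mod_cast this
      lt_f := fun y => by
        have := hlt (sr y) (sr_ne_one y)
        rw [hf, ← hg0] at this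
        exact_mod_cast this
      count := fun w => by
        have hV : ∀ x y, Rel G x y → (if x ≠ 1 ∧ M x = w then (1 : ℚ) else 0) = if y ≠ 1 ∧ M y = w then 1 else 0 := by
          intro x y h
          refine if_congr ?_ rfl rfl
          rw [show M x = M y from hAI x y h]
          exact and_congr_left' ⟨fun hx hy => hx (rel_one (hy ▸ h)), fun hy hx => hy (rel_one (rel_symm (hx ▸ h)))⟩
        have h1 := hpair _ hV
        rw [hsplit, hsplit] at h1
        simp only [sgn, mul_ite, mul_one, mul_zero, neg_one_mul, one_mul] at h1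
        rw [← sum_filter, ← sum_filter, ← sum_filter, ← sum_filter] at h1
        have e1 : (univ.filter fun i : ZMod m => (r i : DihedralGroup m) ≠ 1 ∧ M (r i) = w) =
            univ.filter fun i => i ≠ 0 ∧ g i = w := by
          ext i
          simp [r_ne_one, hg]
        have e2 : (univ.filter fun i : ZMod m => (sr i : DihedralGroup m) ≠ 1 ∧ M (sr i) = w) =
            univ.filter fun i => f i = w := by
          ext i
          simp [sr_ne_one, hf]
        rw [e1, e2] at h1
        rw [sum_congr rfl fun i hi => by rw [hg i, (mem_filter.1 hi).2.2],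
          sum_congr rfl (s₁ := univ.filter fun i => f i = w) fun i hi => by rw [hf i, (mem_filter.1 hi).2],
          ← hg0] at h1
        simp only [sum_const, nsmul_eq_mul, mul_neg, mul_one] at h1
        have h4 : ((g 0 : ℚ) - w) * ((univ.filter fun i => i ≠ 0 ∧ g i = w).card : ℚ) =
            ((g 0 : ℚ) + w) * ((univ.filter fun i => f i = w).card : ℚ) := by linarith
        exact_mod_cast h4
      mem := fun z hz => by
        obtain ⟨y, hy⟩ := meets_sr P (x := (r z : DihedralGroup m)) (by rw [one_def, Ne, r.injEq]; exact hz)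
        refine ⟨y, ?_⟩
        have : M (r z) = M (sr y) := hAI _ _ hy
        rw [hg, hf] at this
        exact_mod_cast this.symm
      gal := hgal }
  exact ⟨D, M, fun x y h => hAI x y h, hg, hf, fun x => by rw [hg0]; exact hMe x, hM0⟩

end pack

end Cfsg.Agent.DihedralBGroup49
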