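import Mathlib
import Cfsg.Agent.Lib.CharBasicOrth
import Cfsg.Agent.Lib.CharInducedBasic
import Cfsg.Agent.Lib.BlockTheoryCentre

/-!
# Class functions of a dihedral 2-group supported on the nontrivial rotations

`P` is dihedral of order `4 * h` inside a group `H`, `s` a rotation of order `2 * h`.
-/

set_option autoImplicit false
set_option linter.unusedSectionVars false

open scoped ComplexConjugate

namespace Cfsg.Agent.DihedralDefectGroup79

open Cfsg

attribute [local instance] Classical.propDecidable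

universe u

variable {H : Type u} [Group H] [Fintype H] {P : Subgroup H} {s : H} {h : ℕ} {ζ : ℂ}

/-- A dihedral 2-group with a chosen rotation. -/
structure Dih (h : ℕ) (P : Subgroup H) (s : H) : Prop where
  mem : s ∈ P
  order : orderOf s = 2 * h
  two_pow : ∃ k : ℕ, h = 2 ^ k
  two_le : 2 ≤ h
  card : Nat.card P = 4 * h
  refl : ∀ u ∈ P, u ∉ Subgroup.zpowers s → u * u = 1 ∧ u * s * u⁻¹ = s⁻¹
  exists_refl : ∃ u ∈ P, u ∉ Subgroup.zpowers s

theorem pow_two_h (hd : Dih h P s) : s ^ (2 * h) = 1 := by rw [← hd.order, pow_orderOf_eq_one]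

theorem pow_inj (hd : Dih h P s) {a b : ℕ} (ha : a < 2 * h) (hb : b < 2 * h)
    (e : s ^ a = s ^ b) : a = b :=
  pow_injOn_Iio_orderOf (by rwa [Set.mem_Iio, hd.order]) (by rwa [Set.mem_Iio, hd.order]) e

theorem even_h (hd : Dih h P s) : Even h := by
  obtain ⟨k, hk⟩ := hd.two_pow
  rcases k with _ | k
  · have := hd.two_le; rw [pow_zero] at hk; omega
  · exact hk ▸ ⟨2 ^ k, by rw [pow_succ]; ring⟩

theorem pow_sub (hd : Dih h P s) {a : ℕ} (ha : a ≤ 2 * h) : s ^ (2 * h - a) = (s ^ a)⁻¹ :=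
  eq_inv_of_mul_eq_one_left (by rw [← pow_add, Nat.sub_add_cancel ha, pow_two_h hd])

theorem exists_pow (hd : Dih h P s) {x : H} (hx : x ∈ Subgroup.zpowers s) :
    ∃ a < 2 * h, x = s ^ a := by
  obtain ⟨z, rfl⟩ := hx
  have hpos : (0 : ℤ) < (2 * h : ℕ) := by have := hd.two_le; omega
  refine ⟨(z % ((2 * h : ℕ) : ℤ)).toNat, ?_, ?_⟩
  · have := Int.emod_lt_of_pos z hpos
    have := Int.emod_nonneg z hpos.ne'
    omega
  · show s ^ z = _
    rw [← zpow_natCast, Int.toNat_of_nonneg (Int.emod_nonneg z hpos.ne'), ← hd.order,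
      zpow_mod_orderOf]

/-- The central involution is a power of every nontrivial rotation. -/
theorem J_mem_zpowers (hd : Dih h P s) {a : ℕ} (h0 : 0 < a) (ha : a < 2 * h) :
    s ^ h ∈ Subgroup.zpowers (s ^ a) := by
  obtain ⟨k, hk⟩ := hd.two_pow
  obtain ⟨t, o, ho, hao⟩ := Nat.exists_eq_pow_mul_and_not_dvd h0.ne' 2 (by norm_num)
  have hto : 2 ^ t ≤ a := by
    rw [hao]; exact Nat.le_mul_of_pos_right _ (Nat.pos_of_ne_zero (by rintro rfl; simp at ho))
  have htk : t ≤ k := by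
    by_contra hlt
    have : 2 ^ (k + 1) ≤ 2 ^ t := Nat.pow_le_pow_right (by norm_num) (by omega)
    rw [pow_succ, ← hk] at this
    omega
  obtain ⟨r, hr⟩ : Odd o := Nat.odd_iff.mpr (by omega)
  refine ⟨(2 ^ (k - t) : ℕ), ?_⟩
  show (s ^ a) ^ ((2 ^ (k - t) : ℕ) : ℤ) = s ^ h
  rw [zpow_natCast, ← pow_mul, hao,
    show 2 ^ t * o * 2 ^ (k - t) = 2 ^ (t + (k - t)) * o by rw [pow_add]; ring,
    Nat.add_sub_cancel' htk, ← hk, hr, show h * (2 * r + 1) = 2 * h * r + h by ring, pow_add,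
    pow_mul, pow_two_h hd, one_pow, one_mul]

theorem J_comm (hd : Dih h P s) {u : H} (hu : u ∈ P) : u * s ^ h * u⁻¹ = s ^ h := by
  by_cases hr : u ∈ Subgroup.zpowers s
  · obtain ⟨z, rfl⟩ := hr
    show s ^ z * s ^ h * (s ^ z)⁻¹ = s ^ h
    rw [(((Commute.refl s).zpow_left z).pow_right h).eq, mul_inv_cancel_right]
  · rw [← conj_pow, (hd.refl u hu hr).2, inv_pow, ← pow_sub hd (by omega),
      show 2 * h - h = h by omega]

/-- Evaluation at a rotation. -/
noncomputable def ev (s : H) (f : P → ℂ) (a : ℕ) : ℂ :=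
  if hx : s ^ a ∈ P then f ⟨s ^ a, hx⟩ else 0

theorem ev_eq (hd : Dih h P s) (f : P → ℂ) (a : ℕ) :
    ev s f a = f ⟨s ^ a, pow_mem hd.mem a⟩ := dif_pos _

theorem ev_sum {ι : Type*} (S : Finset ι) (c : ι → ℂ) (f : ι → P → ℂ) (a : ℕ) :
    ev s (∑ i ∈ S, c i • f i) a = ∑ i ∈ S, c i * ev s (f i) a := by
  unfold ev
  split_ifs with hx
  · simp [Finset.sum_apply]
  · simp

theorem ev_period (hd : Dih h P s) (f : P → ℂ) : ev s f (2 * h) = ev s f 0 := by
  rw [ev_eq hd, ev_eq hd]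
  exact congrArg f (Subtype.ext (by simp [pow_two_h hd]))

theorem ev_symm (hd : Dih h P s) {f : P → ℂ} (hf : IsClassFunction P f) {a : ℕ} (ha : a ≤ 2 * h) :
    ev s f (2 * h - a) = ev s f a := by
  obtain ⟨u, hu, hur⟩ := hd.exists_refl
  rw [ev_eq hd, ev_eq hd, ← hf ⟨s ^ a, pow_mem hd.mem a⟩ ⟨u, hu⟩]
  refine congrArg f (Subtype.ext ?_)
  simp only [Subgroup.coe_mul, Subgroup.coe_inv]
  rw [pow_sub hd ha, ← conj_pow, (hd.refl u hu hur).2, inv_pow]

theorem sum_flip {A : Type*} [AddCommMonoid A] {m : ℕ} (F : ℕ → A) (h0 : F m = F 0) :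
    ∑ a ∈ Finset.range m, F (m - a) = ∑ a ∈ Finset.range m, F a := by
  rcases m with _ | m
  · simp
  rw [Finset.sum_range_succ' F, ← Finset.sum_range_reflect (fun a => F (a + 1)),
    Finset.sum_range_succ' (fun a => F (m + 1 - a))]
  simp only [Nat.sub_zero, h0]
  congr 1
  refine Finset.sum_congr rfl fun a ha => congrArg F ?_
  rw [Finset.mem_range] at ha
  omega

/-- The function with values `φ` on the rotations and zero elsewhere. -/
noncomputable def rotFun (P : Subgroup H) (s : H) (m : ℕ) (φ : ℕ → ℂ) : P → ℂ :=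
  fun x => ∑ a ∈ Finset.range m, if (x : H) = s ^ a then φ a else 0

theorem ev_rotFun (hd : Dih h P s) (φ : ℕ → ℂ) {a : ℕ} (ha : a < 2 * h) :
    ev s (rotFun P s (2 * h) φ) a = φ a := by
  rw [ev_eq hd, rotFun, Finset.sum_eq_single a]
  · rw [if_pos rfl]
  · intro b hb hne
    exact if_neg fun e => hne (pow_inj hd (Finset.mem_range.1 hb) ha e.symm)
  · exact fun hn => absurd (Finset.mem_range.2 ha) hn

theorem rotFun_ne_zero {φ : ℕ → ℂ} {m : ℕ} {x : P} (hx : rotFun P s m φ x ≠ 0) :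
    ∃ a < m, (x : H) = s ^ a ∧ φ a ≠ 0 := by
  obtain ⟨a, ha, hne⟩ := Finset.exists_ne_zero_of_sum_ne_zero hx
  refine ⟨a, Finset.mem_range.1 ha, ?_⟩
  by_cases e : (x : H) = s ^ a
  · exact ⟨e, by rwa [if_pos e] at hne⟩
  · exact absurd (if_neg e) hne

theorem J_mem_of_rotFun_ne_zero (hd : Dih h P s) {φ : ℕ → ℂ} (h0 : φ 0 = 0) {x : P}
    (hx : rotFun P s (2 * h) φ x ≠ 0) : s ^ h ∈ Subgroup.zpowers (x : H) := by
  obtain ⟨a, ha, e, hne⟩ := rotFun_ne_zero hx
  rw [e]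
  exact J_mem_zpowers hd (Nat.pos_of_ne_zero fun e' => hne (e' ▸ h0)) ha

theorem rotFun_classFun (hd : Dih h P s) {φ : ℕ → ℂ} (hper : φ (2 * h) = φ 0)
    (hsymm : ∀ a ≤ 2 * h, φ (2 * h - a) = φ a) :
    IsClassFunction P (rotFun P s (2 * h) φ) := by
  intro x k
  simp only [rotFun, Subgroup.coe_mul, Subgroup.coe_inv]
  by_cases hk : (k : H) ∈ Subgroup.zpowers s
  · refine Finset.sum_congr rfl fun a _ => if_congr ?_ rfl rfl
    obtain ⟨z, hz⟩ := hk
    have hc : Commute (k : H) (s ^ a) := hz ▸ ((Commute.refl s).zpow_left z).pow_right a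
    constructor
    · intro e
      have : (k : H) * (x : H) = k * s ^ a := by rw [hc.eq, ← e, inv_mul_cancel_right]
      exact mul_left_cancel this
    · intro e
      rw [e, hc.eq, mul_inv_cancel_right]
  · rw [← sum_flip (fun a => if (k : H) * (x : H) * (k : H)⁻¹ = s ^ a then φ a else 0)]
    · refine Finset.sum_congr rfl fun a ha => ?_
      have ha' := (Finset.mem_range.1 ha).le
      rw [hsymm a ha', pow_sub hd ha']
      refine if_congr ?_ rfl rfl
      have hc : (k : H) * s ^ a * (k : H)⁻¹ = (s ^ a)⁻¹ := by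
        rw [← conj_pow, (hd.refl _ k.2 hk).2, inv_pow]
      rw [← hc]
      exact ⟨fun e => mul_left_cancel (mul_right_cancel e), fun e => by rw [e]⟩
    · simp [pow_two_h hd, hper]

theorem inner_rotFun (hd : Dih h P s) (f : P → ℂ) (φ : ℕ → ℂ) :
    classInner f (rotFun P s (2 * h) φ) =
      ((4 * h : ℕ) : ℂ)⁻¹ * ∑ a ∈ Finset.range (2 * h), ev s f a * conj (φ a) := by
  rw [classInner, hd.card]
  congr 1
  simp only [rotFun, map_sum, Finset.mul_sum]
  rw [Finset.sum_comm]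
  refine Finset.sum_congr rfl fun a _ => ?_
  rw [ev_eq hd, Finset.sum_eq_single (⟨s ^ a, pow_mem hd.mem a⟩ : P)]
  · rw [if_pos rfl]
  · intro x _ hne
    rw [if_neg fun e => hne (Subtype.ext e), map_zero, mul_zero]
  · exact fun hn => absurd (Finset.mem_univ _) hn

/-- The basic function `j` on the rotations. -/
noncomputable def tau (ζ : ℂ) (j a : ℕ) : ℂ := ζ ^ (j * a) + (ζ ^ (j * a))⁻¹ - 2

theorem tau_zero (j : ℕ) : tau ζ j 0 = 0 := by simp [tau]; norm_num

theorem conj_root (hζ : IsPrimitiveRoot ζ (2 * h)) (hh : 0 < h) (x : ℕ) :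
    conj (ζ ^ x) = (ζ ^ x)⁻¹ := by
  have h1 : (ζ ^ x) ^ (2 * h) = 1 := by rw [← pow_mul, mul_comm, pow_mul, hζ.pow_eq_one, one_pow]
  rw [Complex.inv_eq_conj (Complex.norm_eq_one_of_pow_eq_one h1 (by omega))]

theorem tau_real (hζ : IsPrimitiveRoot ζ (2 * h)) (hh : 0 < h) (j a : ℕ) :
    conj (tau ζ j a) = tau ζ j a := by
  simp only [tau, map_sub, map_add, map_inv₀, conj_root hζ hh, inv_inv, map_ofNat]
  ring

theorem tau_period (hζ : IsPrimitiveRoot ζ (2 * h)) (j : ℕ) : tau ζ j (2 * h) = tau ζ j 0 := by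
  simp [tau, mul_comm j, pow_mul, hζ.pow_eq_one]

theorem tau_symm (hζ : IsPrimitiveRoot ζ (2 * h)) (j : ℕ) {a : ℕ} (ha : a ≤ 2 * h) :
    tau ζ j (2 * h - a) = tau ζ j a := by
  have e : ζ ^ (j * (2 * h - a)) = (ζ ^ (j * a))⁻¹ := by
    refine eq_inv_of_mul_eq_one_left ?_
    rw [← pow_add, ← mul_add, Nat.sub_add_cancel ha, mul_comm, pow_mul, hζ.pow_eq_one, one_pow]
  simp only [tau, e, inv_inv]
  ring

theorem tau_reflect (hζ : IsPrimitiveRoot ζ (2 * h)) {j : ℕ} (hj : j ≤ 2 * h) (a : ℕ) :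
    tau ζ (2 * h - j) a = tau ζ j a := by
  have e : ζ ^ ((2 * h - j) * a) = (ζ ^ (j * a))⁻¹ := by
    refine eq_inv_of_mul_eq_one_left ?_
    rw [← pow_add, ← add_mul, Nat.sub_add_cancel hj, pow_mul, hζ.pow_eq_one, one_pow]
  simp only [tau, e, inv_inv]
  ring

/-- The basic class function. -/
noncomputable def eta (P : Subgroup H) (s : H) (ζ : ℂ) (h j : ℕ) : P → ℂ :=
  rotFun P s (2 * h) (tau ζ j)

theorem eta_classFun (hd : Dih h P s) (hζ : IsPrimitiveRoot ζ (2 * h)) (j : ℕ) :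
    IsClassFunction P (eta P s ζ h j) :=
  rotFun_classFun hd (tau_period hζ j) fun _ ha => tau_symm hζ j ha

theorem eta_reflect (hζ : IsPrimitiveRoot ζ (2 * h)) {j : ℕ} (hj : j ≤ 2 * h) :
    eta P s ζ h (2 * h - j) = eta P s ζ h j := by
  unfold eta
  congr 1
  funext a
  exact tau_reflect hζ hj a

theorem inner_eta (hd : Dih h P s) (hζ : IsPrimitiveRoot ζ (2 * h)) (f : P → ℂ) (j : ℕ) :
    classInner f (eta P s ζ h j) =
      ((4 * h : ℕ) : ℂ)⁻¹ * ∑ a ∈ Finset.range (2 * h), ev s f a * tau ζ j a := by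
  rw [eta, inner_rotFun hd]
  simp only [tau_real hζ (by have := hd.two_le; omega)]

theorem geom {m : ℕ} {w : ℂ} (hw : w ^ m = 1) :
    ∑ a ∈ Finset.range m, w ^ a = if w = 1 then (m : ℂ) else 0 := by
  split_ifs with hw1
  · simp [hw1]
  · rw [geom_sum_eq hw1, hw, sub_self, zero_div]

theorem sum_root (hζ : IsPrimitiveRoot ζ (2 * h)) (k : ℕ) :
    ∑ a ∈ Finset.range (2 * h), ζ ^ (k * a) = if 2 * h ∣ k then ((2 * h : ℕ) : ℂ) else 0 := by
  simp only [pow_mul]
  rw [geom (by rw [← pow_mul, mul_comm, pow_mul, hζ.pow_eq_one, one_pow])]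
  exact if_congr (hζ.pow_eq_one_iff_dvd k) rfl rfl

theorem sum_root_div (hζ : IsPrimitiveRoot ζ (2 * h)) {i j : ℕ} (hi : i < 2 * h) (hj : j < 2 * h) :
    ∑ a ∈ Finset.range (2 * h), ζ ^ (i * a) * (ζ ^ (j * a))⁻¹ =
      if i = j then ((2 * h : ℕ) : ℂ) else 0 := by
  have hne : ζ ≠ 0 := hζ.ne_zero (by omega)
  simp only [pow_mul, ← inv_pow, ← mul_pow]
  have h1 : ∀ k : ℕ, (ζ ^ k) ^ (2 * h) = 1 := fun k => by
    rw [← pow_mul, mul_comm, pow_mul, hζ.pow_eq_one, one_pow]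
  rw [geom]
  · refine if_congr ?_ rfl rfl
    rw [inv_pow, mul_inv_eq_one₀ (pow_ne_zero _ hne)]
    exact ⟨hζ.pow_inj hi hj, fun e => by rw [e]⟩
  · rw [mul_pow, inv_pow, inv_pow, h1, h1, inv_one, mul_one]

theorem sum_root_inv (hζ : IsPrimitiveRoot ζ (2 * h)) (hh : 0 < h) (k : ℕ) :
    ∑ a ∈ Finset.range (2 * h), (ζ ^ (k * a))⁻¹ = if 2 * h ∣ k then ((2 * h : ℕ) : ℂ) else 0 := by
  simp only [← conj_root hζ hh, ← map_sum, sum_root hζ k]
  split_ifs
  · exact map_natCast _ _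
  · exact map_zero _

theorem gram_eta (hd : Dih h P s) (hζ : IsPrimitiveRoot ζ (2 * h)) {i j : ℕ} (i0 : 0 < i)
    (i1 : i ≤ h) (j0 : 0 < j) (j1 : j ≤ h) :
    classInner (eta P s ζ h i) (eta P s ζ h j) =
      if i = j then (if i = h then 4 else 3) else 2 := by
  have hh : 0 < h := by omega
  rw [inner_eta hd hζ, Finset.sum_congr rfl (g := fun a => tau ζ i a * tau ζ j a)
    fun a ha => by rw [eta, ev_rotFun hd _ (Finset.mem_range.1 ha)]]
  have e : ∀ a : ℕ, tau ζ i a * tau ζ j a =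
      ζ ^ ((i + j) * a) + (ζ ^ ((i + j) * a))⁻¹ + ζ ^ (i * a) * (ζ ^ (j * a))⁻¹ +
        ζ ^ (j * a) * (ζ ^ (i * a))⁻¹ - 2 * ζ ^ (i * a) - 2 * (ζ ^ (i * a))⁻¹ - 2 * ζ ^ (j * a) -
        2 * (ζ ^ (j * a))⁻¹ + 4 := by
    intro a
    rw [add_mul, pow_add, mul_inv]
    simp only [tau]
    ring
  simp only [e, Finset.sum_add_distrib, Finset.sum_sub_distrib, ← Finset.mul_sum,
    sum_root hζ, sum_root_inv hζ hh, sum_root_div hζ (show i < 2 * h by omega) (show j < 2 * h by omega),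
    sum_root_div hζ (show j < 2 * h by omega) (show i < 2 * h by omega), Finset.sum_const,
    Finset.card_range, nsmul_eq_mul]
  have n1 : ¬ 2 * h ∣ i := Nat.not_dvd_of_pos_of_lt i0 (by omega)
  have n2 : ¬ 2 * h ∣ j := Nat.not_dvd_of_pos_of_lt j0 (by omega)
  have hne : (h : ℂ) ≠ 0 := Nat.cast_ne_zero.2 hh.ne'
  simp only [n1, n2, if_false]
  by_cases hij : i = j
  · subst hij
    simp only [if_true]
    by_cases hih : i = h
    · subst hih
      rw [if_pos (show 2 * i ∣ i + i from ⟨1, by ring⟩), if_pos rfl]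
      push_cast; field_simp; ring
    · rw [if_neg (show ¬ 2 * h ∣ i + i from Nat.not_dvd_of_pos_of_lt (by omega) (by omega)),
        if_neg hih]
      push_cast; field_simp; ring
  · rw [if_neg (show ¬ 2 * h ∣ i + j from Nat.not_dvd_of_pos_of_lt (by omega) (by omega)),
      if_neg hij, if_neg (Ne.symm hij), if_neg hij]
    push_cast; field_simp; ring

/-- Values on the rotations from the coefficients. -/
theorem inversion (hd : Dih h P s) (hζ : IsPrimitiveRoot ζ (2 * h)) {f : P → ℂ}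
    (hf : IsClassFunction P f) {k : ℕ} (k0 : 0 < k) (k1 : k < 2 * h) :
    ∑ j ∈ Finset.range (2 * h), ζ ^ (j * k) * classInner f (eta P s ζ h j) = ev s f k := by
  have hh : 0 < h := by omega
  simp only [inner_eta hd hζ, Finset.mul_sum]
  rw [Finset.sum_comm]
  have key : ∀ a ∈ Finset.range (2 * h), ∑ j ∈ Finset.range (2 * h),
      ζ ^ (j * k) * (((4 * h : ℕ) : ℂ)⁻¹ * (ev s f a * tau ζ j a)) =
      ((4 * h : ℕ) : ℂ)⁻¹ * ev s f a *
        ((if a = 2 * h - k then ((2 * h : ℕ) : ℂ) else 0) +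
          (if a = k then ((2 * h : ℕ) : ℂ) else 0)) := by
    intro a ha
    rw [Finset.mem_range] at ha
    have e : ∀ j : ℕ, ζ ^ (j * k) * (((4 * h : ℕ) : ℂ)⁻¹ * (ev s f a * tau ζ j a)) =
        ((4 * h : ℕ) : ℂ)⁻¹ * ev s f a *
          (ζ ^ ((k + a) * j) + ζ ^ (k * j) * (ζ ^ (a * j))⁻¹ - 2 * ζ ^ (k * j)) := by
      intro j
      rw [add_mul, pow_add]
      simp only [tau, mul_comm j]
      ring
    simp only [e, ← Finset.mul_sum, Finset.sum_add_distrib, Finset.sum_sub_distrib, sum_root hζ,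
      sum_root_div hζ k1 ha, if_neg (Nat.not_dvd_of_pos_of_lt k0 k1), mul_zero, sub_zero]
    congr 2
    · refine if_congr ⟨fun ⟨q, hq⟩ => ?_, fun e' => ⟨1, by omega⟩⟩ rfl rfl
      rcases q with _ | _ | q
      · omega
      · omega
      · nlinarith
    · exact if_congr eq_comm rfl rfl
  rw [Finset.sum_congr rfl key]
  simp only [mul_add, Finset.sum_add_distrib, mul_ite, mul_zero, Finset.sum_ite_eq']
  rw [if_pos (Finset.mem_range.2 (by omega)), if_pos (Finset.mem_range.2 k1), ev_symm hd hf k1.le]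
  have hne : (h : ℂ) ≠ 0 := Nat.cast_ne_zero.2 hh.ne'
  push_cast; field_simp; ring

/-- Eigenvalues of the rotation in a character. -/
theorem exists_eigen (hd : Dih h P s) (ψ : IrrCharacter P) :
    ∃ (d : ℕ) (μ : Fin d → ℂ), (∀ i, μ i ^ (2 * h) = 1) ∧ (∀ i, ‖μ i‖ = 1) ∧
      (ψ : P → ℂ) 1 = d ∧ ∀ a, ev s (ψ : P → ℂ) a = ∑ i, μ i ^ a := by
  obtain ⟨d, ρ, -, hρ⟩ := ψ.2
  obtain ⟨b, μ, -, hord, hnorm, hpow⟩ := CharBasic.exists_rep_eigenbasis ρ (⟨s, hd.mem⟩ : P)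
  rw [Subgroup.orderOf_mk, hd.order] at hord
  refine ⟨_, μ, hord, hnorm, ?_, fun a => ?_⟩
  · rw [← hρ]
    have := hpow 0
    simpa using this
  · rw [ev_eq hd, ← hρ, ← hpow a]
    rfl

/-- The coefficients of a character are integers. -/
theorem inner_eta_int (hd : Dih h P s) (hζ : IsPrimitiveRoot ζ (2 * h)) (ψ : IrrCharacter P)
    {j : ℕ} (hj : j < 2 * h) : ∃ z : ℤ, classInner (ψ : P → ℂ) (eta P s ζ h j) = z := by
  obtain ⟨d, μ, hord, -, -, hev⟩ := exists_eigen hd ψ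
  have hh : 0 < h := by omega
  have hne : ζ ≠ 0 := hζ.ne_zero (by omega)
  have key : ∀ k : ℕ, ∃ z : ℤ, ∑ a ∈ Finset.range (2 * h), ev s (ψ : P → ℂ) a * ζ ^ (k * a) =
      ((2 * h : ℕ) : ℂ) * z := by
    intro k
    refine ⟨((Finset.univ.filter fun i => μ i * ζ ^ k = 1).card : ℤ), ?_⟩
    simp only [hev, Finset.sum_mul]
    rw [Finset.sum_comm, Int.cast_natCast, mul_comm ((2 * h : ℕ) : ℂ), ← nsmul_eq_mul,
      ← Finset.sum_const, Finset.sum_filter]
    refine Finset.sum_congr rfl fun i _ => ?_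
    simp only [pow_mul, ← mul_pow]
    exact geom (by rw [mul_pow, hord, one_mul, ← pow_mul, mul_comm, pow_mul, hζ.pow_eq_one, one_pow])
  have hsym : ∑ a ∈ Finset.range (2 * h), ev s (ψ : P → ℂ) a * (ζ ^ (j * a))⁻¹ =
      ∑ a ∈ Finset.range (2 * h), ev s (ψ : P → ℂ) a * ζ ^ (j * a) := by
    conv_rhs => rw [← sum_flip (fun a => ev s (ψ : P → ℂ) a * ζ ^ (j * a))
      (by simp [ev_period hd, mul_comm j, pow_mul, hζ.pow_eq_one])]
    refine Finset.sum_congr rfl fun a ha => ?_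
    rw [ev_symm hd (BlockTheoryCentre.irr_classFun ψ) (Finset.mem_range.1 ha).le]
    congr 1
    refine (eq_inv_of_mul_eq_one_left ?_).symm
    rw [← pow_add, ← mul_add, Nat.sub_add_cancel (Finset.mem_range.1 ha).le, mul_comm, pow_mul,
      hζ.pow_eq_one, one_pow]
  obtain ⟨z, hz⟩ := key j
  obtain ⟨z0, hz0⟩ := key 0
  simp only [zero_mul, pow_zero, mul_one] at hz0
  refine ⟨z - z0, ?_⟩
  rw [inner_eta hd hζ]
  simp only [tau, mul_add, mul_sub, Finset.sum_add_distrib, Finset.sum_sub_distrib, hsym, hz,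
    ← Finset.sum_mul, hz0]
  have : (h : ℂ) ≠ 0 := Nat.cast_ne_zero.2 hh.ne'
  push_cast; field_simp; ring

/-- An irreducible character is linear, trivial on squares, or vanishes outside the rotations. -/
theorem irr_cases (hd : Dih h P s) (ψ : IrrCharacter P) :
    (∀ a, Even a → ev s (ψ : P → ℂ) a = 1) ∨
      ∀ x : P, (x : H) ∉ Subgroup.zpowers s → (ψ : P → ℂ) x = 0 := by
  obtain ⟨d, μ, hord, hnorm, hone, hev⟩ := exists_eigen hd ψ
  have hh : 2 ≤ h := hd.two_le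
  obtain ⟨n, hn, hn1⟩ := CharBasic.isIrrCharacter_apply_one ψ.2
  have hdn : d = n := Nat.cast_injective (R := ℂ) (hone ▸ hn1)
  by_cases hd2 : 2 ≤ d
  · right
    -- the norm on the rotations
    have hrot : ((2 * h * d : ℕ) : ℝ) ≤
        ∑ a ∈ Finset.range (2 * h), ‖ev s (ψ : P → ℂ) a‖ ^ 2 := by
      have e : ∀ a, ((‖ev s (ψ : P → ℂ) a‖ ^ 2 : ℝ) : ℂ) =
          ∑ i : Fin d, ∑ k : Fin d, (μ i * conj (μ k)) ^ a := by
        intro a
        rw [Complex.ofReal_pow, ← Complex.mul_conj', hev, map_sum, Finset.sum_mul_sum]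
        simp only [map_pow, mul_pow]
      have h1 : ((∑ a ∈ Finset.range (2 * h), ‖ev s (ψ : P → ℂ) a‖ ^ 2 : ℝ) : ℂ) =
          (((2 * h) * ((Finset.univ : Finset (Fin d × Fin d)).filter
            fun ik => μ ik.1 * conj (μ ik.2) = 1).card : ℕ) : ℂ) := by
        rw [Complex.ofReal_sum]
        simp only [e, ← Fintype.sum_prod_type']
        rw [Finset.sum_comm, Nat.cast_mul, mul_comm ((2 * h : ℕ) : ℂ), ← nsmul_eq_mul,
          ← Finset.sum_const, Finset.sum_filter]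
        refine Finset.sum_congr rfl fun ik _ => ?_
        exact geom (by rw [mul_pow, ← map_pow, hord, hord, map_one, one_mul])
      have h2 : d ≤ ((Finset.univ : Finset (Fin d × Fin d)).filter
          fun ik => μ ik.1 * conj (μ ik.2) = 1).card := by
        calc d = ((Finset.univ : Finset (Fin d)).image fun i => (i, i)).card := by
              rw [Finset.card_image_of_injective _ fun a b e => (Prod.mk.injEq _ _ _ _ ▸ e).1]
              simp
          _ ≤ _ := Finset.card_le_card fun x hx => by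
              obtain ⟨i, -, rfl⟩ := Finset.mem_image.1 hx
              simp [Complex.mul_conj', hnorm i]
      have h3 : (∑ a ∈ Finset.range (2 * h), ‖ev s (ψ : P → ℂ) a‖ ^ 2 : ℝ) =
          (((2 * h) * ((Finset.univ : Finset (Fin d × Fin d)).filter
            fun ik => μ ik.1 * conj (μ ik.2) = 1).card : ℕ) : ℝ) := by
        exact_mod_cast h1
      rw [h3]
      exact_mod_cast Nat.mul_le_mul_left _ h2
    -- the total
    have htot : ∑ x : P, ‖(ψ : P → ℂ) x‖ ^ 2 = ((4 * h : ℕ) : ℝ) := by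
      have h1 := CharBasicOrth.classInner_irr_self ψ.2
      rw [classInner, hd.card, inv_mul_eq_iff_eq_mul₀ (Nat.cast_ne_zero.2 (by omega)), mul_one] at h1
      simp only [Complex.mul_conj'] at h1
      exact_mod_cast h1
    set R := (Finset.range (2 * h)).image fun a => (⟨s ^ a, pow_mem hd.mem a⟩ : P) with hR
    have hRsum : ∑ x ∈ R, ‖(ψ : P → ℂ) x‖ ^ 2 =
        ∑ a ∈ Finset.range (2 * h), ‖ev s (ψ : P → ℂ) a‖ ^ 2 := by
      rw [hR, Finset.sum_image fun a ha b hb e =>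
        pow_inj hd (Finset.mem_range.1 ha) (Finset.mem_range.1 hb) (congrArg Subtype.val e)]
      exact Finset.sum_congr rfl fun a _ => by rw [ev_eq hd]
    intro x hx
    have hxR : x ∉ R := fun hm => by
      obtain ⟨a, -, rfl⟩ := Finset.mem_image.1 hm
      exact hx (Subgroup.npow_mem_zpowers s a)
    have h4 : ∑ y ∈ insert x R, ‖(ψ : P → ℂ) y‖ ^ 2 ≤ ∑ y : P, ‖(ψ : P → ℂ) y‖ ^ 2 :=
      Finset.sum_le_univ_sum_of_nonneg fun y => sq_nonneg _
    rw [Finset.sum_insert hxR, hRsum, htot] at h4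
    have h5 : ((4 * h : ℕ) : ℝ) ≤ ((2 * h * d : ℕ) : ℝ) :=
      Nat.cast_le.2 (by nlinarith)
    have h6 : ‖(ψ : P → ℂ) x‖ ^ 2 ≤ 0 := by linarith
    exact norm_eq_zero.1 (by nlinarith [norm_nonneg ((ψ : P → ℂ) x)])
  · left
    have hd1 : d = 1 := by omega
    subst hd1
    have hμ : μ 0 ^ 2 = 1 := by
      have h1 := ev_symm hd (BlockTheoryCentre.irr_classFun ψ) (show (1 : ℕ) ≤ 2 * h by omega)
      rw [hev, hev, Fin.sum_univ_one, Fin.sum_univ_one, pow_one] at h1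
      calc μ 0 ^ 2 = μ 0 ^ (2 * h - 1) * μ 0 := by rw [h1, pow_two]
        _ = 1 := by rw [← pow_succ, Nat.sub_add_cancel (by omega), hord]
    rintro a ⟨b, rfl⟩
    rw [hev, Fin.sum_univ_one, ← two_mul, pow_mul, hμ, one_pow]

end Cfsg.Agent.DihedralDefectGroup79
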