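import Mathlib
import Cfsg.Agent.Lib.CharBasicCyclic
import Cfsg.Agent.Lib.CharBasicInt
import Cfsg.Agent.Lib.CharBasicDecomp

/-!
A generalized character with positive values and mean one is constant one.
-/

set_option autoImplicit false

namespace Cfsg.Agent.Star80Mean

open Cfsg Cfsg.Agent.CharBasic Cfsg.Agent.CharBasicOrth Cfsg.Agent.CharBasicDecomp
open Cfsg.Agent.CharBasicCyclic
open scoped ComplexConjugate

theorem gen_conj {G : Type*} [Group G] [Finite G] {θ : G → ℂ}
    (h : Cfsg.IsGeneralizedCharacter G θ) :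
    Cfsg.IsGeneralizedCharacter G fun g => conj (θ g) := by
  obtain ⟨a, b, ha, hb, rfl⟩ := h
  refine ⟨_, _, isCharacter_conj ha, isCharacter_conj hb, ?_⟩
  funext g
  simp

theorem gen_integral {G : Type*} [Group G] [Finite G] {θ : G → ℂ}
    (h : Cfsg.IsGeneralizedCharacter G θ) (g : G) : IsIntegral ℤ (θ g) := by
  obtain ⟨a, b, ha, hb, rfl⟩ := h
  exact (isCharacter_integral ha g).sub (isCharacter_integral hb g)

theorem prod_gens_norm_sq_ge_one {G : Type*} [Group G] [Fintype G] (g : G) {χ : G → ℂ}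
    (hχ : Cfsg.IsGeneralizedCharacter G χ) (hne : ∀ x ∈ gens (Subgroup.zpowers g), χ x ≠ 0) :
    (1 : ℝ) ≤ ∏ a ∈ gens (Subgroup.zpowers g), ‖χ a‖ ^ 2 := by
  classical
  set A := Subgroup.zpowers g with hA
  have hcomm : ∀ a b : A, a * b = b * a := fun a b => Std.Commutative.comm a b
  let M := (Finset.range (orderOf g)).filter fun m => m.Coprime (orderOf g)
  have hM : gens A = M.image (fun m => g ^ m) := by
    ext a
    rw [gens_eq_image, Finset.mem_image]
    constructor
    · rintro ⟨m, hm, rfl⟩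
      refine ⟨m % orderOf g, ?_, pow_mod_orderOf g m⟩
      simp only [M, Finset.mem_filter, Finset.mem_range]
      exact ⟨Nat.mod_lt _ (isOfFinOrder_of_finite g).orderOf_pos,
        (Nat.ModEq.gcd_eq (Nat.mod_modEq m _)).trans hm⟩
    · rintro ⟨m, hm, rfl⟩
      exact ⟨m, (Finset.mem_filter.1 hm).2, rfl⟩
  have hinjM : Set.InjOn (fun m => g ^ m) M := by
    intro i hi j hj h
    rw [Finset.mem_coe, Finset.mem_filter, Finset.mem_range] at hi hj
    exact pow_injOn_Iio_orderOf hi.1 hj.1 h
  let θ : A → ℂ := ∏ m ∈ M, fun a : A => χ ((a : G) ^ m) * conj (χ ((a : G) ^ m))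
  have hθ : Cfsg.IsGeneralizedCharacter A θ := by
    refine Finset.prod_induction _ (Cfsg.IsGeneralizedCharacter A)
      (fun _ _ h h' => isGeneralizedCharacter_mul h h')
      (isGeneralizedCharacter_of_isCharacter isCharacter_one) fun m _ => ?_
    let f : A →* G := A.subtype.comp
      { toFun := fun a => a ^ m, map_one' := one_pow m,
        map_mul' := fun a b => (show Commute a b from hcomm a b).mul_pow m }
    exact isGeneralizedCharacter_comap f (isGeneralizedCharacter_mul hχ (gen_conj hχ))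
  have hval : ∀ a (ha : a ∈ gens A), ∀ (haA : a ∈ A),
      θ ⟨a, haA⟩ = ((∏ x ∈ gens A, ‖χ x‖ ^ 2 : ℝ) : ℂ) := by
    intro a ha haA
    simp only [θ, Finset.prod_apply, Complex.ofReal_prod]
    have haeq : gens A = M.image (fun m => a ^ m) := by
      rw [hM]
      obtain ⟨j, hj, rfl⟩ := (gens_eq_image g a).1 ha
      refine (Finset.eq_of_subset_of_card_le ?_ ?_).symm
      · intro x hx
        obtain ⟨m, hm, rfl⟩ := Finset.mem_image.1 hx
        rw [← hM, gens_eq_image]
        exact ⟨j * m, Nat.Coprime.mul_left hj (Finset.mem_filter.1 hm).2, pow_mul g j m⟩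
      · rw [Finset.card_image_of_injOn hinjM, Finset.card_image_of_injOn]
        intro i hi k hk h
        rw [Finset.mem_coe, Finset.mem_filter, Finset.mem_range] at hi hk
        have hord : orderOf (g ^ j) = orderOf g := Nat.Coprime.orderOf_pow hj.symm
        exact pow_injOn_Iio_orderOf (x := g ^ j) (by simpa [hord] using hi.1)
          (by simpa [hord] using hk.1) h
    have hinja : Set.InjOn (fun m => a ^ m) M := by
      rw [← Finset.card_image_iff, ← haeq, hM, Finset.card_image_of_injOn hinjM]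
    rw [haeq, Finset.prod_image hinja]
    refine Finset.prod_congr rfl fun m _ => ?_
    rw [Complex.mul_conj', Complex.ofReal_pow]
  obtain ⟨z, hz⟩ := exists_int_sum_gens_char A (Subgroup.isCyclic_zpowers g) θ
    hθ (fun x => if h : x ∈ A then θ ⟨x, h⟩ else 0)
    (fun a => dif_pos a.2)
  have hmem : ∀ a ∈ gens A, a ∈ A := fun a ha => mem_gens.1 ha ▸ Subgroup.mem_zpowers a
  rw [Finset.sum_congr rfl fun a ha => by rw [dif_pos (hmem a ha), hval a ha (hmem a ha)],
    Finset.sum_const, nsmul_eq_mul] at hz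
  set P : ℝ := ∏ x ∈ gens A, ‖χ x‖ ^ 2 with hP
  have hpos : 0 < P := Finset.prod_pos fun x hx => pow_pos (norm_pos_iff.2 (hne x hx)) 2
  have hcard : 0 < (gens A).card := Finset.card_pos.2 ⟨g, mem_gens.2 rfl⟩
  have hint : IsIntegral ℤ (P : ℂ) := by
    have hgA : g ∈ A := Subgroup.mem_zpowers g
    rw [← hval g (mem_gens.2 rfl) hgA]
    exact gen_integral hθ _
  have hPq : (P : ℂ) = algebraMap ℚ ℂ ((z : ℚ) / (gens A).card) := by
    rw [map_div₀, eq_div_iff (by simpa using hcard.ne')]
    simpa [mul_comm] using hz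
  rw [hPq, isIntegral_algebraMap_iff (algebraMap ℚ ℂ).injective] at hint
  obtain ⟨w, hw⟩ := IsIntegrallyClosed.isIntegral_iff.1 hint
  rw [← hw] at hPq
  have hPw : P = (w : ℝ) := by
    apply Complex.ofReal_injective
    rw [hPq]; simp
  rw [hPw] at hpos ⊢
  exact_mod_cast (show (0 : ℤ) < w from by exact_mod_cast hpos)

/-- Positive values with sum equal to the order force the value one. -/
theorem eq_one_of_sum {G : Type*} [Group G] [Fintype G] {w : G → ℂ}
    (hw : Cfsg.IsGeneralizedCharacter G w) {r : G → ℝ} (hr : ∀ x, w x = (r x : ℂ))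
    (hpos : ∀ x, 0 < r x) (hsum : ∑ x, r x = (Fintype.card G : ℝ)) (x : G) : w x = 1 := by
  classical
  have hne : ∀ x, w x ≠ 0 := fun x => by
    rw [hr]; exact Complex.ofReal_ne_zero.2 (hpos x).ne'
  have hfib : ∀ A : Subgroup G, 0 ≤ ∑ a ∈ gens A, Real.log (r a) := by
    intro A
    rcases (gens A).eq_empty_or_nonempty with h | ⟨g, hg⟩
    · simp [h]
    · rw [← mem_gens.1 hg]
      have h1 := prod_gens_norm_sq_ge_one g hw fun x _ => hne x
      rw [← Real.log_prod (fun a _ => (hpos a).ne')]
      refine Real.log_nonneg ?_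
      have h2 : ∏ a ∈ gens (Subgroup.zpowers g), ‖w a‖ ^ 2 =
          (∏ a ∈ gens (Subgroup.zpowers g), r a) ^ 2 := by
        rw [← Finset.prod_pow]
        refine Finset.prod_congr rfl fun a _ => ?_
        rw [hr, Complex.norm_real, Real.norm_eq_abs, sq_abs]
      rw [h2] at h1
      have h3 : 0 < ∏ a ∈ gens (Subgroup.zpowers g), r a := Finset.prod_pos fun a _ => hpos a
      nlinarith
  have hlog : 0 ≤ ∑ a, Real.log (r a) := by
    rw [← Finset.sum_fiberwise_of_maps_to (fun a _ => Finset.mem_univ (Subgroup.zpowers a))]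
    exact Finset.sum_nonneg fun A _ => hfib A
  have hterm : ∀ a, 0 ≤ r a - 1 - Real.log (r a) := fun a => by
    linarith [Real.log_le_sub_one_of_pos (hpos a)]
  have hzero : ∑ a, (r a - 1 - Real.log (r a)) = 0 := by
    refine le_antisymm ?_ (Finset.sum_nonneg fun a _ => hterm a)
    rw [Finset.sum_sub_distrib, Finset.sum_sub_distrib, hsum, Finset.sum_const, Finset.card_univ,
      nsmul_eq_mul, mul_one]
    linarith
  have hx := (Finset.sum_eq_zero_iff_of_nonneg fun a _ => hterm a).1 hzero x (Finset.mem_univ x)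
  rcases eq_or_ne (r x) 1 with h | h
  · rw [hr, h, Complex.ofReal_one]
  · linarith [Real.log_lt_sub_one_of_pos (hpos x) h]

end Cfsg.Agent.Star80Mean
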