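import Mathlib
import Cfsg.Agent.Lib.Star80Twist
import Cfsg.Agent.Lib.Star80Mean
import Cfsg.Agent.Lib.BrauerPairs81Nilpotent
import Cfsg.Agent.Lib.BlockTheoryDefect

/-!
Nilpotent blocks: the star construction is an isometry from the class functions of the defect
group, so the characters of the block are the stars of the irreducible characters of the group.
-/

set_option autoImplicit false
set_option linter.unusedSectionVars false

namespace Cfsg.Agent.Star80Nilpotent

open Cfsg Cfsg.Agent.BlockTheoryLocalRing Cfsg.Agent.BlockTheoryCentre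
open Cfsg.Agent.BlockTheoryIdem Cfsg.Agent.BlockTheoryBrauer
open Cfsg.Agent.BrauerPairs81Base Cfsg.Agent.BrauerPairs81Pairs Cfsg.Agent.BrauerPairs81Conj
open Cfsg.Agent.BrauerPairs81Local Cfsg.Agent.BrauerPairs81Fusion Cfsg.Agent.BrauerPairs81Max
open Cfsg.Agent.Star80Spec Cfsg.Agent.Star80Pairs Cfsg.Agent.Star80Char Cfsg.Agent.Star80Inner
open Cfsg.Agent.BlockContribSection Cfsg.Agent.ClassAlgebraVal
open CharBasic CharBasicDecomp CharInduced
open scoped ComplexConjugate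

attribute [local instance] Classical.propDecidable

variable {p : ℕ} [Fact p.Prime] {M : Ideal AlgInt} {G : Type*} [Group G] [Fintype G]
variable {B : Set (IrrCharacter G)} {P : Subgroup G} {e : Set (IrrCharacter (Cen P))}

/-- Fusion below the top pair is inner. -/
theorem inner_of_nilpotent (hM : IsPModular p M) (hmax : IsMaximalBrauerPair p M B P e)
    (hnil : IsNilpotentBlock p M B) {Q : Subgroup G} {g : G} (h : Fus p M ⟨P, e⟩ Q g) :
    ∃ k ∈ P, ∀ x ∈ Q, g * x * g⁻¹ = k * x * k⁻¹ := by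
  have hF := isBlockFusionSystemOn_blockSys hM hmax
  have hmem := (hom_iff hF (φ := conjHom Q g)).mpr ⟨g, fun _ => rfl, h⟩
  rw [(BrauerPairs81Nilpotent.nilpotent_iff_inner hM hF).mp hnil Q] at hmem
  obtain ⟨-, k, hk, he⟩ := hmem
  exact ⟨k, hk, fun x hx => he ⟨x, hx⟩⟩

/-- A function on `P` extended by zero. -/
noncomputable def cl0 (f : P → ℂ) : G → ℂ := fun x => if h : x ∈ P then f ⟨x, h⟩ else 0

theorem cl0_of_mem (f : P → ℂ) {x : G} (hx : x ∈ P) : cl0 f x = f ⟨x, hx⟩ := dif_pos hx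

theorem cl0_coe (f : P → ℂ) (x : P) : cl0 f (x : G) = f x := cl0_of_mem f x.2

theorem cl0_add (f f' : P → ℂ) : cl0 (f + f') = cl0 f + cl0 f' := by
  funext x; simp only [cl0, Pi.add_apply]; split_ifs <;> simp

theorem cl0_smul (r : ℂ) (f : P → ℂ) : cl0 (r • f) = r • cl0 f := by
  funext x; simp only [cl0, Pi.smul_apply]; split_ifs <;> simp

theorem cl0_zero : cl0 (0 : P → ℂ) = 0 := by
  funext x; simp only [cl0, Pi.zero_apply]; split_ifs <;> rfl

/-- The star of a function on `P`. -/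
noncomputable def starP (p : ℕ) (M : Ideal AlgInt) (B : Set (IrrCharacter G))
    (e : Set (IrrCharacter (Cen P))) (χ : IrrCharacter G) (f : P → ℂ) : G → ℂ :=
  star p M B ⟨P, e⟩ (cl0 f) (χ : G → ℂ)

theorem starP_add (χ : IrrCharacter G) (f f' : P → ℂ) :
    starP p M B e χ (f + f') = starP p M B e χ f + starP p M B e χ f' := by
  rw [starP, cl0_add, Star80Char.star_add]; rfl

theorem starP_smul (χ : IrrCharacter G) (r : ℂ) (f : P → ℂ) :
    starP p M B e χ (r • f) = r • starP p M B e χ f := by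
  rw [starP, cl0_smul, Star80Char.star_smul]; rfl

theorem starP_zero (χ : IrrCharacter G) : starP p M B e χ (0 : P → ℂ) = 0 := by
  rw [← zero_smul ℂ (0 : P → ℂ), starP_smul, zero_smul]

theorem starP_sum (χ : IrrCharacter G) {ι : Type*} (s : Finset ι) (f : ι → P → ℂ) :
    starP p M B e χ (∑ k ∈ s, f k) = ∑ k ∈ s, starP p M B e χ (f k) := by
  induction s using Finset.induction_on with
  | empty => simpa using starP_zero χ
  | @insert a s ha ih => rw [Finset.sum_insert ha, Finset.sum_insert ha, starP_add, ih]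

theorem stable_cl0 (hM : IsPModular p M) (hmax : IsMaximalBrauerPair p M B P e)
    (hnil : IsNilpotentBlock p M B) {f : P → ℂ} (hf : IsClassFunction P f) :
    Stable p M ⟨P, e⟩ (cl0 f) := by
  intro g x h
  have hx : x ∈ P := h.le (Subgroup.mem_zpowers x)
  obtain ⟨k, hk, he⟩ := inner_of_nilpotent hM hmax hnil h
  rw [he x (Subgroup.mem_zpowers x), cl0_of_mem f (mul_mem (mul_mem hk hx) (inv_mem hk)),
    cl0_of_mem f hx]
  exact hf ⟨x, hx⟩ ⟨k, hk⟩

/-- The section sum at a pair, as a sum over the group. -/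
noncomputable def mG (p : ℕ) (f f' : G → ℂ) (u : G) (a : BrauerPairIdx G) : ℂ :=
  ∑ s ∈ Finset.univ.filter (fun s : G => s ∈ Cen a.1 ∧ ¬ p ∣ orderOf s),
    chiSum f (MonoidAlgebra.single (u * s) 1 * eb (Cen a.1) a.2) *
      conj (chiSum f' (MonoidAlgebra.single (u * s) 1 * eb (Cen a.1) a.2))

theorem mm_eq_mG (χ χ' : IrrCharacter G) (u : G)
    (b : Set (IrrCharacter (Cen (Subgroup.zpowers u)))) :
    mm p u b (χ : G → ℂ) (χ' : G → ℂ) = mG p (χ : G → ℂ) (χ' : G → ℂ) u ⟨_, b⟩ := by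
  rw [mm, mG]
  refine Finset.sum_bij (fun s _ => (s : G)) ?_ ?_ ?_ ?_
  · intro s hs
    exact Finset.mem_filter.2 ⟨Finset.mem_univ _, s.2,
      by rw [Subgroup.orderOf_coe]; exact (Finset.mem_filter.1 hs).2⟩
  · exact fun s _ t _ h => Subtype.ext h
  · intro s hs
    obtain ⟨-, h1, h2⟩ := Finset.mem_filter.1 hs
    exact ⟨⟨s, h1⟩, Finset.mem_filter.2 ⟨Finset.mem_univ _, by rwa [Subgroup.orderOf_mk]⟩, rfl⟩
  · intro s _
    rw [← chiSum_eb_eq_part (fun g => mem_cen_zp) b χ, ← chiSum_eb_eq_part (fun g => mem_cen_zp) b χ']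

theorem mG_conj (χ χ' : IrrCharacter G) (g u : G) (a : BrauerPairIdx G) :
    mG p (χ : G → ℂ) (χ' : G → ℂ) (g * u * g⁻¹) (cP g a) =
      mG p (χ : G → ℂ) (χ' : G → ℂ) u a := by
  rw [mG, mG, eb_cP, Finset.sum_filter, Finset.sum_filter,
    ← (MulAut.conj g).toEquiv.sum_comp]
  refine Finset.sum_congr rfl fun s _ => ?_
  simp only [MulEquiv.toEquiv_eq_coe, MulEquiv.coe_toEquiv, MulAut.conj_apply]
  refine if_congr ?_ ?_ rfl
  · show g * s * g⁻¹ ∈ Cen (cjS g a.1) ∧ _ ↔ _
    rw [cen_cjS, mem_cjS, show g⁻¹ * (g * s * g⁻¹) * g = s by group,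
      show orderOf (g * s * g⁻¹) = orderOf s from MulEquiv.orderOf_eq (MulAut.conj g) s]
  · rw [show g * u * g⁻¹ * (g * s * g⁻¹) = g * (u * s) * g⁻¹ by group, ← cjA_single, ← cjA_mul',
      chiSum_cjA', chiSum_cjA']

/-- The pair below the top pair at an element of `P`. -/
noncomputable def bel (p : ℕ) (M : Ideal AlgInt) (top : BrauerPairIdx G) (x : G) : BrauerPairIdx G :=
  if h : ∃ a : BrauerPairIdx G, a.1 = Subgroup.zpowers x ∧ PLE p M a top then h.choose
  else ⟨Subgroup.zpowers x, ∅⟩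

theorem bel_spec (hM : IsPModular p M) (hmax : IsMaximalBrauerPair p M B P e) {x : G} (hx : x ∈ P) :
    (bel p M ⟨P, e⟩ x).1 = Subgroup.zpowers x ∧ PLE p M (bel p M ⟨P, e⟩ x) ⟨P, e⟩ := by
  have h := ple_exists hM (c := ⟨P, e⟩) hmax.1.1 (Subgroup.zpowers_le.mpr hx)
  rw [bel, dif_pos h]
  exact h.choose_spec

theorem bel_conj (hM : IsPModular p M) (hmax : IsMaximalBrauerPair p M B P e) {x k : G} (hx : x ∈ P)
    (hk : k ∈ P) : cP k (bel p M ⟨P, e⟩ x) = bel p M ⟨P, e⟩ (k * x * k⁻¹) := by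
  obtain ⟨h1, h2⟩ := bel_spec hM hmax hx
  obtain ⟨h3, h4⟩ := bel_spec hM hmax (mul_mem (mul_mem hk hx) (inv_mem hk))
  refine ple_unique hM (c := ⟨P, e⟩) hmax.1.1 ?_ h4 ?_
  · have := ple_cP k h2
    rwa [cP_top_of_mem (top := ⟨P, e⟩) hk] at this
  · show cjS k (bel p M ⟨P, e⟩ x).1 = _
    rw [h1, h3, cjS_zpowers]

/-- The ratio of the centraliser orders. -/
noncomputable def ratio (P : Subgroup G) (x : G) : ℂ :=
  (Nat.card (P ⊓ Cen (Subgroup.zpowers x) : Subgroup G) : ℂ) /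
    (Nat.card (Cen (Subgroup.zpowers x)) : ℂ)

theorem ratio_conj {x k : G} (hk : k ∈ P) : ratio P (k * x * k⁻¹) = ratio P x := by
  have h1 : Cen (Subgroup.zpowers (k * x * k⁻¹)) = cjS k (Cen (Subgroup.zpowers x)) := by
    rw [← cjS_zpowers, cen_cjS]
  have h2 : (P ⊓ cjS k (Cen (Subgroup.zpowers x)) : Subgroup G) =
      cjS k (P ⊓ Cen (Subgroup.zpowers x)) := by
    ext y
    rw [mem_cjS, Subgroup.mem_inf, Subgroup.mem_inf, mem_cjS]
    refine and_congr ⟨fun h => mul_mem (mul_mem (inv_mem hk) h) hk, fun h => ?_⟩ Iff.rfl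
    simpa [mul_assoc] using mul_mem (mul_mem hk h) (inv_mem hk)
  rw [ratio, ratio, h1, h2, card_cjS, card_cjS]

set_option maxHeartbeats 800000 in
/-- Sums over the pairs of the block, counted from the defect group. -/
theorem sum_pairs (hM : IsPModular p M) (hmax : IsMaximalBrauerPair p M B P e)
    (hnil : IsNilpotentBlock p M B) (Fn : G → BrauerPairIdx G → ℂ)
    (hFn : ∀ g u a, a.1 = Subgroup.zpowers u → Fn (g * u * g⁻¹) (cP g a) = Fn u a) :
    ∑ u ∈ Finset.univ.filter (fun u : G => ∃ k, orderOf u = p ^ k),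
      ∑ b ∈ pairs p M B (Subgroup.zpowers u), Fn u ⟨_, b⟩ =
    (Nat.card G : ℂ) * (Nat.card P : ℂ)⁻¹ *
      ∑ x : P, ratio P (x : G) * Fn (x : G) (bel p M ⟨P, e⟩ (x : G)) := by
  set top : BrauerPairIdx G := ⟨P, e⟩
  set D : Finset (G × BrauerPairIdx G) :=
    (Finset.univ.filter (fun u : G => ∃ k, orderOf u = p ^ k)).biUnion fun u =>
      (pairs p M B (Subgroup.zpowers u)).image fun b => (u, (⟨_, b⟩ : BrauerPairIdx G)) with hD
  have hdisj : ∑ d ∈ D, Fn d.1 d.2 = ∑ u ∈ Finset.univ.filter (fun u : G => ∃ k, orderOf u = p ^ k),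
      ∑ b ∈ pairs p M B (Subgroup.zpowers u), Fn u ⟨_, b⟩ := by
    rw [hD, Finset.sum_biUnion]
    · refine Finset.sum_congr rfl fun u _ => Finset.sum_image fun b _ b' _ hb => ?_
      simpa using hb
    · intro u _ v _ huv
      refine Finset.disjoint_left.2 fun d hd hd' => huv ?_
      obtain ⟨b, -, rfl⟩ := Finset.mem_image.1 hd
      obtain ⟨b', -, hb'⟩ := Finset.mem_image.1 hd'
      exact (congrArg Prod.fst hb').symm
  rw [← hdisj]
  set π : G × P → G × BrauerPairIdx G := fun w =>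
    (w.1 * (w.2 : G) * w.1⁻¹, cP w.1 (bel p M top (w.2 : G))) with hπ
  have hmaps : ∀ w ∈ (Finset.univ : Finset (G × P)), π w ∈ D := by
    rintro ⟨g, x⟩ -
    obtain ⟨h1, h2⟩ := bel_spec hM hmax x.2
    refine Finset.mem_biUnion.2 ⟨g * (x : G) * g⁻¹, Finset.mem_filter.2 ⟨Finset.mem_univ _, ?_⟩, ?_⟩
    · obtain ⟨k, hk⟩ := Star80Claim.exists_pow_of_mem hmax.1.1.1 x.2
      exact ⟨k, by rw [show g * (x : G) * g⁻¹ = MulAut.conj g (x : G) from rfl, MulEquiv.orderOf_eq, hk]⟩
    · have hb := isBrauerPairOf_conj g (isBrauerPairOf_down hM (Q := (bel p M top (x : G)).1)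
        (f := (bel p M top (x : G)).2) h2 hmax.1)
      obtain ⟨a, ha⟩ : ∃ a : BrauerPairIdx G, a = cP g (bel p M top (x : G)) := ⟨_, rfl⟩
      have hb' : IsBrauerPairOf p M B a.1 a.2 := by rw [ha]; exact hb
      have ha1 : a.1 = Subgroup.zpowers (g * (x : G) * g⁻¹) := by
        rw [ha]; show cjS g _ = _; rw [h1, cjS_zpowers]
      obtain ⟨T, b⟩ := a
      subst ha1
      exact Finset.mem_image.2 ⟨b, mem_pairs.mpr hb', by simp only [hπ]; rw [ha]⟩
  have hP0 : (Nat.card P : ℂ) ≠ 0 := Nat.cast_ne_zero.2 Nat.card_pos.ne'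
  -- the fibres
  have hfib : ∀ d ∈ D, (∑ w ∈ (Finset.univ : Finset (G × P)).filter (fun w => π w = d),
      ratio P (w.2 : G) * Fn (w.2 : G) (bel p M top (w.2 : G))) = (Nat.card P : ℂ) * Fn d.1 d.2 := by
    intro d hd
    obtain ⟨u, hu, hd⟩ := Finset.mem_biUnion.1 hd
    obtain ⟨b, hb, rfl⟩ := Finset.mem_image.1 hd
    obtain ⟨y, hy⟩ := exists_conj_subpairLE hM hmax (mem_pairs.mp hb)
    have hx0P : y * u * y⁻¹ ∈ P :=
      subgroup_le_of_subpairLE hy ⟨u, Subgroup.mem_zpowers u, rfl⟩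
    set x0 : P := ⟨y * u * y⁻¹, hx0P⟩ with hx0
    have hbel : bel p M top (x0 : G) = cP y ⟨_, b⟩ := by
      obtain ⟨h1, h2⟩ := bel_spec hM hmax hx0P
      refine ple_unique hM (c := top) hmax.1.1 h2 hy ?_
      rw [h1]
      exact (cjS_zpowers y u).symm
    have hπ0 : π (y⁻¹, x0) = (u, (⟨_, b⟩ : BrauerPairIdx G)) := by
      simp only [hπ]
      rw [hbel, cP_inv_cP]
      refine Prod.ext ?_ rfl
      show y⁻¹ * (y * u * y⁻¹) * y⁻¹⁻¹ = u
      group
    have hz0 : Cen (Subgroup.zpowers (x0 : G)) = Cen (bel p M top (x0 : G)).1 := by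
      rw [(bel_spec hM hmax x0.2).1]
    -- every member of the fibre
    have hmem : ∀ g : G, ∀ x : P, π (g, x) = (u, (⟨_, b⟩ : BrauerPairIdx G)) →
        ∃ k ∈ P, (x : G) = k * (x0 : G) * k⁻¹ ∧ y * g * k ∈ Cen (Subgroup.zpowers (x0 : G)) := by
      intro g x h
      simp only [hπ, Prod.mk.injEq] at h
      obtain ⟨h1, h2⟩ := bel_spec hM hmax x.2
      have hx : (x : G) = (g⁻¹ * y⁻¹) * (x0 : G) * (g⁻¹ * y⁻¹)⁻¹ := by
        simp only [hx0, ← h.1]; group
      have hcp : cP (g⁻¹ * y⁻¹) (bel p M top (x0 : G)) = bel p M top (x : G) := by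
        rw [hbel, cP_cP, inv_mul_cancel_right, ← h.2, cP_inv_cP]
      have hfus : Fus p M top (bel p M top (x0 : G)).1 (g⁻¹ * y⁻¹) :=
        fus_mk (bel_spec hM hmax x0.2).2 (hcp ▸ h2)
      rw [(bel_spec hM hmax x0.2).1] at hfus
      obtain ⟨k, hk, he⟩ := inner_of_nilpotent hM hmax hnil hfus
      have e1 := he _ (Subgroup.mem_zpowers (x0 : G))
      refine ⟨k, hk, hx.trans e1, mem_cen_zp.mpr ?_⟩
      rw [commute_iff_eq]
      have e2 : k⁻¹ * ((g⁻¹ * y⁻¹) * (x0 : G) * (g⁻¹ * y⁻¹)⁻¹) * k = x0 := by rw [e1]; group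
      calc (x0 : G) * (y * g * k)
          = y * g * k * (k⁻¹ * ((g⁻¹ * y⁻¹) * (x0 : G) * (g⁻¹ * y⁻¹)⁻¹) * k) := by group
        _ = y * g * k * x0 := by rw [e2]
    have hval : ∀ w ∈ (Finset.univ : Finset (G × P)).filter
        (fun w => π w = (u, (⟨_, b⟩ : BrauerPairIdx G))),
        ratio P (w.2 : G) * Fn (w.2 : G) (bel p M top (w.2 : G)) =
          ratio P (x0 : G) * Fn u ⟨_, b⟩ := by
      rintro ⟨g, x⟩ hw
      have hw' := (Finset.mem_filter.1 hw).2
      obtain ⟨k, hk, hxk, -⟩ := hmem g x hw'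
      simp only [hπ, Prod.mk.injEq] at hw'
      have h := hFn g (x : G) (bel p M top (x : G)) (bel_spec hM hmax x.2).1
      rw [hw'.1, hw'.2] at h
      show ratio P (x : G) * Fn (x : G) (bel p M top (x : G)) = _
      rw [← h, hxk, ratio_conj hk]
    rw [Finset.sum_congr rfl hval, Finset.sum_const, nsmul_eq_mul, ← mul_assoc]
    congr 1
    -- counting the fibre
    set CP := (P ⊓ Cen (Subgroup.zpowers (x0 : G)) : Subgroup G)
    set C := Cen (Subgroup.zpowers (x0 : G))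
    set Fib := (Finset.univ : Finset (G × P)).filter
      (fun w => π w = (u, (⟨_, b⟩ : BrauerPairIdx G))) with hFib
    have hbk : ∀ w : Fib, ∃ k ∈ P, (w.1.2 : G) = k * (x0 : G) * k⁻¹ ∧ y * w.1.1 * k ∈ C :=
      fun w => hmem w.1.1 w.1.2 (Finset.mem_filter.1 w.2).2
    have hin : ∀ (c : C) (k : P), (y⁻¹ * (c : G) * (k : G)⁻¹,
        (⟨(k : G) * (x0 : G) * (k : G)⁻¹, mul_mem (mul_mem k.2 x0.2) (inv_mem k.2)⟩ : P)) ∈ Fib := by
      intro c k
      refine Finset.mem_filter.2 ⟨Finset.mem_univ _, ?_⟩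
      rw [← hπ0]
      simp only [hπ]
      refine Prod.ext ?_ ?_
      · simp only
        have hc := mem_cen_zp.mp c.2
        calc y⁻¹ * (c : G) * (k : G)⁻¹ * ((k : G) * x0 * (k : G)⁻¹) * (y⁻¹ * (c : G) * (k : G)⁻¹)⁻¹
            = y⁻¹ * ((c : G) * x0) * (c : G)⁻¹ * y := by group
          _ = y⁻¹ * ((x0 : G) * c) * (c : G)⁻¹ * y := by rw [hc.eq]
          _ = _ := by group
      · simp only
        rw [← bel_conj hM hmax x0.2 k.2, cP_cP, inv_mul_cancel_right, ← cP_cP]
        congr 1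
        exact cP_self_of_cen _ (hz0 ▸ c.2)
    choose kf hkP hkx hkC using hbk
    have hcount : Nat.card C * Nat.card P = Fib.card * Nat.card CP := by
      rw [← Nat.card_prod, ← Nat.card_eq_finsetCard, ← Nat.card_prod]
      refine Nat.card_congr
        { toFun := fun ck => (⟨_, hin ck.1 ck.2⟩,
            ⟨(kf ⟨_, hin ck.1 ck.2⟩)⁻¹ * (ck.2 : G), ?_⟩)
          invFun := fun wq => (⟨y * wq.1.1.1 * (kf wq.1 * (wq.2 : G)), ?_⟩,
            ⟨kf wq.1 * (wq.2 : G), mul_mem (hkP _) (Subgroup.mem_inf.1 wq.2.2).1⟩)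
          left_inv := ?_
          right_inv := ?_ }
      · refine Subgroup.mem_inf.2 ⟨mul_mem (inv_mem (hkP _)) ck.2.2, mem_cen_zp.mpr ?_⟩
        have h := hkx ⟨_, hin ck.1 ck.2⟩
        simp only at h
        set kk := kf ⟨_, hin ck.1 ck.2⟩
        rw [commute_iff_eq]
        calc (x0 : G) * (kk⁻¹ * ck.2) = kk⁻¹ * (kk * x0 * kk⁻¹) * ck.2 := by group
          _ = kk⁻¹ * ((ck.2 : G) * x0 * (ck.2 : G)⁻¹) * ck.2 := by rw [← h]
          _ = kk⁻¹ * ck.2 * x0 := by group
      · rw [← mul_assoc]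
        exact mul_mem (hkC wq.1) (Subgroup.mem_inf.1 wq.2.2).2
      · rintro ⟨c, k⟩
        refine Prod.ext (Subtype.ext ?_) (Subtype.ext ?_) <;> simp only <;> group
      · rintro ⟨⟨⟨g, x⟩, hw⟩, q⟩
        have hx := hkx ⟨⟨g, x⟩, hw⟩
        simp only at hx
        set kk := kf ⟨⟨g, x⟩, hw⟩ with hkk
        have hq := mem_cen_zp.mp (Subgroup.mem_inf.1 q.2).2
        have h1 : (y⁻¹ * (y * g * (kk * (q : G))) * (kk * (q : G))⁻¹ : G) = g := by group
        have h2 : (kk * (q : G)) * (x0 : G) * (kk * (q : G))⁻¹ = (x : G) := by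
          rw [hx, mul_assoc kk, ← hq.eq]; group
        have hk' : ∀ w : Fib, w.1.1 = g → (w.1.2 : G) = x → kf w = kk := fun w e1 e2 => by
          rw [hkk, show w = ⟨(g, x), hw⟩ from Subtype.ext (Prod.ext e1 (Subtype.ext e2))]
        simp only
        refine Prod.ext (Subtype.ext (Prod.ext h1 (Subtype.ext h2))) (Subtype.ext ?_)
        simp only
        rw [hk' ⟨_, _⟩ h1 h2, ← hkk]
        group
    have hC0 : (Nat.card C : ℂ) ≠ 0 := Nat.cast_ne_zero.2 Nat.card_pos.ne'
    show (Fib.card : ℂ) * ratio P (x0 : G) = _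
    rw [show ratio P (x0 : G) = (Nat.card CP : ℂ) / (Nat.card C : ℂ) from rfl, mul_div_assoc',
      div_eq_iff hC0]
    have := congrArg (fun n : ℕ => (n : ℂ)) hcount
    push_cast at this
    rw [← this]; ring
  have hsum := Finset.sum_fiberwise_of_maps_to hmaps
    (fun w : G × P => ratio P (w.2 : G) * Fn (w.2 : G) (bel p M top (w.2 : G)))
  rw [Finset.sum_congr rfl hfib, ← Finset.mul_sum, Fintype.sum_prod_type] at hsum
  simp only [Finset.sum_const, Finset.card_univ, nsmul_eq_mul, ← Nat.card_eq_fintype_card] at hsum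
  calc ∑ d ∈ D, Fn d.1 d.2 = (Nat.card P : ℂ)⁻¹ * ((Nat.card P : ℂ) * ∑ d ∈ D, Fn d.1 d.2) := by
        rw [inv_mul_cancel_left₀ hP0]
    _ = _ := by rw [hsum]; ring

/-- The weight of `χ0` on `P`. -/
noncomputable def weight (p : ℕ) (M : Ideal AlgInt) (e : Set (IrrCharacter (Cen P)))
    (χ : IrrCharacter G) (x : P) : ℂ :=
  ratio P (x : G) * mG p (χ : G → ℂ) (χ : G → ℂ) (x : G) (bel p M ⟨P, e⟩ (x : G))

theorem inner_starP (hM : IsPModular p M) (hmax : IsMaximalBrauerPair p M B P e)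
    (hnil : IsNilpotentBlock p M B) (χ : IrrCharacter G) {f f' : P → ℂ}
    (hf : IsClassFunction P f) (hf' : IsClassFunction P f') :
    classInner (starP p M B e χ f) (starP p M B e χ f') =
      classInner (fun x => f x * weight p M e χ x) f' := by
  have hz := stable_cl0 hM hmax hnil hf
  have hz' := stable_cl0 hM hmax hnil hf'
  rw [starP, starP, inner_star hM]
  simp only [mm_eq_mG]
  rw [sum_pairs hM hmax hnil (fun u a => zvp p M ⟨P, e⟩ (cl0 f) u a *
    conj (zvp p M ⟨P, e⟩ (cl0 f') u a) * mG p (χ : G → ℂ) (χ : G → ℂ) u a)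
    (fun g u a ha => by rw [zvp_cP hz g u a ha, zvp_cP hz' g u a ha, mG_conj])]
  rw [← mul_assoc, ← mul_assoc, inv_mul_cancel₀ (Nat.cast_ne_zero.2 Nat.card_pos.ne'), one_mul,
    classInner]
  congr 1
  refine Finset.sum_congr rfl fun x _ => ?_
  obtain ⟨h1, h2⟩ := bel_spec hM hmax x.2
  rw [zvp_eq hz h1 (g := 1) (by rwa [cP_one]), zvp_eq hz' h1 (g := 1) (by rwa [cP_one])]
  simp only [one_mul, inv_one, mul_one, cl0_coe, weight]
  ring

theorem weight_pos (hM : IsPModular p M) (hmax : IsMaximalBrauerPair p M B P e) {χ : IrrCharacter G}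
    (hχ : χ ∈ B) (h0 : blockHeight p B (χ : G → ℂ) = 0) (x : P) :
    ∃ r : ℝ, weight p M e χ x = (r : ℂ) ∧ 0 < r := by
  obtain ⟨h1, h2⟩ := bel_spec hM hmax x.2
  have hu := Star80Claim.exists_pow_of_mem hmax.1.1.1 x.2
  obtain ⟨b, hb⟩ : ∃ b, bel p M ⟨P, e⟩ (x : G) = ⟨Subgroup.zpowers (x : G), b⟩ := by
    rcases he : bel p M ⟨P, e⟩ (x : G) with ⟨T, b⟩
    rw [he] at h1
    subst h1
    exact ⟨b, rfl⟩
  rw [hb] at h2
  obtain ⟨r, hr, -, hpos⟩ := mm_self_re (p := p) (u := (x : G)) (b := b) (χ : G → ℂ)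
  rw [mm_eq_mG] at hr
  have hr0 : 0 < r := hpos
    (exists_part_of_height_zero hM hχ h0 hu (isBrauerPairOf_down hM h2 hmax.1))
  refine ⟨(Nat.card (P ⊓ Cen (Subgroup.zpowers (x : G)) : Subgroup G) : ℝ) /
    (Nat.card (Cen (Subgroup.zpowers (x : G))) : ℝ) * r, ?_, ?_⟩
  · rw [weight, hb, hr, ratio]; push_cast; rfl
  · refine mul_pos (div_pos ?_ ?_) hr0 <;> exact Nat.cast_pos.2 Nat.card_pos

theorem isClassFunction_one : IsClassFunction P fun _ : P => (1 : ℂ) := fun _ _ => rfl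

theorem starP_one (hM : IsPModular p M) (hmax : IsMaximalBrauerPair p M B P e) {χ : IrrCharacter G}
    (hχ : χ ∈ B) : starP p M B e χ (fun _ : P => (1 : ℂ)) = (χ : G → ℂ) :=
  star_one hM hmax hχ fun x hx => cl0_of_mem _ hx

/-- For a height zero character the weight is one. -/
theorem weight_eq_one (hM : IsPModular p M) (hmax : IsMaximalBrauerPair p M B P e)
    (hnil : IsNilpotentBlock p M B) {χ : IrrCharacter G} (hχ : χ ∈ B)
    (h0 : blockHeight p B (χ : G → ℂ) = 0) (x : P) : weight p M e χ x = 1 := by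
  have hcl : IsClassFunction P (weight p M e χ) := fun x k => by
    simp only [weight, Subgroup.coe_mul, Subgroup.coe_inv]
    rw [ratio_conj k.2, ← bel_conj hM hmax x.2 k.2, mG_conj]
  have hgen : IsGeneralizedCharacter P (weight p M e χ) := by
    refine isGeneralizedCharacter_iff.mpr ⟨hcl, fun ψ => ?_⟩
    have h := inner_starP hM hmax hnil χ (f := fun _ => 1) (f' := (ψ : P → ℂ))
      isClassFunction_one (irr_classFun ψ)
    simp only [one_mul] at h
    rw [starP_one hM hmax hχ] at h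
    have hg : IsGeneralizedCharacter G (starP p M B e χ (ψ : P → ℂ)) :=
      isGen_star hM hmax (stable_cl0 hM hmax hnil (irr_classFun ψ)) (by
        rw [show (fun x : P => cl0 (ψ : P → ℂ) (x : G)) = (ψ : P → ℂ) from funext (cl0_coe _)]
        exact isGeneralizedCharacter_of_isCharacter (isCharacter_of_isIrrCharacter ψ.2)) hχ
    obtain ⟨n, hn⟩ := classInner_isGeneralizedCharacter
      (isGeneralizedCharacter_of_isCharacter (isCharacter_of_isIrrCharacter χ.2)) hg
    exact ⟨n, h ▸ hn⟩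
  choose r hr hpos using weight_pos hM hmax hχ h0
  refine Star80Mean.eq_one_of_sum hgen hr hpos ?_ x
  have h := inner_starP hM hmax hnil χ (f := fun _ => 1) (f' := fun _ => 1)
    isClassFunction_one isClassFunction_one
  rw [starP_one hM hmax hχ, CharBasicOrth.classInner_irr_self χ.2, classInner] at h
  simp only [one_mul, map_one, mul_one, hr] at h
  have hne : (Nat.card P : ℂ) ≠ 0 := Nat.cast_ne_zero.2 Nat.card_pos.ne'
  have h3 := congrArg ((Nat.card P : ℂ) * ·) h
  simp only [mul_one, mul_inv_cancel_left₀ hne] at h3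
  rw [← Complex.ofReal_sum, ← Complex.ofReal_natCast, Complex.ofReal_inj] at h3
  rw [← Nat.card_eq_fintype_card]
  exact h3.symm

/-- The star is an isometry. -/
theorem inner_starP_eq (hM : IsPModular p M) (hmax : IsMaximalBrauerPair p M B P e)
    (hnil : IsNilpotentBlock p M B) {χ : IrrCharacter G} (hχ : χ ∈ B)
    (h0 : blockHeight p B (χ : G → ℂ) = 0) {f f' : P → ℂ}
    (hf : IsClassFunction P f) (hf' : IsClassFunction P f') :
    classInner (starP p M B e χ f) (starP p M B e χ f') = classInner f f' := by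
  rw [inner_starP hM hmax hnil χ hf hf']
  simp only [weight_eq_one hM hmax hnil hχ h0, mul_one]

theorem cl0_one_eq_degree (ψ : IrrCharacter P) :
    cl0 (ψ : P → ℂ) 1 = (charDegree (ψ : P → ℂ) : ℂ) := by
  rw [cl0_of_mem _ (one_mem P)]
  exact apply_one_eq_charDegree ψ

/-- The bijection from the irreducible characters of the defect group. -/
theorem exists_equiv (hM : IsPModular p M) (hmax : IsMaximalBrauerPair p M B P e)
    (hnil : IsNilpotentBlock p M B) {χ0 : IrrCharacter G} (hχ0 : χ0 ∈ B)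
    (h0 : blockHeight p B (χ0 : G → ℂ) = 0) :
    ∃ Φ : IrrCharacter P ≃ B, ∀ ψ : IrrCharacter P,
      ((Φ ψ : IrrCharacter G) : G → ℂ) = starP p M B e χ0 (ψ : P → ℂ) := by
  have hex : ∀ ψ : IrrCharacter P, ∃ φ : B,
      ((φ : IrrCharacter G) : G → ℂ) = starP p M B e χ0 (ψ : P → ℂ) := fun ψ => by
    obtain ⟨φ, hφ, he⟩ := mem_of_norm_one (z0 := cl0 (ψ : P → ℂ)) hM hmax hχ0
      (isGen_star hM hmax (stable_cl0 hM hmax hnil (irr_classFun ψ)) (by
        rw [show (fun x : P => cl0 (ψ : P → ℂ) (x : G)) = (ψ : P → ℂ) from funext (cl0_coe _)]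
        exact isGeneralizedCharacter_of_isCharacter (isCharacter_of_isIrrCharacter ψ.2)) hχ0)
      ((inner_starP_eq hM hmax hnil hχ0 h0 (irr_classFun ψ) (irr_classFun ψ)).trans
        (CharBasicOrth.classInner_irr_self ψ.2))
      (charDegree_pos ψ).ne' (cl0_one_eq_degree ψ)
    exact ⟨⟨φ, hφ⟩, he⟩
  choose F hF using hex
  refine ⟨Equiv.ofBijective F ⟨fun ψ ψ' he => ?_, fun φ => ?_⟩, hF⟩
  · by_contra hne
    have h := inner_starP_eq hM hmax hnil hχ0 h0 (irr_classFun ψ) (irr_classFun ψ')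
    rw [← hF ψ, ← hF ψ', he, CharBasicOrth.classInner_irr_self (F ψ' : IrrCharacter G).2,
      CharBasicOrth.classInner_irr_ne ψ.2 ψ'.2 fun e => hne (Subtype.ext e)] at h
    exact one_ne_zero h
  · by_contra! hne
    have horth : ∀ ψ : IrrCharacter P,
        classInner (starP p M B e χ0 (ψ : P → ℂ)) ((φ : IrrCharacter G) : G → ℂ) = 0 := fun ψ => by
      rw [← hF ψ]
      exact CharBasicOrth.classInner_irr_ne (F ψ : IrrCharacter G).2 (φ : IrrCharacter G).2
        fun e => hne ψ (Subtype.ext (Subtype.ext e))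
    set δ : P → ℂ := fun x => if x = 1 then 1 else 0 with hδ
    have hδc : IsClassFunction P δ := fun x k => by
      simp only [hδ]
      exact if_congr (by rw [mul_inv_eq_one, mul_eq_left]) rfl rfl
    have hδ0 : classInner (starP p M B e χ0 δ) ((φ : IrrCharacter G) : G → ℂ) = 0 := by
      rw [CharBasicOrth.eq_sum_classInner hδc, starP_sum, inner_sum_left]
      refine Finset.sum_eq_zero fun ψ _ => ?_
      rw [starP_smul, CharInduced.inner_smul_left, horth, mul_zero]
    have hval : ∀ g : G, starP p M B e χ0 δ g =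
        if ¬ p ∣ orderOf g then (χ0 : G → ℂ) g else 0 := by
      intro g
      by_cases hg : p ∣ orderOf g
      · rw [if_neg (not_not.mpr hg)]
        obtain ⟨u, s, hu, hs, rfl⟩ := exists_section (p := p) g
        have hu1 : u ≠ 1 := by
          rintro rfl
          rw [one_mul, Subgroup.orderOf_coe] at hg
          exact hs hg
        rw [starP, star_of_const (c := 0) hM hmax hχ0 hu (fun k hk => by
          rw [cl0_of_mem _ hk, hδ]
          refine if_neg fun e => hu1 ?_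
          have e' : k * u * k⁻¹ = 1 := congrArg Subtype.val e
          exact conj_eq_one_iff.mp e') s hs, zero_mul]
      · rw [if_pos hg, starP, star_regular hM hmax hχ0 hg, cl0_of_mem _ (one_mem P), hδ]
        simp
    rw [classInner, mul_eq_zero] at hδ0
    have hsum := hδ0.resolve_left (inv_ne_zero (Nat.cast_ne_zero.2 Nat.card_pos.ne'))
    have hpair : BlockContrib.pair p ((φ : IrrCharacter G) : G → ℂ) (χ0 : G → ℂ) = 0 := by
      rw [BlockContrib.pair, BlockContrib.regSum_eq]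
      refine Eq.trans (Finset.sum_congr rfl fun g _ => ?_) hsum
      rw [hval]
      split_ifs <;> ring
    rw [BlockContrib.pair_comm, BlockContrib.pair_eq_contrib hM.1 χ0 φ.2, mul_eq_zero] at hpair
    exact BlockContrib.contrib_ne_zero hM hmax.1.2.1 hχ0 h0 φ.2
      (Int.cast_eq_zero.1 (hpair.resolve_left (BlockContrib.scale_ne_zero hM.1 B)))

/-- A defect group carries a maximal pair. -/
theorem exists_maximal (hM : IsPModular p M) (hB : IsPBlock M B) {D : Subgroup G}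
    (hD : IsDefectGroup p M B D) :
    ∃ e : Set (IrrCharacter (Cen D)), IsMaximalBrauerPair p M B D e := by
  obtain ⟨g, hg⟩ := exists_pairOf_of_not_small hM hB (BlockTheoryDefect.isPGroup_of_isDefectGroup hD)
    (BlockTheoryDefect.not_small_cut_defect hM hB hD)
  exact ⟨g, BlockContribMajor.isMaximal_of_card hM hg (BlockContribBounds.card_defectGroup hM hB hD)⟩

/-- Heights and restrictions to regular elements. -/
theorem starP_regular (hM : IsPModular p M) (hmax : IsMaximalBrauerPair p M B P e)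
    {χ0 : IrrCharacter G} (hχ0 : χ0 ∈ B) (ψ : IrrCharacter P) {x : G} (hx : ¬ p ∣ orderOf x) :
    starP p M B e χ0 (ψ : P → ℂ) x = (charDegree (ψ : P → ℂ) : ℂ) * (χ0 : G → ℂ) x := by
  rw [starP, star_regular hM hmax hχ0 hx, cl0_one_eq_degree]

theorem height_eq (hM : IsPModular p M) (hmax : IsMaximalBrauerPair p M B P e)
    {χ0 φ : IrrCharacter G} (hχ0 : χ0 ∈ B) (h0 : blockHeight p B (χ0 : G → ℂ) = 0)
    (hφB : φ ∈ B) (ψ : IrrCharacter P) (hφ : (φ : G → ℂ) = starP p M B e χ0 (ψ : P → ℂ)) :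
    blockHeight p B (φ : G → ℂ) = (charDegree (ψ : P → ℂ)).factorization p := by
  have h1 : (charDegree (φ : G → ℂ) : ℂ) =
      ((charDegree (ψ : P → ℂ) * charDegree (χ0 : G → ℂ) : ℕ) : ℂ) := by
    rw [← apply_one_eq_charDegree, hφ,
      starP_regular hM hmax hχ0 ψ (by simpa using (Fact.out : p.Prime).ne_one),
      apply_one_eq_charDegree, Nat.cast_mul]
  have h2 := congrArg (fun n => n.factorization p) (Nat.cast_injective h1)
  rw [Nat.factorization_mul (charDegree_pos ψ).ne' (charDegree_pos χ0).ne', Finsupp.add_apply,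
    BlockContrib.exp_eq_add (p := p) hφB, BlockContrib.exp_eq_add (p := p) hχ0, h0] at h2
  omega

end Cfsg.Agent.Star80Nilpotent
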