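import Mathlib
import Cfsg.Agent.Lib.DihedralDefectGroup79
import Cfsg.Agent.Lib.BrauerPairs81Induced
import Cfsg.Agent.Lib.Star80Nilpotent
import Cfsg.Agent.Lib.BlockCyclicRank81

/-!
# A 2-block with dihedral defect group: the block of the centraliser of the central involution

It is nilpotent, with the same dihedral defect group.
-/

set_option autoImplicit false
set_option linter.unusedSectionVars false

namespace Cfsg.Agent.DihedralDefectLocal79

open Cfsg Cfsg.Agent.DihedralDefectGroup79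
open Cfsg.Agent.BrauerPairs81Base Cfsg.Agent.BrauerPairs81Pairs Cfsg.Agent.BrauerPairs81Conj
open Cfsg.Agent.BrauerPairs81Fusion Cfsg.Agent.BrauerPairs81Max

attribute [local instance] Classical.propDecidable

universe u

section Group

variable {H : Type u} [Group H] [Fintype H] {P : Subgroup H} {s : H} {h : ℕ}

theorem sq_one_rot (hd : Dih h P s) {z : H} (hz : z ∈ Subgroup.zpowers s) (h2 : z * z = 1) :
    z = 1 ∨ z = s ^ h := by
  obtain ⟨a, ha, rfl⟩ := exists_pow hd hz
  rw [← pow_add] at h2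
  obtain ⟨q, hq⟩ := orderOf_dvd_of_pow_eq_one h2
  rw [hd.order] at hq
  rcases q with _ | _ | q
  · left
    rw [show a = 0 by omega, pow_zero]
  · right
    rw [show a = h by omega]
  · nlinarith

/-- An element of odd order whose square commutes with `r` commutes with `r`. -/
theorem commute_of_sq {x r : H} (hodd : ¬ 2 ∣ orderOf x) (hc : Commute (x * x) r) :
    Commute x r := by
  obtain ⟨k, hk⟩ : Odd (orderOf x) := Nat.odd_iff.mpr (by omega)
  have hx : x = (x * x) ^ (k + 1) := by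
    rw [← pow_two, ← pow_mul, show 2 * (k + 1) = orderOf x + 1 by omega, pow_succ,
      pow_orderOf_eq_one, one_mul]
  rw [hx]
  exact hc.pow_left _

/-- A 2-regular element normalising a subgroup of a dihedral group and centralising its central
involution centralises the subgroup. -/
theorem mem_centralizer (hd : Dih h P s) {Q : Subgroup H} (hQ : Q ≤ P) {x : H}
    (hx : x ∈ Subgroup.normalizer (Q : Set H)) (hxJ : Commute x (s ^ h))
    (hodd : ¬ 2 ∣ orderOf x) : x ∈ Subgroup.centralizer (Q : Set H) := by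
  have hmapQ : ∀ q ∈ Q, x * q * x⁻¹ ∈ Q := fun q hq => (Subgroup.mem_normalizer_iff.1 hx q).1 hq
  -- rotations
  have hrot : ∀ r ∈ Q, r ∈ Subgroup.zpowers s → Commute x r := by
    suffices H' : ∀ k, ∀ r ∈ Q, r ∈ Subgroup.zpowers s → r ^ 2 ^ k = 1 → Commute x r by
      intro r hr hrs
      obtain ⟨k, hk⟩ := hd.two_pow
      obtain ⟨a, -, ha⟩ := exists_pow hd hrs
      refine H' (k + 1) r hr hrs ?_
      rw [ha, ← pow_mul, pow_succ', ← hk, mul_comm, pow_mul, pow_two_h hd, one_pow]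
    intro k
    induction k with
    | zero =>
      intro r _ _ h1
      rw [pow_zero, pow_one] at h1
      exact h1 ▸ Commute.one_right x
    | succ k ih =>
      intro r hr hrs h1
      by_cases h2 : r * r = 1
      · rcases sq_one_rot hd hrs h2 with rfl | rfl
        · exact Commute.one_right x
        · exact hxJ
      have hsq : Commute x (r * r) := ih _ (mul_mem hr hr) (mul_mem hrs hrs)
        (by rw [← pow_two, ← pow_mul, ← pow_succ', h1])
      have hsq' : x * r * x⁻¹ * (x * r * x⁻¹) = r * r := by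
        rw [show x * r * x⁻¹ * (x * r * x⁻¹) = x * (r * r) * x⁻¹ by group, hsq.eq,
          mul_inv_cancel_right]
      have hrs' : x * r * x⁻¹ ∈ Subgroup.zpowers s := by
        by_contra hn
        exact h2 (hsq' ▸ (hd.refl _ (hQ (hmapQ r hr)) hn).1)
      obtain ⟨z, hz⟩ := hrs
      obtain ⟨z', hz'⟩ := hrs'
      have hcc : Commute (x * r * x⁻¹) r⁻¹ := by
        rw [← hz', ← hz]
        exact ((Commute.refl s).zpow_zpow z' z).inv_right
      have hw : (x * r * x⁻¹ * r⁻¹) * (x * r * x⁻¹ * r⁻¹) = 1 := by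
        calc x * r * x⁻¹ * r⁻¹ * (x * r * x⁻¹ * r⁻¹)
            = x * r * x⁻¹ * (r⁻¹ * (x * r * x⁻¹)) * r⁻¹ := by group
          _ = x * r * x⁻¹ * (x * r * x⁻¹) * r⁻¹ * r⁻¹ := by rw [← hcc.eq]; group
          _ = 1 := by rw [hsq']; group
      rcases sq_one_rot hd (mul_mem ⟨z', hz'⟩ (inv_mem ⟨z, hz⟩)) hw with e | e
      · rw [mul_inv_eq_one] at e
        exact mul_inv_eq_iff_eq_mul.1 e
      · refine commute_of_sq hodd ?_
        have e1 : x * r = s ^ h * r * x := by rw [← e]; group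
        have hJJ : s ^ h * s ^ h = 1 := by rw [← pow_add, ← two_mul, pow_two_h hd]
        calc x * x * r = x * (s ^ h * r * x) := by rw [mul_assoc, e1]
          _ = s ^ h * (x * r) * x := by rw [← mul_assoc, ← mul_assoc, hxJ.eq]; group
          _ = r * (x * x) := by rw [e1, ← mul_assoc (s ^ h), ← mul_assoc (s ^ h), hJJ]; group
  refine Subgroup.mem_centralizer_iff.2 fun q hq => ?_
  by_cases hqs : q ∈ Subgroup.zpowers s
  · exact (hrot q hq hqs).eq.symm
  have hq' : x * q * x⁻¹ ∉ Subgroup.zpowers s := fun hn => hqs (by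
    have hc := hrot _ (hmapQ q hq) hn
    have : x * q * x⁻¹ = q := by
      have e : x * (x * q * x⁻¹) = x * q * x⁻¹ * x := hc.eq
      rw [inv_mul_cancel_right] at e
      exact mul_left_cancel e
    rwa [this] at hn)
  set r := q⁻¹ * (x * q * x⁻¹) with hr
  have hrQ : r ∈ Q := mul_mem (inv_mem hq) (hmapQ q hq)
  have hrs : r ∈ Subgroup.zpowers s := by
    by_contra hn
    have h1 := (hd.refl q (hQ hq) hqs).2
    have h2 := (hd.refl _ (hQ (hmapQ q hq)) hq').2
    have h3 : r * s * r⁻¹ = s := by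
      have h1' : q⁻¹ * s⁻¹ * q = s := by rw [← h1]; group
      calc r * s * r⁻¹ = q⁻¹ * ((x * q * x⁻¹) * s * (x * q * x⁻¹)⁻¹) * q := by rw [hr]; group
        _ = s := by rw [h2, h1']
    rw [(hd.refl r (hQ hrQ) hn).2] at h3
    have h4 : s * s = 1 := by
      nth_rewrite 1 [← h3]
      exact inv_mul_cancel s
    have h5 := orderOf_dvd_of_pow_eq_one ((pow_two s).trans h4)
    rw [hd.order] at h5
    have := Nat.le_of_dvd two_pos h5
    have := hd.two_le
    omega
  have hcr := hrot r hrQ hrs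
  have hxq : x * q * x⁻¹ = q * r := by rw [hr]; group
  have hpow : ∀ j : ℕ, x ^ j * q * (x ^ j)⁻¹ = q * r ^ j := by
    intro j
    induction j with
    | zero => simp
    | succ j ih =>
      calc x ^ (j + 1) * q * (x ^ (j + 1))⁻¹ = x * (x ^ j * q * (x ^ j)⁻¹) * x⁻¹ := by
            rw [pow_succ']; group
        _ = (x * q * x⁻¹) * (x * r ^ j * x⁻¹) := by rw [ih]; group
        _ = q * r ^ (j + 1) := by
            rw [hxq, (hcr.pow_right j).eq, mul_inv_cancel_right, mul_assoc, pow_succ']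
  have hro : r ^ orderOf x = 1 := by
    have := hpow (orderOf x)
    rw [pow_orderOf_eq_one, inv_one, one_mul, mul_one] at this
    exact mul_left_cancel (a := q) (by rw [← this, mul_one])
  have hr1 : r = 1 := by
    obtain ⟨a, -, ha⟩ := exists_pow hd hrs
    obtain ⟨k, hk⟩ := hd.two_pow
    have h1 : orderOf r ∣ 2 ^ (k + 1) := orderOf_dvd_of_pow_eq_one (by
      rw [ha, ← pow_mul, pow_succ', ← hk, mul_comm, pow_mul, pow_two_h hd, one_pow])
    exact orderOf_eq_one_iff.1 (Nat.eq_one_of_dvd_coprimes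
      ((Nat.prime_two.coprime_iff_not_dvd.2 hodd).pow_left (k + 1)) h1
      (orderOf_dvd_of_pow_eq_one hro))
  rw [hr1, mul_one] at hxq
  exact (mul_inv_eq_iff_eq_mul.1 hxq).symm

/-- A rotation for a group isomorphic to a dihedral group. -/
theorem exists_dih {D : Subgroup H} {n : ℕ} (hn : 3 ≤ n)
    (hiso : Nonempty (D ≃* DihedralGroup (2 ^ (n - 1)))) :
    ∃ σ : H, Dih (2 ^ (n - 2)) D σ := by
  obtain ⟨e⟩ := hiso
  have hm : 2 ^ (n - 1) = 2 * 2 ^ (n - 2) := by
    rw [← pow_succ']; congr 1; omega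
  have hh : 2 ≤ 2 ^ (n - 2) :=
    le_trans (le_of_eq (pow_one 2).symm) (Nat.pow_le_pow_right (by norm_num) (by omega))
  haveI : NeZero (2 ^ (n - 1)) := ⟨by omega⟩
  set σ : D := e.symm (DihedralGroup.r 1) with hσ
  have hrot : ∀ u : D, (∃ i, e u = DihedralGroup.r i) → (u : H) ∈ Subgroup.zpowers (σ : H) := by
    rintro u ⟨i, hi⟩
    refine ⟨(i.val : ℤ), ?_⟩
    have : σ ^ i.val = u := by
      apply e.injective
      rw [map_pow, hσ, e.apply_symm_apply, hi, DihedralGroup.r_one_pow, ZMod.natCast_zmod_val]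
    show (σ : H) ^ (i.val : ℤ) = u
    rw [zpow_natCast, ← Subgroup.coe_pow, this]
  refine ⟨σ, σ.2, ?_, ⟨n - 2, rfl⟩, hh, ?_, ?_, ?_⟩
  · rw [Subgroup.orderOf_coe, hσ, MulEquiv.orderOf_eq, DihedralGroup.orderOf_r_one, hm]
  · rw [Nat.card_congr e.toEquiv, DihedralGroup.nat_card, hm]
    ring
  · intro u hu hne
    rcases hi : e ⟨u, hu⟩ with i | i
    · exact absurd (hrot ⟨u, hu⟩ ⟨i, hi⟩) hne
    · constructor
      · have : (⟨u, hu⟩ : D) * ⟨u, hu⟩ = 1 := e.injective (by rw [map_mul, map_one, hi]; simp)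
        exact congrArg Subtype.val this
      · have : (⟨u, hu⟩ : D) * σ * (⟨u, hu⟩ : D)⁻¹ = σ⁻¹ := by
          apply e.injective
          rw [map_mul, map_mul, map_inv, map_inv, hi, hσ, e.apply_symm_apply]
          simp
        exact congrArg Subtype.val this
  · refine ⟨e.symm (DihedralGroup.sr 0), (e.symm (DihedralGroup.sr 0)).2, ?_⟩
    rintro ⟨z, hz⟩
    have : σ ^ z = e.symm (DihedralGroup.sr 0) := Subtype.ext (by rw [Subgroup.coe_zpow]; exact hz)
    have h1 := congrArg e this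
    rw [map_zpow, hσ, e.apply_symm_apply, e.apply_symm_apply, DihedralGroup.r_one_zpow] at h1
    exact absurd h1 (by simp)

theorem dih_subgroupOf {D : Subgroup H} (hd : Dih h D s) {C : Subgroup H} (hle : D ≤ C)
    (hs : s ∈ C) : Dih h (D.subgroupOf C) (⟨s, hs⟩ : C) := by
  have hz : ∀ u : C, u ∈ Subgroup.zpowers (⟨s, hs⟩ : C) ↔ (u : H) ∈ Subgroup.zpowers s := by
    intro u
    refine exists_congr fun z => ?_
    simp only [Subtype.ext_iff, Subgroup.coe_zpow]
  refine ⟨hd.mem, by rw [Subgroup.orderOf_mk, hd.order], hd.two_pow, hd.two_le, ?_, ?_, ?_⟩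
  · rw [Nat.card_congr (Subgroup.subgroupOfEquivOfLe hle).toEquiv, hd.card]
  · intro u hu hne
    have h1 := hd.refl u hu (fun e => hne ((hz u).2 e))
    exact ⟨Subtype.ext h1.1, Subtype.ext h1.2⟩
  · obtain ⟨u, hu, hne⟩ := hd.exists_refl
    exact ⟨⟨u, hle hu⟩, hu, fun e => hne ((hz _).1 e)⟩

end Group

variable {G : Type u} [Group G] [Fintype G]

/-- The data at the central involution of a dihedral defect group. -/
structure Sect (M : Ideal AlgInt) (B : Set (IrrCharacter G)) (h : ℕ) (C : Subgroup G)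
    (b : Set (IrrCharacter C)) (P : Subgroup C) (e : Set (IrrCharacter (Cen P))) (s : C)
    (χ₀ : IrrCharacter C) : Prop where
  hB : IsPBlock M B
  dih : Dih h P s
  hC : ∀ g, g ∈ C ↔ Commute ((s ^ h : C) : G) g
  ind : IsInducedBlock M C b B
  defect : blockDefect 2 b = blockDefect 2 B
  hmax : IsMaximalBrauerPair 2 M b P e
  hnil : IsNilpotentBlock 2 M b
  hmem : χ₀ ∈ b
  height : blockHeight 2 b (χ₀ : C → ℂ) = 0

/-- A block whose defect group has a rotation has such data. -/
theorem exists_sect_dih {M : Ideal AlgInt} (hM : IsPModular 2 M) {B : Set (IrrCharacter G)}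
    (hB : IsPBlock M B) {D : Subgroup G} (hD : IsDefectGroup 2 M B D) {h : ℕ} {σ : G}
    (hd : Dih h D σ) :
    ∃ (C : Subgroup G) (b : Set (IrrCharacter C)) (P : Subgroup C)
      (e : Set (IrrCharacter (Cen P))) (s : C) (χ₀ : IrrCharacter C),
      Sect M B h C b P e s χ₀ := by
  haveI : Fact (Nat.Prime 2) := ⟨Nat.prime_two⟩
  have hQD : Subgroup.zpowers (σ ^ h) ≤ D := Subgroup.zpowers_le.2 (pow_mem hd.mem h)
  have hDQ : D ≤ Cen (Subgroup.zpowers (σ ^ h)) := fun u hu => by
    rw [BlockCyclicRank81.centralizer_zpowers]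
    exact (mul_inv_eq_iff_eq_mul.1 (J_comm hd hu)).symm
  obtain ⟨c, hc⟩ := Star80Nilpotent.exists_maximal hM hB hD
  obtain ⟨b, hb⟩ := exists_subpair hM hc.1.1 hQD
  obtain ⟨c₀, hc₀, -⟩ := BrauerPairs81Induced.exists_maximal_cen hM hc hQD hDQ hb
  have hQb := isBrauerPairOf_down hM hb hc.1
  have hind := BlockCyclicRank81.induced_of_pairOf hM hQb
  have hd' : Dih h (D.subgroupOf (Cen (Subgroup.zpowers (σ ^ h)))) ⟨σ, hDQ hd.mem⟩ := dih_subgroupOf hd hDQ (hDQ hd.mem)
  have hdef : blockDefect 2 b = blockDefect 2 B := by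
    refine Nat.pow_right_injective le_rfl ?_
    show (2 : ℕ) ^ blockDefect 2 b = 2 ^ blockDefect 2 B
    rw [← BlockContribBounds.card_defectGroup hM hB hD,
      ← BlockContribBounds.card_defectGroup hM hc₀.1.2.1 (isDefectGroup_of_maximal hM hc₀)]
    exact Nat.card_congr (Subgroup.subgroupOfEquivOfLe hDQ).toEquiv
  have hnil : IsNilpotentBlock 2 M b := by
    refine BrauerPairs81Nilpotent.nilpotent_of_below hM hc₀ fun a ha x hx hreg => ?_
    refine mem_centralizer hd' (subgroup_le_of_subpairLE ha) (stab_le_normalizer a hx) ?_ hreg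
    refine Subtype.ext ?_
    show (x : G) * (⟨σ, hDQ hd.mem⟩ ^ h : Cen (Subgroup.zpowers (σ ^ h))) =
      (⟨σ, hDQ hd.mem⟩ ^ h : Cen (Subgroup.zpowers (σ ^ h))) * (x : G)
    rw [Subgroup.coe_pow]
    exact ((BlockCyclicRank81.centralizer_zpowers _ _).1 x.2).symm.eq
  obtain ⟨χ₀, hχ₀, hχ₀h⟩ := BlockContrib.exists_height_zero hM hc₀.1.2.1
  refine ⟨_, b, D.subgroupOf (Cen (Subgroup.zpowers (σ ^ h))), c₀, ⟨σ, hDQ hd.mem⟩, χ₀, hB, hd', fun g => ?_, hind, hdef, hc₀, hnil, hχ₀, hχ₀h⟩
  rw [Subgroup.coe_pow]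
  exact BlockCyclicRank81.centralizer_zpowers _ _

/-- Every block with dihedral defect group has such data. -/
theorem exists_sect {M : Ideal AlgInt} (hM : IsPModular 2 M) {B : Set (IrrCharacter G)}
    (hB : IsPBlock M B) {D : Subgroup G} (hD : IsDefectGroup 2 M B D) {n : ℕ} (hn : 3 ≤ n)
    (hiso : Nonempty (D ≃* DihedralGroup (2 ^ (n - 1)))) :
    ∃ (C : Subgroup G) (b : Set (IrrCharacter C)) (P : Subgroup C)
      (e : Set (IrrCharacter (Cen P))) (s : C) (χ₀ : IrrCharacter C),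
      Sect M B (2 ^ (n - 2)) C b P e s χ₀ := by
  obtain ⟨σ, hd⟩ := exists_dih hn hiso
  exact exists_sect_dih hM hB hD hd

end Cfsg.Agent.DihedralDefectLocal79
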