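import Mathlib
import Cfsg.Agent.Lib.DihedralDefectLocal79
import Cfsg.Agent.Lib.CharInducedTI
import Cfsg.Agent.Lib.BlockMajorValue82
import Cfsg.Agent.Lib.BlockMajor81
import Cfsg.Agent.Lib.BrauerBlocksOrth
import Cfsg.Agent.S4716
import Cfsg.Agent.Lib.PGroupsCyclic

/-!
# A 2-block with dihedral defect group: generalised decomposition columns of the rotations

The coefficients of the characters of the block against the stars of the basic functions.
-/

set_option autoImplicit false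
set_option linter.unusedSectionVars false

open scoped ComplexConjugate

namespace Cfsg.Agent.DihedralDefectColumns79

open Cfsg Cfsg.Agent.DihedralDefectGroup79 Cfsg.Agent.DihedralDefectLocal79
open Cfsg.Agent.BrauerPairs81Base
open Cfsg.Agent.BlockTheoryLocalRing Cfsg.Agent.BlockTheoryCentre Cfsg.Agent.BlockTheoryIdem
open Cfsg.Agent.BlockTheoryBrauer

attribute [local instance] Classical.propDecidable

universe u

variable {G : Type u} [Group G] [Fintype G] {M : Ideal AlgInt} {B : Set (IrrCharacter G)} {h : ℕ}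
  {C : Subgroup G} {b : Set (IrrCharacter C)} {P : Subgroup C} {e : Set (IrrCharacter (Cen P))}
  {s : C} {χ₀ : IrrCharacter C} {ζ : ℂ}

/-- The star of a function on the defect group. -/
noncomputable def starF (M : Ideal AlgInt) (b : Set (IrrCharacter C))
    (e : Set (IrrCharacter (Cen P))) (χ₀ : IrrCharacter C) (f : P → ℂ) : C → ℂ :=
  Star80Nilpotent.starP 2 M b e χ₀ f

/-- The restriction to `C`. -/
noncomputable def resC (C : Subgroup G) (χ : IrrCharacter G) : C → ℂ := fun c => (χ : G → ℂ) c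

/-- The class function on the defect group attached to a character. -/
noncomputable def gfun (M : Ideal AlgInt) (b : Set (IrrCharacter C))
    (e : Set (IrrCharacter (Cen P))) (χ₀ : IrrCharacter C) (χ : IrrCharacter G) : P → ℂ :=
  ∑ ψ : IrrCharacter P, classInner (resC C χ) (starF M b e χ₀ (ψ : P → ℂ)) • (ψ : P → ℂ)

theorem classFun_gfun (χ : IrrCharacter G) : IsClassFunction P (gfun M b e χ₀ χ) := fun x k => by
  simp only [gfun, Finset.sum_apply, Pi.smul_apply]
  exact Finset.sum_congr rfl fun ψ _ => by rw [irr_classFun ψ x k]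

theorem classFun_resC (χ : IrrCharacter G) : IsClassFunction C (resC C χ) := fun x k => by
  simp only [resC, Subgroup.coe_mul, Subgroup.coe_inv]
  exact irr_classFun χ _ _

variable (hM : IsPModular 2 M) (S : Sect M B h C b P e s χ₀)
include hM S

theorem classFun_starF {f : P → ℂ} (hf : IsClassFunction P f) :
    IsClassFunction C (starF M b e χ₀ f) := by
  haveI : Fact (Nat.Prime 2) := ⟨Nat.prime_two⟩
  exact Star80Char.isClassFunction_star (Star80Nilpotent.stable_cl0 hM S.hmax S.hnil hf) χ₀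

theorem starF_eq_sum {f : P → ℂ} (hf : IsClassFunction P f) :
    starF M b e χ₀ f = ∑ ψ : IrrCharacter P, classInner f (ψ : P → ℂ) • starF M b e χ₀ (ψ : P → ℂ) := by
  haveI : Fact (Nat.Prime 2) := ⟨Nat.prime_two⟩
  conv_lhs => rw [CharBasicOrth.eq_sum_classInner hf]
  rw [starF, Star80Nilpotent.starP_sum]
  simp only [Star80Nilpotent.starP_smul, starF]

/-- The coefficient against a star. -/
theorem inner_res_star (χ : IrrCharacter G) {f : P → ℂ} (hf : IsClassFunction P f) :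
    classInner (resC C χ) (starF M b e χ₀ f) = classInner (gfun M b e χ₀ χ) f := by
  rw [starF_eq_sum hM S hf, CharInduced.inner_sum_right, gfun, CharInduced.inner_sum_left]
  refine Finset.sum_congr rfl fun ψ _ => ?_
  rw [CharInduced.inner_smul_right, CharInduced.inner_smul_left, CharInduced.inner_conj_symm,
    mul_comm]

theorem exists_nat (χ : IrrCharacter G) (ψ : IrrCharacter P) :
    ∃ k : ℕ, classInner (resC C χ) (starF M b e χ₀ (ψ : P → ℂ)) = k := by
  haveI : Fact (Nat.Prime 2) := ⟨Nat.prime_two⟩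
  obtain ⟨Φ, hΦ⟩ := Star80Nilpotent.exists_equiv hM S.hmax S.hnil S.hmem S.height
  rw [starF, ← hΦ]
  exact ⟨_, S4716.mult_spec χ (Φ ψ : IrrCharacter C)⟩

/-- The star of the attached function is the part in the block. -/
theorem starF_gfun (χ : IrrCharacter G) (c : C) :
    starF M b e χ₀ (gfun M b e χ₀ χ) c = ∑ k : C, blockCoeff b k * (χ : G → ℂ) ((k : G) * (c : G)) := by
  haveI : Fact (Nat.Prime 2) := ⟨Nat.prime_two⟩
  obtain ⟨Φ, hΦ⟩ := Star80Nilpotent.exists_equiv hM S.hmax S.hnil S.hmem S.height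
  have e0 : ∀ k : C, blockCoeff b k * (χ : G → ℂ) ((k : G) * (c : G)) =
      blockCoeff b k * resC C χ (k * c) := fun k => rfl
  rw [Finset.sum_congr rfl fun k _ => e0 k,
    BlockTheoryInduced.sum_blockCoeff_mul b (classFun_resC χ), ← Finset.sum_filter,
    Finset.sum_subtype (p := fun ξ : IrrCharacter C => ξ ∈ b) _ (fun ξ => by simp) _,
    ← Equiv.sum_comp Φ]
  rw [starF, gfun, Star80Nilpotent.starP_sum, Finset.sum_apply]
  refine Finset.sum_congr rfl fun ψ _ => ?_
  rw [Star80Nilpotent.starP_smul, Pi.smul_apply, smul_eq_mul, hΦ, starF]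

theorem J_center : (s ^ h : C) ∈ Subgroup.center C :=
  Subgroup.mem_center_iff.2 fun g => Subtype.ext ((S.hC g).1 g.2).eq.symm

theorem order_J : orderOf (((s ^ h : C)) : G) = 2 := by
  rw [Subgroup.orderOf_coe, orderOf_pow' _ (by have := S.dih.two_le; omega), S.dih.order,
    Nat.gcd_mul_left_left, Nat.mul_div_cancel _ (by have := S.dih.two_le; omega)]

/-- The star of a function carried by the nontrivial rotations lives over the involution. -/
theorem starF_supp {f : P → ℂ} (hf : ∀ x : P, f x ≠ 0 → (s ^ h : C) ∈ Subgroup.zpowers (x : C))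
    {c : C} (hc : starF M b e χ₀ f c ≠ 0) : (s ^ h : C) ∈ Subgroup.zpowers c := by
  haveI : Fact (Nat.Prime 2) := ⟨Nat.prime_two⟩
  by_contra hn
  obtain ⟨u, t, hu, ht, rfl⟩ := Star80Char.exists_section (p := 2) c
  refine hc ?_
  rw [starF, Star80Nilpotent.starP, Star80Char.star_of_const (c := 0) hM S.hmax S.hmem hu
    (fun g hg => ?_) t ht, zero_mul]
  rw [Star80Nilpotent.cl0_of_mem _ hg]
  by_contra hne
  refine hn ?_
  have h1 : (s ^ h : C) ∈ Subgroup.zpowers (g * u * g⁻¹) := hf _ hne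
  have h2 : (s ^ h : C) ∈ Subgroup.zpowers u := by
    obtain ⟨z, hz⟩ := h1
    refine ⟨z, ?_⟩
    show u ^ z = s ^ h
    have hz' : (g * u * g⁻¹) ^ z = s ^ h := hz
    rw [conj_zpow, mul_inv_eq_iff_eq_mul, ← Subgroup.mem_center_iff.1 (J_center hM S) g] at hz'
    exact mul_left_cancel hz'
  refine Subgroup.zpowers_le.2 ?_ h2
  -- `u` is a power of the product
  have hcomm : Commute u (t : C) := Star80Pairs.mem_cen_zp.1 t.2
  obtain ⟨k, hk⟩ := hu
  have hto : ¬ 2 ∣ orderOf (t : C) := by rwa [Subgroup.orderOf_coe]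
  obtain ⟨m, hm⟩ := exists_pow_eq_self_of_coprime (x := u) (n := orderOf (t : C))
    (by rw [hk]; exact ((Nat.prime_two.coprime_iff_not_dvd.2 hto).pow_left k).symm)
  have h3 : (u * (t : C)) ^ orderOf (t : C) = u ^ orderOf (t : C) := by
    rw [hcomm.mul_pow, pow_orderOf_eq_one, mul_one]
  have : ((u * (t : C)) ^ orderOf (t : C)) ^ m = u := by rw [h3, hm]
  exact this ▸ Subgroup.npow_mem_zpowers _ _ |> fun h' => by
    obtain ⟨z, hz⟩ := h'
    refine ⟨(orderOf (t : C) : ℤ) * z, ?_⟩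
    show (u * (t : C)) ^ ((orderOf (t : C) : ℤ) * z) = u
    rw [zpow_mul, zpow_natCast]
    exact hz

theorem overJ_iff (c : C) :
    ((s ^ h : C) : G) ∈ Subgroup.zpowers (c : G) ↔ (s ^ h : C) ∈ Subgroup.zpowers c :=
  exists_congr fun z => by simp only [Subtype.ext_iff, Subgroup.coe_zpow]

theorem mem_of_overJ {g : G} (hg : ((s ^ h : C) : G) ∈ Subgroup.zpowers g) : g ∈ C := by
  obtain ⟨z, hz⟩ := hg
  refine (S.hC g).2 ?_
  rw [← hz]
  exact (Commute.refl g).zpow_left z

theorem ti {g t : G} (hg : g ∉ C) (ht : ((s ^ h : C) : G) ∈ Subgroup.zpowers t)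
    (ht' : ((s ^ h : C) : G) ∈ Subgroup.zpowers (g * t * g⁻¹)) : False := by
  refine hg ((S.hC g).2 ?_)
  set J : G := ((s ^ h : C) : G) with hJ
  have h1 : g * J * g⁻¹ ∈ Subgroup.zpowers (g * t * g⁻¹) := by
    obtain ⟨z, hz⟩ := ht
    refine ⟨z, ?_⟩
    show (g * t * g⁻¹) ^ z = g * J * g⁻¹
    rw [conj_zpow]
    exact congrArg (fun x => g * x * g⁻¹) hz
  have ho : orderOf (g * J * g⁻¹) = 2 := by
    rw [show g * J * g⁻¹ = MulAut.conj g J from rfl, MulEquiv.orderOf_eq]
    exact order_J hM S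
  have heq : Subgroup.zpowers (g * J * g⁻¹) = Subgroup.zpowers J :=
    PGroupsCyclic.eq_of_card_eq_of_isCyclic (A := Subgroup.zpowers (g * t * g⁻¹))
      (Subgroup.isCyclic_zpowers _) (Subgroup.zpowers_le.2 h1) (Subgroup.zpowers_le.2 ht')
      (by rw [Nat.card_zpowers, Nat.card_zpowers, ho, order_J hM S])
  have hmem : g * J * g⁻¹ ∈ Subgroup.zpowers J := heq ▸ Subgroup.mem_zpowers _
  obtain ⟨z, hz⟩ := hmem
  have hz' : J ^ z = g * J * g⁻¹ := hz
  rcases Int.even_or_odd z with ⟨q, hq⟩ | ⟨q, hq⟩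
  · exfalso
    rw [hq, ← two_mul, zpow_mul, show J ^ (2 : ℤ) = 1 by
      rw [show (2 : ℤ) = ((orderOf J : ℕ) : ℤ) by rw [order_J hM S]; rfl, zpow_natCast,
        pow_orderOf_eq_one], one_zpow] at hz'
    rw [← hz', orderOf_one] at ho
    omega
  · rw [hq, zpow_add, zpow_mul, show J ^ (2 : ℤ) = 1 by
      rw [show (2 : ℤ) = ((orderOf J : ℕ) : ℤ) by rw [order_J hM S]; rfl, zpow_natCast,
        pow_orderOf_eq_one], one_zpow, one_mul, zpow_one] at hz'
    exact (mul_inv_eq_iff_eq_mul.1 hz'.symm).symm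

theorem two_dvd_of_overJ {g : G} (hg : ((s ^ h : C) : G) ∈ Subgroup.zpowers g) :
    2 ∣ orderOf g := by
  obtain ⟨z, hz⟩ := hg
  rw [← order_J hM S, ← hz]
  exact orderOf_dvd_of_pow_eq_one (by
    show (g ^ z) ^ orderOf g = 1
    rw [← zpow_natCast, ← zpow_mul, mul_comm, zpow_mul, zpow_natCast, pow_orderOf_eq_one, one_zpow])

theorem starF_supp' {f : P → ℂ} (hf : ∀ x : P, f x ≠ 0 → (s ^ h : C) ∈ Subgroup.zpowers (x : C))
    (c : C) (hc : (c : G) ∉ {g : G | ((s ^ h : C) : G) ∈ Subgroup.zpowers g}) :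
    starF M b e χ₀ f c = 0 := by
  by_contra hne
  exact hc ((overJ_iff hM S c).2 (starF_supp hM S hf hne))

/-- Coefficients of an induced star. -/
theorem inner_ind_starF (χ : IrrCharacter G) {f : P → ℂ} (hf : IsClassFunction P f) :
    classInner (indFun C (starF M b e χ₀ f)) (χ : G → ℂ) =
      conj (classInner (gfun M b e χ₀ χ) f) := by
  rw [← inner_res_star hM S χ hf, CharInduced.inner_conj_symm,
    CharInduced.inner_ind_left C _ (irr_classFun χ)]
  rfl

/-- Orthogonality of the coefficient columns. -/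
theorem column {f f' : P → ℂ} (hf : IsClassFunction P f) (hf' : IsClassFunction P f')
    (hs : ∀ x : P, f x ≠ 0 → (s ^ h : C) ∈ Subgroup.zpowers (x : C))
    (hs' : ∀ x : P, f' x ≠ 0 → (s ^ h : C) ∈ Subgroup.zpowers (x : C)) :
    ∑ χ : IrrCharacter G, classInner (gfun M b e χ₀ χ) f * conj (classInner (gfun M b e χ₀ χ) f') =
      classInner f' f := by
  haveI : Fact (Nat.Prime 2) := ⟨Nat.prime_two⟩
  rw [← Star80Nilpotent.inner_starP_eq hM S.hmax S.hnil S.hmem S.height hf' hf]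
  change _ = classInner (starF M b e χ₀ f') (starF M b e χ₀ f)
  have h1 : (1 : C) ∉ {c : C | (s ^ h : C) ∈ Subgroup.zpowers c} := by
    intro e1
    have := two_dvd_of_overJ hM S ((overJ_iff hM S 1).2 e1)
    rw [Subgroup.coe_one, orderOf_one] at this
    omega
  have hz : starF M b e χ₀ f' 1 = 0 :=
    starF_supp' hM S hs' 1 fun e1 => h1 ((overJ_iff hM S 1).1 e1)
  rw [← CharInduced.classInner_ind_of_ti {g : G | ((s ^ h : C) : G) ∈ Subgroup.zpowers g} C
    (fun g hg t ht ht' => (ti hM S hg ht ht').elim) (starF M b e χ₀ f') (starF M b e χ₀ f)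
    (classFun_starF hM S hf) (starF_supp' hM S hs') (starF_supp' hM S hs) hz]
  conv_rhs =>
    arg 1
    rw [CharBasicOrth.eq_sum_classInner (CharInduced.isClassFunction_ind C (starF M b e χ₀ f'))]
  rw [CharInduced.inner_sum_left]
  refine Finset.sum_congr rfl fun χ _ => ?_
  rw [CharInduced.inner_smul_left, inner_ind_starF hM S χ hf', ← CharInduced.inner_conj_symm
    (indFun C (starF M b e χ₀ f)), inner_ind_starF hM S χ hf, Complex.conj_conj, mul_comm]

/-- The character values recovered from a column. -/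
theorem column_value {f : P → ℂ} (hf : IsClassFunction P f) (y : G) :
    ∑ χ : IrrCharacter G, conj (classInner (gfun M b e χ₀ χ) f) * (χ : G → ℂ) y =
      indFun C (starF M b e χ₀ f) y := by
  conv_rhs => rw [CharBasicOrth.eq_sum_classInner (CharInduced.isClassFunction_ind C (starF M b e χ₀ f))]
  simp only [Finset.sum_apply, Pi.smul_apply, smul_eq_mul, inner_ind_starF hM S _ hf]

theorem column_regular {f : P → ℂ} (hf : IsClassFunction P f)
    (hs : ∀ x : P, f x ≠ 0 → (s ^ h : C) ∈ Subgroup.zpowers (x : C)) {y : G}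
    (hy : ¬ 2 ∣ orderOf y) :
    ∑ χ : IrrCharacter G, conj (classInner (gfun M b e χ₀ χ) f) * (χ : G → ℂ) y = 0 := by
  rw [column_value hM S hf]
  refine CharInduced.ind_eq_zero_of_vanish C _ y fun x c hx => starF_supp' hM S hs c fun hc => hy ?_
  have := two_dvd_of_overJ hM S hc
  rwa [← hx, show x⁻¹ * y * x = MulAut.conj x⁻¹ y by simp, MulEquiv.orderOf_eq] at this

/-- The value of a star at the central involution. -/
theorem starF_J (f : P → ℂ) :
    starF M b e χ₀ f (s ^ h) = ev s f h * (χ₀ : C → ℂ) (s ^ h) := by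
  haveI : Fact (Nat.Prime 2) := ⟨Nat.prime_two⟩
  have hu : ∃ k, orderOf (s ^ h : C) = 2 ^ k := ⟨1, by rw [← Subgroup.orderOf_coe, order_J hM S, pow_one]⟩
  have h0 := Star80Char.star_of_const (z0 := Star80Nilpotent.cl0 f) (c := ev s f h) hM S.hmax S.hmem hu
    (fun g hg => ?_) 1 (by rw [orderOf_one]; omega)
  · rw [Subgroup.coe_one, mul_one] at h0
    exact h0
  · have hg' : g * (s ^ h : C) * g⁻¹ = s ^ h := by
      rw [Subgroup.mem_center_iff.1 (J_center hM S) g, mul_inv_cancel_right]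
    rw [hg', Star80Nilpotent.cl0_of_mem _ (pow_mem S.dih.mem h), ev_eq S.dih]

theorem column_J {f : P → ℂ} (hf : IsClassFunction P f)
    (hs : ∀ x : P, f x ≠ 0 → (s ^ h : C) ∈ Subgroup.zpowers (x : C)) :
    ∑ χ : IrrCharacter G,
        conj (classInner (gfun M b e χ₀ χ) f) * (χ : G → ℂ) ((s ^ h : C) : G) =
      ev s f h * (χ₀ : C → ℂ) (s ^ h) := by
  rw [column_value hM S hf, ← starF_J hM S f]
  refine CharInduced.ind_eq_of_ti {g : G | ((s ^ h : C) : G) ∈ Subgroup.zpowers g} C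
    (fun g hg t ht ht' => (ti hM S hg ht ht').elim) _ (classFun_starF hM S hf)
    (starF_supp' hM S hs) (s ^ h) (Subgroup.mem_zpowers _) fun e1 => ?_
  have := order_J hM S
  rw [e1, Subgroup.coe_one, orderOf_one] at this
  omega

/-- Characters outside the block do not meet the columns. -/
theorem inner_eq_zero {χ : IrrCharacter G} (hχ : χ ∉ B) {f : P → ℂ} (hf : IsClassFunction P f)
    (hs : ∀ x : P, f x ≠ 0 → (s ^ h : C) ∈ Subgroup.zpowers (x : C)) :
    classInner (gfun M b e χ₀ χ) f = 0 := by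
  haveI : Fact (Nat.Prime 2) := ⟨Nat.prime_two⟩
  rw [← Star80Nilpotent.inner_starP_eq hM S.hmax S.hnil S.hmem S.height (classFun_gfun χ) hf,
    classInner]
  refine mul_eq_zero_of_right _ (Finset.sum_eq_zero fun c _ => ?_)
  by_cases hc : ((s ^ h : C) : G) ∈ Subgroup.zpowers (c : G)
  · refine mul_eq_zero_of_left ?_ _
    change starF M b e χ₀ (gfun M b e χ₀ χ) c = 0
    rw [starF_gfun hM S]
    refine BlockTheoryInduced.second_main_sum C hM S.ind c (fun z hz g hg => (S.hC g).2 ?_) χ hχ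
    rw [Subgroup.mem_centralizer_singleton_iff] at hg
    obtain ⟨y, hzy, hcomm, -, hy⟩ := hz
    obtain ⟨i, hi⟩ := hc
    have hi' : (c : G) ^ i = ((s ^ h : C) : G) := hi
    obtain ⟨k, hk⟩ : Odd (orderOf y) := Nat.odd_iff.mpr (by omega)
    have e1 : ((s ^ h : C) : G) = z ^ (i * (orderOf y : ℤ)) := by
      have h2 : ((s ^ h : C) : G) ^ orderOf y = ((s ^ h : C) : G) := by
        rw [hk, pow_succ, pow_mul, show ((s ^ h : C) : G) ^ 2 = 1 by
          rw [← order_J hM S, pow_orderOf_eq_one], one_pow, one_mul]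
      rw [← h2, ← hi', ← zpow_natCast, ← zpow_mul, ← hzy, hcomm.mul_zpow, mul_comm i,
        zpow_mul y, zpow_natCast y, pow_orderOf_eq_one, one_zpow, mul_one]
    rw [e1]
    exact ((show Commute g z from hg).zpow_right _).symm
  · refine mul_eq_zero_of_right _ ?_
    change conj (starF M b e χ₀ f c) = 0
    rw [starF_supp' hM S hs c hc, map_zero]

theorem eta_supp (j : ℕ) (x : P)
    (hx : eta P s ζ h j x ≠ 0) : (s ^ h : C) ∈ Subgroup.zpowers (x : C) :=
  J_mem_of_rotFun_ne_zero S.dih (tau_zero j) hx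

theorem coef_int (hζ : IsPrimitiveRoot ζ (2 * h)) (χ : IrrCharacter G) (j : ℕ) (hj : j < 2 * h) :
    ∃ z : ℤ, classInner (gfun M b e χ₀ χ) (eta P s ζ h j) = z := by
  choose k hk using exists_nat hM S χ
  choose z hz using fun ψ : IrrCharacter P => inner_eta_int S.dih hζ ψ hj
  refine ⟨∑ ψ : IrrCharacter P, (k ψ : ℤ) * z ψ, ?_⟩
  rw [gfun, CharInduced.inner_sum_left]
  push_cast
  exact Finset.sum_congr rfl fun ψ _ => by rw [CharInduced.inner_smul_left, hk, hz]

/-- The value of the nilpotent block character at the involution. -/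
theorem exists_sign : ∃ δ : ℤ, (δ = 1 ∨ δ = -1) ∧
    (χ₀ : C → ℂ) (s ^ h) = (δ : ℂ) * (charDegree (χ₀ : C → ℂ) : ℂ) := by
  have hz := J_center hM S
  have hJ2 : (s ^ h : C) * s ^ h = 1 := by rw [← pow_add, ← two_mul, pow_two_h S.dih]
  have h1 := S4716.lam_mul hz χ₀ (s ^ h)
  rw [hJ2] at h1
  have h2 : (χ₀ : C → ℂ) (s ^ h) = S4716.lam (s ^ h) χ₀ * (χ₀ : C → ℂ) 1 := by
    conv_lhs => rw [← mul_one (s ^ h)]
    exact S4716.lam_mul hz χ₀ 1
  have hne := BlockTheoryCentre.irr_one_ne_zero χ₀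
  rw [h2, ← mul_assoc] at h1
  have hl : S4716.lam (s ^ h) χ₀ * S4716.lam (s ^ h) χ₀ = 1 :=
    (mul_eq_right₀ hne).1 h1.symm
  rw [h2, ClassAlgebraVal.apply_one_eq_charDegree]
  rcases mul_self_eq_one_iff.1 hl with e1 | e1
  · exact ⟨1, Or.inl rfl, by rw [e1]; simp⟩
  · exact ⟨-1, Or.inr rfl, by rw [e1]; simp⟩

/-- Nonvanishing at the involution, and the heights. -/
theorem height_facts {χ : IrrCharacter G} (hχ : χ ∈ B) {z : ℤ}
    (hz : ev s (gfun M b e χ₀ χ) h = (z : ℂ)) :
    z ≠ 0 ∧ (¬ (2 : ℤ) ∣ z → blockHeight 2 B (χ : G → ℂ) = 0) ∧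
      (z = 2 ∨ z = -2 → blockHeight 2 B (χ : G → ℂ) = 1) := by
  haveI : Fact (Nat.Prime 2) := ⟨Nat.prime_two⟩
  obtain ⟨δ, hδ, hval⟩ := exists_sign hM S
  have hu : ∃ k, orderOf ((s ^ h : C) : G) = 2 ^ k := ⟨1, by rw [order_J hM S, pow_one]⟩
  obtain ⟨t₀, ht₀, ht₀n, hall⟩ := BlockMajorValue82.exists_value S.hC hM hu S.ind S.defect hχ
  have hcen : IsCen (MonoidAlgebra.single (s ^ h : C) (1 : ℂ)) := by
    rw [← BlockMajor81.classSum_central (J_center hM S)]; exact isCen_classSum _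
  have hint : IsInt M (MonoidAlgebra.single (s ^ h : C) (1 : ℂ)) := by
    rw [← BlockMajor81.classSum_central (J_center hM S)]; exact isInt_classSum hM _
  obtain ⟨t, ht, hcong, heq⟩ := hall _ hcen hint χ₀ S.hmem
  -- the left side
  have hlhs : chiSum (χ : G → ℂ) (incl C (MonoidAlgebra.single (s ^ h : C) (1 : ℂ) * idem b)) =
      (z : ℂ) * (χ₀ : C → ℂ) (s ^ h) := by
    rw [← hz, ← starF_J hM S, starF_gfun hM S, ← (isCen_idem b).comm, map_mul,
      show incl C (MonoidAlgebra.single (s ^ h : C) (1 : ℂ)) =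
        MonoidAlgebra.single ((s ^ h : C) : G) 1 by simp [incl],
      BlockTheoryInduced.chiSum_incl_mul_single]
    simp only [coeff_idem]
  -- the central character
  have hd0 : (charDegree (χ₀ : C → ℂ) : ℂ) ≠ 0 :=
    Nat.cast_ne_zero.2 (ClassAlgebraVal.charDegree_pos χ₀).ne'
  have hom : omega (χ₀ : C → ℂ) (MonoidAlgebra.single (s ^ h : C) (1 : ℂ)) = (δ : ℂ) := by
    rw [omega_apply, chiSum_single, one_mul, hval, ClassAlgebraVal.apply_one_eq_charDegree]
    field_simp
  rw [hom] at hcong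
  have hδi : MemLocalRing M (δ : ℂ) := intCast_mem (localRing hM) δ
  have hδ1 : (δ : ℂ) * δ = 1 := by rcases hδ with e1 | e1 <;> rw [e1] <;> norm_num
  have htn : ¬ MemLocalIdeal M t := fun htI => ht₀n (by
    have h1 := ideal_sub hM htI hcong
    rw [show t - (t - (δ : ℂ) * t₀) = (δ : ℂ) * t₀ by ring] at h1
    have h2 := ideal_mul_left hM hδi h1
    rwa [← mul_assoc, hδ1, one_mul] at h2)
  -- the degree
  obtain ⟨A, hA, hdeg⟩ : ∃ A : ℕ, ¬ 2 ∣ A ∧
      charDegree (χ₀ : C → ℂ) = 2 ^ BlockContrib.minExp 2 b * A := by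
    have h1 := BlockContrib.exp_eq_add (p := 2) S.hmem
    rw [S.height, add_zero] at h1
    exact ⟨_, Nat.not_dvd_ordCompl Nat.prime_two (ClassAlgebraVal.charDegree_pos χ₀).ne',
      by rw [← h1, Nat.ordProj_mul_ordCompl_eq_self]⟩
  rw [hlhs, hval, hdeg, pow_add] at heq
  push_cast at heq
  set k := BlockContrib.minExp 2 b
  set ht' := blockHeight 2 B (χ : G → ℂ)
  have heq' : ((z * δ * (A : ℤ) : ℤ) : ℂ) = (2 : ℂ) ^ ht' * t := by
    push_cast
    refine mul_left_cancel₀ (pow_ne_zero k (two_ne_zero : (2 : ℂ) ≠ 0)) ?_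
    linear_combination heq
  have hpos : 0 < ht' → MemLocalIdeal M ((2 : ℂ) ^ ht' * t) := fun h0 => by
    refine ideal_mul_right hM ?_ ht
    rw [show (2 : ℂ) ^ ht' = ((2 ^ ht' : ℕ) : ℂ) by push_cast; rfl, natCast_mem_iff hM]
    exact dvd_pow_self 2 h0.ne'
  have hodd : ∀ w : ℤ, ¬ (2 : ℤ) ∣ w → ¬ (2 : ℤ) ∣ w * δ * (A : ℤ) := by
    intro w hw hd
    rcases (Int.prime_two.dvd_mul.1 hd) with hd | hd
    · rcases hδ with e1 | e1 <;> rw [e1] at hd <;> omega
    · exact hA (by exact_mod_cast hd)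
  refine ⟨fun h0 => htn ?_, fun ho => ?_, fun h2 => ?_⟩
  · rw [h0, zero_mul, zero_mul, Int.cast_zero] at heq'
    rcases mul_eq_zero.1 heq'.symm with e1 | e1
    · exact absurd e1 (pow_ne_zero _ two_ne_zero)
    · rw [e1]; exact ideal_zero hM
  · by_contra hne
    have hI := hpos (Nat.pos_of_ne_zero hne)
    rw [← heq', BlockContrib.intCast_mem_iff hM] at hI
    exact hodd z ho (by exact_mod_cast hI)
  · have hz2 : ∃ w : ℤ, z = 2 * w ∧ ¬ (2 : ℤ) ∣ w := by
      rcases h2 with e1 | e1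
      · exact ⟨1, by rw [e1]; rfl, by omega⟩
      · exact ⟨-1, by rw [e1]; rfl, by omega⟩
    obtain ⟨w, rfl, hw⟩ := hz2
    rcases hn : ht' with _ | _ | q
    · exfalso
      rw [hn, pow_zero, one_mul] at heq'
      refine htn ?_
      rw [← heq', BlockContrib.intCast_mem_iff hM]
      exact ⟨w * δ * (A : ℤ), by push_cast; ring⟩
    · rfl
    · exfalso
      rw [hn] at heq'
      have h1 : ((w * δ * (A : ℤ) : ℤ) : ℂ) = (2 : ℂ) ^ (q + 1) * t := by
        refine mul_left_cancel₀ (two_ne_zero : (2 : ℂ) ≠ 0) ?_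
        push_cast at heq' ⊢
        linear_combination heq'
      have hI : MemLocalIdeal M ((2 : ℂ) ^ (q + 1) * t) := by
        refine ideal_mul_right hM ?_ ht
        rw [show (2 : ℂ) ^ (q + 1) = ((2 ^ (q + 1) : ℕ) : ℂ) by push_cast; rfl, natCast_mem_iff hM]
        exact dvd_pow_self 2 (Nat.succ_ne_zero q)
      rw [← h1, BlockContrib.intCast_mem_iff hM] at hI
      exact hodd w hw (by exact_mod_cast hI)

end Cfsg.Agent.DihedralDefectColumns79
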