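import Mathlib

/-!
# Integer columns of norms three and four meeting with product two

The shape of such a family, with the two exceptional configurations for `h = 4` as a hypothesis.
-/

set_option autoImplicit false
set_option linter.unusedSectionVars false

namespace Cfsg.Agent.DihedralDefectShape79

/-- The first exceptional configuration. -/
def patA : Fin 4 → Fin 5 → ℤ :=
  ![![0, 1, 1, 1, 0], ![1, 0, 1, 1, 0], ![1, 1, 0, 1, 0], ![1, 1, 1, 0, 1]]

/-- The second exceptional configuration. -/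
def patB : Fin 4 → Fin 5 → ℤ :=
  ![![1, 1, 1, 0, 0], ![1, 1, 0, 1, 0], ![1, 1, 0, 0, 1], ![1, 0, 1, 1, 1]]

variable {ι : Type*} [DecidableEq ι]

/-- The value at the central involution. -/
def valJ (c : ℕ → ι → ℤ) (h : ℕ) (x : ι) : ℤ :=
  c h x + 2 * ∑ j ∈ Finset.Ico 1 h, (-1) ^ j * c j x

/-- An exceptional configuration. -/
def IsExc (S : Finset ι) (c : ℕ → ι → ℤ) (pat : Fin 4 → Fin 5 → ℤ) : Prop :=
  ∃ (e : Fin 5 → ι) (ε : Fin 5 → ℤ), Function.Injective e ∧ (∀ x, x ∈ S ↔ ∃ i, e i = x) ∧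
    (∀ i, ε i = 1 ∨ ε i = -1) ∧ ∀ (k : Fin 4) (i : Fin 5), c ((k : ℕ) + 1) (e i) = ε i * pat k i

theorem alt_sum {h : ℕ} (hev : Even h) (h0 : 0 < h) :
    ∑ j ∈ Finset.Ico 1 h, (-1 : ℤ) ^ j = -1 := by
  have h1 := Finset.sum_range_eq_add_Ico (fun j => (-1 : ℤ) ^ j) h0
  rw [neg_one_geom_sum, if_pos hev, pow_zero] at h1
  omega

theorem five_injective {A B C D E : ι} (h1 : A ≠ B) (h2 : A ≠ C) (h3 : A ≠ D) (h4 : A ≠ E)
    (h5 : B ≠ C) (h6 : B ≠ D) (h7 : B ≠ E) (h8 : C ≠ D) (h9 : C ≠ E) (h10 : D ≠ E) :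
    Function.Injective ![A, B, C, D, E] := by
  rw [← List.nodup_ofFn]
  simp [List.ofFn_succ, h1, h2, h3, h4, h5, h6, h7, h8, h9, h10]

theorem row_patA (A B C D E : ι) :
    (Finset.univ.filter fun i => patA 0 i = 1).image ![A, B, C, D, E] = {B, C, D} ∧
    (Finset.univ.filter fun i => patA 1 i = 1).image ![A, B, C, D, E] = {A, C, D} ∧
    (Finset.univ.filter fun i => patA 2 i = 1).image ![A, B, C, D, E] = {A, B, D} ∧
    (Finset.univ.filter fun i => patA 3 i = 1).image ![A, B, C, D, E] = {A, B, C, E} := by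
  have r0 : (Finset.univ.filter fun i => patA 0 i = 1) = ({1, 2, 3} : Finset (Fin 5)) := by decide
  have r1 : (Finset.univ.filter fun i => patA 1 i = 1) = ({0, 2, 3} : Finset (Fin 5)) := by decide
  have r2 : (Finset.univ.filter fun i => patA 2 i = 1) = ({0, 1, 3} : Finset (Fin 5)) := by decide
  have r3 : (Finset.univ.filter fun i => patA 3 i = 1) = ({0, 1, 2, 4} : Finset (Fin 5)) := by decide
  simp [r0, r1, r2, r3]

theorem row_patB (A B C D E : ι) :
    (Finset.univ.filter fun i => patB 0 i = 1).image ![A, B, C, D, E] = {A, B, C} ∧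
    (Finset.univ.filter fun i => patB 1 i = 1).image ![A, B, C, D, E] = {A, B, D} ∧
    (Finset.univ.filter fun i => patB 2 i = 1).image ![A, B, C, D, E] = {A, B, E} ∧
    (Finset.univ.filter fun i => patB 3 i = 1).image ![A, B, C, D, E] = {A, C, D, E} := by
  have r0 : (Finset.univ.filter fun i => patB 0 i = 1) = ({0, 1, 2} : Finset (Fin 5)) := by decide
  have r1 : (Finset.univ.filter fun i => patB 1 i = 1) = ({0, 1, 3} : Finset (Fin 5)) := by decide
  have r2 : (Finset.univ.filter fun i => patB 2 i = 1) = ({0, 1, 4} : Finset (Fin 5)) := by decide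
  have r3 : (Finset.univ.filter fun i => patB 3 i = 1) = ({0, 2, 3, 4} : Finset (Fin 5)) := by decide
  simp [r0, r1, r2, r3]

theorem insert_perm3 (a b c : ι) : ({a, b, c} : Finset ι) = {b, c, a} := by
  ext x; simp; tauto

theorem erase_last {a b c d : ι} (h1 : a ≠ d) (h2 : b ≠ d) (h3 : c ≠ d) :
    ({a, b, c, d} : Finset ι).erase d = {c, a, b} := by
  ext x
  simp only [Finset.mem_erase, Finset.mem_insert, Finset.mem_singleton]
  constructor
  · rintro ⟨hne, rfl | rfl | rfl | rfl⟩ <;> simp at hne ⊢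
  · rintro (rfl | rfl | rfl)
    exacts [⟨h3, by simp⟩, ⟨h1, by simp⟩, ⟨h2, by simp⟩]

theorem exc_of_rows (S : Finset ι) (c : ℕ → ι → ℤ) (T : ℕ → Finset ι) (ε : ι → ℤ)
    (hε : ∀ x, ε x = 1 ∨ ε x = -1) (hTS : ∀ j, T j ⊆ S)
    (hc : ∀ x j, 0 < j → j ≤ 4 → x ∈ S → c j x = if x ∈ T j then ε x else 0)
    (hcover : ∀ x ∈ S, ∃ j, 0 < j ∧ j ≤ 4 ∧ x ∈ T j)
    (e : Fin 5 → ι) (pat : Fin 4 → Fin 5 → ℤ) (he : Function.Injective e)
    (hpat : ∀ k i, pat k i = 0 ∨ pat k i = 1) (hall : ∀ i, ∃ k, pat k i = 1)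
    (hrow : ∀ k : Fin 4, T ((k : ℕ) + 1) = (Finset.univ.filter fun i => pat k i = 1).image e) :
    IsExc S c pat := by
  have hmem : ∀ (k : Fin 4) i, e i ∈ T ((k : ℕ) + 1) ↔ pat k i = 1 := fun k i => by
    rw [hrow k, Finset.mem_image]
    exact ⟨fun ⟨i', hi', ee⟩ => he ee ▸ (Finset.mem_filter.1 hi').2,
      fun h1 => ⟨i, Finset.mem_filter.2 ⟨Finset.mem_univ _, h1⟩, rfl⟩⟩
  have heS : ∀ i, e i ∈ S := fun i => by
    obtain ⟨k, hk⟩ := hall i
    exact hTS _ ((hmem k i).2 hk)
  refine ⟨e, fun i => ε (e i), he, fun x => ⟨fun hx => ?_, ?_⟩, fun i => hε _, fun k i => ?_⟩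
  · obtain ⟨j, j0, j1, hj⟩ := hcover x hx
    obtain ⟨k, rfl⟩ : ∃ k : Fin 4, (k : ℕ) + 1 = j :=
      ⟨⟨j - 1, by omega⟩, show j - 1 + 1 = j by omega⟩
    rw [hrow k, Finset.mem_image] at hj
    obtain ⟨i, -, rfl⟩ := hj
    exact ⟨i, rfl⟩
  · rintro ⟨i, rfl⟩; exact heS i
  · have := k.2
    rw [hc (e i) _ (by omega) (by omega) (heS i)]
    rcases hpat k i with e' | e'
    · rw [if_neg fun hm => by rw [(hmem k i).1 hm] at e'; omega, e', mul_zero]
    · rw [if_pos ((hmem k i).2 e'), e', mul_one]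

/-- The regular configuration. -/
structure IsStd (S : Finset ι) (c : ℕ → ι → ℤ) (h : ℕ) (A B C D : ι) (L : ℕ → ι) (ε : ι → ℤ) :
    Prop where
  hAB : A ≠ B
  hCD : C ≠ D
  hKW : ∀ x ∈ ({A, B} : Finset ι), x ≠ C ∧ x ≠ D
  inj : ∀ i j, 0 < i → i < h → 0 < j → j < h → L i = L j → i = j
  out : ∀ j, 0 < j → j < h → L j ∉ ({A, B, C, D} : Finset ι)
  mem : ∀ x, x ∈ S ↔ x ∈ ({A, B, C, D} : Finset ι) ∨ ∃ j, 0 < j ∧ j < h ∧ L j = x
  sgn : ∀ x, ε x = 1 ∨ ε x = -1
  long : ∀ x ∈ S, c h x = if x ∈ ({A, B, C, D} : Finset ι) then ε x else 0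
  short : ∀ j, 0 < j → j < h → ∀ x ∈ S, c j x = if x ∈ ({L j, A, B} : Finset ι) then ε x else 0

set_option maxHeartbeats 1600000 in
/-- The shape of the family, or one of the two exceptional configurations. -/
theorem shape_cases (S : Finset ι) (c : ℕ → ι → ℤ) {h : ℕ} (hh : h = 1 ∨ h = 2 ∨ h = 4 ∨ 8 ≤ h)
    (hgram : ∀ i j, 0 < i → i ≤ h → 0 < j → j ≤ h →
      ∑ x ∈ S, c i x * c j x = if i = j then (if i = h then 4 else 3) else 2)
    (hlong : ∀ x ∈ S, c h x = 0 ∨ c h x = 1 ∨ c h x = -1)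
    (hcov : ∀ x ∈ S, ∃ j, 0 < j ∧ j ≤ h ∧ c j x ≠ 0) :
    (∃ (A B C D : ι) (L : ℕ → ι) (ε : ι → ℤ), IsStd S c h A B C D L ε) ∨
      (h = 4 ∧ (IsExc S c patA ∨ IsExc S c patB)) := by
  have hpos : 0 < h := by omega
  have hle : ∀ j, 0 < j → j ≤ h → ∀ x ∈ S,
      c j x * c j x ≤ if j = h then 4 else 3 := by
    intro j j0 j1 x hx
    have h1 := hgram j j j0 j1 j0 j1
    rw [if_pos rfl] at h1
    rw [← h1]
    exact Finset.single_le_sum (f := fun y => c j y * c j y) (fun y _ => mul_self_nonneg _) hx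
  have hentry : ∀ j, 0 < j → j ≤ h → ∀ x ∈ S, c j x = 0 ∨ c j x = 1 ∨ c j x = -1 := by
    intro j j0 j1 x hx
    have h1 := hle j j0 j1 x hx
    by_cases hjh : j = h
    · subst hjh
      exact hlong x hx
    · rw [if_neg hjh] at h1
      have : -1 ≤ c j x ∧ c j x ≤ 1 := ⟨by nlinarith, by nlinarith⟩
      omega
  let T : ℕ → Finset ι := fun j => S.filter fun x => c j x ≠ 0
  have hTmem : ∀ j x, x ∈ T j ↔ x ∈ S ∧ c j x ≠ 0 := fun j x => Finset.mem_filter
  have hTS : ∀ j, T j ⊆ S := fun j => Finset.filter_subset _ _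
  have hpm : ∀ j, 0 < j → j ≤ h → ∀ x ∈ T j, c j x = 1 ∨ c j x = -1 := fun j j0 j1 x hx =>
    (hentry j j0 j1 x ((hTmem j x).1 hx).1).resolve_left ((hTmem j x).1 hx).2
  have hTcard : ∀ j, 0 < j → j ≤ h → (T j).card = if j = h then 4 else 3 := by
    intro j j0 j1
    have h3 := hgram j j j0 j1 j0 j1
    rw [if_pos rfl, ← Finset.sum_subset (hTS j) fun x hx hn => by
      rw [not_not.1 fun h' => hn ((hTmem j x).2 ⟨hx, h'⟩), zero_mul],
      Finset.sum_congr rfl (g := fun _ => (1 : ℤ)) fun x hx => by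
        rcases hpm j j0 j1 x hx with e | e <;> rw [e] <;> norm_num, Finset.sum_const, nsmul_one] at h3
    split_ifs at h3 ⊢ <;> exact_mod_cast h3
  have hcap : ∀ i j, 0 < i → i ≤ h → 0 < j → j ≤ h → i ≠ j →
      (T i ∩ T j).card = 2 ∧ ∀ x ∈ T i ∩ T j, c i x = c j x := by
    intro i j i0 i1 j0 j1 hne
    have h3 := hgram i j i0 i1 j0 j1
    rw [if_neg hne, ← Finset.sum_subset (show T i ∩ T j ⊆ S from fun x hx =>
      hTS i (Finset.mem_inter.1 hx).1) fun x hx hn => by
        by_cases hxi : c i x = 0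
        · rw [hxi, zero_mul]
        · rw [not_not.1 fun h' => hn (Finset.mem_inter.2 ⟨(hTmem i x).2 ⟨hx, hxi⟩,
            (hTmem j x).2 ⟨hx, h'⟩⟩), mul_zero]] at h3
    have hp : ∀ x ∈ T i ∩ T j, 0 ≤ 1 - c i x * c j x ∧ (2 : ℤ) ∣ 1 - c i x * c j x := by
      intro x hx
      rw [Finset.mem_inter] at hx
      rcases hpm i i0 i1 x hx.1 with e | e <;> rcases hpm j j0 j1 x hx.2 with e' | e' <;>
        rw [e, e'] <;> norm_num
    have h4 : ∑ x ∈ T i ∩ T j, (1 - c i x * c j x) = ((T i ∩ T j).card : ℤ) - 2 := by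
      rw [Finset.sum_sub_distrib, h3, Finset.sum_const, nsmul_one]
    have h5 : (2 : ℤ) ∣ ((T i ∩ T j).card : ℤ) - 2 :=
      h4 ▸ Finset.dvd_sum fun x hx => (hp x hx).2
    have h6 : 0 ≤ ((T i ∩ T j).card : ℤ) - 2 := h4 ▸ Finset.sum_nonneg fun x hx => (hp x hx).1
    have h7 : (T i ∩ T j).card ≤ 3 := by
      rcases lt_or_gt_of_ne hne with hlt | hlt
      · exact le_trans (Finset.card_le_card Finset.inter_subset_left)
          (by rw [hTcard i i0 i1, if_neg (by omega)])
      · exact le_trans (Finset.card_le_card Finset.inter_subset_right)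
          (by rw [hTcard j j0 j1, if_neg (by omega)])
    have h8 : (T i ∩ T j).card = 2 := by omega
    refine ⟨h8, fun x hx => ?_⟩
    rw [h8] at h4
    have h9 := (Finset.sum_eq_zero_iff_of_nonneg fun y hy => (hp y hy).1).1
      (h4.trans (by norm_num)) x hx
    rw [Finset.mem_inter] at hx
    rcases hpm i i0 i1 x hx.1 with e | e <;> rcases hpm j j0 j1 x hx.2 with e' | e' <;>
      rw [e, e'] at h9 ⊢ <;> norm_num at h9
  have hcover : ∀ x ∈ S, ∃ j, 0 < j ∧ j ≤ h ∧ x ∈ T j := fun x hx => by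
    obtain ⟨j, j0, j1, hj⟩ := hcov x hx
    exact ⟨j, j0, j1, (hTmem j x).2 ⟨hx, hj⟩⟩
  have hsign : ∀ x, ∃ ε : ℤ, (ε = 1 ∨ ε = -1) ∧
      ∀ j, 0 < j → j ≤ h → x ∈ S → c j x = if x ∈ T j then ε else 0 := by
    intro x
    by_cases hx : x ∈ S
    · obtain ⟨j, j0, j1, hj⟩ := hcover x hx
      refine ⟨c j x, hpm j j0 j1 x hj, fun i i0 i1 _ => ?_⟩
      split_ifs with hi
      · by_cases hij : i = j
        · rw [hij]
        · exact (hcap i j i0 i1 j0 j1 hij).2 x (Finset.mem_inter.2 ⟨hi, hj⟩)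
      · exact not_not.1 fun h' => hi ((hTmem i x).2 ⟨hx, h'⟩)
    · exact ⟨1, Or.inl rfl, fun _ _ _ h' => absurd h' hx⟩
  choose ε hε hc using hsign
  -- a common pair gives the conclusion
  have hstd : ∀ K : Finset ι, K.card = 2 → (∀ j, 0 < j → j ≤ h → K ⊆ T j) →
      (∃ (A B C D : ι) (L : ℕ → ι) (ε : ι → ℤ), IsStd S c h A B C D L ε) ∨
        (h = 4 ∧ (IsExc S c patA ∨ IsExc S c patB)) := by
    intro K hK hsub
    left
    have hinter : ∀ i j, 0 < i → i ≤ h → 0 < j → j ≤ h → i ≠ j → T i ∩ T j = K :=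
      fun i j i0 i1 j0 j1 hne =>
        (Finset.eq_of_subset_of_card_le (fun x hx => Finset.mem_inter.2
          ⟨hsub i i0 i1 hx, hsub j j0 j1 hx⟩) (by rw [(hcap i j i0 i1 j0 j1 hne).1, hK])).symm
    obtain ⟨A, B, hAB, rfl⟩ := Finset.card_eq_two.1 hK
    obtain ⟨C, D, hCD, hCDe⟩ := Finset.card_eq_two.1
      (show (T h \ {A, B}).card = 2 by
        rw [Finset.card_sdiff_of_subset (hsub h hpos le_rfl), hTcard h hpos le_rfl, if_pos rfl, hK])
    have hTh : T h = ({A, B, C, D} : Finset ι) := by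
      rw [← Finset.sdiff_union_of_subset (hsub h hpos le_rfl), hCDe]
      ext x
      simp only [Finset.mem_union, Finset.mem_insert, Finset.mem_singleton]
      exact ⟨fun hx => hx.elim (fun hx => Or.inr (Or.inr hx))
          (fun hx => hx.elim Or.inl fun e => Or.inr (Or.inl e)),
        fun hx => hx.elim (fun e => Or.inr (Or.inl e))
          fun hx => hx.elim (fun e => Or.inr (Or.inr e)) Or.inl⟩
    have hKW : ∀ x ∈ ({A, B} : Finset ι), x ≠ C ∧ x ≠ D := fun x hx => by
      have : x ∉ ({C, D} : Finset ι) := fun hx' => (Finset.mem_sdiff.1 (hCDe.symm ▸ hx')).2 hx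
      simpa using this
    have hchoice : ∀ j, ∃ L, 0 < j → j < h →
        L ∉ ({A, B} : Finset ι) ∧ T j = ({L, A, B} : Finset ι) := fun j => by
      by_cases hj : 0 < j ∧ j < h
      · obtain ⟨L, hL⟩ := Finset.card_eq_one.1 (show (T j \ {A, B}).card = 1 by
          rw [Finset.card_sdiff_of_subset (hsub j hj.1 hj.2.le), hTcard j hj.1 hj.2.le,
            if_neg hj.2.ne, hK])
        refine ⟨L, fun _ _ => ⟨(Finset.mem_sdiff.1 (show L ∈ T j \ {A, B} by
          rw [hL]; exact Finset.mem_singleton_self L)).2, ?_⟩⟩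
        rw [← Finset.sdiff_union_of_subset (hsub j hj.1 hj.2.le), hL, ← Finset.insert_eq]
      · exact ⟨A, fun a a' => absurd ⟨a, a'⟩ hj⟩
    choose L hL using hchoice
    have hLT : ∀ j, 0 < j → j < h → L j ∈ T j := fun j j0 j1 => by
      rw [(hL j j0 j1).2]; exact Finset.mem_insert_self _ _
    have hout : ∀ j, 0 < j → j < h → L j ∉ T h := fun j j0 j1 hm => (hL j j0 j1).1 <| by
      rw [← hinter j h j0 j1.le hpos le_rfl j1.ne]
      exact Finset.mem_inter.2 ⟨hLT j j0 j1, hm⟩
    refine ⟨A, B, C, D, L, ε, hAB, hCD, hKW, fun i j i0 i1 j0 j1 e => ?_,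
      fun j j0 j1 => hTh ▸ hout j j0 j1, fun x => ?_, hε, fun x hx => ?_, fun j j0 j1 x hx => ?_⟩
    · by_contra hne
      refine (hL i i0 i1).1 ?_
      rw [← hinter i j i0 i1.le j0 j1.le hne]
      exact Finset.mem_inter.2 ⟨hLT i i0 i1, e ▸ hLT j j0 j1⟩
    · constructor
      · intro hx
        obtain ⟨j, j0, j1, hj⟩ := hcover x hx
        rcases lt_or_eq_of_le j1 with j1 | rfl
        · rw [(hL j j0 j1).2, Finset.mem_insert] at hj
          rcases hj with rfl | hj
          · exact Or.inr ⟨j, j0, j1, rfl⟩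
          · left
            rw [Finset.mem_insert, Finset.mem_singleton] at hj
            rcases hj with rfl | rfl <;> simp
        · exact Or.inl (hTh ▸ hj)
      · rintro (hx | ⟨j, j0, j1, rfl⟩)
        · exact hTS h (hTh ▸ hx)
        · exact hTS j (hLT j j0 j1)
    · rw [hc x h hpos le_rfl hx]
      simp only [hTh]
    · rw [hc x j j0 j1.le hx]
      simp only [(hL j j0 j1).2]
  rcases hh with h1 | h2 | h48
  · obtain ⟨K, hK, hK2⟩ := Finset.exists_subset_card_eq
      (show 2 ≤ (T h).card by rw [hTcard h hpos le_rfl, if_pos rfl]; norm_num)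
    exact hstd K hK2 fun j j0 j1 => by rw [show j = h by omega]; exact hK
  · refine hstd (T 1 ∩ T h) (hcap 1 h one_pos (by omega) hpos le_rfl (by omega)).1 fun j j0 j1 => ?_
    by_cases hj : j = 1
    · rw [hj]; exact Finset.inter_subset_left
    · rw [show j = h by omega]; exact Finset.inter_subset_right
  have h4le : 4 ≤ h := by omega
  obtain ⟨hK2, -⟩ := hcap 1 2 one_pos (by omega) two_pos (by omega) (by norm_num)
  by_cases hall : ∀ j, 0 < j → j < h → T 1 ∩ T 2 ⊆ T j
  · by_cases hKh : T 1 ∩ T 2 ⊆ T h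
    · refine hstd _ hK2 fun j j0 j1 => ?_
      rcases lt_or_eq_of_le j1 with hlt | heq
      · exact hall j j0 hlt
      · exact heq ▸ hKh
    -- the pair meets the long column once
    obtain ⟨B, hB, hBh⟩ := Finset.not_subset.1 hKh
    have hleaf : ∀ j, 0 < j → j < h → ∃ L, L ∉ T 1 ∩ T 2 ∧ T j = insert L (T 1 ∩ T 2) := by
      intro j j0 j1
      have h1 : (T j \ (T 1 ∩ T 2)).card = 1 := by
        rw [Finset.card_sdiff_of_subset (hall j j0 j1), hTcard j j0 j1.le, if_neg j1.ne, hK2]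
      obtain ⟨L, hL⟩ := Finset.card_eq_one.1 h1
      refine ⟨L, (Finset.mem_sdiff.1 (show L ∈ T j \ (T 1 ∩ T 2) by
        rw [hL]; exact Finset.mem_singleton_self L)).2, ?_⟩
      rw [← Finset.sdiff_union_of_subset (hall j j0 j1), hL, Finset.insert_eq]
    have hA : ∃ A ∈ T 1 ∩ T 2, A ∈ T h := by
      by_contra! hn
      obtain ⟨L, -, hL⟩ := hleaf 1 one_pos (by omega)
      have h1 : T 1 ∩ T h ⊆ {L} := fun x hx => by
        rw [Finset.mem_inter, hL, Finset.mem_insert] at hx
        exact Finset.mem_singleton.2 (hx.1.resolve_right fun hk => hn x hk hx.2)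
      have h2 := Finset.card_le_card h1
      rw [(hcap 1 h one_pos (by omega) hpos le_rfl (by omega)).1, Finset.card_singleton] at h2
      omega
    obtain ⟨A, hA, hAh⟩ := hA
    have hAB : A ≠ B := fun e => hBh (e ▸ hAh)
    have hK : T 1 ∩ T 2 = {A, B} := (Finset.eq_of_subset_of_card_le (by
      intro x hx
      rcases Finset.mem_insert.1 hx with rfl | hx
      · exact hA
      · exact (Finset.mem_singleton.1 hx) ▸ hB) (by rw [hK2, Finset.card_pair hAB])).symm
    have hchoice : ∀ j, ∃ L, 0 < j → j < h → L ∉ T 1 ∩ T 2 ∧ T j = insert L (T 1 ∩ T 2) := fun j => by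
      by_cases hj : 0 < j ∧ j < h
      · obtain ⟨L, hL⟩ := hleaf j hj.1 hj.2
        exact ⟨L, fun _ _ => hL⟩
      · exact ⟨A, fun a a' => absurd ⟨a, a'⟩ hj⟩
    choose L hL using hchoice
    have hLh : ∀ j, 0 < j → j < h → L j ∈ T h := by
      intro j j0 j1
      by_contra hn
      have h1 : T j ∩ T h ⊆ {A} := fun x hx => by
        rw [Finset.mem_inter, (hL j j0 j1).2, hK] at hx
        simp only [Finset.mem_insert, Finset.mem_singleton] at hx ⊢
        rcases hx.1 with rfl | rfl | rfl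
        · exact absurd hx.2 hn
        · rfl
        · exact absurd hx.2 hBh
      have h2 := Finset.card_le_card h1
      rw [(hcap j h j0 j1.le hpos le_rfl j1.ne).1, Finset.card_singleton] at h2
      omega
    have hinj : ∀ i j, 0 < i → i < h → 0 < j → j < h → L i = L j → i = j := by
      intro i j i0 i1 j0 j1 e
      by_contra hne
      have h1 := (hcap i j i0 i1.le j0 j1.le hne).1
      rw [(hL i i0 i1).2, (hL j j0 j1).2, e, Finset.inter_self,
        Finset.card_insert_of_notMem (hL j j0 j1).1, hK2] at h1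
      omega
    have hsub : insert A ((Finset.Ico 1 h).image L) ⊆ T h := by
      intro x hx
      rcases Finset.mem_insert.1 hx with rfl | hx
      · exact hAh
      · obtain ⟨j, hj, rfl⟩ := Finset.mem_image.1 hx
        rw [Finset.mem_Ico] at hj
        exact hLh j hj.1 hj.2
    have hcard : (insert A ((Finset.Ico 1 h).image L)).card = h := by
      rw [Finset.card_insert_of_notMem, Finset.card_image_of_injOn, Nat.card_Ico]
      · omega
      · intro i hi j hj hij
        rw [Finset.mem_coe, Finset.mem_Ico] at hi hj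
        exact hinj i j hi.1 hi.2 hj.1 hj.2 hij
      · intro hm
        obtain ⟨j, hj, e⟩ := Finset.mem_image.1 hm
        rw [Finset.mem_Ico] at hj
        exact (hL j hj.1 hj.2).1 (e.symm ▸ hA)
    have h4 : h = 4 := by
      have := Finset.card_le_card hsub
      rw [hcard, hTcard h hpos le_rfl, if_pos rfl] at this
      omega
    subst h4
    have hT4 : T 4 = {A, L 1, L 2, L 3} := by
      rw [← Finset.eq_of_subset_of_card_le hsub (by rw [hcard, hTcard 4 hpos le_rfl, if_pos rfl]),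
        show Finset.Ico 1 4 = ({1, 2, 3} : Finset ℕ) by decide]
      simp
    have hTj : ∀ j, 0 < j → j < 4 → T j = {L j, A, B} := fun j j0 j1 => by
      rw [(hL j j0 j1).2, hK]
    have hT1 := hTj 1 (by norm_num) (by norm_num)
    have hT2 := hTj 2 (by norm_num) (by norm_num)
    have hT3 := hTj 3 (by norm_num) (by norm_num)
    have d1 : ∀ j, 0 < j → j < 4 → L j ≠ A ∧ L j ≠ B := fun j j0 j1 => by
      have := (hL j j0 j1).1
      rw [hK] at this
      simpa using this
    obtain ⟨a1, b1⟩ := d1 1 (by norm_num) (by norm_num)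
    obtain ⟨a2, b2⟩ := d1 2 (by norm_num) (by norm_num)
    obtain ⟨a3, b3⟩ := d1 3 (by norm_num) (by norm_num)
    have l12 : L 1 ≠ L 2 := fun e => by
      have := hinj 1 2 (by norm_num) (by norm_num) (by norm_num) (by norm_num) e; omega
    have l13 : L 1 ≠ L 3 := fun e => by
      have := hinj 1 3 (by norm_num) (by norm_num) (by norm_num) (by norm_num) e; omega
    have l23 : L 2 ≠ L 3 := fun e => by
      have := hinj 2 3 (by norm_num) (by norm_num) (by norm_num) (by norm_num) e; omega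
    obtain ⟨r0, r1, r2, r3⟩ := row_patB A B (L 1) (L 2) (L 3)
    refine Or.inr ⟨rfl, Or.inr (exc_of_rows S c T ε hε hTS hc hcover ![A, B, L 1, L 2, L 3] patB
      (five_injective hAB a1.symm a2.symm a3.symm b1.symm b2.symm b3.symm l12 l13 l23)
      (by decide) (by decide) fun k => ?_)⟩
    fin_cases k
    · exact (hT1.trans (insert_perm3 _ _ _)).trans r0.symm
    · exact (hT2.trans (insert_perm3 _ _ _)).trans r1.symm
    · exact (hT3.trans (insert_perm3 _ _ _)).trans r2.symm
    · exact hT4.trans r3.symm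
  -- four triples on four points
  · push Not at hall
    obtain ⟨k, k0, k1, hk⟩ := hall
    obtain ⟨A, hA, hAk⟩ := Finset.not_subset.1 hk
    obtain ⟨B, hKe⟩ := Finset.card_eq_one.1 (show ((T 1 ∩ T 2).erase A).card = 1 by
      rw [Finset.card_erase_of_mem hA, hK2])
    have hB : B ≠ A ∧ B ∈ T 1 ∩ T 2 :=
      Finset.mem_erase.1 (by rw [hKe]; exact Finset.mem_singleton_self B)
    have hK : T 1 ∩ T 2 = {A, B} := by
      rw [← Finset.insert_erase hA, hKe]
    have hk1 : k ≠ 1 := fun e => hAk (e ▸ (Finset.mem_inter.1 hA).1)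
    have hk2 : k ≠ 2 := fun e => hAk (e ▸ (Finset.mem_inter.1 hA).2)
    have hX : ∀ i, (i = 1 ∨ i = 2) → ∃ L, L ∉ T 1 ∩ T 2 ∧ T i = {L, A, B} ∧ L ∈ T k ∧ B ∈ T k := by
      intro i hi
      have hsub : T 1 ∩ T 2 ⊆ T i := by
        rcases hi with rfl | rfl
        exacts [Finset.inter_subset_left, Finset.inter_subset_right]
      have h1 : (T i \ (T 1 ∩ T 2)).card = 1 := by
        rw [Finset.card_sdiff_of_subset hsub, hTcard i (by omega) (by omega), if_neg (by omega), hK2]
      obtain ⟨L, hL⟩ := Finset.card_eq_one.1 h1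
      have hLn : L ∉ T 1 ∩ T 2 := (Finset.mem_sdiff.1 (show L ∈ T i \ (T 1 ∩ T 2) by
        rw [hL]; exact Finset.mem_singleton_self L)).2
      have hTi : T i = {L, A, B} := by
        rw [← Finset.sdiff_union_of_subset hsub, hL, hK, ← Finset.insert_eq]
      have hLB : L ≠ B := fun e => hLn (e ▸ hB.2)
      have h2 : T i ∩ T k ⊆ {L, B} := fun x hx => by
        rw [Finset.mem_inter, hTi] at hx
        simp only [Finset.mem_insert, Finset.mem_singleton] at hx ⊢
        rcases hx.1 with rfl | rfl | rfl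
        · exact Or.inl rfl
        · exact absurd hx.2 hAk
        · exact Or.inr rfl
      have h3 := Finset.eq_of_subset_of_card_le h2 (by
        rw [(hcap i k (by omega) (by omega) k0 k1.le (by omega)).1, Finset.card_pair hLB])
      have h4 : ∀ x ∈ ({L, B} : Finset ι), x ∈ T k := fun x hx =>
        (Finset.mem_inter.1 (h3.symm ▸ hx : x ∈ T i ∩ T k)).2
      exact ⟨L, hLn, hTi, h4 L (by simp), h4 B (by simp)⟩
    obtain ⟨X, hXn, hT1, hXk, hBk⟩ := hX 1 (Or.inl rfl)
    obtain ⟨Y, hYn, hT2, hYk, -⟩ := hX 2 (Or.inr rfl)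
    rw [hK] at hXn hYn
    simp only [Finset.mem_insert, Finset.mem_singleton, not_or] at hXn hYn
    have hXY : X ≠ Y := fun e => by
      have := (hcap 1 2 one_pos (by omega) two_pos (by omega) (by norm_num)).1
      rw [hT1, hT2, e, Finset.inter_self, Finset.card_eq_three.2
        ⟨Y, A, B, hYn.1, hYn.2, hB.1.symm, rfl⟩] at this
      omega
    have hTk : T k = {B, X, Y} := by
      refine (Finset.eq_of_subset_of_card_le ?_ ?_).symm
      · intro x hx
        simp only [Finset.mem_insert, Finset.mem_singleton] at hx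
        rcases hx with rfl | rfl | rfl <;> assumption
      · rw [hTcard k k0 k1.le, if_neg k1.ne, Finset.card_eq_three.2
          ⟨B, X, Y, Ne.symm hXn.2, Ne.symm hYn.2, hXY, rfl⟩]
    set U : Finset ι := {A, B, X, Y} with hUdef
    have hUcard : U.card = 4 := by
      rw [hUdef, Finset.card_insert_of_notMem (by simp [hB.1.symm, Ne.symm hXn.1, Ne.symm hYn.1]),
        Finset.card_eq_three.2 ⟨B, X, Y, Ne.symm hXn.2, Ne.symm hYn.2, hXY, rfl⟩]
    have hTU : ∀ l, 0 < l → l < h → T l ⊆ U := by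
      intro l l0 l1
      by_cases e1 : l = 1
      · rw [e1, hT1, hUdef]; simp [Finset.insert_subset_iff]
      by_cases e2 : l = 2
      · rw [e2, hT2, hUdef]; simp [Finset.insert_subset_iff]
      by_cases ek : l = k
      · rw [ek, hTk, hUdef]; simp [Finset.insert_subset_iff]
      intro z hz
      by_contra hzU
      have hsmall : ∀ i, 0 < i → i < h → i ≠ l → T i ⊆ U → T l ∩ T i = (T l).erase z := by
        intro i i0 i1 hne hiU
        refine Finset.eq_of_subset_of_card_le (fun x hx => ?_) ?_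
        · rw [Finset.mem_inter] at hx
          exact Finset.mem_erase.2 ⟨fun e => hzU (e ▸ hiU hx.2), hx.1⟩
        · rw [Finset.card_erase_of_mem hz, hTcard l l0 l1.le, if_neg l1.ne,
            (hcap l i l0 l1.le i0 i1.le hne.symm).1]
      have i1 := hsmall 1 one_pos (by omega) (Ne.symm e1) (by rw [hT1, hUdef]; simp [Finset.insert_subset_iff])
      have i2 := hsmall 2 two_pos (by omega) (Ne.symm e2) (by rw [hT2, hUdef]; simp [Finset.insert_subset_iff])
      have ik := hsmall k k0 k1 (Ne.symm ek) (by rw [hTk, hUdef]; simp [Finset.insert_subset_iff])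
      have hBsub : (T l).erase z ⊆ {B} := fun x hx => by
        have a1 : x ∈ T 1 ∩ T 2 := Finset.mem_inter.2
          ⟨(Finset.mem_inter.1 (i1.symm ▸ hx : x ∈ T l ∩ T 1)).2,
            (Finset.mem_inter.1 (i2.symm ▸ hx : x ∈ T l ∩ T 2)).2⟩
        have a2 : x ∈ T k := (Finset.mem_inter.1 (ik.symm ▸ hx : x ∈ T l ∩ T k)).2
        rw [hK, Finset.mem_insert] at a1
        exact a1.resolve_left fun e => hAk (e ▸ a2)
      have := Finset.card_le_card hBsub
      rw [Finset.card_erase_of_mem hz, hTcard l l0 l1.le, if_neg l1.ne, Finset.card_singleton] at this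
      omega
    have h4 : h = 4 := by
      by_contra hne
      have hsub : (Finset.Ico 1 6).image T ⊆ U.powersetCard 3 := by
        intro s hs
        obtain ⟨l, hl, rfl⟩ := Finset.mem_image.1 hs
        rw [Finset.mem_Ico] at hl
        rw [Finset.mem_powersetCard]
        exact ⟨hTU l hl.1 (by omega), by rw [hTcard l hl.1 (by omega), if_neg (by omega)]⟩
      have h1 := Finset.card_le_card hsub
      rw [Finset.card_powersetCard, hUcard, Finset.card_image_of_injOn] at h1
      · rw [Nat.card_Ico] at h1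
        exact absurd h1 (by decide)
      · intro i hi j hj hij
        rw [Finset.mem_coe, Finset.mem_Ico] at hi hj
        by_contra hne'
        have := (hcap i j hi.1 (by omega) hj.1 (by omega) hne').1
        rw [hij, Finset.inter_self, hTcard j hj.1 (by omega), if_neg (by omega)] at this
        omega
    subst h4
    have hk3 : k = 3 := by omega
    subst hk3
    -- the long column
    have hinter : ∀ l p, 0 < l → l < 4 → p ∈ U → T l = U.erase p → p ∈ T 4 ∧ (T 4 ∩ U).card = 3 ∨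
        p ∉ T 4 ∧ (T 4 ∩ U).card = 2 := by
      intro l p l0 l1 hp he
      have h1 := (hcap l 4 l0 (by omega) (by norm_num) le_rfl (by omega)).1
      rw [he, Finset.erase_inter, Finset.inter_comm] at h1
      by_cases hp4 : p ∈ T 4
      · rw [Finset.card_erase_of_mem (Finset.mem_inter.2 ⟨hp4, hp⟩)] at h1
        exact Or.inl ⟨hp4, by omega⟩
      · rw [Finset.erase_eq_of_notMem fun hm => hp4 (Finset.mem_inter.1 hm).1] at h1
        exact Or.inr ⟨hp4, h1⟩
    have hAB : A ≠ B := hB.1.symm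
    have e1 : T 1 = U.erase Y := by
      rw [hT1, hUdef, erase_last (Ne.symm hYn.1) (Ne.symm hYn.2) hXY]
    have e2 : T 2 = U.erase X := by
      rw [hT2, hUdef, show ({A, B, X, Y} : Finset ι) = {A, B, Y, X} by rw [Finset.pair_comm X Y],
        erase_last (Ne.symm hXn.1) (Ne.symm hXn.2) hXY.symm]
    have e3 : T 3 = U.erase A := by
      rw [hTk, hUdef, Finset.erase_insert]
      simp [hAB, Ne.symm hXn.1, Ne.symm hYn.1]
    have q1 := hinter 1 Y (by norm_num) (by norm_num) (by simp [hUdef]) e1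
    have q2 := hinter 2 X (by norm_num) (by norm_num) (by simp [hUdef]) e2
    have q3 := hinter 3 A (by norm_num) (by norm_num) (by simp [hUdef]) e3
    have hx3 : (T 4 ∩ U).card = 3 := by
      by_contra hne
      have n1 := (q1.resolve_left fun q => hne q.2).1
      have n2 := (q2.resolve_left fun q => hne q.2).1
      have n3 := (q3.resolve_left fun q => hne q.2).1
      have hsub : T 4 ∩ U ⊆ {B} := fun x hx => by
        rw [Finset.mem_inter, hUdef] at hx
        simp only [Finset.mem_insert, Finset.mem_singleton] at hx ⊢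
        rcases hx.2 with rfl | rfl | rfl | rfl
        · exact absurd hx.1 n3
        · rfl
        · exact absurd hx.1 n2
        · exact absurd hx.1 n1
      have := Finset.card_le_card hsub
      rw [Finset.card_singleton] at this
      rcases q1 with q | q <;> omega
    have hY4 : Y ∈ T 4 := (q1.resolve_right fun q => by omega).1
    have hX4 : X ∈ T 4 := (q2.resolve_right fun q => by omega).1
    have hA4 : A ∈ T 4 := (q3.resolve_right fun q => by omega).1
    have hE1 : (T 4 \ U).card = 1 := by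
      rw [Finset.card_sdiff, hTcard 4 (by norm_num) le_rfl, if_pos rfl, Finset.inter_comm, hx3]
    obtain ⟨E, hE⟩ := Finset.card_eq_one.1 hE1
    have hEm := Finset.mem_sdiff.1 (show E ∈ T 4 \ U by rw [hE]; exact Finset.mem_singleton_self E)
    have hEU := hEm.2
    rw [hUdef] at hEU
    simp only [Finset.mem_insert, Finset.mem_singleton, not_or] at hEU
    obtain ⟨eA, eB, eX, eY⟩ := hEU
    have hT4 : T 4 = {Y, X, A, E} := by
      refine (Finset.eq_of_subset_of_card_le (fun x hx => ?_) ?_).symm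
      · simp only [Finset.mem_insert, Finset.mem_singleton] at hx
        rcases hx with rfl | rfl | rfl | rfl
        exacts [hY4, hX4, hA4, hEm.1]
      · rw [hTcard 4 (by norm_num) le_rfl, if_pos rfl, Finset.card_insert_of_notMem
          (by simp [hXY.symm, hYn.1, Ne.symm eY]), Finset.card_eq_three.2
          ⟨X, A, E, hXn.1, Ne.symm eX, Ne.symm eA, rfl⟩]
    obtain ⟨xA, xB⟩ := hXn
    obtain ⟨yA, yB⟩ := hYn
    obtain ⟨r0, r1, r2, r3⟩ := row_patA Y X A B E
    refine Or.inr ⟨rfl, Or.inl (exc_of_rows S c T ε hε hTS hc hcover ![Y, X, A, B, E] patA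
      (five_injective hXY.symm yA yB (Ne.symm eY) xA xB (Ne.symm eX) hAB (Ne.symm eA) (Ne.symm eB))
      (by decide) (by decide) fun k => ?_)⟩
    fin_cases k
    · exact hT1.trans r0.symm
    · exact hT2.trans r1.symm
    · refine hTk.trans (Eq.trans ?_ r2.symm)
      exact (insert_perm3 _ _ _).trans (Finset.insert_comm _ _ _)
    · exact hT4.trans r3.symm

/-- The shape of the family. -/
theorem shape (S : Finset ι) (c : ℕ → ι → ℤ) {h : ℕ} (hh : h = 2 ∨ h = 4 ∨ 8 ≤ h) (hev : Even h)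
    (hgram : ∀ i j, 0 < i → i ≤ h → 0 < j → j ≤ h →
      ∑ x ∈ S, c i x * c j x = if i = j then (if i = h then 4 else 3) else 2)
    (hv : ∀ x ∈ S, valJ c h x ≠ 0)
    (hexA : h = 4 → ¬ IsExc S c patA) (hexB : h = 4 → ¬ IsExc S c patB) :
    S.card = h + 3 ∧ (S.filter fun x => ¬ (2 : ℤ) ∣ valJ c h x).card = 4 ∧
      ∀ x ∈ S, (2 : ℤ) ∣ valJ c h x → valJ c h x = 2 ∨ valJ c h x = -2 := by
  have hpos : 0 < h := by omega
  have hlong : ∀ x ∈ S, c h x = 0 ∨ c h x = 1 ∨ c h x = -1 := by
    intro x hx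
    generalize hj : h = j at *
    have j0 : 0 < j := hpos
    have h1 : c j x * c j x ≤ 4 := by
      have h2 := hgram j j j0 le_rfl j0 le_rfl
      rw [if_pos rfl, if_pos rfl] at h2
      rw [← h2]
      exact Finset.single_le_sum (f := fun y => c j y * c j y) (fun y _ => mul_self_nonneg _) hx
    have h2 : -2 ≤ c j x ∧ c j x ≤ 2 := ⟨by nlinarith, by nlinarith⟩
    by_contra hne
    have hpm : c j x = 2 ∨ c j x = -2 := by omega
    -- all other entries vanish
    have hsum := hgram j j j0 le_rfl j0 le_rfl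
    rw [if_pos rfl, if_pos rfl, ← Finset.add_sum_erase S _ hx] at hsum
    have hrest : ∀ y ∈ S.erase x, c j y * c j y = 0 := by
      refine (Finset.sum_eq_zero_iff_of_nonneg fun y _ => mul_self_nonneg _).1 ?_
      rcases hpm with e | e <;> rw [e] at hsum <;> linarith
    refine hv x hx ?_
    have hall : ∀ i ∈ Finset.Ico 1 j, (-1 : ℤ) ^ i * c i x = (-1) ^ i * (c j x / 2) := by
      intro i hi
      rw [Finset.mem_Ico] at hi
      have h3 := hgram i j hi.1 hi.2.le j0 le_rfl
      rw [if_neg hi.2.ne, ← Finset.add_sum_erase S _ hx, Finset.sum_eq_zero fun y hy => by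
        rw [mul_self_eq_zero.1 (hrest y hy), mul_zero], add_zero] at h3
      congr 1
      rcases hpm with e | e <;> rw [e] at h3 ⊢ <;> omega
    rw [valJ, Finset.sum_congr rfl hall, ← Finset.sum_mul, alt_sum hev j0]
    rcases hpm with e | e <;> rw [e] <;> rfl
  have hcov : ∀ x ∈ S, ∃ j, 0 < j ∧ j ≤ h ∧ c j x ≠ 0 := by
    intro x hx
    by_contra! hz
    refine hv x hx ?_
    rw [valJ, hz h hpos le_rfl, Finset.sum_eq_zero fun j hj => by
      rw [Finset.mem_Ico] at hj
      rw [hz j hj.1 hj.2.le, mul_zero]]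
    rfl
  rcases shape_cases S c (Or.inr hh) hgram hlong hcov with
    ⟨A, B, C, D, L, ε, hstd⟩ | ⟨h4, hA | hB⟩
  · classical
    have hS : S = ({A, B, C, D} : Finset ι) ∪ (Finset.Ico 1 h).image L := by
      ext x
      rw [hstd.mem x, Finset.mem_union, Finset.mem_image]
      simp only [Finset.mem_Ico, and_assoc, Nat.one_le_iff_ne_zero, Nat.pos_iff_ne_zero]
    have h4 : ({A, B, C, D} : Finset ι).card = 4 := by
      obtain ⟨hAC, hAD⟩ := hstd.hKW A (by simp)
      obtain ⟨hBC, hBD⟩ := hstd.hKW B (by simp)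
      rw [Finset.card_insert_of_notMem (by simp [hstd.hAB, hAC, hAD]),
        Finset.card_eq_three.2 ⟨B, C, D, hBC, hBD, hstd.hCD, rfl⟩]
    have hodd : ∀ x ∈ S, (¬ (2 : ℤ) ∣ valJ c h x ↔ x ∈ ({A, B, C, D} : Finset ι)) := by
      intro x hx
      rw [valJ, dvd_add_left (dvd_mul_right 2 _), hstd.long x hx]
      rcases hstd.sgn x with e | e <;> split_ifs with hm <;> simp [hm, e]
    refine ⟨?_, ?_, fun x hx hd => ?_⟩
    · rw [hS, Finset.card_union_of_disjoint, h4, Finset.card_image_of_injOn, Nat.card_Ico]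
      · omega
      · intro i hi j hj e
        rw [Finset.mem_coe, Finset.mem_Ico] at hi hj
        exact hstd.inj i j hi.1 hi.2 hj.1 hj.2 e
      · rw [Finset.disjoint_right]
        intro x hx
        obtain ⟨j, hj, rfl⟩ := Finset.mem_image.1 hx
        rw [Finset.mem_Ico] at hj
        exact hstd.out j hj.1 hj.2
    · rw [← h4]
      congr 1
      ext x
      rw [Finset.mem_filter]
      exact ⟨fun hm => (hodd x hm.1).1 hm.2,
        fun hm => ⟨(hstd.mem x).2 (Or.inl hm), (hodd x ((hstd.mem x).2 (Or.inl hm))).2 hm⟩⟩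
    · have hxW : x ∉ ({A, B, C, D} : Finset ι) := fun hm => (hodd x hx).2 hm hd
      obtain ⟨j, j0, j1, rfl⟩ := ((hstd.mem x).1 hx).resolve_left hxW
      rw [valJ, hstd.long _ hx, if_neg hxW, Finset.sum_eq_single_of_mem j
        (Finset.mem_Ico.2 ⟨j0, j1⟩), hstd.short j j0 j1 _ hx, if_pos (Finset.mem_insert_self _ _)]
      · rcases neg_one_pow_eq_or ℤ j with e | e <;>
          rcases hstd.sgn (L j) with e' | e' <;> rw [e, e'] <;> norm_num
      · intro i hi hne
        rw [Finset.mem_Ico] at hi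
        rw [hstd.short i hi.1 hi.2 _ hx, if_neg, mul_zero]
        intro hm
        simp only [Finset.mem_insert, Finset.mem_singleton] at hm
        rcases hm with e | e | e
        · exact hne (hstd.inj j i j0 j1 hi.1 hi.2 e).symm
        · exact hxW (by simp [e])
        · exact hxW (by simp [e])
  · exact absurd hA (hexA h4)
  · exact absurd hB (hexB h4)

end Cfsg.Agent.DihedralDefectShape79
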