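import Mathlib
import Cfsg.Agent.Lib.DihedralDefectColumns79
import Cfsg.Agent.Lib.DihedralDefectShape79
import Cfsg.Agent.Lib.DihedralClassSums79
import Cfsg.Agent.Lib.CharAverage

/-!
# A 2-block with dihedral defect group: no exceptional configuration

The triple products of conjugates of the central involution inside the section of a rotation.
-/

set_option autoImplicit false
set_option linter.unusedSectionVars false

open scoped ComplexConjugate

namespace Cfsg.Agent.DihedralDefectExclude79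

open Cfsg Cfsg.Agent.DihedralDefectGroup79 Cfsg.Agent.DihedralDefectLocal79
open Cfsg.Agent.DihedralDefectColumns79 Cfsg.Agent.DihedralDefectShape79
open Cfsg.Agent.BrauerPairs81Base Cfsg.Agent.DihedralClassSums79
open Cfsg.Agent.BlockTheoryCentre

attribute [local instance] Classical.propDecidable

universe u

section Average

variable {H : Type u} [Group H] [Fintype H]

/-- A class function weight turns sums over pairs into products of sums. -/
theorem sum_pairs_mul (w : H → ℂ) (hw : ∀ u x, w (x * u * x⁻¹) = w u) (ξ : IrrCharacter H) :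
    ∑ u, ∑ v, w u * w v * (ξ : H → ℂ) (u * v) =
      (∑ u, w u * (ξ : H → ℂ) u) ^ 2 / (ξ : H → ℂ) 1 := by
  have hshift : ∀ (x : H) (f : H → ℂ), ∑ u, w u * f (x * u * x⁻¹) = ∑ u, w u * f u := by
    intro x f
    rw [← Equiv.sum_comp (MulAut.conj x).toEquiv (fun u => w u * f u)]
    exact Finset.sum_congr rfl fun u _ => by simp [hw]
  have hone : ∀ x y : H, ∑ u, ∑ v, w u * w v * (ξ : H → ℂ) (x * u * x⁻¹ * (y * v * y⁻¹)) =
      ∑ u, ∑ v, w u * w v * (ξ : H → ℂ) (u * v) := by
    intro x y
    simp only [mul_assoc (w _), ← Finset.mul_sum]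
    rw [hshift x fun u => ∑ v, w v * (ξ : H → ℂ) (u * (y * v * y⁻¹))]
    exact Finset.sum_congr rfl fun u _ => by rw [hshift y fun v => (ξ : H → ℂ) (u * v)]
  have hH : (Nat.card H : ℂ) ≠ 0 := Nat.cast_ne_zero.2 Nat.card_pos.ne'
  have h1 : (Nat.card H : ℂ) ^ 2 * ∑ u, ∑ v, w u * w v * (ξ : H → ℂ) (u * v) =
      (Nat.card H : ℂ) ^ 2 * ((∑ u, w u * (ξ : H → ℂ) u) ^ 2 / (ξ : H → ℂ) 1) := by
    calc _ = ∑ x : H, ∑ y : H, ∑ u, ∑ v, w u * w v * (ξ : H → ℂ) (x * u * x⁻¹ * (y * v * y⁻¹)) := by
          simp only [hone, Finset.sum_const, Finset.card_univ, nsmul_eq_mul,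
            ← Nat.card_eq_fintype_card]
          ring
      _ = ∑ u, ∑ v, w u * w v * ∑ x : H, ∑ y : H, (ξ : H → ℂ) (x * u * x⁻¹ * (y * v * y⁻¹)) := by
          simp only [Finset.mul_sum]
          rw [Finset.sum_congr rfl fun x _ => Finset.sum_comm, Finset.sum_comm]
          refine Finset.sum_congr rfl fun u _ => ?_
          rw [Finset.sum_congr rfl fun x _ => Finset.sum_comm, Finset.sum_comm]
      _ = _ := by
          rw [pow_two (∑ u, w u * (ξ : H → ℂ) u), Finset.sum_mul_sum, Finset.sum_div, Finset.mul_sum]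
          refine Finset.sum_congr rfl fun u _ => ?_
          rw [Finset.sum_div, Finset.mul_sum]
          exact Finset.sum_congr rfl fun v _ => by rw [CharAverage.sum_conj_mul_conj]; ring
  exact mul_left_cancel₀ (pow_ne_zero 2 hH) h1

end Average

variable {G : Type u} [Group G] [Fintype G] {M : Ideal AlgInt} {B : Set (IrrCharacter G)} {h : ℕ}
  {C : Subgroup G} {b : Set (IrrCharacter C)} {P : Subgroup C} {e : Set (IrrCharacter (Cen P))}
  {s : C} {χ₀ : IrrCharacter C}

variable (hM : IsPModular 2 M) (S : Sect M B h C b P e s χ₀)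
include hM S

set_option maxHeartbeats 1600000 in
/-- The triple products in the section over the involution. -/
theorem sum_J {η : P → ℂ} (hη : IsClassFunction P η)
    (hs : ∀ x : P, η x ≠ 0 → (s ^ h : C) ∈ Subgroup.zpowers (x : C))
    (hlin : ∀ ψ : IrrCharacter P, (∀ a, Even a → ev s (ψ : P → ℂ) a = 1) →
      classInner (ψ : P → ℂ) η = 0) :
    ∑ χ ∈ BlockContribBounds.members B,
      (χ : G → ℂ) ((s ^ h : C) : G) ^ 2 / (χ : G → ℂ) 1 * classInner (gfun M b e χ₀ χ) η = 0 := by
  haveI : Fact (Nat.Prime 2) := ⟨Nat.prime_two⟩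
  set J : G := ((s ^ h : C) : G) with hJdef
  have hJ2 : J * J = 1 := by
    rw [← pow_two, ← order_J hM S, pow_orderOf_eq_one]
  -- the weight
  set w : C → ℂ := fun u => if u = s ^ h then 0 else
    ((Finset.univ.filter fun a : G => a * J * a⁻¹ = (u : G)).card : ℂ) with hw
  have hwc : ∀ u x : C, w (x * u * x⁻¹) = w u := by
    intro u x
    have hiff : x * u * x⁻¹ = s ^ h ↔ u = s ^ h := by
      constructor
      · intro e1
        rw [mul_inv_eq_iff_eq_mul, ← Subgroup.mem_center_iff.1 (J_center hM S) x] at e1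
        exact mul_left_cancel e1
      · intro e1
        rw [e1, Subgroup.mem_center_iff.1 (J_center hM S) x, mul_inv_cancel_right]
    simp only [hw]
    refine if_congr hiff rfl ?_
    congr 1
    refine Finset.card_equiv (Equiv.mulLeft ((x : G)⁻¹)) fun a => ?_
    simp only [Finset.mem_filter, Finset.mem_univ, true_and, Equiv.coe_mulLeft, Subgroup.coe_mul,
      Subgroup.coe_inv]
    constructor
    · intro e1
      calc (x : G)⁻¹ * a * J * ((x : G)⁻¹ * a)⁻¹ = (x : G)⁻¹ * (a * J * a⁻¹) * x := by group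
        _ = u := by rw [e1]; group
    · intro e1
      rw [← e1]; group
  -- the stars of the characters against the weight
  have hweight : ∀ ψ : IrrCharacter P, classInner η (ψ : P → ℂ) *
      ∑ u : C, ∑ v : C, w u * w v * starF M b e χ₀ (ψ : P → ℂ) (u * v) = 0 := by
    intro ψ
    rcases irr_cases S.dih ψ with hl | hv
    · refine mul_eq_zero_of_left ?_ _
      rw [← CharInduced.inner_conj_symm, hlin ψ hl, map_zero]
    refine mul_eq_zero_of_right _ ?_
    obtain ⟨Φ, hΦ⟩ := Star80Nilpotent.exists_equiv hM S.hmax S.hnil S.hmem S.height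
    rw [starF, ← hΦ, sum_pairs_mul w hwc (Φ ψ : IrrCharacter C), hΦ]
    rw [Finset.sum_eq_zero fun u _ => ?_, zero_pow two_ne_zero, zero_div]
    by_cases hwu : w u = 0
    · rw [hwu, zero_mul]
    refine mul_eq_zero_of_right _ ?_
    have hne : u ≠ s ^ h := fun e1 => hwu (by simp [hw, e1])
    simp only [hw, if_neg hne, Nat.cast_eq_zero] at hwu
    obtain ⟨a, ha⟩ := Finset.card_ne_zero.1 hwu
    rw [Finset.mem_filter] at ha
    have huo : orderOf u = 2 := by
      rw [← Subgroup.orderOf_coe, ← ha.2, show a * J * a⁻¹ = MulAut.conj a J from rfl,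
        MulEquiv.orderOf_eq, hJdef, order_J hM S]
    have h0 := Star80Char.star_of_const (z0 := Star80Nilpotent.cl0 (ψ : P → ℂ)) (c := 0) hM S.hmax
      S.hmem (u := u) ⟨1, by rw [huo, pow_one]⟩ (fun g hg => ?_) 1 (by rw [orderOf_one]; omega)
    · rw [Subgroup.coe_one, mul_one, zero_mul] at h0
      exact h0
    · rw [Star80Nilpotent.cl0_of_mem _ hg]
      refine hv _ fun hrot => hne ?_
      have hgo : orderOf (g * u * g⁻¹) = 2 := by
        rw [show g * u * g⁻¹ = MulAut.conj g u from rfl, MulEquiv.orderOf_eq, huo]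
      rcases sq_one_rot S.dih hrot (by rw [← pow_two, ← hgo, pow_orderOf_eq_one]) with e1 | e1
      · change g * u * g⁻¹ = 1 at e1
        rw [e1, orderOf_one] at hgo; omega
      · change g * u * g⁻¹ = s ^ h at e1
        rw [mul_inv_eq_iff_eq_mul, ← Subgroup.mem_center_iff.1 (J_center hM S) g] at e1
        exact mul_left_cancel e1
  have hzero : ∑ u : C, ∑ v : C, w u * w v * starF M b e χ₀ η (u * v) = 0 := by
    rw [starF_eq_sum hM S hη]
    simp only [Finset.sum_apply, Pi.smul_apply, smul_eq_mul, Finset.mul_sum]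
    rw [Finset.sum_congr rfl fun u _ => Finset.sum_comm, Finset.sum_comm]
    refine Finset.sum_eq_zero fun ψ _ => ?_
    refine Eq.trans ?_ (hweight ψ)
    simp only [Finset.mul_sum]
    exact Finset.sum_congr rfl fun u _ => Finset.sum_congr rfl fun v _ => by ring
  -- the sum over pairs of conjugators
  set F : G → ℂ := extendByZero C (fun c => conj (starF M b e χ₀ η c)) with hF
  have hpair : ∑ ab : G × G, F (ab.1 * J * ab.1⁻¹ * (ab.2 * J * ab.2⁻¹)) = 0 := by
    have hsupp : ∀ z : G, F z ≠ 0 → ((s ^ h : C) : G) ∈ Subgroup.zpowers z := by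
      intro z hz
      by_cases hzC : z ∈ C
      · rw [hF, CharInduced.ext_zero_of_mem _ hzC] at hz
        by_contra hn
        exact hz (by rw [starF_supp' hM S hs ⟨z, hzC⟩ hn, map_zero])
      · exact absurd (CharInduced.ext_zero_of_not_mem _ hzC) hz
    have hcomm : ∀ x y : G, x * x = 1 → y * y = 1 → J ∈ Subgroup.zpowers (x * y) → x ∈ C := by
      intro x y hx hy hm
      obtain ⟨i, hi⟩ := hm
      have hi' : (x * y) ^ i = J := hi
      refine (S.hC x).2 ?_
      change Commute J x
      have h1 : x * (x * y) * x⁻¹ = (x * y)⁻¹ := by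
        rw [inv_eq_of_mul_eq_one_right hx, mul_inv_rev, inv_eq_of_mul_eq_one_right hx,
          inv_eq_of_mul_eq_one_right hy, ← mul_assoc x, hx, one_mul]
      have h2 : x * J * x⁻¹ = J := by
        rw [← hi', ← conj_zpow, h1, inv_zpow, hi']
        exact inv_eq_of_mul_eq_one_right hJ2
      exact (mul_inv_eq_iff_eq_mul.1 h2).symm
    have hinvol : ∀ a : G, a * J * a⁻¹ * (a * J * a⁻¹) = 1 := fun a => by
      rw [show a * J * a⁻¹ * (a * J * a⁻¹) = a * (J * J) * a⁻¹ by group, hJ2]; group
    set good : G → Prop := fun x => x ∈ C ∧ x ≠ J with hgood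
    have hne1 : ∀ a : G, a * J * a⁻¹ ≠ 1 := fun a e1 => by
      have := order_J hM S
      rw [← hJdef, show J = a⁻¹ * (a * J * a⁻¹) * a by group, e1] at this
      simp at this
    have hgood' : ∀ a c : G, F (a * J * a⁻¹ * (c * J * c⁻¹)) ≠ 0 →
        good (a * J * a⁻¹) ∧ good (c * J * c⁻¹) := by
      intro a c hne
      have hm := hsupp _ hne
      have hzC := mem_of_overJ hM S hm
      have huC := hcomm _ _ (hinvol a) (hinvol c) hm
      have hvC : c * J * c⁻¹ ∈ C := by
        have := mul_mem (inv_mem huC) hzC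
        rwa [inv_mul_cancel_left] at this
      have key : ∀ x y : G, x * x = 1 → y * y = 1 → x * y ≠ 1 → J ∈ Subgroup.zpowers (x * y) →
          Commute x y → J = x * y := by
        intro x y hx hy hxy hm hc
        obtain ⟨i, hi⟩ := hm
        have hi' : (x * y) ^ i = J := hi
        have h2 : (x * y) * (x * y) = 1 := by
          rw [hc.symm.mul_mul_mul_comm, hx, hy, one_mul]
        rcases Int.even_or_odd i with ⟨q, hq⟩ | ⟨q, hq⟩
        · rw [hq, zpow_add, ← (Commute.refl (x * y)).mul_zpow, h2, one_zpow] at hi'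
          exact absurd hi'.symm (fun e1 => by
            have := order_J hM S
            rw [← hJdef, e1, orderOf_one] at this
            omega)
        · rw [hq, two_mul, zpow_add, zpow_add, ← (Commute.refl (x * y)).mul_zpow, h2, one_zpow,
            one_mul, zpow_one] at hi'
          exact hi'.symm
      have hxy : a * J * a⁻¹ * (c * J * c⁻¹) ≠ 1 := fun e1 => by
        rw [e1] at hm
        have := two_dvd_of_overJ hM S hm
        rw [orderOf_one] at this
        omega
      refine ⟨⟨huC, fun e1 => hne1 c ?_⟩, hvC, fun e1 => hne1 a ?_⟩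
      · have hc : Commute (a * J * a⁻¹) (c * J * c⁻¹) := by
          rw [e1]; exact (S.hC _).1 hvC
        have := key _ _ (hinvol a) (hinvol c) hxy hm hc
        rw [e1] at this
        exact mul_eq_left.1 this.symm
      · have hc : Commute (a * J * a⁻¹) (c * J * c⁻¹) := by
          rw [e1]; exact ((S.hC _).1 huC).symm
        have := key _ _ (hinvol a) (hinvol c) hxy hm hc
        rw [e1] at this
        exact mul_eq_right.1 this.symm
    set ind : G → C → ℂ := fun a u => if (u : G) = a * J * a⁻¹ ∧ u ≠ s ^ h then 1 else 0 with hind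
    have hwind : ∀ u : C, ∑ a : G, ind a u = w u := by
      intro u
      simp only [hw, hind]
      by_cases hu : u = s ^ h
      · simp [hu]
      · rw [if_neg hu, Finset.sum_boole]
        congr 2
        exact Finset.filter_congr fun a _ => ⟨fun h' => h'.1.symm, fun h' => ⟨h'.symm, hu⟩⟩
    have hexp : ∀ a c : G, F (a * J * a⁻¹ * (c * J * c⁻¹)) =
        ∑ u : C, ∑ v : C, ind a u * ind c v * conj (starF M b e χ₀ η (u * v)) := by
      intro a c
      have hFuv : ∀ u v : C, F ((u : G) * (v : G)) = conj (starF M b e χ₀ η (u * v)) := fun u v => by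
        rw [hF, ← Subgroup.coe_mul, CharInduced.ext_zero_coe]
      have hzero' : ∀ u v : C, (u : G) = a * J * a⁻¹ → (v : G) = c * J * c⁻¹ →
          conj (starF M b e χ₀ η (u * v)) = F (a * J * a⁻¹ * (c * J * c⁻¹)) := fun u v hu hv => by
        rw [← hFuv, hu, hv]
      by_cases hne : F (a * J * a⁻¹ * (c * J * c⁻¹)) = 0
      · rw [hne]
        refine (Finset.sum_eq_zero fun u _ => Finset.sum_eq_zero fun v _ => ?_).symm
        simp only [hind]
        split_ifs with hu hv
        · rw [hzero' u v hu.1 hv.1, hne, mul_zero]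
        all_goals simp only [mul_zero, zero_mul]
      · obtain ⟨hga, hgc⟩ := hgood' a c hne
        obtain ⟨u, hu⟩ : ∃ u : C, (u : G) = a * J * a⁻¹ := ⟨⟨_, hga.1⟩, rfl⟩
        obtain ⟨v, hv⟩ : ∃ v : C, (v : G) = c * J * c⁻¹ := ⟨⟨_, hgc.1⟩, rfl⟩
        have hu' : u ≠ s ^ h := fun e2 => hga.2 (by rw [← hu, e2])
        have hv' : v ≠ s ^ h := fun e2 => hgc.2 (by rw [← hv, e2])
        rw [Finset.sum_eq_single u, Finset.sum_eq_single v]
        · simp only [hind]
          rw [if_pos ⟨hu, hu'⟩, if_pos ⟨hv, hv'⟩, one_mul, one_mul, hzero' u v hu hv]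
        · intro x _ hx
          simp only [hind]
          rw [if_neg (show ¬ ((x : G) = c * J * c⁻¹ ∧ x ≠ s ^ h) from
            fun h' => hx (Subtype.ext (h'.1.trans hv.symm))), mul_zero, zero_mul]
        · exact fun hn => absurd (Finset.mem_univ _) hn
        · intro x _ hx
          refine Finset.sum_eq_zero fun y _ => ?_
          simp only [hind]
          rw [if_neg (show ¬ ((x : G) = a * J * a⁻¹ ∧ x ≠ s ^ h) from
            fun h' => hx (Subtype.ext (h'.1.trans hu.symm))), zero_mul, zero_mul]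
        · exact fun hn => absurd (Finset.mem_univ _) hn
    rw [Fintype.sum_prod_type]
    calc ∑ a : G, ∑ c : G, F (a * J * a⁻¹ * (c * J * c⁻¹))
        = ∑ u : C, ∑ v : C, (∑ a : G, ind a u) * (∑ c : G, ind c v) *
            conj (starF M b e χ₀ η (u * v)) := by
          simp only [hexp]
          rw [Finset.sum_congr rfl fun a _ => Finset.sum_comm, Finset.sum_comm]
          refine Finset.sum_congr rfl fun u _ => ?_
          rw [Finset.sum_congr rfl fun a _ => Finset.sum_comm, Finset.sum_comm]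
          refine Finset.sum_congr rfl fun v _ => ?_
          rw [Finset.sum_mul_sum, Finset.sum_mul]
          exact Finset.sum_congr rfl fun a _ => (Finset.sum_mul _ _ _).symm
      _ = ∑ u : C, ∑ v : C, w u * w v * conj (starF M b e χ₀ η (u * v)) := by
          simp only [hwind]
      _ = conj (∑ u : C, ∑ v : C, w u * w v * starF M b e χ₀ η (u * v)) := by
          have hwreal : ∀ u, conj (w u) = w u := fun u => by
            simp only [hw]; split_ifs <;> simp
          simp only [map_sum, map_mul, hwreal]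
      _ = 0 := by rw [hzero, map_zero]
  -- the other side
  set T : G → ℂ := fun z => (prodCount J z : ℂ) with hT
  have hTc : IsClassFunction G T := fun g d => by simp only [hT, prodCount_conj]
  have hside : ∑ z : C, T z * conj (starF M b e χ₀ η z) =
      ∑ ab : G × G, F (ab.1 * J * ab.1⁻¹ * (ab.2 * J * ab.2⁻¹)) := by
    simp only [hT, prodCount, Finset.card_filter, Nat.cast_sum, Nat.cast_ite, Nat.cast_one,
      Nat.cast_zero, Finset.sum_mul, ite_mul, one_mul, zero_mul]
    rw [Finset.sum_comm]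
    refine Finset.sum_congr rfl fun ab _ => ?_
    by_cases hzC : ab.1 * J * ab.1⁻¹ * (ab.2 * J * ab.2⁻¹) ∈ C
    · rw [hF, CharInduced.ext_zero_of_mem _ hzC, Finset.sum_eq_single (⟨_, hzC⟩ : C)]
      · rw [if_pos rfl]
      · intro z _ hne
        exact if_neg fun e1 => hne (Subtype.ext e1.symm)
      · exact fun hn => absurd (Finset.mem_univ _) hn
    · rw [hF, CharInduced.ext_zero_of_not_mem _ hzC]
      exact Finset.sum_eq_zero fun z _ => if_neg fun e1 => hzC (by rw [e1]; exact z.2)
  have hmain : (fun z : C => T z) = ∑ χ : IrrCharacter G, classInner T (χ : G → ℂ) • resC C χ := by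
    funext z
    conv_lhs => rw [CharBasicOrth.eq_sum_classInner hTc]
    simp only [Finset.sum_apply, Pi.smul_apply, resC]
  have hinner : classInner (fun z : C => T z) (starF M b e χ₀ η) = 0 := by
    rw [classInner, hside, hpair, mul_zero]
  rw [hmain, CharInduced.inner_sum_left] at hinner
  simp only [CharInduced.inner_smul_left, inner_res_star hM S _ hη] at hinner
  rw [← Finset.sum_subset (Finset.subset_univ (BlockContribBounds.members B)) fun χ _ hχ => by
    rw [inner_eq_zero hM S (fun hb => hχ (BlockContribBounds.mem_members.2 hb)) hη hs, mul_zero]]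
    at hinner
  simp only [hT, classInner_prodCount hJ2] at hinner
  have hG : (Nat.card G : ℂ) ≠ 0 := Nat.cast_ne_zero.2 Nat.card_pos.ne'
  refine mul_left_cancel₀ hG ?_
  rw [mul_zero, Finset.mul_sum]
  refine Eq.trans (Finset.sum_congr rfl fun χ _ => ?_) hinner
  ring

omit hM S

/-- The value at the involution in a configuration, up to sign. -/
def patVal (pat : Fin 4 → Fin 5 → ℤ) (i : Fin 5) : ℤ :=
  pat 3 i + 2 * (-pat 0 i + pat 1 i - pat 2 i)

/-- The weight in the triple product relation, up to sign. -/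
def patWt (pat : Fin 4 → Fin 5 → ℤ) (i : Fin 5) : ℤ := pat 3 i - 2 * pat 1 i - patVal pat i

theorem reduce {ι : Type u} [DecidableEq ι] (S : Finset ι) (c : ℕ → ι → ℤ) (dg cJ : ι → ℂ) {lam : ℂ}
    (hlam : lam ≠ 0) (hdg : ∀ x ∈ S, dg x ≠ 0)
    (hdeg : ∀ k : Fin 4, ∑ x ∈ S, (c ((k : ℕ) + 1) x : ℂ) * dg x = 0)
    (hrel : ∀ k : Fin 4, ∑ x ∈ S, (c ((k : ℕ) + 1) x : ℂ) * (cJ x - lam * (valJ c 4 x : ℂ)) = 0)
    (horth : ∑ x ∈ S, dg x * (cJ x - lam * (valJ c 4 x : ℂ)) = 0)
    (hsum : ∑ x ∈ S, cJ x ^ 2 / dg x *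
      ((c 4 x : ℂ) - 2 * (c 2 x : ℂ) - (valJ c 4 x : ℂ)) = 0)
    {pat : Fin 4 → Fin 5 → ℤ} (hexc : IsExc S c pat) :
    ∃ d r : Fin 5 → ℂ, (∀ i, d i ≠ 0) ∧ (∀ k, ∑ i, (pat k i : ℂ) * d i = 0) ∧
      (∀ k, ∑ i, (pat k i : ℂ) * r i = 0) ∧ ∑ i, d i * r i = 0 ∧
      ((∀ i, r i = 0) → ∑ i, ((patVal pat i ^ 2 * patWt pat i : ℤ) : ℂ) / d i = 0) := by
  obtain ⟨e', ε, hinj, hS, hε, hpat⟩ := hexc
  have hSe : S = Finset.univ.image e' := by ext x; simp [hS]
  have hsS : ∀ f : ι → ℂ, ∑ x ∈ S, f x = ∑ i, f (e' i) := fun f => by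
    rw [hSe, Finset.sum_image fun a _ b _ hab => hinj hab]
  simp only [hsS] at hdeg hrel horth hsum
  have hε2 : ∀ i, (ε i : ℂ) * ε i = 1 := fun i => by
    rcases hε i with e1 | e1 <;> rw [e1] <;> norm_num
  have hε0 : ∀ i, (ε i : ℂ) ≠ 0 := fun i e1 => by
    have := hε2 i; rw [e1, zero_mul] at this; exact zero_ne_one this
  have hc : ∀ (k : Fin 4) i, (c ((k : ℕ) + 1) (e' i) : ℂ) = (ε i : ℂ) * (pat k i : ℂ) := fun k i => by
    rw [hpat k i, Int.cast_mul]
  refine ⟨fun i => (ε i : ℂ) * dg (e' i),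
    fun i => (ε i : ℂ) * (cJ (e' i) - lam * (valJ c 4 (e' i) : ℂ)),
    fun i => mul_ne_zero (hε0 i) (hdg _ ((hS _).2 ⟨i, rfl⟩)), fun k => ?_, fun k => ?_, ?_,
    fun hr => ?_⟩
  · rw [← hdeg k]
    exact Finset.sum_congr rfl fun i _ => by rw [hc]; ring
  · rw [← hrel k]
    exact Finset.sum_congr rfl fun i _ => by rw [hc]; ring
  · rw [← horth]
    exact Finset.sum_congr rfl fun i _ => by
      linear_combination (dg (e' i) * (cJ (e' i) - lam * (valJ c 4 (e' i) : ℂ))) * hε2 i
  · have hv : ∀ i, valJ c 4 (e' i) = ε i * patVal pat i := by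
      intro i
      rw [valJ, show Finset.Ico 1 4 = ({1, 2, 3} : Finset ℕ) by decide,
        show c 4 (e' i) = ε i * pat 3 i from hpat 3 i]
      simp only [Finset.sum_insert, Finset.mem_insert, Finset.mem_singleton, Finset.sum_singleton,
        show c 1 (e' i) = ε i * pat 0 i from hpat 0 i, show c 2 (e' i) = ε i * pat 1 i from hpat 1 i,
        show c 3 (e' i) = ε i * pat 2 i from hpat 2 i, patVal, OfNat.one_ne_ofNat, or_self, not_false_eq_true, Nat.reduceEqDiff]
      ring
    refine mul_left_cancel₀ (pow_ne_zero 2 hlam) ?_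
    rw [mul_zero, Finset.mul_sum]
    refine Eq.trans (Finset.sum_congr rfl fun i _ => ?_) hsum
    have hcJ : cJ (e' i) = lam * (valJ c 4 (e' i) : ℂ) :=
      sub_eq_zero.1 ((mul_eq_zero.1 (hr i)).resolve_left (hε0 i))
    rw [hcJ, hv i, show c 4 (e' i) = ε i * pat 3 i from hpat 3 i,
      show c 2 (e' i) = ε i * pat 1 i from hpat 1 i, patWt]
    rcases hε i with e1 | e1 <;> simp only [e1] <;> push_cast <;> ring

/-- The two configurations contradict the relations. -/
theorem no_exc {ι : Type u} [DecidableEq ι] (S : Finset ι) (c : ℕ → ι → ℤ) (dg cJ : ι → ℂ) {lam : ℂ}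
    (hlam : lam ≠ 0) (hdg : ∀ x ∈ S, dg x ≠ 0)
    (hdeg : ∀ k : Fin 4, ∑ x ∈ S, (c ((k : ℕ) + 1) x : ℂ) * dg x = 0)
    (hrel : ∀ k : Fin 4, ∑ x ∈ S, (c ((k : ℕ) + 1) x : ℂ) * (cJ x - lam * (valJ c 4 x : ℂ)) = 0)
    (horth : ∑ x ∈ S, dg x * (cJ x - lam * (valJ c 4 x : ℂ)) = 0)
    (hsum : ∑ x ∈ S, cJ x ^ 2 / dg x *
      ((c 4 x : ℂ) - 2 * (c 2 x : ℂ) - (valJ c 4 x : ℂ)) = 0) :
    ¬ IsExc S c patA ∧ ¬ IsExc S c patB := by
  constructor
  · intro hexc
    obtain ⟨d, r, hd0, hd, hr, hdot, hfin⟩ := reduce S c dg cJ hlam hdg hdeg hrel horth hsum hexc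
    have a1 := hd 0; have a2 := hd 1; have a3 := hd 2; have a4 := hd 3
    have b1 := hr 0; have b2 := hr 1; have b3 := hr 2; have b4 := hr 3
    simp [Fin.sum_univ_five, patA] at a1 a2 a3 a4 b1 b2 b3 b4
    have e1 : d 1 = d 0 := by linear_combination a1 - a2
    have e2 : d 2 = d 0 := by linear_combination a1 - a3
    have e3 : d 3 = -2 * d 0 := by linear_combination a2 + a3 - a1
    have e4 : d 4 = -3 * d 0 := by linear_combination a4 - e1 - e2
    have f1 : r 1 = r 0 := by linear_combination b1 - b2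
    have f2 : r 2 = r 0 := by linear_combination b1 - b3
    have f3 : r 3 = -2 * r 0 := by linear_combination b2 + b3 - b1
    have f4 : r 4 = -3 * r 0 := by linear_combination b4 - f1 - f2
    rw [Fin.sum_univ_five, e1, e2, e3, e4, f1, f2, f3, f4] at hdot
    have hr0 : r 0 = 0 := by
      have h16 : (16 : ℂ) * d 0 * r 0 = 0 := by linear_combination hdot
      simpa [hd0 0] using h16
    have hsum' := hfin fun i => by fin_cases i <;> simp [f1, f2, f3, f4, hr0]
    simp [Fin.sum_univ_five, patVal, patWt, patA, e1, e2, e3, e4] at hsum'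
    have h0 := hd0 0
    field_simp at hsum'
    ring_nf at hsum'
    norm_num at hsum'
  · intro hexc
    obtain ⟨d, r, hd0, hd, hr, hdot, hfin⟩ := reduce S c dg cJ hlam hdg hdeg hrel horth hsum hexc
    have a1 := hd 0; have a2 := hd 1; have a3 := hd 2; have a4 := hd 3
    have b1 := hr 0; have b2 := hr 1; have b3 := hr 2; have b4 := hr 3
    simp [Fin.sum_univ_five, patB] at a1 a2 a3 a4 b1 b2 b3 b4
    have e3 : d 3 = d 2 := by linear_combination a2 - a1
    have e4 : d 4 = d 2 := by linear_combination a3 - a1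
    have e0 : d 0 = -3 * d 2 := by linear_combination a4 - e3 - e4
    have e1 : d 1 = 2 * d 2 := by linear_combination a1 - e0
    have f3 : r 3 = r 2 := by linear_combination b2 - b1
    have f4 : r 4 = r 2 := by linear_combination b3 - b1
    have f0 : r 0 = -3 * r 2 := by linear_combination b4 - f3 - f4
    have f1 : r 1 = 2 * r 2 := by linear_combination b1 - f0
    rw [Fin.sum_univ_five, e0, e1, e3, e4, f0, f1, f3, f4] at hdot
    have hr2 : r 2 = 0 := by
      have h16 : (16 : ℂ) * d 2 * r 2 = 0 := by linear_combination hdot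
      simpa [hd0 2] using h16
    have hsum' := hfin fun i => by fin_cases i <;> simp [f0, f1, f3, f4, hr2]
    simp [Fin.sum_univ_five, patVal, patWt, patB, e0, e1, e3, e4] at hsum'
    have h2 := hd0 2
    field_simp at hsum'
    ring_nf at hsum'
    norm_num at hsum'

end Cfsg.Agent.DihedralDefectExclude79
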