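import Mathlib
import Cfsg.Agent.Lib.DihedralDefectExclude79
import Cfsg.Agent.Lib.KleinFourChars79

/-!
# The invariants of a 2-block with dihedral defect group
-/

set_option autoImplicit false
set_option linter.unusedSectionVars false

open scoped ComplexConjugate

namespace Cfsg.Agent.DihedralDefectMain79

open Cfsg Cfsg.Agent.DihedralDefectGroup79 Cfsg.Agent.DihedralDefectLocal79
open Cfsg.Agent.DihedralDefectColumns79 Cfsg.Agent.DihedralDefectShape79
open Cfsg.Agent.DihedralDefectExclude79 Cfsg.Agent.BrauerPairs81Base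
open Cfsg.Agent.BlockContribBounds

attribute [local instance] Classical.propDecidable

universe u

theorem sum_fold {A : Type*} [AddCommMonoid A] {h : ℕ} (h0 : 0 < h) (F : ℕ → A)
    (hF : ∀ j ≤ 2 * h, F (2 * h - j) = F j) :
    ∑ j ∈ Finset.range (2 * h), F j = F 0 + F h + 2 • ∑ j ∈ Finset.Ico 1 h, F j := by
  have h1 : ∑ j ∈ Finset.Ico 1 h, F (h + j) = ∑ j ∈ Finset.Ico 1 h, F j := by
    refine Finset.sum_nbij' (fun j => h - j) (fun j => h - j) (fun j hj => ?_) (fun j hj => ?_)
      (fun j hj => ?_) (fun j hj => ?_) (fun j hj => ?_) <;>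
      simp only [Finset.coe_Ico, Finset.mem_coe, Finset.mem_Ico, Set.mem_Ico] at hj ⊢
    · omega
    · omega
    · omega
    · omega
    · rw [← hF (h - j) (by omega), show 2 * h - (h - j) = h + j by omega]
  rw [two_mul, Finset.sum_range_add, Finset.sum_range_eq_add_Ico F h0,
    Finset.sum_range_eq_add_Ico (fun j => F (h + j)) h0, Nat.add_zero, h1, two_nsmul]
  abel

variable {G : Type u} [Group G] [Fintype G] {M : Ideal AlgInt} {B : Set (IrrCharacter G)} {h : ℕ}
  {C : Subgroup G} {b : Set (IrrCharacter C)} {P : Subgroup C} {e : Set (IrrCharacter (Cen P))}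
  {s : C} {χ₀ : IrrCharacter C} {ζ : ℂ}

variable (hM : IsPModular 2 M) (S : Sect M B h C b P e s χ₀) (hζ : IsPrimitiveRoot ζ (2 * h))
include hM S hζ

/-- The integer coefficient. -/
theorem exists_coef : ∃ c : ℕ → IrrCharacter G → ℤ, ∀ j < 2 * h, ∀ χ,
    classInner (gfun M b e χ₀ χ) (eta P s ζ h j) = (c j χ : ℂ) := by
  have hall : ∀ j χ, ∃ z : ℤ, j < 2 * h →
      classInner (gfun M b e χ₀ χ) (eta P s ζ h j) = (z : ℂ) := fun j χ => by
    by_cases hj : j < 2 * h
    · obtain ⟨z, hz⟩ := coef_int hM S hζ χ j hj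
      exact ⟨z, fun _ => hz⟩
    · exact ⟨0, fun h' => absurd h' hj⟩
  choose c hc using hall
  exact ⟨c, fun j hj χ => hc j χ hj⟩

/-- A column, summed over the block only. -/
theorem sum_members (F : IrrCharacter G → ℂ) (f : P → ℂ) (hf : IsClassFunction P f)
    (hs : ∀ x : P, f x ≠ 0 → (s ^ h : C) ∈ Subgroup.zpowers (x : C)) :
    ∑ χ ∈ members B, conj (classInner (gfun M b e χ₀ χ) f) * F χ =
      ∑ χ : IrrCharacter G, conj (classInner (gfun M b e χ₀ χ) f) * F χ :=
  Finset.sum_subset (Finset.subset_univ _) fun χ _ hχ => by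
    rw [inner_eq_zero hM S (fun hb => hχ (mem_members.2 hb)) hf hs, map_zero, zero_mul]

variable {c : ℕ → IrrCharacter G → ℤ}
  (hc : ∀ j < 2 * h, ∀ χ, classInner (gfun M b e χ₀ χ) (eta P s ζ h j) = (c j χ : ℂ))
include hc

theorem gram {i j : ℕ} (hi : i < 2 * h) (hj : j < 2 * h) :
    ∑ χ ∈ members B, (c i χ : ℂ) * (c j χ : ℂ) =
      classInner (eta P s ζ h i) (eta P s ζ h j) := by
  have hc2 := column hM S (eta_classFun S.dih hζ j) (eta_classFun S.dih hζ i)
    (eta_supp hM S j) (eta_supp hM S i)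
  rw [← hc2, ← Finset.sum_subset (Finset.subset_univ (members B)) fun χ _ hχ => by
    rw [inner_eq_zero hM S (fun hb => hχ (mem_members.2 hb)) (eta_classFun S.dih hζ j)
      (eta_supp hM S j), zero_mul]]
  refine Finset.sum_congr rfl fun χ _ => ?_
  rw [hc i hi χ, hc j hj χ, map_intCast, mul_comm]

theorem regular {j : ℕ} (hj : j < 2 * h) {y : G} (hy : ¬ 2 ∣ orderOf y) :
    ∑ χ ∈ members B, (c j χ : ℂ) * (χ : G → ℂ) y = 0 := by
  have h1 := column_regular hM S (eta_classFun S.dih hζ j) (eta_supp hM S j) hy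
  rw [← sum_members hM S hζ _ _ (eta_classFun S.dih hζ j) (eta_supp hM S j)] at h1
  rw [← h1]
  exact Finset.sum_congr rfl fun χ _ => by rw [hc j hj χ, map_intCast]

theorem coef_symm (χ : IrrCharacter G) {j : ℕ} (j0 : 0 < j) (j1 : j ≤ 2 * h) :
    c (2 * h - j) χ = if j = 2 * h then c 0 χ else c j χ := by
  split_ifs with e1
  · rw [e1, Nat.sub_self]
  · have h1 := hc j (by omega) χ
    rw [← eta_reflect hζ j1, hc (2 * h - j) (by omega) χ] at h1
    exact_mod_cast h1

theorem coef_zero (χ : IrrCharacter G) : c 0 χ = 0 := by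
  have h1 := hc 0 (by have := S.dih.two_le; omega) χ
  rw [inner_eta S.dih hζ] at h1
  have h2 : ∀ a, tau ζ 0 a = 0 := fun a => by simp [tau]; norm_num
  simp only [h2, mul_zero, Finset.sum_const_zero] at h1
  exact_mod_cast h1.symm

theorem value_J (χ : IrrCharacter G) :
    ev s (gfun M b e χ₀ χ) h = (valJ (fun j χ => c j χ) h χ : ℂ) := by
  have hh : 0 < h := by have := S.dih.two_le; omega
  have hneg : ζ ^ h = -1 :=
    (hζ.pow (by omega) (show 2 * h = h * 2 by ring)).eq_neg_one_of_two_right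
  obtain ⟨t, ht⟩ := even_h S.dih
  rw [← inversion S.dih hζ (classFun_gfun χ) hh (by omega), sum_fold hh]
  · rw [hc 0 (by omega) χ, coef_zero hM S hζ hc χ, hc h (by omega) χ, valJ]
    simp only [Int.cast_zero, mul_zero, zero_add, Int.cast_add, Int.cast_mul, Int.cast_ofNat,
      Int.cast_sum, Int.cast_pow, Int.cast_neg, Int.cast_one, nsmul_eq_mul, Nat.cast_ofNat]
    congr 1
    · rw [pow_mul, hneg, (even_h S.dih).neg_one_pow, one_mul]
    · congr 1
      refine Finset.sum_congr rfl fun j hj => ?_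
      rw [Finset.mem_Ico] at hj
      rw [hc j (by omega) χ, mul_comm j, pow_mul, hneg]
  · intro j hj
    rw [eta_reflect hζ hj]
    congr 1
    rw [mul_comm, pow_mul, mul_comm j, pow_mul, hneg]
    obtain ⟨r, hr⟩ : Even (2 * h) := even_two_mul h
    rcases Nat.even_or_odd j with he | ho
    · rw [he.neg_one_pow, ((Nat.even_sub hj).2 ⟨fun _ => he, fun _ => ⟨r, hr⟩⟩).neg_one_pow]
    · rw [ho.neg_one_pow, Odd.neg_one_pow (Nat.odd_iff.2 (by have := Nat.odd_iff.1 ho; omega))]

theorem value_two (χ : IrrCharacter G) (h4 : h = 4) :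
    ev s (gfun M b e χ₀ χ) 2 = (c 4 χ : ℂ) - 2 * (c 2 χ : ℂ) := by
  subst h4
  have hneg : ζ ^ 4 = -1 :=
    (hζ.pow (by norm_num) (show 2 * 4 = 4 * 2 by ring)).eq_neg_one_of_two_right
  rw [← inversion S.dih hζ (classFun_gfun χ) two_pos (by norm_num)]
  have s5 : c 5 χ = c 3 χ := by
    have := coef_symm hM S hζ hc χ (j := 3) (by norm_num) (by norm_num)
    simpa using this
  have s6 : c 6 χ = c 2 χ := by
    have := coef_symm hM S hζ hc χ (j := 2) (by norm_num) (by norm_num)
    simpa using this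
  have s7 : c 7 χ = c 1 χ := by
    have := coef_symm hM S hζ hc χ (j := 1) (by norm_num) (by norm_num)
    simpa using this
  simp only [show (2 : ℕ) * 4 = 8 from rfl, Finset.sum_range_succ, Finset.sum_range_zero]
  rw [hc 0 (by norm_num) χ, hc 1 (by norm_num) χ, hc 2 (by norm_num) χ, hc 3 (by norm_num) χ,
    hc 4 (by norm_num) χ, hc 5 (by norm_num) χ, hc 6 (by norm_num) χ, hc 7 (by norm_num) χ,
    coef_zero hM S hζ hc χ, s5, s6, s7]
  linear_combination (c 1 χ : ℂ) * (ζ ^ 2 * (ζ ^ 8 - ζ ^ 4 + 1)) * hneg +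
    (c 2 χ : ℂ) * (ζ ^ 8 - ζ ^ 4 + 2) * hneg + (c 3 χ : ℂ) * (ζ ^ 6) * hneg +
    (c 4 χ : ℂ) * (ζ ^ 4 - 1) * hneg

/-- No exceptional configuration. -/
theorem no_exception (h4 : h = 4) :
    ¬ IsExc (members B) c patA ∧ ¬ IsExc (members B) c patB := by
  subst h4
  haveI : Fact (Nat.Prime 2) := ⟨Nat.prime_two⟩
  set J : G := ((s ^ 4 : C) : G) with hJ
  have hJ2 : J * J = 1 := by rw [← pow_two, ← order_J hM S, pow_orderOf_eq_one]
  have hlam : (χ₀ : C → ℂ) (s ^ 4) ≠ 0 := by
    obtain ⟨δ, hδ, hval⟩ := exists_sign hM S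
    rw [hval]
    refine mul_ne_zero ?_ (Nat.cast_ne_zero.2 (ClassAlgebraVal.charDegree_pos χ₀).ne')
    rcases hδ with e1 | e1 <;> rw [e1] <;> norm_num
  refine no_exc (members B) c (fun χ => (χ : G → ℂ) 1) (fun χ => (χ : G → ℂ) J) hlam
    (fun χ _ => BlockTheoryCentre.irr_one_ne_zero χ) (fun k => ?_) (fun k => ?_) ?_ ?_
  · have := k.2
    exact regular hM S hζ hc (by omega) (by rw [orderOf_one]; omega)
  · have hk := k.2
    have h1 : ∑ χ ∈ members B, (c ((k : ℕ) + 1) χ : ℂ) * (χ : G → ℂ) J =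
        tau ζ ((k : ℕ) + 1) 4 * (χ₀ : C → ℂ) (s ^ 4) := by
      have h2 := column_J hM S (eta_classFun S.dih hζ ((k : ℕ) + 1)) (eta_supp hM S _)
      rw [← sum_members hM S hζ _ _ (eta_classFun S.dih hζ _) (eta_supp hM S _)] at h2
      rw [show ev s (eta P s ζ 4 ((k : ℕ) + 1)) 4 = tau ζ ((k : ℕ) + 1) 4 from
        ev_rotFun S.dih _ (by norm_num)] at h2
      rw [← h2]
      exact Finset.sum_congr rfl fun χ _ => by rw [hc _ (by omega) χ, map_intCast]
    have h2 : ∑ χ ∈ members B, (c ((k : ℕ) + 1) χ : ℂ) * (valJ c 4 χ : ℂ) =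
        tau ζ ((k : ℕ) + 1) 4 := by
      rw [← ev_rotFun S.dih (tau ζ ((k : ℕ) + 1)) (show 4 < 2 * 4 by norm_num)]
      change _ = ev s (eta P s ζ 4 ((k : ℕ) + 1)) 4
      rw [← inversion S.dih hζ (eta_classFun S.dih hζ _) (show 0 < 4 by norm_num) (by norm_num)]
      have e1 : ∀ χ, (valJ c 4 χ : ℂ) = ∑ j ∈ Finset.range (2 * 4), ζ ^ (j * 4) * (c j χ : ℂ) := by
        intro χ
        rw [← value_J hM S hζ hc χ,
          ← inversion S.dih hζ (classFun_gfun χ) (show 0 < 4 by norm_num) (by norm_num)]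
        exact Finset.sum_congr rfl fun j hj => by rw [hc j (Finset.mem_range.1 hj) χ]
      simp only [e1, Finset.mul_sum]
      rw [Finset.sum_comm]
      refine Finset.sum_congr rfl fun j hj => ?_
      rw [← gram hM S hζ hc (show (k : ℕ) + 1 < 2 * 4 by omega) (Finset.mem_range.1 hj),
        Finset.mul_sum]
      exact Finset.sum_congr rfl fun χ _ => by ring
    simp only [mul_sub, Finset.sum_sub_distrib]
    rw [h1, show ∑ χ ∈ members B, (c ((k : ℕ) + 1) χ : ℂ) * ((χ₀ : C → ℂ) (s ^ 4) * (valJ c 4 χ : ℂ)) =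
      (χ₀ : C → ℂ) (s ^ 4) * ∑ χ ∈ members B, (c ((k : ℕ) + 1) χ : ℂ) * (valJ c 4 χ : ℂ) by
        rw [Finset.mul_sum]; exact Finset.sum_congr rfl fun χ _ => by ring, h2]
    ring
  · have h1 : ∑ χ ∈ members B, (χ : G → ℂ) 1 * (χ : G → ℂ) J = 0 := by
      have h2 := BrauerBlocksOrth.orth_regular_singular hM S.hB (x := (1 : G)) (y := J)
        (by rw [orderOf_one]; omega) (by rw [hJ, order_J hM S])
      rw [finsum_eq_members] at h2
      rw [← h2]
      exact Finset.sum_congr rfl fun χ _ => by rw [KleinFourChars79.apply_real hJ2]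
    have h2 : ∑ χ ∈ members B, (χ : G → ℂ) 1 * (valJ c 4 χ : ℂ) = 0 := by
      have e1 : ∀ χ, (valJ c 4 χ : ℂ) = ∑ j ∈ Finset.range (2 * 4), ζ ^ (j * 4) * (c j χ : ℂ) := by
        intro χ
        rw [← value_J hM S hζ hc χ,
          ← inversion S.dih hζ (classFun_gfun χ) (show 0 < 4 by norm_num) (by norm_num)]
        exact Finset.sum_congr rfl fun j hj => by rw [hc j (Finset.mem_range.1 hj) χ]
      simp only [e1, Finset.mul_sum]
      rw [Finset.sum_comm]
      refine Finset.sum_eq_zero fun j hj => ?_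
      rw [← mul_zero (ζ ^ (j * 4)),
        ← regular hM S hζ hc (Finset.mem_range.1 hj) (y := (1 : G)) (by rw [orderOf_one]; omega),
        Finset.mul_sum]
      exact Finset.sum_congr rfl fun χ _ => by ring
    simp only [mul_sub, Finset.sum_sub_distrib, h1]
    rw [show ∑ χ ∈ members B, (χ : G → ℂ) 1 * ((χ₀ : C → ℂ) (s ^ 4) * (valJ c 4 χ : ℂ)) =
      (χ₀ : C → ℂ) (s ^ 4) * ∑ χ ∈ members B, (χ : G → ℂ) 1 * (valJ c 4 χ : ℂ) by
        rw [Finset.mul_sum]; exact Finset.sum_congr rfl fun χ _ => by ring, h2]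
    ring
  · set φ : ℕ → ℂ := fun a => if a = 4 then -16 else if a = 2 ∨ a = 6 then 8 else 0 with hφ
    have hinner : ∀ f : P → ℂ, IsClassFunction P f →
        classInner f (rotFun P s (2 * 4) φ) = ev s f 2 - ev s f 4 := by
      intro f hf
      rw [inner_rotFun S.dih, ← ev_symm S.dih hf (show 2 ≤ 2 * 4 by norm_num)]
      simp [hφ, Finset.sum_range_succ, ev_symm S.dih hf (show 2 ≤ 2 * 4 by norm_num)]
      simp only [map_ofNat]
      ring
    have hper : φ (2 * 4) = φ 0 := by simp [hφ]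
    have hsym : ∀ a ≤ 2 * 4, φ (2 * 4 - a) = φ a := by
      intro a ha
      interval_cases a <;> simp [hφ]
    have hsum := sum_J hM S (rotFun_classFun S.dih hper hsym)
      (fun x hx => J_mem_of_rotFun_ne_zero S.dih (by simp [hφ]) hx) fun ψ hψ => by
        rw [hinner _ (BlockTheoryCentre.irr_classFun ψ), hψ 2 (by decide), hψ 4 (by decide), sub_self]
    rw [← hsum]
    refine Finset.sum_congr rfl fun χ _ => ?_
    rw [hinner _ (classFun_gfun χ), value_two hM S hζ hc χ rfl, value_J hM S hζ hc χ]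

theorem rank_add_le : blockRank 2 B + h ≤ (members B).card := by
  have hh : 0 < h := by have := S.dih.two_le; omega
  set v : members B → (G → ℂ) := fun χ => pRegularPart 2 ((χ : IrrCharacter G) : G → ℂ) with hv
  set L := Fintype.linearCombination ℂ v with hL
  have hrange : blockRank 2 B = Module.finrank ℂ (LinearMap.range L) := by
    have e1 : (fun χ : IrrCharacter G => pRegularPart 2 (χ : G → ℂ)) '' B = Set.range v := by
      ext f
      constructor
      · rintro ⟨χ, hχ, rfl⟩
        exact ⟨⟨χ, mem_members.2 hχ⟩, rfl⟩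
      · rintro ⟨χ, rfl⟩
        exact ⟨χ, mem_members.1 χ.2, rfl⟩
    rw [blockRank, e1, hL, Fintype.range_linearCombination]
  set w : Fin h → (members B → ℂ) := fun j χ => (c ((j : ℕ) + 1) (χ : IrrCharacter G) : ℂ) with hw
  have hker : ∀ j, w j ∈ LinearMap.ker L := by
    intro j
    rw [LinearMap.mem_ker, hL, Fintype.linearCombination_apply]
    funext y
    simp only [Finset.sum_apply, Pi.smul_apply, smul_eq_mul, Pi.zero_apply, hv, hw, pRegularPart]
    by_cases hy : IsPRegular 2 y
    · simp only [if_pos hy]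
      have := j.2
      rw [← regular hM S hζ hc (show (j : ℕ) + 1 < 2 * h by omega) hy]
      exact Finset.sum_coe_sort (members B) fun χ => (c ((j : ℕ) + 1) χ : ℂ) * (χ : G → ℂ) y
    · simp only [if_neg hy, mul_zero, Finset.sum_const_zero]
  have hli : LinearIndependent ℂ w := by
    rw [Fintype.linearIndependent_iff]
    intro x hx
    set T := ∑ j, x j with hT
    have hrow : ∀ i : Fin h, 2 * x i =
        (if (i : ℕ) + 1 = h then 2 * T else 0) - 4 * T := by
      intro i
      have hi := i.2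
      have e1 : ∑ j, x j * classInner (eta P s ζ h ((j : ℕ) + 1)) (eta P s ζ h ((i : ℕ) + 1)) = 0 := by
        have e2 : ∀ j : Fin h, classInner (eta P s ζ h ((j : ℕ) + 1)) (eta P s ζ h ((i : ℕ) + 1)) =
            ∑ χ : members B, w j χ * w i χ := fun j => by
          have := j.2
          rw [← gram hM S hζ hc (show (j : ℕ) + 1 < 2 * h by omega) (show (i : ℕ) + 1 < 2 * h by omega),
            ← Finset.sum_coe_sort]
        simp only [e2, Finset.mul_sum]
        rw [Finset.sum_comm]
        refine Finset.sum_eq_zero fun χ _ => ?_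
        have e3 := congrFun hx χ
        simp only [Finset.sum_apply, Pi.smul_apply, smul_eq_mul, Pi.zero_apply] at e3
        simp only [← mul_assoc, ← Finset.sum_mul, e3, zero_mul]
      have e2 : ∀ j : Fin h, classInner (eta P s ζ h ((j : ℕ) + 1)) (eta P s ζ h ((i : ℕ) + 1)) =
          2 + (if j = i then (if (i : ℕ) + 1 = h then (2 : ℂ) else 1) else 0) := by
        intro j
        have := j.2
        rw [gram_eta S.dih hζ (by omega) (by omega) (by omega) (by omega)]
        by_cases hji : j = i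
        · subst hji
          rw [if_pos rfl, if_pos rfl]
          split_ifs <;> norm_num
        · rw [if_neg fun e4 => hji (Fin.ext (by omega)), if_neg hji, add_zero]
      simp only [e2, mul_add, Finset.sum_add_distrib, mul_ite, mul_zero, Finset.sum_ite_eq',
        Finset.mem_univ, if_true, ← Finset.sum_mul, ← hT] at e1
      by_cases hl : (i : ℕ) + 1 = h
      · simp only [if_pos hl] at e1 ⊢; linear_combination e1
      · simp only [if_neg hl] at e1 ⊢; linear_combination 2 * e1
    have hT0 : T = 0 := by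
      have e1 : 2 * T = ∑ i : Fin h, ((if (i : ℕ) + 1 = h then 2 * T else 0) - 4 * T) := by
        conv_lhs => rw [hT, Finset.mul_sum]
        exact Finset.sum_congr rfl fun i _ => hrow i
      rw [Finset.sum_sub_distrib, Finset.sum_eq_single (⟨h - 1, by omega⟩ : Fin h),
        if_pos (show h - 1 + 1 = h by omega), Finset.sum_const, Finset.card_univ, Fintype.card_fin,
        nsmul_eq_mul] at e1
      · have e3 : (h : ℂ) * (4 * T) = 0 := by linear_combination e1
        simpa [hh.ne'] using e3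
      · intro i _ hne
        exact if_neg fun e4 => hne (Fin.ext (show (i : ℕ) = h - 1 by omega))
      · exact fun hn => absurd (Finset.mem_univ _) hn
    intro i
    have := hrow i
    simp only [hT0, mul_zero, ite_self, sub_zero] at this
    simpa using this
  have h1 : h ≤ Module.finrank ℂ (LinearMap.ker L) := by
    have h2 : Submodule.span ℂ (Set.range w) ≤ LinearMap.ker L :=
      Submodule.span_le.2 (Set.range_subset_iff.2 hker)
    have := Submodule.finrank_mono h2
    rwa [finrank_span_eq_card hli, Fintype.card_fin] at this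
  have h3 := LinearMap.finrank_range_add_finrank_ker L
  rw [Module.finrank_fintype_fun_eq_card, Fintype.card_coe, ← hrange] at h3
  omega

omit hc

/-- The invariants. -/
theorem main (hh : h = 2 ∨ h = 4 ∨ 8 ≤ h) :
    Nat.card B = h + 3 ∧ blockRank 2 B ≤ 3 ∧
      Nat.card {χ : IrrCharacter G // χ ∈ B ∧ blockHeight 2 B (χ : G → ℂ) = 0} = 4 ∧
      ∀ χ ∈ B, blockHeight 2 B (χ : G → ℂ) ≤ 1 := by
  obtain ⟨c, hc⟩ := exists_coef hM S hζ
  have hpos : 0 < h := by omega
  have hfacts : ∀ χ ∈ B, valJ c h χ ≠ 0 ∧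
      (¬ (2 : ℤ) ∣ valJ c h χ → blockHeight 2 B (χ : G → ℂ) = 0) ∧
      (valJ c h χ = 2 ∨ valJ c h χ = -2 → blockHeight 2 B (χ : G → ℂ) = 1) :=
    fun χ hχ => height_facts hM S hχ (value_J hM S hζ hc χ)
  have hgram : ∀ i j, 0 < i → i ≤ h → 0 < j → j ≤ h →
      ∑ χ ∈ members B, c i χ * c j χ = if i = j then (if i = h then 4 else 3) else 2 := by
    intro i j i0 i1 j0 j1
    have h1 := gram hM S hζ hc (show i < 2 * h by omega) (show j < 2 * h by omega)
    rw [gram_eta S.dih hζ i0 i1 j0 j1] at h1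
    apply Int.cast_injective (α := ℂ)
    push_cast
    rw [h1]
  obtain ⟨hcard, hfour, heven⟩ := shape (members B) c hh (even_h S.dih) hgram
    (fun χ hχ => (hfacts χ (mem_members.1 hχ)).1)
    (fun h4 => (no_exception hM S hζ hc h4).1) (fun h4 => (no_exception hM S hζ hc h4).2)
  have hrank := rank_add_le hM S hζ hc
  have hk : Nat.card B = h + 3 := by rw [card_members, hcard]
  refine ⟨hk, by omega, ?_, fun χ hχ => ?_⟩
  · rw [← hfour, ← Nat.card_eq_finsetCard]
    refine Nat.card_congr (Equiv.subtypeEquivRight fun χ => ?_)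
    rw [Finset.mem_filter, mem_members]
    refine and_congr_right fun hχ => ⟨fun h0 => ?_, (hfacts χ hχ).2.1⟩
    intro hd
    have := (hfacts χ hχ).2.2 (heven χ (mem_members.2 hχ) hd)
    omega
  · by_cases hd : (2 : ℤ) ∣ valJ c h χ
    · exact ((hfacts χ hχ).2.2 (heven χ (mem_members.2 hχ) hd)).le
    · rw [(hfacts χ hχ).2.1 hd]; exact Nat.zero_le 1

end Cfsg.Agent.DihedralDefectMain79
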