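import Mathlib
import Cfsg.Agent.Lib.BlockCyclicRank81
import Cfsg.Agent.Lib.BrauerPairs81Induced
import Cfsg.Agent.Lib.BrauerPairs81Nilpotent
import Cfsg.Agent.Lib.BlockContribBounds

/-!
# 2-blocks with a Klein four defect group: counting characters

Contributions bound the number of characters by four; the subsections of the involutions are
counted through the Brauer pairs below a maximal one.
-/

set_option autoImplicit false

namespace Cfsg.Agent.KleinFourDefect79

open Cfsg Cfsg.Agent.BlockTheoryLocalRing Cfsg.Agent.BlockTheoryCentre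
open Cfsg.Agent.BlockTheoryIdem Cfsg.Agent.BlockTheoryBrauer Cfsg.Agent.BlockTheoryDefect
open Cfsg.Agent.BrauerPairs81Base Cfsg.Agent.BrauerPairs81Pairs Cfsg.Agent.BrauerPairs81Conj
open Cfsg.Agent.BrauerPairs81Max Cfsg.Agent.BrauerPairs81Local Cfsg.Agent.BrauerPairs81Fusion
open Cfsg.Agent.BrauerPairs81Stab Cfsg.Agent.BrauerPairs81Index Cfsg.Agent.BrauerPairs81Nilpotent
open Cfsg.Agent.BrauerPairs81Induced Cfsg.Agent.BlockCyclicRank81
open scoped ComplexConjugate

attribute [local instance] Classical.propDecidable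

set_option linter.unusedSectionVars false

universe u

variable {G : Type u} [Group G] [Fintype G]

/-! ### Contributions in defect two -/

section Contributions

variable {M : Ideal AlgInt} {B : Set (IrrCharacter G)}

open BlockContrib

theorem height_zero (hM : IsPModular 2 M) (hB : IsPBlock M B) (hd : blockDefect 2 B = 2)
    {χ : IrrCharacter G} (hχ : χ ∈ B) : blockHeight 2 B (χ : G → ℂ) = 0 := by
  by_contra h
  have := BlockContribBounds.height_add_two_le hM hB hχ (Nat.pos_of_ne_zero h)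
  omega

theorem contrib_odd (hM : IsPModular 2 M) (hB : IsPBlock M B) (hd : blockDefect 2 B = 2)
    {χ ψ : IrrCharacter G} (hχ : χ ∈ B) (hψ : ψ ∈ B) : Odd (contrib 2 B χ ψ) := by
  have h := contrib_not_dvd hM hB hχ (height_zero hM hB hd hχ) hψ
  rw [height_zero hM hB hd hψ] at h
  rw [← Int.not_even_iff_odd, even_iff_two_dvd]
  simpa using h

theorem one_le_sq (hM : IsPModular 2 M) (hB : IsPBlock M B) (hd : blockDefect 2 B = 2)
    {χ ψ : IrrCharacter G} (hχ : χ ∈ B) (hψ : ψ ∈ B) : 1 ≤ contrib 2 B χ ψ ^ 2 := by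
  obtain ⟨k, hk⟩ := contrib_odd hM hB hd hχ hψ
  have : contrib 2 B χ ψ ≠ 0 := by omega
  have := sq_pos_of_ne_zero this
  omega

theorem row_bound (hM : IsPModular 2 M) (hB : IsPBlock M B) (hd : blockDefect 2 B = 2)
    {χ : IrrCharacter G} (hχ : χ ∈ B) :
    (contrib 2 B χ χ = 1 ∨ contrib 2 B χ χ = 3) ∧ Nat.card B ≤ 4 := by
  have hsq := sum_contrib_sq hM hB hχ
  rw [hd, BlockContribBounds.filter_eq_members] at hsq
  have hm : χ ∈ BlockContribBounds.members B := BlockContribBounds.mem_members.2 hχ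
  rw [← Finset.add_sum_erase _ _ hm] at hsq
  have h1 : (((BlockContribBounds.members B).erase χ).card : ℤ) ≤
      ∑ ψ ∈ (BlockContribBounds.members B).erase χ, contrib 2 B χ ψ ^ 2 := by
    rw [Finset.card_eq_sum_ones, Nat.cast_sum]
    exact Finset.sum_le_sum fun ψ hψ => by
      exact_mod_cast one_le_sq hM hB hd hχ
        (BlockContribBounds.mem_members.1 (Finset.mem_of_mem_erase hψ))
  rw [Finset.card_erase_of_mem hm, ← BlockContribBounds.card_members] at h1
  have hpos := contrib_self_pos (G := G) hM.1 hχ (B := B)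
  obtain ⟨j, hj⟩ := contrib_odd hM hB hd hχ hχ
  have hk : 0 < Nat.card B := by
    rw [BlockContribBounds.card_members]; exact Finset.card_pos.2 ⟨χ, hm⟩
  rw [Nat.cast_sub hk, Nat.cast_one] at h1
  norm_num at hsq
  have hc : contrib 2 B χ χ ≤ 4 := by nlinarith
  have hc' : contrib 2 B χ χ = 1 ∨ contrib 2 B χ χ = 3 := by omega
  refine ⟨hc', ?_⟩
  rcases hc' with e | e <;> rw [e] at hsq <;> omega

theorem card_le_four (hM : IsPModular 2 M) (hB : IsPBlock M B) (hd : blockDefect 2 B = 2) :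
    Nat.card B ≤ 4 := by
  obtain ⟨χ, hχ⟩ := block_nonempty hM hB
  exact (row_bound hM hB hd hχ).2

/-- The contributions add up to `4 l(B)`. -/
theorem sum_contrib_self (hM : IsPModular 2 M) (hB : IsPBlock M B) (hd : blockDefect 2 B = 2) :
    ∑ χ ∈ BlockContribBounds.members B, contrib 2 B χ χ = 4 * (blockRank 2 B : ℤ) := by
  haveI : Fact (Nat.Prime 2) := ⟨Nat.prime_two⟩
  have h := Cfsg.Agent.S4667.result 2 M hM B hB
  simp only [BlockContribBounds.finsum_eq_members] at h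
  rw [Finset.sum_comm] at h
  have h2 : ∀ χ ∈ BlockContribBounds.members B,
      ∑ x : G, Cfsg.pRegularPart 2 (χ : G → ℂ) x * (χ : G → ℂ) x⁻¹ =
        (cofactor 2 G : ℂ) * (2 : ℂ) ^ minExp 2 B * (contrib 2 B χ χ : ℂ) := by
    intro χ hχ
    have := pair_eq_contrib hM.1 χ (BlockContribBounds.mem_members.1 hχ) (B := B)
    rw [Nat.cast_ofNat] at this
    rw [← this, pair, regSum_eq]
    refine Finset.sum_congr rfl fun x _ => ?_
    simp only [pRegularPart, IsPRegular, irr_inv]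
    split_ifs <;> simp_all [mul_comm]
  rw [Finset.sum_congr rfl h2, ← Finset.mul_sum] at h
  have hscale : (Nat.card G : ℂ) = (cofactor 2 G : ℂ) * (2 : ℂ) ^ minExp 2 B * 4 := by
    have hd' := minExp_add_defect hM hB
    rw [hd] at hd'
    rw [show ((4 : ℂ)) = 2 ^ 2 by norm_num, mul_assoc, ← pow_add, hd', mul_comm]
    exact_mod_cast (pow_mul_cofactor (G := G) 2).symm
  rw [hscale, mul_assoc] at h
  have := mul_left_cancel₀ (by
    have := scale_ne_zero (G := G) Nat.prime_two B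
    simpa using this) h
  exact_mod_cast this.symm

/-- `k(B) = l(B) + 1` forces four characters in defect two. -/
theorem card_eq_four (hM : IsPModular 2 M) (hB : IsPBlock M B) (hd : blockDefect 2 B = 2)
    (hl : blockRank 2 B + 1 = Nat.card B) : Nat.card B = 4 := by
  have h4 := card_le_four hM hB hd
  have hsum := sum_contrib_self hM hB hd
  have hmem : ∀ χ, χ ∈ BlockContribBounds.members B → χ ∈ B :=
    fun χ => BlockContribBounds.mem_members.1
  have h0 := blockRank_pos hM hB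
  rw [BlockContribBounds.card_members] at h4 hl ⊢
  have hodd : ∀ χ ∈ BlockContribBounds.members B, ∃ z : ℤ, contrib 2 B χ χ = 2 * z + 1 :=
    fun χ hχ => contrib_odd hM hB hd (hmem χ hχ) (hmem χ hχ)
  obtain h2 | h3 | h : (BlockContribBounds.members B).card = 2 ∨
      (BlockContribBounds.members B).card = 3 ∨ (BlockContribBounds.members B).card = 4 := by omega
  · exfalso
    obtain ⟨a, b, hab, hT⟩ := Finset.card_eq_two.1 h2
    rw [hT, Finset.sum_pair hab] at hsum
    have ha : a ∈ B := hmem a (by rw [hT]; simp)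
    have hb : b ∈ B := hmem b (by rw [hT]; simp)
    have r1 := (row_bound hM hB hd ha).1
    have r2 := (row_bound hM hB hd hb).1
    have s1 := sum_contrib_sq hM hB ha
    rw [hd, BlockContribBounds.filter_eq_members, hT, Finset.sum_pair hab] at s1
    have hr : blockRank 2 B = 1 := by omega
    rw [hr] at hsum
    have hsq : contrib 2 B a b ^ 2 = 3 := by
      rcases r1 with e | e <;> rw [e] at s1 <;> norm_num at s1 <;> linarith
    obtain ⟨z, hz⟩ := contrib_odd hM hB hd ha hb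
    rw [hz] at hsq
    have h1 : -2 < z := by nlinarith
    have h2' : z < 1 := by nlinarith
    interval_cases z <;> norm_num at hsq
  · exfalso
    obtain ⟨a, b, c, hab, hac, hbc, hT⟩ := Finset.card_eq_three.1 h3
    rw [hT] at hsum
    rw [Finset.sum_insert (by simp [hab, hac]), Finset.sum_insert (by simp [hbc]),
      Finset.sum_singleton] at hsum
    obtain ⟨za, ea⟩ := hodd a (by rw [hT]; simp)
    obtain ⟨zb, eb⟩ := hodd b (by rw [hT]; simp)
    obtain ⟨zc, ec⟩ := hodd c (by rw [hT]; simp)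
    omega
  · exact h

end Contributions

theorem comm_four {R : Subgroup G} (hR : Nat.card R = 4) : ∀ a ∈ R, ∀ b ∈ R, a * b = b * a :=
  fun a ha b hb => by
    haveI : Fact (Nat.Prime 2) := ⟨Nat.prime_two⟩
    haveI := IsPGroup.isMulCommutative_of_card_eq_prime_sq (p := 2) (G := R) (by rw [hR]; norm_num)
    exact congrArg Subtype.val (mul_comm' (⟨a, ha⟩ : R) ⟨b, hb⟩)

/-! ### Pairs below an abelian maximal pair -/

variable {p : ℕ} [Fact p.Prime] {M : Ideal AlgInt} {B : Set (IrrCharacter G)} {P : Subgroup G}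
  {c : Set (IrrCharacter (Cen P))}

/-- Fusion below an abelian maximal pair is controlled by the inertial group. -/
theorem fus_abelian (hM : IsPModular p M) (hmax : IsMaximalBrauerPair p M B P c)
    (hab : ∀ x ∈ P, ∀ y ∈ P, x * y = y * x) {a : BrauerPairIdx G} (ha : PLE p M a ⟨P, c⟩) {g : G}
    (hga : PLE p M (cP g a) ⟨P, c⟩) :
    ∃ y ∈ stab (⟨P, c⟩ : BrauerPairIdx G), ∀ x ∈ a.1, g * x * g⁻¹ = y * x * y⁻¹ := by
  obtain ⟨Q, f⟩ := a
  have hQP : Q ≤ P := subgroup_le_of_subpairLE ha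
  have hgQP : cjS g Q ≤ P := subgroup_le_of_subpairLE hga
  have hPC : P ≤ Cen Q := fun u hu =>
    Subgroup.mem_centralizer_iff.mpr fun q hq => hab q (hQP hq) u hu
  have hQf := isBrauerPairOf_down hM ha hmax.1
  have hN : Cen Q ≤ Subgroup.normalizer (Q : Set G) := Subgroup.centralizer_le_normalizer _
  have hn : IsNormalSubpair p M Q f P c := isNormalSubpair_of_le hM hmax.1.1 ha (hPC.trans hN)
  have hgPC : P ≤ Cen (cjS g Q) := fun u hu =>
    Subgroup.mem_centralizer_iff.mpr fun q hq => hab q (hgQP hq) u hu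
  have hn1 : IsNormalSubpair p M (cjS g Q) (conjBlock Q g f) P c :=
    isNormalSubpair_of_le hM hmax.1.1 hga (hgPC.trans (Subgroup.centralizer_le_normalizer _))
  have hn' : IsNormalSubpair p M Q f (cjS g⁻¹ P) (conjBlock P g⁻¹ c) := by
    have h1 : NormalSubpairRel p M (cP g⁻¹ (cP g ⟨Q, f⟩)) (cP g⁻¹ ⟨P, c⟩) :=
      isNormalSubpair_conj g⁻¹ hn1
    rw [cP_inv_cP] at h1
    exact h1
  obtain ⟨D, hD⟩ := exists_defectGroup hM hQf.1.2
  obtain ⟨y, hy, hyD⟩ := exists_conj_defect_le hM hmax hQf le_rfl hN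
    (fun t => (coeff_eb_coe _ f t).symm) hQf.1.2 hD
  have hcard : Nat.card D ≤ Nat.card P := by
    rw [Nat.card_congr (D.equivMapOfInjective _ (Cen Q).subtype_injective).toEquiv,
      ← card_cjS y (D.map (Cen Q).subtype)]
    exact Subgroup.card_le_of_le hyD
  have hxP : cjS g⁻¹ P ≤ Cen Q := by
    have h2 : cjS g⁻¹ P ≤ cjS g⁻¹ (Cen (cjS g Q)) := cjS_mono hgPC
    rwa [← cen_cjS, cjS_cjS, inv_mul_cancel, cjS_one] at h2
  obtain ⟨k, hk, hkle⟩ := exists_conj_into hM le_rfl hN hQf.1.2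
    (fun t => (coeff_eb_coe _ f t).symm) hD hPC hn hcard hxP hn'
  have heq : cP (k * g⁻¹) ⟨P, c⟩ = ⟨P, c⟩ := by
    rw [← cP_cP]
    exact ple_antisymm_top hM hmax.1.1 hkle
      (Subgroup.eq_of_le_of_card_ge (subgroup_le_of_subpairLE hkle :)
        (le_of_eq (by rw [show (cP k (cP g⁻¹ ⟨P, c⟩)).1 = cjS k (cjS g⁻¹ P) from rfl, card_cjS, card_cjS])))
  refine ⟨(k * g⁻¹)⁻¹, inv_mem (mem_stab.mpr heq), fun x hx => ?_⟩
  have hkx : x * k = k * x := Subgroup.mem_centralizer_iff.mp hk x hx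
  have h3 : k⁻¹ * x * k = x := by rw [mul_assoc, hkx, inv_mul_cancel_left]
  simp only [mul_inv_rev, inv_inv]
  calc g * x * g⁻¹ = g * (k⁻¹ * x * k) * g⁻¹ := by rw [h3]
    _ = _ := by group

/-- An element of the inertial group fixing a nontrivial element of a defect group of order four
centralises it. -/
theorem mem_cen_four {M : Ideal AlgInt} (hM : IsPModular 2 M) {R : Subgroup G}
    {g : Set (IrrCharacter (Cen R))} (hmax : IsMaximalBrauerPair 2 M B R g) (hR : Nat.card R = 4)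
    {x : G} (hx : x ∈ R) (hx1 : x ≠ 1) {y : G} (hy : y ∈ stab (⟨R, g⟩ : BrauerPairIdx G))
    (hyx : Commute y x) : y ∈ Cen R := by
  haveI : Fact (Nat.Prime 2) := ⟨Nat.prime_two⟩
  have hab : ∀ a ∈ R, ∀ b ∈ R, a * b = b * a := comm_four hR
  refine mem_cen_of_regular_part hM hmax hab hy fun z hz hzr => ?_
  have hzN := stab_le_normalizer _ (Subgroup.zpowers_le.mpr hy hz)
  have hzx : Commute z x := by
    obtain ⟨i, rfl⟩ := Subgroup.mem_zpowers_iff.mp hz
    exact hyx.zpow_left i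
  refine Subgroup.mem_centralizer_iff.mpr fun q hq => ?_
  by_cases hq1 : q = 1
  · subst hq1; simp
  by_cases hqx : q = x
  · subst hqx; exact hzx.eq.symm
  have hT : (((Finset.univ : Finset R).erase 1).erase ⟨x, hx⟩).card = 2 := by
    rw [Finset.card_erase_of_mem, Finset.card_erase_of_mem (Finset.mem_univ _), Finset.card_univ,
      ← Nat.card_eq_fintype_card, hR]
    simp [Finset.mem_erase, Subtype.ext_iff, hx1]
  set T := (((Finset.univ : Finset R).erase 1).erase ⟨x, hx⟩).image Subtype.val with hTdef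
  have hTcard : T.card = 2 := by
    rw [hTdef, Finset.card_image_of_injective _ Subtype.val_injective, hT]
  have hmemT : ∀ a, a ∈ T ↔ a ∈ R ∧ a ≠ 1 ∧ a ≠ x := by
    intro a
    simp only [hTdef, Finset.mem_image, Finset.mem_erase, Finset.mem_univ, and_true]
    exact ⟨fun ⟨b, ⟨h1, h2⟩, e⟩ => e ▸ ⟨b.2, fun h => h2 (Subtype.ext h), fun h => h1 (Subtype.ext h)⟩,
      fun ⟨h1, h2, h3⟩ => ⟨⟨a, h1⟩, ⟨fun h => h3 (congrArg Subtype.val h),
        fun h => h2 (congrArg Subtype.val h)⟩, rfl⟩⟩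
  have hmove : ∀ a ∈ T, z * a * z⁻¹ ∈ T := by
    intro a ha
    obtain ⟨h1, h2, h3⟩ := (hmemT a).1 ha
    refine (hmemT _).2 ⟨(Subgroup.mem_normalizer_iff.1 hzN a).1 h1, fun h => h2 (conj_eq_one_iff.1 h),
      fun h => h3 ?_⟩
    have : z * a * z⁻¹ = z * x * z⁻¹ := by rw [h, hzx.eq, mul_inv_cancel_right]
    exact mul_left_cancel (mul_right_cancel this)
  have hqT : q ∈ T := (hmemT q).2 ⟨hq, hq1, hqx⟩
  have hexp2 : z ^ 2 * q * (z ^ 2)⁻¹ = z * (z * q * z⁻¹) * z⁻¹ := by
    rw [pow_two, mul_inv_rev]; simp only [mul_assoc]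
  have hfix2 : z ^ 2 * q * (z ^ 2)⁻¹ = q := by
    rw [hexp2]
    by_cases h1 : z * q * z⁻¹ = q
    · rw [h1, h1]
    · have h2 : z * (z * q * z⁻¹) * z⁻¹ ≠ z * q * z⁻¹ := fun h =>
        h1 (mul_left_cancel (mul_right_cancel h))
      obtain ⟨s, t, hst, hT2⟩ := Finset.card_eq_two.1 hTcard
      have m1 := hqT
      have m2 := hmove q hqT
      have m3 := hmove _ (hmove q hqT)
      rw [hT2, Finset.mem_insert, Finset.mem_singleton] at m1 m2 m3
      grind
  have hc2 : Commute (z ^ 2) q := mul_inv_eq_iff_eq_mul.mp hfix2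
  obtain ⟨j, hj⟩ := Nat.odd_iff.2 (Nat.two_dvd_ne_zero.1 hzr)
  have hz' : z = (z ^ 2) ^ (j + 1) := by
    rw [← pow_mul, show 2 * (j + 1) = orderOf z + 1 by omega, pow_succ, pow_orderOf_eq_one, one_mul]
  rw [hz']
  exact (hc2.pow_left (j + 1)).eq.symm

/-- The block of the centraliser in a subsection of a nontrivial element has one Brauer character. -/
theorem subs_rank {M : Ideal AlgInt} (hM : IsPModular 2 M) (hmax : IsMaximalBrauerPair 2 M B P c)
    (hP : Nat.card P = 4) {u : G} (hu : ∃ k, orderOf u = 2 ^ k) (hu1 : u ≠ 1)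
    {b : Set (IrrCharacter (Cen (Subgroup.zpowers u)))} (hb : b ∈ subs M B u) :
    blockRank 2 b = 1 := by
  haveI : Fact (Nat.Prime 2) := ⟨Nat.prime_two⟩
  obtain ⟨k, hk⟩ := hu
  have hpair : IsBrauerPairOf 2 M B (Subgroup.zpowers u) b :=
    isBrauerPairOf_of_induced hM (BrauerPairs81Nilpotent.isPGroup_zpowers hk) (Finset.mem_filter.1 hb).2
  obtain ⟨R, g, hRmax, hle⟩ := exists_maximal_above hpair
  have hB : IsPBlock M B := hmax.1.2.1
  have hR : Nat.card R = 4 := by
    rw [← hP, BlockContribBounds.card_defectGroup hM hB (isDefectGroup_of_maximal hM hRmax),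
      BlockContribBounds.card_defectGroup hM hB (isDefectGroup_of_maximal hM hmax)]
  have hab : ∀ a ∈ R, ∀ b ∈ R, a * b = b * a := comm_four hR
  have hQR : Subgroup.zpowers u ≤ R := subgroup_le_of_subpairLE hle
  have hRQ : R ≤ Cen (Subgroup.zpowers u) := fun a ha =>
    Subgroup.mem_centralizer_iff.mpr fun q hq => hab q (hQR hq) a ha
  set R₀ := R.subgroupOf (Cen (Subgroup.zpowers u)) with hR₀
  obtain ⟨c₀, hmax₀, hst⟩ : ∃ c₀ : Set (IrrCharacter (Cen R₀)),
      IsMaximalBrauerPair 2 M b R₀ c₀ ∧ ∀ x : Cen (Subgroup.zpowers u),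
        x ∈ stab (⟨R₀, c₀⟩ : BrauerPairIdx (Cen (Subgroup.zpowers u))) ↔
          (x : G) ∈ stab (⟨R, g⟩ : BrauerPairIdx G) := exists_maximal_cen hM hRmax hQR hRQ hle
  have hR₀card : Nat.card R₀ = 4 := by
    rw [hR₀, Nat.card_congr (Subgroup.subgroupOfEquivOfLe hRQ).toEquiv, hR]
  have hstab : stab (⟨R₀, c₀⟩ : BrauerPairIdx (Cen (Subgroup.zpowers u))) ≤ Cen R₀ := fun y hy => by
    have h3 := mem_cen_four hM hRmax hR (hQR (Subgroup.mem_zpowers u)) hu1 ((hst y).mp hy)
      (Subgroup.mem_centralizer_iff.mp y.2 u (Subgroup.mem_zpowers u)).symm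
    exact Subgroup.mem_centralizer_iff.mpr fun q hq => Subtype.ext
      (Subgroup.mem_centralizer_iff.mp h3 _ hq)
  have hab₀ : ∀ a ∈ R₀, ∀ b ∈ R₀, a * b = b * a := fun a ha b hb =>
    Subtype.ext (hab _ ha _ hb)
  have hfus : ∀ a : BrauerPairIdx (Cen (Subgroup.zpowers u)), PLE 2 M a ⟨R₀, c₀⟩ → IsCyclic a.1 →
      ∀ g, PLE 2 M (cP g a) ⟨R₀, c₀⟩ → ∀ x ∈ a.1, g * x * g⁻¹ = x := by
    intro a ha _ g hga x hx
    obtain ⟨y, hy, he⟩ := fus_abelian hM hmax₀ hab₀ ha hga
    rw [he x hx, ← Subgroup.mem_centralizer_iff.mp (hstab hy) x (subgroup_le_of_subpairLE ha hx),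
      mul_inv_cancel_right]
  have h1 := rank_add_le hM hmax₀ hfus
  have hbB : IsPBlock M b := hmax₀.1.2.1
  have hd : blockDefect 2 b = 2 := by
    have := BlockContribBounds.card_defectGroup hM hbB (isDefectGroup_of_maximal hM hmax₀)
    rw [hR₀card, show (4 : ℕ) = 2 ^ 2 by norm_num] at this
    exact (Nat.pow_right_injective le_rfl this).symm
  have h2 := card_le_four hM hbB hd
  have h3 := blockRank_pos hM hbB
  omega

/-- Counting the subsections: every inertial orbit on `P - {1}` of size `o` gives one. -/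
theorem count_subsections {M : Ideal AlgInt} (hM : IsPModular 2 M)
    (hmax : IsMaximalBrauerPair 2 M B P c) (hP : Nat.card P = 4) (o : ℕ)
    (horb : ∀ u₀ : P, (u₀ : G) ≠ 1 → (Finset.univ.filter fun u : P => (u : G) ≠ 1 ∧
      ∃ y ∈ stab (⟨P, c⟩ : BrauerPairIdx G), y * (u : G) * y⁻¹ = u₀).card = o) :
    o * Nat.card B = o * blockRank 2 B + 3 := by
  haveI : Fact (Nat.Prime 2) := ⟨Nat.prime_two⟩
  have hB : IsPBlock M B := hmax.1.2.1
  have hPe : IsBrauerPair 2 M P c := hmax.1.1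
  have hab : ∀ a ∈ P, ∀ b ∈ P, a * b = b * a := comm_four hP
  set E := (Finset.univ.filter (fun u : G => ∃ k, orderOf u = 2 ^ k)).erase 1
  suffices h : 3 * Nat.card G =
      o * ∑ u ∈ E, Nat.card (Cen (Subgroup.zpowers u)) * ∑ b ∈ subs M B u, blockRank 2 b by
    have h1 := card_eq hM hB
    have h2 : Nat.card G * (o * Nat.card B) = Nat.card G * (o * blockRank 2 B + 3) := by
      rw [mul_left_comm, h1, mul_add, mul_add, mul_comm (Nat.card G) 3, h, mul_left_comm]
    exact Nat.eq_of_mul_eq_mul_left Nat.card_pos h2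
  have hchoice : ∀ u : P, ∃ f, SubpairLE 2 M (Subgroup.zpowers (u : G)) f P c := fun u =>
    exists_subpair hM hPe (Subgroup.zpowers_le.2 u.2)
  choose f hf using hchoice
  set pr : P → BrauerPairIdx G := fun u => ⟨Subgroup.zpowers (u : G), f u⟩ with hprdef
  have hprle : ∀ u : P, PLE 2 M (pr u) ⟨P, c⟩ := hf
  set S := Finset.univ.filter (fun u : P => (u : G) ≠ 1) with hS
  set Φ : P × G → G × BrauerPairIdx G := fun w =>
    (w.2 * (w.1 : G) * w.2⁻¹, cP w.2 (pr w.1)) with hΦ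
  have hcardS : S.card = 3 := by
    have : S = Finset.univ.erase (1 : P) := by
      ext u
      simp only [hS, Finset.mem_filter, Finset.mem_univ, true_and, Finset.mem_erase, and_true]
      exact not_congr ⟨fun h => Subtype.ext h, fun h => congrArg Subtype.val h⟩
    rw [this, Finset.card_erase_of_mem (Finset.mem_univ _), Finset.card_univ,
      ← Nat.card_eq_fintype_card, hP]
  rw [← hcardS, Nat.card_eq_fintype_card (α := G), ← Finset.card_univ (α := G),
    ← Finset.card_product, Finset.card_eq_sum_card_fiberwise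
      (t := (S ×ˢ Finset.univ).image Φ) (f := Φ) (fun w hw => Finset.mem_image_of_mem _ hw),
    ← Finset.sum_fiberwise_of_maps_to (g := Prod.fst) (t := E) (fun z hz => ?_), Finset.mul_sum]
  rotate_left
  · obtain ⟨⟨u, g⟩, hw, rfl⟩ := Finset.mem_image.1 hz
    have hu := (Finset.mem_filter.1 (Finset.mem_product.1 hw).1).2
    refine Finset.mem_erase.2 ⟨fun e => hu (conj_eq_one_iff.1 e),
      Finset.mem_filter.2 ⟨Finset.mem_univ _, ?_⟩⟩
    obtain ⟨k, hk⟩ := IsPGroup.iff_orderOf.mp hPe.1 u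
    exact ⟨k, by rw [← hk, ← Subgroup.orderOf_coe]; exact MulEquiv.orderOf_eq (MulAut.conj g) _⟩
  refine Finset.sum_congr rfl fun x hx => ?_
  obtain ⟨hx1, hxo⟩ := Finset.mem_erase.1 hx
  set I := ((S ×ˢ Finset.univ).image Φ).filter (fun z => z.1 = x)
  -- pairs of conjugates
  have hkey : ∀ u : P, ∀ g : G, ∀ y ∈ stab (⟨P, c⟩ : BrauerPairIdx G), ∀ u' : P,
      y * (u : G) * y⁻¹ = u' → cP g (pr u') = cP (g * y) (pr u) := by
    intro u g y hy u' he
    rw [← cP_cP]
    have h1 : PLE 2 M (cP y (pr u)) ⟨P, c⟩ := by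
      have := ple_cP y (hprle u)
      rwa [mem_stab.mp hy] at this
    refine congrArg (cP g) (ple_unique hM hPe (hprle u') h1 ?_)
    show Subgroup.zpowers (u' : G) = cjS y (Subgroup.zpowers (u : G))
    rw [show cjS y (Subgroup.zpowers (u : G)) = Subgroup.zpowers (y * u * y⁻¹) from
      MonoidHom.map_zpowers _ _, he]
  have hfib : ∀ z ∈ I, ((S ×ˢ Finset.univ).filter (fun w => Φ w = z)).card =
      o * Nat.card (Cen (Subgroup.zpowers x)) := by
    intro z hz
    obtain ⟨hz1, rfl⟩ := Finset.mem_filter.1 hz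
    obtain ⟨⟨u₀, g₀⟩, hw₀, rfl⟩ := Finset.mem_image.1 hz1
    have hu₀ : (u₀ : G) ≠ 1 := (Finset.mem_filter.1 (Finset.mem_product.1 hw₀).1).2
    set O := Finset.univ.filter fun u : P => (u : G) ≠ 1 ∧
      ∃ y ∈ stab (⟨P, c⟩ : BrauerPairIdx G), y * (u : G) * y⁻¹ = u₀ with hO
    have hyc : ∀ u : P, ∃ y : G, u ∈ O → y ∈ stab (⟨P, c⟩ : BrauerPairIdx G) ∧ y * (u : G) * y⁻¹ = u₀ :=
      fun u => by
        by_cases hu : u ∈ O
        · obtain ⟨-, -, y, h1, h2⟩ := Finset.mem_filter.1 hu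
          exact ⟨y, fun _ => ⟨h1, h2⟩⟩
        · exact ⟨1, fun h => absurd h hu⟩
    choose yy hyy using hyc
    have hcard : o * Nat.card (Cen (Subgroup.zpowers (Φ (u₀, g₀)).1)) =
        (O ×ˢ (Finset.univ : Finset (Cen (Subgroup.zpowers (Φ (u₀, g₀)).1)))).card := by
      rw [Finset.card_product, Finset.card_univ, ← Nat.card_eq_fintype_card, ← horb u₀ hu₀]
    rw [hcard]
    refine (Finset.card_bij (fun w _ => (w.1, (w.2 : G) * g₀ * yy w.1)) ?_ ?_ ?_).symm
    · rintro ⟨u, k⟩ hw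
      have hu := (Finset.mem_product.1 hw).1
      obtain ⟨hy1, hy2⟩ := hyy u hu
      refine Finset.mem_filter.2 ⟨Finset.mem_product.2 ⟨Finset.mem_filter.2
        ⟨Finset.mem_univ _, (Finset.mem_filter.1 hu).2.1⟩, Finset.mem_univ _⟩, Prod.ext ?_ ?_⟩
      · show (k : G) * g₀ * yy u * u * ((k : G) * g₀ * yy u)⁻¹ = g₀ * u₀ * g₀⁻¹
        have hk : (Φ (u₀, g₀)).1 * (k : G) = (k : G) * (Φ (u₀, g₀)).1 :=
          Subgroup.mem_centralizer_iff.mp k.2 _ (Subgroup.mem_zpowers _)
        simp only [hΦ] at hk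
        rw [show (k : G) * g₀ * yy u * u * ((k : G) * g₀ * yy u)⁻¹ =
          (k : G) * (g₀ * (yy u * u * (yy u)⁻¹) * g₀⁻¹) * (k : G)⁻¹ by group, hy2, ← hk,
          mul_inv_cancel_right]
      · show cP ((k : G) * g₀ * yy u) (pr u) = cP g₀ (pr u₀)
        rw [← hkey u ((k : G) * g₀) (yy u) hy1 u₀ hy2, ← cP_cP]
        have h1 : (cP g₀ (pr u₀)).1 = Subgroup.zpowers (Φ (u₀, g₀)).1 :=
          MonoidHom.map_zpowers _ _
        refine cP_self_of_cen _ ?_
        show (k : G) ∈ Cen (cjS g₀ (Subgroup.zpowers (u₀ : G)))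
        rw [show cjS g₀ (Subgroup.zpowers (u₀ : G)) = Subgroup.zpowers (Φ (u₀, g₀)).1 from h1]
        exact k.2
    · rintro ⟨u, k⟩ hu ⟨u', k'⟩ hu' he
      simp only [Prod.mk.injEq] at he
      obtain ⟨rfl, he⟩ := he
      rw [Subtype.ext (mul_right_cancel (mul_right_cancel he))]
    · rintro ⟨u, g⟩ hw
      obtain ⟨hw1, he⟩ := Finset.mem_filter.1 hw
      simp only [hΦ, Prod.mk.injEq] at he
      obtain ⟨he1, he2⟩ := he
      have hu1 : (u : G) ≠ 1 := (Finset.mem_filter.1 (Finset.mem_product.1 hw1).1).2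
      have h3 : cP (g₀⁻¹ * g) (pr u) = pr u₀ := by rw [← cP_cP, he2, cP_inv_cP]
      obtain ⟨y, hy, hyx⟩ := fus_abelian hM hmax hab (hprle u) (g := g₀⁻¹ * g)
        (by rw [h3]; exact hprle u₀)
      have h5 : y * (u : G) * y⁻¹ = u₀ := by
        rw [← hyx u (Subgroup.mem_zpowers _),
          show g₀⁻¹ * g * (u : G) * (g₀⁻¹ * g)⁻¹ = g₀⁻¹ * (g * u * g⁻¹) * g₀ by group, he1]
        group
      have hu : u ∈ O := Finset.mem_filter.2 ⟨Finset.mem_univ _, hu1, y, hy, h5⟩
      obtain ⟨hy1, hy2⟩ := hyy u hu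
      have hk : g * (yy u)⁻¹ * g₀⁻¹ ∈ Cen (Subgroup.zpowers (Φ (u₀, g₀)).1) := by
        refine (centralizer_zpowers _ _).2 ?_
        show g₀ * (u₀ : G) * g₀⁻¹ * (g * (yy u)⁻¹ * g₀⁻¹) =
          g * (yy u)⁻¹ * g₀⁻¹ * (g₀ * (u₀ : G) * g₀⁻¹)
        conv_lhs => rw [← he1]
        rw [← hy2]
        group
      exact ⟨(u, ⟨_, hk⟩), Finset.mem_product.2 ⟨hu, Finset.mem_univ _⟩,
        Prod.ext rfl (by simp [mul_assoc])⟩
  rw [Finset.sum_congr rfl hfib, Finset.sum_const, smul_eq_mul]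
  have hI : I.card = (subs M B x).card := by
    refine (Finset.card_bij (fun b _ => ((x, ⟨Subgroup.zpowers x, b⟩) : G × BrauerPairIdx G))
      (fun b hb => ?_) (fun b _ b' _ h => by simpa using h) fun z hz => ?_).symm
    · obtain ⟨k, hk⟩ := (Finset.mem_filter.1 hxo).2
      have hpair : IsBrauerPairOf 2 M B (Subgroup.zpowers x) b :=
        isBrauerPairOf_of_induced hM (BrauerPairs81Nilpotent.isPGroup_zpowers hk)
          (Finset.mem_filter.1 hb).2
      obtain ⟨g, hg⟩ := exists_conj_subpairLE hM hmax hpair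
      have hmem : g * x * g⁻¹ ∈ P :=
        subgroup_le_of_subpairLE hg ⟨x, Subgroup.mem_zpowers x, rfl⟩
      set u : P := ⟨_, hmem⟩
      have heq : cP g ⟨Subgroup.zpowers x, b⟩ = pr u :=
        ple_unique hM hPe (show PLE 2 M (cP g ⟨Subgroup.zpowers x, b⟩) ⟨P, c⟩ from hg) (hprle u)
          (MonoidHom.map_zpowers _ _)
      refine Finset.mem_filter.2 ⟨Finset.mem_image.2 ⟨(u, g⁻¹), Finset.mem_product.2
        ⟨Finset.mem_filter.2 ⟨Finset.mem_univ _, fun h => hx1 (conj_eq_one_iff.1 h)⟩,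
          Finset.mem_univ _⟩, Prod.ext ?_ ?_⟩, rfl⟩
      · show g⁻¹ * (g * x * g⁻¹) * g⁻¹⁻¹ = x
        group
      · show cP g⁻¹ (pr u) = _
        rw [← heq, cP_inv_cP]
    · obtain ⟨hz1, rfl⟩ := Finset.mem_filter.1 hz
      obtain ⟨⟨u, g⟩, -, rfl⟩ := Finset.mem_image.1 hz1
      have hpair : IsBrauerPairOf 2 M B (cP g (pr u)).1 (cP g (pr u)).2 :=
        isBrauerPairOf_conj g (isBrauerPairOf_down hM (hf u) hmax.1)
      obtain ⟨b, hb⟩ := exists_pair_eq
        (show (cP g (pr u)).1 = Subgroup.zpowers (Φ (u, g)).1 from MonoidHom.map_zpowers _ _)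
      rw [hb] at hpair
      exact ⟨b, mem_subs hM hpair, Prod.ext rfl hb.symm⟩
  rw [hI, Finset.sum_congr rfl (fun b hb => subs_rank hM hmax hP (Finset.mem_filter.1 hxo).2 hx1 hb),
    Finset.sum_const, smul_eq_mul, mul_one]
  ring

theorem perm_three : ∀ (σ : Equiv.Perm (Fin 3)), σ ≠ 1 → σ ^ 3 = 1 →
    ∀ a b : Fin 3, a = b ∨ σ a = b ∨ σ (σ a) = b := by decide

/-- The inertial index is one or three; there are four characters. -/
theorem inertial {M : Ideal AlgInt} (hM : IsPModular 2 M) (hmax : IsMaximalBrauerPair 2 M B P c)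
    (hV : IsKleinFour P) (T : Subgroup G) (hTs : ∀ g, g ∈ T ↔ g ∈ stab (⟨P, c⟩ : BrauerPairIdx G))
    (e : ℕ) (he : (Cen P).relIndex T = e) :
    (e = 1 ∨ e = 3) ∧ Nat.card B = 4 ∧ blockRank 2 B = e := by
  haveI : Fact (Nat.Prime 2) := ⟨Nat.prime_two⟩
  have hP : Nat.card P = 4 := hV.card_four
  have hab := comm_four hP
  have hB : IsPBlock M B := hmax.1.2.1
  have hTN : ∀ g ∈ T, g ∈ Subgroup.normalizer (P : Set G) := fun g hg =>
    stab_le_normalizer _ ((hTs g).1 hg)
  let X := {u : P // (u : G) ≠ 1}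
  letI : MulAction T X :=
    { smul := fun t v => ⟨⟨(t : G) * v.1 * (t : G)⁻¹,
          (Subgroup.mem_normalizer_iff.1 (hTN t t.2) _).1 v.1.2⟩, fun h => v.2 (conj_eq_one_iff.1 h)⟩
      one_smul := fun v => Subtype.ext (Subtype.ext (by
        show (1 : G) * (v.1 : G) * (1 : G)⁻¹ = v.1
        group))
      mul_smul := fun s t v => Subtype.ext (Subtype.ext (by
        show ((s : G) * t) * (v.1 : G) * ((s : G) * t)⁻¹ = s * ((t : G) * v.1 * (t : G)⁻¹) * (s : G)⁻¹
        group)) }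
  let ψ : T →* Equiv.Perm X := MulAction.toPermHom T X
  have happ : ∀ (t : T) (v : X), ((ψ t v).1 : G) = (t : G) * v.1 * (t : G)⁻¹ := fun t v => rfl
  have hker : ψ.ker = (Cen P).subgroupOf T := by
    ext t
    rw [MonoidHom.mem_ker, Subgroup.mem_subgroupOf]
    refine ⟨fun h => Subgroup.mem_centralizer_iff.2 fun u hu => ?_, fun h => ?_⟩
    · by_cases hu1 : u = 1
      · rw [hu1, one_mul, mul_one]
      · have h1 := happ t ⟨⟨u, hu⟩, hu1⟩
        rw [h, Equiv.Perm.one_apply] at h1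
        exact (mul_inv_eq_iff_eq_mul.1 h1.symm).symm
    · refine Equiv.ext fun v => Subtype.ext (Subtype.ext ?_)
      rw [happ, Equiv.Perm.one_apply, ← Subgroup.mem_centralizer_iff.1 h _ v.1.2,
        mul_inv_cancel_right]
  have hX : Nat.card X = 3 := by
    have h1 : Nat.card X = ((Finset.univ : Finset P).erase 1).card := Nat.subtype_card _ fun u => by
      simp only [Finset.mem_erase, Finset.mem_univ, and_true]
      exact not_congr ⟨fun h => congrArg Subtype.val h, fun h => Subtype.ext h⟩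
    rw [h1, Finset.card_erase_of_mem (Finset.mem_univ _), Finset.card_univ, ← Nat.card_eq_fintype_card, hP]
  have hcube : ∀ t : T, ψ t ^ 3 = 1 := by
    intro t
    obtain ⟨y, z, hy, hz, heq, ⟨k, hk⟩, hzr⟩ := exists_split (p := 2) (t : G)
    have hle := Subgroup.zpowers_le.mpr t.2
    have h1 := le_sup_of_stabilizes hM hmax (BrauerPairs81Nilpotent.isPGroup_zpowers hk) fun u hu =>
      ((hTs u).1 (Subgroup.zpowers_le.mpr (hle hy) hu) : u ∈ stab ⟨P, c⟩)
    have h2 : P ⊔ Cen P ≤ Cen P :=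
      sup_le (fun u hu => Subgroup.mem_centralizer_iff.mpr fun q hq => hab q hq u hu) le_rfl
    have hyk : ψ ⟨y, hle hy⟩ = 1 := by
      rw [← MonoidHom.mem_ker, hker, Subgroup.mem_subgroupOf]
      exact h2 (h1 (Subgroup.mem_zpowers y))
    have hψ : ψ t = ψ ⟨z, hle hz⟩ := by
      rw [show t = (⟨y, hle hy⟩ : T) * ⟨z, hle hz⟩ from Subtype.ext heq, map_mul, hyk, one_mul]
    rw [hψ, ← orderOf_dvd_iff_pow_eq_one]
    have d1 : orderOf (ψ ⟨z, hle hz⟩) ∣ orderOf z :=
      (orderOf_map_dvd ψ _).trans (Subgroup.orderOf_mk _ _).dvd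
    have d2 : orderOf (ψ ⟨z, hle hz⟩) ∣ 2 * 3 := by
      have := orderOf_dvd_natCard (ψ ⟨z, hle hz⟩)
      rwa [Nat.card_perm, hX] at this
    exact ((Nat.prime_two.coprime_iff_not_dvd.2 fun h => hzr (h.trans d1)).symm).dvd_of_dvd_mul_left d2
  have hcard : Nat.card ψ.range = e := by
    rw [← he, Subgroup.relIndex, ← hker, Subgroup.index_ker]
  have he13 : e = 1 ∨ e = 3 := by
    haveI : Fact (Nat.Prime 3) := ⟨Nat.prime_three⟩
    have hpg : IsPGroup 3 ψ.range := fun s => by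
      obtain ⟨t, ht⟩ := s.2
      exact ⟨1, Subtype.ext (by simpa [← ht] using hcube t)⟩
    obtain ⟨k, hk⟩ := IsPGroup.iff_card.1 hpg
    have h6 : Nat.card ψ.range ∣ 6 := by
      have := Subgroup.card_subgroup_dvd_card ψ.range
      rwa [Nat.card_perm, hX] at this
    rw [hk] at h6 hcard
    have hk1 : k ≤ 1 := by
      by_contra hk1
      have := (pow_dvd_pow 3 (show 2 ≤ k by omega)).trans h6
      omega
    interval_cases k <;> omega
  have horb : ∀ u₀ : P, (u₀ : G) ≠ 1 → (Finset.univ.filter fun u : P => (u : G) ≠ 1 ∧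
      ∃ y ∈ stab (⟨P, c⟩ : BrauerPairIdx G), y * (u : G) * y⁻¹ = u₀).card = e := by
    intro u₀ hu₀
    rcases he13 with rfl | rfl
    · rw [Finset.card_eq_one]
      refine ⟨u₀, ?_⟩
      ext u
      simp only [Finset.mem_filter, Finset.mem_univ, true_and, Finset.mem_singleton]
      refine ⟨fun ⟨_, y, hy, h⟩ => Subtype.ext ?_, fun h => by subst h; exact ⟨hu₀, 1, one_mem _, by simp⟩⟩
      have hyC := Subgroup.relIndex_eq_one.1 he ((hTs y).2 hy)
      rw [← h, ← Subgroup.mem_centralizer_iff.1 hyC _ u.2, mul_inv_cancel_right]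
    · have : (Finset.univ.filter fun u : P => (u : G) ≠ 1 ∧
          ∃ y ∈ stab (⟨P, c⟩ : BrauerPairIdx G), y * (u : G) * y⁻¹ = u₀) = Finset.univ.erase 1 := by
        ext u
        simp only [Finset.mem_filter, Finset.mem_univ, true_and, Finset.mem_erase, and_true]
        refine ⟨fun h e => h.1 (by rw [e]; rfl), fun h => ?_⟩
        have hu : (u : G) ≠ 1 := fun e => h (Subtype.ext e)
        refine ⟨hu, ?_⟩
        obtain ⟨t, ht⟩ : ∃ t : T, ψ t ≠ 1 := by
          by_contra hc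
          push Not at hc
          haveI : Subsingleton ψ.range := ⟨fun a b => by
            obtain ⟨s, hs⟩ := a.2
            obtain ⟨s', hs'⟩ := b.2
            exact Subtype.ext (by rw [← hs, ← hs', hc, hc])⟩
          rw [Nat.card_of_subsingleton (1 : ψ.range)] at hcard
          omega
        let φ : X ≃ Fin 3 := Finite.equivFinOfCardEq hX
        let σ := φ.permCongrHom (ψ t)
        have hσ1 : σ ≠ 1 := fun hh => ht (φ.permCongrHom.injective (hh.trans (map_one _).symm))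
        have hσ3 : σ ^ 3 = 1 := by
          show φ.permCongrHom (ψ t) ^ 3 = 1
          rw [← map_pow, hcube, map_one]
        have happ' : ∀ v : X, σ (φ v) = φ (ψ t v) := fun v => by
          simp [σ, Equiv.permCongrHom, Equiv.permCongr]
        have key := perm_three σ hσ1 hσ3 (φ ⟨u, hu⟩) (φ ⟨u₀, hu₀⟩)
        simp only [happ', φ.injective.eq_iff] at key
        rcases key with k1 | k2 | k3
        · exact ⟨1, one_mem _, by rw [one_mul, inv_one, mul_one]; exact congrArg (fun v : X => ((v.1 : P) : G)) k1⟩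
        · refine ⟨t, (hTs _).1 t.2, ?_⟩
          rw [← happ t ⟨u, hu⟩, k2]
        · refine ⟨(t : G) * t, (hTs _).1 (mul_mem t.2 t.2), ?_⟩
          rw [show ((t : G) * t) * (u : G) * ((t : G) * t)⁻¹ = t * ((ψ t ⟨u, hu⟩).1 : G) * (t : G)⁻¹ by
            rw [happ]; group, ← happ t (ψ t ⟨u, hu⟩), k3]
      rw [this, Finset.card_erase_of_mem (Finset.mem_univ _), Finset.card_univ, ← Nat.card_eq_fintype_card, hP]
  have hcount := count_subsections hM hmax hP e horb
  have hd : blockDefect 2 B = 2 := by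
    have := BlockContribBounds.card_defectGroup hM hB (isDefectGroup_of_maximal hM hmax)
    rw [hP, show (4 : ℕ) = 2 ^ 2 by norm_num] at this
    exact (Nat.pow_right_injective le_rfl this).symm
  have h4 := card_le_four hM hB hd
  have h0 := blockRank_pos hM hB
  refine ⟨he13, ?_⟩
  rcases he13 with rfl | rfl
  · omega
  · have := card_eq_four hM hB hd (by omega)
    omega

end Cfsg.Agent.KleinFourDefect79
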