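import Mathlib
import Cfsg.Agent.Lib.DihedralDefectGroup79

/-!
# Class functions of a 2-group of maximal class supported on the rotations

`P` has order `4 * h`, `s` has order `2 * h`, and the other elements of `P` send `s` to `s ^ q`.
-/

set_option autoImplicit false
set_option linter.unusedSectionVars false

open scoped ComplexConjugate

namespace Cfsg.Agent.MaxClassGroup79

open Cfsg

attribute [local instance] Classical.propDecidable

universe u

variable {H : Type u} [Group H] [Fintype H] {P : Subgroup H} {s : H} {h q : ℕ} {ζ : ℂ}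

/-- A 2-group of maximal class with a chosen rotation. -/
structure MC (h q : ℕ) (P : Subgroup H) (s : H) : Prop where
  mem : s ∈ P
  order : orderOf s = 2 * h
  two_pow : ∃ k : ℕ, h = 2 ^ k
  two_le : 2 ≤ h
  card : Nat.card P = 4 * h
  refl : ∀ u ∈ P, u ∉ Subgroup.zpowers s → u * s * u⁻¹ = s ^ q ∧ (u * u = 1 ∨ u * u = s ^ h)
  exists_refl : ∃ u ∈ P, u ∉ Subgroup.zpowers s
  twist : q + 1 = 2 * h ∨ (4 ≤ h ∧ q + 1 = h)

theorem pow_two_h (hd : MC h q P s) : s ^ (2 * h) = 1 := by rw [← hd.order, pow_orderOf_eq_one]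

theorem pow_mod (hd : MC h q P s) (a : ℕ) : s ^ (a % (2 * h)) = s ^ a := by
  rw [← hd.order, pow_mod_orderOf]

theorem pow_eq_pow (hd : MC h q P s) {a b : ℕ} :
    s ^ a = s ^ b ↔ a % (2 * h) = b % (2 * h) := by
  rw [← hd.order]; exact pow_inj_mod

theorem even_h (hd : MC h q P s) : Even h := by
  obtain ⟨k, hk⟩ := hd.two_pow
  rcases k with _ | k
  · have := hd.two_le; rw [pow_zero] at hk; omega
  · exact hk ▸ ⟨2 ^ k, by rw [pow_succ]; ring⟩

theorem q_odd (hd : MC h q P s) : Odd q := by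
  obtain ⟨r, hr⟩ := even_h hd
  rw [Nat.odd_iff]
  rcases hd.twist with e | ⟨-, e⟩ <;> omega

theorem four_dvd (hd : MC h q P s) (h4 : 4 ≤ h) : 4 ∣ h := by
  obtain ⟨k, hk⟩ := hd.two_pow
  rcases k with _ | _ | k
  · rw [pow_zero] at hk; omega
  · rw [pow_one] at hk; omega
  · exact ⟨2 ^ k, by rw [hk, pow_succ, pow_succ]; ring⟩

theorem dvd_succ_mul_two (hd : MC h q P s) : 2 * h ∣ (q + 1) * 2 := by
  rcases hd.twist with e | ⟨-, e⟩
  · exact ⟨2, by rw [e]⟩
  · exact ⟨1, by rw [e]; ring⟩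

theorem dvd_succ_mul_half (hd : MC h q P s) : 2 * h ∣ (q + 1) * (h / 2) := by
  rcases hd.twist with e | ⟨h4, e⟩
  · exact ⟨h / 2, by rw [e]⟩
  · obtain ⟨r, hr⟩ := four_dvd hd h4
    refine ⟨r, ?_⟩
    rw [e, hr, show 4 * r / 2 = 2 * r by omega]
    ring

theorem sq_q (hd : MC h q P s) (a : ℕ) : q * (q * a) % (2 * h) = a % (2 * h) := by
  have key : q * q % (2 * h) = 1 % (2 * h) := by
    obtain ⟨r, hr⟩ := even_h hd
    rcases hd.twist with e | ⟨h4, e⟩
    · obtain ⟨m, rfl⟩ : ∃ m, h = m + 1 := ⟨h - 1, by omega⟩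
      obtain rfl : q = 2 * m + 1 := by omega
      rw [show (2 * m + 1) * (2 * m + 1) = 1 + 2 * (m + 1) * (2 * m) by ring,
        Nat.add_mul_mod_self_left]
    · obtain ⟨m, rfl⟩ : ∃ m, r = m + 1 := ⟨r - 1, by omega⟩
      obtain rfl : q = 2 * m + 1 := by omega
      rw [hr, show (2 * m + 1) * (2 * m + 1) = 1 + 2 * (m + 1 + (m + 1)) * m by ring,
        Nat.add_mul_mod_self_left]
  rw [← mul_assoc, Nat.mul_mod, key, ← Nat.mul_mod, one_mul]

theorem q_mul_injective (hd : MC h q P s) {a b : ℕ} (e : q * a % (2 * h) = q * b % (2 * h)) :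
    a % (2 * h) = b % (2 * h) := by
  rw [← sq_q hd a, ← sq_q hd b, Nat.mul_mod, e, ← Nat.mul_mod]

/-- On even indices the twist is negation. -/
theorem q_mul_even (hd : MC h q P s) {i : ℕ} (hi : i ≤ h) :
    q * (2 * i) % (2 * h) = (2 * h - 2 * i) % (2 * h) := by
  obtain ⟨c, hc⟩ := dvd_succ_mul_two hd
  have h1 : q * (2 * i) + 2 * i = 2 * h * (c * i) := by
    rw [show q * (2 * i) + 2 * i = (q + 1) * 2 * i by ring, hc, mul_assoc]
  have h2 : q * (2 * i) + 2 * i ≡ 2 * h - 2 * i + 2 * i [MOD 2 * h] := by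
    show _ % _ = _ % _
    rw [h1, Nat.mul_mod_right, Nat.sub_add_cancel (by omega), Nat.mod_self]
  exact Nat.ModEq.add_right_cancel' _ h2

theorem exists_pow (hd : MC h q P s) {x : H} (hx : x ∈ Subgroup.zpowers s) :
    ∃ a < 2 * h, x = s ^ a := by
  have : x ∈ Submonoid.powers s := (isOfFinOrder_of_finite s).mem_powers_iff_mem_zpowers.2 hx
  obtain ⟨a, rfl⟩ := this
  exact ⟨a % (2 * h), Nat.mod_lt _ (by have := hd.two_le; omega), (pow_mod hd a).symm⟩

theorem sq_one_rot (hd : MC h q P s) {z : H} (hz : z ∈ Subgroup.zpowers s) (h2 : z * z = 1) :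
    z = 1 ∨ z = s ^ h := by
  obtain ⟨a, ha, rfl⟩ := exists_pow hd hz
  rw [← pow_add] at h2
  obtain ⟨c, hc⟩ := orderOf_dvd_of_pow_eq_one h2
  rw [hd.order] at hc
  rcases c with _ | _ | c
  · left; rw [show a = 0 by omega, pow_zero]
  · right; rw [show a = h by omega]
  · nlinarith

/-- The element of order four. -/
def tEl (h : ℕ) (s : H) : H := s ^ (h / 2)

theorem t_mul_self (hd : MC h q P s) : tEl h s * tEl h s = s ^ h := by
  rw [tEl, ← pow_add]
  congr 1
  obtain ⟨r, hr⟩ := even_h hd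
  omega

theorem t_inv (hd : MC h q P s) {u : H} (hu : u ∈ P) (hr : u ∉ Subgroup.zpowers s) :
    u * tEl h s * u⁻¹ = (tEl h s)⁻¹ := by
  rw [tEl, ← conj_pow, (hd.refl u hu hr).1, ← pow_mul]
  refine eq_inv_of_mul_eq_one_left ?_
  rw [← pow_add, show q * (h / 2) + h / 2 = (q + 1) * (h / 2) by ring]
  obtain ⟨c, hc⟩ := dvd_succ_mul_half hd
  rw [hc, pow_mul, pow_two_h hd, one_pow]

theorem conj_t (hd : MC h q P s) {u : H} (hu : u ∈ P) :
    u * tEl h s * u⁻¹ = tEl h s ∨ u * tEl h s * u⁻¹ = (tEl h s)⁻¹ := by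
  by_cases hr : u ∈ Subgroup.zpowers s
  · left
    obtain ⟨a, -, rfl⟩ := exists_pow hd hr
    rw [tEl, ((Commute.refl s).pow_pow a (h / 2)).eq, mul_inv_cancel_right]
  · exact Or.inr (t_inv hd hu hr)

theorem J_comm (hd : MC h q P s) {u : H} (hu : u ∈ P) : u * s ^ h * u⁻¹ = s ^ h := by
  rw [← t_mul_self hd]
  have e : u * (tEl h s * tEl h s) * u⁻¹ = (u * tEl h s * u⁻¹) * (u * tEl h s * u⁻¹) := by group
  rw [e]
  rcases conj_t hd hu with e1 | e1 <;> rw [e1]
  rw [← mul_inv_rev, t_mul_self hd]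
  refine inv_eq_of_mul_eq_one_left ?_
  rw [← pow_add, ← two_mul, pow_two_h hd]

theorem order_t (hd : MC h q P s) : orderOf (tEl h s) = 4 := by
  obtain ⟨r, hr⟩ := even_h hd
  have := hd.two_le
  rw [tEl, orderOf_pow' _ (by omega), hd.order, show 2 * h = h / 2 * 4 by omega,
    Nat.gcd_mul_right_left, Nat.mul_div_cancel_left _ (by omega)]

/-- The element of order four is a power of every rotation outside the involution. -/
theorem t_mem_zpowers (hd : MC h q P s) {a : ℕ} (h0 : 0 < a) (ha : a < 2 * h) (hne : a ≠ h) :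
    tEl h s ∈ Subgroup.zpowers (s ^ a) := by
  obtain ⟨k, hk⟩ := hd.two_pow
  obtain ⟨t, o, ho, hao⟩ := Nat.exists_eq_pow_mul_and_not_dvd h0.ne' 2 (by norm_num)
  have ho1 : 1 ≤ o := Nat.pos_of_ne_zero (by rintro rfl; simp at ho)
  have hto : 2 ^ t ≤ a := by rw [hao]; exact Nat.le_mul_of_pos_right _ ho1
  have htk : t + 1 ≤ k := by
    by_contra hlt
    rcases (show t = k ∨ k + 1 ≤ t by omega) with e | e
    · rw [e, ← hk] at hao
      rcases (show o = 1 ∨ 2 ≤ o by omega) with e1 | e1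
      · exact hne (by rw [hao, e1, mul_one])
      · have := Nat.mul_le_mul_left h e1
        rw [hao] at ha
        omega
    · have : 2 ^ (k + 1) ≤ 2 ^ t := Nat.pow_le_pow_right (by norm_num) e
      rw [pow_succ, ← hk] at this
      omega
  have hh2 : h / 2 = 2 ^ (k - 1) := by
    rw [hk, show k = k - 1 + 1 by omega, pow_succ, Nat.mul_div_cancel _ two_pos]
    simp
  -- an inverse of the odd part
  obtain ⟨m, hm⟩ : ∃ m, o * m % (2 * h) = 1 := by
    have hcop : o.Coprime (2 * h) := by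
      have h2 : o.Coprime 2 := (Nat.prime_two.coprime_iff_not_dvd.2 ho).symm
      rw [hk, ← pow_succ']
      exact h2.pow_right _
    obtain ⟨m, -, hm⟩ := Nat.exists_mul_mod_eq_one_of_coprime hcop (by omega)
    exact ⟨m, hm⟩
  refine ⟨((m * 2 ^ (k - 1 - t) : ℕ) : ℤ), ?_⟩
  show (s ^ a) ^ ((m * 2 ^ (k - 1 - t) : ℕ) : ℤ) = tEl h s
  rw [zpow_natCast, tEl, hh2, ← pow_mul, hao, pow_eq_pow hd,
    show 2 ^ t * o * (m * 2 ^ (k - 1 - t)) = o * m * 2 ^ (t + (k - 1 - t)) by rw [pow_add]; ring,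
    Nat.add_sub_cancel' (by omega), Nat.mul_mod, hm, one_mul, Nat.mod_mod]

/-- Evaluation at a rotation. -/
noncomputable def ev (s : H) (f : P → ℂ) (a : ℕ) : ℂ :=
  if hx : s ^ a ∈ P then f ⟨s ^ a, hx⟩ else 0

theorem ev_eq (hd : MC h q P s) (f : P → ℂ) (a : ℕ) :
    ev s f a = f ⟨s ^ a, pow_mem hd.mem a⟩ := dif_pos _

theorem ev_twist (hd : MC h q P s) {f : P → ℂ} (hf : IsClassFunction P f) (a : ℕ) :
    ev s f (q * a) = ev s f a := by
  obtain ⟨u, hu, hur⟩ := hd.exists_refl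
  rw [ev_eq hd, ev_eq hd, ← hf ⟨s ^ a, pow_mem hd.mem a⟩ ⟨u, hu⟩]
  refine congrArg f (Subtype.ext ?_)
  simp only [Subgroup.coe_mul, Subgroup.coe_inv]
  rw [← conj_pow, (hd.refl u hu hur).1, pow_mul]

/-- The function with values `φ` on the rotations and zero elsewhere. -/
noncomputable def rotFun (P : Subgroup H) (s : H) (m : ℕ) (φ : ℕ → ℂ) : P → ℂ :=
  fun x => ∑ a ∈ Finset.range m, if (x : H) = s ^ a then φ a else 0

theorem rotFun_pow (hd : MC h q P s) (φ : ℕ → ℂ) {x : P} {a : ℕ} (hx : (x : H) = s ^ a) :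
    rotFun P s (2 * h) φ x = φ (a % (2 * h)) := by
  have hlt : a % (2 * h) < 2 * h := Nat.mod_lt _ (by have := hd.two_le; omega)
  rw [rotFun, Finset.sum_eq_single (a % (2 * h))]
  · rw [if_pos (by rw [pow_mod hd, hx])]
  · intro b hb hne
    refine if_neg fun e => hne ?_
    rw [hx, pow_eq_pow hd, Nat.mod_eq_of_lt (Finset.mem_range.1 hb)] at e
    exact e.symm
  · exact fun hn => absurd (Finset.mem_range.2 hlt) hn

theorem rotFun_refl (φ : ℕ → ℂ) {m : ℕ} {x : P} (hx : (x : H) ∉ Subgroup.zpowers s) :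
    rotFun P s m φ x = 0 :=
  Finset.sum_eq_zero fun a _ => if_neg fun e => hx (by rw [e]; exact Subgroup.npow_mem_zpowers s a)

theorem ev_rotFun (hd : MC h q P s) (φ : ℕ → ℂ) (a : ℕ) :
    ev s (rotFun P s (2 * h) φ) a = φ (a % (2 * h)) := by
  rw [ev_eq hd]; exact rotFun_pow hd φ rfl

theorem rotFun_supp (hd : MC h q P s) {φ : ℕ → ℂ} (h0 : φ 0 = 0) (h1 : φ h = 0) {x : P}
    (hx : rotFun P s (2 * h) φ x ≠ 0) : tEl h s ∈ Subgroup.zpowers (x : H) := by
  by_cases hr : (x : H) ∈ Subgroup.zpowers s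
  · obtain ⟨a, ha, e⟩ := exists_pow hd hr
    rw [rotFun_pow hd φ e, Nat.mod_eq_of_lt ha] at hx
    rw [e]
    exact t_mem_zpowers hd (Nat.pos_of_ne_zero fun e' => hx (e' ▸ h0)) ha fun e' => hx (e' ▸ h1)
  · exact absurd (rotFun_refl φ hr) hx

theorem rotFun_classFun (hd : MC h q P s) {φ : ℕ → ℂ}
    (hsymm : ∀ a < 2 * h, φ (q * a % (2 * h)) = φ a) :
    IsClassFunction P (rotFun P s (2 * h) φ) := by
  intro x k
  by_cases hx : (x : H) ∈ Subgroup.zpowers s
  · obtain ⟨a, ha, e⟩ := exists_pow hd hx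
    rw [rotFun_pow hd φ e, Nat.mod_eq_of_lt ha]
    by_cases hk : (k : H) ∈ Subgroup.zpowers s
    · obtain ⟨b, -, hb⟩ := exists_pow hd hk
      rw [rotFun_pow hd φ (a := a) (by
        simp only [Subgroup.coe_mul, Subgroup.coe_inv]
        rw [e, hb, ((Commute.refl s).pow_pow b a).eq, mul_inv_cancel_right]),
        Nat.mod_eq_of_lt ha]
    · rw [rotFun_pow hd φ (a := q * a) (by
        simp only [Subgroup.coe_mul, Subgroup.coe_inv]
        rw [e, ← conj_pow, (hd.refl _ k.2 hk).1, pow_mul]), hsymm a ha]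
  · rw [rotFun_refl φ hx, rotFun_refl φ]
    intro hm
    apply hx
    simp only [Subgroup.coe_mul, Subgroup.coe_inv] at hm
    obtain ⟨a, -, ha⟩ := exists_pow hd hm
    have e : (x : H) = (k : H)⁻¹ * s ^ a * ((k : H)⁻¹)⁻¹ := by rw [← ha]; group
    rw [e]
    by_cases hk : (k : H)⁻¹ ∈ Subgroup.zpowers s
    · exact mul_mem (mul_mem hk (Subgroup.npow_mem_zpowers s a)) (inv_mem hk)
    · rw [← conj_pow, (hd.refl _ (inv_mem k.2) hk).1, ← pow_mul]
      exact Subgroup.npow_mem_zpowers s _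

theorem inner_rotFun (hd : MC h q P s) (f : P → ℂ) (φ : ℕ → ℂ) :
    classInner f (rotFun P s (2 * h) φ) =
      ((4 * h : ℕ) : ℂ)⁻¹ * ∑ a ∈ Finset.range (2 * h), ev s f a * conj (φ a) := by
  rw [classInner, hd.card]
  congr 1
  simp only [rotFun, map_sum, Finset.mul_sum]
  rw [Finset.sum_comm]
  refine Finset.sum_congr rfl fun a _ => ?_
  rw [ev_eq hd, Finset.sum_eq_single (⟨s ^ a, pow_mem hd.mem a⟩ : P)]
  · rw [if_pos rfl]
  · intro x _ hne
    rw [if_neg fun e => hne (Subtype.ext e), map_zero, mul_zero]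
  · exact fun hn => absurd (Finset.mem_univ _) hn

theorem root_pow_mod (hζ : IsPrimitiveRoot ζ (2 * h)) (n : ℕ) : ζ ^ (n % (2 * h)) = ζ ^ n := by
  rw [hζ.eq_orderOf, pow_mod_orderOf]

theorem root_mul_mod (hζ : IsPrimitiveRoot ζ (2 * h)) (i a : ℕ) :
    ζ ^ (i % (2 * h) * a) = ζ ^ (i * a) := by
  rw [pow_mul, pow_mul, root_pow_mod hζ]

theorem orth_mod (hζ : IsPrimitiveRoot ζ (2 * h)) (hh : 0 < h) (i j : ℕ) :
    ∑ a ∈ Finset.range (2 * h), ζ ^ (i * a) * (ζ ^ (j * a))⁻¹ =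
      if i % (2 * h) = j % (2 * h) then ((2 * h : ℕ) : ℂ) else 0 := by
  rw [← DihedralDefectGroup79.sum_root_div hζ (Nat.mod_lt i (by omega)) (Nat.mod_lt j (by omega))]
  simp only [root_mul_mod hζ]

/-- The basic function at an index. -/
noncomputable def phi (ζ : ℂ) (q j a : ℕ) : ℂ := ζ ^ (j * a) + ζ ^ (q * j * a)

/-- The difference of two basic functions. -/
noncomputable def dphi (P : Subgroup H) (s : H) (ζ : ℂ) (h q i j : ℕ) : P → ℂ :=
  rotFun P s (2 * h) fun a => phi ζ q i a - phi ζ q j a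

theorem phi_symm (hd : MC h q P s) (hζ : IsPrimitiveRoot ζ (2 * h)) (j a : ℕ) :
    phi ζ q j (q * a % (2 * h)) = phi ζ q j a := by
  have e : ∀ m : ℕ, ζ ^ (m * (q * a % (2 * h))) = ζ ^ (m * (q * a)) := fun m => by
    rw [mul_comm m, root_mul_mod hζ, mul_comm]
  simp only [phi, e]
  rw [show j * (q * a) = q * j * a by ring]
  conv_lhs => rw [show q * j * (q * a) = q * (q * (j * a)) by ring, ← root_pow_mod hζ (q * (q * _)),
    sq_q hd, root_pow_mod hζ, add_comm]

theorem dphi_classFun (hd : MC h q P s) (hζ : IsPrimitiveRoot ζ (2 * h)) (i j : ℕ) :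
    IsClassFunction P (dphi P s ζ h q i j) :=
  rotFun_classFun hd fun a _ => by rw [phi_symm hd hζ, phi_symm hd hζ]

theorem phi_h (hd : MC h q P s) (hζ : IsPrimitiveRoot ζ (2 * h)) (j : ℕ) :
    phi ζ q j h = 2 * (-1) ^ j := by
  have hneg : ζ ^ h = -1 :=
    (hζ.pow (by have := hd.two_le; omega) (show 2 * h = h * 2 by ring)).eq_neg_one_of_two_right
  rw [phi, mul_comm j, mul_comm (q * j), pow_mul, pow_mul, hneg, pow_mul, (q_odd hd).neg_one_pow]
  ring

theorem dphi_supp (hd : MC h q P s) (hζ : IsPrimitiveRoot ζ (2 * h)) {i j : ℕ}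
    (hij : i % 2 = j % 2) (x : P) (hx : dphi P s ζ h q i j x ≠ 0) :
    tEl h s ∈ Subgroup.zpowers (x : H) := by
  refine rotFun_supp hd (by simp [phi]) ?_ hx
  rw [phi_h hd hζ, phi_h hd hζ, neg_one_pow_congr (R := ℂ) (n := j) (by simp [Nat.even_iff, hij]), sub_self]

theorem conj_phi (hζ : IsPrimitiveRoot ζ (2 * h)) (hh : 0 < h) (j a : ℕ) :
    conj (phi ζ q j a) = (ζ ^ (j * a))⁻¹ + (ζ ^ (q * j * a))⁻¹ := by
  rw [phi, map_add, DihedralDefectGroup79.conj_root hζ hh, DihedralDefectGroup79.conj_root hζ hh]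

/-- Multiplicities of the eigenvalues of the rotation. -/
structure IsSpec (s : H) (ζ : ℂ) (h : ℕ) (f : P → ℂ) (m : ℕ → ℕ) : Prop where
  value : ∀ a, ev s f a = ∑ j ∈ Finset.range (2 * h), (m j : ℂ) * ζ ^ (j * a)

theorem sum_spec (hd : MC h q P s) (hζ : IsPrimitiveRoot ζ (2 * h)) {f : P → ℂ} {m : ℕ → ℕ}
    (hm : IsSpec s ζ h f m) (i : ℕ) :
    ∑ a ∈ Finset.range (2 * h), ev s f a * (ζ ^ (i * a))⁻¹ =
      ((2 * h : ℕ) : ℂ) * m (i % (2 * h)) := by
  have hh : 0 < h := by have := hd.two_le; omega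
  simp only [hm.value, Finset.sum_mul]
  rw [Finset.sum_comm]
  simp only [mul_assoc, ← Finset.mul_sum, orth_mod hζ hh]
  rw [Finset.sum_eq_single (i % (2 * h))]
  · rw [Nat.mod_mod, if_pos rfl, mul_comm]
  · intro b hb hne
    rw [if_neg fun e => hne (by rwa [Nat.mod_eq_of_lt (Finset.mem_range.1 hb)] at e), mul_zero]
  · exact fun hn => absurd (Finset.mem_range.2 (Nat.mod_lt _ (by omega))) hn

theorem spec_twist (hd : MC h q P s) (hζ : IsPrimitiveRoot ζ (2 * h)) {f : P → ℂ} {m : ℕ → ℕ}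
    (hf : IsClassFunction P f) (hm : IsSpec s ζ h f m) {i : ℕ} (hi : i < 2 * h) :
    m (q * i % (2 * h)) = m i := by
  have hh : 0 < h := by omega
  have h1 := sum_spec hd hζ hm i
  have h2 : ∑ a ∈ Finset.range (2 * h), ev s f a * (ζ ^ (i * a))⁻¹ =
      ((2 * h : ℕ) : ℂ) * m (q * i % (2 * h)) := by
    rw [Finset.sum_congr rfl fun a _ => by rw [← ev_twist hd hf, hm.value, Finset.sum_mul]]
    rw [Finset.sum_comm]
    have e : ∀ j a : ℕ, (m j : ℂ) * ζ ^ (j * (q * a)) * (ζ ^ (i * a))⁻¹ =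
        (m j : ℂ) * (ζ ^ (q * j * a) * (ζ ^ (i * a))⁻¹) := fun j a => by
      rw [show j * (q * a) = q * j * a by ring, mul_assoc]
    simp only [e, ← Finset.mul_sum, orth_mod hζ hh]
    rw [Finset.sum_eq_single (q * i % (2 * h))]
    · rw [if_pos (by rw [Nat.mul_mod, Nat.mod_mod, ← Nat.mul_mod, sq_q hd]), mul_comm]
    · intro b hb hne
      rw [if_neg, mul_zero]
      intro e1
      refine hne ?_
      rw [Nat.mul_mod q i, ← e1, ← Nat.mul_mod, sq_q hd, Nat.mod_eq_of_lt (Finset.mem_range.1 hb)]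
    · exact fun hn => absurd (Finset.mem_range.2 (Nat.mod_lt _ (by omega))) hn
  rw [h1, Nat.mod_eq_of_lt hi] at h2
  have h3 : ((2 * h : ℕ) : ℂ) ≠ 0 := Nat.cast_ne_zero.2 (by omega)
  exact_mod_cast (mul_left_cancel₀ h3 h2).symm

/-- The coefficient against a basic difference. -/
theorem inner_dphi (hd : MC h q P s) (hζ : IsPrimitiveRoot ζ (2 * h)) {f : P → ℂ} {m : ℕ → ℕ}
    (hf : IsClassFunction P f) (hm : IsSpec s ζ h f m) {i j : ℕ} (hi : i < 2 * h) (hj : j < 2 * h) :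
    classInner f (dphi P s ζ h q i j) = (m i : ℂ) - (m j : ℂ) := by
  have hh : 0 < h := by omega
  rw [dphi, inner_rotFun hd]
  simp only [map_sub, conj_phi hζ hh, mul_sub, mul_add, Finset.sum_sub_distrib,
    Finset.sum_add_distrib, sum_spec hd hζ hm, Nat.mod_eq_of_lt hi, Nat.mod_eq_of_lt hj,
    spec_twist hd hζ hf hm hi, spec_twist hd hζ hf hm hj]
  have : (h : ℂ) ≠ 0 := Nat.cast_ne_zero.2 hh.ne'
  push_cast; field_simp; ring

/-- The products of the basic functions. -/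
def pairing (h q i k : ℕ) : ℕ :=
  (if i % (2 * h) = k % (2 * h) then 1 else 0) + if i % (2 * h) = q * k % (2 * h) then 1 else 0

theorem pairing_eq (hd : MC h q P s) (hζ : IsPrimitiveRoot ζ (2 * h)) (i k : ℕ) :
    ((4 * h : ℕ) : ℂ)⁻¹ * ∑ a ∈ Finset.range (2 * h), phi ζ q i a * conj (phi ζ q k a) =
      (pairing h q i k : ℂ) := by
  have hh : 0 < h := by have := hd.two_le; omega
  simp only [conj_phi hζ hh]
  simp only [phi, add_mul, mul_add, Finset.sum_add_distrib, orth_mod hζ hh]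
  have e1 : (q * i % (2 * h) = q * k % (2 * h)) ↔ (i % (2 * h) = k % (2 * h)) :=
    ⟨q_mul_injective hd, fun e => by rw [Nat.mul_mod, e, ← Nat.mul_mod]⟩
  have e2 : (q * i % (2 * h) = k % (2 * h)) ↔ (i % (2 * h) = q * k % (2 * h)) := by
    constructor <;> intro e
    · rw [← sq_q hd i, Nat.mul_mod, e, ← Nat.mul_mod]
    · rw [← sq_q hd k, Nat.mul_mod q i, e, ← Nat.mul_mod]
  have : (h : ℂ) ≠ 0 := Nat.cast_ne_zero.2 hh.ne'
  simp only [e1, e2, pairing]
  split_ifs <;> push_cast <;> field_simp <;> ring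

theorem gram_dphi (hd : MC h q P s) (hζ : IsPrimitiveRoot ζ (2 * h)) (i j k l : ℕ) :
    classInner (dphi P s ζ h q i j) (dphi P s ζ h q k l) =
      (((pairing h q i k : ℤ) - pairing h q i l - pairing h q j k + pairing h q j l : ℤ) : ℂ) := by
  rw [dphi, dphi, inner_rotFun hd, Finset.sum_congr rfl fun a ha => by
    rw [ev_rotFun hd, Nat.mod_eq_of_lt (Finset.mem_range.1 ha)]]
  simp only [Int.cast_add, Int.cast_sub, Int.cast_natCast, ← pairing_eq hd hζ, map_sub, sub_mul, mul_sub, Finset.sum_sub_distrib]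
  ring

/-- The representatives of the odd indices. -/
def oddReps (h q : ℕ) : Finset ℕ :=
  (Finset.range (2 * h)).filter fun j => j % 2 = 1 ∧ j < q * j % (2 * h)

theorem mem_oddReps {j : ℕ} :
    j ∈ oddReps h q ↔ j < 2 * h ∧ j % 2 = 1 ∧ j < q * j % (2 * h) := by
  rw [oddReps, Finset.mem_filter, Finset.mem_range]

theorem q_mul_odd (hd : MC h q P s) {j : ℕ} (hj : j % 2 = 1) :
    q * j % (2 * h) % 2 = 1 := by
  rw [Nat.mod_mul_right_mod, Nat.mul_mod, hj, Nat.odd_iff.1 (q_odd hd)]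

theorem q_mul_ne (hd : MC h q P s) {j : ℕ} (hj : j % 2 = 1) (hlt : j < 2 * h) :
    q * j % (2 * h) ≠ j := by
  intro e
  obtain ⟨k, hk⟩ := hd.two_pow
  have hcop : Nat.Coprime (2 * h) j := by
    rw [hk, ← pow_succ']
    exact (Nat.prime_two.coprime_iff_not_dvd.2 (by omega)).pow_left _
  have hq1 : 1 ≤ q := Nat.pos_of_ne_zero fun e0 => by
    have := Nat.odd_iff.1 (q_odd hd); rw [e0] at this; omega
  have hdvd : 2 * h ∣ q - 1 := by
    refine hcop.dvd_of_dvd_mul_right ?_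
    rw [Nat.sub_mul, one_mul]
    exact (Nat.modEq_iff_dvd' (Nat.le_mul_of_pos_left _ hq1)).1
      (show j % (2 * h) = q * j % (2 * h) by rw [e, Nat.mod_eq_of_lt hlt])
  rcases hd.twist with e1 | ⟨h4, e1⟩
  · have := Nat.le_of_dvd (by have := hd.two_le; omega) hdvd
    have := hd.two_le
    omega
  · have := Nat.le_of_dvd (by omega) hdvd
    omega

theorem one_mem_oddReps (hd : MC h q P s) : 1 ∈ oddReps h q := by
  have := hd.two_le
  refine mem_oddReps.2 ⟨by omega, rfl, ?_⟩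
  rw [mul_one, Nat.mod_eq_of_lt]
  all_goals rcases hd.twist with e | ⟨h4, e⟩ <;> omega

theorem pairing_odd (hd : MC h q P s) {i k : ℕ} (hi : i ∈ oddReps h q) (hk : k ∈ oddReps h q) :
    pairing h q i k = if i = k then 1 else 0 := by
  rw [mem_oddReps] at hi hk
  rw [pairing, Nat.mod_eq_of_lt hi.1, Nat.mod_eq_of_lt hk.1,
    if_neg (show ¬ i = q * k % (2 * h) from fun e => by
      have h1 := hi.2.2
      rw [e, Nat.mul_mod q (q * k % (2 * h)), Nat.mod_mod, ← Nat.mul_mod, sq_q hd,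
        Nat.mod_eq_of_lt hk.1] at h1
      omega), add_zero]

theorem pairing_mixed (hd : MC h q P s) {i k : ℕ} (hi : i % 2 ≠ k % 2) :
    pairing h q i k = 0 := by
  have h1 : i % (2 * h) ≠ k % (2 * h) := fun e => hi (by
    rw [← Nat.mod_mul_right_mod i 2 h, e, Nat.mod_mul_right_mod])
  have h2 : i % (2 * h) ≠ q * k % (2 * h) := fun e => hi (by
    rw [← Nat.mod_mul_right_mod i 2 h, e, Nat.mod_mul_right_mod, Nat.mul_mod,
      Nat.odd_iff.1 (q_odd hd), one_mul, Nat.mod_mod])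
  rw [pairing, if_neg h1, if_neg h2]

theorem pairing_even (hd : MC h q P s) {i k : ℕ} (hi : i ≤ h / 2) (hk : k ≤ h / 2) :
    pairing h q (2 * i) (2 * k) = if i = k then (if i = 0 ∨ i = h / 2 then 2 else 1) else 0 := by
  have := hd.two_le
  obtain ⟨r, hr⟩ := even_h hd
  rw [pairing, q_mul_even hd (show k ≤ h by omega),
    Nat.mod_eq_of_lt (show 2 * i < 2 * h by omega), Nat.mod_eq_of_lt (show 2 * k < 2 * h by omega)]
  rcases Nat.eq_zero_or_pos k with hk0 | hk0
  · subst hk0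
    rw [mul_zero, Nat.sub_zero, Nat.mod_self]
    split_ifs <;> omega
  · rw [Nat.mod_eq_of_lt (show 2 * h - 2 * k < 2 * h by omega)]
    split_ifs <;> omega

theorem gram_even (hd : MC h q P s) (hζ : IsPrimitiveRoot ζ (2 * h)) {i k : ℕ} (i0 : 0 < i)
    (i1 : i ≤ h / 2) (k0 : 0 < k) (k1 : k ≤ h / 2) :
    classInner (dphi P s ζ h q (2 * i) 0) (dphi P s ζ h q (2 * k) 0) =
      ((if i = k then (if i = h / 2 then 4 else 3) else 2 : ℤ) : ℂ) := by
  have hh := hd.two_le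
  rw [gram_dphi hd hζ]
  congr 1
  rw [pairing_even hd i1 k1, show (0 : ℕ) = 2 * 0 from rfl, pairing_even hd i1 (Nat.zero_le _),
    pairing_even hd (Nat.zero_le _) k1, pairing_even hd (Nat.zero_le _) (Nat.zero_le _)]
  simp only [i0.ne', k0.ne, if_false, if_true, true_or, false_or]
  split_ifs <;> norm_num

theorem gram_odd (hd : MC h q P s) (hζ : IsPrimitiveRoot ζ (2 * h)) {i k : ℕ}
    (hi : i ∈ (oddReps h q).erase 1) (hk : k ∈ (oddReps h q).erase 1) :
    classInner (dphi P s ζ h q i 1) (dphi P s ζ h q k 1) =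
      ((if i = k then 2 else 1 : ℤ) : ℂ) := by
  rw [Finset.mem_erase] at hi hk
  rw [gram_dphi hd hζ]
  congr 1
  rw [pairing_odd hd hi.2 hk.2, pairing_odd hd hi.2 (one_mem_oddReps hd),
    pairing_odd hd (one_mem_oddReps hd) hk.2, pairing_odd hd (one_mem_oddReps hd) (one_mem_oddReps hd)]
  simp only [hi.1, Ne.symm hk.1, if_false, if_true]
  split_ifs <;> norm_num

theorem gram_mixed (hd : MC h q P s) (hζ : IsPrimitiveRoot ζ (2 * h)) {i k : ℕ}
    (hk : k % 2 = 1) :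
    classInner (dphi P s ζ h q (2 * i) 0) (dphi P s ζ h q k 1) = 0 := by
  rw [gram_dphi hd hζ, pairing_mixed hd (by omega), pairing_mixed hd (by omega),
    pairing_mixed hd (by omega), pairing_mixed hd (by omega)]
  simp

theorem card_oddReps (hd : MC h q P s) : 2 * (oddReps h q).card = h := by
  have hh := hd.two_le
  set O := (Finset.range (2 * h)).filter fun j => j % 2 = 1 with hO
  have hOcard : O.card = h := by
    have : O = (Finset.range h).image fun i => 2 * i + 1 := by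
      ext j
      simp only [hO, Finset.mem_filter, Finset.mem_range, Finset.mem_image]
      exact ⟨fun ⟨h1, h2⟩ => ⟨j / 2, by omega, by omega⟩, fun ⟨i, h1, h2⟩ => ⟨by omega, by omega⟩⟩
    rw [this, Finset.card_image_of_injective _ fun a b e => by simpa using e, Finset.card_range]
  have hsplit : O = oddReps h q ∪ (oddReps h q).image fun j => q * j % (2 * h) := by
    ext j
    simp only [hO, Finset.mem_filter, Finset.mem_range, Finset.mem_union, Finset.mem_image,
      mem_oddReps]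
    constructor
    · rintro ⟨h1, h2⟩
      rcases lt_or_gt_of_ne (q_mul_ne hd h2 h1) with e | e
      · right
        refine ⟨q * j % (2 * h), ⟨Nat.mod_lt _ (by omega), q_mul_odd hd h2, ?_⟩, ?_⟩ <;>
          rw [Nat.mul_mod q (q * j % (2 * h)), Nat.mod_mod, ← Nat.mul_mod, sq_q hd,
            Nat.mod_eq_of_lt h1]
        exact e
      · exact Or.inl ⟨h1, h2, e⟩
    · rintro (⟨h1, h2, -⟩ | ⟨i, ⟨-, h2, -⟩, rfl⟩)
      · exact ⟨h1, h2⟩
      · exact ⟨Nat.mod_lt _ (by omega), q_mul_odd hd h2⟩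
  rw [hsplit, Finset.card_union_of_disjoint, Finset.card_image_of_injOn] at hOcard
  · omega
  · intro a ha b hb e
    rw [Finset.mem_coe, mem_oddReps] at ha hb
    have := q_mul_injective hd e
    rwa [Nat.mod_eq_of_lt ha.1, Nat.mod_eq_of_lt hb.1] at this
  · refine Finset.disjoint_left.2 fun j hj hj' => ?_
    obtain ⟨i, hi, rfl⟩ := Finset.mem_image.1 hj'
    rw [mem_oddReps] at hi hj
    have h1 := hj.2.2
    rw [Nat.mul_mod q (q * i % (2 * h)), Nat.mod_mod, ← Nat.mul_mod, sq_q hd,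
      Nat.mod_eq_of_lt hi.1] at h1
    omega

/-- The degree from the multiplicities. -/
theorem spec_one (hd : MC h q P s) (hζ : IsPrimitiveRoot ζ (2 * h)) {f : P → ℂ} {m : ℕ → ℕ}
    (hf : IsClassFunction P f) (hm : IsSpec s ζ h f m) :
    f 1 = (((h : ℤ) * ((m 0 : ℤ) + m 1) + ((m h : ℤ) - m 0) +
      2 * (∑ i ∈ Finset.Ico 1 (h / 2), ((m (2 * i) : ℤ) - m 0) +
        ∑ j ∈ oddReps h q, ((m j : ℤ) - m 1)) : ℤ) : ℂ) := by
  have hh := hd.two_le
  obtain ⟨r, hr⟩ := even_h hd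
  have h1 : f 1 = ((∑ j ∈ Finset.range (2 * h), (m j : ℤ) : ℤ) : ℂ) := by
    have e := hm.value 0
    rw [ev_eq hd] at e
    rw [show (1 : P) = ⟨s ^ 0, pow_mem hd.mem 0⟩ from Subtype.ext (pow_zero s).symm, e]
    simp
  rw [h1]
  congr 1
  rw [← Finset.sum_filter_add_sum_filter_not (Finset.range (2 * h)) (fun j => j % 2 = 1)]
  have hodd : ∑ j ∈ (Finset.range (2 * h)).filter (fun j => j % 2 = 1), (m j : ℤ) =
      2 * ∑ j ∈ oddReps h q, (m j : ℤ) := by
    set O := (Finset.range (2 * h)).filter fun j => j % 2 = 1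
    have hsum : ∑ j ∈ O.filter (fun j => ¬ j < q * j % (2 * h)), (m j : ℤ) =
        ∑ j ∈ O.filter (fun j => j < q * j % (2 * h)), (m j : ℤ) := by
      have hback : ∀ j < 2 * h, q * (q * j % (2 * h)) % (2 * h) = j := fun j hj => by
        rw [Nat.mul_mod, Nat.mod_mod, ← Nat.mul_mod, sq_q hd, Nat.mod_eq_of_lt hj]
      refine Finset.sum_nbij' (fun j => q * j % (2 * h)) (fun j => q * j % (2 * h)) ?_ ?_ ?_ ?_ ?_
      · intro j hj
        simp only [O, Finset.mem_coe, Finset.mem_filter, Finset.mem_range] at hj ⊢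
        have := q_mul_ne hd hj.1.2 hj.1.1
        refine ⟨⟨Nat.mod_lt _ (by omega), q_mul_odd hd hj.1.2⟩, ?_⟩
        rw [hback j hj.1.1]; omega
      · intro j hj
        simp only [O, Finset.mem_coe, Finset.mem_filter, Finset.mem_range] at hj ⊢
        refine ⟨⟨Nat.mod_lt _ (by omega), q_mul_odd hd hj.1.2⟩, ?_⟩
        rw [hback j hj.1.1]; omega
      · intro j hj
        simp only [O, Finset.mem_coe, Finset.mem_filter, Finset.mem_range] at hj
        exact hback j hj.1.1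
      · intro j hj
        simp only [O, Finset.mem_coe, Finset.mem_filter, Finset.mem_range] at hj
        exact hback j hj.1.1
      · intro j hj
        simp only [O, Finset.mem_filter, Finset.mem_range] at hj
        rw [spec_twist hd hζ hf hm hj.1.1]
    have hrep : O.filter (fun j => j < q * j % (2 * h)) = oddReps h q := by
      rw [oddReps, Finset.filter_filter]
    rw [← Finset.sum_filter_add_sum_filter_not O (fun j => j < q * j % (2 * h)), hsum, hrep]
    ring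
  have heven : ∑ j ∈ (Finset.range (2 * h)).filter (fun j => ¬ j % 2 = 1), (m j : ℤ) =
      ∑ i ∈ Finset.range h, (m (2 * i) : ℤ) := by
    refine (Finset.sum_nbij' (fun i => 2 * i) (fun j => j / 2) ?_ ?_ ?_ ?_ fun _ _ => rfl).symm
    all_goals intro j hj
    all_goals simp only [Finset.mem_coe, Finset.mem_filter, Finset.mem_range] at hj ⊢
    all_goals omega
  have hfold : ∑ i ∈ Finset.range h, (m (2 * i) : ℤ) =
      (m 0 : ℤ) + m h + 2 * ∑ i ∈ Finset.Ico 1 (h / 2), (m (2 * i) : ℤ) := by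
    rw [Finset.range_eq_Ico, Finset.sum_eq_sum_Ico_succ_bot (show 0 < h by omega),
      ← Finset.sum_Ico_consecutive _ (show (0 + 1) ≤ h / 2 by omega) (show h / 2 ≤ h by omega),
      Finset.sum_eq_sum_Ico_succ_bot (show h / 2 < h by omega), show 2 * (h / 2) = h by omega]
    have hrev : ∑ i ∈ Finset.Ico (h / 2 + 1) h, (m (2 * i) : ℤ) =
        ∑ i ∈ Finset.Ico 1 (h / 2), (m (2 * i) : ℤ) := by
      refine Finset.sum_nbij' (fun i => h - i) (fun i => h - i) ?_ ?_ ?_ ?_ ?_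
      all_goals intro i hi
      all_goals simp only [Finset.mem_coe, Finset.mem_Ico] at hi ⊢
      iterate 4 omega
      have e := spec_twist hd hζ hf hm (show 2 * i < 2 * h by omega)
      rw [q_mul_even hd (show i ≤ h by omega), Nat.mod_eq_of_lt (show 2 * h - 2 * i < 2 * h by omega)] at e
      rw [← e, show 2 * (h - i) = 2 * h - 2 * i by omega]
    rw [hrev]
    ring
  rw [hodd, heven, hfold]
  have hcard : 2 * ((oddReps h q).card : ℤ) = h := by exact_mod_cast card_oddReps hd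
  have hIco : 2 * ((Finset.Ico 1 (h / 2)).card : ℤ) = (h : ℤ) - 2 := by
    rw [Nat.card_Ico]; omega
  simp only [Finset.sum_sub_distrib, Finset.sum_const, nsmul_eq_mul]
  linear_combination (m 0 : ℤ) * hIco + (m 1 : ℤ) * hcard

theorem exists_spec (hd : MC h q P s) (hζ : IsPrimitiveRoot ζ (2 * h)) (ψ : IrrCharacter P) :
    ∃ m : ℕ → ℕ, IsSpec s ζ h (ψ : P → ℂ) m := by
  obtain ⟨d, ρ, -, hρ⟩ := ψ.2
  obtain ⟨b, μ, -, hord, -, hpow⟩ := CharBasic.exists_rep_eigenbasis ρ (⟨s, hd.mem⟩ : P)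
  rw [Subgroup.orderOf_mk, hd.order] at hord
  haveI : NeZero (2 * h) := ⟨by have := hd.two_le; omega⟩
  choose i hi hμ using fun k => hζ.eq_pow_of_pow_eq_one (hord k)
  refine ⟨fun j => (Finset.univ.filter fun k => i k = j).card, ⟨fun a => ?_⟩⟩
  have e : ev s (ψ : P → ℂ) a = ∑ k, μ k ^ a := by
    rw [ev_eq hd, ← hρ, ← hpow a]; rfl
  rw [e]
  rw [← Finset.sum_fiberwise_of_maps_to (s := Finset.univ) (t := Finset.range (2 * h)) (g := i)
    fun k _ => Finset.mem_range.2 (hi k)]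
  refine Finset.sum_congr rfl fun j _ => ?_
  rw [Finset.sum_congr rfl (g := fun _ => ζ ^ (j * a)) fun k hk => by
    rw [← hμ k, ← pow_mul, (Finset.mem_filter.1 hk).2], Finset.sum_const, nsmul_eq_mul]

theorem exists_spec_sum (hd : MC h q P s) (hζ : IsPrimitiveRoot ζ (2 * h))
    (k : IrrCharacter P → ℕ) :
    ∃ m : ℕ → ℕ, IsSpec s ζ h (∑ ψ : IrrCharacter P, (k ψ : ℂ) • (ψ : P → ℂ)) m := by
  choose m hm using exists_spec hd hζ
  refine ⟨fun j => ∑ ψ : IrrCharacter P, k ψ * m ψ j, ⟨fun a => ?_⟩⟩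
  have e : ev s (∑ ψ : IrrCharacter P, (k ψ : ℂ) • (ψ : P → ℂ)) a =
      ∑ ψ : IrrCharacter P, (k ψ : ℂ) * ev s (ψ : P → ℂ) a := by
    simp [ev_eq hd, Finset.sum_apply]
  rw [e]
  simp only [(hm _).value, Finset.mul_sum]
  rw [Finset.sum_comm]
  push_cast
  refine Finset.sum_congr rfl fun j _ => ?_
  rw [Finset.sum_mul]
  exact Finset.sum_congr rfl fun ψ _ => by ring

end Cfsg.Agent.MaxClassGroup79
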