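import Mathlib
import Cfsg.Agent.Lib.BlockQuotient78
import Cfsg.Agent.Lib.BlockCentralSlice38

/-!
# The block of the quotient by a central subgroup of prime order

It contains all members trivial on the subgroup; its defect group is the image of that of the block,
and the heights agree.
-/

set_option autoImplicit false
set_option linter.unusedSectionVars false

namespace Cfsg.Agent.MaxClassQuotient79

open Cfsg Cfsg.Agent.BlockTheoryLocalRing Cfsg.Agent.BlockTheoryCentre Cfsg.Agent.BlockTheoryIdem
open Cfsg.Agent.BlockTheoryBrauer Cfsg.Agent.BlockTheoryDefect Cfsg.Agent.BlockContrib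
open Cfsg.Agent.BlockContribBounds
open Cfsg.Agent.BlockQuotient78 (infl infl_apply)

attribute [local instance] Classical.propDecidable

universe u

variable {p : ℕ} [Fact p.Prime] {M : Ideal AlgInt} {H : Type u} [Group H] [Fintype H]
  {b : Set (IrrCharacter H)} {z : H}

theorem card_map_mk {W : Subgroup H} [W.Normal] {D : Subgroup H} (hWD : W ≤ D) :
    Nat.card (D.map (QuotientGroup.mk' W)) * Nat.card W = Nat.card D := by
  have hsurj := QuotientGroup.mk'_surjective W
  have hidx : (D.map (QuotientGroup.mk' W)).index = D.index :=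
    Subgroup.index_map_eq _ hsurj (by rwa [QuotientGroup.ker_mk'])
  have h1 := D.card_mul_index
  have h2 := (D.map (QuotientGroup.mk' W)).card_mul_index
  rw [hidx] at h2
  have h3 := Subgroup.card_eq_card_quotient_mul_card_subgroup W
  refine Nat.eq_of_mul_eq_mul_right (Nat.pos_of_ne_zero (Subgroup.index_ne_zero_of_finite (H := D))) ?_
  rw [h1, h3, ← h2]
  ring

/-- The block of the quotient below a block. -/
theorem exists_quot (hM : IsPModular p M) (hb : IsPBlock M b) {D : Subgroup H}
    (hD : IsDefectGroup p M b D) (hzc : z ∈ Subgroup.center H) (hzo : orderOf z = p)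
    [(Subgroup.zpowers z).Normal] :
    ∃ Bb : Set (IrrCharacter (H ⧸ Subgroup.zpowers z)), IsPBlock M Bb ∧
      IsDefectGroup p M Bb (D.map (QuotientGroup.mk' (Subgroup.zpowers z))) ∧
      (∀ χ, χ ∈ Bb ↔ infl (Subgroup.zpowers z) χ ∈ b) ∧
      blockDefect p Bb + 1 = blockDefect p b ∧
      ∀ χ ∈ Bb, blockHeight p b (infl (Subgroup.zpowers z) χ : H → ℂ) =
        blockHeight p Bb (χ : H ⧸ Subgroup.zpowers z → ℂ) := by
  set W := Subgroup.zpowers z with hW
  have hWc : W ≤ Subgroup.center H := Subgroup.zpowers_le.2 hzc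
  have hWcard : Nat.card W = p := by rw [hW, Nat.card_zpowers, hzo]
  have hWp : IsPGroup p W := IsPGroup.of_card (n := 1) (by rw [hWcard, pow_one])
  have hWD : W ≤ D := normal_le_defectGroup hM hb hD W hWp
  -- an element with unit coefficient centralising the defect group
  obtain ⟨x, hxD, hx⟩ : ∃ x : H, x ∈ Subgroup.centralizer (D : Set H) ∧
      ¬ MemLocalIdeal M (blockCoeff b x) := by
    by_contra! hn
    refine not_small_cut_defect hM hb hD fun y => ?_
    rw [coeff_cut]
    split_ifs with hy
    · rw [coeff_idem]; exact hn y hy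
    · exact ideal_zero hM
  have hxreg : ¬ p ∣ orderOf x := fun hd => hx (by
    rw [blockCoeff_eq_zero_of_dvd hM hb hd]; exact ideal_zero hM)
  have hcoef : blockCoeff (BlockQuotient78.contained W b) (QuotientGroup.mk' W x) = blockCoeff b x := by
    rw [BlockQuotient78.sum_coset, Finset.sum_eq_single (1 : W), Subgroup.coe_one, mul_one]
    · intro w _ hw
      refine blockCoeff_eq_zero_of_dvd hM hb ?_
      have hwo : orderOf (w : H) = p := by
        rw [Subgroup.orderOf_coe]
        have h1 := orderOf_dvd_natCard w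
        rw [hWcard] at h1
        exact ((Nat.dvd_prime hM.1).1 h1).resolve_left fun e => hw (orderOf_eq_one_iff.1 e)
      have hc : Commute (w : H) x := ((Subgroup.mem_center_iff.1 (hWc w.2) x).symm : _)
      rw [hc.symm.eq, hc.orderOf_mul_eq_mul_orderOf_of_coprime
        (by rw [hwo]; exact hM.1.coprime_iff_not_dvd.2 hxreg), hwo]
      exact dvd_mul_right _ _
    · exact fun hn => absurd (Finset.mem_univ _) hn
  obtain ⟨Bb, hBb, hsub, hunit⟩ := BlockQuotient78.exists_block_unit W hM hb (hcoef ▸ hx)
  obtain ⟨η, hη⟩ := block_nonempty hM hBb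
  have hinfl : ∀ χ : IrrCharacter (H ⧸ W), BlockContribQuot.infl W χ = infl W χ :=
    fun χ => Subtype.ext (funext fun g => (infl_apply W χ g).symm)
  have hiff : ∀ χ, χ ∈ Bb ↔ infl W χ ∈ b := fun χ => ⟨fun h => hsub h, fun h => by
    refine mem_of_sameBlock hM hBb hη (BlockContribQuot.sameBlock_of_infl W hWc hWp hM ?_)
    rw [hinfl, hinfl]
    exact sameBlock_of_mem hM hb (hsub hη) h⟩
  obtain ⟨Db, hDb⟩ := exists_defectGroup hM hBb
  obtain ⟨P, hP, hDbP⟩ := BlockQuotient78.exists_defect_ge W hM hb hBb hsub hDb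
  have hle : ConjLe (D.map (QuotientGroup.mk' W)) Db := by
    refine conjLe_defect_of_coeff hM hBb hDb hunit (IsConj.refl _)
      ((isPGroup_of_isDefectGroup hD).map _) ?_
    refine Subgroup.mem_centralizer_iff.2 ?_
    rintro _ ⟨y, hy, rfl⟩
    rw [← map_mul, Subgroup.mem_centralizer_iff.1 hxD y hy, map_mul]
  have hcardP : Nat.card P = Nat.card D := by
    rw [card_defectGroup hM hb hP, card_defectGroup hM hb hD]
  have hWP : W ≤ P := normal_le_defectGroup hM hb hP W hWp
  have hcardDb : Nat.card Db ≤ Nat.card (D.map (QuotientGroup.mk' W)) := by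
    refine le_trans (Subgroup.card_le_of_le hDbP) (le_of_eq ?_)
    refine Nat.eq_of_mul_eq_mul_right (Nat.card_pos (α := W)) ?_
    rw [card_map_mk hWP, card_map_mk hWD, hcardP]
  obtain ⟨y, hy⟩ := eq_map_of_conjLe hle hcardDb
  have hdefect : IsDefectGroup p M Bb (D.map (QuotientGroup.mk' W)) := by
    have h1 := isDefectGroup_map hDb y⁻¹
    rwa [← hy, Subgroup.map_map, show (MulAut.conj y⁻¹).toMonoidHom.comp (MulAut.conj y).toMonoidHom =
      MonoidHom.id _ from MonoidHom.ext fun a => by simp [mul_assoc], Subgroup.map_id] at h1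
  have hd : blockDefect p Bb + 1 = blockDefect p b := by
    have h1 := card_map_mk (W := W) hWD
    rw [card_defectGroup hM hBb hdefect, card_defectGroup hM hb hD, hWcard, ← pow_succ] at h1
    exact Nat.pow_right_injective hM.1.two_le h1
  refine ⟨Bb, hBb, hdefect, hiff, hd, fun χ hχ => ?_⟩
  have hdeg : charDegree (infl W χ : H → ℂ) = charDegree (χ : H ⧸ W → ℂ) := by
    simp [charDegree, infl_apply]
  have h1 := exp_eq_add (p := p) ((hiff χ).1 hχ)
  rw [hdeg, exp_eq_add (p := p) hχ] at h1
  have h2 := minExp_add_defect hM hb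
  have h3 := minExp_add_defect hM hBb
  have hcard : (Nat.card H).factorization p = (Nat.card (H ⧸ W)).factorization p + 1 := by
    rw [Subgroup.card_eq_card_quotient_mul_card_subgroup W, hWcard,
      Nat.factorization_mul Nat.card_pos.ne' hM.1.ne_zero, Finsupp.add_apply,
      hM.1.factorization_self]
  simp only [W] at *
  omega

/-- A member of height zero trivial on a central element of prime order. -/
theorem exists_height_zero_triv (hM : IsPModular p M) (hb : IsPBlock M b)
    (hzc : z ∈ Subgroup.center H) (hzo : orderOf z = p) :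
    ∃ χ ∈ b, blockHeight p b (χ : H → ℂ) = 0 ∧ (χ : H → ℂ) z = (χ : H → ℂ) 1 := by
  haveI : (Subgroup.zpowers z).Normal := ⟨fun x hx g => by
    rw [Subgroup.mem_center_iff.1 (Subgroup.zpowers_le.2 hzc hx) g, mul_inv_cancel_right]
    exact hx⟩
  obtain ⟨D, hD⟩ := exists_defectGroup hM hb
  obtain ⟨Bb, hBb, -, hiff, -, hht⟩ := exists_quot hM hb hD hzc hzo
  obtain ⟨η, hη, hη0⟩ := exists_height_zero hM hBb
  refine ⟨infl _ η, (hiff η).1 hη, by rw [hht η hη, hη0], ?_⟩
  rw [infl_apply, infl_apply, map_one]
  rw [show QuotientGroup.mk' (Subgroup.zpowers z) z = 1 from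
    (QuotientGroup.eq_one_iff z).2 (Subgroup.mem_zpowers z)]

end Cfsg.Agent.MaxClassQuotient79
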