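import Mathlib
import Cfsg.Agent.Lib.MaxClassGroup79
import Cfsg.Agent.Lib.DihedralDefectLocal79
import Cfsg.Agent.Lib.BlockInducedCen
import Cfsg.Agent.Lib.MaxClassQuotient79

/-!
# A 2-block with defect group of maximal class: the normaliser of the rotation group of order four

Its block below a maximal pair has the same defect group and is nilpotent.
-/

set_option autoImplicit false
set_option linter.unusedSectionVars false

namespace Cfsg.Agent.MaxClassLocal79

open Cfsg Cfsg.Agent.MaxClassGroup79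
open Cfsg.Agent.BrauerPairs81Base Cfsg.Agent.BrauerPairs81Pairs Cfsg.Agent.BrauerPairs81Conj
open Cfsg.Agent.BrauerPairs81Fusion Cfsg.Agent.BrauerPairs81Max Cfsg.Agent.BrauerPairs81Local
open Cfsg.Agent.BlockTheoryDefect
open Cfsg.Agent.DihedralDefectLocal79 (commute_of_sq)

attribute [local instance] Classical.propDecidable

universe u

section Group

variable {H : Type u} [Group H] [Fintype H] {P : Subgroup H} {s : H} {h q : ℕ}

/-- A rotation whose square is the involution is the chosen element of order four or its inverse. -/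
theorem sq_J_rot (hd : MC h q P s) {r : H} (hr : r ∈ Subgroup.zpowers s) (h2 : r * r = s ^ h) :
    r = tEl h s ∨ r = (tEl h s)⁻¹ := by
  obtain ⟨z, hz⟩ := hr
  have hz' : s ^ z = r := hz
  have ht : tEl h s = s ^ ((h / 2 : ℕ) : ℤ) := by rw [zpow_natCast, tEl]
  have hc : Commute r (tEl h s)⁻¹ := by
    rw [← hz', ht]; exact ((Commute.refl s).zpow_zpow z _).inv_right
  have hw : r * (tEl h s)⁻¹ * (r * (tEl h s)⁻¹) = 1 := by
    rw [hc.symm.mul_mul_mul_comm, h2, ← mul_inv_rev, t_mul_self hd, mul_inv_cancel]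
  rcases sq_one_rot hd (mul_mem ⟨z, hz⟩ (inv_mem (Subgroup.npow_mem_zpowers s _))) hw with e | e
  · exact Or.inl (mul_inv_eq_one.1 e)
  · refine Or.inr (eq_inv_of_mul_eq_one_left ?_)
    rw [mul_inv_eq_iff_eq_mul.1 e, mul_assoc]
    show s ^ h * (tEl h s * tEl h s) = 1
    rw [t_mul_self hd, ← pow_add, ← two_mul, pow_two_h hd]

/-- A 2-regular element normalising a subgroup and centralising the element of order four
centralises the subgroup. -/
theorem mem_centralizer (hd : MC h q P s) {Q : Subgroup H} (hQ : Q ≤ P) {x : H}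
    (hx : x ∈ Subgroup.normalizer (Q : Set H)) (hxt : Commute x (tEl h s))
    (hodd : ¬ 2 ∣ orderOf x) : x ∈ Subgroup.centralizer (Q : Set H) := by
  have hxJ : Commute x (s ^ h) := by rw [← t_mul_self hd]; exact hxt.mul_right hxt
  have hmapQ : ∀ r ∈ Q, x * r * x⁻¹ ∈ Q := fun r hr => (Subgroup.mem_normalizer_iff.1 hx r).1 hr
  -- rotations
  have hrot : ∀ r ∈ Q, r ∈ Subgroup.zpowers s → Commute x r := by
    suffices H' : ∀ k, ∀ r ∈ Q, r ∈ Subgroup.zpowers s → r ^ 2 ^ k = 1 → Commute x r by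
      intro r hr hrs
      obtain ⟨k, hk⟩ := hd.two_pow
      obtain ⟨a, -, ha⟩ := exists_pow hd hrs
      refine H' (k + 1) r hr hrs ?_
      rw [ha, ← pow_mul, pow_succ', ← hk, mul_comm, pow_mul, pow_two_h hd, one_pow]
    intro k
    induction k with
    | zero =>
      intro r _ _ h1
      rw [pow_zero, pow_one] at h1
      exact h1 ▸ Commute.one_right x
    | succ k ih =>
      intro r hr hrs h1
      by_cases h2 : r * r = 1
      · rcases sq_one_rot hd hrs h2 with rfl | rfl
        · exact Commute.one_right x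
        · exact hxJ
      by_cases h2' : r * r = s ^ h
      · rcases sq_J_rot hd hrs h2' with rfl | rfl
        · exact hxt
        · exact hxt.inv_right
      have hsq : Commute x (r * r) := ih _ (mul_mem hr hr) (mul_mem hrs hrs)
        (by rw [← pow_two, ← pow_mul, ← pow_succ', h1])
      have hsq' : x * r * x⁻¹ * (x * r * x⁻¹) = r * r := by
        rw [show x * r * x⁻¹ * (x * r * x⁻¹) = x * (r * r) * x⁻¹ by group, hsq.eq,
          mul_inv_cancel_right]
      have hrs' : x * r * x⁻¹ ∈ Subgroup.zpowers s := by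
        by_contra hn
        rcases (hd.refl _ (hQ (hmapQ r hr)) hn).2 with e | e <;> rw [hsq'] at e
        exacts [h2 e, h2' e]
      obtain ⟨z, hz⟩ := hrs
      obtain ⟨z', hz'⟩ := hrs'
      have hcc : Commute (x * r * x⁻¹) r⁻¹ := by
        rw [← hz', ← hz]
        exact ((Commute.refl s).zpow_zpow z' z).inv_right
      have hw : (x * r * x⁻¹ * r⁻¹) * (x * r * x⁻¹ * r⁻¹) = 1 := by
        calc x * r * x⁻¹ * r⁻¹ * (x * r * x⁻¹ * r⁻¹)
            = x * r * x⁻¹ * (r⁻¹ * (x * r * x⁻¹)) * r⁻¹ := by group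
          _ = x * r * x⁻¹ * (x * r * x⁻¹) * r⁻¹ * r⁻¹ := by rw [← hcc.eq]; group
          _ = 1 := by rw [hsq']; group
      rcases sq_one_rot hd (mul_mem ⟨z', hz'⟩ (inv_mem ⟨z, hz⟩)) hw with e | e
      · rw [mul_inv_eq_one] at e
        exact mul_inv_eq_iff_eq_mul.1 e
      · refine commute_of_sq hodd ?_
        have e1 : x * r = s ^ h * r * x := by rw [← e]; group
        have hJJ : s ^ h * s ^ h = 1 := by rw [← pow_add, ← two_mul, pow_two_h hd]
        calc x * x * r = x * (s ^ h * r * x) := by rw [mul_assoc, e1]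
          _ = s ^ h * (x * r) * x := by rw [← mul_assoc, ← mul_assoc, hxJ.eq]; group
          _ = r * (x * x) := by rw [e1, ← mul_assoc (s ^ h), ← mul_assoc (s ^ h), hJJ]; group
  refine Subgroup.mem_centralizer_iff.2 fun w hw => ?_
  by_cases hws : w ∈ Subgroup.zpowers s
  · exact (hrot w hw hws).eq.symm
  have hw' : x * w * x⁻¹ ∉ Subgroup.zpowers s := fun hn => hws (by
    have hc := hrot _ (hmapQ w hw) hn
    have : x * w * x⁻¹ = w := by
      have e : x * (x * w * x⁻¹) = x * w * x⁻¹ * x := hc.eq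
      rw [inv_mul_cancel_right] at e
      exact mul_left_cancel e
    rwa [this] at hn)
  set r := w⁻¹ * (x * w * x⁻¹) with hr
  have hrQ : r ∈ Q := mul_mem (inv_mem hw) (hmapQ w hw)
  have hrs : r ∈ Subgroup.zpowers s := by
    by_contra hn
    have h1 := (hd.refl w (hQ hw) hws).1
    have h2 := (hd.refl _ (hQ (hmapQ w hw)) hw').1
    have h3 : r * s * r⁻¹ = s := by
      have h1' : w⁻¹ * s ^ q * w = s := by rw [← h1]; group
      calc r * s * r⁻¹ = w⁻¹ * ((x * w * x⁻¹) * s * (x * w * x⁻¹)⁻¹) * w := by rw [hr]; group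
        _ = s := by rw [h2, h1']
    rw [(hd.refl r (hQ hrQ) hn).1] at h3
    nth_rewrite 2 [← pow_one s] at h3
    rw [pow_eq_pow hd] at h3
    have := hd.two_le
    rcases hd.twist with e | ⟨h4, e⟩ <;>
      rw [Nat.mod_eq_of_lt (show q < 2 * h by omega), Nat.mod_eq_of_lt (show 1 < 2 * h by omega)] at h3 <;>
      omega
  have hcr := hrot r hrQ hrs
  have hxw : x * w * x⁻¹ = w * r := by rw [hr]; group
  have hpow : ∀ j : ℕ, x ^ j * w * (x ^ j)⁻¹ = w * r ^ j := by
    intro j
    induction j with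
    | zero => simp
    | succ j ih =>
      calc x ^ (j + 1) * w * (x ^ (j + 1))⁻¹ = x * (x ^ j * w * (x ^ j)⁻¹) * x⁻¹ := by
            rw [pow_succ']; group
        _ = (x * w * x⁻¹) * (x * r ^ j * x⁻¹) := by rw [ih]; group
        _ = w * r ^ (j + 1) := by
            rw [hxw, (hcr.pow_right j).eq, mul_inv_cancel_right, mul_assoc, pow_succ']
  have hro : r ^ orderOf x = 1 := by
    have := hpow (orderOf x)
    rw [pow_orderOf_eq_one, inv_one, one_mul, mul_one] at this
    exact mul_left_cancel (a := w) (by rw [← this, mul_one])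
  have hr1 : r = 1 := by
    obtain ⟨a, -, ha⟩ := exists_pow hd hrs
    obtain ⟨k, hk⟩ := hd.two_pow
    have h1 : orderOf r ∣ 2 ^ (k + 1) := orderOf_dvd_of_pow_eq_one (by
      rw [ha, ← pow_mul, pow_succ', ← hk, mul_comm, pow_mul, pow_two_h hd, one_pow])
    exact orderOf_eq_one_iff.1 (Nat.eq_one_of_dvd_coprimes
      ((Nat.prime_two.coprime_iff_not_dvd.2 hodd).pow_left (k + 1)) h1
      (orderOf_dvd_of_pow_eq_one hro))
  rw [hr1, mul_one] at hxw
  exact (mul_inv_eq_iff_eq_mul.1 hxw).symm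

theorem mc_subgroupOf (hd : MC h q P s) {C : Subgroup H} (hle : P ≤ C) (hs : s ∈ C) :
    MC h q (P.subgroupOf C) (⟨s, hs⟩ : C) := by
  have hz : ∀ u : C, u ∈ Subgroup.zpowers (⟨s, hs⟩ : C) ↔ (u : H) ∈ Subgroup.zpowers s := by
    intro u
    refine exists_congr fun z => ?_
    simp only [Subtype.ext_iff, Subgroup.coe_zpow]
  refine ⟨hd.mem, by rw [Subgroup.orderOf_mk, hd.order], hd.two_pow, hd.two_le, ?_, ?_, ?_,
    hd.twist⟩
  · rw [Nat.card_congr (Subgroup.subgroupOfEquivOfLe hle).toEquiv, hd.card]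
  · intro u hu hne
    obtain ⟨h1, h2⟩ := hd.refl u hu (fun e => hne ((hz u).2 e))
    refine ⟨Subtype.ext h1, ?_⟩
    rcases h2 with h2 | h2
    · exact Or.inl (Subtype.ext h2)
    · exact Or.inr (Subtype.ext (by rw [Subgroup.coe_mul, h2, Subgroup.coe_pow]))
  · obtain ⟨u, hu, hne⟩ := hd.exists_refl
    exact ⟨⟨u, hle hu⟩, hu, fun e => hne ((hz _).1 e)⟩

/-- A rotation for a generalized quaternion group. -/
theorem exists_mc_quaternion {D : Subgroup H} {n : ℕ} (hn : 3 ≤ n)
    (hiso : Nonempty (D ≃* QuaternionGroup (2 ^ (n - 2)))) :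
    ∃ σ : H, MC (2 ^ (n - 2)) (2 * 2 ^ (n - 2) - 1) D σ ∧
      ∀ u ∈ D, u * u = 1 → u = 1 ∨ u = σ ^ 2 ^ (n - 2) := by
  obtain ⟨e⟩ := hiso
  have hh : 2 ≤ 2 ^ (n - 2) :=
    le_trans (le_of_eq (pow_one 2).symm) (Nat.pow_le_pow_right (by norm_num) (by omega))
  generalize hhdef : (2 : ℕ) ^ (n - 2) = h at hh e ⊢
  haveI : NeZero h := ⟨by omega⟩
  set σ : D := e.symm (QuaternionGroup.a 1) with hσ
  have hrot : ∀ u : D, ∀ i, e u = QuaternionGroup.a i → (σ : H) ^ i.val = u := by
    intro u i hi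
    rw [← Subgroup.coe_pow]
    refine congrArg Subtype.val (e.injective ?_)
    rw [map_pow, hσ, e.apply_symm_apply, hi, QuaternionGroup.a_one_pow, ZMod.natCast_zmod_val]
  have horder : orderOf (σ : H) = 2 * h := by
    rw [Subgroup.orderOf_coe, hσ, MulEquiv.orderOf_eq, QuaternionGroup.orderOf_a_one]
  refine ⟨σ, ⟨σ.2, horder, ⟨n - 2, hhdef.symm⟩, hh, ?_, ?_, ?_, Or.inl (by omega)⟩, ?_⟩
  · rw [Nat.card_congr e.toEquiv, Nat.card_eq_fintype_card, QuaternionGroup.card]
  · intro u hu hne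
    rcases hi : e ⟨u, hu⟩ with i | i
    · exact absurd ⟨(i.val : ℤ), by show (σ : H) ^ (i.val : ℤ) = u; rw [zpow_natCast, hrot _ _ hi]⟩ hne
    · constructor
      · have h1 : (⟨u, hu⟩ : D) * σ * (⟨u, hu⟩ : D)⁻¹ = σ⁻¹ := by
          rw [mul_inv_eq_iff_eq_mul, eq_inv_mul_iff_mul_eq]
          apply e.injective
          rw [map_mul, map_mul, hi, hσ, e.apply_symm_apply]
          simp
        have h2 : u * (σ : H) * u⁻¹ = (σ : H)⁻¹ := congrArg Subtype.val h1
        rw [h2]
        refine inv_eq_of_mul_eq_one_left ?_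
        rw [← pow_succ, show 2 * h - 1 + 1 = 2 * h by omega, ← horder, pow_orderOf_eq_one]
      · right
        have h1 : (⟨u, hu⟩ : D) * ⟨u, hu⟩ = σ ^ h := by
          apply e.injective
          rw [map_mul, map_pow, hi, hσ, e.apply_symm_apply, QuaternionGroup.a_one_pow]
          simp
        exact congrArg Subtype.val h1
  · refine ⟨e.symm (QuaternionGroup.xa 0), (e.symm (QuaternionGroup.xa 0)).2, ?_⟩
    rintro ⟨z, hz⟩
    have : σ ^ z = e.symm (QuaternionGroup.xa 0) :=
      Subtype.ext (by rw [Subgroup.coe_zpow]; exact hz)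
    obtain ⟨k, hk⟩ : σ ^ z ∈ Submonoid.powers σ :=
      (isOfFinOrder_of_finite σ).mem_powers_iff_mem_zpowers.2 ⟨z, rfl⟩
    rw [← hk] at this
    have h1 := congrArg e this
    simp only [map_pow, hσ, e.apply_symm_apply, QuaternionGroup.a_one_pow] at h1
    exact absurd h1 (by simp)
  · intro u hu h2
    rcases hi : e ⟨u, hu⟩ with i | i
    · have hu' : u ∈ Subgroup.zpowers (σ : H) :=
        ⟨(i.val : ℤ), by show (σ : H) ^ (i.val : ℤ) = u; rw [zpow_natCast, hrot _ _ hi]⟩
      obtain ⟨a, rfl⟩ : u ∈ Submonoid.powers (σ : H) :=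
        (isOfFinOrder_of_finite (σ : H)).mem_powers_iff_mem_zpowers.2 hu'
      simp only at h2 ⊢
      rw [← pow_add] at h2
      have hdvd := orderOf_dvd_of_pow_eq_one h2
      rw [horder] at hdvd
      obtain ⟨c, hc⟩ := hdvd
      obtain ⟨c', hc'⟩ : ∃ c', a = h * c' := ⟨c, by linarith⟩
      rcases Nat.even_or_odd c' with ⟨d, hd'⟩ | ⟨d, hd'⟩
      · left
        rw [hc', hd', show h * (d + d) = 2 * h * d by ring, ← horder, pow_mul, pow_orderOf_eq_one,
          one_pow]
      · right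
        rw [hc', hd', show h * (2 * d + 1) = 2 * h * d + h by ring, pow_add, ← horder, pow_mul,
          pow_orderOf_eq_one, one_pow, one_mul]
    · exfalso
      have h1 : (⟨u, hu⟩ : D) * ⟨u, hu⟩ = 1 := Subtype.ext h2
      have h3 := congrArg e h1
      rw [map_mul, map_one, hi, QuaternionGroup.xa_mul_xa, ← QuaternionGroup.a_zero,
        QuaternionGroup.a.injEq] at h3
      simp only [add_sub_cancel_right] at h3
      have := congrArg ZMod.val h3
      rw [ZMod.val_natCast, Nat.mod_eq_of_lt (by omega), ZMod.val_zero] at this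
      omega

end Group

variable {G : Type u} [Group G] [Fintype G]

/-- The data at the element of order four of the defect group. -/
structure Sect (M : Ideal AlgInt) (B : Set (IrrCharacter G)) (h q : ℕ) (N : Subgroup G)
    (b : Set (IrrCharacter N)) (P : Subgroup N) (e : Set (IrrCharacter (Cen P))) (s : N)
    (χ₀ : IrrCharacter N) : Prop where
  hB : IsPBlock M B
  mc : MC h q P s
  hN : ∀ g, g ∈ N ↔ g * ((tEl h s : N) : G) * g⁻¹ = ((tEl h s : N) : G) ∨
    g * ((tEl h s : N) : G) * g⁻¹ = ((tEl h s : N) : G)⁻¹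
  hC : Cen (P.map N.subtype) ≤ N
  ind : IsInducedBlock M N b B
  defect : blockDefect 2 b = blockDefect 2 B
  card : 2 ^ blockDefect 2 B = 4 * h
  hmax : IsMaximalBrauerPair 2 M b P e
  hnil : IsNilpotentBlock 2 M b
  hmem : χ₀ ∈ b
  height : blockHeight 2 b (χ₀ : N → ℂ) = 0
  triv : (χ₀ : N → ℂ) (s ^ h) = (χ₀ : N → ℂ) 1

/-- The normaliser of the group of order four, by the action on a generator. -/
def stabT (t : G) : Subgroup G where
  carrier := {g | g * t * g⁻¹ = t ∨ g * t * g⁻¹ = t⁻¹}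
  one_mem' := Or.inl (by group)
  mul_mem' := by
    intro a b ha hb
    have e : a * b * t * (a * b)⁻¹ = a * (b * t * b⁻¹) * a⁻¹ := by group
    simp only [Set.mem_setOf_eq] at ha hb ⊢
    rw [e]
    rcases hb with hb | hb <;> rw [hb]
    · exact ha
    · rw [← conj_inv]
      rcases ha with ha | ha <;> rw [ha]
      · exact Or.inr rfl
      · exact Or.inl (inv_inv t)
  inv_mem' := by
    intro a ha
    simp only [Set.mem_setOf_eq] at ha ⊢
    rcases ha with ha | ha
    · left
      conv_lhs => rw [← ha]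
      group
    · right
      have e : a * t⁻¹ * a⁻¹ = t := by rw [← conj_inv, ha, inv_inv]
      have e' : a⁻¹ * t * a = a⁻¹ * (a * t⁻¹ * a⁻¹) * a := by rw [e]
      rw [inv_inv, e']
      group

/-- Every block with defect group of maximal class has such data. -/
theorem exists_sect {M : Ideal AlgInt} (hM : IsPModular 2 M) {B : Set (IrrCharacter G)}
    (hB : IsPBlock M B) {D : Subgroup G} (hD : IsDefectGroup 2 M B D) {h q : ℕ} {σ : G}
    (hd : MC h q D σ) :
    ∃ (N : Subgroup G) (b : Set (IrrCharacter N)) (P : Subgroup N)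
      (e : Set (IrrCharacter (Cen P))) (s : N) (χ₀ : IrrCharacter N),
      Sect M B h q N b P e s χ₀ ∧ (s : G) = σ ∧ P.map N.subtype = D := by
  haveI : Fact (Nat.Prime 2) := ⟨Nat.prime_two⟩
  set t := tEl h σ with ht
  set N := stabT t with hNdef
  have hDN : D ≤ N := fun u hu => conj_t hd hu
  have hmap : (D.subgroupOf N).map N.subtype = D := Subgroup.map_subgroupOf_eq_of_le hDN
  have hC : Cen ((D.subgroupOf N).map N.subtype) ≤ N := by
    rw [hmap]
    intro x hx
    left
    rw [← Subgroup.mem_centralizer_iff.1 hx t (pow_mem hd.mem _), mul_inv_cancel_right]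
  obtain ⟨c, hc⟩ := Star80Nilpotent.exists_maximal hM hB hD
  have hcc := cenCompat_map (R := D.subgroupOf N) (H := N) hC
    (le_refl ((D.subgroupOf N).map N.subtype))
  have key : ∀ (Q : Subgroup G) (c : Set (IrrCharacter (Cen Q))), IsBrauerPairOf 2 M B Q c →
      Q = (D.subgroupOf N).map N.subtype →
        ∃ c' : Set (IrrCharacter (Cen ((D.subgroupOf N).map N.subtype))),
          IsBrauerPairOf 2 M B ((D.subgroupOf N).map N.subtype) c' := by
    rintro Q c hQ rfl; exact ⟨c, hQ⟩
  obtain ⟨c', hc'⟩ := key D c hc.1 hmap.symm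
  obtain ⟨e, he, hpush⟩ := exists_pullback hcc hc'.1.2
  have hpair : IsBrauerPair 2 M (D.subgroupOf N) e :=
    ⟨(isPGroup_of_isDefectGroup hD).comap_subtype, he⟩
  obtain ⟨b, hb, -⟩ := existsUnique_block hM (G := N) hpair
  obtain ⟨B', hind⟩ := BlockInducedCen.exists_induced hM hb hC
  have hup := BlockPiKernel.pair_up hM hind hb hC
  rw [hpush] at hup
  obtain rfl : B' = B := (existsUnique_block hM hc'.1).unique hup hc'
  have hmax : IsMaximalBrauerPair 2 M b (D.subgroupOf N) e := by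
    refine ⟨hb, fun R g hR hle => (Subgroup.eq_of_le_of_card_ge (subgroup_le_of_subpairLE hle) ?_).symm⟩
    have hCR : Cen (R.map N.subtype) ≤ N :=
      le_trans (centralizer_le (Subgroup.map_mono (subgroup_le_of_subpairLE hle))) hC
    have h1 := BlockPiKernel.pair_up hM hind hR hCR
    calc Nat.card R = Nat.card (R.map N.subtype) :=
          Nat.card_congr (R.equivMapOfInjective _ N.subtype_injective).toEquiv
      _ ≤ Nat.card D := card_le_of_conjLe (conjLe_defect_of_pairOf hM h1 hD)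
      _ = Nat.card (D.subgroupOf N) :=
          (Nat.card_congr (Subgroup.subgroupOfEquivOfLe hDN).toEquiv).symm
  have hd' : MC h q (D.subgroupOf N) ⟨σ, hDN hd.mem⟩ := mc_subgroupOf hd hDN (hDN hd.mem)
  have hcard : 2 ^ blockDefect 2 B' = 4 * h := by
    rw [← BlockContribBounds.card_defectGroup hM hind.2.1 hD, hd.card]
  have hdef : blockDefect 2 b = blockDefect 2 B' := by
    refine Nat.pow_right_injective le_rfl ?_
    show (2 : ℕ) ^ blockDefect 2 b = 2 ^ blockDefect 2 B'
    rw [← BlockContribBounds.card_defectGroup hM hind.2.1 hD,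
      ← BlockContribBounds.card_defectGroup hM hind.1 (isDefectGroup_of_maximal hM hmax)]
    exact Nat.card_congr (Subgroup.subgroupOfEquivOfLe hDN).toEquiv
  have hteq : ((tEl h (⟨σ, hDN hd.mem⟩ : N) : N) : G) = t := rfl
  have hnil : IsNilpotentBlock 2 M b := by
    refine BrauerPairs81Nilpotent.nilpotent_of_below hM hmax fun a ha x hx hreg => ?_
    refine mem_centralizer hd' (subgroup_le_of_subpairLE ha) (stab_le_normalizer a hx) ?_ hreg
    refine Subtype.ext ?_
    show (x : G) * t = t * (x : G)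
    rcases x.2 with h1 | h1
    · exact mul_inv_eq_iff_eq_mul.1 h1
    · refine (commute_of_sq (show ¬ 2 ∣ orderOf (x : G) by rwa [Subgroup.orderOf_coe]) ?_).eq
      refine mul_inv_eq_iff_eq_mul.1 ?_
      calc (x : G) * x * t * ((x : G) * x)⁻¹ = x * ((x : G) * t * (x : G)⁻¹) * (x : G)⁻¹ := by group
        _ = t := by rw [h1, ← conj_inv, h1, inv_inv]
  set s' : N := ⟨σ, hDN hd.mem⟩ with hs'
  have hzc : s' ^ h ∈ Subgroup.center N := by
    refine Subgroup.mem_center_iff.2 fun g => mul_inv_eq_iff_eq_mul.1 ?_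
    rw [← t_mul_self hd']
    have e1 : g * (tEl h s' * tEl h s') * g⁻¹ = (g * tEl h s' * g⁻¹) * (g * tEl h s' * g⁻¹) := by
      group
    rw [e1]
    rcases g.2 with h1 | h1
    · rw [show g * tEl h s' * g⁻¹ = tEl h s' from Subtype.ext h1]
    · rw [show g * tEl h s' * g⁻¹ = (tEl h s')⁻¹ from Subtype.ext h1, ← mul_inv_rev, t_mul_self hd']
      refine inv_eq_of_mul_eq_one_left ?_
      rw [← pow_add, ← two_mul, pow_two_h hd']
  have hzo : orderOf (s' ^ h) = 2 := by
    have := hd'.two_le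
    rw [orderOf_pow' _ (by omega), hd'.order, Nat.gcd_mul_left_left,
      Nat.mul_div_cancel _ (by omega)]
  obtain ⟨χ₀, hχ₀, hχ₀h, htriv⟩ :=
    MaxClassQuotient79.exists_height_zero_triv hM hind.1 hzc hzo
  exact ⟨N, b, D.subgroupOf N, e, s', χ₀,
    ⟨hind.2.1, hd', fun g => hteq.symm ▸ Iff.rfl, hC, hind, hdef, hcard, hmax, hnil, hχ₀, hχ₀h,
      htriv⟩, rfl, hmap⟩

end Cfsg.Agent.MaxClassLocal79
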