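import Mathlib
import Cfsg.Agent.Lib.MaxClassLocal79
import Cfsg.Agent.Lib.DihedralDefectColumns79
import Cfsg.Agent.Lib.BlockTransferValue79

/-!
# A 2-block with defect group of maximal class: columns of the sections over the element of order four

The coefficients of the members against the stars, their orthogonality, and the heights.
-/

set_option autoImplicit false
set_option linter.unusedSectionVars false

open scoped ComplexConjugate

namespace Cfsg.Agent.MaxClassColumns79

open Cfsg Cfsg.Agent.MaxClassGroup79 Cfsg.Agent.MaxClassLocal79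
open Cfsg.Agent.DihedralDefectColumns79 (starF resC gfun classFun_gfun classFun_resC)
open Cfsg.Agent.BrauerPairs81Base
open Cfsg.Agent.BlockTheoryLocalRing Cfsg.Agent.BlockTheoryCentre Cfsg.Agent.BlockTheoryIdem
open Cfsg.Agent.BlockTheoryBrauer

attribute [local instance] Classical.propDecidable

universe u

variable {G : Type u} [Group G] [Fintype G] {M : Ideal AlgInt} {B : Set (IrrCharacter G)} {h q : ℕ}
  {N : Subgroup G} {b : Set (IrrCharacter N)} {P : Subgroup N} {e : Set (IrrCharacter (Cen P))}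
  {s : N} {χ₀ : IrrCharacter N} {ζ : ℂ}

/-- The functions carried by the rotations over the element of order four. -/
def Supp (h : ℕ) (s : N) (f : P → ℂ) : Prop :=
  ∀ x : P, f x ≠ 0 → tEl h s ∈ Subgroup.zpowers (x : N)

/-- The elements of the group over the element of order four. -/
def sec (h : ℕ) (s : N) : Set G := {g : G | ((tEl h s : N) : G) ∈ Subgroup.zpowers g}

variable (hM : IsPModular 2 M) (S : Sect M B h q N b P e s χ₀)
include hM S

theorem classFun_starF {f : P → ℂ} (hf : IsClassFunction P f) :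
    IsClassFunction N (starF M b e χ₀ f) := by
  haveI : Fact (Nat.Prime 2) := ⟨Nat.prime_two⟩
  exact Star80Char.isClassFunction_star (Star80Nilpotent.stable_cl0 hM S.hmax S.hnil hf) χ₀

theorem starF_eq_sum {f : P → ℂ} (hf : IsClassFunction P f) :
    starF M b e χ₀ f =
      ∑ ψ : IrrCharacter P, classInner f (ψ : P → ℂ) • starF M b e χ₀ (ψ : P → ℂ) := by
  haveI : Fact (Nat.Prime 2) := ⟨Nat.prime_two⟩
  conv_lhs => rw [CharBasicOrth.eq_sum_classInner hf]
  rw [starF, Star80Nilpotent.starP_sum]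
  simp only [Star80Nilpotent.starP_smul, starF]

/-- The coefficient against a star. -/
theorem inner_res_star (χ : IrrCharacter G) {f : P → ℂ} (hf : IsClassFunction P f) :
    classInner (resC N χ) (starF M b e χ₀ f) = classInner (gfun M b e χ₀ χ) f := by
  rw [starF_eq_sum hM S hf, CharInduced.inner_sum_right, gfun, CharInduced.inner_sum_left]
  refine Finset.sum_congr rfl fun ψ _ => ?_
  rw [CharInduced.inner_smul_right, CharInduced.inner_smul_left, CharInduced.inner_conj_symm,
    mul_comm]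

theorem exists_nat (χ : IrrCharacter G) (ψ : IrrCharacter P) :
    ∃ k : ℕ, classInner (resC N χ) (starF M b e χ₀ (ψ : P → ℂ)) = k := by
  haveI : Fact (Nat.Prime 2) := ⟨Nat.prime_two⟩
  obtain ⟨Φ, hΦ⟩ := Star80Nilpotent.exists_equiv hM S.hmax S.hnil S.hmem S.height
  rw [starF, ← hΦ]
  exact ⟨_, S4716.mult_spec χ (Φ ψ : IrrCharacter N)⟩

/-- The star of the attached function is the part in the block. -/
theorem starF_gfun (χ : IrrCharacter G) (c : N) :
    starF M b e χ₀ (gfun M b e χ₀ χ) c =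
      ∑ k : N, blockCoeff b k * (χ : G → ℂ) ((k : G) * (c : G)) := by
  haveI : Fact (Nat.Prime 2) := ⟨Nat.prime_two⟩
  obtain ⟨Φ, hΦ⟩ := Star80Nilpotent.exists_equiv hM S.hmax S.hnil S.hmem S.height
  have e0 : ∀ k : N, blockCoeff b k * (χ : G → ℂ) ((k : G) * (c : G)) =
      blockCoeff b k * resC N χ (k * c) := fun k => rfl
  rw [Finset.sum_congr rfl fun k _ => e0 k,
    BlockTheoryInduced.sum_blockCoeff_mul b (classFun_resC χ), ← Finset.sum_filter,
    Finset.sum_subtype (p := fun ξ : IrrCharacter N => ξ ∈ b) _ (fun ξ => by simp) _,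
    ← Equiv.sum_comp Φ]
  rw [starF, gfun, Star80Nilpotent.starP_sum, Finset.sum_apply]
  refine Finset.sum_congr rfl fun ψ _ => ?_
  rw [Star80Nilpotent.starP_smul, Pi.smul_apply, smul_eq_mul, hΦ, starF]

theorem order_tG : orderOf ((tEl h s : N) : G) = 4 := by
  rw [Subgroup.orderOf_coe, order_t S.mc]

theorem conj_tEl (g : N) : g * tEl h s * g⁻¹ = tEl h s ∨ g * tEl h s * g⁻¹ = (tEl h s)⁻¹ := by
  rcases (S.hN g).1 g.2 with e1 | e1
  · exact Or.inl (Subtype.ext e1)
  · exact Or.inr (Subtype.ext e1)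

theorem mem_of_commute {g : G} (hc : Commute g ((tEl h s : N) : G)) : g ∈ N :=
  (S.hN g).2 (Or.inl (by rw [hc.eq, mul_inv_cancel_right]))

/-- The star of a function carried by these rotations lives over the element of order four. -/
theorem starF_supp {f : P → ℂ} (hf : Supp h s f) {c : N} (hc : starF M b e χ₀ f c ≠ 0) :
    tEl h s ∈ Subgroup.zpowers c := by
  haveI : Fact (Nat.Prime 2) := ⟨Nat.prime_two⟩
  by_contra hn
  obtain ⟨u, t, hu, ht, rfl⟩ := Star80Char.exists_section (p := 2) c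
  refine hc ?_
  rw [starF, Star80Nilpotent.starP, Star80Char.star_of_const (c := 0) hM S.hmax S.hmem hu
    (fun g hg => ?_) t ht, zero_mul]
  rw [Star80Nilpotent.cl0_of_mem _ hg]
  by_contra hne
  refine hn ?_
  have h1 : tEl h s ∈ Subgroup.zpowers (g * u * g⁻¹) := hf _ hne
  have h2 : tEl h s ∈ Subgroup.zpowers u := by
    obtain ⟨z, hz⟩ := h1
    have hz' : (g * u * g⁻¹) ^ z = tEl h s := hz
    rw [conj_zpow] at hz'
    have hz'' : u ^ z = g⁻¹ * tEl h s * g⁻¹⁻¹ := by rw [← hz']; group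
    rcases conj_tEl hM S g⁻¹ with e1 | e1 <;> rw [e1] at hz''
    · exact ⟨z, hz''⟩
    · exact ⟨-z, by show u ^ (-z) = tEl h s; rw [zpow_neg, hz'', inv_inv]⟩
  refine Subgroup.zpowers_le.2 ?_ h2
  -- `u` is a power of the product
  have hcomm : Commute u (t : N) := Star80Pairs.mem_cen_zp.1 t.2
  obtain ⟨k, hk⟩ := hu
  have hto : ¬ 2 ∣ orderOf (t : N) := by rwa [Subgroup.orderOf_coe]
  obtain ⟨m, hm⟩ := exists_pow_eq_self_of_coprime (x := u) (n := orderOf (t : N))
    (by rw [hk]; exact ((Nat.prime_two.coprime_iff_not_dvd.2 hto).pow_left k).symm)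
  have h3 : (u * (t : N)) ^ orderOf (t : N) = u ^ orderOf (t : N) := by
    rw [hcomm.mul_pow, pow_orderOf_eq_one, mul_one]
  refine ⟨((orderOf (t : N) * m : ℕ) : ℤ), ?_⟩
  show (u * (t : N)) ^ ((orderOf (t : N) * m : ℕ) : ℤ) = u
  rw [zpow_natCast, pow_mul, h3, hm]

theorem overT_iff (c : N) : (c : G) ∈ sec h s ↔ tEl h s ∈ Subgroup.zpowers c :=
  exists_congr fun z => by simp only [Subtype.ext_iff, Subgroup.coe_zpow]

theorem starF_supp' {f : P → ℂ} (hf : Supp h s f) (c : N) (hc : (c : G) ∉ sec h s) :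
    starF M b e χ₀ f c = 0 := by
  by_contra hne
  exact hc ((overT_iff hM S c).2 (starF_supp hM S hf hne))

theorem four_dvd_of_overT {g : G} (hg : g ∈ sec h s) : 4 ∣ orderOf g := by
  obtain ⟨z, hz⟩ := hg
  rw [← order_tG hM S, ← hz]
  exact orderOf_dvd_of_pow_eq_one (by
    show (g ^ z) ^ orderOf g = 1
    rw [← zpow_natCast, ← zpow_mul, mul_comm, zpow_mul, zpow_natCast, pow_orderOf_eq_one, one_zpow])

theorem ti {g x : G} (hg : g ∉ N) (hx : x ∈ sec h s) (hx' : g * x * g⁻¹ ∈ sec h s) : False := by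
  refine hg ((S.hN g).2 ?_)
  set t : G := ((tEl h s : N) : G) with ht
  have h1 : g * t * g⁻¹ ∈ Subgroup.zpowers (g * x * g⁻¹) := by
    obtain ⟨z, hz⟩ := hx
    refine ⟨z, ?_⟩
    show (g * x * g⁻¹) ^ z = g * t * g⁻¹
    rw [conj_zpow]
    exact congrArg (fun y => g * y * g⁻¹) hz
  have ho : orderOf (g * t * g⁻¹) = 4 := by
    rw [show g * t * g⁻¹ = MulAut.conj g t from rfl, MulEquiv.orderOf_eq]
    exact order_tG hM S
  have heq : Subgroup.zpowers (g * t * g⁻¹) = Subgroup.zpowers t :=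
    PGroupsCyclic.eq_of_card_eq_of_isCyclic (A := Subgroup.zpowers (g * x * g⁻¹))
      (Subgroup.isCyclic_zpowers _) (Subgroup.zpowers_le.2 h1) (Subgroup.zpowers_le.2 hx')
      (by rw [Nat.card_zpowers, Nat.card_zpowers, ho, order_tG hM S])
  have hmem : g * t * g⁻¹ ∈ Subgroup.zpowers t := heq ▸ Subgroup.mem_zpowers _
  obtain ⟨a, ha⟩ := (isOfFinOrder_of_finite t).mem_powers_iff_mem_zpowers.2 hmem
  have ha' : t ^ a = g * t * g⁻¹ := ha
  have h4 : orderOf t = 4 := order_tG hM S
  have hgcd : orderOf (t ^ (a % 4)) = 4 := by rw [← h4, pow_mod_orderOf, ha', ho, h4]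
  rw [← ha', ← pow_mod_orderOf t a, h4]
  rcases (show a % 4 = 0 ∨ a % 4 = 1 ∨ a % 4 = 2 ∨ a % 4 = 3 by omega) with e1 | e1 | e1 | e1
  · rw [e1, pow_zero, orderOf_one] at hgcd; omega
  · rw [e1, pow_one]; exact Or.inl rfl
  · rw [e1, orderOf_pow' _ (by norm_num), h4] at hgcd; norm_num at hgcd
  · rw [e1]
    refine Or.inr (eq_inv_of_mul_eq_one_left ?_)
    rw [← pow_succ, show 3 + 1 = orderOf t from h4.symm, pow_orderOf_eq_one]

/-- Coefficients of an induced star. -/
theorem inner_ind_starF (χ : IrrCharacter G) {f : P → ℂ} (hf : IsClassFunction P f) :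
    classInner (indFun N (starF M b e χ₀ f)) (χ : G → ℂ) =
      conj (classInner (gfun M b e χ₀ χ) f) := by
  rw [← inner_res_star hM S χ hf, CharInduced.inner_conj_symm,
    CharInduced.inner_ind_left N _ (irr_classFun χ)]
  rfl

/-- Orthogonality of the coefficient columns. -/
theorem column {f f' : P → ℂ} (hf : IsClassFunction P f) (hf' : IsClassFunction P f')
    (hs : Supp h s f) (hs' : Supp h s f') :
    ∑ χ : IrrCharacter G, classInner (gfun M b e χ₀ χ) f * conj (classInner (gfun M b e χ₀ χ) f') =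
      classInner f' f := by
  haveI : Fact (Nat.Prime 2) := ⟨Nat.prime_two⟩
  rw [← Star80Nilpotent.inner_starP_eq hM S.hmax S.hnil S.hmem S.height hf' hf]
  change _ = classInner (starF M b e χ₀ f') (starF M b e χ₀ f)
  have hz : starF M b e χ₀ f' 1 = 0 := starF_supp' hM S hs' 1 fun e1 => by
    have := four_dvd_of_overT hM S e1
    rw [Subgroup.coe_one, orderOf_one] at this
    omega
  rw [← CharInduced.classInner_ind_of_ti (sec h s) N
    (fun g hg t ht ht' => (ti hM S hg ht ht').elim) (starF M b e χ₀ f') (starF M b e χ₀ f)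
    (classFun_starF hM S hf) (starF_supp' hM S hs') (starF_supp' hM S hs) hz]
  conv_rhs =>
    arg 1
    rw [CharBasicOrth.eq_sum_classInner (CharInduced.isClassFunction_ind N (starF M b e χ₀ f'))]
  rw [CharInduced.inner_sum_left]
  refine Finset.sum_congr rfl fun χ _ => ?_
  rw [CharInduced.inner_smul_left, inner_ind_starF hM S χ hf', ← CharInduced.inner_conj_symm
    (indFun N (starF M b e χ₀ f)), inner_ind_starF hM S χ hf, Complex.conj_conj, mul_comm]

/-- The character values recovered from a column. -/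
theorem column_value {f : P → ℂ} (hf : IsClassFunction P f) (y : G) :
    ∑ χ : IrrCharacter G, conj (classInner (gfun M b e χ₀ χ) f) * (χ : G → ℂ) y =
      indFun N (starF M b e χ₀ f) y := by
  conv_rhs => rw [CharBasicOrth.eq_sum_classInner (CharInduced.isClassFunction_ind N (starF M b e χ₀ f))]
  simp only [Finset.sum_apply, Pi.smul_apply, smul_eq_mul, inner_ind_starF hM S _ hf]

/-- A column vanishes off the elements whose 2-part has order at least four. -/
theorem column_vanish {f : P → ℂ} (hf : IsClassFunction P f) (hs : Supp h s f) {y : G}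
    (hy : ¬ 4 ∣ orderOf y) :
    ∑ χ : IrrCharacter G, conj (classInner (gfun M b e χ₀ χ) f) * (χ : G → ℂ) y = 0 := by
  rw [column_value hM S hf]
  refine CharInduced.ind_eq_zero_of_vanish N _ y fun x c hx => starF_supp' hM S hs c fun hc => hy ?_
  have := four_dvd_of_overT hM S hc
  rwa [← hx, show x⁻¹ * y * x = MulAut.conj x⁻¹ y by simp, MulEquiv.orderOf_eq] at this

/-- Characters outside the block do not meet the columns. -/
theorem inner_eq_zero {χ : IrrCharacter G} (hχ : χ ∉ B) {f : P → ℂ} (hf : IsClassFunction P f)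
    (hs : Supp h s f) : classInner (gfun M b e χ₀ χ) f = 0 := by
  haveI : Fact (Nat.Prime 2) := ⟨Nat.prime_two⟩
  rw [← Star80Nilpotent.inner_starP_eq hM S.hmax S.hnil S.hmem S.height (classFun_gfun χ) hf,
    classInner]
  refine mul_eq_zero_of_right _ (Finset.sum_eq_zero fun c _ => ?_)
  by_cases hc : (c : G) ∈ sec h s
  · refine mul_eq_zero_of_left ?_ _
    change starF M b e χ₀ (gfun M b e χ₀ χ) c = 0
    rw [starF_gfun hM S]
    refine BlockTheoryInduced.second_main_sum N hM S.ind c (fun z hz g hg => ?_) χ hχ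
    rw [Subgroup.mem_centralizer_singleton_iff] at hg
    obtain ⟨y, hzy, hcomm, -, hy⟩ := hz
    obtain ⟨i, hi⟩ := hc
    set t : G := ((tEl h s : N) : G) with ht
    have hi' : (c : G) ^ i = t := hi
    have hcop : Nat.Coprime (orderOf y) (orderOf t) := by
      rw [show orderOf t = 2 ^ 2 from order_tG hM S]
      exact ((Nat.prime_two.coprime_iff_not_dvd.2 hy).pow_left 2).symm
    obtain ⟨m, hm⟩ := exists_pow_eq_self_of_coprime (x := t) (n := orderOf y) hcop
    refine mem_of_commute hM S ?_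
    rw [← ht, ← hm]
    refine Commute.pow_right ?_ m
    rw [← hi', ← zpow_natCast, ← zpow_mul, ← hzy, hcomm.mul_zpow, mul_comm i,
      zpow_mul y, zpow_natCast y, pow_orderOf_eq_one, one_zpow, mul_one]
    exact (show Commute g z from hg).zpow_right _
  · refine mul_eq_zero_of_right _ ?_
    change conj (starF M b e χ₀ f c) = 0
    rw [starF_supp' hM S hs c hc, map_zero]

theorem dphi_supp' (hζ : IsPrimitiveRoot ζ (2 * h)) {i j : ℕ} (hij : i % 2 = j % 2) :
    Supp h s (dphi P s ζ h q i j) := fun x hx => dphi_supp S.mc hζ hij x hx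

/-- The multiplicities of the rotation in the attached function. -/
theorem exists_mult (hζ : IsPrimitiveRoot ζ (2 * h)) (χ : IrrCharacter G) :
    ∃ m : ℕ → ℕ, IsSpec s ζ h (gfun M b e χ₀ χ) m := by
  choose k hk using exists_nat hM S χ
  obtain ⟨m, hm⟩ := exists_spec_sum S.mc hζ k
  refine ⟨m, ?_⟩
  rw [gfun]
  simpa only [hk] using hm

/-- The star at the identity. -/
theorem starF_one (f : P → ℂ) : starF M b e χ₀ f 1 = f 1 * (χ₀ : N → ℂ) 1 := by
  haveI : Fact (Nat.Prime 2) := ⟨Nat.prime_two⟩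
  have hu : ∃ k, orderOf (1 : N) = 2 ^ k := ⟨0, by rw [orderOf_one, pow_zero]⟩
  have h0 := Star80Char.star_of_const (z0 := Star80Nilpotent.cl0 f) (c := f 1) hM S.hmax S.hmem hu
    (fun g hg => ?_) 1 (by rw [orderOf_one]; omega)
  · rw [Subgroup.coe_one, mul_one] at h0
    exact h0
  · rw [Star80Nilpotent.cl0_of_mem _ hg]
    exact congrArg f (Subtype.ext (by simp))

/-- The height is the exponent of two in the degree of the attached function. -/
theorem height_eq {χ : IrrCharacter G} (hχ : χ ∈ B) {z : ℤ}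
    (hz : gfun M b e χ₀ χ 1 = (z : ℂ)) :
    ∃ w : ℤ, ¬ (2 : ℤ) ∣ w ∧ z = 2 ^ blockHeight 2 B (χ : G → ℂ) * w := by
  haveI : Fact (Nat.Prime 2) := ⟨Nat.prime_two⟩
  have hH : ∀ E, IsDefectGroup 2 M b E → Cen (E.map N.subtype) ≤ N := by
    intro E hE
    -- every defect group of the block has its centraliser inside
    obtain ⟨g, hg⟩ := BlockTheoryDefect.defectGroup_conj hM S.ind.1
      (BrauerPairs81Max.isDefectGroup_of_maximal hM S.hmax) hE
    intro x hx
    have h1 : (g : G)⁻¹ * x * (g : G) ∈ N := S.hC (Subgroup.mem_centralizer_iff.2 fun y hy => by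
      obtain ⟨v, hv, rfl⟩ := hy
      have h2 := Subgroup.mem_centralizer_iff.1 hx ((g * v * g⁻¹ : N) : G) ⟨g * v * g⁻¹, by
        rw [← hg]; exact ⟨v, hv, rfl⟩, rfl⟩
      simp only [Subgroup.coe_mul, Subgroup.coe_inv, Subgroup.coe_subtype] at h2 ⊢
      calc (v : G) * ((g : G)⁻¹ * x * g) = (g : G)⁻¹ * ((g : G) * v * (g : G)⁻¹ * x) * g := by group
        _ = (g : G)⁻¹ * x * g * v := by rw [h2]; group)
    have h3 := N.mul_mem (N.mul_mem g.2 h1) (N.inv_mem g.2)
    simpa [mul_assoc] using h3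
  obtain ⟨t₀, ht₀, ht₀n, hall⟩ := BlockTransferValue79.exists_value hM hH S.ind S.defect hχ
  obtain ⟨t, ht, hcong, heq⟩ := hall 1 isCen_one (isInt_one hM) χ₀ S.hmem
  rw [omega_one, one_mul] at hcong
  have htn : ¬ MemLocalIdeal M t := fun htI => ht₀n (by
    have h1 := ideal_sub hM htI hcong
    simpa using h1)
  have hlhs : chiSum (χ : G → ℂ) (incl N (1 * idem b)) = (z : ℂ) * (χ₀ : N → ℂ) 1 := by
    rw [← hz, ← starF_one hM S, starF_gfun hM S, one_mul]
    have h1 := BlockTheoryInduced.chiSum_incl_mul_single N (χ : G → ℂ) (idem b) (1 : G)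
    rw [← MonoidAlgebra.one_def, mul_one] at h1
    rw [h1]
    simp [coeff_idem]
  obtain ⟨A, hA, hdeg⟩ : ∃ A : ℕ, ¬ 2 ∣ A ∧
      charDegree (χ₀ : N → ℂ) = 2 ^ BlockContrib.minExp 2 b * A := by
    have h1 := BlockContrib.exp_eq_add (p := 2) S.hmem
    rw [S.height, add_zero] at h1
    exact ⟨_, Nat.not_dvd_ordCompl Nat.prime_two (ClassAlgebraVal.charDegree_pos χ₀).ne',
      by rw [← h1, Nat.ordProj_mul_ordCompl_eq_self]⟩
  rw [hlhs, ClassAlgebraVal.apply_one_eq_charDegree, hdeg, pow_add] at heq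
  push_cast at heq
  set k := BlockContrib.minExp 2 b
  set ht' := blockHeight 2 B (χ : G → ℂ)
  have heq' : ((z * (A : ℤ) : ℤ) : ℂ) = (2 : ℂ) ^ ht' * t := by
    push_cast
    refine mul_left_cancel₀ (pow_ne_zero k (two_ne_zero : (2 : ℂ) ≠ 0)) ?_
    linear_combination heq
  have hz0 : z ≠ 0 := fun h0 => htn (by
    rw [h0, zero_mul, Int.cast_zero] at heq'
    rw [(mul_eq_zero.1 heq'.symm).resolve_left (pow_ne_zero _ two_ne_zero)]
    exact ideal_zero hM)
  obtain ⟨v, o, ho, hzo⟩ :=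
    Nat.exists_eq_pow_mul_and_not_dvd (Int.natAbs_ne_zero.2 hz0) 2 (by norm_num)
  obtain ⟨w, hw, hzw⟩ : ∃ w : ℤ, ¬ (2 : ℤ) ∣ w ∧ z = 2 ^ v * w := by
    rcases Int.natAbs_eq z with e1 | e1
    · exact ⟨o, by exact_mod_cast ho, by rw [e1, hzo]; push_cast; ring⟩
    · exact ⟨-(o : ℤ), by rw [dvd_neg]; exact_mod_cast ho, by rw [e1, hzo]; push_cast; ring⟩
  have hwA : ¬ (2 : ℤ) ∣ w * A := fun hd => (Int.prime_two.dvd_mul.1 hd).elim hw
    fun hd' => hA (by exact_mod_cast hd')
  rw [hzw] at heq'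
  have hpow : ∀ r : ℕ, 0 < r → MemLocalIdeal M ((2 : ℂ) ^ r) := fun r hr => by
    rw [show (2 : ℂ) ^ r = ((2 ^ r : ℕ) : ℂ) by push_cast; rfl, natCast_mem_iff hM]
    exact dvd_pow_self 2 hr.ne'
  rcases lt_trichotomy v ht' with hlt | heq1 | hgt
  · exfalso
    have h1 : ((w * A : ℤ) : ℂ) = (2 : ℂ) ^ (ht' - v) * t := by
      refine mul_left_cancel₀ (pow_ne_zero v (two_ne_zero : (2 : ℂ) ≠ 0)) ?_
      rw [← mul_assoc, ← pow_add, Nat.add_sub_cancel' hlt.le, ← heq']
      push_cast; ring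
    refine hwA ?_
    have hI := ideal_mul_right hM (hpow _ (show 0 < ht' - v by omega)) ht
    rw [← h1, BlockContrib.intCast_mem_iff hM] at hI
    exact_mod_cast hI
  · exact ⟨w, hw, heq1 ▸ hzw⟩
  · exfalso
    have h1 : t = (2 : ℂ) ^ (v - ht') * ((w * A : ℤ) : ℂ) := by
      refine mul_left_cancel₀ (pow_ne_zero ht' (two_ne_zero : (2 : ℂ) ≠ 0)) ?_
      rw [← mul_assoc, ← pow_add, Nat.add_sub_cancel' hgt.le, ← heq']
      push_cast; ring
    exact htn (h1 ▸ ideal_mul_right hM (hpow _ (show 0 < v - ht' by omega))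
      (intCast_mem (localRing hM) _))

end Cfsg.Agent.MaxClassColumns79
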