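import Mathlib
import Cfsg.Agent.Lib.MaxClassColumns79

/-!
# A 2-block with defect group of maximal class: the integral columns and the heights
-/

set_option autoImplicit false
set_option linter.unusedSectionVars false

open scoped ComplexConjugate

namespace Cfsg.Agent.MaxClassBlock79

open Cfsg Cfsg.Agent.MaxClassGroup79 Cfsg.Agent.MaxClassLocal79 Cfsg.Agent.MaxClassColumns79
open Cfsg.Agent.DihedralDefectColumns79 (starF resC gfun classFun_gfun classFun_resC)
open Cfsg.Agent.BrauerPairs81Base Cfsg.Agent.BlockContribBounds Cfsg.Agent.BlockContrib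
open Cfsg.Agent.BlockTheoryCentre

attribute [local instance] Classical.propDecidable

universe u

variable {G : Type u} [Group G] [Fintype G]

/-- The columns of a block with defect group of maximal class of order `4 * h`. -/
structure Cols (M : Ideal AlgInt) (B : Set (IrrCharacter G)) (h : ℕ) (R : Finset ℕ)
    (cE cF : ℕ → IrrCharacter G → ℤ) : Prop where
  hB : IsPBlock M B
  two_le : 2 ≤ h
  two_pow : ∃ k : ℕ, h = 2 ^ k
  cardR : 2 * (R.card + 1) = h
  defect : 2 ^ blockDefect 2 B = 4 * h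
  gramE : ∀ i k, 0 < i → i ≤ h / 2 → 0 < k → k ≤ h / 2 →
    ∑ χ ∈ members B, cE i χ * cE k χ = if i = k then (if i = h / 2 then 4 else 3) else 2
  gramF : ∀ i ∈ R, ∀ k ∈ R, ∑ χ ∈ members B, cF i χ * cF k χ = if i = k then 2 else 1
  gramEF : ∀ i, 0 < i → i ≤ h / 2 → ∀ k ∈ R, ∑ χ ∈ members B, cE i χ * cF k χ = 0
  regE : ∀ i, 0 < i → i ≤ h / 2 → ∀ y : G, ¬ 2 ∣ orderOf y →
    ∑ χ ∈ members B, (cE i χ : ℂ) * (χ : G → ℂ) y = 0
  regF : ∀ k ∈ R, ∀ y : G, ¬ 2 ∣ orderOf y →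
    ∑ χ ∈ members B, (cF k χ : ℂ) * (χ : G → ℂ) y = 0
  long : ∀ χ ∈ B, cE (h / 2) χ = 0 ∨ cE (h / 2) χ = 1 ∨ cE (h / 2) χ = -1
  ht0 : ∀ χ ∈ B, cE (h / 2) χ ≠ 0 → blockHeight 2 B (χ : G → ℂ) = 0
  htpos : ∀ χ ∈ B, cE (h / 2) χ = 0 → 0 < blockHeight 2 B (χ : G → ℂ)
  ht1 : ∀ χ ∈ B, cE (h / 2) χ = 0 → 4 ≤ h →
    ¬ (2 : ℤ) ∣ ∑ i ∈ Finset.Ico 1 (h / 2), cE i χ + ∑ k ∈ R, cF k χ →
      blockHeight 2 B (χ : G → ℂ) = 1
  htTop : ∀ χ ∈ B, (∀ i, 0 < i → i ≤ h / 2 → cE i χ = 0) → (∀ k ∈ R, cF k χ = 0) →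
    2 ^ blockHeight 2 B (χ : G → ℂ) = h

variable {M : Ideal AlgInt} {B : Set (IrrCharacter G)} {h q : ℕ} {N : Subgroup G}
  {b : Set (IrrCharacter N)} {P : Subgroup N} {e : Set (IrrCharacter (Cen P))} {s : N}
  {χ₀ : IrrCharacter N} {ζ : ℂ}

variable (hM : IsPModular 2 M) (S : Sect M B h q N b P e s χ₀)
include hM S

theorem J_center : (s ^ h : N) ∈ Subgroup.center N := by
  refine Subgroup.mem_center_iff.2 fun g => mul_inv_eq_iff_eq_mul.1 ?_
  rw [← t_mul_self S.mc]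
  have e1 : g * (tEl h s * tEl h s) * g⁻¹ = (g * tEl h s * g⁻¹) * (g * tEl h s * g⁻¹) := by group
  rw [e1]
  rcases conj_tEl hM S g with h1 | h1 <;> rw [h1]
  rw [← mul_inv_rev, t_mul_self S.mc]
  refine inv_eq_of_mul_eq_one_left ?_
  rw [← pow_add, ← two_mul, pow_two_h S.mc]

/-- The star at the central involution. -/
theorem starF_J (f : P → ℂ) :
    starF M b e χ₀ f (s ^ h) = ev s f h * (χ₀ : N → ℂ) 1 := by
  haveI : Fact (Nat.Prime 2) := ⟨Nat.prime_two⟩
  have hu : ∃ k, orderOf (s ^ h : N) = 2 ^ k := ⟨1, by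
    have := S.mc.two_le
    rw [orderOf_pow' _ (by omega), S.mc.order, Nat.gcd_mul_left_left,
      Nat.mul_div_cancel _ (by omega), pow_one]⟩
  have h0 := Star80Char.star_of_const (z0 := Star80Nilpotent.cl0 f) (c := ev s f h) hM S.hmax S.hmem hu
    (fun g hg => ?_) 1 (by rw [orderOf_one]; omega)
  · rw [Subgroup.coe_one, mul_one, S.triv] at h0
    exact h0
  · have hg' : g * (s ^ h : N) * g⁻¹ = s ^ h := by
      rw [Subgroup.mem_center_iff.1 (J_center hM S) g, mul_inv_cancel_right]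
    rw [hg', Star80Nilpotent.cl0_of_mem _ (pow_mem S.mc.mem h), ev_eq S.mc]

/-- A central involution of the group separates the two kinds of columns. -/
theorem inner_eq_zero_of_sign (hJ : ((s ^ h : N) : G) ∈ Subgroup.center G) {χ : IrrCharacter G}
    {ω ε : ℂ} (hω : ∀ g : G, (χ : G → ℂ) (((s ^ h : N) : G) * g) = ω * (χ : G → ℂ) g)
    {f : P → ℂ} (hf : IsClassFunction P f)
    (hε : ∀ x : P, f (⟨s ^ h, pow_mem S.mc.mem h⟩ * x) = ε * f x) (hne : ω * conj ε ≠ 1) :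
    classInner (gfun M b e χ₀ χ) f = 0 := by
  haveI : Fact (Nat.Prime 2) := ⟨Nat.prime_two⟩
  set z : N := s ^ h with hz
  set zP : P := ⟨z, pow_mem S.mc.mem h⟩ with hzP
  have hzPc : zP ∈ Subgroup.center P := Subgroup.mem_center_iff.2 fun x => Subtype.ext
    (Subgroup.mem_center_iff.1 (J_center hM S) (x : N))
  obtain ⟨Φ, hΦ⟩ := Star80Nilpotent.exists_equiv hM S.hmax S.hnil S.hmem S.height
  -- the star of a character is multiplied by its own sign
  have hψ : ∀ (ψ : IrrCharacter P) (c : N),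
      starF M b e χ₀ (ψ : P → ℂ) (z * c) = S4716.lam zP ψ * starF M b e χ₀ (ψ : P → ℂ) c := by
    intro ψ c
    have hl : starF M b e χ₀ (ψ : P → ℂ) z = S4716.lam zP ψ * starF M b e χ₀ (ψ : P → ℂ) 1 := by
      rw [hz, starF_J hM S, starF_one hM S, ev_eq S.mc, S4716.lam]
      have := BlockTheoryCentre.irr_one_ne_zero ψ
      show (ψ : P → ℂ) zP * (χ₀ : N → ℂ) 1 =
        (ψ : P → ℂ) zP / (ψ : P → ℂ) 1 * ((ψ : P → ℂ) 1 * (χ₀ : N → ℂ) 1)
      field_simp
    rw [starF, ← hΦ] at hl ⊢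
    set ξ : IrrCharacter N := (Φ ψ : IrrCharacter N)
    rw [S4716.lam_mul (J_center hM S) ξ c]
    congr 1
    rw [S4716.lam, hl, mul_div_assoc, div_self (BlockTheoryCentre.irr_one_ne_zero ξ), mul_one]
  have hcoef : ∀ ψ : IrrCharacter P,
      classInner f (ψ : P → ℂ) * S4716.lam zP ψ = ε * classInner f (ψ : P → ℂ) := by
    intro ψ
    have h1 : classInner f (ψ : P → ℂ) = ε * conj (S4716.lam zP ψ) * classInner f (ψ : P → ℂ) := by
      conv_lhs => rw [classInner, ← Equiv.sum_comp (Equiv.mulLeft zP)]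
      simp only [Equiv.coe_mulLeft, hε, S4716.lam_mul hzPc ψ, map_mul]
      simp only [classInner, Finset.mul_sum]
      exact Finset.sum_congr rfl fun x _ => by ring
    have h2 : S4716.lam zP ψ * S4716.lam zP ψ = 1 := by
      rw [← pow_two, ← S4716.lam_pow hzPc, show zP ^ 2 = 1 from Subtype.ext (by
        show z ^ 2 = 1
        rw [hz, ← pow_mul, mul_comm, pow_two_h S.mc]), S4716.lam,
        div_self (BlockTheoryCentre.irr_one_ne_zero ψ)]
    have h3 : conj (S4716.lam zP ψ) = S4716.lam zP ψ := by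
      rcases mul_self_eq_one_iff.1 h2 with e1 | e1 <;> rw [e1] <;> simp
    rw [h3] at h1
    linear_combination (S4716.lam zP ψ) * h1 + ε * classInner f (ψ : P → ℂ) * h2
  have hstar : ∀ c : N, starF M b e χ₀ f (z * c) = ε * starF M b e χ₀ f c := by
    intro c
    rw [starF_eq_sum hM S hf]
    simp only [Finset.sum_apply, Pi.smul_apply, smul_eq_mul, hψ, Finset.mul_sum]
    exact Finset.sum_congr rfl fun ψ _ => by rw [← mul_assoc, hcoef, mul_assoc]
  rw [← inner_res_star hM S χ hf]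
  have h1 : classInner (resC N χ) (starF M b e χ₀ f) =
      ω * conj ε * classInner (resC N χ) (starF M b e χ₀ f) := by
    conv_lhs => rw [classInner, ← Equiv.sum_comp (Equiv.mulLeft z)]
    simp only [Equiv.coe_mulLeft, hstar, resC, Subgroup.coe_mul, hω, map_mul]
    simp only [classInner, resC, Finset.mul_sum]
    exact Finset.sum_congr rfl fun x _ => by ring
  refine (mul_eq_zero.1 (show (1 - ω * conj ε) * classInner (resC N χ) (starF M b e χ₀ f) = 0 by
    linear_combination h1)).resolve_left fun h0 => hne ?_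
  linear_combination -h0

/-- The basic differences pick up the parity at the central involution. -/
theorem dphi_translate (hζ : IsPrimitiveRoot ζ (2 * h)) {i j : ℕ} (hij : i % 2 = j % 2) (x : P) :
    dphi P s ζ h q i j (⟨s ^ h, pow_mem S.mc.mem h⟩ * x) =
      (-1) ^ i * dphi P s ζ h q i j x := by
  by_cases hx : (x : N) ∈ Subgroup.zpowers s
  · obtain ⟨a, ha, e1⟩ := MaxClassGroup79.exists_pow S.mc hx
    have e2 : ((⟨s ^ h, pow_mem S.mc.mem h⟩ * x : P) : N) = s ^ (h + a) := by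
      rw [Subgroup.coe_mul, e1, pow_add]
    simp only [dphi, rotFun_pow S.mc _ e1, rotFun_pow S.mc _ e2, Nat.mod_eq_of_lt ha]
    have hneg : ζ ^ h = -1 :=
      (hζ.pow (by omega) (show 2 * h = h * 2 by ring)).eq_neg_one_of_two_right
    have key : ∀ k, MaxClassGroup79.phi ζ q k ((h + a) % (2 * h)) = (-1) ^ k * MaxClassGroup79.phi ζ q k a := by
      intro k
      have e : ∀ m : ℕ, ζ ^ (m * ((h + a) % (2 * h))) = (-1) ^ m * ζ ^ (m * a) := fun m => by
        rw [mul_comm m, root_mul_mod hζ, mul_comm, mul_add, pow_add, mul_comm m h, pow_mul, hneg]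
      simp only [MaxClassGroup79.phi, e]
      rw [pow_mul (-1 : ℂ) q k, (q_odd S.mc).neg_one_pow]
      ring
    rw [key, key, neg_one_pow_congr (R := ℂ) (n := i) (m := j) (by simp [Nat.even_iff, hij]), mul_sub]
  · simp only [dphi]
    rw [rotFun_refl _ hx, rotFun_refl _, mul_zero]
    intro hm
    refine hx ?_
    have := mul_mem (inv_mem (Subgroup.npow_mem_zpowers s h)) hm
    simpa [mul_assoc] using this

/-- The columns exist. -/
theorem exists_cols (hζ : IsPrimitiveRoot ζ (2 * h)) :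
    ∃ cE cF : ℕ → IrrCharacter G → ℤ, Cols M B h ((oddReps h q).erase 1) cE cF ∧
      (∀ y : G, ¬ 4 ∣ orderOf y →
        (∀ i, i ≤ h / 2 → ∑ χ ∈ members B, (cE i χ : ℂ) * (χ : G → ℂ) y = 0) ∧
          ∀ k ∈ (oddReps h q).erase 1, ∑ χ ∈ members B, (cF k χ : ℂ) * (χ : G → ℂ) y = 0) ∧
      (((s ^ h : N) : G) ∈ Subgroup.center G → ∀ χ : IrrCharacter G,
        ((∀ g : G, (χ : G → ℂ) (((s ^ h : N) : G) * g) = (χ : G → ℂ) g) →
          ∀ k ∈ (oddReps h q).erase 1, cF k χ = 0) ∧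
        ((∀ g : G, (χ : G → ℂ) (((s ^ h : N) : G) * g) = -(χ : G → ℂ) g) →
          ∀ i, i ≤ h / 2 → cE i χ = 0)) := by
  haveI : Fact (Nat.Prime 2) := ⟨Nat.prime_two⟩
  have hh := S.mc.two_le
  obtain ⟨r, hr⟩ := even_h S.mc
  choose m hm using exists_mult hM S hζ
  set R := (oddReps h q).erase 1 with hR
  set cE : ℕ → IrrCharacter G → ℤ := fun i χ => (m χ (2 * i) : ℤ) - m χ 0 with hcE
  set cF : ℕ → IrrCharacter G → ℤ := fun k χ => (m χ k : ℤ) - m χ 1 with hcF
  have hRmem : ∀ k ∈ R, k < 2 * h ∧ k % 2 = 1 := fun k hk =>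
    ⟨(mem_oddReps.1 (Finset.mem_erase.1 hk).2).1, (mem_oddReps.1 (Finset.mem_erase.1 hk).2).2.1⟩
  have hE : ∀ χ i, i ≤ h / 2 →
      classInner (gfun M b e χ₀ χ) (dphi P s ζ h q (2 * i) 0) = (cE i χ : ℂ) := fun χ i hi => by
    rw [inner_dphi S.mc hζ (classFun_gfun χ) (hm χ) (by omega) (by omega), hcE]
    push_cast; rfl
  have hF : ∀ χ, ∀ k ∈ R, classInner (gfun M b e χ₀ χ) (dphi P s ζ h q k 1) = (cF k χ : ℂ) :=
    fun χ k hk => by
    rw [inner_dphi S.mc hζ (classFun_gfun χ) (hm χ) (hRmem k hk).1 (by omega), hcF]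
    push_cast; rfl
  have hsE : ∀ i, Supp h s (dphi P s ζ h q (2 * i) 0) := fun i =>
    dphi_supp' hM S hζ (by omega)
  have hsF : ∀ k ∈ R, Supp h s (dphi P s ζ h q k 1) := fun k hk =>
    dphi_supp' hM S hζ (by rw [(hRmem k hk).2])
  have gram : ∀ (f f' : P → ℂ) (c c' : IrrCharacter G → ℤ), IsClassFunction P f →
      IsClassFunction P f' → Supp h s f → Supp h s f' →
      (∀ χ, classInner (gfun M b e χ₀ χ) f = (c χ : ℂ)) →
      (∀ χ, classInner (gfun M b e χ₀ χ) f' = (c' χ : ℂ)) →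
      ((∑ χ ∈ members B, c χ * c' χ : ℤ) : ℂ) = classInner f' f := by
    intro f f' c c' hf hf' hs hs' hc hc'
    rw [← column hM S hf hf' hs hs', ← Finset.sum_subset (Finset.subset_univ (members B))
      fun χ _ hχ => by
        rw [inner_eq_zero hM S (fun hb => hχ (mem_members.2 hb)) hf hs, zero_mul]]
    push_cast
    exact Finset.sum_congr rfl fun χ _ => by rw [hc χ, hc' χ, map_intCast]
  have reg : ∀ (f : P → ℂ) (c : IrrCharacter G → ℤ), IsClassFunction P f → Supp h s f →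
      (∀ χ, classInner (gfun M b e χ₀ χ) f = (c χ : ℂ)) → ∀ y : G, ¬ 4 ∣ orderOf y →
        ∑ χ ∈ members B, (c χ : ℂ) * (χ : G → ℂ) y = 0 := by
    intro f c hf hs hc y hy
    rw [← column_vanish hM S hf hs (y := y) hy,
      ← Finset.sum_subset (Finset.subset_univ (members B)) fun χ _ hχ => by
        rw [inner_eq_zero hM S (fun hb => hχ (mem_members.2 hb)) hf hs, map_zero, zero_mul]]
    exact Finset.sum_congr rfl fun χ _ => by rw [hc χ, map_intCast]
  -- the degree of the attached function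
  have hdeg : ∀ χ ∈ B, ∃ w : ℤ, ¬ (2 : ℤ) ∣ w ∧
      (h : ℤ) * ((m χ 0 : ℤ) + m χ 1) + cE (h / 2) χ +
        2 * (∑ i ∈ Finset.Ico 1 (h / 2), cE i χ + ∑ k ∈ R, cF k χ) =
        2 ^ blockHeight 2 B (χ : G → ℂ) * w := by
    intro χ hχ
    refine height_eq hM S hχ ?_
    rw [spec_one S.mc hζ (classFun_gfun χ) (hm χ),
      ← Finset.add_sum_erase _ _ (one_mem_oddReps S.mc)]
    simp only [hcE, hcF, hR, show 2 * (h / 2) = h by omega, sub_self, zero_add]
  have hhev : (2 : ℤ) ∣ h := by exact_mod_cast (even_h S.mc).two_dvd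
  have hpar : ∀ χ ∈ B, ((2 : ℤ) ∣ cE (h / 2) χ ↔ 0 < blockHeight 2 B (χ : G → ℂ)) := by
    intro χ hχ
    obtain ⟨w, hw, hz⟩ := hdeg χ hχ
    obtain ⟨h2, hh2⟩ := hhev
    rcases Nat.eq_zero_or_pos (blockHeight 2 B (χ : G → ℂ)) with h0 | h0
    · rw [h0, pow_zero, one_mul] at hz
      refine iff_of_false (fun hd => hw ?_) (by omega)
      rw [← hz]
      exact dvd_add (dvd_add (Dvd.dvd.mul_right ⟨h2, hh2⟩ _) hd) (dvd_mul_right 2 _)
    · refine iff_of_true ?_ h0
      have hd : (2 : ℤ) ∣ 2 ^ blockHeight 2 B (χ : G → ℂ) * w :=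
        Dvd.dvd.mul_right (dvd_pow_self 2 h0.ne') w
      rw [← hz, dvd_add_left (dvd_mul_right 2 _), dvd_add_right (Dvd.dvd.mul_right ⟨h2, hh2⟩ _)] at hd
      exact hd
  have hgramE : ∀ i k, 0 < i → i ≤ h / 2 → 0 < k → k ≤ h / 2 →
      ∑ χ ∈ members B, cE i χ * cE k χ = if i = k then (if i = h / 2 then 4 else 3) else 2 := by
    intro i k i0 i1 k0 k1
    have h1 := gram _ _ (cE i) (cE k) (dphi_classFun S.mc hζ _ _) (dphi_classFun S.mc hζ _ _)
      (hsE i) (hsE k) (fun χ => hE χ i i1) fun χ => hE χ k k1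
    rw [gram_even S.mc hζ k0 k1 i0 i1, Int.cast_inj] at h1
    rw [h1]
    split_ifs <;> omega
  obtain ⟨φ, hφ, hφ0⟩ := exists_height_zero hM S.hB
  have hlong : ∀ χ ∈ B, cE (h / 2) χ = 0 ∨ cE (h / 2) χ = 1 ∨ cE (h / 2) χ = -1 := by
    intro χ hχ
    by_contra hne
    have hg := hgramE (h / 2) (h / 2) (by omega) le_rfl (by omega) le_rfl
    rw [if_pos rfl, if_pos rfl] at hg
    have hφn : cE (h / 2) φ ≠ 0 := fun h0 => by
      have := (hpar φ hφ).1 (by rw [h0]; exact dvd_zero _)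
      omega
    have h4 : 4 ≤ cE (h / 2) χ * cE (h / 2) χ := by
      rcases (show cE (h / 2) χ ≤ -2 ∨ 2 ≤ cE (h / 2) χ by omega) with e1 | e1 <;> nlinarith
    have hφ1 : 1 ≤ cE (h / 2) φ * cE (h / 2) φ := by
      rcases (show cE (h / 2) φ ≤ -1 ∨ 1 ≤ cE (h / 2) φ by omega) with e1 | e1 <;> nlinarith
    by_cases hχφ : χ = φ
    · subst hχφ
      have h5 : cE (h / 2) χ * cE (h / 2) χ ≤ 4 := hg ▸
        Finset.single_le_sum (f := fun x => cE (h / 2) x * cE (h / 2) x)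
          (fun x _ => mul_self_nonneg _) (mem_members.2 hχ)
      have : cE (h / 2) χ = 2 ∨ cE (h / 2) χ = -2 := by
        have : -2 ≤ cE (h / 2) χ ∧ cE (h / 2) χ ≤ 2 := ⟨by nlinarith, by nlinarith⟩
        omega
      have := (hpar χ hχ).1 (by rcases this with e1 | e1 <;> rw [e1] <;> norm_num)
      omega
    · have h5 : ∑ x ∈ ({χ, φ} : Finset (IrrCharacter G)), cE (h / 2) x * cE (h / 2) x ≤ 4 := hg ▸
        Finset.sum_le_sum_of_subset_of_nonneg (by
          intro x hx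
          rcases Finset.mem_insert.1 hx with rfl | hx
          · exact mem_members.2 hχ
          · rw [Finset.mem_singleton.1 hx]; exact mem_members.2 hφ) fun x _ _ => mul_self_nonneg _
      rw [Finset.sum_pair hχφ] at h5
      omega
  refine ⟨cE, cF, ⟨S.hB, hh, S.mc.two_pow, ?_, S.card, hgramE, ?_, ?_,
    fun i _ i1 y hy => reg _ _ (dphi_classFun S.mc hζ _ _) (hsE i) (fun χ => hE χ i i1) y
      fun h4 => hy ((by norm_num : 2 ∣ 4).trans h4),
    fun k hk y hy => reg _ _ (dphi_classFun S.mc hζ _ _) (hsF k hk) (fun χ => hF χ k hk) y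
      fun h4 => hy ((by norm_num : 2 ∣ 4).trans h4),
    hlong, ?_, ?_, ?_, ?_⟩,
    fun y hy => ⟨fun i i1 => reg _ _ (dphi_classFun S.mc hζ _ _) (hsE i) (fun χ => hE χ i i1) y hy,
      fun k hk => reg _ _ (dphi_classFun S.mc hζ _ _) (hsF k hk) (fun χ => hF χ k hk) y hy⟩, ?_⟩
  · have h1 := card_oddReps S.mc
    rw [hR, Finset.card_erase_of_mem (one_mem_oddReps S.mc)]
    have := Finset.card_pos.2 ⟨1, one_mem_oddReps (q := q) S.mc⟩
    omega
  · intro i hi k hk
    have h1 := gram _ _ (cF i) (cF k) (dphi_classFun S.mc hζ _ _) (dphi_classFun S.mc hζ _ _)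
      (hsF i hi) (hsF k hk) (fun χ => hF χ i hi) fun χ => hF χ k hk
    rw [gram_odd S.mc hζ hk hi, Int.cast_inj] at h1
    rw [h1]
    exact if_congr eq_comm rfl rfl
  · intro i _ i1 k hk
    have h1 := gram _ _ (cF k) (cE i) (dphi_classFun S.mc hζ _ _) (dphi_classFun S.mc hζ _ _)
      (hsF k hk) (hsE i) (fun χ => hF χ k hk) fun χ => hE χ i i1
    rw [gram_mixed S.mc hζ (hRmem k hk).2, Int.cast_eq_zero] at h1
    rw [← h1]
    exact Finset.sum_congr rfl fun χ _ => mul_comm _ _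
  · intro χ hχ hne
    by_contra h0
    obtain h1 := (hpar χ hχ).2 (Nat.pos_of_ne_zero h0)
    rcases hlong χ hχ with e1 | e1 | e1
    · exact hne e1
    all_goals rw [e1] at h1; norm_num at h1
  · intro χ hχ h0
    exact (hpar χ hχ).1 (by rw [h0]; exact dvd_zero _)
  · intro χ hχ h0 h4 hodd
    obtain ⟨w, hw, hz⟩ := hdeg χ hχ
    obtain ⟨h2, hh2⟩ := four_dvd S.mc h4
    have hpos := (hpar χ hχ).1 (by rw [h0]; exact dvd_zero _)
    obtain ⟨k, hk⟩ : ∃ k, blockHeight 2 B (χ : G → ℂ) = k + 1 := ⟨_, (Nat.sub_add_cancel hpos).symm⟩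
    rcases k with _ | k
    · rw [hk]
    exfalso
    have hh2' : (h : ℤ) = 4 * (h2 : ℤ) := by exact_mod_cast hh2
    rw [h0, hk, hh2', pow_succ, pow_succ] at hz
    refine hodd ⟨2 ^ k * w - (h2 : ℤ) * ((m χ 0 : ℤ) + m χ 1), ?_⟩
    linarith
  · intro χ hχ hz0 hz1
    obtain ⟨w, hw, hz⟩ := hdeg χ hχ
    rw [hz0 (h / 2) (by omega) le_rfl, Finset.sum_eq_zero fun i hi => by
      rw [Finset.mem_Ico] at hi
      exact hz0 i (by omega) (by omega), Finset.sum_eq_zero fun k hk => hz1 k hk] at hz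
    simp only [add_zero, mul_zero] at hz
    obtain ⟨k, hk⟩ := S.mc.two_pow
    have hd : blockDefect 2 B = k + 2 := Nat.pow_right_injective le_rfl (by
      show 2 ^ blockDefect 2 B = 2 ^ (k + 2)
      rw [S.card, hk]; ring)
    have hge : k ≤ blockHeight 2 B (χ : G → ℂ) := by
      by_contra hlt
      refine hw ⟨2 ^ (k - blockHeight 2 B (χ : G → ℂ) - 1) * ((m χ 0 : ℤ) + m χ 1), ?_⟩
      refine mul_left_cancel₀ (pow_ne_zero (blockHeight 2 B (χ : G → ℂ)) (two_ne_zero : (2 : ℤ) ≠ 0)) ?_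
      rw [← hz, hk, Nat.cast_pow, Nat.cast_ofNat, ← mul_assoc, ← mul_assoc, ← pow_succ, ← pow_add]
      congr 2
      omega
    have hpos : 0 < blockHeight 2 B (χ : G → ℂ) :=
      (hpar χ hχ).1 (by rw [hz0 (h / 2) (by omega) le_rfl]; exact dvd_zero _)
    have h1 := height_add_two_le hM S.hB hχ hpos
    rw [show blockHeight 2 B (χ : G → ℂ) = k by omega, hk]
  · intro hJ χ
    refine ⟨fun hω k hk => ?_, fun hω i hi => ?_⟩
    · have h1 := inner_eq_zero_of_sign hM S hJ (χ := χ) (ω := 1) (ε := -1)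
        (fun g => by rw [hω, one_mul]) (dphi_classFun S.mc hζ k 1)
        (fun x => by
          rw [dphi_translate hM S hζ (by rw [(hRmem k hk).2]) x,
            (Nat.odd_iff.2 (hRmem k hk).2).neg_one_pow]) (by norm_num)
      rw [hF χ k hk] at h1
      exact_mod_cast h1
    · have h1 := inner_eq_zero_of_sign hM S hJ (χ := χ) (ω := -1) (ε := 1)
        (fun g => by rw [hω, neg_one_mul]) (dphi_classFun S.mc hζ (2 * i) 0)
        (fun x => by
          rw [dphi_translate hM S hζ (by omega) x, (even_two_mul i).neg_one_pow]) (by norm_num)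
      rw [hE χ i hi] at h1
      exact_mod_cast h1

end Cfsg.Agent.MaxClassBlock79
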