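import Mathlib
import Cfsg.Agent.Lib.MaxClassBlock79
import Cfsg.Agent.Lib.DihedralDefectShape79

/-!
# A 2-block with defect group of maximal class: the shape of the two families of columns
-/

set_option autoImplicit false
set_option linter.unusedSectionVars false

namespace Cfsg.Agent.MaxClassShape79

open Cfsg Cfsg.Agent.MaxClassBlock79 Cfsg.Agent.DihedralDefectShape79
open Cfsg.Agent.BlockContribBounds Cfsg.Agent.BlockContrib

attribute [local instance] Classical.propDecidable

section Pure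

variable {ι : Type*} [DecidableEq ι]

/-- Columns with norm two and mutual product one: a star. -/
structure IsStar (S : Finset ι) (R : Finset ℕ) (c : ℕ → ι → ℤ) (X : ι) (Y : ℕ → ι) (δ : ι → ℤ) :
    Prop where
  sgn : ∀ x, δ x = 1 ∨ δ x = -1
  ne : ∀ k ∈ R, Y k ≠ X
  inj : ∀ i ∈ R, ∀ k ∈ R, Y i = Y k → i = k
  center : X ∈ S
  leaf : ∀ k ∈ R, Y k ∈ S
  value : ∀ k ∈ R, ∀ x ∈ S, c k x = if x ∈ ({X, Y k} : Finset ι) then δ x else 0

theorem star (S : Finset ι) {R : Finset ℕ} (hR : R.Nonempty) (c : ℕ → ι → ℤ) (d : ι → ℂ)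
    (hd : ∀ x ∈ S, d x ≠ 0)
    (hgram : ∀ i ∈ R, ∀ k ∈ R, ∑ x ∈ S, c i x * c k x = if i = k then 2 else 1)
    (hreg : ∀ k ∈ R, ∑ x ∈ S, (c k x : ℂ) * d x = 0) :
    ∃ (X : ι) (Y : ℕ → ι) (δ : ι → ℤ), IsStar S R c X Y δ := by
  set T : ℕ → Finset ι := fun k => S.filter fun x => c k x ≠ 0 with hT
  have hpm : ∀ k ∈ R, ∀ x ∈ T k, c k x = 1 ∨ c k x = -1 := by
    intro k hk x hx
    rw [hT, Finset.mem_filter] at hx
    have h1 := hgram k hk k hk
    rw [if_pos rfl] at h1
    have h2 : c k x * c k x ≤ 2 := h1 ▸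
      Finset.single_le_sum (f := fun y => c k y * c k y) (fun y _ => mul_self_nonneg _) hx.1
    have : -1 ≤ c k x ∧ c k x ≤ 1 := ⟨by nlinarith, by nlinarith⟩
    omega
  have hcard : ∀ k ∈ R, (T k).card = 2 := by
    intro k hk
    have h1 := hgram k hk k hk
    rw [if_pos rfl, ← Finset.sum_subset (Finset.filter_subset (fun x => c k x ≠ 0) S)
      (fun x hx hn => by rw [not_not.1 fun h' => hn (Finset.mem_filter.2 ⟨hx, h'⟩), zero_mul]),
      Finset.sum_congr rfl (g := fun _ => (1 : ℤ)) fun x hx => by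
        rcases hpm k hk x hx with e | e <;> rw [e] <;> norm_num, Finset.sum_const, nsmul_one] at h1
    exact_mod_cast h1
  have hcap : ∀ i ∈ R, ∀ k ∈ R, i ≠ k →
      ∃ z, T i ∩ T k = {z} ∧ c i z = c k z := by
    intro i hi k hk hne
    have h1 := hgram i hi k hk
    rw [if_neg hne, ← Finset.sum_subset (show T i ∩ T k ⊆ S from fun x hx =>
      (Finset.mem_filter.1 (Finset.mem_inter.1 hx).1).1) fun x hx hn => by
        by_cases hxi : c i x = 0
        · rw [hxi, zero_mul]
        · rw [not_not.1 fun h' => hn (Finset.mem_inter.2 ⟨Finset.mem_filter.2 ⟨hx, hxi⟩,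
            Finset.mem_filter.2 ⟨hx, h'⟩⟩), mul_zero]] at h1
    have hle : (T i ∩ T k).card ≤ 2 :=
      le_trans (Finset.card_le_card Finset.inter_subset_left) (hcard i hi).le
    have hp : ∀ x ∈ T i ∩ T k, (2 : ℤ) ∣ c i x * c k x - 1 := by
      intro x hx
      rw [Finset.mem_inter] at hx
      rcases hpm i hi x hx.1 with e | e <;> rcases hpm k hk x hx.2 with e' | e' <;>
        rw [e, e'] <;> norm_num
    have h2 : (2 : ℤ) ∣ 1 - ((T i ∩ T k).card : ℤ) := by
      have := Finset.dvd_sum hp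
      rwa [Finset.sum_sub_distrib, h1, Finset.sum_const, nsmul_one] at this
    have h3 : (T i ∩ T k).card = 1 := by omega
    obtain ⟨z, hz⟩ := Finset.card_eq_one.1 h3
    refine ⟨z, hz, ?_⟩
    rw [hz, Finset.sum_singleton] at h1
    have hzm : z ∈ T i ∩ T k := hz ▸ Finset.mem_singleton_self z
    rw [Finset.mem_inter] at hzm
    rcases hpm i hi z hzm.1 with e | e <;> rcases hpm k hk z hzm.2 with e' | e' <;>
      rw [e, e'] at h1 ⊢ <;> norm_num at h1
  -- a common point
  obtain ⟨k₀, hk₀⟩ := hR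
  obtain ⟨X, hX⟩ : ∃ X, ∀ k ∈ R, X ∈ T k := by
    by_cases hex : ∃ k₁ ∈ R, k₁ ≠ k₀
    · obtain ⟨k₁, hk₁, hne⟩ := hex
      obtain ⟨X, hX, hXe⟩ := hcap k₀ hk₀ k₁ hk₁ hne.symm
      have hX0 : X ∈ T k₀ ∧ X ∈ T k₁ := Finset.mem_inter.1 (hX ▸ Finset.mem_singleton_self X)
      refine ⟨X, fun k hk => ?_⟩
      by_contra hXk
      have hk0 : k₀ ≠ k := fun e => hXk (e ▸ hX0.1)
      have hk1 : k₁ ≠ k := fun e => hXk (e ▸ hX0.2)
      obtain ⟨A, hA, hAe⟩ := hcap k₀ hk₀ k hk hk0
      obtain ⟨B, hB, hBe⟩ := hcap k₁ hk₁ k hk hk1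
      have hA0 : A ∈ T k₀ ∧ A ∈ T k := Finset.mem_inter.1 (hA ▸ Finset.mem_singleton_self A)
      have hB0 : B ∈ T k₁ ∧ B ∈ T k := Finset.mem_inter.1 (hB ▸ Finset.mem_singleton_self B)
      have hXA : X ≠ A := fun e => hXk (e ▸ hA0.2)
      have hXB : X ≠ B := fun e => hXk (e ▸ hB0.2)
      have hAB : A ≠ B := fun e => hXA (Finset.mem_singleton.1
        (hX ▸ Finset.mem_inter.2 ⟨hA0.1, e ▸ hB0.1⟩)).symm
      have hT2 : ∀ l ∈ R, ∀ a c', a ≠ c' → a ∈ T l → c' ∈ T l →
          (c l a : ℂ) * d a + (c l c' : ℂ) * d c' = 0 := by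
        intro l hl a c' hne' ha hc'
        have he : T l = {a, c'} := (Finset.eq_of_subset_of_card_le (by
          intro x hx
          rcases Finset.mem_insert.1 hx with rfl | hx
          · exact ha
          · exact Finset.mem_singleton.1 hx ▸ hc') (by rw [hcard l hl, Finset.card_pair hne'])).symm
        have h1 := hreg l hl
        rw [← Finset.sum_subset (Finset.filter_subset (fun x => c l x ≠ 0) S) (fun x hx hn => by
          rw [not_not.1 fun h' => hn (Finset.mem_filter.2 ⟨hx, h'⟩), Int.cast_zero, zero_mul])] at h1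
        rw [show S.filter (fun x => c l x ≠ 0) = {a, c'} from he, Finset.sum_pair hne'] at h1
        exact h1
      have e0 := hT2 k₀ hk₀ X A hXA hX0.1 hA0.1
      have e1 := hT2 k₁ hk₁ X B hXB hX0.2 hB0.1
      have e2 := hT2 k hk A B hAB hA0.2 hB0.2
      rw [hXe, hAe] at e0
      rw [hBe] at e1
      have h0 : (c k₁ X : ℂ) * d X = 0 := by linear_combination (e0 + e1 - e2) / 2
      rcases mul_eq_zero.1 h0 with e | e
      · exact (Finset.mem_filter.1 hX0.2).2 (by exact_mod_cast e)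
      · exact hd X (Finset.mem_filter.1 hX0.2).1 e
    · obtain ⟨X, hX⟩ := Finset.card_pos.1 (show 0 < (T k₀).card by rw [hcard k₀ hk₀]; norm_num)
      push Not at hex
      exact ⟨X, fun k hk => hex k hk ▸ hX⟩
  have hchoice : ∀ k, ∃ Y, k ∈ R → Y ≠ X ∧ T k = {X, Y} := fun k => by
    by_cases hk : k ∈ R
    · obtain ⟨Y, hY⟩ := Finset.card_eq_one.1 (show ((T k).erase X).card = 1 by
        rw [Finset.card_erase_of_mem (hX k hk), hcard k hk])
      refine ⟨Y, fun _ => ⟨(Finset.mem_erase.1 (hY ▸ Finset.mem_singleton_self Y)).1, ?_⟩⟩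
      rw [← Finset.insert_erase (hX k hk), hY]
    · exact ⟨X, fun h' => absurd h' hk⟩
  choose Y hY using hchoice
  have hYT : ∀ k ∈ R, Y k ∈ T k := fun k hk => by rw [(hY k hk).2]; simp
  have hconst : ∀ i ∈ R, ∀ k ∈ R, ∀ x, x ∈ T i → x ∈ T k → c i x = c k x := by
    intro i hi k hk x hxi hxk
    by_cases hik : i = k
    · rw [hik]
    obtain ⟨z, hz, hze⟩ := hcap i hi k hk hik
    have hxz : x ∈ T i ∩ T k := Finset.mem_inter.2 ⟨hxi, hxk⟩
    rw [hz, Finset.mem_singleton] at hxz
    rw [hxz]; exact hze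
  refine ⟨X, Y, fun x => if hx : ∃ k ∈ R, x ∈ T k then c hx.choose x else 1, fun x => ?_,
    fun k hk => (hY k hk).1, fun i hi k hk e => ?_, (Finset.mem_filter.1 (hX k₀ hk₀)).1,
    fun k hk => (Finset.mem_filter.1 (hYT k hk)).1, fun k hk x hx => ?_⟩
  · beta_reduce
    split_ifs with hx
    · exact hpm _ hx.choose_spec.1 x hx.choose_spec.2
    · exact Or.inl rfl
  · by_contra hne
    obtain ⟨z, hz, -⟩ := hcap i hi k hk hne
    have h1 : X = z := Finset.mem_singleton.1 (hz ▸ Finset.mem_inter.2 ⟨hX i hi, hX k hk⟩)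
    have h2 : Y i = z := Finset.mem_singleton.1 (hz ▸ Finset.mem_inter.2 ⟨hYT i hi, e ▸ hYT k hk⟩)
    exact (hY i hi).1 (h2.trans h1.symm)
  · beta_reduce
    split_ifs with hm hex
    · exact hconst k hk _ hex.choose_spec.1 x ((hY k hk).2 ▸ hm) hex.choose_spec.2
    · exact absurd ⟨k, hk, (hY k hk).2 ▸ hm⟩ hex
    all_goals
      exact not_not.1 fun h' => hm ((hY k hk).2 ▸ Finset.mem_filter.2 ⟨hx, h'⟩)

/-- A column of norm two orthogonal to the standard configuration avoids it, or is one of two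
differences inside it. -/
theorem overlap {S : Finset ι} {c : ℕ → ι → ℤ} {h : ℕ} {A B C D : ι} {L : ℕ → ι} {ε : ι → ℤ}
    (hstd : IsStd S c h A B C D L ε) (hh : 1 < h) (v : ι → ℤ)
    (hv : ∀ x ∈ S, v x = 0 ∨ v x = 1 ∨ v x = -1) (hnorm : ∑ x ∈ S, v x * v x ≤ 2)
    (horth : ∀ j, 0 < j → j ≤ h → ∑ x ∈ S, c j x * v x = 0) :
    (∀ x ∈ S, v x = 0) ∨
      (v A * ε A + v B * ε B = 0 ∧ v A ≠ 0 ∧ ∀ x ∈ S, x ≠ A → x ≠ B → v x = 0) ∨
      (v C * ε C + v D * ε D = 0 ∧ v C ≠ 0 ∧ ∀ x ∈ S, x ≠ C → x ≠ D → v x = 0) := by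
  obtain ⟨hAC, hAD⟩ := hstd.hKW A (by simp)
  obtain ⟨hBC, hBD⟩ := hstd.hKW B (by simp)
  have hW : ({A, B, C, D} : Finset ι) ⊆ S := fun x hx => (hstd.mem x).2 (Or.inl hx)
  set f : ι → ℤ := fun x => v x * ε x with hf
  have hf0 : ∀ x ∈ S, f x = 0 → v x = 0 := fun x _ e => by
    rcases hstd.sgn x with e1 | e1 <;> simp only [hf, e1] at e <;> omega
  have hfv : ∀ x ∈ S, f x = 0 ∨ f x = 1 ∨ f x = -1 := fun x hx => by
    rcases hv x hx with e | e | e <;> rcases hstd.sgn x with e1 | e1 <;> simp [hf, e, e1]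
  have hlong : f A + f B + f C + f D = 0 := by
    have h1 := horth h (by omega) le_rfl
    rw [← Finset.sum_subset hW fun x hx hn => by rw [hstd.long x hx, if_neg hn, zero_mul]] at h1
    rw [Finset.sum_congr rfl (g := f) fun x hx => by
      rw [hstd.long x (hW hx), if_pos hx]; exact mul_comm _ _] at h1
    rw [Finset.sum_insert (by simp [hstd.hAB, hAC, hAD]), Finset.sum_insert (by simp [hBC, hBD]),
      Finset.sum_pair hstd.hCD] at h1
    linarith
  have hL : ∀ j, 0 < j → j < h → f (L j) + f A + f B = 0 := by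
    intro j j0 j1
    have ho := hstd.out j j0 j1
    simp only [Finset.mem_insert, Finset.mem_singleton, not_or] at ho
    have hsub : ({L j, A, B} : Finset ι) ⊆ S := fun x hx => by
      simp only [Finset.mem_insert, Finset.mem_singleton] at hx
      rcases hx with rfl | rfl | rfl
      · exact (hstd.mem _).2 (Or.inr ⟨j, j0, j1, rfl⟩)
      · exact hW (by simp)
      · exact hW (by simp)
    have h1 := horth j j0 j1.le
    rw [← Finset.sum_subset hsub fun x hx hn => by rw [hstd.short j j0 j1 x hx, if_neg hn, zero_mul],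
      Finset.sum_congr rfl (g := f) fun x hx => by
        rw [hstd.short j j0 j1 x (hsub hx), if_pos hx]; exact mul_comm _ _] at h1
    rw [Finset.sum_insert (by simp [ho.1, ho.2.1]), Finset.sum_pair hstd.hAB] at h1
    linarith
  have hbound : ∀ U : Finset ι, U ⊆ S → ∑ x ∈ U, f x * f x ≤ 2 := by
    intro U hU
    refine le_trans (le_of_eq ?_) (le_trans (Finset.sum_le_sum_of_subset_of_nonneg hU
      fun x _ _ => mul_self_nonneg (v x)) hnorm)
    exact Finset.sum_congr rfl fun x _ => by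
      rcases hstd.sgn x with e | e <;> simp only [hf, e] <;> ring
  have hA := hfv A (hW (by simp))
  have hB := hfv B (hW (by simp))
  have hC := hfv C (hW (by simp))
  have hD := hfv D (hW (by simp))
  have h4 : f A * f A + f B * f B + f C * f C + f D * f D ≤ 2 := by
    have := hbound _ hW
    rw [Finset.sum_insert (by simp [hstd.hAB, hAC, hAD]), Finset.sum_insert (by simp [hBC, hBD]),
      Finset.sum_pair hstd.hCD] at this
    linarith
  have hL0 : ∀ j, 0 < j → j < h → f (L j) = 0 := by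
    intro j j0 j1
    by_contra hne
    have e := hL j j0 j1
    have ho := hstd.out j j0 j1
    have h5 := hbound (insert (L j) {A, B, C, D}) (by
      intro x hx
      rcases Finset.mem_insert.1 hx with rfl | hx
      · exact (hstd.mem _).2 (Or.inr ⟨j, j0, j1, rfl⟩)
      · exact hW hx)
    rw [Finset.sum_insert ho, Finset.sum_insert (by simp [hstd.hAB, hAC, hAD]),
      Finset.sum_insert (by simp [hBC, hBD]), Finset.sum_pair hstd.hCD] at h5
    have hLj := hfv (L j) ((hstd.mem _).2 (Or.inr ⟨j, j0, j1, rfl⟩))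
    rcases hLj with e1 | e1 | e1
    · exact hne e1
    all_goals
      rcases hA with a | a | a <;> rcases hB with b | b | b <;> rcases hC with c' | c' | c' <;>
        rw [e1, a, b, c'] at h5 <;> rw [a, b, c'] at hlong <;> rw [e1, a, b] at e <;>
          rcases hD with d | d | d <;> rw [d] at h5 hlong <;> omega
  have hAB : f A + f B = 0 := by
    have := hL 1 one_pos hh
    rw [hL0 1 one_pos hh] at this
    linarith
  -- the leaves vanish
  have houter : ∀ x ∈ S, x ≠ A → x ≠ B → x ≠ C → x ≠ D → v x = 0 := by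
    intro x hx a b c' d
    obtain ⟨j, j0, j1, rfl⟩ := ((hstd.mem x).1 hx).resolve_left (by simp [a, b, c', d])
    exact hf0 _ hx (hL0 j j0 j1)
  by_cases hA0 : f A = 0
  · have hB0 : f B = 0 := by linarith
    by_cases hC0 : f C = 0
    · left
      intro x hx
      have hD0 : f D = 0 := by linarith
      by_cases a : x = A
      · exact a ▸ hf0 A (hW (by simp)) hA0
      by_cases b : x = B
      · exact b ▸ hf0 B (hW (by simp)) hB0
      by_cases c' : x = C
      · exact c' ▸ hf0 C (hW (by simp)) hC0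
      by_cases d : x = D
      · exact d ▸ hf0 D (hW (by simp)) hD0
      exact houter x hx a b c' d
    · refine Or.inr (Or.inr ⟨by simp only [hf] at hlong hA0 hB0 ⊢; linarith,
        fun e => hC0 (by simp [hf, e]), fun x hx c' d => ?_⟩)
      by_cases a : x = A
      · exact a ▸ hf0 A (hW (by simp)) hA0
      by_cases b : x = B
      · exact b ▸ hf0 B (hW (by simp)) hB0
      exact houter x hx a b c' d
  · have hCD : f C = 0 ∧ f D = 0 := by
      rcases hA with a | a | a
      · exact absurd a hA0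
      all_goals
        rcases hB with b | b | b <;> rcases hC with c' | c' | c' <;> rcases hD with d | d | d <;>
          rw [a, b, c', d] at h4 hlong <;> rw [a, b] at hAB <;> omega
    refine Or.inr (Or.inl ⟨by simpa [hf] using hAB, fun e => hA0 (by simp [hf, e]),
      fun x hx a b => ?_⟩)
    by_cases c' : x = C
    · exact c' ▸ hf0 C (hW (by simp)) hCD.1
    by_cases d : x = D
    · exact d ▸ hf0 D (hW (by simp)) hCD.2
    exact houter x hx a b c' d

end Pure

end Cfsg.Agent.MaxClassShape79
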