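import Mathlib
import Cfsg.Agent.Lib.MaxClassShape79

/-!
# A 2-block with defect group of maximal class: configurations, counts and rows
-/

set_option autoImplicit false
set_option linter.unusedSectionVars false

open scoped ComplexConjugate

namespace Cfsg.Agent.MaxClassCounts79

open Cfsg Cfsg.Agent.MaxClassBlock79 Cfsg.Agent.MaxClassShape79 Cfsg.Agent.DihedralDefectShape79
open Cfsg.Agent.BlockContribBounds Cfsg.Agent.BlockContrib

attribute [local instance] Classical.propDecidable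

universe u

variable {G : Type u} [Group G] [Fintype G] {M : Ideal AlgInt} {B : Set (IrrCharacter G)} {h : ℕ}
  {R : Finset ℕ} {cE cF : ℕ → IrrCharacter G → ℤ}

/-- The members met by the even columns. -/
noncomputable def suppE (B : Set (IrrCharacter G)) (h : ℕ) (cE : ℕ → IrrCharacter G → ℤ) :
    Finset (IrrCharacter G) :=
  (members B).filter fun χ => ∃ i, 0 < i ∧ i ≤ h / 2 ∧ cE i χ ≠ 0

/-- The members met by the odd columns. -/
noncomputable def suppF (B : Set (IrrCharacter G)) (R : Finset ℕ)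
    (cF : ℕ → IrrCharacter G → ℤ) : Finset (IrrCharacter G) :=
  (members B).filter fun χ => ∃ k ∈ R, cF k χ ≠ 0

/-- The members met by no column. -/
noncomputable def extras (B : Set (IrrCharacter G)) (h : ℕ) (R : Finset ℕ)
    (cE cF : ℕ → IrrCharacter G → ℤ) : Finset (IrrCharacter G) :=
  members B \ (suppE B h cE ∪ suppF B R cF)

variable (C : Cols M B h R cE cF)
include C

theorem suppE_subset : suppE B h cE ⊆ members B := Finset.filter_subset _ _

theorem suppF_subset : suppF B R cF ⊆ members B := Finset.filter_subset _ _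

theorem cE_eq_zero {χ : IrrCharacter G} (hχ : χ ∈ members B) (hn : χ ∉ suppE B h cE) {i : ℕ}
    (i0 : 0 < i) (i1 : i ≤ h / 2) : cE i χ = 0 :=
  not_not.1 fun h' => hn (Finset.mem_filter.2 ⟨hχ, i, i0, i1, h'⟩)

theorem cF_eq_zero {χ : IrrCharacter G} (hχ : χ ∈ members B) (hn : χ ∉ suppF B R cF) {k : ℕ}
    (hk : k ∈ R) : cF k χ = 0 :=
  not_not.1 fun h' => hn (Finset.mem_filter.2 ⟨hχ, k, hk, h'⟩)

theorem sum_suppE (f : IrrCharacter G → ℤ) {i : ℕ} (i0 : 0 < i) (i1 : i ≤ h / 2) :
    ∑ χ ∈ suppE B h cE, cE i χ * f χ = ∑ χ ∈ members B, cE i χ * f χ :=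
  Finset.sum_subset (suppE_subset C) fun χ hχ hn => by rw [cE_eq_zero C hχ hn i0 i1, zero_mul]

theorem sum_suppF (f : IrrCharacter G → ℤ) {k : ℕ} (hk : k ∈ R) :
    ∑ χ ∈ suppF B R cF, cF k χ * f χ = ∑ χ ∈ members B, cF k χ * f χ :=
  Finset.sum_subset (suppF_subset C) fun χ hχ hn => by rw [cF_eq_zero C hχ hn hk, zero_mul]

theorem hpos : 0 < h / 2 := by have := C.two_le; omega

theorem half_cases : h / 2 = 1 ∨ h / 2 = 2 ∨ h / 2 = 4 ∨ 8 ≤ h / 2 := by
  obtain ⟨k, hk⟩ := C.two_pow
  have := C.two_le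
  rcases k with _ | _ | _ | _ | k
  · rw [pow_zero] at hk; omega
  all_goals simp only [pow_succ, pow_zero, one_mul] at hk
  · omega
  · omega
  · omega
  · have := Nat.one_le_two_pow (n := k)
    omega

/-- Exactly four members have height zero. -/
theorem card_height_zero :
    ((members B).filter fun χ : IrrCharacter G => blockHeight 2 B (χ : G → ℂ) = 0).card = 4 := by
  have hpos := hpos C
  have h1 := C.gramE (h / 2) (h / 2) hpos le_rfl hpos le_rfl
  rw [if_pos rfl, if_pos rfl, ← Finset.sum_filter_of_ne (p := fun χ => cE (h / 2) χ ≠ 0)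
    (fun χ _ hne => left_ne_zero_of_mul hne), Finset.sum_congr rfl (g := fun _ => (1 : ℤ))
    fun χ hχ => by
      obtain ⟨hχB, hne⟩ := Finset.mem_filter.1 hχ
      rcases (C.long χ (mem_members.1 hχB)).resolve_left hne with e | e <;> rw [e] <;> norm_num,
    Finset.sum_const, nsmul_one] at h1
  rw [← Int.ofNat_inj]
  push_cast
  rw [← h1]
  norm_cast
  refine congrArg Finset.card (Finset.filter_congr fun χ hχ =>
    ⟨fun h0 hz => ?_, C.ht0 χ (mem_members.1 hχ)⟩)
  have := C.htpos χ (mem_members.1 hχ) hz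
  omega

/-- The shape of the even columns. -/
theorem shapeE :
    (∃ (A B' C' D : IrrCharacter G) (L : ℕ → IrrCharacter G) (ε : IrrCharacter G → ℤ),
      IsStd (suppE B h cE) cE (h / 2) A B' C' D L ε) ∨
      (h / 2 = 4 ∧ (IsExc (suppE B h cE) cE patA ∨ IsExc (suppE B h cE) cE patB)) :=
  shape_cases _ cE (half_cases C)
    (fun i k i0 i1 k0 k1 => by rw [sum_suppE C (cE k) i0 i1, C.gramE i k i0 i1 k0 k1])
    (fun χ hχ => C.long χ (mem_members.1 (suppE_subset C hχ)))
    fun χ hχ => (Finset.mem_filter.1 hχ).2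

/-- The shape of the odd columns. -/
theorem shapeF (hR : R.Nonempty) :
    ∃ (X : IrrCharacter G) (Y : ℕ → IrrCharacter G) (δ : IrrCharacter G → ℤ),
      IsStar (suppF B R cF) R cF X Y δ := by
  refine star (suppF B R cF) hR cF (fun χ => (χ : G → ℂ) 1)
    (fun χ _ => BlockTheoryCentre.irr_one_ne_zero χ)
    (fun i hi k hk => by rw [sum_suppF C (cF k) hi, C.gramF i hi k hk]) fun k hk => ?_
  rw [← C.regF k hk 1 (by rw [orderOf_one]; omega)]
  exact Finset.sum_subset (suppF_subset C) fun χ hχ hn => by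
    rw [cF_eq_zero C hχ hn hk, Int.cast_zero, zero_mul]

theorem card_suppF (hR : R.Nonempty) : (suppF B R cF).card = R.card + 1 := by
  obtain ⟨X, Y, δ, hs⟩ := shapeF C hR
  have he : suppF B R cF = insert X (R.image Y) := by
    ext χ
    constructor
    · intro hχ
      obtain ⟨-, k, hk, hne⟩ := Finset.mem_filter.1 hχ
      rw [hs.value k hk χ hχ] at hne
      have hm : χ ∈ ({X, Y k} : Finset (IrrCharacter G)) := by_contra fun hm => hne (if_neg hm)
      rcases Finset.mem_insert.1 hm with rfl | hm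
      · exact Finset.mem_insert_self _ _
      · rw [Finset.mem_singleton.1 hm]
        exact Finset.mem_insert_of_mem (Finset.mem_image_of_mem _ hk)
    · intro hχ
      rcases Finset.mem_insert.1 hχ with rfl | hχ
      · exact hs.center
      · obtain ⟨k, hk, rfl⟩ := Finset.mem_image.1 hχ
        exact hs.leaf k hk
  rw [he, Finset.card_insert_of_notMem, Finset.card_image_of_injOn fun i hi k hk e =>
    hs.inj i hi k hk e]
  exact fun hm => by
    obtain ⟨k, hk, e⟩ := Finset.mem_image.1 hm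
    exact hs.ne k hk e

theorem R_nonempty_iff : R.Nonempty ↔ 4 ≤ h := by
  have := C.cardR
  obtain ⟨k, hk⟩ := even_iff_exists_two_mul.1 (show Even h from ⟨R.card + 1, by omega⟩)
  rw [← Finset.card_pos]
  omega

theorem vanish_entries {k : ℕ} (hk : k ∈ R) :
    (∀ χ ∈ members B, cF k χ = 0 ∨ cF k χ = 1 ∨ cF k χ = -1) ∧
      ∑ χ ∈ suppE B h cE, cF k χ * cF k χ ≤ 2 ∧
      ∀ i, 0 < i → i ≤ h / 2 → ∑ χ ∈ suppE B h cE, cE i χ * cF k χ = 0 := by
  have h2 := C.gramF k hk k hk
  rw [if_pos rfl] at h2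
  refine ⟨fun χ hχ => ?_, ?_, fun i i0 i1 => ?_⟩
  · have h1 : cF k χ * cF k χ ≤ 2 := h2 ▸
      Finset.single_le_sum (f := fun y => cF k y * cF k y) (fun y _ => mul_self_nonneg _) hχ
    have : -1 ≤ cF k χ ∧ cF k χ ≤ 1 := ⟨by nlinarith, by nlinarith⟩
    omega
  · rw [← h2]
    exact Finset.sum_le_sum_of_subset_of_nonneg (suppE_subset C) fun _ _ _ => mul_self_nonneg _
  · rw [sum_suppE C (cF k) i0 i1, C.gramEF i i0 i1 k hk]

/-- In the standard configuration the two families are disjoint, or `h = 4`. -/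
theorem disjoint_or {A B' C' D : IrrCharacter G} {L : ℕ → IrrCharacter G} {ε : IrrCharacter G → ℤ}
    (hstd : IsStd (suppE B h cE) cE (h / 2) A B' C' D L ε) :
    Disjoint (suppE B h cE) (suppF B R cF) ∨
      (h = 4 ∧ suppF B R cF ⊆ suppE B h cE ∧ ∀ k ∈ R,
        (cF k A * ε A + cF k B' * ε B' = 0 ∧ cF k A ≠ 0) ∨
        (cF k C' * ε C' + cF k D * ε D = 0 ∧ cF k C' ≠ 0)) := by
  by_cases hd : Disjoint (suppE B h cE) (suppF B R cF)
  · exact Or.inl hd
  right
  obtain ⟨χ, hχE, hχF⟩ := Finset.not_disjoint_iff.1 hd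
  obtain ⟨-, k₀, hk₀, hne⟩ := Finset.mem_filter.1 hχF
  have h4 : 4 ≤ h := (R_nonempty_iff C).1 ⟨k₀, hk₀⟩
  have hhalf : 1 < h / 2 := by omega
  have hov : ∀ k ∈ R, (∀ x ∈ suppE B h cE, cF k x = 0) ∨
      (cF k A * ε A + cF k B' * ε B' = 0 ∧ cF k A ≠ 0 ∧
        ∀ x ∈ suppE B h cE, x ≠ A → x ≠ B' → cF k x = 0) ∨
      (cF k C' * ε C' + cF k D * ε D = 0 ∧ cF k C' ≠ 0 ∧
        ∀ x ∈ suppE B h cE, x ≠ C' → x ≠ D → cF k x = 0) := by
    intro k hk
    obtain ⟨h1, h2, h3⟩ := vanish_entries C hk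
    exact overlap hstd hhalf (cF k) (fun x hx => h1 x (suppE_subset C hx)) h2 h3
  -- an overlapping column has both entries among the four points
  have hW : ∀ x ∈ ({A, B', C', D} : Finset (IrrCharacter G)), x ∈ suppE B h cE := fun x hx =>
    (hstd.mem x).2 (Or.inl hx)
  have hpair : ∀ k ∈ R, ∀ U V, U ∈ suppE B h cE → V ∈ suppE B h cE → U ≠ V →
      cF k U * ε U + cF k V * ε V = 0 → cF k U ≠ 0 →
        ∀ x ∈ members B, x ≠ U → x ≠ V → cF k x = 0 := by
    intro k hk U V hU hV hUV e eU x hx xU xV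
    have h2 := C.gramF k hk k hk
    rw [if_pos rfl] at h2
    by_contra hx0
    have hV0 : cF k V ≠ 0 := fun e0 => eU (by
      rw [e0, zero_mul, add_zero] at e
      rcases hstd.sgn U with e1 | e1 <;> rw [e1] at e <;> omega)
    have hsum : ∑ y ∈ ({x, U, V} : Finset (IrrCharacter G)), cF k y * cF k y ≤ 2 := by
      rw [← h2]
      refine Finset.sum_le_sum_of_subset_of_nonneg (fun y hy => ?_) fun _ _ _ => mul_self_nonneg _
      simp only [Finset.mem_insert, Finset.mem_singleton] at hy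
      rcases hy with rfl | rfl | rfl
      exacts [hx, suppE_subset C hU, suppE_subset C hV]
    rw [Finset.sum_insert (by simp [xU, xV]), Finset.sum_pair hUV] at hsum
    have a1 := mul_self_pos.2 hx0
    have a2 := mul_self_pos.2 eU
    have a3 := mul_self_pos.2 hV0
    omega
  have hsub : ∀ k ∈ R, (∃ x ∈ suppE B h cE, cF k x ≠ 0) →
      ∀ x ∈ members B, x ∉ suppE B h cE → cF k x = 0 := by
    intro k hk hex x hx hxn
    rcases hov k hk with h0 | ⟨e, eA, -⟩ | ⟨e, eC, -⟩
    · obtain ⟨y, hy, hy0⟩ := hex; exact absurd (h0 y hy) hy0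
    · exact hpair k hk A B' (hW A (by simp)) (hW B' (by simp)) hstd.hAB e eA x hx
        (fun e' => hxn (e' ▸ hW A (by simp))) (fun e' => hxn (e' ▸ hW B' (by simp)))
    · exact hpair k hk C' D (hW C' (by simp)) (hW D (by simp)) hstd.hCD e eC x hx
        (fun e' => hxn (e' ▸ hW C' (by simp))) (fun e' => hxn (e' ▸ hW D (by simp)))
  -- only one odd column
  have hone : ∀ k ∈ R, k = k₀ := by
    intro k hk
    by_contra hkne
    have h1 := C.gramF k hk k₀ hk₀
    rw [if_neg hkne] at h1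
    have hE0 := hsub k₀ hk₀ ⟨χ, hχE, hne⟩
    rw [← Finset.sum_subset (suppE_subset C) fun x hx hn => by rw [hE0 x hx hn, mul_zero]] at h1
    obtain ⟨hE1, -, -⟩ := vanish_entries C hk
    obtain ⟨hE2, -, -⟩ := vanish_entries C hk₀
    have hsum2 : ∀ U V (w : IrrCharacter G → ℤ), U ∈ suppE B h cE → V ∈ suppE B h cE → U ≠ V →
        (∀ x ∈ suppE B h cE, x ≠ U → x ≠ V → w x = 0) →
        ∑ x ∈ suppE B h cE, w x = w U + w V := by
      intro U V w hU hV hUV hw
      rw [← Finset.sum_subset (show ({U, V} : Finset (IrrCharacter G)) ⊆ suppE B h cE by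
        intro x hx
        rcases Finset.mem_insert.1 hx with rfl | hx
        · exact hU
        · rwa [Finset.mem_singleton.1 hx]) fun x hx hn => hw x hx (fun e => hn (by simp [e]))
          (fun e => hn (by simp [e])), Finset.sum_pair hUV]
    obtain ⟨hAC, hAD⟩ := hstd.hKW A (by simp)
    obtain ⟨hBC, hBD⟩ := hstd.hKW B' (by simp)
    rcases hov k hk with h0 | ⟨e, eU, hz⟩ | ⟨e, eU, hz⟩
    · rw [Finset.sum_eq_zero fun x hx => by rw [h0 x hx, zero_mul]] at h1
      exact zero_ne_one h1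
    · rw [hsum2 A B' _ (hW A (by simp)) (hW B' (by simp)) hstd.hAB fun x hx a b => by
        rw [hz x hx a b, zero_mul]] at h1
      rcases hov k₀ hk₀ with h0' | ⟨e', eU', hz'⟩ | ⟨e', eU', hz'⟩
      · exact hne (h0' χ hχE)
      · rcases hE1 A (suppE_subset C (hW A (by simp))) with a | a | a <;>
          rcases hE2 A (suppE_subset C (hW A (by simp))) with a' | a' | a' <;>
          rcases hstd.sgn A with s1 | s1 <;> rcases hstd.sgn B' with s2 | s2 <;>
          rw [a, s1, s2] at e <;> rw [a', s1, s2] at e' <;> rw [a, a'] at h1 <;>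
          first
            | exact eU a
            | exact eU' a'
            | (rcases hE1 B' (suppE_subset C (hW B' (by simp))) with c1 | c1 | c1 <;>
                rcases hE2 B' (suppE_subset C (hW B' (by simp))) with c2 | c2 | c2 <;>
                rw [c1] at e <;> rw [c2] at e' <;> rw [c1, c2] at h1 <;> omega)
      · rw [hz' A (hW A (by simp)) hAC hAD, hz' B' (hW B' (by simp)) hBC hBD] at h1
        simp at h1
    · rw [hsum2 C' D _ (hW C' (by simp)) (hW D (by simp)) hstd.hCD fun x hx a b => by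
        rw [hz x hx a b, zero_mul]] at h1
      rcases hov k₀ hk₀ with h0' | ⟨e', eU', hz'⟩ | ⟨e', eU', hz'⟩
      · exact hne (h0' χ hχE)
      · rw [hz' C' (hW C' (by simp)) hAC.symm hBC.symm, hz' D (hW D (by simp)) hAD.symm hBD.symm]
          at h1
        simp at h1
      · rcases hE1 C' (suppE_subset C (hW C' (by simp))) with a | a | a <;>
          rcases hE2 C' (suppE_subset C (hW C' (by simp))) with a' | a' | a' <;>
          rcases hstd.sgn C' with s1 | s1 <;> rcases hstd.sgn D with s2 | s2 <;>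
          rw [a, s1, s2] at e <;> rw [a', s1, s2] at e' <;> rw [a, a'] at h1 <;>
          first
            | exact eU a
            | exact eU' a'
            | (rcases hE1 D (suppE_subset C (hW D (by simp))) with c1 | c1 | c1 <;>
                rcases hE2 D (suppE_subset C (hW D (by simp))) with c2 | c2 | c2 <;>
                rw [c1] at e <;> rw [c2] at e' <;> rw [c1, c2] at h1 <;> omega)
  refine ⟨?_, fun x hx => ?_, fun k hk => ?_⟩
  · have h1 : R.card ≤ 1 := Finset.card_le_one.2 fun a ha b hb => (hone a ha).trans (hone b hb).symm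
    have := C.cardR
    omega
  · obtain ⟨hxB, k, hk, hk0⟩ := Finset.mem_filter.1 hx
    by_contra hxn
    rw [hone k hk] at hk0
    exact hk0 (hsub k₀ hk₀ ⟨χ, hχE, hne⟩ x hxB hxn)
  · rw [hone k hk]
    rcases hov k₀ hk₀ with h0 | ⟨e, eA, -⟩ | ⟨e, eC, -⟩
    · exact absurd (h0 χ hχE) hne
    · exact Or.inl ⟨e, eA⟩
    · exact Or.inr ⟨e, eC⟩

/-- In the exceptional configurations the two families are disjoint. -/
theorem disjoint_exc (h8 : h / 2 = 4)
    (hexc : IsExc (suppE B h cE) cE patA ∨ IsExc (suppE B h cE) cE patB) :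
    Disjoint (suppE B h cE) (suppF B R cF) ∧ (suppE B h cE).card = 5 := by
  obtain ⟨pat, hpat, e, ε, he, hmem, hε, hval⟩ :
      ∃ pat, (pat = patA ∨ pat = patB) ∧ ∃ (e : Fin 5 → IrrCharacter G) (ε : Fin 5 → ℤ),
        Function.Injective e ∧ (∀ x, x ∈ suppE B h cE ↔ ∃ i, e i = x) ∧
        (∀ i, ε i = 1 ∨ ε i = -1) ∧ ∀ (k : Fin 4) (i : Fin 5),
          cE ((k : ℕ) + 1) (e i) = ε i * pat k i := by
    rcases hexc with h1 | h1
    · exact ⟨patA, Or.inl rfl, h1⟩
    · exact ⟨patB, Or.inr rfl, h1⟩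
  have himg : suppE B h cE = Finset.univ.image e := by
    ext x
    rw [hmem x, Finset.mem_image]
    simp
  refine ⟨Finset.disjoint_left.2 fun x hxE hxF => ?_, ?_⟩
  swap
  · rw [himg, Finset.card_image_of_injective _ he, Finset.card_univ, Fintype.card_fin]
  obtain ⟨-, k, hk, hne⟩ := Finset.mem_filter.1 hxF
  obtain ⟨h1, -, h3⟩ := vanish_entries C hk
  obtain ⟨i, rfl⟩ := (hmem x).1 hxE
  set f : Fin 5 → ℤ := fun i => ε i * cF k (e i) with hf
  have hfb : ∀ i, -1 ≤ f i ∧ f i ≤ 1 := fun i => by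
    rcases h1 (e i) (suppE_subset C ((hmem _).2 ⟨i, rfl⟩)) with e1 | e1 | e1 <;>
      rcases hε i with e2 | e2 <;> simp [hf, e1, e2]
  have hrow : ∀ l : Fin 4, ∑ i, pat l i * f i = 0 := by
    intro l
    have h4 := h3 ((l : ℕ) + 1) (by omega) (by have := l.2; omega)
    rw [himg, Finset.sum_image fun a _ b _ e' => he e'] at h4
    rw [← h4]
    exact Finset.sum_congr rfl fun i _ => by rw [hval, hf]; ring
  have hall : f i = 0 := by
    have r0 := hrow 0
    have r1 := hrow 1
    have r2 := hrow 2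
    have r3 := hrow 3
    have b0 := hfb 0
    have b1 := hfb 1
    have b2 := hfb 2
    have b3 := hfb 3
    have b4 := hfb 4
    rcases hpat with rfl | rfl <;>
      simp [patA, patB, Fin.sum_univ_five] at r0 r1 r2 r3 <;>
      fin_cases i <;> simp <;> omega
  rcases hε i with e2 | e2 <;> simp only [hf, e2] at hall <;> omega

/-- Heights of the members met by the standard disjoint configuration. -/
theorem height_std {A B' C' D : IrrCharacter G} {L : ℕ → IrrCharacter G} {ε : IrrCharacter G → ℤ}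
    (hstd : IsStd (suppE B h cE) cE (h / 2) A B' C' D L ε)
    (hdis : Disjoint (suppE B h cE) (suppF B R cF)) {χ : IrrCharacter G}
    (hχ : χ ∈ suppE B h cE ∪ suppF B R cF) :
    blockHeight 2 B (χ : G → ℂ) = 0 ∨ (4 ≤ h ∧ blockHeight 2 B (χ : G → ℂ) = 1) := by
  rcases Finset.mem_union.1 hχ with hE | hF
  · have hB' := mem_members.1 (suppE_subset C hE)
    by_cases hW : χ ∈ ({A, B', C', D} : Finset (IrrCharacter G))
    · refine Or.inl (C.ht0 χ hB' ?_)
      rw [hstd.long χ hE, if_pos hW]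
      rcases hstd.sgn χ with e | e <;> rw [e] <;> norm_num
    · obtain ⟨j, j0, j1, rfl⟩ := ((hstd.mem χ).1 hE).resolve_left hW
      refine Or.inr ⟨by omega, C.ht1 _ hB' (by rw [hstd.long _ hE, if_neg hW]) (by omega) ?_⟩
      rw [Finset.sum_eq_zero (s := R) fun k hk => cF_eq_zero C (suppE_subset C hE)
        (Finset.disjoint_left.1 hdis hE) hk, add_zero,
        Finset.sum_eq_single_of_mem j (Finset.mem_Ico.2 ⟨j0, j1⟩)]
      · rw [hstd.short j j0 j1 _ hE, if_pos (Finset.mem_insert_self _ _)]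
        rcases hstd.sgn (L j) with e | e <;> rw [e] <;> norm_num
      · intro i hi hne
        rw [Finset.mem_Ico] at hi
        rw [hstd.short i hi.1 hi.2 _ hE, if_neg]
        intro hm
        simp only [Finset.mem_insert, Finset.mem_singleton] at hm
        rcases hm with e | e | e
        · exact hne (hstd.inj j i j0 j1 hi.1 hi.2 e).symm
        · exact hW (by simp [e])
        · exact hW (by simp [e])
  · have hB' := mem_members.1 (suppF_subset C hF)
    have hn := Finset.disjoint_right.1 hdis hF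
    obtain ⟨-, k₁, hk₁, -⟩ := Finset.mem_filter.1 hF
    have h4 : 4 ≤ h := (R_nonempty_iff C).1 ⟨k₁, hk₁⟩
    obtain ⟨X, Y, δ, hs⟩ := shapeF C ⟨k₁, hk₁⟩
    refine Or.inr ⟨h4, C.ht1 _ hB' (cE_eq_zero C (suppF_subset C hF) hn (hpos C) le_rfl) h4 ?_⟩
    rw [Finset.sum_eq_zero fun i hi => cE_eq_zero C (suppF_subset C hF) hn
      (by rw [Finset.mem_Ico] at hi; omega) (by rw [Finset.mem_Ico] at hi; omega), zero_add,
      Finset.sum_congr rfl fun k hk => hs.value k hk χ hF, ← Finset.sum_filter, Finset.sum_const,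
      nsmul_eq_mul]
    have hcard : ¬ 2 ∣ (R.filter fun k => χ ∈ ({X, Y k} : Finset (IrrCharacter G))).card := by
      by_cases hX : χ = X
      · rw [Finset.filter_true_of_mem fun k _ => by simp [hX]]
        have := C.cardR
        obtain ⟨r, hr⟩ : 4 ∣ h := by
          obtain ⟨m, hm⟩ := C.two_pow
          rcases m with _ | _ | m
          · rw [pow_zero] at hm; omega
          · rw [pow_one] at hm; omega
          · exact ⟨2 ^ m, by rw [hm, pow_succ, pow_succ]; ring⟩
        omega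
      · obtain ⟨-, k, hk, hne⟩ := Finset.mem_filter.1 hF
        rw [hs.value k hk χ hF] at hne
        have hm : χ = Y k := by
          have : χ ∈ ({X, Y k} : Finset (IrrCharacter G)) := by_contra fun hm => hne (if_neg hm)
          simpa [hX] using this
        have : R.filter (fun l => χ ∈ ({X, Y l} : Finset (IrrCharacter G))) = {k} := by
          ext l
          simp only [Finset.mem_filter, Finset.mem_insert, Finset.mem_singleton, hX, false_or]
          exact ⟨fun h' => hs.inj l h'.1 k hk (h'.2.symm.trans hm), fun h' => h' ▸ ⟨hk, hm⟩⟩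
        rw [this, Finset.card_singleton]
        norm_num
    rcases hs.sgn χ with e | e <;> rw [e] <;> simpa using fun hd => hcard (Int.natCast_dvd_natCast.1 hd)

theorem card_suppE_std {A B' C' D : IrrCharacter G} {L : ℕ → IrrCharacter G}
    {ε : IrrCharacter G → ℤ} (hstd : IsStd (suppE B h cE) cE (h / 2) A B' C' D L ε) :
    (suppE B h cE).card = h / 2 + 3 := by
  obtain ⟨hAC, hAD⟩ := hstd.hKW A (by simp)
  obtain ⟨hBC, hBD⟩ := hstd.hKW B' (by simp)
  have hS : suppE B h cE =
      ({A, B', C', D} : Finset (IrrCharacter G)) ∪ (Finset.Ico 1 (h / 2)).image L := by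
    ext x
    rw [hstd.mem x, Finset.mem_union, Finset.mem_image]
    simp only [Finset.mem_Ico, and_assoc, Nat.one_le_iff_ne_zero, Nat.pos_iff_ne_zero]
  have h4 : ({A, B', C', D} : Finset (IrrCharacter G)).card = 4 := by
    rw [Finset.card_insert_of_notMem (by simp [hstd.hAB, hAC, hAD]),
      Finset.card_eq_three.2 ⟨B', C', D, hBC, hBD, hstd.hCD, rfl⟩]
  rw [hS, Finset.card_union_of_disjoint, h4, Finset.card_image_of_injOn, Nat.card_Ico]
  · have := hpos C; omega
  · intro i hi j hj e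
    rw [Finset.mem_coe, Finset.mem_Ico] at hi hj
    exact hstd.inj i j hi.1 hi.2 hj.1 hj.2 e
  · rw [Finset.disjoint_right]
    intro x hx
    obtain ⟨j, hj, rfl⟩ := Finset.mem_image.1 hx
    rw [Finset.mem_Ico] at hj
    exact hstd.out j hj.1 hj.2

theorem height_extra {χ : IrrCharacter G} (hχ : χ ∈ extras B h R cE cF) :
    2 ^ blockHeight 2 B (χ : G → ℂ) = h := by
  simp only [extras, Finset.mem_sdiff, Finset.mem_union, not_or] at hχ
  exact C.htTop χ (mem_members.1 hχ.1) (fun i i0 i1 => cE_eq_zero C hχ.1 hχ.2.1 i0 i1)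
    fun k hk => cF_eq_zero C hχ.1 hχ.2.2 hk

theorem card_split : (members B).card =
    (suppE B h cE ∪ suppF B R cF).card + (extras B h R cE cF).card := by
  rw [extras, ← Finset.card_sdiff_add_card_eq_card
    (Finset.union_subset (suppE_subset C) (suppF_subset C)), add_comm]

theorem row_zero (hM : IsPModular 2 M) (φ : IrrCharacter G) {c : IrrCharacter G → ℤ}
    (hc : ∀ y : G, ¬ 2 ∣ orderOf y → ∑ χ ∈ members B, (c χ : ℂ) * (χ : G → ℂ) y = 0) :
    ∑ χ ∈ members B, c χ * contrib 2 B φ χ = 0 := by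
  have h1 : ∑ χ ∈ members B, (c χ : ℂ) * pair 2 (φ : G → ℂ) χ = 0 := by
    simp only [pair, regSum_eq, Finset.mul_sum]
    rw [Finset.sum_comm]
    refine Finset.sum_eq_zero fun y _ => ?_
    by_cases hy : 2 ∣ orderOf y
    · simp [hy]
    · simp only [if_pos hy]
      rw [Finset.sum_congr rfl (g := fun χ => conj ((φ : G → ℂ) y) * ((c χ : ℂ) * (χ : G → ℂ) y))
        fun χ _ => by ring, ← Finset.mul_sum, hc y hy, mul_zero]
  rw [Finset.sum_congr rfl fun χ hχ => by
    rw [pair_eq_contrib hM.1 φ (mem_members.1 hχ), ← mul_assoc, mul_comm (c χ : ℂ), mul_assoc,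
      ← Int.cast_mul], ← Finset.mul_sum, ← Int.cast_sum] at h1
  exact_mod_cast (mul_eq_zero.1 h1).resolve_left (scale_ne_zero hM.1 B)

theorem rowE (hM : IsPModular 2 M) (φ : IrrCharacter G) {i : ℕ} (i0 : 0 < i) (i1 : i ≤ h / 2) :
    ∑ χ ∈ suppE B h cE, cE i χ * contrib 2 B φ χ = 0 := by
  rw [sum_suppE C _ i0 i1]; exact row_zero C hM φ (C.regE i i0 i1)

theorem rowF (hM : IsPModular 2 M) (φ : IrrCharacter G) {k : ℕ} (hk : k ∈ R) :
    ∑ χ ∈ suppF B R cF, cF k χ * contrib 2 B φ χ = 0 := by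
  rw [sum_suppF C _ hk]; exact row_zero C hM φ (C.regF k hk)

theorem row_sq (hM : IsPModular 2 M) {φ : IrrCharacter G} (hφ : φ ∈ B) :
    ∑ χ ∈ members B, contrib 2 B φ χ ^ 2 = 4 * (h : ℤ) * contrib 2 B φ φ := by
  have := sum_contrib_sq hM C.hB hφ
  rw [filter_eq_members] at this
  rw [this]
  have h1 := C.defect
  rw [show (4 : ℤ) * h = ((4 * h : ℕ) : ℤ) by push_cast; rfl, ← h1]
  push_cast
  rfl

end Cfsg.Agent.MaxClassCounts79
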