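import Mathlib
import Cfsg.Agent.Lib.MaxClassCounts79
import Cfsg.Agent.Lib.MaxClassLocal79
import Cfsg.Agent.Lib.DihedralDefectMain79
import Cfsg.Agent.Lib.KleinFourDefect79

/-!
# A 2-block with defect group of maximal class whose central involution is central in the group

It has `l + h + 2` characters.
-/

set_option autoImplicit false
set_option linter.unusedSectionVars false

open scoped ComplexConjugate

namespace Cfsg.Agent.MaxClassCentral79

open Cfsg Cfsg.Agent.MaxClassGroup79 Cfsg.Agent.MaxClassBlock79 Cfsg.Agent.MaxClassCounts79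
open Cfsg.Agent.BlockTheoryCentre Cfsg.Agent.BlockTheoryIdem Cfsg.Agent.BlockTheoryDefect
open Cfsg.Agent.BlockContrib Cfsg.Agent.BlockContribBounds Cfsg.Agent.BlockCentralSlice38
open Cfsg.Agent.BlockQuotient78 (infl infl_apply)

attribute [local instance] Classical.propDecidable

universe u

variable {H : Type u} [Group H] [Fintype H] {M : Ideal AlgInt} {b : Set (IrrCharacter H)}
  {D : Subgroup H} {h q : ℕ} {σ : H}

theorem dvd_succ (hd : MC h q D σ) : h ∣ q + 1 := by
  rcases hd.twist with e | ⟨-, e⟩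
  · exact ⟨2, by rw [e]; ring⟩
  · exact ⟨1, by rw [e]; ring⟩

theorem order_J (hd : MC h q D σ) : orderOf (σ ^ h) = 2 := by
  have := hd.two_le
  rw [orderOf_pow' _ (by omega), hd.order, Nat.gcd_mul_left_left,
    Nat.mul_div_cancel _ (by omega)]

section Quotient

variable [(Subgroup.zpowers (σ ^ h)).Normal]

local notation "π" => QuotientGroup.mk' (Subgroup.zpowers (σ ^ h))

theorem mk_pow_h : π σ ^ h = 1 := by
  rw [← map_pow]
  exact (QuotientGroup.eq_one_iff _).2 (Subgroup.mem_zpowers _)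

theorem quot_refl (hd : MC h q D σ) {u : H} (hu : u ∈ D) (hr : π u ∉ Subgroup.zpowers (π σ)) :
    π u * π u = 1 ∧ π u * π σ * (π u)⁻¹ = (π σ)⁻¹ := by
  have hr' : u ∉ Subgroup.zpowers σ := fun hm => hr (by
    obtain ⟨z, rfl⟩ := hm
    exact ⟨z, (map_zpow _ _ _).symm⟩)
  obtain ⟨h1, h2⟩ := hd.refl u hu hr'
  constructor
  · rw [← map_mul]
    rcases h2 with e | e <;> rw [e]
    · exact map_one _
    · rw [map_pow, mk_pow_h]
  · rw [← map_inv π u, ← map_mul, ← map_mul, h1, map_pow]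
    refine eq_inv_of_mul_eq_one_left ?_
    rw [← pow_succ]
    obtain ⟨c, hc⟩ := dvd_succ hd
    rw [hc, pow_mul, mk_pow_h, one_pow]

theorem card_quot (hd : MC h q D σ) : Nat.card (D.map π) = 2 * h := by
  have h1 := MaxClassQuotient79.card_map_mk (W := Subgroup.zpowers (σ ^ h)) (D := D)
    (Subgroup.zpowers_le.2 (pow_mem hd.mem h))
  rw [Nat.card_zpowers, order_J hd, hd.card] at h1
  omega

theorem quot_dih (hd : MC h q D σ) (h4 : 4 ≤ h) :
    DihedralDefectGroup79.Dih (h / 2) (D.map π) (π σ) := by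
  have h2 : 2 * (h / 2) = h := by
    obtain ⟨r, hr⟩ := even_h hd
    omega
  refine ⟨Subgroup.mem_map_of_mem _ hd.mem, ?_, ?_, by omega, ?_, ?_, ?_⟩
  · rw [h2]
    obtain ⟨k, hk⟩ := hd.two_pow
    haveI : Fact (Nat.Prime 2) := ⟨Nat.prime_two⟩
    rcases k with _ | k
    · rw [pow_zero] at hk; omega
    refine (orderOf_eq_prime_pow ?_ (by rw [← hk]; exact mk_pow_h)).trans hk.symm
    intro e
    rw [← map_pow, QuotientGroup.mk'_apply, QuotientGroup.eq_one_iff] at e
    obtain ⟨z, hz⟩ := e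
    have h3 : σ ^ 2 ^ k * σ ^ 2 ^ k = σ ^ h := by rw [← pow_add, hk, pow_succ]; ring_nf
    have h4' : σ ^ h = 1 := by
      rw [← h3, ← hz, ← (Commute.refl (σ ^ h)).mul_zpow, ← pow_two,
        ← order_J hd, pow_orderOf_eq_one, one_zpow]
    have := order_J hd
    rw [h4', orderOf_one] at this
    omega
  · obtain ⟨k, hk⟩ := hd.two_pow
    rcases k with _ | k
    · rw [pow_zero] at hk; omega
    exact ⟨k, by rw [hk, pow_succ]; simp⟩
  · rw [card_quot hd]; omega
  · rintro _ ⟨u, hu, rfl⟩ hne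
    exact quot_refl hd hu hne
  · obtain ⟨u, hu, hr⟩ := hd.exists_refl
    refine ⟨π u, Subgroup.mem_map_of_mem _ hu, ?_⟩
    rintro ⟨z, hz⟩
    refine hr ?_
    have hm : (σ ^ z)⁻¹ * u ∈ Subgroup.zpowers (σ ^ h) := by
      rw [← QuotientGroup.eq_one_iff, ← QuotientGroup.mk'_apply, map_mul, map_inv, map_zpow]
      rw [show π σ ^ z = π u from hz, inv_mul_cancel]
    have h3 : (σ ^ z)⁻¹ * u ∈ Subgroup.zpowers σ :=
      Subgroup.zpowers_le.2 (Subgroup.npow_mem_zpowers σ h) hm
    have h5 := mul_mem (Subgroup.zpow_mem_zpowers σ z) h3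
    rwa [mul_inv_cancel_left] at h5

theorem quot_klein (hd : MC h q D σ) (h2 : h = 2) : IsKleinFour (D.map π) := by
  have hc : Nat.card (D.map π) = 4 := by rw [card_quot hd, h2]
  haveI : Nontrivial (D.map π) := by
    rw [← Finite.one_lt_card_iff_nontrivial, hc]; norm_num
  refine ⟨hc, ?_⟩
  refine (Monoid.exponent_eq_prime_iff Nat.prime_two).2 fun x hx => ?_
  refine orderOf_eq_prime (hp := ⟨Nat.prime_two⟩) ?_ hx
  obtain ⟨u, hu, hue⟩ := x.2
  refine Subtype.ext ?_
  rw [Subgroup.coe_pow, ← hue, pow_two, Subgroup.coe_one]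
  by_cases hr : π u ∈ Subgroup.zpowers (π σ)
  · obtain ⟨z, hz⟩ := hr
    have h3 : π σ ^ 2 = 1 := (congrArg (π σ ^ ·) h2.symm).trans mk_pow_h
    rw [← hz, ← (Commute.refl (π σ)).mul_zpow, ← pow_two, h3, one_zpow]
  · exact (quot_refl hd hu hr).1

end Quotient

section Main

variable {G : Type u} [Group G] [Fintype G] {K : Subgroup G} {b : Set (IrrCharacter K)}
  {D : Subgroup K} {σ : K}
  (hM : IsPModular 2 M) (hb : IsPBlock M b) (hD : IsDefectGroup 2 M b D)
  (hd : MC h q D σ) (hJ : σ ^ h ∈ Subgroup.center K)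
include hM hb hD hd hJ

/-- The members trivial at the involution. -/
theorem slice_facts : (slice b (σ ^ h)).card = h / 2 + 3 ∧
    ∀ ξ ∈ slice b (σ ^ h), blockHeight 2 b (ξ : K → ℂ) ≤ 1 ∧
      (h = 2 → blockHeight 2 b (ξ : K → ℂ) = 0) := by
  haveI : Fact (Nat.Prime 2) := ⟨Nat.prime_two⟩
  haveI hn : (Subgroup.zpowers (σ ^ h)).Normal := ⟨fun x hx g => by
    rw [Subgroup.mem_center_iff.1 (Subgroup.zpowers_le.2 hJ hx) g, mul_inv_cancel_right]
    exact hx⟩
  have hzo := order_J hd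
  obtain ⟨Bb, hBb, hDb, hiff, hdef, hht⟩ := MaxClassQuotient79.exists_quot hM hb hD hJ hzo
  have hlam : ∀ χ : IrrCharacter (K ⧸ Subgroup.zpowers (σ ^ h)),
      S4716.lam (σ ^ h) (infl _ χ) = 1 := fun χ => by
    rw [S4716.lam, infl_apply, infl_apply, map_one,
      show QuotientGroup.mk' (Subgroup.zpowers (σ ^ h)) (σ ^ h) = 1 from
        (QuotientGroup.eq_one_iff _).2 (Subgroup.mem_zpowers _), div_self (irr_one_ne_zero χ)]
  have himg : slice b (σ ^ h) = (members Bb).image (infl _) := by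
    ext ξ
    rw [mem_slice, Finset.mem_image]
    constructor
    · rintro ⟨hξ, hl⟩
      have htriv : ∀ u ∈ Subgroup.zpowers (σ ^ h), (ξ : K → ℂ) u = (ξ : K → ℂ) 1 := by
        intro u hu
        obtain ⟨i, rfl⟩ := (isOfFinOrder_of_finite (σ ^ h)).mem_powers_iff_mem_zpowers.2 hu
        have h1 := S4716.lam_pow hJ ξ i
        rwa [hl, one_pow, S4716.lam, div_eq_one_iff_eq (irr_one_ne_zero ξ)] at h1
      obtain ⟨χ, hχ⟩ := CharKernel.exists_quot_irr (Subgroup.zpowers (σ ^ h)) ξ htriv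
      have e : infl _ χ = ξ := Subtype.ext (funext fun g => by rw [infl_apply]; exact (hχ g).symm)
      exact ⟨χ, mem_members.2 ((hiff χ).2 (e.symm ▸ hξ)), e⟩
    · rintro ⟨χ, hχ, rfl⟩
      exact ⟨(hiff χ).1 (mem_members.1 hχ), hlam χ⟩
  have hinj : Function.Injective
      (infl (Subgroup.zpowers (σ ^ h)) : _ → IrrCharacter K) := fun a c e => by
    refine Subtype.ext (funext fun g => ?_)
    obtain ⟨g, rfl⟩ := QuotientGroup.mk'_surjective _ g
    rw [← infl_apply, ← infl_apply, e]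
  have hcard : Nat.card Bb = h / 2 + 3 ∧ ∀ χ ∈ Bb,
      blockHeight 2 Bb (χ : _ → ℂ) ≤ 1 ∧ (h = 2 → blockHeight 2 Bb (χ : _ → ℂ) = 0) := by
    by_cases h4 : 4 ≤ h
    · have hdih := quot_dih hd h4
      obtain ⟨C, bC, P, e, s, χ₀, S⟩ := DihedralDefectLocal79.exists_sect_dih hM hBb hDb hdih
      have hζ := Complex.isPrimitiveRoot_exp (2 * (h / 2)) (by omega)
      have hh : h / 2 = 2 ∨ h / 2 = 4 ∨ 8 ≤ h / 2 := by
        obtain ⟨k, hk⟩ := hd.two_pow
        rcases k with _ | _ | _ | _ | k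
        · rw [pow_zero] at hk; omega
        all_goals simp only [pow_succ, pow_zero, one_mul] at hk
        · omega
        · omega
        · omega
        · have := Nat.one_le_two_pow (n := k)
          omega
      obtain ⟨hk, -, -, hle⟩ := DihedralDefectMain79.main hM S hζ hh
      exact ⟨hk, fun χ hχ => ⟨hle χ hχ, fun e2 => by omega⟩⟩
    · have h2 : h = 2 := by
        obtain ⟨r, hr⟩ := even_h hd
        have := hd.two_le
        omega
      obtain ⟨c, hc⟩ := Star80Nilpotent.exists_maximal hM hBb hDb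
      obtain ⟨-, hk, -⟩ := KleinFourDefect79.inertial hM hc (quot_klein hd h2)
        (BrauerPairs81Fusion.stab (⟨_, c⟩ : BrauerPairIdx _)) (fun _ => Iff.rfl) _ rfl
      have hd2 : blockDefect 2 Bb = 2 := by
        have h1 := BlockContribBounds.card_defectGroup hM hBb hDb
        rw [card_quot hd] at h1
        have h4' : 2 ^ 2 = 2 ^ blockDefect 2 Bb := (show 2 ^ 2 = 2 * h by omega).trans h1
        exact (Nat.pow_right_injective le_rfl h4').symm
      refine ⟨hk.trans (by omega), fun χ hχ => ?_⟩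
      have h0 := KleinFourDefect79.height_zero hM hBb hd2 hχ
      exact ⟨by omega, fun _ => h0⟩
  refine ⟨?_, fun ξ hξ => ?_⟩
  · rw [himg, Finset.card_image_of_injective _ hinj, ← card_members, hcard.1]
  · rw [himg, Finset.mem_image] at hξ
    obtain ⟨χ, hχ, rfl⟩ := hξ
    rw [hht χ (mem_members.1 hχ)]
    exact hcard.2 χ (mem_members.1 hχ)

omit hD hJ in
/-- The contributions of a block add up to its rank. -/
theorem sum_contrib_diag : ∑ χ ∈ members b, contrib 2 b χ χ = 2 ^ blockDefect 2 b * (blockRank 2 b : ℤ) := by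
  haveI : Fact (Nat.Prime 2) := ⟨Nat.prime_two⟩
  have h1 := Cfsg.Agent.S4667.result 2 M hM b hb
  simp only [finsum_eq_members] at h1
  rw [Finset.sum_comm] at h1
  have h2 : ∀ χ ∈ members b, ∑ x : K, Cfsg.pRegularPart 2 (χ : K → ℂ) x * (χ : K → ℂ) x⁻¹ =
      (cofactor 2 K : ℂ) * (2 : ℂ) ^ minExp 2 b * (contrib 2 b χ χ : ℂ) := by
    intro χ hχ
    have h3 := pair_eq_contrib hM.1 χ (mem_members.1 hχ) (B := b)
    rw [Nat.cast_ofNat] at h3
    rw [← h3, pair, regSum_eq]
    refine Finset.sum_congr rfl fun x _ => ?_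
    simp only [pRegularPart, IsPRegular, irr_inv]
    split_ifs <;> simp_all [mul_comm]
  rw [Finset.sum_congr rfl h2, ← Finset.mul_sum] at h1
  have hscale : (Nat.card K : ℂ) =
      (cofactor 2 K : ℂ) * (2 : ℂ) ^ minExp 2 b * (2 : ℂ) ^ blockDefect 2 b := by
    rw [mul_assoc, ← pow_add, minExp_add_defect hM hb, mul_comm]
    exact_mod_cast (pow_mul_cofactor (G := K) 2).symm
  rw [hscale, mul_assoc] at h1
  have h4 := mul_left_cancel₀ (by
    have := scale_ne_zero (G := K) Nat.prime_two b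
    simpa using this) h1
  exact_mod_cast h4.symm

/-- The members negative at the involution carry half of the contributions. -/
theorem minus_facts :
    ∑ ξ ∈ members b \ slice b (σ ^ h), contrib 2 b ξ ξ = 2 * (h : ℤ) * (blockRank 2 b : ℤ) ∧
      ∀ χ ∈ b, ∑ ξ ∈ members b \ slice b (σ ^ h), contrib 2 b χ ξ ^ 2 =
        2 * (h : ℤ) * contrib 2 b χ χ := by
  haveI : Fact (Nat.Prime 2) := ⟨Nat.prime_two⟩
  have hzo := order_J hd
  have hsub : slice b (σ ^ h) ⊆ members b := Finset.filter_subset _ _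
  have hdef : (2 : ℤ) ^ blockDefect 2 b = 4 * (h : ℤ) := by
    have h1 := BlockContribBounds.card_defectGroup hM hb hD
    rw [hd.card] at h1
    exact_mod_cast h1.symm
  constructor
  · have hhalf : (2 : ℂ) * ∑ ξ ∈ slice b (σ ^ h), pair 2 (ξ : K → ℂ) ξ =
        ∑ ξ ∈ members b, pair 2 (ξ : K → ℂ) ξ := by
      simp only [pair, regSum_eq]
      rw [Finset.sum_comm (s := slice b (σ ^ h)), Finset.sum_comm (s := members b), Finset.mul_sum]
      refine Finset.sum_congr rfl fun x _ => ?_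
      by_cases hx : 2 ∣ orderOf x
      · simp [hx]
      · simp only [if_pos hx]
        have h1 := sum_slice hM hb hJ hzo hx hx
        rw [Nat.cast_ofNat] at h1
        simp only [mul_comm (conj _)]
        exact h1
    have h2 : ∀ T : Finset (IrrCharacter K), T ⊆ members b →
        ∑ ξ ∈ T, pair 2 (ξ : K → ℂ) ξ =
          (cofactor 2 K : ℂ) * (2 : ℂ) ^ minExp 2 b * ((∑ ξ ∈ T, contrib 2 b ξ ξ : ℤ) : ℂ) := by
      intro T hT
      rw [Int.cast_sum, Finset.mul_sum]
      refine Finset.sum_congr rfl fun ξ hξ => ?_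
      have h3 := pair_eq_contrib hM.1 ξ (mem_members.1 (hT hξ)) (B := b)
      rwa [Nat.cast_ofNat] at h3
    rw [h2 _ hsub, h2 _ subset_rfl, mul_left_comm] at hhalf
    have h5 := mul_left_cancel₀ (by
      have := scale_ne_zero (G := K) Nat.prime_two b
      simpa using this) hhalf
    have h6 : 2 * ∑ ξ ∈ slice b (σ ^ h), contrib 2 b ξ ξ = ∑ ξ ∈ members b, contrib 2 b ξ ξ := by
      exact_mod_cast h5
    have h7 := sum_contrib_diag hM hb hd
    rw [hdef] at h7
    rw [← Finset.sum_sdiff hsub] at h6 h7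
    linarith
  · intro χ hχ
    have h1 := mul_sum_contrib hM hb hJ hzo hχ hχ
    rw [Nat.cast_ofNat, hdef] at h1
    have h2 := sum_contrib_sq hM hb hχ
    rw [filter_eq_members, Nat.cast_ofNat, hdef, ← Finset.sum_sdiff hsub] at h2
    rw [Finset.sum_congr rfl (g := fun ξ => contrib 2 b χ ξ ^ 2) fun ξ hξ => by
      rw [contrib_comm hM.1 (mem_slice.1 hξ).1 hχ, pow_two]] at h1
    linarith

/-- The number of characters. -/
theorem card_central : (members b).card = blockRank 2 b + h + 2 := by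
  haveI : Fact (Nat.Prime 2) := ⟨Nat.prime_two⟩
  have hh := hd.two_le
  have hzo := order_J hd
  obtain ⟨N, bN, P, e, s, χ₀, S, hs, -⟩ := MaxClassLocal79.exists_sect hM hb hD hd
  have hζ := Complex.isPrimitiveRoot_exp (2 * h) (by omega)
  obtain ⟨cE, cF, C, -, hsign⟩ := exists_cols hM S hζ
  have hJ' : ((s ^ h : N) : K) = σ ^ h := by rw [Subgroup.coe_pow, hs]
  replace hsign := hsign (by rw [hJ']; exact hJ)
  set R := (oddReps h q).erase 1 with hR
  obtain ⟨hsc, hsht⟩ := slice_facts hM hb hD hd hJ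
  obtain ⟨hm1, hm2⟩ := minus_facts hM hb hD hd hJ
  set Sl := slice b (σ ^ h) with hSl
  have hsub : Sl ⊆ members b := Finset.filter_subset _ _
  -- the columns separate
  have hF0 : ∀ ξ ∈ Sl, ξ ∉ suppF b R cF := by
    intro ξ hξ hm
    obtain ⟨-, k, hk, hne⟩ := Finset.mem_filter.1 hm
    refine hne ((hsign ξ).1 (fun g => ?_) k hk)
    rw [hJ', S4716.lam_mul hJ, (mem_slice.1 hξ).2, one_mul]
  have hE0 : ∀ ξ ∈ members b \ Sl, ξ ∉ suppE b h cE := by
    intro ξ hξ hm
    obtain ⟨hξb, hξn⟩ := Finset.mem_sdiff.1 hξ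
    obtain ⟨-, i, -, i1, hne⟩ := Finset.mem_filter.1 hm
    refine hne ((hsign ξ).2 (fun g => ?_) i i1)
    have hl : S4716.lam (σ ^ h) ξ = -1 := by
      have h1 := lam_pow_p hJ hzo ξ
      rw [pow_two] at h1
      refine (mul_self_eq_one_iff.1 h1).resolve_left fun h0 => hξn ?_
      exact mem_slice.2 ⟨mem_members.1 hξb, h0⟩
    rw [hJ', S4716.lam_mul hJ, hl, neg_one_mul]
  have hSE : suppE b h cE = Sl := by
    refine Finset.Subset.antisymm (fun ξ hξ => ?_) fun ξ hξ => ?_
    · by_contra hn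
      exact hE0 ξ (Finset.mem_sdiff.2 ⟨suppE_subset C hξ, hn⟩) hξ
    · by_contra hn
      have hext := height_extra C (χ := ξ) (Finset.mem_sdiff.2 ⟨hsub hξ,
        fun hu => (Finset.mem_union.1 hu).elim hn (hF0 ξ hξ)⟩)
      obtain ⟨h1, h0⟩ := hsht ξ hξ
      rcases (show blockHeight 2 b (ξ : K → ℂ) = 0 ∨ blockHeight 2 b (ξ : K → ℂ) = 1 by omega) with
        e1 | e1 <;> rw [e1] at hext
      · rw [pow_zero] at hext; omega
      · rw [pow_one] at hext
        rw [h0 hext.symm] at e1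
        omega
  have hFM : suppF b R cF ⊆ members b \ Sl := fun ξ hξ =>
    Finset.mem_sdiff.2 ⟨suppF_subset C hξ, fun hm => hF0 ξ hm hξ⟩
  -- the extra members contribute `2 h` each
  have hX : ∀ ξ ∈ (members b \ Sl) \ suppF b R cF, contrib 2 b ξ ξ = 2 * (h : ℤ) := by
    intro ξ hξ
    obtain ⟨hξm, hξF⟩ := Finset.mem_sdiff.1 hξ
    have hξb := mem_members.1 (Finset.mem_sdiff.1 hξm).1
    have hht := height_extra C (χ := ξ) (Finset.mem_sdiff.2 ⟨(Finset.mem_sdiff.1 hξm).1,
      fun hu => (Finset.mem_union.1 hu).elim (hE0 ξ hξm) hξF⟩)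
    have hpos : 0 < blockHeight 2 b (ξ : K → ℂ) := by
      by_contra h0
      rw [show blockHeight 2 b (ξ : K → ℂ) = 0 by omega, pow_zero] at hht
      omega
    have hdvd := contrib_extra_of_height_pos hM hb hξb hpos hξb
    rw [Nat.cast_ofNat, pow_succ', show (2 : ℤ) ^ blockHeight 2 b (ξ : K → ℂ) = (h : ℤ) by
      exact_mod_cast hht] at hdvd
    have h1 : contrib 2 b ξ ξ ^ 2 ≤ 2 * (h : ℤ) * contrib 2 b ξ ξ := by
      rw [← hm2 ξ hξb]
      exact Finset.single_le_sum (f := fun η => contrib 2 b ξ η ^ 2) (fun η _ => sq_nonneg _) hξm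
    have hp := contrib_self_pos hM.1 (B := b) hξb
    have h2 := Int.le_of_dvd hp hdvd
    nlinarith
  have hsum : ∑ ξ ∈ members b \ Sl, contrib 2 b ξ ξ =
      ∑ ξ ∈ suppF b R cF, contrib 2 b ξ ξ +
        2 * (h : ℤ) * (((members b \ Sl) \ suppF b R cF).card : ℤ) := by
    rw [← Finset.sum_sdiff hFM, Finset.sum_congr rfl hX, Finset.sum_const, nsmul_eq_mul]
    ring
  rw [hm1] at hsum
  have hcard : (members b).card =
      Sl.card + ((suppF b R cF).card + ((members b \ Sl) \ suppF b R cF).card) := by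
    rw [← Finset.card_sdiff_add_card_eq_card hsub, ← Finset.card_sdiff_add_card_eq_card hFM]
    omega
  have hcR : 2 * (R.card + 1) = h := C.cardR
  by_cases h4 : 4 ≤ h
  · have hRne := (R_nonempty_iff C).2 h4
    have hFc := card_suppF C hRne
    obtain ⟨X, Y, δ, hst⟩ := shapeF C hRne
    have hmemF : ∀ ξ ∈ suppF b R cF, ∀ φ, contrib 2 b φ ξ ^ 2 = contrib 2 b φ X ^ 2 := by
      intro ξ hξ φ
      obtain ⟨-, k, hk, hne⟩ := Finset.mem_filter.1 hξ
      rw [hst.value k hk ξ hξ] at hne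
      have hm : ξ ∈ ({X, Y k} : Finset (IrrCharacter K)) := by_contra fun hm => hne (if_neg hm)
      rw [Finset.mem_insert, Finset.mem_singleton] at hm
      rcases hm with rfl | rfl
      · rfl
      have h1 := rowF C hM φ hk
      rw [← Finset.sum_subset (show ({X, Y k} : Finset (IrrCharacter K)) ⊆ suppF b R cF by
        intro x hx
        rcases Finset.mem_insert.1 hx with rfl | hx
        · exact hst.center
        · exact Finset.mem_singleton.1 hx ▸ hst.leaf k hk)
        fun x hx hn => by rw [hst.value k hk x hx, if_neg hn, zero_mul],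
        Finset.sum_pair (hst.ne k hk).symm, hst.value k hk X hst.center, if_pos (by simp),
        hst.value k hk (Y k) (hst.leaf k hk), if_pos (by simp)] at h1
      rcases hst.sgn X with s1 | s1 <;> rcases hst.sgn (Y k) with s2 | s2 <;> rw [s1, s2] at h1 <;>
        first
          | (rw [show contrib 2 b φ (Y k) = contrib 2 b φ X by linarith])
          | (rw [show contrib 2 b φ (Y k) = -contrib 2 b φ X by linarith, neg_sq])
    have hF4 : ∀ ξ ∈ suppF b R cF, contrib 2 b ξ ξ = 4 := by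
      intro ξ hξ
      have hξm := hFM hξ
      have hξB := suppF_subset C hξ
      have hξb := mem_members.1 hξB
      have hc0 := cE_eq_zero C hξB (hE0 ξ hξm) (hpos C) le_rfl
      have hpos' := C.htpos ξ hξb hc0
      have hdvd : (4 : ℤ) ∣ contrib 2 b ξ ξ := by
        have hd4 := contrib_extra_of_height_pos hM hb hξb hpos' hξb
        rw [Nat.cast_ofNat] at hd4
        exact (show (4 : ℤ) ∣ 2 ^ (blockHeight 2 b (ξ : K → ℂ) + 1) from
          pow_dvd_pow (2 : ℤ) (show 2 ≤ blockHeight 2 b (ξ : K → ℂ) + 1 by omega)).trans hd4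
      have h1 : ((suppF b R cF).card : ℤ) * contrib 2 b ξ ξ ^ 2 ≤ 2 * (h : ℤ) * contrib 2 b ξ ξ := by
        rw [← hm2 ξ hξb, ← nsmul_eq_mul, ← Finset.sum_const]
        refine le_trans (le_of_eq (Finset.sum_congr rfl fun η hη => ?_))
          (Finset.sum_le_sum_of_subset_of_nonneg hFM fun η _ _ => sq_nonneg _)
        rw [hmemF η hη ξ, hmemF ξ hξ ξ]
      have hcZ : (2 : ℤ) * ((suppF b R cF).card : ℤ) = h := by exact_mod_cast (by omega :
        2 * (suppF b R cF).card = h)
      have hp := contrib_self_pos hM.1 (B := b) hξb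
      have h2 := Int.le_of_dvd hp hdvd
      have h3 : contrib 2 b ξ ξ * contrib 2 b ξ ξ * (h : ℤ) ≤ 4 * (h : ℤ) * contrib 2 b ξ ξ := by
        rw [← hcZ] at h1 ⊢
        nlinarith
      have h5 : contrib 2 b ξ ξ * (h : ℤ) ≤ 4 * (h : ℤ) := le_of_mul_le_mul_right (by linarith) hp
      have h6 : contrib 2 b ξ ξ ≤ 4 := le_of_mul_le_mul_right h5 (by exact_mod_cast (show 0 < h by omega))
      omega
    rw [Finset.sum_congr rfl hF4, Finset.sum_const, nsmul_eq_mul] at hsum
    have h8 : ((((members b \ Sl) \ suppF b R cF).card + 1 : ℕ) : ℤ) = (blockRank 2 b : ℤ) := by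
      have hcZ : (2 : ℤ) * ((suppF b R cF).card : ℤ) = h := by exact_mod_cast (by omega :
        2 * (suppF b R cF).card = h)
      refine mul_left_cancel₀ (show (2 * (h : ℤ)) ≠ 0 by positivity) ?_
      push_cast
      linarith
    have h9 : ((members b \ Sl) \ suppF b R cF).card + 1 = blockRank 2 b := by exact_mod_cast h8
    omega
  · have h2 : h = 2 := by omega
    have hR0 : R = ∅ := Finset.card_eq_zero.1 (by omega)
    have hF0' : suppF b R cF = ∅ := Finset.filter_eq_empty_iff.2 fun ξ _ => by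
      rintro ⟨k, hk, -⟩
      rw [hR0] at hk
      exact Finset.notMem_empty k hk
    rw [hF0', Finset.sum_empty, zero_add] at hsum
    have h8 : (blockRank 2 b : ℤ) = (((members b \ Sl) \ ∅).card : ℤ) :=
      mul_left_cancel₀ (show (2 * (h : ℤ)) ≠ 0 by positivity) hsum
    have h9 : blockRank 2 b = ((members b \ Sl) \ ∅).card := by exact_mod_cast h8
    rw [hF0'] at hcard
    rw [Finset.card_empty] at hcard
    omega

end Main

end Cfsg.Agent.MaxClassCentral79
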