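import Cfsg.Agent.S4689
import Cfsg.Agent.Lib.DihedralDefectMain79
import Cfsg.Agent.Lib.MaxClassCentral79
import Cfsg.Agent.Lib.BrauerPairs81Nilpotent
import Cfsg.Agent.S4716
import Cfsg.Agent.Lib.BlockCyclicRank81

/-!
# A central involution and a 2-block with dihedral or semidihedral defect group

With a dihedral defect group the block is then nilpotent; with a semidihedral one its rank is at
most that of a block of the quotient with dihedral defect group which has an involution outside the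
class of the central one, and hence at most two.
-/

set_option autoImplicit false
set_option linter.unusedSectionVars false

open scoped ComplexConjugate

namespace Cfsg.Agent.DihedralCentral16

open Cfsg Cfsg.Agent.DihedralDefectGroup79 Cfsg.Agent.DihedralDefectLocal79
open Cfsg.Agent.DihedralDefectColumns79 Cfsg.Agent.BrauerPairs81Base
open Cfsg.Agent.BrauerPairs81Pairs Cfsg.Agent.BrauerPairs81Conj
open Cfsg.Agent.BrauerPairs81Fusion Cfsg.Agent.BrauerPairs81Max
open Cfsg.Agent.BlockContribBounds Cfsg.Agent.BlockTheoryDefect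

attribute [local instance] Classical.propDecidable

universe u

variable {G : Type u} [Group G] [Fintype G] {M : Ideal AlgInt} {B : Set (IrrCharacter G)}

theorem zpowers_normal {z : G} (hzc : z ∈ Subgroup.center G) : (Subgroup.zpowers z).Normal :=
  ⟨fun x hx g => by
    have h := Subgroup.mem_center_iff.1 (Subgroup.zpowers_le.2 hzc hx) g
    rwa [h, mul_inv_cancel_right]⟩

/-- A block with dihedral defect group and a central involution is nilpotent. -/
theorem rank_eq_one (hM : IsPModular 2 M) (hB : IsPBlock M B) {D : Subgroup G}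
    (hD : IsDefectGroup 2 M B D) {h : ℕ} {σ : G} (hd : Dih h D σ) {z : G}
    (hzc : z ∈ Subgroup.center G) (hzo : orderOf z = 2) : blockRank 2 B = 1 := by
  haveI : Fact (Nat.Prime 2) := ⟨Nat.prime_two⟩
  have hz2 : z * z = 1 := by rw [← pow_two, ← hzo, pow_orderOf_eq_one]
  haveI : (Subgroup.zpowers z).Normal :=
    zpowers_normal hzc
  have hzD : z ∈ D := normal_le_defectGroup hM hB hD (Subgroup.zpowers z)
    (IsPGroup.of_card (n := 1) (by rw [Nat.card_zpowers, hzo, pow_one])) (Subgroup.mem_zpowers z)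
  have hzs : z = σ ^ h := by
    have hrot : z ∈ Subgroup.zpowers σ := by
      by_contra hn
      have h1 := (hd.refl z hzD hn).2
      rw [← Subgroup.mem_center_iff.1 hzc σ, mul_inv_cancel_right] at h1
      have h2 : orderOf σ ∣ 2 :=
        orderOf_dvd_of_pow_eq_one (by rw [pow_two]; exact mul_eq_one_iff_eq_inv.2 h1)
      rw [hd.order] at h2
      have := Nat.le_of_dvd two_pos h2
      have := hd.two_le
      omega
    rcases sq_one_rot hd hrot hz2 with e | e
    · rw [e, orderOf_one] at hzo; omega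
    · exact e
  obtain ⟨e, hmax⟩ := Star80Nilpotent.exists_maximal hM hB hD
  have hnil : IsNilpotentBlock 2 M B := by
    refine BrauerPairs81Nilpotent.nilpotent_of_below hM hmax fun a ha x hx hreg => ?_
    exact mem_centralizer hd (subgroup_le_of_subpairLE ha) (stab_le_normalizer a hx)
      (hzs ▸ Subgroup.mem_center_iff.1 hzc x) hreg
  exact (S4689.result 2 M hM B hnil).1

section Sect

variable {h : ℕ} {C : Subgroup G} {b : Set (IrrCharacter C)} {P : Subgroup C}
  {e : Set (IrrCharacter (Cen P))} {s : C} {χ₀ : IrrCharacter C} {ζ : ℂ}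

/-- A singular element over an involution outside the class of the central one costs one more
dimension of the relations between the members. -/
theorem rank_add_succ_le (hM : IsPModular 2 M) (S : Sect M B h C b P e s χ₀)
    (hζ : IsPrimitiveRoot ζ (2 * h)) {y : G} (hy : 2 ∣ orderOf y)
    (hyC : ∀ x : G, ((s ^ h : C) : G) ∉ Subgroup.zpowers (x⁻¹ * y * x))
    (hy0 : ∃ χ ∈ B, (χ : G → ℂ) y ≠ 0) : blockRank 2 B + h + 1 ≤ (members B).card := by
  haveI : Fact (Nat.Prime 2) := ⟨Nat.prime_two⟩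
  obtain ⟨c, hc⟩ := DihedralDefectMain79.exists_coef hM S hζ
  have hh : 0 < h := by have := S.dih.two_le; omega
  set v : members B → (G → ℂ) := fun χ => pRegularPart 2 ((χ : IrrCharacter G) : G → ℂ) with hv
  set L := Fintype.linearCombination ℂ v with hL
  have hrange : blockRank 2 B = Module.finrank ℂ (LinearMap.range L) := by
    have e1 : (fun χ : IrrCharacter G => pRegularPart 2 (χ : G → ℂ)) '' B = Set.range v := by
      ext f
      constructor
      · rintro ⟨χ, hχ, rfl⟩
        exact ⟨⟨χ, mem_members.2 hχ⟩, rfl⟩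
      · rintro ⟨χ, rfl⟩
        exact ⟨χ, mem_members.1 χ.2, rfl⟩
    rw [blockRank, e1, hL, Fintype.range_linearCombination]
  set w : Fin h → (members B → ℂ) := fun j χ => (c ((j : ℕ) + 1) (χ : IrrCharacter G) : ℂ) with hw
  have hker : ∀ j, w j ∈ LinearMap.ker L := by
    intro j
    rw [LinearMap.mem_ker, hL, Fintype.linearCombination_apply]
    funext x
    simp only [Finset.sum_apply, Pi.smul_apply, smul_eq_mul, Pi.zero_apply, hv, hw, pRegularPart]
    by_cases hx : IsPRegular 2 x
    · simp only [if_pos hx]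
      have := j.2
      rw [← DihedralDefectMain79.regular hM S hζ hc (show (j : ℕ) + 1 < 2 * h by omega) hx]
      exact Finset.sum_coe_sort (members B) fun χ => (c ((j : ℕ) + 1) χ : ℂ) * (χ : G → ℂ) x
    · simp only [if_neg hx, mul_zero, Finset.sum_const_zero]
  have hli : LinearIndependent ℂ w := by
    rw [Fintype.linearIndependent_iff]
    intro x hx
    set T := ∑ j, x j with hT
    have hrow : ∀ i : Fin h, 2 * x i =
        (if (i : ℕ) + 1 = h then 2 * T else 0) - 4 * T := by
      intro i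
      have hi := i.2
      have e1 : ∑ j, x j * classInner (eta P s ζ h ((j : ℕ) + 1)) (eta P s ζ h ((i : ℕ) + 1)) = 0 := by
        have e2 : ∀ j : Fin h, classInner (eta P s ζ h ((j : ℕ) + 1)) (eta P s ζ h ((i : ℕ) + 1)) =
            ∑ χ : members B, w j χ * w i χ := fun j => by
          have := j.2
          rw [← DihedralDefectMain79.gram hM S hζ hc (show (j : ℕ) + 1 < 2 * h by omega)
            (show (i : ℕ) + 1 < 2 * h by omega), ← Finset.sum_coe_sort]
        simp only [e2, Finset.mul_sum]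
        rw [Finset.sum_comm]
        refine Finset.sum_eq_zero fun χ _ => ?_
        have e3 := congrFun hx χ
        simp only [Finset.sum_apply, Pi.smul_apply, smul_eq_mul, Pi.zero_apply] at e3
        simp only [← mul_assoc, ← Finset.sum_mul, e3, zero_mul]
      have e2 : ∀ j : Fin h, classInner (eta P s ζ h ((j : ℕ) + 1)) (eta P s ζ h ((i : ℕ) + 1)) =
          2 + (if j = i then (if (i : ℕ) + 1 = h then (2 : ℂ) else 1) else 0) := by
        intro j
        have := j.2
        rw [gram_eta S.dih hζ (by omega) (by omega) (by omega) (by omega)]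
        by_cases hji : j = i
        · subst hji
          rw [if_pos rfl, if_pos rfl]
          split_ifs <;> norm_num
        · rw [if_neg fun e4 => hji (Fin.ext (by omega)), if_neg hji, add_zero]
      simp only [e2, mul_add, Finset.sum_add_distrib, mul_ite, mul_zero, Finset.sum_ite_eq',
        Finset.mem_univ, if_true, ← Finset.sum_mul, ← hT] at e1
      by_cases hl : (i : ℕ) + 1 = h
      · simp only [if_pos hl] at e1 ⊢; linear_combination e1
      · simp only [if_neg hl] at e1 ⊢; linear_combination 2 * e1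
    have hT0 : T = 0 := by
      have e1 : 2 * T = ∑ i : Fin h, ((if (i : ℕ) + 1 = h then 2 * T else 0) - 4 * T) := by
        conv_lhs => rw [hT, Finset.mul_sum]
        exact Finset.sum_congr rfl fun i _ => hrow i
      rw [Finset.sum_sub_distrib, Finset.sum_eq_single (⟨h - 1, by omega⟩ : Fin h),
        if_pos (show h - 1 + 1 = h by omega), Finset.sum_const, Finset.card_univ, Fintype.card_fin,
        nsmul_eq_mul] at e1
      · have e3 : (h : ℂ) * (4 * T) = 0 := by linear_combination e1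
        simpa [hh.ne'] using e3
      · intro i _ hne
        exact if_neg fun e4 => hne (Fin.ext (show (i : ℕ) = h - 1 by omega))
      · exact fun hn => absurd (Finset.mem_univ _) hn
    intro i
    have := hrow i
    simp only [hT0, mul_zero, ite_self, sub_zero] at this
    simpa using this
  -- the new relation
  set vy : members B → ℂ := fun χ => conj (((χ : IrrCharacter G) : G → ℂ) y) with hvy
  have hvker : vy ∈ LinearMap.ker L := by
    rw [LinearMap.mem_ker, hL, Fintype.linearCombination_apply]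
    funext x
    simp only [Finset.sum_apply, Pi.smul_apply, smul_eq_mul, Pi.zero_apply, hv, hvy, pRegularPart]
    by_cases hx : IsPRegular 2 x
    · simp only [if_pos hx]
      rw [Finset.sum_coe_sort (members B) fun χ => conj ((χ : G → ℂ) y) * (χ : G → ℂ) x,
        ← BlockTheoryIdem.weak_orthogonality hM S.hB hx hy, ← filter_eq_members, Finset.sum_filter]
      exact Finset.sum_congr rfl fun χ _ => by split_ifs <;> ring
    · simp only [if_neg hx, mul_zero, Finset.sum_const_zero]
  let ψ : (members B → ℂ) →ₗ[ℂ] ℂ :=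
    Fintype.linearCombination ℂ fun χ : members B => ((χ : IrrCharacter G) : G → ℂ) y
  have hψ : ∀ f, ψ f = ∑ χ : members B, f χ * ((χ : IrrCharacter G) : G → ℂ) y := fun f => by
    simp [ψ, Fintype.linearCombination_apply]
  have hψw : ∀ j, ψ (w j) = 0 := by
    intro j
    have := j.2
    have hj : (j : ℕ) + 1 < 2 * h := by omega
    have h0 := column_value hM S (eta_classFun S.dih hζ ((j : ℕ) + 1)) y
    rw [CharInduced.ind_eq_zero_of_vanish C _ y fun x k hk => starF_supp' hM S (eta_supp hM S _) k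
      (hk ▸ hyC x)] at h0
    rw [hψ, Finset.sum_coe_sort (members B) fun χ => (c ((j : ℕ) + 1) χ : ℂ) * (χ : G → ℂ) y]
    rw [← DihedralDefectMain79.sum_members hM S hζ (fun χ => (χ : G → ℂ) y) _
      (eta_classFun S.dih hζ ((j : ℕ) + 1)) (eta_supp hM S _)] at h0
    rw [← h0]
    exact Finset.sum_congr rfl fun χ _ => by rw [hc _ hj, map_intCast]
  have hψv : ψ vy ≠ 0 := by
    obtain ⟨χ, hχ, hne⟩ := hy0
    rw [hψ]
    simp only [hvy, ← Complex.normSq_eq_conj_mul_self]
    rw [← Complex.ofReal_sum, Complex.ofReal_ne_zero]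
    refine (Finset.sum_pos' (fun i _ => Complex.normSq_nonneg _)
      ⟨⟨χ, mem_members.2 hχ⟩, Finset.mem_univ _, ?_⟩).ne'
    exact Complex.normSq_pos.2 hne
  have hlt : Submodule.span ℂ (Set.range w) < LinearMap.ker L := by
    refine lt_of_le_of_ne (Submodule.span_le.2 (Set.range_subset_iff.2 hker)) fun heq => hψv ?_
    have hle : Submodule.span ℂ (Set.range w) ≤ LinearMap.ker ψ :=
      Submodule.span_le.2 (Set.range_subset_iff.2 fun j => LinearMap.mem_ker.2 (hψw j))
    exact LinearMap.mem_ker.1 (hle (heq ▸ hvker))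
  have h1 := Submodule.finrank_lt_finrank_of_lt hlt
  rw [finrank_span_eq_card hli, Fintype.card_fin] at h1
  have h3 := LinearMap.finrank_range_add_finrank_ker L
  rw [Module.finrank_fintype_fun_eq_card, Fintype.card_coe, ← hrange] at h3
  omega

end Sect

/-- The data at the rotation, which is kept. -/
theorem exists_sect_rot (hM : IsPModular 2 M) (hB : IsPBlock M B) {D : Subgroup G}
    (hD : IsDefectGroup 2 M B D) {h : ℕ} {σ : G} (hd : Dih h D σ) :
    ∃ (C : Subgroup G) (b : Set (IrrCharacter C)) (P : Subgroup C)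
      (e : Set (IrrCharacter (Cen P))) (s : C) (χ₀ : IrrCharacter C),
      Sect M B h C b P e s χ₀ ∧ (s : G) = σ := by
  haveI : Fact (Nat.Prime 2) := ⟨Nat.prime_two⟩
  have hQD : Subgroup.zpowers (σ ^ h) ≤ D := Subgroup.zpowers_le.2 (pow_mem hd.mem h)
  have hDQ : D ≤ Cen (Subgroup.zpowers (σ ^ h)) := fun u hu => by
    rw [BlockCyclicRank81.centralizer_zpowers]
    exact (mul_inv_eq_iff_eq_mul.1 (J_comm hd hu)).symm
  obtain ⟨c, hc⟩ := Star80Nilpotent.exists_maximal hM hB hD
  obtain ⟨b, hb⟩ := exists_subpair hM hc.1.1 hQD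
  obtain ⟨c₀, hc₀, -⟩ := BrauerPairs81Induced.exists_maximal_cen hM hc hQD hDQ hb
  have hQb := isBrauerPairOf_down hM hb hc.1
  have hind := BlockCyclicRank81.induced_of_pairOf hM hQb
  have hd' : Dih h (D.subgroupOf (Cen (Subgroup.zpowers (σ ^ h)))) ⟨σ, hDQ hd.mem⟩ :=
    dih_subgroupOf hd hDQ (hDQ hd.mem)
  have hdef : blockDefect 2 b = blockDefect 2 B := by
    refine Nat.pow_right_injective le_rfl ?_
    show (2 : ℕ) ^ blockDefect 2 b = 2 ^ blockDefect 2 B
    rw [← BlockContribBounds.card_defectGroup hM hB hD,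
      ← BlockContribBounds.card_defectGroup hM hc₀.1.2.1 (isDefectGroup_of_maximal hM hc₀)]
    exact Nat.card_congr (Subgroup.subgroupOfEquivOfLe hDQ).toEquiv
  have hnil : IsNilpotentBlock 2 M b := by
    refine BrauerPairs81Nilpotent.nilpotent_of_below hM hc₀ fun a ha x hx hreg => ?_
    refine mem_centralizer hd' (subgroup_le_of_subpairLE ha) (stab_le_normalizer a hx) ?_ hreg
    refine Subtype.ext ?_
    show (x : G) * (⟨σ, hDQ hd.mem⟩ ^ h : Cen (Subgroup.zpowers (σ ^ h))) =
      (⟨σ, hDQ hd.mem⟩ ^ h : Cen (Subgroup.zpowers (σ ^ h))) * (x : G)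
    rw [Subgroup.coe_pow]
    exact ((BlockCyclicRank81.centralizer_zpowers _ _).1 x.2).symm.eq
  obtain ⟨χ₀, hχ₀, hχ₀h⟩ := BlockContrib.exists_height_zero hM hc₀.1.2.1
  refine ⟨_, b, D.subgroupOf (Cen (Subgroup.zpowers (σ ^ h))), c₀, ⟨σ, hDQ hd.mem⟩, χ₀,
    ⟨hB, hd', fun g => ?_, hind, hdef, hc₀, hnil, hχ₀, hχ₀h⟩, rfl⟩
  rw [Subgroup.coe_pow]
  exact BlockCyclicRank81.centralizer_zpowers _ _

/-- A dihedral block with an involution of the defect group outside the class of the central one. -/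
theorem rank_le_two_of_not_conj (hM : IsPModular 2 M) (hB : IsPBlock M B) {D : Subgroup G}
    (hD : IsDefectGroup 2 M B D) {h : ℕ} {σ : G} (hd : Dih h D σ) {t : G} (htD : t ∈ D)
    (hto : orderOf t = 2) (hnc : ∀ g : G, g * σ ^ h * g⁻¹ ≠ t) : blockRank 2 B ≤ 2 := by
  haveI : Fact (Nat.Prime 2) := ⟨Nat.prime_two⟩
  have hh := hd.two_le
  obtain ⟨C, b, P, e, s, χ₀, S, hs⟩ := exists_sect_rot hM hB hD hd
  obtain ⟨ζ, hζ⟩ : ∃ ζ : ℂ, IsPrimitiveRoot ζ (2 * h) :=
    ⟨_, Complex.isPrimitiveRoot_exp _ (by omega)⟩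
  -- a singular element over `t` where the block does not vanish
  obtain ⟨c, hc⟩ := Star80Nilpotent.exists_maximal hM hB hD
  obtain ⟨bt, hbt⟩ := exists_subpair hM hc.1.1 (Subgroup.zpowers_le.2 htD)
  have hmem := BlockCyclicRank81.mem_subs hM (isBrauerPairOf_down hM hbt hc.1)
  have hsec := BlockCyclicRank81.sum_section hM hB (u := t) ⟨1, by rw [hto, pow_one]⟩
  have hpos : 0 < ∑ b' ∈ BlockCyclicRank81.subs M B t, blockRank 2 b' :=
    lt_of_lt_of_le (BlockCyclicRank81.blockRank_pos hM (Finset.mem_filter.1 hmem).2.1)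
      (Finset.single_le_sum (fun b' _ => Nat.zero_le _) hmem)
  obtain ⟨r, hr, hr0⟩ : ∃ r : Cen (Subgroup.zpowers t), ¬ 2 ∣ orderOf r ∧
      BlockCyclicRank81.blockSq B (t * r) ≠ 0 := by
    by_contra! hn
    rw [Finset.sum_eq_zero fun r hr => hn r (Finset.mem_filter.1 hr).2] at hsec
    rcases mul_eq_zero.1 hsec.symm with e1 | e1
    · exact Nat.card_pos.ne' (Nat.cast_eq_zero.1 e1)
    · exact hpos.ne' (Nat.cast_eq_zero.1 e1)
  obtain ⟨χ, hχ, hχ0⟩ : ∃ χ ∈ B, (χ : G → ℂ) (t * (r : G)) ≠ 0 := by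
    by_contra! hn
    refine hr0 (Finset.sum_eq_zero fun χ _ => ?_)
    split_ifs with hχ
    · rw [hn χ hχ, zero_mul]
    · rfl
  have hcomm : Commute t (r : G) := (BlockCyclicRank81.centralizer_zpowers t _).1 r.2
  have hro : ¬ 2 ∣ orderOf (r : G) := by rwa [Subgroup.orderOf_coe]
  have hyo : orderOf (t * (r : G)) = 2 * orderOf (r : G) := by
    rw [hcomm.orderOf_mul_eq_mul_orderOf_of_coprime
      (by rw [hto]; exact Nat.prime_two.coprime_iff_not_dvd.2 hro), hto]
  have hyC : ∀ x : G, ((s ^ h : C) : G) ∉ Subgroup.zpowers (x⁻¹ * (t * (r : G)) * x) := by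
    intro x hx
    rw [Subgroup.coe_pow, hs] at hx
    obtain ⟨z, hz : (x⁻¹ * (t * (r : G)) * x) ^ z = σ ^ h⟩ := hx
    have h1 : (t * (r : G)) ^ z = x * σ ^ h * x⁻¹ := by
      rw [← hz, show x⁻¹ * (t * (r : G)) * x = x⁻¹ * (t * (r : G)) * (x⁻¹)⁻¹ by rw [inv_inv],
        conj_zpow]
      group
    obtain ⟨k, hk⟩ : Odd (orderOf (r : G)) := Nat.odd_iff.mpr (by omega)
    have h2 : (x * σ ^ h * x⁻¹) ^ orderOf (r : G) = x * σ ^ h * x⁻¹ := by
      rw [hk, pow_succ, pow_mul, show (x * σ ^ h * x⁻¹) ^ 2 = 1 by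
        rw [conj_pow, ← pow_mul, mul_comm h 2, pow_two_h hd, mul_one, mul_inv_cancel], one_pow,
        one_mul]
    have h3 : x * σ ^ h * x⁻¹ = t ^ (z * (orderOf (r : G) : ℤ)) := by
      rw [← h2, ← h1, ← zpow_natCast, ← zpow_mul, hcomm.mul_zpow, mul_comm z (orderOf (r : G) : ℤ),
        zpow_mul (r : G), zpow_natCast (r : G), pow_orderOf_eq_one, one_zpow, mul_one]
    have ht2 : t ^ (2 : ℤ) = 1 := by
      rw [show (2 : ℤ) = ((2 : ℕ) : ℤ) from rfl, zpow_natCast, ← hto, pow_orderOf_eq_one]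
    obtain ⟨m, hm | hm⟩ := Int.even_or_odd' (z * (orderOf (r : G) : ℤ))
    · rw [hm, zpow_mul, ht2, one_zpow, conj_eq_one_iff] at h3
      have := orderOf_dvd_of_pow_eq_one h3
      rw [hd.order] at this
      have := Nat.le_of_dvd (by omega) this
      omega
    · rw [hm, zpow_add, zpow_mul, ht2, one_zpow, one_mul, zpow_one] at h3
      exact hnc x h3
  have h1 := rank_add_succ_le hM S hζ (y := t * (r : G)) (hyo ▸ dvd_mul_right 2 _) hyC
    ⟨χ, hχ, hχ0⟩
  have h2 := (DihedralDefectMain79.main hM S hζ (by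
    obtain ⟨k, hk⟩ := hd.two_pow
    rcases k with _ | _ | _ | k
    · rw [pow_zero] at hk; omega
    · left; rw [hk]; rfl
    · right; left; rw [hk]; rfl
    · right; right
      rw [hk]
      exact le_trans (by norm_num) (Nat.pow_le_pow_right two_pos (show 3 ≤ k + 3 by omega)))).1
  rw [card_members] at h2
  omega

/-- A semidihedral group, with a rotation and an involution outside. -/
theorem exists_mc {D : Subgroup G} (hD : IsQuasiDihedral D) :
    ∃ (h q : ℕ) (σ y : G), 4 ≤ h ∧ MaxClassGroup79.MC h q D σ ∧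
      y ∈ D ∧ y ∉ Subgroup.zpowers σ ∧ y * y = 1 := by
  obtain ⟨n, hn, hcard, x, y, hx, hy, hxy⟩ := hD
  have h2n : 2 * 2 ^ (n - 1) = 2 ^ n := by rw [← pow_succ']; congr 1; omega
  have h4 : 4 ≤ 2 ^ (n - 1) :=
    le_trans (by norm_num) (Nat.pow_le_pow_right two_pos (show 2 ≤ n - 1 by omega))
  set h := 2 ^ (n - 1) with hh
  have hox : orderOf (x : G) = 2 * h := by rw [Subgroup.orderOf_coe, hx, h2n]
  have hy2 : y * y = 1 := by rw [← pow_two, ← hy, pow_orderOf_eq_one]
  have hxy' : (y : G) * (x : G) * (y : G)⁻¹ = (x : G) ^ (h - 1) := by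
    rw [← Subgroup.coe_mul, ← Subgroup.coe_inv, ← Subgroup.coe_mul, hxy, Subgroup.coe_pow]
  have hyx : (y : G) ∉ Subgroup.zpowers (x : G) := by
    rintro ⟨i, hi⟩
    have hi' : (x : G) ^ i = (y : G) := hi
    rw [← hi', show (x : G) ^ i * (x : G) * ((x : G) ^ i)⁻¹ = (x : G) by group,
      show h - 1 = h - 2 + 1 by omega, pow_succ, eq_comm, mul_eq_right] at hxy'
    have h5 := orderOf_dvd_of_pow_eq_one hxy'
    rw [hox] at h5
    have := Nat.le_of_dvd (by omega) h5
    omega
  have hi : ((Subgroup.zpowers (x : G)).subgroupOf D).index = 2 := by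
    have h1 := ((Subgroup.zpowers (x : G)).subgroupOf D).index_mul_card
    rw [Nat.card_congr (Subgroup.subgroupOfEquivOfLe (Subgroup.zpowers_le.2 x.2)).toEquiv,
      Nat.card_zpowers, hox, hcard, pow_succ, ← h2n, Nat.mul_comm (2 * h) 2] at h1
    exact Nat.eq_of_mul_eq_mul_right (by omega) h1
  refine ⟨h, h - 1, x, y, h4, ⟨x.2, hox, ⟨n - 1, hh⟩, by omega, ?_, ?_, ⟨y, y.2, hyx⟩,
    Or.inr ⟨h4, by omega⟩⟩, y.2, hyx, congrArg Subtype.val hy2⟩
  · rw [hcard, pow_succ, ← h2n]; ring
  intro u hu hne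
  have hmem : (⟨u, hu⟩ : D) * y ∈ (Subgroup.zpowers (x : G)).subgroupOf D := by
    rw [Subgroup.mul_mem_iff_of_index_two hi, Subgroup.mem_subgroupOf, Subgroup.mem_subgroupOf]
    exact iff_of_false hne hyx
  obtain ⟨i, hi' : (x : G) ^ i = u * (y : G)⟩ := hmem
  have hyy : (y : G) * (y : G) = 1 := congrArg Subtype.val hy2
  have hyinv : (y : G)⁻¹ = y := inv_eq_of_mul_eq_one_right hyy
  have hu' : u = (x : G) ^ i * (y : G) := by rw [hi', mul_assoc, hyy, mul_one]
  constructor
  · rw [hu', mul_inv_rev, show (x : G) ^ i * (y : G) * (x : G) * ((y : G)⁻¹ * ((x : G) ^ i)⁻¹) =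
      (x : G) ^ i * ((y : G) * (x : G) * (y : G)⁻¹) * ((x : G) ^ i)⁻¹ by group, hxy']
    group
  · have hyi : (y : G) * (x : G) ^ i * (y : G)⁻¹ = (x : G) ^ (((h - 1 : ℕ) : ℤ) * i) := by
      rw [← conj_zpow, hxy', ← zpow_natCast, ← zpow_mul]
    have hsq : u * u = ((x : G) ^ h) ^ i := by
      calc u * u = (x : G) ^ i * ((y : G) * (x : G) ^ i * (y : G)⁻¹) := by
            rw [hu', hyinv]; group
        _ = (x : G) ^ (i + ((h - 1 : ℕ) : ℤ) * i) := by rw [hyi, zpow_add]
        _ = _ := by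
            rw [← zpow_natCast, ← zpow_mul]
            congr 1
            push_cast [show 1 ≤ h by omega]
            ring
    have hJ2 : ((x : G) ^ h) ^ (2 : ℤ) = 1 := by
      rw [show (2 : ℤ) = ((2 : ℕ) : ℤ) from rfl, zpow_natCast, ← pow_mul, mul_comm h 2, ← hox,
        pow_orderOf_eq_one]
    obtain ⟨m, hm | hm⟩ := Int.even_or_odd' i
    · left; rw [hsq, hm, zpow_mul, hJ2, one_zpow]
    · right; rw [hsq, hm, zpow_add, zpow_mul, hJ2, one_zpow, one_mul, zpow_one]

/-- The scalar by which a central element acts. -/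
noncomputable def lam (z : G) (ξ : IrrCharacter G) : ℂ := (ξ : G → ℂ) z / (ξ : G → ℂ) 1

theorem lam_mul {z : G} (hz : z ∈ Subgroup.center G) (ξ : IrrCharacter G) (c : G) :
    (ξ : G → ℂ) (z * c) = lam z ξ * (ξ : G → ℂ) c := by
  have h1 := BlockTheoryCentre.irr_one_ne_zero ξ
  simp only [lam]
  obtain ⟨n, ρ, hirr, hρ⟩ := ξ.2
  obtain ⟨s, hs⟩ := CharBasic.exists_scalar_of_mem_center ρ hz
  have key : ∀ d : G, ρ.character (z * d) = s * ρ.character d := fun d => by
    show LinearMap.trace ℂ _ (ρ (z * d)) = s * LinearMap.trace ℂ _ (ρ d)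
    rw [map_mul, hs, ← Module.End.one_eq_id, smul_mul_assoc, one_mul, map_smul, smul_eq_mul]
  rw [← hρ] at h1 ⊢
  have h2 := key 1
  rw [mul_one] at h2
  rw [key, h2, mul_div_assoc, div_self h1, mul_one]

theorem lam_pow {z : G} (hz : z ∈ Subgroup.center G) (ξ : IrrCharacter G) :
    ∀ j : ℕ, lam (z ^ j) ξ = lam z ξ ^ j
  | 0 => by simp [lam, BlockTheoryCentre.irr_one_ne_zero ξ]
  | j + 1 => by
    rw [pow_succ', pow_succ', ← lam_pow hz ξ j]
    conv_lhs => rw [lam, lam_mul hz]
    simp only [lam]; ring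

section Slice

variable {p : ℕ} [Fact p.Prime] {b : Set (IrrCharacter G)} {z : G}

/-- The members trivial on `z`. -/
noncomputable def slice (b : Set (IrrCharacter G)) (z : G) : Finset (IrrCharacter G) :=
  (members b).filter fun ξ => lam z ξ = 1

theorem mem_slice {ξ : IrrCharacter G} : ξ ∈ slice b z ↔ ξ ∈ b ∧ lam z ξ = 1 := by
  rw [slice, Finset.mem_filter, mem_members]

theorem lam_pow_p (hzc : z ∈ Subgroup.center G) (hzo : orderOf z = p) (ξ : IrrCharacter G) :
    lam z ξ ^ p = 1 := by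
  rw [← lam_pow hzc, ← hzo, pow_orderOf_eq_one, lam, div_self (BlockTheoryCentre.irr_one_ne_zero ξ)]

/-- On the regular elements the members trivial on `z` carry a `p`-th of the block. -/
theorem sum_slice (hM : IsPModular p M) (hb : IsPBlock M b) (hzc : z ∈ Subgroup.center G)
    (hzo : orderOf z = p) {g h : G} (hg : ¬ p ∣ orderOf g) (hh : ¬ p ∣ orderOf h) :
    (p : ℂ) * ∑ ξ ∈ slice b z, (ξ : G → ℂ) g * conj ((ξ : G → ℂ) h) =
      ∑ ξ ∈ members b, (ξ : G → ℂ) g * conj ((ξ : G → ℂ) h) := by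
  have hp := hM.1
  have hgeo : ∀ ξ : IrrCharacter G, ∑ s ∈ Finset.range p, conj (lam z ξ ^ s) =
      if lam z ξ = 1 then (p : ℂ) else 0 := by
    intro ξ
    split_ifs with h1
    · simp [h1]
    · simp only [map_pow]
      rw [geom_sum_eq (fun h2 => h1 (by simpa using congrArg conj h2)), ← map_pow,
        lam_pow_p hzc hzo, map_one, sub_self, zero_div]
  have hsing : ∀ s ∈ Finset.range p, s ≠ 0 →
      ∑ ξ ∈ members b, (ξ : G → ℂ) g * conj ((ξ : G → ℂ) (z ^ s * h)) = 0 := by
    intro s hs hs0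
    rw [← filter_eq_members, Finset.sum_filter]
    refine BlockTheoryIdem.weak_orthogonality hM hb hg ?_
    have hsp : ¬ p ∣ s := fun hd =>
      absurd (Finset.mem_range.1 hs) (not_lt.2 (Nat.le_of_dvd (Nat.pos_of_ne_zero hs0) hd))
    have ho : orderOf (z ^ s) = p := by
      rw [Nat.Coprime.orderOf_pow (by rw [hzo]; exact hp.coprime_iff_not_dvd.2 hsp), hzo]
    have hc : Commute (z ^ s) h :=
      ((Subgroup.mem_center_iff.1 (pow_mem hzc s) h).symm : _)
    rw [hc.orderOf_mul_eq_mul_orderOf_of_coprime (by rw [ho]; exact hp.coprime_iff_not_dvd.2 hh), ho]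
    exact dvd_mul_right _ _
  symm
  calc ∑ ξ ∈ members b, (ξ : G → ℂ) g * conj ((ξ : G → ℂ) h)
      = ∑ s ∈ Finset.range p, ∑ ξ ∈ members b, (ξ : G → ℂ) g * conj ((ξ : G → ℂ) (z ^ s * h)) := by
        rw [Finset.sum_eq_single_of_mem 0 (Finset.mem_range.2 hp.pos) hsing]
        simp
    _ = ∑ ξ ∈ members b, if lam z ξ = 1 then (p : ℂ) * ((ξ : G → ℂ) g * conj ((ξ : G → ℂ) h)) else 0 := by
        rw [Finset.sum_comm]
        refine Finset.sum_congr rfl fun ξ _ => ?_
        simp only [lam_mul (pow_mem hzc _), lam_pow hzc, map_mul]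
        rw [Finset.sum_congr rfl (g := fun s => conj (lam z ξ ^ s) *
          ((ξ : G → ℂ) g * conj ((ξ : G → ℂ) h))) fun s _ => by ring, ← Finset.sum_mul, hgeo]
        split_ifs <;> simp
    _ = _ := by
        rw [slice, Finset.sum_filter, Finset.mul_sum]
        refine Finset.sum_congr rfl fun ξ _ => ?_
        split_ifs <;> simp

end Slice

/-- The rank drops to that of the quotient block by a central involution. -/
theorem rank_le_quot (hM : IsPModular 2 M) (hB : IsPBlock M B) {z : G}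
    (hzc : z ∈ Subgroup.center G) (hzo : orderOf z = 2) [(Subgroup.zpowers z).Normal]
    {Bb : Set (IrrCharacter (G ⧸ Subgroup.zpowers z))}
    (hBb : ∀ χ, BlockQuotient78.infl (Subgroup.zpowers z) χ ∈ B → χ ∈ Bb) :
    blockRank 2 B ≤ blockRank 2 Bb := by
  haveI : Fact (Nat.Prime 2) := ⟨Nat.prime_two⟩
  set W := Subgroup.zpowers z
  let Φ : (G ⧸ W → ℂ) →ₗ[ℂ] (G → ℂ) :=
    { toFun := fun f => pRegularPart 2 fun g => f (g : G ⧸ W)
      map_add' := fun a b => funext fun g => by
        simp only [pRegularPart, Pi.add_apply]; split_ifs <;> simp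
      map_smul' := fun a f => funext fun g => by
        simp only [pRegularPart, Pi.smul_apply, RingHom.id_apply]; split_ifs <;> simp }
  set V := (Submodule.span ℂ
    ((fun χ : IrrCharacter (G ⧸ W) => pRegularPart 2 (χ : G ⧸ W → ℂ)) '' Bb)).map Φ
  have hslice : ∀ ξ ∈ slice B z, pRegularPart 2 (ξ : G → ℂ) ∈ V := by
    intro ξ hξ
    obtain ⟨hξB, hξl⟩ := mem_slice.1 hξ
    have htriv : ∀ u ∈ W, (ξ : G → ℂ) u = (ξ : G → ℂ) 1 := by
      intro u hu
      obtain ⟨i, rfl⟩ := (isOfFinOrder_of_finite z).mem_powers_iff_mem_zpowers.2 hu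
      have h := lam_pow hzc ξ i
      rw [hξl, one_pow, lam, div_eq_one_iff_eq (BlockTheoryCentre.irr_one_ne_zero ξ)] at h
      exact h
    obtain ⟨χ, hχ⟩ := CharKernel.exists_quot_irr W ξ htriv
    have he : BlockQuotient78.infl W χ = ξ :=
      Subtype.ext (funext fun g => (BlockQuotient78.infl_apply W χ g).trans (hχ g).symm)
    refine ⟨pRegularPart 2 (χ : G ⧸ W → ℂ),
      Submodule.subset_span ⟨χ, hBb χ (he ▸ hξB), rfl⟩, funext fun g => ?_⟩
    show pRegularPart 2 (fun g : G => pRegularPart 2 (χ : G ⧸ W → ℂ) g) g = _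
    simp only [pRegularPart]
    split_ifs with hg hg'
    · exact (hχ g).symm
    · exact absurd (fun hd => hg (hd.trans (orderOf_map_dvd (QuotientGroup.mk' W) g))) hg'
    · rfl
  refine le_trans (Submodule.finrank_mono ?_) (Submodule.finrank_map_le Φ _)
  rw [Submodule.span_le]
  rintro _ ⟨η, hη, rfl⟩
  by_contra hn
  obtain ⟨φ, hφη, hφV⟩ := Submodule.exists_dual_map_eq_bot_of_notMem hn inferInstance
  refine hφη ?_
  set a : IrrCharacter G → ℂ := fun ξ => φ (pRegularPart 2 (ξ : G → ℂ)) with ha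
  set w : G → ℂ := fun g => if IsPRegular 2 g then φ (Pi.single g 1) else 0 with hw
  have hval : ∀ ξ : IrrCharacter G, a ξ = ∑ g : G, (ξ : G → ℂ) g * w g := by
    intro ξ
    rw [ha]
    dsimp only
    conv_lhs => rw [← (Pi.basisFun ℂ G).sum_repr (pRegularPart 2 (ξ : G → ℂ))]
    rw [map_sum]
    refine Finset.sum_congr rfl fun g _ => ?_
    rw [map_smul, Pi.basisFun_repr, Pi.basisFun_apply, smul_eq_mul, hw]
    simp only [pRegularPart]
    split_ifs <;> simp
  have hexp : ∀ s : Finset (IrrCharacter G), ∑ ξ ∈ s, a ξ * conj (a ξ) =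
      ∑ g : G, ∑ k : G, w g * conj (w k) * ∑ ξ ∈ s, (ξ : G → ℂ) g * conj ((ξ : G → ℂ) k) := by
    intro s
    simp only [hval, map_sum, map_mul, Finset.sum_mul, Finset.mul_sum]
    rw [Finset.sum_comm]
    conv_rhs => rw [Finset.sum_comm]
    refine Finset.sum_congr rfl fun g _ => ?_
    rw [Finset.sum_comm]
    exact Finset.sum_congr rfl fun k _ => Finset.sum_congr rfl fun ξ _ => by ring
  have hzero : ∑ ξ ∈ members B, a ξ * conj (a ξ) = 0 := by
    have h0 : ∑ ξ ∈ slice B z, a ξ * conj (a ξ) = 0 :=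
      Finset.sum_eq_zero fun ξ hξ => by
        have : a ξ = 0 := by
          have := Submodule.mem_map_of_mem (f := φ) (hslice ξ hξ)
          rwa [hφV, Submodule.mem_bot] at this
        rw [this, zero_mul]
    rw [← mul_zero (2 : ℂ), ← h0, hexp, hexp, Finset.mul_sum]
    refine Finset.sum_congr rfl fun g _ => ?_
    rw [Finset.mul_sum]
    refine Finset.sum_congr rfl fun k _ => ?_
    by_cases hg : IsPRegular 2 g
    · by_cases hk : IsPRegular 2 k
      · rw [← sum_slice hM hB hzc hzo hg hk]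
        push_cast; ring
      · simp [hw, hk]
    · simp [hw, hg]
  simp only [Complex.mul_conj] at hzero
  rw [← Complex.ofReal_sum, Complex.ofReal_eq_zero,
    Finset.sum_eq_zero_iff_of_nonneg fun i _ => Complex.normSq_nonneg _] at hzero
  exact Complex.normSq_eq_zero.1 (hzero η (mem_members.2 hη))

/-- A block with semidihedral defect group and a central involution has rank at most two. -/
theorem rank_le_two (hM : IsPModular 2 M) (hB : IsPBlock M B) {D : Subgroup G}
    (hD : IsDefectGroup 2 M B D) (hq : IsQuasiDihedral D) {z : G}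
    (hzc : z ∈ Subgroup.center G) (hzo : orderOf z = 2) : blockRank 2 B ≤ 2 := by
  haveI : Fact (Nat.Prime 2) := ⟨Nat.prime_two⟩
  obtain ⟨h, q, σ, y, h4, hd, hyD, hyσ, hy2⟩ := exists_mc hq
  haveI : (Subgroup.zpowers z).Normal :=
    zpowers_normal hzc
  have hzD : z ∈ D := normal_le_defectGroup hM hB hD (Subgroup.zpowers z)
    (IsPGroup.of_card (n := 1) (by rw [Nat.card_zpowers, hzo, pow_one])) (Subgroup.mem_zpowers z)
  have hz2 : z * z = 1 := by rw [← pow_two, ← hzo, pow_orderOf_eq_one]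
  obtain rfl : z = σ ^ h := by
    have hrot : z ∈ Subgroup.zpowers σ := by
      by_contra hn
      have h1 := (hd.refl z hzD hn).1
      rw [← Subgroup.mem_center_iff.1 hzc σ, mul_inv_cancel_right] at h1
      rcases hd.twist with e | ⟨-, e⟩
      · rw [show q = q - 1 + 1 by omega, pow_succ, eq_comm, mul_eq_right] at h1
        have := orderOf_dvd_of_pow_eq_one h1
        rw [hd.order] at this
        have := Nat.le_of_dvd (by omega) this
        omega
      · rw [show q = q - 1 + 1 by omega, pow_succ, eq_comm, mul_eq_right] at h1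
        have := orderOf_dvd_of_pow_eq_one h1
        rw [hd.order] at this
        have := Nat.le_of_dvd (by omega) this
        omega
    rcases MaxClassGroup79.sq_one_rot hd hrot hz2 with e | e
    · rw [e, orderOf_one] at hzo; omega
    · exact e
  obtain ⟨Bb, hBb, hDb, hiff, -, -⟩ :=
    MaxClassQuotient79.exists_quot hM hB hD hzc hzo
  refine (rank_le_quot hM hB hzc hzo fun χ => (hiff χ).2).trans ?_
  set π := QuotientGroup.mk' (Subgroup.zpowers (σ ^ h))
  have hdb := MaxClassCentral79.quot_dih hd h4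
  have hmemW : ∀ g : G, π g = 1 → g = 1 ∨ g = σ ^ h := by
    intro g hg
    obtain ⟨i, hi : (σ ^ h) ^ i = g⟩ := (QuotientGroup.eq_one_iff g).1 hg
    have hJ2 : (σ ^ h) ^ (2 : ℤ) = 1 := by rw [zpow_two, hz2]
    obtain ⟨m, hm | hm⟩ := Int.even_or_odd' i
    · left; rw [← hi, hm, zpow_mul, hJ2, one_zpow]
    · right; rw [← hi, hm, zpow_add, zpow_mul, hJ2, one_zpow, one_mul, zpow_one]
  have hy1 : π y ≠ 1 := by
    intro e
    rcases hmemW y e with e1 | e1 <;> exact hyσ (e1 ▸ by first
      | exact Subgroup.one_mem _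
      | exact Subgroup.npow_mem_zpowers σ h)
  refine rank_le_two_of_not_conj hM hBb hDb hdb (Subgroup.mem_map_of_mem _ hyD)
    (orderOf_eq_prime (by rw [pow_two, ← map_mul, hy2, map_one]) hy1) fun g hg => ?_
  obtain ⟨g, rfl⟩ := QuotientGroup.mk'_surjective _ g
  rw [← map_inv, ← map_pow, ← map_mul, ← map_mul] at hg
  have h2 : π (y⁻¹ * (g * σ ^ (h / 2) * g⁻¹)) = 1 := by rw [map_mul, map_inv, hg, inv_mul_cancel]
  have hsq : g * σ ^ (h / 2) * g⁻¹ * (g * σ ^ (h / 2) * g⁻¹) = σ ^ h := by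
    rw [show g * σ ^ (h / 2) * g⁻¹ * (g * σ ^ (h / 2) * g⁻¹) =
      g * (σ ^ (h / 2) * σ ^ (h / 2)) * g⁻¹ by group, ← pow_add,
      show h / 2 + h / 2 = h by obtain ⟨r, hr⟩ := MaxClassGroup79.even_h hd; omega,
      Subgroup.mem_center_iff.1 hzc g, mul_inv_cancel_right]
  have hne : σ ^ h ≠ 1 := fun e => by rw [e, orderOf_one] at hzo; omega
  rcases hmemW _ h2 with e | e
  · rw [inv_mul_eq_one] at e
    rw [← e, hy2] at hsq
    exact hne hsq.symm
  · rw [inv_mul_eq_iff_eq_mul] at e
    rw [e, show y * σ ^ h * (y * σ ^ h) = y * (σ ^ h * y) * σ ^ h by group,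
      ← Subgroup.mem_center_iff.1 hzc y, ← mul_assoc y y, hy2, one_mul, hz2] at hsq
    exact hne hsq.symm

/-- The centre has odd order. -/
theorem odd_center (hM : IsPModular 2 M) (hB : IsPBlock M B) {D : Subgroup G}
    (hD : IsDefectGroup 2 M B D)
    (hD' : (∃ n : ℕ, 3 ≤ n ∧ Nonempty (D ≃* DihedralGroup (2 ^ (n - 1)))) ∨ IsQuasiDihedral D)
    (hl : blockRank 2 B = 3) : Odd (Nat.card (Subgroup.center G)) := by
  haveI : Fact (Nat.Prime 2) := ⟨Nat.prime_two⟩
  rw [← Nat.not_even_iff_odd, even_iff_two_dvd]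
  intro hd2
  obtain ⟨z, hz⟩ := exists_prime_orderOf_dvd_card' 2 hd2
  have hzo : orderOf (z : G) = 2 := by rw [Subgroup.orderOf_coe, hz]
  rcases hD' with ⟨n, hn, hiso⟩ | hq
  · obtain ⟨σ, hd⟩ := exists_dih hn hiso
    have := rank_eq_one hM hB hD hd z.2 hzo
    omega
  · have := rank_le_two hM hB hD hq z.2 hzo
    omega

end Cfsg.Agent.DihedralCentral16
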