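import Mathlib

/-!
The four-subgroups of a group with dihedral Sylow 2-subgroup of order `> 4` fall into two
conjugacy classes.
-/

set_option autoImplicit false

namespace Cfsg.Agent.DihedralFour35

open DihedralGroup

variable {n a : ℕ}

/-- Reduction modulo `2 ^ a`. -/
noncomputable def red (h : a ≤ n + 1) : ZMod (2 ^ (n + 1)) →+* ZMod (2 ^ a) :=
  ZMod.castHom (pow_dvd_pow 2 h) _

theorem red_surjective (h : a ≤ n + 1) : Function.Surjective (red h) :=
  ZMod.castHom_surjective _

theorem red_eq_zero_iff (h : a ≤ n + 1) (y : ZMod (2 ^ (n + 1))) :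
    red h y = 0 ↔ 2 ^ a ∣ y.val := by
  rw [← ZMod.natCast_eq_zero_iff]
  conv_lhs => rw [← ZMod.natCast_zmod_val y, map_natCast]

/-- The dihedral subgroup of index `2 ^ a` containing `sr i`. -/
def dsub (h : a ≤ n + 1) (i : ZMod (2 ^ (n + 1))) : Subgroup (DihedralGroup (2 ^ (n + 1))) where
  carrier := {d | match d with | .r x => red h x = 0 | .sr x => red h x = red h i}
  one_mem' := map_zero (red h)
  mul_mem' := by
    intro u v hu hv
    cases u <;> cases v <;> simp_all [r_mul_r, r_mul_sr, sr_mul_r, sr_mul_sr]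
  inv_mem' := by
    intro u hu
    cases u <;> simp_all [inv_r, inv_sr]

theorem r_mem {h : a ≤ n + 1} {i x : ZMod (2 ^ (n + 1))} : r x ∈ dsub h i ↔ red h x = 0 :=
  Iff.rfl

theorem sr_mem {h : a ≤ n + 1} {i x : ZMod (2 ^ (n + 1))} :
    sr x ∈ dsub h i ↔ red h x = red h i :=
  Iff.rfl

/-- The rotations of a subgroup. -/
def rot (W : Subgroup (DihedralGroup (2 ^ (n + 1)))) : AddSubgroup (ZMod (2 ^ (n + 1))) where
  carrier := {y | r y ∈ W}
  zero_mem' := by simpa [← one_def] using W.one_mem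
  add_mem' := by
    intro x y hx hy
    simpa [r_mul_r] using W.mul_mem hx hy
  neg_mem' := by
    intro x hx
    simpa [inv_r] using W.inv_mem hx

theorem card_eq (W : Subgroup (DihedralGroup (2 ^ (n + 1)))) {l : ZMod (2 ^ (n + 1))}
    (hl : sr l ∈ W) : Nat.card W = 2 * Nat.card (rot W) := by
  let f : rot W ⊕ rot W → W := Sum.elim (fun y => ⟨r y.1, y.2⟩)
    (fun y => ⟨sr (l + y.1), by simpa [sr_mul_r] using W.mul_mem hl y.2⟩)
  have hf : Function.Bijective f := by
    constructor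
    · rintro (x | x) (y | y) e <;> have e' := congrArg Subtype.val e <;>
        simp only [f, Sum.elim_inl, Sum.elim_inr, r.injEq, sr.injEq, add_right_inj,
          reduceCtorEq] at e'
      · rw [Subtype.ext e']
      · rw [Subtype.ext e']
    · rintro ⟨d, hd⟩
      cases d with
      | r y => exact ⟨Sum.inl ⟨y, hd⟩, rfl⟩
      | sr y =>
        refine ⟨Sum.inr ⟨y - l, ?_⟩, Subtype.ext (by simp [f])⟩
        show r (y - l) ∈ W
        simpa [sr_mul_sr] using W.mul_mem hl hd
  rw [← Nat.card_eq_of_bijective f hf, Nat.card_sum]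
  ring

theorem card_rot_dsub (h : a ≤ n + 1) (i : ZMod (2 ^ (n + 1))) :
    Nat.card (rot (dsub h i)) = 2 ^ (n + 1 - a) := by
  have e : rot (dsub h i) = (red h).toAddMonoidHom.ker := by ext y; exact Iff.rfl
  have h1 := ((red h).toAddMonoidHom.ker).card_mul_index
  rw [AddSubgroup.index_ker] at h1
  have hr : Nat.card ((red h).toAddMonoidHom.range) = 2 ^ a := by
    rw [AddMonoidHom.range_eq_top.2 (red_surjective h), AddSubgroup.card_top, Nat.card_zmod]
  rw [hr, Nat.card_zmod, ← e] at h1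
  have h2 : (2 : ℕ) ^ (n + 1) = 2 ^ (n + 1 - a) * 2 ^ a := by
    rw [← pow_add, Nat.sub_add_cancel h]
  exact Nat.eq_of_mul_eq_mul_right (by positivity) (h1.trans h2)

theorem card_dsub (h : a ≤ n + 1) (i : ZMod (2 ^ (n + 1))) :
    Nat.card (dsub h i) = 2 * 2 ^ (n + 1 - a) := by
  rw [card_eq (dsub h i) (sr_mem.2 rfl), card_rot_dsub]

theorem red_half (h : a ≤ n) : red (Nat.le_succ_of_le h) ((2 ^ n : ℕ) : ZMod (2 ^ (n + 1))) = 0 := by
  rw [map_natCast, ZMod.natCast_eq_zero_iff]
  exact pow_dvd_pow 2 h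

theorem double_eq_zero (y : ZMod (2 ^ (n + 1))) (h : y + y = 0) :
    y = 0 ∨ y = ((2 ^ n : ℕ) : ZMod (2 ^ (n + 1))) := by
  have hv : ((y.val + y.val : ℕ) : ZMod (2 ^ (n + 1))) = 0 := by
    rw [Nat.cast_add, ZMod.natCast_zmod_val, h]
  rw [ZMod.natCast_eq_zero_iff] at hv
  obtain ⟨c, hc⟩ := hv
  have hlt := ZMod.val_lt y
  have hp : 2 ^ (n + 1) = 2 * 2 ^ n := by ring
  rcases c with - | - | c
  · left; exact (ZMod.val_eq_zero y).1 (by omega)
  · right
    rw [← ZMod.natCast_zmod_val y]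
    congr 1
    omega
  · exfalso
    have : 2 ^ (n + 1) * 2 ≤ 2 ^ (n + 1) * (c + 2) := Nat.mul_le_mul_left _ (by omega)
    have h2 : 2 ^ (n + 1) * 2 ≤ y.val + y.val := by rw [hc]; exact this
    omega

/-- A subgroup of the order of `dsub` with two distinct involutions is some `dsub`. -/
theorem exists_eq_dsub (h : a ≤ n + 1) (W : Subgroup (DihedralGroup (2 ^ (n + 1))))
    (hW : Nat.card W = 2 * 2 ^ (n + 1 - a)) {u v : DihedralGroup (2 ^ (n + 1))} (hu : u ∈ W)
    (hv : v ∈ W) (hu2 : u * u = 1) (hv2 : v * v = 1) (hu1 : u ≠ 1) (hv1 : v ≠ 1) (huv : u ≠ v) :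
    ∃ l, W = dsub h l := by
  obtain ⟨l, hl⟩ : ∃ l, sr l ∈ W := by
    cases u with
    | sr l => exact ⟨l, hu⟩
    | r x =>
      cases v with
      | sr l => exact ⟨l, hv⟩
      | r y =>
        exfalso
        rw [r_mul_r, one_def, r.injEq] at hu2 hv2
        rw [one_def, Ne, r.injEq] at hu1 hv1
        exact huv (congrArg r (((double_eq_zero x hu2).resolve_left hu1).trans
          ((double_eq_zero y hv2).resolve_left hv1).symm))
  have hcr : Nat.card (rot W) = 2 ^ (n + 1 - a) := by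
    have := card_eq W hl
    omega
  have key : ∀ y, r y ∈ W → red h y = 0 := by
    intro y hy
    have h0 : Nat.card (rot W) • (⟨y, hy⟩ : rot W) = 0 := card_nsmul_eq_zero'
    rw [hcr] at h0
    have h1 : (2 ^ (n + 1 - a) * y.val : ℕ) = ((0 : ℕ) : ZMod (2 ^ (n + 1))) := by
      have := congrArg Subtype.val h0
      rw [AddSubgroup.coe_nsmul, nsmul_eq_mul] at this
      simpa using this
    rw [Nat.cast_zero, ZMod.natCast_eq_zero_iff] at h1
    rw [red_eq_zero_iff]
    refine Nat.dvd_of_mul_dvd_mul_left (by positivity : 0 < 2 ^ (n + 1 - a)) ?_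
    rwa [← pow_add, Nat.sub_add_cancel h]
  refine ⟨l, Subgroup.eq_of_le_of_card_ge ?_ (by rw [hW, card_dsub])⟩
  intro d hd
  cases d with
  | r y => exact r_mem.2 (key y hd)
  | sr y =>
    have h1 := key (y - l) (by simpa [sr_mul_sr] using W.mul_mem hl hd)
    rw [map_sub, sub_eq_zero] at h1
    exact sr_mem.2 h1

theorem red_add_self {b : ℕ} (h : b + 1 ≤ n + 1) (y : ZMod (2 ^ (n + 1))) :
    red h (y + y) = 0 ↔ red (Nat.le_of_succ_le h) y = 0 := by
  rw [map_add, red_eq_zero_iff]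
  conv_lhs => rw [← ZMod.natCast_zmod_val y, map_natCast, ← Nat.cast_add, ZMod.natCast_eq_zero_iff,
    ← two_mul, pow_succ']
  exact Nat.mul_dvd_mul_iff_left (by norm_num)

/-- The normalizer of `dsub` is the next dihedral subgroup. -/
theorem mem_normalizer {b : ℕ} (h : b + 1 ≤ n + 1) (i : ZMod (2 ^ (n + 1)))
    (d : DihedralGroup (2 ^ (n + 1))) :
    d ∈ Subgroup.normalizer (dsub h i : Set (DihedralGroup (2 ^ (n + 1)))) ↔
      d ∈ dsub (Nat.le_of_succ_le h) i := by
  constructor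
  · intro hd
    have := (Subgroup.mem_normalizer_iff.1 hd (sr i)).1 (sr_mem.2 rfl)
    cases d with
    | r y =>
      rw [inv_r, r_mul_sr, sr_mul_r] at this
      refine r_mem.2 ((red_add_self h y).1 ?_)
      have h1 := sr_mem.1 this
      simp only [map_add, map_sub, map_neg] at h1 ⊢
      linear_combination -h1
    | sr y =>
      rw [inv_sr, sr_mul_sr, r_mul_sr] at this
      refine sr_mem.2 (sub_eq_zero.1 ((map_sub (red _) y i).symm.trans ((red_add_self h _).1 ?_)))
      have h1 := sr_mem.1 this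
      simp only [map_add, map_sub] at h1 ⊢
      linear_combination h1
  · intro hd
    refine Subgroup.mem_normalizer_iff.2 ?_
    have fwd : ∀ e ∈ dsub (Nat.le_of_succ_le h) i, ∀ x ∈ dsub h i, e * x * e⁻¹ ∈ dsub h i := by
      intro e he x hx
      cases e with
      | r y =>
        have h1 := (red_add_self h y).2 (r_mem.1 he)
        rw [map_add] at h1
        cases x with
        | r z =>
          rw [inv_r, r_mul_r, r_mul_r, r_mem]
          have h2 := r_mem.1 hx
          simp only [map_add, map_neg]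
          linear_combination h2
        | sr z =>
          rw [inv_r, r_mul_sr, sr_mul_r, sr_mem]
          have h2 := sr_mem.1 hx
          simp only [map_add, map_sub, map_neg]
          linear_combination h2 - h1
      | sr y =>
        have h1 := (red_add_self h (y - i)).2
          ((map_sub (red _) y i).trans (sub_eq_zero.2 (sr_mem.1 he)))
        simp only [map_add, map_sub] at h1
        cases x with
        | r z =>
          rw [inv_sr, sr_mul_r, sr_mul_sr, r_mem]
          have h2 := r_mem.1 hx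
          simp only [map_sub, map_add]
          linear_combination -h2
        | sr z =>
          rw [inv_sr, sr_mul_sr, r_mul_sr, sr_mem]
          have h2 := sr_mem.1 hx
          simp only [map_sub]
          linear_combination h1 - h2
    intro x
    refine ⟨fwd d hd x, fun hx => ?_⟩
    have := fwd d⁻¹ (inv_mem hd) _ hx
    simpa [mul_assoc] using this

section Fusion

variable {X : Type*} [Group X] [Finite X] (S : Sylow 2 X)
variable {ψ : DihedralGroup (2 ^ (n + 1)) →* X}

theorem exists_conj_le {P : Subgroup X} (hP : IsPGroup 2 P) :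
    ∃ c : X, P.map (MulAut.conj c).toMonoidHom ≤ (S : Subgroup X) := by
  have : Fact (Nat.Prime 2) := ⟨Nat.prime_two⟩
  obtain ⟨R, hR⟩ := hP.exists_le_sylow
  obtain ⟨c, hc⟩ := MulAction.exists_smul_eq X R S
  refine ⟨c, ?_⟩
  rintro _ ⟨p, hp, rfl⟩
  rw [← hc]
  show _ ∈ ((c • R : Sylow 2 X) : Subgroup X)
  rw [Sylow.coe_subgroup_smul]
  exact ⟨p, hR hp, rfl⟩

/-- Images of the dihedral subgroups inside the Sylow subgroup. -/
theorem image_dsub (hψ : Function.Injective ψ) (hr : ψ.range = (S : Subgroup X)) (h : a ≤ n)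
    (i : ZMod (2 ^ (n + 1))) (c : X)
    (hc : ((dsub (Nat.le_succ_of_le h) i).map ψ).map (MulAut.conj c).toMonoidHom ≤ (S : Subgroup X)) :
    ∃ l, ((dsub (Nat.le_succ_of_le h) i).map ψ).map (MulAut.conj c).toMonoidHom
      = (dsub (Nat.le_succ_of_le h) l).map ψ := by
  set H := ((dsub (Nat.le_succ_of_le h) i).map ψ).map (MulAut.conj c).toMonoidHom with hH
  rw [← hr] at hc
  have hHW : (H.comap ψ).map ψ = H := Subgroup.map_comap_eq_self hc
  have hcard : Nat.card (H.comap ψ) = 2 * 2 ^ (n + 1 - a) := by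
    rw [← Subgroup.card_map_of_injective (K := H.comap ψ) hψ, hHW, hH,
      Subgroup.card_map_of_injective (MulAut.conj c).injective,
      Subgroup.card_map_of_injective hψ, card_dsub]
  have mem : ∀ d ∈ dsub (Nat.le_succ_of_le h) i, d * d = 1 → d ≠ 1 → ∃ e ∈ H.comap ψ,
      ψ e = c * ψ d * c⁻¹ ∧ e * e = 1 ∧ e ≠ 1 := by
    intro d hd hd2 hd1
    have hm : c * ψ d * c⁻¹ ∈ H := ⟨ψ d, ⟨d, hd, rfl⟩, rfl⟩
    obtain ⟨e, he⟩ := hc hm
    refine ⟨e, by rw [Subgroup.mem_comap, he]; exact hm, he, hψ ?_, fun h1 => hd1 (hψ ?_)⟩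
    · rw [map_mul, he, map_one]
      calc c * ψ d * c⁻¹ * (c * ψ d * c⁻¹) = c * ψ (d * d) * c⁻¹ := by rw [map_mul]; group
        _ = 1 := by rw [hd2, map_one]; group
    · rw [h1, map_one] at he
      rw [map_one]
      exact conj_eq_one_iff.1 he.symm
  have hz : ((2 ^ n : ℕ) : ZMod (2 ^ (n + 1))) ≠ 0 := by
    rw [Ne, ZMod.natCast_eq_zero_iff, Nat.pow_dvd_pow_iff_le_right (by norm_num)]
    omega
  have hzz : ((2 ^ n : ℕ) : ZMod (2 ^ (n + 1))) + (2 ^ n : ℕ) = 0 := by
    rw [← Nat.cast_add, ← two_mul, ← pow_succ', ZMod.natCast_self]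
  obtain ⟨u, huW, hue, hu2, hu1⟩ := mem (sr i) (sr_mem.2 rfl) (sr_mul_self i)
    (by rw [one_def]; exact fun e => by cases e)
  obtain ⟨v, hvW, hve, hv2, hv1⟩ := mem (r _) (r_mem.2 (red_half h))
    (by rw [r_mul_r, hzz, one_def]) (by rw [one_def, Ne, r.injEq]; exact hz)
  obtain ⟨l, hl⟩ := exists_eq_dsub (Nat.le_succ_of_le h) _ hcard huW hvW hu2 hv2 hu1 hv1 (by
    intro e
    rw [e, hve] at hue
    have := hψ (mul_left_cancel (mul_right_cancel hue))
    cases this)
  exact ⟨l, by rw [← hHW, hl]⟩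

theorem map_mem_normalizer {b : ℕ} (h : b + 1 ≤ n + 1) (i : ZMod (2 ^ (n + 1))) :
    (dsub (Nat.le_of_succ_le h) i).map ψ ≤ Subgroup.normalizer ((dsub h i).map ψ : Set X) := by
  rintro _ ⟨d, hd, rfl⟩
  refine Subgroup.mem_normalizer_iff.2 ?_
  have fwd : ∀ e ∈ dsub (Nat.le_of_succ_le h) i, ∀ y ∈ (dsub h i).map ψ,
      ψ e * y * (ψ e)⁻¹ ∈ (dsub h i).map ψ := by
    rintro e he _ ⟨x, hx, rfl⟩
    rw [← map_inv, ← map_mul, ← map_mul]
    exact Subgroup.mem_map_of_mem _
      ((Subgroup.mem_normalizer_iff.1 ((mem_normalizer h i e).2 he) x).1 hx)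
  intro y
  refine ⟨fwd d hd y, fun hy => ?_⟩
  have := fwd d⁻¹ (inv_mem hd) _ hy
  simpa [mul_assoc] using this

theorem map_map_conj (W : Subgroup X) (x y : X) :
    (W.map (MulAut.conj x).toMonoidHom).map (MulAut.conj y).toMonoidHom
      = W.map (MulAut.conj (y * x)).toMonoidHom := by
  rw [Subgroup.map_map, map_mul]
  rfl

theorem mem_normalizer_of_map_eq {W : Subgroup X} {x : X}
    (h : W.map (MulAut.conj x).toMonoidHom = W) : x ∈ Subgroup.normalizer (W : Set X) := by
  refine Subgroup.mem_normalizer_iff.2 fun y => ⟨fun hy => ?_, fun hy => ?_⟩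
  · rw [← h]; exact ⟨y, hy, rfl⟩
  · rw [← h] at hy
    obtain ⟨z, hz, hz'⟩ := hy
    have : z = y := by
      simpa using hz'
    rwa [← this]

theorem map_eq_of_mem_normalizer {W : Subgroup X} {x : X}
    (h : x ∈ Subgroup.normalizer (W : Set X)) : W.map (MulAut.conj x).toMonoidHom = W := by
  ext y
  constructor
  · rintro ⟨z, hz, rfl⟩
    exact (Subgroup.mem_normalizer_iff.1 h z).1 hz
  · intro hy
    refine ⟨x⁻¹ * y * x, (Subgroup.mem_normalizer_iff.1 h _).2 ?_, ?_⟩
    · simpa [mul_assoc] using hy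
    · simp [mul_assoc]

/-- Climbing one step. -/
theorem step (hψ : Function.Injective ψ) (hr : ψ.range = (S : Subgroup X)) {b : ℕ} (h : b + 1 ≤ n)
    (i j : ZMod (2 ^ (n + 1))) (g : X)
    (hg : ((dsub (Nat.le_succ_of_le h) i).map ψ).map (MulAut.conj g).toMonoidHom
      = (dsub (Nat.le_succ_of_le h) j).map ψ) :
    ∃ g' : X, ((dsub (Nat.le_succ_of_le h) i).map ψ).map (MulAut.conj g').toMonoidHom
        = (dsub (Nat.le_succ_of_le h) j).map ψ ∧
      ((dsub (Nat.le_of_succ_le (Nat.le_succ_of_le h)) i).map ψ).map (MulAut.conj g').toMonoidHom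
        = (dsub (Nat.le_of_succ_le (Nat.le_succ_of_le h)) j).map ψ := by
  have : Fact (Nat.Prime 2) := ⟨Nat.prime_two⟩
  set h1 := Nat.le_succ_of_le h
  set h0 := Nat.le_of_succ_le h1
  set A := (dsub h1 i).map ψ with hA
  set N := Subgroup.normalizer (A : Set X) with hN
  set P := (dsub h0 i).map ψ with hP
  set Q := ((dsub h0 j).map ψ).map (MulAut.conj g⁻¹).toMonoidHom with hQ
  have hPN : P ≤ N := map_mem_normalizer h1 i
  have hQN : Q ≤ N := by
    rintro _ ⟨y, hy, rfl⟩
    apply mem_normalizer_of_map_eq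
    have hy' := map_eq_of_mem_normalizer (map_mem_normalizer (ψ := ψ) h1 j hy)
    have hginv : ((dsub h1 j).map ψ).map (MulAut.conj g⁻¹).toMonoidHom = A := by
      rw [← hg, map_map_conj, inv_mul_cancel, map_one]
      exact Subgroup.map_id _
    show A.map (MulAut.conj (MulAut.conj g⁻¹ y)).toMonoidHom = A
    conv_lhs => rw [← hginv]
    rw [map_map_conj, MulAut.conj_apply, inv_inv,
      show g⁻¹ * y * g * g⁻¹ = g⁻¹ * y by group, ← map_map_conj, hy', hginv]
  have hpg : ∀ l, IsPGroup 2 ((dsub h0 l).map ψ) := fun l =>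
    S.isPGroup'.to_le ((Subgroup.map_le_range _ _).trans hr.le)
  have hmax : ∀ R : Subgroup X, IsPGroup 2 R → R ≤ N → Nat.card R ≤ Nat.card P := by
    intro R hR hRN
    set R' := R ⊔ A
    have hAp : IsPGroup 2 A := S.isPGroup'.to_le ((Subgroup.map_le_range _ _).trans hr.le)
    have hR'p : IsPGroup 2 R' := hR.to_sup_of_normal_right' hAp hRN
    obtain ⟨c, hc⟩ := exists_conj_le S hR'p
    obtain ⟨l, hl⟩ := image_dsub S hψ hr (Nat.le_trans h le_rfl) i c
      ((Subgroup.map_mono (le_sup_right : A ≤ R')).trans hc)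
    calc Nat.card R = Nat.card (R.map (MulAut.conj c).toMonoidHom) :=
          (Subgroup.card_map_of_injective (MulAut.conj c).injective).symm
      _ ≤ Nat.card ((dsub h0 l).map ψ) := by
          refine Nat.card_le_card_of_injective (Subgroup.inclusion ?_) (Subgroup.inclusion_injective _)
          rintro _ ⟨x, hx, rfl⟩
          obtain ⟨d, hd⟩ := hr.ge (hc ⟨x, (le_sup_left : R ≤ R') hx, rfl⟩)
          refine ⟨d, (mem_normalizer h1 l d).1 ?_, hd⟩
          have hn : ψ d ∈ Subgroup.normalizer ((dsub h1 l).map ψ : Set X) := by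
            apply mem_normalizer_of_map_eq
            rw [hd, ← hl, map_map_conj]
            show A.map (MulAut.conj (MulAut.conj c x * c)).toMonoidHom = _
            rw [MulAut.conj_apply, inv_mul_cancel_right, ← map_map_conj,
              map_eq_of_mem_normalizer (hRN hx)]
          refine Subgroup.mem_normalizer_iff.2 fun x => ?_
          have := Subgroup.mem_normalizer_iff.1 hn (ψ x)
          rw [← map_inv, ← map_mul, ← map_mul, Subgroup.mem_map_iff_mem hψ,
            Subgroup.mem_map_iff_mem hψ] at this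
          exact this
      _ = Nat.card P := by
          rw [Subgroup.card_map_of_injective hψ, hP, Subgroup.card_map_of_injective hψ, card_dsub,
            card_dsub]
  have mk : ∀ T : Subgroup X, IsPGroup 2 T → T ≤ N → Nat.card T = Nat.card P →
      ∃ T' : Sylow 2 N, (T' : Subgroup N).map N.subtype = T := by
    intro T hT hTN hc
    obtain ⟨T', hT'⟩ := (IsPGroup.comap_subtype (K := N) hT).exists_le_sylow
    refine ⟨T', (Subgroup.eq_of_le_of_card_ge ?_ ?_).symm⟩
    · intro x hx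
      exact ⟨⟨x, hTN hx⟩, hT' hx, rfl⟩
    · rw [hc]
      exact hmax _ (T'.isPGroup'.map _) (Subgroup.map_subtype_le _)
  have hcQ : Nat.card Q = Nat.card P := by
    rw [hQ, Subgroup.card_map_of_injective (MulAut.conj g⁻¹).injective,
      Subgroup.card_map_of_injective hψ, hP, Subgroup.card_map_of_injective hψ, card_dsub, card_dsub]
  obtain ⟨P', hP'⟩ := mk P (hpg i) hPN rfl
  obtain ⟨Q', hQ'⟩ := mk Q ((hpg j).map _) hQN hcQ
  obtain ⟨m, hm⟩ := MulAction.exists_smul_eq N P' Q'
  refine ⟨g * m, ?_, ?_⟩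
  · rw [← map_map_conj, map_eq_of_mem_normalizer m.2, hg]
  · have e : P.map (MulAut.conj (m : X)).toMonoidHom = Q := by
      rw [← hP', ← hQ', ← hm, Sylow.coe_subgroup_smul]
      ext y
      constructor
      · rintro ⟨_, ⟨x, hx, rfl⟩, rfl⟩
        exact ⟨m * x * m⁻¹, ⟨x, hx, rfl⟩, rfl⟩
      · rintro ⟨_, ⟨x, hx, rfl⟩, rfl⟩
        exact ⟨x, ⟨x, hx, rfl⟩, rfl⟩
    rw [← map_map_conj, e, hQ, map_map_conj, mul_inv_cancel, map_one]
    exact Subgroup.map_id _

theorem climb (hψ : Function.Injective ψ) (hr : ψ.range = (S : Subgroup X)) :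
    ∀ b : ℕ, ∀ hb : b + 1 ≤ n, ∀ i j : ZMod (2 ^ (n + 1)), ∀ g : X,
      ((dsub (Nat.le_succ_of_le hb) i).map ψ).map (MulAut.conj g).toMonoidHom
        = (dsub (Nat.le_succ_of_le hb) j).map ψ →
      ∃ g' : X, ((dsub (a := 1) (Nat.le_add_left 1 n) i).map ψ).map (MulAut.conj g').toMonoidHom
        = (dsub (Nat.le_add_left 1 n) j).map ψ := by
  intro b
  induction b with
  | zero => exact fun hb i j g hg => ⟨g, hg⟩
  | succ b ih =>
    intro hb i j g hg
    obtain ⟨g', -, hg'⟩ := step S hψ hr hb i j g hg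
    exact ih (Nat.le_of_succ_le hb) i j g' hg'

theorem dsub_zero (h : 0 ≤ n + 1) (i : ZMod (2 ^ (n + 1))) : dsub h i = ⊤ := by
  rw [eq_top_iff]
  intro d _
  have : Subsingleton (ZMod (2 ^ 0)) := by rw [pow_zero]; infer_instance
  cases d with
  | r x => exact r_mem.2 (Subsingleton.elim _ _)
  | sr x => exact sr_mem.2 (Subsingleton.elim _ _)

/-- Four-subgroups of different parity are not conjugate. -/
theorem not_conj (hψ : Function.Injective ψ) (hr : ψ.range = (S : Subgroup X)) (hn : 1 ≤ n)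
    (i j : ZMod (2 ^ (n + 1)))
    (hij : red (a := 1) (Nat.le_add_left 1 n) i ≠ red (Nat.le_add_left 1 n) j) (g : X) :
    ((dsub (Nat.le_succ n) i).map ψ).map (MulAut.conj g).toMonoidHom
      ≠ (dsub (Nat.le_succ n) j).map ψ := by
  have : Fact (Nat.Prime 2) := ⟨Nat.prime_two⟩
  intro hg
  obtain ⟨b, rfl⟩ : ∃ b, n = b + 1 := ⟨n - 1, by omega⟩
  obtain ⟨g₁, hg₁⟩ := climb S hψ hr b le_rfl i j g hg
  obtain ⟨g₂, hg₂, hg₂'⟩ := step S hψ hr (b := 0) (by omega) i j g₁ hg₁
  rw [dsub_zero, dsub_zero, ← MonoidHom.range_eq_map, hr] at hg₂'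
  set Ai := (dsub (a := 1) (Nat.le_add_left 1 (b + 1)) i).map ψ with hAi
  set Aj := (dsub (a := 1) (Nat.le_add_left 1 (b + 1)) j).map ψ with hAj
  have hne : Ai ≠ Aj := by
    intro e
    have : sr i ∈ dsub (a := 1) (Nat.le_add_left 1 (b + 1)) j := by
      refine (Subgroup.mem_map_iff_mem hψ).1 ?_
      rw [← hAj, ← e, hAi]
      exact Subgroup.mem_map_of_mem ψ (sr_mem.2 rfl)
    exact hij (sr_mem.1 this)
  have hswap : Aj.map (MulAut.conj g₂).toMonoidHom = Ai := by
    obtain ⟨l, hl⟩ := image_dsub S hψ hr (a := 1) (by omega) j g₂ (by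
      rw [← hg₂']
      exact Subgroup.map_mono ((Subgroup.map_le_range _ _).trans hr.le))
    have hz : ∀ u : ZMod (2 ^ 1), u = 0 ∨ u = 1 := by decide +revert
    by_cases hl' : red (a := 1) (Nat.le_add_left 1 (b + 1)) l = red (Nat.le_add_left 1 (b + 1)) i
    · rw [hl, hAi]
      congr 1
      ext d
      cases d with
      | r x => exact Iff.rfl
      | sr x => rw [sr_mem, sr_mem, hl']
    · exfalso
      have hlj : red (a := 1) (Nat.le_add_left 1 (b + 1)) l = red (Nat.le_add_left 1 (b + 1)) j := by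
        rcases hz (red (Nat.le_add_left 1 (b + 1)) l) with h | h <;>
          rcases hz (red (Nat.le_add_left 1 (b + 1)) i) with h' | h' <;>
          rcases hz (red (Nat.le_add_left 1 (b + 1)) j) with h'' | h'' <;>
          simp_all
      have : Aj.map (MulAut.conj g₂).toMonoidHom = Ai.map (MulAut.conj g₂).toMonoidHom := by
        rw [hl, hg₂, hAj]
        congr 1
        ext d
        cases d with
        | r x => exact Iff.rfl
        | sr x => rw [sr_mem, sr_mem, hlj]
      exact hne (Subgroup.map_injective (MulAut.conj g₂).injective this).symm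
  -- the 2-part of the swapping element
  have hpow : ∀ k : ℕ, Ai.map (MulAut.conj (g₂ ^ (2 * k + 1))).toMonoidHom = Aj := by
    intro k
    induction k with
    | zero => simpa using hg₂
    | succ k ih =>
      rw [show g₂ ^ (2 * (k + 1) + 1) = g₂ * (g₂ * g₂ ^ (2 * k + 1)) by
        rw [← pow_succ', ← pow_succ']; congr 1, ← map_map_conj, ← map_map_conj, ih, hswap, hg₂]
  obtain ⟨e, r, hr', hor⟩ := Nat.exists_eq_pow_mul_and_not_dvd (orderOf_pos g₂).ne' 2 (by norm_num)
  obtain ⟨k, rfl⟩ : ∃ k, r = 2 * k + 1 := ⟨r / 2, by omega⟩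
  set x := g₂ ^ (2 * k + 1) with hx
  have hx2 : x ^ (2 ^ e) = 1 := by rw [hx, ← pow_mul, mul_comm, ← hor, pow_orderOf_eq_one]
  have hxN : x ∈ Subgroup.normalizer ((S : Subgroup X) : Set X) :=
    pow_mem (mem_normalizer_of_map_eq hg₂') _
  have hxp : IsPGroup 2 (Subgroup.zpowers x) := by
    obtain ⟨m, -, hm⟩ := (Nat.dvd_prime_pow Nat.prime_two).1 (orderOf_dvd_of_pow_eq_one hx2)
    exact IsPGroup.of_card (n := m) (by rw [Nat.card_zpowers, hm])
  have hxS : x ∈ (S : Subgroup X) := by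
    have h1 := hxp.to_sup_of_normal_right' S.isPGroup' (Subgroup.zpowers_le.2 hxN)
    have h2 := S.is_maximal' h1 le_sup_right
    rw [← h2]
    exact Subgroup.mem_sup_left (Subgroup.mem_zpowers x)
  obtain ⟨d, hd⟩ := hr.ge hxS
  have hfix : Ai.map (MulAut.conj x).toMonoidHom = Ai := by
    rw [← hd]
    refine map_eq_of_mem_normalizer (map_mem_normalizer (Nat.le_add_left 1 (b + 1)) i ⟨d, ?_, rfl⟩)
    rw [dsub_zero]; trivial
  exact hne (hfix.symm.trans (hpow k))

end Fusion

end Cfsg.Agent.DihedralFour35
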