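import Mathlib
import Cfsg.Prelude.Def_TwoFusion
import Cfsg.Prelude.Def_Balance
import Cfsg.Agent.Lib.CoprimeAction
import Cfsg.Agent.Lib.HallCore
import Cfsg.Agent.Lib.ZStarBasic
import Cfsg.Agent.Lib.IsolatedInv

/-!
# Product fusion: basic material

Relative odd cores, and pairs of strongly closed subgroups that commute and meet trivially.
-/

set_option autoImplicit false

namespace Cfsg.Agent.ProductFusion68

open Subgroup
open scoped commutatorElement

variable {G : Type*} [Group G]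

/-! ## Elementary facts -/

theorem mem_normalizer_of_conj_mem [Finite G] {H : Subgroup G} {g : G}
    (h : ∀ x ∈ H, g * x * g⁻¹ ∈ H) : g ∈ normalizer (H : Set G) := by
  have hmap : H.map (MulAut.conj g).toMonoidHom = H := by
    refine Subgroup.eq_of_le_of_card_ge ?_
      (Subgroup.card_map_of_injective (MulAut.conj g).injective).ge
    rintro _ ⟨x, hx, rfl⟩
    exact h x hx
  refine mem_normalizer_iff.2 fun x => ⟨h x, fun hx => ?_⟩
  rw [← hmap] at hx
  obtain ⟨y, hy, hyx⟩ := hx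
  have e : g * y * g⁻¹ = g * x * g⁻¹ := hyx
  rwa [← mul_left_cancel (mul_right_cancel e)]

theorem le_normalizer_of_conj_mem' [Finite G] {A H : Subgroup G}
    (h : ∀ g ∈ A, ∀ x ∈ H, g * x * g⁻¹ ∈ H) : A ≤ normalizer (H : Set G) :=
  fun g hg => mem_normalizer_of_conj_mem (h g hg)

theorem conj_mem_of_mem {H : Subgroup G} {g x : G} (hg : g ∈ normalizer (H : Set G)) (hx : x ∈ H) :
    g * x * g⁻¹ ∈ H :=
  (mem_normalizer_iff.1 hg x).1 hx

theorem commutator_eq_one' {x y : G} (h : Commute x y) : ⁅x, y⁆ = 1 :=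
  commutatorElement_eq_one_iff_mul_comm.2 h

theorem commute_of_commutator {x y : G} (h : ⁅x, y⁆ = 1) : Commute x y :=
  commutatorElement_eq_one_iff_mul_comm.1 h

theorem odd_orderOf_of_mem [Finite G] {K : Subgroup G} (hK : Odd (Nat.card K)) {x : G}
    (hx : x ∈ K) : Odd (orderOf x) :=
  hK.of_dvd_nat (Subgroup.orderOf_dvd_natCard _ hx)

theorem eq_one_of_sq_of_odd {x : G} (hx : Odd (orderOf x)) (h : x * x = 1) : x = 1 := by
  have h2 : orderOf x ∣ 2 := orderOf_dvd_of_pow_eq_one (by rw [pow_two, h])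
  rcases (Nat.dvd_prime Nat.prime_two).1 h2 with h1 | h1
  · exact orderOf_eq_one_iff.1 h1
  · exact absurd (h1 ▸ hx) (by decide)

theorem mem_of_sq_mem {H : Subgroup G} {x : G} (hx : Odd (orderOf x)) (h : x * x ∈ H) : x ∈ H := by
  obtain ⟨j, hj⟩ := IsolatedInv.odd_pow_sq hx
  rw [← hj, pow_two]
  exact pow_mem h _

theorem inv_of_sq {v : G} (h : v * v = 1) : v⁻¹ = v := IsolatedInv.inv_eq_self_of_sq h

theorem isPGroup_of_forall_sq [Finite G] {V : Subgroup G} (h : ∀ v ∈ V, v * v = 1) :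
    IsPGroup 2 V := fun v => ⟨1, by
  ext
  simp only [pow_one, pow_two, Subgroup.coe_mul, Subgroup.coe_one]
  exact h v v.2⟩

theorem isMulCommutative_of_forall {A : Subgroup G} (h : ∀ a ∈ A, ∀ b ∈ A, Commute a b) :
    IsMulCommutative A :=
  ⟨⟨fun a b => Subtype.ext (h a a.2 b b.2).eq⟩⟩

theorem coprime_two_group [Finite G] {A K : Subgroup G} (hA : IsPGroup 2 A)
    (hK : Odd (Nat.card K)) : (Nat.card A).Coprime (Nat.card K) := by
  haveI := Fact.mk Nat.prime_two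
  obtain ⟨n, hn⟩ := IsPGroup.iff_card.1 hA
  rw [hn]
  exact (Nat.coprime_two_left.2 hK).pow_left n

theorem coprime_orderOf_two [Finite G] {x : G} {K : Subgroup G} (hx : x * x = 1)
    (hK : Odd (Nat.card K)) : (orderOf x).Coprime (Nat.card K) :=
  (Nat.coprime_two_left.2 hK).coprime_dvd_left (orderOf_dvd_of_pow_eq_one (by rw [pow_two, hx]))

theorem odd_card_of_le [Finite G] {A B : Subgroup G} (h : A ≤ B) (hB : Odd (Nat.card B)) :
    Odd (Nat.card A) :=
  hB.of_dvd_nat (Subgroup.card_dvd_of_le h)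

theorem card_subgroupOf_of_le {A B : Subgroup G} (h : A ≤ B) :
    Nat.card (A.subgroupOf B) = Nat.card A :=
  Nat.card_congr (Subgroup.subgroupOfEquivOfLe h).toEquiv

theorem odd_card_sup [Finite G] {A B : Subgroup G} (hAB : A ≤ normalizer (B : Set G))
    (hA : Odd (Nat.card A)) (hB : Odd (Nat.card B)) : Odd (Nat.card (A ⊔ B : Subgroup G)) := by
  have hBn : (B.subgroupOf (A ⊔ B)).Normal :=
    Subgroup.normal_subgroupOf_of_le_normalizer (sup_le hAB Subgroup.le_normalizer)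
  have h := HallCore.card_sup_dvd (A.subgroupOf (A ⊔ B)) (B.subgroupOf (A ⊔ B))
  rw [← Subgroup.subgroupOf_sup le_sup_left le_sup_right, Subgroup.subgroupOf_self,
    Subgroup.card_top, card_subgroupOf_of_le le_sup_left, card_subgroupOf_of_le le_sup_right] at h
  exact (hA.mul hB).of_dvd_nat h

theorem exists_conj_le [Finite G] (S : Sylow 2 G) {T : Subgroup G} (hT : IsPGroup 2 T) :
    ∃ g : G, ∀ t ∈ T, g * t * g⁻¹ ∈ (S : Subgroup G) := by
  haveI := Fact.mk Nat.prime_two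
  obtain ⟨R, hR⟩ := hT.exists_le_sylow
  obtain ⟨g, hg⟩ := MulAction.exists_smul_eq G R S
  refine ⟨g, fun x hx => ?_⟩
  rw [← hg, Sylow.coe_subgroup_smul, Subgroup.mem_pointwise_smul_iff_inv_smul_mem, ← map_inv,
    MulAut.smul_def, MulAut.conj_apply]
  rw [show g⁻¹ * (g * x * g⁻¹) * g⁻¹⁻¹ = x by group]
  exact hR hx

/-- Two involutions with commutator in a normalised subgroup of odd order: one can be moved by
that subgroup to an involution commuting with the other. -/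
theorem exists_move [Finite G] {u v : G} (hu : u * u = 1) (hv : v * v = 1) {K : Subgroup G}
    (hK : Odd (Nat.card K)) (h : ⁅u, v⁆ ∈ K) :
    ∃ r ∈ K, Commute (r * u * r⁻¹) v := by
  have hd : (u * v) ^ 2 ∈ K := by
    rw [pow_two]
    rwa [commutatorElement_def, inv_of_sq hu, inv_of_sq hv, mul_assoc (u * v) u v] at h
  set e := (u * v) ^ 2 with he
  obtain ⟨j, hj⟩ := IsolatedInv.odd_pow_sq (odd_orderOf_of_mem hK hd)
  obtain ⟨i, hi⟩ := IsolatedInv.odd_pow_sq (odd_orderOf_of_mem hK (pow_mem hd j))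
  have hi' : (e ^ (j * i)) ^ 4 = e := by
    have hodd : Odd (orderOf (e ^ j)) := odd_orderOf_of_mem hK (pow_mem hd j)
    calc (e ^ (j * i)) ^ 4 = (((e ^ j) ^ 2) ^ i) ^ 2 := by
          simp only [← pow_mul]; congr 1; ring
      _ = (e ^ j) ^ 2 := by rw [hi]
      _ = e := by rw [← pow_mul, mul_comm j 2, pow_mul, hj]
  set f := e ^ (j * i) with hf
  have hinv : ∀ k : ℕ, u * (u * v) ^ k * u⁻¹ = ((u * v) ^ k)⁻¹ := IsolatedInv.conj_mul_pow hu hv
  have huf : u * f = f⁻¹ * u := by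
    have h1 := hinv (2 * (j * i))
    rw [pow_mul, ← he, ← hf, mul_inv_eq_iff_eq_mul] at h1
    exact h1
  refine ⟨f⁻¹, inv_mem (pow_mem hd _), ?_⟩
  have e1 : f⁻¹ * u * f⁻¹⁻¹ = (f ^ 2)⁻¹ * u := by
    rw [inv_inv, mul_assoc, huf, ← mul_assoc, ← mul_inv_rev, ← pow_two]
  rw [e1]
  have hfd : Commute f (u * v) := by
    rw [hf, he, ← pow_mul]
    exact (Commute.refl _).pow_left _
  have hone : ((f ^ 2)⁻¹ * (u * v)) * ((f ^ 2)⁻¹ * (u * v)) = 1 := by
    rw [((hfd.pow_left 2).inv_left.symm).mul_mul_mul_comm, ← mul_inv_rev, ← pow_add, hi', ← pow_two,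
      ← he, inv_mul_cancel]
  have hu' : (f ^ 2)⁻¹ * u * ((f ^ 2)⁻¹ * u) = 1 := by
    have h1 : u * (f ^ 2)⁻¹ = f ^ 2 * u := by
      have h2 := hinv (2 * (j * i) * 2)
      rw [pow_mul, pow_mul, ← he, ← hf, mul_inv_eq_iff_eq_mul] at h2
      calc u * (f ^ 2)⁻¹ = (f ^ 2 * ((f ^ 2)⁻¹ * u)) * (f ^ 2)⁻¹ := by group
        _ = (f ^ 2 * (u * f ^ 2)) * (f ^ 2)⁻¹ := by rw [h2]
        _ = f ^ 2 * u := by group
    rw [mul_assoc, ← mul_assoc u, h1, mul_assoc (f ^ 2), hu, mul_one, inv_mul_cancel]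
  show (f ^ 2)⁻¹ * u * v = v * ((f ^ 2)⁻¹ * u)
  have h3 : ((f ^ 2)⁻¹ * u) * v * (((f ^ 2)⁻¹ * u) * v) = 1 := by
    simpa only [mul_assoc] using hone
  set w := (f ^ 2)⁻¹ * u with hw
  rw [← inv_eq_of_mul_eq_one_right h3, mul_inv_rev, inv_of_sq hv, inv_of_sq hu']

/-! ## Relative odd cores -/

theorem mem_centralizer_singleton {x g : G} :
    g ∈ centralizer ({x} : Set G) ↔ Commute g x := by
  rw [Subgroup.mem_centralizer_singleton_iff]; rfl

theorem self_mem_centralizer (x : G) : x ∈ centralizer ({x} : Set G) :=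
  mem_centralizer_singleton.2 (Commute.refl x)

/-- The odd core of a subgroup, as a subgroup of the whole group. -/
def coreIn (X : Subgroup G) : Subgroup G := (pPrimeCore 2 X).map X.subtype

theorem coreIn_le (X : Subgroup G) : coreIn X ≤ X := Subgroup.map_subtype_le _

theorem mem_coreIn_coe {X : Subgroup G} {x : X} : (x : G) ∈ coreIn X ↔ x ∈ pPrimeCore 2 X :=
  Subgroup.mem_map_iff_mem X.subtype_injective

theorem odd_coreIn [Finite G] (X : Subgroup G) : Odd (Nat.card (coreIn X)) := by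
  unfold coreIn
  rw [Subgroup.card_map_of_injective X.subtype_injective]
  exact Nat.coprime_two_right.1 (HallCore.coprime_card_pPrimeCore 2 X)

theorem conj_mem_coreIn {X : Subgroup G} {x k : G} (hx : x ∈ X) (hk : k ∈ coreIn X) :
    x * k * x⁻¹ ∈ coreIn X := by
  obtain ⟨k', hk', rfl⟩ := hk
  exact ⟨⟨x, hx⟩ * k' * ⟨x, hx⟩⁻¹, (HallCore.pPrimeCore_normal 2 X).conj_mem _ hk' _, rfl⟩

theorem le_normalizer_coreIn [Finite G] (X : Subgroup G) :
    X ≤ normalizer (coreIn X : Set G) :=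
  le_normalizer_of_conj_mem' fun _ hg _ hx => conj_mem_coreIn hg hx

theorem le_coreIn [Finite G] {X M : Subgroup G} (hM : M ≤ X) (hn : X ≤ normalizer (M : Set G))
    (ho : Odd (Nat.card M)) : M ≤ coreIn X := by
  haveI : (M.subgroupOf X).Normal := Subgroup.normal_subgroupOf_of_le_normalizer hn
  have h : M.subgroupOf X ≤ pPrimeCore 2 X := HallCore.le_pPrimeCore (by
    rw [card_subgroupOf_of_le hM]; exact Nat.coprime_two_right.2 ho)
  intro m hm
  exact ⟨⟨m, hM hm⟩, h hm, rfl⟩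

theorem conj_mem_coreIn_of_conj [Finite G] {X X' : Subgroup G} {g : G}
    (hX : ∀ x, x ∈ X ↔ g * x * g⁻¹ ∈ X') {k : G} (hk : k ∈ coreIn X) :
    g * k * g⁻¹ ∈ coreIn X' := by
  have h : (coreIn X).map (MulAut.conj g).toMonoidHom ≤ coreIn X' := by
    refine le_coreIn ?_ (le_normalizer_of_conj_mem' ?_) ?_
    · rintro _ ⟨x, hx, rfl⟩
      exact (hX x).1 (coreIn_le X hx)
    · rintro a ha _ ⟨x, hx, rfl⟩
      have ha' : g⁻¹ * a * g ∈ X := (hX _).2 (by simpa [mul_assoc] using ha)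
      refine ⟨(g⁻¹ * a * g) * x * (g⁻¹ * a * g)⁻¹, conj_mem_coreIn ha' hx, ?_⟩
      simp [mul_assoc]
    · rw [Subgroup.card_map_of_injective (MulAut.conj g).injective]
      exact odd_coreIn X
  exact h ⟨k, hk, rfl⟩

theorem coreIn_eq_bot [Finite G] (hO : pPrimeCore 2 G = ⊥) (X : Subgroup G) [X.Normal] :
    coreIn X = ⊥ := by
  rw [coreIn, ZStarBasic.pPrimeCore_normal_eq_bot hO X, Subgroup.map_bot]

theorem eq_bot_of_normalized_odd [Finite G] (hO : pPrimeCore 2 G = ⊥) {X M : Subgroup G}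
    [X.Normal] (hM : M ≤ X) (hn : X ≤ normalizer (M : Set G)) (ho : Odd (Nat.card M)) : M = ⊥ :=
  le_bot_iff.1 ((le_coreIn hM hn ho).trans (coreIn_eq_bot hO X).le)

/-- `O(C(x))` as a subgroup of the group. -/
abbrev R (x : G) : Subgroup G := coreIn (centralizer ({x} : Set G))

theorem commute_of_mem_R {x k : G} (hk : k ∈ R x) : Commute k x :=
  mem_centralizer_singleton.1 (coreIn_le _ hk)

theorem conj_mem_R_of_commute {x c k : G} (hc : Commute c x) (hk : k ∈ R x) :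
    c * k * c⁻¹ ∈ R x :=
  conj_mem_coreIn (mem_centralizer_singleton.2 hc) hk

theorem conj_mem_R [Finite G] (g : G) {x k : G} (hk : k ∈ R x) :
    g * k * g⁻¹ ∈ R (g * x * g⁻¹) := by
  refine conj_mem_coreIn_of_conj (fun y => ?_) hk
  rw [mem_centralizer_singleton, mem_centralizer_singleton]
  exact (Commute.conj_iff g).symm

/-- The elements of `X` that commute modulo `O(X)` with every element of `s` in `X`. -/
def cen (X : Subgroup G) (s : Set G) : Subgroup G where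
  carrier := {f | f ∈ X ∧ ∀ y ∈ s, y ∈ X → ⁅f, y⁆ ∈ coreIn X}
  one_mem' := ⟨X.one_mem, fun y _ _ => by simp [commutatorElement_def]⟩
  mul_mem' := by
    rintro f g ⟨hf, hf'⟩ ⟨hg, hg'⟩
    refine ⟨mul_mem hf hg, fun y hy hyX => ?_⟩
    rw [show ⁅f * g, y⁆ = f * ⁅g, y⁆ * f⁻¹ * ⁅f, y⁆ by simp [commutatorElement_def, mul_assoc]]
    exact mul_mem (conj_mem_coreIn hf (hg' y hy hyX)) (hf' y hy hyX)
  inv_mem' := by
    rintro f ⟨hf, hf'⟩
    refine ⟨inv_mem hf, fun y hy hyX => ?_⟩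
    rw [show ⁅f⁻¹, y⁆ = f⁻¹ * ⁅f, y⁆⁻¹ * f⁻¹⁻¹ by simp [commutatorElement_def, mul_assoc]]
    exact conj_mem_coreIn (inv_mem hf) (inv_mem (hf' y hy hyX))

theorem mem_cen {X : Subgroup G} {s : Set G} {f : G} :
    f ∈ cen X s ↔ f ∈ X ∧ ∀ y ∈ s, y ∈ X → ⁅f, y⁆ ∈ coreIn X := Iff.rfl

theorem cen_le (X : Subgroup G) (s : Set G) : cen X s ≤ X := fun _ h => h.1

theorem coreIn_le_cen (X : Subgroup G) (s : Set G) : coreIn X ≤ cen X s := fun k hk =>
  ⟨coreIn_le X hk, fun y _ hy => by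
    rw [show ⁅k, y⁆ = k * (y * k⁻¹ * y⁻¹) by simp [commutatorElement_def, mul_assoc]]
    exact mul_mem hk (conj_mem_coreIn hy (inv_mem hk))⟩

theorem commutator_symm_mem {H : Subgroup G} {x y : G} (h : ⁅x, y⁆ ∈ H) : ⁅y, x⁆ ∈ H := by
  rw [← commutatorElement_inv]; exact inv_mem h

theorem mem_cen_singleton {X : Subgroup G} {f y : G} :
    f ∈ cen X {y} ↔ f ∈ X ∧ (y ∈ X → ⁅f, y⁆ ∈ coreIn X) := by
  simp [mem_cen]

theorem closure_le_cen_singleton {X : Subgroup G} {s : Set G} {f : G} (hf : f ∈ cen X s) :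
    closure (s ∩ X) ≤ cen X {f} := by
  rw [closure_le]
  rintro y ⟨hy, hyX⟩
  exact mem_cen_singleton.2 ⟨hyX, fun _ => commutator_symm_mem (hf.2 y hy hyX)⟩

theorem commutator_mem_of_closure {X : Subgroup G} {s : Set G} {f y : G} (hf : f ∈ cen X s)
    (hy : y ∈ closure (s ∩ X)) : ⁅f, y⁆ ∈ coreIn X :=
  commutator_symm_mem ((mem_cen_singleton.1 (closure_le_cen_singleton hf hy)).2 hf.1)

/-- `s` is invariant under conjugation. -/
def ConjInv (s : Set G) : Prop := ∀ g x : G, x ∈ s → g * x * g⁻¹ ∈ s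

theorem ConjInv.union {s t : Set G} (hs : ConjInv s) (ht : ConjInv t) : ConjInv (s ∪ t) :=
  fun g x hx => hx.imp (hs g x) (ht g x)

theorem closure_inter_le (X : Subgroup G) (s : Set G) : closure (s ∩ (X : Set G)) ≤ X :=
  (closure_le X).2 Set.inter_subset_right

theorem conj_mem_cen {X : Subgroup G} {s : Set G} (hs : ConjInv s) {g f : G} (hg : g ∈ X)
    (hf : f ∈ cen X s) : g * f * g⁻¹ ∈ cen X s := by
  refine ⟨mul_mem (mul_mem hg hf.1) (inv_mem hg), fun y hy hyX => ?_⟩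
  have h := hf.2 (g⁻¹ * y * g⁻¹⁻¹) (hs g⁻¹ y hy) (mul_mem (mul_mem (inv_mem hg) hyX) (by simpa using hg))
  rw [show ⁅g * f * g⁻¹, y⁆ = g * ⁅f, g⁻¹ * y * g⁻¹⁻¹⁆ * g⁻¹ by
    simp [commutatorElement_def, mul_assoc]]
  exact conj_mem_coreIn hg h

theorem conj_mem_closure_inter {X : Subgroup G} {s : Set G} (hs : ConjInv s) {g f : G}
    (hg : g ∈ X) (hf : f ∈ closure (s ∩ X)) : g * f * g⁻¹ ∈ closure (s ∩ X) := by
  have h : closure (s ∩ (X : Set G)) ≤ (closure (s ∩ (X : Set G))).comap (MulAut.conj g).toMonoidHom := by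
    rw [closure_le]
    rintro y ⟨hy, hyX⟩
    exact subset_closure ⟨hs g y hy, mul_mem (mul_mem hg hyX) (inv_mem hg)⟩
  exact h hf

/-- **Key vanishing lemma.** If `H` is normal in `X`, contains `O(X)`, and is centralised by the
involution `x` modulo `O(X)`, then `O(C(x)) ∩ H ≤ O(X)`. -/
theorem R_inf_le_coreIn [Finite G] {X H : Subgroup G} {x : G} (hx : x * x = 1) (hxX : x ∈ X)
    (hHX : H ≤ X) (hHn : ∀ g ∈ X, ∀ h ∈ H, g * h * g⁻¹ ∈ H) (hKH : coreIn X ≤ H)
    (hHx : ∀ h ∈ H, ⁅h, x⁆ ∈ coreIn X) {f : G} (hf : f ∈ R x) (hfH : f ∈ H) : f ∈ coreIn X := by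
  set M := (R x ⊓ H) ⊔ coreIn X with hM
  have hMH : M ≤ H := sup_le inf_le_right hKH
  have hnK : R x ⊓ H ≤ normalizer (coreIn X : Set G) :=
    (inf_le_right.trans hHX).trans (le_normalizer_coreIn X)
  have hodd : Odd (Nat.card M) :=
    odd_card_sup hnK (odd_card_of_le inf_le_left (odd_coreIn _)) (odd_coreIn X)
  have hn : H ≤ normalizer (M : Set G) := by
    intro h hh
    have hfix : h⁻¹ * x * h * x⁻¹ ∈ coreIn X := by
      have h1 := hHx h⁻¹ (inv_mem hh)
      rwa [commutatorElement_def, inv_inv] at h1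
    obtain ⟨c, hc, hck⟩ := CoprimeAction.exists_fixed_mem_coset_zpowers
      (le_normalizer_coreIn X hxX) (coprime_orderOf_two hx (odd_coreIn X)) h hfix
    have hcH : c ∈ H := by simpa using mul_mem hh (hKH hck)
    have hcN : c ∈ normalizer (M : Set G) := by
      refine mem_normalizer_of_conj_mem fun y hy => ?_
      have h2 : M ≤ M.comap (MulAut.conj c).toMonoidHom := by
        refine sup_le ?_ ?_
        · intro z hz
          exact Subgroup.mem_sup_left ⟨conj_mem_R_of_commute (show Commute c x from hc.symm) hz.1,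
            hHn c (hHX hcH) z hz.2⟩
        · intro z hz
          exact Subgroup.mem_sup_right (conj_mem_coreIn (hHX hcH) hz)
      exact h2 hy
    have hkN : h⁻¹ * c ∈ normalizer (M : Set G) :=
      Subgroup.le_normalizer (Subgroup.mem_sup_right hck)
    simpa using mul_mem hcN (inv_mem hkN)
  have h1 : M ≤ coreIn H := le_coreIn hMH hn hodd
  have h2 : coreIn H ≤ coreIn X := by
    refine le_coreIn ((coreIn_le H).trans hHX) (le_normalizer_of_conj_mem' fun g hg k hk => ?_)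
      (odd_coreIn H)
    refine conj_mem_coreIn_of_conj (fun y => ⟨fun hy => hHn g hg y hy, fun hy => ?_⟩) hk
    simpa [mul_assoc] using hHn g⁻¹ (inv_mem hg) _ hy
  exact h2 (h1 (Subgroup.mem_sup_left ⟨hf, hfH⟩))

/-! ## The data -/

/-- A pair of strongly closed subgroups that commute and meet trivially. -/
structure Data (G : Type*) [Group G] where
  S : Sylow 2 G
  S1 : Subgroup G
  S2 : Subgroup G
  h1 : IsStronglyClosed S1 (S : Subgroup G)
  h2 : IsStronglyClosed S2 (S : Subgroup G)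
  hcomm : ∀ a ∈ S1, ∀ b ∈ S2, a * b = b * a
  hdisj : S1 ⊓ S2 = ⊥

namespace Data

variable (D : Data G)

/-- Elements conjugate into `S1`. -/
def C1 : Set G := {x | ∃ g : G, g * x * g⁻¹ ∈ D.S1}

/-- Elements conjugate into `S2`. -/
def C2 : Set G := {x | ∃ g : G, g * x * g⁻¹ ∈ D.S2}

/-- The involutions conjugate into `S1`. -/
def I1 : Set G := {x | x ∈ D.C1 ∧ x * x = 1 ∧ x ≠ 1}

/-- The involutions conjugate into `S2`. -/
def I2 : Set G := {x | x ∈ D.C2 ∧ x * x = 1 ∧ x ≠ 1}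

/-- Exchange the two sides. -/
def swap : Data G where
  S := D.S
  S1 := D.S2
  S2 := D.S1
  h1 := D.h2
  h2 := D.h1
  hcomm := fun a ha b hb => (D.hcomm b hb a ha).symm
  hdisj := by rw [inf_comm, D.hdisj]

theorem conjInv1 : ConjInv D.C1 := by
  rintro g x ⟨h, hh⟩
  refine ⟨h * g⁻¹, ?_⟩
  rwa [show h * g⁻¹ * (g * x * g⁻¹) * (h * g⁻¹)⁻¹ = h * x * h⁻¹ by group]

theorem conjInv2 : ConjInv D.C2 := D.swap.conjInv1

theorem one_mem1 : (1 : G) ∈ D.C1 := ⟨1, by simp⟩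

theorem one_mem2 : (1 : G) ∈ D.C2 := D.swap.one_mem1

theorem mem1 {g t : G} (ht : g * t * g⁻¹ ∈ (D.S : Subgroup G)) (hx : t ∈ D.C1) :
    g * t * g⁻¹ ∈ D.S1 := by
  obtain ⟨h, hh⟩ := hx
  have e : g * t * g⁻¹ = (g * h⁻¹) * (h * t * h⁻¹) * (g * h⁻¹)⁻¹ := by group
  rw [e] at ht ⊢
  exact D.h1.2 _ hh _ ht

theorem mem2 {g t : G} (ht : g * t * g⁻¹ ∈ (D.S : Subgroup G)) (hx : t ∈ D.C2) :
    g * t * g⁻¹ ∈ D.S2 :=
  D.swap.mem1 ht hx

theorem isPGroup_zpowers1 [Finite G] {x : G} (hx : x ∈ D.C1) : IsPGroup 2 (zpowers x) := by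
  obtain ⟨g, hg⟩ := hx
  have h : IsPGroup 2 (zpowers (g * x * g⁻¹)) :=
    D.S.isPGroup'.to_le (zpowers_le.2 (D.h1.1 hg))
  refine (h.map (MulAut.conj g⁻¹).toMonoidHom).to_le (zpowers_le.2 ?_)
  exact ⟨g * x * g⁻¹, mem_zpowers _, by simp [mul_assoc]⟩

theorem isPGroup_zpowers2 [Finite G] {x : G} (hx : x ∈ D.C2) : IsPGroup 2 (zpowers x) :=
  D.swap.isPGroup_zpowers1 hx

theorem commute_of_mem [Finite G] {T : Subgroup G} (hT : IsPGroup 2 T) {x y : G} (hx : x ∈ D.C1)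
    (hy : y ∈ D.C2) (hxT : x ∈ T) (hyT : y ∈ T) : Commute x y := by
  obtain ⟨g, hg⟩ := exists_conj_le D.S hT
  have h := D.hcomm _ (D.mem1 (hg x hxT) hx) _ (D.mem2 (hg y hyT) hy)
  exact (Commute.conj_iff g).1 h

theorem mul_mem1 [Finite G] {T : Subgroup G} (hT : IsPGroup 2 T) {x y : G} (hx : x ∈ D.C1)
    (hy : y ∈ D.C1) (hxT : x ∈ T) (hyT : y ∈ T) : x * y ∈ D.C1 := by
  obtain ⟨g, hg⟩ := exists_conj_le D.S hT
  refine ⟨g, ?_⟩
  rw [show g * (x * y) * g⁻¹ = (g * x * g⁻¹) * (g * y * g⁻¹) by group]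
  exact mul_mem (D.mem1 (hg x hxT) hx) (D.mem1 (hg y hyT) hy)

theorem mul_mem2 [Finite G] {T : Subgroup G} (hT : IsPGroup 2 T) {x y : G} (hx : x ∈ D.C2)
    (hy : y ∈ D.C2) (hxT : x ∈ T) (hyT : y ∈ T) : x * y ∈ D.C2 :=
  D.swap.mul_mem1 hT hx hy hxT hyT

theorem eq_one_of_both [Finite G] {x : G} (h1 : x ∈ D.C1) (h2 : x ∈ D.C2) : x = 1 := by
  obtain ⟨g, hg⟩ := exists_conj_le D.S (D.isPGroup_zpowers1 h1)
  have hx := hg x (mem_zpowers x)
  have h : g * x * g⁻¹ ∈ D.S1 ⊓ D.S2 := ⟨D.mem1 hx h1, D.mem2 hx h2⟩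
  rw [D.hdisj, Subgroup.mem_bot, mul_inv_eq_one] at h
  simpa using h

/-- The trick: commuting modulo a normal 2-subgroup implies commuting. -/
theorem commute_of_commutator_mem [Finite G] {Z : Subgroup G} [Z.Normal] (hZ : IsPGroup 2 Z)
    {x y : G} (hx : x ∈ D.C1) (hy : y ∈ D.C2) (h : ⁅x, y⁆ ∈ Z) : Commute x y := by
  have hnx : zpowers x ≤ normalizer (Z : Set G) := by
    rw [Subgroup.normalizer_eq_top]; exact le_top
  have h1 : IsPGroup 2 (zpowers x ⊔ Z : Subgroup G) :=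
    IsPGroup.to_sup_of_normal_right' (D.isPGroup_zpowers1 hx) hZ hnx
  have hyn : zpowers y ≤ normalizer ((zpowers x ⊔ Z : Subgroup G) : Set G) := by
    rw [zpowers_le]
    refine mem_normalizer_of_conj_mem fun z hz => ?_
    have h2 : zpowers x ⊔ Z ≤ (zpowers x ⊔ Z).comap (MulAut.conj y).toMonoidHom := by
      refine sup_le ?_ ?_
      · rw [zpowers_le]
        show y * x * y⁻¹ ∈ zpowers x ⊔ Z
        rw [show y * x * y⁻¹ = ⁅x, y⁆⁻¹ * x by simp [commutatorElement_def, mul_assoc]]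
        exact mul_mem (Subgroup.mem_sup_right (inv_mem h)) (Subgroup.mem_sup_left (mem_zpowers x))
      · intro w hw
        exact Subgroup.mem_sup_right (Subgroup.Normal.conj_mem inferInstance w hw y)
    exact h2 hz
  exact D.commute_of_mem (IsPGroup.to_sup_of_normal_right' (D.isPGroup_zpowers2 hy) h1 hyn) hx hy
    (Subgroup.mem_sup_right (Subgroup.mem_sup_left (mem_zpowers x)))
    (Subgroup.mem_sup_left (mem_zpowers y))

end Data

end Cfsg.Agent.ProductFusion68
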