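import Mathlib
import Cfsg.Agent.Lib.ProductFusion68Base

/-!
# Dihedral two-groups inside a group, by generators
-/

set_option autoImplicit false

namespace Cfsg.Agent.DihedralPair68

open Subgroup
open Cfsg.Agent.ProductFusion68 (inv_of_sq mem_normalizer_of_conj_mem exists_conj_le)

variable {G : Type*} [Group G]

/-- Generators of a dihedral 2-group `D` of order `2 ^ (k + 1)`. -/
structure Dih (D : Subgroup G) where
  r : G
  a : G
  k : ℕ
  hk : 1 ≤ k
  rD : r ∈ D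
  aD : a ∈ D
  a2 : a * a = 1
  conj : a * r * a⁻¹ = r⁻¹
  ord : orderOf r = 2 ^ k
  cases : ∀ x ∈ D, x ∈ zpowers r ∨ a * x ∈ zpowers r
  anot : a ∉ zpowers r

namespace Dih

variable {D : Subgroup G} (d : Dih D)

/-- The central involution. -/
def z : G := d.r ^ (2 ^ (d.k - 1))

/-- The reflections. -/
def Refl (x : G) : Prop := x ∈ D ∧ x ∉ zpowers d.r

theorem two_pow_k : 2 ^ d.k = 2 * 2 ^ (d.k - 1) := by
  have := d.hk
  rw [← pow_succ', Nat.sub_add_cancel this]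

theorem zpowers_le : zpowers d.r ≤ D := Subgroup.zpowers_le.2 d.rD

theorem z_rot : d.z ∈ zpowers d.r := npow_mem_zpowers _ _

theorem z_mem : d.z ∈ D := d.zpowers_le d.z_rot

theorem z_sq : d.z * d.z = 1 := by
  rw [z, ← pow_add, ← two_mul, ← d.two_pow_k, ← d.ord, pow_orderOf_eq_one]

theorem z_ne : d.z ≠ 1 := by
  refine pow_ne_one_of_lt_orderOf (by positivity) ?_
  rw [d.ord, d.two_pow_k]
  have : 0 < 2 ^ (d.k - 1) := by positivity
  omega

theorem conj_rot {y : G} (hy : y ∈ zpowers d.r) : d.a * y * d.a⁻¹ = y⁻¹ := by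
  obtain ⟨i, rfl⟩ := hy
  show d.a * d.r ^ i * d.a⁻¹ = (d.r ^ i)⁻¹
  rw [← conj_zpow, d.conj, inv_zpow]

theorem refl_a : d.Refl d.a := ⟨d.aD, d.anot⟩

theorem refl_cases {x : G} (hx : d.Refl x) : ∃ y ∈ zpowers d.r, x = d.a * y :=
  ⟨d.a * x, (d.cases x hx.1).resolve_left hx.2, by rw [← mul_assoc, d.a2, one_mul]⟩

theorem refl_mul {x y : G} (hx : d.Refl x) (hy : y ∈ zpowers d.r) : d.Refl (x * y) :=
  ⟨mul_mem hx.1 (d.zpowers_le hy), fun h => hx.2 (by simpa using mul_mem h (inv_mem hy))⟩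

theorem refl_ar : d.Refl (d.a * d.r) := d.refl_mul d.refl_a (mem_zpowers _)

theorem refl_sq {x : G} (hx : d.Refl x) : x * x = 1 := by
  obtain ⟨y, hy, rfl⟩ := d.refl_cases hx
  have h := d.conj_rot hy
  rw [inv_of_sq d.a2] at h
  calc d.a * y * (d.a * y) = (d.a * y * d.a) * y := by group
    _ = 1 := by rw [h, inv_mul_cancel]

theorem refl_conj {x y : G} (hx : d.Refl x) (hy : y ∈ zpowers d.r) : x * y * x⁻¹ = y⁻¹ := by
  obtain ⟨u, hu, rfl⟩ := d.refl_cases hx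
  have hc : u * y * u⁻¹ = y := by
    obtain ⟨i, rfl⟩ := hu
    obtain ⟨j, rfl⟩ := hy
    show d.r ^ i * d.r ^ j * (d.r ^ i)⁻¹ = d.r ^ j
    rw [← zpow_add, add_comm, zpow_add, mul_inv_cancel_right]
  calc d.a * u * y * (d.a * u)⁻¹ = d.a * (u * y * u⁻¹) * d.a⁻¹ := by group
    _ = y⁻¹ := by rw [hc, d.conj_rot hy]

theorem refl_mul_refl {x y : G} (hx : d.Refl x) (hy : d.Refl y) : x * y ∈ zpowers d.r := by
  obtain ⟨u, hu, rfl⟩ := d.refl_cases hx
  obtain ⟨v, hv, rfl⟩ := d.refl_cases hy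
  have h := d.conj_rot hu
  rw [inv_of_sq d.a2] at h
  rw [show d.a * u * (d.a * v) = (d.a * u * d.a) * v by group, h]
  exact mul_mem (inv_mem hu) hv

theorem rot_sq {y : G} (hy : y ∈ zpowers d.r) (h : y * y = 1) (h1 : y ≠ 1) : y = d.z := by
  obtain ⟨i, rfl⟩ := hy
  have h2 : ((2 ^ d.k : ℕ) : ℤ) ∣ i + i := by
    rw [← d.ord, orderOf_dvd_iff_zpow_eq_one, zpow_add]
    exact h
  rw [d.two_pow_k] at h2
  have h3 : ((2 ^ (d.k - 1) : ℕ) : ℤ) ∣ i := by
    refine (mul_dvd_mul_iff_left (two_ne_zero : (2 : ℤ) ≠ 0)).1 ?_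
    rw [two_mul i]
    exact_mod_cast h2
  obtain ⟨j, rfl⟩ := h3
  show d.r ^ (((2 ^ (d.k - 1) : ℕ) : ℤ) * j) = d.z
  rw [zpow_mul, zpow_natCast]
  change d.z ^ j = d.z
  rcases Int.even_or_odd' j with ⟨l, rfl | rfl⟩
  · exfalso
    refine h1 ?_
    show d.r ^ (((2 ^ (d.k - 1) : ℕ) : ℤ) * (2 * l)) = 1
    rw [zpow_mul, zpow_natCast]
    show d.z ^ (2 * l) = 1
    rw [zpow_mul, zpow_two, d.z_sq, one_zpow]
  · rw [zpow_add_one, zpow_mul, zpow_two, d.z_sq, one_zpow, one_mul]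

theorem cases_sq {x : G} (hx : x ∈ D) (h : x * x = 1) (h1 : x ≠ 1) : x = d.z ∨ d.Refl x := by
  by_cases hr : x ∈ zpowers d.r
  · exact Or.inl (d.rot_sq hr h h1)
  · exact Or.inr ⟨hx, hr⟩

theorem refl_ne {x : G} (hx : d.Refl x) : x ≠ 1 := fun h => hx.2 (h ▸ one_mem _)

theorem z_comm {y : G} (hy : y ∈ D) : Commute d.z y := by
  by_cases hr : y ∈ zpowers d.r
  · obtain ⟨i, rfl⟩ := hr
    exact ((Commute.refl d.r).pow_left _).zpow_right i
  · have h := d.refl_conj ⟨hy, hr⟩ d.z_rot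
    rw [inv_of_sq d.z_sq, mul_inv_eq_iff_eq_mul] at h
    exact h.symm

theorem refl_z {x : G} (hx : d.Refl x) : d.Refl (x * d.z) := d.refl_mul hx d.z_rot

theorem comm_refl {x y : G} (hx : d.Refl x) (hy : y ∈ D) (h : Commute x y) :
    y = 1 ∨ y = d.z ∨ y = x ∨ y = x * d.z := by
  have hrot : ∀ w ∈ zpowers d.r, Commute x w → w = 1 ∨ w = d.z := by
    intro w hw hc
    have h2 := d.refl_conj hx hw
    rw [hc.eq, mul_inv_cancel_right] at h2
    have h3 : w * w = 1 := by nth_rewrite 2 [h2]; exact mul_inv_cancel w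
    by_cases h1 : w = 1
    · exact Or.inl h1
    · exact Or.inr (d.rot_sq hw h3 h1)
  by_cases hr : y ∈ zpowers d.r
  · rcases hrot y hr h with h1 | h1
    · exact Or.inl h1
    · exact Or.inr (Or.inl h1)
  · rcases hrot (x * y) (d.refl_mul_refl hx ⟨hy, hr⟩) ((Commute.refl x).mul_right h) with h1 | h1
    · right; right; left
      rw [← inv_of_sq (d.refl_sq hx)]
      exact eq_inv_of_mul_eq_one_right h1
    · right; right; right
      rw [← h1, ← mul_assoc, d.refl_sq hx, one_mul]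

theorem refl_class {x : G} (hx : d.Refl x) :
    ∃ y ∈ D, y * x * y⁻¹ = d.a ∨ y * x * y⁻¹ = d.a * d.r := by
  obtain ⟨u, hu, rfl⟩ := d.refl_cases hx
  obtain ⟨i, rfl⟩ := hu
  have e : ∀ j : ℤ, d.r ^ j * d.a = d.a * (d.r ^ j)⁻¹ := fun j => by
    have := d.conj_rot (zpow_mem (mem_zpowers d.r) j)
    rw [← this, inv_of_sq d.a2]
    simp only [← mul_assoc, d.a2, one_mul]
  rcases Int.even_or_odd' i with ⟨l, rfl | rfl⟩
  · refine ⟨d.r ^ l, zpow_mem d.rD l, Or.inl ?_⟩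
    show d.r ^ l * (d.a * d.r ^ (2 * l)) * (d.r ^ l)⁻¹ = d.a
    rw [← mul_assoc, e, mul_assoc (d.a), mul_assoc, ← zpow_neg, ← zpow_add, ← zpow_add,
      show -l + 2 * l + -l = 0 by ring, zpow_zero, mul_one]
  · refine ⟨d.r ^ l, zpow_mem d.rD l, Or.inr ?_⟩
    show d.r ^ l * (d.a * d.r ^ (2 * l + 1)) * (d.r ^ l)⁻¹ = d.a * d.r
    rw [← mul_assoc, e, mul_assoc (d.a), mul_assoc, ← zpow_neg, ← zpow_add, ← zpow_add,
      show -l + (2 * l + 1) + -l = 1 by ring, zpow_one]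

/-- The element of order four. -/
def q : G := d.r ^ (2 ^ (d.k - 2))

theorem q_rot : d.q ∈ zpowers d.r := npow_mem_zpowers _ _

theorem q_mem : d.q ∈ D := d.zpowers_le d.q_rot

theorem q_sq (hk : 2 ≤ d.k) : d.q * d.q = d.z := by
  rw [q, z, ← pow_add, ← two_mul, ← pow_succ', show d.k - 2 + 1 = d.k - 1 by omega]

theorem q_refl (hk : 2 ≤ d.k) {x : G} (hx : d.Refl x) : d.q * x * d.q⁻¹ = x * d.z := by
  have h := d.refl_conj hx d.q_rot
  rw [mul_inv_eq_iff_eq_mul] at h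
  calc d.q * x * d.q⁻¹ = x * (x * d.q) * x * d.q⁻¹ := by
        rw [← mul_assoc x x, d.refl_sq hx, one_mul]
    _ = x * (d.q⁻¹ * x) * x * d.q⁻¹ := by rw [h]
    _ = x * d.q⁻¹ * (x * x) * d.q⁻¹ := by group
    _ = x * (d.q * d.q)⁻¹ := by rw [d.refl_sq hx, mul_one, mul_inv_rev, mul_assoc]
    _ = x * d.z := by rw [d.q_sq hk, inv_of_sq d.z_sq]

theorem z_commutator (hk : 2 ≤ d.k) {x : G} (hx : d.Refl x) : d.q * x * d.q⁻¹ * x⁻¹ = d.z := by
  rw [d.q_refl hk hx, inv_of_sq (d.refl_sq hx), mul_assoc, (d.z_comm hx.1).eq, ← mul_assoc,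
    d.refl_sq hx, one_mul]

theorem center_cases (hk : 2 ≤ d.k) {y : G} (hy : y ∈ D) (h : ∀ w ∈ D, Commute w y) :
    y = 1 ∨ y = d.z := by
  rcases d.comm_refl d.refl_a hy (h d.a d.aD) with h1 | h1 | h1 | h1
  · exact Or.inl h1
  · exact Or.inr h1
  all_goals
    exfalso
    have href : d.Refl y := by
      rw [h1]
      first
        | exact d.refl_a
        | exact d.refl_z d.refl_a
    have h2 := d.q_refl hk href
    rw [(h d.q d.q_mem).eq, mul_inv_cancel_right] at h2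
    exact d.z_ne (mul_eq_left.1 h2.symm)

theorem commutator_rot {x y : G} (hx : x ∈ D) (hy : y ∈ D) :
    x * y * x⁻¹ * y⁻¹ ∈ zpowers d.r := by
  by_cases hx' : x ∈ zpowers d.r <;> by_cases hy' : y ∈ zpowers d.r
  · exact mul_mem (mul_mem (mul_mem hx' hy') (inv_mem hx')) (inv_mem hy')
  · have h := d.refl_conj ⟨hy, hy'⟩ (inv_mem hx')
    rw [show x * y * x⁻¹ * y⁻¹ = x * (y * x⁻¹ * y⁻¹) by group, h, inv_inv]
    exact mul_mem hx' hx'
  · rw [d.refl_conj ⟨hx, hx'⟩ hy']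
    exact mul_mem (inv_mem hy') (inv_mem hy')
  · have h := d.refl_mul_refl ⟨hx, hx'⟩ ⟨hy, hy'⟩
    rw [inv_of_sq (d.refl_sq ⟨hx, hx'⟩), inv_of_sq (d.refl_sq ⟨hy, hy'⟩), mul_assoc]
    exact mul_mem h h

theorem comm_of_k_one (hk : d.k = 1) {x y : G} (hx : x ∈ D) (hy : y ∈ D) : Commute x y := by
  have hrz : ∀ w ∈ zpowers d.r, w * w = 1 := by
    rintro _ ⟨i, rfl⟩
    show d.r ^ i * d.r ^ i = 1
    rw [← (Commute.refl d.r).mul_zpow, ← pow_two,
      show d.r ^ 2 = 1 by rw [← pow_orderOf_eq_one d.r, d.ord, hk, pow_one], one_zpow]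
  have hsq : ∀ w ∈ D, w * w = 1 := fun w hw => by
    by_cases h : w ∈ zpowers d.r
    · exact hrz w h
    · exact d.refl_sq ⟨hw, h⟩
  have h := hsq _ (mul_mem hx hy)
  have e : x * y = y⁻¹ * x⁻¹ := by rw [← mul_inv_rev]; exact (inv_eq_of_mul_eq_one_right h).symm
  rwa [inv_of_sq (hsq x hx), inv_of_sq (hsq y hy)] at e

theorem sq_of_k_one (hk : d.k = 1) {x : G} (hx : x ∈ D) : x * x = 1 := by
  by_cases h : x ∈ zpowers d.r
  · obtain ⟨i, rfl⟩ := h
    show d.r ^ i * d.r ^ i = 1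
    rw [← (Commute.refl d.r).mul_zpow, ← pow_two,
      show d.r ^ 2 = 1 by rw [← pow_orderOf_eq_one d.r, d.ord, hk, pow_one], one_zpow]
  · exact d.refl_sq ⟨hx, h⟩

end Dih

/-- Generators of a dihedral 2-subgroup from an isomorphism. -/
theorem exists_dih [Finite G] {D : Subgroup G} (hD : IsPGroup 2 D) {m : ℕ} (hm : 2 ≤ m)
    (e : D ≃* DihedralGroup m) : ∃ d : Dih D, m = 2 ^ d.k := by
  haveI := Fact.mk Nat.prime_two
  haveI : NeZero m := ⟨by omega⟩
  obtain ⟨n, hn⟩ := IsPGroup.iff_card.1 hD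
  rw [Nat.card_congr e.toEquiv, DihedralGroup.nat_card] at hn
  obtain ⟨j, hj, hjm⟩ := (Nat.dvd_prime_pow Nat.prime_two).1 (Dvd.intro_left 2 hn)
  have hj1 : 1 ≤ j := by
    rcases Nat.eq_zero_or_pos j with h | h
    · rw [h, pow_zero] at hjm; omega
    · exact h
  set r : G := ((e.symm (DihedralGroup.r 1) : D) : G) with hr
  set a : G := ((e.symm (DihedralGroup.sr 0) : D) : G) with ha
  have himg : ∀ i : ZMod m, ((e.symm (DihedralGroup.r i) : D) : G) = r ^ i.val := fun i => by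
    rw [hr, ← Subgroup.coe_pow, ← map_pow, DihedralGroup.r_one_pow, ZMod.natCast_val, ZMod.cast_id', id]
  refine ⟨⟨r, a, j, hj1, SetLike.coe_mem _, SetLike.coe_mem _, ?_, ?_, ?_, ?_, ?_⟩, hjm⟩
  · rw [ha, ← Subgroup.coe_mul, ← map_mul, DihedralGroup.sr_mul_self, map_one, Subgroup.coe_one]
  · rw [ha, hr, ← Subgroup.coe_inv, ← Subgroup.coe_inv, ← Subgroup.coe_mul, ← Subgroup.coe_mul,
      ← map_inv, ← map_inv, ← map_mul, ← map_mul, DihedralGroup.inv_sr, DihedralGroup.sr_mul_r,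
      DihedralGroup.sr_mul_sr, DihedralGroup.inv_r]
    simp
  · rw [hr, Subgroup.orderOf_coe, MulEquiv.orderOf_eq, DihedralGroup.orderOf_r_one, hjm]
  · intro x hx
    rcases hq : e ⟨x, hx⟩ with i | i
    · left
      have hxe : x = ((e.symm (DihedralGroup.r i) : D) : G) := by rw [← hq, e.symm_apply_apply]
      rw [hxe, himg]
      exact npow_mem_zpowers _ _
    · right
      have hxe : x = ((e.symm (DihedralGroup.sr i) : D) : G) := by rw [← hq, e.symm_apply_apply]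
      rw [hxe, ha, ← Subgroup.coe_mul, ← map_mul, DihedralGroup.sr_mul_sr, himg]
      exact npow_mem_zpowers _ _
  · intro h
    obtain ⟨i, hi⟩ := h
    have h1 : e.symm (DihedralGroup.r 1 ^ i) = e.symm (DihedralGroup.sr 0) := by
      apply Subtype.ext
      rw [map_zpow, Subgroup.coe_zpow]
      exact hi
    have h2 := e.symm.injective h1
    rw [DihedralGroup.r_one_zpow] at h2
    simp at h2

/-- Conversely, generators give an isomorphism with a dihedral group. -/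
theorem Dih.nonempty_equiv [Finite G] {D : Subgroup G} (d : Dih D) :
    Nonempty (D ≃* DihedralGroup (2 ^ d.k)) := by
  haveI : NeZero (2 ^ d.k) := ⟨by positivity⟩
  let f : DihedralGroup (2 ^ d.k) → D := fun x => match x with
    | DihedralGroup.r i => ⟨d.r ^ i.val, pow_mem d.rD _⟩
    | DihedralGroup.sr i => ⟨d.a * d.r ^ i.val, mul_mem d.aD (pow_mem d.rD _)⟩
  have hadd : ∀ i j : ZMod (2 ^ d.k), d.r ^ (i + j).val = d.r ^ i.val * d.r ^ j.val := fun i j => by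
    rw [← pow_add, ZMod.val_add]
    conv_rhs => rw [← pow_mod_orderOf, d.ord]
  have hsub : ∀ i j : ZMod (2 ^ d.k), d.r ^ (j - i).val = (d.r ^ i.val)⁻¹ * d.r ^ j.val := fun i j => by
    rw [eq_inv_mul_iff_mul_eq, ← hadd, add_sub_cancel]
  have hrot : ∀ i : ZMod (2 ^ d.k), d.r ^ i.val * d.a = d.a * (d.r ^ i.val)⁻¹ := fun i => by
    have := d.conj_rot (npow_mem_zpowers d.r i.val)
    rw [← this, inv_of_sq d.a2]
    simp only [← mul_assoc, d.a2, one_mul]
  have hmul : ∀ x y, f (x * y) = f x * f y := by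
    rintro (i | i) (j | j)
    · exact Subtype.ext (hadd i j)
    · refine Subtype.ext ?_
      show d.a * d.r ^ (j - i).val = d.r ^ i.val * (d.a * d.r ^ j.val)
      rw [← mul_assoc (d.r ^ i.val), hrot, hsub, mul_assoc]
    · refine Subtype.ext ?_
      show d.a * d.r ^ (i + j).val = d.a * d.r ^ i.val * d.r ^ j.val
      rw [hadd, mul_assoc]
    · refine Subtype.ext ?_
      show d.r ^ (j - i).val = d.a * d.r ^ i.val * (d.a * d.r ^ j.val)
      rw [mul_assoc d.a, ← mul_assoc (d.r ^ i.val), hrot, ← mul_assoc, ← mul_assoc, d.a2, one_mul, hsub]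
  have hinj : Function.Injective f := by
    have key : ∀ i j : ZMod (2 ^ d.k), d.r ^ i.val = d.r ^ j.val → i = j := fun i j h => by
      refine ZMod.val_injective _ (pow_injOn_Iio_orderOf ?_ ?_ h)
      · simpa [d.ord] using i.val_lt
      · simpa [d.ord] using j.val_lt
    rintro (i | i) (j | j) h
    · rw [key i j (congrArg Subtype.val h)]
    · exfalso
      have h' : d.r ^ i.val = d.a * d.r ^ j.val := congrArg Subtype.val h
      refine d.anot ?_
      have : d.a = d.r ^ i.val * (d.r ^ j.val)⁻¹ := eq_mul_inv_of_mul_eq h'.symm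
      rw [this]
      exact mul_mem (npow_mem_zpowers _ _) (inv_mem (npow_mem_zpowers _ _))
    · exfalso
      have h' : d.a * d.r ^ i.val = d.r ^ j.val := congrArg Subtype.val h
      refine d.anot ?_
      have : d.a = d.r ^ j.val * (d.r ^ i.val)⁻¹ := eq_mul_inv_of_mul_eq h'
      rw [this]
      exact mul_mem (npow_mem_zpowers _ _) (inv_mem (npow_mem_zpowers _ _))
    · have h' : d.a * d.r ^ i.val = d.a * d.r ^ j.val := congrArg Subtype.val h
      rw [key i j (mul_left_cancel h')]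
  have hsurj : Function.Surjective f := by
    rintro ⟨x, hx⟩
    rcases d.cases x hx with h | h
    · obtain ⟨n, hn⟩ := mem_powers_iff_mem_zpowers.2 h
      refine ⟨DihedralGroup.r (n : ZMod (2 ^ d.k)), Subtype.ext ?_⟩
      show d.r ^ (n : ZMod (2 ^ d.k)).val = x
      rw [ZMod.val_natCast, ← hn]
      show d.r ^ (n % 2 ^ d.k) = d.r ^ n
      conv_rhs => rw [← pow_mod_orderOf, d.ord]
    · obtain ⟨n, hn⟩ := mem_powers_iff_mem_zpowers.2 h
      refine ⟨DihedralGroup.sr (n : ZMod (2 ^ d.k)), Subtype.ext ?_⟩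
      show d.a * d.r ^ (n : ZMod (2 ^ d.k)).val = x
      have hn' : d.r ^ n = d.a * x := hn
      rw [ZMod.val_natCast, show d.r ^ (n % 2 ^ d.k) = d.r ^ n by
        conv_rhs => rw [← pow_mod_orderOf, d.ord], hn', ← mul_assoc, d.a2, one_mul]
  exact ⟨(MulEquiv.ofBijective (MonoidHom.mk' f hmul) ⟨hinj, hsurj⟩).symm⟩

/-- A Sylow 2-subgroup of `S` decomposed as a product of two dihedral groups. -/
structure Setup (G : Type*) [Group G] where
  S : Sylow 2 G
  D1 : Subgroup G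
  D2 : Subgroup G
  hd : IsInternalDirectProduct D1 D2 (S : Subgroup G)
  d1 : Dih D1
  d2 : Dih D2
  hk : 2 ≤ d1.k

namespace Setup

variable (P : Setup G)

theorem le1 : P.D1 ≤ (P.S : Subgroup G) := P.hd.1

theorem le2 : P.D2 ≤ (P.S : Subgroup G) := P.hd.2.1

theorem comm {x y : G} (hx : x ∈ P.D1) (hy : y ∈ P.D2) : Commute x y := P.hd.2.2.1 x hx y hy

theorem inter {x : G} (hx : x ∈ P.D1) (hy : x ∈ P.D2) : x = 1 :=
  Subgroup.mem_bot.1 (P.hd.2.2.2.1.le ⟨hx, hy⟩)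

theorem decomp {x : G} (hx : x ∈ (P.S : Subgroup G)) :
    ∃ a ∈ P.D1, ∃ b ∈ P.D2, x = a * b := by
  rw [← P.hd.2.2.2.2, ← SetLike.mem_coe, Subgroup.coe_mul_of_left_le_normalizer_right P.D1 P.D2
    (fun a ha => mem_normalizer_iff.2 fun b => by
      constructor
      · intro hb
        rw [(P.comm ha hb).eq, mul_inv_cancel_right]; exact hb
      · intro hb
        have h := (P.comm ha hb).eq
        have e : b = a * b * a⁻¹ := by
          calc b = a⁻¹ * ((a * b * a⁻¹) * a) := by group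
            _ = a⁻¹ * (a * (a * b * a⁻¹)) := by rw [h]
            _ = a * b * a⁻¹ := by group
        rw [e]; exact hb)] at hx
  obtain ⟨a, ha, b, hb, rfl⟩ := Set.mem_mul.1 hx
  exact ⟨a, ha, b, hb, rfl⟩

theorem uniq {a a' b b' : G} (ha : a ∈ P.D1) (ha' : a' ∈ P.D1) (hb : b ∈ P.D2) (hb' : b' ∈ P.D2)
    (h : a * b = a' * b') : a = a' ∧ b = b' := by
  have e : a'⁻¹ * a = b' * b⁻¹ := by
    rw [eq_mul_inv_iff_mul_eq, mul_assoc, h, inv_mul_cancel_left]
  have h1 := P.inter (mul_mem (inv_mem ha') ha) (e ▸ mul_mem hb' (inv_mem hb))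
  rw [inv_mul_eq_one] at h1
  subst h1
  exact ⟨rfl, mul_left_cancel h⟩

theorem mul_mem_S {a b : G} (ha : a ∈ P.D1) (hb : b ∈ P.D2) : a * b ∈ (P.S : Subgroup G) :=
  mul_mem (P.le1 ha) (P.le2 hb)

theorem mul4 {a a' b b' : G} (ha' : a' ∈ P.D1) (hb : b ∈ P.D2) :
    a * b * (a' * b') = (a * a') * (b * b') := (P.comm ha' hb).symm.mul_mul_mul_comm a b'

theorem sq_iff {a b : G} (ha : a ∈ P.D1) (hb : b ∈ P.D2) (h : (a * b) * (a * b) = 1) :
    a * a = 1 ∧ b * b = 1 := by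
  rw [P.mul4 ha hb] at h
  exact P.uniq (mul_mem ha ha) P.D1.one_mem (mul_mem hb hb) P.D2.one_mem (by rw [h, one_mul])

theorem commute_split {a a' b b' : G} (ha : a ∈ P.D1) (ha' : a' ∈ P.D1) (hb : b ∈ P.D2)
    (hb' : b' ∈ P.D2) (h : Commute (a * b) (a' * b')) : Commute a a' ∧ Commute b b' := by
  have h' := h.eq
  rw [P.mul4 ha' hb, P.mul4 ha hb'] at h'
  exact P.uniq (mul_mem ha ha') (mul_mem ha' ha) (mul_mem hb hb') (mul_mem hb' hb) h'

/-- Elements of a 2-group in a centraliser move to a Sylow 2-subgroup of it inside `S`. -/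
theorem exists_extremal [Finite G] (a : G) (ha : a * a = 1) :
    ∃ u ∈ (P.S : Subgroup G), (∃ g, g * a * g⁻¹ = u) ∧
      ∀ T : Subgroup G, IsPGroup 2 T → T ≤ centralizer ({a} : Set G) →
        ∃ g, g * a * g⁻¹ = u ∧ ∀ t ∈ T, g * t * g⁻¹ ∈ (P.S : Subgroup G) := by
  haveI := Fact.mk Nat.prime_two
  set C := centralizer ({a} : Set G) with hC
  have haC : a ∈ C := ProductFusion68.self_mem_centralizer a
  obtain ⟨R, hR⟩ := (IsPGroup.comap_subtype (K := C)
    (ProductFusion68.isPGroup_of_forall_sq (V := zpowers a) (by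
      rintro _ ⟨i, rfl⟩
      show a ^ i * a ^ i = 1
      rw [← (Commute.refl a).mul_zpow, ha, one_zpow]))).exists_le_sylow
  obtain ⟨g0, hg0⟩ := exists_conj_le P.S (R.isPGroup'.map C.subtype)
  refine ⟨g0 * a * g0⁻¹, hg0 a ⟨⟨a, haC⟩,
    hR (show (⟨a, haC⟩ : C) ∈ (zpowers a).comap C.subtype from mem_zpowers a), rfl⟩, ⟨g0, rfl⟩,
    fun T hT hTC => ?_⟩
  obtain ⟨R', hR'⟩ := (IsPGroup.comap_subtype (K := C) hT).exists_le_sylow
  obtain ⟨c, hc⟩ := MulAction.exists_smul_eq C R' R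
  refine ⟨g0 * c, ?_, fun t ht => ?_⟩
  · have hca : (c : G) * a * (c : G)⁻¹ = a := by
      rw [(Subgroup.mem_centralizer_singleton_iff.1 c.2), mul_inv_cancel_right]
    calc g0 * c * a * (g0 * c)⁻¹ = g0 * ((c : G) * a * (c : G)⁻¹) * g0⁻¹ := by group
      _ = g0 * a * g0⁻¹ := by rw [hca]
  · have hmem : c * ⟨t, hTC ht⟩ * c⁻¹ ∈ (R : Subgroup C) := by
      rw [← hc, Sylow.coe_subgroup_smul, Subgroup.mem_pointwise_smul_iff_inv_smul_mem, ← map_inv,
        MulAut.smul_def, MulAut.conj_apply]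
      have e : ∀ w : C, c⁻¹ * (c * w * c⁻¹) * c⁻¹⁻¹ = w := fun w => by group
      rw [e]
      exact hR' (show (⟨t, hTC ht⟩ : C) ∈ T.comap C.subtype from ht)
    have h2 := hg0 _ ⟨_, hmem, rfl⟩
    simp only [Subgroup.coe_subtype, Subgroup.coe_mul, Subgroup.coe_inv] at h2
    rw [show g0 * c * t * (g0 * c)⁻¹ = g0 * ((c : G) * t * (c : G)⁻¹) * g0⁻¹ by group]
    exact h2

theorem exists_to_central [Finite G] {c y : G}
    (hcent : ∀ s ∈ (P.S : Subgroup G), Commute s c)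
    {x : G} (hx : x * y * x⁻¹ = c) {T : Subgroup G} (hT : IsPGroup 2 T)
    (hTy : T ≤ centralizer ({y} : Set G)) :
    ∃ g, g * y * g⁻¹ = c ∧ ∀ t ∈ T, g * t * g⁻¹ ∈ (P.S : Subgroup G) := by
  haveI := Fact.mk Nat.prime_two
  set C := centralizer ({c} : Set G) with hC
  have hSC : (P.S : Subgroup G) ≤ C := fun s hs =>
    Subgroup.mem_centralizer_singleton_iff.2 (hcent s hs).eq
  have hTC : T.map (MulAut.conj x).toMonoidHom ≤ C := by
    rintro _ ⟨t, ht, rfl⟩
    refine Subgroup.mem_centralizer_singleton_iff.2 ?_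
    show x * t * x⁻¹ * c = c * (x * t * x⁻¹)
    have hty : t * y = y * t := Subgroup.mem_centralizer_singleton_iff.1 (hTy ht)
    rw [← hx, show x * t * x⁻¹ * (x * y * x⁻¹) = x * (t * y) * x⁻¹ by group, hty]
    group
  obtain ⟨h, hh⟩ := exists_conj_le (P.S.subtype hSC)
    (IsPGroup.comap_subtype (K := C) (hT.map (MulAut.conj x).toMonoidHom))
  refine ⟨h * x, ?_, fun t ht => ?_⟩
  · rw [show (h : G) * x * y * ((h : G) * x)⁻¹ = h * (x * y * x⁻¹) * (h : G)⁻¹ by group, hx,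
      Subgroup.mem_centralizer_singleton_iff.1 h.2, mul_inv_cancel_right]
  · have := hh ⟨x * t * x⁻¹, hTC ⟨t, ht, rfl⟩⟩ ⟨t, ht, rfl⟩
    rw [Sylow.coe_subtype, Subgroup.mem_subgroupOf] at this
    simp only [Subgroup.coe_mul, Subgroup.coe_inv] at this
    rw [show (h : G) * x * t * ((h : G) * x)⁻¹ = h * (x * t * x⁻¹) * (h : G)⁻¹ by group]
    exact this

theorem burnside [Finite G] {c c' : G} (hcS : c ∈ (P.S : Subgroup G))
    (hc : ∀ s ∈ (P.S : Subgroup G), Commute s c) (hc' : ∀ s ∈ (P.S : Subgroup G), Commute s c')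
    {x : G} (hx : x * c * x⁻¹ = c') :
    ∃ n ∈ normalizer ((P.S : Subgroup G) : Set G), n * c * n⁻¹ = c' := by
  obtain ⟨g, hg, hgS⟩ := P.exists_to_central hc' hx P.S.isPGroup'
    (fun s hs => Subgroup.mem_centralizer_singleton_iff.2 (hc s hs).eq)
  exact ⟨g, mem_normalizer_of_conj_mem hgS, hg⟩

/-- A subgroup generated by two dihedral generators. -/
def dihSub (r a : G) (ha2 : a * a = 1) (hconj : a * r * a⁻¹ = r⁻¹) : Subgroup G where
  carrier := {x | x ∈ zpowers r ∨ a * x ∈ zpowers r}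
  one_mem' := Or.inl (one_mem _)
  mul_mem' := by
    have hrot : ∀ y ∈ zpowers r, a * y = y⁻¹ * a := by
      rintro _ ⟨i, rfl⟩
      show a * r ^ i = (r ^ i)⁻¹ * a
      rw [← inv_zpow, ← hconj, conj_zpow, inv_mul_cancel_right]
    rintro x y (hx | hx) (hy | hy)
    · exact Or.inl (mul_mem hx hy)
    · refine Or.inr ?_
      rw [← mul_assoc, hrot x hx, mul_assoc]
      exact mul_mem (inv_mem hx) hy
    · refine Or.inr ?_
      rw [← mul_assoc]
      exact mul_mem hx hy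
    · refine Or.inl ?_
      have e : x * y = (a * x)⁻¹ * (a * y) := by
        have h1 : a * (a * x) = (a * x)⁻¹ * a := hrot _ hx
        calc x * y = (a * (a * x)) * y := by rw [← mul_assoc a a x, ha2, one_mul]
          _ = (a * x)⁻¹ * (a * y) := by rw [h1, mul_assoc]
      rw [e]
      exact mul_mem (inv_mem hx) hy
  inv_mem' := by
    have hrot : ∀ y ∈ zpowers r, a * y = y⁻¹ * a := by
      rintro _ ⟨i, rfl⟩
      show a * r ^ i = (r ^ i)⁻¹ * a
      rw [← inv_zpow, ← hconj, conj_zpow, inv_mul_cancel_right]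
    rintro x (hx | hx)
    · exact Or.inl (inv_mem hx)
    · refine Or.inr ?_
      have e : a * x⁻¹ = a * x := by
        congr 1
        refine inv_eq_of_mul_eq_one_right ?_
        calc x * x = (a * (a * x)) * x := by rw [← mul_assoc a a x, ha2, one_mul]
          _ = (a * x)⁻¹ * (a * x) := by rw [hrot _ hx, mul_assoc]
          _ = 1 := inv_mul_cancel _
      rw [e]; exact hx

/-- Twist the first factor by central involutions of the second. -/
theorem exists_twist [Finite G] {u v : G} (hu : u ∈ P.D2) (hv : v ∈ P.D2)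
    (huc : ∀ b ∈ P.D2, Commute b u) (hvc : ∀ b ∈ P.D2, Commute b v) (hu2 : u * u = 1)
    (hv2 : v * v = 1) :
    ∃ (D1' : Subgroup G) (d1' : Dih D1') (_ : IsInternalDirectProduct D1' P.D2 (P.S : Subgroup G)),
      d1'.k = P.d1.k ∧ d1'.z = P.d1.z ∧
      (∀ x, d1'.Refl x → ∃ y, (y * x * y⁻¹ = P.d1.a * u ∨ y * x * y⁻¹ = P.d1.a * P.d1.r * v)) := by
  set w := u * v with hw
  have hwD : w ∈ P.D2 := mul_mem hu hv
  have hwc : ∀ b ∈ P.D2, Commute b w := fun b hb => (huc b hb).mul_right (hvc b hb)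
  have hw2 : w * w = 1 := by rw [hw, (huc v hv).mul_mul_mul_comm, hu2, hv2, one_mul]
  set a' := P.d1.a * u with ha'
  set r' := P.d1.r * w with hr'
  have hru : Commute P.d1.r u := P.comm P.d1.rD hu
  have hau : Commute P.d1.a u := P.comm P.d1.aD hu
  have hrw : Commute P.d1.r w := P.comm P.d1.rD hwD
  have ha2 : a' * a' = 1 := by rw [ha', hau.symm.mul_mul_mul_comm, P.d1.a2, hu2, one_mul]
  have hconj : a' * r' * a'⁻¹ = r'⁻¹ := by
    rw [ha', hr', mul_inv_rev P.d1.r, inv_of_sq hw2]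
    calc P.d1.a * u * (P.d1.r * w) * (P.d1.a * u)⁻¹
        = P.d1.a * ((u * P.d1.r * u⁻¹) * (u * w * u⁻¹)) * P.d1.a⁻¹ := by group
      _ = (P.d1.a * P.d1.r * P.d1.a⁻¹) * (P.d1.a * w * P.d1.a⁻¹) := by
          rw [← hru.eq, mul_inv_cancel_right, (huc w hwD).symm.eq, mul_inv_cancel_right]; group
      _ = P.d1.r⁻¹ * w := by rw [P.d1.conj, (P.comm P.d1.aD hwD).eq, mul_inv_cancel_right]
      _ = w * P.d1.r⁻¹ := (hrw.inv_left).eq
  have hpow : ∀ n : ℕ, Even n → r' ^ n = P.d1.r ^ n := by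
    rintro n ⟨l, rfl⟩
    rw [hr', hrw.mul_pow, ← two_mul, pow_mul w, pow_two, hw2, one_pow, mul_one]
  have heven : Even (2 ^ (P.d1.k - 1)) :=
    Nat.even_pow.2 ⟨even_two, by have := P.hk; omega⟩
  have hord : orderOf r' = 2 ^ P.d1.k := by
    have h1 := P.d1.hk
    conv_rhs => rw [show P.d1.k = (P.d1.k - 1) + 1 by omega]
    refine orderOf_eq_prime_pow ?_ ?_
    · rw [hpow _ heven]
      exact P.d1.z_ne
    · rw [show P.d1.k - 1 + 1 = P.d1.k by omega, hpow _ (Nat.even_pow.2 ⟨even_two, by omega⟩), ← P.d1.ord,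
        pow_orderOf_eq_one]
  have hproj : ∀ i : ℤ, r' ^ i = P.d1.r ^ i * w ^ i := fun i => hrw.mul_zpow i
  have hanot : a' ∉ zpowers r' := by
    rintro ⟨i, hi⟩
    have hi' : r' ^ i = a' := hi
    rw [hproj] at hi'
    have h := P.uniq (zpow_mem P.d1.rD i) P.d1.aD (zpow_mem hwD i) hu hi'
    exact P.d1.anot ⟨i, h.1⟩
  let D1' := dihSub r' a' ha2 hconj
  have hrD' : r' ∈ D1' := Or.inl (mem_zpowers r')
  have haD' : a' ∈ D1' := Or.inr (by rw [ha2]; exact one_mem _)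
  let d1' : Dih D1' :=
    ⟨r', a', P.d1.k, P.d1.hk, hrD', haD', ha2, hconj, hord, fun x hx => hx, hanot⟩
  have hle : D1' ≤ (P.S : Subgroup G) := by
    intro x hx
    have hrS : r' ∈ (P.S : Subgroup G) := P.mul_mem_S P.d1.rD hwD
    have haS : a' ∈ (P.S : Subgroup G) := P.mul_mem_S P.d1.aD hu
    rcases hx with h | h
    · exact (Subgroup.zpowers_le.2 hrS) h
    · rw [show x = a' * (a' * x) by rw [← mul_assoc, ha2, one_mul]]
      exact mul_mem haS ((Subgroup.zpowers_le.2 hrS) h)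
  have hshape : ∀ x ∈ D1', ∃ c ∈ P.D1, ∃ e ∈ P.D2, x = c * e ∧ (∀ b ∈ P.D2, Commute b e) ∧
      (c = 1 → e = 1) := by
    intro x hx
    rcases hx with ⟨i, hi⟩ | ⟨i, hi⟩
    · refine ⟨P.d1.r ^ i, zpow_mem P.d1.rD i, w ^ i, zpow_mem hwD i, ?_,
        fun b hb => (hwc b hb).zpow_right i, fun h => ?_⟩
      · rw [← hproj]; exact hi.symm
      · have h1 : ((2 ^ P.d1.k : ℕ) : ℤ) ∣ i := by
          rw [← P.d1.ord]; exact orderOf_dvd_iff_zpow_eq_one.2 h
        have h2 : (2 : ℤ) ∣ i := dvd_trans (by exact_mod_cast dvd_pow_self 2 (by have := P.d1.hk; omega)) h1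
        obtain ⟨l, rfl⟩ := h2
        rw [zpow_mul, zpow_two, hw2, one_zpow]
    · have hi' : r' ^ i = a' * x := hi
      refine ⟨P.d1.a * P.d1.r ^ i, mul_mem P.d1.aD (zpow_mem P.d1.rD i), u * w ^ i,
        mul_mem hu (zpow_mem hwD i), ?_, fun b hb => (huc b hb).mul_right ((hwc b hb).zpow_right i),
        fun h => ?_⟩
      · rw [← P.mul4 (zpow_mem P.d1.rD i) hu, ← hproj, ← ha', hi', ← mul_assoc, ha2, one_mul]
      · exact absurd ⟨-i, by
          show P.d1.r ^ (-i) = P.d1.a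
          rw [zpow_neg]; exact (eq_inv_of_mul_eq_one_left h).symm⟩ P.d1.anot
  have hcomm : ∀ x ∈ D1', ∀ b ∈ P.D2, x * b = b * x := by
    intro x hx b hb
    obtain ⟨c, hc, e, -, rfl, hec, -⟩ := hshape x hx
    exact ((P.comm hc hb).mul_left (hec b hb).symm).eq
  have hbot : D1' ⊓ P.D2 = ⊥ := le_bot_iff.1 fun x hx => by
    obtain ⟨c, hc, e, he, rfl, -, hce⟩ := hshape x hx.1
    have hx2 : c * e ∈ P.D2 := hx.2
    have := P.inter hc (by simpa using mul_mem hx2 (inv_mem he))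
    rw [this, hce this, one_mul]
    exact one_mem _
  have hsup : D1' ⊔ P.D2 = (P.S : Subgroup G) := by
    refine le_antisymm (sup_le hle P.le2) (fun x hx => ?_)
    obtain ⟨c, hc, b, hb, rfl⟩ := P.decomp hx
    refine mul_mem ?_ (Subgroup.mem_sup_right hb)
    have hrr : P.d1.r ∈ D1' ⊔ P.D2 := by
      rw [show P.d1.r = r' * w⁻¹ by rw [hr', mul_inv_cancel_right]]
      exact mul_mem (Subgroup.mem_sup_left hrD') (inv_mem (Subgroup.mem_sup_right hwD))
    have haa : P.d1.a ∈ D1' ⊔ P.D2 := by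
      rw [show P.d1.a = a' * u⁻¹ by rw [ha', mul_inv_cancel_right]]
      exact mul_mem (Subgroup.mem_sup_left haD') (inv_mem (Subgroup.mem_sup_right hu))
    rcases P.d1.cases c hc with h | h
    · exact Subgroup.zpowers_le.2 hrr h
    · rw [show c = P.d1.a * (P.d1.a * c) by rw [← mul_assoc, P.d1.a2, one_mul]]
      exact mul_mem haa (Subgroup.zpowers_le.2 hrr h)
  refine ⟨D1', d1', ⟨hle, P.le2, hcomm, hbot, hsup⟩, rfl, hpow _ heven, fun x hx => ?_⟩
  obtain ⟨y, -, hy⟩ := d1'.refl_class hx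
  refine ⟨y, hy.imp id fun h => h.trans ?_⟩
  show a' * r' = P.d1.a * P.d1.r * v
  rw [ha', hr', P.mul4 P.d1.rD hu, hw, ← mul_assoc u u, hu2, one_mul]

end Setup

end Cfsg.Agent.DihedralPair68
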