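import Cfsg.Agent.Lib.ProductFusion68Base
import Cfsg.Agent.Lib.ZStarTheorem

/-!
# Product fusion: the standing hypotheses of the induction, local lemmas, frames
-/

set_option autoImplicit false

namespace Cfsg.Agent.ProductFusion68

open Subgroup
open scoped commutatorElement

variable {G : Type*} [Group G]

/-- The standing hypotheses inside the induction. -/
structure Ctx (G : Type*) [Group G] extends Data G where
  hO : pPrimeCore 2 G = ⊥
  hsub : ∀ X : Subgroup G, X ≠ ⊤ → ∀ x ∈ toData.C1, ∀ y ∈ toData.C2, x ∈ X → y ∈ X →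
    ⁅x, y⁆ ∈ coreIn X
  nc1 : ∀ z ∈ toData.I1, z ∉ center G
  nc2 : ∀ z ∈ toData.I2, z ∉ center G

namespace Ctx

variable (K : Ctx G)

/-- Exchange the two sides. -/
def swap : Ctx G where
  toData := K.toData.swap
  hO := K.hO
  hsub := fun X hX x hx y hy hxX hyX => commutator_symm_mem (K.hsub X hX y hy x hx hyX hxX)
  nc1 := K.nc2
  nc2 := K.nc1

theorem centralizer_ne_top {z : G} (hz : z ∉ center G) : centralizer ({z} : Set G) ≠ ⊤ :=
  fun h => hz (Subgroup.mem_center_iff.2 fun g =>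
    (mem_centralizer_singleton.1 (show g ∈ centralizer ({z} : Set G) by rw [h]; trivial)).eq)

theorem mem_cen_of_mem1 {X : Subgroup G} (hX : X ≠ ⊤) {x : G} (hx : x ∈ K.C1) (hxX : x ∈ X) :
    x ∈ cen X K.C2 :=
  ⟨hxX, fun y hy hyX => K.hsub X hX x hx y hy hxX hyX⟩

/-- Lemma C. -/
theorem closure1_le_cen2 {X : Subgroup G} (hX : X ≠ ⊤) :
    closure (K.C1 ∩ X) ≤ cen X K.C2 :=
  (closure_le _).2 fun _ hx => K.mem_cen_of_mem1 hX hx.1 hx.2

theorem closure2_le_cen1 {X : Subgroup G} (hX : X ≠ ⊤) :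
    closure (K.C2 ∩ X) ≤ cen X K.C1 :=
  K.swap.closure1_le_cen2 hX

/-- Lemma A. -/
theorem lemmaA [Finite G] {X : Subgroup G} {x f : G} (hx : x * x = 1)
    (hxs : x ∈ closure ((K.C1 ∪ K.C2) ∩ X)) (hf : f ∈ R x) (h1 : f ∈ cen X K.C1)
    (h2 : f ∈ cen X K.C2) : f ∈ coreIn X := by
  refine R_inf_le_coreIn (H := cen X (K.C1 ∪ K.C2)) hx (closure_inter_le _ _ hxs) (cen_le _ _)
    (fun g hg h hh => conj_mem_cen (K.conjInv1.union K.conjInv2) hg hh) (coreIn_le_cen _ _)
    (fun h hh => commutator_mem_of_closure hh hxs) hf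
    ⟨h1.1, fun y hy hyX => hy.elim (fun h => h1.2 y h hyX) (fun h => h2.2 y h hyX)⟩

theorem conj_mem_sup_core {X : Subgroup G} {s : Set G} (hs : ConjInv s) {g h : G} (hg : g ∈ X)
    (hh : h ∈ closure (s ∩ X) ⊔ coreIn X) : g * h * g⁻¹ ∈ closure (s ∩ X) ⊔ coreIn X := by
  have h2 : closure (s ∩ X) ⊔ coreIn X ≤
      (closure (s ∩ X) ⊔ coreIn X).comap (MulAut.conj g).toMonoidHom :=
    sup_le (fun z hz => Subgroup.mem_sup_left (conj_mem_closure_inter hs hg hz))
      (fun z hz => Subgroup.mem_sup_right (conj_mem_coreIn hg hz))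
  exact h2 hh

/-- Lemma B. -/
theorem lemmaB [Finite G] {X : Subgroup G} (hX : X ≠ ⊤) {v f : G} (hv : v ∈ K.C1)
    (hv2 : v * v = 1) (hvX : v ∈ X) (hf : f ∈ R v) (hfX : f ∈ X) : f ∈ cen X K.C2 := by
  refine ⟨hfX, fun y hy hyX => ?_⟩
  set H := closure (K.C2 ∩ X) ⊔ coreIn X with hH
  have hHX : H ≤ X := sup_le (closure_inter_le _ _) (coreIn_le X)
  have hHn : ∀ g ∈ X, ∀ h ∈ H, g * h * g⁻¹ ∈ H := fun g hg h hh =>
    conj_mem_sup_core K.conjInv2 hg hh
  have hHv : ∀ h ∈ H, ⁅h, v⁆ ∈ coreIn X := fun h hh =>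
    ((sup_le ((closure_le _).2 fun z hz => mem_cen_singleton.2 ⟨hz.2, fun _ =>
      commutator_symm_mem (K.hsub X hX v hv z hz.1 hvX hz.2)⟩) (coreIn_le_cen _ _) :
      H ≤ cen X {v}) hh).2 v rfl hvX
  have hyH : y ∈ H := Subgroup.mem_sup_left (subset_closure ⟨hy, hyX⟩)
  have hfix : y⁻¹ * v * y * v⁻¹ ∈ coreIn X := by
    have h1 := hHv y⁻¹ (inv_mem hyH)
    rwa [commutatorElement_def, inv_inv] at h1
  obtain ⟨c, hc, hck⟩ := CoprimeAction.exists_fixed_mem_coset_zpowers
    (le_normalizer_coreIn X hvX) (coprime_orderOf_two hv2 (odd_coreIn X)) y hfix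
  have hcH : c ∈ H := by simpa using mul_mem hyH (Subgroup.mem_sup_right (S := closure (K.C2 ∩ X)) hck)
  have hfc : ⁅f, c⁆ ∈ coreIn X := by
    refine R_inf_le_coreIn hv2 hvX hHX hHn le_sup_right hHv ?_ ?_
    · rw [show ⁅f, c⁆ = f * (c * f⁻¹ * c⁻¹) by simp [commutatorElement_def, mul_assoc]]
      exact mul_mem hf (conj_mem_R_of_commute hc.symm (inv_mem hf))
    · rw [commutatorElement_def]
      exact mul_mem (hHn f hfX c hcH) (inv_mem hcH)
  have h1 : y = c * (y⁻¹ * c)⁻¹ := by group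
  have h2 : y ∈ cen X {f} := by
    rw [h1]
    exact mul_mem (mem_cen_singleton.2 ⟨hHX hcH, fun _ => commutator_symm_mem hfc⟩)
      (inv_mem (coreIn_le_cen _ _ hck))
  exact commutator_symm_mem (h2.2 f rfl hfX)

/-- Generalised Lemma B. -/
theorem R_inf_closure1 [Finite G] {X : Subgroup G} {x f : G} (hx : x * x = 1) (hxX : x ∈ X)
    (hxc : x ∈ cen X K.C1) (hf : f ∈ R x) (hf1 : f ∈ closure (K.C1 ∩ X)) : f ∈ coreIn X :=
  R_inf_le_coreIn (H := closure (K.C1 ∩ X) ⊔ coreIn X) hx hxX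
    (sup_le (closure_inter_le _ _) (coreIn_le X))
    (fun _ hg _ hh => conj_mem_sup_core K.conjInv1 hg hh) le_sup_right
    (fun _ hh => ((sup_le (closure_le_cen_singleton hxc) (coreIn_le_cen _ _) :
      closure (K.C1 ∩ X) ⊔ coreIn X ≤ cen X {x}) hh).2 x rfl hxX) hf (Subgroup.mem_sup_left hf1)

/-- Odd order elements in both closures lie in the core. -/
theorem both_le_coreIn [Finite G] {X : Subgroup G} (hX : X ≠ ⊤) {f : G}
    (h1 : f ∈ closure (K.C1 ∩ X)) (h2 : f ∈ closure (K.C2 ∩ X)) (ho : Odd (orderOf f)) :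
    f ∈ coreIn X := by
  haveI := Fact.mk Nat.prime_two
  haveI := HallCore.pPrimeCore_normal 2 X
  set π := QuotientGroup.mk' (pPrimeCore 2 X) with hπ
  have hfX : f ∈ X := closure_inter_le _ _ h1
  set ft : X := ⟨f, hfX⟩ with hft
  set n := orderOf f with hn
  set T : Set (X ⧸ pPrimeCore 2 X) := Set.range fun g : X => π (g * ft * g⁻¹) with hT
  have hcomm : ∀ s ∈ T, ∀ t ∈ T, Commute s t := by
    rintro _ ⟨g, rfl⟩ _ ⟨g', rfl⟩
    have ha : ((g * ft * g⁻¹ : X) : G) ∈ cen X K.C2 :=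
      K.closure1_le_cen2 hX (conj_mem_closure_inter K.conjInv1 g.2 h1)
    have hb : ((g' * ft * g'⁻¹ : X) : G) ∈ closure (K.C2 ∩ X) :=
      conj_mem_closure_inter K.conjInv2 g'.2 h2
    have h3 : ⁅(g * ft * g⁻¹ : X), g' * ft * g'⁻¹⁆ ∈ pPrimeCore 2 X :=
      mem_coreIn_coe.1 (commutator_mem_of_closure ha hb)
    refine commute_of_commutator ?_
    rw [← map_commutatorElement]
    exact (QuotientGroup.eq_one_iff _).2 h3
  have hpow : ∀ m ∈ closure T, m ^ n = 1 := by
    have hc : ∀ a ∈ closure T, ∀ b ∈ closure T, Commute a b := by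
      intro a ha b hb
      have h4 := Subgroup.closure_le_centralizer_centralizer T ha
      refine (Subgroup.mem_centralizer_iff.1 h4 b ?_).symm
      refine (closure_le (K := centralizer T)).2 (fun s hs => ?_) hb
      exact Subgroup.mem_centralizer_iff.2 fun t ht => (hcomm t ht s hs).eq
    intro m hm
    induction hm using Subgroup.closure_induction with
    | mem x hx =>
      obtain ⟨g, rfl⟩ := hx
      have h5 : ft ^ n = 1 := Subtype.ext (by simp [hn, hft, pow_orderOf_eq_one])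
      rw [← map_pow, conj_pow, h5, mul_one, mul_inv_cancel, map_one]
    | one => exact one_pow n
    | mul a b ha hb ha' hb' => rw [(hc a ha b hb).mul_pow, ha', hb', mul_one]
    | inv a ha ha' => rw [inv_pow, ha', inv_one]
  have hnormal : (closure T).Normal := by
    refine ⟨fun m hm q => ?_⟩
    obtain ⟨q', rfl⟩ := QuotientGroup.mk'_surjective _ q
    have h6 : closure T ≤ (closure T).comap (MulAut.conj (π q')).toMonoidHom := by
      rw [closure_le]
      rintro _ ⟨g, rfl⟩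
      refine subset_closure ⟨q' * g, ?_⟩
      simp only [MulEquiv.coe_toMonoidHom, MulAut.conj_apply, ← map_inv, ← map_mul]
      congr 1
      group
    exact h6 hm
  have hodd : Odd (Nat.card (closure T)) := by
    rw [← Nat.not_even_iff_odd, even_iff_two_dvd]
    intro h2
    obtain ⟨z, hz⟩ := exists_prime_orderOf_dvd_card' 2 h2
    have h7 : orderOf (z : X ⧸ pPrimeCore 2 X) ∣ n := orderOf_dvd_of_pow_eq_one (hpow z z.2)
    rw [Subgroup.orderOf_coe, hz] at h7
    exact (Nat.not_even_iff_odd.2 ho) (even_iff_two_dvd.2 h7)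
  have hbot := HallCore.le_pPrimeCore (N := closure T) (Nat.coprime_two_right.2 hodd)
  rw [HallCore.pPrimeCore_quotient_self] at hbot
  have h8 : π ft = 1 := Subgroup.mem_bot.1 (hbot (subset_closure ⟨1, by simp⟩))
  exact mem_coreIn_coe.2 ((QuotientGroup.eq_one_iff ft).1 h8)

end Ctx

/-! ## Frames -/

/-- Two commuting four-groups of involutions from the two sides. -/
structure Frame (D : Data G) where
  V1 : Subgroup G
  V2 : Subgroup G
  card1 : Nat.card V1 = 4
  card2 : Nat.card V2 = 4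
  sq1 : ∀ v ∈ V1, v * v = 1
  sq2 : ∀ v ∈ V2, v * v = 1
  sub1 : ∀ v ∈ V1, v ∈ D.C1
  sub2 : ∀ v ∈ V2, v ∈ D.C2
  comm : ∀ v ∈ V1, ∀ w ∈ V2, Commute v w

namespace Frame

variable {D : Data G} (F : Frame D)

/-- Exchange the two sides. -/
def swap : Frame D.swap where
  V1 := F.V2
  V2 := F.V1
  card1 := F.card2
  card2 := F.card1
  sq1 := F.sq2
  sq2 := F.sq1
  sub1 := F.sub2
  sub2 := F.sub1
  comm := fun v hv w hw => (F.comm w hw v hv).symm

/-- The elementary abelian group generated by a frame. -/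
def A : Subgroup G := F.V1 ⊔ F.V2

theorem V1_le : F.V1 ≤ F.A := le_sup_left

theorem V2_le : F.V2 ≤ F.A := le_sup_right

theorem mem_A {x : G} : x ∈ F.A ↔ ∃ v ∈ F.V1, ∃ w ∈ F.V2, v * w = x := by
  have hn : F.V1 ≤ normalizer (F.V2 : Set G) := fun v hv => mem_normalizer_iff.2 fun y => by
    constructor
    · intro hy
      rw [(F.comm v hv y hy).eq, mul_inv_cancel_right]; exact hy
    · intro hy
      have h := (F.comm v hv _ hy).eq
      have e : y = v⁻¹ * (v * y * v⁻¹) * v := by group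
      rw [mul_assoc v⁻¹, ← h, inv_mul_cancel_left] at e
      rw [e]; exact hy
  rw [A, ← SetLike.mem_coe, Subgroup.coe_mul_of_left_le_normalizer_right _ _ hn]
  simp [Set.mem_mul]

theorem comm_self1 {a b : G} (ha : a ∈ F.V1) (hb : b ∈ F.V1) : Commute a b := by
  have h := F.sq1 _ (mul_mem ha hb)
  have : a * b = b⁻¹ * a⁻¹ := by rw [← mul_inv_rev]; exact (inv_eq_of_mul_eq_one_right h).symm
  rwa [inv_of_sq (F.sq1 a ha), inv_of_sq (F.sq1 b hb)] at this

theorem comm_self2 {a b : G} (ha : a ∈ F.V2) (hb : b ∈ F.V2) : Commute a b :=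
  F.swap.comm_self1 ha hb

theorem A_comm {x y : G} (hx : x ∈ F.A) (hy : y ∈ F.A) : Commute x y := by
  obtain ⟨a, ha, b, hb, rfl⟩ := F.mem_A.1 hx
  obtain ⟨c, hc, d, hd, rfl⟩ := F.mem_A.1 hy
  exact ((F.comm_self1 ha hc).mul_right (F.comm a ha d hd)).mul_left
    ((F.comm c hc b hb).symm.mul_right (F.comm_self2 hb hd))

theorem A_sq {x : G} (hx : x ∈ F.A) : x * x = 1 := by
  obtain ⟨a, ha, b, hb, rfl⟩ := F.mem_A.1 hx
  rw [(F.comm a ha b hb).symm.mul_mul_mul_comm, F.sq1 a ha, F.sq2 b hb, one_mul]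

theorem A_isPGroup [Finite G] : IsPGroup 2 F.A := isPGroup_of_forall_sq fun _ hx => F.A_sq hx

theorem A_isComm : IsMulCommutative F.A :=
  isMulCommutative_of_forall fun _ ha _ hb => F.A_comm ha hb

theorem V1_isComm : IsMulCommutative F.V1 :=
  isMulCommutative_of_forall fun _ ha _ hb => F.comm_self1 ha hb

theorem V1_isPGroup [Finite G] : IsPGroup 2 F.V1 := isPGroup_of_forall_sq F.sq1

theorem mem_centralizer_A {x y : G} (hx : x ∈ F.A) (hy : y ∈ F.A) :
    y ∈ centralizer ({x} : Set G) :=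
  mem_centralizer_singleton.2 (F.A_comm hy hx)

theorem A_le_centralizer {x : G} (hx : x ∈ F.A) : F.A ≤ centralizer ({x} : Set G) :=
  fun _ hy => F.mem_centralizer_A hx hy

theorem eq_one_of_V1_V2 [Finite G] {v : G} (h1 : v ∈ F.V1) (h2 : v ∈ F.V2) : v = 1 :=
  D.eq_one_of_both (F.sub1 v h1) (F.sub2 v h2)

theorem card_A [Finite G] : 8 ≤ Nat.card F.A := by
  have h : Nat.card (F.V1 × F.V2) ≤ Nat.card F.A := by
    refine Nat.card_le_card_of_injective
      (fun p => ⟨(p.1 : G) * p.2, F.mem_A.2 ⟨_, p.1.2, _, p.2.2, rfl⟩⟩) ?_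
    rintro ⟨a, b⟩ ⟨c, d⟩ h
    have h' : (a : G) * b = c * d := congrArg Subtype.val h
    have e : (c : G)⁻¹ * a = d * (b : G)⁻¹ := by
      rw [eq_mul_inv_iff_mul_eq, mul_assoc, h', inv_mul_cancel_left]
    have h1 := F.eq_one_of_V1_V2 (mul_mem (inv_mem c.2) a.2)
      (e ▸ mul_mem d.2 (inv_mem b.2))
    rw [inv_mul_eq_one] at h1
    rw [← h1] at h'
    exact Prod.ext (Subtype.ext h1.symm) (Subtype.ext (mul_left_cancel h'))
  rw [Nat.card_prod, F.card1, F.card2] at h
  omega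

theorem four_elements [Finite G] {a b : G} (ha : a ∈ F.V1) (hb : b ∈ F.V1) (ha1 : a ≠ 1)
    (hb1 : b ≠ 1) (hab : a ≠ b) {x : G} (hx : x ∈ F.V1) : x = 1 ∨ x = a ∨ x = b ∨ x = a * b := by
  classical
  haveI := Fintype.ofFinite F.V1
  have hab' : a * b ≠ 1 := fun h => hab (by rw [← inv_of_sq (F.sq1 a ha)]; exact inv_eq_of_mul_eq_one_right h)
  have hab1 : a * b ≠ a := fun h => hb1 (mul_eq_left.1 h)
  have hab2 : a * b ≠ b := fun h => ha1 (mul_eq_right.1 h)
  by_contra hne
  simp only [not_or] at hne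
  obtain ⟨n1, n2, n3, n4⟩ := hne
  have h5 : ({1, ⟨a, ha⟩, ⟨b, hb⟩, ⟨a * b, mul_mem ha hb⟩, ⟨x, hx⟩} : Finset F.V1).card = 5 := by
    rw [Finset.card_insert_of_notMem, Finset.card_insert_of_notMem, Finset.card_insert_of_notMem,
      Finset.card_insert_of_notMem, Finset.card_singleton] <;>
      simp [Subtype.ext_iff, Ne.symm ha1, Ne.symm hb1, hab, Ne.symm hab', Ne.symm hab1,
        Ne.symm hab2, Ne.symm n1, Ne.symm n2, Ne.symm n3, Ne.symm n4, -mul_eq_left, -mul_eq_right,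
        -left_eq_mul, -right_eq_mul]
  have h6 := Finset.card_le_univ ({1, ⟨a, ha⟩, ⟨b, hb⟩, ⟨a * b, mul_mem ha hb⟩, ⟨x, hx⟩} : Finset F.V1)
  rw [h5, ← Nat.card_eq_fintype_card, F.card1] at h6
  omega

theorem exists_ne1 [Finite G] : ∃ a ∈ F.V1, a ≠ 1 := by
  have : Nontrivial F.V1 := Finite.one_lt_card_iff_nontrivial.1 (by rw [F.card1]; norm_num)
  obtain ⟨⟨a, ha⟩, h⟩ := exists_ne (1 : F.V1)
  exact ⟨a, ha, fun e => h (Subtype.ext e)⟩

theorem exists_ne2 [Finite G] : ∃ b ∈ F.V2, b ≠ 1 := F.swap.exists_ne1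

theorem V1_not_isCyclic [Finite G] : ¬ IsCyclic F.V1 := by
  intro h
  obtain ⟨g, hg⟩ := h.exists_ofOrder_eq_natCard
  have h2 : orderOf g ∣ 2 := orderOf_dvd_of_pow_eq_one (Subtype.ext (by
    simp only [pow_two, Subgroup.coe_mul, Subgroup.coe_one]; exact F.sq1 g g.2))
  rw [hg, F.card1] at h2
  exact absurd h2 (by decide)

theorem V1_normalizes [Finite G] {H : Subgroup G} (h : F.A ≤ normalizer (H : Set G)) :
    F.V1 ≤ normalizer (H : Set G) := F.V1_le.trans h

/-- An element centralising both four-groups fixes the frame; the conjugate frame in general. -/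
def conj (g : G) : Frame D where
  V1 := F.V1.map (MulAut.conj g).toMonoidHom
  V2 := F.V2.map (MulAut.conj g).toMonoidHom
  card1 := by rw [Subgroup.card_map_of_injective (MulAut.conj g).injective, F.card1]
  card2 := by rw [Subgroup.card_map_of_injective (MulAut.conj g).injective, F.card2]
  sq1 := by
    rintro _ ⟨v, hv, rfl⟩
    rw [← map_mul, F.sq1 v hv, map_one]
  sq2 := by
    rintro _ ⟨v, hv, rfl⟩
    rw [← map_mul, F.sq2 v hv, map_one]
  sub1 := by
    rintro _ ⟨v, hv, rfl⟩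
    exact D.conjInv1 g v (F.sub1 v hv)
  sub2 := by
    rintro _ ⟨v, hv, rfl⟩
    exact D.conjInv2 g v (F.sub2 v hv)
  comm := by
    rintro _ ⟨v, hv, rfl⟩ _ ⟨w, hw, rfl⟩
    exact (F.comm v hv w hw).map _

theorem mem_conj1 {g v : G} (hv : v ∈ F.V1) : g * v * g⁻¹ ∈ (F.conj g).V1 := ⟨v, hv, rfl⟩

theorem mem_conj2 {g v : G} (hv : v ∈ F.V2) : g * v * g⁻¹ ∈ (F.conj g).V2 := ⟨v, hv, rfl⟩

end Frame

namespace Ctx

variable (K : Ctx G)

theorem nc_of_mem_A [Finite G] (F : Frame K.toData) {y : G} (hy : y ∈ F.A) (hy1 : y ≠ 1) :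
    y ∉ center G := by
  obtain ⟨a, ha, b, hb, rfl⟩ := F.mem_A.1 hy
  by_cases ha1 : a = 1
  · subst ha1
    rw [one_mul] at hy1 ⊢
    exact K.nc2 b ⟨F.sub2 b hb, F.sq2 b hb, hy1⟩
  by_cases hb1 : b = 1
  · subst hb1
    rw [mul_one] at hy1 ⊢
    exact K.nc1 a ⟨F.sub1 a ha, F.sq1 a ha, ha1⟩
  intro hc
  -- `a` would be isolated, hence central
  have haI : a ∈ K.I1 := ⟨F.sub1 a ha, F.sq1 a ha, ha1⟩
  refine K.nc1 a haI (ZStarTheorem.mem_center_of_isolated ?_ K.hO)
  refine ⟨orderOf_eq_prime (by rw [pow_two, haI.2.1]) ha1, fun g hg => ?_⟩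
  set a' := g * a * g⁻¹ with ha'
  have hca : ∀ z, Commute (a * b) z := fun z => (Subgroup.mem_center_iff.1 hc z).symm
  have hb' : Commute b a' := by
    have e : b = a * (a * b) := by rw [← mul_assoc, haI.2.1, one_mul]
    rw [e]
    exact hg.mul_left (hca _)
  have hconj : g * b * g⁻¹ = a' * a * b := by
    have e1 : g * (a * b) * g⁻¹ = a * b := by rw [← (hca g).eq, mul_inv_cancel_right]
    have e2 : a' * (g * b * g⁻¹) = a * b := by rw [ha']; rw [← e1]; group
    have h2 : a' * a' = 1 := by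
      rw [ha', show g * a * g⁻¹ * (g * a * g⁻¹) = g * (a * a) * g⁻¹ by group, haI.2.1, mul_one,
        mul_inv_cancel]
    calc g * b * g⁻¹ = a' * (a' * (g * b * g⁻¹)) := by rw [← mul_assoc, h2, one_mul]
      _ = a' * (a * b) := by rw [e2]
      _ = a' * a * b := (mul_assoc _ _ _).symm
  have hab : Commute a b := F.comm a ha b hb
  have h2 : a' * a' = 1 := by
    rw [ha', show g * a * g⁻¹ * (g * a * g⁻¹) = g * (a * a) * g⁻¹ by group, haI.2.1, mul_one,
      mul_inv_cancel]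
  have haa : a' * a * (a' * a) = 1 := by
    rw [hg.mul_mul_mul_comm, h2, haI.2.1, one_mul]
  -- the abelian 2-group generated by `a`, `a'`, `b`
  set T := closure ({a, a', b} : Set G) with hT
  have hTc : ∀ x ∈ ({a, a', b} : Set G), ∀ y ∈ ({a, a', b} : Set G), Commute x y := by
    simp only [Set.mem_insert_iff, Set.mem_singleton_iff]
    rintro x (rfl | rfl | rfl) y (rfl | rfl | rfl) <;>
      first
        | exact Commute.refl _
        | exact hg
        | exact hg.symm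
        | exact hab
        | exact hab.symm
        | exact hb'
        | exact hb'.symm
  have hTp : IsPGroup 2 T := by
    have hTcomm : ∀ x ∈ T, ∀ y ∈ T, Commute x y := by
      intro x hx y hy
      have h4 := Subgroup.closure_le_centralizer_centralizer _ hx
      refine (Subgroup.mem_centralizer_iff.1 h4 y ?_).symm
      refine (closure_le (K := centralizer _)).2 (fun s hs => ?_) hy
      exact Subgroup.mem_centralizer_iff.2 fun t ht => (hTc t ht s hs).eq
    refine isPGroup_of_forall_sq fun v hv => ?_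
    induction hv using Subgroup.closure_induction with
    | mem x hx =>
      simp only [Set.mem_insert_iff, Set.mem_singleton_iff] at hx
      rcases hx with rfl | rfl | rfl
      · exact haI.2.1
      · exact h2
      · exact F.sq2 _ hb
    | one => rw [one_mul]
    | mul x y hx hy hx' hy' =>
      rw [(hTcomm y hy x hx).mul_mul_mul_comm, hx', hy', one_mul]
    | inv x hx hx' => rw [← mul_inv_rev, hx', inv_one]
  have haT : a ∈ T := subset_closure (by simp)
  have ha'T : a' ∈ T := subset_closure (by simp)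
  have hbT : b ∈ T := subset_closure (by simp)
  have hC1 : a' * a ∈ K.C1 := K.mul_mem1 hTp (K.conjInv1 g a haI.1) haI.1 ha'T haT
  have hC2 : a' * a ∈ K.C2 := by
    have h3 := K.mul_mem2 hTp (K.conjInv2 g b (F.sub2 b hb)) (F.sub2 b hb)
      (by rw [hconj]; exact mul_mem (mul_mem ha'T haT) hbT) hbT
    rw [hconj, mul_assoc (a' * a), F.sq2 b hb, mul_one] at h3
    exact h3
  have h9 := K.eq_one_of_both hC1 hC2
  calc a' = a' * a * a := by rw [mul_assoc, haI.2.1, mul_one]
    _ = a := by rw [h9, one_mul]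

end Ctx

/-- The four-group on two commuting involutions. -/
def four (a b : G) (ha : a * a = 1) (hb : b * b = 1) (hab : Commute a b) : Subgroup G where
  carrier := {x | x = 1 ∨ x = a ∨ x = b ∨ x = a * b}
  one_mem' := Or.inl rfl
  mul_mem' := by
    have e1 : a * (a * b) = b := by rw [← mul_assoc, ha, one_mul]
    have e2 : b * (a * b) = a := by rw [hab.eq, ← mul_assoc, hb, one_mul]
    have e3 : a * b * a = b := by rw [hab.eq, mul_assoc, ha, mul_one]
    have e4 : a * b * b = a := by rw [mul_assoc, hb, mul_one]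
    have e5 : a * b * (a * b) = 1 := by rw [mul_assoc, e2, ha]
    rintro x y (rfl | rfl | rfl | rfl) (rfl | rfl | rfl | rfl)
    all_goals
      simp only [Set.mem_ofPred_eq, one_mul, mul_one, ha, hb, e1, e2, e3, e4, e5, hab.symm.eq,
        true_or, or_true]
  inv_mem' := by
    rintro x (rfl | rfl | rfl | rfl)
    all_goals
      simp only [Set.mem_ofPred_eq, inv_one, mul_inv_rev, inv_of_sq ha, inv_of_sq hb, true_or,
        or_true, hab.symm.eq]

theorem mem_four {a b : G} {ha : a * a = 1} {hb : b * b = 1} {hab : Commute a b} {x : G} :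
    x ∈ four a b ha hb hab ↔ x = 1 ∨ x = a ∨ x = b ∨ x = a * b := Iff.rfl

theorem left_mem_four {a b : G} {ha : a * a = 1} {hb : b * b = 1} {hab : Commute a b} :
    a ∈ four a b ha hb hab := Or.inr (Or.inl rfl)

theorem right_mem_four {a b : G} {ha : a * a = 1} {hb : b * b = 1} {hab : Commute a b} :
    b ∈ four a b ha hb hab := Or.inr (Or.inr (Or.inl rfl))

theorem card_four {a b : G} (ha : a * a = 1) (hb : b * b = 1) (hab : Commute a b) (ha1 : a ≠ 1)
    (hb1 : b ≠ 1) (hne : a ≠ b) : Nat.card (four a b ha hb hab) = 4 := by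
  have hab' : a * b ≠ 1 := fun h => hne (by
    rw [← inv_of_sq ha]; exact inv_eq_of_mul_eq_one_right h)
  have hab1 : a * b ≠ a := fun h => hb1 (mul_eq_left.1 h)
  have hab2 : a * b ≠ b := fun h => ha1 (mul_eq_right.1 h)
  have h : Nat.card (four a b ha hb hab) = ({1, a, b, a * b} : Set G).ncard := by
    rw [← Nat.card_coe_set_eq]
    exact Nat.card_congr (Equiv.subtypeEquivRight fun x => by
      show (x = 1 ∨ x = a ∨ x = b ∨ x = a * b) ↔ _
      simp)
  rw [h, Set.ncard_insert_of_notMem, Set.ncard_insert_of_notMem, Set.ncard_insert_of_notMem,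
    Set.ncard_singleton] <;> simp [Ne.symm ha1, Ne.symm hb1, hne, Ne.symm hab', Ne.symm hab1,
      Ne.symm hab2, -mul_eq_left, -mul_eq_right, -left_eq_mul, -right_eq_mul]

namespace Ctx

variable (K : Ctx G)

/-- A second involution of the first side next to a given one. -/
theorem exists_second1 [Finite G] {a : G} (ha : a ∈ K.I1) {P : Subgroup G} (hP : IsPGroup 2 P)
    (hPa : P ≤ centralizer ({a} : Set G)) :
    ∃ a' ∈ K.I1, a' ≠ a ∧ Commute a a' ∧
      ∃ T : Subgroup G, IsPGroup 2 T ∧ P ≤ T ∧ a ∈ T ∧ a' ∈ T := by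
  haveI := Fact.mk Nat.prime_two
  have hni : ¬ IsIsolatedInvolution a := fun h =>
    K.nc1 a ha (ZStarTheorem.mem_center_of_isolated h K.hO)
  obtain ⟨g, hg1, hg2⟩ : ∃ g, Commute a (g * a * g⁻¹) ∧ g * a * g⁻¹ ≠ a := by
    by_contra hcon
    simp only [not_exists, not_and, not_not] at hcon
    exact hni ⟨orderOf_eq_prime (by rw [pow_two, ha.2.1]) ha.2.2, fun g hg => hcon g hg⟩
  set a'' := g * a * g⁻¹ with ha''
  have hI : a'' ∈ K.I1 := ⟨K.conjInv1 g a ha.1, by
    rw [ha'', show g * a * g⁻¹ * (g * a * g⁻¹) = g * (a * a) * g⁻¹ by group, ha.2.1, mul_one,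
      mul_inv_cancel], fun h => ha.2.2 (by rwa [ha'', mul_inv_eq_one, mul_eq_left] at h)⟩
  set C := centralizer ({a} : Set G) with hC
  have hP' : IsPGroup 2 (P ⊔ zpowers a : Subgroup G) := by
    refine IsPGroup.to_sup_of_normal_right' hP (K.isPGroup_zpowers1 ha.1) (fun p hp => ?_)
    refine mem_normalizer_of_conj_mem fun x hx => ?_
    obtain ⟨i, rfl⟩ := hx
    show p * a ^ i * p⁻¹ ∈ zpowers a
    rw [((mem_centralizer_singleton.1 (hPa hp)).zpow_right i).eq, mul_inv_cancel_right]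
    exact zpow_mem (mem_zpowers a) i
  obtain ⟨T, hT⟩ := (IsPGroup.comap_subtype (K := C) hP').exists_le_sylow
  have hz : IsPGroup 2 ((zpowers a'').comap C.subtype) :=
    IsPGroup.comap_subtype (K.isPGroup_zpowers1 hI.1)
  obtain ⟨T', hT'⟩ := hz.exists_le_sylow
  obtain ⟨c, hc⟩ := MulAction.exists_smul_eq C T' T
  have ha''C : a'' ∈ C := mem_centralizer_singleton.2 hg1.symm
  have hmem : c * ⟨a'', ha''C⟩ * c⁻¹ ∈ (T : Subgroup C) := by
    rw [← hc, Sylow.coe_subgroup_smul, Subgroup.mem_pointwise_smul_iff_inv_smul_mem, ← map_inv,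
      MulAut.smul_def, MulAut.conj_apply]
    have e : ∀ z : C, c⁻¹ * (c * z * c⁻¹) * c⁻¹⁻¹ = z := fun z => by group
    rw [e]
    exact hT' (show (⟨a'', ha''C⟩ : C) ∈ (zpowers a'').comap C.subtype from mem_zpowers a'')
  refine ⟨(c : G) * a'' * (c : G)⁻¹, ⟨K.conjInv1 _ _ hI.1, ?_, ?_⟩, ?_, ?_,
    (T : Subgroup C).map C.subtype, T.isPGroup'.map _, ?_, ?_, ⟨_, hmem, by simp⟩⟩
  · rw [show (c : G) * a'' * (c : G)⁻¹ * ((c : G) * a'' * (c : G)⁻¹) = c * (a'' * a'') * (c : G)⁻¹ by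
      group, hI.2.1, mul_one, mul_inv_cancel]
  · intro h
    exact hI.2.2 (by rwa [mul_inv_eq_one, mul_eq_left] at h)
  · intro h
    refine hg2 ?_
    have hca : (c : G) * a * (c : G)⁻¹ = a := by
      rw [(mem_centralizer_singleton.1 c.2).eq, mul_inv_cancel_right]
    exact mul_left_cancel (mul_right_cancel (h.trans hca.symm))
  · have h1 : Commute a (c : G) := (mem_centralizer_singleton.1 c.2).symm
    exact (h1.mul_right hg1).mul_right h1.inv_right
  · intro p hp
    exact ⟨⟨p, hPa hp⟩, hT (show p ∈ P ⊔ zpowers a from Subgroup.mem_sup_left hp), rfl⟩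
  · exact ⟨⟨a, self_mem_centralizer a⟩,
      hT (show a ∈ P ⊔ zpowers a from Subgroup.mem_sup_right (mem_zpowers a)), rfl⟩

theorem exists_second2 [Finite G] {b : G} (hb : b ∈ K.I2) {P : Subgroup G} (hP : IsPGroup 2 P)
    (hPb : P ≤ centralizer ({b} : Set G)) :
    ∃ b' ∈ K.I2, b' ≠ b ∧ Commute b b' ∧
      ∃ T : Subgroup G, IsPGroup 2 T ∧ P ≤ T ∧ b ∈ T ∧ b' ∈ T :=
  K.swap.exists_second1 hb hP hPb

/-- The frame on two commuting pairs. -/
theorem exists_frame_of_pairs [Finite G] {a a' b b' : G} (ha : a ∈ K.I1) (ha' : a' ∈ K.I1)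
    (hb : b ∈ K.I2) (hb' : b' ∈ K.I2) (hne1 : a ≠ a') (hne2 : b ≠ b') (haa : Commute a a')
    (hbb : Commute b b') (h1 : Commute a b) (h2 : Commute a b') (h3 : Commute a' b)
    (h4 : Commute a' b') :
    ∃ F : Frame K.toData, a ∈ F.V1 ∧ a' ∈ F.V1 ∧ b ∈ F.V2 ∧ b' ∈ F.V2 := by
  have hsqA : ∀ v ∈ four a a' ha.2.1 ha'.2.1 haa, v * v = 1 := by
    intro v hv
    rcases mem_four.1 hv with rfl | rfl | rfl | rfl
    · rw [one_mul]
    · exact ha.2.1
    · exact ha'.2.1
    · rw [haa.symm.mul_mul_mul_comm, ha.2.1, ha'.2.1, one_mul]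
  have hsqB : ∀ v ∈ four b b' hb.2.1 hb'.2.1 hbb, v * v = 1 := by
    intro v hv
    rcases mem_four.1 hv with rfl | rfl | rfl | rfl
    · rw [one_mul]
    · exact hb.2.1
    · exact hb'.2.1
    · rw [hbb.symm.mul_mul_mul_comm, hb.2.1, hb'.2.1, one_mul]
  refine ⟨⟨four a a' ha.2.1 ha'.2.1 haa, four b b' hb.2.1 hb'.2.1 hbb,
    card_four _ _ haa ha.2.2 ha'.2.2 hne1, card_four _ _ hbb hb.2.2 hb'.2.2 hne2,
    hsqA, hsqB, ?_, ?_, ?_⟩, (left_mem_four : a ∈ four a a' ha.2.1 ha'.2.1 haa),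
    (right_mem_four : a' ∈ four a a' ha.2.1 ha'.2.1 haa),
    (left_mem_four : b ∈ four b b' hb.2.1 hb'.2.1 hbb),
    (right_mem_four : b' ∈ four b b' hb.2.1 hb'.2.1 hbb)⟩
  · intro v hv
    rcases mem_four.1 hv with rfl | rfl | rfl | rfl
    · exact K.one_mem1
    · exact ha.1
    · exact ha'.1
    · exact K.mul_mem1 (isPGroup_of_forall_sq hsqA) ha.1 ha'.1 left_mem_four right_mem_four
  · intro v hv
    rcases mem_four.1 hv with rfl | rfl | rfl | rfl
    · exact K.one_mem2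
    · exact hb.1
    · exact hb'.1
    · exact K.mul_mem2 (isPGroup_of_forall_sq hsqB) hb.1 hb'.1 left_mem_four right_mem_four
  · intro v hv w hw
    rcases mem_four.1 hv with rfl | rfl | rfl | rfl <;> rcases mem_four.1 hw with rfl | rfl | rfl | rfl
    all_goals first
      | exact Commute.one_left _
      | exact Commute.one_right _
      | assumption
      | exact h1.mul_right h2
      | exact h3.mul_right h4
      | exact h1.mul_left h3
      | exact h2.mul_left h4
      | exact (h1.mul_left h3).mul_right (h2.mul_left h4)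

/-- A frame through a commuting pair. -/
theorem exists_frame [Finite G] {a b : G} (ha : a ∈ K.I1) (hb : b ∈ K.I2) (hab : Commute a b) :
    ∃ F : Frame K.toData, a ∈ F.V1 ∧ b ∈ F.V2 := by
  obtain ⟨a', ha', hne, haa, T, hT, hPT, haT, ha'T⟩ := K.exists_second1 ha
    (K.isPGroup_zpowers2 hb.1) (zpowers_le.2 (mem_centralizer_singleton.2 hab.symm))
  have ha'b : Commute a' b := K.commute_of_mem hT ha'.1 hb.1 ha'T (hPT (mem_zpowers b))
  obtain ⟨b', hb', hne2, hbb, U, hU, hQU, hbU, hb'U⟩ := K.exists_second2 hb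
    (P := T ⊓ centralizer ({b} : Set G)) (hT.to_le inf_le_left) inf_le_right
  have haU : a ∈ U := hQU ⟨haT, mem_centralizer_singleton.2 hab⟩
  have ha'U : a' ∈ U := hQU ⟨ha'T, mem_centralizer_singleton.2 ha'b⟩
  obtain ⟨F, h1, -, h3, -⟩ := K.exists_frame_of_pairs ha ha' hb hb' (Ne.symm hne) (Ne.symm hne2)
    haa hbb hab (K.commute_of_mem hU ha.1 hb'.1 haU hb'U) ha'b
    (K.commute_of_mem hU ha'.1 hb'.1 ha'U hb'U)
  exact ⟨F, h1, h3⟩

/-- A frame with prescribed second four-group, through a prescribed involution of the first side. -/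
theorem exists_frame_second [Finite G] {a b b' : G} (ha : a ∈ K.I1) (hb : b ∈ K.I2)
    (hb' : b' ∈ K.I2) (hne : b ≠ b') (hbb : Commute b b') (h1 : Commute a b) (h2 : Commute a b') :
    ∃ F : Frame K.toData, a ∈ F.V1 ∧ b ∈ F.V2 ∧ b' ∈ F.V2 := by
  have hsq : ∀ v ∈ four b b' hb.2.1 hb'.2.1 hbb, v * v = 1 := by
    intro v hv
    rcases mem_four.1 hv with rfl | rfl | rfl | rfl
    · rw [one_mul]
    · exact hb.2.1
    · exact hb'.2.1
    · rw [hbb.symm.mul_mul_mul_comm, hb.2.1, hb'.2.1, one_mul]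
  obtain ⟨a', ha', hne', haa, T, hT, hPT, haT, ha'T⟩ := K.exists_second1 ha
    (isPGroup_of_forall_sq hsq) (fun v hv => by
      rcases mem_four.1 hv with rfl | rfl | rfl | rfl
      · exact one_mem _
      · exact mem_centralizer_singleton.2 h1.symm
      · exact mem_centralizer_singleton.2 h2.symm
      · exact mem_centralizer_singleton.2 (h1.mul_right h2).symm)
  obtain ⟨F, e1, -, e3, e4⟩ := K.exists_frame_of_pairs ha ha' hb hb' (Ne.symm hne') hne haa hbb h1 h2
    (K.commute_of_mem hT ha'.1 hb.1 ha'T (hPT left_mem_four))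
    (K.commute_of_mem hT ha'.1 hb'.1 ha'T (hPT right_mem_four))
  exact ⟨F, e1, e3, e4⟩

end Ctx

end Cfsg.Agent.ProductFusion68
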