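import Cfsg.Agent.Lib.DihedralPair68Fusion
import Cfsg.Agent.Lib.ProductFusion68Local

/-!
# Fusion with a Sylow 2-subgroup that is a dihedral group times a four-group
-/

set_option autoImplicit false

namespace Cfsg.Agent.DihedralPair68

open Subgroup
open Cfsg.Agent.ProductFusion68 (inv_of_sq mem_normalizer_of_conj_mem exists_conj_le
  mem_centralizer_singleton)

variable {G : Type*} [Group G]

/-- `n` induces on `E` a transvection with centre `u`. -/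
def Tr (E : Subgroup G) (u n : G) : Prop :=
  n ∈ normalizer (E : Set G) ∧ (∀ y ∈ E, n * y * n⁻¹ = y ∨ n * y * n⁻¹ = y * u) ∧
    ∃ y ∈ E, n * y * n⁻¹ ≠ y

theorem Tr.mem {E : Subgroup G} {u n : G} (h : Tr E u n) : u ∈ E := by
  obtain ⟨hn, hall, y, hy, hne⟩ := h
  have := (hall y hy).resolve_left hne
  have hm := (mem_normalizer_iff.1 hn y).1 hy
  rw [this] at hm
  simpa using mul_mem (inv_mem hy) hm

theorem Tr.ne_one {E : Subgroup G} {u n : G} (h : Tr E u n) : u ≠ 1 := by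
  obtain ⟨-, hall, y, hy, hne⟩ := h
  intro hu
  refine hne ?_
  rcases hall y hy with h | h
  · exact h
  · rw [h, hu, mul_one]

theorem Tr.fix_centre {E : Subgroup G} (hsq : ∀ y ∈ E, y * y = 1) {u n : G} (h : Tr E u n) :
    n * u * n⁻¹ = u := by
  refine (h.2.1 u h.mem).elim id fun h' => ?_
  rw [hsq u h.mem, mul_inv_eq_one, mul_eq_left] at h'
  exact absurd h' h.ne_one

theorem Tr.map {E : Subgroup G} {u n : G} (h : Tr E u n) (g : G) :
    Tr (E.map (MulAut.conj g).toMonoidHom) (g * u * g⁻¹) (g * n * g⁻¹) := by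
  obtain ⟨hn, hall, y, hy, hne⟩ := h
  refine ⟨?_, ?_, g * y * g⁻¹, ⟨y, hy, rfl⟩, ?_⟩
  · refine mem_normalizer_iff.2 fun z => ⟨?_, ?_⟩
    · rintro ⟨w, hw, rfl⟩
      refine ⟨n * w * n⁻¹, (mem_normalizer_iff.1 hn w).1 hw, ?_⟩
      show g * (n * w * n⁻¹) * g⁻¹ = g * n * g⁻¹ * (g * w * g⁻¹) * (g * n * g⁻¹)⁻¹
      group
    · rintro ⟨w, hw, hwe⟩
      have hwe' : g * w * g⁻¹ = g * n * g⁻¹ * z * (g * n * g⁻¹)⁻¹ := hwe
      refine ⟨n⁻¹ * w * n, by simpa using (mem_normalizer_iff.1 (inv_mem hn) w).1 hw, ?_⟩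
      show g * (n⁻¹ * w * n) * g⁻¹ = z
      calc g * (n⁻¹ * w * n) * g⁻¹ = (g * n * g⁻¹)⁻¹ * (g * w * g⁻¹) * (g * n * g⁻¹) := by group
        _ = z := by rw [hwe']; group
  · rintro _ ⟨w, hw, rfl⟩
    rcases hall w hw with h | h
    · left
      show g * n * g⁻¹ * (g * w * g⁻¹) * (g * n * g⁻¹)⁻¹ = g * w * g⁻¹
      rw [show g * n * g⁻¹ * (g * w * g⁻¹) * (g * n * g⁻¹)⁻¹ = g * (n * w * n⁻¹) * g⁻¹ by group, h]
    · right
      show g * n * g⁻¹ * (g * w * g⁻¹) * (g * n * g⁻¹)⁻¹ = g * w * g⁻¹ * (g * u * g⁻¹)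
      rw [show g * n * g⁻¹ * (g * w * g⁻¹) * (g * n * g⁻¹)⁻¹ = g * (n * w * n⁻¹) * g⁻¹ by group, h]
      group
  · intro h
    refine hne ?_
    rw [show g * n * g⁻¹ * (g * y * g⁻¹) * (g * n * g⁻¹)⁻¹ = g * (n * y * n⁻¹) * g⁻¹ by group] at h
    exact mul_left_cancel (mul_right_cancel h)

namespace Setup

variable (P : Setup G)

/-- The centre part. -/
def Zc : Subgroup G := zpowers P.d1.z ⊔ P.D2

theorem z_cases {c : G} (h : c ∈ zpowers P.d1.z) : c = 1 ∨ c = P.d1.z := by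
  obtain ⟨i, rfl⟩ := h
  rcases Int.even_or_odd' i with ⟨l, rfl | rfl⟩
  · left
    show P.d1.z ^ (2 * l) = 1
    rw [zpow_mul, zpow_two, P.d1.z_sq, one_zpow]
  · right
    show P.d1.z ^ (2 * l + 1) = P.d1.z
    rw [zpow_add_one, zpow_mul, zpow_two, P.d1.z_sq, one_zpow, one_mul]

theorem mem_Zc {x : G} : x ∈ P.Zc ↔ ∃ c, (c = 1 ∨ c = P.d1.z) ∧ ∃ b ∈ P.D2, x = c * b := by
  refine ⟨fun hx => ?_, ?_⟩
  · rw [Zc, ← SetLike.mem_coe, Subgroup.coe_mul_of_right_le_normalizer_left] at hx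
    · obtain ⟨c, hc, b, hb, rfl⟩ := Set.mem_mul.1 hx
      exact ⟨c, P.z_cases hc, b, hb, rfl⟩
    · exact fun b hb => Subgroup.centralizer_le_normalizer _ (Subgroup.mem_centralizer_iff.2
        fun c hc => P.comm ((Subgroup.zpowers_le.2 P.d1.z_mem) hc) hb)
  · rintro ⟨c, hc, b, hb, rfl⟩
    refine mul_mem (Subgroup.mem_sup_left ?_) (Subgroup.mem_sup_right hb)
    rcases hc with rfl | rfl
    · exact one_mem _
    · exact mem_zpowers _

theorem Zc_le : P.Zc ≤ (P.S : Subgroup G) :=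
  sup_le ((Subgroup.zpowers_le.2 P.d1.z_mem).trans P.le1) P.le2

theorem z_mem_Zc : P.d1.z ∈ P.Zc := Subgroup.mem_sup_left (mem_zpowers _)

theorem D2_le_Zc : P.D2 ≤ P.Zc := le_sup_right

/-- The large elementary abelian subgroup attached to a reflection. -/
def E (x : G) : Subgroup G := (P.S : Subgroup G) ⊓ centralizer ({x} : Set G)

variable {P}

theorem D2_comm (h1 : P.d2.k = 1) {b : G} (hb : b ∈ P.D2) {s : G} (hs : s ∈ (P.S : Subgroup G)) :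
    Commute s b := by
  obtain ⟨c, hc, e, he, rfl⟩ := P.decomp hs
  exact (P.comm hc hb).mul_left (P.d2.comm_of_k_one h1 he hb)

theorem Zc_comm (h1 : P.d2.k = 1) {w : G} (hw : w ∈ P.Zc) {s : G} (hs : s ∈ (P.S : Subgroup G)) :
    Commute s w := by
  obtain ⟨c, hc, b, hb, rfl⟩ := P.mem_Zc.1 hw
  refine Commute.mul_right ?_ (D2_comm h1 hb hs)
  rcases hc with rfl | rfl
  · exact Commute.one_right _
  · exact P.z1_central hs

theorem mem_Zc_of_central {c : G} (hc : c ∈ (P.S : Subgroup G))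
    (hcent : ∀ s ∈ (P.S : Subgroup G), Commute s c) : c ∈ P.Zc := by
  obtain ⟨a, ha, b, hb, rfl⟩ := P.decomp hc
  refine P.mem_Zc.2 ⟨a, P.d1.center_cases P.hk ha fun w hw => ?_, b, hb, rfl⟩
  exact (P.commute_split hw ha P.D2.one_mem hb (by rw [mul_one]; exact hcent w (P.le1 hw))).1

theorem refl_notMem_Zc {x b : G} (hx : P.d1.Refl x) (hb : b ∈ P.D2) : x * b ∉ P.Zc := by
  intro h
  obtain ⟨c, hc, b', hb', he⟩ := P.mem_Zc.1 h
  have hcD : c ∈ P.D1 := by rcases hc with rfl | rfl; exacts [one_mem _, P.d1.z_mem]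
  have hxc := (P.uniq hx.1 hcD hb hb' he).1
  rcases hc with rfl | rfl
  · exact P.d1.refl_ne hx hxc
  · exact hx.2 (hxc ▸ P.d1.z_rot)

theorem Zc_le_E (h1 : P.d2.k = 1) {x : G} (hx : x ∈ (P.S : Subgroup G)) : P.Zc ≤ P.E x :=
  fun _ hw => ⟨P.Zc_le hw, mem_centralizer_singleton.2 (Zc_comm h1 hw hx).symm⟩

theorem self_mem_E {x : G} (hx : P.d1.Refl x) : x ∈ P.E x :=
  ⟨P.le1 hx.1, mem_centralizer_singleton.2 (Commute.refl x)⟩

theorem mem_E (h1 : P.d2.k = 1) {x : G} (hx : P.d1.Refl x) {y : G} :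
    y ∈ P.E x ↔ ∃ c, (c = 1 ∨ c = P.d1.z ∨ c = x ∨ c = x * P.d1.z) ∧ ∃ b ∈ P.D2, y = c * b := by
  refine ⟨fun hy => ?_, ?_⟩
  · obtain ⟨c, hc, b, hb, rfl⟩ := P.decomp hy.1
    refine ⟨c, P.d1.comm_refl hx hc ?_, b, hb, rfl⟩
    have h := (mem_centralizer_singleton.1 hy.2)
    exact (P.commute_split hc hx.1 hb P.D2.one_mem (by rw [mul_one]; exact h)).1.symm
  · rintro ⟨c, hc, b, hb, rfl⟩
    refine mul_mem ?_ (Zc_le_E h1 (P.le1 hx.1) (P.D2_le_Zc hb))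
    rcases hc with rfl | rfl | rfl | rfl
    · exact one_mem _
    · exact Zc_le_E h1 (P.le1 hx.1) P.z_mem_Zc
    · exact self_mem_E hx
    · exact mul_mem (self_mem_E hx) (Zc_le_E h1 (P.le1 hx.1) P.z_mem_Zc)

theorem E_cases (h1 : P.d2.k = 1) {x : G} (hx : P.d1.Refl x) {y : G} (hy : y ∈ P.E x) :
    y ∈ P.Zc ∨ ∃ w ∈ P.Zc, y = x * w := by
  obtain ⟨c, hc, b, hb, rfl⟩ := (mem_E h1 hx).1 hy
  rcases hc with rfl | rfl | rfl | rfl
  · exact Or.inl (P.mem_Zc.2 ⟨1, Or.inl rfl, b, hb, rfl⟩)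
  · exact Or.inl (P.mem_Zc.2 ⟨_, Or.inr rfl, b, hb, rfl⟩)
  · exact Or.inr ⟨b, P.D2_le_Zc hb, rfl⟩
  · exact Or.inr ⟨P.d1.z * b, mul_mem P.z_mem_Zc (P.D2_le_Zc hb), mul_assoc _ _ _⟩

theorem E_sq (h1 : P.d2.k = 1) {x : G} (hx : P.d1.Refl x) {y : G} (hy : y ∈ P.E x) : y * y = 1 := by
  obtain ⟨c, hc, b, hb, rfl⟩ := (mem_E h1 hx).1 hy
  have hcD : c ∈ P.D1 := by
    rcases hc with rfl | rfl | rfl | rfl
    exacts [one_mem _, P.d1.z_mem, hx.1, mul_mem hx.1 P.d1.z_mem]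
  rw [P.mul4 hcD hb, P.d2.sq_of_k_one h1 hb, mul_one]
  rcases hc with rfl | rfl | rfl | rfl
  · exact one_mul 1
  · exact P.d1.z_sq
  · exact P.d1.refl_sq hx
  · exact P.d1.refl_sq (P.d1.refl_z hx)

theorem E_comm (h1 : P.d2.k = 1) {x : G} (hx : P.d1.Refl x) {y w : G} (hy : y ∈ P.E x)
    (hw : w ∈ P.E x) : Commute y w := by
  have h := E_sq h1 hx (mul_mem hy hw)
  have e : y * w = w⁻¹ * y⁻¹ := by rw [← mul_inv_rev]; exact (inv_eq_of_mul_eq_one_right h).symm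
  rwa [inv_of_sq (E_sq h1 hx hy), inv_of_sq (E_sq h1 hx hw)] at e

theorem card_E [Finite G] (h1 : P.d2.k = 1) {x : G} (hx : P.d1.Refl x) :
    Nat.card (P.E x) = 4 * Nat.card P.D2 ∧ Nat.card P.Zc < Nat.card (P.E x) := by
  have hxz : Commute x P.d1.z := (P.d1.z_comm hx.1).symm
  set F := ProductFusion68.four x P.d1.z (P.d1.refl_sq hx) P.d1.z_sq hxz with hF
  have hmem : ∀ {c}, c ∈ F ↔ (c = 1 ∨ c = P.d1.z ∨ c = x ∨ c = x * P.d1.z) := by
    intro c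
    rw [hF, ProductFusion68.mem_four]
    tauto
  have hFD : ∀ c ∈ F, c ∈ P.D1 := fun c hc => by
    rcases hmem.1 hc with rfl | rfl | rfl | rfl
    exacts [one_mem _, P.d1.z_mem, hx.1, mul_mem hx.1 P.d1.z_mem]
  refine ⟨?_, ?_⟩
  · rw [← ProductFusion68.card_four (P.d1.refl_sq hx) P.d1.z_sq hxz (P.d1.refl_ne hx) P.d1.z_ne
      (fun h => hx.2 (h ▸ P.d1.z_rot)), ← Nat.card_prod]
    refine (Nat.card_eq_of_bijective (fun p : F × P.D2 => (⟨(p.1 : G) * p.2,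
      (mem_E h1 hx).2 ⟨_, hmem.1 p.1.2, _, p.2.2, rfl⟩⟩ : P.E x)) ⟨?_, ?_⟩).symm
    · rintro ⟨a, b⟩ ⟨a', b'⟩ h
      obtain ⟨e1, e2⟩ := P.uniq (hFD a a.2) (hFD a' a'.2) b.2 b'.2 (congrArg Subtype.val h)
      exact Prod.ext (Subtype.ext e1) (Subtype.ext e2)
    · rintro ⟨y, hy⟩
      obtain ⟨c, hc, b, hb, rfl⟩ := (mem_E h1 hx).1 hy
      exact ⟨(⟨c, hmem.2 hc⟩, ⟨b, hb⟩), rfl⟩
  · refine lt_of_le_of_ne (Subgroup.card_le_of_le (Zc_le_E h1 (P.le1 hx.1))) fun h => ?_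
    have heq := Subgroup.eq_of_le_of_card_ge (Zc_le_E h1 (P.le1 hx.1)) h.ge
    have hxm := self_mem_E (P := P) hx
    rw [← heq] at hxm
    exact refl_notMem_Zc hx P.D2.one_mem (by rwa [mul_one])

theorem exists_E [Finite G] (h1 : P.d2.k = 1) {x : G} (hx : P.d1.Refl x) {g : G}
    (hg : ∀ y ∈ P.E x, g * y * g⁻¹ ∈ (P.S : Subgroup G)) :
    ∃ x', P.d1.Refl x' ∧ (P.E x).map (MulAut.conj g).toMonoidHom = P.E x' := by
  set E' := (P.E x).map (MulAut.conj g).toMonoidHom with hE'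
  have hcard : Nat.card E' = Nat.card (P.E x) :=
    Subgroup.card_map_of_injective (MulAut.conj g).injective
  have hS : E' ≤ (P.S : Subgroup G) := by rintro _ ⟨y, hy, rfl⟩; exact hg y hy
  obtain ⟨t, ht, htZ⟩ : ∃ t ∈ E', t ∉ P.Zc := by
    by_contra hcon
    simp only [not_exists, not_and, not_not] at hcon
    have := Subgroup.card_le_of_le (H := E') (K := P.Zc) hcon
    have h2 := (card_E h1 hx).2
    omega
  obtain ⟨c, hc, b, hb, hte⟩ := P.decomp (hS ht)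
  have ht2 : t * t = 1 := by
    obtain ⟨y, hy, rfl⟩ := ht
    rw [← map_mul, E_sq h1 hx hy, map_one]
  have hc2 : c * c = 1 := (P.sq_iff hc hb (hte ▸ ht2)).1
  have hcr : P.d1.Refl c := by
    by_cases hc1 : c = 1
    · exact absurd (P.mem_Zc.2 ⟨c, Or.inl hc1, b, hb, hte⟩) htZ
    rcases P.d1.cases_sq hc hc2 hc1 with h | h
    · exact absurd (P.mem_Zc.2 ⟨c, Or.inr h, b, hb, hte⟩) htZ
    · exact h
  refine ⟨c, hcr, Subgroup.eq_of_le_of_card_ge ?_ ?_⟩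
  · rintro w hw
    refine ⟨hS hw, mem_centralizer_singleton.2 ?_⟩
    have hwt : Commute w t := by
      obtain ⟨y, hy, rfl⟩ := hw
      obtain ⟨y', hy', rfl⟩ := ht
      exact (E_comm h1 hx hy hy').map (MulAut.conj g).toMonoidHom
    have hcb : c = t * b := by rw [hte, mul_assoc, P.d2.sq_of_k_one h1 hb, mul_one]
    rw [hcb]
    exact hwt.mul_right (D2_comm h1 hb (hS hw))
  · rw [hcard, (card_E h1 hx).1, (card_E h1 hcr).1]

theorem action_S (h1 : P.d2.k = 1) {x : G} (hx : P.d1.Refl x) {n : G}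
    (hn : n ∈ (P.S : Subgroup G)) (hnE : n * x * n⁻¹ ∈ P.E x) :
    n * x * n⁻¹ = x ∨ n * x * n⁻¹ = x * P.d1.z := by
  obtain ⟨c, hc, b, hb, rfl⟩ := P.decomp hn
  have e : c * b * x * (c * b)⁻¹ = c * x * c⁻¹ := by
    rw [show c * b * x * (c * b)⁻¹ = c * (b * x * b⁻¹) * c⁻¹ by group,
      ← (P.comm hx.1 hb).eq, mul_inv_cancel_right]
  rw [e] at hnE ⊢
  obtain ⟨d, hd, b', hb', he⟩ := (mem_E h1 hx).1 hnE
  have hdD : d ∈ P.D1 := by
    rcases hd with rfl | rfl | rfl | rfl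
    exacts [one_mem _, P.d1.z_mem, hx.1, mul_mem hx.1 P.d1.z_mem]
  have hd' := (P.uniq (mul_mem (mul_mem hc hx.1) (inv_mem hc)) hdD P.D2.one_mem hb'
    (by rw [mul_one]; exact he)).1
  rw [hd']
  rcases hd with h | h | h | h
  · exfalso
    rw [h, mul_inv_eq_one, mul_eq_left] at hd'
    exact P.d1.refl_ne hx hd'
  · exfalso
    rw [h, mul_inv_eq_iff_eq_mul, (P.d1.z_comm hc).eq] at hd'
    exact hx.2 (mul_left_cancel hd' ▸ P.d1.z_rot)
  · exact Or.inl h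
  · exact Or.inr h

theorem action_eq [Finite G] (h1 : P.d2.k = 1) {x : G} (hx : P.d1.Refl x) {T : Subgroup G}
    (hT : IsPGroup 2 T) (hTn : T ≤ normalizer (P.E x : Set G)) {p q : G} (hp : p ∈ T) (hq : q ∈ T)
    (hpm : ∃ y ∈ P.E x, p * y * p⁻¹ ≠ y) (hqm : ∃ y ∈ P.E x, q * y * q⁻¹ ≠ y) :
    ∀ y ∈ P.E x, p * y * p⁻¹ = q * y * q⁻¹ := by
  haveI := Fact.mk Nat.prime_two
  have hEp : IsPGroup 2 (P.E x) := P.S.isPGroup'.to_le inf_le_left
  obtain ⟨g, hg⟩ := exists_conj_le P.S (IsPGroup.to_sup_of_normal_right' hT hEp hTn)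
  obtain ⟨x', hx', hE⟩ := exists_E h1 hx (g := g) fun y hy => hg y (Subgroup.mem_sup_right hy)
  have key : ∀ r ∈ T, (∃ y ∈ P.E x, r * y * r⁻¹ ≠ y) →
      (∀ w ∈ P.Zc, Commute (g * r * g⁻¹) w) ∧
      g * r * g⁻¹ * x' * (g * r * g⁻¹)⁻¹ = x' * P.d1.z := by
    intro r hr ⟨y, hy, hne⟩
    have hrS := hg r (Subgroup.mem_sup_left hr)
    have hfix : ∀ w ∈ P.Zc, Commute (g * r * g⁻¹) w := fun w hw => Zc_comm h1 hw hrS
    refine ⟨hfix, (action_S h1 hx' hrS ?_).resolve_left fun h => hne ?_⟩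
    · rw [← hE]
      obtain ⟨w, hw, hwx⟩ : x' ∈ (P.E x).map (MulAut.conj g).toMonoidHom := hE ▸ self_mem_E hx'
      refine ⟨r * w * r⁻¹, (mem_normalizer_iff.1 (hTn hr) w).1 hw, ?_⟩
      rw [← hwx]
      show g * (r * w * r⁻¹) * g⁻¹ = g * r * g⁻¹ * (g * w * g⁻¹) * (g * r * g⁻¹)⁻¹
      group
    · have hyE : g * y * g⁻¹ ∈ P.E x' := hE ▸ ⟨y, hy, rfl⟩
      have hcx : Commute (g * r * g⁻¹) x' := by rw [mul_inv_eq_iff_eq_mul] at h; exact h
      have hc : Commute (g * r * g⁻¹) (g * y * g⁻¹) := by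
        rcases E_cases h1 hx' hyE with hw | ⟨w, hw, hwe⟩
        · exact hfix _ hw
        · rw [hwe]; exact hcx.mul_right (hfix w hw)
      rw [((Commute.conj_iff g).1 hc).eq, mul_inv_cancel_right]
  obtain ⟨hp1, hp2⟩ := key p hp hpm
  obtain ⟨hq1, hq2⟩ := key q hq hqm
  intro y hy
  have hyE : g * y * g⁻¹ ∈ P.E x' := hE ▸ ⟨y, hy, rfl⟩
  have e : g * (p * y * p⁻¹) * g⁻¹ = g * (q * y * q⁻¹) * g⁻¹ := by
    rw [show g * (p * y * p⁻¹) * g⁻¹ = g * p * g⁻¹ * (g * y * g⁻¹) * (g * p * g⁻¹)⁻¹ by group,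
      show g * (q * y * q⁻¹) * g⁻¹ = g * q * g⁻¹ * (g * y * g⁻¹) * (g * q * g⁻¹)⁻¹ by group]
    rcases E_cases h1 hx' hyE with hw | ⟨w, hw, hwe⟩
    · rw [(hp1 _ hw).eq, mul_inv_cancel_right, (hq1 _ hw).eq, mul_inv_cancel_right]
    · rw [hwe, show g * p * g⁻¹ * (x' * w) * (g * p * g⁻¹)⁻¹ =
          (g * p * g⁻¹ * x' * (g * p * g⁻¹)⁻¹) * (g * p * g⁻¹ * w * (g * p * g⁻¹)⁻¹) by group,
        show g * q * g⁻¹ * (x' * w) * (g * q * g⁻¹)⁻¹ =
          (g * q * g⁻¹ * x' * (g * q * g⁻¹)⁻¹) * (g * q * g⁻¹ * w * (g * q * g⁻¹)⁻¹) by group,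
        hp2, hq2, (hp1 _ hw).eq, mul_inv_cancel_right, (hq1 _ hw).eq, mul_inv_cancel_right]
  exact mul_left_cancel (mul_right_cancel e)

theorem trans_eq [Finite G] (h1 : P.d2.k = 1) {x u u' n n' : G} (hx : P.d1.Refl x)
    (hn : Tr (P.E x) u n) (hn' : Tr (P.E x) u' n')
    (hcomm : ∀ y ∈ P.E x, n * (n' * y * n'⁻¹) * n⁻¹ = n' * (n * y * n⁻¹) * n'⁻¹) :
    ∀ y ∈ P.E x, n * y * n⁻¹ = n' * y * n'⁻¹ := by
  classical
  haveI := Fact.mk Nat.prime_two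
  set φ := Subgroup.normalizerMonoidHom (P.E x) with hφ
  have happ : ∀ (m : normalizer (P.E x : Set G)) (y : P.E x),
      ((φ m y : P.E x) : G) = (m : G) * y * (m : G)⁻¹ := fun _ _ => rfl
  set ψ := φ.rangeRestrict with hψ
  have hψapp : ∀ (m : normalizer (P.E x : Set G)) (y : P.E x),
      (((ψ m : MulAut (P.E x)) y : P.E x) : G) = (m : G) * y * (m : G)⁻¹ := fun _ _ => rfl
  have hψs : Function.Surjective ψ := φ.rangeRestrict_surjective
  haveI : Finite φ.range := Finite.of_surjective _ hψs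
  obtain ⟨R⟩ : Nonempty (Sylow 2 (normalizer (P.E x : Set G))) := inferInstance
  set A := (⟨n, hn.1⟩ : normalizer (P.E x : Set G)) with hA
  set B := (⟨n', hn'.1⟩ : normalizer (P.E x : Set G)) with hB
  have hsq : ∀ {v m : G} (hm : Tr (P.E x) v m), ψ ⟨m, hm.1⟩ * ψ ⟨m, hm.1⟩ = 1 := by
    intro v m hm
    rw [← map_mul]
    refine Subtype.ext (MulEquiv.ext fun y => Subtype.ext ?_)
    rw [hψapp]
    show m * m * (y : G) * (m * m)⁻¹ = (y : G)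
    rw [show m * m * (y : G) * (m * m)⁻¹ = m * (m * y * m⁻¹) * m⁻¹ by group]
    rcases hm.2.1 y y.2 with h | h
    · rw [h, h]
    · rw [h, show m * (y * v) * m⁻¹ = (m * y * m⁻¹) * (m * v * m⁻¹) by group, h,
        hm.fix_centre (fun w hw => E_sq h1 hx hw), mul_assoc, E_sq h1 hx hm.mem, mul_one]
  have hc : Commute (ψ A) (ψ B) := by
    show ψ A * ψ B = ψ B * ψ A
    rw [← map_mul, ← map_mul]
    refine Subtype.ext (MulEquiv.ext fun y => Subtype.ext ?_)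
    rw [hψapp, hψapp]
    show n * n' * (y : G) * (n * n')⁻¹ = n' * n * (y : G) * (n' * n)⁻¹
    calc n * n' * (y : G) * (n * n')⁻¹ = n * (n' * y * n'⁻¹) * n⁻¹ := by group
      _ = n' * (n * y * n⁻¹) * n'⁻¹ := hcomm y y.2
      _ = n' * n * (y : G) * (n' * n)⁻¹ := by group
  have hAA : ψ A * ψ A = 1 := hsq hn
  have hBB : ψ B * ψ B = 1 := hsq hn'
  have hFp : IsPGroup 2 (ProductFusion68.four (ψ A) (ψ B) hAA hBB hc) := by
    refine ProductFusion68.isPGroup_of_forall_sq fun v hv => ?_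
    rcases ProductFusion68.mem_four.1 hv with rfl | rfl | rfl | rfl
    · exact one_mul 1
    · exact hAA
    · exact hBB
    · rw [hc.symm.mul_mul_mul_comm, hAA, hBB, one_mul]
  obtain ⟨ξ, hξ⟩ := exists_conj_le (R.mapSurjective hψs) hFp
  obtain ⟨m, rfl⟩ := hψs ξ
  have move : ∀ {v k : G} (hk : Tr (P.E x) v k),
      ψ m * ψ ⟨k, hk.1⟩ * (ψ m)⁻¹ ∈ (R.mapSurjective hψs : Subgroup φ.range) →
      ∃ r ∈ (R : Subgroup (normalizer (P.E x : Set G))), (∀ y ∈ P.E x, (m : G) * k * (m : G)⁻¹ * y * ((m : G) * k * (m : G)⁻¹)⁻¹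
        = (r : G) * y * (r : G)⁻¹) ∧ ∃ y ∈ P.E x, (r : G) * y * (r : G)⁻¹ ≠ y := by
    intro v k hk hmem
    obtain ⟨r, hr, hre⟩ := hmem
    have hact : ∀ y ∈ P.E x, (m : G) * k * (m : G)⁻¹ * y * ((m : G) * k * (m : G)⁻¹)⁻¹ =
        (r : G) * y * (r : G)⁻¹ := by
      intro y hy
      have h := congrArg (fun f : φ.range => (((f : MulAut (P.E x)) ⟨y, hy⟩ : P.E x) : G)) hre
      simp only [← map_inv, ← map_mul, hψapp] at h
      exact h.symm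
    refine ⟨r, hr, hact, ?_⟩
    obtain ⟨y, hy, hne⟩ := hk.2.2
    refine ⟨(m : G) * y * (m : G)⁻¹, (mem_normalizer_iff.1 m.2 y).1 hy, fun h => hne ?_⟩
    rw [← hact _ ((mem_normalizer_iff.1 m.2 y).1 hy),
      show (m : G) * k * (m : G)⁻¹ * ((m : G) * y * (m : G)⁻¹) * ((m : G) * k * (m : G)⁻¹)⁻¹ =
        m * (k * y * k⁻¹) * (m : G)⁻¹ by group] at h
    exact mul_left_cancel (mul_right_cancel h)
  obtain ⟨r, hr, hract, hrm⟩ := move hn (hξ _ ProductFusion68.left_mem_four)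
  obtain ⟨r', hr', hract', hrm'⟩ := move hn' (hξ _ ProductFusion68.right_mem_four)
  intro y hy
  have hy' : (m : G) * y * (m : G)⁻¹ ∈ P.E x := (mem_normalizer_iff.1 m.2 y).1 hy
  have heq := action_eq h1 hx (T := (R : Subgroup (normalizer (P.E x : Set G))).map (normalizer (P.E x : Set G)).subtype)
    (R.isPGroup'.map _) (Subgroup.map_subtype_le _) ⟨r, hr, rfl⟩ ⟨r', hr', rfl⟩ hrm hrm' _ hy'
  simp only [Subgroup.coe_subtype] at heq
  rw [← hract _ hy', ← hract' _ hy',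
    show (m : G) * n * (m : G)⁻¹ * ((m : G) * y * (m : G)⁻¹) * ((m : G) * n * (m : G)⁻¹)⁻¹ =
      m * (n * y * n⁻¹) * (m : G)⁻¹ by group,
    show (m : G) * n' * (m : G)⁻¹ * ((m : G) * y * (m : G)⁻¹) * ((m : G) * n' * (m : G)⁻¹)⁻¹ =
      m * (n' * y * n'⁻¹) * (m : G)⁻¹ by group] at heq
  exact mul_left_cancel (mul_right_cancel heq)

theorem act_commute (h1 : P.d2.k = 1) {x u u' n n' : G} (hx : P.d1.Refl x)
    (hn : Tr (P.E x) u n) (hn' : Tr (P.E x) u' n') (hnu : n * u' * n⁻¹ = u')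
    (hn'u : n' * u * n'⁻¹ = u) :
    ∀ y ∈ P.E x, n * (n' * y * n'⁻¹) * n⁻¹ = n' * (n * y * n⁻¹) * n'⁻¹ := by
  intro y hy
  rcases hn.2.1 y hy with ha | ha <;> rcases hn'.2.1 y hy with hb | hb <;> rw [ha, hb]
  · rw [ha]
  · rw [show n * (y * u') * n⁻¹ = (n * y * n⁻¹) * (n * u' * n⁻¹) by group, ha, hnu]
  · rw [ha, show n' * (y * u) * n'⁻¹ = (n' * y * n'⁻¹) * (n' * u * n'⁻¹) by group, hb, hn'u]
  · rw [show n * (y * u') * n⁻¹ = (n * y * n⁻¹) * (n * u' * n⁻¹) by group, ha, hnu,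
      show n' * (y * u) * n'⁻¹ = (n' * y * n'⁻¹) * (n' * u * n'⁻¹) by group, hb, hn'u, mul_assoc,
      mul_assoc, (E_comm h1 hx hn.mem hn'.mem).eq]

theorem same_centre [Finite G] (h1 : P.d2.k = 1) {x u n n' : G} (hx : P.d1.Refl x)
    (hn : Tr (P.E x) u n) (hn' : Tr (P.E x) u n') :
    ∀ y ∈ P.E x, n * y * n⁻¹ = n' * y * n'⁻¹ :=
  trans_eq h1 hx hn hn' (act_commute h1 hx hn hn' (hn.fix_centre fun _ h => E_sq h1 hx h)
    (hn'.fix_centre fun _ h => E_sq h1 hx h))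

theorem not_fix [Finite G] (h1 : P.d2.k = 1) {x u u' n n' : G} (hx : P.d1.Refl x)
    (hn : Tr (P.E x) u n) (hn' : Tr (P.E x) u' n') (hne : u ≠ u') :
    n * u' * n⁻¹ ≠ u' := by
  intro hnu
  have hsq : ∀ y ∈ P.E x, y * y = 1 := fun _ h => E_sq h1 hx h
  have hfix2 : ∀ y ∈ P.E x, n' * (n' * y * n'⁻¹) * n'⁻¹ = y := by
    intro y hy
    rcases hn'.2.1 y hy with h | h <;> rw [h]
    · exact h
    · rw [show n' * (y * u') * n'⁻¹ = (n' * y * n'⁻¹) * (n' * u' * n'⁻¹) by group, h,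
        hn'.fix_centre hsq, mul_assoc, hsq u' hn'.mem, mul_one]
  have hmap : (P.E x).map (MulAut.conj n').toMonoidHom = P.E x := by
    ext w
    constructor
    · rintro ⟨v, hv, rfl⟩
      exact (mem_normalizer_iff.1 hn'.1 v).1 hv
    · intro hw
      exact ⟨n' * w * n'⁻¹, (mem_normalizer_iff.1 hn'.1 w).1 hw, hfix2 w hw⟩
  have hm := hn.map n'
  rw [hmap] at hm
  have hnu1 : n * (n' * u * n'⁻¹) * n⁻¹ = n' * u * n'⁻¹ := by
    rcases hn'.2.1 u hn.mem with h | h <;> rw [h]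
    · exact hn.fix_centre hsq
    · rw [show n * (u * u') * n⁻¹ = (n * u * n⁻¹) * (n * u' * n⁻¹) by group, hn.fix_centre hsq, hnu]
  have hmu : (n' * n * n'⁻¹) * u * (n' * n * n'⁻¹)⁻¹ = u := by
    have e : n' * (n' * u * n'⁻¹) * n'⁻¹ = u := hfix2 u hn.mem
    calc (n' * n * n'⁻¹) * u * (n' * n * n'⁻¹)⁻¹
        = (n' * n * n'⁻¹) * (n' * (n' * u * n'⁻¹) * n'⁻¹) * (n' * n * n'⁻¹)⁻¹ := by rw [e]
      _ = n' * (n * (n' * u * n'⁻¹) * n⁻¹) * n'⁻¹ := by group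
      _ = u := by rw [hnu1, e]
  have heq := trans_eq h1 hx hn hm (act_commute h1 hx hn hm hnu1 hmu)
  obtain ⟨y, hy, hyne⟩ := hn.2.2
  have hy1 := (hn.2.1 y hy).resolve_left hyne
  have hn'u : n' * u * n'⁻¹ = u := by
    rcases hm.2.1 y hy with h | h
    · exact absurd ((heq y hy).trans h) hyne
    · rw [← heq y hy, hy1] at h
      exact (mul_left_cancel h).symm
  have hcom := trans_eq h1 hx hn hn' (act_commute h1 hx hn hn' hnu hn'u)
  obtain ⟨y', hy', hyne'⟩ := hn'.2.2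
  have hy1' := (hn'.2.1 y' hy').resolve_left hyne'
  rcases hn.2.1 y' hy' with h | h
  · exact hyne' ((hcom y' hy').symm.trans h)
  · rw [hcom y' hy', hy1'] at h
    exact hne (mul_left_cancel h).symm

theorem q_tr (h1 : P.d2.k = 1) {x : G} (hx : P.d1.Refl x) : Tr (P.E x) P.d1.z P.d1.q := by
  have hqS := P.le1 P.d1.q_mem
  have hqE : ∀ y ∈ P.E x, P.d1.q * y * P.d1.q⁻¹ = y ∨ P.d1.q * y * P.d1.q⁻¹ = y * P.d1.z := by
    intro y hy
    rcases E_cases h1 hx hy with hw | ⟨w, hw, rfl⟩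
    · left
      rw [(Zc_comm h1 hw hqS).eq, mul_inv_cancel_right]
    · right
      rw [show P.d1.q * (x * w) * P.d1.q⁻¹ = (P.d1.q * x * P.d1.q⁻¹) * (P.d1.q * w * P.d1.q⁻¹) by
        group, P.d1.q_refl P.hk hx, (Zc_comm h1 hw hqS).eq, mul_inv_cancel_right,
        mul_assoc x P.d1.z w, ← (P.z1_central (P.Zc_le hw)).eq, mul_assoc]
  refine ⟨mem_normalizer_iff.2 fun y => ⟨fun hy => ?_, fun hy => ?_⟩, hqE, x, self_mem_E hx, ?_⟩
  · rcases hqE y hy with h | h <;> rw [h]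
    · exact hy
    · exact mul_mem hy (Zc_le_E h1 (P.le1 hx.1) P.z_mem_Zc)
  · have hfix : P.d1.q * P.d1.z * P.d1.q⁻¹ = P.d1.z := by
      rw [(P.z1_central hqS).eq, mul_inv_cancel_right]
    rcases hqE _ hy with h | h
    · rwa [mul_left_cancel (mul_right_cancel h)] at hy
    · have e : P.d1.q * y * P.d1.q⁻¹ = y * P.d1.z := by
        refine mul_left_cancel (a := P.d1.q) (mul_right_cancel (b := P.d1.q⁻¹) ?_)
        rw [h, show P.d1.q * (y * P.d1.z) * P.d1.q⁻¹ =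
          (P.d1.q * y * P.d1.q⁻¹) * (P.d1.q * P.d1.z * P.d1.q⁻¹) by group, hfix]
      rw [e] at hy
      simpa [mul_assoc, P.d1.z_sq] using mul_mem hy (Zc_le_E h1 (P.le1 hx.1) P.z_mem_Zc)
  · rw [P.d1.q_refl P.hk hx]
    exact fun h => P.d1.z_ne (mul_eq_left.1 h)

theorem exists_centre [Finite G] (h1 : P.d2.k = 1) {x y : G} (hx : P.d1.Refl x)
    (hy : y ∈ P.E x) (hc : Cj y P.d1.z) : ∃ n, Tr (P.E x) y n := by
  obtain ⟨g0, hg0⟩ := hc
  obtain ⟨g, hg, hgS⟩ := P.exists_to_central (fun s hs => P.z1_central hs) hg0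
    (T := P.E x) (P.S.isPGroup'.to_le inf_le_left)
    (fun t ht => mem_centralizer_singleton.2 (E_comm h1 hx ht hy))
  obtain ⟨x', hx', hE⟩ := exists_E h1 hx hgS
  have h := (q_tr h1 hx').map g⁻¹
  have e : (P.E x').map (MulAut.conj g⁻¹).toMonoidHom = P.E x := by
    rw [← hE, Subgroup.map_map]
    ext w
    simp [Subgroup.mem_map, mul_assoc]
  rw [e, ← hg, show g⁻¹ * (g * y * g⁻¹) * g⁻¹⁻¹ = y by group] at h
  exact ⟨_, h⟩

theorem centres_cases [Finite G] (h1 : P.d2.k = 1) {x u1 u2 u3 : G} (hx : P.d1.Refl x)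
    (hu1 : ∃ n, Tr (P.E x) u1 n) (hu2 : ∃ n, Tr (P.E x) u2 n) (hu3 : ∃ n, Tr (P.E x) u3 n)
    (h12 : u1 ≠ u2) : u3 = u1 ∨ u3 = u2 ∨ u3 = u2 * u1 := by
  obtain ⟨n1, hn1⟩ := hu1
  obtain ⟨n2, hn2⟩ := hu2
  obtain ⟨n3, hn3⟩ := hu3
  by_contra hcon
  simp only [not_or] at hcon
  obtain ⟨e1, e2, e3⟩ := hcon
  have hu : n1 * u2 * n1⁻¹ = u2 * u1 :=
    (hn1.2.1 u2 hn2.mem).resolve_left (not_fix h1 hx hn1 hn2 h12)
  have hmap : (P.E x).map (MulAut.conj n1).toMonoidHom = P.E x := by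
    refine le_antisymm ?_ fun w hw => ?_
    · rintro _ ⟨v, hv, rfl⟩
      exact (mem_normalizer_iff.1 hn1.1 v).1 hv
    · exact ⟨n1⁻¹ * w * n1, by simpa using (mem_normalizer_iff.1 (inv_mem hn1.1) w).1 hw,
        by simp [mul_assoc]⟩
  have hm := hn2.map n1
  rw [hmap, hu] at hm
  have a1 := (hn3.2.1 u1 hn1.mem).resolve_left (not_fix h1 hx hn3 hn1 e1)
  have a2 := (hn3.2.1 u2 hn2.mem).resolve_left (not_fix h1 hx hn3 hn2 e2)
  refine not_fix h1 hx hn3 hm e3 ?_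
  rw [show n3 * (u2 * u1) * n3⁻¹ = (n3 * u2 * n3⁻¹) * (n3 * u1 * n3⁻¹) by group, a1, a2,
    mul_assoc u2, (E_comm h1 hx hn3.mem (mul_mem hn1.mem hn3.mem)).eq, mul_assoc u1,
    E_sq h1 hx hn3.mem, mul_one]

theorem z1_alone [Finite G] (h1 : P.d2.k = 1) {c : G} (hc : c ∈ P.Zc) (h : Cj c P.d1.z) :
    c = P.d1.z := by
  obtain ⟨g, hg⟩ := h.symm
  obtain ⟨n, hn, hne⟩ := P.burnside (P.le1 P.d1.z_mem) (fun s hs => P.z1_central hs)
    (fun s hs => Zc_comm h1 hc hs) hg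
  have hS : ∀ s ∈ (P.S : Subgroup G), n * s * n⁻¹ ∈ (P.S : Subgroup G) :=
    fun s hs => (mem_normalizer_iff.1 hn s).1 hs
  obtain ⟨s1, hs1, s2, hs2, hse⟩ := P.decomp (hS _ (P.le1 P.d1.q_mem))
  obtain ⟨t1, ht1, t2, ht2, hte⟩ := P.decomp (hS _ (P.le1 P.d1.aD))
  have e : c = (n * P.d1.q * n⁻¹) * (n * P.d1.a * n⁻¹) * (n * P.d1.q * n⁻¹)⁻¹ *
      (n * P.d1.a * n⁻¹)⁻¹ := by
    rw [← hne, ← P.d1.z_commutator P.hk P.d1.refl_a]; group
  have hS2 : ∀ b ∈ P.D2, ∀ s ∈ (P.S : Subgroup G), Commute s b := fun b hb s hs => D2_comm h1 hb hs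
  rw [hse, hte] at e
  have e' : c = s1 * t1 * s1⁻¹ * t1⁻¹ := by
    rw [e, show s1 * s2 * (t1 * t2) * (s1 * s2)⁻¹ * (t1 * t2)⁻¹ =
      s1 * (s2 * (t1 * t2) * s2⁻¹) * s1⁻¹ * t2⁻¹ * t1⁻¹ by group,
      ← (hS2 s2 hs2 _ (P.mul_mem_S ht1 ht2)).eq, mul_inv_cancel_right,
      show s1 * (t1 * t2) * s1⁻¹ * t2⁻¹ * t1⁻¹ = s1 * t1 * (t2 * s1⁻¹ * t2⁻¹) * t1⁻¹ by group,
      ← (hS2 t2 ht2 _ (P.le1 (inv_mem hs1))).eq, mul_inv_cancel_right]
  have hcj : Cj P.d1.z c := ⟨g, hg⟩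
  exact P.d1.rot_sq (e' ▸ P.d1.commutator_rot hs1 ht1) (hcj.sq P.d1.z_sq) (hcj.ne_one P.d1.z_ne)

theorem to_central [Finite G] (h2 : ∀ N : Subgroup G, N.Normal → N.index ≠ 2) (h1 : P.d2.k = 1)
    {c b : G} (hc : P.d1.Refl c) (hb : b ∈ P.D2) :
    ∃ g x', P.d1.Refl x' ∧ g * (c * b) * g⁻¹ ∈ P.Zc ∧
      (P.E c).map (MulAut.conj g).toMonoidHom = P.E x' := by
  have hyS := P.mul_mem_S hc.1 hb
  have hy2 : (c * b) * (c * b) = 1 := by
    rw [P.mul4 hc.1 hb, P.d1.refl_sq hc, P.d2.sq_of_k_one h1 hb, one_mul]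
  have hy1 : c * b ≠ 1 := fun h => P.d1.refl_ne hc (P.uniq hc.1 P.D1.one_mem hb P.D2.one_mem
    (by rw [h, one_mul])).1
  obtain ⟨y, hy, hyc⟩ := P.exists_conj_mem h2 P.rotPart_le P.rotPart_index hyS hy2 hy1
  obtain ⟨d, hd, e, he, rfl⟩ := P.mem_rotPart.1 hy
  have hys := hyc.sq hy2
  have hd2 := (P.sq_iff (P.d1.zpowers_le hd) he hys).1
  have hyZ : d * e ∈ P.Zc := by
    refine P.mem_Zc.2 ⟨d, ?_, e, he, rfl⟩
    by_cases hd1 : d = 1
    · exact Or.inl hd1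
    · exact Or.inr (P.d1.rot_sq hd hd2 hd1)
  obtain ⟨g0, hg0⟩ := hyc
  obtain ⟨g, hg, hgS⟩ := P.exists_to_central (fun s hs => Zc_comm h1 hyZ hs) hg0
    (T := P.E c) (P.S.isPGroup'.to_le inf_le_left) (fun t ht => mem_centralizer_singleton.2
      ((mem_centralizer_singleton.1 ht.2).mul_right (D2_comm h1 hb ht.1)))
  obtain ⟨x', hx', hE⟩ := exists_E h1 hc hgS
  exact ⟨g, x', hx', hg ▸ hyZ, hE⟩

theorem exists_twist_val_four [Finite G] (h2 : ∀ N : Subgroup G, N.Normal → N.index ≠ 2)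
    (h1 : P.d2.k = 1) {x : G} (hx : P.d1.Refl x) :
    ∃ v ∈ P.D2, (∀ b ∈ P.D2, Commute b v) ∧ v * v = 1 ∧ Cj (x * v) P.d1.z := by
  obtain ⟨g, x', hx', hgc, hE⟩ := to_central h2 h1 hx P.D2.one_mem
  rw [mul_one] at hgc
  have hne : g * P.d1.z * g⁻¹ ≠ P.d1.z := by
    intro hgz
    have h := (q_tr h1 hx).map g
    rw [hE, hgz] at h
    have hxE : g * x * g⁻¹ ∈ P.E x' := by
      rw [← hE]; exact ⟨x, self_mem_E hx, rfl⟩
    have heq := same_centre h1 hx' h (q_tr h1 hx') _ hxE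
    have e : g * P.d1.q * g⁻¹ * (g * x * g⁻¹) * (g * P.d1.q * g⁻¹)⁻¹ = g * (x * P.d1.z) * g⁻¹ := by
      rw [← P.d1.q_refl P.hk hx]; group
    change g * P.d1.q * g⁻¹ * (g * x * g⁻¹) * (g * P.d1.q * g⁻¹)⁻¹ =
      P.d1.q * (g * x * g⁻¹) * P.d1.q⁻¹ at heq
    rw [e, (Zc_comm h1 hgc (P.le1 P.d1.q_mem)).eq, mul_inv_cancel_right] at heq
    exact P.d1.z_ne (mul_eq_left.1 (mul_left_cancel (mul_right_cancel heq)))
  obtain ⟨y, hy, hye⟩ : P.d1.z ∈ (P.E x).map (MulAut.conj g).toMonoidHom :=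
    hE ▸ Zc_le_E h1 (P.le1 hx'.1) P.z_mem_Zc
  have hye' : g * y * g⁻¹ = P.d1.z := hye
  have hyc : Cj y P.d1.z := ⟨g, hye'⟩
  obtain ⟨c, hc, b, hb, rfl⟩ := (mem_E h1 hx).1 hy
  refine ⟨b, hb, fun b' hb' => P.d2.comm_of_k_one h1 hb' hb, P.d2.sq_of_k_one h1 hb, ?_⟩
  have hZ : ∀ c', c' = 1 ∨ c' = P.d1.z → c' * b ∈ P.Zc := fun c' h =>
    P.mem_Zc.2 ⟨c', h, b, hb, rfl⟩
  rcases hc with h | h | h | h
  · exact absurd (z1_alone h1 (hZ c (Or.inl h)) hyc) fun e => hne (by rw [← hye']; simp [e] at hye' ⊢; simpa using hye')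
  · exact absurd (z1_alone h1 (hZ c (Or.inr h)) hyc) fun e => hne (by rw [e] at hye'; exact hye')
  · exact h ▸ hyc
  · subst h
    refine Cj.trans ⟨P.d1.q, ?_⟩ hyc
    rw [show P.d1.q * (x * b) * P.d1.q⁻¹ = (P.d1.q * x * P.d1.q⁻¹) * (P.d1.q * b * P.d1.q⁻¹) by
      group, P.d1.q_refl P.hk hx, (P.comm P.d1.q_mem hb).eq, mul_inv_cancel_right]

theorem class_four [Finite G] (h1 : P.d2.k = 1) (hR1 : ∀ x, P.d1.Refl x → Cj x P.d1.z) {y : G}
    (hy : y ∈ (P.S : Subgroup G)) (hc : Cj y P.d1.z) : y ∈ P.D1 := by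
  obtain ⟨c, hcD, b, hb, rfl⟩ := P.decomp hy
  have hs := hc.symm.sq P.d1.z_sq
  have hcs := (P.sq_iff hcD hb hs).1
  have hZ : (c = 1 ∨ c = P.d1.z) → c * b ∈ P.D1 := fun h => by
    rw [z1_alone h1 (P.mem_Zc.2 ⟨c, h, b, hb, rfl⟩) hc]
    exact P.d1.z_mem
  by_cases hc1 : c = 1
  · exact hZ (Or.inl hc1)
  rcases P.d1.cases_sq hcD hcs hc1 with h | h
  · exact hZ (Or.inr h)
  have hcne : c ≠ P.d1.z := fun e => h.2 (e ▸ P.d1.z_rot)
  have hb1 : b = 1 := by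
    have hmem : c * b ∈ P.E c := (mem_E h1 h).2 ⟨c, Or.inr (Or.inr (Or.inl rfl)), b, hb, rfl⟩
    rcases centres_cases h1 h ⟨_, q_tr h1 h⟩ (exists_centre h1 h (self_mem_E h) (hR1 c h))
      (exists_centre h1 h hmem hc) (Ne.symm hcne) with e | e | e
    · exfalso
      exact hcne (P.uniq hcD P.d1.z_mem hb P.D2.one_mem (by rw [e, mul_one])).1
    · exact mul_eq_left.1 e
    · rw [mul_left_cancel e]
      exact P.inter P.d1.z_mem (mul_left_cancel e ▸ hb)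
  rw [hb1, mul_one]; exact hcD

/-- The fixed part of all the transvections with centres in the class of `z₁`. -/
def W (P : Setup G) (x : G) : Subgroup G :=
  P.E x ⊓ centralizer {n | ∃ u, Cj u P.d1.z ∧ Tr (P.E x) u n}

theorem mem_W {x w : G} : w ∈ P.W x ↔
    w ∈ P.E x ∧ ∀ u n, Cj u P.d1.z → Tr (P.E x) u n → Commute n w := by
  refine and_congr Iff.rfl ?_
  show w ∈ centralizer _ ↔ _
  rw [Subgroup.mem_centralizer_iff]
  exact ⟨fun h u n hu hn => h n ⟨u, hu, hn⟩, fun h n ⟨u, hu, hn⟩ => h u n hu hn⟩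

theorem W_le_Zc (h1 : P.d2.k = 1) {x w : G} (hx : P.d1.Refl x) (hw : w ∈ P.W x) : w ∈ P.Zc := by
  obtain ⟨hwE, hfix⟩ := mem_W.1 hw
  refine (E_cases h1 hx hwE).resolve_right ?_
  rintro ⟨v, hv, rfl⟩
  have h := hfix _ _ (Cj.refl _) (q_tr h1 hx)
  have hcv : Commute P.d1.q v := Zc_comm h1 hv (P.le1 P.d1.q_mem)
  have hc : Commute P.d1.q x := by
    have := h.mul_right hcv
    rwa [mul_assoc, E_sq h1 hx (Zc_le_E h1 (P.le1 hx.1) hv), mul_one] at this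
  have h3 := P.d1.q_refl P.hk hx
  rw [hc.eq, mul_inv_cancel_right] at h3
  exact P.d1.z_ne (mul_eq_left.1 h3.symm)

theorem W_map [Finite G] {x x' g w : G}
    (hg : (P.E x).map (MulAut.conj g).toMonoidHom = P.E x') (hw : w ∈ P.W x) :
    g * w * g⁻¹ ∈ P.W x' := by
  obtain ⟨hwE, hfix⟩ := mem_W.1 hw
  refine mem_W.2 ⟨hg ▸ ⟨w, hwE, rfl⟩, fun u n hu hn => ?_⟩
  have h := hn.map g⁻¹
  have e : (P.E x').map (MulAut.conj g⁻¹).toMonoidHom = P.E x := by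
    rw [← hg, Subgroup.map_map]
    ext v
    simp [Subgroup.mem_map, mul_assoc]
  rw [e] at h
  have h2 := hfix _ _ (Cj.trans (Cj.symm ⟨g⁻¹, rfl⟩) hu) h
  have h3 := (Commute.conj_iff g).2 h2
  rwa [show g * (g⁻¹ * n * g⁻¹⁻¹) * g⁻¹ = n by group] at h3

theorem conj_E [Finite G] {n x : G} (hn : n ∈ normalizer ((P.S : Subgroup G) : Set G)) :
    (P.E x).map (MulAut.conj n).toMonoidHom = P.E (n * x * n⁻¹) := by
  refine le_antisymm ?_ fun y hy => ⟨n⁻¹ * y * n, ⟨?_, ?_⟩, by simp [mul_assoc]⟩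
  · rintro _ ⟨y, hy, rfl⟩
    exact ⟨(mem_normalizer_iff.1 hn y).1 hy.1,
      mem_centralizer_singleton.2 ((Commute.conj_iff n).2 (mem_centralizer_singleton.1 hy.2))⟩
  · have := (mem_normalizer_iff.1 (inv_mem hn) y).1 hy.1
    rwa [show n⁻¹ * y * n⁻¹⁻¹ = n⁻¹ * y * n by group] at this
  · refine mem_centralizer_singleton.2 ((Commute.conj_iff n).1 ?_)
    rw [show n * (n⁻¹ * y * n) * n⁻¹ = y by group]
    exact mem_centralizer_singleton.1 hy.2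

theorem W_conj [Finite G] (h1 : P.d2.k = 1) {x s : G} (hx : P.d1.Refl x)
    (hs : s ∈ (P.S : Subgroup G)) : P.W (s * x * s⁻¹) = P.W x := by
  have hsn : s ∈ normalizer ((P.S : Subgroup G) : Set G) := Subgroup.le_normalizer hs
  have key : ∀ {x : G}, P.d1.Refl x → ∀ {s : G}, s ∈ (P.S : Subgroup G) →
      P.W x ≤ P.W (s * x * s⁻¹) := by
    intro x hx s hs w hw
    have := W_map (conj_E (Subgroup.le_normalizer hs)) hw
    rwa [(Zc_comm h1 (W_le_Zc h1 hx hw) hs).eq, mul_inv_cancel_right] at this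
  have hx' : P.d1.Refl (s * x * s⁻¹) := by
    obtain ⟨c, hc, b, hb, rfl⟩ := P.decomp hs
    have e : c * b * x * (c * b)⁻¹ = c * x * c⁻¹ := by
      rw [show c * b * x * (c * b)⁻¹ = c * (b * x * b⁻¹) * c⁻¹ by group,
        ← (P.comm hx.1 hb).eq, mul_inv_cancel_right]
    rw [e]
    refine ⟨mul_mem (mul_mem hc hx.1) (inv_mem hc), fun hr => hx.2 ?_⟩
    by_cases hcr : c ∈ zpowers P.d1.r
    · simpa [mul_assoc] using mul_mem (mul_mem (inv_mem hcr) hr) hcr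
    · have h := P.d1.refl_conj ⟨inv_mem hc, fun h => hcr (by simpa using inv_mem h)⟩ hr
      rw [show c⁻¹ * (c * x * c⁻¹) * c⁻¹⁻¹ = x by group] at h
      exact h ▸ inv_mem hr
  refine le_antisymm ?_ (key hx hs)
  have := key hx' (s := s⁻¹) (inv_mem hs)
  rwa [show s⁻¹ * (s * x * s⁻¹) * s⁻¹⁻¹ = x by group] at this

theorem W_split [Finite G] (h1 : P.d2.k = 1) (hR1 : ∀ x, P.d1.Refl x → Cj x P.d1.z) {x w : G}
    (hx : P.d1.Refl x) (hw : w ∈ P.Zc) :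
    (w ∈ P.W x ∨ w * P.d1.z ∈ P.W x) ∧ P.d1.z ∉ P.W x := by
  obtain ⟨n0, hn0⟩ := exists_centre h1 hx (self_mem_E hx) (hR1 x hx)
  have hxz : x ≠ P.d1.z := fun e => hx.2 (e ▸ P.d1.z_rot)
  have hnz := not_fix h1 hx hn0 (q_tr h1 hx) hxz
  refine ⟨?_, fun h => hnz (by
    rw [((mem_W.1 h).2 _ _ (hR1 x hx) hn0).eq, mul_inv_cancel_right])⟩
  have hzE := Zc_le_E h1 (P.le1 hx.1) P.z_mem_Zc
  have key : ∀ {v : G}, v ∈ P.Zc → n0 * v * n0⁻¹ = v → v ∈ P.W x := by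
    intro v hv hfix
    have hvE := Zc_le_E h1 (P.le1 hx.1) hv
    refine mem_W.2 ⟨hvE, fun u n hu hn => ?_⟩
    have hvq : P.d1.q * v * P.d1.q⁻¹ = v := by
      rw [(Zc_comm h1 hv (P.le1 P.d1.q_mem)).eq, mul_inv_cancel_right]
    have hmap : (P.E x).map (MulAut.conj P.d1.q).toMonoidHom = P.E x := by
      refine le_antisymm ?_ fun w' hw' => ?_
      · rintro _ ⟨t, ht, rfl⟩
        exact (mem_normalizer_iff.1 (q_tr h1 hx).1 t).1 ht
      · exact ⟨P.d1.q⁻¹ * w' * P.d1.q,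
          by simpa using (mem_normalizer_iff.1 (inv_mem (q_tr h1 hx).1) w').1 hw',
          by simp [mul_assoc]⟩
    have goal : n * v * n⁻¹ = v := by
      rcases centres_cases h1 hx ⟨_, q_tr h1 hx⟩ ⟨n0, hn0⟩ ⟨n, hn⟩ (Ne.symm hxz) with e | e | e
      · subst e
        rw [same_centre h1 hx hn (q_tr h1 hx) v hvE, hvq]
      · subst e
        rw [same_centre h1 hx hn hn0 v hvE, hfix]
      · subst e
        have hm := hn0.map P.d1.q
        rw [hmap, P.d1.q_refl P.hk hx] at hm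
        rw [same_centre h1 hx hn hm v hvE]
        calc P.d1.q * n0 * P.d1.q⁻¹ * v * (P.d1.q * n0 * P.d1.q⁻¹)⁻¹
            = P.d1.q * n0 * P.d1.q⁻¹ * (P.d1.q * v * P.d1.q⁻¹) * (P.d1.q * n0 * P.d1.q⁻¹)⁻¹ := by
              rw [hvq]
          _ = P.d1.q * (n0 * v * n0⁻¹) * P.d1.q⁻¹ := by group
          _ = v := by rw [hfix, hvq]
    rw [mul_inv_eq_iff_eq_mul] at goal
    exact goal
  rcases hn0.2.1 w (Zc_le_E h1 (P.le1 hx.1) hw) with e | e
  · exact Or.inl (key hw e)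
  · refine Or.inr (key (mul_mem hw P.z_mem_Zc) ?_)
    rw [show n0 * (w * P.d1.z) * n0⁻¹ = (n0 * w * n0⁻¹) * (n0 * P.d1.z * n0⁻¹) by group, e,
      (hn0.2.1 P.d1.z hzE).resolve_left hnz, mul_assoc, ← mul_assoc x,
      (E_comm h1 hx hn0.mem hzE).eq, mul_assoc P.d1.z, E_sq h1 hx hn0.mem, mul_one]

theorem W_eq_of_le [Finite G] (h1 : P.d2.k = 1) (hR1 : ∀ x, P.d1.Refl x → Cj x P.d1.z)
    {x y : G} (hx : P.d1.Refl x) (hy : P.d1.Refl y) (h : P.W x ≤ P.W y) : P.W x = P.W y := by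
  refine le_antisymm h fun w hw => ?_
  obtain ⟨h', -⟩ := W_split h1 hR1 hx (W_le_Zc h1 hy hw)
  refine h'.resolve_right fun hz => (W_split h1 hR1 hy P.z_mem_Zc).2 ?_
  simpa using mul_mem (inv_mem hw) (h hz)

theorem noncentral_class [Finite G] (h2 : ∀ N : Subgroup G, N.Normal → N.index ≠ 2)
    (h1 : P.d2.k = 1) (hR1 : ∀ x, P.d1.Refl x → Cj x P.d1.z) {y : G}
    (hy : y ∈ (P.S : Subgroup G)) (hy2 : y * y = 1) (hyZ : y ∉ P.Zc) :
    ∃ c w0 x' w1, P.d1.Refl c ∧ P.d1.Refl x' ∧ w0 ∈ P.W c ∧ w1 ∈ P.W x' ∧ y = c * w0 ∧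
      Cj w0 w1 ∧ Cj y (P.d1.z * w1) := by
  obtain ⟨c0, hc0D, b0, hb0, rfl⟩ := P.decomp hy
  have hc0s := (P.sq_iff hc0D hb0 hy2).1
  have hc0 : P.d1.Refl c0 := by
    by_cases hc1 : c0 = 1
    · exact absurd (P.mem_Zc.2 ⟨c0, Or.inl hc1, b0, hb0, rfl⟩) hyZ
    rcases P.d1.cases_sq hc0D hc0s hc1 with h | h
    · exact absurd (P.mem_Zc.2 ⟨c0, Or.inr h, b0, hb0, rfl⟩) hyZ
    · exact h
  obtain ⟨g, x', hx', hgZ, hE⟩ := to_central h2 h1 hc0 hb0
  obtain ⟨hsplit, -⟩ := W_split h1 hR1 hc0 (P.D2_le_Zc hb0)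
  obtain ⟨c, w0, hc, hcE, hw0, hye⟩ : ∃ c w0, P.d1.Refl c ∧ c ∈ P.E c0 ∧ w0 ∈ P.W c0 ∧
      c0 * b0 = c * w0 ∧ P.E c = P.E c0 := by
    rcases hsplit with h | h
    · exact ⟨c0, b0, hc0, self_mem_E hc0, h, rfl, rfl⟩
    · refine ⟨c0 * P.d1.z, b0 * P.d1.z, P.d1.refl_z hc0,
        mul_mem (self_mem_E hc0) (Zc_le_E h1 (P.le1 hc0D) P.z_mem_Zc), h, ?_, ?_⟩
      · rw [(P.comm P.d1.z_mem hb0).symm.eq, mul_assoc, ← mul_assoc P.d1.z, P.d1.z_sq, one_mul]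
      · ext v
        refine and_congr_right fun hv => ?_
        show v ∈ centralizer _ ↔ v ∈ centralizer _
        rw [mem_centralizer_singleton, mem_centralizer_singleton]
        refine ⟨fun h' => ?_, fun h' => h'.mul_right (P.z1_central hv)⟩
        have := h'.mul_right (P.z1_central hv)
        rwa [mul_assoc, P.d1.z_sq, mul_one] at this
  obtain ⟨hye, hEc⟩ := hye
  have hWc : P.W c = P.W c0 := by rw [W, W, hEc]
  have hw1 : g * w0 * g⁻¹ ∈ P.W x' := W_map hE hw0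
  have hgc : g * c * g⁻¹ ∈ P.Zc := by
    have e : g * c * g⁻¹ = (g * (c0 * b0) * g⁻¹) * (g * w0 * g⁻¹)⁻¹ := by rw [hye]; group
    rw [e]
    exact mul_mem hgZ (inv_mem (W_le_Zc h1 hx' hw1))
  have hgcz : g * c * g⁻¹ = P.d1.z :=
    z1_alone h1 hgc (Cj.trans (Cj.symm ⟨g, rfl⟩) (hR1 c hc))
  refine ⟨c, w0, x', g * w0 * g⁻¹, hc, hx', hWc ▸ hw0, hw1, hye, ⟨g, rfl⟩, g, ?_⟩
  rw [hye, show g * (c * w0) * g⁻¹ = (g * c * g⁻¹) * (g * w0 * g⁻¹) by group, hgcz]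

/-- The normaliser of the Sylow subgroup moves the centre. -/
theorem exists_moving [Finite G] (h2 : ∀ N : Subgroup G, N.Normal → N.index ≠ 2) (h1 : P.d2.k = 1)
    (hR1 : ∀ x, P.d1.Refl x → Cj x P.d1.z) :
    ∃ n ∈ normalizer ((P.S : Subgroup G) : Set G), ∃ c ∈ P.Zc, n * c * n⁻¹ ≠ c := by
  by_contra hcon
  simp only [not_exists, not_and, not_not] at hcon
  have hfixed : ∀ {c c' : G}, c ∈ P.Zc → c' ∈ P.Zc → Cj c c' → c = c' := by
    rintro c c' hc hc' ⟨g, hg⟩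
    obtain ⟨n, hn, hne⟩ := P.burnside (P.Zc_le hc) (fun s hs => Zc_comm h1 hc hs)
      (fun s hs => Zc_comm h1 hc' hs) hg
    rw [← hne, hcon n hn c hc]
  set v := P.d2.a
  set M := P.D1 ⊔ zpowers P.d2.r with hM
  have hr2D := P.d2.rD
  have hMle : M ≤ (P.S : Subgroup G) := sup_le P.le1 (P.d2.zpowers_le.trans P.le2)
  have hmemM : ∀ {x : G}, x ∈ M ↔ ∃ d ∈ P.D1, ∃ e ∈ zpowers P.d2.r, x = d * e := by
    intro x
    refine ⟨fun hx => ?_, ?_⟩
    · rw [hM, ← SetLike.mem_coe, Subgroup.coe_mul_of_right_le_normalizer_left] at hx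
      · obtain ⟨c, hc, b, hb, rfl⟩ := Set.mem_mul.1 hx
        exact ⟨c, hc, b, hb, rfl⟩
      · exact fun b hb => Subgroup.centralizer_le_normalizer _ (Subgroup.mem_centralizer_iff.2
          fun c hc => P.comm hc (P.d2.zpowers_le hb))
    · rintro ⟨d, hd, e, he, rfl⟩
      exact mul_mem (Subgroup.mem_sup_left hd) (Subgroup.mem_sup_right he)
  have hkey : ∀ d ∈ P.D1, ∀ e ∈ P.D2, d * e ∈ M ↔ e ∈ zpowers P.d2.r := by
    intro d hd e he
    refine ⟨fun h => ?_, fun h => hmemM.2 ⟨d, hd, e, h, rfl⟩⟩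
    obtain ⟨d', hd', e', he', heq⟩ := hmemM.1 h
    rw [(P.uniq hd hd' he (P.d2.zpowers_le he') heq).2]
    exact he'
  have hidx : (M.subgroupOf (P.S : Subgroup G)).index = 2 := by
    rw [Subgroup.index_eq_two_iff]
    refine ⟨⟨v, P.le2 P.d2.aD⟩, fun x => ?_⟩
    obtain ⟨c, hc, b, hb, hxe⟩ := P.decomp x.2
    simp only [Subgroup.mem_subgroupOf, Subgroup.coe_mul]
    rw [hxe, mul_assoc, hkey _ hc _ (mul_mem hb P.d2.aD), hkey _ hc _ hb]
    by_cases h : b ∈ zpowers P.d2.r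
    · exact Or.inr ⟨h, fun h' => P.d2.anot (by simpa using mul_mem (inv_mem h) h')⟩
    · exact Or.inl ⟨P.d2.refl_mul_refl ⟨hb, h⟩ P.d2.refl_a, h⟩
  haveI : (M.subgroupOf (P.S : Subgroup G)).Normal := Subgroup.normal_of_index_eq_two hidx
  haveI := Fact.mk Nat.prime_two
  have hv2 : v * v = 1 := P.d2.a2
  have hv1 : v ≠ 1 := P.d2.refl_ne P.d2.refl_a
  have hvZ : v ∈ P.Zc := P.D2_le_Zc P.d2.aD
  have hvM : (⟨v, P.le2 P.d2.aD⟩ : (P.S : Subgroup G)) ∉ M.subgroupOf (P.S : Subgroup G) := by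
    intro h
    rw [Subgroup.mem_subgroupOf] at h
    have h' : (1 : G) * v ∈ M := by rw [one_mul]; exact h
    exact P.d2.anot ((hkey 1 P.D1.one_mem v P.d2.aD).1 h')
  obtain ⟨N, hN, hNi, -⟩ := TransferThompson.exists_normal_index P.S (M.subgroupOf _) hidx
    (orderOf_eq_prime (by rw [pow_two]; exact hv2) hv1) (P.le2 P.d2.aD) hvM fun g hg => by
      rw [Subgroup.mem_subgroupOf, Subgroup.coe_mul, Subgroup.coe_inv]
      change v⁻¹ * (g⁻¹ * v * g) ∈ M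
      set y := g⁻¹ * v * g with hy
      have hcj : Cj v y := ⟨g⁻¹, by rw [hy, inv_inv]⟩
      by_cases hyZ : y ∈ P.Zc
      · rw [← hfixed hvZ hyZ hcj, inv_mul_cancel]; exact one_mem _
      obtain ⟨c, w0, x', w1, hc, hx', hw0, hw1, hye, hw, hyw⟩ :=
        noncentral_class h2 h1 hR1 hg (hcj.sq hv2) hyZ
      have hw0Z := W_le_Zc h1 hc hw0
      have e1 := hfixed hw0Z (W_le_Zc h1 hx' hw1) hw
      have e2 := hfixed hvZ (mul_mem P.z_mem_Zc (W_le_Zc h1 hx' hw1)) (hcj.trans hyw)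
      rw [inv_of_sq hv2, e2, hye, ← e1, mul_assoc, ← mul_assoc w0,
        ← (Zc_comm h1 hw0Z (P.le1 hc.1)).eq, mul_assoc c, E_sq h1 hc (mem_W.1 hw0).1, mul_one]
      exact Subgroup.mem_sup_left (mul_mem P.d1.z_mem hc.1)
  exact h2 N hN hNi

theorem conj_refl_class [Finite G] (h1 : P.d2.k = 1) (hR1 : ∀ x, P.d1.Refl x → Cj x P.d1.z)
    {n x : G} (hn : n ∈ normalizer ((P.S : Subgroup G) : Set G)) (hx : P.d1.Refl x) :
    P.d1.Refl (n * x * n⁻¹) := by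
  refine ⟨class_four h1 hR1 ((mem_normalizer_iff.1 hn x).1 (P.le1 hx.1))
    (Cj.trans (Cj.symm ⟨n, rfl⟩) (hR1 x hx)), fun hr => ?_⟩
  have hs : n * x * n⁻¹ * (n * x * n⁻¹) = 1 := Cj.sq ⟨n, rfl⟩ (P.d1.refl_sq hx)
  have hz := P.d1.rot_sq hr hs (Cj.ne_one ⟨n, rfl⟩ (P.d1.refl_ne hx))
  -- `z₁` is the only such central involution
  have hn' : n⁻¹ ∈ normalizer ((P.S : Subgroup G) : Set G) := inv_mem hn
  have hc : n⁻¹ * P.d1.z * n⁻¹⁻¹ ∈ P.Zc := by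
    refine mem_Zc_of_central ((mem_normalizer_iff.1 hn' _).1 (P.le1 P.d1.z_mem)) fun s hs => ?_
    have hs' : n * s * n⁻¹ ∈ (P.S : Subgroup G) := (mem_normalizer_iff.1 hn s).1 hs
    have := (Commute.conj_iff n⁻¹).2 (P.z1_central hs')
    rwa [show n⁻¹ * (n * s * n⁻¹) * n⁻¹⁻¹ = s by group] at this
  have h := z1_alone h1 hc (Cj.symm ⟨n⁻¹, rfl⟩)
  rw [← hz, show n⁻¹ * (n * x * n⁻¹) * n⁻¹⁻¹ = x by group] at h
  rw [hz] at h
  exact hx.2 (h ▸ P.d1.z_rot)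

theorem W_image [Finite G] (h1 : P.d2.k = 1) (hR1 : ∀ x, P.d1.Refl x → Cj x P.d1.z)
    {n x : G} (hn : n ∈ normalizer ((P.S : Subgroup G) : Set G)) (hx : P.d1.Refl x) :
    (P.W x).map (MulAut.conj n).toMonoidHom = P.W (n * x * n⁻¹) := by
  have hx' := conj_refl_class h1 hR1 hn hx
  refine le_antisymm ?_ fun w hw => ?_
  · rintro _ ⟨w, hw, rfl⟩
    exact W_map (conj_E hn) hw
  · refine ⟨n⁻¹ * w * n⁻¹⁻¹, ?_, by simp [mul_assoc]⟩
    have := W_map (conj_E (x := n * x * n⁻¹) (inv_mem hn)) hw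
    rwa [show n⁻¹ * (n * x * n⁻¹) * n⁻¹⁻¹ = x by group] at this

theorem W_two (h1 : P.d2.k = 1) [Finite G] {x : G} (hx : P.d1.Refl x) :
    P.W x = P.W P.d1.a ∨ P.W x = P.W (P.d1.a * P.d1.r) := by
  obtain ⟨y, hy, h | h⟩ := P.d1.refl_class hx
  · left; rw [← h, W_conj h1 hx (P.le1 hy)]
  · right; rw [← h, W_conj h1 hx (P.le1 hy)]

theorem W_stable [Finite G] (h1 : P.d2.k = 1) (hR1 : ∀ x, P.d1.Refl x → Cj x P.d1.z)
    {n : G} (hn : n ∈ normalizer ((P.S : Subgroup G) : Set G)) :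
    (P.W P.d1.a).map (MulAut.conj n).toMonoidHom = P.W P.d1.a := by
  set A := P.W P.d1.a
  set B := P.W (P.d1.a * P.d1.r)
  set f : Subgroup G → Subgroup G := fun H => H.map (MulAut.conj n).toMonoidHom with hf
  have hAB : f A = A ∨ f A = B := by
    have := W_two h1 (conj_refl_class h1 hR1 hn P.d1.refl_a)
    rw [← W_image h1 hR1 hn P.d1.refl_a] at this
    exact this
  have hBB : f B = A ∨ f B = B := by
    have := W_two h1 (conj_refl_class h1 hR1 hn P.d1.refl_ar)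
    rw [← W_image h1 hR1 hn P.d1.refl_ar] at this
    exact this
  rcases hAB with h | h
  · exact h
  rcases hBB with h' | h'
  swap
  · have hinj : Function.Injective f := Subgroup.map_injective (MulAut.conj n).injective
    exact h.trans (hinj (h.trans h'.symm)).symm
  obtain ⟨q, ⟨l, hl⟩, hnq⟩ := P.exists_odd_pow hn
  have hcomp : ∀ (k : ℕ) (H : Subgroup G), f^[k] H = H.map (MulAut.conj (n ^ k)).toMonoidHom := by
    intro k
    induction k with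
    | zero => intro H; ext z; simp [Subgroup.mem_map]
    | succ k ih =>
      intro H
      rw [Function.iterate_succ_apply', ih, hf]
      ext z
      simp [Subgroup.mem_map, pow_succ', mul_assoc]
  have heven : ∀ k, f^[2 * k] A = A := by
    intro k
    induction k with
    | zero => rfl
    | succ k ih => rw [mul_add, mul_one, Function.iterate_succ_apply', Function.iterate_succ_apply',
        ih, h, h']
  have hfix : f^[q] A = A := by
    rw [hcomp]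
    refine le_antisymm ?_ fun w hw => ⟨w, hw, ?_⟩
    · rintro _ ⟨w, hw, rfl⟩
      show n ^ q * w * (n ^ q)⁻¹ ∈ A
      rw [(Zc_comm h1 (W_le_Zc h1 P.d1.refl_a hw) hnq).eq, mul_inv_cancel_right]; exact hw
    · show n ^ q * w * (n ^ q)⁻¹ = w
      rw [(Zc_comm h1 (W_le_Zc h1 P.d1.refl_a hw) hnq).eq, mul_inv_cancel_right]
  have hsucc : f^[2 * l + 1] A = f (f^[2 * l] A) := Function.iterate_succ_apply' f (2 * l) A
  rw [hl, hsucc, heven] at hfix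
  exact hfix

theorem W_const [Finite G] (h2 : ∀ N : Subgroup G, N.Normal → N.index ≠ 2) (h1 : P.d2.k = 1)
    (hR1 : ∀ x, P.d1.Refl x → Cj x P.d1.z) {x : G} (hx : P.d1.Refl x) :
    P.W x = P.W P.d1.a := by
  suffices hAB : P.W (P.d1.a * P.d1.r) = P.W P.d1.a by
    rcases W_two h1 hx with h | h
    · exact h
    · rw [h, hAB]
  by_contra hne
  set A := P.W P.d1.a with hA
  set B := P.W (P.d1.a * P.d1.r) with hB
  have hsplit : ∀ {b : G}, b ∈ P.D2 → (b ∈ A ∨ b * P.d1.z ∈ A) ∧ (b ∈ B ∨ b * P.d1.z ∈ B) :=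
    fun hb => ⟨(W_split h1 hR1 P.d1.refl_a (P.D2_le_Zc hb)).1,
      (W_split h1 hR1 P.d1.refl_ar (P.D2_le_Zc hb)).1⟩
  have hzA : P.d1.z ∉ A := (W_split h1 hR1 P.d1.refl_a P.z_mem_Zc).2
  obtain ⟨n, hn, c, hc, hmove⟩ := exists_moving h2 h1 hR1
  have hzfix : n * P.d1.z * n⁻¹ = P.d1.z := by
    refine z1_alone h1 (mem_Zc_of_central ((mem_normalizer_iff.1 hn _).1 (P.le1 P.d1.z_mem))
      fun s hs => ?_) (Cj.symm ⟨n, rfl⟩)
    have hs' : n⁻¹ * s * n ∈ (P.S : Subgroup G) := by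
      simpa using (mem_normalizer_iff.1 (inv_mem hn) s).1 hs
    have := (Commute.conj_iff n).2 (P.z1_central hs')
    rwa [show n * (n⁻¹ * s * n) * n⁻¹ = s by group] at this
  have hnA : ∀ {w}, w ∈ A → n * w * n⁻¹ ∈ A := fun hw =>
    (W_stable h1 hR1 hn).le ⟨_, hw, rfl⟩
  have hnB : ∀ {w}, w ∈ B → n * w * n⁻¹ ∈ B := by
    intro w hw
    have hmem : n * w * n⁻¹ ∈ P.W (n * (P.d1.a * P.d1.r) * n⁻¹) := W_map (conj_E hn) hw
    rcases W_two h1 (conj_refl_class h1 hR1 hn P.d1.refl_ar) with h | h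
    · exfalso
      refine hne ?_
      have h' : B.map (MulAut.conj n).toMonoidHom = A.map (MulAut.conj n).toMonoidHom := by
        rw [hB, W_image h1 hR1 hn P.d1.refl_ar, h]
        exact (W_stable h1 hR1 hn).symm
      exact Subgroup.map_injective (MulAut.conj n).injective h'
    · exact h.le hmem
  -- elements of `A`
  have hAel : ∀ {u v : G}, u ∈ A → v ∈ A → (∃ e, (e = 1 ∨ e = P.d1.z) ∧ u = P.d2.r * e) →
      (∃ e, (e = 1 ∨ e = P.d1.z) ∧ v = P.d2.a * e) → ∀ w ∈ A, w = 1 ∨ w = u ∨ w = v ∨ w = u * v := by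
    rintro u v hu hv ⟨e, he, hue⟩ ⟨e', he', hve⟩ w hw
    obtain ⟨d, hd, b, hb, hwe⟩ := P.mem_Zc.1 (W_le_Zc h1 P.d1.refl_a hw)
    have huniq : ∀ {t : G}, t ∈ A → (∃ d', (d' = 1 ∨ d' = P.d1.z) ∧ t = d' * b) → w = t := by
      rintro t ht ⟨d', hd', rfl⟩
      rw [hwe] at hw ⊢
      have hp : d * d'⁻¹ ∈ A := by simpa [mul_assoc] using mul_mem hw (inv_mem ht)
      rcases hd with rfl | rfl <;> rcases hd' with rfl | rfl
      · rfl
      · rw [one_mul, inv_of_sq P.d1.z_sq] at hp; exact absurd hp hzA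
      · rw [inv_one, mul_one] at hp; exact absurd hp hzA
      · rfl
    have hee : ∀ {t : G}, t = 1 ∨ t = P.d1.z → t ∈ P.D1 := fun h => by
      rcases h with rfl | rfl; exacts [one_mem _, P.d1.z_mem]
    have hmul : e * e' = 1 ∨ e * e' = P.d1.z := by
      rcases he with rfl | rfl <;> rcases he' with rfl | rfl <;> simp [P.d1.z_sq]
    by_cases hb1 : b ∈ zpowers P.d2.r
    · by_cases hb0 : b = 1
      · exact Or.inl (huniq (one_mem _) ⟨1, Or.inl rfl, by rw [hb0, mul_one]⟩)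
      · have hbr : b = P.d2.r := by
          rw [P.d2.rot_sq hb1 (P.d2.sq_of_k_one h1 hb) hb0, Dih.z, h1]; simp
        exact Or.inr (Or.inl (huniq hu ⟨e, he, by rw [hue, hbr, (P.comm (hee he) P.d2.rD).eq]⟩))
    · by_cases hb0 : b = P.d2.a
      · exact Or.inr (Or.inr (Or.inl (huniq hv
          ⟨e', he', by rw [hve, hb0, (P.comm (hee he') P.d2.aD).eq]⟩)))
      · have hab : P.d2.a * b = P.d2.r := by
          have hab1 : P.d2.a * b ∈ zpowers P.d2.r := P.d2.refl_mul_refl P.d2.refl_a ⟨hb, hb1⟩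
          rw [P.d2.rot_sq hab1 (P.d2.sq_of_k_one h1 (mul_mem P.d2.aD hb)) (fun h => hb0 (by
            rw [← inv_eq_of_mul_eq_one_right h, inv_of_sq P.d2.a2])), Dih.z, h1]
          simp
        refine Or.inr (Or.inr (Or.inr (huniq (mul_mem hu hv) ⟨e * e', hmul, ?_⟩)))
        rw [hue, hve, show b = P.d2.r * P.d2.a by
          rw [(P.d2.comm_of_k_one h1 P.d2.rD P.d2.aD).eq, ← hab, ← mul_assoc, P.d2.a2, one_mul]]
        calc P.d2.r * e * (P.d2.a * e') = (P.d2.r * P.d2.a) * (e * e') :=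
              (P.comm (hee he) P.d2.aD).mul_mul_mul_comm _ _
          _ = e * e' * (P.d2.r * P.d2.a) :=
              ((P.comm (mul_mem (hee he) (hee he')) (mul_mem P.d2.rD P.d2.aD)).eq).symm
  obtain ⟨u, hu, e, he, hue⟩ : ∃ u ∈ A, ∃ e, (e = 1 ∨ e = P.d1.z) ∧ u = P.d2.r * e :=
    (hsplit P.d2.rD).1.elim (fun h => ⟨_, h, 1, Or.inl rfl, (mul_one _).symm⟩)
      fun h => ⟨_, h, _, Or.inr rfl, rfl⟩
  obtain ⟨v, hv, e', he', hve⟩ : ∃ v ∈ A, ∃ e', (e' = 1 ∨ e' = P.d1.z) ∧ v = P.d2.a * e' :=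
    (hsplit P.d2.aD).1.elim (fun h => ⟨_, h, 1, Or.inl rfl, (mul_one _).symm⟩)
      fun h => ⟨_, h, _, Or.inr rfl, rfl⟩
  have hel := hAel hu hv ⟨e, he, hue⟩ ⟨e', he', hve⟩
  have hnle : ¬ (u ∈ B ∧ v ∈ B) := by
    rintro ⟨huB, hvB⟩
    refine hne (W_eq_of_le h1 hR1 P.d1.refl_a P.d1.refl_ar fun w hw => ?_).symm
    rcases hel w hw with h | h | h | h <;> rw [h]
    exacts [one_mem _, huB, hvB, mul_mem huB hvB]
  have hsome : u ∈ B ∨ v ∈ B ∨ u * v ∈ B := by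
    by_contra hno
    simp only [not_or] at hno
    have hu' : u * P.d1.z ∈ B := ((W_split h1 hR1 P.d1.refl_ar
      (W_le_Zc h1 P.d1.refl_a hu)).1).resolve_left hno.1
    have hv' : v * P.d1.z ∈ B := ((W_split h1 hR1 P.d1.refl_ar
      (W_le_Zc h1 P.d1.refl_a hv)).1).resolve_left hno.2.1
    refine hno.2.2 ?_
    have := mul_mem hu' hv'
    rwa [(P.z1_central (P.Zc_le (W_le_Zc h1 P.d1.refl_a hv))).symm.mul_mul_mul_comm,
      P.d1.z_sq, mul_one] at this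
  have huv : Commute u v := Zc_comm h1 (W_le_Zc h1 P.d1.refl_a hv) (P.Zc_le (W_le_Zc h1 P.d1.refl_a hu))
  have hu2 : u * u = 1 := E_sq h1 P.d1.refl_a (mem_W.1 hu).1
  have hv2 : v * v = 1 := E_sq h1 P.d1.refl_a (mem_W.1 hv).1
  have hu1 : u ≠ 1 := fun h => by
    rw [hue] at h
    have h' : P.d2.r = e⁻¹ := eq_inv_of_mul_eq_one_left h
    have : P.d2.r = 1 := P.inter (h' ▸ inv_mem (by rcases he with rfl | rfl; exacts [one_mem _, P.d1.z_mem])) P.d2.rD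
    have hord := P.d2.ord
    rw [this, orderOf_one, h1] at hord
    omega
  have hv1 : v ≠ 1 := fun h => by
    rw [hve] at h
    have h' : P.d2.a = e'⁻¹ := eq_inv_of_mul_eq_one_left h
    exact P.d2.refl_ne P.d2.refl_a
      (P.inter (h' ▸ inv_mem (by rcases he' with rfl | rfl; exacts [one_mem _, P.d1.z_mem])) P.d2.aD)
  -- a common element `p` and another `o` generate, and are fixed
  have fin : ∀ p o : G, p ∈ A → o ∈ A → p ∈ B → o ∉ B → p * p = 1 → p ≠ 1 →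
      (∀ w ∈ A, w = 1 ∨ w = p ∨ w = o ∨ w = p * o) → False := by
    intro p o hp ho hpB hoB hp2 hp1 hel'
    have hnp : n * p * n⁻¹ = p := by
      rcases hel' _ (hnA hp) with h | h | h | h
      · exact absurd (by simpa [mul_inv_eq_one] using h) hp1
      · exact h
      · exact absurd (h ▸ hnB hpB) hoB
      · exfalso
        refine hoB ?_
        have := mul_mem hpB (h ▸ hnB hpB)
        rwa [← mul_assoc, hp2, one_mul] at this
    have hno : n * o * n⁻¹ = o := by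
      refine P.fix_of_sq hn (fun s hs => Zc_comm h1 (W_le_Zc h1 P.d1.refl_a ho) hs) ?_
      rcases hel' _ (hnA ho) with h | h | h | h
      · exact absurd (by simpa [mul_inv_eq_one] using h : o = 1) fun e => hoB (e ▸ one_mem _)
      · exact absurd ((mul_left_cancel (mul_right_cancel (h.trans hnp.symm))) ▸ hpB) hoB
      · rw [pow_two, show n * n * o * (n * n)⁻¹ = n * (n * o * n⁻¹) * n⁻¹ by group, h, h]
      · rw [pow_two, show n * n * o * (n * n)⁻¹ = n * (n * o * n⁻¹) * n⁻¹ by group, h,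
          show n * (p * o) * n⁻¹ = (n * p * n⁻¹) * (n * o * n⁻¹) by group, h, hnp, ← mul_assoc,
          hp2, one_mul]
    refine hmove ?_
    have key : ∀ {w}, w ∈ A → n * w * n⁻¹ = w := by
      intro w hw
      rcases hel' w hw with h | h | h | h <;> rw [h]
      · rw [mul_one, mul_inv_cancel]
      · exact hnp
      · exact hno
      · rw [show n * (p * o) * n⁻¹ = (n * p * n⁻¹) * (n * o * n⁻¹) by group, hnp, hno]
    rcases (W_split h1 hR1 P.d1.refl_a hc).1 with h | h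
    · exact key h
    · have h' := key h
      rw [show n * (c * P.d1.z) * n⁻¹ = (n * c * n⁻¹) * (n * P.d1.z * n⁻¹) by group, hzfix] at h'
      exact mul_right_cancel h'
  rcases hsome with h | h | h
  · refine fin u v hu hv h (fun h' => hnle ⟨h, h'⟩) hu2 hu1 hel
  · refine fin v u hv hu h (fun h' => hnle ⟨h', h⟩) hv2 hv1 fun w hw => ?_
    rw [← huv.eq]
    rcases hel w hw with e | e | e | e <;> simp [e]
  · have huB : u ∉ B := fun h' => hnle ⟨h', by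
      have := mul_mem h' h
      rwa [← mul_assoc, hu2, one_mul] at this⟩
    have hpo : u * v * u = v := by rw [huv.eq, mul_assoc, hu2, mul_one]
    refine fin (u * v) u (mul_mem hu hv) hu h huB
      (by rw [huv.symm.mul_mul_mul_comm, hu2, hv2, one_mul]) (fun e0 => huB ?_) fun w hw => ?_
    · have heq : u = v := by rw [← inv_of_sq hv2]; exact eq_inv_of_mul_eq_one_left e0
      exfalso
      rw [hue, hve] at heq
      have hre := P.uniq (by rcases he with rfl | rfl; exacts [one_mem _, P.d1.z_mem])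
        (by rcases he' with rfl | rfl; exacts [one_mem _, P.d1.z_mem]) P.d2.rD P.d2.aD
        (a := e) (a' := e') (by
          rw [(P.comm (by rcases he with rfl | rfl; exacts [one_mem _, P.d1.z_mem]) P.d2.rD).eq,
            (P.comm (by rcases he' with rfl | rfl; exacts [one_mem _, P.d1.z_mem]) P.d2.aD).eq]
          exact heq)
      exact P.d2.anot (hre.2 ▸ mem_zpowers _)
    · rw [hpo]
      rcases hel w hw with e | e | e | e <;> simp [e]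

/-- **Product fusion, dihedral times four-group.** -/
theorem exists_product_fusion_four [Finite G] (h2 : ∀ N : Subgroup G, N.Normal → N.index ≠ 2)
    (P : Setup G) (h1 : P.d2.k = 1) :
    ∃ P' : Setup G, P'.S = P.S ∧ IsStronglyClosed P'.D1 (P.S : Subgroup G) ∧
      IsStronglyClosed P'.D2 (P.S : Subgroup G) := by
  obtain ⟨u, hu, huc, hu2, hua⟩ := exists_twist_val_four h2 h1 P.d1.refl_a
  obtain ⟨v, hv, hvc, hv2, hvb⟩ := exists_twist_val_four h2 h1 P.d1.refl_ar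
  obtain ⟨E1, e1, he1, hk1, hz1, hc1⟩ := P.exists_twist hu hv huc hvc hu2 hv2
  let Q : Setup G := ⟨P.S, E1, P.D2, he1, e1, P.d2, hk1 ▸ P.hk⟩
  have hR1 : ∀ x, Q.d1.Refl x → Cj x Q.d1.z := fun x hx => by
    obtain ⟨y, hy | hy⟩ := hc1 x hx
    · exact hz1.symm ▸ (Cj.trans ⟨y, hy⟩ hua)
    · exact hz1.symm ▸ (Cj.trans ⟨y, hy⟩ hvb)
  have hq1 : Q.d2.k = 1 := h1
  set W := Q.W Q.d1.a with hW
  have hWZ : W ≤ Q.Zc := fun w hw => W_le_Zc hq1 Q.d1.refl_a hw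
  obtain ⟨hsr, hzW⟩ := W_split hq1 hR1 Q.d1.refl_a (Q.D2_le_Zc Q.d2.rD)
  have hsa := (W_split hq1 hR1 Q.d1.refl_a (Q.D2_le_Zc Q.d2.aD)).1
  -- the decomposition
  have hdec : ∀ c ∈ Q.Zc, ∃ d ∈ Q.D1, ∃ w ∈ W, c = d * w := by
    intro c hc
    rcases (W_split hq1 hR1 Q.d1.refl_a hc).1 with h | h
    · exact ⟨1, one_mem _, c, h, (one_mul c).symm⟩
    · refine ⟨Q.d1.z, Q.d1.z_mem, _, h, ?_⟩
      rw [← mul_assoc, ← (Q.z1_central (Q.Zc_le hc)).eq, mul_assoc, Q.d1.z_sq, mul_one]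
  have hint : ∀ w ∈ W, w ∈ Q.D1 → w = 1 := by
    intro w hw hwD
    obtain ⟨c, hc, b, hb, rfl⟩ := Q.mem_Zc.1 (hWZ hw)
    have hcD : c ∈ Q.D1 := by rcases hc with rfl | rfl; exacts [one_mem _, Q.d1.z_mem]
    rw [Q.inter (by simpa using mul_mem (inv_mem hcD) hwD) hb, mul_one] at hw ⊢
    rcases hc with h | h
    · exact h
    · exact absurd (h ▸ hw) hzW
  have hprod : IsInternalDirectProduct Q.D1 W (Q.S : Subgroup G) := by
    refine ⟨Q.le1, fun w hw => Q.Zc_le (hWZ hw),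
      fun a ha b hb => (Zc_comm hq1 (hWZ hb) (Q.le1 ha)).eq,
      le_bot_iff.1 fun x hx => Subgroup.mem_bot.2 (hint x hx.2 hx.1),
      le_antisymm (sup_le Q.le1 fun w hw => Q.Zc_le (hWZ hw)) fun x hx => ?_⟩
    obtain ⟨a, ha, b, hb, rfl⟩ := Q.decomp hx
    obtain ⟨d, hd, w, hw, rfl⟩ := hdec b (Q.D2_le_Zc hb)
    rw [← mul_assoc]
    exact mul_mem (Subgroup.mem_sup_left (mul_mem ha hd)) (Subgroup.mem_sup_right hw)
  -- generators of `W`
  obtain ⟨r', hr', hr'e⟩ : ∃ r' ∈ W, ∃ e, (e = 1 ∨ e = Q.d1.z) ∧ r' = Q.d2.r * e :=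
    hsr.elim (fun h => ⟨_, h, 1, Or.inl rfl, (mul_one _).symm⟩) fun h => ⟨_, h, _, Or.inr rfl, rfl⟩
  obtain ⟨a', ha', ha'e⟩ : ∃ a' ∈ W, ∃ e, (e = 1 ∨ e = Q.d1.z) ∧ a' = Q.d2.a * e :=
    hsa.elim (fun h => ⟨_, h, 1, Or.inl rfl, (mul_one _).symm⟩) fun h => ⟨_, h, _, Or.inr rfl, rfl⟩
  obtain ⟨e, he, hre⟩ := hr'e
  obtain ⟨e', he', hae⟩ := ha'e
  have hD : ∀ {t : G}, t = 1 ∨ t = Q.d1.z → t ∈ Q.D1 := fun h => by
    rcases h with rfl | rfl; exacts [one_mem _, Q.d1.z_mem]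
  have hsqW : ∀ w ∈ W, w * w = 1 := fun w hw => E_sq hq1 Q.d1.refl_a (mem_W.1 hw).1
  have hr1 : r' ≠ 1 := fun h => by
    rw [hre] at h
    have h' : Q.d2.r = e⁻¹ := eq_inv_of_mul_eq_one_left h
    have h'' : Q.d2.r = 1 := Q.inter (h' ▸ inv_mem (hD he)) Q.d2.rD
    have hord := Q.d2.ord
    rw [h'', orderOf_one, hq1] at hord
    omega
  have hproj : ∀ x ∈ zpowers Q.d2.r, ∀ w ∈ W, (∃ d ∈ Q.D1, w = x * d) → w ∈ zpowers r' := by
    rintro x hx w hw ⟨d, hd, rfl⟩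
    by_cases hx1 : x = 1
    · rw [hx1, one_mul] at hw ⊢
      rw [hint d hw hd]; exact one_mem _
    · have hxr : x = Q.d2.r := by
        rw [Q.d2.rot_sq hx (Q.d2.sq_of_k_one hq1 (Q.d2.zpowers_le hx)) hx1, Dih.z, hq1]; simp
      have h' : r' * (x * d) ∈ Q.D1 := by
        rw [hre, hxr, (Q.comm (hD he) Q.d2.rD).mul_mul_mul_comm,
          Q.d2.sq_of_k_one hq1 Q.d2.rD, one_mul]
        exact mul_mem (hD he) hd
      have h'' : r' * (x * d) = 1 := hint _ (mul_mem hr' hw) h'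
      rw [← inv_eq_of_mul_eq_one_right h'']
      exact inv_mem (mem_zpowers _)
  let dW : Dih W :=
    { r := r'
      a := a'
      k := 1
      hk := le_rfl
      rD := hr'
      aD := ha'
      a2 := hsqW a' ha'
      conj := by
        rw [inv_of_sq (hsqW r' hr'),
          (Zc_comm hq1 (hWZ hr') (Q.Zc_le (hWZ ha'))).eq, mul_inv_cancel_right]
      ord := by
        haveI := Fact.mk Nat.prime_two
        rw [pow_one]
        exact orderOf_eq_prime (by rw [pow_two]; exact hsqW r' hr') hr1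
      cases := fun w hw => by
        obtain ⟨c, hc, b, hb, rfl⟩ := Q.mem_Zc.1 (hWZ hw)
        rcases Q.d2.cases b hb with h | h
        · exact Or.inl (hproj b h _ hw ⟨c, hD hc, (Q.comm (hD hc) hb).eq⟩)
        · refine Or.inr (hproj _ h _ (mul_mem ha' hw) ⟨e' * c, mul_mem (hD he') (hD hc), ?_⟩)
          rw [hae, (Q.comm (hD hc) hb).eq, (Q.comm (hD he') hb).mul_mul_mul_comm]
      anot := by
        rintro ⟨i, hi⟩
        rw [hre, hae] at hi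
        have hi' : (Q.d2.r * e) ^ i = Q.d2.a * e' := hi
        rw [(Q.comm (hD he) Q.d2.rD).symm.mul_zpow, ← (Q.comm (zpow_mem (hD he) i) (zpow_mem Q.d2.rD i)).eq,
          ← (Q.comm (hD he') Q.d2.aD).eq] at hi'
        exact Q.d2.anot ⟨i, (Q.uniq (zpow_mem (hD he) i) (hD he') (zpow_mem Q.d2.rD i) Q.d2.aD hi').2⟩ }
  refine ⟨⟨P.S, E1, W, hprod, e1, dW, hk1 ▸ P.hk⟩, rfl,
    Q.isStronglyClosed (fun x hx hxs hx1 => ?_) (fun x hxS hxc => class_four hq1 hR1 hxS hxc), ?_⟩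
  · rcases Q.d1.cases_sq hx hxs hx1 with rfl | h
    · exact Cj.refl _
    · exact hR1 _ h
  refine ⟨fun w hw => Q.Zc_le (hWZ hw), fun w hw g hg => ?_⟩
  show g * w * g⁻¹ ∈ W
  by_cases hw1 : w = 1
  · rw [hw1, mul_one, mul_inv_cancel]; exact one_mem _
  have hcj : Cj w (g * w * g⁻¹) := ⟨g, rfl⟩
  have burn : ∀ {y : G}, y ∈ Q.Zc → Cj w y → y ∈ W := by
    intro y hy h
    obtain ⟨g0, hg0⟩ := h
    obtain ⟨n, hn, hne⟩ := Q.burnside (Q.Zc_le (hWZ hw)) (fun s hs => Zc_comm hq1 (hWZ hw) hs)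
      (fun s hs => Zc_comm hq1 hy hs) hg0
    rw [← hne]
    exact (W_stable hq1 hR1 hn).le ⟨w, hw, rfl⟩
  by_cases hyZ : g * w * g⁻¹ ∈ Q.Zc
  · exact burn hyZ hcj
  exfalso
  obtain ⟨c, w0, x', w1, hc, hx', hw0, hw1', hye, hwc, hyw⟩ :=
    noncentral_class h2 hq1 hR1 hg (hcj.sq (hsqW w hw)) hyZ
  have hw1W : w1 ∈ W := (W_const h2 hq1 hR1 hx').le hw1'
  have h := burn (mul_mem Q.z_mem_Zc (hWZ hw1W)) (hcj.trans hyw)
  exact hzW (by simpa using mul_mem h (inv_mem hw1W))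

end Setup

end Cfsg.Agent.DihedralPair68
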