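import Cfsg.Agent.Lib.DihedralPair68Base
import Cfsg.Agent.Lib.TransferThompson

/-!
# Fusion with a Sylow 2-subgroup that is a product of two dihedral groups
-/

set_option autoImplicit false

namespace Cfsg.Agent.DihedralPair68

open Subgroup
open Cfsg.Agent.ProductFusion68 (inv_of_sq mem_normalizer_of_conj_mem exists_conj_le
  mem_centralizer_singleton)

variable {G : Type*} [Group G]

/-- Conjugacy. -/
def Cj (x y : G) : Prop := ∃ g : G, g * x * g⁻¹ = y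

theorem Cj.refl (x : G) : Cj x x := ⟨1, by simp⟩

theorem Cj.symm {x y : G} (h : Cj x y) : Cj y x := by
  obtain ⟨g, rfl⟩ := h
  exact ⟨g⁻¹, by group⟩

theorem Cj.trans {x y z : G} (h : Cj x y) (h' : Cj y z) : Cj x z := by
  obtain ⟨g, rfl⟩ := h
  obtain ⟨g', rfl⟩ := h'
  exact ⟨g' * g, by group⟩

theorem Cj.sq {x y : G} (h : Cj x y) (hx : x * x = 1) : y * y = 1 := by
  obtain ⟨g, rfl⟩ := h
  rw [show g * x * g⁻¹ * (g * x * g⁻¹) = g * (x * x) * g⁻¹ by group, hx, mul_one, mul_inv_cancel]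

theorem Cj.ne_one {x y : G} (h : Cj x y) (hx : x ≠ 1) : y ≠ 1 := by
  obtain ⟨g, rfl⟩ := h
  exact fun e => hx (by simpa [mul_inv_eq_one] using e)

namespace Setup

variable (P : Setup G)

/-- An element of the normaliser of the Sylow subgroup has an odd power inside it. -/
theorem exists_odd_pow [Finite G] {n : G} (hn : n ∈ normalizer ((P.S : Subgroup G) : Set G)) :
    ∃ q : ℕ, Odd q ∧ n ^ q ∈ (P.S : Subgroup G) := by
  haveI := Fact.mk Nat.prime_two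
  obtain ⟨s, q, hq, hord⟩ := Nat.exists_eq_two_pow_mul_odd (n := orderOf n) (orderOf_pos n).ne'
  refine ⟨q, hq, ?_⟩
  have hp : IsPGroup 2 (zpowers (n ^ q)) := by
    refine IsPGroup.of_card (n := s) ?_
    rw [Nat.card_zpowers, orderOf_pow' _ hq.pos.ne', hord, Nat.gcd_eq_right (Dvd.intro_left _ rfl),
      Nat.mul_div_cancel _ hq.pos]
  have hsup : IsPGroup 2 (zpowers (n ^ q) ⊔ (P.S : Subgroup G) : Subgroup G) :=
    IsPGroup.to_sup_of_normal_right' hp P.S.isPGroup' (Subgroup.zpowers_le.2 (pow_mem hn q))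
  have heq := P.S.is_maximal' hsup le_sup_right
  rw [← heq]
  exact Subgroup.mem_sup_left (mem_zpowers _)

/-- If the square of a normalising element fixes a central element, so does the element. -/
theorem fix_of_sq [Finite G] {n c : G} (hn : n ∈ normalizer ((P.S : Subgroup G) : Set G))
    (hc : ∀ s ∈ (P.S : Subgroup G), Commute s c) (h : n ^ 2 * c * (n ^ 2)⁻¹ = c) :
    n * c * n⁻¹ = c := by
  obtain ⟨q, ⟨l, hl⟩, hnq⟩ := P.exists_odd_pow hn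
  have h1 : Commute (n ^ q) c := hc _ hnq
  have h2 : Commute (n ^ 2) c := by
    rw [mul_inv_eq_iff_eq_mul] at h
    exact h
  have h3 : Commute n c := by
    have e2 : n = ((n ^ 2) ^ l)⁻¹ * n ^ q := by
      rw [hl, ← pow_mul, pow_succ, inv_mul_cancel_left]
    rw [e2]
    exact (h2.pow_left l).inv_left.mul_left h1
  rw [h3.eq, mul_inv_cancel_right]

/-- The group has no index two normal subgroup: Thompson transfer. -/
theorem exists_conj_mem [Finite G] (h2 : ∀ N : Subgroup G, N.Normal → N.index ≠ 2) {M : Subgroup G}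
    (hM : M ≤ (P.S : Subgroup G)) (hidx : M.relIndex (P.S : Subgroup G) = 2) {x : G}
    (hxS : x ∈ (P.S : Subgroup G)) (hx2 : x * x = 1) (hx1 : x ≠ 1) :
    ∃ y ∈ M, Cj x y := by
  by_contra hcon
  obtain ⟨N, hN, hNi, -⟩ := TransferThompson.thompson_transfer P.S M hM hidx
    (orderOf_eq_prime (by rw [pow_two, hx2]) hx1) hxS fun g hg => hcon ⟨_, hg, g, rfl⟩
  exact h2 N hN hNi

/-- Rotations of the first factor times the second factor. -/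
def rotPart : Subgroup G := zpowers P.d1.r ⊔ P.D2

theorem rotPart_le : P.rotPart ≤ (P.S : Subgroup G) :=
  sup_le (P.d1.zpowers_le.trans P.le1) P.le2

theorem mem_rotPart {x : G} : x ∈ P.rotPart ↔ ∃ c ∈ zpowers P.d1.r, ∃ b ∈ P.D2, x = c * b := by
  refine ⟨fun hx => ?_, ?_⟩
  · rw [rotPart, ← SetLike.mem_coe, Subgroup.coe_mul_of_right_le_normalizer_left] at hx
    · obtain ⟨c, hc, b, hb, rfl⟩ := Set.mem_mul.1 hx
      exact ⟨c, hc, b, hb, rfl⟩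
    · exact fun b hb => Subgroup.centralizer_le_normalizer _ (Subgroup.mem_centralizer_iff.2
        fun c hc => P.comm (P.d1.zpowers_le hc) hb)
  · rintro ⟨c, hc, b, hb, rfl⟩
    exact mul_mem (Subgroup.mem_sup_left hc) (Subgroup.mem_sup_right hb)

theorem rotPart_index : P.rotPart.relIndex (P.S : Subgroup G) = 2 := by
  rw [Subgroup.relIndex, Subgroup.index_eq_two_iff]
  refine ⟨⟨P.d1.a, P.le1 P.d1.aD⟩, fun x => ?_⟩
  obtain ⟨c, hc, b, hb, hxe⟩ := P.decomp x.2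
  have key : ∀ e ∈ P.D1, ∀ d ∈ P.D2, e * d ∈ P.rotPart ↔ e ∈ zpowers P.d1.r := by
    intro e he d hd
    refine ⟨fun h => ?_, fun h => P.mem_rotPart.2 ⟨e, h, d, hd, rfl⟩⟩
    obtain ⟨e', he', d', hd', heq⟩ := P.mem_rotPart.1 h
    rw [(P.uniq he (P.d1.zpowers_le he') hd hd' heq).1]
    exact he'
  simp only [Subgroup.mem_subgroupOf, Subgroup.coe_mul]
  rw [hxe, show c * b * P.d1.a = (c * P.d1.a) * b by
    rw [mul_assoc, ← (P.comm P.d1.aD hb).eq, mul_assoc], key _ (mul_mem hc P.d1.aD) _ hb,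
    key _ hc _ hb]
  by_cases h : c ∈ zpowers P.d1.r
  · exact Or.inr ⟨h, fun h' => P.d1.anot (by simpa using mul_mem (inv_mem h) h')⟩
  · exact Or.inl ⟨P.d1.refl_mul_refl ⟨hc, h⟩ P.d1.refl_a, h⟩

theorem z1_central {s : G} (hs : s ∈ (P.S : Subgroup G)) : Commute s P.d1.z := by
  obtain ⟨c, hc, b, hb, rfl⟩ := P.decomp hs
  exact (P.d1.z_comm hc).symm.mul_left (P.comm P.d1.z_mem hb).symm

theorem z2_central {s : G} (hs : s ∈ (P.S : Subgroup G)) : Commute s P.d2.z := by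
  obtain ⟨c, hc, b, hb, rfl⟩ := P.decomp hs
  exact (P.comm hc P.d2.z_mem).mul_left (P.d2.z_comm hb).symm

/-- **Strong closure from the involutions.** -/
theorem isStronglyClosed [Finite G]
    (hA : ∀ x ∈ P.D1, x * x = 1 → x ≠ 1 → Cj x P.d1.z)
    (hB : ∀ x ∈ (P.S : Subgroup G), Cj x P.d1.z → x ∈ P.D1) :
    IsStronglyClosed P.D1 (P.S : Subgroup G) := by
  refine ⟨P.le1, ?_⟩
  suffices h : ∀ (n : ℕ) (x : G), orderOf x = n → x ∈ P.D1 → ∀ g : G,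
      g * x * g⁻¹ ∈ (P.S : Subgroup G) → g * x * g⁻¹ ∈ P.D1 from fun x hx g => h _ x rfl hx g
  intro n
  induction n using Nat.strong_induction_on with
  | _ n ih =>
  intro x hn hx g hg
  by_cases hx1 : x = 1
  · rw [hx1, mul_one, mul_inv_cancel]; exact one_mem _
  by_cases hx2 : x * x = 1
  · exact hB _ hg (Cj.trans (Cj.symm ⟨g, rfl⟩) (hA x hx hx2 hx1))
  set y := g * x * g⁻¹ with hy
  have hxrot : x ∈ zpowers P.d1.r := by
    by_contra h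
    exact hx2 (P.d1.refl_sq ⟨hx, h⟩)
  have hysq : y * y ∈ P.D1 := by
    have hlt : orderOf (x * x) < n := by
      have h2 : 2 ∣ orderOf x := by
        have h3 : orderOf x ∣ 2 ^ P.d1.k := by
          rw [← P.d1.ord]
          exact orderOf_dvd_of_mem_zpowers hxrot
        obtain ⟨j, -, hj⟩ := (Nat.dvd_prime_pow Nat.prime_two).1 h3
        rcases Nat.eq_zero_or_pos j with h0 | h0
        · rw [h0, pow_zero] at hj
          exact absurd (orderOf_eq_one_iff.1 hj) hx1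
        · rw [hj]; exact dvd_pow_self 2 h0.ne'
      rw [← pow_two, orderOf_pow' _ two_ne_zero, Nat.gcd_eq_right h2, ← hn]
      exact Nat.div_lt_self (orderOf_pos x) one_lt_two
    have e : g * (x * x) * g⁻¹ = y * y := by rw [hy]; group
    rw [← e]
    exact ih _ hlt (x * x) rfl (mul_mem hx hx) g (e ▸ mul_mem hg hg)
  obtain ⟨y1, hy1, y2, hy2, hye⟩ := P.decomp hg
  have hy22 : y2 * y2 = 1 := by
    rw [hye, P.mul4 hy1 hy2] at hysq
    exact P.inter (by simpa [mul_assoc] using mul_mem (inv_mem (mul_mem hy1 hy1)) hysq) (mul_mem hy2 hy2)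
  have hy1rot : y1 ∈ zpowers P.d1.r := by
    by_contra h
    refine hx2 ?_
    have h1 : y * y = 1 := by
      rw [hye, P.mul4 hy1 hy2, hy22, P.d1.refl_sq ⟨hy1, h⟩, one_mul]
    have : g * (x * x) * g⁻¹ = 1 := by rw [← h1, hy]; group
    simpa [mul_inv_eq_one] using this
  have hnormy : ∀ c ∈ P.D1, c * y * c⁻¹ ∈ zpowers y := by
    intro c hc
    have e : c * y * c⁻¹ = (c * y1 * c⁻¹) * y2 := by
      rw [hye, show c * (y1 * y2) * c⁻¹ = (c * y1 * c⁻¹) * (c * y2 * c⁻¹) by group,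
        (P.comm hc hy2).eq, mul_inv_cancel_right]
    by_cases hcr : c ∈ zpowers P.d1.r
    · have hcy : c * y1 * c⁻¹ = y1 := by
        obtain ⟨i, rfl⟩ := hcr
        obtain ⟨j, rfl⟩ := hy1rot
        show P.d1.r ^ i * P.d1.r ^ j * (P.d1.r ^ i)⁻¹ = P.d1.r ^ j
        rw [← zpow_add, add_comm, zpow_add, mul_inv_cancel_right]
      rw [e, hcy, ← hye]; exact mem_zpowers _
    · have hcy := P.d1.refl_conj ⟨hc, hcr⟩ hy1rot
      rw [e, hcy, show y1⁻¹ * y2 = y⁻¹ by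
        rw [hye, mul_inv_rev, inv_of_sq hy22, (P.comm (inv_mem hy1) hy2).eq]]
      exact inv_mem (mem_zpowers _)
  set N := normalizer ((zpowers x : Subgroup G) : Set G) with hN
  have hSN : (P.S : Subgroup G) ≤ N := fun s hs => by
    refine mem_normalizer_of_conj_mem fun w hw => ?_
    obtain ⟨c, hc, b, hb, rfl⟩ := P.decomp hs
    have hwD : w ∈ P.D1 := Subgroup.zpowers_le.2 hx hw
    rw [show c * b * w * (c * b)⁻¹ = c * (b * w * b⁻¹) * c⁻¹ by group, ← (P.comm hwD hb).eq,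
      mul_inv_cancel_right]
    by_cases hcr : c ∈ zpowers P.d1.r
    · have hwr : w ∈ zpowers P.d1.r := Subgroup.zpowers_le.2 hxrot hw
      obtain ⟨i, rfl⟩ := hcr
      obtain ⟨j, rfl⟩ := hwr
      show P.d1.r ^ i * P.d1.r ^ j * (P.d1.r ^ i)⁻¹ ∈ zpowers x
      rw [← zpow_add, add_comm, zpow_add, mul_inv_cancel_right]
      exact hw
    · rw [P.d1.refl_conj ⟨hc, hcr⟩ (Subgroup.zpowers_le.2 hxrot hw)]
      exact inv_mem hw
  have hTN : P.D1.map (MulAut.conj g⁻¹).toMonoidHom ≤ N := by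
    rintro _ ⟨c, hc, rfl⟩
    refine mem_normalizer_of_conj_mem fun w hw => ?_
    obtain ⟨i, rfl⟩ := hw
    show g⁻¹ * c * g⁻¹⁻¹ * x ^ i * (g⁻¹ * c * g⁻¹⁻¹)⁻¹ ∈ zpowers x
    have hx' : g⁻¹ * c * g⁻¹⁻¹ * x * (g⁻¹ * c * g⁻¹⁻¹)⁻¹ ∈ zpowers x := by
      obtain ⟨l, hl⟩ := hnormy c hc
      refine ⟨l, ?_⟩
      have e : x = g⁻¹ * y * g⁻¹⁻¹ := by rw [hy]; group
      show x ^ l = _
      rw [e, conj_zpow, show y ^ l = c * y * c⁻¹ from hl]
      group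
    rw [← conj_zpow]
    exact zpow_mem hx' i
  obtain ⟨h, hh⟩ := exists_conj_le (P.S.subtype hSN) (IsPGroup.comap_subtype (K := N)
    (((P.S.isPGroup').to_le P.le1).map (MulAut.conj g⁻¹).toMonoidHom))
  set k := (h : G) * g⁻¹ with hk
  have hkS : ∀ c ∈ P.D1, k * c * k⁻¹ ∈ (P.S : Subgroup G) := by
    intro c hc
    have := hh ⟨g⁻¹ * c * g⁻¹⁻¹, hTN ⟨c, hc, rfl⟩⟩ ⟨c, hc, rfl⟩
    rw [Sylow.coe_subtype, Subgroup.mem_subgroupOf] at this
    simp only [Subgroup.coe_mul, Subgroup.coe_inv] at this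
    rw [hk, show (h : G) * g⁻¹ * c * ((h : G) * g⁻¹)⁻¹ = h * (g⁻¹ * c * g⁻¹⁻¹) * (h : G)⁻¹ by group]
    exact this
  have hrefl : ∀ c, P.d1.Refl c → k * c * k⁻¹ ∈ P.D1 := fun c hc =>
    hB _ (hkS c hc.1) (Cj.trans (Cj.symm ⟨k, rfl⟩) (hA c hc.1 (P.d1.refl_sq hc) (P.d1.refl_ne hc)))
  have hmap : P.D1.map (MulAut.conj k).toMonoidHom = P.D1 := by
    refine Subgroup.eq_of_le_of_card_ge ?_
      (Subgroup.card_map_of_injective (MulAut.conj k).injective).ge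
    rintro _ ⟨c, hc, rfl⟩
    show k * c * k⁻¹ ∈ P.D1
    by_cases hcr : c ∈ zpowers P.d1.r
    · have h1 := hrefl _ (P.d1.refl_mul P.d1.refl_a hcr)
      have h2 := hrefl _ P.d1.refl_a
      have := mul_mem h2 h1
      rwa [show k * P.d1.a * k⁻¹ * (k * (P.d1.a * c) * k⁻¹) = k * (P.d1.a * P.d1.a * c) * k⁻¹ by
        group, P.d1.a2, one_mul] at this
    · exact hrefl c ⟨hc, hcr⟩
  have hxk : k * y * k⁻¹ ∈ P.D1 := by
    have e : k * y * k⁻¹ = (h : G) * x * (h : G)⁻¹ := by rw [hk, hy]; group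
    rw [e]
    exact Subgroup.zpowers_le.2 hx ((mem_normalizer_iff.1 h.2 x).1 (mem_zpowers x))
  rw [← hmap] at hxk
  obtain ⟨c, hc, hce⟩ := hxk
  have e : k * c * k⁻¹ = k * y * k⁻¹ := hce
  rw [← mul_left_cancel (mul_right_cancel e)]
  exact hc

/-- Exchange the two factors. -/
def swap (hk2 : 2 ≤ P.d2.k) : Setup G where
  S := P.S
  D1 := P.D2
  D2 := P.D1
  hd := ⟨P.le2, P.le1, fun a ha b hb => (P.comm hb ha).eq.symm,
    by rw [inf_comm]; exact P.hd.2.2.2.1, by rw [sup_comm]; exact P.hd.2.2.2.2⟩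
  d1 := P.d2
  d2 := P.d1
  hk := hk2

/-! ## Both factors non-abelian -/

theorem central_cases (hk2 : 2 ≤ P.d2.k) {c : G} (hc : c ∈ (P.S : Subgroup G))
    (hcent : ∀ s ∈ (P.S : Subgroup G), Commute s c) :
    c = 1 ∨ c = P.d1.z ∨ c = P.d2.z ∨ c = P.d1.z * P.d2.z := by
  obtain ⟨a, ha, b, hb, rfl⟩ := P.decomp hc
  have h1 : ∀ w ∈ P.D1, Commute w a := fun w hw =>
    (P.commute_split hw ha P.D2.one_mem hb (by rw [mul_one]; exact hcent w (P.le1 hw))).1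
  have h2 : ∀ w ∈ P.D2, Commute w b := fun w hw =>
    (P.commute_split P.D1.one_mem ha hw hb (by rw [one_mul]; exact hcent w (P.le2 hw))).2
  rcases P.d1.center_cases P.hk ha h1 with rfl | rfl <;>
    rcases P.d2.center_cases hk2 hb h2 with rfl | rfl <;> simp

theorem z1_ne_z2 : P.d1.z ≠ P.d2.z := fun h =>
  P.d1.z_ne (P.inter P.d1.z_mem (h ▸ P.d2.z_mem))

theorem z12_ne : P.d1.z * P.d2.z ≠ P.d1.z ∧ P.d1.z * P.d2.z ≠ P.d2.z ∧
    P.d1.z * P.d2.z ≠ 1 := by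
  refine ⟨fun h => P.d2.z_ne (mul_eq_left.1 h), fun h => P.d1.z_ne (mul_eq_right.1 h), fun h => ?_⟩
  refine P.z1_ne_z2 ?_
  rw [← inv_of_sq P.d2.z_sq]
  exact eq_inv_of_mul_eq_one_left h

theorem not_cj_z1_z12 [Finite G] : ¬ Cj P.d1.z (P.d1.z * P.d2.z) := by
  rintro ⟨g, hg⟩
  obtain ⟨n, hn, hne⟩ := P.burnside (P.le1 P.d1.z_mem) (fun s hs => P.z1_central hs)
    (fun s hs => (P.z1_central hs).mul_right (P.z2_central hs)) hg
  have hq : ∀ s ∈ (P.S : Subgroup G), P.d1.q * s * P.d1.q⁻¹ * s⁻¹ = 1 ∨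
      P.d1.q * s * P.d1.q⁻¹ * s⁻¹ = P.d1.z := by
    intro s hs
    obtain ⟨c, hc, b, hb, rfl⟩ := P.decomp hs
    rw [show P.d1.q * (c * b) * P.d1.q⁻¹ * (c * b)⁻¹ =
      P.d1.q * c * P.d1.q⁻¹ * ((P.d1.q * b * P.d1.q⁻¹) * b⁻¹) * c⁻¹ by group,
      (P.comm P.d1.q_mem hb).eq, mul_inv_cancel_right, mul_inv_cancel, mul_one]
    by_cases hcr : c ∈ zpowers P.d1.r
    · left
      obtain ⟨i, rfl⟩ := hcr
      show P.d1.q * P.d1.r ^ i * P.d1.q⁻¹ * (P.d1.r ^ i)⁻¹ = 1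
      rw [Dih.q, ← zpow_natCast P.d1.r, ← zpow_add, add_comm, zpow_add, mul_inv_cancel_right,
        mul_inv_cancel]
    · exact Or.inr (P.d1.z_commutator P.hk ⟨hc, hcr⟩)
  have hxS : n * P.d1.q * n⁻¹ ∈ (P.S : Subgroup G) :=
    (mem_normalizer_iff.1 hn _).1 (P.le1 P.d1.q_mem)
  set x := n * P.d1.q * n⁻¹ with hx
  obtain ⟨x1, hx1, x2, hx2, hxe⟩ := P.decomp hxS
  have hcomm : ∀ s ∈ (P.S : Subgroup G), x * s * x⁻¹ * s⁻¹ = 1 ∨
      x * s * x⁻¹ * s⁻¹ = P.d1.z * P.d2.z := by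
    intro s hs
    have hs' : n⁻¹ * s * n ∈ (P.S : Subgroup G) := by
      simpa using (mem_normalizer_iff.1 (inv_mem hn) s).1 hs
    have e : x * s * x⁻¹ * s⁻¹ =
        n * (P.d1.q * (n⁻¹ * s * n) * P.d1.q⁻¹ * (n⁻¹ * s * n)⁻¹) * n⁻¹ := by rw [hx]; group
    rcases hq _ hs' with h | h
    · left; rw [e, h]; group
    · right; rw [e, h, hne]
  have h1 : ∀ w ∈ P.D1, Commute w x1 := by
    intro w hw
    have e : x * w * x⁻¹ * w⁻¹ = x1 * w * x1⁻¹ * w⁻¹ := by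
      rw [hxe, show x1 * x2 * w * (x1 * x2)⁻¹ * w⁻¹ = x1 * (x2 * w * x2⁻¹) * x1⁻¹ * w⁻¹ by group,
        ← (P.comm hw hx2).eq, mul_inv_cancel_right]
    rcases hcomm w (P.le1 hw) with h | h
    · rw [e, mul_inv_eq_one, mul_inv_eq_iff_eq_mul] at h
      exact h.symm
    · exfalso
      rw [e] at h
      refine P.d2.z_ne (P.inter ?_ P.d2.z_mem)
      have hmem : x1 * w * x1⁻¹ * w⁻¹ ∈ P.D1 :=
        mul_mem (mul_mem (mul_mem hx1 hw) (inv_mem hx1)) (inv_mem hw)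
      rw [h] at hmem
      simpa using mul_mem (inv_mem P.d1.z_mem) hmem
  have h2 : ∀ w ∈ P.D2, Commute w x2 := by
    intro w hw
    have e : x * w * x⁻¹ * w⁻¹ = x2 * w * x2⁻¹ * w⁻¹ := by
      rw [hxe, show x1 * x2 * w * (x1 * x2)⁻¹ * w⁻¹ = x1 * (x2 * w * x2⁻¹) * x1⁻¹ * w⁻¹ by group,
        (P.comm hx1 (mul_mem (mul_mem hx2 hw) (inv_mem hx2))).eq, mul_inv_cancel_right]
    rcases hcomm w (P.le2 hw) with h | h
    · rw [e, mul_inv_eq_one, mul_inv_eq_iff_eq_mul] at h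
      exact h.symm
    · exfalso
      rw [e] at h
      refine P.d1.z_ne (P.inter P.d1.z_mem ?_)
      have hmem : x2 * w * x2⁻¹ * w⁻¹ ∈ P.D2 :=
        mul_mem (mul_mem (mul_mem hx2 hw) (inv_mem hx2)) (inv_mem hw)
      rw [h] at hmem
      simpa using mul_mem hmem (inv_mem P.d2.z_mem)
  -- so `x`, hence `q`, is central, which it is not
  have hxc : ∀ s ∈ (P.S : Subgroup G), Commute s x := by
    intro s hs
    obtain ⟨c, hc, b, hb, rfl⟩ := P.decomp hs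
    rw [hxe]
    exact ((h1 c hc).mul_right (P.comm hc hx2)).mul_left ((P.comm hx1 hb).symm.mul_right (h2 b hb))
  have hqa : Commute P.d1.a P.d1.q := by
    refine (Commute.conj_iff n).1 ?_
    exact hxc _ ((mem_normalizer_iff.1 hn _).1 (P.le1 P.d1.aD))
  have h3 := P.d1.q_refl P.hk P.d1.refl_a
  rw [← hqa.eq, mul_inv_cancel_right] at h3
  exact P.d1.z_ne (mul_eq_left.1 h3.symm)

theorem not_cj_z2_z12 [Finite G] (hk2 : 2 ≤ P.d2.k) : ¬ Cj P.d2.z (P.d1.z * P.d2.z) := by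
  rw [(P.comm P.d1.z_mem P.d2.z_mem).eq]
  exact (P.swap hk2).not_cj_z1_z12

theorem not_cj_z1_z2 [Finite G] (hk2 : 2 ≤ P.d2.k) : ¬ Cj P.d1.z P.d2.z := by
  rintro ⟨g, hg⟩
  obtain ⟨n, hn, hne⟩ := P.burnside (P.le1 P.d1.z_mem) (fun s hs => P.z1_central hs)
    (fun s hs => P.z2_central hs) hg
  have hc : ∀ s ∈ (P.S : Subgroup G), Commute s (n * P.d2.z * n⁻¹) := by
    intro s hs
    have hs' : n⁻¹ * s * n ∈ (P.S : Subgroup G) := by
      simpa using (mem_normalizer_iff.1 (inv_mem hn) s).1 hs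
    have := (Commute.conj_iff n).2 (P.z2_central hs')
    rwa [show n * (n⁻¹ * s * n) * n⁻¹ = s by group] at this
  rcases P.central_cases hk2 ((mem_normalizer_iff.1 hn _).1 (P.le2 P.d2.z_mem)) hc with h | h | h | h
  · exact P.d2.z_ne (by simpa [mul_inv_eq_one] using h)
  · refine P.z1_ne_z2 ?_
    have h2 : n ^ 2 * P.d1.z * (n ^ 2)⁻¹ = P.d1.z := by
      rw [pow_two, show n * n * P.d1.z * (n * n)⁻¹ = n * (n * P.d1.z * n⁻¹) * n⁻¹ by group, hne, h]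
    rw [← hne, P.fix_of_sq hn (fun s hs => P.z1_central hs) h2]
  · exact P.z1_ne_z2 (mul_left_cancel (mul_right_cancel (hne.trans h.symm)))
  · exact P.not_cj_z2_z12 hk2 ⟨n, h⟩

/-- A commutator involution in the centraliser of an element with non-central first part. -/
theorem commutator_in_centralizer {u1 u2 s t : G} (hu1 : P.d1.Refl u1) (hu2 : u2 ∈ P.D2)
    (hs : s ∈ (P.S : Subgroup G)) (ht : t ∈ (P.S : Subgroup G)) (hsu : Commute s (u1 * u2))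
    (htu : Commute t (u1 * u2)) (h2 : (s * t * s⁻¹ * t⁻¹) * (s * t * s⁻¹ * t⁻¹) = 1)
    (h1 : s * t * s⁻¹ * t⁻¹ ≠ 1) : s * t * s⁻¹ * t⁻¹ = P.d2.z := by
  obtain ⟨s1, hs1, s2, hs2, rfl⟩ := P.decomp hs
  obtain ⟨t1, ht1, t2, ht2, rfl⟩ := P.decomp ht
  have hcomm : Commute s1 t1 := by
    have ea := P.d1.comm_refl hu1 hs1 (P.commute_split hs1 hu1.1 hs2 hu2 hsu).1.symm
    have eb := P.d1.comm_refl hu1 ht1 (P.commute_split ht1 hu1.1 ht2 hu2 htu).1.symm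
    have hz := (P.d1.z_comm hu1.1)
    rcases ea with rfl | rfl | rfl | rfl <;> rcases eb with rfl | rfl | rfl | rfl <;>
      first
        | exact Commute.one_left _
        | exact Commute.one_right _
        | exact Commute.refl _
        | exact hz
        | exact hz.symm
        | exact hz.mul_right (Commute.refl _)
        | exact (hz.mul_right (Commute.refl _)).symm
        | exact (Commute.refl _).mul_right hz.symm
        | exact ((Commute.refl _).mul_right hz.symm).symm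
  have e : s1 * s2 * (t1 * t2) * (s1 * s2)⁻¹ * (t1 * t2)⁻¹ = s2 * t2 * s2⁻¹ * t2⁻¹ := by
    rw [show s1 * s2 * (t1 * t2) * (s1 * s2)⁻¹ * (t1 * t2)⁻¹ =
      s1 * (s2 * t1 * s2⁻¹) * (s2 * t2 * s2⁻¹) * s1⁻¹ * t2⁻¹ * t1⁻¹ by group,
      ← (P.comm ht1 hs2).eq, mul_inv_cancel_right,
      show s1 * t1 * (s2 * t2 * s2⁻¹) * s1⁻¹ * t2⁻¹ * t1⁻¹ =
        s1 * t1 * ((s2 * t2 * s2⁻¹) * s1⁻¹) * t2⁻¹ * t1⁻¹ by group,
      ← (P.comm (inv_mem hs1) (mul_mem (mul_mem hs2 ht2) (inv_mem hs2))).eq,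
      show s1 * t1 * (s1⁻¹ * (s2 * t2 * s2⁻¹)) * t2⁻¹ * t1⁻¹ =
        (s1 * t1 * s1⁻¹) * ((s2 * t2 * s2⁻¹ * t2⁻¹) * t1⁻¹) by group,
      ← (P.comm (inv_mem ht1) (mul_mem (mul_mem (mul_mem hs2 ht2) (inv_mem hs2)) (inv_mem ht2))).eq,
      hcomm.eq, mul_inv_cancel_right, mul_inv_cancel_left]
  rw [e] at h1 h2 ⊢
  exact P.d2.rot_sq (P.d2.commutator_rot hs2 ht2) h2 h1

theorem commutator_components {s t : G} (hs : s ∈ (P.S : Subgroup G)) (ht : t ∈ (P.S : Subgroup G))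
    (h2 : (s * t * s⁻¹ * t⁻¹) * (s * t * s⁻¹ * t⁻¹) = 1) :
    ∀ w ∈ (P.S : Subgroup G), Commute w (s * t * s⁻¹ * t⁻¹) := by
  obtain ⟨s1, hs1, s2, hs2, rfl⟩ := P.decomp hs
  obtain ⟨t1, ht1, t2, ht2, rfl⟩ := P.decomp ht
  have hm1 : s1 * t1 * s1⁻¹ * t1⁻¹ ∈ P.D1 :=
    mul_mem (mul_mem (mul_mem hs1 ht1) (inv_mem hs1)) (inv_mem ht1)
  have hm2 : s2 * t2 * s2⁻¹ * t2⁻¹ ∈ P.D2 :=
    mul_mem (mul_mem (mul_mem hs2 ht2) (inv_mem hs2)) (inv_mem ht2)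
  have e : s1 * s2 * (t1 * t2) * (s1 * s2)⁻¹ * (t1 * t2)⁻¹ =
      (s1 * t1 * s1⁻¹ * t1⁻¹) * (s2 * t2 * s2⁻¹ * t2⁻¹) := by
    rw [show s1 * s2 * (t1 * t2) * (s1 * s2)⁻¹ * (t1 * t2)⁻¹ =
      s1 * (s2 * t1 * s2⁻¹) * (s2 * t2 * s2⁻¹) * s1⁻¹ * t2⁻¹ * t1⁻¹ by group,
      ← (P.comm ht1 hs2).eq, mul_inv_cancel_right,
      show s1 * t1 * (s2 * t2 * s2⁻¹) * s1⁻¹ * t2⁻¹ * t1⁻¹ =
        s1 * t1 * ((s2 * t2 * s2⁻¹) * s1⁻¹) * t2⁻¹ * t1⁻¹ by group,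
      ← (P.comm (inv_mem hs1) (mul_mem (mul_mem hs2 ht2) (inv_mem hs2))).eq,
      show s1 * t1 * (s1⁻¹ * (s2 * t2 * s2⁻¹)) * t2⁻¹ * t1⁻¹ =
        (s1 * t1 * s1⁻¹) * ((s2 * t2 * s2⁻¹ * t2⁻¹) * t1⁻¹) by group,
      ← (P.comm (inv_mem ht1) hm2).eq, ← mul_assoc]
  rw [e] at h2 ⊢
  obtain ⟨h21, h22⟩ := P.sq_iff hm1 hm2 h2
  intro w hw
  refine Commute.mul_right ?_ ?_
  · by_cases h : s1 * t1 * s1⁻¹ * t1⁻¹ = 1
    · rw [h]; exact Commute.one_right _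
    · rw [P.d1.rot_sq (P.d1.commutator_rot hs1 ht1) h21 h]; exact P.z1_central hw
  · by_cases h : s2 * t2 * s2⁻¹ * t2⁻¹ = 1
    · rw [h]; exact Commute.one_right _
    · rw [P.d2.rot_sq (P.d2.commutator_rot hs2 ht2) h22 h]; exact P.z2_central hw

/-- A conjugation into the Sylow subgroup of elements with commutator `z₂` fixes `z₂`. -/
theorem image_z2 [Finite G] (hk2 : 2 ≤ P.d2.k) {g : G}
    (hq : g * P.d2.q * g⁻¹ ∈ (P.S : Subgroup G)) (ha : g * P.d2.a * g⁻¹ ∈ (P.S : Subgroup G)) :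
    g * P.d2.z * g⁻¹ = P.d2.z := by
  have e : g * P.d2.z * g⁻¹ = (g * P.d2.q * g⁻¹) * (g * P.d2.a * g⁻¹) * (g * P.d2.q * g⁻¹)⁻¹ *
      (g * P.d2.a * g⁻¹)⁻¹ := by
    rw [← P.d2.z_commutator hk2 P.d2.refl_a]; group
  have hcj : Cj P.d2.z (g * P.d2.z * g⁻¹) := ⟨g, rfl⟩
  have hS : g * P.d2.z * g⁻¹ ∈ (P.S : Subgroup G) := by
    rw [e]; exact mul_mem (mul_mem (mul_mem hq ha) (inv_mem hq)) (inv_mem ha)
  have hcent : ∀ w ∈ (P.S : Subgroup G), Commute w (g * P.d2.z * g⁻¹) := by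
    rw [e]
    exact P.commutator_components hq ha (by rw [← e]; exact hcj.sq P.d2.z_sq)
  rcases P.central_cases hk2 hS hcent with h | h | h | h
  · exact absurd h (hcj.ne_one P.d2.z_ne)
  · exact absurd (h ▸ hcj).symm (P.not_cj_z1_z2 hk2)
  · exact h
  · exact absurd (h ▸ hcj) (P.not_cj_z2_z12 hk2)

/-- Every reflection is conjugate to a central involution other than `z₂`, fixing `z₂`. -/
theorem refl_to_central [Finite G] (h2 : ∀ N : Subgroup G, N.Normal → N.index ≠ 2)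
    (hk2 : 2 ≤ P.d2.k) {a : G} (ha : P.d1.Refl a) :
    ∃ g, g * P.d2.z * g⁻¹ = P.d2.z ∧
      (g * a * g⁻¹ = P.d1.z ∨ g * a * g⁻¹ = P.d1.z * P.d2.z) := by
  have ha2 := P.d1.refl_sq ha
  obtain ⟨u, huS, hau, hext⟩ := P.exists_extremal a ha2
  obtain ⟨y, hy, hay⟩ :=
    P.exists_conj_mem h2 P.rotPart_le P.rotPart_index (P.le1 ha.1) ha2 (P.d1.refl_ne ha)
  obtain ⟨c, hc, b, hb, rfl⟩ := P.mem_rotPart.1 hy
  have hcD := P.d1.zpowers_le hc
  have hys := hay.sq ha2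
  have hc2 := (P.sq_iff hcD hb hys).1
  obtain ⟨y0, hy0⟩ := hay.symm
  -- elements centralising `y` with commutator `z₁`
  have hqy : Commute P.d1.q (c * b) := by
    refine Commute.mul_right ?_ (P.comm P.d1.q_mem hb)
    obtain ⟨i, rfl⟩ := hc
    rw [Dih.q]
    exact ((Commute.refl _).pow_left _).zpow_right i
  have hay' : Commute P.d1.a (c * b) := by
    refine Commute.mul_right ?_ (P.comm P.d1.aD hb)
    have h := P.d1.refl_conj P.d1.refl_a hc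
    rw [inv_of_sq hc2, mul_inv_eq_iff_eq_mul] at h
    exact h
  set T1 := (P.S : Subgroup G) ⊓ centralizer ({a} : Set G) with hT1
  set T2 := ((P.S : Subgroup G) ⊓ centralizer ({c * b} : Set G)).map
    (MulAut.conj y0).toMonoidHom with hT2
  obtain ⟨g, hg, hgS⟩ := hext T1 (P.S.isPGroup'.to_le inf_le_left) inf_le_right
  obtain ⟨h, hh, hhS⟩ := hext T2 ((P.S.isPGroup'.to_le inf_le_left).map _) (by
    rintro _ ⟨t, ht, rfl⟩
    refine mem_centralizer_singleton.2 ?_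
    rw [← hy0]
    exact (Commute.conj_iff y0).2 (mem_centralizer_singleton.1 ht.2))
  have hT1' : ∀ w ∈ P.D2, w ∈ T1 := fun w hw =>
    ⟨P.le2 hw, mem_centralizer_singleton.2 (P.comm ha.1 hw).symm⟩
  have hz2g := P.image_z2 hk2 (hgS _ (hT1' _ P.d2.q_mem)) (hgS _ (hT1' _ P.d2.aD))
  obtain ⟨u1, hu1, u2, hu2, hue⟩ := P.decomp huS
  have hus : u * u = 1 := by
    rw [← hg]
    exact (Cj.sq ⟨g, rfl⟩ ha2)
  rw [hue] at hus
  obtain ⟨hu1s, hu2s⟩ := P.sq_iff hu1 hu2 hus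
  -- the first part is central
  have hu1c : u1 = 1 ∨ u1 = P.d1.z := by
    by_cases h1 : u1 = 1
    · exact Or.inl h1
    rcases P.d1.cases_sq hu1 hu1s h1 with h' | h'
    · exact Or.inr h'
    exfalso
    set k := h * y0 with hkdef
    have hmem : ∀ t, t ∈ (P.S : Subgroup G) → Commute t (c * b) →
        k * t * k⁻¹ ∈ (P.S : Subgroup G) ∧ Commute (k * t * k⁻¹) (u1 * u2) := by
      intro t ht htc
      have e : k * t * k⁻¹ = h * (y0 * t * y0⁻¹) * h⁻¹ := by rw [hkdef]; group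
      refine ⟨?_, ?_⟩
      · rw [e]; exact hhS _ ⟨t, ⟨ht, mem_centralizer_singleton.2 htc⟩, rfl⟩
      · rw [e, ← hue, ← hh, ← hy0]
        exact (Commute.conj_iff h).2 ((Commute.conj_iff y0).2 htc)
    obtain ⟨hs, hsu⟩ := hmem _ (P.le1 P.d1.q_mem) hqy
    obtain ⟨ht, htu⟩ := hmem _ (P.le1 P.d1.aD) hay'
    have e : k * P.d1.z * k⁻¹ = (k * P.d1.q * k⁻¹) * (k * P.d1.a * k⁻¹) * (k * P.d1.q * k⁻¹)⁻¹ *
        (k * P.d1.a * k⁻¹)⁻¹ := by
      rw [← P.d1.z_commutator P.hk P.d1.refl_a]; group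
    have hcj : Cj P.d1.z (k * P.d1.z * k⁻¹) := ⟨k, rfl⟩
    have := P.commutator_in_centralizer h' hu2 hs ht hsu htu
      (by rw [← e]; exact hcj.sq P.d1.z_sq) (by rw [← e]; exact hcj.ne_one P.d1.z_ne)
    rw [← e] at this
    exact P.not_cj_z1_z2 hk2 (this ▸ hcj)
  have hu2c : u2 = 1 ∨ u2 = P.d2.z := by
    by_cases h1 : u2 = 1
    · exact Or.inl h1
    rcases P.d2.cases_sq hu2 hu2s h1 with h' | h'
    · exact Or.inr h'
    exfalso
    have hmem : ∀ w ∈ P.D2, Commute (g * w * g⁻¹) (u2 * u1) := by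
      intro w hw
      rw [← (P.comm hu1 hu2).eq, ← hue, ← hg]
      exact (Commute.conj_iff g).2 (P.comm ha.1 hw).symm
    have e : g * P.d2.z * g⁻¹ = (g * P.d2.q * g⁻¹) * (g * P.d2.a * g⁻¹) * (g * P.d2.q * g⁻¹)⁻¹ *
        (g * P.d2.a * g⁻¹)⁻¹ := by
      rw [← P.d2.z_commutator hk2 P.d2.refl_a]; group
    have hcj : Cj P.d2.z (g * P.d2.z * g⁻¹) := ⟨g, rfl⟩
    have := (P.swap hk2).commutator_in_centralizer h' hu1 (hgS _ (hT1' _ P.d2.q_mem))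
      (hgS _ (hT1' _ P.d2.aD)) (hmem _ P.d2.q_mem) (hmem _ P.d2.aD)
      (by rw [← e]; exact hcj.sq P.d2.z_sq) (by rw [← e]; exact hcj.ne_one P.d2.z_ne)
    rw [← e, hz2g] at this
    exact P.z1_ne_z2 this.symm
  refine ⟨g, hz2g, ?_⟩
  rw [hg, hue]
  rcases hu1c with rfl | rfl <;> rcases hu2c with rfl | rfl
  · exfalso
    rw [hue, one_mul] at hg
    exact P.d1.refl_ne ha (by simpa [mul_inv_eq_one] using hg)
  · exfalso
    rw [hue, one_mul, ← hz2g] at hg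
    have := mul_left_cancel (mul_right_cancel hg)
    exact P.d1.refl_ne ha (P.inter ha.1 (this ▸ P.d2.z_mem))
  · exact Or.inl (mul_one _)
  · exact Or.inr rfl

theorem exists_twist_val [Finite G] (h2 : ∀ N : Subgroup G, N.Normal → N.index ≠ 2)
    (hk2 : 2 ≤ P.d2.k) {a : G} (ha : P.d1.Refl a) :
    ∃ u ∈ P.D2, (∀ b ∈ P.D2, Commute b u) ∧ u * u = 1 ∧ Cj (a * u) P.d1.z := by
  obtain ⟨g, hgz, hg⟩ := P.refl_to_central h2 hk2 ha
  rcases hg with h | h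
  · exact ⟨1, one_mem _, fun b _ => Commute.one_right b, one_mul 1, g, by rw [mul_one]; exact h⟩
  · refine ⟨P.d2.z, P.d2.z_mem, fun b hb => (P.d2.z_comm hb).symm, P.d2.z_sq, g, ?_⟩
    rw [show g * (a * P.d2.z) * g⁻¹ = (g * a * g⁻¹) * (g * P.d2.z * g⁻¹) by group, h, hgz,
      mul_assoc, P.d2.z_sq, mul_one]

theorem refl_z2 [Finite G] (hk2 : 2 ≤ P.d2.k) {x : G} (hx : P.d1.Refl x) (hxc : Cj x P.d1.z) :
    Cj (x * P.d2.z) (P.d1.z * P.d2.z) := by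
  obtain ⟨g0, hg0⟩ := hxc
  obtain ⟨g, hg, hgS⟩ := P.exists_to_central (fun s hs => P.z1_central hs) hg0
    (T := (P.S : Subgroup G) ⊓ centralizer ({x} : Set G)) (P.S.isPGroup'.to_le inf_le_left)
    inf_le_right
  have hT : ∀ w ∈ P.D2, w ∈ (P.S : Subgroup G) ⊓ centralizer ({x} : Set G) := fun w hw =>
    ⟨P.le2 hw, mem_centralizer_singleton.2 (P.comm hx.1 hw).symm⟩
  refine ⟨g, ?_⟩
  rw [show g * (x * P.d2.z) * g⁻¹ = (g * x * g⁻¹) * (g * P.d2.z * g⁻¹) by group, hg,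
    P.image_z2 hk2 (hgS _ (hT _ P.d2.q_mem)) (hgS _ (hT _ P.d2.aD))]

/-- The classes of the involutions with a central part. -/
theorem nonmixed [Finite G] (hk2 : 2 ≤ P.d2.k) (hR1 : ∀ x, P.d1.Refl x → Cj x P.d1.z)
    (hR2 : ∀ x, P.d2.Refl x → Cj x P.d2.z) {x1 x2 : G} (hx1 : x1 ∈ P.D1) (hx2 : x2 ∈ P.D2)
    (hs1 : x1 * x1 = 1) (hs2 : x2 * x2 = 1) (hne : x1 * x2 ≠ 1)
    (hmix : ¬ (P.d1.Refl x1 ∧ P.d2.Refl x2)) :
    (x2 = 1 ∧ Cj (x1 * x2) P.d1.z) ∨ (x1 = 1 ∧ Cj (x1 * x2) P.d2.z) ∨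
      Cj (x1 * x2) (P.d1.z * P.d2.z) := by
  by_cases h1 : x1 = 1
  · subst h1
    rw [one_mul] at hne ⊢
    refine Or.inr (Or.inl ⟨rfl, ?_⟩)
    rcases P.d2.cases_sq hx2 hs2 hne with rfl | h
    · exact Cj.refl _
    · exact hR2 _ h
  by_cases h2 : x2 = 1
  · subst h2
    rw [mul_one]
    refine Or.inl ⟨rfl, ?_⟩
    rcases P.d1.cases_sq hx1 hs1 h1 with rfl | h
    · exact Cj.refl _
    · exact hR1 _ h
  right; right
  rcases P.d1.cases_sq hx1 hs1 h1 with rfl | h <;> rcases P.d2.cases_sq hx2 hs2 h2 with rfl | h'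
  · exact Cj.refl _
  · rw [(P.comm P.d1.z_mem h'.1).eq, (P.comm P.d1.z_mem P.d2.z_mem).eq]
    exact (P.swap hk2).refl_z2 P.hk h' (hR2 _ h')
  · exact P.refl_z2 hk2 h (hR1 _ h)
  · exact absurd ⟨h, h'⟩ hmix

theorem class_z1 [Finite G] (hk2 : 2 ≤ P.d2.k) (hR1 : ∀ x, P.d1.Refl x → Cj x P.d1.z)
    (hR2 : ∀ x, P.d2.Refl x → Cj x P.d2.z) {x : G} (hxS : x ∈ (P.S : Subgroup G))
    (hx : Cj x P.d1.z) : x ∈ P.D1 := by
  have hxs : x * x = 1 := hx.symm.sq P.d1.z_sq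
  have hx0 : x ≠ 1 := hx.symm.ne_one P.d1.z_ne
  obtain ⟨x1, hx1, x2, hx2, rfl⟩ := P.decomp hxS
  obtain ⟨hs1, hs2⟩ := P.sq_iff hx1 hx2 hxs
  by_cases hmix : P.d1.Refl x1 ∧ P.d2.Refl x2
  swap
  · rcases P.nonmixed hk2 hR1 hR2 hx1 hx2 hs1 hs2 hx0 hmix with ⟨h, -⟩ | ⟨-, h⟩ | h
    · rw [h, mul_one]; exact hx1
    · exact absurd (hx.symm.trans h) (P.not_cj_z1_z2 hk2)
    · exact absurd (hx.symm.trans h) P.not_cj_z1_z12
  exfalso
  obtain ⟨g0, hg0⟩ := hx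
  obtain ⟨g, hg, hgS⟩ := P.exists_to_central (fun s hs => P.z1_central hs) hg0
    (T := (P.S : Subgroup G) ⊓ centralizer ({x1 * x2} : Set G)) (P.S.isPGroup'.to_le inf_le_left)
    inf_le_right
  have hf : g * x2 * g⁻¹ ∈ (P.S : Subgroup G) := hgS _ ⟨P.le2 hx2, mem_centralizer_singleton.2
    ((P.comm hx1 hx2).symm.mul_right (Commute.refl x2))⟩
  set f := g * x2 * g⁻¹ with hfdef
  have hfz2 : Cj f P.d2.z := Cj.trans (Cj.symm ⟨g, rfl⟩) (hR2 _ hmix.2)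
  have hzf : Cj (P.d1.z * f) P.d1.z := by
    refine Cj.trans (Cj.symm ⟨g, ?_⟩) (hR1 _ hmix.1)
    rw [hfdef, ← hg, show g * (x1 * x2) * g⁻¹ * (g * x2 * g⁻¹) = g * (x1 * (x2 * x2)) * g⁻¹ by
      group, hs2, mul_one]
  obtain ⟨f1, hf1, f2, hf2, hfe⟩ := P.decomp hf
  have hfs : (f1 * f2) * (f1 * f2) = 1 := by rw [← hfe]; exact hfz2.symm.sq P.d2.z_sq
  obtain ⟨hfs1, hfs2⟩ := P.sq_iff hf1 hf2 hfs
  rw [hfe] at hzf hfz2
  by_cases hmix' : P.d1.Refl f1 ∧ P.d2.Refl f2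
  · refine P.not_cj_z1_z2 hk2 ((hzf.symm.trans ?_).trans hfz2)
    refine Cj.symm ⟨P.d1.q, ?_⟩
    rw [show P.d1.q * (f1 * f2) * P.d1.q⁻¹ = (P.d1.q * f1 * P.d1.q⁻¹) * (P.d1.q * f2 * P.d1.q⁻¹) by
      group, P.d1.q_refl P.hk hmix'.1, (P.comm P.d1.q_mem hf2).eq, mul_inv_cancel_right,
      ← (P.d1.z_comm hf1).eq, mul_assoc]
  have hf0 : f1 * f2 ≠ 1 := hfz2.symm.ne_one P.d2.z_ne
  rcases P.nonmixed hk2 hR1 hR2 hf1 hf2 hfs1 hfs2 hf0 hmix' with ⟨-, h⟩ | ⟨h, -⟩ | h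
  · exact P.not_cj_z1_z2 hk2 (h.symm.trans hfz2)
  · subst h
    rw [one_mul] at hzf hf0
    have hz12 : Cj (P.d1.z * f2) (P.d1.z * P.d2.z) := by
      rcases P.nonmixed hk2 hR1 hR2 P.d1.z_mem hf2 P.d1.z_sq hfs2
        (fun h => hf0 (P.inter (by
          rw [← inv_eq_of_mul_eq_one_right h]; exact inv_mem P.d1.z_mem) hf2))
        (fun h => h.1.2 P.d1.z_rot) with ⟨h, -⟩ | ⟨h, -⟩ | h
      · exact absurd h hf0
      · exact absurd h P.d1.z_ne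
      · exact h
    exact P.not_cj_z1_z12 (hzf.symm.trans hz12)
  · exact P.not_cj_z2_z12 hk2 (hfz2.symm.trans h)

theorem stronglyClosed_of_classes [Finite G] (hk2 : 2 ≤ P.d2.k)
    (hR1 : ∀ x, P.d1.Refl x → Cj x P.d1.z) (hR2 : ∀ x, P.d2.Refl x → Cj x P.d2.z) :
    IsStronglyClosed P.D1 (P.S : Subgroup G) ∧ IsStronglyClosed P.D2 (P.S : Subgroup G) := by
  refine ⟨P.isStronglyClosed (fun x hx hxs hx1 => ?_) (fun x hxS hxc => P.class_z1 hk2 hR1 hR2 hxS hxc),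
    (P.swap hk2).isStronglyClosed (fun x hx hxs hx1 => ?_)
      (fun x hxS hxc => (P.swap hk2).class_z1 P.hk hR2 hR1 hxS hxc)⟩
  · rcases P.d1.cases_sq hx hxs hx1 with rfl | h
    · exact Cj.refl _
    · exact hR1 _ h
  · rcases P.d2.cases_sq hx hxs hx1 with rfl | h
    · exact Cj.refl _
    · exact hR2 _ h

/-- **Product fusion, both factors non-abelian.** -/
theorem exists_product_fusion [Finite G] (h2 : ∀ N : Subgroup G, N.Normal → N.index ≠ 2)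
    (hk2 : 2 ≤ P.d2.k) :
    ∃ P' : Setup G, P'.S = P.S ∧ IsStronglyClosed P'.D1 (P.S : Subgroup G) ∧
      IsStronglyClosed P'.D2 (P.S : Subgroup G) := by
  obtain ⟨u, hu, huc, hu2, hua⟩ := P.exists_twist_val h2 hk2 P.d1.refl_a
  obtain ⟨v, hv, hvc, hv2, hvb⟩ := P.exists_twist_val h2 hk2 P.d1.refl_ar
  obtain ⟨E1, e1, he1, hk1, hz1, hc1⟩ := P.exists_twist hu hv huc hvc hu2 hv2
  let P1 : Setup G := ⟨P.S, E1, P.D2, he1, e1, P.d2, hk1 ▸ P.hk⟩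
  have hR1 : ∀ x, e1.Refl x → Cj x e1.z := fun x hx => by
    obtain ⟨y, hy | hy⟩ := hc1 x hx
    · exact hz1.symm ▸ (Cj.trans ⟨y, hy⟩ hua)
    · exact hz1.symm ▸ (Cj.trans ⟨y, hy⟩ hvb)
  let Q := P1.swap hk2
  obtain ⟨u', hu', huc', hu2', hua'⟩ := Q.exists_twist_val h2 P1.hk Q.d1.refl_a
  obtain ⟨v', hv', hvc', hv2', hvb'⟩ := Q.exists_twist_val h2 P1.hk Q.d1.refl_ar
  obtain ⟨E2, e2, he2, hk2', hz2, hc2⟩ := Q.exists_twist hu' hv' huc' hvc' hu2' hv2'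
  let P2 : Setup G := ⟨P.S, E2, E1, he2, e2, e1, hk2'.symm ▸ hk2⟩
  have hR2 : ∀ x, e2.Refl x → Cj x e2.z := fun x hx => by
    obtain ⟨y, hy | hy⟩ := hc2 x hx
    · exact hz2.symm ▸ (Cj.trans ⟨y, hy⟩ hua')
    · exact hz2.symm ▸ (Cj.trans ⟨y, hy⟩ hvb')
  exact ⟨P2, rfl, P2.stronglyClosed_of_classes P1.hk hR2 hR1⟩

end Setup

end Cfsg.Agent.DihedralPair68
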