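import Mathlib

/-!
Glauberman's chain for an element conjugating a subgroup of index two of a finite 2-group `P`
into `P` when no nontrivial subgroup of `P` is normalised by `P` and by that element: `P` has
generators `a, a^g, a^(g^2), ...` and its structure is governed by the first two of them which do
not commute.
-/

set_option autoImplicit false

namespace Cfsg.Agent.IndexTwoChain

open Subgroup

variable {G : Type*} [Group G]

/-- `g ^ i * x * (g ^ i)⁻¹`. -/
def cj (g : G) (i : ℕ) (x : G) : G := g ^ i * x * (g ^ i)⁻¹

theorem cj_cj (g : G) (i j : ℕ) (x : G) : cj g i (cj g j x) = cj g (i + j) x := by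
  simp only [cj, pow_add]; group

theorem cj_mul (g : G) (i : ℕ) (x y : G) : cj g i (x * y) = cj g i x * cj g i y := by
  simp only [cj]; group

theorem cj_zero (g x : G) : cj g 0 x = x := by simp [cj]

theorem cj_succ (g : G) (i : ℕ) (x : G) : cj g (i + 1) x = g * cj g i x * g⁻¹ := by
  simp only [cj, pow_succ']; group

theorem cj_inj {g : G} {i : ℕ} {x y : G} (h : cj g i x = cj g i y) : x = y := by
  simpa [cj] using h

theorem cj_eq_conj (g : G) (i : ℕ) (x : G) : cj g i x = MulAut.conj (g ^ i) x := by
  simp only [cj, MulAut.conj_apply]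

/-- The elements staying in `P` under the first `k + 1` powers of `g`. -/
def core (P : Subgroup G) (g : G) (k : ℕ) : Subgroup G where
  carrier := {x | ∀ i ≤ k, cj g i x ∈ P}
  one_mem' := fun i _ => by simp [cj, one_mem]
  mul_mem' := fun {x y} hx hy i hi => by rw [cj_mul]; exact mul_mem (hx i hi) (hy i hi)
  inv_mem' := fun {x} hx i hi => by
    have := inv_mem (hx i hi)
    simpa [cj, mul_assoc] using this

/-- `i`-th translate of the window spanned by `a, a^g, ...` of length `l`. -/
def window (g a : G) (i l : ℕ) : Subgroup G :=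
  Subgroup.closure ((fun j => cj g (i + j) a) '' Set.Iio l)

/-- The chain. -/
structure Chain (P : Subgroup G) (g a : G) (s : ℕ) : Prop where
  top : window g a 0 s = P
  card : ∀ l ≤ s, Nat.card ↥(window g a 0 l) = 2 ^ l

section Core

variable {P : Subgroup G} {g : G}

theorem core_le (k : ℕ) : core P g k ≤ P := fun x hx => by
  have h := hx 0 (Nat.zero_le _); rwa [cj_zero] at h

theorem core_anti {j k : ℕ} (h : j ≤ k) : core P g k ≤ core P g j :=
  fun _ hx i hi => hx i (hi.trans h)

theorem core_zero : core P g 0 = P :=
  le_antisymm (core_le 0) fun x hx i hi => by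
    rw [Nat.le_zero.1 hi, cj_zero]; exact hx

theorem core_succ_mem {k : ℕ} {x : G} (hx : x ∈ core P g k) :
    x ∈ core P g (k + 1) ↔ cj g (k + 1) x ∈ P :=
  ⟨fun h => h _ le_rfl, fun h i hi => (Nat.of_le_succ hi).elim (hx i) fun he => by rw [he]; exact h⟩

theorem mul_mem_core (hidx : (core P g 1).relIndex P = 2) {k : ℕ} {x y : G} (hx : x ∈ core P g k)
    (hy : y ∈ core P g k) (hx' : x ∉ core P g (k + 1)) (hy' : y ∉ core P g (k + 1)) :
    x * y ∈ core P g (k + 1) := by
  rw [core_succ_mem hx] at hx'
  rw [core_succ_mem hy] at hy'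
  rw [core_succ_mem (mul_mem hx hy)]
  have hkey : ∀ z, z ∈ core P g k → (cj g k z ∈ core P g 1 ↔ cj g (k + 1) z ∈ P) := by
    intro z hz
    constructor
    · intro h
      have := h 1 le_rfl
      rwa [cj_cj, Nat.add_comm] at this
    · intro h i hi
      interval_cases i
      · rw [cj_zero]; exact hz k le_rfl
      · rw [cj_cj, Nat.add_comm]; exact h
  rw [← hkey _ (mul_mem hx hy), cj_mul]
  have h2 : ((core P g 1).subgroupOf P).index = 2 := hidx
  have := mul_mem_iff_of_index_two h2 (a := ⟨cj g k x, hx k le_rfl⟩) (b := ⟨cj g k y, hy k le_rfl⟩)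
  simp only [Subgroup.mem_subgroupOf, Subgroup.coe_mul] at this
  exact this.2 ⟨fun h => absurd ((hkey x hx).1 h) hx', fun h => absurd ((hkey y hy).1 h) hy'⟩

theorem card_core_succ (hidx : (core P g 1).relIndex P = 2) {k : ℕ}
    {x : G} (hx : x ∈ core P g k) (hx' : x ∉ core P g (k + 1)) :
    Nat.card ↥(core P g k) = 2 * Nat.card ↥(core P g (k + 1)) := by
  have h2 : ((core P g (k + 1)).subgroupOf (core P g k)).index = 2 := by
    rw [index_eq_two_iff]
    refine ⟨⟨x, hx⟩, fun b => ?_⟩
    simp only [Subgroup.mem_subgroupOf, Subgroup.coe_mul]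
    rw [xor_iff_not_iff]
    intro hiff
    by_cases hb : (b : G) ∈ core P g (k + 1)
    · exact hx' (by simpa using mul_mem (inv_mem hb) (hiff.2 hb))
    · exact hb (hiff.1 (mul_mem_core hidx b.2 hx hb hx'))
  rw [← card_mul_index ((core P g (k + 1)).subgroupOf (core P g k)), h2,
    Nat.card_congr (subgroupOfEquivOfLe (core_anti (Nat.le_succ k))).toEquiv, mul_comm]

theorem sup_core (hidx : (core P g 1).relIndex P = 2) {k : ℕ}
    {x : G} (hx : x ∈ core P g k) (hx' : x ∉ core P g (k + 1)) :
    core P g k ≤ Subgroup.zpowers x ⊔ core P g (k + 1) := by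
  intro y hy
  by_cases hy' : y ∈ core P g (k + 1)
  · exact mem_sup_right hy'
  · have h := mul_mem_core hidx hx hy hx' hy'
    have := mul_mem (mem_sup_left (T := core P g (k + 1)) (inv_mem (mem_zpowers x))) (mem_sup_right h)
    simpa using this

/-- Glauberman's chain. -/
theorem exists_chain [Finite G] (hidx : (core P g 1).relIndex P = 2)
    (hN : ∀ N : Subgroup G, N ≤ P → P ≤ normalizer (N : Set G) → (∀ x ∈ N, g * x * g⁻¹ ∈ N) → N = ⊥) :
    ∃ (s : ℕ) (a : G), Chain P g a s ∧ 2 ≤ 2 ^ s ∧ a * a = 1 := by
  have hex : ∃ k, core P g k = core P g (k + 1) := by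
    by_contra hne
    push_neg at hne
    have hlt : ∀ k, Nat.card ↥(core P g k) + k ≤ Nat.card ↥(core P g 0) := by
      intro k
      induction k with
      | zero => simp
      | succ k ih =>
        have h1 : core P g (k + 1) < core P g k := lt_of_le_of_ne (core_anti (Nat.le_succ k)) (hne k).symm
        obtain ⟨x, hx, hx'⟩ := SetLike.exists_of_lt h1
        have h2 := card_core_succ hidx hx hx'
        have h3 : 0 < Nat.card ↥(core P g (k + 1)) := Nat.card_pos
        omega
    have h4 := hlt (Nat.card ↥(core P g 0))
    have h5 : 0 < Nat.card ↥(core P g (Nat.card ↥(core P g 0))) := Nat.card_pos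
    omega
  classical
  set s := Nat.find hex with hs
  have hstab : core P g s = core P g (s + 1) := Nat.find_spec hex
  have hmin : ∀ k < s, core P g k ≠ core P g (k + 1) := fun k hk => Nat.find_min hex hk
  set K := core P g s with hK
  have hgK : ∀ x ∈ K, g * x * g⁻¹ ∈ K := by
    intro x hx i hi
    have hx2 : x ∈ core P g (s + 1) := hstab ▸ hx
    have := hx2 (i + 1) (by omega)
    have e : cj g (i + 1) x = cj g i (g * x * g⁻¹) := by
      simp only [cj, pow_succ]; group
    rwa [e] at this
  have hs0 : 0 < s := by
    by_contra h0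
    have h1 : core P g 0 = core P g 1 := by
      have hz : s = 0 := Nat.le_zero.1 (not_lt.1 h0)
      have := hstab
      rw [hK, hz] at this
      exact this
    rw [core_zero] at h1
    rw [← h1, relIndex_self] at hidx
    omega
  obtain ⟨a, ha, ha'⟩ : ∃ a, a ∈ core P g (s - 1) ∧ a ∉ core P g (s - 1 + 1) := by
    have h1 : core P g (s - 1 + 1) < core P g (s - 1) :=
      lt_of_le_of_ne (core_anti (Nat.le_succ _)) (hmin _ (by omega)).symm
    exact SetLike.exists_of_lt h1
  have hs1 : s - 1 + 1 = s := by omega
  rw [hs1] at ha'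
  have hgen : ∀ i < s, cj g i a ∈ core P g (s - 1 - i) ∧ cj g i a ∉ core P g (s - i) := by
    intro i hi
    refine ⟨fun j hj => ?_, fun hmem => ha' fun j hj => ?_⟩
    · rw [cj_cj]; exact ha _ (by omega)
    · by_cases hji : j < i
      · exact ha j (by omega)
      · have := hmem (j - i) (by omega)
        rwa [cj_cj, Nat.sub_add_cancel (not_lt.1 hji)] at this
  have hN' : ∀ j ≤ s, core P g (s - j) ≤ normalizer (K : Set G) := by
    intro j hj
    induction j with
    | zero => exact Subgroup.le_normalizer
    | succ j ih =>
      obtain ⟨h1, h2⟩ := hgen j (by omega)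
      have e : s - 1 - j + 1 = s - j := by omega
      rw [← e] at h2
      have h3 := sup_core hidx h1 h2
      rw [e] at h3
      rw [show s - (j + 1) = s - 1 - j by omega]
      refine h3.trans (sup_le ?_ (ih (by omega)))
      rw [zpowers_le]
      have haK : a ∈ normalizer (K : Set G) := by
        refine mem_normalizer_fintype fun x hx => ?_
        have hax : a * x * a⁻¹ ∈ core P g (s - 1) := mul_mem (mul_mem ha (core_anti (by omega) hx))
          (inv_mem ha)
        by_contra hxK
        have hmul : a * x * a⁻¹ * a ∈ core P g (s - 1 + 1) :=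
          mul_mem_core hidx hax ha (by rw [hs1]; exact hxK) (by rw [hs1]; exact ha')
        rw [hs1, inv_mul_cancel_right] at hmul
        exact ha' (by simpa using mul_mem hmul (inv_mem hx))
      refine mem_normalizer_fintype fun x hx => ?_
      have hback : ∀ m : ℕ, ∀ z ∈ K, (g ^ m) * z * (g ^ m)⁻¹ ∈ K := by
        intro m
        induction m with
        | zero => simp
        | succ m ihm =>
          intro z hz
          have := hgK _ (ihm z hz)
          simpa [pow_succ', mul_assoc] using this
      have hx' : (g ^ j)⁻¹ * x * g ^ j ∈ K := by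
        have h5 := hback ((orderOf g - 1) * j) x hx
        have h6 : g ^ ((orderOf g - 1) * j) = (g ^ j)⁻¹ := by
          rw [eq_inv_iff_mul_eq_one, ← pow_add, ← Nat.succ_mul,
            show (orderOf g - 1).succ = orderOf g by have := orderOf_pos g; omega, pow_mul,
            pow_orderOf_eq_one, one_pow]
        rwa [h6, inv_inv] at h5
      have := hback j _ ((mem_normalizer_iff.1 haK _).1 hx')
      simpa [cj, mul_assoc] using this
  have hbot : K = ⊥ := by
    refine hN K (core_le s) ?_ hgK
    have := hN' s le_rfl
    rwa [Nat.sub_self, core_zero] at this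
  have hcard : ∀ l ≤ s, Nat.card ↥(core P g (s - l)) = 2 ^ l := by
    intro l hl
    induction l with
    | zero => rw [Nat.sub_zero, ← hK, hbot, card_bot, pow_zero]
    | succ l ih =>
      obtain ⟨h1, h2⟩ := hgen l (by omega)
      have e : s - 1 - l + 1 = s - l := by omega
      rw [← e] at h2
      have h3 := card_core_succ hidx h1 h2
      rw [e, ih (by omega)] at h3
      rw [show s - (l + 1) = s - 1 - l by omega, h3, pow_succ']
  have hwin : ∀ l ≤ s, window g a 0 l = core P g (s - l) := by
    intro l hl
    induction l with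
    | zero =>
      rw [Nat.sub_zero, ← hK, hbot, window]
      simp
    | succ l ih =>
      obtain ⟨h1, h2⟩ := hgen l (by omega)
      have e : s - 1 - l + 1 = s - l := by omega
      rw [← e] at h2
      have h3 := sup_core hidx h1 h2
      rw [e] at h3
      rw [show s - (l + 1) = s - 1 - l by omega]
      refine le_antisymm ?_ (h3.trans (sup_le ?_ ?_))
      · rw [window, closure_le]
        rintro _ ⟨j, hj, rfl⟩
        simp only [Set.mem_Iio] at hj
        simp only [Nat.zero_add]
        exact core_anti (by omega) (hgen j (by omega)).1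
      · rw [zpowers_le]
        exact Subgroup.subset_closure ⟨l, Nat.lt_succ_self l, by simp⟩
      · rw [← ih (by omega)]
        exact Subgroup.closure_mono (Set.image_mono fun j (hj : j < l) => (Nat.lt_succ_of_lt hj :))
  refine ⟨s, a, ⟨by rw [hwin s le_rfl, Nat.sub_self, core_zero], fun l hl => ?_⟩, ?_, ?_⟩
  · rw [hwin l hl]; exact hcard l hl
  · calc (2 : ℕ) = 2 ^ 1 := rfl
      _ ≤ 2 ^ s := Nat.pow_le_pow_right (by norm_num) hs0
  · have h1 := mul_mem_core hidx ha ha (by rw [hs1]; exact ha') (by rw [hs1]; exact ha')
    rw [hs1, ← hK, hbot, mem_bot] at h1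
    exact h1

end Core

namespace Chain

variable {P : Subgroup G} {g a : G} {s : ℕ}

theorem gen_mem (g a : G) {i l j : ℕ} (h1 : i ≤ j) (h2 : j < i + l) : cj g j a ∈ window g a i l :=
  Subgroup.subset_closure ⟨j - i, Set.mem_Iio.2 (by omega), by simp only []; rw [Nat.add_sub_cancel' h1]⟩

theorem window_le {X : Subgroup G} {i l : ℕ} (h : ∀ j, i ≤ j → j < i + l → cj g j a ∈ X) :
    window g a i l ≤ X := by
  rw [window, closure_le]
  rintro _ ⟨j, hj, rfl⟩
  simp only [Set.mem_Iio] at hj
  exact h (i + j) (by omega) (by omega)

theorem window_mono {i l i' l' : ℕ} (h1 : i ≤ i') (h2 : i' + l' ≤ i + l) :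
    window g a i' l' ≤ window g a i l :=
  window_le fun _ h3 h4 => gen_mem g a (h1.trans h3) (by omega)

theorem window_zero (g a : G) (i : ℕ) : window g a i 0 = ⊥ := by simp [window]

theorem window_map (g a : G) (i j l : ℕ) :
    window g a (i + j) l = (window g a j l).map (MulAut.conj (g ^ i)).toMonoidHom := by
  rw [window, window, MonoidHom.map_closure, ← Set.image_comp]
  congr 1
  refine Set.image_congr' fun k => ?_
  simp only [Function.comp_apply, MulEquiv.coe_toMonoidHom, ← cj_eq_conj, cj_cj, Nat.add_assoc]

theorem cj_mem_window {i j l : ℕ} {x : G} (hx : x ∈ window g a j l) :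
    cj g i x ∈ window g a (i + j) l := by
  rw [window_map]
  exact ⟨x, hx, (cj_eq_conj g i x).symm⟩

theorem card_window (hc : Chain P g a s) {l : ℕ} (hl : l ≤ s) (i : ℕ) :
    Nat.card ↥(window g a i l) = 2 ^ l := by
  rw [← Nat.add_zero i, window_map,
    Nat.card_congr (equivMapOfInjective _ _ (MulAut.conj (g ^ i)).injective).toEquiv.symm, hc.card l hl]

theorem window_le_top (hc : Chain P g a s) {i l : ℕ} (h : i + l ≤ s) : window g a i l ≤ P := by
  rw [← hc.top]
  exact window_mono (Nat.zero_le _) (by omega)

theorem mem_top (hc : Chain P g a s) {i : ℕ} (h : i < s) : cj g i a ∈ P :=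
  hc.top ▸ gen_mem g a (Nat.zero_le _) (by omega)

theorem gen_mul_self (ha : a * a = 1) (i : ℕ) : cj g i a * cj g i a = 1 := by
  rw [← cj_mul, ha]; simp [cj]

theorem gen_inv (ha : a * a = 1) (i : ℕ) : (cj g i a)⁻¹ = cj g i a :=
  inv_eq_of_mul_eq_one_right (gen_mul_self ha i)

variable [Finite G]

theorem index_two (hc : Chain P g a s) {i j l : ℕ} (hl : l + 1 ≤ s)
    (hle : window g a j l ≤ window g a i (l + 1)) :
    ((window g a j l).subgroupOf (window g a i (l + 1))).index = 2 := by
  have h1 := card_mul_index ((window g a j l).subgroupOf (window g a i (l + 1)))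
  rw [Nat.card_congr (subgroupOfEquivOfLe hle).toEquiv, hc.card_window (by omega) j,
    hc.card_window hl i, pow_succ] at h1
  exact mul_left_cancel₀ (by positivity) h1

theorem mul_mem_window (hc : Chain P g a s) {i j l : ℕ} (hl : l + 1 ≤ s)
    (hle : window g a j l ≤ window g a i (l + 1)) {x y : G} (hx : x ∈ window g a i (l + 1))
    (hy : y ∈ window g a i (l + 1)) (hx' : x ∉ window g a j l) (hy' : y ∉ window g a j l) :
    x * y ∈ window g a j l := by
  have h := mul_mem_iff_of_index_two (hc.index_two hl hle) (a := ⟨x, hx⟩) (b := ⟨y, hy⟩)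
  simp only [Subgroup.mem_subgroupOf, Subgroup.coe_mul] at h
  exact h.2 ⟨fun h' => absurd h' hx', fun h' => absurd h' hy'⟩

theorem sq_mem_window (hc : Chain P g a s) {i j l : ℕ} (hl : l + 1 ≤ s)
    (hle : window g a j l ≤ window g a i (l + 1)) {x : G} (hx : x ∈ window g a i (l + 1)) :
    x * x ∈ window g a j l := by
  by_cases h : x ∈ window g a j l
  · exact mul_mem h h
  · exact hc.mul_mem_window hl hle hx hx h h

theorem last_not_mem (hc : Chain P g a s) {i l : ℕ} (hl : l + 1 ≤ s) :
    cj g (i + l) a ∉ window g a i l := by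
  intro h
  have h1 : window g a i (l + 1) ≤ window g a i l := window_le fun j h2 h3 => by
    rcases Nat.lt_or_ge j (i + l) with h4 | h4
    · exact gen_mem g a h2 h4
    · rw [show j = i + l by omega]; exact h
  have h2 := Subgroup.card_le_of_le h1
  rw [hc.card_window hl i, hc.card_window (by omega) i, pow_succ] at h2
  have h5 : 0 < 2 ^ l := by positivity
  omega

theorem first_not_mem (hc : Chain P g a s) {i l : ℕ} (hl : l + 1 ≤ s) :
    cj g i a ∉ window g a (i + 1) l := by
  intro h
  have h1 : window g a i (l + 1) ≤ window g a (i + 1) l := window_le fun j h2 h3 => by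
    rcases Nat.lt_or_ge i j with h4 | h4
    · exact gen_mem g a h4 (by omega)
    · rw [show j = i by omega]; exact h
  have h2 := Subgroup.card_le_of_le h1
  rw [hc.card_window hl i, hc.card_window (by omega) (i + 1), pow_succ] at h2
  have h5 : 0 < 2 ^ l := by positivity
  omega

theorem eq_last_mul (hc : Chain P g a s) (ha : a * a = 1) :
    ∀ {l i : ℕ} {x : G}, l ≤ s → x ∈ window g a i l → x ≠ 1 →
      ∃ r < l, ∃ x' ∈ window g a i r, x = x' * cj g (i + r) a := by
  intro l
  induction l with
  | zero =>
    intro i x _ hx hx1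
    rw [window_zero, mem_bot] at hx
    exact absurd hx hx1
  | succ l ih =>
    intro i x hl hx hx1
    by_cases h : x ∈ window g a i l
    · obtain ⟨r, hr, x', hx', he⟩ := ih (by omega) h hx1
      exact ⟨r, by omega, x', hx', he⟩
    · refine ⟨l, Nat.lt_succ_self l, x * cj g (i + l) a, hc.mul_mem_window hl
        (window_mono le_rfl (by omega)) hx (gen_mem g a (by omega) (by omega)) h (hc.last_not_mem hl), ?_⟩
      rw [mul_assoc, gen_mul_self ha, mul_one]

theorem eq_first_mul (hc : Chain P g a s) (ha : a * a = 1) :
    ∀ {l i : ℕ} {x : G}, l ≤ s → x ∈ window g a i l → x ≠ 1 →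
      ∃ r < l, ∃ x' ∈ window g a (i + r + 1) (l - r - 1), x = cj g (i + r) a * x' := by
  intro l
  induction l with
  | zero =>
    intro i x _ hx hx1
    rw [window_zero, mem_bot] at hx
    exact absurd hx hx1
  | succ l ih =>
    intro i x hl hx hx1
    by_cases h : x ∈ window g a (i + 1) l
    · obtain ⟨r, hr, x', hx', he⟩ := ih (by omega) h hx1
      refine ⟨r + 1, by omega, x', ?_, by rw [he]; congr 2; omega⟩
      rwa [show i + (r + 1) + 1 = i + 1 + r + 1 by omega, show l + 1 - (r + 1) - 1 = l - r - 1 by omega]
    · refine ⟨0, by omega, cj g i a * x, ?_, ?_⟩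
      · rw [Nat.add_zero, show l + 1 - 0 - 1 = l by omega]
        exact hc.mul_mem_window hl (window_mono (by omega) (by omega)) (gen_mem g a le_rfl (by omega))
          hx (hc.first_not_mem hl) h
      · rw [Nat.add_zero, ← mul_assoc, gen_mul_self ha, one_mul]

/-- Consecutive windows meet trivially. -/
theorem eq_one_of_mem_disjoint (hc : Chain P g a s) (ha : a * a = 1) {i l l' : ℕ} (hl : l + l' ≤ s)
    {x : G} (h1 : x ∈ window g a i l) (h2 : x ∈ window g a (i + l) l') : x = 1 := by
  by_contra hx
  obtain ⟨r, hr, x', hx', he⟩ := hc.eq_last_mul ha (by omega) h2 hx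
  apply hc.last_not_mem (i := i) (l := l + r) (by omega)
  have := mul_mem (inv_mem (window_mono (i := i) (l := l + r) (by omega) (by omega) hx'))
    (window_mono (i := i) (l := l + r) le_rfl (by omega) h1)
  rwa [he, inv_mul_cancel_left, show i + l + r = i + (l + r) by omega] at this

/-- The window strictly between two of the generators. -/
theorem inter_window (hc : Chain P g a s) {i l : ℕ} (hl : l + 2 ≤ s) {x : G}
    (h1 : x ∈ window g a i (l + 1)) (h2 : x ∈ window g a (i + 1) (l + 1)) :
    x ∈ window g a (i + 1) l := by
  by_contra h3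
  have hlast : cj g (i + 1 + l) a ∈ window g a i (l + 1) := by
    have h4 : cj g (i + 1 + l) a ∈ window g a (i + 1) (l + 1) := gen_mem g a (by omega) (by omega)
    have h5 := hc.mul_mem_window (i := i + 1) (j := i + 1) (l := l) (by omega)
      (window_mono le_rfl (by omega)) h2 h4 h3 (hc.last_not_mem (i := i + 1) (by omega))
    have h6 := mul_mem (inv_mem h1) (window_mono (i' := i + 1) (l' := l) (by omega) (by omega) h5)
    simpa using h6
  exact hc.last_not_mem (i := i) (l := l + 1) (by omega) (by rwa [show i + (l + 1) = i + 1 + l by omega])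

theorem sq_pair (hc : Chain P g a s) {i j : ℕ} (hj : 1 ≤ j) (hjs : j + 1 ≤ s) :
    (cj g i a * cj g (i + j) a) * (cj g i a * cj g (i + j) a) ∈ window g a (i + 1) (j - 1) := by
  obtain ⟨l, rfl⟩ : ∃ l, j = l + 1 := ⟨j - 1, by omega⟩
  rw [Nat.add_sub_cancel]
  have hx : cj g i a * cj g (i + (l + 1)) a ∈ window g a i (l + 2) :=
    mul_mem (gen_mem g a le_rfl (by omega)) (gen_mem g a (by omega) (by omega))
  refine hc.inter_window hjs ?_ ?_
  · exact hc.sq_mem_window (l := l + 1) hjs (window_mono le_rfl (by omega)) hx
  · exact hc.sq_mem_window (l := l + 1) hjs (window_mono (by omega) (by omega)) hx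

/-- Generators at distance less than `d` commute. -/
def CommBelow (g a : G) (d : ℕ) : Prop := ∀ j < d, Commute a (cj g j a)

omit [Finite G] in
theorem commute_gen {d : ℕ} (hd : CommBelow g a d) {i j : ℕ} (h1 : i < j + d) (h2 : j < i + d) :
    Commute (cj g i a) (cj g j a) := by
  have key : ∀ i k, k < d → Commute (cj g i a) (cj g (i + k) a) := fun i k hk => by
    have := (hd k hk).eq
    have h3 := congrArg (cj g i) this
    rwa [cj_mul, cj_mul, cj_cj] at h3
  rcases Nat.le_total i j with h | h
  · simpa [Nat.add_sub_cancel' h] using key i (j - i) (by omega)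
  · simpa [Nat.add_sub_cancel' h] using (key j (i - j) (by omega)).symm

omit [Finite G] in
theorem not_commute_gen {d : ℕ} (hd : ¬ Commute a (cj g d a)) (i : ℕ) :
    ¬ Commute (cj g i a) (cj g (i + d) a) := by
  intro h
  have h1 := h.eq
  rw [← cj_cj g i d, ← cj_mul, ← cj_mul] at h1
  exact hd (cj_inj h1)

omit [Finite G] in
theorem commute_window {i l : ℕ} {c x : G} (h : ∀ j, i ≤ j → j < i + l → Commute c (cj g j a))
    (hx : x ∈ window g a i l) : Commute c x := by
  have h1 : window g a i l ≤ centralizer {c} := window_le fun j h2 h3 =>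
    mem_centralizer_singleton_iff.2 (h j h2 h3).eq.symm
  exact (mem_centralizer_singleton_iff.1 (h1 hx)).symm

omit [Finite G] in
theorem exists_first (hc : Chain P g a s) (hna : ¬ ∀ x ∈ P, ∀ y ∈ P, x * y = y * x) :
    ∃ d, 1 ≤ d ∧ d < s ∧ CommBelow g a d ∧ ¬ Commute a (cj g d a) := by
  classical
  have hex : ∃ d, d < s ∧ ¬ Commute a (cj g d a) := by
    by_contra hne
    push_neg at hne
    apply hna
    intro x hx y hy
    rw [← hc.top] at hx hy
    refine (commute_window (fun j _ hj => ?_) hy).eq
    exact (commute_window (fun i _ hi => commute_gen (d := s) (fun k hk => hne k hk) (by omega) (by omega))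
      hx).symm
  refine ⟨Nat.find hex, ?_, (Nat.find_spec hex).1, fun j hj => ?_, (Nat.find_spec hex).2⟩
  · by_contra h0
    have h1 := (Nat.find_spec hex).2
    rw [Nat.lt_one_iff.1 (not_le.1 h0), cj_zero] at h1
    exact h1 (Commute.refl a)
  · by_contra h
    exact Nat.find_min hex hj ⟨by have := (Nat.find_spec hex).1; omega, h⟩

/-- The commutator of the first two non-commuting generators, and the bound `2 s ≤ 3 d`. -/
theorem commutator_bound (hc : Chain P g a s) (ha : a * a = 1) {d : ℕ} (hd1 : 1 ≤ d) (hds : d < s)
    (hd : CommBelow g a d) (hnd : ¬ Commute a (cj g d a)) :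
    2 * s ≤ 3 * d ∧ (a * cj g d a) * (a * cj g d a) ∈ window g a 1 (2 * d - s) ∧
      (a * cj g d a) * (a * cj g d a) ≠ 1 := by
  set b := cj g d a with hb
  set w := (a * b) * (a * b) with hw
  have hbb : b * b = 1 := gen_mul_self ha d
  have hw1 : w ≠ 1 := by
    intro h
    apply hnd
    show a * b = b * a
    calc a * b = (a * b) * (a * b) * (b⁻¹ * a⁻¹) := by group
      _ = b * a := by
          rw [← hw, h, one_mul, inv_eq_of_mul_eq_one_right hbb, inv_eq_of_mul_eq_one_right ha]
  have hwW : w ∈ window g a 1 (d - 1) := by
    have := hc.sq_pair (i := 0) hd1 (by omega)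
    simpa [hw, hb, cj_zero] using this
  obtain ⟨r, hr, w', hw', hwr⟩ := hc.eq_first_mul ha (by omega) hwW hw1
  obtain ⟨L, hL, w'', hw'', hwL⟩ := hc.eq_last_mul ha (by omega) hwW hw1
  -- the first index is at least `s - d`
  have hrs : s ≤ 1 + r + d := by
    by_contra hlt
    set k := 1 + r + d with hk
    set c := cj g k a with hc'
    set v := (a * c) * (a * c) with hv
    have hvW : v ∈ window g a 1 (k - 1) := by
      have := hc.sq_pair (i := 0) (j := k) (by omega) (by omega)
      simpa [hv, hc', cj_zero] using this
    have hvb : Commute b v := commute_window (fun j h1 h2 => commute_gen hd (by omega) (by omega)) hvW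
    have hcb : Commute c b := commute_gen hd (by omega) (by omega)
    have hcc : c * c = 1 := gen_mul_self ha k
    have hcac : c * a * c = a * v := by
      rw [hv, show a * (a * c * (a * c)) = (a * a) * c * a * c by simp only [mul_assoc], ha, one_mul]
    have hcw : Commute c w := by
      have hbeq : c * b * c = b := by rw [hcb.eq, mul_assoc, hcc, mul_one]
      have hvinv : (a * v) * (a * v) = 1 := by
        rw [← hcac, show c * a * c * (c * a * c) = c * a * (c * c) * a * c by simp only [mul_assoc], hcc,
          mul_one, show c * a * a * c = c * (a * a) * c by simp only [mul_assoc], ha, mul_one, hcc]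
      have h1 : c * w * c = w := by
        calc c * w * c = (c * a * c) * (c * b * c) * (c * a * c) * (c * b * c) := by
              rw [hw]; simp only [mul_assoc]; simp only [← mul_assoc c c, hcc, one_mul]
          _ = a * v * b * (a * v) * b := by rw [hcac, hbeq]
          _ = a * b * (v * (a * v)) * b := by
              rw [show a * v * b * (a * v) * b = a * (v * b) * (a * v) * b by simp only [mul_assoc],
                ← hvb.eq]
              simp only [mul_assoc]
          _ = w := by
              rw [hw, show v * (a * v) = (a * a) * (v * (a * v)) by rw [ha, one_mul],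
                show a * a * (v * (a * v)) = a * ((a * v) * (a * v)) by simp only [mul_assoc], hvinv, mul_one]
              simp only [mul_assoc]
      show c * w = w * c
      calc c * w = c * w * c * c := by rw [mul_assoc (c * w), hcc, mul_one]
        _ = w * c := by rw [h1]
    have hcw' : Commute c w' := commute_window (fun j h1 h2 => commute_gen hd (by omega) (by omega)) hw'
    have hfin : Commute c (cj g (1 + r) a) := by
      have := hcw.mul_right hcw'.inv_right
      rwa [hwr, mul_inv_cancel_right] at this
    exact not_commute_gen hnd (1 + r) hfin.symm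
  -- the last index is at most `2 d - s`
  have hLs : 1 + L + s ≤ 2 * d := by
    by_contra hlt
    set m := s - 1 - d with hm
    set k := 1 + L + m - d with hk
    set c := cj g k a with hc'
    set u := cj g m a with hu
    set b' := cj g (m + d) a with hb'
    set v := (c * b') * (c * b') with hv
    set z := cj g m w with hz
    have hzeq : z = (u * b') * (u * b') := by
      rw [hz, hw, cj_mul, cj_mul, hb, cj_cj]
    have hkj : k + (m + d - k) = m + d := by omega
    have hvW : v ∈ window g a (k + 1) (m + d - k - 1) := by
      have := hc.sq_pair (i := k) (j := m + d - k) (by omega) (by omega)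
      rwa [hkj] at this
    have hzW : z ∈ window g a (m + 1) (1 + L) := by
      have h1 : w ∈ window g a 1 (1 + L) := by
        rw [hwL]
        exact mul_mem (window_mono le_rfl (by omega) hw'') (gen_mem g a (by omega) (by omega))
      exact cj_mem_window (i := m) h1
    have huv : Commute u v := commute_window (fun j h1 h2 => commute_gen hd (by omega) (by omega)) hvW
    have hzv : Commute v z := by
      refine commute_window (fun j h1 h2 => ?_) hzW
      exact (commute_window (fun i h3 h4 => commute_gen hd (by omega) (by omega)) hvW).symm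
    have hcu : Commute c u := commute_gen hd (by omega) (by omega)
    have hcc : c * c = 1 := gen_mul_self ha k
    have hb'b' : b' * b' = 1 := gen_mul_self ha _
    have hcbc : c * b' * c = v * b' := by
      rw [hv, show c * b' * (c * b') * b' = c * b' * c * (b' * b') by simp only [mul_assoc], hb'b', mul_one]
    have hinv : (v * b') * (v * b') = 1 := by
      rw [← hcbc, show c * b' * c * (c * b' * c) = c * b' * (c * c) * b' * c by simp only [mul_assoc], hcc,
        mul_one, show c * b' * b' * c = c * (b' * b') * c by simp only [mul_assoc], hb'b', mul_one, hcc]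
    have hcz : Commute c z := by
      have hueq : c * u * c = u := by rw [hcu.eq, mul_assoc, hcc, mul_one]
      have h1 : c * z * c = z := by
        calc c * z * c = (c * u * c) * (c * b' * c) * (c * u * c) * (c * b' * c) := by
              rw [hzeq]; simp only [mul_assoc]; simp only [← mul_assoc c c, hcc, one_mul]
          _ = u * (v * b') * u * (v * b') := by rw [hcbc, hueq]
          _ = v * z * v⁻¹ := by
              rw [hzeq, show u * (v * b') * u * (v * b') = (u * v) * b' * u * (v * b') by simp only [mul_assoc],
                huv.eq]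
              have e : v * b' = b'⁻¹ * v⁻¹ := by
                rw [← mul_inv_rev]; exact (inv_eq_of_mul_eq_one_right hinv).symm
              conv_lhs => arg 2; rw [e, inv_eq_of_mul_eq_one_right hb'b']
              simp only [mul_assoc]
          _ = z := by rw [hzv.eq, mul_inv_cancel_right]
      show c * z = z * c
      calc c * z = c * z * c * c := by rw [mul_assoc (c * z), hcc, mul_one]
        _ = z * c := by rw [h1]
    have hcL : Commute c (cj g (m + (1 + L)) a) := by
      have hz'' : cj g m w'' ∈ window g a (m + 1) L := cj_mem_window hw''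
      have h1 : Commute c (cj g m w'') :=
        commute_window (fun j h2 h3 => commute_gen hd (by omega) (by omega)) hz''
      have h2 := h1.inv_right.mul_right hcz
      rwa [hz, hwL, cj_mul, cj_cj, inv_mul_cancel_left] at h2
    rw [show m + (1 + L) = k + d by omega] at hcL
    exact not_commute_gen hnd k hcL
  refine ⟨?_, ?_, hw1⟩
  · by_contra hlt
    -- then the first index exceeds the last one
    have h1 : w ∈ window g a 1 r := by
      rw [hwL]
      exact mul_mem (window_mono le_rfl (by omega) hw'') (gen_mem g a (by omega) (by omega))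
    have h2 : w ∈ window g a (1 + r) (d - 1 - r) := by
      rw [hwr]
      exact mul_mem (gen_mem g a le_rfl (by omega)) (window_mono (by omega) (by omega) hw')
    exact hw1 (hc.eq_one_of_mem_disjoint ha (by omega) h1 h2)
  · rw [hwL]
    exact mul_mem (window_mono le_rfl (by omega) hw'') (gen_mem g a (by omega) (by omega))

end Chain

end Cfsg.Agent.IndexTwoChain
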