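import Mathlib
import Cfsg.Agent.Lib.IndexTwoChain

/-!
Pushing up for a group `H` generated by a subgroup `P` and one conjugate `x P x⁻¹`, having a normal
subgroup `Q` of index two in `P`, and an element `y` normalising `P` such that no nontrivial subgroup
`N` of `P` has both `N` and `y N y⁻¹` normal in `H`.  Then `|P| ≤ 16` and the action of `H` on `Q`
is determined.
-/

set_option autoImplicit false

namespace Cfsg.Agent.DihedralPushingUp

open Subgroup Cfsg.Agent.IndexTwoChain

variable {G : Type*} [Group G]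

/-- `y N y⁻¹`. -/
def cn (y : G) (N : Subgroup G) : Subgroup G := N.map (MulAut.conj y).toMonoidHom

theorem mem_cn {y z : G} {N : Subgroup G} : z ∈ cn y N ↔ y⁻¹ * z * y ∈ N := by
  refine ⟨?_, fun h => ⟨_, h, by simp [MulAut.conj_apply]; group⟩⟩
  rintro ⟨u, hu, rfl⟩
  simpa [MulAut.conj_apply, mul_assoc] using hu

theorem conj_mem_cn {y u : G} {N : Subgroup G} (h : u ∈ N) : y * u * y⁻¹ ∈ cn y N :=
  mem_cn.2 (by simpa [mul_assoc] using h)

theorem cn_cn (a b : G) (N : Subgroup G) : cn a (cn b N) = cn (a * b) N := by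
  ext z; simp [mem_cn, mul_assoc]

theorem cn_one (N : Subgroup G) : cn 1 N = N := by ext z; simp [mem_cn]

theorem card_cn (y : G) (N : Subgroup G) : Nat.card ↥(cn y N) = Nat.card ↥N :=
  (Nat.card_congr (equivMapOfInjective _ _ (MulAut.conj y).injective).toEquiv).symm

theorem cn_injective (y : G) : Function.Injective (cn y) :=
  map_injective (MulAut.conj y).injective

theorem cn_mono {y : G} {A B : Subgroup G} (h : A ≤ B) : cn y A ≤ cn y B := map_mono h

theorem mem_normalizer_cn [Finite G] {p : G} {M : Subgroup G} (h : ∀ m ∈ M, p * m * p⁻¹ ∈ M) :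
    p ∈ normalizer (M : Set G) :=
  mem_normalizer_fintype h

theorem normalizer_of_central {H Z : Subgroup G} (h : ∀ k ∈ H, ∀ z ∈ Z, k * z = z * k) :
    H ≤ normalizer (Z : Set G) := by
  intro k hk
  rw [mem_normalizer_iff]
  intro z
  constructor
  · intro hz; rw [h k hk z hz, mul_inv_cancel_right]; exact hz
  · intro hz
    have h1 := h k⁻¹ (inv_mem hk) _ hz
    have h2 : k⁻¹ * (k * z * k⁻¹) * k = z := by group
    rwa [← h2, h1, inv_mul_cancel_right]

theorem card_mul_card_le [Finite G] {A B L : Subgroup G} (hA : A ≤ L) (hB : B ≤ L) :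
    Nat.card ↥A * Nat.card ↥B ≤ Nat.card ↥L * Nat.card ↥(A ⊓ B) := by
  have h1 := relIndex_inf_le (H := A) (K := B) (L := L)
  have e : ∀ X : Subgroup G, X ≤ L → Nat.card ↥X * X.relIndex L = Nat.card ↥L := fun X hX => by
    rw [Subgroup.relIndex, ← Nat.card_congr (subgroupOfEquivOfLe hX).toEquiv]
    exact card_mul_index _
  have eA := e A hA
  have eB := e B hB
  have eI := e (A ⊓ B) (inf_le_left.trans hA)
  have hpos : 0 < (A ⊓ B).relIndex L := by
    rw [Nat.pos_iff_ne_zero]
    intro h0
    rw [h0, mul_zero] at eI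
    exact Nat.card_pos.ne' eI.symm
  refine le_of_mul_le_mul_left (a := (A ⊓ B).relIndex L) ?_ hpos
  calc (A ⊓ B).relIndex L * (Nat.card ↥A * Nat.card ↥B)
      ≤ (A.relIndex L * B.relIndex L) * (Nat.card ↥A * Nat.card ↥B) := Nat.mul_le_mul_right _ h1
    _ = (Nat.card ↥A * A.relIndex L) * (Nat.card ↥B * B.relIndex L) := by ring
    _ = Nat.card ↥L * (Nat.card ↥(A ⊓ B) * (A ⊓ B).relIndex L) := by rw [eA, eB, eI]
    _ = _ := by ring

section Window

variable [Finite G] {P : Subgroup G} {g a : G} {s d : ℕ}

omit [Finite G] in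
/-- A window of length at most `d` is elementary abelian. -/
theorem elem_window (ha : a * a = 1) (hd : Chain.CommBelow g a d) {i l : ℕ} (hl : l ≤ d) {u : G}
    (hu : u ∈ window g a i l) : u * u = 1 ∧ ∀ v ∈ window g a i l, u * v = v * u := by
  have hcomm : ∀ x ∈ window g a i l, ∀ v ∈ window g a i l, x * v = v * x := by
    intro x hx v hv
    refine (Chain.commute_window (fun j h1 h2 => ?_) hv).eq
    exact (Chain.commute_window (fun k h3 h4 => Chain.commute_gen hd (by omega) (by omega)) hx).symm
  refine ⟨?_, hcomm u hu⟩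
  have hu0 := hu
  rw [window] at hu0
  induction hu0 using closure_induction with
  | mem z hz =>
    obtain ⟨j, -, rfl⟩ := hz
    exact Chain.gen_mul_self ha _
  | one => exact one_mul 1
  | mul x v hx hv ihx ihv =>
    have hc := hcomm v hv x hx
    calc x * v * (x * v) = x * (v * x) * v := by simp only [mul_assoc]
      _ = 1 := by rw [hc, ← mul_assoc x x v, ihx hx, one_mul, ihv hv]
  | inv x hx ih => rw [← mul_inv_rev, ih (inv_mem_iff.1 hu), inv_one]

omit [Finite G] in
theorem center_comm (hd : Chain.CommBelow g a d) {l : ℕ} (hdl : d ≤ l) (hl : l ≤ 2 * d) {u v : G}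
    (hu : u ∈ window g a (l - d) (2 * d - l)) (hv : v ∈ window g a 0 l) : Commute u v := by
  refine Chain.commute_window (fun j _ h2 => ?_) hv
  exact (Chain.commute_window (fun k h3 h4 => Chain.commute_gen hd (by omega) (by omega)) hu).symm

/-- The centre of a long window. -/
theorem center_window (hc : Chain P g a s) (ha : a * a = 1) (hd : Chain.CommBelow g a d)
    (hnd : ¬ Commute a (cj g d a)) {l : ℕ} (h1 : d ≤ l) (h2 : l ≤ 2 * d) (h3 : l ≤ s) {u : G}
    (hu : u ∈ window g a 0 l) (hcu : ∀ j < l, Commute u (cj g j a)) :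
    u ∈ window g a (l - d) (2 * d - l) := by
  by_cases hu1 : u = 1
  · rw [hu1]; exact one_mem _
  obtain ⟨r, hr, u', hu', he⟩ := hc.eq_first_mul ha h3 hu hu1
  rw [Nat.zero_add] at he hu'
  have hr' : l - d ≤ r := by
    by_contra hlt
    apply Chain.not_commute_gen hnd r
    have hc1 : Commute (cj g (r + d) a) u' :=
      Chain.commute_window (fun k h4 h5 => Chain.commute_gen hd (by omega) (by omega)) hu'
    have hc2 : Commute (cj g (r + d) a) (u * u'⁻¹) := (hcu (r + d) (by omega)).symm.mul_right hc1.inv_right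
    rw [he, mul_inv_cancel_right] at hc2
    exact hc2.symm
  have hud : u ∈ window g a (l - d) d := by
    rw [he]
    exact mul_mem (Chain.gen_mem g a hr' (by omega)) (Chain.window_mono (by omega) (by omega) hu')
  obtain ⟨q, hq, v, hv, hev⟩ := hc.eq_last_mul ha (by omega) hud hu1
  have hq' : l - d + q < d := by
    by_contra hge
    apply Chain.not_commute_gen hnd (l - d + q - d)
    rw [Nat.sub_add_cancel (not_lt.1 hge)]
    have hc1 : Commute (cj g (l - d + q - d) a) v :=
      Chain.commute_window (fun k h4 h5 => Chain.commute_gen hd (by omega) (by omega)) hv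
    have hc2 : Commute (cj g (l - d + q - d) a) (v⁻¹ * u) :=
      hc1.inv_right.mul_right (hcu _ (by omega)).symm
    rwa [hev, inv_mul_cancel_left] at hc2
  rw [hev]
  exact mul_mem (Chain.window_mono le_rfl (by omega) hv) (Chain.gen_mem g a (by omega) (by omega))

end Window

/-- The configuration. -/
structure Config (H P Q : Subgroup G) (x y : G) : Prop where
  le_P : Q ≤ P
  le_H : P ≤ H
  normal : H ≤ normalizer (Q : Set G)
  index : Q.relIndex P = 2
  ne_bot : Q ≠ ⊥
  x_mem : x ∈ H
  x_odd : Odd (orderOf x)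
  gen : ∀ K : Subgroup G, P ≤ K → (∀ p ∈ P, x * p * x⁻¹ ∈ K) → H ≤ K
  x_ne : ∃ p ∈ P, x * p * x⁻¹ ∉ P
  y_norm : cn y P = P
  trivial : ∀ N : Subgroup G, N ≤ P → H ≤ normalizer (N : Set G) →
    H ≤ normalizer (cn y N : Set G) → N = ⊥

namespace Config

variable [Finite G] {H P Q : Subgroup G} {x y : G}

omit [Finite G] in
theorem y_conj (hC : Config H P Q x y) {p : G} (hp : p ∈ P) : y * p * y⁻¹ ∈ P :=
  hC.y_norm ▸ conj_mem_cn hp

omit [Finite G] in
theorem y_inv_conj (hC : Config H P Q x y) {p : G} (hp : p ∈ P) : y⁻¹ * p * y ∈ P :=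
  mem_cn.1 (hC.y_norm.symm ▸ hp)

omit [Finite G] in
theorem x_conj_Q (hC : Config H P Q x y) {q : G} (hq : q ∈ Q) : x * q * x⁻¹ ∈ Q :=
  (mem_normalizer_iff.1 (hC.normal hC.x_mem) q).1 hq

omit [Finite G] in
theorem core_eq (hC : Config H P Q x y) : core P (y * x) 1 = Q := by
  refine le_antisymm (fun z hz => ?_) (fun q hq i hi => ?_)
  · by_contra hzQ
    obtain ⟨p, hp, hxp⟩ := hC.x_ne
    have hxz : x * z * x⁻¹ ∈ P := by
      have := hC.y_inv_conj (hz 1 le_rfl)
      simpa [cj, mul_assoc] using this
    have hzP : z ∈ P := core_le 1 hz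
    have h := mul_mem_iff_of_index_two hC.index (a := ⟨p, hp⟩) (b := ⟨z, hzP⟩)
    simp only [mem_subgroupOf, coe_mul] at h
    apply hxp
    by_cases hpQ : p ∈ Q
    · exact hC.le_P (hC.x_conj_Q hpQ)
    · have hm : p * z ∈ Q := h.2 ⟨fun h' => absurd h' hpQ, fun h' => absurd h' hzQ⟩
      have := mul_mem (hC.le_P (hC.x_conj_Q hm)) (inv_mem hxz)
      simpa [mul_assoc] using this
  · interval_cases i
    · rw [cj_zero]; exact hC.le_P hq
    · have := hC.y_conj (hC.le_P (hC.x_conj_Q hq))
      simpa [cj, mul_assoc] using this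

theorem core_free (hC : Config H P Q x y) (N : Subgroup G) (hNP : N ≤ P)
    (hPN : P ≤ normalizer (N : Set G))
    (hgN : ∀ z ∈ N, y * x * z * (y * x)⁻¹ ∈ N) : N = ⊥ := by
  set M := cn x N with hM
  have hgeq : cn y M = N := by
    rw [hM, cn_cn]
    refine eq_of_le_of_card_ge (fun z hz => ?_) (le_of_eq (card_cn _ N).symm)
    have := hgN _ (mem_cn.1 hz)
    simpa [mul_assoc] using this
  have hHM : H ≤ normalizer (M : Set G) := by
    refine hC.gen _ (fun p hp => mem_normalizer_cn fun m hm => ?_) fun p hp => mem_normalizer_cn fun m hm => ?_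
    · have h1 : y * m * y⁻¹ ∈ N := hgeq ▸ conj_mem_cn hm
      have h2 := (mem_normalizer_iff.1 (hPN (hC.y_conj hp)) _).1 h1
      rw [← hgeq] at h2
      have h3 := mem_cn.1 h2
      simpa [mul_assoc] using h3
    · have h2 := (mem_normalizer_iff.1 (hPN hp) _).1 (mem_cn.1 hm)
      have h3 := conj_mem_cn (y := x) h2
      simpa [hM, mul_assoc] using h3
  have hxM : cn x M = M := by
    refine eq_of_le_of_card_ge (fun z hz => ?_) (le_of_eq (card_cn _ M).symm)
    have := (mem_normalizer_iff.1 (hHM hC.x_mem) _).1 (mem_cn.1 hz)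
    simpa [mul_assoc] using this
  have hMN : M = N := cn_injective x (hxM.trans hM)
  rw [hMN] at hHM hgeq
  exact hC.trivial N hNP hHM (by rw [hgeq]; exact hHM)

/-- A subgroup of `P` centralised by `H` meets its `y`-conjugate trivially. -/
theorem central_disjoint (hC : Config H P Q x y) {Z : Subgroup G} (hZP : Z ≤ P)
    (hZ : ∀ k ∈ H, ∀ z ∈ Z, k * z = z * k) : Z ⊓ cn y Z = ⊥ := by
  have h1 : cn y⁻¹ (Z ⊓ cn y Z) ≤ Z := fun z hz => by
    have := mem_cn.1 (mem_inf.1 (mem_cn.1 hz)).2
    simpa [mul_assoc] using this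
  have h2 : cn y (cn y⁻¹ (Z ⊓ cn y Z)) = Z ⊓ cn y Z := by rw [cn_cn, mul_inv_cancel, cn_one]
  have h3 := hC.trivial _ (h1.trans hZP)
    (normalizer_of_central fun k hk z hz => hZ k hk z (h1 hz))
    (by rw [h2]; exact normalizer_of_central fun k hk z hz => hZ k hk z (mem_inf.1 hz).1)
  rw [← h2, h3]
  exact map_bot _

/-- The possible shapes of `P` and of the action of `H` on `Q`. -/
theorem main (hC : Config H P Q x y) :
    (Nat.card ↥P = 4 ∧ Nat.card ↥Q = 2 ∧ (∀ k ∈ H, ∀ q ∈ Q, k * q = q * k) ∧ ∀ p ∈ P, p * p = 1) ∨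
    ∃ (k : ℕ) (t c : G) (Z : Subgroup G), k ≤ 1 ∧ Nat.card ↥P = 8 * 2 ^ k ∧ Nat.card ↥Q = 4 * 2 ^ k ∧
      Nat.card ↥Z = 2 ^ k ∧ t ∈ P ∧ t ∉ Q ∧ t * t = 1 ∧ (∀ q ∈ Q, q * q = 1) ∧ Z ≤ Q ∧
      (∀ m ∈ H, ∀ z ∈ Z, m * z = z * m) ∧ (∀ q ∈ Q, (∀ m ∈ H, m * q = q * m) → q ∈ Z) ∧
      (∃ e ∈ Q, t * e = e * t ∧ e ∉ Z) ∧ ∀ q ∈ Q, t * q * t⁻¹ * q⁻¹ = 1 ∨ t * q * t⁻¹ * q⁻¹ = c := by
  set g := y * x with hg
  have hidx : (core P g 1).relIndex P = 2 := by rw [hg, hC.core_eq]; exact hC.index
  obtain ⟨s, a, hc, hs2, ha⟩ := exists_chain hidx hC.core_free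
  have hP : Nat.card ↥P = 2 ^ s := by rw [← hc.top]; exact hc.card s le_rfl
  have hs1 : 1 ≤ s := by
    by_contra h
    rw [show s = 0 by omega, pow_zero] at hs2
    omega
  have hQle : window g a 0 (s - 1) ≤ Q := by
    rw [← hC.core_eq]
    refine Chain.window_le fun j _ hj i hi => ?_
    rw [cj_cj]
    exact hc.mem_top (by omega)
  have hQcard : Nat.card ↥Q * 2 = Nat.card ↥P := by
    rw [← hC.index, Subgroup.relIndex, ← Nat.card_congr (subgroupOfEquivOfLe hC.le_P).toEquiv]
    exact card_mul_index _
  have hQc : Nat.card ↥Q = 2 ^ (s - 1) := by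
    have : (2:ℕ) ^ s = 2 ^ (s - 1) * 2 := by rw [← pow_succ, Nat.sub_add_cancel hs1]
    omega
  have hQ : window g a 0 (s - 1) = Q :=
    eq_of_le_of_card_ge hQle (by rw [hQc, hc.card _ (Nat.sub_le s 1)])
  have hs : 2 ≤ s := by
    by_contra h
    rw [show s - 1 = 0 by omega, pow_zero] at hQc
    exact hC.ne_bot (card_eq_one.1 hQc)
  by_cases hab : ∀ u ∈ P, ∀ v ∈ P, u * v = v * u
  · left
    have hd : Chain.CommBelow g a s := fun j hj =>
      hab a (by simpa [cj_zero] using hc.mem_top (i := 0) (by omega)) _ (hc.mem_top hj)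
    have hHQ : H ≤ centralizer (Q : Set G) := hC.gen _
      (fun p hp => mem_centralizer_iff.2 fun q hq => hab q (hC.le_P hq) p hp) fun p hp =>
        mem_centralizer_iff.2 fun q hq => by
          have hq' : x⁻¹ * q * x ∈ Q := by
            have := (mem_normalizer_iff.1 (inv_mem (hC.normal hC.x_mem)) q).1 hq
            simpa using this
          have h1 := hab _ (hC.le_P hq') p hp
          have h2 := congrArg (fun z => x * z * x⁻¹) h1
          simpa [mul_assoc] using h2
    have hcent : ∀ k ∈ H, ∀ q ∈ Q, k * q = q * k := fun k hk q hq =>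
      (mem_centralizer_iff.1 (hHQ hk) q hq).symm
    have hdis := hC.central_disjoint hC.le_P hcent
    have hle := card_mul_card_le hC.le_P ((cn_mono hC.le_P).trans hC.y_norm.le)
      (B := cn y Q) (L := P)
    rw [hdis, card_bot, mul_one, card_cn, hQc, hP, ← pow_add] at hle
    have hs' : s = 2 := by
      have := (Nat.pow_le_pow_iff_right (by norm_num : 1 < 2)).1 hle
      omega
    subst hs'
    refine ⟨by rw [hP]; norm_num, by rw [hQc]; norm_num, hcent, fun p hp => ?_⟩
    exact (elem_window ha hd le_rfl (by rw [hc.top]; exact hp)).1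
  · right
    obtain ⟨d, hd1, hds, hd, hnd⟩ := hc.exists_first hab
    obtain ⟨hbound, hwW, hw1⟩ := hc.commutator_bound ha hd1 hds hd hnd
    have h2d : s ≤ 2 * d := by omega
    set V := window g a (s - 1 - d) (2 * d - (s - 1)) with hV
    set Zp := window g a (s - d) (2 * d - s) with hZp
    have hVQ : V ≤ Q := hQ ▸ Chain.window_mono (Nat.zero_le _) (by omega)
    have hZV : Zp ≤ V := Chain.window_mono (by omega) (by omega)
    have hZP : ∀ z ∈ Zp, ∀ p ∈ P, z * p = p * z := fun z hz p hp =>
      (center_comm hd hds.le h2d hz (by rw [hc.top]; exact hp)).eq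
    have hZmem : ∀ z ∈ P, (∀ p ∈ P, z * p = p * z) → z ∈ Zp := fun z hz h =>
      center_window hc ha hd hnd hds.le h2d le_rfl (by rw [hc.top]; exact hz)
        fun j hj => h _ (hc.mem_top hj)
    have hxV : ∀ v ∈ V, x * v * x⁻¹ ∈ V := by
      intro v hv
      refine center_window hc ha hd hnd (by omega) (by omega) (by omega)
        (hQ.symm ▸ hC.x_conj_Q (hVQ hv)) fun j hj => ?_
      have hjQ : cj g j a ∈ Q := hQ ▸ Chain.gen_mem g a (Nat.zero_le _) (by omega)
      have hq' : x⁻¹ * cj g j a * x ∈ Q := by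
        have := (mem_normalizer_iff.1 (inv_mem (hC.normal hC.x_mem)) _).1 hjQ
        simpa using this
      have h1 := (center_comm hd (by omega) (by omega) hv (hQ.symm ▸ hq')).eq
      have h2 := congrArg (fun z => x * z * x⁻¹) h1
      show _ = _
      simpa [mul_assoc] using h2
    set Z := Zp ⊓ cn x Zp with hZdef
    have hxZV : cn x Zp ≤ V := fun z hz => by
      have := hxV _ (hZV (mem_cn.1 hz))
      simpa [mul_assoc] using this
    have hZQ : Z ≤ Q := inf_le_left.trans (hZV.trans hVQ)
    have hHZ : ∀ m ∈ H, ∀ z ∈ Z, m * z = z * m := by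
      intro m hm z hz
      refine (mem_centralizer_singleton_iff.1 (hC.gen (centralizer {z}) (fun p hp => ?_) (fun p hp => ?_) hm))
      · exact mem_centralizer_singleton_iff.2 (hZP z (mem_inf.1 hz).1 p hp).symm
      · refine mem_centralizer_singleton_iff.2 ?_
        have h1 := hZP _ (mem_cn.1 (mem_inf.1 hz).2) p hp
        have h2 := congrArg (fun u => x * u * x⁻¹) h1.symm
        simpa [mul_assoc] using h2
    have hZfix : ∀ q ∈ Q, (∀ m ∈ H, m * q = q * m) → q ∈ Z := by
      intro q hq hcq
      have h1 : q ∈ Zp := hZmem q (hC.le_P hq) fun p hp => (hcq p (hC.le_H hp)).symm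
      refine mem_inf.2 ⟨h1, mem_cn.2 ?_⟩
      rwa [mul_assoc, ← hcq x hC.x_mem, inv_mul_cancel_left]
    have hyZ : cn y Zp ≤ Zp := fun z hz => by
      have h1 := mem_cn.1 hz
      have hzP : z ∈ P := by
        rw [← hC.y_norm]
        exact mem_cn.2 (hc.window_le_top (by omega) h1)
      refine hZmem z hzP fun p hp => ?_
      have h2 := hZP _ h1 _ (hC.y_inv_conj hp)
      have h3 := congrArg (fun u => y * u * y⁻¹) h2
      simpa [mul_assoc] using h3
    have hdis := hC.central_disjoint (hZQ.trans hC.le_P) hHZ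
    -- counting
    have hcZ1 := card_mul_card_le hZV hxZV
    rw [← hZdef, card_cn, hc.card_window (by omega), hc.card_window (by omega)] at hcZ1
    have hcZ2 := card_mul_card_le (A := Z) (L := Zp) inf_le_left
      ((cn_mono inf_le_left).trans hyZ) (B := cn y Z)
    rw [hdis, card_bot, mul_one, card_cn, hc.card_window (by omega)] at hcZ2
    have he : 2 * d - (s - 1) = (2 * d - s) + 1 := by omega
    rw [he, pow_succ] at hcZ1
    generalize hN : Nat.card ↥Z = N at hcZ1 hcZ2
    have hN1 : 2 ^ (2 * d - s) ≤ 2 * N := by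
      have hpos : 0 < 2 ^ (2 * d - s) := Nat.two_pow_pos _
      nlinarith
    have hsmall : 2 * d - s ≤ 2 := by
      by_contra hbig
      have h8 : 2 ^ 3 ≤ 2 ^ (2 * d - s) := Nat.pow_le_pow_right (by norm_num) (by omega)
      nlinarith
    have h64 : ¬ (s = 6 ∧ d = 4) := by
      rintro ⟨rfl, rfl⟩
      set U0 := window g a 0 4 with hU0
      set U1 := window g a 1 4 with hU1
      set w := (a * cj g 4 a) * (a * cj g 4 a) with hw
      have hU : ∀ u ∈ Q, u * u = 1 → u ∈ U0 ∨ u ∈ U1 := by
        intro u hu huu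
        rw [← hQ] at hu
        by_contra hne
        push_neg at hne
        have h1 : cj g 0 a * u ∈ U1 := hc.mul_mem_window (i := 0) (j := 1) (l := 4) (by norm_num)
          (Chain.window_mono (by norm_num) (by norm_num)) (Chain.gen_mem g a le_rfl (by norm_num)) hu
          (hc.first_not_mem (i := 0) (by norm_num)) hne.2
        have h2 : cj g 0 a * u ∉ window g a 1 3 := fun h => hne.1 (by
          have := mul_mem (Chain.gen_mem g a le_rfl (by norm_num : 0 < 0 + 4))
            (Chain.window_mono (i := 0) (l := 4) (by norm_num) (by norm_num) h)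
          rwa [← mul_assoc, Chain.gen_mul_self ha, one_mul] at this)
        set v := cj g 0 a * u * cj g 4 a with hv
        have h3 : v ∈ window g a 1 3 := hc.mul_mem_window (i := 1) (j := 1) (l := 3) (by norm_num)
          (Chain.window_mono le_rfl (by norm_num)) h1 (Chain.gen_mem g a (by norm_num) (by norm_num))
          h2 (hc.last_not_mem (i := 1) (by norm_num))
        have hv0 : Commute (cj g 0 a) v :=
          Chain.commute_window (fun j _ _ => Chain.commute_gen hd (by omega) (by omega)) h3
        have hv4 : Commute (cj g 4 a) v :=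
          Chain.commute_window (fun j _ _ => Chain.commute_gen hd (by omega) (by omega)) h3
        have hvv := (elem_window ha hd (by norm_num) h3).1
        have hueq : u = v * (cj g 0 a * cj g 4 a) := by
          rw [← mul_assoc, ← hv0.eq, hv]
          simp only [← mul_assoc, Chain.gen_mul_self ha, one_mul]
          rw [mul_assoc, Chain.gen_mul_self ha, mul_one]
        apply hw1
        have hcv : Commute v (cj g 0 a * cj g 4 a) := (hv0.mul_left hv4).symm
        rw [hueq, hcv.symm.mul_mul_mul_comm, hvv, one_mul, cj_zero] at huu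
        exact huu
      have hperm : ∀ m, (∀ q ∈ Q, m * q * m⁻¹ ∈ Q) → ∀ i, (i = 0 ∨ i = 1) →
          cn m (window g a i 4) = U0 ∨ cn m (window g a i 4) = U1 := by
        intro m hm i hi
        have hsub : ∀ z ∈ cn m (window g a i 4), z ∈ U0 ∨ z ∈ U1 := by
          intro z hz
          have h1 := mem_cn.1 hz
          have h2 := hm _ (hQ ▸ Chain.window_mono (Nat.zero_le i) (by omega) h1)
          refine hU z (by simpa [mul_assoc] using h2) ?_
          have h3 := congrArg (fun u => m * u * m⁻¹) (elem_window ha hd le_rfl h1).1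
          simpa [mul_assoc] using h3
        have hor : cn m (window g a i 4) ≤ U0 ∨ cn m (window g a i 4) ≤ U1 := by
          by_contra hne
          rw [not_or, SetLike.not_le_iff_exists, SetLike.not_le_iff_exists] at hne
          obtain ⟨⟨u, hu, hu0⟩, v, hv, hv1⟩ := hne
          have hu1 := (hsub u hu).resolve_left hu0
          have hv0 := (hsub v hv).resolve_right hv1
          rcases hsub _ (mul_mem hu hv) with h | h
          · exact hu0 ((mul_mem_cancel_right hv0).1 h)
          · exact hv1 ((mul_mem_cancel_left hu1).1 h)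
        exact hor.imp
          (fun h => eq_of_le_of_card_ge h (by rw [card_cn, hU0, hc.card_window (by norm_num), hc.card_window (by norm_num)]))
          (fun h => eq_of_le_of_card_ge h (by rw [card_cn, hU1, hc.card_window (by norm_num), hc.card_window (by norm_num)]))
      have hne : U0 ≠ U1 := fun h =>
        hc.first_not_mem (i := 0) (l := 4) (by norm_num) (by
          have h0 : cj g 0 a ∈ U0 := Chain.gen_mem g a le_rfl (by norm_num)
          rwa [h] at h0)
      have hx0 : cn x U0 = U0 := by
        rcases hperm x (fun q hq => hC.x_conj_Q hq) 0 (Or.inl rfl) with h | h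
        · exact h
        · exfalso
          have h' : cn x U1 = U0 := (hperm x (fun q hq => hC.x_conj_Q hq) 1 (Or.inr rfl)).resolve_right
            fun h1 => hne (cn_injective x (h.trans h1.symm))
          have hsw : ∀ j : ℕ, cn (x ^ (2 * j)) U0 = U0 := by
            intro j
            induction j with
            | zero => simp [cn_one]
            | succ j ih =>
              rw [show 2 * (j + 1) = 1 + (1 + 2 * j) by ring, pow_add, pow_add, pow_one, ← cn_cn, ← cn_cn,
                ih, h, h']
          obtain ⟨j, hj⟩ := hC.x_odd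
          have e : x = x ^ (2 * (j + 1)) := by
            rw [show 2 * (j + 1) = orderOf x + 1 by omega, pow_succ, pow_orderOf_eq_one, one_mul]
          have h2 := hsw (j + 1)
          rw [← e, h] at h2
          exact hne h2.symm
      have hx1 : cn x U1 = U1 :=
        (hperm x (fun q hq => hC.x_conj_Q hq) 1 (Or.inr rfl)).resolve_left
          fun h => hne (cn_injective x (hx0.trans h.symm))
      have hP0 : ∀ p ∈ P, cn p U0 = U0 := by
        intro p hp
        refine (hperm p (fun q hq => ?_) 0 (Or.inl rfl)).resolve_right fun h => ?_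
        · exact (mem_normalizer_iff.1 (hC.normal (hC.le_H hp)) q).1 hq
        · have h5le : window g a 1 5 ≤ P := hc.window_le_top (by norm_num)
          have h5 : ((window g a 1 5).subgroupOf P).index = 2 := by
            have := hc.index_two (i := 0) (j := 1) (l := 5) (by norm_num)
              (Chain.window_mono (by norm_num) (by norm_num))
            rwa [hc.top] at this
          have hn := normal_of_index_eq_two h5
          have hA : p * cj g 0 a * p⁻¹ ∈ window g a 1 5 := by
            refine Chain.window_mono le_rfl (by norm_num) (?_ : _ ∈ U1)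
            rw [← h]; exact conj_mem_cn (Chain.gen_mem g a le_rfl (by norm_num))
          have := hn.conj_mem ⟨_, h5le hA⟩ hA ⟨p, hp⟩⁻¹
          rw [mem_subgroupOf] at this
          apply hc.first_not_mem (i := 0) (l := 5) (by norm_num)
          simpa [mul_assoc] using this
      have hP1 : ∀ p ∈ P, cn p U1 = U1 := fun p hp =>
        (hperm p (fun q hq => (mem_normalizer_iff.1 (hC.normal (hC.le_H hp)) q).1 hq) 1 (Or.inr rfl)).resolve_left
          fun h => hne (cn_injective p ((hP0 p hp).trans h.symm))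
      have hnorm : ∀ U, cn x U = U → (∀ p ∈ P, cn p U = U) → H ≤ normalizer (U : Set G) := by
        intro U hxU hpU
        refine hC.gen _ (fun p hp => mem_normalizer_cn fun m hm => ?_)
          fun p hp => mem_normalizer_cn fun m hm => ?_
        · have := conj_mem_cn (y := p) hm
          rwa [hpU p hp] at this
        · have h : cn (x * p * x⁻¹) U = U := by
            rw [← cn_cn, ← cn_cn]
            have : cn x⁻¹ U = U := by conv_lhs => rw [← hxU, cn_cn, inv_mul_cancel, cn_one]
            rw [this, hpU p hp, hxU]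
          have := conj_mem_cn (y := x * p * x⁻¹) hm
          rwa [h] at this
      have hgU : cn g U0 = U1 := by
        refine eq_of_le_of_card_ge (fun z hz => ?_)
          (by rw [card_cn, hU0, hU1, hc.card_window (by norm_num), hc.card_window (by norm_num)])
        have := Chain.cj_mem_window (i := 1) (mem_cn.1 hz)
        simpa [cj, mul_assoc] using this
      rw [hg, ← cn_cn, hx0] at hgU
      have hbot := hC.trivial U0 (hc.window_le_top (by norm_num)) (hnorm U0 hx0 hP0)
        (by rw [hgU]; exact hnorm U1 hx1 hP1)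
      have := hc.card_window (i := 0) (l := 4) (by norm_num)
      rw [← hU0, hbot, card_bot] at this
      norm_num at this
    have hsd : s = d + 1 ∧ (d = 2 ∨ d = 3) := by omega
    obtain ⟨hsd, hd23⟩ := hsd
    have hQelem : ∀ q ∈ Q, q * q = 1 := fun q hq =>
      (elem_window ha hd (l := d) le_rfl (i := 0) (by rwa [show d = s - 1 by omega, hQ])).1
    have hk : N = 2 ^ (d - 2) := by
      have h1 := hN1
      have h2 := hcZ2
      rw [show 2 * d - s = d - 1 by omega] at h1 h2
      rcases hd23 with rfl | rfl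
      · norm_num at h1 h2 ⊢; nlinarith
      · norm_num at h1 h2 ⊢; nlinarith
    set t := cj g d a with ht
    refine ⟨d - 2, t, t * a * t⁻¹ * a⁻¹, Z, by omega, ?_, ?_, by rw [hN, hk], hc.mem_top (by omega), ?_,
      Chain.gen_mul_self ha d, hQelem, hZQ, hHZ, hZfix, ?_, ?_⟩
    · rw [hP, show s = d - 2 + 3 by omega, pow_add]; ring
    · rw [hQc, show s - 1 = d - 2 + 2 by omega, pow_add]; ring
    · rw [← hQ, show s - 1 = d by omega]
      simpa using hc.last_not_mem (i := 0) (l := d) (by omega)
    · have hlt : Z < Zp := lt_of_le_of_ne inf_le_left fun h => by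
        have h' := hN
        rw [h, hc.card_window (by omega), hk, show 2 * d - s = d - 1 by omega] at h'
        exact absurd (Nat.pow_right_injective le_rfl h') (by omega)
      obtain ⟨e, he1, he2⟩ := SetLike.exists_of_lt hlt
      exact ⟨e, hVQ (hZV he1), (hZP e he1 t (hc.mem_top (by omega))).symm, he2⟩
    · intro q hq
      have hZp' : Zp = window g a 1 (d - 1) := by
        rw [hZp, show s - d = 1 by omega, show 2 * d - s = d - 1 by omega]
      by_cases hqZ : q ∈ Zp
      · left
        rw [← hZP q hqZ t (hc.mem_top (by omega)), mul_inv_cancel_right, mul_inv_cancel]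
      · right
        have hq0 : q ∈ window g a 0 (d - 1 + 1) := by
          rw [show d - 1 + 1 = s - 1 by omega, hQ]; exact hq
        have hm : a * q ∈ Zp := by
          rw [hZp'] at hqZ ⊢
          have hf := hc.first_not_mem (i := 0) (l := d - 1) (by omega)
          rw [cj_zero] at hf
          exact hc.mul_mem_window (by omega) (Chain.window_mono (by omega) (by omega))
            (by simpa [cj_zero] using Chain.gen_mem g a (i := 0) (j := 0) (l := d - 1 + 1) le_rfl (by omega))
            hq0 hf hqZ
        have hcz := hZP _ hm t (hc.mem_top (by omega))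
        have e : q = a * (a * q) := by rw [← mul_assoc, ha, one_mul]
        rw [e, show t * (a * (a * q)) * t⁻¹ = t * a * ((a * q) * t⁻¹) by simp only [mul_assoc]]
        have hcz' : (a * q) * t⁻¹ = t⁻¹ * (a * q) := (Commute.inv_right hcz).eq
        rw [hcz', mul_inv_rev]
        simp only [mul_assoc, mul_inv_cancel_left]

end Config

end Cfsg.Agent.DihedralPushingUp
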