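import Cfsg.Agent.Lib.DihedralPushingUpQuotient

/-!
The dihedral pushing up theorem.
-/

set_option autoImplicit false

namespace Cfsg.Agent.DihedralPushingUpMain

open Subgroup Cfsg Cfsg.Agent.DihedralPushingUp Cfsg.Agent.DihedralPushingUpQuotient

variable {G : Type*} [Group G] [Finite G]

theorem pushing_up (H P : Subgroup G) (y : G) (hO : pCore 2 ↥H ≠ ⊥) (n : ℕ) (hn : 2 ≤ n)
    (hdih : Nonempty (↥H ⧸ pCore 2 ↥H ≃* DihedralGroup n)) (hPH : P ≤ H) (hP : IsPGroup 2 P)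
    (hPsyl : ¬ 2 ∣ P.relIndex H) (hy : cn y P = P)
    (hT : ∀ N : Subgroup G, N ≤ P → H ≤ normalizer (N : Set G) →
      H ≤ normalizer (cn y N : Set G) → N = ⊥) :
    (Nat.card P = 4 ∨ Nat.card P = 8 ∨ Nat.card P = 16) ∧
    (Nonempty (↥H ⧸ oddCore ↥H ≃* Multiplicative (ZMod 2) × Multiplicative (ZMod 2)) ∨
     Nonempty (↥H ⧸ oddCore ↥H ≃* Equiv.Perm (Fin 4)) ∨
     Nonempty (↥H ⧸ oddCore ↥H ≃* Equiv.Perm (Fin 4) × Multiplicative (ZMod 2))) := by
  obtain ⟨e⟩ := hdih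
  have hP' : IsPGroup 2 (P.subgroupOf H) := hP.comap_of_injective _ H.subtype_injective
  obtain ⟨π, x, hF⟩ := exists_frame n hn e (P.subgroupOf H) hP' hPsyl
  set Q := (pCore 2 ↥H).map H.subtype with hQdef
  have hQeq : Q.subgroupOf H = pCore 2 ↥H := comap_map_eq_self_of_injective H.subtype_injective _
  have hQP : Q ≤ P := by
    rintro q ⟨q', hq', rfl⟩
    exact mem_subgroupOf.1 (hF.le_P hq')
  have hQn : (pCore 2 ↥H).Normal := HallCore.pCore_normal 2 ↥H
  have hC : Config H P Q (x : G) y := by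
    refine ⟨hQP, hPH, fun k hk => ?_, ?_, ?_, x.2, ?_, fun L hPL hxL => ?_, ?_, hy, hT⟩
    · refine mem_normalizer_cn ?_
      rintro _ ⟨q, hq, rfl⟩
      exact ⟨⟨k, hk⟩ * q * ⟨k, hk⟩⁻¹, hQn.conj_mem q hq _, by simp⟩
    · have h := hF.index
      rwa [← hQeq, relIndex_subgroupOf hPH] at h
    · exact fun h => hO ((map_eq_bot_iff_of_injective _ H.subtype_injective).1 h)
    · rw [Subgroup.orderOf_coe]; exact hF.x_odd
    · refine subgroupOf_eq_top.1 (hF.gen_conj (fun p hp => hPL hp) fun p hp => ?_)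
      rw [mem_subgroupOf]
      simpa using hxL _ (mem_subgroupOf.1 hp)
    · obtain ⟨p, hp, hxp⟩ := hF.x_ne
      exact ⟨p, mem_subgroupOf.1 hp, fun h => hxp (by rw [mem_subgroupOf]; simpa using h)⟩
  have hcardQ : Nat.card ↥(pCore 2 ↥H) = Nat.card ↥Q :=
    Nat.card_congr (equivMapOfInjective _ _ H.subtype_injective).toEquiv
  rcases hC.main with ⟨hP4, hQ2, hcent, hel⟩ |
    ⟨k, t, c, Z, hk, hP8, hQ4, hZc, htP, htQ, htt, helQ, hZQ, hHZ, hfix, ⟨e', he', hte, heZ⟩, hct⟩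
  · refine ⟨Or.inl hP4, Or.inl (hF.case_four ?_ (hcardQ.trans hQ2) ?_ ?_)⟩
    · rw [Nat.card_congr (subgroupOfEquivOfLe hPH).toEquiv, hP4]
    · intro m q hq
      exact Subtype.ext (hcent _ m.2 _ (mem_map_of_mem _ hq))
    · intro p hp
      exact Subtype.ext (hel _ (mem_subgroupOf.1 hp))
  · have hmem : ∀ u : ↥H, u ∈ pCore 2 ↥H ↔ (u : G) ∈ Q := fun u => by rw [← hQeq, mem_subgroupOf]
    let t' : ↥H := ⟨t, hPH htP⟩
    have hc' : ∃ c' : ↥H, ∀ q ∈ pCore 2 ↥H,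
        t' * q * t'⁻¹ * q⁻¹ = 1 ∨ t' * q * t'⁻¹ * q⁻¹ = c' := by
      by_cases h : ∀ q ∈ pCore 2 ↥H, t' * q * t'⁻¹ * q⁻¹ = 1
      · exact ⟨1, fun q hq => Or.inl (h q hq)⟩
      · push_neg at h
        obtain ⟨q0, hq0, hne⟩ := h
        refine ⟨t' * q0 * t'⁻¹ * q0⁻¹, fun q hq => ?_⟩
        by_cases h1 : t' * q * t'⁻¹ * q⁻¹ = 1
        · exact Or.inl h1
        · right
          have e1 := (hct _ ((hmem q).1 hq)).resolve_left fun h2 => h1 (Subtype.ext (by simpa [t'] using h2))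
          have e2 := (hct _ ((hmem q0).1 hq0)).resolve_left fun h2 => hne (Subtype.ext (by simpa [t'] using h2))
          exact Subtype.ext (by simpa [t'] using e1.trans e2.symm)
    obtain ⟨c', hc'⟩ := hc'
    have hD : Frame.Data n π (P.subgroupOf H) x t' c' (Z.subgroupOf H) k :=
      { frame := hF
        k_le := hk
        card_Q := hcardQ.trans hQ4
        card_Z := by
          rw [Nat.card_congr (subgroupOfEquivOfLe (hZQ.trans (hQP.trans hPH))).toEquiv, hZc]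
        t_mem := htP
        t_not := fun h => htQ ((hmem _).1 h)
        t_sq := Subtype.ext htt
        elem := fun q hq => Subtype.ext (helQ _ ((hmem q).1 hq))
        Z_le := fun z hz => (hmem z).2 (hZQ hz)
        Z_cent := fun m z hz => Subtype.ext (hHZ _ m.2 _ hz)
        fix_le := fun q hq h => hfix _ ((hmem q).1 hq) fun m hm => congrArg Subtype.val (h ⟨m, hm⟩)
        moved := ⟨⟨e', hPH (hQP he')⟩, (hmem _).2 he', Subtype.ext hte, heZ⟩
        comm_t := hc' }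
    obtain ⟨h0, h1⟩ := Frame.case_sym hD
    interval_cases k
    · exact ⟨Or.inr (Or.inl (by rw [hP8]; norm_num)), Or.inr (Or.inl (h0 rfl))⟩
    · exact ⟨Or.inr (Or.inr (by rw [hP8]; norm_num)), Or.inr (Or.inr (h1 rfl))⟩

end Cfsg.Agent.DihedralPushingUpMain
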