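import Mathlib
import Cfsg.Prelude.Def_CaseTheorems
import Cfsg.Agent.Lib.HallCore
import Cfsg.Agent.Lib.SmallGroupS4
import Cfsg.Agent.Lib.DihedralPushingUp

/-!
The groups in the dihedral pushing up theorem: `H / O(H)` is a four-group, `S₄` or `S₄ × C₂`.
-/

set_option autoImplicit false

namespace Cfsg.Agent.DihedralPushingUpQuotient

open Subgroup Cfsg

variable {K : Type*} [Group K]

/-- `U ∪ U t` for an involution `t` normalising `U`. -/
def adjoinInv (U : Subgroup K) (t : K) (ht : t * t = 1) (hn : ∀ u ∈ U, t * u * t ∈ U) : Subgroup K where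
  carrier := {z | z ∈ U ∨ z * t ∈ U}
  one_mem' := Or.inl (one_mem _)
  mul_mem' := by
    have htt : ∀ z : K, t * (t * z) = z := fun z => by rw [← mul_assoc, ht, one_mul]
    rintro a b (ha | ha) (hb | hb)
    · exact Or.inl (mul_mem ha hb)
    · exact Or.inr (by rw [mul_assoc]; exact mul_mem ha hb)
    · exact Or.inr (by simpa [mul_assoc, htt] using mul_mem ha (hn b hb))
    · exact Or.inl (by simpa [mul_assoc, htt, ht] using mul_mem ha (hn _ hb))
  inv_mem' := by
    have hti : t⁻¹ = t := inv_eq_of_mul_eq_one_right ht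
    have htt : ∀ z : K, t * (t * z) = z := fun z => by rw [← mul_assoc, ht, one_mul]
    rintro a (ha | ha)
    · exact Or.inl (inv_mem ha)
    · refine Or.inr ?_
      simpa [mul_assoc, hti, htt, ht] using hn _ (inv_mem ha)

theorem exists_compl [Finite K] {Q : Subgroup K} (hel : ∀ q ∈ Q, q * q = 1) {c z : K}
    (hc : c ∈ Q) (hz : z ∈ Q) (hz1 : z ≠ 1) (hcz : c ≠ z) :
    ∃ U : Subgroup K, U ≤ Q ∧ c ∈ U ∧ z ∉ U ∧ ∀ q ∈ Q, q ∈ U ∨ q * z ∈ U := by
  have hcomm : ∀ a ∈ Q, ∀ b ∈ Q, a * b = b * a := fun a ha b hb => by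
    have h : ∀ u ∈ Q, u⁻¹ = u := fun u hu => inv_eq_of_mul_eq_one_right (hel u hu)
    calc a * b = (a * b)⁻¹ := (h _ (mul_mem ha hb)).symm
      _ = b * a := by rw [mul_inv_rev, h a ha, h b hb]
  have hbase : Subgroup.zpowers c ≤ Q ∧ z ∉ Subgroup.zpowers c := by
    refine ⟨zpowers_le.2 hc, fun h => ?_⟩
    obtain ⟨j, rfl⟩ := mem_zpowers_iff.1 h
    have h2 : c ^ (2 : ℤ) = 1 := by rw [zpow_ofNat, pow_two, hel c hc]
    rcases Int.even_or_odd' j with ⟨m, rfl | rfl⟩
    · exact hz1 (by rw [zpow_mul, h2, one_zpow])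
    · exact hcz (by rw [zpow_add, zpow_mul, h2, one_zpow, one_mul, zpow_one])
  obtain ⟨U, hU1, hU2⟩ := Finite.exists_le_maximal
    (p := fun U : Subgroup K => U ≤ Q ∧ z ∉ U) hbase
  refine ⟨U, hU2.prop.1, hU1 (mem_zpowers c), hU2.prop.2, fun q hq => ?_⟩
  by_cases hqU : q ∈ U
  · exact Or.inl hqU
  · right
    let V := adjoinInv U q (hel q hq) fun u hu => by
      rwa [hcomm q hq u (hU2.prop.1 hu), mul_assoc, hel q hq, mul_one]
    have hUV : U ≤ V := fun u hu => Or.inl hu
    by_contra hne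
    have hVQ : V ≤ Q := by
      rintro v (hv | hv)
      · exact hU2.prop.1 hv
      · exact (mul_mem_cancel_right hq).1 (hU2.prop.1 hv)
    have hzV : z ∉ V := by
      rintro (h | h)
      · exact hU2.prop.2 h
      · exact hne (by rwa [hcomm q hq z hz])
    have hqV : q ∈ V := Or.inr (by rw [hel q hq]; exact one_mem _)
    exact hqU (hU2.le_of_ge ⟨hVQ, hzV⟩ hUV hqV)

variable [Finite K]

/-- `K / O₂(K)` dihedral of order `2 n`, with a chosen element `x` of order `n`. -/
structure Frame (n : ℕ) (π : K →* DihedralGroup n) (P : Subgroup K) (x : K) : Prop where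
  surj : Function.Surjective π
  ker : π.ker = pCore 2 K
  odd : Odd n
  three : 3 ≤ n
  le_P : pCore 2 K ≤ P
  index : (pCore 2 K).relIndex P = 2
  p_group : IsPGroup 2 P
  x_pow : x ^ n = 1
  x_img : π x = DihedralGroup.r 1

theorem exists_frame (n : ℕ) (hn : 2 ≤ n) (e : K ⧸ pCore 2 K ≃* DihedralGroup n) (P : Subgroup K)
    (hP : IsPGroup 2 P) (hPsyl : ¬ 2 ∣ P.index) :
    ∃ (π : K →* DihedralGroup n) (x : K), Frame n π P x := by
  have : Fact (Nat.Prime 2) := ⟨Nat.prime_two⟩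
  have : NeZero n := ⟨by omega⟩
  set π := e.toMonoidHom.comp (QuotientGroup.mk' (pCore 2 K)) with hπ
  have hsurj : Function.Surjective π := e.surjective.comp (QuotientGroup.mk'_surjective _)
  have hker : π.ker = pCore 2 K := by
    ext k
    simp [hπ, MonoidHom.mem_ker]
  have hodd : Odd n := by
    rw [← Nat.not_even_iff_odd]
    rintro ⟨m, hm⟩
    set z : DihedralGroup n := DihedralGroup.r (m : ZMod n) with hz
    have hmm : (m : ZMod n) + m = 0 := by rw [← Nat.cast_add, ← hm, ZMod.natCast_self]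
    have hneg : -(m : ZMod n) = m := neg_eq_of_add_eq_zero_left hmm
    have hcent : ∀ d, d * z = z * d := by
      rintro (i | i)
      · simp [hz, add_comm]
      · simp [hz, sub_eq_add_neg, hneg]
    have : (zpowers z).Normal := ⟨fun u hu d => by
      obtain ⟨j, rfl⟩ := mem_zpowers_iff.1 hu
      rw [((show Commute d z from hcent d).zpow_right j).eq, mul_inv_cancel_right]
      exact zpow_mem (mem_zpowers z) j⟩
    have hz2 : IsPGroup 2 (zpowers z) := by
      refine IsPGroup.iff_card.2 ?_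
      have hdvd : orderOf z ∣ 2 := orderOf_dvd_of_pow_eq_one (by simp [hz, pow_two, hmm])
      rw [Nat.card_zpowers]
      exact ((Nat.dvd_prime_pow Nat.prime_two (m := 1)).1 (by simpa using hdvd)).imp fun _ h => h.2
    have hbot : pCore 2 (DihedralGroup n) = ⊥ := by
      have h1 := HallCore.le_pCore (p := 2) (N := (pCore 2 (DihedralGroup n)).comap e.toMonoidHom)
        ((HallCore.isPGroup_pCore 2 (DihedralGroup n)).comap_of_injective _ e.injective)
      rw [HallCore.pCore_quotient_self, le_bot_iff] at h1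
      rw [← map_comap_eq_self_of_surjective (f := e.toMonoidHom) e.surjective (pCore 2 (DihedralGroup n)),
        h1, Subgroup.map_bot]
    have hzbot := HallCore.le_pCore hz2
    rw [hbot, le_bot_iff, zpowers_eq_bot, hz, DihedralGroup.one_def, DihedralGroup.r.injEq,
      ZMod.natCast_eq_zero_iff] at hzbot
    have := Nat.le_of_dvd (by omega) hzbot
    omega
  have hthree : 3 ≤ n := by obtain ⟨j, hj⟩ := hodd; omega
  let S : Sylow 2 K := hP.toSylow hPsyl
  have hle : pCore 2 K ≤ P := HallCore.pCore_le_sylow S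
  have hrot : ∀ (k : K) (i : ZMod n), k ∈ P → π k = DihedralGroup.r i → i = 0 := by
    intro k i hk hki
    obtain ⟨j, hj⟩ := hP ⟨k, hk⟩
    have h1 : orderOf (π k) ∣ 2 ^ j :=
      (orderOf_map_dvd π k).trans (orderOf_dvd_of_pow_eq_one (by simpa using congrArg Subtype.val hj))
    have h2 : orderOf (π k) ∣ n := orderOf_dvd_of_pow_eq_one (by simp [hki])
    have hco : Nat.Coprime (2 ^ j) n := (Nat.coprime_two_left.2 hodd).pow_left j
    have h3 : π k = 1 := orderOf_eq_one_iff.1 (Nat.eq_one_of_dvd_coprimes hco h1 h2)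
    rw [hki, DihedralGroup.one_def, DihedralGroup.r.injEq] at h3
    exact h3
  obtain ⟨p, hp, hpQ⟩ : ∃ p ∈ P, p ∉ pCore 2 K := by
    by_contra hne
    push_neg at hne
    apply hPsyl
    rw [le_antisymm hne hle, ← hker, index_ker, MonoidHom.range_eq_top_of_surjective _ hsurj,
      Subgroup.card_top, DihedralGroup.nat_card]
    exact dvd_mul_right 2 n
  have hsr : ∀ q ∈ P, q ∉ pCore 2 K → ∃ i, π q = DihedralGroup.sr i := by
    intro q hq hqQ
    rcases hπq : π q with i | i
    · exfalso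
      apply hqQ
      rw [← hker, MonoidHom.mem_ker, hπq, hrot q i hq hπq, DihedralGroup.r_zero]
    · exact ⟨i, rfl⟩
  have hidx : (pCore 2 K).relIndex P = 2 := by
    rw [Subgroup.relIndex, index_eq_two_iff]
    refine ⟨⟨p, hp⟩, fun b => ?_⟩
    simp only [mem_subgroupOf, coe_mul]
    rw [xor_iff_not_iff]
    intro hiff
    by_cases hb : (b : K) ∈ pCore 2 K
    · exact hpQ ((mul_mem_cancel_left hb).1 (hiff.2 hb))
    · obtain ⟨i, hi⟩ := hsr _ b.2 hb
      obtain ⟨j, hj⟩ := hsr _ hp hpQ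
      apply hb (hiff.1 ?_)
      have h1 : π (↑b * p) = DihedralGroup.r (j - i) := by simp [hi, hj]
      rw [← hker, MonoidHom.mem_ker, h1, hrot _ _ (mul_mem b.2 hp) h1, DihedralGroup.r_zero]
  obtain ⟨x0, hx0⟩ := hsurj (DihedralGroup.r 1)
  obtain ⟨a, ha⟩ := HallCore.card_pCore 2 K
  set m := 2 ^ a * (((2 ^ a : ℕ) : ZMod n)⁻¹).val with hm
  refine ⟨π, x0 ^ m, hsurj, hker, hodd, hthree, hle, hidx, hP, ?_, ?_⟩
  · have h1 : x0 ^ n ∈ pCore 2 K := by rw [← hker, MonoidHom.mem_ker, map_pow, hx0]; simp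
    have h2 : (x0 ^ n) ^ (2 ^ a) = 1 := by
      rw [← ha]
      exact orderOf_dvd_iff_pow_eq_one.1 (orderOf_dvd_natCard _ h1)
    rw [← pow_mul, mul_comm m n, hm, ← mul_assoc, pow_mul, pow_mul, h2, one_pow]
  · rw [map_pow, hx0, DihedralGroup.r_one_pow, hm, Nat.cast_mul, ZMod.natCast_zmod_val,
      ZMod.coe_mul_inv_eq_one _ ((Nat.coprime_two_left.2 hodd).pow_left a)]

namespace Frame

variable {n : ℕ} {π : K →* DihedralGroup n} {P : Subgroup K} {x : K}

omit [Finite K] in
theorem neZero (hF : Frame n π P x) : NeZero n := ⟨by have := hF.three; omega⟩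

omit [Finite K] in
theorem orderOf_x (hF : Frame n π P x) : orderOf x = n := by
  refine Nat.dvd_antisymm (orderOf_dvd_of_pow_eq_one hF.x_pow) ?_
  have := orderOf_map_dvd π x
  rwa [hF.x_img, DihedralGroup.orderOf_r_one] at this

omit [Finite K] in
theorem x_odd (hF : Frame n π P x) : Odd (orderOf x) := by rw [hF.orderOf_x]; exact hF.odd

omit [Finite K] in
theorem img_pow (hF : Frame n π P x) (j : ℕ) : π (x ^ j) = DihedralGroup.r (j : ZMod n) := by
  rw [map_pow, hF.x_img, DihedralGroup.r_one_pow]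

omit [Finite K] in
theorem mem_core (hF : Frame n π P x) {k : K} : k ∈ pCore 2 K ↔ π k = 1 := by
  rw [← hF.ker, MonoidHom.mem_ker]

omit [Finite K] in
theorem decomp (hF : Frame n π P x) {k : K} {i : ZMod n} (h : π k = DihedralGroup.r i) :
    k * (x ^ i.val)⁻¹ ∈ pCore 2 K := by
  have := hF.neZero
  rw [hF.mem_core, map_mul, map_inv, hF.img_pow, h, ZMod.natCast_zmod_val, mul_inv_cancel]

omit [Finite K] in
theorem exists_refl (hF : Frame n π P x) :
    ∃ p ∈ P, p ∉ pCore 2 K := by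
  by_contra hne
  push_neg at hne
  have h := hF.index
  rw [le_antisymm hne hF.le_P, relIndex_self] at h
  omega

theorem eq_one_of_pow (hF : Frame n π P x) {q : K} (hq : q ∈ pCore 2 K) (h : q ^ n = 1) : q = 1 := by
  obtain ⟨j, hj⟩ := hF.p_group ⟨q, hF.le_P hq⟩
  refine orderOf_eq_one_iff.1 (Nat.eq_one_of_dvd_coprimes ((Nat.coprime_two_left.2 hF.odd).pow_left j)
    (orderOf_dvd_of_pow_eq_one (by simpa using congrArg Subtype.val hj)) (orderOf_dvd_of_pow_eq_one h))

theorem img_refl (hF : Frame n π P x) {p : K} (hp : p ∈ P) (hpQ : p ∉ pCore 2 K) :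
    ∃ i, π p = DihedralGroup.sr i := by
  rcases hπ : π p with i | i
  · exfalso
    apply hpQ
    obtain ⟨j, hj⟩ := hF.p_group ⟨p, hp⟩
    have h1 : orderOf (π p) ∣ 2 ^ j :=
      (orderOf_map_dvd π p).trans (orderOf_dvd_of_pow_eq_one (by simpa using congrArg Subtype.val hj))
    have h2 : orderOf (π p) ∣ n := orderOf_dvd_of_pow_eq_one (by simp [hπ])
    rw [hF.mem_core]
    exact orderOf_eq_one_iff.1 (Nat.eq_one_of_dvd_coprimes ((Nat.coprime_two_left.2 hF.odd).pow_left j) h1 h2)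
  · exact ⟨i, rfl⟩

theorem gen (hF : Frame n π P x) {L : Subgroup K} (hP : P ≤ L) (hx : x ∈ L) : L = ⊤ := by
  have := hF.neZero
  obtain ⟨p, hp, hpQ⟩ := hF.exists_refl
  obtain ⟨i₀, hi₀⟩ := hF.img_refl hp hpQ
  refine eq_top_iff.2 fun k _ => ?_
  rcases hπ : π k with i | i
  · have := mul_mem (hP (hF.le_P (hF.decomp hπ))) (pow_mem hx i.val)
    rwa [inv_mul_cancel_right] at this
  · have h1 : π (k * p) = DihedralGroup.r (i₀ - i) := by simp [hπ, hi₀]
    have := mul_mem (hP (hF.le_P (hF.decomp h1))) (pow_mem hx (i₀ - i).val)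
    rw [inv_mul_cancel_right] at this
    exact (mul_mem_cancel_right (hP hp)).1 this

theorem gen_conj (hF : Frame n π P x) {L : Subgroup K} (hP : P ≤ L)
    (hx : ∀ p ∈ P, x * p * x⁻¹ ∈ L) : L = ⊤ := by
  refine hF.gen hP ?_
  obtain ⟨p, hp, hpQ⟩ := hF.exists_refl
  obtain ⟨i, hi⟩ := hF.img_refl hp hpQ
  set u := x * p * x⁻¹ * p⁻¹ with hu
  have huL : u ∈ L := mul_mem (hx p hp) (inv_mem (hP hp))
  have hπu : π u = π (x ^ 2) := by
    rw [hu, hF.img_pow]
    simp only [map_mul, map_inv, hi, hF.x_img, DihedralGroup.inv_r, DihedralGroup.inv_sr,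
      DihedralGroup.r_mul_sr, DihedralGroup.sr_mul_r, DihedralGroup.sr_mul_sr, Nat.cast_ofNat]
    congr 1
    ring
  have hq : u⁻¹ * x ^ 2 ∈ L := hP (hF.le_P (by rw [hF.mem_core, map_mul, map_inv, hπu, inv_mul_cancel]))
  have hx2 : x ^ 2 ∈ L := by simpa using mul_mem huL hq
  obtain ⟨j, hj⟩ := hF.x_odd
  have hx' : x = (x ^ 2) ^ (j + 1) := by
    rw [← pow_mul, show 2 * (j + 1) = orderOf x + 1 by omega, pow_succ, pow_orderOf_eq_one, one_mul]
  rw [hx']
  exact pow_mem hx2 _

theorem x_ne (hF : Frame n π P x) : ∃ p ∈ P, x * p * x⁻¹ ∉ P := by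
  by_contra h
  push_neg at h
  have htop := hF.gen_conj le_rfl h
  obtain ⟨j, hj⟩ := hF.p_group ⟨x, by rw [htop]; trivial⟩
  have h1 : orderOf x = 1 := Nat.eq_one_of_dvd_coprimes ((Nat.coprime_two_left.2 hF.odd).pow_left j)
    (orderOf_dvd_of_pow_eq_one (by simpa using congrArg Subtype.val hj)) (by rw [hF.orderOf_x])
  have := hF.three
  rw [hF.orderOf_x] at h1
  omega

theorem card_eq (hF : Frame n π P x) : Nat.card K = Nat.card ↥(pCore 2 K) * (2 * n) := by
  rw [← card_mul_index (pCore 2 K), ← hF.ker, index_ker, MonoidHom.range_eq_top_of_surjective _ hF.surj,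
    Subgroup.card_top, DihedralGroup.nat_card]

theorem zpowers_normal (hF : Frame n π P x) (j : ℕ)
    (hj : ∀ q ∈ pCore 2 K, Commute q (x ^ j)) : (zpowers (x ^ j)).Normal := by
  have key : ∀ k : K, k * x ^ j * k⁻¹ ∈ zpowers (x ^ j) := by
    intro k
    have hπ : π (k * x ^ j * k⁻¹) = π (x ^ j) ∨ π (k * x ^ j * k⁻¹) = π ((x ^ j)⁻¹) := by
      rw [map_mul, map_mul, map_inv, map_inv, hF.img_pow]
      rcases π k with i | i
      · left; simp
      · right; simp
    have main : ∀ z, z ∈ zpowers (x ^ j) → π (k * x ^ j * k⁻¹) = π z → k * x ^ j * k⁻¹ = z := by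
      intro z hz hπz
      obtain ⟨l, rfl⟩ := mem_zpowers_iff.1 hz
      have hzn : ((x ^ j) ^ l) ^ n = 1 := by
        rw [← zpow_natCast, ← zpow_mul, mul_comm, zpow_mul, zpow_natCast, ← pow_mul, mul_comm, pow_mul,
          hF.x_pow, one_pow, one_zpow]
      have hq : k * x ^ j * k⁻¹ * ((x ^ j) ^ l)⁻¹ ∈ pCore 2 K := by
        rw [hF.mem_core, map_mul, map_inv π ((x ^ j) ^ l), hπz, mul_inv_cancel]
      have hc : Commute (k * x ^ j * k⁻¹ * ((x ^ j) ^ l)⁻¹) ((x ^ j) ^ l) := (hj _ hq).zpow_right l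
      refine mul_inv_eq_one.1 (hF.eq_one_of_pow hq ?_)
      have h2 := hc.mul_pow n
      rwa [inv_mul_cancel_right, conj_pow, ← pow_mul, mul_comm j n, pow_mul, hF.x_pow, one_pow, mul_one,
        mul_inv_cancel, hzn, mul_one, eq_comm] at h2
    rcases hπ with h | h
    · rw [main _ (mem_zpowers _) h]; exact mem_zpowers _
    · rw [main _ (inv_mem (mem_zpowers _)) h]; exact inv_mem (mem_zpowers _)
  refine ⟨fun z hz k => ?_⟩
  obtain ⟨l, rfl⟩ := mem_zpowers_iff.1 hz
  rw [← conj_zpow]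
  exact zpow_mem (key k) l

theorem zpowers_le_oddCore (hF : Frame n π P x) (j : ℕ)
    (hj : ∀ q ∈ pCore 2 K, Commute q (x ^ j)) : zpowers (x ^ j) ≤ oddCore K := by
  have := hF.zpowers_normal j hj
  refine HallCore.le_pPrimeCore ?_
  rw [Nat.card_zpowers]
  have h1 : orderOf (x ^ j) ∣ n := hF.orderOf_x ▸ orderOf_pow_dvd j
  exact Nat.coprime_two_right.2 (Odd.of_dvd_nat hF.odd h1)

theorem oddCore_mem (hF : Frame n π P x) {o : K} (ho : o ∈ oddCore K) :
    ∃ j : ℕ, o = x ^ j ∧ ∀ q ∈ pCore 2 K, Commute q (x ^ j) := by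
  have : Fact (Nat.Prime 2) := ⟨Nat.prime_two⟩
  have := hF.neZero
  have hcom : ∀ q ∈ pCore 2 K, Commute q o := fun q hq => HallCore.commute_pCore_pPrimeCore hq ho
  have hodd : Odd (orderOf o) :=
    Odd.of_dvd_nat (Nat.coprime_two_right.1 (HallCore.coprime_card_pPrimeCore 2 K))
      (orderOf_dvd_natCard _ ho)
  rcases hπ : π o with i | i
  · have hq := hF.decomp hπ
    set q := o * (x ^ i.val)⁻¹ with hqdef
    have hxi : x ^ i.val = q⁻¹ * o := by rw [hqdef]; group
    have hqx : Commute q (x ^ i.val) := hxi ▸ ((Commute.refl q).inv_right.mul_right (hcom q hq))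
    have hq1 : q = 1 := by
      refine hF.eq_one_of_pow hq ?_
      have ho_eq : o = q * x ^ i.val := by rw [hqdef]; group
      have h1 : o ^ n = q ^ n := by
        rw [ho_eq, hqx.mul_pow, ← pow_mul, mul_comm, pow_mul, hF.x_pow, one_pow, mul_one]
      have h2 : orderOf (q ^ n) ∣ orderOf o := by rw [← h1]; exact orderOf_pow_dvd n
      obtain ⟨j, hj⟩ := hF.p_group ⟨q ^ n, hF.le_P (pow_mem hq n)⟩
      exact orderOf_eq_one_iff.1 (Nat.eq_one_of_dvd_coprimes ((Nat.coprime_two_left.2 hodd).pow_left j)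
        (orderOf_dvd_of_pow_eq_one (by simpa using congrArg Subtype.val hj)) h2)
    rw [hq1, inv_one, one_mul] at hxi
    exact ⟨i.val, hxi.symm, fun u hu => hxi ▸ hcom u hu⟩
  · exfalso
    have h1 := orderOf_map_dvd π o
    rw [hπ, DihedralGroup.orderOf_sr] at h1
    have h2 := Nat.odd_iff.1 (Odd.of_dvd_nat hodd h1)
    omega

/-- The four-group case. -/
theorem case_four (hF : Frame n π P x) (hP4 : Nat.card ↥P = 4) (hQ : Nat.card ↥(pCore 2 K) = 2)
    (hcent : ∀ k : K, ∀ q ∈ pCore 2 K, k * q = q * k) (hel : ∀ p ∈ P, p * p = 1) :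
    Nonempty (K ⧸ oddCore K ≃* Multiplicative (ZMod 2) × Multiplicative (ZMod 2)) := by
  have hO : oddCore K = zpowers x := by
    refine le_antisymm (fun o ho => ?_) ?_
    · obtain ⟨j, rfl, -⟩ := hF.oddCore_mem ho
      exact pow_mem (mem_zpowers x) j
    · have := hF.zpowers_le_oddCore 1 fun q hq => (hcent _ q hq).symm
      rwa [pow_one] at this
  have hidx : Nat.card (K ⧸ oddCore K) = 4 := by
    have h1 := card_mul_index (oddCore K)
    rw [Subgroup.index_eq_card, hO, Nat.card_zpowers, hF.orderOf_x, hF.card_eq, hQ] at h1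
    rw [hO]
    have := hF.three
    nlinarith
  have hbij : Function.Bijective ((QuotientGroup.mk' (oddCore K)).comp P.subtype) := by
    refine (Nat.bijective_iff_injective_and_card _).2 ⟨?_, by rw [hP4, hidx]⟩
    rw [← MonoidHom.ker_eq_bot_iff, eq_bot_iff]
    intro p hp
    rw [MonoidHom.mem_ker, MonoidHom.comp_apply, QuotientGroup.mk'_apply, QuotientGroup.eq_one_iff] at hp
    have h1 : orderOf (p : K) ∣ Nat.card ↥(oddCore K) := orderOf_dvd_natCard _ hp
    have h2 : orderOf (p : K) ∣ 2 := orderOf_dvd_of_pow_eq_one (by rw [pow_two]; exact hel _ p.2)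
    exact mem_bot.2 (Subtype.ext (orderOf_eq_one_iff.1
      (Nat.eq_one_of_dvd_coprimes (HallCore.coprime_card_pPrimeCore 2 K) h1 h2)))
  have : IsKleinFour (K ⧸ oddCore K) := by
    refine ⟨hidx, ?_⟩
    have hdvd : Monoid.exponent (K ⧸ oddCore K) ∣ 2 := Monoid.exponent_dvd_of_forall_pow_eq_one fun u => by
      obtain ⟨p, rfl⟩ := hbij.2 u
      rw [← map_pow, pow_two, show p * p = 1 from Subtype.ext (hel _ p.2), map_one]
    rcases (Nat.dvd_prime Nat.prime_two).1 hdvd with h | h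
    · have := Monoid.exp_eq_one_iff.1 h
      rw [Nat.card_of_subsingleton (1 : K ⧸ oddCore K)] at hidx
      omega
    · exact h
  have : IsKleinFour (Multiplicative (ZMod 2) × Multiplicative (ZMod 2)) :=
    ⟨by simp, by simp [Monoid.exponent_prod]⟩
  exact IsKleinFour.nonempty_mulEquiv

theorem exists_psi (hn3 : 3 ∣ n) :
    ∃ ψ : DihedralGroup n →* DihedralGroup 3, (∀ i, ψ (DihedralGroup.r i) = DihedralGroup.r (ZMod.castHom hn3 (ZMod 3) i)) ∧
      ∀ i, ψ (DihedralGroup.sr i) = DihedralGroup.sr (ZMod.castHom hn3 (ZMod 3) i) := by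
  refine ⟨{ toFun := fun d => match d with
              | .r i => .r (ZMod.castHom hn3 (ZMod 3) i)
              | .sr i => .sr (ZMod.castHom hn3 (ZMod 3) i)
            map_one' := by rw [DihedralGroup.one_def]; simp only [map_zero]; rfl
            map_mul' := ?_ }, fun i => rfl, fun i => rfl⟩
  rintro (i | i) (j | j) <;> simp only [DihedralGroup.r_mul_r, DihedralGroup.r_mul_sr,
    DihedralGroup.sr_mul_r, DihedralGroup.sr_mul_sr, map_add, map_sub]

/-- Data of the non-central case. -/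
structure Data (n : ℕ) (π : K →* DihedralGroup n) (P : Subgroup K) (x t c : K) (Z : Subgroup K) (k : ℕ) :
    Prop where
  frame : Frame n π P x
  k_le : k ≤ 1
  card_Q : Nat.card ↥(pCore 2 K) = 4 * 2 ^ k
  card_Z : Nat.card ↥Z = 2 ^ k
  t_mem : t ∈ P
  t_not : t ∉ pCore 2 K
  t_sq : t * t = 1
  elem : ∀ q ∈ pCore 2 K, q * q = 1
  Z_le : Z ≤ pCore 2 K
  Z_cent : ∀ m : K, ∀ z ∈ Z, m * z = z * m
  fix_le : ∀ q ∈ pCore 2 K, (∀ m : K, m * q = q * m) → q ∈ Z
  moved : ∃ e ∈ pCore 2 K, t * e = e * t ∧ e ∉ Z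
  comm_t : ∀ q ∈ pCore 2 K, t * q * t⁻¹ * q⁻¹ = 1 ∨ t * q * t⁻¹ * q⁻¹ = c

variable {t c : K} {Z : Subgroup K} {k : ℕ}

theorem case_sym (hD : Data n π P x t c Z k) :
    (k = 0 → Nonempty (K ⧸ oddCore K ≃* Equiv.Perm (Fin 4))) ∧
    (k = 1 → Nonempty (K ⧸ oddCore K ≃* Equiv.Perm (Fin 4) × Multiplicative (ZMod 2))) := by
  have : Fact (Nat.Prime 2) := ⟨Nat.prime_two⟩
  set Q := pCore 2 K with hQdef
  set O := oddCore K with hOdef
  have hF := hD.frame
  have := hF.neZero
  have : Z.Normal := ⟨fun z hz m => by rw [hD.Z_cent m z hz, mul_inv_cancel_right]; exact hz⟩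
  have hQn : Q.Normal := HallCore.pCore_normal 2 K
  have hcomm : ∀ a ∈ Q, ∀ b ∈ Q, a * b = b * a := fun a ha b hb => by
    have h : ∀ u ∈ Q, u⁻¹ = u := fun u hu => inv_eq_of_mul_eq_one_right (hD.elem u hu)
    calc a * b = (a * b)⁻¹ := (h _ (mul_mem ha hb)).symm
      _ = b * a := by rw [mul_inv_rev, h a ha, h b hb]
  have hPQ : ∀ p ∈ P, p ∈ Q ∨ p * t ∈ Q := fun p hp => by
    by_cases hpQ : p ∈ Q
    · exact Or.inl hpQ
    · have h := mul_mem_iff_of_index_two hF.index (a := ⟨p, hp⟩) (b := ⟨t, hD.t_mem⟩)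
      simp only [mem_subgroupOf, coe_mul] at h
      exact Or.inr (h.2 ⟨fun h' => absurd h' hpQ, fun h' => absurd h' hD.t_not⟩)
  have hPle : ∀ L : Subgroup K, Q ≤ L → t ∈ L → P ≤ L := fun L hQL htL p hp =>
    (hPQ p hp).elim (fun h => hQL h) fun h => (mul_mem_cancel_right htL).1 (hQL h)
  have fix : ∀ q ∈ Q, t * q = q * t → x * q = q * x → q ∈ Z := by
    intro q hq htq hxq
    refine hD.fix_le q hq fun m => ?_
    have h := hF.gen (L := centralizer {q})
      (hPle _ (fun u hu => mem_centralizer_singleton_iff.2 (hcomm u hu q hq))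
        (mem_centralizer_singleton_iff.2 htq)) (mem_centralizer_singleton_iff.2 hxq)
    exact mem_centralizer_singleton_iff.1 (h ▸ mem_top m : m ∈ centralizer {q})
  have hxnc : ¬ ∀ q ∈ Q, x * q = q * x := fun h => by
    obtain ⟨e, he, hte, heZ⟩ := hD.moved
    exact heZ (fix e he hte (h e he))
  have iter : ∀ j : ℕ, (∀ q ∈ Q, x ^ j * q * (x ^ j)⁻¹ * q⁻¹ ∈ Z) → ∀ q ∈ Q, Commute q (x ^ j) := by
    intro j hj q hq
    set z := x ^ j * q * (x ^ j)⁻¹ * q⁻¹ with hz
    have hzq : x ^ j * q * (x ^ j)⁻¹ = z * q := by rw [hz]; group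
    have hzZ := hj q hq
    have key : ∀ i : ℕ, (x ^ j) ^ i * q * ((x ^ j) ^ i)⁻¹ = z ^ i * q := by
      intro i
      induction i with
      | zero => simp
      | succ i ih =>
        rw [pow_succ' (x ^ j), mul_inv_rev,
          show x ^ j * (x ^ j) ^ i * q * (((x ^ j) ^ i)⁻¹ * (x ^ j)⁻¹) =
            x ^ j * ((x ^ j) ^ i * q * ((x ^ j) ^ i)⁻¹) * (x ^ j)⁻¹ by group, ih,
          ← mul_assoc (x ^ j), hD.Z_cent (x ^ j) _ (pow_mem hzZ i), mul_assoc (z ^ i), mul_assoc (z ^ i),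
          hzq, ← mul_assoc, pow_succ z i]
    have h1 := key n
    rw [← pow_mul, mul_comm j n, pow_mul, hF.x_pow, one_pow, one_mul, inv_one, mul_one,
      right_eq_mul] at h1
    have hz1 : z = 1 := hF.eq_one_of_pow (hD.Z_le hzZ) h1
    rw [hz1, one_mul, mul_inv_eq_iff_eq_mul] at hzq
    exact hzq.symm
  -- commutators of `t` avoid `Z`
  obtain ⟨q₀, hq₀, hq₀Z⟩ : ∃ q ∈ Q, t * q * t⁻¹ * q⁻¹ ∉ Z := by
    by_contra hne
    push_neg at hne
    let L : Subgroup K :=
      { carrier := {m | ∀ q ∈ Q, m * q * m⁻¹ * q⁻¹ ∈ Z}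
        one_mem' := fun q _ => by simp [one_mem]
        mul_mem' := fun {a b} ha hb q hq => by
          have h1 := mul_mem (ha _ (hQn.conj_mem q hq b)) (hb q hq)
          simpa [mul_assoc] using h1
        inv_mem' := fun {a} ha q hq => by
          have h1 := inv_mem (ha _ (hQn.conj_mem q hq a⁻¹))
          simpa [mul_assoc] using h1 }
    have hPL : P ≤ L := hPle L (fun u hu q hq => by
      rw [hcomm u hu q hq, mul_inv_cancel_right, mul_inv_cancel]; exact one_mem _) hne
    have htop : L = ⊤ := hF.gen_conj hPL fun p hp q hq => by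
      have h1 := hPL hp _ (hQn.conj_mem q hq x⁻¹)
      have h2 := (inferInstance : Z.Normal).conj_mem _ h1 x
      simpa [mul_assoc] using h2
    apply hxnc
    intro q hq
    have hx : x ∈ L := htop ▸ mem_top x
    have := iter 1 (fun u hu => by simpa using hx u hu) q hq
    rw [pow_one] at this
    exact this.eq.symm
  have hc0 : t * q₀ * t⁻¹ * q₀⁻¹ = c :=
    (hD.comm_t q₀ hq₀).resolve_left fun h => hq₀Z (by rw [h]; exact one_mem _)
  have hcZ : c ∉ Z := hc0 ▸ hq₀Z
  have hcQ : c ∈ Q := hc0 ▸ mul_mem (hQn.conj_mem q₀ hq₀ t) (inv_mem hq₀)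
  have htinv : t⁻¹ = t := inv_eq_of_mul_eq_one_right hD.t_sq
  have hCx : ∀ q ∈ Q, x * q = q * x → q ∈ Z := by
    intro q hq hxq
    set r := t * q * t⁻¹ * q⁻¹ with hr
    obtain ⟨i, hi⟩ := hF.img_refl hD.t_mem hD.t_not
    have hinvx : t * x⁻¹ * t⁻¹ * x⁻¹ ∈ Q := by
      rw [hF.mem_core]
      simp only [map_mul, map_inv, hi, hF.x_img, DihedralGroup.inv_r, DihedralGroup.inv_sr,
        DihedralGroup.r_mul_r, DihedralGroup.sr_mul_r, DihedralGroup.sr_mul_sr]
      rw [DihedralGroup.one_def]; congr 1; ring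
    have htq : t * q * t⁻¹ ∈ Q := hQn.conj_mem q hq t
    have hxtq : x * (t * q * t⁻¹) = (t * q * t⁻¹) * x := by
      have h1 : Commute (t * x⁻¹ * t⁻¹) (t * q * t⁻¹) := by
        have := ((show Commute x q from hxq).inv_left).map (MulAut.conj t).toMonoidHom
        simpa [MulAut.conj_apply] using this
      have h2 : Commute (t * x⁻¹ * t⁻¹ * x⁻¹) (t * q * t⁻¹) := hcomm _ hinvx _ htq
      have h3 := h2.inv_left.mul_left h1
      simpa [mul_assoc] using h3.eq
    have hxr : x * r = r * x := by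
      have : Commute x r := (show Commute x _ from hxtq).mul_right (show Commute x q from hxq).inv_right
      exact this.eq
    have htr : t * r = r * t := by
      have h1 : t * r * t⁻¹ = r := by
        rw [hr, show t * (t * q * t⁻¹ * q⁻¹) * t⁻¹ = (t * t) * q * (t * t)⁻¹ * (t * q⁻¹ * t⁻¹) by group,
          hD.t_sq, inv_one, one_mul, mul_one]
        have h2 := hcomm q hq _ (inv_mem htq)
        rw [show (t * q * t⁻¹)⁻¹ = t * q⁻¹ * t⁻¹ by group] at h2
        rw [h2]
        have h3 := hD.elem _ htq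
        have h4 := hD.elem _ hq
        rw [show t * q⁻¹ * t⁻¹ = (t * q * t⁻¹)⁻¹ by group, inv_eq_of_mul_eq_one_right h3,
          inv_eq_of_mul_eq_one_right h4]
      exact mul_inv_eq_iff_eq_mul.1 h1
    have hrZ : r ∈ Z := fix r (mul_mem htq (inv_mem hq)) htr hxr
    have hr1 : r = 1 := (hD.comm_t q hq).resolve_right fun h => hcZ (h ▸ hrZ)
    refine fix q hq ?_ hxq
    rw [hr, mul_inv_eq_one, mul_inv_eq_iff_eq_mul] at hr1
    exact hr1
  -- `x ^ 3` centralises `Q`
  have hx3 : ∀ q ∈ Q, Commute q (x ^ 3) := by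
    apply iter 3
    let mk := QuotientGroup.mk' Z
    set Qb := Q.map mk with hQb
    have : Qb.Normal := hQn.map mk (QuotientGroup.mk'_surjective Z)
    have hQb4 : Nat.card ↥Qb = 4 := by
      have h1 := card_mul_index (Z.subgroupOf Q)
      rw [Nat.card_congr (subgroupOfEquivOfLe hD.Z_le).toEquiv, hD.card_Z, hD.card_Q] at h1
      rw [hQb, ← relIndex_ker, QuotientGroup.ker_mk', Subgroup.relIndex]
      have h2 : 0 < 2 ^ k := Nat.two_pow_pos k
      nlinarith
    let φ : K →* Equiv.Perm ↥Qb :=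
      ((MulAut.toPerm _).comp MulAut.conjNormal).comp mk
    have h24 : orderOf (φ x) ∣ 3 := by
      have : Fintype ↥Qb := Fintype.ofFinite _
      have h1 : orderOf (φ x) ∣ n := hF.orderOf_x ▸ orderOf_map_dvd φ x
      have h2 : orderOf (φ x) ∣ 24 := by
        have := orderOf_dvd_natCard (φ x)
        rwa [Nat.card_perm, hQb4] at this
      have h3 : orderOf (φ x) ∣ 3 * 8 := h2
      exact ((Nat.coprime_two_right.2 (Odd.of_dvd_nat hF.odd h1)).pow_right 3).dvd_of_dvd_mul_right h3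
    intro q hq
    have h3 : φ (x ^ 3) = 1 := by rw [map_pow]; exact orderOf_dvd_iff_pow_eq_one.1 h24
    have h4 := congrArg (fun σ : Equiv.Perm ↥Qb => ((σ ⟨mk q, mem_map_of_mem mk hq⟩ : ↥Qb) : K ⧸ Z)) h3
    have h5 : mk (x ^ 3) * mk q * (mk (x ^ 3))⁻¹ = mk q := by
      exact h4
    rw [← QuotientGroup.eq_one_iff]
    show mk _ = 1
    rw [map_mul, map_mul, map_mul, map_inv, map_inv, h5, mul_inv_cancel]
  have cent_of : ∀ j : ℕ, ¬ 3 ∣ j → ∀ q : K, Commute q (x ^ j) → Commute q (x ^ 3) → x * q = q * x := by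
    intro j hj q h1 h2
    have hg : ((Nat.gcd j 3 : ℕ) : ℤ) = (j : ℤ) * Nat.gcdA j 3 + (3 : ℤ) * Nat.gcdB j 3 :=
      Nat.gcd_eq_gcd_ab j 3
    rw [Nat.Coprime.gcd_eq_one ((Nat.prime_three.coprime_iff_not_dvd.2 hj).symm), Nat.cast_one] at hg
    have hxe : x = (x ^ j) ^ (Nat.gcdA j 3) * (x ^ 3) ^ (Nat.gcdB j 3) := by
      rw [← zpow_natCast x j, ← zpow_natCast x 3, ← zpow_mul, ← zpow_mul, ← zpow_add]
      norm_num [← hg]
    rw [hxe]
    exact ((h1.zpow_right _).mul_right (h2.zpow_right _)).eq.symm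
  have hn3 : 3 ∣ n := by
    by_contra h
    exact hxnc fun q hq => cent_of n h q (by rw [hF.x_pow]; exact Commute.one_right q) (hx3 q hq)
  obtain ⟨m, hm⟩ := id hn3
  -- the odd core
  have hO : O = zpowers (x ^ 3) := by
    refine le_antisymm (fun o ho => ?_) (hF.zpowers_le_oddCore 3 hx3)
    obtain ⟨j, rfl, hj⟩ := hF.oddCore_mem ho
    have h3 : 3 ∣ j := by
      by_contra h
      exact hxnc fun q hq => cent_of j h q (hj q hq) (hx3 q hq)
    obtain ⟨l, rfl⟩ := h3
    rw [pow_mul]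
    exact pow_mem (mem_zpowers _) l
  have hOcard : Nat.card ↥O = m := by
    rw [hO, Nat.card_zpowers, orderOf_pow_of_dvd (by norm_num) (by rw [hF.orderOf_x]; exact hn3),
      hF.orderOf_x, hm, Nat.mul_div_cancel_left _ (by norm_num : 0 < 3)]
  have hOn : O.Normal := HallCore.pPrimeCore_normal 2 K
  have hOQ : ∀ u, u ∈ Q → u ∈ O → u = 1 := fun u h1 h2 =>
    mem_bot.1 (HallCore.pCore_inf_pPrimeCore 2 K ▸ mem_inf.2 ⟨h1, h2⟩)
  set N := O ⊔ Z with hN
  have hNn : N.Normal := Subgroup.sup_normal O Z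
  have hNmem : ∀ u ∈ N, ∃ o ∈ O, ∃ z ∈ Z, u = o * z := fun u hu => by
    rw [← SetLike.mem_coe, hN, normal_mul] at hu
    obtain ⟨o, ho, z, hz, rfl⟩ := hu
    exact ⟨o, ho, z, hz, rfl⟩
  have hNcard : Nat.card ↥N = m * 2 ^ k := by
    have h1 := card_mul_index (O.subgroupOf N)
    rw [Nat.card_congr (subgroupOfEquivOfLe (le_sup_left : O ≤ N)).toEquiv] at h1
    have h2 : (O.subgroupOf N).index = Nat.card ↥Z := by
      show O.relIndex N = _
      rw [hN, sup_comm, relIndex_sup_right, Subgroup.relIndex]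
      rw [show O.subgroupOf Z = ⊥ from eq_bot_iff.2 fun u hu => mem_bot.2 (Subtype.ext
        (hOQ _ (hD.Z_le u.2) (mem_subgroupOf.1 hu))), index_bot]
    rw [← h1, h2, hOcard, hD.card_Z]
  have hW : Nat.card (K ⧸ N) = 24 := by
    have h1 := card_mul_index N
    rw [Subgroup.index_eq_card, hNcard, hF.card_eq, hD.card_Q, hm] at h1
    have hpos : 0 < m * 2 ^ k := by
      have := hF.three
      have : 0 < m := by omega
      positivity
    refine mul_left_cancel₀ hpos.ne' ?_
    rw [h1]; ring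
  obtain ⟨ψ, hψr, hψs⟩ := exists_psi hn3
  have hψ1 : ∀ u, ψ (π u) = 1 → ∃ q ∈ Q, ∃ o ∈ O, u = q * o := by
    intro u hu
    rcases hπ : π u with i | i
    · have h1 : ((i.val : ℕ) : ZMod 3) = 0 := by
        rw [hπ, hψr, DihedralGroup.one_def, DihedralGroup.r.injEq] at hu
        rwa [← ZMod.natCast_zmod_val i, map_natCast] at hu
      obtain ⟨l, hl⟩ := (ZMod.natCast_eq_zero_iff _ _).1 h1 |> fun h => (h : 3 ∣ i.val)
      refine ⟨_, hF.decomp hπ, x ^ i.val, ?_, (inv_mul_cancel_right _ _).symm⟩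
      rw [hO, hl, pow_mul]
      exact pow_mem (mem_zpowers _) l
    · rw [hπ, hψs, DihedralGroup.one_def] at hu
      cases hu
  have hS4 : Nonempty (K ⧸ N ≃* Equiv.Perm (Fin 4)) := by
    refine SmallGroupS4.nonempty_equiv_perm_four hW fun w hw => ?_
    obtain ⟨u, rfl⟩ := QuotientGroup.mk_surjective w
    have hpow : ∀ j : ℕ, u ^ j ∈ N ↔ 6 ∣ j := fun j => by
      rw [← QuotientGroup.eq_one_iff, QuotientGroup.mk_pow, ← orderOf_dvd_iff_pow_eq_one, hw]
    have h6 : u ^ 6 ∈ N := (hpow 6).2 dvd_rfl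
    set v := ψ (π u) with hv
    have dec : ∀ v : DihedralGroup 3, v ^ 2 = 1 ∨ (v ^ 3 = 1 ∧ (v ^ 2 = .r 1 ∨ v ^ 2 = .r 2)) := by decide
    rcases dec v with h2 | ⟨h3, h2⟩
    · obtain ⟨q, hq, o, ho, he⟩ := hψ1 (u ^ 2) (by rw [map_pow, map_pow, ← hv, h2])
      have hqo : Commute q o := HallCore.commute_pCore_pPrimeCore hq ho
      have h4 : u ^ 4 ∈ N := by
        rw [show 4 = 2 * 2 by norm_num, pow_mul, he, hqo.mul_pow, pow_two q, hD.elem q hq, one_mul]
        exact mem_sup_left (pow_mem ho 2)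
      have := (hpow 4).1 h4
      omega
    · obtain ⟨q, hq, o, ho, he⟩ := hψ1 (u ^ 3) (by rw [map_pow, map_pow, ← hv, h3])
      have hq' : u ^ 2 * q = q * u ^ 2 := by
        have hqe : q = u ^ 3 * o⁻¹ := by rw [he, mul_inv_cancel_right]
        have h1 : u ^ 2 * q * (u ^ 2)⁻¹ * q⁻¹ ∈ Q :=
          mul_mem (hQn.conj_mem q hq _) (inv_mem hq)
        have h4 : u ^ 2 * q * (u ^ 2)⁻¹ * q⁻¹ = u ^ 3 * (u ^ 2 * o⁻¹ * (u ^ 2)⁻¹ * o) * (u ^ 3)⁻¹ := by
          rw [hqe]; group
        have h5 := hOQ _ h1 (by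
          rw [h4]
          exact hOn.conj_mem _ (mul_mem (hOn.conj_mem _ (inv_mem ho) _) ho) _)
        rwa [mul_inv_eq_one, mul_inv_eq_iff_eq_mul] at h5
      have hu3 : q ∉ Z := fun hqZ => by
        have : u ^ 3 ∈ N := he ▸ mul_mem (mem_sup_right hqZ) (mem_sup_left ho)
        have := (hpow 3).1 this
        omega
      rcases hπ : π (u ^ 2) with i | i
      · have hq2 := hF.decomp hπ
        have hci : Commute q (x ^ i.val) := by
          have e : x ^ i.val = (u ^ 2 * (x ^ i.val)⁻¹)⁻¹ * u ^ 2 := by group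
          rw [e]
          exact (show Commute q _ from hcomm q hq _ hq2).inv_right.mul_right hq'.symm
        have hi3 : ¬ 3 ∣ i.val := fun h => by
          have : ψ (π (u ^ 2)) = 1 := by
            rw [hπ, hψr, ← ZMod.natCast_zmod_val i, map_natCast, (ZMod.natCast_eq_zero_iff _ _).2 h,
              DihedralGroup.r_zero]
          rw [map_pow, map_pow, ← hv] at this
          rcases h2 with h2 | h2 <;> rw [h2] at this <;> exact absurd this (by decide)
        exact hu3 (hCx q hq (cent_of _ hi3 q hci (hx3 q hq)))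
      · have := congrArg ψ hπ
        rw [map_pow, map_pow, ← hv, hψs] at this
        rcases h2 with h2 | h2 <;> rw [h2] at this <;> cases this
  refine ⟨fun hk => ?_, fun hk => ?_⟩
  · have hZbot : Z = ⊥ := card_eq_one.1 (by rw [hD.card_Z, hk, pow_zero])
    have hNO : N = O := by rw [hN, hZbot, sup_bot_eq]
    exact hS4.map (QuotientGroup.quotientMulEquivOfEq hNO).symm.trans
  · subst hk
    obtain ⟨z, hzZ, hz1⟩ := Subgroup.ne_bot_iff_exists_ne_one.1
      (fun h : Z = ⊥ => by have := hD.card_Z; rw [h, card_bot] at this; norm_num at this) |>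
      fun ⟨a, ha⟩ => (⟨a.1, a.2, fun h => ha (Subtype.ext h)⟩ : ∃ z, z ∈ Z ∧ z ≠ 1)
    have hZel : ∀ u ∈ Z, u = 1 ∨ u = z := by
      intro u hu
      by_contra hne
      push_neg at hne
      have hsub : ({1, z, u} : Set K) ⊆ (Z : Set K) := by
        rintro _ (rfl | rfl | rfl)
        exacts [one_mem Z, hzZ, hu]
      have h3 := Set.ncard_le_ncard hsub (Set.toFinite _)
      rw [show Set.ncard (Z : Set K) = Nat.card ↥Z from rfl, hD.card_Z,
        Set.ncard_eq_three.2 ⟨1, z, u, hz1.symm, hne.1.symm, hne.2.symm, rfl⟩] at h3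
      norm_num at h3
    obtain ⟨U, hUQ, hcU, hzU, hUz⟩ := exists_compl hD.elem hcQ (hD.Z_le hzZ) hz1 fun h => hcZ (h ▸ hzZ)
    let M := adjoinInv U t hD.t_sq fun u hu => by
      have h1 : t * u * t⁻¹ * u⁻¹ ∈ U := by
        rcases hD.comm_t u (hUQ hu) with h | h <;> rw [h]
        exacts [one_mem _, hcU]
      have := mul_mem h1 hu
      rwa [inv_mul_cancel_right, htinv] at this
    have hMP : (M.subgroupOf P).index = 2 := by
      rw [index_eq_two_iff]
      refine ⟨⟨z, hF.le_P (hD.Z_le hzZ)⟩, fun b => ?_⟩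
      simp only [mem_subgroupOf, coe_mul]
      have hzM : z ∉ M := by
        rintro (h | h)
        · exact hzU h
        · exact hD.t_not ((mul_mem_cancel_left (hD.Z_le hzZ)).1 (hUQ h))
      rw [xor_iff_not_iff]
      intro hiff
      by_cases hb : (b : K) ∈ M
      · exact hzM ((mul_mem_cancel_left hb).1 (hiff.2 hb))
      · apply hb (hiff.1 ?_)
        rcases hPQ _ b.2 with h | h
        · exact Or.inl ((hUz _ h).resolve_left fun h' => hb (Or.inl h'))
        · refine Or.inr ?_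
          have := (hUz _ h).resolve_left fun h' => hb (Or.inr h')
          rwa [mul_assoc, ← hD.Z_cent t z hzZ, ← mul_assoc]
    classical
    let ϕ : ↥P →* Multiplicative (ZMod 2) :=
      { toFun := fun p => if p ∈ M.subgroupOf P then 1 else Multiplicative.ofAdd 1
        map_one' := if_pos (one_mem _)
        map_mul' := fun a b => by
          have h := mul_mem_iff_of_index_two hMP (a := a) (b := b)
          by_cases ha : a ∈ M.subgroupOf P <;> by_cases hb : b ∈ M.subgroupOf P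
          · rw [if_pos (h.2 ⟨fun _ => hb, fun _ => ha⟩), if_pos ha, if_pos hb, one_mul]
          · rw [if_neg (fun h' => hb ((h.1 h').1 ha)), if_pos ha, if_neg hb, one_mul]
          · rw [if_neg (fun h' => ha ((h.1 h').2 hb)), if_neg ha, if_pos hb, mul_one]
          · rw [if_pos (h.2 ⟨fun h' => absurd h' ha, fun h' => absurd h' hb⟩), if_neg ha, if_neg hb]
            rw [← ofAdd_add, CharTwo.add_self_eq_zero, ofAdd_zero] }
    let τ := MonoidHom.transfer ϕ
    have hidx : Odd P.index := by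
      have h1 := card_mul_index P
      have h2 : Nat.card ↥(pCore 2 K) * 2 = Nat.card ↥P := by
        have := card_mul_index ((pCore 2 K).subgroupOf P)
        rwa [Nat.card_congr (subgroupOfEquivOfLe hF.le_P).toEquiv, ← Subgroup.relIndex, hF.index] at this
      rw [← h2, hF.card_eq, mul_assoc] at h1
      have h3 : P.index = n := by
        have hpos : 0 < Nat.card ↥(pCore 2 K) := Nat.card_pos
        have := mul_left_cancel₀ hpos.ne' h1
        omega
      rw [h3]; exact hF.odd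
    have hτz : τ z ≠ 1 := by
      rw [MonoidHom.transfer_eq_pow ϕ z fun j g₀ _ => by
        rw [mul_assoc, ← hD.Z_cent g₀ (z ^ j) (pow_mem hzZ j), inv_mul_cancel_left]]
      obtain ⟨j, hj⟩ := hidx
      have e : z ^ P.index = z := by
        rw [hj, pow_succ, pow_mul, pow_two, hD.elem z (hD.Z_le hzZ), one_pow, one_mul]
      show (if _ then _ else _) ≠ _
      rw [if_neg]
      · simp
      · show ¬ (z ^ P.index ∈ M)
        rw [e]
        rintro (h | h)
        · exact hzU h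
        · exact hD.t_not ((mul_mem_cancel_left (hD.Z_le hzZ)).1 (hUQ h))
    have hτO : ∀ o ∈ O, τ o = 1 := fun o ho => by
      have h1 : orderOf (τ o) ∣ 2 := by
        simpa using orderOf_dvd_natCard (τ o)
      have h2 : orderOf (τ o) ∣ m := hOcard ▸ (orderOf_map_dvd τ o).trans (orderOf_dvd_natCard _ ho)
      exact orderOf_eq_one_iff.1 (Nat.eq_one_of_dvd_coprimes
        (Nat.coprime_two_left.2 (Odd.of_dvd_nat hF.odd ⟨3, by rw [hm, mul_comm]⟩)) h1 h2)
    let Φ := (QuotientGroup.mk' N).prod τ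
    have hker : Φ.ker = O := by
      ext u
      rw [MonoidHom.mem_ker, MonoidHom.prod_apply, Prod.mk_eq_one, QuotientGroup.mk'_apply,
        QuotientGroup.eq_one_iff]
      constructor
      · rintro ⟨hu, hτ⟩
        obtain ⟨o, ho, z', hz', rfl⟩ := hNmem u hu
        rw [map_mul, hτO o ho, one_mul] at hτ
        rcases hZel z' hz' with rfl | rfl
        · rwa [mul_one]
        · exact absurd hτ hτz
      · exact fun hu => ⟨mem_sup_left hu, hτO u hu⟩
    have hcard : Nat.card (K ⧸ Φ.ker) = Nat.card ((K ⧸ N) × Multiplicative (ZMod 2)) := by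
      rw [Nat.card_prod, hW, show Nat.card (Multiplicative (ZMod 2)) = 2 by simp, hker]
      have h1 := card_mul_index O
      rw [Subgroup.index_eq_card, hOcard, hF.card_eq, hD.card_Q, hm] at h1
      have : 0 < m := by have := hF.three; omega
      refine mul_left_cancel₀ this.ne' ?_
      rw [h1]; ring
    have hbij := (Nat.bijective_iff_injective_and_card _).2 ⟨QuotientGroup.kerLift_injective Φ, hcard⟩
    obtain ⟨e⟩ := hS4
    exact ⟨((QuotientGroup.quotientMulEquivOfEq hker).symm.trans (MulEquiv.ofBijective _ hbij)).trans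
      (MulEquiv.prodCongr e (MulEquiv.refl _))⟩

end Frame

end Cfsg.Agent.DihedralPushingUpQuotient
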