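import Mathlib
import Cfsg.Prelude.Def_LocalEven
import Cfsg.Agent.Lib.HallCore
import Cfsg.Agent.Lib.HallSolvable

/-!
# Solvable groups with a dihedral or semidihedral Sylow 2-subgroup and trivial odd core

Their elements of odd order fall into at most two conjugacy classes: an element of odd order other
than the identity permutes the three cyclic subgroups of index two of `O_2` without fixed point.
-/

set_option autoImplicit false

namespace Cfsg.Agent.DihedralSolvableClasses16

open Subgroup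

variable {H : Type*} [Group H] [Finite H]

theorem card_zpowers_two_pow {Q : Subgroup H} (hQ : IsPGroup 2 Q) :
    ∃ k : ℕ, Nat.card Q = 2 ^ k :=
  haveI : Fact (Nat.Prime 2) := ⟨Nat.prime_two⟩
  IsPGroup.iff_card.1 hQ

theorem eq_one_of_odd_mem {Q : Subgroup H} (hQ : IsPGroup 2 Q) {x : H} (hx : x ∈ Q)
    (hodd : ¬ 2 ∣ orderOf x) : x = 1 := by
  obtain ⟨k, hk⟩ := IsPGroup.iff_orderOf.1 hQ ⟨x, hx⟩
  rw [Subgroup.orderOf_mk] at hk
  rcases k with _ | k
  · exact orderOf_eq_one_iff.1 (by simpa using hk)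
  · exact absurd (hk ▸ dvd_pow_self 2 k.succ_ne_zero) hodd

/-- An element of odd order normalising a cyclic 2-group centralises it. -/
theorem centralizes_cyclic {R : Subgroup H} [IsCyclic R] (hR : IsPGroup 2 R) {x : H}
    (hx : x ∈ normalizer (R : Set H)) (hodd : ¬ 2 ∣ orderOf x) :
    x ∈ centralizer (R : Set H) := by
  set φ := R.normalizerMonoidHom
  obtain ⟨k, hk⟩ := card_zpowers_two_pow hR
  have h1 : orderOf (φ ⟨x, hx⟩) ∣ orderOf x := by
    have := orderOf_map_dvd φ ⟨x, hx⟩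
    rwa [Subgroup.orderOf_mk] at this
  have h2 : orderOf (φ ⟨x, hx⟩) ∣ 2 ^ (k - 1) := by
    refine (_root_.orderOf_dvd_natCard _).trans ?_
    rw [IsCyclic.card_mulAut, hk]
    rcases k with _ | k
    · simp
    · rw [Nat.totient_prime_pow Nat.prime_two (by omega)]
      simp [Nat.mul_comm]
  have h3 : φ ⟨x, hx⟩ = 1 := orderOf_eq_one_iff.1 (Nat.eq_one_of_dvd_coprimes
    ((Nat.prime_two.coprime_iff_not_dvd.2 hodd).pow_left (k - 1)) h2 h1)
  refine mem_centralizer_iff.2 fun r hr => ?_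
  have h4 := congrArg (fun ψ : MulAut R => ((ψ ⟨r, hr⟩ : R) : H)) h3
  have h5 : x * r * x⁻¹ = r := h4
  rw [mul_inv_eq_iff_eq_mul] at h5
  exact h5.symm

/-- Membership in a subgroup of index two. -/
theorem mem_mul_iff {Q M : Subgroup H} (hMQ : M.relIndex Q = 2) {a b : H}
    (ha : a ∈ Q) (hb : b ∈ Q) : a * b ∈ M ↔ (a ∈ M ↔ b ∈ M) := by
  have h := Subgroup.mul_mem_iff_of_index_two (G := Q) (H := M.subgroupOf Q) hMQ
    (a := ⟨a, ha⟩) (b := ⟨b, hb⟩)
  simpa [Subgroup.mem_subgroupOf] using h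

/-- An element of odd order fixing a cyclic subgroup of index two centralises the group. -/
theorem centralizes_of_fix {Q R : Subgroup H} (hQ : IsPGroup 2 Q) (hRQ : R ≤ Q) [IsCyclic R]
    (hi : R.relIndex Q = 2) {x : H} (hxQ : x ∈ normalizer (Q : Set H))
    (hxR : x ∈ normalizer (R : Set H)) (hodd : ¬ 2 ∣ orderOf x) :
    x ∈ centralizer (Q : Set H) := by
  have hcR := centralizes_cyclic (hQ.to_le hRQ) hxR hodd
  refine mem_centralizer_iff.2 fun q hq => ?_
  by_cases hqR : q ∈ R
  · exact mem_centralizer_iff.1 hcR q hqR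
  set r := q⁻¹ * (x * q * x⁻¹) with hr
  have hy : x * q * x⁻¹ ∈ Q := (mem_normalizer_iff.1 hxQ q).1 hq
  have hyR : x * q * x⁻¹ ∉ R := fun h => hqR ((mem_normalizer_iff.1 hxR q).2 h)
  have hrR : r ∈ R := by
    rw [hr, mem_mul_iff hi (inv_mem hq) hy]
    exact iff_of_false (fun h => hqR (inv_mem_iff.1 h)) hyR
  have hxr : x * r * x⁻¹ = r := by
    rw [← mem_centralizer_iff.1 hcR r hrR, mul_inv_cancel_right]
  have hpow : ∀ n : ℕ, x ^ n * q * (x ^ n)⁻¹ = q * r ^ n := by
    intro n
    induction n with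
    | zero => simp
    | succ n ih =>
      calc x ^ (n + 1) * q * (x ^ (n + 1))⁻¹ = x * (x ^ n * q * (x ^ n)⁻¹) * x⁻¹ := by
            rw [pow_succ']; group
        _ = (x * q * x⁻¹) * (x * r ^ n * x⁻¹) := by rw [ih]; group
        _ = q * r * r ^ n := by
            rw [← conj_pow, hxr, hr]; group
        _ = q * r ^ (n + 1) := by rw [pow_succ', mul_assoc]
  have hn := hpow (orderOf x)
  rw [pow_orderOf_eq_one, one_mul, inv_one, mul_one, left_eq_mul] at hn
  have hr1 : r = 1 := eq_one_of_odd_mem (hQ.to_le hRQ) hrR fun h =>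
    hodd (h.trans (orderOf_dvd_of_pow_eq_one hn))
  have h1 := inv_mul_eq_one.1 (hr ▸ hr1)
  exact (mul_inv_eq_iff_eq_mul.1 h1.symm).symm

/-- The cyclic subgroups of index two of `Q`. -/
def cyclicMax (Q : Subgroup H) : Set (Subgroup H) :=
  {M | M ≤ Q ∧ M.relIndex Q = 2 ∧ IsCyclic M}

/-- There are at most three. -/
theorem ncard_cyclicMax_le (Q : Subgroup H) : (cyclicMax Q).ncard ≤ 3 := by
  rcases (cyclicMax Q).eq_empty_or_nonempty with h | ⟨R, hRQ, hi, hcyc⟩
  · simp [h]
  obtain ⟨⟨a, haR⟩, ha⟩ := hcyc.exists_generator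
  have hgen : ∀ r ∈ R, r ∈ zpowers a := fun r hr => by
    obtain ⟨z, hz⟩ := ha ⟨r, hr⟩
    exact ⟨z, congrArg Subtype.val hz⟩
  have hne : ¬ Q ≤ R := fun h => by
    rw [relIndex_eq_one.2 h] at hi; omega
  obtain ⟨b, hbQ, hbR⟩ := SetLike.not_le_iff_exists.1 hne
  classical
  let F : Subgroup H → Bool × Bool := fun M => (decide (a ∈ M), decide (b ∈ M))
  have key : ∀ M ∈ cyclicMax Q, ∀ g ∈ Q,
      (g ∈ M ↔ if g ∈ R then (∀ z : ℤ, a ^ z = g → a ^ z ∈ M) else
        ((∀ z : ℤ, a ^ z = b⁻¹ * g → a ^ z ∈ M) ↔ b ∈ M)) := by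
    intro M hM g hg
    have hsplit : ∀ r ∈ R, (r ∈ M ↔ ∀ z : ℤ, a ^ z = r → a ^ z ∈ M) := fun r hr => by
      obtain ⟨z, hz⟩ := hgen r hr
      exact ⟨fun h w hw => hw ▸ h, fun h => hz ▸ h z hz⟩
    split_ifs with hgR
    · exact hsplit g hgR
    · have hr : b⁻¹ * g ∈ R := by
        rw [mem_mul_iff hi (inv_mem hbQ) hg]
        exact iff_of_false (fun h => hbR (inv_mem_iff.1 h)) hgR
      rw [← hsplit _ hr]
      have h1 := mem_mul_iff hM.2.1 hbQ (hRQ hr)
      rw [mul_inv_cancel_left] at h1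
      rw [h1]
      exact iff_comm
  have hparity : ∀ M ∈ cyclicMax Q, ∀ z : ℤ, (a ^ z ∈ M ↔ (a ∈ M ∨ Even z)) := by
    intro M hM z
    have haQ := hRQ haR
    have hsq : a * a ∈ M := (mem_mul_iff hM.2.1 haQ haQ).2 Iff.rfl
    obtain ⟨w, rfl | rfl⟩ := Int.even_or_odd' z
    · rw [zpow_mul, zpow_two]
      exact iff_of_true (zpow_mem hsq w) (Or.inr ⟨w, by ring⟩)
    · rw [zpow_add, zpow_one, zpow_mul, zpow_two,
        mem_mul_iff hM.2.1 (zpow_mem (mul_mem haQ haQ) w) haQ]
      have hodd : ¬ Even (2 * w + 1) := Int.not_even_iff_odd.2 ⟨w, rfl⟩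
      simp [zpow_mem hsq w, hodd]
  have hinj : ∀ M ∈ cyclicMax Q, ∀ M' ∈ cyclicMax Q, F M = F M' → M = M' := by
    intro M hM M' hM' he
    simp only [F, Prod.mk.injEq, decide_eq_decide] at he
    refine SetLike.ext fun g => ?_
    by_cases hg : g ∈ Q
    · rw [key M hM g hg, key M' hM' g hg]
      simp only [hparity M hM, hparity M' hM', he.1, he.2]
    · exact iff_of_false (fun h => hg (hM.1 h)) (fun h => hg (hM'.1 h))
  have hmaps : ∀ M ∈ cyclicMax Q, F M ∈ ({(true, false), (false, true), (false, false)} :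
      Finset (Bool × Bool)) := by
    intro M hM
    have hnot : ¬ (a ∈ M ∧ b ∈ M) := by
      rintro ⟨h1, h2⟩
      have hQM : Q ≤ M := fun g hg => by
        rw [key M hM g hg]
        split_ifs
        · exact fun z _ => (hparity M hM z).2 (Or.inl h1)
        · exact iff_of_true (fun z _ => (hparity M hM z).2 (Or.inl h1)) h2
      have := hM.2.1
      rw [relIndex_eq_one.2 hQM] at this
      omega
    show (decide (a ∈ M), decide (b ∈ M)) ∈ _
    by_cases h1 : a ∈ M <;> by_cases h2 : b ∈ M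
    · exact absurd ⟨h1, h2⟩ hnot
    all_goals simp [h1, h2]
  calc (cyclicMax Q).ncard ≤ (↑({(true, false), (false, true), (false, false)} :
        Finset (Bool × Bool)) : Set (Bool × Bool)).ncard :=
        Set.ncard_le_ncard_of_injOn F hmaps hinj
    _ = 3 := by rw [Set.ncard_coe_finset]; rfl

theorem perm_three (a b : Equiv.Perm (Fin 3)) (ha : a * a * a = 1) (ha1 : a ≠ 1)
    (hb : b * b * b = 1) (hb1 : b ≠ 1) : ∃ c, c * a * c⁻¹ = b := by
  revert ha ha1 hb hb1; revert a b; decide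

/-- The hypothesis on the Sylow 2-subgroup: a dominant cyclic subgroup of index two. -/
def HasMajor (P : Subgroup H) : Prop :=
  ∃ a ∈ P, (zpowers a).relIndex P = 2 ∧ ∀ u ∈ P, u ∉ zpowers a → orderOf u < orderOf a

/-- The elements of odd order fall into at most two classes. -/
theorem exists_rep [Group.IsSolvable H] (hO : Cfsg.pPrimeCore 2 H = ⊥) (P : Sylow 2 H)
    (hP : HasMajor (P : Subgroup H)) :
    ∃ r : H, ∀ g : H, ¬ 2 ∣ orderOf g → g = 1 ∨ IsConj r g := by
  haveI : Fact (Nat.Prime 2) := ⟨Nat.prime_two⟩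
  by_cases htriv : ∀ g : H, ¬ 2 ∣ orderOf g → g = 1
  · exact ⟨1, fun g hg => Or.inl (htriv g hg)⟩
  push_neg at htriv
  obtain ⟨x, hx, hx1⟩ := htriv
  set Q := Cfsg.pCore 2 H with hQdef
  haveI hQn : Q.Normal := HallCore.pCore_normal 2 H
  have hQp : IsPGroup 2 Q := HallCore.isPGroup_pCore 2 H
  have hnQ : ∀ g : H, g ∈ normalizer (Q : Set H) := fun g =>
    (normalizer_eq_top Q).symm ▸ mem_top g
  have hC : centralizer (Q : Set H) ≤ Q :=
    HallSolvable.centralizer_pCore_le ((HallSolvable.isPSolvable_iff 2).mpr (HallSolvable.isPiSeparable_of_solvable _)) hO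
  have hcen : ∀ g : H, ¬ 2 ∣ orderOf g → g ∈ centralizer (Q : Set H) → g = 1 := fun g hg h =>
    eq_one_of_odd_mem hQp (hC h) hg
  have hQP : Q ≤ (P : Subgroup H) := by
    obtain ⟨S, hS⟩ := hQp.exists_le_sylow
    obtain ⟨c, hc⟩ := MulAction.exists_smul_eq H S P
    intro q hq
    rw [← hc, Sylow.coe_subgroup_smul, mem_pointwise_smul_iff_inv_smul_mem]
    refine hS ?_
    simpa using hQn.conj_mem q hq c⁻¹
  obtain ⟨a, haP, hai, hmajor⟩ := hP
  -- `Q` is not cyclic
  have hQc : ¬ IsCyclic Q := fun h => hx1 (hcen x hx (centralizes_cyclic hQp (hnQ x) hx))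
  have isCyclic_of_le_zpowers : ∀ {K : Subgroup H}, K ≤ zpowers a → IsCyclic K := fun {K} h =>
    isCyclic_of_injective (Subgroup.inclusion h) (Subgroup.inclusion_injective h)
  have hne : (cyclicMax Q).Nonempty := by
    have hdvd : (zpowers a).relIndex Q ∣ 2 := by
      haveI : ((zpowers a).subgroupOf (P : Subgroup H)).Normal := Subgroup.normal_of_index_eq_two hai
      rw [← relIndex_subgroupOf hQP]
      exact (relIndex_dvd_index_of_normal _ _).trans hai.dvd
    have hne1 : (zpowers a).relIndex Q ≠ 1 := fun h =>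
      hQc (isCyclic_of_le_zpowers (relIndex_eq_one.1 h))
    refine ⟨zpowers a ⊓ Q, inf_le_right, ?_, isCyclic_of_le_zpowers inf_le_left⟩
    rw [inf_relIndex_right]
    exact ((Nat.dvd_prime Nat.prime_two).1 hdvd).resolve_left hne1
  -- the action
  let α : H →* Equiv.Perm (Subgroup H) :=
    { toFun := fun g => (MulEquiv.mapSubgroup (MulAut.conj g)).toEquiv
      map_one' := by
        ext M : 1
        show M.map (MulAut.conj (1 : H)).toMonoidHom = M
        rw [map_one]; exact Subgroup.map_id M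
      map_mul' := fun g k => by
        ext M : 1
        show M.map (MulAut.conj (g * k)).toMonoidHom =
          (M.map (MulAut.conj k).toMonoidHom).map (MulAut.conj g).toMonoidHom
        rw [Subgroup.map_map, map_mul]; rfl }
  have hinv : ∀ g : H, ∀ M, M ∈ cyclicMax Q → α g M ∈ cyclicMax Q := by
    intro g M hM
    have hQg : Q.map (MulAut.conj g).toMonoidHom = Q := Normal.map_conj_eq Q g
    refine ⟨hQg ▸ map_mono hM.1, ?_, ?_⟩
    · show (M.map (MulAut.conj g).toMonoidHom).relIndex Q = 2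
      rw [← hQg, relIndex_map_map_of_injective _ _ (MulAut.conj g).injective]
      exact hM.2.1
    · haveI := hM.2.2
      exact (M.equivMapOfInjective (MulAut.conj g).toMonoidHom (MulAut.conj g).injective).isCyclic.1
        inferInstance
  classical
  let φ : H →* Equiv.Perm {M // M ∈ cyclicMax Q} :=
    { toFun := fun g =>
        { toFun := fun M => ⟨α g M, hinv g M M.2⟩
          invFun := fun M => ⟨α g⁻¹ M, hinv g⁻¹ M M.2⟩
          left_inv := fun M => Subtype.ext (by
            show α g⁻¹ (α g M) = M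
            have h := congrArg (fun σ : Equiv.Perm (Subgroup H) => σ M) (α.map_mul g⁻¹ g)
            rw [inv_mul_cancel, map_one] at h
            exact h.symm)
          right_inv := fun M => Subtype.ext (by
            show α g (α g⁻¹ M) = M
            have h := congrArg (fun σ : Equiv.Perm (Subgroup H) => σ M) (α.map_mul g g⁻¹)
            rw [mul_inv_cancel, map_one] at h
            exact h.symm) }
      map_one' := Equiv.ext fun M => Subtype.ext (by simp)
      map_mul' := fun g k => Equiv.ext fun M => Subtype.ext (by simp) }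
  have hfix : ∀ g : H, ¬ 2 ∣ orderOf g → ∀ M : {M // M ∈ cyclicMax Q}, φ g M = M → g = 1 := by
    intro g hg M hgM
    haveI := M.2.2.2
    refine hcen g hg (centralizes_of_fix hQp M.2.1 M.2.2.1 (hnQ g) ?_ hg)
    have e1 : (M : Subgroup H).map (MulAut.conj g).toMonoidHom = M := congrArg Subtype.val hgM
    refine mem_normalizer_iff.2 fun h => ?_
    conv_rhs => rw [← e1]
    exact (mem_map_iff_mem (f := (MulAut.conj g).toMonoidHom) (MulAut.conj g).injective (x := h)).symm
  obtain ⟨M₀, hM₀⟩ := hne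
  have hker : ∀ g : H, ¬ 2 ∣ orderOf g → φ g = 1 → g = 1 := fun g hg h =>
    hfix g hg ⟨M₀, hM₀⟩ (by rw [h]; rfl)
  -- three cyclic subgroups of index two
  set c := Nat.card {M // M ∈ cyclicMax Q} with hc
  have hc3le : c ≤ 3 := (ncard_cyclicMax_le Q).trans_eq' (Nat.card_coe_set_eq _).symm
  have hordd : ∀ g : H, ¬ 2 ∣ orderOf g → orderOf (φ g) ∣ c.factorial ∧ ¬ 2 ∣ orderOf (φ g) :=
    fun g hg => ⟨by
      have h1 := _root_.orderOf_dvd_natCard (φ g)
      rwa [Nat.card_perm, ← hc] at h1,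
      fun h => hg (h.trans (orderOf_map_dvd φ g))⟩
  have hford : ∀ g : H, ¬ 2 ∣ orderOf g → g ≠ 1 → orderOf (φ g) = 3 ∧ c = 3 := by
    intro g hg hg1
    obtain ⟨h1, h2⟩ := hordd g hg
    have h3 : orderOf (φ g) ≠ 1 := fun h => hg1 (hker g hg (orderOf_eq_one_iff.1 h))
    have h4 : orderOf (φ g) ∣ 6 := h1.trans (Nat.factorial_dvd_factorial hc3le)
    have h5 : orderOf (φ g) = 3 := by
      have := Nat.le_of_dvd (by norm_num) h4
      interval_cases h : orderOf (φ g) <;> omega
    refine ⟨h5, ?_⟩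
    rw [h5] at h1
    by_contra h6
    interval_cases c <;> simp [Nat.factorial] at h1 <;> omega
  obtain ⟨hxo, hc3⟩ := hford x hx hx1
  obtain ⟨e⟩ : Nonempty ({M // M ∈ cyclicMax Q} ≃ Fin 3) :=
    ⟨(Finite.equivFin _).trans (finCongr hc3)⟩
  -- surjectivity
  have hsurj : Function.Surjective φ := by
    have hd : Nat.card φ.range ∣ 6 := by
      have h1 := Subgroup.card_subgroup_dvd_card φ.range
      rwa [Nat.card_perm, ← hc, hc3] at h1
    have h3 : 3 ∣ Nat.card φ.range :=
      hxo ▸ Subgroup.orderOf_dvd_natCard φ.range ⟨x, rfl⟩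
    rcases (show Nat.card φ.range = 3 ∨ Nat.card φ.range = 6 by
      have := Nat.le_of_dvd (by norm_num) hd
      interval_cases h : Nat.card φ.range <;> omega) with h | h
    swap
    · exact MonoidHom.range_eq_top.1 (Subgroup.eq_top_of_card_eq _ (by
        rw [h, Nat.card_perm, ← hc, hc3]; rfl))
    exfalso
    -- otherwise the kernel is a Sylow subgroup
    have hK : IsPGroup 2 φ.ker := IsPGroup.iff_orderOf.2 fun g => by
      rw [← Subgroup.orderOf_coe]
      obtain ⟨j, m, hm, hjm⟩ := Nat.exists_eq_pow_mul_and_not_dvd (orderOf_pos (g : H)).ne' 2 (by norm_num)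
      have ho : orderOf ((g : H) ^ 2 ^ j) = m := by
        rw [orderOf_pow_of_dvd (by positivity) (hjm ▸ dvd_mul_right _ _), hjm,
          Nat.mul_div_cancel_left _ (by positivity)]
      have h1 := hker _ (ho ▸ hm) (φ.mem_ker.1 (pow_mem g.2 (2 ^ j)))
      rw [h1, orderOf_one] at ho
      exact ⟨j, by rw [hjm, ← ho, mul_one]⟩
    have hindex : φ.ker.index = 3 := by rw [Subgroup.index_ker, h]
    have hPK : (P : Subgroup H) = φ.ker := by
      let K' : Sylow 2 H := hK.toSylow (by rw [hindex]; norm_num)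
      haveI := MonoidHom.normal_ker φ
      obtain ⟨g, hg⟩ := MulAction.exists_smul_eq H K' P
      rw [← hg, Sylow.coe_subgroup_smul]
      exact Subgroup.Normal.conjAct (inferInstance : φ.ker.Normal) _
    have hPQ : (P : Subgroup H) ≤ Q := by
      haveI : (P : Subgroup H).Normal := hPK ▸ MonoidHom.normal_ker φ
      exact HallCore.le_pCore P.isPGroup'
    have heq : Q = (P : Subgroup H) := le_antisymm hQP hPQ
    have haQ : zpowers a ≤ Q := zpowers_le.2 (hPQ haP)
    have huniq : ∀ M ∈ cyclicMax Q, M = zpowers a := by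
      intro M hM
      have hcard : Nat.card M = Nat.card (zpowers a) := by
        have h1 := hM.2.1
        have h2 := hai
        rw [← heq] at h2
        have e1 := HallCore.card_mul_relIndex hM.1
        have e2 := HallCore.card_mul_relIndex haQ
        rw [h1] at e1; rw [h2] at e2
        omega
      haveI := hM.2.2
      obtain ⟨⟨m, hm⟩, hgen⟩ := IsCyclic.exists_generator (α := M)
      by_cases hma : m ∈ zpowers a
      · refine Subgroup.eq_of_le_of_card_ge (fun y hy => ?_) hcard.ge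
        obtain ⟨z, hz⟩ := hgen ⟨y, hy⟩
        rw [← show m ^ z = y from congrArg Subtype.val hz]
        exact zpow_mem hma z
      · exfalso
        have h1 := hmajor m (hQP (hM.1 hm)) hma
        have h2 : orderOf (⟨m, hm⟩ : M) = Nat.card M := orderOf_eq_card_of_forall_mem_zpowers hgen
        rw [Subgroup.orderOf_mk, hcard, Nat.card_zpowers] at h2
        omega
    have : c ≤ 1 := Finite.card_le_one_iff_subsingleton.2
      ⟨fun u v => Subtype.ext ((huniq u u.2).trans (huniq v v.2).symm)⟩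
    omega
  refine ⟨x, fun g hg => or_iff_not_imp_left.2 fun hg1 => ?_⟩
  obtain ⟨hgo, -⟩ := hford g hg hg1
  let ψ : Equiv.Perm {M // M ∈ cyclicMax Q} ≃* Equiv.Perm (Fin 3) := e.permCongrHom
  obtain ⟨k, hk⟩ := perm_three (ψ (φ g)) (ψ (φ x))
    (by rw [← map_mul, ← map_mul, ← pow_three', show φ g ^ 3 = 1 from by rw [← hgo, pow_orderOf_eq_one], map_one])
    (fun h => by rw [MulEquiv.map_eq_one_iff, ← orderOf_eq_one_iff] at h; omega)
    (by rw [← map_mul, ← map_mul, ← pow_three', show φ x ^ 3 = 1 from by rw [← hxo, pow_orderOf_eq_one], map_one])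
    (fun h => by rw [MulEquiv.map_eq_one_iff, ← orderOf_eq_one_iff] at h; omega)
  obtain ⟨c', hc'⟩ := hsurj (ψ.symm k)
  set y := c' * g * c'⁻¹ with hy
  have hyφ : φ y = φ x := ψ.injective (by
    simp only [hy, map_mul, map_inv, hc', MulEquiv.apply_symm_apply]
    exact hk)
  have hyo : ¬ 2 ∣ orderOf y := by
    rwa [hy, show c' * g * c'⁻¹ = (MulAut.conj c').toMonoidHom g from rfl,
      orderOf_injective (MulAut.conj c').toMonoidHom (MulAut.conj c').injective]
  -- Sylow 3-subgroups of the preimage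
  have hinjz : ∀ z : H, ¬ 2 ∣ orderOf z → φ z = φ x → orderOf z = 3 := by
    intro z hz hzx
    have h1 : z ^ 3 = 1 := hker _ (fun h => hz (h.trans (orderOf_pow_dvd 3)))
      (by rw [map_pow, hzx, ← hxo, pow_orderOf_eq_one])
    refine ((Nat.dvd_prime Nat.prime_three).1 (orderOf_dvd_of_pow_eq_one h1)).resolve_left fun h => ?_
    rw [orderOf_eq_one_iff.1 h, map_one] at hzx
    rw [← hzx, orderOf_one] at hxo
    omega
  set L := (zpowers (φ x)).comap φ
  have hxL : x ∈ L := mem_zpowers (φ x)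
  have hyL : y ∈ L := by show φ y ∈ zpowers (φ x); rw [hyφ]; exact mem_zpowers _
  haveI : Fact (Nat.Prime 3) := ⟨Nat.prime_three⟩
  have hLcard : ¬ 3 ∣ Nat.card φ.ker := by
    intro h
    obtain ⟨z, hz⟩ := exists_prime_orderOf_dvd_card' 3 h
    have h1 := hker (z : H) (by rw [Subgroup.orderOf_coe, hz]; norm_num) z.2
    rw [show z = 1 from Subtype.ext h1, orderOf_one] at hz
    omega
  have hL : (φ.ker.subgroupOf L).index = 3 := by
    have h1 : φ.ker.relIndex L = Nat.card (zpowers (φ x)) := by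
      rw [show φ.ker = (⊥ : Subgroup _).comap φ from rfl, relIndex_comap,
        map_comap_eq_self_of_surjective hsurj, relIndex_bot_left]
    rw [Nat.card_zpowers, hxo] at h1
    exact h1
  have hsyl : ∀ z : L, orderOf z = 3 → ∃ S : Sylow 3 L, (S : Subgroup L) = zpowers z := by
    intro z hz
    have hz3 : IsPGroup 3 (zpowers z) := IsPGroup.of_card (n := 1) (by rw [Nat.card_zpowers, hz, pow_one])
    refine ⟨hz3.toSylow fun h => hLcard ?_, rfl⟩
    have hcards : Nat.card (zpowers z) * (zpowers z).index =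
        Nat.card (φ.ker.subgroupOf L) * (φ.ker.subgroupOf L).index := by
      rw [Subgroup.card_mul_index, Subgroup.card_mul_index]
    rw [Nat.card_zpowers, hz, hL, mul_comm _ 3] at hcards
    have hkL : φ.ker ≤ L := fun w hw => by
      show φ w ∈ zpowers (φ x); rw [φ.mem_ker.1 hw]; exact one_mem _
    rw [← Nat.card_congr (subgroupOfEquivOfLe hkL).toEquiv]
    rwa [← Nat.eq_of_mul_eq_mul_left (by norm_num) hcards]
  obtain ⟨Sx, hSx⟩ := hsyl ⟨x, hxL⟩ (by rw [Subgroup.orderOf_mk]; exact hinjz x hx rfl)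
  obtain ⟨Sy, hSy⟩ := hsyl ⟨y, hyL⟩ (by rw [Subgroup.orderOf_mk]; exact hinjz y hyo hyφ)
  obtain ⟨l, hl⟩ := MulAction.exists_smul_eq L Sy Sx
  have hmem : l * ⟨y, hyL⟩ * l⁻¹ ∈ zpowers (⟨x, hxL⟩ : L) := by
    rw [← hSx, ← hl, Sylow.coe_subgroup_smul, mem_pointwise_smul_iff_inv_smul_mem, hSy]
    simp [MulAut.smul_def, mul_assoc]
  obtain ⟨z, hz⟩ := hmem
  have hz' : x ^ z = (l : H) * y * (l : H)⁻¹ := congrArg Subtype.val hz
  obtain ⟨w, hw⟩ := l.2
  have h7 := congrArg φ hz'
  rw [map_zpow, map_mul, map_mul, map_inv, hyφ, ← hw] at h7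
  simp only [← zpow_neg, ← zpow_add_one, ← zpow_add] at h7
  rw [show w + 1 + -w = 1 by ring, zpow_one] at h7
  have h8 : (orderOf (φ x) : ℤ) ∣ z - 1 := by
    refine orderOf_dvd_iff_zpow_eq_one.2 ?_
    rw [zpow_sub, zpow_one, h7, mul_inv_cancel]
  rw [hxo] at h8
  have h9 : x ^ z = x := by
    obtain ⟨u, hu⟩ := h8
    have h3 : x ^ 3 = 1 := by rw [← hinjz x hx rfl, pow_orderOf_eq_one]
    rw [show z = 1 + (3 : ℕ) * u by push_cast at hu ⊢; omega, zpow_add, zpow_one, zpow_mul,
      zpow_natCast, h3, one_zpow, mul_one]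
  rw [h9] at hz'
  exact (isConj_iff.2 ⟨(l : H) * c', by rw [hz', hy]; group⟩).symm

end Cfsg.Agent.DihedralSolvableClasses16
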