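/-
Fully ramified irreducible characters over a normal subgroup: restriction to subgroups,
conjugacy of the characters lying over the ramified one, Sylow reduction.
-/
import Mathlib
import Cfsg.Agent.Lib.CharBasicDecomp
import Cfsg.Agent.Lib.CharInducedClifford

set_option autoImplicit false

open scoped ComplexConjugate
open Finset
open Cfsg

namespace Cfsg.Agent.FullyRamified80

open CharBasic CharBasicDecomp CharInduced

universe u

variable {G : Type u} [Group G]

/-- `χ` is irreducible and restricts to `Z` as `e` times `θ`, with `e ^ 2 = [G : Z]`. -/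
structure FR (Z : Subgroup G) (χ : G → ℂ) (θ : Z → ℂ) (e : ℕ) : Prop where
  irr : IsIrrCharacter G χ
  irrZ : IsIrrCharacter Z θ
  sq : e ^ 2 = Z.index
  res : ∀ z : Z, χ z = e * θ z

/-- The restriction of `η` to `Z` is `g` times `θ`. -/
def Over {Z L : Subgroup G} (θ : Z → ℂ) (η : L → ℂ) (g : ℕ) : Prop :=
  ∀ (z : G) (hz : z ∈ Z) (hl : z ∈ L), η ⟨z, hl⟩ = g * θ ⟨z, hz⟩

/-! ### Characters and homomorphisms -/

/-- A constituent of a constituent is a constituent. -/
theorem res_constituent [Fintype G] {K : Type u} [Group K] [Fintype K] (f : K →* G)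
    {a : G → ℂ} (ha : IsCharacter G a) {η : G → ℂ} (hη : IsIrrCharacter G η)
    (h : classInner a η ≠ 0) {ξ : K → ℂ} (hξ : IsCharacter K ξ)
    (h' : classInner (η ∘ f) ξ ≠ 0) : classInner (a ∘ f) ξ ≠ 0 := by
  classical
  obtain ⟨m, hm, hsum⟩ := exists_mult ha
  choose n hn using fun ψ : IrrCharacter G =>
    CharBasicOrth.classInner_isCharacter
      (CharBasic.isCharacter_comap f (isCharacter_of_isIrrCharacter ψ.2)) hξ
  have hcomp : a ∘ f = ∑ ψ : IrrCharacter G, (m ψ : ℂ) • ((ψ : G → ℂ) ∘ f) := by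
    funext x
    have := congrFun hsum (f x)
    simpa [Finset.sum_apply] using this
  rw [hcomp, CharBasicOrth.classInner_sum_left]
  simp only [CharBasicOrth.classInner_smul_left]
  intro h0
  have h0' : ∑ ψ : IrrCharacter G, m ψ * n ψ = 0 := by
    have : ((∑ ψ : IrrCharacter G, m ψ * n ψ : ℕ) : ℂ) = 0 := by
      push_cast
      rw [← h0]
      refine Finset.sum_congr rfl fun ψ _ => ?_
      rw [hn ψ]
    exact_mod_cast this
  have h1 := (Finset.sum_eq_zero_iff.1 h0') ⟨η, hη⟩ (Finset.mem_univ _)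
  rcases Nat.mul_eq_zero.1 h1 with h2 | h2
  · exact h (by rw [hm ⟨η, hη⟩, h2, Nat.cast_zero])
  · exact h' (by rw [hn ⟨η, hη⟩, h2, Nat.cast_zero])

/-- A nonzero character has an irreducible constituent. -/
theorem exists_constituent [Fintype G] {a : G → ℂ} (ha : IsCharacter G a) (h : a 1 ≠ 0) :
    ∃ η : G → ℂ, IsIrrCharacter G η ∧ classInner a η ≠ 0 := by
  by_contra hcon
  obtain ⟨m, hm, hsum⟩ := exists_mult ha
  apply h
  rw [hsum, Finset.sum_apply]
  refine Finset.sum_eq_zero fun ψ _ => ?_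
  have h0 : classInner a (ψ : G → ℂ) = 0 := by
    by_contra h1
    exact hcon ⟨ψ, ψ.2, h1⟩
  rw [hm ψ] at h0
  simp [h0]

theorem eq_smul_of_unique_constituent [Fintype G] {a : G → ℂ} (ha : IsCharacter G a) {η : G → ℂ}
    (hη : IsIrrCharacter G η)
    (h : ∀ ψ : G → ℂ, IsIrrCharacter G ψ → classInner a ψ ≠ 0 → ψ = η) :
    ∃ c : ℕ, classInner a η = c ∧ a = (c : ℂ) • η := by
  classical
  obtain ⟨m, hm, hsum⟩ := exists_mult ha
  refine ⟨m ⟨η, hη⟩, hm ⟨η, hη⟩, ?_⟩
  conv_lhs => rw [hsum]
  refine Finset.sum_eq_single (⟨η, hη⟩ : IrrCharacter G) (fun ψ _ hne => ?_) (by simp)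
  have h0 : classInner a (ψ : G → ℂ) = 0 := by
    by_contra h1
    exact hne (Subtype.ext (h ψ ψ.2 h1))
  rw [hm ψ] at h0
  simp [h0]

theorem Over.apply_one {Z L : Subgroup G} {θ : Z → ℂ} {η : L → ℂ} {g : ℕ} (h : Over θ η g) :
    η 1 = g * θ 1 := h 1 Z.one_mem L.one_mem

theorem Over.pos {Z L : Subgroup G} {θ : Z → ℂ} {η : L → ℂ} {g : ℕ} (h : Over θ η g)
    (hη : IsIrrCharacter L η) : 0 < g := by
  rcases Nat.eq_zero_or_pos g with rfl | hg
  · exact absurd (by simpa using h.apply_one) (isIrrCharacter_apply_one_ne_zero hη)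
  · exact hg

theorem Over.congr_g {Z L : Subgroup G} {θ : Z → ℂ} {η η' : L → ℂ} {g g' : ℕ}
    (hθ : IsIrrCharacter Z θ) (h : Over θ η g) (h' : Over θ η' g') (h1 : η 1 = η' 1) : g = g' := by
  rw [h.apply_one, h'.apply_one] at h1
  exact_mod_cast mul_right_cancel₀ (isIrrCharacter_apply_one_ne_zero hθ) h1

/-- The constituents of a character lying over `θ` lie over `θ`. -/
theorem over_of_constituent [Fintype G] {Z L : Subgroup G} [Fintype Z] [Fintype L] {θ : Z → ℂ}
    (hθ : IsIrrCharacter Z θ) (hZL : Z ≤ L) {a : L → ℂ} (ha : IsCharacter L a) {k : ℕ}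
    (hk : Over θ a k) {η : L → ℂ} (hη : IsIrrCharacter L η) (h : classInner a η ≠ 0) :
    ∃ g : ℕ, Over θ η g := by
  obtain ⟨g, -, hg⟩ := eq_smul_of_unique_constituent
    (CharBasic.isCharacter_comap (Subgroup.inclusion hZL) (isCharacter_of_isIrrCharacter hη)) hθ
    (fun ψ hψ hne => by
      by_contra hne'
      have h1 := res_constituent (Subgroup.inclusion hZL) ha hη h
        (isCharacter_of_isIrrCharacter hψ) hne
      have hak : a ∘ (Subgroup.inclusion hZL) = (k : ℂ) • θ := by
        funext z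
        exact hk z z.2 (hZL z.2)
      rw [hak, CharBasicOrth.classInner_smul_left,
        CharBasicOrth.classInner_irr_ne hθ hψ (Ne.symm hne'), mul_zero] at h1
      exact h1 rfl)
  exact ⟨g, fun z hz hl => congrFun hg ⟨z, hz⟩⟩

/-- The character from which an irreducible character is induced from a normal subgroup
is irreducible. -/
theorem irr_of_ind_irr [Fintype G] (K : Subgroup G) [K.Normal] [Fintype K] {φ : K → ℂ}
    (hφ : IsCharacter K φ) {χ : G → ℂ} (hχ : IsIrrCharacter G χ) (h : indFun K φ = χ) :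
    IsIrrCharacter K φ ∧ classInner (fun x : K => χ x) φ = 1 := by
  classical
  obtain ⟨m, hm⟩ := CharBasicOrth.classInner_isCharacter hφ hφ
  choose n hn using fun x : G =>
    CharBasicOrth.classInner_isCharacter (isCharacter_conjFun K hφ x) hφ
  have h1 := inner_ind_ind_normal K φ φ
  rw [h, CharBasicOrth.classInner_irr_self hχ] at h1
  simp only [hn, ← Nat.cast_sum] at h1
  have h2 : (Nat.card K : ℂ) = ((∑ x : G, n x : ℕ) : ℂ) := by
    have := congrArg (fun t : ℂ => (Nat.card K : ℂ) * t) h1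
    simpa [← mul_assoc, mul_inv_cancel₀ (card_subgroup_ne_zero K)] using this
  have h3 : Nat.card K = ∑ x : G, n x := by exact_mod_cast h2
  have h4 : ∀ x : G, x ∈ K → n x = m := fun x hx => by
    have h5 := hn x
    rw [conjFun_mem_eq K (CharBasic.isClassFunction_of_isCharacter hφ) hx, hm] at h5
    exact_mod_cast h5.symm
  have h6 : Nat.card K * m ≤ ∑ x : G, n x := by
    calc Nat.card K * m = ∑ x ∈ Finset.univ.filter (fun x : G => x ∈ K), n x := by
          rw [Finset.sum_congr rfl (fun x hx => h4 x (Finset.mem_filter.1 hx).2),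
            Finset.sum_const, smul_eq_mul, Nat.card_eq_fintype_card,
            Fintype.card_of_subtype (Finset.univ.filter fun x : G => x ∈ K) (by simp)]
      _ ≤ _ := Finset.sum_le_sum_of_subset (Finset.filter_subset _ _)
  have hm1 : m ≤ 1 := by
    rw [← h3] at h6
    exact Nat.le_of_mul_le_mul_left (by rw [mul_one]; exact h6) (Nat.card_pos (α := K))
  have hm0 : m ≠ 0 := by
    rintro rfl
    have hz := CharBasicOrth.eq_zero_of_classInner_self (by simpa using hm : classInner φ φ = 0)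
    have : χ = 0 := by rw [← h, hz, CharInduced.ind_zero]
    exact isIrrCharacter_apply_one_ne_zero hχ (congrFun this 1)
  have hm' : m = 1 := by omega
  refine ⟨isIrrCharacter_iff.2 ⟨hφ, by rw [hm, hm', Nat.cast_one]⟩, ?_⟩
  rw [← inner_ind_right K φ (isClassFunction_irr hχ), h, CharBasicOrth.classInner_irr_self hχ]

/-! ### Indices -/

theorem card_mul_relIndex {A B : Subgroup G} (h : A ≤ B) :
    Nat.card A * A.relIndex B = Nat.card B := by
  rw [← Subgroup.relIndex_bot_left, ← Subgroup.relIndex_bot_left,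
    Subgroup.relIndex_mul_relIndex _ _ _ bot_le h]

theorem relIndex_dvd_index_right [Finite G] (A K : Subgroup G) [K.Normal] :
    A.relIndex K ∣ A.index := by
  have h1 : Nat.card K * K.relIndex A = Nat.card (A ⊔ K : Subgroup G) := by
    rw [← Subgroup.relIndex_sup_right, card_mul_relIndex le_sup_right]
  have h2 : Nat.card A * A.relIndex (A ⊔ K) = Nat.card (A ⊔ K : Subgroup G) :=
    card_mul_relIndex le_sup_left
  have h3 : Nat.card (A ⊓ K : Subgroup G) * A.relIndex K = Nat.card K := by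
    rw [← Subgroup.inf_relIndex_right, card_mul_relIndex inf_le_right]
  have h4 : Nat.card (A ⊓ K : Subgroup G) * K.relIndex A = Nat.card A := by
    rw [← Subgroup.inf_relIndex_left, card_mul_relIndex inf_le_left]
  have h5 : A.relIndex (A ⊔ K) = A.relIndex K := by
    refine Nat.eq_of_mul_eq_mul_left (Nat.card_pos : 0 < Nat.card A) ?_
    rw [h2, ← h1, ← h3, ← h4]
    ring
  exact h5 ▸ Subgroup.relIndex_dvd_index_of_le le_sup_left

/-! ### Basic consequences -/

namespace FR

variable {Z : Subgroup G} [hZ : Z.Normal] {χ : G → ℂ} {θ : Z → ℂ} {e : ℕ}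

omit hZ in
theorem e_pos [Finite G] (h : FR Z χ θ e) : 0 < e := by
  rcases Nat.eq_zero_or_pos e with rfl | he
  · exact absurd (by simpa using h.sq.symm) Subgroup.index_ne_zero_of_finite
  · exact he

theorem invariant [Finite G] (h : FR Z χ θ e) (g : G) : conjFun Z θ g = θ := by
  funext z
  have h1 := h.res ⟨g * z * g⁻¹, hZ.conj_mem z z.2 g⟩
  rw [isClassFunction_irr h.irr (z : G) g, h.res z] at h1
  exact (mul_left_cancel₀ (Nat.cast_ne_zero.2 h.e_pos.ne') h1).symm

variable [Fintype G]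

theorem vanish (h : FR Z χ θ e) {x : G} (hx : x ∉ Z) : χ x = 0 := by
  classical
  haveI : Fintype Z := Fintype.ofFinite _
  have h1 : ∑ y : G, ‖χ y‖ ^ 2 = (Nat.card G : ℝ) := by
    have h0 := congrArg Complex.re (CharBasicOrth.classInner_irr_self h.irr)
    rw [CharBasicOrth.classInner_self_re, Complex.one_re] at h0
    field_simp at h0
    linarith
  have h2 : ∑ z : Z, ‖θ z‖ ^ 2 = (Nat.card Z : ℝ) := by
    have h0 := congrArg Complex.re (CharBasicOrth.classInner_irr_self h.irrZ)
    rw [CharBasicOrth.classInner_self_re, Complex.one_re] at h0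
    field_simp at h0
    linarith
  have h3 : ∑ y ∈ Finset.univ.filter (fun y : G => y ∈ Z), ‖χ y‖ ^ 2 = (Nat.card G : ℝ) := by
    rw [Finset.sum_subtype (p := fun y : G => y ∈ Z) _ (by simp) (fun y => ‖χ y‖ ^ 2)]
    calc ∑ z : Z, ‖χ (z : G)‖ ^ 2 = (e : ℝ) ^ 2 * ∑ z : Z, ‖θ z‖ ^ 2 := by
          rw [Finset.mul_sum]
          refine Finset.sum_congr rfl fun z _ => ?_
          rw [h.res z, norm_mul, Complex.norm_natCast, mul_pow]
      _ = _ := by
          rw [h2, ← Nat.cast_pow, ← Nat.cast_mul, h.sq, mul_comm, Subgroup.card_mul_index]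
  rw [← Finset.sum_filter_add_sum_filter_not Finset.univ (fun y : G => y ∈ Z), h3] at h1
  have h4 := (Finset.sum_eq_zero_iff_of_nonneg (fun y _ => by positivity)).1
    (by linarith : ∑ y ∈ Finset.univ.filter (fun y : G => ¬ y ∈ Z), ‖χ y‖ ^ 2 = 0) x
    (Finset.mem_filter.2 ⟨Finset.mem_univ _, hx⟩)
  simpa using h4

theorem ind_theta (h : FR Z χ θ e) : indFun Z θ = (e : ℂ) • χ := by
  classical
  funext x
  by_cases hx : x ∈ Z
  · have h1 := congrFun (res_ind_normal Z θ) ⟨x, hx⟩
    simp only [Pi.smul_apply, smul_eq_mul, h.invariant, Finset.sum_const,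
      Finset.card_univ, nsmul_eq_mul, ← Nat.card_eq_fintype_card, Pi.mul_apply,
      Pi.natCast_apply] at h1
    rw [h1, Pi.smul_apply, smul_eq_mul, h.res ⟨x, hx⟩, ← mul_assoc, ← mul_assoc, ← _root_.sq,
      ← Nat.cast_pow, h.sq, ← Subgroup.card_mul_index Z, Nat.cast_mul,
      inv_mul_cancel_left₀ (card_subgroup_ne_zero Z)]
  · rw [ind_normal_eq_zero Z θ hx, Pi.smul_apply, h.vanish hx, smul_zero]

omit hZ in
theorem over_res (h : FR Z χ θ e) {L : Subgroup G} : Over θ (fun x : L => χ x) e :=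
  fun z hz _ => h.res ⟨z, hz⟩

/-- Every character lying over `θ` induces to a multiple of `χ`. -/
theorem ind_over (h : FR Z χ θ e) {L : Subgroup G} [Fintype L] (hZL : Z ≤ L) {η : L → ℂ}
    (hη : IsCharacter L η) {g : ℕ} (hg : Over θ η g) :
    ∃ c : ℕ, indFun L η = (c : ℂ) • χ ∧ L.index * g = c * e := by
  classical
  haveI : Fintype Z := Fintype.ofFinite _
  obtain ⟨c, -, hc⟩ := eq_smul_of_unique_constituent (isCharacter_ind L hη) h.irr
    (fun ψ hψ hne => by
      rw [inner_ind_left L η (isClassFunction_irr hψ)] at hne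
      have hψL : IsCharacter L (fun x : L => ψ x) :=
        isCharacter_res L (isCharacter_of_isIrrCharacter hψ)
      obtain ⟨ζ, hζ, h1, h2⟩ : ∃ ζ : L → ℂ, IsIrrCharacter L ζ ∧ classInner η ζ ≠ 0 ∧
          classInner (fun x : L => ψ x) ζ ≠ 0 := by
        by_contra hcon
        apply hne
        rw [CharBasicOrth.classInner_eq_sum (CharBasic.isClassFunction_of_isCharacter hη)]
        refine Finset.sum_eq_zero fun ζ _ => ?_
        by_cases h1 : classInner η (ζ : L → ℂ) = 0
        · rw [h1, zero_mul]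
        · by_cases h2 : classInner (fun x : L => ψ x) (ζ : L → ℂ) = 0
          · rw [h2, map_zero, mul_zero]
          · exact absurd ⟨ζ, ζ.2, h1, h2⟩ hcon
      obtain ⟨g', hg'⟩ := over_of_constituent h.irrZ hZL hη hg hζ h1
      have hg'0 := hg'.pos hζ
      have h3 : classInner (fun z : Z => ψ z) θ ≠ 0 := by
        refine res_constituent (Subgroup.inclusion hZL) hψL hζ h2
          (isCharacter_of_isIrrCharacter h.irrZ) ?_
        have : ζ ∘ (Subgroup.inclusion hZL) = (g' : ℂ) • θ := funext fun z => hg' z z.2 (hZL z.2)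
        rw [this, CharBasicOrth.classInner_smul_left, CharBasicOrth.classInner_irr_self h.irrZ,
          mul_one]
        exact Nat.cast_ne_zero.2 hg'0.ne'
      rw [← inner_ind_right Z θ (isClassFunction_irr hψ), h.ind_theta,
        CharBasicOrth.classInner_smul_right] at h3
      by_contra hne'
      exact h3 (by rw [CharBasicOrth.classInner_irr_ne hψ h.irr hne', mul_zero]))
  refine ⟨c, hc, ?_⟩
  have h1 := congrFun hc 1
  have hχ1 : χ 1 = e * θ 1 := h.res 1
  rw [ind_one_apply, hg.apply_one, Pi.smul_apply, smul_eq_mul, hχ1, ← mul_assoc, ← mul_assoc,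
    ← Nat.cast_mul, ← Nat.cast_mul] at h1
  exact_mod_cast mul_right_cancel₀ (isIrrCharacter_apply_one_ne_zero h.irrZ) h1

omit hZ in
theorem sq_le (h : FR Z χ θ e) {L : Subgroup G} [Fintype L] (hZL : Z ≤ L) {η : L → ℂ}
    (hη : IsIrrCharacter L η) {g : ℕ} (hg : Over θ η g) :
    g ^ 2 * Nat.card Z ≤ Nat.card L := by
  classical
  haveI : Fintype Z := Fintype.ofFinite _
  have h1 : ∑ y : L, ‖η y‖ ^ 2 = (Nat.card L : ℝ) := by
    have h0 := congrArg Complex.re (CharBasicOrth.classInner_irr_self hη)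
    rw [CharBasicOrth.classInner_self_re, Complex.one_re] at h0
    field_simp at h0
    linarith
  have h2 : ∑ z : Z, ‖θ z‖ ^ 2 = (Nat.card Z : ℝ) := by
    have h0 := congrArg Complex.re (CharBasicOrth.classInner_irr_self h.irrZ)
    rw [CharBasicOrth.classInner_self_re, Complex.one_re] at h0
    field_simp at h0
    linarith
  have h3 : ∑ z : Z, ‖η (Subgroup.inclusion hZL z)‖ ^ 2 ≤ ∑ y : L, ‖η y‖ ^ 2 := by
    rw [← Finset.sum_image (f := fun y : L => ‖η y‖ ^ 2)
      (fun a _ b _ hab => Subgroup.inclusion_injective hZL hab)]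
    exact Finset.sum_le_sum_of_subset_of_nonneg (Finset.subset_univ _) fun y _ _ => by positivity
  have h4 : ∑ z : Z, ‖η (Subgroup.inclusion hZL z)‖ ^ 2 = (g : ℝ) ^ 2 * Nat.card Z := by
    rw [← h2, Finset.mul_sum]
    refine Finset.sum_congr rfl fun z _ => ?_
    rw [show η (Subgroup.inclusion hZL z) = g * θ z from hg z z.2 (hZL z.2), norm_mul,
      Complex.norm_natCast, mul_pow]
  rw [h4, h1] at h3
  exact_mod_cast h3

/-- On a subgroup containing `Z`, of index prime to `p` and with `p`-power index over `Z`,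
there is again a fully ramified character. -/
theorem descend (h : FR Z χ θ e) {p : ℕ} [hp : Fact p.Prime] {P : Subgroup G} [Fintype P]
    (hZP : Z ≤ P) {n : ℕ} (hn : Nat.card Z * p ^ n = Nat.card P) (hP : ¬ p ∣ P.index) :
    ∃ (ξ : P → ℂ) (f : ℕ), FR (Z.subgroupOf P) ξ (toSubgroupOf θ) f := by
  haveI : Fintype Z := Fintype.ofFinite _
  obtain ⟨ξ, hξ, hne⟩ := exists_constituent (isCharacter_res P (isCharacter_of_isIrrCharacter h.irr))
    (by simpa using isIrrCharacter_apply_one_ne_zero h.irr)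
  obtain ⟨f, hf⟩ := over_of_constituent h.irrZ hZP
    (isCharacter_res P (isCharacter_of_isIrrCharacter h.irr)) h.over_res hξ hne
  obtain ⟨c, -, hc⟩ := h.ind_over hZP (isCharacter_of_isIrrCharacter hξ) hf
  have hidx : Z.index = p ^ n * P.index := by
    refine Nat.eq_of_mul_eq_mul_left (Nat.card_pos : 0 < Nat.card Z) ?_
    rw [Subgroup.card_mul_index, ← mul_assoc, hn, Subgroup.card_mul_index]
  have h1 : P.index * f ^ 2 = c ^ 2 * p ^ n := by
    refine Nat.eq_of_mul_eq_mul_left (Nat.pos_of_ne_zero (Subgroup.index_ne_zero_of_finite (H := P))) ?_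
    calc P.index * (P.index * f ^ 2) = (P.index * f) ^ 2 := by ring
      _ = c ^ 2 * e ^ 2 := by rw [hc]; ring
      _ = _ := by rw [h.sq, hidx]; ring
  have h2 : p ^ n ∣ f ^ 2 :=
    (Nat.Coprime.pow_left n ((Nat.Prime.coprime_iff_not_dvd hp.out).2 hP)).dvd_of_dvd_mul_left
      (h1 ▸ Dvd.intro_left _ rfl)
  have h3 : f ^ 2 ≤ p ^ n := by
    have := h.sq_le hZP hξ hf
    rw [← hn, mul_comm] at this
    exact Nat.le_of_mul_le_mul_left this Nat.card_pos
  have h4 : f ^ 2 = p ^ n :=
    le_antisymm h3 (Nat.le_of_dvd (pow_pos (hf.pos hξ) 2) h2)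
  refine ⟨ξ, f, hξ, ?_, ?_, fun z => hf (z : P) (Subgroup.mem_subgroupOf.1 z.2) (z : P).2⟩
  · exact isIrrCharacter_comap (Subgroup.subgroupOfEquivOfLe hZP).toMonoidHom
      (MulEquiv.surjective _) h.irrZ
  · show f ^ 2 = (Z.subgroupOf P).index
    rw [h4]
    refine Nat.eq_of_mul_eq_mul_left (Nat.card_pos : 0 < Nat.card Z) ?_
    rw [hn, ← card_mul_relIndex hZP]
    rfl

/-- Two characters of a normal subgroup lying over `θ` are conjugate; their inertia groups are
measured by the multiplicity of `χ`. -/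
theorem normal_over (h : FR Z χ θ e) {L : Subgroup G} [L.Normal] [Fintype L] (hZL : Z ≤ L)
    {η : L → ℂ} (hη : IsIrrCharacter L η) {g : ℕ} (hg : Over θ η g) :
    (∀ (η' : L → ℂ) (g' : ℕ), IsIrrCharacter L η' → Over θ η' g' → η' ∈ orbitFin L η) ∧
      ∃ c : ℕ, L.index * g = c * e ∧ c ^ 2 * Nat.card L = Nat.card (inertia L η) := by
  obtain ⟨c, hc, hce⟩ := h.ind_over hZL (isCharacter_of_isIrrCharacter hη) hg
  refine ⟨fun η' g' hη' hg' => ?_, c, hce, ?_⟩
  · by_contra hn
    obtain ⟨c', hc', hce'⟩ := h.ind_over hZL (isCharacter_of_isIrrCharacter hη') hg'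
    have h0 := classInner_ind_ind_eq_zero L hη hη' hn
    rw [hc, hc', CharBasicOrth.classInner_smul_left, CharBasicOrth.classInner_smul_right,
      CharBasicOrth.classInner_irr_self h.irr, mul_one, Complex.conj_natCast, ← Nat.cast_mul,
      Nat.cast_eq_zero] at h0
    have hLi : 0 < L.index := Nat.pos_of_ne_zero Subgroup.index_ne_zero_of_finite
    rcases Nat.mul_eq_zero.1 h0 with h1 | h1
    · rw [h1, zero_mul] at hce
      exact (Nat.mul_pos hLi (hg.pos hη)).ne' hce
    · rw [h1, zero_mul] at hce'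
      exact (Nat.mul_pos hLi (hg'.pos hη')).ne' hce'
  · have h0 := classInner_ind_self L hη
    rw [hc, CharBasicOrth.classInner_smul_left, CharBasicOrth.classInner_smul_right,
      CharBasicOrth.classInner_irr_self h.irr, mul_one, Complex.conj_natCast,
      eq_div_iff_mul_eq (card_subgroup_ne_zero (G := G) L)] at h0
    rw [_root_.sq]
    exact_mod_cast h0

end FR

end Cfsg.Agent.FullyRamified80
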