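import Cfsg.Agent.S4436
import Cfsg.Agent.S4492
import Cfsg.Agent.S0886
import Cfsg.Agent.Lib.CharGallagher
import Cfsg.Agent.Lib.CharInducedAbelianQuot
import Cfsg.Agent.Lib.CharKernel
import Cfsg.Agent.Lib.FullyRamified80
import Cfsg.Agent.Lib.BlockTheoryHeightSolv
import Cfsg.Agent.Lib.DihedralSolvableClasses16
import Cfsg.Prelude.Def_BlockRank
import Cfsg.Prelude.Def_CaseTheorems

/-!
# Blocks of solvable groups with dihedral or semidihedral defect group

Fong's reductions and the class count in `G / O_{2'}(G)` bound the rank of such a block by two.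
-/

set_option autoImplicit false

namespace Cfsg.Agent.DihedralSolvableBlock16

open Cfsg Cfsg.Agent.DihedralSolvableClasses16 Cfsg.Agent.CharInduced
open Cfsg.Agent.BlockTheoryIdem Cfsg.Agent.BlockTheoryDefect
open Cfsg.Agent.BlockTheoryCentre Cfsg.Agent.BlockTheoryLocalRing

attribute [local instance] Classical.propDecidable

set_option linter.unusedSectionVars false

universe u

variable {G : Type u} [Group G] [Finite G]

section Major

variable {K : Type u} [Group K] [Finite K]

theorem relIndex_zpowers {a : G} {P : Subgroup G} (ha : a ∈ P) :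
    (Subgroup.zpowers a).relIndex P * orderOf a = Nat.card P := by
  have h := ((Subgroup.zpowers a).subgroupOf P).index_mul_card
  rwa [Nat.card_congr (Subgroup.subgroupOfEquivOfLe (Subgroup.zpowers_le.2 ha)).toEquiv,
    Nat.card_zpowers] at h

/-- The hypothesis on the Sylow subgroup is invariant under isomorphism. -/
theorem hasMajor_equiv {P : Subgroup G} (h : HasMajor P) {Q : Subgroup K} (e : P ≃* Q) :
    HasMajor Q := by
  obtain ⟨a, ha, hi, hu⟩ := h
  have ho : ∀ p : P, orderOf (e p : K) = orderOf (p : G) := fun p => by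
    rw [Subgroup.orderOf_coe, Subgroup.orderOf_coe]; exact e.orderOf_eq p
  refine ⟨e ⟨a, ha⟩, (e ⟨a, ha⟩).2, ?_, fun u hu' hne => ?_⟩
  · have h1 := relIndex_zpowers (e ⟨a, ha⟩).2
    have h2 := relIndex_zpowers ha
    rw [ho, ← Nat.card_congr e.toEquiv, ← h2, hi] at h1
    exact Nat.eq_of_mul_eq_mul_right (orderOf_pos a) h1
  · obtain ⟨p, hp⟩ := e.surjective ⟨u, hu'⟩
    obtain rfl : (e p : K) = u := congrArg Subtype.val hp
    rw [ho, ho]
    refine hu p p.2 fun hin => hne ?_
    obtain ⟨i, hi⟩ := hin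
    refine ⟨i, ?_⟩
    have h4 : (⟨a, ha⟩ : P) ^ i = p := Subtype.ext hi
    show (e ⟨a, ha⟩ : K) ^ i = (e p : K)
    rw [← h4, map_zpow, Subgroup.coe_zpow]

theorem hasMajor_dihedral {P : Subgroup G} {n : ℕ} (hn : 3 ≤ n)
    (e : P ≃* DihedralGroup (2 ^ (n - 1))) : HasMajor P := by
  have h4 : 4 ≤ 2 ^ (n - 1) :=
    le_trans (by norm_num) (Nat.pow_le_pow_right two_pos (show 2 ≤ n - 1 by omega))
  set a := e.symm (DihedralGroup.r 1) with ha
  have hoa : orderOf (a : G) = 2 ^ (n - 1) := by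
    rw [Subgroup.orderOf_coe, ha, e.symm.orderOf_eq, DihedralGroup.orderOf_r_one]
  refine ⟨a, a.2, ?_, fun u hu hne => ?_⟩
  · have h1 := relIndex_zpowers a.2
    rw [hoa, Nat.card_congr e.toEquiv, DihedralGroup.nat_card] at h1
    exact Nat.eq_of_mul_eq_mul_right (by positivity) h1
  · rcases he : e ⟨u, hu⟩ with i | i
    · refine absurd ?_ hne
      have h5 : e (a ^ (i.cast : ℤ)) = e ⟨u, hu⟩ := by
        rw [map_zpow, ha, e.apply_symm_apply, he, DihedralGroup.r_one_zpow, ZMod.intCast_zmod_cast]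
      exact ⟨_, congrArg Subtype.val (e.injective h5)⟩
    · have h6 : orderOf u = 2 := by
        rw [← DihedralGroup.orderOf_sr i, ← he, e.orderOf_eq, Subgroup.orderOf_mk]
      rw [h6, hoa]; omega

theorem hasMajor_quasiDihedral {P : Subgroup G} (h : IsQuasiDihedral P) : HasMajor P := by
  obtain ⟨n, hn, hcard, x, y, hx, hy, hxy⟩ := h
  have hox : orderOf (x : G) = 2 ^ n := by rw [Subgroup.orderOf_coe, hx]
  have h1 := relIndex_zpowers x.2
  rw [hox, hcard, pow_succ'] at h1
  have hi : (Subgroup.zpowers (x : G)).relIndex P = 2 :=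
    Nat.eq_of_mul_eq_mul_right (by positivity) h1
  refine ⟨x, x.2, hi, fun u hu hne => ?_⟩
  set q := 2 ^ (n - 1) - 1 with hq
  have h4 : 4 ≤ 2 ^ (n - 1) :=
    le_trans (by norm_num) (Nat.pow_le_pow_right two_pos (show 2 ≤ n - 1 by omega))
  have h2n : 2 ^ n = 2 * 2 ^ (n - 1) := by rw [← pow_succ']; congr 1; omega
  have hy2 : y * y = 1 := by rw [← sq, ← hy, pow_orderOf_eq_one]
  have hyx : (y : G) ∉ Subgroup.zpowers (x : G) := by
    rintro ⟨i, hi'⟩
    have hy' : x ^ i = y := Subtype.ext (by simpa using hi')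
    have hc : y * x * y⁻¹ = x := by rw [← hy', ← zpow_add_one, add_comm, zpow_one_add, mul_inv_cancel_right]
    rw [hxy, show q = q - 1 + 1 by omega, pow_add, pow_one, mul_eq_right] at hc
    replace hc := orderOf_dvd_of_pow_eq_one hc
    rw [hx] at hc
    have := Nat.le_of_dvd (by omega) hc
    omega
  have hxu : u * (y : G) ∈ Subgroup.zpowers (x : G) := by
    rw [mem_mul_iff hi hu y.2]
    exact iff_of_false hne hyx
  obtain ⟨i, hi' : (x : G) ^ i = u * (y : G)⟩ := hxu
  have hu' : (⟨u, hu⟩ : P) = x ^ i * y := by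
    refine Subtype.ext ?_
    rw [Subgroup.coe_mul, Subgroup.coe_zpow, hi', mul_assoc, ← Subgroup.coe_mul, hy2]
    simp
  have hsq : ((⟨u, hu⟩ : P)) ^ 2 = x ^ ((2 ^ (n - 1) : ℕ) * i : ℤ) := by
    have hyi : y * x ^ i * y⁻¹ = x ^ ((q : ℤ) * i) := by
      rw [← conj_zpow, hxy, ← zpow_natCast, ← zpow_mul]
    have hinv : y⁻¹ = y := inv_eq_of_mul_eq_one_right hy2
    calc (⟨u, hu⟩ : P) ^ 2 = x ^ i * (y * x ^ i * y⁻¹) := by rw [hu', sq, hinv]; group
      _ = x ^ (i + (q : ℤ) * i) := by rw [hyi, zpow_add]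
      _ = _ := by
          congr 1
          have : ((2 ^ (n - 1) : ℕ) : ℤ) = (q : ℤ) + 1 := by omega
          rw [this]; ring
  have h4u : orderOf u ∣ 4 := by
    rw [← Subgroup.orderOf_mk (H := P) u hu]
    refine orderOf_dvd_of_pow_eq_one ?_
    rw [show (4 : ℕ) = 2 * 2 from rfl, pow_mul, hsq, ← zpow_natCast, ← zpow_mul, mul_comm,
      ← mul_assoc, zpow_mul, zpow_mul, zpow_natCast, zpow_natCast, ← pow_mul, ← h2n, ← hx,
      pow_orderOf_eq_one, one_zpow]
  have := Nat.le_of_dvd (by norm_num) h4u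
  rw [hox]
  omega

end Major

section Coset

variable [Fintype G]

/-- The members over `θ` are proportional on each coset of `N`. -/
theorem exists_coset_fun (N : Subgroup G) [N.Normal] {θ : IrrCharacter N}
    (hinv : ∀ g : G, conjFun N (θ : N → ℂ) g = (θ : N → ℂ)) (q : G ⧸ N) :
    ∃ F : G → ℂ, ∀ χ : IrrCharacter G, classInner (fun n : N => (χ : G → ℂ) n) (θ : N → ℂ) ≠ 0 →
      ∃ c : ℂ, ∀ x : G, (x : G ⧸ N) = q → (χ : G → ℂ) x = c * F x := by
  set L := (Subgroup.zpowers q).comap (QuotientGroup.mk' N) with hL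
  have hNL : N ≤ L := fun n hn => by
    rw [hL, Subgroup.mem_comap, QuotientGroup.mk'_apply, (QuotientGroup.eq_one_iff n).2 hn]
    exact Subgroup.one_mem _
  have hcyc : IsCyclic (L ⧸ N.subgroupOf L) := by
    let f : L →* Subgroup.zpowers q :=
      { toFun := fun l => ⟨((l : G) : G ⧸ N), l.2⟩
        map_one' := rfl
        map_mul' := fun _ _ => rfl }
    have hker : f.ker = N.subgroupOf L := by
      ext l
      rw [MonoidHom.mem_ker, Subgroup.mem_subgroupOf, Subtype.ext_iff]
      exact QuotientGroup.eq_one_iff _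
    exact isCyclic_of_injective ((QuotientGroup.kerLift f).comp
      (QuotientGroup.quotientMulEquivOfEq hker.symm).toMonoidHom)
      ((QuotientGroup.kerLift_injective f).comp (MulEquiv.injective _))
  set e : N.subgroupOf L ≃* N := Subgroup.subgroupOfEquivOfLe hNL with he
  set θL : N.subgroupOf L → ℂ := (θ : N → ℂ) ∘ e.toMonoidHom with hθLdef
  have hθL : IsIrrCharacter (N.subgroupOf L) θL :=
    CharBasic.isIrrCharacter_comap _ e.surjective θ.2
  obtain ⟨φ, hφ, hext⟩ := S0886.result (N.subgroupOf L) hcyc θL hθL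
    fun g n => congrFun (hinv (g : G)) (e n)
  obtain ⟨x0, hx0⟩ := QuotientGroup.mk_surjective q
  have hx0L : x0 ∈ L := by
    rw [hL, Subgroup.mem_comap, QuotientGroup.mk'_apply, hx0]; exact Subgroup.mem_zpowers q
  have hbij := CharGallagher.bijOn_one (N.subgroupOf L) hθL hφ hext
  have hprop : ∀ ψ : IrrCharacter L,
      classInner (fun n : N.subgroupOf L => (ψ : L → ℂ) n) θL ≠ 0 →
      ∃ c : ℂ, ∀ x : L, ((x : G) : G ⧸ N) = q → (ψ : L → ℂ) x = c * φ x := by
    intro ψ hψ
    obtain ⟨β, ⟨hβ, hβ1⟩, hβψ⟩ := hbij.surjOn ⟨ψ.2, hψ⟩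
    obtain ⟨γ, hγ⟩ := CharKernel.exists_quot_irr (N.subgroupOf L) ⟨β, hβ⟩ fun n hn => hβ1 ⟨n, hn⟩
    refine ⟨β ⟨x0, hx0L⟩, fun x hx => ?_⟩
    have hxx : (x : L ⧸ N.subgroupOf L) = ((⟨x0, hx0L⟩ : L) : L ⧸ N.subgroupOf L) := by
      rw [QuotientGroup.eq, Subgroup.mem_subgroupOf, Subgroup.coe_mul, Subgroup.coe_inv,
        ← QuotientGroup.eq, hx, hx0]
    have h1 : β x = β ⟨x0, hx0L⟩ := by rw [show β x = _ from hγ x, hxx, ← hγ]
    rw [← h1]
    exact (congrFun hβψ x).symm
  refine ⟨fun x => if h : x ∈ L then φ ⟨x, h⟩ else 0, fun χ hχ => ?_⟩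
  have ha : IsCharacter L (fun l : L => (χ : G → ℂ) l) :=
    CharInduced.isCharacter_res L (CharBasic.isCharacter_of_isIrrCharacter χ.2)
  have hres := CharInduced.res_eq_smul_of_invariant N θ.2 hinv χ.2 hχ
  have hover : ∀ ψ : IrrCharacter L, classInner (fun l : L => (χ : G → ℂ) l) (ψ : L → ℂ) ≠ 0 →
      classInner (fun n : N.subgroupOf L => (ψ : L → ℂ) n) θL ≠ 0 := by
    intro ψ hψ h0
    obtain ⟨ξ, hξ, hξc⟩ := FullyRamified80.exists_constituent
      (CharInduced.isCharacter_res (N.subgroupOf L) (CharBasic.isCharacter_of_isIrrCharacter ψ.2))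
      (irr_one_ne_zero ψ)
    have h := FullyRamified80.res_constituent (N.subgroupOf L).subtype ha ψ.2 hψ
      (CharBasic.isCharacter_of_isIrrCharacter hξ) hξc
    refine h ?_
    have h1 : (fun l : L => (χ : G → ℂ) l) ∘ (N.subgroupOf L).subtype =
        classInner (fun n : N => (χ : G → ℂ) n) (θ : N → ℂ) • θL :=
      funext fun n => congrFun hres (e n)
    rw [h1, CharInduced.inner_smul_left,
      CharBasicOrth.classInner_irr_ne hθL hξ fun h => hξc (h ▸ h0), mul_zero]
  choose c hc using hprop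
  refine ⟨∑ ψ : IrrCharacter L, classInner (fun l : L => (χ : G → ℂ) l) (ψ : L → ℂ) *
    (if h : classInner (fun n : N.subgroupOf L => (ψ : L → ℂ) n) θL ≠ 0 then c ψ h else 0),
    fun x hx => ?_⟩
  have hxL : x ∈ L := by
    rw [hL, Subgroup.mem_comap, QuotientGroup.mk'_apply, hx]; exact Subgroup.mem_zpowers q
  have hsum := congrFun (CharBasicOrth.eq_sum_classInner
    (CharBasic.isClassFunction_of_isCharacter ha)) ⟨x, hxL⟩
  dsimp only
  rw [hsum, dif_pos hxL, Finset.sum_mul, Finset.sum_apply]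
  refine Finset.sum_congr rfl fun ψ _ => ?_
  rw [Pi.smul_apply, smul_eq_mul, mul_assoc]
  by_cases h0 : classInner (fun l : L => (χ : G → ℂ) l) (ψ : L → ℂ) = 0
  · simp [h0]
  · rw [dif_pos (hover ψ h0), hc ψ (hover ψ h0) ⟨x, hxL⟩ hx]

theorem pRegularPart_conj {χ : G → ℂ} (hχ : IsClassFunction G χ) (g h : G) :
    pRegularPart 2 χ (h * g * h⁻¹) = pRegularPart 2 χ g := by
  have ho : orderOf (h * g * h⁻¹) = orderOf g := (MulAut.conj h).orderOf_eq g
  simp [pRegularPart, IsPRegular, ho, hχ g h]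

theorem pRegularPart_indFun (T : Subgroup G) (f : T → ℂ) :
    pRegularPart 2 (indFun T f) = indFun T (pRegularPart 2 f) := by
  funext g
  have ho : ∀ x : G, orderOf (x⁻¹ * g * x) = orderOf g := fun x => by
    simpa using (MulAut.conj x⁻¹).orderOf_eq g
  show (if IsPRegular 2 g then indFun T f g else 0) = indFun T (pRegularPart 2 f) g
  have key : ∀ x : G, extendByZero T (pRegularPart 2 f) (x⁻¹ * g * x) =
      if IsPRegular 2 g then extendByZero T f (x⁻¹ * g * x) else 0 := by
    intro x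
    by_cases h : x⁻¹ * g * x ∈ T
    · rw [ext_zero_of_mem _ h, ext_zero_of_mem _ h]
      simp only [pRegularPart, IsPRegular, Subgroup.orderOf_mk, ho]
      by_cases hg : 2 ∣ orderOf g <;> simp [hg]
    · simp [ext_zero_of_not_mem _ h]
  simp only [indFun, key]
  split_ifs <;> simp

end Coset

/-- A block of a solvable group with such a defect group has rank at most two. -/
theorem rank_le_two {M : Ideal AlgInt} (hM : IsPModular 2 M) : ∀ (m : ℕ) {G : Type u} [Group G]
    [Finite G], Nat.card G = m → Group.IsSolvable G → ∀ {B : Set (IrrCharacter G)}, IsPBlock M B →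
    ∀ {D : Subgroup G}, IsDefectGroup 2 M B D → HasMajor D → blockRank 2 B ≤ 2 := by
  intro m
  induction m using Nat.strong_induction_on with
  | _ m ih =>
  intro G _ _ hm hsolv B hB D hD hmaj
  haveI : Fact (Nat.Prime 2) := ⟨Nat.prime_two⟩
  have : Fintype G := Fintype.ofFinite G
  haveI := hsolv
  have hps : IsPSolvable 2 G :=
    (HallSolvable.isPSolvable_iff 2).mpr (HallSolvable.isPiSeparable_of_solvable _)
  set N := pPrimeCore 2 G with hNdef
  have hNp : ¬ 2 ∣ Nat.card N := HallCore.not_dvd_card_pPrimeCore 2 G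
  haveI : N.Normal := HallCore.pPrimeCore_normal 2 G
  obtain ⟨χ, hχ⟩ := block_nonempty hM hB
  obtain ⟨θ, hθ⟩ := BrauerBlocksCovering.exists_constituent (G := N)
    (f := fun n : N => (χ : G → ℂ) n)
    (CharInduced.isCharacter_res N (CharBasic.isCharacter_of_isIrrCharacter χ.2)) (irr_one_ne_zero χ)
  set T := inertia N (θ : N → ℂ)
  have hNT : N ≤ T := le_inertia N (irr_classFun θ)
  by_cases htop : T = ⊤
  · have hinv : ∀ g : G, conjFun N (θ : N → ℂ) g = (θ : N → ℂ) := fun g =>
      (mem_inertia N).mp (htop ▸ Subgroup.mem_top g : g ∈ T)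
    obtain ⟨B0, hB0, hmem, -, hdef⟩ :=
      S4492.result 2 M hM hps N hNdef θ fun g x => congrFun (hinv g) x
    obtain rfl : B = B0 := block_eq_of_mem hM hB hB0 hχ ((hmem χ).mpr hθ)
    obtain ⟨P, rfl⟩ := hdef D hD
    set π := QuotientGroup.mk' N
    have hπ : Function.Surjective π := QuotientGroup.mk_surjective
    set Q := P.mapSurjective hπ
    have hinj : Function.Injective (π.comp (P : Subgroup G).subtype) := by
      rw [injective_iff_map_eq_one]
      intro y hy
      have hyN : (y : G) ∈ N := (QuotientGroup.eq_one_iff _).1 hy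
      obtain ⟨k, hk⟩ := IsPGroup.iff_orderOf.1 P.2 y
      have hd : orderOf y ∣ Nat.card N := by
        rw [← Subgroup.orderOf_coe, ← Subgroup.orderOf_mk (H := N) _ hyN]
        exact _root_.orderOf_dvd_natCard _
      rcases k with _ | k
      · exact orderOf_eq_one_iff.1 (by simpa using hk)
      · exact absurd ((dvd_pow_self 2 k.succ_ne_zero).trans (hk ▸ hd)) hNp
    have hQ : HasMajor (Q : Subgroup (G ⧸ N)) := by
      refine hasMajor_equiv hmaj ((MonoidHom.ofInjective hinj).trans (MulEquiv.subgroupCongr ?_))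
      rw [MonoidHom.range_comp, Subgroup.range_subtype]
      exact (Sylow.coe_mapSurjective _ _).symm
    obtain ⟨r, hr⟩ := exists_rep (H := G ⧸ N) (HallCore.pPrimeCore_quotient_self 2 G) Q hQ
    set V := Submodule.span ℂ ((fun χ : IrrCharacter G => pRegularPart 2 (χ : G → ℂ)) '' B)
    have hsupp : ∀ f ∈ V, ∀ x : G, 2 ∣ orderOf x → f x = 0 := by
      intro f hf x hx
      induction hf using Submodule.span_induction with
      | mem y hy =>
        obtain ⟨ξ, -, rfl⟩ := hy
        simp [pRegularPart, IsPRegular, hx]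
      | zero => rfl
      | add a b _ _ ha hb => simp [ha, hb]
      | smul a b _ hb => simp [hb]
    have hclass : ∀ f ∈ V, ∀ x y : G, f (y * x * y⁻¹) = f x := by
      intro f hf x y
      induction hf using Submodule.span_induction with
      | mem a ha =>
        obtain ⟨ξ, -, rfl⟩ := ha
        exact pRegularPart_conj (irr_classFun ξ) x y
      | zero => rfl
      | add a b _ _ ha hb => simp [ha, hb]
      | smul a b _ hb => simp [hb]
    have hpt : ∀ q : G ⧸ N, ∃ u : G, ∀ f ∈ V, f u = 0 → ∀ x : G, (x : G ⧸ N) = q → f x = 0 := by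
      intro q
      obtain ⟨F, hF⟩ := exists_coset_fun N hinv q
      have hprop : ∀ f ∈ V, ∃ c : ℂ, ∀ x : G, (x : G ⧸ N) = q → f x = c * pRegularPart 2 F x := by
        intro f hf
        induction hf using Submodule.span_induction with
        | mem a ha =>
          obtain ⟨ξ, hξ, rfl⟩ := ha
          obtain ⟨c, hc⟩ := hF ξ ((hmem ξ).1 hξ)
          refine ⟨c, fun x hx => ?_⟩
          simp only [pRegularPart]
          split_ifs
          · exact hc x hx
          · simp
        | zero => exact ⟨0, fun x _ => by simp⟩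
        | add a b _ _ ha hb =>
          obtain ⟨c, hc⟩ := ha; obtain ⟨d, hd⟩ := hb
          exact ⟨c + d, fun x hx => by simp [hc x hx, hd x hx, add_mul]⟩
        | smul a b _ hb =>
          obtain ⟨c, hc⟩ := hb
          exact ⟨a * c, fun x hx => by simp [hc x hx, mul_assoc]⟩
      by_cases hex : ∃ u : G, (u : G ⧸ N) = q ∧ pRegularPart 2 F u ≠ 0
      · obtain ⟨u, hu, hu0⟩ := hex
        refine ⟨u, fun f hf h0 x hx => ?_⟩
        obtain ⟨c, hc⟩ := hprop f hf
        rw [hc u hu, mul_eq_zero] at h0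
        rw [hc x hx, h0.resolve_right hu0, zero_mul]
      · refine ⟨1, fun f hf _ x hx => ?_⟩
        obtain ⟨c, hc⟩ := hprop f hf
        rw [hc x hx, not_not.1 fun h => hex ⟨x, hx, h⟩, mul_zero]
    obtain ⟨u1, hu1⟩ := hpt 1
    obtain ⟨u2, hu2⟩ := hpt r
    let E : V →ₗ[ℂ] ℂ × ℂ :=
      ((LinearMap.proj u1).prod (LinearMap.proj u2)).comp V.subtype
    have hE : Function.Injective E := by
      rw [injective_iff_map_eq_zero]
      rintro ⟨f, hf⟩ h
      have h1 : f u1 = 0 := congrArg Prod.fst h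
      have h2 : f u2 = 0 := congrArg Prod.snd h
      refine Subtype.ext (funext fun x => ?_)
      by_cases hx : 2 ∣ orderOf x
      · exact hsupp f hf x hx
      rcases hr (x : G ⧸ N) fun h => hx (h.trans (orderOf_map_dvd π x)) with h3 | h3
      · exact hu1 f hf h1 x h3
      · obtain ⟨c, hc⟩ := isConj_iff.1 h3.symm
        obtain ⟨c, rfl⟩ := hπ c
        have := hu2 f hf h2 (c * x * c⁻¹) hc
        rwa [hclass f hf] at this
    have hle := LinearMap.finrank_le_finrank_of_injective hE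
    rw [Module.finrank_prod, Module.finrank_self] at hle
    exact hle
  · have hb := BlockTheoryFong.isPBlock_single N θ hM hNp
    have hstab : ∀ g : G, g ∈ T ↔ ∀ θ₀ ∈ ({θ} : Set (IrrCharacter N)), ∀ θ' : IrrCharacter N,
        (∀ x : N, (θ' : N → ℂ) x = (θ₀ : N → ℂ) ⟨g * x * g⁻¹,
          (inferInstance : N.Normal).conj_mem x x.2 g⟩) → θ' ∈ ({θ} : Set (IrrCharacter N)) := by
      intro g
      rw [mem_inertia_iff]
      constructor
      · intro h θ₀ hθ₀ θ' h'
        obtain rfl : θ₀ = θ := hθ₀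
        exact Set.mem_singleton_iff.mpr (Subtype.ext (funext fun x => (h' x).trans (h x)))
      · intro h x
        have h' := h θ rfl
          ⟨conjFun N (θ : N → ℂ) g, isIrrCharacter_conjFun N θ.2 g⟩ (fun _ => rfl)
        exact congrFun (congrArg Subtype.val (Set.mem_singleton_iff.mp h')) x
    have hS := FongReynolds78.isStab_of_statement N hstab
    obtain ⟨ψ, hov, hm'⟩ := FongReynolds78.exists_over (b := ({θ} : Set (IrrCharacter N))) hNT
      (χ := χ) ⟨θ, rfl, hθ⟩
    have hχψ := (FongReynolds78.constituent_key hS hNT hM hb χ hov hm').1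
    have hB' : IsPBlock M (blockOf M (ψ : T → ℂ)) := isPBlock_blockOf ψ
    have hψ := self_mem_blockOf hM ψ
    obtain ⟨B1, hind, -, -, hiff⟩ := FongReynolds78.correspondence hS hNT hM hb hB' ⟨ψ, hψ, hov⟩
    obtain rfl : B = B1 := block_eq_of_mem hM hB hind.2.1 hχ ((hiff χ).mpr ⟨ψ, hψ, hχψ⟩)
    obtain ⟨hdef, -⟩ := S4436.result 2 M hM N {θ} hb T hstab hNT _ hB' ⟨ψ, hψ, hov⟩ B hind
    obtain ⟨D', hD'⟩ := exists_defectGroup hM hB'
    obtain ⟨x, hx⟩ := defectGroup_conj hM hB (hdef D' hD') hD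
    have hmaj' : HasMajor D' := hasMajor_equiv (hx ▸ hmaj)
      ((D'.equivMapOfInjective _ T.subtype_injective).trans
        ((D'.map T.subtype).equivMapOfInjective _ (MulAut.conj x).injective)).symm
    have hlt : Nat.card T < m := hm ▸ lt_of_le_of_ne
      (Nat.le_of_dvd Nat.card_pos T.card_subgroup_dvd_card)
      fun h => htop (Subgroup.eq_top_of_card_eq T h)
    refine le_trans ?_ (ih _ hlt rfl inferInstance hB' hD' hmaj')
    let Φ : (T → ℂ) →ₗ[ℂ] (G → ℂ) :=
      { toFun := indFun T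
        map_add' := fun a b => funext fun g => by
          simp [indFun, ext_zero_add, Finset.sum_add_distrib, mul_add]
        map_smul' := fun c a => funext fun g => by
          simp [indFun, ext_zero_smul, ← Finset.mul_sum]; ring }
    refine le_trans (Submodule.finrank_mono ?_) (Submodule.finrank_map_le Φ _)
    rw [Submodule.span_le]
    rintro _ ⟨η, hη, rfl⟩
    obtain ⟨ψ', hψ', he⟩ := (hiff η).1 hη
    refine ⟨pRegularPart 2 (ψ' : T → ℂ), Submodule.subset_span ⟨ψ', hψ', rfl⟩, ?_⟩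
    show indFun T (pRegularPart 2 (ψ' : T → ℂ)) = pRegularPart 2 (η : G → ℂ)
    rw [he, pRegularPart_indFun]

/-- A block of rank at least three with dihedral or semidihedral defect group forces
non-solvability. -/
theorem not_isSolvable {M : Ideal AlgInt} (hM : IsPModular 2 M) {B : Set (IrrCharacter G)}
    (hB : IsPBlock M B) {D : Subgroup G} (hD : IsDefectGroup 2 M B D)
    (hD' : (∃ n : ℕ, 3 ≤ n ∧ Nonempty (D ≃* DihedralGroup (2 ^ (n - 1)))) ∨ IsQuasiDihedral D)
    (hl : 3 ≤ blockRank 2 B) : ¬ Group.IsSolvable G := by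
  intro hs
  have hmaj : HasMajor D := by
    rcases hD' with ⟨n, hn, ⟨e⟩⟩ | hq
    · exact hasMajor_dihedral hn e
    · exact hasMajor_quasiDihedral hq
  have := rank_le_two hM _ rfl hs hB hD hmaj
  omega

end Cfsg.Agent.DihedralSolvableBlock16
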