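import Mathlib

/-!
Group-ring arithmetic for strongly regular Cayley graphs on dihedral groups: subsets of a finite
commutative group as elements of its integral group ring.
-/

set_option autoImplicit false

namespace Cfsg.Agent.DihedralSrgAlgebra28

open Finset MonoidAlgebra

variable {C : Type*} [CommGroup C]

/-- The element of the group ring attached to a subset. -/
noncomputable def el (R : Type*) [CommRing R] (X : Finset C) : MonoidAlgebra R C :=
  ∑ a ∈ X, MonoidAlgebra.single a 1

theorem coeff_el [DecidableEq C] (R : Type*) [CommRing R] (X : Finset C) (h : C) :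
    (el R X).coeff h = if h ∈ X then 1 else 0 := by
  simp [el, MonoidAlgebra.coeff_sum, Finsupp.single_apply]

theorem coeff_intCast [DecidableEq C] (R : Type*) [CommRing R] (z : ℤ) (h : C) :
    ((z : MonoidAlgebra R C)).coeff h = if h = 1 then (z : R) else 0 := by
  rw [MonoidAlgebra.intCast_def, MonoidAlgebra.coeff_single]
  simp [Finsupp.single_apply, eq_comm]

theorem coeff_intCast_mul [DecidableEq C] (R : Type*) [CommRing R] (z : ℤ) (x : MonoidAlgebra R C)
    (h : C) : ((z : MonoidAlgebra R C) * x).coeff h = (z : R) * x.coeff h := by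
  rw [MonoidAlgebra.intCast_def, MonoidAlgebra.coeff_single_one_mul]

variable [Fintype C]

/-- The sum of all elements. -/
noncomputable def full (R : Type*) [CommRing R] (C : Type*) [CommGroup C] [Fintype C] :
    MonoidAlgebra R C := el R (Finset.univ : Finset C)

theorem coeff_full [DecidableEq C] (R : Type*) [CommRing R] (h : C) :
    (full R C).coeff h = 1 := by simp [full, coeff_el]

theorem single_mul_full (R : Type*) [CommRing R] (a : C) :
    MonoidAlgebra.single a (1 : R) * full R C = full R C := by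
  simp only [full, el, Finset.mul_sum, MonoidAlgebra.single_mul_single, one_mul]
  exact Equiv.sum_comp (Equiv.mulLeft a) fun b => MonoidAlgebra.single b (1 : R)

theorem el_mul_full (R : Type*) [CommRing R] (X : Finset C) :
    el R X * full R C = ((X.card : ℤ) : MonoidAlgebra R C) * full R C := by
  rw [el, Finset.sum_mul]
  simp [single_mul_full, nsmul_eq_mul]

theorem full_mul_full (R : Type*) [CommRing R] :
    full R C * full R C = ((Fintype.card C : ℤ) : MonoidAlgebra R C) * full R C :=
  el_mul_full R Finset.univ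

theorem el_compl [DecidableEq C] (R : Type*) [CommRing R] (X : Finset C) :
    el R Xᶜ = full R C - el R X :=
  eq_sub_of_add_eq (Finset.sum_compl_add_sum X _)

/-- The involution induced by inversion. -/
noncomputable def star (R : Type*) [CommRing R] (C : Type*) [CommGroup C] :
    MonoidAlgebra R C →+* MonoidAlgebra R C :=
  MonoidAlgebra.mapDomainRingHom R (invMonoidHom : C →* C)

theorem star_el [DecidableEq C] (R : Type*) [CommRing R] (X : Finset C) :
    star R C (el R X) = el R (X.image (·⁻¹)) := by
  simp [star, el, Finset.sum_image inv_injective.injOn]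

theorem star_full [DecidableEq C] (R : Type*) [CommRing R] : star R C (full R C) = full R C := by
  rw [full, star_el, Finset.image_univ_of_surjective inv_surjective]

/-- The augmentation. -/
noncomputable def aug (R : Type*) [CommRing R] (C : Type*) [CommGroup C] :
    MonoidAlgebra R C →+* R :=
  ((MonoidAlgebra.lift R R C) (1 : C →* R)).toRingHom

theorem aug_el (R : Type*) [CommRing R] (X : Finset C) : aug R C (el R X) = X.card := by
  simp [aug, el]

theorem aug_full (R : Type*) [CommRing R] : aug R C (full R C) = Fintype.card C := by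
  simp [full, aug_el]

theorem aug_star (R : Type*) [CommRing R] (X : Finset C) :
    aug R C (star R C (el R X)) = X.card := by
  classical
  rw [star_el, aug_el, Finset.card_image_of_injective _ inv_injective]

/-- Odd powers of an element with a cubic relation. -/
theorem odd_pow {S : Type*} [CommRing S] (z J : S) (D c ε : S) (hJ : z * J = ε * J)
    (hz : z ^ 3 = D ^ 2 * z + c * J) (m : ℕ) :
    ∃ c' : ℕ → S, z ^ (2 * m + 1) = D ^ (2 * m) * z + c' m * J := by
  refine ⟨fun m => Nat.rec 0 (fun j cj => D ^ (2 * j) * c + cj * ε ^ 2) m, ?_⟩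
  induction m with
  | zero => simp
  | succ j ih =>
    have e : z ^ (2 * (j + 1) + 1) = z ^ (2 * j + 1) * z ^ 2 := by ring
    rw [e, ih]
    have h2 : z ^ 2 * J = ε ^ 2 * J := by rw [sq, sq, mul_assoc, hJ, mul_left_comm, hJ, mul_assoc]
    linear_combination D ^ (2 * j) * hz +
      (Nat.rec (0 : S) (fun i ci => D ^ (2 * i) * c + ci * ε ^ 2) j) * h2

/-- The arithmetic step at a prime: either the set is constant off the `q`-th powers, or its
fibres under the `q`-th power map are trivial modulo `q`. -/
theorem step [DecidableEq C] (q : ℕ) [hq : Fact q.Prime] (hq2 : q ≠ 2) (hqn : q ∣ Fintype.card C)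
    (X : Finset C) (l D c : ℤ)
    (hz : (2 * el ℤ X - (l : MonoidAlgebra ℤ C)) ^ 3 =
      (D : MonoidAlgebra ℤ C) ^ 2 * (2 * el ℤ X - (l : MonoidAlgebra ℤ C)) +
        (c : MonoidAlgebra ℤ C) * full ℤ C) :
    (∀ h : C, (∀ w, w ^ q ≠ h) → h ∈ X) ∨ (∀ h : C, (∀ w, w ^ q ≠ h) → h ∉ X) ∨
    ((∀ h : C, h ≠ 1 → q ∣ (X.filter (fun a => a ^ q = h)).card) ∧
      ((q : ℤ) ∣ 2 * ((X.filter (fun a => a ^ q = 1)).card : ℤ) - l)) := by
  haveI : CharP (MonoidAlgebra (ZMod q) C) q :=
    charP_of_injective_ringHom
      (f := (MonoidAlgebra.singleOneRingHom : ZMod q →+* MonoidAlgebra (ZMod q) C))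
      (MonoidAlgebra.single_right_injective) q
  let f := MonoidAlgebra.mapRingHom C (Int.castRingHom (ZMod q))
  have hfel : ∀ Z : Finset C, f (el ℤ Z) = el (ZMod q) Z := by
    intro Z
    ext h
    simp [f, coeff_el, apply_ite]
  set x := el (ZMod q) X
  set J := full (ZMod q) C
  have hz' := congrArg f hz
  have hfx : f (el ℤ X) = x := hfel X
  have hfJ : f (full ℤ C) = J := hfel Finset.univ
  simp only [map_pow, map_sub, map_mul, map_add, map_ofNat, map_intCast, hfx, hfJ] at hz'
  have hzJ : (2 * x - (l : MonoidAlgebra (ZMod q) C)) * J =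
      (((2 * X.card : ℤ) - l : ℤ) : MonoidAlgebra (ZMod q) C) * J := by
    rw [sub_mul, mul_assoc, el_mul_full]
    push_cast
    ring
  obtain ⟨m, hm⟩ := hq.out.odd_of_ne_two hq2
  have hm1 : 1 ≤ m := by have := hq.out.two_le; omega
  obtain ⟨c', hc'⟩ := odd_pow _ J _ _ _ hzJ hz' m
  have hfrob : (2 * x - (l : MonoidAlgebra (ZMod q) C)) ^ q =
      2 * (∑ a ∈ X, MonoidAlgebra.single (a ^ q) (1 : ZMod q)) - (l : MonoidAlgebra (ZMod q) C) := by
    have hl : ((l : MonoidAlgebra (ZMod q) C)) ^ q = (l : MonoidAlgebra (ZMod q) C) := by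
      rw [MonoidAlgebra.intCast_def, MonoidAlgebra.single_pow, one_pow, ZMod.pow_card]
    have h2 : (2 : MonoidAlgebra (ZMod q) C) ^ q = 2 := by
      rw [MonoidAlgebra.ofNat_def, MonoidAlgebra.single_pow, one_pow, ZMod.pow_card]
    rw [sub_pow_char, mul_pow, hl, h2]
    simp only [x, el, sum_pow_char, MonoidAlgebra.single_pow, one_pow]
  rw [← hm, hfrob] at hc'
  -- `c' m * J` has constant coefficients
  obtain ⟨γ, hγ⟩ : ∃ γ : ZMod q, ∀ h, (c' m * J).coeff h = γ := by
    refine ⟨(c' m * J).coeff 1, fun h => ?_⟩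
    have e : MonoidAlgebra.single h (1 : ZMod q) * (c' m * J) = c' m * J := by
      rw [mul_left_comm, single_mul_full]
    conv_lhs => rw [← e]
    rw [MonoidAlgebra.coeff_single_mul_apply, inv_mul_cancel, one_mul]
  set E : ZMod q := (D : ZMod q) ^ (2 * m) with hE
  have hco : ∀ h : C, (2 : ZMod q) * ((X.filter (fun a => a ^ q = h)).card : ZMod q) -
      (if h = 1 then (l : ZMod q) else 0) =
      E * (2 * (if h ∈ X then 1 else 0) - (if h = 1 then (l : ZMod q) else 0)) + γ := by
    intro h
    have h1 := congrArg (fun z => MonoidAlgebra.coeff z h) hc'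
    simp only [MonoidAlgebra.coeff_sub, MonoidAlgebra.coeff_add, Finsupp.sub_apply,
      Finsupp.add_apply, hγ] at h1
    have e2 : ((2 : MonoidAlgebra (ZMod q) C)) = (((2 : ℤ)) : MonoidAlgebra (ZMod q) C) := by norm_num
    have eD : ((D : MonoidAlgebra (ZMod q) C)) ^ (2 * m) =
        (((D ^ (2 * m) : ℤ)) : MonoidAlgebra (ZMod q) C) := by push_cast; rfl
    rw [e2, eD, coeff_intCast_mul, coeff_intCast_mul, MonoidAlgebra.coeff_sub, Finsupp.sub_apply,
      coeff_intCast_mul, coeff_el, coeff_intCast] at h1
    simp only [MonoidAlgebra.coeff_sum, Finsupp.finsetSum_apply, MonoidAlgebra.coeff_single,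
      Finsupp.single_apply, Finset.sum_boole] at h1
    push_cast at h1
    exact h1
  obtain ⟨h₀, hh₀⟩ : ∃ h₀ : C, ∀ w, w ^ q ≠ h₀ := by
    by_contra hc
    push Not at hc
    have hsurj : Function.Surjective fun w : C => w ^ q := hc
    obtain ⟨w, hw⟩ := exists_prime_orderOf_dvd_card q hqn
    have h1 : w ^ q = (1 : C) ^ q := by rw [one_pow, ← hw, pow_orderOf_eq_one]
    rw [Finite.injective_iff_surjective.mpr hsurj h1, orderOf_one] at hw
    exact hq.out.ne_one hw.symm
  have hoff : ∀ h : C, (∀ w, w ^ q ≠ h) → 0 = E * (2 * (if h ∈ X then 1 else 0)) + γ := by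
    intro h hh
    have h1 := hco h
    have hne : h ≠ 1 := fun e => hh 1 (by rw [one_pow, e])
    rw [if_neg hne, Finset.filter_eq_empty_iff.mpr fun a _ => hh a] at h1
    simpa using h1
  have two : (2 : ZMod q) ≠ 0 := Ring.two_ne_zero (by rw [ringChar.eq (ZMod q) q]; exact hq2)
  rcases eq_or_ne (D : ZMod q) 0 with hD | hD
  · refine Or.inr (Or.inr ?_)
    have hE0 : E = 0 := by rw [hE, hD, zero_pow (by omega)]
    have hγ0 : γ = 0 := by simpa [hE0] using (hoff h₀ hh₀).symm
    refine ⟨fun h hh => ?_, ?_⟩
    · have h1 := hco h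
      rw [hE0, hγ0, if_neg hh] at h1
      simp [two] at h1
      exact (ZMod.natCast_eq_zero_iff _ q).mp h1
    · have h1 := hco 1
      rw [hE0, hγ0, if_pos rfl] at h1
      simp only [zero_mul, add_zero] at h1
      refine (ZMod.intCast_zmod_eq_zero_iff_dvd _ q).mp ?_
      push_cast
      exact h1
  · have hE1 : E = 1 := by
      rw [hE, show 2 * m = q - 1 by omega, ZMod.pow_card_sub_one_eq_one hD]
    by_cases h0 : h₀ ∈ X
    · refine Or.inl fun h hh => by_contra fun hX => two ?_
      have h1 := hoff h hh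
      have h2 := hoff h₀ hh₀
      rw [if_pos h0] at h2
      rw [if_neg hX] at h1
      rw [hE1] at h1 h2
      linear_combination h1 - h2
    · refine Or.inr (Or.inl fun h hh hX => two ?_)
      have h1 := hoff h hh
      have h2 := hoff h₀ hh₀
      rw [if_neg h0] at h2
      rw [if_pos hX] at h1
      rw [hE1] at h1 h2
      linear_combination h2 - h1

/-- In a cyclic group a set with fibres trivial modulo `q` is stable under the roots of unity. -/
theorem mul_mem_of_fibre [IsCyclic C] [DecidableEq C] (q : ℕ) [hq : Fact q.Prime] (X : Finset C)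
    (h : ∀ h : C, h ≠ 1 → q ∣ (X.filter (fun a => a ^ q = h)).card) {a z : C} (ha : a ∈ X)
    (haq : a ^ q ≠ 1) (hz : z ^ q = 1) : a * z ∈ X := by
  have h1 : q ∣ (X.filter (fun b => b ^ q = a ^ q)).card := h _ haq
  have hall : X.filter (fun b => b ^ q = a ^ q) = Finset.univ.filter (fun b => b ^ q = a ^ q) := by
    refine Finset.eq_of_subset_of_card_le (Finset.filter_subset_filter _ (Finset.subset_univ _)) ?_
    refine le_trans ?_ (Nat.le_of_dvd (Finset.card_pos.2 ⟨a, by simp [ha]⟩) h1)
    refine le_trans (Finset.card_le_card_of_injOn (fun t => a⁻¹ * t)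
      (t := Finset.univ.filter (fun t : C => t ^ q = 1)) ?_ (mul_right_injective _).injOn)
      (IsCyclic.card_pow_eq_one_le hq.out.pos)
    intro t ht
    simp only [Finset.coe_filter, Finset.mem_univ, true_and, Set.mem_ofPred_eq] at ht ⊢
    simp [mul_pow, ht, inv_pow]
  have : a * z ∈ X.filter (fun b => b ^ q = a ^ q) := by rw [hall]; simp [mul_pow, hz]
  exact (Finset.mem_filter.1 this).1

end Cfsg.Agent.DihedralSrgAlgebra28
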