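import Cfsg.Agent.Lib.DihedralSrgAlgebra28

/-!
There is no strongly regular Cayley graph on a dihedral group of twice odd order (with connected
graph and complement and no twin vertices).
-/

set_option autoImplicit false

namespace Cfsg.Agent.DihedralSrgMain28

open Cfsg.Agent.DihedralSrgAlgebra28 Finset

variable {C : Type*} [CommGroup C] [Fintype C] [DecidableEq C]

/-- Strongly regular Cayley data on a dihedral group with rotation group `C`. -/
structure Data (X Y : Finset C) (lam mu : ℤ) : Prop where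
  odd : Odd (Fintype.card C)
  three : 3 ≤ Fintype.card C
  one_not : (1 : C) ∉ X
  symm : ∀ a ∈ X, a⁻¹ ∈ X
  e1 : el ℤ X ^ 2 + star ℤ C (el ℤ Y) * el ℤ Y =
    ((((X.card : ℤ) + Y.card - mu : ℤ)) : MonoidAlgebra ℤ C) +
      ((lam - mu : ℤ) : MonoidAlgebra ℤ C) * el ℤ X + (mu : MonoidAlgebra ℤ C) * full ℤ C
  e2 : 2 * el ℤ X * el ℤ Y =
    ((lam - mu : ℤ) : MonoidAlgebra ℤ C) * el ℤ Y + (mu : MonoidAlgebra ℤ C) * full ℤ C
  mu_pos : 0 < mu
  mu'_pos : 0 < 2 * (Fintype.card C : ℤ) - 2 * ((X.card : ℤ) + Y.card) + lam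
  twins : ∀ h : C, (∀ a, a ∈ X ↔ a * h ∈ X) → (∀ a, a ∈ Y ↔ a * h ∈ Y) → h = 1
  twins' : ∀ h : C, (∀ a, a ∈ insert 1 X ↔ a * h ∈ insert 1 X) →
    (∀ a, a ∈ Y ↔ a * h ∈ Y) → h = 1
  Y_ne : Y.Nonempty
  Y_ne_univ : Y ≠ Finset.univ

variable {X Y : Finset C} {lam mu : ℤ}

theorem Data.compl (d : Data X Y lam mu) :
    Data (insert 1 X)ᶜ Yᶜ
      (2 * (Fintype.card C : ℤ) - 2 - 2 * ((X.card : ℤ) + Y.card) + mu)
      (2 * (Fintype.card C : ℤ) - 2 * ((X.card : ℤ) + Y.card) + lam) := by
  have hX : el ℤ (insert 1 X)ᶜ = full ℤ C - 1 - el ℤ X := by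
    rw [el_compl, el, Finset.sum_insert d.one_not, ← el, MonoidAlgebra.one_def]; ring
  have hY : el ℤ Yᶜ = full ℤ C - el ℤ Y := el_compl ℤ Y
  have hcX : ((insert 1 X)ᶜ.card : ℤ) = (Fintype.card C : ℤ) - 1 - X.card := by
    rw [Finset.card_compl, Finset.card_insert_of_notMem d.one_not,
      Nat.cast_sub (by rw [← Finset.card_insert_of_notMem d.one_not]; exact Finset.card_le_univ _)]
    push_cast; ring
  have hcY : (Yᶜ.card : ℤ) = (Fintype.card C : ℤ) - Y.card := by
    rw [Finset.card_compl, Nat.cast_sub (Finset.card_le_univ _)]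
  have hJJ := full_mul_full (C := C) ℤ
  have hxJ := el_mul_full ℤ X
  have hyJ := el_mul_full ℤ Y
  have hyJ' : star ℤ C (el ℤ Y) * full ℤ C = ((Y.card : ℤ) : MonoidAlgebra ℤ C) * full ℤ C := by
    rw [star_el, el_mul_full, Finset.card_image_of_injective _ inv_injective]
  refine ⟨d.odd, d.three, by simp, ?_, ?_, ?_, d.mu'_pos, ?_, ?_, ?_, ?_, ?_⟩
  · intro a ha
    simp only [Finset.mem_compl, Finset.mem_insert, not_or] at ha ⊢
    exact ⟨by simpa using ha.1, fun h => ha.2 (by simpa using d.symm _ h)⟩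
  · rw [hcX, hcY, hX, hY, map_sub, star_full]
    have e1 := d.e1
    push_cast at e1 hJJ hxJ hyJ hyJ' ⊢
    linear_combination e1 + 2 * hJJ - 2 * hxJ - hyJ - hyJ'
  · rw [hX, hY]
    have e2 := d.e2
    push_cast at e2 hJJ hxJ hyJ ⊢
    linear_combination e2 + 2 * hJJ - 2 * hxJ - 2 * hyJ
  · rw [hcX, hcY]; linarith [d.mu_pos]
  · intro h h1 h2
    refine d.twins' h (fun a => ?_) (fun a => ?_)
    · have := h1 a; simp only [Finset.mem_compl] at this; exact not_iff_not.mp this
    · have := h2 a; simp only [Finset.mem_compl] at this; exact not_iff_not.mp this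
  · intro h h1 h2
    refine d.twins h (fun a => ?_) (fun a => ?_)
    · have hins : ∀ b : C, b ∈ insert 1 (insert 1 X)ᶜ ↔ b ∉ X := fun b => by
        by_cases hb : b = 1
        · simp [hb, d.one_not]
        · simp [hb]
      exact not_iff_not.mp ((hins a).symm.trans ((h1 a).trans (hins _)))
    · have := h2 a; simp only [Finset.mem_compl] at this; exact not_iff_not.mp this
  · obtain ⟨y, hy⟩ : ∃ y, y ∉ Y := by
      by_contra hc; push Not at hc
      exact d.Y_ne_univ (Finset.eq_univ_iff_forall.mpr hc)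
    exact ⟨y, Finset.mem_compl.mpr hy⟩
  · obtain ⟨y, hy⟩ := d.Y_ne
    exact fun h => (Finset.mem_compl.mp (h ▸ Finset.mem_univ y)) hy

theorem mu_even (d : Data X Y lam mu) : 2 ∣ mu := by
  obtain ⟨h, hh⟩ : ∃ h, h ∉ Y := by
    by_contra hc; push Not at hc
    exact d.Y_ne_univ (Finset.eq_univ_iff_forall.mpr hc)
  refine ⟨(el ℤ X * el ℤ Y).coeff h, ?_⟩
  have h1 := congrArg (fun z => MonoidAlgebra.coeff z h) d.e2
  rw [show (2 : MonoidAlgebra ℤ C) = ((2 : ℤ) : MonoidAlgebra ℤ C) by norm_num, mul_assoc] at h1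
  simp only [MonoidAlgebra.coeff_add, Finsupp.add_apply, coeff_intCast_mul, coeff_el, coeff_full,
    if_neg hh, mul_zero, zero_add, mul_one, Int.cast_id] at h1
  exact h1.symm

/-- The first set of connections does not lie in a proper subgroup. -/
theorem sub_false (d : Data X Y lam mu) (H : Subgroup C) (hH : H ≠ ⊤) (hX : ∀ a ∈ X, a ∈ H) :
    False := by
  classical
  haveI : Fintype (C ⧸ H) := Fintype.ofFinite _
  let π := MonoidAlgebra.mapDomainRingHom ℤ (QuotientGroup.mk' H)
  have hπx : π (el ℤ X) = ((X.card : ℤ) : MonoidAlgebra ℤ (C ⧸ H)) := by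
    rw [el, map_sum, Finset.sum_congr rfl (fun a ha => show π (MonoidAlgebra.single a 1) = 1 by
      simp [π, MonoidAlgebra.one_def, (QuotientGroup.eq_one_iff a).mpr (hX a ha)])]
    simp
  set P := π (el ℤ Y) with hP
  have hπJ : ∀ w : C ⧸ H, (π (full ℤ C)).coeff w = (π (full ℤ C)).coeff 1 := by
    intro w
    obtain ⟨g, rfl⟩ := QuotientGroup.mk'_surjective H w
    have e : MonoidAlgebra.single (QuotientGroup.mk' H g) (1 : ℤ) * π (full ℤ C) = π (full ℤ C) := by
      rw [show MonoidAlgebra.single (QuotientGroup.mk' H g) (1 : ℤ) = π (MonoidAlgebra.single g 1) by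
        simp [π], ← map_mul, single_mul_full]
    conv_lhs => rw [← e]
    rw [MonoidAlgebra.coeff_single_mul_apply, inv_mul_cancel, one_mul]
  set τ := (π (full ℤ C)).coeff 1 with hτ
  have hτpos : 0 < τ := by
    rw [hτ, full, el, map_sum, MonoidAlgebra.coeff_sum, Finsupp.finsetSum_apply]
    refine Finset.sum_pos' (fun a _ => ?_) ⟨1, Finset.mem_univ _, ?_⟩
    · simp [π, Finsupp.single_apply]; split <;> norm_num
    · simp [π, Finsupp.single_apply]
  have E1 := congrArg π d.e1
  have E2 := congrArg π d.e2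
  simp only [map_add, map_mul, map_pow, map_intCast, map_ofNat, hπx] at E1 E2
  obtain ⟨g, hg⟩ : ∃ g, g ∉ H := by
    by_contra hc; push Not at hc
    exact hH (eq_top_iff.mpr fun x _ => hc x)
  set a : ℤ := ((X.card : ℕ) : ℤ) with ha
  set b : ℤ := ((Y.card : ℕ) : ℤ) with hb
  set l : ℤ := lam - mu with hl
  have hP0 : ∀ w, (2 * a - l) * P.coeff w = mu * τ := fun w => by
    have h1 := congrArg (fun z => MonoidAlgebra.coeff z w) E2
    rw [show (2 : MonoidAlgebra ℤ (C ⧸ H)) = ((2 : ℤ) : MonoidAlgebra ℤ (C ⧸ H)) by norm_num,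
      mul_assoc] at h1
    simp only [MonoidAlgebra.coeff_add, Finsupp.add_apply, coeff_intCast_mul, hπJ, Int.cast_id,
      ← hP] at h1
    linear_combination h1
  have hl2 : 2 * a - l ≠ 0 := fun e => by
    have := hP0 1
    rw [e, zero_mul] at this
    exact (mul_pos d.mu_pos hτpos).ne this
  have hPc : ∀ w, P.coeff w = P.coeff 1 := fun w =>
    mul_left_cancel₀ hl2 ((hP0 w).trans (hP0 1).symm)
  have hPJ : P = ((P.coeff 1 : ℤ) : MonoidAlgebra ℤ (C ⧸ H)) * full ℤ (C ⧸ H) := by
    ext w; rw [coeff_intCast_mul, coeff_full, mul_one, hPc, Int.cast_id]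
  have hconst : ∀ w, (π (star ℤ C (el ℤ Y)) * P).coeff w = (π (star ℤ C (el ℤ Y)) * P).coeff 1 := by
    intro w
    have e : MonoidAlgebra.single w (1 : ℤ) * (π (star ℤ C (el ℤ Y)) * P) = π (star ℤ C (el ℤ Y)) * P := by
      rw [mul_left_comm]
      congr 1
      rw [hPJ, mul_left_comm, single_mul_full]
    conv_lhs => rw [← e]
    rw [MonoidAlgebra.coeff_single_mul_apply, inv_mul_cancel, one_mul]
  have key : a * a - l * a - (a + b - mu) = 0 := by
    have hw : (QuotientGroup.mk' H g) ≠ 1 := fun e => hg ((QuotientGroup.eq_one_iff g).mp e)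
    have h1 := congrArg (fun z => MonoidAlgebra.coeff z (1 : C ⧸ H)) E1
    have h2 := congrArg (fun z => MonoidAlgebra.coeff z (QuotientGroup.mk' H g)) E1
    rw [sq] at h1 h2
    simp only [MonoidAlgebra.coeff_add, Finsupp.add_apply, ← hP, hconst, coeff_intCast_mul,
      coeff_intCast, hπJ, hw, if_false, if_true, Int.cast_id] at h1 h2
    linear_combination h1 - h2
  have A1 := congrArg (aug ℤ C) d.e1
  have A2 := congrArg (aug ℤ C) d.e2
  simp only [map_add, map_mul, map_pow, map_intCast, map_ofNat, aug_el, aug_full, aug_star,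
    ← ha, ← hb, Int.cast_id] at A1 A2
  set n : ℤ := ((Fintype.card C : ℕ) : ℤ) with hn
  have hbn : b * b = mu * n := by linear_combination A1 - key
  have hb0 : 0 < b := by have := d.Y_ne.card_pos; omega
  have hl3 : l = 2 * a - b := by
    refine mul_right_cancel₀ hb0.ne' ?_
    linear_combination -A2 + hbn
  have hbn' : b < n := by
    have := Finset.card_lt_univ_of_notMem (s := Y) (x := Classical.choose (show ∃ y, y ∉ Y by
      by_contra hc; push Not at hc
      exact d.Y_ne_univ (Finset.eq_univ_iff_forall.mpr hc)))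
      (Classical.choose_spec (show ∃ y, y ∉ Y by
        by_contra hc; push Not at hc
        exact d.Y_ne_univ (Finset.eq_univ_iff_forall.mpr hc)))
    omega
  have han : a < n := by
    have := Finset.card_lt_univ_of_notMem (s := X) d.one_not
    omega
  have hmu : mu = a + b - a * b + a * a := by
    rw [hl3] at key
    linear_combination key
  have hodd : n % 2 = 1 := by
    obtain ⟨j, hj⟩ := d.odd
    omega
  -- the size of `X`
  rcases Nat.eq_zero_or_pos X.card with hX0 | hX0
  · have : a = 0 := by omega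
    subst mu
    rw [this] at hbn
    have h9 : b * (b - n) = 0 := by linear_combination hbn
    rcases mul_eq_zero.mp h9 with h | h <;> omega
  have ha2 : 2 ≤ a := by
    obtain ⟨x, hx⟩ := Finset.card_pos.mp hX0
    have hne : x⁻¹ ≠ x := by
      intro e
      have h2 : x ^ 2 = 1 := by rw [sq]; nth_rewrite 1 [← e]; exact inv_mul_cancel x
      have hdvd := (orderOf_dvd_of_pow_eq_one h2)
      have hcop : Nat.Coprime (orderOf x) 2 :=
        (Nat.Coprime.coprime_dvd_left orderOf_dvd_card (Nat.coprime_two_right.mpr d.odd))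
      have : orderOf x = 1 := Nat.eq_one_of_dvd_coprimes hcop dvd_rfl hdvd
      rw [orderOf_eq_one_iff] at this
      exact d.one_not (this ▸ hx)
    have : ({x⁻¹, x} : Finset C) ⊆ X := by
      simp [Finset.insert_subset_iff, hx, d.symm x hx]
    have := Finset.card_le_card this
    rw [Finset.card_pair hne] at this
    omega
  clear_value a b n
  obtain ⟨δ, hδb⟩ : ∃ δ, b = a + δ := ⟨b - a, by ring⟩
  subst hδb
  have hmu' : mu = 2 * a - δ * (a - 1) := by rw [hmu]; ring
  have h2mu := mu_even d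
  rcases le_or_gt δ (-1) with hδ | hδ
  · have h1 : a + δ < mu := by nlinarith
    nlinarith
  rcases (show δ = 0 ∨ δ = 1 ∨ δ = 2 ∨ δ = 3 ∨ 4 ≤ δ by omega) with rfl | rfl | rfl | rfl | hδ4
  · have : a * (a - 2 * n) = 0 := by rw [hmu'] at hbn; linear_combination hbn
    rcases mul_eq_zero.mp this with h | h <;> omega
  · have : (a + 1) * (a + 1 - n) = 0 := by rw [hmu'] at hbn; linear_combination hbn
    rcases mul_eq_zero.mp this with h | h <;> omega
  · have h4 : (a + 2) * (a + 2) = 2 * n := by rw [hmu'] at hbn; linear_combination hbn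
    rcases Int.even_or_odd (a + 2) with ⟨j, hj⟩ | ⟨j, hj⟩
    · rw [hj, show (j + j) * (j + j) = 2 * (2 * (j * j)) by ring] at h4
      omega
    · rw [hj, show (2 * j + 1) * (2 * j + 1) = 2 * (2 * (j * j) + 2 * j) + 1 by ring] at h4
      omega
  · have := d.mu_pos
    rw [hmu'] at this h2mu
    have : a = 2 := by omega
    subst this
    norm_num at h2mu
  · have := d.mu_pos
    nlinarith

theorem cube (d : Data X Y lam mu) :
    ∃ c : ℤ, (2 * el ℤ X - ((lam - mu : ℤ) : MonoidAlgebra ℤ C)) ^ 3 =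
      ((((lam - mu) ^ 2 + 4 * ((X.card : ℤ) + Y.card - mu) : ℤ)) : MonoidAlgebra ℤ C) *
        (2 * el ℤ X - ((lam - mu : ℤ) : MonoidAlgebra ℤ C)) + (c : MonoidAlgebra ℤ C) * full ℤ C := by
  refine ⟨4 * mu * (2 * X.card - (lam - mu)) - 4 * mu * Y.card, ?_⟩
  have e1 := d.e1
  have e2 := d.e2
  have hxJ := el_mul_full ℤ X
  have hyJ' : star ℤ C (el ℤ Y) * full ℤ C = ((Y.card : ℤ) : MonoidAlgebra ℤ C) * full ℤ C := by
    rw [star_el, el_mul_full, Finset.card_image_of_injective _ inv_injective]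
  push_cast at e1 e2 hxJ hyJ' ⊢
  linear_combination 4 * (2 * el ℤ X - ((lam : MonoidAlgebra ℤ C) - mu)) * e1 -
    4 * star ℤ C (el ℤ Y) * e2 + 8 * (mu : MonoidAlgebra ℤ C) * hxJ -
    4 * (mu : MonoidAlgebra ℤ C) * hyJ'

/-- A set stable under a non-trivial translation forces `lam = mu`. -/
theorem lam_eq_mu (d : Data X Y lam mu) {z : C} (hz : z ≠ 1)
    (hper : ∀ a, a ∈ X ↔ a * z ∈ X) : lam = mu := by
  classical
  by_contra hne
  refine hz (d.twins z hper ?_)
  have hX : MonoidAlgebra.single z (1 : ℤ) * el ℤ X = el ℤ X := by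
    ext h
    rw [MonoidAlgebra.coeff_single_mul_apply, one_mul, coeff_el, coeff_el]
    exact if_congr (by rw [hper (z⁻¹ * h), mul_comm z⁻¹ h, inv_mul_cancel_right]) rfl rfl
  have e2 := d.e2
  have hJ := single_mul_full ℤ z
  have h1 : ((lam - mu : ℤ) : MonoidAlgebra ℤ C) * (MonoidAlgebra.single z 1 * el ℤ Y) =
      ((lam - mu : ℤ) : MonoidAlgebra ℤ C) * el ℤ Y := by
    push_cast at e2 ⊢
    linear_combination e2 - MonoidAlgebra.single z (1 : ℤ) * e2 + 2 * el ℤ Y * hX -
      (mu : MonoidAlgebra ℤ C) * hJ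
  intro a
  have h2 := congrArg (fun w => MonoidAlgebra.coeff w (a * z)) h1
  simp only [coeff_intCast_mul, MonoidAlgebra.coeff_single_mul_apply, one_mul, coeff_el,
    Int.cast_id] at h2
  have h3 := mul_left_cancel₀ (sub_ne_zero.mpr hne) h2
  rw [mul_comm a z, inv_mul_cancel_left] at h3
  rw [mul_comm a z]
  by_cases hh : a ∈ Y <;> by_cases hh' : z * a ∈ Y <;> simp [hh, hh'] at h3 ⊢

theorem exists_prime_dvd_card {A : Type*} [Group A] [Fintype A] [Nontrivial A] :
    ∃ q, q.Prime ∧ q ∣ Fintype.card A :=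
  Nat.exists_prime_and_dvd Fintype.one_lt_card.ne'

theorem range_pow_ne_top {A : Type*} [CommGroup A] [Fintype A] {q : ℕ} (hq : q.Prime)
    (hdvd : q ∣ Fintype.card A) : (powMonoidHom q : A →* A).range ≠ ⊤ := by
  intro h
  haveI : Fact q.Prime := ⟨hq⟩
  obtain ⟨w, hw⟩ := exists_prime_orderOf_dvd_card q hdvd
  have h1 : powMonoidHom q w = powMonoidHom q 1 := by
    simp [powMonoidHom_apply, ← hw, pow_orderOf_eq_one]
  rw [Finite.injective_iff_surjective.2 (MonoidHom.range_eq_top.1 h) h1, orderOf_one] at hw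
  exact hq.ne_one hw.symm

/-- The descent: the first set of connections is not stable under a translation. -/
theorem descend [IsCyclic C] (d : Data X Y lam mu) {z : C} (hz : z ≠ 1)
    (hper : ∀ a, a ∈ X ↔ a * z ∈ X) : False := by
  classical
  have hlm := lam_eq_mu d hz hper
  rcases X.eq_empty_or_nonempty with hX0 | hXne
  · haveI : Nontrivial C := Fintype.one_lt_card_iff_nontrivial.mp (by have := d.three; omega)
    exact sub_false d ⊥ bot_ne_top (by simp [hX0])
  let K : Subgroup C :=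
    { carrier := {h | ∀ a, a ∈ X ↔ a * h ∈ X}
      one_mem' := fun a => by simp
      mul_mem' := fun {u v} hu hv a => by rw [← mul_assoc]; exact (hu a).trans (hv _)
      inv_mem' := fun {u} hu a => by simpa using (hu (a * u⁻¹)).symm }
  haveI : Fintype (C ⧸ K) := Fintype.ofFinite _
  haveI : Nontrivial (C ⧸ K) := by
    rw [QuotientGroup.nontrivial_iff]
    intro h
    obtain ⟨x, hx⟩ := hXne
    have := (show x⁻¹ ∈ K from h ▸ Subgroup.mem_top _) x
    rw [mul_inv_cancel] at this
    exact d.one_not (this.mp hx)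
  haveI : IsCyclic (C ⧸ K) :=
    isCyclic_of_surjective (QuotientGroup.mk' K) (QuotientGroup.mk'_surjective K)
  obtain ⟨q, hq, hqd⟩ := exists_prime_dvd_card (A := C ⧸ K)
  haveI : Fact q.Prime := ⟨hq⟩
  have hKcard : q ∣ Fintype.card C := by
    refine hqd.trans ?_
    rw [← Nat.card_eq_fintype_card, ← Nat.card_eq_fintype_card]
    exact Subgroup.card_quotient_dvd_card K
  have hq2 : q ≠ 2 := fun e => by
    subst e
    obtain ⟨j, hj⟩ := d.odd
    omega
  let Xb : Finset (C ⧸ K) := X.image (QuotientGroup.mk' K)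
  have hmem : ∀ g, QuotientGroup.mk' K g ∈ Xb ↔ g ∈ X := by
    intro g
    refine ⟨fun hg => ?_, fun hg => Finset.mem_image_of_mem _ hg⟩
    obtain ⟨x, hx, hxg⟩ := Finset.mem_image.mp hg
    have := (QuotientGroup.eq.mp hxg : x⁻¹ * g ∈ K) x
    rw [mul_inv_cancel_left] at this
    exact this.mp hx
  let m : ℤ := Nat.card K
  have hm : 0 < m := Int.natCast_pos.mpr (Nat.card_pos (α := K))
  let π := MonoidAlgebra.mapDomainRingHom ℤ (QuotientGroup.mk' K)
  have hπ : ∀ (S : Finset C) (Sb : Finset (C ⧸ K)), (∀ g, QuotientGroup.mk' K g ∈ Sb ↔ g ∈ S) →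
      π (el ℤ S) = (m : MonoidAlgebra ℤ (C ⧸ K)) * el ℤ Sb := by
    intro S Sb hS
    ext w
    obtain ⟨g, rfl⟩ := QuotientGroup.mk'_surjective K w
    rw [coeff_intCast_mul, coeff_el, el, map_sum, MonoidAlgebra.coeff_sum, Finsupp.finsetSum_apply]
    simp only [π, MonoidAlgebra.mapDomainRingHom_apply, MonoidAlgebra.mapDomain_single,
      MonoidAlgebra.coeff_single, Finsupp.single_apply, Finset.sum_boole, Int.cast_id]
    split_ifs with hg
    · rw [mul_one]
      simp only [m]
      norm_cast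
      rw [← Fintype.card_coe, ← Nat.card_eq_fintype_card]
      refine Nat.card_congr
        { toFun := fun x => ⟨g⁻¹ * x, QuotientGroup.eq.mp ((Finset.mem_filter.mp x.2).2.symm)⟩
          invFun := fun k => ⟨g * k, Finset.mem_filter.mpr ⟨(hS _).mp ?_, ?_⟩⟩
          left_inv := fun x => Subtype.ext (mul_inv_cancel_left g _)
          right_inv := fun k => Subtype.ext (inv_mul_cancel_left g _) }
      · rw [map_mul, show QuotientGroup.mk' K (k : C) = 1 from (QuotientGroup.eq_one_iff _).mpr k.2, mul_one]; exact hg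
      · rw [map_mul, show QuotientGroup.mk' K (k : C) = 1 from (QuotientGroup.eq_one_iff _).mpr k.2, mul_one]
    · rw [mul_zero, Nat.cast_eq_zero, Finset.card_eq_zero, Finset.filter_eq_empty_iff]
      intro x hx hxg
      exact hg (hxg ▸ (hS x).mpr hx)
  have hπx := hπ X Xb hmem
  have hπJ := hπ Finset.univ Finset.univ (by simp)
  -- the cubic relation in the quotient
  obtain ⟨c, hc⟩ := cube d
  rw [hlm, sub_self, Int.cast_zero, sub_zero] at hc
  set u2 : ℤ := (X.card : ℤ) + Y.card - mu with hu2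
  have h4 : ((2 * (m : ℤ)) : ℤ) ≠ 0 := by positivity
  have hq1 : ∀ w, 8 * m ^ 3 * ((el ℤ Xb) ^ 3).coeff w =
      8 * u2 * m * (if w ∈ Xb then 1 else 0) + c * m := by
    intro w
    have h1 := congrArg π hc
    simp only [map_add, map_mul, map_pow, map_intCast, map_ofNat, hπx] at h1
    rw [show π (full ℤ C) = (m : MonoidAlgebra ℤ (C ⧸ K)) * full ℤ (C ⧸ K) from hπJ] at h1
    have h2 : ((8 * m ^ 3 : ℤ) : MonoidAlgebra ℤ (C ⧸ K)) * (el ℤ Xb) ^ 3 =
        ((8 * u2 * m : ℤ) : MonoidAlgebra ℤ (C ⧸ K)) * el ℤ Xb +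
          ((c * m : ℤ) : MonoidAlgebra ℤ (C ⧸ K)) * full ℤ (C ⧸ K) := by
      push_cast at h1 ⊢
      linear_combination h1
    have h3 := congrArg (fun z => MonoidAlgebra.coeff z w) h2
    simp only [MonoidAlgebra.coeff_add, Finsupp.add_apply, coeff_intCast_mul, coeff_el, coeff_full,
      mul_one, Int.cast_id] at h3
    exact h3
  have h1b : (1 : C ⧸ K) ∉ Xb := fun h => d.one_not ((hmem 1).mp (by rwa [map_one]))
  obtain ⟨w₀, hw₀⟩ : Xb.Nonempty := hXne.image _
  set A1 := ((el ℤ Xb) ^ 3).coeff 1 with hA1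
  set A0 := ((el ℤ Xb) ^ 3).coeff w₀ with hA0
  have q1 := hq1 1
  have q0 := hq1 w₀
  rw [if_neg h1b] at q1
  rw [if_pos hw₀] at q0
  have hu : u2 = m ^ 2 * (A0 - A1) := by
    refine mul_left_cancel₀ (show (8 * m : ℤ) ≠ 0 by positivity) ?_
    linear_combination q1 - q0
  have hc8 : c = 8 * m ^ 2 * A1 := by
    refine mul_left_cancel₀ hm.ne' ?_
    linear_combination -q1
  -- a square
  obtain ⟨v, hv⟩ : ∃ v : ℤ, A0 - A1 = v ^ 2 := by
    have A1' := congrArg (aug ℤ C) d.e1
    have A2' := congrArg (aug ℤ C) d.e2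
    simp only [map_add, map_mul, map_pow, map_intCast, map_ofNat, aug_el, aug_full, aug_star,
      hlm, sub_self, zero_mul, add_zero, zero_add, Int.cast_id, Int.cast_zero, ← hu2] at A1' A2'
    have hsq : ((X.card : ℤ) - Y.card) ^ 2 = m ^ 2 * (A0 - A1) := by
      rw [← hu]; linear_combination A1' - A2'
    have hdvd : m ^ 2 ∣ ((X.card : ℤ) - Y.card) ^ 2 := ⟨_, hsq⟩
    obtain ⟨v, hv⟩ := (Int.pow_dvd_pow_iff (by norm_num : (2:ℕ) ≠ 0)).mp hdvd
    refine ⟨v, mul_left_cancel₀ (pow_ne_zero 2 hm.ne') ?_⟩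
    rw [← hsq, hv]; ring
  have hcube : (2 * el ℤ Xb - ((0 : ℤ) : MonoidAlgebra ℤ (C ⧸ K))) ^ 3 =
      ((2 * v : ℤ) : MonoidAlgebra ℤ (C ⧸ K)) ^ 2 * (2 * el ℤ Xb - ((0 : ℤ) : MonoidAlgebra ℤ (C ⧸ K)))
        + ((8 * A1 : ℤ) : MonoidAlgebra ℤ (C ⧸ K)) * full ℤ (C ⧸ K) := by
    have h8 : ((8 : ℤ) : MonoidAlgebra ℤ (C ⧸ K)) * (el ℤ Xb) ^ 3 =
        ((8 * v ^ 2 : ℤ) : MonoidAlgebra ℤ (C ⧸ K)) * el ℤ Xb +
          ((8 * A1 : ℤ) : MonoidAlgebra ℤ (C ⧸ K)) * full ℤ (C ⧸ K) := by
      ext w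
      simp only [MonoidAlgebra.coeff_add, Finsupp.add_apply, coeff_intCast_mul, coeff_el,
        coeff_full, mul_one, Int.cast_id]
      refine mul_left_cancel₀ (pow_ne_zero 3 hm.ne') ?_
      have := hq1 w
      rw [hu, hv, hc8] at this
      linear_combination this
    push_cast at h8 ⊢
    linear_combination h8
  have hpre : (powMonoidHom q : (C ⧸ K) →* (C ⧸ K)).range.comap (QuotientGroup.mk' K) ≠ ⊤ := by
    intro e
    apply range_pow_ne_top hq hqd
    rw [← Subgroup.map_comap_eq_self_of_surjective (QuotientGroup.mk'_surjective K)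
      (powMonoidHom q : (C ⧸ K) →* (C ⧸ K)).range, e, Subgroup.map_top_of_surjective _
      (QuotientGroup.mk'_surjective K)]
  rcases step q hq2 hqd Xb 0 (2 * v) (8 * A1) hcube with h | h | ⟨h, h'⟩
  · refine sub_false d.compl _ hpre fun a ha => ?_
    simp only [Finset.mem_compl, Finset.mem_insert, not_or] at ha
    by_contra hn
    exact ha.2 ((hmem a).mp (h _ fun w hw => hn ⟨w, hw⟩))
  · refine sub_false d _ hpre fun a ha => ?_
    by_contra hn
    exact h _ (fun w hw => hn ⟨w, hw⟩) ((hmem a).mpr ha)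
  · -- no root of unity in the set, so it is periodic
    have hnone : ∀ a ∈ Xb, a ^ q ≠ 1 := by
      intro a ha haq
      rw [sub_zero] at h'
      have h2 : q ∣ (Xb.filter fun b => b ^ q = 1).card := by
        rcases Nat.prime_iff_prime_int.mp hq |>.dvd_or_dvd h' with h2 | h2
        · exfalso
          have := Nat.le_of_dvd (by norm_num) (Int.natCast_dvd_natCast.mp (show (q:ℤ) ∣ ((2:ℕ):ℤ) from h2))
          have := hq.two_le
          omega
        · exact Int.natCast_dvd_natCast.mp h2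
      have hpos : 0 < (Xb.filter fun b => b ^ q = 1).card := Finset.card_pos.mpr ⟨a, by simp [ha, haq]⟩
      have hlt : (Xb.filter fun b => b ^ q = 1).card <
          (Finset.univ.filter fun b : C ⧸ K => b ^ q = 1).card :=
        Finset.card_lt_card (Finset.ssubset_iff_of_subset
          (Finset.filter_subset_filter _ (Finset.subset_univ _)) |>.mpr ⟨1, by simp, by simp [h1b]⟩)
      have := IsCyclic.card_pow_eq_one_le (α := C ⧸ K) hq.pos
      have := Nat.le_of_dvd hpos h2
      omega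
    obtain ⟨w, hw⟩ := exists_prime_orderOf_dvd_card q hqd
    obtain ⟨g, rfl⟩ := QuotientGroup.mk'_surjective K w
    have hgq : (QuotientGroup.mk' K g) ^ q = 1 := by
      have := pow_orderOf_eq_one (QuotientGroup.mk' K g); rwa [hw] at this
    have hgK : g ∈ K := by
      intro a
      rw [← hmem, ← hmem, map_mul]
      refine ⟨fun ha => mul_mem_of_fibre q Xb h ha (hnone _ ha) hgq, fun ha => ?_⟩
      have := mul_mem_of_fibre q Xb h ha (hnone _ ha)
        (z := (QuotientGroup.mk' K g)⁻¹) (by rw [inv_pow, hgq, inv_one])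
      rwa [mul_inv_cancel_right] at this
    rw [show QuotientGroup.mk' K g = 1 from (QuotientGroup.eq_one_iff g).mpr hgK, orderOf_one] at hw
    exact hq.ne_one hw.symm

/-- A rational combination of the non-trivial powers of a root of unity of prime order. -/
theorem all_or_none {q : ℕ} [hq : Fact q.Prime] {ζ : ℂ} (hζ : IsPrimitiveRoot ζ q) (f : ℕ → ℚ)
    (r : ℚ) (hsum : ∑ i ∈ Finset.Ico 1 q, (f i : ℂ) * ζ ^ i = r) {i j : ℕ}
    (hi : i ∈ Finset.Ico 1 q) (hj : j ∈ Finset.Ico 1 q) : f i = f j := by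
  classical
  let P : Polynomial ℚ := (∑ i ∈ Finset.Ico 1 q, Polynomial.C (f i) * Polynomial.X ^ i) - Polynomial.C r
  have hroot : Polynomial.aeval ζ P = 0 := by
    simp [P, map_sum, hsum, Algebra.algebraMap_eq_smul_one]
  have hmin := minpoly.dvd ℚ ζ hroot
  rw [← Polynomial.cyclotomic_eq_minpoly_rat hζ hq.out.pos, Polynomial.cyclotomic_prime] at hmin
  obtain ⟨R, hR⟩ := hmin
  have hdeg : P.natDegree ≤ q - 1 := by
    refine (Polynomial.natDegree_sub_le _ _).trans (max_le ?_ (by simp))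
    refine Polynomial.natDegree_sum_le_of_forall_le _ _ fun i hi => ?_
    refine (Polynomial.natDegree_C_mul_X_pow_le _ _).trans ?_
    rw [Finset.mem_Ico] at hi
    omega
  have hcoefP : ∀ i ∈ Finset.Ico 1 q, P.coeff i = f i := by
    intro i hi
    have hi0 : i ≠ 0 := by rw [Finset.mem_Ico] at hi; omega
    simp only [P, Polynomial.coeff_sub, Polynomial.finsetSum_coeff, Polynomial.coeff_C_mul,
      Polynomial.coeff_X_pow, Polynomial.coeff_C, if_neg hi0, sub_zero, mul_ite, mul_one, mul_zero]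
    rw [Finset.sum_ite_eq, if_pos hi]
  obtain ⟨c, hc⟩ : ∃ c : ℚ, R = Polynomial.C c := by
    rcases eq_or_ne R 0 with rfl | hR0
    · exact ⟨0, by simp⟩
    refine ⟨R.coeff 0, Polynomial.eq_C_of_natDegree_eq_zero ?_⟩
    have hΦ : (∑ i ∈ Finset.range q, (Polynomial.X : Polynomial ℚ) ^ i).natDegree = q - 1 := by
      rw [← Polynomial.cyclotomic_prime, Polynomial.natDegree_cyclotomic, Nat.totient_prime hq.out]
    have hΦ0 : (∑ i ∈ Finset.range q, (Polynomial.X : Polynomial ℚ) ^ i) ≠ 0 := by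
      rw [← Polynomial.cyclotomic_prime]; exact Polynomial.cyclotomic_ne_zero q ℚ
    rw [hR, Polynomial.natDegree_mul hΦ0 hR0, hΦ] at hdeg
    omega
  have hall : ∀ i ∈ Finset.Ico 1 q, f i = c := by
    intro i hi
    have hiq : i < q := (Finset.mem_Ico.mp hi).2
    rw [← hcoefP i hi, hR, hc, Polynomial.coeff_mul_C]
    simp [Polynomial.finsetSum_coeff, Polynomial.coeff_X_pow, hiq]
  rw [hall i hi, hall j hj]

/-- No such graph exists. -/
theorem no_data [IsCyclic C] (d : Data X Y lam mu) : False := by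
  classical
  haveI : Nontrivial C := Fintype.one_lt_card_iff_nontrivial.mp (by have := d.three; omega)
  obtain ⟨q, hq, hqn⟩ := exists_prime_dvd_card (A := C)
  haveI : Fact q.Prime := ⟨hq⟩
  have hq2 : q ≠ 2 := fun e => by
    subst e
    obtain ⟨j, hj⟩ := d.odd
    omega
  set l : ℤ := lam - mu with hl
  -- the discriminant is a square
  obtain ⟨D, hD⟩ : ∃ D : ℤ, l ^ 2 + 4 * ((X.card : ℤ) + Y.card - mu) = D ^ 2 := by
    refine ⟨2 * ((X.card : ℤ) - Y.card) - l, ?_⟩
    have A1 := congrArg (aug ℤ C) d.e1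
    have A2 := congrArg (aug ℤ C) d.e2
    simp only [map_add, map_mul, map_pow, map_intCast, map_ofNat, aug_el, aug_full, aug_star,
      Int.cast_id] at A1 A2
    simp only [hl]
    linear_combination -4 * A1 + 4 * A2
  obtain ⟨c, hc⟩ := cube d
  rw [← hl, hD, Int.cast_pow] at hc
  rcases step q hq2 hqn X l D c hc with h | h | ⟨h, -⟩
  · refine sub_false d.compl _ (range_pow_ne_top hq hqn) fun a ha => ?_
    simp only [Finset.mem_compl, Finset.mem_insert, not_or] at ha
    by_contra hn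
    exact ha.2 (h _ fun w hw => hn ⟨w, hw⟩)
  · refine sub_false d _ (range_pow_ne_top hq hqn) fun a ha => ?_
    by_contra hn
    exact h _ (fun w hw => hn ⟨w, hw⟩) ha
  obtain ⟨g, hg⟩ := IsCyclic.exists_generator (α := C)
  have hgo : orderOf g = Fintype.card C := by
    rw [orderOf_eq_card_of_forall_mem_zpowers hg, Nat.card_eq_fintype_card]
  obtain ⟨ξ, hξ⟩ : ∃ ξ : ℂ, IsPrimitiveRoot ξ (Fintype.card C) :=
    ⟨_, Complex.isPrimitiveRoot_exp _ Fintype.card_ne_zero⟩
  let ξu : ℂˣ := (hξ.isUnit Fintype.card_ne_zero).unit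
  have hξu : ξu ^ Fintype.card C = 1 := Units.ext (by simpa [ξu] using hξ.pow_eq_one)
  let θ : C →* ℂ := (Units.coeHom ℂ).comp
    (monoidHomOfForallMemZpowers hg (g' := ξu) (by rw [hgo]; exact orderOf_dvd_of_pow_eq_one hξu))
  have hθg : θ g = ξ := by simp [θ, ξu]
  obtain ⟨j, hj⟩ := hqn
  set z := g ^ j with hzdef
  have hj0 : j ≠ 0 := fun e => Fintype.card_ne_zero (α := C) (by rw [hj, e, mul_zero])
  have hzo : orderOf z = q := by
    rw [orderOf_pow, hgo, hj, Nat.gcd_mul_left_left, Nat.mul_div_cancel _ (Nat.pos_of_ne_zero hj0)]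
  set ζ := θ z with hζdef
  have hζ : IsPrimitiveRoot ζ q := by
    rw [hζdef, hzdef, map_pow, hθg]
    exact hξ.pow Fintype.card_pos (by rw [hj, mul_comm])
  have hζ1 : ζ ≠ 1 := hζ.ne_one hq.one_lt
  have hzq : z ^ q = 1 := by rw [← hzo, pow_orderOf_eq_one]
  let L : MonoidAlgebra ℤ C →+* ℂ := (MonoidAlgebra.lift ℤ ℂ C θ).toRingHom
  have hLel : ∀ S : Finset C, L (el ℤ S) = ∑ a ∈ S, θ a := fun S => by simp [L, el]
  have hvanish : ∀ S : Finset C, (∀ a ∈ S, a * z ∈ S) → ∑ a ∈ S, θ a = 0 := by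
    intro S hS
    have him : S.image (· * z) = S := Finset.eq_of_subset_of_card_le
      (fun w hw => by obtain ⟨y, hy, rfl⟩ := Finset.mem_image.1 hw; exact hS y hy)
      (le_of_eq (Finset.card_image_of_injective _ (mul_left_injective z)).symm)
    have e : ∑ a ∈ S, θ a = (∑ a ∈ S, θ a) * ζ := by
      conv_lhs => rw [← him, Finset.sum_image (mul_left_injective z).injOn]
      simp [Finset.sum_mul, hζdef]
    by_contra hne
    exact hζ1 (mul_left_cancel₀ hne (e.symm.trans (mul_one _).symm))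
  have hLJ : L (full ℤ C) = 0 := (hLel _).trans (hvanish _ fun a _ => Finset.mem_univ _)
  set S := X.filter (fun a => a ^ q = 1) with hS
  have hLX : L (el ℤ X) = ∑ a ∈ S, θ a := by
    rw [hLel, ← Finset.sum_filter_add_sum_filter_not X (fun a => a ^ q = 1),
      hvanish (X.filter fun a => ¬ a ^ q = 1) (fun a ha => ?_), add_zero]
    simp only [Finset.mem_filter] at ha ⊢
    exact ⟨mul_mem_of_fibre q X h ha.1 ha.2 hzq, by rw [mul_pow, hzq, mul_one]; exact ha.2⟩
  obtain ⟨r, hr⟩ : ∃ r : ℚ, (∑ a ∈ S, θ a : ℂ) = r := by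
    have h1 := congrArg L hc
    simp only [map_pow, map_sub, map_mul, map_add, map_ofNat, map_intCast, hLX, hLJ, mul_zero,
      add_zero] at h1
    set w := (2 * (∑ a ∈ S, θ a) - (l : ℂ)) with hw
    have h2 : w * (w - D) * (w + D) = 0 := by linear_combination h1
    rcases mul_eq_zero.mp h2 with h2 | h2
    · rcases mul_eq_zero.mp h2 with h2 | h2
      · exact ⟨(l : ℚ) / 2, by push_cast; linear_combination h2 / 2⟩
      · exact ⟨((l : ℚ) + D) / 2, by push_cast; linear_combination h2 / 2⟩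
    · exact ⟨((l : ℚ) - D) / 2, by push_cast; linear_combination h2 / 2⟩
  have hroots : ∀ a : C, a ^ q = 1 → ∃ i < q, z ^ i = a := by
    have himg : (Finset.range q).image (z ^ ·) = Finset.univ.filter (fun a : C => a ^ q = 1) := by
      refine Finset.eq_of_subset_of_card_le ?_ ?_
      · intro a ha
        obtain ⟨i, -, rfl⟩ := Finset.mem_image.1 ha
        simp only [Finset.mem_filter, Finset.mem_univ, true_and]
        rw [← pow_mul, mul_comm i q, pow_mul, hzq, one_pow]
      · rw [Finset.card_image_of_injOn (by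
          rw [← hzo]; exact fun a ha b hb e => pow_injOn_Iio_orderOf (by simpa using ha) (by simpa using hb) e),
          Finset.card_range]
        exact IsCyclic.card_pow_eq_one_le hq.pos
    intro a ha
    have : a ∈ (Finset.range q).image (z ^ ·) := by rw [himg]; simp [ha]
    obtain ⟨i, hi, hia⟩ := Finset.mem_image.1 this
    exact ⟨i, Finset.mem_range.1 hi, hia⟩
  have hinj : ∀ i j, i < q → j < q → z ^ i = z ^ j → i = j := fun i j hi hj e =>
    pow_injOn_Iio_orderOf (by simpa [hzo] using hi) (by simpa [hzo] using hj) e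
  let f : ℕ → ℚ := fun i => if z ^ i ∈ X then 1 else 0
  have hsum : ∑ i ∈ Finset.Ico 1 q, (f i : ℂ) * ζ ^ i = (r : ℂ) := by
    rw [← hr]
    have hSimg : S = ((Finset.Ico 1 q).filter (fun i => z ^ i ∈ X)).image (z ^ ·) := by
      ext a
      simp only [S, Finset.mem_filter, Finset.mem_image, Finset.mem_Ico]
      constructor
      · rintro ⟨haX, haq⟩
        obtain ⟨i, hi, rfl⟩ := hroots a haq
        refine ⟨i, ⟨⟨Nat.one_le_iff_ne_zero.mpr fun e => ?_, hi⟩, haX⟩, rfl⟩
        rw [e, pow_zero] at haX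
        exact d.one_not haX
      · rintro ⟨i, ⟨-, hiX⟩, rfl⟩
        exact ⟨hiX, by rw [← pow_mul, mul_comm i q, pow_mul, hzq, one_pow]⟩
    rw [hSimg, Finset.sum_image (fun a ha b hb e => hinj a b
      (Finset.mem_Ico.1 (Finset.mem_filter.1 ha).1).2 (Finset.mem_Ico.1 (Finset.mem_filter.1 hb).1).2 e),
      Finset.sum_filter]
    refine Finset.sum_congr rfl fun i _ => ?_
    simp only [f, map_pow, hζdef]
    split <;> simp
  have hz1 : z ≠ 1 := fun e => hq.ne_one (by rw [← hzo, e, orderOf_one])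
  by_cases hall : ∃ i ∈ Finset.Ico 1 q, z ^ i ∈ X
  · -- all non-trivial roots of unity lie in `X`
    obtain ⟨i₀, hi₀, hi₀X⟩ := hall
    have hroot : ∀ a : C, a ^ q = 1 → a ∈ insert 1 X := by
      intro a ha
      obtain ⟨i, hi, rfl⟩ := hroots a ha
      rcases Nat.eq_zero_or_pos i with rfl | hi0
      · simp
      refine Finset.mem_insert_of_mem ?_
      have e := all_or_none hζ f r hsum (i := i) (j := i₀) (Finset.mem_Ico.2 ⟨hi0, hi⟩) hi₀
      by_contra hn
      simp [f, hn, hi₀X] at e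
    refine descend d.compl hz1 fun a => ?_
    have key : ∀ (y : C), y ^ q = 1 → ∀ a, a ∈ insert 1 X → a * y ∈ insert 1 X := by
      intro y hy a ha
      by_cases haq : a ^ q = 1
      · exact hroot _ (by rw [mul_pow, haq, hy, mul_one])
      · rcases Finset.mem_insert.1 ha with rfl | ha
        · exact absurd (one_pow q) haq
        · exact Finset.mem_insert_of_mem (mul_mem_of_fibre q X h ha haq hy)
    simp only [Finset.mem_compl]
    refine not_congr ⟨key z hzq a, fun ha => ?_⟩
    have := key z⁻¹ (by rw [inv_pow, hzq, inv_one]) _ ha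
    rwa [mul_inv_cancel_right] at this
  · push Not at hall
    have hnone : ∀ a ∈ X, a ^ q ≠ 1 := by
      intro a ha haq
      obtain ⟨i, hi, rfl⟩ := hroots a haq
      rcases Nat.eq_zero_or_pos i with rfl | hi0
      · exact d.one_not (by simpa using ha)
      · exact hall i (Finset.mem_Ico.2 ⟨hi0, hi⟩) ha
    refine descend d hz1 fun a => ⟨fun ha => mul_mem_of_fibre q X h ha (hnone a ha) hzq, fun ha => ?_⟩
    have := mul_mem_of_fibre q X h ha (hnone _ ha) (z := z⁻¹) (by rw [inv_pow, hzq, inv_one])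
    rwa [mul_inv_cancel_right] at this

end Cfsg.Agent.DihedralSrgMain28
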