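import Cfsg.Prelude.Def_GeometricClasses
import Cfsg.Agent.Lib.DecompMaxGen
import Cfsg.Agent.Lib.DecompMaxSix97
import Cfsg.Agent.Lib.AschGenMaximal

/-! The proof of S5634, whose argument only needs n ≥ 6, restated at that bound. -/

set_option autoImplicit false
open Cfsg

namespace Cfsg.Agent.LinDecompMax97

open Cfsg.Agent.TransvectionMax Cfsg.Agent.DecompMaxBasic
open scoped MatrixGroups Matrix

/-- For a finite field F with q elements and n ≥ 6, let D be a decomposition of F^n into t ≥ 2 independent subspaces of equal dimension m ≥ 1 spanning F^n. Unless m = 1 and q ≤ 4, or m = 2 and q = 2, the elements of SL_n(F) permuting the members of D form a maximal subgroup of SL_n(F). -/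
theorem isMaximalIn_stab {F : Type*} [Field F] [Fintype F] (n : ℕ) (hn : 6 ≤ n) {t : ℕ} (m : ℕ) (D : Fin t → Submodule F (Fin n → F)) (hD : Cfsg.Geo.IsMDecomposition m D) (h1 : ¬ (m = 1 ∧ Fintype.card F ≤ 4)) (h2 : ¬ (m = 2 ∧ Fintype.card F = 2)) : Cfsg.Geo.IsMaximalIn (Cfsg.Geo.specialLinear (Fin n) F) (Cfsg.Geo.decompositionStabilizer D ⊓ Cfsg.Geo.specialLinear (Fin n) F) := by
  classical
  refine ⟨lt_of_le_not_ge inf_le_right fun hle =>
    Cfsg.Agent.AschGenMaximal.sl_not_le_decompositionStabilizer hD (le_trans hle inf_le_left), fun M hHM hMK => ?_⟩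
  by_cases hMH : M ≤ Cfsg.Geo.decompositionStabilizer D
  · exact Or.inl (le_antisymm (le_inf hMH hMK) hHM)
  refine Or.inr (le_antisymm hMK ?_)
  obtain ⟨hcard, b, hb⟩ := Cfsg.Agent.AschGenMaximal.decomposition_basis hD
  rw [Fintype.card_fin] at hcard
  -- the change of coordinates
  let e : Fin t × Fin m ≃ Fin n := finProdFinEquiv.trans (finCongr hcard.symm)
  set B := b.reindex e with hB
  have hBu : IsUnit ((Pi.basisFun F (Fin n)).toMatrix B).det := by
    haveI := (Pi.basisFun F (Fin n)).invertibleToMatrix B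
    exact (Matrix.isUnit_iff_isUnit_det _).1 (isUnit_of_invertible _)
  let P : GL (Fin n) F := Matrix.GeneralLinearGroup.mkOfDetNeZero _ hBu.ne_zero
  let Φ : GL (Fin t × Fin m) F ≃* GL (Fin n) F := (Cfsg.Geo.glReindex e).trans (MulAut.conj P)
  let Ψ : (Fin t × Fin m → F) ≃ₗ[F] (Fin n → F) := b.equivFun.symm
  have hP : ∀ x : Fin n → F, (P : Matrix (Fin n) (Fin n) F) *ᵥ x = Ψ (x ∘ e) := fun x => by
    funext i
    simp only [Ψ, Module.Basis.equivFun_symm_apply, Finset.sum_apply, Pi.smul_apply, smul_eq_mul]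
    show ∑ j, (Pi.basisFun F (Fin n)).toMatrix B i j * x j = _
    rw [← Equiv.sum_comp e]
    refine Finset.sum_congr rfl fun p _ => ?_
    simp [Module.Basis.toMatrix_apply, hB, mul_comm]
  have hΨ : ∀ x, Ψ x = (P : Matrix (Fin n) (Fin n) F) *ᵥ (x ∘ e.symm) := fun x => by
    rw [hP]; congr 1; funext p; simp
  have hΦ : ∀ (g : GL (Fin t × Fin m) F) x, (Φ g : Matrix (Fin n) (Fin n) F) *ᵥ Ψ x =
      Ψ ((g : Matrix (Fin t × Fin m) (Fin t × Fin m) F) *ᵥ x) := by
    intro g x
    rw [hΨ, hΨ]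
    show ((P : Matrix (Fin n) (Fin n) F) * _ * ((P⁻¹ : GL (Fin n) F) : Matrix (Fin n) (Fin n) F)) *ᵥ
      ((P : Matrix (Fin n) (Fin n) F) *ᵥ _) = _
    rw [Matrix.mulVec_mulVec, mul_assoc, Units.inv_mul, mul_one, ← Matrix.mulVec_mulVec]
    congr 1
    show ((Matrix.reindex e e) (g : Matrix (Fin t × Fin m) (Fin t × Fin m) F)) *ᵥ _ = _
    rw [Matrix.reindex_apply, Matrix.submatrix_mulVec_equiv]
    funext i
    simp only [Equiv.symm_symm]
    rw [show (x ∘ ⇑e.symm) ∘ ⇑e = x from funext fun p => by simp]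
  have hdet : ∀ g : GL (Fin t × Fin m) F, (Φ g : Matrix (Fin n) (Fin n) F).det =
      (g : Matrix (Fin t × Fin m) (Fin t × Fin m) F).det := fun g => by
    show ((P : Matrix (Fin n) (Fin n) F) * (Matrix.reindex e e (g : Matrix (Fin t × Fin m) (Fin t × Fin m) F)) *
      ((P⁻¹ : GL (Fin n) F) : Matrix (Fin n) (Fin n) F)).det = _
    rw [Matrix.det_units_conj, Matrix.det_reindex_self]
  have hspan : ∀ i, D i = Submodule.span F (Set.range fun k => b (i, k)) := fun i => by
    refine (Submodule.eq_of_le_of_finrank_eq ?_ ?_).symm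
    · rw [Submodule.span_le]; rintro _ ⟨k, rfl⟩; exact hb i k
    · rw [show (fun k => b (i, k)) = ⇑b ∘ fun k => (i, k) from rfl,
        finrank_span_eq_card (b.linearIndependent.comp (fun k => (i, k)) fun k k' h => (Prod.mk.inj h).2),
        Fintype.card_fin, hD.finrank_eq]
  have hsupp : ∀ {i v}, v ∈ D i → ∀ p : Fin t × Fin m, p.1 ≠ i → b.repr v p = 0 := by
    intro i v hv p hp
    rw [hspan] at hv
    induction hv using Submodule.span_induction with
    | mem x hx =>
      obtain ⟨k, rfl⟩ := hx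
      rw [b.repr_self, Finsupp.single_apply, if_neg (fun h => hp (by rw [← h]))]
    | zero => simp
    | add x y _ _ hx hy => simp [hx, hy]
    | smul c x _ hx => simp [hx]
  have hbΨ : ∀ p, b p = Ψ (Pi.single p 1) := fun p => by simp [Ψ, Pi.single_apply]
  have hcol : ∀ (g : GL (Fin t × Fin m) F) p q, b.repr ((Φ g : Matrix (Fin n) (Fin n) F) *ᵥ b q) p =
      (g : Matrix (Fin t × Fin m) (Fin t × Fin m) F) p q := fun g p q => by
    rw [hbΨ, hΦ, mulVec_single]
    simp only [Ψ]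
    rw [← Module.Basis.equivFun_apply, LinearEquiv.apply_symm_apply]
  have hblk : ∀ g : GL (Fin t × Fin m) F, (∃ σ : Equiv.Perm (Fin t),
      ∀ p q, (g : Matrix (Fin t × Fin m) (Fin t × Fin m) F) p q ≠ 0 → p.1 = σ q.1) →
      Φ g ∈ Cfsg.Geo.decompositionStabilizer D := by
    rintro g ⟨σ, hσ⟩
    refine ⟨σ, fun i => ?_⟩
    refine Submodule.eq_of_le_of_finrank_eq ?_ ?_
    · rw [hspan i, Submodule.map_span, Submodule.span_le]
      rintro _ ⟨_, ⟨k, rfl⟩, rfl⟩
      rw [Matrix.toLin'_apply]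
      show _ ∈ D (σ i)
      rw [← b.sum_repr ((Φ g : Matrix (Fin n) (Fin n) F) *ᵥ b (i, k))]
      refine Submodule.sum_mem _ fun p _ => ?_
      rw [hcol]
      by_cases h0 : (g : Matrix (Fin t × Fin m) (Fin t × Fin m) F) p (i, k) = 0
      · rw [h0, zero_smul]; exact Submodule.zero_mem _
      · exact Submodule.smul_mem _ _ (hσ p (i, k) h0 ▸ hb p.1 p.2)
    · rw [← (Submodule.equivMapOfInjective _ (fun u v h => act_injective (Φ g)
        (by simpa [Matrix.toLin'_apply] using h)) (D i)).finrank_eq, hD.finrank_eq, hD.finrank_eq]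
  set M' := M.comap Φ.toMonoidHom with hM'
  have hmemH : ∀ g : GL (Fin t × Fin m) F, (g : Matrix (Fin t × Fin m) (Fin t × Fin m) F).det = 1 →
      (∃ σ : Equiv.Perm (Fin t), ∀ p q, (g : Matrix (Fin t × Fin m) (Fin t × Fin m) F) p q ≠ 0 → p.1 = σ q.1) →
      g ∈ M' := fun g hg hb' => hHM ⟨hblk g hb', mem_sl.2 ((hdet g).trans hg)⟩
  have hsl : ∀ g ∈ M', (g : Matrix (Fin t × Fin m) (Fin t × Fin m) F).det = 1 := fun g hg => by
    have h : Φ g ∈ M := hg
    rw [← hdet]
    exact mem_sl.1 (hMK h)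
  have hmn : ∀ (σ : Equiv.Perm (Fin t × Fin m)) (d : Fin t × Fin m → Fˣ),
      (∃ π : Equiv.Perm (Fin t), ∀ p, (σ p).1 = π p.1) →
      (mn σ d : Matrix (Fin t × Fin m) (Fin t × Fin m) F).det = 1 → mn σ d ∈ M' := by
    rintro σ d ⟨π, hπ⟩ hdet1
    refine hmemH _ hdet1 ⟨π, fun p q hpq => ?_⟩
    have h := congrFun (Cfsg.Agent.DecompMaxLift.mn_single σ d q) p
    simp only [mulVec_single] at h
    rw [h] at hpq
    rcases eq_or_ne p (σ q) with rfl | hp
    · exact hπ q
    · simp [hp] at hpq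
  have hdiag : ∀ g : GL (Fin t × Fin m) F, (g : Matrix (Fin t × Fin m) (Fin t × Fin m) F).det = 1 →
      Cfsg.Agent.DecompMaxBlock.Diag g → g ∈ M' := fun g hg hd => hmemH g hg ⟨1, fun p q h => hd p q h⟩
  -- an element moving the decomposition
  obtain ⟨g₀, hg₀M, hg₀⟩ := SetLike.not_le_iff_exists.1 hMH
  set g := Φ.symm g₀ with hgdef
  have hgM : g ∈ M' := by
    show Φ g ∈ M
    rw [hgdef, MulEquiv.apply_symm_apply]
    exact hg₀M
  have hgB : ¬ ∃ σ : Equiv.Perm (Fin t),
      ∀ p q, (g : Matrix (Fin t × Fin m) (Fin t × Fin m) F) p q ≠ 0 → p.1 = σ q.1 := fun h => hg₀ (by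
    have := hblk g h
    rwa [hgdef, MulEquiv.apply_symm_apply] at this)
  have htm : 6 ≤ t * m := hcard ▸ hn
  obtain ⟨x, y, hxy, c, hc, hel⟩ : ∃ x y : Fin t × Fin m, x.1 ≠ y.1 ∧ ∃ c : F, c ≠ 0 ∧ el x y c ∈ M' := by
    rcases Nat.lt_or_ge 1 m with hm2 | hm1
    · refine Cfsg.Agent.DecompMaxBlock.exists_el ⟨hsl, hdiag⟩ (by have := hD.two_le; omega) hm2 ?_ ?_ hgM hgB
      · rintro rfl; omega
      · rintro rfl
        have : 1 < Fintype.card F := Fintype.one_lt_card
        by_contra h3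
        exact h2 ⟨rfl, by omega⟩
    · obtain rfl : m = 1 := by have := hD.pos; omega
      have hfst : ∀ {p q : Fin t × Fin 1}, p.1 = q.1 → p = q := fun h => Prod.ext h (Subsingleton.elim _ _)
      have hov : Cfsg.Agent.DecompMaxLift.Over M' := ⟨hsl, fun σ d hd => hmn σ d
        ⟨(Equiv.prodUnique (Fin t) (Fin 1)).permCongr σ, fun p => by
          rw [Equiv.permCongr_apply, Equiv.prodUnique_apply]
          exact congrArg (fun q => (σ q).1) (hfst rfl)⟩ hd⟩
      obtain ⟨x, y, hxy, c, hc, hel⟩ := Cfsg.Agent.DecompMaxSix97.exists_el hov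
        (by by_contra h5; exact h1 ⟨rfl, by omega⟩)
        (by rw [Fintype.card_prod, Fintype.card_fin, Fintype.card_fin]; exact htm) hgM (by
          rintro ⟨σ, d, hgσ⟩
          refine hgB ⟨(Equiv.prodUnique (Fin t) (Fin 1)).permCongr σ, fun p q hpq => ?_⟩
          have h := congrFun (Cfsg.Agent.DecompMaxLift.mn_single σ d q) p
          simp only [mulVec_single, ← hgσ] at h
          rw [h] at hpq
          rcases eq_or_ne p (σ q) with rfl | hp
          · rw [Equiv.permCongr_apply, Equiv.prodUnique_apply]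
            exact congrArg (fun r => (σ r).1) (hfst rfl)
          · simp [hp] at hpq)
      exact ⟨x, y, fun h => hxy (hfst h), c, hc, hel⟩
  haveI : Nontrivial (Fin t × Fin m) := ⟨⟨x, y, fun h => hxy (congrArg Prod.fst h)⟩⟩
  have hall := Cfsg.Agent.DecompMaxGen.sl_le (M := M')
    (Cfsg.Agent.DecompMaxGen.all_el (by omega) hdiag hmn hxy hc hel)
  intro g' hg'
  have h := hall (x := Φ.symm g') (mem_sl.2 (by
    rw [← hdet, MulEquiv.apply_symm_apply]; exact mem_sl.1 hg'))
  have h' : Φ (Φ.symm g') ∈ M := h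
  rwa [MulEquiv.apply_symm_apply] at h'

end Cfsg.Agent.LinDecompMax97
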