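import Mathlib
import Cfsg.Agent.Lib.OmegaStabNondeg

/-!
For dimension at least 6: a group containing the commutator subgroup of an orthogonal group in odd characteristic and a map
that is no similitude contains every transvection.

The element moves a singular vector `u` to a non-singular vector `x`; the conjugated unipotent
radical induces transvections on `V / ⟨x⟩`, and two of them do not commute above `x`.
-/

set_option autoImplicit false

namespace Cfsg.Agent.OmegaSimilitudeSix97

open QuadraticMap Module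
open Cfsg.Agent.OrthUnitaryQuad Cfsg.Agent.OrthUnitaryPrelude Cfsg.Agent.OrthUnitaryRefl
  Cfsg.Agent.OrthUnitaryOmega Cfsg.Agent.OmegaClasses Cfsg.Agent.OmegaGeo
  Cfsg.Agent.OrthUnitarySimple Cfsg.Agent.OmegaStabSingular
open Cfsg.Agent.QuadClassify (Nondeg exists_partner pair_complement)

variable {F V : Type*} [Field F] [Fintype F] [AddCommGroup V] [Module F V] [FiniteDimensional F V]
  {Q : QuadraticForm F V}

/-- Large subspaces represent every scalar. -/
theorem exists_value (hnd : (polarBilin Q).Nondegenerate) {K : Submodule F V}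
    (hK : finrank F V + 2 ≤ 2 * finrank F K) (c : F) : ∃ z ∈ K, Q z = c := by
  set R := K ⊓ LinearMap.BilinForm.orthogonal (polarBilin Q) K with hR
  obtain ⟨K', hK'⟩ := exists_isCompl R
  have hU : Nondeg Q (K ⊓ K') := by
    intro z hz hperp
    have hzR : z ∈ R := by
      refine ⟨hz.1, fun w hw => ?_⟩
      show polar Q w z = 0
      have hw' : w ∈ R ⊔ K' := by rw [hK'.sup_eq_top]; trivial
      obtain ⟨r, hr, s, hs, rfl⟩ := Submodule.mem_sup.1 hw'
      have hsK : s ∈ K := by simpa using K.sub_mem hw hr.1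
      rw [polar_add_left, polar_comm Q r z, show polar Q z r = 0 from hr.2 z hz.1, polar_comm Q s z,
        hperp s ⟨hsK, hs⟩, add_zero]
    have : z ∈ R ⊓ K' := ⟨hzR, hz.2⟩
    rwa [hK'.inf_eq_bot, Submodule.mem_bot] at this
  obtain ⟨z, hz, hQz⟩ := nondeg_represents hU (by
    have h1 := Submodule.finrank_sup_add_finrank_inf_eq K K'
    have h2 := Submodule.finrank_le (K ⊔ K')
    have h3 := Submodule.finrank_add_eq_of_isCompl hK'
    have h5 := Submodule.finrank_le K
    have h4 : finrank F R ≤ finrank F V - finrank F K :=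
      (Submodule.finrank_mono inf_le_right).trans (finrank_orth hnd K).le
    omega) c
  exact ⟨z, hz.1, hQz⟩

omit [Fintype F] in
omit [Fintype F] in
/-- A singular subspace extended by an orthogonal singular vector outside it. -/
theorem two_finrank_succ_le (hnd : (polarBilin Q).Nondegenerate) {U : Submodule F V}
    (hU : ∀ w ∈ U, Q w = 0) {e : V} (he : Q e = 0) (hperp : ∀ w ∈ U, polar Q e w = 0) (hn : e ∉ U) :
    2 * (finrank F U + 1) ≤ finrank F V := by
  have hs : ∀ y ∈ Submodule.span F {e} ⊔ U, Q y = 0 := by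
    intro y hy
    obtain ⟨a, ha, w, hw, rfl⟩ := Submodule.mem_sup.1 hy
    obtain ⟨c, rfl⟩ := Submodule.mem_span_singleton.1 ha
    rw [QuadraticMap.map_add (⇑Q), QuadraticMap.map_smul, he, hU w hw, polar_smul_left, hperp w hw]
    simp
  have h := two_finrank_le hnd hs
  have h1 := Submodule.finrank_lt_finrank_of_lt
    (lt_of_le_of_ne (le_sup_right : U ≤ Submodule.span F {e} ⊔ U) fun h => hn
      (by rw [h]; exact Submodule.mem_sup_left (Submodule.mem_span_singleton_self e)))
  omega

/-- A map preserving the singular vectors is a similitude. -/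
theorem exists_multiplier [Finite F] (hnd : (polarBilin Q).Nondegenerate) (h2 : (2 : F) ≠ 0)
    (hn : 6 ≤ finrank F V) (g : V ≃ₗ[F] V) (hg : ∀ u, Q u = 0 → Q (g u) = 0) :
    ∃ c : Fˣ, ∀ v, Q (g v) = c * Q v := by
  cases nonempty_fintype F
  obtain ⟨e, -, he0, hQe⟩ := QuadClassify.exists_singular Q (⊤ : Submodule F V)
    (by rw [finrank_top]; omega)
  obtain ⟨f, -, hQf, hef⟩ := exists_partner Q (QuadClassify.nondeg_top hnd) Submodule.mem_top he0 hQe
  have hWdim : finrank F V ≤
      finrank F (LinearMap.ker (polarBilin Q e) ⊓ LinearMap.ker (polarBilin Q f) : Submodule F V) + 2 := by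
    have h1 := QuadClassify.finrank_ker_inf (⊤ : Submodule F V) (polarBilin Q e)
    have h3 := QuadClassify.finrank_ker_inf (LinearMap.ker (polarBilin Q e)) (polarBilin Q f)
    rw [top_inf_eq, finrank_top] at h1
    omega
  set W := LinearMap.ker (polarBilin Q e) ⊓ LinearMap.ker (polarBilin Q f) with hW
  set Q' : QuadraticForm F V := Q.comp (g : V →ₗ[F] V) with hQ'
  have hQ'0 : ∀ u, Q u = 0 → Q' u = 0 := hg
  set c := polar Q' e f with hc
  have hrel : ∀ z ∈ W, Q' z + polar Q' e z - Q z * c - Q z * polar Q' f z = 0 := by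
    intro z hz
    have hez : polar Q e z = 0 := hz.1
    have hfz : polar Q f z = 0 := hz.2
    have h0 : Q (e + (z + (-Q z) • f)) = 0 := by
      rw [QuadraticMap.map_add (⇑Q), QuadraticMap.map_add (⇑Q) z, QuadraticMap.map_smul, hQe, hQf,
        polar_add_right, polar_smul_right, polar_smul_right, hef, hez, polar_comm Q z f, hfz]
      simp
    have := hQ'0 _ h0
    rw [QuadraticMap.map_add (⇑Q'), QuadraticMap.map_add (⇑Q') z, QuadraticMap.map_smul,
      hQ'0 e hQe, hQ'0 f hQf, polar_add_right, polar_smul_right, polar_smul_right, ← hc,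
      polar_comm Q' z f] at this
    simp only [smul_eq_mul] at this
    linear_combination this
  have hlin : ∀ z ∈ W, polar Q' e z = Q z * polar Q' f z := by
    intro z hz
    have h1 := hrel z hz
    have h3 := hrel (-z) (W.neg_mem hz)
    rw [QuadraticMap.map_neg, QuadraticMap.map_neg, polar_neg_right, polar_neg_right] at h3
    have : (2 : F) * (polar Q' e z - Q z * polar Q' f z) = 0 := by linear_combination h1 - h3
    exact sub_eq_zero.1 ((mul_eq_zero.1 this).resolve_left h2)
  have hpair : ∀ z ∈ W, ∀ z' ∈ W,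
      Q z' * polar Q' f z + polar Q z z' * polar Q' f z' = 0 := by
    intro z hz z' hz'
    have h1 := hlin (z + z') (W.add_mem hz hz')
    have h3 := hlin (z + -z') (W.add_mem hz (W.neg_mem hz'))
    rw [QuadraticMap.map_add (⇑Q), polar_add_right, polar_add_right, hlin z hz, hlin z' hz'] at h1
    rw [QuadraticMap.map_add (⇑Q), QuadraticMap.map_neg, polar_neg_right, polar_add_right,
      polar_add_right, polar_neg_right, polar_neg_right, hlin z hz, hlin z' hz'] at h3
    have : (2 : F) * (Q z' * polar Q' f z + polar Q z z' * polar Q' f z') = 0 := by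
      linear_combination -(h1 + h3)
    exact (mul_eq_zero.1 this).resolve_left h2
  have hfz : ∀ z ∈ W, polar Q' f z = 0 := by
    intro z hz
    by_contra hne
    obtain ⟨z', hz', hQz'⟩ : ∃ z' ∈ W ⊓ LinearMap.ker (polarBilin Q' f), Q z' ≠ 0 := by
      by_contra h
      push Not at h
      have h4 := two_finrank_succ_le hnd h hQe (fun w hw => hw.1.1) (fun h' => by
        have h5 : polar Q f e = 0 := h'.1.2
        rw [polar_comm, hef] at h5
        exact one_ne_zero h5)
      have := QuadClassify.finrank_ker_inf W (polarBilin Q' f)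
      omega
    have := hpair z hz z' hz'.1
    rw [show polar Q' f z' = 0 from hz'.2, mul_zero, add_zero] at this
    exact hne ((mul_eq_zero.1 this).resolve_left hQz')
  have hQz : ∀ z ∈ W, Q' z = c * Q z := fun z hz => by
    have := hrel z hz
    rw [hlin z hz, hfz z hz] at this
    linear_combination this
  have hall : ∀ v, Q' v = c * Q v := by
    intro v
    set z := v - polar Q f v • e - polar Q e v • f with hz
    have hzW : z ∈ W := by
      refine ⟨?_, ?_⟩
      · show polar Q e z = 0
        rw [hz, polar_sub_right, polar_sub_right, polar_smul_right, polar_smul_right, polar_self_mul,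
          hQe, hef]
        simp
      · show polar Q f z = 0
        rw [hz, polar_sub_right, polar_sub_right, polar_smul_right, polar_smul_right, polar_self_mul,
          hQf, polar_comm Q f e, hef]
        simp
    have hez : polar Q e z = 0 := hzW.1
    have hfz' : polar Q f z = 0 := hzW.2
    rw [show v = z + polar Q f v • e + polar Q e v • f by rw [hz]; abel]
    simp only [QuadraticMap.map_add (⇑Q), QuadraticMap.map_add (⇑Q'), QuadraticMap.map_smul,
      polar_add_left, polar_smul_left, polar_smul_right, hQz z hzW, hQ'0 e hQe, hQ'0 f hQf, hQe, hQf,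
      polar_comm Q z e, polar_comm Q z f, hez, hfz', polar_comm Q' z e, polar_comm Q' z f,
      hlin z hzW, hfz z hzW, hef, ← hc, smul_eq_mul, mul_zero, add_zero]
    ring
  have hc0 : c ≠ 0 := by
    intro h0
    obtain ⟨v, -, hv⟩ := exists_value hnd (K := (⊤ : Submodule F V))
      (by rw [finrank_top]; omega) 1
    have := hall (g.symm v)
    rw [h0, zero_mul, hQ', QuadraticMap.comp_apply, LinearEquiv.coe_coe, LinearEquiv.apply_symm_apply,
      hv] at this
    exact one_ne_zero this
  exact ⟨Units.mk0 c hc0, hall⟩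

/-- The transvection with centre `x` and functional `φ` lies in `M`. -/
def Trans (M : Subgroup (V ≃ₗ[F] V)) (x : V) (φ : V →ₗ[F] F) : Prop :=
  φ x = 0 ∧ ∃ m ∈ M, ∀ y, m y = y + φ y • x

omit [Fintype F] [FiniteDimensional F V] in
theorem Trans.zero {M : Subgroup (V ≃ₗ[F] V)} {x : V} : Trans M x 0 :=
  ⟨rfl, 1, M.one_mem, fun y => by simp⟩

omit [Fintype F] [FiniteDimensional F V] in
theorem Trans.add {M : Subgroup (V ≃ₗ[F] V)} {x : V} {φ ψ : V →ₗ[F] F} (h : Trans M x φ)
    (h' : Trans M x ψ) : Trans M x (φ + ψ) := by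
  obtain ⟨hφ, m, hm, hmy⟩ := h
  obtain ⟨hψ, m', hm', hmy'⟩ := h'
  refine ⟨by simp [hφ, hψ], m * m', M.mul_mem hm hm', fun y => ?_⟩
  rw [LinearEquiv.mul_apply, hmy, hmy']
  simp [hφ, hψ, add_smul]
  abel

/-- All transvections with the centre `x` lie in `M`. -/
def Centre (M : Subgroup (V ≃ₗ[F] V)) (x : V) : Prop := ∀ φ : V →ₗ[F] F, φ x = 0 → Trans M x φ

omit [Fintype F] [FiniteDimensional F V] in
theorem Centre.smul {M : Subgroup (V ≃ₗ[F] V)} {x : V} (h : Centre M x) (c : F) :
    Centre M (c • x) := by
  intro φ hφ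
  obtain ⟨-, m, hm, hmy⟩ := h (c • φ) (by simpa [mul_comm] using hφ)
  exact ⟨hφ, m, hm, fun y => by rw [hmy]; simp [smul_smul, mul_comm]⟩

omit [Fintype F] [FiniteDimensional F V] in
theorem Centre.map {M : Subgroup (V ≃ₗ[F] V)} {x : V} (h : Centre M x) {k : V ≃ₗ[F] V} (hk : k ∈ M) :
    Centre M (k x) := by
  intro φ hφ
  obtain ⟨-, m, hm, hmy⟩ := h (φ ∘ₗ (k : V →ₗ[F] V)) hφ
  refine ⟨hφ, k * m * k⁻¹, M.mul_mem (M.mul_mem hk hm) (M.inv_mem hk), fun y => ?_⟩
  rw [LinearEquiv.mul_apply, LinearEquiv.mul_apply, hmy, map_add, map_smul]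
  simp [show k (k⁻¹ y) = y from k.apply_symm_apply y]

/-- A transvection modulo `x` lifts to `M`. -/
def Lift (Q : QuadraticForm F V) (M : Subgroup (V ≃ₗ[F] V)) (x a w : V) : Prop :=
  ∃ f : V →ₗ[F] F, f x = 0 ∧ ∃ m ∈ M, ∀ y, m y = y + polar Q a y • w + f y • x

/-- A group with the commutator subgroup and a map that is no similitude has all transvections. -/
theorem centre_all (hnd : (polarBilin Q).Nondegenerate) (h2 : (2 : F) ≠ 0) (hn : 6 ≤ finrank F V)
    {M : Subgroup (V ≃ₗ[F] V)} (hS : ∀ k ∈ commutator (orth Q), k.1 ∈ M) {g : V ≃ₗ[F] V} (hg : g ∈ M)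
    (hgne : ¬ ∃ c : Fˣ, ∀ v, Q (g v) = c * Q v) : ∀ v, Centre M v := by
  classical
  obtain ⟨u, hQu, hQx⟩ : ∃ u, Q u = 0 ∧ Q (g u) ≠ 0 := by
    by_contra h
    push Not at h
    exact hgne (exists_multiplier hnd h2 (by omega) g h)
  set x := g u with hx
  have hx0 : x ≠ 0 := fun h => hQx (by rw [h, QuadraticMap.map_zero])
  have hu0 : u ≠ 0 := fun h => hx0 (by rw [hx, h, map_zero])
  set W := LinearMap.ker (polarBilin Q x) with hWdef
  have hWdim : finrank F V ≤ finrank F W + 1 := by
    have h1 := QuadClassify.finrank_ker_inf (⊤ : Submodule F V) (polarBilin Q x)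
    rw [top_inf_eq, finrank_top] at h1
    omega
  have hWx : ∀ y ∈ W, polar Q x y = 0 := fun y hy => hy
  have hxW : x ∉ W := fun h => mul_ne_zero h2 hQx (by
    have := hWx x h
    rwa [polar_self_mul] at this)
  have hproj : ∀ y, y - (polar Q x y / (2 * Q x)) • x ∈ W := fun y => by
    show polar Q x _ = 0
    rw [polar_sub_right, polar_smul_right, polar_self_mul, smul_eq_mul,
      div_mul_cancel₀ _ (mul_ne_zero h2 hQx), sub_self]
  have hW : Nondeg Q W := by
    intro z hz hzW
    refine hnd.1 z fun y => ?_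
    have h1 := hzW _ (hproj y)
    rwa [polar_sub_right, polar_smul_right, (polar_comm _ z x).trans (hWx z hz), smul_zero,
      sub_zero] at h1
  -- the conjugated radical
  set lam : V →ₗ[F] F := polarBilin Q u ∘ₗ (g.symm : V →ₗ[F] V) with hlam
  have hlamx : lam x = 0 := by
    show polar Q u (g.symm (g u)) = 0
    rw [g.symm_apply_apply, polar_self_mul, hQu, mul_zero]
  set a₀ := (LinearMap.BilinForm.toDual (polarBilin Q) hnd).symm lam with ha₀
  have ha₀' : ∀ y, polar Q a₀ y = lam y := fun y =>
    LinearMap.BilinForm.apply_toDual_symm_apply (B := polarBilin Q) (hB := hnd) lam y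
  have ha₀W : a₀ ∈ W := by
    show polar Q x a₀ = 0
    rw [polar_comm, ha₀', hlamx]
  have ha₀0 : a₀ ≠ 0 := by
    intro h
    refine hu0 (hnd.1 u fun y => ?_)
    have := ha₀' (g y)
    rw [h, polar_zero_left] at this
    show polar Q u y = 0
    rw [this]
    show _ = polar Q u (g.symm (g y))
    rw [g.symm_apply_apply]
  have hrad : ∀ w ∈ W, polar Q a₀ w = 0 → ∃ m ∈ M, ∀ y, m y = y + polar Q a₀ y • w +
      (-(polar Q (g.symm w) (g.symm y)) - Q (g.symm w) * polar Q a₀ y) • x := by
    intro w _ haw
    have huw : polar Q u (g.symm w) = 0 := by rw [ha₀'] at haw; exact haw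
    refine ⟨g * (siegel Q u (g.symm w) hQu huw).1 * g⁻¹, M.mul_mem (M.mul_mem hg (hS _
      (sGroup_le_commutator hnd (by omega) (siegel_mem hnd (by omega) hQu huw)))) (M.inv_mem hg),
      fun y => ?_⟩
    rw [LinearEquiv.mul_apply, LinearEquiv.mul_apply, show g⁻¹ y = g.symm y from rfl, siegel_apply,
      map_sub, map_add, map_smul, map_smul, g.apply_symm_apply, g.apply_symm_apply, ← hx,
      ← show lam y = polar Q u (g.symm y) from rfl, ← ha₀']
    module
  -- the submodule of hyperplanes with full lifts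
  let P : V → Prop := fun a => a ∈ W ∧ ∀ w ∈ W, polar Q a w = 0 → Lift Q M x a w
  have hP₀ : P a₀ := ⟨ha₀W, fun w hw haw => by
    obtain ⟨m, hm, hmy⟩ := hrad w hw haw
    refine ⟨-(polarBilin Q (g.symm w) ∘ₗ (g.symm : V →ₗ[F] V)) - Q (g.symm w) • polarBilin Q a₀,
      ?_, m, hm, fun y => by rw [hmy]; simp⟩
    show -(polar Q (g.symm w) (g.symm (g u))) - Q (g.symm w) * polar Q a₀ x = 0
    rw [ha₀', hlamx, g.symm_apply_apply, polar_comm Q (g.symm w) u,
      ← show lam w = polar Q u (g.symm w) from rfl, ← ha₀', haw]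
    simp⟩
  have hPzero : P 0 := ⟨W.zero_mem, fun w _ _ => ⟨0, rfl, 1, M.one_mem, fun y => by simp⟩⟩
  have hPsmul : ∀ (c : F) (a : V), P a → P (c • a) := by
    intro c a ha
    refine ⟨W.smul_mem c ha.1, fun w hw haw => ?_⟩
    obtain ⟨f, hf, m, hm, hmy⟩ := ha.2 (c • w) (W.smul_mem c hw)
      (by rw [polar_smul_right]; rwa [polar_smul_left] at haw)
    exact ⟨f, hf, m, hm, fun y => by rw [hmy, polar_smul_left, smul_smul, smul_eq_mul, mul_comm]⟩
  have hsep : ∀ a b : V, a ∈ W → b ∈ W → b ∉ Submodule.span F {a} →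
      ∃ w ∈ W, polar Q a w = 0 ∧ polar Q b w = 1 := by
    intro a b ha hb hab
    obtain ⟨w, hw, hbw⟩ := exists_pair hnd (W := Submodule.span F {a, x}) (u := b) (fun h => by
      obtain ⟨p, r, rfl⟩ := Submodule.mem_span_pair.1 h
      have hr : r • x ∈ W := by simpa using W.sub_mem hb (W.smul_mem p ha)
      rcases eq_or_ne r 0 with rfl | hr0
      · exact hab (Submodule.mem_span_singleton.2 ⟨p, by simp⟩)
      · exact hxW (by simpa [smul_smul, inv_mul_cancel₀ hr0] using W.smul_mem r⁻¹ hr))
    exact ⟨w, hw x (Submodule.subset_span (by simp)), hw a (Submodule.subset_span (by simp)), hbw⟩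
  have hconj : ∀ a b : V, P a → P b → ∀ w ∈ W, polar Q a w = 0 → P (b - polar Q b w • a) := by
    intro a b ha hb w hw haw
    refine ⟨W.sub_mem hb.1 (W.smul_mem _ ha.1), fun w'' hw'' hbw'' => ?_⟩
    obtain ⟨f, hf, h, hh, hhy⟩ := ha.2 w hw haw
    rw [polar_sub_left, polar_smul_left, smul_eq_mul, sub_eq_zero] at hbw''
    set w' := w'' - polar Q a w'' • w with hw'
    obtain ⟨f', hf', m, hm, hmy⟩ := hb.2 w' (W.sub_mem hw'' (W.smul_mem _ hw))
      (by rw [hw', polar_sub_right, polar_smul_right, hbw'', smul_eq_mul]; ring)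
    refine ⟨f' ∘ₗ (h.symm : V →ₗ[F] V) + f w' • (polarBilin Q (b - polar Q b w • a)), ?_,
      h * m * h⁻¹, M.mul_mem (M.mul_mem hh hm) (M.inv_mem hh), fun y => ?_⟩
    · have hhx : h.symm x = x := by
        rw [LinearEquiv.symm_apply_eq, hhy, hf, (polar_comm _ a x).trans (hWx a ha.1)]
        simp
      show f' (h.symm x) + f w' * polar Q (b - polar Q b w • a) x = 0
      rw [hhx, hf', polar_sub_left, polar_smul_left, (polar_comm _ b x).trans (hWx b hb.1),
        (polar_comm _ a x).trans (hWx a ha.1)]
      simp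
    have hhx : h x = x := by rw [hhy, hf, (polar_comm _ a x).trans (hWx a ha.1)]; simp
    have hz := hhy (h.symm y)
    rw [h.apply_symm_apply] at hz
    have hay : polar Q a (h.symm y) = polar Q a y := by
      conv_rhs => rw [hz]
      rw [polar_add_right, polar_add_right, polar_smul_right, polar_smul_right, haw,
        (polar_comm _ a x).trans (hWx a ha.1)]
      simp
    have hby : polar Q b (h.symm y) = polar Q (b - polar Q b w • a) y := by
      have h' := congrArg (fun z => polar Q b z) hz
      simp only [polar_add_right, polar_smul_right, smul_eq_mul,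
        (polar_comm _ b x).trans (hWx b hb.1), mul_zero, add_zero] at h'
      rw [polar_sub_left, polar_smul_left, smul_eq_mul, h', hay]
      ring
    have haw' : polar Q a w' = polar Q a w'' := by
      rw [hw', polar_sub_right, polar_smul_right, haw]; simp
    rw [LinearEquiv.mul_apply, LinearEquiv.mul_apply, show h⁻¹ y = h.symm y from rfl, hmy, map_add,
      map_add, map_smul, map_smul, h.apply_symm_apply, hhx, hby, hhy w', haw', hw']
    simp only [LinearMap.add_apply, LinearMap.smul_apply, LinearMap.coe_comp, Function.comp_apply,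
      LinearEquiv.coe_coe, polarBilin_apply_apply, smul_eq_mul]
    module
  have hPadd : ∀ a b : V, P a → P b → P (a + b) := by
    intro a b ha hb
    rcases eq_or_ne a 0 with rfl | ha0
    · rwa [zero_add]
    by_cases hab : b ∈ Submodule.span F {a}
    · obtain ⟨c, rfl⟩ := Submodule.mem_span_singleton.1 hab
      have := hPsmul (1 + c) a ha
      rwa [add_smul, one_smul] at this
    obtain ⟨w, hw, haw, hbw⟩ := hsep a b ha.1 hb.1 hab
    have h := hconj a b ha hb (-w) (W.neg_mem hw) (by rw [polar_neg_right, haw, neg_zero])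
    rwa [polar_neg_right, hbw, neg_one_smul, sub_neg_eq_add, add_comm] at h
  -- elements fixing `x` act on it
  have hPmap : ∀ k ∈ commutator (orth Q), k.1 x = x → ∀ a, P a → P (k.1 a) := by
    intro k hk hkx a ha
    have hkW : ∀ z ∈ W, k.1 z ∈ W := fun z hz => by
      show polar Q x (k.1 z) = 0
      rw [← hkx, polar_orth k, hWx z hz]
    refine ⟨hkW a ha.1, fun w hw hw' => ?_⟩
    obtain ⟨w₀, rfl⟩ := k.1.surjective w
    rw [polar_orth k] at hw'
    obtain ⟨f, hf, m, hm, hmy⟩ := ha.2 w₀ (by
      show polar Q x w₀ = 0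
      rw [← polar_orth k, hkx]; exact hWx _ hw) hw'
    refine ⟨f ∘ₗ (k.1.symm : V →ₗ[F] V), ?_, k.1 * m * k.1⁻¹,
      M.mul_mem (M.mul_mem (hS k hk) hm) (M.inv_mem (hS k hk)), fun y => ?_⟩
    · show f (k.1.symm x) = 0
      rw [show k.1.symm x = x from k.1.symm_apply_eq.2 hkx.symm, hf]
    · rw [LinearEquiv.mul_apply, LinearEquiv.mul_apply, show k.1⁻¹ y = k.1.symm y from rfl, hmy,
        map_add, map_add, map_smul, map_smul, k.1.apply_symm_apply, hkx,
        ← polar_orth k a (k.1.symm y), k.1.apply_symm_apply]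
      rfl
  have hrefl : ∀ (K : Submodule F V) (v y : V) (hv : Q v ≠ 0),
      finrank F V + 2 ≤ 2 * finrank F (K ⊓ LinearMap.ker (polarBilin Q y) : Submodule F V) →
      ∃ k ∈ commutator (orth Q), k.1 y = (refl Q v hv).1 y ∧
        ∀ z, (∀ s ∈ K, polar Q s z = 0) → k.1 z = (refl Q v hv).1 z := by
    intro K v y hv hdim
    obtain ⟨z, hz, hQz⟩ := exists_value hnd hdim (Q v)
    have hz0 : Q z ≠ 0 := by rw [hQz]; exact hv
    have hns : NS Q [v, z] := by simp [NS, hv, hz0]
    have hfix : ∀ s, polar Q z s = 0 → (rprod Q [v, z]).1 s = (refl Q v hv).1 s := fun s hs => by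
      rw [rprod_cons hv, rprod_singleton hz0, orth_mul_apply, refl_apply Q z, hs]; simp
    refine ⟨rprod Q [v, z], (rprod_mem_iff hnd (Or.inr (by omega)) hns).2
      ⟨even_two, by simp [hQz]⟩, hfix y ((polar_comm _ z y).trans hz.2),
      fun s hs => hfix s (hs z hz.1)⟩
  let A : Submodule F V :=
    { carrier := {a | P a}
      add_mem' := fun {a b} ha hb => hPadd a b ha hb
      zero_mem' := hPzero
      smul_mem' := fun c a ha => hPsmul c a ha }
  have hA : A = W := by
    refine OmegaStabNondeg.eq_of_invariant hW (fun a ha => ha.1) (y := a₀) hP₀ ha₀0 ?_ ?_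
      (fun h => by have := h.2.1; omega)
    · intro a ha w hw hQa haw z hz
      refine hPmap _ (sGroup_le_commutator hnd (by omega) (siegel_mem hnd (by omega) hQa haw)) ?_ z hz
      rw [siegel_apply, (polar_comm _ a x).trans (hWx a ha), (polar_comm _ w x).trans (hWx w hw)]
      simp
    · intro v hv hQv z hz
      obtain ⟨k, hk, hkz, hkfix⟩ := hrefl W v z hQv (by
        have := QuadClassify.finrank_ker_inf W (polarBilin Q z); omega)
      have hkx : k.1 x = x := by
        rw [hkfix x (fun s hs => (polar_comm _ s x).trans (hWx s hs)), refl_apply,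
          (polar_comm _ v x).trans (hWx v hv)]
        simp
      have := hPmap k hk hkx z hz
      rwa [hkz] at this
  have hPall : ∀ a ∈ W, P a := fun a ha => hA.ge ha
  -- a translation
  obtain ⟨φ, hφ, hφ0⟩ : ∃ φ, Trans M x φ ∧ φ ≠ 0 := by
    obtain ⟨b, hbW, hba⟩ : ∃ b ∈ W, b ∉ Submodule.span F {a₀} := by
      by_contra h
      push Not at h
      have := Submodule.finrank_mono (show W ≤ Submodule.span F {a₀} from h)
      rw [finrank_span_singleton ha₀0] at this
      omega
    set K := W ⊓ LinearMap.ker (polarBilin Q a₀) ⊓ LinearMap.ker (polarBilin Q b) with hK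
    by_contra hno
    push Not at hno
    have hsing : ∀ w ∈ K.map (g.symm : V →ₗ[F] V), Q w = 0 := by
      rintro _ ⟨w, hw, rfl⟩
      obtain ⟨m, hm, hmy⟩ := hrad w hw.1.1 hw.1.2
      obtain ⟨f', hf', m', hm', hmy'⟩ := (hPall b hbW).2 w hw.1.1 hw.2
      set f : V →ₗ[F] F := -(polarBilin Q (g.symm w) ∘ₗ (g.symm : V →ₗ[F] V)) -
        Q (g.symm w) • polarBilin Q a₀ with hfdef
      have hfy : ∀ y, f y = -(polar Q (g.symm w) (g.symm y)) - Q (g.symm w) * polar Q a₀ y :=
        fun y => rfl
      simp only [← hfy] at hmy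
      have hax := (polar_comm _ a₀ x).trans (hWx a₀ ha₀W)
      have hbx := (polar_comm _ b x).trans (hWx b hbW)
      set φ : V →ₗ[F] F := f w • polarBilin Q b - f' w • polarBilin Q a₀ with hφdef
      have hφw : φ w = 0 := by
        show f w * polar Q b w - f' w * polar Q a₀ w = 0
        rw [show polar Q b w = 0 from hw.2, show polar Q a₀ w = 0 from hw.1.2]
        simp
      have hφx : φ x = 0 := by
        show f w * polar Q b x - f' w * polar Q a₀ x = 0
        rw [hax, hbx]; simp
      have hfx : f x = 0 := by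
        rw [hfy]
        show -(polar Q (g.symm w) (g.symm (g u))) - Q (g.symm w) * polar Q a₀ (g u) = 0
        rw [g.symm_apply_apply, polar_comm Q (g.symm w) u,
          ← show lam w = polar Q u (g.symm w) from rfl, ← ha₀', ← hx, hax,
          show polar Q a₀ w = 0 from hw.1.2]
        simp
      have hcomm : ∀ y, (m * m') y = (m' * m) y + φ ((m' * m) y) • x := by
        intro y
        have e1 : (m * m') y = y + polar Q b y • w + f' y • x + polar Q a₀ y • w +
            (f y + polar Q b y * f w) • x := by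
          rw [LinearEquiv.mul_apply, hmy, hmy', polar_add_right, polar_add_right, polar_smul_right,
            polar_smul_right, show polar Q a₀ w = 0 from hw.1.2, hax, map_add, map_add, map_smul,
            map_smul, hfx]
          simp
        have e2 : (m' * m) y = y + polar Q a₀ y • w + f y • x + polar Q b y • w +
            (f' y + polar Q a₀ y * f' w) • x := by
          rw [LinearEquiv.mul_apply, hmy', hmy, polar_add_right, polar_add_right, polar_smul_right,
            polar_smul_right, show polar Q b w = 0 from hw.2, hbx, map_add, map_add, map_smul,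
            map_smul, hf']
          simp
        have e3 : φ ((m' * m) y) = f w * polar Q b y - f' w * polar Q a₀ y := by
          rw [e2]
          simp only [map_add, map_smul, hφw, hφx, smul_zero, add_zero]
          rfl
        rw [e3, e1, e2]
        module
      have hT : Trans M x φ := by
        refine ⟨hφx, m * m' * (m' * m)⁻¹, M.mul_mem (M.mul_mem hm hm')
          (M.inv_mem (M.mul_mem hm' hm)), fun y => ?_⟩
        rw [LinearEquiv.mul_apply, hcomm, show (m' * m) ((m' * m)⁻¹ y) = y from
          (m' * m).apply_symm_apply y]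
      have h0 := hno φ hT
      obtain ⟨y, hy, hay, hby⟩ := hsep a₀ b ha₀W hbW hba
      have h1 : φ y = 0 := by rw [h0]; rfl
      change f w * polar Q b y - f' w * polar Q a₀ y = 0 at h1
      rw [hay, hby, mul_zero, sub_zero, mul_one, hfy] at h1
      rw [show polar Q a₀ w = 0 from hw.1.2, mul_zero, sub_zero, neg_eq_zero, polar_self_mul] at h1
      exact (mul_eq_zero.1 h1).resolve_left h2
    have hd := two_finrank_succ_le hnd hsing hQu (by
      rintro _ ⟨w, hw, rfl⟩
      have := hw.1.2
      change polar Q a₀ w = 0 at this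
      rw [ha₀'] at this
      exact this) (fun h => by
      obtain ⟨w, hw, hwu⟩ := h
      refine hxW ?_
      have : w = x := by rw [hx, ← hwu]; exact (g.apply_symm_apply w).symm
      exact this ▸ hw.1.1)
    rw [LinearEquiv.finrank_map_eq] at hd
    have h1 := QuadClassify.finrank_ker_inf W (polarBilin Q a₀)
    have h3 := QuadClassify.finrank_ker_inf (W ⊓ LinearMap.ker (polarBilin Q a₀)) (polarBilin Q b)
    rw [← hK] at h3
    omega
  -- all translations
  have hmove : ∀ a ∈ W, ∀ w ∈ W, polar Q a w = 0 → Trans M x (φ w • polarBilin Q a) := by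
    intro a ha w hw haw
    obtain ⟨f, hf, h, hh, hhy⟩ := (hPall a ha).2 w hw haw
    obtain ⟨hφx, m, hm, hmy⟩ := hφ
    have hax := (polar_comm _ a x).trans (hWx a ha)
    have h1 : Trans M x (φ w • polarBilin Q a) := by
      have hψ : Trans M x (φ ∘ₗ (h : V →ₗ[F] V)) := by
        refine ⟨by simp [hhy, hax, hf, hφx], h⁻¹ * m * h, M.mul_mem (M.mul_mem (M.inv_mem hh) hm) hh,
          fun y => ?_⟩
        rw [LinearEquiv.mul_apply, LinearEquiv.mul_apply, hmy, map_add, map_smul,
          show h⁻¹ (h y) = y from h.symm_apply_apply y,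
          show h⁻¹ x = x from h.symm_apply_eq.2 (by rw [hhy, hax, hf]; simp)]
        rfl
      have hneg : Trans M x (-φ) := by
        refine ⟨by simp [hφx], m⁻¹, M.inv_mem hm, fun y => ?_⟩
        show m.symm y = _
        rw [LinearEquiv.symm_apply_eq, hmy]
        simp [hφx]
      have := hψ.add hneg
      convert this using 1
      refine LinearMap.ext fun y => ?_
      simp [hhy, hφx, mul_comm]
    exact h1
  set aφ := (LinearMap.BilinForm.toDual (polarBilin Q) hnd).symm φ with haφ
  have haφ' : ∀ y, polar Q aφ y = φ y := fun y =>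
    LinearMap.BilinForm.apply_toDual_symm_apply (B := polarBilin Q) (hB := hnd) φ y
  have haφW : aφ ∈ W := by
    show polar Q x aφ = 0
    rw [polar_comm, haφ', hφ.1]
  have haφ0 : aφ ≠ 0 := fun h => hφ0 (LinearMap.ext fun y => by
    rw [← haφ', h, polar_zero_left]; rfl)
  have hCx : Centre M x := by
    intro ψ hψ
    set a := (LinearMap.BilinForm.toDual (polarBilin Q) hnd).symm ψ with ha
    have ha' : polarBilin Q a = ψ := LinearMap.ext fun y =>
      LinearMap.BilinForm.apply_toDual_symm_apply (B := polarBilin Q) (hB := hnd) ψ y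
    have haW : a ∈ W := by
      show polar Q x a = 0
      rw [polar_comm, ← polarBilin_apply_apply, ha', hψ]
    have hgood : ∀ a' ∈ W, aφ ∉ Submodule.span F {a'} → Trans M x (polarBilin Q a') := by
      intro a' ha'' hne
      obtain ⟨w, hw, haw, hφw⟩ := hsep a' aφ ha'' haφW hne
      have := hmove a' ha'' w hw haw
      rwa [← haφ', hφw, one_smul] at this
    rw [← ha']
    by_cases hne : aφ ∈ Submodule.span F {a}
    · obtain ⟨b, hbW, hb⟩ : ∃ b ∈ W, b ∉ Submodule.span F {aφ} := by
        by_contra h
        push Not at h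
        have := Submodule.finrank_mono (show W ≤ Submodule.span F {aφ} from h)
        rw [finrank_span_singleton haφ0] at this
        omega
      obtain ⟨s, hs⟩ := Submodule.mem_span_singleton.1 hne
      have hs0 : s ≠ 0 := fun h => haφ0 (by rw [← hs, h, zero_smul])
      have e : a = s⁻¹ • aφ := by rw [← hs, smul_smul, inv_mul_cancel₀ hs0, one_smul]
      have h1 := hgood b hbW fun h => by
        obtain ⟨r, hr⟩ := Submodule.mem_span_singleton.1 h
        have hr0 : r ≠ 0 := fun h0 => haφ0 (by rw [← hr, h0, zero_smul])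
        exact hb (Submodule.mem_span_singleton.2 ⟨r⁻¹, by rw [← hr, smul_smul, inv_mul_cancel₀ hr0, one_smul]⟩)
      have h3 := hgood (a - b) (W.sub_mem haW hbW) fun h => by
        obtain ⟨r, hr⟩ := Submodule.mem_span_singleton.1 h
        have hr0 : r ≠ 0 := fun h0 => haφ0 (by rw [← hr, h0, zero_smul])
        refine hb (Submodule.mem_span_singleton.2 ⟨s⁻¹ - r⁻¹, ?_⟩)
        rw [sub_smul, ← e, ← hr, smul_smul, inv_mul_cancel₀ hr0, one_smul, sub_sub_cancel]
      have := h1.add h3
      rwa [← map_add, add_sub_cancel] at this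
    · exact hgood a haW hne
  -- all centres
  have hCadd : ∀ v z : V, Centre M v → Centre M z → Centre M (v + z) := by
    intro v z hv hz
    rcases eq_or_ne v 0 with rfl | hv0
    · rwa [zero_add]
    by_cases hzv : z ∈ Submodule.span F {v}
    · obtain ⟨c, rfl⟩ := Submodule.mem_span_singleton.1 hzv
      have := hv.smul (1 + c)
      rwa [add_smul, one_smul] at this
    obtain ⟨w, hw, hzw⟩ := exists_pair hnd hzv
    obtain ⟨-, m, hm, hmy⟩ := hv (polarBilin Q w)
      ((polar_comm _ w v).trans (hw v (Submodule.mem_span_singleton_self v)))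
    have := hz.map hm
    rwa [hmy, polarBilin_apply_apply, polar_comm Q w z, hzw, one_smul, add_comm] at this
  let C : Submodule F V :=
    { carrier := {v | Centre M v}
      add_mem' := fun {v z} hv hz => hCadd v z hv hz
      zero_mem' := fun ψ hψ => ⟨hψ, 1, M.one_mem, fun y => by simp⟩
      smul_mem' := fun c v hv => Centre.smul hv c }
  have hC : C = ⊤ := by
    refine OmegaStabNondeg.eq_of_invariant (QuadClassify.nondeg_top hnd) le_top (y := x) hCx hx0 ?_ ?_
      (fun h => by have := h.2.1; rw [finrank_top] at this; omega)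
    · intro a _ w _ hQa haw z hz
      exact Centre.map hz
        (hS _ (sGroup_le_commutator hnd (by omega) (siegel_mem hnd (by omega) hQa haw)))
    · intro v _ hQv z hz
      obtain ⟨k, hk, hkz, -⟩ := hrefl ⊤ v z hQv (by
        have := QuadClassify.finrank_ker_inf (⊤ : Submodule F V) (polarBilin Q z)
        rw [finrank_top] at this
        omega)
      have := Centre.map hz (hS k hk)
      rwa [hkz] at this
  intro v
  exact hC.ge (Submodule.mem_top (x := v))

end Cfsg.Agent.OmegaSimilitudeSix97
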