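import Cfsg.Prelude.Def_GeometricClasses
import Mathlib
import Cfsg.Agent.Lib.TensorMaxLinear
import Cfsg.Agent.Lib.TensorMaxGlue


/-! The proof of S5637, which does not use the lower bound on n. -/

set_option autoImplicit false
open Cfsg

namespace Cfsg.Agent.LinTensorMax97

open scoped Matrix MatrixGroups Kronecker
open Cfsg.Agent.TensorMax Cfsg.Agent.TensorMaxGlue Cfsg.Agent.TransvectionMax


/-- For a finite field F with q elements and n = n₁ n₂ with 2 ≤ n₁ < n₂, excluding n₁ = q = 2, the stabiliser in SL_n(F) of a tensor decomposition F^n ≅ F^(n₁) ⊗ F^(n₂) (the conjugate by any P of the Kronecker-product subgroup transported along any bijection Fin n ≃ Fin n₁ × Fin n₂, intersected with SL_n(F)) is a maximal subgroup of SL_n(F). -/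
theorem isMaximalIn_stab {F : Type*} [Field F] [Fintype F] (n : ℕ) (n₁ n₂ : ℕ) (h1 : 2 ≤ n₁) (h12 : n₁ < n₂) (hex : ¬ (n₁ = 2 ∧ Fintype.card F = 2)) (e : Fin n ≃ Fin n₁ × Fin n₂) (P : Matrix.GeneralLinearGroup (Fin n) F) : Cfsg.Geo.IsMaximalIn (Cfsg.Geo.specialLinear (Fin n) F) (Cfsg.Geo.tensorProductSubgroup n₁ n₂ e P ⊓ Cfsg.Geo.specialLinear (Fin n) F) := by
  classical
  have hK : (Cfsg.Geo.specialLinear (Fin n) F).comap (phi e P).toMonoidHom =
      Cfsg.Geo.specialLinear (Fin n₁ × Fin n₂) F := by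
    ext g
    simp only [Subgroup.mem_comap, Cfsg.Geo.specialLinear, MonoidHom.mem_ker, MulEquiv.coe_toMonoidHom,
      Units.ext_iff, Matrix.GeneralLinearGroup.val_det_apply, phi_det]
  have hq : n₁ = 2 → ∃ t : F, t ≠ 0 ∧ t ≠ 1 := by
    intro h2
    have hc : Fintype.card F ≠ 2 := fun h => hex ⟨h2, h⟩
    have h1 : 1 < Fintype.card F := Fintype.one_lt_card
    obtain ⟨t, ht⟩ := (({0, 1} : Finset F)ᶜ).card_pos.1 (by
      rw [Finset.card_compl]
      have := Finset.card_le_two (a := (0 : F)) (b := 1)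
      omega)
    exact ⟨t, by simpa using ht⟩
  refine isMaximalIn_of e P _ ?_ (fun M h1' h2' => ?_)
  · let i0 : Fin n₁ := ⟨0, by omega⟩
    let i1 : Fin n₁ := ⟨1, by omega⟩
    let a0 : Fin n₂ := ⟨0, by omega⟩
    let a1 : Fin n₂ := ⟨1, by omega⟩
    have hne : ((i0, a0) : Fin n₁ × Fin n₂) ≠ (i1, a1) := by simp [i0, i1]
    refine ⟨tv (Pi.single (i0, a0) 1) (Pi.single (i1, a1) 1), ?_, ?_⟩
    · have h : tv (Pi.single (i0, a0) (1 : F)) (Pi.single (i1, a1) 1) ∈ Cfsg.Geo.specialLinear (Fin n₁ × Fin n₂) F :=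
        tv_mem_sl _ _
      rw [← hK] at h
      exact h
    · rintro ⟨a, b, hab⟩
      rw [tv_single_val hne] at hab
      have e1 := congrFun (congrFun hab (i0, a0)) (i0, a0)
      have e2 := congrFun (congrFun hab (i0, a0)) (i1, a1)
      have e3 := congrFun (congrFun hab (i0, a0)) (i0, a1)
      simp [Matrix.transvection, Matrix.single_apply, Matrix.one_apply, i0, i1, a0, a1, Fin.ext_iff] at e1 e2 e3
      rcases e3 with h | h
      · rw [h, zero_mul] at e1; exact one_ne_zero e1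
      · rw [h, mul_zero] at e2; exact one_ne_zero e2
  · rw [hK] at h1' h2' ⊢
    exact linear_maximal h1 h12 hq h1' h2'

end Cfsg.Agent.LinTensorMax97
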