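import Cfsg.Prelude.Def_GeometricClasses
import Cfsg.Agent.Lib.TransvectionUnitary

/-! The similarity group of a unitary form is maximal in `SL_n(F)` for `n ≥ 6`: the proof of S5643 with a root
group argument using only isotropic vectors in the perpendicular of a line. -/

set_option autoImplicit false
open Cfsg

namespace Cfsg.Agent.LinUnitSix97

open Cfsg.Agent.TransvectionMax
open scoped MatrixGroups Matrix

namespace U

open Cfsg.Agent.TransvectionUnitary

variable {F : Type*} [Field F] [Fintype F] {n : ℕ} {σ : F ≃+* F}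
  {f : (Fin n → F) → (Fin n → F) → F}

lemma fr1 (a : Fin n → F) : Module.finrank F (Submodule.span F {a}) ≤ 1 :=
  (finrank_span_le_card ({a} : Set (Fin n → F))).trans (by simp)

/-- Three isotropic vectors `y + tᵢ z` with `z` orthogonal to `W` and `y`. -/
lemma iso_three (hf : Cfsg.Geo.IsUnitaryForm σ f) (hn : 6 ≤ n) {W : Submodule F (Fin n → F)}
    (hW : Module.finrank F W ≤ 1) {y : Fin n → F} (hy : y ∈ perp hf W) (hyy : f y y ≠ 0) :
    ∃ z ∈ perp hf W, ∃ t₁ t₂ t₃ : F, t₁ ≠ t₂ ∧ t₁ ≠ t₃ ∧ t₂ ≠ t₃ ∧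
      ∀ t ∈ ({t₁, t₂, t₃} : Set F), y + t • z ∈ perp hf W ∧ f (y + t • z) (y + t • z) = 0 := by
  obtain ⟨p, hp, r, hr, hpp, hrr, hpr⟩ := exists_hyp hf (W := W ⊔ Submodule.span F {y}) (by
    have h1 := Submodule.finrank_add_le_finrank_add_finrank W (Submodule.span F {y})
    have h2 := fr1 y
    rw [Fintype.card_fin]; omega)
  obtain ⟨μ, hμ⟩ := exists_trace_eq hf (a := (1 : F)) (map_one σ)
  set z := p + μ • r
  have hzz : f z z = 1 := by
    simp only [z, hf.add_left, add_right hf, hf.smul_left, smul_right hf, hpp, hrr, hpr,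
      show f r p = 1 by rw [hf.herm, hpr, map_one]]
    linear_combination hμ
  have hz : z ∈ perp hf (W ⊔ Submodule.span F {y}) := add_mem hp ((perp hf _).smul_mem μ hr)
  have hzy : f z y = 0 := hz y (Submodule.mem_sup_right (Submodule.mem_span_singleton_self y))
  obtain ⟨t₀, ht₀⟩ := exists_norm_eq hf (a := -(f y y)) (by rw [map_neg, sigma_f hf])
  have ht0 : t₀ ≠ 0 := fun h => hyy (by rw [h, zero_mul] at ht₀; linear_combination ht₀)
  obtain ⟨τ, hτ⟩ := exists_not_fixed hf.ne_refl
  have hτ0 : τ ≠ 0 := fun h => hτ (by rw [h, map_zero])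
  have hτ1 : τ + 1 ≠ 0 := fun h => hτ (by rw [eq_neg_of_add_eq_zero_left h, map_neg, map_one])
  have hσ0 : σ τ ≠ 0 := (map_ne_zero σ).2 hτ0
  have hσ1 : σ (τ + 1) ≠ 0 := (map_ne_zero σ).2 hτ1
  have hzW : z ∈ perp hf W := fun w hw => hz w (Submodule.mem_sup_left hw)
  refine ⟨z, hzW, t₀, t₀ * (τ / σ τ), t₀ * ((τ + 1) / σ (τ + 1)), fun h => ?_, fun h => ?_, fun h => ?_,
    fun t ht => ⟨add_mem hy ((perp hf W).smul_mem t hzW), ?_⟩⟩
  · have := mul_left_cancel₀ ht0 ((mul_one t₀).trans h)
    rw [eq_div_iff hσ0, one_mul] at this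
    exact hτ this
  · have := mul_left_cancel₀ ht0 ((mul_one t₀).trans h)
    rw [eq_div_iff hσ1, one_mul, map_add, map_one, add_left_inj] at this
    exact hτ this
  · have := mul_left_cancel₀ ht0 h
    rw [div_eq_div_iff hσ0 hσ1, map_add, map_one] at this
    exact hτ (by linear_combination -this)
  · have hN : t * σ t = -(f y y) := by
      simp only [Set.mem_insert_iff, Set.mem_singleton_iff] at ht
      rcases ht with rfl | rfl | rfl
      · exact ht₀
      · rw [map_mul, map_div₀, sigma_sigma hf, ← ht₀]; field_simp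
      · rw [map_mul, map_div₀, sigma_sigma hf, ← ht₀]; field_simp
    simp only [hf.add_left, add_right hf, hf.smul_left, smul_right hf, hzy, skew_zero hf hzy, hzz]
    linear_combination hN

/-- An isotropic vector orthogonal to `W` and to neither of two given vectors. -/
lemma exists_iso_two (hf : Cfsg.Geo.IsUnitaryForm σ f) (hn : 6 ≤ n) {W : Submodule F (Fin n → F)}
    (hW : Module.finrank F W ≤ 1) {v w : Fin n → F} (hv : v ∉ W) (hw : w ∉ W) :
    ∃ b ∈ perp hf W, f b b = 0 ∧ f b v ≠ 0 ∧ f b w ≠ 0 := by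
  obtain ⟨a, ha, hav⟩ := exists_perp_val hf hv 1
  obtain ⟨c, hc, hcw⟩ := exists_perp_val hf hw 1
  obtain ⟨y, hy, hyv, hyw⟩ : ∃ y ∈ perp hf W, f y v ≠ 0 ∧ f y w ≠ 0 := by
    by_cases h1 : f a w = 0
    · by_cases h2 : f c v = 0
      · exact ⟨a + c, add_mem ha hc, by rw [hf.add_left, h2, add_zero, hav]; exact one_ne_zero,
          by rw [hf.add_left, h1, zero_add, hcw]; exact one_ne_zero⟩
      · exact ⟨c, hc, h2, by rw [hcw]; exact one_ne_zero⟩
    · exact ⟨a, ha, by rw [hav]; exact one_ne_zero, h1⟩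
  by_cases hyy : f y y = 0
  · exact ⟨y, hy, hyy, hyv, hyw⟩
  obtain ⟨z, -, t₁, t₂, t₃, h12, h13, h23, ht⟩ := iso_three hf hn hW hy hyy
  have huniq : ∀ x, f y x ≠ 0 → ∀ s t : F, f (y + s • z) x = 0 → f (y + t • z) x = 0 → s = t := by
    intro x hx s t hs ht'
    rw [hf.add_left, hf.smul_left] at hs ht'
    by_contra hst
    have : (s - t) * f z x = 0 := by linear_combination hs - ht'
    rw [mul_eq_zero, sub_eq_zero, or_iff_right hst] at this
    rw [this, mul_zero, add_zero] at hs
    exact hx hs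
  by_contra hno
  push Not at hno
  have key : ∀ t ∈ ({t₁, t₂, t₃} : Set F), f (y + t • z) v = 0 ∨ f (y + t • z) w = 0 := fun t h => by
    by_cases h' : f (y + t • z) v = 0
    · exact Or.inl h'
    · exact Or.inr (hno _ (ht t h).1 (ht t h).2 h')
  rcases key t₁ (by simp) with a1 | a1 <;> rcases key t₂ (by simp) with a2 | a2 <;>
    rcases key t₃ (by simp) with a3 | a3
  all_goals first
    | exact h12 (huniq v hyv _ _ a1 a2)
    | exact h12 (huniq w hyw _ _ a1 a2)
    | exact h13 (huniq v hyv _ _ a1 a3)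
    | exact h13 (huniq w hyw _ _ a1 a3)
    | exact h23 (huniq v hyv _ _ a2 a3)
    | exact h23 (huniq w hyw _ _ a2 a3)

/-- The root group at u is full. -/
lemma full_at (hn : 6 ≤ n) (hf : Cfsg.Geo.IsUnitaryForm σ f) {M : Subgroup (GL (Fin n) F)}
    (hut : ∀ b c, f b b = 0 → σ c = -c → ft f b (σ c • b) ∈ M) {u a : Fin n → F}
    (hua : f u a = 0) (ha : a ∉ Submodule.span F {u}) (hm : ft f u a ∈ M) {y : Fin n → F}
    (huy : f u y = 0) : ft f u y ∈ M := by
  rcases eq_or_ne u 0 with rfl | hu0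
  · have : ft f (0 : Fin n → F) y = 1 := gl_ext fun x => by
      rw [ft_act hf huy, smul_zero, one_act, add_zero]
    rw [this]; exact M.one_mem
  let A : (Fin n → F) → Prop := fun x => f u x = 0 ∧ ft f u x ∈ M
  have hAa : A a := ⟨hua, hm⟩
  have hAadd : ∀ {x y}, A x → A y → A (x + y) := fun {x y} hx hy =>
    ⟨by rw [add_right hf, hx.1, hy.1, add_zero], by rw [← ft_add hf hx.1 hy.1]; exact M.mul_mem hx.2 hy.2⟩
  have hA0 : A 0 := ⟨zero_right hf u, by rw [ft_zero hf]; exact M.one_mem⟩
  have hAneg : ∀ {x}, A x → A (-x) := fun {x} hx =>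
    ⟨by rw [neg_right hf, hx.1, neg_zero], by rw [← ft_inv hf hx.1]; exact M.inv_mem hx.2⟩
  have hAsub : ∀ {x y}, A x → A y → A (x - y) := fun hx hy => by
    rw [sub_eq_add_neg]; exact hAadd hx (hAneg hy)
  have step : ∀ {x b c}, A x → f b b = 0 → f u b = 0 → σ c = -c → A ((c * f x b) • b) := by
    intro x b c hx hb hub hc
    set h := ft f b (σ c • b)
    have hconj : h * ft f u x * h⁻¹ = ft f u (x + (c * f x b) • b) := by
      rw [ft_conj hf (ut_preserves hf hb hc) hx.1, ut_act hf hb, ut_act hf hb, hub, mul_zero, zero_smul,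
        add_zero]
    have h2 : A (x + (c * f x b) • b) :=
      ⟨by rw [add_right hf, smul_right hf, hx.1, hub, mul_zero, add_zero],
        by rw [← hconj]; exact M.mul_mem (M.mul_mem (hut b c hb hc) hx.2) (M.inv_mem (hut b c hb hc))⟩
    simpa using hAsub h2 hx
  obtain ⟨c0, hc0, hc0'⟩ := exists_tz hf
  set U := Submodule.span F {u} with hU
  have hU1 : Module.finrank F U ≤ 1 := fr1 u
  have hperpU : ∀ {x}, x ∈ perp hf U ↔ f x u = 0 := mem_perp_singleton hf
  -- a first isotropic vector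
  obtain ⟨b₁, hb₁, hb11, hb1a, -⟩ := exists_iso_two hf hn hU1 ha ha
  have hub₁ : f u b₁ = 0 := skew_zero hf (hperpU.1 hb₁)
  have hb1n : b₁ ∉ U := fun h => by
    obtain ⟨k, rfl⟩ := Submodule.mem_span_singleton.1 h
    rw [hf.smul_left, hua, mul_zero] at hb1a
    exact hb1a rfl
  set s := c0 * f a b₁ with hs
  have hs0 : s ≠ 0 := mul_ne_zero hc0 (skew_ne hf hb1a)
  have hAb₁ : A (s • b₁) := step hAa hb11 hub₁ hc0'
  -- a partner
  obtain ⟨e, he, hee, heb, -⟩ := exists_iso_two hf hn hU1 hb1n hb1n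
  set b₁' := (f e b₁)⁻¹ • e with hb₁'
  have h1u : f u b₁' = 0 := by rw [hb₁', smul_right hf, skew_zero hf (hperpU.1 he), mul_zero]
  have h11 : f b₁' b₁' = 0 := by rw [hb₁', hf.smul_left, smul_right hf, hee, mul_zero, mul_zero]
  have h1b : f b₁ b₁' = 1 := by
    rw [hf.herm, hb₁', hf.smul_left, inv_mul_cancel₀ heb, map_one]
  -- a second line
  obtain ⟨u', hu'⟩ := (hf.nondegenerate u hu0).1
  obtain ⟨b₂, hb₂, hb20, hb22⟩ := exists_isotropic hf
    (X := perp hf (Submodule.span F {u, b₁, b₁', u'})) (by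
      have h1 := finrank_perp hf (Submodule.span F {u, b₁, b₁', u'})
      have h2 : Module.finrank F (Submodule.span F {u, b₁, b₁', u'}) ≤ 4 := by
        classical
        refine le_trans ?_ (Finset.card_le_four (a := u) (b := b₁) (c := b₁') (d := u'))
        rw [show ({u, b₁, b₁', u'} : Set (Fin n → F)) = (({u, b₁, b₁', u'} : Finset (Fin n → F)) : Set _) by simp]
        exact finrank_span_finset_le_card _
      rw [Fintype.card_fin] at h1
      omega)
  have hub₂ : f u b₂ = 0 := skew_zero hf (hb₂ u (Submodule.subset_span (by simp)))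
  have h21 : f b₂ b₁ = 0 := hb₂ b₁ (Submodule.subset_span (by simp))
  have h21' : f b₂ b₁' = 0 := hb₂ b₁' (Submodule.subset_span (by simp))
  have hb2n : b₂ ∉ U := fun h => hb20 (by
    obtain ⟨k, rfl⟩ := Submodule.mem_span_singleton.1 h
    have h5 := hb₂ u' (Submodule.subset_span (by simp))
    rw [hf.smul_left] at h5
    rw [(mul_eq_zero.1 h5).resolve_right (skew_ne hf hu'), zero_smul])
  -- everything on the second line
  let Full : (Fin n → F) → Prop := fun b => f u b = 0 ∧ ∀ t : F, A (t • b)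
  have hfull₂ : Full b₂ := ⟨hub₂, fun t => by
    obtain ⟨μ, hμ⟩ : ∃ μ, c0 * s * σ μ = t := ⟨σ (t / (c0 * s)), by rw [sigma_sigma hf]; field_simp⟩
    have h3 := step hAb₁ (b := b₂ + μ • b₁') (c := c0)
      (by simp [hf.add_left, add_right hf, hf.smul_left, smul_right hf, hb22, h11, h21', skew_zero hf h21'])
      (by rw [add_right hf, smul_right hf, hub₂, h1u]; simp) hc0'
    have h4 := step hAb₁ (b := b₁') (c := c0 * (μ * σ μ)) h11 h1u
      (by rw [map_mul, map_mul, sigma_sigma hf, hc0']; ring)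
    have h5 := hAsub h3 h4
    convert h5 using 1
    rw [add_right hf, smul_right hf, hf.smul_left, hf.smul_left, skew_zero hf h21, h1b, ← hμ]
    module⟩
  have hFull_step : ∀ {b d}, Full b → f d d = 0 → f u d = 0 → f b d ≠ 0 → Full d := by
    intro b d hb hd hud hbd
    refine ⟨hud, fun t => ?_⟩
    have := step (hb.2 (t / (c0 * f b d))) hd hud hc0'
    convert this using 2
    rw [hf.smul_left]
    field_simp
  have hFullIso : ∀ d, f d d = 0 → f u d = 0 → d ∉ U → Full d := by
    intro d hd hud hdn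
    obtain ⟨z, hz, hzz, hz2, hzd⟩ := exists_iso_two hf hn hU1 hb2n hdn
    exact hFull_step (hFull_step hfull₂ hzz (skew_zero hf (hperpU.1 hz)) (skew_ne hf hz2)) hd hud hzd
  have hFull_sub : ∀ {b d}, Full b → Full d → Full (b - d) := fun {b d} hb hd =>
    ⟨by rw [sub_right hf, hb.1, hd.1, sub_zero], fun t => by rw [smul_sub]; exact hAsub (hb.2 t) (hd.2 t)⟩
  have hFull_smul : ∀ {b} (k : F), Full b → Full (k • b) := fun {b} k hb =>
    ⟨by rw [smul_right hf, hb.1, mul_zero], fun t => by rw [smul_smul]; exact hb.2 _⟩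
  have hFullAll : ∀ d, f d d = 0 → f u d = 0 → Full d := by
    intro d hd hud
    by_cases hdn : d ∈ U
    · have h2d : f b₂ d = 0 := by
        obtain ⟨k, rfl⟩ := Submodule.mem_span_singleton.1 hdn
        rw [smul_right hf, skew_zero hf hub₂, mul_zero]
      have := hFull_sub (hFullIso (d + b₂)
        (by rw [hf.add_left, add_right hf, add_right hf b₂, hd, hb22, h2d, skew_zero hf h2d]; simp)
        (by rw [add_right hf, hud, hub₂, add_zero])
        (fun h => hb2n ((U.add_mem_iff_right hdn).1 h))) hfull₂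
      rwa [add_sub_cancel_right] at this
    · exact hFullIso d hd hud hdn
  have hy : y ∈ perp hf U := hperpU.2 (skew_zero hf huy)
  suffices h : Full y by simpa [A] using (h.2 1).2
  by_cases hyy : f y y = 0
  · exact hFullAll y hyy huy
  obtain ⟨z, -, t₁, t₂, t₃, h12, -, -, ht⟩ := iso_three hf hn hU1 hy hyy
  have g : ∀ t ∈ ({t₁, t₂, t₃} : Set F), Full (y + t • z) := fun t h =>
    hFullAll _ (ht t h).2 (skew_zero hf (hperpU.1 (ht t h).1))
  have := hFull_smul (t₂ - t₁)⁻¹ (hFull_sub (hFull_smul t₂ (g t₁ (by simp))) (hFull_smul t₁ (g t₂ (by simp))))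
  convert this using 1
  match_scalars
  · field_simp [sub_ne_zero.2 (Ne.symm h12)]
  · ring

end U

open Cfsg.Agent.TransvectionUnitary


/-- For a finite field F and n ≥ 6, let σ be a field automorphism of F of order two and f a non-degenerate unitary form on F^n with respect to σ. Then the elements of SL_n(F) that are similarities of f form a maximal subgroup of SL_n(F). -/
theorem isMaximalIn_stab {F : Type*} [Field F] [Fintype F] (n : ℕ) (hn : 6 ≤ n) (σ : F ≃+* F) (f : (Fin n → F) → (Fin n → F) → F) (hf : Cfsg.Geo.IsUnitaryForm σ f) : Cfsg.Geo.IsMaximalIn (Cfsg.Geo.specialLinear (Fin n) F) (Cfsg.Geo.similarityGroup f ⊓ Cfsg.Geo.specialLinear (Fin n) F) := by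
  set H := Cfsg.Geo.similarityGroup f ⊓ Cfsg.Geo.specialLinear (Fin n) F
  have hutH : ∀ b c, f b b = 0 → σ c = -c → ft f b (σ c • b) ∈ H := fun b c hb hc =>
    ⟨⟨1, fun x y => by rw [ut_preserves hf hb hc, Units.val_one, one_mul]⟩, ft_mem_sl f b _⟩
  obtain ⟨e0, -, he0, he0'⟩ := exists_isotropic hf (X := (⊤ : Submodule F (Fin n → F)))
    (by rw [finrank_top, Module.finrank_fin_fun]; omega)
  -- an isotropic vector not orthogonal to two given non-zero vectors
  have common : ∀ {v w : Fin n → F}, v ≠ 0 → w ≠ 0 → ∃ z, f z z = 0 ∧ f z v ≠ 0 ∧ f z w ≠ 0 := by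
    intro v w hv hw
    obtain ⟨z, -, h⟩ := U.exists_iso_two hf hn (W := (⊥ : Submodule F (Fin n → F))) (by simp)
      (v := v) (w := w) (by simpa using hv) (by simpa using hw)
    exact ⟨z, h⟩
  refine ⟨lt_of_le_of_ne inf_le_right ?_, fun M hHM hMSL => ?_⟩
  · intro he
    obtain ⟨a, ha, hau⟩ : ∃ a ∈ perp hf (Submodule.span F {e0}), a ∉ Submodule.span F {e0} := by
      by_contra! h
      have h1 := finrank_perp hf (Submodule.span F {e0})
      have h2 := Submodule.finrank_mono (show perp hf (Submodule.span F {e0}) ≤ _ from h)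
      have h3 := U.fr1 e0
      rw [Fintype.card_fin] at h1
      omega
    rw [mem_perp_singleton hf] at ha
    have hua := skew_zero hf ha
    have ha0 : a ≠ 0 := fun h => hau (h ▸ Submodule.zero_mem _)
    obtain ⟨x, hx, hxu⟩ := exists_perp_val hf (a := e0) (W := Submodule.span F {a}) (fun h => by
      obtain ⟨c, hc⟩ := Submodule.mem_span_singleton.mp h
      rcases eq_or_ne c 0 with rfl | hc0
      · exact he0 (by simpa using hc.symm)
      · exact hau (Submodule.mem_span_singleton.mpr ⟨c⁻¹, by rw [← hc, smul_smul, inv_mul_cancel₀ hc0, one_smul]⟩)) 1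
    rw [mem_perp_singleton hf] at hx
    obtain ⟨c, hc⟩ := (he.symm ▸ ft_mem_sl f e0 a : ft f e0 a ∈ H).1
    have hc1 : (c : F) = 1 := by
      have h1 := hc x e0
      rw [ft_act hf hua, ft_act hf hua, hx, hua, zero_smul, add_zero, add_zero, hxu, mul_one] at h1
      exact h1.symm
    obtain ⟨y, hy⟩ := (hf.nondegenerate a ha0).1
    have h1 := hc x y
    rw [ft_act hf hua, ft_act hf hua, hx, zero_smul, add_zero, add_right hf, smul_right hf, hxu,
      mul_one, hc1, one_mul, add_eq_left] at h1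
    exact hy (by simpa using h1)
  by_cases hMH : M ≤ Cfsg.Geo.similarityGroup f
  · exact Or.inl (le_antisymm (le_inf hMH hMSL) hHM)
  refine Or.inr (le_antisymm hMSL ?_)
  obtain ⟨g, hgM, hgn⟩ := Set.not_subset.mp hMH
  have hut : ∀ b c, f b b = 0 → σ c = -c → ft f b (σ c • b) ∈ M := fun b c hb hc => hHM (hutH b c hb hc)
  obtain ⟨c0, hc0, hc0'⟩ := exists_tz hf
  -- a root element outside the similarity group
  obtain ⟨u, a, hu, hua, ha, hm⟩ :
      ∃ u a, u ≠ 0 ∧ f u a = 0 ∧ a ∉ Submodule.span F {u} ∧ ft f u a ∈ M := by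
    by_contra hcon
    push Not at hcon
    apply hgn
    set gm := (g : Matrix (Fin n) (Fin n) F)
    have hlam : ∀ v, v ≠ 0 → f v v = 0 → ∃ l : F, ∀ x, f x v = l * f (gm *ᵥ x) (gm *ᵥ v) := by
      intro v hv hvv
      obtain ⟨a, ha⟩ := exists_row hf
        (Matrix.vecMul (c0 • row f v) ((g⁻¹ : GL (Fin n) F) : Matrix (Fin n) (Fin n) F))
      simp only [← Matrix.dotProduct_mulVec, smul_dotProduct, smul_eq_mul,
        TransvectionUnitary.row_dot hf] at ha
      have hua : f (gm *ᵥ v) a = 0 := by rw [← ha, inv_act_act, hvv, mul_zero]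
      have hconj : g * ft f v (σ c0 • v) * g⁻¹ = ft f (gm *ᵥ v) a := by
        refine gl_ext fun x => ?_
        rw [mul_act, mul_act, ut_act hf hvv, ft_act hf hua, Matrix.mulVec_add, Matrix.mulVec_smul,
          act_inv_act, ha]
      by_contra hno
      refine hcon (gm *ᵥ v) a (act_ne_zero g hv) hua ?_
        (hconj ▸ M.mul_mem (M.mul_mem hgM (hut v c0 hvv hc0')) (M.inv_mem hgM))
      intro hs
      obtain ⟨s, hs⟩ := Submodule.mem_span_singleton.mp hs
      refine hno ⟨σ s / c0, fun x => ?_⟩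
      have h := ha (gm *ᵥ x)
      rw [inv_act_act, ← hs, smul_right hf] at h
      rw [div_mul_eq_mul_div, eq_div_iff hc0, ← h, mul_comm]
    choose! l hl using hlam
    have heq : ∀ v w, v ≠ 0 → w ≠ 0 → f v v = 0 → f w w = 0 → f v w ≠ 0 → l w = σ (l v) := by
      intro v w hv hw hvv hww hvw
      have h1 := hl w hw hww v
      have h2 := congrArg σ (hl v hv hvv w)
      rw [map_mul, sigma_f hf, sigma_f hf] at h2
      have hne : f (gm *ᵥ v) (gm *ᵥ w) ≠ 0 := fun h0 => hvw (by rw [h1, h0, mul_zero])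
      exact mul_right_cancel₀ hne (h1.symm.trans h2)
    have hall : ∀ w, w ≠ 0 → f w w = 0 → l w = l e0 := by
      intro w hw hww
      obtain ⟨z, hzz, hz1, hz2⟩ := common he0 hw
      have hz : z ≠ 0 := fun h => hz1 (by rw [h, TransvectionUnitary.zero_left hf])
      rw [heq z w hz hw hzz hww hz2, heq e0 z he0 hz he0' hzz (TransvectionUnitary.skew_ne hf hz1),
        sigma_sigma hf]
    have hl0 : l e0 ≠ 0 := by
      intro h0
      obtain ⟨x, hx⟩ := (hf.nondegenerate e0 he0).1
      exact hx (by rw [hl e0 he0 he0' x, h0, zero_mul])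
    have hiso : ∀ v, f v v = 0 → ∀ x, f x v = l e0 * f (gm *ᵥ x) (gm *ᵥ v) := by
      intro v hvv x
      rcases eq_or_ne v 0 with rfl | hv
      · simp [TransvectionUnitary.zero_right hf]
      · rw [hl v hv hvv x, hall v hv hvv]
    refine ⟨(Units.mk0 (l e0) hl0)⁻¹, fun x v => ?_⟩
    obtain ⟨p, hp, r, hr, μ, hpp, hrr, hpr, hvp, hvr, hz⟩ :=
      iso_adjust hf (W := (⊥ : Submodule F (Fin n → F))) (by rw [finrank_bot, Fintype.card_fin]; omega) v
    have hz' := hiso _ hz x
    simp only [Matrix.mulVec_add, Matrix.mulVec_smul, add_right hf, smul_right hf, hiso p hpp x,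
      hiso r hrr x] at hz'
    rw [Units.val_inv_eq_inv_val, Units.val_mk0, eq_inv_mul_iff_mul_eq₀ hl0]
    linear_combination (-1 : F) * hz'
  have hfull : ∀ a', f u a' = 0 → ft f u a' ∈ M := fun a' h => U.full_at hn hf hut hua ha hm h
  -- the vectors with full root group form an invariant subspace
  let C : (Fin n → F) → Prop := fun x => ∀ a', f x a' = 0 → ft f x a' ∈ M
  have hCsmul : ∀ {x} (s : F), C x → C (s • x) := by
    intro x s hx a' ha'
    by_cases hs : s = 0
    · have : ft f (s • x) a' = 1 := gl_ext fun y => by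
        rw [ft_act hf ha', hs, zero_smul, smul_zero, one_act, add_zero]
      rw [this]
      exact M.one_mem
    rw [hf.smul_left] at ha'
    have ha2 : f x (σ s • a') = 0 := by rw [smul_right hf, sigma_sigma hf, ha']
    have : ft f (s • x) a' = ft f x (σ s • a') := gl_ext fun y => by
      rw [ft_act hf (by rw [hf.smul_left, ha']), ft_act hf ha2, smul_right hf, sigma_sigma hf, smul_smul,
        mul_comm]
    rw [this]
    exact hx _ ha2
  have hCconj : ∀ {h : GL (Fin n) F}, h ∈ M → ∀ {x}, C x →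
      C ((h : Matrix (Fin n) (Fin n) F) *ᵥ x) := by
    intro h hh x hx a' ha'
    obtain ⟨a'', ha''⟩ := exists_row hf (Matrix.vecMul (row f a') (h : Matrix (Fin n) (Fin n) F))
    simp only [← Matrix.dotProduct_mulVec, TransvectionUnitary.row_dot hf] at ha''
    have hxa : f x a'' = 0 := by rw [← ha'', ha']
    have : h * ft f x a'' * h⁻¹ = ft f ((h : Matrix (Fin n) (Fin n) F) *ᵥ x) a' := gl_ext fun y => by
      rw [mul_act, mul_act, ft_act hf hxa, ft_act hf ha', Matrix.mulVec_add, Matrix.mulVec_smul,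
        act_inv_act, ← ha'', act_inv_act]
    rw [← this]
    exact M.mul_mem (M.mul_mem hh (hx _ hxa)) (M.inv_mem hh)
  have hCadd : ∀ {x y}, C x → C y → C (x + y) := by
    intro x y hx hy
    by_cases hyx : y ∈ Submodule.span F {x}
    · obtain ⟨s, rfl⟩ := Submodule.mem_span_singleton.mp hyx
      have := hCsmul (1 + s) hx
      rwa [add_smul, one_smul] at this
    · obtain ⟨a', ha', hay⟩ := exists_perp_val hf hyx 1
      rw [mem_perp_singleton hf] at ha'
      have hxa := TransvectionUnitary.skew_zero hf ha'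
      have := hCconj (hx a' hxa) hy
      rwa [ft_act hf hxa, hf.herm y a', hay, map_one, one_smul, add_comm] at this
  have hCiso : ∀ {x b}, C x → f b b = 0 → f x b ≠ 0 → C b := by
    intro x b hx hb hxb
    have h := hCadd (hCconj (hut b c0 hb hc0') hx) (hCsmul (-1) hx)
    rw [ut_act hf hb, neg_one_smul, add_neg_cancel_comm] at h
    have := hCsmul (c0 * f x b)⁻¹ h
    rwa [smul_smul, inv_mul_cancel₀ (mul_ne_zero hc0 hxb), one_smul] at this
  have hCu : C u := hfull
  have hCisoAll : ∀ b, f b b = 0 → C b := by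
    intro b hb
    rcases eq_or_ne b 0 with rfl | hb0
    · simpa using hCsmul 0 hCu
    · obtain ⟨z, hzz, hzu, hzb⟩ := common hu hb0
      exact hCiso (hCiso hCu hzz (TransvectionUnitary.skew_ne hf hzu)) hb hzb
  refine specialLinear_le fun v φ hφ => ?_
  obtain ⟨b, hbφ⟩ := exists_row hf φ
  have hvb : f v b = 0 := by rw [← hbφ, hφ]
  have heq : tv v φ = ft f v b := gl_ext fun x => by rw [tv_act hφ, ft_act hf hvb, hbφ]
  rw [heq]
  obtain ⟨p, hp, r, hr, μ, hpp, hrr, hpr, hvp, hvr, hz⟩ :=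
    iso_adjust hf (W := (⊥ : Submodule F (Fin n → F))) (by rw [finrank_bot, Fintype.card_fin]; omega) v
  have hv : C v := by
    have h := hCadd (hCadd (hCisoAll _ hz) (hCsmul (-1) (hCisoAll p hpp))) (hCsmul (-μ) (hCisoAll r hrr))
    convert h using 1
    module
  exact hv b hvb

end Cfsg.Agent.LinUnitSix97
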