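import Mathlib
import Cfsg.Prelude.Def_GeometricClasses

namespace Cfsg.Agent.SubspaceStab

open Matrix Module

variable {ι : Type} [Fintype ι] [DecidableEq ι] {F : Type*} [Field F]

/-- The transvection `y ↦ y + (a ⬝ᵥ y) • v`. -/
def tv (v a : ι → F) (h : a ⬝ᵥ v = 0) : GL ι F :=
  GeneralLinearGroup.mkOfDetNeZero (1 + vecMulVec v a) (by
    rw [vecMulVec_eq Unit, det_one_add_replicateCol_mul_replicateRow, h, add_zero]
    exact one_ne_zero)

theorem tv_apply (v a : ι → F) (h : a ⬝ᵥ v = 0) (y : ι → F) :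
    ((tv v a h : GL ι F) : Matrix ι ι F) *ᵥ y = y + (a ⬝ᵥ y) • v := by
  show (1 + vecMulVec v a) *ᵥ y = _
  rw [add_mulVec, one_mulVec, vecMulVec_mulVec, op_smul_eq_smul]

theorem tv_mem_sl (v a : ι → F) (h : a ⬝ᵥ v = 0) : tv v a h ∈ Cfsg.Geo.specialLinear ι F := by
  rw [Cfsg.Geo.specialLinear, MonoidHom.mem_ker]
  ext
  show Matrix.det (1 + vecMulVec v a) = 1
  rw [vecMulVec_eq Unit, det_one_add_replicateCol_mul_replicateRow, h, add_zero]

theorem exists_dot (P : Submodule F (ι → F)) {x : ι → F} (hx : x ∉ P) :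
    ∃ a : ι → F, a ⬝ᵥ x = 1 ∧ ∀ p ∈ P, a ⬝ᵥ p = 0 := by
  obtain ⟨f, hfx, hfP⟩ := Submodule.exists_le_ker_of_notMem hx
  obtain ⟨a, ha⟩ : ∃ a : ι → F, ∀ y, a ⬝ᵥ y = f y :=
    ⟨(dotProductEquiv F ι).symm f, fun y => by
      conv_rhs => rw [← (dotProductEquiv F ι).apply_symm_apply f]
      rfl⟩
  refine ⟨(f x)⁻¹ • a, ?_, fun p hp => ?_⟩
  · rw [smul_dotProduct, ha, smul_eq_mul, inv_mul_cancel₀ hfx]
  · rw [smul_dotProduct, ha, show f p = 0 from hfP hp, smul_zero]

/-- Image of a subspace under an element of GL. -/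
def im (g : GL ι F) (W : Submodule F (ι → F)) : Submodule F (ι → F) :=
  W.map (Matrix.mulVecLin (g : Matrix ι ι F))

theorem mem_im {g : GL ι F} {W : Submodule F (ι → F)} {y : ι → F} :
    y ∈ im g W ↔ ∃ w ∈ W, (g : Matrix ι ι F) *ᵥ w = y := by
  simp [im, Submodule.mem_map]

theorem im_mul (g h : GL ι F) (W : Submodule F (ι → F)) : im (g * h) W = im g (im h W) := by
  rw [im, im, im, ← Submodule.map_comp, ← Matrix.mulVecLin_mul, Units.val_mul]

theorem im_one (W : Submodule F (ι → F)) : im (1 : GL ι F) W = W := by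
  rw [im, Units.val_one, Matrix.mulVecLin_one, Submodule.map_id]

theorem im_inv_im (g : GL ι F) (W : Submodule F (ι → F)) : im g⁻¹ (im g W) = W := by
  rw [← im_mul, inv_mul_cancel, im_one]

theorem finrank_im (g : GL ι F) (W : Submodule F (ι → F)) :
    finrank F (im g W) = finrank F W :=
  ((Submodule.equivMapOfInjective _
    (Matrix.mulVec_injective_of_isUnit g.isUnit) W).finrank_eq).symm

theorem mem_stab_iff {g : GL ι F} {W : Submodule F (ι → F)} :
    g ∈ Cfsg.Geo.subspaceStabilizer W ↔ im g W = W := by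
  constructor
  · intro h
    ext y
    rw [mem_im]
    constructor
    · rintro ⟨w, hw, rfl⟩
      exact (h w).1 hw
    · intro hy
      refine ⟨((g⁻¹ : GL ι F) : Matrix ι ι F) *ᵥ y, ?_, ?_⟩
      · exact ((Cfsg.Geo.subspaceStabilizer W).inv_mem h y).1 hy
      · rw [mulVec_mulVec, ← Units.val_mul, mul_inv_cancel, Units.val_one, one_mulVec]
  · intro h v
    constructor
    · intro hv
      exact h ▸ mem_im.2 ⟨v, hv, rfl⟩
    · intro hv
      have h2 : (g : Matrix ι ι F) *ᵥ v ∈ im g W := h.symm ▸ hv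
      obtain ⟨w, hw, hwv⟩ := mem_im.1 h2
      exact Matrix.mulVec_injective_of_isUnit g.isUnit hwv ▸ hw

theorem im_tv_of_fix {v a : ι → F} {h : a ⬝ᵥ v = 0} {W : Submodule F (ι → F)}
    (hW : ∀ w ∈ W, (a ⬝ᵥ w) • v ∈ W) : tv v a h ∈ Cfsg.Geo.subspaceStabilizer W := by
  rw [mem_stab_iff]
  apply le_antisymm
  · rintro _ ⟨w, hw, rfl⟩
    rw [Matrix.mulVecLin_apply, tv_apply]
    exact W.add_mem hw (hW w hw)
  · intro y hy
    refine mem_im.2 ⟨y - (a ⬝ᵥ y) • v, W.sub_mem hy (hW y hy), ?_⟩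
    rw [tv_apply, dotProduct_sub, dotProduct_smul, h, smul_zero, sub_zero, sub_add_cancel]

theorem im_span (g : GL ι F) (D : Submodule F (ι → F)) (v : ι → F) :
    im g (D ⊔ F ∙ v) = im g D ⊔ F ∙ ((g : Matrix ι ι F) *ᵥ v) := by
  rw [im, im, Submodule.map_sup, Submodule.map_span, Set.image_singleton]
  rfl

theorem im_eq_self_of_fix {g : GL ι F} {D : Submodule F (ι → F)}
    (h : ∀ d ∈ D, (g : Matrix ι ι F) *ᵥ d = d) : im g D = D := by
  ext y
  rw [mem_im]
  exact ⟨fun ⟨w, hw, e⟩ => (h w hw ▸ e) ▸ hw, fun hy => ⟨y, hy, h y hy⟩⟩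

omit [DecidableEq ι] in
theorem finrank_hyper {D W : Submodule F (ι → F)} {w : ι → F}
    (hwD : w ∉ D) (hspan : D ⊔ F ∙ w = W) : finrank F W = finrank F D + 1 := by
  have hw : w ≠ 0 := fun h => hwD (h ▸ D.zero_mem)
  have hd : Disjoint D (F ∙ w) := (Submodule.disjoint_span_singleton' hw).2 hwD
  have h := Submodule.finrank_sup_add_finrank_inf_eq D (F ∙ w)
  rw [hd.eq_bot, finrank_bot, finrank_span_singleton hw, hspan] at h
  omega

theorem proper {W : Submodule F (ι → F)} (h0 : W ≠ ⊥) (h1 : W ≠ ⊤) :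
    ∃ g ∈ Cfsg.Geo.specialLinear ι F, g ∉ Cfsg.Geo.subspaceStabilizer W := by
  obtain ⟨w, hw, hw0⟩ := Submodule.exists_mem_ne_zero_of_ne_bot h0
  obtain ⟨v, -, hv⟩ := SetLike.exists_of_lt (lt_top_iff_ne_top.2 h1)
  have hwv : w ∉ F ∙ v := by
    rw [Submodule.mem_span_singleton]
    rintro ⟨c, rfl⟩
    have hc : c ≠ 0 := fun h => hw0 (by rw [h, zero_smul])
    exact hv (by simpa [smul_smul, inv_mul_cancel₀ hc] using W.smul_mem c⁻¹ hw)
  obtain ⟨a, haw, hav⟩ := exists_dot (F ∙ v) hwv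
  refine ⟨tv v a (hav v (Submodule.mem_span_singleton_self v)), tv_mem_sl _ _ _, fun h => ?_⟩
  have := (h w).1 hw
  change (tv v a (hav v (Submodule.mem_span_singleton_self v)) : Matrix ι ι F) *ᵥ w ∈ W at this
  rw [tv_apply, haw, one_smul] at this
  exact hv ((W.add_mem_iff_right hw).1 this)

/-- A subgroup of `SL` containing the stabiliser of `W` and not contained in it is all of `SL`. -/
theorem maximal {W : Submodule F (ι → F)} {M : Subgroup (GL ι F)}
    (hM : Cfsg.Geo.subspaceStabilizer W ⊓ Cfsg.Geo.specialLinear ι F ≤ M)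
    (hMsl : M ≤ Cfsg.Geo.specialLinear ι F) {m : GL ι F} (hm : m ∈ M) (hmW : im m W ≠ W) :
    M = Cfsg.Geo.specialLinear ι F := by
  classical
  set O : Set (Submodule F (ι → F)) := {X | ∃ g ∈ M, im g W = X} with hO
  have closed : ∀ g ∈ M, ∀ X ∈ O, im g X ∈ O := by
    rintro g hg _ ⟨h, hh, rfl⟩
    exact ⟨g * h, M.mul_mem hg hh, im_mul g h W⟩
  have htv : ∀ v a (h : a ⬝ᵥ v = 0), (∀ w ∈ W, (a ⬝ᵥ w) • v ∈ W) → tv v a h ∈ M :=
    fun v a h hW => hM ⟨im_tv_of_fix hW, tv_mem_sl _ _ _⟩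
  -- one neighbour of `W`
  have hne : ¬ im m W ≤ W := fun h => hmW (Submodule.eq_of_le_of_finrank_eq h (finrank_im m W))
  obtain ⟨x, hxm, hxW⟩ := SetLike.not_le_iff_exists.1 hne
  have hne' : ¬ W ≤ im m W := fun h =>
    hmW (Submodule.eq_of_le_of_finrank_eq h (finrank_im m W).symm).symm
  obtain ⟨w₀, hw₀, hw₀m⟩ := SetLike.not_le_iff_exists.1 hne'
  obtain ⟨a₀, ha₀w, ha₀m⟩ := exists_dot (im m W) hw₀m
  have ht0 : tv x a₀ (ha₀m x hxm) ∈ M := by
    have hfix : tv x a₀ (ha₀m x hxm) ∈ Cfsg.Geo.subspaceStabilizer (im m W) :=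
      im_tv_of_fix fun w hw => by rw [ha₀m w hw, zero_smul]; exact Submodule.zero_mem _
    have hin : m⁻¹ * tv x a₀ (ha₀m x hxm) * m ∈ M := by
      refine hM ⟨mem_stab_iff.2 ?_, ?_⟩
      · rw [im_mul, im_mul, mem_stab_iff.1 hfix, im_inv_im]
      · exact Subgroup.mul_mem _ (Subgroup.mul_mem _ (Subgroup.inv_mem _ (hMsl hm))
          (tv_mem_sl _ _ _)) (hMsl hm)
    have h2 := M.mul_mem (M.mul_mem hm hin) (M.inv_mem hm)
    simpa [mul_assoc] using h2
  -- a description of that neighbour as `D₀ + ⟨v₀⟩`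
  set D₀ : Submodule F (ι → F) := W ⊓ (dotProductEquiv F ι a₀).ker with hD₀
  have hD₀mem : ∀ y, y ∈ D₀ ↔ y ∈ W ∧ a₀ ⬝ᵥ y = 0 := fun y => Iff.rfl
  have hw₀D : w₀ ∉ D₀ := fun h => by
    rw [hD₀mem, ha₀w] at h; exact one_ne_zero h.2
  have hD₀W : D₀ ⊔ F ∙ w₀ = W := by
    apply le_antisymm (sup_le inf_le_left ((Submodule.span_singleton_le_iff_mem _ _).2 hw₀))
    intro y hy
    rw [Submodule.mem_sup]
    refine ⟨y - (a₀ ⬝ᵥ y) • w₀, (hD₀mem _).2 ⟨W.sub_mem hy (W.smul_mem _ hw₀), ?_⟩,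
      (a₀ ⬝ᵥ y) • w₀, Submodule.smul_mem _ _ (Submodule.mem_span_singleton_self _),
      sub_add_cancel _ _⟩
    rw [dotProduct_sub, dotProduct_smul, ha₀w, smul_eq_mul, mul_one, sub_self]
  have hv₀ : w₀ + x ∉ W := fun h => hxW ((W.add_mem_iff_right hw₀).1 h)
  have hnb : D₀ ⊔ F ∙ (w₀ + x) ∈ O := by
    refine ⟨_, ht0, ?_⟩
    conv_lhs => rw [← hD₀W]
    rw [im_span, tv_apply, ha₀w, one_smul, im_eq_self_of_fix]
    intro d hd
    rw [tv_apply, ((hD₀mem d).1 hd).2, zero_smul, add_zero]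
  -- replace the vector outside `W`
  have stepV : ∀ (D : Submodule F (ι → F)) (v v' : ι → F), D ≤ W → v ∉ W → v' ∉ W →
      D ⊔ F ∙ v ∈ O → D ⊔ F ∙ v' ∈ O := by
    intro D v v' hD hv hv' hO'
    obtain ⟨c, hc, hcv⟩ : ∃ c : F, c ≠ 0 ∧ v ∉ W ⊔ F ∙ (c • v' - v) := by
      by_cases h : v' ∈ W ⊔ F ∙ v
      · rw [Submodule.mem_sup] at h
        obtain ⟨w, hw, z, hz, rfl⟩ := h
        obtain ⟨α, rfl⟩ := Submodule.mem_span_singleton.1 hz
        have hα : α ≠ 0 := by
          rintro rfl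
          exact hv' (by simpa using hw)
        refine ⟨α⁻¹, inv_ne_zero hα, ?_⟩
        have : α⁻¹ • (w + α • v) - v = α⁻¹ • w := by
          rw [smul_add, smul_smul, inv_mul_cancel₀ hα, one_smul, add_sub_cancel_right]
        rw [this, sup_eq_left.2 ((Submodule.span_singleton_le_iff_mem _ _).2 (W.smul_mem _ hw))]
        exact hv
      · refine ⟨1, one_ne_zero, fun hmem => ?_⟩
        rw [one_smul, Submodule.mem_sup] at hmem
        obtain ⟨w, hw, z, hz, e⟩ := hmem
        obtain ⟨β, rfl⟩ := Submodule.mem_span_singleton.1 hz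
        by_cases hβ : β = 0
        · subst hβ
          rw [zero_smul, add_zero] at e
          exact hv (e ▸ hw)
        · apply h
          have : v' = β⁻¹ • ((β + 1) • v - w) := by
            rw [eq_inv_smul_iff₀ hβ]
            linear_combination (norm := module) e
          rw [this]
          refine Submodule.smul_mem _ _ (Submodule.sub_mem _ ?_ (Submodule.mem_sup_left hw))
          exact Submodule.mem_sup_right (Submodule.smul_mem _ _
            (Submodule.mem_span_singleton_self v))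
    obtain ⟨b, hbv, hbP⟩ := exists_dot _ hcv
    have hb : b ⬝ᵥ (c • v' - v) = 0 :=
      hbP _ (Submodule.mem_sup_right (Submodule.mem_span_singleton_self _))
    have hbW : ∀ w ∈ W, b ⬝ᵥ w = 0 := fun w hw => hbP w (Submodule.mem_sup_left hw)
    have ht : tv (c • v' - v) b hb ∈ M :=
      htv _ _ _ fun w hw => by rw [hbW w hw, zero_smul]; exact W.zero_mem
    have := closed _ ht _ hO'
    rw [im_span, tv_apply, hbv, one_smul, add_sub_cancel, im_eq_self_of_fix (fun d hd => by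
      rw [tv_apply, hbW d (hD hd), zero_smul, add_zero]),
      Submodule.span_singleton_smul_eq (isUnit_iff_ne_zero.2 hc)] at this
    exact this
  -- replace the hyperplane of `W`
  have stepD : ∀ (D D' : Submodule F (ι → F)) (v : ι → F), D ≤ W → D' ≤ W →
      finrank F D + 1 = finrank F W → finrank F D' + 1 = finrank F W → v ∉ W →
      D ⊔ F ∙ v ∈ O → D' ⊔ F ∙ v ∈ O := by
    intro D D' v hD hD' hdD hdD' hv hO'
    by_cases hDD : D ≤ D'
    · rwa [← Submodule.eq_of_le_of_finrank_eq hDD (by omega)]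
    obtain ⟨w, hwD, hwD'⟩ := SetLike.not_le_iff_exists.1 hDD
    have hDD2 : ¬ D' ≤ D := fun h =>
      hDD (Submodule.eq_of_le_of_finrank_eq h (by omega)).symm.le
    obtain ⟨w', hw'D', hw'D⟩ := SetLike.not_le_iff_exists.1 hDD2
    have hout : w ∉ ((D ⊓ D') ⊔ F ∙ (w' - w)) ⊔ F ∙ v := by
      intro hmem
      simp only [Submodule.mem_sup, Submodule.mem_span_singleton] at hmem
      obtain ⟨y, ⟨d, ⟨hd, hd'⟩, z, ⟨β, rfl⟩, rfl⟩, z', ⟨γ, rfl⟩, e⟩ := hmem
      have hγ : γ = 0 := by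
        by_contra hγ
        apply hv
        have : v = γ⁻¹ • (w - (d + β • (w' - w))) := by
          rw [eq_inv_smul_iff₀ hγ]
          linear_combination (norm := module) e
        rw [this]
        exact W.smul_mem _ (W.sub_mem (hD hwD) (W.add_mem (hD hd)
          (W.smul_mem _ (W.sub_mem (hD' hw'D') (hD hwD)))))
      subst hγ
      by_cases hβ : β = 0
      · subst hβ
        rw [zero_smul, zero_smul, add_zero, add_zero] at e
        exact hwD' (e ▸ hd')
      · apply hw'D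
        have : w' = β⁻¹ • ((β + 1) • w - d) := by
          rw [eq_inv_smul_iff₀ hβ]
          linear_combination (norm := module) e
        rw [this]
        exact D.smul_mem _ (D.sub_mem (D.smul_mem _ hwD) hd)
    obtain ⟨b, hbw, hbP⟩ := exists_dot _ hout
    have hb : b ⬝ᵥ (w' - w) = 0 :=
      hbP _ (Submodule.mem_sup_left (Submodule.mem_sup_right (Submodule.mem_span_singleton_self _)))
    have ht : tv (w' - w) b hb ∈ M :=
      htv _ _ _ fun y _ => W.smul_mem _ (W.sub_mem (hD' hw'D') (hD hwD))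
    have hcap : ∀ d ∈ D ⊓ D', (tv (w' - w) b hb : Matrix ι ι F) *ᵥ d = d := fun d hd => by
      rw [tv_apply, hbP d (Submodule.mem_sup_left (Submodule.mem_sup_left hd)), zero_smul, add_zero]
    have hspanD : (D ⊓ D') ⊔ F ∙ w = D ∧ (D ⊓ D') ⊔ F ∙ w' = D' := by
      have h1 : finrank F ↥(D ⊔ D') ≤ finrank F W := Submodule.finrank_mono (sup_le hD hD')
      have h2 := Submodule.finrank_sup_add_finrank_inf_eq D D'
      have h3 : finrank F W ≤ finrank F (D ⊓ D' : Submodule F (ι → F)) + 2 := by omega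
      have e1 : finrank F ↥((D ⊓ D') ⊔ F ∙ w) = finrank F ↥(D ⊓ D') + 1 :=
        finrank_hyper (fun h => hwD' h.2) rfl
      have e2 : finrank F ↥((D ⊓ D') ⊔ F ∙ w') = finrank F ↥(D ⊓ D') + 1 :=
        finrank_hyper (fun h => hw'D h.1) rfl
      exact ⟨Submodule.eq_of_le_of_finrank_le
          (sup_le inf_le_left ((Submodule.span_singleton_le_iff_mem _ _).2 hwD)) (by omega),
        Submodule.eq_of_le_of_finrank_le
          (sup_le inf_le_right ((Submodule.span_singleton_le_iff_mem _ _).2 hw'D')) (by omega)⟩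
    have := closed _ ht _ hO'
    rw [im_span, tv_apply (y := v),
      hbP v (Submodule.mem_sup_right (Submodule.mem_span_singleton_self _)), zero_smul, add_zero,
      ← hspanD.1, im_span, im_eq_self_of_fix hcap, tv_apply, hbw, one_smul, add_sub_cancel,
      hspanD.2] at this
    exact this
  have hD₀fin : finrank F D₀ + 1 = finrank F W := (finrank_hyper hw₀D hD₀W).symm
  have adjW : ∀ (D : Submodule F (ι → F)) (v : ι → F), D ≤ W → finrank F D + 1 = finrank F W →
      v ∉ W → D ⊔ F ∙ v ∈ O := fun D v hD hd hv =>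
    stepV D _ v hD hv₀ hv (stepD D₀ D _ inf_le_left hD hD₀fin hd hv₀ hnb)
  have adj : ∀ X ∈ O, ∀ (D : Submodule F (ι → F)) (v : ι → F), D ≤ X →
      finrank F D + 1 = finrank F W → v ∉ X → D ⊔ F ∙ v ∈ O := by
    rintro _ ⟨g, hg, rfl⟩ D v hD hd hv
    have h1 : im g⁻¹ D ≤ W := by
      have := Submodule.map_mono (f := Matrix.mulVecLin ((g⁻¹ : GL ι F) : Matrix ι ι F)) hD
      exact this.trans_eq (im_inv_im g W)
    have h2 : ((g⁻¹ : GL ι F) : Matrix ι ι F) *ᵥ v ∉ W := fun h => hv <| mem_im.2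
      ⟨_, h, by rw [mulVec_mulVec, ← Units.val_mul, mul_inv_cancel, Units.val_one, one_mulVec]⟩
    have := closed g hg _ (adjW _ _ h1 (by rw [finrank_im]; exact hd) h2)
    rw [im_span, mulVec_mulVec, ← Units.val_mul, mul_inv_cancel, Units.val_one, one_mulVec] at this
    rwa [show im g (im g⁻¹ D) = D by rw [← im_mul, mul_inv_cancel, im_one]] at this
  -- connectivity
  have key : ∀ k, ∀ X ∈ O, ∀ Y : Submodule F (ι → F), finrank F Y = finrank F W →
      finrank F W - finrank F ↥(X ⊓ Y) ≤ k → Y ∈ O := by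
    intro k
    induction k with
    | zero =>
      intro X hX Y hY hk
      obtain ⟨g, hgM, hgX⟩ := hX
      have hXd : finrank F X = finrank F W := hgX ▸ finrank_im g W
      have hle := Submodule.eq_of_le_of_finrank_le (inf_le_left : X ⊓ Y ≤ X) (by omega)
      have hXY : X = Y :=
        Submodule.eq_of_le_of_finrank_eq (hle ▸ inf_le_right) (by omega)
      exact ⟨g, hgM, hgX.trans hXY⟩
    | succ k ih =>
      intro X hX Y hY hk
      obtain ⟨g, hg, hgX⟩ := id hX
      have hXd : finrank F X = finrank F W := hgX ▸ finrank_im g W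
      by_cases hYX : Y ≤ X
      · exact (Submodule.eq_of_le_of_finrank_eq hYX (by omega)) ▸ hX
      obtain ⟨v, hvY, hvX⟩ := SetLike.not_le_iff_exists.1 hYX
      have hlt : finrank F ↥(X ⊓ Y) < finrank F X := by
        refine Submodule.finrank_lt_finrank_of_lt (lt_of_le_of_ne inf_le_left fun h => hYX ?_)
        exact (Submodule.eq_of_le_of_finrank_eq (h ▸ inf_le_right) (by omega)).ge
      obtain ⟨u, huX, huI⟩ := SetLike.exists_of_lt
        (lt_of_le_of_ne (inf_le_left : X ⊓ Y ≤ X) (fun h => by rw [h] at hlt; omega))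
      obtain ⟨c, hcu, hcI⟩ := exists_dot (X ⊓ Y) huI
      set D : Submodule F (ι → F) := X ⊓ (dotProductEquiv F ι c).ker with hDdef
      have hDmem : ∀ y, y ∈ D ↔ y ∈ X ∧ c ⬝ᵥ y = 0 := fun y => Iff.rfl
      have huD : u ∉ D := fun h => by rw [hDmem, hcu] at h; exact one_ne_zero h.2
      have hDX : D ⊔ F ∙ u = X := by
        apply le_antisymm (sup_le inf_le_left ((Submodule.span_singleton_le_iff_mem _ _).2 huX))
        intro y hy
        rw [Submodule.mem_sup]
        refine ⟨y - (c ⬝ᵥ y) • u, (hDmem _).2 ⟨X.sub_mem hy (X.smul_mem _ huX), ?_⟩,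
          (c ⬝ᵥ y) • u, Submodule.smul_mem _ _ (Submodule.mem_span_singleton_self _),
          sub_add_cancel _ _⟩
        rw [dotProduct_sub, dotProduct_smul, hcu, smul_eq_mul, mul_one, sub_self]
      have hDd : finrank F D + 1 = finrank F W := by
        rw [← hXd]; exact (finrank_hyper huD hDX).symm
      refine ih _ (adj X hX D v inf_le_left hDd hvX) Y hY ?_
      have hle : (X ⊓ Y) ⊔ F ∙ v ≤ (D ⊔ F ∙ v) ⊓ Y := by
        refine le_inf (sup_le_sup_right ?_ _)
          (sup_le inf_le_right ((Submodule.span_singleton_le_iff_mem _ _).2 hvY))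
        exact fun y hy => (hDmem y).2 ⟨hy.1, hcI y hy⟩
      have h1 := Submodule.finrank_mono hle
      have h2 : finrank F ↥((X ⊓ Y) ⊔ F ∙ v) = finrank F ↥(X ⊓ Y) + 1 :=
        finrank_hyper (fun h => hvX h.1) rfl
      omega
  apply le_antisymm hMsl
  intro g hg
  obtain ⟨g', hg', he⟩ : im g W ∈ O :=
    key (finrank F W) W ⟨1, M.one_mem, im_one W⟩ _ (finrank_im g W) (Nat.sub_le _ _)
  have h : g'⁻¹ * g ∈ M := hM ⟨mem_stab_iff.2 (by rw [im_mul, ← he, im_inv_im]),
    Subgroup.mul_mem _ (Subgroup.inv_mem _ (hMsl hg')) hg⟩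
  simpa using M.mul_mem hg' h

theorem isMaximalIn_stab {W : Submodule F (ι → F)} (h0 : W ≠ ⊥) (h1 : W ≠ ⊤) :
    Cfsg.Geo.IsMaximalIn (Cfsg.Geo.specialLinear ι F)
      (Cfsg.Geo.subspaceStabilizer W ⊓ Cfsg.Geo.specialLinear ι F) := by
  obtain ⟨g, hg, hgW⟩ := proper h0 h1
  refine ⟨lt_of_le_of_ne inf_le_right fun h => hgW ?_, fun M hle hMsl => ?_⟩
  · exact (h.symm ▸ hg : g ∈ Cfsg.Geo.subspaceStabilizer W ⊓ Cfsg.Geo.specialLinear ι F).1
  by_cases hM : M ≤ Cfsg.Geo.subspaceStabilizer W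
  · exact Or.inl (le_antisymm (le_inf hM hMsl) hle)
  · obtain ⟨m, hm, hmW⟩ := SetLike.not_le_iff_exists.1 hM
    exact Or.inr (maximal hle hMsl hm fun h => hmW (mem_stab_iff.2 h))

end Cfsg.Agent.SubspaceStab
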