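import Mathlib

/-!
A group of F-linear maps of a K-space containing the determinant one K-semilinear maps and one map not
preserving K-lines contains every F-transvection (K/F finite fields of prime degree, dimension over K at least 2).
-/

set_option autoImplicit false
set_option linter.unusedSectionVars false

namespace Cfsg.Agent.ExtFieldMax

open Module

variable {F K V : Type*} [Field F] [Fintype F] [Field K] [Fintype K] [Algebra F K]
  [AddCommGroup V] [Module F V] [Module K V] [IsScalarTower F K V] [FiniteDimensional K V]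

variable (K) in
/-- The ambient hypotheses on the group. -/
structure Hyp (M : Subgroup (V ≃ₗ[F] V)) : Prop where
  prime : (finrank F K).Prime
  dim : 2 ≤ finrank K V
  lin : ∀ (φ : V →ₗ[K] K) (u : V) (g : V ≃ₗ[F] V), Algebra.norm F (1 + φ u) = 1 →
    (∀ x, g x = x + φ x • u) → g ∈ M
  semi : ∀ (g : V ≃ₗ[F] V) (σ : K ≃ₐ[F] K), (∀ (c : K) (x : V), g (c • x) = σ c • g x) →
    Fintype.card F = 2 → g ∈ M
  move : ∃ g ∈ M, ∃ (v : V) (c : K), ∀ d : K, g (c • v) ≠ d • g v

variable {M : Subgroup (V ≃ₗ[F] V)}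

/-- `1 + χ(·) x` lies in `M`. -/
def Tv (M : Subgroup (V ≃ₗ[F] V)) (χ : V →ₗ[F] F) (x : V) : Prop :=
  ∃ g ∈ M, ∀ y, g y = y + χ y • x

theorem mul_apply' (g h : V ≃ₗ[F] V) (x : V) : (g * h) x = g (h x) := rfl

theorem inv_apply' (g : V ≃ₗ[F] V) (x : V) : g⁻¹ (g x) = x := g.symm_apply_apply x

theorem apply_inv' (g : V ≃ₗ[F] V) (x : V) : g (g⁻¹ x) = x := g.apply_symm_apply x

theorem Hyp.exists_T (hM : Hyp K M) (φ : V →ₗ[K] K) (u : V) (h : Algebra.norm F (1 + φ u) = 1) :
    ∃ g ∈ M, ∀ x, g x = x + φ x • u := by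
  haveI : Finite V := Module.finite_of_finite K
  have hne : 1 + φ u ≠ 0 := fun h0 => by simp [h0] at h
  let f : V →ₗ[F] V := (LinearMap.transvection φ u).restrictScalars F
  have hf : ∀ x, f x = x + φ x • u := fun x => rfl
  have hinj : Function.Injective f := by
    rw [injective_iff_map_eq_zero]
    intro x hx
    rw [hf] at hx
    have h1 := congrArg φ hx
    rw [map_add, map_smul, smul_eq_mul, map_zero, ← mul_one_add] at h1
    rcases mul_eq_zero.1 h1 with h2 | h2
    · simpa [h2] using hx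
    · exact absurd h2 hne
  exact ⟨LinearEquiv.ofBijective f (Finite.injective_iff_bijective.1 hinj),
    hM.lin φ u _ h fun x => rfl, fun x => rfl⟩

theorem Hyp.exists_T0 (hM : Hyp K M) (φ : V →ₗ[K] K) (u : V) (h : φ u = 0) :
    ∃ g ∈ M, ∀ x, g x = x + φ x • u :=
  hM.exists_T φ u (by rw [h, add_zero, map_one])

/-- The commutator of two square zero unipotent maps. -/
theorem exists_comm {g h : V ≃ₗ[F] V} (hg : g ∈ M) (hh : h ∈ M) (a b : V →ₗ[F] V)
    (ga : ∀ x, g x = x + a x) (hb : ∀ x, h x = x + b x)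
    (haa : ∀ x, a (a x) = 0) (hbb : ∀ x, b (b x) = 0) (haba : ∀ x, a (b (a x)) = 0) :
    ∃ k ∈ M, ∀ x, k x = x + (a (b x) - b (a x) + b (a (b x))) := by
  have gi : ∀ x, g⁻¹ x = x - a x := fun x => by
    apply g.injective
    rw [apply_inv', ga, map_sub, haa]; abel
  have hi : ∀ x, h⁻¹ x = x - b x := fun x => by
    apply h.injective
    rw [apply_inv', hb, map_sub, hbb]; abel
  refine ⟨g * h * g⁻¹ * h⁻¹, mul_mem (mul_mem (mul_mem hg hh) (inv_mem hg)) (inv_mem hh), fun x => ?_⟩
  rw [mul_apply', mul_apply', mul_apply', hi, gi, hb, ga]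
  simp only [map_add, map_sub, haa, hbb, haba, map_zero]
  abel

theorem Tv.conj {χ χ' : V →ₗ[F] F} {x : V} (ht : Tv M χ x) {h : V ≃ₗ[F] V} (hh : h ∈ M)
    (hχ : ∀ y, χ' (h y) = χ y) : Tv M χ' (h x) := by
  obtain ⟨t, htM, ht⟩ := ht
  refine ⟨h * t * h⁻¹, mul_mem (mul_mem hh htM) (inv_mem hh), fun y => ?_⟩
  rw [mul_apply', mul_apply', ht, map_add, map_smul, apply_inv', ← hχ, apply_inv']

theorem Tv.add {χ : V →ₗ[F] F} {x y : V} (hy : χ y = 0) (h1 : Tv M χ x) (h2 : Tv M χ y) :
    Tv M χ (x + y) := by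
  obtain ⟨s, hs, hsx⟩ := h1
  obtain ⟨t, ht, hty⟩ := h2
  refine ⟨s * t, mul_mem hs ht, fun z => ?_⟩
  rw [mul_apply', hty, hsx, map_add, map_smul, hy, smul_zero, add_zero, smul_add]; abel

theorem Tv.zero (χ : V →ₗ[F] F) : Tv M χ 0 := ⟨1, one_mem M, fun y => by simp⟩

/-! ### Norm one elements -/

theorem exists_dual_one {W : Type*} [AddCommGroup W] [Module K W] (p : Submodule K W) {z : W} (hz : z ∉ p) :
    ∃ φ : W →ₗ[K] K, φ z = 1 ∧ ∀ x ∈ p, φ x = 0 := by
  obtain ⟨φ, hφ, hp⟩ := Submodule.exists_dual_map_eq_bot_of_notMem hz inferInstance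
  refine ⟨(φ z)⁻¹ • φ, by simp [inv_mul_cancel₀ hφ], fun x hx => ?_⟩
  have : φ x ∈ p.map φ := Submodule.mem_map_of_mem hx
  rw [hp, Submodule.mem_bot] at this
  simp [this]

/-- A subset closed under the ring operations and containing the norm one elements is everything. -/
theorem norm_one_generate (hr : 2 ≤ finrank F K) (S : Subring K)
    (hS : ∀ c : K, Algebra.norm F c = 1 → c ∈ S) : S = ⊤ := by
  classical
  by_contra hne
  have hinv : ∀ x ∈ S, x⁻¹ ∈ S := by
    intro x hx
    by_cases h0 : x = 0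
    · simp [h0]
    have h1 : x⁻¹ = x ^ (Fintype.card K - 2) := by
      apply inv_eq_of_mul_eq_one_right
      rw [← pow_succ', show Fintype.card K - 2 + 1 = Fintype.card K - 1 by
        have := Fintype.one_lt_card (α := K); omega]
      exact FiniteField.pow_card_sub_one_eq_one x h0
    rw [h1]; exact pow_mem hx _
  let S' : Subfield K := { S with inv_mem' := hinv }
  have hd : 2 ≤ finrank S' K := by
    by_contra hlt
    push Not at hlt
    have h1 : finrank S' K = 1 := by
      have : 0 < finrank S' K := Module.finrank_pos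
      omega
    apply hne
    have hc := Module.natCard_eq_pow_finrank (K := S') (V := K)
    rw [h1, pow_one] at hc
    rw [eq_top_iff]
    intro x _
    have hsurj : Function.Surjective (Subtype.val : S' → K) :=
      ((Nat.bijective_iff_injective_and_card _).2 ⟨Subtype.val_injective, hc.symm⟩).2
    obtain ⟨y, rfl⟩ := hsurj x
    exact y.2
  -- counting
  let N : Kˣ →* Fˣ := Units.map (Algebra.norm F : K →* F)
  have hsurj : Function.Surjective N := FiniteField.unitsMap_norm_surjective F K
  have hker : Nat.card N.ker * (Nat.card F - 1) = Nat.card K - 1 := by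
    rw [← Nat.card_units F, ← Nat.card_units K,
      ← Nat.card_congr (QuotientGroup.quotientKerEquivOfSurjective N hsurj).toEquiv, mul_comm]
    exact (Subgroup.card_eq_card_quotient_mul_card_subgroup _).symm
  have hle : Nat.card N.ker < Nat.card S' := by
    let f : Option N.ker → S' := fun o => o.elim 0 (fun u => ⟨((u : Kˣ) : K), hS _ (by
      have := u.2
      rw [MonoidHom.mem_ker, Units.ext_iff] at this
      exact this)⟩)
    have hf : Function.Injective f := by
      rintro (_ | u) (_ | w) h <;> have h' := congrArg Subtype.val h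
      · rfl
      · exact absurd h'.symm (w : Kˣ).ne_zero
      · exact absurd h' (u : Kˣ).ne_zero
      · exact congrArg some (Subtype.ext (Units.ext h'))
    have := Nat.card_le_card_of_injective f hf
    rw [Finite.card_option] at this
    omega
  have hK : Nat.card K = Nat.card F ^ finrank F K := Module.natCard_eq_pow_finrank
  have hK' : Nat.card K = Nat.card S' ^ finrank S' K := Module.natCard_eq_pow_finrank
  have hF : 2 ≤ Nat.card F := Finite.one_lt_card
  have hS1 : 1 ≤ Nat.card S' := Nat.card_pos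
  obtain ⟨j, hj⟩ : ∃ j, finrank F K = j + 2 := ⟨finrank F K - 2, by omega⟩
  set q := Nat.card F
  have h1 : q ^ (j + 1) < Nat.card S' := by
    have h2 : q ^ (j + 1) * (q - 1) < q ^ (j + 2) - 1 + 1 := by
      have : 0 < q ^ (j + 1) := by positivity
      rw [Nat.sub_add_cancel (Nat.one_le_pow _ _ (by omega)), pow_succ q (j + 1)]
      exact Nat.mul_lt_mul_of_pos_left (by omega) this
    rw [hj] at hK
    rw [hK] at hker
    have h3 : q ^ (j + 1) * (q - 1) ≤ Nat.card N.ker * (q - 1) := by rw [hker]; omega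
    exact lt_of_le_of_lt (Nat.le_of_mul_le_mul_right h3 (by omega)) hle
  have h4 : Nat.card S' ^ 2 ≤ Nat.card K := by rw [hK']; exact Nat.pow_le_pow_right hS1 hd
  have h5 : q ^ (2 * (j + 1)) < Nat.card S' ^ 2 := by
    rw [mul_comm 2, pow_mul]; exact Nat.pow_lt_pow_left h1 (by norm_num)
  have h6 : q ^ (j + 2) ≤ q ^ (2 * (j + 1)) := Nat.pow_le_pow_right (by omega) (by omega)
  rw [hK, hj] at h4
  omega

/-- An additive subgroup of `K` closed under norm one multipliers is closed under all. -/
theorem smul_closed_of_norm_one {A : Type*} [AddCommGroup A] [Module K A] (hr : 2 ≤ finrank F K)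
    (U : AddSubgroup A) (hU : ∀ c : K, Algebra.norm F c = 1 → ∀ u ∈ U, c • u ∈ U) :
    ∀ c : K, ∀ u ∈ U, c • u ∈ U := by
  let S : Subring K :=
    { carrier := {c | ∀ u ∈ U, c • u ∈ U}
      mul_mem' := fun {a b} ha hb u hu => by rw [mul_smul]; exact ha _ (hb u hu)
      one_mem' := fun u hu => by rwa [one_smul]
      add_mem' := fun {a b} ha hb u hu => by rw [add_smul]; exact add_mem (ha u hu) (hb u hu)
      zero_mem' := fun u hu => by rw [zero_smul]; exact zero_mem U
      neg_mem' := fun {a} ha u hu => by rw [neg_smul]; exact neg_mem (ha u hu) }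
  have := norm_one_generate hr S hU
  intro c
  exact (this.symm ▸ Subring.mem_top c : c ∈ S)

theorem exists_transitive (hM : Hyp K M) {a b : V} (ha : a ≠ 0) (hb : b ≠ 0) :
    ∃ h ∈ M, h a = b ∧ ∀ (c : K) x, h (c • x) = c • h x := by
  have key : ∀ {a b : V}, b ∉ Submodule.span K {a} → a ≠ 0 →
      ∃ h ∈ M, h a = b ∧ ∀ (c : K) x, h (c • x) = c • h x := by
    intro a b hab ha
    have hna : a ∉ Submodule.span K {b - a} := by
      intro h
      obtain ⟨c, hc⟩ := Submodule.mem_span_singleton.1 h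
      rw [Submodule.mem_span_singleton] at hab
      by_cases h0 : c = 0
      · rw [h0, zero_smul] at hc; exact ha hc.symm
      · apply hab
        refine ⟨c⁻¹ + 1, ?_⟩
        have : b - a = c⁻¹ • a := by
          calc b - a = c⁻¹ • (c • (b - a)) := by rw [inv_smul_smul₀ h0]
            _ = c⁻¹ • a := by rw [hc]
        rw [add_smul, one_smul, ← this, sub_add_cancel]
    obtain ⟨φ, h1, h0⟩ := exists_dual_one _ hna
    obtain ⟨g, hg, hgx⟩ := hM.exists_T0 φ (b - a) (h0 _ (Submodule.mem_span_singleton_self _))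
    refine ⟨g, hg, by rw [hgx, h1, one_smul, add_sub_cancel], fun c x => ?_⟩
    rw [hgx, hgx, map_smul, smul_eq_mul, mul_smul, smul_add]
  by_cases hab : b ∈ Submodule.span K {a}
  · obtain ⟨w, -, hw⟩ := SetLike.exists_of_lt
      (show Submodule.span K {a} < ⊤ from lt_top_iff_ne_top.2 fun h => by
        have h1 := finrank_span_singleton (K := K) ha
        rw [h, finrank_top] at h1
        have := hM.dim
        omega)
    obtain ⟨h1, hh1, e1, l1⟩ := key hw ha
    have hw0 : w ≠ 0 := fun h => hw (h ▸ zero_mem _)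
    have hbw : b ∉ Submodule.span K {w} := by
      intro h
      obtain ⟨c, hc⟩ := Submodule.mem_span_singleton.1 h
      obtain ⟨d, hd⟩ := Submodule.mem_span_singleton.1 hab
      have hc0 : c ≠ 0 := fun h0 => hb (by rw [← hc, h0, zero_smul])
      exact hw (Submodule.mem_span_singleton.2 ⟨c⁻¹ * d, by rw [mul_smul, hd, ← hc, inv_smul_smul₀ hc0]⟩)
    obtain ⟨h2, hh2, e2, l2⟩ := key hbw hw0
    exact ⟨h2 * h1, mul_mem hh2 hh1, by rw [mul_apply', e1, e2],
      fun c x => by rw [mul_apply', mul_apply', l1, l2]⟩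
  · exact key hab ha

/-! ### An element meeting a line in a hyperplane of it -/

/-- `M` has an element fixing `D • v` and moving the line of `v`. -/
def Moves (M : Subgroup (V ≃ₗ[F] V)) (v : V) (D : Submodule F K) : Prop :=
  ∃ g ∈ M, (∀ d ∈ D, g (d • v) = d • v) ∧ ∃ c : K, ∀ e : K, g (c • v) ≠ e • v

theorem moves_base (hM : Hyp K M) : ∃ v : V, v ≠ 0 ∧ Moves M v (F ∙ (1 : K)) := by
  obtain ⟨g, hg, v, c, hgc⟩ := hM.move
  have hv : v ≠ 0 := fun h => hgc 0 (by simp [h])
  have hgv : g v ≠ 0 := (map_ne_zero_iff _ g.injective).2 hv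
  obtain ⟨h, hh, he, hl⟩ := exists_transitive hM hgv hv
  refine ⟨v, hv, h * g, mul_mem hh hg, fun d hd => ?_, c, fun e he' => ?_⟩
  · obtain ⟨s, rfl⟩ := Submodule.mem_span_singleton.1 hd
    rw [smul_assoc, one_smul, mul_apply', map_smul, map_smul, he]
  · apply hgc e
    apply h.injective
    rw [mul_apply'] at he'
    rw [he', hl, he]

theorem moves_step (hM : Hyp K M) {v : V} (hv : v ≠ 0) (D : Submodule F K) (h1 : (1 : K) ∈ D)
    (hD : finrank F D + 2 ≤ finrank F K) (hmv : Moves M v D) :
    ∃ c : K, c ∉ D ∧ Moves M v (D ⊔ F ∙ c) := by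
  classical
  have hinjv : Function.Injective (fun c : K => c • v) := smul_left_injective K hv
  obtain ⟨g, hg, hgD, c₀, hc₀⟩ := hmv
  by_contra hcon
  push Not at hcon
  have hkey : ∀ y : K, y ∉ D → ∀ k ∈ M, (∀ d ∈ D, k (d • v) = d • v) → k (y • v) = y • v →
      ∀ e : K, ∃ d : K, k (e • v) = d • v := by
    intro y hy k hk hkD hky e
    by_contra hne
    push Not at hne
    refine hcon y hy ⟨k, hk, fun d hd => ?_, e, hne⟩
    obtain ⟨d', hd', s, hs, rfl⟩ := Submodule.mem_sup.1 hd
    obtain ⟨t, rfl⟩ := Submodule.mem_span_singleton.1 hs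
    rw [add_smul, map_add, hkD _ hd', smul_assoc, map_smul, hky]
  have claim : ∀ h ∈ M, (∀ d ∈ D, h (d • v) = d • v) → ∀ y : K, y ∉ D → ∀ y' : K,
      h (y • v) = y' • v → ∀ e : K, ∃ d : K, h (e • v) = d • v := by
    intro h hh hhD y hy y' hyy e
    by_contra hne
    push Not at hne
    have hz : h (e • v) ∉ Submodule.span K {v} := fun h' => by
      obtain ⟨d, hd⟩ := Submodule.mem_span_singleton.1 h'
      exact hne d hd.symm
    obtain ⟨φ, hφ1, hφ0⟩ := exists_dual_one _ hz
    have hφv : φ v = 0 := hφ0 v (Submodule.mem_span_singleton_self v)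
    -- every point of the line is hit
    have hback : ∀ l : K, ∃ m : K, h (m • v) = l • v := by
      intro l
      obtain ⟨t, ht, htx⟩ := hM.exists_T0 φ (l • v) (by rw [map_smul, hφv, smul_zero])
      have hfix : ∀ p : K, t (p • v) = p • v := fun p => by
        rw [htx, map_smul, hφv, smul_zero, zero_smul, add_zero]
      obtain ⟨d, hd⟩ := hkey y hy (h⁻¹ * t * h) (mul_mem (mul_mem (inv_mem hh) ht) hh)
        (fun d hd => by
          rw [mul_apply', mul_apply', hhD d hd, hfix]
          conv_lhs => rw [← hhD d hd, inv_apply'])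
        (by rw [mul_apply', mul_apply', hyy, hfix, ← hyy, inv_apply']) e
      rw [mul_apply', mul_apply'] at hd
      have := congrArg h hd
      rw [apply_inv', htx, hφ1, one_smul] at this
      exact ⟨d - e, by rw [sub_smul, map_sub, ← this, add_sub_cancel_left]⟩
    choose f hf using hback
    have hfinj : Function.Injective f := fun l l' hll => hinjv (by
      show l • v = l' • v
      rw [← hf l, ← hf l', hll])
    obtain ⟨l, hl⟩ := (Finite.injective_iff_surjective.1 hfinj) e
    exact hne l (hl ▸ hf l)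
  have hc₀D : c₀ ∉ D := fun h => hc₀ c₀ (hgD _ h)
  have hzv : g (c₀ • v) ∉ Submodule.span K {v} := fun h => by
    obtain ⟨e, he⟩ := Submodule.mem_span_singleton.1 h
    exact hc₀ e he.symm
  obtain ⟨φ, hφ1, hφ0⟩ := exists_dual_one _ hzv
  have hφv : φ v = 0 := hφ0 v (Submodule.mem_span_singleton_self v)
  -- the translation argument
  have htrans : ∀ (l : K) (y : K), y ∉ D → (∃ y', φ (g (y • v)) * l = y' ∧ y' ∈ D) → l ∈ D := by
    rintro l y hy ⟨y', hy', hy'D⟩
    obtain ⟨t, ht, htx⟩ := hM.exists_T0 φ (l • v) (by rw [map_smul, hφv, smul_zero])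
    have hfix : ∀ p : K, t (p • v) = p • v := fun p => by
      rw [htx, map_smul, hφv, smul_zero, zero_smul, add_zero]
    have hmap : (g⁻¹ * t * g) (y • v) = (y + y') • v := by
      rw [mul_apply', mul_apply']
      apply g.injective
      rw [apply_inv', htx, add_smul, map_add, hgD y' hy'D, smul_smul, hy']
    obtain ⟨d, hd⟩ := claim (g⁻¹ * t * g) (mul_mem (mul_mem (inv_mem hg) ht) hg)
      (fun d hd => by
        rw [mul_apply', mul_apply', hgD d hd, hfix]
        conv_lhs => rw [← hgD d hd, inv_apply'])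
      y hy (y + y') hmap c₀
    rw [mul_apply', mul_apply'] at hd
    have h2 := congrArg g hd
    rw [apply_inv', htx, hφ1, one_smul] at h2
    have h3 : g ((d - c₀) • v) = l • v := by
      rw [sub_smul, map_sub, ← h2, add_sub_cancel_left]
    by_cases hdD : d - c₀ ∈ D
    · rw [hgD _ hdD] at h3
      exact hinjv h3 ▸ hdD
    · obtain ⟨e, he⟩ := claim g hg hgD _ hdD l h3 c₀
      exact absurd he (hc₀ e)
  have hker : ∀ y : K, φ (g (y • v)) = 0 → y ∈ D := by
    intro y hy
    by_contra hyD
    obtain ⟨l, -, hl⟩ := SetLike.exists_of_lt (show D < ⊤ from lt_top_iff_ne_top.2 fun h => by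
      rw [h, finrank_top] at hD; omega)
    exact hl (htrans l y hyD ⟨0, by rw [hy, zero_mul], zero_mem D⟩)
  obtain ⟨y, hyF⟩ : ∃ y : K, φ (g (y • v)) ∉ (⊥ : Subalgebra F K) := by
    by_contra hall
    push Not at hall
    have htop : (⊤ : Submodule F K) ≤ D ⊔ F ∙ c₀ := by
      intro y _
      obtain ⟨s, hs⟩ := Algebra.mem_bot.1 (hall y)
      have e1 : g ((s • c₀) • v) = algebraMap F K s • g (c₀ • v) := by
        rw [smul_assoc, LinearEquiv.map_smul, algebraMap_smul]
      have : y - s • c₀ ∈ D := hker _ (by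
        rw [sub_smul, map_sub, map_sub, ← hs, e1, map_smul, hφ1, smul_eq_mul, mul_one, sub_self])
      rw [← sub_add_cancel y (s • c₀)]
      exact Submodule.add_mem_sup this (Submodule.mem_span_singleton.2 ⟨s, rfl⟩)
    have h2 := Submodule.finrank_mono htop
    rw [finrank_top] at h2
    have h3 := Submodule.finrank_add_le_finrank_add_finrank D (F ∙ c₀)
    have h4 : finrank F (F ∙ c₀) = 1 := finrank_span_singleton (fun h => hc₀D (h ▸ zero_mem D))
    omega
  set t := φ (g (y • v)) with ht
  have ht0 : t ≠ 0 := fun h => hyF (h ▸ zero_mem _)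
  have hyD : y ∉ D := fun h => ht0 (by rw [ht, hgD y h, map_smul, hφv, smul_zero])
  have hstab : ∀ d ∈ D, t * d ∈ D := by
    have hsub : ∀ l, t * l ∈ D → l ∈ D := fun l hl => htrans l y hyD ⟨_, rfl, hl⟩
    let f : D →ₗ[F] D :=
      { toFun := fun d => ⟨t⁻¹ * d, hsub _ (by rw [mul_inv_cancel_left₀ ht0]; exact d.2)⟩
        map_add' := fun a b => Subtype.ext (mul_add _ _ _)
        map_smul' := fun s a => Subtype.ext (mul_smul_comm _ _ _) }
    have hf : Function.Injective f := fun a b hab =>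
      Subtype.ext (mul_left_cancel₀ (inv_ne_zero ht0) (congrArg Subtype.val hab))
    intro d hd
    obtain ⟨d', hd'⟩ := (Finite.injective_iff_surjective.1 hf) ⟨d, hd⟩
    have : t⁻¹ * (d' : K) = d := congrArg Subtype.val hd'
    rw [← this, mul_inv_cancel_left₀ ht0]
    exact d'.2
  let S : Subalgebra F K :=
    { carrier := {a | ∀ d ∈ D, a * d ∈ D}
      mul_mem' := fun {a b} ha hb d hd => by rw [mul_assoc]; exact ha _ (hb d hd)
      one_mem' := fun d hd => by rwa [one_mul]
      add_mem' := fun {a b} ha hb d hd => by rw [add_mul]; exact add_mem (ha d hd) (hb d hd)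
      zero_mem' := fun d _ => by rw [zero_mul]; exact zero_mem D
      algebraMap_mem' := fun s d hd => by rw [← Algebra.smul_def]; exact D.smul_mem s hd }
  haveI := Subalgebra.isSimpleOrder_of_finrank_prime F K hM.prime
  rcases eq_bot_or_eq_top S with h | h
  · exact hyF (h ▸ (hstab : t ∈ S))
  · have : D = ⊤ := eq_top_iff.2 fun x _ => by
      have hx : x ∈ S := h ▸ Algebra.mem_top
      simpa using hx 1 h1
    rw [this, finrank_top] at hD
    omega

/-- The configuration reached by the induction. -/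
structure Config (M : Subgroup (V ≃ₗ[F] V)) (v : V) (lam : K →ₗ[F] F) (g : V ≃ₗ[F] V) : Prop where
  mem : g ∈ M
  one : lam 1 = 1
  fix : ∀ d : K, lam d = 0 → g (d • v) = d • v
  moved : ∀ c : K, g v ≠ c • v

theorem exists_config (hM : Hyp K M) : ∃ (v : V) (lam : K →ₗ[F] F) (g : V ≃ₗ[F] V), Config M v lam g := by
  obtain ⟨v₀, hv₀, hbase⟩ := moves_base hM
  have hr := hM.prime.two_le
  have hk : ∀ k, k + 2 ≤ finrank F K →
      ∃ D : Submodule F K, (1 : K) ∈ D ∧ finrank F D = k + 1 ∧ Moves M v₀ D := by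
    intro k
    induction k with
    | zero =>
      exact fun _ => ⟨_, Submodule.mem_span_singleton_self 1, finrank_span_singleton one_ne_zero, hbase⟩
    | succ k ih =>
      intro hk
      obtain ⟨D, h1, hd, hm⟩ := ih (by omega)
      obtain ⟨c, hc, hm'⟩ := moves_step hM hv₀ D h1 (by omega) hm
      refine ⟨_, Submodule.mem_sup_left h1, ?_, hm'⟩
      have h2 := Submodule.finrank_sup_add_finrank_inf_eq D (F ∙ c)
      have hc0 : c ≠ 0 := fun h => hc (h ▸ zero_mem D)
      have h3 : D ⊓ F ∙ c = ⊥ := by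
        rw [eq_bot_iff]
        rintro x ⟨hx, hx'⟩
        obtain ⟨s, rfl⟩ := Submodule.mem_span_singleton.1 hx'
        by_cases hs : s = 0
        · simp [hs]
        · exact absurd ((Submodule.smul_mem_iff _ hs).1 hx) hc
      rw [h3, finrank_bot, finrank_span_singleton hc0, hd] at h2
      omega
  obtain ⟨D, -, hd, g, hg, hgD, c, hc⟩ := hk (finrank F K - 2) (by omega)
  have hcD : c ∉ D := fun h => hc c (hgD c h)
  have hc0 : c ≠ 0 := fun h => hcD (h ▸ zero_mem D)
  obtain ⟨ψ, hψc, hψD⟩ := exists_dual_one D hcD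
  let lam : K →ₗ[F] F := ψ.comp (LinearMap.mulRight F c)
  refine ⟨c • v₀, lam, g, hg, by simp [lam, hψc], fun d hd0 => ?_, fun e he => ?_⟩
  · have hker : LinearMap.ker ψ = D := by
      symm
      refine Submodule.eq_of_le_of_finrank_le (fun x hx => LinearMap.mem_ker.2 (hψD x hx)) ?_
      have h1 := LinearMap.finrank_range_add_finrank_ker ψ
      have h2 : finrank F (LinearMap.range ψ) = 1 := by
        rw [LinearMap.range_eq_top.2 fun s => ⟨s • c, by rw [map_smul, hψc, smul_eq_mul, mul_one]⟩,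
          finrank_top, finrank_self]
      omega
    rw [smul_smul]
    apply hgD
    rw [← hker]
    exact LinearMap.mem_ker.2 (by simpa [lam] using hd0)
  · exact hc (e * c) (by rw [he, mul_smul])

variable {v : V} {lam : K →ₗ[F] F} {g : V ≃ₗ[F] V}

theorem Config.ne_zero (hC : Config M v lam g) : v ≠ 0 := fun h => hC.moved 0 (by simp [h])

theorem Config.lam_sub (hC : Config M v lam g) (p : K) : lam (p - algebraMap F K (lam p)) = 0 := by
  rw [map_sub, Algebra.algebraMap_eq_smul_one, map_smul, hC.one, smul_eq_mul, mul_one, sub_self]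

theorem Config.g_line (hC : Config M v lam g) (p : K) :
    g (p • v) = (p - algebraMap F K (lam p)) • v + lam p • g v := by
  conv_lhs => rw [← sub_add_cancel p (algebraMap F K (lam p)), add_smul, map_add, hC.fix _ (hC.lam_sub p),
    algebraMap_smul, map_smul]

theorem Config.inv_line (hC : Config M v lam g) (p : K) :
    g⁻¹ (p • v) = (p - algebraMap F K (lam p)) • v + lam p • g⁻¹ v := by
  apply g.injective
  rw [apply_inv', map_add, hC.fix _ (hC.lam_sub p), map_smul, apply_inv', ← algebraMap_smul K (lam p) v,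
    ← add_smul, sub_add_cancel]

theorem Config.inv_moved (hC : Config M v lam g) (c : K) : g⁻¹ v ≠ c • v := by
  intro h
  have h1 := hC.g_line c
  rw [← h, apply_inv'] at h1
  by_cases hl : lam c = 0
  · rw [hl, map_zero, sub_zero, zero_smul, add_zero] at h1
    have := smul_left_injective K hC.ne_zero ((one_smul K v).trans h1)
    rw [← this, hC.one] at hl
    exact one_ne_zero hl
  · apply hC.moved ((algebraMap F K (lam c))⁻¹ * (1 - (c - algebraMap F K (lam c))))
    rw [mul_smul, sub_smul, one_smul, eq_comm, inv_smul_eq_iff₀ (by simp [hl]), algebraMap_smul]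
    exact sub_eq_of_eq_add' h1

theorem case_big (hM : Hyp K M) (hC : Config M v lam g) (h3 : 3 ≤ finrank K V) :
    ∃ ψ : V →ₗ[F] F, ψ ≠ 0 ∧ (∀ c : K, ψ (c • v) = 0) ∧ ∀ c : K, Tv M ψ (c • v) := by
  classical
  have hz : g v ∉ Submodule.span K {v} := fun h => by
    obtain ⟨c, hc⟩ := Submodule.mem_span_singleton.1 h
    exact hC.moved c hc.symm
  obtain ⟨φ, hφ1, hφ0⟩ := exists_dual_one _ hz
  have hφv : φ v = 0 := hφ0 v (Submodule.mem_span_singleton_self v)
  obtain ⟨w, -, hw⟩ := SetLike.exists_of_lt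
    (show Submodule.span K ({v, g⁻¹ v} : Set V) < ⊤ from lt_top_iff_ne_top.2 fun h => by
      have h1 := finrank_span_finset_le_card (R := K) ({v, g⁻¹ v} : Finset V)
      rw [Finset.coe_pair, Set.finrank, h, finrank_top] at h1
      have h2 : ({v, g⁻¹ v} : Finset V).card ≤ 2 := Finset.card_le_two
      omega)
  obtain ⟨φ', hφ'1, hφ'0⟩ := exists_dual_one _ hw
  have h'v : φ' v = 0 := hφ'0 v (Submodule.subset_span (by simp))
  have h'g : φ' (g⁻¹ v) = 0 := hφ'0 _ (Submodule.subset_span (by simp))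
  let ρ : V →ₗ[F] K := (φ'.restrictScalars F).comp (g⁻¹ : V ≃ₗ[F] V).toLinearMap
  have hρ : ∀ c : K, ρ (c • v) = 0 := fun c => by
    show φ' (g⁻¹ (c • v)) = 0
    rw [hC.inv_line, map_add, map_smul, h'v, ← algebraMap_smul K (lam c) (g⁻¹ v), map_smul, h'g]
    simp
  let ψ : V →ₗ[F] F := lam.comp ρ
  refine ⟨ψ, fun h => ?_, fun c => by show lam (ρ (c • v)) = 0; rw [hρ, map_zero], fun c => ?_⟩
  · have := LinearMap.congr_fun h (g w)
    change lam (φ' (g⁻¹ (g w))) = 0 at this
    rw [inv_apply', hφ'1, hC.one] at this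
    exact one_ne_zero this
  obtain ⟨tb, htb, htbx⟩ := hM.exists_T0 φ' v h'v
  obtain ⟨ta, hta, htax⟩ := hM.exists_T0 φ (c • v) (by rw [map_smul, hφv, smul_zero])
  let b : V →ₗ[F] V := g.toLinearMap.comp ((LinearMap.toSpanSingleton K V v).restrictScalars F |>.comp ρ)
  let a : V →ₗ[F] V := (((LinearMap.toSpanSingleton K V (c • v)).comp φ).restrictScalars F)
  have hb : ∀ x, b x = g (ρ x • v) := fun x => rfl
  have ha : ∀ x, a x = φ x • (c • v) := fun x => rfl
  have hab : ∀ x, a (b x) = ψ x • (c • v) := fun x => by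
    rw [ha, hb, hC.g_line, map_add, map_smul, hφv, smul_zero, zero_add,
      ← algebraMap_smul K (lam (ρ x)) (g v), map_smul, hφ1, smul_eq_mul, mul_one, algebraMap_smul]
    rfl
  have hba : ∀ x, b (a x) = 0 := fun x => by
    rw [hb, ha, smul_smul, hρ, zero_smul, map_zero]
  obtain ⟨k, hk, hkx⟩ := exists_comm (M := M) hta (mul_mem (mul_mem hC.mem htb) (inv_mem hC.mem)) a b htax
    (fun x => by
      rw [mul_apply', mul_apply', htbx, map_add, apply_inv', hb]
      rfl)
    (fun x => by rw [ha, ha, smul_smul (φ x) c v, map_smul, hφv, smul_zero, zero_smul])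
    (fun x => by
      rw [hb, show ρ (b x) = 0 by
        show φ' (g⁻¹ (b x)) = 0
        rw [hb, inv_apply', map_smul, h'v, smul_zero], zero_smul, map_zero])
    (fun x => by rw [hba, map_zero])
  refine ⟨k, hk, fun x => ?_⟩
  rw [hkx, hab, hba, map_smul, show b (c • v) = 0 by rw [hb, hρ, zero_smul, map_zero]]
  simp

/-! ### Dimension two -/

set_option maxHeartbeats 1600000 in
/-- The exceptional case `|F| = 2`, degree two, dimension two over `K`. -/
theorem quarter (hM : Hyp K M) (h2 : finrank F K = 2) (hF : Fintype.card F = 2)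
    (φ pr : V →ₗ[K] K) {z : V} (hφv : φ v = 0) (hφz : φ z = 1) (hprv : pr v = 1) (hprz : pr z = 0)
    (hdec : ∀ x, x = pr x • v + φ x • z) {d : K} (hd1 : lam 1 = 1) (hd0 : lam d = 0) (hdne : d ≠ 0)
    (tb : K → (V ≃ₗ[F] V)) (htb : ∀ u, tb u ∈ M) (ρ : V →ₗ[F] K)
    (htbx : ∀ u x, tb u x = x + ((ρ x * u - algebraMap F K (lam (ρ x * u))) • v +
      algebraMap F K (lam (ρ x * u)) • z))
    (hρv : ρ v = 1) (hρdv : ρ (d • v) = 0) (hρz : ρ z = 0) (hcomm : lam (ρ (d • z) * d) = lam (d * d)) :
    ∃ ψ : V →ₗ[F] F, ψ ≠ 0 ∧ (∀ c : K, ψ (c • v) = 0) ∧ ∃ u : K, u ≠ 0 ∧ Tv M ψ (u • v) := by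
  classical
  have h2F : (2 : F) = 0 := by
    have := FiniteField.cast_card_eq_zero F
    rwa [hF] at this
  have h2K : (2 : K) = 0 := by rw [← map_ofNat (algebraMap F K) 2, h2F, map_zero]
  have h01 : ∀ s : F, s = 0 ∨ s = 1 := fun s => by
    by_contra hs
    push Not at hs
    have h3 : ({0, 1, s} : Finset F).card = 3 := by simp [hs.1.symm, hs.2.symm]
    have := ({0, 1, s} : Finset F).card_le_univ
    omega
  set ι := algebraMap F K with hι
  have hlι : ∀ s : F, lam (ι s) = s := fun s => by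
    rw [hι, Algebra.algebraMap_eq_smul_one, map_smul, hd1, smul_eq_mul, mul_one]
  have hlιd : ∀ s : F, lam (ι s * d) = 0 := fun s => by
    rw [hι, ← Algebra.smul_def, map_smul, hd0, smul_zero]
  have hker : LinearMap.ker lam = F ∙ d := by
    symm
    refine Submodule.eq_of_le_of_finrank_le
      ((Submodule.span_singleton_le_iff_mem _ _).2 (LinearMap.mem_ker.2 hd0)) ?_
    have h1 := LinearMap.finrank_range_add_finrank_ker lam
    rw [LinearMap.range_eq_top.2 fun s => ⟨ι s, hlι s⟩, finrank_top, finrank_self, h2] at h1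
    rw [finrank_span_singleton hdne]
    omega
  have hcoord : ∀ p : K, ∃ s t : F, p = ι s + ι t * d := fun p => by
    have : p - ι (lam p) ∈ LinearMap.ker lam := LinearMap.mem_ker.2 (by rw [map_sub, hlι, sub_self])
    rw [hker] at this
    obtain ⟨t, ht⟩ := Submodule.mem_span_singleton.1 this
    exact ⟨lam p, t, by rw [hι, ← Algebra.smul_def, ht, add_sub_cancel]⟩
  have hdn1 : d ≠ 1 := fun h => by rw [h, hd1] at hd0; exact one_ne_zero hd0
  have hd2 : d * d = 1 + d := by
    obtain ⟨s, t, hst⟩ := hcoord (d * d)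
    rcases h01 s with rfl | rfl <;> rcases h01 t with rfl | rfl <;>
      simp only [map_zero, map_one, zero_mul, one_mul, add_zero, zero_add] at hst
    · exact absurd (mul_eq_zero.1 hst) (by simp [hdne])
    · exact absurd (mul_right_cancel₀ hdne (hst.trans (one_mul d).symm)) hdn1
    · exfalso
      apply hdn1
      have : (d - 1) * (d - 1) = 0 := by linear_combination hst + (1 - d) * h2K
      exact sub_eq_zero.1 (mul_self_eq_zero.1 this)
    · exact hst
  have hlam : ∀ a b : F, lam (ι a + ι b * d) = a := fun a b => by rw [map_add, hlι, hlιd, add_zero]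
  have hnorm : ∀ c : K, c ≠ 0 → Algebra.norm F c = 1 := fun c hc =>
    (h01 _).resolve_left (fun h => hc (Algebra.norm_eq_zero_iff.1 h))
  have hext : ∀ x y : V, pr x = pr y → φ x = φ y → x = y := fun x y h1 h2 => by
    rw [hdec x, hdec y, h1, h2]
  let P : F → F → F → F → V := fun a b c e => (ι a + ι b * d) • v + (ι c + ι e * d) • z
  have hPpr : ∀ a b c e, pr (P a b c e) = ι a + ι b * d := fun a b c e => by simp [P, hprv, hprz]
  have hPφ : ∀ a b c e, φ (P a b c e) = ι c + ι e * d := fun a b c e => by simp [P, hφv, hφz]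
  have hP : ∀ x, ∃ a b c e, x = P a b c e := fun x => by
    obtain ⟨a, b, h1⟩ := hcoord (pr x)
    obtain ⟨c, e, h2⟩ := hcoord (φ x)
    exact ⟨a, b, c, e, hext _ _ (by rw [hPpr, h1]) (by rw [hPφ, h2])⟩
  have hPρ : ∀ a b c e, ρ (P a b c e) = ι a + ι e * ρ (d • z) := fun a b c e => by
    have : P a b c e = a • v + b • (d • v) + (c • z + e • (d • z)) := by
      simp only [P, hι, add_smul, mul_smul, algebraMap_smul]
    rw [this, map_add, map_add, map_add, LinearMap.map_smul, LinearMap.map_smul, LinearMap.map_smul, LinearMap.map_smul,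
      hρv, hρdv, hρz,
      Algebra.smul_def, Algebra.smul_def, Algebra.smul_def, Algebra.smul_def]
    ring
  -- the Frobenius
  let σ := FiniteField.frobeniusAlgEquivOfAlgebraic F K
  have hσ : ∀ x : K, σ x = x * x := fun x => by simp [σ, hF, sq]
  haveI : Finite V := Module.finite_of_finite K
  let S₀ : V →ₗ[F] V :=
    { toFun := fun x => σ (pr x) • v + σ (φ x) • z
      map_add' := fun x y => by simp only [map_add, add_smul]; abel
      map_smul' := fun s x => by
        simp only [RingHom.id_apply, LinearMap.map_smul_of_tower, map_smul, smul_assoc, smul_add] }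
  have hSinj : Function.Injective S₀ := fun x y h => by
    apply hext
    · have := congrArg pr h
      simpa [S₀, hprv, hprz] using this
    · have := congrArg φ h
      simpa [S₀, hφv, hφz] using this
  let S := LinearEquiv.ofBijective S₀ (Finite.injective_iff_bijective.1 hSinj)
  have hS : S ∈ M := hM.semi S σ (fun c x => by
    show σ (pr (c • x)) • v + σ (φ (c • x)) • z = σ c • (σ (pr x) • v + σ (φ x) • z)
    rw [LinearMap.map_smul pr, LinearMap.map_smul φ, smul_eq_mul, smul_eq_mul, map_mul, map_mul, mul_smul,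
      mul_smul, smul_add]) hF
  have hSP : ∀ a b c e, S (P a b c e) = P (a + b) b (c + e) e := fun a b c e => by
    show σ (pr (P a b c e)) • v + σ (φ (P a b c e)) • z = _
    rw [hPpr, hPφ, hσ, hσ]
    simp only [P, map_add]
    have hsq : ∀ s : F, ι s * ι s = ι s := fun s => by
      rcases h01 s with rfl | rfl <;> simp
    congr 2 <;> grind
  have hρcases : ρ (d • z) = d ∨ ρ (d • z) = 1 + d := by
    obtain ⟨s, t, hst⟩ := hcoord (ρ (d • z) * d)
    rw [hst, hlam, hd2, map_add, hd1, hd0, add_zero] at hcomm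
    subst hcomm
    rw [map_one] at hst
    rcases h01 t with rfl | rfl <;> simp only [map_zero, map_one, zero_mul, one_mul, add_zero] at hst
    · right
      apply mul_right_cancel₀ hdne
      rw [hst]; grind
    · left
      apply mul_right_cancel₀ hdne
      rw [hst, hd2]
  obtain ⟨R, hR, hRx⟩ := hM.exists_T φ ((d - 1) • z) (hnorm _ (by
    rw [map_smul, hφz, smul_eq_mul, mul_one, add_sub_cancel]; exact hdne))
  rcases hρcases with hρd | hρd
  · obtain ⟨Lm, hL, hLx⟩ := hM.exists_T pr ((d - 1) • v) (hnorm _ (by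
      rw [map_smul, hprv, smul_eq_mul, mul_one, add_sub_cancel]; exact hdne))
    have hLP : ∀ a b c e, Lm (P a b c e) = P b (a + b) c e := fun a b c e => by
      rw [hLx]
      apply hext <;>
        simp only [map_add, map_smul, hPpr, hPφ, hφv, hprv, smul_eq_mul, mul_zero, mul_one, add_zero]
      grind
    have hTP : ∀ a b c e, tb d (P a b c e) = P a (a + b + e) (c + e) e := fun a b c e => by
      have hl : (ι a + ι e * d) * d = ι e + ι (a + e) * d := by rw [map_add]; grind
      rw [htbx, hPρ, hρd, hl, hlam]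
      apply hext <;>
        simp only [map_add, map_smul, hPpr, hPφ, hφv, hprv, hφz, hprz, smul_eq_mul, mul_zero, mul_one,
          add_zero, zero_add] <;> grind
    refine ⟨(lam.comp (LinearMap.mulRight F d)).comp (φ.restrictScalars F), fun h => ?_, fun c => ?_,
      d, hdne, tb d * S * Lm, mul_mem (mul_mem (htb d) hS) hL, fun x => ?_⟩
    · have := LinearMap.congr_fun h (d • z)
      simp [hφz, hd2, hd1, hd0] at this
    · simp [hφv]
    · obtain ⟨a, b, c, e, rfl⟩ := hP x
      rw [mul_apply', mul_apply', hLP, hSP, hTP]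
      have hψ : lam (φ (P a b c e) * d) = e := by
        rw [hPφ, show (ι c + ι e * d) * d = ι e + ι (c + e) * d by rw [map_add]; grind, hlam]
      show _ = _ + lam (φ (P a b c e) * d) • d • v
      rw [hψ, ← algebraMap_smul K e (d • v)]
      apply hext <;>
        simp only [map_add, map_smul, hPpr, hPφ, hφv, hprv, smul_eq_mul, mul_zero, mul_one, add_zero] <;>
        grind
  · obtain ⟨A, hA, hAx⟩ := hM.exists_T0 φ v hφv
    obtain ⟨B, hB, hBx⟩ := hM.exists_T0 pr z hprz
    have hAP : ∀ a b c e, A (P a b c e) = P (a + c) (b + e) c e := fun a b c e => by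
      rw [hAx]
      apply hext <;>
        simp only [map_add, map_smul, hPpr, hPφ, hφv, hprv, smul_eq_mul, mul_zero, mul_one, add_zero] <;> ring
    have hBP : ∀ a b c e, B (P a b c e) = P a b (c + a) (e + b) := fun a b c e => by
      rw [hBx]
      apply hext <;>
        simp only [map_add, map_smul, hPpr, hPφ, hφz, hprz, smul_eq_mul, mul_zero, mul_one, add_zero] <;> ring
    have hRP : ∀ a b c e, R (P a b c e) = P a b e (c + e) := fun a b c e => by
      rw [hRx]
      apply hext <;>
        simp only [map_add, map_smul, hPpr, hPφ, hφz, hprz, smul_eq_mul, mul_zero, mul_one, add_zero]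
      grind
    have hTP : ∀ a b c e, tb 1 (P a b c e) = P a (b + e) (c + a + e) e := fun a b c e => by
      have hl : ι a + ι e * (1 + d) = ι (a + e) + ι e * d := by rw [map_add]; ring
      rw [htbx, hPρ, hρd, mul_one, hl, hlam]
      apply hext <;>
        simp only [map_add, map_smul, hPpr, hPφ, hφv, hprv, hφz, hprz, smul_eq_mul, mul_zero, mul_one,
          add_zero, zero_add] <;> grind
    have h1d : (1 + d : K) ≠ 0 := fun h => hdn1 (by linear_combination h - h2K)
    refine ⟨(lam.comp (LinearMap.mulRight F (1 + d))).comp (φ.restrictScalars F), fun h => ?_, fun c => ?_,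
      1 + d, h1d, B * tb 1 * R * S * tb 1 * B * A,
      mul_mem (mul_mem (mul_mem (mul_mem (mul_mem (mul_mem hB (htb 1)) hR) hS) (htb 1)) hB) hA, fun x => ?_⟩
    · have := LinearMap.congr_fun h z
      simp [hφz, hd1, hd0] at this
    · simp [hφv]
    · obtain ⟨a, b, c, e, rfl⟩ := hP x
      simp only [mul_apply', hAP, hBP, hTP, hSP, hRP]
      have hψ : lam (φ (P a b c e) * (1 + d)) = c + e := by
        rw [hPφ, show (ι c + ι e * d) * (1 + d) = ι (c + e) + ι c * d by rw [map_add]; grind, hlam]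
      show _ = _ + lam (φ (P a b c e) * (1 + d)) • (1 + d) • v
      rw [hψ, ← algebraMap_smul K (c + e) ((1 + d) • v)]
      apply hext <;>
        simp only [map_add, map_smul, hPpr, hPφ, hφv, hprv, smul_eq_mul, mul_zero, mul_one, add_zero] <;>
        grind

set_option maxHeartbeats 1600000 in
theorem case_two (hM : Hyp K M) (hC : Config M v lam g) (h2 : finrank K V = 2) :
    ∃ ψ : V →ₗ[F] F, ψ ≠ 0 ∧ (∀ c : K, ψ (c • v) = 0) ∧ ∀ c : K, Tv M ψ (c • v) := by
  classical
  have hr := hM.prime.two_le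
  have hv := hC.ne_zero
  have hz : g v ∉ Submodule.span K {v} := fun h => by
    obtain ⟨c, hc⟩ := Submodule.mem_span_singleton.1 h
    exact hC.moved c hc.symm
  have hv' : v ∉ Submodule.span K {g v} := fun h => by
    obtain ⟨c, hc⟩ := Submodule.mem_span_singleton.1 h
    have hc0 : c ≠ 0 := fun h0 => hv (by rw [← hc, h0, zero_smul])
    exact hC.moved c⁻¹ (by rw [eq_inv_smul_iff₀ hc0, hc])
  obtain ⟨φ, hφz, hφ0⟩ := exists_dual_one _ hz
  obtain ⟨pr, hprv, hpr0⟩ := exists_dual_one _ hv'
  have hφv : φ v = 0 := hφ0 v (Submodule.mem_span_singleton_self v)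
  have hprz : pr (g v) = 0 := hpr0 _ (Submodule.mem_span_singleton_self _)
  have hdec : ∀ x, x = pr x • v + φ x • g v := by
    have htop : Submodule.span K ({v, g v} : Set V) = ⊤ := by
      refine Submodule.eq_top_of_finrank_eq (le_antisymm (Submodule.finrank_le _) ?_)
      rw [h2]
      by_contra hlt
      push Not at hlt
      have hle : Submodule.span K ({v} : Set V) ≤ Submodule.span K ({v, g v} : Set V) :=
        Submodule.span_mono (by simp)
      have := Submodule.finrank_mono hle
      rw [finrank_span_singleton hv] at this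
      exact hz (Submodule.eq_of_le_of_finrank_le hle (by rw [finrank_span_singleton hv]; omega) ▸
        Submodule.subset_span (by simp))
    intro x
    obtain ⟨a, b, rfl⟩ := Submodule.mem_span_pair.1 (htop ▸ Submodule.mem_top : x ∈ Submodule.span K {v, g v})
    simp [hφv, hφz, hprv, hprz]
  have hgi : g⁻¹ v ∉ Submodule.span K {v} := fun h => by
    obtain ⟨c, hc⟩ := Submodule.mem_span_singleton.1 h
    exact hC.inv_moved c hc.symm
  obtain ⟨φ', hφ'g, hφ'0⟩ := exists_dual_one _ hgi
  have h'v : φ' v = 0 := hφ'0 v (Submodule.mem_span_singleton_self v)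
  let ρ : V →ₗ[F] K := (φ'.restrictScalars F).comp (g⁻¹ : V ≃ₗ[F] V).toLinearMap
  set ι := algebraMap F K with hι
  have hρ : ∀ c : K, ρ (c • v) = ι (lam c) := fun c => by
    show φ' (g⁻¹ (c • v)) = _
    rw [hC.inv_line, map_add, map_smul, h'v, ← algebraMap_smul K (lam c) (g⁻¹ v), map_smul, hφ'g,
      smul_zero, zero_add, smul_eq_mul, mul_one]
  have htb' : ∀ u : K, ∃ t ∈ M, ∀ x,
      t x = x + ((ρ x * u - ι (lam (ρ x * u))) • v + ι (lam (ρ x * u)) • g v) := by
    intro u
    obtain ⟨t, ht, htx⟩ := hM.exists_T0 φ' (u • v) (by rw [map_smul, h'v, smul_zero])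
    refine ⟨g * t * g⁻¹, mul_mem (mul_mem hC.mem ht) (inv_mem hC.mem), fun x => ?_⟩
    rw [mul_apply', mul_apply', htx, map_add, apply_inv', smul_smul, hC.g_line, hι, algebraMap_smul]
    rfl
  choose tb htb htbx using htb'
  have hlι : ∀ s : F, lam (ι s) = s := fun s => by
    rw [hι, Algebra.algebraMap_eq_smul_one, map_smul, hC.one, smul_eq_mul, mul_one]
  have hlιm : ∀ (s : F) (p : K), lam (ι s * p) = s * lam p := fun s p => by
    rw [hι, ← Algebra.smul_def, map_smul, smul_eq_mul]
  -- commutators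
  have hcomm : ∀ w d : K, lam d = 0 → ∃ k ∈ M, ∀ x, k x = x +
      (ι (lam (ρ x * d)) * w - ι (lam (φ x * w)) * d + ι (lam (ρ x * d)) * ι (lam w) * d) • v := by
    intro w d hd
    obtain ⟨ta, hta, htax⟩ := hM.exists_T0 φ (w • v) (by rw [map_smul, hφv, smul_zero])
    let a : V →ₗ[F] V := ((LinearMap.toSpanSingleton K V (w • v)).comp φ).restrictScalars F
    let b : V →ₗ[F] V := (tb d).toLinearMap - LinearMap.id
    have hb : ∀ x, b x = (ρ x * d - ι (lam (ρ x * d))) • v + ι (lam (ρ x * d)) • g v := fun x => by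
      simp [b, htbx]
    have ha : ∀ x, a x = (φ x * w) • v := fun x => by simp [a, mul_smul]
    have hab : ∀ x, a (b x) = (ι (lam (ρ x * d)) * w) • v := fun x => by
      rw [ha, hb, map_add, map_smul, map_smul, hφv, hφz]; simp
    have hbline : ∀ p : K, b (p • v) = (ι (lam p) * d) • v := fun p => by
      rw [hb, hρ, hlιm, hd]; simp
    have hρb : ∀ x, ρ (b x) = 0 := fun x => by
      rw [hb, map_add, hρ, map_sub, hlι, sub_self, map_zero, zero_add, hι, algebraMap_smul, map_smul]
      show _ • φ' (g⁻¹ (g v)) = _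
      rw [inv_apply', h'v, smul_zero]
    obtain ⟨k, hk, hkx⟩ := exists_comm (M := M) hta (htb d) a b (fun x => by rw [htax]; rfl)
      (fun x => by rw [htbx, hb])
      (fun x => by rw [ha, ha, map_smul, hφv]; simp)
      (fun x => by rw [hb, hρb]; simp)
      (fun x => by rw [ha x, hbline, ha, map_smul, hφv]; simp)
    refine ⟨k, hk, fun x => ?_⟩
    rw [hkx, hab, hbline, ha, hbline, hlιm, map_mul ι, ← sub_smul, ← add_smul]
  have hfin : (∃ ψ : V →ₗ[F] F, ψ ≠ 0 ∧ (∀ c : K, ψ (c • v) = 0) ∧ ∃ u : K, u ≠ 0 ∧ Tv M ψ (u • v)) →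
      ∃ ψ : V →ₗ[F] F, ψ ≠ 0 ∧ (∀ c : K, ψ (c • v) = 0) ∧ ∀ c : K, Tv M ψ (c • v) := by
    rintro ⟨ψ, hψ, hψv, u, hu, hT⟩
    refine ⟨ψ, hψ, hψv, fun c => ?_⟩
    let U : AddSubgroup K :=
      { carrier := {c | Tv M ψ (c • v)}
        add_mem' := fun {a b} ha hb => by
          show Tv M ψ ((a + b) • v)
          rw [add_smul]
          exact Tv.add (hψv b) ha hb
        zero_mem' := by
          show Tv M ψ ((0 : K) • v)
          rw [zero_smul]
          exact Tv.zero ψ
        neg_mem' := fun {a} ha => by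
          obtain ⟨t, ht, htx⟩ := ha
          refine ⟨t⁻¹, inv_mem ht, fun y => ?_⟩
          apply t.injective
          rw [apply_inv', htx, map_add, map_smul, hψv, smul_zero, add_zero, neg_smul, smul_neg]
          abel }
    have hU := smul_closed_of_norm_one (F := F) hr U (fun e he p hp => by
      obtain ⟨h, hh, hhx⟩ := hM.exists_T pr ((e - 1) • v) (by
        rw [map_smul, hprv, smul_eq_mul, mul_one, add_sub_cancel, he])
      show Tv M ψ ((e * p) • v)
      have hev : h (p • v) = (e * p) • v := by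
        rw [hhx, map_smul, hprv, smul_eq_mul, mul_one, smul_smul, ← add_smul]; congr 1; ring
      rw [← hev]
      refine Tv.conj hp hh fun y => ?_
      rw [hhx, map_add, smul_smul, hψv, add_zero])
    have := hU (c * u⁻¹) u hT
    simpa [U, smul_eq_mul, mul_assoc, inv_mul_cancel₀ hu] using this
  apply hfin
  by_cases hψ : ∃ d, lam d = 0 ∧ ∃ x, lam (ρ x * d) ≠ lam (φ x * d)
  · obtain ⟨d, hd, x₀, hx₀⟩ := hψ
    let ψ : V →ₗ[F] F :=
      (lam.comp (LinearMap.mulRight F d)).comp ρ - (lam.comp (LinearMap.mulRight F d)).comp (φ.restrictScalars F)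
    have hψx : ∀ x, ψ x = lam (ρ x * d) - lam (φ x * d) := fun x => rfl
    obtain ⟨k, hk, hkx⟩ := hcomm d d hd
    refine ⟨ψ, fun h => hx₀ (sub_eq_zero.1 ((hψx x₀).symm.trans (by rw [h]; rfl))), fun c => ?_, d,
      fun h => hx₀ (by simp [h]), k, hk, fun x => ?_⟩
    · rw [hψx, hρ, map_smul, hφv, smul_zero, zero_mul, map_zero, sub_zero, hlιm, hd, mul_zero]
    · rw [hkx, hd, hψx, ← algebraMap_smul K (lam (ρ x * d) - lam (φ x * d)) (d • v), smul_smul, map_sub]
      congr 2
      rw [map_zero]; ring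
  push Not at hψ
  -- the maps into the line killing it
  let E : AddSubgroup (K →ₗ[F] K) :=
    { carrier := {f | ∃ t ∈ M, ∀ x, t x = x + f (φ x) • v}
      add_mem' := by
        rintro f₁ f₂ ⟨s, hs, hsx⟩ ⟨t, ht, htx⟩
        refine ⟨s * t, mul_mem hs ht, fun x => ?_⟩
        rw [mul_apply', htx, hsx, map_add φ, map_smul φ, hφv, smul_zero, add_zero, LinearMap.add_apply,
          add_smul]
        abel
      zero_mem' := ⟨1, one_mem M, fun x => by simp⟩
      neg_mem' := by
        rintro f ⟨t, ht, htx⟩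
        refine ⟨t⁻¹, inv_mem ht, fun x => ?_⟩
        apply t.injective
        rw [apply_inv', htx, map_add φ, map_smul φ, hφv, smul_zero, add_zero, LinearMap.neg_apply, neg_smul]
        abel }
  have hleft : ∀ c : K, ∀ f ∈ E, c • f ∈ E := smul_closed_of_norm_one (F := F) hr E (fun e he f hf => by
    obtain ⟨t, ht, htx⟩ := hf
    obtain ⟨h, hh, hhx⟩ := hM.exists_T pr ((e - 1) • v) (by
      rw [map_smul, hprv, smul_eq_mul, mul_one, add_sub_cancel, he])
    refine ⟨h * t * h⁻¹, mul_mem (mul_mem hh ht) (inv_mem hh), fun x => ?_⟩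
    have hφh : ∀ y, φ (h y) = φ y := fun y => by
      rw [hhx, map_add, map_smul, map_smul, hφv, smul_zero, smul_zero, add_zero]
    rw [mul_apply', mul_apply', htx, map_add h, apply_inv', ← hφh, apply_inv']
    congr 1
    rw [hhx, map_smul, hprv, smul_eq_mul, mul_one, smul_smul, ← add_smul, LinearMap.smul_apply, smul_eq_mul]
    congr 1
    ring)
  have hright : ∀ c : K, ∀ f ∈ E, f.comp (LinearMap.mulRight F c) ∈ E := by
    let S : Subring K :=
      { carrier := {c | ∀ f ∈ E, f.comp (LinearMap.mulRight F c) ∈ E}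
        mul_mem' := fun {a b} ha hb f hf => by
          convert hb _ (ha f hf) using 1
          ext p
          simp [mul_comm a b, mul_assoc]
        one_mem' := fun f hf => by convert hf using 1; ext p; simp
        add_mem' := fun {a b} ha hb f hf => by
          convert add_mem (ha f hf) (hb f hf) using 1
          ext p
          simp [mul_add]
        zero_mem' := fun f hf => by convert zero_mem E using 1; ext p; simp
        neg_mem' := fun {a} ha f hf => by convert neg_mem (ha f hf) using 1; ext p; simp }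
    have hS := norm_one_generate (F := F) hr S (fun e he f hf => by
      obtain ⟨t, ht, htx⟩ := hf
      have he0 : e ≠ 0 := fun h => by simp [h] at he
      obtain ⟨h, hh, hhx⟩ := hM.exists_T φ ((e⁻¹ - 1) • g v) (by
        rw [map_smul, hφz, smul_eq_mul, mul_one, add_sub_cancel]
        have := map_mul (Algebra.norm F) e e⁻¹
        rw [mul_inv_cancel₀ he0, map_one, he, one_mul] at this
        exact this.symm)
      refine ⟨h * t * h⁻¹, mul_mem (mul_mem hh ht) (inv_mem hh), fun x => ?_⟩
      rw [mul_apply', mul_apply', htx, map_add h, apply_inv']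
      congr 1
      have hφh : φ (h⁻¹ x) = φ x * e := by
        have := congrArg φ (apply_inv' h x)
        rw [hhx, map_add, map_smul, map_smul, hφz, smul_eq_mul, smul_eq_mul, mul_one] at this
        rw [← this]
        field_simp
        ring
      rw [hφh, hhx, map_smul, hφv]
      simp)
    intro c
    exact (hS.symm ▸ Subring.mem_top c : c ∈ S)
  let Λ : K →ₗ[F] K := (Algebra.linearMap F K).comp lam
  let Λm : K → (K →ₗ[F] K) := fun d => Λ.comp (LinearMap.mulRight F d)
  have hΛm : ∀ d p, Λm d p = ι (lam (p * d)) := fun d p => rfl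
  have hfd : ∀ d, lam d = 0 → (1 + d) • Λm d - d • Λ ∈ E := by
    intro d hd
    obtain ⟨k, hk, hkx⟩ := hcomm 1 d hd
    refine ⟨k, hk, fun x => ?_⟩
    rw [hkx, hψ d hd x, mul_one (φ x), hC.one, map_one]
    congr 2
    show _ = (1 + d) * ι (lam (φ x * d)) - d * ι (lam (φ x))
    ring
  have hend : ∀ d, d ≠ 0 → d • Λm d ∈ E → Λ ∈ E := fun d hd h => by
    have := hright d⁻¹ _ (hleft d⁻¹ _ h)
    convert this using 1
    ext p
    simp [Λm, hd, mul_assoc]
  suffices hΛ : Λ ∈ E ∨ ∃ ψ : V →ₗ[F] F, ψ ≠ 0 ∧ (∀ c : K, ψ (c • v) = 0) ∧ ∃ u : K, u ≠ 0 ∧ Tv M ψ (u • v) by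
    rcases hΛ with ⟨t, ht, htx⟩ | h
    · refine ⟨lam.comp (φ.restrictScalars F), fun h => ?_, fun c => by simp [hφv], 1, one_ne_zero, t, ht,
        fun x => ?_⟩
      · have := LinearMap.congr_fun h (g v)
        simp [hφz, hC.one] at this
      · rw [htx, one_smul]
        simp [Λ, algebraMap_smul]
    · exact h
  have hker : finrank F (LinearMap.ker lam) + 1 = finrank F K := by
    have h1 := LinearMap.finrank_range_add_finrank_ker lam
    rw [LinearMap.range_eq_top.2 fun s => ⟨ι s, hlι s⟩, finrank_top, finrank_self] at h1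
    omega
  obtain ⟨d, hd, hd0⟩ : ∃ d, lam d = 0 ∧ d ≠ 0 := by
    obtain ⟨d, hd, hd0⟩ := (Submodule.ne_bot_iff (LinearMap.ker lam)).1 (fun h => by
      rw [h, finrank_bot] at hker; omega)
    exact ⟨d, LinearMap.mem_ker.1 hd, hd0⟩
  by_cases hs : ∃ s : F, s ≠ 0 ∧ s ≠ 1
  · obtain ⟨s, hs0, hs1⟩ := hs
    left
    have hsd : lam (ι s * d) = 0 := by rw [hlιm, hd, mul_zero]
    have h1 := sub_mem (hfd _ hsd) (hleft (ι s) _ (hfd d hd))
    apply hend d hd0
    have hne : ι s * ι s - ι s ≠ 0 := by
      rw [← map_mul, ← map_sub, map_ne_zero]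
      intro h
      exact hs1 (mul_right_cancel₀ hs0 (by rw [one_mul]; exact sub_eq_zero.1 h))
    have h2 := hleft (ι s * ι s - ι s)⁻¹ _ h1
    convert h2 using 1
    ext p
    have hl : lam (p * (ι s * d)) = s * lam (p * d) := by rw [mul_left_comm, hlιm]
    show d * ι (lam (p * d)) = (ι s * ι s - ι s)⁻¹ *
      ((1 + ι s * d) * ι (lam (p * (ι s * d))) - (ι s * d) * ι (lam p) -
        ι s * ((1 + d) * ι (lam (p * d)) - d * ι (lam p)))
    rw [hl, map_mul ι, eq_inv_mul_iff_mul_eq₀ hne]
    ring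
  push Not at hs
  have hF : Fintype.card F = 2 := by
    have : (Finset.univ : Finset F) = {0, 1} := by
      ext s
      simp only [Finset.mem_univ, Finset.mem_insert, Finset.mem_singleton, true_iff]
      exact or_iff_not_imp_left.2 (hs s)
    rw [← Finset.card_univ, this, Finset.card_pair zero_ne_one]
  have h2K : (2 : K) = 0 := by
    have := FiniteField.cast_card_eq_zero F
    rw [hF] at this
    have h : ((2 : ℕ) : K) = 0 := by rw [← map_natCast ι, this, map_zero]
    exact_mod_cast h
  by_cases h3 : finrank F K = 2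
  · exact Or.inr (quarter hM h3 hF φ pr hφv hφz hprv hprz hdec hC.one hd hd0 tb htb ρ htbx
      (by simpa [hC.one] using hρ 1) (by rw [hρ, hd, map_zero])
      (by show φ' (g⁻¹ (g v)) = 0; rw [inv_apply', h'v])
      (by rw [hψ d hd, map_smul, hφz, smul_eq_mul, mul_one]))
  left
  obtain ⟨e, he, hed⟩ := SetLike.exists_of_lt (show F ∙ d < LinearMap.ker lam from
    lt_of_le_of_ne ((Submodule.span_singleton_le_iff_mem _ _).2 (LinearMap.mem_ker.2 hd)) (fun h => by
      rw [← h, finrank_span_singleton hd0] at hker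
      omega))
  rw [LinearMap.mem_ker] at he
  let C : Subalgebra F K :=
    { carrier := {c | Λm c + c • Λ ∈ E}
      mul_mem' := fun {a b} (ha : Λm a + a • Λ ∈ E) (hb : Λm b + b • Λ ∈ E) => by
        show Λm (a * b) + (a * b) • Λ ∈ E
        convert add_mem (hright b _ ha) (hleft a _ hb) using 1
        ext p
        simp [Λm, mul_assoc, mul_comm a b]
        grind
      one_mem' := by
        show Λm 1 + (1 : K) • Λ ∈ E
        convert zero_mem E using 1
        ext p
        simp [Λm]
        grind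
      add_mem' := fun {a b} (ha : Λm a + a • Λ ∈ E) (hb : Λm b + b • Λ ∈ E) => by
        show Λm (a + b) + (a + b) • Λ ∈ E
        convert add_mem ha hb using 1
        ext p
        simp [Λm, mul_add, add_mul]
        ring
      zero_mem' := by
        show Λm 0 + (0 : K) • Λ ∈ E
        convert zero_mem E using 1
        ext p
        simp [Λm]
      algebraMap_mem' := fun s => by
        show Λm (algebraMap F K s) + algebraMap F K s • Λ ∈ E
        convert zero_mem E using 1
        ext p
        have : lam (p * ι s) = s * lam p := by rw [mul_comm, hlιm]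
        simp [Λm, Λ, ← hι, this]
        grind }
  have hw : e / d ∈ C := by
    have hB := sub_mem (sub_mem (hfd (d + e) (by rw [map_add, hd, he, add_zero])) (hfd d hd)) (hfd e he)
    show Λm (e / d) + (e / d) • Λ ∈ E
    convert hright d⁻¹ _ (hleft d⁻¹ _ hB) using 1
    ext p
    have hp : p * d⁻¹ * d = p := by rw [mul_assoc, inv_mul_cancel₀ hd0, mul_one]
    have hq : p * d⁻¹ * e = p * (e / d) := by rw [div_eq_mul_inv]; ring
    simp [Λm, Λ, mul_add, hp, hq, ← hι]
    field_simp
    grind
  haveI := Subalgebra.isSimpleOrder_of_finrank_prime F K hM.prime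
  rcases eq_bot_or_eq_top C with h | h
  · exfalso
    apply hed
    obtain ⟨s, hs'⟩ := Algebra.mem_bot.1 (h ▸ hw)
    exact Submodule.mem_span_singleton.2 ⟨s, by rw [Algebra.smul_def, hs', div_mul_cancel₀ _ hd0]⟩
  · apply hend d hd0
    have hdC : d ∈ C := h ▸ Algebra.mem_top
    convert add_mem (hfd d hd) hdC using 1
    ext p
    simp [Λm]
    grind

/-! ### Spreading to all transvections -/

theorem all_tv (hM : Hyp K M) (χ : V →ₗ[F] F) (x : V) (hx : χ x = 0) : Tv M χ x := by
  classical
  have hr := hM.prime.two_le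
  obtain ⟨v₀, lam₀, g₀, hC⟩ := exists_config hM
  obtain ⟨ψ, hψ, hψv, hT⟩ : ∃ ψ : V →ₗ[F] F, ψ ≠ 0 ∧ (∀ c : K, ψ (c • v₀) = 0) ∧ ∀ c : K, Tv M ψ (c • v₀) := by
    rcases (hM.dim).eq_or_lt with h | h
    · exact case_two hM hC h.symm
    · exact case_big hM hC h
  -- functionals through `K`
  let Φ : (V →ₗ[K] K) →ₗ[F] (V →ₗ[F] F) :=
    { toFun := fun φ => lam₀.comp (φ.restrictScalars F)
      map_add' := fun a b => by ext; simp
      map_smul' := fun s a => by ext; simp }
  have hΦ : ∀ φ y, Φ φ y = lam₀ (φ y) := fun φ y => rfl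
  have hΦinj : Function.Injective Φ := by
    rw [injective_iff_map_eq_zero]
    intro φ hφ
    ext y
    by_contra hy
    have := LinearMap.congr_fun hφ ((φ y)⁻¹ • y)
    rw [hΦ, map_smul, smul_eq_mul, inv_mul_cancel₀ hy, hC.one] at this
    exact one_ne_zero this
  haveI : FiniteDimensional F V := Module.Finite.trans K V
  have hfr : finrank F (V →ₗ[K] K) = finrank F (V →ₗ[F] F) := by
    have h1 : finrank F (V →ₗ[F] F) = finrank F V := by rw [Module.finrank_linearMap, finrank_self, mul_one]
    have h2 : finrank K (V →ₗ[K] K) = finrank K V := by rw [Module.finrank_linearMap, finrank_self, mul_one]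
    rw [h1, ← Module.finrank_mul_finrank F K V, ← Module.finrank_mul_finrank F K (V →ₗ[K] K), h2]
  have hΦsurj : Function.Surjective Φ :=
    (LinearMap.injective_iff_surjective_of_finrank_eq_finrank hfr).1 hΦinj
  let Good : (V →ₗ[K] K) → Prop := fun φ => ∃ y, y ≠ 0 ∧ φ y = 0 ∧ ∀ c : K, Tv M (Φ φ) (c • y)
  obtain ⟨φ₀, hφ₀⟩ := hΦsurj ψ
  have hφ₀0 : φ₀ ≠ 0 := fun h => hψ (by rw [← hφ₀, h, map_zero])
  have hgood₀ : Good φ₀ := by
    refine ⟨v₀, hC.ne_zero, ?_, fun c => hφ₀ ▸ hT c⟩
    by_contra hy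
    have := hψv (φ₀ v₀)⁻¹
    rw [← hφ₀, hΦ, map_smul, smul_eq_mul, inv_mul_cancel₀ hy, hC.one] at this
    exact one_ne_zero this
  have hmove : ∀ φ φ', Good φ → φ ≠ 0 → φ' ∉ Submodule.span K {φ} → Good φ' := by
    rintro φ φ' ⟨y, hy, hφy, hyT⟩ hφ hφ'
    obtain ⟨u, hu, hu'⟩ : ∃ u, φ u = 1 ∧ φ' u = 1 := by
      obtain ⟨a, ha⟩ : ∃ a, φ a ≠ 0 := by
        by_contra h
        push Not at h
        exact hφ (LinearMap.ext h)
      obtain ⟨w, hw, hw'⟩ : ∃ w, φ w = 0 ∧ φ' w ≠ 0 := by
        by_contra h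
        push Not at h
        apply hφ'
        refine Submodule.mem_span_singleton.2 ⟨φ' a / φ a, LinearMap.ext fun p => ?_⟩
        have h0 := h (p - (φ p / φ a) • a) (by
          rw [map_sub, map_smul, smul_eq_mul, div_mul_cancel₀ _ ha, sub_self])
        rw [map_sub, map_smul, smul_eq_mul, sub_eq_zero] at h0
        rw [LinearMap.smul_apply, smul_eq_mul, h0]
        field_simp
      refine ⟨(φ a)⁻¹ • a + ((1 - φ' ((φ a)⁻¹ • a)) / φ' w) • w, ?_, ?_⟩
      · simp [hw, inv_mul_cancel₀ ha]
      · simp only [map_add, map_smul, smul_eq_mul]; rw [div_mul_cancel₀ _ hw']; ring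
    obtain ⟨h, hh, hhx⟩ := hM.exists_T0 (φ - φ') u (by simp [hu, hu'])
    have hφ'h : ∀ p, φ' (h p) = φ p := fun p => by
      rw [hhx, map_add, map_smul, hu', LinearMap.sub_apply, smul_eq_mul, mul_one]; ring
    have hlin : ∀ (c : K) p, h (c • p) = c • h p := fun c p => by
      rw [hhx, hhx, map_smul, smul_eq_mul, mul_smul, smul_add]
    refine ⟨h y, (map_ne_zero_iff _ h.injective).2 hy, by rw [hφ'h, hφy], fun c => ?_⟩
    rw [← hlin]
    exact Tv.conj (hyT c) hh fun p => by rw [hΦ, hΦ, hφ'h]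
  have hgood : ∀ φ, φ ≠ 0 → Good φ := by
    intro φ hφ
    by_cases h : φ ∈ Submodule.span K {φ₀}
    · obtain ⟨φ₁, -, h1⟩ := SetLike.exists_of_lt
        (show Submodule.span K {φ₀} < ⊤ from lt_top_iff_ne_top.2 fun hh => by
          have h1 := finrank_span_singleton (K := K) hφ₀0
          rw [hh, finrank_top, Module.finrank_linearMap, finrank_self, mul_one] at h1
          have := hM.dim
          omega)
      have h10 : φ₁ ≠ 0 := fun h0 => h1 (h0 ▸ zero_mem _)
      refine hmove φ₁ φ (hmove φ₀ φ₁ hgood₀ hφ₀0 h1) h10 fun h2 => ?_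
      obtain ⟨c, hc⟩ := Submodule.mem_span_singleton.1 h2
      have hc0 : c ≠ 0 := fun h0 => hφ (by rw [← hc, h0, zero_smul])
      apply h1
      rw [show φ₁ = c⁻¹ • φ by rw [← hc, inv_smul_smul₀ hc0]]
      exact Submodule.smul_mem _ _ h
    · exact hmove φ₀ φ hgood₀ hφ₀0 h
  have hfull : ∀ φ, φ ≠ 0 → ∀ y, φ y = 0 → Tv M (Φ φ) y := by
    intro φ hφ y hy
    obtain ⟨p, hp, hφp, hpT⟩ := hgood φ hφ
    by_cases h : y ∈ Submodule.span K {p}
    · obtain ⟨c, rfl⟩ := Submodule.mem_span_singleton.1 h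
      exact hpT c
    · have hpn : p ∉ Submodule.span K {y - p} := fun hh => by
        obtain ⟨c, hc⟩ := Submodule.mem_span_singleton.1 hh
        apply h
        by_cases hc0 : c = 0
        · rw [hc0, zero_smul] at hc
          exact absurd hc.symm hp
        · refine Submodule.mem_span_singleton.2 ⟨c⁻¹ + 1, ?_⟩
          have : y - p = c⁻¹ • p := by
            calc y - p = c⁻¹ • (c • (y - p)) := by rw [inv_smul_smul₀ hc0]
              _ = c⁻¹ • p := by rw [hc]
          rw [add_smul, one_smul, ← this, sub_add_cancel]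
      obtain ⟨χ', hχ1, hχ0⟩ := exists_dual_one _ hpn
      obtain ⟨t, ht, htx⟩ := hM.exists_T0 χ' (y - p) (hχ0 _ (Submodule.mem_span_singleton_self _))
      have htp : t p = y := by rw [htx, hχ1, one_smul, add_sub_cancel]
      rw [← htp]
      refine Tv.conj (by simpa using hpT 1) ht fun q => ?_
      rw [hΦ, hΦ, htx, map_add φ, map_smul φ, map_sub φ, hy, hφp, sub_zero, smul_zero, add_zero]
  obtain ⟨φ, rfl⟩ := hΦsurj χ
  by_cases hφx : φ x = 0
  · by_cases hφ : φ = 0
    · exact ⟨1, one_mem M, fun y => by simp [hφ]⟩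
    · exact hfull φ hφ x hφx
  have hφ : φ ≠ 0 := fun h => hφx (by simp [h])
  obtain ⟨y, hy, hy0⟩ := (Submodule.ne_bot_iff (LinearMap.ker φ)).1 (fun h => by
    have h1 := LinearMap.finrank_range_add_finrank_ker φ
    rw [h, finrank_bot, add_zero] at h1
    have h2 := Submodule.finrank_le (LinearMap.range φ)
    rw [finrank_self] at h2
    have := hM.dim
    omega)
  rw [LinearMap.mem_ker] at hy
  have hyx : y ∉ Submodule.span K {x} := fun h => by
    obtain ⟨c, hc⟩ := Submodule.mem_span_singleton.1 h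
    rw [← hc, map_smul, smul_eq_mul, mul_eq_zero] at hy
    rcases hy with h' | h'
    · exact hy0 (by rw [← hc, h', zero_smul])
    · exact hφx h'
  obtain ⟨φ', h'y, h'0⟩ := exists_dual_one _ hyx
  have h'x : φ' x = 0 := h'0 x (Submodule.mem_span_singleton_self x)
  have hφ' : φ' ≠ 0 := fun h => by simp [h] at h'y
  obtain ⟨s, hs, hsx⟩ := hfull φ' hφ' x h'x
  obtain ⟨t, ht, htx⟩ := hfull φ hφ y hy
  have hχy : Φ φ y = 0 := by rw [hΦ, hy, map_zero]
  have hχ'x : Φ φ' x = 0 := by rw [hΦ, h'x, map_zero]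
  have hχ'y : Φ φ' y = 1 := by rw [hΦ, h'y, hC.one]
  obtain ⟨k, hk, hkx⟩ := exists_comm (M := M) hs ht ((Φ φ').smulRight x) ((Φ φ).smulRight y)
    (fun p => by simp [hsx]) (fun p => by simp [htx])
    (fun p => by simp [hχ'x]) (fun p => by simp [hχy])
    (fun p => by simp [hx])
  exact ⟨k, hk, fun p => by rw [hkx]; simp [hx, hχ'y]⟩

end Cfsg.Agent.ExtFieldMax
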