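import Mathlib
import Cfsg.Agent.Lib.ExtFieldMax

/-!
A group of isometries of an F-symplectic space which contains the K-linear isometries (K acting by self-adjoint
maps) and does not preserve the K-lines contains a symplectic F-transvection.
-/

set_option autoImplicit false
set_option linter.unusedSectionVars false
set_option linter.style.haveILetI false

namespace Cfsg.Agent.ExtFieldSp

open Module
open Cfsg.Agent.ExtFieldMax (mul_apply' inv_apply' apply_inv' exists_dual_one exists_comm)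

variable {F K V : Type*} [Field F] [Fintype F] [Field K] [Fintype K] [Algebra F K]
  [AddCommGroup V] [Module F V] [Module K V] [IsScalarTower F K V] [FiniteDimensional K V]

variable (K) in
/-- The hypotheses. -/
structure Hyp (M : Subgroup (V ≃ₗ[F] V)) (f : V →ₗ[F] V →ₗ[F] F) : Prop where
  prime : (finrank F K).Prime
  dim : 2 ≤ finrank K V
  small : finrank K V = 2 → 3 ≤ finrank F K
  adj : ∀ (c : K) x y, f (c • x) y = f x (c • y)
  alt : ∀ (c : K) x, f (c • x) x = 0
  nondeg : ∀ x, (∀ y, f x y = 0) → x = 0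
  lin : ∀ g : V ≃ₗ[F] V, (∀ (c : K) x, g (c • x) = c • g x) → (∀ x y, f (g x) (g y) = f x y) → g ∈ M
  pres : ∀ g ∈ M, ∀ x y, f (g x) (g y) = f x y
  move : ∃ g ∈ M, ∃ (v : V) (c : K), ∀ d : K, g (c • v) ≠ d • g v

variable {M : Subgroup (V ≃ₗ[F] V)} {f : V →ₗ[F] V →ₗ[F] F}

/-- `f` is the image under `τ` of a K-bilinear form `B`. -/
structure Lifts (f : V →ₗ[F] V →ₗ[F] F) (τ : K →ₗ[F] F) (B : V →ₗ[K] V →ₗ[K] K) : Prop where
  one : τ 1 = 1
  eq : ∀ (c : K) x y, f (c • x) y = τ (c * B x y)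

theorem tau_ext {τ : K →ₗ[F] F} (h1 : τ 1 = 1) {a b : K} (h : ∀ c, τ (c * a) = τ (c * b)) : a = b := by
  by_contra hne
  have h0 := h (a - b)⁻¹
  have : τ ((a - b)⁻¹ * (a - b)) = 0 := by rw [mul_sub, map_sub, h0, sub_self]
  rw [inv_mul_cancel₀ (sub_ne_zero.2 hne), h1] at this
  exact one_ne_zero this

theorem exists_lift (hM : Hyp K M f) (τ : K →ₗ[F] F) (h1 : τ 1 = 1) : ∃ B, Lifts f τ B := by
  classical
  let Φ : K →ₗ[F] (K →ₗ[F] F) :=
    { toFun := fun a => τ.comp (LinearMap.mulRight F a)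
      map_add' := fun a b => by ext c; simp [mul_add]
      map_smul' := fun s a => by ext c; simp [mul_smul_comm] }
  have hinj : Function.Injective Φ := fun a b h => tau_ext h1 fun c => LinearMap.congr_fun h c
  have hsurj : Function.Surjective Φ :=
    (LinearMap.injective_iff_surjective_of_finrank_eq_finrank
      (by rw [Module.finrank_linearMap, finrank_self, mul_one])).1 hinj
  have hex : ∀ x y : V, ∃ a : K, ∀ c, τ (c * a) = f (c • x) y := by
    intro x y
    obtain ⟨a, ha⟩ := hsurj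
      ((f.flip y).comp ((LinearMap.toSpanSingleton K V x).restrictScalars F))
    exact ⟨a, fun c => LinearMap.congr_fun ha c⟩
  choose b hb using hex
  refine ⟨LinearMap.mk₂ K b ?_ ?_ ?_ ?_, h1, fun c x y => (hb x y c).symm⟩
  · intro x x' y
    refine tau_ext h1 fun c => ?_
    rw [hb, mul_add, map_add, hb, hb, smul_add, map_add]; rfl
  · intro e x y
    refine tau_ext h1 fun c => ?_
    rw [hb, smul_eq_mul, ← mul_assoc, hb, smul_smul]
  · intro x y y'
    refine tau_ext h1 fun c => ?_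
    rw [hb, map_add, mul_add, map_add, hb, hb]
  · intro e x y
    refine tau_ext h1 fun c => ?_
    rw [hb, smul_eq_mul, ← mul_assoc, hb, ← hM.adj, smul_smul, mul_comm]

section
variable {τ : K →ₗ[F] F} {B : V →ₗ[K] V →ₗ[K] K} (hM : Hyp K M f) (hB : Lifts f τ B)
include hM hB

theorem B_self (x : V) : B x x = 0 :=
  tau_ext hB.one fun c => by rw [← hB.eq, hM.alt, mul_zero, map_zero]

theorem B_skew (x y : V) : B y x = - B x y := by
  have h := B_self hM hB (x + y)
  simp only [map_add, LinearMap.add_apply, B_self hM hB, zero_add, add_zero] at h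
  linear_combination h

theorem B_nondeg (x : V) (h : ∀ y, B x y = 0) : x = 0 :=
  hM.nondeg x fun y => by
    have := hB.eq 1 x y
    rwa [one_smul, one_mul, h, map_zero] at this

theorem f_eq (x y : V) : f x y = τ (B x y) := by
  have := hB.eq 1 x y
  rwa [one_smul, one_mul] at this

theorem exists_vec (φ : V →ₗ[K] K) : ∃ w, ∀ x, B x w = φ x := by
  have hinj : Function.Injective B.flip := by
    rw [injective_iff_map_eq_zero]
    intro w hw
    refine B_nondeg hM hB w fun y => ?_
    rw [B_skew hM hB y w, show B y w = 0 from LinearMap.congr_fun hw y, neg_zero]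
  obtain ⟨w, hw⟩ := (LinearMap.injective_iff_surjective_of_finrank_eq_finrank
    (by rw [Module.finrank_linearMap, finrank_self, mul_one])).1 hinj φ
  exact ⟨w, fun x => LinearMap.congr_fun hw x⟩

/-- K-Siegel transformations. -/
theorem exists_S (u w : V) (a : K) (h : B u w = 0) :
    ∃ g ∈ M, (∀ (c : K) x, g (c • x) = c • g x) ∧
      ∀ x, g x = x + B x u • (a • u + w) + B x w • u := by
  haveI : Finite V := Module.finite_of_finite K
  let T : V →ₗ[K] V :=
    LinearMap.id + (LinearMap.toSpanSingleton K V (a • u + w)).comp (B.flip u) +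
      (LinearMap.toSpanSingleton K V u).comp (B.flip w)
  have hT : ∀ x, T x = x + B x u • (a • u + w) + B x w • u := fun x => rfl
  have huu := B_self hM hB u
  have hww := B_self hM hB w
  have hwu : B w u = 0 := by rw [B_skew hM hB u w, h, neg_zero]
  have hpres : ∀ x y, B (T x) (T y) = B x y := by
    intro x y
    simp only [hT, map_add, map_smul, LinearMap.add_apply, LinearMap.smul_apply, smul_eq_mul, huu, hww, h, hwu]
    rw [B_skew hM hB y u, B_skew hM hB y w]
    ring
  have hinj : Function.Injective (T.restrictScalars F) := by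
    rw [injective_iff_map_eq_zero]
    intro x hx
    refine B_nondeg hM hB x fun y => ?_
    rw [← hpres, show T x = 0 from hx, map_zero, LinearMap.zero_apply]
  let g : V ≃ₗ[F] V := LinearEquiv.ofBijective (T.restrictScalars F) (Finite.injective_iff_bijective.1 hinj)
  have hlin : ∀ (c : K) x, g (c • x) = c • g x := fun c x => T.map_smul c x
  refine ⟨g, hM.lin g hlin fun x y => ?_, hlin, hT⟩
  rw [f_eq hM hB, f_eq hM hB]
  exact congrArg τ (hpres x y)

theorem exists_transitive {a b : V} (ha : a ≠ 0) (hb : b ≠ 0) :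
    ∃ h ∈ M, h a = b ∧ ∀ (c : K) x, h (c • x) = c • h x := by
  have key : ∀ {a b : V}, B a b ≠ 0 → ∃ h ∈ M, h a = b ∧ ∀ (c : K) x, h (c • x) = c • h x := by
    intro a b hab
    obtain ⟨g, hg, hl, hgx⟩ := exists_S hM hB (b - a) 0 (B a b)⁻¹ (by simp)
    refine ⟨g, hg, ?_, hl⟩
    simp [hgx, map_sub, B_self hM hB, smul_smul, mul_inv_cancel₀ hab]
  obtain ⟨φ, hφa, -⟩ := exists_dual_one (⊥ : Submodule K V) (by simpa using ha)
  obtain ⟨ψ, hψb, -⟩ := exists_dual_one (⊥ : Submodule K V) (by simpa using hb)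
  obtain ⟨χ, hχa, hχb⟩ : ∃ χ : V →ₗ[K] K, χ a ≠ 0 ∧ χ b ≠ 0 := by
    by_cases h1 : φ b ≠ 0
    · exact ⟨φ, by rw [hφa]; exact one_ne_zero, h1⟩
    by_cases h2 : ψ a ≠ 0
    · exact ⟨ψ, h2, by rw [hψb]; exact one_ne_zero⟩
    push Not at h1 h2
    exact ⟨φ + ψ, by simp [hφa, h2], by simp [hψb, h1]⟩
  obtain ⟨y, hy⟩ := exists_vec hM hB χ
  obtain ⟨h1, hh1, e1, l1⟩ := key (a := a) (b := y) (by rw [hy]; exact hχa)
  obtain ⟨h2, hh2, e2, l2⟩ := key (a := y) (b := b) (by rw [B_skew hM hB b y, hy]; exact neg_ne_zero.2 hχb)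
  exact ⟨h2 * h1, mul_mem hh2 hh1, by rw [mul_apply', e1, e2],
    fun c x => by rw [mul_apply', mul_apply', l1, l2]⟩

/-- Translations of a point off the line of `v`. -/
theorem translate {v z : V} (hz : z ∉ Submodule.span K {v}) (l : K) :
    ∃ t ∈ M, (∀ p : K, t (p • v) = p • v) ∧ t z = z + l • v := by
  have hvv := B_self hM hB v
  by_cases hzv : B z v = 0
  · obtain ⟨φ, hφz, hφ0⟩ := exists_dual_one _ hz
    obtain ⟨w, hw⟩ := exists_vec hM hB (l • φ)
    have hvw : B v w = 0 := by simp [hw, hφ0 v (Submodule.mem_span_singleton_self v)]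
    obtain ⟨t, ht, hl, htx⟩ := exists_S hM hB v w 0 hvw
    exact ⟨t, ht, fun p => by simp [htx, hvv, hvw], by simp [htx, hzv, hw, hφz]⟩
  · obtain ⟨t, ht, hl, htx⟩ := exists_S hM hB v 0 ((B z v)⁻¹ * l) (by simp)
    exact ⟨t, ht, fun p => by simp [htx, hvv], by simp [htx, smul_smul, mul_inv_cancel_left₀ hzv]⟩

end

theorem ringChar_two {R : Type*} [Field R] (h : (2 : R) = 0) : ringChar R = 2 :=
  by_contra fun h' => Ring.two_ne_zero h' h

/-- `M` has an element fixing `D • v` and moving the line of `v`. -/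
abbrev Moves (M : Subgroup (V ≃ₗ[F] V)) (v : V) (D : Submodule F K) : Prop :=
  ExtFieldMax.Moves M v D

theorem moves_step {τ : K →ₗ[F] F} {B : V →ₗ[K] V →ₗ[K] K} (hM : Hyp K M f) (hB : Lifts f τ B) {v : V}
    (hv : v ≠ 0) (D : Submodule F K) (h1 : (1 : K) ∈ D) (hD : finrank F D + 2 ≤ finrank F K)
    (hmv : Moves M v D) : ∃ c : K, c ∉ D ∧ Moves M v (D ⊔ F ∙ c) := by
  classical
  have hinjv : Function.Injective (fun c : K => c • v) := smul_left_injective K hv
  obtain ⟨g, hg, hgD, c₁, hc₁⟩ := hmv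
  by_contra hcon
  push Not at hcon
  have hkey : ∀ y : K, y ∉ D → ∀ k ∈ M, (∀ d ∈ D, k (d • v) = d • v) → k (y • v) = y • v →
      ∀ e : K, ∃ d : K, k (e • v) = d • v := by
    intro y hy k hk hkD hky e
    by_contra hne
    push Not at hne
    refine hcon y hy ⟨k, hk, fun d hd => ?_, e, hne⟩
    obtain ⟨d', hd', s, hs, rfl⟩ := Submodule.mem_sup.1 hd
    obtain ⟨t, rfl⟩ := Submodule.mem_span_singleton.1 hs
    rw [add_smul, map_add, hkD _ hd', smul_assoc, LinearEquiv.map_smul, hky]
  have claim : ∀ h ∈ M, (∀ d ∈ D, h (d • v) = d • v) → ∀ y : K, y ∉ D → ∀ y' : K,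
      h (y • v) = y' • v → ∀ e : K, ∃ d : K, h (e • v) = d • v := by
    intro h hh hhD y hy y' hyy e
    by_contra hne
    push Not at hne
    have hz : h (e • v) ∉ Submodule.span K {v} := fun h' => by
      obtain ⟨d, hd⟩ := Submodule.mem_span_singleton.1 h'
      exact hne d hd.symm
    have hback : ∀ l : K, ∃ m : K, h (m • v) = l • v := by
      intro l
      obtain ⟨t, ht, hfix, htz⟩ := translate hM hB hz l
      obtain ⟨d, hd⟩ := hkey y hy (h⁻¹ * t * h) (mul_mem (mul_mem (inv_mem hh) ht) hh)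
        (fun d hd => by
          rw [mul_apply', mul_apply', hhD d hd, hfix]
          conv_lhs => rw [← hhD d hd, inv_apply'])
        (by rw [mul_apply', mul_apply', hyy, hfix, ← hyy, inv_apply']) e
      rw [mul_apply', mul_apply'] at hd
      have := congrArg h hd
      rw [apply_inv', htz] at this
      exact ⟨d - e, by rw [sub_smul, map_sub, ← this, add_sub_cancel_left]⟩
    choose fn hf using hback
    have hfinj : Function.Injective fn := fun l l' hll => hinjv (by
      show l • v = l' • v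
      rw [← hf l, ← hf l', hll])
    obtain ⟨l, hl⟩ := (Finite.injective_iff_surjective.1 hfinj) e
    exact hne l (hl ▸ hf l)
  -- a linear family of translations on the image of the line
  have hvv := B_self hM hB v
  obtain ⟨c₀, φ, hc₀, hφ1, hφv, htl⟩ : ∃ (c₀ : K) (φ : V →ₗ[K] K), (∀ e : K, g (c₀ • v) ≠ e • v) ∧
      φ (g (c₀ • v)) = 1 ∧ φ v = 0 ∧ ∀ l : K, ∃ t ∈ M, (∀ p : K, t (p • v) = p • v) ∧
        ∀ y : K, t (g (y • v)) = g (y • v) + (φ (g (y • v)) * l) • v := by
    by_cases hA : ∃ y : K, B (g (y • v)) v ≠ 0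
    · obtain ⟨y, hy⟩ := hA
      refine ⟨y, (B (g (y • v)) v)⁻¹ • B.flip v, fun e he => hy (by simp [he, hvv]),
        by simp [inv_mul_cancel₀ hy], by simp [hvv], fun l => ?_⟩
      obtain ⟨t, ht, -, htx⟩ := exists_S hM hB v 0 ((B (g (y • v)) v)⁻¹ * l) (by simp)
      refine ⟨t, ht, fun p => by simp [htx, hvv], fun y' => ?_⟩
      simp [htx, smul_smul]
      ring_nf
    · push Not at hA
      have hz : g (c₁ • v) ∉ Submodule.span K {v} := fun h => by
        obtain ⟨e, he⟩ := Submodule.mem_span_singleton.1 h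
        exact hc₁ e he.symm
      obtain ⟨φ, hφ1, hφ0⟩ := exists_dual_one _ hz
      have hφv : φ v = 0 := hφ0 v (Submodule.mem_span_singleton_self v)
      refine ⟨c₁, φ, hc₁, hφ1, hφv, fun l => ?_⟩
      obtain ⟨w, hw⟩ := exists_vec hM hB (l • φ)
      have hvw : B v w = 0 := by simp [hw, hφv]
      obtain ⟨t, ht, -, htx⟩ := exists_S hM hB v w 0 hvw
      refine ⟨t, ht, fun p => by simp [htx, hvv, hvw], fun y' => ?_⟩
      simp [htx, hA, hw, mul_comm]
  have htrans : ∀ (l : K) (y : K), y ∉ D → φ (g (y • v)) * l ∈ D → l ∈ D := by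
    intro l y hy hyl
    obtain ⟨t, ht, hfix, htx⟩ := htl l
    have hmap : (g⁻¹ * t * g) (y • v) = (y + φ (g (y • v)) * l) • v := by
      rw [mul_apply', mul_apply']
      apply g.injective
      rw [apply_inv', htx, add_smul, map_add, hgD _ hyl]
    obtain ⟨d, hd⟩ := claim (g⁻¹ * t * g) (mul_mem (mul_mem (inv_mem hg) ht) hg)
      (fun d hd => by
        rw [mul_apply', mul_apply', hgD d hd, hfix]
        conv_lhs => rw [← hgD d hd, inv_apply'])
      y hy _ hmap c₀
    rw [mul_apply', mul_apply'] at hd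
    have h2 := congrArg g hd
    rw [apply_inv', htx, hφ1, one_mul] at h2
    have h3 : g ((d - c₀) • v) = l • v := by
      rw [sub_smul, map_sub, ← h2, add_sub_cancel_left]
    by_cases hdD : d - c₀ ∈ D
    · rw [hgD _ hdD] at h3
      exact hinjv h3 ▸ hdD
    · obtain ⟨e, he⟩ := claim g hg hgD _ hdD l h3 c₀
      exact absurd he (hc₀ e)
  have hc₀D : c₀ ∉ D := fun h => hc₀ c₀ (hgD _ h)
  have hker : ∀ y : K, φ (g (y • v)) = 0 → y ∈ D := by
    intro y hy
    by_contra hyD
    obtain ⟨l, -, hl⟩ := SetLike.exists_of_lt (show D < ⊤ from lt_top_iff_ne_top.2 fun h => by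
      rw [h, finrank_top] at hD; omega)
    exact hl (htrans l y hyD (by rw [hy, zero_mul]; exact zero_mem D))
  obtain ⟨y, hyF⟩ : ∃ y : K, φ (g (y • v)) ∉ (⊥ : Subalgebra F K) := by
    by_contra hall
    push Not at hall
    have htop : (⊤ : Submodule F K) ≤ D ⊔ F ∙ c₀ := by
      intro y _
      obtain ⟨s, hs⟩ := Algebra.mem_bot.1 (hall y)
      have e1 : g ((s • c₀) • v) = algebraMap F K s • g (c₀ • v) := by
        rw [smul_assoc, LinearEquiv.map_smul, algebraMap_smul]
      have : y - s • c₀ ∈ D := hker _ (by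
        rw [sub_smul, map_sub, map_sub, ← hs, e1, map_smul, hφ1, smul_eq_mul, mul_one, sub_self])
      rw [← sub_add_cancel y (s • c₀)]
      exact Submodule.add_mem_sup this (Submodule.mem_span_singleton.2 ⟨s, rfl⟩)
    have h2 := Submodule.finrank_mono htop
    rw [finrank_top] at h2
    have h3 := Submodule.finrank_add_le_finrank_add_finrank D (F ∙ c₀)
    have h4 : finrank F (F ∙ c₀) = 1 := finrank_span_singleton (fun h => hc₀D (h ▸ zero_mem D))
    omega
  set t := φ (g (y • v)) with ht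
  have ht0 : t ≠ 0 := fun h => hyF (h ▸ zero_mem _)
  have hyD : y ∉ D := fun h => ht0 (by rw [ht, hgD y h, map_smul, hφv, smul_zero])
  have hstab : ∀ d ∈ D, t * d ∈ D := by
    have hsub : ∀ l, t * l ∈ D → l ∈ D := fun l hl => htrans l y hyD hl
    let fm : D →ₗ[F] D :=
      { toFun := fun d => ⟨t⁻¹ * d, hsub _ (by rw [mul_inv_cancel_left₀ ht0]; exact d.2)⟩
        map_add' := fun a b => Subtype.ext (mul_add _ _ _)
        map_smul' := fun s a => Subtype.ext (mul_smul_comm _ _ _) }
    have hf : Function.Injective fm := fun a b hab =>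
      Subtype.ext (mul_left_cancel₀ (inv_ne_zero ht0) (congrArg Subtype.val hab))
    intro d hd
    obtain ⟨d', hd'⟩ := (Finite.injective_iff_surjective.1 hf) ⟨d, hd⟩
    have : t⁻¹ * (d' : K) = d := congrArg Subtype.val hd'
    rw [← this, mul_inv_cancel_left₀ ht0]
    exact d'.2
  let S : Subalgebra F K :=
    { carrier := {a | ∀ d ∈ D, a * d ∈ D}
      mul_mem' := fun {a b} ha hb d hd => by rw [mul_assoc]; exact ha _ (hb d hd)
      one_mem' := fun d hd => by rwa [one_mul]
      add_mem' := fun {a b} ha hb d hd => by rw [add_mul]; exact add_mem (ha d hd) (hb d hd)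
      zero_mem' := fun d _ => by rw [zero_mul]; exact zero_mem D
      algebraMap_mem' := fun s d hd => by rw [← Algebra.smul_def]; exact D.smul_mem s hd }
  haveI := Subalgebra.isSimpleOrder_of_finrank_prime F K hM.prime
  rcases eq_bot_or_eq_top S with h | h
  · exact hyF (h ▸ (hstab : t ∈ S))
  · have : D = ⊤ := eq_top_iff.2 fun x _ => by
      have hx : x ∈ S := h ▸ Algebra.mem_top
      simpa using hx 1 h1
    rw [this, finrank_top] at hD
    omega

/-- The configuration reached by the induction. -/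
abbrev Config (M : Subgroup (V ≃ₗ[F] V)) (v : V) (lam : K →ₗ[F] F) (g : V ≃ₗ[F] V) : Prop :=
  ExtFieldMax.Config M v lam g

theorem exists_config (hM : Hyp K M f) :
    ∃ (v : V) (lam : K →ₗ[F] F) (g : V ≃ₗ[F] V), Config M v lam g := by
  obtain ⟨ψ₀, hψ₀, -⟩ := exists_dual_one (⊥ : Submodule F K) (z := (1 : K)) (by simp)
  obtain ⟨B, hB⟩ := exists_lift hM ψ₀ hψ₀
  obtain ⟨v₀, hv₀, hbase⟩ : ∃ v : V, v ≠ 0 ∧ Moves M v (F ∙ (1 : K)) := by
    obtain ⟨g, hg, v, c, hgc⟩ := hM.move
    have hv : v ≠ 0 := fun h => hgc 0 (by simp [h])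
    have hgv : g v ≠ 0 := (map_ne_zero_iff _ g.injective).2 hv
    obtain ⟨h, hh, he, hl⟩ := exists_transitive hM hB hgv hv
    refine ⟨v, hv, h * g, mul_mem hh hg, fun d hd => ?_, c, fun e he' => ?_⟩
    · obtain ⟨s, rfl⟩ := Submodule.mem_span_singleton.1 hd
      rw [smul_assoc, one_smul, mul_apply', LinearEquiv.map_smul, LinearEquiv.map_smul, he]
    · apply hgc e
      apply h.injective
      rw [mul_apply'] at he'
      rw [he', hl, he]
  have hr := hM.prime.two_le
  have hk : ∀ k, k + 2 ≤ finrank F K →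
      ∃ D : Submodule F K, (1 : K) ∈ D ∧ finrank F D = k + 1 ∧ Moves M v₀ D := by
    intro k
    induction k with
    | zero =>
      exact fun _ => ⟨_, Submodule.mem_span_singleton_self 1, finrank_span_singleton one_ne_zero, hbase⟩
    | succ k ih =>
      intro hk
      obtain ⟨D, h1, hd, hm⟩ := ih (by omega)
      obtain ⟨c, hc, hm'⟩ := moves_step hM hB hv₀ D h1 (by omega) hm
      refine ⟨_, Submodule.mem_sup_left h1, ?_, hm'⟩
      have h2 := Submodule.finrank_sup_add_finrank_inf_eq D (F ∙ c)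
      have hc0 : c ≠ 0 := fun h => hc (h ▸ zero_mem D)
      have h3 : D ⊓ F ∙ c = ⊥ := by
        rw [eq_bot_iff]
        rintro x ⟨hx, hx'⟩
        obtain ⟨s, rfl⟩ := Submodule.mem_span_singleton.1 hx'
        by_cases hs : s = 0
        · simp [hs]
        · exact absurd ((Submodule.smul_mem_iff _ hs).1 hx) hc
      rw [h3, finrank_bot, finrank_span_singleton hc0, hd] at h2
      omega
  obtain ⟨D, -, hd, g, hg, hgD, c, hc⟩ := hk (finrank F K - 2) (by omega)
  have hcD : c ∉ D := fun h => hc c (hgD c h)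
  obtain ⟨ψ, hψc, hψD⟩ := exists_dual_one D hcD
  let lam : K →ₗ[F] F := ψ.comp (LinearMap.mulRight F c)
  refine ⟨c • v₀, lam, g, hg, by simp [lam, hψc], fun d hd0 => ?_, fun e he => ?_⟩
  · have hker : LinearMap.ker ψ = D := by
      symm
      refine Submodule.eq_of_le_of_finrank_le (fun x hx => LinearMap.mem_ker.2 (hψD x hx)) ?_
      have h1 := LinearMap.finrank_range_add_finrank_ker ψ
      have h2 : finrank F (LinearMap.range ψ) = 1 := by
        rw [LinearMap.range_eq_top.2 fun s => ⟨s • c, by rw [map_smul, hψc, smul_eq_mul, mul_one]⟩,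
          finrank_top, finrank_self]
      omega
    rw [smul_smul]
    apply hgD
    rw [← hker]
    exact LinearMap.mem_ker.2 (by simpa [lam] using hd0)
  · exact hc (e * c) (by rw [he, mul_smul])

section
variable {v : V} {lam : K →ₗ[F] F} {g : V ≃ₗ[F] V} {B : V →ₗ[K] V →ₗ[K] K}
  (hM : Hyp K M f) (hC : Config M v lam g) (hB : Lifts f lam B)
include hM hC hB

theorem f_g (x y : V) : f (g⁻¹ x) y = f x (g y) := by
  conv_rhs => rw [← apply_inv' g x, hM.pres g hC.mem]

/-- `B v (g v)` is a scalar. -/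
theorem B_v_gv : B v (g v) = algebraMap F K (f v (g v)) := by
  refine tau_ext hC.one fun c => ?_
  rw [← hB.eq, mul_comm, ← Algebra.smul_def, LinearMap.map_smul lam, smul_eq_mul]
  have h1 : f ((c - algebraMap F K (lam c)) • v) (g v) = 0 := by
    rw [← hC.fix _ (hC.lam_sub c), hM.pres g hC.mem, hM.alt]
  rw [sub_smul, map_sub, LinearMap.sub_apply, sub_eq_zero, algebraMap_smul, LinearMap.map_smul,
    LinearMap.smul_apply, smul_eq_mul] at h1
  rw [h1, mul_comm]

/-- The same for the inverse. -/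
theorem B_inv_v : B (g⁻¹ v) v = algebraMap F K (f v (g v)) := by
  refine tau_ext hC.one fun c => ?_
  rw [← hB.eq, hM.adj, f_g hM hC hB, hC.g_line, map_add, LinearMap.map_smul, smul_eq_mul,
    show f v ((c - algebraMap F K (lam c)) • v) = 0 by rw [← hM.adj, hM.alt], zero_add,
    mul_comm c, ← Algebra.smul_def, map_smul, smul_eq_mul, mul_comm]

end

/-- An isotropic configuration, when the dimension is at least three. -/
theorem exists_iso {v : V} {lam : K →ₗ[F] F} {g : V ≃ₗ[F] V} (hM : Hyp K M f) (hC : Config M v lam g)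
    (h3 : 3 ≤ finrank K V) : ∃ g', Config M v lam g' ∧ f v (g' v) = 0 := by
  obtain ⟨B, hB⟩ := exists_lift hM lam hC.one
  by_cases hs : f v (g v) = 0
  · exact ⟨g, hC, hs⟩
  obtain ⟨w, hw, hw0⟩ := (Submodule.ne_bot_iff (LinearMap.ker ((B v).prod (B (g⁻¹ v))))).1 (fun h => by
    have h1 := LinearMap.finrank_range_add_finrank_ker ((B v).prod (B (g⁻¹ v)))
    rw [h, finrank_bot, add_zero] at h1
    have h2 := Submodule.finrank_le (LinearMap.range ((B v).prod (B (g⁻¹ v))))
    rw [Module.finrank_prod, finrank_self] at h2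
    omega)
  rw [LinearMap.mem_ker] at hw
  replace hw : B v w = 0 ∧ B (g⁻¹ v) w = 0 := Prod.mk_eq_zero.1 hw
  -- carry `g v` to `w - g⁻¹ v`
  set ι := algebraMap F K with hι
  have hvz := B_v_gv hM hC hB
  have hiv := B_inv_v hM hC hB
  have hs' : ι (f v (g v)) ≠ 0 := by simpa [hι] using hs
  have hvv := B_self hM hB v
  set z := g v
  set δ := (w - g⁻¹ v) - z with hδ
  have hδv : B v δ = 0 := by
    simp only [hδ, map_sub, hw.1, hvz, B_skew hM hB (g⁻¹ v) v, hiv]
    ring
  have hzv : B z v = - ι (f v (g v)) := by rw [B_skew hM hB v z, hvz]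
  set u := (B z v)⁻¹ • δ with hu
  obtain ⟨h, hh, hlin, hhx⟩ := exists_S hM hB v u (- (B z u) / B z v) (by simp [hu, hδv])
  have hfix : ∀ p : K, h (p • v) = p • v := fun p => by simp [hhx, hvv, hu, hδv]
  have hz : h z = w - g⁻¹ v := by
    rw [hhx, smul_add, smul_smul, mul_div_cancel₀ _ (by rw [hzv]; exact neg_ne_zero.2 hs'), neg_smul,
      hu, smul_smul (B z v), mul_inv_cancel₀ (by rw [hzv]; exact neg_ne_zero.2 hs'), one_smul, hδ]
    abel
  refine ⟨g * h * g, ⟨mul_mem (mul_mem hC.mem hh) hC.mem, hC.one, fun d hd => ?_, fun c hc => ?_⟩, ?_⟩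
  · rw [mul_apply', mul_apply', hC.fix d hd, hfix, hC.fix d hd]
  · rw [mul_apply', mul_apply', hz, map_sub, apply_inv'] at hc
    have hwc : w = g⁻¹ ((c + 1) • v) := by
      apply g.injective
      rw [apply_inv', add_smul, one_smul, ← hc, sub_add_cancel]
    have h1 := hw.1
    rw [hwc, hC.inv_line, map_add, map_smul, hvv, smul_zero, zero_add,
      ← algebraMap_smul K (lam (c + 1)) (g⁻¹ v), map_smul, B_skew hM hB (g⁻¹ v) v, hiv, smul_eq_mul,
      mul_neg, neg_eq_zero, mul_eq_zero] at h1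
    have hl : lam (c + 1) = 0 := by
      rcases h1 with h1 | h1
      · exact (map_eq_zero _).1 h1
      · exact absurd h1 hs'
    rw [hC.inv_line, hl, zero_smul, add_zero, map_zero, sub_zero] at hwc
    have h2 := hw.2
    rw [hwc, map_smul, smul_eq_mul, mul_eq_zero] at h2
    rcases h2 with h2 | h2
    · exact hw0 (by rw [hwc, h2, zero_smul])
    · exact hs' (by rw [← hiv, h2])
  · show f v ((g * h * g) v) = 0
    rw [mul_apply', mul_apply', hz, map_sub, apply_inv', map_sub, ← f_g hM hC hB,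
      f_eq hM hB, hw.2, map_zero, f_eq hM hB v v, hvv, map_zero, sub_zero]

theorem hua {G : AddSubgroup K} (h1 : (1 : K) ∈ G) (hinv : ∀ a ∈ G, a⁻¹ ∈ G) {a b : K} (ha : a ∈ G)
    (hb : b ∈ G) : a * b * a ∈ G := by
  by_cases ha0 : a = 0
  · simp [ha0, zero_mem G]
  by_cases hb0 : b = 0
  · simp [hb0, zero_mem G]
  by_cases hab : a * b = 1
  · rw [hab, one_mul]; exact ha
  have hba : b⁻¹ - a ≠ 0 := fun h => hab (by rw [← sub_eq_zero.1 h, inv_mul_cancel₀ hb0])
  have key : a * b * a = a - (a⁻¹ + (b⁻¹ - a)⁻¹)⁻¹ := by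
    have h2 : a⁻¹ + (b⁻¹ - a)⁻¹ = b⁻¹ / (a * (b⁻¹ - a)) := by field_simp; ring
    rw [h2, inv_div]
    field_simp
    ring
  rw [key]
  exact sub_mem ha (hinv _ (add_mem (hinv _ ha) (hinv _ (sub_mem (hinv _ hb) ha))))

set_option maxHeartbeats 800000 in
theorem case_iso {v : V} {lam : K →ₗ[F] F} {g : V ≃ₗ[F] V} (hM : Hyp K M f) (hC : Config M v lam g)
    (hs : f v (g v) = 0) : ∃ (u : V) (s : F), u ≠ 0 ∧ s ≠ 0 ∧ ∃ t ∈ M, ∀ x, t x = x + (s * f x u) • u := by
  classical
  obtain ⟨B, hB⟩ := exists_lift hM lam hC.one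
  have hr := hM.prime.two_le
  have hv := hC.ne_zero
  set ι := algebraMap F K with hι
  set z := g v with hzdef
  have hvv := B_self hM hB v
  have hvz : B v z = 0 := by rw [B_v_gv hM hC hB, hs, map_zero]
  have hiv : B (g⁻¹ v) v = 0 := by rw [B_inv_v hM hC hB, hs, map_zero]
  have hz : z ∉ Submodule.span K {v} := fun h => by
    obtain ⟨c, hc⟩ := Submodule.mem_span_singleton.1 h
    exact hC.moved c hc.symm
  obtain ⟨κ, hκ, hκ0⟩ : ∃ d, lam d = 0 ∧ d ≠ 0 := by
    obtain ⟨d, hd, hd0⟩ := (Submodule.ne_bot_iff (LinearMap.ker lam)).1 (fun h => by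
      have h1 := LinearMap.finrank_range_add_finrank_ker lam
      have h2 := Submodule.finrank_le (LinearMap.range lam)
      rw [h, finrank_bot, add_zero] at h1
      rw [finrank_self] at h2
      omega)
    exact ⟨d, LinearMap.mem_ker.1 hd, hd0⟩
  obtain ⟨φ, hφz, hφ0⟩ := exists_dual_one _ hz
  obtain ⟨w, hw⟩ := exists_vec hM hB (κ • φ)
  have hvw : B v w = 0 := by simp [hw, hφ0 v (Submodule.mem_span_singleton_self v)]
  have hzw : B z w = κ := by simp [hw, hφz]
  obtain ⟨ta, hta, -, htax⟩ := exists_S hM hB v w 0 hvw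
  obtain ⟨tb, htb, -, htbx⟩ := exists_S hM hB v 0 1 (by simp)
  let ρ : V →ₗ[F] K := ((B.flip v).restrictScalars F).comp (g⁻¹ : V ≃ₗ[F] V).toLinearMap
  have hρdef : ∀ x, ρ x = B (g⁻¹ x) v := fun x => rfl
  let b : V →ₗ[F] V := g.toLinearMap.comp (((LinearMap.toSpanSingleton K V v).restrictScalars F).comp ρ)
  have hb : ∀ x, b x = g (ρ x • v) := fun x => rfl
  let a : V →ₗ[F] V := ((LinearMap.toSpanSingleton K V w).comp (B.flip v) +
    (LinearMap.toSpanSingleton K V v).comp (B.flip w)).restrictScalars F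
  have ha : ∀ x, a x = B x v • w + B x w • v := fun x => rfl
  have hρv : ∀ c : K, ρ (c • v) = 0 := fun c => by
    rw [hρdef, hC.inv_line, map_add, LinearMap.add_apply, map_smul, LinearMap.smul_apply, hvv, smul_zero,
      zero_add, ← algebraMap_smul K (lam c) (g⁻¹ v), map_smul, LinearMap.smul_apply, hiv, smul_zero]
  have hρw : ∀ c : K, ρ (c • w) = - ι (lam (c * κ)) := fun c => by
    refine tau_ext hC.one fun e => ?_
    rw [hρdef, ← hB.eq, hM.adj, f_g hM hC hB, hC.g_line, map_add, LinearMap.map_smul (f (c • w)), smul_eq_mul,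
      hB.eq, hB.eq, map_smul, B_skew hM hB v w, hvw, neg_zero, smul_zero, mul_zero, map_zero, zero_add,
      B_skew hM hB z w, hzw, mul_neg, map_neg, mul_neg, mul_neg, map_neg,
      mul_comm e, hι, ← Algebra.smul_def, map_smul, smul_eq_mul]
    ring
  have hgl : ∀ p : K, B (g (p • v)) v = 0 ∧ B (g (p • v)) w = ι (lam p) * κ := fun p => by
    constructor
    · rw [hC.g_line, map_add, LinearMap.add_apply, map_smul, LinearMap.smul_apply, hvv, smul_zero, zero_add,
        ← algebraMap_smul K (lam p) (g v), map_smul, LinearMap.smul_apply, B_skew hM hB v (g v), hvz, neg_zero,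
        smul_zero]
    · rw [hC.g_line, map_add, LinearMap.add_apply, map_smul, LinearMap.smul_apply, hvw, smul_zero, zero_add,
        ← algebraMap_smul K (lam p) (g v), map_smul, LinearMap.smul_apply, hzw, smul_eq_mul]
  have hfu : ∀ x, f x (κ • v) = lam (B x v * κ) := fun x => by
    rw [← hM.adj, hB.eq, mul_comm]
  have hfz : ∀ x, f x z = lam (ρ x) := fun x => by
    rw [hρdef, ← f_eq hM hB, f_g hM hC hB]
  have hab : ∀ x, a (b x) = f x z • κ • v := fun x => by
    rw [ha, hb, (hgl _).1, (hgl _).2, zero_smul, zero_add, hfz, mul_smul, algebraMap_smul]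
  have hba : ∀ x, b (a x) = - (f x (κ • v) • z) := fun x => by
    rw [ha, map_add, hb, hb, hρv, hρw, zero_smul, map_zero, add_zero, neg_smul, map_neg, algebraMap_smul,
      LinearEquiv.map_smul, hfu]
  obtain ⟨E, hE, hEx⟩ : ∃ E ∈ M, ∀ x, E x = x + f x (κ • v) • z + (f x z + f x (κ • v)) • κ • v := by
    have htb' : ∀ x, (g * tb * g⁻¹) x = x + b x := fun x => by
      rw [mul_apply', mul_apply', htbx, hb]
      simp [hρdef, apply_inv']
    have haa : ∀ x, a (a x) = 0 := fun x => by
      simp [ha, hvv, hvw, B_skew hM hB v w, B_self hM hB w]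
    have hbb : ∀ x, b (b x) = 0 := fun x => by
      rw [hb, show ρ (b x) = 0 by rw [hρdef, hb, inv_apply', map_smul, LinearMap.smul_apply, hvv, smul_zero],
        zero_smul, map_zero]
    have hta' : ∀ x, ta x = x + a x := fun x => by rw [htax, ha, zero_smul, zero_add, add_assoc]
    refine ⟨ta * (g * tb * g⁻¹) * ta⁻¹ * (g * tb * g⁻¹)⁻¹,
      mul_mem (mul_mem (mul_mem hta (mul_mem (mul_mem hC.mem htb) (inv_mem hC.mem))) (inv_mem hta))
        (inv_mem (mul_mem (mul_mem hC.mem htb) (inv_mem hC.mem))), fun x => ?_⟩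
    have hai : ∀ x, ta⁻¹ x = x - a x := fun x => by
      apply ta.injective
      rw [apply_inv', hta', map_sub, haa]; abel
    have hbi : ∀ x, (g * tb * g⁻¹)⁻¹ x = x - b x := fun x => by
      apply (g * tb * g⁻¹).injective
      rw [apply_inv', htb', map_sub, hbb]; abel
    have haba : a (b (a x)) = - (f x (κ • v) • κ • v) := by
      rw [hba, map_neg, LinearMap.map_smul, ha, B_skew hM hB v z, hvz, neg_zero, zero_smul, zero_add, hzw]
    have hbab : b (a (b x)) = 0 := by
      rw [hab, LinearMap.map_smul, hb, hρv, zero_smul, map_zero, smul_zero]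
    have habab : a (b (a (b x))) = 0 := by rw [hbab, map_zero]
    rw [mul_apply', mul_apply', mul_apply', hbi, hai, htb', hta']
    simp only [map_add, map_sub, haa, hbb, hbab, habab, haba, map_zero]
    rw [hab, hba, add_smul]
    abel
  -- the orbit of `z` under the stabiliser of `v`
  have horb : ∀ p, B v p = 0 → p ∉ Submodule.span K {v} → ∃ h ∈ M, h (κ • v) = κ • v ∧ h z = p := by
    intro p hp hpn
    have key : ∀ {p q : V}, B v p = 0 → B v q = 0 → B p q ≠ 0 → ∃ h ∈ M, h (κ • v) = κ • v ∧ h p = q := by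
      intro p q hvp hvq hpq
      obtain ⟨h, hh, hl, hhx⟩ := exists_S hM hB (q - p) 0 (B p q)⁻¹ (by simp)
      refine ⟨h, hh, ?_, ?_⟩
      · rw [hl, hhx]; simp [hvp, hvq]
      · simp [hhx, map_sub, B_self hM hB, smul_smul, mul_inv_cancel₀ hpq]
    obtain ⟨φ', hφ'p, hφ'0⟩ := exists_dual_one _ hpn
    obtain ⟨χ, hχv, hχz, hχp⟩ : ∃ χ : V →ₗ[K] K, χ v = 0 ∧ χ z ≠ 0 ∧ χ p ≠ 0 := by
      have h1 : φ v = 0 := hφ0 v (Submodule.mem_span_singleton_self v)
      have h2 : φ' v = 0 := hφ'0 v (Submodule.mem_span_singleton_self v)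
      by_cases hA : φ p ≠ 0
      · exact ⟨φ, h1, by rw [hφz]; exact one_ne_zero, hA⟩
      by_cases hA' : φ' z ≠ 0
      · exact ⟨φ', h2, hA', by rw [hφ'p]; exact one_ne_zero⟩
      push Not at hA hA'
      exact ⟨φ + φ', by simp [h1, h2], by simp [hφz, hA'], by simp [hφ'p, hA]⟩
    obtain ⟨y, hy⟩ := exists_vec hM hB χ
    have hvy : B v y = 0 := by rw [hy, hχv]
    obtain ⟨h1, hh1, e1, e1'⟩ := key hvz hvy (by rw [hy]; exact hχz)
    obtain ⟨h2, hh2, e2, e2'⟩ := key hvy hp (by rw [B_skew hM hB p y, hy]; exact neg_ne_zero.2 hχp)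
    exact ⟨h2 * h1, mul_mem hh2 hh1, by rw [mul_apply', e1, e2], by rw [mul_apply', e1', e2']⟩
  have hEp : ∀ p, B v p = 0 → p ∉ Submodule.span K {v} →
      ∃ E ∈ M, ∀ x, E x = x + f x (κ • v) • p + (f x p + f x (κ • v)) • κ • v := by
    intro p hp hpn
    obtain ⟨h, hh, hu, hzp⟩ := horb p hp hpn
    refine ⟨h * E * h⁻¹, mul_mem (mul_mem hh hE) (inv_mem hh), fun x => ?_⟩
    have h1 : f (h⁻¹ x) (κ • v) = f x (κ • v) := by
      conv_rhs => rw [← apply_inv' h x, ← hu, hM.pres h hh]
    have h2 : f (h⁻¹ x) z = f x p := by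
      conv_rhs => rw [← apply_inv' h x, ← hzp, hM.pres h hh]
    rw [mul_apply', mul_apply', hEx, map_add h, map_add h, apply_inv', h1, h2, LinearEquiv.map_smul,
      LinearEquiv.map_smul, hu, hzp]
  have hknF : κ ≠ 0 ∧ κ + 1 ≠ 0 := ⟨hκ0, fun h => by
    have := congrArg lam h
    rw [map_add, hκ, hC.one, zero_add, map_zero] at this
    exact one_ne_zero this⟩
  have hp1 : κ • z ∉ Submodule.span K {v} := fun h => hz (by
    simpa [smul_smul, inv_mul_cancel₀ hκ0] using Submodule.smul_mem _ κ⁻¹ h)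
  have hp2 : (κ + 1) • z ∉ Submodule.span K {v} := fun h => hz (by
    simpa [smul_smul, inv_mul_cancel₀ hknF.2] using Submodule.smul_mem _ (κ + 1)⁻¹ h)
  obtain ⟨E₁, hE₁, hE₁x⟩ := hEp (κ • z) (by simp [hvz]) hp1
  obtain ⟨E₂, hE₂, hE₂x⟩ := hEp ((κ + 1) • z) (by simp [hvz]) hp2
  refine ⟨κ • v, 1, smul_ne_zero hκ0 hv, one_ne_zero, E * E₁ * E₂⁻¹,
    mul_mem (mul_mem hE hE₁) (inv_mem hE₂), fun x => ?_⟩
  obtain ⟨x, rfl⟩ := E₂.surjective x
  rw [mul_apply', mul_apply', inv_apply', hE₁x, hEx, hE₂x, one_mul]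
  have e1 : f (κ • v) (κ • v) = 0 := by rw [hfu, map_smul, LinearMap.smul_apply, hvv]; simp
  have e2 : f (κ • v) z = 0 := by rw [hB.eq, hvz, mul_zero, map_zero]
  have e3 : f (κ • z) (κ • v) = 0 := by
    rw [hfu, map_smul, LinearMap.smul_apply, B_skew hM hB v z, hvz]; simp
  have e4 : f (κ • z) z = 0 := hM.alt κ z
  have e5 : f ((κ + 1) • z) (κ • v) = 0 := by
    rw [hfu, map_smul, LinearMap.smul_apply, B_skew hM hB v z, hvz]; simp
  have e6 : (κ + 1) • z = κ • z + z := by rw [add_smul, one_smul]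
  have e7 : f (κ • v) (κ • z) = 0 := by rw [hB.eq, map_smul, hvz]; simp
  have e8 : f z (κ • v) = 0 := by rw [hfu, B_skew hM hB v z, hvz]; simp
  rw [e6] at e5 ⊢
  simp only [map_add, map_smul, LinearMap.add_apply, LinearMap.smul_apply, LinearEquiv.map_smul, smul_eq_mul,
    e1, e2, e3, e4, mul_zero, add_zero, zero_add, e7, e8, zero_smul, add_smul, smul_add]
  abel

set_option maxHeartbeats 800000 in
theorem case_hyp {v : V} {lam : K →ₗ[F] F} {g : V ≃ₗ[F] V} (hM : Hyp K M f) (hC : Config M v lam g)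
    (hr3 : 3 ≤ finrank F K) (hs : f v (g v) ≠ 0) (hdim : finrank K V = 2) :
    ∃ (u : V) (s : F), u ≠ 0 ∧ s ≠ 0 ∧ ∃ t ∈ M, ∀ x, t x = x + (s * f x u) • u := by
  classical
  obtain ⟨B, hB⟩ := exists_lift hM lam hC.one
  have hv := hC.ne_zero
  set ι := algebraMap F K with hι
  set z := g v with hzdef
  set σ := f v z with hσ
  have hvv := B_self hM hB v
  have hvz : B v z = ι σ := B_v_gv hM hC hB
  have hiv : B (g⁻¹ v) v = ι σ := B_inv_v hM hC hB
  have hzv : B z v = - ι σ := by rw [B_skew hM hB v z, hvz]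
  have hσK : ι σ ≠ 0 := by simpa [hι] using hs
  let φ : V →ₗ[K] K := (- ι σ)⁻¹ • B.flip v
  have hφ : ∀ x, φ x = (- ι σ)⁻¹ * B x v := fun x => rfl
  let ρ : V →ₗ[F] K := (((ι σ)⁻¹ • B.flip v).restrictScalars F).comp (g⁻¹ : V ≃ₗ[F] V).toLinearMap
  have hρdef : ∀ x, ρ x = (ι σ)⁻¹ * B (g⁻¹ x) v := fun x => rfl
  have hφv : φ v = 0 := by rw [hφ, hvv, mul_zero]
  have hφz : φ z = 1 := by rw [hφ, hzv, inv_mul_cancel₀ (neg_ne_zero.2 hσK)]
  have hρ : ∀ c : K, ρ (c • v) = ι (lam c) := fun c => by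
    rw [hρdef, hC.inv_line, map_add, LinearMap.add_apply, map_smul, LinearMap.smul_apply, hvv, smul_zero,
      zero_add, ← algebraMap_smul K (lam c) (g⁻¹ v), map_smul, LinearMap.smul_apply, hiv, smul_eq_mul, ← hι]
    field_simp
  have hρz : ρ z = 0 := by rw [hρdef, inv_apply', hvv, mul_zero]
  have hlι : ∀ s : F, lam (ι s) = s := fun s => by
    rw [hι, Algebra.algebraMap_eq_smul_one, map_smul, hC.one, smul_eq_mul, mul_one]
  have hlιm : ∀ (s : F) (p : K), lam (ι s * p) = s * lam p := fun s p => by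
    rw [hι, ← Algebra.smul_def, map_smul, smul_eq_mul]
  have hφd : ∀ x d, f x (d • v) = - σ * lam (φ x * d) := fun x d => by
    rw [← hM.adj, hB.eq, show d * B x v = ι (- σ) * (φ x * d) by
      rw [hφ, map_neg]; field_simp, hlιm]
  have hρd : ∀ x d, lam d = 0 → lam (ρ x * d) = - lam (φ x * d) := fun x d hd => by
    have h1 : f x (d • v) = σ * lam (ρ x * d) := by
      conv_lhs => rw [← hC.fix d hd, ← f_g hM hC hB, ← hM.adj, hB.eq,
        show d * B (g⁻¹ x) v = ι σ * (ρ x * d) by rw [hρdef]; field_simp, hlιm]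
    rw [hφd, neg_mul, ← mul_neg] at h1
    exact (mul_left_cancel₀ hs h1).symm
  -- commutators
  have hcomm : ∀ w d : K, lam d = 0 → ∃ k ∈ M, ∀ x, k x = x +
      (ι (lam (ρ x * d)) * w - ι (lam (φ x * w)) * d + ι (lam (ρ x * d)) * ι (lam w) * d) • v := by
    intro w d hd
    obtain ⟨ta, hta, -, htax⟩ := exists_S hM hB v 0 (w * (- ι σ)⁻¹) (by simp)
    obtain ⟨tb, htb, -, htbx⟩ := exists_S hM hB v 0 (d * (ι σ)⁻¹) (by simp)
    let a : V →ₗ[F] V := ((LinearMap.toSpanSingleton K V (w • v)).comp φ).restrictScalars F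
    let b : V →ₗ[F] V :=
      g.toLinearMap.comp (((LinearMap.toSpanSingleton K V (d • v)).restrictScalars F).comp ρ)
    have hb0 : ∀ x, b x = g ((ρ x * d) • v) := fun x => by simp [b, mul_smul]
    have hb : ∀ x, b x = (ρ x * d - ι (lam (ρ x * d))) • v + ι (lam (ρ x * d)) • z := fun x => by
      rw [hb0, hC.g_line, hι, algebraMap_smul]
    have ha : ∀ x, a x = (φ x * w) • v := fun x => by simp [a, mul_smul]
    have hab : ∀ x, a (b x) = (ι (lam (ρ x * d)) * w) • v := fun x => by
      rw [ha, hb, map_add, map_smul, map_smul, hφv, hφz]; simp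
    have hbline : ∀ p : K, b (p • v) = (ι (lam p) * d) • v := fun p => by
      rw [hb, hρ, hlιm, hd]; simp
    have hρb : ∀ x, ρ (b x) = 0 := fun x => by
      rw [hb0, hρdef, inv_apply', map_smul, LinearMap.smul_apply, hvv, smul_zero, mul_zero]
    obtain ⟨k, hk, hkx⟩ := exists_comm (M := M) hta
      (mul_mem (mul_mem hC.mem htb) (inv_mem hC.mem)) a b
      (fun x => by rw [htax, ha, hφ]; simp [smul_smul]; congr 1; ring_nf)
      (fun x => by
        rw [mul_apply', mul_apply', htbx, map_zero, zero_smul, add_zero, add_zero, map_add, apply_inv', smul_smul,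
          hb0, hρdef]
        congr 3
        ring)
      (fun x => by rw [ha, ha, map_smul, hφv]; simp)
      (fun x => by rw [hb, hρb]; simp)
      (fun x => by rw [ha x, hbline, ha, map_smul, hφv]; simp)
    refine ⟨k, hk, fun x => ?_⟩
    rw [hkx, hab, hbline, ha, hbline, hlιm, map_mul ι, ← sub_smul, ← add_smul]
  by_cases h2 : (2 : F) = 0
  swap
  · obtain ⟨d, hd, hd0⟩ : ∃ d, lam d = 0 ∧ d ≠ 0 := by
      obtain ⟨d, hd, hd0⟩ := (Submodule.ne_bot_iff (LinearMap.ker lam)).1 (fun h => by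
        have h1 := LinearMap.finrank_range_add_finrank_ker lam
        have h2 := Submodule.finrank_le (LinearMap.range lam)
        rw [h, finrank_bot, add_zero] at h1
        rw [finrank_self] at h2
        omega)
      exact ⟨d, LinearMap.mem_ker.1 hd, hd0⟩
    obtain ⟨k, hk, hkx⟩ := hcomm d d hd
    refine ⟨d • v, 2 / σ, smul_ne_zero hd0 hv, div_ne_zero h2 hs, k, hk, fun x => ?_⟩
    rw [hkx, hφd, hρd x d hd, hd, map_zero, mul_zero, zero_mul, add_zero, ← algebraMap_smul K _ (d • v),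
      smul_smul, show 2 / σ * (- σ * lam (φ x * d)) = -2 * lam (φ x * d) by field_simp]
    congr 2
    simp [← hι, map_neg, map_mul, map_ofNat ι 2]
    ring
  have hneg : ∀ s : F, -s = s := fun s => by linear_combination (-s) * h2
  have h2K : (2 : K) = 0 := by rw [← map_ofNat ι 2, h2, map_zero]
  let Λ : K →ₗ[F] K := (Algebra.linearMap F K).comp lam
  let T : K → (K →ₗ[F] K) := fun d => d • Λ.comp (LinearMap.mulRight F d)
  let Y : K → K → (K →ₗ[F] K) := fun p q => q • Λ.comp (LinearMap.mulRight F p) + p • Λ.comp (LinearMap.mulRight F q)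
  have hT : ∀ d p, T d p = d * ι (lam (p * d)) := fun d p => rfl
  have hY : ∀ a b p, Y a b p = b * ι (lam (p * a)) + a * ι (lam (p * b)) := fun a b p => rfl
  let E : AddSubgroup (K →ₗ[F] K) :=
    { carrier := {q | ∃ t ∈ M, ∀ x, t x = x + q (φ x) • v}
      add_mem' := by
        rintro f₁ f₂ ⟨s, hs, hsx⟩ ⟨t, ht, htx⟩
        refine ⟨s * t, mul_mem hs ht, fun x => ?_⟩
        rw [mul_apply', htx, hsx, map_add φ, map_smul φ, hφv, smul_zero, add_zero, LinearMap.add_apply,
          add_smul]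
        abel
      zero_mem' := ⟨1, one_mem M, fun x => by simp⟩
      neg_mem' := by
        rintro q ⟨t, ht, htx⟩
        refine ⟨t⁻¹, inv_mem ht, fun x => ?_⟩
        apply t.injective
        rw [apply_inv', htx, map_add φ, map_smul φ, hφv, smul_zero, add_zero, LinearMap.neg_apply, neg_smul]
        abel }
  -- the torus
  have hdec : ∀ x, x = (B x z * (ι σ)⁻¹) • v + φ x • z := fun x => by
    refine sub_eq_zero.1 (B_nondeg hM hB _ fun y => ?_)
    have hspan : Submodule.span K ({v, z} : Set V) = ⊤ := by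
      refine Submodule.eq_top_of_finrank_eq (le_antisymm (Submodule.finrank_le _) ?_)
      rw [hdim]
      by_contra hlt
      push Not at hlt
      have hle : Submodule.span K ({v} : Set V) ≤ Submodule.span K ({v, z} : Set V) :=
        Submodule.span_mono (by simp)
      have h1 := Submodule.finrank_mono hle
      rw [finrank_span_singleton hv] at h1
      have hzm : z ∈ Submodule.span K ({v} : Set V) :=
        Submodule.eq_of_le_of_finrank_le hle (by rw [finrank_span_singleton hv]; omega) ▸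
          Submodule.subset_span (by simp)
      obtain ⟨c, hc⟩ := Submodule.mem_span_singleton.1 hzm
      exact hC.moved c hc.symm
    obtain ⟨p, q, rfl⟩ := Submodule.mem_span_pair.1 (hspan ▸ Submodule.mem_top : y ∈ Submodule.span K {v, z})
    simp [hφ, hvv, hvz, hzv, B_self hM hB z]
    field_simp
    ring
  have htorus : ∀ c : K, c ≠ 0 → ∀ q ∈ E, c • q.comp (LinearMap.mulRight F c) ∈ E := by
    intro c hc q hq
    haveI : Finite V := Module.finite_of_finite K
    let T0 : V →ₗ[K] V :=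
      (LinearMap.toSpanSingleton K V ((c * (ι σ)⁻¹) • v)).comp (B.flip z) +
        (LinearMap.toSpanSingleton K V (c⁻¹ • z)).comp φ
    have hT0 : ∀ x, T0 x = (B x z * (c * (ι σ)⁻¹)) • v + (φ x * c⁻¹) • z := fun x => by simp [T0, smul_smul]
    have hpres : ∀ x y, B (T0 x) (T0 y) = B x y := fun x y => by
      conv_rhs => rw [hdec x, hdec y]
      simp [hT0, hvv, hvz, hzv, B_self hM hB z]
      field_simp
    have hinj : Function.Injective (T0.restrictScalars F) := by
      rw [injective_iff_map_eq_zero]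
      intro x hx
      refine B_nondeg hM hB x fun y => ?_
      rw [← hpres, show T0 x = 0 from hx, map_zero, LinearMap.zero_apply]
    let h : V ≃ₗ[F] V := LinearEquiv.ofBijective (T0.restrictScalars F) (Finite.injective_iff_bijective.1 hinj)
    have hh : h ∈ M := hM.lin h (fun e x => T0.map_smul e x) fun x y => by
      rw [f_eq hM hB, f_eq hM hB]; exact congrArg lam (hpres x y)
    have hφh : ∀ y, φ (h y) = φ y * c⁻¹ := fun y => by
      show φ (T0 y) = _
      rw [hT0, map_add, map_smul, map_smul, hφv, hφz]; simp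
    have hline : ∀ p : K, h (p • v) = (p * c) • v := fun p => by
      show T0 (p • v) = _
      rw [hT0, map_smul φ, hφv, map_smul, LinearMap.smul_apply, hvz]
      simp
      congr 1
      field_simp
    obtain ⟨t, ht, htx⟩ := hq
    refine ⟨h * t * h⁻¹, mul_mem (mul_mem hh ht) (inv_mem hh), fun x => ?_⟩
    rw [mul_apply', mul_apply', htx, map_add h, apply_inv', hline]
    have : φ (h⁻¹ x) = φ x * c := by
      have h1 := hφh (h⁻¹ x)
      rw [apply_inv'] at h1
      rw [h1, inv_mul_cancel_right₀ hc]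
    rw [this]
    congr 2
    simp [mul_comm]
  have hk : ∀ d, lam d = 0 → T d + Y 1 d ∈ E := fun d hd => by
    obtain ⟨k, hk, hkx⟩ := hcomm 1 d hd
    refine ⟨k, hk, fun x => ?_⟩
    rw [hkx, hρd x d hd, hneg, LinearMap.add_apply, hT, hY, mul_one (φ x), hC.one, map_one]
    congr 2
    grind
  have hfin : ∀ d : K, d ≠ 0 → T d ∈ E →
      ∃ (u : V) (s : F), u ≠ 0 ∧ s ≠ 0 ∧ ∃ t ∈ M, ∀ x, t x = x + (s * f x u) • u := by
    rintro d hd ⟨t, ht, htx⟩
    refine ⟨d • v, σ⁻¹, smul_ne_zero hd hv, inv_ne_zero hs, t, ht, fun x => ?_⟩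
    rw [htx, hφd, ← algebraMap_smul K _ (d • v), smul_smul, hT,
      show σ⁻¹ * (- σ * lam (φ x * d)) = - lam (φ x * d) by field_simp, hneg]
    congr 2
    rw [mul_comm]
  obtain ⟨d, hd, hd0⟩ : ∃ d, lam d = 0 ∧ d ≠ 0 := by
    obtain ⟨d, hd, hd0⟩ := (Submodule.ne_bot_iff (LinearMap.ker lam)).1 (fun h => by
      have h1 := LinearMap.finrank_range_add_finrank_ker lam
      have h2 := Submodule.finrank_le (LinearMap.range lam)
      rw [h, finrank_bot, add_zero] at h1
      rw [finrank_self] at h2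
      omega)
    exact ⟨d, LinearMap.mem_ker.1 hd, hd0⟩
  by_cases hq : ∃ s : F, s ≠ 0 ∧ s ≠ 1
  · obtain ⟨s, hs0, hs1⟩ := hq
    obtain ⟨r, hr⟩ : ∃ r : F, r * r = s := by
      obtain ⟨r, hr⟩ := FiniteField.isSquare_of_char_two (ringChar_two h2) s
      exact ⟨r, hr.symm⟩
    have hr0 : ι r ≠ 0 := by simp [hι]; rintro rfl; simp at hr; exact hs0 hr.symm
    have hsd : lam (ι s * d) = 0 := by rw [hlιm, hd, mul_zero]
    have h1 := sub_mem (hk _ hsd) (htorus (ι r) hr0 _ (hk d hd))
    have hne : s * s - s ≠ 0 := fun h =>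
      hs1 (mul_right_cancel₀ hs0 (by rw [one_mul]; exact sub_eq_zero.1 h))
    obtain ⟨r', hr'⟩ : ∃ r' : F, r' * r' = (s * s - s)⁻¹ := by
      obtain ⟨r', hr'⟩ := FiniteField.isSquare_of_char_two (ringChar_two h2) (s * s - s)⁻¹
      exact ⟨r', hr'.symm⟩
    have hr'0 : ι r' ≠ 0 := by simp [hι]; rintro rfl; simp at hr'; exact hne hr'.symm
    refine hfin d hd0 ?_
    convert htorus (ι r') hr'0 _ h1 using 1
    apply LinearMap.ext
    intro p
    have e1 : ∀ (a : F) (x y : K), ι (lam (x * ι a * y)) = ι a * ι (lam (x * y)) := fun a x y => by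
      rw [mul_right_comm, mul_comm _ (ι a), hlιm, map_mul ι]
    have e2 : ∀ (a : F) (x : K), ι (lam (x * ι a)) = ι a * ι (lam x) := fun a x => by
      rw [mul_comm, hlιm, map_mul ι]
    have hrr : ι r * ι r = ι s := by rw [← map_mul, hr]
    have hrr' : ι r' * ι r' * (ι s * ι s - ι s) = 1 := by
      rw [← map_mul, hr', ← map_mul, ← map_sub, ← map_mul, inv_mul_cancel₀ hne, map_one]
    show d * ι (lam (p * d)) = ι r' * ((T (ι s * d) + Y 1 (ι s * d)) (p * ι r') -
      ι r * (T d + Y 1 d) (p * ι r' * ι r))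
    simp only [LinearMap.add_apply, hT, hY, mul_one, e1, e2, ← mul_assoc]
    linear_combination (- (d * ι (lam (p * d)))) * hrr' +
      (ι r' * ι r' * (d * ι (lam (p * d)) + d * ι (lam p) + ι (lam (p * d)))) * hrr
  push Not at hq
  obtain ⟨e, he, hed⟩ := SetLike.exists_of_lt (show F ∙ d < LinearMap.ker lam from
    lt_of_le_of_ne ((Submodule.span_singleton_le_iff_mem _ _).2 (LinearMap.mem_ker.2 hd)) (fun h => by
      have h1 := LinearMap.finrank_range_add_finrank_ker lam
      have h2 := Submodule.finrank_le (LinearMap.range lam)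
      rw [← h, finrank_span_singleton hd0] at h1
      rw [finrank_self] at h2
      omega))
  rw [LinearMap.mem_ker] at he
  let G : AddSubgroup K :=
    { carrier := {c | Y 1 c ∈ E}
      add_mem' := fun {a b} (ha : Y 1 a ∈ E) (hb : Y 1 b ∈ E) => by
        show Y 1 (a + b) ∈ E
        convert add_mem ha hb using 1
        ext p
        simp [hY, mul_add, add_mul]
        ring
      zero_mem' := by
        show Y 1 0 ∈ E
        convert zero_mem E using 1
        ext p
        simp [hY]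
      neg_mem' := fun {a} (ha : Y 1 a ∈ E) => by
        show Y 1 (-a) ∈ E
        convert neg_mem ha using 1
        ext p
        simp [hY]
        ring }
  have hG1 : (1 : K) ∈ G := by
    show Y 1 1 ∈ E
    convert zero_mem E using 1
    ext p
    simp [hY]
    grind
  have hGinv : ∀ a ∈ G, a⁻¹ ∈ G := fun a (ha : Y 1 a ∈ E) => by
    by_cases h0 : a = 0
    · simp [h0, zero_mem G]
    show Y 1 a⁻¹ ∈ E
    convert htorus a⁻¹ (inv_ne_zero h0) _ ha using 1
    ext p
    simp [hY, mul_assoc, inv_mul_cancel₀ h0]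
    field_simp
    ring
  have hw : e / d ∈ G := by
    have hB' := sub_mem (sub_mem (hk (d + e) (by rw [map_add, hd, he, add_zero])) (hk d hd)) (hk e he)
    show Y 1 (e / d) ∈ E
    convert htorus d⁻¹ (inv_ne_zero hd0) _ hB' using 1
    ext p
    have hp : p * d⁻¹ * d = p := by rw [mul_assoc, inv_mul_cancel₀ hd0, mul_one]
    have hq' : p * d⁻¹ * e = p * (e / d) := by rw [div_eq_mul_inv]; ring
    simp [hT, hY, mul_add, hp, hq']
    field_simp
    ring
  let S : Subalgebra F K :=
    { carrier := G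
      mul_mem' := fun {a b} (ha : a ∈ G) (hb : b ∈ G) => by
        show a * b ∈ G
        let sqm : G → G := fun c => ⟨(c : K) * 1 * c, hua hG1 hGinv c.2 hG1⟩
        have hsur : Function.Surjective sqm := Finite.injective_iff_surjective.1 (fun c c' h => by
            have h' := congrArg Subtype.val h
            simp only [sqm, mul_one] at h'
            have : ((c : K) - c') * ((c : K) - c') = 0 := by linear_combination h' + ((c' : K) * c' - c * c') * h2K
            exact Subtype.ext (sub_eq_zero.1 (mul_self_eq_zero.1 this)))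
        obtain ⟨c, hc⟩ := hsur ⟨a, ha⟩
        have hc' : (c : K) * 1 * c = a := congrArg Subtype.val hc
        rw [← hc', mul_one, mul_right_comm]
        exact hua hG1 hGinv c.2 hb
      one_mem' := hG1
      add_mem' := fun ha hb => G.add_mem ha hb
      zero_mem' := G.zero_mem
      algebraMap_mem' := fun s => by
        show algebraMap F K s ∈ G
        by_cases hs0 : s = 0
        · rw [hs0, map_zero]; exact zero_mem G
        · rw [hq s hs0, map_one]; exact hG1 }
  haveI := Subalgebra.isSimpleOrder_of_finrank_prime F K hM.prime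
  rcases eq_bot_or_eq_top S with h | h
  · exfalso
    apply hed
    have hw' : e / d ∈ S := hw
    rw [h] at hw'
    obtain ⟨s, hs'⟩ := Algebra.mem_bot.1 hw'
    exact Submodule.mem_span_singleton.2 ⟨s, by rw [Algebra.smul_def, hs', div_mul_cancel₀ _ hd0]⟩
  · refine hfin d hd0 ?_
    have hdG : Y 1 d ∈ E := (h ▸ Algebra.mem_top : d ∈ S)
    convert sub_mem (hk d hd) hdG using 1
    abel

/-- There is a symplectic transvection in `M`. -/
theorem exists_transvection (hM : Hyp K M f) :
    ∃ (u : V) (s : F), u ≠ 0 ∧ s ≠ 0 ∧ ∃ t ∈ M, ∀ x, t x = x + (s * f x u) • u := by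
  obtain ⟨v, lam, g, hC⟩ := exists_config hM
  rcases hM.dim.eq_or_lt with h | h
  · by_cases hs : f v (g v) = 0
    · exact case_iso hM hC hs
    · exact case_hyp hM hC (hM.small h.symm) hs h.symm
  · obtain ⟨g', hC', hs⟩ := exists_iso hM hC h
    exact case_iso hM hC' hs

/-- All transvections with coefficient in the additive span of the squares. -/
theorem all_transvections (hM : Hyp K M f) (u : V) (s : F) :
    ∃ t ∈ M, ∀ x, t x = x + (s * f x u) • u := by
  classical
  obtain ⟨ψ₀, hψ₀, -⟩ := exists_dual_one (⊥ : Submodule F K) (z := (1 : K)) (by simp)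
  obtain ⟨B, hB⟩ := exists_lift hM ψ₀ hψ₀
  obtain ⟨u₀, s₀, hu₀, hs₀, t₀, ht₀, ht₀x⟩ := exists_transvection hM
  have hsymp : ∀ x, f x x = 0 := fun x => by simpa using hM.alt 1 x
  have base : ∀ y, ∃ t ∈ M, ∀ x, t x = x + (s₀ * f x y) • y := by
    intro y
    by_cases hy : y = 0
    · exact ⟨1, one_mem M, fun x => by simp [hy]⟩
    obtain ⟨h, hh, he, -⟩ := exists_transitive hM hB hu₀ hy
    refine ⟨h * t₀ * h⁻¹, mul_mem (mul_mem hh ht₀) (inv_mem hh), fun x => ?_⟩
    rw [mul_apply', mul_apply', ht₀x, map_add h, LinearEquiv.map_smul, apply_inv', he,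
      show f x y = f (h⁻¹ x) u₀ by conv_lhs => rw [← apply_inv' h x, ← he, hM.pres h hh]]
  let C : AddSubgroup F :=
    { carrier := {c | ∀ y, ∃ t ∈ M, ∀ x, t x = x + (c * f x y) • y}
      add_mem' := fun {a b} ha hb y => by
        obtain ⟨s, hs, hsx⟩ := ha y
        obtain ⟨t, ht, htx⟩ := hb y
        refine ⟨s * t, mul_mem hs ht, fun x => ?_⟩
        rw [mul_apply', htx, hsx]
        simp [hsymp, add_mul, add_smul]
        abel
      zero_mem' := fun y => ⟨1, one_mem M, fun x => by simp⟩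
      neg_mem' := fun {a} ha y => by
        obtain ⟨t, ht, htx⟩ := ha y
        refine ⟨t⁻¹, inv_mem ht, fun x => ?_⟩
        apply t.injective
        rw [apply_inv', htx]
        simp [hsymp] }
  have hsq : ∀ a : F, s₀ * (a * a) ∈ C := fun a y => by
    obtain ⟨t, ht, htx⟩ := base (a • y)
    refine ⟨t, ht, fun x => ?_⟩
    rw [htx, map_smul, smul_eq_mul, smul_smul]
    congr 2
    ring
  suffices s ∈ C from this u
  by_cases h2 : ringChar F = 2
  · obtain ⟨a, ha⟩ := FiniteField.isSquare_of_char_two h2 (s / s₀)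
    have := hsq a
    rwa [← ha, mul_div_cancel₀ _ hs₀] at this
  · have h2' : (2 : F) ≠ 0 := Ring.two_ne_zero h2
    have := C.sub_mem (hsq ((s / s₀ + 1) / 2)) (hsq ((s / s₀ - 1) / 2))
    convert this using 1
    field_simp
    ring

end Cfsg.Agent.ExtFieldSp
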