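import Cfsg.Prelude.Def_GeometricClasses
import Cfsg.Agent.Lib.ExtFieldSp
import Cfsg.Agent.Lib.TransvectionMax

set_option autoImplicit false
set_option linter.style.haveILetI false
set_option maxHeartbeats 1600000
set_option synthInstance.maxHeartbeats 400000
open Cfsg

namespace Cfsg.Agent.SympExtFieldMax97

open scoped Matrix MatrixGroups

/-- For a finite field F and m ≥ 3, let K be a subfield of the algebra of 2m × 2m matrices over F containing the scalars, of prime degree r over F, whose elements k are self-adjoint for the standard alternating form f on F^(2m) (f(k u, v) = f(u, k v)) and satisfy f(k v, v) = 0 for all v. Then the elements of Sp_2m(F) normalising K form a maximal subgroup of Sp_2m(F). -/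
theorem isMaximalIn_stab {F : Type*} [Field F] [Fintype F] (m : ℕ) (hm : 3 ≤ m) (r : ℕ) (hr : r.Prime) (K : Subalgebra F (Matrix (Fin m ⊕ Fin m) (Fin m ⊕ Fin m) F)) (hK : Cfsg.Geo.IsFieldSubalgebra r K) (hsa : Cfsg.Geo.IsSelfAdjointFor (Cfsg.sympForm m F) K) (halt : ∀ k ∈ K, ∀ v : (Fin m ⊕ Fin m → F), Cfsg.sympForm m F (Matrix.mulVec k v) v = 0) : Cfsg.Geo.IsMaximalIn (Cfsg.spGL m F) (Cfsg.Geo.subalgebraNormalizer K ⊓ Cfsg.spGL m F) := by
  classical
  let V := Fin m ⊕ Fin m → F
  have hf := TransvectionMax.sympForm_isSymplecticForm (F := F) m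
  haveI : Nonempty (Fin m ⊕ Fin m) := ⟨Sum.inl ⟨0, by omega⟩⟩
  letI : CommRing K :=
    { (inferInstance : Ring K) with mul_comm := fun x y => Subtype.ext (hK.comm _ x.2 _ y.2) }
  have hfld : IsField K := by
    refine ⟨⟨0, 1, zero_ne_one⟩, mul_comm, fun {x} hx => ?_⟩
    obtain ⟨y, hy, hxy⟩ := hK.inv x x.2 (fun h => hx (Subtype.ext h))
    exact ⟨⟨y, hy⟩, Subtype.ext hxy⟩
  letI : Field K := hfld.toField
  haveI : Finite K := Subtype.finite
  letI : Fintype K := Fintype.ofFinite K
  have hsmul : ∀ (e : K) (x : Fin m ⊕ Fin m → F), e • x = (e : Matrix (Fin m ⊕ Fin m) (Fin m ⊕ Fin m) F) *ᵥ x :=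
    fun e x => rfl
  haveI : IsScalarTower F K (Fin m ⊕ Fin m → F) := ⟨fun c e x => by
    rw [hsmul, hsmul, Subalgebra.coe_smul, Matrix.smul_mulVec]⟩
  haveI : FiniteDimensional K (Fin m ⊕ Fin m → F) := Module.Finite.of_restrictScalars_finite F K _
  let fl : (Fin m ⊕ Fin m → F) →ₗ[F] (Fin m ⊕ Fin m → F) →ₗ[F] F :=
    LinearMap.mk₂ F (Cfsg.sympForm m F) hf.bilinear.add_left hf.bilinear.smul_left hf.bilinear.add_right
      (fun c x y => hf.bilinear.smul_right c x y)
  have hfl : ∀ x y, fl x y = Cfsg.sympForm m F x y := fun x y => rfl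
  have hrank : r * Module.finrank K (Fin m ⊕ Fin m → F) = m + m := by
    have h := Module.finrank_mul_finrank F K (Fin m ⊕ Fin m → F)
    rw [show Module.finrank F K = r from hK.finrank_eq, Module.finrank_fintype_fun_eq_card, Fintype.card_sum,
      Fintype.card_fin] at h
    exact h
  have hdim : 2 ≤ Module.finrank K (Fin m ⊕ Fin m → F) := by
    by_contra hc
    push Not at hc
    haveI : Nonempty (Fin m ⊕ Fin m) := inferInstance
    obtain ⟨v, hv⟩ := exists_ne (0 : Fin m ⊕ Fin m → F)
    obtain ⟨⟨x, hx⟩, -⟩ := hf.nondegenerate v hv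
    have h1 : Module.finrank K (Fin m ⊕ Fin m → F) = 1 := by
      have : 0 < Module.finrank K (Fin m ⊕ Fin m → F) := Module.finrank_pos
      omega
    obtain ⟨c, hcx⟩ := exists_smul_eq_of_finrank_eq_one h1 hv x
    exact hx (by rw [← hcx, hsmul]; exact halt c c.2 v)
  let M₀ := Cfsg.spGL m F
  -- a transvection outside the normaliser
  have hwit : ¬ Cfsg.spGL m F ≤ Cfsg.Geo.subalgebraNormalizer K := by
    intro hle
    obtain ⟨u, hu⟩ := exists_ne (0 : Fin m ⊕ Fin m → F)
    obtain ⟨⟨y₀, hy₀⟩, -⟩ := hf.nondegenerate u hu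
    have hcomm : ∀ (k : K) y, Cfsg.sympForm m F ((k : K) • y) u • u = Cfsg.sympForm m F y u • ((k : K) • u) := by
      intro k y
      set T := TransvectionMax.st (Cfsg.sympForm m F) u 1 with hT
      have hTx : ∀ x, (T : Matrix (Fin m ⊕ Fin m) (Fin m ⊕ Fin m) F) *ᵥ x = x + Cfsg.sympForm m F x u • u :=
        fun x => by rw [hT, TransvectionMax.st_act hf, one_mul]
      let k' : K := ⟨_, ((hle (TransvectionMax.st_mem_spGL m u 1)) k).1 k.2⟩
      have hk' : ∀ x, k' • ((T : Matrix (Fin m ⊕ Fin m) (Fin m ⊕ Fin m) F) *ᵥ x) =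
          (T : Matrix (Fin m ⊕ Fin m) (Fin m ⊕ Fin m) F) *ᵥ (k • x) := fun x => by
        rw [hsmul, hsmul, Matrix.mulVec_mulVec, Matrix.mulVec_mulVec]
        show ((_ * _) * _ : Matrix _ _ F) *ᵥ x = _
        rw [Units.inv_mul_cancel_right]
      have hku : Cfsg.sympForm m F (k • u) u = 0 := by rw [hsmul]; exact halt k k.2 u
      have hkk : k' = k := by
        apply smul_left_injective K hu
        show k' • u = k • u
        have := hk' u
        rwa [hTx, hTx, hf.alternating, zero_smul, add_zero, hku, zero_smul, add_zero] at this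
      have := hk' y
      rw [hkk, hTx, hTx, smul_add, add_right_inj, ← algebraMap_smul K (Cfsg.sympForm m F y u) u,
        smul_comm, algebraMap_smul] at this
      exact this.symm
    have hbot : ∀ k ∈ K, k ∈ (⊥ : Subalgebra F (Matrix (Fin m ⊕ Fin m) (Fin m ⊕ Fin m) F)) := by
      intro k hk
      have h := hcomm ⟨k, hk⟩ ((Cfsg.sympForm m F y₀ u)⁻¹ • y₀)
      rw [hf.bilinear.smul_left, inv_mul_cancel₀ hy₀, one_smul,
        ← algebraMap_smul K (Cfsg.sympForm m F _ u) u] at h
      have h' : (⟨k, hk⟩ : K) = algebraMap F K (Cfsg.sympForm m F ((⟨k, hk⟩ : K) •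
          (Cfsg.sympForm m F y₀ u)⁻¹ • y₀) u) := smul_left_injective K hu h.symm
      exact Algebra.mem_bot.2 ⟨_, (congrArg Subtype.val h').symm⟩
    have := hK.finrank_eq
    rw [show K = ⊥ from eq_bot_iff.2 hbot, Subalgebra.finrank_bot] at this
    exact hr.one_lt.ne this
  refine ⟨lt_of_le_of_ne inf_le_right (fun h => hwit (h ▸ inf_le_left)), fun M h1 h2 => ?_⟩
  by_cases h : M ≤ Cfsg.Geo.subalgebraNormalizer K
  · exact Or.inl (le_antisymm (le_inf h h2) h1)
  obtain ⟨g₀, hg₀, hg₀N⟩ := SetLike.not_le_iff_exists.1 h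
  right
  refine le_antisymm h2 (TransvectionMax.spGL_le m fun u c => ?_)
  let M' : Subgroup ((Fin m ⊕ Fin m → F) ≃ₗ[F] (Fin m ⊕ Fin m → F)) :=
    { carrier := {g | ∃ G ∈ M, ∀ x, (G : Matrix (Fin m ⊕ Fin m) (Fin m ⊕ Fin m) F) *ᵥ x = g x}
      mul_mem' := by
        rintro a b ⟨A, hA, hAx⟩ ⟨B, hB, hBx⟩
        exact ⟨A * B, mul_mem hA hB, fun x => by rw [TransvectionMax.mul_act, hBx, hAx]; rfl⟩
      one_mem' := ⟨1, one_mem M, fun x => by rw [TransvectionMax.one_act]; rfl⟩
      inv_mem' := by
        rintro a ⟨A, hA, hAx⟩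
        refine ⟨A⁻¹, inv_mem hA, fun x => ?_⟩
        apply a.injective
        rw [← hAx, TransvectionMax.act_inv_act]
        exact (a.apply_symm_apply x).symm }
  have hHyp : ExtFieldSp.Hyp K M' fl := by
    refine ⟨?_, hdim, fun h2' => ?_, fun c x y => ?_, fun c x => ?_, fun x hx => ?_, fun g hlin hpres => ?_,
      fun g hg x y => ?_, ?_⟩
    · rw [show Module.finrank F K = r from hK.finrank_eq]; exact hr
    · rw [show Module.finrank F K = r from hK.finrank_eq]
      rw [h2'] at hrank
      omega
    · rw [hfl, hfl, hsmul, hsmul]; exact hsa c c.2 x y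
    · rw [hfl, hsmul]; exact halt c c.2 x
    · by_contra hne
      obtain ⟨-, y, hy⟩ := hf.nondegenerate x hne
      exact hy (hx y)
    · let G : GL (Fin m ⊕ Fin m) F :=
        ⟨LinearMap.toMatrix' g.toLinearMap, LinearMap.toMatrix' g.symm.toLinearMap,
          by rw [← LinearMap.toMatrix'_comp, LinearEquiv.comp_symm, LinearMap.toMatrix'_id],
          by rw [← LinearMap.toMatrix'_comp, LinearEquiv.symm_comp, LinearMap.toMatrix'_id]⟩
      have hG : ∀ x, (G : Matrix (Fin m ⊕ Fin m) (Fin m ⊕ Fin m) F) *ᵥ x = g x := fun x =>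
        LinearMap.toMatrix'_mulVec g.toLinearMap x
      refine ⟨G, h1 ⟨?_, ?_⟩, hG⟩
      · intro k
        have hconj : ∀ c : K, (G : Matrix (Fin m ⊕ Fin m) (Fin m ⊕ Fin m) F) *
            (c : Matrix (Fin m ⊕ Fin m) (Fin m ⊕ Fin m) F) * (G⁻¹ : GL (Fin m ⊕ Fin m) F) = c := by
          intro c
          rw [Units.mul_inv_eq_iff_eq_mul]
          apply Matrix.ext_iff_mulVec.mpr
          intro x
          rw [← Matrix.mulVec_mulVec, ← Matrix.mulVec_mulVec, hG, hG, ← hsmul, hlin, hsmul]
        constructor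
        · intro hk
          rw [hconj ⟨k, hk⟩]
          exact hk
        · intro hk
          have h := hconj ⟨_, hk⟩
          have := (Units.mul_right_inj G).1 ((Units.mul_left_inj G⁻¹).1 h)
          rw [← this]
          exact hk
      · intro x y
        show Cfsg.sympForm m F ((G : Matrix (Fin m ⊕ Fin m) (Fin m ⊕ Fin m) F) *ᵥ x)
          ((G : Matrix (Fin m ⊕ Fin m) (Fin m ⊕ Fin m) F) *ᵥ y) = _
        rw [hG, hG]
        exact hpres x y
    · obtain ⟨G, hG, hGx⟩ := hg
      rw [hfl, hfl, ← hGx, ← hGx]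
      exact h2 hG x y
    · by_contra hcon
      push Not at hcon
      apply hg₀N
      let g : (Fin m ⊕ Fin m → F) ≃ₗ[F] (Fin m ⊕ Fin m → F) :=
        LinearEquiv.ofBijective (Matrix.toLin' (g₀ : Matrix (Fin m ⊕ Fin m) (Fin m ⊕ Fin m) F))
          ((Finite.injective_iff_bijective).1 fun a b h =>
            TransvectionMax.act_injective g₀ (by simpa [Matrix.toLin'_apply] using h))
      have hgM : g ∈ M' := ⟨g₀, hg₀, fun x => (Matrix.toLin'_apply _ x).symm⟩
      have hline := hcon g hgM
      obtain ⟨v₀, hv₀⟩ := exists_ne (0 : Fin m ⊕ Fin m → F)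
      choose s hs using fun v c => hline v c
      -- the scalar does not depend on the vector
      have hs0 : ∀ v c, v ≠ 0 → s v c = s v₀ c := by
        have key : ∀ v w, v ≠ 0 → w ∉ Submodule.span K {v} → ∀ c, s v c = s w c := by
          intro v w hv hw c
          have hgvw : ∀ a b : K, a • g v + b • g w = 0 → b = 0 := by
            intro a b hab
            by_contra hb
            -- the line of `v` is mapped onto the line of `g v`
            have hinj : Function.Injective (s v) := fun c c' h => by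
              apply smul_left_injective K hv
              apply g.injective
              show g (c • v) = g (c' • v)
              rw [hs, hs, h]
            obtain ⟨e, he⟩ := (Finite.injective_iff_surjective.1 hinj) (-(b⁻¹ * a))
            apply hw
            refine Submodule.mem_span_singleton.2 ⟨e, g.injective ?_⟩
            rw [hs, he, neg_smul, mul_smul, ← smul_neg, inv_smul_eq_iff₀ hb]
            exact neg_eq_of_add_eq_zero_right hab
          have hgv : g v ≠ 0 := (map_ne_zero_iff _ g.injective).2 hv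
          have h := hs (v + w) c
          rw [smul_add, map_add, map_add, hs, hs, smul_add] at h
          have h' : (s v c - s (v + w) c) • g v + (s w c - s (v + w) c) • g w = 0 := by
            rw [sub_smul, sub_smul, sub_add_sub_comm, h, sub_self]
          have hb := hgvw _ _ h'
          rw [hb, zero_smul, add_zero] at h'
          rcases smul_eq_zero.1 h' with ha | ha
          · rw [sub_eq_zero.1 ha, sub_eq_zero.1 hb]
          · exact absurd ha hgv
        intro v c hv
        by_cases h : v ∈ Submodule.span K {v₀}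
        · obtain ⟨w, -, hw⟩ := SetLike.exists_of_lt
            (show Submodule.span K {v₀} < ⊤ from lt_top_iff_ne_top.2 fun hh => by
              have h1 := finrank_span_singleton (K := K) hv₀
              rw [hh, finrank_top] at h1
              omega)
          have hwv : w ∉ Submodule.span K {v} := fun hh =>
            hw ((Submodule.span_singleton_le_iff_mem _ _).2 h hh)
          rw [key v w hv hwv c, key v₀ w hv₀ hw c]
        · exact (key v₀ v hv₀ h c).symm
      let τ : K → K := s v₀
      have hτ : ∀ (c : K) x, g (c • x) = τ c • g x := by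
        intro c x
        by_cases hx : x = 0
        · simp [hx]
        · rw [hs, hs0 x c hx]
      intro k
      have hinj : Function.Injective τ := fun c c' h => by
        apply smul_left_injective K hv₀
        apply g.injective
        show g (c • v₀) = g (c' • v₀)
        rw [hτ, hτ, h]
      have hconj : ∀ c : K, (g₀ : Matrix (Fin m ⊕ Fin m) (Fin m ⊕ Fin m) F) * (c : Matrix (Fin m ⊕ Fin m) (Fin m ⊕ Fin m) F) *
          ((g₀⁻¹ : GL (Fin m ⊕ Fin m) F) : Matrix (Fin m ⊕ Fin m) (Fin m ⊕ Fin m) F) = (τ c : K) := by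
        intro c
        rw [Units.mul_inv_eq_iff_eq_mul]
        apply Matrix.ext_iff_mulVec.mpr
        intro x
        rw [← Matrix.mulVec_mulVec, ← Matrix.mulVec_mulVec, ← hsmul, ← hsmul]
        exact (Matrix.toLin'_apply _ _).symm.trans
          ((hτ c x).trans (congrArg (τ c • ·) (Matrix.toLin'_apply _ _)))
      constructor
      · intro hk
        rw [show k = ((⟨k, hk⟩ : K) : Matrix (Fin m ⊕ Fin m) (Fin m ⊕ Fin m) F) from rfl, hconj]
        exact (τ ⟨k, hk⟩).2
      · intro hk
        obtain ⟨c, hc⟩ := (Finite.injective_iff_surjective.1 hinj) ⟨_, hk⟩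
        have h := hconj c
        rw [hc] at h
        have := (Units.mul_right_inj g₀).1 ((Units.mul_left_inj g₀⁻¹).1 h)
        rw [← this]
        exact c.2
  obtain ⟨g, ⟨G, hG, hGx⟩, hg⟩ := ExtFieldSp.all_transvections hHyp u c
  convert hG using 1
  refine TransvectionMax.gl_ext fun x => ?_
  rw [TransvectionMax.st_act hf, hGx, hg, hfl]

end Cfsg.Agent.SympExtFieldMax97
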