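import Cfsg.Agent.Lib.TensorMaxGlue
import Cfsg.Agent.Lib.OmegaGeo

/-!
Pulling an orthogonal commutator group back along a tensor decomposition.
-/

set_option autoImplicit false

namespace Cfsg.Agent.TensorMaxGlue

open scoped Matrix MatrixGroups
open QuadraticMap

variable {F : Type*} [Field F] {ι : Type} [Fintype ι] [DecidableEq ι] {k l : ℕ}

theorem omegaGL_eq {κ : Type} [Fintype κ] [DecidableEq κ] (Q : (κ → F) → F) :
    Cfsg.Geo.omegaGL Q = ⁅Cfsg.isometryGroup F Q, Cfsg.isometryGroup F Q⁆ := by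
  show (commutator (Cfsg.isometryGroup F Q)).map _ = _
  rw [commutator_def, Subgroup.map_commutator, ← MonoidHom.range_eq_map, Subgroup.range_subtype]

/-- The coordinate map of a tensor decomposition. -/
def psi (e : ι ≃ Fin k × Fin l) (P : GL ι F) : (Fin k × Fin l → F) →ₗ[F] (ι → F) :=
  (Matrix.mulVecLin (P : Matrix ι ι F)).comp (LinearMap.funLeft F F e)

theorem psi_apply (e : ι ≃ Fin k × Fin l) (P : GL ι F) (x : Fin k × Fin l → F) :
    psi e P x = (P : Matrix ι ι F) *ᵥ (x ∘ e) := rfl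

theorem psi_surjective (e : ι ≃ Fin k × Fin l) (P : GL ι F) : Function.Surjective (psi e P) := fun v =>
  ⟨(((P⁻¹ : GL ι F) : Matrix ι ι F) *ᵥ v) ∘ e.symm, by
    rw [psi_apply, show ((((P⁻¹ : GL ι F) : Matrix ι ι F) *ᵥ v) ∘ e.symm) ∘ e =
      ((P⁻¹ : GL ι F) : Matrix ι ι F) *ᵥ v from funext fun i => by simp, Matrix.mulVec_mulVec, Units.mul_inv,
      Matrix.one_mulVec]⟩

theorem psi_injective (e : ι ≃ Fin k × Fin l) (P : GL ι F) : Function.Injective (psi e P) := fun x y h => by
  have h1 := Matrix.mulVec_injective_of_isUnit P.isUnit h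
  funext p
  simpa [LinearMap.funLeft] using congrFun h1 (e.symm p)

theorem phi_psi (e : ι ≃ Fin k × Fin l) (P : GL ι F) (g : GL (Fin k × Fin l) F) (x : Fin k × Fin l → F) :
    (phi e P g : Matrix ι ι F) *ᵥ psi e P x =
      psi e P ((g : Matrix (Fin k × Fin l) (Fin k × Fin l) F) *ᵥ x) :=
  phi_mulVec e P g x

theorem comap_omegaGL (e : ι ≃ Fin k × Fin l) (P : GL ι F) (q : QuadraticForm F (ι → F)) :
    (Cfsg.Geo.omegaGL ⇑q).comap (phi e P).toMonoidHom = Cfsg.Geo.omegaGL ⇑(q.comp (psi e P)) := by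
  have hI : (Cfsg.isometryGroup F ⇑(q.comp (psi e P))).map (phi e P).toMonoidHom = Cfsg.isometryGroup F ⇑q := by
    ext g
    constructor
    · rintro ⟨g, hg, rfl⟩ v w
      obtain ⟨x, rfl⟩ := psi_surjective e P v
      show q ((phi e P g : Matrix ι ι F) *ᵥ psi e P x) = q (psi e P x)
      rw [phi_psi]
      exact hg x x
    · intro hg
      refine ⟨(phi e P).symm g, fun x _ => ?_, (phi e P).apply_symm_apply g⟩
      show q (psi e P (((phi e P).symm g : Matrix (Fin k × Fin l) (Fin k × Fin l) F) *ᵥ x)) = q (psi e P x)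
      rw [← phi_psi, MulEquiv.apply_symm_apply]
      exact hg (psi e P x) (psi e P x)
  rw [omegaGL_eq, omegaGL_eq, ← hI, ← Subgroup.map_commutator, Subgroup.comap_map_eq_self_of_injective]
  exact (phi e P).injective

theorem nondeg_comp (e : ι ≃ Fin k × Fin l) (P : GL ι F) (q : QuadraticForm F (ι → F))
    (h : (polarBilin q).Nondegenerate) : (polarBilin (q.comp (psi e P))).Nondegenerate := by
  have hp : ∀ x y, polar (q.comp (psi e P)) x y = polar q (psi e P x) (psi e P y) := fun x y => by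
    simp [QuadraticMap.polar, map_add]
  refine ⟨fun x hx => psi_injective e P ?_, fun x hx => psi_injective e P ?_⟩ <;> rw [map_zero]
  · refine h.1 _ fun v => ?_
    obtain ⟨y, rfl⟩ := psi_surjective e P v
    rw [polarBilin_apply_apply, ← hp]
    exact hx y
  · refine h.2 _ fun v => ?_
    obtain ⟨y, rfl⟩ := psi_surjective e P v
    rw [polarBilin_apply_apply, ← hp]
    exact hx y

end Cfsg.Agent.TensorMaxGlue
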