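import Cfsg.Agent.Lib.TensorMaxRuler
import Cfsg.Agent.Lib.TransvectionSymp

/-!
Tensor stabilisers whose second factor is symplectic: the hypotheses of the ruler theorem and the choice of roots
for the descent.
-/

set_option autoImplicit false
set_option linter.unusedSectionVars false

namespace Cfsg.Agent.TensorMax

open scoped Matrix MatrixGroups Kronecker
open Cfsg.Agent.TransvectionMax

variable {F : Type*} [Field F] {n k l : ℕ}

theorem sform_symp {f : (Fin n → F) → (Fin n → F) → F} (h : Cfsg.Geo.IsSymplecticForm f) :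
    SForm (RingHom.id F) (-1) f where
  add_left := h.bilinear.add_left
  smul_left := h.bilinear.smul_left
  herm x y := by rw [RingHom.id_apply, neg_one_mul, h.skew y x]
  invol _ := rfl
  eps := by simp
  nd x hx := by
    by_contra h0
    obtain ⟨y, hy⟩ := (h.nondegenerate x h0).2
    exact hy (hx y)

theorem sform_symm {f : (Fin n → F) → (Fin n → F) → F} (h : Cfsg.Geo.IsSymmetricForm f) :
    SForm (RingHom.id F) 1 f where
  add_left := h.bilinear.add_left
  smul_left := h.bilinear.smul_left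
  herm x y := by rw [RingHom.id_apply, one_mul, h.symm y x]
  invol _ := rfl
  eps := by simp
  nd x hx := by
    by_contra h0
    obtain ⟨y, hy⟩ := (h.nondegenerate x h0).2
    exact hy (hx y)

/-- A vector orthogonal to finitely many vectors. -/
theorem exists_perp {σ : F →+* F} {ε : F} {f : (Fin n → F) → (Fin n → F) → F} (h : SForm σ ε f) {m : ℕ}
    (hm : m < n) (v : Fin m → Fin n → F) : ∃ b : Fin n → F, b ≠ 0 ∧ ∀ i, f b (v i) = 0 := by
  let L : (Fin n → F) →ₗ[F] (Fin m → F) :=
    { toFun := fun b i => f b (v i)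
      map_add' := fun x y => funext fun i => h.add_left x y _
      map_smul' := fun c x => funext fun i => h.smul_left c x _ }
  obtain ⟨b, hb, hb0⟩ := Submodule.exists_mem_ne_zero_of_ne_bot (p := LinearMap.ker L) (fun e => by
    have := LinearMap.finrank_range_add_finrank_ker L
    have h2 := Submodule.finrank_le (LinearMap.range L)
    rw [e, finrank_bot, Module.finrank_fin_fun] at this
    rw [Module.finrank_fin_fun] at h2
    omega)
  exact ⟨b, hb0, fun i => congrFun (show L b = 0 from hb) i⟩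

section Symp

variable {f₂ : (Fin l → F) → (Fin l → F) → F} (hf₂ : Cfsg.Geo.IsSymplecticForm f₂)
include hf₂

/-- A vector orthogonal to some vectors outside a subspace of smaller codimension. -/
theorem exists_perp_notMem {m : ℕ} (v : Fin m → Fin l → F) (W : Submodule F (Fin l → F))
    (h : Module.finrank F W + m < l) : ∃ b : Fin l → F, (∀ i, f₂ b (v i) = 0) ∧ b ∉ W := by
  let L : (Fin l → F) →ₗ[F] (Fin m → F) :=
    { toFun := fun b i => f₂ b (v i)
      map_add' := fun x y => funext fun i => hf₂.bilinear.add_left x y _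
      map_smul' := fun c x => funext fun i => hf₂.bilinear.smul_left c x _ }
  have h1 := LinearMap.finrank_range_add_finrank_ker L
  have h2 := Submodule.finrank_le (LinearMap.range L)
  rw [Module.finrank_fin_fun] at h1 h2
  obtain ⟨b, hb, hbW⟩ := SetLike.not_le_iff_exists.1 (fun hle : LinearMap.ker L ≤ W => by
    have := Submodule.finrank_mono hle
    omega)
  exact ⟨b, fun i => congrFun (show L b = 0 from hb) i, hbW⟩

theorem finrank_pair (a c : Fin l → F) : Module.finrank F (Submodule.span F ({a, c} : Set (Fin l → F))) ≤ 2 := by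
  classical
  refine (finrank_span_le_card ({a, c} : Set (Fin l → F))).trans ?_
  rw [Set.toFinset_insert, Set.toFinset_singleton]
  exact Finset.card_le_two

/-- The transvection as an element of the tensor product. -/
theorem el_root {M : Subgroup (GL (Fin k × Fin l) F)} (hst : ∀ b z, kr (1 : GL (Fin k) F) (st f₂ b z) ∈ M)
    (b : Fin l → F) (z : F) : El M (z • SOp f₂ b 1 b) := by
  refine ⟨_, hst b z, LinearMap.ext fun u => ?_⟩
  rw [tp_decomp u, map_sum, map_sum]
  refine Finset.sum_congr rfl fun i _ => ?_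
  rw [Matrix.toLin'_apply, kr_tp, Units.val_one, Matrix.one_mulVec, st_act hf₂, LinearMap.add_apply,
    Module.End.one_apply, LinearMap.smul_apply, SOp_apply, Pf_tp (sform_symp hf₂), Module.End.one_apply, tp_add_right,
    tp_smul_right, tp_smul_left, smul_smul]

theorem move_symp {M : Subgroup (GL (Fin k × Fin l) F)} (hst : ∀ b z, kr (1 : GL (Fin k) F) (st f₂ b z) ∈ M)
    {a c : Fin l → F} (ha : a ≠ 0) (hc : c ≠ 0) : ∃ β : GL (Fin l) F, kr (1 : GL (Fin k) F) β ∈ M ∧
      (∀ x y, f₂ ((β : Matrix (Fin l) (Fin l) F) *ᵥ x) ((β : Matrix (Fin l) (Fin l) F) *ᵥ y) = f₂ x y) ∧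
      (β : Matrix (Fin l) (Fin l) F) *ᵥ a = c := by
  obtain ⟨z, hza, hzc⟩ := exists_common hf₂ ha hc
  refine ⟨st f₂ (c - z) (f₂ z c)⁻¹ * st f₂ (z - a) (f₂ a z)⁻¹, ?_, fun x y => ?_, ?_⟩
  · rw [show kr (1 : GL (Fin k) F) (st f₂ (c - z) (f₂ z c)⁻¹ * st f₂ (z - a) (f₂ a z)⁻¹) =
      kr 1 (st f₂ (c - z) (f₂ z c)⁻¹) * kr 1 (st f₂ (z - a) (f₂ a z)⁻¹) by rw [kr_mul, one_mul]]
    exact M.mul_mem (hst _ _) (hst _ _)
  · rw [mul_act, mul_act, st_preserves hf₂, st_preserves hf₂]
  · rw [mul_act, st_move hf₂ (fun e => hza (by rw [hf₂.skew, e, neg_zero])), st_move hf₂ hzc]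

/-- The context for a symplectic second factor. -/
theorem ctx_symp {ε₁ : F} {f₁ : (Fin k → F) → (Fin k → F) → F} {M : Subgroup (GL (Fin k × Fin l) F)}
    (h₁ : SForm (RingHom.id F) ε₁ f₁) (hk : 0 < k) (hl : 6 ≤ l)
    (hst : ∀ b z, kr (1 : GL (Fin k) F) (st f₂ b z) ∈ M)
    (hpres : ∀ g ∈ M, ∀ u w, tForm (RingHom.id F) f₁ f₂
      ((g : Matrix (Fin k × Fin l) (Fin k × Fin l) F) *ᵥ u) ((g : Matrix (Fin k × Fin l) (Fin k × Fin l) F) *ᵥ w) =
        tForm (RingHom.id F) f₁ f₂ u w) :
    Ctx (RingHom.id F) ε₁ (-1) f₁ f₂ M where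
  h₁ := h₁
  h₂ := sform_symp hf₂
  hk := hk
  sgn := Or.inr rfl
  adm := ⟨1, one_ne_zero, by simp⟩
  pres := hpres
  root b _ z _ := el_root hf₂ hst b z
  move a c ha hc := move_symp hf₂ hst ha.1 hc.1
  span_perp a ha w hw := by
    refine eq_smul_of_perp_le hf₂ ha.1 fun b hb => ?_
    rw [hf₂.skew, hw b (hf₂.alternating b) hb, neg_zero]
  span_iso := by
    rw [show {b | f₂ b b = 0} = Set.univ from Set.eq_univ_of_forall hf₂.alternating, Submodule.span_univ]
  meet a b _ _ := by
    obtain ⟨c, hc, hc'⟩ := exists_perp (sform_symp hf₂) (show 2 < l by omega) ![a, b]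
    exact ⟨c, ⟨hc, hf₂.alternating c⟩, hc' 0, hc' 1⟩
  partner a c b _ _ _ _ hb := by
    obtain ⟨b', hb', hbb'⟩ := TransvectionSymp.exists_perp_ne hf₂ (W := Submodule.span F ({a, c} : Set (Fin l → F)))
      (x := b) (fun h => by
        obtain ⟨x, y, e⟩ := Submodule.mem_span_pair.1 h
        exact hb x y e.symm)
    have hb0 : b' ≠ 0 := fun e => hbb' (by rw [e]; exact (sform_symp hf₂).zero_right b)
    exact ⟨b', ⟨hb0, hf₂.alternating b'⟩, TransvectionSymp.skew_zero hf₂ (hb' a (Submodule.subset_span (by simp))),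
      TransvectionSymp.skew_zero hf₂ (hb' c (Submodule.subset_span (by simp))),
      TransvectionSymp.skew_ne hf₂ hbb'⟩
  third a b _ _ := by
    obtain ⟨c, hc, hcW⟩ := exists_perp_notMem hf₂ ![a, b] (Submodule.span F ({a, b} : Set (Fin l → F)))
      (by have := finrank_pair hf₂ a b; omega)
    exact ⟨c, ⟨fun e => hcW (e ▸ Submodule.zero_mem _), hf₂.alternating c⟩, hc 0, hc 1,
      fun x y e => hcW (Submodule.mem_span_pair.2 ⟨x, y, e.symm⟩)⟩
  four a b c _ _ _ _ _ _ := by
    obtain ⟨d, hd, hdW⟩ := exists_perp_notMem hf₂ ![a, b, c] (Submodule.span F ({a} : Set (Fin l → F)))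
      (by
        have : Module.finrank F (Submodule.span F ({a} : Set (Fin l → F))) ≤ 1 :=
          (finrank_span_le_card ({a} : Set (Fin l → F))).trans (by simp)
        omega)
    exact ⟨d, ⟨fun e => hdW (e ▸ Submodule.zero_mem _), hf₂.alternating d⟩, hd 0, hd 1, hd 2,
      fun x e => hdW (Submodule.mem_span_singleton.2 ⟨x, e.symm⟩)⟩

/-- The descent for a symplectic second factor with `k + 2 ≤ l`. -/
theorem symp_le_kron {ε₁ : F} {f₁ : (Fin k → F) → (Fin k → F) → F} {M : Subgroup (GL (Fin k × Fin l) F)}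
    (C : Ctx (RingHom.id F) ε₁ (-1) f₁ f₂ M) (hcrit : Ctx.Crit M f₁ f₂ (-1)) (hkl : k + 2 ≤ l)
    (hst : ∀ b z, kr (1 : GL (Fin k) F) (st f₂ b z) ∈ M) : M ≤ Cfsg.Geo.kroneckerSubgroup k l F := by
  classical
  have h₂ := sform_symp hf₂
  have hrow : ∀ b, row f₂ b ⬝ᵥ b = 0 := fun b => by rw [h₂.row_dot, hf₂.alternating]
  have hxr : ∀ b : Fin l → F, xr k b (row f₂ b) = kr (1 : GL (Fin k) F) (st f₂ b 1) := fun b => by
    rw [xr, st, one_smul, ft]
  let Root : (Fin l → F) → (Fin l → F) → Prop := fun b ψ => b ≠ 0 ∧ ψ = row f₂ b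
  refine le_of_pick (H := Cfsg.Geo.kroneckerSubgroup k l F) (by omega) C.hk le_rfl (fun g _ hg => hg) Root ?_
    (b₀ := Pi.single ⟨0, by omega⟩ 1) (ψ₀ := row f₂ (Pi.single ⟨0, by omega⟩ 1)) ⟨by simp, rfl⟩ ?_ ?_
  · rintro b _ ⟨hb, rfl⟩
    refine ⟨hb, fun e => ?_, hrow b, by rw [hxr]; exact hst b 1⟩
    refine hb (h₂.nd b fun y => h₂.symm_zero ?_)
    rw [← h₂.row_dot, e, zero_dotProduct]
  · intro g hg b ψ c hr hmap
    exact C.toCtx0.mem_kron (fun _ ha _ hadj h => C.centre_scalar hcrit ha hadj h)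
      (fun _ _ hp _ ht hts _ _ hadj h => C.rho_scalar hcrit hp ht hts hadj h) ⟨hr.1, hf₂.alternating b⟩ hg hmap
  · intro g _ b ψ hr c χ hc A hA hAc
    set G := (Matrix.toLin' (g : Matrix (Fin k × Fin l) (Fin k × Fin l) F)).comp (J (k := k) b) with hG
    set A₀ := (A.map (J c)).comap G with hA₀
    have hGinj : Function.Injective G := fun u v e => J_injective hr.1 (act_injective g (by simpa [hG] using e))
    have hA₀A : Module.finrank F A₀ = Module.finrank F A := by
      have e : A₀.map G = A.map (J c) := by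
        rw [hA₀, Submodule.map_comap_eq, inf_eq_right]
        rintro _ ⟨v, hv, rfl⟩
        obtain ⟨w, hw⟩ := hAc v hv
        exact ⟨w, by simpa [hG, J_apply] using hw⟩
      calc Module.finrank F A₀ = Module.finrank F (A₀.map G) :=
            (Submodule.equivMapOfInjective G hGinj A₀).finrank_eq
        _ = Module.finrank F (A.map (J c)) := by rw [e]
        _ = Module.finrank F A := ((Submodule.equivMapOfInjective _ (J_injective hc.1) A).finrank_eq).symm
    obtain ⟨v₀, hv₀⟩ : ∃ v₀, v₀ ∉ A₀ := by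
      by_contra! h
      have : Module.finrank F A₀ = k := by
        rw [Submodule.eq_top_iff'.2 h, finrank_top, Module.finrank_fin_fun]
      omega
    obtain ⟨b', hb'0, hb'⟩ := exists_perp h₂ (show k + 1 < l by omega)
      (Fin.cons c fun i j => G v₀ (i, j))
    refine ⟨b', row f₂ b', ⟨hb'0, rfl⟩, ?_⟩
    set Q := (P (k := k) (row f₂ b')).comp G
    have hrange : LinearMap.range (blockT g b ψ b' (row f₂ b')) ≤ LinearMap.range Q := by
      rintro _ ⟨v, rfl⟩
      exact ⟨_, rfl⟩
    have hle : A₀ ⊔ Submodule.span F {v₀} ≤ LinearMap.ker Q := by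
      refine sup_le ?_ ?_
      · rintro v ⟨a, -, ha⟩
        show P (row f₂ b') (G v) = 0
        have h0 : f₂ b' c = 0 := by simpa using hb' 0
        rw [← ha, J_apply, P_tp, h₂.row_dot, h₂.symm_zero h0, zero_smul]
      · rw [Submodule.span_singleton_le_iff_mem]
        show P (row f₂ b') (G v₀) = 0
        funext i
        rw [P_apply, h₂.row_dot, Pi.zero_apply]
        exact h₂.symm_zero (by simpa using hb' i.succ)
    have h1 := LinearMap.finrank_range_add_finrank_ker Q
    rw [Module.finrank_fin_fun] at h1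
    have h2 : Module.finrank F A₀ < Module.finrank F ↥(A₀ ⊔ Submodule.span F {v₀}) :=
      Submodule.finrank_lt_finrank_of_lt (lt_of_le_of_ne le_sup_left fun e => hv₀
        (e ▸ Submodule.mem_sup_right (Submodule.mem_span_singleton_self v₀)))
    have h3 := Submodule.finrank_mono hle
    have h4 := Submodule.finrank_mono hrange
    omega

end Symp

end Cfsg.Agent.TensorMax
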