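import Cfsg.Agent.Lib.TensorSOCore97

/-!
A group in which every image of a ruler is a ruler consists of product maps; together with the dichotomy this is
the maximality of `Sp₂ ⊗ O(Y)`.
-/

set_option autoImplicit false
set_option linter.unusedSectionVars false

namespace Cfsg.Agent.TensorSO97

open Module

variable {F Y : Type*} [Field F] [Fintype F] [AddCommGroup Y] [Module F Y] [FiniteDimensional F Y]
variable {B : Y →ₗ[F] Y →ₗ[F] F} {M : Subgroup ((Y × Y) ≃ₗ[F] (Y × Y))} (H : Hyp B M)
include H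

/-- Every element is a product map. -/
theorem product_form (hnc : NC M B) {g : (Y × Y) ≃ₗ[F] (Y × Y)} (hg : g ∈ M) :
    ∃ a b c d : F, ∃ T : Y →ₗ[F] Y, ∀ x : Y × Y, g x = (a • T x.1 + b • T x.2, c • T x.1 + d • T x.2) := by
  classical
  have hB := H.sym
  have hdim := dim3 H
  -- the images of anisotropic rulers
  have himg : ∀ z, B z z ≠ 0 → ∃ (y : Y) (a c b d : F), B y y ≠ 0 ∧ g (z, 0) = (a • y, c • y) ∧ g (0, z) = (b • y, d • y) ∧
      (Rl z).map g.toLinearMap = Rl (F := F) y ∧ a * d - c * b ≠ 0 := by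
    intro z hz
    obtain ⟨y, hy, hUy⟩ := ruler H hnc (InP.map H (inP_Rl H hz) hg)
    have m1 : g (z, 0) ∈ Rl (F := F) y := hUy ▸ ⟨(z, 0), mem_Rl.2 ⟨1, 0, by simp⟩, rfl⟩
    have m2 : g (0, z) ∈ Rl (F := F) y := hUy ▸ ⟨(0, z), mem_Rl.2 ⟨0, 1, by simp⟩, rfl⟩
    obtain ⟨a, c, e1⟩ := mem_Rl.1 m1
    obtain ⟨b, d, e2⟩ := mem_Rl.1 m2
    refine ⟨y, a, c, b, d, hy, e1, e2, hUy, fun h => hz ?_⟩
    have e := H.pres g hg (z, 0) (0, z)
    rw [e1, e2] at e
    simp [om] at e
    linear_combination -e + (B y y) * h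
  obtain ⟨z₀, -, hz₀⟩ : ∃ z, z ∈ (⊤ : Submodule F Y) ∧ B z z ≠ 0 := by
    by_contra! h
    have := two_mul_le hB (W := (⊤ : Submodule F Y)) h
    rw [finrank_top] at this
    omega
  obtain ⟨y₀, a, c, b, d, hy₀, e1, e2, hU₀, hdet⟩ := himg z₀ hz₀
  let S : Submodule F Y :=
    { carrier := {y | ∃ y', g (y, 0) = (a • y', c • y') ∧ g (0, y) = (b • y', d • y')}
      zero_mem' := ⟨0, by rw [Prod.mk_zero_zero, map_zero, smul_zero, smul_zero, Prod.mk_zero_zero],
        by rw [Prod.mk_zero_zero, map_zero, smul_zero, smul_zero, Prod.mk_zero_zero]⟩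
      add_mem' := fun {p q} ⟨p', hp, hp'⟩ ⟨q', hq, hq'⟩ => ⟨p' + q', by
        rw [show ((p + q, (0 : Y)) : Y × Y) = (p, 0) + (q, 0) by simp, map_add, hp, hq]; simp, by
        rw [show (((0 : Y), p + q) : Y × Y) = (0, p) + (0, q) by simp, map_add, hp', hq']; simp⟩
      smul_mem' := fun t p ⟨p', hp, hp'⟩ => ⟨t • p', by
        rw [show ((t • p, (0 : Y)) : Y × Y) = t • (p, 0) by simp, map_smul, hp]; simp [smul_comm t], by
        rw [show (((0 : Y), t • p) : Y × Y) = t • (0, p) by simp, map_smul, hp']; simp [smul_comm t]⟩ }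
  have hac : a ≠ 0 ∨ c ≠ 0 := by
    by_contra! h
    exact hdet (by rw [h.1, h.2]; ring)
  have hz₀S : z₀ ∈ S := ⟨y₀, e1, e2⟩
  -- comparing two rulers
  have step : ∀ z w, B z z ≠ 0 → B w w ≠ 0 → w ∈ S → (∀ t : F, z ≠ t • w) → ∀ k : F, k ≠ 0 →
      B (z + k • w) (z + k • w) ≠ 0 → z ∈ S := by
    intro z w hz hw ⟨y', hw1, hw2⟩ hne k hk hzw
    obtain ⟨y, a', c', b', d', hy, f1, f2, hUz, hdet'⟩ := himg z hz
    obtain ⟨y'', -, -, -, -, -, -, -, hUk, -⟩ := himg _ hzw
    have hind : ∀ p q : F, p • y + q • y' = 0 → p = 0 ∧ q = 0 := by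
      intro p q hpq
      have hq : q = 0 := by
        by_contra hq
        have hy' : y' = (-(p / q)) • y := by
          have e := congrArg (q⁻¹ • ·) hpq
          simp only [smul_add, smul_smul, inv_mul_cancel₀ hq, one_smul, smul_zero] at e
          rw [neg_smul, eq_neg_iff_add_eq_zero, div_eq_inv_mul, add_comm]
          exact e
        have hm : g (w, 0) ∈ (Rl z).map g.toLinearMap := by
          rw [hUz, hw1, hy', smul_smul, smul_smul]
          exact mem_Rl.2 ⟨_, _, rfl⟩
        have := (mem_map H).1 hm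
        rw [ginv_app] at this
        obtain ⟨t, t', e⟩ := mem_Rl.1 this
        have et := congrArg Prod.fst e
        simp only at et
        have ht : t ≠ 0 := fun h => hw (by rw [et, h, zero_smul, map_zero])
        exact hne t⁻¹ (by rw [et, smul_smul, inv_mul_cancel₀ ht, one_smul])
      rw [hq, zero_smul, add_zero] at hpq
      exact ⟨(smul_eq_zero.1 hpq).resolve_right (fun h => hy (by simp [h])), hq⟩
    have hcross : ∀ p q : F, (p * a' + q * b') * (p * c + q * d) = (p * c' + q * d') * (p * a + q * b) := by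
      intro p q
      have hm : g (p • (z + k • w), q • (z + k • w)) ∈ Rl (F := F) y'' := hUk ▸ ⟨_, mem_Rl.2 ⟨p, q, rfl⟩, rfl⟩
      have hg' : g (p • (z + k • w), q • (z + k • w)) =
          ((p * a' + q * b') • y + (k * (p * a + q * b)) • y',
            (p * c' + q * d') • y + (k * (p * c + q * d)) • y') := by
        rw [show ((p • (z + k • w), q • (z + k • w)) : Y × Y) =
          p • (z, 0) + q • (0, z) + (k * p) • (w, 0) + (k * q) • (0, w) by ext <;> simp <;> module,
          map_add, map_add, map_add, map_smul, map_smul, map_smul, map_smul, f1, f2, hw1, hw2]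
        ext <;> simp <;> module
      rw [hg'] at hm
      obtain ⟨s, s', e⟩ := mem_Rl.1 hm
      have g1 := congrArg Prod.fst e
      have g2 := congrArg Prod.snd e
      simp only at g1 g2
      have g3 : (s' * (p * a' + q * b') - s * (p * c' + q * d')) • y +
          (k * (s' * (p * a + q * b) - s * (p * c + q * d))) • y' = 0 := by
        have : s' • ((p * a' + q * b') • y + (k * (p * a + q * b)) • y') -
            s • ((p * c' + q * d') • y + (k * (p * c + q * d)) • y') = 0 := by
          rw [g1, g2, smul_comm, sub_self]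
        rw [← this]
        module
      obtain ⟨h1, h2⟩ := hind _ _ g3
      replace h2 := (mul_eq_zero.1 h2).resolve_left hk
      by_cases hs : s = 0
      · rw [hs, zero_smul] at g1
        obtain ⟨h3, h4⟩ := hind _ _ g1
        rw [h3, (mul_eq_zero.1 h4).resolve_left hk]
        ring
      · refine mul_left_cancel₀ hs ?_
        linear_combination (p * a + q * b) * h1 - (p * a' + q * b') * h2
    have c1 := hcross 1 0
    have c2 := hcross 0 1
    have c3 := hcross 1 1
    simp only [one_mul, zero_mul, add_zero, zero_add] at c1 c2 c3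
    obtain ⟨κ, ka, kc⟩ : ∃ κ, a' = κ * a ∧ c' = κ * c := by
      rcases hac with h | h
      · exact ⟨a' / a, by field_simp, by field_simp; linear_combination -c1⟩
      · exact ⟨c' / c, by field_simp; linear_combination c1, by field_simp⟩
    have kb : b' = κ * b := by
      refine mul_right_cancel₀ hdet ?_
      rw [ka, kc] at c3
      linear_combination -b * c3 + (a + b) * c2
    have kd : d' = κ * d := by
      refine mul_right_cancel₀ hdet ?_
      rw [ka, kc] at c3
      linear_combination -d * c3 + (c + d) * c2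
    exact ⟨κ • y, by rw [f1, ka, kc, smul_smul, smul_smul, mul_comm a, mul_comm c],
      by rw [f2, kb, kd, smul_smul, smul_smul, mul_comm b, mul_comm d]⟩
  have hnz : ∀ {z w : Y}, B w z ≠ 0 → ∀ u, B u z = 0 → ∀ t : F, w ≠ t • u := fun {z w} h u hu t e =>
    h (by rw [e, map_smul, LinearMap.smul_apply, hu, smul_zero])
  -- pairs with a nonzero product
  have pair : ∀ z w, B z z ≠ 0 → B w w ≠ 0 → w ∈ S → B z w ≠ 0 → z ∈ S := by
    intro z w hz hw hwS hzw
    by_cases hp : ∃ t : F, z = t • w
    · obtain ⟨t, rfl⟩ := hp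
      exact S.smul_mem t hwS
    push Not at hp
    by_cases h1 : B (z + (1 : F) • w) (z + (1 : F) • w) = 0
    · refine step z w hz hw hwS hp (-1) (neg_ne_zero.2 one_ne_zero) fun h2 => ?_
      simp only [map_add, map_smul, LinearMap.add_apply, LinearMap.smul_apply, smul_eq_mul, hB.symm w z] at h1 h2
      exact hzw (mul_left_cancel₀ (mul_ne_zero hB.odd hB.odd) (by linear_combination h1 - h2))
    · exact step z w hz hw hwS hp 1 one_ne_zero h1
  have haniso : ∀ z, B z z ≠ 0 → z ∈ S := by
    intro z hz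
    by_cases h1 : B z z₀ = 0
    · obtain ⟨w, w1, w2, hw⟩ := exists_third hB hdim hz₀ hz (by rw [hB.symm]; exact h1)
      by_cases h2 : B z z + B z₀ z₀ = 0
      · have h1' : B z₀ z = 0 := by rw [hB.symm]; exact h1
        have w1' : B w z₀ = 0 := by rw [hB.symm]; exact w1
        have w2' : B w z = 0 := by rw [hB.symm]; exact w2
        have hyy : B (z₀ + z + w) (z₀ + z + w) ≠ 0 := by
          simp only [map_add, LinearMap.add_apply, h1, h1', w1, w2, w1', w2']
          intro e
          exact hw (by linear_combination e - h2)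
        have hyS : z₀ + z + w ∈ S := pair _ z₀ hyy hz₀ hz₀S (by simpa [h1, w1'] using hz₀)
        exact pair z _ hz hyy hyS (by simpa [h1, w2] using hz)
      · refine step z z₀ hz hz₀ hz₀S (fun t e => ?_) 1 one_ne_zero ?_
        · rw [e, map_smul, LinearMap.smul_apply, smul_eq_mul] at h1
          rcases mul_eq_zero.1 h1 with h | h
          · exact hz (by rw [e, h, zero_smul, map_zero])
          · exact hz₀ h
        · simpa [h1, hB.symm z₀ z] using h2
    · exact pair z z₀ hz hz₀ hz₀S h1
  have hall : ∀ w, w ∈ S := by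
    intro w
    by_cases hw : B w w = 0
    · by_cases hs : B (w + z₀) (w + z₀) = 0
      · have h3 : B (w + (-1 : F) • z₀) (w + (-1 : F) • z₀) ≠ 0 := fun e => by
          simp only [map_add, map_smul, LinearMap.add_apply, LinearMap.smul_apply, smul_eq_mul, hw,
            hB.symm z₀ w] at hs e
          exact hz₀ (mul_left_cancel₀ hB.odd (by linear_combination hs + e))
        have := S.add_mem (haniso _ h3) hz₀S
        simpa using this
      · have := S.sub_mem (haniso _ hs) hz₀S
        simpa using this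
    · exact haniso w hw
  let L : Y →ₗ[F] Y :=
    if a ≠ 0 then a⁻¹ • ((LinearMap.fst F Y Y).comp (g.toLinearMap.comp (LinearMap.inl F Y Y)))
    else c⁻¹ • ((LinearMap.snd F Y Y).comp (g.toLinearMap.comp (LinearMap.inl F Y Y)))
  have hL : ∀ y, g (y, 0) = (a • L y, c • L y) ∧ g (0, y) = (b • L y, d • L y) := by
    intro y
    obtain ⟨y', p1, p2⟩ := hall y
    have : L y = y' := by
      simp only [L]
      split_ifs with h
      · simp [p1, smul_smul, inv_mul_cancel₀ h]
      · push Not at h
        simp [p1, smul_smul, inv_mul_cancel₀ (hac.resolve_left (not_not.2 h))]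
    rw [this]
    exact ⟨p1, p2⟩
  refine ⟨a, b, c, d, L, fun x => ?_⟩
  conv_lhs => rw [show x = (x.1, 0) + (0, x.2) by simp, map_add, (hL x.1).1, (hL x.2).2]
  simp

/-- Maximality of `Sp₂ ⊗ O(Y)`. -/
theorem maximal {g : (Y × Y) ≃ₗ[F] (Y × Y)} (hg : g ∈ M) :
    (∀ u, InT M B u) ∨
      ∃ a b c d : F, ∃ T : Y →ₗ[F] Y, ∀ x : Y × Y, g x = (a • T x.1 + b • T x.2, c • T x.1 + d • T x.2) :=
  (dichotomy H).imp id fun hnc => product_form H hnc hg

end Cfsg.Agent.TensorSO97
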