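import Cfsg.Prelude.Def_GeometricClasses
import Cfsg.Agent.Lib.TensorSOProduct97
import Cfsg.Agent.Lib.TensorMaxGlue
import Cfsg.Agent.Lib.TensorMaxQuadGlue
import Cfsg.Agent.Lib.TensorMaxSympCtx
import Cfsg.Agent.Lib.TransvectionMax

/-!
For `q` odd the stabiliser of a tensor decomposition `Sp₂ ⊗ O_l`, `l ≥ 5`, or `l = 4` of minus type, or `l = 3` and
`q ≥ 5`, is maximal in the symplectic group.
-/

set_option autoImplicit false
set_option linter.unusedSectionVars false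

namespace Cfsg.Agent.TensorSympOrth97

open scoped Matrix MatrixGroups Kronecker
open Cfsg.Agent.TensorMax
open Cfsg.Agent.TensorMaxGlue
open Cfsg.Agent.TensorSO97

variable {F : Type*} [Field F] [Fintype F]

/-- The coordinates of `Y × Y`. -/
def W (l : ℕ) (F : Type*) [Field F] : ((Fin l → F) × (Fin l → F)) ≃ₗ[F] (Fin 2 × Fin l → F) where
  toFun x := fun ij => ![x.1, x.2] ij.1 ij.2
  map_add' x y := by
    funext ⟨i, j⟩
    fin_cases i <;> simp
  map_smul' c x := by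
    funext ⟨i, j⟩
    fin_cases i <;> simp
  invFun u := (fun j => u (0, j), fun j => u (1, j))
  left_inv x := by simp
  right_inv u := by
    funext ⟨i, j⟩
    fin_cases i <;> simp

theorem W_eq {l : ℕ} (p q : Fin l → F) : W l F (p, q) = tp (Pi.single 0 1) p + tp (Pi.single 1 1) q := by
  funext ⟨i, j⟩
  fin_cases i <;> simp [W, tp]

theorem W_tp {l : ℕ} (v : Fin 2 → F) (y : Fin l → F) : tp v y = W l F (v 0 • y, v 1 • y) := by
  funext ⟨i, j⟩
  fin_cases i <;> simp [W, tp]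

set_option maxHeartbeats 1000000 in
theorem isMaximalIn_stab' (m l : ℕ) (f₂ : (Fin l → F) → (Fin l → F) → F)
    (hl : (5 ≤ l ∨ (l = 4 ∧ ∀ W : Submodule F (Fin l → F), (∀ x ∈ W, f₂ x x = 0) → Module.finrank F W ≤ 1)) ∨
      (l = 3 ∧ 5 ≤ Fintype.card F)) (hodd : Odd (Fintype.card F))
    (e : (Fin m ⊕ Fin m) ≃ Fin 2 × Fin l) (P : Matrix.GeneralLinearGroup (Fin m ⊕ Fin m) F)
    (f₁ : (Fin 2 → F) → (Fin 2 → F) → F)
    (hf₁ : Cfsg.Geo.IsSymplecticForm f₁) (hf₂ : Cfsg.Geo.IsSymmetricForm f₂)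
    (hT : Cfsg.Geo.IsTensorFormStructure id (Cfsg.sympForm m F) f₁ f₂ e P) :
    Cfsg.Geo.IsMaximalIn (Cfsg.spGL m F) (Cfsg.Geo.tensorProductSubgroup 2 l e P ⊓ Cfsg.spGL m F) := by
  classical
  have h2 : (2 : F) ≠ 0 := by
    apply Ring.two_ne_zero
    intro h
    exact (Nat.not_even_iff_odd.2 hodd) (FiniteField.even_card_iff_char_two.1 h |> Nat.even_iff.2)
  obtain ⟨c, hc, hT⟩ := hT
  have hf := TransvectionMax.sympForm_isSymplecticForm (F := F) m
  have S₁ := sform_symp hf₁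
  have S₂ := sform_symm hf₂
  set f := Cfsg.sympForm m F
  let B : (Fin l → F) →ₗ[F] (Fin l → F) →ₗ[F] F :=
    LinearMap.mk₂ F f₂ hf₂.bilinear.add_left hf₂.bilinear.smul_left hf₂.bilinear.add_right
      (fun s x y => hf₂.bilinear.smul_right s x y)
  have hBa : ∀ x y, B x y = f₂ x y := fun x y => rfl
  have hSym : SymN B := ⟨h2, hf₂.symm, fun x hx => S₂.nd x hx⟩
  set c₁ := f₁ (Pi.single 0 1) (Pi.single 1 1) with hc₁d
  have hform₁ : ∀ v w : Fin 2 → F, f₁ v w = c₁ * (v 0 * w 1 - v 1 * w 0) := fun v w => by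
    rw [S₁.expand v w]
    simp only [Fin.sum_univ_two, RingHom.id_apply, hf₁.alternating, hf₁.skew (Pi.single 1 1) (Pi.single 0 1), ← hc₁d]
    ring
  have hc₁ : c₁ ≠ 0 := fun h => by
    have h0 : (Pi.single 0 1 : Fin 2 → F) ≠ 0 := by simp
    exact h0 (S₁.nd _ fun y => by rw [hform₁, h, zero_mul])
  let Θ : ((Fin l → F) × (Fin l → F)) ≃ₗ[F] (Fin m ⊕ Fin m → F) :=
    (W l F).trans (LinearEquiv.ofBijective (psi e P) ⟨psi_injective e P, psi_surjective e P⟩)
  have hΘ : ∀ x, Θ x = psi e P (W l F x) := fun x => rfl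
  have hkey : ∀ x y, f (Θ x) (Θ y) = (c * c₁) * om B x y := by
    rintro ⟨p, q⟩ ⟨p', q'⟩
    rw [hΘ, hΘ, psi_apply, psi_apply, hT, mul_assoc]
    congr 1
    show tForm (RingHom.id F) f₁ f₂ (W l F (p, q)) (W l F (p', q')) = _
    have addr : ∀ u w w' : Fin 2 × Fin l → F, tForm (RingHom.id F) f₁ f₂ u (w + w') =
        tForm (RingHom.id F) f₁ f₂ u w + tForm (RingHom.id F) f₁ f₂ u w' := fun u w w' => by
      simp only [tForm, Cfsg.Geo.formOfGram, Pi.add_apply, map_add, mul_add, Finset.sum_add_distrib]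
    rw [W_eq, W_eq, tForm_add_left, addr, addr, tForm_tp S₂ S₁, tForm_tp S₂ S₁, tForm_tp S₂ S₁, tForm_tp S₂ S₁,
      hform₁, hform₁, hform₁, hform₁]
    simp [om, hBa]
    ring
  have hcc : c * c₁ ≠ 0 := mul_ne_zero hc hc₁
  -- elements from linear maps
  have hmk : ∀ T : ((Fin l → F) × (Fin l → F)) →ₗ[F] ((Fin l → F) × (Fin l → F)),
      (∀ x y, om B (T x) (T y) = om B x y) →
      ∃ G : GL (Fin m ⊕ Fin m) F, G ∈ Cfsg.spGL m F ∧
        ∀ x, (G : Matrix (Fin m ⊕ Fin m) (Fin m ⊕ Fin m) F) *ᵥ Θ x = Θ (T x) := by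
    intro T hT'
    let A : (Fin m ⊕ Fin m → F) →ₗ[F] (Fin m ⊕ Fin m → F) :=
      Θ.toLinearMap.comp (T.comp Θ.symm.toLinearMap)
    have hA : ∀ x, LinearMap.toMatrix' A *ᵥ Θ x = Θ (T x) := fun x => by
      rw [LinearMap.toMatrix'_mulVec]
      simp [A]
    have hpres : ∀ u v, f (LinearMap.toMatrix' A *ᵥ u) (LinearMap.toMatrix' A *ᵥ v) = f u v := fun u v => by
      obtain ⟨x, rfl⟩ := Θ.surjective u
      obtain ⟨y, rfl⟩ := Θ.surjective v
      rw [hA, hA, hkey, hkey, hT']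
    have hdet : (LinearMap.toMatrix' A).det ≠ 0 := by
      intro h0
      obtain ⟨v, hv, hv0⟩ := Matrix.exists_mulVec_eq_zero_iff.mpr h0
      obtain ⟨-, w, hw⟩ := hf.nondegenerate v hv
      rw [← hpres, hv0, TransvectionMax.zero_left hf.bilinear] at hw
      exact hw rfl
    exact ⟨Matrix.GeneralLinearGroup.mkOfDetNeZero _ hdet, hpres, hA⟩
  -- membership in the tensor subgroup
  have htensor : ∀ (G : GL (Fin m ⊕ Fin m) F) (a b a' b' : F) (T : (Fin l → F) →ₗ[F] (Fin l → F)),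
      (∀ x : (Fin l → F) × (Fin l → F), (G : Matrix (Fin m ⊕ Fin m) (Fin m ⊕ Fin m) F) *ᵥ Θ x =
        Θ (a • T x.1 + b • T x.2, a' • T x.1 + b' • T x.2)) → G ∈ Cfsg.Geo.tensorProductSubgroup 2 l e P := by
    intro G a b a' b' T hG
    have hinj : ∀ x : (Fin l → F) × (Fin l → F), Θ (a • T x.1 + b • T x.2, a' • T x.1 + b' • T x.2) = 0 → x = 0 := fun x hx => by
      apply Θ.injective
      rw [map_zero]
      exact TransvectionMax.act_injective G (by show _ *ᵥ _ = _ *ᵥ _; rw [hG, hx, Matrix.mulVec_zero])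
    have hl0 : 0 < l := by omega
    set A : Matrix (Fin 2) (Fin 2) F := !![a, b; a', b'] with hAd
    have hA : A.det ≠ 0 := by
      intro h0
      obtain ⟨v, hv0, hv⟩ := Matrix.exists_mulVec_eq_zero_iff.mpr h0
      set z : Fin l → F := Pi.single ⟨0, hl0⟩ 1
      have h1 := hinj (v 0 • z, v 1 • z) (by
        have e0 : a * v 0 + b * v 1 = 0 := by simpa [A, Matrix.mulVec, dotProduct, Fin.sum_univ_two] using congrFun hv 0
        have e1 : a' * v 0 + b' * v 1 = 0 := by simpa [A, Matrix.mulVec, dotProduct, Fin.sum_univ_two] using congrFun hv 1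
        simp [map_smul, smul_smul, ← add_smul, e0, e1])
      apply hv0
      funext i
      have e0 := congrArg Prod.fst h1
      have e1 := congrArg Prod.snd h1
      fin_cases i
      · simpa [z] using congrFun e0 ⟨0, hl0⟩
      · simpa [z] using congrFun e1 ⟨0, hl0⟩
    have hD : (LinearMap.toMatrix' T).det ≠ 0 := by
      intro h0
      obtain ⟨v, hv0, hv⟩ := Matrix.exists_mulVec_eq_zero_iff.mpr h0
      rw [LinearMap.toMatrix'_mulVec] at hv
      exact hv0 (congrArg Prod.fst (hinj (v, 0) (by simp [hv])))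
    rw [tensorProductSubgroup_eq]
    refine ⟨kr (Matrix.GeneralLinearGroup.mkOfDetNeZero A hA)
      (Matrix.GeneralLinearGroup.mkOfDetNeZero _ hD), kr_mem _ _, ?_⟩
    refine TransvectionMax.gl_ext fun u => ?_
    obtain ⟨⟨p, q⟩, rfl⟩ := Θ.surjective u
    rw [hG, hΘ, hΘ]
    show (phi e P _ : Matrix (Fin m ⊕ Fin m) (Fin m ⊕ Fin m) F) *ᵥ psi e P _ = _
    rw [phi_psi]
    congr 1
    rw [W_eq, Matrix.mulVec_add, kr_tp, kr_tp]
    have t1 : ((Matrix.GeneralLinearGroup.mkOfDetNeZero _ hD : GL (Fin l) F) : Matrix (Fin l) (Fin l) F) *ᵥ p = T p :=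
      LinearMap.toMatrix'_mulVec T p
    have t2 : ((Matrix.GeneralLinearGroup.mkOfDetNeZero _ hD : GL (Fin l) F) : Matrix (Fin l) (Fin l) F) *ᵥ q = T q :=
      LinearMap.toMatrix'_mulVec T q
    have t3 : ((Matrix.GeneralLinearGroup.mkOfDetNeZero A hA : GL (Fin 2) F) : Matrix (Fin 2) (Fin 2) F) = A := rfl
    rw [t1, t2, t3, W_tp, W_tp, ← map_add]
    congr 1
    simp [A, Matrix.mulVec_single_one]
  -- the elements of the tensor subgroup
  have hprod : ∀ G ∈ Cfsg.Geo.tensorProductSubgroup 2 l e P, ∃ (α : GL (Fin 2) F) (β : GL (Fin l) F),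
      ∀ (v : Fin 2 → F) (y : Fin l → F), (G : Matrix (Fin m ⊕ Fin m) (Fin m ⊕ Fin m) F) *ᵥ psi e P (tp v y) =
        psi e P (tp ((α : Matrix (Fin 2) (Fin 2) F) *ᵥ v) ((β : Matrix (Fin l) (Fin l) F) *ᵥ y)) := by
    intro G hG
    rw [tensorProductSubgroup_eq] at hG
    obtain ⟨k, hk, rfl⟩ := hG
    obtain ⟨α, β, rfl⟩ := exists_kr hk
    exact ⟨α, β, fun v y => by
      show (phi e P _ : Matrix (Fin m ⊕ Fin m) (Fin m ⊕ Fin m) F) *ᵥ _ = _
      rw [phi_psi, kr_tp]⟩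
  set z : Fin l → F := Pi.single ⟨0, by omega⟩ 1 with hz
  refine ⟨lt_of_le_of_ne inf_le_right fun heq => ?_, fun N h1 hN => ?_⟩
  · -- a transvection with centre `Θ (w, 0)` is not a product
    have hdim : 3 ≤ Module.finrank F (Fin l → F) := by rw [Module.finrank_fin_fun]; omega
    obtain ⟨p, hzp, hpp⟩ := perp_one hSym hdim (z := z) (by simp [hz])
    set u := Θ (p, 0)
    have ht : TransvectionMax.st f u 1 ∈ Cfsg.Geo.tensorProductSubgroup 2 l e P := by
      have := TransvectionMax.st_mem_spGL m u (1 : F)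
      rw [← heq] at this
      exact this.1
    obtain ⟨α, β, hαβ⟩ := hprod _ ht
    obtain ⟨w, hpw, hw0, hwp⟩ : ∃ w, B p w = 0 ∧ w ≠ 0 ∧ ∀ t : F, w ≠ t • p := by
      obtain ⟨w, hw, hww⟩ := perp_one hSym hdim (z := p) (fun e => hpp (by simp [e]))
      refine ⟨w, hw, fun e => hww (by simp [e]), fun t e => ?_⟩
      rw [e, map_smul, smul_eq_mul] at hw
      rcases mul_eq_zero.1 hw with h | h
      · exact hww (by simp [e, h])
      · exact hpp h
    have act : ∀ x, (TransvectionMax.st f u 1 : Matrix (Fin m ⊕ Fin m) (Fin m ⊕ Fin m) F) *ᵥ Θ x =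
        Θ (x + (c * c₁ * om B x (p, 0)) • (p, 0)) := fun x => by
      rw [TransvectionMax.st_act hf, one_mul, hkey, map_add, map_smul]
    have himg : ∀ (v : Fin 2 → F) (y : Fin l → F), (v 0 • y, v 1 • y) + (c * c₁ * om B (v 0 • y, v 1 • y) (p, 0)) • ((p, (0 : Fin l → F)) : (Fin l → F) × (Fin l → F)) =
        ((((α : Matrix (Fin 2) (Fin 2) F) *ᵥ v) 0) • ((β : Matrix (Fin l) (Fin l) F) *ᵥ y),
          (((α : Matrix (Fin 2) (Fin 2) F) *ᵥ v) 1) • ((β : Matrix (Fin l) (Fin l) F) *ᵥ y)) := fun v y => by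
      apply Θ.injective
      rw [← act, hΘ, hΘ, ← W_tp, hαβ, ← W_tp]
    set A := (α : Matrix (Fin 2) (Fin 2) F)
    have a1 := himg (Pi.single 0 1) p
    have a2 := himg (Pi.single 1 1) w
    have a3 := himg (Pi.single 1 1) p
    simp [om, hBa, Matrix.mulVec_single_one] at a1 a2 a3
    rw [hBa] at hpp hpw
    rw [hf₂.symm] at hpw
    simp [hpw] at a2
    obtain ⟨a1a, a1b⟩ := a1
    obtain ⟨a2a, a2b⟩ := a2
    obtain ⟨a3a, a3b⟩ := a3
    have hβw : (β : Matrix (Fin l) (Fin l) F) *ᵥ w ≠ 0 := fun e => hw0 (by rw [a2b, e, smul_zero])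
    rcases smul_eq_zero.1 a2a.symm with h | h
    · rw [h, zero_smul] at a3a
      have hpne : p ≠ 0 := fun e => hpp (by rw [e]; exact S₂.zero_left _)
      exact mul_ne_zero (mul_ne_zero hc hc₁) hpp ((smul_eq_zero.1 (neg_eq_zero.1 a3a)).resolve_right hpne)
    · exact hβw h
  · by_cases hle : N ≤ Cfsg.Geo.tensorProductSubgroup 2 l e P
    · exact Or.inl (le_antisymm (le_inf hle hN) h1)
    obtain ⟨G₀, hG₀, hG₀n⟩ := SetLike.not_le_iff_exists.1 hle
    right
    let M : Subgroup (((Fin l → F) × (Fin l → F)) ≃ₗ[F] ((Fin l → F) × (Fin l → F))) :=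
      { carrier := {g | ∃ G ∈ N, ∀ x, (G : Matrix (Fin m ⊕ Fin m) (Fin m ⊕ Fin m) F) *ᵥ Θ x = Θ (g x)}
        mul_mem' := by
          rintro g g' ⟨G, hG, hGx⟩ ⟨G', hG', hGx'⟩
          exact ⟨G * G', mul_mem hG hG', fun x => by rw [TransvectionMax.mul_act, hGx', hGx]; rfl⟩
        one_mem' := ⟨1, one_mem N, fun x => by rw [TransvectionMax.one_act]; rfl⟩
        inv_mem' := by
          rintro g ⟨G, hG, hGx⟩
          refine ⟨G⁻¹, inv_mem hG, fun x => ?_⟩
          apply TransvectionMax.act_injective G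
          show _ *ᵥ _ = _ *ᵥ _
          rw [TransvectionMax.act_inv_act, hGx]
          exact congrArg Θ (g.apply_symm_apply x).symm }
    have hequiv : ∀ T : ((Fin l → F) × (Fin l → F)) →ₗ[F] ((Fin l → F) × (Fin l → F)),
        (∀ x y, om B (T x) (T y) = om B x y) →
        (∀ G : GL (Fin m ⊕ Fin m) F, G ∈ Cfsg.spGL m F →
          (∀ x, (G : Matrix (Fin m ⊕ Fin m) (Fin m ⊕ Fin m) F) *ᵥ Θ x = Θ (T x)) → G ∈ N) →
        ∃ g ∈ M, ∀ x, g x = T x := by
      intro T hT' hin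
      obtain ⟨G, hG, hGx⟩ := hmk T hT'
      have hinj : Function.Injective T := fun x y hxy => Θ.injective (TransvectionMax.act_injective G (by
        show _ *ᵥ _ = _ *ᵥ _
        rw [hGx, hGx, hxy]))
      haveI : Finite ((Fin l → F) × (Fin l → F)) := Module.finite_of_finite F
      exact ⟨LinearEquiv.ofBijective T (Finite.injective_iff_bijective.1 hinj), ⟨G, hin G hG hGx, hGx⟩,
        fun x => rfl⟩
    have hH : Hyp B M := by
      refine ⟨hSym, fun a b a' b' hdet => ?_, fun h hh => ?_, fun g hg x y => ?_, ?_⟩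
      · obtain ⟨g, hg, hgx⟩ := hequiv
          (LinearMap.prod (a • LinearMap.fst F _ _ + b • LinearMap.snd F _ _)
            (a' • LinearMap.fst F _ _ + b' • LinearMap.snd F _ _))
          (fun x y => by
            simp [om, hBa]
            rw [← hBa, ← hBa, ← hBa, ← hBa]
            simp only [map_add, map_smul, LinearMap.add_apply, LinearMap.smul_apply, smul_eq_mul,
              hSym.symm x.2 y.1, hSym.symm x.2 y.2, hSym.symm x.1 y.1, ← hBa]
            linear_combination ((B x.1 y.2 - B y.1 x.2)) * hdet)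
          (fun G hG hGx => h1 ⟨htensor G a b a' b' LinearMap.id (fun x => by rw [hGx]; rfl), hG⟩)
        exact ⟨g, hg, fun x => by rw [hgx]; rfl⟩
      · obtain ⟨g, hg, hgx⟩ := hequiv (LinearMap.prodMap h h) (fun x y => by simp [om, hh])
          (fun G hG hGx => h1 ⟨htensor G 1 0 0 1 h (fun x => by rw [hGx]; simp), hG⟩)
        exact ⟨g, hg, fun x => by rw [hgx]; rfl⟩
      · obtain ⟨G, hG, hGx⟩ := hg
        refine mul_left_cancel₀ hcc ?_
        rw [← hkey, ← hkey, ← hGx, ← hGx]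
        exact hN hG (Θ x) (Θ y)
      · rw [Module.finrank_fin_fun]
        simpa only [hBa] using hl
    obtain ⟨g₀, hg₀, hg₀x⟩ := hequiv (Θ.symm.toLinearMap.comp ((Matrix.toLin' (G₀ : Matrix (Fin m ⊕ Fin m)
        (Fin m ⊕ Fin m) F)).comp Θ.toLinearMap)) (fun x y => by
      refine mul_left_cancel₀ hcc ?_
      rw [← hkey, ← hkey]
      simp only [LinearMap.comp_apply, LinearEquiv.coe_coe, LinearEquiv.apply_symm_apply, Matrix.toLin'_apply]
      exact hN hG₀ (Θ x) (Θ y))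
      (fun G hG hGx => by
        have : G = G₀ := TransvectionMax.gl_ext fun u => by
          obtain ⟨x, rfl⟩ := Θ.surjective u
          rw [hGx]
          simp [Matrix.toLin'_apply]
        rw [this]
        exact hG₀)
    rcases maximal hH hg₀ with hall | ⟨a, b, a', b', T, hT'⟩
    · refine le_antisymm hN (TransvectionMax.spGL_le m fun u s => ?_)
      obtain ⟨x, rfl⟩ := Θ.surjective u
      obtain ⟨t, ⟨G, hG, hGx⟩, ht⟩ := hall x (s * (c * c₁))
      convert hG using 1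
      refine TransvectionMax.gl_ext fun w => ?_
      obtain ⟨y, rfl⟩ := Θ.surjective w
      rw [TransvectionMax.st_act hf, hGx, ht, hkey, map_add, map_smul]
      match_scalars <;> ring
    · exfalso
      refine hG₀n (htensor G₀ a b a' b' T fun x => ?_)
      have h' := hg₀x x
      rw [hT' x] at h'
      rw [h']
      simp [Matrix.toLin'_apply]

/-- Degree at least five, or degree three. -/
theorem isMaximalIn_stab (m l : ℕ) (hl : 5 ≤ l ∨ (l = 3 ∧ 5 ≤ Fintype.card F)) (hodd : Odd (Fintype.card F))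
    (e : (Fin m ⊕ Fin m) ≃ Fin 2 × Fin l) (P : Matrix.GeneralLinearGroup (Fin m ⊕ Fin m) F)
    (f₁ : (Fin 2 → F) → (Fin 2 → F) → F) (f₂ : (Fin l → F) → (Fin l → F) → F)
    (hf₁ : Cfsg.Geo.IsSymplecticForm f₁) (hf₂ : Cfsg.Geo.IsSymmetricForm f₂)
    (hT : Cfsg.Geo.IsTensorFormStructure id (Cfsg.sympForm m F) f₁ f₂ e P) :
    Cfsg.Geo.IsMaximalIn (Cfsg.spGL m F) (Cfsg.Geo.tensorProductSubgroup 2 l e P ⊓ Cfsg.spGL m F) :=
  isMaximalIn_stab' m l f₂ (hl.imp_left Or.inl) hodd e P f₁ hf₁ hf₂ hT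

/-- Degree four of minus type. -/
theorem isMaximalIn_stab_minus (m : ℕ) (hodd : Odd (Fintype.card F))
    (e : (Fin m ⊕ Fin m) ≃ Fin 2 × Fin 4) (P : Matrix.GeneralLinearGroup (Fin m ⊕ Fin m) F)
    (f₁ : (Fin 2 → F) → (Fin 2 → F) → F) (f₂ : (Fin 4 → F) → (Fin 4 → F) → F)
    (hf₁ : Cfsg.Geo.IsSymplecticForm f₁) (hf₂ : Cfsg.Geo.IsSymmetricForm f₂)
    (hminus : ¬ Cfsg.Geo.IsPlusTypeOn (fun v : Fin 4 → F => f₂ v v) ⊤)
    (hT : Cfsg.Geo.IsTensorFormStructure id (Cfsg.sympForm m F) f₁ f₂ e P) :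
    Cfsg.Geo.IsMaximalIn (Cfsg.spGL m F) (Cfsg.Geo.tensorProductSubgroup 2 4 e P ⊓ Cfsg.spGL m F) := by
  refine isMaximalIn_stab' m 4 f₂ (Or.inl (Or.inr ⟨rfl, fun W hW => ?_⟩)) hodd e P f₁ hf₁ hf₂ hT
  by_contra hlt
  -- a totally singular plane inside `W`
  obtain ⟨U, hU, hU2⟩ : ∃ U : Submodule F (Fin 4 → F), U ≤ W ∧ Module.finrank F U = 2 := by
    obtain ⟨f, hf⟩ := exists_linearIndependent_of_le_finrank (R := F) (M := W) (show 2 ≤ Module.finrank F W by omega)
    refine ⟨(Submodule.span F (Set.range f)).map W.subtype, Submodule.map_subtype_le _ _, ?_⟩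
    rw [Submodule.finrank_map_subtype_eq, finrank_span_eq_card hf, Fintype.card_fin]
  refine hminus ⟨U, le_top, fun v hv => hW v (hU hv), ?_⟩
  rw [hU2, finrank_top, Module.finrank_fin_fun]

end Cfsg.Agent.TensorSympOrth97
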