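import Cfsg.Agent.Lib.TensorMaxUnitForm

/-!
A non-scalar central root operator in an overgroup of a tensor product of two unitary groups produces the
transvections at all pure tensors of isotropic vectors.
-/

set_option autoImplicit false
set_option linter.unusedSectionVars false

namespace Cfsg.Agent.TensorMax

open scoped Matrix MatrixGroups Kronecker
open Cfsg.Agent.TransvectionMax

variable {F : Type*} [Field F] {σ : F →+* F} {n k l : ℕ} {f : (Fin n → F) → (Fin n → F) → F}

/-- `v ↦ f v y • x`. -/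
def rkS {ε : F} (h : SForm σ ε f) (x y : Fin n → F) : Module.End F (Fin n → F) where
  toFun v := f v y • x
  map_add' u v := by rw [h.add_left, add_smul]
  map_smul' c v := by rw [h.smul_left, mul_smul, RingHom.id_apply]

theorem rkS_apply {ε : F} (h : SForm σ ε f) (x y v : Fin n → F) : rkS h x y v = f v y • x := rfl

/-- A collection of operators closed under addition, fixed multiples and special isometries. -/
structure SkewClosed (σ : F →+* F) (f : (Fin n → F) → (Fin n → F) → F) (P : Module.End F (Fin n → F) → Prop) :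
    Prop where
  add : ∀ X Y, P X → P Y → P (X + Y)
  smul : ∀ ν : F, σ ν = ν → ∀ X, P X → P (ν • X)
  conj : ∀ α : GL (Fin n) F,
    (∀ x y, f ((α : Matrix (Fin n) (Fin n) F) *ᵥ x) ((α : Matrix (Fin n) (Fin n) F) *ᵥ y) = f x y) →
    (α : Matrix (Fin n) (Fin n) F).det = 1 → ∀ X, P X →
    P (Matrix.toLin' (α : Matrix (Fin n) (Fin n) F) * X * Matrix.toLin' ((α⁻¹ : GL (Fin n) F) : Matrix (Fin n) (Fin n) F))

namespace UForm

variable [Fintype F] (h : UForm σ f)
include h

theorem rk_adj (x y : Fin n → F) : IsAdj f (rkS h.s x y) (rkS h.s y x) := fun v w => by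
  rw [rkS_apply, rkS_apply, h.s.smul_left, h.s.smul_right, h.conj_f, mul_comm]

theorem rk_add_left (x x' y : Fin n → F) : rkS h.s (x + x') y = rkS h.s x y + rkS h.s x' y :=
  LinearMap.ext fun v => by simp only [LinearMap.add_apply, rkS_apply, smul_add]

theorem rk_add_right (x y y' : Fin n → F) : rkS h.s x (y + y') = rkS h.s x y + rkS h.s x y' :=
  LinearMap.ext fun v => by simp only [LinearMap.add_apply, rkS_apply, h.s.add_right, add_smul]

theorem rk_smul_left (a : F) (x y : Fin n → F) : rkS h.s (a • x) y = a • rkS h.s x y :=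
  LinearMap.ext fun v => by simp only [LinearMap.smul_apply, rkS_apply, smul_comm a]

theorem rk_smul_right (a : F) (x y : Fin n → F) : rkS h.s x (a • y) = σ a • rkS h.s x y :=
  LinearMap.ext fun v => by simp only [LinearMap.smul_apply, rkS_apply, h.s.smul_right, mul_smul]

theorem rk_conj {α : GL (Fin n) F}
    (hα : ∀ x y, f ((α : Matrix (Fin n) (Fin n) F) *ᵥ x) ((α : Matrix (Fin n) (Fin n) F) *ᵥ y) = f x y)
    (x y : Fin n → F) :
    Matrix.toLin' (α : Matrix (Fin n) (Fin n) F) * rkS h.s x y *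
        Matrix.toLin' ((α⁻¹ : GL (Fin n) F) : Matrix (Fin n) (Fin n) F) =
      rkS h.s ((α : Matrix (Fin n) (Fin n) F) *ᵥ x) ((α : Matrix (Fin n) (Fin n) F) *ᵥ y) := by
  refine LinearMap.ext fun v => ?_
  simp only [Module.End.mul_apply, Matrix.toLin'_apply, rkS_apply, Matrix.mulVec_smul]
  congr 1
  rw [← hα, act_inv_act]

theorem sum_f_left {κ : Type*} (s : Finset κ) (g : κ → Fin n → F) (v : Fin n → F) :
    f (∑ i ∈ s, g i) v = ∑ i ∈ s, f (g i) v :=
  h.s.sum_left s g v

/-- A map vanishing on all isotropic vectors is scalar. -/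
theorem eq_scalar_of_quad {X : Module.End F (Fin n → F)} (hn : 2 ≤ n)
    (hX : ∀ u, f u u = 0 → f (X u) u = 0) : ∃ y : F, X = y • 1 := by
  obtain ⟨e, he, -⟩ := h.exists_iso_perp (m := 0) (by omega) Fin.elim0
  obtain ⟨r, hr, her, hre⟩ := h.exists_partner he
  obtain ⟨z, hz0, hz⟩ := h.exists_skew
  obtain ⟨c, hc⟩ := h.ne
  have hγ : f (X e) r = f (X r) e := by
    have h0 := hX (e + z • r) (by
      simp only [h.s.add_left, h.s.add_right, h.s.smul_left, h.s.smul_right, he.2, hr.2, her, hre, hz]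
      ring)
    simp only [map_add, map_smul, h.s.add_left, h.s.add_right, h.s.smul_left, h.s.smul_right, hX e he.2, hX r hr.2,
      hz] at h0
    exact mul_left_cancel₀ hz0 (by linear_combination -h0)
  set γ := f (X e) r with hγdef
  set Y : Module.End F (Fin n → F) := X - γ • 1 with hY
  have hYf : ∀ u v, f (Y u) v = f (X u) v - γ * f u v := fun u v => by
    rw [hY, LinearMap.sub_apply, LinearMap.smul_apply, Module.End.one_apply, h.s.sub_left, h.s.smul_left]
  have hYu : ∀ u, f u u = 0 → f (Y u) u = 0 := fun u hu => by rw [hYf, hX u hu, hu, mul_zero, sub_zero]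
  have hYer : f (Y e) r = 0 := by rw [hYf, her, mul_one, ← hγdef, sub_self]
  have hYre : f (Y r) e = 0 := by rw [hYf, hre, mul_one, ← hγ, sub_self]
  have hYee : f (Y e) e = 0 := hYu e he.2
  have hYrr : f (Y r) r = 0 := hYu r hr.2
  have main : ∀ w, f w e = 0 → f w r = 0 →
      f (Y e) w = 0 ∧ f (Y r) w = 0 ∧ f (Y w) e = 0 ∧ f (Y w) r = 0 ∧ f (Y w) w = 0 := by
    intro w hwe hwr
    have hew := h.s.symm_zero hwe
    have hrw := h.s.symm_zero hwr
    obtain ⟨ν, hν⟩ := h.exists_trace (a := -f w w) (by rw [map_neg, h.self_fixed])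
    have E : ∀ s t : F, t * σ s + s * σ t = -f w w →
        s * f (Y e) w + t * f (Y r) w + σ s * f (Y w) e + σ t * f (Y w) r + f (Y w) w = 0 := by
      intro s t hst
      have h0 := hYu (s • e + t • r + w) (by
        simp only [h.s.add_left, h.s.add_right, h.s.smul_left, h.s.smul_right, he.2, hr.2, her, hre, hwe, hwr, hew,
          hrw]
        linear_combination hst)
      simp only [map_add, map_smul, h.s.add_left, h.s.add_right, h.s.smul_left, h.s.smul_right, hYer, hYre, hYee,
        hYrr] at h0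
      linear_combination h0
    have hs1 : ∀ s : F, s ≠ 0 → s * f (Y r) w = σ s * f (Y w) r ∧ s * f (Y e) w = σ s * f (Y w) e := by
      intro s hs
      have hσs : σ s ≠ 0 := (map_ne_zero σ).2 hs
      constructor
      · have e1 := E s (ν / σ s) (by
          rw [map_div₀, h.s.invol, div_mul_cancel₀ _ hσs, mul_div_cancel₀ _ hs]; exact hν)
        have e2 := E s ((ν + z) / σ s) (by
          rw [map_div₀, h.s.invol, div_mul_cancel₀ _ hσs, mul_div_cancel₀ _ hs, map_add, hz]
          linear_combination hν)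
        simp only [map_div₀, map_add, h.s.invol, hz] at e1 e2
        field_simp at e1 e2
        exact mul_left_cancel₀ hz0 (by linear_combination e2 - e1)
      · have e1 := E (ν / σ s) s (by
          rw [map_div₀, h.s.invol, mul_div_cancel₀ _ hs, div_mul_cancel₀ _ hσs, add_comm]; exact hν)
        have e2 := E ((ν + z) / σ s) s (by
          rw [map_div₀, h.s.invol, mul_div_cancel₀ _ hs, div_mul_cancel₀ _ hσs, map_add, hz]
          linear_combination hν)
        simp only [map_div₀, map_add, h.s.invol, hz] at e1 e2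
        field_simp at e1 e2
        exact mul_left_cancel₀ hz0 (by linear_combination e2 - e1)
    have hc0 : c ≠ 0 := fun e0 => hc (by rw [e0, map_zero])
    obtain ⟨a1, a2⟩ := hs1 1 one_ne_zero
    obtain ⟨b1, b2⟩ := hs1 c hc0
    rw [map_one, one_mul, one_mul] at a1 a2
    have hA : f (Y e) w = 0 := by
      rw [← a2] at b2
      exact (mul_eq_zero.1 (show (c - σ c) * f (Y e) w = 0 by linear_combination b2)).resolve_left
        (sub_ne_zero.2 (Ne.symm hc))
    have hB : f (Y r) w = 0 := by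
      rw [← a1] at b1
      exact (mul_eq_zero.1 (show (c - σ c) * f (Y r) w = 0 by linear_combination b1)).resolve_left
        (sub_ne_zero.2 (Ne.symm hc))
    have hC : f (Y w) e = 0 := by rw [← a2, hA]
    have hD : f (Y w) r = 0 := by rw [← a1, hB]
    refine ⟨hA, hB, hC, hD, ?_⟩
    have := E 1 ν (by rw [map_one, mul_one, one_mul]; exact hν)
    rw [hA, hB, hC, hD] at this
    linear_combination this
  set W : (Fin n → F) → (Fin n → F) := fun v => v - f v r • e - f v e • r with hW
  have hWe : ∀ v, f (W v) e = 0 := fun v => by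
    simp only [hW, h.s.sub_left, h.s.smul_left, he.2, hre]; ring
  have hWr : ∀ v, f (W v) r = 0 := fun v => by
    simp only [hW, h.s.sub_left, h.s.smul_left, hr.2, her]; ring
  have hWW : ∀ v w, f (Y (W v)) (W w) = 0 := by
    intro v w
    set p := W v
    set p' := W w
    have hp : ∀ s : F, σ s * f (Y p) p' + s * f (Y p') p = 0 := fun s => by
      have h0 := (main (p + s • p') (by rw [h.s.add_left, h.s.smul_left, hWe, hWe, mul_zero, add_zero])
        (by rw [h.s.add_left, h.s.smul_left, hWr, hWr, mul_zero, add_zero])).2.2.2.2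
      simp only [map_add, map_smul, h.s.add_left, h.s.add_right, h.s.smul_left, h.s.smul_right,
        (main p (hWe v) (hWr v)).2.2.2.2, (main p' (hWe w) (hWr w)).2.2.2.2] at h0
      linear_combination h0
    have h1 := hp 1
    have h2 := hp c
    rw [map_one, one_mul, one_mul] at h1
    exact (mul_eq_zero.1 (show (σ c - c) * f (Y p) p' = 0 by linear_combination h2 - c * h1)).resolve_left
      (sub_ne_zero.2 hc)
  have hY0 : Y = 0 := by
    refine LinearMap.ext fun v => ?_
    rw [LinearMap.zero_apply]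
    refine h.s.nd _ fun w => ?_
    have hv : v = W v + f v r • e + f v e • r := by simp only [hW]; abel
    have hw : w = W w + f w r • e + f w e • r := by simp only [hW]; abel
    obtain ⟨hA, hB, hC, hD, -⟩ := main (W v) (hWe v) (hWr v)
    obtain ⟨hA', hB', -⟩ := main (W w) (hWe w) (hWr w)
    rw [hv, hw]
    simp only [map_add, map_smul, h.s.add_left, h.s.add_right, h.s.smul_left, h.s.smul_right, hWW, hC, hD, hA',
      hB', hYer, hYre, hYee, hYrr, mul_zero, add_zero]
  exact ⟨γ, sub_eq_zero.1 hY0⟩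

/-- An orthonormal family can be transformed by any special unitary matrix. -/
theorem exists_change {m : ℕ} (e : Fin m → Fin n → F) (he : ∀ i j, f (e i) (e j) = if i = j then 1 else 0)
    (U : Matrix (Fin m) (Fin m) F) (hU : ∀ i j, ∑ a, U i a * σ (U j a) = if i = j then 1 else 0)
    (hdet : U.det = 1) :
    ∃ α : GL (Fin n) F,
      (∀ x y, f ((α : Matrix (Fin n) (Fin n) F) *ᵥ x) ((α : Matrix (Fin n) (Fin n) F) *ᵥ y) = f x y) ∧
      (α : Matrix (Fin n) (Fin n) F).det = 1 ∧
      ∀ i, (α : Matrix (Fin n) (Fin n) F) *ᵥ e i = ∑ j, U i j • e j := by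
  classical
  set d : Fin m → Fin n → F := fun i => (∑ j, U i j • e j) - e i with hd
  let A : Matrix (Fin m) (Fin n) F := Matrix.of fun i => row f (e i)
  let B : Matrix (Fin n) (Fin m) F := Matrix.of fun x i => d i x
  have hA : ∀ v i, (A *ᵥ v) i = f v (e i) := fun v i => h.s.row_dot (e i) v
  have hBv : ∀ c : Fin m → F, B *ᵥ c = ∑ i, c i • d i := fun c => funext fun x => by
    simp only [Matrix.mulVec, dotProduct, B, Matrix.of_apply, Finset.sum_apply, Pi.smul_apply, smul_eq_mul]
    exact Finset.sum_congr rfl fun i _ => mul_comm _ _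
  have hact : ∀ v, (1 + B * A) *ᵥ v = v + ∑ i, f v (e i) • d i := fun v => by
    rw [Matrix.add_mulVec, Matrix.one_mulVec, ← Matrix.mulVec_mulVec, hBv]
    simp only [hA]
  have hde : ∀ i j, f (d i) (e j) = U i j - if i = j then 1 else 0 := fun i j => by
    simp [hd, h.s.sub_left, h.sum_f_left, h.s.smul_left, he]
  have hed : ∀ i j, f (e i) (d j) = σ (U j i) - if i = j then 1 else 0 := fun i j => by
    rw [← h.conj_f, hde, map_sub]
    congr 1
    by_cases hij : i = j
    · simp [hij]
    · simp [hij, Ne.symm hij]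
  have hdet' : (1 + B * A).det = 1 := by
    rw [Matrix.det_one_add_mul_comm]
    have e1 : 1 + A * B = Uᵀ := by
      refine Matrix.ext fun i j => ?_
      rw [Matrix.add_apply, Matrix.transpose_apply, show (A * B) i j = (A *ᵥ fun x => B x j) i from rfl, hA,
        show (fun x => B x j) = d j from rfl, hde, Matrix.one_apply]
      by_cases hij : i = j
      · simp [hij]
      · simp [hij, Ne.symm hij]
    rw [e1, Matrix.det_transpose, hdet]
  let α := Matrix.GeneralLinearGroup.mkOfDetNeZero (1 + B * A) (by rw [hdet']; exact one_ne_zero)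
  have hα : ∀ v, (α : Matrix (Fin n) (Fin n) F) *ᵥ v = v + ∑ i, f v (e i) • d i := hact
  refine ⟨α, fun x y => ?_, hdet', fun i => ?_⟩
  · have hsd : ∀ i j, f (d i) (d j) = -(σ (U j i) - if i = j then 1 else 0) - (U i j - if i = j then 1 else 0) := by
      intro i j
      conv_lhs => rw [show d i = (∑ a, U i a • e a) - e i from rfl]
      rw [h.s.sub_left, h.sum_f_left, hed]
      simp only [h.s.smul_left, hed, mul_sub, Finset.sum_sub_distrib, mul_ite, mul_one, mul_zero, Finset.sum_ite_eq',
        Finset.mem_univ, if_true, hU]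
      ring
    have hyd : ∀ i, f (d i) y = ∑ j, σ (f y (e j)) * U i j - σ (f y (e i)) := fun i => by
      simp only [hd, h.s.sub_left, h.sum_f_left, h.s.smul_left, h.conj_f]
      congr 1
      exact Finset.sum_congr rfl fun a _ => mul_comm _ _
    have hxd : ∀ j, f x (d j) = ∑ i, f x (e i) * σ (U j i) - f x (e j) := fun j => by
      simp only [hd, h.s.sub_right, h.s.sum_right, h.s.smul_right]
      congr 1
      exact Finset.sum_congr rfl fun a _ => mul_comm _ _
    rw [hα, hα]
    simp only [h.s.add_left, h.s.add_right, h.sum_f_left, h.s.sum_right, h.s.smul_left, h.s.smul_right, hsd, hxd,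
      hyd, mul_sub, mul_neg, Finset.mul_sum, Finset.sum_sub_distrib, Finset.sum_neg_distrib, mul_ite, mul_one,
      mul_zero, Finset.sum_ite_eq', Finset.sum_ite_eq, Finset.mem_univ, if_true]
    rw [Finset.sum_comm (f := fun i j => σ (f y (e i)) * (f x (e j) * σ (U i j)))]
    simp only [← mul_assoc, mul_comm (σ (f y (e _)))]
    ring
  · rw [hα, Finset.sum_eq_single i (fun j _ hj => by rw [he, if_neg (Ne.symm hj), zero_smul]) (by simp), he,
      if_pos rfl, one_smul]
    simp only [hd, add_sub_cancel]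

end UForm

/-- The matrix computation over the field with four elements. -/
theorem triple_iso {Φ : Matrix (Fin 3) (Fin 3) F → Prop} (hadd : ∀ C D, Φ C → Φ D → Φ (C + D))
    (hconj : ∀ U : Matrix (Fin 3) (Fin 3) F, (∀ i j, ∑ a, U i a * σ (U j a) = if i = j then 1 else 0) →
      U.det = 1 → ∀ C, Φ C → Φ (Uᵀ * C * U.map σ))
    {ω : F} (h2 : (2 : F) = 0) (hω : ω * ω = ω + 1) (hσω : σ ω = ω + 1)
    (h : Φ !![0, ω, 0; ω + 1, 0, 0; 0, 0, 0] ∨ Φ !![1, 0, 0; 0, 1, 0; 0, 0, 0]) :
    Φ !![0, 0, 0; 0, 1, 1; 0, 1, 1] := by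
  have hσ1 : σ (ω + 1) = ω := by rw [map_add, hσω, map_one]; linear_combination h2
  have hs : ∀ x : F, x + x = 0 := fun x => by linear_combination x * h2
  -- rotations
  have hD : ∀ d : F, d * σ d = 1 → ∀ i j, ∑ a, !![d, 0, 0; 0, 1, 0; 0, 0, σ d] i a *
      σ (!![d, 0, 0; 0, 1, 0; 0, 0, σ d] j a) = if i = j then 1 else 0 := by
    intro d hd i j
    have hd' : σ d * σ (σ d) = 1 := by rw [← map_mul, hd, map_one]
    fin_cases i <;> fin_cases j <;> simp [Fin.sum_univ_three, hd, hd']
  have hV : ∀ u : F, u * σ u = 1 → σ (σ u) = u → ∀ i j, ∑ a, !![1, 1, u; 1, ω, u * (ω + 1); σ u, σ u * (ω + 1), ω] i a *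
      σ (!![1, 1, u; 1, ω, u * (ω + 1); σ u, σ u * (ω + 1), ω] j a) = if i = j then 1 else 0 := by
    intro u hu hu' i j
    fin_cases i <;> fin_cases j <;> simp [Fin.sum_univ_three, hσω, hσ1, hu'] <;> grind
  have hVdet : ∀ u : F, u * σ u = 1 →
      (!![1, 1, u; 1, ω, u * (ω + 1); σ u, σ u * (ω + 1), ω] : Matrix (Fin 3) (Fin 3) F).det = 1 := by
    intro u hu
    simp [Matrix.det_fin_three]
    grind
  have hω0 : ω * (ω + 1) = 1 := by linear_combination hω + ω * h2
  have hn1 : (1 : F) * σ 1 = 1 := by simp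
  have hnω : ω * σ ω = 1 := by rw [hσω, hω0]
  have hnω' : (ω + 1) * σ (ω + 1) = 1 := by rw [hσ1, mul_comm, hω0]
  -- off-diagonal entries
  have h01 : Φ !![0, ω, 0; ω + 1, 0, 0; 0, 0, 0] := by
    rcases h with h | h
    · exact h
    · have hinv : ∀ u : F, σ (σ u) = u → u * σ u = 1 → Φ _ := fun u hu' hu =>
        hconj _ (hV u hu hu') (hVdet u hu) _ h
      have := hadd _ _ (hadd _ _ (hinv 1 (by simp) hn1) (hinv ω (by rw [hσω, hσ1]) hnω))
        (hinv (ω + 1) (by rw [hσ1, hσω]) hnω')
      convert this using 1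
      ext i j
      fin_cases i <;> fin_cases j <;> simp [Matrix.mul_apply, Fin.sum_univ_three, hσω, hσ1] <;> grind
  have hrot : ∀ i j, ∑ a, !![(0 : F), 1, 0; 0, 0, 1; 1, 0, 0] i a * σ (!![(0 : F), 1, 0; 0, 0, 1; 1, 0, 0] j a) =
      if i = j then 1 else 0 := by
    intro i j
    fin_cases i <;> fin_cases j <;> simp [Fin.sum_univ_three]
  have hrotdet : (!![(0 : F), 1, 0; 0, 0, 1; 1, 0, 0] : Matrix (Fin 3) (Fin 3) F).det = 1 := by
    simp [Matrix.det_fin_three]
  have hdiag : ∀ d : F, d * σ d = 1 → Φ _ := fun d hd =>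
    hconj _ (hD d hd) (by simp [Matrix.det_fin_three, hd]) _ h01
  have g1 : Φ !![0, 1, 0; 1, 0, 0; 0, 0, 0] := by
    convert hdiag (ω + 1) hnω' using 1
    ext i j
    fin_cases i <;> fin_cases j <;> simp [Matrix.mul_apply, Fin.sum_univ_three, hσω, hσ1] <;> grind
  have g12 : Φ !![0, 0, 0; 0, 0, 1; 0, 1, 0] := by
    convert hconj _ hrot hrotdet _ g1 using 1
    ext i j
    fin_cases i <;> fin_cases j <;> simp [Matrix.mul_apply, Fin.sum_univ_three]
  have g20 : Φ !![0, 0, ω + 1; 0, 0, 0; ω, 0, 0] := by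
    convert hconj _ hrot hrotdet _ (hconj _ hrot hrotdet _ h01) using 1
    ext i j
    fin_cases i <;> fin_cases j <;> simp [Matrix.mul_apply, Fin.sum_univ_three]
  have := hadd _ _ (hadd _ _ (hadd _ _ (hconj _ (hV 1 hn1 (by simp)) (hVdet 1 hn1) _ g1) h01) g20) g12
  convert this using 1
  ext i j
  fin_cases i <;> fin_cases j <;> simp [Matrix.mul_apply, Fin.sum_univ_three, hσω, hσ1] <;> grind

namespace UForm

variable [Fintype F] (h : UForm σ f)
include h

/-- A closed collection with a non-scalar skew member contains a transvection operator. -/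
theorem exists_transv {P : Module.End F (Fin n → F) → Prop} (hP : SkewClosed σ f P) (hn : 2 ≤ n)
    (hq : n ≤ 2 → ∃ s : F, σ s = s ∧ s ≠ 0 ∧ s ≠ 1) {Z : Module.End F (Fin n → F)} (hZ : P Z)
    (hadj : IsAdj f Z (-Z)) (hns : ∀ y : F, Z ≠ y • 1) :
    ∃ (u : Fin n → F) (z : F), Iso f u ∧ z ≠ 0 ∧ σ z = -z ∧ P (z • rkS h.s u u) := by
  classical
  obtain ⟨u, hu, hcu⟩ : ∃ u, f u u = 0 ∧ f (Z u) u ≠ 0 := by
    by_contra! h0
    obtain ⟨y, hy⟩ := h.eq_scalar_of_quad hn h0
    exact hns y hy
  have hu0 : u ≠ 0 := fun e => hcu (by rw [e, h.s.zero_right])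
  have hZv : ∀ v w, f (Z v) w = -f v (Z w) := fun v w => by rw [hadj v w, LinearMap.neg_apply, h.s.neg_right]
  have hc : σ (f (Z u) u) = -f (Z u) u := by rw [h.conj_f, hZv, neg_neg]
  obtain ⟨z0, hz0, hz0'⟩ := h.exists_skew
  set N := rkS h.s u u with hN
  have hD : ∀ z : F, σ z = -z → P (z • (N * Z - Z * N) - (z * z * f (Z u) u) • N) := by
    intro z hz
    set τ := ft f u (σ z • u)
    have e1 : Matrix.toLin' (τ : Matrix (Fin n) (Fin n) F) = 1 + z • N := LinearMap.ext fun x => by
      rw [Matrix.toLin'_apply, h.ft_apply hu, LinearMap.add_apply, Module.End.one_apply, LinearMap.smul_apply, hN,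
        rkS_apply, mul_smul]
    have e2 : Matrix.toLin' ((τ⁻¹ : GL (Fin n) F) : Matrix (Fin n) (Fin n) F) = 1 - z • N := LinearMap.ext fun x => by
      rw [Matrix.toLin'_apply]
      apply act_injective τ
      show _ *ᵥ _ = _ *ᵥ _
      rw [act_inv_act, h.ft_apply hu]
      simp only [hN, LinearMap.sub_apply, Module.End.one_apply, LinearMap.smul_apply, rkS_apply, h.s.sub_left,
        h.s.smul_left, hu, mul_zero, sub_zero, mul_smul, sub_add_cancel]
    have hc1 := hP.conj τ (h.ft_preserves hu hz) (congrArg Units.val (tv_det u (row f (σ z • u)))) Z hZ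
    rw [e1, e2] at hc1
    have := hP.add _ _ hc1 (hP.smul (-1) (by simp) Z hZ)
    convert this using 1
    refine LinearMap.ext fun x => ?_
    simp only [hN, LinearMap.add_apply, LinearMap.sub_apply, LinearMap.smul_apply, Module.End.mul_apply,
      Module.End.one_apply, rkS_apply, map_sub, map_smul, smul_sub, smul_add, smul_smul, h.s.smul_left,
      h.s.sub_left, add_smul, sub_smul]
    module
  by_cases hs : ∃ s : F, σ s = s ∧ s ≠ 0 ∧ s ≠ 1
  · obtain ⟨s, hs, hs0, hs1⟩ := hs
    set c := f (Z u) u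
    set ν := (s - s * s) * z0 * c with hν
    have hν0 : ν ≠ 0 := by
      refine mul_ne_zero (mul_ne_zero (fun e => ?_) hz0) hcu
      rcases mul_eq_zero.1 (show s * (1 - s) = 0 by linear_combination e) with e0 | e0
      · exact hs0 e0
      · exact hs1 (by linear_combination -e0)
    have hνf : σ ν = ν := by rw [hν, map_mul, map_mul, map_sub, map_mul, hs, hz0', hc]; ring
    refine ⟨u, z0, ⟨hu0, hu⟩, hz0, hz0', ?_⟩
    have := hP.smul ν⁻¹ (by rw [map_inv₀, hνf]) _
      (hP.add _ _ (hD (s * z0) (by rw [map_mul, hs, hz0', mul_neg]))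
        (hP.smul (-s) (by rw [map_neg, hs]) _ (hD z0 hz0')))
    convert this using 1
    have e : (s * z0) • (N * Z - Z * N) - (s * z0 * (s * z0) * c) • N +
        (-s) • (z0 • (N * Z - Z * N) - (z0 * z0 * c) • N) = (ν * z0) • N := by
      rw [hν]; module
    rw [e, smul_smul, ← mul_assoc, inv_mul_cancel₀ hν0, one_mul]
  · push_neg at hs
    have hn3 : 3 ≤ n := by
      by_contra h0
      obtain ⟨s, h1, h2, h3⟩ := hq (by omega)
      exact h3 (hs s h1 h2)
    have hneg : (-1 : F) = 1 := hs (-1) (by simp) (neg_ne_zero.2 one_ne_zero)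
    have h2 : (2 : F) = 0 := by linear_combination -hneg
    have hzz : z0 = 1 := hs z0 (by rw [hz0']; linear_combination -z0 * h2) hz0
    obtain ⟨ω, hω'⟩ := h.ne
    have hω0 : ω ≠ 0 := fun e => hω' (by rw [e, map_zero])
    have hsum : ω + σ ω = 1 := hs _ (by rw [map_add, h.s.invol, add_comm]) (fun e => hω' (by
      linear_combination e - ω * h2))
    have hprod : ω * σ ω = 1 := hs _ (by rw [map_mul, h.s.invol, mul_comm]) (mul_ne_zero hω0 ((map_ne_zero σ).2 hω0))
    have hσω : σ ω = ω + 1 := by linear_combination hsum - ω * h2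
    have hω : ω * ω = ω + 1 := by rw [hσω] at hprod; linear_combination hprod - (ω + 1) * h2 + h2
    have hc1 : f (Z u) u = 1 := hs _ (by rw [hc]; linear_combination -(f (Z u) u) * h2) hcu
    set g := f (Z u) (Z u) with hg
    obtain ⟨γ, hγ, hγ'⟩ : ∃ γ : F, γ + σ γ = g ∧ (g = 0 ∧ γ = 0 ∨ g = 1 ∧ γ = ω) := by
      by_cases hg0 : g = 0
      · exact ⟨0, by simp [hg0], Or.inl ⟨hg0, rfl⟩⟩
      · have := hs g (h.self_fixed _) hg0
        exact ⟨ω, by rw [this]; exact hsum, Or.inr ⟨this, rfl⟩⟩
    set b := Z u + γ • u with hb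
    have hbu : f b u = 1 := by rw [hb, h.s.add_left, hc1, h.s.smul_left, hu, mul_zero, add_zero]
    have hub : f u b = 1 := by rw [← h.conj_f, hbu, map_one]
    have huZ : f u (Z u) = 1 := by rw [← h.conj_f, hc1, map_one]
    have hbb : f b b = 0 := by
      rw [hb, h.s.add_left, h.s.add_right, h.s.add_right, h.s.smul_left, h.s.smul_right, h.s.smul_left,
        h.s.smul_right, hc1, huZ, hu, ← hg]
      linear_combination hγ + g * h2
    obtain ⟨e2, ⟨-, he2⟩, he22⟩ := TransvectionUnitaryGen.exists_norm_val h.isU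
      (U := (⊤ : Submodule F (Fin n → F)) ⊓ TransvectionUnitary.perp h.isU (Submodule.span F {u, b}))
      (TransvectionUnitaryGen.inf_perp_pair_nondeg h.isU (fun w _ hw => by
        obtain ⟨⟨x, hx⟩, ⟨y, hy⟩⟩ := h.isU.nondegenerate w hw
        exact ⟨⟨x, Submodule.mem_top, hx⟩, ⟨y, Submodule.mem_top, hy⟩⟩) Submodule.mem_top Submodule.mem_top hu hbb
        (by rw [hub]; exact one_ne_zero))
      (fun e0 => by
        obtain ⟨p, hp, hp'⟩ := exists_perp h.s (show 2 < n by omega) ![u, b]
        exact hp ((Submodule.mem_bot (R := F)).1 (e0 ▸ ⟨Submodule.mem_top,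
          (TransvectionUnitary.mem_perp_pair h.isU).2 ⟨hp' 0, hp' 1⟩⟩)))
      (s := 1) (map_one _)
    obtain ⟨h2u, h2b⟩ := (TransvectionUnitary.mem_perp_pair h.isU).1 he2
    let e : Fin 3 → Fin n → F := ![u + ω • b, u + (ω + 1) • b, e2]
    have he : ∀ i j, f (e i) (e j) = if i = j then 1 else 0 := by
      intro i j
      fin_cases i <;> fin_cases j <;>
        simp [e, h.s.add_left, h.s.add_right, h.s.smul_left, h.s.smul_right, hu, hbb, hbu, hub, h2u, h2b,
          h.s.symm_zero h2u, h.s.symm_zero h2b, he22, hσω, h.s.zero_right] <;> grind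
    let op : Matrix (Fin 3) (Fin 3) F → Module.End F (Fin n → F) := fun C =>
      ∑ i, ∑ j, C i j • rkS h.s (e i) (e j)
    have hY := hD 1 (by rw [map_one, hneg])
    have hNZ : ∀ x, (N * Z - Z * N) x = f x b • u + f x u • b + g • (f x u • u) := by
      intro x
      have h1 : f (Z x) u = f x (Z u) := by rw [hZv]; linear_combination -(f x (Z u)) * h2
      simp only [hN, LinearMap.sub_apply, Module.End.mul_apply, rkS_apply, map_smul, h1, hb, h.s.add_right,
        h.s.smul_right, smul_add, add_smul, mul_smul]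
      rw [show Z u = (Z u + γ • u) - γ • u from (add_sub_cancel_right _ _).symm]
      funext p
      simp only [Pi.sub_apply, Pi.add_apply, Pi.smul_apply, smul_eq_mul, h.s.sub_right, h.s.smul_right]
      grind
    have h0 : P (op !![0, ω, 0; ω + 1, 0, 0; 0, 0, 0]) ∨ P (op !![1, 0, 0; 0, 1, 0; 0, 0, 0]) := by
      rcases hγ' with ⟨hg0, hγ0⟩ | ⟨hg1, hγ1⟩
      · left
        convert hY using 1
        refine LinearMap.ext fun x => ?_
        rw [LinearMap.sub_apply, LinearMap.smul_apply, hNZ]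
        simp only [op, Fin.sum_univ_three, LinearMap.add_apply, LinearMap.smul_apply, rkS_apply, hN, hc1, e]
        funext p
        simp [h.s.add_right, h.s.smul_right, hσω, hg0]
        grind
      · right
        convert hY using 1
        refine LinearMap.ext fun x => ?_
        rw [LinearMap.sub_apply, LinearMap.smul_apply, hNZ]
        simp only [op, Fin.sum_univ_three, LinearMap.add_apply, LinearMap.smul_apply, rkS_apply, hN, hc1, e]
        funext p
        simp [h.s.add_right, h.s.smul_right, hσω, hg1]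
        grind
    have key := triple_iso (σ := σ) (Φ := fun C => P (op C)) (fun C D hC hD' => by
        have := hP.add _ _ hC hD'
        convert this using 1
        simp only [op, Matrix.add_apply, add_smul, Finset.sum_add_distrib])
      (fun U hU hUd C hC => by
        obtain ⟨α, hα, hαd, hαe⟩ := h.exists_change e he U hU hUd
        have := hP.conj α hα hαd _ hC
        convert this using 1
        simp only [op, Finset.mul_sum, Finset.sum_mul, mul_add, add_mul, mul_smul_comm, smul_mul_assoc, h.rk_conj hα, hαe,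
          Fin.sum_univ_three, Matrix.mul_apply, Matrix.transpose_apply, Matrix.map_apply, h.rk_add_left,
          h.rk_add_right, h.rk_smul_left, h.rk_smul_right, smul_add, smul_smul]
        module) h2 hω hσω h0
    have h12 : f (e 1 + e 2) (e 1 + e 2) = 0 := by
      rw [h.s.add_left, h.s.add_right, h.s.add_right, he, he, he, he]
      simp only [Fin.isValue, if_pos, if_true]
      rw [if_neg (by decide), if_neg (by decide)]
      linear_combination h2
    refine ⟨e 1 + e 2, 1, ⟨fun e0 => ?_, h12⟩, one_ne_zero, by rw [map_one, hneg], ?_⟩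
    · have := congrArg (fun v => f v (e 1)) e0
      simp only [h.s.add_left, he, h.s.zero_left] at this
      simp at this
    · convert key using 1
      simp [op, Fin.sum_univ_three, h.rk_add_left, h.rk_add_right]

end UForm

section Main

variable [Fintype F] {f₁ : (Fin k → F) → (Fin k → F) → F} {f₂ : (Fin l → F) → (Fin l → F) → F}
  {M : Subgroup (GL (Fin k × Fin l) F)} (H₁ : UForm σ f₁) (H₂ : UForm σ f₂)
  (C : Ctx0 σ 1 1 f₁ f₂ M) (hH : Cfsg.Geo.kroneckerSubgroup k l F ⊓ SUT σ f₁ f₂ ≤ M)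
include H₁ H₂ C hH

/-- `C_a(Z)` is in `M` for every isotropic `a`. -/
def Central (M : Subgroup (GL (Fin k × Fin l) F)) (f₂ : (Fin l → F) → (Fin l → F) → F)
    (Z : Module.End F (Fin k → F)) : Prop :=
  ∀ a, Iso f₂ a → El M (SOp f₂ a Z a)

theorem central_closed : SkewClosed σ f₁ (Central M f₂) where
  add X Y hX hY a ha := by
    have := (hX a ha).add (hY a ha) (by rw [SOp_mul H₂.s, ha.2, zero_smul])
    rwa [← SOp_add H₂.s] at this
  smul ν hν X hX a ha := by
    by_cases h0 : ν = 0
    · rw [h0, zero_smul, SOp_zero H₂.s]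
      exact El.zero M
    obtain ⟨t, ht⟩ := H₁.exists_norm hν
    have := hX (t • a) (C.iso_smul ha (fun e => h0 (by rw [← ht, e, zero_mul])))
    rwa [SOp_smul_left H₂.s, SOp_smul_right H₂.s, smul_smul, ht, ← SOp_smul H₂.s] at this
  conj α hα hαd X hX a ha := by
    have := El.conj (hX a ha) (left_mem H₁ H₂ hH hα hαd)
    rwa [Ctx.kr_left_SOp H₂.s] at this

theorem central_of {a : Fin l → F} (ha : Iso f₂ a) {Z : Module.End F (Fin k → F)} (hZ : El M (SOp f₂ a Z a)) :
    Central M f₂ Z := by
  intro c hc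
  obtain ⟨β, hβM, hβ, hβa⟩ := C.move a c ha hc
  have h := El.conj hZ hβM
  convert h using 1
  refine LinearMap.ext fun u => ?_
  simp only [Module.End.mul_apply, SOp_apply, Matrix.toLin'_apply, kr_tp, Units.val_one, Matrix.one_mulVec, kr_inv,
    inv_one, hβa]
  congr 2
  rw [tp_decomp u]
  simp only [Matrix.mulVec_sum, map_sum, kr_tp, Units.val_one, Matrix.one_mulVec, Pf_tp H₂.s]
  refine Finset.sum_congr rfl fun i _ => ?_
  conv_lhs => rw [← act_inv_act β (fun j => u (i, j)), ← hβa, hβ]

/-- Either central operators are scalar or all transvections at isotropic pure tensors lie in `M`. -/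
theorem centre_or_transvections (hk : 2 ≤ k) (hq : k ≤ 2 → ∃ s : F, σ s = s ∧ s ≠ 0 ∧ s ≠ 1) :
    Ctx0.CentreScalar M f₁ f₂ (1 : F) ∨
      ∀ (u : Fin k → F) (a : Fin l → F) (z : F), Iso f₁ u → Iso f₂ a → σ z = -z →
        El M (SOp f₂ a (z • rkS H₁.s u u) a) := by
  by_cases hcs : Ctx0.CentreScalar M f₁ f₂ (1 : F)
  · exact Or.inl hcs
  right
  simp only [Ctx0.CentreScalar, not_forall, not_exists] at hcs
  obtain ⟨a₀, ha₀, Z, hadj, hEl, hns⟩ := hcs
  have hP := central_closed H₁ H₂ C hH
  have hadj' : IsAdj f₁ Z (-Z) := by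
    intro v w
    rw [hadj v w, LinearMap.smul_apply, LinearMap.neg_apply, neg_one_smul]
  obtain ⟨u₀, z₀, hu₀, hz₀, hz₀', h0⟩ := H₁.exists_transv hP hk hq (central_of H₁ H₂ C hH ha₀ hEl) hadj' hns
  have hscale : ∀ (u : Fin k → F) (z : F), σ z = -z → Central M f₂ (z₀ • rkS H₁.s u u) →
      Central M f₂ (z • rkS H₁.s u u) := by
    intro u z hz hu
    have := hP.smul (z / z₀) (by rw [map_div₀, hz, hz₀', neg_div_neg_eq]) _ hu
    rwa [smul_smul, div_mul_cancel₀ _ hz₀] at this
  have hmv : ∀ v w, Iso f₁ v → Iso f₁ w → f₁ v w ≠ 0 → Central M f₂ (z₀ • rkS H₁.s v v) →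
      Central M f₂ (z₀ • rkS H₁.s w w) := by
    intro v w hv hw hvw hc
    obtain ⟨b, z, t, hb, hz, ht, htv⟩ := H₁.move_scale hv.2 hw.2 hvw
    have h1 := hP.conj _ (H₁.ft_preserves hb hz) (congrArg Units.val (tv_det b (row f₁ (σ z • b)))) _ hc
    rw [mul_smul_comm, smul_mul_assoc, H₁.rk_conj (H₁.ft_preserves hb hz), htv, H₁.rk_smul_left,
      H₁.rk_smul_right] at h1
    have hν : σ ((t * σ t)⁻¹) = (t * σ t)⁻¹ := by rw [map_inv₀, map_mul, H₁.s.invol, mul_comm]
    have := hP.smul _ hν _ h1
    have hσt : σ t ≠ 0 := (map_ne_zero σ).2 ht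
    simp only [smul_smul] at this
    convert this using 3
    field_simp
  intro u a z hu ha hz
  obtain ⟨w, hw, hwu0, hwu⟩ := H₁.exists_common hu₀ hu
  exact hscale u z hz (hmv w u hw hu hwu (hmv u₀ w hu₀ hw (fun e => hwu0 (H₁.s.symm_zero e)) h0)) a ha

/-- Scalar central operators make the conjugated roots scalar. -/
theorem rho_of_centre (K₁ : Ctx0.CentreScalar M f₁ f₂ (1 : F)) : Ctx0.RhoScalar M σ f₁ f₂ (1 : F) := by
  intro a e hae t ht hts X X' hadj hρ
  obtain ⟨z, hz0, hz⟩ := H₂.exists_skew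
  have hzC : σ z = -1 * z := by rw [hz, neg_one_mul]
  obtain ⟨y, hy, hye⟩ := TransvectionUnitary.exists_perp_val H₂.isU (W := Submodule.span F {a}) (a := e)
    (fun hm => by
      obtain ⟨r, hr⟩ := Submodule.mem_span_singleton.1 hm
      exact hae.2.2.2 r hr.symm) 1
  rw [TransvectionUnitary.mem_perp_singleton] at hy
  obtain ⟨ν, hν⟩ := H₂.exists_trace (a := -f₂ y y) (by rw [map_neg, H₂.self_fixed])
  set e' := y + ν • e
  have h1 : f₂ e' e = 1 := by rw [H₂.s.add_left, H₂.s.smul_left, hae.2.1.2, hye, mul_zero, add_zero]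
  have h1' : f₂ e e' = 1 := by rw [← H₂.conj_f, h1, map_one]
  have hey : f₂ e y = 1 := by rw [← H₂.conj_f, hye, map_one]
  have h2 : f₂ e' a = 0 := by
    rw [H₂.s.add_left, H₂.s.smul_left, hy, H₂.s.symm_zero hae.2.2.1, mul_zero, add_zero]
  have h3 : f₂ e' e' = 0 := by
    rw [H₂.s.add_left y, H₂.s.add_right y, H₂.s.add_right (ν • e), H₂.s.smul_right, H₂.s.smul_right, H₂.s.smul_left,
      H₂.s.smul_left, hae.2.1.2, hye, hey]
    linear_combination hν
  have hμ : ∀ μ : F, μ ≠ 0 → ∃ s : F, μ • X - σ μ • X' = s • 1 := by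
    intro μ hμ
    set p := μ • e' with hp
    have hpp : f₂ p p = 0 := by rw [hp, H₂.s.smul_left, H₂.s.smul_right, h3, mul_zero, mul_zero]
    have hpa : f₂ p a = 0 := by rw [hp, H₂.s.smul_left, h2, mul_zero]
    have hpe : f₂ p e = μ := by rw [hp, H₂.s.smul_left, h1, mul_one]
    have hep : f₂ e p = σ μ := by rw [hp, H₂.s.smul_right, h1', mul_one]
    have hap : f₂ a p = 0 := H₂.s.symm_zero hpa
    have z1 := H₂.s.symm_zero hae.2.2.1
    have hp0 : p ≠ 0 := fun e0 => hμ (by rw [← hpe, e0, H₂.s.zero_left])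
    have hq' : Iso f₂ (a + p) := by
      refine ⟨fun e0 => hμ ?_, ?_⟩
      · have := congrArg (fun v => f₂ v e) e0
        simpa [H₂.s.add_left, hae.2.2.1, hpe, H₂.s.zero_left] using this
      · rw [H₂.s.add_left, H₂.s.add_right, H₂.s.add_right, hae.1.2, hap, hpa, hpp]
        simp
    have hM : El M (z • (SOp f₂ a 1 p + SOp f₂ p 1 a + SOp f₂ a 1 a)) := by
      have hz' : σ (-z) = -1 * -z := by rw [map_neg, hz]; ring
      have hh := (C.root _ hq' z hzC).add (C.root p ⟨hp0, hpp⟩ (-z) hz') (by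
        simp only [SOp_add_left H₂.s, SOp_add_right H₂.s, smul_mul_assoc, mul_smul_comm, add_mul, SOp_mul H₂.s,
          hpp, hpa, hap, zero_smul, add_zero, smul_zero])
      convert hh using 1
      simp only [SOp_add_left H₂.s, SOp_add_right H₂.s, smul_add, El.smul_neg_left]
      abel
    have hcomm := El.comm hρ hM ?_ ?_ ?_ ?_
    · set Z := (t * z) • (μ • X - σ μ • X') with hZ
      have hZadj : IsAdj f₁ Z ((-(1 : F)) • Z) := by
        have h' := ((hadj.smul H₁.s μ).sub H₁.s ((hadj.symm H₁.s).smul H₁.s (σ μ))).smul H₁.s (t * z)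
        convert h' using 1
        rw [hZ, map_mul, hts, hz, H₁.s.invol]
        module
      obtain ⟨s, hs⟩ := K₁ a hae.1 Z hZadj (by
        convert hcomm using 1
        simp only [hZ, add_mul, mul_add, smul_mul_assoc, mul_smul_comm, smul_add, smul_smul, SOp_mul H₂.s,
          SOp_smul H₂.s, sub_eq_add_neg, ← El.smul_neg_left, ← neg_SOp, smul_neg, SOp_add H₂.s, hae.1.2, hae.2.1.2, hpp, hae.2.2.1, hpa,
          hap, hpe, hep, z1, one_mul, mul_one, zero_smul, smul_zero, add_zero, zero_add, mul_zero, zero_mul]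
        module)
      refine ⟨(t * z)⁻¹ * s, ?_⟩
      rw [← smul_smul, ← hs, hZ, inv_smul_smul₀ (mul_ne_zero ht hz0)]
    all_goals
      simp only [add_mul, mul_add, smul_mul_assoc, mul_smul_comm, smul_add, smul_smul, SOp_mul H₂.s, hae.1.2,
        hae.2.1.2, hpp, hae.2.2.1, hpa, hap, hpe, hep, z1, zero_smul, smul_zero, add_zero, zero_add, mul_zero,
        zero_mul]
  obtain ⟨c, hc⟩ := H₁.ne
  obtain ⟨s1, hs1⟩ := hμ 1 one_ne_zero
  obtain ⟨s2, hs2⟩ := hμ c (fun e0 => hc (by rw [e0, map_zero]))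
  refine ⟨(c - σ c)⁻¹ * (s2 - σ c * s1), ?_⟩
  have : (c - σ c) • X = (s2 - σ c * s1) • (1 : Module.End F (Fin k → F)) := by
    refine LinearMap.ext fun x => ?_
    have e1 := LinearMap.congr_fun hs1 x
    have e2 := LinearMap.congr_fun hs2 x
    simp only [LinearMap.sub_apply, LinearMap.smul_apply, Module.End.one_apply, map_one, one_smul] at e1 e2 ⊢
    linear_combination (norm := module) e2 - σ c • e1
  rw [← smul_smul, ← this, inv_smul_smul₀ (sub_ne_zero.2 (Ne.symm hc))]

end Main

end Cfsg.Agent.TensorMax
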