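import Cfsg.Agent.Lib.TensorMaxUnitForm

/-!
The descent for a tensor product of two hermitian spaces: if central and conjugated roots are scalar, an overgroup
of the tensor product of the two unitary groups lies in the tensor stabiliser.
-/

set_option autoImplicit false
set_option linter.unusedSectionVars false

namespace Cfsg.Agent.TensorMax

open scoped Matrix MatrixGroups Kronecker
open Cfsg.Agent.TransvectionMax

variable {F : Type*} [Field F] {σ : F →+* F} {k l : ℕ}

/-- A polynomial of small degree sums to zero over the points with coordinates in a subfield. -/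
theorem sum_subfield_eval [Fintype F] {F₀ : Subfield F} [Fintype F₀] {κ : Type} [Fintype κ] [DecidableEq κ]
    (P : MvPolynomial κ F) (h : P.totalDegree < (Fintype.card F₀ - 1) * Fintype.card κ) :
    ∑ x : κ → F₀, MvPolynomial.eval (fun v => (x v : F)) P = 0 := by
  classical
  simp only [MvPolynomial.eval_eq']
  rw [Finset.sum_comm]
  refine Finset.sum_eq_zero fun d hd => ?_
  rw [← Finset.mul_sum]
  obtain ⟨v, hv⟩ : ∃ v, d v < Fintype.card F₀ - 1 := by
    by_contra! h0
    have h1 : ∑ v, (Fintype.card F₀ - 1) ≤ ∑ v, d v := Finset.sum_le_sum fun v _ => h0 v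
    have h2 := MvPolynomial.le_totalDegree hd
    rw [Finset.sum_const, Finset.card_univ, smul_eq_mul, mul_comm] at h1
    rw [Finsupp.sum_fintype _ _ (fun _ => rfl)] at h2
    omega
  rw [← Fintype.prod_sum (fun v (a : F₀) => (a : F) ^ d v)]
  refine mul_eq_zero_of_right _ (Finset.prod_eq_zero (Finset.mem_univ v) ?_)
  have h3 := congrArg (Subfield.subtype F₀) (FiniteField.sum_pow_lt_card_sub_one (K := F₀) _ hv)
  simpa [map_sum] using h3

/-- The operator of an Eichler element `x ↦ f x c y - f x y c + s f x c c` in the second factor. -/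
def eichN (f₂ : (Fin l → F) → (Fin l → F) → F) (k : ℕ) (c y : Fin l → F) (s : F) :
    Module.End F (Fin k × Fin l → F) :=
  SOp f₂ y 1 c + SOp f₂ c (-1) y + s • SOp f₂ c 1 c

variable [Fintype F] {f₁ : (Fin k → F) → (Fin k → F) → F} {f₂ : (Fin l → F) → (Fin l → F) → F}
  (H₁ : UForm σ f₁) (H₂ : UForm σ f₂)
include H₁ H₂

theorem eichN_tp (c y : Fin l → F) (s : F) (v : Fin k → F) (x : Fin l → F) :
    eichN f₂ k c y s (tp v x) = tp v (f₂ x c • y - f₂ x y • c + (s * f₂ x c) • c) := by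
  simp only [eichN, LinearMap.add_apply, LinearMap.smul_apply, SOp_apply, Pf_tp H₂.s, LinearMap.neg_apply,
    Module.End.one_apply]
  funext p
  simp [tp]
  ring

theorem eichN_skew {c y : Fin l → F} {s : F} (hs : σ s = -s) (u w : Fin k × Fin l → F) :
    tForm σ f₁ f₂ (eichN f₂ k c y s u) w = -σ (tForm σ f₁ f₂ (eichN f₂ k c y s w) u) := by
  have e : ∀ (a c : Fin l → F) (u w : Fin k × Fin l → F),
      tForm σ f₁ f₂ (tp (Pf f₂ k c u) a) w = f₁ (Pf f₂ k c u) (Pf f₂ k a w) := fun a c u w => by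
    rw [tForm_left H₂.s H₁.s, tForm_right H₂.s H₁.s, one_mul, one_mul, H₁.conj_f]
  have key : ∀ u w, tForm σ f₁ f₂ (eichN f₂ k c y s u) w =
      f₁ (Pf f₂ k c u) (Pf f₂ k y w) - f₁ (Pf f₂ k y u) (Pf f₂ k c w) + s * f₁ (Pf f₂ k c u) (Pf f₂ k c w) := by
    intro u w
    simp only [eichN, LinearMap.add_apply, LinearMap.smul_apply, SOp_apply, LinearMap.neg_apply,
      Module.End.one_apply]
    rw [show tp (-Pf f₂ k y u) c = (-1 : F) • tp (Pf f₂ k y u) c from by
      rw [← tp_smul_left]; simp, tForm_add_left, tForm_add_left]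
    have hsm : ∀ (t : F) (p : Fin k × Fin l → F), tForm σ f₁ f₂ (t • p) w = t * tForm σ f₁ f₂ p w := fun t p => by
      simp only [tForm, Cfsg.Geo.formOfGram, Pi.smul_apply, smul_eq_mul, Finset.mul_sum]
      exact Finset.sum_congr rfl fun a _ => Finset.sum_congr rfl fun b _ => by ring
    rw [hsm, hsm, e, e, e]
    ring
  rw [key, key, map_add, map_sub, map_mul, H₁.conj_f, H₁.conj_f, H₁.conj_f, hs]
  ring

variable {M : Subgroup (GL (Fin k × Fin l) F)} (C : Ctx0 σ 1 1 f₁ f₂ M)
include C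

theorem eichN_sq {c y : Fin l → F} {s : F} (hc : f₂ c c = 0) (hy : f₂ y y = 0) (hyc : f₂ y c = 0) :
    eichN f₂ k c y s * eichN f₂ k c y s = 0 := by
  simp only [eichN, add_mul, mul_add, smul_mul_assoc, mul_smul_comm, SOp_mul H₂.s, hc, hy, hyc,
    H₂.s.symm_zero hyc, zero_smul, smul_zero, add_zero]

theorem el_eichN {c y : Fin l → F} {s : F} (hc : Iso f₂ c) (hy : f₂ y y = 0) (hyc : f₂ y c = 0) (hs : σ s = -s)
    (hyi : y ≠ 0 → ∀ t : F, y ≠ t • c) : El M (eichN f₂ k c y s) := by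
  have hS : ∀ t : F, σ t = -t → El M (t • SOp f₂ c 1 c) := fun t ht => C.root c hc t (by rw [ht, neg_one_mul])
  by_cases hy0 : y = 0
  · convert hS s hs using 1
    refine LinearMap.ext fun u => ?_
    simp only [eichN, hy0, LinearMap.add_apply, LinearMap.smul_apply, SOp_apply, LinearMap.neg_apply,
      tp_zero_right, zero_add, Module.End.one_apply]
    rw [show Pf f₂ k (0 : Fin l → F) u = 0 from funext fun i => by
      rw [Pf_apply H₂.s, H₂.s.zero_right, Pi.zero_apply], neg_zero, tp_zero_left, zero_add]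
  obtain ⟨z, hz0, hz⟩ := H₂.exists_skew
  have hyi' : Iso f₂ y := ⟨hy0, hy⟩
  set lam := -z⁻¹ with hlam
  have hσlam : σ lam = z⁻¹ := by rw [hlam, map_neg, map_inv₀, hz, inv_neg, neg_neg]
  have hlc : f₂ y (lam • c) = 0 := by rw [H₂.s.smul_right, hyc, mul_zero]
  have hp : Pair f₂ y (lam • c) := ⟨hyi', C.iso_smul hc (by simp [hlam, hz0]), hlc, fun t e => by
    by_cases ht : t = 0
    · rw [ht, zero_smul] at e
      exact smul_ne_zero (by simp [hlam, hz0]) hc.1 e
    · exact hyi hy0 (t⁻¹ * lam) (by rw [mul_smul, e, inv_smul_smul₀ ht])⟩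
  have h1 := C.root _ (C.iso_add hp) z (by rw [hz, neg_one_mul])
  have h2 := C.root y hyi' (-z) (by rw [map_neg, hz, neg_one_mul])
  have h3 := hS (s + z⁻¹) (by rw [map_add, hs, map_inv₀, hz, inv_neg]; ring)
  have z1 := H₂.s.symm_zero hyc
  have h12 := h1.add h2 (by
    simp only [SOp_add_left H₂.s, SOp_add_right H₂.s, SOp_smul_left H₂.s, SOp_smul_right H₂.s, add_mul,
      smul_add, smul_mul_assoc, mul_smul_comm, SOp_mul H₂.s, hy, z1, hc.2, hyc, zero_smul, smul_zero, add_zero])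
  have h123 := h12.add h3 (by
    simp only [SOp_add_left H₂.s, SOp_add_right H₂.s, SOp_smul_left H₂.s, SOp_smul_right H₂.s, add_mul,
      smul_add, smul_mul_assoc, mul_smul_comm, SOp_mul H₂.s, hy, z1, hc.2, hyc, zero_smul, smul_zero, add_zero])
  convert h123 using 1
  simp only [eichN, SOp_add_left H₂.s, SOp_add_right H₂.s, SOp_smul_left H₂.s, SOp_smul_right H₂.s, hσlam, hlam,
    smul_add, smul_smul, ← neg_SOp]
  refine LinearMap.ext fun u => ?_
  simp only [LinearMap.add_apply, LinearMap.smul_apply, LinearMap.neg_apply]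
  match_scalars <;> simp [map_neg, map_inv₀, hz, hlam] <;> field_simp <;> ring

/-- A square-zero element of the tensor stabiliser commutes with a root. -/
theorem exists_commuting (hl : 4 ≤ l) {g : GL (Fin k × Fin l) F} (hg : g ∈ M)
    (hgk : g ∈ Cfsg.Geo.kroneckerSubgroup k l F) {N : Module.End F (Fin k × Fin l → F)}
    (hgN : Matrix.toLin' (g : Matrix (Fin k × Fin l) (Fin k × Fin l) F) = 1 + N) (hN : N * N = 0)
    {z : F} :
    ∃ a, Iso f₂ a ∧ g * kr (1 : GL (Fin k) F) (ft f₂ a (σ z • a)) = kr 1 (ft f₂ a (σ z • a)) * g := by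
  classical
  obtain ⟨α, β, rfl⟩ := exists_kr hgk
  suffices ∃ (a : Fin l → F) (d : F), Iso f₂ a ∧ (β : Matrix (Fin l) (Fin l) F) *ᵥ a = d • a ∧
      ∀ x, f₂ ((β : Matrix (Fin l) (Fin l) F) *ᵥ x) a = d * f₂ x a by
    obtain ⟨a, d, ha, hβa, hd⟩ := this
    refine ⟨a, ha, ?_⟩
    rw [kr_mul, kr_mul, one_mul, mul_one]
    congr 1
    refine gl_ext fun x => ?_
    rw [mul_act, mul_act, H₂.ft_apply ha.2, H₂.ft_apply ha.2, Matrix.mulVec_add, Matrix.mulVec_smul, hβa, hd,
      smul_smul]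
    congr 2
    ring
  by_cases hsc : ∃ d : F, ∀ x, (β : Matrix (Fin l) (Fin l) F) *ᵥ x = d • x
  · obtain ⟨d, hd⟩ := hsc
    obtain ⟨a, ha, -⟩ := H₂.exists_iso_perp (m := 0) (by omega) Fin.elim0
    exact ⟨a, d, ha, hd a, fun x => by rw [hd, H₂.s.smul_left]⟩
  push_neg at hsc
  set B : (Fin l → F) → Fin l → F := fun x => (β : Matrix (Fin l) (Fin l) F) *ᵥ x with hB
  set A : (Fin k → F) → Fin k → F := fun v => (α : Matrix (Fin k) (Fin k) F) *ᵥ v with hA
  have hquad : ∀ v b, tp (A (A v)) (B (B b)) + tp v b = (2 : F) • tp (A v) (B b) := by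
    intro v b
    have hNu : ∀ v b, N (tp v b) = tp (A v) (B b) - tp v b := fun v b => by
      have := LinearMap.congr_fun hgN (tp v b)
      rw [Matrix.toLin'_apply, kr_tp, LinearMap.add_apply, Module.End.one_apply] at this
      exact eq_sub_of_add_eq (by rw [add_comm]; exact this.symm)
    have := LinearMap.congr_fun hN (tp v b)
    rw [Module.End.mul_apply, LinearMap.zero_apply, hNu, map_sub, hNu, hNu] at this
    linear_combination (norm := module) this
  obtain ⟨v₀, hv₀⟩ : ∃ v₀ : Fin k → F, v₀ ≠ 0 := ⟨Pi.single ⟨0, C.hk⟩ 1, by simp⟩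
  obtain ⟨d, hd0, hdd⟩ : ∃ d : F, d ≠ 0 ∧ ∀ x, (d * d) • x + B (B x) = (2 * d) • B x := by
    by_cases hα : ∃ δ : F, ∀ v, A v = δ • v
    · obtain ⟨δ, hδ⟩ := hα
      have hδ0 : δ ≠ 0 := fun e => hv₀ (act_injective α (by
        show A v₀ = _
        rw [hδ, e, zero_smul]; simp))
      refine ⟨δ⁻¹, inv_ne_zero hδ0, fun x => ?_⟩
      obtain ⟨i, hi⟩ := Function.ne_iff.1 hv₀
      funext j
      have h := congrFun (hquad v₀ x) (i, j)
      simp only [hδ, tp, Pi.add_apply, Pi.smul_apply, smul_eq_mul] at h ⊢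
      field_simp
      exact mul_left_cancel₀ hi (by linear_combination h)
    · push_neg at hα
      obtain ⟨v, hv⟩ : ∃ v, ∀ t : F, A v ≠ t • v := by
        by_contra! h0
        obtain ⟨t, ht⟩ := LinearMap.exists_eq_smul_id_of_forall_notLinearIndependent
          (f := Matrix.toLin' (α : Matrix (Fin k) (Fin k) F)) (fun v hli => by
            obtain ⟨s, hs⟩ := h0 v
            rw [LinearIndependent.pair_iff] at hli
            exact one_ne_zero (neg_eq_zero.1 (hli s (-1) (by
              rw [Matrix.toLin'_apply, show (α : Matrix (Fin k) (Fin k) F) *ᵥ v = A v from rfl, hs, neg_one_smul,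
                add_neg_cancel])).2))
        obtain ⟨w, hw⟩ := hα t
        exact hw (by simpa [hA] using LinearMap.congr_fun ht w)
      have hv' : v ∉ Submodule.span F {A v} := fun hm => by
        obtain ⟨t, ht⟩ := Submodule.mem_span_singleton.1 hm
        by_cases ht0 : t = 0
        · rw [ht0, zero_smul] at ht
          exact hv 0 (by rw [zero_smul, ← ht]; simp [hA])
        · exact hv t⁻¹ (by conv_rhs => rw [← ht, inv_smul_smul₀ ht0])
      have hAv : A v ∉ Submodule.span F {v} := fun hm => by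
        obtain ⟨t, ht⟩ := Submodule.mem_span_singleton.1 hm
        exact hv t ht.symm
      have contract : ∀ (θ : (Fin k → F) →ₗ[F] F) (b : Fin l → F),
          θ (A (A v)) • B (B b) + θ v • b = (2 : F) • (θ (A v) • B b) := fun θ b => by
        funext j
        have h : (fun i => (tp (A (A v)) (B (B b)) + tp v b) (i, j)) = fun i => ((2 : F) • tp (A v) (B b)) (i, j) := by
          rw [hquad]
        have e : ∀ x c, θ (fun i => tp x c (i, j)) = θ x * c j := fun x c => by
          rw [show (fun i => tp x c (i, j)) = c j • x from funext fun i => by simp [tp, mul_comm], map_smul,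
            smul_eq_mul, mul_comm]
        have h' := congrArg θ h
        rw [show (fun i => (tp (A (A v)) (B (B b)) + tp v b) (i, j)) =
            (fun i => tp (A (A v)) (B (B b)) (i, j)) + fun i => tp v b (i, j) from rfl,
          show (fun i => ((2 : F) • tp (A v) (B b)) (i, j)) = (2 : F) • fun i => tp (A v) (B b) (i, j) from rfl,
          map_add, map_smul, e, e, e] at h'
        simpa [mul_assoc] using h'
      obtain ⟨θ₀, hθ₀, hker₀⟩ := Submodule.exists_le_ker_of_notMem hAv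
      have hθ₀v : θ₀ v = 0 := LinearMap.mem_ker.1 (hker₀ (Submodule.mem_span_singleton_self v))
      have hγ : θ₀ (A (A v)) = 0 := by
        by_contra hγ
        obtain ⟨x, hx⟩ := hsc (2 * θ₀ (A v) / θ₀ (A (A v)))
        obtain ⟨b, rfl⟩ : ∃ b, B b = x :=
          ⟨((β⁻¹ : GL (Fin l) F) : Matrix (Fin l) (Fin l) F) *ᵥ x, act_inv_act β x⟩
        have h := contract θ₀ b
        rw [hθ₀v, zero_smul, add_zero] at h
        refine hx ?_
        show B (B b) = _
        rw [div_eq_inv_mul, mul_smul, mul_smul, ← h, inv_smul_smul₀ hγ]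
      have h2 : (2 : F) = 0 := by
        obtain ⟨x, hx⟩ := hsc 0
        have h := contract θ₀ x
        rw [hγ, hθ₀v, zero_smul, zero_smul, add_zero] at h
        by_contra h2
        rcases smul_eq_zero.1 h.symm with e | e
        · exact h2 e
        rcases smul_eq_zero.1 e with e | e
        · exact hθ₀ e
        · exact hx (by rw [zero_smul]; exact e)
      obtain ⟨θ₁, hθ₁, hker₁⟩ := Submodule.exists_le_ker_of_notMem hv'
      have hθ₁v : θ₁ (A v) = 0 := LinearMap.mem_ker.1 (hker₁ (Submodule.mem_span_singleton_self (A v)))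
      set γ := θ₁ (A (A v))
      have hB2 : ∀ x, γ • B (B x) + θ₁ v • x = 0 := fun x => by
        rw [contract θ₁ x, hθ₁v, zero_smul, smul_zero]
      obtain ⟨x₀, hx₀⟩ := hsc 0
      have hγ0 : γ ≠ 0 := fun e => by
        have h := hB2 (B x₀)
        rw [e, zero_smul, zero_add] at h
        exact hx₀ (by rw [zero_smul]; exact (smul_eq_zero.1 h).resolve_left hθ₁)
      haveI : CharP F 2 := CharTwo.of_one_ne_zero_of_two_eq_zero one_ne_zero h2
      obtain ⟨d, hd⟩ := FiniteField.isSquare_of_char_two (ringChar.eq F 2) (-(θ₁ v / γ))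
      refine ⟨d, fun e => ?_, fun x => ?_⟩
      · rw [e, mul_zero, neg_eq_zero, div_eq_zero_iff] at hd
        exact hd.elim hθ₁ hγ0
      · rw [← hd, h2, zero_mul, zero_smul]
        have h := hB2 x
        have h' : B (B x) = (-(θ₁ v / γ)) • x := by
          rw [← inv_smul_smul₀ hγ0 (B (B x)), eq_neg_of_add_eq_zero_left h]
          module
        rw [h', ← add_smul, show -(θ₁ v / γ) + -(θ₁ v / γ) = 0 by linear_combination -(θ₁ v / γ) * h2, zero_smul]
  set n : (Fin l → F) → Fin l → F := fun x => d⁻¹ • B x - x with hn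
  have hBn : ∀ x, B x = d • (x + n x) := fun x => by
    rw [hn]; simp only [add_sub_cancel, smul_inv_smul₀ hd0]
  have hBsmul : ∀ (t : F) x, B (t • x) = t • B x := fun t x => Matrix.mulVec_smul _ _ _
  have hBadd : ∀ x y, B (x + y) = B x + B y := fun x y => Matrix.mulVec_add _ _ _
  have hnn : ∀ x, B (n x) = d • n x := fun x => by
    have h := hdd x
    simp only [hn]
    rw [sub_eq_add_neg, hBadd, hBsmul, ← neg_one_smul F x, hBsmul, show B (B x) = (2 * d) • B x - (d * d) • x from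
      eq_sub_of_add_eq (by rw [add_comm]; exact h)]
    match_scalars <;> field_simp <;> ring
  obtain ⟨p, hp⟩ : ∃ p : ℕ, CharP F p := CharP.exists F
  haveI := hp
  haveI : Fact p.Prime := ⟨CharP.char_is_prime F p⟩
  obtain ⟨μ, hμ⟩ : ∃ μ : F, ∀ x y, f₂ (B x) (B y) = μ * f₂ x y := by
    obtain ⟨w, hw⟩ : ∃ w, f₁ v₀ w ≠ 0 := by
      by_contra! h0
      exact hv₀ (H₁.s.nd _ h0)
    obtain ⟨w', hw'⟩ : ∃ w', f₁ (A v₀) (A w') ≠ 0 := by
      by_contra! h0
      refine hv₀ (act_injective α (?_ : A v₀ = _))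
      simp only [Matrix.mulVec_zero]
      refine H₁.s.nd _ fun y => ?_
      rw [← act_inv_act α y]
      exact h0 _
    refine ⟨f₁ v₀ w' / f₁ (A v₀) (A w'), fun x y => ?_⟩
    have h := C.pres _ hg (tp v₀ x) (tp w' y)
    rw [kr_tp, kr_tp, tForm_tp H₂.s H₁.s, tForm_tp H₂.s H₁.s] at h
    rw [div_mul_eq_mul_div, eq_div_iff hw', mul_comm]
    exact h
  set ν := μ / (d * σ d) with hν
  have hμn : ∀ x y, f₂ (x + n x) (y + n y) = ν * f₂ x y := fun x y => by
    have h := hμ x y
    rw [hBn, hBn y, H₂.s.smul_left, H₂.s.smul_right] at h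
    have hσd : σ d ≠ 0 := (map_ne_zero σ).2 hd0
    rw [hν, div_mul_eq_mul_div, eq_div_iff (mul_ne_zero hd0 hσd), ← h]
    ring
  have hn2 : ∀ x, n (n x) = 0 := fun x => by
    simp only [hn]
    rw [show B (d⁻¹ • B x - x) = d • (d⁻¹ • B x - x) from hnn x, inv_smul_smul₀ hd0, sub_self]
  have hnadd : ∀ x y (t : F), n (x + t • y) = n x + t • n y := fun x y t => by
    simp only [hn, hBadd, hBsmul]
    module
  obtain ⟨x₁, hx₁⟩ : ∃ x, n x ≠ 0 := by
    by_contra! h0
    obtain ⟨x, hx⟩ := hsc d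
    exact hx (by show B x = _; rw [hBn, h0, add_zero])
  have hν1 : ν = 1 := by
    have hpow : ∀ (j : ℕ) x y, f₂ (x + (j : F) • n x) (y + (j : F) • n y) = ν ^ j * f₂ x y := by
      intro j
      induction j with
      | zero => intro x y; simp
      | succ j ih =>
        intro x y
        rw [pow_succ', mul_assoc, ← ih, ← hμn]
        congr 1 <;>
        · rw [hnadd, hn2, smul_zero, add_zero]
          push_cast
          module
    obtain ⟨y, hy⟩ : ∃ y, f₂ x₁ y ≠ 0 := by
      by_contra! h0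
      exact hx₁ (by rw [H₂.s.nd x₁ h0]; simpa using hnadd 0 0 1)
    have h := hpow p x₁ y
    rw [CharP.cast_eq_zero F p, zero_smul, zero_smul, add_zero, add_zero] at h
    have h1 : ν ^ p = 1 ^ p := by
      rw [one_pow]
      exact mul_right_cancel₀ hy (by rw [← h, one_mul])
    exact frobenius_inj F p h1
  set a := n x₁ with ha
  have hna : n a = 0 := hn2 x₁
  have hiso : f₂ a a = 0 := by
    have h := hμn x₁ a
    rw [hna, add_zero, hν1, one_mul, H₂.s.add_left] at h
    exact add_eq_left.1 h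
  refine ⟨a, d, ⟨hx₁, hiso⟩, hnn x₁, fun x => ?_⟩
  show f₂ (B x) a = _
  have h := hμn x a
  rw [hna, add_zero, hν1, one_mul] at h
  rw [hBn, H₂.s.smul_left, h]

/-- The descent. -/
theorem unit_le_kron (hH : Cfsg.Geo.kroneckerSubgroup k l F ⊓ SUT σ f₁ f₂ ≤ M) (hkl : k < l) (hl : 5 ≤ l)
    (K₁ : Ctx0.CentreScalar M f₁ f₂ (1 : F)) (K₂ : Ctx0.RhoScalar M σ f₁ f₂ (1 : F)) :
    M ≤ Cfsg.Geo.kroneckerSubgroup k l F := by
  classical
  obtain ⟨z, hz0, hz⟩ := H₂.exists_skew
  let ψ : (Fin l → F) → Fin l → F := fun b => row f₂ (σ z • b)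
  have hψb : ∀ b, f₂ b b = 0 → ψ b ⬝ᵥ b = 0 := fun b hb => by
    simp only [ψ, H₂.s.row_dot, H₂.s.smul_right, hb, mul_zero]
  have hxr : ∀ b, xr k b (ψ b) = kr (1 : GL (Fin k) F) (ft f₂ b (σ z • b)) := fun b => rfl
  have hψ0 : ∀ b, Iso f₂ b → ψ b ≠ 0 := fun b hb e => hb.1 (H₂.s.nd b fun y => H₂.s.symm_zero (by
    have : f₂ y (σ z • b) = 0 := by rw [← H₂.s.row_dot]; simp [ψ] at e; rw [e, zero_dotProduct]
    rw [H₂.s.smul_right, H₂.s.invol] at this
    exact (mul_eq_zero.1 this).resolve_left hz0))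
  have hxM : ∀ b, Iso f₂ b → xr k b (ψ b) ∈ M := fun b hb => by rw [hxr]; exact right_mem H₁ H₂ hH hb.2 hz
  have hPψ : ∀ b (u : Fin k × Fin l → F), P (ψ b) u = z • Pf f₂ k b u := fun b u => funext fun i => by
    rw [P_apply, Pi.smul_apply, Pf_apply H₂.s, smul_eq_mul]
    simp only [ψ, H₂.s.row_dot, H₂.s.smul_right, H₂.s.invol]
  have hback : ∀ g ∈ M, ∀ b, Iso f₂ b → g * xr k b (ψ b) * g⁻¹ ∈ Cfsg.Geo.kroneckerSubgroup k l F →
      g ∈ Cfsg.Geo.kroneckerSubgroup k l F := by
    intro g hg b hb hy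
    obtain ⟨c, hc⟩ := mapsRuler_of_conj_mem hkl hb.1 (hψ0 b hb) (hψb b hb.2) g hy
    exact C.mem_kron K₁ K₂ hb hg hc
  suffices main : ∀ r, ∀ g ∈ M, ∀ b b', Iso f₂ b → Iso f₂ b' →
      Module.finrank F (LinearMap.range (blockT g b (ψ b) b' (ψ b'))) ≤ r →
      g ∈ Cfsg.Geo.kroneckerSubgroup k l F by
    intro g hg
    obtain ⟨b, hb, -⟩ := H₂.exists_iso_perp (m := 0) (by omega) Fin.elim0
    exact main k g hg b b hb hb (by
      have := Submodule.finrank_le (LinearMap.range (blockT g b (ψ b) b (ψ b)))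
      rwa [Module.finrank_fin_fun] at this)
  intro r
  induction r using Nat.strong_induction_on with
  | _ r ih =>
  intro g hg b c hb hc hT
  by_contra hgk
  set G := Matrix.toLin' (g : Matrix (Fin k × Fin l) (Fin k × Fin l) F) with hG
  set y := g * xr k b (ψ b) * g⁻¹ with hy
  have hyM : y ∈ M := M.mul_mem (M.mul_mem hg (hxM b hb)) (M.inv_mem hg)
  set y₁ := y * xr k c (ψ c) * y⁻¹ with hy₁
  have hy₁M : y₁ ∈ M := M.mul_mem (M.mul_mem hyM (hxM c hc)) (M.inv_mem hyM)
  have hy₁k : y₁ ∉ Cfsg.Geo.kroneckerSubgroup k l F := fun h => hgk (hback g hg b hb (hback y hyM c hc h))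
  have hyinv : ∀ u, ((y⁻¹ : GL (Fin k × Fin l) F) : Matrix (Fin k × Fin l) (Fin k × Fin l) F) *ᵥ u =
      u - G (J b (P (ψ b) (((g⁻¹ : GL (Fin k × Fin l) F) : Matrix (Fin k × Fin l) (Fin k × Fin l) F) *ᵥ u))) := by
    intro u
    apply act_injective y
    show (y : Matrix (Fin k × Fin l) (Fin k × Fin l) F) *ᵥ _ = (y : Matrix (Fin k × Fin l) (Fin k × Fin l) F) *ᵥ _
    rw [act_inv_act, hy, mul_act, mul_act, Matrix.mulVec_sub, hG, Matrix.toLin'_apply, inv_act_act,
      xr_act (hψb b hb.2), map_sub, J_apply b (P (ψ b) _), P_tp, hψb b hb.2, zero_smul, sub_zero]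
    simp only [J_apply, Matrix.mulVec_add, Matrix.mulVec_sub, act_inv_act]
    abel
  set T := blockT g b (ψ b) c (ψ c) with hTdef
  set K := LinearMap.ker T
  have hfix : ∀ v ∈ K, (y₁ : Matrix (Fin k × Fin l) (Fin k × Fin l) F) *ᵥ tp v c = tp v c := by
    intro v hv
    have hv' : T v = 0 := hv
    rw [hy₁, mul_act, mul_act, xr_act (hψb c hc.2), hyinv, map_sub, P_tp, hψb c hc.2, zero_smul, zero_sub]
    have e : P (ψ c) (G (J b (P (ψ b) (((g⁻¹ : GL (Fin k × Fin l) F) : Matrix (Fin k × Fin l) (Fin k × Fin l) F) *ᵥ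
        tp v c)))) = 0 := by
      rw [← hv', hTdef, blockT]
      simp [hG, Matrix.toLin'_apply, J_apply]
    rw [e, neg_zero, map_zero, add_zero, ← hyinv, act_inv_act]
  have hK : Module.finrank F (LinearMap.range T) + Module.finrank F K = k := by
    rw [LinearMap.finrank_range_add_finrank_ker, Module.finrank_fin_fun]
  rcases Nat.eq_zero_or_pos r with hr0 | hr0
  · have : K = ⊤ := LinearMap.ker_eq_top.2 (LinearMap.range_eq_bot.1 (Submodule.finrank_eq_zero.1 (by omega)))
    exact hy₁k (C.mem_kron K₁ K₂ hc hy₁M fun v => ⟨v, hfix v (this ▸ Submodule.mem_top)⟩)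
  rcases Nat.lt_or_ge (Module.finrank F (LinearMap.range T)) r with hlt | hge
  · exact hgk (ih _ hlt g hg b c hb hc le_rfl)
  obtain ⟨R, hR⟩ := Submodule.exists_isCompl K
  have hRr : Module.finrank F R = r := by
    have := Submodule.finrank_add_eq_of_isCompl hR
    rw [Module.finrank_fin_fun] at this
    omega
  let w : Fin r → Fin k → F := fun i => (Module.finBasisOfFinrankEq F R hRr i : Fin k → F)
  have hw : ∀ u, ∃ (a : K) (t : Fin r → F), u = a + ∑ i, t i • w i := by
    intro u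
    obtain ⟨a, ha, b', hb', hu⟩ := Submodule.mem_sup.1 (hR.sup_eq_top.symm ▸ Submodule.mem_top : u ∈ K ⊔ R)
    refine ⟨⟨a, ha⟩, (Module.finBasisOfFinrankEq F R hRr).repr ⟨b', hb'⟩, ?_⟩
    rw [← hu]
    congr 1
    have := congrArg Subtype.val ((Module.finBasisOfFinrankEq F R hRr).sum_repr ⟨b', hb'⟩)
    simp only [Submodule.coe_sum, Submodule.coe_smul] at this
    exact this.symm
  -- parameters
  obtain ⟨e, he, hce, hec⟩ := H₂.exists_partner hc
  let L : (Fin l → F) →ₗ[F] (Fin 2 → F) :=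
    { toFun := fun x => ![f₂ x c, f₂ x e]
      map_add' := fun x x' => by ext i; fin_cases i <;> simp [H₂.s.add_left]
      map_smul' := fun t x => by ext i; fin_cases i <;> simp [H₂.s.smul_left] }
  obtain ⟨q, hq⟩ : ∃ q : Fin (l - 2) → LinearMap.ker L, LinearIndependent F q :=
    exists_linearIndependent_of_le_finrank (by
      have h1 := LinearMap.finrank_range_add_finrank_ker L
      have h2 := Submodule.finrank_le (LinearMap.range L)
      rw [Module.finrank_fin_fun] at h1 h2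
      omega)
  have hqc : ∀ i, f₂ (q i : Fin l → F) c = 0 ∧ f₂ (q i : Fin l → F) e = 0 := fun i => by
    have h : L (q i : Fin l → F) = 0 := (q i).2
    exact ⟨congrFun h 0, congrFun h 1⟩
  obtain ⟨ω, hω⟩ := H₂.ne
  let η : (Fin (l - 2) × Fin 2) ⊕ Unit → Fin l → F := Sum.elim (fun p => ![1, ω] p.2 • (q p.1 : Fin l → F)) 0
  let ς : (Fin (l - 2) × Fin 2) ⊕ Unit → F := Sum.elim 0 (fun _ => z)
  let F₀ : Subfield F := RingHom.eqLocusField σ (RingHom.id F)
  haveI : Fintype F₀ := Fintype.ofFinite F₀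
  have hF₀ : ∀ x : F₀, σ (x : F) = x := fun x => x.2
  let yv : ((Fin (l - 2) × Fin 2) ⊕ Unit → F₀) → Fin l → F := fun x => ∑ v, (x v : F) • η v
  let sv : ((Fin (l - 2) × Fin 2) ⊕ Unit → F₀) → F := fun x => ∑ v, (x v : F) * ς v
  have hyc : ∀ x, f₂ (yv x) c = 0 ∧ f₂ (yv x) e = 0 := fun x => by
    constructor <;>
    · simp only [yv, H₂.s.sum_left, H₂.s.smul_left]
      refine Finset.sum_eq_zero fun v _ => ?_
      rcases v with p | p
      · simp [η, H₂.s.smul_left, hqc]
      · simp [η, H₂.s.zero_left]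
  have hsv : ∀ x, σ (sv x) = -sv x := fun x => by
    simp only [sv, map_sum, map_mul, hF₀, ← Finset.sum_neg_distrib]
    refine Finset.sum_congr rfl fun v _ => ?_
    rcases v with p | p <;> simp [ς, hz]
  have hzero : ∀ x, yv x = 0 → sv x = 0 → x = 0 := fun x h1 h2 => by
    have h3 : (x (Sum.inr ()) : F) = 0 := by
      simp only [sv, ς, Fintype.sum_sum_type, Sum.elim_inl, Sum.elim_inr, Pi.zero_apply, mul_zero,
        Finset.sum_const_zero, zero_add, Finset.univ_unique, Finset.sum_singleton] at h2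
      exact (mul_eq_zero.1 h2).resolve_right hz0
    have h4 : ∑ i, ((x (Sum.inl (i, 0)) : F) + ω * (x (Sum.inl (i, 1)) : F)) • (q i : Fin l → F) = 0 := by
      rw [← h1]
      simp only [yv, η, Fintype.sum_sum_type, Sum.elim_inl, Sum.elim_inr, Pi.zero_apply, smul_zero,
        Finset.sum_const_zero, add_zero, Fintype.sum_prod_type, Fin.sum_univ_two]
      refine Finset.sum_congr rfl fun i _ => ?_
      simp only [Matrix.cons_val_zero, Matrix.cons_val_one, one_smul, smul_smul, add_smul, mul_comm ω]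
    have h5 := Fintype.linearIndependent_iff.1 (hq.map' (LinearMap.ker L).subtype (Submodule.ker_subtype _))
      _ (by simpa using h4)
    have h6 : ∀ i, (x (Sum.inl (i, 1)) : F) = 0 ∧ (x (Sum.inl (i, 0)) : F) = 0 := fun i => by
      have hi := h5 i
      have hi' := congrArg σ hi
      rw [map_add, map_mul, hF₀, hF₀, map_zero] at hi'
      have h7 : (x (Sum.inl (i, 1)) : F) = 0 :=
        (mul_eq_zero.1 (show (σ ω - ω) * (x (Sum.inl (i, 1)) : F) = 0 by linear_combination hi' - hi)).resolve_left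
          (sub_ne_zero.2 hω)
      exact ⟨h7, by rwa [h7, mul_zero, add_zero] at hi⟩
    funext v
    rcases v with ⟨i, j⟩ | u
    · fin_cases j
      · exact Subtype.ext (h6 i).2
      · exact Subtype.ext (h6 i).1
    · exact Subtype.ext h3
  -- the equations
  set Y₁ := Matrix.toLin' (y₁ : Matrix (Fin k × Fin l) (Fin k × Fin l) F) with hY₁
  let S : ((Fin (l - 2) × Fin 2) ⊕ Unit) → Matrix (Fin r) (Fin r) F := fun v => Matrix.of fun i j =>
    z⁻¹ * tForm σ f₁ f₂ (eichN f₂ k c (η v) (ς v) (Y₁ (tp (w i) c))) (Y₁ (tp (w j) c))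
  let Sx : ((Fin (l - 2) × Fin 2) ⊕ Unit → F₀) → Matrix (Fin r) (Fin r) F := fun x => Matrix.of fun i j =>
    z⁻¹ * tForm σ f₁ f₂ (eichN f₂ k c (yv x) (sv x) (Y₁ (tp (w i) c))) (Y₁ (tp (w j) c))
  have hlin : ∀ x u, eichN f₂ k c (yv x) (sv x) u = ∑ v, (x v : F) • eichN f₂ k c (η v) (ς v) u := by
    intro x u
    have hP : Pf f₂ k (yv x) u = ∑ v, (x v : F) • Pf f₂ k (η v) u := funext fun i => by
      simp only [Pf_apply H₂.s, yv, H₂.s.sum_right, H₂.s.smul_right, hF₀, Finset.sum_apply, Pi.smul_apply,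
        smul_eq_mul]
    simp only [eichN, LinearMap.add_apply, LinearMap.smul_apply, SOp_apply, LinearMap.neg_apply,
      Module.End.one_apply, hP, smul_add, Finset.sum_add_distrib]
    funext p
    simp only [tp, Pi.add_apply, Pi.smul_apply, Pi.neg_apply, Finset.sum_apply, smul_eq_mul, yv, sv, Finset.mul_sum,
      Finset.sum_mul, ← Finset.sum_neg_distrib, ← Finset.sum_add_distrib]
    exact Finset.sum_congr rfl fun v _ => by ring
  have hSx : ∀ x, Sx x = Matrix.of fun i j => ∑ v, (x v : F) * S v i j := fun x => by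
    ext i j
    simp only [Sx, S, Matrix.of_apply, hlin, tForm_sum_left, Finset.mul_sum]
    refine Finset.sum_congr rfl fun v _ => ?_
    rw [show tForm σ f₁ f₂ ((x v : F) • eichN f₂ k c (η v) (ς v) (Y₁ (tp (w i) c))) (Y₁ (tp (w j) c)) =
      (x v : F) * tForm σ f₁ f₂ (eichN f₂ k c (η v) (ς v) (Y₁ (tp (w i) c))) (Y₁ (tp (w j) c)) by
        simp only [tForm, Cfsg.Geo.formOfGram, Pi.smul_apply, smul_eq_mul, Finset.mul_sum]
        exact Finset.sum_congr rfl fun a _ => Finset.sum_congr rfl fun b _ => by ring]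
    ring
  let D : MvPolynomial ((Fin (l - 2) × Fin 2) ⊕ Unit) F :=
    (Matrix.of fun i j => ∑ v, MvPolynomial.C (S v i j) * MvPolynomial.X v).det
  let I : MvPolynomial ((Fin (l - 2) × Fin 2) ⊕ Unit) F :=
    ∑ v, ∑ v', MvPolynomial.C (f₂ (η v) (η v')) * (MvPolynomial.X v * MvPolynomial.X v')
  have hDev : ∀ x : (Fin (l - 2) × Fin 2) ⊕ Unit → F₀,
      MvPolynomial.eval (fun v => (x v : F)) D = (Sx x).det := fun x => by
    rw [RingHom.map_det]
    congr 1
    rw [hSx]
    ext i j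
    simp [Matrix.map_apply, mul_comm]
  have hIev : ∀ x : (Fin (l - 2) × Fin 2) ⊕ Unit → F₀,
      MvPolynomial.eval (fun v => (x v : F)) I = f₂ (yv x) (yv x) := fun x => by
    simp only [I, yv, map_sum, map_mul, MvPolynomial.eval_C, MvPolynomial.eval_X, H₂.s.sum_left, H₂.s.sum_right,
      H₂.s.smul_left, H₂.s.smul_right, hF₀, Finset.mul_sum]
    exact Finset.sum_congr rfl fun v _ => Finset.sum_congr rfl fun v' _ => by ring
  have hDfix : ∀ x, σ (Sx x).det = (Sx x).det := fun x => by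
    rw [RingHom.map_det, ← Matrix.det_transpose (Sx x)]
    congr 1
    ext i j
    simp only [RingHom.mapMatrix_apply, Matrix.map_apply, Matrix.transpose_apply, Sx, Matrix.of_apply, map_mul,
      map_inv₀, hz, inv_neg]
    rw [eichN_skew H₁ H₂ (hsv x) (Y₁ (tp (w j) c))]
    ring
  have hDdeg : D.totalDegree ≤ r := by
    simp only [D, Matrix.det_apply]
    refine MvPolynomial.totalDegree_finsetSum_le fun p _ => ?_
    refine (MvPolynomial.totalDegree_smul_le _ _).trans ?_
    refine (MvPolynomial.totalDegree_finset_prod _ _).trans ?_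
    refine (Finset.sum_le_card_nsmul _ _ 1 fun i _ => ?_).trans (by simp)
    simp only [Matrix.of_apply]
    refine MvPolynomial.totalDegree_finsetSum_le fun v _ => ?_
    refine (MvPolynomial.totalDegree_mul _ _).trans ?_
    simp
  have hIdeg : I.totalDegree ≤ 2 := by
    refine MvPolynomial.totalDegree_finsetSum_le fun v _ => MvPolynomial.totalDegree_finsetSum_le fun v' _ => ?_
    refine (MvPolynomial.totalDegree_mul _ _).trans ?_
    have := MvPolynomial.totalDegree_mul (MvPolynomial.X v : MvPolynomial _ F) (MvPolynomial.X v')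
    simp only [MvPolynomial.totalDegree_C, MvPolynomial.totalDegree_X] at this ⊢
    omega
  set E := Fintype.card F₀ - 1 with hE
  have hEpos : 0 < E := by
    have := Fintype.one_lt_card (α := F₀)
    omega
  have hrk : r ≤ k := by
    have := Submodule.finrank_le R
    rw [Module.finrank_fin_fun] at this
    omega
  have hsum := sum_subfield_eval (F₀ := F₀) ((1 - D ^ E) * (1 - I ^ E)) (by
    have h1 : (1 - D ^ E).totalDegree ≤ E * r := by
      refine (MvPolynomial.totalDegree_sub _ _).trans (max_le (by simp) ?_)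
      exact (MvPolynomial.totalDegree_pow _ _).trans (Nat.mul_le_mul_left _ hDdeg)
    have h2 : (1 - I ^ E).totalDegree ≤ E * 2 := by
      refine (MvPolynomial.totalDegree_sub _ _).trans (max_le (by simp) ?_)
      exact (MvPolynomial.totalDegree_pow _ _).trans (Nat.mul_le_mul_left _ hIdeg)
    have h3 := MvPolynomial.totalDegree_mul (1 - D ^ E) (1 - I ^ E)
    simp only [Fintype.card_sum, Fintype.card_prod, Fintype.card_fin, Fintype.card_unit, ← hE]
    have : E * (r + 2) < E * ((l - 2) * 2 + 1) := Nat.mul_lt_mul_of_pos_left (by omega) hEpos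
    rw [Nat.mul_add] at this
    omega)
  have hind : ∀ a : F, σ a = a → a ≠ 0 → a ^ E = 1 := fun a ha ha0 => by
    have h := FiniteField.pow_card_sub_one_eq_one (⟨a, ha⟩ : F₀) (fun e => ha0 (congrArg Subtype.val e))
    exact congrArg Subtype.val h
  have hval : ∀ x : (Fin (l - 2) × Fin 2) ⊕ Unit → F₀,
      MvPolynomial.eval (fun v => (x v : F)) ((1 - D ^ E) * (1 - I ^ E)) =
        if (Sx x).det = 0 ∧ f₂ (yv x) (yv x) = 0 then 1 else 0 := fun x => by
    rw [map_mul, map_sub, map_sub, map_pow, map_pow, map_one, hDev, hIev]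
    by_cases h1 : (Sx x).det = 0
    · by_cases h2 : f₂ (yv x) (yv x) = 0
      · simp [h1, h2, hEpos.ne']
      · simp [h1, h2, hind _ (H₂.self_fixed _) h2, hEpos.ne']
    · simp [h1, hind _ (hDfix x) h1]
  obtain ⟨x, hx0, hdet, hyy⟩ : ∃ x, x ≠ 0 ∧ (Sx x).det = 0 ∧ f₂ (yv x) (yv x) = 0 := by
    by_contra! h0
    rw [Finset.sum_congr rfl (fun x _ => hval x), Finset.sum_eq_single 0 (fun x _ hx => if_neg fun h => h0 x hx h.1 h.2)
      (by simp)] at hsum
    have e1 : yv 0 = 0 := by simp [yv]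
    have e2 : Sx 0 = 0 := by
      rw [hSx]; ext i j; simp
    haveI : Nonempty (Fin r) := ⟨⟨0, hr0⟩⟩
    rw [if_pos ⟨by rw [e2, Matrix.det_zero], by rw [e1, H₂.s.zero_left]⟩] at hsum
    exact one_ne_zero hsum
  -- the new element
  set N := eichN f₂ k c (yv x) (sv x) with hNdef
  have hNel : El M N := el_eichN H₁ H₂ C hc hyy (hyc x).1 (hsv x) (fun hne t e0 => by
    have := (hyc x).2
    rw [e0, H₂.s.smul_left, hce, mul_one] at this
    exact hne (by rw [e0, this, zero_smul]))
  obtain ⟨h, hhM, hhN⟩ := hNel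
  have hN2 : N * N = 0 := eichN_sq H₁ H₂ C hc.2 hyy (hyc x).1
  have hhu : ∀ u, (h : Matrix (Fin k × Fin l) (Fin k × Fin l) F) *ᵥ u = u + N u := fun u => by
    rw [← Matrix.toLin'_apply, hhN, LinearMap.add_apply, Module.End.one_apply]
  set g' := y₁⁻¹ * h * y₁ with hg'
  have hg'M : g' ∈ M := M.mul_mem (M.mul_mem (M.inv_mem hy₁M) hhM) hy₁M
  set X : Module.End F (Fin k → F) :=
    (Pf f₂ k c).comp ((Matrix.toLin' (g' : Matrix (Fin k × Fin l) (Fin k × Fin l) F)).comp (J c)) with hX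
  have hXf : ∀ v v', f₁ (X v) v' = tForm σ f₁ f₂ (N (Y₁ (tp v c))) (Y₁ (tp v' c)) := fun v v' => by
    simp only [hX, LinearMap.comp_apply, Matrix.toLin'_apply, J_apply, hY₁]
    rw [← tForm_right H₂.s H₁.s, hg', mul_act, mul_act, ← C.pres y₁ hy₁M, act_inv_act, hhu, tForm_add_left,
      C.pres y₁ hy₁M, tForm_tp H₂.s H₁.s, hc.2, mul_zero, zero_add]
  have hXK : ∀ v ∈ K, ∀ v', f₁ (X v) v' = 0 ∧ f₁ (X v') v = 0 := fun v hv v' => by
    have e : N (Y₁ (tp v c)) = 0 := by
      rw [hY₁, Matrix.toLin'_apply, hfix v hv, hNdef, eichN_tp H₁ H₂, H₂.s.symm_zero (hyc x).1, hc.2]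
      simp [tp_zero_right]
    have h1 : ∀ v', f₁ (X v) v' = 0 := fun v' => by
      rw [hXf, e, show tForm σ f₁ f₂ 0 (Y₁ (tp v' c)) = 0 by simp [tForm, Cfsg.Geo.formOfGram]]
    refine ⟨h1 v', ?_⟩
    rw [hXf, hNdef, eichN_skew H₁ H₂ (hsv x), ← hNdef, ← hXf, h1, map_zero, neg_zero]
  obtain ⟨t, ht0, ht⟩ := Matrix.exists_vecMul_eq_zero_iff.2 hdet
  set v₁ := ∑ i, t i • w i with hv₁
  have hXv₁ : X v₁ = 0 := H₁.s.nd _ fun u => by
    obtain ⟨a, s, rfl⟩ := hw u
    rw [H₁.s.add_right, (hXK a a.2 v₁).2, zero_add, H₁.s.sum_right]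
    refine Finset.sum_eq_zero fun j _ => ?_
    rw [H₁.s.smul_right, hv₁, map_sum, H₁.s.sum_left]
    refine mul_eq_zero_of_right _ ?_
    have h := congrFun ht j
    simp only [Matrix.vecMul, dotProduct, Sx, Matrix.of_apply, Pi.zero_apply] at h
    rw [show ∑ i, t i * (z⁻¹ * tForm σ f₁ f₂ (eichN f₂ k c (yv x) (sv x) (Y₁ (tp (w i) c))) (Y₁ (tp (w j) c))) =
      z⁻¹ * ∑ i, f₁ (X (t i • w i)) (w j) by
      rw [Finset.mul_sum]
      exact Finset.sum_congr rfl fun i _ => by rw [map_smul, H₁.s.smul_left, hXf, hNdef]; ring] at h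
    exact (mul_eq_zero.1 h).resolve_left (inv_ne_zero hz0)
  have hv₁K : v₁ ∉ K := fun hv => ht0 (by
    have hv₁R : v₁ ∈ R := R.sum_mem fun i _ => R.smul_mem _ (Module.finBasisOfFinrankEq F R hRr i).2
    have := Submodule.disjoint_def.1 hR.disjoint v₁ hv hv₁R
    refine funext fun i => Fintype.linearIndependent_iff.1 ?_ t this i
    exact (Module.finBasisOfFinrankEq F R hRr).linearIndependent.map' R.subtype (Submodule.ker_subtype _))
  have hle : K ⊔ Submodule.span F {v₁} ≤ LinearMap.ker X := by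
    refine sup_le (fun v hv => LinearMap.mem_ker.2 (H₁.s.nd _ fun u => (hXK v hv u).1)) ?_
    rw [Submodule.span_singleton_le_iff_mem]
    exact LinearMap.mem_ker.2 hXv₁
  have hkerlt : Module.finrank F K < Module.finrank F (LinearMap.ker X) := by
    refine Submodule.finrank_lt_finrank_of_lt (lt_of_lt_of_le ?_ hle)
    refine lt_of_le_of_ne le_sup_left fun e0 => hv₁K ?_
    rw [e0]
    exact Submodule.mem_sup_right (Submodule.mem_span_singleton_self v₁)
  have hblock : Module.finrank F (LinearMap.range (blockT g' c (ψ c) c (ψ c))) < r := by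
    have hle' : LinearMap.range (blockT g' c (ψ c) c (ψ c)) ≤ LinearMap.range (z • X) := by
      rintro _ ⟨v, rfl⟩
      exact ⟨P (ψ c) (((g'⁻¹ : GL (Fin k × Fin l) F) : Matrix (Fin k × Fin l) (Fin k × Fin l) F) *ᵥ tp v c), by
        simp [blockT, hX, hPψ, J_apply, Matrix.toLin'_apply]⟩
    have h1 := Submodule.finrank_mono hle'
    rw [LinearMap.range_smul _ _ hz0] at h1
    have h2 := LinearMap.finrank_range_add_finrank_ker X
    rw [Module.finrank_fin_fun] at h2
    omega
  have hg'k := ih _ hblock g' hg'M c c hc hc le_rfl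
  -- a root commuting with the new element
  have hg'N : Matrix.toLin' (g' : Matrix (Fin k × Fin l) (Fin k × Fin l) F) = 1 +
      Matrix.toLin' ((y₁⁻¹ : GL (Fin k × Fin l) F) : Matrix (Fin k × Fin l) (Fin k × Fin l) F) * N * Y₁ := by
    refine LinearMap.ext fun u => ?_
    simp only [hg', hY₁, LinearMap.add_apply, Module.End.mul_apply, Module.End.one_apply, Matrix.toLin'_apply,
      mul_act, hhu, Matrix.mulVec_add, inv_act_act]
  obtain ⟨a, ha, hcomm⟩ := exists_commuting H₁ H₂ C (by omega) hg'M hg'k hg'N (by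
    refine LinearMap.ext fun u => ?_
    simp only [hY₁, Module.End.mul_apply, Matrix.toLin'_apply, act_inv_act]
    have := LinearMap.congr_fun hN2 ((y₁ : Matrix (Fin k × Fin l) (Fin k × Fin l) F) *ᵥ u)
    rw [Module.End.mul_apply, LinearMap.zero_apply] at this
    rw [this, Matrix.mulVec_zero, LinearMap.zero_apply]) (z := z)
  rw [← hxr] at hcomm
  set W := y₁ * xr k a (ψ a) * y₁⁻¹ with hW
  have hWM : W ∈ M := M.mul_mem (M.mul_mem hy₁M (hxM a ha)) (M.inv_mem hy₁M)
  have hWh : W * h = h * W := by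
    have e : h = y₁ * g' * y₁⁻¹ := by rw [hg']; group
    rw [e, hW]
    calc y₁ * xr k a (ψ a) * y₁⁻¹ * (y₁ * g' * y₁⁻¹) = y₁ * (xr k a (ψ a) * g') * y₁⁻¹ := by group
      _ = _ := by rw [← hcomm]; group
  have hWN : ∀ u, ((W⁻¹ : GL (Fin k × Fin l) F) : Matrix (Fin k × Fin l) (Fin k × Fin l) F) *ᵥ N u =
      N (((W⁻¹ : GL (Fin k × Fin l) F) : Matrix (Fin k × Fin l) (Fin k × Fin l) F) *ᵥ u) := by
    intro u
    have e : W⁻¹ * h = h * W⁻¹ := by
      rw [eq_mul_inv_iff_mul_eq, mul_assoc, ← hWh, inv_mul_cancel_left]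
    have h1 := congrArg (fun G : GL (Fin k × Fin l) F => (G : Matrix (Fin k × Fin l) (Fin k × Fin l) F) *ᵥ u) e
    simp only [mul_act, hhu, Matrix.mulVec_add] at h1
    exact add_left_cancel h1
  have hsurj : ∀ v, ∃ u, N u = tp v c := by
    intro v
    by_cases hy0 : yv x = 0
    · have hs0 : sv x ≠ 0 := fun e0 => hx0 (hzero x hy0 e0)
      refine ⟨tp v ((sv x)⁻¹ • e), ?_⟩
      rw [hNdef, eichN_tp H₁ H₂, hy0, H₂.s.smul_left, hec, mul_one, H₂.s.zero_right, zero_smul, smul_zero,
        sub_zero, zero_add, mul_inv_cancel₀ hs0, one_smul]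
    · obtain ⟨p, hp, hpy⟩ := TransvectionUnitary.exists_perp_val H₂.isU (W := Submodule.span F {c}) (a := yv x)
        (fun hm => by
          obtain ⟨s, hs⟩ := Submodule.mem_span_singleton.1 hm
          have := (hyc x).2
          rw [← hs, H₂.s.smul_left, hce, mul_one] at this
          exact hy0 (by rw [← hs, this, zero_smul])) (-1)
      rw [TransvectionUnitary.mem_perp_singleton] at hp
      refine ⟨tp v p, ?_⟩
      rw [hNdef, eichN_tp H₁ H₂, hp, hpy, zero_smul, mul_zero, zero_smul, zero_sub, add_zero, neg_smul, neg_neg,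
        one_smul]
  refine hy₁k (hback y₁ hy₁M a ha (hback W hWM c hc
    (C.mem_kron K₁ K₂ hc (M.mul_mem (M.mul_mem hWM (hxM c hc)) (M.inv_mem hWM)) (c := c) fun v => ⟨v, ?_⟩)))
  obtain ⟨u, hu⟩ := hsurj v
  rw [mul_act, mul_act]
  have h0 : P (ψ c) (((W⁻¹ : GL (Fin k × Fin l) F) : Matrix (Fin k × Fin l) (Fin k × Fin l) F) *ᵥ tp v c) = 0 := by
    rw [← hu, hWN, hPψ]
    simp only [hNdef, eichN, LinearMap.add_apply, LinearMap.smul_apply, SOp_apply, map_add, map_smul,
      Pf_tp H₂.s, (hyc x).1, hc.2, zero_smul, smul_zero, add_zero]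
  rw [xr_act (hψb c hc.2), h0, map_zero, add_zero, act_inv_act]

end Cfsg.Agent.TensorMax
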