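import Cfsg.Agent.Lib.TensorMaxUnitForm

/-!
A group of isometries of a tensor product of two hermitian spaces containing the transvections at all pure tensors
of isotropic vectors contains all transvections.
-/

set_option autoImplicit false
set_option linter.unusedSectionVars false

namespace Cfsg.Agent.TensorMax

open scoped Matrix MatrixGroups Kronecker
open Cfsg.Agent.TransvectionMax

variable {F : Type*} [Field F] [Fintype F] {σ : F →+* F} {n k l : ℕ}

namespace UForm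

variable {f : (Fin n → F) → (Fin n → F) → F} (h : UForm σ f)
include h

/-- The perp of an isotropic vector is spanned by the isotropic vectors off the line. -/
theorem perp_span (hn : 4 ≤ n) {a : Fin n → F} (ha : Iso f a) {y : Fin n → F} (hy : f y a = 0) :
    y ∈ Submodule.span F {b | Iso f b ∧ f b a = 0 ∧ ∀ s : F, b ≠ s • a} := by
  obtain ⟨e, he, hae, hea⟩ := h.exists_partner ha
  obtain ⟨p, hp, hp'⟩ := h.exists_iso_perp (m := 2) (by omega) ![a, e]
  have hpa : f p a = 0 := hp' 0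
  have hpe : f p e = 0 := hp' 1
  obtain ⟨r₀, -, hpr₀, hr₀p⟩ := h.exists_partner hp
  set r₁ := r₀ - f r₀ a • e with hr₁
  have h1 : f r₁ p = 1 := by rw [hr₁, h.s.sub_left, h.s.smul_left, h.s.symm_zero hpe, hr₀p, mul_zero, sub_zero]
  have h1' : f p r₁ = 1 := by rw [← h.conj_f, h1, map_one]
  have h2 : f r₁ a = 0 := by rw [hr₁, h.s.sub_left, h.s.smul_left, hea, mul_one, sub_self]
  obtain ⟨ν, hν⟩ := h.exists_trace (a := -f r₁ r₁) (by rw [map_neg, h.self_fixed])
  set r := r₁ + ν • p with hr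
  have hrr : f r r = 0 := by
    rw [hr, h.s.add_left r₁, h.s.add_right r₁, h.s.add_right (ν • p), h.s.smul_left, h.s.smul_right, h.s.smul_left,
      h.s.smul_right, hp.2, h1, h1']
    linear_combination hν
  have hpr : f p r = 1 := by rw [hr, h.s.add_right, h.s.smul_right, hp.2, h1', mul_zero, add_zero]
  have hra : f r a = 0 := by rw [hr, h.s.add_left, h.s.smul_left, h2, hpa, mul_zero, add_zero]
  let U : Submodule F (Fin n → F) :=
    { carrier := {v | f v a = 0}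
      zero_mem' := h.s.zero_left a
      add_mem' := fun {u v} hu hv => by
        simp only [Set.mem_setOf_eq] at hu hv ⊢
        rw [h.s.add_left, hu, hv, add_zero]
      smul_mem' := fun c u hu => by
        simp only [Set.mem_setOf_eq] at hu ⊢
        rw [h.s.smul_left, hu, mul_zero] }
  refine Submodule.span_le.2 ?_ (h.le_span_iso (U := U) hpa hra hp.2 hrr hpr hy)
  rintro b ⟨hba : f b a = 0, hbb⟩
  set S := Submodule.span F {b | Iso f b ∧ f b a = 0 ∧ ∀ s : F, b ≠ s • a}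
  have hpS : ∀ s : F, s • a + p ∈ S := fun s => Submodule.subset_span ⟨⟨fun e0 => by
      have := congrArg (fun v => f v r) e0
      simp [h.s.add_left, h.s.smul_left, hpr, h.s.symm_zero hra, h.s.zero_left] at this,
    by rw [h.s.add_left, h.s.add_right, h.s.add_right, h.s.smul_left, h.s.smul_left, h.s.smul_right, h.s.smul_right,
      ha.2, hpa, h.s.symm_zero hpa, hp.2]; ring⟩,
    by rw [h.s.add_left, h.s.smul_left, ha.2, hpa, mul_zero, add_zero], fun t e0 => by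
      have := congrArg (fun v => f v r) e0
      simp [h.s.add_left, h.s.smul_left, hpr, h.s.symm_zero hra] at this⟩
  by_cases hb : ∀ s : F, b ≠ s • a
  · exact Submodule.subset_span ⟨⟨fun e0 => hb 0 (by rw [e0, zero_smul]), hbb⟩, hba, hb⟩
  · push_neg at hb
    obtain ⟨s, rfl⟩ := hb
    have := S.sub_mem (hpS s) (hpS 0)
    rwa [zero_smul, zero_add, add_sub_cancel_right] at this

/-- The isotropic vectors not orthogonal to a given one span. -/
theorem span_nonperp (hn : 2 ≤ n) {u : Fin n → F} (hu : Iso f u) (x : Fin n → F) :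
    x ∈ Submodule.span F {z | Iso f z ∧ f z u ≠ 0} := by
  obtain ⟨r, hr, hur, hru⟩ := h.exists_partner hu
  set S := Submodule.span F {z | Iso f z ∧ f z u ≠ 0}
  have hrS : r ∈ S := Submodule.subset_span ⟨hr, by rw [hru]; exact one_ne_zero⟩
  obtain ⟨s, hs0, hs⟩ := h.exists_skew
  have h1 : f (u + s • r) u = s := by rw [h.s.add_left, h.s.smul_left, hu.2, hru, zero_add, mul_one]
  have h2 : f (u + s • r) (u + s • r) = 0 := by
    rw [h.s.add_left u, h.s.add_right u, h.s.add_right (s • r), h.s.smul_left, h.s.smul_right, h.s.smul_left,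
      h.s.smul_right, hu.2, hr.2, hur, hru, hs]
    ring
  have huS : u ∈ S := by
    have := S.sub_mem (Submodule.subset_span ⟨⟨fun e0 => hs0 (by rw [← h1, e0, h.s.zero_left]), h2⟩,
      by rw [h1]; exact hs0⟩ : u + s • r ∈ S) (S.smul_mem s hrS)
    rwa [add_sub_cancel_right] at this
  refine Submodule.span_le.2 ?_ ((h.span_iso hn).symm ▸ Submodule.mem_top : x ∈ Submodule.span F {b | f b b = 0})
  intro z (hz : f z z = 0)
  by_cases hzu : f z u = 0
  · obtain ⟨ν, hν⟩ := h.exists_trace (a := -f (z + r) (z + r)) (by rw [map_neg, h.self_fixed])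
    have h3 : f (z + r) u = 1 := by rw [h.s.add_left, hzu, hru, zero_add]
    have h3' : f u (z + r) = 1 := by rw [← h.conj_f, h3, map_one]
    have h4 : f (z + r + ν • u) u = 1 := by rw [h.s.add_left, h.s.smul_left, h3, hu.2, mul_zero, add_zero]
    have h5 : f (z + r + ν • u) (z + r + ν • u) = 0 := by
      rw [h.s.add_left (z + r), h.s.add_right (z + r), h.s.add_right (ν • u), h.s.smul_left, h.s.smul_right,
        h.s.smul_left, h.s.smul_right, hu.2, h3, h3']
      linear_combination hν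
    have := S.sub_mem (S.sub_mem (Submodule.subset_span ⟨⟨fun e0 => by
      rw [e0, h.s.zero_left] at h4; exact zero_ne_one h4, h5⟩, by rw [h4]; exact one_ne_zero⟩ : z + r + ν • u ∈ S)
      (S.smul_mem ν huS)) hrS
    rwa [add_sub_cancel_right, add_sub_cancel_right] at this
  · exact Submodule.subset_span ⟨⟨fun e0 => hzu (by rw [e0, h.s.zero_left]), hz⟩, hzu⟩

end UForm

variable {f₁ : (Fin k → F) → (Fin k → F) → F} {f₂ : (Fin l → F) → (Fin l → F) → F}
  (H₁ : UForm σ f₁) (H₂ : UForm σ f₂)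

/-- The transvections at `U` lie in `M`. -/
def TV (σ : F →+* F) (f₁ : (Fin k → F) → (Fin k → F) → F) (f₂ : (Fin l → F) → (Fin l → F) → F)
    (M : Subgroup (GL (Fin k × Fin l) F)) (U : Fin k × Fin l → F) : Prop :=
  ∀ z : F, σ z = -z → ∃ g ∈ M, ∀ x,
    (g : Matrix (Fin k × Fin l) (Fin k × Fin l) F) *ᵥ x = x + (z * tForm σ f₁ f₂ x U) • U

/-- An Eichler element at `U` and `X` lies in `M`. -/
def SGU (σ : F →+* F) (f₁ : (Fin k → F) → (Fin k → F) → F) (f₂ : (Fin l → F) → (Fin l → F) → F)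
    (M : Subgroup (GL (Fin k × Fin l) F)) (U X : Fin k × Fin l → F) : Prop :=
  tForm σ f₁ f₂ X U = 0 ∧ ∃ μ : F, ∃ g ∈ M, ∀ x, (g : Matrix (Fin k × Fin l) (Fin k × Fin l) F) *ᵥ x =
    x + tForm σ f₁ f₂ x U • X + (μ * tForm σ f₁ f₂ x U - tForm σ f₁ f₂ x X) • U

section Form

include H₁ H₂

theorem tForm_conj (u w : Fin k × Fin l → F) : σ (tForm σ f₁ f₂ u w) = tForm σ f₁ f₂ w u := by
  rw [tp_decomp w, tForm_sum_right, tForm_sum_left, map_sum]
  exact Finset.sum_congr rfl fun i _ => by rw [tForm_left H₂.s H₁.s u, one_mul, one_mul]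

theorem tForm_isU : Cfsg.Geo.IsUnitaryForm H₁.tau (tForm σ f₁ f₂) where
  ne_refl := H₁.isU.ne_refl
  involutive := H₁.s.invol
  add_left := tForm_add_left
  smul_left c x v := by
    simp only [tForm, Cfsg.Geo.formOfGram, Pi.smul_apply, smul_eq_mul, Finset.mul_sum]
    exact Finset.sum_congr rfl fun a _ => Finset.sum_congr rfl fun b _ => by ring
  herm v w := (tForm_conj H₁ H₂ w v).symm
  nondegenerate v hv := by
    obtain ⟨x, hx⟩ : ∃ x, tForm σ f₁ f₂ v x ≠ 0 := by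
      by_contra! h0
      refine hv (funext fun p => ?_)
      have hP : ∀ c, Pf f₂ k c v = 0 := fun c => H₁.s.nd _ fun w => by
        rw [← tForm_right H₂.s H₁.s]
        exact h0 _
      have hrow : (fun j => v (p.1, j)) = 0 := H₂.s.nd _ fun c => by
        rw [← Pf_apply H₂.s, hP, Pi.zero_apply]
      exact congrFun hrow p.2
    exact ⟨⟨x, fun e => hx (by rw [← tForm_conj H₁ H₂, e, map_zero])⟩, ⟨x, hx⟩⟩

theorem tForm_smul_left (c : F) (x v : Fin k × Fin l → F) :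
    tForm σ f₁ f₂ (c • x) v = c * tForm σ f₁ f₂ x v :=
  (tForm_isU H₁ H₂).smul_left c x v

theorem tForm_smul_right (c : F) (v x : Fin k × Fin l → F) :
    tForm σ f₁ f₂ v (c • x) = σ c * tForm σ f₁ f₂ v x :=
  TransvectionUnitary.smul_right (tForm_isU H₁ H₂) c v x

theorem tForm_zero_left (v : Fin k × Fin l → F) : tForm σ f₁ f₂ 0 v = 0 :=
  TransvectionUnitary.zero_left (tForm_isU H₁ H₂) v

theorem tForm_sub_left (x y v : Fin k × Fin l → F) :
    tForm σ f₁ f₂ (x - y) v = tForm σ f₁ f₂ x v - tForm σ f₁ f₂ y v :=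
  TransvectionUnitary.sub_left (tForm_isU H₁ H₂) x y v

end Form

section Gen

variable {M : Subgroup (GL (Fin k × Fin l) F)} (C : Ctx0 σ 1 1 f₁ f₂ M)
  (hT : ∀ (u : Fin k → F) (a : Fin l → F), Iso f₁ u → Iso f₂ a → TV σ f₁ f₂ M (tp u a))
include H₁ H₂ C

theorem tv_conj {U : Fin k × Fin l → F} (h : TV σ f₁ f₂ M U) {g : GL (Fin k × Fin l) F} (hg : g ∈ M) :
    TV σ f₁ f₂ M ((g : Matrix (Fin k × Fin l) (Fin k × Fin l) F) *ᵥ U) := by
  intro z hz
  obtain ⟨t, ht, htx⟩ := h z hz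
  refine ⟨g * t * g⁻¹, M.mul_mem (M.mul_mem hg ht) (M.inv_mem hg), fun x => ?_⟩
  rw [mul_act, mul_act, htx, Matrix.mulVec_add, Matrix.mulVec_smul, act_inv_act]
  congr 3
  rw [← C.pres g hg, act_inv_act]

theorem sg_conj_unit {U X : Fin k × Fin l → F} (h : SGU σ f₁ f₂ M U X) {g : GL (Fin k × Fin l) F} (hg : g ∈ M) :
    SGU σ f₁ f₂ M ((g : Matrix (Fin k × Fin l) (Fin k × Fin l) F) *ᵥ U)
      ((g : Matrix (Fin k × Fin l) (Fin k × Fin l) F) *ᵥ X) := by
  obtain ⟨hXU, μ, t, ht, htx⟩ := h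
  refine ⟨by rw [C.pres g hg, hXU], μ, g * t * g⁻¹, M.mul_mem (M.mul_mem hg ht) (M.inv_mem hg), fun x => ?_⟩
  rw [mul_act, mul_act, htx, Matrix.mulVec_add, Matrix.mulVec_add, Matrix.mulVec_smul, Matrix.mulVec_smul,
    act_inv_act]
  have e : ∀ Y, tForm σ f₁ f₂ (((g⁻¹ : GL (Fin k × Fin l) F) : Matrix (Fin k × Fin l) (Fin k × Fin l) F) *ᵥ x) Y =
      tForm σ f₁ f₂ x ((g : Matrix (Fin k × Fin l) (Fin k × Fin l) F) *ᵥ Y) := fun Y => by
    rw [← C.pres g hg, act_inv_act]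
  rw [e, e]

theorem sg_add_unit {U X X' : Fin k × Fin l → F} (hU : tForm σ f₁ f₂ U U = 0) (h : SGU σ f₁ f₂ M U X)
    (h' : SGU σ f₁ f₂ M U X') : SGU σ f₁ f₂ M U (X + X') := by
  obtain ⟨hXU, μ, g, hg, hgx⟩ := h
  obtain ⟨hXU', μ', g', hg', hgx'⟩ := h'
  have hUX : tForm σ f₁ f₂ U X = 0 := by rw [← tForm_conj H₁ H₂, hXU, map_zero]
  refine ⟨by rw [tForm_add_left, hXU, hXU', add_zero], μ + μ' - tForm σ f₁ f₂ X' X, g * g', M.mul_mem hg hg',
    fun x => ?_⟩
  rw [mul_act, hgx, hgx', tForm_add_right]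
  simp only [tForm_add_left, tForm_smul_left H₁ H₂, hU, hXU', hUX, mul_zero, add_zero]
  module

theorem sg_zero_unit (U : Fin k × Fin l → F) : SGU σ f₁ f₂ M U 0 :=
  ⟨tForm_zero_left H₁ H₂ U, 0, 1, M.one_mem, fun x => by
    rw [one_act, smul_zero, add_zero, show tForm σ f₁ f₂ x 0 = 0 by
      rw [← tForm_conj H₁ H₂, tForm_zero_left H₁ H₂, map_zero]]
    simp⟩

/-- The `X` with all multiples giving Eichler elements. -/
noncomputable def sgSub (U : Fin k × Fin l → F) (hU : tForm σ f₁ f₂ U U = 0) :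
    Submodule F (Fin k × Fin l → F) where
  carrier := {X | ∀ t : F, SGU σ f₁ f₂ M U (t • X)}
  zero_mem' t := by rw [smul_zero]; exact sg_zero_unit H₁ H₂ C U
  add_mem' {X Y} hX hY t := by rw [smul_add]; exact sg_add_unit H₁ H₂ C hU (hX t) (hY t)
  smul_mem' s X hX t := by rw [smul_smul]; exact hX _

include hT

theorem tForm_self_tp {u : Fin k → F} {a : Fin l → F} (hu : Iso f₁ u) : tForm σ f₁ f₂ (tp u a) (tp u a) = 0 := by
  rw [tForm_tp H₂.s H₁.s, hu.2, zero_mul]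

/-- A transvection fixing `U` moves Eichler vectors. -/
theorem move_by_tv {U U' X : Fin k × Fin l → F} (hU : tForm σ f₁ f₂ U U = 0) (hU' : TV σ f₁ f₂ M U')
    (h0 : tForm σ f₁ f₂ U U' = 0) (hX : X ∈ sgSub H₁ H₂ C U hU) (h1 : tForm σ f₁ f₂ X U' ≠ 0) :
    U' ∈ sgSub H₁ H₂ C U hU := by
  intro t
  obtain ⟨z, hz0, hz⟩ := H₁.exists_skew
  obtain ⟨g, hg, hgx⟩ := hU' z hz
  set s := t / (z * tForm σ f₁ f₂ X U')
  have h2 := sg_conj_unit H₁ H₂ C (hX s) hg
  rw [hgx, hgx, h0, mul_zero, zero_smul, add_zero, tForm_smul_left H₁ H₂] at h2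
  have h3 := sg_add_unit H₁ H₂ C hU h2 (hX (-s))
  rw [show s • X + (z * (s * tForm σ f₁ f₂ X U')) • U' + -s • X = (z * (s * tForm σ f₁ f₂ X U')) • U' by module,
    show z * (s * tForm σ f₁ f₂ X U') = t by
      rw [mul_left_comm]; exact div_mul_cancel₀ _ (mul_ne_zero hz0 h1)] at h3
  exact h3

theorem base_mem {u : Fin k → F} {a c : Fin l → F} (hu : Iso f₁ u) (hac : Pair f₂ a c) :
    tp u c ∈ sgSub H₁ H₂ C (tp u a) (tForm_self_tp H₁ H₂ C hT hu) := by
  intro t
  by_cases ht : t = 0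
  · rw [ht, zero_smul]; exact sg_zero_unit H₁ H₂ C _
  obtain ⟨z, hz0, hz⟩ := H₁.exists_skew
  set d := (t / z) • c with hd
  have hdi : Iso f₂ d := C.iso_smul hac.2.1 (div_ne_zero ht hz0)
  have had : f₂ a d = 0 := by rw [hd, H₂.s.smul_right, hac.2.2.1, mul_zero]
  have hp : Pair f₂ a d := ⟨hac.1, hdi, had, fun y e => hac.2.2.2 (z / t * y) (by
    rw [mul_smul, ← e, hd, smul_smul, show z / t * (t / z) = 1 by field_simp, one_smul])⟩
  obtain ⟨g₁, hg₁, hg₁x⟩ := hT u (a + d) hu (C.iso_add hp) z hz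
  obtain ⟨g₂, hg₂, hg₂x⟩ := hT u a hu hac.1 (-z) (by rw [map_neg, hz])
  obtain ⟨g₃, hg₃, hg₃x⟩ := hT u d hu hdi (-z) (by rw [map_neg, hz])
  have e1 : t • tp u c = z • tp u d := by
    rw [hd, tp_smul_right, smul_smul, mul_div_cancel₀ _ hz0]
  refine ⟨by rw [tForm_smul_left H₁ H₂, tForm_tp H₂.s H₁.s, hu.2, zero_mul, mul_zero], 0, g₁ * g₂ * g₃,
    M.mul_mem (M.mul_mem hg₁ hg₂) hg₃, fun x => ?_⟩
  rw [mul_act, mul_act, hg₃x, hg₂x, hg₁x, e1, tForm_smul_right H₁ H₂, hz]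
  simp only [tp_add_right, tForm_add_right, tForm_add_left, tForm_smul_left H₁ H₂, tForm_tp H₂.s H₁.s, hu.2,
    zero_mul, mul_zero, add_zero]
  module

theorem left_full (hl : 4 ≤ l) {u : Fin k → F} {a : Fin l → F} (hu : Iso f₁ u) (ha : Iso f₂ a) (hk : 2 ≤ k)
    (x : Fin k → F) {y : Fin l → F} (hy : f₂ y a = 0) :
    tp x y ∈ sgSub H₁ H₂ C (tp u a) (tForm_self_tp H₁ H₂ C hT hu) := by
  set G := sgSub H₁ H₂ C (tp u a) (tForm_self_tp H₁ H₂ C hT hu)
  have key : ∀ z, Iso f₁ z → f₁ z u ≠ 0 → ∀ c, Iso f₂ c → f₂ c a = 0 → (∀ s : F, c ≠ s • a) → tp z c ∈ G := by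
    intro z hz hzu c hc hca hcs
    obtain ⟨b, hbb, hba, hcb⟩ : ∃ b, f₂ b b = 0 ∧ f₂ b a = 0 ∧ f₂ c b ≠ 0 := by
      by_contra! h0
      obtain ⟨s, hs⟩ := H₂.span_perp hl ha h0
      exact hcs s hs
    have hbs : ∀ s : F, b ≠ s • a := fun s e => hcb (by rw [e, H₂.s.smul_right, hca, mul_zero])
    have hp : Pair f₂ a b :=
      ⟨ha, ⟨fun e => hbs 0 (by rw [e, zero_smul]), hbb⟩, H₂.s.symm_zero hba, hbs⟩
    refine move_by_tv H₁ H₂ C hT _ (hT z c hz hc) (by rw [tForm_tp H₂.s H₁.s, H₂.s.symm_zero hca, mul_zero])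
      (base_mem H₁ H₂ C hT hu hp) ?_
    rw [tForm_tp H₂.s H₁.s]
    exact mul_ne_zero (fun e => hzu (H₁.s.symm_zero e)) (fun e => hcb (H₂.s.symm_zero e))
  have h1 : ∀ z, Iso f₁ z → f₁ z u ≠ 0 → tp z y ∈ G := by
    intro z hz hzu
    have := H₂.perp_span hl ha hy
    clear hy
    induction this using Submodule.span_induction with
    | mem b hb => exact key z hz hzu b hb.1 hb.2.1 hb.2.2
    | zero => rw [tp_zero_right]; exact G.zero_mem
    | add p q _ _ hp hq => rw [tp_add_right]; exact G.add_mem hp hq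
    | smul c p _ hp => rw [tp_smul_right]; exact G.smul_mem c hp
  have h2 := H₁.span_nonperp hk hu x
  induction h2 using Submodule.span_induction with
  | mem z hz => exact h1 z hz.1 hz.2
  | zero => rw [tp_zero_left]; exact G.zero_mem
  | add p q _ _ hp hq => rw [tp_add_left]; exact G.add_mem hp hq
  | smul c p _ hp => rw [tp_smul_left]; exact G.smul_mem c hp

theorem sg_full (hl : 4 ≤ l) (hk : 2 ≤ k) {u : Fin k → F} {a : Fin l → F} (hu : Iso f₁ u) (ha : Iso f₂ a)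
    {X : Fin k × Fin l → F} (hX : tForm σ f₁ f₂ X (tp u a) = 0) : SGU σ f₁ f₂ M (tp u a) X := by
  set G := sgSub H₁ H₂ C (tp u a) (tForm_self_tp H₁ H₂ C hT hu)
  obtain ⟨r, hr, -, hru⟩ := H₁.exists_partner hu
  obtain ⟨a', ha', haa', ha'a⟩ := H₂.exists_partner ha
  have hua' : tp u a' ∈ G := by
    refine move_by_tv H₁ H₂ C hT _ (hT u a' hu ha') (by rw [tForm_tp H₂.s H₁.s, hu.2, zero_mul])
      (left_full H₁ H₂ C hT hl hu ha hk r ha.2) ?_
    rw [tForm_tp H₂.s H₁.s, hru, haa', one_mul]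
    exact one_ne_zero
  have hwa' : ∀ w, f₁ w u = 0 → tp w a' ∈ G := by
    intro w hw t
    obtain ⟨c, hc, hc'⟩ := H₂.exists_iso_perp (m := 2) (by omega) ![a, a']
    have hca : f₂ c a = 0 := hc' 0
    have hca' : f₂ c a' = 0 := hc' 1
    obtain ⟨b, hbb, hba, hcb⟩ : ∃ b, f₂ b b = 0 ∧ f₂ b a = 0 ∧ f₂ c b ≠ 0 := by
      by_contra! h0
      obtain ⟨s, hs⟩ := H₂.span_perp hl ha h0
      rw [hs, H₂.s.smul_left, haa', mul_one] at hca'
      exact hc.1 (by rw [hs, hca', zero_smul])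
    have hcb' : f₂ b c ≠ 0 := fun e => hcb (H₂.s.symm_zero e)
    obtain ⟨-, μ, g, hg, hgx⟩ := left_full H₁ H₂ C hT hl hu hc hk w (H₂.s.symm_zero hca') (1 : F)
    rw [one_smul] at hgx
    have hXb := left_full H₁ H₂ C hT hl hu ha hk r hba
    set s := t / f₂ b c
    have h2 := sg_conj_unit H₁ H₂ C (hXb s) hg
    rw [hgx, hgx] at h2
    simp only [tForm_smul_left H₁ H₂, tForm_tp H₂.s H₁.s, hu.2, hru, H₂.s.symm_zero hca, H₁.s.symm_zero hw,
      mul_zero, zero_mul, zero_smul, sub_zero, add_zero, one_mul] at h2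
    rw [show s * f₂ b c = t from div_mul_cancel₀ _ hcb'] at h2
    have hrest : ∀ p : F, SGU σ f₁ f₂ M (tp u a) (p • tp u c) := fun p =>
      left_full H₁ H₂ C hT hl hu ha hk u hca p
    have h3 := sg_add_unit H₁ H₂ C (tForm_self_tp H₁ H₂ C hT hu) (sg_add_unit H₁ H₂ C (tForm_self_tp H₁ H₂ C hT hu) h2
      (hXb (-s))) (hrest (-(μ * t - s * (f₁ r w * f₂ b a'))))
    convert h3 using 1
    module
  have hall : ∀ x y, tp x y - tForm σ f₁ f₂ (tp x y) (tp u a) • tp r a' ∈ G := by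
    intro x y
    rw [tForm_tp H₂.s H₁.s, show tp x y - (f₁ x u * f₂ y a) • tp r a' =
        tp x (y - f₂ y a • a') + f₂ y a • tp (x - f₁ x u • r) a' from funext fun p => by simp [tp]; ring]
    refine G.add_mem (left_full H₁ H₂ C hT hl hu ha hk x ?_) (G.smul_mem _ (hwa' _ ?_))
    · rw [H₂.s.sub_left, H₂.s.smul_left, ha'a, mul_one, sub_self]
    · rw [H₁.s.sub_left, H₁.s.smul_left, hru, mul_one, sub_self]
  have h : X - tForm σ f₁ f₂ X (tp u a) • tp r a' ∈ G := by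
    rw [tp_decomp X, tForm_sum_left, Finset.sum_smul, ← Finset.sum_sub_distrib]
    exact G.sum_mem fun i _ => hall _ _
  rw [hX, zero_smul, sub_zero] at h
  simpa using h 1

/-- All transvections lie in `M`. -/
theorem tv_all (hl : 4 ≤ l) (hk : 2 ≤ k) {V : Fin k × Fin l → F} (hV : tForm σ f₁ f₂ V V = 0) :
    TV σ f₁ f₂ M V := by
  by_cases hV0 : V = 0
  · subst hV0
    exact fun z _ => ⟨1, M.one_mem, fun x => by rw [one_act, smul_zero, add_zero]⟩
  obtain ⟨u, a, hu, ha, hβ⟩ : ∃ u a, Iso f₁ u ∧ Iso f₂ a ∧ tForm σ f₁ f₂ V (tp u a) ≠ 0 := by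
    by_contra! h0
    have hP : ∀ a, f₂ a a = 0 → Pf f₂ k a V = 0 := fun a ha => by
      by_cases ha0 : a = 0
      · exact funext fun i => by rw [Pf_apply H₂.s, ha0, H₂.s.zero_right, Pi.zero_apply]
      refine H₁.s.nd _ fun w => ?_
      have hw : w ∈ Submodule.span F {b | f₁ b b = 0} := H₁.span_iso hk ▸ Submodule.mem_top
      induction hw using Submodule.span_induction with
      | mem b hb =>
        by_cases hb0 : b = 0
        · rw [hb0, H₁.s.zero_right]
        rw [← tForm_right H₂.s H₁.s]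
        exact h0 b a ⟨hb0, hb⟩ ⟨ha0, ha⟩
      | zero => exact H₁.s.zero_right _
      | add p q _ _ hp hq => rw [H₁.s.add_right, hp, hq, add_zero]
      | smul c p _ hp => rw [H₁.s.smul_right, hp, mul_zero]
    refine hV0 (funext fun p => ?_)
    have hrow : (fun j => V (p.1, j)) = 0 := H₂.s.nd _ fun c => by
      have hc : c ∈ Submodule.span F {b | f₂ b b = 0} := H₂.span_iso (by omega) ▸ Submodule.mem_top
      induction hc using Submodule.span_induction with
      | mem b hb => rw [← Pf_apply H₂.s, hP b hb, Pi.zero_apply]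
      | zero => exact H₂.s.zero_right _
      | add q r _ _ hq hr => rw [H₂.s.add_right, hq, hr, add_zero]
      | smul s q _ hq => rw [H₂.s.smul_right, hq, mul_zero]
    exact congrFun hrow p.2
  set β := tForm σ f₁ f₂ V (tp u a) with hβdef
  obtain ⟨r, hr, -, hru⟩ := H₁.exists_partner hu
  obtain ⟨a', ha', -, ha'a⟩ := H₂.exists_partner ha
  have hri : Iso f₁ (β • r) :=
    ⟨smul_ne_zero hβ hr.1, by rw [H₁.s.smul_left, H₁.s.smul_right, hr.2, mul_zero, mul_zero]⟩
  set P₁ := tp (β • r) a' with hP₁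
  have hP₁U : tForm σ f₁ f₂ P₁ (tp u a) = β := by
    rw [hP₁, tForm_tp H₂.s H₁.s, H₁.s.smul_left, hru, ha'a, mul_one, mul_one]
  set W := β⁻¹ • (V - P₁) with hW
  obtain ⟨-, μ, g, hg, hgx⟩ := sg_full H₁ H₂ C hT hl hk hu ha (X := W) (by
    rw [hW, tForm_smul_left H₁ H₂, tForm_sub_left H₁ H₂, hP₁U, ← hβdef, sub_self, mul_zero])
  set s := μ * β - tForm σ f₁ f₂ P₁ W with hs
  have hgP : (g : Matrix (Fin k × Fin l) (Fin k × Fin l) F) *ᵥ P₁ = V + s • tp u a := by
    rw [hgx, hP₁U, hW, smul_smul, mul_inv_cancel₀ hβ, one_smul, add_sub_cancel, ← hW, ← hs]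
  have hself := tForm_self_tp H₁ H₂ C hT (a := a) hu
  have hskew : σ (s / β) = -(s / β) := by
    have h0 := C.pres g hg P₁ P₁
    rw [hgP, tForm_add_left, tForm_add_right, tForm_add_right, tForm_smul_left H₁ H₂, tForm_smul_left H₁ H₂,
      tForm_smul_right H₁ H₂, tForm_smul_right H₁ H₂, hself, hV, ← hβdef,
      show tForm σ f₁ f₂ (tp u a) V = σ β by rw [hβdef, tForm_conj H₁ H₂],
      show tForm σ f₁ f₂ P₁ P₁ = 0 from tForm_self_tp H₁ H₂ C hT hri] at h0
    have hσβ : σ β ≠ 0 := (map_ne_zero σ).2 hβ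
    rw [map_div₀]
    field_simp
    linear_combination h0
  obtain ⟨t, ht, htx⟩ := hT u a hu ha (-(s / β)) (by rw [map_neg, hskew])
  have := tv_conj H₁ H₂ C (hT (β • r) a' hri ha') (M.mul_mem ht hg)
  rw [mul_act, ← hP₁, hgP, htx, tForm_add_left, tForm_smul_left H₁ H₂, hself, ← hβdef, mul_zero, add_zero,
    neg_mul, div_mul_cancel₀ _ hβ, neg_smul, add_neg_cancel_right] at this
  exact this

end Gen

end Cfsg.Agent.TensorMax
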