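import Cfsg.Agent.Lib.TensorMaxUnitDescent
import Cfsg.Agent.Lib.TensorMaxUnitGen

/-! The descent of `unit_le_kron` for a first factor of dimension at most three and a second of dimension four. -/

set_option autoImplicit false
set_option linter.unusedSectionVars false

namespace Cfsg.Agent.TensorUnitLow74

open scoped Matrix MatrixGroups Kronecker
open Cfsg.Agent.TensorMax Cfsg.Agent.TransvectionMax

variable {F : Type*} [Field F] [Fintype F] {σ : F →+* F} {k l : ℕ} {f₁ : (Fin k → F) → (Fin k → F) → F}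
  {f₂ : (Fin l → F) → (Fin l → F) → F} (H₁ : UForm σ f₁) (H₂ : UForm σ f₂)
  {M : Subgroup (GL (Fin k × Fin l) F)} (C : Ctx0 σ 1 1 f₁ f₂ M)
include H₁ H₂ C

/-- The descent when the first factor has dimension at most three. -/
theorem unit_le_kron_small (hH : Cfsg.Geo.kroneckerSubgroup k l F ⊓ SUT σ f₁ f₂ ≤ M) (hkl : k < l) (hl : 4 ≤ l)
    (hk : k ≤ 3) (K₁ : Ctx0.CentreScalar M f₁ f₂ (1 : F)) (K₂ : Ctx0.RhoScalar M σ f₁ f₂ (1 : F)) :
    M ≤ Cfsg.Geo.kroneckerSubgroup k l F := by
  classical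
  obtain ⟨z, hz0, hz⟩ := H₂.exists_skew
  let ψ : (Fin l → F) → Fin l → F := fun b => row f₂ (σ z • b)
  have hψb : ∀ b, f₂ b b = 0 → ψ b ⬝ᵥ b = 0 := fun b hb => by
    simp only [ψ, H₂.s.row_dot, H₂.s.smul_right, hb, mul_zero]
  have hxr : ∀ b, xr k b (ψ b) = kr (1 : GL (Fin k) F) (ft f₂ b (σ z • b)) := fun b => rfl
  have hψ0 : ∀ b, Iso f₂ b → ψ b ≠ 0 := fun b hb e => hb.1 (H₂.s.nd b fun y => H₂.s.symm_zero (by
    have : f₂ y (σ z • b) = 0 := by rw [← H₂.s.row_dot]; simp [ψ] at e; rw [e, zero_dotProduct]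
    rw [H₂.s.smul_right, H₂.s.invol] at this
    exact (mul_eq_zero.1 this).resolve_left hz0))
  have hxM : ∀ b, Iso f₂ b → xr k b (ψ b) ∈ M := fun b hb => by rw [hxr]; exact right_mem H₁ H₂ hH hb.2 hz
  have hPψ : ∀ b (u : Fin k × Fin l → F), P (ψ b) u = z • Pf f₂ k b u := fun b u => funext fun i => by
    rw [P_apply, Pi.smul_apply, Pf_apply H₂.s, smul_eq_mul]
    simp only [ψ, H₂.s.row_dot, H₂.s.smul_right, H₂.s.invol]
  have hback : ∀ g ∈ M, ∀ b, Iso f₂ b → g * xr k b (ψ b) * g⁻¹ ∈ Cfsg.Geo.kroneckerSubgroup k l F →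
      g ∈ Cfsg.Geo.kroneckerSubgroup k l F := by
    intro g hg b hb hy
    obtain ⟨c, hc⟩ := mapsRuler_of_conj_mem hkl hb.1 (hψ0 b hb) (hψb b hb.2) g hy
    exact C.mem_kron K₁ K₂ hb hg hc
  have fixed : ∀ r, r ≤ 2 → (∀ r' < r, ∀ g ∈ M, ∀ b b', Iso f₂ b → Iso f₂ b' →
      Module.finrank F (LinearMap.range (blockT g b (ψ b) b' (ψ b'))) ≤ r' →
      g ∈ Cfsg.Geo.kroneckerSubgroup k l F) →
      ∀ y₁ ∈ M, ∀ c, Iso f₂ c → ∀ K : Submodule F (Fin k → F), Module.finrank F K + r = k →
      (∀ v ∈ K, (y₁ : Matrix (Fin k × Fin l) (Fin k × Fin l) F) *ᵥ tp v c = tp v c) →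
      y₁ ∈ Cfsg.Geo.kroneckerSubgroup k l F := by
    intro r hr2 ih y₁ hy₁M c hc K hK hfix
    by_contra hy₁k
    rcases Nat.eq_zero_or_pos r with hr0 | hr0
    · have : K = ⊤ := Submodule.eq_top_of_finrank_eq (by rw [Module.finrank_fin_fun]; omega)
      exact hy₁k (C.mem_kron K₁ K₂ hc hy₁M fun v => ⟨v, hfix v (this ▸ Submodule.mem_top)⟩)
    obtain ⟨R, hR⟩ := Submodule.exists_isCompl K
    have hRr : Module.finrank F R = r := by
      have := Submodule.finrank_add_eq_of_isCompl hR
      rw [Module.finrank_fin_fun] at this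
      omega
    let w : Fin r → Fin k → F := fun i => (Module.finBasisOfFinrankEq F R hRr i : Fin k → F)
    have hw : ∀ u, ∃ (a : K) (t : Fin r → F), u = a + ∑ i, t i • w i := by
      intro u
      obtain ⟨a, ha, b', hb', hu⟩ := Submodule.mem_sup.1 (hR.sup_eq_top.symm ▸ Submodule.mem_top : u ∈ K ⊔ R)
      refine ⟨⟨a, ha⟩, (Module.finBasisOfFinrankEq F R hRr).repr ⟨b', hb'⟩, ?_⟩
      rw [← hu]
      congr 1
      have := congrArg Subtype.val ((Module.finBasisOfFinrankEq F R hRr).sum_repr ⟨b', hb'⟩)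
      simp only [Submodule.coe_sum, Submodule.coe_smul] at this
      exact this.symm
    -- parameters
    obtain ⟨e, he, hce, hec⟩ := H₂.exists_partner hc
    let L : (Fin l → F) →ₗ[F] (Fin 2 → F) :=
      { toFun := fun x => ![f₂ x c, f₂ x e]
        map_add' := fun x x' => by ext i; fin_cases i <;> simp [H₂.s.add_left]
        map_smul' := fun t x => by ext i; fin_cases i <;> simp [H₂.s.smul_left] }
    obtain ⟨q, hq⟩ : ∃ q : Fin (l - 2) → LinearMap.ker L, LinearIndependent F q :=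
      exists_linearIndependent_of_le_finrank (by
        have h1 := LinearMap.finrank_range_add_finrank_ker L
        have h2 := Submodule.finrank_le (LinearMap.range L)
        rw [Module.finrank_fin_fun] at h1 h2
        omega)
    have hqc : ∀ i, f₂ (q i : Fin l → F) c = 0 ∧ f₂ (q i : Fin l → F) e = 0 := fun i => by
      have h : L (q i : Fin l → F) = 0 := (q i).2
      exact ⟨congrFun h 0, congrFun h 1⟩
    obtain ⟨ω, hω⟩ := H₂.ne
    let η : (Fin (l - 2) × Fin 2) ⊕ Unit → Fin l → F := Sum.elim (fun p => ![1, ω] p.2 • (q p.1 : Fin l → F)) 0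
    let ς : (Fin (l - 2) × Fin 2) ⊕ Unit → F := Sum.elim 0 (fun _ => z)
    let F₀ : Subfield F := RingHom.eqLocusField σ (RingHom.id F)
    haveI : Fintype F₀ := Fintype.ofFinite F₀
    have hF₀ : ∀ x : F₀, σ (x : F) = x := fun x => x.2
    let yv : ((Fin (l - 2) × Fin 2) ⊕ Unit → F₀) → Fin l → F := fun x => ∑ v, (x v : F) • η v
    let sv : ((Fin (l - 2) × Fin 2) ⊕ Unit → F₀) → F := fun x => ∑ v, (x v : F) * ς v
    have hyc : ∀ x, f₂ (yv x) c = 0 ∧ f₂ (yv x) e = 0 := fun x => by
      constructor <;>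
      · simp only [yv, H₂.s.sum_left, H₂.s.smul_left]
        refine Finset.sum_eq_zero fun v _ => ?_
        rcases v with p | p
        · simp [η, H₂.s.smul_left, hqc]
        · simp [η, H₂.s.zero_left]
    have hsv : ∀ x, σ (sv x) = -sv x := fun x => by
      simp only [sv, map_sum, map_mul, hF₀, ← Finset.sum_neg_distrib]
      refine Finset.sum_congr rfl fun v _ => ?_
      rcases v with p | p <;> simp [ς, hz]
    have hzero : ∀ x, yv x = 0 → sv x = 0 → x = 0 := fun x h1 h2 => by
      have h3 : (x (Sum.inr ()) : F) = 0 := by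
        simp only [sv, ς, Fintype.sum_sum_type, Sum.elim_inl, Sum.elim_inr, Pi.zero_apply, mul_zero,
          Finset.sum_const_zero, zero_add, Finset.univ_unique, Finset.sum_singleton] at h2
        exact (mul_eq_zero.1 h2).resolve_right hz0
      have h4 : ∑ i, ((x (Sum.inl (i, 0)) : F) + ω * (x (Sum.inl (i, 1)) : F)) • (q i : Fin l → F) = 0 := by
        rw [← h1]
        simp only [yv, η, Fintype.sum_sum_type, Sum.elim_inl, Sum.elim_inr, Pi.zero_apply, smul_zero,
          Finset.sum_const_zero, add_zero, Fintype.sum_prod_type, Fin.sum_univ_two]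
        refine Finset.sum_congr rfl fun i _ => ?_
        simp only [Matrix.cons_val_zero, Matrix.cons_val_one, one_smul, smul_smul, add_smul, mul_comm ω]
      have h5 := Fintype.linearIndependent_iff.1 (hq.map' (LinearMap.ker L).subtype (Submodule.ker_subtype _))
        _ (by simpa using h4)
      have h6 : ∀ i, (x (Sum.inl (i, 1)) : F) = 0 ∧ (x (Sum.inl (i, 0)) : F) = 0 := fun i => by
        have hi := h5 i
        have hi' := congrArg σ hi
        rw [map_add, map_mul, hF₀, hF₀, map_zero] at hi'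
        have h7 : (x (Sum.inl (i, 1)) : F) = 0 :=
          (mul_eq_zero.1 (show (σ ω - ω) * (x (Sum.inl (i, 1)) : F) = 0 by linear_combination hi' - hi)).resolve_left
            (sub_ne_zero.2 hω)
        exact ⟨h7, by rwa [h7, mul_zero, add_zero] at hi⟩
      funext v
      rcases v with ⟨i, j⟩ | u
      · fin_cases j
        · exact Subtype.ext (h6 i).2
        · exact Subtype.ext (h6 i).1
      · exact Subtype.ext h3
    -- the equations
    set Y₁ := Matrix.toLin' (y₁ : Matrix (Fin k × Fin l) (Fin k × Fin l) F) with hY₁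
    let S : ((Fin (l - 2) × Fin 2) ⊕ Unit) → Matrix (Fin r) (Fin r) F := fun v => Matrix.of fun i j =>
      z⁻¹ * tForm σ f₁ f₂ (eichN f₂ k c (η v) (ς v) (Y₁ (tp (w i) c))) (Y₁ (tp (w j) c))
    let Sx : ((Fin (l - 2) × Fin 2) ⊕ Unit → F₀) → Matrix (Fin r) (Fin r) F := fun x => Matrix.of fun i j =>
      z⁻¹ * tForm σ f₁ f₂ (eichN f₂ k c (yv x) (sv x) (Y₁ (tp (w i) c))) (Y₁ (tp (w j) c))
    have hlin : ∀ x u, eichN f₂ k c (yv x) (sv x) u = ∑ v, (x v : F) • eichN f₂ k c (η v) (ς v) u := by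
      intro x u
      have hP : Pf f₂ k (yv x) u = ∑ v, (x v : F) • Pf f₂ k (η v) u := funext fun i => by
        simp only [Pf_apply H₂.s, yv, H₂.s.sum_right, H₂.s.smul_right, hF₀, Finset.sum_apply, Pi.smul_apply,
          smul_eq_mul]
      simp only [eichN, LinearMap.add_apply, LinearMap.smul_apply, SOp_apply, LinearMap.neg_apply,
        Module.End.one_apply, hP, smul_add, Finset.sum_add_distrib]
      funext p
      simp only [tp, Pi.add_apply, Pi.smul_apply, Pi.neg_apply, Finset.sum_apply, smul_eq_mul, yv, sv, Finset.mul_sum,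
        Finset.sum_mul, ← Finset.sum_neg_distrib, ← Finset.sum_add_distrib]
      exact Finset.sum_congr rfl fun v _ => by ring
    have hSx : ∀ x, Sx x = Matrix.of fun i j => ∑ v, (x v : F) * S v i j := fun x => by
      ext i j
      simp only [Sx, S, Matrix.of_apply, hlin, tForm_sum_left, Finset.mul_sum]
      refine Finset.sum_congr rfl fun v _ => ?_
      rw [show tForm σ f₁ f₂ ((x v : F) • eichN f₂ k c (η v) (ς v) (Y₁ (tp (w i) c))) (Y₁ (tp (w j) c)) =
        (x v : F) * tForm σ f₁ f₂ (eichN f₂ k c (η v) (ς v) (Y₁ (tp (w i) c))) (Y₁ (tp (w j) c)) by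
          simp only [tForm, Cfsg.Geo.formOfGram, Pi.smul_apply, smul_eq_mul, Finset.mul_sum]
          exact Finset.sum_congr rfl fun a _ => Finset.sum_congr rfl fun b _ => by ring]
      ring
    let D : MvPolynomial ((Fin (l - 2) × Fin 2) ⊕ Unit) F :=
      (Matrix.of fun i j => ∑ v, MvPolynomial.C (S v i j) * MvPolynomial.X v).det
    let I : MvPolynomial ((Fin (l - 2) × Fin 2) ⊕ Unit) F :=
      ∑ v, ∑ v', MvPolynomial.C (f₂ (η v) (η v')) * (MvPolynomial.X v * MvPolynomial.X v')
    have hDev : ∀ x : (Fin (l - 2) × Fin 2) ⊕ Unit → F₀,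
        MvPolynomial.eval (fun v => (x v : F)) D = (Sx x).det := fun x => by
      rw [RingHom.map_det]
      congr 1
      rw [hSx]
      ext i j
      simp [Matrix.map_apply, mul_comm]
    have hIev : ∀ x : (Fin (l - 2) × Fin 2) ⊕ Unit → F₀,
        MvPolynomial.eval (fun v => (x v : F)) I = f₂ (yv x) (yv x) := fun x => by
      simp only [I, yv, map_sum, map_mul, MvPolynomial.eval_C, MvPolynomial.eval_X, H₂.s.sum_left, H₂.s.sum_right,
        H₂.s.smul_left, H₂.s.smul_right, hF₀, Finset.mul_sum]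
      exact Finset.sum_congr rfl fun v _ => Finset.sum_congr rfl fun v' _ => by ring
    have hDfix : ∀ x, σ (Sx x).det = (Sx x).det := fun x => by
      rw [RingHom.map_det, ← Matrix.det_transpose (Sx x)]
      congr 1
      ext i j
      simp only [RingHom.mapMatrix_apply, Matrix.map_apply, Matrix.transpose_apply, Sx, Matrix.of_apply, map_mul,
        map_inv₀, hz, inv_neg]
      rw [eichN_skew H₁ H₂ (hsv x) (Y₁ (tp (w j) c))]
      ring
    have hDdeg : D.totalDegree ≤ r := by
      simp only [D, Matrix.det_apply]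
      refine MvPolynomial.totalDegree_finsetSum_le fun p _ => ?_
      refine (MvPolynomial.totalDegree_smul_le _ _).trans ?_
      refine (MvPolynomial.totalDegree_finset_prod _ _).trans ?_
      refine (Finset.sum_le_card_nsmul _ _ 1 fun i _ => ?_).trans (by simp)
      simp only [Matrix.of_apply]
      refine MvPolynomial.totalDegree_finsetSum_le fun v _ => ?_
      refine (MvPolynomial.totalDegree_mul _ _).trans ?_
      simp
    have hIdeg : I.totalDegree ≤ 2 := by
      refine MvPolynomial.totalDegree_finsetSum_le fun v _ => MvPolynomial.totalDegree_finsetSum_le fun v' _ => ?_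
      refine (MvPolynomial.totalDegree_mul _ _).trans ?_
      have := MvPolynomial.totalDegree_mul (MvPolynomial.X v : MvPolynomial _ F) (MvPolynomial.X v')
      simp only [MvPolynomial.totalDegree_C, MvPolynomial.totalDegree_X] at this ⊢
      omega
    set E := Fintype.card F₀ - 1 with hE
    have hEpos : 0 < E := by
      have := Fintype.one_lt_card (α := F₀)
      omega
    have hrk : r ≤ k := by
      have := Submodule.finrank_le R
      rw [Module.finrank_fin_fun] at this
      omega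
    have hsum := sum_subfield_eval (F₀ := F₀) ((1 - D ^ E) * (1 - I ^ E)) (by
      have h1 : (1 - D ^ E).totalDegree ≤ E * r := by
        refine (MvPolynomial.totalDegree_sub _ _).trans (max_le (by simp) ?_)
        exact (MvPolynomial.totalDegree_pow _ _).trans (Nat.mul_le_mul_left _ hDdeg)
      have h2 : (1 - I ^ E).totalDegree ≤ E * 2 := by
        refine (MvPolynomial.totalDegree_sub _ _).trans (max_le (by simp) ?_)
        exact (MvPolynomial.totalDegree_pow _ _).trans (Nat.mul_le_mul_left _ hIdeg)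
      have h3 := MvPolynomial.totalDegree_mul (1 - D ^ E) (1 - I ^ E)
      simp only [Fintype.card_sum, Fintype.card_prod, Fintype.card_fin, Fintype.card_unit, ← hE]
      have : E * (r + 2) < E * ((l - 2) * 2 + 1) := Nat.mul_lt_mul_of_pos_left (by omega) hEpos
      rw [Nat.mul_add] at this
      omega)
    have hind : ∀ a : F, σ a = a → a ≠ 0 → a ^ E = 1 := fun a ha ha0 => by
      have h := FiniteField.pow_card_sub_one_eq_one (⟨a, ha⟩ : F₀) (fun e => ha0 (congrArg Subtype.val e))
      exact congrArg Subtype.val h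
    have hval : ∀ x : (Fin (l - 2) × Fin 2) ⊕ Unit → F₀,
        MvPolynomial.eval (fun v => (x v : F)) ((1 - D ^ E) * (1 - I ^ E)) =
          if (Sx x).det = 0 ∧ f₂ (yv x) (yv x) = 0 then 1 else 0 := fun x => by
      rw [map_mul, map_sub, map_sub, map_pow, map_pow, map_one, hDev, hIev]
      by_cases h1 : (Sx x).det = 0
      · by_cases h2 : f₂ (yv x) (yv x) = 0
        · simp [h1, h2, hEpos.ne']
        · simp [h1, h2, hind _ (H₂.self_fixed _) h2, hEpos.ne']
      · simp [h1, hind _ (hDfix x) h1]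
    obtain ⟨x, hx0, hdet, hyy⟩ : ∃ x, x ≠ 0 ∧ (Sx x).det = 0 ∧ f₂ (yv x) (yv x) = 0 := by
      by_contra! h0
      rw [Finset.sum_congr rfl (fun x _ => hval x), Finset.sum_eq_single 0 (fun x _ hx => if_neg fun h => h0 x hx h.1 h.2)
        (by simp)] at hsum
      have e1 : yv 0 = 0 := by simp [yv]
      have e2 : Sx 0 = 0 := by
        rw [hSx]; ext i j; simp
      haveI : Nonempty (Fin r) := ⟨⟨0, hr0⟩⟩
      rw [if_pos ⟨by rw [e2, Matrix.det_zero], by rw [e1, H₂.s.zero_left]⟩] at hsum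
      exact one_ne_zero hsum
    -- the new element
    set N := eichN f₂ k c (yv x) (sv x) with hNdef
    have hNel : El M N := el_eichN H₁ H₂ C hc hyy (hyc x).1 (hsv x) (fun hne t e0 => by
      have := (hyc x).2
      rw [e0, H₂.s.smul_left, hce, mul_one] at this
      exact hne (by rw [e0, this, zero_smul]))
    obtain ⟨h, hhM, hhN⟩ := hNel
    have hN2 : N * N = 0 := eichN_sq H₁ H₂ C hc.2 hyy (hyc x).1
    have hhu : ∀ u, (h : Matrix (Fin k × Fin l) (Fin k × Fin l) F) *ᵥ u = u + N u := fun u => by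
      rw [← Matrix.toLin'_apply, hhN, LinearMap.add_apply, Module.End.one_apply]
    set g' := y₁⁻¹ * h * y₁ with hg'
    have hg'M : g' ∈ M := M.mul_mem (M.mul_mem (M.inv_mem hy₁M) hhM) hy₁M
    set X : Module.End F (Fin k → F) :=
      (Pf f₂ k c).comp ((Matrix.toLin' (g' : Matrix (Fin k × Fin l) (Fin k × Fin l) F)).comp (J c)) with hX
    have hXf : ∀ v v', f₁ (X v) v' = tForm σ f₁ f₂ (N (Y₁ (tp v c))) (Y₁ (tp v' c)) := fun v v' => by
      simp only [hX, LinearMap.comp_apply, Matrix.toLin'_apply, J_apply, hY₁]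
      rw [← tForm_right H₂.s H₁.s, hg', mul_act, mul_act, ← C.pres y₁ hy₁M, act_inv_act, hhu, tForm_add_left,
        C.pres y₁ hy₁M, tForm_tp H₂.s H₁.s, hc.2, mul_zero, zero_add]
    have hXK : ∀ v ∈ K, ∀ v', f₁ (X v) v' = 0 ∧ f₁ (X v') v = 0 := fun v hv v' => by
      have e : N (Y₁ (tp v c)) = 0 := by
        rw [hY₁, Matrix.toLin'_apply, hfix v hv, hNdef, eichN_tp H₁ H₂, H₂.s.symm_zero (hyc x).1, hc.2]
        simp [tp_zero_right]
      have h1 : ∀ v', f₁ (X v) v' = 0 := fun v' => by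
        rw [hXf, e, show tForm σ f₁ f₂ 0 (Y₁ (tp v' c)) = 0 by simp [tForm, Cfsg.Geo.formOfGram]]
      refine ⟨h1 v', ?_⟩
      rw [hXf, hNdef, eichN_skew H₁ H₂ (hsv x), ← hNdef, ← hXf, h1, map_zero, neg_zero]
    obtain ⟨t, ht0, ht⟩ := Matrix.exists_vecMul_eq_zero_iff.2 hdet
    set v₁ := ∑ i, t i • w i with hv₁
    have hXv₁ : X v₁ = 0 := H₁.s.nd _ fun u => by
      obtain ⟨a, s, rfl⟩ := hw u
      rw [H₁.s.add_right, (hXK a a.2 v₁).2, zero_add, H₁.s.sum_right]
      refine Finset.sum_eq_zero fun j _ => ?_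
      rw [H₁.s.smul_right, hv₁, map_sum, H₁.s.sum_left]
      refine mul_eq_zero_of_right _ ?_
      have h := congrFun ht j
      simp only [Matrix.vecMul, dotProduct, Sx, Matrix.of_apply, Pi.zero_apply] at h
      rw [show ∑ i, t i * (z⁻¹ * tForm σ f₁ f₂ (eichN f₂ k c (yv x) (sv x) (Y₁ (tp (w i) c))) (Y₁ (tp (w j) c))) =
        z⁻¹ * ∑ i, f₁ (X (t i • w i)) (w j) by
        rw [Finset.mul_sum]
        exact Finset.sum_congr rfl fun i _ => by rw [map_smul, H₁.s.smul_left, hXf, hNdef]; ring] at h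
      exact (mul_eq_zero.1 h).resolve_left (inv_ne_zero hz0)
    have hv₁K : v₁ ∉ K := fun hv => ht0 (by
      have hv₁R : v₁ ∈ R := R.sum_mem fun i _ => R.smul_mem _ (Module.finBasisOfFinrankEq F R hRr i).2
      have := Submodule.disjoint_def.1 hR.disjoint v₁ hv hv₁R
      refine funext fun i => Fintype.linearIndependent_iff.1 ?_ t this i
      exact (Module.finBasisOfFinrankEq F R hRr).linearIndependent.map' R.subtype (Submodule.ker_subtype _))
    have hle : K ⊔ Submodule.span F {v₁} ≤ LinearMap.ker X := by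
      refine sup_le (fun v hv => LinearMap.mem_ker.2 (H₁.s.nd _ fun u => (hXK v hv u).1)) ?_
      rw [Submodule.span_singleton_le_iff_mem]
      exact LinearMap.mem_ker.2 hXv₁
    have hkerlt : Module.finrank F K < Module.finrank F (LinearMap.ker X) := by
      refine Submodule.finrank_lt_finrank_of_lt (lt_of_lt_of_le ?_ hle)
      refine lt_of_le_of_ne le_sup_left fun e0 => hv₁K ?_
      rw [e0]
      exact Submodule.mem_sup_right (Submodule.mem_span_singleton_self v₁)
    have hblock : Module.finrank F (LinearMap.range (blockT g' c (ψ c) c (ψ c))) < r := by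
      have hle' : LinearMap.range (blockT g' c (ψ c) c (ψ c)) ≤ LinearMap.range (z • X) := by
        rintro _ ⟨v, rfl⟩
        exact ⟨P (ψ c) (((g'⁻¹ : GL (Fin k × Fin l) F) : Matrix (Fin k × Fin l) (Fin k × Fin l) F) *ᵥ tp v c), by
          simp [blockT, hX, hPψ, J_apply, Matrix.toLin'_apply]⟩
      have h1 := Submodule.finrank_mono hle'
      rw [LinearMap.range_smul _ _ hz0] at h1
      have h2 := LinearMap.finrank_range_add_finrank_ker X
      rw [Module.finrank_fin_fun] at h2
      omega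
    have hg'k := ih _ hblock g' hg'M c c hc hc le_rfl
    -- a root commuting with the new element
    have hg'N : Matrix.toLin' (g' : Matrix (Fin k × Fin l) (Fin k × Fin l) F) = 1 +
        Matrix.toLin' ((y₁⁻¹ : GL (Fin k × Fin l) F) : Matrix (Fin k × Fin l) (Fin k × Fin l) F) * N * Y₁ := by
      refine LinearMap.ext fun u => ?_
      simp only [hg', hY₁, LinearMap.add_apply, Module.End.mul_apply, Module.End.one_apply, Matrix.toLin'_apply,
        mul_act, hhu, Matrix.mulVec_add, inv_act_act]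
    obtain ⟨a, ha, hcomm⟩ := exists_commuting H₁ H₂ C (by omega) hg'M hg'k hg'N (by
      refine LinearMap.ext fun u => ?_
      simp only [hY₁, Module.End.mul_apply, Matrix.toLin'_apply, act_inv_act]
      have := LinearMap.congr_fun hN2 ((y₁ : Matrix (Fin k × Fin l) (Fin k × Fin l) F) *ᵥ u)
      rw [Module.End.mul_apply, LinearMap.zero_apply] at this
      rw [this, Matrix.mulVec_zero, LinearMap.zero_apply]) (z := z)
    rw [← hxr] at hcomm
    set W := y₁ * xr k a (ψ a) * y₁⁻¹ with hW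
    have hWM : W ∈ M := M.mul_mem (M.mul_mem hy₁M (hxM a ha)) (M.inv_mem hy₁M)
    have hWh : W * h = h * W := by
      have e : h = y₁ * g' * y₁⁻¹ := by rw [hg']; group
      rw [e, hW]
      calc y₁ * xr k a (ψ a) * y₁⁻¹ * (y₁ * g' * y₁⁻¹) = y₁ * (xr k a (ψ a) * g') * y₁⁻¹ := by group
        _ = _ := by rw [← hcomm]; group
    have hWN : ∀ u, ((W⁻¹ : GL (Fin k × Fin l) F) : Matrix (Fin k × Fin l) (Fin k × Fin l) F) *ᵥ N u =
        N (((W⁻¹ : GL (Fin k × Fin l) F) : Matrix (Fin k × Fin l) (Fin k × Fin l) F) *ᵥ u) := by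
      intro u
      have e : W⁻¹ * h = h * W⁻¹ := by
        rw [eq_mul_inv_iff_mul_eq, mul_assoc, ← hWh, inv_mul_cancel_left]
      have h1 := congrArg (fun G : GL (Fin k × Fin l) F => (G : Matrix (Fin k × Fin l) (Fin k × Fin l) F) *ᵥ u) e
      simp only [mul_act, hhu, Matrix.mulVec_add] at h1
      exact add_left_cancel h1
    have hsurj : ∀ v, ∃ u, N u = tp v c := by
      intro v
      by_cases hy0 : yv x = 0
      · have hs0 : sv x ≠ 0 := fun e0 => hx0 (hzero x hy0 e0)
        refine ⟨tp v ((sv x)⁻¹ • e), ?_⟩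
        rw [hNdef, eichN_tp H₁ H₂, hy0, H₂.s.smul_left, hec, mul_one, H₂.s.zero_right, zero_smul, smul_zero,
          sub_zero, zero_add, mul_inv_cancel₀ hs0, one_smul]
      · obtain ⟨p, hp, hpy⟩ := TransvectionUnitary.exists_perp_val H₂.isU (W := Submodule.span F {c}) (a := yv x)
          (fun hm => by
            obtain ⟨s, hs⟩ := Submodule.mem_span_singleton.1 hm
            have := (hyc x).2
            rw [← hs, H₂.s.smul_left, hce, mul_one] at this
            exact hy0 (by rw [← hs, this, zero_smul])) (-1)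
        rw [TransvectionUnitary.mem_perp_singleton] at hp
        refine ⟨tp v p, ?_⟩
        rw [hNdef, eichN_tp H₁ H₂, hp, hpy, zero_smul, mul_zero, zero_smul, zero_sub, add_zero, neg_smul, neg_neg,
          one_smul]
    refine hy₁k (hback y₁ hy₁M a ha (hback W hWM c hc
      (C.mem_kron K₁ K₂ hc (M.mul_mem (M.mul_mem hWM (hxM c hc)) (M.inv_mem hWM)) (c := c) fun v => ⟨v, ?_⟩)))
    obtain ⟨u, hu⟩ := hsurj v
    rw [mul_act, mul_act]
    have h0 : P (ψ c) (((W⁻¹ : GL (Fin k × Fin l) F) : Matrix (Fin k × Fin l) (Fin k × Fin l) F) *ᵥ tp v c) = 0 := by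
      rw [← hu, hWN, hPψ]
      simp only [hNdef, eichN, LinearMap.add_apply, LinearMap.smul_apply, SOp_apply, map_add, map_smul,
        Pf_tp H₂.s, (hyc x).1, hc.2, zero_smul, smul_zero, add_zero]
    rw [xr_act (hψb c hc.2), h0, map_zero, add_zero, act_inv_act]

  have main : ∀ r, r ≤ 2 → ∀ g ∈ M, ∀ b b', Iso f₂ b → Iso f₂ b' →
      Module.finrank F (LinearMap.range (blockT g b (ψ b) b' (ψ b'))) ≤ r →
      g ∈ Cfsg.Geo.kroneckerSubgroup k l F := by
    intro r
    induction r using Nat.strong_induction_on with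
    | _ r ih =>
    intro hr2 g hg b c hb hc hT
    by_contra hgk
    set G := Matrix.toLin' (g : Matrix (Fin k × Fin l) (Fin k × Fin l) F) with hG
    set y := g * xr k b (ψ b) * g⁻¹ with hy
    have hyM : y ∈ M := M.mul_mem (M.mul_mem hg (hxM b hb)) (M.inv_mem hg)
    set y₁ := y * xr k c (ψ c) * y⁻¹ with hy₁
    have hy₁M : y₁ ∈ M := M.mul_mem (M.mul_mem hyM (hxM c hc)) (M.inv_mem hyM)
    have hy₁k : y₁ ∉ Cfsg.Geo.kroneckerSubgroup k l F := fun h => hgk (hback g hg b hb (hback y hyM c hc h))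
    have hyinv : ∀ u, ((y⁻¹ : GL (Fin k × Fin l) F) : Matrix (Fin k × Fin l) (Fin k × Fin l) F) *ᵥ u =
        u - G (J b (P (ψ b) (((g⁻¹ : GL (Fin k × Fin l) F) : Matrix (Fin k × Fin l) (Fin k × Fin l) F) *ᵥ u))) := by
      intro u
      apply act_injective y
      show (y : Matrix (Fin k × Fin l) (Fin k × Fin l) F) *ᵥ _ = (y : Matrix (Fin k × Fin l) (Fin k × Fin l) F) *ᵥ _
      rw [act_inv_act, hy, mul_act, mul_act, Matrix.mulVec_sub, hG, Matrix.toLin'_apply, inv_act_act,
        xr_act (hψb b hb.2), map_sub, J_apply b (P (ψ b) _), P_tp, hψb b hb.2, zero_smul, sub_zero]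
      simp only [J_apply, Matrix.mulVec_add, Matrix.mulVec_sub, act_inv_act]
      abel
    set T := blockT g b (ψ b) c (ψ c) with hTdef
    set K := LinearMap.ker T
    have hfix : ∀ v ∈ K, (y₁ : Matrix (Fin k × Fin l) (Fin k × Fin l) F) *ᵥ tp v c = tp v c := by
      intro v hv
      have hv' : T v = 0 := hv
      rw [hy₁, mul_act, mul_act, xr_act (hψb c hc.2), hyinv, map_sub, P_tp, hψb c hc.2, zero_smul, zero_sub]
      have e : P (ψ c) (G (J b (P (ψ b) (((g⁻¹ : GL (Fin k × Fin l) F) : Matrix (Fin k × Fin l) (Fin k × Fin l) F) *ᵥ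
          tp v c)))) = 0 := by
        rw [← hv', hTdef, blockT]
        simp [hG, Matrix.toLin'_apply, J_apply]
      rw [e, neg_zero, map_zero, add_zero, ← hyinv, act_inv_act]
    have hK : Module.finrank F (LinearMap.range T) + Module.finrank F K = k := by
      rw [LinearMap.finrank_range_add_finrank_ker, Module.finrank_fin_fun]
    rcases Nat.lt_or_ge (Module.finrank F (LinearMap.range T)) r with hlt | hge
    · exact hgk (ih _ hlt (by omega) g hg b c hb hc le_rfl)
    exact hy₁k (fixed r hr2 (fun r' hr' => ih r' hr' (by omega)) y₁ hy₁M c hc K (by omega) hfix)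
  -- a hermitian operator on a totally isotropic plane with singular block
  intro g hg
  by_contra hgk
  obtain ⟨b, hb, -⟩ := H₂.exists_iso_perp (m := 0) (by omega) Fin.elim0
  obtain ⟨e, he, hbe, heb⟩ := H₂.exists_partner hb
  obtain ⟨a, ha, ha'⟩ := H₂.exists_iso_perp (m := 2) (by omega) ![b, e]
  have hab : f₂ a b = 0 := ha' 0
  have hae : f₂ a e = 0 := ha' 1
  have hne : ∀ t : F, a ≠ t • b := fun t e0 => ha.1 (by
    have h1 := hae
    rw [e0, H₂.s.smul_left, hbe, mul_one] at h1
    rw [e0, h1, zero_smul])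
  obtain ⟨ω, hω⟩ := H₂.ne
  let F₀ : Subfield F := RingHom.eqLocusField σ (RingHom.id F)
  haveI : Fintype F₀ := Fintype.ofFinite F₀
  have hF₀ : ∀ x : F₀, σ (x : F) = x := fun x => x.2
  let μv : (Fin 4 → F₀) → F := fun x => (x 0 : F) + ω * (x 1 : F)
  let sv : (Fin 4 → F₀) → F := fun x => z * (x 2 : F)
  let tv : (Fin 4 → F₀) → F := fun x => z * (x 3 : F)
  have hsk : ∀ x : F₀, σ (z * (x : F)) = -(z * (x : F)) := fun x => by rw [map_mul, hz, hF₀, neg_mul]
  let N : (Fin 4 → F₀) → Module.End F (Fin k × Fin l → F) := fun x =>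
    eichN f₂ k b (μv x • a) (sv x) + eichN f₂ k a 0 (tv x)
  have hc : Iso f₂ b := hb
  set Y := Matrix.toLin' ((g⁻¹ : GL (Fin k × Fin l) F) : Matrix (Fin k × Fin l) (Fin k × Fin l) F) with hY
  let w : Fin k → Fin k × Fin l → F := fun i => Y (tp (Pi.single i 1) b)
  let A : (Fin l → F) → (Fin l → F) → Fin k → Fin k → F := fun p q i j =>
    f₁ (Pf f₂ k p (w i)) (Pf f₂ k q (w j))
  let S : Fin 4 → Matrix (Fin k) (Fin k) F := fun v => Matrix.of fun i j =>
    z⁻¹ * ![A b a i j - A a b i j, ω * A b a i j - σ ω * A a b i j, z * A b b i j, z * A a a i j] v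
  have hsm : ∀ (t : F) (p q : Fin k × Fin l → F), tForm σ f₁ f₂ (t • p) q = t * tForm σ f₁ f₂ p q :=
    tForm_smul_left H₁ H₂
  have hkey : ∀ (x : Fin 4 → F₀) (i j : Fin k),
      z⁻¹ * tForm σ f₁ f₂ (N x (w i)) (w j) = ∑ v, (x v : F) * S v i j := by
    intro x i j
    have e : ∀ (p q : Fin l → F) (u u' : Fin k × Fin l → F),
        tForm σ f₁ f₂ (tp (Pf f₂ k p u) q) u' = f₁ (Pf f₂ k p u) (Pf f₂ k q u') := fun p q u u' => by
      rw [tForm_left H₂.s H₁.s, tForm_right H₂.s H₁.s, one_mul, one_mul, H₁.conj_f]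
    have hP : ∀ (s : F) (p : Fin l → F) (u : Fin k × Fin l → F),
        Pf f₂ k (s • p) u = σ s • Pf f₂ k p u := fun s p u => funext fun i => by
      simp only [Pf_apply H₂.s, Pi.smul_apply, smul_eq_mul, H₂.s.smul_right]
    have h0 : ∀ u, Pf f₂ k (0 : Fin l → F) u = 0 := fun u => funext fun i => by
      rw [Pf_apply H₂.s, H₂.s.zero_right, Pi.zero_apply]
    simp only [N, eichN, LinearMap.add_apply, LinearMap.smul_apply, SOp_apply, LinearMap.neg_apply,
      Module.End.one_apply, h0, tp_zero_right, neg_zero, tp_zero_left, add_zero, zero_add]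
    simp only [hP, show ∀ u : Fin k → F, tp (-u) b = (-1 : F) • tp u b from fun u => by rw [← tp_smul_left]; simp,
      tp_smul_left]
    simp only [tForm_add_left, hsm, e, hP, H₁.s.smul_left, H₁.s.smul_right, Fin.sum_univ_four, S, A,
      Matrix.of_apply, Matrix.cons_val_zero, Matrix.cons_val_one, Matrix.cons_val_two, Matrix.cons_val_three,
      μv, sv, tv, map_add, map_mul, hF₀, H₂.s.invol, Matrix.cons_val, Matrix.tail_cons, Matrix.head_cons]
    ring
  let Sx : (Fin 4 → F₀) → Matrix (Fin k) (Fin k) F := fun x => Matrix.of fun i j =>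
    z⁻¹ * tForm σ f₁ f₂ (N x (w i)) (w j)
  let D : MvPolynomial (Fin 4) F :=
    (Matrix.of fun i j => ∑ v, MvPolynomial.C (S v i j) * MvPolynomial.X v).det
  have hDev : ∀ x : Fin 4 → F₀, MvPolynomial.eval (fun v => (x v : F)) D = (Sx x).det := fun x => by
    rw [RingHom.map_det]
    congr 1
    ext i j
    simp only [Sx, Matrix.of_apply, hkey]
    simp [Matrix.map_apply, mul_comm]
  have hDfix : ∀ x, σ (Sx x).det = (Sx x).det := fun x => by
    rw [RingHom.map_det, ← Matrix.det_transpose (Sx x)]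
    congr 1
    ext i j
    simp only [RingHom.mapMatrix_apply, Matrix.map_apply, Matrix.transpose_apply, Sx, Matrix.of_apply, map_mul,
      map_inv₀, hz, inv_neg, N, LinearMap.add_apply, tForm_add_left, map_add]
    rw [eichN_skew H₁ H₂ (hsk (x 2)) (w j), eichN_skew H₁ H₂ (hsk (x 3)) (w j)]
    ring
  have hDdeg : D.totalDegree ≤ k := by
    simp only [D, Matrix.det_apply]
    refine MvPolynomial.totalDegree_finsetSum_le fun p _ => ?_
    refine (MvPolynomial.totalDegree_smul_le _ _).trans ?_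
    refine (MvPolynomial.totalDegree_finset_prod _ _).trans ?_
    refine (Finset.sum_le_card_nsmul _ _ 1 fun i _ => ?_).trans (by simp)
    simp only [Matrix.of_apply]
    refine MvPolynomial.totalDegree_finsetSum_le fun v _ => ?_
    refine (MvPolynomial.totalDegree_mul _ _).trans ?_
    simp
  set E := Fintype.card F₀ - 1 with hE
  have hEpos : 0 < E := by
    have := Fintype.one_lt_card (α := F₀)
    omega
  have hsum := sum_subfield_eval (F₀ := F₀) (1 - D ^ E) (by
    refine lt_of_le_of_lt ((MvPolynomial.totalDegree_sub _ _).trans (max_le (by simp)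
      ((MvPolynomial.totalDegree_pow _ _).trans (Nat.mul_le_mul_left _ hDdeg)))) ?_
    rw [Fintype.card_fin, ← hE]
    exact Nat.mul_lt_mul_of_pos_left (by omega) hEpos)
  have hind : ∀ a : F, σ a = a → a ≠ 0 → a ^ E = 1 := fun a ha ha0 => by
    have h := FiniteField.pow_card_sub_one_eq_one (⟨a, ha⟩ : F₀) (fun e => ha0 (congrArg Subtype.val e))
    exact congrArg Subtype.val h
  have hval : ∀ x : Fin 4 → F₀, MvPolynomial.eval (fun v => (x v : F)) (1 - D ^ E) =
      if (Sx x).det = 0 then 1 else 0 := fun x => by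
    rw [map_sub, map_pow, map_one, hDev]
    by_cases h1 : (Sx x).det = 0
    · simp [h1, hEpos.ne']
    · simp [h1, hind _ (hDfix x) h1]
  obtain ⟨x, hx0, hdet⟩ : ∃ x, x ≠ 0 ∧ (Sx x).det = 0 := by
    by_contra! h0
    rw [Finset.sum_congr rfl (fun x _ => hval x), Finset.sum_eq_single 0 (fun x _ hx => if_neg (h0 x hx))
      (by simp)] at hsum
    have e2 : Sx 0 = 0 := by
      ext i j
      simp [Sx, hkey]
    haveI : Nonempty (Fin k) := ⟨⟨0, C.hk⟩⟩
    rw [if_pos (by rw [e2, Matrix.det_zero])] at hsum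
    exact one_ne_zero hsum
  set μ := μv x
  set s := sv x
  set t := tv x
  have hs : σ s = -s := hsk _
  have ht : σ t = -t := hsk _
  have hba : f₂ b a = 0 := H₂.s.symm_zero hab
  have hμb : f₂ (μ • a) b = 0 := by rw [H₂.s.smul_left, hab, mul_zero]
  have hμμ : f₂ (μ • a) (μ • a) = 0 := by rw [H₂.s.smul_left, H₂.s.smul_right, ha.2, mul_zero, mul_zero]
  have hμi : μ • a ≠ 0 → ∀ r : F, μ • a ≠ r • b := fun h0 r e0 => by
    have hμ0 : μ ≠ 0 := fun e1 => h0 (by rw [e1, zero_smul])
    exact hne (μ⁻¹ * r) (by rw [mul_smul, ← e0, inv_smul_smul₀ hμ0])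
  have e1 := el_eichN H₁ H₂ C hb hμμ hμb hs hμi
  have e2 := el_eichN H₁ H₂ C ha (H₂.s.zero_left _) (H₂.s.zero_left _) ht (fun h0 => absurd rfl h0)
  have hμP : ∀ u, Pf f₂ k (μ • a) u = σ μ • Pf f₂ k a u := fun u => funext fun i => by
    simp only [Pf_apply H₂.s, Pi.smul_apply, smul_eq_mul, H₂.s.smul_right]
  have hP0 : ∀ u, Pf f₂ k (0 : Fin l → F) u = 0 := fun u => funext fun i => by
    rw [Pf_apply H₂.s, H₂.s.zero_right, Pi.zero_apply]
  have hPN : ∀ u, Pf f₂ k b (N x u) = 0 ∧ Pf f₂ k a (N x u) = 0 := fun u => by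
    constructor <;>
    simp only [N, eichN, LinearMap.add_apply, LinearMap.smul_apply, SOp_apply, map_add, map_smul,
      Pf_tp H₂.s, H₂.s.smul_left, H₂.s.zero_left, hb.2, ha.2, hab, hba, mul_zero, zero_smul, smul_zero, add_zero]
  have hNN : N x * N x = 0 := LinearMap.ext fun u => by
    rw [Module.End.mul_apply, LinearMap.zero_apply]
    obtain ⟨p1, p2⟩ := hPN u
    generalize N x u = u' at p1 p2
    simp only [N, eichN, LinearMap.add_apply, LinearMap.smul_apply, SOp_apply, LinearMap.neg_apply,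
      Module.End.one_apply, hP0, show Pf f₂ k (μv x • a) u' = σ μ • Pf f₂ k a u' from hμP u', p1, p2, smul_zero,
      neg_zero, tp_zero_left, add_zero]
  have hNel : El M (N x) := e1.add e2 (LinearMap.ext fun u => by
    simp only [eichN, Module.End.mul_apply, LinearMap.add_apply, LinearMap.smul_apply, SOp_apply, map_add, map_smul,
      LinearMap.neg_apply, Module.End.one_apply, Pf_tp H₂.s, hμP, hP0, H₂.s.zero_left, H₂.s.smul_left, H₂.s.smul_right, hb.2, ha.2, hab, hba, map_zero, mul_zero, zero_mul,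
      tp_zero_left, tp_zero_right, zero_smul, smul_zero, add_zero, neg_zero, LinearMap.zero_apply])
  obtain ⟨h, hhM, hhN⟩ := hNel
  have hhu : ∀ u, (h : Matrix (Fin k × Fin l) (Fin k × Fin l) F) *ᵥ u = u + N x u := fun u => by
    rw [← Matrix.toLin'_apply, hhN, LinearMap.add_apply, Module.End.one_apply]
  have hN2 : ∀ u, N x (N x u) = 0 := fun u => LinearMap.congr_fun hNN u
  set y := g * h * g⁻¹ with hy
  have hyM : y ∈ M := M.mul_mem (M.mul_mem hg hhM) (M.inv_mem hg)
  set y₁ := y * xr k b (ψ b) * y⁻¹ with hy₁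
  have hy₁M : y₁ ∈ M := M.mul_mem (M.mul_mem hyM (hxM b hc)) (M.inv_mem hyM)
  have hyinv : ∀ u, ((y⁻¹ : GL (Fin k × Fin l) F) : Matrix (Fin k × Fin l) (Fin k × Fin l) F) *ᵥ u =
      u - (g : Matrix (Fin k × Fin l) (Fin k × Fin l) F) *ᵥ N x (Y u) := by
    intro u
    apply act_injective y
    show (y : Matrix (Fin k × Fin l) (Fin k × Fin l) F) *ᵥ _ = (y : Matrix (Fin k × Fin l) (Fin k × Fin l) F) *ᵥ _
    rw [act_inv_act, hy, hY, mul_act, mul_act, Matrix.mulVec_sub, inv_act_act, Matrix.toLin'_apply, hhu]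
    simp only [map_sub, Matrix.mulVec_add, Matrix.mulVec_sub, hN2, map_zero, act_inv_act, sub_zero]
    abel
  set X : Module.End F (Fin k → F) :=
    (Pf f₂ k b).comp ((Matrix.toLin' (g : Matrix (Fin k × Fin l) (Fin k × Fin l) F)).comp
      ((N x).comp (Y.comp (J b)))) with hX
  have hXf : ∀ v v', f₁ (X v) v' = tForm σ f₁ f₂ (N x (Y (tp v b))) (Y (tp v' b)) := fun v v' => by
    simp only [hX, hY, LinearMap.comp_apply, Matrix.toLin'_apply, J_apply]
    rw [← tForm_right H₂.s H₁.s]
    conv_lhs => rw [← act_inv_act g (tp v' b)]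
    rw [C.pres g hg]
  obtain ⟨r, hr0, hr⟩ := Matrix.exists_vecMul_eq_zero_iff.2 hdet
  have hXr : X r = 0 := H₁.s.nd _ fun u => by
    have hu : u = ∑ j, u j • Pi.single j 1 := by
      funext i; simp [Finset.sum_apply, Pi.single_apply]
    have hrr : r = ∑ j, r j • Pi.single j 1 := by
      funext i; simp [Finset.sum_apply, Pi.single_apply]
    rw [hu, H₁.s.sum_right]
    refine Finset.sum_eq_zero fun j _ => ?_
    rw [H₁.s.smul_right, hrr, map_sum, H₁.s.sum_left]
    refine mul_eq_zero_of_right _ ?_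
    have h := congrFun hr j
    simp only [Matrix.vecMul, dotProduct, Sx, Matrix.of_apply, Pi.zero_apply] at h
    rw [show ∑ i, r i * (z⁻¹ * tForm σ f₁ f₂ (N x (w i)) (w j)) =
      z⁻¹ * ∑ i, f₁ (X (r i • (Pi.single i (1 : F) : Fin k → F))) (Pi.single j 1) by
      rw [Finset.mul_sum]
      exact Finset.sum_congr rfl fun i _ => by rw [map_smul, H₁.s.smul_left, hXf]; ring] at h
    exact (mul_eq_zero.1 h).resolve_left (inv_ne_zero hz0)
  set K := LinearMap.ker X
  have hKpos : 0 < Module.finrank F K := by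
    by_contra h0
    have hK0 : K = ⊥ := Submodule.finrank_eq_zero.1 (by omega)
    exact hr0 ((Submodule.mem_bot F).1 (hK0 ▸ (LinearMap.mem_ker.2 hXr : r ∈ K)))
  have hKle : Module.finrank F K ≤ k := by
    have := Submodule.finrank_le K
    rwa [Module.finrank_fin_fun] at this
  have hfix : ∀ v ∈ K, (y₁ : Matrix (Fin k × Fin l) (Fin k × Fin l) F) *ᵥ tp v b = tp v b := by
    intro v hv
    have hv' : X v = 0 := hv
    rw [hy₁, mul_act, mul_act, xr_act (hψb b hc.2), hyinv, map_sub, P_tp, hψb b hc.2, zero_smul, zero_sub, hPψ]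
    have e : Pf f₂ k b ((g : Matrix (Fin k × Fin l) (Fin k × Fin l) F) *ᵥ N x (Y (tp v b))) = 0 := by
      rw [← hv', hX]
      simp [Matrix.toLin'_apply, J_apply]
    rw [e, smul_zero, neg_zero, map_zero, add_zero, ← hyinv, act_inv_act]
  have hy₁k := fixed (k - Module.finrank F K) (by omega) (fun r' hr' => main r' (by omega)) y₁ hy₁M b hc K
    (by omega) hfix
  have hyk := hback y hyM b hc hy₁k
  have hyN : Matrix.toLin' (y : Matrix (Fin k × Fin l) (Fin k × Fin l) F) = 1 +
      Matrix.toLin' (g : Matrix (Fin k × Fin l) (Fin k × Fin l) F) * N x * Y := by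
    refine LinearMap.ext fun u => ?_
    simp only [hy, hY, LinearMap.add_apply, Module.End.mul_apply, Module.End.one_apply, Matrix.toLin'_apply,
      mul_act, hhu, Matrix.mulVec_add, act_inv_act]
  obtain ⟨a', ha', hcomm⟩ := exists_commuting H₁ H₂ C hl hyM hyk hyN (by
    refine LinearMap.ext fun u => ?_
    simp only [hY, Module.End.mul_apply, Matrix.toLin'_apply, inv_act_act, hN2, Matrix.mulVec_zero,
      LinearMap.zero_apply]) (z := z)
  rw [← hxr] at hcomm
  set W := g⁻¹ * xr k a' (ψ a') * g with hW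
  have hWM : W ∈ M := M.mul_mem (M.mul_mem (M.inv_mem hg) (hxM a' ha')) hg
  have hWh : W * h = h * W := by
    have e : h = g⁻¹ * y * g := by rw [hy]; group
    rw [e, hW]
    calc g⁻¹ * xr k a' (ψ a') * g * (g⁻¹ * y * g) = g⁻¹ * (xr k a' (ψ a') * y) * g := by group
      _ = _ := by rw [← hcomm]; group
  have hWN : ∀ u, ((W⁻¹ : GL (Fin k × Fin l) F) : Matrix (Fin k × Fin l) (Fin k × Fin l) F) *ᵥ N x u =
      N x (((W⁻¹ : GL (Fin k × Fin l) F) : Matrix (Fin k × Fin l) (Fin k × Fin l) F) *ᵥ u) := by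
    intro u
    have e : W⁻¹ * h = h * W⁻¹ := by
      rw [eq_mul_inv_iff_mul_eq, mul_assoc, ← hWh, inv_mul_cancel_left]
    have h1 := congrArg (fun G : GL (Fin k × Fin l) F => (G : Matrix (Fin k × Fin l) (Fin k × Fin l) F) *ᵥ u) e
    simp only [mul_act, hhu, Matrix.mulVec_add] at h1
    exact add_left_cancel h1
  let Op : (Fin l → F) → Fin l → F := fun p =>
    f₂ p b • μ • a - (σ μ * f₂ p a) • b + (s * f₂ p b) • b + (t * f₂ p a) • a
  have hNtp : ∀ v p, N x (tp v p) = tp v (Op p) := fun v p => by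
    simp only [N, LinearMap.add_apply, eichN_tp H₁ H₂, Op, ← tp_add_right]
    congr 1
    rw [H₂.s.zero_right, H₂.s.smul_right, zero_smul, smul_zero, sub_zero, zero_add]
  obtain ⟨p, hp⟩ : ∃ p, Op p ≠ 0 := by
    by_contra! h0
    obtain ⟨e', he'⟩ : ∃ e', f₂ e' a = 1 := by
      obtain ⟨e', -, -, h⟩ := H₂.exists_partner ha
      exact ⟨e', h⟩
    have li : ∀ r r' : F, r • a + r' • b = 0 → r = 0 ∧ r' = 0 := fun r r' h => by
      have hr : r = 0 := by
        by_contra hr
        refine hne (-(r⁻¹ * r')) ?_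
        rw [← inv_smul_smul₀ hr a, eq_neg_of_add_eq_zero_left h]
        module
      refine ⟨hr, ?_⟩
      rw [hr, zero_smul, zero_add] at h
      exact (smul_eq_zero.1 h).resolve_right hb.1
    have h1 := h0 e
    have h2 := h0 e'
    simp only [Op, heb, H₂.s.symm_zero hae, he'] at h1 h2
    obtain ⟨hm, hs0⟩ := li μ s (by rw [← h1]; module)
    obtain ⟨ht0, -⟩ := li (f₂ e' b * μ + t) (s * f₂ e' b - σ μ) (by rw [← h2]; module)
    rw [hm, mul_zero, zero_add] at ht0
    refine hx0 (funext fun v => Subtype.ext ?_)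
    have hx2 : (x 2 : F) = 0 := (mul_eq_zero.1 hs0).resolve_left hz0
    have hx3 : (x 3 : F) = 0 := (mul_eq_zero.1 ht0).resolve_left hz0
    have hm' : (x 0 : F) + ω * (x 1 : F) = 0 := hm
    have hm'' := congrArg σ hm'
    rw [map_add, map_mul, hF₀, hF₀, map_zero] at hm''
    have hx1 : (x 1 : F) = 0 :=
      (mul_eq_zero.1 (show (σ ω - ω) * (x 1 : F) = 0 by linear_combination hm'' - hm')).resolve_left
        (sub_ne_zero.2 hω)
    rw [hx1, mul_zero, add_zero] at hm'
    fin_cases v <;> assumption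
  have hOp : Iso f₂ (Op p) := ⟨hp, by
    simp only [Op, H₂.s.add_left, H₂.s.add_right, H₂.s.sub_left, H₂.s.sub_right, H₂.s.smul_left, H₂.s.smul_right,
      hb.2, ha.2, hab, hba, mul_zero, add_zero, sub_zero]⟩
  have hk' : g⁻¹ ∈ Cfsg.Geo.kroneckerSubgroup k l F := by
    refine hback g⁻¹ (M.inv_mem hg) a' ha' ?_
    rw [inv_inv, ← hW]
    refine hback W hWM (Op p) hOp (C.mem_kron K₁ K₂ hOp
      (M.mul_mem (M.mul_mem hWM (hxM _ hOp)) (M.inv_mem hWM)) (c := Op p) fun v => ⟨v, ?_⟩)
    rw [mul_act, mul_act]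
    have h0 : P (ψ (Op p)) (((W⁻¹ : GL (Fin k × Fin l) F) : Matrix (Fin k × Fin l) (Fin k × Fin l) F) *ᵥ
        tp v (Op p)) = 0 := by
      rw [← hNtp, hWN, hPψ]
      obtain ⟨p1, p2⟩ := hPN (((W⁻¹ : GL (Fin k × Fin l) F) : Matrix (Fin k × Fin l) (Fin k × Fin l) F) *ᵥ tp v p)
      generalize N x _ = u' at p1 p2
      rw [show Pf f₂ k (Op p) u' = 0 from funext fun i => by
        have q1 := congrFun p1 i
        have q2 := congrFun p2 i
        simp only [Pf_apply H₂.s, Pi.zero_apply] at q1 q2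
        simp only [Pf_apply H₂.s, Pi.zero_apply, Op, H₂.s.add_right, H₂.s.sub_right, H₂.s.smul_right, q1, q2,
          mul_zero, add_zero, sub_zero], smul_zero]
    rw [xr_act (hψb _ hOp.2), h0, map_zero, add_zero, act_inv_act]
  exact hgk (inv_inv g ▸ Subgroup.inv_mem _ hk')

end Cfsg.Agent.TensorUnitLow74
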