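import Mathlib
import Cfsg.Agent.Lib.OrthUnitaryMaximal

/-!
Overgroups in `SU_n(q)` of the stabiliser of an orthogonal decomposition: coordinates, monomial
elements, elementary facts on transvection centres and on traces of elements of given norm.
-/

set_option autoImplicit false
set_option linter.unusedSectionVars false

namespace Cfsg.Agent.UnitaryFrame84

open scoped Matrix MatrixGroups
open Cfsg.Agent.OrthUnitaryHerm
open Cfsg.Agent.OrthUnitaryTransvection
open Cfsg.Agent.OrthUnitarySubspaces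
open Cfsg.Agent.OrthUnitaryMaximal

variable {F : Type*} [Field F] [Fintype F] {q n : ℕ}

/-- The standard basis vector. -/
abbrev e (a : Fin n) : Fin n → F := Pi.single a 1

/-- `g` permutes the parts of the partition given by `β`. -/
def Pres {t : ℕ} (β : Fin n → Fin t) (g : SU n F q) : Prop :=
  ∀ a b i j, β a = β b → act g (e a) i ≠ 0 → act g (e b) j ≠ 0 → β i = β j

/-- Monomial elements. -/
def IsMon (g : SU n F q) : Prop := Pres id g

/-! ### Monomial elements -/

/-- A monomial element of `SU`. -/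
def monEl (π : Equiv.Perm (Fin n)) (d : Fin n → F) (hd : ∀ i, d i ^ (q + 1) = 1)
    (hdet : (Equiv.Perm.sign π : F) * ∏ i, d i = 1) : SU n F q :=
  mkSU (monMat π d) (by rw [det_monMat, hdet]) (isU_monMat π hd)

theorem monEl_act (π : Equiv.Perm (Fin n)) (d : Fin n → F) (hd : ∀ i, d i ^ (q + 1) = 1)
    (hdet : (Equiv.Perm.sign π : F) * ∏ i, d i = 1) (v : Fin n → F) (i : Fin n) :
    act (monEl π d hd hdet) v i = d (π i) * v (π i) :=
  monMat_mulVec π d v i

theorem monEl_pres {t : ℕ} {β : Fin n → Fin t} (π : Equiv.Perm (Fin n)) (d : Fin n → F)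
    (hd : ∀ i, d i ^ (q + 1) = 1) (hdet : (Equiv.Perm.sign π : F) * ∏ i, d i = 1)
    (hπ : ∀ a b, β (π a) = β (π b) → β a = β b) : Pres β (monEl π d hd hdet) := by
  intro a b i j hab hi hj
  have hi' : π i = a := by
    by_contra h
    exact hi (by simp [monEl_act, e, Pi.single_eq_of_ne h])
  have hj' : π j = b := by
    by_contra h
    exact hj (by simp [monEl_act, e, Pi.single_eq_of_ne h])
  exact hπ i j (by rw [hi', hj', hab])

/-- A diagonal element of `SU`. -/
def diagEl (d : Fin n → F) (hd : ∀ i, d i ^ (q + 1) = 1) (hp : ∏ i, d i = 1) : SU n F q :=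
  monEl 1 d hd (by simp [hp])

theorem diagEl_act (d : Fin n → F) (hd : ∀ i, d i ^ (q + 1) = 1) (hp : ∏ i, d i = 1)
    (v : Fin n → F) (i : Fin n) : act (diagEl d hd hp) v i = d i * v i :=
  monEl_act 1 d hd _ v i

theorem diagEl_pres {t : ℕ} (β : Fin n → Fin t) (d : Fin n → F) (hd : ∀ i, d i ^ (q + 1) = 1)
    (hp : ∏ i, d i = 1) : Pres β (diagEl d hd hp) :=
  monEl_pres 1 d hd _ fun _ _ h => h

theorem normOne_ne_zero {x : F} (hx : x ^ (q + 1) = 1) : x ≠ 0 := by
  rintro rfl
  simp [zero_pow (Nat.succ_ne_zero q)] at hx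

theorem normOne_inv {x : F} (hx : x ^ (q + 1) = 1) : x⁻¹ ^ (q + 1) = 1 := by
  rw [inv_pow, hx, inv_one]

theorem normOne_pow_q {x : F} (hx : x ^ (q + 1) = 1) : x ^ q = x⁻¹ := by
  rw [pow_succ] at hx
  exact eq_inv_of_mul_eq_one_left hx

/-- Multiply coordinate `a` by `τ` and coordinate `b` by `τ⁻¹`. -/
theorem exists_diag2 {a b : Fin n} (hab : a ≠ b) {τ : F} (hτ : τ ^ (q + 1) = 1) :
    ∃ h : SU n F q, (∀ {t : ℕ} (β : Fin n → Fin t), Pres β h) ∧
      ∀ v i, act h v i = (if i = a then τ else if i = b then τ⁻¹ else 1) * v i := by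
  let d : Fin n → F := fun i => if i = a then τ else if i = b then τ⁻¹ else 1
  have hd : ∀ i, d i ^ (q + 1) = 1 := by
    intro i
    simp only [d]
    split_ifs
    · exact hτ
    · exact normOne_inv hτ
    · exact one_pow _
  have hp : ∏ i, d i = 1 := by
    rw [Finset.prod_eq_mul a b hab]
    · simp [d, hab.symm, mul_inv_cancel₀ (normOne_ne_zero hτ)]
    · intro c _ hc
      simp [d, hc.1, hc.2]
    · simp
    · simp
  exact ⟨diagEl d hd hp, fun β => diagEl_pres β d hd hp, diagEl_act d hd hp⟩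

/-- Multiply coordinates `a`, `b` by `τ`, `ρ`, compensating in coordinate `c`. -/
theorem exists_diag3 {a b c : Fin n} (hab : a ≠ b) (hac : a ≠ c) (hbc : b ≠ c) {τ ρ : F}
    (hτ : τ ^ (q + 1) = 1) (hρ : ρ ^ (q + 1) = 1) :
    ∃ h : SU n F q, (∀ {t : ℕ} (β : Fin n → Fin t), Pres β h) ∧
      ∀ v i, act h v i =
        (if i = a then τ else if i = b then ρ else if i = c then (τ * ρ)⁻¹ else 1) * v i := by
  let d : Fin n → F := fun i =>
    if i = a then τ else if i = b then ρ else if i = c then (τ * ρ)⁻¹ else 1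
  have hd : ∀ i, d i ^ (q + 1) = 1 := by
    intro i
    simp only [d]
    split_ifs
    · exact hτ
    · exact hρ
    · rw [inv_pow, mul_pow, hτ, hρ, mul_one, inv_one]
    · exact one_pow _
  have hp : ∏ i, d i = 1 := by
    rw [← Finset.prod_subset (Finset.subset_univ {a, b, c})]
    · rw [Finset.prod_insert (by simp [hab, hac]), Finset.prod_insert (by simp [hbc]),
        Finset.prod_singleton]
      simp only [d, hab.symm, hac.symm, hbc.symm, if_true, if_false]
      rw [← mul_assoc, mul_inv_cancel₀ (mul_ne_zero (normOne_ne_zero hτ) (normOne_ne_zero hρ))]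
    · intro i _ hi
      simp only [Finset.mem_insert, Finset.mem_singleton, not_or] at hi
      simp [d, hi.1, hi.2.1, hi.2.2]
  exact ⟨diagEl d hd hp, fun β => diagEl_pres β d hd hp, diagEl_act d hd hp⟩

/-! ### Centres -/

theorem centre_comb (hF : Fintype.card F = q ^ 2) {M : Subgroup (SU n F q)} {z z' : Fin n → F}
    (hz : Centre M z) (hz' : Centre M z') {c : F} (hc : c + c ^ q = 0) :
    Centre M (z' + (c * hermForm n F q z' z) • z) := by
  have h := centre_act hF ((centre_iff hF hz.1).1 hz c hc) hz'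
  rwa [tv_act] at h

/-- The difference of two centres with a skew inner product is a centre. -/
theorem centre_diff (hF : Fintype.card F = q ^ 2) {M : Subgroup (SU n F q)} {z z' : Fin n → F}
    (hz : Centre M z) (hz' : Centre M z') (h0 : hermForm n F q z' z ≠ 0)
    (hs : hermForm n F q z' z + hermForm n F q z' z ^ q = 0) : Centre M (z' - z) := by
  have h := centre_comb hF hz hz' (c := -(hermForm n F q z' z)⁻¹) (by
    rw [neg_pow_q hF, inv_pow, show hermForm n F q z' z ^ q = -hermForm n F q z' z by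
      linear_combination hs, inv_neg]
    ring)
  rwa [neg_mul, inv_mul_cancel₀ h0, neg_one_smul, ← sub_eq_add_neg] at h

theorem tv_mul_tv (hF : Fintype.card F = q ^ 2) {v : Fin n → F} (hv : hermForm n F q v v = 0)
    {c c' : F} (hc : c + c ^ q = 0) (hc' : c' + c' ^ q = 0) :
    tv hF v c hv hc * tv hF v c' hv hc'
      = tv hF v (c + c') hv (by rw [add_pow_q hF]; linear_combination hc + hc') := by
  refine su_ext fun x => ?_
  rw [act_mul, tv_act, tv_act, tv_act, herm_add_left, herm_smul_left, hv]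
  module

/-- A centre is detected by more than half of the skew parameters. -/
theorem centre_of_many (hF : Fintype.card F = q ^ 2) {M : Subgroup (SU n F q)} {z : Fin n → F}
    (hz : hermForm n F q z z = 0) (S : Finset F) (hSc : q < 2 * S.card)
    (hS : ∀ c ∈ S, ∃ hc : c + c ^ q = 0, tv hF z c hz hc ∈ M) : Centre M z := by
  classical
  let K : AddSubgroup F :=
    { carrier := {c | c + c ^ q = 0}
      add_mem' := fun {a b} ha hb => by
        simp only [Set.mem_setOf_eq] at ha hb ⊢
        rw [add_pow_q hF]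
        linear_combination ha + hb
      zero_mem' := by show (0 : F) + 0 ^ q = 0; rw [zero_pow_q hF, add_zero]
      neg_mem' := fun {a} ha => by
        simp only [Set.mem_setOf_eq] at ha ⊢
        rw [neg_pow_q hF]
        linear_combination -ha }
  have h0 : (0 : F) + 0 ^ q = 0 := by rw [zero_pow_q hF, add_zero]
  have htv0 : tv hF z 0 hz h0 = 1 := su_ext fun x => by
    rw [tv_act, act_one, zero_mul, zero_smul, add_zero]
  let A : AddSubgroup F :=
    { carrier := {c | ∃ hc : c + c ^ q = 0, tv hF z c hz hc ∈ M}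
      add_mem' := fun {a b} ⟨ha, ha'⟩ ⟨hb, hb'⟩ =>
        ⟨K.add_mem ha hb, tv_mul_tv hF hz ha hb ▸ M.mul_mem ha' hb'⟩
      zero_mem' := ⟨h0, htv0 ▸ M.one_mem⟩
      neg_mem' := fun {a} ⟨ha, ha'⟩ => by
        refine ⟨K.neg_mem ha, ?_⟩
        have h1 : tv hF z a hz ha * tv hF z (-a) hz (K.neg_mem ha) = 1 :=
          su_ext fun x => by
            rw [tv_mul_tv, tv_act, act_one, add_neg_cancel, zero_mul, zero_smul, add_zero]
        rw [eq_inv_of_mul_eq_one_right h1]
        exact M.inv_mem ha' }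
  have hAK : A ≤ K := fun c hc => hc.1
  have hdvd : Nat.card A ∣ Nat.card K := AddSubgroup.card_dvd_of_le hAK
  have hKc : Nat.card K = q := OrthUnitaryIsotropic.card_skew_one hF
  have hle : S.card ≤ Nat.card A := by
    calc S.card = Nat.card S := (Nat.card_eq_finsetCard S).symm
      _ ≤ Nat.card A := Nat.card_le_card_of_injective (fun x => ⟨x.1, hS x.1 x.2⟩)
          fun x y hxy => Subtype.ext (Subtype.ext_iff.1 hxy :)
  have heq : Nat.card A = q := by
    rw [hKc] at hdvd
    obtain ⟨m, hm⟩ := hdvd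
    rcases m with _ | _ | m
    · simp at hm; have := two_le_q hF; omega
    · linarith
    · exfalso
      have : 2 * Nat.card A ≤ q := by rw [hm]; nlinarith
      omega
  have hA : A = K := AddSubgroup.eq_of_le_of_card_ge hAK (by rw [heq, hKc])
  refine (centre_iff hF hz).2 fun c hc => ?_
  have hcA : c ∈ A := by rw [hA]; exact hc
  exact hcA.2

/-! ### Counting traces -/

/-- The elements of the fixed field. -/
noncomputable def fixedSet (q : ℕ) : Finset F :=
  letI := Classical.decEq F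
  Finset.univ.filter fun x => x ^ q = x

theorem mem_fixedSet {x : F} : x ∈ fixedSet q ↔ x ^ q = x := by simp [fixedSet]

theorem card_fixedSet_le (hF : Fintype.card F = q ^ 2) : (fixedSet q : Finset F).card ≤ q := by
  classical
  have hq := two_le_q hF
  let P : Polynomial F := Polynomial.X ^ q - Polynomial.X
  have hP : P ≠ 0 := FiniteField.X_pow_card_sub_X_ne_zero F hq
  have hd : P.natDegree = q := FiniteField.X_pow_card_sub_X_natDegree_eq F hq
  refine le_trans (le_trans (Finset.card_le_card fun x hx => ?_)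
    (le_trans (Multiset.toFinset_card_le P.roots) P.card_roots')) hd.le
  rw [Multiset.mem_toFinset, Polynomial.mem_roots hP]
  simp [P, sub_eq_zero, mem_fixedSet.1 hx]

/-- The elements of norm `C`. -/
noncomputable def normSet (q : ℕ) (C : F) : Finset F :=
  letI := Classical.decEq F
  Finset.univ.filter fun x => x ^ (q + 1) = C

theorem mem_normSet {x C : F} : x ∈ normSet q C ↔ x ^ (q + 1) = C := by simp [normSet]

theorem card_normSet (hF : Fintype.card F = q ^ 2) {C : F} (hC : C ^ q = C) (hC0 : C ≠ 0) :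
    (normSet q C).card = q + 1 := by
  classical
  have h := card_norm_fibre hF hC
  rw [if_neg hC0, Nat.card_eq_fintype_card, Fintype.card_subtype] at h
  rw [← h]
  simp [normSet]

/-- Traces of the elements of norm `C`. -/
noncomputable def traceSet (q : ℕ) (C : F) : Finset F :=
  letI := Classical.decEq F
  (normSet q C).image fun u => u + u ^ q

theorem mem_traceSet {T C : F} : T ∈ traceSet q C ↔ ∃ u, u ^ (q + 1) = C ∧ u + u ^ q = T := by
  simp [traceSet, mem_normSet]

theorem trace_fibre {u v C T : F} (hu : u ^ (q + 1) = C) (hv : v ^ (q + 1) = C)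
    (hu' : u + u ^ q = T) (hv' : v + v ^ q = T) : v = u ∨ v = u ^ q := by
  rw [pow_succ] at hu hv
  have h : (v - u) * (v - u ^ q) = 0 := by
    linear_combination (v : F) * hv' - v * hu' + hu - hv
  rcases mul_eq_zero.1 h with h | h
  · exact Or.inl (sub_eq_zero.1 h)
  · exact Or.inr (sub_eq_zero.1 h)

theorem traceSet_subset (hF : Fintype.card F = q ^ 2) (C : F) :
    traceSet q C ⊆ (fixedSet q : Finset F) := by
  intro T hT
  obtain ⟨u, -, rfl⟩ := mem_traceSet.1 hT
  rw [mem_fixedSet, add_pow_q hF, pow_q_q hF, add_comm]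

theorem card_traceSet (hF : Fintype.card F = q ^ 2) {C : F} (hC : C ^ q = C) (hC0 : C ≠ 0) :
    q + 1 ≤ 2 * (traceSet q C).card := by
  classical
  rw [← card_normSet hF hC hC0]
  refine Finset.card_le_mul_card_image _ 2 fun T hT => ?_
  obtain ⟨u, hu, rfl⟩ := mem_traceSet.1 hT
  refine le_trans (Finset.card_le_card (t := {u, u ^ q}) fun v hv => ?_) Finset.card_le_two
  simp only [Finset.mem_filter, mem_normSet] at hv
  simpa using trace_fibre hu hv.1 rfl hv.2

theorem card_traceSet' (hF : Fintype.card F = q ^ 2) {C u₀ : F} (hC0 : C ≠ 0) (hu : u₀ ^ (q + 1) = C)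
    (hfix : u₀ ^ q = u₀) : q + 2 ≤ 2 * (traceSet q C).card := by
  classical
  have hC : C ^ q = C := by rw [← hu, ← pow_mul, mul_comm, pow_mul, hfix]
  have hmem : u₀ + u₀ ^ q ∈ traceSet q C := mem_traceSet.2 ⟨u₀, hu, rfl⟩
  have h1 : ((normSet q C).erase u₀).card ≤ 2 * ((traceSet q C).erase (u₀ + u₀ ^ q)).card := by
    refine le_trans (Finset.card_le_mul_card_image (f := fun u => u + u ^ q) _ 2 fun T hT => ?_)
      (Nat.mul_le_mul_left 2 (Finset.card_le_card fun T hT => ?_))
    · obtain ⟨u, hu', rfl⟩ := Finset.mem_image.1 hT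
      rw [Finset.mem_erase, mem_normSet] at hu'
      refine le_trans (Finset.card_le_card (t := {u, u ^ q}) fun v hv => ?_) Finset.card_le_two
      simp only [Finset.mem_filter, Finset.mem_erase, mem_normSet] at hv
      simpa using trace_fibre hu'.2 hv.1.2 rfl hv.2
    · obtain ⟨u, hu', rfl⟩ := Finset.mem_image.1 hT
      rw [Finset.mem_erase, mem_normSet] at hu'
      refine Finset.mem_erase.2 ⟨fun h => hu'.1 ?_, mem_traceSet.2 ⟨u, hu'.2, rfl⟩⟩
      rcases trace_fibre hu hu'.2 rfl h with h' | h'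
      · exact h'
      · rw [h', hfix]
  rw [Finset.card_erase_of_mem (mem_normSet.2 hu), Finset.card_erase_of_mem hmem,
    card_normSet hF hC hC0] at h1
  have := Finset.card_pos.2 ⟨_, hmem⟩
  omega

/-- Two trace sets represent every element of the fixed field. -/
theorem exists_trace_sum (hF : Fintype.card F = q ^ 2) (D₁ D₂ : Finset F)
    (h₁ : D₁ ⊆ fixedSet q) (h₂ : D₂ ⊆ fixedSet q) {s : F} (hs : s ^ q = s)
    (hc : q < D₁.card + D₂.card) : ∃ T ∈ D₁, ∃ T' ∈ D₂, T + T' = s := by
  classical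
  have hi : (D₂.image (s - ·)).card = D₂.card :=
    Finset.card_image_of_injective _ sub_right_injective
  have hsub : D₁ ∪ D₂.image (s - ·) ⊆ fixedSet q := by
    refine Finset.union_subset h₁ fun x hx => ?_
    obtain ⟨y, hy, rfl⟩ := Finset.mem_image.1 hx
    rw [mem_fixedSet, sub_pow_q hF, hs, mem_fixedSet.1 (h₂ hy)]
  have h3 := (Finset.card_le_card hsub).trans (card_fixedSet_le hF)
  have h4 := Finset.card_union_add_card_inter D₁ (D₂.image (s - ·))
  obtain ⟨T, hT⟩ : (D₁ ∩ D₂.image (s - ·)).Nonempty := Finset.card_pos.1 (by omega)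
  rw [Finset.mem_inter, Finset.mem_image] at hT
  obtain ⟨hT1, T', hT', hTT⟩ := hT
  exact ⟨T, hT1, T', hT', by rw [← hTT, sub_add_cancel]⟩

/-- Two twists with skew total: the basic cancellation. -/
theorem exists_skew_pair (hF : Fintype.card F = q ^ 2) {A B : F} (hA : A ^ q = A) (hA0 : A ≠ 0)
    (hB : B ^ q = B) (hB0 : B ≠ 0) (hAB : (2 : F) ≠ 0 → A + B ≠ 0) :
    ∃ τ ρ : F, τ ^ (q + 1) = 1 ∧ ρ ^ (q + 1) = 1 ∧ τ ≠ 1 ∧ ρ ≠ 1 ∧
      A * (τ - 1) + B * (ρ - 1) ≠ 0 ∧
      (A * (τ - 1) + B * (ρ - 1)) + (A * (τ - 1) + B * (ρ - 1)) ^ q = 0 := by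
  classical
  set D := ((traceSet q (1 : F)).erase 2).image (fun T => T - 2) with hD
  have h11 : (1 : F) + 1 ^ q = 2 := by rw [one_pow]; norm_num
  have h2mem : (2 : F) ∈ traceSet q (1 : F) := mem_traceSet.2 ⟨1, one_pow _, h11⟩
  have hDc : q ≤ 2 * D.card := by
    have := card_traceSet' hF one_ne_zero (one_pow (q + 1)) (one_pow q : (1 : F) ^ q = 1)
    rw [hD, Finset.card_image_of_injective _ sub_left_injective, Finset.card_erase_of_mem h2mem]
    omega
  have h2q : (2 : F) ^ q = 2 := by rw [← h11, one_pow, add_pow_q hF, one_pow]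
  have hDsub : ∀ d ∈ D, d ^ q = d ∧ d ≠ 0 := by
    intro d hd
    obtain ⟨T, hT, rfl⟩ := Finset.mem_image.1 hd
    rw [Finset.mem_erase] at hT
    exact ⟨by rw [sub_pow_q hF, h2q, mem_fixedSet.1 (traceSet_subset hF _ hT.2)],
      sub_ne_zero.2 hT.1⟩
  have hsub : D.image (A * ·) ∪ D.image (-B * ·) ⊆ (fixedSet q).erase 0 := by
    refine Finset.union_subset (fun x hx => ?_) (fun x hx => ?_) <;>
      obtain ⟨d, hd, rfl⟩ := Finset.mem_image.1 hx <;>
      refine Finset.mem_erase.2 ⟨mul_ne_zero (by simp [hA0, hB0]) (hDsub d hd).2, ?_⟩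
    · rw [mem_fixedSet, mul_pow, hA, (hDsub d hd).1]
    · rw [mem_fixedSet, mul_pow, neg_pow_q hF, hB, (hDsub d hd).1]
  have h3 := Finset.card_le_card hsub
  rw [Finset.card_erase_of_mem (mem_fixedSet.2 (zero_pow_q hF))] at h3
  have h4 := Finset.card_union_add_card_inter (D.image (A * ·)) (D.image (-B * ·))
  rw [Finset.card_image_of_injective _ (mul_right_injective₀ hA0),
    Finset.card_image_of_injective _ (mul_right_injective₀ (neg_ne_zero.2 hB0))] at h4
  have h5 := card_fixedSet_le (F := F) hF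
  have hq := two_le_q hF
  obtain ⟨x, hx⟩ : (D.image (A * ·) ∩ D.image (-B * ·)).Nonempty := Finset.card_pos.1 (by omega)
  simp only [Finset.mem_inter, hD, Finset.mem_image, Finset.mem_erase, mem_traceSet] at hx
  obtain ⟨⟨_, ⟨_, ⟨hT, τ, hτ, rfl⟩, rfl⟩, hxA⟩, _, ⟨_, ⟨hT', ρ, hρ, rfl⟩, rfl⟩, hxB⟩ := hx
  have hτ1 : τ ≠ 1 := fun h => hT (by rw [h, h11])
  have hρ1 : ρ ≠ 1 := fun h => hT' (by rw [h, h11])
  have hskew : ∀ σ : F, σ + σ ^ q = ρ + ρ ^ q →
      (A * (τ - 1) + B * (σ - 1)) + (A * (τ - 1) + B * (σ - 1)) ^ q = 0 := by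
    intro σ hσ
    rw [add_pow_q hF, mul_pow, mul_pow, sub_pow_q hF, sub_pow_q hF, hA, hB, one_pow]
    linear_combination hxA - hxB + B * hσ
  by_cases h0 : A * (τ - 1) + B * (ρ - 1) = 0
  swap
  · exact ⟨τ, ρ, hτ, hρ, hτ1, hρ1, h0, hskew ρ rfl⟩
  have hne1 : ρ ^ q ≠ 1 := fun h => hρ1 (by rw [← pow_q_q hF ρ, h, one_pow])
  have hρq : (ρ ^ q) ^ (q + 1) = 1 := by rw [← pow_mul, mul_comm, pow_mul, hρ, one_pow]
  refine ⟨τ, ρ ^ q, hτ, hρq, hτ1, hne1, fun h1 => ?_,
    hskew _ (by rw [pow_q_q hF, add_comm])⟩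
  have h6 : ρ ^ q = ρ := by
    have : B * (ρ ^ q - ρ) = 0 := by linear_combination h1 - h0
    exact sub_eq_zero.1 ((mul_eq_zero.1 this).resolve_left hB0)
  have h7 : ρ = -1 := by
    rw [pow_succ, h6, ← sq] at hρ
    exact (sq_eq_one_iff.1 hρ).resolve_left hρ1
  have h2 : (2 : F) ≠ 0 := fun h => hρ1 (by rw [h7]; linear_combination -h)
  have h8 : τ = -1 := by
    have hfix : τ ^ q = τ := by
      have h9 : A * (τ - 1) = B * 2 := by rw [h7] at h0; linear_combination h0
      have h10 := congrArg (· ^ q) h9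
      simp only [mul_pow, sub_pow_q hF, one_pow, hA, hB, h2q] at h10
      have : A * (τ ^ q - τ) = 0 := by linear_combination h10 - h9
      exact sub_eq_zero.1 ((mul_eq_zero.1 this).resolve_left hA0)
    rw [pow_succ, hfix, ← sq] at hτ
    exact (sq_eq_one_iff.1 hτ).resolve_left hτ1
  rw [h7, h8] at h0
  have : (2 : F) * (A + B) = 0 := by linear_combination -h0
  exact hAB h2 ((mul_eq_zero.1 this).resolve_left h2)

end Cfsg.Agent.UnitaryFrame84
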