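import Mathlib
import Cfsg.Agent.Lib.UnitaryFrameBasic84

/-!
From a centre with small support to all isotropic vectors.
-/

set_option autoImplicit false
set_option linter.unusedSectionVars false

namespace Cfsg.Agent.UnitaryFrame84

open scoped Matrix MatrixGroups
open Cfsg.Agent.OrthUnitaryHerm
open Cfsg.Agent.OrthUnitaryTransvection
open Cfsg.Agent.OrthUnitarySubspaces
open Cfsg.Agent.OrthUnitaryMaximal

variable {F : Type*} [Field F] [Fintype F] {q n : ℕ}

/-- A vector supported on two coordinates. -/
abbrev pv (a b : Fin n) (x y : F) : Fin n → F := Pi.single a x + Pi.single b y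

theorem pv_left {a b : Fin n} (hab : a ≠ b) (x y : F) : pv a b x y a = x := by
  simp [pv, Pi.single_eq_of_ne hab]

theorem pv_right {a b : Fin n} (hab : a ≠ b) (x y : F) : pv a b x y b = y := by
  simp [pv, Pi.single_eq_of_ne hab.symm]

theorem pv_other {a b i : Fin n} (ha : i ≠ a) (hb : i ≠ b) (x y : F) : pv a b x y i = 0 := by
  simp [pv, Pi.single_eq_of_ne ha, Pi.single_eq_of_ne hb]

theorem herm_single (hF : Fintype.card F = q ^ 2) (v : Fin n → F) (a : Fin n) (x : F) :
    hermForm n F q v (Pi.single a x) = v a * x ^ q := by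
  rw [show (Pi.single a x : Fin n → F) = x • Pi.single a (1 : F) by
    rw [← Pi.single_smul', smul_eq_mul, mul_one], herm_smul_right, herm_single_right hF, mul_comm]

theorem herm_pv (hF : Fintype.card F = q ^ 2) (v : Fin n → F) (a b : Fin n) (x y : F) :
    hermForm n F q v (pv a b x y) = v a * x ^ q + v b * y ^ q := by
  rw [herm_add_right hF, herm_single hF, herm_single hF]

theorem herm_pv_self (hF : Fintype.card F = q ^ 2) {a b : Fin n} (hab : a ≠ b) (x y : F) :
    hermForm n F q (pv a b x y) (pv a b x y) = x ^ (q + 1) + y ^ (q + 1) := by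
  rw [herm_pv hF, pv_left hab, pv_right hab, pow_succ', pow_succ']

theorem herm_self_sum (v : Fin n → F) :
    hermForm n F q v v = ∑ i, v i ^ (q + 1) := by
  simp [hermForm, pow_succ']

theorem norm_pow_q (hF : Fintype.card F = q ^ 2) (x : F) : (x ^ (q + 1)) ^ q = x ^ (q + 1) := by
  rw [pow_succ, mul_pow, pow_q_q hF, mul_comm]

theorem exists_notMem (S : Finset (Fin n)) (h : S.card < n) : ∃ c, c ∉ S := by
  by_contra hcon
  push Not at hcon
  have := Finset.card_le_card (fun i _ => hcon i : (Finset.univ : Finset (Fin n)) ⊆ S)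
  simp at this
  omega

theorem neg_norm (hF : Fintype.card F = q ^ 2) (x : F) : (-x) ^ (q + 1) = x ^ (q + 1) := by
  rw [pow_succ, pow_succ, neg_pow_q hF]
  ring

theorem norm_sub (hF : Fintype.card F = q ^ 2) (x y : F) :
    (x - y) ^ (q + 1) = x ^ (q + 1) + y ^ (q + 1) - (y * x ^ q + (y * x ^ q) ^ q) := by
  rw [mul_pow, pow_q_q hF, pow_succ, sub_pow_q hF, pow_succ, pow_succ]
  ring

variable {t : ℕ} {β : Fin n → Fin t} {M : Subgroup (SU n F q)}

/-- Transvections with centre inside one part of the partition. -/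
theorem centre_of_block (hF : Fintype.card F = q ^ 2) (hH : ∀ g, Pres β g → g ∈ M)
    {z : Fin n → F} (hz : hermForm n F q z z = 0) (i₀ : Fin t)
    (hsupp : ∀ a, z a ≠ 0 → β a = i₀) : Centre M z := by
  refine (centre_iff hF hz).2 fun c hc => hH _ ?_
  have key : ∀ a i, act (tv hF z c hz hc) (e a) i ≠ 0 → β i = β a := by
    intro a i hi
    rw [tv_act, e, herm_single_left] at hi
    by_cases hia : i = a
    · rw [hia]
    simp only [Pi.add_apply, Pi.single_eq_of_ne hia, Pi.smul_apply, smul_eq_mul, zero_add] at hi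
    have h1 : z i ≠ 0 := right_ne_zero_of_mul hi
    have h2 : z a ≠ 0 := by
      intro h
      rw [h, zero_pow_q hF, mul_zero, zero_mul] at hi
      exact hi rfl
    rw [hsupp i h1, hsupp a h2]
  intro a b i j hab hi hj
  rw [key a i hi, key b j hj, hab]

/-- Twisting a centre by a diagonal element. -/
theorem centre_twist (hF : Fintype.card F = q ^ 2) (hH : ∀ g, Pres β g → g ∈ M) {z : Fin n → F}
    (hz : Centre M z) (d : Fin n → F) (hd : ∀ i, d i ^ (q + 1) = 1) (hp : ∏ i, d i = 1) {γ : F}
    (hγ : ∑ i, (d i - 1) * z i ^ (q + 1) = γ) (h0 : γ ≠ 0) (hs : γ + γ ^ q = 0) :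
    Centre M (fun i => (d i - 1) * z i) := by
  have hz' := centre_act hF (hH _ (diagEl_pres β d hd hp)) hz
  have heq : hermForm n F q (act (diagEl d hd hp) z) z = γ := by
    have h1 : hermForm n F q (act (diagEl d hd hp) z - z) z = γ := by
      rw [← hγ]
      refine Finset.sum_congr rfl fun i _ => ?_
      simp only [Pi.sub_apply, diagEl_act]
      ring
    rwa [herm_sub_left, hz.1, sub_zero] at h1
  have := centre_diff hF hz hz' (by rw [heq]; exact h0) (by rw [heq]; exact hs)
  convert this using 1
  funext i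
  simp only [Pi.sub_apply, diagEl_act]
  ring

/-- A centre supported on two given coordinates. -/
theorem centre_pair_of_supp (hF : Fintype.card F = q ^ 2) (hH : ∀ g, Pres β g → g ∈ M)
    {z : Fin n → F} (hz : Centre M z) {a b c : Fin n} (hab : a ≠ b) (hza : z a ≠ 0)
    (hzb : z b ≠ 0) (hzc : z c = 0)
    (hne : (2 : F) ≠ 0 → z a ^ (q + 1) + z b ^ (q + 1) ≠ 0) :
    ∃ x y : F, x ≠ 0 ∧ y ≠ 0 ∧ Centre M (pv a b x y) := by
  have hac : a ≠ c := fun h => hza (by rw [h, hzc])
  have hbc : b ≠ c := fun h => hzb (by rw [h, hzc])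
  obtain ⟨τ, ρ, hτ, hρ, hτ1, hρ1, hne0, hskew⟩ := exists_skew_pair hF (norm_pow_q hF (z a))
    (pow_ne_zero _ hza) (norm_pow_q hF (z b)) (pow_ne_zero _ hzb) hne
  obtain ⟨h, hh, hact⟩ := exists_diag3 (n := n) hab hac hbc hτ hρ
  have hz' := centre_act hF (hH _ (hh β)) hz
  have hdiff : act h z - z = pv a b ((τ - 1) * z a) ((ρ - 1) * z b) := by
    funext i
    rw [Pi.sub_apply, hact]
    by_cases hia : i = a
    · subst hia
      rw [pv_left hab, if_pos rfl]; ring
    by_cases hib : i = b
    · subst hib
      rw [pv_right hab, if_neg hia, if_pos rfl]; ring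
    rw [pv_other hia hib, if_neg hia, if_neg hib]
    split_ifs with hic
    · rw [hic, hzc]; ring
    · ring
  have hγ : hermForm n F q (act h z) z
      = z a ^ (q + 1) * (τ - 1) + z b ^ (q + 1) * (ρ - 1) := by
    have h1 : hermForm n F q (act h z - z) z
        = z a ^ (q + 1) * (τ - 1) + z b ^ (q + 1) * (ρ - 1) := by
      rw [hdiff, herm_conj hF z, herm_pv hF]
      simp only [add_pow_q hF, mul_pow, pow_q_q hF]
      ring
    rwa [herm_sub_left, hz.1, sub_zero] at h1
  have hC := centre_diff hF hz hz' (by rw [hγ]; exact hne0) (by rw [hγ]; exact hskew)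
  rw [hdiff] at hC
  exact ⟨_, _, mul_ne_zero (sub_ne_zero.2 hτ1) hza, mul_ne_zero (sub_ne_zero.2 hρ1) hzb, hC⟩

/-- Changing the phases of a pair centre. -/
theorem centre_pair_phase (hF : Fintype.card F = q ^ 2) (hH : ∀ g, Pres β g → g ∈ M)
    (hn : 3 ≤ n) {a b : Fin n} (hab : a ≠ b) {x y x' y' : F} (hx : x ≠ 0)
    (hC : Centre M (pv a b x y)) (h' : x' ^ (q + 1) + y' ^ (q + 1) = 0) (hx' : x' ≠ 0) :
    Centre M (pv a b x' y') := by
  obtain ⟨c, hc⟩ : ∃ c : Fin n, c ∉ ({a, b} : Finset (Fin n)) := by
    exact exists_notMem _ (Finset.card_le_two.trans_lt (by omega))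
  simp only [Finset.mem_insert, Finset.mem_singleton, not_or] at hc
  have h0 := hC.1
  rw [herm_pv_self hF hab] at h0
  have hy : y ≠ 0 := by
    rintro rfl
    rw [zero_pow (Nat.succ_ne_zero q), add_zero] at h0
    exact pow_ne_zero _ hx h0
  set l := x' / x with hl
  have hly : l * y ≠ 0 := mul_ne_zero (div_ne_zero hx' hx) hy
  have hτ : (y' / (l * y)) ^ (q + 1) = 1 := by
    rw [div_pow, div_eq_one_iff_eq (pow_ne_zero _ hly), mul_pow, hl, div_pow,
      eq_neg_of_add_eq_zero_right h', eq_neg_of_add_eq_zero_right h0]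
    field_simp
  obtain ⟨h, hh, hact⟩ := exists_diag2 (n := n) (Ne.symm hc.2) hτ
  have := centre_act hF (hH _ (hh β)) (centre_smul hF hC l)
  convert this using 1
  funext i
  rw [hact, Pi.smul_apply, smul_eq_mul]
  by_cases hib : i = b
  · subst hib
    rw [pv_right hab, pv_right hab, if_pos rfl, div_mul_cancel₀ _ hly]
  by_cases hia : i = a
  · subst hia
    rw [pv_left hab, pv_left hab, if_neg hab, if_neg (Ne.symm hc.1), one_mul, hl,
      div_mul_cancel₀ _ hx]
  rw [pv_other hia hib, pv_other hia hib, mul_zero, mul_zero]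

/-- All isotropic vectors on two coordinates. -/
theorem centre_all_pairs (hF : Fintype.card F = q ^ 2) (hH : ∀ g, Pres β g → g ∈ M) (hn : 3 ≤ n)
    (hperm : ∀ a b a' b', β a ≠ β b → β a' ≠ β b' → ∃ π : Equiv.Perm (Fin n),
      (∀ c d, β (π c) = β (π d) → β c = β d) ∧ π a' = a ∧ π b' = b)
    {a b : Fin n} {x y : F} (hab : β a ≠ β b) (hx : x ≠ 0) (hC : Centre M (pv a b x y))
    {a' b' : Fin n} (hab' : a' ≠ b') {x' y' : F} (hx' : x' ≠ 0)
    (h' : x' ^ (q + 1) + y' ^ (q + 1) = 0) : Centre M (pv a' b' x' y') := by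
  by_cases hβ : β a' = β b'
  · refine centre_of_block hF hH (by rw [herm_pv_self hF hab', h']) (β a') fun i hi => ?_
    by_cases h1 : i = a'
    · rw [h1]
    by_cases h2 : i = b'
    · rw [h2, hβ]
    exact absurd (pv_other h1 h2 _ _) hi
  obtain ⟨π, hπ, hπa, hπb⟩ := hperm a b a' b' hab hβ
  obtain ⟨c, hc⟩ : ∃ c : Fin n, c ∉ ({a, b} : Finset (Fin n)) := by
    exact exists_notMem _ (Finset.card_le_two.trans_lt (by omega))
  simp only [Finset.mem_insert, Finset.mem_singleton, not_or] at hc
  let d : Fin n → F := Function.update 1 c ((Equiv.Perm.sign π : ℤ) : F)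
  have hsq : ((Equiv.Perm.sign π : ℤ) : F) * ((Equiv.Perm.sign π : ℤ) : F) = 1 := by
    rcases Int.units_eq_one_or (Equiv.Perm.sign π) with h | h <;> simp [h]
  have hsn : ((Equiv.Perm.sign π : ℤ) : F) ^ (q + 1) = 1 := by
    rcases Int.units_eq_one_or (Equiv.Perm.sign π) with h | h <;>
      simp [h, pow_succ, neg_pow_q hF (1 : F)]
  have hd : ∀ i, d i ^ (q + 1) = 1 := by
    intro i
    by_cases hi : i = c
    · subst hi
      rw [show d i = _ from Function.update_self i _ _]
      exact hsn
    · rw [show d i = (1 : Fin n → F) i from Function.update_of_ne hi _ _]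
      exact one_pow _
  have hdet : (Equiv.Perm.sign π : F) * ∏ i, d i = 1 := by
    rw [Finset.prod_update_of_mem (Finset.mem_univ c)]
    simpa using hsq
  have hC' := centre_act hF (hH _ (monEl_pres π d hd hdet hπ)) hC
  have heq : act (monEl π d hd hdet) (pv a b x y) = pv a' b' x y := by
    have hab0 : a ≠ b := fun h => hab (by rw [h])
    funext i
    rw [monEl_act]
    by_cases h1 : i = a'
    · subst h1
      rw [hπa, pv_left hab', pv_left hab0,
        show d a = (1 : Fin n → F) a from Function.update_of_ne (Ne.symm hc.1) _ _, Pi.one_apply,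
        one_mul]
    by_cases h2 : i = b'
    · subst h2
      rw [hπb, pv_right hab', pv_right hab0,
        show d b = (1 : Fin n → F) b from Function.update_of_ne (Ne.symm hc.2) _ _, Pi.one_apply,
        one_mul]
    rw [pv_other h1 h2, pv_other (fun h => h1 (π.injective (by rw [h, hπa])))
      (fun h => h2 (π.injective (by rw [h, hπb]))), mul_zero]
  rw [heq] at hC'
  exact centre_pair_phase hF hH hn hab' hx hC' h' hx'

/-- Moving two coordinates of a centre without changing their total norm. -/
theorem centre_move (hF : Fintype.card F = q ^ 2)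
    (hpairs : ∀ a b : Fin n, a ≠ b → ∀ x y : F, x ≠ 0 → x ^ (q + 1) + y ^ (q + 1) = 0 →
      Centre M (pv a b x y))
    {a b : Fin n} (hab : a ≠ b) {v v' : Fin n → F} (hv : Centre M v)
    (hvv : hermForm n F q v' v' = 0) (hout : ∀ i, i ≠ a → i ≠ b → v' i = v i)
    (hν : v a ^ (q + 1) + v b ^ (q + 1) ≠ 0)
    (hd : (v' a - v a) ^ (q + 1) + (v' b - v b) ^ (q + 1) = 0) : Centre M v' := by
  by_cases hda : v' a - v a = 0
  · rw [hda, zero_pow (Nat.succ_ne_zero q), zero_add] at hd
    have hdb := pow_eq_zero_iff (Nat.succ_ne_zero q) |>.1 hd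
    have : v' = v := by
      funext i
      by_cases h1 : i = a
      · rw [h1]; exact sub_eq_zero.1 hda
      by_cases h2 : i = b
      · rw [h2]; exact sub_eq_zero.1 hdb
      exact hout i h1 h2
    rwa [this]
  have hD := hpairs a b hab _ _ hda hd
  have heq : v' - v = pv a b (v' a - v a) (v' b - v b) := by
    funext i
    rw [Pi.sub_apply]
    by_cases h1 : i = a
    · rw [h1, pv_left hab]
    by_cases h2 : i = b
    · rw [h2, pv_right hab]
    rw [pv_other h1 h2, hout i h1 h2, sub_self]
  rw [← heq] at hD
  set γ := hermForm n F q v (v' - v) with hγ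
  have hskew : γ + γ ^ q = 0 := by
    have h1 := hvv
    rw [show v' = v + (v' - v) by abel, herm_add_left, herm_add_right hF, herm_add_right hF, hv.1,
      hD.1, herm_conj hF v (v' - v), ← hγ] at h1
    linear_combination h1
  have hγ0 : γ ≠ 0 := by
    intro h0
    rw [hγ, heq, herm_pv hF] at h0
    set α := v' a - v a
    set δ := v' b - v b
    have h1 := congrArg (· ^ (q + 1)) (eq_neg_of_add_eq_zero_left h0)
    simp only [neg_norm hF, mul_pow, ← pow_mul, mul_comm q (q + 1)] at h1
    rw [pow_mul, pow_mul, norm_pow_q hF, norm_pow_q hF] at h1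
    have h2 : (v a ^ (q + 1) + v b ^ (q + 1)) * α ^ (q + 1) = 0 := by
      linear_combination h1 + v b ^ (q + 1) * hd
    exact mul_ne_zero hν (pow_ne_zero _ hda) h2
  have hc : γ⁻¹ + γ⁻¹ ^ q = 0 := by
    rw [inv_pow, show γ ^ q = -γ by linear_combination hskew, inv_neg, add_neg_cancel]
  have h := centre_act hF ((centre_iff hF hD.1).1 hD _ hc) hv
  rw [tv_act, ← hγ, inv_mul_cancel₀ hγ0, one_smul, add_sub_cancel] at h
  exact h

/-- All isotropic vectors, from those on two coordinates. -/
theorem centre_all (hF : Fintype.card F = q ^ 2) (hq : 3 ≤ q)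
    (hpairs : ∀ a b : Fin n, a ≠ b → ∀ x y : F, x ≠ 0 → x ^ (q + 1) + y ^ (q + 1) = 0 →
      Centre M (pv a b x y))
    (v : Fin n → F) (hv : hermForm n F q v v = 0) : Centre M v := by
  classical
  suffices H : ∀ (m : ℕ) (v : Fin n → F), (Finset.univ.filter fun i => v i ≠ 0).card = m →
      hermForm n F q v v = 0 → Centre M v from H _ v rfl hv
  intro m
  induction m using Nat.strong_induction_on with
  | h m ih =>
    intro v hm hv
    set S := Finset.univ.filter fun i => v i ≠ 0 with hS
    have hmem : ∀ {i}, i ∈ S ↔ v i ≠ 0 := fun {i} => by simp [hS]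
    rcases le_or_gt m 2 with hm2 | hm2
    · rcases S.eq_empty_or_nonempty with he | ⟨a, ha⟩
      · have : v = 0 := funext fun i => by
          by_contra h
          have := hmem.2 h
          simp [he] at this
        rw [this]; exact centre_zero hF M
      rcases (S.erase a).eq_empty_or_nonempty with he | ⟨b, hb⟩
      · exfalso
        have hsum : hermForm n F q v v = v a ^ (q + 1) := by
          rw [herm_self_sum, Finset.sum_eq_single a]
          · intro i _ hi
            have : v i = 0 := by
              by_contra h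
              have := Finset.mem_erase.2 ⟨hi, hmem.2 h⟩
              simp [he] at this
            rw [this, zero_pow (Nat.succ_ne_zero q)]
          · simp
        exact pow_ne_zero (q + 1) (hmem.1 ha) (hsum ▸ hv)
      obtain ⟨hba, hb⟩ := Finset.mem_erase.1 hb
      have heq : v = pv a b (v a) (v b) := by
        funext i
        by_cases h1 : i = a
        · rw [h1, pv_left hba.symm]
        by_cases h2 : i = b
        · rw [h2, pv_right hba.symm]
        rw [pv_other h1 h2]
        by_contra h
        have hsub : ({a, b, i} : Finset (Fin n)) ⊆ S := by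
          intro j hj
          simp only [Finset.mem_insert, Finset.mem_singleton] at hj
          rcases hj with rfl | rfl | rfl
          exacts [ha, hb, hmem.2 h]
        have := Finset.card_le_card hsub
        rw [Finset.card_insert_of_notMem (by simp [hba.symm, Ne.symm h1]),
          Finset.card_insert_of_notMem (by simp [Ne.symm h2]), Finset.card_singleton] at this
        omega
      have hv' := hv
      rw [heq, herm_pv_self hF hba.symm] at hv'
      rw [heq]
      exact hpairs a b hba.symm _ _ (hmem.1 ha) hv'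
    -- a vector of smaller support
    have hsmall : ∀ w : Fin n → F, hermForm n F q w w = 0 → (∀ i, v i = 0 → w i = 0) →
        (∃ i ∈ S, w i = 0) → Centre M w := by
      rintro w hw hsub ⟨i, hi, hwi⟩
      refine ih _ ?_ w rfl hw
      rw [← hm]
      refine Finset.card_lt_card ((Finset.ssubset_iff_of_subset fun j hj => ?_).2
        ⟨i, hi, by simp [hwi]⟩)
      simp only [Finset.mem_filter, Finset.mem_univ, true_and] at hj
      exact hmem.2 fun h => hj (hsub j h)
    -- reduction through a pair of non-zero total norm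
    have hred : ∀ w : Fin n → F, hermForm n F q w w = 0 → (∀ i, v i = 0 → w i = 0) →
        ∀ a b, a ≠ b → a ∈ S → b ∈ S → w a ≠ 0 → w b ≠ 0 →
          w a ^ (q + 1) + w b ^ (q + 1) ≠ 0 → Centre M w := by
      intro w hw hsub a b hab ha hb hwa hwb hν
      set ν := w a ^ (q + 1) + w b ^ (q + 1) with hνdef
      have hνq : ν ^ q = ν := by rw [hνdef, add_pow_q hF, norm_pow_q hF, norm_pow_q hF]
      obtain ⟨ε, hεs, hε0, hεν⟩ : ∃ ε : F, ε + ε ^ q = 0 ∧ ε ≠ 0 ∧ ε ≠ ν := by
        by_contra hcon
        push Not at hcon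
        have h1 : Nat.card {x : F // x + x ^ q = 0} ≤ Nat.card ({0, ν} : Finset F) := by
          refine Nat.card_le_card_of_injective (fun x => ⟨x.1, ?_⟩)
            fun x y hxy => Subtype.ext (Subtype.ext_iff.1 hxy :)
          by_cases h : x.1 = 0
          · simp [h]
          · simp [hcon x.1 x.2 h]
        rw [OrthUnitaryIsotropic.card_skew_one hF, Nat.card_eq_finsetCard] at h1
        have := h1.trans Finset.card_le_two
        omega
      have hεq : ε ^ q = -ε := by linear_combination hεs
      have hu0 : ν + ε ≠ 0 := by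
        intro h
        by_cases h2 : (2 : F) = 0
        · exact hεν (by linear_combination h - ν * h2)
        · have hεe : ε = -ν := by linear_combination h
          rw [hεe, neg_pow_q hF, hνq] at hεs
          exact mul_ne_zero h2 hν (by linear_combination -hεs)
      set A₁ := (ν + ε) ^ (q + 1) / ν with hA₁
      set B₁ := ε ^ 2 / ν with hB₁
      have hsum : A₁ + B₁ = ν := by
        rw [hA₁, hB₁, pow_succ, add_pow_q hF, hνq, hεq]
        field_simp
        ring
      have hA₁0 : A₁ ≠ 0 := div_ne_zero (pow_ne_zero _ hu0) hν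
      have hB₁0 : B₁ ≠ 0 := div_ne_zero (pow_ne_zero _ hε0) hν
      have hA₁q : A₁ ^ q = A₁ := by rw [hA₁, div_pow, norm_pow_q hF, hνq]
      have hB₁q : B₁ ^ q = B₁ := by
        rw [show B₁ = ν - A₁ by linear_combination hsum, sub_pow_q hF, hνq, hA₁q]
      have hCa0 : A₁ * w a ^ (q + 1) ≠ 0 := mul_ne_zero hA₁0 (pow_ne_zero _ hwa)
      have hCb0 : B₁ * w b ^ (q + 1) ≠ 0 := mul_ne_zero hB₁0 (pow_ne_zero _ hwb)
      have hCaq : (A₁ * w a ^ (q + 1)) ^ q = A₁ * w a ^ (q + 1) := by
        rw [mul_pow, hA₁q, norm_pow_q hF]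
      have hCbq : (B₁ * w b ^ (q + 1)) ^ q = B₁ * w b ^ (q + 1) := by
        rw [mul_pow, hB₁q, norm_pow_q hF]
      obtain ⟨T, hT, T', hT', hTT⟩ := exists_trace_sum hF (traceSet q (A₁ * w a ^ (q + 1)))
        (traceSet q (B₁ * w b ^ (q + 1))) (traceSet_subset hF _)
        (traceSet_subset hF _) (s := 2 * ν)
        (by rw [two_mul, add_pow_q hF, hνq])
        (by have := card_traceSet hF hCaq hCa0; have := card_traceSet hF hCbq hCb0; omega)
      obtain ⟨u₁, hu₁, rfl⟩ := mem_traceSet.1 hT
      obtain ⟨u₂, hu₂, rfl⟩ := mem_traceSet.1 hT'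
      set α := u₁ / w a ^ q with hα
      set δ := u₂ / w b ^ q with hδ
      have hαN : α ^ (q + 1) = A₁ := by
        rw [hα, div_pow, hu₁, ← pow_mul, mul_comm q, pow_mul, norm_pow_q hF,
          mul_div_cancel_right₀ _ (pow_ne_zero _ hwa)]
      have hδN : δ ^ (q + 1) = B₁ := by
        rw [hδ, div_pow, hu₂, ← pow_mul, mul_comm q, pow_mul, norm_pow_q hF,
          mul_div_cancel_right₀ _ (pow_ne_zero _ hwb)]
      have hαw : α * w a ^ q = u₁ := div_mul_cancel₀ _ (pow_ne_zero _ hwa)
      have hδw : δ * w b ^ q = u₂ := div_mul_cancel₀ _ (pow_ne_zero _ hwb)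
      set s := ((ν + ε) / α) ^ q with hs
      have hα0 : α ≠ 0 := fun h => hA₁0 (by rw [← hαN, h, zero_pow (Nat.succ_ne_zero q)])
      have hsN : s ^ (q + 1) = ν := by
        rw [hs, ← pow_mul, mul_comm q, pow_mul, norm_pow_q hF, div_pow, hαN, hA₁]
        field_simp
      have hsα : s ^ q * α = ν + ε := by rw [hs, pow_q_q hF, div_mul_cancel₀ _ hα0]
      set v₁ : Fin n → F := Function.update (Function.update w a α) b δ with hv₁
      set v₂ : Fin n → F := Function.update (Function.update w a s) b 0 with hv₂
      have h1a : v₁ a = α := by rw [hv₁, Function.update_of_ne hab, Function.update_self]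
      have h1b : v₁ b = δ := by rw [hv₁, Function.update_self]
      have h2a : v₂ a = s := by rw [hv₂, Function.update_of_ne hab, Function.update_self]
      have h2b : v₂ b = 0 := by rw [hv₂, Function.update_self]
      have h1o : ∀ i, i ≠ a → i ≠ b → v₁ i = w i := fun i h1 h2 => by
        rw [hv₁, Function.update_of_ne h2, Function.update_of_ne h1]
      have h2o : ∀ i, i ≠ a → i ≠ b → v₂ i = w i := fun i h1 h2 => by
        rw [hv₂, Function.update_of_ne h2, Function.update_of_ne h1]
      have hiso : ∀ x : Fin n → F, (∀ i, i ≠ a → i ≠ b → x i = w i) →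
          x a ^ (q + 1) + x b ^ (q + 1) = ν → hermForm n F q x x = 0 := by
        intro x hxo hxν
        rw [← hw, herm_self_sum, herm_self_sum, ← sub_eq_zero, ← Finset.sum_sub_distrib,
          Finset.sum_eq_add a b hab]
        · linear_combination hxν + hνdef
        · intro i _ hi
          rw [hxo i hi.1 hi.2, sub_self]
        · simp
        · simp
      have hC₂ : Centre M v₂ := by
        refine hsmall v₂ (hiso _ h2o ?_) (fun i hi => ?_) ⟨b, hb, h2b⟩
        · rw [h2a, h2b, hsN, zero_pow (Nat.succ_ne_zero q), add_zero]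
        · rw [h2o i (fun h => hmem.1 ha (h ▸ hi)) (fun h => hmem.1 hb (h ▸ hi))]
          exact hsub i hi
      have hν2 : v₂ a ^ (q + 1) + v₂ b ^ (q + 1) = ν := by
        rw [h2a, h2b, hsN, zero_pow (Nat.succ_ne_zero q), add_zero]
      have hν1 : v₁ a ^ (q + 1) + v₁ b ^ (q + 1) = ν := by rw [h1a, h1b, hαN, hδN, hsum]
      have hC₁ : Centre M v₁ := by
        refine centre_move hF hpairs hab hC₂ (hiso _ h1o hν1)
          (fun i h1 h2 => by rw [h1o i h1 h2, h2o i h1 h2]) (by rw [hν2]; exact hν) ?_
        rw [h1a, h1b, h2a, h2b, sub_zero, hδN]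
        rw [norm_sub hF, hαN, hsN,
          show s * α ^ q = (ν + ε) ^ q by rw [← hsα, mul_pow, pow_q_q hF], pow_q_q hF,
          add_pow_q hF, hνq]
        linear_combination hsum - hεs
      refine centre_move hF hpairs hab hC₁ hw (fun i h1 h2 => (h1o i h1 h2).symm)
        (by rw [hν1]; exact hν) ?_
      rw [h1a, h1b]
      rw [norm_sub hF, norm_sub hF, hαN, hδN, hαw, hδw]
      linear_combination -hTT + hsum - hνdef
    by_cases hex : ∃ a ∈ S, ∃ b ∈ S, a ≠ b ∧ v a ^ (q + 1) + v b ^ (q + 1) ≠ 0
    · obtain ⟨a, ha, b, hb, hab, hν⟩ := hex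
      exact hred v hv (fun i h => h) a b hab ha hb (hmem.1 ha) (hmem.1 hb) hν
    push Not at hex
    -- all norms are equal, in characteristic two
    obtain ⟨a, b, c, ha, hb, hc, hab, hac, hbc⟩ :=
      Finset.two_lt_card_iff.1 (show 2 < S.card by omega)
    have e1 := hex a ha b hb hab
    have e2 := hex a ha c hc hac
    have e3 := hex b hb c hc hbc
    have hA0 : v a ^ (q + 1) ≠ 0 := pow_ne_zero _ (hmem.1 ha)
    have h2 : (2 : F) = 0 := by
      have : (2 : F) * v a ^ (q + 1) = 0 := by linear_combination e1 + e2 - e3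
      exact (mul_eq_zero.1 this).resolve_right hA0
    have hBA : v b ^ (q + 1) = v a ^ (q + 1) := by linear_combination e1 - v a ^ (q + 1) * h2
    have hCA : v c ^ (q + 1) = v a ^ (q + 1) := by linear_combination e2 - v a ^ (q + 1) * h2
    set A := v a ^ (q + 1) with hAdef
    have hAq : A ^ q = A := norm_pow_q hF _
    obtain ⟨l, hl, hl2⟩ := exists_normOne_sq_ne_one (F := F) hF
    set μ : F := (l : F) with hμ
    have hμN : μ ^ (q + 1) = 1 := by rw [hμ, ← Units.val_pow_eq_pow_val, hl, Units.val_one]
    have hμ1 : μ ≠ 1 := fun h => hl2 (by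
      have : l = 1 := Units.ext h
      rw [this, one_pow])
    have hμ1' : μ + 1 ≠ 0 := fun h => hμ1 (by linear_combination h - h2)
    obtain ⟨ε, hεq, hε0, hε1⟩ : ∃ ε : F, ε ^ q = ε ∧ ε ≠ 0 ∧ ε ≠ 1 := by
      by_contra hcon
      push Not at hcon
      have h1 : Nat.card {x : F // x + x ^ q = 0} ≤ Nat.card ({0, 1} : Finset F) := by
        refine Nat.card_le_card_of_injective (fun x => ⟨x.1, ?_⟩)
          fun x y hxy => Subtype.ext (Subtype.ext_iff.1 hxy :)
        by_cases h : x.1 = 0
        · simp [h]
        · simp [hcon x.1 (by linear_combination x.2 - x.1 * h2) h]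
      rw [OrthUnitaryIsotropic.card_skew_one hF, Nat.card_eq_finsetCard] at h1
      have := h1.trans Finset.card_le_two
      omega
    set cc := ε / A with hcc
    have hcs : cc + cc ^ q = 0 := by
      rw [hcc, div_pow, hεq, hAq]
      linear_combination (ε / A) * h2
    have hwC := hpairs a b hab (μ * v a) (v b)
      (mul_ne_zero (normOne_ne_zero hμN) (hmem.1 ha)) (by
        rw [mul_pow, hμN, hBA, ← hAdef]; linear_combination A * h2)
    set w := pv a b (μ * v a) (v b) with hw
    set γ := hermForm n F q v w with hγ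
    have hγval : γ = A * (μ ^ q + 1) := by
      rw [hγ, hw, herm_pv hF, mul_pow, hAdef, pow_succ', mul_add, mul_one]
      have : v b * v b ^ q = v a * v a ^ q := by rw [← pow_succ', hBA, hAdef, pow_succ']
      rw [this]; ring
    set v' := v + (cc * γ) • w with hv'
    have hv'v : hermForm n F q v' v' = 0 := by
      have := herm_act (tv hF w cc hwC.1 hcs) v v
      rw [tv_act, ← hγ, hv] at this
      exact this
    have hback : v' + (cc * hermForm n F q v' w) • w = v := by
      rw [hv', herm_add_left, herm_smul_left, hwC.1, mul_zero, add_zero, ← hγ]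
      have : (cc * γ) + (cc * γ) = 0 := by linear_combination (cc * γ) * h2
      rw [add_assoc, ← add_smul, this, zero_smul, add_zero]
    have hfin : Centre M v' → Centre M v := by
      intro h
      have := centre_act hF ((centre_iff hF hwC.1).1 hwC cc hcs) h
      rwa [tv_act, hback] at this
    apply hfin
    have hsub' : ∀ i, v i = 0 → v' i = 0 := by
      intro i hi
      simp only [hv', Pi.add_apply, Pi.smul_apply, smul_eq_mul, hi, zero_add]
      rw [hw, pv_other (fun h => hmem.1 ha (by rw [← h]; exact hi))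
        (fun h => hmem.1 hb (by rw [← h]; exact hi)), mul_zero]
    by_cases hva' : v' a = 0
    · exact hsmall v' hv'v hsub' ⟨a, ha, hva'⟩
    have hv'c : v' c = v c := by
      simp only [hv', Pi.add_apply, Pi.smul_apply, smul_eq_mul]
      rw [hw, pv_other hac.symm hbc.symm, mul_zero, add_zero]
    refine hred v' hv'v hsub' a c hac ha hc hva' (by rw [hv'c]; exact hmem.1 hc) fun hzero => ?_
    have hv'a : v' a = v a * (1 + cc * γ * μ) := by
      simp only [hv', Pi.add_apply, Pi.smul_apply, smul_eq_mul]
      rw [hw, pv_left hab]; ring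
    have hμq : μ * μ ^ q = 1 := by rw [← pow_succ', hμN]
    have hk : cc * γ * μ = ε * (1 + μ) := by
      rw [hγval, hcc]
      field_simp
      linear_combination hμq
    have hA' : v' a ^ (q + 1) = A * (1 + ε * (1 + μ)) ^ (q + 1) := by
      rw [hv'a, hk, mul_pow, hAdef]
    rw [hA', hv'c, hCA, pow_succ', add_pow_q hF, one_pow, mul_pow, add_pow_q hF, one_pow,
      hεq] at hzero
    have hT : (1 + μ) * (1 + μ ^ q) * (ε * (1 + ε)) = 0 := by
      have h3 : A * ((1 + μ) * (1 + μ ^ q) * (ε * (1 + ε))) = 0 := by
        linear_combination hzero - A * h2 + A * ε * hμq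
      exact (mul_eq_zero.1 h3).resolve_left hA0
    have hμq1 : (1 : F) + μ ^ q ≠ 0 := fun h => hμ1' (by
      have := congrArg (· ^ q) h
      simp only [add_pow_q hF, one_pow, pow_q_q hF, zero_pow_q hF] at this
      linear_combination this)
    rcases mul_eq_zero.1 hT with h | h
    · rcases mul_eq_zero.1 h with h | h
      · exact hμ1' (by linear_combination h)
      · exact hμq1 h
    · rcases mul_eq_zero.1 h with h | h
      · exact hε0 h
      · exact hε1 (by linear_combination h - h2)

/-! ### The field with four elements -/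

theorem exists_omega (hF : Fintype.card F = 2 ^ 2) :
    ∃ ω : F, ω ^ (2 + 1) = 1 ∧ ω ^ 2 + ω + 1 = 0 ∧ (2 : F) = 0 := by
  obtain ⟨l, hl, hl2⟩ := exists_normOne_sq_ne_one (F := F) (q := 2) hF
  have hN : (l : F) ^ (2 + 1) = 1 := by rw [← Units.val_pow_eq_pow_val, hl, Units.val_one]
  have h1 : (l : F) ≠ 1 := fun h => hl2 (by
    have : l = 1 := Units.ext h
    rw [this, one_pow])
  have h2 : (2 : F) = 0 := by
    have h := neg_pow_q (q := 2) hF (1 : F)
    rw [neg_one_sq, one_pow] at h
    linear_combination h
  refine ⟨l, hN, (mul_eq_zero.1 (?_ : ((l : F) - 1) * ((l : F) ^ 2 + l + 1) = 0)).resolve_left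
    (sub_ne_zero.2 h1), h2⟩
  linear_combination hN

theorem normOne_two (hF : Fintype.card F = 2 ^ 2) {x : F} (hx : x ≠ 0) : x ^ (2 + 1) = 1 := by
  have := FiniteField.pow_card_sub_one_eq_one x hx
  rwa [hF] at this

/-- All isotropic vectors for four elements. -/
theorem centre_all_two (hF : Fintype.card F = 2 ^ 2) {M : Subgroup (SU n F 2)}
    (hH : ∀ g, Pres β g → g ∈ M) (hn : 5 ≤ n)
    (hpairs : ∀ a b : Fin n, a ≠ b → ∀ x y : F, x ≠ 0 → x ^ (2 + 1) + y ^ (2 + 1) = 0 →
      Centre M (pv a b x y))
    {z : Fin n → F} (hz : Centre M z) (S : Finset (Fin n)) (hS : S.card = 4)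
    (hzS : ∀ i, z i ≠ 0 ↔ i ∈ S)
    (v : Fin n → F) (hv : hermForm n F 2 v v = 0) : Centre M v := by
  classical
  obtain ⟨ω, hω, hω3, h2⟩ := exists_omega hF
  have hperm : ∀ (π : Equiv.Perm (Fin n)) (w : Fin n → F), Centre M w →
      Centre M (w ∘ π) := by
    intro π
    induction π using Equiv.Perm.swap_induction_on with
    | one => intro w hw; simpa using hw
    | swap_mul π a b hab ih =>
      intro w hw
      have hC := hpairs a b hab 1 1 one_ne_zero (by linear_combination h2)
      have hc1 : (1 : F) + 1 ^ 2 = 0 := by linear_combination h2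
      have h' := centre_act hF ((centre_iff hF hC.1).1 hC 1 hc1) hw
      rw [tv_act, herm_pv hF] at h'
      have heq : w + ((1 : F) * (w a * 1 ^ 2 + w b * 1 ^ 2)) • pv a b 1 1
          = w ∘ Equiv.swap a b := by
        funext i
        rw [Pi.add_apply, Pi.smul_apply, smul_eq_mul, Function.comp_apply]
        by_cases h1 : i = a
        · subst h1
          rw [pv_left hab, Equiv.swap_apply_left]
          linear_combination w i * h2
        by_cases h3 : i = b
        · subst h3
          rw [pv_right hab, Equiv.swap_apply_right]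
          linear_combination w i * h2
        rw [pv_other h1 h3, Equiv.swap_apply_of_ne_of_ne h1 h3]
        ring
      rw [heq] at h'
      exact ih _ h'
  -- every vector of support four
  have hfour : ∀ (T : Finset (Fin n)), T.card = 4 → ∀ x : Fin n → F,
      (∀ i, x i ≠ 0 ↔ i ∈ T) → Centre M x := by
    intro T hT x hx
    obtain ⟨σ⟩ : Nonempty ({i // i ∈ T} ≃ {i // i ∈ S}) :=
      ⟨Fintype.equivOfCardEq (by simp [hT, hS])⟩
    set π : Equiv.Perm (Fin n) := σ.extendSubtype with hπ
    have hπT : ∀ i, π i ∈ S ↔ i ∈ T := fun i => by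
      constructor
      · intro h
        by_contra hi
        exact Equiv.extendSubtype_not_mem σ i hi h
      · exact fun h => Equiv.extendSubtype_mem σ i h
    have hw := hperm π z hz
    obtain ⟨c, hc⟩ : ∃ c : Fin n, c ∉ T := by
      exact exists_notMem _ (by rw [hT]; omega)
    set d₀ : Fin n → F := fun i => if i ∈ T then x i / z (π i) else 1 with hd₀
    have hd₀0 : ∀ i, d₀ i ≠ 0 := fun i => by
      simp only [hd₀]
      split_ifs with h
      · exact div_ne_zero ((hx i).2 h) ((hzS _).2 ((hπT i).2 h))
      · exact one_ne_zero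
    set d : Fin n → F := Function.update d₀ c (∏ i ∈ Finset.univ \ {c}, d₀ i)⁻¹ with hd
    have hdn : ∀ i, d i ^ (2 + 1) = 1 := fun i => normOne_two hF (by
      by_cases h : i = c
      · rw [h, hd, Function.update_self]
        exact inv_ne_zero (Finset.prod_ne_zero_iff.2 fun j _ => hd₀0 j)
      · rw [hd, Function.update_of_ne h]; exact hd₀0 i)
    have hdp : ∏ i, d i = 1 := by
      rw [hd, Finset.prod_update_of_mem (Finset.mem_univ c)]
      exact inv_mul_cancel₀ (Finset.prod_ne_zero_iff.2 fun j _ => hd₀0 j)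
    have := centre_act hF (hH _ (diagEl_pres β d hdn hdp)) hw
    convert this using 1
    funext i
    rw [diagEl_act, Function.comp_apply]
    by_cases hi : i ∈ T
    · rw [hd, Function.update_of_ne (fun h => hc (by rwa [← h])), hd₀]
      simp only [if_pos hi]
      rw [div_mul_cancel₀ _ ((hzS _).2 ((hπT i).2 hi))]
    · rw [not_not.1 fun h => hi ((hx i).1 h),
        not_not.1 fun h => hi ((hπT i).1 ((hzS (π i)).1 h)), mul_zero]
  suffices H : ∀ (m : ℕ) (v : Fin n → F), (Finset.univ.filter fun i => v i ≠ 0).card = m →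
      hermForm n F 2 v v = 0 → Centre M v from H _ v rfl hv
  intro m
  induction m using Nat.strong_induction_on with
  | h m ih =>
    intro v hm hv
    set T := Finset.univ.filter fun i => v i ≠ 0 with hTdef
    have hmem : ∀ {i}, i ∈ T ↔ v i ≠ 0 := fun {i} => by simp [hTdef]
    have hpar : (m : F) = 0 := by
      rw [← hv, herm_self_sum, ← hm]
      rw [← Finset.sum_subset (Finset.subset_univ T) fun i _ hi => by
        rw [not_not.1 fun h => hi (hmem.2 h), zero_pow (by omega)]]
      rw [Finset.sum_congr rfl fun i hi => normOne_two hF (hmem.1 hi)]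
      simp
    have heven : m % 2 = 0 := by
      by_contra h
      have h1 : m = 2 * (m / 2) + 1 := by omega
      rw [h1, Nat.cast_add, Nat.cast_mul, Nat.cast_ofNat, h2] at hpar
      simp at hpar
    rcases Nat.lt_or_ge m 4 with hlt | hge
    · rcases Nat.eq_zero_or_pos m with h0 | hpos
      · have : v = 0 := funext fun i => by
          by_contra h
          have := hmem.2 h
          rw [Finset.card_eq_zero.1 (hm.trans h0)] at this
          simp at this
        rw [this]; exact centre_zero hF M
      · have hm2 : T.card = 2 := by omega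
        obtain ⟨a, b, hab, hT⟩ := Finset.card_eq_two.1 hm2
        have heq : v = pv a b (v a) (v b) := by
          funext i
          by_cases h1 : i = a
          · rw [h1, pv_left hab]
          by_cases h3 : i = b
          · rw [h3, pv_right hab]
          rw [pv_other h1 h3]
          by_contra h
          have := hmem.2 h
          simp [hT, h1, h3] at this
        have hva : v a ≠ 0 := hmem.1 (by simp [hT])
        have hv' := hv
        rw [heq, herm_pv_self hF hab] at hv'
        rw [heq]
        exact hpairs a b hab _ _ hva hv'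
    rcases eq_or_lt_of_le hge with h4 | h4
    · exact hfour T (by omega) v fun i => hmem.symm
    obtain ⟨R, hRT, hR⟩ := Finset.exists_subset_card_eq (show 4 ≤ T.card by omega)
    obtain ⟨i₁, i₂, i₃, i₄, h12, h13, h14, h23, h24, h34, rfl⟩ := Finset.card_eq_four.1 hR
    have hv1 := hmem.1 (hRT (by simp : i₁ ∈ _))
    have hv2 := hmem.1 (hRT (by simp : i₂ ∈ _))
    have hv3 := hmem.1 (hRT (by simp : i₃ ∈ _))
    have hv4 := hmem.1 (hRT (by simp : i₄ ∈ _))
    have hω0 := normOne_ne_zero hω
    let x : Fin n → F := fun i => if i = i₁ ∨ i = i₂ then v i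
      else if i = i₃ then ω ^ 2 * v i else if i = i₄ then ω * v i else 0
    let w : Fin n → F := fun i => if i = i₁ ∨ i = i₂ then 0
      else if i = i₃ then ω * v i else if i = i₄ then ω ^ 2 * v i else v i
    have hx : ∀ i, x i ≠ 0 ↔ i ∈ ({i₁, i₂, i₃, i₄} : Finset (Fin n)) := by
      intro i
      simp only [x, Finset.mem_insert, Finset.mem_singleton]
      constructor
      · intro h
        split_ifs at h with a b c
        · tauto
        · tauto
        · tauto
        · exact absurd rfl h
      · rintro (rfl | rfl | rfl | rfl)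
        · simpa using hv1
        · simpa using hv2
        · simp [h13.symm, h23.symm, hv3, hω0]
        · simp [h14.symm, h24.symm, h34.symm, hv4, hω0]
    have hxC := hfour _ hR x hx
    have hsum : ∀ i, w i + x i = v i := by
      intro i
      simp only [x, w]
      split_ifs
      · rw [zero_add]
      · linear_combination v i * hω3 - v i * h2
      · linear_combination v i * hω3 - v i * h2
      · rw [add_zero]
    have hwx : hermForm n F 2 w x = 1 := by
      rw [hermForm, Finset.sum_eq_add i₃ i₄ h34]
      · simp only [x, w, if_neg (show ¬(i₃ = i₁ ∨ i₃ = i₂) by simp [h13.symm, h23.symm]),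
          if_neg (show ¬(i₄ = i₁ ∨ i₄ = i₂) by simp [h14.symm, h24.symm]), if_true,
          if_neg h34.symm]
        have e3 := normOne_two hF hv3
        have e4 := normOne_two hF hv4
        linear_combination (ω ^ 5) * e3 + (ω ^ 4) * e4 + (ω ^ 2 + ω) * hω + hω3 - h2
      · intro i _ hi
        simp only [x, w]
        split_ifs with a b c
        · rw [zero_mul]
        · exact absurd b hi.1
        · exact absurd c hi.2
        · rw [zero_pow (by omega), mul_zero]
      · simp
      · simp
    have hwiso : hermForm n F 2 w w = 0 := by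
      have h1 : hermForm n F 2 (fun i => w i + x i) (fun i => w i + x i) = 0 := by
        rw [funext hsum]; exact hv
      change hermForm n F 2 (w + x) (w + x) = 0 at h1
      rw [herm_add_left, herm_add_right hF, herm_add_right hF, hxC.1, hwx,
        herm_conj hF w x, hwx] at h1
      linear_combination h1 - h2
    have hwC : Centre M w := by
      refine ih _ ?_ w rfl hwiso
      rw [← hm]
      refine Finset.card_lt_card ((Finset.ssubset_iff_of_subset fun i hi => ?_).2
        ⟨i₁, hRT (by simp), by simp [w]⟩)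
      simp only [Finset.mem_filter, Finset.mem_univ, true_and, w] at hi
      refine hmem.2 fun h => hi ?_
      split_ifs <;> simp [h]
    have hc1 : (1 : F) + 1 ^ 2 = 0 := by linear_combination h2
    have := centre_act hF ((centre_iff hF hxC.1).1 hxC 1 hc1) hwC
    rw [tv_act, hwx, mul_one, one_smul] at this
    convert this using 1
    funext i
    exact (hsum i).symm

end Cfsg.Agent.UnitaryFrame84
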