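import Mathlib
import Cfsg.Agent.Lib.UnitaryFrameGrow84

/-!
Transvection centres from a single Eichler transformation, and monomial elements moving a
vector along an isotropic direction orthogonal to it.
-/

set_option autoImplicit false
set_option linter.unusedSectionVars false

namespace Cfsg.Agent.UnitaryFrame84

open scoped Matrix MatrixGroups
open Cfsg.Agent.OrthUnitaryHerm
open Cfsg.Agent.OrthUnitaryTransvection
open Cfsg.Agent.OrthUnitarySubspaces
open Cfsg.Agent.OrthUnitaryMaximal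

variable {F : Type*} [Field F] [Fintype F] {q n : ℕ}
variable {t : ℕ} {β : Fin n → Fin t} {M : Subgroup (SU n F q)}

/-- The difference of two Eichler transformations with the same centre. -/
theorem eich_diff (hF : Fintype.card F = q ^ 2) {z w₁ w₂ : Fin n → F} {μ₁ μ₂ : F}
    {he : hermForm n F q z z = 0} {h₁ : hermForm n F q w₁ z = 0}
    {hμ₁ : μ₁ + μ₁ ^ q + hermForm n F q w₁ w₁ = 0} {h₂ : hermForm n F q w₂ z = 0}
    {hμ₂ : μ₂ + μ₂ ^ q + hermForm n F q w₂ w₂ = 0}
    (hM₁ : eich hF z w₁ μ₁ he h₁ hμ₁ ∈ M) (hM₂ : eich hF z w₂ μ₂ he h₂ hμ₂ ∈ M) :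
    ∃ μ hw hμ, eich hF z (w₂ - w₁) μ he hw hμ ∈ M := by
  set μ := μ₂ - μ₁ + hermForm n F q w₁ (w₂ - w₁) with hμdef
  have hw : hermForm n F q (w₂ - w₁) z = 0 := by rw [herm_sub_left, h₁, h₂, sub_zero]
  have hμ : μ + μ ^ q + hermForm n F q (w₂ - w₁) (w₂ - w₁) = 0 := by
    simp only [hμdef, herm_sub_left, herm_sub_right hF, add_pow_q hF, sub_pow_q hF,
      ← herm_conj hF]
    linear_combination hμ₂ - hμ₁
  refine ⟨μ, hw, hμ, ?_⟩
  have hmul : eich hF z (w₂ - w₁) μ he hw hμ * eich hF z w₁ μ₁ he h₁ hμ₁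
      = eich hF z w₂ μ₂ he h₂ hμ₂ := by
    rw [eich_mul hF he hw h₁ hμ hμ₁]
    exact eich_congr hF he _ _ _ _ (sub_add_cancel _ _) (by rw [hμdef]; ring)
  rw [eq_mul_inv_of_mul_eq hmul]
  exact M.mul_mem hM₂ (M.inv_mem hM₁)

/-- The commutator of two Eichler transformations with the same centre. -/
theorem tv_of_two (hF : Fintype.card F = q ^ 2) {z w w' : Fin n → F} {μ μ' : F}
    {he : hermForm n F q z z = 0} {h₁ : hermForm n F q w z = 0}
    {hμ : μ + μ ^ q + hermForm n F q w w = 0} {h₂ : hermForm n F q w' z = 0}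
    {hμ' : μ' + μ' ^ q + hermForm n F q w' w' = 0}
    (hM : eich hF z w μ he h₁ hμ ∈ M) (hM' : eich hF z w' μ' he h₂ hμ' ∈ M)
    {c : F} (hc : c + c ^ q = 0) (hcv : c = hermForm n F q w w' - hermForm n F q w' w) :
    tv hF z c he hc ∈ M := by
  have hmul : tv hF z c he hc * (eich hF z w' μ' he h₂ hμ' * eich hF z w μ he h₁ hμ)
      = eich hF z w μ he h₁ hμ * eich hF z w' μ' he h₂ hμ' := by
    rw [eich_mul hF he h₁ h₂ hμ hμ', eich_mul hF he h₂ h₁ hμ' hμ]
    refine su_ext fun x => ?_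
    rw [act_mul, eich_act, tv_act, eich_act]
    simp only [herm_add_left, herm_add_right hF, herm_smul_left, he, h₁, h₂, mul_zero, add_zero,
      hcv]
    module
  rw [eq_mul_inv_of_mul_eq hmul]
  exact M.mul_mem (M.mul_mem hM hM') (M.inv_mem (M.mul_mem hM' hM))

/-- A single Eichler transformation gives all transvections with the same centre. -/
theorem centre_of_eich (hF : Fintype.card F = q ^ 2) (hH : ∀ g, Pres β g → g ∈ M)
    {z w : Fin n → F} {μ : F} {he : hermForm n F q z z = 0} {hw : hermForm n F q w z = 0}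
    {hμ : μ + μ ^ q + hermForm n F q w w = 0} (hM : eich hF z w μ he hw hμ ∈ M)
    {a b d : Fin n} (hab : a ≠ b) (had : a ≠ d) (hbd : b ≠ d)
    (hza : z a = 0) (hzb : z b = 0) (hzd : z d = 0) (hwa : w a ≠ 0) : Centre M z := by
  classical
  obtain ⟨l, hl, hl2⟩ := exists_normOne_sq_ne_one (F := F) hF
  set τ : F := (l : F) with hτdef
  have hτ : τ ^ (q + 1) = 1 := by rw [hτdef, ← Units.val_pow_eq_pow_val, hl, Units.val_one]
  have hτ1 : τ ≠ 1 := fun h => hl2 (by
    have : l = 1 := Units.ext h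
    rw [this, one_pow])
  obtain ⟨h, hh, hact⟩ := exists_diag2 (n := n) hab hτ
  have hfix : act h z = z := by
    funext i
    rw [hact]
    split_ifs with h1 h2
    · rw [h1, hza, mul_zero]
    · rw [h2, hzb, mul_zero]
    · rw [one_mul]
  have hmem := hH _ (hh β)
  have hM₂ : eich hF z (act h w) μ he (by rw [← hfix, herm_act, hw]) (by rw [herm_act, hμ]) ∈ M := by
    have h1 := M.mul_mem (M.mul_mem hmem hM) (M.inv_mem hmem)
    rw [eich_conj] at h1
    convert h1 using 2
    exact hfix.symm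
  obtain ⟨μ₃, hw₃, hμ₃, hM₃⟩ := eich_diff hF hM hM₂
  set w' := act h w - w with hw'
  have hw'a : w' a = (τ - 1) * w a := by
    rw [hw', Pi.sub_apply, hact, if_pos rfl]; ring
  have hw'o : ∀ i, i ≠ a → i ≠ b → w' i = 0 := fun i h1 h2 => by
    rw [hw', Pi.sub_apply, hact, if_neg h1, if_neg h2, one_mul, sub_self]
  have hw'a0 : w' a ≠ 0 := by rw [hw'a]; exact mul_ne_zero (sub_ne_zero.2 hτ1) hwa
  set N := w' a ^ (q + 1) with hN
  have hN0 : N ≠ 0 := pow_ne_zero _ hw'a0
  refine centre_of_many hF he ((normSet q (1 : F)).image fun σ => N * (σ ^ q - σ)) ?_ ?_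
  · have h1 : (normSet q (1 : F)).card
        ≤ 2 * ((normSet q (1 : F)).image fun σ => N * (σ ^ q - σ)).card := by
      refine Finset.card_le_mul_card_image _ 2 fun T hT => ?_
      obtain ⟨σ, hσ, rfl⟩ := Finset.mem_image.1 hT
      refine le_trans (Finset.card_le_card (t := {σ, -σ ^ q}) fun σ' hσ' => ?_) Finset.card_le_two
      rw [mem_normSet] at hσ
      simp only [Finset.mem_filter, mem_normSet] at hσ'
      have h1 : σ' ^ q - σ' = σ ^ q - σ := mul_left_cancel₀ hN0 hσ'.2
      have h2 : σ' * σ' ^ q = 1 := by rw [← pow_succ', hσ'.1]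
      have h3 : σ * σ ^ q = 1 := by rw [← pow_succ', hσ]
      have h4 : (σ' - σ) * (σ' + σ ^ q) = 0 := by linear_combination h2 - h3 - σ' * h1
      rcases mul_eq_zero.1 h4 with h | h
      · simp [sub_eq_zero.1 h]
      · simp [eq_neg_of_add_eq_zero_left h]
    rw [card_normSet hF (one_pow q) one_ne_zero] at h1
    omega
  · intro c hc
    obtain ⟨σ, hσ, rfl⟩ := Finset.mem_image.1 hc
    rw [mem_normSet] at hσ
    obtain ⟨k, hk, kact⟩ := exists_diag2 (n := n) had hσ
    have kfix : act k z = z := by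
      funext i
      rw [kact]
      split_ifs with h1 h2
      · rw [h1, hza, mul_zero]
      · rw [h2, hzd, mul_zero]
      · rw [one_mul]
    have kmem := hH _ (hk β)
    have hM₄ : eich hF z (act k w') μ₃ he (by rw [← kfix, herm_act, hw₃])
        (by rw [herm_act, hμ₃]) ∈ M := by
      have h1 := M.mul_mem (M.mul_mem kmem hM₃) (M.inv_mem kmem)
      rw [eich_conj] at h1
      convert h1 using 2
      exact kfix.symm
    have hskew : N * (σ ^ q - σ) + (N * (σ ^ q - σ)) ^ q = 0 := by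
      rw [mul_pow, sub_pow_q hF, pow_q_q hF, hN, norm_pow_q hF]; ring
    refine ⟨hskew, tv_of_two hF hM₃ hM₄ hskew ?_⟩
    rw [hermForm, hermForm, ← Finset.sum_sub_distrib, Finset.sum_eq_single a]
    · rw [kact, if_pos rfl, hN, mul_pow]; ring
    · intro i _ hi
      rw [kact, if_neg hi]
      by_cases hib : i = b
      · subst hib
        rw [if_neg hbd, one_mul, sub_self]
      · rw [hw'o i hi hib]; simp [zero_pow_q hF]
    · simp

/-- A monomial element moving `x` by an isotropic vector orthogonal to it, supported on four given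
coordinates. -/
theorem exists_swap (hF : Fintype.card F = q ^ 2) (hβ : Function.Injective β) {x : Fin n → F}
    {a b c d : Fin n} (hab : a ≠ b) (hac : a ≠ c) (had : a ≠ d) (hbc : b ≠ c) (hbd : b ≠ d)
    (hcd : c ≠ d) (ha : x a ≠ 0) (hb : x b ≠ 0) (hc : x c ≠ 0) (hd : x d ≠ 0) :
    ∃ h : SU n F q, Pres β h ∧
      (∀ v i, i ≠ a → i ≠ b → i ≠ c → i ≠ d → act h v i = v i) ∧
      (∀ v, v a = 0 → v b = 0 → v c = 0 → v d = 0 → act h v = v) ∧
      hermForm n F q (act h x - x) x = 0 ∧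
      hermForm n F q (act h x - x) (act h x - x) = 0 ∧
      (act h x - x) a ≠ 0 := by
  classical
  set A := x a ^ (q + 1) with hAdef
  set B := x b ^ (q + 1) with hBdef
  set C := x c ^ (q + 1) with hCdef
  set D := x d ^ (q + 1) with hDdef
  have hA0 : A ≠ 0 := pow_ne_zero _ ha
  have hAB : (A * B) ^ q = A * B := by rw [mul_pow, norm_pow_q hF, norm_pow_q hF]
  have hCD : (C * D) ^ q = C * D := by rw [mul_pow, norm_pow_q hF, norm_pow_q hF]
  have hAB0 : A * B ≠ 0 := mul_ne_zero hA0 (pow_ne_zero _ hb)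
  have hCD0 : C * D ≠ 0 := mul_ne_zero (pow_ne_zero _ hc) (pow_ne_zero _ hd)
  have hsq : (A + B + C + D) ^ q = A + B + C + D := by
    simp only [add_pow_q hF, norm_pow_q hF, hAdef, hBdef, hCdef, hDdef]
  obtain ⟨u₁, u₂, hu₁, hu₂, hsum, hne⟩ : ∃ u₁ u₂ : F, u₁ ^ (q + 1) = A * B ∧
      u₂ ^ (q + 1) = C * D ∧ (u₁ + u₁ ^ q) + (u₂ + u₂ ^ q) = A + B + C + D ∧ u₁ ≠ A := by
    have h1 := card_traceSet hF hAB hAB0
    have h2 := card_traceSet hF hCD hCD0
    by_cases hAeq : A = B
    · have hu0 : A ^ (q + 1) = A * B := by rw [← hAeq, pow_succ, hAdef, norm_pow_q hF]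
      have h3 := card_traceSet' hF hAB0 hu0 (norm_pow_q hF _)
      have h4 : A + A ^ q ∈ traceSet q (A * B) := mem_traceSet.2 ⟨A, hu0, rfl⟩
      obtain ⟨T, hT, T', hT', hTT⟩ := exists_trace_sum hF ((traceSet q (A * B)).erase (A + A ^ q))
        (traceSet q (C * D)) ((Finset.erase_subset _ _).trans (traceSet_subset hF _))
        (traceSet_subset hF _) hsq (by rw [Finset.card_erase_of_mem h4]; omega)
      rw [Finset.mem_erase] at hT
      obtain ⟨u₁, hu₁, rfl⟩ := mem_traceSet.1 hT.2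
      obtain ⟨u₂, hu₂, rfl⟩ := mem_traceSet.1 hT'
      exact ⟨u₁, u₂, hu₁, hu₂, hTT, fun h => hT.1 (by rw [h])⟩
    · obtain ⟨T, hT, T', hT', hTT⟩ := exists_trace_sum hF (traceSet q (A * B))
        (traceSet q (C * D)) (traceSet_subset hF _) (traceSet_subset hF _) hsq (by omega)
      obtain ⟨u₁, hu₁, rfl⟩ := mem_traceSet.1 hT
      obtain ⟨u₂, hu₂, rfl⟩ := mem_traceSet.1 hT'
      refine ⟨u₁, u₂, hu₁, hu₂, hTT, fun h => hAeq ?_⟩
      rw [h, pow_succ, hAdef, norm_pow_q hF, ← hAdef] at hu₁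
      exact mul_left_cancel₀ hA0 hu₁
  set π : Equiv.Perm (Fin n) := Equiv.swap a b * Equiv.swap c d with hπ
  have hπa : π a = b := by
    rw [hπ, Equiv.Perm.mul_apply, Equiv.swap_apply_of_ne_of_ne hac had, Equiv.swap_apply_left]
  have hπb : π b = a := by
    rw [hπ, Equiv.Perm.mul_apply, Equiv.swap_apply_of_ne_of_ne hbc hbd, Equiv.swap_apply_right]
  have hπc : π c = d := by
    rw [hπ, Equiv.Perm.mul_apply, Equiv.swap_apply_left,
      Equiv.swap_apply_of_ne_of_ne had.symm hbd.symm]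
  have hπd : π d = c := by
    rw [hπ, Equiv.Perm.mul_apply, Equiv.swap_apply_right,
      Equiv.swap_apply_of_ne_of_ne hac.symm hbc.symm]
  have hπo : ∀ i, i ≠ a → i ≠ b → i ≠ c → i ≠ d → π i = i := fun i h1 h2 h3 h4 => by
    rw [hπ, Equiv.Perm.mul_apply, Equiv.swap_apply_of_ne_of_ne h3 h4,
      Equiv.swap_apply_of_ne_of_ne h1 h2]
  let f : Fin n → F := fun i =>
    if i = a then u₁ ^ q / (x b ^ q * x a) else if i = b then u₁ / (x a ^ q * x b)
    else if i = c then u₂ ^ q / (x d ^ q * x c) else if i = d then u₂ / (x c ^ q * x d) else 1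
  have hfa : f a = u₁ ^ q / (x b ^ q * x a) := if_pos rfl
  have hfb : f b = u₁ / (x a ^ q * x b) := by simp [f, hab.symm]
  have hfc : f c = u₂ ^ q / (x d ^ q * x c) := by simp [f, hac.symm, hbc.symm]
  have hfd : f d = u₂ / (x c ^ q * x d) := by simp [f, had.symm, hbd.symm, hcd.symm]
  have hNq : ∀ y z : F, (y ^ q * z) ^ (q + 1) = z ^ (q + 1) * y ^ (q + 1) := fun y z => by
    rw [mul_pow, ← pow_mul, mul_comm q, pow_mul, norm_pow_q hF, mul_comm]
  have hNu : ∀ u : F, (u ^ q) ^ (q + 1) = u ^ (q + 1) := fun u => by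
    rw [← pow_mul, mul_comm q, pow_mul, norm_pow_q hF]
  have hf : ∀ i, f i ^ (q + 1) = 1 := by
    intro i
    simp only [f]
    split_ifs
    · rw [div_pow, hNu, hNq, hu₁, div_self hAB0]
    · rw [div_pow, hNq, hu₁, mul_comm B A, div_self hAB0]
    · rw [div_pow, hNu, hNq, hu₂, div_self hCD0]
    · rw [div_pow, hNq, hu₂, mul_comm D C, div_self hCD0]
    · exact one_pow _
  have hsign : Equiv.Perm.sign π = 1 := by
    rw [hπ, map_mul, Equiv.Perm.sign_swap hab, Equiv.Perm.sign_swap hcd]; decide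
  have hdet : (Equiv.Perm.sign π : F) * ∏ i, f i = 1 := by
    rw [hsign, ← Finset.prod_subset (Finset.subset_univ {a, b, c, d}) fun i _ hi => ?_]
    · rw [Finset.prod_insert (by simp [hab, hac, had]), Finset.prod_insert (by simp [hbc, hbd]),
        Finset.prod_insert (by simp [hcd]), Finset.prod_singleton, hfa, hfb, hfc, hfd]
      have e1 : u₁ ^ q / (x b ^ q * x a) * (u₁ / (x a ^ q * x b)) = 1 := by
        rw [div_mul_div_comm, ← pow_succ, hu₁, show x b ^ q * x a * (x a ^ q * x b) = A * B by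
          rw [hAdef, hBdef, pow_succ, pow_succ]; ring, div_self hAB0]
      have e2 : u₂ ^ q / (x d ^ q * x c) * (u₂ / (x c ^ q * x d)) = 1 := by
        rw [div_mul_div_comm, ← pow_succ, hu₂, show x d ^ q * x c * (x c ^ q * x d) = C * D by
          rw [hCdef, hDdef, pow_succ, pow_succ]; ring, div_self hCD0]
      push_cast
      linear_combination (u₂ ^ q / (x d ^ q * x c) * (u₂ / (x c ^ q * x d))) * e1 + e2
    · simp only [Finset.mem_insert, Finset.mem_singleton, not_or] at hi
      simp [f, hi.1, hi.2.1, hi.2.2.1, hi.2.2.2]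
  have hpres := monEl_pres (β := β) π f hf hdet fun i j h => by
    rw [π.injective (hβ h)]
  set h := monEl π f hf hdet
  have hout : ∀ v i, i ≠ a → i ≠ b → i ≠ c → i ≠ d → act h v i = v i := by
    intro v i h1 h2 h3 h4
    rw [monEl_act, hπo i h1 h2 h3 h4, show f i = 1 by simp [f, h1, h2, h3, h4], one_mul]
  have hxa : act h x a = u₁ / x a ^ q := by
    rw [monEl_act, hπa, hfb, div_mul_eq_mul_div, mul_div_mul_right _ _ hb]
  have hxb : act h x b = u₁ ^ q / x b ^ q := by
    rw [monEl_act, hπb, hfa, div_mul_eq_mul_div, mul_div_mul_right _ _ ha]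
  have hxc : act h x c = u₂ / x c ^ q := by
    rw [monEl_act, hπc, hfd, div_mul_eq_mul_div, mul_div_mul_right _ _ hd]
  have hxd : act h x d = u₂ ^ q / x d ^ q := by
    rw [monEl_act, hπd, hfc, div_mul_eq_mul_div, mul_div_mul_right _ _ hc]
  have hzx : hermForm n F q (act h x - x) x = 0 := by
    rw [hermForm, ← Finset.sum_subset (Finset.subset_univ {a, b, c, d}) fun i _ hi => ?_]
    · rw [Finset.sum_insert (by simp [hab, hac, had]), Finset.sum_insert (by simp [hbc, hbd]),
        Finset.sum_insert (by simp [hcd]), Finset.sum_singleton]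
      simp only [Pi.sub_apply, sub_mul, hxa, hxb, hxc, hxd]
      rw [div_mul_cancel₀ _ (pow_ne_zero _ ha), div_mul_cancel₀ _ (pow_ne_zero _ hb),
        div_mul_cancel₀ _ (pow_ne_zero _ hc), div_mul_cancel₀ _ (pow_ne_zero _ hd),
        ← pow_succ', ← pow_succ', ← pow_succ', ← pow_succ', ← hAdef, ← hBdef, ← hCdef, ← hDdef]
      linear_combination hsum
    · simp only [Finset.mem_insert, Finset.mem_singleton, not_or] at hi
      rw [Pi.sub_apply, hout x i hi.1 hi.2.1 hi.2.2.1 hi.2.2.2, sub_self, zero_mul]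
  refine ⟨h, hpres, hout, fun v h1 h2 h3 h4 => funext fun i => ?_, hzx, ?_, fun h0 => hne ?_⟩
  · by_cases hia : i = a
    · rw [hia, monEl_act, hπa, h2, mul_zero, h1]
    by_cases hib : i = b
    · rw [hib, monEl_act, hπb, h1, mul_zero, h2]
    by_cases hic : i = c
    · rw [hic, monEl_act, hπc, h4, mul_zero, h3]
    by_cases hid : i = d
    · rw [hid, monEl_act, hπd, h3, mul_zero, h4]
    exact hout v i hia hib hic hid
  · have hxz := herm_skew_zero hF hzx
    have h1 : hermForm n F q (act h x) (act h x) = hermForm n F q x x := herm_act h x x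
    conv_lhs at h1 => rw [show act h x = x + (act h x - x) by abel]
    rw [herm_add_left, herm_add_right hF, herm_add_right hF, hzx, hxz] at h1
    linear_combination h1
  · rw [Pi.sub_apply, sub_eq_zero, hxa, div_eq_iff (pow_ne_zero _ ha), ← pow_succ'] at h0
    exact h0

end Cfsg.Agent.UnitaryFrame84
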