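import Mathlib
import Cfsg.Agent.Lib.UnitaryFrameSiegel84

/-!
A non-monomial unitary matrix maps some vector with two coordinates of norm one to a vector with
at least three non-zero coordinates.
-/

set_option autoImplicit false
set_option linter.unusedSectionVars false

namespace Cfsg.Agent.UnitaryFrame84

open scoped Matrix MatrixGroups
open Cfsg.Agent.OrthUnitaryHerm
open Cfsg.Agent.OrthUnitaryTransvection
open Cfsg.Agent.OrthUnitarySubspaces
open Cfsg.Agent.OrthUnitaryMaximal

variable {F : Type*} [Field F] [Fintype F] {q n : ℕ}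

/-- The support of a vector. -/
noncomputable def suppF (v : Fin n → F) : Finset (Fin n) :=
  letI := Classical.decEq F
  Finset.univ.filter fun i => v i ≠ 0

theorem mem_suppF {v : Fin n → F} {i : Fin n} : i ∈ suppF v ↔ v i ≠ 0 := by simp [suppF]

theorem act_zero (g : SU n F q) : act g (0 : Fin n → F) = 0 := by
  simpa using act_smul g (0 : F) 0

theorem act_inj {g : SU n F q} {x y : Fin n → F} (h : act g x = act g y) : x = y := by
  rw [← act_inv_act g x, h, act_inv_act]

theorem mon_apply {g : SU n F q} (hg : IsMon g) (a : Fin n) :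
    ∃ i l, l ≠ 0 ∧ act g (e a) = Pi.single i l := by
  obtain ⟨i, hi⟩ : ∃ i, act g (e a) i ≠ 0 := by
    by_contra h
    push Not at h
    have h0 : act g (e a) = act g 0 := by rw [act_zero]; exact funext h
    simpa [e] using congrFun (act_inj h0) a
  refine ⟨i, _, hi, funext fun j => ?_⟩
  by_cases hj : j = i
  · subst hj; simp
  · rw [Pi.single_eq_of_ne hj]
    by_contra h
    exact hj (hg a a j i rfl h hi)

theorem mon_of_apply {g : SU n F q} (h : ∀ a, ∃ i l, act g (e a) = Pi.single i l) : IsMon g := by
  intro a b i j hab hi hj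
  obtain rfl : a = b := hab
  obtain ⟨k, l, hk⟩ := h a
  rw [hk] at hi hj
  have h1 : i = k := by by_contra hne; exact hi (Pi.single_eq_of_ne hne _)
  have h2 : j = k := by by_contra hne; exact hj (Pi.single_eq_of_ne hne _)
  rw [h1, h2]

theorem mon_of_card {g : SU n F q} (h : ∀ a, (suppF (act g (e a))).card ≤ 1) : IsMon g := by
  intro a b i j hab hi hj
  obtain rfl : a = b := hab
  exact Finset.card_le_one.1 (h a) i (mem_suppF.2 hi) j (mem_suppF.2 hj)

theorem mon_mul {g g' : SU n F q} (hg : IsMon g) (hg' : IsMon g') : IsMon (g * g') := by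
  refine mon_of_apply fun a => ?_
  obtain ⟨i, l, -, h1⟩ := mon_apply hg' a
  obtain ⟨j, m, -, h2⟩ := mon_apply hg i
  refine ⟨j, l * m, ?_⟩
  rw [act_mul, h1, show (Pi.single i l : Fin n → F) = l • e i by
    rw [e, ← Pi.single_smul', smul_eq_mul, mul_one], act_smul, h2, ← Pi.single_smul', smul_eq_mul]

/-- An injective map cannot send many coordinate vectors into few coordinates. -/
theorem card_le_of_supp (g : SU n F q) (I S : Finset (Fin n))
    (h : ∀ a ∈ I, ∀ i, i ∉ S → act g (e a) i = 0) : I.card ≤ S.card := by
  classical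
  let E : (I → F) → Fin n → F := fun x => ∑ a : I, x a • e (a : Fin n)
  let L : (I → F) →ₗ[F] (S → F) :=
    { toFun := fun x i => ∑ a : I, x a * act g (e (a : Fin n)) i
      map_add' := fun x y => funext fun i => by simp [add_mul, Finset.sum_add_distrib]
      map_smul' := fun c x => funext fun i => by simp [Finset.mul_sum, mul_assoc] }
  have hact : ∀ x i, act g (E x) i = ∑ a : I, x a * act g (e (a : Fin n)) i := by
    intro x i
    simp only [E, act, Matrix.mulVec_sum, Matrix.mulVec_smul, Finset.sum_apply, Pi.smul_apply,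
      smul_eq_mul]
  have hL : Function.Injective L := by
    refine (injective_iff_map_eq_zero L).2 fun x hx => ?_
    have h0 : act g (E x) = act g 0 := by
      rw [act_zero]
      funext i
      rw [hact]
      by_cases hi : i ∈ S
      · exact congrFun hx ⟨i, hi⟩
      · exact Finset.sum_eq_zero fun a _ => by rw [h a a.2 i hi, mul_zero]
    funext a
    have h1 := congrFun (act_inj h0) a
    simp only [E, Finset.sum_apply, Pi.smul_apply, smul_eq_mul, Pi.zero_apply, e] at h1
    rw [Finset.sum_eq_single a] at h1
    · simpa using h1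
    · intro b _ hb
      rw [Pi.single_eq_of_ne (fun h => hb (Subtype.ext h).symm), mul_zero]
    · simp
  have := LinearMap.finrank_le_finrank_of_injective hL
  simpa using this

/-- Norm-one combinations with few non-zero coordinates force few coordinates. -/
theorem union_le_two (hF : Fintype.card F = q ^ 2) {x y : Fin n → F}
    (h : ∀ l : F, l ^ (q + 1) = 1 → (suppF (x + l • y)).card ≤ 2) :
    (suppF x ∪ suppF y).card ≤ 2 ∨
      (q = 2 ∧ suppF x = suppF y ∧ (suppF x).card = 3) := by
  classical
  set U := suppF x ∪ suppF y with hU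
  by_cases h3 : U.card ≤ 2
  · exact Or.inl h3
  refine Or.inr ?_
  set K := suppF x ∩ suppF y with hK
  let Z : F → Finset (Fin n) := fun l => K.filter fun i => x i + l * y i = 0
  have hZ : ∀ l ∈ normSet q (1 : F), U.card - 2 ≤ (Z l).card := by
    intro l hl
    rw [mem_normSet] at hl
    have hsub : U ⊆ suppF (x + l • y) ∪ Z l := by
      intro i hi
      by_cases h0 : x i + l * y i = 0
      · refine Finset.mem_union_right _ (Finset.mem_filter.2 ⟨?_, h0⟩)
        rw [hK, Finset.mem_inter, mem_suppF, mem_suppF]
        rw [hU, Finset.mem_union, mem_suppF, mem_suppF] at hi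
        rcases hi with hx | hy
        · exact ⟨hx, fun hy => hx (by linear_combination h0 - l * hy)⟩
        · exact ⟨fun hx => mul_ne_zero (normOne_ne_zero hl) hy (by linear_combination h0 - hx), hy⟩
      · exact Finset.mem_union_left _ (mem_suppF.2 (by simpa using h0))
    have := (Finset.card_le_card hsub).trans (Finset.card_union_le _ _)
    have := h l hl
    omega
  have hdisj : ((normSet q (1 : F)) : Set F).PairwiseDisjoint Z := by
    intro l _ l' _ hne
    refine Finset.disjoint_left.2 fun i hi hi' => hne ?_
    simp only [Z, Finset.mem_filter, hK, Finset.mem_inter, mem_suppF] at hi hi'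
    have : (l - l') * y i = 0 := by linear_combination hi.2 - hi'.2
    exact sub_eq_zero.1 ((mul_eq_zero.1 this).resolve_right hi.1.2)
  have hsum := Finset.card_le_card
    (Finset.biUnion_subset.2 fun l (_ : l ∈ normSet q (1 : F)) => Finset.filter_subset
      (fun i => x i + l * y i = 0) K)
  rw [Finset.card_biUnion hdisj] at hsum
  have hlow := Finset.card_nsmul_le_sum _ _ _ hZ
  rw [card_normSet hF (one_pow q) one_ne_zero, smul_eq_mul] at hlow
  have hlow' : (q + 1) * (U.card - 2) ≤ K.card := hlow.trans hsum
  have hKx : K ⊆ suppF x := Finset.inter_subset_left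
  have hKy : K ⊆ suppF y := Finset.inter_subset_right
  have hxU : suppF x ⊆ U := Finset.subset_union_left
  have hyU : suppF y ⊆ U := Finset.subset_union_right
  have c1 := Finset.card_le_card hKx
  have c2 := Finset.card_le_card hKy
  have c3 := Finset.card_le_card hxU
  have c4 := Finset.card_le_card hyU
  have hq := two_le_q hF
  have h5 : (q + 1) * 1 ≤ (q + 1) * (U.card - 2) := Nat.mul_le_mul_left _ (by omega)
  have h6 : 3 * (U.card - 2) ≤ (q + 1) * (U.card - 2) := Nat.mul_le_mul_right _ (by omega)
  have hU3 : U.card = 3 := by omega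
  have hx3 : suppF x = U := Finset.eq_of_subset_of_card_le hxU (by omega)
  have hy3 : suppF y = U := Finset.eq_of_subset_of_card_le hyU (by omega)
  exact ⟨by omega, hx3.trans hy3.symm, hx3 ▸ hU3⟩

/-- A matrix which is not monomial on the coordinates in `I` has a wide image of a pair vector. -/
theorem exists_wide (hF : Fintype.card F = q ^ 2) (g : SU n F q) (I : Finset (Fin n))
    (hI : 4 ≤ I.card) (hng : ∃ a ∈ I, 2 ≤ (suppF (act g (e a))).card) :
    ∃ a ∈ I, ∃ b ∈ I, a ≠ b ∧ ∃ l : F, l ^ (q + 1) = 1 ∧
      3 ≤ (suppF (act g (pv a b 1 l))).card := by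
  classical
  by_contra hcon
  push Not at hcon
  have key : ∀ a ∈ I, ∀ b ∈ I, a ≠ b →
      (suppF (act g (e a)) ∪ suppF (act g (e b))).card ≤ 2 ∨
        (q = 2 ∧ suppF (act g (e a)) = suppF (act g (e b)) ∧ (suppF (act g (e a))).card = 3) := by
    intro a ha b hb hab
    refine union_le_two hF fun l hl => ?_
    have heq : act g (pv a b 1 l) = act g (e a) + l • act g (e b) := by
      rw [pv, act_add, show (Pi.single b l : Fin n → F) = l • e b by
        rw [e, ← Pi.single_smul', smul_eq_mul, mul_one], act_smul]
    rw [← heq]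
    have := hcon a ha b hb hab l hl
    omega
  obtain ⟨a, ha, ha2⟩ := hng
  obtain ⟨b₀, hb₀, hb₀a⟩ := Finset.exists_mem_ne (show 1 < I.card by omega) a
  have h3 : (suppF (act g (e a))).card ≤ 3 := by
    rcases key a ha b₀ hb₀ hb₀a.symm with h | h
    · have := Finset.card_le_card (Finset.subset_union_left (s₂ := suppF (act g (e b₀)))
        (s₁ := suppF (act g (e a))))
      omega
    · omega
  have hsub : ∀ b ∈ I, ∀ i, i ∉ suppF (act g (e a)) → act g (e b) i = 0 := by
    intro b hb i hi
    by_contra h
    by_cases hab : a = b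
    · exact hi (mem_suppF.2 (hab ▸ h))
    rcases key a ha b hb hab with hu | ⟨-, hu, -⟩
    · have heq := Finset.eq_of_subset_of_card_le
        (Finset.subset_union_left (s₂ := suppF (act g (e b))) (s₁ := suppF (act g (e a))))
        (by omega)
      exact hi (heq ▸ Finset.mem_union_right _ (mem_suppF.2 h))
    · exact hi (hu ▸ mem_suppF.2 h)
  have := card_le_of_supp g I _ hsub
  omega

end Cfsg.Agent.UnitaryFrame84
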