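import Mathlib
import Cfsg.Agent.Lib.UnitaryFrameWide84

/-!
Conjugates of diagonal involutions in an overgroup of the monomial group: either some element
outside the monomial group fixes a coordinate line, or the moved plane has a vector of small
support.
-/

set_option autoImplicit false
set_option linter.unusedSectionVars false

namespace Cfsg.Agent.UnitaryFrame84

open scoped Matrix MatrixGroups
open Cfsg.Agent.OrthUnitaryHerm
open Cfsg.Agent.OrthUnitaryTransvection
open Cfsg.Agent.OrthUnitarySubspaces
open Cfsg.Agent.OrthUnitaryMaximal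

variable {F : Type*} [Field F] [Fintype F] {q n : ℕ}

/-- Vectors supported on a set of coordinates. -/
def cspan (U : Finset (Fin n)) : Submodule F (Fin n → F) where
  carrier := {x | ∀ i, i ∉ U → x i = 0}
  add_mem' := fun {x y} hx hy i hi => by simp [hx i hi, hy i hi]
  zero_mem' := fun i _ => rfl
  smul_mem' := fun c x hx i hi => by simp [hx i hi]

theorem mem_cspan {U : Finset (Fin n)} {x : Fin n → F} :
    x ∈ (cspan U : Submodule F (Fin n → F)) ↔ ∀ i, i ∉ U → x i = 0 := Iff.rfl

theorem e_mem_cspan {U : Finset (Fin n)} {i : Fin n} (hi : i ∈ U) :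
    (e i : Fin n → F) ∈ (cspan U : Submodule F (Fin n → F)) := fun j hj => by
  simp [e, Pi.single_eq_of_ne (show j ≠ i from fun h => hj (by rw [h]; exact hi))]

theorem cspan_mono {U U' : Finset (Fin n)} (h : U ⊆ U') :
    (cspan U : Submodule F (Fin n → F)) ≤ cspan U' := fun _ hx i hi => hx i fun h' => hi (h h')

theorem herm_cspan (hF : Fintype.card F = q ^ 2) {U : Finset (Fin n)} {x v : Fin n → F}
    (hx : x ∈ (cspan U : Submodule F (Fin n → F))) (hv : ∀ i ∈ U, v i = 0) :
    hermForm n F q v x = 0 := by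
  refine Finset.sum_eq_zero fun i _ => ?_
  by_cases hi : i ∈ U
  · rw [hv i hi, zero_mul]
  · rw [hx i hi, zero_pow_q hF, mul_zero]

/-- The elements of `SU` which are trivial modulo `X`. -/
def resG (X : Submodule F (Fin n → F)) : Subgroup (SU n F q) where
  carrier := {g | ∀ u, act g u - u ∈ X}
  one_mem' := fun u => by simp [act_one]
  mul_mem' := fun {a b} ha hb u => by
    rw [act_mul, show act a (act b u) - u = (act a (act b u) - act b u) + (act b u - u) by abel]
    exact X.add_mem (ha _) (hb u)
  inv_mem' := fun {a} ha u => by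
    have := X.neg_mem (ha (act a⁻¹ u))
    rwa [act_act_inv, neg_sub] at this

theorem mem_resG {X : Submodule F (Fin n → F)} {g : SU n F q} :
    g ∈ resG X ↔ ∀ u, act g u - u ∈ X := Iff.rfl

theorem resG_mono {X Y : Submodule F (Fin n → F)} (h : X ≤ Y) :
    (resG X : Subgroup (SU n F q)) ≤ resG Y := fun _ hg u => h (hg u)

/-- An element of `resG X` fixes the vectors orthogonal to `X`. -/
theorem fix_of_perp (hF : Fintype.card F = q ^ 2) {X : Submodule F (Fin n → F)} {g : SU n F q}
    (hg : g ∈ resG X) {v : Fin n → F} (hv : ∀ x ∈ X, hermForm n F q v x = 0) : act g v = v := by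
  rw [← sub_eq_zero]
  refine eq_zero_of_herm_eq_zero hF fun y => ?_
  have h1 := hv _ (hg (act g⁻¹ y))
  rw [act_act_inv, herm_sub_right hF] at h1
  have h2 : hermForm n F q (act g v) y = hermForm n F q v (act g⁻¹ y) := by
    conv_lhs => rw [← act_act_inv g y]
    rw [herm_act]
  rw [herm_sub_left, h2]
  linear_combination -h1

/-- Dihedral groups: a central involution or conjugate generators. -/
theorem dihedral {G : Type*} [Group G] [Finite G] {a b : G} (ha : a * a = 1) (hb : b * b = 1) :
    (∃ m : ℕ, (a * b) ^ m ≠ 1 ∧ (a * b) ^ m * (a * b) ^ m = 1 ∧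
        Commute ((a * b) ^ m) a ∧ Commute ((a * b) ^ m) b) ∨
      ∃ k : ℕ, (a * b) ^ k * a * ((a * b) ^ k)⁻¹ = b := by
  set d := a * b with hd
  have hai : a⁻¹ = a := inv_eq_of_mul_eq_one_right ha
  have hbi : b⁻¹ = b := inv_eq_of_mul_eq_one_right hb
  have hbd : b = a * d := by rw [hd, ← mul_assoc, ha, one_mul]
  have hda : ∀ k : ℕ, a * d ^ k = (d ^ k)⁻¹ * a := by
    intro k
    have h1 : a * d * a⁻¹ = d⁻¹ := by
      rw [hd, mul_inv_rev, hai, hbi, ← mul_assoc, ha, one_mul]
    have h2 : a * d ^ k * a⁻¹ = (d ^ k)⁻¹ := by rw [← conj_pow, h1, inv_pow]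
    rw [← h2, inv_mul_cancel_right]
  rcases Nat.even_or_odd (orderOf d) with ⟨m, hm⟩ | ⟨k, hk⟩
  · left
    have hpos := orderOf_pos d
    have h2 : d ^ m * d ^ m = 1 := by rw [← pow_add, ← hm, pow_orderOf_eq_one]
    have hca : Commute (d ^ m) a := by
      show d ^ m * a = a * d ^ m
      rw [hda, inv_eq_of_mul_eq_one_right h2]
    refine ⟨m, pow_ne_one_of_lt_orderOf (by omega) (by omega), h2, hca, ?_⟩
    rw [hbd]
    exact hca.mul_right (Commute.pow_self d m)
  · right
    refine ⟨k, ?_⟩
    have h1 : (d ^ k)⁻¹ * (d ^ k)⁻¹ = d := by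
      rw [← mul_inv_rev, ← pow_add]
      have h3 : d ^ (k + k) * d = 1 := by
        rw [← pow_succ, show k + k + 1 = orderOf d by omega, pow_orderOf_eq_one]
      exact inv_eq_of_mul_eq_one_right h3
    have h4 : (d ^ k)⁻¹ * a = a * d ^ k := (hda k).symm
    have h5 : d ^ k * a = a * (d ^ k)⁻¹ := by
      have := congrArg (fun x => d ^ k * (x * (d ^ k)⁻¹)) h4
      simp only [mul_assoc, mul_inv_cancel, mul_one] at this
      rw [← this, ← mul_assoc, mul_inv_cancel, one_mul]
    rw [h5, mul_assoc, h1, ← hbd]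

variable {M : Subgroup (SU n F q)}

/-- An element outside the monomial group fixes a coordinate line. -/
def Win (M : Subgroup (SU n F q)) : Prop :=
  ∃ g ∈ M, ¬IsMon g ∧ ∃ (j : Fin n) (l : F), act g (e j : Fin n → F) = l • (e j : Fin n → F)

/-- A vector of small support. -/
def Small (W : Submodule F (Fin n → F)) : Prop :=
  ∃ v ∈ W, v ≠ 0 ∧ ∃ S : Finset (Fin n), S.card ≤ 8 ∧ ∀ i, i ∉ S → v i = 0

/-- A monomial element trivial modulo `W` plus few coordinates. -/
theorem mon_fix_or_small {W : Submodule F (Fin n → F)} {U : Finset (Fin n)} {k : SU n F q}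
    (hk : IsMon k) (hres : k ∈ resG (W ⊔ cspan U)) (hU : U.card + 2 ≤ 8) :
    Small W ∨ ∀ o, o ∉ U → act k (e o) = e o := by
  classical
  by_contra hcon
  push Not at hcon
  obtain ⟨hsmall, o, ho, hne⟩ := hcon
  obtain ⟨f, l, hl, hf⟩ := mon_apply hk o
  obtain ⟨v, hv, u, hu, hvu⟩ := Submodule.mem_sup.1 (hres (e o))
  rw [hf] at hvu
  have hv_eq : ∀ i, v i = (Pi.single f l : Fin n → F) i - e o i - u i := by
    intro i
    have := congrFun hvu i
    simp only [Pi.add_apply, Pi.sub_apply] at this
    linear_combination this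
  apply hsmall
  refine ⟨v, hv, fun h0 => ?_, U ∪ {o, f}, ?_, fun i hi => ?_⟩
  · have h1 := hv_eq o
    rw [h0, hu o ho, Pi.zero_apply, sub_zero] at h1
    by_cases hfo : f = o
    · subst hfo
      simp only [e, Pi.single_eq_same] at h1
      exact hne (by rw [hf, sub_eq_zero.1 h1.symm])
    · simp [e, Pi.single_eq_of_ne (Ne.symm hfo)] at h1
  · exact (Finset.card_union_le _ _).trans (by have := Finset.card_le_two (a := o) (b := f); omega)
  · simp only [Finset.mem_union, Finset.mem_insert, Finset.mem_singleton, not_or] at hi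
    rw [hv_eq, hu i hi.1]
    simp [e, Pi.single_eq_of_ne hi.2.1, Pi.single_eq_of_ne hi.2.2]

/-- An element fixing all coordinates outside `U` is trivial modulo `cspan U`. -/
theorem resG_of_fix (hF : Fintype.card F = q ^ 2) {U : Finset (Fin n)} {k : SU n F q}
    (hfix : ∀ o, o ∉ U → act k (e o) = e o) : k ∈ resG (cspan U) := by
  intro u o ho
  have h1 := herm_act k u (e o)
  rw [hfix o ho, herm_single_right hF, herm_single_right hF] at h1
  rw [Pi.sub_apply, h1, sub_self]

/-- A unit of norm one other than `±1`. -/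
theorem exists_zeta (hF : Fintype.card F = q ^ 2) :
    ∃ ζ : F, ζ ^ (q + 1) = 1 ∧ ζ ≠ 1 ∧ ζ ^ q ≠ ζ := by
  obtain ⟨l, hl, hl2⟩ := exists_normOne_sq_ne_one (F := F) hF
  have hN : (l : F) ^ (q + 1) = 1 := by rw [← Units.val_pow_eq_pow_val, hl, Units.val_one]
  refine ⟨l, hN, fun h => hl2 ?_, fun h => hl2 ?_⟩
  · have : l = 1 := Units.ext h
    rw [this, one_pow]
  · apply Units.ext
    rw [pow_succ, h] at hN
    rw [Units.val_pow_eq_pow_val, sq, hN, Units.val_one]

/-- The control lemma. -/
theorem ctrl (hF : Fintype.card F = q ^ 2) (hn : 13 ≤ n) (hH : ∀ g, IsMon g → g ∈ M)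
    {W : Submodule F (Fin n → F)} {y : SU n F q} (hy : y ∈ M) (hym : ¬IsMon y)
    {P U : Finset (Fin n)} (hP : P.Nonempty) (hPU : P ⊆ U) (hU : U.card ≤ 4)
    (hpres : ∀ p ∈ P, act y (e p) ∈ (cspan P : Submodule F (Fin n → F)))
    (hpres' : ∀ p ∈ P, act y⁻¹ (e p) ∈ (cspan P : Submodule F (Fin n → F)))
    (hQ : ∀ c ∈ U, c ∉ P → ∃ d ∈ U, d ∉ P ∧ d ≠ c)
    (hres : y ∈ resG (W ⊔ cspan U)) : Win M ∨ Small W := by
  classical
  by_contra hcon
  rw [not_or] at hcon
  obtain ⟨hwin, hsmall⟩ := hcon
  obtain ⟨ζ, hζ, hζ1, -⟩ := exists_zeta (F := F) (q := q) hF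
  obtain ⟨p, hp⟩ := hP
  have step : ∀ z : SU n F q, z ∈ M → (∀ r ∈ P, act z (e r) ∈ (cspan P : Submodule F (Fin n → F))) →
      z ∈ resG (W ⊔ cspan U) → ∀ c d, c ≠ d → c ∉ P → d ∉ P →
      act z⁻¹ (e c) ∈ (cspan (U ∪ {c, d}) : Submodule F (Fin n → F)) := by
    intro z hz hzP hzres c d hcd hc hd
    obtain ⟨τ, hτ, hτact⟩ := exists_diag2 (n := n) hcd hζ
    have hτM : τ ∈ M := hH _ (hτ id)
    have hτfix : ∀ v : Fin n → F, v c = 0 → v d = 0 → act τ v = v := by
      intro v h1 h2
      funext i
      rw [hτact]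
      split_ifs with a b
      · rw [a, h1, mul_zero]
      · rw [b, h2, mul_zero]
      · rw [one_mul]
    set k := τ⁻¹ * z⁻¹ * τ * z with hk
    have hkM : k ∈ M := M.mul_mem (M.mul_mem (M.mul_mem (M.inv_mem hτM) (M.inv_mem hz)) hτM) hz
    have hkp : act k (e p) = e p := by
      have h1 : act τ (act z (e p)) = act z (e p) :=
        hτfix _ (hzP p hp c hc) (hzP p hp d hd)
      have h2 : act τ (e p) = e p := hτfix _
        (by simp [e, Pi.single_eq_of_ne (show c ≠ p from fun h => hc (h ▸ hp))])
        (by simp [e, Pi.single_eq_of_ne (show d ≠ p from fun h => hd (h ▸ hp))])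
      rw [hk, act_mul, act_mul, act_mul, h1, act_inv_act]
      conv_lhs => rw [← h2]
      rw [act_inv_act]
    have hkmon : IsMon k := by
      by_contra h
      exact hwin ⟨k, hkM, h, p, 1, by rw [hkp, one_smul]⟩
    have hτres : τ ∈ resG (cspan (U ∪ {c, d})) := by
      intro u i hi
      simp only [Finset.mem_union, Finset.mem_insert, Finset.mem_singleton, not_or] at hi
      rw [Pi.sub_apply, hτact, if_neg hi.2.1, if_neg hi.2.2, one_mul, sub_self]
    have hkres : k ∈ resG (W ⊔ cspan (U ∪ {c, d})) := by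
      have h1 : z ∈ resG (W ⊔ cspan (U ∪ {c, d})) :=
        resG_mono (sup_le_sup_left (cspan_mono Finset.subset_union_left) _) hzres
      have h2 : τ ∈ resG (W ⊔ cspan (U ∪ {c, d})) := resG_mono le_sup_right hτres
      exact mul_mem (mul_mem (mul_mem (inv_mem h2) (inv_mem h1)) h2) h1
    rcases mon_fix_or_small hkmon hkres (by
      have := Finset.card_union_le U {c, d}
      have := Finset.card_le_two (a := c) (b := d)
      omega) with h | h
    · exact absurd h hsmall
    have hg : z⁻¹ * τ * z ∈ resG (cspan (U ∪ {c, d})) := by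
      rw [show z⁻¹ * τ * z = τ * k by rw [hk]; group]
      exact mul_mem hτres (resG_of_fix hF h)
    have hev : act (z⁻¹ * τ * z) (act z⁻¹ (e c)) - act z⁻¹ (e c) = (ζ - 1) • act z⁻¹ (e c) := by
      have he : act τ (e c) = ζ • e c := by
        funext i
        rw [hτact]
        by_cases h : i = c
        · subst h; simp [e]
        · simp [e, Pi.single_eq_of_ne h]
      rw [act_mul, act_mul, act_act_inv, he, act_smul, sub_smul, one_smul]
    have := hg (act z⁻¹ (e c))
    rw [hev] at this
    intro i hi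
    have h3 := this i hi
    rw [Pi.smul_apply, smul_eq_mul] at h3
    exact (mul_eq_zero.1 h3).resolve_left (sub_ne_zero.2 hζ1)
  have stepy := step y hy hpres hres
  have stepy' := step y⁻¹ (M.inv_mem hy) hpres' (inv_mem hres)
  obtain ⟨c, hc⟩ := exists_notMem U (by omega)
  have hcP : c ∉ P := fun h => hc (hPU h)
  -- the image of `e c` avoids `U`
  have hcoord : ∀ i ∈ U, act y⁻¹ (e c) i = 0 := by
    intro i hi
    have h0 : act y (e i) c = 0 := by
      by_cases hiP : i ∈ P
      · exact hpres i hiP c hcP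
      · obtain ⟨d, hd, hdP, hdi⟩ := hQ i hi hiP
        have h1 := stepy' i d hdi.symm hiP hdP
        rw [inv_inv] at h1
        refine h1 c ?_
        simp only [Finset.mem_union, Finset.mem_insert, Finset.mem_singleton, not_or]
        exact ⟨hc, fun h => hc (h ▸ hi), fun h => hc (h ▸ hd)⟩
    rw [← herm_single_right hF i (act y⁻¹ (e c)), ← herm_act y, act_act_inv, herm_single_left, h0,
      zero_pow_q hF]
  -- so it lies on the line of `e c`
  obtain ⟨d₁, hd₁⟩ := exists_notMem (insert c U) (by
    have := Finset.card_insert_le c U; omega)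
  obtain ⟨d₂, hd₂⟩ := exists_notMem (insert d₁ (insert c U)) (by
    have := Finset.card_insert_le d₁ (insert c U); have := Finset.card_insert_le c U; omega)
  simp only [Finset.mem_insert, not_or] at hd₁ hd₂
  have e1 := stepy c d₁ (Ne.symm hd₁.1) hcP (fun h => hd₁.2 (hPU h))
  have e2 := stepy c d₂ (Ne.symm hd₂.2.1) hcP (fun h => hd₂.2.2 (hPU h))
  have hline : act y⁻¹ (e c) = act y⁻¹ (e c) c • e c := by
    funext i
    rw [Pi.smul_apply, smul_eq_mul]
    by_cases hi : i = c
    · subst hi; simp [e]
    rw [show (e c : Fin n → F) i = 0 from Pi.single_eq_of_ne hi _, mul_zero]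
    by_cases hiU : i ∈ U
    · exact hcoord i hiU
    by_cases hid : i = d₁
    · refine e2 i ?_
      simp only [Finset.mem_union, Finset.mem_insert, Finset.mem_singleton, not_or]
      exact ⟨hiU, hi, fun h => hd₂.1 (h.symm.trans hid)⟩
    · refine e1 i ?_
      simp only [Finset.mem_union, Finset.mem_insert, Finset.mem_singleton, not_or]
      exact ⟨hiU, hi, hid⟩
  set l := act y⁻¹ (e c) c with hl
  have h1 := congrArg (act y) hline
  rw [act_act_inv, act_smul] at h1
  have hl0 : l ≠ 0 := fun h => by
    have h2 := congrFun h1 c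
    simp [h, e] at h2
  exact hwin ⟨y, hy, hym, c, l⁻¹,
    (by conv_rhs => rw [h1, smul_smul, inv_mul_cancel₀ hl0, one_smul])⟩

/-- The diagonal involution negating two coordinates. -/
theorem exists_inv2 (hF : Fintype.card F = q ^ 2) {a b : Fin n} (hab : a ≠ b) :
    ∃ z : SU n F q, IsMon z ∧ z * z = 1 ∧
      ∀ v i, act z v i = (if i = a ∨ i = b then -1 else 1) * v i := by
  have hN : (-1 : F) ^ (q + 1) = 1 := by rw [pow_succ, neg_pow_q hF, one_pow]; ring
  obtain ⟨z, hz, hact⟩ := exists_diag2 (n := n) hab hN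
  have hact' : ∀ v i, act z v i = (if i = a ∨ i = b then -1 else 1) * v i := by
    intro v i
    rw [hact]
    by_cases h1 : i = a
    · simp [h1]
    by_cases h2 : i = b
    · simp [h2, hab.symm, inv_neg]
    simp [h1, h2]
  refine ⟨z, hz id, su_ext fun v => funext fun i => ?_, hact'⟩
  rw [act_mul, hact', hact', act_one]
  split_ifs <;> ring

/-- The minus eigenvectors of a diagonal involution. -/
theorem inv2_neg_iff (h2 : (2 : F) ≠ 0) {a b : Fin n} {z : SU n F q}
    (hact : ∀ v i, act z v i = (if i = a ∨ i = b then -1 else 1) * v i) (v : Fin n → F) :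
    act z v = -v ↔ v ∈ (cspan {a, b} : Submodule F (Fin n → F)) := by
  constructor
  · intro h i hi
    simp only [Finset.mem_insert, Finset.mem_singleton] at hi
    have h1 := congrFun h i
    rw [hact, if_neg hi, one_mul, Pi.neg_apply] at h1
    exact (mul_eq_zero.1 (show (2 : F) * v i = 0 by linear_combination h1)).resolve_left h2
  · intro h
    funext i
    rw [hact, Pi.neg_apply]
    split_ifs with hi
    · ring
    · rw [h i (by simp only [Finset.mem_insert, Finset.mem_singleton]; exact hi)]; ring

theorem inv2_resG {a b : Fin n} {z : SU n F q}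
    (hact : ∀ v i, act z v i = (if i = a ∨ i = b then -1 else 1) * v i) :
    z ∈ resG (cspan {a, b} : Submodule F (Fin n → F)) := by
  intro u i hi
  simp only [Finset.mem_insert, Finset.mem_singleton] at hi
  rw [Pi.sub_apply, hact, if_neg hi, one_mul, sub_self]

/-- An involution with minus eigenspace `W`. -/
structure IsRefl2 (W : Submodule F (Fin n → F)) (z : SU n F q) : Prop where
  sq : z * z = 1
  res : z ∈ resG W
  neg_iff : ∀ v, act z v = -v ↔ v ∈ W

/-- The main dichotomy for one pair of coordinates. -/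
theorem pair_case (hF : Fintype.card F = q ^ 2) (h2 : (2 : F) ≠ 0) (hn : 13 ≤ n)
    (hH : ∀ g, IsMon g → g ∈ M) {W : Submodule F (Fin n → F)} {z' : SU n F q} (hz' : z' ∈ M)
    (hzm : ¬IsMon z') (hW : IsRefl2 W z') {a b : Fin n} (hab : a ≠ b) :
    (Win M ∨ Small W) ∨ ∃ g ∈ M, g ∈ resG (W ⊔ cspan {a, b}) ∧
      (∀ p ∈ ({a, b} : Finset (Fin n)), act g (e p) ∈ W) ∧
      ∀ w ∈ W, act g⁻¹ w ∈ (cspan {a, b} : Submodule F (Fin n → F)) := by
  classical
  obtain ⟨z, hzmon, hz2, hzact⟩ := exists_inv2 hF hab (q := q)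
  have hzM := hH z hzmon
  have hdres : z * z' ∈ resG (W ⊔ cspan {a, b}) :=
    mul_mem (resG_mono le_sup_right (inv2_resG hzact)) (resG_mono le_sup_left hW.res)
  rcases dihedral hz2 hW.sq with ⟨m, hne, hsq, hca, hcb⟩ | ⟨k, hk⟩
  swap
  · have hk' : ∀ v, act z' (act ((z * z') ^ k) v) = act ((z * z') ^ k) (act z v) := fun v => by
      rw [← act_mul, ← act_mul, ← mul_inv_eq_iff_eq_mul.1 hk]
    refine Or.inr ⟨(z * z') ^ k, M.pow_mem (M.mul_mem hzM hz') k, pow_mem hdres k, ?_, ?_⟩
    · intro p hp
      rw [← hW.neg_iff, hk', (inv2_neg_iff h2 hzact _).2 (e_mem_cspan hp), ← neg_one_smul F,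
        act_smul, neg_one_smul]
    · intro w hw
      rw [← inv2_neg_iff h2 hzact]
      apply act_inj (g := (z * z') ^ k)
      rw [← hk', act_act_inv, (hW.neg_iff w).2 hw, ← neg_one_smul F (act ((z * z') ^ k)⁻¹ w),
        act_smul, act_act_inv, neg_one_smul]
  left
  set i := (z * z') ^ m with hidef
  have hiM : i ∈ M := M.pow_mem (M.mul_mem hzM hz') m
  have hires : i ∈ resG (W ⊔ cspan {a, b}) := pow_mem hdres m
  have hiinv : i⁻¹ = i := inv_eq_of_mul_eq_one_right hsq
  have hpres : ∀ p ∈ ({a, b} : Finset (Fin n)),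
      act i (e p) ∈ (cspan {a, b} : Submodule F (Fin n → F)) := by
    intro p hp
    rw [← inv2_neg_iff h2 hzact, ← act_mul, ← hca.eq, act_mul,
      (inv2_neg_iff h2 hzact _).2 (e_mem_cspan hp), ← neg_one_smul F, act_smul, neg_one_smul]
  by_cases him : IsMon i
  swap
  · exact ctrl hF hn hH hiM him (P := {a, b}) (U := {a, b}) (by simp) subset_rfl
      (Finset.card_le_two.trans (by omega)) hpres (by rw [hiinv]; exact hpres)
      (fun c hc h => absurd hc h) hires
  rcases mon_fix_or_small him hires
    (by have := Finset.card_le_two (a := a) (b := b); omega) with h | hfix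
  · exact Or.inr h
  -- the central involution is the diagonal one
  have hiz : i = z := by
    have hab0 : ∀ v : Fin n → F, ∀ o, o ≠ a → o ≠ b → act i v o = v o := fun v o h1 h3 => by
      have := resG_of_fix hF hfix v o (by simp [h1, h3])
      rwa [Pi.sub_apply, sub_eq_zero] at this
    have hcol : ∀ v : Fin n → F, v = (fun o => if o = a ∨ o = b then 0 else v o)
        + v a • e a + v b • e b := fun v => by
      funext o
      by_cases h1 : o = a
      · subst h1; simp [e, Pi.single_eq_of_ne hab]
      by_cases h3 : o = b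
      · subst h3; simp [e, Pi.single_eq_of_ne hab.symm]
      simp [e, Pi.single_eq_of_ne h1, Pi.single_eq_of_ne h3, h1, h3]
    have hrest : ∀ v : Fin n → F, v a = 0 → v b = 0 → act i v = v := by
      intro v h1 h3
      funext o
      by_cases ho : o = a ∨ o = b
      swap
      · rw [not_or] at ho; exact hab0 v o ho.1 ho.2
      have hsq2 : act i (e o) ∈ (cspan {a, b} : Submodule F (Fin n → F)) := hpres o (by simp [ho])
      have h4 : act i v o = 0 := by
        rw [← herm_single_right hF o (act i v)]
        conv_lhs => rw [show (Pi.single o 1 : Fin n → F) = act i (act i (e o)) by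
          rw [← act_mul, hsq, act_one]]
        rw [herm_act]
        exact herm_cspan hF hsq2 fun j hj => by
          simp only [Finset.mem_insert, Finset.mem_singleton] at hj
          rcases hj with rfl | rfl <;> assumption
      rcases ho with rfl | rfl
      · rw [h4, h1]
      · rw [h4, h3]
    obtain ⟨fa, la, hla, hfa⟩ := mon_apply him a
    obtain ⟨fb, lb, hlb, hfb⟩ := mon_apply him b
    have hmema : fa = a ∨ fa = b := by
      by_contra h
      have := hpres a (by simp) fa (by simpa using h)
      rw [hfa, Pi.single_eq_same] at this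
      exact hla this
    have hmemb : fb = a ∨ fb = b := by
      by_contra h
      have := hpres b (by simp) fb (by simpa using h)
      rw [hfb, Pi.single_eq_same] at this
      exact hlb this
    have horth : fa ≠ fb := by
      intro h
      have h1 := herm_act i (e a) (e b)
      rw [hfa, hfb, h, herm_single hF, Pi.single_eq_same, herm_single_right hF,
        show (e a : Fin n → F) b = 0 from Pi.single_eq_of_ne hab.symm _] at h1
      exact mul_ne_zero hla (pow_ne_zero _ hlb) h1
    have hsingle : ∀ (j : Fin n) (x : F), (Pi.single j x : Fin n → F) = x • e j := fun j x => by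
      rw [e, ← Pi.single_smul', smul_eq_mul, mul_one]
    have hNl : ∀ (j : Fin n) (l : F) (o : Fin n),
        act i (e o) = Pi.single j l → l ^ (q + 1) = 1 := by
      intro j l o h
      have h1 := herm_act i (e o) (e o)
      rw [h, herm_single hF, Pi.single_eq_same, herm_single_right hF,
        show (e o : Fin n → F) o = 1 from Pi.single_eq_same _ _, ← pow_succ'] at h1
      exact h1
    have hinv : ∀ x, act i (act i x) = x := fun x => by rw [← act_mul, hsq, act_one]
    have hgen : ∀ v, act i v = (fun o => if o = a ∨ o = b then 0 else v o)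
        + v a • Pi.single fa la + v b • Pi.single fb lb := by
      intro v
      conv_lhs => rw [hcol v]
      rw [act_add, act_add, act_smul, act_smul, hfa, hfb, hrest _ (by simp) (by simp)]
    -- the matrix is monomial, so the determinant decides
    have hdet : ∀ (π : Equiv.Perm (Fin n)) (d : Fin n → F),
        (∀ v o, act i v o = d (π o) * v (π o)) → (Equiv.Perm.sign π : F) * ∏ o, d o = 1 := by
      intro π d h
      have hM : ((i : Matrix.SpecialLinearGroup (Fin n) F) : Matrix (Fin n) (Fin n) F)
          = monMat π d :=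
        Matrix.ext_of_mulVec_single fun j => funext fun o => by
          rw [monMat_mulVec]; exact h _ o
      have h1 := (i : Matrix.SpecialLinearGroup (Fin n) F).2
      rw [hM, det_monMat] at h1
      exact h1
    rcases hmema with rfl | rfl <;> rcases hmemb with rfl | rfl
    · exact absurd rfl horth
    · -- diagonal
      have hd := hdet 1 (fun o => if o = fa then la else if o = fb then lb else 1) fun v o => by
        rw [hgen, Equiv.Perm.one_apply]
        by_cases h1 : o = fa
        · subst h1; simp [Pi.single_eq_of_ne hab, mul_comm]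
        by_cases h3 : o = fb
        · subst h3; simp [Pi.single_eq_of_ne hab.symm, hab.symm, mul_comm]
        simp [Pi.single_eq_of_ne h1, Pi.single_eq_of_ne h3, h1, h3]
      rw [Equiv.Perm.sign_one, Finset.prod_eq_mul fa fb hab (fun o _ ho => by simp [ho.1, ho.2])
        (by simp) (by simp)] at hd
      simp [hab.symm] at hd
      have hla2 : la ^ 2 = 1 := by
        have h1 := congrFun (hinv (e fa)) fa
        rw [hfa, hsingle, act_smul, hfa] at h1
        simpa [e, sq] using h1
      have hlb2 : lb = la := by linear_combination la * hd - lb * hla2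
      rcases sq_eq_one_iff.1 hla2 with h1 | h1
      · exfalso
        refine hne (su_ext fun v => ?_)
        rw [hgen, act_one, hlb2, h1, ← hcol]
      · refine su_ext fun v => funext fun o => ?_
        rw [hgen, hlb2, h1, hzact]
        by_cases h4 : o = fa
        · subst h4; simp [Pi.single_eq_of_ne hab]
        by_cases h3 : o = fb
        · subst h3; simp [Pi.single_eq_of_ne hab.symm]
        simp [Pi.single_eq_of_ne h4, Pi.single_eq_of_ne h3, h4, h3]
    · -- a swap has determinant minus one
      exfalso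
      have hmul : la * lb = 1 := by
        have h1 := congrFun (hinv (e fb)) fb
        rw [hfa, hsingle, act_smul, hfb] at h1
        simpa [e] using h1
      have hd := hdet (Equiv.swap fb fa) (fun o => if o = fb then la else if o = fa then lb else 1)
        fun v o => by
        rw [hgen]
        by_cases h1 : o = fb
        · subst h1; simp [Pi.single_eq_of_ne hab, hab.symm, mul_comm]
        by_cases h3 : o = fa
        · subst h3; simp [Pi.single_eq_of_ne hab.symm, mul_comm]
        simp [Pi.single_eq_of_ne h1, Pi.single_eq_of_ne h3, h1, h3,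
          Equiv.swap_apply_of_ne_of_ne h1 h3]
      rw [Equiv.Perm.sign_swap hab, Finset.prod_eq_mul fb fa hab (fun o _ ho => by
        simp [ho.1, ho.2]) (by simp) (by simp)] at hd
      simp [hab.symm] at hd
      exact h2 (by linear_combination -hd - hmul)
    · exact absurd rfl horth
  have hcomm : ∀ x, act z (act z' x) = act z' (act z x) := fun x => by
    rw [← act_mul, ← act_mul, ← hiz, hcb.eq]
  by_cases hWP : ∃ w ∈ W, w a ≠ 0 ∨ w b ≠ 0
  · obtain ⟨w, hw, hwab⟩ := hWP
    right
    have hzw : act z w ∈ W := by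
      rw [← hW.neg_iff, ← hcomm, (hW.neg_iff w).2 hw, ← neg_one_smul F w, act_smul, neg_one_smul]
    refine ⟨act z w - w, W.sub_mem hzw hw, fun h => ?_, {a, b},
      Finset.card_le_two.trans (by omega), fun o ho => ?_⟩
    · rcases hwab with h' | h'
      · have := congrFun h a
        rw [Pi.sub_apply, hzact, if_pos (Or.inl rfl), Pi.zero_apply] at this
        exact h' ((mul_eq_zero.1 (show (2 : F) * w a = 0 by linear_combination -this)).resolve_left h2)
      · have := congrFun h b
        rw [Pi.sub_apply, hzact, if_pos (Or.inr rfl), Pi.zero_apply] at this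
        exact h' ((mul_eq_zero.1 (show (2 : F) * w b = 0 by linear_combination -this)).resolve_left h2)
    · simp only [Finset.mem_insert, Finset.mem_singleton] at ho
      rw [Pi.sub_apply, hzact, if_neg ho, one_mul, sub_self]
  · push Not at hWP
    left
    refine ⟨z', hz', hzm, a, 1, ?_⟩
    rw [one_smul]
    refine fix_of_perp hF hW.res fun x hx => ?_
    rw [herm_single_left, (hWP x hx).1, zero_pow_q hF]

/-- Either an element fixes a coordinate line, or the plane has a vector of small support. -/
theorem win_or_small (hF : Fintype.card F = q ^ 2) (h2 : (2 : F) ≠ 0) (hn : 13 ≤ n)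
    (hH : ∀ g, IsMon g → g ∈ M) {W : Submodule F (Fin n → F)} {z' : SU n F q} (hz' : z' ∈ M)
    (hzm : ¬IsMon z') (hW : IsRefl2 W z') : Win M ∨ Small W := by
  classical
  obtain ⟨a, b, c, d, hab, hac, had, hbc, hbd, hcd⟩ : ∃ a b c d : Fin n,
      a ≠ b ∧ a ≠ c ∧ a ≠ d ∧ b ≠ c ∧ b ≠ d ∧ c ≠ d :=
    ⟨⟨0, by omega⟩, ⟨1, by omega⟩, ⟨2, by omega⟩, ⟨3, by omega⟩, by simp [Fin.ext_iff],
      by simp [Fin.ext_iff], by simp [Fin.ext_iff], by simp [Fin.ext_iff], by simp [Fin.ext_iff],
      by simp [Fin.ext_iff]⟩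
  rcases pair_case hF h2 hn hH hz' hzm hW hab with h | ⟨g, hg, hgres, hgW, hgW'⟩
  · exact h
  rcases pair_case hF h2 hn hH hz' hzm hW hcd with h | ⟨k, hk, hkres, hkW, hkW'⟩
  · exact h
  by_contra hcon
  rw [not_or] at hcon
  obtain ⟨hwin, hsmall⟩ := hcon
  set π : Equiv.Perm (Fin n) := Equiv.swap a c * Equiv.swap b d with hπ
  have hsign : Equiv.Perm.sign π = 1 := by
    rw [hπ, map_mul, Equiv.Perm.sign_swap hac, Equiv.Perm.sign_swap hbd]; decide
  set h := monEl (q := q) π (fun _ => (1 : F)) (fun _ => one_pow _) (by rw [hsign]; simp) with hh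
  have hmon : IsMon h := monEl_pres π _ _ _ fun _ _ hx => π.injective hx
  have hπa : π a = c := by
    rw [hπ, Equiv.Perm.mul_apply, Equiv.swap_apply_of_ne_of_ne hab had, Equiv.swap_apply_left]
  have hπb : π b = d := by
    rw [hπ, Equiv.Perm.mul_apply, Equiv.swap_apply_left,
      Equiv.swap_apply_of_ne_of_ne had.symm hcd.symm]
  have hπc : π c = a := by
    rw [hπ, Equiv.Perm.mul_apply, Equiv.swap_apply_of_ne_of_ne hbc.symm hcd,
      Equiv.swap_apply_right]
  have hπd : π d = b := by
    rw [hπ, Equiv.Perm.mul_apply, Equiv.swap_apply_right,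
      Equiv.swap_apply_of_ne_of_ne hab.symm hbc]
  have hπo : ∀ i, i ≠ a → i ≠ b → i ≠ c → i ≠ d → π i = i := fun i h1 h3 h4 h5 => by
    rw [hπ, Equiv.Perm.mul_apply, Equiv.swap_apply_of_ne_of_ne h3 h5,
      Equiv.swap_apply_of_ne_of_ne h1 h4]
  have hact : ∀ v i, act h v i = v (π i) := fun v i => by rw [hh, monEl_act, one_mul]
  have hhh : h⁻¹ = h := inv_eq_of_mul_eq_one_right (su_ext fun v => funext fun i => by
    rw [act_mul, hact, hact, act_one]
    congr 1
    by_cases h1 : i = a
    · rw [h1, hπa, hπc]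
    by_cases h3 : i = b
    · rw [h3, hπb, hπd]
    by_cases h4 : i = c
    · rw [h4, hπc, hπa]
    by_cases h5 : i = d
    · rw [h5, hπd, hπb]
    rw [hπo i h1 h3 h4 h5, hπo i h1 h3 h4 h5])
  have hhP : ∀ v ∈ (cspan {a, b} : Submodule F (Fin n → F)),
      act h v ∈ (cspan {c, d} : Submodule F (Fin n → F)) := by
    intro v hv i hi
    simp only [Finset.mem_insert, Finset.mem_singleton, not_or] at hi
    rw [hact]
    refine hv _ ?_
    simp only [Finset.mem_insert, Finset.mem_singleton, not_or]
    exact ⟨fun hx => hi.1 (π.injective (by rw [hx, hπc])),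
      fun hx => hi.2 (π.injective (by rw [hx, hπd]))⟩
  have hhQ : ∀ v ∈ (cspan {c, d} : Submodule F (Fin n → F)),
      act h v ∈ (cspan {a, b} : Submodule F (Fin n → F)) := by
    intro v hv i hi
    simp only [Finset.mem_insert, Finset.mem_singleton, not_or] at hi
    rw [hact]
    refine hv _ ?_
    simp only [Finset.mem_insert, Finset.mem_singleton, not_or]
    exact ⟨fun hx => hi.1 (π.injective (by rw [hx, hπa])),
      fun hx => hi.2 (π.injective (by rw [hx, hπb]))⟩
  have hkQ : ∀ v ∈ (cspan {c, d} : Submodule F (Fin n → F)), act k v ∈ W := by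
    intro v hv
    have hv' : v = v c • e c + v d • e d := by
      funext i
      by_cases h1 : i = c
      · subst h1; simp [e, Pi.single_eq_of_ne hcd]
      by_cases h3 : i = d
      · subst h3; simp [e, Pi.single_eq_of_ne hcd.symm]
      simp [e, Pi.single_eq_of_ne h1, Pi.single_eq_of_ne h3, hv i (by simp [h1, h3])]
    rw [hv', act_add, act_smul, act_smul]
    exact W.add_mem (W.smul_mem _ (hkW c (by simp))) (W.smul_mem _ (hkW d (by simp)))
  set U : Finset (Fin n) := {a, b, c, d} with hU
  have hU4 : U.card ≤ 4 := by rw [hU]; exact Finset.card_le_four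
  have hPU : ({a, b} : Finset (Fin n)) ⊆ U := by simp [hU, Finset.insert_subset_iff]
  have hQU : ({c, d} : Finset (Fin n)) ⊆ U := by simp [hU, Finset.insert_subset_iff]
  set p := g⁻¹ * k with hp
  have hpres : p ∈ resG (W ⊔ cspan U) :=
    mul_mem (inv_mem (resG_mono (sup_le_sup_left (cspan_mono hPU) _) hgres))
      (resG_mono (sup_le_sup_left (cspan_mono hQU) _) hkres)
  have hhres : h ∈ resG (W ⊔ cspan U) := by
    refine resG_mono le_sup_right ?_
    intro u i hi
    simp only [hU, Finset.mem_insert, Finset.mem_singleton, not_or] at hi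
    rw [Pi.sub_apply, hact, hπo i hi.1 hi.2.1 hi.2.2.1 hi.2.2.2, sub_self]
  by_cases hy : IsMon (p * h)
  swap
  · have c1 : ∀ r ∈ ({a, b} : Finset (Fin n)),
        act (p * h) (e r) ∈ (cspan {a, b} : Submodule F (Fin n → F)) := fun r hr => by
        rw [act_mul, hp, act_mul]
        exact hgW' _ (hkQ _ (hhP _ (e_mem_cspan hr)))
    have c2 : ∀ r ∈ ({a, b} : Finset (Fin n)),
        act (p * h)⁻¹ (e r) ∈ (cspan {a, b} : Submodule F (Fin n → F)) := fun r hr => by
        rw [mul_inv_rev, hhh, hp, mul_inv_rev, inv_inv, act_mul, act_mul]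
        exact hhQ _ (hkW' _ (hgW r hr))
    have c3 : ∀ x ∈ U, x ∉ ({a, b} : Finset (Fin n)) →
        ∃ d' ∈ U, d' ∉ ({a, b} : Finset (Fin n)) ∧ d' ≠ x := fun x hx hxP => by
        simp only [hU, Finset.mem_insert, Finset.mem_singleton] at hx hxP ⊢
        rw [not_or] at hxP
        rcases hx with rfl | rfl | rfl | rfl
        · exact absurd rfl hxP.1
        · exact absurd rfl hxP.2
        · exact ⟨d, by simp, by simp [had.symm, hbd.symm], hcd.symm⟩
        · exact ⟨c, by simp, by simp [hac.symm, hbc.symm], hcd⟩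
    rcases ctrl hF hn hH (M.mul_mem (M.mul_mem (M.inv_mem hg) hk) (hH h hmon)) hy (U := U)
      (by simp : ({a, b} : Finset (Fin n)).Nonempty) hPU hU4 c1 c2 c3
      (mul_mem hpres hhres) with h' | h'
    · exact hwin h'
    · exact hsmall h'
  -- the transporting element is monomial
  have hpm : IsMon p := by
    have := mon_mul hy hmon
    rwa [mul_assoc, show h * h = 1 by nth_rewrite 1 [← hhh]; exact inv_mul_cancel h, mul_one] at this
  rcases mon_fix_or_small hpm hpres (by omega) with h' | hfix
  · exact hsmall h'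
  have hpQ : ∀ r ∈ ({c, d} : Finset (Fin n)),
      act p (e r) ∈ (cspan {a, b} : Submodule F (Fin n → F)) := fun r hr => by
    rw [hp, act_mul]; exact hgW' _ (hkW r hr)
  obtain ⟨f, m, hm0, hf⟩ := mon_apply hpm a
  obtain ⟨fc, mc, hmc, hfc⟩ := mon_apply hpm c
  obtain ⟨fd, md, hmd, hfd⟩ := mon_apply hpm d
  have hsingle : ∀ (j : Fin n) (x : F), (Pi.single j x : Fin n → F) = x • e j := fun j x => by
    rw [e, ← Pi.single_smul', smul_eq_mul, mul_one]
  have hdist : ∀ {r s : Fin n} {fr fs : Fin n} {x y : F}, x ≠ 0 → y ≠ 0 → r ≠ s →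
      act p (e r) = Pi.single fr x → act p (e s) = Pi.single fs y → fr ≠ fs := by
    intro r s fr fs x y hx hy' hrs h1 h3 hfrs
    have h5 := herm_act p (e r) (e s)
    rw [h1, h3, hfrs, herm_single hF, Pi.single_eq_same, herm_single_right hF,
      show (e r : Fin n → F) s = 0 from Pi.single_eq_of_ne hrs.symm _] at h5
    exact mul_ne_zero hx (pow_ne_zero _ hy') h5
  have hfcm : fc = a ∨ fc = b := by
    by_contra hx
    have := hpQ c (by simp) fc (by simpa using hx)
    rw [hfc, Pi.single_eq_same] at this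
    exact hmc this
  have hfdm : fd = a ∨ fd = b := by
    by_contra hx
    have := hpQ d (by simp) fd (by simpa using hx)
    rw [hfd, Pi.single_eq_same] at this
    exact hmd this
  have hfU : f = c ∨ f = d := by
    by_contra hx
    rw [not_or] at hx
    by_cases hfab : f = a ∨ f = b
    · have d1 := hdist hm0 hmc hac hf hfc
      have d2 := hdist hm0 hmd had hf hfd
      have d3 := hdist hmc hmd hcd hfc hfd
      rcases hfcm with hc1 | hc1 <;> rcases hfdm with hd1 | hd1 <;> rcases hfab with hf1 | hf1 <;>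
        first
          | exact d1 (hf1.trans hc1.symm)
          | exact d2 (hf1.trans hd1.symm)
          | exact d3 (hc1.trans hd1.symm)
    · rw [not_or] at hfab
      have hfU' : f ∉ U := by simp [hU, hfab.1, hfab.2, hx.1, hx.2]
      have h1 := hfix f hfU'
      refine hdist hm0 one_ne_zero (Ne.symm hfab.1) hf ?_ rfl
      exact h1
  have hfQ : f ∈ ({c, d} : Finset (Fin n)) := by simpa using hfU
  have hfab : f ∉ ({a, b} : Finset (Fin n)) := by
    rcases hfU with rfl | rfl <;>
      simp [hac.symm, hbc.symm, had.symm, hbd.symm]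
  -- vectors orthogonal to `W` and the second pair vanish at `a`
  have hvan : ∀ v, (∀ x ∈ W ⊔ cspan {c, d}, hermForm n F q v x = 0) → v a = 0 := by
    intro v hv
    have hvf : v f = 0 := by
      have := hv (e f) (Submodule.mem_sup_right (e_mem_cspan hfQ))
      rwa [herm_single_right hF] at this
    have h1 : act k v = v := fix_of_perp hF hkres hv
    have h3 : act p v - v ∈ W ⊔ cspan {a, b} := by
      rw [hp, act_mul, h1]; exact inv_mem hgres v
    have h4 : act p v - v ∈ (cspan U : Submodule F (Fin n → F)) := resG_of_fix hF hfix v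
    obtain ⟨w, hw, u, hu, hwu⟩ := Submodule.mem_sup.1 h3
    have hw0 : w = 0 := by
      by_contra hw0
      refine hsmall ⟨w, hw, hw0, U, hU4.trans (by omega), fun i hi => ?_⟩
      have h6 := congrFun hwu i
      rw [Pi.add_apply, hu i (fun hx => hi (hPU hx)), add_zero, h4 i hi] at h6
      exact h6
    rw [hw0, zero_add] at hwu
    have h7 : act p v f = v f := by
      have := hu f hfab
      rwa [hwu, Pi.sub_apply, sub_eq_zero] at this
    have h8 : act p v f * m ^ q = v a := by
      rw [← herm_single hF, ← hf, herm_act, herm_single_right hF]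
    rw [← h8, h7, hvf, zero_mul]
  obtain ⟨σ, hσ, hf'⟩ := TransvectionUnitaryGen.herm_isUnitaryForm (n := n) hF
  by_cases hmemS : (e a : Fin n → F) ∈ W ⊔ cspan {c, d}
  · obtain ⟨w, hw, u, hu, hwu⟩ := Submodule.mem_sup.1 hmemS
    refine hsmall ⟨w, hw, fun h0 => ?_, {a, c, d}, Finset.card_le_three.trans (by omega),
      fun i hi => ?_⟩
    · have := congrFun hwu a
      rw [h0, Pi.add_apply, Pi.zero_apply, zero_add, hu a (by simp [hac, had])] at this
      simp [e] at this
    · simp only [Finset.mem_insert, Finset.mem_singleton, not_or] at hi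
      have := congrFun hwu i
      rw [Pi.add_apply, hu i (by simp [hi.2.1, hi.2.2]), add_zero] at this
      simpa [e, Pi.single_eq_of_ne hi.1] using this
  · obtain ⟨v, hvp, hv1⟩ := TransvectionUnitary.exists_perp_val hf' hmemS 1
    have := hvan v fun x hx => hvp x hx
    rw [herm_single_right hF, this] at hv1
    exact zero_ne_one hv1

end Cfsg.Agent.UnitaryFrame84
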