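import Mathlib
import Cfsg.Agent.Lib.UnitaryFrameInvol84

/-!
Odd characteristic: an overgroup of the monomial group which is not monomial contains all
transvections with some centre of small support.
-/

set_option autoImplicit false
set_option linter.unusedSectionVars false

namespace Cfsg.Agent.UnitaryFrame84

open scoped Matrix MatrixGroups
open Cfsg.Agent.OrthUnitaryHerm
open Cfsg.Agent.OrthUnitaryTransvection
open Cfsg.Agent.OrthUnitarySubspaces
open Cfsg.Agent.OrthUnitaryMaximal

variable {F : Type*} [Field F] [Fintype F] {q n : ℕ}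

/-- The reflection in `x`. -/
def refl (q : ℕ) (x u : Fin n → F) : Fin n → F :=
  u - (2 * hermForm n F q u x / hermForm n F q x x) • x

theorem refl_act (g : SU n F q) (x u : Fin n → F) :
    act g (refl q x u) = refl q (act g x) (act g u) := by
  rw [refl, refl, act_sub, act_smul, herm_act, herm_act]

theorem refl_smul {l : F} (hl : l ≠ 0) (x u : Fin n → F) : refl q (l • x) u = refl q x u := by
  unfold refl
  rw [herm_smul_left, herm_smul_right, herm_smul_right, smul_smul]
  congr 2
  have hlq : l ^ q ≠ 0 := pow_ne_zero _ hl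
  by_cases h0 : hermForm n F q x x = 0
  · simp [h0]
  field_simp

theorem refl_perp {x u : Fin n → F} (h : hermForm n F q u x = 0) : refl q x u = u := by
  simp [refl, h]

theorem refl_self {x : Fin n → F} (hx : hermForm n F q x x ≠ 0) : refl q x x = -x := by
  rw [refl, mul_div_assoc, div_self hx, mul_one, two_smul]
  abel

theorem refl_refl {x : Fin n → F} (hx : hermForm n F q x x ≠ 0) (u : Fin n → F) :
    refl q x (refl q x u) = u := by
  simp only [refl, herm_sub_left, herm_smul_left, div_mul_cancel₀ _ hx]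
  rw [sub_sub, ← add_smul, ← add_div,
    show 2 * hermForm n F q u x + 2 * (hermForm n F q u x - 2 * hermForm n F q u x) = (0 : F) by ring,
    zero_div, zero_smul, sub_zero]

/-- The product of the reflections in `x` and `y` lies in `M`. -/
def PP (M : Subgroup (SU n F q)) (x y : Fin n → F) : Prop :=
  ∃ m ∈ M, ∀ u, act m u = refl q x (refl q y u)

variable {M : Subgroup (SU n F q)}

theorem PP.symm {x y : Fin n → F} (h : PP M x y) (hx : hermForm n F q x x ≠ 0)
    (hy : hermForm n F q y y ≠ 0) : PP M y x := by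
  obtain ⟨m, hm, hact⟩ := h
  refine ⟨m⁻¹, M.inv_mem hm, fun u => act_inj (g := m) ?_⟩
  rw [act_act_inv, hact, refl_refl hy, refl_refl hx]

theorem PP.trans {x y z : Fin n → F} (h : PP M x y) (h' : PP M y z)
    (hy : hermForm n F q y y ≠ 0) : PP M x z := by
  obtain ⟨m, hm, hact⟩ := h
  obtain ⟨m', hm', hact'⟩ := h'
  exact ⟨m * m', M.mul_mem hm hm', fun u => by rw [act_mul, hact, hact', refl_refl hy]⟩

theorem PP.conj {x y : Fin n → F} (h : PP M x y) {g : SU n F q} (hg : g ∈ M) :
    PP M (act g x) (act g y) := by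
  obtain ⟨m, hm, hact⟩ := h
  refine ⟨g * m * g⁻¹, M.mul_mem (M.mul_mem hg hm) (M.inv_mem hg), fun u => ?_⟩
  rw [act_mul, act_mul, hact, refl_act, refl_act, act_act_inv]

theorem PP.smul_right {x y : Fin n → F} {l : F} (hl : l ≠ 0) (h : PP M x (l • y)) : PP M x y := by
  obtain ⟨m, hm, hact⟩ := h
  exact ⟨m, hm, fun u => by rw [hact, refl_smul hl]⟩

/-- Reflection pairs in the monomial group. -/
theorem pp_pair (hF : Fintype.card F = q ^ 2) (h2 : (2 : F) ≠ 0) (hH : ∀ g, IsMon g → g ∈ M)
    {a b j : Fin n} (hab : a ≠ b) (haj : a ≠ j) (hbj : b ≠ j) {l : F} (hl : l ^ (q + 1) = 1) :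
    PP M (pv a b 1 l) (e j) := by
  classical
  have hl0 := normOne_ne_zero hl
  have hll : l * l ^ q = 1 := by rw [← pow_succ', hl]
  have hN : (-1 : F) ^ (q + 1) = 1 := by rw [pow_succ, neg_pow_q hF, one_pow]; ring
  let d : Fin n → F := fun i =>
    if i = a then -l else if i = b then -l ^ q else if i = j then -1 else 1
  have hd : ∀ i, d i ^ (q + 1) = 1 := by
    intro i
    simp only [d]
    split_ifs
    · rw [neg_norm hF, hl]
    · rw [neg_norm hF, ← pow_mul, mul_comm, pow_mul, hl, one_pow]
    · exact hN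
    · exact one_pow _
  have hdet : (Equiv.Perm.sign (Equiv.swap a b) : F) * ∏ i, d i = 1 := by
    rw [Equiv.Perm.sign_swap hab,
      ← Finset.prod_subset (Finset.subset_univ {a, b, j}) fun i _ hi => ?_]
    · rw [Finset.prod_insert (by simp [hab, haj]), Finset.prod_insert (by simp [hbj]),
        Finset.prod_singleton]
      simp only [d, hab.symm, haj.symm, hbj.symm, if_true, if_false]
      push_cast
      linear_combination hll
    · simp only [Finset.mem_insert, Finset.mem_singleton, not_or] at hi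
      simp [d, hi.1, hi.2.1, hi.2.2]
  refine ⟨monEl (Equiv.swap a b) d hd hdet,
    hH _ (monEl_pres _ _ _ _ fun _ _ h => (Equiv.swap a b).injective h), fun u => ?_⟩
  have hej : hermForm n F q (e j : Fin n → F) (e j) = 1 := by
    rw [herm_single_right hF]; exact Pi.single_eq_same _ _
  have hyy : hermForm n F q (pv a b 1 l) (pv a b (1 : F) l) = 2 := by
    rw [herm_pv_self hF hab, one_pow, hl]; norm_num
  funext i
  rw [monEl_act]
  simp only [refl, hej, hyy, div_one, herm_sub_left, herm_smul_left, Pi.sub_apply, Pi.smul_apply,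
    smul_eq_mul]
  rw [herm_single_right hF, herm_pv hF, herm_pv hF, one_pow, mul_div_cancel_left₀ _ h2,
    show (e j : Fin n → F) a = 0 from Pi.single_eq_of_ne haj _,
    show (e j : Fin n → F) b = 0 from Pi.single_eq_of_ne hbj _]
  by_cases hia : i = a
  · subst hia
    rw [Equiv.swap_apply_left, pv_left hab,
      show (e j : Fin n → F) i = 0 from Pi.single_eq_of_ne haj _]
    simp only [d, hab.symm, if_true, if_false]
    ring
  by_cases hib : i = b
  · subst hib
    rw [Equiv.swap_apply_right, pv_right hab,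
      show (e j : Fin n → F) i = 0 from Pi.single_eq_of_ne hbj _]
    simp only [d, if_true]
    linear_combination (u i) * hll
  rw [Equiv.swap_apply_of_ne_of_ne hia hib, pv_other hia hib]
  by_cases hij : i = j
  · subst hij
    simp only [d, hia, hib, e, Pi.single_eq_same, if_true, if_false]
    ring
  · simp only [d, hia, hib, hij, e, Pi.single_eq_of_ne hij, if_false]
    ring

/-- A centre of small support. -/
def SmallCentre (M : Subgroup (SU n F q)) : Prop :=
  ∃ z : Fin n → F, Centre M z ∧ z ≠ 0 ∧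
    ∃ S : Finset (Fin n), (S.card ≤ 8 ∧ S.card < n) ∧ ∀ i, i ∉ S → z i = 0

/-- From mirrors to centres. -/
theorem centre_of_mirror (hF : Fintype.card F = q ^ 2) (h2 : (2 : F) ≠ 0)
    (hH : ∀ g, IsMon g → g ∈ M) (hn : 7 ≤ n) {x : Fin n → F} (hx : hermForm n F q x x ≠ 0)
    (T : Finset (Fin n)) (hT : 5 ≤ T.card) (hxT : ∀ i ∈ T, x i ≠ 0)
    (hmir : ∀ h : SU n F q, IsMon h →
      (∀ v : Fin n → F, (∀ i ∈ T, v i = 0) → act h v = v) → PP M (act h x) x) :
    SmallCentre M := by
  classical
  obtain ⟨a, ha⟩ := Finset.card_pos.1 (show 0 < T.card by omega)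
  obtain ⟨b, hb⟩ := Finset.card_pos.1 (show 0 < (T.erase a).card by
    rw [Finset.card_erase_of_mem ha]; omega)
  obtain ⟨c, hc⟩ := Finset.card_pos.1 (show 0 < ((T.erase a).erase b).card by
    rw [Finset.card_erase_of_mem hb, Finset.card_erase_of_mem ha]; omega)
  obtain ⟨d, hd⟩ := Finset.card_pos.1 (show 0 < (((T.erase a).erase b).erase c).card by
    rw [Finset.card_erase_of_mem hc, Finset.card_erase_of_mem hb, Finset.card_erase_of_mem ha]
    omega)
  obtain ⟨p, hp⟩ := Finset.card_pos.1 (show 0 < ((((T.erase a).erase b).erase c).erase d).card by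
    rw [Finset.card_erase_of_mem hd, Finset.card_erase_of_mem hc, Finset.card_erase_of_mem hb,
      Finset.card_erase_of_mem ha]
    omega)
  simp only [Finset.mem_erase] at hb hc hd hp
  obtain ⟨hpd, hpc, hpb, hpa, hpT⟩ := hp
  obtain ⟨hdc, hdb, hda, hdT⟩ := hd
  obtain ⟨hcb, hca, hcT⟩ := hc
  obtain ⟨hba, hbT⟩ := hb
  obtain ⟨q₁, hq₁⟩ := exists_notMem ({a, b, c, d, p} : Finset (Fin n))
    (Finset.card_le_five.trans_lt (by omega))
  obtain ⟨q₂, hq₂⟩ := exists_notMem (insert q₁ ({a, b, c, d, p} : Finset (Fin n)))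
    ((Finset.card_insert_le _ _).trans_lt (by
      have : ({a, b, c, d, p} : Finset (Fin n)).card ≤ 5 := Finset.card_le_five
      omega))
  simp only [Finset.mem_insert, Finset.mem_singleton, not_or] at hq₁ hq₂
  obtain ⟨h, hpres, hout, hfix, hzx, hzz, hza⟩ := exists_swap (β := (id : Fin n → Fin n)) hF
    Function.injective_id (x := x) hba.symm hca.symm hda.symm hcb.symm hdb.symm hdc.symm
    (hxT a ha) (hxT b hbT) (hxT c hcT) (hxT d hdT)
  obtain ⟨m, hm, hact⟩ :=
    hmir h hpres fun v hv => hfix v (hv a ha) (hv b hbT) (hv c hcT) (hv d hdT)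
  set z := act h x - x with hz
  set N := hermForm n F q x x with hN
  have hNq : N ^ q = N := herm_self_pow hF x
  have h2q : (2 : F) ^ q = 2 := by
    rw [show (2 : F) = 1 + 1 by norm_num, add_pow_q hF, one_pow]
  set κ := -2 / N with hκ
  have hκq : κ ^ q = κ := by rw [hκ, div_pow, neg_pow_q hF, h2q, hNq]
  have hκ0 : κ ≠ 0 := div_ne_zero (neg_ne_zero.2 h2) hx
  have hw : hermForm n F q (κ • x) z = 0 := by
    rw [herm_smul_left, herm_skew_zero hF hzx, mul_zero]
  have hμ : κ + κ ^ q + hermForm n F q (κ • x) (κ • x) = 0 := by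
    rw [herm_smul_left, herm_smul_right, hκq, ← hN, hκ]
    field_simp
    ring
  have heq : m = eich hF z (κ • x) κ hzz hw hμ := su_ext fun u => by
    rw [eich_act, hact, show act h x = x + z by rw [hz]; abel]
    have hxz : hermForm n F q x z = 0 := herm_skew_zero hF hzx
    have hNz : hermForm n F q (x + z) (x + z) = N := by
      rw [herm_add_left, herm_add_right hF, herm_add_right hF, hzz, hxz, hzx, ← hN]; ring
    simp only [refl, ← hN, hNz, herm_sub_left, herm_smul_left, herm_smul_right, hκq,
      herm_add_right hF, hxz, smul_smul]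
    match_scalars <;> (try simp only [hκ]) <;> field_simp <;> ring
  refine ⟨z, centre_of_eich hF (β := (id : Fin n → Fin n)) hH (heq ▸ hm) (a := p) (b := q₁)
    (d := q₂) (Ne.symm hq₁.2.2.2.2) (Ne.symm hq₂.2.2.2.2.2) (Ne.symm hq₂.1) ?_ ?_ ?_ ?_,
    fun h0 => hza (by rw [h0]; rfl), {a, b, c, d}, ⟨Finset.card_le_four.trans (by omega), Finset.card_le_four.trans_lt (by omega)⟩,
    fun i hi => ?_⟩
  · rw [hz, Pi.sub_apply, hout x p hpa hpb hpc hpd, sub_self]
  · rw [hz, Pi.sub_apply, hout x q₁ hq₁.1 hq₁.2.1 hq₁.2.2.1 hq₁.2.2.2.1, sub_self]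
  · rw [hz, Pi.sub_apply, hout x q₂ hq₂.2.1 hq₂.2.2.1 hq₂.2.2.2.1 hq₂.2.2.2.2.1, sub_self]
  · simpa using mul_ne_zero hκ0 (hxT p hpT)
  · simp only [Finset.mem_insert, Finset.mem_singleton, not_or] at hi
    rw [hz, Pi.sub_apply, hout x i hi.1 hi.2.1 hi.2.2.1 hi.2.2.2, sub_self]

/-- A mirror with support at least five. -/
theorem mirror_of_win (hF : Fintype.card F = q ^ 2) (h2 : (2 : F) ≠ 0) (hH : ∀ g, IsMon g → g ∈ M)
    (hn : 6 ≤ n) (hwin : Win M) : ∃ (j : Fin n) (x : Fin n → F), x j = 0 ∧
      hermForm n F q x x ≠ 0 ∧ PP M x (e j) ∧ 5 ≤ (suppF x).card := by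
  classical
  obtain ⟨g, hg, hgm, j, l, hgj⟩ := hwin
  have hl0 : l ≠ 0 := fun h => by
    rw [h, zero_smul, ← act_zero g] at hgj
    simpa [e] using congrFun (act_inj hgj) j
  have hng : ∃ a ∈ Finset.univ.erase j, 2 ≤ (suppF (act g (e a))).card := by
    by_contra hcon
    push Not at hcon
    refine hgm (mon_of_card fun a => ?_)
    by_cases haj : a = j
    · rw [haj, hgj]
      refine le_trans (Finset.card_le_card (t := {j}) fun i hi => ?_) (Finset.card_singleton _).le
      rw [mem_suppF] at hi
      by_contra h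
      rw [Finset.mem_singleton] at h
      exact hi (by simp [e, Pi.single_eq_of_ne h])
    · have := hcon a (Finset.mem_erase.2 ⟨haj, Finset.mem_univ _⟩); omega
  obtain ⟨a, ha, b, hb, hab, r, hr, hwide⟩ := exists_wide hF g (Finset.univ.erase j)
    (by rw [Finset.card_erase_of_mem (Finset.mem_univ _), Finset.card_univ, Fintype.card_fin]; omega)
    hng
  rw [Finset.mem_erase] at ha hb
  have hej : hermForm n F q (e j : Fin n → F) (e j) = 1 := by
    rw [herm_single_right hF]; exact Pi.single_eq_same _ _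
  have hej0 : hermForm n F q (e j : Fin n → F) (e j) ≠ 0 := by rw [hej]; exact one_ne_zero
  -- a mirror of support at least five
  suffices hres : ∃ x : Fin n → F, x j = 0 ∧ hermForm n F q x x ≠ 0 ∧
      PP M x (e j) ∧ 5 ≤ (suppF x).card from ⟨j, hres⟩
  have hstep : ∀ x : Fin n → F, x j = 0 → hermForm n F q x x ≠ 0 → PP M x (e j) →
      3 ≤ (suppF x).card → (suppF x).card ≤ 4 →
      ∃ x' : Fin n → F, x' j = 0 ∧ hermForm n F q x' x' ≠ 0 ∧ PP M x' (e j) ∧
        (suppF x).card < (suppF x').card := by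
    intro x hxj hxx hxP h3 h4
    set N := hermForm n F q x x with hN
    obtain ⟨a, haS, haN⟩ : ∃ a ∈ suppF x, 2 * x a ^ (q + 1) ≠ N := by
      by_contra hcon
      push Not at hcon
      have h1 : 2 * N = ((suppF x).card : F) * N := by
        conv_lhs => rw [hN, herm_self_sum, ← Finset.sum_subset (Finset.subset_univ (suppF x))
          (fun i _ hi => by
            rw [mem_suppF, not_not] at hi
            rw [hi, zero_pow (Nat.succ_ne_zero q)]), Finset.mul_sum,
          Finset.sum_congr rfl hcon, Finset.sum_const, nsmul_eq_mul]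
      have h5 : (((suppF x).card : F) - 2) * N = 0 := by linear_combination -h1
      have h6 := (mul_eq_zero.1 h5).resolve_right hxx
      rcases (show (suppF x).card = 3 ∨ (suppF x).card = 4 by omega) with h | h <;>
        rw [h] at h6 <;> norm_num at h6
      exact h2 h6
    obtain ⟨b, hb⟩ := exists_notMem (insert j (suppF x)) (by
      have := Finset.card_insert_le j (suppF x); omega)
    rw [Finset.mem_insert, not_or, mem_suppF, not_not] at hb
    rw [mem_suppF] at haS
    have hab : a ≠ b := fun h => haS (h ▸ hb.2)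
    have haj : a ≠ j := fun h => haS (h ▸ hxj)
    have hy := pp_pair hF h2 hH hab haj hb.1 (l := (1 : F)) (one_pow _)
    set y := pv a b (1 : F) 1 with hydef
    obtain ⟨m, hm, hact⟩ := hxP
    have hyj : hermForm n F q y (e j) = 0 := by
      rw [herm_single_right hF, hydef, pv_other haj.symm (Ne.symm hb.1)]
    have hmy : act m y = refl q x y := by rw [hact, refl_perp hyj]
    have hmj : act m (e j) = (-1 : F) • e j := by
      rw [hact, refl_self hej0, refl_perp, neg_one_smul]
      rw [← neg_one_smul F, herm_smul_left, herm_single_left, hxj, zero_pow_q hF, mul_zero]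
    refine ⟨act m y, ?_, ?_,
      PP.smul_right (neg_ne_zero.2 one_ne_zero) (hmj ▸ hy.conj hm), ?_⟩
    · rw [hmy, refl, Pi.sub_apply, Pi.smul_apply, hxj, hydef,
        pv_other haj.symm (Ne.symm hb.1)]
      simp
    · rw [herm_act, hydef, herm_pv_self hF hab]
      simpa [one_add_one_eq_two] using h2
    · rw [hmy]
      have hbS : b ∉ suppF x := by rw [mem_suppF, not_not]; exact hb.2
      have hc : 2 * hermForm n F q y x / N = 2 * x a ^ q / N := by
        rw [herm_conj hF x y, hydef, herm_pv hF, hb.2]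
        simp
      refine lt_of_lt_of_le (Nat.lt_succ_self _) ?_
      show (suppF x).card + 1 ≤ _
      rw [← Finset.card_insert_of_notMem hbS]
      refine Finset.card_le_card fun i hi => ?_
      rw [Finset.mem_insert, mem_suppF] at hi
      rw [mem_suppF, refl, Pi.sub_apply, Pi.smul_apply, smul_eq_mul, ← hN, hc]
      rcases hi with rfl | hi
      · rw [hb.2, mul_zero, sub_zero, hydef, pv_right hab]; exact one_ne_zero
      by_cases hia : i = a
      · subst hia
        rw [hydef, pv_left hab, sub_ne_zero]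
        intro h
        apply haN
        rw [pow_succ]
        field_simp at h
        linear_combination -h
      · have hib : i ≠ b := fun h => hi (h ▸ hb.2)
        rw [hydef, pv_other hia hib, zero_sub, neg_ne_zero]
        exact mul_ne_zero (div_ne_zero (mul_ne_zero h2 (pow_ne_zero _ haS)) hxx) hi
  have h0 : ∃ x : Fin n → F, x j = 0 ∧ hermForm n F q x x ≠ 0 ∧ PP M x (e j) ∧
      3 ≤ (suppF x).card := by
    refine ⟨act g (pv a b 1 r), ?_, ?_, ?_, hwide⟩
    · have h1 := herm_act g (pv a b 1 r) (e j)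
      rw [hgj, herm_smul_right, herm_single_right hF, herm_single_right hF,
        pv_other (Ne.symm ha.1) (Ne.symm hb.1)] at h1
      exact (mul_eq_zero.1 h1).resolve_left (pow_ne_zero _ hl0)
    · rw [herm_act, herm_pv_self hF hab, one_pow, hr, one_add_one_eq_two]; exact h2
    · have := (pp_pair hF h2 hH hab ha.1 hb.1 hr).conj hg
      rw [hgj] at this
      exact this.smul_right hl0
  obtain ⟨x, h1, h3, h4, h5⟩ := h0
  by_cases h6 : 5 ≤ (suppF x).card
  · exact ⟨x, h1, h3, h4, h6⟩
  obtain ⟨x', g1, g3, g4, g5⟩ := hstep x h1 h3 h4 h5 (by omega)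
  by_cases h7 : 5 ≤ (suppF x').card
  · exact ⟨x', g1, g3, g4, h7⟩
  obtain ⟨x'', f1, f3, f4, f5⟩ := hstep x' g1 g3 g4 (by omega) (by omega)
  exact ⟨x'', f1, f3, f4, by omega⟩

/-- An element fixing a coordinate line. -/
theorem of_win (hF : Fintype.card F = q ^ 2) (h2 : (2 : F) ≠ 0) (hH : ∀ g, IsMon g → g ∈ M)
    (hn : 7 ≤ n) (hwin : Win M) : SmallCentre M := by
  classical
  obtain ⟨j, x, hxj, hxx, hxP, hx5⟩ := mirror_of_win hF h2 hH (by omega) hwin
  have hej : hermForm n F q (e j : Fin n → F) (e j) = 1 := by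
    rw [herm_single_right hF]; exact Pi.single_eq_same _ _
  have hej0 : hermForm n F q (e j : Fin n → F) (e j) ≠ 0 := by rw [hej]; exact one_ne_zero
  refine centre_of_mirror hF h2 hH (by omega) hxx (suppF x) hx5 (fun i hi => mem_suppF.1 hi)
    fun h hh hfix => ?_
  have hej' : act h (e j) = e j := hfix _ fun i hi => by
    rw [mem_suppF] at hi
    exact Pi.single_eq_of_ne (fun h : i = j => hi (h ▸ hxj)) _
  have h1 := hxP.conj (hH h hh)
  rw [hej'] at h1
  exact h1.trans (hxP.symm hxx hej0) hej0

/-- The image of a coordinate plane. -/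
def planeOf (g : SU n F q) (U : Finset (Fin n)) : Submodule F (Fin n → F) where
  carrier := {u | act g⁻¹ u ∈ (cspan U : Submodule F (Fin n → F))}
  add_mem' := fun {x y} hx hy => by
    simp only [Set.mem_setOf_eq] at hx hy ⊢
    rw [act_add]
    exact Submodule.add_mem _ hx hy
  zero_mem' := by
    simp only [Set.mem_setOf_eq, act_zero]
    exact Submodule.zero_mem _
  smul_mem' := fun c x hx => by
    simp only [Set.mem_setOf_eq] at hx ⊢
    rw [act_smul]
    exact Submodule.smul_mem _ c hx

/-- A plane with a vector of small support. -/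
theorem of_small (hF : Fintype.card F = q ^ 2) (h2 : (2 : F) ≠ 0) (hH : ∀ g, IsMon g → g ∈ M)
    (hn : 13 ≤ n) {g : SU n F q} {a b : Fin n} (hab : a ≠ b) {z : SU n F q}
    (hzact : ∀ v i, act z v i = (if i = a ∨ i = b then -1 else 1) * v i)
    (hzM : g * z * g⁻¹ ∈ M) (hzm : ¬IsMon (g * z * g⁻¹))
    (hs : Small (planeOf g {a, b})) : Win M ∨ SmallCentre M := by
  classical
  obtain ⟨v, hv, hv0, S, hS, hvS⟩ := hs
  set z' := g * z * g⁻¹ with hz'
  set v₀ := act g⁻¹ v with hv₀
  have hvsupp : v₀ ∈ (cspan {a, b} : Submodule F (Fin n → F)) := hv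
  have hgv : act g v₀ = v := act_act_inv g v
  set α := v₀ a with hα
  set β := v₀ b with hβ
  have hv₀eq : v₀ = pv a b α β := funext fun i => by
    by_cases h1 : i = a
    · rw [h1, pv_left hab]
    by_cases h3 : i = b
    · rw [h3, pv_right hab]
    rw [pv_other h1 h3]
    exact hvsupp i (by simp [h1, h3])
  by_cases hwin : Win M
  · exact Or.inl hwin
  right
  have hnowin : ∀ j, act z' (e j) ≠ e j := fun j hj =>
    hwin ⟨z', hzM, hzm, j, 1, by rw [one_smul]; exact hj⟩
  have hvv : hermForm n F q v v = α ^ (q + 1) + β ^ (q + 1) := by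
    rw [← hgv, herm_act, hv₀eq, herm_pv_self hF hab]
  by_cases hN : α ^ (q + 1) + β ^ (q + 1) = 0
  swap
  · -- an orthogonal decomposition
    set x₀ := pv a b (-β ^ q) (α ^ q) with hx₀
    set x := act g x₀ with hxdef
    set N := α ^ (q + 1) + β ^ (q + 1) with hNdef
    have hxN : hermForm n F q x₀ x₀ = N := by
      rw [hx₀, herm_pv_self hF hab, neg_norm hF, ← pow_mul, ← pow_mul, mul_comm q, pow_mul,
        pow_mul, norm_pow_q hF, norm_pow_q hF, hNdef]
      ring
    have hzrefl : ∀ w, act z w = refl q x₀ (refl q v₀ w) := by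
      intro w
      have h0 : hermForm n F q v₀ x₀ = 0 := by
        rw [hv₀eq, hx₀, herm_pv hF, pv_left hab, pv_right hab, neg_pow_q hF, pow_q_q hF,
          pow_q_q hF]
        ring
      have hNv : hermForm n F q v₀ v₀ = N := by rw [hv₀eq, herm_pv_self hF hab]
      simp only [refl, herm_sub_left, herm_smul_left, h0, hNv, hxN, mul_zero, sub_zero]
      funext i
      rw [hzact, hv₀eq, hx₀]
      simp only [Pi.sub_apply, Pi.smul_apply, smul_eq_mul, herm_pv hF, neg_pow_q hF, pow_q_q hF]
      by_cases h1 : i = a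
      · subst h1
        rw [pv_left hab, pv_left hab, if_pos (Or.inl rfl)]
        field_simp
        rw [hNdef]
        ring
      by_cases h3 : i = b
      · subst h3
        rw [pv_right hab, pv_right hab, if_pos (Or.inr rfl)]
        field_simp
        rw [hNdef]
        ring
      rw [pv_other h1 h3, pv_other h1 h3, if_neg (by simp [h1, h3])]
      ring
    have hz'act : ∀ u, act z' u = refl q x (refl q v u) := by
      intro u
      rw [hz', act_mul, act_mul, hzrefl, refl_act, refl_act, ← hxdef, hgv, act_act_inv]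
    have hPP : PP M x v := ⟨z', hzM, hz'act⟩
    have hxx : hermForm n F q x x ≠ 0 := by rw [hxdef, herm_act, hxN]; exact hN
    have hvv0 : hermForm n F q v v ≠ 0 := by rw [hvv]; exact hN
    have hxS : ∀ i, i ∉ S → x i ≠ 0 := by
      intro i hi h0
      apply hnowin i
      rw [hz'act, refl_perp (x := v), refl_perp]
      · rw [herm_single_left, h0, zero_pow_q hF]
      · rw [herm_single_left, hvS i hi, zero_pow_q hF]
    refine centre_of_mirror hF h2 hH (by omega) hxx (Finset.univ \ S) ?_
      (fun i hi => hxS i (Finset.mem_sdiff.1 hi).2) fun h hh hfix => ?_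
    · rw [Finset.card_univ_sdiff, Fintype.card_fin]; omega
    have hfixv : act h v = v := hfix v fun i hi => hvS i (Finset.mem_sdiff.1 hi).2
    have h1 := hPP.conj (hH h hh)
    rw [hfixv] at h1
    exact h1.trans (hPP.symm hxx hvv0) hvv0
  -- an isotropic vector
  have hα0 : α ≠ 0 := by
    intro h
    have hβ0 : β = 0 := by
      rw [h, zero_pow (Nat.succ_ne_zero q), zero_add] at hN
      exact pow_eq_zero_iff (Nat.succ_ne_zero q) |>.1 hN
    apply hv0
    rw [← hgv, hv₀eq, h, hβ0]
    simp [pv, act_zero]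
  set A := α ^ (q + 1) with hA
  have hA0 : A ≠ 0 := pow_ne_zero _ hα0
  have hBA : β ^ (q + 1) = -A := by linear_combination hN
  set v₁ := (2 * A)⁻¹ • pv a b α (-β) with hv₁
  have h2A : (2 * A) ^ q = 2 * A := by
    rw [show (2 : F) = 1 + 1 by norm_num, mul_pow, add_pow_q hF, one_pow, hA, norm_pow_q hF]
  have hzform : ∀ w, act z w
      = w - (2 : F) • (hermForm n F q w v₁ • v₀ + hermForm n F q w v₀ • v₁) := by
    intro w
    funext i
    rw [hzact, hv₀eq, hv₁, herm_smul_right, inv_pow, h2A]
    simp only [Pi.sub_apply, Pi.smul_apply, smul_eq_mul, herm_pv hF, neg_pow_q hF]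
    rw [Pi.add_apply]
    simp only [Pi.smul_apply, smul_eq_mul]
    have hAq : α * α ^ q = A := by rw [hA, pow_succ']
    have hBq : β * β ^ q = -A := by rw [← hBA, pow_succ']
    by_cases h1 : i = a
    · subst h1
      rw [pv_left hab, pv_left hab, if_pos (Or.inl rfl)]
      field_simp
      linear_combination (2 * w i) * hAq
    by_cases h3 : i = b
    · subst h3
      rw [pv_right hab, pv_right hab, if_pos (Or.inr rfl)]
      field_simp
      linear_combination (-2 * w i) * hBq
    rw [pv_other h1 h3, pv_other h1 h3, if_neg (by simp [h1, h3])]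
    ring
  set v' := act g v₁ with hv'
  have hz'form : ∀ u, act z' u
      = u - (2 : F) • (hermForm n F q u v' • v + hermForm n F q u v • v') := by
    intro u
    rw [hz', act_mul, act_mul, hzform, act_sub, act_smul, act_add, act_smul, act_smul,
      act_act_inv, ← hv', hgv]
    rw [← herm_act g, act_act_inv, ← herm_act g (act g⁻¹ u) v₀, act_act_inv, hgv]
  have h11 : hermForm n F q v' v' = 0 := by
    rw [hv', herm_act, hv₁, herm_smul_left, herm_smul_right, herm_pv_self hF hab, neg_norm hF,
      hBA, ← hA]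
    ring
  have hv'v : hermForm n F q v' v = 1 := by
    rw [hv', ← hgv, herm_act, hv₁, herm_smul_left, hv₀eq, herm_pv hF, pv_left hab, pv_right hab,
      ← pow_succ', neg_mul, ← pow_succ', hBA, ← hA, inv_mul_eq_iff_eq_mul₀ (mul_ne_zero h2 hA0)]
    ring
  have hv'S : ∀ i, i ∉ S → v' i ≠ 0 := by
    intro i hi h0
    apply hnowin i
    rw [hz'form, herm_single_left, herm_single_left, h0, hvS i hi, zero_pow_q hF]
    simp
  obtain ⟨a', ha'⟩ := exists_notMem S (by omega)
  obtain ⟨b', hb'⟩ := exists_notMem (insert a' S) (by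
    have := Finset.card_insert_le a' S; omega)
  obtain ⟨d', hd'⟩ := exists_notMem (insert b' (insert a' S)) (by
    have := Finset.card_insert_le a' S; have := Finset.card_insert_le b' (insert a' S); omega)
  simp only [Finset.mem_insert, not_or] at hb' hd'
  obtain ⟨τ, hτ, hτ1, -⟩ := exists_zeta (F := F) (q := q) hF
  obtain ⟨h, hh, hact⟩ := exists_diag2 (n := n) (Ne.symm hb'.1) hτ
  have hhv : act h v = v := funext fun i => by
    rw [hact]
    split_ifs with h1 h3
    · rw [h1, hvS a' ha', mul_zero]
    · rw [h3, hvS b' hb'.2, mul_zero]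
    · rw [one_mul]
  set v'' := act h v' with hv''
  have hhM := hH h (hh id)
  have hvv' : hermForm n F q v v' = 1 := by rw [herm_conj hF, hv'v, one_pow]
  have hv0v : hermForm n F q v v = 0 := by rw [hvv, hN]
  have hv''v : hermForm n F q v'' v = 1 := by rw [hv'', ← hhv, herm_act, hv'v]
  have hvv'' : hermForm n F q v v'' = 1 := by rw [hv'', ← hhv, herm_act, hvv']
  have h22 : hermForm n F q v'' v'' = 0 := by rw [hv'', herm_act, h11]
  set δ := v'' - v' with hδ
  set μ := 4 * hermForm n F q v' v'' with hμdef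
  have hw : hermForm n F q ((2 : F) • δ) v = 0 := by
    rw [herm_smul_left, hδ, herm_sub_left, hv''v, hv'v]; ring
  have h4q : (4 : F) ^ q = 4 := by
    rw [show (4 : F) = 1 + 1 + (1 + 1) by norm_num]
    simp only [add_pow_q hF, one_pow]
  have h2q : (2 : F) ^ q = 2 := by
    rw [show (2 : F) = 1 + 1 by norm_num, add_pow_q hF, one_pow]
  have hμ : μ + μ ^ q + hermForm n F q ((2 : F) • δ) ((2 : F) • δ) = 0 := by
    rw [herm_smul_left, herm_smul_right, h2q, hμdef, mul_pow, h4q, hδ, herm_sub_left,
      herm_sub_right hF, herm_sub_right hF, h11, h22, herm_conj hF v' v'']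
    ring
  set m := h * z' * h⁻¹ * z' with hm
  have hmM : m ∈ M := M.mul_mem (M.mul_mem (M.mul_mem hhM hzM) (M.inv_mem hhM)) hzM
  have heq : m = eich hF v ((2 : F) • δ) μ hv0v hw hμ := su_ext fun u => by
    have hz'' : ∀ y, act (h * z' * h⁻¹) y
        = y - (2 : F) • (hermForm n F q y v'' • v + hermForm n F q y v • v'') := by
      intro y
      rw [act_mul, act_mul, hz'form, act_sub, act_smul, act_add, act_smul, act_smul, act_act_inv,
        ← hv'', hhv, ← herm_act h (act h⁻¹ y) v', act_act_inv, ← herm_act h (act h⁻¹ y) v,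
        act_act_inv, hhv]
    rw [hm, act_mul, hz'', hz'form, eich_act]
    simp only [herm_sub_left, herm_smul_left, herm_add_left, hv0v, hvv', hvv'', hv'v, hδ,
      herm_sub_right hF, herm_smul_right, h2q, hμdef]
    match_scalars <;> ring
  refine ⟨v, centre_of_eich hF (β := (id : Fin n → Fin n)) hH (heq ▸ hmM) (a := a') (b := b')
    (d := d') (Ne.symm hb'.1) (Ne.symm hd'.2.1) (Ne.symm hd'.1) (hvS a' ha') (hvS b' hb'.2)
    (hvS d' hd'.2.2) ?_, hv0, S, ⟨hS, by omega⟩, hvS⟩
  rw [Pi.smul_apply, smul_eq_mul, hδ, Pi.sub_apply, hv'', hact, if_pos rfl,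
    show τ * v' a' - v' a' = (τ - 1) * v' a' by ring]
  exact mul_ne_zero h2 (mul_ne_zero (sub_ne_zero.2 hτ1) (hv'S a' ha'))

/-- Odd characteristic: a centre of small support. -/
theorem smallCentre_odd (hF : Fintype.card F = q ^ 2) (h2 : (2 : F) ≠ 0)
    (hH : ∀ g, IsMon g → g ∈ M) (hn : 13 ≤ n) {g : SU n F q} (hg : g ∈ M) (hgm : ¬IsMon g) :
    SmallCentre M := by
  classical
  by_cases hwin : Win M
  · exact of_win hF h2 hH (by omega) hwin
  by_cases hex : ∃ a b : Fin n, a ≠ b ∧ ∃ z : SU n F q, IsMon z ∧ z * z = 1 ∧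
      (∀ v i, act z v i = (if i = a ∨ i = b then -1 else 1) * v i) ∧ ¬IsMon (g * z * g⁻¹)
  · obtain ⟨a, b, hab, z, hz, hz2, hzact, hzm⟩ := hex
    have hzM : g * z * g⁻¹ ∈ M := M.mul_mem (M.mul_mem hg (hH z hz)) (M.inv_mem hg)
    have hW : IsRefl2 (planeOf g {a, b}) (g * z * g⁻¹) := by
      refine ⟨?_, fun u => ?_, fun v => ?_⟩
      · rw [show g * z * g⁻¹ * (g * z * g⁻¹) = g * (z * z) * g⁻¹ by group, hz2]; group
      · show act g⁻¹ (act (g * z * g⁻¹) u - u) ∈ (cspan {a, b} : Submodule F (Fin n → F))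
        rw [act_sub, act_mul, act_mul, act_inv_act]
        exact inv2_resG hzact _
      · show _ ↔ act g⁻¹ v ∈ (cspan {a, b} : Submodule F (Fin n → F))
        rw [← inv2_neg_iff h2 hzact, act_mul, act_mul]
        constructor
        · intro h
          apply act_inj (g := g)
          rw [h, ← neg_one_smul F (act g⁻¹ v), act_smul, act_act_inv, neg_one_smul]
        · intro h
          rw [h, ← neg_one_smul F, act_smul, act_act_inv, neg_one_smul]
    rcases win_or_small hF h2 hn hH hzM hzm hW with h | h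
    · exact absurd h hwin
    rcases of_small hF h2 hH hn hab hzact hzM hzm h with h | h
    · exact absurd h hwin
    · exact h
  push Not at hex
  exfalso
  -- all these conjugates are monomial: every image plane has small support
  have hplane : ∀ a b : Fin n, a ≠ b → ∃ S : Finset (Fin n), S.card ≤ 4 ∧
      (∀ i, i ∉ S → act g (e a) i = 0) ∧ ∀ i, i ∉ S → act g (e b) i = 0 := by
    intro a b hab
    obtain ⟨z, hz, hz2, hzact⟩ := exists_inv2 (n := n) (q := q) hF hab
    have hmon := hex a b hab z hz hz2 hzact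
    set k := g * z * g⁻¹ with hk
    have hkk : ∀ x, act k (act k x) = x := fun x => by
      rw [← act_mul, hk, show g * z * g⁻¹ * (g * z * g⁻¹) = g * (z * z) * g⁻¹ by group, hz2,
        mul_one, mul_inv_cancel, act_one]
    choose f l hl hf using mon_apply hmon
    have hfinj : Function.Injective f := by
      intro o o' h
      by_contra hne
      have h5 := herm_act k (e o) (e o')
      rw [hf, hf, h, herm_single hF, Pi.single_eq_same, herm_single_right hF,
        show (e o : Fin n → F) o' = 0 from Pi.single_eq_of_ne (Ne.symm hne) _] at h5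
      exact mul_ne_zero (hl o) (pow_ne_zero _ (hl o')) h5
    have hff : ∀ o, f (f o) = o := by
      intro o
      have h1 := hkk (e o)
      rw [hf, show (Pi.single (f o) (l o) : Fin n → F) = l o • e (f o) by
        rw [e, ← Pi.single_smul', smul_eq_mul, mul_one], act_smul, hf] at h1
      by_contra hne
      have := congrFun h1 (f (f o))
      simp [e, Pi.single_eq_of_ne hne, hl o, hl (f o)] at this
    set r : Fin n → Fin n → F := fun o => act k (e o) - e o with hr
    have hres : ∀ o, act g⁻¹ (r o) ∈ (cspan {a, b} : Submodule F (Fin n → F)) := by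
      intro o
      rw [hr, act_sub, hk, act_mul, act_mul, act_inv_act]
      exact inv2_resG hzact _
    have hrpos : ∀ o, r o ≠ 0 → r o o ≠ 0 := by
      intro o ho
      simp only [hr, Pi.sub_apply, hf]
      by_cases hfo : f o = o
      · rw [hfo, Pi.single_eq_same, show (e o : Fin n → F) o = 1 from Pi.single_eq_same _ _]
        intro h0
        apply ho
        simp only [hr]
        rw [hf, hfo, sub_eq_zero.1 h0, sub_self]
      · rw [Pi.single_eq_of_ne (Ne.symm hfo), show (e o : Fin n → F) o = 1 from Pi.single_eq_same _ _]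
        simp
    have hroff : ∀ o i, i ≠ o → i ≠ f o → r o i = 0 := by
      intro o i h1 h3
      simp only [hr, Pi.sub_apply, hf]
      rw [Pi.single_eq_of_ne h3, show (e o : Fin n → F) i = 0 from Pi.single_eq_of_ne h1 _, sub_zero]
    have h3 : ∀ o₁ o₂ o₃, r o₁ ≠ 0 → r o₂ ≠ 0 → r o₃ ≠ 0 → o₂ ≠ o₁ → o₂ ≠ f o₁ →
        o₃ ≠ o₁ → o₃ ≠ f o₁ → o₃ ≠ o₂ → o₃ ≠ f o₂ → False := by
      intro o₁ o₂ o₃ r1 r2 r3 h21 h21' h31 h31' h32 h32'
      have hflip : ∀ {x y : Fin n}, x ≠ f y → y ≠ f x := fun {x y} h h' => h (by rw [h', hff])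
      let L : (Fin 3 → F) →ₗ[F] (({a, b} : Finset (Fin n)) → F) :=
        { toFun := fun c i => c 0 * act g⁻¹ (r o₁) i + c 1 * act g⁻¹ (r o₂) i
            + c 2 * act g⁻¹ (r o₃) i
          map_add' := fun c d => funext fun i => by simp only [Pi.add_apply]; ring
          map_smul' := fun t c => funext fun i => by
            simp only [Pi.smul_apply, smul_eq_mul, RingHom.id_apply]; ring }
      have hinj : Function.Injective L := by
        refine (injective_iff_map_eq_zero L).2 fun c hc => ?_
        have h0 : act g⁻¹ (c 0 • r o₁ + c 1 • r o₂ + c 2 • r o₃) = act g⁻¹ 0 := by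
          rw [act_zero, act_add, act_add, act_smul, act_smul, act_smul]
          funext i
          simp only [Pi.add_apply, Pi.smul_apply, smul_eq_mul, Pi.zero_apply]
          by_cases hi : i ∈ ({a, b} : Finset (Fin n))
          · exact congrFun hc ⟨i, hi⟩
          · rw [hres _ i hi, hres _ i hi, hres _ i hi]; ring
        have h1 := act_inj h0
        have e1 := congrFun h1 o₁
        have e2 := congrFun h1 o₂
        have e3 := congrFun h1 o₃
        simp only [Pi.add_apply, Pi.smul_apply, smul_eq_mul, Pi.zero_apply] at e1 e2 e3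
        rw [hroff o₂ o₁ h21.symm (hflip h21'), hroff o₃ o₁ h31.symm (hflip h31')] at e1
        rw [hroff o₁ o₂ h21 h21', hroff o₃ o₂ h32.symm (hflip h32')] at e2
        rw [hroff o₁ o₃ h31 h31', hroff o₂ o₃ h32 h32'] at e3
        simp only [mul_zero, add_zero, zero_add] at e1 e2 e3
        funext i
        fin_cases i
        · simpa using (mul_eq_zero.1 e1).resolve_right (hrpos _ r1)
        · simpa using (mul_eq_zero.1 e2).resolve_right (hrpos _ r2)
        · simpa using (mul_eq_zero.1 e3).resolve_right (hrpos _ r3)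
      have := LinearMap.finrank_le_finrank_of_injective hinj
      rw [Module.finrank_pi, Module.finrank_pi, Fintype.card_fin, Fintype.card_coe,
        Finset.card_pair hab] at this
      omega
    obtain ⟨S, hS, hfix⟩ : ∃ S : Finset (Fin n), S.card ≤ 4 ∧ ∀ o, o ∉ S → r o = 0 := by
      by_cases h1 : ∃ o, r o ≠ 0
      swap
      · push Not at h1
        exact ⟨∅, by simp, fun o _ => h1 o⟩
      obtain ⟨o₁, r1⟩ := h1
      by_cases h2' : ∃ o, r o ≠ 0 ∧ o ∉ ({o₁, f o₁} : Finset (Fin n))
      swap
      · push Not at h2'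
        exact ⟨{o₁, f o₁}, Finset.card_le_two.trans (by omega), fun o ho => by
          by_contra h; exact ho (h2' o h)⟩
      obtain ⟨o₂, r2, ho₂⟩ := h2'
      refine ⟨{o₁, f o₁, o₂, f o₂}, Finset.card_le_four, fun o ho => ?_⟩
      simp only [Finset.mem_insert, Finset.mem_singleton, not_or] at ho ho₂
      by_contra h
      exact h3 o₁ o₂ o r1 r2 h ho₂.1 ho₂.2 ho.1 ho.2.1 ho.2.2.1 ho.2.2.2
    have hzero : ∀ c, c = a ∨ c = b → ∀ i, i ∉ S → act g (e c) i = 0 := by
      intro c hc i hi
      have h1 : act k (act g (e c)) = -act g (e c) := by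
        rw [hk, act_mul, act_mul, act_inv_act, (inv2_neg_iff h2 hzact _).2
          (e_mem_cspan (by rcases hc with rfl | rfl <;> simp)), ← neg_one_smul F, act_smul,
          neg_one_smul]
      have h5 := herm_act k (act g (e c)) (e i)
      rw [h1, show act k (e i) = e i from sub_eq_zero.1 (hfix i hi), herm_single_right hF,
        herm_single_right hF, Pi.neg_apply] at h5
      exact (mul_eq_zero.1 (show (2 : F) * act g (e c) i = 0 by linear_combination -h5)).resolve_left h2
    exact ⟨S, hS, hzero a (Or.inl rfl), hzero b (Or.inr rfl)⟩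
  obtain ⟨ζ, hζ, hζ1, hζq⟩ := exists_zeta (F := F) (q := q) hF
  -- supports of the columns
  have key : ∀ a b, a ≠ b → ∀ o, act g (e a) o ≠ 0 → 2 ≤ (suppF (act g (e a))).card →
      act g (e b) o ≠ 0 := by
    intro a b hab o ho h2a hbo
    obtain ⟨S, hS, hSa, hSb⟩ := hplane a b hab
    obtain ⟨t, ht, htact⟩ := exists_diag2 (n := n) hab hζ
    set k := g * t * g⁻¹ with hk
    have hkM : k ∈ M := M.mul_mem (M.mul_mem hg (hH t (ht id))) (M.inv_mem hg)
    have hcoe : ∀ c i, act g⁻¹ (e i) c = (act g (e c) i) ^ q := fun c i => by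
      rw [← herm_single_right hF c (act g⁻¹ (e i)), ← herm_act g, act_act_inv, herm_single_left]
    obtain ⟨j, hj⟩ := exists_notMem S (by omega)
    have hkj : act k (e j) = e j := by
      rw [hk, act_mul, act_mul]
      conv_rhs => rw [← act_act_inv g (e j)]
      congr 1
      funext i
      rw [htact]
      split_ifs with h1 h3
      · rw [h1, hcoe, hSa j hj, zero_pow_q hF, mul_zero]
      · rw [h3, hcoe, hSb j hj, zero_pow_q hF, mul_zero]
      · rw [one_mul]
    have hkmon : IsMon k := by
      by_contra h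
      exact hwin ⟨k, hkM, h, j, 1, by rw [one_smul]; exact hkj⟩
    have hko : act k (e o) = e o + ((ζ - 1) * act g (e a) o ^ q) • act g (e a) := by
      rw [hk, act_mul, act_mul]
      have hu : act t (act g⁻¹ (e o)) = act g⁻¹ (e o) + ((ζ - 1) * act g (e a) o ^ q) • e a := by
        funext i
        rw [htact, Pi.add_apply, Pi.smul_apply, smul_eq_mul]
        by_cases h1 : i = a
        · subst h1
          rw [if_pos rfl, hcoe, show (e i : Fin n → F) i = 1 from Pi.single_eq_same _ _]
          ring
        rw [if_neg h1, show (e a : Fin n → F) i = 0 from Pi.single_eq_of_ne h1 _]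
        by_cases h3 : i = b
        · subst h3
          rw [if_pos rfl, hcoe, hbo, zero_pow_q hF]
          ring
        rw [if_neg h3]
        ring
      rw [hu, act_add, act_act_inv, act_smul]
    have hc0 : (ζ - 1) * act g (e a) o ^ q ≠ 0 :=
      mul_ne_zero (sub_ne_zero.2 hζ1) (pow_ne_zero _ ho)
    obtain ⟨i, hi, hio⟩ := Finset.exists_mem_ne (show 1 < (suppF (act g (e a))).card by omega) o
    rw [mem_suppF] at hi
    have h1 : act k (e o) i ≠ 0 := by
      rw [hko, Pi.add_apply, Pi.smul_apply, smul_eq_mul,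
        show (e o : Fin n → F) i = 0 from Pi.single_eq_of_ne hio _, zero_add]
      exact mul_ne_zero hc0 hi
    have h3 : act k (e o) o ≠ 0 := by
      rw [hko, Pi.add_apply, Pi.smul_apply, smul_eq_mul,
        show (e o : Fin n → F) o = 1 from Pi.single_eq_same _ _, mul_assoc, ← pow_succ]
      intro h0
      set N := act g (e a) o ^ (q + 1)
      have hN0 : N ≠ 0 := pow_ne_zero _ ho
      have h4 := congrArg (· ^ q) h0
      simp only [add_pow_q hF, one_pow, mul_pow, sub_pow_q hF, zero_pow_q hF,
        show N ^ q = N from norm_pow_q hF _] at h4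
      have : (ζ ^ q - ζ) * N = 0 := by linear_combination h4 - h0
      exact hζq (sub_eq_zero.1 ((mul_eq_zero.1 this).resolve_right hN0))
    exact hio (hkmon o o i o rfl h1 h3)
  obtain ⟨a, ha⟩ : ∃ a, 2 ≤ (suppF (act g (e a))).card := by
    by_contra hcon
    push Not at hcon
    exact hgm (mon_of_card fun a => by have := hcon a; omega)
  obtain ⟨b₀, hb₀⟩ := exists_notMem {a} (by simp; omega)
  rw [Finset.mem_singleton] at hb₀
  obtain ⟨S, hS, hSa, -⟩ := hplane a b₀ (Ne.symm hb₀)
  have hsub : ∀ b, suppF (act g (e a)) ⊆ suppF (act g (e b)) := fun b o ho => by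
    by_cases hab : a = b
    · rw [← hab]; exact ho
    · rw [mem_suppF] at ho ⊢; exact key a b hab o ho ha
  have heq : ∀ b, suppF (act g (e b)) ⊆ suppF (act g (e a)) := fun b o ho => by
    by_cases hab : a = b
    · rw [hab]; exact ho
    · rw [mem_suppF] at ho ⊢
      exact key b a (Ne.symm hab) o ho (ha.trans (Finset.card_le_card (hsub b)))
  have := card_le_of_supp g Finset.univ S fun b _ i hi => by
    by_contra h
    exact mem_suppF.1 (heq b (mem_suppF.2 h)) (hSa i hi)
  rw [Finset.card_univ, Fintype.card_fin] at this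
  omega

end Cfsg.Agent.UnitaryFrame84
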