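import Mathlib
import Cfsg.Agent.Lib.UnitaryFrameOdd84

/-!
Characteristic two: an overgroup of the monomial group which is not monomial.
-/

set_option autoImplicit false
set_option linter.unusedSectionVars false

namespace Cfsg.Agent.UnitaryFrame84

open scoped Matrix MatrixGroups
open Cfsg.Agent.OrthUnitaryHerm
open Cfsg.Agent.OrthUnitaryTransvection
open Cfsg.Agent.OrthUnitarySubspaces
open Cfsg.Agent.OrthUnitaryMaximal

variable {F : Type*} [Field F] [Fintype F] {q n : ℕ} {M : Subgroup (SU n F q)}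

theorem one_add_one_pow (h2 : (2 : F) = 0) : (1 : F) + 1 ^ q = 0 := by
  rw [one_pow]; linear_combination h2

/-- The transvection with parameter one and centre `x` lies in `M`. -/
def TV1 (M : Subgroup (SU n F q)) (x : Fin n → F) : Prop :=
  hermForm n F q x x = 0 ∧ ∃ m ∈ M, ∀ u, act m u = u + hermForm n F q u x • x

theorem TV1.conj {x : Fin n → F} (h : TV1 M x) {g : SU n F q} (hg : g ∈ M) : TV1 M (act g x) := by
  obtain ⟨hx, m, hm, hact⟩ := h
  refine ⟨by rw [herm_act, hx], g * m * g⁻¹, M.mul_mem (M.mul_mem hg hm) (M.inv_mem hg),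
    fun u => ?_⟩
  rw [act_mul, act_mul, hact, act_add, act_smul, act_act_inv, ← herm_act g (act g⁻¹ u),
    act_act_inv]

/-- Transpositions with phases are transvections. -/
theorem tv1_pair (hF : Fintype.card F = q ^ 2) (h2 : (2 : F) = 0)
    (hH : ∀ g, IsMon g → g ∈ M) {a b : Fin n} (hab : a ≠ b) {l : F} (hl : l ^ (q + 1) = 1) :
    TV1 M (pv a b 1 l) := by
  have hiso : hermForm n F q (pv a b 1 l) (pv a b (1 : F) l) = 0 := by
    rw [herm_pv_self hF hab, one_pow, hl]; linear_combination h2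
  have hll : l * l ^ q = 1 := by rw [← pow_succ', hl]
  refine ⟨hiso, tv hF (pv a b 1 l) 1 hiso (one_add_one_pow h2), hH _ (mon_of_apply fun c => ?_),
    fun u => by rw [tv_act, one_mul]⟩
  simp only [tv_act, one_mul, herm_pv hF, one_pow, mul_one]
  by_cases hca : c = a
  · subst hca
    refine ⟨b, l, ?_⟩
    rw [show (e c : Fin n → F) c = 1 from Pi.single_eq_same _ _,
      show (e c : Fin n → F) b = 0 from Pi.single_eq_of_ne hab.symm _, zero_mul, add_zero, one_smul]
    funext i
    simp only [pv, e, Pi.add_apply]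
    by_cases hic : i = c
    · subst hic
      simp only [Pi.single_eq_same, Pi.single_eq_of_ne hab]
      linear_combination h2
    · simp [Pi.single_eq_of_ne hic]
  by_cases hcb : c = b
  · subst hcb
    refine ⟨a, l ^ q, ?_⟩
    rw [show (e c : Fin n → F) a = 0 from Pi.single_eq_of_ne hab _,
      show (e c : Fin n → F) c = 1 from Pi.single_eq_same _ _, zero_add, one_mul]
    funext i
    simp only [pv, e, Pi.add_apply, Pi.smul_apply, smul_eq_mul]
    by_cases hia : i = a
    · subst hia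
      simp [Pi.single_eq_of_ne hab]
    by_cases hic : i = c
    · subst hic
      rw [Pi.single_eq_same, Pi.single_eq_of_ne hia, Pi.single_eq_same, Pi.single_eq_of_ne hia]
      linear_combination hll + h2
    · simp [Pi.single_eq_of_ne hia, Pi.single_eq_of_ne hic]
  · refine ⟨c, 1, ?_⟩
    rw [show (e c : Fin n → F) a = 0 from Pi.single_eq_of_ne (Ne.symm hca) _,
      show (e c : Fin n → F) b = 0 from Pi.single_eq_of_ne (Ne.symm hcb) _, zero_mul, add_zero,
      zero_smul, add_zero]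

/-- Moving a transvection centre by a pair. -/
theorem tv1_move (hF : Fintype.card F = q ^ 2) (h2 : (2 : F) = 0) (hH : ∀ g, IsMon g → g ∈ M)
    {x : Fin n → F} (hx : TV1 M x) {a b : Fin n} (hab : a ≠ b) {l : F} (hl : l ^ (q + 1) = 1) :
    TV1 M (pv a b 1 l + (x a ^ q + l * x b ^ q) • x) := by
  obtain ⟨-, m, hm, hact⟩ := id hx
  have := (tv1_pair hF h2 hH hab hl).conj hm
  rw [hact, herm_conj hF x, herm_pv hF, one_pow, mul_one, add_pow_q hF, mul_pow,
    pow_q_q hF] at this
  rwa [mul_comm (x b ^ q) l] at this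

/-- Enlarging the support by one. -/
theorem tv1_grow (hF : Fintype.card F = q ^ 2) (h2 : (2 : F) = 0) (hH : ∀ g, IsMon g → g ∈ M)
    {x : Fin n → F} (hx : TV1 M x) (hlt : (suppF x).card < n)
    (hex : ∃ a ∈ suppF x, x a ^ (q + 1) ≠ 1) :
    ∃ x' : Fin n → F, TV1 M x' ∧ (suppF x').card = (suppF x).card + 1 := by
  classical
  obtain ⟨a, ha, haN⟩ := hex
  obtain ⟨b, hb⟩ := exists_notMem (suppF x) hlt
  have hab : a ≠ b := fun h => hb (h ▸ ha)
  rw [mem_suppF, not_not] at hb
  rw [mem_suppF] at ha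
  refine ⟨_, tv1_move hF h2 hH hx hab (one_pow (q + 1) : (1 : F) ^ (q + 1) = 1), ?_⟩
  rw [hb, zero_pow_q hF, mul_zero, add_zero]
  rw [← Finset.card_insert_of_notMem (by rw [mem_suppF, not_not]; exact hb : b ∉ suppF x)]
  refine le_antisymm (Finset.card_le_card fun i hi => ?_) (Finset.card_le_card fun i hi => ?_)
  · rw [mem_suppF] at hi
    rw [Finset.mem_insert, mem_suppF]
    by_contra hcon
    rw [not_or, not_not] at hcon
    apply hi
    rw [Pi.add_apply, Pi.smul_apply, hcon.2, smul_zero, add_zero,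
      pv_other (fun h : i = a => ha (h ▸ hcon.2)) hcon.1]
  rw [Finset.mem_insert, mem_suppF] at hi
  rw [mem_suppF, Pi.add_apply, Pi.smul_apply, smul_eq_mul]
  rcases hi with rfl | hi
  · rw [pv_right hab, hb, mul_zero, add_zero]; exact one_ne_zero
  by_cases hia : i = a
  · subst hia
    rw [pv_left hab, ← pow_succ]
    intro h
    exact haN (by linear_combination h - h2)
  · rw [pv_other hia (fun h : i = b => hi (h ▸ hb)), zero_add]
    exact mul_ne_zero (pow_ne_zero _ ha) hi

/-- Making some norm different from one. -/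
theorem tv1_fix (hF : Fintype.card F = q ^ 2) (h2 : (2 : F) = 0) (hq : 3 ≤ q)
    (hH : ∀ g, IsMon g → g ∈ M) {x : Fin n → F} (hx : TV1 M x) (h3 : 3 ≤ (suppF x).card) :
    ∃ x' : Fin n → F, TV1 M x' ∧ (suppF x').card = (suppF x).card ∧
      ∃ a ∈ suppF x', x' a ^ (q + 1) ≠ 1 := by
  classical
  obtain ⟨ρ, hρ, hρ0, hρ1⟩ : ∃ ρ : F, ρ ^ (q + 1) = 1 ∧ ρ + ρ ^ q ≠ 0 ∧ ρ + ρ ^ q ≠ 1 := by
    by_contra hcon
    push Not at hcon
    have hsub : traceSet q (1 : F) ⊆ {0, 1} := by
      intro T hT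
      obtain ⟨u, hu, rfl⟩ := mem_traceSet.1 hT
      by_cases h : u + u ^ q = 0
      · simp [h]
      · simp [hcon u hu h]
    have := (Finset.card_le_card hsub).trans Finset.card_le_two
    have := card_traceSet' hF one_ne_zero (one_pow (q + 1)) (one_pow q : (1 : F) ^ q = 1)
    omega
  have hρρ : ρ * ρ ^ q = 1 := by rw [← pow_succ', hρ]
  have hN1ρ : (1 + ρ) ^ (q + 1) = ρ + ρ ^ q := by
    rw [pow_succ, add_pow_q hF, one_pow]
    linear_combination hρρ + h2
  by_cases hex : ∃ a ∈ suppF x, x a ^ (q + 1) ≠ 1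
  · exact ⟨x, hx, rfl, hex⟩
  push Not at hex
  obtain ⟨a, b, c, ha, hb, hc, hab, hac, hbc⟩ :=
    Finset.two_lt_card_iff.1 (show 2 < (suppF x).card by omega)
  have hNa := hex a ha
  have hNb := hex b hb
  have hNc := hex c hc
  rw [mem_suppF] at ha hb hc
  set l := ρ * x a ^ q / x b ^ q with hldef
  have hl : l ^ (q + 1) = 1 := by
    rw [hldef, div_pow, mul_pow, ← pow_mul, ← pow_mul, mul_comm q, pow_mul, pow_mul, hρ, hNa,
      hNb, one_pow, mul_one, div_one]
  have hlb : l * x b ^ q = ρ * x a ^ q := div_mul_cancel₀ _ (pow_ne_zero _ hb)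
  have hγ : x a ^ q + l * x b ^ q = x a ^ q * (1 + ρ) := by rw [hlb]; ring
  have h1ρ : (1 : F) + ρ ≠ 0 := fun h => hρ0 (by
    rw [← hN1ρ, h, zero_pow (Nat.succ_ne_zero q)])
  refine ⟨_, tv1_move hF h2 hH hx hab hl, le_antisymm (Finset.card_le_card fun i hi => ?_)
    (Finset.card_le_card fun i hi => ?_), c, ?_, ?_⟩
  · rw [mem_suppF] at hi ⊢
    intro h0
    apply hi
    rw [Pi.add_apply, Pi.smul_apply, h0, smul_zero, add_zero,
      pv_other (fun h : i = a => ha (h ▸ h0)) (fun h : i = b => hb (h ▸ h0))]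
  · rw [mem_suppF] at hi
    rw [mem_suppF, Pi.add_apply, Pi.smul_apply, smul_eq_mul, hγ]
    by_cases hia : i = a
    · subst hia
      rw [pv_left hab]
      intro h
      apply normOne_ne_zero hρ
      rw [pow_succ] at hNa
      linear_combination h - (1 + ρ) * hNa - h2
    by_cases hib : i = b
    · subst hib
      rw [pv_right hab]
      intro h
      apply pow_ne_zero q ha
      rw [pow_succ] at hNb
      linear_combination (x i ^ q) * h - hlb - x a ^ q * (1 + ρ) * hNb - (x a ^ q * ρ) * h2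
    rw [pv_other hia hib, zero_add]
    exact mul_ne_zero (mul_ne_zero (pow_ne_zero _ ha) h1ρ) hi
  · rw [mem_suppF, Pi.add_apply, Pi.smul_apply, smul_eq_mul, hγ, pv_other hac.symm hbc.symm,
      zero_add]
    exact mul_ne_zero (mul_ne_zero (pow_ne_zero _ ha) h1ρ) hc
  · rw [Pi.add_apply, Pi.smul_apply, smul_eq_mul, hγ, pv_other hac.symm hbc.symm, zero_add,
      mul_pow, mul_pow, ← pow_mul, mul_comm q, pow_mul, hNa, one_pow, one_mul, hN1ρ, hNc, mul_one]
    exact hρ1

/-- The image of some pair vector has at least three non-zero coordinates. -/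
theorem exists_wide_pair (hF : Fintype.card F = q ^ 2) (hn : 4 ≤ n) {g : SU n F q}
    (hgm : ¬IsMon g) : ∃ a b : Fin n, a ≠ b ∧ ∃ l : F, l ^ (q + 1) = 1 ∧
      3 ≤ (suppF (act g (pv a b 1 l))).card := by
  have hng : ∃ a ∈ (Finset.univ : Finset (Fin n)), 2 ≤ (suppF (act g (e a))).card := by
    by_contra hcon
    push Not at hcon
    exact hgm (mon_of_card fun a => by have := hcon a (Finset.mem_univ _); omega)
  obtain ⟨a, -, b, -, hab, l, hl, hw⟩ := exists_wide hF g Finset.univ
    (by rw [Finset.card_univ, Fintype.card_fin]; exact hn) hng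
  exact ⟨a, b, hab, l, hl, hw⟩

/-- Characteristic two, at least four in the fixed field. -/
theorem smallCentre_even (hF : Fintype.card F = q ^ 2) (h2 : (2 : F) = 0) (hq : 3 ≤ q)
    (hH : ∀ g, IsMon g → g ∈ M) (hn : 7 ≤ n) {g : SU n F q} (hg : g ∈ M) (hgm : ¬IsMon g) :
    SmallCentre M := by
  classical
  obtain ⟨a₀, b₀, hab₀, l₀, hl₀, hw⟩ := exists_wide_pair hF (by omega) hgm
  obtain ⟨x, hx, hx5⟩ : ∃ x : Fin n → F, TV1 M x ∧ 5 ≤ (suppF x).card := by
    suffices H : ∀ k, 3 ≤ k → k ≤ 5 → ∃ x : Fin n → F, TV1 M x ∧ k ≤ (suppF x).card from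
      H 5 (by omega) le_rfl
    intro k hk
    induction k, hk using Nat.le_induction with
    | base => exact fun _ => ⟨_, (tv1_pair hF h2 hH hab₀ hl₀).conj hg, hw⟩
    | succ k hk ih =>
      intro hk5
      obtain ⟨x, hx, hxk⟩ := ih (by omega)
      by_cases hdone : k + 1 ≤ (suppF x).card
      · exact ⟨x, hx, hdone⟩
      obtain ⟨x', hx', hle, hex⟩ := tv1_fix hF h2 hq hH hx (by omega)
      obtain ⟨x'', hx'', hlt⟩ := tv1_grow hF h2 hH hx' (by omega) hex
      exact ⟨x'', hx'', by omega⟩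
  obtain ⟨R, hR, hRc⟩ := Finset.exists_subset_card_eq hx5
  obtain ⟨a, ha⟩ := Finset.card_pos.1 (show 0 < R.card by omega)
  obtain ⟨b, c, d, p, hbc, hbd, hbp, hcd, hcp, hdp, hR4⟩ :=
    Finset.card_eq_four.1 (show (R.erase a).card = 4 by rw [Finset.card_erase_of_mem ha]; omega)
  have hmemb : b ∈ R.erase a := by simp [hR4]
  have hmemc : c ∈ R.erase a := by simp [hR4]
  have hmemd : d ∈ R.erase a := by simp [hR4]
  have hmemp : p ∈ R.erase a := by simp [hR4]
  rw [Finset.mem_erase] at hmemb hmemc hmemd hmemp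
  have hxa := mem_suppF.1 (hR ha)
  have hxb := mem_suppF.1 (hR hmemb.2)
  have hxc := mem_suppF.1 (hR hmemc.2)
  have hxd := mem_suppF.1 (hR hmemd.2)
  have hxp := mem_suppF.1 (hR hmemp.2)
  obtain ⟨q₁, hq₁⟩ := exists_notMem ({a, b, c, d, p} : Finset (Fin n))
    (Finset.card_le_five.trans_lt (by omega))
  obtain ⟨q₂, hq₂⟩ := exists_notMem (insert q₁ ({a, b, c, d, p} : Finset (Fin n)))
    ((Finset.card_insert_le _ _).trans_lt (by
      have : ({a, b, c, d, p} : Finset (Fin n)).card ≤ 5 := Finset.card_le_five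
      omega))
  simp only [Finset.mem_insert, Finset.mem_singleton, not_or] at hq₁ hq₂
  obtain ⟨h, hpres, hout, -, hzx, hzz, hza⟩ := exists_swap (β := (id : Fin n → Fin n)) hF
    Function.injective_id (x := x) hmemb.1.symm hmemc.1.symm hmemd.1.symm hbc hbd hcd
    hxa hxb hxc hxd
  obtain ⟨hxx, m, hm, hact⟩ := id hx
  obtain ⟨-, m', hm', hact'⟩ := hx.conj (hH h hpres)
  set z := act h x - x with hz
  have hxz : hermForm n F q x z = 0 := herm_skew_zero hF hzx
  have hμ : (1 : F) + 1 ^ q + hermForm n F q x x = 0 := by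
    rw [hxx, add_zero]; exact one_add_one_pow h2
  have heq : m' * m = eich hF z x 1 hzz hxz hμ := su_ext fun u => by
    rw [act_mul, eich_act, hact', hact, show act h x = x + z by rw [hz]; abel]
    simp only [herm_add_left, herm_add_right hF, herm_smul_left, hxx, hxz]
    match_scalars
    all_goals first
      | linear_combination (hermForm n F q u x) * h2
      | linear_combination (-hermForm n F q u x) * h2
      | linear_combination (0 : F) * h2
  refine ⟨z, centre_of_eich hF (β := (id : Fin n → Fin n)) hH (heq ▸ M.mul_mem hm' hm) (a := p)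
    (b := q₁) (d := q₂) (Ne.symm hq₁.2.2.2.2) (Ne.symm hq₂.2.2.2.2.2) (Ne.symm hq₂.1) ?_ ?_ ?_
    hxp, fun h0 => hza (by rw [h0]; rfl), {a, b, c, d},
    ⟨Finset.card_le_four.trans (by omega), Finset.card_le_four.trans_lt (by omega)⟩,
    fun i hi => ?_⟩
  · rw [hz, Pi.sub_apply, hout x p hmemp.1 hbp.symm hcp.symm hdp.symm, sub_self]
  · rw [hz, Pi.sub_apply, hout x q₁ hq₁.1 hq₁.2.1 hq₁.2.2.1 hq₁.2.2.2.1, sub_self]
  · rw [hz, Pi.sub_apply, hout x q₂ hq₂.2.1 hq₂.2.2.1 hq₂.2.2.2.1 hq₂.2.2.2.2.1, sub_self]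
  · simp only [Finset.mem_insert, Finset.mem_singleton, not_or] at hi
    rw [hz, Pi.sub_apply, hout x i hi.1 hi.2.1 hi.2.2.1 hi.2.2.2, sub_self]

section Two

variable {t : ℕ} {β : Fin n → Fin t} {M₂ : Subgroup (SU n F 2)}

/-- Reducing a centre to support four, for four elements. -/
theorem centre_four (hF : Fintype.card F = 2 ^ 2) (hH : ∀ g, Pres β g → g ∈ M₂) {z : Fin n → F}
    (hz : Centre M₂ z) {a b₁ b₂ b₃ c : Fin n} (h1 : a ≠ b₁) (h2' : a ≠ b₂) (h3 : a ≠ b₃)
    (h4 : b₁ ≠ b₂) (h5 : b₁ ≠ b₃) (h6 : b₂ ≠ b₃) (ha : z a ≠ 0) (hb₁ : z b₁ ≠ 0) (hb₂ : z b₂ ≠ 0)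
    (hb₃ : z b₃ ≠ 0) (hc : z c = 0) :
    ∃ w : Fin n → F, Centre M₂ w ∧ ∀ i, w i ≠ 0 ↔ i ∈ ({a, b₁, b₂, b₃} : Finset (Fin n)) := by
  classical
  obtain ⟨ω, hω, hω3, h2⟩ := exists_omega hF
  have hω0 := normOne_ne_zero hω
  have hω1 : ω ≠ 1 := fun h => by
    subst h
    exact one_ne_zero (show (1 : F) = 0 by linear_combination hω3 - h2)
  have hω21 : ω ^ 2 ≠ 1 := fun h => hω1 (by
    have : ω * ω ^ 2 = 1 := by rw [← pow_succ', hω]
    rw [h, mul_one] at this; exact this)
  have hca : a ≠ c := fun h => ha (h ▸ hc)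
  have hcb₁ : b₁ ≠ c := fun h => hb₁ (h ▸ hc)
  have hcb₂ : b₂ ≠ c := fun h => hb₂ (h ▸ hc)
  have hcb₃ : b₃ ≠ c := fun h => hb₃ (h ▸ hc)
  let d : Fin n → F := fun i => if i = a then ω else if i = b₁ then ω ^ 2 else
    if i = b₂ then ω ^ 2 else if i = b₃ then ω ^ 2 else if i = c then ω ^ 2 else 1
  have hd : ∀ i, d i ^ (2 + 1) = 1 := fun i => normOne_two hF (by
    simp only [d]
    split_ifs <;> simp [hω0])
  have hp : ∏ i, d i = 1 := by
    rw [← Finset.prod_subset (Finset.subset_univ {a, b₁, b₂, b₃, c})]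
    · rw [Finset.prod_insert (by simp [h1, h2', h3, hca]),
        Finset.prod_insert (by simp [h4, h5, hcb₁]), Finset.prod_insert (by simp [h6, hcb₂]),
        Finset.prod_insert (by simp [hcb₃]), Finset.prod_singleton]
      simp only [d, h1.symm, h2'.symm, h3.symm, h4.symm, h5.symm, h6.symm, hca.symm, hcb₁.symm,
        hcb₂.symm, hcb₃.symm, if_true, if_false]
      linear_combination (ω ^ 6 + ω ^ 3 + 1) * hω
    · intro i _ hi
      simp only [Finset.mem_insert, Finset.mem_singleton, not_or] at hi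
      simp [d, hi.1, hi.2.1, hi.2.2.1, hi.2.2.2.1, hi.2.2.2.2]
  have hγ : ∑ i, (d i - 1) * z i ^ (2 + 1) = 1 := by
    rw [← Finset.sum_subset (Finset.subset_univ {a, b₁, b₂, b₃})]
    · rw [Finset.sum_insert (by simp [h1, h2', h3]), Finset.sum_insert (by simp [h4, h5]),
        Finset.sum_insert (by simp [h6]), Finset.sum_singleton, normOne_two hF ha,
        normOne_two hF hb₁, normOne_two hF hb₂, normOne_two hF hb₃]
      simp only [d, h1.symm, h2'.symm, h3.symm, h4.symm, h5.symm, h6.symm, if_true, if_false]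
      linear_combination hω3 + (ω ^ 2 - 3) * h2
    · intro i _ hi
      simp only [Finset.mem_insert, Finset.mem_singleton, not_or] at hi
      by_cases hic : i = c
      · rw [hic, hc]; simp
      · simp [d, hi.1, hi.2.1, hi.2.2.1, hi.2.2.2, hic]
  refine ⟨_, centre_twist hF hH hz d hd hp hγ one_ne_zero (one_add_one_pow h2), fun i => ?_⟩
  simp only [Finset.mem_insert, Finset.mem_singleton]
  constructor
  · intro h
    by_contra hi
    rw [not_or, not_or, not_or] at hi
    apply h
    by_cases hic : i = c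
    · rw [hic, hc, mul_zero]
    · simp [d, hi.1, hi.2.1, hi.2.2.1, hi.2.2.2, hic]
  · rintro (rfl | rfl | rfl | rfl)
    · simp [d, sub_ne_zero.2 hω1, ha]
    · simp [d, h1.symm, sub_ne_zero.2 hω21, hb₁]
    · simp [d, h2'.symm, h4.symm, sub_ne_zero.2 hω21, hb₂]
    · simp [d, h3.symm, h5.symm, h6.symm, sub_ne_zero.2 hω21, hb₃]

/-- Reducing a centre without zero coordinates to support six, for four elements. -/
theorem centre_six (hF : Fintype.card F = 2 ^ 2) (hH : ∀ g, Pres β g → g ∈ M₂) {z : Fin n → F}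
    (hz : Centre M₂ z) (hn : 6 ≤ n) (hall : ∀ i, z i ≠ 0) :
    ∃ w : Fin n → F, Centre M₂ w ∧ ∀ i : Fin n, w i ≠ 0 ↔ (i : ℕ) < 6 := by
  classical
  obtain ⟨ω, hω, hω3, h2⟩ := exists_omega hF
  have hω0 := normOne_ne_zero hω
  have hω1 : ω ≠ 1 := fun h => by
    subst h
    exact one_ne_zero (show (1 : F) = 0 by linear_combination hω3 - h2)
  have hω21 : ω ^ 2 ≠ 1 := fun h => hω1 (by
    have : ω * ω ^ 2 = 1 := by rw [← pow_succ', hω]
    rw [h, mul_one] at this; exact this)
  let f : Fin 6 → F := ![ω, ω, ω, ω ^ 2, ω ^ 2, ω ^ 2]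
  let d : Fin n → F := fun i => if h : (i : ℕ) < 6 then f ⟨i, h⟩ else 1
  have hfne : ∀ j, f j ≠ 1 := by
    intro j; fin_cases j <;> simp [f, hω1, hω21]
  have hd : ∀ i, d i ^ (2 + 1) = 1 := fun i => normOne_two hF (by
    simp only [d]
    split_ifs with h
    · have : ∀ j, f j ≠ 0 := by intro j; fin_cases j <;> simp [f, hω0]
      exact this _
    · exact one_ne_zero)
  have hS : (Finset.univ.filter fun i : Fin n => (i : ℕ) < 6)
      = Finset.univ.map (Fin.castLEEmb hn) := by
    ext i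
    simp only [Finset.mem_filter, Finset.mem_univ, true_and, Finset.mem_map, Fin.castLEEmb_apply]
    constructor
    · intro h; exact ⟨⟨i, h⟩, Fin.ext rfl⟩
    · rintro ⟨j, rfl⟩; simp
  have hcast : ∀ j : Fin 6, d (Fin.castLE hn j) = f j := fun j => by
    simp [d, Fin.castLE]
  have hp : ∏ i, d i = 1 := by
    rw [← Finset.prod_subset (Finset.subset_univ (Finset.univ.filter fun i : Fin n => (i : ℕ) < 6))
      (fun i _ hi => by simp only [Finset.mem_filter, Finset.mem_univ, true_and] at hi; simp [d, hi]),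
      hS, Finset.prod_map]
    simp only [Fin.castLEEmb_apply, hcast, Fin.prod_univ_six, f]
    simp only [Matrix.cons_val_zero, Matrix.cons_val_one, Matrix.cons_val]
    linear_combination (ω ^ 6 + ω ^ 3 + 1) * hω
  have hγ : ∑ i, (d i - 1) * z i ^ (2 + 1) = 1 := by
    rw [← Finset.sum_subset (Finset.subset_univ (Finset.univ.filter fun i : Fin n => (i : ℕ) < 6))
      (fun i _ hi => by simp only [Finset.mem_filter, Finset.mem_univ, true_and] at hi; simp [d, hi]),
      hS, Finset.sum_map]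
    simp only [Fin.castLEEmb_apply, hcast, Fin.sum_univ_six, f, normOne_two hF (hall _)]
    simp only [Matrix.cons_val_zero, Matrix.cons_val_one, Matrix.cons_val]
    linear_combination 3 * hω3 - 5 * h2
  refine ⟨_, centre_twist hF hH hz d hd hp hγ one_ne_zero (one_add_one_pow h2), fun i => ?_⟩
  constructor
  · intro h
    by_contra hi
    exact h (by simp [d, hi])
  · intro hi
    simp only [d, dif_pos hi]
    exact mul_ne_zero (sub_ne_zero.2 (hfne _)) (hall i)

theorem even_supp (hF : Fintype.card F = 2 ^ 2) {z : Fin n → F} (hz : hermForm n F 2 z z = 0) :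
    (suppF z).card % 2 = 0 := by
  classical
  obtain ⟨ω, hω, hω3, h2⟩ := exists_omega hF
  have hpar : ((suppF z).card : F) = 0 := by
    rw [← hz, herm_self_sum, ← Finset.sum_subset (Finset.subset_univ (suppF z)) fun i _ hi => by
      rw [mem_suppF, not_not] at hi; rw [hi, zero_pow (by omega)],
      Finset.sum_congr rfl fun i hi => normOne_two hF (mem_suppF.1 hi)]
    simp
  by_contra h
  have h1 : (suppF z).card = 2 * ((suppF z).card / 2) + 1 := by omega
  rw [h1, Nat.cast_add, Nat.cast_mul, Nat.cast_ofNat, h2] at hpar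
  simp at hpar

/-- Four elements, one coordinate in each part. -/
theorem fourCentre (hF : Fintype.card F = 2 ^ 2) (hH : ∀ g, IsMon g → g ∈ M₂) (hn : 7 ≤ n)
    {g : SU n F 2} (hg : g ∈ M₂) (hgm : ¬IsMon g) :
    (∀ a b : Fin n, a ≠ b → Centre M₂ (pv a b (1 : F) 1)) ∧
      ∃ (w : Fin n → F) (S : Finset (Fin n)), Centre M₂ w ∧ S.card = 4 ∧ ∀ i, w i ≠ 0 ↔ i ∈ S := by
  classical
  obtain ⟨ω, hω, hω3, h2⟩ := exists_omega hF
  have hpairC : ∀ a b : Fin n, a ≠ b → ∀ l : F, l ^ (2 + 1) = 1 → Centre M₂ (pv a b (1 : F) l) := by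
    intro a b hab l hl
    obtain ⟨hiso, m, hm, hact⟩ := tv1_pair (M := M₂) hF h2 hH hab hl
    refine (centre_iff hF hiso).2 fun c hc => ?_
    have hc' : c = 0 ∨ c = 1 := by
      have : c * (c + 1) = 0 := by linear_combination hc
      rcases mul_eq_zero.1 this with h | h
      · exact Or.inl h
      · exact Or.inr (by linear_combination h - h2)
    rcases hc' with rfl | rfl
    · convert M₂.one_mem
      refine su_ext fun u => ?_
      rw [tv_act, act_one, zero_mul, zero_smul, add_zero]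
    · convert hm
      refine su_ext fun u => ?_
      rw [tv_act, hact, one_mul]
  refine ⟨fun a b hab => hpairC a b hab 1 (one_pow _), ?_⟩
  obtain ⟨a, b, hab, l, hl, hwide⟩ := exists_wide_pair hF (by omega) hgm
  have hz := centre_act hF hg (hpairC a b hab l hl)
  set z := act g (pv a b 1 l)
  have hev := even_supp hF hz.1
  -- support four from a centre with a zero coordinate
  have hred : ∀ z : Fin n → F, Centre M₂ z → 4 ≤ (suppF z).card → (suppF z).card < n →
      ∃ (w : Fin n → F) (S : Finset (Fin n)), Centre M₂ w ∧ S.card = 4 ∧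
        ∀ i, w i ≠ 0 ↔ i ∈ S := by
    intro z hz h4 hlt
    obtain ⟨c, hc⟩ := exists_notMem (suppF z) hlt
    obtain ⟨R, hR, hRc⟩ := Finset.exists_subset_card_eq h4
    obtain ⟨a, b₁, b₂, b₃, e1, e2, e3, e4, e5, e6, rfl⟩ := Finset.card_eq_four.1 hRc
    rw [mem_suppF, not_not] at hc
    obtain ⟨w, hw, hwS⟩ := centre_four (β := (id : Fin n → Fin n)) hF hH hz e1 e2 e3 e4 e5 e6
      (mem_suppF.1 (hR (by simp))) (mem_suppF.1 (hR (by simp))) (mem_suppF.1 (hR (by simp)))
      (mem_suppF.1 (hR (by simp))) hc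
    exact ⟨w, _, hw, hRc, hwS⟩
  by_cases hfull : (suppF z).card < n
  · exact hred z hz (by omega) hfull
  · have hall : ∀ i, z i ≠ 0 := fun i => mem_suppF.1 (by
      rw [Finset.eq_univ_of_card (suppF z) (by
        have := Finset.card_le_univ (suppF z); rw [Fintype.card_fin] at this ⊢; omega)]
      exact Finset.mem_univ i)
    obtain ⟨w, hw, hwS⟩ := centre_six (β := (id : Fin n → Fin n)) hF hH hz (by omega) hall
    have hcard : (suppF w).card = 6 := by
      rw [show suppF w = Finset.univ.map (Fin.castLEEmb (show 6 ≤ n by omega)) by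
        ext i
        simp only [mem_suppF, hwS, Finset.mem_map, Finset.mem_univ, true_and, Fin.castLEEmb_apply]
        constructor
        · intro h; exact ⟨⟨i, h⟩, Fin.ext rfl⟩
        · rintro ⟨j, rfl⟩; simp]
      simp
    exact hred w hw (by omega) (by omega)

end Two

end Cfsg.Agent.UnitaryFrame84
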