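import Mathlib
import Cfsg.Agent.Lib.UnitaryFrameEven84

/-!
Decompositions into orthogonal parts of dimension at least two: a centre across two parts.
-/

set_option autoImplicit false
set_option linter.unusedSectionVars false

namespace Cfsg.Agent.UnitaryFrame84

open scoped Matrix MatrixGroups
open Cfsg.Agent.OrthUnitaryHerm
open Cfsg.Agent.OrthUnitaryTransvection
open Cfsg.Agent.OrthUnitarySubspaces
open Cfsg.Agent.OrthUnitaryMaximal

variable {F : Type*} [Field F] [Fintype F] {q n t k : ℕ}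

/-- The part containing a coordinate. -/
def part (E : Fin n ≃ Fin t × Fin k) (a : Fin n) : Fin t := (E a).1

/-- The component of a vector in a part. -/
def blk (E : Fin n ≃ Fin t × Fin k) (v : Fin n → F) (i : Fin t) : Fin k → F :=
  fun x => v (E.symm (i, x))

theorem part_symm (E : Fin n ≃ Fin t × Fin k) (i : Fin t) (x : Fin k) :
    part E (E.symm (i, x)) = i := by simp [part]

theorem symm_ne (E : Fin n ≃ Fin t × Fin k) {i j : Fin t} (h : i ≠ j) (x y : Fin k) :
    E.symm (i, x) ≠ E.symm (j, y) := fun h' => h (by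
  have := congrArg (part E) h'
  rwa [part_symm, part_symm] at this)

theorem symm_ne' (E : Fin n ≃ Fin t × Fin k) (i : Fin t) {x y : Fin k} (h : x ≠ y) :
    E.symm (i, x) ≠ E.symm (i, y) := fun h' => h (Prod.mk.inj (E.symm.injective h')).2

theorem coord_eq (E : Fin n ≃ Fin t × Fin k) (a : Fin n) : E.symm (part E a, (E a).2) = a := by
  simp [part]

theorem herm_blk (E : Fin n ≃ Fin t × Fin k) (u v : Fin n → F) :
    hermForm n F q u v = ∑ i, hermForm k F q (blk E u i) (blk E v i) := by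
  unfold hermForm blk
  rw [← Fintype.sum_prod_type' fun i x => u (E.symm (i, x)) * v (E.symm (i, x)) ^ q]
  exact Fintype.sum_equiv E _ _ fun a => by simp

theorem blk_ne {E : Fin n ≃ Fin t × Fin k} {v : Fin n → F} {a : Fin n} (h : v a ≠ 0) :
    blk E v (part E a) ≠ 0 := fun h0 => h (by
  have := congrFun h0 (E a).2
  simpa [blk, coord_eq] using this)

theorem exists_of_blk {E : Fin n ≃ Fin t × Fin k} {v : Fin n → F} {i : Fin t}
    (h : blk E v i ≠ 0) : ∃ a, part E a = i ∧ v a ≠ 0 := by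
  by_contra hcon
  push Not at hcon
  exact h (funext fun x => hcon _ (part_symm E i x))

/-- A block diagonal element of `SU`. -/
noncomputable def blockEl (E : Fin n ≃ Fin t × Fin k) (B : Fin t → Matrix (Fin k) (Fin k) F)
    (hB : ∀ i, IsU q (B i)) (hdet : ∏ i, (B i).det = 1) : SU n F q :=
  mkSU ((Matrix.blockDiagonal B).submatrix (E.trans (Equiv.prodComm _ _))
      (E.trans (Equiv.prodComm _ _)))
    (by rw [Matrix.det_submatrix_equiv_self, Matrix.det_blockDiagonal, hdet])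
    (by
      intro u v
      rw [herm_blk E, herm_blk E u v]
      refine Finset.sum_congr rfl fun i _ => ?_
      rw [← hB i (blk E u i) (blk E v i)]
      have key : ∀ w : Fin n → F, blk E ((Matrix.blockDiagonal B).submatrix
          (E.trans (Equiv.prodComm _ _)) (E.trans (Equiv.prodComm _ _)) *ᵥ w) i
            = B i *ᵥ blk E w i := by
        intro w
        funext x
        rw [blk, Matrix.submatrix_mulVec_equiv]
        simp [Matrix.mulVec, dotProduct, Fintype.sum_prod_type, Matrix.blockDiagonal_apply, blk]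
      rw [key, key])

theorem blockEl_blk (E : Fin n ≃ Fin t × Fin k) (B : Fin t → Matrix (Fin k) (Fin k) F)
    (hB : ∀ i, IsU q (B i)) (hdet : ∏ i, (B i).det = 1) (v : Fin n → F) (i : Fin t) :
    blk E (act (blockEl E B hB hdet) v) i = B i *ᵥ blk E v i := by
  funext x
  show ((Matrix.blockDiagonal B).submatrix _ _ *ᵥ v) (E.symm (i, x)) = _
  rw [Matrix.submatrix_mulVec_equiv]
  simp [Matrix.mulVec, dotProduct, Fintype.sum_prod_type, Matrix.blockDiagonal_apply, blk]

theorem blockEl_pres (E : Fin n ≃ Fin t × Fin k) (B : Fin t → Matrix (Fin k) (Fin k) F)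
    (hB : ∀ i, IsU q (B i)) (hdet : ∏ i, (B i).det = 1) :
    Pres (part E) (blockEl E B hB hdet) := by
  have key : ∀ a i, act (blockEl E B hB hdet) (e a) i ≠ 0 → part E i = part E a := by
    intro a i h
    by_contra hne
    apply h
    have h1 := congrFun (blockEl_blk E B hB hdet (e a) (part E i)) (E i).2
    rw [show blk E (act (blockEl E B hB hdet) (e a)) (part E i) (E i).2
      = act (blockEl E B hB hdet) (e a) i by simp [blk, coord_eq]] at h1
    rw [h1, show blk E (e a) (part E i) = (0 : Fin k → F) from funext fun y => by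
      simp only [blk, e, Pi.zero_apply]
      exact Pi.single_eq_of_ne (fun h => hne (by rw [← h, part_symm])) _]
    simp
  intro a b i j hab hi hj
  rw [key a i hi, key b j hj, hab]

theorem isU_one : IsU q (1 : Matrix (Fin k) (Fin k) F) := fun u v => by
  rw [Matrix.one_mulVec, Matrix.one_mulVec]

variable {M : Subgroup (SU n F q)} {E : Fin n ≃ Fin t × Fin k}

/-- Changing one component of a centre to any non-zero vector of the same norm. -/
theorem exists_normalize (hF : Fintype.card F = q ^ 2) (hH : ∀ g, Pres (part E) g → g ∈ M)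
    (ht : 2 ≤ t) (hk : 1 ≤ k) {z : Fin n → F} (hz : Centre M z) {i : Fin t}
    (hzi : blk E z i ≠ 0) {u : Fin k → F} (hu : u ≠ 0)
    (hnorm : hermForm k F q u u = hermForm k F q (blk E z i) (blk E z i)) :
    ∃ z', Centre M z' ∧ blk E z' i = u ∧
      ∀ o, part E o ≠ i → ∃ δ : F, δ ^ (q + 1) = 1 ∧ z' o = δ * z o := by
  classical
  obtain ⟨j, hj⟩ : ∃ j : Fin t, j ≠ i :=
    Fintype.exists_ne_of_one_lt_card (by rw [Fintype.card_fin]; omega) i
  obtain ⟨A, hA, hAu⟩ := exists_map hF hnorm.symm hzi hu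
  have hd : A.det ^ (q + 1) = 1 := hA.det_pow hF
  let x₀ : Fin k := ⟨0, hk⟩
  let d : Fin k → F := Function.update 1 x₀ A.det⁻¹
  have hdn : ∀ x, d x ^ (q + 1) = 1 := by
    intro x
    by_cases hx : x = x₀
    · rw [hx, show d x₀ = A.det⁻¹ from Function.update_self x₀ _ _]; exact normOne_inv hd
    · rw [show d x = (1 : Fin k → F) x from Function.update_of_ne hx _ _]; exact one_pow _
  let D : Matrix (Fin k) (Fin k) F := Matrix.diagonal d
  have hD : IsU q D := fun u v => by
    simp only [hermForm, D, Matrix.mulVec_diagonal, mul_pow]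
    refine Finset.sum_congr rfl fun x _ => ?_
    have h := hdn x
    rw [pow_succ'] at h
    linear_combination (u x * v x ^ q) * h
  let B : Fin t → Matrix (Fin k) (Fin k) F := fun l => if l = i then A else if l = j then D else 1
  have hB : ∀ l, IsU q (B l) := fun l => by
    simp only [B]
    split_ifs
    exacts [hA, hD, isU_one]
  have hdet : ∏ l, (B l).det = 1 := by
    rw [Finset.prod_eq_mul i j hj.symm (fun l _ hl => by simp [B, hl.1, hl.2]) (by simp) (by simp)]
    simp only [B, if_true, hj, if_false, D, Matrix.det_diagonal]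
    rw [Finset.prod_update_of_mem (Finset.mem_univ x₀)]
    simp [mul_inv_cancel₀ (normOne_ne_zero hd)]
  refine ⟨_, centre_act hF (hH _ (blockEl_pres E B hB hdet)) hz, ?_, fun o ho => ?_⟩
  · rw [blockEl_blk]
    simp only [B, if_true]
    exact hAu
  · have h1 := congrFun (blockEl_blk E B hB hdet z (part E o)) (E o).2
    rw [show blk E (act (blockEl E B hB hdet) z) (part E o) (E o).2
      = act (blockEl E B hB hdet) z o by simp [blk, coord_eq]] at h1
    rw [h1]
    simp only [B, if_neg ho]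
    by_cases hoj : part E o = j
    · rw [if_pos hoj, Matrix.mulVec_diagonal]
      exact ⟨d (E o).2, hdn _, by simp [blk, coord_eq]⟩
    · rw [if_neg hoj, Matrix.one_mulVec]
      exact ⟨1, one_pow _, by simp [blk, coord_eq]⟩

theorem blk_norm_eq {z z' : Fin n → F} {l : Fin t}
    (h : ∀ o, part E o = l → ∃ δ : F, δ ^ (q + 1) = 1 ∧ z' o = δ * z o) :
    hermForm k F q (blk E z' l) (blk E z' l) = hermForm k F q (blk E z l) (blk E z l) := by
  rw [herm_self_sum, herm_self_sum]
  refine Finset.sum_congr rfl fun x _ => ?_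
  obtain ⟨δ, hδ, hx⟩ := h (E.symm (l, x)) (part_symm E l x)
  simp only [blk, hx, mul_pow, hδ, one_mul]

theorem exists_other_norm {z : Fin n → F} (hz : hermForm n F q z z = 0) {i : Fin t}
    (hi : hermForm k F q (blk E z i) (blk E z i) ≠ 0) :
    ∃ j, j ≠ i ∧ hermForm k F q (blk E z j) (blk E z j) ≠ 0 := by
  classical
  by_contra hcon
  push Not at hcon
  apply hi
  have := hz
  rw [herm_blk E, Finset.sum_eq_single i (fun j _ hj => hcon j hj) (by simp)] at this
  exact this

theorem eq_pv {z : Fin n → F} {a b : Fin n} (hab : a ≠ b)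
    (h : ∀ o, o ≠ a → o ≠ b → z o = 0) : z = pv a b (z a) (z b) := funext fun o => by
  by_cases h1 : o = a
  · rw [h1, pv_left hab]
  by_cases h2 : o = b
  · rw [h2, pv_right hab]
  rw [pv_other h1 h2, h o h1 h2]

/-- A component of non-zero norm gives a pair centre across two parts. -/
theorem cross_of_norm (hF : Fintype.card F = q ^ 2) (hH : ∀ g, Pres (part E) g → g ∈ M)
    (ht : 2 ≤ t) (hk : 2 ≤ k) {z : Fin n → F} (hz : Centre M z) {i : Fin t}
    (hi : hermForm k F q (blk E z i) (blk E z i) ≠ 0) :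
    ∃ a b x y, part E a ≠ part E b ∧ x ≠ 0 ∧ Centre M (pv a b x y) := by
  classical
  let x₀ : Fin k := ⟨0, by omega⟩
  let x₁ : Fin k := ⟨1, by omega⟩
  have hx01 : x₀ ≠ x₁ := by simp [x₀, x₁, Fin.ext_iff]
  set ν := hermForm k F q (blk E z i) (blk E z i) with hν
  obtain ⟨s, hs⟩ := exists_norm_eq hF (a := ν) (herm_self_pow hF _)
  have hs0 : s ≠ 0 := fun h => hi (by rw [← hs, h, zero_pow (Nat.succ_ne_zero q)])
  have hu : hermForm k F q (Pi.single x₀ s) (Pi.single x₀ s) = ν := by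
    rw [herm_single hF, Pi.single_eq_same, ← pow_succ', hs]
  obtain ⟨z₁, hz₁, hz₁i, -⟩ := exists_normalize hF hH ht (by omega) hz
    (fun h => hi (by rw [hν, h, herm_zero_left])) (u := Pi.single x₀ s)
    (by simp [hs0]) hu
  set a := E.symm (i, x₀) with ha
  have hza : z₁ a = s := by
    have := congrFun hz₁i x₀
    simpa [blk] using this
  have hzc : z₁ (E.symm (i, x₁)) = 0 := by
    have := congrFun hz₁i x₁
    simpa [blk, Pi.single_eq_of_ne hx01.symm] using this
  have hzio : ∀ o, part E o = i → o ≠ a → z₁ o = 0 := by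
    intro o ho hoa
    have := congrFun hz₁i (E o).2
    rw [blk, show E.symm (i, (E o).2) = o by rw [← ho, coord_eq]] at this
    rw [this, Pi.single_eq_of_ne]
    intro h
    exact hoa (by rw [ha, ← h, ← ho, coord_eq])
  have hai : part E a = i := part_symm E i x₀
  by_cases hgood : ∃ o, part E o ≠ i ∧ z₁ o ≠ 0 ∧
      ((2 : F) ≠ 0 → ν + z₁ o ^ (q + 1) ≠ 0)
  · obtain ⟨o, hoi, ho0, hne⟩ := hgood
    obtain ⟨x, y, hx, -, hC⟩ := centre_pair_of_supp (β := part E) hF hH hz₁
      (a := a) (b := o) (fun h => hoi (h ▸ hai)) (by rw [hza]; exact hs0) ho0 hzc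
      (fun h2 => by rw [hza, hs]; exact hne h2)
    exact ⟨a, o, x, y, by rw [hai]; exact Ne.symm hoi, hx, hC⟩
  push Not at hgood
  obtain ⟨j, hji, hj⟩ := exists_other_norm hz₁.1 (i := i) (by rw [hz₁i, hu]; exact hi)
  by_cases htwo : ∃ o, part E o ≠ i ∧ part E o ≠ j ∧ z₁ o ≠ 0
  · obtain ⟨o, hoi, hoj, ho0⟩ := htwo
    obtain ⟨p, hp, hp0⟩ := exists_of_blk (E := E) (v := z₁) (i := j)
      (fun h => hj (by rw [h, herm_zero_left]))
    obtain ⟨h2, e1⟩ := hgood p (hp ▸ hji) hp0
    obtain ⟨-, e2⟩ := hgood o hoi ho0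
    obtain ⟨x, y, hx, -, hC⟩ := centre_pair_of_supp (β := part E) hF hH hz₁
      (a := p) (b := o) (fun h => hoj (h ▸ hp)) hp0 ho0 hzc
      (fun _ h => mul_ne_zero h2 hi (by linear_combination e1 + e2 - h))
    exact ⟨p, o, x, y, by rw [hp]; exact Ne.symm hoj, hx, hC⟩
  push Not at htwo
  -- exactly two parts
  obtain ⟨s', hs'⟩ := exists_norm_eq hF (a := hermForm k F q (blk E z₁ j) (blk E z₁ j))
    (herm_self_pow hF _)
  have hs'0 : s' ≠ 0 := fun h => hj (by rw [← hs', h, zero_pow (Nat.succ_ne_zero q)])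
  obtain ⟨z₂, hz₂, hz₂j, hz₂o⟩ := exists_normalize hF hH ht (by omega) hz₁
    (i := j) (fun h => hj (by rw [h, herm_zero_left])) (u := Pi.single x₀ s') (by simp [hs'0])
    (by rw [herm_single hF, Pi.single_eq_same, ← pow_succ', hs'])
  have hab : a ≠ E.symm (j, x₀) := symm_ne E hji.symm _ _
  refine ⟨a, E.symm (j, x₀), z₂ a, z₂ (E.symm (j, x₀)), by rw [hai, part_symm]; exact hji.symm,
    ?_, ?_⟩
  · obtain ⟨δ, hδ, hza'⟩ := hz₂o a (by rw [hai]; exact hji.symm)
    rw [hza', hza]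
    exact mul_ne_zero (normOne_ne_zero hδ) hs0
  · rwa [← eq_pv hab]
    intro o hoa hob
    by_cases hoj : part E o = j
    · have := congrFun hz₂j (E o).2
      rw [blk, show E.symm (j, (E o).2) = o by rw [← hoj, coord_eq]] at this
      rw [this, Pi.single_eq_of_ne]
      intro h
      exact hob (by rw [← h, ← hoj, coord_eq])
    · obtain ⟨δ, -, ho⟩ := hz₂o o hoj
      rw [ho]
      by_cases hoi : part E o = i
      · rw [hzio o hoi hoa, mul_zero]
      · rw [htwo o hoi hoj, mul_zero]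

/-- The standard isotropic pair inside a part. -/
theorem exists_iso_pair (hF : Fintype.card F = q ^ 2) {x₀ x₁ : Fin k} (h : x₀ ≠ x₁) :
    ∃ l : F, l ^ (q + 1) = -1 ∧
      hermForm k F q (pv x₀ x₁ 1 l) (pv x₀ x₁ (1 : F) l) = 0 ∧ pv x₀ x₁ (1 : F) l ≠ 0 := by
  obtain ⟨l, hl⟩ := exists_norm_eq hF (a := (-1 : F)) (by rw [neg_pow_q hF, one_pow])
  refine ⟨l, hl, by rw [herm_pv_self hF h, one_pow, hl, add_neg_cancel], fun h0 => ?_⟩
  have := congrFun h0 x₀
  rw [pv_left h] at this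
  exact one_ne_zero this

/-- At least three in the fixed field: a pair centre across two parts. -/
theorem cross_pair (hF : Fintype.card F = q ^ 2) (hH : ∀ g, Pres (part E) g → g ∈ M)
    (hk : 2 ≤ k) {z : Fin n → F} (hz : Centre M z) {i j : Fin t} (hij : i ≠ j)
    (hi : blk E z i ≠ 0) (hj : blk E z j ≠ 0) :
    ∃ a b x y, part E a ≠ part E b ∧ x ≠ 0 ∧ Centre M (pv a b x y) := by
  classical
  have ht : 2 ≤ t := by
    by_contra h
    exact hij (Fin.ext (by have := i.isLt; have := j.isLt; omega))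
  by_cases hnz : ∃ l, hermForm k F q (blk E z l) (blk E z l) ≠ 0
  · obtain ⟨l, hl⟩ := hnz
    exact cross_of_norm hF hH ht hk hz hl
  push Not at hnz
  let x₀ : Fin k := ⟨0, by omega⟩
  let x₁ : Fin k := ⟨1, by omega⟩
  have hx01 : x₀ ≠ x₁ := by simp [x₀, x₁, Fin.ext_iff]
  obtain ⟨l, hlN, hl0, hlne⟩ := exists_iso_pair (q := q) hF hx01
  obtain ⟨z₁, hz₁, hz₁i, hz₁o⟩ := exists_normalize hF hH ht (by omega) hz hi hlne
    (by rw [hl0, hnz])
  have hz₁j : blk E z₁ j ≠ 0 := by
    obtain ⟨o, ho, ho0⟩ := exists_of_blk hj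
    obtain ⟨δ, hδ, hx⟩ := hz₁o o (ho ▸ hij.symm)
    rw [← ho]
    exact blk_ne (by rw [hx]; exact mul_ne_zero (normOne_ne_zero hδ) ho0)
  obtain ⟨z₂, hz₂, hz₂j, hz₂o⟩ := exists_normalize hF hH ht (by omega) hz₁ hz₁j hlne
    (by rw [hl0, blk_norm_eq fun o ho => hz₁o o (ho ▸ hij.symm), hnz])
  set a := E.symm (i, x₀) with ha
  set a' := E.symm (i, x₁) with ha'
  set b := E.symm (j, x₀) with hb
  have hza : z₂ a ^ (q + 1) = 1 := by
    obtain ⟨δ, hδ, hx⟩ := hz₂o a (by rw [ha, part_symm]; exact hij)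
    rw [hx, mul_pow, hδ, one_mul, ha, show z₁ (E.symm (i, x₀)) = pv x₀ x₁ (1 : F) l x₀ from
      congrFun hz₁i x₀, pv_left hx01, one_pow]
  have hza' : z₂ a' ^ (q + 1) = -1 := by
    obtain ⟨δ, hδ, hx⟩ := hz₂o a' (by rw [ha', part_symm]; exact hij)
    rw [hx, mul_pow, hδ, one_mul, ha', show z₁ (E.symm (i, x₁)) = pv x₀ x₁ (1 : F) l x₁ from
      congrFun hz₁i x₁, pv_right hx01, hlN]
  have hzb : z₂ b ^ (q + 1) = 1 := by
    rw [hb, show z₂ (E.symm (j, x₀)) = pv x₀ x₁ (1 : F) l x₀ from congrFun hz₂j x₀, pv_left hx01,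
      one_pow]
  have hzi0 : ∀ x, x ≠ x₀ → x ≠ x₁ → z₂ (E.symm (i, x)) = 0 := fun x h1 h2 => by
    obtain ⟨δ, -, hx⟩ := hz₂o (E.symm (i, x)) (by rw [part_symm]; exact hij)
    rw [hx, show z₁ (E.symm (i, x)) = pv x₀ x₁ (1 : F) l x from congrFun hz₁i x, pv_other h1 h2,
      mul_zero]
  obtain ⟨ρ, hρ, hρ1, hρq⟩ := exists_zeta (F := F) (q := q) hF
  have hab : a ≠ b := symm_ne E hij _ _
  obtain ⟨h, hh, hact⟩ := exists_diag2 (n := n) hab hρ
  obtain ⟨c, hc0, hc⟩ := exists_skew (F := F) (q := q) hF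
  have hC := centre_comb hF hz₂ (centre_act hF (hH h (hh _)) hz₂) hc
  set γ := hermForm n F q (act h z₂) z₂ with hγ
  have hρi : ρ⁻¹ = ρ ^ q := (normOne_pow_q hρ).symm
  have hρρ : ρ * ρ ^ q = 1 := by rw [← pow_succ', hρ]
  have hγv : γ = (ρ - 1) + (ρ ^ q - 1) := by
    have h1 : hermForm n F q (act h z₂ - z₂) z₂ = (ρ - 1) + (ρ ^ q - 1) := by
      rw [hermForm, Finset.sum_eq_add a b hab]
      · rw [pow_succ'] at hza hzb
        simp only [Pi.sub_apply, hact, if_true, hab.symm, if_false, hρi]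
        linear_combination (ρ - 1) * hza + (ρ ^ q - 1) * hzb
      · intro o _ ho
        simp only [Pi.sub_apply, hact, ho.1, ho.2, if_false, one_mul, sub_self, zero_mul]
      · simp
      · simp
    rwa [herm_sub_left, hz₂.1, sub_zero] at h1
  set w := act h z₂ + (c * γ) • z₂ with hw
  refine cross_of_norm hF hH ht hk hC (i := i) ?_
  have hval : hermForm k F q (blk E w i) (blk E w i)
      = (ρ + c * γ) ^ (q + 1) - (1 + c * γ) ^ (q + 1) := by
    rw [herm_self_sum, Finset.sum_eq_add x₀ x₁ hx01]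
    · simp only [blk, hw, Pi.add_apply, Pi.smul_apply, smul_eq_mul, hact, ← ha, ← ha']
      simp only [if_true]
      rw [if_neg (symm_ne' E i hx01.symm), if_neg (symm_ne E hij _ _),
        show ρ * z₂ a + c * γ * z₂ a = (ρ + c * γ) * z₂ a by ring,
        show 1 * z₂ a' + c * γ * z₂ a' = (1 + c * γ) * z₂ a' by ring, mul_pow, mul_pow, hza, hza']
      ring
    · intro x _ hx
      simp only [blk, hw, Pi.add_apply, Pi.smul_apply, smul_eq_mul, hact]
      rw [hzi0 x hx.1 hx.2]
      simp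
    · simp
    · simp
  rw [hval]
  intro h0
  rw [pow_succ, pow_succ, add_pow_q hF, add_pow_q hF, mul_pow, one_pow, hγv] at h0
  simp only [add_pow_q hF, sub_pow_q hF, pow_q_q hF, one_pow,
    show c ^ q = -c by linear_combination hc] at h0
  have h2 : c * ((ρ ^ q - ρ) * (ρ + ρ ^ q - 2) * (ρ + ρ ^ q - 2)) = 0 ∨
      c * ((ρ ^ q - ρ) * (ρ + ρ ^ q - 2)) = 0 := Or.inr (by linear_combination h0 - hρρ)
  have hne : ρ + ρ ^ q - 2 ≠ 0 := by
    intro h3
    have : (ρ - 1) * (ρ - 1) = 0 := by linear_combination ρ * h3 - hρρ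
    exact hρ1 (sub_eq_zero.1 (mul_self_eq_zero.1 this))
  rcases h2 with h2 | h2 <;>
    simp [hc0, hne, sub_ne_zero.2 hρq] at h2

section Two

variable {M₂ : Subgroup (SU n F 2)}

/-- Four elements: an odd component. -/
theorem two_of_odd (hF : Fintype.card F = 2 ^ 2) (hH : ∀ g, Pres (part E) g → g ∈ M₂)
    (ht : 2 ≤ t) (hk : 3 ≤ k) {z : Fin n → F} (hz : Centre M₂ z) {i : Fin t}
    (hi : hermForm k F 2 (blk E z i) (blk E z i) ≠ 0) :
    (∃ a b x y, part E a ≠ part E b ∧ x ≠ 0 ∧ Centre M₂ (pv a b x y)) ∧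
      ∃ (w : Fin n → F) (S : Finset (Fin n)), Centre M₂ w ∧ S.card = 4 ∧
        ∀ o, w o ≠ 0 ↔ o ∈ S := by
  classical
  obtain ⟨ω, -, -, h2⟩ := exists_omega hF
  have hone : ∀ v : Fin k → F, hermForm k F 2 v v ≠ 0 → hermForm k F 2 v v = 1 := by
    intro v hv
    obtain ⟨s, hs⟩ := exists_norm_eq hF (a := hermForm k F 2 v v) (herm_self_pow hF v)
    rw [← hs]
    refine normOne_two hF fun h => hv ?_
    rw [← hs, h]; simp
  let x₀ : Fin k := ⟨0, by omega⟩
  let x₁ : Fin k := ⟨1, by omega⟩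
  let x₂ : Fin k := ⟨2, by omega⟩
  have hx01 : x₀ ≠ x₁ := by simp [x₀, x₁, Fin.ext_iff]
  have hx02 : x₀ ≠ x₂ := by simp [x₀, x₂, Fin.ext_iff]
  have hx12 : x₁ ≠ x₂ := by simp [x₁, x₂, Fin.ext_iff]
  obtain ⟨j, hji, hj⟩ := exists_other_norm hz.1 hi
  have hs1 : hermForm k F 2 (Pi.single x₀ 1) (Pi.single x₀ (1 : F)) = 1 := by
    rw [herm_single_right hF, Pi.single_eq_same]
  obtain ⟨z₁, hz₁, hz₁j, hz₁o⟩ := exists_normalize hF hH ht (by omega) hz
    (i := j) (fun h => hj (by rw [h, herm_zero_left])) (u := Pi.single x₀ (1 : F)) (by simp)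
    (by rw [hs1, hone _ hj])
  have hνi : hermForm k F 2 (blk E z₁ i) (blk E z₁ i) = 1 := by
    rw [blk_norm_eq fun o ho => hz₁o o (ho ▸ hji.symm), hone _ hi]
  set u₃ : Fin k → F := fun x => if x = x₀ ∨ x = x₁ ∨ x = x₂ then 1 else 0 with hu₃
  have hu3 : hermForm k F 2 u₃ u₃ = 1 := by
    rw [herm_self_sum, ← Finset.sum_subset (Finset.subset_univ {x₀, x₁, x₂}) fun x _ hx => ?_]
    · rw [Finset.sum_insert (by simp [hx01, hx02]), Finset.sum_insert (by simp [hx12]),
        Finset.sum_singleton]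
      simp only [hu₃, true_or, or_true, if_true, one_pow]
      linear_combination h2
    · simp only [Finset.mem_insert, Finset.mem_singleton] at hx
      simp [hu₃, hx]
  obtain ⟨z₂, hz₂, hz₂i, hz₂o⟩ := exists_normalize hF hH ht (by omega) hz₁
    (i := i) (fun h => by rw [h, herm_zero_left] at hνi; exact zero_ne_one hνi)
    (u := u₃) (fun h => by rw [h, herm_zero_left] at hu3; exact zero_ne_one hu3)
    (by rw [hu3, hνi])
  set a₀ := E.symm (i, x₀) with ha₀
  set a₁ := E.symm (i, x₁) with ha₁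
  set a₂ := E.symm (i, x₂) with ha₂
  set d := E.symm (j, x₀) with hd
  have hval : ∀ x, z₂ (E.symm (i, x)) = u₃ x := fun x => congrFun hz₂i x
  have hdj : z₂ d ≠ 0 := by
    obtain ⟨δ, hδ, hx⟩ := hz₂o d (by rw [hd, part_symm]; exact hji)
    rw [hx, hd, show z₁ (E.symm (j, x₀)) = (Pi.single x₀ (1 : F) : Fin k → F) x₀ from
      congrFun hz₁j x₀, Pi.single_eq_same, mul_one]
    exact normOne_ne_zero hδ
  have hc : z₂ (E.symm (j, x₁)) = 0 := by
    obtain ⟨δ, -, hx⟩ := hz₂o (E.symm (j, x₁)) (by rw [part_symm]; exact hji)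
    rw [hx, show z₁ (E.symm (j, x₁)) = (Pi.single x₀ (1 : F) : Fin k → F) x₁ from
      congrFun hz₁j x₁, Pi.single_eq_of_ne hx01.symm, mul_zero]
  obtain ⟨w, hw, hwS⟩ := centre_four (β := part E) hF hH hz₂
    (a := a₀) (b₁ := a₁) (b₂ := a₂) (b₃ := d) (c := E.symm (j, x₁)) (symm_ne' E i hx01)
    (symm_ne' E i hx02) (symm_ne E hji.symm _ _) (symm_ne' E i hx12) (symm_ne E hji.symm _ _)
    (symm_ne E hji.symm _ _) (by rw [ha₀, hval]; simp [hu₃]) (by rw [ha₁, hval]; simp [hu₃])
    (by rw [ha₂, hval]; simp [hu₃]) hdj hc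
  refine ⟨?_, w, _, hw, ?_, hwS⟩
  swap
  · rw [Finset.card_insert_of_notMem, Finset.card_insert_of_notMem, Finset.card_pair]
    · exact symm_ne E hji.symm _ _
    · simp [ha₁, ha₂, hd, hx12, hji.symm]
    · simp [ha₀, ha₁, ha₂, hd, hx01, hx02, hji.symm]
  have hwval : ∀ o, part E o = i → (w o ≠ 0 ↔ (E o).2 = x₀ ∨ (E o).2 = x₁ ∨ (E o).2 = x₂) := by
    intro o ho
    rw [hwS]
    simp only [Finset.mem_insert, Finset.mem_singleton, ha₀, ha₁, ha₂, hd, Equiv.eq_symm_apply]
    rw [show E o = (i, (E o).2) from Prod.ext ho rfl]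
    simp [hji.symm]
  have hwi : hermForm k F 2 (blk E w i) (blk E w i) = 1 := by
    rw [herm_self_sum, ← hu3, herm_self_sum]
    refine Finset.sum_congr rfl fun x _ => ?_
    have := hwval (E.symm (i, x)) (part_symm E i x)
    rw [Equiv.apply_symm_apply] at this
    simp only [blk]
    by_cases hx : x = x₀ ∨ x = x₁ ∨ x = x₂
    · rw [normOne_two hF (this.2 hx), hu₃]
      simp [hx]
    · rw [not_not.1 fun h => hx (this.1 h), hu₃]
      simp [hx]
  obtain ⟨w', hw', hw'i, hw'o⟩ := exists_normalize hF hH ht (by omega) hw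
    (i := i) (fun h => by rw [h, herm_zero_left] at hwi; exact zero_ne_one hwi)
    (u := Pi.single x₀ (1 : F)) (by simp) (by rw [hs1, hwi])
  have had : a₀ ≠ d := symm_ne E hji.symm _ _
  refine ⟨a₀, d, w' a₀, w' d, by rw [ha₀, hd, part_symm, part_symm]; exact hji.symm, ?_, ?_⟩
  · rw [ha₀, show w' (E.symm (i, x₀)) = (Pi.single x₀ (1 : F) : Fin k → F) x₀ from
      congrFun hw'i x₀, Pi.single_eq_same]
    exact one_ne_zero
  · rwa [← eq_pv had]
    intro o ho1 ho2
    by_cases hoi : part E o = i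
    · have := congrFun hw'i (E o).2
      rw [blk, show E.symm (i, (E o).2) = o by rw [← hoi, coord_eq]] at this
      rw [this, Pi.single_eq_of_ne]
      intro h
      exact ho1 (by rw [ha₀, ← h, ← hoi, coord_eq])
    · obtain ⟨δ, -, ho⟩ := hw'o o hoi
      rw [ho]
      by_contra h
      have := (hwS o).1 (right_ne_zero_of_mul h)
      simp only [Finset.mem_insert, Finset.mem_singleton] at this
      rcases this with rfl | rfl | rfl | rfl
      · exact hoi (part_symm E i x₀)
      · exact hoi (part_symm E i x₁)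
      · exact hoi (part_symm E i x₂)
      · exact ho2 rfl

/-- Four elements: a pair centre across two parts and a centre of support four. -/
theorem cross_pair_two (hF : Fintype.card F = 2 ^ 2) (hH : ∀ g, Pres (part E) g → g ∈ M₂)
    (hk : 3 ≤ k) {z : Fin n → F} (hz : Centre M₂ z) {i j : Fin t}
    (hij : i ≠ j) (hi : blk E z i ≠ 0) (hj : blk E z j ≠ 0) :
    (∃ a b x y, part E a ≠ part E b ∧ x ≠ 0 ∧ Centre M₂ (pv a b x y)) ∧
      ∃ (w : Fin n → F) (S : Finset (Fin n)), Centre M₂ w ∧ S.card = 4 ∧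
        ∀ o, w o ≠ 0 ↔ o ∈ S := by
  classical
  obtain ⟨ω, hω, hω3, h2⟩ := exists_omega hF
  have ht : 2 ≤ t := by
    by_contra h
    exact hij (Fin.ext (by have := i.isLt; have := j.isLt; omega))
  let x₀ : Fin k := ⟨0, by omega⟩
  let x₁ : Fin k := ⟨1, by omega⟩
  let x₂ : Fin k := ⟨2, by omega⟩
  have hx01 : x₀ ≠ x₁ := by simp [x₀, x₁, Fin.ext_iff]
  have hx02 : x₀ ≠ x₂ := by simp [x₀, x₂, Fin.ext_iff]
  have hx12 : x₁ ≠ x₂ := by simp [x₁, x₂, Fin.ext_iff]
  set u₂ : Fin k → F := pv x₀ x₁ 1 1 with hu₂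
  have hu2 : hermForm k F 2 u₂ u₂ = 0 := by
    rw [hu₂, herm_pv_self hF hx01, one_pow]; linear_combination h2
  have hu2ne : u₂ ≠ 0 := fun h => by
    have := congrFun h x₀
    rw [hu₂, pv_left hx01] at this
    exact one_ne_zero this
  by_cases hnz : ∃ l, hermForm k F 2 (blk E z l) (blk E z l) ≠ 0
  · obtain ⟨l, hl⟩ := hnz
    exact two_of_odd hF hH ht hk hz hl
  push Not at hnz
  -- both components become the standard pair
  obtain ⟨z₁, hz₁, hz₁i, hz₁o⟩ := exists_normalize hF hH ht (by omega) hz hi hu2ne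
    (by rw [hu2, hnz])
  have hz₁j : blk E z₁ j ≠ 0 := by
    obtain ⟨o, ho, ho0⟩ := exists_of_blk hj
    obtain ⟨δ, hδ, hx⟩ := hz₁o o (ho ▸ hij.symm)
    rw [← ho]
    exact blk_ne (by rw [hx]; exact mul_ne_zero (normOne_ne_zero hδ) ho0)
  obtain ⟨z₂, hz₂, hz₂j, hz₂o⟩ := exists_normalize hF hH ht (by omega) hz₁ hz₁j hu2ne
    (by rw [hu2, blk_norm_eq fun o ho => hz₁o o (ho ▸ hij.symm), hnz])
  set a := E.symm (i, x₀) with ha
  set b := E.symm (i, x₁) with hb
  set c := E.symm (i, x₂) with hc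
  set f := E.symm (j, x₁) with hf
  have hab : a ≠ b := symm_ne' E i hx01
  have hac : a ≠ c := symm_ne' E i hx02
  have hbc : b ≠ c := symm_ne' E i hx12
  have haf : a ≠ f := symm_ne E hij _ _
  have hbf : b ≠ f := symm_ne E hij _ _
  have hcf : c ≠ f := symm_ne E hij _ _
  have hvi : ∀ x, ∃ δ : F, δ ≠ 0 ∧ z₂ (E.symm (i, x)) = δ * u₂ x := fun x => by
    obtain ⟨δ, hδ, h1⟩ := hz₂o (E.symm (i, x)) (by rw [part_symm]; exact hij)
    exact ⟨δ, normOne_ne_zero hδ, by
      rw [h1, show z₁ (E.symm (i, x)) = u₂ x from congrFun hz₁i x]⟩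
  have hzi : ∀ x, x ≠ x₀ → x ≠ x₁ → z₂ (E.symm (i, x)) = 0 := fun x h0 h1 => by
    obtain ⟨δ, -, hx⟩ := hvi x
    rw [hx, hu₂, pv_other h0 h1, mul_zero]
  have hza : z₂ a ^ (2 + 1) = 1 := normOne_two hF (by
    obtain ⟨δ, hδ, hx⟩ := hvi x₀
    rw [ha, hx, hu₂, pv_left hx01, mul_one]; exact hδ)
  have hzb : z₂ b ^ (2 + 1) = 1 := normOne_two hF (by
    obtain ⟨δ, hδ, hx⟩ := hvi x₁
    rw [hb, hx, hu₂, pv_right hx01, mul_one]; exact hδ)
  have hzc : z₂ c = 0 := hzi x₂ hx02.symm hx12.symm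
  have hzf : z₂ f ^ (2 + 1) = 1 := normOne_two hF (by
    rw [hf, show z₂ (E.symm (j, x₁)) = u₂ x₁ from congrFun hz₂j x₁, hu₂, pv_right hx01]
    exact one_ne_zero)
  -- twist three coordinates
  let d : Fin n → F := fun o =>
    if o = a then ω else if o = b then ω ^ 2 else if o = c then ω ^ 2 else if o = f then ω else 1
  have hω0 := normOne_ne_zero hω
  have hd : ∀ o, d o ^ (2 + 1) = 1 := fun o => normOne_two hF (by
    simp only [d]
    split_ifs <;> simp [hω0])
  have hda : d a = ω := if_pos rfl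
  have hdb : d b = ω ^ 2 := by simp [d, hab.symm]
  have hdc : d c = ω ^ 2 := by simp [d, hac.symm, hbc.symm]
  have hdf : d f = ω := by simp [d, haf.symm, hbf.symm, hcf.symm]
  have hdet : (Equiv.Perm.sign (1 : Equiv.Perm (Fin n)) : F) * ∏ o, d o = 1 := by
    rw [← Finset.prod_subset (Finset.subset_univ {a, b, c, f}) fun o _ ho => by
      simp only [Finset.mem_insert, Finset.mem_singleton, not_or] at ho
      simp [d, ho.1, ho.2.1, ho.2.2.1, ho.2.2.2]]
    rw [Finset.prod_insert (by simp [hab, hac, haf]), Finset.prod_insert (by simp [hbc, hbf]),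
      Finset.prod_insert (by simp [hcf]), Finset.prod_singleton, hda, hdb, hdc, hdf]
    have h1 : ω ^ (2 + 1) = 1 := hω
    simp only [Equiv.Perm.sign_one, Units.val_one, Int.cast_one, one_mul]
    linear_combination (ω ^ 3 + 1) * h1
  have hz' := centre_act hF (hH _ (monEl_pres 1 d hd hdet fun o o' h => h)) hz₂
  set z' := act (monEl 1 d hd hdet) z₂ with hz'def
  have hval : ∀ o, z' o = d o * z₂ o := fun o => by rw [hz'def, monEl_act]; rfl
  have hγ : hermForm n F 2 z' z₂ = ω := by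
    have h1 : hermForm n F 2 (z' - z₂) z₂ = ω := by
      rw [hermForm, ← Finset.sum_subset (Finset.subset_univ {a, b, f}) fun o _ ho => ?_]
      · rw [Finset.sum_insert (by simp [hab, haf]), Finset.sum_insert (by simp [hbf]),
          Finset.sum_singleton]
        simp only [Pi.sub_apply, hval, hda, hdb, hdf]
        rw [pow_succ'] at hza hzb hzf
        linear_combination (ω - 1) * hza + (ω ^ 2 - 1) * hzb + (ω - 1) * hzf + hω3 - 2 * h2
      · simp only [Finset.mem_insert, Finset.mem_singleton, not_or] at ho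
        by_cases hoc : o = c
        · rw [hoc, Pi.sub_apply, hval, hzc]; simp
        · simp [hval, d, ho.1, ho.2.1, ho.2.2, hoc]
    rwa [herm_sub_left, hz₂.1, sub_zero] at h1
  have hC := centre_comb hF hz₂ hz' (c := (1 : F)) (one_add_one_pow h2)
  rw [one_mul, hγ] at hC
  refine two_of_odd hF hH ht hk hC (i := i) ?_
  have hval1 : hermForm k F 2 (blk E (z' + ω • z₂) i) (blk E (z' + ω • z₂) i) = 1 := by
    rw [herm_self_sum, Finset.sum_eq_single x₁]
    · simp only [blk, Pi.add_apply, Pi.smul_apply, smul_eq_mul, hval, ← hb, hdb]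
      rw [show ω ^ 2 * z₂ b + ω * z₂ b = z₂ b by linear_combination z₂ b * hω3 - z₂ b * h2, hzb]
    · intro x _ hx
      simp only [blk, Pi.add_apply, Pi.smul_apply, smul_eq_mul, hval]
      by_cases hx0 : x = x₀
      · rw [hx0, ← ha, hda, show ω * z₂ a + ω * z₂ a = 0 by linear_combination ω * z₂ a * h2,
          zero_pow (by omega)]
      · rw [hzi x hx0 hx]; simp
    · simp
  rw [hval1]
  exact one_ne_zero

end Two

end Cfsg.Agent.UnitaryFrame84
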