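import Mathlib
import Cfsg.Agent.Lib.UnitaryFrameOdd84

/-!
Odd characteristic, dimension at least nine: an overgroup of the monomial group which is not
monomial has an element outside the monomial group fixing a coordinate line.
-/

set_option autoImplicit false
set_option linter.unusedSectionVars false

namespace Cfsg.Agent.UnitaryFrame84

open scoped Matrix MatrixGroups
open Cfsg.Agent.OrthUnitaryHerm
open Cfsg.Agent.OrthUnitaryTransvection
open Cfsg.Agent.OrthUnitarySubspaces
open Cfsg.Agent.OrthUnitaryMaximal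

variable {F : Type*} [Field F] [Fintype F] {q n : ℕ} {M : Subgroup (SU n F q)}

theorem single_eq_smul (j : Fin n) (x : F) : (Pi.single j x : Fin n → F) = x • e j := by
  rw [e, ← Pi.single_smul', smul_eq_mul, mul_one]

theorem entry_inv (hF : Fintype.card F = q ^ 2) (g : SU n F q) (c i : Fin n) :
    act g⁻¹ (e i) c = (act g (e c) i) ^ q := by
  rw [← herm_single_right hF c (act g⁻¹ (e i)), ← herm_act g, act_act_inv, herm_single_left]

theorem isMon_inv (hF : Fintype.card F = q ^ 2) {g : SU n F q} (hg : IsMon g) : IsMon g⁻¹ := by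
  choose f l hl hf using mon_apply hg
  have hfi : Function.Injective f := by
    intro o o' h
    by_contra hne
    have h5 := herm_act g (e o) (e o')
    rw [hf, hf, h, herm_single hF, Pi.single_eq_same, herm_single_right hF,
      show (e o : Fin n → F) o' = 0 from Pi.single_eq_of_ne (Ne.symm hne) _] at h5
    exact mul_ne_zero (hl o) (pow_ne_zero _ (hl o')) h5
  intro a b i j hab hi hj
  obtain rfl : a = b := hab
  rw [entry_inv hF] at hi hj
  have h1 : a = f i := by
    by_contra h
    rw [hf, Pi.single_eq_of_ne h, zero_pow_q hF] at hi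
    exact hi rfl
  have h2 : a = f j := by
    by_contra h
    rw [hf, Pi.single_eq_of_ne h, zero_pow_q hF] at hj
    exact hj rfl
  exact hfi (h1.symm.trans h2)

/-- A monomial involution moving only a plane: its minus vectors have support at most four. -/
theorem invol_supp (hF : Fintype.card F = q ^ 2) (h2 : (2 : F) ≠ 0) {k : SU n F q} (hk : IsMon k)
    (hkk : ∀ x, act k (act k x) = x) (W : Submodule F (Fin n → F))
    (hW : Module.finrank F W ≤ 2) (hres : k ∈ resG W) :
    ∃ S : Finset (Fin n), S.card ≤ 4 ∧ (∀ o, o ∉ S → act k (e o) = e o) ∧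
      ∀ v : Fin n → F, act k v = -v → ∀ i, i ∉ S → v i = 0 := by
  classical
  choose f l hl hf using mon_apply hk
  have hff : ∀ o, f (f o) = o := by
    intro o
    have h1 := hkk (e o)
    rw [hf, single_eq_smul, act_smul, hf] at h1
    by_contra hne
    have := congrFun h1 (f (f o))
    simp [e, Pi.single_eq_of_ne hne, hl o, hl (f o)] at this
  set r : Fin n → Fin n → F := fun o => act k (e o) - e o with hr
  have hrpos : ∀ o, r o ≠ 0 → r o o ≠ 0 := by
    intro o ho
    simp only [hr, Pi.sub_apply, hf]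
    by_cases hfo : f o = o
    · rw [hfo, Pi.single_eq_same, show (e o : Fin n → F) o = 1 from Pi.single_eq_same _ _]
      intro h0
      apply ho
      simp only [hr]
      rw [hf, hfo, sub_eq_zero.1 h0, sub_self]
    · rw [Pi.single_eq_of_ne (Ne.symm hfo),
        show (e o : Fin n → F) o = 1 from Pi.single_eq_same _ _]
      simp
  have hroff : ∀ o i, i ≠ o → i ≠ f o → r o i = 0 := by
    intro o i h1 h3
    simp only [hr, Pi.sub_apply, hf]
    rw [Pi.single_eq_of_ne h3, show (e o : Fin n → F) i = 0 from Pi.single_eq_of_ne h1 _, sub_zero]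
  have h3 : ∀ o₁ o₂ o₃, r o₁ ≠ 0 → r o₂ ≠ 0 → r o₃ ≠ 0 → o₂ ≠ o₁ → o₂ ≠ f o₁ →
      o₃ ≠ o₁ → o₃ ≠ f o₁ → o₃ ≠ o₂ → o₃ ≠ f o₂ → False := by
    intro o₁ o₂ o₃ r1 r2 r3 h21 h21' h31 h31' h32 h32'
    have hflip : ∀ {x y : Fin n}, x ≠ f y → y ≠ f x := fun {x y} h h' => h (by rw [h', hff])
    let L : (Fin 3 → F) →ₗ[F] W :=
      { toFun := fun c => ⟨c 0 • r o₁ + c 1 • r o₂ + c 2 • r o₃,
          W.add_mem (W.add_mem (W.smul_mem _ (hres _)) (W.smul_mem _ (hres _)))
            (W.smul_mem _ (hres _))⟩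
        map_add' := fun c d => Subtype.ext (by
          simp only [Pi.add_apply, Submodule.coe_add, add_smul]
          abel)
        map_smul' := fun t c => Subtype.ext (by
          simp only [Pi.smul_apply, smul_eq_mul, RingHom.id_apply, Submodule.coe_smul, smul_add,
            smul_smul]) }
    have hinj : Function.Injective L := by
      refine (injective_iff_map_eq_zero L).2 fun c hc => ?_
      have h1 : c 0 • r o₁ + c 1 • r o₂ + c 2 • r o₃ = 0 := Subtype.ext_iff.1 hc
      have e1 := congrFun h1 o₁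
      have e2 := congrFun h1 o₂
      have e3 := congrFun h1 o₃
      simp only [Pi.add_apply, Pi.smul_apply, smul_eq_mul, Pi.zero_apply] at e1 e2 e3
      rw [hroff o₂ o₁ h21.symm (hflip h21'), hroff o₃ o₁ h31.symm (hflip h31')] at e1
      rw [hroff o₁ o₂ h21 h21', hroff o₃ o₂ h32.symm (hflip h32')] at e2
      rw [hroff o₁ o₃ h31 h31', hroff o₂ o₃ h32 h32'] at e3
      simp only [mul_zero, add_zero, zero_add] at e1 e2 e3
      funext i
      fin_cases i
      · simpa using (mul_eq_zero.1 e1).resolve_right (hrpos _ r1)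
      · simpa using (mul_eq_zero.1 e2).resolve_right (hrpos _ r2)
      · simpa using (mul_eq_zero.1 e3).resolve_right (hrpos _ r3)
    have := LinearMap.finrank_le_finrank_of_injective hinj
    rw [Module.finrank_fin_fun] at this
    omega
  obtain ⟨S, hS, hfix⟩ : ∃ S : Finset (Fin n), S.card ≤ 4 ∧ ∀ o, o ∉ S → r o = 0 := by
    by_cases h1 : ∃ o, r o ≠ 0
    swap
    · push Not at h1
      exact ⟨∅, by simp, fun o _ => h1 o⟩
    obtain ⟨o₁, r1⟩ := h1
    by_cases h2' : ∃ o, r o ≠ 0 ∧ o ∉ ({o₁, f o₁} : Finset (Fin n))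
    swap
    · push Not at h2'
      exact ⟨{o₁, f o₁}, Finset.card_le_two.trans (by omega), fun o ho => by
        by_contra h; exact ho (h2' o h)⟩
    obtain ⟨o₂, r2, ho₂⟩ := h2'
    refine ⟨{o₁, f o₁, o₂, f o₂}, Finset.card_le_four, fun o ho => ?_⟩
    simp only [Finset.mem_insert, Finset.mem_singleton, not_or] at ho ho₂
    by_contra h
    exact h3 o₁ o₂ o r1 r2 h ho₂.1 ho₂.2 ho.1 ho.2.1 ho.2.2.1 ho.2.2.2
  refine ⟨S, hS, fun o ho => sub_eq_zero.1 (hfix o ho), fun v hv i hi => ?_⟩
  have h5 := herm_act k v (e i)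
  rw [hv, show act k (e i) = e i from sub_eq_zero.1 (hfix i hi), herm_single_right hF,
    herm_single_right hF, Pi.neg_apply] at h5
  exact (mul_eq_zero.1 (show (2 : F) * v i = 0 by linear_combination -h5)).resolve_left h2

/-- An element with a column on a coordinate line gives `Win`. -/
theorem win_of_line (hF : Fintype.card F = q ^ 2) (hH : ∀ g, IsMon g → g ∈ M) (hn : 3 ≤ n)
    {g : SU n F q} (hg : g ∈ M) (hgm : ¬IsMon g) {x : Fin n}
    (hx : (suppF (act g (e x))).card ≤ 1) : Win M := by
  classical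
  obtain ⟨f, hf⟩ : ∃ f, act g (e x) f ≠ 0 := by
    by_contra h
    push Not at h
    have h0 : act g (e x) = act g 0 := by rw [act_zero]; exact funext h
    simpa [e] using congrFun (act_inj h0) x
  have hline : act g (e x) = Pi.single f (act g (e x) f) := funext fun i => by
    by_cases h : i = f
    · subst h; simp
    · rw [Pi.single_eq_of_ne h]
      by_contra h'
      exact h (Finset.card_le_one.1 hx i (mem_suppF.2 h') f (mem_suppF.2 hf))
  set l := act g (e x) f
  by_cases hfx : f = x
  · subst hfx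
    exact ⟨g, hg, hgm, f, l, by rw [hline, single_eq_smul]⟩
  obtain ⟨c, hc⟩ := exists_notMem ({f, x} : Finset (Fin n))
    (Finset.card_le_two.trans_lt (by omega))
  simp only [Finset.mem_insert, Finset.mem_singleton, not_or] at hc
  let d : Fin n → F := fun i => if i = c then -1 else 1
  have hd : ∀ i, d i ^ (q + 1) = 1 := fun i => by
    simp only [d]
    split_ifs
    · rw [neg_norm hF, one_pow]
    · exact one_pow _
  have hdet : (Equiv.Perm.sign (Equiv.swap f x) : F) * ∏ i, d i = 1 := by
    rw [Equiv.Perm.sign_swap hfx, Finset.prod_eq_single c (fun i _ hi => by simp [d, hi]) (by simp)]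
    simp [d]
  set h := monEl (Equiv.swap f x) d hd hdet
  have hmon : IsMon h := monEl_pres _ _ _ _ fun _ _ h' => (Equiv.swap f x).injective h'
  refine ⟨h * g, M.mul_mem (hH h hmon) hg, fun hm => hgm ?_, x, l, ?_⟩
  · have := mon_mul (isMon_inv hF hmon) hm
    rwa [inv_mul_cancel_left] at this
  · rw [act_mul, hline, single_eq_smul, act_smul]
    congr 1
    funext i
    rw [monEl_act]
    by_cases hi : i = x
    · subst hi
      rw [Equiv.swap_apply_right]
      simp [d, e, Ne.symm hc.1]
    by_cases hi' : i = f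
    · subst hi'
      rw [Equiv.swap_apply_left]
      simp [e, Pi.single_eq_of_ne hi, Pi.single_eq_of_ne (Ne.symm hi)]
    · rw [Equiv.swap_apply_of_ne_of_ne hi' hi]
      simp [e, Pi.single_eq_of_ne hi, Pi.single_eq_of_ne hi']

/-- Two zeros in a column: both preimages have small equal supports. -/
theorem two_zero_step (hF : Fintype.card F = q ^ 2) (h2 : (2 : F) ≠ 0)
    (hH : ∀ g, IsMon g → g ∈ M) (hn : 6 ≤ n) (hwin : ¬Win M) {g : SU n F q} (hg : g ∈ M)
    (hgm : ¬IsMon g) {x p r : Fin n} (hpr : p ≠ r) (hp : act g (e x) p = 0)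
    (hr : act g (e x) r = 0) :
    ∃ S : Finset (Fin n), S.card ≤ 4 ∧ suppF (act g⁻¹ (e p)) ⊆ S ∧
      suppF (act g⁻¹ (e p)) = suppF (act g⁻¹ (e r)) := by
  classical
  have hgi : ¬IsMon g⁻¹ := fun h => hgm (inv_inv g ▸ isMon_inv hF h)
  have hfixed : ∀ t : SU n F q, t ∈ M →
      (∀ v : Fin n → F, v p = 0 → v r = 0 → act t v = v) → IsMon (g⁻¹ * t * g) := by
    intro t ht hfix
    by_contra h
    refine hwin ⟨_, M.mul_mem (M.mul_mem (M.inv_mem hg) ht) hg, h, x, 1, ?_⟩
    rw [one_smul, act_mul, act_mul, hfix _ hp hr, act_inv_act]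
  obtain ⟨z, hzmon, hz2, hzact⟩ := exists_inv2 hF hpr (q := q)
  have hzfix : ∀ v : Fin n → F, v p = 0 → v r = 0 → act z v = v := by
    intro v h1 h3
    funext i
    rw [hzact]
    split_ifs with h
    · rcases h with rfl | rfl
      · rw [h1, mul_zero]
      · rw [h3, mul_zero]
    · rw [one_mul]
  have hk := hfixed z (hH z hzmon) hzfix
  set W : Submodule F (Fin n → F) :=
    Submodule.span F (({act g⁻¹ (e p), act g⁻¹ (e r)} : Finset (Fin n → F)) : Set (Fin n → F))
  have hW : Module.finrank F W ≤ 2 :=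
    (finrank_span_finset_le_card _).trans Finset.card_le_two
  have hres : g⁻¹ * z * g ∈ resG W := by
    intro u
    rw [act_mul, act_mul]
    set w := act g u
    have hu : u = act g⁻¹ w := (act_inv_act g u).symm
    rw [hu, ← act_sub]
    have hzw : act z w - w = (act z w - w) p • e p + (act z w - w) r • e r := by
      funext i
      by_cases h1 : i = p
      · subst h1; simp [e, Pi.single_eq_of_ne hpr]
      by_cases h3 : i = r
      · subst h3; simp [e, Pi.single_eq_of_ne hpr.symm]
      simp [e, Pi.single_eq_of_ne h1, Pi.single_eq_of_ne h3, hzact, h1, h3]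
    rw [hzw, act_add, act_smul, act_smul]
    exact W.add_mem (W.smul_mem _ (Submodule.subset_span (by simp)))
      (W.smul_mem _ (Submodule.subset_span (by simp)))
  obtain ⟨S, hS, hfix, hneg⟩ := invol_supp hF h2 hk (fun v => by
    rw [← act_mul, show g⁻¹ * z * g * (g⁻¹ * z * g) = g⁻¹ * (z * z) * g by group, hz2, mul_one,
      inv_mul_cancel, act_one]) W hW hres
  have hsupp : ∀ s, s = p ∨ s = r → suppF (act g⁻¹ (e s)) ⊆ S := by
    intro s hs i hi
    by_contra h
    refine mem_suppF.1 hi (hneg _ ?_ i h)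
    rw [act_mul, act_mul, act_act_inv, (inv2_neg_iff h2 hzact _).2 (e_mem_cspan (by
      rcases hs with rfl | rfl <;> simp)), ← neg_one_smul F, act_smul, neg_one_smul]
  obtain ⟨ζ, hζ, hζ1, hζq⟩ := exists_zeta (F := F) (q := q) hF
  -- the supports agree
  have key : ∀ s s' : Fin n, (s = p ∧ s' = r) ∨ (s = r ∧ s' = p) →
      suppF (act g⁻¹ (e s)) ⊆ suppF (act g⁻¹ (e s')) := by
    intro s s' hs
    have hss : s ≠ s' := by
      rcases hs with ⟨rfl, rfl⟩ | ⟨rfl, rfl⟩
      exacts [hpr, hpr.symm]
    obtain ⟨t, ht, htact⟩ := exists_diag2 (n := n) hss hζ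
    have htfix : ∀ v : Fin n → F, v p = 0 → v r = 0 → act t v = v := by
      intro v h1 h3
      funext i
      rw [htact]
      split_ifs with ha hb
      · rcases hs with ⟨rfl, -⟩ | ⟨rfl, -⟩ <;> rw [ha] <;> simp [h1, h3]
      · rcases hs with ⟨-, rfl⟩ | ⟨-, rfl⟩ <;> rw [hb] <;> simp [h1, h3]
      · rw [one_mul]
    have hkm := hfixed t (hH t (ht id)) htfix
    by_contra hsub
    obtain ⟨o, ho, ho'⟩ := Finset.not_subset.1 hsub
    rw [mem_suppF] at ho
    rw [mem_suppF, not_not] at ho'
    set u := act g⁻¹ (e s) with hu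
    have hge : ∀ c i, act g (e i) c = (act g⁻¹ (e c) i) ^ q := fun c i => by
      have := entry_inv hF g⁻¹ c i
      rwa [inv_inv] at this
    have hko : act (g⁻¹ * t * g) (e o) = e o + ((ζ - 1) * u o ^ q) • u := by
      rw [act_mul, act_mul]
      have hv : act t (act g (e o)) = act g (e o) + ((ζ - 1) * u o ^ q) • e s := by
        funext i
        rw [htact, Pi.add_apply, Pi.smul_apply, smul_eq_mul]
        by_cases h1 : i = s
        · subst h1
          rw [if_pos rfl, hge, show (e i : Fin n → F) i = 1 from Pi.single_eq_same _ _, ← hu]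
          ring
        rw [if_neg h1, show (e s : Fin n → F) i = 0 from Pi.single_eq_of_ne h1 _]
        by_cases h3 : i = s'
        · subst h3
          rw [if_pos rfl, hge, ho', zero_pow_q hF]
          ring
        rw [if_neg h3]
        ring
      rw [hv, act_add, act_inv_act, act_smul, ← hu]
    have h1 : act (g⁻¹ * t * g) (e o) o ≠ 0 := by
      rw [hko, Pi.add_apply, Pi.smul_apply, smul_eq_mul,
        show (e o : Fin n → F) o = 1 from Pi.single_eq_same _ _, mul_assoc, ← pow_succ]
      intro h0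
      have hN0 : u o ^ (q + 1) ≠ 0 := pow_ne_zero _ ho
      have h4 := congrArg (· ^ q) h0
      simp only [add_pow_q hF, one_pow, mul_pow, sub_pow_q hF, zero_pow_q hF, norm_pow_q hF] at h4
      have : (ζ ^ q - ζ) * u o ^ (q + 1) = 0 := by linear_combination h4 - h0
      exact hζq (sub_eq_zero.1 ((mul_eq_zero.1 this).resolve_right hN0))
    by_cases hcard : (suppF u).card ≤ 1
    · exact hwin (win_of_line hF hH (by omega) (M.inv_mem hg) hgi (x := s) hcard)
    obtain ⟨i, hi, hio⟩ := Finset.exists_mem_ne (show 1 < (suppF u).card by omega) o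
    rw [mem_suppF] at hi
    refine hio (hkm o o i o rfl ?_ h1)
    rw [hko, Pi.add_apply, Pi.smul_apply, smul_eq_mul,
      show (e o : Fin n → F) i = 0 from Pi.single_eq_of_ne hio _, zero_add]
    exact mul_ne_zero (mul_ne_zero (sub_ne_zero.2 hζ1) (pow_ne_zero _ ho)) hi
  exact ⟨S, hS, hsupp p (Or.inl rfl), (key p r (Or.inl ⟨rfl, rfl⟩)).antisymm
    (key r p (Or.inr ⟨rfl, rfl⟩))⟩

/-- Two zeros in a column: the preimages have two non-zero coordinates, and nine elements. -/
theorem two_zero_small (hF : Fintype.card F = q ^ 2) (h2 : (2 : F) ≠ 0)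
    (hH : ∀ g, IsMon g → g ∈ M) (hn : 6 ≤ n) (hwin : ¬Win M) {g : SU n F q} (hg : g ∈ M)
    (hgm : ¬IsMon g) {x p r : Fin n} (hpr : p ≠ r) (hp : act g (e x) p = 0)
    (hr : act g (e x) r = 0) : (suppF (act g⁻¹ (e p))).card = 2 := by
  classical
  obtain ⟨S, hS, hpS, heq⟩ := two_zero_step hF h2 hH hn hwin hg hgm hpr hp hr
  have hgi : ¬IsMon g⁻¹ := fun h => hgm (inv_inv g ▸ isMon_inv hF h)
  set u := act g⁻¹ (e p) with hu
  set v := act g⁻¹ (e r) with hv
  have hcard : 2 ≤ (suppF u).card := by
    by_contra h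
    exact hwin (win_of_line hF hH (by omega) (M.inv_mem hg) hgi (x := p) (by rw [← hu]; omega))
  have hle : (suppF u).card ≤ 4 := (Finset.card_le_card hpS).trans hS
  have huu : hermForm n F q u u = 1 := by
    rw [hu, herm_act, herm_single_right hF]; exact Pi.single_eq_same _ _
  have hge : ∀ c i, act g (e i) c = (act g⁻¹ (e c) i) ^ q := fun c i => by
    have := entry_inv hF g⁻¹ c i
    rwa [inv_inv] at this
  obtain ⟨ζ, hζ, hζ1, hζq⟩ := exists_zeta (F := F) (q := q) hF
  -- the twisted elements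
  have hcol : ∀ o ∈ suppF u, ∀ i ∈ suppF u, i ≠ o → ∀ y : F, y ^ (q + 1) = 1 → y ≠ 1 →
      u o ^ (q + 1) * y ^ 2 + (1 - u o ^ (q + 1) - v o ^ (q + 1)) * y + v o ^ (q + 1) = 0 ∨
        y * (u o ^ q * u i) = v o ^ q * v i := by
    intro o ho i hi hio y hy hy1
    obtain ⟨t, ht, htact⟩ := exists_diag2 (n := n) hpr hy
    have htfix : ∀ w : Fin n → F, w p = 0 → w r = 0 → act t w = w := by
      intro w h1 h3
      funext j
      rw [htact]
      split_ifs with ha hb
      · rw [ha, h1, mul_zero]
      · rw [hb, h3, mul_zero]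
      · rw [one_mul]
    have hkm : IsMon (g⁻¹ * t * g) := by
      by_contra h
      refine hwin ⟨_, M.mul_mem (M.mul_mem (M.inv_mem hg) (hH t (ht id))) hg, h, x, 1, ?_⟩
      rw [one_smul, act_mul, act_mul, htfix _ hp hr, act_inv_act]
    have hy0 := normOne_ne_zero hy
    have hko : act (g⁻¹ * t * g) (e o)
        = e o + ((y - 1) * u o ^ q) • u + ((y⁻¹ - 1) * v o ^ q) • v := by
      rw [act_mul, act_mul]
      have hw : act t (act g (e o)) = act g (e o) + ((y - 1) * u o ^ q) • e p
          + ((y⁻¹ - 1) * v o ^ q) • e r := by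
        funext j
        rw [htact]
        by_cases h1 : j = p
        · subst h1
          simp only [if_true, Pi.add_apply, Pi.smul_apply, smul_eq_mul, e, Pi.single_eq_same,
            Pi.single_eq_of_ne hpr, hge, hu]
          ring
        by_cases h3 : j = r
        · subst h3
          simp only [if_true, if_neg h1, Pi.add_apply, Pi.smul_apply, smul_eq_mul, e,
            Pi.single_eq_same, Pi.single_eq_of_ne hpr.symm, hge, hv]
          ring
        simp only [if_neg h1, if_neg h3, Pi.add_apply, Pi.smul_apply, smul_eq_mul, e,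
          Pi.single_eq_of_ne h1, Pi.single_eq_of_ne h3]
        ring
      rw [hw, act_add, act_add, act_inv_act, act_smul, act_smul, ← hu, ← hv]
    by_contra hcon
    push Not at hcon
    refine hio (hkm o o i o rfl ?_ ?_)
    · rw [hko]
      simp only [Pi.add_apply, Pi.smul_apply, smul_eq_mul, e, Pi.single_eq_of_ne hio, zero_add]
      intro h0
      apply hcon.2
      have h1 : (y - 1) * (y * (u o ^ q * u i) - v o ^ q * v i) = 0 := by
        linear_combination y * h0 - (v o ^ q * v i) * (mul_inv_cancel₀ hy0)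
      exact sub_eq_zero.1 ((mul_eq_zero.1 h1).resolve_left (sub_ne_zero.2 hy1))
    · rw [hko]
      simp only [Pi.add_apply, Pi.smul_apply, smul_eq_mul, e, Pi.single_eq_same]
      intro h0
      apply hcon.1
      rw [pow_succ, pow_succ]
      linear_combination y * h0 - (v o ^ q * v o) * (mul_inv_cancel₀ hy0)
  -- the field has nine elements
  obtain ⟨o₀, ho₀⟩ := Finset.card_pos.1 (show 0 < (suppF u).card by omega)
  obtain ⟨i₀, hi₀, hio₀⟩ := Finset.exists_mem_ne (show 1 < (suppF u).card by omega) o₀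
  have hq3 : q = 3 := by
    set a := u o₀ ^ (q + 1) with ha
    have ha0 : a ≠ 0 := pow_ne_zero _ (mem_suppF.1 ho₀)
    set A := u o₀ ^ q * u i₀ with hA
    have hA0 : A ≠ 0 := mul_ne_zero (pow_ne_zero _ (mem_suppF.1 ho₀)) (mem_suppF.1 hi₀)
    let P : Polynomial F := Polynomial.C a * Polynomial.X ^ 2
      + Polynomial.C (1 - a - v o₀ ^ (q + 1)) * Polynomial.X + Polynomial.C (v o₀ ^ (q + 1))
    have hP : P.natDegree = 2 := Polynomial.natDegree_quadratic ha0
    have hP0 : P ≠ 0 := fun h => by simp [h] at hP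
    have hsub : (normSet q (1 : F)).erase 1
        ⊆ P.roots.toFinset ∪ {(v o₀ ^ q * v i₀) / A} := by
      intro y hy
      rw [Finset.mem_erase, mem_normSet] at hy
      rw [Finset.mem_union, Finset.mem_singleton]
      rcases hcol o₀ ho₀ i₀ hi₀ hio₀ y hy.2 hy.1 with h | h
      · left
        rw [Multiset.mem_toFinset, Polynomial.mem_roots']
        exact ⟨hP0, by simpa [P, ha] using h⟩
      · exact Or.inr ((eq_div_iff hA0).2 h)
    have h1 := (Finset.card_le_card hsub).trans (Finset.card_union_le _ _)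
    rw [Finset.card_erase_of_mem (mem_normSet.2 (one_pow _)),
      card_normSet hF (one_pow q) one_ne_zero, Finset.card_singleton] at h1
    have h3 := (Multiset.toFinset_card_le P.roots).trans P.card_roots'
    rw [hP] at h3
    have h4 := two_le_q hF
    by_contra h5
    obtain rfl : q = 2 := by omega
    obtain ⟨-, -, -, h6⟩ := exists_omega hF
    exact h2 h6
  subst hq3
  have hζ0 := normOne_ne_zero hζ
  have hζ2 : ζ ^ 2 = -1 := by
    have h1 : (ζ ^ 2 - 1) * (ζ ^ 2 + 1) = 0 := by linear_combination hζ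
    rcases mul_eq_zero.1 h1 with h | h
    · exact absurd (show ζ ^ 3 = ζ by linear_combination ζ * h) hζq
    · linear_combination h
  have hnorm : ∀ o ∈ suppF u, 2 * u o ^ (3 + 1) = 1 := by
    intro o ho
    obtain ⟨i, hi, hio⟩ := Finset.exists_mem_ne (show 1 < (suppF u).card by omega) o
    have hneg : (-ζ) ^ (3 + 1) = 1 := by linear_combination hζ
    have hneg1 : -ζ ≠ 1 := fun h => h2 (by linear_combination hζ2 - (-ζ + 1) * h)
    have e1 := hcol o ho i hi hio ζ hζ hζ1
    have e2 := hcol o ho i hi hio (-ζ) hneg hneg1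
    set a := u o ^ (3 + 1)
    set b := v o ^ (3 + 1)
    have hb0 : v o ≠ 0 := mem_suppF.1 (heq ▸ ho)
    have hvi : v i ≠ 0 := mem_suppF.1 (heq ▸ hi)
    have hquad : ∀ y : F, y ^ 2 = -1 → a * y ^ 2 + (1 - a - b) * y + b = 0 →
        a * (-y) ^ 2 + (1 - a - b) * (-y) + b = 0 := by
      intro y hy h
      have hyq : y ^ 3 = -y := by linear_combination y * hy
      have h3 := congrArg (· ^ 3) h
      simp only [add_pow_q hF, mul_pow, sub_pow_q hF, one_pow, zero_pow_q hF, neg_pow_q hF,
        a, b, norm_pow_q hF] at h3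
      rw [← pow_mul, pow_mul', hyq] at h3
      exact h3
    have hB0 : v o ^ 3 * v i ≠ 0 := mul_ne_zero (pow_ne_zero _ hb0) hvi
    rcases e1 with e1 | e1
    · have e3 := hquad ζ hζ2 e1
      have h5 : (1 - a - b) * (2 * ζ) = 0 := by linear_combination e1 - e3
      have h6 := (mul_eq_zero.1 h5).resolve_right (mul_ne_zero h2 hζ0)
      linear_combination -e1 + a * hζ2 + ζ * h6 - h6
    · rcases e2 with e2 | e2
      · have e3 := hquad (-ζ) (by linear_combination hζ2) e2
        have h5 : (1 - a - b) * (2 * ζ) = 0 := by linear_combination e3 - e2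
        have h6 := (mul_eq_zero.1 h5).resolve_right (mul_ne_zero h2 hζ0)
        linear_combination -e2 + a * hζ2 - ζ * h6 - h6
      · exfalso
        have h7 : (2 : F) * (v o ^ 3 * v i) = 0 := by linear_combination -e1 - e2
        exact hB0 ((mul_eq_zero.1 h7).resolve_left h2)
  have hsum : (2 : F) = ((suppF u).card : F) := by
    have h1 : hermForm n F 3 u u = ∑ o ∈ suppF u, u o ^ (3 + 1) := by
      rw [herm_self_sum, Finset.sum_subset (Finset.subset_univ (suppF u)) fun o _ ho => ?_]
      rw [mem_suppF, not_not] at ho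
      rw [ho, zero_pow (by omega)]
    rw [huu] at h1
    have h3 := congrArg (fun w : F => 2 * w) h1
    simp only [Finset.mul_sum, Finset.sum_congr rfl hnorm, Finset.sum_const, nsmul_eq_mul,
      mul_one] at h3
    exact h3
  have h3 : (3 : F) = 0 := by
    have h9 := FiniteField.cast_card_eq_zero F
    rw [hF] at h9
    push_cast at h9
    exact mul_self_eq_zero.1 (show (3 : F) * 3 = 0 by linear_combination h9)
  rcases (show (suppF u).card = 2 ∨ (suppF u).card = 3 ∨ (suppF u).card = 4 by omega) with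
    h | h | h
  · exact h
  · rw [h] at hsum; exact absurd (show (2 : F) = 0 by push_cast at hsum; linear_combination hsum + h3) h2
  · rw [h] at hsum; exact absurd (show (2 : F) = 0 by push_cast at hsum; linear_combination -hsum) h2

/-- Two zeros in a column give `Win`. -/
theorem win_of_two_zero (hF : Fintype.card F = q ^ 2) (h2 : (2 : F) ≠ 0)
    (hH : ∀ g, IsMon g → g ∈ M) (hn : 6 ≤ n) {g : SU n F q} (hg : g ∈ M) (hgm : ¬IsMon g)
    {x p r : Fin n} (hpr : p ≠ r) (hp : act g (e x) p = 0) (hr : act g (e x) r = 0) : Win M := by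
  classical
  by_contra hwin
  obtain ⟨S, -, -, heq⟩ := two_zero_step hF h2 hH hn hwin hg hgm hpr hp hr
  have hU := two_zero_small hF h2 hH hn hwin hg hgm hpr hp hr
  have hgi : ¬IsMon g⁻¹ := fun h => hgm (inv_inv g ▸ isMon_inv hF h)
  set u := act g⁻¹ (e p) with hu
  set v := act g⁻¹ (e r) with hv
  obtain ⟨o, i, hoi, hUe⟩ := Finset.card_eq_two.1 hU
  have hherm : ∀ w z : Fin n → F, suppF z ⊆ {o, i} →
      hermForm n F q w z = w o * z o ^ q + w i * z i ^ q := by
    intro w z hz
    rw [hermForm, Finset.sum_eq_add o i hoi]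
    · intro j _ hj
      have : z j = 0 := by
        by_contra h
        simpa [hj.1, hj.2] using hz (mem_suppF.2 h)
      rw [this, zero_pow_q hF, mul_zero]
    · simp
    · simp
  have hse : suppF u ⊆ {o, i} := hUe.subset
  have hsv : suppF v ⊆ {o, i} := heq ▸ hUe.subset
  have hvv : hermForm n F q v v = 1 := by
    rw [hv, herm_act, herm_single_right hF]; exact Pi.single_eq_same _ _
  have huv : hermForm n F q v u = 0 := by
    rw [hv, hu, herm_act, herm_single_right hF]; exact Pi.single_eq_of_ne hpr _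
  rw [hherm _ _ hsv] at hvv
  rw [hherm _ _ hse] at huv
  have hD : u o ^ q * v i ^ q - u i ^ q * v o ^ q ≠ 0 := by
    intro h
    have h1 : u i ^ q = 0 := by
      linear_combination (v i ^ q) * huv - (v o) * h - (u i ^ q) * hvv
    exact mem_suppF.1 (hUe ▸ (by simp : i ∈ ({o, i} : Finset (Fin n)))) ((pow_eq_zero_iff
      (by have := two_le_q hF; omega)).1 h1)
  have hz : ∀ c, c ≠ p → c ≠ r → act g⁻¹ (e c) o = 0 := by
    intro c hcp hcr
    set w := act g⁻¹ (e c) with hw
    have h1 : hermForm n F q w u = 0 := by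
      rw [hw, hu, herm_act, herm_single_right hF]; exact Pi.single_eq_of_ne (Ne.symm hcp) _
    have h3 : hermForm n F q w v = 0 := by
      rw [hw, hv, herm_act, herm_single_right hF]; exact Pi.single_eq_of_ne (Ne.symm hcr) _
    rw [hherm _ _ hse] at h1
    rw [hherm _ _ hsv] at h3
    exact (mul_eq_zero.1 (show w o * (u o ^ q * v i ^ q - u i ^ q * v o ^ q) = 0 by
      linear_combination (v i ^ q) * h1 - (u i ^ q) * h3)).resolve_right hD
  have hgz : ∀ c, c ≠ p → c ≠ r → act g (e o) c = 0 := fun c h1 h3 => by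
    have := entry_inv hF g⁻¹ c o
    rw [inv_inv, hz c h1 h3, zero_pow_q hF] at this
    exact this
  obtain ⟨c₁, hc₁⟩ := exists_notMem ({p, r} : Finset (Fin n))
    (Finset.card_le_two.trans_lt (by omega))
  obtain ⟨c₂, hc₂⟩ := exists_notMem ({p, r, c₁} : Finset (Fin n))
    (Finset.card_le_three.trans_lt (by omega))
  simp only [Finset.mem_insert, Finset.mem_singleton, not_or] at hc₁ hc₂
  have hz₁ := hgz c₁ hc₁.1 hc₁.2
  have hsmall := two_zero_small hF h2 hH hn hwin hg hgm (Ne.symm hc₂.2.2) hz₁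
    (hgz c₂ hc₂.1 hc₂.2.1)
  have := card_le_of_supp g⁻¹ (Finset.univ \ {p, r}) (suppF (act g⁻¹ (e c₁))) fun c hc j hj => by
    simp only [Finset.mem_sdiff, Finset.mem_univ, true_and, Finset.mem_insert,
      Finset.mem_singleton, not_or] at hc
    by_cases hcc : c = c₁
    · rw [mem_suppF, not_not] at hj; rw [hcc]; exact hj
    · obtain ⟨-, -, -, h5⟩ := two_zero_step hF h2 hH hn hwin hg hgm hcc (hgz c hc.1 hc.2) hz₁
      rw [← h5, mem_suppF, not_not] at hj
      exact hj
  rw [Finset.card_univ_sdiff, Fintype.card_fin, Finset.card_pair hpr, hsmall] at this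
  omega

/-- A zero in a column gives `Win`. -/
theorem win_of_zero (hF : Fintype.card F = q ^ 2) (h2 : (2 : F) ≠ 0)
    (hH : ∀ g, IsMon g → g ∈ M) (hn : 6 ≤ n) {g : SU n F q} (hg : g ∈ M) (hgm : ¬IsMon g)
    {x p : Fin n} (hp : act g (e x) p = 0) : Win M := by
  classical
  by_contra hwin
  have hgi : ¬IsMon g⁻¹ := fun h => hgm (inv_inv g ▸ isMon_inv hF h)
  have hone : ∀ r, r ≠ p → act g (e x) r ≠ 0 := fun r hr h =>
    hwin (win_of_two_zero hF h2 hH hn hg hgm hr.symm hp h)
  set u := act g⁻¹ (e p) with hu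
  have hu3 : 3 ≤ (suppF u).card → (suppF u).card ≤ 4 → False := by
    intro _ hle
    obtain ⟨o₁, ho₁⟩ := exists_notMem (suppF u) (by omega)
    obtain ⟨o₂, ho₂⟩ := exists_notMem (insert o₁ (suppF u)) (by
      have := Finset.card_insert_le o₁ (suppF u); omega)
    simp only [Finset.mem_insert, not_or, mem_suppF, not_not] at ho₂
    rw [mem_suppF, not_not] at ho₁
    exact hwin (win_of_two_zero hF h2 hH hn (M.inv_mem hg) hgi (Ne.symm ho₂.1) ho₁ ho₂.2)
  have hu2 : (suppF u).card ≤ 2 → False := by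
    intro hle
    obtain ⟨o₁, ho₁⟩ := exists_notMem (suppF u) (by omega)
    obtain ⟨o₂, ho₂⟩ := exists_notMem (insert o₁ (suppF u)) (by
      have := Finset.card_insert_le o₁ (suppF u); omega)
    simp only [Finset.mem_insert, not_or, mem_suppF, not_not] at ho₂
    rw [mem_suppF, not_not] at ho₁
    exact hwin (win_of_two_zero hF h2 hH hn (M.inv_mem hg) hgi (Ne.symm ho₂.1) ho₁ ho₂.2)
  have hfixed : ∀ (t : SU n F q) (l : F), t ∈ M → act t (act g (e x)) = l • act g (e x) →
      IsMon (g⁻¹ * t * g) := by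
    intro t l ht hfix
    by_contra h
    refine hwin ⟨_, M.mul_mem (M.mul_mem (M.inv_mem hg) ht) hg, h, x, l, ?_⟩
    rw [act_mul, act_mul, hfix, act_smul, act_inv_act]
  have hge : ∀ c i, act g (e i) c = (act g⁻¹ (e c) i) ^ q := fun c i => by
    have := entry_inv hF g⁻¹ c i
    rwa [inv_inv] at this
  by_cases hsc : ∃ l : F, l ^ (q + 1) = 1 ∧ l ^ n ≠ 1
  · obtain ⟨l, hl, hln⟩ := hsc
    have hl0 := normOne_ne_zero hl
    set μ := (l ^ n)⁻¹ with hμ
    have hμN : μ ^ (q + 1) = 1 := by rw [hμ, inv_pow, ← pow_mul, mul_comm, pow_mul, hl, one_pow, inv_one]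
    have hμ1 : μ ≠ 1 := fun h => hln (inv_eq_one.1 h)
    let d : Fin n → F := fun i => if i = p then μ * l else l
    have hd : ∀ i, d i ^ (q + 1) = 1 := fun i => by
      simp only [d]
      split_ifs
      · rw [mul_pow, hμN, hl, one_mul]
      · exact hl
    have hdp : ∏ i, d i = 1 := by
      rw [← Finset.mul_prod_erase _ _ (Finset.mem_univ p),
        Finset.prod_congr rfl (fun i hi => if_neg (Finset.ne_of_mem_erase hi)), Finset.prod_const,
        Finset.card_erase_of_mem (Finset.mem_univ p), Finset.card_univ, Fintype.card_fin]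
      simp only [d, if_true]
      rw [mul_assoc, ← pow_succ', Nat.sub_add_cancel (by omega : 1 ≤ n), hμ,
        inv_mul_cancel₀ (pow_ne_zero _ hl0)]
    set t := diagEl d hd hdp
    have hkm := hfixed t l (hH t (diagEl_pres id d hd hdp)) (by
      funext i
      rw [diagEl_act, Pi.smul_apply, smul_eq_mul]
      by_cases hi : i = p
      · subst hi; rw [hp, mul_zero, mul_zero]
      · simp [d, hi])
    have hko : ∀ o, act (g⁻¹ * t * g) (e o) = l • (e o + ((μ - 1) * u o ^ q) • u) := by
      intro o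
      rw [act_mul, act_mul]
      have hv : act t (act g (e o)) = l • (act g (e o) + ((μ - 1) * u o ^ q) • e p) := by
        funext i
        rw [diagEl_act, Pi.smul_apply, Pi.add_apply, Pi.smul_apply, smul_eq_mul, smul_eq_mul]
        by_cases hi : i = p
        · subst hi
          rw [show (e i : Fin n → F) i = 1 from Pi.single_eq_same _ _, hge, ← hu]
          simp only [d, if_true]
          ring
        · rw [show (e p : Fin n → F) i = 0 from Pi.single_eq_of_ne hi _]
          simp only [d, if_neg hi]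
          ring
      rw [hv, act_smul, act_add, act_inv_act, act_smul, ← hu]
    obtain ⟨o, ho⟩ : ∃ o, u o ≠ 0 := by
      by_contra h
      push Not at h
      have h0 : act g⁻¹ (e p) = act g⁻¹ 0 := by rw [act_zero]; exact funext h
      simpa [e] using congrFun (act_inj h0) p
    by_cases hcard : (suppF u).card ≤ 2
    · exact hu2 hcard
    obtain ⟨i, hi, hio⟩ := Finset.exists_mem_ne (show 1 < (suppF u).card by omega) o
    obtain ⟨j, hj⟩ := Finset.card_pos.1 (show 0 < (((suppF u).erase o).erase i).card by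
      have := Finset.pred_card_le_card_erase (a := o) (s := suppF u)
      have := Finset.pred_card_le_card_erase (a := i) (s := (suppF u).erase o)
      omega)
    simp only [Finset.mem_erase, mem_suppF] at hj
    rw [mem_suppF] at hi
    have hne : ∀ i, i ≠ o → u i ≠ 0 → act (g⁻¹ * t * g) (e o) i ≠ 0 := by
      intro i hio hi
      rw [hko, Pi.smul_apply, Pi.add_apply, Pi.smul_apply, smul_eq_mul, smul_eq_mul,
        show (e o : Fin n → F) i = 0 from Pi.single_eq_of_ne hio _, zero_add]
      exact mul_ne_zero hl0 (mul_ne_zero (mul_ne_zero (sub_ne_zero.2 hμ1) (pow_ne_zero _ ho)) hi)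
    exact hj.1 (hkm o o j i rfl (hne j hj.2.1 hj.2.2) (hne i hio hi))
  · push Not at hsc
    -- few elements in the fixed field: two coordinates of equal norm
    have hdvd : q + 1 ≤ n := by
      by_contra hlt
      have hsub : normSet q (1 : F) ⊆ (Polynomial.X ^ n - Polynomial.C (1 : F)).roots.toFinset := by
        intro y hy
        rw [mem_normSet] at hy
        rw [Multiset.mem_toFinset, Polynomial.mem_roots']
        refine ⟨Polynomial.X_pow_sub_C_ne_zero (by omega) 1, ?_⟩
        simp [hsc y hy]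
      have h1 := (Finset.card_le_card hsub).trans
        ((Multiset.toFinset_card_le _).trans (Polynomial.card_roots' _))
      rw [card_normSet hF (one_pow q) one_ne_zero, Polynomial.natDegree_X_pow_sub_C] at h1
      omega
    obtain ⟨a, ha, b, hb, hab, hN⟩ : ∃ a ∈ Finset.univ.erase p, ∃ b ∈ Finset.univ.erase p, a ≠ b ∧
        act g (e x) a ^ (q + 1) = act g (e x) b ^ (q + 1) := by
      refine Finset.exists_ne_map_eq_of_card_lt_of_maps_to (t := (fixedSet q).erase 0) ?_ ?_
      · have := card_fixedSet_le (F := F) hF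
        rw [Finset.card_erase_of_mem (mem_fixedSet.2 (zero_pow_q hF)),
          Finset.card_erase_of_mem (Finset.mem_univ p), Finset.card_univ, Fintype.card_fin]
        have := two_le_q hF
        omega
      · intro i hi
        simp only [Finset.coe_erase, Set.mem_sdiff, Finset.mem_coe, Finset.mem_univ, true_and,
          Set.mem_singleton_iff] at hi ⊢
        exact ⟨mem_fixedSet.2 (norm_pow_q hF _), pow_ne_zero _ (hone i hi)⟩
    rw [Finset.mem_erase] at ha hb
    set c := act g (e x) with hc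
    have hca := hone a ha.1
    have hcb := hone b hb.1
    let d : Fin n → F := fun i =>
      if i = a then c b / c a else if i = b then c a / c b else if i = p then -1 else 1
    have hd : ∀ i, d i ^ (q + 1) = 1 := fun i => by
      simp only [d]
      split_ifs
      · rw [div_pow, hN, div_self (pow_ne_zero _ hcb)]
      · rw [div_pow, hN, div_self (pow_ne_zero _ hcb)]
      · rw [neg_norm hF, one_pow]
      · exact one_pow _
    have hdet : (Equiv.Perm.sign (Equiv.swap a b) : F) * ∏ i, d i = 1 := by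
      rw [Equiv.Perm.sign_swap hab,
        ← Finset.prod_subset (Finset.subset_univ {a, b, p}) fun i _ hi => ?_]
      · rw [Finset.prod_insert (by simp [hab, ha.1]), Finset.prod_insert (by simp [hb.1]),
          Finset.prod_singleton]
        simp only [d, hab.symm, ha.1.symm, hb.1.symm, if_true, if_false]
        push_cast
        field_simp
      · simp only [Finset.mem_insert, Finset.mem_singleton, not_or] at hi
        simp [d, hi.1, hi.2.1, hi.2.2]
    set t := monEl (Equiv.swap a b) d hd hdet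
    have htmon : IsMon t := monEl_pres _ _ _ _ fun _ _ h => (Equiv.swap a b).injective h
    have hta : ∀ v : Fin n → F, act t v a = c a / c b * v b := fun v => by
      rw [monEl_act, Equiv.swap_apply_left]; simp [d, hab.symm]
    have htb : ∀ v : Fin n → F, act t v b = c b / c a * v a := fun v => by
      rw [monEl_act, Equiv.swap_apply_right]; simp [d]
    have hto : ∀ (v : Fin n → F) i, i ≠ a → i ≠ b →
        act t v i = (if i = p then -1 else 1) * v i := fun v i h1 h3 => by
      rw [monEl_act, Equiv.swap_apply_of_ne_of_ne h1 h3]; simp [d, h1, h3]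
    have hkm := hfixed t 1 (hH t htmon) (by
      rw [one_smul]
      funext i
      by_cases h1 : i = a
      · subst h1; rw [hta, div_mul_cancel₀ _ hcb]
      by_cases h3 : i = b
      · subst h3; rw [htb, div_mul_cancel₀ _ hca]
      rw [hto _ i h1 h3]
      split_ifs with h4
      · rw [h4, hp, mul_zero]
      · rw [one_mul])
    set y : Fin n → F := pv a b 1 (-(c b / c a)) with hy
    set W : Submodule F (Fin n → F) :=
      Submodule.span F (({act g⁻¹ (e p), act g⁻¹ y} : Finset (Fin n → F)) : Set (Fin n → F))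
    have hW : Module.finrank F W ≤ 2 := (finrank_span_finset_le_card _).trans Finset.card_le_two
    have hres : g⁻¹ * t * g ∈ resG W := by
      intro v
      rw [act_mul, act_mul]
      set w := act g v
      rw [show v = act g⁻¹ w from (act_inv_act g v).symm, ← act_sub]
      have hzw : act t w - w = (act t w - w) p • e p + (act t w - w) a • y := by
        funext i
        rw [Pi.add_apply, Pi.smul_apply, Pi.smul_apply, smul_eq_mul, smul_eq_mul, Pi.sub_apply,
          Pi.sub_apply, Pi.sub_apply]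
        by_cases h1 : i = a
        · subst h1
          rw [hy, pv_left hab, show (e p : Fin n → F) i = 0 from Pi.single_eq_of_ne ha.1 _]
          ring
        by_cases h3 : i = b
        · subst h3
          rw [hy, pv_right hab, show (e p : Fin n → F) i = 0 from Pi.single_eq_of_ne hb.1 _, hta, htb]
          field_simp
          ring
        rw [hy, pv_other h1 h3]
        by_cases h4 : i = p
        · subst h4
          rw [show (e i : Fin n → F) i = 1 from Pi.single_eq_same _ _]
          ring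
        · rw [show (e p : Fin n → F) i = 0 from Pi.single_eq_of_ne h4 _, hto _ i h1 h3, if_neg h4]
          ring
      rw [hzw, act_add, act_smul, act_smul]
      exact W.add_mem (W.smul_mem _ (Submodule.subset_span (by simp)))
        (W.smul_mem _ (Submodule.subset_span (by simp)))
    have htt : t * t = 1 := by
      refine su_ext fun v => funext fun i => ?_
      rw [act_mul, act_one]
      by_cases h1 : i = a
      · subst h1; rw [hta, htb]; field_simp
      by_cases h3 : i = b
      · subst h3; rw [htb, hta]; field_simp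
      rw [hto _ i h1 h3, hto _ i h1 h3]
      split_ifs <;> ring
    obtain ⟨S, hS, -, hneg⟩ := invol_supp hF h2 hkm (fun v => by
      rw [← act_mul, show g⁻¹ * t * g * (g⁻¹ * t * g) = g⁻¹ * (t * t) * g by group, htt, mul_one,
        inv_mul_cancel, act_one]) W hW hres
    have hsub : suppF u ⊆ S := by
      intro i hi
      by_contra h
      refine mem_suppF.1 hi (hneg u ?_ i h)
      rw [hu, act_mul, act_mul, act_act_inv]
      have hte : act t (e p) = -e p := by
        funext i
        rw [Pi.neg_apply]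
        by_cases h1 : i = a
        · subst h1
          rw [hta, show (e p : Fin n → F) b = 0 from Pi.single_eq_of_ne hb.1 _,
            show (e p : Fin n → F) i = 0 from Pi.single_eq_of_ne ha.1 _, mul_zero, neg_zero]
        by_cases h3 : i = b
        · subst h3
          rw [htb, show (e p : Fin n → F) a = 0 from Pi.single_eq_of_ne ha.1 _,
            show (e p : Fin n → F) i = 0 from Pi.single_eq_of_ne hb.1 _, mul_zero, neg_zero]
        rw [hto _ i h1 h3]
        by_cases h4 : i = p
        · subst h4; simp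
        · simp [e, Pi.single_eq_of_ne h4]
      rw [hte, ← neg_one_smul F, act_smul, neg_one_smul]
    have := (Finset.card_le_card hsub).trans hS
    rcases le_or_gt (suppF u).card 2 with h | h
    · exact hu2 h
    · exact hu3 (by omega) this

/-- The swap with given parameters. -/
theorem swap_zero_of (hF : Fintype.card F = q ^ 2) {x : Fin n → F}
    {a b c d : Fin n} (hab : a ≠ b) (hac : a ≠ c) (had : a ≠ d) (hbc : b ≠ c) (hbd : b ≠ d)
    (hcd : c ≠ d) (ha : x a ≠ 0) (hb : x b ≠ 0) (hc : x c ≠ 0) (hd : x d ≠ 0) {u₁ u₂ : F}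
    (hu₁ : u₁ ^ (q + 1) = x a ^ (q + 1) * x b ^ (q + 1))
    (hu₂ : u₂ ^ (q + 1) = x c ^ (q + 1) * x d ^ (q + 1))
    (hsum : (u₁ + u₁ ^ q) + (u₂ + u₂ ^ q) = x a ^ (q + 1) + x b ^ (q + 1) + x c ^ (q + 1)
      + x d ^ (q + 1) - hermForm n F q x x) :
    ∃ h : SU n F q, IsMon h ∧
      (∀ v i, i ≠ a → i ≠ b → i ≠ c → i ≠ d → act h v i = v i) ∧
      hermForm n F q (act h x) x = 0 ∧
      act h x a = u₁ / x a ^ q ∧ act h x c = u₂ / x c ^ q := by
  classical
  set A := x a ^ (q + 1) with hAdef
  set B := x b ^ (q + 1) with hBdef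
  set C := x c ^ (q + 1) with hCdef
  set D := x d ^ (q + 1) with hDdef
  have hAB : (A * B) ^ q = A * B := by rw [mul_pow, norm_pow_q hF, norm_pow_q hF]
  have hCD : (C * D) ^ q = C * D := by rw [mul_pow, norm_pow_q hF, norm_pow_q hF]
  have hAB0 : A * B ≠ 0 := mul_ne_zero (pow_ne_zero _ ha) (pow_ne_zero _ hb)
  have hCD0 : C * D ≠ 0 := mul_ne_zero (pow_ne_zero _ hc) (pow_ne_zero _ hd)
  set π : Equiv.Perm (Fin n) := Equiv.swap a b * Equiv.swap c d with hπ
  have hπa : π a = b := by
    rw [hπ, Equiv.Perm.mul_apply, Equiv.swap_apply_of_ne_of_ne hac had, Equiv.swap_apply_left]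
  have hπb : π b = a := by
    rw [hπ, Equiv.Perm.mul_apply, Equiv.swap_apply_of_ne_of_ne hbc hbd, Equiv.swap_apply_right]
  have hπc : π c = d := by
    rw [hπ, Equiv.Perm.mul_apply, Equiv.swap_apply_left,
      Equiv.swap_apply_of_ne_of_ne had.symm hbd.symm]
  have hπd : π d = c := by
    rw [hπ, Equiv.Perm.mul_apply, Equiv.swap_apply_right,
      Equiv.swap_apply_of_ne_of_ne hac.symm hbc.symm]
  have hπo : ∀ i, i ≠ a → i ≠ b → i ≠ c → i ≠ d → π i = i := fun i h1 h2 h3 h4 => by
    rw [hπ, Equiv.Perm.mul_apply, Equiv.swap_apply_of_ne_of_ne h3 h4,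
      Equiv.swap_apply_of_ne_of_ne h1 h2]
  let f : Fin n → F := fun i =>
    if i = a then u₁ ^ q / (x b ^ q * x a) else if i = b then u₁ / (x a ^ q * x b)
    else if i = c then u₂ ^ q / (x d ^ q * x c) else if i = d then u₂ / (x c ^ q * x d) else 1
  have hfa : f a = u₁ ^ q / (x b ^ q * x a) := if_pos rfl
  have hfb : f b = u₁ / (x a ^ q * x b) := by simp [f, hab.symm]
  have hfc : f c = u₂ ^ q / (x d ^ q * x c) := by simp [f, hac.symm, hbc.symm]
  have hfd : f d = u₂ / (x c ^ q * x d) := by simp [f, had.symm, hbd.symm, hcd.symm]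
  have hNq : ∀ y z : F, (y ^ q * z) ^ (q + 1) = z ^ (q + 1) * y ^ (q + 1) := fun y z => by
    rw [mul_pow, ← pow_mul, mul_comm q, pow_mul, norm_pow_q hF, mul_comm]
  have hNu : ∀ u : F, (u ^ q) ^ (q + 1) = u ^ (q + 1) := fun u => by
    rw [← pow_mul, mul_comm q, pow_mul, norm_pow_q hF]
  have hf : ∀ i, f i ^ (q + 1) = 1 := by
    intro i
    simp only [f]
    split_ifs
    · rw [div_pow, hNu, hNq, hu₁, div_self hAB0]
    · rw [div_pow, hNq, hu₁, mul_comm B A, div_self hAB0]
    · rw [div_pow, hNu, hNq, hu₂, div_self hCD0]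
    · rw [div_pow, hNq, hu₂, mul_comm D C, div_self hCD0]
    · exact one_pow _
  have hsign : Equiv.Perm.sign π = 1 := by
    rw [hπ, map_mul, Equiv.Perm.sign_swap hab, Equiv.Perm.sign_swap hcd]; decide
  have hdet : (Equiv.Perm.sign π : F) * ∏ i, f i = 1 := by
    rw [hsign, ← Finset.prod_subset (Finset.subset_univ {a, b, c, d}) fun i _ hi => ?_]
    · rw [Finset.prod_insert (by simp [hab, hac, had]), Finset.prod_insert (by simp [hbc, hbd]),
        Finset.prod_insert (by simp [hcd]), Finset.prod_singleton, hfa, hfb, hfc, hfd]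
      have e1 : u₁ ^ q / (x b ^ q * x a) * (u₁ / (x a ^ q * x b)) = 1 := by
        rw [div_mul_div_comm, ← pow_succ, hu₁, show x b ^ q * x a * (x a ^ q * x b) = A * B by
          rw [hAdef, hBdef, pow_succ, pow_succ]; ring, div_self hAB0]
      have e2 : u₂ ^ q / (x d ^ q * x c) * (u₂ / (x c ^ q * x d)) = 1 := by
        rw [div_mul_div_comm, ← pow_succ, hu₂, show x d ^ q * x c * (x c ^ q * x d) = C * D by
          rw [hCdef, hDdef, pow_succ, pow_succ]; ring, div_self hCD0]
      push_cast
      linear_combination (u₂ ^ q / (x d ^ q * x c) * (u₂ / (x c ^ q * x d))) * e1 + e2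
    · simp only [Finset.mem_insert, Finset.mem_singleton, not_or] at hi
      simp [f, hi.1, hi.2.1, hi.2.2.1, hi.2.2.2]
  refine ⟨monEl π f hf hdet, monEl_pres π f hf hdet fun i j h => π.injective h, fun v i h1 h2 h3 h4
    => by rw [monEl_act, hπo i h1 h2 h3 h4, show f i = 1 by simp [f, h1, h2, h3, h4], one_mul], ?_, ?_, ?_⟩
  swap
  · rw [monEl_act, hπa, hfb, div_mul_eq_mul_div, mul_div_mul_right _ _ hb]
  swap
  · rw [monEl_act, hπc, hfd, div_mul_eq_mul_div, mul_div_mul_right _ _ hd]
  set h := monEl π f hf hdet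
  have hout : ∀ i, i ≠ a → i ≠ b → i ≠ c → i ≠ d → act h x i = x i := fun i h1 h2 h3 h4 => by
    rw [monEl_act, hπo i h1 h2 h3 h4, show f i = 1 by simp [f, h1, h2, h3, h4], one_mul]
  have h5 : hermForm n F q (act h x - x) x = -hermForm n F q x x := by
    conv_lhs => rw [hermForm, ← Finset.sum_subset (Finset.subset_univ {a, b, c, d})
      (fun i _ hi => by
        simp only [Finset.mem_insert, Finset.mem_singleton, not_or] at hi
        rw [Pi.sub_apply, hout i hi.1 hi.2.1 hi.2.2.1 hi.2.2.2, sub_self, zero_mul])]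
    rw [Finset.sum_insert (by simp [hab, hac, had]), Finset.sum_insert (by simp [hbc, hbd]),
      Finset.sum_insert (by simp [hcd]), Finset.sum_singleton]
    simp only [Pi.sub_apply, sub_mul, monEl_act, h, hπa, hπb, hπc, hπd, hfa, hfb, hfc, hfd,
      div_mul_eq_mul_div, mul_div_mul_right _ _ hb, mul_div_mul_right _ _ ha,
      mul_div_mul_right _ _ hd, mul_div_mul_right _ _ hc]
    rw [mul_div_cancel_right₀ _ (pow_ne_zero _ ha), mul_div_cancel_right₀ _ (pow_ne_zero _ hb),
      mul_div_cancel_right₀ _ (pow_ne_zero _ hc), mul_div_cancel_right₀ _ (pow_ne_zero _ hd),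
      ← pow_succ', ← pow_succ', ← pow_succ', ← pow_succ', ← hAdef, ← hBdef, ← hCdef, ← hDdef]
    linear_combination hsum
  rw [herm_sub_left] at h5
  linear_combination h5

/-- A monomial element swapping two pairs sends a vector to one orthogonal to it. -/
theorem exists_swap_zero (hF : Fintype.card F = q ^ 2) {x : Fin n → F}
    {a b c d : Fin n} (hab : a ≠ b) (hac : a ≠ c) (had : a ≠ d) (hbc : b ≠ c) (hbd : b ≠ d)
    (hcd : c ≠ d) (ha : x a ≠ 0) (hb : x b ≠ 0) (hc : x c ≠ 0) (hd : x d ≠ 0) :
    ∃ h : SU n F q, IsMon h ∧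
      (∀ v i, i ≠ a → i ≠ b → i ≠ c → i ≠ d → act h v i = v i) ∧
      hermForm n F q (act h x) x = 0 := by
  classical
  set A := x a ^ (q + 1) with hAdef
  set B := x b ^ (q + 1) with hBdef
  set C := x c ^ (q + 1) with hCdef
  set D := x d ^ (q + 1) with hDdef
  have hAB : (A * B) ^ q = A * B := by rw [mul_pow, norm_pow_q hF, norm_pow_q hF]
  have hCD : (C * D) ^ q = C * D := by rw [mul_pow, norm_pow_q hF, norm_pow_q hF]
  have hAB0 : A * B ≠ 0 := mul_ne_zero (pow_ne_zero _ ha) (pow_ne_zero _ hb)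
  have hCD0 : C * D ≠ 0 := mul_ne_zero (pow_ne_zero _ hc) (pow_ne_zero _ hd)
  set s := (A + B + C + D) - hermForm n F q x x with hsdef
  have hsq : s ^ q = s := by
    simp only [hsdef, sub_pow_q hF, add_pow_q hF, norm_pow_q hF, hAdef, hBdef, hCdef, hDdef,
      herm_self_pow hF]
  have h1 := card_traceSet hF hAB hAB0
  have h2 := card_traceSet hF hCD hCD0
  obtain ⟨T, hT, T', hT', hsum⟩ := exists_trace_sum hF (traceSet q (A * B))
    (traceSet q (C * D)) (traceSet_subset hF _) (traceSet_subset hF _) hsq (by omega)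
  obtain ⟨u₁, hu₁, rfl⟩ := mem_traceSet.1 hT
  obtain ⟨u₂, hu₂, rfl⟩ := mem_traceSet.1 hT'
  obtain ⟨h, hm, hout, hz, -, -⟩ := swap_zero_of hF hab hac had hbc hbd hcd ha hb hc hd hu₁ hu₂
    (by rw [hsum])
  exact ⟨h, hm, hout, hz⟩

/-- The swap can be chosen different from minus one on the two pairs. -/
theorem exists_swap_zero_move (hF : Fintype.card F = q ^ 2) (h2 : (2 : F) ≠ 0) {x : Fin n → F}
    {a b c d : Fin n} (hab : a ≠ b) (hac : a ≠ c) (had : a ≠ d) (hbc : b ≠ c) (hbd : b ≠ d)
    (hcd : c ≠ d) (ha : x a ≠ 0) (hb : x b ≠ 0) (hc : x c ≠ 0) (hd : x d ≠ 0) :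
    ∃ h : SU n F q, IsMon h ∧
      (∀ v i, i ≠ a → i ≠ b → i ≠ c → i ≠ d → act h v i = v i) ∧
      hermForm n F q (act h x) x = 0 ∧ (act h x a ≠ -x a ∨ act h x c ≠ -x c) := by
  classical
  set A := x a ^ (q + 1) with hAdef
  set B := x b ^ (q + 1) with hBdef
  set C := x c ^ (q + 1) with hCdef
  set D := x d ^ (q + 1) with hDdef
  have hAB : (A * B) ^ q = A * B := by rw [mul_pow, norm_pow_q hF, norm_pow_q hF]
  have hCD : (C * D) ^ q = C * D := by rw [mul_pow, norm_pow_q hF, norm_pow_q hF]
  have hA0 : A ≠ 0 := pow_ne_zero _ ha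
  have hC0 : C ≠ 0 := pow_ne_zero _ hc
  have hAB0 : A * B ≠ 0 := mul_ne_zero hA0 (pow_ne_zero _ hb)
  have hCD0 : C * D ≠ 0 := mul_ne_zero hC0 (pow_ne_zero _ hd)
  set s := (A + B + C + D) - hermForm n F q x x with hsdef
  have hsq : s ^ q = s := by
    simp only [hsdef, sub_pow_q hF, add_pow_q hF, norm_pow_q hF, hAdef, hBdef, hCdef, hDdef,
      herm_self_pow hF]
  have h1 := card_traceSet hF hAB hAB0
  have h3 := card_traceSet hF hCD hCD0
  -- minus one on a pair needs equal norms and one given trace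
  have key : ∀ {i j : Fin n} {u : F}, x i ≠ 0 → u ^ (q + 1) = x i ^ (q + 1) * x j ^ (q + 1) →
      u / x i ^ q = -x i → x i ^ (q + 1) = x j ^ (q + 1) ∧ u + u ^ q = -(2 * x i ^ (q + 1)) := by
    intro i j u hi hu h
    rw [div_eq_iff (pow_ne_zero _ hi), neg_mul, ← pow_succ'] at h
    have e := hu
    rw [h, neg_norm hF, pow_succ, norm_pow_q hF] at e
    refine ⟨mul_left_cancel₀ (pow_ne_zero _ hi) e, ?_⟩
    rw [h, neg_pow_q hF, norm_pow_q hF]
    ring
  obtain ⟨T, hT, T', hT', hsum, hgood⟩ : ∃ T ∈ traceSet q (A * B), ∃ T' ∈ traceSet q (C * D),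
      T + T' = s ∧ (A = B → C = D → T ≠ -(2 * A)) := by
    by_cases hE : A = B ∧ C = D
    · obtain ⟨rfl', rfl''⟩ := hE
      have hAq : A ^ q = A := norm_pow_q hF _
      have hCq : C ^ q = C := norm_pow_q hF _
      have h4 := card_traceSet' hF hAB0 (u₀ := A) (by rw [pow_succ, hAq, ← rfl']) hAq
      have h5 := card_traceSet' hF hCD0 (u₀ := C) (by rw [pow_succ, hCq, ← rfl'']) hCq
      obtain ⟨T, hT, T', hT', h⟩ := exists_trace_sum hF ((traceSet q (A * B)).erase (-(2 * A)))
        (traceSet q (C * D)) ((Finset.erase_subset _ _).trans (traceSet_subset hF _)) (traceSet_subset hF _) hsq (by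
          have := Finset.pred_card_le_card_erase (a := -(2 * A)) (s := traceSet q (A * B))
          omega)
      rw [Finset.mem_erase] at hT
      exact ⟨T, hT.2, T', hT', h, fun _ _ => hT.1⟩
    · obtain ⟨T, hT, T', hT', h⟩ := exists_trace_sum hF (traceSet q (A * B))
        (traceSet q (C * D)) (traceSet_subset hF _) (traceSet_subset hF _) hsq (by omega)
      exact ⟨T, hT, T', hT', h, fun e e' => absurd ⟨e, e'⟩ hE⟩
  obtain ⟨u₁, hu₁, rfl⟩ := mem_traceSet.1 hT
  obtain ⟨u₂, hu₂, rfl⟩ := mem_traceSet.1 hT'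
  obtain ⟨h, hm, hout, hz, hva, hvc⟩ := swap_zero_of hF hab hac had hbc hbd hcd ha hb hc hd hu₁ hu₂
    (by rw [hsum])
  refine ⟨h, hm, hout, hz, not_and_or.1 ?_⟩
  rintro ⟨e₁, e₂⟩
  rw [hva] at e₁
  rw [hvc] at e₂
  exact hgood (key ha hu₁ e₁).1 (key hc hu₂ e₂).1 (key ha hu₁ e₁).2

/-- Odd characteristic, dimension at least eight. -/
theorem exists_win (hF : Fintype.card F = q ^ 2) (h2 : (2 : F) ≠ 0)
    (hH : ∀ g, IsMon g → g ∈ M) (hn : 8 ≤ n) {g : SU n F q} (hg : g ∈ M) (hgm : ¬IsMon g) :
    Win M := by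
  classical
  by_contra hwin
  have hfull : ∀ k : SU n F q, k ∈ M → ¬IsMon k → ∀ x i, act k (e x) i ≠ 0 :=
    fun k hk hkm x i h => hwin (win_of_zero hF h2 hH (by omega) hk hkm h)
  have hgi : ¬IsMon g⁻¹ := fun h => hgm (inv_inv g ▸ isMon_inv hF h)
  let P : Fin 8 → Fin n := Fin.castLE hn
  have hP : Function.Injective P := Fin.castLE_injective hn
  set o := P 0 with hodef
  set u := act g⁻¹ (e o) with hu
  have hu0 : ∀ i, u i ≠ 0 := hfull g⁻¹ (M.inv_mem hg) hgi o
  have huu : hermForm n F q u u = 1 := by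
    rw [hu, herm_act, herm_single_right hF]; exact Pi.single_eq_same _ _
  have hd : ∀ i j : Fin 8, i ≠ j → P i ≠ P j := fun i j h h' => h (hP h')
  obtain ⟨h₁, hm₁, hout₁, hz₁, hmv⟩ := exists_swap_zero_move hF h2 (hd 0 1 (by decide)) (hd 0 2 (by decide))
    (hd 0 3 (by decide)) (hd 1 2 (by decide)) (hd 1 3 (by decide)) (hd 2 3 (by decide))
    (hu0 _) (hu0 _) (hu0 _) (hu0 _) (x := u)
  obtain ⟨h₂, hm₂, hout₂, hz₂⟩ := exists_swap_zero hF (hd 4 5 (by decide)) (hd 4 6 (by decide))
    (hd 4 7 (by decide)) (hd 5 6 (by decide)) (hd 5 7 (by decide)) (hd 6 7 (by decide))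
    (hu0 _) (hu0 _) (hu0 _) (hu0 _) (x := u)
  have hmono : ∀ h : SU n F q, IsMon h → hermForm n F q (act h u) u = 0 →
      ∃ (f : Fin n) (l : F), act h u = l • act g⁻¹ (e f) := by
    intro h hh hz
    have hkM : g * h * g⁻¹ ∈ M := M.mul_mem (M.mul_mem hg (hH h hh)) (M.inv_mem hg)
    have hk : IsMon (g * h * g⁻¹) := by
      by_contra hk
      apply hfull _ hkM hk o o
      rw [act_mul, act_mul, ← hu, ← herm_single_right hF o (act g (act h u))]
      conv_lhs => rw [show (Pi.single o 1 : Fin n → F) = act g u from (act_act_inv g (e o)).symm]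
      rw [herm_act, hz]
    obtain ⟨f, l, -, hf⟩ := mon_apply hk o
    refine ⟨f, l, ?_⟩
    rw [act_mul, act_mul, ← hu, single_eq_smul] at hf
    rw [← act_smul, ← hf, act_inv_act]
  obtain ⟨f₁, l₁, e₁⟩ := hmono h₁ hm₁ hz₁
  obtain ⟨f₂, l₂, e₂⟩ := hmono h₂ hm₂ hz₂
  have hin : hermForm n F q (act h₁ u) (act h₂ u) = -1 := by
    have h12 : hermForm n F q (act h₁ u - u) (act h₂ u - u) = 0 := by
      refine Finset.sum_eq_zero fun i _ => ?_
      by_cases hi : i = P 0 ∨ i = P 1 ∨ i = P 2 ∨ i = P 3
      · rw [Pi.sub_apply (act h₂ u), hout₂ u i, sub_self, zero_pow_q hF, mul_zero] <;>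
          rcases hi with rfl | rfl | rfl | rfl <;> exact hd _ _ (by decide)
      · simp only [not_or] at hi
        rw [Pi.sub_apply, hout₁ u i hi.1 hi.2.1 hi.2.2.1 hi.2.2.2, sub_self, zero_mul]
    have hz₂' := herm_skew_zero hF hz₂
    rw [herm_sub_left, herm_sub_right hF, herm_sub_right hF, hz₁, hz₂', huu] at h12
    linear_combination h12
  by_cases hf : f₁ = f₂
  · subst hf
    have hl0 : l₂ ≠ 0 := fun h => by
      rw [e₁, e₂, h, zero_smul, herm_zero_right hF] at hin
      exact neg_ne_zero.2 one_ne_zero hin.symm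
    have h8 : ∀ i, act h₁ u i = l₁ / l₂ * act h₂ u i := fun i => by
      rw [e₁, e₂, Pi.smul_apply, Pi.smul_apply, smul_eq_mul, smul_eq_mul, ← mul_assoc,
        div_mul_cancel₀ _ hl0]
    have h11 : act h₁ u = (l₁ / l₂) • act h₂ u := funext fun i => by rw [h8, Pi.smul_apply, smul_eq_mul]
    rw [h11, herm_smul_left, herm_act, huu, mul_one] at hin
    rw [hin] at h8
    rcases hmv with h | h
    · refine h ?_
      rw [h8, hout₂ u _ (hd _ _ (by decide)) (hd _ _ (by decide)) (hd _ _ (by decide)) (hd _ _ (by decide)),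
        neg_one_mul]
    · refine h ?_
      rw [h8, hout₂ u _ (hd _ _ (by decide)) (hd _ _ (by decide)) (hd _ _ (by decide)) (hd _ _ (by decide)),
        neg_one_mul]
  · rw [e₁, e₂, herm_smul_left, herm_smul_right, herm_act, herm_single_right hF,
      show (e f₁ : Fin n → F) f₂ = 0 from Pi.single_eq_of_ne (Ne.symm hf) _, mul_zero,
      mul_zero] at hin
    exact neg_ne_zero.2 one_ne_zero hin.symm

end Cfsg.Agent.UnitaryFrame84
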