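import Mathlib
import Cfsg.Agent.Lib.UnitaryFrameEven84
import Cfsg.Agent.Lib.UnitaryFrameWin84

/-!
Dimension six: an overgroup of the monomial group which is not monomial contains all transvections
with some centre supported on four coordinates.
-/

set_option autoImplicit false
set_option linter.unusedSectionVars false

namespace Cfsg.Agent.UnitaryFrame84

open scoped Matrix MatrixGroups
open Cfsg.Agent.OrthUnitaryHerm
open Cfsg.Agent.OrthUnitaryTransvection
open Cfsg.Agent.OrthUnitarySubspaces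
open Cfsg.Agent.OrthUnitaryMaximal

variable {F : Type*} [Field F] [Fintype F] {q n : ℕ} {M : Subgroup (SU n F q)}

/-- A single Eichler transformation, two free coordinates. -/
theorem centre_of_eich_two (hF : Fintype.card F = q ^ 2) (hH : ∀ g, IsMon g → g ∈ M)
    {z w : Fin n → F} {μ : F} {he : hermForm n F q z z = 0} {hw : hermForm n F q w z = 0}
    {hμ : μ + μ ^ q + hermForm n F q w w = 0} (hM : eich hF z w μ he hw hμ ∈ M)
    {a b : Fin n} (hab : a ≠ b) (hza : z a = 0) (hzb : z b = 0)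
    (hne : w a ^ (q + 1) ≠ w b ^ (q + 1)) : Centre M z := by
  classical
  obtain ⟨τ, hτ, hτ1, -⟩ := exists_zeta (F := F) (q := q) hF
  obtain ⟨h, hh, hact⟩ := exists_diag2 (n := n) hab hτ
  have hfix : act h z = z := by
    funext i
    rw [hact]
    split_ifs with h1 h2
    · rw [h1, hza, mul_zero]
    · rw [h2, hzb, mul_zero]
    · rw [one_mul]
  have hmem := hH h (hh id)
  have hM₂ : eich hF z (act h w) μ he (by rw [← hfix, herm_act, hw]) (by rw [herm_act, hμ]) ∈ M := by
    have h1 := M.mul_mem (M.mul_mem hmem hM) (M.inv_mem hmem)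
    rw [eich_conj] at h1
    convert h1 using 2
    exact hfix.symm
  obtain ⟨μ₃, hw₃, hμ₃, hM₃⟩ := eich_diff hF hM hM₂
  set w' := act h w - w with hw'
  have hw'a : w' a = (τ - 1) * w a := by
    rw [hw', Pi.sub_apply, hact, if_pos rfl]; ring
  have hw'b : w' b = (-τ⁻¹ * (τ - 1)) * w b := by
    rw [hw', Pi.sub_apply, hact, if_neg hab.symm, if_pos rfl]
    field_simp [normOne_ne_zero hτ]
    ring
  have hw'o : ∀ i, i ≠ a → i ≠ b → w' i = 0 := fun i h1 h2 => by
    rw [hw', Pi.sub_apply, hact, if_neg h1, if_neg h2, one_mul, sub_self]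
  set N := w' a ^ (q + 1) - w' b ^ (q + 1) with hN
  have hNeq : N = (τ - 1) ^ (q + 1) * (w a ^ (q + 1) - w b ^ (q + 1)) := by
    rw [hN, hw'a, hw'b, mul_pow, mul_pow, mul_pow, neg_norm hF, normOne_inv hτ]
    ring
  have hN0 : N ≠ 0 := by
    rw [hNeq]
    exact mul_ne_zero (pow_ne_zero _ (sub_ne_zero.2 hτ1)) (sub_ne_zero.2 hne)
  refine centre_of_many hF he ((normSet q (1 : F)).image fun σ => N * (σ ^ q - σ)) ?_ ?_
  · have h1 : (normSet q (1 : F)).card
        ≤ 2 * ((normSet q (1 : F)).image fun σ => N * (σ ^ q - σ)).card := by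
      refine Finset.card_le_mul_card_image _ 2 fun T hT => ?_
      obtain ⟨σ, hσ, rfl⟩ := Finset.mem_image.1 hT
      refine le_trans (Finset.card_le_card (t := {σ, -σ ^ q}) fun σ' hσ' => ?_) Finset.card_le_two
      rw [mem_normSet] at hσ
      simp only [Finset.mem_filter, mem_normSet] at hσ'
      have h1 : σ' ^ q - σ' = σ ^ q - σ := mul_left_cancel₀ hN0 hσ'.2
      have h2 : σ' * σ' ^ q = 1 := by rw [← pow_succ', hσ'.1]
      have h3 : σ * σ ^ q = 1 := by rw [← pow_succ', hσ]
      have h4 : (σ' - σ) * (σ' + σ ^ q) = 0 := by linear_combination h2 - h3 - σ' * h1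
      rcases mul_eq_zero.1 h4 with h | h
      · simp [sub_eq_zero.1 h]
      · simp [eq_neg_of_add_eq_zero_left h]
    rw [card_normSet hF (one_pow q) one_ne_zero] at h1
    omega
  · intro c hc
    obtain ⟨σ, hσ, rfl⟩ := Finset.mem_image.1 hc
    rw [mem_normSet] at hσ
    obtain ⟨k, hk, kact⟩ := exists_diag2 (n := n) hab hσ
    have kfix : act k z = z := by
      funext i
      rw [kact]
      split_ifs with h1 h2
      · rw [h1, hza, mul_zero]
      · rw [h2, hzb, mul_zero]
      · rw [one_mul]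
    have kmem := hH k (hk id)
    have hM₄ : eich hF z (act k w') μ₃ he (by rw [← kfix, herm_act, hw₃])
        (by rw [herm_act, hμ₃]) ∈ M := by
      have h1 := M.mul_mem (M.mul_mem kmem hM₃) (M.inv_mem kmem)
      rw [eich_conj] at h1
      convert h1 using 2
      exact kfix.symm
    have hskew : N * (σ ^ q - σ) + (N * (σ ^ q - σ)) ^ q = 0 := by
      have hNq : N ^ q = N := by rw [hN, sub_pow_q hF, norm_pow_q hF, norm_pow_q hF]
      rw [mul_pow, hNq, sub_pow_q hF, pow_q_q hF]; ring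
    refine ⟨hskew, tv_of_two hF hM₃ hM₄ hskew ?_⟩
    have hσi : σ⁻¹ = σ ^ q := (normOne_pow_q hσ).symm
    rw [hermForm, hermForm, ← Finset.sum_sub_distrib, Finset.sum_eq_add a b hab]
    · rw [kact, kact, if_pos rfl, if_neg hab.symm, if_pos rfl, hσi, hN, mul_pow, mul_pow,
        pow_q_q hF]
      ring
    · intro i _ hi
      rw [kact, if_neg hi.1, if_neg hi.2, hw'o i hi.1 hi.2]
      simp [zero_pow_q hF]
    · simp
    · simp

/-- A mirror with two coordinates of different norms outside four others. -/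
theorem centre_of_mirror_two (hF : Fintype.card F = q ^ 2) (h2 : (2 : F) ≠ 0)
    (hH : ∀ g, IsMon g → g ∈ M) {x : Fin n → F} (hx : hermForm n F q x x ≠ 0)
    {a b c d p r : Fin n} (hab : a ≠ b) (hac : a ≠ c) (had : a ≠ d) (hbc : b ≠ c) (hbd : b ≠ d)
    (hcd : c ≠ d) (hpr : p ≠ r) (hp : p ∉ ({a, b, c, d} : Finset (Fin n)))
    (hr : r ∉ ({a, b, c, d} : Finset (Fin n)))
    (ha : x a ≠ 0) (hb : x b ≠ 0) (hc : x c ≠ 0) (hd : x d ≠ 0)
    (hne : x p ^ (q + 1) ≠ x r ^ (q + 1))
    (hmir : ∀ h : SU n F q, IsMon h →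
      (∀ v : Fin n → F, v a = 0 → v b = 0 → v c = 0 → v d = 0 → act h v = v) → PP M (act h x) x) :
    ∃ z : Fin n → F, Centre M z ∧ z ≠ 0 ∧ z p = 0 := by
  classical
  simp only [Finset.mem_insert, Finset.mem_singleton, not_or] at hp hr
  obtain ⟨h, hpres, hout, hfix, hzx, hzz, hza⟩ := exists_swap (β := (id : Fin n → Fin n)) hF
    Function.injective_id (x := x) hab hac had hbc hbd hcd ha hb hc hd
  obtain ⟨m, hm, hact⟩ := hmir h hpres hfix
  set z := act h x - x with hz
  set N := hermForm n F q x x with hN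
  have hNq : N ^ q = N := herm_self_pow hF x
  have h2q : (2 : F) ^ q = 2 := by
    rw [show (2 : F) = 1 + 1 by norm_num, add_pow_q hF, one_pow]
  set κ := -2 / N with hκ
  have hκq : κ ^ q = κ := by rw [hκ, div_pow, neg_pow_q hF, h2q, hNq]
  have hκ0 : κ ≠ 0 := div_ne_zero (neg_ne_zero.2 h2) hx
  have hw : hermForm n F q (κ • x) z = 0 := by
    rw [herm_smul_left, herm_skew_zero hF hzx, mul_zero]
  have hμ : κ + κ ^ q + hermForm n F q (κ • x) (κ • x) = 0 := by
    rw [herm_smul_left, herm_smul_right, hκq, ← hN, hκ]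
    field_simp
    ring
  have heq : m = eich hF z (κ • x) κ hzz hw hμ := su_ext fun u => by
    rw [eich_act, hact, show act h x = x + z by rw [hz]; abel]
    have hxz : hermForm n F q x z = 0 := herm_skew_zero hF hzx
    have hNz : hermForm n F q (x + z) (x + z) = N := by
      rw [herm_add_left, herm_add_right hF, herm_add_right hF, hzz, hxz, hzx, ← hN]; ring
    simp only [refl, ← hN, hNz, herm_sub_left, herm_smul_left, herm_smul_right, hκq,
      herm_add_right hF, hxz, smul_smul]
    match_scalars <;> (try simp only [hκ]) <;> field_simp <;> ring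
  have hzp : z p = 0 := by
    rw [hz, Pi.sub_apply, hout x p hp.1 hp.2.1 hp.2.2.1 hp.2.2.2, sub_self]
  refine ⟨z, centre_of_eich_two hF hH (heq ▸ hm) hpr hzp ?_ ?_,
    fun h0 => hza (by rw [h0]; rfl), hzp⟩
  · rw [hz, Pi.sub_apply, hout x r hr.1 hr.2.1 hr.2.2.1 hr.2.2.2, sub_self]
  · simp only [Pi.smul_apply, smul_eq_mul, mul_pow]
    exact fun h => hne (mul_left_cancel₀ (pow_ne_zero _ hκ0) h)

/-- Four coordinates outside two given ones. -/
theorem exists_four (hn : n = 6) {p r : Fin n} (hpr : p ≠ r) :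
    ∃ a b c d : Fin n, a ≠ b ∧ a ≠ c ∧ a ≠ d ∧ b ≠ c ∧ b ≠ d ∧ c ≠ d ∧
      p ∉ ({a, b, c, d} : Finset (Fin n)) ∧ r ∉ ({a, b, c, d} : Finset (Fin n)) ∧
      ∀ i, i ∈ ({a, b, c, d} : Finset (Fin n)) ↔ i ≠ p ∧ i ≠ r := by
  classical
  obtain ⟨a, b, c, d, hab, hac, had, hbc, hbd, hcd, h⟩ := Finset.card_eq_four.1
    (show (Finset.univ \ {p, r} : Finset (Fin n)).card = 4 by
      rw [Finset.card_univ_sdiff, Fintype.card_fin, Finset.card_pair hpr]; omega)
  have hmem : ∀ i, i ∈ ({a, b, c, d} : Finset (Fin n)) ↔ i ≠ p ∧ i ≠ r := fun i => by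
    rw [← h]; simp
  exact ⟨a, b, c, d, hab, hac, had, hbc, hbd, hcd, fun hp => ((hmem p).1 hp).1 rfl,
    fun hr => ((hmem r).1 hr).2 rfl, hmem⟩

/-- Dimension six, an element fixing a coordinate line. -/
theorem centre_of_win_six (hF : Fintype.card F = q ^ 2) (h2 : (2 : F) ≠ 0)
    (hH : ∀ g, IsMon g → g ∈ M) (hn : n = 6) (hwin : Win M) :
    ∃ z : Fin n → F, Centre M z ∧ z ≠ 0 ∧ ∃ c, z c = 0 := by
  classical
  obtain ⟨j, x, hxj, hxx, hxP, hx5⟩ := mirror_of_win hF h2 hH (by omega) hwin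
  have hej : hermForm n F q (e j : Fin n → F) (e j) = 1 := by
    rw [herm_single_right hF]; exact Pi.single_eq_same _ _
  have hej0 : hermForm n F q (e j : Fin n → F) (e j) ≠ 0 := by rw [hej]; exact one_ne_zero
  have hsupp : ∀ i, i ≠ j → x i ≠ 0 := by
    intro i hij h
    have hsub : suppF x ⊆ Finset.univ \ {i, j} := fun k hk => by
      rw [mem_suppF] at hk
      simp only [Finset.mem_sdiff, Finset.mem_univ, true_and, Finset.mem_insert,
        Finset.mem_singleton, not_or]
      exact ⟨fun e => hk (e ▸ h), fun e => hk (e ▸ hxj)⟩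
    have := Finset.card_le_card hsub
    rw [Finset.card_univ_sdiff, Fintype.card_fin, Finset.card_pair hij] at this
    omega
  obtain ⟨p, hp⟩ := exists_notMem ({j} : Finset (Fin n)) (by rw [Finset.card_singleton]; omega)
  rw [Finset.mem_singleton] at hp
  obtain ⟨a, b, c, d, hab, hac, had, hbc, hbd, hcd, hpm, hjm, hmem⟩ := exists_four hn hp
  have hne : x p ^ (q + 1) ≠ x j ^ (q + 1) := by
    rw [hxj, zero_pow (Nat.succ_ne_zero q)]; exact pow_ne_zero _ (hsupp p hp)
  have hne0 : ∀ i ∈ ({a, b, c, d} : Finset (Fin n)), x i ≠ 0 :=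
    fun i hi => hsupp i ((hmem i).1 hi).2
  obtain ⟨z, hz, hz0, hzp⟩ := centre_of_mirror_two hF h2 hH hxx hab hac had hbc hbd hcd hp hpm hjm
    (hne0 a (by simp)) (hne0 b (by simp)) (hne0 c (by simp)) (hne0 d (by simp)) hne
    fun h hh hfix => by
      simp only [Finset.mem_insert, Finset.mem_singleton, not_or] at hjm
      have hej' : act h (e j) = e j := hfix _ (Pi.single_eq_of_ne (Ne.symm hjm.1) _)
        (Pi.single_eq_of_ne (Ne.symm hjm.2.1) _) (Pi.single_eq_of_ne (Ne.symm hjm.2.2.1) _)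
        (Pi.single_eq_of_ne (Ne.symm hjm.2.2.2) _)
      have h1 := hxP.conj (hH h hh)
      rw [hej'] at h1
      exact h1.trans (hxP.symm hxx hej0) hej0
  exact ⟨z, hz, hz0, p, hzp⟩

/-- Pairs of elements of given norms with given total trace. -/
theorem four_le_pairs (hF : Fintype.card F = q ^ 2) {C D s : F} (hC : C ^ q = C) (hC0 : C ≠ 0)
    (hD : D ^ q = D) (hD0 : D ≠ 0) (hs : s ^ q = s) :
    ∃ P : Finset (F × F), 4 ≤ P.card ∧ ∀ p ∈ P, p.1 ^ (q + 1) = C ∧ p.2 ^ (q + 1) = D ∧
      (p.1 + p.1 ^ q) + (p.2 + p.2 ^ q) = s := by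
  classical
  set U := normSet q C with hU
  set V := normSet q D with hV
  let tr : F → F := fun u => u + u ^ q
  refine ⟨(U ×ˢ V).filter fun p => tr p.1 + tr p.2 = s, ?_, fun p hp => ?_⟩
  swap
  · rw [Finset.mem_filter, Finset.mem_product, mem_normSet, mem_normSet] at hp
    exact ⟨hp.1.1, hp.1.2, hp.2⟩
  have htr : ∀ (E : F), ∀ u ∈ normSet q E, tr u ∈ (fixedSet q : Finset F) := fun E u hu =>
    traceSet_subset hF E (mem_traceSet.2 ⟨u, mem_normSet.1 hu, rfl⟩)
  have hfib : ∀ (E T : F), ((normSet q E).filter fun u => tr u = T).card ≤ 2 := by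
    intro E T
    rcases ((normSet q E).filter fun u => tr u = T).eq_empty_or_nonempty with h | ⟨u, hu⟩
    · rw [h]; simp
    · refine le_trans (Finset.card_le_card (t := {u, u ^ q}) fun v hv => ?_) Finset.card_le_two
      simp only [Finset.mem_filter, mem_normSet] at hu hv
      simpa using trace_fibre hu.1 hv.1 hu.2 hv.2
  have hU' : U.card = ∑ T ∈ (fixedSet q : Finset F), (U.filter fun u => tr u = T).card :=
    Finset.card_eq_sum_card_fiberwise fun u hu => htr C u hu
  have hV' : V.card = ∑ T ∈ (fixedSet q : Finset F), (V.filter fun u => tr u = s - T).card := by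
    rw [Finset.card_eq_sum_card_fiberwise (f := fun u => s - tr u) (t := (fixedSet q : Finset F))
      fun u hu => ?_]
    · refine Finset.sum_congr rfl fun T _ => ?_
      congr 1
      refine Finset.filter_congr fun u _ => ?_
      constructor <;> intro h <;> linear_combination -h
    · have := mem_fixedSet.1 (htr D u hu)
      rw [Finset.mem_coe, mem_fixedSet, sub_pow_q hF, hs, this]
  have hP : ((U ×ˢ V).filter fun p => tr p.1 + tr p.2 = s).card = ∑ T ∈ (fixedSet q : Finset F),
      (U.filter fun u => tr u = T).card * (V.filter fun u => tr u = s - T).card := by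
    rw [Finset.card_eq_sum_card_fiberwise (f := fun p => tr p.1) (t := (fixedSet q : Finset F))
      fun p hp => ?_]
    · refine Finset.sum_congr rfl fun T _ => ?_
      rw [← Finset.card_product]
      congr 1
      ext p
      simp only [Finset.mem_filter, Finset.mem_product]
      constructor
      · rintro ⟨⟨⟨h1, h2⟩, h3⟩, h4⟩
        exact ⟨⟨h1, h4⟩, h2, by linear_combination h3 - h4⟩
      · rintro ⟨⟨h1, h4⟩, h2, h3⟩
        exact ⟨⟨⟨h1, h2⟩, by linear_combination h3 + h4⟩, h4⟩
    · simp only [Finset.coe_filter, Set.mem_setOf_eq, Finset.mem_product] at hp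
      exact htr C p.1 hp.1.1
  rw [hP]
  have hUc : U.card = q + 1 := by rw [hU]; exact card_normSet hF hC hC0
  have hVc : V.card = q + 1 := by rw [hV]; exact card_normSet hF hD hD0
  have hpt : ∑ T ∈ (fixedSet q : Finset F), (2 * (U.filter fun u => tr u = T).card
      + 2 * (V.filter fun u => tr u = s - T).card) ≤ ∑ T ∈ (fixedSet q : Finset F),
      ((U.filter fun u => tr u = T).card * (V.filter fun u => tr u = s - T).card + 4) := by
    refine Finset.sum_le_sum fun T _ => ?_
    have h1 := hfib C T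
    have h2 := hfib D (s - T)
    rw [← hU] at h1
    rw [← hV] at h2
    generalize (U.filter fun u => tr u = T).card = f at h1 ⊢
    generalize (V.filter fun u => tr u = s - T).card = g at h2 ⊢
    interval_cases f <;> interval_cases g <;> omega
  rw [Finset.sum_add_distrib, Finset.sum_add_distrib, ← Finset.mul_sum, ← Finset.mul_sum, ← hU',
    ← hV', Finset.sum_const, smul_eq_mul, hUc, hVc] at hpt
  have := card_fixedSet_le (F := F) hF
  omega

/-- Dimension six, odd characteristic. -/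
theorem exists_win_six (hF : Fintype.card F = q ^ 2) (h2 : (2 : F) ≠ 0)
    (hH : ∀ g, IsMon g → g ∈ M) (hn : n = 6) {g : SU n F q} (hg : g ∈ M) (hgm : ¬IsMon g) :
    Win M := by
  classical
  by_contra hwin
  have hfull : ∀ k : SU n F q, k ∈ M → ¬IsMon k → ∀ x i, act k (e x) i ≠ 0 :=
    fun k hk hkm x i h => hwin (win_of_zero hF h2 hH (by omega) hk hkm h)
  have hgi : ¬IsMon g⁻¹ := fun h => hgm (inv_inv g ▸ isMon_inv hF h)
  set w : Fin n → Fin n → F := fun f => act g⁻¹ (e f) with hwdef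
  have hww : ∀ f f', hermForm n F q (w f) (w f') = if f' = f then 1 else 0 := fun f f' => by
    rw [hwdef, herm_act, herm_single_right hF, e, Pi.single_apply]
  set o : Fin n := ⟨0, by omega⟩ with hodef
  set u := w o with hudef
  have hu0 : ∀ i, u i ≠ 0 := hfull g⁻¹ (M.inv_mem hg) hgi o
  have huu : hermForm n F q u u = 1 := by rw [hudef, hww, if_pos rfl]
  have hmono : ∀ h : SU n F q, IsMon h → hermForm n F q (act h u) u = 0 →
      ∃ (f : Fin n) (l : F), act h u = l • w f := by
    intro h hh hz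
    have hkM : g * h * g⁻¹ ∈ M := M.mul_mem (M.mul_mem hg (hH h hh)) (M.inv_mem hg)
    have hk : IsMon (g * h * g⁻¹) := by
      by_contra hk
      apply hfull _ hkM hk o o
      show act (g * h * g⁻¹) (e o) o = 0
      rw [act_mul, act_mul, show act g⁻¹ (e o) = u from rfl,
        ← herm_single_right hF o (act g (act h u))]
      conv_lhs => rw [show (Pi.single o 1 : Fin n → F) = act g u from (act_act_inv g (e o)).symm]
      rw [herm_act, hz]
    obtain ⟨f, l, -, hf⟩ := mon_apply hk o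
    refine ⟨f, l, ?_⟩
    rw [act_mul, act_mul, show act g⁻¹ (e o) = u from rfl, single_eq_smul] at hf
    show act h u = l • act g⁻¹ (e f)
    rw [← act_smul, ← hf, act_inv_act]
  -- sums over the columns
  have hcol : ∀ a b, ∑ f, w f a * w f b ^ q = if a = b then 1 else 0 := by
    intro a b
    have h1 := herm_act g (e b) (e a)
    rw [hermForm, herm_single_right hF, e, Pi.single_apply] at h1
    rw [← h1]
    refine Finset.sum_congr rfl fun f _ => ?_
    have hge : ∀ i, act g (e i) f = (act g⁻¹ (e f) i) ^ q := fun i => by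
      have := entry_inv hF g⁻¹ f i
      rwa [inv_inv] at this
    rw [hge, hge, pow_q_q hF, mul_comm]
  have hkey : ∀ a b : Fin n, a ≠ b → 5 * (u a ^ (q + 1) + u b ^ (q + 1)) = 1 := by
    intro a b hab
    obtain ⟨c₀, c₁, c₂, c₃, h01, h02, h03, h12, h13, h23, ham, hbm, hmem⟩ := exists_four hn hab
    simp only [Finset.mem_insert, Finset.mem_singleton, not_or] at ham hbm
    obtain ⟨P, hP, hPp⟩ := four_le_pairs hF
      (C := u c₀ ^ (q + 1) * u c₁ ^ (q + 1)) (D := u c₂ ^ (q + 1) * u c₃ ^ (q + 1))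
      (s := u c₀ ^ (q + 1) + u c₁ ^ (q + 1) + u c₂ ^ (q + 1) + u c₃ ^ (q + 1)
        - hermForm n F q u u)
      (by rw [mul_pow, norm_pow_q hF, norm_pow_q hF])
      (mul_ne_zero (pow_ne_zero _ (hu0 _)) (pow_ne_zero _ (hu0 _)))
      (by rw [mul_pow, norm_pow_q hF, norm_pow_q hF])
      (mul_ne_zero (pow_ne_zero _ (hu0 _)) (pow_ne_zero _ (hu0 _)))
      (by simp only [sub_pow_q hF, add_pow_q hF, norm_pow_q hF, herm_self_pow hF])
    -- rows agreeing with `u` on the pair up to a scalar
    set R : Finset (Fin n) := Finset.univ.filter fun f =>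
      ∃ l : F, l ^ (q + 1) = 1 ∧ w f a = l * u a ∧ w f b = l * u b with hRdef
    have hex : ∀ p ∈ P, ∃ f ∈ R.erase o, ∃ l : F,
        u a = l * w f a ∧ l * w f c₀ = p.1 / u c₀ ^ q ∧ l * w f c₂ = p.2 / u c₂ ^ q := by
      intro p hp
      obtain ⟨h1, h3, h4⟩ := hPp p hp
      obtain ⟨h, hm, hout, hz, hzc0, hzc2⟩ := swap_zero_of hF h01 h02 h03 h12 h13 h23
        (hu0 _) (hu0 _) (hu0 _) (hu0 _) h1 h3 h4
      obtain ⟨f, l, hfl⟩ := hmono h hm hz
      have hN : l ^ (q + 1) = 1 := by
        have h5 := herm_act h u u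
        rw [hfl, herm_smul_left, herm_smul_right, hww, if_pos rfl, huu, mul_one,
          ← pow_succ'] at h5
        exact h5
      have hl0 := normOne_ne_zero hN
      have hfo : f ≠ o := by
        intro h5
        rw [hfl, h5, herm_smul_left, ← hudef, huu, mul_one] at hz
        exact hl0 hz
      have hval : ∀ i, act h u i = l * w f i := fun i => by rw [hfl]; rfl
      have hfix : ∀ i, i = a ∨ i = b → u i = l * w f i := by
        intro i hi
        rw [← hval]
        rcases hi with rfl | rfl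
        · exact (hout u i ham.1 ham.2.1 ham.2.2.1 ham.2.2.2).symm
        · exact (hout u i hbm.1 hbm.2.1 hbm.2.2.1 hbm.2.2.2).symm
      refine ⟨f, Finset.mem_erase.2 ⟨hfo, Finset.mem_filter.2 ⟨Finset.mem_univ _, l⁻¹,
        normOne_inv hN, ?_, ?_⟩⟩, l, hfix a (Or.inl rfl), by rw [← hval, hzc0],
        by rw [← hval, hzc2]⟩
      · rw [hfix a (Or.inl rfl), inv_mul_cancel_left₀ hl0]
      · rw [hfix b (Or.inr rfl), inv_mul_cancel_left₀ hl0]
    choose φ hφR l hla hl0 hl2 using hex
    have hoR : o ∈ R := Finset.mem_filter.2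
      ⟨Finset.mem_univ _, 1, one_pow _, (one_mul _).symm, (one_mul _).symm⟩
    have hR4 : 4 ≤ (R.erase o).card := by
      rw [← Finset.card_attach] at hP
      refine hP.trans (Finset.card_le_card_of_injOn (fun p => φ p.1 p.2)
        (fun p _ => hφR p.1 p.2) ?_)
      rintro ⟨p, hp⟩ - ⟨p', hp'⟩ - hpp
      simp only at hpp
      have h1 : l p hp = l p' hp' := by
        have h5 := hla p hp
        have h6 := hla p' hp'
        rw [← hpp] at h6
        exact mul_right_cancel₀ (fun h0 => hu0 a (by rw [h5, h0, mul_zero])) (h5.symm.trans h6)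
      refine Subtype.ext (Prod.ext ?_ ?_)
      · have h5 := hl0 p hp
        rw [h1, hpp, hl0 p' hp'] at h5
        exact (div_left_inj' (pow_ne_zero _ (hu0 _))).1 h5.symm
      · have h5 := hl2 p hp
        rw [h1, hpp, hl2 p' hp'] at h5
        exact (div_left_inj' (pow_ne_zero _ (hu0 _))).1 h5.symm
    rw [Finset.card_erase_of_mem hoR] at hR4
    obtain ⟨m, hm⟩ : ∃ m, Finset.univ.erase m ⊆ R := by
      by_cases hall : ∀ m, m ∈ R
      · exact ⟨o, fun i _ => hall i⟩
      · push Not at hall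
        obtain ⟨m, hm⟩ := hall
        have hsub : R ⊆ Finset.univ.erase m := fun i hi =>
          Finset.mem_erase.2 ⟨fun h => hm (h ▸ hi), Finset.mem_univ _⟩
        refine ⟨m, (Finset.eq_of_subset_of_card_le hsub ?_).symm.subset⟩
        rw [Finset.card_erase_of_mem (Finset.mem_univ _), Finset.card_univ, Fintype.card_fin]
        omega
    have hsum : ∀ i j, (i = a ∨ i = b) → (j = a ∨ j = b) →
        w m i * w m j ^ q + 5 * (u i * u j ^ q) = if i = j then 1 else 0 := by
      intro i j hi hj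
      rw [← hcol i j, ← Finset.add_sum_erase _ _ (Finset.mem_univ m),
        Finset.sum_congr rfl (g := fun _ => u i * u j ^ q) fun f hf => ?_, Finset.sum_const,
        Finset.card_erase_of_mem (Finset.mem_univ _), Finset.card_univ, Fintype.card_fin, hn,
        nsmul_eq_mul]
      · norm_num
      · obtain ⟨-, l', hl', ha', hb'⟩ := Finset.mem_filter.1 (hm hf)
        have hv : ∀ i, i = a ∨ i = b → w f i = l' * u i := by
          rintro i (rfl | rfl)
          exacts [ha', hb']
        rw [hv i hi, hv j hj, mul_pow]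
        rw [pow_succ'] at hl'
        linear_combination (u i * u j ^ q) * hl'
    have eaa := hsum a a (Or.inl rfl) (Or.inl rfl)
    have ebb := hsum b b (Or.inr rfl) (Or.inr rfl)
    have eab := hsum a b (Or.inl rfl) (Or.inr rfl)
    have eba := hsum b a (Or.inr rfl) (Or.inl rfl)
    rw [if_pos rfl] at eaa ebb
    rw [if_neg hab] at eab
    rw [if_neg hab.symm] at eba
    rw [pow_succ', pow_succ']
    linear_combination (w m a * w m a ^ q) * ebb - (5 * (u b * u b ^ q) - 1) * eaa
      - (w m a * w m b ^ q) * eba + (5 * (u b * u a ^ q)) * eab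
  have hall : ∀ a, 10 * u a ^ (q + 1) = 1 := by
    intro a
    obtain ⟨b, hb⟩ := exists_notMem ({a} : Finset (Fin n)) (by rw [Finset.card_singleton]; omega)
    obtain ⟨c, hc⟩ := exists_notMem ({a, b} : Finset (Fin n))
      (Finset.card_le_two.trans_lt (by omega))
    simp only [Finset.mem_insert, Finset.mem_singleton, not_or] at hb hc
    linear_combination hkey a b (Ne.symm hb) + hkey a c (Ne.symm hc.1) - hkey b c (Ne.symm hc.2)
  have h10 : (10 : F) = 6 := by
    have h1 := congrArg (fun x : F => 10 * x) huu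
    rw [herm_self_sum] at h1
    simp only [Finset.mul_sum, hall, Finset.sum_const, Finset.card_univ, Fintype.card_fin, hn,
      nsmul_eq_mul, mul_one] at h1
    exact h1.symm
  exact h2 (mul_self_eq_zero.1 (show (2 : F) * 2 = 0 by linear_combination h10))

/-- Dimension six, odd characteristic: a centre with a zero coordinate. -/
theorem centre_six_odd (hF : Fintype.card F = q ^ 2) (h2 : (2 : F) ≠ 0)
    (hH : ∀ g, IsMon g → g ∈ M) (hn : n = 6) {g : SU n F q} (hg : g ∈ M) (hgm : ¬IsMon g) :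
    ∃ z : Fin n → F, Centre M z ∧ z ≠ 0 ∧ ∃ c, z c = 0 :=
  centre_of_win_six hF h2 hH hn (exists_win_six hF h2 hH hn hg hgm)

/-- Dimension six, characteristic two: a centre with a zero coordinate. -/
theorem centre_six_even (hF : Fintype.card F = q ^ 2) (h2 : (2 : F) = 0) (hq : 3 ≤ q)
    (hH : ∀ g, IsMon g → g ∈ M) (hn : n = 6) {g : SU n F q} (hg : g ∈ M) (hgm : ¬IsMon g) :
    ∃ z : Fin n → F, Centre M z ∧ z ≠ 0 ∧ ∃ c, z c = 0 := by
  classical
  obtain ⟨a₀, b₀, hab₀, l₀, hl₀, hw⟩ := exists_wide_pair hF (by omega) hgm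
  have hbase := (tv1_pair hF h2 hH hab₀ hl₀).conj hg
  have hle : ∀ y : Fin n → F, (suppF y).card ≤ 6 := fun y =>
    (Finset.card_le_univ _).trans (by rw [Fintype.card_fin, hn])
  -- two coordinates of different norms, or at most five non-zero ones
  obtain ⟨x₁, hx₁, hx₁3, hx₁u⟩ : ∃ x : Fin n → F, TV1 M x ∧ 3 ≤ (suppF x).card ∧
      ((suppF x).card ≤ 5 ∨ ∃ p r, x p ^ (q + 1) ≠ x r ^ (q + 1)) := by
    set x := act g (pv a₀ b₀ 1 l₀)
    by_cases hgood : (suppF x).card ≤ 5 ∨ ∃ p r, x p ^ (q + 1) ≠ x r ^ (q + 1)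
    · exact ⟨x, hbase, hw, hgood⟩
    rw [not_or] at hgood
    push Not at hgood
    have hall : ∀ i, x i ≠ 0 := fun i => by
      have h1 := Finset.eq_univ_of_card (suppF x) (by
        rw [Fintype.card_fin]; have := hle x; omega)
      exact mem_suppF.1 (h1 ▸ Finset.mem_univ i)
    obtain ⟨a, ha⟩ : ∃ a : Fin n, a.val = 0 := ⟨⟨0, by omega⟩, rfl⟩
    obtain ⟨b, hb⟩ : ∃ b : Fin n, b.val = 1 := ⟨⟨1, by omega⟩, rfl⟩
    have hab : a ≠ b := fun h => by rw [h] at ha; omega
    set ν := x a ^ (q + 1) with hν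
    have hν0 : ν ≠ 0 := pow_ne_zero _ (hall a)
    have hNx : ∀ i, x i ^ (q + 1) = ν := fun i => hgood.2 i a
    obtain ⟨ρ, hρ, hρ0, hρ1⟩ : ∃ ρ : F, ρ ^ (q + 1) = 1 ∧ ρ + ρ ^ q ≠ 0 ∧
        (ρ + ρ ^ q) * ν ≠ 1 := by
      by_contra hcon
      push Not at hcon
      have hsub : traceSet q (1 : F) ⊆ {0, ν⁻¹} := by
        intro T hT
        obtain ⟨u, hu, rfl⟩ := mem_traceSet.1 hT
        by_cases h : u + u ^ q = 0
        · simp [h]
        · simp [eq_inv_of_mul_eq_one_left (hcon u hu h)]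
      have := (Finset.card_le_card hsub).trans Finset.card_le_two
      have := card_traceSet' hF one_ne_zero (one_pow (q + 1)) (one_pow q : (1 : F) ^ q = 1)
      omega
    set l := ρ * x a ^ q / x b ^ q with hldef
    have hlb : l * x b ^ q = ρ * x a ^ q := div_mul_cancel₀ _ (pow_ne_zero _ (hall b))
    have hl : l ^ (q + 1) = 1 := by
      rw [hldef, div_pow, mul_pow, hρ, one_mul, ← pow_mul, ← pow_mul, mul_comm q, pow_mul, pow_mul,
        hNx, hNx, div_self (pow_ne_zero _ hν0)]
    have hγ : x a ^ q + l * x b ^ q = x a ^ q * (1 + ρ) := by rw [hlb]; ring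
    have hρρ : ρ * ρ ^ q = 1 := by rw [← pow_succ', hρ]
    have hN1ρ : (1 + ρ) ^ (q + 1) = ρ + ρ ^ q := by
      rw [pow_succ, add_pow_q hF, one_pow]
      linear_combination hρρ + h2
    have h1ρ : (1 : F) + ρ ≠ 0 := fun h => hρ0 (by
      rw [← hN1ρ, h, zero_pow (Nat.succ_ne_zero q)])
    have hx' := tv1_move hF h2 hH hbase hab hl
    rw [hγ] at hx'
    set x' : Fin n → F := pv a b 1 l + (x a ^ q * (1 + ρ)) • x with hx'def
    have hx'o : ∀ i, i ≠ a → i ≠ b → x' i ≠ 0 := fun i h1 h3 => by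
      rw [hx'def, Pi.add_apply, Pi.smul_apply, smul_eq_mul, pv_other h1 h3, zero_add]
      exact mul_ne_zero (mul_ne_zero (pow_ne_zero _ (hall a)) h1ρ) (hall i)
    have hc4 : 4 ≤ (suppF x').card := by
      refine le_trans ?_ (Finset.card_le_card (s := Finset.univ \ {a, b}) fun i hi => ?_)
      · rw [Finset.card_univ_sdiff, Fintype.card_fin, Finset.card_pair hab]; omega
      · simp only [Finset.mem_sdiff, Finset.mem_univ, true_and, Finset.mem_insert,
          Finset.mem_singleton, not_or] at hi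
        exact mem_suppF.2 (hx'o i hi.1 hi.2)
    obtain ⟨c, hc⟩ := exists_notMem ({a, b} : Finset (Fin n))
      (Finset.card_le_two.trans_lt (by omega))
    simp only [Finset.mem_insert, Finset.mem_singleton, not_or] at hc
    refine ⟨x', hx', by omega, Or.inr ⟨a, c, ?_⟩⟩
    have e1 : x' c ^ (q + 1) = ν * ν * (ρ + ρ ^ q) := by
      rw [hx'def, Pi.add_apply, Pi.smul_apply, smul_eq_mul, pv_other hc.1 hc.2, zero_add, mul_pow,
        mul_pow, hN1ρ, hNx, show (x a ^ q) ^ (q + 1) = ν by
          rw [← pow_mul, mul_comm q, pow_mul, norm_pow_q hF]]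
      ring
    have e2 : x' a ^ (q + 1) = 1 + ν * (ρ + ρ ^ q) + ν * ν * (ρ + ρ ^ q) := by
      rw [hx'def, Pi.add_apply, Pi.smul_apply, smul_eq_mul, pv_left hab,
        show x a ^ q * (1 + ρ) * x a = ν * (1 + ρ) by rw [hν, pow_succ]; ring, pow_succ,
        add_pow_q hF, mul_pow, add_pow_q hF, one_pow, hν, norm_pow_q hF, ← hν]
      linear_combination (ν * ν) * hρρ + (ν + ν * ν) * h2
    rw [e1, e2]
    intro h
    exact hρ1 (by linear_combination h - h2)
  obtain ⟨x, hx, p, r, hne, hnz⟩ : ∃ x : Fin n → F, TV1 M x ∧ ∃ p r,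
      x p ^ (q + 1) ≠ x r ^ (q + 1) ∧ ∀ i, i ≠ p → i ≠ r → x i ≠ 0 := by
    have hfive : ∀ y : Fin n → F, TV1 M y → (suppF y).card = 5 → ∃ x : Fin n → F, TV1 M x ∧ ∃ p r,
        x p ^ (q + 1) ≠ x r ^ (q + 1) ∧ ∀ i, i ≠ p → i ≠ r → x i ≠ 0 := by
      intro y hy h5
      obtain ⟨r, hr⟩ := exists_notMem (suppF y) (by omega)
      obtain ⟨p, hp⟩ := Finset.card_pos.1 (show 0 < (suppF y).card by omega)
      have hall : ∀ i, i ≠ r → i ∈ suppF y := fun i hi => by
        by_contra h
        have := Finset.card_le_card (s := suppF y) (t := Finset.univ \ {i, r}) fun k hk => by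
          simp only [Finset.mem_sdiff, Finset.mem_univ, true_and, Finset.mem_insert,
            Finset.mem_singleton, not_or]
          exact ⟨fun e => h (e ▸ hk), fun e => hr (e ▸ hk)⟩
        rw [Finset.card_univ_sdiff, Fintype.card_fin, Finset.card_pair hi] at this
        omega
      rw [mem_suppF, not_not] at hr
      rw [mem_suppF] at hp
      exact ⟨y, hy, p, r, by rw [hr, zero_pow (Nat.succ_ne_zero q)]; exact pow_ne_zero _ hp,
        fun i _ hir => mem_suppF.1 (hall i hir)⟩
    have hstep : ∀ y : Fin n → F, TV1 M y → 3 ≤ (suppF y).card → (suppF y).card ≤ 4 →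
        ∃ y' : Fin n → F, TV1 M y' ∧ (suppF y').card = (suppF y).card + 1 := by
      intro y hy h3 h4
      obtain ⟨y', hy', hc, hex⟩ := tv1_fix hF h2 hq hH hy h3
      obtain ⟨y'', hy'', hc'⟩ := tv1_grow hF h2 hH hy' (by omega) hex
      exact ⟨y'', hy'', by omega⟩
    rcases (show (suppF x₁).card = 3 ∨ (suppF x₁).card = 4 ∨ (suppF x₁).card = 5 ∨
        (suppF x₁).card = 6 by have := hle x₁; omega) with h | h | h | h
    · obtain ⟨y, hy, hc⟩ := hstep x₁ hx₁ hx₁3 (by omega)
      obtain ⟨y', hy', hc'⟩ := hstep y hy (by omega) (by omega)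
      exact hfive y' hy' (by omega)
    · obtain ⟨y, hy, hc⟩ := hstep x₁ hx₁ hx₁3 (by omega)
      exact hfive y hy (by omega)
    · exact hfive x₁ hx₁ h
    · obtain ⟨p, r, hpr⟩ := hx₁u.resolve_left (by omega)
      have h1 := Finset.eq_univ_of_card (suppF x₁) (by rw [Fintype.card_fin]; omega)
      exact ⟨x₁, hx₁, p, r, hpr, fun i _ _ => mem_suppF.1 (h1 ▸ Finset.mem_univ i)⟩
  have hpr : p ≠ r := fun h => hne (by rw [h])
  obtain ⟨a, b, c, d, hab, hac, had, hbc, hbd, hcd, hpm, hrm, hmem⟩ := exists_four hn hpr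
  have hne0 : ∀ i ∈ ({a, b, c, d} : Finset (Fin n)), x i ≠ 0 :=
    fun i hi => hnz i ((hmem i).1 hi).1 ((hmem i).1 hi).2
  simp only [Finset.mem_insert, Finset.mem_singleton, not_or] at hpm hrm
  obtain ⟨h, hpres, hout, -, hzx, hzz, hza⟩ := exists_swap (β := (id : Fin n → Fin n)) hF
    Function.injective_id (x := x) hab hac had hbc hbd hcd
    (hne0 a (by simp)) (hne0 b (by simp)) (hne0 c (by simp)) (hne0 d (by simp))
  obtain ⟨hxx, m, hm, hact⟩ := id hx
  obtain ⟨-, m', hm', hact'⟩ := hx.conj (hH h hpres)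
  set z := act h x - x with hz
  have hxz : hermForm n F q x z = 0 := herm_skew_zero hF hzx
  have hμ : (1 : F) + 1 ^ q + hermForm n F q x x = 0 := by
    rw [hxx, add_zero]; exact one_add_one_pow h2
  have heq : m' * m = eich hF z x 1 hzz hxz hμ := su_ext fun u => by
    rw [act_mul, eich_act, hact', hact, show act h x = x + z by rw [hz]; abel]
    simp only [herm_add_left, herm_add_right hF, herm_smul_left, hxx, hxz]
    match_scalars
    all_goals first
      | linear_combination (hermForm n F q u x) * h2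
      | linear_combination (-hermForm n F q u x) * h2
      | linear_combination (0 : F) * h2
  have hzp : z p = 0 := by
    rw [hz, Pi.sub_apply, hout x p hpm.1 hpm.2.1 hpm.2.2.1 hpm.2.2.2, sub_self]
  refine ⟨z, centre_of_eich_two hF hH (heq ▸ M.mul_mem hm' hm) hpr hzp ?_ hne,
    fun h0 => hza (by rw [h0]; rfl), p, hzp⟩
  rw [hz, Pi.sub_apply, hout x r hrm.1 hrm.2.1 hrm.2.2.1 hrm.2.2.2, sub_self]

end Cfsg.Agent.UnitaryFrame84
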