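import Mathlib
import Cfsg.Agent.Lib.UnitaryFrameBlocks84
import Cfsg.Agent.Lib.UnitaryFrameWin84
import Cfsg.Agent.Lib.UnitaryFrameSix84

/-!
Maximality of the stabiliser of an orthogonal decomposition in `SU_n(q)`.
-/

set_option autoImplicit false
set_option linter.unusedSectionVars false

namespace Cfsg.Agent.UnitaryFrame84

open scoped Matrix MatrixGroups
open Cfsg.Agent.OrthUnitaryHerm
open Cfsg.Agent.OrthUnitaryTransvection
open Cfsg.Agent.OrthUnitarySubspaces
open Cfsg.Agent.OrthUnitaryMaximal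

variable {F : Type*} [Field F] [Fintype F] {q n t k : ℕ} {M : Subgroup (SU n F q)}
variable {E : Fin n ≃ Fin t × Fin k}

theorem exists_perm_pair (E : Fin n ≃ Fin t × Fin k) (a b a' b' : Fin n)
    (hab : part E a ≠ part E b) (hab' : part E a' ≠ part E b') :
    ∃ π : Equiv.Perm (Fin n), (∀ c d, part E (π c) = part E (π d) → part E c = part E d) ∧
      π a' = a ∧ π b' = b := by
  classical
  set i := part E a
  set j := part E b
  set i' := part E a'
  set j' := part E b'
  let σ₁ : Equiv.Perm (Fin t) := Equiv.swap i' i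
  let σ : Equiv.Perm (Fin t) := Equiv.swap (σ₁ j') j * σ₁
  have hσj : σ j' = j := by simp [σ]
  have hσi : σ i' = i := by
    have h1 : σ₁ i' = i := Equiv.swap_apply_left _ _
    rw [show σ i' = Equiv.swap (σ₁ j') j (σ₁ i') from rfl, h1,
      Equiv.swap_apply_of_ne_of_ne (fun h => hab' (σ₁.injective (h1.trans h))) hab]
  let τ : Fin t → Equiv.Perm (Fin k) := fun l =>
    if l = i' then Equiv.swap (E a').2 (E a).2 else
      if l = j' then Equiv.swap (E b').2 (E b).2 else 1
  let π : Equiv.Perm (Fin n) := (E.trans (Equiv.prodShear σ τ)).trans E.symm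
  have hπ : ∀ c, π c = E.symm (σ (part E c), τ (part E c) (E c).2) := fun c => rfl
  refine ⟨π, fun c d h => ?_, ?_, ?_⟩
  · rw [hπ, hπ, part_symm, part_symm] at h
    exact σ.injective h
  · rw [hπ, show part E a' = i' from rfl, hσi]
    simp only [τ, if_true, Equiv.swap_apply_left]
    exact coord_eq E a
  · rw [hπ, show part E b' = j' from rfl, hσj]
    simp only [τ, if_neg hab'.symm, if_true, Equiv.swap_apply_left]
    exact coord_eq E b

theorem isMon_iff (E : Fin n ≃ Fin t × Fin k) (hk : k = 1) (g : SU n F q) :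
    IsMon g ↔ Pres (part E) g := by
  subst hk
  have hinj : Function.Injective (part E) := fun a b h =>
    E.injective (Prod.ext h (Subsingleton.elim _ _))
  exact ⟨fun h a b i j hab hi hj => congrArg (part E) (h a b i j (hinj hab) hi hj),
    fun h a b i j hab hi hj => hinj (h a b i j (congrArg (part E) hab) hi hj)⟩

theorem cross_of_zero (hF : Fintype.card F = q ^ 2) (hH : ∀ g, IsMon g → g ∈ M)
    {z : Fin n → F} (hzC : Centre M z) (hz0 : z ≠ 0) {c : Fin n} (hc : z c = 0) :
    ∃ a b x y, a ≠ b ∧ x ≠ 0 ∧ Centre M (pv a b x y) := by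
  classical
  obtain ⟨a, ha⟩ : ∃ a, z a ≠ 0 := by
    by_contra h
    push Not at h
    exact hz0 (funext h)
  obtain ⟨b, hba, hb⟩ : ∃ b, b ≠ a ∧ z b ≠ 0 := by
    by_contra h
    push Not at h
    apply pow_ne_zero (q + 1) ha
    have h1 := hzC.1
    rw [herm_self_sum, Finset.sum_eq_single a (fun i _ hi => by
      rw [h i hi, zero_pow (Nat.succ_ne_zero q)]) (by simp)] at h1
    exact h1
  by_cases hne : (2 : F) ≠ 0 → z a ^ (q + 1) + z b ^ (q + 1) ≠ 0
  · obtain ⟨x, y, hx, -, hC⟩ := centre_pair_of_supp (β := (id : Fin n → Fin n)) hF hH hzC hba.symm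
      ha hb hc hne
    exact ⟨a, b, x, y, hba.symm, hx, hC⟩
  push Not at hne
  obtain ⟨h2, hab⟩ := hne
  by_cases hthree : ∃ d, d ≠ a ∧ d ≠ b ∧ z d ≠ 0
  · obtain ⟨d, hda, hdb, hd⟩ := hthree
    by_cases had : z a ^ (q + 1) + z d ^ (q + 1) = 0
    · obtain ⟨x, y, hx, -, hC⟩ := centre_pair_of_supp (β := (id : Fin n → Fin n)) hF hH hzC hdb.symm
        hb hd hc (fun _ h => mul_ne_zero h2 (pow_ne_zero (q + 1) ha)
          (by linear_combination hab + had - h))
      exact ⟨b, d, x, y, hdb.symm, hx, hC⟩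
    · obtain ⟨x, y, hx, -, hC⟩ := centre_pair_of_supp (β := (id : Fin n → Fin n)) hF hH hzC hda.symm
        ha hd hc (fun _ => had)
      exact ⟨a, d, x, y, hda.symm, hx, hC⟩
  · push Not at hthree
    rw [eq_pv hba.symm hthree] at hzC
    exact ⟨a, b, _, _, hba.symm, ha, hzC⟩

/-- A pair centre from a centre of small support. -/
theorem cross_of_small (hF : Fintype.card F = q ^ 2) (hH : ∀ g, IsMon g → g ∈ M) (hn : 8 ≤ n)
    (hz : SmallCentre M) : ∃ a b x y, a ≠ b ∧ x ≠ 0 ∧ Centre M (pv a b x y) := by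
  obtain ⟨z, hzC, hz0, S, hS, hzS⟩ := hz
  obtain ⟨c, hc⟩ := exists_notMem S hS.2
  exact cross_of_zero hF hH hzC hz0 (hzS c hc)

/-- Some isotropic vector of a part leaves the parts. -/
theorem exists_leaving (hF : Fintype.card F = q ^ 2) (hk : 2 ≤ k) {g : SU n F q}
    (hg : ¬Pres (part E) g) :
    ∃ (v : Fin n → F) (i : Fin t), hermForm n F q v v = 0 ∧ (∀ a, v a ≠ 0 → part E a = i) ∧
      ∃ a b, act g v a ≠ 0 ∧ act g v b ≠ 0 ∧ part E a ≠ part E b := by
  classical
  by_contra hcon
  push Not at hcon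
  apply hg
  let x₀ : Fin k := ⟨0, by omega⟩
  let x₁ : Fin k := ⟨1, by omega⟩
  have hx : x₀ ≠ x₁ := by simp [x₀, x₁, Fin.ext_iff]
  obtain ⟨l, hl⟩ := exists_norm_eq hF (a := (-1 : F)) (by rw [neg_pow_q hF, one_pow])
  suffices H : ∀ i, ∃ j, ∀ u : Fin n → F, (∀ a, u a ≠ 0 → part E a = i) →
      ∀ o, act g u o ≠ 0 → part E o = j by
    intro a b o o' hab ho ho'
    obtain ⟨j, hj⟩ := H (part E a)
    have hs : ∀ c, part E c = part E a → ∀ d, (e c : Fin n → F) d ≠ 0 → part E d = part E a := by
      intro c hc d hd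
      by_contra h
      exact hd (Pi.single_eq_of_ne (show d ≠ c from fun h' => h (h' ▸ hc)) _)
    rw [hj _ (hs a rfl) o ho, hj _ (hs b hab.symm) o' ho']
  intro i
  set a := E.symm (i, x₀) with ha
  set b := E.symm (i, x₁) with hb
  have hab : a ≠ b := symm_ne' E i hx
  set v₀ := pv a b (1 : F) l with hv₀
  have hv₀s : ∀ c, v₀ c ≠ 0 → part E c = i := by
    intro c hc
    by_cases h1 : c = a
    · rw [h1, ha, part_symm]
    by_cases h2 : c = b
    · rw [h2, hb, part_symm]
    exact absurd (pv_other h1 h2 _ _) hc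
  have hv₀0 : hermForm n F q v₀ v₀ = 0 := by
    rw [hv₀, herm_pv_self hF hab, one_pow, hl, add_neg_cancel]
  obtain ⟨o₀, ho₀⟩ : ∃ o, act g v₀ o ≠ 0 := by
    by_contra h
    push Not at h
    have h1 : act g v₀ = act g 0 := by rw [act_zero]; exact funext h
    have h2 := congrFun (act_inj h1) a
    rw [hv₀, pv_left hab] at h2
    exact one_ne_zero h2
  refine ⟨part E o₀, ?_⟩
  set j := part E o₀
  have hv₀j : ∀ o, act g v₀ o ≠ 0 → part E o = j := fun o ho =>
    hcon v₀ i hv₀0 hv₀s o o₀ ho ho₀
  -- non-orthogonal isotropic vectors land in the same part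
  have hiso : ∀ w, hermForm n F q w w = 0 → (∀ c, w c ≠ 0 → part E c = i) →
      hermForm n F q w v₀ ≠ 0 → ∀ o, act g w o ≠ 0 → part E o = j := by
    intro w hw hws hne o ho
    obtain ⟨o', h1, h2⟩ : ∃ o', act g w o' ≠ 0 ∧ act g v₀ o' ≠ 0 := by
      by_contra h
      push Not at h
      apply hne
      rw [← herm_act g, hermForm]
      refine Finset.sum_eq_zero fun o' _ => ?_
      by_cases h' : act g w o' = 0
      · rw [h', zero_mul]
      · rw [h o' h', zero_pow_q hF, mul_zero]
    rw [hcon w i hw hws o o' ho h1, hv₀j o' h2]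
  have hmain : ∀ u, (∀ c, u c ≠ 0 → part E c = i) → hermForm n F q u v₀ ≠ 0 →
      ∀ o, act g u o ≠ 0 → part E o = j := by
    intro u hus hne o ho
    obtain ⟨r, hr⟩ := exists_iso_add hF hv₀0 hne
    have hs : ∀ c, (u + r • v₀) c ≠ 0 → part E c = i := fun c hc => by
      by_contra h
      apply hc
      rw [Pi.add_apply, Pi.smul_apply, not_not.1 fun h' => h (hus c h'),
        not_not.1 fun h' => h (hv₀s c h'), smul_zero, add_zero]
    by_contra h
    have h1 : act g v₀ o = 0 := by
      by_contra h'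
      exact h (hv₀j o h')
    refine h (hiso _ hr hs ?_ o ?_)
    · rwa [herm_add_left, herm_smul_left, hv₀0, mul_zero, add_zero]
    · rwa [act_add, act_smul, Pi.add_apply, Pi.smul_apply, h1, smul_zero, add_zero]
  intro u hus o ho
  by_cases hne : hermForm n F q u v₀ = 0
  swap
  · exact hmain u hus hne o ho
  have hf : hermForm n F q (e a : Fin n → F) v₀ = 1 := by
    rw [herm_single_left, hv₀, pv_left hab, one_pow]
  have hfs : ∀ c, (e a : Fin n → F) c ≠ 0 → part E c = i := fun c hc => by
    by_cases h : c = a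
    · rw [h, ha, part_symm]
    · exact absurd (Pi.single_eq_of_ne h _) hc
  by_contra h
  have h1 : act g (e a) o = 0 := by
    by_contra h'
    exact h (hmain _ hfs (by rw [hf]; exact one_ne_zero) o h')
  refine h (hmain (u + e a) (fun c hc => ?_) ?_ o ?_)
  · by_contra h'
    exact hc (by rw [Pi.add_apply, not_not.1 fun h'' => h' (hus c h''),
      not_not.1 fun h'' => h' (hfs c h''), add_zero])
  · rw [herm_add_left, hne, hf, zero_add]; exact one_ne_zero
  · rw [act_add, Pi.add_apply, h1, add_zero]; exact ho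

theorem card_index (E : Fin n ≃ Fin t × Fin k) : n = t * k := by
  simpa using Fintype.card_congr E

/-- Every isotropic vector is a centre of an overgroup. -/
theorem frame_centres (hF : Fintype.card F = q ^ 2) (hn : 5 ≤ n) (hn1 : k = 1 → 8 ≤ n ∨ (n = 6 ∧ 3 ≤ q))
    (hex : ¬(k = 2 ∧ q = 2))
    (hH : ∀ g, Pres (part E) g → g ∈ M) {g : SU n F q} (hg : g ∈ M) (hgp : ¬Pres (part E) g)
    (v : Fin n → F) (hv : hermForm n F q v v = 0) : Centre M v := by
  have hcard := card_index E
  have hk1 : 1 ≤ k := by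
    rcases Nat.eq_zero_or_pos k with h | h
    · rw [h, mul_zero] at hcard; omega
    · exact h
  have hpairs : ∀ {a b : Fin n} {x y : F}, part E a ≠ part E b → x ≠ 0 → Centre M (pv a b x y) →
      ∀ a' b' : Fin n, a' ≠ b' → ∀ x' y' : F, x' ≠ 0 → x' ^ (q + 1) + y' ^ (q + 1) = 0 →
        Centre M (pv a' b' x' y') := fun {a b x y} hab hx hC a' b' hab' x' y' hx' h' =>
    centre_all_pairs hF hH (by omega) (exists_perm_pair E) hab hx hC hab' hx' h'
  rcases Nat.lt_or_ge k 2 with hk | hk
  · have hk' : k = 1 := by omega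
    have hH' : ∀ g : SU n F q, IsMon g → g ∈ M := fun g h => hH g ((isMon_iff E hk' g).1 h)
    have hgm : ¬IsMon g := fun h => hgp ((isMon_iff E hk' g).1 h)
    have hne : ∀ {a b : Fin n}, a ≠ b → part E a ≠ part E b := by
      subst hk'
      exact fun hab h => hab (E.injective (Prod.ext h (Subsingleton.elim _ _)))
    rcases Nat.lt_or_ge q 3 with hq | hq
    · obtain rfl : q = 2 := by have := two_le_q hF; omega
      have : 8 ≤ n := (hn1 hk').resolve_right fun h => by omega
      obtain ⟨hp, w, S, hw, hS, hwS⟩ := fourCentre hF hH' (by omega) hg hgm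
      have h01 : (⟨0, by omega⟩ : Fin n) ≠ ⟨1, by omega⟩ := by simp [Fin.ext_iff]
      exact centre_all_two hF hH (by omega) (hpairs (hne h01) one_ne_zero (hp _ _ h01)) hw S hS hwS
        v hv
    · obtain ⟨a, b, x, y, hab, hx, hC⟩ : ∃ a b x y, a ≠ b ∧ x ≠ 0 ∧ Centre M (pv a b x y) := by
        rcases hn1 hk' with hn9 | ⟨hn6, -⟩
        · refine cross_of_small hF hH' hn9 ?_
          by_cases h2 : (2 : F) = 0
          · exact smallCentre_even hF h2 hq hH' (by omega) hg hgm
          · exact of_win hF h2 hH' (by omega) (exists_win hF h2 hH' hn9 hg hgm)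
        · obtain ⟨z, hz, hz0, c, hc⟩ : ∃ z : Fin n → F, Centre M z ∧ z ≠ 0 ∧ ∃ c, z c = 0 := by
            by_cases h2 : (2 : F) = 0
            · exact centre_six_even hF h2 hq hH' hn6 hg hgm
            · exact centre_six_odd hF h2 hH' hn6 hg hgm
          exact cross_of_zero hF hH' hz hz0 hc
      exact centre_all hF hq (hpairs (hne hab) hx hC) v hv
  · obtain ⟨u, i, hu, hus, a, b, ha, hb, hab⟩ := exists_leaving hF hk hgp
    have hz := centre_act hF hg (centre_of_block hF hH hu i hus)
    rcases Nat.lt_or_ge q 3 with hq | hq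
    · obtain rfl : q = 2 := by have := two_le_q hF; omega
      have hk3 : 3 ≤ k := by
        by_contra h
        exact hex ⟨by omega, rfl⟩
      obtain ⟨⟨a', b', x, y, hab', hx, hC⟩, w, S, hw, hS, hwS⟩ :=
        cross_pair_two hF hH hk3 hz hab (blk_ne ha) (blk_ne hb)
      exact centre_all_two hF hH (by omega) (hpairs hab' hx hC) hw S hS hwS v hv
    · obtain ⟨a', b', x, y, hab', hx, hC⟩ := cross_pair hF hH hk hz hab (blk_ne ha) (blk_ne hb)
      exact centre_all hF hq (hpairs hab' hx hC) v hv

/-- An element of `SU` not preserving the partition. -/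
theorem exists_not_pres (hF : Fintype.card F = q ^ 2) (hn : 3 ≤ n) (ht : 2 ≤ t) (hk : 1 ≤ k) :
    ∃ g : SU n F q, ¬Pres (part E) g := by
  set a := E.symm (⟨0, by omega⟩, ⟨0, hk⟩) with ha
  set b := E.symm (⟨1, by omega⟩, ⟨0, hk⟩) with hb
  have hab : a ≠ b := symm_ne E (by simp [Fin.ext_iff]) _ _
  obtain ⟨c, hc⟩ := exists_notMem ({a, b} : Finset (Fin n))
    (Finset.card_le_two.trans_lt (by omega))
  simp only [Finset.mem_insert, Finset.mem_singleton, not_or] at hc
  obtain ⟨l, hl⟩ := exists_norm_eq hF (a := (-1 : F)) (by rw [neg_pow_q hF, one_pow])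
  set u := pv a b (1 : F) l + Pi.single c 1 with hu
  have huu : hermForm n F q u u = 1 := by
    rw [hu, herm_add_left, herm_add_right hF (pv a b (1 : F) l) (Pi.single c 1),
      herm_add_right hF (pv a b (1 : F) l) (Pi.single c 1), herm_pv_self hF hab, one_pow, hl,
      herm_single_right hF, herm_single_right hF, herm_single_left, pv_other hc.1 hc.2,
      Pi.single_eq_same, zero_pow_q hF]
    ring
  have hee : hermForm n F q (e a : Fin n → F) (e a) = 1 := by
    rw [herm_single_right hF]; exact Pi.single_eq_same _ _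
  obtain ⟨A, hA, hAd, hAu⟩ := exists_map_det hF hn (hee.trans huu.symm)
    (fun h => one_ne_zero (α := F) (by simpa [e] using congrFun h a))
    (fun h => by rw [h, herm_zero_left] at huu; exact zero_ne_one huu) (x := (1 : F)) (one_pow _)
  refine ⟨mkSU A hAd hA, fun h => ?_⟩
  have h1 : act (mkSU A hAd hA) (e a) = u := hAu
  have hua : u a ≠ 0 := by
    rw [hu, Pi.add_apply, pv_left hab, Pi.single_eq_of_ne (Ne.symm hc.1), add_zero]
    exact one_ne_zero
  have hub : u b ≠ 0 := by
    rw [hu, Pi.add_apply, pv_right hab, Pi.single_eq_of_ne (Ne.symm hc.2), add_zero]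
    intro h0
    rw [h0, zero_pow (Nat.succ_ne_zero q)] at hl
    exact neg_ne_zero.2 one_ne_zero hl.symm
  have := h a a a b rfl (by rw [h1]; exact hua) (by rw [h1]; exact hub)
  rw [ha, hb, part_symm, part_symm] at this
  simp [Fin.ext_iff] at this

/-- Stabilisers of orthogonal decompositions into non-degenerate subspaces are maximal. -/
theorem maximal_gen (hF : Fintype.card F = q ^ 2) (hn : 5 ≤ n) (hn1 : k = 1 → 8 ≤ n ∨ (n = 6 ∧ 3 ≤ q))
    (D : Fin t → Submodule F (Fin n → F))
    (hD : Geo.IsNondegenerateMDecomposition (hermForm n F q) k D) (hex : ¬(k = 2 ∧ q = 2)) :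
    Geo.IsMaximalIn (GU n F q ⊓ Geo.specialLinear (Fin n) F)
      (Geo.decompositionStabilizer D ⊓ (GU n F q ⊓ Geo.specialLinear (Fin n) F)) := by
  classical
  have hnd : ∀ i, ∀ u ∈ D i, (∀ v ∈ D i, hermForm n F q u v = 0) → u = 0 := by
    intro i u hu h
    by_contra hu0
    obtain ⟨-, x, hx, hxu⟩ := hD.nondegenerate i u hu hu0
    exact hxu (h x hx)
  choose f hfD hf using fun i => exists_onb hF k (D i) (hD.decomp.finrank_eq i) (hnd i)
  let w : Fin t × Fin k → Fin n → F := fun p => f p.1 p.2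
  have hw : OrthoN q w := by
    rintro ⟨i, x⟩ ⟨j, y⟩
    by_cases hij : i = j
    · subst hij
      simpa [Prod.ext_iff, w] using hf i x y
    · rw [if_neg (fun h => hij (Prod.mk.inj h).1)]
      exact hD.orthogonal i j hij _ (hfD i x) _ (hfD j y)
  have hspan : Submodule.span F (Set.range w) = ⊤ := by
    rw [eq_top_iff, ← hD.decomp.iSup_eq_top]
    refine iSup_le fun i u hu => ?_
    rw [eq_comb (hf i) (hfD i) (by rw [hD.decomp.finrank_eq, Fintype.card_fin]) hu]
    exact Submodule.sum_mem _ fun x _ => Submodule.smul_mem _ _ (Submodule.subset_span ⟨(i, x), rfl⟩)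
  have hcard : Fintype.card (Fin t × Fin k) = Fintype.card (Fin n) := by
    have h2 := (linearIndependent hw).fintype_card_le_finrank
    have h3 : Module.finrank F (Submodule.span F (Set.range w)) ≤ _ := finrank_range_le_card w
    rw [hspan, finrank_top] at h3
    rw [Module.finrank_fin_fun] at h2 h3
    rw [Fintype.card_fin]
    omega
  let E : Fin n ≃ Fin t × Fin k := (Fintype.equivOfCardEq hcard).symm
  let P : Matrix (Fin n) (Fin n) F := (Matrix.of fun a => w (E a))ᵀ
  have hP : IsU q P := isU_of_orthoN hF fun a b => by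
    rw [hw (E a) (E b)]
    simp [E.apply_eq_iff_eq]
  have hPe : ∀ a, P *ᵥ (e a : Fin n → F) = w (E a) := fun a => by
    rw [Matrix.mulVec_single_one]
    rfl
  have hPmem : ∀ x i, P *ᵥ x ∈ D i ↔ ∀ a, x a ≠ 0 → part E a = i := by
    intro x i
    constructor
    · intro h a ha
      by_contra hne
      apply ha
      have h1 := hD.orthogonal i (part E a) (Ne.symm hne) _ h _ (hfD (part E a) (E a).2)
      rw [show f (part E a) (E a).2 = P *ᵥ (e a : Fin n → F) from (hPe a).symm, hP,
        herm_single_right hF] at h1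
      exact h1
    · intro h
      rw [mulVec_of_cols]
      refine Submodule.sum_mem _ fun a _ => ?_
      by_cases ha : x a = 0
      · rw [ha, zero_smul]; exact Submodule.zero_mem _
      · exact Submodule.smul_mem _ _ (h a ha ▸ hfD (part E a) (E a).2)
  have hsurj : ∀ y, ∃ x, P *ᵥ x = y :=
    Matrix.mulVec_surjective_iff_isUnit.2 (hP.isUnit hF)
  have hinj := Matrix.mulVec_injective_iff_isUnit.2 (hP.isUnit hF)
  let ψ := conjU hF P hP
  have hψ : ∀ (h : SU n F q) x, act (ψ h) (P *ᵥ x) = P *ᵥ act h x := fun h x =>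
    conjU_act hF P hP h x
  have hk1 : 1 ≤ k := hD.decomp.pos
  have hiff : ∀ h : SU n F q, Pres (part E) h ↔ toGLn (ψ h) ∈ Geo.decompositionStabilizer D := by
    intro h
    have hlin : ∀ x o, act h x o = ∑ a, x a * act h (e a) o := fun x o => by
      conv_lhs => rw [act, Matrix.mulVec, dotProduct]
      refine Finset.sum_congr rfl fun a _ => ?_
      rw [act, e, Matrix.mulVec_single_one, mul_comm]
      rfl
    constructor
    · intro hh
      have hnz : ∀ i : Fin t, ∃ o, act h (e (E.symm (i, (⟨0, hk1⟩ : Fin k)))) o ≠ 0 := by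
        intro i
        by_contra hc
        push Not at hc
        have h0 : act h (e (E.symm (i, (⟨0, hk1⟩ : Fin k))) : Fin n → F) = act h 0 := by
          rw [act_zero]; exact funext hc
        have h1 := act_inj h0
        simpa [e] using congrFun h1 (E.symm (i, (⟨0, hk1⟩ : Fin k)))
      choose o ho using hnz
      have hmap : ∀ i, ∀ y ∈ D i, act (ψ h) y ∈ D (part E (o i)) := by
        intro i y hy
        obtain ⟨x, rfl⟩ := hsurj y
        rw [hψ, hPmem]
        intro c hc
        rw [hlin] at hc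
        obtain ⟨a, -, ha⟩ := Finset.exists_ne_zero_of_sum_ne_zero hc
        exact hh a (E.symm (i, ⟨0, hk1⟩)) c (o i)
          (by rw [part_symm]; exact (hPmem x i).1 hy a (left_ne_zero_of_mul ha))
          (right_ne_zero_of_mul ha) (ho i)
      set G := Matrix.toLin' ((toGLn (ψ h) : GL (Fin n) F) : Matrix (Fin n) (Fin n) F) with hG
      have hGact : ∀ y, G y = act (ψ h) y := fun y => by
        rw [hG, Matrix.toLin'_apply, toGLn_act]
      have hGinj : Function.Injective G := fun y y' hyy => by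
        rw [hGact, hGact] at hyy
        exact act_inj hyy
      have hDmap : ∀ i, (D i).map G = D (part E (o i)) := fun i =>
        Submodule.eq_of_le_of_finrank_eq
          (Submodule.map_le_iff_le_comap.2 fun y hy => by
            rw [Submodule.mem_comap, hGact]; exact hmap i y hy)
          (by rw [← (Submodule.equivMapOfInjective G hGinj (D i)).finrank_eq,
            hD.decomp.finrank_eq, hD.decomp.finrank_eq])
      have hσ : Function.Injective fun i => part E (o i) := by
        intro i i' hii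
        have h1 : D i = D i' := Submodule.map_injective_of_injective hGinj
          ((hDmap i).trans ((congrArg D hii).trans (hDmap i').symm))
        have h3 := (hPmem (e (E.symm (i, ⟨0, hk1⟩))) i').1 (h1 ▸ (hPmem _ i).2 fun a ha => by
          by_cases hc : a = E.symm (i, ⟨0, hk1⟩)
          · rw [hc, part_symm]
          · exact absurd (Pi.single_eq_of_ne hc _) ha) (E.symm (i, ⟨0, hk1⟩))
          (by rw [show (e (E.symm (i, (⟨0, hk1⟩ : Fin k))) : Fin n → F) (E.symm (i, ⟨0, hk1⟩))
            = 1 from Pi.single_eq_same _ _]; exact one_ne_zero)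
        rwa [part_symm] at h3
      exact ⟨Equiv.ofBijective _ (Finite.injective_iff_bijective.1 hσ), hDmap⟩
    · rintro ⟨σ, hσ⟩ a b c d hab hc hd
      have hmem : ∀ a c, act h (e a) c ≠ 0 → part E c = σ (part E a) := by
        intro a c hc
        have h1 : act (ψ h) (P *ᵥ (e a : Fin n → F)) ∈ D (σ (part E a)) := by
          rw [← hσ]
          refine ⟨_, (hPmem (e a) _).2 fun a' ha' => ?_, ?_⟩
          · by_cases hc' : a' = a
            · rw [hc']
            · exact absurd (Pi.single_eq_of_ne hc' _) ha'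
          · rw [Matrix.toLin'_apply, toGLn_act]
        rw [hψ] at h1
        exact (hPmem _ _).1 h1 c hc
      rw [hmem a c hc, hmem b d hd, hab]
  refine isMaximalIn_of hF (by omega) _ ?_ fun M hM g hgM hg v hv => ?_
  · obtain ⟨g, hg⟩ := exists_not_pres (E := E) hF (by omega) hD.decomp.two_le hk1 (q := q)
    exact ⟨ψ g, fun h => hg ((hiff g).2 h)⟩
  · obtain ⟨x, rfl⟩ := hsurj v
    obtain ⟨g', rfl⟩ : ∃ g', ψ g' = g := by
      refine ⟨conjU hF P⁻¹ (isU_inv hF hP) g, su_ext fun y => ?_⟩
      obtain ⟨y, rfl⟩ := hsurj y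
      rw [hψ]
      have h1 := conjU_act hF P⁻¹ (isU_inv hF hP) g (P *ᵥ y)
      have hdet := (Matrix.isUnit_iff_isUnit_det P).1 (hP.isUnit hF)
      rw [Matrix.mulVec_mulVec, Matrix.nonsing_inv_mul _ hdet, Matrix.one_mulVec] at h1
      rw [h1, Matrix.mulVec_mulVec, Matrix.mul_nonsing_inv _ hdet, Matrix.one_mulVec]
    have hC := frame_centres (E := E) (M := M.comap ψ) hF hn hn1 hex
      (fun h hh => hM ((hiff h).1 hh)) (g := g') hgM (fun h => hg ((hiff g').1 h)) x
      (by rwa [hP] at hv)
    refine (centre_iff hF hv).2 fun c hc => ?_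
    have h1 := (centre_iff hF hC.1).1 hC c hc
    rw [Subgroup.mem_comap, conjU_tv] at h1
    exact h1

/-- The case of dimension at least thirteen. -/
theorem maximal (hF : Fintype.card F = q ^ 2) (hn : 13 ≤ n)
    (D : Fin t → Submodule F (Fin n → F))
    (hD : Geo.IsNondegenerateMDecomposition (hermForm n F q) k D) (hex : ¬(k = 2 ∧ q = 2)) :
    Geo.IsMaximalIn (GU n F q ⊓ Geo.specialLinear (Fin n) F)
      (Geo.decompositionStabilizer D ⊓ (GU n F q ⊓ Geo.specialLinear (Fin n) F)) :=
  maximal_gen hF (by omega) (fun _ => Or.inl (by omega)) D hD hex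

end Cfsg.Agent.UnitaryFrame84
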