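import Cfsg.Agent.Lib.OrthUnitaryMaximal

set_option autoImplicit false
open Cfsg

namespace Cfsg.Agent.UnitarySubspace22

open Cfsg.Agent.OrthUnitaryMaximal

/-- Non-degenerate subspace stabilisers in SU_n(q), n ≥ 5. -/
theorem max_nondeg' {F : Type*} [Field F] [Fintype F] (n q : ℕ) (hF : Fintype.card F = q ^ 2) (hn : 5 ≤ n) (W : Submodule F (Fin n → F)) (hW0 : W ≠ ⊥) (hW : Cfsg.Geo.IsNondegenerateOn (Cfsg.hermForm n F q) W) (hdim : 2 * Module.finrank F W < n) : Cfsg.Geo.IsMaximalIn (Cfsg.GU n F q ⊓ Cfsg.Geo.specialLinear (Fin n) F) (Cfsg.Geo.subspaceStabilizer W ⊓ (Cfsg.GU n F q ⊓ Cfsg.Geo.specialLinear (Fin n) F)) := by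
  obtain ⟨k, hWk⟩ : ∃ k, Module.finrank F W = k := ⟨_, rfl⟩
  rw [hWk] at hdim
  obtain ⟨m, rfl⟩ : ∃ m, n = k + m := ⟨n - k, by omega⟩
  have hk : 1 ≤ k := by
    by_contra hk
    exact hW0 (Submodule.finrank_eq_zero.1 (by omega))
  refine max_nondeg hF hk (by omega) (by omega) hWk fun u hu h => ?_
  by_contra hu0
  obtain ⟨-, x, hx, hux⟩ := hW u hu hu0
  exact hux (h x hx)

end Cfsg.Agent.UnitarySubspace22
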