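import Cfsg.Agent.Lib.TransvectionUnitaryGen
import Cfsg.Agent.Lib.TransvectionSymp

set_option autoImplicit false
open Cfsg

namespace Cfsg.Agent.UnitaryTIPair22

open Cfsg.Agent.TransvectionMax
open scoped MatrixGroups Matrix

section

variable {F : Type*} [Field F] [Fintype F] {ι : Type} [Fintype ι] [DecidableEq ι] {σ : F ≃+* F}
  {f : (ι → F) → (ι → F) → F}

/-- The element x ↦ x + f(x,a)b − f(x,b)a for isotropic orthogonal a, b. -/
noncomputable def sp2 (f : (ι → F) → (ι → F) → F) (a b : ι → F) : GL ι F := ft f b a * ft f a (-b)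

variable (hf : Cfsg.Geo.IsUnitaryForm σ f)
include hf

lemma sp2_act {a b : ι → F} (haa : f a a = 0) (hab : f a b = 0) (x : ι → F) :
    (sp2 f a b : Matrix ι ι F) *ᵥ x = x + f x a • b - f x b • a := by
  have hba := TransvectionUnitary.skew_zero hf hab
  rw [sp2, mul_act, TransvectionUnitary.ft_act hf hba,
    TransvectionUnitary.ft_act hf (by rw [TransvectionUnitary.neg_right hf, hab, neg_zero]),
    TransvectionUnitary.neg_right hf, hf.add_left, hf.smul_left, haa]
  module

lemma sp2_iso {a b : ι → F} (haa : f a a = 0) (hbb : f b b = 0) (hab : f a b = 0) (x y : ι → F) :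
    f ((sp2 f a b : Matrix ι ι F) *ᵥ x) ((sp2 f a b : Matrix ι ι F) *ᵥ y) = f x y := by
  have hba := TransvectionUnitary.skew_zero hf hab
  simp only [sp2_act hf haa hab, TransvectionUnitary.sub_left hf, TransvectionUnitary.sub_right hf,
    hf.add_left, TransvectionUnitary.add_right hf, hf.smul_left, TransvectionUnitary.smul_right hf,
    TransvectionUnitary.sigma_f hf, haa, hbb, hab, hba]
  ring

lemma dual_sep {U W : Submodule F (ι → F)} (hUW : IsCompl U W)
    (hW : Cfsg.Geo.IsTotallySingularFor f W) {z : ι → F} {Z : Submodule F (ι → F)}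
    (hz : z ∈ W) (hZ : Z ≤ W) (hzZ : z ∉ Z) : ∃ c ∈ U, (∀ x ∈ Z, f c x = 0) ∧ f c z = 1 := by
  obtain ⟨y, hy, hyz⟩ := TransvectionUnitary.exists_perp_val hf hzZ 1
  have key : ∀ x ∈ W, f y x = f (U.projection W hUW y) x := fun x hx => by
    conv_lhs => rw [← U.projection_add_projection_eq_self hUW y]
    rw [hf.add_left, hW _ (W.projection_apply_mem hUW.symm y) x hx, add_zero]
  exact ⟨_, U.projection_apply_mem hUW y, fun x hx => by rw [← key x (hZ hx)]; exact hy x hx,
    by rw [← key z hz]; exact hyz⟩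

end

lemma fr1 {F : Type*} [Field F] {ι : Type} [Fintype ι] (c : ι → F) :
    Module.finrank F (Submodule.span F {c}) ≤ 1 :=
  (finrank_span_le_card ({c} : Set (ι → F))).trans (by simp)

lemma fr2 {F : Type*} [Field F] {ι : Type} [Fintype ι] (a b : ι → F) :
    Module.finrank F (Submodule.span F {a, b}) ≤ 2 := by
  rw [Submodule.span_insert]
  exact (Submodule.finrank_add_le_finrank_add_finrank _ _).trans (Nat.add_le_add (fr1 a) (fr1 b))

lemma fr3 {F : Type*} [Field F] {ι : Type} [Fintype ι] (a b c : ι → F) :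
    Module.finrank F (Submodule.span F {a, b, c}) ≤ 3 := by
  rw [Submodule.span_insert]
  exact (Submodule.finrank_add_le_finrank_add_finrank _ _).trans (Nat.add_le_add (fr1 a) (fr2 b c))

lemma notMem_sup_span {F : Type*} [Field F] {ι : Type} [Fintype ι] {p x : ι → F}
    {S : Submodule F (ι → F)} (hp : p ∉ S) (hx : x ∉ S ⊔ Submodule.span F {p}) :
    p ∉ S ⊔ Submodule.span F {x} := by
  intro h
  obtain ⟨s, hs, y, hy, hsy⟩ := Submodule.mem_sup.mp h
  obtain ⟨c, rfl⟩ := Submodule.mem_span_singleton.mp hy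
  rcases eq_or_ne c 0 with rfl | hc
  · exact hp (by simpa [← hsy] using hs)
  · refine hx (Submodule.mem_sup.mpr ⟨-(c⁻¹ • s), S.neg_mem (S.smul_mem _ hs), c⁻¹ • p,
      Submodule.smul_mem _ _ (Submodule.mem_span_singleton_self p), ?_⟩)
    rw [← hsy, smul_add, smul_smul, inv_mul_cancel₀ hc, one_smul]
    abel

lemma notMem_span_sub {F : Type*} [Field F] {ι : Type} [Fintype ι] {p q : ι → F} (hp : p ≠ 0)
    (hq : q ∉ Submodule.span F {p}) : p ∉ Submodule.span F {q - p} := by
  intro h
  obtain ⟨s, hs⟩ := Submodule.mem_span_singleton.mp h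
  rcases eq_or_ne s 0 with rfl | hs0
  · exact hp (by simpa using hs.symm)
  · refine hq (Submodule.mem_span_singleton.mpr ⟨s⁻¹ + 1, ?_⟩)
    rw [add_smul, one_smul]
    conv_lhs => arg 1; rw [← hs, smul_smul, inv_mul_cancel₀ hs0, one_smul]
    exact sub_add_cancel q p

/-- A vector lying on the lines of the images of two independent vectors is zero. -/
lemma line_zero {F : Type*} [Field F] {ι : Type} [Fintype ι]
    {T : (ι → F) →ₗ[F] (ι → F)} (hT : Function.Injective T) {K : Submodule F (ι → F)}
    (hK : 2 ≤ Module.finrank F K) {x : ι → F}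
    (h : ∀ k ∈ K, k ≠ 0 → x ∈ Submodule.span F {T k}) : x = 0 := by
  obtain ⟨k, hk, hk0⟩ := Submodule.exists_mem_ne_zero_of_ne_bot
    (p := K) fun e => by rw [e, finrank_bot] at hK; omega
  obtain ⟨l, hl, hlk⟩ : ∃ l ∈ K, l ∉ Submodule.span F {k} := by
    by_contra! e
    have h3 := Submodule.finrank_mono (show K ≤ Submodule.span F {k} from e)
    rw [finrank_span_singleton hk0] at h3
    omega
  obtain ⟨p, hp⟩ := Submodule.mem_span_singleton.mp (h k hk hk0)
  obtain ⟨r, hr⟩ := Submodule.mem_span_singleton.mp (h l hl (fun e => hlk (e ▸ Submodule.zero_mem _)))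
  rcases eq_or_ne r 0 with rfl | hr0
  · simpa using hr.symm
  · refine absurd (Submodule.mem_span_singleton.mpr ⟨r⁻¹ * p, hT ?_⟩) hlk
    rw [map_smul, mul_smul, hp, ← hr, smul_smul, inv_mul_cancel₀ hr0, one_smul]

set_option maxHeartbeats 3200000

/-- The stabiliser of a pair of complementary totally isotropic k-spaces is maximal in SU_2k(q), k ≥ 3. -/
theorem maximal_pair {F : Type*} [Field F] [Fintype F] (n q : ℕ) (hF : Fintype.card F = q ^ 2) (hn : 6 ≤ n) (k : ℕ) (hk : 2 * k = n) (D : Fin 2 → Submodule F (Fin n → F)) (hD : Cfsg.Geo.IsMDecomposition k D) (hts : ∀ i, Cfsg.Geo.IsTotallySingularFor (Cfsg.hermForm n F q) (D i)) : Cfsg.Geo.IsMaximalIn (Cfsg.GU n F q ⊓ Cfsg.Geo.specialLinear (Fin n) F) (Cfsg.Geo.decompositionStabilizer D ⊓ (Cfsg.GU n F q ⊓ Cfsg.Geo.specialLinear (Fin n) F)) := by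
  obtain ⟨τ, -, hf⟩ := TransvectionUnitaryGen.herm_isUnitaryForm (n := n) hF
  set f := Cfsg.hermForm n F q
  obtain ⟨-, hk0, hkd, hindep, htop⟩ := hD
  have hk7 : 3 ≤ k := by omega
  set U := D 0 with hUdef
  set W := D 1 with hWdef
  have hUts : Cfsg.Geo.IsTotallySingularFor f U := hts 0
  have hWts : Cfsg.Geo.IsTotallySingularFor f W := hts 1
  have hUk : Module.finrank F U = k := hkd 0
  have hWk : Module.finrank F W = k := hkd 1
  have hUW : IsCompl U W := by
    refine ⟨hindep.pairwiseDisjoint (show (0 : Fin 2) ≠ 1 by decide), codisjoint_iff.mpr (eq_top_iff.mpr ?_)⟩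
    rw [← htop]
    refine iSup_le fun i => ?_
    fin_cases i
    · exact le_sup_left
    · exact le_sup_right
  have hdis := Submodule.disjoint_def.mp hUW.disjoint
  set pU := U.projection W hUW
  set pW := W.projection U hUW.symm
  have hpUmem : ∀ x, pU x ∈ U := fun x => U.projection_apply_mem hUW x
  have hpWmem : ∀ x, pW x ∈ W := fun x => W.projection_apply_mem hUW.symm x
  have hpadd : ∀ x, pU x + pW x = x := fun x => U.projection_add_projection_eq_self hUW x
  have fU : ∀ {a} x, a ∈ U → f x a = f (pW x) a := fun {a} x ha => by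
    conv_lhs => rw [← hpadd x]
    rw [hf.add_left, hUts _ (hpUmem x) a ha, zero_add]
  have fW : ∀ {b} x, b ∈ W → f x b = f (pU x) b := fun {b} x hb => by
    conv_lhs => rw [← hpadd x]
    rw [hf.add_left, hWts _ (hpWmem x) b hb, add_zero]
  have skn : ∀ {x y}, f x y = 1 → f y x ≠ 0 := fun h => by
    rw [hf.herm, h, map_one]; exact one_ne_zero
  have sepU : ∀ {z Z}, z ∈ W → Z ≤ W → z ∉ Z → ∃ c ∈ U, (∀ x ∈ Z, f c x = 0) ∧ f c z = 1 :=
    fun hz hZ hzZ => dual_sep hf hUW hWts hz hZ hzZ
  have sepW : ∀ {z Z}, z ∈ U → Z ≤ U → z ∉ Z → ∃ c ∈ W, (∀ x ∈ Z, f c x = 0) ∧ f c z = 1 :=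
    fun hz hZ hzZ => dual_sep hf hUW.symm hUts hz hZ hzZ
  have spanLe1 : ∀ {X : Submodule F (Fin n → F)} {p}, p ∈ X → Submodule.span F {p} ≤ X :=
    fun hp => (Submodule.span_singleton_le_iff_mem _ _).mpr hp
  set K := Cfsg.GU n F q ⊓ Cfsg.Geo.specialLinear (Fin n) F
  set H := Cfsg.Geo.decompositionStabilizer D ⊓ K
  have hDne : ∀ i j, D i = D j → i = j := by
    intro i j he
    by_contra hne
    have hdis : Disjoint (D i) (D j) := hindep.pairwiseDisjoint hne
    rw [he, disjoint_self] at hdis
    have := hkd j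
    rw [hdis, finrank_bot] at this
    omega
  have hmkH : ∀ {h : GL (Fin n) F}, h ∈ K →
      (∀ i, ∃ j, ∀ v ∈ D i, (h : Matrix (Fin n) (Fin n) F) *ᵥ v ∈ D j) → h ∈ H := by
    intro h hh hmap
    choose σ hσ using hmap
    let T : (Fin n → F) →ₗ[F] (Fin n → F) := Matrix.toLin' (h : Matrix (Fin n) (Fin n) F)
    have hTi : Function.Injective T := fun a b hab =>
      act_injective h (by simpa [T, Matrix.toLin'_apply] using hab)
    have hTmap : ∀ i, (D i).map T = D (σ i) := fun i => by
      refine Submodule.eq_of_le_of_finrank_eq ?_ ?_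
      · rintro _ ⟨x, hx, rfl⟩
        rw [Matrix.toLin'_apply]
        exact hσ i x hx
      · rw [← (Submodule.equivMapOfInjective T hTi (D i)).finrank_eq, hkd, hkd]
    have hσi : Function.Injective σ := fun i j hij =>
      hDne i j (Submodule.map_injective_of_injective hTi (by rw [hTmap, hTmap, hij]))
    exact ⟨⟨Equiv.ofBijective σ (Finite.injective_iff_bijective.mp hσi), hTmap⟩, hh⟩
  have hS2H : ∀ {a b}, (a ∈ U ∧ b ∈ W ∨ a ∈ W ∧ b ∈ U) → f a b = 0 → sp2 f a b ∈ H := by
    intro a b hmem hab
    have haa : f a a = 0 := by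
      rcases hmem with h | h
      · exact hUts a h.1 a h.1
      · exact hWts a h.1 a h.1
    have hbb : f b b = 0 := by
      rcases hmem with h | h
      · exact hWts b h.2 b h.2
      · exact hUts b h.2 b h.2
    refine hmkH ⟨fun x y => sp2_iso hf haa hbb hab x y,
      Subgroup.mul_mem _ (ft_mem_sl f b a) (ft_mem_sl f a (-b))⟩ fun i => ⟨i, fun v hv => ?_⟩
    rw [sp2_act hf haa hab]
    fin_cases i
    · change v + f v a • b - f v b • a ∈ U
      rcases hmem with h | h
      · rw [hUts v hv a h.1, zero_smul, add_zero]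
        exact U.sub_mem hv (U.smul_mem _ h.1)
      · rw [hUts v hv b h.2, zero_smul, sub_zero]
        exact U.add_mem hv (U.smul_mem _ h.2)
    · change v + f v a • b - f v b • a ∈ W
      rcases hmem with h | h
      · rw [hWts v hv b h.2, zero_smul, sub_zero]
        exact W.add_mem hv (W.smul_mem _ h.2)
      · rw [hWts v hv a h.1, zero_smul, add_zero]
        exact W.sub_mem hv (W.smul_mem _ h.1)
  obtain ⟨c0, hc0, hc0'⟩ := TransvectionUnitary.exists_tz hf
  -- an element exchanging the two subspaces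
  obtain ⟨J, hJH, hJU, hJW⟩ : ∃ J ∈ H, (∀ v ∈ U, (J : Matrix (Fin n) (Fin n) F) *ᵥ v ∈ W) ∧
      (∀ v ∈ W, (J : Matrix (Fin n) (Fin n) F) *ᵥ v ∈ U) := by
    have swap : ∀ (d : ℕ) (A B : Submodule F (Fin n → F)), A ≤ U → B ≤ W → Module.finrank F A = d →
        (∀ a ∈ A, a ≠ 0 → ∃ b ∈ B, f a b ≠ 0) → (∀ b ∈ B, b ≠ 0 → ∃ a ∈ A, f b a ≠ 0) →
        ∃ h ∈ TransvectionUnitaryGen.transGroup τ f (A ⊔ B),
          (∀ v ∈ A, (h : Matrix (Fin n) (Fin n) F) *ᵥ v ∈ B) ∧
          (∀ v ∈ B, (h : Matrix (Fin n) (Fin n) F) *ᵥ v ∈ A) := by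
      intro d
      induction d with
      | zero =>
        intro A B _ _ hd _ hB
        have hA : A = ⊥ := Submodule.finrank_eq_zero.mp hd
        have hB0 : B = ⊥ := by
          rw [eq_bot_iff]
          intro b hb
          rw [Submodule.mem_bot]
          by_contra h0
          obtain ⟨a, ha, hba⟩ := hB b hb h0
          rw [hA, Submodule.mem_bot] at ha
          exact hba (by rw [ha, TransvectionUnitary.zero_right hf])
        refine ⟨1, Subgroup.one_mem _, fun v hv => ?_, fun v hv => ?_⟩
        · rw [hA, Submodule.mem_bot] at hv; simp [hv]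
        · rw [hB0, Submodule.mem_bot] at hv; simp [hv]
      | succ d ih =>
        intro A B hAU hBW hd hA hB
        obtain ⟨e, he, he0⟩ := Submodule.exists_mem_ne_zero_of_ne_bot (p := A) fun h => by
          rw [h, finrank_bot] at hd; omega
        obtain ⟨b, hb, heb⟩ := hA e he he0
        set r := τ (f e b)⁻¹ • b
        have hr : r ∈ B := B.smul_mem _ hb
        have her : f e r = 1 := by
          rw [TransvectionUnitary.smul_right hf, TransvectionUnitary.sigma_sigma hf, inv_mul_cancel₀ heb]
        have hre : f r e = 1 := by rw [hf.herm, her, map_one]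
        have hee : f e e = 0 := hUts e (hAU he) e (hAU he)
        have hrr : f r r = 0 := hWts r (hBW hr) r (hBW hr)
        set A' := A ⊓ TransvectionUnitary.perp hf (Submodule.span F {r})
        set B' := B ⊓ TransvectionUnitary.perp hf (Submodule.span F {e})
        have hA'r : ∀ a ∈ A', f a r = 0 := fun a ha =>
          (TransvectionUnitary.mem_perp_singleton hf).mp ha.2
        have hB'e : ∀ a ∈ B', f a e = 0 := fun a ha =>
          (TransvectionUnitary.mem_perp_singleton hf).mp ha.2
        have hdecA : ∀ a ∈ A, a - f a r • e ∈ A' := fun a ha =>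
          ⟨A.sub_mem ha (A.smul_mem _ he), (TransvectionUnitary.mem_perp_singleton hf).mpr (by
            rw [TransvectionUnitary.sub_left hf, hf.smul_left, her, mul_one, sub_self])⟩
        have hdecB : ∀ a ∈ B, a - f a e • r ∈ B' := fun a ha =>
          ⟨B.sub_mem ha (B.smul_mem _ hr), (TransvectionUnitary.mem_perp_singleton hf).mpr (by
            rw [TransvectionUnitary.sub_left hf, hf.smul_left, hre, mul_one, sub_self])⟩
        have hd' : Module.finrank F A' = d := by
          have h1 : Module.finrank F A ≤ Module.finrank F A' + Module.finrank F (Submodule.span F {r}) :=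
            TransvectionUnitaryGen.finrank_inf_perp hf A _
          have h2 : A' < A := lt_of_le_of_ne inf_le_left fun h => by
            have h' := hA'r e (h ▸ he)
            rw [her] at h'
            exact one_ne_zero h'
          have h3 := Submodule.finrank_lt_finrank_of_lt h2
          have h4 := fr1 r
          omega
        obtain ⟨h, hh, hhA, hhB⟩ := ih A' B' (inf_le_left.trans hAU) (inf_le_left.trans hBW) hd'
          (fun a ha ha0 => by
            obtain ⟨b, hb, hab⟩ := hA a ha.1 ha0
            refine ⟨b - f b e • r, hdecB b hb, ?_⟩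
            rwa [TransvectionUnitary.sub_right hf, TransvectionUnitary.smul_right hf, hA'r a ha, mul_zero,
              sub_zero])
          (fun b hb hb0 => by
            obtain ⟨a, ha, hba⟩ := hB b hb.1 hb0
            refine ⟨a - f a r • e, hdecA a ha, ?_⟩
            rwa [TransvectionUnitary.sub_right hf, TransvectionUnitary.smul_right hf, hB'e b hb, mul_zero,
              sub_zero])
        have hperp : ∀ x, x = e ∨ x = r → x ∈ TransvectionUnitary.perp hf (A' ⊔ B') := by
          intro x hx y hy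
          obtain ⟨a, ha, b, hb, rfl⟩ := Submodule.mem_sup.mp hy
          rw [TransvectionUnitary.add_right hf]
          rcases hx with rfl | rfl
          · rw [hUts _ (hAU he) _ (hAU ha.1), TransvectionUnitary.skew_zero hf (hB'e b hb), add_zero]
          · rw [hWts _ (hBW hr) _ (hBW hb.1), TransvectionUnitary.skew_zero hf (hA'r a ha), add_zero]
        obtain ⟨-, -, -, hfixh⟩ := TransvectionUnitaryGen.transGroup_props hf hh
        have hhe := hfixh e (hperp e (Or.inl rfl))
        have hhr := hfixh r (hperp r (Or.inr rfl))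
        have htz : τ (-c0⁻¹) = -(-c0⁻¹) := by rw [map_neg, map_inv₀, hc0', inv_neg]
        set w := ft f e (τ c0 • e) * ft f r (τ (-c0⁻¹) • r) * ft f e (τ c0 • e)
        have hsup : A' ⊔ B' ≤ A ⊔ B := sup_le_sup inf_le_left inf_le_left
        have hhbig : h ∈ TransvectionUnitaryGen.transGroup τ f (A ⊔ B) :=
          (TransvectionUnitaryGen.transGroup_le hf fun x hx c hxx hc =>
            TransvectionUnitaryGen.ut_mem hf (hsup hx) hxx hc) hh
        have hwmem : w ∈ TransvectionUnitaryGen.transGroup τ f (A ⊔ B) :=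
          Subgroup.mul_mem _ (Subgroup.mul_mem _
            (TransvectionUnitaryGen.ut_mem hf (Submodule.mem_sup_left he) hee hc0')
            (TransvectionUnitaryGen.ut_mem hf (Submodule.mem_sup_right hr) hrr htz))
            (TransvectionUnitaryGen.ut_mem hf (Submodule.mem_sup_left he) hee hc0')
        have hwe : (w : Matrix (Fin n) (Fin n) F) *ᵥ e = (-c0⁻¹) • r := by
          simp only [w, mul_act, TransvectionUnitary.ut_act hf hee, TransvectionUnitary.ut_act hf hrr,
            hf.add_left, hf.smul_left, hee, her, hre, hrr, mul_zero, zero_smul, add_zero, mul_one,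
            zero_add, mul_neg, mul_inv_cancel₀ hc0]
          module
        have hwr : (w : Matrix (Fin n) (Fin n) F) *ᵥ r = c0 • e := by
          simp only [w, mul_act, TransvectionUnitary.ut_act hf hee, TransvectionUnitary.ut_act hf hrr,
            hf.add_left, hf.smul_left, hee, her, hre, hrr, mul_zero, zero_smul, add_zero, mul_one,
            zero_add, neg_mul, inv_mul_cancel₀ hc0]
          module
        have hwfix : ∀ x, f x e = 0 → f x r = 0 → (w : Matrix (Fin n) (Fin n) F) *ᵥ x = x := by
          intro x hxe hxr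
          simp only [w, mul_act, TransvectionUnitary.ut_act hf hee, TransvectionUnitary.ut_act hf hrr, hxe, hxr,
            mul_zero, zero_smul, add_zero]
        refine ⟨w * h, Subgroup.mul_mem _ hwmem hhbig, fun v hv => ?_, fun v hv => ?_⟩
        · have hv' := hdecA v hv
          rw [← sub_add_cancel v (f v r • e), mul_act, Matrix.mulVec_add, Matrix.mulVec_smul, hhe,
            Matrix.mulVec_add, Matrix.mulVec_smul, hwe,
            hwfix _ (hB'e _ (hhA _ hv')) (hWts _ (hBW (hhA _ hv').1) _ (hBW hr))]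
          exact B.add_mem (hhA _ hv').1 (B.smul_mem _ (B.smul_mem _ hr))
        · have hv' := hdecB v hv
          rw [← sub_add_cancel v (f v e • r), mul_act, Matrix.mulVec_add, Matrix.mulVec_smul, hhr,
            Matrix.mulVec_add, Matrix.mulVec_smul, hwr,
            hwfix _ (hUts _ (hAU (hhB _ hv').1) _ (hAU he)) (hA'r _ (hhB _ hv'))]
          exact A.add_mem (hhB _ hv').1 (A.smul_mem _ (A.smul_mem _ he))
    obtain ⟨h, hh, h1, h2⟩ := swap k U W le_rfl le_rfl hUk
      (fun a ha ha0 => by
        obtain ⟨d, hd, -, hda⟩ := sepW ha (bot_le : ⊥ ≤ U) (by simpa using ha0)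
        exact ⟨d, hd, skn hda⟩)
      (fun b hb hb0 => by
        obtain ⟨d, hd, -, hdb⟩ := sepU hb (bot_le : ⊥ ≤ W) (by simpa using hb0)
        exact ⟨d, hd, skn hdb⟩)
    obtain ⟨hi, hs, -, -⟩ := TransvectionUnitaryGen.transGroup_props hf hh
    refine ⟨h, hmkH ⟨fun x y => hi x y, hs⟩ fun i => ?_, h1, h2⟩
    fin_cases i
    · exact ⟨1, h1⟩
    · exact ⟨0, h2⟩
  obtain ⟨u0, hu0, hu00⟩ := Submodule.exists_mem_ne_zero_of_ne_bot (p := U) fun e => by
    rw [e, finrank_bot] at hUk; omega
  obtain ⟨w0, hw0, -, hwu0⟩ := sepW hu0 (bot_le : ⊥ ≤ U) (by simpa using hu00)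
  refine ⟨lt_of_le_of_ne inf_le_right ?_, fun M hHM hMK => ?_⟩
  · intro he
    have huw : f u0 w0 = 1 := by rw [hf.herm, hwu0, map_one]
    set b := u0 + c0 • w0
    have hbb : f b b = 0 := by
      simp only [b, hf.add_left, TransvectionUnitary.add_right hf, hf.smul_left,
        TransvectionUnitary.smul_right hf, hUts u0 hu0 u0 hu0, hWts w0 hw0 w0 hw0, huw, hwu0, hc0']
      ring
    obtain ⟨u1, hu1, hu10⟩ := Submodule.exists_mem_ne_zero_of_ne_bot
      (p := U ⊓ TransvectionUnitary.perp hf (Submodule.span F {w0})) fun h => by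
        have h1 := TransvectionUnitaryGen.finrank_inf_perp hf U (Submodule.span F {w0})
        have h2 := fr1 w0
        rw [h, finrank_bot] at h1
        omega
    have ht : ft f b (τ c0 • b) ∈ H := he.symm ▸ (⟨fun x y =>
      TransvectionUnitary.ut_preserves hf hbb hc0' x y, ft_mem_sl f b _⟩ : ft f b (τ c0 • b) ∈ K)
    obtain ⟨σ, hσ⟩ := ht.1
    have hσ0 : σ 0 = 0 := by
      by_contra h
      have h' : σ 0 = 1 := by omega
      have hfix : (ft f b (τ c0 • b) : Matrix (Fin n) (Fin n) F) *ᵥ u1 = u1 := by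
        rw [TransvectionUnitary.ut_act hf hbb, TransvectionUnitary.add_right hf, hUts u1 hu1.1 u0 hu0,
          TransvectionUnitary.smul_right hf, (TransvectionUnitary.mem_perp_singleton hf).mp hu1.2]
        simp
      have : u1 ∈ D (σ 0) := by
        rw [← hσ 0]
        exact ⟨u1, hu1.1, (Matrix.toLin'_apply _ _).trans hfix⟩
      rw [h'] at this
      exact hu10 (hdis u1 hu1.1 this)
    have h1 : u0 + (c0 * τ c0) • (u0 + c0 • w0) ∈ D (σ 0) := by
      rw [← hσ 0]
      refine ⟨u0, hu0, ?_⟩
      rw [Matrix.toLin'_apply, TransvectionUnitary.ut_act hf hbb, TransvectionUnitary.add_right hf,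
        hUts u0 hu0 u0 hu0, TransvectionUnitary.smul_right hf, huw, zero_add, mul_one]
    rw [hσ0, ← hUdef, smul_add, ← add_assoc, U.add_mem_iff_right (U.add_mem hu0 (U.smul_mem _ hu0)),
      smul_smul] at h1
    have h2 := hdis _ h1 (W.smul_mem _ hw0)
    rw [smul_eq_zero] at h2
    rcases h2 with h2 | h2
    · simp [hc0, hc0'] at h2
    · rw [h2, TransvectionUnitary.zero_right hf] at huw
      exact zero_ne_one huw
  by_cases hMH : M ≤ Cfsg.Geo.decompositionStabilizer D
  · exact Or.inl (le_antisymm (le_inf hMH hMK) hHM)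
  refine Or.inr (le_antisymm hMK ?_)
  obtain ⟨g, hgM, hgn⟩ := Set.not_subset.mp hMH
  have hiso : ∀ {h : GL (Fin n) F}, h ∈ M → ∀ x y,
      f ((h : Matrix (Fin n) (Fin n) F) *ᵥ x) ((h : Matrix (Fin n) (Fin n) F) *ᵥ y) = f x y :=
    fun hh x y => (hMK hh).1 x y
  have hconjS2 : ∀ {h : GL (Fin n) F}, h ∈ M → ∀ {a b}, f a b = 0 → sp2 f a b ∈ M →
      sp2 f ((h : Matrix (Fin n) (Fin n) F) *ᵥ a) ((h : Matrix (Fin n) (Fin n) F) *ᵥ b) ∈ M := by
    intro h hh a b hab hM
    have h1 : h * sp2 f a b * h⁻¹ =
        sp2 f ((h : Matrix (Fin n) (Fin n) F) *ᵥ a) ((h : Matrix (Fin n) (Fin n) F) *ᵥ b) := by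
      rw [sp2, sp2, ← Matrix.mulVec_neg, ← TransvectionUnitary.ft_conj hf (hiso hh)
        (TransvectionUnitary.skew_zero hf hab), ← TransvectionUnitary.ft_conj hf (hiso hh)
        (by rw [TransvectionUnitary.neg_right hf, hab, neg_zero])]
      group
    rw [← h1]
    exact M.mul_mem (M.mul_mem hh hM) (M.inv_mem hh)
  set T := Matrix.toLin' (g : Matrix (Fin n) (Fin n) F)
  have hTi : Function.Injective T := fun a b hab =>
    act_injective g (by simpa [T, Matrix.toLin'_apply] using hab)
  have hTf : ∀ a b, f (T a) (T b) = f a b := fun a b => by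
    simp only [T, Matrix.toLin'_apply]
    exact hiso hgM a b
  obtain ⟨l, hl⟩ := TransvectionUnitary.exists_trace_eq hf (a := (1 : F)) (map_one τ)
  have hval : ∀ (c δ : F), τ c = -c → δ ≠ 0 → ∃ s, τ s * δ - s * τ δ = c := fun c δ hc hδ =>
    ⟨τ (c * l / δ), by
      rw [TransvectionUnitary.sigma_sigma hf, div_mul_cancel₀ _ hδ, ← map_mul, div_mul_cancel₀ _ hδ,
        map_mul, hc]
      linear_combination c * hl⟩
  -- a full transvection group in M
  obtain ⟨A, hA0, hAA, hAM⟩ :
      ∃ A, A ≠ 0 ∧ f A A = 0 ∧ ∀ c, τ c = -c → ft f A (τ c • A) ∈ M := by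
    by_contra! hcon
    -- two root elements at one centre, one of them with all multiples
    have key1 : ∀ A B B', A ≠ 0 → f A A = 0 → f A B = 0 → f A B' = 0 →
        (∀ s : F, sp2 f A (s • B) ∈ M) → sp2 f A B' ∈ M → f B B' = 0 := by
      intro A B B' hA hAA hAB hAB' hM hM'
      by_contra hne
      obtain ⟨c, hc, hcM⟩ := hcon A hA hAA
      obtain ⟨s, hs⟩ := hval c (f B B') hc hne
      apply hcM
      have h0 : f A (τ s • B) = 0 := by rw [TransvectionUnitary.smul_right hf, hAB, mul_zero]
      have hv : f (τ s • B) B' - f B' (τ s • B) = c := by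
        rw [hf.smul_left, TransvectionUnitary.smul_right hf, TransvectionUnitary.sigma_sigma hf,
          hf.herm B' B, hs]
      have hid : sp2 f A (τ s • B) * sp2 f A B' =
          ft f A (τ c • A) * (sp2 f A B' * sp2 f A (τ s • B)) := gl_ext fun x => by
        simp only [mul_act, sp2_act hf hAA h0, sp2_act hf hAA hAB', TransvectionUnitary.ut_act hf hAA]
        generalize hC : τ s • B = C at hv h0 ⊢
        simp only [TransvectionUnitary.sub_left hf, hf.add_left, hf.smul_left, hAA, h0, hAB',
          TransvectionUnitary.skew_zero hf h0, TransvectionUnitary.skew_zero hf hAB', ← hv]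
        module
      have h := M.mul_mem (M.mul_mem (hM (τ s)) hM') (M.inv_mem (M.mul_mem hM' (hM (τ s))))
      rwa [hid, mul_inv_cancel_right] at h
    have hside : ∀ {X Y : Submodule F (Fin n → F)} {a b}, (X = U ∧ Y = W ∨ X = W ∧ Y = U) →
        a ∈ X → b ∈ Y → (a ∈ U ∧ b ∈ W ∨ a ∈ W ∧ b ∈ U) := by
      rintro X Y a b (⟨rfl, rfl⟩ | ⟨rfl, rfl⟩) ha hb
      · exact Or.inl ⟨ha, hb⟩
      · exact Or.inr ⟨ha, hb⟩
    have hself : ∀ {X Y : Submodule F (Fin n → F)}, (X = U ∧ Y = W ∨ X = W ∧ Y = U) →
        Cfsg.Geo.IsTotallySingularFor f X ∧ Cfsg.Geo.IsTotallySingularFor f Y ∧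
        (∀ x, ∃ u ∈ X, ∃ w ∈ Y, x = u + w) ∧
        (∀ {z Z}, z ∈ X → Z ≤ X → z ∉ Z → ∃ c ∈ Y, (∀ x ∈ Z, f c x = 0) ∧ f c z = 1) := by
      rintro X Y (⟨rfl, rfl⟩ | ⟨rfl, rfl⟩)
      · exact ⟨hUts, hWts, fun x => ⟨_, hpUmem x, _, hpWmem x, (hpadd x).symm⟩, sepW⟩
      · exact ⟨hWts, hUts, fun x => ⟨_, hpWmem x, _, hpUmem x, by rw [add_comm]; exact (hpadd x).symm⟩, sepU⟩
    -- at a pure centre the other vector is pure
    have memX : ∀ {X Y : Submodule F (Fin n → F)}, (X = U ∧ Y = W ∨ X = W ∧ Y = U) → ∀ A B,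
        A ∈ X → A ≠ 0 → f A B = 0 → (∀ s : F, sp2 f A (s • B) ∈ M) → B ∈ Y := by
      intro X Y hXY A B hA hA0 hAB hM
      obtain ⟨hXts, hYts, hdec, sepX⟩ := hself hXY
      obtain ⟨u, hu, w, hw, rfl⟩ := hdec B
      have hAA : f A A = 0 := hXts A hA A hA
      have hu' : u ∈ Submodule.span F {A} := by
        by_contra hnot
        obtain ⟨d, hd, hdA, hdu⟩ := sepX hu (spanLe1 hA) hnot
        have hAd : f A d = 0 :=
          TransvectionUnitary.skew_zero hf (hdA A (Submodule.mem_span_singleton_self A))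
        have h := key1 A (u + w) d hA0 hAA hAB hAd hM (hHM (hS2H (hside hXY hA hd) hAd))
        rw [hf.add_left, hYts w hw d hd, add_zero] at h
        exact skn hdu h
      obtain ⟨μ, rfl⟩ := Submodule.mem_span_singleton.mp hu'
      rcases eq_or_ne μ 0 with rfl | hμ
      · simpa using hw
      exfalso
      obtain ⟨c, hc, hcM⟩ := hcon A hA0 hAA
      obtain ⟨s, hs⟩ := hval c μ hc hμ
      apply hcM
      have hAw0 : f A w = 0 := by
        rwa [TransvectionUnitary.add_right hf, TransvectionUnitary.smul_right hf, hAA, mul_zero,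
          zero_add] at hAB
      have hAw : f A (τ s • w) = 0 := by rw [TransvectionUnitary.smul_right hf, hAw0, mul_zero]
      have hAB' : f A (τ s • (μ • A + w)) = 0 := by
        rw [TransvectionUnitary.smul_right hf, hAB, mul_zero]
      have hid : sp2 f A (τ s • (μ • A + w)) = ft f A (τ c • A) * sp2 f A (τ s • w) :=
        gl_ext fun x => by
          simp only [mul_act, sp2_act hf hAA hAB', sp2_act hf hAA hAw, TransvectionUnitary.ut_act hf hAA,
            TransvectionUnitary.sub_left hf, hf.add_left, hf.smul_left, hAA,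
            TransvectionUnitary.skew_zero hf hAw0, ← hs, TransvectionUnitary.smul_right hf,
            TransvectionUnitary.add_right hf, map_mul, TransvectionUnitary.sigma_sigma hf]
          module
      have h := M.mul_mem (hM (τ s)) (M.inv_mem (hHM (hS2H (hside hXY hA (Y.smul_mem (τ s) hw)) hAw)))
      rwa [hid, mul_inv_cancel_right] at h
    have hgS2 : ∀ {a b}, f a b = 0 → a ∈ U ∧ b ∈ W ∨ a ∈ W ∧ b ∈ U → sp2 f (T a) (T b) ∈ M := by
      intro a b hab h
      simp only [T, Matrix.toLin'_apply]
      exact hconjS2 hgM hab (hHM (hS2H h hab))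
    have hgS2s : ∀ {a b}, f a b = 0 → a ∈ U ∧ b ∈ W ∨ a ∈ W ∧ b ∈ U →
        ∀ s : F, sp2 f (T a) (s • T b) ∈ M := by
      intro a b hab h s
      rw [← map_smul]
      refine hgS2 (by rw [TransvectionUnitary.smul_right hf, hab, mul_zero]) ?_
      rcases h with h | h
      · exact Or.inl ⟨h.1, W.smul_mem s h.2⟩
      · exact Or.inr ⟨h.1, U.smul_mem s h.2⟩
    have hne : ∀ {x}, x ≠ 0 → T x ≠ 0 := fun hx e => hx (hTi (by rw [e, map_zero]))
    -- one pure image is enough
    have spread : ∀ {X Y X' Y' : Submodule F (Fin n → F)}, (X = U ∧ Y = W ∨ X = W ∧ Y = U) →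
        (X' = U ∧ Y' = W ∨ X' = W ∧ Y' = U) → ∀ {b}, b ∈ X → b ≠ 0 → T b ∈ X' → False := by
      intro X Y X' Y' hXY hXY' b hb hb0 hTb
      have hYX : Y = U ∧ X = W ∨ Y = W ∧ X = U := by tauto
      have hYX' : Y' = U ∧ X' = W ∨ Y' = W ∧ X' = U := by tauto
      have hdim : Module.finrank F X = k ∧ Module.finrank F Y = k := by
        rcases hXY with ⟨rfl, rfl⟩ | ⟨rfl, rfl⟩
        · exact ⟨hUk, hWk⟩
        · exact ⟨hWk, hUk⟩
      have step : ∀ {X Y X' Y' : Submodule F (Fin n → F)}, (X = U ∧ Y = W ∨ X = W ∧ Y = U) →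
          (X' = U ∧ Y' = W ∨ X' = W ∧ Y' = U) → ∀ {p a}, p ∈ X → p ≠ 0 → T p ∈ X' → a ∈ Y →
          f p a = 0 → T a ∈ Y' := by
        intro X Y X' Y' h h' p a hp hp0 hTp ha hpa
        exact memX h' (T p) (T a) hTp (hne hp0) ((hTf p a).trans hpa) (hgS2s hpa (hside h hp ha))
      have h1 := TransvectionUnitaryGen.finrank_inf_perp hf Y (Submodule.span F {b})
      have h2 := fr1 b
      set Y1 := Y ⊓ TransvectionUnitary.perp hf (Submodule.span F {b})
      obtain ⟨a1, ha1, ha10⟩ := Submodule.exists_mem_ne_zero_of_ne_bot (p := Y1) fun e => by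
        rw [e, finrank_bot] at h1; omega
      obtain ⟨a2, ha2, ha21⟩ : ∃ a ∈ Y1, a ∉ Submodule.span F {a1} := by
        by_contra! hh
        have h3 := Submodule.finrank_mono (show Y1 ≤ _ from hh)
        have h4 := fr1 a1
        omega
      have hperpb : ∀ a ∈ Y1, f b a = 0 := fun a ha =>
        TransvectionUnitary.skew_zero hf ((TransvectionUnitary.mem_perp_singleton hf).mp ha.2)
      have hT1 := step hXY hXY' hb hb0 hTb ha1.1 (hperpb a1 ha1)
      have hT2 := step hXY hXY' hb hb0 hTb ha2.1 (hperpb a2 ha2)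
      have ha20 : a2 ≠ 0 := fun h => ha21 (h ▸ Submodule.zero_mem _)
      obtain ⟨-, -, -, sepY⟩ := hself hYX
      obtain ⟨x0, hx0, hx0a, hx01⟩ := sepY ha2.1 (spanLe1 ha1.1) ha21
      have hX : ∀ x ∈ X, T x ∈ X' := fun x hx => by
        have e1 : f a2 (x - f x a2 • x0) = 0 := TransvectionUnitary.skew_zero hf (by
          rw [TransvectionUnitary.sub_left hf, hf.smul_left, hx01, mul_one, sub_self])
        have e2 : f a1 (f x a2 • x0) = 0 := TransvectionUnitary.skew_zero hf (by
          rw [hf.smul_left, hx0a _ (Submodule.mem_span_singleton_self _), mul_zero])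
        have := X'.add_mem (step hYX hYX' ha2.1 ha20 hT2 (X.sub_mem hx (X.smul_mem _ hx0)) e1)
          (step hYX hYX' ha1.1 ha10 hT1 (X.smul_mem _ hx0) e2)
        rwa [← map_add, sub_add_cancel] at this
      have hY : ∀ y ∈ Y, T y ∈ Y' := fun y hy => by
        obtain ⟨p, ⟨hp, hpy⟩, hp0⟩ := Submodule.exists_mem_ne_zero_of_ne_bot
          (p := X ⊓ TransvectionUnitary.perp hf (Submodule.span F {y})) fun e => by
            have h3 := TransvectionUnitaryGen.finrank_inf_perp hf X (Submodule.span F {y})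
            have h4 := fr1 y
            rw [e, finrank_bot] at h3
            omega
        exact step hXY hXY' hp hp0 (hX p hp) hy ((TransvectionUnitary.mem_perp_singleton hf).mp hpy)
      apply hgn
      refine (hmkH (hMK hgM) fun i => ?_).1
      have hact : ∀ v, (g : Matrix (Fin n) (Fin n) F) *ᵥ v = T v := fun v =>
        (Matrix.toLin'_apply _ _).symm
      simp only [hact]
      rcases hXY with ⟨rfl, rfl⟩ | ⟨rfl, rfl⟩ <;> rcases hXY' with ⟨rfl, rfl⟩ | ⟨rfl, rfl⟩ <;>
        fin_cases i
      · exact ⟨0, hX⟩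
      · exact ⟨1, hY⟩
      · exact ⟨1, hX⟩
      · exact ⟨0, hY⟩
      · exact ⟨1, hY⟩
      · exact ⟨0, hX⟩
      · exact ⟨0, hY⟩
      · exact ⟨1, hX⟩
    have pure : ∀ x, (x ∈ U ∨ x ∈ W) → x ≠ 0 → (T x ∈ U ∨ T x ∈ W) → False := fun x hx hx0 hTx => by
      rcases hx with hx | hx <;> rcases hTx with hTx | hTx
      · exact spread (Or.inl ⟨rfl, rfl⟩) (Or.inl ⟨rfl, rfl⟩) hx hx0 hTx
      · exact spread (Or.inl ⟨rfl, rfl⟩) (Or.inr ⟨rfl, rfl⟩) hx hx0 hTx
      · exact spread (Or.inr ⟨rfl, rfl⟩) (Or.inl ⟨rfl, rfl⟩) hx hx0 hTx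
      · exact spread (Or.inr ⟨rfl, rfl⟩) (Or.inr ⟨rfl, rfl⟩) hx hx0 hTx
    -- every line of U lifts into the preimage of U
    have lift : ∀ a ∈ U, a ≠ 0 → ∃ w ∈ W, f a w = 0 ∧ T (a + w) ∈ U := by
      intro a ha ha0
      set A := T a with hAdef
      have hA0 : A ≠ 0 := hne ha0
      have hAA : f A A = 0 := (hTf a a).trans (hUts a ha a ha)
      let inZ : (Fin n → F) → Prop := fun y => ∃ t : F, ∃ w ∈ W, f a w = 0 ∧ y = T (t • a + w)
      have hZperp : ∀ y, (∀ t : F, ∀ w ∈ W, f a w = 0 → f (T (t • a + w)) y = 0) → inZ y := by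
        intro y hy
        set y' := (g⁻¹ : GL (Fin n) F).1 *ᵥ y
        have hyy : T y' = y := by rw [Matrix.toLin'_apply]; exact act_inv_act g y
        have hy' : ∀ t : F, ∀ w ∈ W, f a w = 0 → f (t • a + w) y' = 0 := fun t w hw haw => by
          rw [← hTf, hyy]; exact hy t w hw haw
        have hay : f a y' = 0 := by simpa using hy' 1 0 W.zero_mem (TransvectionUnitary.zero_right hf a)
        have hu : pU y' ∈ Submodule.span F {a} := by
          by_contra hnot
          obtain ⟨d, hd, hda, hdu⟩ := sepW (hpUmem y') (spanLe1 ha) hnot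
          have h := hy' 0 d hd
            (TransvectionUnitary.skew_zero hf (hda _ (Submodule.mem_span_singleton_self a)))
          rw [zero_smul, zero_add, ← hpadd y', TransvectionUnitary.add_right hf, hdu,
            hWts d hd _ (hpWmem y'), add_zero] at h
          exact one_ne_zero h
        obtain ⟨t, ht⟩ := Submodule.mem_span_singleton.mp hu
        refine ⟨t, pW y', hpWmem y', ?_, ?_⟩
        · rw [← hpadd y', TransvectionUnitary.add_right hf, hUts a ha _ (hpUmem y'), zero_add] at hay
          exact hay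
        · rw [ht, hpadd, hyy]
      have hAeq : inZ A := ⟨1, 0, W.zero_mem, TransvectionUnitary.zero_right hf a,
        by rw [one_smul, add_zero]⟩
      have hZsub : ∀ {y z}, inZ y → inZ z → inZ (y - z) := by
        rintro _ _ ⟨t, w, hw, haw, rfl⟩ ⟨t', w', hw', haw', rfl⟩
        refine ⟨t - t', w - w', W.sub_mem hw hw', ?_, ?_⟩
        · rw [TransvectionUnitary.sub_right hf, haw, haw', sub_zero]
        · rw [← map_sub]; congr 1; module
      have hZadd : ∀ {y z}, inZ y → inZ z → inZ (y + z) := by
        rintro _ _ ⟨t, w, hw, haw, rfl⟩ ⟨t', w', hw', haw', rfl⟩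
        refine ⟨t + t', w + w', W.add_mem hw hw', ?_, ?_⟩
        · rw [TransvectionUnitary.add_right hf, haw, haw', add_zero]
        · rw [← map_add]; congr 1; module
      have hZsmul : ∀ (r : F) {y}, inZ y → inZ (r • y) := by
        rintro r _ ⟨t, w, hw, haw, rfl⟩
        refine ⟨r * t, r • w, W.smul_mem r hw, ?_, ?_⟩
        · rw [TransvectionUnitary.smul_right hf, haw, mul_zero]
        · rw [← map_smul, smul_add, smul_smul]
      have hZts : ∀ {y z}, inZ y → inZ z → f y z = 0 := by
        rintro _ _ ⟨t, w, hw, haw, rfl⟩ ⟨t', w', hw', haw', rfl⟩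
        rw [hTf, hf.add_left, hf.smul_left, TransvectionUnitary.add_right hf,
          TransvectionUnitary.add_right hf, TransvectionUnitary.smul_right hf,
          TransvectionUnitary.smul_right hf, hUts a ha a ha, haw', hWts w hw w' hw',
          TransvectionUnitary.skew_zero hf haw]
        ring
      -- elements of M fixing A fix the space
      have hstab : ∀ {h : GL (Fin n) F}, h ∈ M → (h : Matrix (Fin n) (Fin n) F) *ᵥ A = A →
          ∀ y, inZ y → inZ ((h : Matrix (Fin n) (Fin n) F) *ᵥ y) := by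
        rintro h hh hhA _ ⟨t, w, hw, haw, rfl⟩
        rw [map_add, map_smul, Matrix.mulVec_add, Matrix.mulVec_smul, ← hAdef, hhA]
        refine hZadd (hZsmul t hAeq) (hZperp _ fun t' w' hw' haw' => ?_)
        have hAB : f A (T w) = 0 := (hTf a w).trans haw
        have hAh : f A ((h : Matrix (Fin n) (Fin n) F) *ᵥ T w) = 0 := by
          have := hiso hh A (T w)
          rwa [hhA, hAB] at this
        have hM1 := hconjS2 hh hAB (hgS2 haw (Or.inl ⟨ha, hw⟩))
        rw [hhA] at hM1
        have h2 := key1 A (T w') _ hA0 hAA ((hTf a w').trans haw') hAh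
          (hgS2s haw' (Or.inl ⟨ha, hw'⟩)) hM1
        rw [map_add, map_smul, hf.add_left, hf.smul_left, hAh, h2, mul_zero, add_zero]
      -- one of two orthogonal fixed directions lies in the space
      have hone : ∀ c ∈ U, ∀ d ∈ W, f c d = 0 → f A c = 0 → f A d = 0 → inZ c ∨ inZ d := by
        intro c hc d hd hcd hAc hAd
        have hor : ∀ y, inZ y → f y c = 0 ∨ f y d = 0 := by
          intro y hy
          by_contra! hh
          obtain ⟨s, hs⟩ := hval c0 (τ (f y c) * f y d) hc0'
            (mul_ne_zero ((map_ne_zero τ).mpr hh.1) hh.2)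
          have hcc : f (τ s • c) (τ s • c) = 0 := hUts _ (U.smul_mem _ hc) _ (U.smul_mem _ hc)
          have hcd' : f (τ s • c) d = 0 := by rw [hf.smul_left, hcd, mul_zero]
          have hmem := hHM (hS2H (Or.inl ⟨U.smul_mem (τ s) hc, hd⟩) hcd')
          have hfix : (sp2 f (τ s • c) d : Matrix (Fin n) (Fin n) F) *ᵥ A = A := by
            rw [sp2_act hf hcc hcd', TransvectionUnitary.smul_right hf, hAc, hAd]; simp
          have h1 := hZts hy (hZsub (hstab hmem hfix y hy) hy)
          rw [sp2_act hf hcc hcd', TransvectionUnitary.sub_right hf, TransvectionUnitary.sub_right hf,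
            TransvectionUnitary.add_right hf, TransvectionUnitary.smul_right hf,
            TransvectionUnitary.smul_right hf, TransvectionUnitary.smul_right hf,
            TransvectionUnitary.smul_right hf, map_mul] at h1
          simp only [TransvectionUnitary.sigma_sigma hf, map_mul] at hs h1
          exact hc0 (by linear_combination h1 - hs)
        by_cases hy : ∀ y, inZ y → f y c = 0
        · exact Or.inl (hZperp c fun t w hw haw => hy _ ⟨t, w, hw, haw, rfl⟩)
        · push Not at hy
          obtain ⟨y0, hy0, hy0c⟩ := hy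
          refine Or.inr (hZperp d fun t w hw haw => ?_)
          rcases hor _ ⟨t, w, hw, haw, rfl⟩ with h | h
          · rcases hor _ (hZadd hy0 ⟨t, w, hw, haw, rfl⟩) with h' | h'
            · rw [hf.add_left, h, add_zero] at h'
              exact absurd h' hy0c
            · rw [hf.add_left, (hor y0 hy0).resolve_left hy0c, zero_add] at h'
              exact h'
          · exact h
      -- two independent vectors of the space on one side give a pure image
      have two : ∀ {X : Submodule F (Fin n → F)}, X = U ∨ X = W → ∀ {p r}, p ∈ X → r ∈ X →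
          inZ p → inZ r → p ≠ 0 → r ∉ Submodule.span F {p} → False := by
        intro X hX p r hp hr hZp hZr hp0 hrp
        obtain ⟨t, w, hw, -, hpe⟩ := hZp
        obtain ⟨t', w', hw', -, hre⟩ := hZr
        have main : ∀ w'' ∈ W, T w'' ∈ X → T w'' ≠ 0 → False := fun w'' hw'' hTw h0 =>
          pure w'' (Or.inr hw'') (fun e => h0 (by rw [e, map_zero]))
            (by rcases hX with rfl | rfl <;> [exact Or.inl hTw; exact Or.inr hTw])
        by_cases ht : t = 0
        · rw [ht, zero_smul, zero_add] at hpe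
          exact main w hw (hpe ▸ hp) (hpe ▸ hp0)
        · have he : T (w' - (t' / t) • w) = r - (t' / t) • p := by
            rw [hpe, hre, ← map_smul, ← map_sub, smul_add, smul_smul, div_mul_cancel₀ _ ht]
            congr 1; module
          refine main _ (W.sub_mem hw' (W.smul_mem _ hw)) (he ▸ X.sub_mem hr (X.smul_mem _ hp))
            (he ▸ fun h0 => hrp ?_)
          exact Submodule.mem_span_singleton.mpr ⟨t' / t, (sub_eq_zero.mp h0).symm⟩
      set uA := pU A
      set wA := pW A
      have huA : uA ∈ U := hpUmem A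
      have hwA : wA ∈ W := hpWmem A
      have hsum : uA + wA = A := hpadd A
      have huA0 : uA ≠ 0 := fun h => pure a (Or.inl ha) ha0 (Or.inr (by
        rw [h, zero_add] at hsum; show A ∈ W; rw [← hsum]; exact hwA))
      set U1 := U ⊓ TransvectionUnitary.perp hf (Submodule.span F {A})
      have hU1 : ∀ c ∈ U1, f c A = 0 ∧ f A c = 0 := fun c hc => by
        have := (TransvectionUnitary.mem_perp_singleton hf).mp hc.2
        exact ⟨this, TransvectionUnitary.skew_zero hf this⟩
      have hU1dim : 2 ≤ Module.finrank F U1 := by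
        have h1 : Module.finrank F U ≤ Module.finrank F U1 + Module.finrank F (Submodule.span F {A}) :=
          TransvectionUnitaryGen.finrank_inf_perp hf U (Submodule.span F {A})
        have h2 := fr1 A
        omega
      suffices huZ : inZ uA by
        obtain ⟨t, w, hw, haw, he⟩ := huZ
        have ht : t ≠ 0 := fun ht => by
          rw [ht, zero_smul, zero_add] at he
          exact pure w (Or.inr hw) (fun h => huA0 (by rw [he, h, map_zero])) (Or.inl (he ▸ huA))
        refine ⟨t⁻¹ • w, W.smul_mem _ hw, by rw [TransvectionUnitary.smul_right hf, haw, mul_zero], ?_⟩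
        have : a + t⁻¹ • w = t⁻¹ • (t • a + w) := by
          rw [smul_add, inv_smul_smul₀ ht]
        rw [this, map_smul, ← he]
        exact U.smul_mem _ huA
      by_cases hdeg : f uA A = 0
      · -- orthogonal halves
        have hu1 : uA ∈ U1 := ⟨huA, (TransvectionUnitary.mem_perp_singleton hf).mpr hdeg⟩
        obtain ⟨c, hc, hcu⟩ : ∃ c ∈ U1, c ∉ Submodule.span F {uA} := by
          by_contra! hh
          have h3 := Submodule.finrank_mono (show U1 ≤ _ from hh)
          have h4 := fr1 uA
          omega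
        have hAw : f A wA = 0 := by
          have : f A uA + f A wA = 0 := by rw [← TransvectionUnitary.add_right hf, hsum, hAA]
          rwa [TransvectionUnitary.skew_zero hf hdeg, zero_add] at this
        have hcase : ∀ x ∈ U1, inZ x ∨ inZ wA := fun x hx => by
          refine hone x hx.1 wA hwA ?_ (hU1 x hx).2 hAw
          have h := (hU1 x hx).1
          rwa [← hsum, TransvectionUnitary.add_right hf, hUts x hx.1 uA huA, zero_add] at h
        have hfin : inZ wA → inZ uA := fun h => by
          have := hZsub hAeq h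
          rwa [← hsum, add_sub_cancel_right] at this
        rcases hcase c hc with h1 | h1
        · rcases hcase (c + uA) (U1.add_mem hc hu1) with h2 | h2
          · simpa using hZsub h2 h1
          · exact hfin h2
        · exact hfin h1
      · exfalso
        by_cases hall : ∀ c ∈ U1, inZ c
        · obtain ⟨p, hp, hp0⟩ := Submodule.exists_mem_ne_zero_of_ne_bot (p := U1) fun e => by
            rw [e, finrank_bot] at hU1dim; omega
          obtain ⟨r, hr, hrp⟩ : ∃ r ∈ U1, r ∉ Submodule.span F {p} := by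
            by_contra! hh
            have h3 := Submodule.finrank_mono (show U1 ≤ _ from hh)
            have h4 := fr1 p
            omega
          exact two (Or.inl rfl) hp.1 hr.1 (hall p hp) (hall r hr) hp0 hrp
        push Not at hall
        obtain ⟨c, hc, hcZ⟩ := hall
        have getd : ∀ x ∈ U1, ¬ inZ x → ∃ d ∈ W, d ≠ 0 ∧ f A d = 0 ∧ f x d = 0 ∧ inZ d := by
          intro x hx hxZ
          obtain ⟨d, ⟨hd, hdp⟩, hd0⟩ := Submodule.exists_mem_ne_zero_of_ne_bot
            (p := W ⊓ TransvectionUnitary.perp hf (Submodule.span F {A, x})) fun e => by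
              have h3 := TransvectionUnitaryGen.finrank_inf_perp hf W (Submodule.span F {A, x})
              have h4 := fr2 A x
              rw [e, finrank_bot] at h3
              omega
          obtain ⟨hdA, hdx⟩ := (TransvectionUnitary.mem_perp_pair hf).mp hdp
          have e1 := TransvectionUnitary.skew_zero hf hdA
          have e2 := TransvectionUnitary.skew_zero hf hdx
          exact ⟨d, hd, hd0, e1, e2, (hone x hx.1 d hd e2 (hU1 x hx).2 e1).resolve_left hxZ⟩
        obtain ⟨d, hd, hd0, hAd, hcd, hdZ⟩ := getd c hc hcZ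
        have hxd : ∀ x ∈ U1, ¬ inZ x → f x d = 0 := fun x hx hxZ => by
          obtain ⟨d', hd', hd'0, -, hxd', hd'Z⟩ := getd x hx hxZ
          by_cases hm : d' ∈ Submodule.span F {d}
          · obtain ⟨r, rfl⟩ := Submodule.mem_span_singleton.mp hm
            rw [TransvectionUnitary.smul_right hf] at hxd'
            exact (mul_eq_zero.mp hxd').resolve_left
              ((map_ne_zero τ).mpr fun h => hd'0 (by rw [h, zero_smul]))
          · exact (two (Or.inr rfl) hd hd' hdZ hd'Z hd0 hm).elim
        have hU1d : ∀ x ∈ U1, f x d = 0 := fun x hx => by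
          by_cases hxZ : inZ x
          · have h := hxd (x + c) (U1.add_mem hx hc) fun h => hcZ (by simpa using hZsub h hxZ)
            rwa [hf.add_left, hcd, add_zero] at h
          · exact hxd x hx hxZ
        obtain ⟨e, he, -, hed⟩ := sepU hd (bot_le : ⊥ ≤ W) (by simpa using hd0)
        have hu : e - (f e A / f uA A) • uA ∈ U1 :=
          ⟨U.sub_mem he (U.smul_mem _ huA), (TransvectionUnitary.mem_perp_singleton hf).mpr (by
            rw [TransvectionUnitary.sub_left hf, hf.smul_left, div_mul_cancel₀ _ hdeg, sub_self])⟩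
        have h := hU1d _ hu
        rw [TransvectionUnitary.sub_left hf, hf.smul_left, hed, ← fW A hd, hAd, mul_zero,
          sub_zero] at h
        exact one_ne_zero h
    -- the preimage of U is the graph of an alternating map, hence U
    choose! φ hφW hφa hφT using lift
    obtain ⟨a0, ha0, ha00⟩ : ∃ a ∈ U, a ≠ 0 := ⟨u0, hu0, hu00⟩
    obtain ⟨e, he, -, hew⟩ : ∃ e ∈ U, (∀ x ∈ (⊥ : Submodule F (Fin n → F)), f e x = 0) ∧
        f e (φ a0) = 1 := sepU (hφW a0 ha0 ha00) bot_le (by
      rw [Submodule.mem_bot]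
      intro h
      have := hφT a0 ha0 ha00
      rw [h, add_zero] at this
      exact pure a0 (Or.inl ha0) ha00 (Or.inl this))
    have he0 : e ≠ 0 := fun h => by rw [h, TransvectionUnitary.zero_left hf] at hew; exact zero_ne_one hew
    have hlin : ∀ r : F, e + r • a0 ≠ 0 → φ (e + r • a0) = φ e + r • φ a0 := fun r h0 => by
      have hU : e + r • a0 ∈ U := U.add_mem he (U.smul_mem r ha0)
      by_contra hne'
      have h1 : T (φ (e + r • a0) - (φ e + r • φ a0)) ∈ U := by
        have h2 := U.sub_mem (hφT _ hU h0) (U.add_mem (hφT e he he0) (U.smul_mem r (hφT a0 ha0 ha00)))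
        rw [← map_smul, ← map_add, ← map_sub] at h2
        convert h2 using 2
        module
      exact pure _ (Or.inr (W.sub_mem (hφW _ hU h0) (W.add_mem (hφW e he he0)
        (W.smul_mem r (hφW a0 ha0 ha00))))) (sub_ne_zero.mpr hne') (Or.inl h1)
    have hnot : e ∉ Submodule.span F {a0} := fun h => by
      obtain ⟨r, rfl⟩ := Submodule.mem_span_singleton.mp h
      rw [hf.smul_left, hφa a0 ha0 ha00, mul_zero] at hew
      exact zero_ne_one hew
    have hquad : ∀ r : F, τ r * f e (φ a0) + r * f a0 (φ e) = 0 := fun r => by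
      have h0 : e + r • a0 ≠ 0 := fun h => hnot (Submodule.mem_span_singleton.mpr
        ⟨-r, by rw [neg_smul]; exact (eq_neg_of_add_eq_zero_left h).symm⟩)
      have h := hφa _ (U.add_mem he (U.smul_mem r ha0)) h0
      rw [hlin r h0, hf.add_left, hf.smul_left, TransvectionUnitary.add_right hf,
        TransvectionUnitary.add_right hf, TransvectionUnitary.smul_right hf,
        TransvectionUnitary.smul_right hf, hφa e he he0, hφa a0 ha0 ha00] at h
      linear_combination h
    have h1 := hquad 1
    have h2 := hquad c0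
    rw [map_one, hew] at h1
    rw [hc0', hew] at h2
    obtain ⟨r, hr⟩ := TransvectionUnitary.exists_not_fixed hf.ne_refl
    have h3 := hquad r
    rw [hew] at h3
    exact hr (by linear_combination h3 - r * h1)
  -- growing the set of centres
  let S : (Fin n → F) → Prop := fun v => f v v = 0 ∧ ∀ c, τ c = -c → ft f v (τ c • v) ∈ M
  have hSconj : ∀ {h : GL (Fin n) F}, h ∈ M → ∀ {v}, S v →
      S ((h : Matrix (Fin n) (Fin n) F) *ᵥ v) := by
    intro h hh v hv
    refine ⟨by rw [hiso hh, hv.1], fun c hc => ?_⟩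
    have hvc : f v (τ c • v) = 0 := by rw [TransvectionUnitary.smul_right hf, hv.1, mul_zero]
    have := TransvectionUnitary.ft_conj hf (hiso hh) hvc
    rw [Matrix.mulVec_smul] at this
    rw [← this]
    exact M.mul_mem (M.mul_mem hh (hv.2 c hc)) (M.inv_mem hh)
  have hSsmul : ∀ (s : F) {v}, S v → S (s • v) := by
    intro s v hv
    have hz : f (s • v) (s • v) = 0 := by
      rw [hf.smul_left, TransvectionUnitary.smul_right hf, hv.1, mul_zero, mul_zero]
    refine ⟨hz, fun c hc => ?_⟩
    have hc' : τ (c * τ s * s) = -(c * τ s * s) := by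
      rw [map_mul, map_mul, hc, TransvectionUnitary.sigma_sigma hf]; ring
    have : ft f (s • v) (τ c • s • v) = ft f v (τ (c * τ s * s) • v) := gl_ext fun x => by
      rw [TransvectionUnitary.ut_act hf hz, TransvectionUnitary.ut_act hf hv.1,
        TransvectionUnitary.smul_right hf, smul_smul]
      congr 2
      ring
    rw [this]
    exact hv.2 _ hc'
  have hShift : ∀ {v w}, S w → S v → ∀ c, τ c = -c → S (v + (c * f v w) • w) := by
    intro v w hw hv c hc
    have := hSconj (hw.2 c hc) hv
    rwa [TransvectionUnitary.ut_act hf hw.1] at this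
  have hS2act : ∀ {a b v}, (a ∈ U ∧ b ∈ W ∨ a ∈ W ∧ b ∈ U) → f a b = 0 → S v →
      S (v + f v a • b - f v b • a) := by
    intro a b v hm hab hv
    have haa : f a a = 0 := by
      rcases hm with h | h
      · exact hUts a h.1 a h.1
      · exact hWts a h.1 a h.1
    have := hSconj (hHM (hS2H hm hab)) hv
    rwa [sp2_act hf haa hab] at this
  have hUall : ∀ {a}, a ∈ U → a ≠ 0 → S a → ∀ v ∈ U, S v := by
    intro a ha ha0 haS v hv
    by_cases hva : v ∈ Submodule.span F {a}
    · obtain ⟨s, rfl⟩ := Submodule.mem_span_singleton.mp hva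
      exact hSsmul s haS
    have hav := notMem_span_sub ha0 hva
    obtain ⟨d, hd, hdz, hda⟩ := sepW ha (spanLe1 (U.sub_mem hv ha)) hav
    have hcd : f (v - a) ((-1 : F) • d) = 0 := by
      rw [TransvectionUnitary.smul_right hf,
        TransvectionUnitary.skew_zero hf (hdz _ (Submodule.mem_span_singleton_self _)), mul_zero]
    have := hS2act (Or.inl ⟨U.sub_mem hv ha, W.smul_mem (-1) hd⟩) hcd haS
    rw [hUts a ha _ (U.sub_mem hv ha), zero_smul, add_zero, TransvectionUnitary.smul_right hf,
      show f a d = 1 by rw [hf.herm, hda, map_one], mul_one, map_neg, map_one, neg_smul, one_smul,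
      sub_neg_eq_add, add_sub_cancel] at this
    exact this
  have hSJ : ∀ {v}, S v → S ((J : Matrix (Fin n) (Fin n) F) *ᵥ v) := fun hv => hSconj (hHM hJH) hv
  have hAdd : ∀ {v w}, S v → S w → f v w ≠ 0 → τ (f v w) = - f v w → S (v + w) := by
    intro v w hv hw h0 htz
    have := hShift hw hv (f v w)⁻¹ (by rw [map_inv₀, htz, inv_neg])
    rwa [inv_mul_cancel₀ h0, one_smul] at this
  -- moving either half of an orthogonal mixed vector
  have hMoveU : ∀ {c d c2}, c ∈ U → d ∈ W → c2 ∈ U → f c d = 0 → f d c2 = 0 →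
      c ∉ Submodule.span F {c2 - c} → S (c + d) → S (c2 + d) := by
    intro c d c2 hc hd hc2 hcd hdc2 hind hcS
    obtain ⟨e, he, hez, hec⟩ := sepW hc (spanLe1 (U.sub_mem hc2 hc)) hind
    have h := hS2act (Or.inl ⟨U.sub_mem hc2 hc, W.neg_mem he⟩) (by
      rw [TransvectionUnitary.neg_right hf,
        TransvectionUnitary.skew_zero hf (hez _ (Submodule.mem_span_singleton_self _)), neg_zero]) hcS
    have e1 : f (c + d) (c2 - c) = 0 := by
      rw [hf.add_left, hUts c hc _ (U.sub_mem hc2 hc), TransvectionUnitary.sub_right hf, hdc2,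
        TransvectionUnitary.skew_zero hf hcd, sub_zero, add_zero]
    have e2 : f (c + d) (-e) = -1 := by
      rw [TransvectionUnitary.neg_right hf, hf.add_left, hWts d hd e he, add_zero, hf.herm c e, hec,
        map_one]
    rw [e1, e2] at h
    have hh : c + d + (0 : F) • -e - (-1 : F) • (c2 - c) = c2 + d := by module
    rwa [hh] at h
  have hMoveW : ∀ {c d d2}, c ∈ U → d ∈ W → d2 ∈ W → f c d = 0 → f c d2 = 0 →
      d ∉ Submodule.span F {d2 - d} → S (c + d) → S (c + d2) := by
    intro c d d2 hc hd hd2 hcd hcd2 hind hcS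
    obtain ⟨a, ha, haz, had⟩ := sepU hd (spanLe1 (W.sub_mem hd2 hd)) hind
    have h := hS2act (Or.inl ⟨ha, W.sub_mem hd2 hd⟩) (haz _ (Submodule.mem_span_singleton_self _)) hcS
    have e1 : f (c + d) a = 1 := by
      rw [hf.add_left, hUts c hc a ha, zero_add, hf.herm d a, had, map_one]
    have e2 : f (c + d) (d2 - d) = 0 := by
      rw [hf.add_left, hWts d hd _ (W.sub_mem hd2 hd), TransvectionUnitary.sub_right hf, hcd2, hcd,
        sub_zero, add_zero]
    rw [e1, e2] at h
    have hh : c + d + (1 : F) • (d2 - d) - (0 : F) • a = c + d2 := by module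
    rwa [hh] at h
  obtain ⟨a, ha, ha0, haS⟩ : ∃ a ∈ U, a ≠ 0 ∧ S a := by
    have hAS : S A := ⟨hAA, hAM⟩
    by_cases hU0 : pU A = 0
    · have hAW : A ∈ W := by have := hpadd A; rw [hU0, zero_add] at this; exact this ▸ hpWmem A
      exact ⟨_, hJW A hAW, act_ne_zero J hA0, hSJ hAS⟩
    by_cases hW0 : pW A = 0
    · have hAU : A ∈ U := by have := hpadd A; rw [hW0, add_zero] at this; exact this ▸ hpUmem A
      exact ⟨A, hAU, hA0, hAS⟩
    -- an orthogonal mixed vector in S
    obtain ⟨c1, hc1, hAc, hcu⟩ : ∃ c ∈ U, f A c ≠ 0 ∧ pU A ∉ Submodule.span F {c} := by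
      obtain ⟨e, he, -, hew⟩ := sepU (hpWmem A) (bot_le : ⊥ ≤ W) (by simpa using hW0)
      have hAe : f A e ≠ 0 := by rw [fU A he]; exact skn hew
      by_cases h : pU A ∈ Submodule.span F {e}
      · obtain ⟨z, ⟨hzU, hz⟩, hze⟩ : ∃ z ∈ U ⊓ TransvectionUnitary.perp hf (Submodule.span F {A}),
            z ∉ Submodule.span F {e} := by
          by_contra! hh
          have h1 := Submodule.finrank_mono (show _ ≤ Submodule.span F {e} from hh)
          have h2 := TransvectionUnitaryGen.finrank_inf_perp hf U (Submodule.span F {A})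
          have h3 := fr1 A
          have h4 := fr1 e
          omega
        refine ⟨e + z, U.add_mem he hzU, ?_, fun h' => hze ?_⟩
        · rwa [TransvectionUnitary.add_right hf,
            TransvectionUnitary.skew_zero hf ((TransvectionUnitary.mem_perp_singleton hf).mp hz), add_zero]
        · obtain ⟨p, hp⟩ := Submodule.mem_span_singleton.mp h'
          rcases eq_or_ne p 0 with rfl | hp0
          · exact absurd (by simpa using hp.symm) hU0
          · have h5 : p • z ∈ Submodule.span F {e} := by
              have : p • z = pU A - p • e := by rw [← hp, smul_add]; abel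
              rw [this]
              exact Submodule.sub_mem _ h (Submodule.smul_mem _ _ (Submodule.mem_span_singleton_self e))
            exact (Submodule.smul_mem_iff _ hp0).mp h5
      · exact ⟨e, he, hAe, h⟩
    obtain ⟨d, hd, hdc, hdu⟩ := sepW (hpUmem A) (spanLe1 hc1) hcu
    have hAd : f A d = 1 := by rw [fW A hd, hf.herm, hdu, map_one]
    have hc1d : f c1 d = 0 :=
      TransvectionUnitary.skew_zero hf (hdc _ (Submodule.mem_span_singleton_self _))
    obtain ⟨s, hs⟩ := hval c0 (f A c1) hc0' hAc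
    have hs0 : s ≠ 0 := fun h => by
      rw [h, map_zero, zero_mul, zero_mul, sub_zero] at hs
      exact hc0 hs.symm
    have hhA := hS2act (Or.inl ⟨U.smul_mem s hc1, hd⟩) (by rw [hf.smul_left, hc1d, mul_zero]) hAS
    rw [hAd, one_smul, TransvectionUnitary.smul_right hf] at hhA
    set c' := -(s • c1) with hc'def
    set d' := (τ s * f A c1) • d with hd'def
    have hc' : c' ∈ U := U.neg_mem (U.smul_mem _ hc1)
    have hd' : d' ∈ W := W.smul_mem _ hd
    have hcd' : f c' d' = 0 := by
      simp [hc'def, hd'def, TransvectionUnitary.neg_left hf, hf.smul_left,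
        TransvectionUnitary.smul_right hf, hc1d]
    have hc'0 : c' ≠ 0 := neg_ne_zero.mpr (smul_ne_zero hs0 fun h => hAc (by
      rw [h, TransvectionUnitary.zero_right hf]))
    have hd'0 : d' ≠ 0 := smul_ne_zero (mul_ne_zero ((map_ne_zero τ).mpr hs0) hAc) fun h => by
      rw [h, TransvectionUnitary.zero_right hf] at hAd
      exact zero_ne_one hAd
    have hS' : S (c' + d') := by
      have hdA : f d A = 1 := by rw [hf.herm, hAd, map_one]
      have hval' : f (A + (τ s * f A c1) • d - s • c1) A = c0 := by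
        rw [TransvectionUnitary.sub_left hf, hf.add_left, hf.smul_left, hf.smul_left, hAA, hdA,
          hf.herm c1 A, ← hs]
        ring
      have h := hShift hAS hhA (-c0⁻¹) (by rw [map_neg, map_inv₀, hc0', inv_neg])
      rw [hval', neg_mul, inv_mul_cancel₀ hc0] at h
      have hh : A + (τ s * f A c1) • d - s • c1 + (-1 : F) • A = c' + d' := by
        rw [hc'def, hd'def]; module
      rwa [hh] at h
    obtain ⟨c2, ⟨hc2, hc2p⟩, hc2c⟩ : ∃ z ∈ U ⊓ TransvectionUnitary.perp hf (Submodule.span F {d'}),
        z ∉ Submodule.span F {c'} := by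
      by_contra! hh
      have h1 := Submodule.finrank_mono (show _ ≤ Submodule.span F {c'} from hh)
      have h2 := TransvectionUnitaryGen.finrank_inf_perp hf U (Submodule.span F {d'})
      have h3 := fr1 c'
      have h4 := fr1 d'
      omega
    have hc2d : f c2 d' = 0 := (TransvectionUnitary.mem_perp_singleton hf).mp hc2p
    obtain ⟨z0, hz0, hz0c, hz0c2⟩ := sepW hc2 (spanLe1 hc') hc2c
    set z := τ c0 • z0 with hzdef
    have hz : z ∈ W := W.smul_mem _ hz0
    have hc'z : f c' z = 0 := by
      rw [hzdef, TransvectionUnitary.smul_right hf,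
        TransvectionUnitary.skew_zero hf (hz0c _ (Submodule.mem_span_singleton_self _)), mul_zero]
    have hc2z : f c2 z = c0 := by
      rw [hzdef, TransvectionUnitary.smul_right hf, hf.herm c2 z0, hz0c2, map_one, mul_one,
        TransvectionUnitary.sigma_sigma hf]
    have hout : ∀ x, x ∈ Submodule.span F {d'} → f c2 x = 0 := fun x hx => by
      obtain ⟨r, rfl⟩ := Submodule.mem_span_singleton.mp hx
      rw [TransvectionUnitary.smul_right hf, hc2d, mul_zero]
    have h1 : S (c2 + d') :=
      hMoveU hc' hd' hc2 hcd' (TransvectionUnitary.skew_zero hf hc2d) (notMem_span_sub hc'0 hc2c) hS'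
    have h2 : S (c' + (d' + z)) := by
      refine hMoveW hc' hd' (W.add_mem hd' hz) hcd' ?_ (notMem_span_sub hd'0 fun h => hc0 ?_) hS'
      · rw [TransvectionUnitary.add_right hf, hcd', hc'z, add_zero]
      · have h' := hout _ h
        rwa [TransvectionUnitary.add_right hf, hc2d, hc2z, zero_add] at h'
    have h3 : S (c' + -(d' + d' + z)) := by
      refine hMoveW hc' hd' (W.neg_mem (W.add_mem (W.add_mem hd' hd') hz)) hcd' ?_
        (notMem_span_sub hd'0 fun h => hc0 ?_) hS'
      · rw [TransvectionUnitary.neg_right hf, TransvectionUnitary.add_right hf,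
          TransvectionUnitary.add_right hf, hcd', hc'z, add_zero, add_zero, neg_zero]
      · have h' := hout _ h
        rwa [TransvectionUnitary.neg_right hf, TransvectionUnitary.add_right hf,
          TransvectionUnitary.add_right hf, hc2d, hc2z, zero_add, zero_add, neg_eq_zero] at h'
    have e1 : f d' c' = 0 := TransvectionUnitary.skew_zero hf hcd'
    have e2 : f z c' = 0 := TransvectionUnitary.skew_zero hf hc'z
    have h12 : f (c2 + d') (c' + (d' + z)) = c0 := by
      simp only [hf.add_left, TransvectionUnitary.add_right hf, hUts c2 hc2 c' hc', hWts d' hd' d' hd',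
        hWts d' hd' z hz, hc2d, hc2z, e1]
      ring
    have h4 := hAdd h1 h2 (by rw [h12]; exact hc0) (by rw [h12]; exact hc0')
    have h43 : f (c2 + d' + (c' + (d' + z))) (c' + -(d' + d' + z)) = -c0 := by
      simp only [hf.add_left, TransvectionUnitary.add_right hf, TransvectionUnitary.neg_right hf,
        hUts c2 hc2 c' hc', hUts c' hc' c' hc', hWts d' hd' d' hd', hWts d' hd' z hz, hWts z hz d' hd',
        hWts z hz z hz, hc2d, hc2z, hcd', hc'z, e1, e2]
      ring
    have h5 := hAdd h4 h3 (by rw [h43]; exact neg_ne_zero.mpr hc0) (by rw [h43, map_neg, hc0'])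
    have hh : c2 + d' + (c' + (d' + z)) + (c' + -(d' + d' + z)) = c2 + (c' + c') := by abel
    rw [hh] at h5
    refine ⟨_, U.add_mem hc2 (U.add_mem hc' hc'), fun h => hc2c ?_, h5⟩
    rw [eq_neg_of_add_eq_zero_left h]
    exact Submodule.neg_mem _ (Submodule.add_mem _ (Submodule.mem_span_singleton_self _)
      (Submodule.mem_span_singleton_self _))
  have hSU : ∀ v ∈ U, S v := hUall ha ha0 haS
  have hSW : ∀ v ∈ W, S v := by
    intro v hv
    have h1 : U.map (Matrix.toLin' (J : Matrix (Fin n) (Fin n) F)) = W := by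
      refine Submodule.eq_of_le_of_finrank_eq ?_ ?_
      · rintro _ ⟨x, hx, rfl⟩
        rw [Matrix.toLin'_apply]
        exact hJU x hx
      · rw [← (Submodule.equivMapOfInjective _ (fun a b hab => act_injective J (by simpa using hab)) U).finrank_eq,
          hUk, hWk]
    rw [← h1] at hv
    obtain ⟨x, hx, rfl⟩ := hv
    rw [Matrix.toLin'_apply]
    exact hSJ (hSU x hx)
  have htzpair : ∀ {u w}, u ∈ U → w ∈ W → f (u + w) (u + w) = 0 → τ (f u w) = - f u w := by
    intro u w hu hw h
    rw [hf.add_left, TransvectionUnitary.add_right hf, TransvectionUnitary.add_right hf, hUts u hu u hu,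
      hWts w hw w hw, ← TransvectionUnitary.sigma_f hf u w] at h
    linear_combination h
  have hpairs : ∀ {u w}, u ∈ U → w ∈ W → f (u + w) (u + w) = 0 → f u w ≠ 0 → S (u + w) :=
    fun hu hw h hne => hAdd (hSU _ hu) (hSW _ hw) hne (htzpair hu hw h)
  intro g' hg'
  refine TransvectionUnitaryGen.su_mem_of_even hf (by rw [Fintype.card_fin]; exact ⟨k, by omega⟩)
    (fun v c hv hc => ?_) hg'.1 hg'.2
  suffices h : S v from h.2 c hc
  by_cases hu : pU v = 0
  · have := hpadd v; rw [hu, zero_add] at this
    exact this ▸ hSW _ (hpWmem v)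
  by_cases hw : pW v = 0
  · have := hpadd v; rw [hw, add_zero] at this
    exact this ▸ hSU _ (hpUmem v)
  have hiso0 : f (pU v + pW v) (pU v + pW v) = 0 := by rw [hpadd, hv]
  by_cases huw : f (pU v) (pW v) = 0
  · obtain ⟨e, he, -, hew⟩ := sepU (hpWmem v) (bot_le : ⊥ ≤ W) (by simpa using hw)
    have hwe : f (pW v) e = 1 := by rw [hf.herm, hew, map_one]
    have h1 : S ((pU v + (-c0) • e) + pW v) := by
      refine hpairs (U.add_mem (hpUmem v) (U.smul_mem _ he)) (hpWmem v) ?_ ?_
      · simp only [hf.add_left, TransvectionUnitary.add_right hf, hf.smul_left,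
          TransvectionUnitary.smul_right hf, hUts _ (hpUmem v) _ (hpUmem v), hUts _ (hpUmem v) _ he,
          hUts _ he _ (hpUmem v), hUts _ he _ he, hWts _ (hpWmem v) _ (hpWmem v), huw,
          TransvectionUnitary.skew_zero hf huw, hew, hwe, map_neg, hc0']
        ring
      · rw [hf.add_left, hf.smul_left, huw, hew, zero_add, mul_one]
        exact neg_ne_zero.mpr hc0
    have h2 := hShift (hSU e he) h1 c0 hc0'
    rw [hf.add_left, hf.add_left, hf.smul_left, hUts _ (hpUmem v) _ he, hUts _ he _ he, hwe, mul_zero,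
      zero_add, zero_add, mul_one] at h2
    have h3 : pU v + (-c0) • e + pW v + c0 • e = v := by
      conv_rhs => rw [← hpadd v]
      module
    rwa [h3] at h2
  · have := hpairs (hpUmem v) (hpWmem v) hiso0 huw
    rwa [hpadd] at this

end Cfsg.Agent.UnitaryTIPair22
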