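import Mathlib
import Cfsg.Agent.Lib.CharInducedClifford
import Cfsg.Agent.Lib.GaloisChar80
import Cfsg.Agent.Lib.CharBasicLinear

/-!
# Schur's bound for `p`-groups with an integer valued character
-/

set_option autoImplicit false

namespace Cfsg.Agent.DixonSchurBound

open Finset Cfsg.Agent.CharBasic Cfsg.Agent.CharBasicDecomp Cfsg.Agent.CharBasicOrth
open scoped ComplexConjugate

universe u

variable {G : Type u} [Group G]

/-- The average of a character is a natural number. -/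
theorem sum_char [Fintype G] {φ : G → ℂ} (hφ : Cfsg.IsCharacter G φ) :
    ∃ N : ℕ, ∑ g : G, φ g = Nat.card G * N := by
  obtain ⟨N, hN⟩ := CharInduced.coeff_nat hφ isIrrCharacter_one
  refine ⟨N, ?_⟩
  have hG : (Nat.card G : ℂ) ≠ 0 := Nat.cast_ne_zero.2 Nat.card_pos.ne'
  rw [← hN, Cfsg.classInner, mul_inv_cancel_left₀ hG]
  simp

theorem sum_pow_char [Finite G] {φ : G → ℂ} (hφ : Cfsg.IsCharacter G φ) (x : G) :
    ∃ N : ℕ, ∑ i ∈ range (orderOf x), φ (x ^ i) = orderOf x * N := by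
  classical
  haveI := Fintype.ofFinite (Subgroup.zpowers x)
  obtain ⟨N, hN⟩ := sum_char (isCharacter_comap (Subgroup.zpowers x).subtype hφ)
  refine ⟨N, ?_⟩
  rw [Nat.card_zpowers] at hN
  rw [← hN, Finset.sum_range fun i => φ (x ^ i),
    ← Equiv.sum_comp (finEquivZPowers (isOfFinOrder_of_finite x))
      (φ ∘ (Subgroup.zpowers x).subtype)]
  simp [finEquivZPowers_apply]

/-- A value that is fixed by the Galois group is an integer, bounded below. -/
theorem exists_int_of_galois [Finite G] {p : ℕ} [hp : Fact p.Prime] {φ : G → ℂ}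
    (hφ : Cfsg.IsCharacter G φ) {n : ℕ} (hn : φ 1 = n) (x : G) (hx : ∃ e, orderOf x = p ^ e)
    (hgal : ∀ j : ℕ, ¬ p ∣ j → φ (x ^ j) = φ x) :
    ∃ a : ℤ, φ x = a ∧ -(n : ℤ) ≤ ((p : ℤ) - 1) * a := by
  obtain ⟨e, he⟩ := hx
  rcases e with - | e
  · rw [pow_zero, orderOf_eq_one_iff] at he
    subst he
    refine ⟨n, by simpa using hn, ?_⟩
    have : (0 : ℤ) ≤ ((p : ℤ) - 1) * n := mul_nonneg (by
      have : 1 ≤ p := hp.out.one_le
      omega) (by positivity)
    omega
  have hp0 : p ≠ 0 := hp.out.ne_zero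
  obtain ⟨N0, h0⟩ := sum_pow_char hφ x
  obtain ⟨N1, h1⟩ := sum_pow_char hφ (x ^ p)
  have hy : orderOf (x ^ p) = p ^ e := by
    rw [orderOf_pow_of_dvd hp0 (he ▸ dvd_pow_self p (by omega)), he, pow_succ,
      Nat.mul_div_cancel _ hp.out.pos]
  rw [hy] at h1
  rw [he] at h0
  have hN1 : N1 ≤ n := by
    have h := norm_sum_le (range (p ^ e)) (fun i => φ ((x ^ p) ^ i))
    rw [h1] at h
    have hle : ∀ i ∈ range (p ^ e), ‖φ ((x ^ p) ^ i)‖ ≤ (n : ℝ) := fun i _ => by
      refine (isCharacter_norm_le hφ _).trans_eq ?_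
      simp [hn]
    have h' := h.trans (Finset.sum_le_sum hle)
    rw [sum_const, card_range, nsmul_eq_mul, norm_mul, Complex.norm_natCast,
      Complex.norm_natCast] at h'
    have : p ^ e * N1 ≤ p ^ e * n := by exact_mod_cast h'
    exact Nat.le_of_mul_le_mul_left this (pow_pos hp.out.pos e)
  set R := range (p ^ (e + 1)) with hR
  have hmul : R.filter (fun j => p ∣ j) = (range (p ^ e)).image (fun i => p * i) := by
    ext j
    simp only [hR, mem_filter, mem_range, mem_image]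
    constructor
    · rintro ⟨hj, i, rfl⟩
      exact ⟨i, Nat.lt_of_mul_lt_mul_left (a := p) (by rwa [← pow_succ']), rfl⟩
    · rintro ⟨i, hi, rfl⟩
      exact ⟨by rw [pow_succ']; exact Nat.mul_lt_mul_of_pos_left hi hp.out.pos, dvd_mul_right _ _⟩
  have hinj : Set.InjOn (fun i => p * i) (range (p ^ e) : Set ℕ) := fun a _ b _ h =>
    Nat.eq_of_mul_eq_mul_left hp.out.pos h
  have hc : (R.filter (fun j => ¬ p ∣ j)).card = p ^ (e + 1) - p ^ e := by
    have h := Finset.card_filter_add_card_filter_not (s := R) (fun j => p ∣ j)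
    rw [hmul, card_image_of_injOn hinj, card_range, hR, card_range] at h
    rw [hR]
    omega
  have hs := Finset.sum_filter_add_sum_filter_not R (fun j => p ∣ j) (fun j => φ (x ^ j))
  rw [hmul, sum_image hinj] at hs
  simp only [pow_mul] at hs
  rw [h1, h0, sum_congr rfl (fun j hj => hgal j (mem_filter.1 hj).2), sum_const, hc,
    nsmul_eq_mul, Nat.cast_sub (Nat.pow_le_pow_right hp.out.pos (by omega))] at hs
  push_cast at hs
  have hpe : (p : ℂ) ^ e ≠ 0 := pow_ne_zero _ (Nat.cast_ne_zero.2 hp0)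
  have key : ((p : ℂ) - 1) * φ x = p * N0 - N1 := mul_left_cancel₀ hpe (by
    linear_combination hs)
  have hp1 : ((p : ℂ) - 1) ≠ 0 := sub_ne_zero.2 (by exact_mod_cast hp.out.ne_one)
  have hrat : φ x = (((p * N0 - N1 : ℤ) / ((p : ℤ) - 1 : ℤ) : ℚ) : ℂ) := by
    push_cast
    rw [eq_div_iff hp1, mul_comm, key]
  have hint := isCharacter_integral hφ x
  rw [hrat] at hint
  have hq : IsIntegral ℤ (((p * N0 - N1 : ℤ) : ℚ) / ((p : ℤ) - 1 : ℤ)) :=
    (isIntegral_algebraMap_iff (B := ℂ) (algebraMap ℚ ℂ).injective).1 (by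
      simpa using hint)
  obtain ⟨a, ha⟩ := IsIntegrallyClosed.algebraMap_eq_of_integral hq
  have hax : φ x = (a : ℂ) := by
    rw [hrat, ← ha]; simp
  refine ⟨a, hax, ?_⟩
  have : ((p : ℤ) - 1) * a = p * N0 - N1 := by
    have := key; rw [hax] at this; exact_mod_cast this
  rw [this]
  have : (0 : ℤ) ≤ p * N0 := by positivity
  omega

theorem frobenius_sum {R : Type*} [CommRing R] {p : ℕ} (hp : p.Prime) (e : ℕ) {ι : Type*}
    (s : Finset ι) (f : ι → R) : ∃ r, (∑ i ∈ s, f i) ^ p ^ e = (∑ i ∈ s, f i ^ p ^ e) + p * r := by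
  classical
  induction s using Finset.induction_on with
  | empty => exact ⟨0, by simp [zero_pow (pow_ne_zero e hp.ne_zero)]⟩
  | @insert a s ha ih =>
    obtain ⟨r, hr⟩ := ih
    obtain ⟨r', hr'⟩ := exists_add_pow_prime_pow_eq hp (f a) (∑ i ∈ s, f i) e
    rw [sum_insert ha, sum_insert ha, hr', hr]
    exact ⟨r + f a * (∑ i ∈ s, f i) * r', by ring⟩

/-- Values on `p`-elements are congruent to the degree. -/
theorem dvd_sub_degree [Finite G] {p : ℕ} [hp : Fact p.Prime] {φ : G → ℂ}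
    (hφ : Cfsg.IsCharacter G φ) {n : ℕ} (hn : φ 1 = n) (x : G) (hx : ∃ e, orderOf x = p ^ e)
    (a : ℤ) (ha : φ x = a) : (p : ℤ) ∣ a - n := by
  obtain ⟨e, he⟩ := hx
  obtain ⟨m, ρ, rfl⟩ := hφ
  obtain ⟨b, μ, -, hμ, -, hpow⟩ := exists_rep_eigenbasis ρ x
  have hint : ∀ i, IsIntegral ℤ (μ i) := fun i =>
    IsIntegral.of_pow (orderOf_pos x) (by rw [hμ]; exact isIntegral_one)
  let R := integralClosure ℤ ℂ
  let f : _ → R := fun i => ⟨μ i, hint i⟩
  obtain ⟨r, hr⟩ := frobenius_sum (R := R) hp.out e Finset.univ f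
  have h1 : ρ.character x = ∑ i, μ i := by simpa using hpow 1
  have h2 : (n : ℂ) = ∑ i, μ i ^ p ^ e := by
    rw [← hpow (p ^ e), ← he, pow_orderOf_eq_one, hn]
  have hC := congrArg (R.val : R → ℂ) hr
  simp only [map_pow, map_add, map_mul, map_natCast, map_sum] at hC
  have hf : ∀ i, R.val (f i) = μ i := fun i => rfl
  simp only [hf] at hC
  rw [← h1, ← h2, ha] at hC
  have hp0 : (p : ℂ) ≠ 0 := Nat.cast_ne_zero.2 hp.out.ne_zero
  have hq : IsIntegral ℤ (((a ^ p ^ e - n : ℤ) : ℚ) / p) :=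
    (isIntegral_algebraMap_iff (B := ℂ) (algebraMap ℚ ℂ).injective).1 (by
      have : ((R.val r : ℂ)) = ((a : ℂ) ^ p ^ e - n) / p := by
        rw [eq_div_iff hp0]; linear_combination -hC
      have h3 : IsIntegral ℤ (R.val r : ℂ) := r.2
      rw [this] at h3
      simpa using h3)
  obtain ⟨c, hc⟩ := IsIntegrallyClosed.algebraMap_eq_of_integral hq
  have h4 : (p : ℤ) ∣ a ^ p ^ e - n := by
    refine ⟨c, ?_⟩
    have hpq : (p : ℚ) ≠ 0 := Nat.cast_ne_zero.2 hp.out.ne_zero
    rw [eq_div_iff hpq] at hc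
    have : ((a ^ p ^ e - n : ℤ) : ℚ) = ((p * c : ℤ) : ℚ) := by
      rw [← hc]; simp; ring
    exact_mod_cast this
  rw [← ZMod.intCast_zmod_eq_zero_iff_dvd] at h4 ⊢
  push_cast at h4 ⊢
  rwa [ZMod.pow_card_pow] at h4

/-- An integer valued character is fixed by the Galois group. -/
theorem galois_of_int [Finite G] {p : ℕ} [hp : Fact p.Prime] (hG : IsPGroup p G) {φ : G → ℂ}
    (hφ : Cfsg.IsCharacter G φ) (x : G) (a : ℤ) (ha : φ x = a) (j : ℕ) (hj : ¬ p ∣ j) :
    φ (x ^ j) = φ x := by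
  obtain ⟨k, hk⟩ := IsPGroup.iff_card.1 hG
  obtain ⟨σ, hσ⟩ := GaloisChar80.exists_aut_char (G := G) (k := j) (by
    rw [hk]; exact Nat.Coprime.pow_right _ ((hp.out.coprime_iff_not_dvd.2 hj).symm))
  rw [← hσ φ hφ x, ha, map_intCast]

/-- **Schur's bound.** -/
theorem factorization_index_le [Finite G] {p : ℕ} [hp : Fact p.Prime] (hG : IsPGroup p G)
    {φ : G → ℂ} (hφ : Cfsg.IsCharacter G φ) {n : ℕ} (hn : φ 1 = n)
    (hint : ∀ x, ∃ a : ℤ, φ x = a) :
    (CharBasicLinear.charKer φ hφ).index.factorization p ≤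
      ∑ i ∈ range (n + 1), n / ((p - 1) * p ^ i) := by
  classical
  haveI := Fintype.ofFinite G
  set m := n / (p - 1) with hm
  set K := CharBasicLinear.charKer φ hφ
  -- products of values
  have moments : ∀ (S : Finset ℕ) (j : ℕ), ∃ N : ℤ,
      ∑ x : G, φ x ^ j * ∏ k ∈ S, (φ x - ((n : ℂ) - p * k)) = Nat.card G * N := by
    intro S
    induction S using Finset.induction_on with
    | empty =>
      intro j
      obtain ⟨N, hN⟩ := sum_char (CharBasicDecomp.isCharacter_pow hφ j)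
      exact ⟨N, by simpa using hN⟩
    | @insert k S hk ih =>
      intro j
      obtain ⟨A, hA⟩ := ih (j + 1)
      obtain ⟨B, hB⟩ := ih j
      refine ⟨A - ((n : ℤ) - p * k) * B, ?_⟩
      push_cast
      rw [mul_sub, ← hA, mul_left_comm, ← hB, Finset.mul_sum, ← sum_sub_distrib]
      refine sum_congr rfl fun x _ => ?_
      rw [prod_insert hk]
      ring
  set c : ℕ := ∏ k ∈ Icc 1 m, (p * k) with hc
  obtain ⟨N, hN⟩ := moments (Icc 1 m) 0
  have hf : ∀ x : G, φ x ^ 0 * ∏ k ∈ Icc 1 m, (φ x - ((n : ℂ) - p * k)) =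
      if x ∈ K then (c : ℂ) else 0 := by
    intro x
    rw [pow_zero, one_mul]
    split_ifs with hx
    · have : φ x = n := (show φ x = φ 1 from hx).trans hn
      rw [hc, Nat.cast_prod]
      refine prod_congr rfl fun k _ => ?_
      rw [this]; push_cast; ring
    · obtain ⟨a, ha⟩ := hint x
      obtain ⟨e, he⟩ := IsPGroup.iff_orderOf.1 hG x
      obtain ⟨a', ha', hlow⟩ := exists_int_of_galois hφ hn x ⟨e, he⟩
        (fun j hj => galois_of_int hG hφ x a ha j hj)
      have haa : a' = a := by exact_mod_cast ha'.symm.trans ha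
      subst haa
      obtain ⟨k, hk⟩ := dvd_sub_degree hφ hn x ⟨e, he⟩ a' ha
      have hne : a' ≠ n := fun h => hx (by
        show φ x = φ 1
        rw [ha, h, hn]; simp)
      have hup : a' ≤ n := by
        have h := isCharacter_norm_le hφ x
        rw [ha, hn, Complex.norm_intCast, Complex.natCast_re] at h
        exact_mod_cast (le_abs_self _).trans h
      have hp1 : 1 ≤ p := hp.out.one_le
      have hk0 : k < 0 := by
        by_contra hk0
        have : (0 : ℤ) ≤ p * k := mul_nonneg (by positivity) (by omega)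
        omega
      obtain ⟨l, hl⟩ : ∃ l : ℕ, k = -(l : ℤ) := ⟨(-k).toNat, by omega⟩
      subst hl
      have hlm : l ≤ m := by
        rw [hm, Nat.le_div_iff_mul_le (by have := hp.out.two_le; omega)]
        have h1 : (l : ℤ) * ((p : ℤ) - 1) ≤ n := by
          have h2 : (p : ℤ) * ((l : ℤ) * ((p : ℤ) - 1)) ≤ p * n := by nlinarith
          exact le_of_mul_le_mul_left h2 (by exact_mod_cast hp.out.pos)
        zify [hp1]; exact h1
      refine prod_eq_zero (i := l) (mem_Icc.2 ⟨by omega, hlm⟩) ?_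
      rw [ha, show a' = (n : ℤ) - p * l by linarith]
      push_cast; ring
  rw [sum_congr rfl (fun x _ => hf x), ← sum_filter, sum_const, nsmul_eq_mul] at hN
  have hK : (univ.filter (fun x : G => x ∈ K)).card = Nat.card K := by
    rw [← Fintype.card_subtype, ← Nat.card_eq_fintype_card]
  rw [hK] at hN
  have hdvd : K.index ∣ c := by
    have h' : (Nat.card K : ℤ) * c = Nat.card K * (K.index * N) := by
      have : (Nat.card K : ℤ) * c = Nat.card G * N := by exact_mod_cast hN
      rw [this, ← Subgroup.card_mul_index K]; push_cast; ring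
    have := mul_left_cancel₀ (by exact_mod_cast Nat.card_pos.ne') h'
    exact Int.natCast_dvd_natCast.1 ⟨N, this⟩
  have hc' : c = p ^ m * m.factorial := by
    rw [hc, prod_mul_distrib, prod_const, Nat.card_Icc, Nat.add_sub_cancel,
      show Icc 1 m = Ico 1 (m + 1) by ext k; simp,
      prod_Ico_id_eq_factorial]
  have hc0 : c ≠ 0 := by
    rw [hc']; exact mul_ne_zero (pow_ne_zero _ hp.out.ne_zero) m.factorial_ne_zero
  refine ((Nat.factorization_le_iff_dvd Subgroup.index_ne_zero_of_finite hc0).2 hdvd p).trans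
    (le_of_eq ?_)
  rw [hc', Nat.factorization_mul (pow_ne_zero _ hp.out.ne_zero) m.factorial_ne_zero,
    Finsupp.add_apply, hp.out.factorization_pow, Finsupp.single_eq_same]
  have hlog : Nat.log p m < n + 1 :=
    lt_of_le_of_lt ((Nat.log_le_self p m).trans (Nat.div_le_self _ _)) (Nat.lt_succ_self n)
  rw [Nat.factorization_factorial hp.out hlog, Finset.range_eq_Ico,
    Finset.sum_eq_sum_Ico_succ_bot (Nat.succ_pos n), pow_zero, mul_one]
  simp only [← Nat.div_div_eq_div_mul, zero_add]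
  rw [← hm]

end Cfsg.Agent.DixonSchurBound
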