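import Mathlib
import Cfsg.Prelude.Def_Sporadic_a

/-!
Steiner systems S(5, 6, 12) on a finset: block counts, intersection triangle, quartets.
-/

set_option autoImplicit false

namespace Cfsg.Agent.SteinerSmall

variable {α : Type*} [DecidableEq α] {X : Finset α} {B : Finset (Finset α)}

/-- `B` is a Steiner system S(5, 6, 12) on the points `X`. -/
structure IsS56 (X : Finset α) (B : Finset (Finset α)) : Prop where
  card_X : X.card = 12
  subset : ∀ b ∈ B, b ⊆ X
  card : ∀ b ∈ B, b.card = 6
  unique : ∀ s ⊆ X, s.card = 5 → ∃! b, b ∈ B ∧ s ⊆ b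

theorem IsS56.eq_of_five (h : IsS56 X B) {b c s : Finset α} (hb : b ∈ B) (hc : c ∈ B)
    (hs : 5 ≤ s.card) (hsb : s ⊆ b) (hsc : s ⊆ c) : b = c := by
  obtain ⟨t, hts, ht⟩ := Finset.exists_subset_card_eq hs
  exact (h.unique t (hts.trans (hsb.trans (h.subset b hb))) ht).unique
    ⟨hb, hts.trans hsb⟩ ⟨hc, hts.trans hsc⟩

theorem IsS56.count_mul (h : IsS56 X B) {s : Finset α} (hs : s ⊆ X) (hj : s.card ≤ 5) :
    (B.filter (s ⊆ ·)).card * (6 - s.card).choose (5 - s.card)
      = (12 - s.card).choose (5 - s.card) := by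
  have hT : ((X \ s).powersetCard (5 - s.card)).card = (12 - s.card).choose (5 - s.card) := by
    rw [Finset.card_powersetCard, Finset.card_sdiff_of_subset hs, h.card_X]
  have hU : (X \ s).powersetCard (5 - s.card)
      = (B.filter (s ⊆ ·)).biUnion fun b => (b \ s).powersetCard (5 - s.card) := by
    ext w
    simp only [Finset.mem_powersetCard, Finset.mem_biUnion, Finset.mem_filter]
    constructor
    · rintro ⟨hw, hwc⟩
      have hd : Disjoint s w := Finset.disjoint_of_subset_right hw Finset.disjoint_sdiff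
      obtain ⟨b, ⟨hb, hsub⟩, -⟩ := h.unique (s ∪ w)
        (Finset.union_subset hs (hw.trans Finset.sdiff_subset))
        (by rw [Finset.card_union_of_disjoint hd, hwc]; omega)
      refine ⟨b, ⟨hb, Finset.union_subset_left hsub⟩, ?_, hwc⟩
      exact Finset.subset_sdiff.mpr ⟨Finset.union_subset_right hsub, hd.symm⟩
    · rintro ⟨b, ⟨hb, hsb⟩, hw, hwc⟩
      exact ⟨hw.trans (Finset.sdiff_subset_sdiff (h.subset b hb) le_rfl), hwc⟩
  rw [← hT, hU, Finset.card_biUnion]
  · rw [Finset.sum_congr rfl (fun b hb => ?_), Finset.sum_const, smul_eq_mul]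
    obtain ⟨hbB, hsb⟩ := Finset.mem_filter.mp hb
    rw [Finset.card_powersetCard, Finset.card_sdiff_of_subset hsb, h.card b hbB]
  · intro b hb c hc hbc
    rw [Function.onFun, Finset.disjoint_left]
    intro w hwb hwc
    obtain ⟨hb', hsb⟩ := Finset.mem_filter.mp hb
    obtain ⟨hc', hsc⟩ := Finset.mem_filter.mp hc
    rw [Finset.mem_powersetCard] at hwb hwc
    refine hbc (h.eq_of_five (s := s ∪ w) hb' hc' ?_
      (Finset.union_subset hsb (hwb.1.trans Finset.sdiff_subset))
      (Finset.union_subset hsc (hwc.1.trans Finset.sdiff_subset)))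
    rw [Finset.card_union_of_disjoint
      (Finset.disjoint_of_subset_right hwb.1 Finset.disjoint_sdiff), hwb.2]
    omega

/-- Number of blocks through a set of given size. -/
def lam : ℕ → ℕ
  | 0 => 132
  | 1 => 66
  | 2 => 30
  | 3 => 12
  | 4 => 4
  | _ => 1

theorem IsS56.count (h : IsS56 X B) {s : Finset α} (hs : s ⊆ X) (hj : s.card ≤ 5) :
    (B.filter (s ⊆ ·)).card = lam s.card := by
  have h1 := h.count_mul hs hj
  generalize (B.filter (s ⊆ ·)).card = n at h1 ⊢
  generalize s.card = j at h1 hj ⊢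
  interval_cases j <;> simp [lam, Nat.choose_eq_factorial_div_factorial, Nat.factorial] at h1 ⊢ <;>
    omega

theorem IsS56.card_blocks (h : IsS56 X B) : B.card = 132 := by
  have h1 := h.count (Finset.empty_subset X) (by simp)
  simpa [lam] using h1

/-- The blocks other than `b` meeting `b` exactly in `s`. -/
def exact (B : Finset (Finset α)) (b s : Finset α) : Finset (Finset α) :=
  (B.erase b).filter fun c => b ∩ c = s

/-- Number of blocks meeting a given block exactly in a given subset of given size. -/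
def tri : ℕ → ℕ
  | 0 => 1
  | 2 => 3
  | 3 => 2
  | 4 => 3
  | _ => 0

theorem IsS56.exact_eq_zero (h : IsS56 X B) {b s : Finset α} (hb : b ∈ B) (hs : 5 ≤ s.card) :
    (exact B b s).card = 0 := by
  rw [Finset.card_eq_zero, exact, Finset.filter_eq_empty_iff]
  intro c hc hcs
  rw [Finset.mem_erase] at hc
  exact hc.1 (h.eq_of_five hb hc.2 hs (hcs ▸ Finset.inter_subset_left)
    (hcs ▸ Finset.inter_subset_right)).symm

theorem IsS56.exact_step (h : IsS56 X B) {b s : Finset α} (hb : b ∈ B) (hsb : s ⊆ b)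
    (hj : s.card ≤ 5) (f : ℕ → ℕ)
    (hf : ∀ t : Finset α, s ⊆ t → t ⊆ b → s.card < t.card → (exact B b t).card = f t.card) :
    lam s.card - 1 = (exact B b s).card
      + ∑ k ∈ Finset.range (6 - s.card), (6 - s.card).choose (k + 1) * f (s.card + (k + 1)) := by
  have hs : s ⊆ X := hsb.trans (h.subset b hb)
  have h1 : ((B.erase b).filter (s ⊆ ·)).card = lam s.card - 1 := by
    rw [Finset.filter_erase, Finset.card_erase_of_mem (Finset.mem_filter.mpr ⟨hb, hsb⟩),
      h.count hs hj]
  have h2 : ((B.erase b).filter (s ⊆ ·)).card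
      = ∑ w ∈ (b \ s).powerset, (exact B b (s ∪ w)).card := by
    rw [Finset.card_eq_sum_card_fiberwise (f := fun c => (b ∩ c) \ s) (t := (b \ s).powerset)]
    · refine Finset.sum_congr rfl fun w hw => congrArg Finset.card ?_
      rw [Finset.mem_powerset] at hw
      have hd : Disjoint w s := Finset.disjoint_of_subset_left hw Finset.sdiff_disjoint
      ext c
      simp only [exact, Finset.mem_filter]
      constructor
      · rintro ⟨⟨hc, hsc⟩, rfl⟩
        exact ⟨hc, (Finset.union_sdiff_of_subset (Finset.subset_inter hsb hsc)).symm⟩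
      · rintro ⟨hc, hcw⟩
        refine ⟨⟨hc, (Finset.subset_union_left (s₂ := w)).trans (hcw ▸ Finset.inter_subset_right)⟩, ?_⟩
        rw [hcw, Finset.union_sdiff_cancel_left hd.symm]
    · intro c hc
      simp only [Finset.coe_powerset, Set.mem_preimage, Set.mem_powerset_iff, Finset.coe_subset]
      exact Finset.sdiff_subset_sdiff Finset.inter_subset_left le_rfl
  let g : ℕ → ℕ := fun k => if k = 0 then (exact B b s).card else f (s.card + k)
  have h3 : ∀ w ∈ (b \ s).powerset, (exact B b (s ∪ w)).card = g w.card := by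
    intro w hw
    rw [Finset.mem_powerset] at hw
    rcases Finset.eq_empty_or_nonempty w with rfl | hne
    · simp [g]
    · have hd : Disjoint s w := Finset.disjoint_of_subset_right hw Finset.disjoint_sdiff
      have hpos := hne.card_pos
      have hc : (s ∪ w).card = s.card + w.card := Finset.card_union_of_disjoint hd
      simp only [g, if_neg hpos.ne']
      rw [hf _ Finset.subset_union_left
        (Finset.union_subset hsb (hw.trans Finset.sdiff_subset)) (by omega), hc]
  rw [Finset.sum_congr rfl h3, Finset.sum_powerset_apply_card, Finset.card_sdiff_of_subset hsb,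
    h.card b hb, Finset.sum_range_succ'] at h2
  rw [← h1, h2]
  simp [g, add_comm]

theorem IsS56.exact_four (h : IsS56 X B) {b s : Finset α} (hb : b ∈ B) (hsb : s ⊆ b)
    (hs : 4 ≤ s.card) (hs5 : s.card ≤ 4) : (exact B b s).card = 3 := by
  have hj : s.card = 4 := le_antisymm hs5 hs
  have h1 := h.exact_step hb hsb (by omega) (fun _ => 0)
    (fun t _ _ ht => h.exact_eq_zero hb (by omega))
  simp [hj, lam] at h1
  omega

theorem IsS56.exact_card (h : IsS56 X B) {b : Finset α} (hb : b ∈ B) :
    ∀ s : Finset α, s ⊆ b → (exact B b s).card = tri s.card := by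
  have e5 : ∀ s, s ⊆ b → 5 ≤ s.card → (exact B b s).card = tri s.card := by
    intro s hsb hs
    have h6 : s.card ≤ 6 := h.card b hb ▸ Finset.card_le_card hsb
    rw [h.exact_eq_zero hb hs]
    interval_cases s.card <;> rfl
  have down : ∀ j, j ≤ 4 → (∀ s, s ⊆ b → j < s.card → (exact B b s).card = tri s.card) →
      ∀ s, s ⊆ b → j ≤ s.card → (exact B b s).card = tri s.card := by
    intro j hj4 ih s hsb hs
    rcases lt_or_eq_of_le hs with hlt | heq
    · exact ih s hsb hlt
    · have h1 := h.exact_step hb hsb (by omega) tri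
        (fun t _ htb ht => ih t htb (by omega))
      subst heq
      interval_cases hjc : s.card <;>
        simp [Finset.sum_range_succ, lam, tri, Nat.choose] at h1 ⊢ <;> omega
  intro s hsb
  exact down 0 (by omega) (down 1 (by omega) (down 2 (by omega) (down 3 (by omega)
    (down 4 le_rfl (fun s hsb hs => e5 s hsb (by omega)))))) s hsb (Nat.zero_le _)

theorem IsS56.inter_card (h : IsS56 X B) {b c : Finset α} (hb : b ∈ B) (hc : c ∈ B) (hne : c ≠ b) :
    (b ∩ c).card = 0 ∨ (b ∩ c).card = 2 ∨ (b ∩ c).card = 3 ∨ (b ∩ c).card = 4 := by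
  have hpos : 0 < (exact B b (b ∩ c)).card :=
    Finset.card_pos.mpr ⟨c, Finset.mem_filter.mpr ⟨Finset.mem_erase.mpr ⟨hne, hc⟩, rfl⟩⟩
  rw [h.exact_card hb _ Finset.inter_subset_left] at hpos
  generalize (b ∩ c).card = n at hpos ⊢
  rcases n with _ | _ | _ | _ | _ | n <;> simp [tri] at hpos ⊢

theorem IsS56.compl_mem (h : IsS56 X B) {b : Finset α} (hb : b ∈ B) : X \ b ∈ B := by
  have h1 := h.exact_card hb ∅ (Finset.empty_subset b)
  simp only [tri, Finset.card_empty] at h1
  obtain ⟨c, hc⟩ := Finset.card_pos.mp (h1 ▸ Nat.one_pos)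
  simp only [exact, Finset.mem_filter, Finset.mem_erase] at hc
  obtain ⟨⟨-, hcB⟩, hbc⟩ := hc
  have hsub : c ⊆ X \ b := Finset.subset_sdiff.mpr
    ⟨h.subset c hcB, (Finset.disjoint_iff_inter_eq_empty.mpr hbc).symm⟩
  rw [← Finset.eq_of_subset_of_card_le hsub
    (by rw [Finset.card_sdiff_of_subset (h.subset b hb), h.card_X, h.card b hb, h.card c hcB])]
  exact hcB

/-- The blocks through a triple of a block meeting it only in that triple have disjoint second
halves. -/
theorem IsS56.rest_disjoint (h : IsS56 X B) {b t c₁ c₂ : Finset α} (hb : b ∈ B) (htb : t ⊆ b)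
    (ht : t.card = 3) (h1 : c₁ ∈ exact B b t) (h2 : c₂ ∈ exact B b t) (hne : c₁ ≠ c₂) :
    Disjoint (c₁ \ t) (c₂ \ t) := by
  rw [Finset.disjoint_left]
  intro p hp1 hp2
  simp only [exact, Finset.mem_filter, Finset.mem_erase] at h1 h2
  obtain ⟨⟨-, h1B⟩, h1i⟩ := h1
  obtain ⟨⟨-, h2B⟩, h2i⟩ := h2
  rw [Finset.mem_sdiff] at hp1 hp2
  have hpb : p ∉ b := fun hpb => hp1.2 (h1i ▸ Finset.mem_inter.mpr ⟨hpb, hp1.1⟩)
  have htc1 : t ⊆ c₁ := h1i ▸ Finset.inter_subset_right
  have htc2 : t ⊆ c₂ := h2i ▸ Finset.inter_subset_right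
  have htpX : insert p t ⊆ X :=
    Finset.insert_subset (h.subset _ h1B hp1.1) (htb.trans (h.subset b hb))
  have htp : (insert p t).card = 4 := by rw [Finset.card_insert_of_notMem hp1.2, ht]
  have hfive : ∀ q ∈ b \ t, ∃ c ∈ B, insert q (insert p t) ⊆ c := by
    intro q hq
    rw [Finset.mem_sdiff] at hq
    obtain ⟨c, hc, -⟩ := h.unique (insert q (insert p t))
      (Finset.insert_subset (h.subset b hb hq.1) htpX)
      (by rw [Finset.card_insert_of_notMem (by
        rw [Finset.mem_insert, not_or]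
        exact ⟨fun h => hpb (h ▸ hq.1), hq.2⟩), htp])
    exact ⟨c, hc⟩
  choose β hβB hβ using hfive
  have hinj : Function.Injective fun q : ↥(b \ t) => β q.1 q.2 := by
    rintro ⟨q, hq⟩ ⟨r, hr⟩ hqr
    simp only at hqr
    by_contra hqr'
    have hqr'' : q ≠ r := fun e => hqr' (Subtype.ext e)
    rw [Finset.mem_sdiff] at hq hr
    have hsub : insert q (insert r t) ⊆ β q (Finset.mem_sdiff.mpr hq) := by
      refine Finset.insert_subset (hβ _ _ (Finset.mem_insert_self ..)) (Finset.insert_subset ?_ ?_)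
      · rw [hqr]; exact hβ _ _ (Finset.mem_insert_self ..)
      · exact fun x hx => hβ _ _ (Finset.mem_insert_of_mem (Finset.mem_insert_of_mem hx))
    have heq := h.eq_of_five (hβB q (Finset.mem_sdiff.mpr hq)) hb
      (s := insert q (insert r t)) (by
        rw [Finset.card_insert_of_notMem (by simp [hqr'', hq.2]),
          Finset.card_insert_of_notMem hr.2, ht]) hsub
      (Finset.insert_subset hq.1 (Finset.insert_subset hr.1 htb))
    exact hpb (heq ▸ hβ _ _ (Finset.mem_insert_of_mem (Finset.mem_insert_self ..)))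
  have hsub : Finset.univ.image (fun q : ↥(b \ t) => β q.1 q.2) ∪ {c₁, c₂}
      ⊆ B.filter (insert p t ⊆ ·) := by
    intro c hc
    rw [Finset.mem_filter]
    simp only [Finset.mem_union, Finset.mem_image, Finset.mem_univ, true_and, Finset.mem_insert,
      Finset.mem_singleton] at hc
    rcases hc with ⟨q, rfl⟩ | rfl | rfl
    · exact ⟨hβB _ _, (Finset.subset_insert _ _).trans (hβ _ _)⟩
    · exact ⟨h1B, Finset.insert_subset hp1.1 htc1⟩
    · exact ⟨h2B, Finset.insert_subset hp2.1 htc2⟩
  have hcard := Finset.card_le_card hsub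
  rw [h.count htpX (by omega), htp, Finset.card_union_of_disjoint, Finset.card_pair hne,
    Finset.card_image_of_injective _ hinj, Finset.card_univ, Fintype.card_coe,
    Finset.card_sdiff_of_subset htb, ht, h.card b hb] at hcard
  · simp [lam] at hcard
  · rw [Finset.disjoint_left]
    intro c hc hc'
    simp only [Finset.mem_image, Finset.mem_univ, true_and] at hc
    obtain ⟨⟨q, hq⟩, rfl⟩ := hc
    have hq' := Finset.mem_sdiff.mp hq
    have hqc := hβ q hq (Finset.mem_insert_self ..)
    simp only [Finset.mem_insert, Finset.mem_singleton] at hc'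
    rcases hc' with hc' | hc' <;> rw [hc'] at hqc
    · exact hq'.2 (h1i ▸ Finset.mem_inter.mpr ⟨hq'.1, hqc⟩)
    · exact hq'.2 (h2i ▸ Finset.mem_inter.mpr ⟨hq'.1, hqc⟩)

/-- Quartets: four triples of points such that any two unite to a block. -/
def Quartets (X : Finset α) (B : Finset (Finset α)) : Set (Finset (Finset α)) :=
  {Q | Q.card = 4 ∧ (∀ t ∈ Q, t.card = 3 ∧ t ⊆ X) ∧ ∀ t ∈ Q, ∀ u ∈ Q, t ≠ u → t ∪ u ∈ B}

theorem IsS56.disjoint_of_union_mem (h : IsS56 X B) {t u : Finset α} (ht : t.card = 3)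
    (hu : u.card = 3) (hh : t ∪ u ∈ B) : Disjoint t u := by
  rw [← Finset.card_union_eq_card_add_card, h.card _ hh, ht, hu]

theorem IsS56.existsUnique_quartet (h : IsS56 X B) {t u : Finset α} (ht : t.card = 3)
    (hu : u.card = 3) (hh : t ∪ u ∈ B) : ∃! Q, Q ∈ Quartets X B ∧ t ∈ Q ∧ u ∈ Q := by
  have htu := h.disjoint_of_union_mem ht hu hh
  have hX : t ∪ u ⊆ X := h.subset _ hh
  have htX : t ⊆ X := Finset.union_subset_left hX
  have huX : u ⊆ X := Finset.union_subset_right hX
  have htsub : t ⊆ t ∪ u := Finset.subset_union_left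
  obtain ⟨c₁, c₂, hne, hpair⟩ := Finset.card_eq_two.mp
    (show (exact B (t ∪ u) t).card = 2 by rw [h.exact_card hh t htsub, ht]; rfl)
  have m1 : c₁ ∈ exact B (t ∪ u) t := by rw [hpair]; simp
  have m2 : c₂ ∈ exact B (t ∪ u) t := by rw [hpair]; simp
  have facts : ∀ c ∈ exact B (t ∪ u) t, c ∈ B ∧ t ⊆ c ∧ (c \ t).card = 3 ∧
      c \ t ⊆ X \ (t ∪ u) := by
    intro c hc
    simp only [exact, Finset.mem_filter, Finset.mem_erase] at hc
    obtain ⟨⟨-, hcB⟩, hci⟩ := hc
    have htc : t ⊆ c := hci ▸ Finset.inter_subset_right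
    refine ⟨hcB, htc, by rw [Finset.card_sdiff_of_subset htc, h.card c hcB, ht], fun x hx => ?_⟩
    rw [Finset.mem_sdiff] at hx
    refine Finset.mem_sdiff.mpr ⟨h.subset c hcB hx.1, fun hxh => hx.2 ?_⟩
    rw [← hci]
    exact Finset.mem_inter.mpr ⟨hxh, hx.1⟩
  obtain ⟨h1B, h1t, h1c, h1X⟩ := facts c₁ m1
  obtain ⟨h2B, h2t, h2c, h2X⟩ := facts c₂ m2
  have hd := h.rest_disjoint hh htsub ht m1 m2 hne
  have hu1 : Disjoint u (c₁ \ t) :=
    Finset.disjoint_of_subset_left Finset.subset_union_right
      (Finset.disjoint_of_subset_right h1X Finset.disjoint_sdiff)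
  have hu2 : Disjoint u (c₂ \ t) :=
    Finset.disjoint_of_subset_left Finset.subset_union_right
      (Finset.disjoint_of_subset_right h2X Finset.disjoint_sdiff)
  have hcover : (c₁ \ t) ∪ (c₂ \ t) = X \ (t ∪ u) := by
    refine Finset.eq_of_subset_of_card_le (Finset.union_subset h1X h2X) ?_
    rw [Finset.card_union_of_disjoint hd, h1c, h2c, Finset.card_sdiff_of_subset hX, h.card_X,
      h.card _ hh]
  have hcompl : ∀ w w' : Finset α, (c₁ \ t = w ∧ c₂ \ t = w') ∨ (c₂ \ t = w ∧ c₁ \ t = w') →
      t ∪ w' ∈ B → u ∪ w ∈ B := by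
    intro w w' hw hw'
    have hunion : w ∪ w' = X \ (t ∪ u) := by
      rcases hw with ⟨rfl, rfl⟩ | ⟨rfl, rfl⟩
      · exact hcover
      · rw [Finset.union_comm]; exact hcover
    have hwd : Disjoint w w' := by
      rcases hw with ⟨rfl, rfl⟩ | ⟨rfl, rfl⟩
      · exact hd
      · exact hd.symm
    have : X \ (t ∪ w') = u ∪ w := by
      ext x
      have e := Finset.ext_iff.mp hunion x
      have hxu : x ∈ u → x ∈ X := fun hx => huX hx
      have htu' : x ∈ t → x ∉ u := fun hx hx' => Finset.disjoint_left.mp htu hx hx'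
      have hwd' : x ∈ w → x ∉ w' := fun hx hx' => Finset.disjoint_left.mp hwd hx hx'
      simp only [Finset.mem_union, Finset.mem_sdiff] at e ⊢
      tauto
    rw [← this]
    exact h.compl_mem hw'
  have e1 : t ∪ c₁ \ t = c₁ := Finset.union_sdiff_of_subset h1t
  have e2 : t ∪ c₂ \ t = c₂ := Finset.union_sdiff_of_subset h2t
  have b1 : u ∪ c₁ \ t ∈ B := hcompl _ _ (Or.inl ⟨rfl, rfl⟩) (e2.symm ▸ h2B)
  have b2 : u ∪ c₂ \ t ∈ B := hcompl _ _ (Or.inr ⟨rfl, rfl⟩) (e1.symm ▸ h1B)
  have b3 : (c₁ \ t) ∪ (c₂ \ t) ∈ B := hcover ▸ h.compl_mem hh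
  have ne_of : ∀ {a a' : Finset α}, Disjoint a a' → a.card = 3 → a ≠ a' := by
    intro a a' hd ha he
    subst he
    rw [disjoint_self] at hd
    subst hd
    simp at ha
  have ht1 : Disjoint t (c₁ \ t) := Finset.disjoint_sdiff
  have ht2 : Disjoint t (c₂ \ t) := Finset.disjoint_sdiff
  refine ⟨{t, u, c₁ \ t, c₂ \ t}, ⟨⟨?_, ?_, ?_⟩, by simp, by simp⟩, ?_⟩
  · rw [Finset.card_insert_of_notMem (by simp [ne_of htu ht, ne_of ht1 ht, ne_of ht2 ht]),
      Finset.card_insert_of_notMem (by simp [ne_of hu1 hu, ne_of hu2 hu]),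
      Finset.card_pair (ne_of hd h1c)]
  · intro w hw
    simp only [Finset.mem_insert, Finset.mem_singleton] at hw
    rcases hw with rfl | rfl | rfl | rfl
    exacts [⟨ht, htX⟩, ⟨hu, huX⟩, ⟨h1c, h1X.trans Finset.sdiff_subset⟩,
      ⟨h2c, h2X.trans Finset.sdiff_subset⟩]
  · intro a ha a' ha' hne'
    simp only [Finset.mem_insert, Finset.mem_singleton] at ha ha'
    rcases ha with rfl | rfl | rfl | rfl <;> rcases ha' with rfl | rfl | rfl | rfl <;>
      first
        | exact absurd rfl hne'
        | exact hh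
        | exact b1
        | exact b2
        | exact b3
        | (rw [e1]; exact h1B)
        | (rw [e2]; exact h2B)
        | (rw [Finset.union_comm]; first
            | exact hh
            | exact b1
            | exact b2
            | exact b3
            | (rw [e1]; exact h1B)
            | (rw [e2]; exact h2B))
  · rintro Q ⟨⟨hQ4, hQ3, hQ⟩, htQ, huQ⟩
    refine Finset.eq_of_subset_of_card_le ?_ (le_of_le_of_eq ?_ hQ4.symm)
    · intro w hw
      simp only [Finset.mem_insert, Finset.mem_singleton]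
      by_cases hwt : w = t
      · exact Or.inl hwt
      by_cases hwu : w = u
      · exact Or.inr (Or.inl hwu)
      have htw := hQ t htQ w hw (Ne.symm hwt)
      have dtw := h.disjoint_of_union_mem ht (hQ3 w hw).1 htw
      have duw := h.disjoint_of_union_mem hu (hQ3 w hw).1 (hQ u huQ w hw (Ne.symm hwu))
      have hmem : t ∪ w ∈ exact B (t ∪ u) t := by
        simp only [exact, Finset.mem_filter, Finset.mem_erase]
        refine ⟨⟨?_, htw⟩, ?_⟩
        · intro he
          have h1 : w ⊆ t ∪ u := he ▸ Finset.subset_union_right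
          have h2 : Disjoint w (t ∪ u) := Finset.disjoint_union_right.mpr ⟨dtw.symm, duw.symm⟩
          have h3 := (hQ3 w hw).1
          rw [Finset.disjoint_iff_inter_eq_empty, Finset.inter_eq_left.mpr h1] at h2
          simp [h2] at h3
        · rw [← Finset.union_inter_distrib_left, Finset.disjoint_iff_inter_eq_empty.mp duw,
            Finset.union_empty]
      rw [hpair] at hmem
      simp only [Finset.mem_insert, Finset.mem_singleton] at hmem
      have hw' : w = (t ∪ w) \ t := (Finset.union_sdiff_cancel_left dtw).symm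
      rcases hmem with hm | hm
      · exact Or.inr (Or.inr (Or.inl (by rw [hw', hm])))
      · exact Or.inr (Or.inr (Or.inr (by rw [hw', hm])))
    · refine (Finset.card_insert_le _ _).trans (Nat.add_le_add_right
        ((Finset.card_insert_le _ _).trans (Nat.add_le_add_right Finset.card_le_two 1)) 1)

theorem IsS56.ncard_quartets (h : IsS56 X B) : (Quartets X B).ncard = 220 := by
  classical
  have hfin : (Quartets X B).Finite := by
    refine Set.Finite.subset (X.powerset.powerset).finite_toSet ?_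
    rintro Q ⟨-, hQ, -⟩
    simp only [Finset.mem_coe, Finset.mem_powerset]
    exact fun t ht => Finset.mem_powerset.mpr (hQ t ht).2
  set qs := hfin.toFinset with hqs
  set P := B.biUnion fun b => (b.powersetCard 3).image fun t => (t, b \ t) with hP
  have hPmem : ∀ p : Finset α × Finset α,
      p ∈ P ↔ p.1.card = 3 ∧ p.2.card = 3 ∧ p.1 ∪ p.2 ∈ B := by
    rintro ⟨t, u⟩
    simp only [hP, Finset.mem_biUnion, Finset.mem_image, Finset.mem_powersetCard, Prod.mk.injEq]
    constructor
    · rintro ⟨b, hb, a, ⟨hab, ha⟩, rfl, rfl⟩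
      exact ⟨ha, by rw [Finset.card_sdiff_of_subset hab, h.card b hb, ha],
        (Finset.union_sdiff_of_subset hab).symm ▸ hb⟩
    · rintro ⟨ht, hu, hh⟩
      exact ⟨_, hh, t, ⟨Finset.subset_union_left, ht⟩, rfl,
        Finset.union_sdiff_cancel_left (h.disjoint_of_union_mem ht hu hh)⟩
  have hPcard : P.card = 2640 := by
    rw [hP, Finset.card_biUnion]
    · rw [Finset.sum_const_nat (m := 20) (fun b hb => ?_), h.card_blocks]
      rw [Finset.card_image_of_injective _ (fun a a' haa => (Prod.ext_iff.mp haa).1),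
        Finset.card_powersetCard, h.card b hb]
      rfl
    · intro b hb c hc hbc
      rw [Function.onFun, Finset.disjoint_left]
      intro p hp hp'
      simp only [Finset.mem_image, Finset.mem_powersetCard] at hp hp'
      obtain ⟨a, ⟨hab, -⟩, rfl⟩ := hp
      obtain ⟨a', ⟨hac, -⟩, he⟩ := hp'
      rw [Prod.mk.injEq] at he
      obtain ⟨rfl, he⟩ := he
      exact hbc (by rw [← Finset.union_sdiff_of_subset hab, ← Finset.union_sdiff_of_subset hac, he])
  have hP2 : P = qs.biUnion Finset.offDiag := by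
    ext p
    rw [hPmem]
    simp only [hqs, Finset.mem_biUnion, Set.Finite.mem_toFinset, Finset.mem_offDiag]
    constructor
    · rintro ⟨ht, hu, hh⟩
      obtain ⟨Q, ⟨hQ, htQ, huQ⟩, -⟩ := h.existsUnique_quartet ht hu hh
      refine ⟨Q, hQ, htQ, huQ, fun he => ?_⟩
      have h6 := h.card _ hh
      rw [← he, Finset.union_idempotent, ht] at h6
      omega
    · rintro ⟨Q, ⟨-, h3, hu⟩, h1, h2, hne⟩
      exact ⟨(h3 _ h1).1, (h3 _ h2).1, hu _ h1 _ h2 hne⟩
  have hcount : P.card = qs.card * 12 := by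
    rw [hP2, Finset.card_biUnion]
    · rw [Finset.sum_const_nat (m := 12) (fun Q hQ => ?_)]
      rw [Finset.offDiag_card, (hfin.mem_toFinset.mp hQ).1]
    · intro Q hQ Q' hQ' hne
      rw [Function.onFun, Finset.disjoint_left]
      intro p hp hp'
      simp only [Finset.mem_offDiag] at hp hp'
      obtain ⟨-, h3, hu⟩ := hfin.mem_toFinset.mp hQ
      exact hne ((h.existsUnique_quartet (h3 _ hp.1).1 (h3 _ hp.2.1).1
        (hu _ hp.1 _ hp.2.1 hp.2.2)).unique
          ⟨hfin.mem_toFinset.mp hQ, hp.1, hp.2.1⟩ ⟨hfin.mem_toFinset.mp hQ', hp'.1, hp'.2.1⟩)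
  rw [Set.ncard_eq_toFinset_card _ hfin, ← hqs]
  omega

end Cfsg.Agent.SteinerSmall
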