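import Mathlib

/-!
# Automorphisms of small prime order of small p-groups
-/

set_option autoImplicit false

namespace Cfsg.Agent.DoubleCover90Aut

/-- An automorphism of prime order `r` of a group of order `p ^ e` is trivial or fixed-point free,
if no smaller power of `p` is congruent to 1 modulo `r`. -/
theorem fixed_dichotomy {P : Type*} [Group P] [Finite P] {p r e : ℕ} (hp : p.Prime) (hr : r.Prime)
    (hpr : p ≠ r) (hP : Nat.card P = p ^ e) (f : MulAut P) (hf : f ^ r = 1)
    (hi : ∀ i, 1 ≤ i → i < e → p ^ i % r ≠ 1) :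
    f = 1 ∨ ((∀ x, f x = x → x = 1) ∧ p ^ e % r = 1) := by
  haveI : Fact r.Prime := ⟨hr⟩
  let F : Subgroup P :=
    { carrier := {x | f x = x}
      one_mem' := map_one f
      mul_mem' := fun {a b} (ha : f a = a) (hb : f b = b) => by
        show f (a * b) = a * b
        rw [map_mul, ha, hb]
      inv_mem' := fun {a} (ha : f a = a) => by
        show f a⁻¹ = a⁻¹
        rw [map_inv, ha] }
  have hH : IsPGroup r (Subgroup.zpowers f) := fun a => ⟨1, by
    obtain ⟨a, ha⟩ := a
    obtain ⟨i, rfl⟩ := Subgroup.mem_zpowers_iff.1 ha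
    refine Subtype.ext ?_
    show (f ^ i) ^ r ^ 1 = 1
    rw [pow_one, ← zpow_natCast, ← zpow_mul, mul_comm, zpow_mul, zpow_natCast, hf, one_zpow]⟩
  have hmod := hH.card_modEq_card_fixedPoints P
  have hfix : MulAction.fixedPoints (Subgroup.zpowers f) P = (F : Set P) := by
    ext x
    refine ⟨fun hx => hx ⟨f, Subgroup.mem_zpowers f⟩, fun (hx : f x = x) a => ?_⟩
    obtain ⟨a, ha⟩ := a
    obtain ⟨i, rfl⟩ := Subgroup.mem_zpowers_iff.1 ha
    show (f ^ i) • x = x
    exact MulAction.zpow_smul_eq_iff_period_dvd.2 (dvd_trans (by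
      rw [MulAction.period_eq_one_iff.2 (show f • x = x from hx)]; exact one_dvd _) dvd_rfl)
  rw [hfix, show Nat.card (F : Set P) = Nat.card F from rfl, hP] at hmod
  obtain ⟨j, hj, hFj⟩ := (Nat.dvd_prime_pow hp).1 (hP ▸ F.card_subgroup_dvd_card)
  rw [hFj] at hmod
  rcases eq_or_lt_of_le hj with rfl | hlt
  · left
    have hF : F = ⊤ := Subgroup.eq_top_of_card_eq F (by rw [hFj, hP])
    refine MulEquiv.ext fun x => ?_
    have : x ∈ F := hF ▸ Subgroup.mem_top x
    exact this
  right
  have hc : Nat.Coprime r (p ^ j) := (Nat.Coprime.pow_right j ((Nat.coprime_primes hr hp).2 hpr.symm))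
  have hd : p ^ (e - j) ≡ 1 [MOD r] := by
    refine Nat.ModEq.cancel_right_of_coprime hc ?_
    rw [← pow_add, Nat.sub_add_cancel hj, one_mul]
    exact hmod
  have hd' : p ^ (e - j) % r = 1 := by rw [hd, Nat.one_mod_eq_one.2 hr.ne_one]
  have hj0 : j = 0 := by
    by_contra hj0
    exact hi (e - j) (by omega) (by omega) hd'
  subst hj0
  refine ⟨fun x hx => ?_, hd'⟩
  have : F = ⊥ := Subgroup.eq_bot_of_card_eq F (by rw [hFj, pow_zero])
  exact Subgroup.mem_bot.1 (this ▸ (hx : x ∈ F))

/-- A group of order dividing `p ^ 2` has at most `p ^ 4` automorphisms. -/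
theorem card_aut_le {P : Type*} [Group P] [Finite P] {p : ℕ} (hp : p.Prime)
    (hP : Nat.card P ∣ p ^ 2) : Nat.card (MulAut P) ≤ p ^ 4 := by
  classical
  have hle : Nat.card P ≤ p ^ 2 := Nat.le_of_dvd (pow_pos hp.pos 2) hP
  obtain ⟨x, y, hxy⟩ : ∃ x y : P, Subgroup.closure ({x, y} : Set P) = ⊤ := by
    by_cases h1 : Subsingleton P
    · exact ⟨1, 1, Subsingleton.elim _ _⟩
    rw [not_subsingleton_iff_nontrivial] at h1
    obtain ⟨x, hx⟩ := exists_ne (1 : P)
    by_cases hy : ∃ y, y ∉ Subgroup.zpowers x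
    · obtain ⟨y, hy⟩ := hy
      refine ⟨x, y, ?_⟩
      set H := Subgroup.closure ({x, y} : Set P)
      have hxH : Subgroup.zpowers x < H := lt_of_le_of_ne
        (Subgroup.zpowers_le.2 (Subgroup.subset_closure (Or.inl rfl)))
        (fun e => hy (e ▸ Subgroup.subset_closure (Or.inr rfl)))
      have h2 : Nat.card (Subgroup.zpowers x) < Nat.card H := by
        rcases lt_or_eq_of_le (Subgroup.card_le_of_le hxH.le) with h | h
        · exact h
        · exact absurd (Subgroup.eq_of_le_of_card_ge hxH.le h.ge) hxH.ne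
      obtain ⟨i, hi, hxi⟩ := (Nat.dvd_prime_pow hp).1
        ((Subgroup.card_subgroup_dvd_card (Subgroup.zpowers x)).trans hP)
      obtain ⟨j, hj, hHj⟩ := (Nat.dvd_prime_pow hp).1 ((Subgroup.card_subgroup_dvd_card H).trans hP)
      have hi1 : 1 ≤ i := by
        by_contra h
        have : i = 0 := by omega
        rw [this, pow_zero, Nat.card_zpowers, orderOf_eq_one_iff] at hxi
        exact hx hxi
      rw [hxi, hHj, Nat.pow_lt_pow_iff_right hp.one_lt] at h2
      refine Subgroup.eq_top_of_card_eq H (le_antisymm (Subgroup.card_le_card_group H) ?_)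
      rw [hHj]
      exact hle.trans (Nat.pow_le_pow_right hp.pos (by omega))
    · push Not at hy
      refine ⟨x, x, eq_top_iff.2 fun w _ => ?_⟩
      have hle' : Subgroup.zpowers x ≤ Subgroup.closure ({x, x} : Set P) :=
        Subgroup.zpowers_le.2 (Subgroup.subset_closure (Set.mem_insert x _))
      exact hle' (hy w)
  let Φ : MulAut P → P × P := fun f => (f x, f y)
  have hΦ : Function.Injective Φ := fun f g h => by
    have h1 := congrArg Prod.fst h
    have h2 := congrArg Prod.snd h
    refine MulEquiv.ext fun w => ?_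
    have := MonoidHom.eqOn_closure (f := f.toMonoidHom) (g := g.toMonoidHom) (s := ({x, y} : Set P)) (by
      rintro _ (rfl | rfl)
      exacts [h1, h2]) (show w ∈ Subgroup.closure ({x, y} : Set P) by rw [hxy]; trivial)
    exact this
  calc Nat.card (MulAut P) ≤ Nat.card (P × P) := Nat.card_le_card_of_injective Φ hΦ
    _ = Nat.card P * Nat.card P := Nat.card_prod P P
    _ ≤ p ^ 2 * p ^ 2 := Nat.mul_le_mul hle hle
    _ = p ^ 4 := by ring

end Cfsg.Agent.DoubleCover90Aut
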