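import Mathlib
import Cfsg.Prelude.Def_SporadicB
import Cfsg.Agent.S2493
import Cfsg.Agent.Lib.ZStarTheorem

/-!
# Involution centralizers which are double covers of alternating groups: basics for S1645
-/

set_option autoImplicit false

namespace Cfsg.Agent.DoubleCover90

open Equiv Equiv.Perm
open scoped Pointwise
open Cfsg.Agent.S2493 (Cov IsDT eq_one_or_eq dt_cycleType conj_alt swaps_mem)

universe u

/-- A centraliser of an involution which is a double cover of an alternating group. -/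
structure DC {G : Type u} [Group G] (z : G) (n : ℕ) where
  /-- the covering map -/
  π : Subgroup.centralizer ({z} : Set G) →* alternatingGroup (Fin n)
  surj : Function.Surjective π
  ker : ∀ x, π x = 1 ↔ (x : G) = 1 ∨ (x : G) = z
  sq : z * z = 1
  ne : z ≠ 1
  dt : ∀ x, IsDT (π x) → (x : G) * (x : G) = z

theorem lifts_sq {G : Type u} [Group G] [Finite G] {n : ℕ} (hn : 5 ≤ n)
    (hZ : Nat.card (Subgroup.center G) = 2) (e : G ⧸ Subgroup.center G ≃* alternatingGroup (Fin n))
    (hnocompl : ∀ L : Subgroup G, ¬ (Subgroup.center G).IsComplement' L)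
    {π : G →* alternatingGroup (Fin n)} {z : G}
    (hker : ∀ h, π h = 1 ↔ h ∈ Subgroup.center G) (hC : Cov π z) :
    ∀ u : G, IsDT (π u) → u * u = z := by
  classical
  have hsurj := hC.surj
  intro u hu
  have hne : π u ≠ 1 := by
    obtain ⟨a, b, c, d, hab, hcd, hac, had, hbc, hbd, e'⟩ := hu
    intro h
    have h1 := dt_cycleType hab hcd hac had hbc hbd
    rw [← e', h] at h1
    simp at h1
  have hu2 : π u * π u = 1 := by
    obtain ⟨a, b, c, d, hab, hcd, hac, had, hbc, hbd, e'⟩ := hu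
    have h1 := dt_cycleType hab hcd hac had hbc hbd
    rw [← e'] at h1
    refine Subtype.ext ?_
    rw [Subgroup.coe_mul, ← pow_two]
    have h2 := Equiv.Perm.lcm_cycleType (π u : Equiv.Perm (Fin n))
    rw [h1] at h2
    have h3 : orderOf (π u : Equiv.Perm (Fin n)) = 2 := by rw [← h2]; decide
    rw [← h3]
    exact pow_orderOf_eq_one _
  rcases (hC.ker (u * u)).1 (by rw [map_mul, hu2]) with h | h
  swap
  · exact h
  exfalso
  rcases Nat.lt_or_ge n 8 with h8 | h8
  · -- small degree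
    obtain ⟨H, hG, hF, ⟨φ⟩⟩ := Finite.exists_type_univ_nonempty_mulEquiv.{_, 0} G
    haveI : Finite H := @Finite.of_fintype H hF
    have hcen : Subgroup.center H = (Subgroup.center G).map φ.toMonoidHom := by
      ext x
      rw [Subgroup.mem_center_iff]
      constructor
      · intro hx
        refine ⟨φ.symm x, Subgroup.mem_center_iff.2 fun y => φ.injective ?_, φ.apply_symm_apply x⟩
        simpa using hx (φ y)
      · rintro ⟨w, hw, rfl⟩ y
        obtain ⟨y, rfl⟩ := φ.surjective y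
        show φ y * φ w = φ w * φ y
        rw [← map_mul, ← map_mul, Subgroup.mem_center_iff.1 hw y]
    have hH : Cfsg.IsNonsplitDoubleCover H (alternatingGroup (Fin n)) := by
      refine ⟨?_, ⟨(QuotientGroup.congr _ _ φ hcen.symm).symm.trans e⟩, fun L hL => ?_⟩
      · rw [hcen, ← hZ]
        exact (Nat.card_congr ((Subgroup.center G).equivMapOfInjective _ φ.injective).toEquiv).symm
      · refine hnocompl (L.comap φ.toMonoidHom) ⟨?_, ?_⟩
        · rintro ⟨⟨a, ha⟩, ⟨b, hb⟩⟩ ⟨⟨a', ha'⟩, ⟨b', hb'⟩⟩ (he : a * b = a' * b')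
          have := @hL.1 (⟨φ a, hcen ▸ ⟨a, ha, rfl⟩⟩, ⟨φ b, hb⟩)
            (⟨φ a', hcen ▸ ⟨a', ha', rfl⟩⟩, ⟨φ b', hb'⟩)
            (show φ a * φ b = φ a' * φ b' by rw [← map_mul, ← map_mul, he])
          obtain ⟨t1, t2⟩ := Prod.mk.inj this
          obtain rfl := φ.injective (congrArg Subtype.val t1)
          obtain rfl := φ.injective (congrArg Subtype.val t2)
          rfl
        · intro x
          obtain ⟨⟨⟨a, ha⟩, ⟨b, hb⟩⟩, (he : a * b = φ x)⟩ := hL.2 (φ x)
          rw [hcen] at ha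
          obtain ⟨a₀, ha₀, rfl⟩ := ha
          refine ⟨(⟨a₀, ha₀⟩, ⟨φ.symm b, show φ (φ.symm b) ∈ L by
            rw [φ.apply_symm_apply]; exact hb⟩), φ.injective ?_⟩
          show φ (a₀ * φ.symm b) = φ x
          rw [map_mul, φ.apply_symm_apply]; exact he
    have ho : orderOf (φ u) = 2 := by
      rw [MulEquiv.orderOf_eq]
      exact orderOf_eq_prime (by rw [pow_two]; exact h) (fun h1 => hne (by rw [h1, map_one]))
    have hc := Cfsg.Agent.S0447.part_one n H (by omega) hH (φ u) ho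
    rw [hcen] at hc
    obtain ⟨w, hw, hwu⟩ := hc
    exact hne ((hker u).2 (φ.injective hwu ▸ hw))
  · -- large degree: Carmichael's relations
    have hinv := hC.invol_lifts hu h
    obtain ⟨φ⟩ := Cfsg.Agent.S3335.result n (by omega)
    let x : ℕ → alternatingGroup (Fin n) := fun i =>
      if h : i < n - 2 then φ (PresentedGroup.of ⟨i, h⟩) else 1
    have hxof : ∀ i : Fin (n - 2), x i = φ (PresentedGroup.of i) := fun i => dif_pos i.2
    have hrel : ∀ r, r ∈ _ → φ (PresentedGroup.mk _ r) = 1 := fun r hr => by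
      rw [PresentedGroup.one_of_mem hr, map_one]
    have hx : Cfsg.Agent.CarmichaelLifts.Rels (n - 2) x := by
      refine ⟨?_, fun i h1 h2 => ?_, fun i h => ?_, fun i j h1 h2 => ?_⟩
      · rw [show x 0 = _ from hxof ⟨0, by omega⟩]
        exact (map_pow φ _ _).symm.trans ((congrArg φ (map_pow _ _ _).symm).trans
          (hrel _ (.inl (.inl (.inl ⟨_, rfl, rfl⟩)))))
      · rw [show x i = _ from hxof ⟨i, h2⟩]
        exact (map_pow φ _ _).symm.trans ((congrArg φ (map_pow _ _ _).symm).trans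
          (hrel _ (.inl (.inl (.inr ⟨⟨i, h2⟩, h1, rfl⟩)))))
      · rw [show x i = _ from hxof ⟨i, by omega⟩, show x (i + 1) = _ from hxof ⟨i + 1, h⟩,
          ← map_mul]
        have := hrel _ (.inl (.inr ⟨⟨i, by omega⟩, ⟨i + 1, h⟩, rfl, rfl⟩))
        rwa [map_pow, map_mul, map_pow] at this
      · rw [show x i = _ from hxof ⟨i, by omega⟩, show x j = _ from hxof ⟨j, h2⟩, ← map_mul]
        have := hrel _ (.inr ⟨⟨i, by omega⟩, ⟨j, h2⟩, h1, rfl⟩)
        rwa [map_pow, map_mul, map_pow] at this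
    obtain ⟨c, f, hcσ, hc2, hfσ, hf0, hfsq, hfbr, hffar⟩ :=
      Cfsg.Agent.CarmichaelLifts.exists_relations hsurj (fun w hw => (hker w).1 hw)
        (by omega : 6 ≤ n - 2) hx
    have hc1 : c = 1 := by
      rw [← hfsq 1 le_rfl (by omega), pow_two]
      exact hinv _ (by rw [hfσ 1 (by omega), ← pow_two]; exact hx.sq 1 le_rfl (by omega))
    let F : Fin (n - 2) → G := fun i => f i
    let Φ := PresentedGroup.toGroup (f := F) (h := Cfsg.Agent.S3335.lift_rels F
      (fun i hi => by show f i ^ 3 = 1; rw [hi, hf0])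
      (fun i hi => by show f i ^ 2 = 1; rw [hfsq i hi i.2, hc1])
      (fun i j hij => by
        show (f i * f j) ^ 3 = 1
        rw [hij, hfbr i (hij ▸ j.2), hc1])
      (fun i j hij => by
        show (f i * f j) ^ 2 = 1
        rw [hffar i j hij j.2, hc1]))
    have hcomp : π.comp Φ = φ.toMonoidHom := PresentedGroup.ext fun i => by
      show π (Φ (PresentedGroup.of i)) = φ (PresentedGroup.of i)
      rw [show Φ (PresentedGroup.of i) = F i from PresentedGroup.toGroup.of _, ← hxof]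
      exact hfσ i i.2
    refine hnocompl Φ.range ⟨?_, ?_⟩
    · rintro ⟨⟨a, ha⟩, ⟨_, p, rfl⟩⟩ ⟨⟨a', ha'⟩, ⟨_, p', rfl⟩⟩ (he : a * Φ p = a' * Φ p')
      have h1 := congrArg π he
      rw [map_mul, map_mul, (hker a).2 ha, (hker a').2 ha', one_mul, one_mul] at h1
      have h2 : φ p = φ p' :=
        (DFunLike.congr_fun hcomp p).symm.trans (h1.trans (DFunLike.congr_fun hcomp p'))
      obtain rfl := φ.injective h2
      obtain rfl := mul_right_cancel he
      rfl
    · intro y
      obtain ⟨p, hp⟩ := φ.surjective (π y)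
      refine ⟨(⟨y * (Φ p)⁻¹, (hker _).1 ?_⟩, ⟨Φ p, p, rfl⟩), inv_mul_cancel_right y (Φ p)⟩
      rw [map_mul, map_inv, show π (Φ p) = π y from (DFunLike.congr_fun hcomp p).trans hp,
        mul_inv_cancel]

section

variable {G : Type u} [Group G] {z : G} {n : ℕ}

/-- The data of a double cover from the hypothesis of a nonsplit double cover. -/
theorem exists_dc [Finite G] (hn : 5 ≤ n) (hz : orderOf z = 2)
    (hcov : Cfsg.IsNonsplitDoubleCover (Subgroup.centralizer ({z} : Set G))
      (alternatingGroup (Fin n))) : Nonempty (DC z n) := by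
  obtain ⟨hZ, ⟨e⟩, hns⟩ := hcov
  set C := Subgroup.centralizer ({z} : Set G)
  have hzC : z ∈ C := Subgroup.mem_centralizer_singleton_iff.2 rfl
  have hsq : z * z = 1 := by rw [← pow_two, ← hz]; exact pow_orderOf_eq_one z
  have hne : z ≠ 1 := fun h => by rw [h, orderOf_one] at hz; omega
  have hzZ : (⟨z, hzC⟩ : C) ∈ Subgroup.center C := Subgroup.mem_center_iff.2 fun x =>
    Subtype.ext (Subgroup.mem_centralizer_singleton_iff.1 x.2)
  have hne' : (⟨z, hzC⟩ : C) ≠ 1 := fun h => hne (congrArg Subtype.val h)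
  let π : C →* alternatingGroup (Fin n) :=
    e.toMonoidHom.comp (QuotientGroup.mk' (Subgroup.center C))
  have hker : ∀ h, π h = 1 ↔ h ∈ Subgroup.center C := fun h => by
    show e (QuotientGroup.mk h) = 1 ↔ _
    rw [map_eq_one_iff _ e.injective, QuotientGroup.eq_one_iff]
  have hsurj : Function.Surjective π := e.surjective.comp Quotient.mk''_surjective
  have hC : Cov π ⟨z, hzC⟩ := ⟨hsurj, fun x => by
    rw [hker]
    refine ⟨fun h => eq_one_or_eq hZ hzZ hne' h, ?_⟩
    rintro (rfl | rfl)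
    exacts [one_mem _, hzZ], fun x => (Subgroup.mem_center_iff.1 hzZ x).symm,
    Subtype.ext hsq, hne'⟩
  refine ⟨⟨π, hsurj, fun x => ?_, hsq, hne, fun x hx =>
    congrArg Subtype.val (lifts_sq hn hZ e hns hker hC x hx)⟩⟩
  rw [hC.ker]
  simp only [Subtype.ext_iff, OneMemClass.coe_one]

theorem DC.mem (x : G) (hx : Commute x z) : x ∈ Subgroup.centralizer ({z} : Set G) :=
  Subgroup.mem_centralizer_singleton_iff.2 hx.eq

variable (D : DC z n)

open scoped Classical in
/-- The permutation induced by an element of the centraliser. -/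
noncomputable def DC.p (x : G) : Perm (Fin n) :=
  if h : x ∈ Subgroup.centralizer ({z} : Set G) then (D.π ⟨x, h⟩ : Perm (Fin n)) else 1

theorem DC.p_coe (x : Subgroup.centralizer ({z} : Set G)) :
    D.p x = (D.π x : Perm (Fin n)) := dif_pos x.2

theorem DC.cov : Cov D.π ⟨z, DC.mem z (Commute.refl z)⟩ :=
  ⟨D.surj, fun x => by simp only [D.ker, Subtype.ext_iff, OneMemClass.coe_one],
    fun x => Subtype.ext (Subgroup.mem_centralizer_singleton_iff.1 x.2).symm,
    Subtype.ext D.sq, fun h => D.ne (congrArg Subtype.val h)⟩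

theorem DC.p_mul {x y : G} (hx : Commute x z) (hy : Commute y z) :
    D.p (x * y) = D.p x * D.p y := by
  have h1 := D.p_coe ⟨x, DC.mem x hx⟩
  have h2 := D.p_coe ⟨y, DC.mem y hy⟩
  have h3 := D.p_coe (⟨x, DC.mem x hx⟩ * ⟨y, DC.mem y hy⟩)
  rw [map_mul, Subgroup.coe_mul] at h3
  simp only [Subgroup.coe_mul] at h1 h2 h3
  rw [h3, h1, h2]

theorem DC.p_one : D.p 1 = 1 := by
  have h := D.p_coe 1
  rw [map_one] at h
  simpa using h

theorem DC.p_inv {x : G} (hx : Commute x z) : D.p x⁻¹ = (D.p x)⁻¹ :=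
  eq_inv_of_mul_eq_one_left (by rw [← D.p_mul hx.inv_left hx, inv_mul_cancel, D.p_one])

theorem DC.p_conj {x y : G} (hx : Commute x z) (hy : Commute y z) :
    D.p (y * x * y⁻¹) = D.p y * D.p x * (D.p y)⁻¹ := by
  rw [D.p_mul (hy.mul_left hx) hy.inv_left, D.p_mul hy hx, D.p_inv hy]

theorem DC.p_pow {x : G} (hx : Commute x z) (m : ℕ) : D.p (x ^ m) = D.p x ^ m := by
  induction m with
  | zero => rw [pow_zero, pow_zero, D.p_one]
  | succ m ih => rw [pow_succ, pow_succ, D.p_mul (hx.pow_left m) hx, ih]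

theorem DC.p_z : D.p z = 1 := by
  rw [show D.p z = _ from D.p_coe ⟨z, DC.mem z (Commute.refl z)⟩, (D.ker _).2 (Or.inr rfl)]
  rfl

theorem DC.p_sign (x : G) : Perm.sign (D.p x) = 1 := by
  by_cases h : x ∈ Subgroup.centralizer ({z} : Set G)
  · rw [D.p_coe ⟨x, h⟩]; exact (D.π ⟨x, h⟩).2
  · simp [DC.p, dif_neg h]

theorem DC.p_eq_one_iff {x : G} (hx : Commute x z) : D.p x = 1 ↔ x = 1 ∨ x = z := by
  rw [show D.p x = _ from D.p_coe ⟨x, DC.mem x hx⟩]
  rw [OneMemClass.coe_eq_one]
  exact D.ker _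

theorem DC.eq_or_mul {x y : G} (hx : Commute x z) (hy : Commute y z) (h : D.p x = D.p y) :
    x = y ∨ x = y * z := by
  rcases (D.p_eq_one_iff (hy.inv_left.mul_left hx)).1 (by
    rw [D.p_mul hy.inv_left hx, D.p_inv hy, h, inv_mul_cancel]) with e | e
  · exact Or.inl (inv_mul_eq_one.1 e).symm
  · exact Or.inr (inv_mul_eq_iff_eq_mul.1 e)

theorem DC.exists_lift {σ : Perm (Fin n)} (hσ : Perm.sign σ = 1) :
    ∃ x, Commute x z ∧ D.p x = σ := by
  obtain ⟨x, hx⟩ := D.surj ⟨σ, hσ⟩
  exact ⟨x, Subgroup.mem_centralizer_singleton_iff.1 x.2, by rw [D.p_coe, hx]⟩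

theorem DC.exists_lift_three {σ : Perm (Fin n)} (hσ : σ ^ 3 = 1) :
    ∃ x, Commute x z ∧ x ^ 3 = 1 ∧ D.p x = σ := by
  have hs : Perm.sign σ = 1 := by
    rcases Int.units_eq_one_or (Perm.sign σ) with h | h
    · exact h
    · exfalso
      have := congrArg Perm.sign hσ
      rw [map_pow, h, map_one] at this
      exact absurd this (by decide)
  obtain ⟨x, hx, rfl⟩ := D.exists_lift hs
  rcases (D.p_eq_one_iff (hx.pow_left 3)).1 (by rw [D.p_pow hx, hσ]) with e | e
  · exact ⟨x, hx, e, rfl⟩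
  · refine ⟨x * z, hx.mul_left (Commute.refl z), ?_, ?_⟩
    · rw [hx.mul_pow, e, pow_succ z 2, pow_two, D.sq, one_mul, D.sq]
    · rw [D.p_mul hx (Commute.refl z), D.p_z, mul_one]

theorem DC.comm_three {a b : G} (ha : Commute a z) (hb : Commute b z)
    (hab : Commute (D.p a) (D.p b)) (hb3 : D.p b ^ 3 = 1) : Commute a b := by
  have := D.cov.comm_three (a := ⟨a, DC.mem a ha⟩) (b := ⟨b, DC.mem b hb⟩) ?_ ?_
  · exact congrArg Subtype.val this
  · refine Subtype.ext ?_
    simp only [Subgroup.coe_mul, ← D.p_coe]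
    exact hab.eq
  · refine Subtype.ext ?_
    simp only [SubmonoidClass.coe_pow, ← D.p_coe, OneMemClass.coe_one]
    exact hb3

theorem DC.comm_disjoint {a b : G} (ha : Commute a z) (hb : Commute b z)
    (hd : Perm.Disjoint (D.p a) (D.p b)) : Commute a b := by
  refine congrArg Subtype.val (D.cov.comm_disjoint (a := ⟨a, DC.mem a ha⟩)
    (b := ⟨b, DC.mem b hb⟩) ?_)
  rw [← D.p_coe, ← D.p_coe]
  exact hd

/-- Double transpositions. -/
def IsDTP (σ : Perm (Fin n)) : Prop :=
  ∃ a b c d : Fin n, a ≠ b ∧ c ≠ d ∧ a ≠ c ∧ a ≠ d ∧ b ≠ c ∧ b ≠ d ∧ σ = swap a b * swap c d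

theorem DC.dt_sq {x : G} (hx : Commute x z) (hd : IsDTP (D.p x)) : x * x = z := by
  refine D.dt ⟨x, DC.mem x hx⟩ ?_
  obtain ⟨a, b, c, d, h1, h2, h3, h4, h5, h6, e⟩ := hd
  exact ⟨a, b, c, d, h1, h2, h3, h4, h5, h6, (D.p_coe ⟨x, DC.mem x hx⟩).symm.trans e⟩

/-- If `d`, `g`, `d * g` all induce double transpositions then `d` and `g` anticommute. -/
theorem DC.anti3 {d g : G} (hdc : Commute d z) (hgc : Commute g z) (hd : IsDTP (D.p d))
    (hg : IsDTP (D.p g)) (hdg : IsDTP (D.p d * D.p g)) : d * g = z * (g * d) := by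
  have h1 := D.dt_sq hdc hd
  have h2 := D.dt_sq hgc hg
  have h3 := D.dt_sq (hdc.mul_left hgc) (by rwa [D.p_mul hdc hgc])
  have hinvd : d⁻¹ = z * d := inv_eq_of_mul_eq_one_right (by
    rw [← mul_assoc, hdc.eq, mul_assoc, h1, D.sq])
  have hinvg : g⁻¹ = z * g := inv_eq_of_mul_eq_one_right (by
    rw [← mul_assoc, hgc.eq, mul_assoc, h2, D.sq])
  calc d * g = (d * g) * (d * g) * g⁻¹ * d⁻¹ := by group
    _ = z * (z * g) * (z * d) := by rw [h3, hinvd, hinvg]
    _ = z * z * (g * (z * d)) := by group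
    _ = g * z * d := by rw [D.sq, one_mul, mul_assoc]
    _ = z * (g * d) := by rw [hgc.eq, mul_assoc]

theorem isDTP_swaps {a b c d : Fin n} (hab : a ≠ b) (hcd : c ≠ d) (hac : a ≠ c) (had : a ≠ d)
    (hbc : b ≠ c) (hbd : b ≠ d) : IsDTP (swap a b * swap c d) :=
  ⟨a, b, c, d, hab, hcd, hac, had, hbc, hbd, rfl⟩

theorem swaps_disjoint {a b c d : Fin n} (hac : a ≠ c) (had : a ≠ d) (hbc : b ≠ c)
    (hbd : b ≠ d) : Perm.Disjoint (swap a b) (swap c d) := by
  intro x
  by_cases h : x = a ∨ x = b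
  · rcases h with rfl | rfl
    · exact Or.inr (swap_apply_of_ne_of_ne hac had)
    · exact Or.inr (swap_apply_of_ne_of_ne hbc hbd)
  · push Not at h
    exact Or.inl (swap_apply_of_ne_of_ne h.1 h.2)

theorem swaps_overlap {a b c d e f : Fin n} (hab : a ≠ b) (hcd : c ≠ d) (hac : a ≠ c) (had : a ≠ d)
    (hbc : b ≠ c) (hbd : b ≠ d) :
    (swap a b * swap c d) * (swap a b * swap e f) = swap c d * swap e f := by
  have h := (swaps_disjoint hac had hbc hbd).commute
  rw [h.eq, mul_assoc, ← mul_assoc (swap a b) (swap a b), swap_mul_self, one_mul]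

/-- Conjugation of a double cover. -/
noncomputable def DC.conj (g : G) : DC (g * z * g⁻¹) n where
  π := D.π.comp (MonoidHom.codRestrict
    ((MulAut.conj g⁻¹).toMonoidHom.comp (Subgroup.centralizer ({g * z * g⁻¹} : Set G)).subtype)
    _ fun x => Subgroup.mem_centralizer_singleton_iff.2 (by
      have h := Subgroup.mem_centralizer_singleton_iff.1 x.2
      simp only [MonoidHom.coe_comp, Function.comp_apply, Subgroup.coe_subtype,
        MulEquiv.coe_toMonoidHom, MulAut.conj_apply, inv_inv]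
      calc g⁻¹ * x.1 * g * z = g⁻¹ * (x.1 * (g * z * g⁻¹)) * g := by group
        _ = g⁻¹ * ((g * z * g⁻¹) * x.1) * g := by rw [h]
        _ = z * (g⁻¹ * x.1 * g) := by group))
  surj σ := by
    obtain ⟨x, hx⟩ := D.surj σ
    have h := Subgroup.mem_centralizer_singleton_iff.1 x.2
    refine ⟨⟨g * x * g⁻¹, Subgroup.mem_centralizer_singleton_iff.2 ?_⟩, ?_⟩
    · calc g * x.1 * g⁻¹ * (g * z * g⁻¹) = g * (x.1 * z) * g⁻¹ := by group
        _ = g * (z * x.1) * g⁻¹ := by rw [h]
        _ = g * z * g⁻¹ * (g * x.1 * g⁻¹) := by group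
    · show D.π _ = σ
      rw [← hx]
      congr 1
      exact Subtype.ext (by simp [mul_assoc])
  ker x := by
    refine (D.ker _).trans ?_
    simp only [MonoidHom.codRestrict_apply, MonoidHom.coe_comp, Function.comp_apply,
      Subgroup.coe_subtype, MulEquiv.coe_toMonoidHom, MulAut.conj_apply, inv_inv]
    constructor <;> rintro (h | h)
    · exact Or.inl (by rw [show x.1 = g * (g⁻¹ * x.1 * g) * g⁻¹ by group, h]; group)
    · exact Or.inr (by rw [show x.1 = g * (g⁻¹ * x.1 * g) * g⁻¹ by group, h])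
    · exact Or.inl (by rw [h]; group)
    · exact Or.inr (by rw [h]; group)
  sq := by rw [show g * z * g⁻¹ * (g * z * g⁻¹) = g * (z * z) * g⁻¹ by group, D.sq]; group
  ne h := D.ne (conj_eq_one_iff.1 h)
  dt x hx := by
    have h := D.dt _ hx
    simp only [MonoidHom.codRestrict_apply, MonoidHom.coe_comp, Function.comp_apply,
      Subgroup.coe_subtype, MulEquiv.coe_toMonoidHom, MulAut.conj_apply, inv_inv] at h
    conv_rhs => rw [← h]
    group

include D in
theorem DC.exists_of_conj {w : G} (h : ∃ g, g * z * g⁻¹ = w) : Nonempty (DC w n) := by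
  obtain ⟨g, rfl⟩ := h
  exact ⟨D.conj g⟩

/-- An element inducing an involution or the identity squares to `z ^ (moved / 4)`. -/
theorem DC.sq_eq_pow : ∀ (m : ℕ) {x : G}, Commute x z → (D.p x).support.card = m →
    D.p x * D.p x = 1 → 4 ∣ m ∧ x * x = z ^ (m / 4) := by
  intro m
  induction m using Nat.strong_induction_on with
  | _ m ih =>
    intro x hx hm h2
    have hσ : ∀ i, D.p x (D.p x i) = i := fun i => Equiv.congr_fun h2 i
    set σ := D.p x with hσdef
    by_cases h1 : σ = 1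
    · have : m = 0 := by rw [← hm, h1, support_one, Finset.card_empty]
      subst this
      refine ⟨dvd_zero 4, ?_⟩
      rcases (D.p_eq_one_iff hx).1 h1 with rfl | rfl
      · simp
      · simpa using D.sq
    obtain ⟨a, ha⟩ : ∃ a, σ a ≠ a := by
      by_contra hno; push Not at hno; exact h1 (Equiv.ext hno)
    obtain ⟨c, hca, hcb, hcc⟩ : ∃ c, c ≠ a ∧ c ≠ σ a ∧ σ c ≠ c := by
      by_contra hno
      push Not at hno
      have hsw : σ = swap a (σ a) := by
        ext i
        by_cases x1 : i = a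
        · subst x1; rw [swap_apply_left]
        by_cases x2 : i = σ a
        · subst x2; rw [swap_apply_right, hσ]
        rw [swap_apply_of_ne_of_ne x1 x2, hno i x1 x2]
      have hsgn : Perm.sign σ = 1 := D.p_sign x
      rw [hsw, Perm.sign_swap (Ne.symm ha)] at hsgn
      exact absurd hsgn (by decide)
    have e1 : a ≠ c := Ne.symm hca
    have e2 : a ≠ σ c := fun e => hcb (by rw [e, hσ])
    have e3 : σ a ≠ c := Ne.symm hcb
    have e4 : σ a ≠ σ c := fun e => e1 (σ.injective e)
    set δ : Perm (Fin n) := swap a (σ a) * swap c (σ c) with hδ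
    obtain ⟨d, hdc, hd⟩ := D.exists_lift (σ := δ)
      (swaps_mem _ _ _ _ (Ne.symm ha) (Ne.symm hcc))
    set w := d⁻¹ * x with hw
    have hwc : Commute w z := hdc.inv_left.mul_left hx
    have hδ2 : δ⁻¹ = δ := by
      rw [hδ, mul_inv_rev, swap_inv, swap_inv, (swaps_disjoint e1 e2 e3 e4).commute.eq]
    have hwp : D.p w = δ * σ := by rw [D.p_mul hdc.inv_left hx, D.p_inv hdc, hd, hδ2]
    have hfix : ∀ i, i = a ∨ i = σ a ∨ i = c ∨ i = σ c → D.p w i = i := by
      intro i hi
      rw [hwp, Perm.mul_apply, hδ, Perm.mul_apply]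
      rcases hi with rfl | rfl | rfl | rfl
      · rw [swap_apply_of_ne_of_ne e3 e4, swap_apply_right]
      · rw [hσ, swap_apply_of_ne_of_ne e1 e2, swap_apply_left]
      · rw [swap_apply_right, swap_apply_of_ne_of_ne hca hcb]
      · rw [hσ, swap_apply_left, swap_apply_of_ne_of_ne (Ne.symm e2) (Ne.symm e4)]
    have hmove : ∀ i, i ≠ a → i ≠ σ a → i ≠ c → i ≠ σ c → D.p w i = σ i := by
      intro i x1 x2 x3 x4
      rw [hwp, Perm.mul_apply, hδ, Perm.mul_apply,
        swap_apply_of_ne_of_ne (fun e => x4 (by rw [← e, hσ])) (fun e => x3 (σ.injective e)),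
        swap_apply_of_ne_of_ne (fun e => x2 (by rw [← e, hσ])) (fun e => x1 (σ.injective e))]
    have hdis : Perm.Disjoint (D.p d) (D.p w) := by
      intro i
      by_cases hi : i = a ∨ i = σ a ∨ i = c ∨ i = σ c
      · exact Or.inr (hfix i hi)
      · push Not at hi
        refine Or.inl ?_
        rw [hd, hδ, Perm.mul_apply, swap_apply_of_ne_of_ne hi.2.2.1 hi.2.2.2,
          swap_apply_of_ne_of_ne hi.1 hi.2.1]
    have hσw : σ = D.p d * D.p w := by rw [hd, hwp, ← mul_assoc]; nth_rewrite 1 [← hδ2]; group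
    have hdδ : δ.support.card = 4 := by
      rw [hδ, (swaps_disjoint e1 e2 e3 e4).card_support_mul, card_support_swap (Ne.symm ha),
        card_support_swap (Ne.symm hcc)]
    have hcard : (D.p w).support.card + 4 = m := by
      rw [← hm, hσw, hdis.card_support_mul, hd, hdδ, add_comm]
    have hw2 : D.p w * D.p w = 1 := by
      ext i
      by_cases hi : i = a ∨ i = σ a ∨ i = c ∨ i = σ c
      · rw [Perm.mul_apply, hfix i hi, hfix i hi, Perm.one_apply]
      · push Not at hi
        rw [Perm.mul_apply, hmove i hi.1 hi.2.1 hi.2.2.1 hi.2.2.2, hmove, hσ, Perm.one_apply]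
        · exact fun e => hi.2.1 (by rw [← e, hσ])
        · exact fun e => hi.1 (σ.injective e)
        · exact fun e => hi.2.2.2 (by rw [← e, hσ])
        · exact fun e => hi.2.2.1 (σ.injective e)
    obtain ⟨h4, hsqw⟩ := ih _ (by omega) hwc rfl hw2
    refine ⟨by omega, ?_⟩
    have hdw : Commute d w := D.comm_disjoint hdc hwc hdis
    rw [show x = d * w by rw [hw]; group,
      show d * w * (d * w) = d * d * (w * w) by
        rw [show d * w * (d * w) = d * (w * d) * w by group, ← hdw.eq]; group,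
      D.dt_sq hdc (by rw [hd]; exact isDTP_swaps (Ne.symm ha) (Ne.symm hcc) e1 e2 e3 e4), hsqw,
      ← pow_succ']
    congr 1
    omega

theorem DC.p_sq_of_invol {x : G} (hx : Commute x z) (hx2 : x * x = 1) :
    D.p x * D.p x = 1 := by
  rw [← D.p_mul hx hx, hx2, D.p_one]

theorem DC.card_support_invol {x : G} (hx : Commute x z) (hx2 : x * x = 1) (h1 : x ≠ 1)
    (hxz : x ≠ z) :
    8 ∣ (D.p x).support.card ∧ 8 ≤ (D.p x).support.card ∧ (D.p x).support.card ≤ n := by
  obtain ⟨h4, hsq⟩ := D.sq_eq_pow _ hx rfl (D.p_sq_of_invol hx hx2)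
  have h0 : (D.p x).support.card ≠ 0 := by
    rw [Ne, Finset.card_eq_zero, support_eq_empty_iff, D.p_eq_one_iff hx]
    tauto
  have h8 : 8 ∣ (D.p x).support.card := by
    rw [hx2] at hsq
    by_contra h
    obtain ⟨j, hj⟩ : ∃ j, (D.p x).support.card / 4 = 2 * j + 1 :=
      ⟨(D.p x).support.card / 8, by omega⟩
    rw [hj, pow_succ, pow_mul, pow_two, D.sq, one_pow, one_mul] at hsq
    exact D.ne hsq.symm
  refine ⟨h8, ?_, (Finset.card_le_univ _).trans (Fintype.card_fin n).le⟩
  omega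

/-- An involution is conjugate to its translate by `z`. -/
theorem DC.exists_conj_mul_z {x : G} (hx : Commute x z) (h2 : D.p x * D.p x = 1)
    (h1 : D.p x ≠ 1) : ∃ y, Commute y z ∧ y * x * y⁻¹ = x * z := by
  have hσ : ∀ i, D.p x (D.p x i) = i := fun i => Equiv.congr_fun h2 i
  set σ := D.p x with hσdef
  obtain ⟨a, ha⟩ : ∃ a, σ a ≠ a := by
    by_contra hno; push Not at hno; exact h1 (Equiv.ext hno)
  obtain ⟨c, hca, hcb, hcc⟩ : ∃ c, c ≠ a ∧ c ≠ σ a ∧ σ c ≠ c := by
    by_contra hno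
    push Not at hno
    have hsw : σ = swap a (σ a) := by
      ext i
      by_cases x1 : i = a
      · subst x1; rw [swap_apply_left]
      by_cases x2 : i = σ a
      · subst x2; rw [swap_apply_right, hσ]
      rw [swap_apply_of_ne_of_ne x1 x2, hno i x1 x2]
    have hsgn : Perm.sign σ = 1 := D.p_sign x
    rw [hsw, Perm.sign_swap (Ne.symm ha)] at hsgn
    exact absurd hsgn (by decide)
  have e1 : a ≠ c := Ne.symm hca
  have e2 : a ≠ σ c := fun e => hcb (by rw [e, hσ])
  have e3 : σ a ≠ c := Ne.symm hcb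
  have e4 : σ a ≠ σ c := fun e => e1 (σ.injective e)
  obtain ⟨d, hdc, hd⟩ := D.exists_lift (σ := swap a (σ a) * swap c (σ c))
    (swaps_mem _ _ _ _ (Ne.symm ha) (Ne.symm hcc))
  obtain ⟨y, hyc, hy⟩ := D.exists_lift (σ := swap a c * swap (σ a) (σ c)) (swaps_mem _ _ _ _ e1 e4)
  refine ⟨y, hyc, ?_⟩
  set w := d⁻¹ * x with hw
  have hwc : Commute w z := hdc.inv_left.mul_left hx
  have hwfix : ∀ i, i = a ∨ i = σ a ∨ i = c ∨ i = σ c → D.p w i = i := by
    intro i hi
    rw [D.p_mul hdc.inv_left hx, D.p_inv hdc, hd, Perm.mul_apply]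
    apply Perm.inv_eq_iff_eq.2
    rw [Perm.mul_apply]
    rcases hi with rfl | rfl | rfl | rfl
    · rw [swap_apply_of_ne_of_ne e1 e2, swap_apply_left]
    · rw [hσ, swap_apply_of_ne_of_ne e3 e4, swap_apply_right]
    · rw [swap_apply_left, swap_apply_of_ne_of_ne (Ne.symm e2) (Ne.symm e4)]
    · rw [hσ, swap_apply_right, swap_apply_of_ne_of_ne hca hcb]
  have hyw : Commute y w := by
    refine D.comm_disjoint hyc hwc fun i => ?_
    by_cases hi : i = a ∨ i = σ a ∨ i = c ∨ i = σ c
    · exact Or.inr (hwfix i hi)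
    · push Not at hi
      refine Or.inl ?_
      rw [hy, Perm.mul_apply, swap_apply_of_ne_of_ne hi.2.1 hi.2.2.2,
        swap_apply_of_ne_of_ne hi.1 hi.2.2.1]
  have hyd : y * d = z * (d * y) := by
    refine D.anti3 hyc hdc (by rw [hy]; exact isDTP_swaps e1 e4 (Ne.symm ha) e2 (Ne.symm e3) (Ne.symm hcc))
      (by rw [hd]; exact isDTP_swaps (Ne.symm ha) (Ne.symm hcc) e1 e2 e3 e4) ?_
    refine ⟨a, σ c, c, σ a, e2, Ne.symm e3, e1, Ne.symm ha, hcc, Ne.symm e4, ?_⟩
    rw [hy, hd]
    ext i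
    congr 1
    simp only [Perm.mul_apply]
    by_cases x1 : i = a
    · subst x1; simp [swap_apply_def, e1, e2, e3, e4, ha, hcc, hca, hcb, Ne.symm e1, Ne.symm e2,
        Ne.symm e3, Ne.symm e4, Ne.symm ha, Ne.symm hcc]
    by_cases x2 : i = σ a
    · subst x2; simp [swap_apply_def, e1, e2, e3, e4, ha, hcc, hca, hcb, Ne.symm e1, Ne.symm e2,
        Ne.symm e3, Ne.symm e4, Ne.symm ha, Ne.symm hcc]
    by_cases x3 : i = c
    · subst x3; simp [swap_apply_def, e1, e2, e3, e4, ha, hcc, hca, hcb, Ne.symm e1, Ne.symm e2,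
        Ne.symm e3, Ne.symm e4, Ne.symm ha, Ne.symm hcc]
    by_cases x4 : i = σ c
    · subst x4; simp [swap_apply_def, e1, e2, e3, e4, ha, hcc, hca, hcb, Ne.symm e1, Ne.symm e2,
        Ne.symm e3, Ne.symm e4, Ne.symm ha, Ne.symm hcc]
    simp [swap_apply_of_ne_of_ne, x1, x2, x3, x4]
  rw [show x = d * w by rw [hw]; group, show y * (d * w) * y⁻¹ = (y * d) * (w * y⁻¹) by group,
    hyd, ← hyw.inv_left.eq,
    show z * (d * y) * (y⁻¹ * w) = z * (d * w) by group, (hdc.mul_left hwc).eq]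

theorem cycleType_invol {σ : Perm (Fin n)} (h : σ * σ = 1) (h1 : σ ≠ 1) :
    σ.cycleType = Multiset.replicate (σ.support.card / 2) 2 := by
  haveI : Fact (Nat.Prime 2) := ⟨Nat.prime_two⟩
  have ho : orderOf σ = 2 := orderOf_eq_prime_iff.2 ⟨by rw [pow_two]; exact h, h1⟩
  obtain ⟨k, hk⟩ := Equiv.Perm.cycleType_prime_order (by rw [ho]; exact Nat.prime_two)
  rw [ho] at hk
  have hsum := Equiv.Perm.sum_cycleType σ
  rw [hk, Multiset.sum_replicate, smul_eq_mul] at hsum
  rw [hk, ← hsum, Nat.mul_div_cancel _ two_pos]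

/-- Involutions with equally large supports are conjugate in the double cover. -/
theorem DC.conj_invol {x y : G} (hx : Commute x z) (hy : Commute y z) (hx2 : D.p x * D.p x = 1)
    (hy2 : D.p y * D.p y = 1) (h0 : D.p x ≠ 1)
    (h : (D.p x).support.card = (D.p y).support.card) :
    ∃ k, Commute k z ∧ k * x * k⁻¹ = y := by
  have h0' : D.p y ≠ 1 := fun e => h0 (by
    rw [e, support_one, Finset.card_empty, Finset.card_eq_zero, support_eq_empty_iff] at h
    exact h)
  have e := (cycleType_invol hx2 h0).trans (h ▸ (cycleType_invol hy2 h0').symm)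
  obtain ⟨k, hk⟩ := conj_alt (σ := ⟨D.p x, D.p_sign x⟩) (τ := ⟨D.p y, D.p_sign y⟩) e (by
    show 2 ∈ (D.p x).cycleType
    rw [cycleType_invol hx2 h0]
    refine Multiset.mem_replicate.2 ⟨?_, rfl⟩
    have h2 : 2 ≤ (D.p x).support.card := Perm.two_le_card_support_of_ne_one h0
    omega)
  obtain ⟨k', hk'c, hk'⟩ := D.exists_lift k.2
  have he : D.p (k' * x * k'⁻¹) = D.p y := by
    rw [D.p_conj hx hk'c, hk']
    exact congrArg Subtype.val hk
  rcases D.eq_or_mul ((hk'c.mul_left hx).mul_left hk'c.inv_left) hy he with e' | e'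
  · exact ⟨k', hk'c, e'⟩
  · obtain ⟨m, hmc, hm⟩ := D.exists_conj_mul_z hy hy2 h0'
    refine ⟨m * k', hmc.mul_left hk'c, ?_⟩
    rw [show m * k' * x * (m * k')⁻¹ = m * (k' * x * k'⁻¹) * m⁻¹ by group, e',
      show m * (y * z) * m⁻¹ = (m * y * m⁻¹) * (m * z * m⁻¹) by group, hm, hmc.eq,
      mul_inv_cancel_right, mul_assoc, D.sq, mul_one]

end

/-- If `z` is the only involution of `C(x)` commuting with `z`, then two commuting involutions
centralising `x` are equal. -/
theorem no_four {G : Type u} [Group G] [Finite G] {z : G} (hz : orderOf z = 2) {x : G}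
    (hxz : Commute x z)
    (h : ∀ t, orderOf t = 2 → Commute t x → Commute t z → t = z) {s t : G}
    (hs : orderOf s = 2) (ht : orderOf t = 2) (hsx : Commute s x) (htx : Commute t x)
    (hst : Commute s t) : s = t := by
  classical
  haveI : Fact (Nat.Prime 2) := ⟨Nat.prime_two⟩
  set Y := Subgroup.centralizer ({x} : Set G) with hY
  have mem : ∀ {a : G}, Commute a x → a ∈ Y := fun {a} ha =>
    Subgroup.mem_centralizer_singleton_iff.2 ha.eq
  have cm : ∀ a : Y, Commute (a : G) x := fun a =>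
    Subgroup.mem_centralizer_singleton_iff.1 a.2
  have sq : ∀ {a : G}, orderOf a = 2 → a * a = 1 := fun {a} ha => by
    rw [← pow_two, ← ha]; exact pow_orderOf_eq_one a
  -- a Sylow subgroup of the centraliser containing `z`
  set z' : Y := ⟨z, mem hxz.symm⟩ with hz'
  have hzp : IsPGroup 2 (Subgroup.zpowers z') := by
    refine IsPGroup.of_card (n := 1) ?_
    rw [Nat.card_zpowers, ← Subgroup.orderOf_coe, pow_one]
    exact hz
  obtain ⟨S, hS⟩ := hzp.exists_le_sylow
  have hz'1 : z' ≠ 1 := fun e => by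
    rw [show z = 1 from congrArg Subtype.val e, orderOf_one] at hz; omega
  have hnt : Nontrivial S := ⟨⟨z', hS (Subgroup.mem_zpowers z')⟩, 1, fun e =>
    hz'1 (congrArg Subtype.val e)⟩
  have hcn : Nontrivial (Subgroup.center S) := S.2.center_nontrivial
  obtain ⟨w, hw⟩ : ∃ w : Subgroup.center S, orderOf w = 2 := by
    refine exists_prime_orderOf_dvd_card' 2 ?_
    obtain ⟨j, hj⟩ := (IsPGroup.iff_card.1 (S.2.to_subgroup (Subgroup.center S)))
    rw [hj]
    refine dvd_pow_self 2 fun e => ?_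
    rw [e, pow_zero] at hj
    exact absurd hj (Finite.one_lt_card.ne')
  have hwo : orderOf (((w : S) : Y) : G) = 2 := by
    rw [Subgroup.orderOf_coe, Subgroup.orderOf_coe, Subgroup.orderOf_coe, hw]
  have hzS : ∀ a : Y, a ∈ S → orderOf (a : G) = 2 → a = z' := by
    have hwz : ((w : S) : Y) = z' := by
      refine Subtype.ext (h _ hwo (cm _) ?_)
      exact congrArg (fun r : S => ((r : Y) : G))
        (Subgroup.mem_center_iff.1 w.2 ⟨z', hS (Subgroup.mem_zpowers z')⟩).symm
    intro a ha hao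
    refine Subtype.ext (h _ hao (cm _) ?_)
    have := congrArg (fun r : S => ((r : Y) : G)) (Subgroup.mem_center_iff.1 w.2 ⟨a, ha⟩)
    simp only [Subgroup.coe_mul] at this
    rw [hwz] at this
    exact this
  -- the four-group lies in a conjugate of `S`
  set s' : Y := ⟨s, mem hsx⟩
  set t' : Y := ⟨t, mem htx⟩
  have hs2 : s' * s' = 1 := Subtype.ext (sq hs)
  have ht2 : t' * t' = 1 := Subtype.ext (sq ht)
  have hst' : Commute s' t' := Subtype.ext hst.eq
  let V : Subgroup Y :=
    { carrier := {1, s', t', s' * t'}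
      one_mem' := Or.inl rfl
      mul_mem' := by
        rintro a b (rfl | rfl | rfl | rfl) (rfl | rfl | rfl | rfl) <;>
          simp only [Set.mem_insert_iff, Set.mem_singleton_iff, mul_one, one_mul, hs2, ht2,
            ← mul_assoc, true_or, or_true]
        · rw [← hst'.eq]; simp
        · rw [show t' * s' * t' = s' by rw [← hst'.eq, mul_assoc, ht2, mul_one]]; simp
        · rw [show s' * t' * s' = t' by rw [mul_assoc, ← hst'.eq, ← mul_assoc, hs2, one_mul]]; simp
        · rw [mul_assoc s' t' t', ht2, mul_one]; simp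
        · rw [show s' * t' * s' = t' by rw [mul_assoc, ← hst'.eq, ← mul_assoc, hs2, one_mul],
            ht2]; simp
      inv_mem' := by
        rintro a (rfl | rfl | rfl | rfl) <;>
          simp only [Set.mem_insert_iff, Set.mem_singleton_iff, inv_one,
            inv_eq_of_mul_eq_one_right hs2, inv_eq_of_mul_eq_one_right ht2, mul_inv_rev,
            hst'.symm.eq, true_or, or_true] }
  have hVp : IsPGroup 2 V := fun a => ⟨1, by
    obtain ⟨a, ha⟩ := a
    refine Subtype.ext ?_
    rcases ha with rfl | rfl | rfl | rfl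
    · simp
    · simpa [pow_two] using hs2
    · simpa [pow_two] using ht2
    · show (s' * t') ^ 2 ^ 1 = 1
      rw [pow_one, pow_two]
      rw [show s' * t' * (s' * t') = s' * (t' * s') * t' by group, ← hst'.eq,
        show s' * (s' * t') * t' = s' * s' * (t' * t') by group, hs2, ht2, one_mul]⟩
  obtain ⟨T, hT⟩ := hVp.exists_le_sylow
  obtain ⟨g, hg⟩ := MulAction.exists_smul_eq Y T S
  have key : ∀ a : Y, a ∈ V → orderOf (a : G) = 2 → g * a * g⁻¹ = z' := by
    intro a ha hao
    refine hzS _ ?_ ?_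
    · rw [← hg]
      show g * a * g⁻¹ ∈ ((g • T : Sylow 2 Y) : Subgroup Y)
      rw [Sylow.coe_subgroup_smul, Subgroup.mem_pointwise_smul_iff_inv_smul_mem]
      simpa [mul_assoc] using hT ha
    · rw [Subgroup.coe_mul, Subgroup.coe_mul, Subgroup.coe_inv]
      exact (MulEquiv.orderOf_eq (MulAut.conj (g : G)) (a : G)).trans hao
  have e := (key s' (Or.inr (Or.inl rfl)) hs).trans (key t' (Or.inr (Or.inr (Or.inl rfl))) ht).symm
  exact congrArg Subtype.val (mul_left_cancel (mul_right_cancel e))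

end Cfsg.Agent.DoubleCover90
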