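import Cfsg.Agent.Lib.DoubleCover90Base

/-!
# Two commuting conjugate involutions with double cover centralisers: the degree is at most 11
-/

set_option autoImplicit false

namespace Cfsg.Agent.DoubleCover90

open Equiv Equiv.Perm
open Cfsg.Agent.S2493 (swaps_mem)
open scoped commutatorElement

universe u

variable {G : Type u} [Group G] {z u : G} {n : ℕ}

/-- The normal closure of `x` in the joint centraliser of `z` and `u`. -/
def ncl (z u x : G) : Subgroup G :=
  Subgroup.closure {m | ∃ y, Commute y z ∧ Commute y u ∧ y * x * y⁻¹ = m}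

theorem self_mem_ncl (z u x : G) : x ∈ ncl z u x :=
  Subgroup.subset_closure ⟨1, Commute.one_left _, Commute.one_left _, by simp⟩

theorem ncl_symm (z u x : G) : ncl z u x = ncl u z x := by
  have : {m | ∃ y, Commute y z ∧ Commute y u ∧ y * x * y⁻¹ = m} =
      {m | ∃ y, Commute y u ∧ Commute y z ∧ y * x * y⁻¹ = m} := by
    ext m; exact ⟨fun ⟨y, a, b, c⟩ => ⟨y, b, a, c⟩, fun ⟨y, a, b, c⟩ => ⟨y, b, a, c⟩⟩
  rw [ncl, ncl, this]

theorem conj_mem_ncl {x g m : G} (hgz : Commute g z) (hgu : Commute g u) (hm : m ∈ ncl z u x) :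
    g * m * g⁻¹ ∈ ncl z u x := by
  rw [ncl] at hm ⊢
  induction hm using Subgroup.closure_induction with
  | mem m hm =>
    obtain ⟨y, h1, h2, rfl⟩ := hm
    exact Subgroup.subset_closure ⟨g * y, hgz.mul_left h1, hgu.mul_left h2, by group⟩
  | one => simp
  | mul a b _ _ ha hb =>
    rw [show g * (a * b) * g⁻¹ = (g * a * g⁻¹) * (g * b * g⁻¹) by group]
    exact mul_mem ha hb
  | inv a _ ha =>
    rw [show g * a⁻¹ * g⁻¹ = (g * a * g⁻¹)⁻¹ by group]
    exact inv_mem ha

/-- The pair relation of an involution. -/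
def Pr (σ : Perm (Fin n)) (i j : Fin n) : Prop := j = i ∨ j = σ i

theorem pr_symm {σ : Perm (Fin n)} (hσ : ∀ i, σ (σ i) = i) {i j : Fin n} (h : Pr σ i j) :
    Pr σ j i := by
  rcases h with rfl | rfl
  exacts [Or.inl rfl, Or.inr (hσ i).symm]

theorem pr_trans {σ : Perm (Fin n)} (hσ : ∀ i, σ (σ i) = i) {i j k : Fin n} (h : Pr σ i j)
    (h' : Pr σ j k) : Pr σ i k := by
  rcases h with rfl | rfl
  · exact h'
  · rcases h' with rfl | rfl
    exacts [Or.inr rfl, Or.inl (hσ i)]

theorem pr_map {σ g : Perm (Fin n)} (hg : ∀ i, g (σ i) = σ (g i)) {i j : Fin n} (h : Pr σ i j) :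
    Pr σ (g i) (g j) := by
  rcases h with rfl | rfl
  exacts [Or.inl rfl, Or.inr (hg i)]

theorem moved_map {σ g : Perm (Fin n)} (hg : ∀ i, g (σ i) = σ (g i)) {i : Fin n} (h : σ i ≠ i) :
    σ (g i) ≠ g i := fun e => h (g.injective (by rw [hg, e]))

theorem comm_inv {σ g : Perm (Fin n)} (hg : ∀ i, g (σ i) = σ (g i)) (i : Fin n) :
    g⁻¹ (σ i) = σ (g⁻¹ i) := by
  apply Perm.inv_eq_iff_eq.2
  rw [hg, Perm.coe_inv, Equiv.apply_symm_apply]

variable (D : DC z n)

section

variable (hu : Commute u z) (hu2 : u * u = 1) (hu1 : u ≠ 1) (huz : u ≠ z)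
include hu

theorem DC.p_comm {y : G} (hy : Commute y z) (hyu : Commute y u) (i : Fin n) :
    D.p y (D.p u i) = D.p u (D.p y i) := by
  have := congrArg D.p hyu.eq
  rw [D.p_mul hy hu, D.p_mul hu hy] at this
  exact Equiv.congr_fun this i

include hu2

theorem DC.p_invol (i : Fin n) : D.p u (D.p u i) = i :=
  Equiv.congr_fun (D.p_sq_of_invol hu hu2) i

include hu1 huz

theorem DC.exists_moved : ∃ a, D.p u a ≠ a := by
  by_contra h
  push Not at h
  rcases (D.p_eq_one_iff hu).1 (Equiv.ext h) with e | e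
  exacts [hu1 e, huz e]

omit hu2 in
/-- Elements whose permutation fixes the support of `u` pointwise. -/
theorem DC.notMem_of_fix {x : G} (hx : Commute x z) (hxu : Commute x u)
    (hfix : ∀ a, D.p u a ≠ a → D.p x a = a) (hσ : ∃ a, D.p u a ≠ a) : u ∉ ncl z u x := by
  intro h
  let K : Subgroup G :=
    { carrier := {y | Commute y z ∧ Commute y u ∧ ∀ a, D.p u a ≠ a → D.p y a = a}
      one_mem' := ⟨Commute.one_left _, Commute.one_left _, fun a _ => by rw [D.p_one]; rfl⟩
      mul_mem' := fun {a b} ha hb => ⟨ha.1.mul_left hb.1, ha.2.1.mul_left hb.2.1, fun i hi => by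
        rw [D.p_mul ha.1 hb.1, Perm.mul_apply, hb.2.2 i hi, ha.2.2 i hi]⟩
      inv_mem' := fun {a} ha => ⟨ha.1.inv_left, ha.2.1.inv_left, fun i hi => by
        rw [D.p_inv ha.1]; exact Perm.inv_eq_iff_eq.2 (ha.2.2 i hi).symm⟩ }
  have hle : ncl z u x ≤ K := by
    refine (Subgroup.closure_le K).2 ?_
    rintro m ⟨y, hy, hyu, rfl⟩
    refine ⟨(hy.mul_left hx).mul_left hy.inv_left, (hyu.mul_left hxu).mul_left hyu.inv_left,
      fun i hi => ?_⟩
    have hj : D.p u ((D.p y)⁻¹ i) ≠ (D.p y)⁻¹ i := fun e => hi (by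
      have := congrArg (D.p y) e
      rwa [D.p_comm hu hy hyu, Perm.coe_inv, Equiv.apply_symm_apply] at this)
    rw [D.p_conj hx hy, Perm.mul_apply, Perm.mul_apply, hfix _ hj, Perm.coe_inv,
      Equiv.apply_symm_apply]
  obtain ⟨a, ha⟩ := hσ
  exact ha ((hle h).2.2 a ha)

omit hu1 huz in
/-- The lift of a product of two transpositions of `u` centralises `u`. -/
theorem DC.exists_flip {a b : Fin n} (ha : D.p u a ≠ a) (hb : D.p u b ≠ b) (h1 : a ≠ b)
    (h2 : a ≠ D.p u b) :
    ∃ e, Commute e z ∧ Commute e u ∧ D.p e = swap a (D.p u a) * swap b (D.p u b) := by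
  have hσ := D.p_invol hu hu2
  set σ := D.p u with hσd
  have h3 : σ a ≠ b := fun e => h2 (by rw [← e, hσ])
  have h4 : σ a ≠ σ b := fun e => h1 (σ.injective e)
  obtain ⟨e, hec, he⟩ := D.exists_lift (σ := swap a (σ a) * swap b (σ b))
    (swaps_mem _ _ _ _ (Ne.symm ha) (Ne.symm hb))
  refine ⟨e, hec, ?_, he⟩
  have hwc : Commute (e⁻¹ * u) z := hec.inv_left.mul_left hu
  have hd : Perm.Disjoint (D.p e) (D.p (e⁻¹ * u)) := by
    intro i
    by_cases hi : i = a ∨ i = σ a ∨ i = b ∨ i = σ b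
    · refine Or.inr ?_
      rw [D.p_mul hec.inv_left hu, D.p_inv hec, Perm.mul_apply, ← hσd]
      apply Perm.inv_eq_iff_eq.2
      rw [he, Perm.mul_apply]
      rcases hi with rfl | rfl | rfl | rfl
      · rw [swap_apply_of_ne_of_ne h1 h2, swap_apply_left]
      · rw [hσ, swap_apply_of_ne_of_ne h3 h4, swap_apply_right]
      · rw [swap_apply_left, swap_apply_of_ne_of_ne (Ne.symm h2) (Ne.symm h4)]
      · rw [hσ, swap_apply_right, swap_apply_of_ne_of_ne (Ne.symm h1) (Ne.symm h3)]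
    · push Not at hi
      refine Or.inl ?_
      rw [he, Perm.mul_apply, swap_apply_of_ne_of_ne hi.2.2.1 hi.2.2.2,
        swap_apply_of_ne_of_ne hi.1 hi.2.1]
  have := (Commute.refl e).mul_right (D.comm_disjoint hec hwc hd)
  rwa [mul_inv_cancel_left] at this

include D in
/-- If a normal closure of an element of order 3 contains `u`, it contains `z`. -/
theorem DC.z_mem_ncl {x : G} (hx : Commute x z) (hxu : Commute x u) (hx3 : x ^ 3 = 1)
    (hmem : u ∈ ncl z u x) : z ∈ ncl z u x := by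
  have hσ := D.p_invol hu hu2
  set σ := D.p u with hσd
  set f := D.p x with hfd
  have hf3 : ∀ i, f (f (f i)) = i := fun i => by
    have h := congrArg D.p hx3
    rw [D.p_pow hx, D.p_one] at h
    simpa [pow_succ] using Equiv.congr_fun h i
  have hfσ : ∀ i, f (σ i) = σ (f i) := D.p_comm hu hx hxu
  obtain ⟨a, ha, h1, h2⟩ : ∃ a, σ a ≠ a ∧ f a ≠ a ∧ f a ≠ σ a := by
    by_contra hno
    refine D.notMem_of_fix hu hu1 huz hx hxu (fun a ha => ?_) (D.exists_moved hu hu2 hu1 huz) hmem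
    by_contra hfa
    have hfs : f a = σ a := by
      by_contra hfs
      exact hno ⟨a, ha, hfa, hfs⟩
    have : f (f a) = a := by rw [hfs, hfσ, hfs, hσ]
    have h3 := hf3 a
    rw [this] at h3
    exact hfa h3
  set b := f a with hb
  set c := f b with hc
  have hca : f c = a := hf3 a
  have hab : a ≠ b := Ne.symm h1
  have hasb : a ≠ σ b := fun e => h2 (by rw [e, hσ])
  have hbc : b ≠ c := fun e => hab (f.injective e)
  have hbsc : b ≠ σ c := fun e => hasb (f.injective (by rw [← hb, hfσ, ← hc]; exact e))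
  have hcb : σ b ≠ c := fun e => hbsc (by rw [← e, hσ])
  have hac : a ≠ c := fun e => by
    rw [← e] at hca
    exact h1 hca
  have hsac : σ a ≠ c := fun e => by
    have h := hca
    rw [← e, hfσ, ← hb] at h
    exact hasb h.symm
  have hasc : a ≠ σ c := fun e => hsac (by rw [e, hσ])
  have hsab : σ a ≠ b := Ne.symm h2
  have hbm : σ b ≠ b := fun e => ha (f.injective (by rw [hfσ, ← hb, e]))
  have hcm : σ c ≠ c := fun e => hbm (f.injective (by rw [hfσ, ← hc, e]))
  obtain ⟨e, hez, heu, he⟩ := D.exists_flip hu hu2 ha hbm hab hasb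
  set m := x * (e * x⁻¹ * e⁻¹) with hm
  have hmN : m ∈ ncl z u x :=
    mul_mem (self_mem_ncl z u x) (conj_mem_ncl hez heu (inv_mem (self_mem_ncl z u x)))
  have hmz : Commute m z := hx.mul_left ((hez.mul_left hx.inv_left).mul_left hez.inv_left)
  have conjswap : ∀ i j, f * swap i j * f⁻¹ = swap (f i) (f j) := fun i j =>
    (Equiv.swap_apply_apply f i j).symm
  have hdab : swap a (σ a) * swap b (σ b) = swap b (σ b) * swap a (σ a) :=
    (swaps_disjoint hab hasb hsab (fun h => hab (σ.injective h))).commute.eq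
  have hpm : D.p m = swap c (σ c) * swap a (σ a) := by
    rw [hm, show x * (e * x⁻¹ * e⁻¹) = (x * e * x⁻¹) * e⁻¹ by group,
      D.p_mul ((hx.mul_left hez).mul_left hx.inv_left) hez.inv_left, D.p_conj hez hx, D.p_inv hez,
      he, ← hfd, show f * (swap a (σ a) * swap b (σ b)) * f⁻¹ =
        (f * swap a (σ a) * f⁻¹) * (f * swap b (σ b) * f⁻¹) by group, conjswap, conjswap, hfσ,
      hfσ, ← hb, ← hc, mul_inv_rev, swap_inv, swap_inv,
      (swaps_disjoint hbc hbsc hcb (fun h => hbc (σ.injective h))).commute.eq, mul_assoc,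
      ← mul_assoc (swap b (σ b)), swap_mul_self, one_mul]
  set m2 := x * m * x⁻¹ with hm2
  have hm2N : m2 ∈ ncl z u x := conj_mem_ncl hx hxu hmN
  have hm2z : Commute m2 z := (hx.mul_left hmz).mul_left hx.inv_left
  have hpm2 : D.p m2 = swap a (σ a) * swap b (σ b) := by
    rw [hm2, D.p_conj hmz hx, hpm, ← hfd, show f * (swap c (σ c) * swap a (σ a)) * f⁻¹ =
        (f * swap c (σ c) * f⁻¹) * (f * swap a (σ a) * f⁻¹) by group, conjswap, conjswap, hfσ,
      hfσ, hca, ← hb]
  have hsasc : σ a ≠ σ c := fun h => hac (σ.injective h)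
  have hprod : D.p m * D.p m2 = swap c (σ c) * swap b (σ b) := by
    rw [hpm, hpm2, mul_assoc, ← mul_assoc (swap a (σ a)), swap_mul_self, one_mul]
  have key := D.anti3 hmz hm2z
    (hpm ▸ isDTP_swaps (Ne.symm hcm) (Ne.symm ha) (Ne.symm hac) (Ne.symm hsac)
      (Ne.symm hasc) (Ne.symm hsasc))
    (hpm2 ▸ isDTP_swaps (Ne.symm ha) (Ne.symm hbm) hab hasb hsab (fun h => hab (σ.injective h)))
    (hprod ▸ isDTP_swaps (Ne.symm hcm) (Ne.symm hbm) (Ne.symm hbc) (Ne.symm hcb)
      (Ne.symm hbsc) (fun h => hbc (σ.injective h).symm))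
  have hz' : m * m2 * (m2 * m)⁻¹ = z := by rw [key]; group
  have := mul_mem (mul_mem hmN hm2N) (inv_mem (mul_mem hm2N hmN))
  rwa [hz'] at this

include D in
/-- With four fixed points there is an element of order 3 whose closure separates `z` from `u`. -/
theorem DC.exists_separating (h4 : (D.p u).support.card + 4 ≤ n) :
    ∃ x, x ^ 3 = 1 ∧ Commute x z ∧ Commute x u ∧ z ∈ ncl z u x ∧ u ∉ ncl z u x := by
  classical
  set σ := D.p u with hσd
  have hF : 4 ≤ (σ.supportᶜ).card := by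
    rw [Finset.card_compl, Fintype.card_fin]; omega
  obtain ⟨T, hTsub, hT⟩ := Finset.exists_subset_card_eq hF
  obtain ⟨a, b, c, d, hab, hac, had, hbc, hbd, hcd, rfl⟩ :
      ∃ a b c d, a ≠ b ∧ a ≠ c ∧ a ≠ d ∧ b ≠ c ∧ b ≠ d ∧ c ≠ d ∧ T = {a, b, c, d} := by
    obtain ⟨a, T1, ha, rfl, hT1⟩ := Finset.card_eq_succ.1 hT
    obtain ⟨b, c, d, hbc, hbd, hcd, rfl⟩ := Finset.card_eq_three.1 hT1
    simp only [Finset.mem_insert, Finset.mem_singleton, not_or] at ha
    exact ⟨a, b, c, d, ha.1, ha.2.1, ha.2.2, hbc, hbd, hcd, rfl⟩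
  have hfix : ∀ i, i = a ∨ i = b ∨ i = c ∨ i = d → σ i = i := fun i hi => by
    have : i ∈ σ.supportᶜ := hTsub (by simpa using hi)
    simpa using this
  set τ := swap a b * swap b c with hτ
  have τa : τ a = b := by
    rw [hτ, Perm.mul_apply, swap_apply_of_ne_of_ne hab hac, swap_apply_left]
  have τb : τ b = c := by
    rw [hτ, Perm.mul_apply, swap_apply_left, swap_apply_of_ne_of_ne (Ne.symm hac) (Ne.symm hbc)]
  have τc : τ c = a := by rw [hτ, Perm.mul_apply, swap_apply_right, swap_apply_right]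
  have τo : ∀ i, i ≠ a → i ≠ b → i ≠ c → τ i = i := fun i x1 x2 x3 => by
    rw [hτ, Perm.mul_apply, swap_apply_of_ne_of_ne x2 x3, swap_apply_of_ne_of_ne x1 x2]
  have hτ3 : τ ^ 3 = 1 := by
    ext i
    congr 1
    simp only [pow_succ, pow_zero, one_mul, Perm.mul_apply, Perm.one_apply]
    by_cases x1 : i = a
    · subst x1; rw [τa, τb, τc]
    by_cases x2 : i = b
    · subst x2; rw [τb, τc, τa]
    by_cases x3 : i = c
    · subst x3; rw [τc, τa, τb]
    rw [τo i x1 x2 x3, τo i x1 x2 x3, τo i x1 x2 x3]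
  obtain ⟨x, hxz, hx3, hx⟩ := D.exists_lift_three hτ3
  have hdis : Perm.Disjoint σ τ := fun i => by
    by_cases h : i = a ∨ i = b ∨ i = c
    · exact Or.inl (hfix i (by tauto))
    · push Not at h; exact Or.inr (τo i h.1 h.2.1 h.2.2)
  have hxu : Commute x u :=
    (D.comm_three hu hxz (by rw [hx]; exact hdis.commute) (by rw [hx]; exact hτ3)).symm
  refine ⟨x, hx3, hxz, hxu, ?_, D.notMem_of_fix hu hu1 huz hxz hxu (fun i hi => ?_)
    (D.exists_moved hu hu2 hu1 huz)⟩
  swap
  · rw [hx]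
    exact (hdis i).resolve_left hi
  obtain ⟨e, hez, he⟩ := D.exists_lift (σ := swap a b * swap c d) (swaps_mem _ _ _ _ hab hcd)
  have heu : Commute e u := by
    refine D.comm_disjoint hez hu fun i => ?_
    by_cases h : i = a ∨ i = b ∨ i = c ∨ i = d
    · exact Or.inr (hfix i h)
    · push Not at h
      refine Or.inl ?_
      rw [he, Perm.mul_apply, swap_apply_of_ne_of_ne h.2.2.1 h.2.2.2,
        swap_apply_of_ne_of_ne h.1 h.2.1]
  set m := x * (e * x⁻¹ * e⁻¹) with hm
  have hmN : m ∈ ncl z u x :=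
    mul_mem (self_mem_ncl z u x) (conj_mem_ncl hez heu (inv_mem (self_mem_ncl z u x)))
  have hmz : Commute m z := hxz.mul_left ((hez.mul_left hxz.inv_left).mul_left hez.inv_left)
  have hpm : D.p m = swap a c * swap b d := by
    rw [hm, D.p_mul hxz ((hez.mul_left hxz.inv_left).mul_left hez.inv_left),
      D.p_conj hxz.inv_left hez, D.p_inv hxz, hx, he]
    set ε := swap a b * swap c d with hε
    rw [show τ * (ε * τ⁻¹ * ε⁻¹) = τ * ε * τ⁻¹ * ε⁻¹ by group, mul_inv_eq_iff_eq_mul,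
      mul_inv_eq_iff_eq_mul]
    ext i
    congr 1
    simp only [hε, Perm.mul_apply]
    by_cases x1 : i = a
    · subst x1; simp [τa, τb, τc, swap_apply_def, hab, hac, had, hbc, hbd, hcd, Ne.symm hab,
        Ne.symm hac, Ne.symm had, Ne.symm hbc, Ne.symm hbd, Ne.symm hcd]
    by_cases x2 : i = b
    · subst x2; simp [τa, τb, τc, swap_apply_def, hab, hac, had, hbc, hbd, hcd, Ne.symm hab,
        Ne.symm hac, Ne.symm had, Ne.symm hbc, Ne.symm hbd, Ne.symm hcd]
    by_cases x3 : i = c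
    · rw [x3]; simp [τa, τo d (Ne.symm had) (Ne.symm hbd) (Ne.symm hcd), τc, swap_apply_def, hab,
        hac, had, hbc, hbd, hcd, Ne.symm hab,
        Ne.symm hac, Ne.symm had, Ne.symm hbc, Ne.symm hbd, Ne.symm hcd]
    by_cases x4 : i = d
    · rw [x4]; simp [τc, τo d (Ne.symm had) (Ne.symm hbd) (Ne.symm hcd), swap_apply_def, hab, hac,
        had, hbc, hbd, hcd, Ne.symm hab,
        Ne.symm hac, Ne.symm had, Ne.symm hbc, Ne.symm hbd, Ne.symm hcd]
    simp [swap_apply_of_ne_of_ne, τo, x1, x2, x3, x4]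
  have hmm := D.dt_sq hmz (hpm ▸ isDTP_swaps hac hbd hab had (Ne.symm hbc) hcd)
  have := mul_mem hmN hmN
  rwa [hmm] at this

omit hu1 huz in
/-- An element of order 3 cycling three pairs of `u`. -/
theorem DC.exists_pair_cycle {a r s : Fin n} (ha : D.p u a ≠ a) (hr : D.p u r ≠ r)
    (hs : D.p u s ≠ s) (har : ¬ Pr (D.p u) a r) (has : ¬ Pr (D.p u) a s)
    (hrs : ¬ Pr (D.p u) r s) :
    ∃ x, Commute x z ∧ Commute x u ∧ D.p x a = r ∧ D.p x r = s ∧ D.p x s = a ∧
      ∀ i, ¬ Pr (D.p u) a i → ¬ Pr (D.p u) r i → ¬ Pr (D.p u) s i → D.p x i = i := by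
  have hσ := D.p_invol hu hu2
  set σ := D.p u with hσd
  simp only [Pr, not_or] at har has hrs
  have har' : σ a ≠ r := Ne.symm har.2
  have has' : σ a ≠ s := Ne.symm has.2
  have hrs' : σ r ≠ s := Ne.symm hrs.2
  have hra : a ≠ σ r := fun e => har.2 (by rw [e, hσ])
  have hsa : a ≠ σ s := fun e => has.2 (by rw [e, hσ])
  have hsr : r ≠ σ s := fun e => hrs.2 (by rw [e, hσ])
  have h1 : σ a ≠ σ r := fun e => har.1 (σ.injective e).symm
  have h2 : σ a ≠ σ s := fun e => has.1 (σ.injective e).symm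
  have h3 : σ r ≠ σ s := fun e => hrs.1 (σ.injective e).symm
  have n1 : a ≠ r := Ne.symm har.1
  have n2 : a ≠ s := Ne.symm has.1
  have n3 : r ≠ s := Ne.symm hrs.1
  set τ := swap a r * swap r s * (swap (σ a) (σ r) * swap (σ r) (σ s)) with hτ
  have τa : τ a = r := by
    rw [hτ, Perm.mul_apply, Perm.mul_apply, Perm.mul_apply,
      swap_apply_of_ne_of_ne hra hsa, swap_apply_of_ne_of_ne (Ne.symm ha) hra,
      swap_apply_of_ne_of_ne n1 n2, swap_apply_left]
  have τr : τ r = s := by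
    rw [hτ, Perm.mul_apply, Perm.mul_apply, Perm.mul_apply,
      swap_apply_of_ne_of_ne (Ne.symm hr) hsr, swap_apply_of_ne_of_ne (Ne.symm har') (Ne.symm hr),
      swap_apply_left, swap_apply_of_ne_of_ne (Ne.symm n2) (Ne.symm n3)]
  have τs : τ s = a := by
    rw [hτ, Perm.mul_apply, Perm.mul_apply, Perm.mul_apply,
      swap_apply_of_ne_of_ne (Ne.symm hrs') (Ne.symm hs),
      swap_apply_of_ne_of_ne (Ne.symm has') (Ne.symm hrs'), swap_apply_right, swap_apply_right]
  have τa' : τ (σ a) = σ r := by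
    rw [hτ, Perm.mul_apply, Perm.mul_apply, Perm.mul_apply, swap_apply_of_ne_of_ne h1 h2,
      swap_apply_left, swap_apply_of_ne_of_ne hr hrs', swap_apply_of_ne_of_ne (Ne.symm hra) hr]
  have τr' : τ (σ r) = σ s := by
    rw [hτ, Perm.mul_apply, Perm.mul_apply, Perm.mul_apply, swap_apply_left,
      swap_apply_of_ne_of_ne (Ne.symm h2) (Ne.symm h3),
      swap_apply_of_ne_of_ne (Ne.symm hsr) hs, swap_apply_of_ne_of_ne (Ne.symm hsa) (Ne.symm hsr)]
  have τs' : τ (σ s) = σ a := by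
    rw [hτ, Perm.mul_apply, Perm.mul_apply, Perm.mul_apply, swap_apply_right, swap_apply_right,
      swap_apply_of_ne_of_ne har' has', swap_apply_of_ne_of_ne ha har']
  have τo : ∀ i, i ≠ a → i ≠ r → i ≠ s → i ≠ σ a → i ≠ σ r → i ≠ σ s → τ i = i := by
    intro i x1 x2 x3 x4 x5 x6
    rw [hτ, Perm.mul_apply, Perm.mul_apply, Perm.mul_apply, swap_apply_of_ne_of_ne x5 x6,
      swap_apply_of_ne_of_ne x4 x5, swap_apply_of_ne_of_ne x2 x3, swap_apply_of_ne_of_ne x1 x2]
  have hcomm : ∀ i, τ (σ i) = σ (τ i) := by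
    intro i
    by_cases x1 : i = a
    · rw [x1, τa', τa]
    by_cases x2 : i = r
    · rw [x2, τr', τr]
    by_cases x3 : i = s
    · rw [x3, τs', τs]
    by_cases x4 : i = σ a
    · rw [x4, hσ, τa, τa', hσ]
    by_cases x5 : i = σ r
    · rw [x5, hσ, τr, τr', hσ]
    by_cases x6 : i = σ s
    · rw [x6, hσ, τs, τs', hσ]
    rw [τo i x1 x2 x3 x4 x5 x6, τo (σ i) (fun e => x4 (by rw [← e, hσ]))
      (fun e => x5 (by rw [← e, hσ])) (fun e => x6 (by rw [← e, hσ]))
      (fun e => x1 (σ.injective e)) (fun e => x2 (σ.injective e)) (fun e => x3 (σ.injective e))]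
  have hτ3 : τ ^ 3 = 1 := by
    refine Equiv.ext fun i => ?_
    rw [pow_succ, pow_two, Perm.mul_apply, Perm.mul_apply, Perm.one_apply]
    by_cases x1 : i = a
    · rw [x1, τa, τr, τs]
    by_cases x2 : i = r
    · rw [x2, τr, τs, τa]
    by_cases x3 : i = s
    · rw [x3, τs, τa, τr]
    by_cases x4 : i = σ a
    · rw [x4, τa', τr', τs']
    by_cases x5 : i = σ r
    · rw [x5, τr', τs', τa']
    by_cases x6 : i = σ s
    · rw [x6, τs', τa', τr']
    rw [τo i x1 x2 x3 x4 x5 x6, τo i x1 x2 x3 x4 x5 x6, τo i x1 x2 x3 x4 x5 x6]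
  obtain ⟨x, hxz, -, hx⟩ := D.exists_lift_three hτ3
  refine ⟨x, hxz, (D.comm_three hu hxz (Equiv.ext fun i => ?_) (by rw [hx]; exact hτ3)).symm,
    by rw [hx, τa], by rw [hx, τr], by rw [hx, τs], fun i i1 i2 i3 => ?_⟩
  · rw [Perm.mul_apply, Perm.mul_apply, hx, ← hσd, hcomm]
  · rw [hx]
    simp only [Pr, not_or] at i1 i2 i3
    exact τo i i1.1 i2.1 i3.1 i1.2 i2.2 i3.2

section Normal

variable {N : Subgroup G} (hN : ∀ y ∈ N, Commute y z ∧ Commute y u)
  (hNn : ∀ g, Commute g z → Commute g u → ∀ y ∈ N, g * y * g⁻¹ ∈ N) (hN2 : IsPGroup 2 N)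
include hN hNn hN2

omit hu1 huz in
/-- An element of a normal 2-subgroup fixing two pairs cannot move a pair. -/
theorem DC.no_move {y : G} (hy : y ∈ N) {a r s : Fin n} (ha : D.p u a ≠ a) (hr : D.p u r ≠ r)
    (hs : D.p u s ≠ s) (hab : ¬ Pr (D.p u) a (D.p y a)) (hrr : Pr (D.p u) r (D.p y r))
    (hss : Pr (D.p u) s (D.p y s)) (hrs : ¬ Pr (D.p u) r s) : False := by
  have hσ := D.p_invol hu hu2
  obtain ⟨hyz, hyu⟩ := hN y hy
  set σ := D.p u with hσd
  have hycomm := D.p_comm hu hyz hyu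
  rw [← hσd] at hycomm
  have hyc' := comm_inv hycomm
  have sym := fun {i j : Fin n} (h : Pr σ i j) => pr_symm hσ h
  have tr := fun {i j k : Fin n} (h : Pr σ i j) (h' : Pr σ j k) => pr_trans hσ h h'
  set b := D.p y a with hb
  have nfix : ∀ t, Pr σ t (D.p y t) → ¬ Pr σ a t ∧ ¬ Pr σ b t := by
    intro t ht
    refine ⟨fun h => hab ?_, fun h => hab ?_⟩
    · exact tr h (tr ht (sym (pr_map hycomm h)))
    · have h1 : Pr σ (D.p y a) (D.p y t) := tr h ht
      have h2 : Pr σ a t := by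
        have := pr_map hyc' h1
        simpa using this
      exact tr h2 (sym h)
  have har := (nfix r hrr).1
  have has := (nfix s hss).1
  have hbr := (nfix r hrr).2
  have hbs := (nfix s hss).2
  obtain ⟨x, hxz, hxu, xa, xr, xs, xo⟩ := D.exists_pair_cycle hu hu2 ha hr hs har has hrs
  have hxcomm := D.p_comm hu hxz hxu
  rw [← hσd] at hxcomm
  have hxc' := comm_inv hxcomm
  set m := x * y * x⁻¹ * y⁻¹ with hm
  have hmN : m ∈ N := mul_mem (hNn x hxz hxu y hy) (inv_mem hy)
  obtain ⟨hmz, hmu⟩ := hN m hmN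
  have hmcomm := D.p_comm hu hmz hmu
  rw [← hσd] at hmcomm
  have hf : ∀ i, D.p m i = D.p x (D.p y ((D.p x)⁻¹ ((D.p y)⁻¹ i))) := fun i => by
    rw [hm, D.p_mul ((hxz.mul_left hyz).mul_left hxz.inv_left) hyz.inv_left, D.p_conj hyz hxz,
      D.p_inv hyz, Perm.mul_apply, Perm.mul_apply, Perm.mul_apply]
  have xinv : ∀ {i j}, D.p x i = j → (D.p x)⁻¹ j = i := fun h =>
    Perm.inv_eq_iff_eq.2 h.symm
  have xb : D.p x b = b := xo b (fun h => hab h) (fun h => hbr (sym h)) (fun h => hbs (sym h))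
  have fb : Pr σ a (D.p m b) := by
    rw [hf, show (D.p y)⁻¹ b = a from Perm.inv_eq_iff_eq.2 hb, xinv xs]
    have := pr_map hxcomm hss
    rwa [xs] at this
  have fa : Pr σ r (D.p m a) := by
    set a' := (D.p y)⁻¹ a with ha'
    have hya' : D.p y a' = a := by rw [ha', Perm.coe_inv, Equiv.apply_symm_apply]
    have x1 : ¬ Pr σ a a' := fun h => hab (by
      have := pr_map hycomm h
      rw [hya', ← hb] at this
      exact sym this)
    have x2 : ¬ Pr σ r a' := fun h => har (by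
      have := pr_map hycomm h
      rw [hya'] at this
      exact sym (tr hrr this))
    have x3 : ¬ Pr σ s a' := fun h => has (by
      have := pr_map hycomm h
      rw [hya'] at this
      exact sym (tr hss this))
    rw [hf, xinv (xo a' x1 x2 x3), hya', xa]
    exact Or.inl rfl
  have fr : Pr σ b (D.p m r) := by
    have h1 : Pr σ r ((D.p y)⁻¹ r) := by
      have := pr_map hyc' hrr
      simp only [Perm.coe_inv, Equiv.symm_apply_apply] at this
      exact sym this
    have h2 := pr_map hxcomm (pr_map hycomm (pr_map hxc' h1))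
    rwa [xinv xa, ← hb, xb, ← hf] at h2
  -- so `p m` permutes three pairs cyclically
  have step : ∀ k : ℕ, Pr σ (if k % 3 = 0 then b else if k % 3 = 1 then a else r)
      ((D.p m ^ k) b) := by
    intro k
    induction k with
    | zero => rw [pow_zero, Perm.one_apply]; exact Or.inl rfl
    | succ k ih =>
      rw [pow_succ', Perm.mul_apply]
      have h := pr_map hmcomm ih
      rcases (show k % 3 = 0 ∨ k % 3 = 1 ∨ k % 3 = 2 by omega) with e | e | e <;>
        simp only [e, show (k + 1) % 3 = ((k % 3) + 1) % 3 by omega, one_ne_zero, if_false,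
          if_true, show (2 : ℕ) ≠ 0 by omega, show (2 : ℕ) ≠ 1 by omega, Nat.reduceMod,
          Nat.reduceAdd, OfNat.ofNat_ne_zero, OfNat.ofNat_ne_one] at h ⊢
      · exact tr fb h
      · exact tr fa h
      · exact tr fr h
  obtain ⟨j, hj⟩ := hN2 ⟨m, hmN⟩
  have hmj : D.p m ^ (2 ^ j) = 1 := by
    rw [← D.p_pow hmz, show m ^ 2 ^ j = 1 from congrArg Subtype.val hj, D.p_one]
  have h := step (2 ^ j)
  rw [hmj, Perm.one_apply] at h
  have h3 : (2 ^ j) % 3 ≠ 0 := fun e => by
    have := (Nat.prime_three.dvd_of_dvd_pow (Nat.dvd_of_mod_eq_zero e))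
    omega
  rw [if_neg h3] at h
  split_ifs at h
  · exact hab h
  · exact hbr (sym h)

omit hu1 huz in
/-- With at least eight pairs, a normal 2-subgroup preserves every pair. -/
theorem DC.pr_of_normal (h16 : 16 ≤ (D.p u).support.card) {y : G} (hy : y ∈ N) {a : Fin n}
    (ha : D.p u a ≠ a) : Pr (D.p u) a (D.p y a) := by
  classical
  have hσ := D.p_invol hu hu2
  obtain ⟨hyz, hyu⟩ := hN y hy
  set σ := D.p u with hσd
  have hycomm := D.p_comm hu hyz hyu
  rw [← hσd] at hycomm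
  have sym := fun {i j : Fin n} (h : Pr σ i j) => pr_symm hσ h
  by_contra hab
  set b := D.p y a with hb
  have pick : ∀ S : Finset (Fin n), S.card < 16 → ∃ i, σ i ≠ i ∧ i ∉ S := fun S hS => by
    obtain ⟨i, hi, hiS⟩ := Finset.exists_mem_notMem_of_card_lt_card (lt_of_lt_of_le hS h16)
    exact ⟨i, mem_support.1 hi, hiS⟩
  obtain ⟨r, hr, hrS⟩ := pick {a, σ a, b, σ b} (lt_of_le_of_lt Finset.card_le_four (by norm_num))
  simp only [Finset.mem_insert, Finset.mem_singleton, not_or] at hrS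
  obtain ⟨s, hs, hsS⟩ := pick ({a, σ a, b, σ b} ∪ {r, σ r})
    (lt_of_le_of_lt ((Finset.card_union_le _ _).trans
      (add_le_add Finset.card_le_four Finset.card_le_two)) (by norm_num))
  simp only [Finset.mem_union, Finset.mem_insert, Finset.mem_singleton, not_or] at hsS
  have har : ¬ Pr σ a r := not_or.2 ⟨hrS.1, hrS.2.1⟩
  have hbr : ¬ Pr σ b r := not_or.2 ⟨hrS.2.2.1, hrS.2.2.2⟩
  have has : ¬ Pr σ a s := not_or.2 ⟨hsS.1.1, hsS.1.2.1⟩
  have hbs : ¬ Pr σ b s := not_or.2 ⟨hsS.1.2.2.1, hsS.1.2.2.2⟩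
  have hrs : ¬ Pr σ r s := not_or.2 ⟨hsS.2.1, hsS.2.2⟩
  obtain ⟨x, hxz, hxu, xa, xr, xs, xo⟩ := D.exists_pair_cycle hu hu2 ha hr hs har has hrs
  set m := x * y * x⁻¹ * y⁻¹ with hm
  have hmN : m ∈ N := mul_mem (hNn x hxz hxu y hy) (inv_mem hy)
  have hf : ∀ i, D.p m i = D.p x (D.p y ((D.p x)⁻¹ ((D.p y)⁻¹ i))) := fun i => by
    rw [hm, D.p_mul ((hxz.mul_left hyz).mul_left hxz.inv_left) hyz.inv_left, D.p_conj hyz hxz,
      D.p_inv hyz, Perm.mul_apply, Perm.mul_apply, Perm.mul_apply]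
  have xb : D.p x b = b := xo b hab (fun h => hbr (sym h)) (fun h => hbs (sym h))
  set a₁ := D.p y r with ha₁
  have ha₁m : σ a₁ ≠ a₁ := moved_map hycomm hr
  have hmove : ¬ Pr σ a₁ (D.p m a₁) := by
    rw [hf, show (D.p y)⁻¹ a₁ = r from Perm.inv_eq_iff_eq.2 ha₁,
      show (D.p x)⁻¹ r = a from Perm.inv_eq_iff_eq.2 xa.symm, ← hb, xb]
    intro h
    refine har ?_
    have := pr_map (comm_inv hycomm) h
    rw [show (D.p y)⁻¹ a₁ = r from Perm.inv_eq_iff_eq.2 ha₁,
      show (D.p y)⁻¹ b = a from Perm.inv_eq_iff_eq.2 hb] at this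
    exact sym this
  set six : Finset (Fin n) := {a, σ a, r, σ r, s, σ s} with hsix
  have hsix6 : six.card ≤ 6 := Finset.card_le_six
  set S := six ∪ six.image (D.p y) with hS
  have hS12 : S.card ≤ 12 := (Finset.card_union_le _ _).trans
    (by have := Finset.card_image_le (s := six) (f := D.p y); omega)
  have xo' : ∀ i, i ∉ six → D.p x i = i := fun i hi => by
    simp only [hsix, Finset.mem_insert, Finset.mem_singleton, not_or] at hi
    exact xo i (not_or.2 ⟨hi.1, hi.2.1⟩) (not_or.2 ⟨hi.2.2.1, hi.2.2.2.1⟩)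
      (not_or.2 ⟨hi.2.2.2.2.1, hi.2.2.2.2.2⟩)
  have hfixS : ∀ i, i ∉ S → D.p m i = i := fun i hi => by
    simp only [hS, Finset.mem_union, not_or] at hi
    have h1 : (D.p y)⁻¹ i ∉ six := fun h => hi.2 (Finset.mem_image.2
      ⟨_, h, by rw [Perm.coe_inv, Equiv.apply_symm_apply]⟩)
    rw [hf, show (D.p x)⁻¹ ((D.p y)⁻¹ i) = (D.p y)⁻¹ i from
      Perm.inv_eq_iff_eq.2 (xo' _ h1).symm]
    simp only [Perm.coe_inv, Equiv.apply_symm_apply]
    exact xo' i hi.1
  obtain ⟨r', hr', hr'S⟩ := pick S (by omega)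
  obtain ⟨s', hs', hs'S⟩ := pick (S ∪ {r', σ r'}) (by
    have := Finset.card_union_le S {r', σ r'}
    have := Finset.card_le_two (a := r') (b := σ r')
    omega)
  simp only [Finset.mem_union, Finset.mem_insert, Finset.mem_singleton, not_or] at hs'S
  exact D.no_move hu hu2 hN hNn hN2 hmN ha₁m hr' hs' hmove (Or.inl (hfixS r' hr'S))
    (Or.inl (hfixS s' hs'S.1)) (not_or.2 ⟨hs'S.2.1, hs'S.2.2⟩)

/-- Few fixed points and many pairs: a normal 2-subgroup has `u` outside its derived group. -/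
theorem DC.notMem_commutator (h16 : 16 ≤ (D.p u).support.card)
    (h3 : n ≤ (D.p u).support.card + 3) : u ∉ ⁅N, N⁆ := by
  classical
  have hσ := D.p_invol hu hu2
  set σ := D.p u with hσd
  let F := {i : Fin n // σ i = i}
  have hF : Fintype.card F ≤ 3 := by
    rw [Fintype.card_subtype]
    have : (Finset.univ.filter fun i => σ i = i) = σ.supportᶜ := by ext i; simp
    rw [this, Finset.card_compl, Fintype.card_fin]
    omega
  have hpres : ∀ y : N, ∀ i, σ (D.p y i) = D.p y i ↔ σ i = i := fun y i => by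
    have hc := D.p_comm hu (hN y y.2).1 (hN y y.2).2 i
    rw [← hσd] at hc
    rw [← hc]
    exact (D.p (y : G)).injective.eq_iff
  let θ : N →* Perm F :=
    { toFun := fun y => (D.p y).subtypePerm (hpres y)
      map_one' := by ext i; simp [D.p_one]
      map_mul' := fun y y' => by
        ext i
        simp [D.p_mul (hN y y.2).1 (hN y' y'.2).1] }
  have h2 : Nat.card θ.range ≤ 2 := by
    haveI : Fact (Nat.Prime 2) := ⟨Nat.prime_two⟩
    obtain ⟨k, hk⟩ := IsPGroup.iff_card.1 (hN2.of_surjective θ.rangeRestrict θ.rangeRestrict_surjective)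
    have hd : Nat.card θ.range ∣ 6 := by
      refine (Subgroup.card_subgroup_dvd_card _).trans ?_
      rw [Nat.card_perm, Nat.card_eq_fintype_card]
      exact Nat.factorial_dvd_factorial hF
    rw [hk] at hd ⊢
    rcases k with _ | _ | k
    · simp
    · simp
    · exfalso
      have h4 : 4 ∣ 2 ^ (k + 1 + 1) := ⟨2 ^ k, by ring⟩
      have := h4.trans hd
      omega
  have hcomm : ∀ y y' : N, θ y * θ y' = θ y' * θ y := fun y y' => by
    by_contra hne
    have h1 : θ y ≠ 1 := fun e => hne (by rw [e, one_mul, mul_one])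
    have h1' : θ y' ≠ 1 := fun e => hne (by rw [e, one_mul, mul_one])
    have hyy : θ y ≠ θ y' := fun e => hne (by rw [e])
    have : 3 ≤ Nat.card θ.range := by
      let e : Fin 3 → θ.range := ![1, ⟨θ y, y, rfl⟩, ⟨θ y', y', rfl⟩]
      have he : Function.Injective e := by
        intro i j h
        have h' := congrArg Subtype.val h
        fin_cases i <;> fin_cases j <;>
          simp [e, h1, h1', hyy, Ne.symm h1, Ne.symm h1', Ne.symm hyy] at h' ⊢
      simpa using Nat.card_le_card_of_injective e he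
    omega
  intro hmem
  have hle : ⁅N, N⁆ ≤ Subgroup.zpowers z := by
    rw [Subgroup.commutator_le]
    intro y hy y' hy'
    obtain ⟨hyz, hyu⟩ := hN y hy
    obtain ⟨hy'z, hy'u⟩ := hN y' hy'
    have hc : D.p y * D.p y' = D.p y' * D.p y := by
      ext i
      congr 1
      simp only [Perm.mul_apply]
      by_cases hi : σ i = i
      · exact congrArg (fun f : Perm F => (f ⟨i, hi⟩ : Fin n)) (hcomm ⟨y, hy⟩ ⟨y', hy'⟩)
      · rcases D.pr_of_normal hu hu2 hN hNn hN2 h16 hy hi with e | e <;>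
          rcases D.pr_of_normal hu hu2 hN hNn hN2 h16 hy' hi with e' | e' <;>
            simp only [e, e', D.p_comm hu hyz hyu i, D.p_comm hu hy'z hy'u i]
    have hp : D.p ⁅y, y'⁆ = 1 := by
      rw [commutatorElement_def, D.p_mul ((hyz.mul_left hy'z).mul_left hyz.inv_left) hy'z.inv_left,
        D.p_conj hy'z hyz, D.p_inv hy'z, hc]
      group
    have hcz : Commute ⁅y, y'⁆ z := by
      rw [commutatorElement_def]
      exact ((hyz.mul_left hy'z).mul_left hyz.inv_left).mul_left hy'z.inv_left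
    rcases (D.p_eq_one_iff hcz).1 hp with e | e <;> rw [e]
    exacts [one_mem _, Subgroup.mem_zpowers z]
  obtain ⟨k, hk⟩ := Subgroup.mem_zpowers_iff.1 (hle hmem)
  rcases Int.even_or_odd k with ⟨j, rfl⟩ | ⟨j, rfl⟩
  · rw [← two_mul, zpow_mul, zpow_two, D.sq, one_zpow] at hk
    exact hu1 hk.symm
  · rw [zpow_add, zpow_mul, zpow_two, D.sq, one_zpow, one_mul, zpow_one] at hk
    exact huz hk.symm

end Normal

include D in
/-- The flips form a normal 2-subgroup with `z` in its derived group. -/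
theorem DC.exists_normal (h6 : 6 ≤ (D.p u).support.card) :
    ∃ N : Subgroup G, (∀ y ∈ N, Commute y z ∧ Commute y u) ∧
      (∀ g, Commute g z → Commute g u → ∀ y ∈ N, g * y * g⁻¹ ∈ N) ∧ IsPGroup 2 N ∧
      z ∈ ⁅N, N⁆ := by
  classical
  have hσ := D.p_invol hu hu2
  set σ := D.p u with hσd
  let N : Subgroup G :=
    { carrier := {y | Commute y z ∧ Commute y u ∧ ∀ a, Pr σ a (D.p y a)}
      one_mem' := ⟨Commute.one_left _, Commute.one_left _, fun a => by
        rw [D.p_one]; exact Or.inl rfl⟩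
      mul_mem' := fun {a b} ha hb => ⟨ha.1.mul_left hb.1, ha.2.1.mul_left hb.2.1, fun i => by
        rw [D.p_mul ha.1 hb.1, Perm.mul_apply]
        exact pr_trans hσ (hb.2.2 i) (ha.2.2 _)⟩
      inv_mem' := fun {a} ha => ⟨ha.1.inv_left, ha.2.1.inv_left, fun i => by
        rw [D.p_inv ha.1]
        have := ha.2.2 ((D.p a)⁻¹ i)
        rw [Perm.coe_inv, Equiv.apply_symm_apply] at this
        exact pr_symm hσ this⟩ }
  have mem : ∀ y, y ∈ N ↔ Commute y z ∧ Commute y u ∧ ∀ a, Pr σ a (D.p y a) := fun y => Iff.rfl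
  refine ⟨N, fun y hy => ⟨hy.1, hy.2.1⟩, fun g hgz hgu y hy => ⟨(hgz.mul_left hy.1).mul_left
    hgz.inv_left, (hgu.mul_left hy.2.1).mul_left hgu.inv_left, fun i => ?_⟩, fun y => ?_, ?_⟩
  · rw [D.p_conj hy.1 hgz, Perm.mul_apply, Perm.mul_apply]
    have := pr_map (D.p_comm hu hgz hgu) (hy.2.2 ((D.p g)⁻¹ i))
    rwa [Perm.coe_inv, Equiv.apply_symm_apply] at this
  · obtain ⟨y, hy⟩ := y
    refine ⟨2, Subtype.ext ?_⟩
    show y ^ 2 ^ 2 = 1
    have h : D.p (y ^ 2) = 1 := by
      rw [D.p_pow hy.1, pow_two]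
      ext i
      congr 1
      rw [Perm.mul_apply, Perm.one_apply]
      have hc := D.p_comm hu hy.1 hy.2.1 i
      rcases hy.2.2 i with e | e <;> rw [e]
      · exact e
      · rw [hc, e]; exact hσ i
    rw [show 2 ^ 2 = 2 * 2 from rfl, pow_mul]
    rcases (D.p_eq_one_iff (hy.1.pow_left 2)).1 h with e | e <;> rw [e]
    · simp
    · rw [pow_two, D.sq]
  · have pick : ∀ S : Finset (Fin n), S.card < 6 → ∃ i, σ i ≠ i ∧ i ∉ S := fun S hS => by
      obtain ⟨i, hi, hiS⟩ := Finset.exists_mem_notMem_of_card_lt_card (lt_of_lt_of_le hS h6)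
      exact ⟨i, mem_support.1 hi, hiS⟩
    obtain ⟨a, ha⟩ := D.exists_moved hu hu2 hu1 huz
    obtain ⟨b, hb, hbS⟩ := pick {a, σ a} (lt_of_le_of_lt Finset.card_le_two (by norm_num))
    simp only [Finset.mem_insert, Finset.mem_singleton, not_or] at hbS
    obtain ⟨c, hc, hcS⟩ := pick {a, σ a, b, σ b} (lt_of_le_of_lt Finset.card_le_four (by norm_num))
    simp only [Finset.mem_insert, Finset.mem_singleton, not_or] at hcS
    have hab : a ≠ σ b := fun e => hbS.2 (by rw [e, hσ])
    have hac : a ≠ σ c := fun e => hcS.2.1 (by rw [e, hσ])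
    have hbc : b ≠ σ c := fun e => hcS.2.2.2 (by rw [e, hσ])
    obtain ⟨d, hdz, hdu, hd⟩ := D.exists_flip hu hu2 ha hb (Ne.symm hbS.1) hab
    obtain ⟨g, hgz, hgu, hg⟩ := D.exists_flip hu hu2 ha hc (Ne.symm hcS.1) hac
    have flipmem : ∀ {e : G} {i j : Fin n}, Commute e z → Commute e u → σ i ≠ i → σ j ≠ j →
        i ≠ j → i ≠ σ j → D.p e = swap i (σ i) * swap j (σ j) → e ∈ N := by
      intro e i j he heu hi hj hij hij' hp
      refine ⟨he, heu, fun k => ?_⟩
      rw [hp, Perm.mul_apply]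
      have h3 : σ i ≠ j := fun e => hij' (by rw [← e, hσ])
      have h4 : σ i ≠ σ j := fun e => hij (σ.injective e)
      by_cases k1 : k = i
      · subst k1
        rw [swap_apply_of_ne_of_ne hij hij', swap_apply_left]; exact Or.inr rfl
      by_cases k2 : k = σ i
      · subst k2
        rw [swap_apply_of_ne_of_ne h3 h4, swap_apply_right]; exact Or.inr (hσ i).symm
      by_cases k3 : k = j
      · subst k3
        rw [swap_apply_left, swap_apply_of_ne_of_ne (Ne.symm hij') (Ne.symm h4)]; exact Or.inr rfl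
      by_cases k4 : k = σ j
      · subst k4
        rw [swap_apply_right, swap_apply_of_ne_of_ne (Ne.symm hij) (Ne.symm h3)]
        exact Or.inr (hσ j).symm
      rw [swap_apply_of_ne_of_ne k3 k4, swap_apply_of_ne_of_ne k1 k2]; exact Or.inl rfl
    have hab2 : σ a ≠ b := Ne.symm hbS.2
    have hac2 : σ a ≠ c := Ne.symm hcS.2.1
    have hbc2 : σ b ≠ c := Ne.symm hcS.2.2.2
    have key := D.anti3 hdz hgz
      (hd ▸ isDTP_swaps (Ne.symm ha) (Ne.symm hb) (Ne.symm hbS.1) hab hab2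
        (fun e => hbS.1 (σ.injective e).symm))
      (hg ▸ isDTP_swaps (Ne.symm ha) (Ne.symm hc) (Ne.symm hcS.1) hac hac2
        (fun e => hcS.1 (σ.injective e).symm))
      (by
        rw [hd, hg, swaps_overlap (Ne.symm ha) (Ne.symm hb) (Ne.symm hbS.1) hab hab2
          (fun e => hbS.1 (σ.injective e).symm)]
        exact isDTP_swaps (Ne.symm hb) (Ne.symm hc) (Ne.symm hcS.2.2.1) hbc hbc2
          (fun e => hcS.2.2.1 (σ.injective e).symm))
    have hz : ⁅d, g⁆ = z := by
      rw [commutatorElement_def, key]; group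
    rw [← hz]
    exact Subgroup.commutator_mem_commutator
      (flipmem hdz hdu ha hb (Ne.symm hbS.1) hab hd)
      (flipmem hgz hgu ha hc (Ne.symm hcS.1) hac hg)

end

/-- Two commuting conjugate involutions with double cover centralisers force degree at most 11. -/
theorem DC.le_eleven {G : Type u} [Group G] {z u : G} {n : ℕ} (D : DC z n) (D' : DC u n)
    (h : Commute u z) (hne : u ≠ z) : n ≤ 11 := by
  by_contra hn
  have hu1 := D'.ne
  have hz1 := D.ne
  obtain ⟨h8d, h8, -⟩ := D'.card_support_invol h.symm D.sq hz1 (Ne.symm hne)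
  rcases Nat.lt_or_ge n ((D'.p z).support.card + 4) with hlt | hge
  · obtain ⟨N, h1, h2, h3, h4⟩ := D.exists_normal h D'.sq hu1 hne (by
      have := (D.card_support_invol h D'.sq hu1 hne).2.1
      omega)
    exact D'.notMem_commutator h.symm D.sq hz1 (Ne.symm hne) (fun y hy => (h1 y hy).symm)
      (fun g a b => h2 g b a) h3 (by omega) (by omega) h4
  · obtain ⟨x, hx3, hxu, hxz, hin, hout⟩ := D'.exists_separating h.symm D.sq hz1 (Ne.symm hne) hge
    rw [ncl_symm] at hin hout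
    exact hout (D.z_mem_ncl h D'.sq hu1 hne hxz hxu hx3 hin)

end Cfsg.Agent.DoubleCover90
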