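import Mathlib

/-!
Small facts about 3-subgroups of `S₉` and `S₁₀`: a 3-subgroup inverted by a product of four
transpositions has order at most 9, and in a subgroup of order 9 of `S₉` the nontrivial
elements are neither all 3-cycles nor all products of two 3-cycles.
-/

set_option autoImplicit false

namespace Cfsg.Agent.DoubleCoverBound74

open Equiv

theorem no_inverted_27 {n : ℕ} (hn : n ≤ 10) (σ : Perm (Fin n)) (h2 : σ * σ = 1)
    (h8 : σ.support.card = 8) (B : Subgroup (Perm (Fin n)))
    (hB : ∀ x ∈ B, σ * x * σ⁻¹ = x⁻¹) (h27 : Nat.card B = 27) : False := by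
  classical
  let _ : Fintype B := Fintype.ofFinite _
  have hcB : Fintype.card B = 27 := by rw [← Nat.card_eq_fintype_card]; exact h27
  have hcomm : ∀ x ∈ B, ∀ y ∈ B, x * y = y * x := by
    intro x hx y hy
    have h : y⁻¹ * x⁻¹ = x⁻¹ * y⁻¹ := by
      rw [← mul_inv_rev, ← hB _ (B.mul_mem hx hy), ← hB x hx, ← hB y hy]
      group
    calc x * y = (y⁻¹ * x⁻¹)⁻¹ := by group
      _ = (x⁻¹ * y⁻¹)⁻¹ := by rw [h]
      _ = y * x := by group
  have hsx : ∀ x ∈ B, ∀ i, σ ((x : Perm (Fin n)) i) = x⁻¹ (σ i) := by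
    intro x hx i
    rw [← hB x hx]
    simp
  let O : Fin n → Finset (Fin n) := fun i => Finset.univ.image fun x : B => (x : Perm (Fin n)) i
  have memO : ∀ {i j}, j ∈ O i ↔ ∃ x ∈ B, (x : Perm (Fin n)) i = j := by
    intro i j
    simp [O]
  have selfO : ∀ i, i ∈ O i := fun i => memO.2 ⟨1, B.one_mem, rfl⟩
  -- points of one orbit have the same orbit
  have transO : ∀ {i j l}, j ∈ O i → l ∈ O j → l ∈ O i := by
    intro i j l h h'
    obtain ⟨x, hx, rfl⟩ := memO.1 h
    obtain ⟨y, hy, rfl⟩ := memO.1 h'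
    exact memO.2 ⟨y * x, B.mul_mem hy hx, rfl⟩
  have symmO : ∀ {i j}, j ∈ O i → i ∈ O j := by
    intro i j h
    obtain ⟨x, hx, rfl⟩ := memO.1 h
    exact memO.2 ⟨x⁻¹, B.inv_mem hx, by simp⟩
  have disjO : ∀ {i j}, j ∉ O i → Disjoint (O i) (O j) := fun h =>
    Finset.disjoint_left.2 fun l hl hl' => h (transO hl (symmO hl'))
  -- an element fixing a point fixes its orbit
  have fixO : ∀ k ∈ B, ∀ i, (k : Perm (Fin n)) i = i → ∀ j ∈ O i, k j = j := by
    intro k hk i hki j hj
    obtain ⟨x, hx, rfl⟩ := memO.1 hj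
    have h := Equiv.congr_fun (hcomm k hk x hx) i
    simp only [Perm.mul_apply, hki] at h
    exact h
  have fixσ : ∀ k ∈ B, ∀ i, (k : Perm (Fin n)) i = i → k (σ i) = σ i := by
    intro k hk i hki
    have h := hsx k hk i
    rw [hki] at h
    conv_lhs => rw [h]
    simp
  have hcard : ∀ i, (O i).card ∣ 27 := by
    intro i
    have h := MulAction.card_orbit_mul_card_stabilizer_eq_card_group B i
    rw [hcB] at h
    refine ⟨Fintype.card (MulAction.stabilizer B i), ?_⟩
    rw [← h]
    congr 1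
    rw [← Set.toFinset_card]
    congr 1
    ext j
    simp only [Set.mem_toFinset, MulAction.mem_orbit_iff]
    simp [O, Subgroup.smul_def]
  -- two points whose orbits are small are fixed by a common nontrivial element
  have pair : ∀ i j, (O i).card * (O j).card < 27 →
      ∃ k ∈ B, k ≠ 1 ∧ (k : Perm (Fin n)) i = i ∧ k j = j := by
    intro i j h
    obtain ⟨x, -, y, -, hne, hxy⟩ := Finset.exists_ne_map_eq_of_card_lt_of_maps_to
      (s := (Finset.univ : Finset B)) (t := O i ×ˢ O j)
      (f := fun x => ((x : Perm (Fin n)) i, (x : Perm (Fin n)) j))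
      (by rwa [Finset.card_product, Finset.card_univ, hcB]) (by intro x _; simp [O])
    simp only [Prod.mk.injEq] at hxy
    refine ⟨(y : Perm (Fin n))⁻¹ * x, B.mul_mem (B.inv_mem y.2) x.2, ?_, ?_, ?_⟩
    · intro h1
      exact hne (Subtype.ext (inv_mul_eq_one.1 h1).symm)
    · simp [hxy.1]
    · simp [hxy.2]
  have h3 : ∀ i, (O i).card ≤ 3 := by
    intro i
    have hd : (O i).card ∈ ({1, 3, 9, 27} : Finset ℕ) := by
      have := Nat.mem_divisors.2 ⟨hcard i, by norm_num⟩
      exact this
    have hle : (O i).card ≤ n := by simpa using Finset.card_le_univ (O i)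
    by_contra hc
    simp only [Finset.mem_insert, Finset.mem_singleton] at hd
    have h9 : (O i).card = 9 := by omega
    obtain ⟨k, hk, hk1, hki, -⟩ : ∃ k ∈ B, k ≠ 1 ∧ (k : Perm (Fin n)) i = i ∧ k i = i := by
      -- a single point
      obtain ⟨x, -, y, -, hne, hxy⟩ := Finset.exists_ne_map_eq_of_card_lt_of_maps_to
        (s := (Finset.univ : Finset B)) (t := O i)
        (f := fun x => (x : Perm (Fin n)) i)
        (by rw [Finset.card_univ, hcB, h9]; norm_num) (by intro x _; simp [O])
      have hk1 : (y : Perm (Fin n))⁻¹ * x ≠ 1 :=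
        fun h1 => hne (Subtype.ext (inv_mul_eq_one.1 h1).symm)
      exact ⟨_, B.mul_mem (B.inv_mem y.2) x.2, hk1, by simp [hxy], by simp [hxy]⟩
    have hdis : Disjoint (O i) k.support := Finset.disjoint_left.2 fun j hj hj' =>
      (Perm.mem_support.1 hj') (fixO k hk i hki j hj)
    have hu := Finset.card_le_univ (O i ∪ k.support)
    rw [Finset.card_union_of_disjoint hdis, Fintype.card_fin] at hu
    have := Perm.two_le_card_support_of_ne_one hk1
    omega
  have moved : ∀ k ∈ B, ∀ i, (k : Perm (Fin n)) i ≠ i → (O i).card = 3 := by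
    intro k hk i hki
    have hd : (O i).card ∈ ({1, 3, 9, 27} : Finset ℕ) := Nat.mem_divisors.2 ⟨hcard i, by norm_num⟩
    have h1 : 1 < (O i).card :=
      Finset.one_lt_card.2 ⟨k i, memO.2 ⟨k, hk, rfl⟩, i, selfO i, hki⟩
    have := h3 i
    simp only [Finset.mem_insert, Finset.mem_singleton] at hd
    omega
  -- an orbit stable under `σ` contains a fixed point of `σ`
  have fpt : ∀ i, σ i ∈ O i → ∃ p ∈ O i, σ p = p := by
    intro i h
    obtain ⟨x, hx, hxi⟩ := memO.1 h
    have h27x : x ^ 27 = 1 := by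
      have := pow_card_eq_one (x := (⟨x, hx⟩ : B))
      rw [hcB] at this
      simpa using congrArg Subtype.val this
    refine ⟨(x ^ 14) i, memO.2 ⟨x ^ 14, B.pow_mem hx 14, rfl⟩, ?_⟩
    rw [hsx _ (B.pow_mem hx 14), ← hxi]
    rw [← Perm.mul_apply]
    congr 1
    rw [inv_mul_eq_iff_eq_mul, ← pow_add]
    calc x = x ^ 27 * x := by rw [h27x, one_mul]
      _ = x ^ (14 + 14) := by rw [← pow_succ]
  have hσ : ∀ i, σ (σ i) = i := fun i => by rw [← Perm.mul_apply, h2]; rfl
  -- three orbits
  obtain ⟨x, hx, hx1⟩ : ∃ x ∈ B, x ≠ 1 := by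
    by_contra h
    push Not at h
    have hbot : B = ⊥ := (Subgroup.eq_bot_iff_forall B).2 h
    rw [hbot] at h27
    simp at h27
  obtain ⟨i, hi⟩ : ∃ i, (x : Perm (Fin n)) i ≠ i := by
    by_contra h
    push Not at h
    exact hx1 (Equiv.ext fun j => by simpa using h j)
  -- every moved orbit is stable under `σ`
  have stable : ∀ k ∈ B, ∀ i, (k : Perm (Fin n)) i ≠ i → σ i ∈ O i := by
    intro k hk i hki
    by_contra hc
    have hi3 : (O i).card = 3 := moved k hk i hki
    have hσki : k⁻¹ (σ i) ≠ σ i := by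
      rw [← hsx k hk i]
      exact fun h => hki (σ.injective h)
    have hsi3 : (O (σ i)).card = 3 := moved k⁻¹ (B.inv_mem hk) (σ i) hσki
    obtain ⟨a, ha, ha1, hai, -⟩ := pair i i (by rw [hi3]; norm_num)
    obtain ⟨j, hj⟩ : ∃ j, (a : Perm (Fin n)) j ≠ j := by
      by_contra h
      push Not at h
      exact ha1 (Equiv.ext fun l => by simpa using h l)
    obtain ⟨b, hb, hb1, hbi, hbj⟩ := pair i j (by rw [hi3, moved a ha j hj]; norm_num)
    obtain ⟨l, hl⟩ : ∃ l, (b : Perm (Fin n)) l ≠ l := by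
      by_contra h
      push Not at h
      exact hb1 (Equiv.ext fun l => by simpa using h l)
    have d1 : Disjoint (O i) (O (σ i)) := disjO hc
    have d2 : Disjoint (O i) (O j) := disjO fun h => hj (fixO a ha i hai j h)
    have d3 : Disjoint (O (σ i)) (O j) :=
      disjO fun h => hj (fixO a ha (σ i) (fixσ a ha i hai) j h)
    have d4 : Disjoint (O i) (O l) := disjO fun h => hl (fixO b hb i hbi l h)
    have d5 : Disjoint (O (σ i)) (O l) :=
      disjO fun h => hl (fixO b hb (σ i) (fixσ b hb i hbi) l h)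
    have d6 : Disjoint (O j) (O l) := disjO fun h => hl (fixO b hb j hbj l h)
    have hu := Finset.card_le_univ (((O i ∪ O (σ i)) ∪ O j) ∪ O l)
    rw [Finset.card_union_of_disjoint
        (Finset.disjoint_union_left.2 ⟨Finset.disjoint_union_left.2 ⟨d4, d5⟩, d6⟩),
      Finset.card_union_of_disjoint (Finset.disjoint_union_left.2 ⟨d2, d3⟩),
      Finset.card_union_of_disjoint d1, hi3, hsi3, moved a ha j hj, moved b hb l hl,
      Fintype.card_fin] at hu
    omega
  have hi3 := moved x hx i hi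
  obtain ⟨a, ha, ha1, hai, -⟩ := pair i i (by rw [hi3]; norm_num)
  obtain ⟨j, hj⟩ : ∃ j, (a : Perm (Fin n)) j ≠ j := by
    by_contra h
    push Not at h
    exact ha1 (Equiv.ext fun l => by simpa using h l)
  obtain ⟨b, hb, hb1, hbi, hbj⟩ := pair i j (by rw [hi3, moved a ha j hj]; norm_num)
  obtain ⟨l, hl⟩ : ∃ l, (b : Perm (Fin n)) l ≠ l := by
    by_contra h
    push Not at h
    exact hb1 (Equiv.ext fun l => by simpa using h l)
  obtain ⟨p, hp, hpf⟩ := fpt i (stable x hx i hi)
  obtain ⟨q, hq, hqf⟩ := fpt j (stable a ha j hj)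
  obtain ⟨r, hr, hrf⟩ := fpt l (stable b hb l hl)
  have hpq : p ≠ q := fun h => by
    subst h
    exact hj (fixO a ha i hai j (transO hp (symmO hq)))
  have hpr : p ≠ r := fun h => by
    subst h
    exact hl (fixO b hb i hbi l (transO hp (symmO hr)))
  have hqr : q ≠ r := fun h => by
    subst h
    exact hl (fixO b hb j hbj l (transO hq (symmO hr)))
  have hdis : Disjoint σ.support ({p, q, r} : Finset (Fin n)) := by
    rw [Finset.disjoint_right]
    intro a ha
    simp only [Finset.mem_insert, Finset.mem_singleton] at ha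
    rcases ha with rfl | rfl | rfl <;> simp [Perm.mem_support, *]
  have hu := Finset.card_le_univ (σ.support ∪ {p, q, r})
  rw [Finset.card_union_of_disjoint hdis, h8, Fintype.card_fin] at hu
  have h3c : ({p, q, r} : Finset (Fin n)).card = 3 := by simp [hpq, hpr, hqr]
  omega

/-- A 3-subgroup of `S_n`, `n ≤ 10`, inverted by a product of four transpositions has order at
most 9. -/
theorem card_inverted_le {n : ℕ} (hn : n ≤ 10) (σ : Equiv.Perm (Fin n)) (h2 : σ * σ = 1)
    (h8 : σ.support.card = 8) (A : Subgroup (Equiv.Perm (Fin n)))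
    (hA : ∀ x ∈ A, σ * x * σ⁻¹ = x⁻¹) (h3 : IsPGroup 3 A) : Nat.card A ≤ 9 := by
  have : Fact (Nat.Prime 3) := ⟨Nat.prime_three⟩
  obtain ⟨k, hk⟩ := IsPGroup.iff_card.1 h3
  by_contra hc
  have hk3 : 3 ≤ k := by
    by_contra h
    have := Nat.pow_le_pow_right (show 0 < 3 by norm_num) (show k ≤ 2 by omega)
    omega
  obtain ⟨K, hK⟩ := Sylow.exists_subgroup_card_pow_prime (G := A) 3 (n := 3)
    (by rw [hk]; exact pow_dvd_pow 3 hk3)
  refine no_inverted_27 hn σ h2 h8 (K.map A.subtype) ?_ ?_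
  · rintro x ⟨y, -, rfl⟩
    exact hA _ y.2
  · rw [Subgroup.card_map_of_injective A.subtype_injective]
    exact hK

theorem nine_dvd_sum_fixed (A : Subgroup (Equiv.Perm (Fin 9))) (hA : Nat.card A = 9) (c : ℕ)
    (h : ∀ x ∈ A, x ≠ 1 → x.cycleType.sum = c) : 9 ∣ 9 + 8 * (9 - c) := by
  classical
  let _ : Fintype A := Fintype.ofFinite _
  have hcA : Fintype.card A = 9 := by rw [← Nat.card_eq_fintype_card]; exact hA
  let _ : ∀ a : A, Fintype (MulAction.fixedBy (Fin 9) a) := fun a => Fintype.ofFinite _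
  let _ : Fintype (Quotient (MulAction.orbitRel A (Fin 9))) := Fintype.ofFinite _
  have hb := MulAction.sum_card_fixedBy_eq_card_orbits_mul_card_group A (Fin 9)
  rw [hcA] at hb
  have hf : ∀ a : A, Fintype.card (MulAction.fixedBy (Fin 9) a) =
      9 - (a : Perm (Fin 9)).cycleType.sum := by
    intro a
    rw [← Set.toFinset_card, Perm.sum_cycleType]
    have : (MulAction.fixedBy (Fin 9) a).toFinset = (a : Perm (Fin 9)).supportᶜ := by
      ext j
      simp [Subgroup.smul_def]
    rw [this, Finset.card_compl, Fintype.card_fin]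
  rw [Finset.sum_congr rfl (fun a _ => hf a)] at hb
  rw [← Finset.sum_erase_add _ _ (Finset.mem_univ (1 : A))] at hb
  rw [Finset.sum_congr rfl (g := fun _ => 9 - c) (fun a ha => by
    rw [h _ a.2 fun h1 => Finset.ne_of_mem_erase ha (Subtype.ext h1)])] at hb
  simp only [Finset.sum_const, Finset.card_erase_of_mem (Finset.mem_univ _), Finset.card_univ,
    hcA, smul_eq_mul, OneMemClass.coe_one, Perm.cycleType_one, Multiset.sum_zero] at hb
  refine ⟨Fintype.card (Quotient (MulAction.orbitRel A (Fin 9))), ?_⟩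
  omega

/-- In a subgroup of order 9 of `S₉` the nontrivial elements are neither all 3-cycles nor all
products of two 3-cycles. -/
theorem not_all_same_type (A : Subgroup (Equiv.Perm (Fin 9))) (hA : Nat.card A = 9)
    (_h3 : ∀ x ∈ A, x ^ 3 = 1) :
    ¬ (∀ x ∈ A, x ≠ 1 → x.cycleType = {3}) ∧ ¬ (∀ x ∈ A, x ≠ 1 → x.cycleType = {3, 3}) := by
  constructor
  · intro h
    have := nine_dvd_sum_fixed A hA 3 fun x hx hx1 => by rw [h x hx hx1]; rfl
    norm_num at this
  · intro h
    have := nine_dvd_sum_fixed A hA 6 fun x hx hx1 => by rw [h x hx hx1]; rfl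
    norm_num at this

end Cfsg.Agent.DoubleCoverBound74
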