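import Cfsg.Agent.Lib.DoubleCover90Core3
import Cfsg.Agent.Lib.DoubleCoverBound74

/-!
# Odd subgroups fixed by an involution inverting the 3-cycle lift
-/

set_option autoImplicit false

namespace Cfsg.Agent.DoubleCover90

open Equiv Equiv.Perm
open Cfsg.Agent.FourFormula30 (cen inverted mem_cen)

universe u

variable {G : Type u} [Group G] {z : G} {n : ℕ} [NeZero n] {D : DC z n}

/-- An odd subgroup of the centraliser of `z`, seen in the alternating group. -/
theorem exists_image [Finite G] (A : Subgroup G) (hAz : ∀ x ∈ A, Commute x z)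
    (hodd : Odd (Nat.card A)) :
    ∃ B : Subgroup (Perm (Fin n)), Nat.card B = Nat.card A ∧
      (∀ y ∈ B, ∃ x ∈ A, D.p x = y) ∧ ∀ x ∈ A, D.p x ∈ B := by
  let f : A →* Perm (Fin n) :=
    MonoidHom.mk' (fun x => D.p x) fun x y => D.p_mul (hAz x x.2) (hAz y y.2)
  have hf : Function.Injective f := (injective_iff_map_eq_one f).2 fun x hx => by
    rcases (D.p_eq_one_iff (hAz x x.2)).1 hx with e | e
    · exact Subtype.ext e
    · exfalso
      have h2 := Subgroup.orderOf_dvd_natCard A x.2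
      rw [e, orderOf_z D] at h2
      exact (Nat.not_even_iff_odd.2 hodd) (even_iff_two_dvd.2 h2)
  exact ⟨f.range, (Nat.card_congr (MonoidHom.ofInjective hf).toEquiv).symm,
    fun y ⟨x, hx⟩ => ⟨x, x.2, hx⟩, fun x hx => ⟨⟨x, hx⟩, rfl⟩⟩

theorem Small.inverted_bound [Finite G] (S : Small D) {A : Subgroup G}
    (hAz : ∀ x ∈ A, Commute x z) (hodd : Odd (Nat.card A)) {s : G} (hs : orderOf s = 2)
    (hsz : Commute s z) (hsne : s ≠ z) (hinv : ∀ x ∈ A, s * x * s = x⁻¹) {p v : ℕ}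
    (hp : p.Prime) (hv : p ^ v ∣ Nat.card A) : p ^ v ∣ n.factorial ∧ (p = 3 → v ≤ 2) := by
  obtain ⟨B, hB, hBA, -⟩ := exists_image (D := D) A hAz hodd
  refine ⟨hv.trans ?_, ?_⟩
  · rw [← hB]
    refine (Subgroup.card_subgroup_dvd_card B).trans ?_
    rw [Nat.card_perm, Nat.card_fin]
  rintro rfl
  haveI : Fact (Nat.Prime 3) := ⟨Nat.prime_three⟩
  rw [← hB] at hv
  obtain ⟨P, hP⟩ := Sylow.exists_subgroup_card_pow_prime 3 hv
  have h := DoubleCoverBound74.card_inverted_le S.ten (D.p s)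
    (D.p_sq_of_invol hsz (mul_self_of_two hs)) (S.support_invol hs hsz hsne)
    (P.map B.subtype) ?_ (IsPGroup.of_card (n := v) (by
      rw [Subgroup.card_map_of_injective B.subtype_injective, hP]))
  · rw [Subgroup.card_map_of_injective B.subtype_injective, hP] at h
    by_contra hlt
    have := Nat.pow_le_pow_right (show 0 < 3 by norm_num) (show 3 ≤ v by omega)
    omega
  · rintro y ⟨y', -, rfl⟩
    obtain ⟨x, hx, e⟩ := hBA y' y'.2
    show D.p s * (y' : Perm (Fin n)) * (D.p s)⁻¹ = _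
    rw [← e, ← D.p_conj (hAz x hx) hsz, inv_eq_of_mul_eq_one_right (mul_self_of_two hs),
      hinv x hx, D.p_inv (hAz x hx), e]
    rfl

/-- The conjugate in the centraliser of `z` of the fixed points of `w` in `R`. -/
def pull (h : G) (A : Subgroup G) : Subgroup G := A.map (MulAut.conj h⁻¹).toMonoidHom

theorem mem_pull {h x : G} {A : Subgroup G} : x ∈ pull h A ↔ h * x * h⁻¹ ∈ A := by
  rw [pull, Subgroup.mem_map_equiv, MulAut.conj_symm_apply, inv_inv]

theorem card_pull (h : G) (A : Subgroup G) : Nat.card (pull h A) = Nat.card A :=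
  Subgroup.card_map_of_injective (MulAut.conj h⁻¹).injective

variable (F : Frame D)

theorem Frame.u_sq : F.u * F.u = 1 := mul_self_of_two F.u_two

theorem Frame.uz_two : orderOf (F.u * z) = 2 := by
  refine orderOf_eq_prime ?_ fun e => F.u_ne ?_
  · rw [pow_two, show F.u * z * (F.u * z) = F.u * (z * F.u) * z by group, ← F.uz.eq,
      show F.u * (F.u * z) * z = F.u * F.u * (z * z) by group, F.u_sq, D.sq, one_mul]
  · rw [eq_inv_of_mul_eq_one_left e, z_inv D]

theorem Frame.uz_ne : F.u * z ≠ z := fun e => by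
  have h := mul_eq_right.1 e
  have := F.u_two
  rw [h, orderOf_one] at this
  omega

theorem Frame.uz3 : F.u * z * F.c3 * (F.u * z)⁻¹ = F.c3⁻¹ := by
  rw [show F.u * z * F.c3 * (F.u * z)⁻¹ = F.u * (z * F.c3 * z⁻¹) * F.u⁻¹ by group,
    F.c3z.symm.eq, mul_inv_cancel_right, F.u3]

/-- The fixed points in `R` of an involution inverting `c3`, transported into `C(z)`. -/
theorem Frame.exists_pulled [Finite G] (S : Small D) {w : G} (hw : orderOf w = 2)
    (hwz : Commute w z) (hwne : w ≠ z) (hw3 : w * F.c3 * w⁻¹ = F.c3⁻¹) :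
    ∃ h s : G, h * z * h⁻¹ = w ∧ orderOf s = 2 ∧ Commute s z ∧ s ≠ z ∧
      (∀ x ∈ pull h (cen F.R w), Commute x z) ∧ Odd (Nat.card (pull h (cen F.R w))) ∧
      ∀ x ∈ pull h (cen F.R w), s * x * s = x⁻¹ := by
  obtain ⟨h, hh⟩ := S.conj w hw hwz
  refine ⟨h, h⁻¹ * z * h, hh, ?_, ?_, ?_, fun x hx => ?_, ?_, fun x hx => ?_⟩
  · rw [show h⁻¹ * z * h = (MulAut.conj h⁻¹) z by simp, MulEquiv.orderOf_eq]
    exact orderOf_z D
  · have h1 := hwz.symm.conj h⁻¹
    rwa [inv_inv, show h⁻¹ * w * h = z by rw [← hh]; group] at h1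
  · intro e
    refine hwne ?_
    calc w = h * z * h⁻¹ := hh.symm
      _ = h * (h⁻¹ * z * h) * h⁻¹ := by rw [e]
      _ = z := by group
  · obtain ⟨-, hxw⟩ := mem_cen.1 (mem_pull.1 hx)
    have h1 := (show Commute (h * x * h⁻¹) w from hxw).conj h⁻¹
    rwa [inv_inv, show h⁻¹ * (h * x * h⁻¹) * h = x by group,
      show h⁻¹ * w * h = z by rw [← hh]; group] at h1
  · rw [card_pull]
    exact (F.odd_R S).of_dvd_nat (Subgroup.card_dvd_of_le inf_le_left)
  · have h1 := F.inverted_fix S hwz hw3 (mem_pull.1 hx)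
    calc h⁻¹ * z * h * x * (h⁻¹ * z * h) = h⁻¹ * (z * (h * x * h⁻¹) * z) * h := by group
      _ = x⁻¹ := by rw [h1]; group

theorem Frame.fixed_bound [Finite G] (S : Small D) {w : G} (hw : orderOf w = 2)
    (hwz : Commute w z) (hwne : w ≠ z) (hw3 : w * F.c3 * w⁻¹ = F.c3⁻¹) {p v : ℕ}
    (hp : p.Prime) (hv : p ^ v ∣ Nat.card (cen F.R w)) : p ^ v ∣ n.factorial ∧ (p = 3 → v ≤ 2) := by
  obtain ⟨h, s, -, hs, hsz, hsne, hAz, hodd, hinv⟩ := F.exists_pulled S hw hwz hwne hw3
  exact S.inverted_bound hAz hodd hs hsz hsne hinv hp (by rwa [card_pull])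

end Cfsg.Agent.DoubleCover90
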