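import Cfsg.Agent.Lib.DoubleCover90Small

/-!
# The configuration `O(C(c)) ≠ ⟨c⟩` in degree 9
-/

set_option autoImplicit false

namespace Cfsg.Agent.DoubleCover90

universe u

variable {G : Type u} [Group G] {z : G}

/-- The data of a 3-cycle lift `c = F.c3` in degree 9 whose centraliser has core `R` bigger than
`⟨c⟩`. -/
structure Core (D : DC z 9) (F : Frame D) where
  R : Subgroup G
  cent : ∀ r ∈ R, Commute r F.c3
  c3_mem : F.c3 ∈ R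
  normal : ∀ y, (y * F.c3 * y⁻¹ = F.c3 ∨ y * F.c3 * y⁻¹ = F.c3⁻¹) → ∀ r ∈ R, y * r * y⁻¹ ∈ R
  card_R : Nat.card R = 243
  comm_R : ∀ x ∈ R, ∀ y ∈ R, x * y * x⁻¹ * y⁻¹ ∈ Subgroup.zpowers F.c3
  fix : ∀ r ∈ R, Commute r z → r ∈ Subgroup.zpowers F.c3
  commz : ∀ y, Commute y F.c3 → z * y * z⁻¹ * y⁻¹ ∈ R
  decomp : ∀ y, Commute y F.c3 → ∃ r ∈ R, Commute (r * y) z
  card_cent : Nat.card (Subgroup.centralizer ({z} : Set G) ⊓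
    Subgroup.centralizer ({F.c3} : Set G) : Subgroup G) = 2160
  card_u : Nat.card (R ⊓ Subgroup.centralizer ({F.u} : Set G) : Subgroup G) = 9
  card_uz : Nat.card (R ⊓ Subgroup.centralizer ({F.u * z} : Set G) : Subgroup G) = 9
  faithful : ∀ k, Commute k z → Commute k F.c3 →
    (∀ r ∈ R, z * r * z⁻¹ = r⁻¹ → Commute k r) → k ∈ Subgroup.zpowers F.c3
  trans : ∀ x ∈ R, ∀ y ∈ R, x ≠ 1 → y ≠ 1 → z * x * z⁻¹ = x⁻¹ → z * y * z⁻¹ = y⁻¹ →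
    ∃ k, Commute k z ∧ Commute k F.c3 ∧ k * x * k⁻¹ = y
  dtype : ∀ x ∈ R, x ≠ 1 → z * x * z⁻¹ = x⁻¹ → ∃ g d, Commute d z ∧ d ^ 3 = 1 ∧
    (D.p d).cycleType = {3, 3, 3} ∧ g * d * g⁻¹ = x

end Cfsg.Agent.DoubleCover90
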