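import Cfsg.Agent.Lib.DoubleCover90Kc
import Cfsg.Agent.Lib.DoubleCover90Aut
import Cfsg.Agent.Lib.FourFormula30

/-!
# The odd core of the centraliser of the lift of a 3-cycle
-/

set_option autoImplicit false

namespace Cfsg.Agent.DoubleCover90

open Equiv Equiv.Perm
open Cfsg.Agent.FourFormula30 (cen inverted card_split four_formula mem_cen)

universe u

variable {G : Type u} [Group G] {z : G} {n : ℕ}

theorem Small.all_conj [Finite G] {D : DC z n} (S : Small D) {t : G} (ht : orderOf t = 2) :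
    ∃ g, g * z * g⁻¹ = t := by
  obtain ⟨k, -, hk⟩ := conj_to_z (orderOf_z D) (Commute.one_left z)
    (fun t ht _ htz => by
      obtain ⟨g, hg⟩ := S.conj t ht htz
      exact ⟨g, Commute.one_right g, hg⟩) ht (Commute.one_right t)
  exact ⟨k, hk⟩

theorem z_inv (D : DC z n) : z⁻¹ = z := inv_eq_of_mul_eq_one_right D.sq

variable [NeZero n] {D : DC z n} (F : Frame D)

theorem Frame.orderOf_c3 (h9 : 9 ≤ n) (h10 : n ≤ 10) : orderOf F.c3 = 3 := by
  haveI : Fact (Nat.Prime 3) := ⟨Nat.prime_three⟩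
  refine orderOf_eq_prime F.c3_three fun e => ?_
  have := congrArg D.p e
  rw [F.p3, D.p_one] at this
  exact fix_six (n := n) h9 h10 (by rw [this]; rfl)

theorem Frame.c3_type (h9 : 9 ≤ n) (h10 : n ≤ 10) : (D.p F.c3).cycleType ≠ {3, 3} := by
  rw [F.p3, (perm_types (n := n) h9 h10).2.2.1]
  decide

theorem Frame.c3_ne_one (h9 : 9 ≤ n) (h10 : n ≤ 10) : F.c3 ≠ 1 := fun e => by
  have := F.orderOf_c3 h9 h10
  rw [e, orderOf_one] at this
  omega

/-- The subgroup generated by `c3` and the commutators of `z` with its centraliser. -/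
def Frame.R : Subgroup G :=
  Subgroup.closure ({m | ∃ y, Commute y F.c3 ∧ z * y * z⁻¹ * y⁻¹ = m} ∪ {F.c3})

theorem Frame.commz {y : G} (hy : Commute y F.c3) : z * y * z⁻¹ * y⁻¹ ∈ F.R :=
  Subgroup.subset_closure (Or.inl ⟨y, hy, rfl⟩)

theorem Frame.c3_mem_R : F.c3 ∈ F.R := Subgroup.subset_closure (Or.inr rfl)

theorem Frame.cent {r : G} (hr : r ∈ F.R) : Commute r F.c3 := by
  have h : F.R ≤ Subgroup.centralizer ({F.c3} : Set G) := by
    refine (Subgroup.closure_le _).2 ?_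
    rintro m (⟨y, hy, rfl⟩ | rfl) <;> rw [SetLike.mem_coe, Subgroup.mem_centralizer_singleton_iff]
    exact (((F.c3z.symm.mul_left hy).mul_left F.c3z.symm.inv_left).mul_left hy.inv_left).eq
  exact Subgroup.mem_centralizer_singleton_iff.1 (h hr)

theorem Frame.conj_mem {y : G} (hy : Commute y F.c3) {r : G} (hr : r ∈ F.R) :
    y * r * y⁻¹ ∈ F.R := by
  have h : F.R ≤ F.R.comap (MulAut.conj y).toMonoidHom := by
    refine (Subgroup.closure_le _).2 ?_
    rintro m (⟨w, hw, rfl⟩ | rfl) <;> rw [SetLike.mem_coe, Subgroup.mem_comap]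
    · show y * (z * w * z⁻¹ * w⁻¹) * y⁻¹ ∈ F.R
      rw [show y * (z * w * z⁻¹ * w⁻¹) * y⁻¹ =
        (z * y * z⁻¹ * y⁻¹)⁻¹ * (z * (y * w) * z⁻¹ * (y * w)⁻¹) by group]
      exact mul_mem (inv_mem (F.commz hy)) (F.commz (hy.mul_left hw))
    · show y * F.c3 * y⁻¹ ∈ F.R
      rw [hy.eq, mul_inv_cancel_right]
      exact F.c3_mem_R
  exact h hr

variable [Finite G] (S : Small D)
include S

theorem Frame.conj_mem' {y : G} (hy : y * F.c3 * y⁻¹ = F.c3 ∨ y * F.c3 * y⁻¹ = F.c3⁻¹) {r : G}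
    (hr : r ∈ F.R) : y * r * y⁻¹ ∈ F.R := by
  have hyc : ∀ {a : G}, Commute a F.c3 → Commute (y * a * y⁻¹) F.c3 := fun {a} ha => by
    have h1 := ha.conj y
    rcases hy with e | e <;> rw [e] at h1
    exacts [h1, Commute.inv_right_iff.1 h1]
  obtain ⟨h, hhc, hh⟩ := S.conj_unique F.c3z F.c3_three (F.c3_ne_one S.nine S.ten)
    (F.c3_type S.nine S.ten)
    (show orderOf (y * z * y⁻¹) = 2 from
      (MulEquiv.orderOf_eq (MulAut.conj y) z).trans (orderOf_z D)) (hyc F.c3z.symm)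
  have hle : F.R ≤ F.R.comap (MulAut.conj y).toMonoidHom := by
    refine (Subgroup.closure_le _).2 ?_
    rintro m (⟨w, hw, rfl⟩ | rfl) <;> rw [SetLike.mem_coe, Subgroup.mem_comap]
    · show y * (z * w * z⁻¹ * w⁻¹) * y⁻¹ ∈ F.R
      rw [show y * (z * w * z⁻¹ * w⁻¹) * y⁻¹ = (y * z * y⁻¹) * (y * w * y⁻¹) * (y * z * y⁻¹)⁻¹ *
        (y * w * y⁻¹)⁻¹ by group, ← hh,
        show h * z * h⁻¹ * (y * w * y⁻¹) * (h * z * h⁻¹)⁻¹ * (y * w * y⁻¹)⁻¹ =
          h * (z * (h⁻¹ * (y * w * y⁻¹) * h) * z⁻¹ * (h⁻¹ * (y * w * y⁻¹) * h)⁻¹) * h⁻¹ by group]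
      exact F.conj_mem hhc (F.commz ((hhc.inv_left.mul_left (hyc hw)).mul_left hhc))
    · show y * F.c3 * y⁻¹ ∈ F.R
      rcases hy with e | e <;> rw [e]
      exacts [F.c3_mem_R, inv_mem F.c3_mem_R]
  exact hle hr

theorem Frame.odd_R : Odd (Nat.card F.R) := by
  set Y := Subgroup.centralizer ({F.c3} : Set G) with hY
  set z' : Y := ⟨z, Subgroup.mem_centralizer_singleton_iff.2 F.c3z.symm.eq⟩
  have hiso : Cfsg.IsIsolatedInvolution z' := by
    refine ⟨(Subgroup.orderOf_coe z').symm.trans (orderOf_z D), fun g hg => Subtype.ext ?_⟩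
    refine S.only_invol F.c3z F.c3_three (F.c3_ne_one S.nine S.ten) (F.c3_type S.nine S.ten)
      ((MulEquiv.orderOf_eq (MulAut.conj (g : G)) z).trans (orderOf_z D)) ?_
      (congrArg Subtype.val hg.eq).symm
    exact Subgroup.mem_centralizer_singleton_iff.1 (g * z' * g⁻¹).2
  obtain ⟨N, hN, hodd, hmem⟩ := ZStarTheorem.exists_odd_normal hiso
  set c' : Y := ⟨F.c3, Subgroup.mem_centralizer_singleton_iff.2 rfl⟩
  have hle : F.R ≤ (N ⊔ Subgroup.zpowers c').map Y.subtype := by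
    refine (Subgroup.closure_le _).2 ?_
    rintro m (⟨y, hy, rfl⟩ | rfl)
    · exact Subgroup.mem_map.2 ⟨z' * ⟨y, Subgroup.mem_centralizer_singleton_iff.2 hy.eq⟩ * z'⁻¹ *
        (⟨y, Subgroup.mem_centralizer_singleton_iff.2 hy.eq⟩ : Y)⁻¹,
        Subgroup.mem_sup_left (hmem _), rfl⟩
    · exact Subgroup.mem_map.2 ⟨c', Subgroup.mem_sup_right (Subgroup.mem_zpowers c'), rfl⟩
  haveI := hN
  have h1 : Nat.card (Subgroup.map Y.subtype (N ⊔ Subgroup.zpowers c')) ∣ Nat.card N * 3 := by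
    rw [Subgroup.card_map_of_injective Y.subtype_injective,
      ← Subgroup.card_mul_index (N.subgroupOf (N ⊔ Subgroup.zpowers c')),
      Nat.card_congr (Subgroup.subgroupOfEquivOfLe le_sup_left).toEquiv]
    refine mul_dvd_mul_left _ ?_
    show N.relIndex (N ⊔ Subgroup.zpowers c') ∣ 3
    rw [sup_comm, Subgroup.relIndex_sup_right]
    refine (Subgroup.relIndex_dvd_card N _).trans ?_
    rw [Nat.card_zpowers, ← Subgroup.orderOf_coe, show (c' : G) = F.c3 from rfl,
      F.orderOf_c3 S.nine S.ten]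
  exact ((hodd.mul (by decide)).of_dvd_nat h1).of_dvd_nat (Subgroup.card_dvd_of_le hle)

omit S in
theorem Frame.z_conj_R {r : G} (hr : r ∈ F.R) : z * r * z ∈ F.R := by
  have := F.conj_mem F.c3z.symm hr
  rwa [z_inv D] at this

theorem Frame.decomp {y : G} (hy : Commute y F.c3) : ∃ r ∈ F.R, Commute (r * y) z := by
  have hzz := D.sq
  set w := z * y * z⁻¹ * y⁻¹ with hw
  have hwz : z * w * z = w⁻¹ := by
    rw [hw, mul_inv_rev, mul_inv_rev, mul_inv_rev, inv_inv, inv_inv, z_inv D]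
    calc z * (z * y * z * y⁻¹) * z = (z * z) * (y * z * y⁻¹ * z) := by group
      _ = y * (z * (y⁻¹ * z)) := by rw [hzz, one_mul]; group
  refine ⟨FourFormula30.rt (Nat.card F.R) w, FourFormula30.rt_mem _ (F.commz hy), ?_⟩
  set r := FourFormula30.rt (Nat.card F.R) w
  have hr2 : r * r = w := FourFormula30.rt_sq (F.odd_R S) (F.commz hy)
  have hrz : z * r * z = r⁻¹ := by
    rw [FourFormula30.conj_rt hzz, hwz]
    exact inv_pow w _
  apply FourFormula30.commute_of_conj hzz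
  calc z * (r * y) * z = (z * r * z) * (z * y * z) := by
        rw [show z * (r * y) * z = z * r * (z * z) * y * z by rw [hzz]; group]; group
    _ = r⁻¹ * (w * y) := by
        rw [hrz]; congr 1
        rw [hw, inv_mul_cancel_right, z_inv D]
    _ = r * y := by rw [← hr2]; group

theorem Frame.fix {r : G} (hr : r ∈ F.R) (hrz : Commute r z) :
    r ∈ Subgroup.zpowers F.c3 := by
  haveI := F.simple_rest S.nine S.ten
  set π := F.res S.nine S.ten
  have hN : ((F.R.subgroupOf F.Kc).map π).Normal := by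
    refine Subgroup.Normal.map ⟨fun a ha g => ?_⟩ π (F.res_surjective S.nine S.ten)
    rw [Subgroup.mem_subgroupOf] at ha ⊢
    exact F.conj_mem (F.mem_Kc.1 g.2).2 ha
  have hdvd : Nat.card ((F.R.subgroupOf F.Kc).map π) ∣ Nat.card F.R := by
    refine (Subgroup.card_map_dvd _ π).trans ?_
    rw [← Subgroup.card_map_of_injective F.Kc.subtype_injective]
    exact Subgroup.card_dvd_of_le (by rintro _ ⟨a, ha, rfl⟩; exact ha)
  rcases hN.eq_bot_or_eq_top with h | h
  · obtain ⟨i, j, e⟩ := F.res_eq_one S.nine S.ten (k := ⟨r, F.mem_Kc.2 ⟨hrz, F.cent hr⟩⟩)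
      (Subgroup.mem_bot.1 (h ▸ Subgroup.mem_map_of_mem π
        (Subgroup.mem_subgroupOf.2 hr : (⟨r, F.mem_Kc.2 ⟨hrz, F.cent hr⟩⟩ : F.Kc) ∈
          F.R.subgroupOf F.Kc)))
    change r = F.c3 ^ i * z ^ j at e
    rcases Nat.even_or_odd j with ⟨m, rfl⟩ | ⟨m, rfl⟩
    · rw [← two_mul, pow_mul, pow_two, D.sq, one_pow, mul_one] at e
      rw [e]; exact Subgroup.npow_mem_zpowers _ _
    · exfalso
      rw [pow_succ, pow_mul, pow_two, D.sq, one_pow, one_mul] at e
      have hz : z ∈ F.R := by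
        have := mul_mem (inv_mem (pow_mem F.c3_mem_R i)) hr
        rwa [e, inv_mul_cancel_left] at this
      have h2 := Subgroup.orderOf_dvd_natCard _ hz
      rw [orderOf_z D] at h2
      exact (Nat.not_even_iff_odd.2 (F.odd_R S)) (even_iff_two_dvd.2 h2)
  · exfalso
    rw [h, Subgroup.card_top] at hdvd
    have h2 : 2 ∣ Nat.card (alternatingGroup (Rest n)) := by
      have hlt : 1 < Fintype.card (Rest n) := by
        rw [(c3_facts (n := n) S.nine S.ten).2.2.2.2]; have := S.nine; omega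
      haveI : Nontrivial (Rest n) := Fintype.one_lt_card_iff_nontrivial.1 hlt
      have hA : 2 * Nat.card (alternatingGroup (Rest n)) = (n - 3).factorial := by
        rw [Nat.card_eq_fintype_card, two_mul_card_alternatingGroup, Fintype.card_perm,
          (c3_facts (n := n) S.nine S.ten).2.2.2.2]
      rcases (show n - 3 = 6 ∨ n - 3 = 7 by have := S.nine; have := S.ten; omega) with e | e <;>
        rw [e] at hA
      · rw [show (6 : ℕ).factorial = 720 from rfl] at hA; omega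
      · rw [show (7 : ℕ).factorial = 5040 from rfl] at hA; omega
    exact (Nat.not_even_iff_odd.2 (F.odd_R S)) (even_iff_two_dvd.2 (h2.trans hdvd))

/-- Facts about the fixed points of an involution inverting `c3`. -/
theorem Frame.cen_trivial {w : G} (hw3 : w * F.c3 * w⁻¹ = F.c3⁻¹) :
    Nat.card (cen (cen F.R z) w) = 1 := by
  rw [Subgroup.card_eq_one, Subgroup.eq_bot_iff_forall]
  intro r hr
  obtain ⟨hr1, hrw⟩ := mem_cen.1 hr
  obtain ⟨hrR, hrz⟩ := mem_cen.1 hr1
  obtain ⟨i, rfl⟩ := Subgroup.mem_zpowers_iff.1 (F.fix S hrR hrz)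
  have h1 : w * F.c3 ^ i * w⁻¹ = (F.c3 ^ i)⁻¹ := by rw [← conj_zpow, hw3, inv_zpow]
  rw [← hrw, mul_inv_cancel_right, eq_inv_iff_mul_eq_one, ← zpow_add, ← two_mul,
    ← orderOf_dvd_iff_zpow_eq_one, F.orderOf_c3 S.nine S.ten] at h1
  rw [← orderOf_dvd_iff_zpow_eq_one, F.orderOf_c3 S.nine S.ten]
  omega

theorem Frame.inverted_fix {w : G} (hwz : Commute w z)
    (hw3 : w * F.c3 * w⁻¹ = F.c3⁻¹) {x : G}
    (hx : x ∈ cen F.R w) : z * x * z = x⁻¹ := by
  classical
  have hn : ∀ k ∈ cen F.R w, z * k * z ∈ cen F.R w :=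
    FourFormula30.cen_invariant D.sq hwz.eq fun k hk => F.z_conj_R hk
  have h := card_split (cen F.R w) ((F.odd_R S).of_dvd_nat (Subgroup.card_dvd_of_le inf_le_left))
    z D.sq hn
  have he : cen (cen F.R w) z = cen (cen F.R z) w := by
    simp only [cen, inf_right_comm]
  rw [he, F.cen_trivial S hw3, one_mul] at h
  have hset : inverted (cen F.R w) z = (cen F.R w : Set G) :=
    Set.eq_of_subset_of_ncard_le (fun k hk => hk.1) (by
      rw [← Nat.card_coe_set_eq, ← Nat.card_coe_set_eq]; exact h.le) (Set.toFinite _)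
  exact (hset.ge hx).2

end Cfsg.Agent.DoubleCover90
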