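import Cfsg.Agent.Lib.DoubleCover90Module

/-!
# The degree 9 configuration
-/

set_option autoImplicit false

namespace Cfsg.Agent.DoubleCover90

open Equiv Equiv.Perm
open Cfsg.Agent.FourFormula30 (cen inverted card_split mem_cen)

universe u

variable {G : Type u} [Group G] {z : G} {D : DC z 9} (F : Frame D) [Finite G] (S : Small D)
include S

theorem Frame.fixed_of_fpf (hM : Nat.card F.M = 81) {f : F.Kc} (hf5 : f ^ 5 = 1)
    (hfne : F.res S.nine S.ten f ≠ 1) {x : F.M} (hx : F.act f x = x) : x = 1 := by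
  have hz : F.act ⟨z, F.z_mem_Kc⟩ ≠ 1 := by
    intro h
    obtain ⟨y, hy⟩ := exists_prime_orderOf_dvd_card' (G := F.M) 3
      (hp := ⟨Nat.prime_three⟩) (by rw [hM]; norm_num)
    have h1 := F.act_z S y
    rw [h, MulAut.one_apply] at h1
    have h3 : 3 ∣ 2 := hy ▸ orderOf_dvd_of_pow_eq_one (by
      rw [pow_two]; exact mul_eq_one_iff_eq_inv.2 h1)
    omega
  rcases DoubleCover90Aut.fixed_dichotomy (p := 3) (r := 5) (e := 4) Nat.prime_three (by norm_num)
    (by norm_num) (by rw [hM]; rfl) (F.act f) (by rw [← map_pow, hf5, map_one]) (fun i h1 h2 => by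
      have : i = 1 ∨ i = 2 ∨ i = 3 := by omega
      rcases this with rfl | rfl | rfl <;> norm_num) with h | h
  · exact absurd (F.res_eq_one_of_ker S.nine S.ten F.act hz h) hfne
  · exact h.1 x hx

theorem Frame.z_not_central_inverted (hM : Nat.card F.M = 81) :
    ∃ x ∈ inverted F.R z, x ≠ 1 := by
  by_contra h
  push Not at h
  have h1 := card_split F.R (F.odd_R S) z D.sq fun k hk => F.z_conj_R hk
  have hs : Nat.card (inverted F.R z) ≤ 1 := by
    rw [Nat.card_coe_set_eq]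
    exact (Set.ncard_le_one (Set.toFinite _)).2 fun a ha b hb => (h a ha).trans (h b hb).symm
  rw [F.cen_z S, ← F.card_M S, hM] at h1
  omega

theorem Frame.card_inverted (hM : Nat.card F.M = 81) : Nat.card (inverted F.R z) = 81 := by
  have h1 := card_split F.R (F.odd_R S) z D.sq fun k hk => F.z_conj_R hk
  rw [F.cen_z S, ← F.card_M S, hM] at h1
  omega

theorem Frame.card_cen (hM : Nat.card F.M = 81) :
    Nat.card (cen F.R F.u) = 9 ∧ Nat.card (cen F.R (F.u * z)) = 9 := by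
  have h := F.card_M_eq S
  rw [hM] at h
  have hle : ∀ {w : G}, orderOf w = 2 → Commute w z → w ≠ z → w * F.c3 * w⁻¹ = F.c3⁻¹ →
      Nat.card (cen F.R w) ∣ 81 → Nat.card (cen F.R w) ≤ 9 := by
    intro w hw hwz hwne hw3 hd
    obtain ⟨v, -, hv⟩ := (Nat.dvd_prime_pow Nat.prime_three).1 (show _ ∣ 3 ^ 4 from hd)
    have := (F.fixed_bound S hw hwz hwne hw3 Nat.prime_three (dvd_of_eq hv.symm)).2 rfl
    rw [hv]
    exact Nat.pow_le_pow_right (by norm_num) this
  have h1 := hle F.u_two F.uz F.u_ne F.u3 ⟨_, h⟩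
  have h2 := hle F.uz_two (F.uz.mul_left (Commute.refl z)) F.uz_ne F.uz3
    ⟨Nat.card (cen F.R F.u), by rw [h, mul_comm]⟩
  constructor
  · by_contra hne
    have h3 := Nat.mul_le_mul (show Nat.card (cen F.R F.u) ≤ 8 by omega) h2
    omega
  · by_contra hne
    have h3 := Nat.mul_le_mul h1 (show Nat.card (cen F.R (F.u * z)) ≤ 8 by omega)
    omega

/-- A stabiliser in `Kc` of a nontrivial inverted element of `R` is a 3-group. -/
theorem Frame.trans_inverted (hM : Nat.card F.M = 81) {x y : G} (hx : x ∈ inverted F.R z)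
    (hy : y ∈ inverted F.R z) (hx1 : x ≠ 1) (hy1 : y ≠ 1) :
    ∃ k, Commute k z ∧ Commute k F.c3 ∧ k * x * k⁻¹ = y := by
  classical
  letI : MulAction F.Kc G :=
    MulAction.compHom G ((MulAut.conj : G →* MulAut G).comp F.Kc.subtype)
  have hsmul : ∀ (k : F.Kc) (w : G), k • w = (k : G) * w * (k : G)⁻¹ := fun k w => rfl
  set St := MulAction.stabilizer F.Kc x
  have hodd : ∀ w ∈ inverted F.R z, w ≠ 1 → w * w ≠ 1 := fun w hw hw1 h2 => by
    have h3 : orderOf w ∣ 2 := orderOf_dvd_of_pow_eq_one (by rw [pow_two]; exact h2)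
    rcases (Nat.dvd_prime Nat.prime_two).1 h3 with e | e
    · exact hw1 (orderOf_eq_one_iff.1 e)
    · have := Subgroup.orderOf_dvd_natCard _ hw.1
      rw [e] at this
      exact (Nat.not_even_iff_odd.2 (F.odd_R S)) (even_iff_two_dvd.2 this)
  have hxfix : ∀ k ∈ St, (k : G) * x * (k : G)⁻¹ = x := fun k hk => (hsmul k x) ▸ hk
  have h2 : ¬ 2 ∣ Nat.card St := by
    intro hd
    haveI : Fact (Nat.Prime 2) := ⟨Nat.prime_two⟩
    obtain ⟨⟨k, hk⟩, hko⟩ := exists_prime_orderOf_dvd_card' (G := St) 2 hd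
    rw [Subgroup.orderOf_mk] at hko
    have ho : orderOf (k : G) = 2 := by rw [Subgroup.orderOf_coe]; exact hko
    have hkz : (k : G) = z := S.only_invol F.c3z F.c3_three (F.c3_ne_one S.nine S.ten)
      (F.c3_type S.nine S.ten) ho (F.mem_Kc.1 k.2).2 (F.mem_Kc.1 k.2).1
    have h := hxfix k hk
    rw [hkz, z_inv D, hx.2] at h
    exact hodd x hx hx1 (eq_inv_iff_mul_eq_one.1 h.symm)
  have h5 : ¬ 5 ∣ Nat.card St := by
    intro hd
    haveI : Fact (Nat.Prime 5) := ⟨by norm_num⟩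
    obtain ⟨⟨k, hk⟩, hko⟩ := exists_prime_orderOf_dvd_card' (G := St) 5 hd
    rw [Subgroup.orderOf_mk] at hko
    have hk5 : k ^ 5 = 1 := hko ▸ pow_orderOf_eq_one k
    have hne : F.res S.nine S.ten k ≠ 1 := fun h => by
      obtain ⟨i, j, e⟩ := F.res_eq_one S.nine S.ten h
      have h6 : (k : G) ^ 6 = 1 := by
        rw [e, (F.c3z.pow_pow i j).mul_pow, ← pow_mul, ← pow_mul,
          show i * 6 = 3 * (2 * i) by ring, show j * 6 = 2 * (3 * j) by ring, pow_mul, pow_mul z,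
          F.c3_three, one_pow, pow_two, D.sq, one_pow, one_mul]
      have := orderOf_dvd_of_pow_eq_one h6
      rw [Subgroup.orderOf_coe, hko] at this
      norm_num at this
    have h := F.fixed_of_fpf S hM hk5 hne (x := ((⟨x, hx.1⟩ : F.R) : F.M)) (by
      rw [F.act_mk]
      exact congrArg _ (Subtype.ext (hxfix k hk)))
    rw [QuotientGroup.eq_one_iff, Frame.Nc, Subgroup.mem_subgroupOf] at h
    obtain ⟨i, hi⟩ := Subgroup.mem_zpowers_iff.1 h
    have he := hx.2
    rw [FourFormula30.conj_of_commute D.sq (hi ▸ (F.c3z.zpow_left i)).eq] at he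
    exact hodd x hx hx1 (eq_inv_iff_mul_eq_one.1 he)
  have hK : Nat.card F.Kc = 2160 := by rw [F.card_Kc S.nine S.ten]; rfl
  have hSt : Nat.card St ∣ 27 := by
    have hd := St.card_subgroup_dvd_card
    rw [hK] at hd
    have c : Nat.Coprime (Nat.card St) 80 := by
      rw [show (80 : ℕ) = 2 ^ 4 * 5 from rfl]
      refine Nat.Coprime.mul_right (Nat.Coprime.pow_right 4 ?_) ?_
      · exact ((Nat.Prime.coprime_iff_not_dvd Nat.prime_two).2 h2).symm
      · exact ((Nat.Prime.coprime_iff_not_dvd (by norm_num : Nat.Prime 5)).2 h5).symm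
    exact c.dvd_of_dvd_mul_left (show Nat.card St ∣ 80 * 27 from hd)
  have horb : 80 ≤ (MulAction.orbit F.Kc x).ncard := by
    have h := St.index_mul_card
    rw [MulAction.index_stabilizer, hK] at h
    have := Nat.le_of_dvd (by norm_num) hSt
    by_contra hlt
    have h3 := Nat.mul_le_mul (show (MulAction.orbit F.Kc x).ncard ≤ 79 by omega) this
    omega
  have hsub : MulAction.orbit F.Kc x ⊆ inverted F.R z \ {1} := by
    rintro w ⟨k, rfl⟩
    show k • x ∈ _
    rw [hsmul]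
    refine ⟨⟨F.conj_mem (F.mem_Kc.1 k.2).2 hx.1, ?_⟩, ?_⟩
    · have hkz := FourFormula30.conj_of_commute D.sq (F.mem_Kc.1 k.2).1.eq
      rw [FourFormula30.conj_mul D.sq, FourFormula30.conj_mul D.sq, FourFormula30.conj_inv D.sq,
        hkz, hx.2]
      group
    · exact fun e => hx1 (conj_eq_one_iff.1 e)
  have heq : MulAction.orbit F.Kc x = inverted F.R z \ {1} := by
    refine Set.eq_of_subset_of_ncard_le hsub ?_ (Set.toFinite _)
    rw [Set.ncard_sdiff_singleton_of_mem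
      (show (1 : G) ∈ inverted F.R z from ⟨F.R.one_mem, by rw [mul_one, D.sq, inv_one]⟩),
      ← Nat.card_coe_set_eq, F.card_inverted S hM]
    exact horb
  have hyo : y ∈ MulAction.orbit F.Kc x := by rw [heq]; exact ⟨hy, hy1⟩
  obtain ⟨k, hk⟩ := hyo
  exact ⟨k, (F.mem_Kc.1 k.2).1, (F.mem_Kc.1 k.2).2, hk⟩

theorem Frame.faithful (hM : Nat.card F.M = 81) {k : G} (hkz : Commute k z)
    (hkc : Commute k F.c3) (hk : ∀ r ∈ F.R, z * r * z⁻¹ = r⁻¹ → Commute k r) :
    k ∈ Subgroup.zpowers F.c3 := by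
  have hI : ∀ r ∈ inverted F.R z, Commute k r := fun r hr => hk r hr.1 (by rw [z_inv D]; exact hr.2)
  obtain ⟨x, hx, hx1⟩ := F.z_not_central_inverted S hM
  have hall : ∀ r ∈ F.R, Commute k r := by
    intro r hr
    have hzz := D.sq
    set w := r * (z * r * z)⁻¹ with hw
    have hwR : w ∈ F.R := mul_mem hr (inv_mem (F.z_conj_R hr))
    set i := FourFormula30.rt (Nat.card F.R) w
    have hiR : i ∈ F.R := FourFormula30.rt_mem _ hwR
    have hiz : z * i * z = i⁻¹ := by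
      rw [FourFormula30.conj_rt hzz, hw, FourFormula30.conj_mul hzz, FourFormula30.conj_inv hzz,
        FourFormula30.conj_conj hzz, show z * r * z * r⁻¹ = (r * (z * r * z)⁻¹)⁻¹ by group]
      exact inv_pow _ _
    have hfix : i⁻¹ * r ∈ cen F.R z := by
      refine mem_cen.2 ⟨mul_mem (inv_mem hiR) hr, FourFormula30.commute_of_conj hzz ?_⟩
      rw [FourFormula30.conj_mul hzz, FourFormula30.conj_inv hzz, hiz, inv_inv]
      have : r = i * i * (z * r * z) := by
        rw [FourFormula30.rt_sq (F.odd_R S) hwR, hw, inv_mul_cancel_right]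
      calc i * (z * r * z) = i⁻¹ * (i * i * (z * r * z)) := by group
        _ = i⁻¹ * r := by rw [← this]
    obtain ⟨j, hj⟩ := Subgroup.mem_zpowers_iff.1 (F.fix S (mem_cen.1 hfix).1 (mem_cen.1 hfix).2)
    have := (hI i ⟨hiR, hiz⟩).mul_right (hkc.zpow_right j)
    rwa [hj, mul_inv_cancel_left] at this
  have hact : F.act ⟨k, F.mem_Kc.2 ⟨hkz, hkc⟩⟩ = 1 := by
    refine MulEquiv.ext fun m => ?_
    induction m using QuotientGroup.induction_on with
    | _ r =>
      rw [F.act_mk]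
      refine congrArg _ (Subtype.ext ?_)
      show k * (r : G) * k⁻¹ = r
      rw [(hall r r.2).eq, mul_inv_cancel_right]
  have hz : F.act ⟨z, F.z_mem_Kc⟩ ≠ 1 := by
    intro h
    obtain ⟨y, hy⟩ := exists_prime_orderOf_dvd_card' (G := F.M) 3
      (hp := ⟨Nat.prime_three⟩) (by rw [hM]; norm_num)
    have h1 := F.act_z S y
    rw [h, MulAut.one_apply] at h1
    have h3 : 3 ∣ 2 := hy ▸ orderOf_dvd_of_pow_eq_one (by
      rw [pow_two]; exact mul_eq_one_iff_eq_inv.2 h1)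
    omega
  obtain ⟨i, j, e⟩ := F.res_eq_one S.nine S.ten (F.res_eq_one_of_ker S.nine S.ten F.act hz hact)
  change k = F.c3 ^ i * z ^ j at e
  rcases Nat.even_or_odd j with ⟨m, rfl⟩ | ⟨m, rfl⟩
  · rw [← two_mul, pow_mul, pow_two, D.sq, one_pow, mul_one] at e
    rw [e]; exact Subgroup.npow_mem_zpowers _ _
  · exfalso
    rw [pow_succ, pow_mul, pow_two, D.sq, one_pow, one_mul] at e
    have hc := (F.cent hx.1).pow_right i
    have hkx := hI x hx
    rw [e] at hkx
    have hzx : Commute z x := by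
      have := hc.symm.inv_left.mul_left hkx
      rwa [inv_mul_cancel_left] at this
    have h := FourFormula30.conj_of_commute D.sq hzx.symm.eq
    rw [hx.2] at h
    have h3 : orderOf x ∣ 2 := orderOf_dvd_of_pow_eq_one (by
      rw [pow_two]; exact eq_inv_iff_mul_eq_one.1 h.symm)
    rcases (Nat.dvd_prime Nat.prime_two).1 h3 with e | e
    · exact hx1 (orderOf_eq_one_iff.1 e)
    · have := Subgroup.orderOf_dvd_natCard _ hx.1
      rw [e] at this
      exact (Nat.not_even_iff_odd.2 (F.odd_R S)) (even_iff_two_dvd.2 this)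

theorem Frame.dtype (hM : Nat.card F.M = 81) {x : G} (hx : x ∈ inverted F.R z) (hx1 : x ≠ 1) :
    ∃ g d, Commute d z ∧ d ^ 3 = 1 ∧ (D.p d).cycleType = {3, 3, 3} ∧ g * d * g⁻¹ = x := by
  classical
  obtain ⟨h, s, hh, -, -, -, hAz, hodd, -⟩ :=
    F.exists_pulled S F.u_two F.uz F.u_ne F.u3
  set A := pull h (cen F.R F.u) with hA
  obtain ⟨B, hB, hBA, hAB⟩ := exists_image (D := D) A hAz hodd
  have hA9 : Nat.card A = 9 := (card_pull h _).trans (F.card_cen S hM).1
  have hI : ∀ a ∈ A, h * a * h⁻¹ ∈ inverted F.R z := fun a ha =>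
    ⟨(mem_cen.1 (mem_pull.1 ha)).1, F.inverted_fix S F.uz F.u3 (mem_pull.1 ha)⟩
  have h1' : ∀ a : G, a ≠ 1 → h * a * h⁻¹ ≠ 1 := fun a ha e => ha (conj_eq_one_iff.1 e)
  have hconj : ∀ a ∈ A, ∀ b ∈ A, a ≠ 1 → b ≠ 1 → ∃ g, g * a * g⁻¹ = b := fun a ha b hb ha1 hb1 => by
    obtain ⟨k, -, -, hk⟩ := F.trans_inverted S hM (hI a ha) (hI b hb) (h1' a ha1) (h1' b hb1)
    refine ⟨h⁻¹ * k * h, ?_⟩
    rw [show h⁻¹ * k * h * a * (h⁻¹ * k * h)⁻¹ = h⁻¹ * (k * (h * a * h⁻¹) * k⁻¹) * h by group, hk]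
    group
  have h3 : ∀ a ∈ A, a ^ 3 = 1 := by
    intro a ha
    by_cases ha1 : a = 1
    · rw [ha1, one_pow]
    haveI : Fact (Nat.Prime 3) := ⟨Nat.prime_three⟩
    obtain ⟨b, hb⟩ := exists_prime_orderOf_dvd_card' (G := A) 3 (by rw [hA9]; norm_num)
    obtain ⟨g, hg⟩ := hconj b b.2 a ha (fun e => by
      rw [← Subgroup.orderOf_coe, e, orderOf_one] at hb; omega) ha1
    have hb3 : (b : G) ^ 3 = 1 := by
      rw [← hb, ← Subgroup.orderOf_coe]; exact pow_orderOf_eq_one _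
    rw [← hg, conj_pow, hb3]; group
  obtain ⟨n1, n2⟩ := DoubleCoverBound74.not_all_same_type B (hB.trans hA9) (fun y hy => by
    obtain ⟨a, ha, rfl⟩ := hBA y hy
    rw [← D.p_pow (hAz a ha), h3 a ha, D.p_one])
  obtain ⟨hC1, hC2, hC3, hC12, -⟩ := perm_types (n := 9) le_rfl (by norm_num)
  -- no element is a product of two 3-cycles
  have h33 : ∀ a ∈ A, a ≠ 1 → (D.p a).cycleType ≠ {3, 3} := by
    intro a ha ha1 hat
    refine n2 fun y hy hy1 => ?_
    obtain ⟨b, hb, rfl⟩ := hBA y hy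
    have hb1 : b ≠ 1 := fun e => hy1 (by rw [e, D.p_one])
    obtain ⟨g, hg⟩ := hconj a ha b hb ha1 hb1
    have haz' : Commute (F.c1 * F.c2) z := F.c1z.mul_left F.c2z
    obtain ⟨k, hkz, hk⟩ := S.conj_three haz' (hAz a ha) (by
        rw [F.comm12.mul_pow, F.c1_three, F.c2_three, one_mul]) (h3 a ha)
      (by rw [D.p_mul F.c1z F.c2z, F.p1, F.p2]; exact hC12) hat
    have hu12 : Commute F.u (F.c1 * F.c2) := by
      refine mul_inv_eq_iff_eq_mul.1 ?_
      rw [show F.u * (F.c1 * F.c2) * F.u⁻¹ = (F.u * F.c1 * F.u⁻¹) * (F.u * F.c2 * F.u⁻¹) by group,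
        F.u1, F.u2, F.comm12.eq]
    set m := g * k with hm
    have hmb : m * (F.c1 * F.c2) * m⁻¹ = b := by
      rw [← hg, ← hk, hm]; group
    have e1 := haz'.symm.conj m
    have e2 := hu12.conj m
    have e3 := F.uz.symm.conj m
    rw [hmb] at e1 e2
    refine S.type_of_pair (hAz b hb) (h3 b hb) hb1
      ((MulEquiv.orderOf_eq (MulAut.conj m) z).trans (orderOf_z D))
      ((MulEquiv.orderOf_eq (MulAut.conj m) F.u).trans F.u_two) e1 e2 e3 fun e => ?_
    exact F.u_ne ((MulAut.conj m).injective e).symm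
  have hsame : ∀ a ∈ A, ∀ b ∈ A, a ≠ 1 → b ≠ 1 → (D.p a).cycleType = (D.p b).cycleType := by
    intro a ha b hb ha1 hb1
    obtain ⟨g, hg⟩ := hconj a ha b hb ha1 hb1
    obtain ⟨k, hkz, hk⟩ := S.conj_in_of_conj (hAz a ha) (hAz b hb) (h3 b hb) hb1 (h33 b hb hb1) hg
    rw [← hk, D.p_conj (hAz a ha) hkz, cycleType_conj]
  obtain ⟨b, hb, hbt, hb1⟩ : ∃ b ∈ A, (D.p b).cycleType ≠ {3} ∧ b ≠ 1 := by
    by_contra hno
    refine n1 fun y hy hy1 => ?_
    obtain ⟨b, hb, rfl⟩ := hBA y hy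
    by_contra hne
    exact hno ⟨b, hb, hne, fun e => hy1 (by rw [e, D.p_one])⟩
  have hbtype : (D.p b).cycleType = {3, 3, 3} := by
    have hb3 : D.p b ^ 3 = 1 := by rw [← D.p_pow (hAz b hb), h3 b hb, D.p_one]
    have hpb : D.p b ≠ 1 := fun e => by
      rcases (D.p_eq_one_iff (hAz b hb)).1 e with e' | e'
      · exact hb1 e'
      · have := Subgroup.orderOf_dvd_natCard A hb
        rw [e', orderOf_z D, hA9] at this
        norm_num at this
    obtain ⟨k, hk, hks⟩ := three_cycleType hb3 hpb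
    have hle : (D.p b).support.card ≤ 9 := (Finset.card_le_univ _).trans (Fintype.card_fin 9).le
    have : k = 0 ∨ k = 1 ∨ k = 2 := by omega
    rcases this with rfl | rfl | rfl
    · exact absurd (by rw [hk]; rfl) hbt
    · exact absurd (by rw [hk]; rfl) (h33 b hb hb1)
    · rw [hk]; rfl
  obtain ⟨k, -, -, hk⟩ := F.trans_inverted S hM (hI b hb) hx (h1' b hb1) hx1
  exact ⟨k * h, b, hAz b hb, h3 b hb, hbtype, by rw [← hk]; group⟩

/-- The degree 9 configuration, packaged. -/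
noncomputable def Frame.core (hM : Nat.card F.M = 81) : Core D F where
  R := F.R
  cent _ hr := F.cent hr
  c3_mem := F.c3_mem_R
  normal _ hy _ hr := F.conj_mem' S hy hr
  card_R := by rw [← F.card_M S, hM]
  comm_R x hx y hy := by
    have h := F.M_comm S ((⟨x, hx⟩ : F.R) : F.M) ((⟨y, hy⟩ : F.R) : F.M)
    have h' : (((⟨x, hx⟩ : F.R) * ⟨y, hy⟩ * (⟨x, hx⟩ : F.R)⁻¹ * (⟨y, hy⟩ : F.R)⁻¹ : F.R) : F.M) = 1 := by
      simp only [QuotientGroup.mk_mul, QuotientGroup.mk_inv]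
      rw [h, mul_inv_cancel_right, mul_inv_cancel]
    rw [QuotientGroup.eq_one_iff, Frame.Nc, Subgroup.mem_subgroupOf] at h'
    exact h'
  fix _ hr hrz := F.fix S hr hrz
  commz _ hy := F.commz hy
  decomp _ hy := F.decomp S hy
  card_cent := by
    show Nat.card F.Kc = 2160
    rw [F.card_Kc S.nine S.ten]; rfl
  card_u := (F.card_cen S hM).1
  card_uz := (F.card_cen S hM).2
  faithful _ hkz hkc hk := F.faithful S hM hkz hkc hk
  trans x hx y hy hx1 hy1 hxi hyi := F.trans_inverted S hM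
    ⟨hx, by rw [z_inv D] at hxi; exact hxi⟩ ⟨hy, by rw [z_inv D] at hyi; exact hyi⟩ hx1 hy1
  dtype x hx hx1 hxi := F.dtype S hM ⟨hx, by rw [z_inv D] at hxi; exact hxi⟩ hx1

end Cfsg.Agent.DoubleCover90
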