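import Cfsg.Agent.Lib.DoubleCover90Core

/-!
# The centraliser in the double cover of the lift of a 3-cycle
-/

set_option autoImplicit false

namespace Cfsg.Agent.DoubleCover90

open Equiv Equiv.Perm
open scoped commutatorElement

universe u

variable {G : Type u} [Group G] {z : G} {n : ℕ} [NeZero n] {D : DC z n} (F : Frame D)

/-- The points fixed by `(6 7 8)`. -/
abbrev Rest (n : ℕ) [NeZero n] := {i : Fin n // C3 n i = i}

theorem c3_facts [hne : NeZero n] (h9 : 9 ≤ n) (h10 : n ≤ 10) :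
    (∀ i, C3 n i ≠ i → i = 6 ∨ i = 7 ∨ i = 8) ∧ C3 n 6 = 7 ∧ C3 n 7 = 8 ∧ C3 n 8 = 6 ∧
      Fintype.card (Rest n) = n - 3 := by
  rcases (show n = 9 ∨ n = 10 by omega) with rfl | rfl <;>
    obtain rfl : hne = ⟨by norm_num⟩ := Subsingleton.elim _ _ <;>
    refine ⟨?_, ?_, ?_, ?_, ?_⟩ <;> decide

theorem fix_six [hne : NeZero n] (h9 : 9 ≤ n) (h10 : n ≤ 10) : C3 n 6 ≠ 6 := by
  rcases (show n = 9 ∨ n = 10 by omega) with rfl | rfl <;>
    obtain rfl : hne = ⟨by norm_num⟩ := Subsingleton.elim _ _ <;> decide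

/-- A permutation commuting with a 3-cycle is a power of it on its support. -/
theorem exists_pow_eq (h9 : 9 ≤ n) (h10 : n ≤ 10) {f : Perm (Fin n)}
    (hf : ∀ i, f (C3 n i) = C3 n (f i)) :
    ∃ j : ℕ, j < 3 ∧ ∀ i, C3 n i ≠ i → f i = (C3 n ^ j) i := by
  obtain ⟨hm, h6, h7, h8, -⟩ := c3_facts (n := n) h9 h10
  have h6m := fix_six (n := n) h9 h10
  have hf6 : C3 n (f 6) ≠ f 6 := fun e => h6m (f.injective (by rw [hf, e]))
  obtain ⟨j, hj, hj6⟩ : ∃ j : ℕ, j < 3 ∧ f 6 = (C3 n ^ j) 6 := by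
    rcases hm _ hf6 with e | e | e
    · exact ⟨0, by norm_num, by rw [e, pow_zero, Perm.one_apply]⟩
    · exact ⟨1, by norm_num, by rw [e, pow_one, h6]⟩
    · exact ⟨2, by norm_num, by rw [e, pow_two, Perm.mul_apply, h6, h7]⟩
  refine ⟨j, hj, fun i hi => ?_⟩
  have hc : ∀ i, (C3 n ^ j) (C3 n i) = C3 n ((C3 n ^ j) i) := fun i =>
    Equiv.congr_fun ((Commute.refl (C3 n)).pow_left j).eq i
  rcases hm i hi with rfl | rfl | rfl
  · exact hj6
  · rw [← h6, hf, hc, hj6]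
  · rw [← h7, ← h6, hf, hf, hc, hc, hj6]

/-- The centraliser of `z` and `c3`. -/
abbrev Frame.Kc : Subgroup G :=
  Subgroup.centralizer ({z} : Set G) ⊓ Subgroup.centralizer ({F.c3} : Set G)

theorem Frame.mem_Kc {x : G} : x ∈ F.Kc ↔ Commute x z ∧ Commute x F.c3 := by
  rw [Subgroup.mem_inf, Subgroup.mem_centralizer_singleton_iff,
    Subgroup.mem_centralizer_singleton_iff]
  rfl

theorem Frame.p_comm_c3 (k : F.Kc) (i : Fin n) : D.p k (C3 n i) = C3 n (D.p k i) := by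
  obtain ⟨hz, hc⟩ := F.mem_Kc.1 k.2
  have h := congrArg D.p hc.eq
  rw [D.p_mul hz F.c3z, D.p_mul F.c3z hz, F.p3] at h
  exact Equiv.congr_fun h i

/-- The action on the points off the support of `(6 7 8)`. -/
noncomputable def Frame.restr : F.Kc →* Perm (Rest n) where
  toFun k := (D.p k).subtypePerm fun i => by
    rw [← F.p_comm_c3 k]; exact (D.p (k : G)).injective.eq_iff
  map_one' := by
    refine Equiv.ext fun i => Subtype.ext ?_
    show D.p ((1 : F.Kc) : G) i = i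
    rw [OneMemClass.coe_one, D.p_one]; rfl
  map_mul' a b := by
    refine Equiv.ext fun i => Subtype.ext ?_
    show D.p ((a * b : F.Kc) : G) i = D.p (a : G) (D.p (b : G) i)
    rw [Subgroup.coe_mul, D.p_mul (F.mem_Kc.1 a.2).1 (F.mem_Kc.1 b.2).1]; rfl

theorem Frame.restr_apply (k : F.Kc) (i : Rest n) : (F.restr k i : Fin n) = D.p k i := rfl

theorem Frame.split (h9 : 9 ≤ n) (h10 : n ≤ 10) (k : F.Kc) :
    ∃ j : ℕ, j < 3 ∧ D.p k = C3 n ^ j * Perm.ofSubtype (F.restr k) := by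
  obtain ⟨j, hj3, hj⟩ := exists_pow_eq h9 h10 (F.p_comm_c3 k)
  refine ⟨j, hj3, Equiv.ext fun i => ?_⟩
  rw [Perm.mul_apply]
  by_cases hi : C3 n i = i
  · rw [Perm.ofSubtype_apply_of_mem (F.restr k) hi, F.restr_apply k ⟨i, hi⟩]
    have hfix : C3 n (D.p k i) = D.p k i := by rw [← F.p_comm_c3 k, hi]
    exact (Perm.pow_apply_eq_self_of_apply_eq_self hfix j).symm
  · rw [Perm.ofSubtype_apply_of_not_mem (F.restr k) hi, hj i hi]

theorem Frame.sign_restr (h9 : 9 ≤ n) (h10 : n ≤ 10) (k : F.Kc) :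
    Perm.sign (F.restr k) = 1 := by
  obtain ⟨j, -, hj⟩ := F.split h9 h10 k
  have h := D.p_sign (k : G)
  have h3 : Perm.sign (C3 n) = 1 := by
    rw [← F.p3]; exact D.p_sign _
  rw [hj, map_mul, map_pow, h3, one_pow, one_mul, Perm.sign_ofSubtype] at h
  exact h

/-- The map onto the alternating group of the remaining points. -/
noncomputable def Frame.res (h9 : 9 ≤ n) (h10 : n ≤ 10) : F.Kc →* alternatingGroup (Rest n) :=
  F.restr.codRestrict _ (F.sign_restr h9 h10)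

theorem Frame.exists_Kc {τ : Perm (Rest n)} (hτ : Perm.sign τ = 1) :
    ∃ k : F.Kc, D.p k = Perm.ofSubtype τ ∧ F.restr k = τ := by
  obtain ⟨x, hxz, hx⟩ := D.exists_lift (σ := Perm.ofSubtype τ)
    (by rw [Perm.sign_ofSubtype, hτ])
  have hc : Commute x F.c3 := by
    refine D.comm_three hxz F.c3z (Equiv.ext fun i => ?_) ?_
    · rw [Perm.mul_apply, Perm.mul_apply, hx, F.p3]
      by_cases hi : C3 n i = i
      · rw [hi, Perm.ofSubtype_apply_of_mem τ hi]
        exact (τ ⟨i, hi⟩).2.symm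
      · have hi' : ¬ C3 n (C3 n i) = C3 n i := fun e => hi ((C3 n).injective e)
        rw [Perm.ofSubtype_apply_of_not_mem τ hi, Perm.ofSubtype_apply_of_not_mem τ hi']
    · rw [← D.p_pow F.c3z, F.c3_three, D.p_one]
  refine ⟨⟨x, F.mem_Kc.2 ⟨hxz, hc⟩⟩, hx, Equiv.ext fun i => Subtype.ext ?_⟩
  rw [F.restr_apply]
  show D.p x i = _
  rw [hx, Perm.ofSubtype_apply_coe]

theorem Frame.res_surjective (h9 : 9 ≤ n) (h10 : n ≤ 10) :
    Function.Surjective (F.res h9 h10) := fun τ => by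
  obtain ⟨k, -, hk⟩ := F.exists_Kc τ.2
  exact ⟨k, Subtype.ext hk⟩

theorem Frame.z_mem_Kc : z ∈ F.Kc := F.mem_Kc.2 ⟨Commute.refl z, F.c3z.symm⟩

theorem Frame.c3_mem_Kc : F.c3 ∈ F.Kc := F.mem_Kc.2 ⟨F.c3z, Commute.refl _⟩

theorem Frame.res_eq_one (h9 : 9 ≤ n) (h10 : n ≤ 10) {k : F.Kc} (h : F.res h9 h10 k = 1) :
    ∃ i j : ℕ, (k : G) = F.c3 ^ i * z ^ j := by
  have h' : F.restr k = 1 := congrArg Subtype.val h
  obtain ⟨j, -, hj⟩ := F.split h9 h10 k
  rw [h', map_one, mul_one] at hj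
  rcases D.eq_or_mul (F.mem_Kc.1 k.2).1 (F.c3z.pow_left j)
    (by rw [D.p_pow F.c3z, F.p3, hj]) with e | e
  · exact ⟨j, 0, by rw [e, pow_zero, mul_one]⟩
  · exact ⟨j, 1, by rw [e, pow_one]⟩

include F in
theorem Frame.simple_rest (h9 : 9 ≤ n) (h10 : n ≤ 10) :
    IsSimpleGroup (alternatingGroup (Rest n)) :=
  alternatingGroup.isSimpleGroup (by
    rw [Nat.card_eq_fintype_card, (c3_facts (n := n) h9 h10).2.2.2.2]; omega)

theorem Frame.card_Kc [Finite G] (h9 : 9 ≤ n) (h10 : n ≤ 10) :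
    Nat.card F.Kc = 3 * (n - 3).factorial := by
  classical
  set π := F.res h9 h10 with hπ
  have h1 := π.ker.index_mul_card
  rw [Subgroup.index_ker] at h1
  have hr : Nat.card π.range = Nat.card (alternatingGroup (Rest n)) := by
    rw [MonoidHom.range_eq_top.2 (F.res_surjective h9 h10), Subgroup.card_top]
  have hker : Nat.card π.ker = 6 := by
    have hf : ∀ q : Fin 3 × Fin 2, (⟨F.c3 ^ (q.1 : ℕ) * z ^ (q.2 : ℕ),
        mul_mem (pow_mem F.c3_mem_Kc _) (pow_mem F.z_mem_Kc _)⟩ : F.Kc) ∈ π.ker := by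
      intro q
      rw [MonoidHom.mem_ker]
      refine Subtype.ext (Equiv.ext fun i => Subtype.ext ?_)
      show D.p (F.c3 ^ (q.1 : ℕ) * z ^ (q.2 : ℕ)) i = i
      rw [D.p_mul (F.c3z.pow_left _) ((Commute.refl z).pow_left _), D.p_pow F.c3z,
        D.p_pow (Commute.refl z), D.p_z, one_pow, mul_one, F.p3]
      exact Perm.pow_apply_eq_self_of_apply_eq_self i.2 _
    let f : Fin 3 × Fin 2 → π.ker := fun q => ⟨_, hf q⟩
    have hoc : orderOf F.c3 = 3 := by
      haveI : Fact (Nat.Prime 3) := ⟨Nat.prime_three⟩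
      refine orderOf_eq_prime F.c3_three fun e => ?_
      have := congrArg D.p e
      rw [F.p3, D.p_one] at this
      exact fix_six (n := n) h9 h10 (by rw [this]; rfl)
    have hbij : Function.Bijective f := by
      constructor
      · rintro ⟨a, b⟩ ⟨a', b'⟩ h
        have h' : F.c3 ^ (a : ℕ) * z ^ (b : ℕ) = F.c3 ^ (a' : ℕ) * z ^ (b' : ℕ) :=
          congrArg (fun w : π.ker => ((w : F.Kc) : G)) h
        have hz2 : z ^ 2 = 1 := by rw [pow_two]; exact D.sq
        have h3 := congrArg (· ^ 3) h'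
        simp only [(F.c3z.pow_pow _ _).mul_pow, ← pow_mul, mul_comm _ 3] at h3
        rw [pow_mul F.c3, pow_mul F.c3, F.c3_three, one_pow, one_pow, one_mul, one_mul] at h3
        have hb : b = b' := by
          fin_cases b <;> fin_cases b' <;>
            first | rfl | (exfalso; simp [pow_succ, D.sq, D.ne, Ne.symm D.ne] at h3)
        subst hb
        have ha := pow_inj_mod.1 (mul_right_cancel h')
        rw [hoc, Nat.mod_eq_of_lt a.2, Nat.mod_eq_of_lt a'.2] at ha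
        exact Prod.ext (Fin.ext ha) rfl
      · rintro ⟨k, hk⟩
        obtain ⟨i, j, e⟩ := F.res_eq_one h9 h10 (MonoidHom.mem_ker.1 hk)
        refine ⟨(⟨i % 3, Nat.mod_lt _ (by norm_num)⟩, ⟨j % 2, Nat.mod_lt _ two_pos⟩),
          Subtype.ext (Subtype.ext ?_)⟩
        show F.c3 ^ (i % 3) * z ^ (j % 2) = (k : G)
        rw [e, ← pow_eq_pow_mod _ F.c3_three, ← pow_eq_pow_mod _ (by rw [pow_two]; exact D.sq)]
    rw [← Nat.card_eq_of_bijective f hbij, Nat.card_prod, Nat.card_fin, Nat.card_fin]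
  have hA : 2 * Nat.card (alternatingGroup (Rest n)) = (n - 3).factorial := by
    haveI : Nontrivial (Rest n) := Fintype.one_lt_card_iff_nontrivial.1 (by
      rw [(c3_facts (n := n) h9 h10).2.2.2.2]; omega)
    rw [Nat.card_eq_fintype_card, two_mul_card_alternatingGroup, Fintype.card_perm,
      (c3_facts (n := n) h9 h10).2.2.2.2]
  rw [hr, hker] at h1
  rw [← h1, ← hA]; ring

/-- A homomorphism of `Kc` killing `c3` but not `z` is faithful modulo `⟨c3, z⟩`. -/
theorem Frame.res_eq_one_of_ker (h9 : 9 ≤ n) (h10 : n ≤ 10) {H : Type*} [Group H]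
    (Φ : F.Kc →* H) (hz : Φ ⟨z, F.z_mem_Kc⟩ ≠ 1) {k : F.Kc} (hk : Φ k = 1) :
    F.res h9 h10 k = 1 := by
  classical
  haveI := F.simple_rest h9 h10
  set π := F.res h9 h10
  have hN : (Φ.ker.map π).Normal :=
    (inferInstance : Φ.ker.Normal).map π (F.res_surjective h9 h10)
  rcases hN.eq_bot_or_eq_top with h | h
  · exact Subgroup.mem_bot.1 (h ▸ Subgroup.mem_map_of_mem π (MonoidHom.mem_ker.2 hk))
  exfalso
  -- two anticommuting lifts
  have hc : 4 ≤ Fintype.card (Rest n) := by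
    rw [(c3_facts (n := n) h9 h10).2.2.2.2]; omega
  obtain ⟨e⟩ : Nonempty (Fin 4 ↪ Rest n) := Function.Embedding.nonempty_of_card_le (by
    rwa [Fintype.card_fin])
  have ne : ∀ i j : Fin 4, i ≠ j → (e i : Fin n) ≠ e j := fun i j hij h =>
    hij (e.injective (Subtype.ext h))
  have hs : ∀ a b c d : Fin 4, a ≠ b → c ≠ d →
      Perm.sign (swap (e a) (e b) * swap (e c) (e d)) = 1 := fun a b c d h1 h2 => by
    rw [map_mul, Perm.sign_swap (e.injective.ne h1), Perm.sign_swap (e.injective.ne h2)]; rfl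
  have himg : ∀ a b c d : Fin 4, Perm.ofSubtype (swap (e a) (e b) * swap (e c) (e d)) =
      swap (e a : Fin n) (e b) * swap (e c : Fin n) (e d) := fun a b c d => by
    rw [map_mul, Perm.ofSubtype_swap_eq, Perm.ofSubtype_swap_eq]
  obtain ⟨d, hd, hd'⟩ := F.exists_Kc (hs 0 1 2 3 (by decide) (by decide))
  obtain ⟨g, hg, hg'⟩ := F.exists_Kc (hs 0 2 1 3 (by decide) (by decide))
  rw [himg] at hd hg
  have hdg : IsDTP (D.p (d : G) * D.p (g : G)) := by
    refine ⟨e 0, e 3, e 1, e 2, ne _ _ (by decide), ne _ _ (by decide), ne _ _ (by decide),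
      ne _ _ (by decide), ne _ _ (by decide), ne _ _ (by decide), ?_⟩
    rw [hd, hg]
    ext i
    congr 1
    simp only [Perm.mul_apply, swap_apply_def]
    have n01 := ne 0 1 (by decide)
    have n02 := ne 0 2 (by decide)
    have n03 := ne 0 3 (by decide)
    have n12 := ne 1 2 (by decide)
    have n13 := ne 1 3 (by decide)
    have n23 := ne 2 3 (by decide)
    split_ifs <;> simp_all
  have key := D.anti3 (F.mem_Kc.1 d.2).1 (F.mem_Kc.1 g.2).1
    (hd ▸ isDTP_swaps (ne _ _ (by decide)) (ne _ _ (by decide)) (ne _ _ (by decide))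
      (ne _ _ (by decide)) (ne _ _ (by decide)) (ne _ _ (by decide)))
    (hg ▸ isDTP_swaps (ne _ _ (by decide)) (ne _ _ (by decide)) (ne _ _ (by decide))
      (ne _ _ (by decide)) (ne _ _ (by decide)) (ne _ _ (by decide))) hdg
  have hzk : ⁅d, g⁆ = ⟨z, F.z_mem_Kc⟩ := Subtype.ext (by
    show (d : G) * g * (d : G)⁻¹ * (g : G)⁻¹ = z
    rw [key]; group)
  have pick : ∀ w : F.Kc, ∃ m ∈ Φ.ker, m⁻¹ * w ∈ Subgroup.center F.Kc := fun w => by
    obtain ⟨m, hm, hm'⟩ := (h ▸ Subgroup.mem_top (π w) : π w ∈ Φ.ker.map π)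
    refine ⟨m, hm, ?_⟩
    obtain ⟨i, j, e⟩ := F.res_eq_one h9 h10 (show π (m⁻¹ * w) = 1 by
      rw [map_mul, map_inv, hm', inv_mul_cancel])
    rw [Subgroup.mem_center_iff]
    intro v
    refine Subtype.ext ?_
    show (v : G) * ((m⁻¹ * w : F.Kc) : G) = ((m⁻¹ * w : F.Kc) : G) * (v : G)
    rw [e]
    exact (((F.mem_Kc.1 v.2).2.pow_right i).mul_right ((F.mem_Kc.1 v.2).1.pow_right j)).eq
  obtain ⟨m, hm, hmc⟩ := pick d
  obtain ⟨m', hm', hm'c⟩ := pick g
  refine hz ?_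
  have e1 : Φ d = Φ (m⁻¹ * d) := by rw [map_mul, map_inv, MonoidHom.mem_ker.1 hm, inv_one, one_mul]
  have e2 : Φ g = Φ (m'⁻¹ * g) := by
    rw [map_mul, map_inv, MonoidHom.mem_ker.1 hm', inv_one, one_mul]
  rw [← hzk, map_commutatorElement, e1, e2, ← map_commutatorElement]
  rw [commutatorElement_eq_one_iff_mul_comm.2 (Subgroup.mem_center_iff.1 hm'c _), map_one]

end Cfsg.Agent.DoubleCover90
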