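import Cfsg.Agent.Lib.DoubleCover90CoreMk

/-!
# S1645: reduction of degree 9 and 10
-/

set_option autoImplicit false

namespace Cfsg.Agent.DoubleCover90

open Equiv Equiv.Perm

universe u

variable {G : Type u} [Group G] {z : G} {n : ℕ}

/-- Lifts of 3-cycles have centralisers inside `C(z)` as soon as that of `c3` has. -/
theorem Frame.three_cycle [NeZero n] {D : DC z n} (F : Frame D) (S : Small D)
    (h : ∀ y, Commute y F.c3 → Commute y z) :
    ∀ x, Commute x z → x ^ 3 = 1 → (D.p x).cycleType = {3} → ∀ y, Commute y x → Commute y z := by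
  classical
  intro x hx hx3 hxt y hy
  obtain ⟨-, -, h3, -⟩ := perm_types (n := n) S.nine S.ten
  have hc := (alternatingGroup.isConj_of (σ := ⟨D.p x, D.p_sign x⟩)
    (τ := ⟨D.p F.c3, D.p_sign F.c3⟩)
    (isConj_iff_cycleType_eq.2
      (show (D.p x).cycleType = (D.p F.c3).cycleType by rw [hxt, F.p3, h3])) (by
      show (D.p x).support.card + 2 ≤ Fintype.card (Fin n)
      rw [← sum_cycleType, hxt, Fintype.card_fin]
      show 3 + 2 ≤ n
      have := S.nine; omega))
  obtain ⟨k, hk⟩ := isConj_iff.1 hc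
  obtain ⟨k', hk'c, hk'⟩ := D.exists_lift k.2
  have he : k' * x * k'⁻¹ = F.c3 :=
    D.three_unique ((hk'c.mul_left hx).mul_left hk'c.inv_left) F.c3z
      (by rw [conj_pow, hx3]; group) F.c3_three (by
        rw [D.p_conj hx hk'c, hk']
        exact congrArg Subtype.val hk)
  have h1 := hy.conj k'
  rw [he] at h1
  have h2 := (hk'c.inv_left.mul_left (h _ h1)).mul_left hk'c
  rwa [show k'⁻¹ * (k' * y * k'⁻¹) * k' = y by group] at h2

/-- Degrees 9 and 10 are reduced to the two end-games. -/
theorem small_cases [Finite G] (D : DC z n) (S : Small D)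
    (hquot : ∀ [NeZero n], ∀ F : Frame D, (∀ x, Commute x z → x ^ 3 = 1 →
      (D.p x).cycleType = {3} → ∀ y, Commute y x → Commute y z) → False)
    (hcore : ∀ (D9 : DC z 9) (F : Frame D9), Small D9 → Core D9 F → False) : False := by
  haveI : NeZero n := ⟨by have := S.nine; omega⟩
  obtain ⟨F⟩ := exists_frame D S.nine S.ten
  rcases F.card_M_cases S with h1 | ⟨rfl, h81⟩
  · exact hquot F (F.three_cycle S fun y hy => F.centralizer_le S h1 hy)
  · exact hcore D F S (F.core S h81)

theorem exists_conjugate [Finite G] [IsSimpleGroup G] (hn : 5 ≤ n) (D : DC z n) :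
    ∃ g, Commute (g * z * g⁻¹) z ∧ g * z * g⁻¹ ≠ z := by
  by_contra hno
  push Not at hno
  have hiso : Cfsg.IsIsolatedInvolution z := ⟨orderOf_z D, fun g hg => hno g hg.symm⟩
  obtain ⟨N, hN, hodd, hmem⟩ := ZStarTheorem.exists_odd_normal hiso
  have hbot : N = ⊥ := by
    rcases hN.eq_bot_or_eq_top with h | h
    · exact h
    · exfalso
      rw [h, Subgroup.card_top] at hodd
      have h2 := orderOf_dvd_natCard z
      rw [orderOf_z D] at h2
      exact (Nat.not_even_iff_odd.2 hodd) (even_iff_two_dvd.2 h2)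
  have hzc : z ∈ Subgroup.center G := Subgroup.mem_center_iff.2 fun g => by
    have h := hmem g
    rw [hbot, Subgroup.mem_bot, mul_inv_eq_one, mul_inv_eq_iff_eq_mul] at h
    exact h.symm
  have htop : Subgroup.center G = ⊤ := by
    rcases (inferInstance : (Subgroup.center G).Normal).eq_bot_or_eq_top with h | h
    · exact absurd (Subgroup.mem_bot.1 (h ▸ hzc)) D.ne
    · exact h
  let a : Fin n := ⟨0, by omega⟩
  let b : Fin n := ⟨1, by omega⟩
  let c : Fin n := ⟨2, by omega⟩
  let d : Fin n := ⟨3, by omega⟩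
  have hab : a ≠ b := by simp [a, b, Fin.ext_iff]
  have hac : a ≠ c := by simp [a, c, Fin.ext_iff]
  have had : a ≠ d := by simp [a, d, Fin.ext_iff]
  have hbc : b ≠ c := by simp [b, c, Fin.ext_iff]
  have hbd : b ≠ d := by simp [b, d, Fin.ext_iff]
  have hcd : c ≠ d := by simp [c, d, Fin.ext_iff]
  obtain ⟨x, hx, hpx⟩ := D.exists_lift (S2493.swaps_mem a b c d hab hcd)
  obtain ⟨y, hy, hpy⟩ := D.exists_lift (S2493.swaps_mem a c b d hac hbd)
  have key := D.anti3 hx hy (hpx ▸ isDTP_swaps hab hcd hac had hbc hbd)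
    (hpy ▸ isDTP_swaps hac hbd hab had (Ne.symm hbc) hcd) (by
      refine ⟨a, d, b, c, had, hbc, hab, hac, Ne.symm hbd, Ne.symm hcd, ?_⟩
      rw [hpx, hpy]
      ext i
      congr 1
      simp only [Perm.mul_apply, swap_apply_def]
      split_ifs <;> simp_all)
  have hcomm : y * x = x * y := Subgroup.mem_center_iff.1 (htop ▸ Subgroup.mem_top x : x ∈ Subgroup.center G) y
  rw [hcomm] at key
  exact D.ne (right_eq_mul.1 key)

end Cfsg.Agent.DoubleCover90
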