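import Cfsg.Agent.Lib.DoubleCover90Bounds

/-!
# The action on `R / ⟨c3⟩`: either `R = ⟨c3⟩` or the degree 9 configuration
-/

set_option autoImplicit false

namespace Cfsg.Agent.DoubleCover90

open Equiv Equiv.Perm
open Cfsg.Agent.FourFormula30 (cen inverted card_split four_formula mem_cen)

universe u

variable {G : Type u} [Group G] {z : G} {n : ℕ} [NeZero n] {D : DC z n} (F : Frame D)

/-- `⟨c3⟩` inside `R`. -/
def Frame.Nc : Subgroup F.R := (Subgroup.zpowers F.c3).subgroupOf F.R

instance Frame.Nc_normal : F.Nc.Normal := ⟨fun x hx g => by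
  rw [Frame.Nc, Subgroup.mem_subgroupOf] at hx ⊢
  obtain ⟨i, hi⟩ := Subgroup.mem_zpowers_iff.1 hx
  show (g : G) * (x : G) * (g : G)⁻¹ ∈ _
  rw [← hi, ((F.cent g.2).zpow_right i).eq, mul_inv_cancel_right]
  exact Subgroup.zpow_mem _ (Subgroup.mem_zpowers _) i⟩

/-- The quotient `R / ⟨c3⟩`. -/
abbrev Frame.M : Type u := F.R ⧸ F.Nc

/-- Conjugation on `R`. -/
def Frame.conjR : F.Kc →* MulAut F.R where
  toFun k :=
    { toFun := fun r => ⟨(k : G) * r * (k : G)⁻¹, F.conj_mem (F.mem_Kc.1 k.2).2 r.2⟩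
      invFun := fun r => ⟨(k : G)⁻¹ * r * (k : G), by
        have := F.conj_mem (F.mem_Kc.1 k.2).2.inv_left r.2
        rwa [inv_inv] at this⟩
      left_inv := fun r => Subtype.ext (by
        show (k : G)⁻¹ * ((k : G) * r * (k : G)⁻¹) * (k : G) = r
        group)
      right_inv := fun r => Subtype.ext (by
        show (k : G) * ((k : G)⁻¹ * r * (k : G)) * (k : G)⁻¹ = r
        group)
      map_mul' := fun r r' => Subtype.ext (by
        show (k : G) * ((r : G) * r') * (k : G)⁻¹ =
          (k : G) * r * (k : G)⁻¹ * ((k : G) * r' * (k : G)⁻¹)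
        group) }
  map_one' := MulEquiv.ext fun r => Subtype.ext (by
    show ((1 : F.Kc) : G) * r * ((1 : F.Kc) : G)⁻¹ = r
    simp)
  map_mul' a b := MulEquiv.ext fun r => Subtype.ext (by
    show ((a * b : F.Kc) : G) * r * ((a * b : F.Kc) : G)⁻¹ =
      (a : G) * ((b : G) * r * (b : G)⁻¹) * (a : G)⁻¹
    rw [Subgroup.coe_mul]; group)

theorem Frame.conjR_Nc (k : F.Kc) : F.Nc.map (F.conjR k).toMonoidHom = F.Nc := by
  have hc : ∀ x ∈ F.Nc, F.conjR k x = x := fun x hx => by
    rw [Frame.Nc, Subgroup.mem_subgroupOf] at hx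
    obtain ⟨i, hi⟩ := Subgroup.mem_zpowers_iff.1 hx
    refine Subtype.ext ?_
    show (k : G) * (x : G) * (k : G)⁻¹ = x
    rw [← hi, ((F.mem_Kc.1 k.2).2.zpow_right i).eq, mul_inv_cancel_right]
  ext x
  constructor
  · rintro ⟨y, hy, rfl⟩
    exact (hc y hy).symm ▸ hy
  · exact fun hx => ⟨x, hx, hc x hx⟩

/-- The action on `R / ⟨c3⟩`. -/
noncomputable def Frame.act : F.Kc →* MulAut F.M where
  toFun k := QuotientGroup.congr F.Nc F.Nc (F.conjR k) (F.conjR_Nc k)
  map_one' := MulEquiv.ext fun x => by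
    induction x using QuotientGroup.induction_on with
    | _ r =>
      show ((F.conjR 1 r : F.R) : F.M) = (r : F.M)
      rw [map_one]; rfl
  map_mul' a b := MulEquiv.ext fun x => by
    induction x using QuotientGroup.induction_on with
    | _ r =>
      show ((F.conjR (a * b) r : F.R) : F.M) = ((F.conjR a (F.conjR b r) : F.R) : F.M)
      rw [map_mul]; rfl

theorem Frame.act_mk (k : F.Kc) (r : F.R) : F.act k (r : F.M) = ((F.conjR k r : F.R) : F.M) :=
  rfl

variable [Finite G] (S : Small D)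
include S

theorem Frame.odd_M : Odd (Nat.card F.M) :=
  (F.odd_R S).of_dvd_nat (Subgroup.card_quotient_dvd_card F.Nc)

theorem Frame.act_z (x : F.M) : F.act ⟨z, F.z_mem_Kc⟩ x = x⁻¹ := by
  set φ := F.act ⟨z, F.z_mem_Kc⟩ with hφ
  have h2 : Function.Involutive φ := fun x => by
    have e : (⟨z, F.z_mem_Kc⟩ : F.Kc) * ⟨z, F.z_mem_Kc⟩ = 1 := Subtype.ext D.sq
    show (φ * φ) x = x
    rw [hφ, ← map_mul, e, map_one]; rfl
  have hf : MonoidHom.FixedPointFree φ := fun x hx => by
    induction x using QuotientGroup.induction_on with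
    | _ r =>
      rw [hφ, F.act_mk] at hx
      have hx' := QuotientGroup.eq.1 hx.symm
      rw [Frame.Nc, Subgroup.mem_subgroupOf] at hx'
      change (r : G)⁻¹ * (z * r * z⁻¹) ∈ Subgroup.zpowers F.c3 at hx'
      obtain ⟨i, hi⟩ := Subgroup.mem_zpowers_iff.1 hx'
      have hcz : z * F.c3 ^ i * z = F.c3 ^ i :=
        FourFormula30.conj_of_commute D.sq (F.c3z.zpow_left i).eq
      rw [z_inv D] at hi
      have h1 : z * F.c3 ^ i * z = (F.c3 ^ i)⁻¹ := by
        rw [hi, mul_inv_rev, mul_inv_rev, mul_inv_rev, inv_inv, z_inv D]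
        calc z * ((r : G)⁻¹ * (z * r * z)) * z = z * (r : G)⁻¹ * z * r * (z * z) := by group
          _ = z * ((r : G)⁻¹ * z) * r := by rw [D.sq, mul_one]; group
      rw [hcz, eq_inv_iff_mul_eq_one, ← zpow_add, ← two_mul, ← orderOf_dvd_iff_zpow_eq_one,
        F.orderOf_c3 S.nine S.ten] at h1
      have h0 : F.c3 ^ i = 1 := by
        rw [← orderOf_dvd_iff_zpow_eq_one, F.orderOf_c3 S.nine S.ten]; omega
      rw [h0] at hi
      have hrz : Commute (r : G) z := FourFormula30.commute_of_conj D.sq (inv_mul_eq_one.1 hi.symm).symm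
      rw [QuotientGroup.eq_one_iff, Frame.Nc, Subgroup.mem_subgroupOf]
      exact F.fix S r.2 hrz
  exact congrFun (hf.coe_eq_inv_of_involutive h2) x

theorem Frame.M_comm (x y : F.M) : x * y = y * x := by
  have h := map_mul (F.act ⟨z, F.z_mem_Kc⟩) x y
  rw [F.act_z S, F.act_z S, F.act_z S, inv_eq_iff_eq_inv, mul_inv_rev, inv_inv, inv_inv] at h
  exact h

theorem Frame.card_M : Nat.card F.M * 3 = Nat.card F.R := by
  have h : Nat.card F.Nc = 3 := by
    rw [Frame.Nc, Nat.card_congr (Subgroup.subgroupOfEquivOfLe (Subgroup.zpowers_le.2 F.c3_mem_R)).toEquiv,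
      Nat.card_zpowers, F.orderOf_c3 S.nine S.ten]
  rw [Subgroup.card_eq_card_quotient_mul_card_subgroup F.Nc, h]

theorem Frame.cen_z : Nat.card (cen F.R z) = 3 := by
  have : cen F.R z = Subgroup.zpowers F.c3 := le_antisymm
    (fun r hr => F.fix S (mem_cen.1 hr).1 (mem_cen.1 hr).2)
    (Subgroup.zpowers_le.2 (mem_cen.2 ⟨F.c3_mem_R, F.c3z.eq⟩))
  rw [this, Nat.card_zpowers, F.orderOf_c3 S.nine S.ten]

theorem Frame.card_M_eq :
    Nat.card F.M = Nat.card (cen F.R F.u) * Nat.card (cen F.R (F.u * z)) := by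
  have h := four_formula F.R (F.odd_R S) z F.u D.sq F.u_sq F.uz.symm.eq
    (fun k hk => F.z_conj_R hk) (fun k hk => by
      have := F.conj_mem' S (Or.inr F.u3) hk
      rwa [inv_eq_of_mul_eq_one_right F.u_sq] at this)
  have he : cen (cen F.R F.u) z = cen (cen F.R z) F.u := by simp only [cen, inf_right_comm]
  rw [he, F.cen_trivial S F.u3, one_pow, mul_one, F.cen_z S, ← F.card_M S, ← F.uz.eq,
    mul_comm (Nat.card F.M) 3, mul_assoc] at h
  exact Nat.eq_of_mul_eq_mul_left (by norm_num) h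

theorem Frame.exists_factor {p : ℕ} (hp : p.Prime) :
    ∃ v₁ v₂ : ℕ, (Nat.card F.M).factorization p = v₁ + v₂ ∧
      p ^ v₁ ∣ Nat.card (cen F.R F.u) ∧ p ^ v₂ ∣ Nat.card (cen F.R (F.u * z)) := by
  refine ⟨(Nat.card (cen F.R F.u)).factorization p,
    (Nat.card (cen F.R (F.u * z))).factorization p, ?_, Nat.ordProj_dvd _ p, Nat.ordProj_dvd _ p⟩
  rw [F.card_M_eq S, Nat.factorization_mul Nat.card_pos.ne' Nat.card_pos.ne', Finsupp.add_apply]

theorem Frame.prime_cases {p : ℕ} (hp : p.Prime) (hd : p ∣ Nat.card F.M) :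
    (p = 3 ∨ p = 5 ∨ p = 7) ∧ (p = 3 → (Nat.card F.M).factorization p ≤ 4) ∧
      (p = 5 → (Nat.card F.M).factorization p ≤ 4 ∧
        (n = 9 → (Nat.card F.M).factorization p ≤ 2)) ∧
      (p = 7 → (Nat.card F.M).factorization p ≤ 2) := by
  obtain ⟨v₁, v₂, hv, h1, h2⟩ := F.exists_factor S hp
  obtain ⟨b1, c1⟩ := F.fixed_bound S F.u_two F.uz F.u_ne F.u3 hp h1
  obtain ⟨b2, c2⟩ := F.fixed_bound S F.uz_two (F.uz.mul_left (Commute.refl z)) F.uz_ne F.uz3 hp h2
  have hne : p ≠ 2 := fun e => (Nat.not_even_iff_odd.2 (F.odd_M S)) (even_iff_two_dvd.2 (e ▸ hd))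
  have hpn : p ≤ n := by
    have hpos : 0 < (Nat.card F.M).factorization p := hp.factorization_pos_of_dvd Nat.card_pos.ne' hd
    have hdf : p ∣ n.factorial := by
      rcases Nat.eq_zero_or_pos v₁ with e | e
      · exact (dvd_pow_self p (by omega : v₂ ≠ 0)).trans b2
      · exact (dvd_pow_self p (by omega : v₁ ≠ 0)).trans b1
    exact (Nat.Prime.dvd_factorial hp).1 hdf
  have h10 := S.ten
  have hp' : p = 3 ∨ p = 5 ∨ p = 7 := by
    have := hp.two_le
    have hcases : p = 3 ∨ p = 4 ∨ p = 5 ∨ p = 6 ∨ p = 7 ∨ p = 8 ∨ p = 9 ∨ p = 10 := by omega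
    rcases hcases with h | h | h | h | h | h | h | h
    · exact Or.inl h
    · exact absurd hp (by rw [h]; norm_num)
    · exact Or.inr (Or.inl h)
    · exact absurd hp (by rw [h]; norm_num)
    · exact Or.inr (Or.inr h)
    all_goals exact absurd hp (by rw [h]; norm_num)
  have hle : ∀ (k m v : ℕ), p ^ v ∣ n.factorial → n ≤ k → ¬ p ^ (m + 1) ∣ k.factorial → v ≤ m :=
    fun k m v hv hk hnd => by
      by_contra hh
      exact hnd (((pow_dvd_pow p (by omega : m + 1 ≤ v)).trans hv).trans
        (Nat.factorial_dvd_factorial hk))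
  refine ⟨hp', fun e => by have := c1 e; have := c2 e; omega, fun e => ⟨?_, fun h9 => ?_⟩,
    fun e => ?_⟩ <;> subst e
  · have := hle 10 2 v₁ b1 h10 (by decide)
    have := hle 10 2 v₂ b2 h10 (by decide)
    omega
  · have := hle 9 1 v₁ b1 h9.le (by decide)
    have := hle 9 1 v₂ b2 h9.le (by decide)
    omega
  · have := hle 10 1 v₁ b1 h10 (by decide)
    have := hle 10 1 v₂ b2 h10 (by decide)
    omega

theorem Frame.act_c3 : F.act ⟨F.c3, F.c3_mem_Kc⟩ = 1 := by
  refine MulEquiv.ext fun x => ?_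
  induction x using QuotientGroup.induction_on with
  | _ r =>
    rw [F.act_mk]
    refine congrArg _ (Subtype.ext ?_)
    show F.c3 * (r : G) * F.c3⁻¹ = r
    rw [(F.cent r.2).symm.eq, mul_inv_cancel_right]

omit S in
/-- The restriction of the action to a characteristic subgroup. -/
noncomputable def restrictAut {M : Type*} [Group M] (P : Subgroup M) [hP : P.Characteristic] :
    MulAut M →* MulAut P where
  toFun f :=
    { toFun := fun x => ⟨f x, by
        have h := Subgroup.mem_map_of_mem f.toMonoidHom x.2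
        rw [Subgroup.characteristic_iff_map_eq.1 hP f] at h
        exact h⟩
      invFun := fun x => ⟨f.symm x, by
        have h := Subgroup.mem_map_of_mem f.symm.toMonoidHom x.2
        rw [Subgroup.characteristic_iff_map_eq.1 hP f.symm] at h
        exact h⟩
      left_inv := fun x => Subtype.ext (f.symm_apply_apply x)
      right_inv := fun x => Subtype.ext (f.apply_symm_apply x)
      map_mul' := fun x y => Subtype.ext (map_mul f (x : M) y) }
  map_one' := rfl
  map_mul' f g := rfl

theorem Frame.exists_order {r : ℕ} (hr : r.Prime) (h7 : 5 ≤ r) (hle : r ≤ n - 3) :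
    ∃ f : F.Kc, f ^ r = 1 ∧ F.res S.nine S.ten f ≠ 1 := by
  haveI : Fact r.Prime := ⟨hr⟩
  obtain ⟨f, hf⟩ := exists_prime_orderOf_dvd_card' (G := F.Kc) r (by
    rw [F.card_Kc S.nine S.ten]
    exact dvd_mul_of_dvd_right ((Nat.Prime.dvd_factorial hr).2 hle) 3)
  refine ⟨f, hf ▸ pow_orderOf_eq_one f, fun h => ?_⟩
  obtain ⟨i, j, e⟩ := F.res_eq_one S.nine S.ten h
  have h6 : (f : G) ^ 6 = 1 := by
    rw [e, (F.c3z.pow_pow i j).mul_pow, ← pow_mul, ← pow_mul,
      show i * 6 = 3 * (2 * i) by ring, show j * 6 = 2 * (3 * j) by ring, pow_mul, pow_mul z,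
      F.c3_three, one_pow, pow_two, D.sq, one_pow, one_mul]
  have hd : r ∣ 6 := by
    rw [← hf, ← Subgroup.orderOf_coe]; exact orderOf_dvd_of_pow_eq_one h6
  rcases (Nat.Prime.dvd_mul hr).1 (show r ∣ 2 * 3 from hd) with h | h
  · have := Nat.le_of_dvd two_pos h; omega
  · have := Nat.le_of_dvd three_pos h; omega

/-- Only the prime 3 divides `R / ⟨c3⟩`; its exponent is 0, or 4 in degree 9. -/
theorem Frame.prime_part {p : ℕ} (hp : p.Prime) (hd : p ∣ Nat.card F.M) :
    p = 3 ∧ n = 9 ∧ (Nat.card F.M).factorization p = 4 := by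
  obtain ⟨hp', b3, b5, b7⟩ := F.prime_cases S hp hd
  haveI : Fact p.Prime := ⟨hp⟩
  obtain ⟨P⟩ : Nonempty (Sylow p F.M) := inferInstance
  haveI hPn : (P : Subgroup F.M).Normal := ⟨fun x hx g => by
    rw [F.M_comm S g x, mul_inv_cancel_right]; exact hx⟩
  haveI := Sylow.characteristic_of_normal P hPn
  set e := (Nat.card F.M).factorization p with he
  have hPcard : Nat.card (P : Subgroup F.M) = p ^ e := P.card_eq_multiplicity
  have he0 : 0 < e := hp.factorization_pos_of_dvd Nat.card_pos.ne' hd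
  let Φ : F.Kc →* MulAut (P : Subgroup F.M) := (restrictAut _).comp F.act
  have hz : Φ ⟨z, F.z_mem_Kc⟩ ≠ 1 := by
    intro h
    obtain ⟨x, hx⟩ := exists_prime_orderOf_dvd_card' (G := (P : Subgroup F.M)) p
      (hPcard ▸ dvd_pow_self p he0.ne')
    have h1 : (Φ ⟨z, F.z_mem_Kc⟩ x : F.M) = (x : F.M)⁻¹ := F.act_z S x
    rw [h, MulAut.one_apply] at h1
    have h2 : x * x = 1 := Subtype.ext (mul_eq_one_iff_eq_inv.2 h1)
    have h3 : p ∣ 2 := hx ▸ orderOf_dvd_of_pow_eq_one (by rw [pow_two]; exact h2)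
    have := Nat.le_of_dvd two_pos h3
    rcases hp' with rfl | rfl | rfl <;> omega
  have key : ∀ {r : ℕ}, r.Prime → 5 ≤ r → r ≤ n - 3 → p ≠ r →
      (∀ i, 1 ≤ i → i < e → p ^ i % r ≠ 1) → p ^ e % r = 1 := by
    intro r hr hr5 hrn hpr hi
    obtain ⟨f, hf, hfne⟩ := F.exists_order S hr hr5 hrn
    rcases DoubleCover90Aut.fixed_dichotomy hp hr hpr hPcard (Φ f)
      (by rw [← map_pow, hf, map_one]) hi with h | h
    · exact absurd (F.res_eq_one_of_ker S.nine S.ten Φ hz h) hfne
    · exact h.2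
  have h9 := S.nine
  have h10 := S.ten
  rcases hp' with rfl | rfl | rfl
  · have hb : e ≤ 4 := b3 rfl
    rcases (show n = 9 ∨ n = 10 by omega) with hn | hn
    · refine ⟨rfl, hn, ?_⟩
      have h := key (r := 5) (by norm_num) le_rfl (by omega) (by norm_num) (fun i h1 h2 => by
        have : i = 1 ∨ i = 2 ∨ i = 3 := by omega
        rcases this with rfl | rfl | rfl <;> norm_num)
      interval_cases e <;> first | rfl | (norm_num at h)
    · exfalso
      have h := key (r := 7) (by norm_num) (by norm_num) (by omega) (by norm_num) (fun i h1 h2 => by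
        have : i = 1 ∨ i = 2 ∨ i = 3 := by omega
        rcases this with rfl | rfl | rfl <;> norm_num)
      interval_cases e <;> norm_num at h
  · exfalso
    rcases (show n = 9 ∨ n = 10 by omega) with hn | hn
    · have hb : e ≤ 2 := (b5 rfl).2 hn
      have hle := DoubleCover90Aut.card_aut_le (P := (P : Subgroup F.M)) (p := 5) hp
        (hPcard ▸ pow_dvd_pow 5 hb)
      have hker : Nat.card Φ.ker ≤ 3 := by
        have hlt : Φ.ker < (F.res S.nine S.ten).ker := lt_of_le_of_ne
          (fun k hk => MonoidHom.mem_ker.2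
            (F.res_eq_one_of_ker S.nine S.ten Φ hz (MonoidHom.mem_ker.1 hk)))
          (fun e' => hz (MonoidHom.mem_ker.1 (e' ▸ MonoidHom.mem_ker.2 (by
            refine Subtype.ext (Equiv.ext fun i => Subtype.ext ?_)
            show D.p z i = i
            rw [D.p_z]; rfl))))
        have h6 : Nat.card (F.res S.nine S.ten).ker ≤ 6 := by
          have h1 := (F.res S.nine S.ten).ker.index_mul_card
          rw [Subgroup.index_ker, MonoidHom.range_eq_top.2 (F.res_surjective S.nine S.ten),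
            Subgroup.card_top, F.card_Kc S.nine S.ten] at h1
          haveI : Nontrivial (Rest n) := Fintype.one_lt_card_iff_nontrivial.1 (by
            rw [(c3_facts (n := n) S.nine S.ten).2.2.2.2]; omega)
          have hA : 2 * Nat.card (alternatingGroup (Rest n)) = (n - 3).factorial := by
            rw [Nat.card_eq_fintype_card, two_mul_card_alternatingGroup, Fintype.card_perm,
              (c3_facts (n := n) S.nine S.ten).2.2.2.2]
          rw [← hA, show 3 * (2 * Nat.card (alternatingGroup (Rest n))) =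
            Nat.card (alternatingGroup (Rest n)) * 6 by ring] at h1
          exact (Nat.eq_of_mul_eq_mul_left Nat.card_pos h1).le
        obtain ⟨c, hc⟩ := Subgroup.card_dvd_of_le hlt.le
        have hc2 : 2 ≤ c := by
          by_contra h
          have : c = 0 ∨ c = 1 := by omega
          rcases this with rfl | rfl
          · have := Nat.card_pos (α := (F.res S.nine S.ten).ker)
            omega
          · exact hlt.ne (Subgroup.eq_of_le_of_card_ge hlt.le (by omega))
        have h2 : Nat.card Φ.ker * 2 ≤ Nat.card Φ.ker * c := Nat.mul_le_mul_left _ hc2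
        omega
      have h1 := Φ.ker.index_mul_card
      rw [Subgroup.index_ker, F.card_Kc S.nine S.ten, show n - 3 = 6 by omega,
        show 3 * Nat.factorial 6 = 2160 from rfl] at h1
      have h2 := (Subgroup.card_le_card_group Φ.range).trans hle
      have h3 : Nat.card Φ.range * Nat.card Φ.ker ≤ 625 * 3 :=
        Nat.mul_le_mul (by simpa using h2) hker
      omega
    · have hb : e ≤ 4 := (b5 rfl).1
      have h := key (r := 7) (by norm_num) (by norm_num) (by omega) (by norm_num) (fun i h1 h2 => by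
        have : i = 1 ∨ i = 2 ∨ i = 3 := by omega
        rcases this with rfl | rfl | rfl <;> norm_num)
      interval_cases e <;> norm_num at h
  · exfalso
    have hb : e ≤ 2 := b7 rfl
    have h := key (r := 5) (by norm_num) le_rfl (by omega) (by norm_num) (fun i h1 h2 => by
      have : i = 1 := by omega
      subst this; norm_num)
    interval_cases e <;> norm_num at h

/-- `M` is trivial or of order 81 in degree 9. -/
theorem Frame.card_M_cases : Nat.card F.M = 1 ∨ (n = 9 ∧ Nat.card F.M = 81) := by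
  by_cases h1 : Nat.card F.M = 1
  · exact Or.inl h1
  right
  obtain ⟨p, hp, hd⟩ := Nat.exists_prime_and_dvd h1
  obtain ⟨rfl, hn, he⟩ := F.prime_part S hp hd
  refine ⟨hn, Nat.eq_of_factorization_eq Nat.card_pos.ne' (by norm_num) fun q => ?_⟩
  rw [show (81 : ℕ) = 3 ^ 4 from rfl, Nat.Prime.factorization_pow hp, Finsupp.single_apply]
  split_ifs with hq
  · subst hq; exact he
  · by_contra hne
    rcases Nat.factorization_eq_zero_iff _ q |>.not.1 hne with h
    push Not at h
    obtain ⟨rfl, -, -⟩ := F.prime_part S h.1 h.2.1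
    exact hq rfl

/-- If `R / ⟨c3⟩` is trivial then `C(c3) ≤ C(z)`. -/
theorem Frame.centralizer_le (h1 : Nat.card F.M = 1) {y : G} (hy : Commute y F.c3) :
    Commute y z := by
  have hR : Nat.card F.R = 3 := by rw [← F.card_M S, h1]
  have hle : F.R = Subgroup.zpowers F.c3 :=
    (Subgroup.eq_of_le_of_card_ge (Subgroup.zpowers_le.2 F.c3_mem_R)
      (by rw [hR, Nat.card_zpowers, F.orderOf_c3 S.nine S.ten])).symm
  obtain ⟨r, hr, hry⟩ := F.decomp S hy
  rw [hle] at hr
  obtain ⟨i, rfl⟩ := Subgroup.mem_zpowers_iff.1 hr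
  have := (F.c3z.zpow_left i).inv_left.mul_left hry
  rwa [inv_mul_cancel_left] at this

end Cfsg.Agent.DoubleCover90
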