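import Cfsg.Agent.Lib.DoubleCover90Big

/-!
# Double cover centralisers of degree 9 and 10: types of elements of order 3
-/

set_option autoImplicit false

namespace Cfsg.Agent.DoubleCover90

open Equiv Equiv.Perm
open scoped Pointwise

universe u

variable {G : Type u} [Group G] {z : G} {n : ℕ}

theorem orderOf_z (D : DC z n) : orderOf z = 2 :=
  orderOf_eq_prime (by rw [pow_two]; exact D.sq) D.ne

theorem mul_self_of_two {t : G} (h : orderOf t = 2) : t * t = 1 := by
  rw [← pow_two, ← h]; exact pow_orderOf_eq_one t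

theorem ne_one_of_two {t : G} (h : orderOf t = 2) : t ≠ 1 := fun e => by
  rw [e, orderOf_one] at h; omega

/-- Lifts of order dividing 3 are unique. -/
theorem DC.three_unique (D : DC z n) {x y : G} (hx : Commute x z) (hy : Commute y z)
    (hx3 : x ^ 3 = 1) (hy3 : y ^ 3 = 1) (h : D.p x = D.p y) : x = y := by
  rcases D.eq_or_mul hx hy h with e | e
  · exact e
  · exfalso
    have h3 := hx3
    rw [e, hy.mul_pow, hy3, one_mul, pow_succ z 2, pow_two, D.sq, one_mul] at h3
    exact D.ne h3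

theorem card_even_of_fpf {α : Type*} [Fintype α] [DecidableEq α] (τ : Perm α)
    (h2 : τ * τ = 1) (h : ∀ a, τ a ≠ a) : 2 ∣ Fintype.card α := by
  by_cases hne : τ = 1
  · have : IsEmpty α := ⟨fun a => h a (by rw [hne]; rfl)⟩
    simp
  haveI : Fact (Nat.Prime 2) := ⟨Nat.prime_two⟩
  have ho : orderOf τ = 2 := orderOf_eq_prime_iff.2 ⟨by rw [pow_two]; exact h2, hne⟩
  obtain ⟨k, hk⟩ := Equiv.Perm.cycleType_prime_order (by rw [ho]; exact Nat.prime_two)
  rw [ho] at hk
  have hsum := Equiv.Perm.sum_cycleType τ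
  rw [hk, Multiset.sum_replicate, smul_eq_mul] at hsum
  have : τ.support = Finset.univ := by ext a; simpa using h a
  rw [this, Finset.card_univ] at hsum
  exact ⟨k + 1, by omega⟩

theorem three_cycleType {σ : Perm (Fin n)} (h3 : σ ^ 3 = 1) (h1 : σ ≠ 1) :
    ∃ k, σ.cycleType = Multiset.replicate (k + 1) 3 ∧ σ.support.card = 3 * (k + 1) := by
  haveI : Fact (Nat.Prime 3) := ⟨Nat.prime_three⟩
  have ho : orderOf σ = 3 := orderOf_eq_prime h3 h1
  obtain ⟨k, hk⟩ := Equiv.Perm.cycleType_prime_order (by rw [ho]; exact Nat.prime_three)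
  rw [ho] at hk
  refine ⟨k, hk, ?_⟩
  have hsum := Equiv.Perm.sum_cycleType σ
  rw [hk, Multiset.sum_replicate, smul_eq_mul] at hsum
  omega

/-- If every involution commuting with `x` and `z` is conjugate to `z` under `C(x)`, every
involution of `C(x)` is. -/
theorem conj_to_z [Finite G] (hz : orderOf z = 2) {x : G} (hxz : Commute x z)
    (h : ∀ t, orderOf t = 2 → Commute t x → Commute t z → ∃ k, Commute k x ∧ k * z * k⁻¹ = t)
    {t : G} (ht : orderOf t = 2) (htx : Commute t x) :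
    ∃ k, Commute k x ∧ k * z * k⁻¹ = t := by
  classical
  haveI : Fact (Nat.Prime 2) := ⟨Nat.prime_two⟩
  set Y := Subgroup.centralizer ({x} : Set G) with hY
  have mem : ∀ {a : G}, Commute a x → a ∈ Y := fun {a} ha =>
    Subgroup.mem_centralizer_singleton_iff.2 ha.eq
  have cm : ∀ a : Y, Commute (a : G) x := fun a =>
    Subgroup.mem_centralizer_singleton_iff.1 a.2
  set z' : Y := ⟨z, mem hxz.symm⟩ with hz'
  set t' : Y := ⟨t, mem htx⟩ with ht'
  have hzp : ∀ w : Y, orderOf (w : G) = 2 → IsPGroup 2 (Subgroup.zpowers w) := fun w hw =>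
    IsPGroup.of_card (n := 1) (by rw [Nat.card_zpowers, ← Subgroup.orderOf_coe, pow_one, hw])
  obtain ⟨S, hS⟩ := (hzp z' hz).exists_le_sylow
  obtain ⟨T, hT⟩ := (hzp t' ht).exists_le_sylow
  obtain ⟨g, hg⟩ := MulAction.exists_smul_eq Y T S
  have hz'1 : z' ≠ 1 := fun e => by
    rw [show z = 1 from congrArg Subtype.val e, orderOf_one] at hz; omega
  have hnt : Nontrivial S := ⟨⟨z', hS (Subgroup.mem_zpowers z')⟩, 1, fun e =>
    hz'1 (congrArg Subtype.val e)⟩
  have hcn : Nontrivial (Subgroup.center S) := S.2.center_nontrivial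
  obtain ⟨w, hw⟩ : ∃ w : Subgroup.center S, orderOf w = 2 := by
    refine exists_prime_orderOf_dvd_card' 2 ?_
    obtain ⟨j, hj⟩ := (IsPGroup.iff_card.1 (S.2.to_subgroup (Subgroup.center S)))
    rw [hj]
    refine dvd_pow_self 2 fun e => ?_
    rw [e, pow_zero] at hj
    exact absurd hj (Finite.one_lt_card.ne')
  have hwo : orderOf (((w : S) : Y) : G) = 2 := by
    rw [Subgroup.orderOf_coe, Subgroup.orderOf_coe, Subgroup.orderOf_coe, hw]
  have hwz : Commute (((w : S) : Y) : G) z :=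
    congrArg (fun r : S => ((r : Y) : G))
      (Subgroup.mem_center_iff.1 w.2 ⟨z', hS (Subgroup.mem_zpowers z')⟩).symm
  obtain ⟨k, hkx, hk⟩ := h _ hwo (cm _) hwz
  -- the conjugate of `t` in `S` commutes with the central involution
  set s : Y := g * t' * g⁻¹ with hs
  have hsS : s ∈ S := by
    rw [← hg]
    show g * t' * g⁻¹ ∈ ((g • T : Sylow 2 Y) : Subgroup Y)
    rw [Sylow.coe_subgroup_smul, Subgroup.mem_pointwise_smul_iff_inv_smul_mem]
    simpa [mul_assoc] using hT (Subgroup.mem_zpowers t')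
  have hsw : Commute (s : G) (((w : S) : Y) : G) :=
    congrArg (fun r : S => ((r : Y) : G)) (Subgroup.mem_center_iff.1 w.2 ⟨s, hsS⟩)
  have hso : orderOf (s : G) = 2 := by
    rw [hs, Subgroup.coe_mul, Subgroup.coe_mul, Subgroup.coe_inv]
    exact (MulEquiv.orderOf_eq (MulAut.conj (g : G)) t).trans ht
  have hcz : Commute (k⁻¹ * s * k) z := by
    have h1 := hsw.conj k⁻¹
    rw [inv_inv] at h1
    rwa [show k⁻¹ * (((w : S) : Y) : G) * k = z by rw [← hk]; group] at h1
  have hco : orderOf (k⁻¹ * (s : G) * k) = 2 := by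
    rw [show k⁻¹ * (s : G) * k = (MulAut.conj k⁻¹) (s : G) by simp, MulEquiv.orderOf_eq, hso]
  obtain ⟨l, hlx, hl⟩ := h _ hco ((hkx.inv_left.mul_left (cm s)).mul_left hkx) hcz
  refine ⟨(g : G)⁻¹ * k * l, ((cm g).inv_left.mul_left hkx).mul_left hlx, ?_⟩
  rw [show (g : G)⁻¹ * k * l * z * ((g : G)⁻¹ * k * l)⁻¹ =
    (g : G)⁻¹ * (k * (l * z * l⁻¹) * k⁻¹) * g by group, hl, hs, Subgroup.coe_mul, Subgroup.coe_mul,
    Subgroup.coe_inv, show (t' : G) = t from rfl]
  group

/-- Degree 9 or 10, and every involution centralising `z` is conjugate to `z`. -/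
structure Small (D : DC z n) : Prop where
  nine : 9 ≤ n
  ten : n ≤ 10
  conj : ∀ t, orderOf t = 2 → Commute t z → ∃ g, g * z * g⁻¹ = t

variable {D : DC z n} (S : Small D)
include S

theorem Small.support_invol {t : G} (ht : orderOf t = 2) (htz : Commute t z) (hne : t ≠ z) :
    (D.p t).support.card = 8 := by
  obtain ⟨h8, h8', hn⟩ := D.card_support_invol htz (mul_self_of_two ht) (ne_one_of_two ht) hne
  have := S.ten
  omega

/-- All non-central involutions of the centraliser are conjugate in it. -/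
theorem Small.conj_in {s t : G} (hs : orderOf s = 2) (hsz : Commute s z) (hsne : s ≠ z)
    (ht : orderOf t = 2) (htz : Commute t z) (htne : t ≠ z) :
    ∃ k, Commute k z ∧ k * s * k⁻¹ = t := by
  refine D.conj_invol hsz htz (D.p_sq_of_invol hsz (mul_self_of_two hs))
    (D.p_sq_of_invol htz (mul_self_of_two ht)) (fun e => ?_)
    (by rw [S.support_invol hs hsz hsne, S.support_invol ht htz htne])
  rcases (D.p_eq_one_iff hsz).1 e with e' | e'
  exacts [ne_one_of_two hs e', hsne e']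

/-- An element of order 3 which is not a product of two 3-cycles centralises no non-central
involution. -/
theorem Small.only_invol {x : G} (hx : Commute x z) (hx3 : x ^ 3 = 1) (hx1 : x ≠ 1)
    (h33 : (D.p x).cycleType ≠ {3, 3}) {t : G} (ht : orderOf t = 2) (htx : Commute t x)
    (htz : Commute t z) : t = z := by
  classical
  by_contra hne
  have h8 := S.support_invol ht htz hne
  have hσ2 : ∀ i, D.p t (D.p t i) = i := fun i =>
    Equiv.congr_fun (D.p_sq_of_invol htz (mul_self_of_two ht)) i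
  set σ := D.p t with hσ
  set f := D.p x with hf
  have hf3 : f ^ 3 = 1 := by rw [hf, ← D.p_pow hx, hx3, D.p_one]
  have hf1 : f ≠ 1 := fun e => by
    rcases (D.p_eq_one_iff hx).1 e with e' | e'
    · exact hx1 e'
    · rw [e', pow_succ, pow_two, D.sq, one_mul] at hx3
      exact D.ne hx3
  have hcomm : ∀ i, f (σ i) = σ (f i) := fun i => by
    have := congrArg D.p htx.eq
    rw [D.p_mul htz hx, D.p_mul hx htz] at this
    exact (Equiv.congr_fun this i).symm
  have hfix2 : (σ.supportᶜ).card ≤ 2 := by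
    rw [Finset.card_compl, Fintype.card_fin, h8]
    have := S.ten; omega
  have hfpf : ∀ i, f i ≠ i → σ i ≠ i := by
    intro i hi e
    have hsub : ({i, f i, f (f i)} : Finset (Fin n)) ⊆ σ.supportᶜ := by
      intro j hj
      simp only [Finset.mem_insert, Finset.mem_singleton] at hj
      simp only [Finset.mem_compl, mem_support, not_not]
      rcases hj with rfl | rfl | rfl
      · exact e
      · rw [← hcomm, e]
      · rw [← hcomm, ← hcomm, e]
    have h3 : f (f (f i)) = i := by simpa [pow_succ] using Equiv.congr_fun hf3 i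
    have n1 : i ≠ f (f i) := fun e' => hi (by
      have := congrArg f e'
      rwa [h3] at this)
    have n2 : f i ≠ f (f i) := fun e' => hi (f.injective e').symm
    have hc : ({i, f i, f (f i)} : Finset (Fin n)).card = 3 :=
      Finset.card_eq_three.2 ⟨_, _, _, Ne.symm hi, n1, n2, rfl⟩
    have := Finset.card_le_card hsub
    omega
  have hinv : ∀ i, f (σ i) ≠ σ i ↔ f i ≠ i := fun i => by
    rw [hcomm, σ.injective.ne_iff]
  have h2 : 2 ∣ Fintype.card {i // f i ≠ i} := by
    refine card_even_of_fpf (σ.subtypePerm hinv) ?_ fun a e => ?_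
    · exact Equiv.ext fun a => Subtype.ext (hσ2 a)
    · exact hfpf a a.2 (congrArg Subtype.val e)
  rw [Fintype.card_subtype] at h2
  obtain ⟨k, hk, hks⟩ := three_cycleType hf3 hf1
  have hle : f.support.card ≤ n := (Finset.card_le_univ _).trans (Fintype.card_fin n).le
  have hsupp : (Finset.univ.filter fun i => f i ≠ i) = f.support := by ext i; simp
  rw [hsupp, hks] at h2
  have hk1 : k = 1 := by have := S.ten; omega
  subst hk1
  exact h33 (by rw [hk]; rfl)

/-- If the centraliser of `x` contains two commuting involutions, `x` is a product of two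
3-cycles. -/
theorem Small.type_of_pair [Finite G] {x : G} (hx : Commute x z) (hx3 : x ^ 3 = 1) (hx1 : x ≠ 1)
    {s t : G} (hs : orderOf s = 2) (ht : orderOf t = 2) (hsx : Commute s x) (htx : Commute t x)
    (hst : Commute s t) (hne : s ≠ t) : (D.p x).cycleType = {3, 3} := by
  by_contra h33
  exact hne (no_four (orderOf_z D) hx (fun r hr hrx hrz => S.only_invol hx hx3 hx1 h33 hr hrx hrz)
    hs ht hsx htx hst)

/-- Elements of order 3 inducing products of two 3-cycles are conjugate in the centraliser. -/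
theorem Small.conj_three {x y : G} (hx : Commute x z) (hy : Commute y z) (hx3 : x ^ 3 = 1)
    (hy3 : y ^ 3 = 1) (hxt : (D.p x).cycleType = {3, 3}) (hyt : (D.p y).cycleType = {3, 3}) :
    ∃ k, Commute k z ∧ k * x * k⁻¹ = y := by
  classical
  have hc := (alternatingGroup.isConj_of (σ := ⟨D.p x, D.p_sign x⟩) (τ := ⟨D.p y, D.p_sign y⟩)
    (isConj_iff_cycleType_eq.2 (hxt.trans hyt.symm)) (by
      show (D.p x).support.card + 2 ≤ Fintype.card (Fin n)
      rw [← sum_cycleType, hxt, Fintype.card_fin]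
      show 6 + 2 ≤ n
      have := S.nine; omega))
  obtain ⟨k, hk⟩ := isConj_iff.1 hc
  obtain ⟨k', hk'c, hk'⟩ := D.exists_lift k.2
  refine ⟨k', hk'c, D.three_unique ((hk'c.mul_left hx).mul_left hk'c.inv_left) hy
    (by rw [conj_pow, hx3]; group) hy3 ?_⟩
  rw [D.p_conj hx hk'c, hk']
  exact congrArg Subtype.val hk

/-- An involution centralising a product of two 3-cycles is conjugate to `z` in its
centraliser. -/
theorem Small.conj_fix [Finite G] {a v : G} (ha : Commute a z) (ha3 : a ^ 3 = 1)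
    (hat : (D.p a).cycleType = {3, 3}) (hv : orderOf v = 2) (hvz : Commute v z)
    (hva : Commute v a) : ∃ h, Commute h a ∧ h * z * h⁻¹ = v := by
  by_cases hvne : v = z
  · exact ⟨1, Commute.one_left a, by rw [hvne]; group⟩
  obtain ⟨g, hg⟩ := S.conj v hv hvz
  set a' := g⁻¹ * a * g with ha'
  set w := g⁻¹ * z * g with hw
  have hz : g⁻¹ * v * g = z := by rw [← hg]; group
  have hcj : ∀ {x y : G}, Commute x y → Commute (g⁻¹ * x * g) (g⁻¹ * y * g) := fun {x y} h => by
    have h1 := h.conj g⁻¹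
    rwa [inv_inv] at h1
  have ha'z : Commute a' z := hz ▸ hcj hva.symm
  have hwz : Commute w z := hz ▸ hcj hvz.symm
  have hwo : orderOf w = 2 := by
    rw [show w = (MulAut.conj g⁻¹) z by simp [hw], MulEquiv.orderOf_eq]; exact orderOf_z D
  have ha'3 : a' ^ 3 = 1 := by
    rw [show a' = g⁻¹ * a * g⁻¹⁻¹ by rw [ha', inv_inv], conj_pow, ha3]; group
  have ha'1 : a' ≠ 1 := fun e => by
    have : a = 1 := by rw [show a = g * a' * g⁻¹ by rw [ha']; group, e]; group
    rw [this, D.p_one, cycleType_one] at hat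
    exact absurd (congrArg Multiset.card hat) (by simp)
  have hne : w ≠ z := fun e => hvne (by
    have h1 : g * w * g⁻¹ = g * z * g⁻¹ := by rw [e]
    rw [hg, hw] at h1
    rw [← h1]; group)
  have htype := S.type_of_pair ha'z ha'3 ha'1 hwo (orderOf_z D) (hcj ha.symm) ha'z.symm hwz hne
  obtain ⟨k, hkz, hk⟩ := S.conj_three ha'z ha ha'3 ha3 htype hat
  refine ⟨g * k⁻¹, ?_, ?_⟩
  · have : (g * k⁻¹) * a * (g * k⁻¹)⁻¹ = a := by
      calc g * k⁻¹ * a * (g * k⁻¹)⁻¹ = g * k⁻¹ * (k * a' * k⁻¹) * (g * k⁻¹)⁻¹ := by rw [hk]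
        _ = a := by rw [ha']; group
    exact mul_inv_eq_iff_eq_mul.1 this
  · rw [show g * k⁻¹ * z * (g * k⁻¹)⁻¹ = g * (k⁻¹ * z * k) * g⁻¹ by group, hkz.inv_left.eq,
      inv_mul_cancel_right, hg]

/-- All involutions centralising a product of two 3-cycles are conjugate to `z` in its
centraliser. -/
theorem Small.conj_centralizer [Finite G] {a v : G} (ha : Commute a z) (ha3 : a ^ 3 = 1)
    (hat : (D.p a).cycleType = {3, 3}) (hv : orderOf v = 2) (hva : Commute v a) :
    ∃ h, Commute h a ∧ h * z * h⁻¹ = v :=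
  conj_to_z (orderOf_z D) ha (fun _ ht htx htz => S.conj_fix ha ha3 hat ht htz htx) hv hva

/-- For the other elements of order 3, every involution of the centraliser is conjugate to `z`. -/
theorem Small.conj_unique [Finite G] {y v : G} (hy : Commute y z) (hy3 : y ^ 3 = 1) (hy1 : y ≠ 1)
    (h33 : (D.p y).cycleType ≠ {3, 3}) (hv : orderOf v = 2) (hvy : Commute v y) :
    ∃ h, Commute h y ∧ h * z * h⁻¹ = v :=
  conj_to_z (orderOf_z D) hy (fun _ ht htx htz => ⟨1, Commute.one_left y, by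
    rw [S.only_invol hy hy3 hy1 h33 ht htx htz]; group⟩) hv hvy

/-- Fusion of elements of order 3 of the centraliser is controlled by the centraliser. -/
theorem Small.conj_in_of_conj [Finite G] {x y g : G} (hx : Commute x z) (hy : Commute y z)
    (hy3 : y ^ 3 = 1) (hy1 : y ≠ 1) (h33 : (D.p y).cycleType ≠ {3, 3})
    (hg : g * x * g⁻¹ = y) : ∃ k, Commute k z ∧ k * x * k⁻¹ = y := by
  have hv : orderOf (g * z * g⁻¹) = 2 :=
    (MulEquiv.orderOf_eq (MulAut.conj g) z).trans (orderOf_z D)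
  have hvy : Commute (g * z * g⁻¹) y := hg ▸ hx.symm.conj g
  obtain ⟨h, hhy, hh⟩ := S.conj_unique hy hy3 hy1 h33 hv hvy
  refine ⟨h⁻¹ * g, ?_, ?_⟩
  · refine mul_inv_eq_iff_eq_mul.1 ?_
    rw [show h⁻¹ * g * z * (h⁻¹ * g)⁻¹ = h⁻¹ * (g * z * g⁻¹) * h by group, ← hh]; group
  · rw [show h⁻¹ * g * x * (h⁻¹ * g)⁻¹ = h⁻¹ * (g * x * g⁻¹) * h by group, hg, hhy.inv_left.eq,
      inv_mul_cancel_right]

omit S

/-- The permutation `(0 1 2)`. -/
def C1 (n : ℕ) [NeZero n] : Perm (Fin n) := swap 0 1 * swap 1 2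
/-- The permutation `(3 4 5)`. -/
def C2 (n : ℕ) [NeZero n] : Perm (Fin n) := swap 3 4 * swap 4 5
/-- The permutation `(6 7 8)`. -/
def C3 (n : ℕ) [NeZero n] : Perm (Fin n) := swap 6 7 * swap 7 8
/-- The involution `(0 3)(1 4)(2 5)(6 7)`. -/
def U (n : ℕ) [NeZero n] : Perm (Fin n) := swap 0 3 * swap 1 4 * swap 2 5 * swap 6 7

theorem perm_facts [hne : NeZero n] (h9 : 9 ≤ n) (h10 : n ≤ 10) :
    C1 n ^ 3 = 1 ∧ C2 n ^ 3 = 1 ∧ C3 n ^ 3 = 1 ∧ U n * U n = 1 ∧ (U n).support.card = 8 ∧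
      C1 n * C2 n = C2 n * C1 n ∧ C1 n * C3 n = C3 n * C1 n ∧ C2 n * C3 n = C3 n * C2 n ∧
      U n * C1 n * (U n)⁻¹ = C2 n ∧ U n * C3 n * (U n)⁻¹ = (C3 n)⁻¹ := by
  rcases (show n = 9 ∨ n = 10 by omega) with rfl | rfl <;>
    obtain rfl : hne = ⟨by norm_num⟩ := Subsingleton.elim _ _ <;>
    refine ⟨?_, ?_, ?_, ?_, ?_, ?_, ?_, ?_, ?_, ?_⟩ <;> decide

theorem perm_types [hne : NeZero n] (h9 : 9 ≤ n) (h10 : n ≤ 10) :
    (C1 n).cycleType = {3} ∧ (C2 n).cycleType = {3} ∧ (C3 n).cycleType = {3} ∧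
      (C1 n * C2 n).cycleType = {3, 3} ∧ (C1 n * (C2 n)⁻¹).cycleType = {3, 3} ∧
      (C1 n * C2 n * C3 n).cycleType = {3, 3, 3} := by
  have key : ∀ a b c : Fin n, a ≠ b → b ≠ c → a ≠ c → (swap a b * swap b c).cycleType = {3} :=
    fun a b c hab hbc hac => by
      rw [swap_comm a b]
      exact (isThreeCycle_swap_mul_swap_same (Ne.symm hab) hbc hac).cycleType
  obtain ⟨h1, h2, h3, hd12, hd3, hd12'⟩ : (C1 n).cycleType = {3} ∧ (C2 n).cycleType = {3} ∧
      (C3 n).cycleType = {3} ∧ Perm.Disjoint (C1 n) (C2 n) ∧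
      Perm.Disjoint (C1 n * C2 n) (C3 n) ∧ Perm.Disjoint (C1 n) (C2 n)⁻¹ := by
    rcases (show n = 9 ∨ n = 10 by omega) with rfl | rfl <;>
      obtain rfl : hne = ⟨by norm_num⟩ := Subsingleton.elim _ _ <;>
      refine ⟨key _ _ _ ?_ ?_ ?_, key _ _ _ ?_ ?_ ?_, key _ _ _ ?_ ?_ ?_, fun i => ?_,
        fun i => ?_, fun i => ?_⟩ <;>
      first | decide | (revert i; decide)
  refine ⟨h1, h2, h3, ?_, ?_, ?_⟩
  · rw [hd12.cycleType_mul, h1, h2]; rfl
  · rw [hd12'.cycleType_mul, cycleType_inv, h1, h2]; rfl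
  · rw [hd3.cycleType_mul, hd12.cycleType_mul, h1, h2, h3]; rfl

/-- Lifts of the standard elements. -/
structure Frame [NeZero n] (D : DC z n) where
  c1 : G
  c2 : G
  c3 : G
  u : G
  c1z : Commute c1 z
  c2z : Commute c2 z
  c3z : Commute c3 z
  uz : Commute u z
  c1_three : c1 ^ 3 = 1
  c2_three : c2 ^ 3 = 1
  c3_three : c3 ^ 3 = 1
  u_two : orderOf u = 2
  u_ne : u ≠ z
  p1 : D.p c1 = C1 n
  p2 : D.p c2 = C2 n
  p3 : D.p c3 = C3 n
  pu : D.p u = U n
  comm12 : Commute c1 c2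
  comm13 : Commute c1 c3
  comm23 : Commute c2 c3
  u1 : u * c1 * u⁻¹ = c2
  u2 : u * c2 * u⁻¹ = c1
  u3 : u * c3 * u⁻¹ = c3⁻¹

theorem exists_frame [hne : NeZero n] (D : DC z n) (h9 : 9 ≤ n) (h10 : n ≤ 10) :
    Nonempty (Frame D) := by
  obtain ⟨e1, e2, e3, eu, hu8, k12, k13, k23, k1, k3⟩ := perm_facts (n := n) h9 h10
  obtain ⟨c1, c1z, c1t, p1⟩ := D.exists_lift_three e1
  obtain ⟨c2, c2z, c2t, p2⟩ := D.exists_lift_three e2
  obtain ⟨c3, c3z, c3t, p3⟩ := D.exists_lift_three e3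
  have hsign : Perm.sign (U n) = 1 := by
    rcases (show n = 9 ∨ n = 10 by omega) with rfl | rfl <;>
      obtain rfl : hne = ⟨by norm_num⟩ := Subsingleton.elim _ _ <;> decide
  obtain ⟨u, uz, pu⟩ := D.exists_lift hsign
  have hu2 : u * u = 1 := by
    rw [(D.sq_eq_pow _ uz rfl (by rw [pu]; exact eu)).2, pu, hu8]
    show z ^ 2 = 1
    rw [pow_two, D.sq]
  have hne : ∀ w, D.p w = 1 → u ≠ w := fun w hw e => by
    have : (D.p u).support.card = 8 := by rw [pu]; exact hu8
    rw [e, hw, support_one] at this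
    simp at this
  have hcomm : ∀ {a b : G}, Commute a z → Commute b z → b ^ 3 = 1 →
      D.p a * D.p b = D.p b * D.p a → Commute a b := fun {a b} ha hb hb3 h =>
    D.comm_three ha hb h (by rw [← D.p_pow hb, hb3, D.p_one])
  have conj3 : ∀ {x y : G}, Commute x z → Commute y z → x ^ 3 = 1 → y ^ 3 = 1 →
      U n * D.p x * (U n)⁻¹ = D.p y → u * x * u⁻¹ = y := fun {x y} hx hy hx3 hy3 h =>
    D.three_unique ((uz.mul_left hx).mul_left uz.inv_left) hy (by rw [conj_pow, hx3]; group) hy3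
      (by rw [D.p_conj hx uz, pu, h])
  have hu1 : u * c1 * u⁻¹ = c2 := conj3 c1z c2z c1t c2t (by rw [p1, p2, k1])
  have huinv : u⁻¹ = u := inv_eq_of_mul_eq_one_right hu2
  exact ⟨{
    c1 := c1, c2 := c2, c3 := c3, u := u
    c1z := c1z, c2z := c2z, c3z := c3z, uz := uz
    c1_three := c1t, c2_three := c2t, c3_three := c3t
    u_two := orderOf_eq_prime (by rw [pow_two]; exact hu2) (hne 1 D.p_one)
    u_ne := hne z D.p_z
    p1 := p1, p2 := p2, p3 := p3, pu := pu
    comm12 := hcomm c1z c2z c2t (by rw [p1, p2, k12])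
    comm13 := hcomm c1z c3z c3t (by rw [p1, p3, k13])
    comm23 := hcomm c2z c3z c3t (by rw [p2, p3, k23])
    u1 := hu1
    u2 := by
      rw [← hu1]
      calc u * (u * c1 * u⁻¹) * u⁻¹ = (u * u) * c1 * (u * u)⁻¹ := by group
        _ = c1 := by rw [hu2]; group
    u3 := conj3 c3z c3z.inv_left c3t (by rw [inv_pow, c3t, inv_one]) (by
      rw [p3, k3, D.p_inv c3z, p3]) }⟩

end Cfsg.Agent.DoubleCover90
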