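import Cfsg.Agent.Lib.DoubleCoverCoreBase91

/-!
# An abelian core of the centraliser of the lift of a 3-cycle in degree 9
-/

set_option autoImplicit false
set_option maxRecDepth 10000

namespace Cfsg.Agent.DoubleCoverCoreAb91

open Equiv Equiv.Perm
open Cfsg.Agent.DoubleCover90
open Cfsg.Agent.DoubleCoverPerm91
open Cfsg.Agent.DoubleCoverLifts91
open Cfsg.Agent.DoubleCoverCoreBase91
open Cfsg.Agent.FourFormula30 (cen mem_cen four_formula inverted card_split)

universe u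

variable {G : Type u} [Group G] {z : G} {D : DC z 9} {F : Frame D} {C : Core D F}

/-- The two inverted elements centralised by `a` fixed by `u` and `u z`. -/
structure Pair (C : Core D F) where
  e : G
  e' : G
  he : Inv C e
  he1 : e ≠ 1
  heu : Commute e F.u
  hea : Commute e (a' F)
  he' : Inv C e'
  he'1 : e' ≠ 1
  he'u : Commute e' (F.u * z)
  he'a : Commute e' (a' F)

/-- The pair for the flipped frame. -/
def Pair.flip (E : Pair C) : Pair (flipC C) where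
  e := E.e'
  e' := E.e
  he := E.he'
  he1 := E.he'1
  heu := E.he'u
  hea := E.he'a
  he' := E.he
  he'1 := E.he1
  he'u := by
    show Commute E.e (F.u * z * z)
    rw [mul_assoc, D.sq, mul_one]
    exact E.heu
  he'a := E.hea

theorem exists_pair [Finite G] (C : Core D F) : Nonempty (Pair C) := by
  obtain ⟨e, he, he1, heu, hea⟩ := exists_e C
  obtain ⟨e', he', he'1, he'u, he'a⟩ := exists_e (flipC C)
  exact ⟨⟨e, e', he, he1, heu, hea, he', he'1, he'u, he'a⟩⟩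

variable [Finite G] (C) (hab : ∀ r ∈ C.R, ∀ s ∈ C.R, Commute r s)
include hab

theorem inv_mul' {i j : G} (hi : Inv C i) (hj : Inv C j) : Inv C (i * j) := by
  refine ⟨C.R.mul_mem hi.1 hj.1, ?_⟩
  rw [show z * (i * j) * z⁻¹ = (z * i * z⁻¹) * (z * j * z⁻¹) by group, hi.2, hj.2, mul_inv_rev]
  exact ((hab i hi.1 j hj.1).inv_inv).eq

/-- The inverted elements centralised by `a`. -/
def Lsub : Subgroup G where
  carrier := {x | Inv C x ∧ Commute x (a' F)}
  one_mem' := ⟨inv_one' C, Commute.one_left _⟩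
  mul_mem' hx hy := ⟨inv_mul' C hab hx.1 hy.1, hx.2.mul_left hy.2⟩
  inv_mem' hx := ⟨inv_inv' C hx.1, hx.2.inv_left⟩

theorem L_comm_P0 {x q : G} (hx : x ∈ Lsub C hab) (hq : q ∈ P0 F) : Commute x q :=
  comm_P0 C hx.1 (Or.inl hx.2) hq

theorem L_conj {k x : G} (hk : Commute k z)
    (hc : k * F.c3 * k⁻¹ = F.c3 ∨ k * F.c3 * k⁻¹ = F.c3⁻¹) (ha : k⁻¹ * a' F * k ∈ P0 F)
    (hx : x ∈ Lsub C hab) : k * x * k⁻¹ ∈ Lsub C hab := by
  refine ⟨inv_conj C hk hc hx.1, ?_⟩
  have h := (L_comm_P0 C hab hx ha).conj k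
  rwa [show k * (k⁻¹ * a' F * k) * k⁻¹ = a' F by group] at h

variable (S : Small D) (E : Pair C)

omit hab in
theorem e_three (S : Small D) : E.e ^ 3 = 1 := by
  obtain ⟨g, hg, -⟩ := exists_conj C S E.he E.he1 E.heu
  rw [← hg, conj_pow, d0_three]; group

omit hab in
theorem e_notMem (S : Small D) : E.e' ∉ Subgroup.zpowers E.e := by
  intro h
  obtain ⟨m, hm⟩ := Subgroup.mem_zpowers_iff.1 h
  have h1 : Commute E.e' F.u := hm ▸ E.heu.zpow_left m
  have h2 : Commute E.e' z := by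
    have := h1.mul_right E.he'u
    rwa [← mul_assoc, mul_self_of_two F.u_two, one_mul] at this
  exact E.he'1 (inv_eq_one C E.he' h2)

omit [Finite G] in
omit hab in
theorem a_not_c : a' F ∉ Subgroup.zpowers F.c3 ∧ a' F ∉ Subgroup.zpowers F.c1 := by
  have key : ∀ m : Fin 3, C1 9 * C2 9 ≠ C3 9 ^ m.val ∧ C1 9 * C2 9 ≠ C1 9 ^ m.val := by decide
  constructor <;> intro h <;> obtain ⟨m, hm⟩ := Subgroup.mem_zpowers_iff.1 h
  · have h' : a' F = F.c3 ^ (m % 3).toNat := by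
      rw [← hm, ← zpow_natCast, Int.toNat_of_nonneg (Int.emod_nonneg _ (by norm_num))]
      exact zpow_eq_zpow_emod' m F.c3_three
    have e := congrArg D.p h'
    rw [p_a, D.p_pow F.c3z, F.p3] at e
    exact (key ⟨(m % 3).toNat, by omega⟩).1 e
  · have h' : a' F = F.c1 ^ (m % 3).toNat := by
      rw [← hm, ← zpow_natCast, Int.toNat_of_nonneg (Int.emod_nonneg _ (by norm_num))]
      exact zpow_eq_zpow_emod' m F.c1_three
    have e := congrArg D.p h'
    rw [p_a, D.p_pow F.c1z, F.p1] at e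
    exact (key ⟨(m % 3).toNat, by omega⟩).2 e

include S E in
theorem card_L : Nat.card (Lsub C hab) = 9 := by
  classical
  haveI : Fact (Nat.Prime 3) := ⟨Nat.prime_three⟩
  set L := Lsub C hab with hL
  have hLR : L ≤ C.R := fun x hx => hx.1.1
  obtain ⟨j, hj, hc⟩ := (Nat.dvd_prime_pow Nat.prime_three).1
    (show Nat.card L ∣ 3 ^ 5 by
      have h := Subgroup.card_dvd_of_le hLR
      rwa [C.card_R] at h)
  let f : L → {r // Inv C r} := fun x => ⟨x, x.2.1⟩
  have hf : Function.Injective f := fun x y e => Subtype.ext (congrArg (fun r : {r // Inv C r} => (r : G)) e)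
  have h81 : Nat.card L ≤ 81 := card_inv C ▸ Nat.card_le_card_of_injective f hf
  have hj4 : j ≠ 4 := by
    intro h4
    have hb := hf.bijective_of_nat_card_le (by rw [card_inv, hc, h4]; norm_num)
    refine (a_not_c (F := F)).1 (C.faithful _ (az F) (F.comm13.mul_left F.comm23) fun r hr hz => ?_)
    obtain ⟨x, hx⟩ := hb.2 ⟨r, hr, hz⟩
    have hx' : (x : G) = r := congrArg Subtype.val hx
    exact hx' ▸ x.2.2.symm
  have h3 : 3 < Nat.card L := by
    by_contra h3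
    have hle : Subgroup.zpowers E.e ≤ L := Subgroup.zpowers_le.2 ⟨E.he, E.hea⟩
    have he : Subgroup.zpowers E.e = L := Subgroup.eq_of_le_of_card_ge hle (by
      rw [Nat.card_zpowers, orderOf_eq_prime (e_three C E S) E.he1]; omega)
    exact e_notMem C E S (he ▸ (⟨E.he', E.he'a⟩ : E.e' ∈ L))
  have hj3 : j ≠ 3 := by
    intro h3
    obtain ⟨k, hkz, hkp⟩ := D.exists_lift (σ := swap (0 : Fin 9) 3 * swap 1 2) (by decide)
    have hkc : Commute k F.c3 := comm_of_p D hkz F.c3z F.c3_three (by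
      rw [hkp, F.p3]; unfold Commute SemiconjBy; decide)
    -- `L` and its conjugate meet
    obtain ⟨x, hx, hx1, hkx⟩ : ∃ x ∈ L, x ≠ 1 ∧ k * x * k⁻¹ ∈ L := by
      by_contra hno
      push Not at hno
      let g : L × L → {r // Inv C r} := fun p => ⟨p.1 * (k * p.2 * k⁻¹),
        inv_mul' C hab p.1.2.1 (inv_conj C hkz (Or.inl (comm_iff_conj.1 hkc)) p.2.2.1)⟩
      have hg : Function.Injective g := by
        rintro ⟨x, y⟩ ⟨x', y'⟩ h
        have h' : (x : G) * (k * y * k⁻¹) = x' * (k * y' * k⁻¹) := congrArg Subtype.val h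
        have h'' : k * ((y : G) * (y' : G)⁻¹) * k⁻¹ = (x : G)⁻¹ * x' := by
          calc k * ((y : G) * (y' : G)⁻¹) * k⁻¹
              = (x : G)⁻¹ * ((x : G) * (k * y * k⁻¹)) * (k * y' * k⁻¹)⁻¹ := by group
            _ = (x : G)⁻¹ * x' := by rw [h']; group
        have hyy : (y : G) * (y' : G)⁻¹ = 1 := by
          by_contra hne
          exact hno _ (L.mul_mem y.2 (L.inv_mem y'.2)) hne
            (h'' ▸ L.mul_mem (L.inv_mem x.2) x'.2)
        obtain rfl : y = y' := Subtype.ext (mul_inv_eq_one.1 hyy)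
        exact Prod.ext (Subtype.ext (mul_right_cancel h')) rfl
      have := Nat.card_le_card_of_injective g hg
      rw [card_inv, Nat.card_prod, hc, h3] at this
      norm_num at this
    set y := k * x * k⁻¹ with hy
    have hy1 : y ≠ 1 := fun e => hx1 (conj_eq_one_iff.1 e)
    have hSt : P0 F = KK C ⊓ Subgroup.centralizer ({y} : Set G) := by
      refine Subgroup.eq_of_le_of_card_ge (fun q hq => ?_)
        (by rw [card_St C hkx.1 hy1, card_P0])
      exact ⟨mem_centralizer_inf.2 ⟨P0_z F hq, P0_comm F hq (c3_mem F)⟩,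
        Subgroup.mem_centralizer_singleton_iff.2 (L_comm_P0 C hab hkx hq).symm.eq⟩
    have hmem : k * F.c1 * k⁻¹ ∈ P0 F := by
      rw [hSt]
      refine ⟨mem_centralizer_inf.2 ⟨(hkz.mul_left F.c1z).mul_left hkz.inv_left,
        (hkc.mul_left F.comm13).mul_left hkc.inv_left⟩,
        Subgroup.mem_centralizer_singleton_iff.2 ?_⟩
      rw [hy]
      exact ((L_comm_P0 C hab hx (c1_mem F)).symm.conj k).eq
    obtain ⟨i, j', l, e⟩ := exists_fin F hmem
    have e' := congrArg D.p e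
    rw [D.p_conj F.c1z hkz, p_q, hkp, F.p1] at e'
    have key : ∀ i j l : Fin 3, (swap (0 : Fin 9) 3 * swap 1 2) * C1 9 *
        (swap (0 : Fin 9) 3 * swap 1 2)⁻¹ ≠ std i j l := by decide
    exact key i j' l e'
  have hj5 : j ≠ 5 := fun h5 => by rw [hc, h5] at h81; norm_num at h81
  have hj2 : 2 ≤ j := by
    by_contra hlt
    rw [hc] at h3
    exact absurd h3 (Nat.not_lt.2 ((Nat.pow_le_pow_right (by norm_num)
      (Nat.le_of_lt_succ (Nat.lt_of_not_le hlt))).trans (by norm_num)))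
  rw [hc, show j = 2 by omega]; norm_num

include S E in
theorem L_le {M : Subgroup G} (h1 : E.e ∈ M) (h2 : E.e' ∈ M) : Lsub C hab ≤ M := by
  haveI : Fact (Nat.Prime 3) := ⟨Nat.prime_three⟩
  set L := Lsub C hab
  have hz : Subgroup.zpowers E.e ≤ M ⊓ L := Subgroup.zpowers_le.2 ⟨h1, E.he, E.hea⟩
  obtain ⟨j, hj, hc⟩ := (Nat.dvd_prime_pow Nat.prime_three).1
    (show Nat.card (M ⊓ L : Subgroup G) ∣ 3 ^ 2 by
      have h := Subgroup.card_dvd_of_le (inf_le_right : M ⊓ L ≤ L)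
      rw [card_L C hab S E] at h
      exact h)
  have h3 : 3 < Nat.card (M ⊓ L : Subgroup G) := by
    by_contra h3
    have he := Subgroup.eq_of_le_of_card_ge hz (by
      rw [Nat.card_zpowers, orderOf_eq_prime (e_three C E S) E.he1]; omega)
    exact e_notMem C E S (he ▸ (⟨h2, E.he', E.he'a⟩ : E.e' ∈ M ⊓ L))
  have hj2 : j = 2 := by
    rw [hc] at h3
    rcases (by omega : j = 0 ∨ j = 1 ∨ j = 2) with rfl | rfl | rfl
    · simp at h3
    · simp at h3
    · rfl
  have : M ⊓ L = L := Subgroup.eq_of_le_of_card_ge inf_le_right (by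
    rw [hc, hj2, card_L C hab S E]; norm_num)
  exact this ▸ inf_le_left

include S E in
theorem L_comm {x y : G} (h1 : Commute y E.e) (h2 : Commute y E.e') (hx : x ∈ Lsub C hab) :
    Commute y x := by
  have h := L_le C hab S E (M := Subgroup.centralizer ({y} : Set G))
    (Subgroup.mem_centralizer_singleton_iff.2 h1.symm.eq)
    (Subgroup.mem_centralizer_singleton_iff.2 h2.symm.eq) hx
  exact (Subgroup.mem_centralizer_singleton_iff.1 h).symm

include S E in
theorem L_u {x : G} (hx : x ∈ Lsub C hab) (hu : Commute x F.u) : x ∈ Subgroup.zpowers E.e := by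
  haveI : Fact (Nat.Prime 3) := ⟨Nat.prime_three⟩
  set M := Lsub C hab ⊓ Subgroup.centralizer ({F.u} : Set G)
  have hxM : x ∈ M := ⟨hx, Subgroup.mem_centralizer_singleton_iff.2 hu.eq⟩
  have hle : Subgroup.zpowers E.e ≤ M := Subgroup.zpowers_le.2
    ⟨⟨E.he, E.hea⟩, Subgroup.mem_centralizer_singleton_iff.2 E.heu.eq⟩
  obtain ⟨j, hj, hc⟩ := (Nat.dvd_prime_pow Nat.prime_three).1
    (show Nat.card M ∣ 3 ^ 2 by
      have h := Subgroup.card_dvd_of_le (inf_le_left : M ≤ Lsub C hab)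
      rw [card_L C hab S E] at h
      exact h)
  rcases (by omega : j ≤ 1 ∨ j = 2) with h | h
  · rw [Subgroup.eq_of_le_of_card_ge hle (by
      rw [Nat.card_zpowers, orderOf_eq_prime (e_three C E S) E.he1, hc]
      exact (Nat.pow_le_pow_right (by norm_num) h).trans (by norm_num))]
    exact hxM
  · exfalso
    have : M = Lsub C hab := Subgroup.eq_of_le_of_card_ge inf_le_left (by
      rw [hc, h, card_L C hab S E]; norm_num)
    have h2 : E.e' ∈ M := this ▸ (⟨E.he', E.he'a⟩ : E.e' ∈ Lsub C hab)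
    have h3 : Commute E.e' F.u := Subgroup.mem_centralizer_singleton_iff.1 h2.2
    have h4 := h3.mul_right E.he'u
    rw [← mul_assoc, mul_self_of_two F.u_two, one_mul] at h4
    exact E.he'1 (inv_eq_one C E.he' h4)

/-- An element centralising `c2` and `c3` centralises `c1`. -/
theorem comm_c1_of {y : G} (h2 : Commute y F.c2) (h3 : Commute y F.c3) : Commute y F.c1 := by
  obtain ⟨i, k, hi, hkz, hkc, rfl⟩ := exists_ik C h3
  obtain ⟨e1, e2⟩ := split_unique C (inv_conj C F.c2z (Or.inl (comm_iff_conj.1 F.comm23)) hi) hi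
    ((F.c2z.mul_left hkz).mul_left F.c2z.inv_left) hkz (by
      rw [show F.c2 * i * F.c2⁻¹ * (F.c2 * k * F.c2⁻¹) = F.c2 * (i * k) * F.c2⁻¹ by group]
      exact comm_iff_conj.1 h2.symm)
  have hk2 : Commute k F.c2 := (comm_iff_conj.2 e2).symm
  obtain ⟨a, b, c, hp⟩ := of_comm23 (D.p_sign k) (F.p2 ▸ comm_p D hkz F.c2z hk2)
    (F.p3 ▸ comm_p D hkz F.c3z hkc)
  have hk1 : Commute k F.c1 := comm_of_p D hkz F.c1z F.c1_three (by
    rw [hp, F.p1]
    obtain ⟨c12, c13, -⟩ := comm_single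
    exact (((Commute.refl _).pow_left _).mul_left (c12.symm.pow_left _)).mul_left
      (c13.symm.pow_left _))
  exact (comm_P0 C hi (Or.inr (comm_iff_conj.2 e1).symm) (c1_mem F)).mul_left hk1

/-- An element of odd order centralising `P0` lies in `L P0`. -/
theorem of_comm_P0 {y : G} (ho : Odd (orderOf y)) (h1 : Commute y F.c1) (h2 : Commute y F.c2)
    (h3 : Commute y F.c3) : ∃ l ∈ Lsub C hab, ∃ q ∈ P0 F, y = l * q := by
  obtain ⟨i, k, hi, hkz, hkc, rfl⟩ := exists_ik C h3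
  obtain ⟨e1, e2⟩ := split_unique C (inv_conj C F.c2z (Or.inl (comm_iff_conj.1 F.comm23)) hi) hi
    ((F.c2z.mul_left hkz).mul_left F.c2z.inv_left) hkz (by
      rw [show F.c2 * i * F.c2⁻¹ * (F.c2 * k * F.c2⁻¹) = F.c2 * (i * k) * F.c2⁻¹ by group]
      exact comm_iff_conj.1 h2.symm)
  have hk2 : Commute k F.c2 := (comm_iff_conj.2 e2).symm
  have hiq := fun {q : G} (hq : q ∈ P0 F) =>
    comm_P0 C hi (Or.inr (comm_iff_conj.2 e1).symm) hq
  have hiL : i ∈ Lsub C hab := ⟨hi, hiq (a_mem F)⟩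
  obtain ⟨a, b, c, hp⟩ := of_comm23 (D.p_sign k) (F.p2 ▸ comm_p D hkz F.c2z hk2)
    (F.p3 ▸ comm_p D hkz F.c3z hkc)
  have hq := q_mem F a b c
  rcases D.eq_or_mul hkz (qz F a b c) (by rw [hp, p_q]) with e | e
  · exact ⟨i, hiL, k, e ▸ hq, rfl⟩
  · have hsq : i * k * (i * k) = q F a b c * q F a b c := by
      have hiqc := hiq hq
      have hz : z * i * z = i⁻¹ := by
        conv_lhs => rw [show z * i * z = z * i * z⁻¹ by rw [z_inv D]]
        exact hi.2
      rw [e, ← mul_assoc i, hiqc.eq,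
        show q F a b c * i * z * (q F a b c * i * z) = q F a b c * (i * z * q F a b c) * (i * z) by
          group, ((hiqc.mul_left (qz F a b c).symm)).eq,
        show q F a b c * (q F a b c * (i * z)) * (i * z) =
          q F a b c * q F a b c * (i * (z * i * z)) by group, hz]
      group
    have hyz : Commute (i * k) z := comm_of_sq ho (hsq ▸ (qz F a b c).mul_left (qz F a b c))
    obtain ⟨e3, e4⟩ := split_unique C hi (inv_one' C) hkz hyz (one_mul (i * k)).symm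
    have hko : Odd (orderOf k) := e4 ▸ ho
    exact ⟨i, hiL, k, eq_of_p D hkz (qz F a b c) hko (P0_odd F hq) (by rw [hp, p_q]) ▸ hq, rfl⟩

include S E in
/-- An element of odd order of `C(z)` centralising `e` and `e'` lies in `P0`. -/
theorem P0_of_comm_L {t : G} (htz : Commute t z) (hto : Odd (orderOf t)) (hte : Commute t E.e)
    (hte' : Commute t E.e') : t ∈ P0 F := by
  obtain ⟨T, hT, -⟩ := exists_T C S E.he E.he1 E.heu
  let H : Subgroup (Perm (Fin 9)) :=
    { carrier := {σ | ∃ x, (Commute x z ∧ Commute x E.e' ∧ x ∈ T) ∧ D.p x = σ}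
      one_mem' := ⟨1, ⟨Commute.one_left _, Commute.one_left _, T.one_mem⟩, D.p_one⟩
      mul_mem' := by
        rintro _ _ ⟨x, ⟨h1, h2, h3⟩, rfl⟩ ⟨y, ⟨k1, k2, k3⟩, rfl⟩
        exact ⟨x * y, ⟨h1.mul_left k1, h2.mul_left k2, T.mul_mem h3 k3⟩, D.p_mul h1 k1⟩
      inv_mem' := by
        rintro _ ⟨x, ⟨h1, h2, h3⟩, rfl⟩
        exact ⟨x⁻¹, ⟨h1.inv_left, h2.inv_left, T.inv_mem h3⟩, D.p_inv h1⟩ }
  have hodd : ∀ σ ∈ H, Odd (orderOf σ) := by
    rintro _ ⟨x, ⟨h1, -, h3⟩, rfl⟩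
    exact odd_of_pow ((hT x).1 h3).2 (by rw [← D.p_pow h1, pow_orderOf_eq_one, D.p_one])
  have hsign : ∀ σ ∈ H, Perm.sign σ = 1 := by
    rintro _ ⟨x, -, rfl⟩; exact D.p_sign x
  have hP : ∀ {x : G}, x ∈ P0 F → D.p x ∈ H := fun {x} hx =>
    ⟨x, ⟨P0_z F hx, (L_comm_P0 C hab ⟨E.he', E.he'a⟩ hx).symm,
      (hT x).2 ⟨(L_comm_P0 C hab ⟨E.he, E.hea⟩ hx).symm, P0_odd F hx⟩⟩, rfl⟩
  have htH : D.p t ∈ H := ⟨t, ⟨htz, hte', (hT t).2 ⟨hte, hto⟩⟩, rfl⟩
  have hcases := block_cases hodd hsign (F.p1 ▸ hP (c1_mem F)) (F.p2 ▸ hP (c2_mem F))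
    (F.p3 ▸ hP (c3_mem F)) htH
  rcases hcases with ⟨i, j, k, e⟩ | hcyc
  · rw [eq_of_p D htz (qz F i j k) hto (P0_odd F (q_mem F _ _ _)) (by rw [e, p_q])]
    exact q_mem F _ _ _
  exfalso
  set Q : Perm (Fin 9) := swap 1 2 * swap 4 5 with hQ
  obtain ⟨q', hqz, hqp⟩ := D.exists_lift (σ := Q) (by rw [hQ]; decide)
  have hQ2 : Q⁻¹ = Q := by rw [hQ]; decide
  have q1 : q' * F.c1 * q'⁻¹ = F.c1⁻¹ := conj_eq D hqz F.c1z F.c1z.inv_left F.c1_three
    (by rw [inv_pow, F.c1_three, inv_one]) hqp F.p1 (by rw [D.p_inv F.c1z, F.p1])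
    (by rw [hQ]; decide)
  have q2 : q' * F.c2 * q'⁻¹ = F.c2⁻¹ := conj_eq D hqz F.c2z F.c2z.inv_left F.c2_three
    (by rw [inv_pow, F.c2_three, inv_one]) hqp F.p2 (by rw [D.p_inv F.c2z, F.p2])
    (by rw [hQ]; decide)
  have q3 : Commute q' F.c3 := comm_of_p D hqz F.c3z F.c3_three (by
    rw [hqp, F.p3, hQ]; unfold Commute SemiconjBy; decide)
  have hqe : q'⁻¹ * E.e * q'⁻¹⁻¹ ∈ Lsub C hab := by
    refine L_conj C hab hqz.inv_left (Or.inl (comm_iff_conj.1 q3.inv_left)) ?_ ⟨E.he, E.hea⟩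
    rw [inv_inv, show q' * a' F * q'⁻¹ = (q' * F.c1 * q'⁻¹) * (q' * F.c2 * q'⁻¹) by group, q1, q2]
    exact (P0 F).mul_mem ((P0 F).inv_mem (c1_mem F)) ((P0 F).inv_mem (c2_mem F))
  set m := q' * t * q'⁻¹ * t⁻¹ with hm
  have hme : Commute m E.e := by
    refine Commute.mul_left ?_ hte.inv_left
    have h := (L_comm C hab S E hte hte' hqe).conj q'
    rwa [show q' * (q'⁻¹ * E.e * q'⁻¹⁻¹) * q'⁻¹ = E.e by group] at h
  have hmz : Commute m z := ((hqz.mul_left htz).mul_left hqz.inv_left).mul_left htz.inv_left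
  have hmp : D.p m = Q * (swap (D.p t 1) (D.p t 2) * swap (D.p t 4) (D.p t 5)) := by
    rw [D.p_mul ((hqz.mul_left htz).mul_left hqz.inv_left) htz.inv_left, D.p_conj htz hqz,
      D.p_inv htz, hqp, hQ2, swap_apply_apply, swap_apply_apply, hQ]
    group
  have hdt : ∃ τ, IsDTP τ ∧ D.p m ^ 3 = τ := by
    have hfin : ∀ (x : Fin 9) (b : ℕ), x.val / 3 = b → ∃ a : Fin 3, x.val = 3 * b + a.val :=
      fun x b h => ⟨⟨x.val % 3, Nat.mod_lt _ (by norm_num)⟩, by simp only; omega⟩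
    have hne : ∀ x y : Fin 9, x ≠ y → D.p t x ≠ D.p t y := fun x y h e => h ((D.p t).injective e)
    rcases hcyc with h | h
    · obtain ⟨a, ha⟩ := hfin _ 1 (h 1)
      obtain ⟨b, hb⟩ := hfin _ 1 (h 2)
      obtain ⟨c, hc⟩ := hfin _ 2 (h 4)
      obtain ⟨d, hd⟩ := hfin _ 2 (h 5)
      have ea : D.p t 1 = ⟨3 + a.val, by omega⟩ := Fin.ext (by simp only; omega)
      have eb : D.p t 2 = ⟨3 + b.val, by omega⟩ := Fin.ext (by simp only; omega)
      have ec : D.p t 4 = ⟨6 + c.val, by omega⟩ := Fin.ext (by simp only; omega)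
      have ed : D.p t 5 = ⟨6 + d.val, by omega⟩ := Fin.ext (by simp only; omega)
      have hab' : a ≠ b := fun e => hne 1 2 (by decide) (by rw [ea, eb]; exact Fin.ext (by simp only [e]))
      have hcd : c ≠ d := fun e => hne 4 5 (by decide) (by rw [ec, ed]; exact Fin.ext (by simp only [e]))
      refine ⟨_, isDTP_swaps ?_ ?_ ?_ ?_ ?_ ?_, by
        rw [hmp, ea, eb, ec, ed, hQ, (cubes_eq a b c d hab' hcd).1]⟩ <;>
        simp only [ne_eq, Fin.ext_iff] <;> have := Fin.val_ne_of_ne hcd <;> omega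
    · obtain ⟨a, ha⟩ := hfin _ 2 (h 1)
      obtain ⟨b, hb⟩ := hfin _ 2 (h 2)
      obtain ⟨c, hc⟩ := hfin _ 0 (h 4)
      obtain ⟨d, hd⟩ := hfin _ 0 (h 5)
      have ea : D.p t 1 = ⟨6 + a.val, by omega⟩ := Fin.ext (by simp only; omega)
      have eb : D.p t 2 = ⟨6 + b.val, by omega⟩ := Fin.ext (by simp only; omega)
      have ec : D.p t 4 = ⟨c.val, by omega⟩ := Fin.ext (by simp only; omega)
      have ed : D.p t 5 = ⟨d.val, by omega⟩ := Fin.ext (by simp only; omega)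
      have hab' : a ≠ b := fun e => hne 1 2 (by decide) (by rw [ea, eb]; exact Fin.ext (by simp only [e]))
      have hcd : c ≠ d := fun e => hne 4 5 (by decide) (by rw [ec, ed]; exact Fin.ext (by simp only [e]))
      refine ⟨_, isDTP_swaps ?_ ?_ ?_ ?_ ?_ ?_, by
        rw [hmp, ea, eb, ec, ed, hQ, (cubes_eq a b c d hab' hcd).2]⟩ <;>
        simp only [ne_eq, Fin.ext_iff] <;> have := Fin.val_ne_of_ne hab' <;> omega
  obtain ⟨τ, hτ, hτe⟩ := hdt
  have hsq := D.dt_sq (hmz.pow_left 3) (by rw [D.p_pow hmz, hτe]; exact hτ)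
  have hze : Commute E.e z := hsq ▸ (hme.pow_left 3).symm.mul_right (hme.pow_left 3).symm
  exact E.he1 (inv_eq_one C E.he hze)

include S E in
/-- One of the two fixed parts of `C(e, e')` is as large as possible. -/
theorem part_full : (∀ x, Odd (orderOf x) → Commute x F.u → Commute x E.e → Commute x E.e') ∨
    (∀ x, Odd (orderOf x) → Commute x (F.u * z) → Commute x E.e' → Commute x E.e) := by
  classical
  obtain ⟨T, hT, hTu⟩ := exists_T C S E.he E.he1 E.heu
  obtain ⟨T', hT', hTu'⟩ := exists_T (flipC C) S E.he' E.he'1 E.he'u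
  change Nat.card (cen T' (F.u * z)) = 81 at hTu'
  set Tl := T ⊓ T' with hTl
  have hmem : ∀ {x}, x ∈ Tl ↔ Odd (orderOf x) ∧ Commute x E.e ∧ Commute x E.e' := fun {x} => by
    rw [hTl, Subgroup.mem_inf, hT, hT']; tauto
  have huu : F.u * F.u = 1 := mul_self_of_two F.u_two
  have hconj : ∀ v : G, v * v = 1 → (v * E.e * v⁻¹ = E.e ∨ v * E.e * v⁻¹ = E.e⁻¹) →
      (v * E.e' * v⁻¹ = E.e' ∨ v * E.e' * v⁻¹ = E.e'⁻¹) → ∀ k ∈ Tl, v * k * v ∈ Tl := by
    intro v hv h1 h2 k hk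
    obtain ⟨ho, hke, hke'⟩ := hmem.1 hk
    have hvi : v⁻¹ = v := inv_eq_of_mul_eq_one_right hv
    refine hmem.2 ⟨?_, ?_, ?_⟩
    · have := odd_conj v ho
      rwa [hvi] at this
    · rcases h1 with h | h
      · have := hke.conj v
        rwa [h, hvi] at this
      · have := (hke.conj v).inv_right
        rwa [h, inv_inv, hvi] at this
    · rcases h2 with h | h
      · have := hke'.conj v
        rwa [h, hvi] at this
      · have := (hke'.conj v).inv_right
        rwa [h, inv_inv, hvi] at this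
  have he'u : F.u * E.e' * F.u⁻¹ = E.e'⁻¹ := by
    conv_lhs => rw [show F.u = F.u * z * z by rw [mul_assoc, D.sq, mul_one]]
    rw [show F.u * z * z * E.e' * (F.u * z * z)⁻¹ = (F.u * z) * (z * E.e' * z⁻¹) * (F.u * z)⁻¹ by
      group, E.he'.2]
    exact comm_iff_conj.1 E.he'u.symm.inv_right
  have hzinv : ∀ k ∈ Tl, z * k * z ∈ Tl := hconj z D.sq (Or.inr E.he.2) (Or.inr E.he'.2)
  have hodd : Odd (Nat.card Tl) := odd_card_of_odd fun x hx => (hmem.1 hx).1
  have hkz : cen Tl z = P0 F := by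
    refine le_antisymm (fun x hx => ?_) fun x hx => ?_
    · obtain ⟨h1, h2⟩ := mem_cen'.1 hx
      obtain ⟨ho, he, he'⟩ := hmem.1 h1
      exact P0_of_comm_L C hab S E h2 ho he he'
    · exact mem_cen'.2 ⟨hmem.2 ⟨P0_odd F hx, (L_comm_P0 C hab ⟨E.he, E.hea⟩ hx).symm,
        (L_comm_P0 C hab ⟨E.he', E.he'a⟩ hx).symm⟩, P0_z F hx⟩
  have hcV : cen (cen Tl z) F.u = Subgroup.zpowers (a' F) := by
    rw [hkz]
    refine le_antisymm (fun x hx => P0_u F (mem_cen'.1 hx).1 (mem_cen'.1 hx).2)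
      (Subgroup.zpowers_le.2 (mem_cen'.2 ⟨a_mem F, (comm_u_a F).symm⟩))
  have hff := four_formula Tl hodd F.u z huu D.sq F.uz.eq
    (hconj F.u huu (Or.inl (comm_iff_conj.1 E.heu.symm)) (Or.inr he'u)) hzinv
  rw [hcV, Nat.card_zpowers, orderOf_a, hkz, card_P0] at hff
  have hku : cen Tl F.u ≤ cen T F.u := fun x hx =>
    mem_cen'.2 ⟨(mem_cen'.1 hx).1.1, (mem_cen'.1 hx).2⟩
  have hkuz : cen Tl (F.u * z) ≤ cen T' (F.u * z) := fun x hx =>
    mem_cen'.2 ⟨(mem_cen'.1 hx).1.2, (mem_cen'.1 hx).2⟩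
  have dku : Nat.card (cen Tl F.u) ∣ 3 ^ 4 := by
    have h := Subgroup.card_dvd_of_le hku
    rwa [hTu] at h
  have dkuz : Nat.card (cen Tl (F.u * z)) ∣ 3 ^ 4 := by
    have h := Subgroup.card_dvd_of_le hkuz
    rwa [hTu'] at h
  -- more than 81 inverted elements
  have hsplit := card_split Tl hodd z D.sq hzinv
  rw [hkz, card_P0] at hsplit
  obtain ⟨k, hkz', hkp⟩ := D.exists_lift
    (σ := swap (0 : Fin 9) 6 * swap 1 7 * swap 2 8 * swap 4 5) (by decide)
  have hk3 : k * F.c3 * k⁻¹ = F.c1 :=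
    conj_eq D hkz' F.c3z F.c1z F.c3_three F.c1_three hkp F.p3 F.p1 (by decide)
  have hzk : ∀ {x : G}, Commute x F.c1 → Inv C x → Inv C (k⁻¹ * x * k) := by
    intro x hx1 hx
    refine mem_R_of_inv C ?_ ?_ ?_
    · have := odd_conj k⁻¹ (odd_R C hx.1)
      rwa [inv_inv] at this
    · have := hx1.conj k⁻¹
      rwa [inv_inv, show k⁻¹ * F.c1 * k = F.c3 by rw [← hk3]; group] at this
    · rw [show z * (k⁻¹ * x * k) * z⁻¹ = (z * k⁻¹) * x * (z * k⁻¹)⁻¹ by group,
        ← hkz'.inv_left.eq, show k⁻¹ * z * x * (k⁻¹ * z)⁻¹ = k⁻¹ * (z * x * z⁻¹) * k by group,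
        hx.2]
      group
  have hE1 := hzk (comm_P0 C E.he (Or.inl E.hea) (c1_mem F)) E.he
  have hE2 := hzk (comm_P0 C E.he' (Or.inl E.he'a) (c1_mem F)) E.he'
  have hInv : ∀ {x : G}, Inv C x → x ∈ inverted Tl z := fun {x} hx =>
    ⟨hmem.2 ⟨odd_R C hx.1, hab _ hx.1 _ E.he.1, hab _ hx.1 _ E.he'.1⟩, by
      conv_lhs => rw [show z * x * z = z * x * z⁻¹ by rw [z_inv D]]
      exact hx.2⟩
  have hInv1 : ∀ {x : G}, Inv C x → k * x * k⁻¹ ∈ inverted Tl z := fun {x} hx => by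
    refine ⟨hmem.2 ⟨odd_conj k (odd_R C hx.1), ?_, ?_⟩, ?_⟩
    · have := (hab _ hx.1 _ hE1.1).conj k
      rwa [show k * (k⁻¹ * E.e * k) * k⁻¹ = E.e by group] at this
    · have := (hab _ hx.1 _ hE2.1).conj k
      rwa [show k * (k⁻¹ * E.e' * k) * k⁻¹ = E.e' by group] at this
    · conv_lhs => rw [show z * (k * x * k⁻¹) * z = (z * k) * x * (z * k)⁻¹ by
        rw [mul_inv_rev, z_inv D]; group]
      rw [← hkz'.eq, show k * z * x * (k * z)⁻¹ = k * (z * x * z⁻¹) * k⁻¹ by group, hx.2]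
      group
  have hbig : 81 < Nat.card (inverted Tl z) := by
    by_contra hle
    let f : {r // Inv C r} → inverted Tl z := fun r => ⟨r, hInv r.2⟩
    let f1 : {r // Inv C r} → inverted Tl z := fun r => ⟨k * r * k⁻¹, hInv1 r.2⟩
    have hf1 : Function.Injective f1 := fun r r' h =>
      Subtype.ext (mul_left_cancel (mul_right_cancel (congrArg Subtype.val h)))
    have hb := hf1.bijective_of_nat_card_le (by rw [card_inv]; omega)
    refine absurd ?_ (c_ne F).1
    have hc1 : F.c1 ∈ Subgroup.zpowers F.c3 := by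
      refine C.faithful _ F.c1z F.comm13 fun r hr hz => ?_
      obtain ⟨x, hx⟩ := hb.2 (f ⟨r, hr, hz⟩)
      have hx' : k * (x : G) * k⁻¹ = r := congrArg Subtype.val hx
      have := (inv_comm_c C x.2).symm.conj k
      rwa [hk3, hx'] at this
    obtain ⟨m, hm⟩ := Subgroup.mem_zpowers_iff.1 hc1
    have h' : F.c1 = F.c3 ^ (m % 3).toNat := by
      rw [← hm, ← zpow_natCast, Int.toNat_of_nonneg (Int.emod_nonneg _ (by norm_num))]
      exact zpow_eq_zpow_emod' m F.c3_three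
    have e := congrArg D.p h'
    rw [F.p1, D.p_pow F.c3z, F.p3] at e
    have key : ∀ m : Fin 3, C1 9 ≠ C3 9 ^ m.val := by decide
    exact absurd e (key ⟨(m % 3).toNat, by omega⟩)
  obtain ⟨i, hi, hic⟩ := (Nat.dvd_prime_pow Nat.prime_three).1 dku
  obtain ⟨j, hj, hjc⟩ := (Nat.dvd_prime_pow Nat.prime_three).1 dkuz
  rcases (by omega : i = 4 ∨ j = 4 ∨ (i ≤ 3 ∧ j ≤ 3)) with rfl | rfl | ⟨hi3, hj3⟩
  · left
    intro x ho hu he
    have heq : cen Tl F.u = cen T F.u :=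
      Subgroup.eq_of_le_of_card_ge hku (by rw [hTu, hic]; norm_num)
    have : x ∈ cen Tl F.u := heq ▸ mem_cen'.2 ⟨(hT x).2 ⟨he, ho⟩, hu⟩
    exact (hmem.1 (mem_cen'.1 this).1).2.2
  · right
    intro x ho hu he
    have heq : cen Tl (F.u * z) = cen T' (F.u * z) :=
      Subgroup.eq_of_le_of_card_ge hkuz (by rw [hTu', hjc]; norm_num)
    have : x ∈ cen Tl (F.u * z) := heq ▸ mem_cen'.2 ⟨(hT' x).2 ⟨he, ho⟩, hu⟩
    exact (hmem.1 (mem_cen'.1 this).1).2.1
  · exfalso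
    rw [hic, hjc, hsplit] at hff
    have hp : 3 ^ i * 27 * 3 ^ j ≤ 27 * 27 * 27 :=
      Nat.mul_le_mul (Nat.mul_le_mul_right 27 ((Nat.pow_le_pow_right (by norm_num) hi3).trans
        (by norm_num))) ((Nat.pow_le_pow_right (by norm_num) hj3).trans (by norm_num))
    rw [← hff] at hp
    omega

end Cfsg.Agent.DoubleCoverCoreAb91
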