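import Cfsg.Agent.Lib.DoubleCoverCoreNonab91
import Cfsg.Agent.Lib.DoubleCoverCoreAb91

/-!
# The configuration `O(C(c)) ≠ ⟨c⟩` in degree 9 does not occur
-/

set_option autoImplicit false
set_option maxRecDepth 10000

namespace Cfsg.Agent.DoubleCoverCore91

open Equiv Equiv.Perm
open Cfsg.Agent.DoubleCover90
open Cfsg.Agent.DoubleCoverPerm91
open Cfsg.Agent.DoubleCoverLifts91
open Cfsg.Agent.DoubleCoverCoreBase91
open Cfsg.Agent.DoubleCoverCoreAb91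
open Cfsg.Agent.FourFormula30 (cen mem_cen four_formula inverted card_split)

universe u

variable {G : Type u} [Group G] [Finite G] {z : G} {D : DC z 9} {F : Frame D}

theorem gen_mem {e x : G} (he : e ^ 3 = 1) (hx : x ∈ Subgroup.zpowers e) (hx1 : x ≠ 1) :
    e ∈ Subgroup.zpowers x := by
  haveI : Fact (Nat.Prime 3) := ⟨Nat.prime_three⟩
  have he1 : e ≠ 1 := fun h => by
    rw [h, Subgroup.zpowers_one_eq_bot, Subgroup.mem_bot] at hx
    exact hx1 hx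
  obtain ⟨m, hm⟩ := Subgroup.mem_zpowers_iff.1 hx
  have hx3 : x ^ 3 = 1 := by
    rw [← hm, ← zpow_natCast, ← zpow_mul, mul_comm, zpow_mul, zpow_natCast, he, one_zpow]
  have heq : Subgroup.zpowers x = Subgroup.zpowers e :=
    Subgroup.eq_of_le_of_card_ge (Subgroup.zpowers_le.2 hx) (by
      rw [Nat.card_zpowers, Nat.card_zpowers, orderOf_eq_prime hx3 hx1, orderOf_eq_prime he he1])
  rw [heq]; exact Subgroup.mem_zpowers e

theorem q_pow (i j k m : ℕ) : q F i j k ^ m = q F (m * i) (m * j) (m * k) := by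
  induction m with
  | zero => simp [q]
  | succ m ih => rw [pow_succ, ih, q_mul]; congr 1 <;> ring

/-- An element mapping `z` to `u` and permuting `z, u, u z`. -/
theorem exists_tau (S : Small D) (F : Frame D) : ∃ τ, Commute τ (a' F) ∧ τ * z * τ⁻¹ = F.u ∧
    ((τ * F.u * τ⁻¹ = z ∧ τ * (F.u * z) * τ⁻¹ = F.u * z) ∨
      (τ * F.u * τ⁻¹ = F.u * z ∧ τ * (F.u * z) * τ⁻¹ = z)) := by
  obtain ⟨h, hha, hh⟩ := S.conj_fix (az F) (a_three F) (a_type F) F.u_two F.uz (comm_u_a F)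
  set t := h⁻¹ * z * h with ht
  have hto : orderOf t = 2 := by
    rw [show t = MulAut.conj h⁻¹ z by simp [ht], MulEquiv.orderOf_eq]; exact orderOf_z D
  have htz : Commute t z := by
    have := F.uz.symm.conj h⁻¹
    rwa [inv_inv, show h⁻¹ * F.u * h = z by rw [← hh]; group] at this
  have hta : Commute t (a' F) := by
    have h1 := (az F).symm.conj h⁻¹
    rw [comm_iff_conj.1 hha.inv_left, inv_inv] at h1
    exact h1
  have htne : t ≠ z := fun e => F.u_ne (by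
    rw [← hh]
    conv_lhs => rw [← e, ht]
    group)
  obtain ⟨i, j, k, b, hp⟩ := of_comm12 (D.p_sign t) (p_a F ▸ comm_p D htz (az F) hta)
  have hp2 := D.p_sq_of_invol htz (mul_self_of_two hto)
  have hp1 : D.p t ≠ 1 := fun e => by
    rcases (D.p_eq_one_iff htz).1 e with e' | e'
    exacts [ne_one_of_two hto e', htne e']
  rw [hp] at hp2 hp1
  rcases invol12 i j k b hp2 with e | e
  · exact absurd e hp1
  set m := q F i.val 0 (2 * k.val) with hm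
  have hma : Commute m (a' F) := P0_comm F (q_mem F _ _ _) (a_mem F)
  have hmz : Commute m z := qz F _ _ _
  have hpm : D.p t = D.p (m * F.u * m⁻¹) := by
    rw [D.p_conj F.uz hmz, F.pu, hm, p_q, hp, e]
  have hτz : h * m * z * (h * m)⁻¹ = F.u := by
    rw [show h * m * z * (h * m)⁻¹ = h * (m * z * m⁻¹) * h⁻¹ by group, comm_iff_conj.1 hmz, hh]
  have huu : F.u * (F.u * z) = z := by rw [← mul_assoc, mul_self_of_two F.u_two, one_mul]
  refine ⟨h * m, hha.mul_left hma, hτz, ?_⟩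
  rcases D.eq_or_mul htz ((hmz.mul_left F.uz).mul_left hmz.inv_left) hpm with e | e
  · have h1 : h * m * F.u * (h * m)⁻¹ = z := by
      rw [show h * m * F.u * (h * m)⁻¹ = h * (m * F.u * m⁻¹) * h⁻¹ by group, ← e, ht]
      group
    refine Or.inl ⟨h1, ?_⟩
    rw [show h * m * (F.u * z) * (h * m)⁻¹ = (h * m * F.u * (h * m)⁻¹) * (h * m * z * (h * m)⁻¹) by
      group, h1, hτz, F.uz.eq]
  · have e' : t = m * (F.u * z) * m⁻¹ := by
      rw [e, show m * (F.u * z) * m⁻¹ = (m * F.u * m⁻¹) * (m * z * m⁻¹) by group,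
        comm_iff_conj.1 hmz]
    have h1 : h * m * (F.u * z) * (h * m)⁻¹ = z := by
      rw [show h * m * (F.u * z) * (h * m)⁻¹ = h * (m * (F.u * z) * m⁻¹) * h⁻¹ by group, ← e', ht]
      group
    refine Or.inr ⟨?_, h1⟩
    rw [show h * m * F.u * (h * m)⁻¹ = h * m * ((F.u * z) * z) * (h * m)⁻¹ by
        rw [mul_assoc F.u, D.sq, mul_one],
      show h * m * ((F.u * z) * z) * (h * m)⁻¹ =
        (h * m * (F.u * z) * (h * m)⁻¹) * (h * m * z * (h * m)⁻¹) by group, h1, hτz, F.uz.eq]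

variable (C : Core D F) (hab : ∀ r ∈ C.R, ∀ s ∈ C.R, Commute r s) (S : Small D)
include hab S

/-- In the group `Y` of class 2 some element shifts `c1 c2⁻¹` by a generator of `⟨e'⟩`. -/
theorem shift (E : Pair C) (Y Zy : Subgroup G) (hYa : ∀ y ∈ Y, Commute y (a' F))
    (hYo : ∀ y ∈ Y, Odd (orderOf y)) (hP0 : P0 F ≤ Y) (hYz : ∀ y ∈ Y, z * y * z ∈ Y)
    (hu27 : Nat.card (cen Y F.u) = 27) (hZy : ∀ x ∈ Zy, x ∈ Y ∧ ∀ y ∈ Y, Commute x y)
    (hclass : ∀ y ∈ Y, ∀ x ∈ Y, y * x * y⁻¹ * x⁻¹ ∈ Zy) {w : ℕ}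
    (hz0 : q F (2 * w) w 1 ∈ Zy) :
    ∃ n ∈ Y, ∃ x ∈ Subgroup.zpowers E.e', x ≠ 1 ∧
      n * q F 1 2 0 * n⁻¹ = q F 1 2 0 * x := by
  classical
  haveI : Fact (Nat.Prime 3) := ⟨Nat.prime_three⟩
  have hcz : cen (cen Y F.u) z = Subgroup.zpowers (a' F) := by
    refine le_antisymm (fun x hx => ?_) (Subgroup.zpowers_le.2
      (mem_cen'.2 ⟨mem_cen'.2 ⟨hP0 (a_mem F), (comm_u_a F).symm⟩, az F⟩))
    obtain ⟨h1, h2⟩ := mem_cen'.1 hx
    obtain ⟨h3, h4⟩ := mem_cen'.1 h1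
    exact P0_u F (P0_of_comm_a' F h2 (hYo _ h3) (hYa _ h3)) h4
  have hsp := card_split (cen Y F.u) (odd_card_of_odd fun x hx => hYo _ (mem_cen'.1 hx).1) z D.sq
    (fun k hk => mem_cen'.2 ⟨hYz _ (mem_cen'.1 hk).1, by
      have h1 := (mem_cen'.1 hk).2.conj z
      rwa [comm_iff_conj.1 F.uz.symm, z_inv D] at h1⟩)
  rw [hu27, hcz, Nat.card_zpowers, orderOf_a] at hsp
  obtain ⟨s, hs, hse⟩ : ∃ s ∈ inverted (cen Y F.u) z, s ∉ Subgroup.zpowers E.e := by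
    by_contra hno
    push Not at hno
    let f : inverted (cen Y F.u) z → Subgroup.zpowers E.e := fun x => ⟨x, hno x x.2⟩
    have hf : Function.Injective f := fun x y e =>
      Subtype.ext (congrArg (fun r : Subgroup.zpowers E.e => (r : G)) e)
    have := Nat.card_le_card_of_injective f hf
    rw [Nat.card_zpowers, orderOf_eq_prime (e_three C E S) E.he1] at this
    omega
  obtain ⟨hs1, hsz'⟩ := hs
  obtain ⟨hsY, hsu⟩ := mem_cen'.1 hs1
  have hsz : z * s * z⁻¹ = s⁻¹ := by rw [z_inv D]; exact hsz'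
  set g := q F 1 2 0 with hg
  have hgY : g ∈ Y := hP0 (q_mem F _ _ _)
  have hgz : z * g * z⁻¹ = g := comm_iff_conj.1 (qz F _ _ _).symm
  have hgu : F.u * g * F.u⁻¹ = g⁻¹ := by
    rw [hg, u_conj_q]
    refine eq_inv_of_mul_eq_one_left ?_
    rw [q_mul, q_mod]
    simp [q]
  set x := s * g * s⁻¹ * g⁻¹ with hx
  have hxZ : x ∈ Zy := hclass _ hsY _ hgY
  obtain ⟨hxY, hxc⟩ := hZy _ hxZ
  have hxz : z * x * z⁻¹ = x⁻¹ := by
    have h1 : s⁻¹ * x * s = x := by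
      have := comm_iff_conj.1 (hxc _ hsY).inv_right.symm
      rwa [inv_inv] at this
    conv_rhs => rw [← h1]
    rw [hx, show z * (s * g * s⁻¹ * g⁻¹) * z⁻¹ = (z * s * z⁻¹) * (z * g * z⁻¹) * (z * s * z⁻¹)⁻¹ *
      (z * g * z⁻¹)⁻¹ by group, hsz, hgz]
    group
  have hxu : Commute x (F.u * z) := by
    refine (comm_iff_conj.2 ?_).symm
    rw [show F.u * z * x * (F.u * z)⁻¹ = F.u * (z * x * z⁻¹) * F.u⁻¹ by group, hxz]
    have h1 : g⁻¹ * x * g = x := by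
      have := comm_iff_conj.1 (hxc _ hgY).inv_right.symm
      rwa [inv_inv] at this
    conv_rhs => rw [← h1]
    rw [hx, show F.u * (s * g * s⁻¹ * g⁻¹)⁻¹ * F.u⁻¹ = (F.u * g * F.u⁻¹) * (F.u * s * F.u⁻¹) *
      (F.u * g * F.u⁻¹)⁻¹ * (F.u * s * F.u⁻¹)⁻¹ by group, comm_iff_conj.1 hsu.symm, hgu]
    group
  have hxP : ∀ {q : G}, q ∈ P0 F → Commute x q := fun hq => hxc _ (hP0 hq)
  have hxI : Inv C x := mem_R_of_inv C (hYo _ hxY) (hxP (c3_mem F)) hxz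
  have hxe : x ∈ Subgroup.zpowers E.e' :=
    L_u (flipC C) hab S E.flip ⟨hxI, hYa _ hxY⟩ hxu
  refine ⟨s, hsY, x, hxe, fun hx1 => hse ?_, ?_⟩
  · have hsg : Commute s g := comm_iff_conj.2 (mul_inv_eq_one.1 (hx ▸ hx1))
    have hsa : Commute s (a' F) := hYa _ hsY
    have h1 : Commute s F.c1 := by
      rw [c1_eq_q, q_mod, show q F (1 % 3) (0 % 3) (0 % 3) =
        q F ((2 + 2) % 3) ((2 + 4) % 3) ((0 + 0) % 3) from rfl, ← q_mod, ← q_mul,
        show q F 2 2 0 = a' F ^ 2 by rw [a_eq_q, q_pow],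
        show q F 2 4 0 = g ^ 2 by rw [hg, q_pow]]
      exact (hsa.pow_right 2).mul_right (hsg.pow_right 2)
    have h2 : Commute s F.c2 := by
      rw [c2_eq_q, q_mod, show q F (0 % 3) (1 % 3) (0 % 3) =
        q F ((2 + 1) % 3) ((2 + 2) % 3) ((0 + 0) % 3) from rfl, ← q_mod, ← q_mul,
        show q F 2 2 0 = a' F ^ 2 by rw [a_eq_q, q_pow]]
      exact (hsa.pow_right 2).mul_right hsg
    have h3 : Commute s F.c3 := by
      rw [c3_eq_q, q_mod, show (0 : ℕ) % 3 = (w * 1 + 2 * w) % 3 by omega]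
      rw [show q F ((w * 1 + 2 * w) % 3) ((w * 1 + 2 * w) % 3) (1 % 3) =
        q F (w * 1 + 2 * w) (w * 2 + w) (w * 0 + 1) by
          conv_rhs => rw [q_mod]
          congr 1
          rw [show w * 2 + w = w * 1 + 2 * w by ring],
        ← q_mul, ← q_pow, ← hg]
      exact (hsg.pow_right w).mul_right ((hZy _ hz0).2 _ hsY).symm
    obtain ⟨l, hl, p, hp, he⟩ := of_comm_P0 C hab (hYo _ hsY) h1 h2 h3
    obtain ⟨e1, e2⟩ := split_unique C (u_conj_inv C hl.1) hl.1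
      (P0_z F (P0_u_conj F hp)) (P0_z F hp) (by
        rw [show F.u * l * F.u⁻¹ * (F.u * p * F.u⁻¹) = F.u * (l * p) * F.u⁻¹ by group, ← he]
        exact comm_iff_conj.1 hsu.symm)
    have hlu : Commute l F.u := (comm_iff_conj.2 e1).symm
    have hlp : Commute l p := L_comm_P0 C hab hl hp
    have hp1 : p = 1 := by
      have h := hsz
      rw [he, show z * (l * p) * z⁻¹ = (z * l * z⁻¹) * (z * p * z⁻¹) by group, hl.1.2,
        comm_iff_conj.1 (P0_z F hp).symm, hlp.eq, mul_inv_rev] at h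
      have h' := mul_left_cancel h
      refine eq_one_of_sq (P0_odd F hp) ?_
      conv_lhs => arg 1; rw [h']
      exact inv_mul_cancel p
    rw [hp1, mul_one] at he
    rw [he]
    exact L_u C hab S E hl hlu
  · rw [← (hxc _ hgY).eq, hx]; group

/-- The case in which every element of odd order of `C(u, e)` centralises `e'`. -/
theorem final (E : Pair C)
    (hfull : ∀ x, Odd (orderOf x) → Commute x F.u → Commute x E.e → Commute x E.e') : False := by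
  classical
  haveI : Fact (Nat.Prime 3) := ⟨Nat.prime_three⟩
  obtain ⟨T', hT', -⟩ := exists_T (flipC C) S E.he' E.he'1 E.he'u
  have huu : F.u * F.u = 1 := mul_self_of_two F.u_two
  set Y := T' ⊓ Subgroup.centralizer ({a' F} : Set G) with hY
  have hYmem : ∀ {x}, x ∈ Y ↔ Odd (orderOf x) ∧ Commute x (a' F) ∧ Commute x E.e' := fun {x} => by
    rw [hY, Subgroup.mem_inf, hT', Subgroup.mem_centralizer_singleton_iff]
    exact ⟨fun h => ⟨h.1.2, h.2, h.1.1⟩, fun h => ⟨⟨h.2.2, h.1⟩, h.2.1.eq⟩⟩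
  have hYo : ∀ y ∈ Y, Odd (orderOf y) := fun y hy => (hYmem.1 hy).1
  have hYa : ∀ y ∈ Y, Commute y (a' F) := fun y hy => (hYmem.1 hy).2.1
  have he'z : z * E.e' * z⁻¹ = E.e'⁻¹ := E.he'.2
  have he'u : F.u * E.e' * F.u⁻¹ = E.e'⁻¹ := by
    conv_lhs => rw [show F.u = F.u * z * z by rw [mul_assoc, D.sq, mul_one]]
    rw [show F.u * z * z * E.e' * (F.u * z * z)⁻¹ = (F.u * z) * (z * E.e' * z⁻¹) * (F.u * z)⁻¹ by
      group, he'z]
    exact comm_iff_conj.1 E.he'u.symm.inv_right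
  obtain ⟨τ1, hτ1a, hτ1z, hτ1⟩ := exists_tau S F
  obtain ⟨τ2, hτ2a, hτ2z, hτ2⟩ := exists_tau S (flip F)
  change Commute τ2 (a' F) at hτ2a
  change τ2 * z * τ2⁻¹ = F.u * z at hτ2z
  have huzz : F.u * z * z = F.u := by rw [mul_assoc, D.sq, mul_one]
  change (τ2 * (F.u * z) * τ2⁻¹ = z ∧ τ2 * (F.u * z * z) * τ2⁻¹ = F.u * z * z) ∨
    (τ2 * (F.u * z) * τ2⁻¹ = F.u * z * z ∧ τ2 * (F.u * z * z) * τ2⁻¹ = z) at hτ2
  rw [huzz] at hτ2
  -- conjugates of `P0`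
  have pull : ∀ {τ v x : G}, Commute τ (a' F) → τ * z * τ⁻¹ = v → Odd (orderOf x) →
      Commute x (a' F) → Commute x v → τ⁻¹ * x * τ ∈ P0 F := by
    intro τ v x ha hv ho hxa hxv
    refine P0_of_comm_a' F ?_ ?_ ?_
    · have := hxv.conj τ⁻¹
      rwa [inv_inv, show τ⁻¹ * v * τ = z by rw [← hv]; group] at this
    · have := odd_conj τ⁻¹ ho
      rwa [inv_inv] at this
    · have := hxa.conj τ⁻¹
      rwa [comm_iff_conj.1 ha.inv_left, inv_inv] at this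
  have comm_pull : ∀ {τ v x y : G}, Commute τ (a' F) → τ * z * τ⁻¹ = v → Odd (orderOf x) →
      Commute x (a' F) → Commute x v → Odd (orderOf y) → Commute y (a' F) → Commute y v →
      Commute x y := by
    intro τ v x y ha hv h1 h2 h3 k1 k2 k3
    have := (P0_comm F (pull ha hv h1 h2 h3) (pull ha hv k1 k2 k3)).conj τ
    rwa [show τ * (τ⁻¹ * x * τ) * τ⁻¹ = x by group, show τ * (τ⁻¹ * y * τ) * τ⁻¹ = y by group] at this
  let V : G → Prop := fun x => Commute x z ∨ Commute x F.u ∨ Commute x (F.u * z)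
  let Gn : Set G := {x | Odd (orderOf x) ∧ Commute x (a' F) ∧ V x}
  have hGnY : ∀ x ∈ Gn, x ∈ Y := by
    rintro x ⟨ho, ha, hv⟩
    refine hYmem.2 ⟨ho, ha, ?_⟩
    rcases hv with h | h | h
    · exact (L_comm_P0 C hab ⟨E.he', E.he'a⟩ (P0_of_comm_a' F h ho ha)).symm
    · exact hfull x ho h (comm_pull hτ1a hτ1z ho ha h (odd_R C E.he.1) E.hea E.heu)
    · exact comm_pull hτ2a hτ2z ho ha h (odd_R C E.he'.1) E.he'a E.he'u
  have hP0Gn : ∀ x ∈ P0 F, x ∈ Gn := fun x hx =>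
    ⟨P0_odd F hx, P0_comm F hx (a_mem F), Or.inl (P0_z F hx)⟩
  -- fixed parts
  have hcenz : ∀ X : Subgroup G, X ≤ Y → (∀ x ∈ Gn, x ∈ X) → cen X z = P0 F := by
    intro X hXY hX
    refine le_antisymm (fun x hx => ?_) fun x hx => mem_cen'.2 ⟨hX x (hP0Gn x hx), P0_z F hx⟩
    obtain ⟨h1, h2⟩ := mem_cen'.1 hx
    exact P0_of_comm_a' F h2 (hYo _ (hXY h1)) (hYa _ (hXY h1))
  have hcenv : ∀ X : Subgroup G, X ≤ Y → (∀ x ∈ Gn, x ∈ X) → ∀ τ v, Commute τ (a' F) →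
      τ * z * τ⁻¹ = v → (v = F.u ∨ v = F.u * z) → Nat.card (cen X v) = 27 := by
    intro X hXY hX τ v ha hv hvv
    rw [← card_P0 F]
    refine card_eq_of_conj τ fun y => ⟨fun h => ?_, fun h => ?_⟩
    · obtain ⟨h1, h2⟩ := mem_cen'.1 h
      have := pull ha hv (hYo _ (hXY h1)) (hYa _ (hXY h1)) h2
      rwa [show τ⁻¹ * (τ * y * τ⁻¹) * τ = y by group] at this
    · have h2 : Commute (τ * y * τ⁻¹) v := hv ▸ (P0_z F h).conj τ
      have h3 : Commute (τ * y * τ⁻¹) (a' F) := by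
        have := (P0_comm F h (a_mem F)).conj τ
        rwa [comm_iff_conj.1 ha] at this
      refine mem_cen'.2 ⟨hX _ ⟨odd_conj τ (P0_odd F h), h3, ?_⟩, h2⟩
      rcases hvv with e | e <;> rw [e] at h2
      exacts [Or.inr (Or.inl h2), Or.inr (Or.inr h2)]
  have hcV : ∀ X : Subgroup G, X ≤ Y → a' F ∈ X →
      Nat.card (cen (cen X z) F.u) = 3 := by
    intro X hXY haX
    have : cen (cen X z) F.u = Subgroup.zpowers (a' F) := by
      refine le_antisymm (fun x hx => ?_) (Subgroup.zpowers_le.2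
        (mem_cen'.2 ⟨mem_cen'.2 ⟨haX, az F⟩, (comm_u_a F).symm⟩))
      obtain ⟨h1, h2⟩ := mem_cen'.1 hx
      obtain ⟨h3, h4⟩ := mem_cen'.1 h1
      exact P0_u F (P0_of_comm_a' F h4 (hYo _ (hXY h3)) (hYa _ (hXY h3))) h2
    rw [this, Nat.card_zpowers, orderOf_a]
  have hformula : ∀ X : Subgroup G, X ≤ Y → a' F ∈ X → (∀ k ∈ X, F.u * k * F.u⁻¹ ∈ X) →
      (∀ k ∈ X, z * k * z⁻¹ ∈ X) →
      Nat.card X * 9 = Nat.card (cen X F.u) * Nat.card (cen X z) * Nat.card (cen X (F.u * z)) := by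
    intro X hXY haX hu hz
    have h := four_formula X (odd_card_of_odd fun x hx => hYo _ (hXY hx)) F.u z huu D.sq F.uz.eq
      (fun k hk => by have := hu k hk; rwa [u_inv] at this)
      (fun k hk => by have := hz k hk; rwa [z_inv D] at this)
    rw [hcV X hXY haX] at h
    exact h
  have hcount : ∀ X : Subgroup G, X ≤ Y → (∀ x ∈ Gn, x ∈ X) →
      (∀ k ∈ X, F.u * k * F.u⁻¹ ∈ X) → (∀ k ∈ X, z * k * z⁻¹ ∈ X) → Nat.card X = 2187 := by
    intro X hXY hX hu hz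
    have h := hformula X hXY (hX _ (hP0Gn _ (a_mem F))) hu hz
    rw [hcenz X hXY hX, card_P0, hcenv X hXY hX τ1 _ hτ1a hτ1z (Or.inl rfl),
      hcenv X hXY hX τ2 _ hτ2a hτ2z (Or.inr rfl)] at h
    omega
  -- invariance
  let Good : G → Prop := fun g => Commute g (a' F) ∧ ∀ x, V x → V (g * x * g⁻¹)
  have hGoodV : ∀ g : G, (g * z * g⁻¹ = z ∨ g * z * g⁻¹ = F.u ∨ g * z * g⁻¹ = F.u * z) →
      (g * F.u * g⁻¹ = z ∨ g * F.u * g⁻¹ = F.u ∨ g * F.u * g⁻¹ = F.u * z) →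
      (g * (F.u * z) * g⁻¹ = z ∨ g * (F.u * z) * g⁻¹ = F.u ∨ g * (F.u * z) * g⁻¹ = F.u * z) →
      ∀ x, V x → V (g * x * g⁻¹) := by
    intro g k1 k2 k3 x hx
    have key : ∀ {v : G}, Commute x v →
        (g * v * g⁻¹ = z ∨ g * v * g⁻¹ = F.u ∨ g * v * g⁻¹ = F.u * z) → V (g * x * g⁻¹) := by
      intro v hv h
      have h1 := hv.conj g
      rcases h with e | e | e <;> rw [e] at h1
      exacts [Or.inl h1, Or.inr (Or.inl h1), Or.inr (Or.inr h1)]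
    rcases hx with h | h | h
    exacts [key h k1, key h k2, key h k3]
  have guz : Commute z (F.u * z) := F.uz.symm.mul_right (Commute.refl z)
  have guu : Commute F.u (F.u * z) := (Commute.refl F.u).mul_right F.uz
  have gz : Good z := ⟨(az F).symm, hGoodV z (Or.inl (comm_iff_conj.1 (Commute.refl z)))
    (Or.inr (Or.inl (comm_iff_conj.1 F.uz.symm))) (Or.inr (Or.inr (comm_iff_conj.1 guz)))⟩
  have gu : Good F.u := ⟨comm_u_a F, hGoodV F.u (Or.inl (comm_iff_conj.1 F.uz))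
    (Or.inr (Or.inl (comm_iff_conj.1 (Commute.refl _)))) (Or.inr (Or.inr (comm_iff_conj.1 guu)))⟩
  have g1 : Good τ1 := ⟨hτ1a, hGoodV τ1 (Or.inr (Or.inl hτ1z))
    (hτ1.elim (fun h => Or.inl h.1) fun h => Or.inr (Or.inr h.1))
    (hτ1.elim (fun h => Or.inr (Or.inr h.2)) fun h => Or.inl h.2)⟩
  have g2 : Good τ2 := ⟨hτ2a, hGoodV τ2 (Or.inr (Or.inr hτ2z))
    (hτ2.elim (fun h => Or.inr (Or.inl h.2)) fun h => Or.inl h.2)
    (hτ2.elim (fun h => Or.inl h.1) fun h => Or.inr (Or.inl h.1))⟩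
  set X := Subgroup.closure Gn with hX
  have hXY : X ≤ Y := (Subgroup.closure_le _).2 hGnY
  have hXG : ∀ x ∈ Gn, x ∈ X := fun x hx => Subgroup.subset_closure hx
  have hXgood : ∀ g, Good g → ∀ x ∈ X, g * x * g⁻¹ ∈ X := by
    intro g hg x hx
    have hle : X ≤ X.comap (MulAut.conj g).toMonoidHom := (Subgroup.closure_le _).2 (by
      rintro y ⟨ho, ha, hv⟩
      refine hXG _ ⟨odd_conj g ho, ?_, hg.2 y hv⟩
      have := ha.conj g
      rwa [comm_iff_conj.1 hg.1] at this)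
    exact hle hx
  have hYv : ∀ v : G, Commute v (a' F) → v * E.e' * v⁻¹ = E.e'⁻¹ → ∀ k ∈ Y, v * k * v⁻¹ ∈ Y := by
    intro v hva hve k hk
    obtain ⟨ho, ha, he⟩ := hYmem.1 hk
    refine hYmem.2 ⟨odd_conj v ho, ?_, ?_⟩
    · have := ha.conj v
      rwa [comm_iff_conj.1 hva] at this
    · have := (he.conj v).inv_right
      rwa [hve, inv_inv] at this
  have hcY : Nat.card Y = 2187 :=
    hcount Y le_rfl hGnY (hYv _ (comm_u_a F) he'u) (hYv _ (az F).symm he'z)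
  have hXeq : X = Y := Subgroup.eq_of_le_of_card_ge hXY (by
    rw [hcY, hcount X hXY hXG (hXgood _ gu) (hXgood _ gz)])
  have hYgood : ∀ g, Good g → ∀ x ∈ Y, g * x * g⁻¹ ∈ Y := fun g hg x hx =>
    hXeq ▸ hXgood g hg x (hXeq.symm ▸ hx)
  have hback : ∀ (Z : Subgroup G) (g : G), (∀ x ∈ Z, g * x * g⁻¹ ∈ Z) →
      ∀ x ∈ Z, g⁻¹ * x * g ∈ Z := by
    intro Z g h x hx
    let f : Z → Z := fun y => ⟨g * y * g⁻¹, h y y.2⟩
    have hf : Function.Injective f := fun a b e =>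
      Subtype.ext (mul_left_cancel (mul_right_cancel
        (congrArg (fun r : Z => (r : G)) e)))
    obtain ⟨y, hy⟩ := (Finite.injective_iff_bijective.1 hf).2 ⟨x, hx⟩
    have hy' : g * (y : G) * g⁻¹ = x := congrArg (fun r : Z => (r : G)) hy
    rw [show g⁻¹ * x * g = (y : G) by rw [← hy']; group]
    exact y.2
  set Zy := Y ⊓ Subgroup.centralizer (Y : Set G) with hZy
  have hZmem : ∀ {x}, x ∈ Zy ↔ x ∈ Y ∧ ∀ y ∈ Y, Commute x y := fun {x} => by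
    rw [hZy, Subgroup.mem_inf, Subgroup.mem_centralizer_iff]
    exact ⟨fun h => ⟨h.1, fun y hy => (h.2 y hy).symm⟩, fun h => ⟨h.1, fun y hy => (h.2 y hy).eq.symm⟩⟩
  have hZgood : ∀ g, Good g → ∀ x ∈ Zy, g * x * g⁻¹ ∈ Zy := by
    intro g hg x hx
    obtain ⟨h1, h2⟩ := hZmem.1 hx
    refine hZmem.2 ⟨hYgood g hg x h1, fun y hy => ?_⟩
    have := (h2 _ (hback Y g (hYgood g hg) y hy)).conj g
    rwa [show g * (g⁻¹ * y * g) * g⁻¹ = y by group] at this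
  have hpart : ∀ Z : Subgroup G, (∀ g, Good g → ∀ x ∈ Z, g * x * g⁻¹ ∈ Z) → ∀ τ v, Good τ →
      τ * z * τ⁻¹ = v → Nat.card (cen Z v) = Nat.card (cen Z z) := by
    intro Z hZ τ v hg hv
    refine card_eq_of_conj τ fun y => ?_
    rw [mem_cen', mem_cen', ← hv, Commute.conj_iff]
    refine and_congr_left fun _ => ⟨fun h => ?_, hZ τ hg y⟩
    have := hback Z τ (hZ τ hg) _ h
    rwa [show τ⁻¹ * (τ * y * τ⁻¹) * τ = y by group] at this
  have hP0Y : P0 F ≤ Y := fun x hx => hGnY x (hP0Gn x hx)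
  have haZ : a' F ∈ Zy := hZmem.2 ⟨hP0Y (a_mem F), fun y hy => (hYa y hy).symm⟩
  have he'Z : E.e' ∈ Zy := hZmem.2 ⟨hYmem.2 ⟨odd_R C E.he'.1, E.he'a, Commute.refl _⟩,
    fun y hy => (hYmem.1 hy).2.2.symm⟩
  -- `e` is central in `Y`
  set e2 := τ2⁻¹ * E.e' * τ2 with he2
  have he2P : e2 ∈ P0 F := pull hτ2a hτ2z (odd_R C E.he'.1) E.he'a E.he'u
  have he2Z : e2 ∈ Zy := hback Zy τ2 (hZgood _ g2) _ he'Z
  have he2a : e2 ∉ Subgroup.zpowers (a' F) := by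
    intro h
    obtain ⟨m, hm⟩ := Subgroup.mem_zpowers_iff.1 h
    have h1 : τ2 * e2 * τ2⁻¹ = e2 := by rw [← hm]; exact comm_iff_conj.1 (hτ2a.zpow_right m)
    rw [show τ2 * e2 * τ2⁻¹ = E.e' by rw [he2]; group] at h1
    exact E.he'1 (inv_eq_one C E.he' (h1 ▸ P0_z F he2P))
  have heZ : E.e ∈ Zy := by
    set x := τ1 * e2 * τ1⁻¹ with hx
    have hxZ : x ∈ Zy := hZgood _ g1 _ he2Z
    obtain ⟨hxY, hxc⟩ := hZmem.1 hxZ
    have hxu : Commute x F.u := hτ1z ▸ (P0_z F he2P).conj τ1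
    obtain ⟨l, hl, p, hp, he⟩ := of_comm_P0 C hab (hYo _ hxY) (hxc _ (hP0Y (c1_mem F)))
      (hxc _ (hP0Y (c2_mem F))) (hxc _ (hP0Y (c3_mem F)))
    obtain ⟨k1, k2⟩ := split_unique C (u_conj_inv C hl.1) hl.1
      (P0_z F (P0_u_conj F hp)) (P0_z F hp) (by
        rw [show F.u * l * F.u⁻¹ * (F.u * p * F.u⁻¹) = F.u * (l * p) * F.u⁻¹ by group, ← he]
        exact comm_iff_conj.1 hxu.symm)
    have hpa := P0_u F hp (comm_iff_conj.2 k2).symm
    have hlZ : l ∈ Zy := by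
      rw [show l = x * p⁻¹ by rw [he, mul_inv_cancel_right]]
      exact Zy.mul_mem hxZ (Zy.inv_mem (Subgroup.zpowers_le.2 haZ hpa))
    have hl1 : l ≠ 1 := fun h => he2a (by
      rw [h, one_mul] at he
      obtain ⟨m, hm⟩ := Subgroup.mem_zpowers_iff.1 hpa
      rw [show e2 = τ1⁻¹ * x * τ1 by rw [hx]; group, he, ← hm,
        show τ1⁻¹ * a' F ^ m * τ1 = τ1⁻¹ * a' F ^ m * τ1⁻¹⁻¹ by group,
        comm_iff_conj.1 (hτ1a.inv_left.zpow_right m)]
      exact ⟨m, rfl⟩)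
    exact Subgroup.zpowers_le.2 hlZ
      (gen_mem (e_three C E S) (L_u C hab S E hl (comm_iff_conj.2 k1).symm) hl1)
  -- the inverted elements of `Y`
  have hzY : ∀ k ∈ Y, z * k * z ∈ Y := fun k hk => by
    have := hYgood _ gz k hk
    rwa [z_inv D] at this
  have hinvY : Nat.card (inverted Y z) = 81 := by
    have h := card_split Y (odd_card_of_odd hYo) z D.sq hzY
    rw [hcenz Y le_rfl hGnY, card_P0, hcY] at h
    omega
  have hc3 : F.c3 ∉ Zy := by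
    intro h
    obtain ⟨-, hc⟩ := hZmem.1 h
    let f : inverted Y z → {r // Inv C r} := fun x => ⟨x, mem_R_of_inv C (hYo _ x.2.1)
      (hc _ x.2.1).symm (by rw [z_inv D]; exact x.2.2)⟩
    have hf : Function.Injective f := fun x y e =>
      Subtype.ext (congrArg (fun r : {r // Inv C r} => (r : G)) e)
    have hb := hf.bijective_of_nat_card_le (by rw [card_inv, hinvY])
    refine (a_not_c (F := F)).1
      (C.faithful _ (az F) (F.comm13.mul_left F.comm23) fun r hr hz => ?_)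
    obtain ⟨x, hx⟩ := hb.2 ⟨r, hr, hz⟩
    have hx' : (x : G) = r := congrArg (fun r : {r // Inv C r} => (r : G)) hx
    exact hx' ▸ (hYa _ x.2.1).symm
  have hc1 : F.c1 ∉ Zy := by
    intro h
    obtain ⟨-, hc⟩ := hZmem.1 h
    obtain ⟨k, hkz, hkp⟩ := D.exists_lift
      (σ := swap (0 : Fin 9) 6 * swap 1 7 * swap 2 8 * swap 4 5) (by decide)
    have hk3 : k * F.c3 * k⁻¹ = F.c1 :=
      conj_eq D hkz F.c3z F.c1z F.c3_three F.c1_three hkp F.p3 F.p1 (by decide)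
    have hk3' : k⁻¹ * F.c1 * k = F.c3 := by rw [← hk3]; group
    let f : inverted Y z → {r // Inv C r} := fun x => ⟨k⁻¹ * x * k, by
      refine mem_R_of_inv C ?_ ?_ ?_
      · have := odd_conj k⁻¹ (hYo _ x.2.1)
        rwa [inv_inv] at this
      · have := (hc _ x.2.1).symm.conj k⁻¹
        rwa [inv_inv, hk3'] at this
      · rw [show z * (k⁻¹ * (x : G) * k) * z⁻¹ = (z * k⁻¹) * x * (z * k⁻¹)⁻¹ by group,
          ← hkz.inv_left.eq,
          show k⁻¹ * z * (x : G) * (k⁻¹ * z)⁻¹ = k⁻¹ * (z * x * z⁻¹) * k by group,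
          show z * (x : G) * z⁻¹ = (x : G)⁻¹ by rw [z_inv D]; exact x.2.2]
        group⟩
    have hf : Function.Injective f := fun x y e =>
      Subtype.ext (mul_left_cancel (mul_right_cancel
        (congrArg (fun r : {r // Inv C r} => (r : G)) e)))
    have hb := hf.bijective_of_nat_card_le (by rw [card_inv, hinvY])
    have hmem : k⁻¹ * a' F * k ∈ Subgroup.zpowers F.c3 := by
      refine C.faithful _ ((hkz.inv_left.mul_left (az F)).mul_left hkz) ?_ fun r hr hz => ?_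
      · have := (F.comm12.symm).conj k⁻¹
        have h' := ((Commute.refl F.c1).mul_left F.comm12.symm).conj k⁻¹
        rwa [inv_inv, hk3'] at h'
      · obtain ⟨x, hx⟩ := hb.2 ⟨r, hr, hz⟩
        have hx' : k⁻¹ * (x : G) * k = r := congrArg (fun r : {r // Inv C r} => (r : G)) hx
        have := (hYa _ x.2.1).symm.conj k⁻¹
        rwa [inv_inv, hx'] at this
    refine (a_not_c (F := F)).2 ?_
    obtain ⟨m, hm⟩ := Subgroup.mem_zpowers_iff.1 hmem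
    refine Subgroup.mem_zpowers_iff.2 ⟨m, ?_⟩
    rw [← hk3, conj_zpow, hm]; group
  -- the centre has order 81
  have hZY : Zy ≤ Y := inf_le_left
  have hZu := hpart Zy hZgood τ1 _ g1 hτ1z
  have hZuz := hpart Zy hZgood τ2 _ g2 hτ2z
  have hZz : Nat.card (cen Zy z) = 9 := by
    have hle : cen Zy z ≤ P0 F := fun x hx => hcenz Y le_rfl hGnY ▸
      mem_cen'.2 ⟨hZY (mem_cen'.1 hx).1, (mem_cen'.1 hx).2⟩
    obtain ⟨j, hj, hc⟩ := (Nat.dvd_prime_pow Nat.prime_three).1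
      (show Nat.card (cen Zy z) ∣ 3 ^ 3 by
        have h := Subgroup.card_dvd_of_le hle
        rw [card_P0] at h
        exact h)
    have ha' : Subgroup.zpowers (a' F) ≤ cen Zy z :=
      Subgroup.zpowers_le.2 (mem_cen'.2 ⟨haZ, az F⟩)
    rcases (by omega : j ≤ 1 ∨ j = 2 ∨ j = 3) with h | h | h
    · exfalso
      have he := Subgroup.eq_of_le_of_card_ge ha' (by
        rw [Nat.card_zpowers, orderOf_a, hc]
        exact (Nat.pow_le_pow_right (by norm_num) h).trans (by norm_num))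
      exact he2a (he ▸ mem_cen'.2 ⟨he2Z, P0_z F he2P⟩)
    · rw [hc, h]; norm_num
    · exfalso
      have he := Subgroup.eq_of_le_of_card_ge hle (by rw [hc, h, card_P0]; norm_num)
      exact hc3 (mem_cen'.1 (show F.c3 ∈ cen Zy z from he ▸ c3_mem F)).1
  have hcZ : Nat.card Zy = 81 := by
    have h := hformula Zy hZY haZ (hZgood _ gu) (hZgood _ gz)
    rw [hZz, hZu, hZuz, hZz] at h
    omega
  -- `c3` modulo the centre
  obtain ⟨w, hz0⟩ : ∃ w : ℕ, q F (2 * w) w 1 ∈ Zy := by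
    obtain ⟨i, j, k, hijk⟩ := exists_fin F he2P
    have hx : q F ((i.val + 2 * j.val) % 3) 0 k.val ∈ Zy := by
      have h := Zy.mul_mem (hijk ▸ he2Z) (Zy.pow_mem haZ (2 * j.val))
      rw [a_eq_q, q_pow, q_mul, q_mod, show (k.val + 2 * j.val * 0) % 3 = k.val by omega,
        show (j.val + 2 * j.val * 1) % 3 = 0 by omega, mul_one] at h
      exact h
    have hne : ¬ ((i.val + 2 * j.val) % 3 = 0 ∧ k.val = 0) := by
      rintro ⟨h1, h2⟩
      refine he2a ⟨(i.val : ℤ), ?_⟩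
      show a' F ^ (i.val : ℤ) = e2
      rw [zpow_natCast, hijk, a_eq_q, q_pow, h2, show j.val = i.val by omega]
      simp
    rcases (by omega : k.val = 0 ∨ k.val = 1 ∨ k.val = 2) with h | h | h <;> rw [h] at hx
    · exfalso
      rcases (by omega : (i.val + 2 * j.val) % 3 = 1 ∨ (i.val + 2 * j.val) % 3 = 2) with e | e <;>
        rw [e] at hx
      · exact hc1 ((c1_eq_q F).symm ▸ hx)
      · have h2 := Zy.mul_mem hx hx
        rw [q_mul, q_mod] at h2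
        exact hc1 ((c1_eq_q F).symm ▸ h2)
    · refine ⟨(i.val + 2 * j.val) % 3, ?_⟩
      have h1 := Zy.mul_mem hx (Zy.pow_mem haZ ((i.val + 2 * j.val) % 3))
      rw [a_eq_q, q_pow, q_mul, mul_one, mul_zero, zero_add, add_zero, ← two_mul] at h1
      exact h1
    · refine ⟨2 * ((i.val + 2 * j.val) % 3), ?_⟩
      have h1 := Zy.mul_mem (Zy.mul_mem hx hx)
        (Zy.pow_mem haZ (2 * ((i.val + 2 * j.val) % 3)))
      rw [a_eq_q, q_pow, q_mul, q_mul, q_mod] at h1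
      rw [q_mod]
      simpa [two_mul] using h1
  -- `Y` has class 2
  let Z2 : Subgroup G :=
    { carrier := {y | y ∈ Y ∧ ∀ x ∈ Y, y * x * y⁻¹ * x⁻¹ ∈ Zy}
      one_mem' := ⟨Y.one_mem, fun x _ => by simp⟩
      mul_mem' := fun {y y'} hy hy' => ⟨Y.mul_mem hy.1 hy'.1, fun x hx => by
        have h1 := hy'.2 x hx
        rw [show y * y' * x * (y * y')⁻¹ * x⁻¹ =
          (y * (y' * x * y'⁻¹ * x⁻¹) * y⁻¹) * (y * x * y⁻¹ * x⁻¹) by group,
          comm_iff_conj.1 ((hZmem.1 h1).2 y hy.1).symm]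
        exact Zy.mul_mem h1 (hy.2 x hx)⟩
      inv_mem' := fun {y} hy => ⟨Y.inv_mem hy.1, fun x hx => by
        have h1 := Zy.inv_mem (hy.2 x hx)
        rw [show y⁻¹ * x * y⁻¹⁻¹ * x⁻¹ = y⁻¹ * (y * x * y⁻¹ * x⁻¹)⁻¹ * y⁻¹⁻¹ by group,
          comm_iff_conj.1 ((hZmem.1 h1).2 y⁻¹ (Y.inv_mem hy.1)).symm]
        exact h1⟩ }
  have hZ2Y : Z2 ≤ Y := fun y hy => hy.1
  have hZyZ2 : Zy ≤ Z2 := fun y hy => ⟨hZY hy, fun x hx => by
    rw [comm_iff_conj.1 ((hZmem.1 hy).2 x hx), mul_inv_cancel]; exact Zy.one_mem⟩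
  have hZ2good : ∀ g, Good g → ∀ x ∈ Z2, g * x * g⁻¹ ∈ Z2 := fun g hg y hy =>
    ⟨hYgood g hg y hy.1, fun x hx => by
      have h1 := hZgood g hg _ (hy.2 _ (hback Y g (hYgood g hg) x hx))
      rwa [show g * (y * (g⁻¹ * x * g) * y⁻¹ * (g⁻¹ * x * g)⁻¹) * g⁻¹ =
        g * y * g⁻¹ * x * (g * y * g⁻¹)⁻¹ * x⁻¹ by group] at h1⟩
  have hclass : ∀ y ∈ Y, ∀ x ∈ Y, y * x * y⁻¹ * x⁻¹ ∈ Zy := by
    have hYp : IsPGroup 3 Y := IsPGroup.of_card (n := 7) (by rw [hcY]; norm_num)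
    set N := Zy.subgroupOf Y with hN
    haveI : N.Normal := ⟨fun n hn g => by
      have h : Commute (g : G) (n : G) := ((hZmem.1 hn).2 g g.2).symm
      show (g : G) * (n : G) * (g : G)⁻¹ ∈ Zy
      rw [comm_iff_conj.1 h]
      exact hn⟩
    have hNc : Nat.card N = 81 := by
      rw [hN, Nat.card_congr (Subgroup.subgroupOfEquivOfLe hZY).toEquiv, hcZ]
    haveI : Nontrivial (Y ⧸ N) := by
      rw [← Finite.one_lt_card_iff_nontrivial]
      have h := Subgroup.card_eq_card_quotient_mul_card_subgroup N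
      rw [hcY, hNc] at h
      omega
    haveI := (hYp.to_quotient N).center_nontrivial
    obtain ⟨c, hc⟩ := exists_ne (1 : Subgroup.center (Y ⧸ N))
    obtain ⟨y0, hy0⟩ := QuotientGroup.mk_surjective (c : Y ⧸ N)
    have hy0Z : (y0 : G) ∉ Zy := fun h => hc (Subtype.ext (by
      rw [← hy0]; exact (QuotientGroup.eq_one_iff y0).2 h))
    have hy2 : (y0 : G) ∈ Z2 := ⟨y0.2, fun x hx => by
      have h := Subgroup.mem_center_iff.1 c.2 (QuotientGroup.mk (⟨x, hx⟩ : Y))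
      have h' : (QuotientGroup.mk (y0 * ⟨x, hx⟩ * y0⁻¹ * (⟨x, hx⟩ : Y)⁻¹) : Y ⧸ N) = 1 := by
        rw [QuotientGroup.mk_mul, QuotientGroup.mk_mul, QuotientGroup.mk_mul,
          QuotientGroup.mk_inv, QuotientGroup.mk_inv, hy0, ← h]
        group
      have h'' : y0 * ⟨x, hx⟩ * y0⁻¹ * (⟨x, hx⟩ : Y)⁻¹ ∈ N := (QuotientGroup.eq_one_iff _).1 h'
      exact h''⟩
    have hgt : 81 < Nat.card Z2 := by
      rw [← hcZ]
      refine lt_of_le_of_ne (Subgroup.card_le_of_le hZyZ2) fun e => hy0Z ?_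
      exact (Subgroup.eq_of_le_of_card_ge hZyZ2 e.symm.le).symm ▸ hy2
    have haZ2 := hZyZ2 haZ
    have h := hformula Z2 hZ2Y haZ2 (hZ2good _ gu) (hZ2good _ gz)
    rw [hpart Z2 hZ2good τ1 _ g1 hτ1z, hpart Z2 hZ2good τ2 _ g2 hτ2z] at h
    obtain ⟨j, hj, hjc⟩ := (Nat.dvd_prime_pow Nat.prime_three).1
      (show Nat.card (cen Z2 z) ∣ 3 ^ 3 by
        have hle : cen Z2 z ≤ cen Y z := fun x hx =>
          mem_cen'.2 ⟨hZ2Y (mem_cen'.1 hx).1, (mem_cen'.1 hx).2⟩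
        have h := Subgroup.card_dvd_of_le hle
        rw [hcenz Y le_rfl hGnY, card_P0] at h
        exact h)
    rw [hjc] at h
    have hj3 : j = 3 := by
      by_contra hne
      have hle : 3 ^ j ≤ 9 := (Nat.pow_le_pow_right (by norm_num) (by omega : j ≤ 2)).trans
        (by norm_num)
      have := Nat.mul_le_mul (Nat.mul_le_mul hle hle) hle
      omega
    rw [hj3] at h
    have hZ2e : Z2 = Y := Subgroup.eq_of_le_of_card_ge hZ2Y (by rw [hcY]; omega)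
    exact fun y hy => (show y ∈ Z2 from hZ2e.symm ▸ hy).2
  -- shifts
  have huz27 := hcenv Y le_rfl hGnY τ2 _ hτ2a hτ2z (Or.inr rfl)
  obtain ⟨n1, hn1, x1, hx1, hx1ne, hn1g⟩ := shift C hab S E Y Zy hYa hYo hP0Y hzY
    (hcenv Y le_rfl hGnY τ1 _ hτ1a hτ1z (Or.inl rfl)) (fun x hx => hZmem.1 hx) hclass hz0
  obtain ⟨n2, hn2, x2, hx2, hx2ne, hn2g⟩ : ∃ n ∈ Y, ∃ x ∈ Subgroup.zpowers E.e, x ≠ 1 ∧
      n * q F 1 2 0 * n⁻¹ = q F 1 2 0 * x :=
    shift (flipC C) hab S E.flip Y Zy hYa hYo hP0Y hzY huz27 (fun x hx => hZmem.1 hx) hclass hz0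
  set g := q F 1 2 0 with hg
  let M : Subgroup G :=
    { carrier := {y | y ∈ Zy ∧ ∃ n ∈ Y, n * g * n⁻¹ = g * y}
      one_mem' := ⟨Zy.one_mem, 1, Y.one_mem, by group⟩
      mul_mem' := by
        rintro y y' ⟨hy, n, hn, h⟩ ⟨hy', n', hn', h'⟩
        refine ⟨Zy.mul_mem hy hy', n * n', Y.mul_mem hn hn', ?_⟩
        rw [show n * n' * g * (n * n')⁻¹ = n * (n' * g * n'⁻¹) * n⁻¹ by group, h',
          show n * (g * y') * n⁻¹ = (n * g * n⁻¹) * (n * y' * n⁻¹) by group, h,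
          comm_iff_conj.1 ((hZmem.1 hy').2 n hn).symm, mul_assoc]
      inv_mem' := by
        rintro y ⟨hy, n, hn, h⟩
        refine ⟨Zy.inv_mem hy, n⁻¹, Y.inv_mem hn, ?_⟩
        calc n⁻¹ * g * n⁻¹⁻¹ = n⁻¹ * (g * y) * n * (n⁻¹ * y⁻¹ * n) := by group
          _ = g * y⁻¹ := by
            rw [← h, show n⁻¹ * y⁻¹ * n = n⁻¹ * y⁻¹ * n⁻¹⁻¹ by group,
              comm_iff_conj.1 ((hZmem.1 (Zy.inv_mem hy)).2 n⁻¹ (Y.inv_mem hn)).symm]
            group }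
  have he3 := e_three C E S
  have he'3 : E.e' ^ 3 = 1 := e_three (flipC C) E.flip S
  have heM : E.e ∈ M := Subgroup.zpowers_le.2
    (show x2 ∈ M from ⟨Subgroup.zpowers_le.2 heZ hx2, n2, hn2, hn2g⟩) (gen_mem he3 hx2 hx2ne)
  have he'M : E.e' ∈ M := Subgroup.zpowers_le.2
    (show x1 ∈ M from ⟨Subgroup.zpowers_le.2 he'Z hx1, n1, hn1, hn1g⟩) (gen_mem he'3 hx1 hx1ne)
  have hLM := L_le C hab S E heM he'M
  have hshift : ∀ y ∈ Lsub C hab, y ^ 3 = 1 → ∃ n, n * F.c1 * n⁻¹ = F.c1 * y ^ 2 ∧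
      n * F.c2 * n⁻¹ = F.c2 * y ∧ n * F.c3 * n⁻¹ = F.c3 * y ^ w ∧
      (∀ r ∈ Zy, Commute n r) := by
    intro y hy hy3
    obtain ⟨hyZ, n, hn, hng⟩ := hLM hy
    have hyg : Commute g y := ((hZmem.1 hyZ).2 _ (hP0Y (q_mem F _ _ _))).symm
    have hna : n * a' F * n⁻¹ = a' F := comm_iff_conj.1 (hYa n hn)
    have hnz : ∀ r ∈ Zy, Commute n r := fun r hr => ((hZmem.1 hr).2 n hn).symm
    have e1 : F.c1 = a' F ^ 2 * g ^ 2 := by
      rw [a_eq_q, hg, q_pow, q_pow, q_mul, c1_eq_q, q_mod]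
      conv_rhs => rw [q_mod]
    have e2' : F.c2 = a' F ^ 2 * g := by
      rw [a_eq_q, hg, q_pow, q_mul, c2_eq_q, q_mod]
      conv_rhs => rw [q_mod]
    have e3 : F.c3 = g ^ w * q F (2 * w) w 1 := by
      rw [hg, q_pow, q_mul, c3_eq_q, q_mod F 0]
      conv_rhs => rw [q_mod]
      congr 1 <;> omega
    refine ⟨n, ?_, ?_, ?_, hnz⟩
    · rw [e1, show n * (a' F ^ 2 * g ^ 2) * n⁻¹ = (n * a' F * n⁻¹) ^ 2 * (n * g * n⁻¹) ^ 2 by
        rw [conj_pow, conj_pow]; group, hna, hng, hyg.mul_pow, mul_assoc]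
    · rw [e2', show n * (a' F ^ 2 * g) * n⁻¹ = (n * a' F * n⁻¹) ^ 2 * (n * g * n⁻¹) by
        rw [conj_pow]; group, hna, hng, ← mul_assoc (a' F ^ 2)]
    · rw [e3, show n * (g ^ w * q F (2 * w) w 1) * n⁻¹ =
        (n * g * n⁻¹) ^ w * (n * q F (2 * w) w 1 * n⁻¹) by rw [conj_pow]; group,
        hng, hyg.mul_pow, comm_iff_conj.1 (hnz _ hz0), mul_assoc, mul_assoc,
        (((hZmem.1 hz0).2 y (hZY hyZ)).pow_right w).eq]
  obtain ⟨k, hkz, hkp⟩ := D.exists_lift (σ := swap (4 : Fin 9) 5 * swap 6 7) (by decide)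
  have hk1 : k * F.c1 * k⁻¹ = F.c1 :=
    conj_eq D hkz F.c1z F.c1z F.c1_three F.c1_three hkp F.p1 F.p1 (by decide)
  have hk2 : k * F.c2 * k⁻¹ = F.c2⁻¹ := conj_eq D hkz F.c2z F.c2z.inv_left F.c2_three
    (by rw [inv_pow, F.c2_three, inv_one]) hkp F.p2 (by rw [D.p_inv F.c2z, F.p2]) (by decide)
  have hk3 : k * F.c3 * k⁻¹ = F.c3⁻¹ := conj_eq D hkz F.c3z F.c3z.inv_left F.c3_three
    (by rw [inv_pow, F.c3_three, inv_one]) hkp F.p3 (by rw [D.p_inv F.c3z, F.p3]) (by decide)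
  have hk1' : k⁻¹ * F.c1 * k = F.c1 := by
    conv_lhs => rw [← hk1]
    group
  have hk2' : k⁻¹ * F.c2 * k = F.c2⁻¹ := by
    rw [show k⁻¹ * F.c2 * k = (k⁻¹ * F.c2⁻¹ * k)⁻¹ by group]
    congr 1
    conv_lhs => rw [← hk2]
    group
  have hk3' : k⁻¹ * F.c3 * k = F.c3⁻¹ := by
    rw [show k⁻¹ * F.c3 * k = (k⁻¹ * F.c3⁻¹ * k)⁻¹ by group]
    congr 1
    conv_lhs => rw [← hk3]
    group
  have heL : E.e ∈ Lsub C hab := ⟨E.he, E.hea⟩
  have hy' : k⁻¹ * E.e * k ∈ Lsub C hab := by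
    have h := L_conj C hab hkz.inv_left (k := k⁻¹) (x := E.e) (Or.inr (by rw [inv_inv]; exact hk3'))
      (by
        rw [inv_inv, show k * a' F * k⁻¹ = (k * F.c1 * k⁻¹) * (k * F.c2 * k⁻¹) by group, hk1, hk2]
        exact (P0 F).mul_mem (c1_mem F) ((P0 F).inv_mem (c2_mem F))) heL
    rwa [inv_inv] at h
  obtain ⟨n, hnc1, hnc2, hnc3, hnZ⟩ := hshift _ heL he3
  obtain ⟨m, hmc1, hmc2, hmc3, -⟩ := hshift _ hy' (by
    rw [show k⁻¹ * E.e * k = k⁻¹ * E.e * k⁻¹⁻¹ by group, conj_pow, he3]; group)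
  set y := E.e with hy
  set N := n * (k * m * k⁻¹) with hN
  have hyc := fun {c : G} (hc : c ∈ P0 F) => L_comm_P0 C hab heL hc
  have hny : n * y * n⁻¹ = y := comm_iff_conj.1 (hnZ _ heZ)
  have hN2 : Commute N F.c2 := by
    refine comm_iff_conj.2 ?_
    calc N * F.c2 * N⁻¹ = n * (k * (m * (k⁻¹ * F.c2 * k) * m⁻¹) * k⁻¹) * n⁻¹ := by rw [hN]; group
      _ = n * (k * (F.c2 * (k⁻¹ * y * k))⁻¹ * k⁻¹) * n⁻¹ := by
        rw [hk2', show m * F.c2⁻¹ * m⁻¹ = (m * F.c2 * m⁻¹)⁻¹ by group, hmc2]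
      _ = n * (y⁻¹ * (k * F.c2 * k⁻¹)⁻¹) * n⁻¹ := by group
      _ = (n * y * n⁻¹)⁻¹ * (n * F.c2 * n⁻¹) := by rw [hk2]; group
      _ = F.c2 := by rw [hny, hnc2, ← (hyc (c2_mem F)).eq, inv_mul_cancel_left]
  have hN3 : Commute N F.c3 := by
    refine comm_iff_conj.2 ?_
    calc N * F.c3 * N⁻¹ = n * (k * (m * (k⁻¹ * F.c3 * k) * m⁻¹) * k⁻¹) * n⁻¹ := by rw [hN]; group
      _ = n * (k * (F.c3 * (k⁻¹ * y * k) ^ w)⁻¹ * k⁻¹) * n⁻¹ := by
        rw [hk3', show m * F.c3⁻¹ * m⁻¹ = (m * F.c3 * m⁻¹)⁻¹ by group, hmc3]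
      _ = n * ((y ^ w)⁻¹ * (k * F.c3 * k⁻¹)⁻¹) * n⁻¹ := by
        rw [show (k⁻¹ * y * k) ^ w = k⁻¹ * y ^ w * k by
          rw [show k⁻¹ * y * k = k⁻¹ * y * k⁻¹⁻¹ by group, conj_pow, inv_inv]]
        group
      _ = ((n * y * n⁻¹) ^ w)⁻¹ * (n * F.c3 * n⁻¹) := by rw [hk3, conj_pow]; group
      _ = F.c3 := by
        rw [hny, hnc3, ← ((hyc (c3_mem F)).pow_left w).eq, inv_mul_cancel_left]
  have hN1 := comm_iff_conj.1 (comm_c1_of C hab hN2 hN3)
  have hcalc : N * F.c1 * N⁻¹ = F.c1 * (y ^ 2 * y ^ 2) := by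
    calc N * F.c1 * N⁻¹ = n * (k * (m * (k⁻¹ * F.c1 * k) * m⁻¹) * k⁻¹) * n⁻¹ := by rw [hN]; group
      _ = n * (k * (F.c1 * (k⁻¹ * y * k) ^ 2) * k⁻¹) * n⁻¹ := by rw [hk1', hmc1]
      _ = n * ((k * F.c1 * k⁻¹) * y ^ 2) * n⁻¹ := by
        rw [show (k⁻¹ * y * k) ^ 2 = k⁻¹ * y ^ 2 * k by rw [pow_two, pow_two]; group]
        group
      _ = (n * F.c1 * n⁻¹) * (n * y * n⁻¹) ^ 2 := by rw [hk1, conj_pow]; group
      _ = F.c1 * (y ^ 2 * y ^ 2) := by rw [hny, hnc1, mul_assoc]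
  rw [hN1, ← pow_add, show 2 + 2 = 3 + 1 from rfl, pow_succ, he3, one_mul] at hcalc
  exact E.he1 (mul_eq_left.1 hcalc.symm)

omit hab S

/-- In degree 9 the core of the centraliser of the lift of a 3-cycle cannot exceed the 3-cycle. -/
theorem core_false {G : Type u} [Group G] [Finite G] {z : G} {D : DC z 9} (S : Small D)
    (F : Frame D) (C : Core D F) : False := by
  have hab := Cfsg.Agent.DoubleCoverCoreNonab91.core_comm C S
  obtain ⟨E⟩ := exists_pair C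
  rcases part_full C hab S E with h | h
  · exact final C hab S E h
  · exact final (flipC C) hab S E.flip h

end Cfsg.Agent.DoubleCoverCore91
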