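import Cfsg.Agent.Lib.DoubleCoverLifts91
import Cfsg.Agent.Lib.FourFormula30

/-!
# The core of the centraliser of the lift of a 3-cycle in degree 9: basic facts
-/

set_option autoImplicit false
set_option maxRecDepth 10000

namespace Cfsg.Agent.DoubleCoverCoreBase91

open Equiv Equiv.Perm
open Cfsg.Agent.DoubleCover90
open Cfsg.Agent.DoubleCoverPerm91
open Cfsg.Agent.DoubleCoverLifts91
open Cfsg.Agent.FourFormula30 (cen mem_cen inverted)

universe u

variable {G : Type u} [Group G] {z : G}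

theorem z_inv (D : DC z 9) : z⁻¹ = z := inv_eq_of_mul_eq_one_right D.sq

theorem conj_conj_z (D : DC z 9) (x : G) : z * (z * x * z⁻¹) * z⁻¹ = x := by
  calc z * (z * x * z⁻¹) * z⁻¹ = (z * z) * x * (z * z)⁻¹ := by group
    _ = x := by rw [D.sq]; group

theorem inv_of_mem_zpowers {c w v : G} (h : v * c * v⁻¹ = c⁻¹) (hw : w ∈ Subgroup.zpowers c) :
    v * w * v⁻¹ = w⁻¹ := by
  obtain ⟨m, rfl⟩ := Subgroup.mem_zpowers_iff.1 hw
  rw [← conj_zpow, h, inv_zpow]

theorem mem_centralizer_inf {x a b : G} :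
    x ∈ Subgroup.centralizer ({a} : Set G) ⊓ Subgroup.centralizer ({b} : Set G) ↔
      Commute x a ∧ Commute x b := by
  rw [Subgroup.mem_inf, Subgroup.mem_centralizer_singleton_iff,
    Subgroup.mem_centralizer_singleton_iff]
  rfl

theorem mem_cen' {K : Subgroup G} {u k : G} : k ∈ cen K u ↔ k ∈ K ∧ Commute k u := mem_cen

variable {D : DC z 9} {F : Frame D}

/-- Elements of the core inverted by `z`. -/
def Inv (C : Core D F) (r : G) : Prop := r ∈ C.R ∧ z * r * z⁻¹ = r⁻¹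

variable (C : Core D F)

/-- The joint centraliser of `z` and `c3`. -/
abbrev KK (_ : Core D F) : Subgroup G :=
  Subgroup.centralizer ({z} : Set G) ⊓ Subgroup.centralizer ({F.c3} : Set G)

/-- The core of the flipped frame. -/
def flipC : Core D (flip F) where
  R := C.R
  cent := C.cent
  c3_mem := C.c3_mem
  normal := C.normal
  card_R := C.card_R
  comm_R := C.comm_R
  fix := C.fix
  commz := C.commz
  decomp := C.decomp
  card_cent := C.card_cent
  card_u := C.card_uz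
  card_uz := by
    show Nat.card (C.R ⊓ Subgroup.centralizer ({F.u * z * z} : Set G) : Subgroup G) = 9
    rw [mul_assoc, D.sq, mul_one]
    exact C.card_u
  faithful := C.faithful
  trans := C.trans
  dtype := C.dtype

theorem inv_one' : Inv C 1 := ⟨C.R.one_mem, by simp⟩

theorem inv_inv' {r : G} (h : Inv C r) : Inv C r⁻¹ :=
  ⟨C.R.inv_mem h.1, by rw [show z * r⁻¹ * z⁻¹ = (z * r * z⁻¹)⁻¹ by group, h.2]⟩

theorem inv_comm_c {r : G} (h : Inv C r) : Commute r F.c3 := C.cent r h.1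

theorem norm_R {y : G} (hy : Commute y F.c3) {r : G} (hr : r ∈ C.R) : y * r * y⁻¹ ∈ C.R :=
  C.normal y (Or.inl (comm_iff_conj.1 hy)) r hr

theorem inv_conj {k r : G} (hk : Commute k z)
    (hc : k * F.c3 * k⁻¹ = F.c3 ∨ k * F.c3 * k⁻¹ = F.c3⁻¹) (h : Inv C r) :
    Inv C (k * r * k⁻¹) := by
  refine ⟨C.normal k hc r h.1, ?_⟩
  rw [show z * (k * r * k⁻¹) * z⁻¹ = (z * k) * r * (z * k)⁻¹ by group, ← hk.eq,
    show k * z * r * (k * z)⁻¹ = k * (z * r * z⁻¹) * k⁻¹ by group, h.2]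
  group

variable [Finite G]

theorem odd_R {r : G} (hr : r ∈ C.R) : Odd (orderOf r) :=
  odd_of_mem (by rw [C.card_R]; decide) hr

theorem odd_card_R : Odd (Nat.card C.R) := by rw [C.card_R]; decide

theorem inverted_eq : inverted C.R z = {r | Inv C r} := by
  ext r
  simp only [inverted, Inv, Set.mem_setOf_eq]
  rw [z_inv D]

theorem cen_R_z : cen C.R z = Subgroup.zpowers F.c3 := by
  refine le_antisymm (fun r hr => ?_) (Subgroup.zpowers_le.2 (mem_cen.2 ⟨C.c3_mem, F.c3z.eq⟩))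
  exact C.fix r (mem_cen'.1 hr).1 (mem_cen'.1 hr).2

theorem orderOf_c3 : orderOf F.c3 = 3 := by
  haveI : Fact (Nat.Prime 3) := ⟨Nat.prime_three⟩
  exact orderOf_eq_prime F.c3_three (c_ne F).2.2

theorem card_inv : Nat.card {r // Inv C r} = 81 := by
  have h := Cfsg.Agent.FourFormula30.card_split C.R (odd_card_R C) z D.sq fun k hk => by
    have := norm_R C F.c3z.symm hk
    rwa [z_inv D] at this
  rw [C.card_R, cen_R_z, Nat.card_zpowers, orderOf_c3] at h
  have h2 : Nat.card (inverted C.R z) = Nat.card {r // Inv C r} := by rw [inverted_eq]; rfl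
  omega

/-- An inverted element of `R` commuting with `z` is trivial. -/
theorem inv_eq_one {r : G} (h : Inv C r) (hz : Commute r z) : r = 1 := by
  refine eq_one_of_sq (odd_R C h.1) ?_
  have e := h.2
  rw [comm_iff_conj.1 hz.symm] at e
  conv_lhs => arg 1; rw [e]
  exact inv_mul_cancel r

theorem split_unique {i i' k k' : G} (hi : Inv C i) (hi' : Inv C i') (hk : Commute k z)
    (hk' : Commute k' z) (e : i * k = i' * k') : i = i' ∧ k = k' := by
  set w := i'⁻¹ * i with hw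
  have hwk : w = k' * k⁻¹ := by
    rw [hw, show i = i' * k' * k⁻¹ by rw [← e, mul_inv_cancel_right]]; group
  have hwR : w ∈ C.R := C.R.mul_mem (C.R.inv_mem hi'.1) hi.1
  have hwz : Commute w z := hwk ▸ hk'.mul_left hk.inv_left
  have hwc := C.fix w hwR hwz
  have hiw : Commute i' w := by
    obtain ⟨m, hm⟩ := Subgroup.mem_zpowers_iff.1 hwc
    rw [← hm]; exact (inv_comm_c C hi').zpow_right m
  have hii : i = i' * w := by rw [hw]; group
  have h1 := hi.2
  rw [hii, show z * (i' * w) * z⁻¹ = (z * i' * z⁻¹) * (z * w * z⁻¹) by group, hi'.2,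
    comm_iff_conj.1 hwz.symm, mul_inv_rev, ← hiw.inv_left.inv_right.eq] at h1
  have h2 := mul_left_cancel h1
  have hw1 : w = 1 := eq_one_of_sq (odd_R C hwR) (by
    conv_lhs => arg 1; rw [h2]
    exact inv_mul_cancel w)
  rw [hw1, mul_one] at hii
  exact ⟨hii, mul_left_cancel (by rwa [hii] at e)⟩

theorem exists_split {r : G} (hr : r ∈ C.R) :
    ∃ i, Inv C i ∧ ∃ m : Fin 3, r = i * F.c3 ^ m.val := by
  classical
  have hmem : ∀ p : {r // Inv C r} × Fin 3, (p.1 : G) * F.c3 ^ p.2.val ∈ C.R :=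
    fun p => C.R.mul_mem p.1.2.1 (C.R.pow_mem C.c3_mem _)
  let f : {r // Inv C r} × Fin 3 → C.R := fun p => ⟨_, hmem p⟩
  have hinj : Function.Injective f := by
    rintro ⟨i, m⟩ ⟨i', m'⟩ h
    obtain ⟨e1, e2⟩ := split_unique C i.2 i'.2 (F.c3z.pow_left _) (F.c3z.pow_left _)
      (congrArg Subtype.val h)
    have e3 := pow_inj_mod.1 e2
    rw [orderOf_c3 (F := F), Nat.mod_eq_of_lt m.2, Nat.mod_eq_of_lt m'.2] at e3
    exact Prod.ext (Subtype.ext e1) (Fin.ext e3)
  have hb := (Function.Injective.bijective_of_nat_card_le hinj (by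
    rw [C.card_R, Nat.card_prod, card_inv, Nat.card_fin]))
  obtain ⟨⟨i, m⟩, h⟩ := hb.2 ⟨r, hr⟩
  exact ⟨i, i.2, m, (congrArg Subtype.val h).symm⟩

theorem exists_ik {y : G} (hy : Commute y F.c3) :
    ∃ i k, Inv C i ∧ Commute k z ∧ Commute k F.c3 ∧ y = i * k := by
  obtain ⟨r, hr, hry⟩ := C.decomp y hy
  obtain ⟨i, hi, m, hm⟩ := exists_split C (C.R.inv_mem hr)
  refine ⟨i, F.c3 ^ m.val * (r * y), hi, (F.c3z.pow_left _).mul_left hry,
    ((Commute.refl _).pow_left _).mul_left ((C.cent r hr).mul_left hy), ?_⟩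
  rw [← mul_assoc, ← hm, inv_mul_cancel_left]

/-- An element of odd order inverted by `z` and commuting with `c3` lies in `R`. -/
theorem mem_R_of_inv {y : G} (ho : Odd (orderOf y)) (hc : Commute y F.c3)
    (hz : z * y * z⁻¹ = y⁻¹) : Inv C y := by
  refine ⟨mem_of_sq ho ?_, hz⟩
  have h := C.commz y hc
  rw [hz] at h
  simpa using C.R.inv_mem h

theorem card_inv_ne : Nat.card {r // Inv C r ∧ r ≠ 1} = 80 := by
  have h1 := card_inv C
  rw [show Nat.card {r // Inv C r} = Set.ncard {r | Inv C r} from rfl] at h1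
  have h2 := Set.ncard_diff_singleton_of_mem (s := {r | Inv C r}) (inv_one' C)
  rw [h1] at h2
  exact h2

/-- The stabiliser of an inverted element has order 27. -/
theorem card_St {x : G} (hx : Inv C x) (hx1 : x ≠ 1) :
    Nat.card (KK C ⊓ Subgroup.centralizer ({x} : Set G) : Subgroup G) = 27 := by
  classical
  set St := KK C ⊓ Subgroup.centralizer ({x} : Set G) with hSt
  have hle : St ≤ KK C := inf_le_left
  set N := St.subgroupOf (KK C) with hN
  have hmem : ∀ k : KK C, k ∈ N ↔ Commute (k : G) x := fun k => by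
    rw [hN, Subgroup.mem_subgroupOf, hSt, Subgroup.mem_inf, Subgroup.mem_centralizer_singleton_iff]
    exact ⟨fun h => h.2, fun h => ⟨k.2, h.eq⟩⟩
  let f : (KK C) ⧸ N → {r // Inv C r ∧ r ≠ 1} := fun q => ⟨q.out * x * (q.out : G)⁻¹, by
    obtain ⟨hz, hc⟩ := mem_centralizer_inf.1 q.out.2
    exact ⟨inv_conj C hz (Or.inl (comm_iff_conj.1 hc)) hx, fun e => hx1 (conj_eq_one_iff.1 e)⟩⟩
  have hb : Function.Bijective f := by
    constructor
    · intro q q' h
      rw [← QuotientGroup.out_eq' q, ← QuotientGroup.out_eq' q', QuotientGroup.eq, hmem]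
      have h' : (q.out : G) * x * (q.out : G)⁻¹ = q'.out * x * (q'.out : G)⁻¹ :=
        congrArg Subtype.val h
      refine comm_iff_conj.2 ?_
      show (q.out : G)⁻¹ * q'.out * x * ((q.out : G)⁻¹ * q'.out)⁻¹ = x
      calc _ = (q.out : G)⁻¹ * (q'.out * x * (q'.out : G)⁻¹) * q.out := by group
        _ = x := by rw [← h']; group
    · rintro ⟨y, hy, hy1⟩
      obtain ⟨k, hkz, hkc, hk⟩ := C.trans x hx.1 y hy.1 hx1 hy1 hx.2 hy.2
      let k' : KK C := ⟨k, mem_centralizer_inf.2 ⟨hkz, hkc⟩⟩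
      refine ⟨QuotientGroup.mk k', Subtype.ext ?_⟩
      obtain ⟨s, hs⟩ := QuotientGroup.mk_out_eq_mul N k'
      show ((QuotientGroup.mk k' : (KK C) ⧸ N).out : G) * x * _⁻¹ = y
      rw [hs, Subgroup.coe_mul, show (k' : G) = k from rfl,
        show k * ((s : KK C) : G) * x * (k * ((s : KK C) : G))⁻¹
        = k * (((s : KK C) : G) * x * ((s : KK C) : G)⁻¹) * k⁻¹ by group,
        comm_iff_conj.1 ((hmem _).1 s.2), hk]
  have h1 := Subgroup.card_eq_card_quotient_mul_card_subgroup N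
  rw [Nat.card_eq_of_bijective f hb, card_inv_ne, C.card_cent, hN,
    Nat.card_congr (Subgroup.subgroupOfEquivOfLe hle).toEquiv] at h1
  omega

/-- The key stabiliser: `P0` centralises an inverted element commuting with `a` or `c2`. -/
theorem comm_P0 {x : G} (hx : Inv C x) (h : Commute x (a' F) ∨ Commute x F.c2) {q : G}
    (hq : q ∈ P0 F) : Commute x q := by
  by_cases hx1 : x = 1
  · rw [hx1]; exact Commute.one_left q
  set St := KK C ⊓ Subgroup.centralizer ({x} : Set G) with hSt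
  have hc : St = P0 F := by
    have hcard : Nat.card St = 27 := card_St C hx hx1
    have hmem : ∀ {y : G}, y ∈ St ↔ (Commute y z ∧ Commute y F.c3) ∧ Commute y x := fun {y} => by
      rw [hSt, Subgroup.mem_inf, mem_centralizer_inf, Subgroup.mem_centralizer_singleton_iff]
      rfl
    have hcSt : F.c3 ∈ St := hmem.2 ⟨⟨F.c3z, Commute.refl _⟩, (inv_comm_c C hx).symm⟩
    refine Subgroup.eq_of_le_of_card_ge (fun y hy => ?_) (by rw [hcard, card_P0])
    obtain ⟨⟨hyz, hyc⟩, -⟩ := hmem.1 hy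
    have hyo : Odd (orderOf y) := odd_of_mem (by rw [hcard]; decide) hy
    have key := fun {w : G} (hw : w ∈ St) => commute_27 St hcard hcSt F.c3_three (c_ne F).2.2
      (fun v hv => (hmem.1 hv).1.2) hy hw
    rcases h with h | h
    · obtain ⟨i, hi⟩ := key (hmem.2 ⟨⟨az F, F.comm13.mul_left F.comm23⟩, h.symm⟩)
      have e := congrArg D.p hi
      rw [D.p_conj (az F) hyz, D.p_mul (F.c3z.pow_left _) (az F), D.p_pow F.c3z, F.p3,
        p_a] at e
      have hi0 : i = 0 := supp12 i (by rw [← e, card_support_conj]; decide)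
      refine P0_of_comm_a F hyz hyo (comm_iff_conj.2 ?_)
      rw [e, hi0]; simp
    · obtain ⟨i, hi⟩ := key (hmem.2 ⟨⟨F.c2z, F.comm23⟩, h.symm⟩)
      have e := congrArg D.p hi
      rw [D.p_conj F.c2z hyz, D.p_mul (F.c3z.pow_left _) F.c2z, D.p_pow F.c3z, F.p3, F.p2] at e
      have hi0 : i = 0 := supp2 i (by rw [← e, card_support_conj]; decide)
      refine P0_of_comm23 F hyz hyo (comm_iff_conj.2 ?_) (F.p3 ▸ comm_p D hyz F.c3z hyc)
      rw [e, hi0]; simp
  have := hc.symm ▸ hq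
  rw [hSt, Subgroup.mem_inf, Subgroup.mem_centralizer_singleton_iff] at this
  exact this.2.symm

/-- The elements of `R ⊓ C(u)` are inverted by `z`. -/
theorem inv_of_comm_u {x : G} (hx : x ∈ C.R) (hu : Commute x F.u) : Inv C x := by
  haveI : Fact (Nat.Prime 3) := ⟨Nat.prime_three⟩
  refine ⟨hx, ?_⟩
  set A := C.R ⊓ Subgroup.centralizer ({F.u} : Set G) with hA
  have hmem : ∀ {y}, y ∈ A ↔ y ∈ C.R ∧ Commute y F.u := fun {y} => by
    rw [hA, Subgroup.mem_inf, Subgroup.mem_centralizer_singleton_iff]; rfl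
  have hy : z * x * z⁻¹ ∈ A := by
    refine hmem.2 ⟨norm_R C F.c3z.symm hx, ?_⟩
    have := hu.conj z
    rwa [comm_iff_conj.1 F.uz.symm] at this
  have hab := IsPGroup.commutative_of_card_eq_prime_sq (G := A) (p := 3) C.card_u
    ⟨x, hmem.2 ⟨hx, hu⟩⟩ ⟨_, hy⟩
  have hab' : x * (z * x * z⁻¹) = (z * x * z⁻¹) * x := congrArg Subtype.val hab
  set w := x * (z * x * z⁻¹) with hw
  have hwA : w ∈ A := A.mul_mem (hmem.2 ⟨hx, hu⟩) hy
  have hwz : Commute w z := by
    refine (comm_iff_conj.2 ?_).symm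
    rw [hw, show z * (x * (z * x * z⁻¹)) * z⁻¹ = (z * x * z⁻¹) * (z * (z * x * z⁻¹) * z⁻¹) by group,
      conj_conj_z D, ← hab']
  have hwc := C.fix w (hmem.1 hwA).1 hwz
  have h1 := inv_of_mem_zpowers F.u3 hwc
  rw [comm_iff_conj.1 (hmem.1 hwA).2.symm] at h1
  have hw1 : w = 1 := eq_one_of_sq (odd_R C (hmem.1 hwA).1) (by
    conv_lhs => arg 1; rw [h1]
    exact inv_mul_cancel w)
  exact eq_inv_of_mul_eq_one_right (hw ▸ hw1)

theorem exists_e : ∃ e, Inv C e ∧ e ≠ 1 ∧ Commute e F.u ∧ Commute e (a' F) := by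
  set A := C.R ⊓ Subgroup.centralizer ({F.u} : Set G) with hA
  have hmem : ∀ {y}, y ∈ A ↔ y ∈ C.R ∧ Commute y F.u := fun {y} => by
    rw [hA, Subgroup.mem_inf, Subgroup.mem_centralizer_singleton_iff]; rfl
  obtain ⟨e, heA, he1, hea⟩ := exists_fixed A (by rw [C.card_u]; decide) (a_three F)
    fun x hx => hmem.2 ⟨norm_R C (F.comm13.mul_left F.comm23) (hmem.1 hx).1, by
      have := (hmem.1 hx).2.conj (a' F)
      rwa [comm_iff_conj.1 (comm_u_a F).symm] at this⟩
  exact ⟨e, inv_of_comm_u C (hmem.1 heA).1 (hmem.1 heA).2, he1, (hmem.1 heA).2, hea.symm⟩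

theorem u_conj_inv {r : G} (hr : Inv C r) : Inv C (F.u * r * F.u⁻¹) :=
  inv_conj C F.uz (Or.inr F.u3) hr

variable (S : Small D)
include S

theorem exists_conj {x : G} (hx : Inv C x) (hx1 : x ≠ 1) (hu : Commute x F.u) :
    ∃ g, g * d0 F * g⁻¹ = x ∧ g * z * g⁻¹ = F.u := by
  obtain ⟨g, d, hdz, hd3, hdt, hg⟩ := C.dtype x hx.1 hx1 hx.2
  obtain ⟨σ, hσ⟩ := isConj_iff.1 (isConj_iff_cycleType_eq.2
    ((d0_type F).trans hdt.symm))
  obtain ⟨σ', hs', hσ'⟩ : ∃ σ' : Perm (Fin 9), Perm.sign σ' = 1 ∧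
      σ' * D.p (d0 F) * σ'⁻¹ = D.p d := by
    rcases Int.units_eq_one_or (Perm.sign σ) with h | h
    · exact ⟨σ, h, hσ⟩
    · refine ⟨σ * (swap 0 3 * swap 1 4 * swap 2 5), ?_, ?_⟩
      · rw [map_mul, h]; decide
      · have hc : (swap 0 3 * swap 1 4 * swap 2 5 : Perm (Fin 9)) * D.p (d0 F) *
            (swap 0 3 * swap 1 4 * swap 2 5)⁻¹ = D.p (d0 F) := by rw [p_d0]; decide
        rw [← hσ]
        conv_rhs => rw [← hc]
        group
  obtain ⟨k, hk, hkp⟩ := D.exists_lift hs'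
  have hkd : k * d0 F * k⁻¹ = d :=
    conj_eq D hk (d0z F) hdz (d0_three F) hd3 hkp rfl rfl hσ'
  set g1 := g * k with hg1
  have e1 : g1 * d0 F * g1⁻¹ = x := by
    rw [hg1, ← hg, ← hkd]; group
  have hv : orderOf (g1⁻¹ * F.u * g1) = 2 := by
    rw [show g1⁻¹ * F.u * g1 = MulAut.conj g1⁻¹ F.u by simp, MulEquiv.orderOf_eq, F.u_two]
  have hvd : Commute (g1⁻¹ * F.u * g1) (d0 F) := by
    have := hu.symm.conj g1⁻¹
    rwa [inv_inv, show g1⁻¹ * x * g1 = d0 F by rw [← e1]; group] at this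
  obtain ⟨h, hh, hhz⟩ := S.conj_unique (d0z F) (d0_three F) (d0_ne F) (d0_not33 F) hv hvd
  refine ⟨g1 * h, ?_, ?_⟩
  · rw [show g1 * h * d0 F * (g1 * h)⁻¹ = g1 * (h * d0 F * h⁻¹) * g1⁻¹ by group,
      comm_iff_conj.1 hh, e1]
  · rw [show g1 * h * z * (g1 * h)⁻¹ = g1 * (h * z * h⁻¹) * g1⁻¹ by group, hhz]; group

/-- The elements of odd order centralising `e` form a subgroup, meeting `C(u)` in order 81. -/
theorem exists_T {e : G} (he : Inv C e) (he1 : e ≠ 1) (hu : Commute e F.u) :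
    ∃ T : Subgroup G, (∀ x, x ∈ T ↔ Commute x e ∧ Odd (orderOf x)) ∧
      Nat.card (cen T F.u) = 81 := by
  obtain ⟨g, hge, hgu⟩ := exists_conj C S he he1 hu
  obtain ⟨m, hm, hc⟩ := card_cent_d0_half F S
  have h1 : Nat.card (Subgroup.centralizer ({e} : Set G)) = 2 * m := by
    rw [← hc]
    refine card_eq_of_conj g fun y => ?_
    rw [Subgroup.mem_centralizer_singleton_iff, Subgroup.mem_centralizer_singleton_iff, ← hge]
    exact (Commute.conj_iff g)
  have h2 : Nat.card (Subgroup.centralizer ({F.u} : Set G) ⊓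
      Subgroup.centralizer ({e} : Set G) : Subgroup G) = 2 * 81 := by
    rw [show 2 * 81 = 162 from rfl, ← card_cent_d0 F]
    refine card_eq_of_conj g fun y => ?_
    rw [mem_centralizer_inf, mem_centralizer_inf, ← hge, ← hgu]
    exact and_congr (Commute.conj_iff g) (Commute.conj_iff g)
  obtain ⟨T, hT, -⟩ := exists_odd_half _ hm h1
  obtain ⟨T2, hT2, hT2c⟩ := exists_odd_half _ (by decide : Odd 81) h2
  refine ⟨T, fun x => ?_, ?_⟩
  · rw [hT, Subgroup.mem_centralizer_singleton_iff]; rfl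
  · rw [← hT2c]
    congr 2
    ext x
    rw [mem_cen', hT, hT2, mem_centralizer_inf, Subgroup.mem_centralizer_singleton_iff]
    exact ⟨fun h => ⟨⟨h.2, h.1.1⟩, h.1.2⟩, fun h => ⟨⟨h.1.2.eq, h.2⟩, h.1.1⟩⟩

end Cfsg.Agent.DoubleCoverCoreBase91
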