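import Cfsg.Agent.Lib.DoubleCoverCoreBase91

/-!
# The core of the centraliser of the lift of a 3-cycle in degree 9 is abelian
-/

set_option autoImplicit false
set_option maxRecDepth 10000

namespace Cfsg.Agent.DoubleCoverCoreNonab91

open Equiv Equiv.Perm
open Cfsg.Agent.DoubleCover90
open Cfsg.Agent.DoubleCoverPerm91
open Cfsg.Agent.DoubleCoverLifts91
open Cfsg.Agent.DoubleCoverCoreBase91
open Cfsg.Agent.FourFormula30 (cen mem_cen four_formula)

universe u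

variable {G : Type u} [Group G] [Finite G] {z : G} {D : DC z 9} {F : Frame D} (C : Core D F)

/-- In a nonabelian core no inverted element is central. -/
theorem central_inv_eq_one (hna : ¬ ∀ r ∈ C.R, ∀ s ∈ C.R, Commute r s) {x : G} (hx : Inv C x)
    (hc : ∀ r ∈ C.R, Commute x r) : x = 1 := by
  by_contra hx1
  refine hna fun r hr s hs => ?_
  obtain ⟨i, hi, m, rfl⟩ := exists_split C hr
  refine Commute.mul_left ?_ ((C.cent s hs).symm.pow_left _)
  by_cases hi1 : i = 1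
  · rw [hi1]; exact Commute.one_left s
  obtain ⟨k, hkz, hkc, hk⟩ := C.trans x hx.1 i hi.1 hx1 hi1 hx.2 hi.2
  have h1 := (hc _ (norm_R C hkc.inv_left hs)).conj k
  rw [hk] at h1
  rwa [show k * (k⁻¹ * s * k⁻¹⁻¹) * k⁻¹ = s by group] at h1

theorem P0_norm_R {p r : G} (hp : p ∈ P0 F) (hr : r ∈ C.R) : p * r * p⁻¹ ∈ C.R :=
  norm_R C (P0_comm F hp (c3_mem F)) hr

/-- The product of the core and `P0`. -/
def U9 : Subgroup G where
  carrier := {x | ∃ r ∈ C.R, ∃ p ∈ P0 F, x = r * p}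
  one_mem' := ⟨1, C.R.one_mem, 1, (P0 F).one_mem, (one_mul 1).symm⟩
  mul_mem' := by
    rintro _ _ ⟨r, hr, p, hp, rfl⟩ ⟨r', hr', p', hp', rfl⟩
    exact ⟨r * (p * r' * p⁻¹), C.R.mul_mem hr (P0_norm_R C hp hr'), p * p',
      (P0 F).mul_mem hp hp', by group⟩
  inv_mem' := by
    rintro _ ⟨r, hr, p, hp, rfl⟩
    exact ⟨p⁻¹ * r⁻¹ * p⁻¹⁻¹, P0_norm_R C ((P0 F).inv_mem hp) (C.R.inv_mem hr), p⁻¹,
      (P0 F).inv_mem hp, by group⟩

theorem exists_ip {x : G} (hx : x ∈ U9 C) : ∃ i, Inv C i ∧ ∃ p ∈ P0 F, x = i * p := by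
  obtain ⟨r, hr, p, hp, rfl⟩ := hx
  obtain ⟨i, hi, m, rfl⟩ := exists_split C hr
  exact ⟨i, hi, F.c3 ^ m.val * p, (P0 F).mul_mem ((P0 F).pow_mem (c3_mem F) _) hp, by group⟩

theorem card_U9 : Nat.card (U9 C) = 3 ^ 7 := by
  rw [← Nat.card_eq_of_bijective (fun t : {r // Inv C r} × P0 F =>
    (⟨(t.1 : G) * t.2, t.1.1, t.1.2.1, t.2, t.2.2, rfl⟩ : U9 C)) ⟨?_, ?_⟩, Nat.card_prod,
    card_inv, card_P0]
  · norm_num
  · rintro ⟨i, p⟩ ⟨i', p'⟩ h
    obtain ⟨e1, e2⟩ := split_unique C i.2 i'.2 (P0_z F p.2) (P0_z F p'.2)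
      (congrArg Subtype.val h)
    exact Prod.ext (Subtype.ext e1) (Subtype.ext e2)
  · rintro ⟨x, hx⟩
    obtain ⟨i, hi, p, hp, rfl⟩ := exists_ip C hx
    exact ⟨(⟨i, hi⟩, ⟨p, hp⟩), rfl⟩

theorem U9_comm_c {x : G} (hx : x ∈ U9 C) : Commute x F.c3 := by
  obtain ⟨r, hr, p, hp, rfl⟩ := hx
  exact (C.cent r hr).mul_left (P0_comm F hp (c3_mem F))

theorem R_le_U9 {r : G} (hr : r ∈ C.R) : r ∈ U9 C :=
  ⟨r, hr, 1, (P0 F).one_mem, (mul_one r).symm⟩

theorem center_U9 (hna : ¬ ∀ r ∈ C.R, ∀ s ∈ C.R, Commute r s) {x : G} (hx : x ∈ U9 C)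
    (hc : ∀ y ∈ U9 C, Commute x y) : x ∈ Subgroup.zpowers F.c3 := by
  obtain ⟨i, hi, p, hp, rfl⟩ := exists_ip C hx
  have hzx : z * (i * p) * z⁻¹ = i⁻¹ * p := by
    rw [show z * (i * p) * z⁻¹ = (z * i * z⁻¹) * (z * p * z⁻¹) by group, hi.2,
      comm_iff_conj.1 (P0_z F hp).symm]
  have hzc : ∀ r ∈ C.R, Commute (i⁻¹ * p) r := by
    intro r hr
    have h1 := (hc _ (R_le_U9 C (norm_R C F.c3z.symm hr))).conj z
    rwa [hzx, conj_conj_z D] at h1
  have h2 : ∀ r ∈ C.R, Commute (i * i) r := by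
    intro r hr
    have h1 := (hc _ (R_le_U9 C hr)).mul_left (hzc r hr).inv_left
    rwa [show i * p * (i⁻¹ * p)⁻¹ = i * i by group] at h1
  have hii : Inv C (i * i) := ⟨C.R.mul_mem hi.1 hi.1, by
    rw [show z * (i * i) * z⁻¹ = (z * i * z⁻¹) * (z * i * z⁻¹) by group, hi.2]; group⟩
  have hi1 : i = 1 := eq_one_of_sq (odd_R C hi.1) (central_inv_eq_one C hna hii h2)
  subst hi1
  rw [one_mul] at hc ⊢
  exact C.faithful p (P0_z F hp) (P0_comm F hp (c3_mem F)) fun r hr _ => hc r (R_le_U9 C hr)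

include C in
theorem card_cent_c : Nat.card (Subgroup.centralizer ({F.c3} : Set G)) = 3 ^ 7 * 80 := by
  rw [← Nat.card_eq_of_bijective (fun t : {r // Inv C r} × KK C =>
    (⟨(t.1 : G) * t.2, Subgroup.mem_centralizer_singleton_iff.2
      ((inv_comm_c C t.1.2).mul_left (mem_centralizer_inf.1 t.2.2).2).eq⟩ :
      Subgroup.centralizer ({F.c3} : Set G))) ⟨?_, ?_⟩, Nat.card_prod, card_inv, C.card_cent]
  · norm_num
  · rintro ⟨i, k⟩ ⟨i', k'⟩ h
    obtain ⟨e1, e2⟩ := split_unique C i.2 i'.2 (mem_centralizer_inf.1 k.2).1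
      (mem_centralizer_inf.1 k'.2).1 (congrArg Subtype.val h)
    exact Prod.ext (Subtype.ext e1) (Subtype.ext e2)
  · rintro ⟨x, hx⟩
    obtain ⟨i, k, hi, hkz, hkc, rfl⟩ :=
      exists_ik C (Subgroup.mem_centralizer_singleton_iff.1 hx : Commute x F.c3)
    exact ⟨(⟨i, hi⟩, ⟨k, mem_centralizer_inf.2 ⟨hkz, hkc⟩⟩), rfl⟩

include C in
theorem not_eight (hna : ¬ ∀ r ∈ C.R, ∀ s ∈ C.R, Commute r s) : ¬ 3 ^ 8 ∣ Nat.card G := by
  intro h8
  haveI : Fact (Nat.Prime 3) := ⟨Nat.prime_three⟩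
  obtain ⟨K, hK, hle⟩ := Sylow.exists_subgroup_card_pow_succ (p := 3) (n := 7) h8 (card_U9 C)
  have hKp : IsPGroup 3 K := IsPGroup.of_card hK
  haveI : Group.IsNilpotent K := hKp.isNilpotent
  set H := (U9 C).subgroupOf K with hH
  have hHtop : H ≠ ⊤ := fun e => by
    have h1 := Nat.card_congr (Subgroup.subgroupOfEquivOfLe hle).toEquiv
    rw [← hH, e, Subgroup.card_top, hK, card_U9] at h1
    norm_num at h1
  obtain ⟨y, hy, hyH⟩ := SetLike.exists_of_lt
    (normalizerCondition_of_isNilpotent H (lt_top_iff_ne_top.2 hHtop))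
  have hyn : ∀ x, x ∈ U9 C → (y : G) * x * (y : G)⁻¹ ∈ U9 C := by
    intro x hx
    have := (Subgroup.mem_normalizer_iff.1 hy ⟨x, hle hx⟩).1 hx
    exact this
  have hyn' : ∀ x, x ∈ U9 C → (y : G)⁻¹ * x * y ∈ U9 C := by
    intro x hx
    have := (Subgroup.mem_normalizer_iff.1 hy ⟨(y : G)⁻¹ * x * y,
      K.mul_mem (K.mul_mem (K.inv_mem y.2) (hle hx)) y.2⟩).2 (by
        show (y : G) * ((y : G)⁻¹ * x * y) * (y : G)⁻¹ ∈ U9 C
        rwa [show (y : G) * ((y : G)⁻¹ * x * y) * (y : G)⁻¹ = x by group])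
    exact this
  have hyodd : Odd (orderOf (y : G)) := odd_of_mem (by rw [hK]; decide) y.2
  have hc3U : F.c3 ∈ U9 C := R_le_U9 C C.c3_mem
  have hyc : Commute (y : G) F.c3 := by
    refine comm_of_normalises hyodd ?_
    have hin := center_U9 C hna (hyn _ hc3U) fun x hx => by
      have h1 := (U9_comm_c C (hyn' x hx)).symm.conj (y : G)
      rwa [show (y : G) * ((y : G)⁻¹ * x * y) * (y : G)⁻¹ = x by group] at h1
    obtain ⟨j, hj⟩ := (Submonoid.mem_powers_iff _ _).1 (mem_powers_iff_mem_zpowers.2 hin)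
    rw [← Nat.div_add_mod j 3, pow_add, pow_mul, F.c3_three, one_pow, one_mul] at hj
    have : j % 3 = 0 ∨ j % 3 = 1 ∨ j % 3 = 2 := by omega
    rcases this with e | e | e <;> rw [e] at hj
    · rw [pow_zero] at hj
      exact absurd (conj_eq_one_iff.1 hj.symm) (c_ne F).2.2
    · rw [pow_one] at hj; exact Or.inl hj.symm
    · refine Or.inr (hj.symm.trans (eq_inv_of_mul_eq_one_left ?_))
      rw [← pow_succ, F.c3_three]
  -- `⟨U9, y⟩` centralises `c3`
  set M := K ⊓ Subgroup.centralizer ({F.c3} : Set G) with hM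
  have hlt : U9 C < M := by
    refine lt_of_le_of_ne (fun x hx => ⟨hle hx,
      Subgroup.mem_centralizer_singleton_iff.2 (U9_comm_c C hx).eq⟩) fun e => hyH ?_
    show (y : G) ∈ U9 C
    rw [e]
    exact ⟨y.2, Subgroup.mem_centralizer_singleton_iff.2 hyc.eq⟩
  obtain ⟨j, hj, hMc⟩ := (Nat.dvd_prime_pow Nat.prime_three).1
    (hK ▸ Subgroup.card_dvd_of_le (inf_le_left : M ≤ K))
  have h7 : Nat.card (U9 C) < Nat.card M := by
    refine lt_of_le_of_ne (Subgroup.card_le_of_le hlt.le) fun e => ?_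
    exact hlt.ne (Subgroup.eq_of_le_of_card_ge hlt.le e.symm.le)
  rw [card_U9, hMc] at h7
  have hj8 : j = 8 := by
    have := (Nat.pow_lt_pow_iff_right (by norm_num : 1 < 3)).1 h7
    omega
  have hd := Subgroup.card_dvd_of_le (inf_le_right : M ≤ Subgroup.centralizer ({F.c3} : Set G))
  rw [hMc, hj8, card_cent_c C] at hd
  norm_num at hd

/-- No conjugate of the inverted element `e` lies in `⟨c3⟩`. -/
theorem not_seven (S : Small D) (hna : ¬ ∀ r ∈ C.R, ∀ s ∈ C.R, Commute r s) {e : G}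
    (he : Inv C e) (he1 : e ≠ 1) (heu : Commute e F.u) (T : Subgroup G)
    (hT : ∀ x, x ∈ T ↔ Commute x e ∧ Odd (orderOf x)) : ¬ 3 ^ 7 ∣ Nat.card T := by
  intro h7
  haveI : Fact (Nat.Prime 3) := ⟨Nat.prime_three⟩
  have h8 := not_eight C hna
  obtain ⟨g0, hg0, -⟩ := exists_conj C S he he1 heu
  have he3 : e ^ 3 = 1 := by rw [← hg0, conj_pow, d0_three]; group
  have heT : e ∈ T := (hT e).2 ⟨Commute.refl e, odd_R C he.1⟩
  have hp : IsPGroup 3 (Subgroup.zpowers (⟨e, heT⟩ : T)) := IsPGroup.of_card (n := 1) (by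
    rw [Nat.card_zpowers, ← Subgroup.orderOf_coe, orderOf_eq_prime he3 he1, pow_one])
  obtain ⟨P, hP⟩ := hp.exists_le_sylow
  obtain ⟨k, hk⟩ := IsPGroup.iff_card.1 P.2
  have hPG : Nat.card (P : Subgroup T) ∣ Nat.card G :=
    (Subgroup.card_subgroup_dvd_card _).trans (Subgroup.card_subgroup_dvd_card _)
  have hk7 : k = 7 := by
    have h1 : 3 ^ 7 ∣ 3 ^ k := hk ▸ P.pow_dvd_card_of_pow_dvd_card h7
    have h2 := (Nat.pow_dvd_pow_iff_le_right (by norm_num : 1 < 3)).1 h1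
    by_contra hne
    exact h8 ((pow_dvd_pow 3 (by omega : 8 ≤ k)).trans (hk ▸ hPG))
  set Q := (P : Subgroup T).map T.subtype with hQ
  have hQc : Nat.card Q = 3 ^ 7 := by
    rw [hQ, Subgroup.card_map_of_injective T.subtype_injective, hk, hk7]
  have hfac : (Nat.card G).factorization 3 = 7 := by
    refine le_antisymm ?_ ?_
    · by_contra hlt
      exact h8 ((Nat.prime_three.pow_dvd_iff_le_factorization Nat.card_pos.ne').2 (by omega))
    · exact (Nat.prime_three.pow_dvd_iff_le_factorization Nat.card_pos.ne').1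
        (card_U9 C ▸ Subgroup.card_subgroup_dvd_card (U9 C))
  obtain ⟨g, hg⟩ := MulAction.exists_smul_eq G
    (Sylow.ofCard (U9 C) (by rw [card_U9, hfac]) : Sylow 3 G)
    (Sylow.ofCard Q (by rw [hQc, hfac]) : Sylow 3 G)
  have hmem : ∀ x, g * x * g⁻¹ ∈ Q ↔ x ∈ U9 C := by
    intro x
    have e1 : Q = ((g • (Sylow.ofCard (U9 C) (by rw [card_U9, hfac]) : Sylow 3 G) : Sylow 3 G) :
        Subgroup G) := by rw [hg]; rfl
    rw [e1, Sylow.coe_subgroup_smul, show g * x * g⁻¹ = MulAut.conj g • x from rfl,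
      Subgroup.smul_mem_pointwise_smul_iff]
    rfl
  have heQ : e ∈ Q := ⟨⟨e, heT⟩, hP (Subgroup.mem_zpowers _), rfl⟩
  set w := g⁻¹ * e * g with hw
  have hwU : w ∈ U9 C := (hmem w).1 (by rwa [show g * w * g⁻¹ = e by rw [hw]; group])
  have hwc : w ∈ Subgroup.zpowers F.c3 := by
    refine center_U9 C hna hwU fun y hy => ?_
    obtain ⟨t, -, ht⟩ := (hmem y).2 hy
    have h1 : Commute e (g * y * g⁻¹) := ht ▸ ((hT t).1 t.2).1.symm
    have h2 := h1.conj g⁻¹
    rwa [inv_inv, show g⁻¹ * (g * y * g⁻¹) * g = y by group] at h2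
  obtain ⟨j, hj⟩ := (Submonoid.mem_powers_iff _ _).1 (mem_powers_iff_mem_zpowers.2 hwc)
  have hwz : Commute w z := hj ▸ F.c3z.pow_left j
  obtain ⟨k', hk'z, hk'⟩ := S.conj_in_of_conj (g := g0⁻¹ * g) hwz (d0z F) (d0_three F) (d0_ne F)
    (d0_not33 F) (by
      rw [hw, show g0⁻¹ * g * (g⁻¹ * e * g) * (g0⁻¹ * g)⁻¹ = g0⁻¹ * e * g0 by group, ← hg0]
      group)
  have h1 := congrArg (fun x => (D.p x).support.card) hk'
  simp only [D.p_conj hwz hk'z, card_support_conj] at h1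
  rw [← hj, D.p_pow F.c3z, F.p3, p_d0, ← Nat.div_add_mod j 3, pow_add, pow_mul,
    show C3 9 ^ 3 = 1 by decide, one_pow, one_mul] at h1
  have key : ∀ m : Fin 3, (C3 9 ^ m.val).support.card ≠ (C1 9 * C2 9 * C3 9).support.card := by
    decide
  exact key ⟨j % 3, Nat.mod_lt _ (by norm_num)⟩ h1

theorem conj_mem_T {T : Subgroup G} {e v k : G}
    (hT : ∀ x, x ∈ T ↔ Commute x e ∧ Odd (orderOf x))
    (hv : v * v = 1) (hve : v * e * v⁻¹ = e ∨ v * e * v⁻¹ = e⁻¹) (hk : k ∈ T) : v * k * v ∈ T := by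
  have hvi : v⁻¹ = v := inv_eq_of_mul_eq_one_right hv
  obtain ⟨h1, h2⟩ := (hT k).1 hk
  refine (hT _).2 ⟨?_, ?_⟩
  · rcases hve with h | h
    · have := h1.conj v
      rwa [h, hvi] at this
    · have := (h1.conj v).inv_right
      rwa [h, inv_inv, hvi] at this
  · skip
    have := odd_conj v h2
    rwa [hvi] at this

/-- The core is abelian. -/
theorem core_comm (S : Small D) : ∀ r ∈ C.R, ∀ s ∈ C.R, Commute r s := by
  by_contra hna
  obtain ⟨e, he, he1, heu, hea⟩ := exists_e C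
  obtain ⟨T, hT, hTu⟩ := exists_T C S he he1 heu
  have hodd : Odd (Nat.card T) := odd_card_of_odd fun x hx => ((hT x).1 hx).2
  have huu : F.u * F.u = 1 := mul_self_of_two F.u_two
  have hff := four_formula T hodd F.u z huu D.sq F.uz.eq
    (fun k hk => conj_mem_T hT huu (Or.inl (comm_iff_conj.1 heu.symm)) hk)
    (fun k hk => conj_mem_T hT D.sq (Or.inr he.2) hk)
  -- the three fixed parts
  have hP0T : P0 F ≤ cen T z := fun q hq =>
    mem_cen'.2 ⟨(hT q).2 ⟨(comm_P0 C he (Or.inl hea) hq).symm, P0_odd F hq⟩, P0_z F hq⟩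
  have hz27 : 27 ∣ Nat.card (cen T z) := card_P0 F ▸ Subgroup.card_dvd_of_le hP0T
  have hnine : ¬ 9 ∣ Nat.card (cen (cen T z) F.u) := by
    refine not_nine_dvd F (mem_cen'.2 ⟨hP0T (a_mem F), (comm_u_a F).symm⟩) fun x hx => ?_
    obtain ⟨h1, h2⟩ := mem_cen'.1 hx
    exact ⟨(mem_cen'.1 h1).2, h2⟩
  have hw9 : 9 ∣ Nat.card (cen T (F.u * z)) := by
    set A := C.R ⊓ Subgroup.centralizer ({F.u * z} : Set G) with hA
    have hmem : ∀ {y}, y ∈ A ↔ y ∈ C.R ∧ Commute y (F.u * z) := fun {y} => by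
      rw [hA, Subgroup.mem_inf, Subgroup.mem_centralizer_singleton_iff]; rfl
    have hinvA : ∀ {y}, y ∈ A → Inv C y := fun {y} hy =>
      inv_of_comm_u (flipC C) (hmem.1 hy).1 (hmem.1 hy).2
    set W := A ⊓ Subgroup.centralizer ({e} : Set G) with hW
    have hWmem : ∀ {y}, y ∈ W ↔ y ∈ A ∧ Commute y e := fun {y} => by
      rw [hW, Subgroup.mem_inf, Subgroup.mem_centralizer_singleton_iff]; rfl
    have h3W : 3 ∣ Nat.card W := by
      have hne : Nat.card W ≠ 1 := by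
        intro hW1
        let f : A → Subgroup.zpowers F.c3 := fun y =>
          ⟨(y : G) * e * (y : G)⁻¹ * e⁻¹, C.comm_R _ (hmem.1 y.2).1 _ he.1⟩
        have hinj : Function.Injective f := by
          intro y y' h
          have h' : (y : G) * e * (y : G)⁻¹ * e⁻¹ = y' * e * (y' : G)⁻¹ * e⁻¹ :=
            congrArg Subtype.val h
          have h'' := mul_right_cancel h'
          have hin : (y' : G)⁻¹ * y ∈ W := by
            refine hWmem.2 ⟨A.mul_mem (A.inv_mem y'.2) y.2, comm_iff_conj.2 ?_⟩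
            rw [show (y' : G)⁻¹ * y * e * ((y' : G)⁻¹ * y)⁻¹ =
              (y' : G)⁻¹ * ((y : G) * e * (y : G)⁻¹) * y' by group, h'']
            group
          rw [Subgroup.card_eq_one] at hW1
          rw [hW1, Subgroup.mem_bot] at hin
          exact Subtype.ext (inv_mul_eq_one.1 hin).symm
        have := Nat.card_le_card_of_injective f hinj
        rw [Nat.card_zpowers, orderOf_c3 (F := F)] at this
        have h9 : Nat.card A = 9 := C.card_uz
        omega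
      obtain ⟨j, hj, hjc⟩ := (Nat.dvd_prime_pow Nat.prime_three).1
        (show Nat.card W ∣ 3 ^ 2 by
          have h := Subgroup.card_dvd_of_le (inf_le_left : W ≤ A)
          rw [show Nat.card A = 9 from C.card_uz] at h
          exact h)
      rw [hjc]
      refine dvd_pow_self 3 fun h0 => hne ?_
      rw [hjc, h0, pow_zero]
    have haW : ∀ y ∈ W, a' F * y * (a' F)⁻¹ ∈ W := by
      intro y hy
      obtain ⟨hy1, hy2⟩ := hWmem.1 hy
      refine hWmem.2 ⟨hmem.2 ⟨norm_R C (F.comm13.mul_left F.comm23) (hmem.1 hy1).1, ?_⟩, ?_⟩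
      · have := (hmem.1 hy1).2.conj (a' F)
        rwa [comm_iff_conj.1 ((comm_u_a F).symm.mul_right (az F))] at this
      · have := hy2.conj (a' F)
        rwa [comm_iff_conj.1 hea.symm] at this
    obtain ⟨w, hw, hw1, haw⟩ := exists_fixed W h3W (a_three F) haW
    obtain ⟨hwA, hwe⟩ := hWmem.1 hw
    have hwR := (hmem.1 hwA).1
    have hd := mul_dvd_card (X := cen T (F.u * z))
      (mem_cen'.2 ⟨(mem_cen'.1 (hP0T (a_mem F))).1, (comm_u_a F).symm.mul_right (az F)⟩)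
      (mem_cen'.2 ⟨(hT w).2 ⟨hwe, odd_R C hwR⟩, (hmem.1 hwA).2⟩) haw (fun g h1 h2 => by
        obtain ⟨n, rfl⟩ := Subgroup.mem_zpowers_iff.1 h1
        refine eq_one_of_sq (P0_odd F ((P0 F).zpow_mem (a_mem F) n)) ?_
        obtain ⟨n', hn'⟩ := Subgroup.mem_zpowers_iff.1 h2
        have e1 : z * a' F ^ n * z⁻¹ = (a' F ^ n)⁻¹ := by
          rw [← hn', ← conj_zpow, (hinvA hwA).2, inv_zpow]
        rw [comm_iff_conj.1 ((az F).zpow_left n).symm] at e1
        conv_lhs => arg 1; rw [e1]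
        exact inv_mul_cancel _)
    rw [orderOf_a] at hd
    refine dvd_trans ?_ hd
    rw [show 9 = 3 * 3 from rfl]
    refine Nat.mul_dvd_mul_left 3 ?_
    have hdv : orderOf w ∣ 3 ^ 5 := by
      rw [show (3 : ℕ) ^ 5 = Nat.card C.R by rw [C.card_R]; rfl,
        show orderOf w = orderOf (⟨w, hwR⟩ : C.R) from Subgroup.orderOf_coe ⟨w, hwR⟩]
      exact orderOf_dvd_natCard _
    obtain ⟨j, hj, hjo⟩ := (Nat.dvd_prime_pow Nat.prime_three).1 hdv
    rw [hjo]
    refine dvd_pow_self 3 fun h0 => hw1 (orderOf_eq_one_iff.1 ?_)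
    rw [hjo, h0, pow_zero]
  -- count powers of three
  set B := Nat.card (cen (cen T z) F.u) with hB
  have h39 : 3 ^ 9 ∣ Nat.card T * B ^ 2 := by
    rw [hff, hTu]
    exact dvd_trans (show 3 ^ 9 ∣ 81 * 27 * 9 from dvd_rfl)
      (Nat.mul_dvd_mul (Nat.mul_dvd_mul_left 81 hz27) hw9)
  refine not_seven C S hna he he1 heu T hT ?_
  by_cases h3B : 3 ∣ B
  · obtain ⟨B', hB'⟩ := h3B
    have hc : Nat.Coprime (3 ^ 7) (B' ^ 2) := by
      refine Nat.Coprime.pow _ _ ((Nat.Prime.coprime_iff_not_dvd Nat.prime_three).2 fun h => hnine ?_)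
      rw [hB']; exact Nat.mul_dvd_mul_left 3 h
    refine hc.dvd_of_dvd_mul_right ?_
    rw [hB', mul_pow, mul_comm (3 ^ 2), ← mul_assoc, show 3 ^ 9 = 3 ^ 7 * 3 ^ 2 from rfl] at h39
    exact Nat.dvd_of_mul_dvd_mul_right (by norm_num) h39
  · have hc : Nat.Coprime (3 ^ 7) (B ^ 2) :=
      Nat.Coprime.pow _ _ ((Nat.Prime.coprime_iff_not_dvd Nat.prime_three).2 h3B)
    exact hc.dvd_of_dvd_mul_right (dvd_trans (pow_dvd_pow 3 (by norm_num)) h39)

end Cfsg.Agent.DoubleCoverCoreNonab91
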