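import Mathlib

/-!
The solutions of the relation for the number of involutions.
-/

set_option autoImplicit false

namespace Cfsg.Agent.DoubleCoverCount74Arith

/-- The candidate `k` attached to a pair `a, e`. -/
def cand (c a e : ℤ) : ℤ := ((a + c * e) * (a + c * e + 1)) / (2 * e * e)

/-- The finite test. -/
def Good (c R : ℤ) (m : ℤ) (S : List ℤ) (a e : ℤ) : Prop :=
  a * a + (a + 1) * (a + 1) < m → ((a + c * e) * (a + c * e + 1)) % (2 * e * e) = 0 →
    (cand c a e) % 2 = 1 → (cand c a e) % 3 ≠ 0 →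
      (a + c * e) * (a + c * e) + (a + c * e + 1) * (a + c * e + 1) < m * cand c a e →
        -R ≤ a → cand c a e ∈ S

theorem dvd_8 {d : ℤ} {k : ℕ} (hk : k % 2 = 1) (h : (32 : ℤ) ∣ (k : ℤ) * d ^ 2) : (8 : ℤ) ∣ d := by
  have hco : IsCoprime (32 : ℤ) (k : ℤ) := by
    rw [Int.isCoprime_iff_gcd_eq_one, Int.gcd_eq_natAbs]
    have : Nat.Coprime (2 ^ 5) k := Nat.Coprime.pow_left 5 (Nat.prime_two.coprime_iff_not_dvd.2 (by omega))
    simpa using this
  have h2 : (32 : ℤ) ∣ d ^ 2 := hco.dvd_of_dvd_mul_left h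
  have key : ∀ r : ZMod 32, r ^ 2 = 0 → (ZMod.castHom (show 8 ∣ 32 by norm_num) (ZMod 8)) r = 0 := by
    decide +kernel
  have hd := key (d : ZMod 32) (by
    rw [← Int.cast_pow]; exact (ZMod.intCast_zmod_eq_zero_iff_dvd _ 32).2 h2)
  rw [map_intCast] at hd
  exact (ZMod.intCast_zmod_eq_zero_iff_dvd d 8).1 hd

theorem dvd_4 {d : ℤ} {k : ℕ} (hk : k % 2 = 1) (h : (8 : ℤ) ∣ (k : ℤ) * d ^ 2) : (4 : ℤ) ∣ d := by
  have hco : IsCoprime (8 : ℤ) (k : ℤ) := by
    rw [Int.isCoprime_iff_gcd_eq_one, Int.gcd_eq_natAbs]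
    have : Nat.Coprime (2 ^ 3) k := Nat.Coprime.pow_left 3 (Nat.prime_two.coprime_iff_not_dvd.2 (by omega))
    simpa using this
  have h2 : (8 : ℤ) ∣ d ^ 2 := hco.dvd_of_dvd_mul_left h
  have key : ∀ r : ZMod 8, r ^ 2 = 0 → (ZMod.castHom (show 4 ∣ 8 by norm_num) (ZMod 4)) r = 0 := by
    decide +kernel
  have hd := key (d : ZMod 8) (by
    rw [← Int.cast_pow]; exact (ZMod.intCast_zmod_eq_zero_iff_dvd _ 8).2 h2)
  rw [map_intCast] at hd
  exact (ZMod.intCast_zmod_eq_zero_iff_dvd d 4).1 hd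

theorem dvd_9 {d : ℤ} {k : ℕ} (hk : k % 3 ≠ 0) (h : (81 : ℤ) ∣ (k : ℤ) * d ^ 2) : (9 : ℤ) ∣ d := by
  have hco : IsCoprime (81 : ℤ) (k : ℤ) := by
    rw [Int.isCoprime_iff_gcd_eq_one, Int.gcd_eq_natAbs]
    have : Nat.Coprime (3 ^ 4) k := Nat.Coprime.pow_left 4 (Nat.prime_three.coprime_iff_not_dvd.2 (by omega))
    simpa using this
  have h2 : (81 : ℤ) ∣ d ^ 2 := hco.dvd_of_dvd_mul_left h
  have key : ∀ r : ZMod 81, r ^ 2 = 0 → (ZMod.castHom (show 9 ∣ 81 by norm_num) (ZMod 9)) r = 0 := by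
    decide +kernel
  have hd := key (d : ZMod 81) (by
    rw [← Int.cast_pow]; exact (ZMod.intCast_zmod_eq_zero_iff_dvd _ 81).2 h2)
  rw [map_intCast] at hd
  exact (ZMod.intCast_zmod_eq_zero_iff_dvd d 9).1 hd

/-- The range of `e`. -/
theorem range_e {c a e A : ℤ} {k : ℕ} (hc : 0 < c) (hA : A = a + c * e)
    (h : A * (A + 1) = 2 * k * e ^ 2) (he : e ≠ 0) :
    e ∣ a * (a + 1) ∧ (a * (a + 1) = 0 → e ∣ c) := by
  subst hA
  constructor
  · exact ⟨2 * k * e - c * (2 * a + 1) - c * c * e, by linear_combination h⟩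
  · intro ha
    have h2 : e * (c * (2 * a + 1)) = e * (2 * k * e - c * c * e) := by linear_combination h - ha
    have h3 := mul_left_cancel₀ he h2
    have : a = 0 ∨ a = -1 := by
      rcases mul_eq_zero.1 ha with h | h
      · exact Or.inl h
      · exact Or.inr (by omega)
    rcases this with rfl | rfl
    · exact ⟨2 * k - c * c, by linear_combination h3⟩
    · exact ⟨-(2 * k - c * c), by linear_combination -h3⟩

theorem table144 : ∀ i : Fin 18, ∀ j : Fin 145,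
    ((j : ℕ) : ℤ) - 72 ≠ 0 →
      Good 72 9 144 [2869, 2701, 2329, 2485] (((i : ℕ) : ℤ) - 9) (((j : ℕ) : ℤ) - 72) := by
  unfold Good cand; decide +kernel

theorem table36 : ∀ i : Fin 10, ∀ j : Fin 73,
    ((j : ℕ) : ℤ) - 36 ≠ 0 →
      Good 36 5 36 [703, 595] (((i : ℕ) : ℤ) - 5) (((j : ℕ) : ℤ) - 36) := by
  unfold Good cand; decide +kernel

theorem finish {c R m : ℤ} {S : List ℤ} {A a e : ℤ} {k : ℕ} (hc : 0 < c)
    (hk2 : k % 2 = 1) (hk3 : k % 3 ≠ 0) (hA : A = a + c * e) (he : e ≠ 0)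
    (h : A * (A + 1) = 2 * k * e ^ 2) (ha : a * a + (a + 1) * (a + 1) < m)
    (hb : A * A + (A + 1) * (A + 1) < m * k) (hR : -R ≤ a) (hg : Good c R m S a e) :
    (k : ℤ) ∈ S := by
  subst hA
  have h2 : (2 : ℤ) * e * e ≠ 0 := by positivity
  have hk : cand c a e = k := by
    rw [cand, show (a + c * e) * (a + c * e + 1) = (k : ℤ) * (2 * e * e) by linear_combination h,
      Int.mul_ediv_cancel _ h2]
  rw [← hk]
  refine hg ha ?_ (by rw [hk]; omega) (by rw [hk]; omega) (by rw [hk]; linarith) hR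
  rw [show (a + c * e) * (a + c * e + 1) = (k : ℤ) * (2 * e * e) by linear_combination h,
    Int.mul_emod_left]

theorem bound_e {c a e : ℤ} (hc : 0 < c) (ha : -c ≤ a * (a + 1) ∧ a * (a + 1) ≤ c)
    (h : e ∣ a * (a + 1) ∧ (a * (a + 1) = 0 → e ∣ c)) : -c ≤ e ∧ e ≤ c := by
  have : |e| ≤ c := by
    by_cases h0 : a * (a + 1) = 0
    · exact Int.le_of_dvd hc ((abs_dvd _ _).2 (h.2 h0))
    · have h1 : |e| ≤ |a * (a + 1)| := Int.le_of_dvd (abs_pos.2 h0) ((abs_dvd _ _).2 ((dvd_abs _ _).2 h.1))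
      exact h1.trans (abs_le.2 ha)
  exact abs_le.1 this

theorem solve144 {A a : ℤ} {k : ℕ} (hk2 : k % 2 = 1) (hk3 : k % 3 ≠ 0) (hA0 : A ≠ 0)
    (hA1 : A + 1 ≠ 0) (ha : a * a + (a + 1) * (a + 1) < 144)
    (hb : A * A + (A + 1) * (A + 1) < 144 * k)
    (h : (k : ℤ) * (A - a) ^ 2 = 18 * 144 * (A * (A + 1))) :
    k = 2869 ∨ k = 2701 ∨ k = 2329 ∨ k = 2485 := by
  have h8 := dvd_8 hk2 (d := A - a) ⟨81 * (A * (A + 1)), by linear_combination h⟩
  have h9 := dvd_9 hk3 (d := A - a) ⟨32 * (A * (A + 1)), by linear_combination h⟩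
  obtain ⟨e, he⟩ : (72 : ℤ) ∣ A - a := by omega
  have he0 : e ≠ 0 := by
    rintro rfl
    rw [he] at h
    have : A * (A + 1) = 0 := by linarith
    rcases mul_eq_zero.1 this with h | h
    · exact hA0 h
    · exact hA1 h
  have hA : A = a + 72 * e := by omega
  have h' : A * (A + 1) = 2 * k * e ^ 2 := by
    rw [he] at h
    refine mul_left_cancel₀ (show (2592 : ℤ) ≠ 0 by norm_num) ?_
    linear_combination -h
  have ha' : -9 ≤ a ∧ a ≤ 8 := by constructor <;> nlinarith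
  have hpq : -72 ≤ a * (a + 1) ∧ a * (a + 1) ≤ 72 := by constructor <;> nlinarith
  have heb := bound_e (c := 72) (by norm_num) hpq (range_e (by norm_num) hA h' he0)
  have hg := table144 ⟨(a + 9).toNat, by omega⟩ ⟨(e + 72).toNat, by omega⟩
  simp only [show (((a + 9).toNat : ℕ) : ℤ) - 9 = a by omega,
    show (((e + 72).toNat : ℕ) : ℤ) - 72 = e by omega] at hg
  have hmem := finish (by norm_num) hk2 hk3 hA he0 h' ha hb ha'.1 (hg he0)
  simp only [List.mem_cons, List.not_mem_nil, or_false] at hmem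
  omega

theorem solve36 {A a : ℤ} {k : ℕ} (hk2 : k % 2 = 1) (hk3 : k % 3 ≠ 0) (hA0 : A ≠ 0)
    (hA1 : A + 1 ≠ 0) (ha : a * a + (a + 1) * (a + 1) < 36)
    (hb : A * A + (A + 1) * (A + 1) < 36 * k)
    (h : (k : ℤ) * (A - a) ^ 2 = 18 * 36 * (A * (A + 1))) :
    k = 703 ∨ k = 595 := by
  have h4 := dvd_4 hk2 (d := A - a) ⟨81 * (A * (A + 1)), by linear_combination h⟩
  have h9 := dvd_9 hk3 (d := A - a) ⟨8 * (A * (A + 1)), by linear_combination h⟩
  obtain ⟨e, he⟩ : (36 : ℤ) ∣ A - a := by omega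
  have he0 : e ≠ 0 := by
    rintro rfl
    rw [he] at h
    have : A * (A + 1) = 0 := by linarith
    rcases mul_eq_zero.1 this with h | h
    · exact hA0 h
    · exact hA1 h
  have hA : A = a + 36 * e := by omega
  have h' : A * (A + 1) = 2 * k * e ^ 2 := by
    rw [he] at h
    refine mul_left_cancel₀ (show (648 : ℤ) ≠ 0 by norm_num) ?_
    linear_combination -h
  have ha' : -5 ≤ a ∧ a ≤ 4 := by constructor <;> nlinarith
  have hpq : -36 ≤ a * (a + 1) ∧ a * (a + 1) ≤ 36 := by constructor <;> nlinarith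
  have heb := bound_e (c := 36) (by norm_num) hpq (range_e (by norm_num) hA h' he0)
  have hg := table36 ⟨(a + 5).toNat, by omega⟩ ⟨(e + 36).toNat, by omega⟩
  simp only [show (((a + 5).toNat : ℕ) : ℤ) - 5 = a by omega,
    show (((e + 36).toNat : ℕ) : ℤ) - 36 = e by omega] at hg
  have hmem := finish (by norm_num) hk2 hk3 hA he0 h' ha hb ha'.1 (hg he0)
  simp only [List.mem_cons, List.not_mem_nil, or_false] at hmem
  omega

end Cfsg.Agent.DoubleCoverCount74Arith
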