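import Mathlib
import Cfsg.Agent.Lib.FourExceptional

/-!
An involution `z` of a group with one class of involutions, with a subgroup `H` of index two in its
centraliser and a normal subgroup `L` of index three in `H`: the exceptional characters give a
relation for the number of involutions.
-/

set_option autoImplicit false

namespace Cfsg.Agent.DoubleCoverCount74

open scoped ComplexConjugate
open Cfsg.Agent.S3279 (inv_mul_self_eq inv_eq inv_ne_one order_conj)
open Cfsg.Agent.CharBasicOrth Cfsg.Agent.CharBasicDecomp Cfsg.Agent.CharBasic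

universe u

/-- The configuration. -/
structure Config {X : Type u} [Group X] (z : X) (H L : Subgroup X) (m : ℕ) : Prop where
  oz : orderOf z = 2
  oneClass : ∀ t : X, orderOf t = 2 → IsConj z t
  cardM : Nat.card (Subgroup.centralizer ({z} : Set X)) = m
  HM : H ≤ Subgroup.centralizer ({z} : Set X)
  LH : L ≤ H
  cardH : 2 * Nat.card H = m
  cardL : 6 * Nat.card L = m
  zL : z ∈ L
  Ln : ∀ g ∈ Subgroup.centralizer ({z} : Set X), ∀ x ∈ L, g * x * g⁻¹ ∈ L
  Hinv : ∀ v ∈ H, orderOf v = 2 → v = z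
  modL : ∀ v ∈ Subgroup.centralizer ({z} : Set X), v ∉ H → ∀ x ∈ H, v * x * v⁻¹ * x ∈ L
  cent : ∀ x ∈ H, x ∉ L → ∀ y, Commute y x → y ∈ Subgroup.centralizer ({z} : Set X)
  pairs : ∀ x ∈ H, x ∉ L → Nat.card {v : X // v ∈ Subgroup.centralizer ({z} : Set X) ∧ v ∉ H ∧
    v * v = 1 ∧ v * x * v⁻¹ = x⁻¹} = 18

variable {X : Type u} [Group X] {z : X} {H L : Subgroup X} {m : ℕ}

theorem Config.allConj (hc : Config z H L m) :
    ∀ u v : X, orderOf u = 2 → orderOf v = 2 → IsConj u v :=
  fun u v hu hv => (hc.oneClass u hu).symm.trans (hc.oneClass v hv)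

theorem Config.pow_three_mem [Finite X] (hc : Config z H L m) {x : X} (hx : x ∈ H) : x ^ 3 ∈ L := by
  haveI : (L.subgroupOf H).Normal := ⟨fun n hn g => hc.Ln _ (hc.HM g.2) _ hn⟩
  have hidx : (L.subgroupOf H).index = 3 := by
    have h := Subgroup.card_mul_index (L.subgroupOf H)
    rw [Nat.card_congr (Subgroup.subgroupOfEquivOfLe hc.LH).toEquiv] at h
    have h1 := hc.cardH
    have h2 := hc.cardL
    have hpos : 0 < Nat.card L := Nat.card_pos
    refine Nat.eq_of_mul_eq_mul_left hpos ?_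
    omega
  have h := Subgroup.pow_index_mem (L.subgroupOf H) (⟨x, hx⟩ : H)
  rw [hidx, Subgroup.mem_subgroupOf, SubmonoidClass.coe_pow] at h
  exact h

theorem Config.mem_L_of_sq [Finite X] (hc : Config z H L m) {x : X} (hx : x ∈ H) (h2 : x * x ∈ L) :
    x ∈ L := by
  have := L.mul_mem (L.inv_mem h2) (hc.pow_three_mem hx)
  rwa [pow_succ, pow_two, inv_mul_cancel_left] at this

theorem Config.conj_mem_H (hc : Config z H L m) {g x : X}
    (hg : g ∈ Subgroup.centralizer ({z} : Set X)) (hx : x ∈ H) : g * x * g⁻¹ ∈ H := by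
  by_cases hgH : g ∈ H
  · exact H.mul_mem (H.mul_mem hgH hx) (H.inv_mem hgH)
  · have h := H.mul_mem (hc.LH (hc.modL g hg hgH x hx)) (H.inv_mem hx)
    rwa [mul_inv_cancel_right] at h

theorem Config.conj_mem_D (hc : Config z H L m) {g x : X}
    (hg : g ∈ Subgroup.centralizer ({z} : Set X)) (hx : x ∈ H ∧ x ∉ L) :
    g * x * g⁻¹ ∈ H ∧ g * x * g⁻¹ ∉ L := by
  refine ⟨hc.conj_mem_H hg hx.1, fun h => hx.2 ?_⟩
  have := hc.Ln _ (Subgroup.inv_mem _ hg) _ h
  simpa [mul_assoc] using this

theorem Config.cent_le [Finite X] (hc : Config z H L m) {x y : X} (hx : x ∈ H) (hxL : x ∉ L)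
    (hy : Commute y x) : y ∈ H := by
  by_contra hyH
  have h := hc.modL y (hc.cent x hx hxL y hy) hyH x hx
  rw [hy.eq, mul_inv_cancel_right] at h
  exact hxL (hc.mem_L_of_sq hx h)

/-- If an element `h` maps an element of `H \ L` into `H \ L`, it centralises `z`. -/
theorem Config.mem_of_conj [Finite X] (hc : Config z H L m) {h x : X} (hx : x ∈ H ∧ x ∉ L)
    (hx' : h⁻¹ * x * h ∈ H ∧ h⁻¹ * x * h ∉ L) : h ∈ Subgroup.centralizer ({z} : Set X) := by
  have hcz : Commute z (h⁻¹ * x * h) :=
    (Subgroup.mem_centralizer_singleton_iff.1 (hc.HM hx'.1)).symm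
  have h1 := Cfsg.Agent.S3279.commute_conj h hcz
  rw [show h * (h⁻¹ * x * h) * h⁻¹ = x by group] at h1
  have h2 := hc.Hinv _ (hc.cent_le hx.1 hx.2 h1) (by rw [order_conj, hc.oz])
  exact Subgroup.mem_centralizer_singleton_iff.2 (mul_inv_eq_iff_eq_mul.1 h2)

theorem Config.involution_iff [Finite X] (hc : Config z H L m) {x u : X} (hx : x ∈ H ∧ x ∉ L) :
    (orderOf u = 2 ∧ orderOf (u * x) = 2) ↔
      (u ∈ Subgroup.centralizer ({z} : Set X) ∧ u ∉ H ∧ u * u = 1 ∧ u * x * u⁻¹ = x⁻¹) := by
  constructor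
  · rintro ⟨hu, hux⟩
    have hinv : u * x * u⁻¹ = x⁻¹ := by
      have h' := inv_eq hux
      rw [mul_inv_rev, inv_eq hu] at h'
      rw [inv_eq hu, ← h', mul_assoc, inv_mul_self_eq hu, mul_one]
    have hxz : Commute z x := (Subgroup.mem_centralizer_singleton_iff.1 (hc.HM hx.1)).symm
    have hcom := Cfsg.Agent.S3279.commute_conj u hxz
    rw [hinv] at hcom
    have hcom' : Commute (u * z * u⁻¹) x := by simpa using hcom.inv_right
    have h2 := hc.Hinv _ (hc.cent_le hx.1 hx.2 hcom') (by rw [order_conj, hc.oz])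
    refine ⟨Subgroup.mem_centralizer_singleton_iff.2 (mul_inv_eq_iff_eq_mul.1 h2), fun huH => ?_,
      inv_mul_self_eq hu, hinv⟩
    have huz := hc.Hinv u huH hu
    have h3 := hc.Hinv _ (H.mul_mem huH hx.1) hux
    rw [huz] at h3
    exact hx.2 (by rw [mul_eq_left.1 h3]; exact L.one_mem)
  · rintro ⟨-, huH, huu, hinv⟩
    have hu1 : u ≠ 1 := fun h => huH (h ▸ H.one_mem)
    have hux1 : u * x ≠ 1 := fun h => huH (by
      rw [eq_inv_of_mul_eq_one_left h]; exact H.inv_mem hx.1)
    have hu' : u⁻¹ = u := inv_eq_of_mul_eq_one_left huu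
    rw [hu'] at hinv
    refine ⟨orderOf_eq_prime (by rw [pow_two, huu]) hu1, orderOf_eq_prime ?_ hux1⟩
    rw [pow_two]
    calc u * x * (u * x) = u * x * u * x := by group
      _ = 1 := by rw [hinv, inv_mul_cancel]

/-- A linear character of `H` with kernel `L`, on elements. -/
theorem Config.exists_lam [Finite X] (hc : Config z H L m) : ∃ lam : H →* ℂˣ,
    ∀ x : H, ((x : X) ∈ L → lam x = 1) ∧
      ((x : X) ∉ L → (lam x : ℂ) + (lam x : ℂ)⁻¹ = -1) := by
  haveI : (L.subgroupOf H).Normal := ⟨fun n hn g => hc.Ln _ (hc.HM g.2) _ hn⟩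
  have hcardQ : Nat.card (H ⧸ L.subgroupOf H) = 3 := by
    have h := Subgroup.card_mul_index (L.subgroupOf H)
    rw [Nat.card_congr (Subgroup.subgroupOfEquivOfLe hc.LH).toEquiv] at h
    have h1 := hc.cardH
    have h2 := hc.cardL
    have hpos : 0 < Nat.card L := Nat.card_pos
    rw [← Subgroup.index_eq_card]
    refine Nat.eq_of_mul_eq_mul_left hpos ?_
    omega
  haveI : Fact (Nat.Prime 3) := ⟨Nat.prime_three⟩
  haveI : IsCyclic (H ⧸ L.subgroupOf H) := isCyclic_of_prime_card hcardQ
  let e : (H ⧸ L.subgroupOf H) ≃* Multiplicative (ZMod 3) :=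
    mulEquivOfPrimeCardEq hcardQ (by simp)
  obtain ⟨w, hw⟩ : ∃ w : ℂˣ, IsPrimitiveRoot w 3 := by
    have h := Complex.isPrimitiveRoot_exp 3 (by norm_num)
    exact ⟨(h.isUnit (by norm_num)).unit, h.isUnit_unit (by norm_num)⟩
  let z3 : Multiplicative (ZMod 3) →* ℂˣ :=
    { toFun := fun a => w ^ a.toAdd.val
      map_one' := by simp
      map_mul' := fun a b => by
        rw [toAdd_mul, ZMod.val_add, ← pow_add, ← pow_mod_orderOf w (a.toAdd.val + b.toAdd.val),
          ← hw.eq_orderOf] }
  refine ⟨z3.comp (e.toMonoidHom.comp (QuotientGroup.mk' _)), fun x => ⟨fun h => ?_, fun h => ?_⟩⟩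
  · have : (QuotientGroup.mk' (L.subgroupOf H)) x = 1 := (QuotientGroup.eq_one_iff x).2 h
    show z3 (e (QuotientGroup.mk' (L.subgroupOf H) x)) = 1
    rw [this, map_one, map_one]
  · have hne : e (QuotientGroup.mk' (L.subgroupOf H) x) ≠ 1 := fun h' =>
      h ((QuotientGroup.eq_one_iff x).1 (e.injective (h'.trans e.map_one.symm)))
    set a := e (QuotientGroup.mk' (L.subgroupOf H) x) with ha
    have hlam : z3 a ≠ 1 := by
      intro h'
      have hd : 3 ∣ a.toAdd.val := hw.dvd_of_pow_eq_one _ h'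
      have hlt := ZMod.val_lt a.toAdd
      have h0 : a.toAdd.val = 0 := by omega
      exact hne (Multiplicative.toAdd.injective ((ZMod.val_eq_zero _).1 h0))
    have h3 : z3 a ^ 3 = 1 := by
      show (w ^ a.toAdd.val) ^ 3 = 1
      rw [← pow_mul, mul_comm, pow_mul, hw.pow_eq_one, one_pow]
    show (z3 a : ℂ) + (z3 a : ℂ)⁻¹ = -1
    have h3' : (z3 a : ℂ) ^ 3 = 1 := by rw [← Units.val_pow_eq_pow_val, h3, Units.val_one]
    have h1' : (z3 a : ℂ) - 1 ≠ 0 := sub_ne_zero.2 fun h' => hlam (Units.ext h')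
    have hz : (z3 a : ℂ) ^ 2 + (z3 a : ℂ) + 1 = 0 := by
      refine mul_left_cancel₀ h1' ?_
      linear_combination h3'
    field_simp
    linear_combination hz

section Characters

variable [Fintype X]

open scoped Classical

/-- Three times the indicator of `H \ L`. -/
noncomputable def theta (H L : Subgroup X) (y : X) : ℂ := if y ∈ H ∧ y ∉ L then 3 else 0

/-- The induced class function. -/
noncomputable def exc (H L : Subgroup X) (m : ℕ) (y : X) : ℂ :=
  (m : ℂ)⁻¹ * ∑ h : X, theta H L (h⁻¹ * y * h)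

/-- The finset `H \ L`. -/
noncomputable def dset (H L : Subgroup X) : Finset X :=
  Finset.univ.filter fun y => y ∈ H ∧ y ∉ L

theorem sum_theta (F : X → ℂ) : ∑ y, theta H L y * F y = 3 * ∑ y ∈ dset H L, F y := by
  rw [dset, Finset.sum_filter, Finset.mul_sum]
  exact Finset.sum_congr rfl fun y _ => by simp only [theta]; split_ifs <;> simp

theorem isClassFunction_exc : Cfsg.IsClassFunction X (exc H L m) := by
  intro y k
  simp only [exc]
  congr 1
  refine (Equiv.sum_comp (Equiv.mulLeft k⁻¹) (fun h => theta H L (h⁻¹ * y * h))).symm.trans ?_ |>.symm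
  exact Finset.sum_congr rfl fun h _ => by simp [mul_assoc]

theorem classInner_exc {F : X → ℂ} (hF : Cfsg.IsClassFunction X F) :
    Cfsg.classInner (exc H L m) F = (m : ℂ)⁻¹ * (3 * ∑ y ∈ dset H L, conj (F y)) := by
  have hsum : ∀ h : X, ∑ y, theta H L (h⁻¹ * y * h) * conj (F y) =
      ∑ y, theta H L y * conj (F y) := by
    intro h
    rw [← Equiv.sum_comp (MulAut.conj h).toEquiv]
    refine Finset.sum_congr rfl fun y _ => ?_
    have e2 : F ((MulAut.conj h).toEquiv y) = F y := hF y h
    rw [e2]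
    simp [mul_assoc]
  have hA : ∑ y, exc H L m y * conj (F y) =
      (m : ℂ)⁻¹ * ∑ h : X, ∑ y, theta H L (h⁻¹ * y * h) * conj (F y) := by
    rw [Finset.sum_comm (γ := X), Finset.mul_sum]
    exact Finset.sum_congr rfl fun y _ => by rw [exc, mul_assoc, Finset.sum_mul]
  simp only [Cfsg.classInner]
  rw [hA, Finset.sum_congr rfl fun h _ => hsum h, Finset.sum_const, nsmul_eq_mul,
    Finset.card_univ, ← Nat.card_eq_fintype_card, sum_theta (fun y => conj (F y))]
  have : (Nat.card X : ℂ) ≠ 0 := Nat.cast_ne_zero.2 Nat.card_pos.ne'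
  field_simp

theorem Config.card_dset (hc : Config z H L m) : 3 * (dset H L).card = m := by
  have e : dset H L = (Finset.univ.filter fun y => y ∈ H) \ (Finset.univ.filter fun y => y ∈ L) := by
    ext y; simp [dset]
  have cH : (Finset.univ.filter fun y => y ∈ H).card = Nat.card H := by
    rw [Nat.card_eq_fintype_card, Fintype.card_subtype]
  have cL : (Finset.univ.filter fun y => y ∈ L).card = Nat.card L := by
    rw [Nat.card_eq_fintype_card, Fintype.card_subtype]
  rw [e, Finset.card_sdiff_of_subset (fun y hy => by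
    simp only [Finset.mem_filter, Finset.mem_univ, true_and] at hy ⊢; exact hc.LH hy), cH, cL]
  have h1 := hc.cardH
  have h2 := hc.cardL
  omega

theorem Config.exc_one (hc : Config z H L m) : exc H L m 1 = 0 := by
  have : theta H L 1 = 0 := if_neg fun h => h.2 L.one_mem
  simp [exc, this]

theorem Config.exc_z (hc : Config z H L m) : exc H L m z = 0 := by
  have hz : ∀ h : X, theta H L (h⁻¹ * z * h) = 0 := fun h => if_neg fun hD => hD.2 (by
    rw [hc.Hinv _ hD.1 (by simpa [hc.oz] using order_conj h⁻¹ z)]; exact hc.zL)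
  simp [exc, hz]

theorem Config.exc_mem (hc : Config z H L m) {x : X} (hx : x ∈ H ∧ x ∉ L) :
    exc H L m x = 3 := by
  have key : ∀ h : X, theta H L (h⁻¹ * x * h) =
      if h ∈ Subgroup.centralizer ({z} : Set X) then 3 else 0 := by
    intro h
    simp only [theta]
    refine if_congr ⟨fun h' => hc.mem_of_conj hx h', fun h' => ?_⟩ rfl rfl
    simpa using hc.conj_mem_D (Subgroup.inv_mem _ h') hx
  have hm : 0 < m := by rw [← hc.cardM]; exact Nat.card_pos
  rw [exc, Finset.sum_congr rfl fun h _ => key h, ← Finset.sum_filter, Finset.sum_const,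
    nsmul_eq_mul, ← Fintype.card_subtype, ← Nat.card_eq_fintype_card, hc.cardM, ← mul_assoc,
    inv_mul_cancel₀ (Nat.cast_ne_zero.2 hm.ne'), one_mul]

theorem Config.exists_int_inner (hc : Config z H L m) {χ : X → ℂ} (hχ : Cfsg.IsCharacter X χ) :
    ∃ v : ℤ, Cfsg.classInner (exc H L m) χ = v := by
  have hcl := isClassFunction_of_isCharacter hχ
  obtain ⟨lam, hlam⟩ := hc.exists_lam
  have hres : Cfsg.IsCharacter H (fun a => χ (a : X)) := isCharacter_comap H.subtype hχ
  have hinner : ∀ (μ : H →* ℂˣ), ∃ n : ℕ, ∑ a : H, χ (a : X) * (μ a : ℂ) =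
      (Fintype.card H : ℂ) * n := by
    intro μ
    obtain ⟨n, hn⟩ := classInner_isCharacter
      (isCharacter_mul hres (isCharacter_linear μ)) (isCharacter_one (G := H))
    refine ⟨n, ?_⟩
    rw [← hn]
    simp [Cfsg.classInner]
  obtain ⟨n0, h0⟩ := hinner 1
  obtain ⟨n1, h1⟩ := hinner lam
  obtain ⟨v, hvM, hvH⟩ : ∃ v, v ∈ Subgroup.centralizer ({z} : Set X) ∧ v ∉ H := by
    by_contra hne
    push Not at hne
    have := Subgroup.card_le_of_le hne
    rw [hc.cardM] at this
    have h2 := hc.cardH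
    have hpos : 0 < Nat.card H := Nat.card_pos
    omega
  -- conjugation by `v` inverts `lam`
  let sg : H → H := fun a => ⟨v * a * v⁻¹, hc.conj_mem_H hvM a.2⟩
  have hsg : Function.Bijective sg := Finite.injective_iff_bijective.1 fun a b h =>
    Subtype.ext (mul_left_cancel (mul_right_cancel (congrArg Subtype.val h)))
  have hinvsum : ∑ a : H, χ (a : X) * ((lam a : ℂ))⁻¹ = ∑ a : H, χ (a : X) * (lam a : ℂ) := by
    refine Fintype.sum_bijective sg hsg _ _ fun a => ?_
    have h1 : lam (sg a) * lam a = 1 := by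
      rw [← map_mul]
      exact (hlam (sg a * a)).1 (hc.modL v hvM hvH a a.2)
    have h2 : χ (sg a : X) = χ (a : X) := hcl a v
    rw [h2, eq_inv_of_mul_eq_one_left h1, Units.val_inv_eq_inv_val]
  have hsum : 3 * ∑ y ∈ dset H L, χ y = 2 * (Fintype.card H : ℂ) * ((n0 : ℂ) - n1) := by
    have e : ∀ a : H, (lam a : ℂ) + (lam a : ℂ)⁻¹ = 2 - (if (a : X) ∉ L then 3 else 0) := by
      intro a
      by_cases ha : (a : X) ∈ L
      · rw [if_neg (not_not.2 ha), (hlam a).1 ha]; norm_num
      · rw [if_pos ha, (hlam a).2 ha]; norm_num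
    have e2 : ∑ a : H, χ (a : X) * (if (a : X) ∉ L then (3 : ℂ) else 0) =
        3 * ∑ y ∈ dset H L, χ y := by
      have hsub : ∑ y ∈ Finset.univ.filter (fun y => y ∈ H),
          χ y * (if y ∉ L then (3 : ℂ) else 0) =
          ∑ a : H, χ (a : X) * (if (a : X) ∉ L then (3 : ℂ) else 0) :=
        Finset.sum_subtype (p := fun y => y ∈ H) (F := inferInstance) _ (by simp) _
      rw [← hsub, Finset.mul_sum, dset, Finset.sum_filter, Finset.sum_filter]
      refine Finset.sum_congr rfl fun y _ => ?_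
      by_cases hy : y ∈ H <;> by_cases hyL : y ∈ L <;> simp [hy, hyL, mul_comm]
    have e3 : ∑ a : H, χ (a : X) * ((lam a : ℂ) + (lam a : ℂ)⁻¹) =
        2 * ∑ a : H, χ (a : X) - 3 * ∑ y ∈ dset H L, χ y := by
      simp only [e, mul_sub, Finset.sum_sub_distrib, e2, Finset.mul_sum]
      exact congrArg (fun s => s - _) (Finset.sum_congr rfl fun a _ => mul_comm _ _)
    simp only [mul_add, Finset.sum_add_distrib, hinvsum, h1] at e3
    simp only [MonoidHom.one_apply, Units.val_one, mul_one] at h0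
    rw [h0] at e3
    linear_combination e3
  refine ⟨(n0 : ℤ) - n1, ?_⟩
  have hm : (m : ℂ) = 2 * (Fintype.card H : ℂ) := by
    rw [← hc.cardH, Nat.card_eq_fintype_card]; push_cast; ring
  have hH0 : (Fintype.card H : ℂ) ≠ 0 := Nat.cast_ne_zero.2 Fintype.card_ne_zero
  have := congrArg conj hsum
  simp only [map_mul, map_sub, map_sum, map_natCast, map_ofNat] at this
  rw [classInner_exc hcl, this, hm]
  push_cast
  field_simp

theorem Config.exists_int_z (hc : Config z H L m) {χ : X → ℂ} (hχ : Cfsg.IsCharacter X χ) :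
    ∃ k : ℤ, χ z = k := by
  obtain ⟨n, hn⟩ := isCharacter_apply_one hχ
  have hcard : Nat.card (Subgroup.zpowers z) = 2 := by rw [Nat.card_zpowers, hc.oz]
  obtain ⟨j, hj⟩ := classInner_isCharacter (isCharacter_comap (Subgroup.zpowers z).subtype hχ)
    (isCharacter_one (G := Subgroup.zpowers z))
  have huniv : (Finset.univ : Finset (Subgroup.zpowers z)) = {1, ⟨z, Subgroup.mem_zpowers z⟩} := by
    refine (Finset.eq_univ_of_card _ ?_).symm
    rw [← Nat.card_eq_fintype_card, hcard, Finset.card_pair]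
    intro h
    exact inv_ne_one hc.oz (congrArg Subtype.val h).symm
  have hF : Fintype.card (Subgroup.zpowers z) = 2 := by rw [← Nat.card_eq_fintype_card, hcard]
  simp [Cfsg.classInner, huniv, hF, Ne.symm (inv_ne_one hc.oz), Subtype.ext_iff] at hj
  exact ⟨2 * (j : ℤ) - n, by push_cast; rw [← hj, ← hn]; ring⟩

theorem Config.sum_pairs (hc : Config z H L m) :
    ∑ u ∈ Finset.univ.filter (fun u : X => orderOf u = 2),
      ∑ v ∈ Finset.univ.filter (fun u : X => orderOf u = 2), exc H L m (u * v) =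
      18 * (Nat.card X : ℂ) := by
  set I := Finset.univ.filter fun u : X => orderOf u = 2 with hI
  have hinner : ∀ u ∈ I, ∑ v ∈ I, theta H L (u * v) =
      3 * ∑ x ∈ dset H L, if orderOf (u * x) = 2 then (1 : ℂ) else 0 := by
    intro u hu
    have hu2 : orderOf u = 2 := (Finset.mem_filter.1 hu).2
    rw [← sum_theta (fun x => if orderOf (u * x) = 2 then (1 : ℂ) else 0), hI, Finset.sum_filter,
      ← Equiv.sum_comp (Equiv.mulLeft u)]
    refine Finset.sum_congr rfl fun x _ => ?_
    simp only [Equiv.coe_mulLeft, ← mul_assoc u u x, inv_mul_self_eq hu2, one_mul]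
    split_ifs <;> simp
  have htot : ∑ u ∈ I, ∑ v ∈ I, theta H L (u * v) = 18 * (m : ℂ) := by
    rw [Finset.sum_congr rfl hinner, ← Finset.mul_sum, Finset.sum_comm]
    have h18 : ∀ x ∈ dset H L, ∑ u ∈ I, (if orderOf (u * x) = 2 then (1 : ℂ) else 0) = 18 := by
      intro x hx
      have hx' : x ∈ H ∧ x ∉ L := (Finset.mem_filter.1 hx).2
      rw [← Finset.sum_filter, Finset.sum_const, nsmul_one, hI, Finset.filter_filter]
      have h := hc.pairs x hx'.1 hx'.2
      rw [Nat.card_eq_fintype_card, Fintype.card_subtype] at h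
      rw [Finset.filter_congr fun u _ => hc.involution_iff (u := u) hx']
      exact_mod_cast h
    rw [Finset.sum_congr rfl h18, Finset.sum_const, nsmul_eq_mul, ← hc.card_dset]
    push_cast
    ring
  have hconj : ∀ h : X, ∑ u ∈ I, ∑ v ∈ I, theta H L (h⁻¹ * (u * v) * h) = 18 * (m : ℂ) := by
    intro h
    rw [← htot]
    refine Finset.sum_equiv (MulAut.conj h⁻¹).toEquiv ?_ fun u _ => ?_
    · intro u; simp only [hI, Finset.mem_filter, Finset.mem_univ, true_and]
      show _ ↔ orderOf (h⁻¹ * u * h⁻¹⁻¹) = 2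
      rw [order_conj]
    refine Finset.sum_equiv (MulAut.conj h⁻¹).toEquiv ?_ fun v _ => ?_
    · intro u; simp only [hI, Finset.mem_filter, Finset.mem_univ, true_and]
      show _ ↔ orderOf (h⁻¹ * u * h⁻¹⁻¹) = 2
      rw [order_conj]
    · simp [mul_assoc]
  have hm : (m : ℂ) ≠ 0 := by rw [← hc.cardM]; exact Nat.cast_ne_zero.2 Nat.card_pos.ne'
  simp only [exc, ← Finset.mul_sum]
  rw [Finset.sum_congr rfl fun u _ => Finset.sum_comm, Finset.sum_comm,
    Finset.sum_congr rfl fun h _ => hconj h, Finset.sum_const, nsmul_eq_mul, Finset.card_univ,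
    ← Nat.card_eq_fintype_card]
  field_simp

end Characters

/-- The relation for the number `k` of involutions. -/
theorem Config.relation [Finite X] (hc : Config z H L m) :
    ∃ (k : ℕ) (A a : ℤ), Nat.card X = m * k ∧ A ≠ 0 ∧ A + 1 ≠ 0 ∧
      a * a + (a + 1) * (a + 1) < m ∧ A * A + (A + 1) * (A + 1) < (m : ℤ) * k ∧
      (k : ℤ) * (A - a) ^ 2 = 18 * m * (A * (A + 1)) := by
  classical
  haveI := Fintype.ofFinite X
  set o := trivIrr X
  choose v hv using fun χ : Cfsg.IrrCharacter X => hc.exists_int_inner (isCharacter_of_isIrrCharacter χ.2)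
  choose k hk using fun χ : Cfsg.IrrCharacter X => hc.exists_int_z (isCharacter_of_isIrrCharacter χ.2)
  choose n hn using fun χ : Cfsg.IrrCharacter X => isCharacter_apply_one (isCharacter_of_isIrrCharacter χ.2)
  have hcl := isClassFunction_exc (H := H) (L := L) (m := m)
  have hF : exc H L m = ∑ χ, (v χ : ℂ) • (χ : X → ℂ) := by
    conv_lhs => rw [eq_sum_classInner hcl]
    exact Finset.sum_congr rfl fun χ _ => by rw [hv]
  have hm0 : (m : ℂ) ≠ 0 := by rw [← hc.cardM]; exact Nat.cast_ne_zero.2 Nat.card_pos.ne'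
  have hdset : (3 : ℂ) * ((dset H L).card : ℂ) = m := by exact_mod_cast hc.card_dset
  have hvo : v o = 1 := by
    have h := hv o
    rw [classInner_exc (isClassFunction_of_isCharacter (isCharacter_of_isIrrCharacter o.2))] at h
    have h1 : ∀ y : X, (o : X → ℂ) y = 1 := fun y => rfl
    simp only [h1, map_one, Finset.sum_const, nsmul_one, hdset, inv_mul_cancel₀ hm0] at h
    exact_mod_cast h.symm
  have hv3 : ∑ χ, v χ * v χ = 3 := by
    have h := classInner_eq_sum (φ := exc H L m) hcl
    rw [classInner_exc hcl] at h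
    have e : ∀ x ∈ dset H L, conj (exc H L m x) = 3 := fun x hx => by
      rw [hc.exc_mem (Finset.mem_filter.1 hx).2, map_ofNat]
    rw [Finset.sum_congr rfl e, Finset.sum_const, nsmul_eq_mul] at h
    rw [show (3 : ℂ) * (((dset H L).card : ℂ) * 3) = (m : ℂ) * 3 by rw [← hdset]; ring,
      inv_mul_cancel_left₀ hm0] at h
    simp only [hv, map_intCast] at h
    exact_mod_cast h.symm
  set V := Finset.univ.filter fun χ : Cfsg.IrrCharacter X => χ ≠ o ∧ v χ ≠ 0 with hV
  have hsplit0 : ∀ {N : Type} [AddCommMonoid N] (f : Cfsg.IrrCharacter X → N),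
      (∀ χ, v χ = 0 → f χ = 0) → ∑ χ, f χ = f o + ∑ χ ∈ V, f χ := by
    intro N _ f hf
    rw [← Finset.add_sum_erase _ _ (Finset.mem_univ o)]
    congr 1
    refine (Finset.sum_subset (fun i hi => Finset.mem_erase.2
      ⟨(Finset.mem_filter.1 hi).2.1, Finset.mem_univ _⟩) fun i hi hiV => hf i ?_).symm
    by_contra hne
    exact hiV (Finset.mem_filter.2 ⟨Finset.mem_univ _, (Finset.mem_erase.1 hi).1, hne⟩)
  have hsum2 : ∑ χ ∈ V, v χ * v χ = 2 := by
    have h := hsplit0 (fun χ => v χ * v χ) (fun χ h => by simp [h])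
    rw [hv3, hvo] at h
    omega
  have hone : ∀ χ ∈ V, v χ = 1 ∨ v χ = -1 := by
    intro χ hχ
    have hne := (Finset.mem_filter.1 hχ).2.2
    have hle : v χ * v χ ≤ 2 := hsum2 ▸ Finset.single_le_sum
      (f := fun χ => v χ * v χ) (fun i _ => mul_self_nonneg (v i)) hχ
    have : -1 ≤ v χ ∧ v χ ≤ 1 := by constructor <;> nlinarith
    omega
  have hV2 : V.card = 2 := by
    have h := Finset.sum_congr rfl (fun χ hχ =>
      (by rcases hone χ hχ with h | h <;> rw [h] <;> rfl : v χ * v χ = 1)) (s₁ := V)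
    rw [hsum2] at h
    simp at h
    omega
  obtain ⟨P, Q, hPQ, hVeq⟩ := Finset.card_eq_two.1 hV2
  have hPV : P ∈ V := by simp [hVeq]
  have hQV : Q ∈ V := by simp [hVeq]
  have hsplit : ∀ f : Cfsg.IrrCharacter X → ℂ, (∀ χ, v χ = 0 → f χ = 0) →
      ∑ χ, f χ = f o + (f P + f Q) := by
    intro f hf
    rw [hsplit0 f hf, hVeq, Finset.sum_pair hPQ]
  have hno : n o = 1 := by
    have h : ((n o : ℕ) : ℂ) = ((1 : ℕ) : ℂ) := by rw [← hn o]; simp [o, trivIrr]
    exact Nat.cast_injective h
  have hko : k o = 1 := by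
    have h : ((k o : ℤ) : ℂ) = ((1 : ℤ) : ℂ) := by rw [← hk o]; simp [o, trivIrr]
    exact Int.cast_injective h
  have hz1 : 1 + (v P * n P + v Q * n Q) = 0 := by
    have h := congrFun hF 1
    rw [hc.exc_one, Finset.sum_apply, hsplit _ (fun χ h => by simp [h])] at h
    simp only [Pi.smul_apply, smul_eq_mul, hn, hvo, hno] at h
    have : ((1 + (v P * n P + v Q * n Q) : ℤ) : ℂ) = ((0 : ℤ) : ℂ) := by
      push_cast at h ⊢; linear_combination -h
    exact Int.cast_injective this
  have hzz : 1 + (v P * k P + v Q * k Q) = 0 := by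
    have h := congrFun hF z
    rw [hc.exc_z, Finset.sum_apply, hsplit _ (fun χ h => by simp [h])] at h
    simp only [Pi.smul_apply, smul_eq_mul, hk, hvo, hko] at h
    have : ((1 + (v P * k P + v Q * k Q) : ℤ) : ℂ) = ((0 : ℤ) : ℂ) := by
      push_cast at h ⊢; linear_combination -h
    exact Int.cast_injective this
  set I := Finset.univ.filter fun u : X => orderOf u = 2 with hI
  have hIN : m * I.card = Nat.card X := by
    rw [← card_conj_mul_card_centralizer z, hc.cardM, mul_comm]
    congr 1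
    rw [Nat.card_eq_fintype_card, Fintype.card_subtype, hI]
    congr 1
    ext w
    simp only [Finset.mem_filter, Finset.mem_univ, true_and]
    exact ⟨fun h => hc.oneClass w h, fun h => Cfsg.Agent.S3279.orderOf_eq_of_isConj hc.oz h⟩
  have hcol : k P * k P + k Q * k Q < m := by
    have h := sum_irr_mul_conj z z
    rw [if_pos (IsConj.refl z), hc.cardM] at h
    simp only [hk, map_intCast] at h
    have h8 : ∑ χ, k χ * k χ = (m : ℤ) := by exact_mod_cast h
    have hle : ∑ χ ∈ insert o V, k χ * k χ ≤ ∑ χ, k χ * k χ :=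
      Finset.sum_le_sum_of_subset_of_nonneg (Finset.subset_univ _) fun i _ _ => mul_self_nonneg _
    rw [Finset.sum_insert (by simp [hV]), hVeq, Finset.sum_pair hPQ, hko, h8] at hle
    omega
  have hdeg : (n P : ℤ) * n P + (n Q : ℤ) * n Q < (Nat.card X : ℤ) := by
    have h := sum_irr_mul_conj (1 : X) 1
    rw [if_pos (IsConj.refl 1)] at h
    have htop : Subgroup.centralizer ({(1 : X)} : Set X) = ⊤ :=
      eq_top_iff.2 fun y _ => Subgroup.mem_centralizer_singleton_iff.2 (by simp)
    simp only [hn, map_natCast, htop, Subgroup.card_top] at h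
    have h8 : ∑ χ, (n χ : ℤ) * n χ = (Nat.card X : ℤ) := by exact_mod_cast h
    have hle : ∑ χ ∈ insert o V, (n χ : ℤ) * n χ ≤ ∑ χ, (n χ : ℤ) * n χ :=
      Finset.sum_le_sum_of_subset_of_nonneg (Finset.subset_univ _) fun i _ _ => mul_self_nonneg _
    rw [Finset.sum_insert (by simp [hV]), hVeq, Finset.sum_pair hPQ, hno, h8] at hle
    omega
  have hmain : 18 * (Nat.card X : ℂ) = ∑ χ, (v χ : ℂ) *
      (((I.card : ℂ) * (χ : X → ℂ) z) ^ 2 / (χ : X → ℂ) 1) := by
    rw [← hc.sum_pairs]
    simp only [hF, Finset.sum_apply, Pi.smul_apply, smul_eq_mul]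
    rw [Finset.sum_congr rfl fun u _ => Finset.sum_comm, Finset.sum_comm]
    refine Finset.sum_congr rfl fun χ _ => ?_
    simp only [← Finset.mul_sum]
    rw [Cfsg.Agent.FourExceptional.sum_involution_pairs hc.allConj hc.oz χ]
  rw [hsplit _ (fun χ h => by simp [h]), hvo] at hmain
  simp only [hn, hk, hno, hko] at hmain
  have hpos : ∀ χ, 0 < n χ := fun χ => Nat.pos_of_ne_zero fun h0 =>
    isIrrCharacter_apply_one_ne_zero χ.2 (by rw [hn, h0, Nat.cast_zero])
  have hPn := hpos P
  have hQn := hpos Q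
  refine ⟨I.card, v P * n P, v P * k P, hIN.symm, ?_, ?_, ?_, ?_, ?_⟩
  · rcases hone P hPV with hP | hP <;> rw [hP] <;> omega
  · rcases hone P hPV with hP | hP <;> rcases hone Q hQV with hQ | hQ <;>
      simp only [hP, hQ] at hz1 ⊢ <;> omega
  · rcases hone P hPV with hP | hP <;> rcases hone Q hQV with hQ | hQ <;>
      simp only [hP, hQ] at hzz ⊢
    all_goals
      first
      | (have : k Q = -1 - k P := by omega
         rw [this] at hcol; linarith)
      | (have : k Q = 1 + k P := by omega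
         rw [this] at hcol; linarith)
      | (have : k Q = k P - 1 := by omega
         rw [this] at hcol; linarith)
      | (have : k Q = 1 - k P := by omega
         rw [this] at hcol; linarith)
  · have hX : ((m : ℤ) * I.card) = (Nat.card X : ℤ) := by exact_mod_cast hIN
    rw [hX]
    rcases hone P hPV with hP | hP <;> rcases hone Q hQV with hQ | hQ <;>
      simp only [hP, hQ] at hz1 ⊢
    all_goals
      first
      | (have : (n Q : ℤ) = -1 - n P := by omega
         rw [this] at hdeg; linarith)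
      | (have : (n Q : ℤ) = 1 + n P := by omega
         rw [this] at hdeg; linarith)
      | (have : (n Q : ℤ) = n P - 1 := by omega
         rw [this] at hdeg; linarith)
      | (have : (n Q : ℤ) = 1 - n P := by omega
         rw [this] at hdeg; linarith)
  · have hP0 : (n P : ℂ) ≠ 0 := Nat.cast_ne_zero.2 hPn.ne'
    have hQ0 : (n Q : ℂ) ≠ 0 := Nat.cast_ne_zero.2 hQn.ne'
    have hI0 : (I.card : ℂ) ≠ 0 := by
      have := Nat.card_pos (α := X)
      have : I.card ≠ 0 := fun h => by rw [h] at hIN; omega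
      exact Nat.cast_ne_zero.2 this
    rw [← hIN] at hmain
    push_cast at hmain
    field_simp at hmain
    have hmainZ : ((18 * (m : ℤ) * (n P * n Q) : ℤ) : ℂ) = (((I.card : ℤ) *
        (n P * n Q + v P * k P ^ 2 * n Q + v Q * k Q ^ 2 * n P) : ℤ) : ℂ) := by
      push_cast
      linear_combination hmain
    have h' := Int.cast_injective hmainZ
    rcases hone P hPV with hP | hP <;> rcases hone Q hQV with hQ | hQ <;>
      simp only [hP, hQ] at hz1 hzz h' ⊢
    all_goals
      first
      | omega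
      | (have eQ : (n Q : ℤ) = 1 + n P := by omega
         have eK : k Q = 1 + k P := by omega
         rw [eQ, eK] at h'; linear_combination -h')
      | (have eQ : (n Q : ℤ) = n P - 1 := by omega
         have eK : k Q = k P - 1 := by omega
         rw [eQ, eK] at h'; linear_combination -h')

end Cfsg.Agent.DoubleCoverCount74
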