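import Mathlib

/-!
Sylow arguments for groups of order `m * k` in which the centralisers of elements of order two and
three have order dividing `m`.
-/

set_option autoImplicit false

namespace Cfsg.Agent.DoubleCoverCount74Sylow

variable {X : Type*} [Group X]

/-- The local hypotheses. -/
structure Facts (X : Type*) [Group X] (m : ℕ) : Prop where
  two : ∀ t : X, orderOf t = 2 → Nat.card (Subgroup.centralizer ({t} : Set X)) ∣ m
  three : ∀ x : X, orderOf x = 3 → Nat.card (Subgroup.centralizer ({x} : Set X)) ∣ m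
  nine : ∀ x : X, orderOf x ≠ 9

theorem mem_centralizer_of_normalizer [Finite X] {A : Subgroup X} {q : ℕ} (hq : q.Prime)
    (hA : Nat.card A = q) {b : X} (hb : b ∈ Subgroup.normalizer (A : Set X))
    (hcop : Nat.Coprime (orderOf b) (q - 1)) : b ∈ Subgroup.centralizer (A : Set X) := by
  haveI : Fact q.Prime := ⟨hq⟩
  haveI : IsCyclic A := isCyclic_of_prime_card hA
  let φ := A.normalizerMonoidHom
  have h1 : orderOf (φ ⟨b, hb⟩) ∣ orderOf b := by
    have := orderOf_map_dvd φ ⟨b, hb⟩
    rwa [Subgroup.orderOf_mk] at this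
  have h2 : orderOf (φ ⟨b, hb⟩) ∣ q - 1 := by
    have := orderOf_dvd_natCard (φ ⟨b, hb⟩)
    rwa [IsCyclic.card_mulAut, hA, Nat.totient_prime hq] at this
  have h3 : φ ⟨b, hb⟩ = 1 :=
    orderOf_eq_one_iff.1 (Nat.eq_one_of_dvd_coprimes hcop h1 h2)
  have : (⟨b, hb⟩ : Subgroup.normalizer (A : Set X)) ∈ φ.ker := h3
  rwa [Subgroup.normalizerMonoidHom_ker, Subgroup.mem_subgroupOf] at this

/-- An element of order `p` (prime, not dividing `m`) does not commute with involutions or
elements of order three. -/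
theorem Facts.not_commute [Finite X] {m p : ℕ} (hf : Facts X m) (hpm : ¬ p ∣ m) {s y : X}
    (hs : orderOf s = 2 ∨ orderOf s = 3) (hy : orderOf y = p) : ¬ Commute y s := by
  intro hc
  refine hpm ?_
  have hdvd : Nat.card (Subgroup.centralizer ({s} : Set X)) ∣ m := hs.elim (hf.two s) (hf.three s)
  have hmem : y ∈ Subgroup.centralizer ({s} : Set X) :=
    Subgroup.mem_centralizer_singleton_iff.2 hc.eq
  have := orderOf_dvd_natCard (⟨y, hmem⟩ : Subgroup.centralizer ({s} : Set X))
  rw [Subgroup.orderOf_mk, hy] at this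
  exact this.trans hdvd

theorem exists_order [Finite X] {K : Subgroup X} {p : ℕ} (hp : p.Prime) (h : p ∣ Nat.card K) :
    ∃ y ∈ K, orderOf y = p := by
  haveI : Fact p.Prime := ⟨hp⟩
  obtain ⟨y, hy⟩ := exists_prime_orderOf_dvd_card' p h
  exact ⟨y, y.2, by rwa [Subgroup.orderOf_coe]⟩

theorem mem_centralizer_zpowers {g b : X}
    (h : b ∈ Subgroup.centralizer ((Subgroup.zpowers g : Subgroup X) : Set X)) : Commute g b :=
  Subgroup.mem_centralizer_iff.1 h g (Subgroup.mem_zpowers g)

/-- `9` does not divide the order of the normaliser of a subgroup of prime order `p`. -/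
theorem Facts.not_nine [Finite X] {m p : ℕ} (hf : Facts X m) (hp : p.Prime) (hpm : ¬ p ∣ m)
    {P : Subgroup X} (hP : Nat.card P = p) :
    ¬ 9 ∣ Nat.card (Subgroup.normalizer (P : Set X)) := by
  intro h9
  haveI : Fact (Nat.Prime 3) := ⟨Nat.prime_three⟩
  haveI : Fact p.Prime := ⟨hp⟩
  haveI : IsCyclic P := isCyclic_of_prime_card hP
  obtain ⟨Q, hQ⟩ := Sylow.exists_subgroup_card_pow_prime 3 (n := 2) h9
  let φ : Q →* MulAut P := P.normalizerMonoidHom.comp Q.subtype
  obtain ⟨y, hyP, hy⟩ := exists_order (K := P) hp (by rw [hP])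
  have hinj : Function.Injective φ := by
    rw [← MonoidHom.ker_eq_bot_iff, Subgroup.eq_bot_iff_forall]
    intro g hg
    by_contra hne
    have h3 : ∀ k : ℕ, orderOf g ∣ 3 ^ k → k = 2 → orderOf g = 3 ∨ orderOf g = 9 := by
      rintro k hk rfl
      obtain ⟨j, hj, e⟩ := (Nat.dvd_prime_pow Nat.prime_three).1 hk
      interval_cases j
      · exact absurd (orderOf_eq_one_iff.1 (by simpa using e)) hne
      · exact Or.inl (by simpa using e)
      · exact Or.inr (by simpa using e)
    have hcoe : orderOf ((g : Subgroup.normalizer (P : Set X)) : X) = orderOf g := by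
      rw [Subgroup.orderOf_coe, Subgroup.orderOf_coe]
    rcases h3 2 (hQ ▸ orderOf_dvd_natCard g) rfl with h | h
    swap
    · exact hf.nine _ (hcoe.trans h)
    have hk : (g : Subgroup.normalizer (P : Set X)) ∈ P.normalizerMonoidHom.ker := hg
    rw [Subgroup.normalizerMonoidHom_ker, Subgroup.mem_subgroupOf] at hk
    exact hf.not_commute hpm (Or.inr (hcoe.trans h)) hy (Subgroup.mem_centralizer_iff.1 hk y hyP)
  haveI : IsCyclic (MulAut P) := by
    haveI : IsCyclic (ZMod (Nat.card P))ˣ := by rw [hP]; exact ZMod.isCyclic_units_prime hp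
    exact isCyclic_of_surjective (IsCyclic.mulAutMulEquiv P).symm.toMonoidHom
      (IsCyclic.mulAutMulEquiv P).symm.surjective
  haveI : IsCyclic Q := isCyclic_of_injective φ hinj
  obtain ⟨g, hg⟩ := IsCyclic.exists_ofOrder_eq_natCard (α := Q)
  refine hf.nine ((g : Subgroup.normalizer (P : Set X)) : X) ?_
  rw [Subgroup.orderOf_coe, Subgroup.orderOf_coe, hg, hQ]
  norm_num

theorem exists_sylow [Finite X] {p r : ℕ} (hp : p.Prime) (hr : ¬ p ∣ r)
    (hX : Nat.card X = p * r) (P : Subgroup X) (hP : Nat.card P = p) :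
    ∃ S : Sylow p X, (S : Subgroup X) = P := by
  haveI : Fact p.Prime := ⟨hp⟩
  have hr0 : r ≠ 0 := fun h => hr (h ▸ dvd_zero p)
  refine ⟨Sylow.ofCard P ?_, rfl⟩
  rw [hP, hX, Nat.factorization_mul hp.ne_zero hr0, Finsupp.add_apply,
    Nat.factorization_eq_zero_of_not_dvd hr, hp.factorization_self, pow_one]

/-- Sylow's theorems for a subgroup of prime order. -/
theorem sylow_data [Finite X] {p r : ℕ} (hp : p.Prime) (hr : ¬ p ∣ r)
    (hX : Nat.card X = p * r) {P : Subgroup X} (hP : Nat.card P = p) :
    ∃ n : ℕ, n ∣ r ∧ n % p = 1 ∧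
      Nat.card (Subgroup.normalizer (P : Set X)) * n = Nat.card X := by
  haveI : Fact p.Prime := ⟨hp⟩
  obtain ⟨S, hS⟩ := exists_sylow hp hr hX P hP
  refine ⟨(Subgroup.normalizer (P : Set X)).index, ?_, ?_, Subgroup.card_mul_index _⟩
  · have h1 := Subgroup.index_dvd_of_le (Subgroup.le_normalizer (H := P))
    have h2 := P.card_mul_index
    rw [hP, hX] at h2
    rwa [Nat.eq_of_mul_eq_mul_left hp.pos h2] at h1
  · have h := card_sylow_modEq_one p X
    rw [S.card_eq_index_normalizer, show (S : Set X) = (P : Set X) by rw [← hS]; rfl] at h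
    exact Eq.trans h (Nat.mod_eq_of_lt hp.one_lt)

/-- The count in a subgroup `K` containing `P`. -/
theorem sylow_inner [Finite X] {p r : ℕ} (hp : p.Prime) (hr : ¬ p ∣ r) {P K : Subgroup X}
    (hPK : P ≤ K) (hP : Nat.card P = p) (hK : Nat.card K = p * r) :
    ∃ n : ℕ, n ∣ r ∧ n % p = 1 ∧
      Nat.card (Subgroup.normalizer (P : Set X) ⊓ K : Subgroup X) * n = p * r := by
  obtain ⟨n, h1, h2, h3⟩ := sylow_data hp hr hK (P := P.subgroupOf K)
    ((Nat.card_congr (Subgroup.subgroupOfEquivOfLe hPK).toEquiv).trans hP)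
  refine ⟨n, h1, h2, ?_⟩
  rw [← hK, ← h3, ← Subgroup.subgroupOf_normalizer_eq hPK, ← Subgroup.inf_subgroupOf_right,
    Nat.card_congr (Subgroup.subgroupOfEquivOfLe (inf_le_right (b := K))).toEquiv]

theorem le_normalizer_of_inner [Finite X] {A K : Subgroup X} {c : ℕ} (hK : Nat.card K = c)
    (h : Nat.card (Subgroup.normalizer (A : Set X) ⊓ K : Subgroup X) = c) :
    K ≤ Subgroup.normalizer (A : Set X) := by
  have h' := Subgroup.eq_of_le_of_card_ge (inf_le_right (a := Subgroup.normalizer (A : Set X)) (b := K))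
    (by rw [h, hK])
  rw [← h']
  exact inf_le_left

theorem dvd_card_normalizer [Finite X] {P : Subgroup X} {b : X} {c : ℕ}
    (hb : b ∈ Subgroup.normalizer (P : Set X)) (hc : orderOf b = c) :
    c ∣ Nat.card (Subgroup.normalizer (P : Set X)) := by
  have := orderOf_dvd_natCard (⟨b, hb⟩ : Subgroup.normalizer (P : Set X))
  rwa [Subgroup.orderOf_mk, hc] at this

theorem eq_cases {n r p : ℕ} (S : List ℕ) (hr : 0 < r) (hd : n ∣ r) (hm : n % p = 1)
    (h : ∀ i : Fin (r / 64 + 1), ∀ j : Fin 64, (64 * (i : ℕ) + j) ∣ r →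
      (64 * (i : ℕ) + j) % p = 1 → (64 * (i : ℕ) + j) ∈ S) : n ∈ S := by
  have hle := Nat.le_of_dvd hr hd
  have key := h ⟨n / 64, by omega⟩ ⟨n % 64, by omega⟩
  simp only [Nat.div_add_mod] at key
  exact key hd hm

/-- Orders `144 * 2869`, `144 * 2701`, `144 * 2329`, `36 * 703`. -/
theorem Facts.false_of_forced [Finite X] {m p r : ℕ} (hf : Facts X m) (hp : p.Prime)
    (hpm : ¬ p ∣ m) (hr : ¬ p ∣ r) (hX : Nat.card X = p * r) (S : List ℕ)
    (hS : ∀ i : Fin (r / 64 + 1), ∀ j : Fin 64, (64 * (i : ℕ) + j) ∣ r →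
      (64 * (i : ℕ) + j) % p = 1 → (64 * (i : ℕ) + j) ∈ S)
    (h9 : ∀ n ∈ S, ∀ c : ℕ, c * n = p * r → 9 ∣ c) : False := by
  obtain ⟨y, -, hy⟩ := exists_order (K := (⊤ : Subgroup X)) hp (by rw [Subgroup.card_top, hX]; simp)
  have hP : Nat.card (Subgroup.zpowers y) = p := by rw [Nat.card_zpowers, hy]
  obtain ⟨n, hd, hm, hc⟩ := sylow_data hp hr hX hP
  rw [hX] at hc
  have hr0 : 0 < r := Nat.pos_of_ne_zero fun h => hr (h ▸ dvd_zero p)
  exact hf.not_nine hp hpm hP (h9 n (eq_cases S hr0 hd hm hS) _ hc)

/-- Order `144 * 2485`. -/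
theorem Facts.false_2485 [Finite X] (hf : Facts X 144) (hX : Nat.card X = 144 * 2485) : False := by
  have hp : Nat.Prime 71 := by norm_num
  have hq : Nat.Prime 5 := by norm_num
  obtain ⟨y, -, hy⟩ := exists_order (K := (⊤ : Subgroup X)) hp (by rw [Subgroup.card_top, hX]; norm_num)
  set P := Subgroup.zpowers y with hPdef
  have hP : Nat.card P = 71 := by rw [hPdef, Nat.card_zpowers, hy]
  obtain ⟨n, hd, hm, hc⟩ := sylow_data hp (r := 5040) (by norm_num) (by rw [hX]) hP
  have hn := eq_cases [1, 72] (by norm_num) hd hm (by decide +kernel)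
  rw [hX] at hc
  simp only [List.mem_cons, List.not_mem_nil, or_false] at hn
  rcases hn with rfl | rfl
  · exact hf.not_nine hp (by norm_num) hP (by omega)
  have hNP : Nat.card (Subgroup.normalizer (P : Set X)) = 4970 := by omega
  obtain ⟨x, hxN, hx⟩ := exists_order (K := Subgroup.normalizer (P : Set X)) hq (by rw [hNP]; norm_num)
  set Q := Subgroup.zpowers x with hQdef
  have hQ : Nat.card Q = 5 := by rw [hQdef, Nat.card_zpowers, hx]
  have hQK : Q ≤ Subgroup.normalizer (P : Set X) := by rw [hQdef, Subgroup.zpowers_le]; exact hxN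
  obtain ⟨n, hd, hm, hc⟩ := sylow_inner hq (r := 994) (by norm_num) hQK hQ (by rw [hNP])
  have hn := eq_cases [1, 71] (by norm_num) hd hm (by decide +kernel)
  simp only [List.mem_cons, List.not_mem_nil, or_false] at hn
  rcases hn with rfl | rfl
  · -- the normaliser of `P` normalises `Q`
    have hle := le_normalizer_of_inner (A := Q) hNP (by omega)
    obtain ⟨n5, hd5, hm5, hc5⟩ := sylow_data hq (r := 71568) (by norm_num) (by rw [hX]) hQ
    obtain ⟨d, hd'⟩ := Subgroup.card_dvd_of_le hle
    rw [hNP] at hd'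
    rw [hd', hX, mul_assoc] at hc5
    have hdn : d * n5 = 72 := by omega
    have hd0 : d ≠ 0 := by rintro rfl; simp at hdn
    obtain ⟨n71, hd71, hm71, hc71⟩ := sylow_inner hp (r := 70 * d) (fun hdvd => by
      rcases hp.dvd_mul.1 hdvd with h | h
      · norm_num at h
      · have hd72 : d ∣ 72 := ⟨n5, hdn.symm⟩
        have := Nat.le_of_dvd (by norm_num) (h.trans hd72)
        have := h.trans hd72
        norm_num at this) (le_trans Subgroup.le_normalizer hle) hP (by rw [hd']; ring)
    rw [inf_eq_left.2 hle, hNP] at hc71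
    have : n71 = d := by nlinarith
    subst this
    have hd72 := eq_cases [1, 72] (r := 72) (by norm_num) ⟨n5, hdn.symm⟩ hm71 (by decide +kernel)
    simp only [List.mem_cons, List.not_mem_nil, or_false] at hd72
    rcases hd72 with rfl | rfl
    · omega
    · exact hf.not_nine hq (by norm_num) hQ (by rw [hd']; norm_num)
  · -- `Q` centralises `P`
    have hK : Nat.card (Subgroup.normalizer (Q : Set X) ⊓ Subgroup.normalizer (P : Set X) : Subgroup X) = 70 := by
      omega
    obtain ⟨t, ⟨htQ, htP⟩, ht⟩ := exists_order (p := 2)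
      (K := Subgroup.normalizer (Q : Set X) ⊓ Subgroup.normalizer (P : Set X)) Nat.prime_two
      (by rw [hK]; norm_num)
    have hcQ : t * x * t⁻¹ * x⁻¹ ∈ Q :=
      Q.mul_mem ((Subgroup.mem_normalizer_iff.1 htQ x).1 (Subgroup.mem_zpowers x))
        (Q.inv_mem (Subgroup.mem_zpowers x))
    haveI : Fact (Nat.Prime 71) := ⟨hp⟩
    haveI : IsCyclic P := isCyclic_of_prime_card hP
    have hcP : t * x * t⁻¹ * x⁻¹ ∈ Subgroup.centralizer (P : Set X) := by
      let t' : Subgroup.normalizer (P : Set X) := ⟨t, htP⟩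
      let x' : Subgroup.normalizer (P : Set X) := ⟨x, hxN⟩
      have hk : t' * x' * t'⁻¹ * x'⁻¹ ∈ P.normalizerMonoidHom.ker := by
        have hcomm : ∀ α β : MulAut P, α * β = β * α := fun α β =>
          (IsCyclic.mulAutMulEquiv P).injective (by rw [map_mul, map_mul, mul_comm])
        rw [MonoidHom.mem_ker, map_mul, map_mul, map_mul, map_inv, map_inv, hcomm (P.normalizerMonoidHom t'),
          mul_assoc, mul_assoc, ← mul_assoc (P.normalizerMonoidHom t'), mul_inv_cancel, one_mul,
          mul_inv_cancel]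
      rw [Subgroup.normalizerMonoidHom_ker, Subgroup.mem_subgroupOf] at hk
      exact hk
    by_cases h1 : t * x * t⁻¹ * x⁻¹ = 1
    · exact hf.not_commute (by norm_num : ¬ 5 ∣ 144) (Or.inl ht) hx
        (show x * t = t * x from (mul_inv_eq_iff_eq_mul.1 (mul_inv_eq_one.1 h1)).symm)
    · have hgen : Subgroup.zpowers (t * x * t⁻¹ * x⁻¹) = Q := by
        refine Subgroup.eq_of_le_of_card_ge (Subgroup.zpowers_le.2 hcQ) ?_
        have hdvd := Subgroup.card_dvd_of_le (Subgroup.zpowers_le.2 hcQ)
        rw [hQ] at hdvd ⊢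
        rcases (Nat.dvd_prime hq).1 hdvd with h | h
        · rw [Nat.card_zpowers, orderOf_eq_one_iff] at h
          exact absurd h h1
        · rw [h]
      have hxC : x ∈ Subgroup.centralizer (P : Set X) :=
        Subgroup.zpowers_le.2 hcP (hgen.symm ▸ Subgroup.mem_zpowers x)
      have hyx : Commute y x := Subgroup.mem_centralizer_iff.1 hxC y (Subgroup.mem_zpowers y)
      have hyQ : y ∈ Subgroup.normalizer (Q : Set X) :=
        Subgroup.centralizer_le_normalizer _ (Subgroup.mem_centralizer_iff.2 (fun q hq' => by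
          obtain ⟨i, rfl⟩ := Subgroup.mem_zpowers_iff.1 hq'
          exact ((hyx.zpow_right i).symm).eq))
      have := orderOf_dvd_natCard (⟨y, hyQ, Subgroup.le_normalizer (Subgroup.mem_zpowers y)⟩ :
        (Subgroup.normalizer (Q : Set X) ⊓ Subgroup.normalizer (P : Set X) : Subgroup X))
      rw [← Subgroup.orderOf_coe] at this
      change orderOf y ∣ _ at this
      rw [hy, hK] at this
      norm_num at this

/-- Order `36 * 595`. -/
theorem Facts.false_595 [Finite X] (hf : Facts X 36) (hX : Nat.card X = 36 * 595) : False := by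
  have hp : Nat.Prime 17 := by norm_num
  have hq : Nat.Prime 5 := by norm_num
  have hr : Nat.Prime 7 := by norm_num
  obtain ⟨y, -, hy⟩ := exists_order (K := (⊤ : Subgroup X)) hp (by rw [Subgroup.card_top, hX]; norm_num)
  set P := Subgroup.zpowers y with hPdef
  have hP : Nat.card P = 17 := by rw [hPdef, Nat.card_zpowers, hy]
  obtain ⟨n, hd, hm, hc⟩ := sylow_data hp (r := 1260) (by norm_num) (by rw [hX]) hP
  have hn := eq_cases [1, 18, 35, 630] (by norm_num) hd hm (by decide +kernel)
  rw [hX] at hc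
  simp only [List.mem_cons, List.not_mem_nil, or_false] at hn
  rcases hn with rfl | rfl | rfl | rfl
  · exact hf.not_nine hp (by norm_num) hP (by omega)
  · have hNP : Nat.card (Subgroup.normalizer (P : Set X)) = 1190 := by omega
    obtain ⟨x, hxN, hx⟩ := exists_order (K := Subgroup.normalizer (P : Set X)) hq (by rw [hNP]; norm_num)
    set Q := Subgroup.zpowers x with hQdef
    have hQ : Nat.card Q = 5 := by rw [hQdef, Nat.card_zpowers, hx]
    have hQK : Q ≤ Subgroup.normalizer (P : Set X) := by rw [hQdef, Subgroup.zpowers_le]; exact hxN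
    obtain ⟨n, hd, hm, hc⟩ := sylow_inner hq (r := 238) (by norm_num) hQK hQ (by rw [hNP])
    have hn := eq_cases [1] (by norm_num) hd hm (by decide +kernel)
    simp only [List.mem_cons, List.not_mem_nil, or_false] at hn
    subst hn
    have hle := le_normalizer_of_inner (A := Q) hNP (by omega)
    obtain ⟨n5, hd5, hm5, hc5⟩ := sylow_data hq (r := 4284) (by norm_num) (by rw [hX]) hQ
    obtain ⟨d, hd'⟩ := Subgroup.card_dvd_of_le hle
    rw [hNP] at hd'
    rw [hd', hX, mul_assoc] at hc5
    have hdn : d * n5 = 18 := by omega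
    have hd0 : d ≠ 0 := by rintro rfl; simp at hdn
    obtain ⟨n17, hd17, hm17, hc17⟩ := sylow_inner hp (r := 70 * d) (fun hdvd => by
      rcases hp.dvd_mul.1 hdvd with h | h
      · norm_num at h
      · have hd18 : d ∣ 18 := ⟨n5, hdn.symm⟩
        have := h.trans hd18
        norm_num at this) (le_trans Subgroup.le_normalizer hle) hP (by rw [hd']; ring)
    rw [inf_eq_left.2 hle, hNP] at hc17
    have : n17 = d := by nlinarith
    subst this
    have hd18 := eq_cases [1, 18] (r := 18) (by norm_num) ⟨n5, hdn.symm⟩ hm17 (by decide +kernel)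
    simp only [List.mem_cons, List.not_mem_nil, or_false] at hd18
    rcases hd18 with rfl | rfl
    · omega
    · exact hf.not_nine hq (by norm_num) hQ (by rw [hd']; norm_num)
  · exact hf.not_nine hp (by norm_num) hP (by omega)
  -- the normalisers of the subgroups of order seventeen have order 34
  obtain ⟨w, -, hw⟩ := exists_order (K := (⊤ : Subgroup X)) hr (by rw [Subgroup.card_top, hX]; norm_num)
  set R := Subgroup.zpowers w with hRdef
  have hR : Nat.card R = 7 := by rw [hRdef, Nat.card_zpowers, hw]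
  have h17 : ¬ 17 ∣ Nat.card (Subgroup.normalizer (R : Set X)) := by
    intro h
    obtain ⟨b, hbN, hb⟩ := exists_order hp h
    have hbC := mem_centralizer_of_normalizer hr hR hbN (by rw [hb]; norm_num)
    have hwb : Commute w b := Subgroup.mem_centralizer_iff.1 hbC w (Subgroup.mem_zpowers w)
    have hwN : w ∈ Subgroup.normalizer ((Subgroup.zpowers b : Subgroup X) : Set X) :=
      Subgroup.centralizer_le_normalizer _ (Subgroup.mem_centralizer_iff.2 (fun q hq' => by
        obtain ⟨i, rfl⟩ := Subgroup.mem_zpowers_iff.1 hq'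
        exact (hwb.zpow_right i).symm.eq))
    have h7 := dvd_card_normalizer hwN hw
    haveI : Fact (Nat.Prime 17) := ⟨hp⟩
    obtain ⟨S, hS⟩ := exists_sylow hp (r := 1260) (by norm_num) (by rw [hX]) _
      (show Nat.card (Subgroup.zpowers b) = 17 by rw [Nat.card_zpowers, hb])
    obtain ⟨S', hS'⟩ := exists_sylow hp (r := 1260) (by norm_num) (by rw [hX]) P hP
    have e := S.card_eq_index_normalizer
    rw [S'.card_eq_index_normalizer,
      show (S : Set X) = ((Subgroup.zpowers b : Subgroup X) : Set X) by rw [← hS]; rfl,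
      show (S' : Set X) = (P : Set X) by rw [← hS']; rfl] at e
    have h1 := (Subgroup.normalizer ((Subgroup.zpowers b : Subgroup X) : Set X)).card_mul_index
    have h2 := (Subgroup.normalizer (P : Set X)).card_mul_index
    rw [← e] at h1
    rw [hX] at h1 h2
    have h630 : (Subgroup.normalizer (P : Set X)).index = 630 := by
      refine Nat.eq_of_mul_eq_mul_left (show 0 < Nat.card (Subgroup.normalizer (P : Set X)) from Nat.card_pos) ?_
      rw [h2]; exact hc.symm
    rw [h630] at h1
    omega
  obtain ⟨n7, hd7, hm7, hc7⟩ := sylow_data hr (r := 3060) (by norm_num) (by rw [hX]) hR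
  have hn7 := eq_cases [1, 15, 36, 85, 204, 3060] (by norm_num) hd7 hm7 (by decide +kernel)
  rw [hX] at hc7
  simp only [List.mem_cons, List.not_mem_nil, or_false] at hn7
  rcases hn7 with rfl | rfl | rfl | rfl | rfl | rfl
  · exact h17 (by omega)
  · exact h17 (by omega)
  · exact h17 (by omega)
  · exact hf.not_nine hr (by norm_num) hR (by omega)
  · have hNR : Nat.card (Subgroup.normalizer (R : Set X)) = 105 := by omega
    obtain ⟨x, hxN, hx⟩ := exists_order (K := Subgroup.normalizer (R : Set X)) hq (by rw [hNR]; norm_num)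
    set Q := Subgroup.zpowers x with hQdef
    have hQ : Nat.card Q = 5 := by rw [hQdef, Nat.card_zpowers, hx]
    have hQK : Q ≤ Subgroup.normalizer (R : Set X) := by rw [hQdef, Subgroup.zpowers_le]; exact hxN
    have hxC := mem_centralizer_of_normalizer hr hR hxN (by rw [hx]; norm_num)
    have hwx : Commute w x := Subgroup.mem_centralizer_iff.1 hxC w (Subgroup.mem_zpowers w)
    have hwQ : w ∈ Subgroup.normalizer (Q : Set X) :=
      Subgroup.centralizer_le_normalizer _ (Subgroup.mem_centralizer_iff.2 (fun q hq' => by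
        obtain ⟨i, rfl⟩ := Subgroup.mem_zpowers_iff.1 hq'
        exact (hwx.zpow_right i).symm.eq))
    obtain ⟨n, hd, hm, hc⟩ := sylow_inner hq (r := 21) (by norm_num) hQK hQ (by rw [hNR])
    have h7 := orderOf_dvd_natCard (⟨w, hwQ, Subgroup.le_normalizer (Subgroup.mem_zpowers w)⟩ :
      (Subgroup.normalizer (Q : Set X) ⊓ Subgroup.normalizer (R : Set X) : Subgroup X))
    rw [← Subgroup.orderOf_coe] at h7
    change orderOf w ∣ _ at h7
    rw [hw] at h7
    have hn := eq_cases [1, 21] (by norm_num) hd hm (by decide +kernel)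
    simp only [List.mem_cons, List.not_mem_nil, or_false] at hn
    rcases hn with rfl | rfl
    swap
    · omega
    have hle := le_normalizer_of_inner (A := Q) hNR (by omega)
    obtain ⟨n5, hd5, hm5, hc5⟩ := sylow_data hq (r := 4284) (by norm_num) (by rw [hX]) hQ
    obtain ⟨d, hd'⟩ := Subgroup.card_dvd_of_le hle
    rw [hNR] at hd'
    rw [hd', hX, mul_assoc] at hc5
    have hdn : d * n5 = 204 := by omega
    obtain ⟨n7', hd7', hm7', hc7'⟩ := sylow_inner hr (r := 15 * d) (fun hdvd => by
      rcases hr.dvd_mul.1 hdvd with h | h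
      · norm_num at h
      · have hd204 : d ∣ 204 := ⟨n5, hdn.symm⟩
        have := h.trans hd204
        norm_num at this) (le_trans Subgroup.le_normalizer hle) hR (by rw [hd']; ring)
    rw [inf_eq_left.2 hle, hNR] at hc7'
    have : n7' = d := by nlinarith
    subst this
    have hd204 := eq_cases [1, 204] (r := 204) (by norm_num) ⟨n5, hdn.symm⟩ hm7' (by decide +kernel)
    simp only [List.mem_cons, List.not_mem_nil, or_false] at hd204
    rcases hd204 with rfl | rfl
    · omega
    · exact hf.not_nine hq (by norm_num) hQ (by rw [hd']; norm_num)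
  · -- self-normalising subgroups of order seven: normal complement
    haveI : Fact (Nat.Prime 7) := ⟨hr⟩
    have hNR : Nat.card (Subgroup.normalizer (R : Set X)) = 7 := by omega
    have hNeq : R = Subgroup.normalizer (R : Set X) :=
      Subgroup.eq_of_le_of_card_ge Subgroup.le_normalizer (by rw [hNR, hR])
    obtain ⟨S, hS⟩ := exists_sylow hr (r := 3060) (by norm_num) (by rw [hX]) R hR
    haveI : IsCyclic R := isCyclic_of_prime_card hR
    have hcent : Subgroup.normalizer ((S : Subgroup X) : Set X) ≤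
        Subgroup.centralizer ((S : Subgroup X) : Set X) := by
      rw [hS, ← hNeq]
      exact Subgroup.le_centralizer R
    set K := (MonoidHom.transferSylow S hcent).ker with hKdef
    have hK : Nat.card K = 3060 := by
      have h := (MonoidHom.ker_transferSylow_isComplement' S hcent).card_mul
      rw [← hKdef, hS, hR, hX] at h
      omega
    haveI : K.Normal := MonoidHom.normal_ker _
    have hyK : y ∈ K := by
      have hsub : orderOf (QuotientGroup.mk' K y) ∣ 17 := hy ▸ orderOf_map_dvd _ y
      have hidx : K.index = 7 := by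
        have := K.card_mul_index
        rw [hK, hX] at this
        omega
      have h7' : orderOf (QuotientGroup.mk' K y) ∣ 7 := by
        have := orderOf_dvd_natCard (QuotientGroup.mk' K y)
        rwa [← Subgroup.index_eq_card, hidx] at this
      exact (QuotientGroup.eq_one_iff y).1
        (orderOf_eq_one_iff.1 (Nat.eq_one_of_dvd_coprimes (by norm_num) hsub h7'))
    obtain ⟨n, hd, hm, hc'⟩ := sylow_inner (P := P) hp (r := 180) (by norm_num)
      (Subgroup.zpowers_le.2 hyK) hP (by rw [hK])
    have hn := eq_cases [1, 18] (by norm_num) hd hm (by decide +kernel)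
    simp only [List.mem_cons, List.not_mem_nil, or_false] at hn
    have hle := Subgroup.card_dvd_of_le (inf_le_left (a := Subgroup.normalizer (P : Set X)) (b := K))
    have hN34 : Nat.card (Subgroup.normalizer (P : Set X)) = 34 := by omega
    rw [hN34] at hle
    have hb := Nat.le_of_dvd (by norm_num) hle
    rcases hn with rfl | rfl <;> omega

end Cfsg.Agent.DoubleCoverCount74Sylow
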