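import Mathlib
import Cfsg.Agent.Lib.DoubleCoverCount74Core
import Cfsg.Agent.Lib.DoubleCoverCount74Arith
import Cfsg.Agent.Lib.DoubleCoverCount74Sylow

/-!
No group with one class of involutions has an involution centraliser of order 36 or 144 of the
shapes occurring for double covers of small alternating groups.
-/

set_option autoImplicit false

namespace Cfsg.Agent.DoubleCoverCount74

open DoubleCoverCount74Sylow

universe u

variable {X : Type u} [Group X] [Finite X] {z : X} {H L : Subgroup X} {m : ℕ}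

theorem Config.card_centralizer (hc : Config z H L m) {t : X} (ht : orderOf t = 2) :
    Nat.card (Subgroup.centralizer ({t} : Set X)) = m := by
  obtain ⟨g, hg⟩ := isConj_iff.1 (hc.oneClass t ht)
  subst hg
  rw [← hc.cardM]
  refine (Nat.card_congr (Equiv.subtypeEquiv (MulAut.conj g).toEquiv fun y => ?_)).symm
  simp only [Subgroup.mem_centralizer_singleton_iff]
  show y * z = z * y ↔ g * y * g⁻¹ * (g * z * g⁻¹) = g * z * g⁻¹ * (g * y * g⁻¹)
  rw [show g * y * g⁻¹ * (g * z * g⁻¹) = g * (y * z) * g⁻¹ by group,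
    show g * z * g⁻¹ * (g * y * g⁻¹) = g * (z * y) * g⁻¹ by group]
  simp

theorem Config.exists_k (hc : Config z H L m) (h9m : 9 ∣ m) (h27 : ¬ 27 ∣ Nat.card X) :
    ∃ (k : ℕ) (A a : ℤ), Nat.card X = m * k ∧ k % 2 = 1 ∧ k % 3 ≠ 0 ∧ A ≠ 0 ∧ A + 1 ≠ 0 ∧
      a * a + (a + 1) * (a + 1) < m ∧ A * A + (A + 1) * (A + 1) < (m : ℤ) * k ∧
      (k : ℤ) * (A - a) ^ 2 = 18 * m * (A * (A + 1)) := by
  obtain ⟨k, A, a, hX, h0, h1, h2, h3, h4⟩ := hc.relation
  refine ⟨k, A, a, hX, ?_, ?_, h0, h1, h2, h3, h4⟩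
  · haveI : Fact (Nat.Prime 2) := ⟨Nat.prime_two⟩
    obtain ⟨S⟩ : Nonempty (Sylow 2 X) := inferInstance
    have hdvd : 2 ∣ Nat.card X := hc.oz ▸ orderOf_dvd_natCard z
    haveI : Nontrivial (S : Subgroup X) := by
      rw [← Finite.one_lt_card_iff_nontrivial]
      exact lt_of_lt_of_le one_lt_two (Nat.le_of_dvd Nat.card_pos (S.dvd_card_of_dvd_card hdvd))
    haveI := S.isPGroup'.center_nontrivial
    have hdc : 2 ∣ Nat.card (Subgroup.center (S : Subgroup X)) := by
      obtain ⟨j, hj, e⟩ := (S.isPGroup'.to_subgroup (Subgroup.center (S : Subgroup X))).nontrivial_iff_card.1 inferInstance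
      exact ⟨2 ^ (j - 1), by rw [e, ← pow_succ', Nat.sub_add_cancel hj]⟩
    obtain ⟨w, hw⟩ := exists_prime_orderOf_dvd_card' 2 hdc
    have hw2 : orderOf ((w : (S : Subgroup X)) : X) = 2 := by
      rw [Subgroup.orderOf_coe, Subgroup.orderOf_coe, hw]
    have hle : (S : Subgroup X) ≤ Subgroup.centralizer ({((w : (S : Subgroup X)) : X)} : Set X) :=
      fun y hy => Subgroup.mem_centralizer_singleton_iff.2
        (congrArg Subtype.val (Subgroup.mem_center_iff.1 w.2 ⟨y, hy⟩))
    obtain ⟨d, hd⟩ := Subgroup.card_dvd_of_le hle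
    rw [hc.card_centralizer hw2] at hd
    have h := (S : Subgroup X).card_mul_index
    rw [hX, hd, mul_assoc] at h
    have h' := Nat.eq_of_mul_eq_mul_left Nat.card_pos h
    have hodd := S.not_dvd_index
    rcases Nat.mod_two_eq_zero_or_one k with hk | hk
    · exact absurd (h' ▸ (Nat.dvd_of_mod_eq_zero hk).mul_left d) hodd
    · exact hk
  · intro hk
    exact h27 (hX ▸ (show 27 = 9 * 3 by norm_num) ▸ mul_dvd_mul h9m (Nat.dvd_of_mod_eq_zero hk))

/-- The Sylow 3-subgroups lie in conjugates of the centraliser. -/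
theorem Config.conj_mem_of_three (hc : Config z H L m) (h9m : 9 ∣ m) (h27 : ¬ 27 ∣ Nat.card X)
    {x : X} {j : ℕ} (hx : orderOf x = 3 ^ j) :
    ∃ g : X, g * x * g⁻¹ ∈ Subgroup.centralizer ({z} : Set X) := by
  haveI : Fact (Nat.Prime 3) := ⟨Nat.prime_three⟩
  obtain ⟨Q, hQ⟩ := Sylow.exists_subgroup_card_pow_prime 3
    (G := Subgroup.centralizer ({z} : Set X)) (n := 2) (by rw [hc.cardM]; exact h9m)
  have hQ' : Nat.card (Q.map (Subgroup.centralizer ({z} : Set X)).subtype) = 3 ^ 2 := by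
    rw [← hQ, Subgroup.card_subtype]
  have hf2 : (Nat.card X).factorization 3 = 2 := by
    have h1 : 3 ^ 2 ∣ Nat.card X := hQ' ▸ Subgroup.card_subgroup_dvd_card _
    have hle := (Nat.Prime.pow_dvd_iff_le_factorization Nat.prime_three Nat.card_pos.ne').1 h1
    have hlt : ¬ 3 ≤ (Nat.card X).factorization 3 := fun h =>
      h27 ((Nat.Prime.pow_dvd_iff_le_factorization Nat.prime_three Nat.card_pos.ne').2 h)
    omega
  let T : Sylow 3 X := Sylow.ofCard _ (by rw [hQ', hf2])
  obtain ⟨S, hS⟩ := (IsPGroup.of_card (n := j) (by rw [Nat.card_zpowers, hx]) :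
    IsPGroup 3 (Subgroup.zpowers x)).exists_le_sylow
  obtain ⟨g, hg⟩ := MulAction.exists_smul_eq X S T
  refine ⟨g, ?_⟩
  have hmem : g * x * g⁻¹ ∈ (T : Subgroup X) := by
    rw [← hg, Sylow.coe_subgroup_smul]
    exact ⟨x, hS (Subgroup.mem_zpowers x), rfl⟩
  rw [Sylow.coe_ofCard] at hmem
  obtain ⟨a, -, ha⟩ := hmem
  rw [← ha]
  exact a.2

theorem Config.facts (hc : Config z H L m) (h9m : 9 ∣ m) (h27 : ¬ 27 ∣ Nat.card X)
    (h9 : ∀ h ∈ Subgroup.centralizer ({z} : Set X), h ^ 9 = 1 → h ^ 3 = 1)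
    (h3 : ∀ h ∈ Subgroup.centralizer ({z} : Set X), orderOf h = 3 →
      ∀ y, Commute y h → y ∈ Subgroup.centralizer ({z} : Set X)) : Facts X m where
  two t ht := (hc.card_centralizer ht).dvd
  three x hx := by
    obtain ⟨g, hg⟩ := hc.conj_mem_of_three h9m h27 (j := 1) (by rw [hx, pow_one])
    have hmap : (Subgroup.centralizer ({x} : Set X)).map (MulAut.conj g).toMonoidHom ≤
        Subgroup.centralizer ({z} : Set X) := by
      rintro _ ⟨y, hy, rfl⟩
      refine h3 _ hg (by rw [Cfsg.Agent.S3279.order_conj, hx]) _ ?_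
      exact Cfsg.Agent.S3279.commute_conj g (Subgroup.mem_centralizer_singleton_iff.1 hy)
    have h := Subgroup.card_dvd_of_le hmap
    rwa [Subgroup.card_map_of_injective (MulEquiv.injective _), hc.cardM] at h
  nine x hx := by
    obtain ⟨g, hg⟩ := hc.conj_mem_of_three h9m h27 (j := 2) (by rw [hx]; norm_num)
    have hord : orderOf (g * x * g⁻¹) = 9 := by rw [Cfsg.Agent.S3279.order_conj, hx]
    have h := orderOf_dvd_of_pow_eq_one (h9 _ hg (hord ▸ pow_orderOf_eq_one _))
    rw [hord] at h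
    norm_num at h

omit H L m in
/-- The case `|C(z)| = 144`. -/
theorem no_group_144 (z : X) (hz : orderOf z = 2)
    (hconj : ∀ t : X, orderOf t = 2 → IsConj z t)
    (hM : Nat.card (Subgroup.centralizer ({z} : Set X)) = 144)
    (H L : Subgroup X) (hLH : L ≤ H) (hHM : H ≤ Subgroup.centralizer ({z} : Set X))
    (hH : Nat.card H = 72) (hL : Nat.card L = 24) (hzL : z ∈ L)
    (hLn : ∀ g ∈ Subgroup.centralizer ({z} : Set X), ∀ x ∈ L, g * x * g⁻¹ ∈ L)
    (hHinv : ∀ v ∈ H, orderOf v = 2 → v = z)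
    (hmodL : ∀ v ∈ Subgroup.centralizer ({z} : Set X), v ∉ H → ∀ x ∈ H, v * x * v⁻¹ * x ∈ L)
    (hcent : ∀ x ∈ H, x ∉ L → ∀ y, Commute y x → y ∈ Subgroup.centralizer ({z} : Set X))
    (hpairs : ∀ x ∈ H, x ∉ L → Nat.card {v : X // v ∈ Subgroup.centralizer ({z} : Set X) ∧ v ∉ H ∧
      v * v = 1 ∧ v * x * v⁻¹ = x⁻¹} = 18)
    (h27 : ¬ 27 ∣ Nat.card X)
    (h9 : ∀ h ∈ Subgroup.centralizer ({z} : Set X), h ^ 9 = 1 → h ^ 3 = 1)
    (h3 : ∀ h ∈ Subgroup.centralizer ({z} : Set X), orderOf h = 3 →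
      ∀ y, Commute y h → y ∈ Subgroup.centralizer ({z} : Set X)) : False := by
  have hc : Config z H L 144 :=
    ⟨hz, hconj, hM, hHM, hLH, by rw [hH], by rw [hL], hzL, hLn, hHinv, hmodL, hcent, hpairs⟩
  obtain ⟨k, A, a, hX, hk2, hk3, hA0, hA1, ha, hb, hrel⟩ := hc.exists_k (by norm_num) h27
  have hf := hc.facts (by norm_num) h27 h9 h3
  push_cast at ha hb hrel
  rcases DoubleCoverCount74Arith.solve144 hk2 hk3 hA0 hA1 ha hb hrel with rfl | rfl | rfl | rfl
  · exact hf.false_of_forced (p := 151) (r := 2736) (by norm_num) (by norm_num) (by norm_num)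
      (by rw [hX]) [1, 152] (by decide +kernel)
      (by simp only [List.forall_mem_cons, List.not_mem_nil, IsEmpty.forall_iff, implies_true,
            and_true]; exact ⟨fun c hc => by omega, fun c hc => by omega⟩)
  · exact hf.false_of_forced (p := 73) (r := 5328) (by norm_num) (by norm_num) (by norm_num)
      (by rw [hX]) [1, 74] (by decide +kernel)
      (by simp only [List.forall_mem_cons, List.not_mem_nil, IsEmpty.forall_iff, implies_true,
            and_true]; exact ⟨fun c hc => by omega, fun c hc => by omega⟩)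
  · exact hf.false_of_forced (p := 137) (r := 2448) (by norm_num) (by norm_num) (by norm_num)
      (by rw [hX]) [1] (by decide +kernel)
      (by simp only [List.forall_mem_cons, List.not_mem_nil, IsEmpty.forall_iff, implies_true,
            and_true]; exact fun c hc => by omega)
  · exact hf.false_2485 hX

omit H L m in
/-- The case `|C(z)| = 36`. -/
theorem no_group_36 (z : X) (hz : orderOf z = 2)
    (hconj : ∀ t : X, orderOf t = 2 → IsConj z t)
    (hM : Nat.card (Subgroup.centralizer ({z} : Set X)) = 36)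
    (H : Subgroup X) (hHM : H ≤ Subgroup.centralizer ({z} : Set X)) (hH : Nat.card H = 18)
    (hzH : z ∈ H) (h6 : ∀ x ∈ H, x ^ 6 = 1) (h27 : ¬ 27 ∣ Nat.card X)
    (hcent : ∀ x ∈ H, x ≠ 1 → x ≠ z → ∀ y, Commute y x → y ∈ Subgroup.centralizer ({z} : Set X))
    (hinv : ∀ v ∈ Subgroup.centralizer ({z} : Set X), v ∉ H →
      v * v = 1 ∧ ∀ x ∈ H, v * x * v⁻¹ = x⁻¹) : False := by
  obtain ⟨v, hvM, hvH⟩ : ∃ v ∈ Subgroup.centralizer ({z} : Set X), v ∉ H := by
    by_contra hne
    push Not at hne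
    have := Subgroup.card_le_of_le hne
    omega
  have hcomm : ∀ x ∈ H, ∀ y ∈ H, x * y = y * x := by
    intro x hx y hy
    have h : v * (x * y) * v⁻¹ = v * x * v⁻¹ * (v * y * v⁻¹) := by group
    rw [(hinv v hvM hvH).2 _ (H.mul_mem hx hy), (hinv v hvM hvH).2 _ hx, (hinv v hvM hvH).2 _ hy,
      mul_inv_rev] at h
    have h' := congrArg (·⁻¹) h
    simpa using h'
  obtain ⟨g, hgH, hg⟩ := exists_order (K := H) Nat.prime_three (by rw [hH]; norm_num)
  have hgz : Commute g z := hcomm g hgH z hzH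
  have ho : orderOf (g * z) = 6 := by
    rw [hgz.orderOf_mul_eq_mul_orderOf_of_coprime (by rw [hg, hz]; norm_num), hg, hz]
  set L := Subgroup.zpowers (g * z)
  have hLH : L ≤ H := Subgroup.zpowers_le.2 (H.mul_mem hgH hzH)
  have hL : Nat.card L = 6 := by rw [Nat.card_zpowers, ho]
  have hzL : z ∈ L := by
    have h3 : (g * z) ^ 3 = z := by
      rw [hgz.mul_pow, ← hg, pow_orderOf_eq_one, one_mul, hg, pow_succ, pow_two,
        Cfsg.Agent.S3279.inv_mul_self_eq hz, one_mul]
    rw [← h3]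
    exact L.pow_mem (Subgroup.mem_zpowers _) 3
  have hLn : ∀ a ∈ Subgroup.centralizer ({z} : Set X), ∀ x ∈ L, a * x * a⁻¹ ∈ L := by
    intro a ha x hx
    by_cases haH : a ∈ H
    · rw [hcomm a haH x (hLH hx), mul_inv_cancel_right]; exact hx
    · rw [(hinv a ha haH).2 x (hLH hx)]; exact L.inv_mem hx
  have hHinv : ∀ t ∈ H, orderOf t = 2 → t = z := by
    intro t htH ht
    by_contra hne
    haveI : Fact (Nat.Prime 2) := ⟨Nat.prime_two⟩
    let A := Subgroup.zpowers t
    let B := Subgroup.zpowers z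
    have hdisj : Disjoint A B := by
      rw [Subgroup.disjoint_def]
      intro y hy1 hy2
      have c2 : ∀ {s : X}, orderOf s = 2 → ∀ {y : X}, y ∈ Subgroup.zpowers s → y = 1 ∨ y = s := by
        intro s hs y hy
        obtain ⟨i, rfl⟩ := Subgroup.mem_zpowers_iff.1 hy
        rw [← zpow_mod_orderOf, hs]
        rcases Int.emod_two_eq_zero_or_one i with h | h <;> simp [h]
      rcases c2 ht hy1 with rfl | rfl
      · rfl
      · rcases c2 hz hy2 with h | h
        · exact h
        · exact absurd h hne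
    let φ : A × B →* H :=
      { toFun := fun p => ⟨p.1 * p.2, H.mul_mem (Subgroup.zpowers_le.2 htH p.1.2)
          (Subgroup.zpowers_le.2 hzH p.2.2)⟩
        map_one' := by ext; simp
        map_mul' := fun p q => by
          ext
          show (p.1 : X) * q.1 * ((p.2 : X) * q.2) = (p.1 : X) * p.2 * ((q.1 : X) * q.2)
          rw [mul_assoc, mul_assoc, ← mul_assoc (q.1 : X), hcomm _ (Subgroup.zpowers_le.2 htH q.1.2) _
            (Subgroup.zpowers_le.2 hzH p.2.2), mul_assoc] }
    have hinj : Function.Injective φ := fun p q h =>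
      Subgroup.mul_injective_of_disjoint hdisj (congrArg Subtype.val h)
    have := Subgroup.card_dvd_of_injective φ hinj
    rw [Nat.card_prod, Nat.card_zpowers, Nat.card_zpowers, ht, hz, hH] at this
    norm_num at this
  have hmodL : ∀ a ∈ Subgroup.centralizer ({z} : Set X), a ∉ H → ∀ x ∈ H, a * x * a⁻¹ * x ∈ L := by
    intro a ha haH x hx
    rw [(hinv a ha haH).2 x hx, inv_mul_cancel]
    exact L.one_mem
  have hpairs : ∀ x ∈ H, x ∉ L → Nat.card {a : X // a ∈ Subgroup.centralizer ({z} : Set X) ∧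
      a ∉ H ∧ a * a = 1 ∧ a * x * a⁻¹ = x⁻¹} = 18 := by
    intro x hx _
    classical
    haveI := Fintype.ofFinite X
    have e : (Finset.univ.filter fun a : X => a ∈ Subgroup.centralizer ({z} : Set X) ∧
        a ∉ H ∧ a * a = 1 ∧ a * x * a⁻¹ = x⁻¹) =
        (Finset.univ.filter fun a => a ∈ Subgroup.centralizer ({z} : Set X)) \
          (Finset.univ.filter fun a => a ∈ H) := by
      ext a
      simp only [Finset.mem_filter, Finset.mem_univ, true_and, Finset.mem_sdiff]
      exact ⟨fun h => ⟨h.1, h.2.1⟩, fun h => ⟨h.1, h.2, (hinv a h.1 h.2).1, (hinv a h.1 h.2).2 x hx⟩⟩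
    rw [Nat.card_eq_fintype_card, Fintype.card_subtype, e, Finset.card_sdiff_of_subset (fun a ha => by
      simp only [Finset.mem_filter, Finset.mem_univ, true_and] at ha ⊢; exact hHM ha),
      ← Fintype.card_subtype, ← Fintype.card_subtype, ← Nat.card_eq_fintype_card,
      ← Nat.card_eq_fintype_card, hM, hH]
  have hc : Config z H L 36 :=
    ⟨hz, hconj, hM, hHM, hLH, by rw [hH], by rw [hL], hzL, hLn, hHinv, hmodL,
      fun x hx hxL => hcent x hx (fun h => hxL (h ▸ L.one_mem)) (fun h => hxL (h ▸ hzL)), hpairs⟩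
  have h9 : ∀ h ∈ Subgroup.centralizer ({z} : Set X), h ^ 9 = 1 → h ^ 3 = 1 := by
    intro h hh h9
    by_cases hhH : h ∈ H
    · have h36 : h ^ Nat.gcd 9 6 = 1 := pow_gcd_eq_one.mpr ⟨h9, h6 h hhH⟩
      exact h36
    · have hsq : h ^ 2 = 1 := by rw [pow_two]; exact (hinv h hh hhH).1
      have : h = 1 := by rwa [show (9 : ℕ) = 2 * 4 + 1 from rfl, pow_succ, pow_mul, hsq, one_pow, one_mul] at h9
      rw [this, one_pow]
  have h3 : ∀ h ∈ Subgroup.centralizer ({z} : Set X), orderOf h = 3 →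
      ∀ y, Commute y h → y ∈ Subgroup.centralizer ({z} : Set X) := by
    intro h hh ho3
    have hhH : h ∈ H := by
      by_contra hhH
      have := orderOf_dvd_of_pow_eq_one (show h ^ 2 = 1 by rw [pow_two]; exact (hinv h hh hhH).1)
      rw [ho3] at this
      norm_num at this
    refine hcent h hhH (fun e => ?_) (fun e => ?_)
    · rw [e, orderOf_one] at ho3; norm_num at ho3
    · rw [e, hz] at ho3; norm_num at ho3
  obtain ⟨k, A, a, hX, hk2, hk3, hA0, hA1, ha, hb, hrel⟩ := hc.exists_k (by norm_num) h27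
  have hf := hc.facts (by norm_num) h27 h9 h3
  push_cast at ha hb hrel
  rcases DoubleCoverCount74Arith.solve36 hk2 hk3 hA0 hA1 ha hb hrel with rfl | rfl
  · exact hf.false_of_forced (p := 37) (r := 684) (by norm_num) (by norm_num) (by norm_num)
      (by rw [hX]) [1, 38] (by decide +kernel)
      (by simp only [List.forall_mem_cons, List.not_mem_nil, IsEmpty.forall_iff, implies_true,
            and_true]; exact ⟨fun c hc => by omega, fun c hc => by omega⟩)
  · exact hf.false_595 hX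

end Cfsg.Agent.DoubleCoverCount74
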