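import Cfsg.Agent.Lib.DoubleCover90Small

/-!
# Permutations of nine points centralising products of the standard 3-cycles
-/

set_option autoImplicit false
set_option maxRecDepth 10000
set_option maxHeartbeats 1000000

namespace Cfsg.Agent.DoubleCoverPerm91

open Equiv Equiv.Perm
open Cfsg.Agent.DoubleCover90 (C1 C2 C3 U)

/-- The product `(0 1 2)^i (3 4 5)^j (6 7 8)^k`. -/
def std (i j k : ℕ) : Perm (Fin 9) := C1 9 ^ i * C2 9 ^ j * C3 9 ^ k

/-- The permutation `(0 3 6)(1 4 7)(2 5 8)`. -/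
def Rho : Perm (Fin 9) := swap 0 3 * swap 3 6 * (swap 1 4 * swap 4 7) * (swap 2 5 * swap 5 8)

theorem inv_app {α : Type*} (f : Perm α) (x : α) : f⁻¹ (f x) = x := f.symm_apply_apply x

theorem app_inv {α : Type*} (f : Perm α) (x : α) : f (f⁻¹ x) = x := f.apply_symm_apply x

theorem fin9 : ∀ x : Fin 9, x = 0 ∨ x = 1 ∨ x = 2 ∨ x = 3 ∨ x = 4 ∨ x = 5 ∨ x = 6 ∨ x = 7 ∨ x = 8 := by
  decide

theorem comm_apply {α : Type*} {σ τ : Perm α} (h : Commute σ τ) (i : α) :
    σ (τ i) = τ (σ i) := Equiv.congr_fun h.eq i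

theorem eq_one_of_two {n : ℕ} {σ : Perm (Fin n)} (hs : Perm.sign σ = 1) (a b : Fin n)
    (h : ∀ i, i ≠ a → i ≠ b → σ i = i) : σ = 1 := by
  by_contra hne
  have hsub : σ.support ⊆ {a, b} := by
    intro i hi
    rw [mem_support] at hi
    simp only [Finset.mem_insert, Finset.mem_singleton]
    by_contra hc
    push Not at hc
    exact hi (h i hc.1 hc.2)
  have hc : σ.support.card = 2 := le_antisymm
    ((Finset.card_le_card hsub).trans Finset.card_le_two) (two_le_card_support_of_ne_one hne)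
  obtain ⟨x, y, hxy, rfl⟩ := card_support_eq_two.1 hc
  rw [sign_swap hxy] at hs
  exact absurd hs (by decide)

theorem comm_facts :
    Commute (C1 9) (C1 9 * C2 9) ∧ Commute (C2 9) (C1 9 * C2 9) ∧ Commute (C3 9) (C1 9 * C2 9) ∧
    Commute (U 9) (C1 9 * C2 9) ∧ Commute (C1 9) (C1 9 * C2 9 * C3 9) ∧
    Commute (C2 9) (C1 9 * C2 9 * C3 9) ∧ Commute (C3 9) (C1 9 * C2 9 * C3 9) ∧
    Commute Rho (C1 9 * C2 9 * C3 9) := by
  refine ⟨?_, ?_, ?_, ?_, ?_, ?_, ?_, ?_⟩ <;> (unfold Commute SemiconjBy; decide)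

theorem comm_single : Commute (C1 9) (C2 9) ∧ Commute (C1 9) (C3 9) ∧ Commute (C2 9) (C3 9) := by
  refine ⟨?_, ?_, ?_⟩ <;> (unfold Commute SemiconjBy; decide)

theorem sign_facts : Perm.sign (C1 9) = 1 ∧ Perm.sign (C2 9) = 1 ∧ Perm.sign (C3 9) = 1 ∧
    Perm.sign (U 9) = 1 ∧ Perm.sign Rho = 1 := by decide

theorem sign_std (i j k : ℕ) : Perm.sign (std i j k) = 1 := by
  simp [std, sign_facts.1, sign_facts.2.1, sign_facts.2.2.1]

theorem pow_reps : (∀ a : Fin 9, a.val < 3 → ∃ i : Fin 3, (C1 9 ^ i.val) 0 = a) ∧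
    (∀ a : Fin 9, 3 ≤ a.val → a.val < 6 → ∃ i : Fin 3, (C2 9 ^ i.val) 3 = a) ∧
    (∀ a : Fin 9, 6 ≤ a.val → ∃ i : Fin 3, (C3 9 ^ i.val) 6 = a) := by decide

theorem moved12 : ∀ i : Fin 9, i.val < 6 ↔ (C1 9 * C2 9) i ≠ i := by decide

theorem moved2 : ∀ i : Fin 9, (3 ≤ i.val ∧ i.val < 6) ↔ C2 9 i ≠ i := by decide

theorem moved3 : ∀ i : Fin 9, 6 ≤ i.val ↔ C3 9 i ≠ i := by decide

theorem keep {α : Type*} {σ X : Perm α} {P : α → Prop} (hP : ∀ i, P i ↔ X i ≠ i)
    (h : Commute σ X) (i : α) : P (σ i) ↔ P i := by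
  rw [hP, hP, ← comm_apply h, σ.injective.ne_iff]

theorem core12 {σ : Perm (Fin 9)} (hs : Perm.sign σ = 1) (h : Commute σ (C1 9 * C2 9))
    (h0 : (σ 0).val < 3) : ∃ i j k : Fin 3, σ = std i j k := by
  obtain ⟨k1, k2, k3, -⟩ := comm_facts
  obtain ⟨r1, r2, r3⟩ := pow_reps
  obtain ⟨i, hi⟩ := r1 _ h0
  set σ1 := (C1 9 ^ i.val)⁻¹ * σ with hσ1
  have h1 : Commute σ1 (C1 9 * C2 9) := (k1.pow_left _).inv_left.mul_left h
  have s1 : Perm.sign σ1 = 1 := by simp [hσ1, hs, sign_facts.1]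
  have f0 : σ1 0 = 0 := by rw [hσ1, Perm.mul_apply, ← hi, inv_app]
  have f1 : σ1 1 = 1 := by
    rw [show (1 : Fin 9) = (C1 9 * C2 9) 0 by decide, comm_apply h1, f0]
  have f2 : σ1 2 = 2 := by
    rw [show (2 : Fin 9) = (C1 9 * C2 9) 1 by decide, comm_apply h1, f1]
  have g3 : (σ1 3).val < 6 := (keep moved12 h1 3).2 (by decide)
  have g3' : 3 ≤ (σ1 3).val := by
    by_contra hlt
    rcases (by omega : (σ1 3).val = 0 ∨ (σ1 3).val = 1 ∨ (σ1 3).val = 2) with e | e | e
    · exact absurd (σ1.injective ((Fin.ext e : σ1 3 = 0).trans f0.symm)) (by decide)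
    · exact absurd (σ1.injective ((Fin.ext e : σ1 3 = 1).trans f1.symm)) (by decide)
    · exact absurd (σ1.injective ((Fin.ext e : σ1 3 = 2).trans f2.symm)) (by decide)
  obtain ⟨j, hj⟩ := r2 _ g3' g3
  set σ2 := (C2 9 ^ j.val)⁻¹ * σ1 with hσ2
  have h2 : Commute σ2 (C1 9 * C2 9) := (k2.pow_left _).inv_left.mul_left h1
  have s2 : Perm.sign σ2 = 1 := by simp [hσ2, s1, sign_facts.2.1]
  have fixC2 : ∀ x : Fin 9, C2 9 x = x → (C2 9 ^ j.val)⁻¹ x = x := fun x hx =>
    Perm.inv_eq_iff_eq.2 (Perm.pow_apply_eq_self_of_apply_eq_self hx _).symm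
  have g0 : σ2 0 = 0 := by rw [hσ2, Perm.mul_apply, f0, fixC2 _ (by decide)]
  have g1 : σ2 1 = 1 := by rw [hσ2, Perm.mul_apply, f1, fixC2 _ (by decide)]
  have g2 : σ2 2 = 2 := by rw [hσ2, Perm.mul_apply, f2, fixC2 _ (by decide)]
  have e3 : σ2 3 = 3 := by rw [hσ2, Perm.mul_apply, ← hj, inv_app]
  have e4 : σ2 4 = 4 := by
    rw [show (4 : Fin 9) = (C1 9 * C2 9) 3 by decide, comm_apply h2, e3]
  have e5 : σ2 5 = 5 := by
    rw [show (5 : Fin 9) = (C1 9 * C2 9) 4 by decide, comm_apply h2, e4]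
  have g6 : 6 ≤ (σ2 6).val := by
    by_contra hlt
    exact absurd ((keep moved12 h2 6).1 (by omega)) (by decide)
  obtain ⟨k, hk⟩ := r3 _ g6
  set σ3 := (C3 9 ^ k.val)⁻¹ * σ2 with hσ3
  have s3 : Perm.sign σ3 = 1 := by simp [hσ3, s2, sign_facts.2.2.1]
  have fixC3 : ∀ x : Fin 9, C3 9 x = x → (C3 9 ^ k.val)⁻¹ x = x := fun x hx =>
    Perm.inv_eq_iff_eq.2 (Perm.pow_apply_eq_self_of_apply_eq_self hx _).symm
  have hone : σ3 = 1 := by
    refine eq_one_of_two s3 7 8 fun x x7 x8 => ?_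
    rw [hσ3, Perm.mul_apply]
    rcases fin9 x with rfl | rfl | rfl | rfl | rfl | rfl | rfl | rfl | rfl
    · rw [g0, fixC3 _ (by decide)]
    · rw [g1, fixC3 _ (by decide)]
    · rw [g2, fixC3 _ (by decide)]
    · rw [e3, fixC3 _ (by decide)]
    · rw [e4, fixC3 _ (by decide)]
    · rw [e5, fixC3 _ (by decide)]
    · rw [← hk, inv_app]
    · exact absurd rfl x7
    · exact absurd rfl x8
  refine ⟨i, j, k, ?_⟩
  rw [std, show C3 9 ^ k.val = σ2 by rw [← inv_mul_eq_one.1 hone],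
    hσ2, hσ1]
  group

theorem of_comm12 {σ : Perm (Fin 9)} (hs : Perm.sign σ = 1) (h : Commute σ (C1 9 * C2 9)) :
    ∃ (i j k : Fin 3) (b : Fin 2), σ = std i j k * U 9 ^ b.val := by
  by_cases h0 : (σ 0).val < 3
  · obtain ⟨i, j, k, e⟩ := core12 hs h h0
    exact ⟨i, j, k, 0, by rw [e]; simp⟩
  have hσU : ((σ * U 9) 0).val < 3 := by
    rw [Perm.mul_apply, show U 9 0 = 3 by decide]
    by_contra h3
    have h06 : (σ 0).val < 6 := (keep moved12 h 0).2 (by decide)
    have h36 : (σ 3).val < 6 := (keep moved12 h 3).2 (by decide)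
    have key : ∀ a b : Fin 9, 3 ≤ a.val → a.val < 6 → 3 ≤ b.val → b.val < 6 → b = a ∨
        b = (C1 9 * C2 9) a ∨ b = (C1 9 * C2 9) ((C1 9 * C2 9) a) := by decide
    rcases key _ _ (by omega) h06 (by omega) h36 with e | e | e
    · exact absurd (σ.injective e) (by decide)
    · rw [← comm_apply h] at e
      exact absurd (σ.injective e) (by decide)
    · rw [← comm_apply h, ← comm_apply h] at e
      exact absurd (σ.injective e) (by decide)
  obtain ⟨i, j, k, e⟩ := core12 (by rw [map_mul, hs, sign_facts.2.2.2.1, one_mul])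
    (h.mul_left comm_facts.2.2.2.1) hσU
  refine ⟨i, j, k, 1, ?_⟩
  rw [← e, mul_assoc, show ((1 : Fin 2) : ℕ) = 1 from rfl, pow_one,
    show U 9 * U 9 = 1 by decide, mul_one]

/-- An element of odd order of the centraliser of `(0 1 2)(3 4 5)` is a product of the
3-cycles. -/
theorem of_comm12_odd {σ : Perm (Fin 9)} (hs : Perm.sign σ = 1) (h : Commute σ (C1 9 * C2 9))
    {m : ℕ} (hm : Odd m) (hσ : σ ^ m = 1) : ∃ i j k : Fin 3, σ = std i j k := by
  obtain ⟨i, j, k, b, e⟩ := of_comm12 hs h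
  fin_cases b
  · exact ⟨i, j, k, by simpa using e⟩
  exfalso
  have key : ∀ i j k : Fin 3, ∀ a : Fin 9,
      (a.val < 3 → 3 ≤ ((std i j k * U 9) a).val ∧ ((std i j k * U 9) a).val < 6) ∧
      (3 ≤ a.val → a.val < 6 → ((std i j k * U 9) a).val < 3) := by decide
  have e' : σ = std i j k * U 9 := by simpa using e
  obtain ⟨r, rfl⟩ := hm
  have : ∀ r : ℕ, ∀ a : Fin 9, a.val < 3 → ((σ ^ (2 * r)) a).val < 3 := by
    intro r
    induction r with
    | zero => intro a ha; simpa using ha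
    | succ r ih =>
      intro a ha
      rw [show 2 * (r + 1) = 2 * r + 1 + 1 by ring, pow_succ, pow_succ, Perm.mul_apply,
        Perm.mul_apply]
      refine ih _ ?_
      obtain ⟨x1, x2⟩ := (key i j k a).1 ha
      rw [← e'] at x1 x2
      have := (key i j k (σ a)).2 x1 x2
      rwa [← e'] at this
  have h1 := this r 0 (by decide)
  have h2 : ((σ ^ (2 * r + 1)) 0).val ≥ 3 := by
    rw [pow_succ', Perm.mul_apply]
    have := ((key i j k _).1 h1).1
    rwa [← e'] at this
  rw [hσ] at h2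
  simp at h2

theorem invol12 : ∀ i j k : Fin 3, ∀ b : Fin 2, std i j k * U 9 ^ b.val * (std i j k * U 9 ^ b.val) = 1 →
    std i j k * U 9 ^ b.val = 1 ∨
    std i j k * U 9 ^ b.val = std i 0 (2 * k.val) * U 9 * (std i 0 (2 * k.val))⁻¹ := by decide

theorem of_comm23 {σ : Perm (Fin 9)} (hs : Perm.sign σ = 1) (h2 : Commute σ (C2 9))
    (h3 : Commute σ (C3 9)) : ∃ i j k : Fin 3, σ = std i j k := by
  obtain ⟨r1, r2, r3⟩ := pow_reps
  obtain ⟨-, -, c23⟩ := comm_single
  have a3 := (keep moved2 h2 3).2 (by decide)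
  have a6 := (keep moved3 h3 6).2 (by decide)
  obtain ⟨j, hj⟩ := r2 _ a3.1 a3.2
  obtain ⟨k, hk⟩ := r3 _ a6
  set σ2 := (C2 9 ^ j.val * C3 9 ^ k.val)⁻¹ * σ with hσ2
  have k2 : Commute σ2 (C2 9) :=
    (((Commute.refl _).pow_left _).mul_left (c23.symm.pow_left _)).inv_left.mul_left h2
  have k3 : Commute σ2 (C3 9) :=
    ((c23.pow_left _).mul_left ((Commute.refl _).pow_left _)).inv_left.mul_left h3
  have s2 : Perm.sign σ2 = 1 := by simp [hσ2, hs, sign_facts.2.1, sign_facts.2.2.1]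
  have f3 : σ2 3 = 3 := by
    rw [hσ2, Perm.mul_apply, Perm.inv_eq_iff_eq, Perm.mul_apply,
      Perm.pow_apply_eq_self_of_apply_eq_self (show C3 9 3 = 3 by decide)]
    exact hj.symm
  have f6 : σ2 6 = 6 := by
    rw [hσ2, Perm.mul_apply, Perm.inv_eq_iff_eq, (c23.pow_pow _ _).eq, Perm.mul_apply,
      Perm.pow_apply_eq_self_of_apply_eq_self (show C2 9 6 = 6 by decide)]
    exact hk.symm
  have f4 : σ2 4 = 4 := by rw [show (4 : Fin 9) = C2 9 3 by decide, comm_apply k2, f3]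
  have f5 : σ2 5 = 5 := by rw [show (5 : Fin 9) = C2 9 4 by decide, comm_apply k2, f4]
  have f7 : σ2 7 = 7 := by rw [show (7 : Fin 9) = C3 9 6 by decide, comm_apply k3, f6]
  have f8 : σ2 8 = 8 := by rw [show (8 : Fin 9) = C3 9 7 by decide, comm_apply k3, f7]
  have hfix : ∀ x : Fin 9, 3 ≤ x.val → σ2 x = x := by
    intro x hx
    fin_cases x
    · simp at hx
    · simp at hx
    · simp at hx
    · exact f3
    · exact f4
    · exact f5
    · exact f6
    · exact f7
    · exact f8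
  have a0 : (σ2 0).val < 3 := by
    by_contra hge
    exact absurd (σ2.injective (hfix (σ2 0) (by omega))) (fun e => hge (by rw [e]; decide))
  obtain ⟨i, hi⟩ := r1 _ a0
  have hone : (C1 9 ^ i.val)⁻¹ * σ2 = 1 := by
    refine eq_one_of_two (by simp [s2, sign_facts.1]) 1 2 fun x x1 x2 => ?_
    rw [Perm.mul_apply]
    by_cases hx : 3 ≤ x.val
    · rw [hfix x hx, Perm.inv_eq_iff_eq]
      refine (Perm.pow_apply_eq_self_of_apply_eq_self ?_ _).symm
      revert hx; revert x; decide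
    · obtain rfl : x = 0 := by revert x; decide
      rw [← hi, inv_app]
  refine ⟨i, j, k, ?_⟩
  rw [std, show C1 9 ^ i.val = σ2 from inv_mul_eq_one.1 hone, hσ2]
  obtain ⟨c12, c13, -⟩ := comm_single
  have hc : Commute (C1 9 ^ i.val) (C2 9 ^ j.val * C3 9 ^ k.val) :=
    ((c12.pow_pow _ _).mul_right (c13.pow_pow _ _))
  rw [show C1 9 ^ i.val = σ2 from inv_mul_eq_one.1 hone, hσ2] at hc
  rw [mul_assoc (_ * σ) _ _, hc.eq]
  group

theorem of_comm123 {σ : Perm (Fin 9)} (hs : Perm.sign σ = 1)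
    (h : Commute σ (C1 9 * C2 9 * C3 9)) :
    ∃ i j k l : Fin 3, σ = Rho ^ l.val * std i j k := by
  obtain ⟨-, -, -, -, k1, k2, k3, kr⟩ := comm_facts
  obtain ⟨r1, r2, r3⟩ := pow_reps
  have hl : ∀ a : Fin 9, ∃ l : Fin 3, ((Rho ^ l.val)⁻¹ a).val < 3 := by decide
  obtain ⟨l, hl⟩ := hl (σ 0)
  obtain ⟨i, hi⟩ := r1 _ hl
  set σ1 := (C1 9 ^ i.val)⁻¹ * ((Rho ^ l.val)⁻¹ * σ) with hσ1
  have h1 : Commute σ1 (C1 9 * C2 9 * C3 9) :=
    (k1.pow_left _).inv_left.mul_left ((kr.pow_left _).inv_left.mul_left h)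
  have s1 : Perm.sign σ1 = 1 := by simp [hσ1, hs, sign_facts.1, sign_facts.2.2.2.2]
  have f0 : σ1 0 = 0 := by
    rw [hσ1, Perm.mul_apply, Perm.mul_apply, ← hi, inv_app]
  have next' : ∀ {a b c : Fin 9}, σ1 a = c → (C1 9 * C2 9 * C3 9) a = b → σ1 b = (C1 9 * C2 9 * C3 9) c := fun {a b c} e e' => by
    rw [← e', comm_apply h1, e]
  have f1 : σ1 1 = 1 := (next' f0 (by decide)).trans (by decide)
  have f2 : σ1 2 = 2 := (next' f1 (by decide)).trans (by decide)
  have out : ∀ a : Fin 9, 3 ≤ a.val → 3 ≤ (σ1 a).val := by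
    intro a ha
    by_contra hlt
    rcases (by omega : (σ1 a).val = 0 ∨ (σ1 a).val = 1 ∨ (σ1 a).val = 2) with e | e | e
    · have e' := σ1.injective ((Fin.ext e : σ1 a = 0).trans f0.symm); rw [e'] at ha; simp at ha
    · have e' := σ1.injective ((Fin.ext e : σ1 a = 1).trans f1.symm); rw [e'] at ha; simp at ha
    · have e' := σ1.injective ((Fin.ext e : σ1 a = 2).trans f2.symm); rw [e'] at ha; simp at ha
  have back : σ = Rho ^ l.val * (C1 9 ^ i.val * σ1) := by rw [hσ1]; group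
  by_cases h3 : (σ1 3).val < 6
  · obtain ⟨j, hj⟩ := r2 _ (out 3 (by decide)) h3
    have h6 : 6 ≤ (σ1 6).val := by
      by_contra hlt
      have key : ∀ a b : Fin 9, 3 ≤ a.val → a.val < 6 → 3 ≤ b.val → b.val < 6 → b = a ∨
          b = (C1 9 * C2 9 * C3 9) a ∨ b = (C1 9 * C2 9 * C3 9) ((C1 9 * C2 9 * C3 9) a) := by
        decide
      rcases key _ _ (out 3 (by decide)) h3 (out 6 (by decide)) (by omega) with e | e | e
      · exact absurd (σ1.injective e) (by decide)
      · rw [← comm_apply h1] at e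
        exact absurd (σ1.injective e) (by decide)
      · rw [← comm_apply h1, ← comm_apply h1] at e
        exact absurd (σ1.injective e) (by decide)
    obtain ⟨k, hk⟩ := r3 _ h6
    refine ⟨i, j, k, l, ?_⟩
    suffices hσT : σ1 = C2 9 ^ j.val * C3 9 ^ k.val by
      rw [back, std, hσT, mul_assoc (C1 9 ^ i.val)]
    have fxj : ∀ x : Fin 9, C2 9 x = x → (C2 9 ^ j.val) x = x := fun x hx =>
      Perm.pow_apply_eq_self_of_apply_eq_self hx _
    have fxk : ∀ x : Fin 9, C3 9 x = x → (C3 9 ^ k.val) x = x := fun x hx =>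
      Perm.pow_apply_eq_self_of_apply_eq_self hx _
    have hT : Commute (C2 9 ^ j.val * C3 9 ^ k.val) (C1 9 * C2 9 * C3 9) :=
      (k2.pow_left _).mul_left (k3.pow_left _)
    set T := C2 9 ^ j.val * C3 9 ^ k.val with hTdef
    have step : ∀ {a b : Fin 9}, σ1 a = T a → (C1 9 * C2 9 * C3 9) a = b → σ1 b = T b := fun {a b} e e' => by
      rw [← e', comm_apply h1, e, comm_apply hT]
    have e0 : σ1 0 = T 0 := by
      rw [f0, hTdef, Perm.mul_apply, fxk 0 (by decide), fxj 0 (by decide)]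
    have e3 : σ1 3 = T 3 := by
      show σ1 3 = (C2 9 ^ j.val) ((C3 9 ^ k.val) 3)
      rw [fxk 3 (by decide), hj]
    have e6 : σ1 6 = T 6 := by
      rw [hTdef, (comm_single.2.2.pow_pow _ _).eq]
      show σ1 6 = (C3 9 ^ k.val) ((C2 9 ^ j.val) 6)
      rw [fxj 6 (by decide), hk]
    have e1 : σ1 1 = T 1 := step e0 (by decide)
    have e2 : σ1 2 = T 2 := step e1 (by decide)
    have e4 : σ1 4 = T 4 := step e3 (by decide)
    have e5 : σ1 5 = T 5 := step e4 (by decide)
    have e7 : σ1 7 = T 7 := step e6 (by decide)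
    have e8 : σ1 8 = T 8 := step e7 (by decide)
    ext x : 1
    rcases fin9 x with rfl | rfl | rfl | rfl | rfl | rfl | rfl | rfl | rfl <;> assumption
  · exfalso
    obtain ⟨k, hk⟩ := r3 _ (Nat.le_of_not_lt h3)
    have h6 : (σ1 6).val < 6 := by
      by_contra hge
      have key : ∀ a b : Fin 9, 6 ≤ a.val → 6 ≤ b.val → b = a ∨
          b = (C1 9 * C2 9 * C3 9) a ∨ b = (C1 9 * C2 9 * C3 9) ((C1 9 * C2 9 * C3 9) a) := by
        decide
      rcases key _ _ (Nat.le_of_not_lt h3) (Nat.le_of_not_lt hge) with e | e | e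
      · exact absurd (σ1.injective e) (by decide)
      · rw [← comm_apply h1] at e
        exact absurd (σ1.injective e) (by decide)
      · rw [← comm_apply h1, ← comm_apply h1] at e
        exact absurd (σ1.injective e) (by decide)
    obtain ⟨j, hj⟩ := r2 _ (out 6 (by decide)) h6
    set T := C2 9 ^ j.val * C3 9 ^ k.val * (swap 3 6 * swap 4 7 * swap 5 8) with hTdef
    have hT : Commute T (C1 9 * C2 9 * C3 9) :=
      ((k2.pow_left _).mul_left (k3.pow_left _)).mul_left (by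
        unfold Commute SemiconjBy; decide)
    have hsT : Perm.sign T = -1 := by
      rw [hTdef, map_mul, map_mul, map_pow, map_pow, sign_facts.2.1, sign_facts.2.2.1, one_pow,
        one_pow, one_mul, one_mul]
      decide
    have step : ∀ {a b : Fin 9}, σ1 a = T a → (C1 9 * C2 9 * C3 9) a = b → σ1 b = T b := fun {a b} e e' => by
      rw [← e', comm_apply h1, e, comm_apply hT]
    have fxj : ∀ x : Fin 9, C2 9 x = x → (C2 9 ^ j.val) x = x := fun x hx =>
      Perm.pow_apply_eq_self_of_apply_eq_self hx _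
    have fxk : ∀ x : Fin 9, C3 9 x = x → (C3 9 ^ k.val) x = x := fun x hx =>
      Perm.pow_apply_eq_self_of_apply_eq_self hx _
    have e0 : σ1 0 = T 0 := by
      show σ1 0 = (C2 9 ^ j.val) ((C3 9 ^ k.val) ((swap 3 6 * swap 4 7 * swap 5 8 : Perm (Fin 9)) 0))
      rw [show ((swap 3 6 * swap 4 7 * swap 5 8 : Perm (Fin 9)) 0) = 0 by decide,
        fxk 0 (by decide), fxj 0 (by decide), f0]
    have e3 : σ1 3 = T 3 := by
      rw [hTdef, (comm_single.2.2.pow_pow _ _).eq]
      show σ1 3 = (C3 9 ^ k.val) ((C2 9 ^ j.val) ((swap 3 6 * swap 4 7 * swap 5 8 : Perm (Fin 9)) 3))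
      rw [show ((swap 3 6 * swap 4 7 * swap 5 8 : Perm (Fin 9)) 3) = 6 by decide,
        fxj 6 (by decide), hk]
    have e6 : σ1 6 = T 6 := by
      show σ1 6 = (C2 9 ^ j.val) ((C3 9 ^ k.val) ((swap 3 6 * swap 4 7 * swap 5 8 : Perm (Fin 9)) 6))
      rw [show ((swap 3 6 * swap 4 7 * swap 5 8 : Perm (Fin 9)) 6) = 3 by decide,
        fxk 3 (by decide), hj]
    have e1 : σ1 1 = T 1 := step e0 (by decide)
    have e2 : σ1 2 = T 2 := step e1 (by decide)
    have e4 : σ1 4 = T 4 := step e3 (by decide)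
    have e5 : σ1 5 = T 5 := step e4 (by decide)
    have e7 : σ1 7 = T 7 := step e6 (by decide)
    have e8 : σ1 8 = T 8 := step e7 (by decide)
    have heq : σ1 = T := by
      ext x : 1
      rcases fin9 x with rfl | rfl | rfl | rfl | rfl | rfl | rfl | rfl | rfl <;> assumption
    rw [heq, hsT] at s1
    exact absurd s1 (by decide)

theorem std_inj : ∀ i j k : Fin 3, ((std i j k) 0).val = i.val ∧
    ((std i j k) 3).val = 3 + j.val ∧ ((std i j k) 6).val = 6 + k.val := by decide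

theorem rho_std_inj : ∀ i j k l : Fin 3,
    ((Rho ^ l.val * std i j k) 0).val = 3 * ((0 + l.val) % 3) + i.val ∧
    ((Rho ^ l.val * std i j k) 3).val = 3 * ((1 + l.val) % 3) + j.val ∧
    ((Rho ^ l.val * std i j k) 6).val = 3 * ((2 + l.val) % 3) + k.val := by decide

theorem supp12 : ∀ i : Fin 3, (C3 9 ^ i.val * (C1 9 * C2 9)).support.card = 6 → i = 0 := by
  decide

theorem supp2 : ∀ i : Fin 3, (C3 9 ^ i.val * C2 9).support.card = 3 → i = 0 := by decide

theorem std_fix_U : ∀ i j k : Fin 3, U 9 * std i j k = std i j k * U 9 → i = j ∧ k = 0 := by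
  decide

theorem std_block : ∀ i j k : Fin 3, (std i j k).support.card = 3 →
    ∃ q : Fin 3, ∀ x : Fin 9, std i j k x ≠ x ↔ x.val / 3 = q.val := by decide

theorem cubes_eq : ∀ a b c d : Fin 3, a ≠ b → c ≠ d →
    (swap (1 : Fin 9) 2 * swap 4 5 *
      (swap (⟨3 + a.val, by omega⟩ : Fin 9) ⟨3 + b.val, by omega⟩ *
        swap (⟨6 + c.val, by omega⟩ : Fin 9) ⟨6 + d.val, by omega⟩)) ^ 3 =
      swap (1 : Fin 9) 2 * swap (⟨6 + c.val, by omega⟩ : Fin 9) ⟨6 + d.val, by omega⟩ ∧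
    (swap (1 : Fin 9) 2 * swap 4 5 *
      (swap (⟨6 + a.val, by omega⟩ : Fin 9) ⟨6 + b.val, by omega⟩ *
        swap (⟨c.val, by omega⟩ : Fin 9) ⟨d.val, by omega⟩)) ^ 3 =
      swap (4 : Fin 9) 5 * swap (⟨6 + a.val, by omega⟩ : Fin 9) ⟨6 + b.val, by omega⟩ := by
  decide

/-! ### Groups of odd order containing the standard 3-cycles -/

/-- The 3-cycle `(a b c)`. -/
def cyc {α : Type*} [DecidableEq α] (a b c : α) : Perm α := swap a b * swap b c

section

variable {α : Type*} [DecidableEq α] {a b c d e : α}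

theorem cyc_apply (hab : a ≠ b) (hbc : b ≠ c) (hac : a ≠ c) :
    cyc a b c a = b ∧ cyc a b c b = c ∧ cyc a b c c = a ∧
      ∀ x, x ≠ a → x ≠ b → x ≠ c → cyc a b c x = x := by
  refine ⟨?_, ?_, ?_, fun x h1 h2 h3 => ?_⟩
  · rw [cyc, Perm.mul_apply, swap_apply_of_ne_of_ne hab hac, swap_apply_left]
  · rw [cyc, Perm.mul_apply, swap_apply_left, swap_apply_of_ne_of_ne (Ne.symm hac) (Ne.symm hbc)]
  · rw [cyc, Perm.mul_apply, swap_apply_right, swap_apply_right]
  · rw [cyc, Perm.mul_apply, swap_apply_of_ne_of_ne h2 h3, swap_apply_of_ne_of_ne h1 h2]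

theorem eq_cyc (hab : a ≠ b) (hbc : b ≠ c) (hac : a ≠ c) {f : Perm α} (ha : f a = b)
    (hb : f b = c) (hc : f c = a) (hx : ∀ x, x ≠ a → x ≠ b → x ≠ c → f x = x) :
    f = cyc a b c := by
  obtain ⟨h1, h2, h3, h4⟩ := cyc_apply hab hbc hac
  ext x
  by_cases e1 : x = a
  · subst e1; rw [ha, h1]
  by_cases e2 : x = b
  · subst e2; rw [hb, h2]
  by_cases e3 : x = c
  · subst e3; rw [hc, h3]
  rw [hx x e1 e2 e3, h4 x e1 e2 e3]

theorem cyc_rotate (hab : a ≠ b) (hbc : b ≠ c) (hac : a ≠ c) : cyc a b c = cyc b c a := by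
  obtain ⟨h1, h2, h3, h4⟩ := cyc_apply hab hbc hac
  exact eq_cyc hbc (Ne.symm hac) (Ne.symm hab) h2 h3 h1 fun x x1 x2 x3 => h4 x x3 x1 x2

theorem cyc_inv (hab : a ≠ b) (hbc : b ≠ c) (hac : a ≠ c) : (cyc a b c)⁻¹ = cyc a c b := by
  obtain ⟨h1, h2, h3, h4⟩ := cyc_apply hab hbc hac
  exact eq_cyc hac (Ne.symm hbc) hab (Perm.inv_eq_iff_eq.2 h3.symm)
    (Perm.inv_eq_iff_eq.2 h2.symm) (Perm.inv_eq_iff_eq.2 h1.symm)
    fun x x1 x2 x3 => Perm.inv_eq_iff_eq.2 (h4 x x1 x3 x2).symm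

theorem cyc_conj (f : Perm α) : f * cyc a b c * f⁻¹ = cyc (f a) (f b) (f c) := by
  rw [cyc, cyc, swap_apply_apply, swap_apply_apply]
  group

theorem no_pair {H : Subgroup (Perm α)} (hodd : ∀ x ∈ H, Odd (orderOf x)) (hab : a ≠ b)
    (hac : a ≠ c) (hbc : b ≠ c) (had : a ≠ d) (hbd : b ≠ d) (hcd : c ≠ d)
    (h1 : cyc a b c ∈ H) (h2 : cyc a b d ∈ H) : False := by
  obtain ⟨p1, p2, p3, p4⟩ := cyc_apply hab hbc hac
  obtain ⟨q1, q2, q3, q4⟩ := cyc_apply hab hbd had
  set f := cyc a b c * cyc a b d with hf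
  have fa : f a = c := by rw [hf, Perm.mul_apply, q1, p2]
  have fc : f c = a := by
    rw [hf, Perm.mul_apply, q4 c (Ne.symm hac) (Ne.symm hbc) hcd, p3]
  have fb : f b = d := by
    rw [hf, Perm.mul_apply, q2, p4 d (Ne.symm had) (Ne.symm hbd) (Ne.symm hcd)]
  have fd : f d = b := by rw [hf, Perm.mul_apply, q3, p1]
  have f2 : f * f = 1 := by
    ext x
    rw [Perm.mul_apply, Perm.one_apply]
    by_cases e1 : x = a
    · subst e1; rw [fa, fc]
    by_cases e2 : x = b
    · subst e2; rw [fb, fd]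
    by_cases e3 : x = c
    · subst e3; rw [fc, fa]
    by_cases e4 : x = d
    · subst e4; rw [fd, fb]
    have e : f x = x := by rw [hf, Perm.mul_apply, q4 x e1 e2 e4, p4 x e1 e2 e3]
    rw [e, e]
  have ho : orderOf f = 2 := orderOf_eq_prime (by rw [pow_two]; exact f2) (fun h => hac (by
    rw [h] at fa; exact fa))
  have := hodd f (H.mul_mem h1 h2)
  rw [ho] at this
  exact absurd this (by decide)

theorem three_eq_cyc [Fintype α] {f : Perm α} (h3 : f ^ 3 = 1) (hs : f.support.card = 3)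
    (ha : f a ≠ a) : f = cyc a (f a) (f (f a)) ∧ f a ≠ f (f a) ∧ a ≠ f (f a) := by
  have hff : f (f (f a)) = a := by simpa [pow_succ] using Equiv.congr_fun h3 a
  have h12 : f a ≠ f (f a) := fun h => ha (f.injective h).symm
  have h02 : a ≠ f (f a) := fun h => ha (by
    have := congrArg f h
    rwa [hff] at this)
  refine ⟨eq_cyc (Ne.symm ha) h12 h02 rfl rfl hff fun x x1 x2 x3 => ?_, h12, h02⟩
  by_contra hx
  have hsub : ({x, a, f a, f (f a)} : Finset α) ⊆ f.support := by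
    intro y hy
    simp only [Finset.mem_insert, Finset.mem_singleton] at hy
    rw [mem_support]
    rcases hy with rfl | rfl | rfl | rfl
    · exact hx
    · exact ha
    · exact Ne.symm h12
    · rw [hff]; exact h02
  have hc : ({x, a, f a, f (f a)} : Finset α).card = 4 := by
    rw [Finset.card_insert_of_notMem (by simp [x1, x2, x3]),
      Finset.card_insert_of_notMem (by simp [Ne.symm ha, h02]),
      Finset.card_insert_of_notMem (by simp [h12]), Finset.card_singleton]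
  have := Finset.card_le_card hsub
  omega

theorem comm_of_odd [Fintype α] {H : Subgroup (Perm α)} (hodd : ∀ x ∈ H, Odd (orderOf x))
    {f g : Perm α} (hf : f ∈ H) (hg : g ∈ H) (hf3 : f ^ 3 = 1) (hg3 : g ^ 3 = 1)
    (hfs : f.support.card = 3) (hgs : g.support.card = 3) : Commute f g := by
  by_cases hd : Perm.Disjoint f g
  · exact hd.commute
  obtain ⟨a, ha, ha'⟩ : ∃ a, f a ≠ a ∧ g a ≠ a := by
    by_contra hno
    exact hd fun x => by
      by_cases hx : f x = x
      · exact Or.inl hx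
      · exact Or.inr (by by_contra hx'; exact hno ⟨x, hx, hx'⟩)
  obtain ⟨ef, bc, ac⟩ := three_eq_cyc hf3 hfs ha
  obtain ⟨eg, de, ae⟩ := three_eq_cyc hg3 hgs ha'
  have ab : a ≠ f a := Ne.symm ha
  have ad : a ≠ g a := Ne.symm ha'
  generalize f a = b at *
  generalize f b = c at *
  generalize g a = d at *
  generalize g d = e at *
  subst ef eg
  by_cases h1 : d = b
  · subst h1
    by_cases h2 : e = c
    · subst h2; exact Commute.refl _
    · exact (no_pair hodd ab ac bc ae de (Ne.symm h2) hf hg).elim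
  by_cases h2 : d = c
  · subst h2
    by_cases h3 : e = b
    · subst h3
      rw [← cyc_inv ab bc ac]
      exact (Commute.refl _).inv_right
    · have := H.inv_mem hf
      rw [cyc_inv ab bc ac] at this
      exact (no_pair hodd ac ab (Ne.symm bc) ae de (Ne.symm h3) this hg).elim
  have hgi := H.inv_mem hg
  rw [cyc_inv ad de ae] at hgi
  by_cases h3 : e = b
  · subst h3
    exact (no_pair hodd ab ac bc ad (Ne.symm de) (Ne.symm h2) hf hgi).elim
  by_cases h4 : e = c
  · subst h4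
    have := H.inv_mem hf
    rw [cyc_inv ab bc ac] at this
    exact (no_pair hodd ac ab (Ne.symm bc) ad (Ne.symm de) (Ne.symm h1) this hgi).elim
  exfalso
  obtain ⟨p1, p2, p3, p4⟩ := cyc_apply ab bc ac
  have hm := H.mul_mem (H.mul_mem (H.mul_mem hf hg) (H.inv_mem hf)) (H.inv_mem hg)
  rw [cyc_conj, p1, p4 d (Ne.symm ad) h1 h2, p4 e (Ne.symm ae) h3 h4, cyc_inv ad de ae] at hm
  have hk : cyc b d e * cyc a e d = cyc a b d := by
    obtain ⟨r1, r2, r3, r4⟩ := cyc_apply (Ne.symm h1) de (Ne.symm h3)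
    obtain ⟨t1, t2, t3, t4⟩ := cyc_apply ae (Ne.symm de) ad
    refine eq_cyc ab (Ne.symm h1) ad ?_ ?_ ?_ fun x x1 x2 x3 => ?_
    · rw [Perm.mul_apply, t1, r3]
    · rw [Perm.mul_apply, t4 b (Ne.symm ab) (Ne.symm h3) (Ne.symm h1), r1]
    · rw [Perm.mul_apply, t3, r4 a ab ad ae]
    · by_cases x4 : x = e
      · subst x4; rw [Perm.mul_apply, t2, r2]
      · rw [Perm.mul_apply, t4 x x1 x4 x3, r4 x x2 x3 x4]
  rw [hk] at hm
  exact no_pair hodd ab ac bc ad (Ne.symm h1) (Ne.symm h2) hf hm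

end

theorem cycle_block : ∀ q : Fin 3, ∃ X ∈ [C1 9, C2 9, C3 9], X ^ 3 = 1 ∧ X.support.card = 3 ∧
    ∀ x : Fin 9, X x ≠ x ↔ x.val / 3 = q.val := by decide

theorem blocks {H : Subgroup (Perm (Fin 9))} (hodd : ∀ x ∈ H, Odd (orderOf x))
    (hsign : ∀ x ∈ H, Perm.sign x = 1)
    (h1 : C1 9 ∈ H) (h2 : C2 9 ∈ H) (h3 : C3 9 ∈ H) {t : Perm (Fin 9)} (ht : t ∈ H) (q : Fin 3) :
    ∃ q' : Fin 3, ∀ x : Fin 9, x.val / 3 = q.val ↔ (t x).val / 3 = q'.val := by
  obtain ⟨X, hXl, hX3, hXs, hX⟩ := cycle_block q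
  have hXH : X ∈ H := by
    simp only [List.mem_cons, List.not_mem_nil, or_false] at hXl
    rcases hXl with rfl | rfl | rfl <;> assumption
  set Y := t * X * t⁻¹ with hY
  have hYH : Y ∈ H := H.mul_mem (H.mul_mem ht hXH) (H.inv_mem ht)
  have hY3 : Y ^ 3 = 1 := by rw [hY, conj_pow, hX3]; group
  have hYs : Y.support.card = 3 := by rw [hY, card_support_conj, hXs]
  have hc : Commute Y (C2 9) ∧ Commute Y (C3 9) :=
    ⟨comm_of_odd hodd hYH h2 hY3 (by decide) hYs (by decide),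
     comm_of_odd hodd hYH h3 hY3 (by decide) hYs (by decide)⟩
  obtain ⟨i, j, k, e⟩ := of_comm23 (hsign Y hYH) hc.1 hc.2
  obtain ⟨q', hq'⟩ := std_block i j k (e ▸ hYs)
  refine ⟨q', fun x => ?_⟩
  rw [← hX, ← hq', ← e, hY, Perm.mul_apply, Perm.mul_apply, inv_app,
    t.injective.ne_iff]

/-- An element of a group of odd order containing the three 3-cycles either lies in the group
they generate or permutes the three blocks cyclically. -/
theorem block_cases {H : Subgroup (Perm (Fin 9))} (hodd : ∀ x ∈ H, Odd (orderOf x))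
    (hsign : ∀ x ∈ H, Perm.sign x = 1)
    (h1 : C1 9 ∈ H) (h2 : C2 9 ∈ H) (h3 : C3 9 ∈ H) {t : Perm (Fin 9)} (ht : t ∈ H) :
    (∃ i j k : Fin 3, t = std i j k) ∨ (∀ x : Fin 9, (t x).val / 3 = (x.val / 3 + 1) % 3) ∨
      (∀ x : Fin 9, (t x).val / 3 = (x.val / 3 + 2) % 3) := by
  choose f hf using fun q => blocks hodd hsign h1 h2 h3 ht q
  have hval : ∀ (x : Fin 9) (q : Fin 3), x.val / 3 = q.val → (t x).val / 3 = (f q).val :=
    fun x q h => (hf q x).1 h
  have hinj : Function.Injective f := by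
    intro p q hpq
    have hp : ((⟨3 * p.val, by omega⟩ : Fin 9).val) / 3 = p.val := by
      show 3 * p.val / 3 = p.val; omega
    have := (hf q _).2 (hpq ▸ hval _ p hp)
    exact Fin.ext (hp.symm.trans this)
  have key : ∀ f : Fin 3 → Fin 3, Function.Injective f → (∀ q, f (f q) = q) ∨
      (∀ q, (f q).val = (q.val + 1) % 3) ∨ (∀ q, (f q).val = (q.val + 2) % 3) := by decide
  rcases key f hinj with h | h | h
  · left
    obtain ⟨r, hr⟩ := hodd t ht
    have hpow : t ^ (2 * r + 1) = 1 := by rw [← hr]; exact pow_orderOf_eq_one t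
    have hfix : ∀ q, f q = q := by
      intro q
      have hev : ∀ s : ℕ, ∀ x : Fin 9, x.val / 3 = q.val →
          ((t ^ (2 * s)) x).val / 3 = q.val := by
        intro s
        induction s with
        | zero => intro x hx; simpa using hx
        | succ s ih =>
          intro x hx
          rw [show 2 * (s + 1) = 2 * s + 1 + 1 by ring, pow_succ, pow_succ, Perm.mul_apply,
            Perm.mul_apply]
          refine ih _ ?_
          rw [hval _ (f q) (hval x q hx), h]
      have h0 : ((⟨3 * q.val, by omega⟩ : Fin 9).val) / 3 = q.val := by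
        show 3 * q.val / 3 = q.val; omega
      have h' := hval _ q (hev r _ h0)
      rw [← Perm.mul_apply, ← pow_succ', hpow, Perm.one_apply, h0] at h'
      exact Fin.ext h'.symm
    have hsq : ∀ q : Fin 3, ∀ X : Perm (Fin 9), (∀ x : Fin 9, X x ≠ x ↔ x.val / 3 = q.val) →
        X ∈ H → X ^ 3 = 1 → X.support.card = 3 → Commute t X := by
      intro q X hX hXH hX3 hXs
      set Y := t * X * t⁻¹ with hY
      have hYm : ∀ x, Y x ≠ x → x.val / 3 = q.val := by
        intro x hx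
        have hx' : X (t⁻¹ x) ≠ t⁻¹ x := fun e => hx (by
          rw [hY, Perm.mul_apply, Perm.mul_apply, e, app_inv])
        have := hval _ q ((hX _).1 hx')
        rwa [app_inv, hfix] at this
      have hYX : Y.support = X.support := by
        refine Finset.eq_of_subset_of_card_le (fun x hx => ?_) ?_
        · rw [mem_support] at hx ⊢
          exact (hX x).2 (hYm x hx)
        · rw [hXs, hY, card_support_conj, hXs]
      obtain ⟨a, ha⟩ : ∃ a, X a ≠ a := ⟨⟨3 * q.val, by omega⟩, (hX _).2 (by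
        show 3 * q.val / 3 = q.val; omega)⟩
      have ha' : Y a ≠ a := by rw [← mem_support, hYX, mem_support]; exact ha
      have hY3 : Y ^ 3 = 1 := by rw [hY, conj_pow, hX3]; group
      obtain ⟨eX, bc, ac⟩ := three_eq_cyc hX3 hXs ha
      obtain ⟨eY, de, ae⟩ := three_eq_cyc hY3 (by rw [hYX, hXs]) ha'
      have hYa : Y a = X a ∨ Y a = X (X a) := by
        by_contra hno
        push Not at hno
        have hm : X (Y a) = Y a := by
          conv_lhs => rw [eX]
          exact (cyc_apply (Ne.symm ha) bc ac).2.2.2 _ ha' hno.1 hno.2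
        have : Y a ∈ X.support := by rw [← hYX, mem_support]; exact fun e => ha' (Y.injective e)
        exact (mem_support.1 this) hm
      have hYY : Y (Y a) ∈ X.support := by
        rw [← hYX, mem_support]; exact fun e => de (Y.injective e).symm
      have hXX : ∀ x ∈ X.support, x = a ∨ x = X a ∨ x = X (X a) := by
        intro x hx
        by_contra hno
        push Not at hno
        refine mem_support.1 hx ?_
        conv_lhs => rw [eX]
        exact (cyc_apply (Ne.symm ha) bc ac).2.2.2 _ hno.1 hno.2.1 hno.2.2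
      rcases hYa with e | e
      · have e2 : Y (Y a) = X (X a) := by
          rcases hXX _ hYY with h | h | h
          · exact absurd h.symm ae
          · exact absurd (h.trans e.symm).symm de
          · exact h
        rw [e2, e, ← eX] at eY
        exact mul_inv_eq_iff_eq_mul.1 (hY.symm.trans eY)
      · exfalso
        have e2 : Y (Y a) = X a := by
          rcases hXX _ hYY with h | h | h
          · exact absurd h.symm ae
          · exact h
          · exact absurd (h.trans e.symm).symm de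
        rw [e2, e, ← cyc_inv (Ne.symm ha) bc ac, ← eX] at eY
        have hinv : t * X * t⁻¹ = X⁻¹ := hY.symm.trans eY
        have hev : ∀ s : ℕ, t ^ (2 * s) * X * (t ^ (2 * s))⁻¹ = X := by
          intro s
          induction s with
          | zero => simp
          | succ s ih =>
            rw [show 2 * (s + 1) = 2 + 2 * s by ring, pow_add,
              show t ^ 2 * t ^ (2 * s) * X * (t ^ 2 * t ^ (2 * s))⁻¹ =
                t ^ 2 * (t ^ (2 * s) * X * (t ^ (2 * s))⁻¹) * (t ^ 2)⁻¹ by group, ih, pow_two,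
              show t * t * X * (t * t)⁻¹ = t * (t * X * t⁻¹) * t⁻¹ by group, hinv,
              show t * X⁻¹ * t⁻¹ = (t * X * t⁻¹)⁻¹ by group, hinv, inv_inv]
        have h5 : X⁻¹ = X := by
          have := hev r
          rw [show t ^ (2 * r) = t⁻¹ from eq_inv_of_mul_eq_one_left (by rw [← pow_succ, hpow]),
            inv_inv] at this
          rw [← hinv]
          conv_lhs => rw [← this]
          group
        exact ha (by
          have h6 := congrArg (fun g => g * X) h5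
          rw [inv_mul_cancel] at h6
          have h7 := hX3
          rw [pow_succ, pow_two, ← h6, one_mul] at h7
          rw [h7]; rfl)
    exact of_comm23 (hsign t ht)
      (hsq 1 (C2 9) (by decide) h2 (by decide) (by decide))
      (hsq 2 (C3 9) (by decide) h3 (by decide) (by decide))
  · right; left
    intro x
    rw [hval x ⟨x.val / 3, by omega⟩ rfl, h]
  · right; right
    intro x
    rw [hval x ⟨x.val / 3, by omega⟩ rfl, h]

end Cfsg.Agent.DoubleCoverPerm91
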