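import Cfsg.Agent.Lib.DoubleCover90Core
import Cfsg.Agent.Lib.DoubleCoverPerm91

/-!
# Lifts of the standard 3-cycles of degree 9: elements of odd order
-/

set_option autoImplicit false
set_option maxRecDepth 10000

namespace Cfsg.Agent.DoubleCoverLifts91

open Equiv Equiv.Perm
open Cfsg.Agent.DoubleCover90
open Cfsg.Agent.DoubleCoverPerm91

universe u

variable {G : Type u} [Group G] [Finite G]

theorem odd_of_pow {x : G} {m : ℕ} (hm : Odd m) (h : x ^ m = 1) : Odd (orderOf x) :=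
  hm.of_dvd_nat (orderOf_dvd_of_pow_eq_one h)

theorem odd_of_three {x : G} (h : x ^ 3 = 1) : Odd (orderOf x) := odd_of_pow (by decide) h

theorem odd_of_mem {H : Subgroup G} (hH : Odd (Nat.card H)) {x : G} (hx : x ∈ H) :
    Odd (orderOf x) := by
  refine hH.of_dvd_nat ?_
  rw [show orderOf x = orderOf (⟨x, hx⟩ : H) from Subgroup.orderOf_coe ⟨x, hx⟩]
  exact orderOf_dvd_natCard _

theorem odd_inv {x : G} (h : Odd (orderOf x)) : Odd (orderOf x⁻¹) := by rwa [orderOf_inv]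

theorem odd_conj {x : G} (g : G) (h : Odd (orderOf x)) : Odd (orderOf (g * x * g⁻¹)) := by
  rwa [show g * x * g⁻¹ = MulAut.conj g x from rfl, MulEquiv.orderOf_eq]

theorem odd_card_of_odd {H : Subgroup G} (h : ∀ x ∈ H, Odd (orderOf x)) : Odd (Nat.card H) := by
  haveI : Fact (Nat.Prime 2) := ⟨Nat.prime_two⟩
  rw [← Nat.not_even_iff_odd, even_iff_two_dvd]
  intro h2
  obtain ⟨x, hx⟩ := exists_prime_orderOf_dvd_card' 2 h2
  have := h x.1 x.2
  rw [Subgroup.orderOf_coe, hx] at this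
  exact absurd this (by decide)

theorem exists_sqrt {x : G} (h : Odd (orderOf x)) : ∃ m : ℕ, x = (x * x) ^ m := by
  obtain ⟨r, hr⟩ := h
  refine ⟨r + 1, ?_⟩
  rw [← pow_two, ← pow_mul, show 2 * (r + 1) = orderOf x + 1 by omega, pow_succ,
    pow_orderOf_eq_one, one_mul]

theorem eq_one_of_sq {x : G} (h : Odd (orderOf x)) (h2 : x * x = 1) : x = 1 := by
  obtain ⟨m, hm⟩ := exists_sqrt h
  rw [hm, h2, one_pow]

theorem comm_of_sq {x y : G} (h : Odd (orderOf x)) (h2 : Commute (x * x) y) : Commute x y := by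
  obtain ⟨m, hm⟩ := exists_sqrt h
  rw [hm]; exact h2.pow_left m

theorem mem_of_sq {H : Subgroup G} {x : G} (h : Odd (orderOf x)) (h2 : x * x ∈ H) : x ∈ H := by
  obtain ⟨m, hm⟩ := exists_sqrt h
  rw [hm]; exact H.pow_mem h2 m

omit [Finite G] in
theorem comm_iff_conj {x y : G} : Commute x y ↔ x * y * x⁻¹ = y :=
  mul_inv_eq_iff_eq_mul.symm

/-- An element of odd order normalising `⟨c⟩` of order 3 centralises it. -/
theorem comm_of_normalises {x c : G} (hx : Odd (orderOf x))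
    (h : x * c * x⁻¹ = c ∨ x * c * x⁻¹ = c⁻¹) : Commute x c := by
  rcases h with h | h
  · exact comm_iff_conj.2 h
  · refine comm_of_sq hx (comm_iff_conj.2 ?_)
    rw [show x * x * c * (x * x)⁻¹ = x * (x * c * x⁻¹) * x⁻¹ by group, h,
      show x * c⁻¹ * x⁻¹ = (x * c * x⁻¹)⁻¹ by group, h, inv_inv]

omit [Finite G] in
theorem comm_conj {x y : G} (g : G) (h : Commute x y) :
    Commute (g * x * g⁻¹) (g * y * g⁻¹) := h.conj g

theorem card_eq_of_conj {A B : Subgroup G} (g : G) (h : ∀ y, g * y * g⁻¹ ∈ A ↔ y ∈ B) :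
    Nat.card A = Nat.card B := by
  refine (Nat.card_congr (Equiv.ofBijective
    (fun y : B => (⟨g * y * g⁻¹, (h y).2 y.2⟩ : A)) ⟨?_, ?_⟩)).symm
  · intro y y' e
    exact Subtype.ext (mul_left_cancel (mul_right_cancel (congrArg Subtype.val e)))
  · rintro ⟨x, hx⟩
    refine ⟨⟨g⁻¹ * x * g, (h _).1 ?_⟩, Subtype.ext ?_⟩
    · rwa [show g * (g⁻¹ * x * g) * g⁻¹ = x by group]
    · show g * (g⁻¹ * x * g) * g⁻¹ = x; group

/-- In a group of order twice an odd number the elements of odd order form a subgroup. -/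
theorem exists_odd_half (X : Subgroup G) {m : ℕ} (hm : Odd m) (hX : Nat.card X = 2 * m) :
    ∃ T : Subgroup G, (∀ x, x ∈ T ↔ x ∈ X ∧ Odd (orderOf x)) ∧ Nat.card T = m := by
  classical
  haveI : Fact (Nat.Prime 2) := ⟨Nat.prime_two⟩
  letI : Fintype X := Fintype.ofFinite _
  let φ : X →* ℤˣ := Perm.sign.comp (MulAction.toPermHom X X)
  obtain ⟨t, ht⟩ := exists_prime_orderOf_dvd_card' (G := X) 2 (by rw [hX]; exact dvd_mul_right 2 m)
  set σ := MulAction.toPermHom X X t with hσ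
  have hσx : ∀ y : X, σ y = t * y := fun y => rfl
  have hfix : σ.support = Finset.univ := by
    ext y
    simp only [mem_support, Finset.mem_univ, iff_true, hσx]
    intro e
    have : t = 1 := mul_eq_right.1 e
    rw [this, orderOf_one] at ht
    omega
  have hσo : orderOf σ = 2 := by
    refine orderOf_eq_prime ?_ fun e => ?_
    · rw [hσ, ← map_pow, ← ht, pow_orderOf_eq_one, map_one]
    · have := congrArg Perm.support e
      rw [hfix, support_one] at this
      exact Finset.univ_nonempty.ne_empty this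
  have hst : φ t = -1 := by
    show Perm.sign σ = -1
    obtain ⟨k, hk⟩ := Equiv.Perm.cycleType_prime_order (by rw [hσo]; exact Nat.prime_two)
    rw [hσo] at hk
    have hsum := Equiv.Perm.sum_cycleType σ
    rw [hk, Multiset.sum_replicate, smul_eq_mul, hfix, Finset.card_univ,
      ← Nat.card_eq_fintype_card, hX] at hsum
    rw [sign_of_cycleType, hk, Multiset.sum_replicate, Multiset.card_replicate, smul_eq_mul,
      show (k + 1) * 2 + (k + 1) = 2 * m + m by omega, pow_add, pow_mul, neg_one_sq, one_pow,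
      one_mul, hm.neg_one_pow]
  have hone : ∀ x : X, Odd (orderOf x) → φ x = 1 := by
    intro x hx
    rcases Int.units_eq_one_or (φ x) with h | h
    · exact h
    · have h1 : φ x ^ orderOf x = 1 := by rw [← map_pow, pow_orderOf_eq_one, map_one]
      rw [h, hx.neg_one_pow] at h1
      exact absurd h1 (by decide)
  have hrange : φ.range = ⊤ := by
    refine eq_top_iff.2 fun s _ => ?_
    rcases Int.units_eq_one_or s with rfl | rfl
    exacts [φ.range.one_mem, ⟨t, hst⟩]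
  have hker : Nat.card φ.ker = m := by
    have h1 := φ.ker.card_mul_index
    rw [Subgroup.index_ker, hrange, Subgroup.card_top, hX,
      show Nat.card ℤˣ = 2 by rw [Nat.card_eq_fintype_card]; rfl] at h1
    omega
  refine ⟨φ.ker.map X.subtype, fun x => ⟨?_, ?_⟩, ?_⟩
  · rintro ⟨y, hy, rfl⟩
    exact ⟨y.2, odd_of_mem (H := φ.ker.map X.subtype) (by
      rw [Subgroup.card_map_of_injective X.subtype_injective, hker]; exact hm) ⟨y, hy, rfl⟩⟩
  · rintro ⟨hx, ho⟩
    refine ⟨⟨x, hx⟩, MonoidHom.mem_ker.2 (hone _ ?_), rfl⟩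
    rwa [show orderOf (⟨x, hx⟩ : X) = orderOf x from (Subgroup.orderOf_coe ⟨x, hx⟩).symm]
  · rw [Subgroup.card_map_of_injective X.subtype_injective, hker]

theorem exists_fixed (X : Subgroup G) (h3 : 3 ∣ Nat.card X) {a : G} (ha : a ^ 3 = 1)
    (hn : ∀ x ∈ X, a * x * a⁻¹ ∈ X) : ∃ x ∈ X, x ≠ 1 ∧ Commute a x := by
  classical
  haveI : Fact (Nat.Prime 3) := ⟨Nat.prime_three⟩
  letI : Fintype X := Fintype.ofFinite _
  let f : X → X := fun x => ⟨a * x * a⁻¹, hn x x.2⟩
  have hinj : Function.Injective f := fun x y e =>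
    Subtype.ext (mul_left_cancel (mul_right_cancel (congrArg Subtype.val e)))
  let σ : Perm X := Equiv.ofBijective f (Finite.injective_iff_bijective.1 hinj)
  have hσ : ∀ x : X, (σ x : G) = a * x * a⁻¹ := fun x => rfl
  obtain ⟨b, hb, hb1⟩ := Equiv.Perm.exists_fixed_point_of_prime' (p := 3) (n := 1)
    (by rw [← Nat.card_eq_fintype_card]; exact h3) (σ := σ) (by
      refine Equiv.ext fun x => Subtype.ext ?_
      show ((σ ^ 3) x : G) = x
      simp only [pow_succ, pow_zero, one_mul, Perm.mul_apply, hσ]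
      calc a * (a * (a * x * a⁻¹) * a⁻¹) * a⁻¹ = (a * (a * a)) * x * (a * (a * a))⁻¹ := by group
        _ = x := by rw [← pow_three, ha]; group) (a := 1) (by
      refine Subtype.ext ?_
      rw [hσ]; simp)
  refine ⟨b, b.2, fun e => hb1 (Subtype.ext e), comm_iff_conj.2 ?_⟩
  rw [← hσ, hb]

theorem mul_dvd_card {X : Subgroup G} {a w : G} (ha : a ∈ X) (hw : w ∈ X) (h : Commute a w)
    (hd : ∀ g, g ∈ Subgroup.zpowers a → g ∈ Subgroup.zpowers w → g = 1) :
    orderOf a * orderOf w ∣ Nat.card X := by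
  let f := MonoidHom.noncommCoprod (Subgroup.zpowers a).subtype (Subgroup.zpowers w).subtype
    (fun x y => by
      obtain ⟨i, hi⟩ := Subgroup.mem_zpowers_iff.1 x.2
      obtain ⟨j, hj⟩ := Subgroup.mem_zpowers_iff.1 y.2
      show Commute (x : G) (y : G)
      rw [← hi, ← hj]
      exact h.zpow_zpow i j)
  have hf : Function.Injective f := by
    refine (MonoidHom.noncommCoprod_injective _ _ _).2
      ⟨Subgroup.subtype_injective _, Subgroup.subtype_injective _, ?_⟩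
    rw [Subgroup.range_subtype, Subgroup.range_subtype, Subgroup.disjoint_def]
    exact fun {g} h1 h2 => hd g h1 h2
  have hle : f.range ≤ X := by
    rintro _ ⟨p, rfl⟩
    exact X.mul_mem (Subgroup.zpowers_le.2 ha p.1.2) (Subgroup.zpowers_le.2 hw p.2.2)
  have := Subgroup.card_dvd_of_le hle
  rwa [← Nat.card_congr (MonoidHom.ofInjective hf).toEquiv, Nat.card_prod, Nat.card_zpowers,
    Nat.card_zpowers] at this

theorem commute_27 (P : Subgroup G) (hP : Nat.card P = 27) {c : G} (hc : c ∈ P) (hc3 : c ^ 3 = 1)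
    (hc1 : c ≠ 1) (hcen : ∀ x ∈ P, Commute x c) {x y : G} (hx : x ∈ P) (hy : y ∈ P) :
    ∃ i : Fin 3, x * y * x⁻¹ = c ^ i.val * y := by
  haveI : Fact (Nat.Prime 3) := ⟨Nat.prime_three⟩
  set N := Subgroup.zpowers (⟨c, hc⟩ : P) with hN
  haveI : N.Normal := ⟨fun n hn g => by
    obtain ⟨i, rfl⟩ := Subgroup.mem_zpowers_iff.1 hn
    have : Commute g (⟨c, hc⟩ : P) := Subtype.ext (hcen g g.2)
    rwa [(this.zpow_right i).eq, mul_inv_cancel_right]⟩
  have hco : orderOf (⟨c, hc⟩ : P) = 3 := orderOf_eq_prime (Subtype.ext (by simpa using hc3))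
    fun e => hc1 (congrArg Subtype.val e)
  have hq : Nat.card (P ⧸ N) = 3 ^ 2 := by
    have h1 := Subgroup.card_eq_card_quotient_mul_card_subgroup N
    rw [hP, hN, Nat.card_zpowers, hco, ← hN] at h1
    omega
  have hm := IsPGroup.commutative_of_card_eq_prime_sq hq (QuotientGroup.mk (⟨x, hx⟩ : P))
    (QuotientGroup.mk (⟨y, hy⟩ : P))
  rw [← QuotientGroup.mk_mul, ← QuotientGroup.mk_mul, eq_comm, QuotientGroup.eq] at hm
  -- `(y x)⁻¹ (x y)` is a power of `c`
  obtain ⟨i, hi⟩ := (Submonoid.mem_powers_iff _ _).1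
    ((mem_powers_iff_mem_zpowers (x := (⟨c, hc⟩ : P))).2 hm)
  refine ⟨⟨i % 3, Nat.mod_lt _ (by norm_num)⟩, ?_⟩
  have e : c ^ i = (y * x)⁻¹ * (x * y) := congrArg Subtype.val hi
  show x * y * x⁻¹ = c ^ (i % 3) * y
  rw [← pow_eq_pow_mod _ hc3]
  calc x * y * x⁻¹ = y * (x * ((y * x)⁻¹ * (x * y)) * x⁻¹) := by group
    _ = y * c ^ i := by
      rw [← e, ((hcen x hx).pow_right i).eq, mul_inv_cancel_right]
    _ = c ^ i * y := ((hcen y hy).pow_right i).eq

section DC

variable {z : G} (D : DC z 9)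

omit [Finite G] in
theorem comm_p {a b : G} (ha : Commute a z) (hb : Commute b z) (h : Commute a b) :
    Commute (D.p a) (D.p b) := by
  show D.p a * D.p b = D.p b * D.p a
  rw [← D.p_mul ha hb, ← D.p_mul hb ha, h.eq]

omit [Finite G] in
theorem comm_of_p {a b : G} (ha : Commute a z) (hb : Commute b z) (hb3 : b ^ 3 = 1)
    (h : Commute (D.p a) (D.p b)) : Commute a b :=
  D.comm_three ha hb h (by rw [← D.p_pow hb, hb3, D.p_one])

omit [Finite G] in
theorem eq_of_p {x y : G} (hx : Commute x z) (hy : Commute y z) (ox : Odd (orderOf x))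
    (oy : Odd (orderOf y)) (h : D.p x = D.p y) : x = y := by
  rcases D.eq_or_mul hx hy h with e | e
  · exact e
  · exfalso
    have h2 : orderOf z = 2 := orderOf_z D
    rw [e, hy.orderOf_mul_eq_mul_orderOf_of_coprime (by
      rw [h2]; exact Nat.coprime_two_right.2 oy), h2] at ox
    exact (Nat.not_even_iff_odd.2 ox) ⟨orderOf y, by ring⟩

omit [Finite G] in
theorem conj_eq {k x y : G} {σ X Y : Perm (Fin 9)} (hk : Commute k z) (hx : Commute x z)
    (hy : Commute y z) (hx3 : x ^ 3 = 1) (hy3 : y ^ 3 = 1) (pk : D.p k = σ) (px : D.p x = X)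
    (py : D.p y = Y) (h : σ * X * σ⁻¹ = Y) : k * x * k⁻¹ = y := by
  refine D.three_unique ((hk.mul_left hx).mul_left hk.inv_left) hy
    (by rw [conj_pow, hx3]; group) hy3 ?_
  rw [D.p_conj hx hk, pk, px, py, h]

end DC

variable {z : G} {D : DC z 9} (F : Frame D)

/-- The lift of `(0 1 2)(3 4 5)`. -/
abbrev a' : G := F.c1 * F.c2

/-- The lift of `(0 1 2)^i (3 4 5)^j (6 7 8)^k`. -/
abbrev q (i j k : ℕ) : G := F.c1 ^ i * F.c2 ^ j * F.c3 ^ k

omit [Finite G]

theorem qz (i j k : ℕ) : Commute (q F i j k) z :=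
  ((F.c1z.pow_left i).mul_left (F.c2z.pow_left j)).mul_left (F.c3z.pow_left k)

theorem az : Commute (a' F) z := F.c1z.mul_left F.c2z

theorem p_q (i j k : ℕ) : D.p (q F i j k) = std i j k := by
  rw [D.p_mul ((F.c1z.pow_left i).mul_left (F.c2z.pow_left j)) (F.c3z.pow_left k),
    D.p_mul (F.c1z.pow_left i) (F.c2z.pow_left j), D.p_pow F.c1z, D.p_pow F.c2z, D.p_pow F.c3z,
    F.p1, F.p2, F.p3, std]

theorem p_a : D.p (a' F) = C1 9 * C2 9 := by rw [D.p_mul F.c1z F.c2z, F.p1, F.p2]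

theorem q_mul (i j k i' j' k' : ℕ) :
    q F i j k * q F i' j' k' = q F (i + i') (j + j') (k + k') := by
  simp only [q, pow_add]
  have h1 : Commute (F.c1 ^ i') (F.c2 ^ j * F.c3 ^ k) :=
    (F.comm12.pow_pow _ _).mul_right (F.comm13.pow_pow _ _)
  have h2 : Commute (F.c2 ^ j') (F.c3 ^ k) := F.comm23.pow_pow _ _
  calc F.c1 ^ i * F.c2 ^ j * F.c3 ^ k * (F.c1 ^ i' * F.c2 ^ j' * F.c3 ^ k')
      = F.c1 ^ i * (F.c2 ^ j * F.c3 ^ k * F.c1 ^ i') * F.c2 ^ j' * F.c3 ^ k' := by group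
    _ = F.c1 ^ i * F.c1 ^ i' * F.c2 ^ j * (F.c3 ^ k * F.c2 ^ j') * F.c3 ^ k' := by
        rw [← h1.eq]; group
    _ = _ := by rw [← h2.eq]; group

theorem a_three : a' F ^ 3 = 1 := by
  rw [F.comm12.mul_pow, F.c1_three, F.c2_three, one_mul]

theorem q_three (i j k : ℕ) : q F i j k ^ 3 = 1 := by
  rw [(((F.comm13.pow_pow i k).mul_left (F.comm23.pow_pow j k))).mul_pow,
    (F.comm12.pow_pow i j).mul_pow, ← pow_mul, ← pow_mul, ← pow_mul, mul_comm i, mul_comm j,
    mul_comm k, pow_mul, pow_mul, pow_mul, F.c1_three, F.c2_three, F.c3_three, one_pow, one_pow,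
    one_pow, one_mul, one_mul]

theorem a_eq_q : a' F = q F 1 1 0 := by simp [q]
theorem c1_eq_q : F.c1 = q F 1 0 0 := by simp [q]
theorem c2_eq_q : F.c2 = q F 0 1 0 := by simp [q]
theorem c3_eq_q : F.c3 = q F 0 0 1 := by simp [q]

/-- The group generated by the lifts of the three 3-cycles. -/
def P0 : Subgroup G where
  carrier := {x | ∃ i j k : ℕ, x = q F i j k}
  one_mem' := ⟨0, 0, 0, by simp [q]⟩
  mul_mem' := by
    rintro _ _ ⟨i, j, k, rfl⟩ ⟨i', j', k', rfl⟩
    exact ⟨_, _, _, q_mul F i j k i' j' k'⟩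
  inv_mem' := by
    rintro _ ⟨i, j, k, rfl⟩
    refine ⟨i + i, j + j, k + k, inv_eq_of_mul_eq_one_right ?_⟩
    rw [← q_mul F i j k i j k, ← q_three F i j k, pow_three]

theorem mem_P0 {x : G} : x ∈ P0 F ↔ ∃ i j k : ℕ, x = q F i j k := Iff.rfl

theorem q_mem (i j k : ℕ) : q F i j k ∈ P0 F := ⟨i, j, k, rfl⟩

theorem c1_mem : F.c1 ∈ P0 F := ⟨1, 0, 0, c1_eq_q F⟩
theorem c2_mem : F.c2 ∈ P0 F := ⟨0, 1, 0, c2_eq_q F⟩
theorem c3_mem : F.c3 ∈ P0 F := ⟨0, 0, 1, c3_eq_q F⟩
theorem a_mem : a' F ∈ P0 F := ⟨1, 1, 0, a_eq_q F⟩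

theorem P0_z {x : G} (hx : x ∈ P0 F) : Commute x z := by
  obtain ⟨i, j, k, rfl⟩ := hx; exact qz F i j k

theorem P0_three {x : G} (hx : x ∈ P0 F) : x ^ 3 = 1 := by
  obtain ⟨i, j, k, rfl⟩ := hx; exact q_three F i j k

theorem P0_odd {x : G} (hx : x ∈ P0 F) : Odd (orderOf x) :=
  (by decide : Odd 3).of_dvd_nat (orderOf_dvd_of_pow_eq_one (P0_three F hx))

theorem P0_comm {x y : G} (hx : x ∈ P0 F) (hy : y ∈ P0 F) : Commute x y := by
  obtain ⟨i, j, k, rfl⟩ := hx
  obtain ⟨i', j', k', rfl⟩ := hy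
  show _ = _
  rw [q_mul, q_mul, Nat.add_comm i, Nat.add_comm j, Nat.add_comm k]

theorem q_comm {x : G} (h1 : Commute x F.c1) (h2 : Commute x F.c2) (h3 : Commute x F.c3)
    (i j k : ℕ) : Commute x (q F i j k) :=
  ((h1.pow_right i).mul_right (h2.pow_right j)).mul_right (h3.pow_right k)

theorem q_mod (i j k : ℕ) : q F i j k = q F (i % 3) (j % 3) (k % 3) := by
  simp only [q]
  rw [← pow_eq_pow_mod i F.c1_three, ← pow_eq_pow_mod j F.c2_three,
    ← pow_eq_pow_mod k F.c3_three]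

theorem exists_fin {x : G} (hx : x ∈ P0 F) : ∃ i j k : Fin 3, x = q F i j k := by
  obtain ⟨i, j, k, rfl⟩ := hx
  exact ⟨⟨i % 3, Nat.mod_lt _ (by norm_num)⟩, ⟨j % 3, Nat.mod_lt _ (by norm_num)⟩,
    ⟨k % 3, Nat.mod_lt _ (by norm_num)⟩, q_mod F i j k⟩

theorem q_inj {i j k i' j' k' : Fin 3} (h : q F i j k = q F i' j' k') :
    i = i' ∧ j = j' ∧ k = k' := by
  have e := congrArg D.p h
  rw [p_q, p_q] at e
  obtain ⟨a1, a2, a3⟩ := std_inj i j k
  obtain ⟨b1, b2, b3⟩ := std_inj i' j' k'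
  rw [e] at a1 a2 a3
  exact ⟨Fin.ext (by omega), Fin.ext (by omega), Fin.ext (by omega)⟩

theorem card_P0 : Nat.card (P0 F) = 27 := by
  rw [← Nat.card_eq_of_bijective
    (fun t : Fin 3 × Fin 3 × Fin 3 => (⟨q F t.1 t.2.1 t.2.2, q_mem F _ _ _⟩ : P0 F)) ⟨?_, ?_⟩,
    Nat.card_prod, Nat.card_prod, Nat.card_fin]
  · rintro ⟨i, j, k⟩ ⟨i', j', k'⟩ h
    obtain ⟨rfl, rfl, rfl⟩ := q_inj F (congrArg Subtype.val h)
    rfl
  · rintro ⟨x, hx⟩
    obtain ⟨i, j, k, rfl⟩ := exists_fin F hx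
    exact ⟨(i, j, k), rfl⟩

theorem u_inv : F.u⁻¹ = F.u := inv_eq_of_mul_eq_one_right (mul_self_of_two F.u_two)

theorem u_conj_q (i j k : ℕ) : F.u * q F i j k * F.u⁻¹ = q F j i (2 * k) := by
  have h : F.u * q F i j k * F.u⁻¹ =
      (F.u * F.c1 * F.u⁻¹) ^ i * (F.u * F.c2 * F.u⁻¹) ^ j * (F.u * F.c3 * F.u⁻¹) ^ k := by
    rw [conj_pow, conj_pow, conj_pow]; group
  rw [h, F.u1, F.u2, F.u3, (F.comm12.symm.pow_pow i j).eq]
  simp only [q]
  rw [inv_pow, show (F.c3 ^ k)⁻¹ = F.c3 ^ (2 * k) from inv_eq_of_mul_eq_one_right (by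
    rw [← pow_add, show k + 2 * k = 3 * k by ring, pow_mul, F.c3_three, one_pow])]

theorem comm_u_a : Commute F.u (a' F) := by
  refine comm_iff_conj.2 ?_
  rw [a_eq_q, u_conj_q]

theorem P0_u_conj {x : G} (hx : x ∈ P0 F) : F.u * x * F.u⁻¹ ∈ P0 F := by
  obtain ⟨i, j, k, rfl⟩ := hx
  rw [u_conj_q]; exact q_mem F _ _ _

theorem P0_u {x : G} (hx : x ∈ P0 F) (hu : Commute x F.u) :
    x ∈ Subgroup.zpowers (a' F) := by
  obtain ⟨i, j, k, rfl⟩ := exists_fin F hx
  have h := comm_iff_conj.1 hu.symm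
  rw [u_conj_q, q_mod F j i] at h
  have h' : q F (⟨j.val % 3, Nat.mod_lt _ (by norm_num)⟩ : Fin 3)
      (⟨i.val % 3, Nat.mod_lt _ (by norm_num)⟩ : Fin 3)
      (⟨2 * k.val % 3, Nat.mod_lt _ (by norm_num)⟩ : Fin 3) = q F i j k := h
  obtain ⟨e1, -, e3⟩ := q_inj F h'
  have e1' := congrArg Fin.val e1
  have e3' := congrArg Fin.val e3
  simp only at e1' e3'
  have hk : k.val = 0 := by omega
  have hij : j.val = i.val := by omega
  rw [hk, hij, show q F i i 0 = a' F ^ (i.val) by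
    simp only [q, pow_zero, mul_one, F.comm12.mul_pow]]
  exact Subgroup.npow_mem_zpowers _ _

theorem a_type : (D.p (a' F)).cycleType = {3, 3} := by
  rw [p_a]; exact (perm_types (n := 9) (by norm_num) (by norm_num)).2.2.2.1

theorem a_ne : a' F ≠ 1 := fun e => by
  have := a_type F
  rw [e, D.p_one, cycleType_one] at this
  exact absurd (congrArg Multiset.card this) (by simp)

theorem orderOf_a : orderOf (a' F) = 3 := by
  haveI : Fact (Nat.Prime 3) := ⟨Nat.prime_three⟩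
  exact orderOf_eq_prime (a_three F) (a_ne F)

theorem c_ne : F.c1 ≠ 1 ∧ F.c2 ≠ 1 ∧ F.c3 ≠ 1 := by
  refine ⟨?_, ?_, ?_⟩ <;> intro e <;> have h := congrArg D.p e <;> rw [D.p_one] at h
  · rw [F.p1] at h; exact absurd h (by decide)
  · rw [F.p2] at h; exact absurd h (by decide)
  · rw [F.p3] at h; exact absurd h (by decide)

/-- The frame with `u` replaced by `u z`. -/
def flip : Frame D where
  c1 := F.c1
  c2 := F.c2
  c3 := F.c3
  u := F.u * z
  c1z := F.c1z
  c2z := F.c2z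
  c3z := F.c3z
  uz := F.uz.mul_left (Commute.refl z)
  c1_three := F.c1_three
  c2_three := F.c2_three
  c3_three := F.c3_three
  u_two := by
    refine orderOf_eq_prime ?_ fun e => ?_
    · rw [pow_two, show F.u * z * (F.u * z) = F.u * (z * F.u) * z by group, ← F.uz.eq,
        show F.u * (F.u * z) * z = F.u * F.u * (z * z) by group, mul_self_of_two F.u_two, D.sq,
        one_mul]
    · exact F.u_ne (by rw [← mul_one F.u, ← D.sq, ← mul_assoc, e, one_mul])
  u_ne := fun e => ne_one_of_two F.u_two (by simpa using e)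
  p1 := F.p1
  p2 := F.p2
  p3 := F.p3
  pu := by rw [D.p_mul F.uz (Commute.refl z), D.p_z, mul_one, F.pu]
  comm12 := F.comm12
  comm13 := F.comm13
  comm23 := F.comm23
  u1 := by
    rw [show F.u * z * F.c1 * (F.u * z)⁻¹ = F.u * (z * F.c1 * z⁻¹) * F.u⁻¹ by group,
      comm_iff_conj.1 F.c1z.symm, F.u1]
  u2 := by
    rw [show F.u * z * F.c2 * (F.u * z)⁻¹ = F.u * (z * F.c2 * z⁻¹) * F.u⁻¹ by group,
      comm_iff_conj.1 F.c2z.symm, F.u2]
  u3 := by
    rw [show F.u * z * F.c3 * (F.u * z)⁻¹ = F.u * (z * F.c3 * z⁻¹) * F.u⁻¹ by group,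
      comm_iff_conj.1 F.c3z.symm, F.u3]

variable [Finite G]

/-- Elements of odd order of `C(z, a)` lie in `P0`. -/
theorem P0_of_comm_a {y : G} (hy : Commute y z) (ho : Odd (orderOf y))
    (h : Commute (D.p y) (C1 9 * C2 9)) : y ∈ P0 F := by
  obtain ⟨i, j, k, e⟩ := of_comm12_odd (D.p_sign y) h ho
    (by rw [← D.p_pow hy, pow_orderOf_eq_one, D.p_one])
  rw [eq_of_p D hy (qz F i j k) ho (P0_odd F (q_mem F _ _ _)) (by rw [e, p_q])]
  exact q_mem F _ _ _

theorem P0_of_comm_a' {y : G} (hy : Commute y z) (ho : Odd (orderOf y)) (h : Commute y (a' F)) :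
    y ∈ P0 F :=
  P0_of_comm_a F hy ho (p_a F ▸ comm_p D hy (az F) h)

theorem P0_of_comm23 {y : G} (hy : Commute y z) (ho : Odd (orderOf y))
    (h2 : Commute (D.p y) (C2 9)) (h3 : Commute (D.p y) (C3 9)) : y ∈ P0 F := by
  obtain ⟨i, j, k, e⟩ := of_comm23 (D.p_sign y) h2 h3
  rw [eq_of_p D hy (qz F i j k) ho (P0_odd F (q_mem F _ _ _)) (by rw [e, p_q])]
  exact q_mem F _ _ _

/-- A 3-subgroup of `C(z, u)` containing `a` is `⟨a⟩`. -/
theorem eq_zpowers_a {X : Subgroup G} (hX : IsPGroup 3 X) (ha : a' F ∈ X)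
    (h : ∀ x ∈ X, Commute x z ∧ Commute x F.u) : X = Subgroup.zpowers (a' F) := by
  haveI : Fact (Nat.Prime 3) := ⟨Nat.prime_three⟩
  have hodd : ∀ x ∈ X, Odd (orderOf x) := fun x hx => by
    obtain ⟨k, hk⟩ := hX ⟨x, hx⟩
    exact odd_of_pow ((by decide : Odd 3).pow (n := k)) (congrArg Subtype.val hk)
  haveI : Nontrivial X := ⟨⟨a' F, ha⟩, 1, fun e => a_ne F (congrArg Subtype.val e)⟩
  haveI := hX.center_nontrivial
  obtain ⟨y, hy⟩ := exists_ne (1 : Subgroup.center X)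
  have hyG : ∀ x ∈ X, Commute ((y : X) : G) x := fun x hx =>
    (congrArg Subtype.val (Subgroup.mem_center_iff.1 y.2 ⟨x, hx⟩)).symm
  have hyX := (y : X).2
  have hy0 := P0_of_comm_a' F (h _ hyX).1 (hodd _ hyX) (hyG _ ha)
  obtain ⟨n, hn⟩ := Subgroup.mem_zpowers_iff.1 (P0_u F hy0 (h _ hyX).2)
  have hay : a' F ∈ Subgroup.zpowers ((y : X) : G) := by
    have hle : Subgroup.zpowers ((y : X) : G) ≤ Subgroup.zpowers (a' F) :=
      Subgroup.zpowers_le.2 ⟨n, hn⟩
    have hy1 : ((y : X) : G) ≠ 1 := fun e => hy (Subtype.ext (Subtype.ext e))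
    have heq : Subgroup.zpowers ((y : X) : G) = Subgroup.zpowers (a' F) := by
      refine Subgroup.eq_of_le_of_card_ge hle ?_
      rw [Nat.card_zpowers, Nat.card_zpowers, orderOf_a]
      have h3 := P0_three F hy0
      rw [orderOf_eq_prime h3 hy1]
    rw [heq]; exact Subgroup.mem_zpowers _
  refine le_antisymm (fun x hx => ?_) (Subgroup.zpowers_le.2 ha)
  obtain ⟨m, hm⟩ := Subgroup.mem_zpowers_iff.1 hay
  exact P0_u F (P0_of_comm_a' F (h _ hx).1 (hodd _ hx) (hm ▸ ((hyG x hx).symm.zpow_right m)))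
    (h _ hx).2

/-- The order of a subgroup of `C(z, u)` containing `a` is not divisible by 9. -/
theorem not_nine_dvd {X : Subgroup G} (ha : a' F ∈ X)
    (h : ∀ x ∈ X, Commute x z ∧ Commute x F.u) : ¬ 9 ∣ Nat.card X := by
  haveI : Fact (Nat.Prime 3) := ⟨Nat.prime_three⟩
  intro h9
  have hp : IsPGroup 3 (Subgroup.zpowers (⟨a' F, ha⟩ : X)) := IsPGroup.of_card (n := 1) (by
    rw [Nat.card_zpowers, ← Subgroup.orderOf_coe, orderOf_a, pow_one])
  obtain ⟨Q, hQ⟩ := hp.exists_le_sylow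
  have hd := Q.pow_dvd_card_of_pow_dvd_card (n := 2) h9
  have he := eq_zpowers_a F (X := (Q : Subgroup X).map X.subtype) (Q.2.map X.subtype)
    ⟨⟨a' F, ha⟩, hQ (Subgroup.mem_zpowers _), rfl⟩ (by
      rintro _ ⟨y, -, rfl⟩
      exact h _ y.2)
  have hc := congrArg (fun H : Subgroup G => Nat.card H) he
  simp only [Subgroup.card_map_of_injective X.subtype_injective, Nat.card_zpowers, orderOf_a] at hc
  rw [hc] at hd
  exact absurd hd (by decide)

/-- The lift of `(0 1 2)(3 4 5)(6 7 8)`. -/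
abbrev d0 : G := F.c1 * F.c2 * F.c3

theorem d0_eq_q : d0 F = q F 1 1 1 := by simp [q]

theorem d0z : Commute (d0 F) z := (F.c1z.mul_left F.c2z).mul_left F.c3z

theorem d0_three : d0 F ^ 3 = 1 := by rw [d0_eq_q]; exact q_three F 1 1 1

theorem p_d0 : D.p (d0 F) = C1 9 * C2 9 * C3 9 := by
  rw [d0_eq_q, p_q]; simp [std]

theorem d0_type : (D.p (d0 F)).cycleType = {3, 3, 3} := by
  rw [p_d0]; exact (perm_types (n := 9) (by norm_num) (by norm_num)).2.2.2.2.2

theorem d0_ne : d0 F ≠ 1 := fun e => by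
  have := d0_type F
  rw [e, D.p_one, cycleType_one] at this
  exact absurd (congrArg Multiset.card this) (by simp)

theorem d0_not33 : (D.p (d0 F)).cycleType ≠ {3, 3} := fun e => by
  rw [d0_type] at e
  exact absurd (congrArg Multiset.card e) (by simp)

/-- `C(z, d0)` has order 162. -/
theorem card_cent_d0 : Nat.card (Subgroup.centralizer ({z} : Set G) ⊓
    Subgroup.centralizer ({d0 F} : Set G) : Subgroup G) = 162 := by
  classical
  have hlift : ∀ t : Fin 3 × Fin 3 × Fin 3 × Fin 3, ∃ x, Commute x z ∧ Commute x (d0 F) ∧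
      D.p x = Rho ^ t.2.2.2.val * std t.1 t.2.1 t.2.2.1 := by
    rintro ⟨i, j, k, l⟩
    obtain ⟨x, hx, hp⟩ := D.exists_lift (σ := Rho ^ l.val * std i j k)
      (by rw [map_mul, map_pow, sign_facts.2.2.2.2, one_pow, sign_std, one_mul])
    refine ⟨x, hx, comm_of_p D hx (d0z F) (d0_three F) ?_, hp⟩
    obtain ⟨-, -, -, -, k1, k2, k3, kr⟩ := comm_facts
    rw [hp, p_d0]
    exact (kr.pow_left _).mul_left
      (((k1.pow_left _).mul_left (k2.pow_left _)).mul_left (k3.pow_left _))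
  choose f hfz hfd hfp using hlift
  set X : Subgroup G := Subgroup.centralizer ({z} : Set G) ⊓
    Subgroup.centralizer ({d0 F} : Set G) with hX
  have hmem : ∀ {x : G}, x ∈ X ↔ Commute x z ∧ Commute x (d0 F) := fun {x} => by
    rw [hX, Subgroup.mem_inf, Subgroup.mem_centralizer_singleton_iff,
      Subgroup.mem_centralizer_singleton_iff]
    rfl
  have hz : ∀ t : Fin 2, Commute (z ^ t.val) z ∧ Commute (z ^ t.val) (d0 F) :=
    fun t => ⟨(Commute.refl z).pow_left _, (d0z F).symm.pow_left _⟩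
  rw [← Nat.card_eq_of_bijective
    (fun p : (Fin 3 × Fin 3 × Fin 3 × Fin 3) × Fin 2 => (⟨f p.1 * z ^ p.2.val,
      hmem.2 ⟨(hfz _).mul_left (hz _).1, (hfd _).mul_left (hz _).2⟩⟩ : X)) ⟨?_, ?_⟩,
    Nat.card_prod, Nat.card_prod, Nat.card_prod, Nat.card_prod, Nat.card_fin, Nat.card_fin]
  · rintro ⟨t, b⟩ ⟨t', b'⟩ h
    have h' : f t * z ^ b.val = f t' * z ^ b'.val := congrArg Subtype.val h
    have e := congrArg D.p h'
    rw [D.p_mul (hfz _) ((Commute.refl z).pow_left _), D.p_mul (hfz _) ((Commute.refl z).pow_left _),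
      D.p_pow (Commute.refl z), D.p_pow (Commute.refl z), D.p_z, one_pow, one_pow, mul_one,
      mul_one, hfp, hfp] at e
    obtain ⟨i, j, k, l⟩ := t
    obtain ⟨i', j', k', l'⟩ := t'
    obtain ⟨a1, a2, a3⟩ := rho_std_inj i j k l
    obtain ⟨b1, b2, b3⟩ := rho_std_inj i' j' k' l'
    simp only at e
    rw [e] at a1 a2 a3
    have hl : l = l' := Fin.ext (by omega)
    subst hl
    obtain rfl : i = i' := Fin.ext (by omega)
    obtain rfl : j = j' := Fin.ext (by omega)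
    obtain rfl : k = k' := Fin.ext (by omega)
    have hb := mul_left_cancel h'
    refine Prod.ext rfl ?_
    show b = b'
    fin_cases b <;> fin_cases b' <;> simp_all [D.ne, Ne.symm D.ne]
  · rintro ⟨x, hx⟩
    obtain ⟨hxz, hxd⟩ := hmem.1 hx
    obtain ⟨i, j, k, l, e⟩ := of_comm123 (D.p_sign x) (p_d0 F ▸ comm_p D hxz (d0z F) hxd)
    rcases D.eq_or_mul hxz (hfz (i, j, k, l)) (by rw [hfp]; exact e) with h | h
    · exact ⟨((i, j, k, l), 0), Subtype.ext (by simpa using h.symm)⟩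
    · exact ⟨((i, j, k, l), 1), Subtype.ext (by simpa using h.symm)⟩

/-- The centraliser of `d0` has order twice an odd number. -/
theorem card_cent_d0_half (S : Small D) :
    ∃ m, Odd m ∧ Nat.card (Subgroup.centralizer ({d0 F} : Set G)) = 2 * m := by
  classical
  haveI : Fact (Nat.Prime 2) := ⟨Nat.prime_two⟩
  set Y := Subgroup.centralizer ({d0 F} : Set G) with hY
  set z' : Y := ⟨z, Subgroup.mem_centralizer_singleton_iff.2 (d0z F).symm.eq⟩ with hz'
  have hzo : orderOf z' = 2 := by rw [← Subgroup.orderOf_coe]; exact orderOf_z D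
  have hzp : IsPGroup 2 (Subgroup.zpowers z') := IsPGroup.of_card (n := 1) (by
    rw [Nat.card_zpowers, hzo, pow_one])
  obtain ⟨P, hP⟩ := hzp.exists_le_sylow
  obtain ⟨k, hk⟩ := IsPGroup.iff_card.1 P.2
  have h2 : 2 ∣ Nat.card (P : Subgroup Y) := by
    have h := Subgroup.card_dvd_of_le hP
    rwa [Nat.card_zpowers, hzo] at h
  haveI hnt : Nontrivial (P : Subgroup Y) := Finite.one_lt_card_iff_nontrivial.1
    (Nat.le_of_dvd Nat.card_pos h2)
  haveI hcn : Nontrivial (Subgroup.center (P : Subgroup Y)) := P.2.center_nontrivial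
  obtain ⟨w, hw⟩ : ∃ w : Subgroup.center (P : Subgroup Y), orderOf w = 2 := by
    refine exists_prime_orderOf_dvd_card' 2 ?_
    obtain ⟨j, hj⟩ := IsPGroup.iff_card.1 (P.2.to_subgroup (Subgroup.center (P : Subgroup Y)))
    rw [hj]
    refine dvd_pow_self 2 fun e => ?_
    rw [e, pow_zero] at hj
    exact absurd hj Finite.one_lt_card.ne'
  have hwo : orderOf (((w : (P : Subgroup Y)) : Y) : G) = 2 := by
    rw [Subgroup.orderOf_coe, Subgroup.orderOf_coe, Subgroup.orderOf_coe, hw]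
  have hwall : ∀ x : Y, x ∈ P → Commute (((w : (P : Subgroup Y)) : Y) : G) x := fun x hx =>
    (congrArg (fun r : (P : Subgroup Y) => ((r : Y) : G))
      (Subgroup.mem_center_iff.1 w.2 ⟨x, hx⟩)).symm
  have hwz : (((w : (P : Subgroup Y)) : Y) : G) = z :=
    S.only_invol (d0z F) (d0_three F) (d0_ne F) (d0_not33 F) hwo
      (Subgroup.mem_centralizer_singleton_iff.1 ((w : (P : Subgroup Y)) : Y).2)
      (hwall z' (hP (Subgroup.mem_zpowers z')))
  have hle : (P : Subgroup Y).map Y.subtype ≤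
      Subgroup.centralizer ({z} : Set G) ⊓ Subgroup.centralizer ({d0 F} : Set G) := by
    rintro _ ⟨x, hx, rfl⟩
    refine ⟨Subgroup.mem_centralizer_singleton_iff.2 ?_, x.2⟩
    exact (hwz ▸ hwall x hx).symm.eq
  have hd := Subgroup.card_dvd_of_le hle
  rw [Subgroup.card_map_of_injective Y.subtype_injective, card_cent_d0 F, hk] at hd
  rw [hk] at h2
  have hk1 : k = 1 := by
    rcases k with _ | _ | k
    · simp at h2
    · rfl
    · have : 4 ∣ 162 := dvd_trans (dvd_trans (by norm_num) (pow_dvd_pow 2 (by omega : 2 ≤ k + 2))) hd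
      omega
  refine ⟨(P : Subgroup Y).index, ?_, ?_⟩
  · rw [← Nat.not_even_iff_odd, even_iff_two_dvd]
    exact P.not_dvd_index
  · rw [← (P : Subgroup Y).card_mul_index, hk, hk1, pow_one]

end Cfsg.Agent.DoubleCoverLifts91
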