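import Cfsg.Agent.Lib.DoubleCoverQuot36Base
import Cfsg.Agent.Lib.DoubleCoverCount74
import Cfsg.Agent.Lib.ZStarTheorem

/-!
# Degree 9 and 10: the quotient of the centraliser of a product of two 3-cycles
-/

set_option autoImplicit false

namespace Cfsg.Agent.DoubleCoverQuot36

open Equiv Equiv.Perm
open Cfsg.Agent.DoubleCover90

universe u

variable {G : Type u} [Group G] [Finite G] {z : G} {n : ℕ} [NeZero n] {D : DC z n}

/-! ## Local facts in `G` -/

theorem u_w (F : Frame D) (v : Fin 3 × Fin 3 × Fin 3) :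
    F.u * w F v * F.u⁻¹ = w F (v.2.1, v.1, -v.2.2) := by
  obtain ⟨i, j, k⟩ := v
  have hc : ∀ {c d : G}, F.u * c * F.u⁻¹ = d → ∀ m : ℕ, F.u * c ^ m * F.u⁻¹ = d ^ m :=
    fun {c d} h m => by rw [← h, conj_pow]
  have h3 : ∀ k : Fin 3, (F.c3⁻¹) ^ (k : ℕ) = F.c3 ^ ((-k : Fin 3) : ℕ) := fun k => by
    rw [inv_pow]
    refine inv_eq_of_mul_eq_one_right ?_
    rw [← pow_fin F.c3_three, add_neg_cancel]; simp
  show F.u * (F.c1 ^ (i : ℕ) * F.c2 ^ (j : ℕ) * F.c3 ^ (k : ℕ)) * F.u⁻¹ =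
    F.c1 ^ (j : ℕ) * F.c2 ^ (i : ℕ) * F.c3 ^ ((-k : Fin 3) : ℕ)
  calc F.u * (F.c1 ^ (i : ℕ) * F.c2 ^ (j : ℕ) * F.c3 ^ (k : ℕ)) * F.u⁻¹
      = (F.u * F.c1 ^ (i : ℕ) * F.u⁻¹) * (F.u * F.c2 ^ (j : ℕ) * F.u⁻¹) *
          (F.u * F.c3 ^ (k : ℕ) * F.u⁻¹) := by group
    _ = F.c2 ^ (i : ℕ) * F.c1 ^ (j : ℕ) * (F.c3⁻¹) ^ (k : ℕ) := by
      rw [hc F.u1, hc F.u2, hc F.u3]
    _ = _ := by rw [(F.comm12.symm.pow_pow _ _).eq, h3]

theorem ga_ne_one (F : Frame D) (h9 : 9 ≤ n) (h10 : n ≤ 10) : ga F ≠ 1 := fun e => by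
  rw [← w_a, ← w_zero F] at e
  exact absurd (w_injective F h9 h10 e) (by decide)

theorem ga_three (F : Frame D) : ga F ^ 3 = 1 := by rw [← w_a, w_three]

theorem ga_type (F : Frame D) (h9 : 9 ≤ n) (h10 : n ≤ 10) : (D.p (ga F)).cycleType = {3, 3} := by
  rw [p_ga]; exact (perm_types h9 h10).2.2.2.1

theorem not_type_33 {σ : Perm (Fin n)} (h : σ.support.card ≠ 6) : σ.cycleType ≠ {3, 3} := fun e =>
  h (by rw [← sum_cycleType, e]; rfl)

theorem card_d {n : ℕ} [hne : NeZero n] (h9 : 9 ≤ n) (h10 : n ≤ 10) (k : Fin 3) (hk : k ≠ 0) :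
    (C1 n * C2 n ^ 2 * C3 n ^ (k : ℕ)).support.card = 9 := by
  have key : ∀ k : Fin 3, k ≠ 0 → (C1 n * C2 n ^ 2 * C3 n ^ (k : ℕ)).support.card = 9 := by
    clear hk k
    revert hne
    rcases (show n = 9 ∨ n = 10 by omega) with rfl | rfl
    · intro hne
      obtain rfl : hne = ⟨by norm_num⟩ := Subsingleton.elim _ _
      decide +kernel
    · intro hne
      obtain rfl : hne = ⟨by norm_num⟩ := Subsingleton.elim _ _
      decide +kernel
  exact key k hk

theorem odd_dvd {d : ℕ} (hd : Odd d) {e : ℕ} (h : d ∣ 2 ^ e * 27) : d ∣ 27 :=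
  (Nat.Coprime.pow_right e (Nat.coprime_two_right.2 hd)).dvd_of_dvd_mul_left h

variable (S : Small D) (F : Frame D)

include S in
theorem card_Az_cases : (n = 9 ∧ Nat.card (Az F) = 108) ∨ (n = 10 ∧ Nat.card (Az F) = 432) := by
  rcases (show n = 9 ∨ n = 10 by have := S.nine; have := S.ten; omega) with rfl | rfl
  · exact Or.inl ⟨rfl, by
      rw [card_Az F (by norm_num) (by norm_num), card_H0 F (by norm_num) (by norm_num),
        Nat.card_eq_fintype_card, alt_card_nine]⟩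
  · exact Or.inr ⟨rfl, by
      rw [card_Az F (by norm_num) (by norm_num), card_H0 F (by norm_num) (by norm_num),
        Nat.card_eq_fintype_card, alt_card_ten]⟩

include S in
theorem card_Az_dvd : Nat.card (Az F) ∣ 2 ^ 4 * 27 := by
  rcases card_Az_cases S F with ⟨-, h⟩ | ⟨-, h⟩ <;> rw [h] <;> norm_num

include S in
theorem Az_not_81 {H : Subgroup G} (hH : H ≤ Az F) : ¬ 81 ∣ Nat.card H := fun h => by
  have h' := h.trans (Subgroup.card_dvd_of_le hH)
  rcases card_Az_cases S F with ⟨-, e⟩ | ⟨-, e⟩ <;> rw [e] at h' <;> norm_num at h'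

/-- A 3-element of `Az` is conjugate in `Az` into `P0`. -/
theorem exists_conj_P0 (S : Small D) (F : Frame D) {y : G} (hy : y ∈ Az F) {k : ℕ}
    (hk : y ^ 3 ^ k = 1) : ∃ g ∈ Az F, g * y * g⁻¹ ∈ P0 F := by
  haveI : Fact (Nat.Prime 3) := ⟨Nat.prime_three⟩
  have hle : P0 F ≤ Az F := ((P0_le_K0 F).trans (K0_le_H0 F)).trans (H0_le_Az F)
  have hc : Nat.card ((P0 F).subgroupOf (Az F)) = 27 := by
    rw [Nat.card_congr (Subgroup.subgroupOfEquivOfLe hle).toEquiv, card_P0 F S.nine S.ten]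
  have hf : (Nat.card (Az F)).factorization 3 = 3 := by
    have h1 : 3 ^ 3 ∣ Nat.card (Az F) := by
      rw [show (3 : ℕ) ^ 3 = 27 from rfl, ← hc]
      exact Subgroup.card_subgroup_dvd_card _
    have hle' := (Nat.Prime.pow_dvd_iff_le_factorization Nat.prime_three Nat.card_pos.ne').1 h1
    have hlt : ¬ 4 ≤ (Nat.card (Az F)).factorization 3 := fun h => Az_not_81 S F le_rfl
      ((Nat.Prime.pow_dvd_iff_le_factorization Nat.prime_three Nat.card_pos.ne').2 h)
    omega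
  let T : Sylow 3 (Az F) := Sylow.ofCard ((P0 F).subgroupOf (Az F)) (by rw [hc, hf]; norm_num)
  obtain ⟨j, -, hj⟩ := (Nat.dvd_prime_pow Nat.prime_three).1
    (orderOf_dvd_of_pow_eq_one (show (⟨y, hy⟩ : Az F) ^ 3 ^ k = 1 from Subtype.ext (by simpa using hk)))
  obtain ⟨T', hT'⟩ := (IsPGroup.of_card (n := j) (by rw [Nat.card_zpowers, hj]) :
    IsPGroup 3 (Subgroup.zpowers (⟨y, hy⟩ : Az F))).exists_le_sylow
  obtain ⟨g, hg⟩ := MulAction.exists_smul_eq (Az F) T' T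
  refine ⟨g, g.2, ?_⟩
  have hmem : g * ⟨y, hy⟩ * g⁻¹ ∈ (T : Subgroup (Az F)) := by
    rw [← hg, Sylow.coe_subgroup_smul]
    exact ⟨_, hT' (Subgroup.mem_zpowers _), rfl⟩
  rw [Sylow.coe_ofCard] at hmem
  exact hmem

include S in
/-- If `C(a, x)` centralises `z`, then elements normalising `⟨a, x⟩` modulo `a` do. -/
theorem good_of_cent {x : G} (hxz : Commute x z) (hx3 : x ^ 3 = 1) (hx1 : x ≠ 1)
    (h33 : (D.p x).cycleType ≠ {3, 3})
    (hC : ∀ y, Commute y (ga F) → Commute y x → Commute y z) {y : G} (hya : Commute y (ga F))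
    {l : ℕ} (hy : y * x * y⁻¹ = x * ga F ^ l) : Commute y z := by
  set t := y⁻¹⁻¹ * z * y⁻¹ with ht
  have hto : orderOf t = 2 := by
    rw [show t = (MulAut.conj y) z by simp [ht], MulEquiv.orderOf_eq]; exact orderOf_z D
  have hta : Commute t (ga F) := by
    rw [ht, inv_inv]
    exact (hya.mul_left (ga_z F).symm).mul_left hya.inv_left
  have htx : Commute t x := by
    have h1 : Commute t (x * ga F ^ l) := by
      rw [← hy, ht, inv_inv]; exact hxz.symm.conj y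
    have h2 := h1.mul_right (hta.pow_right l).inv_right
    rwa [mul_inv_cancel_right] at h2
  have e := S.only_invol hxz hx3 hx1 h33 hto htx (hC t hta htx)
  rw [ht, inv_inv] at e
  exact mul_inv_eq_iff_eq_mul.1 e

/-- The conjugation by `u`. -/
theorem cent_d (S : Small D) (F : Frame D) (h81 : ¬ 81 ∣ Nat.card (Subgroup.centralizer ({ga F} : Set G)))
    {k : Fin 3} (hk : k ≠ 0) :
    ∀ y, Commute y (ga F) → Commute y (w F (1, 2, k)) → Commute y z := by
  classical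
  intro y hya hyd
  set d := w F (1, 2, k) with hd
  set Y := Subgroup.centralizer ({ga F} : Set G) ⊓ Subgroup.centralizer ({d} : Set G) with hY
  have memY : ∀ {g : G}, g ∈ Y ↔ Commute g (ga F) ∧ Commute g d := fun {g} => by
    simp [hY, Subgroup.mem_inf, Subgroup.mem_centralizer_singleton_iff, commute_iff_eq]
  have hdz : Commute d z := w_z F _
  have hd3 : d ^ 3 = 1 := w_three F _
  have hd1 : d ≠ 1 := fun e => by
    rw [hd, ← w_zero F] at e
    exact absurd (w_injective F S.nine S.ten e) (by simp)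
  have h33 : (D.p d).cycleType ≠ {3, 3} := not_type_33 (by
    rw [hd, p_w]
    have := card_d S.nine S.ten k hk
    simp only [show ((1 : Fin 3) : ℕ) = 1 from rfl, show ((2 : Fin 3) : ℕ) = 2 from rfl, pow_one]
    omega)
  have hzY : z ∈ Y := memY.2 ⟨(ga_z F).symm, hdz.symm⟩
  have hiso : Cfsg.IsIsolatedInvolution (⟨z, hzY⟩ : Y) := by
    refine ⟨by rw [← Subgroup.orderOf_coe]; exact orderOf_z D, fun g hg => Subtype.ext ?_⟩
    set t : Y := g * ⟨z, hzY⟩ * g⁻¹
    have ho : orderOf (t : G) = 2 := by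
      rw [Subgroup.coe_mul, Subgroup.coe_mul, Subgroup.coe_inv]
      exact (MulEquiv.orderOf_eq (MulAut.conj (g : G)) z).trans (orderOf_z D)
    exact S.only_invol hdz hd3 hd1 h33 ho (memY.1 t.2).2 (congrArg Subtype.val hg.eq).symm
  obtain ⟨N, hN, hNodd, hNc⟩ := ZStarTheorem.exists_odd_normal hiso
  have huu : F.u * F.u = 1 := u_sq F
  have hui : F.u⁻¹ = F.u := u_inv F
  have hud : F.u * d * F.u⁻¹ = d⁻¹ := by
    rw [hd, u_w]
    refine (inv_eq_of_mul_eq_one_right ?_).symm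
    rw [← w_add, ← w_zero F]
    congr 1
    simp only [Prod.mk_add_mk, add_neg_cancel]
    decide
  have huY : ∀ g ∈ Y, F.u * g * F.u⁻¹ ∈ Y := fun g hg => by
    obtain ⟨h1, h2⟩ := memY.1 hg
    refine memY.2 ⟨?_, ?_⟩
    · have := h1.conj F.u; rwa [u_a] at this
    · have := (h2.conj F.u); rw [hud] at this
      simpa using this.inv_right
  set N' := N.map Y.subtype with hN'
  set O := N' ⊓ N'.map (MulAut.conj F.u).toMonoidHom with hO
  have memO : ∀ {g : G}, g ∈ O ↔ g ∈ N' ∧ F.u * g * F.u ∈ N' := fun {g} => by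
    rw [hO, Subgroup.mem_inf]
    refine and_congr_right fun _ => ⟨?_, fun h => ⟨_, h, ?_⟩⟩
    · rintro ⟨k, hk, rfl⟩
      show F.u * (F.u * k * F.u⁻¹) * F.u ∈ N'
      rw [hui, show F.u * (F.u * k * F.u) * F.u = (F.u * F.u) * k * (F.u * F.u) by group, huu,
        one_mul, mul_one]
      exact hk
    · show F.u * (F.u * g * F.u) * F.u⁻¹ = g
      rw [hui, show F.u * (F.u * g * F.u) * F.u = (F.u * F.u) * g * (F.u * F.u) by group, huu,
        one_mul, mul_one]
  have hN'Y : N' ≤ Y := Subgroup.map_subtype_le N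
  have hOY : O ≤ Y := inf_le_left.trans hN'Y
  have hN'conj : ∀ g ∈ Y, ∀ k ∈ N', g * k * g⁻¹ ∈ N' := by
    rintro g hg _ ⟨k, hk, rfl⟩
    exact ⟨_, hN.conj_mem k hk ⟨g, hg⟩, rfl⟩
  have hOconj : ∀ g ∈ Y, ∀ k ∈ O, g * k * g⁻¹ ∈ O := fun g hg k hk => by
    obtain ⟨k1, k2⟩ := memO.1 hk
    refine memO.2 ⟨hN'conj g hg k k1, ?_⟩
    have := hN'conj _ (huY g hg) _ k2
    rw [hui] at this
    rwa [show F.u * g * F.u * (F.u * k * F.u) * (F.u * g * F.u)⁻¹ =
      F.u * g * (F.u * F.u) * k * g⁻¹ * F.u⁻¹ * (F.u * F.u⁻¹) by group, huu, hui, huu, mul_one,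
      mul_one, show F.u * g * k * g⁻¹ * F.u = F.u * (g * k * g⁻¹) * F.u by group] at this
  have hcN : ∀ g ∈ Y, z * g * z⁻¹ * g⁻¹ ∈ N' := fun g hg => ⟨_, hNc ⟨g, hg⟩, rfl⟩
  have hcO : ∀ g ∈ Y, z * g * z⁻¹ * g⁻¹ ∈ O := fun g hg => by
    refine memO.2 ⟨hcN g hg, ?_⟩
    have := hcN _ (huY g hg)
    have huz : F.u * z * F.u⁻¹ = z := mul_inv_eq_iff_eq_mul.2 F.uz.eq
    rw [show F.u * (z * g * z⁻¹ * g⁻¹) * F.u = (F.u * z * F.u⁻¹) * (F.u * g * F.u⁻¹) *
      (F.u * z * F.u⁻¹)⁻¹ * (F.u * g * F.u⁻¹)⁻¹ * (F.u * F.u) by group, huu, mul_one, huz]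
    exact this
  have hOodd : Odd (Nat.card O) := by
    refine hNodd.of_dvd_nat ((Subgroup.card_dvd_of_le inf_le_left).trans ?_)
    rw [hN', Subgroup.card_subtype]
  have hzO : ∀ k ∈ O, z * k * z ∈ O := fun k hk => by
    have := hOconj z hzY k hk
    rwa [inv_eq_of_mul_eq_one_right D.sq] at this
  have huO : ∀ k ∈ O, F.u * k * F.u ∈ O := fun k hk => by
    obtain ⟨k1, k2⟩ := memO.1 hk
    refine memO.2 ⟨k2, ?_⟩
    rwa [show F.u * (F.u * k * F.u) * F.u = (F.u * F.u) * k * (F.u * F.u) by group, huu,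
      one_mul, mul_one]
  -- the three centralisers
  have hcen : ∀ v : G, orderOf v = 2 → Commute v (ga F) →
      Nat.card (FourFormula30.cen O v) ∣ 27 := by
    intro v hv hva
    refine odd_dvd (hOodd.of_dvd_nat (Subgroup.card_dvd_of_le inf_le_left)) (e := 4) ?_
    obtain ⟨h, hha, hh⟩ :=
      S.conj_centralizer (ga_z F) (ga_three F) (ga_type F S.nine S.ten) hv hva
    refine dvd_trans ?_ (card_Az_dvd S F)
    have hmap : Nat.card ((FourFormula30.cen O v).map (MulAut.conj h⁻¹).toMonoidHom) =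
        Nat.card (FourFormula30.cen O v) := Subgroup.card_map_of_injective (MulAut.conj h⁻¹).injective
    rw [← hmap]
    refine Subgroup.card_dvd_of_le ?_
    rintro _ ⟨k, hk, rfl⟩
    obtain ⟨hkO, hkv⟩ := FourFormula30.mem_cen.1 hk
    refine (mem_Az F).2 ⟨?_, ?_⟩
    · show Commute (h⁻¹ * k * h⁻¹⁻¹) z
      have := (show Commute k v from hkv).conj h⁻¹
      rwa [show h⁻¹ * v * h⁻¹⁻¹ = z by rw [← hh]; group] at this
    · show Commute (h⁻¹ * k * h⁻¹⁻¹) (ga F)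
      exact (hha.inv_left.mul_left (memY.1 (hOY hkO)).1).mul_left hha.inv_left.inv_left
  have huz2 : orderOf (F.u * z) = 2 := by
    refine orderOf_eq_prime ?_ fun e => F.u_ne ?_
    · rw [F.uz.mul_pow, pow_two, pow_two, huu, D.sq, one_mul]
    · rw [eq_inv_of_mul_eq_one_left e, inv_eq_of_mul_eq_one_right D.sq]
  have hua : Commute F.u (ga F) := mul_inv_eq_iff_eq_mul.1 (u_a F)
  have hff := FourFormula30.four_formula O hOodd F.u z huu D.sq F.uz.eq huO hzO
  have h27 : Nat.card O ∣ 3 ^ 9 := by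
    refine (dvd_mul_right (Nat.card O)
      (Nat.card (FourFormula30.cen (FourFormula30.cen O z) F.u) ^ 2)).trans ?_
    rw [hff, show (3 : ℕ) ^ 9 = 27 * 27 * 27 by norm_num]
    exact mul_dvd_mul (mul_dvd_mul (hcen _ F.u_two hua) (hcen _ (orderOf_z D) (ga_z F).symm))
      (hcen _ huz2 (hua.mul_left (ga_z F).symm))
  obtain ⟨j, -, hj⟩ := (Nat.dvd_prime_pow Nat.prime_three).1 h27
  haveI : Fact (Nat.Prime 3) := ⟨Nat.prime_three⟩
  have hP0p : IsPGroup 3 (P0 F) := IsPGroup.of_card (n := 3) (by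
    rw [card_P0 F S.nine S.ten]; norm_num)
  have hP0Y : P0 F ≤ Y := by
    rintro _ ⟨v, rfl⟩
    exact memY.2 ⟨w_a F ▸ w_commute F v _, w_commute F v _⟩
  have hnorm : P0 F ≤ Subgroup.normalizer (O : Set G) := fun g hg =>
    Subgroup.mem_normalizer_iff.2 fun k => ⟨hOconj g (hP0Y hg) k, fun hk => by
      have := hOconj g⁻¹ (hP0Y ((P0 F).inv_mem hg)) _ hk
      rwa [show g⁻¹ * (g * k * g⁻¹) * g⁻¹⁻¹ = k by group] at this⟩
  obtain ⟨i, hi⟩ := IsPGroup.iff_card.1
    (IsPGroup.to_sup_of_normal_left' (IsPGroup.of_card hj) hP0p hnorm)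
  have hsupX : O ⊔ P0 F ≤ Subgroup.centralizer ({ga F} : Set G) :=
    (sup_le hOY hP0Y).trans inf_le_left
  have hi3 : i ≤ 3 := by
    by_contra hlt
    refine h81 (dvd_trans ?_ (Subgroup.card_dvd_of_le hsupX))
    rw [hi]
    exact (show (81 : ℕ) = 3 ^ 4 by norm_num) ▸ pow_dvd_pow 3 (by omega)
  have hsup : P0 F = O ⊔ P0 F := Subgroup.eq_of_le_of_card_ge le_sup_right (by
    rw [hi, card_P0 F S.nine S.ten]
    exact (Nat.pow_le_pow_right (by norm_num) hi3).trans (by norm_num))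
  have hOz : ∀ k ∈ O, Commute k z := fun k hk => by
    have hk' : k ∈ P0 F := by rw [hsup]; exact Subgroup.mem_sup_left hk
    obtain ⟨v, rfl⟩ := hk'
    exact w_z F v
  have h := hcO y (memY.2 ⟨hya, hyd⟩)
  set o := z * y * z⁻¹ * y⁻¹ with ho
  have hoz : z * o * z⁻¹ = o := by rw [← (hOz o h).eq, mul_inv_cancel_right]
  have hzi : z⁻¹ = z := inv_eq_of_mul_eq_one_right D.sq
  have hinv : z * o * z⁻¹ = o⁻¹ := by
    rw [ho, hzi, show z * (z * y * z * y⁻¹) * z = (z * z) * y * z * y⁻¹ * z by group, D.sq,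
      one_mul, mul_inv_rev, mul_inv_rev, mul_inv_rev, inv_inv, hzi]
    group
  have ho2 : o * o = 1 := by
    rw [hoz] at hinv
    nth_rewrite 1 [hinv]
    exact inv_mul_cancel o
  have ho1 : o = 1 := FourFormula30.eq_of_sq_eq hOodd h O.one_mem (by rw [ho2, one_mul])
  rw [ho, mul_inv_eq_one] at ho1
  exact (mul_inv_eq_iff_eq_mul.1 ho1).symm

/-! ## The quotient -/

/-- The centraliser of `a`. -/
abbrev XX (F : Frame D) : Subgroup G := Subgroup.centralizer ({ga F} : Set G)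

/-- `a` in its centraliser. -/
def aX (F : Frame D) : XX F := ⟨ga F, Subgroup.mem_centralizer_singleton_iff.2 rfl⟩

instance normal_a (F : Frame D) : (Subgroup.zpowers (aX F)).Normal := ⟨fun x hx g => by
  obtain ⟨i, rfl⟩ := Subgroup.mem_zpowers_iff.1 hx
  have h : Commute g (aX F) := Subtype.ext (Subgroup.mem_centralizer_singleton_iff.1 g.2)
  rw [(h.zpow_right i).eq, mul_inv_cancel_right]
  exact Subgroup.mem_zpowers_iff.2 ⟨i, rfl⟩⟩

/-- The quotient map. -/
abbrev qm (F : Frame D) : XX F →* XX F ⧸ Subgroup.zpowers (aX F) :=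
  QuotientGroup.mk' (Subgroup.zpowers (aX F))

/-- The image of a subgroup of `G`. -/
def img (F : Frame D) (M : Subgroup G) : Subgroup (XX F ⧸ Subgroup.zpowers (aX F)) :=
  (M.subgroupOf (XX F)).map (qm F)

theorem qm_eq (F : Frame D) {x y : XX F} :
    qm F x = qm F y ↔ ∃ l : ℕ, (y : G) = (x : G) * ga F ^ l := by
  rw [QuotientGroup.mk'_eq_mk']
  constructor
  · rintro ⟨m, hm, rfl⟩
    obtain ⟨i, rfl⟩ := Subgroup.mem_zpowers_iff.1 hm
    obtain ⟨l, hl⟩ : ∃ l : ℕ, i % 3 = l := ⟨(i % 3).toNat, (Int.toNat_of_nonneg (by omega)).symm⟩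
    refine ⟨l, ?_⟩
    rw [Subgroup.coe_mul, Subgroup.coe_zpow]
    show (x : G) * ga F ^ i = _
    rw [← zpow_natCast, ← hl]
    conv_lhs => rw [← Int.emod_add_mul_ediv i 3, zpow_add, zpow_mul,
      show ga F ^ (3 : ℤ) = 1 by exact_mod_cast ga_three F, one_zpow, mul_one]
  · rintro ⟨l, hl⟩
    exact ⟨aX F ^ l, pow_mem (Subgroup.mem_zpowers _) l, Subtype.ext (by simp [hl, aX])⟩

theorem mem_img (F : Frame D) {M : Subgroup G} (ha : ga F ∈ M) {y : XX F} :
    qm F y ∈ img F M ↔ (y : G) ∈ M := by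
  refine ⟨?_, fun h => ⟨y, h, rfl⟩⟩
  rintro ⟨x, hx, he⟩
  obtain ⟨l, hl⟩ := (qm_eq F).1 he
  rw [hl]
  exact M.mul_mem hx (M.pow_mem ha l)

theorem card_quot (F : Frame D) (h9 : 9 ≤ n) (h10 : n ≤ 10) :
    Nat.card (XX F ⧸ Subgroup.zpowers (aX F)) * 3 = Nat.card (XX F) := by
  haveI : Fact (Nat.Prime 3) := ⟨Nat.prime_three⟩
  have ho : orderOf (aX F) = 3 := by
    rw [← Subgroup.orderOf_coe]
    exact orderOf_eq_prime (ga_three F) (ga_ne_one F h9 h10)
  rw [Subgroup.card_eq_card_quotient_mul_card_subgroup (Subgroup.zpowers (aX F)),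
    Nat.card_zpowers, ho]

theorem card_img (F : Frame D) (h9 : 9 ≤ n) (h10 : n ≤ 10) {M : Subgroup G} (hM : M ≤ XX F)
    (ha : ga F ∈ M) : Nat.card (img F M) * 3 = Nat.card M := by
  have hi : (img F M).index = (M.subgroupOf (XX F)).index :=
    Subgroup.index_map_eq (M.subgroupOf (XX F)) (f := qm F) (QuotientGroup.mk'_surjective _) (by
      rw [QuotientGroup.ker_mk']; exact Subgroup.zpowers_le.2 ha)
  have h1 := (M.subgroupOf (XX F)).card_mul_index
  rw [Nat.card_congr (Subgroup.subgroupOfEquivOfLe hM).toEquiv, ← card_quot F h9 h10,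
    ← (img F M).card_mul_index, hi] at h1
  have hne : (M.subgroupOf (XX F)).index ≠ 0 := Subgroup.index_ne_zero_of_finite
  refine (Nat.eq_of_mul_eq_mul_right (Nat.pos_of_ne_zero hne) ?_).symm
  rw [h1]; ring

theorem ga_mem_K0 (F : Frame D) : ga F ∈ K0 F := by
  rw [← w_a]; exact w_mem_K0 F _

theorem Az_le (F : Frame D) : Az F ≤ XX F := inf_le_right

/-- The image of `z`. -/
def zb (F : Frame D) : XX F ⧸ Subgroup.zpowers (aX F) :=
  qm F ⟨z, Subgroup.mem_centralizer_singleton_iff.2 (ga_z F).eq.symm⟩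

theorem order_zb (F : Frame D) : orderOf (zb F) = 2 := by
  refine orderOf_eq_prime ?_ fun e => ?_
  · rw [zb, ← map_pow, show (⟨z, _⟩ : XX F) ^ 2 = 1 from Subtype.ext (by simp [pow_two, D.sq]),
      map_one]
  · obtain ⟨l, hl⟩ := (qm_eq F).1 (show qm F 1 = zb F by rw [map_one, e])
    have h3 := congrArg (· ^ 3) hl
    simp only [OneMemClass.coe_one, one_mul, ← pow_mul] at h3
    rw [mul_comm, pow_mul, ga_three, one_pow, pow_succ, pow_two, D.sq, one_mul] at h3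
    exact D.ne h3

theorem centralizer_zb (F : Frame D) :
    Subgroup.centralizer ({zb F} : Set (XX F ⧸ Subgroup.zpowers (aX F))) = img F (Az F) := by
  ext q
  obtain ⟨y, rfl⟩ := QuotientGroup.mk'_surjective _ q
  rw [Subgroup.mem_centralizer_singleton_iff, mem_img F (H0_le_Az F (K0_le_H0 F (ga_mem_K0 F))),
    mem_Az, zb, ← map_mul, ← map_mul, qm_eq]
  have hya : Commute (y : G) (ga F) := Subgroup.mem_centralizer_singleton_iff.1 y.2
  constructor
  · rintro ⟨l, hl⟩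
    refine ⟨?_, hya⟩
    have hl' : z * (y : G) = (y : G) * z * ga F ^ l := hl
    set b := ga F ^ l with hb
    have hbz : Commute b z := (ga_z F).pow_left l
    have hby : Commute b (y : G) := hya.symm.pow_left l
    have hb2 : b ^ 2 = 1 := by
      have h := congrArg (z * ·) hl'
      simp only [← mul_assoc, D.sq, one_mul] at h
      rw [hl', mul_assoc _ b, hbz.eq, ← mul_assoc, mul_assoc (y : G) z z, D.sq, mul_one, mul_assoc,
        ← pow_two] at h
      exact mul_eq_left.1 h.symm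
    have hb3 : b ^ 3 = 1 := by rw [hb, ← pow_mul, mul_comm, pow_mul, ga_three, one_pow]
    rw [pow_succ, hb2, one_mul] at hb3
    rw [hb3, mul_one] at hl'
    exact hl'.symm
  · rintro ⟨h, -⟩
    exact ⟨0, by simp [h.eq]⟩

theorem oneClass (S : Small D) (F : Frame D) :
    ∀ t : XX F ⧸ Subgroup.zpowers (aX F), orderOf t = 2 → IsConj (zb F) t := by
  intro t ht
  obtain ⟨y, rfl⟩ := QuotientGroup.mk'_surjective _ t
  have h2 : qm F y ^ 2 = 1 := ht ▸ pow_orderOf_eq_one _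
  rw [← map_pow] at h2
  obtain ⟨l, hl⟩ := (qm_eq F).1 ((map_one (qm F)).trans h2.symm)
  rw [OneMemClass.coe_one, one_mul, SubmonoidClass.coe_pow] at hl
  have h3 : qm F (y ^ 3) = qm F y := by rw [pow_succ, map_mul, h2, one_mul]
  have ho : orderOf ((y ^ 3 : XX F) : G) = 2 := by
    refine orderOf_eq_prime ?_ fun e => ?_
    · rw [SubmonoidClass.coe_pow, ← pow_mul, show 3 * 2 = 2 * 3 from rfl, pow_mul, hl, ← pow_mul,
        mul_comm, pow_mul, ga_three, one_pow]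
    · rw [← h3, show y ^ 3 = 1 from Subtype.ext e, map_one, orderOf_one] at ht
      omega
  obtain ⟨h, hha, hh⟩ := S.conj_centralizer (ga_z F) (ga_three F) (ga_type F S.nine S.ten) ho
    (Subgroup.mem_centralizer_singleton_iff.1 (y ^ 3).2)
  refine isConj_iff.2 ⟨qm F ⟨h, Subgroup.mem_centralizer_singleton_iff.2 hha.eq⟩, ?_⟩
  show qm F _ * zb F * (qm F _)⁻¹ = qm F y
  rw [← h3, zb, ← map_inv, ← map_mul, ← map_mul]
  exact congrArg (qm F) (Subtype.ext hh)

/-- The hypothesis on lifts of 3-cycles. -/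
def HypC (D : DC z n) : Prop :=
  ∀ x, Commute x z → x ^ 3 = 1 → (D.p x).cycleType = {3} → ∀ y, Commute y x → Commute y z

theorem not81 (S : Small D) (F : Frame D) (hC : HypC D) :
    ¬ 81 ∣ Nat.card (XX F) := by
  intro h
  haveI : Fact (Nat.Prime 3) := ⟨Nat.prime_three⟩
  have hle : P0 F ≤ XX F := (((P0_le_K0 F).trans (K0_le_H0 F)).trans (H0_le_Az F)).trans (Az_le F)
  have hN := Sylow.prime_pow_dvd_card_normalizer (p := 3) (n := 3) (show 3 ^ (3 + 1) ∣ _ by simpa using h)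
    (H := (P0 F).subgroupOf (XX F)) (by
      rw [Nat.card_congr (Subgroup.subgroupOfEquivOfLe hle).toEquiv, card_P0 F S.nine S.ten]
      norm_num)
  refine Az_not_81 S F (H := (Subgroup.normalizer (((P0 F).subgroupOf (XX F) : Subgroup (XX F)) :
    Set (XX F))).map (XX F).subtype) ?_ ?_
  · rintro _ ⟨y, hy, rfl⟩
    have hya : Commute (y : G) (ga F) := Subgroup.mem_centralizer_singleton_iff.1 y.2
    refine (mem_Az F).2 ⟨?_, hya⟩
    have hc3 : F.c3 ∈ P0 F := ⟨_, w_c3 F⟩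
    have hm := (Subgroup.mem_normalizer_iff''.1 hy ⟨F.c3, hle hc3⟩).1 hc3
    obtain ⟨v, hv⟩ : (y : G)⁻¹ * F.c3 * y ∈ P0 F := hm
    have h1 : Commute ((y : G) * z * (y : G)⁻¹) F.c3 := by
      have := (w_z F v).symm.conj (y : G)
      rwa [hv, show (y : G) * ((y : G)⁻¹ * F.c3 * y) * (y : G)⁻¹ = F.c3 by group] at this
    have ht : (D.p F.c3).cycleType = {3} := by rw [F.p3]; exact (perm_types S.nine S.ten).2.2.1
    have h2 := hC _ F.c3z F.c3_three ht _ h1
    have ho : orderOf ((y : G) * z * (y : G)⁻¹) = 2 :=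
      (MulEquiv.orderOf_eq (MulAut.conj (y : G)) z).trans (orderOf_z D)
    have e := S.only_invol F.c3z F.c3_three (fun e => by
      rw [e, D.p_one, cycleType_one] at ht; exact absurd ht.symm (by simp)) (by
      rw [ht]; decide) ho h1 h2
    exact mul_inv_eq_iff_eq_mul.1 e
  · rw [Subgroup.card_subtype]
    simpa using hN

variable (hC : HypC D)

include S hC in
/-- Elements normalising `⟨a, h⟩` modulo `a` for `h` in `P0 \ ⟨a⟩` centralise `z`. -/
theorem key {v : Fin 3 × Fin 3 × Fin 3} (hv : v.1 ≠ v.2.1 ∨ v.2.2 ≠ 0) {y : G}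
    (hya : Commute y (ga F)) {l : ℕ} (hy : y * w F v * y⁻¹ = w F v * ga F ^ l) : Commute y z := by
  obtain ⟨i, j, k⟩ := v
  obtain ⟨r, s, hr, hcases⟩ := exps i j k hv
  have hrr : ∀ r : Fin 3, r ≠ 0 → r * r = 1 := by decide
  have h81 := not81 S F hC
  have good : ∀ e : Fin 3 × Fin 3 × Fin 3, w F e ≠ 1 →
      (D.p (w F e)).cycleType ≠ {3, 3} → (∀ y', Commute y' (ga F) → Commute y' (w F e) → Commute y' z) →
      (i = r * e.1 + s ∧ j = r * e.2.1 + s ∧ k = r * e.2.2) → Commute y z := by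
    intro e he1 he33 hec hcomb
    obtain ⟨e1, e2, e3⟩ := e
    obtain ⟨rfl, rfl, rfl⟩ := hcomb
    refine good_of_cent S F (w_z F _) (w_three F _) he1 he33 hec hya (l := l * (r : ℕ)) ?_
    have hwpow : ∀ (m : ℕ) (p : Fin 3 × Fin 3 × Fin 3), w F (m • p) = w F p ^ m := by
      intro m p
      induction m with
      | zero => rw [zero_smul, w_zero, pow_zero]
      | succ m ih => rw [succ_nsmul, w_add, ih, pow_succ]
    have hx : w F (e1, e2, e3) = (w F (r * e1 + s, r * e2 + s, r * e3) * w F (-s, -s, 0)) ^ (r : ℕ) := by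
      rw [← w_add, ← hwpow]
      congr 1
      have key : ∀ r s e1 e2 e3 : Fin 3, r ≠ 0 → (e1, e2, e3) =
          (r : ℕ) • ((r * e1 + s, r * e2 + s, r * e3) + (-s, -s, 0)) := by decide
      exact key r s e1 e2 e3 hr
    rw [hx, ← conj_pow]
    have hs : y * w F (-s, -s, 0) * y⁻¹ = w F (-s, -s, 0) := by
      rw [w_a_pow]; exact mul_inv_eq_iff_eq_mul.2 (hya.pow_right _).eq
    have hcom : Commute (w F (r * e1 + s, r * e2 + s, r * e3) * w F (-s, -s, 0)) (ga F ^ l) := by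
      rw [← w_add, ← w_a]; exact (w_commute F _ _).pow_right l
    rw [show y * (w F (r * e1 + s, r * e2 + s, r * e3) * w F (-s, -s, 0)) * y⁻¹ =
        (y * w F (r * e1 + s, r * e2 + s, r * e3) * y⁻¹) * (y * w F (-s, -s, 0) * y⁻¹) by group,
      hy, hs, mul_assoc, (show Commute (ga F ^ l) (w F (-s, -s, 0)) by
        rw [← w_a]; exact (w_commute F _ _).pow_left l).eq, ← mul_assoc, hcom.mul_pow, ← pow_mul]
  have t := perm_types (n := n) S.nine S.ten
  have n1 : ∀ e : Fin 3 × Fin 3 × Fin 3, e ≠ 0 → w F e ≠ 1 := fun e he e' =>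
    he (w_injective F S.nine S.ten (e'.trans (w_zero F).symm))
  rcases hcases with h | h | h | h
  · refine good (1, 0, 0) (n1 _ (by decide)) ?_ ?_ (by simpa using h)
    · rw [w_c1, F.p1, t.1]; decide
    · intro y' _ h'; rw [w_c1] at h'
      exact hC _ F.c1z F.c1_three (by rw [F.p1, t.1]) y' h'
  · refine good (0, 0, 1) (n1 _ (by decide)) ?_ ?_ (by simpa using h)
    · rw [w_c3, F.p3, t.2.2.1]; decide
    · intro y' _ h'; rw [w_c3] at h'
      exact hC _ F.c3z F.c3_three (by rw [F.p3, t.2.2.1]) y' h'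
  · refine good (1, 2, 1) (n1 _ (by decide)) (not_type_33 ?_) (cent_d S F h81 (by decide))
      (by simpa [mul_comm] using h)
    rw [p_w]; simpa using (card_d S.nine S.ten 1 (by decide)).trans_ne (by norm_num)
  · refine good (1, 2, 2) (n1 _ (by decide)) (not_type_33 ?_) (cent_d S F h81 (by decide))
      (by simpa [mul_comm] using h)
    rw [p_w]; simpa using (card_d S.nine S.ten 2 (by decide)).trans_ne (by norm_num)

include S hC in
theorem h27 : ¬ 27 ∣ Nat.card (XX F ⧸ Subgroup.zpowers (aX F)) := fun h =>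
  not81 S F hC (card_quot F S.nine S.ten ▸ (show 81 = 27 * 3 from rfl) ▸ mul_dvd_mul h dvd_rfl)

include S in
theorem hnine : ∀ q ∈ Subgroup.centralizer ({zb F} : Set (XX F ⧸ Subgroup.zpowers (aX F))),
    q ^ 9 = 1 → q ^ 3 = 1 := by
  intro q hq h9
  rw [centralizer_zb] at hq
  obtain ⟨y, hy, rfl⟩ := hq
  rw [← map_pow] at h9 ⊢
  obtain ⟨l, hl⟩ := (qm_eq F).1 ((map_one (qm F)).trans h9.symm)
  rw [OneMemClass.coe_one, one_mul, SubmonoidClass.coe_pow] at hl
  obtain ⟨g, -, v, hv⟩ := exists_conj_P0 S F (y := (y : G)) hy (k := 3) (by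
    rw [show 3 ^ 3 = 9 * 3 from rfl, pow_mul, hl, ← pow_mul, mul_comm, pow_mul, ga_three, one_pow])
  have e : (y : G) ^ 3 = 1 := by
    rw [show (y : G) = g⁻¹ * w F v * g⁻¹⁻¹ by rw [hv]; group, conj_pow, w_three]; group
  rw [show y ^ 3 = 1 from Subtype.ext (by simpa using e), map_one]

include S hC in
theorem hthree : ∀ q ∈ Subgroup.centralizer ({zb F} : Set (XX F ⧸ Subgroup.zpowers (aX F))),
    orderOf q = 3 → ∀ x, Commute x q →
      x ∈ Subgroup.centralizer ({zb F} : Set (XX F ⧸ Subgroup.zpowers (aX F))) := by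
  intro q hq hq3 x hx
  rw [centralizer_zb] at hq ⊢
  obtain ⟨y, hy, rfl⟩ := hq
  have h3 : qm F y ^ 3 = 1 := hq3 ▸ pow_orderOf_eq_one _
  rw [← map_pow] at h3
  obtain ⟨l, hl⟩ := (qm_eq F).1 ((map_one (qm F)).trans h3.symm)
  rw [OneMemClass.coe_one, one_mul, SubmonoidClass.coe_pow] at hl
  obtain ⟨g, hg, v, hv⟩ := exists_conj_P0 S F (y := (y : G)) hy (k := 2) (by
    rw [show 3 ^ 2 = 3 * 3 from rfl, pow_mul, hl, ← pow_mul, mul_comm, pow_mul, ga_three, one_pow])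
  have hgX : g ∈ XX F := Az_le F hg
  set g' : XX F := ⟨g, hgX⟩
  have hwX : w F v ∈ XX F := by rw [hv]; exact (XX F).mul_mem ((XX F).mul_mem hgX y.2) ((XX F).inv_mem hgX)
  have hgy : g' * y * g'⁻¹ = ⟨w F v, hwX⟩ := Subtype.ext hv.symm
  obtain ⟨x, rfl⟩ := QuotientGroup.mk'_surjective _ x
  have hv0 : v.1 ≠ v.2.1 ∨ v.2.2 ≠ 0 := by
    by_contra hne
    push Not at hne
    obtain ⟨i, j, k⟩ := v
    obtain ⟨rfl, rfl⟩ : i = j ∧ k = 0 := hne
    have : qm F (g' * y * g'⁻¹) = 1 := by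
      rw [hgy, ← map_one (qm F)]
      refine ((qm_eq F).2 ⟨(i : ℕ), ?_⟩).symm
      simp [w_a_pow]
    rw [map_mul, map_mul, map_inv, mul_inv_eq_one, mul_eq_left] at this
    rw [this, orderOf_one] at hq3; omega
  -- the conjugate of `x`
  have hc : qm F (g' * x * g'⁻¹) * qm F ⟨w F v, hwX⟩ = qm F ⟨w F v, hwX⟩ * qm F (g' * x * g'⁻¹) := by
    rw [← hgy, map_mul, map_mul, map_mul, map_mul, map_inv]
    exact (hx.conj (qm F g')).eq
  rw [← map_mul, ← map_mul] at hc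
  obtain ⟨m, hm⟩ := (qm_eq F).1 hc.symm
  set x' : XX F := g' * x * g'⁻¹ with hx'
  have hx'a : Commute (x' : G) (ga F) := Subgroup.mem_centralizer_singleton_iff.1 x'.2
  have hm' : (x' : G) * w F v = w F v * x' * ga F ^ m := hm
  have hz' := key S F hC hv0 hx'a (l := m) (by
    rw [hm', mul_assoc (w F v), (hx'a.pow_right m).eq, ← mul_assoc, mul_inv_cancel_right])
  have : qm F x' ∈ img F (Az F) := ⟨x', (mem_Az F).2 ⟨hz', hx'a⟩, rfl⟩
  rw [hx', map_mul, map_mul, map_inv] at this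
  have hgi : qm F g' ∈ img F (Az F) := ⟨g', hg, rfl⟩
  have h := (img F (Az F)).mul_mem ((img F (Az F)).mul_mem ((img F (Az F)).inv_mem hgi) this) hgi
  simpa [mul_assoc] using h

theorem u_conj_H0 (F : Frame D) {y : G} (hy : y ∈ H0 F) : F.u * y * F.u⁻¹ ∈ H0 F := by
  obtain ⟨h1, h2, h3⟩ := (mem_H0 F).1 hy
  refine (mem_H0 F).2 ⟨(F.uz.mul_left h1).mul_left F.uz.inv_left, ?_, ?_⟩
  · have := h3.conj F.u; rwa [F.u2] at this
  · have := h2.conj F.u; rwa [F.u1] at this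

theorem conj_H0 (F : Frame D) (h9 : 9 ≤ n) (h10 : n ≤ 10) {g y : G} (hg : g ∈ Az F)
    (hy : y ∈ H0 F) : g * y * g⁻¹ ∈ H0 F := by
  rcases dichotomy F h9 h10 hg with h | h
  · exact (H0 F).mul_mem ((H0 F).mul_mem h hy) ((H0 F).inv_mem h)
  · have := u_conj_H0 F ((H0 F).mul_mem ((H0 F).mul_mem h hy) ((H0 F).inv_mem h))
    rwa [show F.u * (F.u * g * y * (F.u * g)⁻¹) * F.u⁻¹ =
      (F.u * F.u) * (g * y * g⁻¹) * (F.u * F.u)⁻¹ by group, u_sq, inv_one, one_mul, mul_one] at this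

/-- `u` in the centraliser of `a`. -/
def uX (F : Frame D) : XX F := ⟨F.u, Az_le F (u_mem_Az F)⟩

theorem u_inverts (F : Frame D) {y : XX F} (hy : (y : G) ∈ K0 F) :
    qm F (uX F) * qm F y * (qm F (uX F))⁻¹ = (qm F y)⁻¹ := by
  rw [← map_inv, ← map_inv, ← map_mul, ← map_mul, qm_eq]
  obtain ⟨⟨i, j, k⟩, hv⟩ := hy
  refine ⟨((-(i + j) : Fin 3) : ℕ), ?_⟩
  rw [← w_a_pow]
  show (y : G)⁻¹ = F.u * y * F.u⁻¹ * w F (-(i + j), -(i + j), 0)
  refine inv_eq_of_mul_eq_one_right ?_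
  have e : ∀ p : Fin 3 × Fin 3 × Fin 3, p = (i, j, k) + ((j, i, -k) + (-(i + j), -(i + j), 0)) →
      w F p = 1 := fun p hp => by
    rw [← w_zero F, hp]; congr 1
    have key : ∀ i j k : Fin 3, ((i, j, k) + ((j, i, -k) + (-(i + j), -(i + j), 0)) :
      Fin 3 × Fin 3 × Fin 3) = 0 := by decide
    exact key i j k
  rcases hv with hv | hv <;> rw [hv]
  · rw [u_w, ← w_add, ← w_add]
    exact e _ rfl
  · rw [show F.u * (w F (i, j, k) * z) * F.u⁻¹ = (F.u * w F (i, j, k) * F.u⁻¹) * (F.u * z * F.u⁻¹) by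
      group, u_w, mul_inv_eq_iff_eq_mul.2 F.uz.eq,
      show w F (i, j, k) * z * (w F (j, i, -k) * z * w F (-(i + j), -(i + j), 0)) =
        w F (i, j, k) * (z * w F (j, i, -k)) * (z * w F (-(i + j), -(i + j), 0)) by group,
      ← (w_z F _).eq, ← (w_z F _).eq,
      show w F (i, j, k) * (w F (j, i, -k) * z) * (w F (-(i + j), -(i + j), 0) * z) =
        w F (i, j, k) * w F (j, i, -k) * (z * w F (-(i + j), -(i + j), 0)) * z by group,
      ← (w_z F _).eq, ← mul_assoc, mul_assoc _ z z, D.sq, mul_one, ← w_add, ← w_add, add_assoc]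
    exact e _ rfl

theorem img_H0_le (F : Frame D) : img F (H0 F) ≤ Subgroup.centralizer
    ({zb F} : Set (XX F ⧸ Subgroup.zpowers (aX F))) := by
  rw [centralizer_zb]
  exact Subgroup.map_mono (fun _ h => H0_le_Az F h)

theorem zb_mem (F : Frame D) : zb F ∈ img F (H0 F) :=
  ⟨_, K0_le_H0 F (z_mem_K0 F), rfl⟩

include S in
theorem invol_H {q : XX F ⧸ Subgroup.zpowers (aX F)} (hq : q ∈ img F (H0 F))
    (ho : orderOf q = 2) : q = zb F := by
  obtain ⟨y, hy, rfl⟩ := hq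
  have h2 : qm F y ^ 2 = 1 := ho ▸ pow_orderOf_eq_one _
  rw [← map_pow] at h2
  obtain ⟨l, hl⟩ := (qm_eq F).1 ((map_one (qm F)).trans h2.symm)
  rw [OneMemClass.coe_one, one_mul, SubmonoidClass.coe_pow] at hl
  have h3 : qm F (y ^ 3) = qm F y := by rw [pow_succ, map_mul, h2, one_mul]
  have hy3 : (y : G) ^ 3 ∈ H0 F := (H0 F).pow_mem hy 3
  obtain ⟨hz3, h13, -⟩ := (mem_H0 F).1 hy3
  have h6 : ((y : G) ^ 3) ^ 2 = 1 := by
    rw [← pow_mul, show 3 * 2 = 2 * 3 from rfl, pow_mul, hl, ← pow_mul, mul_comm, pow_mul,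
      ga_three, one_pow]
  have ho3 : orderOf ((y : G) ^ 3) = 2 := orderOf_eq_prime h6 fun e => by
    rw [← h3, show y ^ 3 = 1 from Subtype.ext (by simpa using e), map_one, orderOf_one] at ho
    omega
  have ht : (D.p F.c1).cycleType = {3} := by rw [F.p1]; exact (perm_types S.nine S.ten).1
  have e := S.only_invol F.c1z F.c1_three (fun e => by
    rw [e, D.p_one, cycleType_one] at ht; exact absurd ht.symm (by simp)) (by rw [ht]; decide)
    ho3 h13 hz3
  rw [← h3, zb]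
  exact congrArg (qm F) (Subtype.ext (by simpa using e))

theorem exists_eq_u_mul (F : Frame D) (h9 : 9 ≤ n) (h10 : n ≤ 10)
    {q : XX F ⧸ Subgroup.zpowers (aX F)}
    (hq : q ∈ Subgroup.centralizer ({zb F} : Set (XX F ⧸ Subgroup.zpowers (aX F))))
    (hqH : q ∉ img F (H0 F)) :
    ∃ h : XX F, (h : G) ∈ H0 F ∧ q = qm F (uX F) * qm F h := by
  rw [centralizer_zb] at hq
  obtain ⟨y, hy, rfl⟩ := hq
  rcases dichotomy F h9 h10 hy with h | h
  · exact absurd ⟨y, h, rfl⟩ hqH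
  · refine ⟨uX F * y, h, ?_⟩
    rw [← map_mul, ← mul_assoc, show uX F * uX F = 1 from Subtype.ext (u_sq F), one_mul]

theorem qm_u_sq (F : Frame D) : qm F (uX F) * qm F (uX F) = 1 := by
  rw [← map_mul, show uX F * uX F = 1 from Subtype.ext (u_sq F), map_one]

theorem u_mul_notMem (F : Frame D) (h9 : 9 ≤ n) (h10 : n ≤ 10) {h : XX F} (hh : (h : G) ∈ H0 F) :
    qm F (uX F) * qm F h ∉ img F (H0 F) := fun hm => by
  rw [← map_mul, mem_img F (K0_le_H0 F (ga_mem_K0 F))] at hm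
  refine u_notMem_H0 F h9 h10 ?_
  have := (H0 F).mul_mem hm ((H0 F).inv_mem hh)
  simpa [uX] using this

theorem u_mul_inverts (F : Frame D) {h x : XX F} (hh : (h : G) ∈ K0 F) (hx : (x : G) ∈ K0 F) :
    (qm F (uX F) * qm F h) * (qm F (uX F) * qm F h) = 1 ∧
      (qm F (uX F) * qm F h) * qm F x * (qm F (uX F) * qm F h)⁻¹ = (qm F x)⁻¹ := by
  have hu := u_inverts F hh
  have hu2 := qm_u_sq F
  have huinv : (qm F (uX F))⁻¹ = qm F (uX F) := inv_eq_of_mul_eq_one_right hu2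
  rw [huinv] at hu
  refine ⟨by rw [← mul_assoc, hu, inv_mul_cancel], ?_⟩
  have hc : qm F h * qm F x = qm F x * qm F h := by
    rw [← map_mul, ← map_mul]; exact congrArg (qm F) (Subtype.ext (K0_comm F hh hx).eq)
  rw [mul_inv_rev, ← mul_assoc, mul_assoc (qm F (uX F)) (qm F h) (qm F x), hc, ← mul_assoc,
    mul_inv_cancel_right]
  exact u_inverts F hx

theorem nine_false [NeZero 9] {D : DC z 9} (S : Small D) (F : Frame D) (hC : HypC D) : False := by
  have h9 : (9 : ℕ) ≤ 9 := le_rfl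
  have h10 : (9 : ℕ) ≤ 10 := by norm_num
  have haH := K0_le_H0 F (ga_mem_K0 F)
  have hcardH : Nat.card (H0 F) = 54 := by
    rw [card_H0 F h9 h10, Nat.card_eq_fintype_card, alt_card_nine]
  have hK : ∀ y : G, y ∈ H0 F → y ∈ K0 F := fun y hy => by
    rcases nine_alt ⟨res F h9 h10 ⟨y, H0_le_Az F hy⟩, Perm.mem_alternatingGroup.2
      (res_even F h9 h10 hy)⟩ with e | e | e <;> exact mem_K0_of_res F h9 h10 hy e
  have hH18 : Nat.card (img F (H0 F)) = 18 := by
    have := card_img F h9 h10 ((H0_le_Az F).trans (Az_le F)) haH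
    omega
  have hM : Nat.card (Subgroup.centralizer ({zb F} : Set (XX F ⧸ Subgroup.zpowers (aX F)))) = 36 := by
    rw [centralizer_zb]
    have := card_img F h9 h10 (Az_le F) (H0_le_Az F haH)
    rw [card_Az F h9 h10, hcardH] at this
    omega
  have h6 : ∀ q ∈ img F (H0 F), q ^ 6 = 1 := by
    rintro _ ⟨y, hy, rfl⟩
    obtain ⟨v, e | e⟩ := hK _ hy
    all_goals
      rw [← map_pow, show y ^ 6 = 1 from Subtype.ext ?_, map_one]
      rw [SubmonoidClass.coe_pow, OneMemClass.coe_one, show 6 = 3 * 2 from rfl, pow_mul,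
        show (y : G) = _ from e]
    · rw [w_three, one_pow]
    · rw [(w_z F v).mul_pow, w_three, one_mul, ← pow_mul, show 3 * 2 = 2 * 3 from rfl, pow_mul,
        pow_two, D.sq, one_pow]
  refine DoubleCoverCount74.no_group_36 (zb F) (order_zb F) (oneClass S F) hM (img F (H0 F))
    (img_H0_le F) hH18 (zb_mem F) h6 (h27 S F hC) ?_ ?_
  · intro q hq hq1 hqz x hx
    have h2ne : q ^ 2 ≠ 1 := fun e => by
      haveI : Fact (Nat.Prime 2) := ⟨Nat.prime_two⟩
      exact hqz (invol_H S F hq (orderOf_eq_prime e hq1))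
    haveI : Fact (Nat.Prime 3) := ⟨Nat.prime_three⟩
    refine hthree S F hC (q ^ 2) (Subgroup.pow_mem _ (img_H0_le F hq) 2)
      (orderOf_eq_prime (by rw [← pow_mul]; exact h6 q hq) h2ne) x (hx.pow_right 2)
  · intro v hv hvH
    obtain ⟨h, hh, rfl⟩ := exists_eq_u_mul F h9 h10 hv hvH
    refine ⟨(u_mul_inverts F (hK _ hh) (hK _ hh)).1, ?_⟩
    rintro _ ⟨x, hx, rfl⟩
    exact (u_mul_inverts F (hK _ hh) (hK _ hx)).2

/-- The elements of `H0` acting as Klein four-group elements on the points `≥ 6`. -/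
def L0 [NeZero 10] {D : DC z 10} (F : Frame D) : Subgroup G where
  carrier := {y | ∃ h : y ∈ H0 F, res F (by norm_num) (by norm_num) ⟨y, H0_le_Az F h⟩ *
    res F (by norm_num) (by norm_num) ⟨y, H0_le_Az F h⟩ = 1}
  one_mem' := ⟨one_mem _, by
    rw [show (⟨1, _⟩ : Az F) = 1 from rfl, map_one, one_mul]⟩
  mul_mem' := by
    rintro x y ⟨hx, ex⟩ ⟨hy, ey⟩
    refine ⟨mul_mem hx hy, ?_⟩
    rw [show (⟨x * y, _⟩ : Az F) = ⟨x, H0_le_Az F hx⟩ * ⟨y, H0_le_Az F hy⟩ from rfl, map_mul]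
    exact congrArg Subtype.val (ten_klein_mul ⟨_, Perm.mem_alternatingGroup.2 (res_even F _ _ hx)⟩
      ⟨_, Perm.mem_alternatingGroup.2 (res_even F _ _ hy)⟩ (Subtype.ext ex) (Subtype.ext ey))
  inv_mem' := by
    rintro x ⟨hx, ex⟩
    refine ⟨inv_mem hx, ?_⟩
    rw [show (⟨x⁻¹, _⟩ : Az F) = (⟨x, H0_le_Az F hx⟩)⁻¹ from rfl, map_inv, ← mul_inv_rev, ex,
      inv_one]

theorem card_L0 [NeZero 10] {D : DC z 10} (F : Frame D) : Nat.card (L0 F) = 72 := by
  have h9 : (9 : ℕ) ≤ 10 := by norm_num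
  have h10 : (10 : ℕ) ≤ 10 := le_rfl
  let f : H0 F →* alternatingGroup (R 10) :=
    ((res F h9 h10).comp (Subgroup.inclusion (H0_le_Az F))).codRestrict _ fun y =>
      Perm.mem_alternatingGroup.2 (res_even F h9 h10 y.2)
  have hf : Function.Surjective f := fun τ => by
    obtain ⟨y, hy, e⟩ := exists_res F h9 h10 (Perm.mem_alternatingGroup.1 τ.2)
    exact ⟨⟨y, hy⟩, Subtype.ext e⟩
  let V : Subgroup (alternatingGroup (R 10)) :=
    { carrier := {τ | τ * τ = 1}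
      one_mem' := one_mul 1
      mul_mem' := fun {a b} ha hb => ten_klein_mul a b ha hb
      inv_mem' := fun {a} (ha : a * a = 1) => show a⁻¹ * a⁻¹ = 1 by rw [← mul_inv_rev, ha, inv_one] }
  have hV : Nat.card V = 4 := by
    classical
    rw [Nat.card_eq_fintype_card]
    refine Eq.trans ?_ ten_klein_card
    rw [← Fintype.card_subtype]
    exact Fintype.card_congr (Equiv.subtypeEquivRight fun τ => Iff.rfl)
  have hVi : V.index = 3 := by
    have := V.card_mul_index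
    rw [hV, Nat.card_eq_fintype_card, alt_card_ten] at this
    omega
  have h := (V.comap f).card_mul_index
  have hA : Nat.card (alternatingGroup (R 10)) = 12 := by
    rw [Nat.card_eq_fintype_card, alt_card_ten]
  rw [Subgroup.index_comap_of_surjective _ hf, hVi, card_H0 F h9 h10, hA] at h
  have e : L0 F = (V.comap f).map (H0 F).subtype := by
    ext y
    constructor
    · rintro ⟨hy, e⟩; exact ⟨⟨y, hy⟩, Subtype.ext e, rfl⟩
    · rintro ⟨⟨y, hy⟩, he, rfl⟩; exact ⟨hy, congrArg Subtype.val he⟩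
  rw [e, Subgroup.card_subtype]
  omega

theorem ga_mem_L0 [NeZero 10] {D : DC z 10} (F : Frame D) : ga F ∈ L0 F := by
  refine ⟨K0_le_H0 F (ga_mem_K0 F), ?_⟩
  have P := pf 10 (by norm_num) le_rfl
  rw [← map_mul]
  refine Equiv.ext fun i => Subtype.ext ?_
  rw [res_apply]
  show D.p (ga F * ga F) i = i
  rw [D.p_mul (ga_z F) (ga_z F), p_ga]
  have hi := i.2
  have e : (C1 10 * C2 10) i.1 = i.1 := by
    by_contra hh; have := (P.S_moved i.1).1 hh; omega
  rw [Perm.mul_apply, e, e]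

theorem ten_false [NeZero 10] {D : DC z 10} (S : Small D) (F : Frame D) (hC : HypC D) : False := by
  have h9 : (9 : ℕ) ≤ 10 := by norm_num
  have h10 : (10 : ℕ) ≤ 10 := le_rfl
  have haH := K0_le_H0 F (ga_mem_K0 F)
  have haL := ga_mem_L0 F
  have hcardH : Nat.card (H0 F) = 216 := by
    rw [card_H0 F h9 h10, Nat.card_eq_fintype_card, alt_card_ten]
  have hH : Nat.card (img F (H0 F)) = 72 := by
    have := card_img F h9 h10 ((H0_le_Az F).trans (Az_le F)) haH
    omega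
  have hLH0 : L0 F ≤ H0 F := fun y hy => hy.1
  have hL : Nat.card (img F (L0 F)) = 24 := by
    have := card_img F h9 h10 ((hLH0.trans (H0_le_Az F)).trans (Az_le F)) haL
    rw [card_L0] at this
    omega
  have hM : Nat.card (Subgroup.centralizer ({zb F} : Set (XX F ⧸ Subgroup.zpowers (aX F)))) = 144 := by
    rw [centralizer_zb]
    have := card_img F h9 h10 (Az_le F) (H0_le_Az F haH)
    rw [card_Az F h9 h10, hcardH] at this
    omega
  have hLimg : img F (L0 F) ≤ img F (H0 F) := Subgroup.map_mono fun _ h => hLH0 h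
  have rA : ∀ {y : G} (hy : y ∈ H0 F),
      res F h9 h10 ⟨y, H0_le_Az F hy⟩ ∈ alternatingGroup (R 10) := fun hy =>
    Perm.mem_alternatingGroup.2 (res_even F h9 h10 hy)
  have hcube : ∀ q ∈ img F (H0 F), q ^ 3 ∈ img F (L0 F) := by
    rintro _ ⟨y, hy, rfl⟩
    rw [← map_pow, mem_img F haL]
    refine ⟨(H0 F).pow_mem hy 3, ?_⟩
    rw [← map_mul]
    have h6 : ∀ τ : alternatingGroup (R 10), τ ^ 3 * τ ^ 3 = 1 := by decide +kernel
    have := congrArg Subtype.val (h6 ⟨_, rA hy⟩)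
    rw [Subgroup.coe_mul, SubmonoidClass.coe_pow, ← map_pow, ← map_mul] at this
    exact this
  have hLn : ∀ g ∈ Subgroup.centralizer ({zb F} : Set (XX F ⧸ Subgroup.zpowers (aX F))),
      ∀ q ∈ img F (L0 F), g * q * g⁻¹ ∈ img F (L0 F) := by
    intro g hg q hq
    rw [centralizer_zb] at hg
    obtain ⟨g, hg, rfl⟩ := hg
    obtain ⟨y, ⟨hy, ey⟩, rfl⟩ := hq
    rw [← map_inv, ← map_mul, ← map_mul, mem_img F haL]
    refine ⟨conj_H0 F h9 h10 hg hy, ?_⟩
    set g' : Az F := ⟨g, hg⟩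
    set y' : Az F := ⟨y, H0_le_Az F hy⟩
    show res F h9 h10 (g' * y' * g'⁻¹) * res F h9 h10 (g' * y' * g'⁻¹) = 1
    have ey' : res F h9 h10 y' * res F h9 h10 y' = 1 := ey
    rw [← map_mul, show g' * y' * g'⁻¹ * (g' * y' * g'⁻¹) = g' * (y' * y') * g'⁻¹ by group,
      map_mul, map_mul, map_mul, ey', mul_one, map_inv, mul_inv_cancel]
  refine DoubleCoverCount74.no_group_144 (zb F) (order_zb F) (oneClass S F) hM (img F (H0 F))
    (img F (L0 F)) hLimg (img_H0_le F) hH hL ⟨_, ⟨K0_le_H0 F (z_mem_K0 F), ?_⟩, rfl⟩ hLn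
    (fun v hv ho => invol_H S F hv ho) ?_ ?_ ?_ (h27 S F hC) (hnine S F) (hthree S F hC)
  · show res F h9 h10 ⟨z, H0_le_Az F (K0_le_H0 F (z_mem_K0 F))⟩ *
      res F h9 h10 ⟨z, H0_le_Az F (K0_le_H0 F (z_mem_K0 F))⟩ = 1
    rw [← map_mul, show (⟨z, H0_le_Az F (K0_le_H0 F (z_mem_K0 F))⟩ : Az F) *
      ⟨z, H0_le_Az F (K0_le_H0 F (z_mem_K0 F))⟩ = 1 from Subtype.ext D.sq, map_one]
  · -- `modL`
    intro v hv hvH q hq
    obtain ⟨h, hh, rfl⟩ := exists_eq_u_mul F h9 h10 hv hvH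
    obtain ⟨y, hy, rfl⟩ := hq
    rw [← map_mul, ← map_inv, ← map_mul, ← map_mul, ← map_mul, mem_img F haL]
    have hu := u_mem_Az F
    refine ⟨(H0 F).mul_mem (conj_H0 F h9 h10 ((Az F).mul_mem hu (H0_le_Az F hh)) hy) hy, ?_⟩
    set u' : Az F := ⟨F.u, hu⟩
    set h' : Az F := ⟨h, H0_le_Az F hh⟩
    set y' : Az F := ⟨y, H0_le_Az F hy⟩
    show res F h9 h10 (u' * h' * y' * (u' * h')⁻¹ * y') *
      res F h9 h10 (u' * h' * y' * (u' * h')⁻¹ * y') = 1
    have := ten_flip ⟨_, rA hh⟩ ⟨_, rA hy⟩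
    rw [map_mul, map_mul, map_mul, map_inv, map_mul, res_u, mul_inv_rev,
      show (RS 10 h9)⁻¹ = RS 10 h9 from Equiv.swap_inv _ _, ← mul_assoc]
    exact this
  · -- centralisers
    intro q hq hqL x hx
    have hqC := img_H0_le F hq
    have h144 : q ^ 144 = 1 := by
      have h' : (⟨q, hqC⟩ : Subgroup.centralizer ({zb F} : Set (XX F ⧸ Subgroup.zpowers (aX F)))) ^
          Nat.card (Subgroup.centralizer ({zb F} : Set (XX F ⧸ Subgroup.zpowers (aX F)))) = 1 :=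
        pow_card_eq_one'
      rw [hM] at h'
      exact congrArg Subtype.val h'
    have h16 : (q ^ 16) ^ 3 = 1 := hnine S F _ (Subgroup.pow_mem _ hqC 16) (by rw [← pow_mul]; exact h144)
    have hne : q ^ 16 ≠ 1 := fun e => hqL (by
      have h1 := (img F (L0 F)).pow_mem (hcube q hq) 11
      rw [← pow_mul, show 3 * 11 = 16 * 2 + 1 from rfl, pow_succ, pow_mul, e, one_pow,
        one_mul] at h1
      exact h1)
    haveI : Fact (Nat.Prime 3) := ⟨Nat.prime_three⟩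
    exact hthree S F hC (q ^ 16) (Subgroup.pow_mem _ hqC 16) (orderOf_eq_prime h16 hne) x
      (hx.pow_right 16)
  · -- inverters
    intro q hq hqL
    obtain ⟨y, hy, rfl⟩ := hq
    have hτ : (⟨_, rA hy⟩ : alternatingGroup (R 10)) * ⟨_, rA hy⟩ ≠ 1 := fun e =>
      hqL ⟨y, ⟨hy, congrArg Subtype.val e⟩, rfl⟩
    obtain ⟨η, hη⟩ := (pf 10 h9 h10).gen _ hτ
    obtain ⟨g, hg, hgr⟩ := exists_res F h9 h10 (Perm.mem_alternatingGroup.1 η.2)
    set y' : Az F := ⟨y, H0_le_Az F hy⟩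
    have hk' : res F h9 h10 (g * y' * g⁻¹) = RC 10 h9 ∨ res F h9 h10 (g * y' * g⁻¹) = RC 10 h9 ^ 2 := by
      rw [map_mul, map_mul, map_inv, hgr]; exact hη
    have hkH : ((g * y' * g⁻¹ : Az F) : G) ∈ H0 F := conj_H0 F h9 h10 g.2 hy
    have hkK : ((g * y' * g⁻¹ : Az F) : G) ∈ K0 F := by
      rcases hk' with e | e
      · exact mem_K0_of_res F h9 h10 hkH (k := 1) (by rw [e, pow_one])
      · exact mem_K0_of_res F h9 h10 hkH e
    set gX : XX F := ⟨g, Az_le F g.2⟩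
    set k : XX F := gX * y * gX⁻¹ with hk
    have hkK' : (k : G) ∈ K0 F := hkK
    have hgC : qm F gX ∈ Subgroup.centralizer ({zb F} : Set (XX F ⧸ Subgroup.zpowers (aX F))) := by
      rw [centralizer_zb]; exact ⟨gX, g.2, rfl⟩
    have hgH : qm F gX ∈ img F (H0 F) := ⟨gX, hg, rfl⟩
    -- reduce to `k`
    have hred : qm F k = qm F gX * qm F y * (qm F gX)⁻¹ := by rw [hk, map_mul, map_mul, map_inv]
    refine Eq.trans (Nat.card_congr (Equiv.subtypeEquiv (MulAut.conj (qm F gX)).toEquiv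
      (q := fun v => v ∈ Subgroup.centralizer ({zb F} : Set (XX F ⧸ Subgroup.zpowers (aX F))) ∧
        v ∉ img F (H0 F) ∧ v * v = 1 ∧ v * qm F k * v⁻¹ = (qm F k)⁻¹) fun v => ?_)) ?_
    · show _ ↔ qm F gX * v * (qm F gX)⁻¹ ∈ _ ∧ _
      rw [hred]
      refine and_congr ?_ (and_congr (not_congr ?_) (and_congr ?_ ?_))
      · rw [Subgroup.mul_mem_cancel_right _ (inv_mem hgC), Subgroup.mul_mem_cancel_left _ hgC]
      · show _ ↔ qm F gX * v * (qm F gX)⁻¹ ∈ _
        rw [Subgroup.mul_mem_cancel_right _ (inv_mem hgH), Subgroup.mul_mem_cancel_left _ hgH]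
      · show _ ↔ qm F gX * v * (qm F gX)⁻¹ * (qm F gX * v * (qm F gX)⁻¹) = 1
        rw [show qm F gX * v * (qm F gX)⁻¹ * (qm F gX * v * (qm F gX)⁻¹) =
          qm F gX * (v * v) * (qm F gX)⁻¹ by group, conj_eq_one_iff]
      · show _ ↔ qm F gX * v * (qm F gX)⁻¹ * (qm F gX * qm F y * (qm F gX)⁻¹) *
          (qm F gX * v * (qm F gX)⁻¹)⁻¹ = (qm F gX * qm F y * (qm F gX)⁻¹)⁻¹
        rw [show qm F gX * v * (qm F gX)⁻¹ * (qm F gX * qm F y * (qm F gX)⁻¹) *
          (qm F gX * v * (qm F gX)⁻¹)⁻¹ = qm F gX * (v * qm F y * v⁻¹) * (qm F gX)⁻¹ by group,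
          show (qm F gX * qm F y * (qm F gX)⁻¹)⁻¹ = qm F gX * (qm F y)⁻¹ * (qm F gX)⁻¹ by group,
          mul_left_inj, mul_right_inj]
    have hK18 : Nat.card (img F (K0 F)) = 18 := by
      have := card_img F h9 h10 (((K0_le_H0 F).trans (H0_le_Az F)).trans (Az_le F)) (ga_mem_K0 F)
      rw [card_K0 F h9 h10] at this
      omega
    rw [← hK18]
    symm
    refine Nat.card_congr (Equiv.ofBijective (fun m => ⟨qm F (uX F) * m.1, ?_⟩) ⟨?_, ?_⟩)
    · obtain ⟨m, hm, e⟩ := m.2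
      rw [← e]
      obtain ⟨a1, a2⟩ := u_mul_inverts F hm hkK'
      refine ⟨?_, u_mul_notMem F h9 h10 (K0_le_H0 F hm), (u_mul_inverts F hm hm).1, a2⟩
      rw [centralizer_zb, ← map_mul]
      exact ⟨_, (Az F).mul_mem (u_mem_Az F) (H0_le_Az F (K0_le_H0 F hm)), rfl⟩
    · intro a b e
      exact Subtype.ext (mul_left_cancel (congrArg Subtype.val e))
    · rintro ⟨v, hv, hvH, -, hvk⟩
      obtain ⟨h, hh, rfl⟩ := exists_eq_u_mul F h9 h10 hv hvH
      suffices hhK : (h : G) ∈ K0 F from ⟨⟨qm F h, h, hhK, rfl⟩, rfl⟩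
      have hcomm : qm F h * qm F k = qm F k * qm F h := by
        have e := u_inverts F hkK'
        rw [mul_inv_rev, ← mul_assoc, ← e, mul_left_inj, mul_assoc (qm F (uX F)),
          mul_assoc (qm F (uX F)), mul_right_inj, mul_inv_eq_iff_eq_mul] at hvk
        exact hvk
      rw [← map_mul, ← map_mul] at hcomm
      obtain ⟨l, hl⟩ := (qm_eq F).1 hcomm.symm
      set h' : Az F := ⟨h, H0_le_Az F hh⟩
      set k'' : Az F := g * y' * g⁻¹
      set a' : Az F := ⟨ga F, H0_le_Az F haH⟩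
      have ha1 : res F h9 h10 a' = 1 := by
        refine Equiv.ext fun i => Subtype.ext ?_
        rw [res_apply]
        show D.p (ga F) i = i
        rw [p_ga]
        have hi := i.2
        by_contra hh'; have := ((pf 10 h9 h10).S_moved i.1).1 hh'; omega
      have he : h' * k'' = k'' * h' * a' ^ l := Subtype.ext (by simpa [k'', h', a', gX, hk, y'] using hl)
      have he' := congrArg (res F h9 h10) he
      rw [map_mul (res F h9 h10) h' k'', map_mul (res F h9 h10) (k'' * h') (a' ^ l), map_pow, ha1,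
        one_pow, mul_one, map_mul (res F h9 h10) k'' h'] at he'
      have hC3 : RC 10 (show 9 ≤ 10 by norm_num) ^ 3 = 1 := by decide +kernel
      have hcom : res F h9 h10 h' * RC 10 h9 = RC 10 h9 * res F h9 h10 h' := by
        rcases hk' with e | e <;> rw [e] at he'
        · exact he'
        · have h4 : Commute (res F h9 h10 h') ((RC 10 h9 ^ 2) ^ 2) :=
            (show Commute _ (RC 10 h9 ^ 2) from he').pow_right 2
          rw [← pow_mul, show 2 * 2 = 3 + 1 from rfl, pow_add, hC3, one_mul, pow_one] at h4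
          exact h4.eq
      rcases (pf 10 h9 h10).cent ⟨_, rA hh⟩ hcom with e | e | e <;>
        exact mem_K0_of_res F h9 h10 hh e

/-- Degree 9 and 10 are impossible if lifts of 3-cycles have centralisers in `C(z)`. -/
theorem small_false {G : Type u} [Group G] [Finite G] {z : G} {n : ℕ} [NeZero n] {D : DC z n}
    (S : Small D) (F : Frame D)
    (hC : ∀ x, Commute x z → x ^ 3 = 1 → (D.p x).cycleType = {3} → ∀ y, Commute y x → Commute y z) :
    False := by
  rcases (show n = 9 ∨ n = 10 by have := S.nine; have := S.ten; omega) with rfl | rfl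
  exacts [nine_false S F hC, ten_false S F hC]

end Cfsg.Agent.DoubleCoverQuot36
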