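import Cfsg.Agent.Lib.DoubleCover90Small
import Cfsg.Agent.Lib.FourFormula30

/-!
# Degree 9 and 10: the centraliser of `z` and of a product `a` of two 3-cycles
-/

set_option autoImplicit false

namespace Cfsg.Agent.DoubleCoverQuot36

open Equiv Equiv.Perm
open Cfsg.Agent.DoubleCover90

universe u

/-! ## Finite facts -/

/-- The points `≥ 6`. -/
abbrev R (n : ℕ) := {i : Fin n // 6 ≤ (i : ℕ)}

/-- The permutation `(6 7 8)` of `R n`. -/
def RC (n : ℕ) (h : 9 ≤ n) : Perm (R n) :=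
  swap ⟨⟨6, by omega⟩, le_refl 6⟩ ⟨⟨7, by omega⟩, show 6 ≤ 7 by omega⟩ *
    swap ⟨⟨7, by omega⟩, show 6 ≤ 7 by omega⟩ ⟨⟨8, by omega⟩, show 6 ≤ 8 by omega⟩

/-- The permutation `(6 7)` of `R n`. -/
def RS (n : ℕ) (h : 9 ≤ n) : Perm (R n) :=
  swap ⟨⟨6, by omega⟩, le_refl 6⟩ ⟨⟨7, by omega⟩, show 6 ≤ 7 by omega⟩

structure PF (n : ℕ) [NeZero n] (h : 9 ≤ n) : Prop where
  S_moved : ∀ i : Fin n, (C1 n * C2 n) i ≠ i ↔ (i : ℕ) < 6
  C1_moved : ∀ i : Fin n, C1 n i ≠ i ↔ (i : ℕ) < 3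
  S_one : ∀ i : Fin n, (i : ℕ) < 3 → (C1 n * C2 n) i = C1 n i
  S_pres : ∀ (i : Fin n) (m : Fin 3), ((((C1 n * C2 n) ^ (m : ℕ)) i : Fin n) : ℕ) < 3 ↔ (i : ℕ) < 3
  orbit1 : ∀ i : Fin n, (i : ℕ) < 3 → ∃ m : Fin 3, i = (C1 n ^ (m : ℕ)) 0 ∧
    i = ((C1 n * C2 n) ^ (m : ℕ)) 0
  orbit2 : ∀ i : Fin n, 3 ≤ (i : ℕ) → (i : ℕ) < 6 → ∃ m : Fin 3, i = (C2 n ^ (m : ℕ)) 3
  C2_moved : ∀ i : Fin n, C2 n i ≠ i ↔ (3 ≤ (i : ℕ) ∧ (i : ℕ) < 6)
  zero : ((0 : Fin n) : ℕ) = 0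
  three : ((3 : Fin n) : ℕ) = 3
  U_pres : ∀ i : Fin n, 6 ≤ ((U n i : Fin n) : ℕ) ↔ 6 ≤ (i : ℕ)
  U_flip : ∀ i : Fin n, 3 ≤ (i : ℕ) → (i : ℕ) < 6 → ((U n i : Fin n) : ℕ) < 3
  U_R : ∀ i : R n, U n i = (RS n h i : Fin n)
  C3_R : ∀ i : R n, C3 n i = (RC n h i : Fin n)
  inj : ∀ i j k i' j' k' : Fin 3,
    C1 n ^ (i : ℕ) * C2 n ^ (j : ℕ) * C3 n ^ (k : ℕ) =
      C1 n ^ (i' : ℕ) * C2 n ^ (j' : ℕ) * C3 n ^ (k' : ℕ) → i = i' ∧ j = j' ∧ k = k'
  sign_S : Perm.sign (RS n h) = -1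
  gen : ∀ τ : alternatingGroup (R n), τ * τ ≠ 1 → ∃ η : alternatingGroup (R n),
    (η * τ * η⁻¹ : Perm (R n)) = RC n h ∨ (η * τ * η⁻¹ : Perm (R n)) = RC n h ^ 2
  cent : ∀ τ : alternatingGroup (R n), (τ : Perm (R n)) * RC n h = RC n h * τ →
    (τ : Perm (R n)) = RC n h ^ 0 ∨ (τ : Perm (R n)) = RC n h ^ 1 ∨ (τ : Perm (R n)) = RC n h ^ 2

theorem pf_nine : PF 9 le_rfl := by
  refine ⟨?_, ?_, ?_, ?_, ?_, ?_, ?_, ?_, ?_, ?_, ?_, ?_, ?_, ?_, ?_, ?_, ?_⟩ <;> decide +kernel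

theorem pf_ten : PF 10 (by norm_num) := by
  refine ⟨?_, ?_, ?_, ?_, ?_, ?_, ?_, ?_, ?_, ?_, ?_, ?_, ?_, ?_, ?_, ?_, ?_⟩ <;> decide +kernel

theorem pf (n : ℕ) [hne : NeZero n] (h9 : 9 ≤ n) (h10 : n ≤ 10) : PF n h9 := by
  rcases (show n = 9 ∨ n = 10 by omega) with rfl | rfl <;>
    obtain rfl : hne = ⟨by norm_num⟩ := Subsingleton.elim _ _
  exacts [pf_nine, pf_ten]

theorem nine_alt : ∀ τ : alternatingGroup (R 9), (τ : Perm (R 9)) = RC 9 le_rfl ^ 0 ∨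
    (τ : Perm (R 9)) = RC 9 le_rfl ^ 1 ∨ (τ : Perm (R 9)) = RC 9 le_rfl ^ 2 := by
  decide +kernel

theorem ten_klein_mul : ∀ σ τ : alternatingGroup (R 10),
    σ * σ = 1 → τ * τ = 1 → σ * τ * (σ * τ) = 1 := by
  decide +kernel

theorem ten_flip : ∀ σ τ : alternatingGroup (R 10),
    (RS 10 (by norm_num) * σ * τ * (σ : Perm (R 10))⁻¹ * RS 10 (by norm_num) * τ) *
      (RS 10 (by norm_num) * σ * τ * (σ : Perm (R 10))⁻¹ * RS 10 (by norm_num) * τ) = 1 := by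
  decide +kernel

theorem ten_klein_card :
    (Finset.univ.filter fun τ : alternatingGroup (R 10) => τ * τ = 1).card = 4 := by
  decide +kernel

theorem alt_card_nine : Fintype.card (alternatingGroup (R 9)) = 3 := by decide +kernel

theorem alt_card_ten : Fintype.card (alternatingGroup (R 10)) = 12 := by decide +kernel

theorem exps : ∀ i j k : Fin 3, (i ≠ j ∨ k ≠ 0) → ∃ r s : Fin 3, r ≠ 0 ∧
    ((i = r + s ∧ j = s ∧ k = 0) ∨ (i = s ∧ j = s ∧ k = r) ∨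
      (i = r + s ∧ j = 2 * r + s ∧ k = r) ∨ (i = r + s ∧ j = 2 * r + s ∧ k = 2 * r)) := by
  decide

/-! ## The group `P0` -/

variable {G : Type u} [Group G] {z : G} {n : ℕ} [NeZero n] {D : DC z n}

/-- The element `c1 ^ i * c2 ^ j * c3 ^ k`. -/
def w (F : Frame D) (v : Fin 3 × Fin 3 × Fin 3) : G :=
  F.c1 ^ (v.1 : ℕ) * F.c2 ^ (v.2.1 : ℕ) * F.c3 ^ (v.2.2 : ℕ)

/-- The element `c1 * c2`. -/
def ga (F : Frame D) : G := F.c1 * F.c2

theorem pow_fin {c : G} (hc : c ^ 3 = 1) (i j : Fin 3) :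
    c ^ ((i + j : Fin 3) : ℕ) = c ^ (i : ℕ) * c ^ (j : ℕ) := by
  rw [← pow_add, Fin.val_add]
  conv_rhs => rw [← Nat.mod_add_div ((i : ℕ) + j) 3, pow_add, pow_mul, hc, one_pow, mul_one]

theorem w_add (F : Frame D) (v v' : Fin 3 × Fin 3 × Fin 3) :
    w F (v + v') = w F v * w F v' := by
  obtain ⟨i, j, k⟩ := v
  obtain ⟨i', j', k'⟩ := v'
  simp only [w, Prod.mk_add_mk, pow_fin F.c1_three, pow_fin F.c2_three, pow_fin F.c3_three]
  have h21 : Commute (F.c2 ^ (j : ℕ)) (F.c1 ^ (i' : ℕ)) := (F.comm12.symm.pow_pow _ _)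
  have h31 : Commute (F.c3 ^ (k : ℕ)) (F.c1 ^ (i' : ℕ)) := (F.comm13.symm.pow_pow _ _)
  have h32 : Commute (F.c3 ^ (k : ℕ)) (F.c2 ^ (j' : ℕ)) := (F.comm23.symm.pow_pow _ _)
  calc F.c1 ^ (i : ℕ) * F.c1 ^ (i' : ℕ) * (F.c2 ^ (j : ℕ) * F.c2 ^ (j' : ℕ)) *
        (F.c3 ^ (k : ℕ) * F.c3 ^ (k' : ℕ))
      = F.c1 ^ (i : ℕ) * (F.c1 ^ (i' : ℕ) * F.c2 ^ (j : ℕ)) *
          (F.c2 ^ (j' : ℕ) * F.c3 ^ (k : ℕ)) * F.c3 ^ (k' : ℕ) := by group
    _ = F.c1 ^ (i : ℕ) * (F.c2 ^ (j : ℕ) * F.c1 ^ (i' : ℕ)) *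
          (F.c3 ^ (k : ℕ) * F.c2 ^ (j' : ℕ)) * F.c3 ^ (k' : ℕ) := by rw [h21.eq, h32.eq]
    _ = F.c1 ^ (i : ℕ) * F.c2 ^ (j : ℕ) * (F.c1 ^ (i' : ℕ) * F.c3 ^ (k : ℕ)) *
          F.c2 ^ (j' : ℕ) * F.c3 ^ (k' : ℕ) := by group
    _ = F.c1 ^ (i : ℕ) * F.c2 ^ (j : ℕ) * (F.c3 ^ (k : ℕ) * F.c1 ^ (i' : ℕ)) *
          F.c2 ^ (j' : ℕ) * F.c3 ^ (k' : ℕ) := by rw [h31.eq]
    _ = _ := by group

theorem w_zero (F : Frame D) : w F 0 = 1 := by simp [w]

theorem w_commute (F : Frame D) (v v' : Fin 3 × Fin 3 × Fin 3) : Commute (w F v) (w F v') := by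
  rw [Commute, SemiconjBy, ← w_add, ← w_add, add_comm]

theorem w_z (F : Frame D) (v : Fin 3 × Fin 3 × Fin 3) : Commute (w F v) z :=
  ((F.c1z.pow_left _).mul_left (F.c2z.pow_left _)).mul_left (F.c3z.pow_left _)

theorem w_c1 (F : Frame D) : w F (1, 0, 0) = F.c1 := by simp [w]
theorem w_c2 (F : Frame D) : w F (0, 1, 0) = F.c2 := by simp [w]
theorem w_c3 (F : Frame D) : w F (0, 0, 1) = F.c3 := by simp [w]
theorem w_a (F : Frame D) : w F (1, 1, 0) = ga F := by simp [w, ga]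

theorem w_a_pow (F : Frame D) (s : Fin 3) : w F (s, s, 0) = ga F ^ (s : ℕ) := by
  simp [w, ga, F.comm12.mul_pow]

theorem w_three (F : Frame D) (v : Fin 3 × Fin 3 × Fin 3) : w F v ^ 3 = 1 := by
  rw [pow_succ, pow_two, ← w_add, ← w_add, ← w_zero F]
  congr 1
  revert v; decide

theorem p_w (F : Frame D) (v : Fin 3 × Fin 3 × Fin 3) :
    D.p (w F v) = C1 n ^ (v.1 : ℕ) * C2 n ^ (v.2.1 : ℕ) * C3 n ^ (v.2.2 : ℕ) := by
  rw [w, D.p_mul ((F.c1z.pow_left _).mul_left (F.c2z.pow_left _)) (F.c3z.pow_left _),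
    D.p_mul (F.c1z.pow_left _) (F.c2z.pow_left _), D.p_pow F.c1z, D.p_pow F.c2z, D.p_pow F.c3z,
    F.p1, F.p2, F.p3]

theorem w_injective (F : Frame D) (h9 : 9 ≤ n) (h10 : n ≤ 10) :
    Function.Injective (w F) := fun v v' h => by
  have h' := congrArg D.p h
  rw [p_w, p_w] at h'
  obtain ⟨e1, e2, e3⟩ := (pf n h9 h10).inj _ _ _ _ _ _ h'
  exact Prod.ext e1 (Prod.ext e2 e3)

/-- The group generated by `c1`, `c2`, `c3`. -/
def P0 (F : Frame D) : Subgroup G where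
  carrier := Set.range (w F)
  one_mem' := ⟨0, w_zero F⟩
  mul_mem' := by rintro _ _ ⟨v, rfl⟩ ⟨v', rfl⟩; exact ⟨v + v', w_add F v v'⟩
  inv_mem' := by
    rintro _ ⟨v, rfl⟩
    exact ⟨-v, eq_inv_of_mul_eq_one_left (by rw [← w_add, neg_add_cancel, w_zero])⟩

theorem card_P0 (F : Frame D) (h9 : 9 ≤ n) (h10 : n ≤ 10) : Nat.card (P0 F) = 27 := by
  refine (Nat.card_congr (Equiv.ofInjective _ (w_injective F h9 h10)).symm).trans ?_
  simp

/-- `P0 × ⟨z⟩`. -/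
def K0 (F : Frame D) : Subgroup G where
  carrier := {y | ∃ v, y = w F v ∨ y = w F v * z}
  one_mem' := ⟨0, Or.inl (w_zero F).symm⟩
  mul_mem' := by
    rintro _ _ ⟨v, rfl | rfl⟩ ⟨v', rfl | rfl⟩
    · exact ⟨v + v', Or.inl (w_add F v v').symm⟩
    · exact ⟨v + v', Or.inr (by rw [w_add, mul_assoc])⟩
    · exact ⟨v + v', Or.inr (by rw [w_add, mul_assoc, ← (w_z F v').eq, mul_assoc])⟩
    · refine ⟨v + v', Or.inl ?_⟩
      rw [w_add, ← mul_assoc, mul_assoc _ z (w F v'), ← (w_z F v').eq, ← mul_assoc, mul_assoc,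
        D.sq, mul_one]
  inv_mem' := by
    rintro _ ⟨v, rfl | rfl⟩
    · exact ⟨-v, Or.inl (inv_eq_of_mul_eq_one_right (by rw [← w_add, add_neg_cancel, w_zero]))⟩
    · refine ⟨-v, Or.inr (inv_eq_of_mul_eq_one_right ?_)⟩
      calc w F v * z * (w F (-v) * z) = w F v * (z * w F (-v)) * z := by group
        _ = w F v * w F (-v) * (z * z) := by rw [← (w_z F (-v)).eq]; group
        _ = 1 := by rw [← w_add, add_neg_cancel, w_zero, D.sq, one_mul]

theorem K0_comm (F : Frame D) {x y : G} (hx : x ∈ K0 F) (hy : y ∈ K0 F) : Commute x y := by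
  obtain ⟨v, rfl | rfl⟩ := hx <;> obtain ⟨v', rfl | rfl⟩ := hy
  · exact w_commute F v v'
  · exact (w_commute F v v').mul_right (w_z F v)
  · exact (w_commute F v v').mul_left (w_z F v').symm
  · exact ((w_commute F v v').mul_left (w_z F v').symm).mul_right
      ((w_z F v).mul_left (Commute.refl z))

theorem w_mem_K0 (F : Frame D) (v : Fin 3 × Fin 3 × Fin 3) : w F v ∈ K0 F := ⟨v, Or.inl rfl⟩

theorem c3_mem_K0 (F : Frame D) : F.c3 ∈ K0 F := by
  have h := w_mem_K0 F (0, 0, 1)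
  rwa [w_c3] at h

theorem ga_z (F : Frame D) : Commute (ga F) z := F.c1z.mul_left F.c2z

theorem p_ga (F : Frame D) : D.p (ga F) = C1 n * C2 n := by
  rw [ga, D.p_mul F.c1z F.c2z, F.p1, F.p2]

theorem z_mem_K0 (F : Frame D) : z ∈ K0 F := ⟨0, Or.inr (by rw [w_zero, one_mul])⟩

theorem card_K0 (F : Frame D) (h9 : 9 ≤ n) (h10 : n ≤ 10) : Nat.card (K0 F) = 54 := by
  let f : (Fin 3 × Fin 3 × Fin 3) × Bool → K0 F := fun p =>
    ⟨w F p.1 * bif p.2 then z else 1, by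
      cases p.2
      · exact ⟨p.1, Or.inl (mul_one _)⟩
      · exact ⟨p.1, Or.inr rfl⟩⟩
  have hf : Function.Bijective f := by
    constructor
    · rintro ⟨v, b⟩ ⟨v', b'⟩ h
      have h' : w F v * (bif b then z else 1) = w F v' * (bif b' then z else 1) :=
        congrArg Subtype.val h
      have hp := congrArg D.p h'
      have hb : ∀ c : Bool, Commute (bif c then z else 1) z ∧
          D.p (bif c then z else 1) = 1 := fun c => by
        cases c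
        exacts [⟨Commute.one_left z, D.p_one⟩, ⟨Commute.refl z, D.p_z⟩]
      rw [D.p_mul (w_z F v) (hb b).1, D.p_mul (w_z F v') (hb b').1, (hb b).2, (hb b').2, mul_one,
        mul_one, p_w, p_w] at hp
      obtain ⟨e1, e2, e3⟩ := (pf n h9 h10).inj _ _ _ _ _ _ hp
      obtain rfl : v = v' := Prod.ext e1 (Prod.ext e2 e3)
      have h2 := mul_left_cancel h'
      cases b <;> cases b'
      · rfl
      · exact absurd h2.symm D.ne
      · exact absurd h2 D.ne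
      · rfl
    · rintro ⟨_, v, rfl | rfl⟩
      · exact ⟨(v, false), Subtype.ext (mul_one _)⟩
      · exact ⟨(v, true), rfl⟩
  rw [← Nat.card_congr (Equiv.ofBijective f hf)]
  simp

/-! ## The subgroups `H0` and `Az` -/

/-- The centraliser of `z`, `c1` and `c2`. -/
def H0 (F : Frame D) : Subgroup G :=
  Subgroup.centralizer ({z} : Set G) ⊓ Subgroup.centralizer ({F.c1} : Set G) ⊓
    Subgroup.centralizer ({F.c2} : Set G)

/-- The centraliser of `z` and `a`. -/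
def Az (F : Frame D) : Subgroup G :=
  Subgroup.centralizer ({z} : Set G) ⊓ Subgroup.centralizer ({ga F} : Set G)

theorem mem_H0 (F : Frame D) {y : G} :
    y ∈ H0 F ↔ Commute y z ∧ Commute y F.c1 ∧ Commute y F.c2 := by
  simp [H0, Subgroup.mem_inf, Subgroup.mem_centralizer_singleton_iff, commute_iff_eq, and_assoc]

theorem mem_Az (F : Frame D) {y : G} : y ∈ Az F ↔ Commute y z ∧ Commute y (ga F) := by
  simp [Az, Subgroup.mem_inf, Subgroup.mem_centralizer_singleton_iff, commute_iff_eq]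

theorem H0_le_Az (F : Frame D) : H0 F ≤ Az F := fun y hy => by
  obtain ⟨h1, h2, h3⟩ := (mem_H0 F).1 hy
  exact (mem_Az F).2 ⟨h1, h2.mul_right h3⟩

theorem K0_le_H0 (F : Frame D) : K0 F ≤ H0 F := fun y hy =>
  (mem_H0 F).2 ⟨K0_comm F hy (z_mem_K0 F), w_c1 F ▸ K0_comm F hy (w_mem_K0 F _),
    w_c2 F ▸ K0_comm F hy (w_mem_K0 F _)⟩

theorem P0_le_K0 (F : Frame D) : P0 F ≤ K0 F := by
  rintro _ ⟨v, rfl⟩; exact w_mem_K0 F v

theorem u_sq (F : Frame D) : F.u * F.u = 1 := mul_self_of_two F.u_two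

theorem u_inv (F : Frame D) : F.u⁻¹ = F.u := inv_eq_of_mul_eq_one_right (u_sq F)

theorem u_a (F : Frame D) : F.u * ga F * F.u⁻¹ = ga F := by
  rw [ga, show F.u * (F.c1 * F.c2) * F.u⁻¹ = (F.u * F.c1 * F.u⁻¹) * (F.u * F.c2 * F.u⁻¹) by group,
    F.u1, F.u2, F.comm12.eq]

theorem u_mem_Az (F : Frame D) : F.u ∈ Az F :=
  (mem_Az F).2 ⟨F.uz, mul_inv_eq_iff_eq_mul.1 (u_a F)⟩

theorem u_notMem_H0 (F : Frame D) (h9 : 9 ≤ n) (h10 : n ≤ 10) : F.u ∉ H0 F := fun h => by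
  have h1 := ((mem_H0 F).1 h).2.1
  have e := F.u1
  rw [h1.eq, mul_inv_cancel_right, ← w_c1 F, ← w_c2 F] at e
  exact absurd (w_injective F h9 h10 e) (by decide)

theorem dichotomy (F : Frame D) (h9 : 9 ≤ n) (h10 : n ≤ 10) {y : G} (hy : y ∈ Az F) :
    y ∈ H0 F ∨ F.u * y ∈ H0 F := by
  have P := pf n h9 h10
  have key : ∀ x : G, x ∈ Az F → ((D.p x 0 : Fin n) : ℕ) < 3 → x ∈ H0 F := by
    intro x hx h0
    obtain ⟨hxz, hxa⟩ := (mem_Az F).1 hx
    have hSc : ∀ i, D.p x ((C1 n * C2 n) i) = (C1 n * C2 n) (D.p x i) := fun i => by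
      have e := congrArg D.p hxa.eq
      rw [D.p_mul hxz (ga_z F), D.p_mul (ga_z F) hxz, p_ga] at e
      exact Equiv.congr_fun e i
    set σ := D.p x with hσ
    have hpow : ∀ (m : ℕ) i, σ (((C1 n * C2 n) ^ m) i) = ((C1 n * C2 n) ^ m) (σ i) := by
      intro m
      induction m with
      | zero => intro i; rfl
      | succ m ih => intro i; rw [pow_succ', Perm.mul_apply, hSc, ih, ← Perm.mul_apply]
    have hA : ∀ i : Fin n, (i : ℕ) < 3 → ((σ i : Fin n) : ℕ) < 3 := by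
      intro i hi
      obtain ⟨m, -, rfl⟩ := P.orbit1 i hi
      rw [hpow]
      exact (P.S_pres _ _).2 h0
    have hB : ∀ i : Fin n, ((σ i : Fin n) : ℕ) < 3 → (i : ℕ) < 3 := by
      intro i hi
      obtain ⟨m, -, hm⟩ := P.orbit1 _ hi
      obtain ⟨m', -, hm'⟩ := P.orbit1 _ h0
      have h00 : ((C1 n * C2 n) ^ (3 - (m' : ℕ))) (σ 0) = 0 := by
        rw [hm', ← Perm.mul_apply, ← pow_add, Nat.sub_add_cancel m'.2.le]
        have h3 : (C1 n * C2 n) ^ 3 = 1 := by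
          have := congrArg D.p (show ga F ^ 3 = 1 by rw [← w_a, w_three])
          rwa [D.p_pow (ga_z F), D.p_one, p_ga] at this
        rw [h3]; rfl
      have hm2 : σ i = σ (((C1 n * C2 n) ^ ((m : ℕ) + (3 - (m' : ℕ)))) 0) := by
        rw [hpow, pow_add, Perm.mul_apply, h00]
        exact hm
      rw [σ.injective hm2]
      have := (P.S_pres (0 : Fin n) m).2 (by rw [P.zero]; omega)
      obtain ⟨q, -, hq⟩ := P.orbit1 _ this
      have hlt : ∀ k : ℕ, ((((C1 n * C2 n) ^ k) 0 : Fin n) : ℕ) < 3 := by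
        intro k
        induction k with
        | zero => rw [pow_zero, Perm.one_apply, P.zero]; omega
        | succ k ih =>
          rw [pow_succ', Perm.mul_apply]
          have := (P.S_pres _ (1 : Fin 3)).2 ih
          simpa using this
      exact hlt _
    have hC1 : ∀ i, σ (C1 n i) = C1 n (σ i) := by
      intro i
      by_cases hi : (i : ℕ) < 3
      · rw [← P.S_one i hi, hSc, P.S_one _ (hA i hi)]
      · have h1 : C1 n i = i := by by_contra h; exact hi ((P.C1_moved i).1 h)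
        have h2 : C1 n (σ i) = σ i := by
          by_contra h; exact hi (hB i ((P.C1_moved _).1 h))
        rw [h1, h2]
    have hx1 : Commute x F.c1 := D.comm_three hxz F.c1z (by
      rw [F.p1]; exact Equiv.ext hC1) (by rw [← D.p_pow F.c1z, F.c1_three, D.p_one])
    refine (mem_H0 F).2 ⟨hxz, hx1, ?_⟩
    have e : F.c2 = F.c1⁻¹ * ga F := by rw [ga]; group
    rw [e]
    exact hx1.inv_right.mul_right hxa
  by_cases h0 : ((D.p y 0 : Fin n) : ℕ) < 3
  · exact Or.inl (key y hy h0)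
  · refine Or.inr (key _ ((Az F).mul_mem (u_mem_Az F) hy) ?_)
    obtain ⟨hyz, hya⟩ := (mem_Az F).1 hy
    rw [D.p_mul F.uz hyz, F.pu, Perm.mul_apply]
    refine P.U_flip _ (Nat.not_lt.1 h0) ((P.S_moved _).1 fun e => ?_)
    have e' := congrArg D.p hya.eq
    rw [D.p_mul hyz (ga_z F), D.p_mul (ga_z F) hyz, p_ga] at e'
    have e'' := Equiv.congr_fun e' 0
    rw [Perm.mul_apply, show ((C1 n * C2 n) * D.p y) 0 = (C1 n * C2 n) (D.p y 0) from rfl, e] at e''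
    exact (P.S_moved 0).2 (by rw [P.zero]; omega) ((D.p y).injective e'')

theorem card_Az (F : Frame D) (h9 : 9 ≤ n) (h10 : n ≤ 10) :
    Nat.card (Az F) = 2 * Nat.card (H0 F) := by
  let f : Bool × H0 F → Az F := fun p =>
    ⟨(bif p.1 then F.u else 1) * p.2, by
      refine (Az F).mul_mem ?_ (H0_le_Az F p.2.2)
      cases p.1
      exacts [(Az F).one_mem, u_mem_Az F]⟩
  have hf : Function.Bijective f := by
    constructor
    · rintro ⟨b, x⟩ ⟨b', x'⟩ h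
      have h' : (bif b then F.u else 1) * (x : G) = (bif b' then F.u else 1) * (x' : G) :=
        congrArg Subtype.val h
      cases b <;> cases b'
      · rw [Subtype.ext (mul_left_cancel h')]
      · exfalso
        apply u_notMem_H0 F h9 h10
        simp only [cond_false, cond_true, one_mul] at h'
        rw [show F.u = (x : G) * (x' : G)⁻¹ by rw [h']; group]
        exact (H0 F).mul_mem x.2 ((H0 F).inv_mem x'.2)
      · exfalso
        apply u_notMem_H0 F h9 h10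
        simp only [cond_false, cond_true, one_mul] at h'
        rw [show F.u = (x' : G) * (x : G)⁻¹ by rw [← h']; group]
        exact (H0 F).mul_mem x'.2 ((H0 F).inv_mem x.2)
      · rw [Subtype.ext (mul_left_cancel h')]
    · rintro ⟨y, hy⟩
      rcases dichotomy F h9 h10 hy with h | h
      · exact ⟨(false, ⟨y, h⟩), Subtype.ext (one_mul y)⟩
      · refine ⟨(true, ⟨_, h⟩), Subtype.ext ?_⟩
        show F.u * (F.u * y) = y
        rw [← mul_assoc, u_sq, one_mul]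
  rw [← Nat.card_congr (Equiv.ofBijective f hf), Nat.card_prod]
  simp

/-! ## The restriction to the points `≥ 6` -/

theorem pres6 (F : Frame D) (h9 : 9 ≤ n) (h10 : n ≤ 10) {y : G} (hy : y ∈ Az F) (i : Fin n) :
    6 ≤ ((D.p y i : Fin n) : ℕ) ↔ 6 ≤ (i : ℕ) := by
  have P := pf n h9 h10
  obtain ⟨hyz, hya⟩ := (mem_Az F).1 hy
  have e := congrArg D.p hya.eq
  rw [D.p_mul hyz (ga_z F), D.p_mul (ga_z F) hyz, p_ga] at e
  have e' : D.p y ((C1 n * C2 n) i) = (C1 n * C2 n) (D.p y i) := Equiv.congr_fun e i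
  rw [← Nat.not_lt, ← Nat.not_lt, not_iff_not, ← P.S_moved, ← P.S_moved, Ne, Ne, ← e',
    (D.p y).injective.eq_iff]

/-- The action of `Az` on the points `≥ 6`. -/
noncomputable def res (F : Frame D) (h9 : 9 ≤ n) (h10 : n ≤ 10) : Az F →* Perm (R n) where
  toFun y := (D.p y).subtypePerm fun i => pres6 F h9 h10 y.2 i
  map_one' := by
    refine Equiv.ext fun i => Subtype.ext ?_
    show D.p ((1 : Az F) : G) i = i
    rw [OneMemClass.coe_one, D.p_one]; rfl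
  map_mul' x y := by
    refine Equiv.ext fun i => Subtype.ext ?_
    show D.p ((x * y : Az F) : G) i = D.p x (D.p y i)
    rw [Subgroup.coe_mul, D.p_mul ((mem_Az F).1 x.2).1 ((mem_Az F).1 y.2).1]; rfl

variable (F : Frame D) (h9 : 9 ≤ n) (h10 : n ≤ 10)

theorem res_apply (y : Az F) (i : R n) : (res F h9 h10 y i : Fin n) = D.p y i := rfl

theorem res_c3 :
    res F h9 h10 ⟨F.c3, H0_le_Az F (K0_le_H0 F (c3_mem_K0 F))⟩ = RC n h9 :=
  Equiv.ext fun i => Subtype.ext (by rw [res_apply, F.p3]; exact (pf n h9 h10).C3_R i)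

theorem res_u : res F h9 h10 ⟨F.u, u_mem_Az F⟩ = RS n h9 :=
  Equiv.ext fun i => Subtype.ext (by rw [res_apply, F.pu]; exact (pf n h9 h10).U_R i)

include h9 h10 in
/-- Permutations commuting with `C1`, `C2` and fixing the other points. -/
theorem split {ρ : Perm (Fin n)} (h1 : ∀ i, ρ (C1 n i) = C1 n (ρ i))
    (h2 : ∀ i, ρ (C2 n i) = C2 n (ρ i)) (hR : ∀ i : Fin n, 6 ≤ (i : ℕ) → ρ i = i) :
    ∃ i j : Fin 3, ρ = C1 n ^ (i : ℕ) * C2 n ^ (j : ℕ) := by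
  have P := pf n h9 h10
  have g1 : ((ρ 0 : Fin n) : ℕ) < 3 := by
    rw [← P.C1_moved, ← h1, Ne, ρ.injective.eq_iff]
    exact (P.C1_moved 0).2 (by rw [P.zero]; omega)
  have g2 : 3 ≤ ((ρ 3 : Fin n) : ℕ) ∧ ((ρ 3 : Fin n) : ℕ) < 6 := by
    rw [← P.C2_moved, ← h2, Ne, ρ.injective.eq_iff]
    exact (P.C2_moved 3).2 (by rw [P.three]; omega)
  obtain ⟨i, hi, -⟩ := P.orbit1 _ g1
  obtain ⟨j, hj⟩ := P.orbit2 _ g2.1 g2.2
  refine ⟨i, j, Equiv.ext fun k => ?_⟩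
  have p1 : ∀ (m : ℕ) x, ρ ((C1 n ^ m) x) = (C1 n ^ m) (ρ x) := by
    intro m
    induction m with
    | zero => intro x; rfl
    | succ m ih => intro x; rw [pow_succ', Perm.mul_apply, h1, ih, ← Perm.mul_apply]
  have p2 : ∀ (m : ℕ) x, ρ ((C2 n ^ m) x) = (C2 n ^ m) (ρ x) := by
    intro m
    induction m with
    | zero => intro x; rfl
    | succ m ih => intro x; rw [pow_succ', Perm.mul_apply, h2, ih, ← Perm.mul_apply]
  have f1 : ∀ x : Fin n, ¬ (x : ℕ) < 3 → ∀ m : ℕ, (C1 n ^ m) x = x := fun x hx m =>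
    Perm.pow_apply_eq_self_of_apply_eq_self (by by_contra h; exact hx ((P.C1_moved x).1 h)) m
  have f2 : ∀ x : Fin n, ¬ (3 ≤ (x : ℕ) ∧ (x : ℕ) < 6) → ∀ m : ℕ, (C2 n ^ m) x = x := fun x hx m =>
    Perm.pow_apply_eq_self_of_apply_eq_self (by by_contra h; exact hx ((P.C2_moved x).1 h)) m
  rw [Perm.mul_apply]
  by_cases hk1 : (k : ℕ) < 3
  · rw [f2 k (by omega)]
    obtain ⟨m, hm, -⟩ := P.orbit1 k hk1
    rw [hm, p1, hi, ← Perm.mul_apply, ← Perm.mul_apply, ← pow_add, ← pow_add, add_comm]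
  by_cases hk2 : (k : ℕ) < 6
  · obtain ⟨m, hm⟩ := P.orbit2 k (by omega) hk2
    have e : ρ k = (C2 n ^ (j : ℕ)) k := by
      rw [hm, p2, hj, ← Perm.mul_apply, ← Perm.mul_apply, ← pow_add, ← pow_add, add_comm]
    rw [e]
    refine (f1 _ ?_ _).symm
    have hmv := (P.C2_moved k).2 ⟨by omega, hk2⟩
    have : C2 n ((C2 n ^ (j : ℕ)) k) ≠ (C2 n ^ (j : ℕ)) k := by
      rw [← Perm.mul_apply, ← pow_succ', pow_succ, Perm.mul_apply]
      exact fun e => hmv ((C2 n ^ (j : ℕ)).injective e)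
    have := (P.C2_moved _).1 this
    omega
  · rw [hR k (by omega), f2 k (by omega), f1 k hk1]

theorem ker_res {y : Az F} (hy : (y : G) ∈ H0 F) (h : res F h9 h10 y = 1) :
    ∃ i j : Fin 3, (y : G) = w F (i, j, 0) ∨ (y : G) = w F (i, j, 0) * z := by
  obtain ⟨hyz, hy1, hy2⟩ := (mem_H0 F).1 hy
  have e1 := congrArg D.p hy1.eq
  have e2 := congrArg D.p hy2.eq
  rw [D.p_mul hyz F.c1z, D.p_mul F.c1z hyz, F.p1] at e1
  rw [D.p_mul hyz F.c2z, D.p_mul F.c2z hyz, F.p2] at e2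
  obtain ⟨i, j, hij⟩ := split h9 h10 (fun x => Equiv.congr_fun e1 x) (fun x => Equiv.congr_fun e2 x)
    (fun x hx => by
      have := congrArg (fun q : Perm (R n) => (q ⟨x, hx⟩ : Fin n)) h
      simpa [res_apply] using this)
  exact ⟨i, j, D.eq_or_mul hyz (w_z F _) (by rw [hij, p_w]; simp)⟩

theorem exists_res {τ : Perm (R n)} (hτ : Perm.sign τ = 1) :
    ∃ y : Az F, (y : G) ∈ H0 F ∧ res F h9 h10 y = τ := by
  have P := pf n h9 h10
  obtain ⟨y, hyz, hy⟩ := D.exists_lift (σ := Perm.ofSubtype τ) (by rw [Perm.sign_ofSubtype, hτ])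
  have hc : ∀ {c : G}, Commute c z → c ^ 3 = 1 → (∀ i : Fin n, 6 ≤ (i : ℕ) → D.p c i = i) →
      Commute y c := fun {c} hcz hc3 hfix => D.comm_three hyz hcz (by
    rw [hy]
    refine (Perm.Disjoint.commute fun i => ?_).eq
    by_cases hi : 6 ≤ (i : ℕ)
    · exact Or.inr (hfix i hi)
    · exact Or.inl (Perm.ofSubtype_apply_of_not_mem τ hi))
    (by rw [← D.p_pow hcz, hc3, D.p_one])
  have hy0 : y ∈ H0 F := (mem_H0 F).2 ⟨hyz,
    hc F.c1z F.c1_three (fun i hi => by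
      rw [F.p1]; by_contra h; have := (P.C1_moved i).1 h; omega),
    hc F.c2z F.c2_three (fun i hi => by
      rw [F.p2]; by_contra h; have := (P.C2_moved i).1 h; omega)⟩
  refine ⟨⟨y, H0_le_Az F hy0⟩, hy0, Equiv.ext fun i => Subtype.ext ?_⟩
  rw [res_apply]
  show D.p y i = _
  rw [hy, Perm.ofSubtype_apply_coe]

theorem res_even {y : Az F} (hy : (y : G) ∈ H0 F) : Perm.sign (res F h9 h10 y) = 1 := by
  have P := pf n h9 h10
  set τ := res F h9 h10 y with hτ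
  obtain ⟨hyz, hy1, hy2⟩ := (mem_H0 F).1 hy
  have e1 := congrArg D.p hy1.eq
  have e2 := congrArg D.p hy2.eq
  rw [D.p_mul hyz F.c1z, D.p_mul F.c1z hyz, F.p1] at e1
  rw [D.p_mul hyz F.c2z, D.p_mul F.c2z hyz, F.p2] at e2
  have hd : ∀ (C : Perm (Fin n)), (∀ i : Fin n, 6 ≤ (i : ℕ) → C i = i) →
      Commute (Perm.ofSubtype τ)⁻¹ C := fun C hC => by
    refine Commute.inv_left (Perm.Disjoint.commute fun i => ?_)
    by_cases hi : 6 ≤ (i : ℕ)
    · exact Or.inr (hC i hi)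
    · exact Or.inl (Perm.ofSubtype_apply_of_not_mem τ hi)
  have c1 : Commute ((Perm.ofSubtype τ)⁻¹ * D.p y) (C1 n) :=
    (hd _ fun i hi => by by_contra h; have := (P.C1_moved i).1 h; omega).mul_left e1
  have c2 : Commute ((Perm.ofSubtype τ)⁻¹ * D.p y) (C2 n) :=
    (hd _ fun i hi => by by_contra h; have := (P.C2_moved i).1 h; omega).mul_left e2
  obtain ⟨i, j, hij⟩ := split h9 h10 (ρ := (Perm.ofSubtype τ)⁻¹ * D.p y)
    (fun x => Equiv.congr_fun c1.eq x) (fun x => Equiv.congr_fun c2.eq x) (fun x hx => by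
      rw [Perm.mul_apply, Perm.inv_eq_iff_eq, Perm.ofSubtype_apply_of_mem τ hx, hτ, res_apply])
  have h := congrArg Perm.sign hij
  have s1 : Perm.sign (C1 n) = 1 := F.p1 ▸ D.p_sign F.c1
  have s2 : Perm.sign (C2 n) = 1 := F.p2 ▸ D.p_sign F.c2
  rw [map_mul, map_inv, Perm.sign_ofSubtype, D.p_sign, map_mul, map_pow, map_pow, s1, s2, one_pow,
    one_pow, one_mul, mul_one, inv_eq_one] at h
  exact h

include h9 h10 in
theorem card_H0 : Nat.card (H0 F) = 18 * Nat.card (alternatingGroup (R n)) := by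
  let f : (H0 F).subgroupOf (Az F) →* alternatingGroup (R n) :=
    ((res F h9 h10).comp ((H0 F).subgroupOf (Az F)).subtype).codRestrict _ fun y =>
      Perm.mem_alternatingGroup.2 (res_even F h9 h10 y.2)
  have hsurj : Function.Surjective f := fun τ => by
    obtain ⟨y, hy, e⟩ := exists_res F h9 h10 (Perm.mem_alternatingGroup.1 τ.2)
    exact ⟨⟨y, hy⟩, Subtype.ext e⟩
  have h := f.ker.card_mul_index
  rw [Subgroup.index_ker, f.range_eq_top.2 hsurj,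
    Nat.card_congr Subgroup.topEquiv.toEquiv] at h
  rw [← Nat.card_congr (Subgroup.subgroupOfEquivOfLe (H0_le_Az F)).toEquiv, ← h]
  congr 1
  let g : (Fin 3 × Fin 3) × Bool → f.ker := fun p =>
    ⟨⟨⟨w F (p.1.1, p.1.2, 0) * bif p.2 then z else 1, H0_le_Az F (K0_le_H0 F (by
        cases p.2
        exacts [⟨_, Or.inl (mul_one _)⟩, ⟨_, Or.inr rfl⟩]))⟩, K0_le_H0 F (by
        cases p.2
        exacts [⟨_, Or.inl (mul_one _)⟩, ⟨_, Or.inr rfl⟩])⟩, Subtype.ext (Equiv.ext fun i =>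
      Subtype.ext (by
        show D.p (w F (p.1.1, p.1.2, 0) * bif p.2 then z else 1) i = i
        have P := pf n h9 h10
        have hp : D.p (w F (p.1.1, p.1.2, 0) * bif p.2 then z else 1) =
            C1 n ^ (p.1.1 : ℕ) * C2 n ^ (p.1.2 : ℕ) := by
          cases p.2
          · rw [cond_false, mul_one, p_w]; simp
          · rw [cond_true, D.p_mul (w_z F _) (Commute.refl z), D.p_z, mul_one, p_w]; simp
        rw [hp, Perm.mul_apply]
        have hi := i.2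
        have f2 : C2 n i.1 = i.1 := by by_contra hh; have := (P.C2_moved i.1).1 hh; omega
        have f1 : C1 n i.1 = i.1 := by by_contra hh; have := (P.C1_moved i.1).1 hh; omega
        rw [Perm.pow_apply_eq_self_of_apply_eq_self f2,
          Perm.pow_apply_eq_self_of_apply_eq_self f1]))⟩
  have hg : Function.Bijective g := by
    constructor
    · rintro ⟨⟨i, j⟩, b⟩ ⟨⟨i', j'⟩, b'⟩ h
      have h' : w F (i, j, 0) * (bif b then z else 1) = w F (i', j', 0) * (bif b' then z else 1) :=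
        congrArg (fun q : f.ker => ((q.1 : Az F) : G)) h
      have hb : ∀ c : Bool, Commute (bif c then z else 1) z ∧
          D.p (bif c then z else 1) = 1 := fun c => by
        cases c
        exacts [⟨Commute.one_left z, D.p_one⟩, ⟨Commute.refl z, D.p_z⟩]
      have hp := congrArg D.p h'
      rw [D.p_mul (w_z F _) (hb b).1, D.p_mul (w_z F _) (hb b').1, (hb b).2, (hb b').2, mul_one,
        mul_one, p_w, p_w] at hp
      obtain ⟨e1, e2, -⟩ := (pf n h9 h10).inj _ _ _ _ _ _ hp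
      obtain rfl : i = i' := e1
      obtain rfl : j = j' := e2
      have h2 := mul_left_cancel h'
      cases b <;> cases b'
      · rfl
      · exact absurd h2.symm D.ne
      · exact absurd h2 D.ne
      · rfl
    · rintro ⟨⟨y, hy⟩, hy'⟩
      obtain ⟨i, j, e | e⟩ := ker_res F h9 h10 hy (congrArg Subtype.val hy')
      · exact ⟨((i, j), false), Subtype.ext (Subtype.ext (Subtype.ext (by
          show _ * 1 = _; rw [mul_one]; exact e.symm)))⟩
      · exact ⟨((i, j), true), Subtype.ext (Subtype.ext (Subtype.ext e.symm))⟩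
  rw [← Nat.card_congr (Equiv.ofBijective g hg)]
  simp

/-- Elements restricting to powers of `(6 7 8)`. -/
theorem mem_K0_of_res (h9 : 9 ≤ n) (h10 : n ≤ 10) {y : Az F} (hy : (y : G) ∈ H0 F) {k : ℕ}
    (h : res F h9 h10 y = RC n h9 ^ k) : (y : G) ∈ K0 F := by
  set c : Az F := ⟨F.c3, H0_le_Az F (K0_le_H0 F (c3_mem_K0 F))⟩
  have hc : (c : G) ∈ K0 F := c3_mem_K0 F
  have hck : (((c ^ k : Az F)) : G) ∈ K0 F := by
    rw [SubmonoidClass.coe_pow]; exact (K0 F).pow_mem hc k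
  obtain ⟨i, j, e⟩ := ker_res F h9 h10 (y := y * (c ^ k)⁻¹)
    ((H0 F).mul_mem hy ((H0 F).inv_mem (K0_le_H0 F hck)))
    (by rw [map_mul, map_inv, map_pow, res_c3, h, mul_inv_cancel])
  have hm : ((y * (c ^ k)⁻¹ : Az F) : G) ∈ K0 F := ⟨_, e⟩
  have := (K0 F).mul_mem hm hck
  rwa [Subgroup.coe_mul, Subgroup.coe_inv, inv_mul_cancel_right] at this

end Cfsg.Agent.DoubleCoverQuot36
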