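import Cfsg.Agent.Lib.E6CubicForm29

/-!
Every isometry of the cubic form in 27 variables is a product of root elements.
-/

set_option autoImplicit false
set_option maxRecDepth 100000

namespace Cfsg.Agent.E6CubicPeel29

open Cfsg.Lie Cfsg.Agent.E6CubicData29 Cfsg.Agent.E6CubicForm29
open scoped Matrix

variable {F : Type*} [Field F]

/-- The group generated by the root elements. -/
def Gu (F : Type*) [Field F] : Subgroup (GL I27 F) :=
  Subgroup.closure {g | ∃ r < 72, ∃ t : F, g = X r t}

theorem X_mem_Gu {r : ℕ} (hr : r < 72) (t : F) : X r t ∈ Gu F :=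
  Subgroup.subset_closure ⟨r, hr, t, rfl⟩

theorem Gu_le : Gu F ≤ E6univ F := by
  rw [Gu, Subgroup.closure_le]
  rintro g ⟨r, hr, t, rfl⟩
  exact X_mem hr t

/-! ### Checks -/

/-- A list is one unit coefficient at `k`. -/
def unitAt (L : List (ℕ × ℤ)) (k : ℕ) : Bool :=
  match L with
  | [(x, c)] => decide (x = k ∧ (c = 1 ∨ c = -1))
  | _ => false

/-- A list is one unit entry at `(a, b)`. -/
def entryAt (L : List (ℕ × ℕ × ℤ)) (a b : ℕ) : Bool :=
  match L with
  | [(x, y, c)] => decide (x = a ∧ y = b ∧ (c = 1 ∨ c = -1))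
  | _ => false

/-- A list is one unit product of the coordinates `a` and `b`. -/
def pairAt (L : List (ℕ × ℕ × ℤ)) (a b : ℕ) : Bool :=
  entryAt L a b || entryAt L b a

/-- The columns of a root vector. -/
def colOf (r a : ℕ) : List (ℕ × ℕ × ℤ) := (eList r).filter fun e => e.2.1 = a

/-- The root element fixes the listed basis vectors. -/
def fixesB (r : ℕ) (S : List ℕ) : Bool := decide (r < 72) && S.all fun s => (colOf r s).isEmpty

/-- The coordinates sharing a monomial with a given one. -/
def others (s : ℕ) : List ℕ :=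
  tri.flatMap fun e =>
    (if e.1 = s then [e.2.1, e.2.2.1] else []) ++ (if e.2.1 = s then [e.1, e.2.2.1] else []) ++
    (if e.2.2.1 = s then [e.1, e.2.1] else [])

theorem pList_others {a b : ℕ} : ∀ e ∈ pList a b, e.1 ∈ others a := by
  intro e he
  simp only [pList, List.mem_flatMap, List.mem_append] at he
  simp only [others, List.mem_flatMap, List.mem_append]
  obtain ⟨t, ht, h⟩ := he
  refine ⟨t, ht, ?_⟩
  rcases h with ((((h | h) | h) | h) | h) | h <;> split_ifs at h with hc <;>
    simp only [List.mem_singleton, List.not_mem_nil] at h <;> subst h <;> simp [hc.1, hc.2]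

/-- Keys of vanishing coordinates. -/
def zeroKeys (st : Step) : List ℕ := (st.zerosA.map fun e => e.1) ++ st.zerosB.map fun e => e.1

/-- Successive hops. -/
def hopsOK (S : List ℕ) : List (ℕ × ℕ × ℕ) → List ℕ → Bool
  | [], _ => true
  | (x, par, r) :: rest, seen =>
    decide (x < 27 ∧ par ∈ seen) && fixesB r S && entryAt (rowOf r par) par x &&
      hopsOK S rest (x :: seen)

/-- The check of a mode. -/
def modeOK (S : List ℕ) (st : Step) : Bool :=
  match st.mode with
  | .forced s s' => decide (s ∈ S ∧ s' ∈ S) && unitAt (pList s s') st.mu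
  | .free via? hops (nu, r1, r2) =>
    hopsOK S hops [st.mu] && decide (nu < 27 ∧ nu ≠ st.mu) && fixesB r1 S && fixesB r2 S &&
    entryAt (colOf r1 st.mu) nu st.mu && (colOf r1 nu).isEmpty &&
    entryAt (colOf r2 nu) st.mu nu && (colOf r2 st.mu).isEmpty &&
    match via? with
    | none => (List.range 27).all fun k =>
        decide (k ∈ S ∨ k = st.mu ∨ k ∈ zeroKeys st ∨ k ∈ hops.map fun e => e.1)
    | some (s, t) => decide (s ∈ S ∧ t < 27) && unitAt (pList s t) st.mu &&
        (others s).all fun x =>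
          decide (x = st.mu ∨ x ∈ zeroKeys st ∨ x ∈ hops.map fun e => e.1)

/-- The check of a step. -/
def stepOK (S : List ℕ) (st : Step) : Bool :=
  decide (st.mu < 27 ∧ st.mu ∉ S ∧ ∀ s ∈ S, s < 27) &&
  (st.zerosA.all fun e => decide (e.2.1 ∈ S ∧ e.2.2 < 27 ∧ e.1 < 27) && unitAt (pList e.2.1 e.2.2) e.1 &&
    (others e.2.1).all fun x => decide (x ≠ st.mu)) &&
  (st.zerosB.all fun e => decide (e.2.1 ∈ S ∧ e.2.2 ∈ S ∧ e.1 ≠ st.mu) && unitAt (pList e.2.1 e.2.2) e.1) &&
  (st.elim.all fun e => decide (e.1 < 27 ∧ e.1 ≠ st.mu) && fixesB e.2 S &&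
    entryAt (rowOf e.2 e.1) e.1 st.mu && (rowOf e.2 st.mu).isEmpty &&
    st.elim.all fun f => decide (f.1 = e.1) || (rowOf e.2 f.1).isEmpty) &&
  (st.white.all fun e => decide (e.1 ∈ zeroKeys st ++ (st.elim.map fun x => x.1)) ||
    decide (e.2 < 27) && pairAt ((qList e.2).filter fun f =>
      !decide (f.1 ∈ zeroKeys st ++ (st.elim.map fun x => x.1) ∨
        f.2.1 ∈ zeroKeys st ++ (st.elim.map fun x => x.1))) st.mu e.1) &&
  ((List.range 27).all fun k => decide (k = st.mu ∨ k ∈ zeroKeys st ∨ k ∈ (st.elim.map fun x => x.1) ∨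
    k ∈ st.white.map fun x => x.1)) &&
  modeOK S st

/-- The whole plan. -/
def planOK : List Step → List ℕ → Bool
  | [], S => (List.range 27).all fun k => decide (k ∈ S)
  | st :: rest, S => stepOK S st && planOK rest (st.mu :: S)

theorem plan_ok : planOK plan [] = true := by decide +kernel

theorem qList_ne : ∀ t : Fin 27, ∀ e ∈ qList t.val, e.1 ≠ e.2.1 ∧ e.1 < 27 ∧ e.2.1 < 27 := by
  decide +kernel

theorem pList_lt : ∀ a b : Fin 27, ∀ e ∈ pList a.val b.val, e.1 < 27 := by decide +kernel

/-! ### Consequences of the checks -/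

theorem of_unitAt {L : List (ℕ × ℤ)} {k : ℕ} (h : unitAt L k = true) :
    ∃ c : ℤ, (c = 1 ∨ c = -1) ∧ L = [(k, c)] := by
  unfold unitAt at h
  split at h
  · simp only [decide_eq_true_eq] at h
    exact ⟨_, h.2, by rw [h.1]⟩
  · exact absurd h Bool.false_ne_true

theorem of_entryAt {L : List (ℕ × ℕ × ℤ)} {a b : ℕ} (h : entryAt L a b = true) :
    ∃ c : ℤ, (c = 1 ∨ c = -1) ∧ L = [(a, b, c)] := by
  unfold entryAt at h
  split at h
  · simp only [decide_eq_true_eq] at h
    exact ⟨_, h.2.2, by rw [h.1, h.2.1]⟩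
  · exact absurd h Bool.false_ne_true

theorem cast_unit {c : ℤ} (hc : c = 1 ∨ c = -1) : (c : F) * (c : F) = 1 ∧ (c : F) ≠ 0 := by
  rcases hc with rfl | rfl <;> simp

omit [Field F] in
theorem eq_of_coords {v w : I27 → F} (h : ∀ k < 27, v (p k) = w (p k)) : v = w :=
  funext fun i => by rw [← p_code i]; exact h _ (code_lt i)

theorem Zm_mulVec_bv (r a : ℕ) (ha : a < 27) :
    (Zm (eList r) *ᵥ (bv a : I27 → F)) = ((colOf r a).map fun e => (e.2.2 : F) • bv e.1).sum := by
  have h := inRange_spec (eList_inRange r)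
  rw [colOf]
  generalize eList r = L at h
  induction L with
  | nil => simp [Zm]
  | cons e L ih =>
    have he := h e List.mem_cons_self
    have h1 : (Zm (e :: L) : Matrix I27 I27 F) =
        (e.2.2 : F) • Matrix.single (p e.1) (p e.2.1) (1 : F) + Zm L := by simp [Zm]
    rw [h1, Matrix.add_mulVec, ih fun e' he' => h e' (List.mem_cons_of_mem _ he'), Matrix.smul_mulVec]
    have h2 : Matrix.single (p e.1) (p e.2.1) (1 : F) *ᵥ (bv a : I27 → F) =
        if e.2.1 = a then bv e.1 else 0 := by
      funext i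
      have := bv_apply (F := F) ha he.2
      by_cases hi : p e.1 = i
      · subst hi
        by_cases hh : e.2.1 = a <;>
          rw [bv] at this <;> simp [Matrix.mulVec, dotProduct, Matrix.single_apply, this, hh, bv]
      · by_cases hh : e.2.1 = a <;>
          simp [Matrix.mulVec, dotProduct, hi, hh, bv, Ne.symm hi]
    rw [h2]
    by_cases hh : e.2.1 = a <;> simp [hh]

theorem X_coord (r : ℕ) (t : F) (v : I27 → F) {k : ℕ} (hk : k < 27) :
    (((X r t : GL I27 F) : Matrix I27 I27 F) *ᵥ v) (p k) =
      v (p k) + t * ((rowOf r k).map fun e => (e.2.2 : F) * v (p e.2.1)).sum := by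
  rw [X_mulVec, Pi.add_apply, Pi.smul_apply, smul_eq_mul,
    Zm_mulVec_code _ _ (fun e he => (inRange_spec (eList_inRange r) e he).1) hk, rowOf]

theorem X_fix {r : ℕ} {S : List ℕ} (h : fixesB r S = true) (t : F) {s : ℕ} (hs : s ∈ S) (hs27 : s < 27) :
    ((X r t : GL I27 F) : Matrix I27 I27 F) *ᵥ bv s = bv s := by
  simp only [fixesB, Bool.and_eq_true, List.all_eq_true, List.isEmpty_iff] at h
  rw [X_mulVec, Zm_mulVec_bv r s hs27, h.2 s hs]
  simp

/-! ### The induction -/

variable [Fintype F]

/-- An isometry fixing the listed basis vectors. -/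
def Good (S : List ℕ) (g : GL I27 F) : Prop :=
  g ∈ E6univ F ∧ ∀ s ∈ S, (g : Matrix I27 I27 F) *ᵥ bv s = bv s

omit [Fintype F] in
theorem Good.mulX {S : List ℕ} (hS : ∀ s ∈ S, s < 27) {g : GL I27 F} (hg : Good S g) {r : ℕ}
    (h : fixesB r S = true) (t : F) : Good S (X r t * g) := by
  have hr : r < 72 := by simp only [fixesB, Bool.and_eq_true, decide_eq_true_eq] at h; exact h.1
  refine ⟨mul_mem (X_mem hr t) hg.1, fun s hs => ?_⟩
  rw [Units.val_mul, ← Matrix.mulVec_mulVec, hg.2 s hs, X_fix h t hs (hS s hs)]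

section OneStep

variable (hF : 3 ≤ Fintype.card F) {S : List ℕ} {st : Step}

/-- The image of the next basis vector. -/
def img (st : Step) (g : GL I27 F) : I27 → F := (g : Matrix I27 I27 F) *ᵥ bv st.mu

/-- It can be fixed by multiplying with root elements. -/
def Done (S : List ℕ) (st : Step) (g : GL I27 F) : Prop :=
  ∃ x ∈ Gu F, Good (st.mu :: S) (x * g)

omit [Fintype F] in
theorem img_mulX (g : GL I27 F) (r : ℕ) (t : F) :
    img st (X r t * g) = ((X r t : GL I27 F) : Matrix I27 I27 F) *ᵥ img st g := by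
  rw [img, img, Units.val_mul, ← Matrix.mulVec_mulVec]

omit [Fintype F] in
theorem Done.ofX {g : GL I27 F} {r : ℕ} (h : fixesB r S = true) {t : F}
    (hd : Done S st (X r t * g)) : Done S st g := by
  obtain ⟨x, hx, hgood⟩ := hd
  have hr : r < 72 := by simp only [fixesB, Bool.and_eq_true, decide_eq_true_eq] at h; exact h.1
  exact ⟨x * X r t, mul_mem hx (X_mem_Gu hr t), by rwa [mul_assoc]⟩

include hF

theorem one_step (hok : stepOK S st = true) {g : GL I27 F} (hg : Good S g) : Done S st g := by
  simp only [stepOK, Bool.and_eq_true, decide_eq_true_eq, List.all_eq_true, List.mem_range,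
    Bool.or_eq_true, List.isEmpty_iff] at hok
  obtain ⟨⟨⟨⟨⟨⟨⟨hmu, hmuS, hS⟩, hA⟩, hB⟩, helim⟩, hwhite⟩, hcover⟩, hmode⟩ := hok
  -- vanishing coordinates
  have hzero : ∀ g : GL I27 F, Good S g → ∀ k ∈ zeroKeys st, img st g (p k) = 0 := by
    intro g hg k hk
    simp only [zeroKeys, List.mem_append, List.mem_map] at hk
    rcases hk with ⟨e, he, rfl⟩ | ⟨e, he, rfl⟩
    · obtain ⟨⟨⟨hsS, ht, -⟩, hu⟩, hno⟩ := hA e he
      obtain ⟨c, hc, hL⟩ := of_unitAt hu
      have hlin : ∀ w, Pf (bv e.2.1) (bv st.mu) w = (0 : F) := by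
        obtain ⟨φ, hφ⟩ := Pf_linear (bv e.2.1 : I27 → F) (bv st.mu)
        intro w
        rw [← hφ]
        suffices h : φ = 0 by rw [h]; rfl
        refine LinearMap.pi_ext' fun i => LinearMap.ext_ring ?_
        have hi := Pf_bv (F := F) (hS _ hsS) (code_lt i) (bv st.mu)
        rw [show (bv (code i) : I27 → F) = Pi.single i 1 by rw [bv, p_code]] at hi
        show φ (Pi.single i 1) = 0
        rw [hφ, hi]
        refine List.sum_eq_zero fun x hx => ?_
        obtain ⟨f, hf, rfl⟩ := List.mem_map.1 hx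
        rw [bv_apply hmu (pList_lt ⟨_, hS _ hsS⟩ ⟨_, code_lt i⟩ f hf),
          if_neg (hno _ (pList_others f hf)), mul_zero]
      have h1 := Pf_preserved hF hg.1 (bv e.2.1) (bv st.mu)
        (((g⁻¹ : GL I27 F) : Matrix I27 I27 F) *ᵥ bv e.2.2)
      rw [hlin, hg.2 _ hsS, Matrix.mulVec_mulVec, ← Units.val_mul, mul_inv_cancel, Units.val_one,
        Matrix.one_mulVec, Pf_bv (hS _ hsS) ht, hL] at h1
      simpa [img, (cast_unit (F := F) hc).2] using h1
    · obtain ⟨⟨hsS, hs'S, hne⟩, hu⟩ := hB e he
      obtain ⟨c, hc, hL⟩ := of_unitAt hu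
      have h1 := Pf_preserved hF hg.1 (bv e.2.1) (bv st.mu) (bv e.2.2)
      have hk27 : e.1 < 27 :=
        pList_lt ⟨_, hS _ hsS⟩ ⟨_, hS _ hs'S⟩ (e.1, c) (by rw [hL]; exact List.mem_cons_self)
      rw [hg.2 _ hsS, hg.2 _ hs'S, Pf_bv (hS _ hsS) (hS _ hs'S), Pf_bv (hS _ hsS) (hS _ hs'S),
        hL] at h1
      simpa [img, bv_apply hmu hk27, hne, (cast_unit (F := F) hc).2] using h1
  -- the image is white
  have hQ : ∀ g : GL I27 F, Good S g → ∀ w, Qf (img st g) w = 0 := by
    intro g hg w
    have hlin : ∀ w, Qf (bv st.mu) w = (0 : F) := by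
      obtain ⟨φ, hφ⟩ := Qf_linear (bv st.mu : I27 → F)
      intro w
      rw [← hφ]
      suffices h : φ = 0 by rw [h]; rfl
      refine LinearMap.pi_ext' fun i => LinearMap.ext_ring ?_
      have hi := Qf_bv (F := F) (code_lt i) (bv st.mu)
      rw [show (bv (code i) : I27 → F) = Pi.single i 1 by rw [bv, p_code]] at hi
      show φ (Pi.single i 1) = 0
      rw [hφ, hi]
      refine List.sum_eq_zero fun x hx => ?_
      obtain ⟨f, hf, rfl⟩ := List.mem_map.1 hx
      obtain ⟨hne, l1, l2⟩ := qList_ne ⟨_, code_lt i⟩ f hf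
      show (f.2.2 : F) * ((bv st.mu : I27 → F) (p f.1) * (bv st.mu : I27 → F) (p f.2.1)) = 0
      rw [bv_apply hmu l1, bv_apply hmu l2]
      split_ifs with h1 h2
      · exact absurd (h1.trans h2.symm) hne
      all_goals simp
    have h1 := Qf_preserved hF hg.1 (bv st.mu) (((g⁻¹ : GL I27 F) : Matrix I27 I27 F) *ᵥ w)
    rwa [hlin, Matrix.mulVec_mulVec, ← Units.val_mul, mul_inv_cancel, Units.val_one,
      Matrix.one_mulVec] at h1
  -- a multiple of the basis vector
  have hfinal : ∀ g : GL I27 F, Good S g → ∀ c : F, c ≠ 0 → img st g = c • bv st.mu → Done S st g := by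
    intro g hg c hc0 hv
    have hdone : ∀ g : GL I27 F, Good S g → img st g = bv st.mu → Done S st g := fun g hg hv =>
      ⟨1, one_mem _, by
        rw [one_mul]
        refine ⟨hg.1, fun s hs => ?_⟩
        rcases List.mem_cons.1 hs with rfl | hs
        · exact hv
        · exact hg.2 s hs⟩
    unfold modeOK at hmode
    split at hmode
    · rename_i s s' _
      simp only [Bool.and_eq_true, decide_eq_true_eq] at hmode
      obtain ⟨⟨hsS, hs'S⟩, hu⟩ := hmode
      obtain ⟨a, ha, hL⟩ := of_unitAt hu
      have h1 := Pf_preserved hF hg.1 (bv s) (bv st.mu) (bv s')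
      rw [hg.2 _ hsS, hg.2 _ hs'S, show (g : Matrix I27 I27 F) *ᵥ bv st.mu = img st g from rfl, hv,
        Pf_bv (hS _ hsS) (hS _ hs'S), Pf_bv (hS _ hsS) (hS _ hs'S), hL] at h1
      refine hdone g hg ?_
      have : c = 1 := by simpa [bv_apply hmu hmu, (cast_unit (F := F) ha).2] using h1
      rw [hv, this, one_smul]
    · rename_i via? hops nu r1 r2 _
      simp only [Bool.and_eq_true, decide_eq_true_eq, List.isEmpty_iff] at hmode
      obtain ⟨⟨⟨⟨⟨⟨⟨⟨-, hnu, -⟩, hf1⟩, hf2⟩, he1⟩, he1'⟩, he2⟩, he2'⟩, -⟩ := hmode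
      obtain ⟨a, ha, hL1⟩ := of_entryAt he1
      obtain ⟨b, hb, hL2⟩ := of_entryAt he2
      have hX : ∀ (r : ℕ) (t : F) (v : I27 → F), ((X r t : GL I27 F) : Matrix I27 I27 F) *ᵥ v =
          v + t • (Zm (eList r) *ᵥ v) := X_mulVec
      have z1 : (Zm (eList r1) *ᵥ (bv st.mu : I27 → F)) = (a : F) • bv nu := by
        rw [Zm_mulVec_bv r1 st.mu hmu, hL1]; simp
      have z1' : (Zm (eList r1) *ᵥ (bv nu : I27 → F)) = 0 := by
        rw [Zm_mulVec_bv r1 nu hnu, he1']; simp
      have z2 : (Zm (eList r2) *ᵥ (bv nu : I27 → F)) = (b : F) • bv st.mu := by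
        rw [Zm_mulVec_bv r2 nu hnu, hL2]; simp
      have z2' : (Zm (eList r2) *ᵥ (bv st.mu : I27 → F)) = 0 := by
        rw [Zm_mulVec_bv r2 st.mu hmu, he2']; simp
      refine Done.ofX hf1 (t := (1 : F))
        (Done.ofX hf2 (t := (1 - c) / (c * a * b))
          (Done.ofX hf1 (t := -c) (hdone _ ?_ ?_)))
      · exact ((hg.mulX hS hf1 _).mulX hS hf2 _).mulX hS hf1 _
      rw [img_mulX, img_mulX, img_mulX, hv]
      simp only [hX, Matrix.mulVec_add, Matrix.mulVec_smul, z1, z1', z2, z2', smul_zero, add_zero,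
        zero_add, smul_smul, ← add_smul]
      have ha0 := (cast_unit (F := F) ha).2
      have hb0 := (cast_unit (F := F) hb).2
      rw [show (1 - c) / (c * a * b) * (1 * (c * a) * b) = (1 - c : F) by field_simp]
      module
  -- eliminations
  have hkill : ∀ g : GL I27 F, Good S g → img st g (p st.mu) ≠ 0 → Done S st g := by
    suffices h : ∀ L : List (ℕ × ℕ), (∀ e ∈ L, e ∈ st.elim) → ∀ g : GL I27 F, Good S g →
        img st g (p st.mu) ≠ 0 →
        (∀ e ∈ st.elim, img st g (p e.1) ≠ 0 → e ∈ L) → Done S st g from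
      fun g hg h0 => h st.elim (fun e he => he) g hg h0 fun e he _ => he
    intro L
    induction L with
    | nil =>
      intro _ g hg h0 hz
      refine hfinal g hg _ h0 (eq_of_coords fun k hk => ?_)
      rw [Pi.smul_apply, bv_apply hmu hk, smul_eq_mul]
      rcases eq_or_ne k st.mu with rfl | hne
      · rw [if_pos rfl, mul_one]
      rw [if_neg hne, mul_zero]
      have hel : ∀ k ∈ zeroKeys st ++ (st.elim.map fun x => x.1), img st g (p k) = 0 := by
        intro k hk
        rcases List.mem_append.1 hk with h | h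
        · exact hzero g hg k h
        · obtain ⟨e, he, rfl⟩ := List.mem_map.1 h
          by_contra hne'
          exact absurd (hz e he hne') (by simp)
      rcases hcover k hk with h | h | h | h
      · exact absurd h hne
      · exact hel k (List.mem_append_left _ h)
      · exact hel k (List.mem_append_right _ h)
      · obtain ⟨e, he, rfl⟩ := List.mem_map.1 h
        rcases hwhite e he with h | ⟨ht, hpair⟩
        · exact hel _ h
        have h1 := hQ g hg (bv e.2)
        rw [Qf_bv ht] at h1
        set bad : ℕ × ℕ × ℤ → Bool := fun f =>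
          decide (f.1 ∈ zeroKeys st ++ (st.elim.map fun x => x.1) ∨
            f.2.1 ∈ zeroKeys st ++ (st.elim.map fun x => x.1))
        have hsplit := ((List.filter_append_perm bad (qList e.2)).map
          fun f => (f.2.2 : F) * (img st g (p f.1) * img st g (p f.2.1))).sum_eq
        rw [List.map_append, List.sum_append] at hsplit
        rw [← hsplit, List.sum_eq_zero (l := ((qList e.2).filter bad).map _) (fun x hx => ?_),
          zero_add] at h1
        · simp only [pairAt, Bool.or_eq_true] at hpair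
          rcases hpair with hp | hp <;> obtain ⟨c, hc, hL⟩ := of_entryAt hp <;>
          · rw [hL] at h1
            simpa [(cast_unit (F := F) hc).2, h0] using h1
        · obtain ⟨f, hf, rfl⟩ := List.mem_map.1 hx
          obtain ⟨-, hb⟩ := List.mem_filter.1 hf
          simp only [bad, decide_eq_true_eq] at hb
          rcases hb with hb | hb <;> rw [hel _ hb] <;> simp
    | cons e L ih =>
      intro hsub g hg h0 hz
      obtain ⟨⟨⟨⟨⟨he27, hne⟩, hf⟩, hrow⟩, hrowmu⟩, hothers⟩ := helim e (hsub e List.mem_cons_self)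
      obtain ⟨a, ha, hL⟩ := of_entryAt hrow
      set t : F := -(img st g (p e.1)) / (a * img st g (p st.mu))
      refine Done.ofX hf (t := t) (ih (fun e' he' => hsub e' (List.mem_cons_of_mem _ he')) _
        (hg.mulX hS hf t) ?_ ?_)
      · rw [img_mulX, X_coord _ _ _ hmu, hrowmu]
        simpa using h0
      · intro f hf' hne'
        obtain ⟨⟨⟨⟨⟨hf27, -⟩, -⟩, -⟩, -⟩, -⟩ := helim f hf'
        rw [img_mulX, X_coord _ _ _ hf27] at hne'
        by_cases hfe : f.1 = e.1
        · exfalso
          apply hne'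
          rw [hfe, hL]
          have ha0 := (cast_unit (F := F) ha).2
          simp only [List.map_cons, List.map_nil, List.sum_cons, List.sum_nil, add_zero, t]
          field_simp
          ring
        · rcases hothers f hf' with h | h
          · exact absurd h hfe
          · rw [h] at hne'
            simp only [List.map_nil, List.sum_nil, mul_zero, add_zero] at hne'
            exact (List.mem_cons.1 (hz f hf' hne')).resolve_left fun heq => hfe (by rw [heq])
  -- getting a nonzero coordinate
  by_cases h0 : img st g (p st.mu) = 0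
  swap
  · exact hkill g hg h0
  unfold modeOK at hmode
  split at hmode
  · rename_i s s' _
    simp only [Bool.and_eq_true, decide_eq_true_eq] at hmode
    obtain ⟨⟨hsS, hs'S⟩, hu⟩ := hmode
    obtain ⟨a, ha, hL⟩ := of_unitAt hu
    have h1 := Pf_preserved hF hg.1 (bv s) (bv st.mu) (bv s')
    rw [hg.2 _ hsS, hg.2 _ hs'S, show (g : Matrix I27 I27 F) *ᵥ bv st.mu = img st g from rfl,
      Pf_bv (hS _ hsS) (hS _ hs'S), Pf_bv (hS _ hsS) (hS _ hs'S), hL] at h1
    exact absurd h1 (by simp [bv_apply hmu hmu, h0, Ne.symm (cast_unit (F := F) ha).2])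
  · rename_i via? hops nu r1 r2 _
    simp only [Bool.and_eq_true, decide_eq_true_eq] at hmode
    obtain ⟨⟨⟨⟨⟨⟨⟨⟨hhops, -⟩, -⟩, -⟩, -⟩, -⟩, -⟩, -⟩, hvia⟩ := hmode
    -- hops lead to the pivot
    have hmove : ∀ (L : List (ℕ × ℕ × ℕ)) (seen : List ℕ), hopsOK S L seen = true →
        (∀ x ∈ seen, ∀ g : GL I27 F, Good S g → img st g (p x) ≠ 0 → Done S st g) →
        ∀ x ∈ L.map (fun e => e.1), ∀ g : GL I27 F, Good S g → img st g (p x) ≠ 0 → Done S st g := by
      intro L
      induction L with
      | nil => intro _ _ _ x hx; simp at hx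
      | cons e L ih =>
        intro seen hok hseen
        obtain ⟨x₀, par, r⟩ := e
        simp only [hopsOK, Bool.and_eq_true, decide_eq_true_eq] at hok
        obtain ⟨⟨⟨⟨hx27, hpar⟩, hf⟩, hent⟩, hrest⟩ := hok
        obtain ⟨a, ha, hL⟩ := of_entryAt hent
        have hnew : ∀ g : GL I27 F, Good S g → img st g (p x₀) ≠ 0 → Done S st g := by
          intro g hg hx
          by_cases hp0 : img st g (p par) = 0
          swap
          · exact hseen par hpar g hg hp0
          refine Done.ofX hf (t := (1 : F)) (hseen par hpar _ (hg.mulX hS hf 1) ?_)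
          have hp27 : par < 27 := by
            have : (par, x₀, a) ∈ rowOf r par := by rw [hL]; exact List.mem_cons_self
            exact (inRange_spec (eList_inRange r) _ (List.mem_of_mem_filter this)).1
          rw [img_mulX, X_coord _ _ _ hp27, hL, hp0]
          simpa [(cast_unit (F := F) ha).2] using hx
        have hseen' : ∀ x ∈ x₀ :: seen, ∀ g : GL I27 F, Good S g → img st g (p x) ≠ 0 → Done S st g :=
          fun x hx => (List.mem_cons.1 hx).elim (fun h => h ▸ hnew) (hseen x)
        intro x hx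
        rcases List.mem_cons.1 hx with rfl | hx
        · exact hnew
        · exact ih (x₀ :: seen) hrest hseen' x hx
    have hreach := hmove hops [st.mu] hhops
      (fun x hx g hg h => by rw [List.mem_singleton.1 hx] at h; exact hkill g hg h)
    by_contra hnd
    have hvan : ∀ x ∈ hops.map (fun e => e.1), img st g (p x) = 0 := fun x hx =>
      by_contra fun h => hnd (hreach x hx g hg h)
    rcases via? with _ | ⟨s, t⟩
    · simp only [List.all_eq_true, List.mem_range, decide_eq_true_eq] at hvia
      set v := img st g with hv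
      have hfix : (g : Matrix I27 I27 F) *ᵥ v = v := by
        conv_lhs => rw [show v = ∑ i : I27, v i • (bv (code i) : I27 → F) by
          funext j; simp [bv, p_code, Finset.sum_apply, Pi.single_apply]]
        rw [Matrix.mulVec_sum]
        simp only [Matrix.mulVec_smul]
        conv_rhs => rw [show v = ∑ i : I27, v i • (bv (code i) : I27 → F) by
          funext j; simp [bv, p_code, Finset.sum_apply, Pi.single_apply]]
        refine Finset.sum_congr rfl fun i _ => ?_
        rcases hvia _ (code_lt i) with h | h | h | h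
        · rw [hg.2 _ h]
        all_goals
          have hvi : v i = 0 := by
            rw [← p_code i]
            first
              | (rw [h]; exact h0)
              | exact hzero g hg _ h
              | exact hvan _ h
          rw [hvi, zero_smul, zero_smul]
      have hinj : v = bv st.mu := by
        have h := congrArg (((g⁻¹ : GL I27 F) : Matrix I27 I27 F) *ᵥ ·) hfix
        simp only [Matrix.mulVec_mulVec, ← Units.val_mul, inv_mul_cancel, Units.val_one,
          Matrix.one_mulVec] at h
        rw [h, hv, img, Matrix.mulVec_mulVec, ← Units.val_mul, inv_mul_cancel, Units.val_one,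
          Matrix.one_mulVec]
      rw [hinj, bv_apply hmu hmu, if_pos rfl] at h0
      exact one_ne_zero h0
    · simp only [Bool.and_eq_true, decide_eq_true_eq, List.all_eq_true] at hvia
      obtain ⟨⟨⟨hsS, ht⟩, hu⟩, hall⟩ := hvia
      obtain ⟨c, hc, hL⟩ := of_unitAt hu
      obtain ⟨φ, hφ⟩ := Pf_linear (bv s : I27 → F) (img st g)
      have hz : φ = 0 := by
        refine LinearMap.pi_ext' fun i => LinearMap.ext_ring ?_
        have hi := Pf_bv (F := F) (hS _ hsS) (code_lt i) (img st g)
        rw [show (bv (code i) : I27 → F) = Pi.single i 1 by rw [bv, p_code]] at hi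
        show φ (Pi.single i 1) = 0
        rw [hφ, hi]
        refine List.sum_eq_zero fun x hx => ?_
        obtain ⟨f, hf, rfl⟩ := List.mem_map.1 hx
        rcases hall _ (pList_others f hf) with h | h | h
        · rw [h, h0, mul_zero]
        · rw [hzero g hg _ h, mul_zero]
        · rw [hvan _ h, mul_zero]
      have h1 := Pf_preserved hF hg.1 (bv s) (bv st.mu) (bv t)
      rw [hg.2 _ hsS, show (g : Matrix I27 I27 F) *ᵥ bv st.mu = img st g from rfl, ← hφ, hz,
        LinearMap.zero_apply, Pf_bv (hS _ hsS) ht, hL] at h1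
      simp [bv_apply hmu hmu, Ne.symm (cast_unit (F := F) hc).2] at h1

end OneStep

theorem E6univ_le (hF : 3 ≤ Fintype.card F) : E6univ F ≤ Gu F := by
  suffices h : ∀ (L : List Step) (S : List ℕ), planOK L S = true →
      ∀ g : GL I27 F, Good S g → g ∈ Gu F from
    fun g hg => h plan [] plan_ok g ⟨hg, fun s hs => by simp at hs⟩
  intro L
  induction L with
  | nil =>
    intro S hok g hg
    simp only [planOK, List.all_eq_true, List.mem_range, decide_eq_true_eq] at hok
    have hg1 : g = 1 := Units.ext <| Matrix.ext fun i j => by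
      have h := congrFun (hg.2 _ (hok _ (code_lt j))) i
      rw [show (bv (code j) : I27 → F) = Pi.single j 1 by rw [bv, p_code], Matrix.mulVec_single_one] at h
      rw [Units.val_one, Matrix.one_apply]
      simpa [Pi.single_apply] using h
    rw [hg1]
    exact one_mem _
  | cons st L ih =>
    intro S hok g hg
    simp only [planOK, Bool.and_eq_true] at hok
    obtain ⟨x, hx, hgood⟩ := one_step hF hok.1 hg
    have := ih _ hok.2 _ hgood
    simpa using mul_mem (inv_mem hx) this

theorem E6univ_eq (hF : 3 ≤ Fintype.card F) : E6univ F = Gu F :=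
  le_antisymm (E6univ_le hF) Gu_le

end Cfsg.Agent.E6CubicPeel29
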