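import Cfsg.Prelude.Def_ChevE6
import Cfsg.Agent.Lib.ChevalleyCore
import Cfsg.Agent.Lib.ChevalleyDataE6
import Cfsg.Agent.Lib.E6CubicPeel29

/-!
Conjugation by isometries of the cubic form on the span of the root vectors and the diagonal matrices: the map onto
the adjoint Chevalley group of type E6 and its kernel.
-/

set_option autoImplicit false
set_option Elab.async false
set_option maxRecDepth 100000

namespace Cfsg.Agent.E6CubicAdj29

open Cfsg.Lie Cfsg.Agent.E6CubicData29 Cfsg.Agent.E6CubicForm29 Cfsg.Agent.E6CubicPeel29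
open Cfsg.Agent.ChevalleyCore
open scoped Matrix

variable {F : Type*} [Field F]

/-- The basis of the Lie algebra on the 27 coordinates. -/
def B : chevE6.Idx → List (ℕ × ℕ × ℤ)
  | Sum.inl i => (List.range 27).filterMap fun x =>
    if (wTab.getD i.val []).getD x 0 = 0 then none else some (x, x, (wTab.getD i.val []).getD x 0)
  | Sum.inr s => eList s.val

/-- The matrices of the basis. -/
def Bm (j : chevE6.Idx) : Matrix I27 I27 F := Zm (B j)

/-- The matrix of a list of terms. -/
def flat (L : List (chevE6.Idx × ℤ)) : List (ℕ × ℕ × ℤ) := L.flatMap fun e => sclL e.2 (B e.1)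

/-- The coefficient at a basis element. -/
def coef (L : List (chevE6.Idx × ℤ)) (u : chevE6.Idx) : F :=
  (L.map fun e => if e.1 = u then (e.2 : F) else 0).sum

theorem sum_coef (L : List (chevE6.Idx × ℤ)) :
    ∑ u, coef (F := F) L u • (Bm u : Matrix I27 I27 F) = Zm (flat L) := by
  induction L with
  | nil => simp [coef, flat, Zm]
  | cons e L ih =>
    simp only [coef, flat, List.map_cons, List.sum_cons, List.flatMap_cons, Zm_append, Zm_scl, add_smul,
      Finset.sum_add_distrib, ite_smul, zero_smul, Finset.sum_ite_eq, Finset.mem_univ, if_true] at ih ⊢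
    rw [ih, Bm]

/-- The root with a given index. -/
def rootIx (n : ℕ) : Fin chevE6.nroots := ⟨n % 72, Nat.mod_lt _ (by norm_num)⟩

/-- The terms linear in the parameter of a column of a root element. -/
def col1 (r : Fin chevE6.nroots) : chevE6.Idx → List (chevE6.Idx × ℤ)
  | Sum.inl i => [(Sum.inr r, -((chevE6.cartanSR.getD i.val #[]).getD r.val 0))]
  | Sum.inr s =>
    if s = r then []
    else if s.val = chevE6.negIdx.getD r.val 0 then
      (List.finRange chevE6.rank).filterMap fun i =>
        if (chevE6.coroot.getD r.val #[]).getD i.val 0 = 0 then none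
        else some (Sum.inl i, (chevE6.coroot.getD r.val #[]).getD i.val 0)
    else ((chevE6.chain.getD r.val #[]).toList.filter fun e => e.1 = s.val).flatMap fun e =>
      e.2.toList.map fun q => (Sum.inr (rootIx q.1), q.2)

/-- The terms quadratic in the parameter of a column of a root element. -/
def col2 (r : Fin chevE6.nroots) : chevE6.Idx → List (chevE6.Idx × ℤ)
  | Sum.inl _ => []
  | Sum.inr s =>
    if s = r then [] else if s.val = chevE6.negIdx.getD r.val 0 then [(Sum.inr r, -1)] else []

theorem chain_short : ∀ r : Fin chevE6.nroots, ∀ e ∈ (chevE6.chain.getD r.val #[]).toList,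
    e.2.toList.length ≤ 1 ∧ ∀ q ∈ e.2.toList, q.1 < 72 := by
  decide +kernel

theorem chainCoeff_short {L : List (ℕ × Array (ℕ × ℤ))}
    (hL : ∀ e ∈ L, e.2.toList.length ≤ 1 ∧ ∀ q ∈ e.2.toList, q.1 < 72) (u : Fin chevE6.nroots) (t : F) :
    ((L.flatMap fun e => ((e.2.toList.zipIdx).filter (fun q => q.1.1 = u.val)).map
        fun q => (q.2 + 1, q.1.2)).map fun km => ((km.2 : ℤ) : F) * t ^ km.1).sum =
      t * coef (L.flatMap fun e => e.2.toList.map fun q =>
        ((Sum.inr (rootIx q.1) : chevE6.Idx), q.2)) (Sum.inr u) := by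
  induction L with
  | nil => simp [coef]
  | cons e L ih =>
    obtain ⟨hlen, hlt⟩ := hL e List.mem_cons_self
    rw [List.flatMap_cons, List.map_append, List.sum_append, ih fun e' he' => hL e' (List.mem_cons_of_mem _ he'),
      List.flatMap_cons]
    simp only [coef, List.map_append, List.sum_append, mul_add]
    congr 1
    rcases hl : e.2.toList with _ | ⟨q, _ | ⟨q', l⟩⟩
    · simp
    · have hq : q.1 % 72 = q.1 := Nat.mod_eq_of_lt (hlt q (by rw [hl]; exact List.mem_cons_self))
      by_cases h : q.1 = u.val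
      · have : rootIx q.1 = u := Fin.ext (hq.trans h)
        have this' : rootIx u.val = u := h ▸ this
        simp [h, this', mul_comm]
      · have : rootIx q.1 ≠ u := fun hh => h (hq.symm.trans (congrArg Fin.val hh))
        simp [h, this]
    · rw [hl] at hlen; simp at hlen

theorem coef_nz {α : Type*} (l : List α) (w : α → chevE6.Idx) (c : α → ℤ) (u : chevE6.Idx) :
    coef (F := F) (l.filterMap fun i => if c i = 0 then none else some (w i, c i)) u =
      coef (l.map fun i => (w i, c i)) u := by
  induction l with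
  | nil => rfl
  | cons a l ih =>
    simp only [coef] at ih ⊢
    by_cases h : c a = 0
    · simp [h, ih]
    · simp [h, ih]

theorem xMat_apply (r : Fin chevE6.nroots) (t : F) (u j : chevE6.Idx) :
    chevE6.xMat F r t u j =
      (if u = j then 1 else 0) + t * coef (col1 r j) u + t ^ 2 * coef (col2 r j) u := by
  rcases j with i | s
  · rcases u with i' | u
    · simp [ChevalleyDatum.xMat, col1, col2, coef]
    · by_cases h : u = r
      · subst h; simp [ChevalleyDatum.xMat, col1, col2, coef, mul_comm]
      · simp [ChevalleyDatum.xMat, col1, col2, coef, h, Ne.symm h]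
  · by_cases h1 : s = r
    · subst h1
      rcases u with i | u <;> simp [ChevalleyDatum.xMat, col1, col2, coef]
    by_cases h2 : s.val = chevE6.negIdx.getD r.val 0
    · rcases u with i | u
      · simp only [ChevalleyDatum.xMat, col1, col2, coef_nz, Matrix.of_apply, if_neg h1, if_pos h2]
        simp only [coef]
        simp [List.map_map, Function.comp_def, ← List.ofFn_eq_map, List.sum_ofFn, mul_comm]
      · simp only [ChevalleyDatum.xMat, col1, col2, coef_nz, Matrix.of_apply, if_neg h1, if_pos h2]
        simp only [coef]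
        by_cases hu : u = s
        · subst hu; simp [List.map_map, Function.comp_def, h1, Ne.symm h1]
        · by_cases hur : u = r
          · subst hur; simp [List.map_map, Function.comp_def, hu]
          · simp [List.map_map, Function.comp_def, hu, hur, Ne.symm hur]
    · rcases u with i | u
      · simp only [ChevalleyDatum.xMat, col1, col2, coef, Matrix.of_apply, if_neg h1, if_neg h2]
        rw [List.map_flatMap, List.sum_eq_zero (l := List.flatMap _ _) (fun x hx => ?_)]
        · simp
        · obtain ⟨e, -, he⟩ := List.mem_flatMap.1 hx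
          simp only [List.map_map, List.mem_map] at he
          obtain ⟨q, -, rfl⟩ := he
          simp
      · simp only [ChevalleyDatum.xMat, col1, col2, Matrix.of_apply, if_neg h1, if_neg h2]
        rw [ChevalleyDatum.chainCoeff,
          chainCoeff_short (fun e he => chain_short r e (List.mem_filter.1 he).1) u t]
        simp [coef]

theorem sum_xMat (r : Fin chevE6.nroots) (t : F) (j : chevE6.Idx) :
    ∑ u, chevE6.xMat F r t u j • (Bm u : Matrix I27 I27 F) =
      Bm j + t • Zm (flat (col1 r j)) + t ^ 2 • Zm (flat (col2 r j)) := by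
  simp only [xMat_apply, add_smul, Finset.sum_add_distrib, ite_smul, one_smul, zero_smul,
    Finset.sum_ite_eq', Finset.mem_univ, if_true, mul_smul, ← Finset.smul_sum, sum_coef]

/-! ### The integer identities -/

/-- The identities in degrees one, two and three. -/
def colOK (r : Fin chevE6.nroots) (j : chevE6.Idx) : Bool :=
  isZero (mulL (eList r.val) (B j) ++ sclL (-1) (mulL (B j) (eList r.val)) ++ sclL (-1) (flat (col1 r j))) &&
  isZero (mulL (flat (col1 r j)) (eList r.val) ++ flat (col2 r j)) &&
  isZero (mulL (flat (col2 r j)) (eList r.val)) &&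
  inRange (flat (col1 r j)) && inRange (flat (col2 r j))

theorem col_ok_0 : ∀ r : Fin 9, ∀ j, colOK ⟨r.val + 0, show r.val + 0 < 72 by omega⟩ j = true := by decide +kernel
theorem col_ok_1 : ∀ r : Fin 9, ∀ j, colOK ⟨r.val + 9, show r.val + 9 < 72 by omega⟩ j = true := by decide +kernel
theorem col_ok_2 : ∀ r : Fin 9, ∀ j, colOK ⟨r.val + 18, show r.val + 18 < 72 by omega⟩ j = true := by decide +kernel
theorem col_ok_3 : ∀ r : Fin 9, ∀ j, colOK ⟨r.val + 27, show r.val + 27 < 72 by omega⟩ j = true := by decide +kernel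
theorem col_ok_4 : ∀ r : Fin 9, ∀ j, colOK ⟨r.val + 36, show r.val + 36 < 72 by omega⟩ j = true := by decide +kernel
theorem col_ok_5 : ∀ r : Fin 9, ∀ j, colOK ⟨r.val + 45, show r.val + 45 < 72 by omega⟩ j = true := by decide +kernel
theorem col_ok_6 : ∀ r : Fin 9, ∀ j, colOK ⟨r.val + 54, show r.val + 54 < 72 by omega⟩ j = true := by decide +kernel
theorem col_ok_7 : ∀ r : Fin 9, ∀ j, colOK ⟨r.val + 63, show r.val + 63 < 72 by omega⟩ j = true := by decide +kernel

theorem col_ok (r : Fin chevE6.nroots) (j : chevE6.Idx) : colOK r j = true := by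
  obtain ⟨n, hn⟩ := r
  have hn : n < 72 := hn
  rcases Nat.lt_or_ge n 9 with h1 | h1
  · have := col_ok_0 ⟨n - 0, by omega⟩ j
    simpa [Nat.sub_add_cancel (show 0 ≤ n by omega)] using this
  rcases Nat.lt_or_ge n 18 with h2 | h2
  · have := col_ok_1 ⟨n - 9, by omega⟩ j
    simpa [Nat.sub_add_cancel (show 9 ≤ n by omega)] using this
  rcases Nat.lt_or_ge n 27 with h3 | h3
  · have := col_ok_2 ⟨n - 18, by omega⟩ j
    simpa [Nat.sub_add_cancel (show 18 ≤ n by omega)] using this
  rcases Nat.lt_or_ge n 36 with h4 | h4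
  · have := col_ok_3 ⟨n - 27, by omega⟩ j
    simpa [Nat.sub_add_cancel (show 27 ≤ n by omega)] using this
  rcases Nat.lt_or_ge n 45 with h5 | h5
  · have := col_ok_4 ⟨n - 36, by omega⟩ j
    simpa [Nat.sub_add_cancel (show 36 ≤ n by omega)] using this
  rcases Nat.lt_or_ge n 54 with h6 | h6
  · have := col_ok_5 ⟨n - 45, by omega⟩ j
    simpa [Nat.sub_add_cancel (show 45 ≤ n by omega)] using this
  rcases Nat.lt_or_ge n 63 with h7 | h7
  · have := col_ok_6 ⟨n - 54, by omega⟩ j
    simpa [Nat.sub_add_cancel (show 54 ≤ n by omega)] using this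
  have := col_ok_7 ⟨n - 63, by omega⟩ j
  simpa [Nat.sub_add_cancel (show 63 ≤ n by omega)] using this

theorem B_inRange : ∀ j, inRange (B j) = true := by decide +kernel

/-- Conjugation of a matrix of the basis. -/
def N (M : Matrix chevE6.Idx chevE6.Idx F) (j : chevE6.Idx) : Matrix I27 I27 F := ∑ u, M u j • Bm u

theorem N_one (j : chevE6.Idx) : N (1 : Matrix chevE6.Idx chevE6.Idx F) j = Bm j := by
  simp [N, Matrix.one_apply, ite_smul]

/-- `g` acts on the basis by the matrix `M`. -/
def Rel (g : GL I27 F) (M : GL chevE6.Idx F) : Prop :=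
  ∀ j, (g : Matrix I27 I27 F) * Bm j = N (M : Matrix chevE6.Idx chevE6.Idx F) j * (g : Matrix I27 I27 F)

theorem conj_N {g : GL I27 F} {M : GL chevE6.Idx F} (h : Rel g M) (A : Matrix chevE6.Idx chevE6.Idx F)
    (j : chevE6.Idx) :
    (g : Matrix I27 I27 F) * N A j =
      N ((M : Matrix chevE6.Idx chevE6.Idx F) * A) j * (g : Matrix I27 I27 F) := by
  have e : N ((M : Matrix chevE6.Idx chevE6.Idx F) * A) j =
      ∑ u, A u j • N (M : Matrix chevE6.Idx chevE6.Idx F) u := by
    simp only [N, Matrix.mul_apply, Finset.sum_smul, Finset.smul_sum, smul_smul]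
    rw [Finset.sum_comm]
    exact Finset.sum_congr rfl fun u _ => Finset.sum_congr rfl fun v _ => by rw [mul_comm]
  rw [e, N, Finset.mul_sum, Finset.sum_mul]
  exact Finset.sum_congr rfl fun u _ => by rw [Matrix.mul_smul, h u, Matrix.smul_mul]

theorem Rel.one : Rel (1 : GL I27 F) 1 := fun j => by simp [N_one]

theorem Rel.mul {g g' : GL I27 F} {M M' : GL chevE6.Idx F} (h : Rel g M) (h' : Rel g' M') :
    Rel (g * g') (M * M') := fun j => by
  rw [Units.val_mul, Units.val_mul, Matrix.mul_assoc, h' j, ← Matrix.mul_assoc, conj_N h, Matrix.mul_assoc]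

theorem Rel.inv {g : GL I27 F} {M : GL chevE6.Idx F} (h : Rel g M) : Rel g⁻¹ M⁻¹ := fun j => by
  have h1 := conj_N h (((M⁻¹ : GL chevE6.Idx F) : Matrix chevE6.Idx chevE6.Idx F)) j
  rw [← Units.val_mul, mul_inv_cancel, Units.val_one, N_one] at h1
  calc ((g⁻¹ : GL I27 F) : Matrix I27 I27 F) * Bm j
      = ((g⁻¹ : GL I27 F) : Matrix I27 I27 F) * (Bm j * (g : Matrix I27 I27 F)) *
          ((g⁻¹ : GL I27 F) : Matrix I27 I27 F) := by
        rw [Matrix.mul_assoc, Matrix.mul_assoc, ← Units.val_mul, mul_inv_cancel, Units.val_one, Matrix.mul_one]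
    _ = _ := by
        rw [← h1, ← Matrix.mul_assoc, ← Units.val_mul, inv_mul_cancel, Units.val_one, Matrix.one_mul]

theorem X_rel (r : Fin chevE6.nroots) (t : F) (M : GL chevE6.Idx F)
    (hM : (M : Matrix chevE6.Idx chevE6.Idx F) = chevE6.xMat F r t) : Rel (X r.val t) M := fun j => by
  have hk := col_ok r j
  simp only [colOK, Bool.and_eq_true] at hk
  obtain ⟨⟨⟨⟨h1, h2⟩, h3⟩, r1⟩, r2⟩ := hk
  have e1 := Zm_eq_zero (F := F) h1
  have e2 := Zm_eq_zero (F := F) h2
  have e3 := Zm_eq_zero (F := F) h3
  have hr := eList_inRange r.val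
  simp only [Zm_append, Zm_scl, ← Zm_mul hr (B_inRange j), ← Zm_mul (B_inRange j) hr, Int.cast_neg,
    Int.cast_one, neg_smul, one_smul] at e1
  rw [Zm_append, ← Zm_mul r1 hr] at e2
  rw [← Zm_mul r2 hr] at e3
  rw [N, hM, sum_xMat, coe_X, Bm]
  linear_combination (norm := skip) t • e1 - t ^ 2 • e2 - t ^ 3 • e3
  simp only [add_mul, mul_add, one_mul, mul_one, Matrix.mul_smul, Matrix.smul_mul, smul_zero]
  module

/-! ### Uniqueness -/

/-- Functionals separating the basis: row, column, coefficient. -/
def probe : chevE6.Idx → List (ℕ × ℕ × ℤ)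
  | Sum.inl i => (lTab.getD i.val []).map fun e => (e.1, e.1, e.2)
  | Sum.inr s => match eList s.val with
    | [] => []
    | e :: _ => [e]

/-- The value of a functional on a sparse matrix. -/
def probeVal (P L : List (ℕ × ℕ × ℤ)) : ℤ :=
  (P.map fun e => e.2.2 * ((L.filter fun f => f.1 = e.1 ∧ f.2.1 = e.2.1).map fun f => f.2.2).sum).sum

theorem probe_ok : ∀ u w : chevE6.Idx, inRange (probe u) = true ∧
    probeVal (probe u) (B w) = if u = w then 1 else 0 := by
  decide +kernel

theorem indep (c : chevE6.Idx → F) (h : ∑ w, c w • (Bm w : Matrix I27 I27 F) = 0) : c = 0 := by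
  funext u
  have hp : ((probe u).map fun e => (e.2.2 : F) *
      (∑ w, c w • (Bm w : Matrix I27 I27 F)) (p e.1) (p e.2.1)).sum = c u := by
    have hr := inRange_spec (probe_ok u u).1
    have hv : ∀ w, ((probe u).map fun e => (e.2.2 : F) * (Bm w : Matrix I27 I27 F) (p e.1) (p e.2.1)).sum =
        if u = w then 1 else 0 := by
      intro w
      have h1 := congrArg (fun z : ℤ => (z : F)) (probe_ok u w).2
      simp only [probeVal, Int.cast_list_sum, List.map_map, Int.cast_ite, Int.cast_one, Int.cast_zero] at h1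
      rw [← h1]
      refine congrArg List.sum (List.map_congr_left fun e he => ?_)
      simp [Bm, Zm_apply (B_inRange w) (hr e he).1 (hr e he).2, Function.comp_def]
    calc _ = ∑ w, c w * ((probe u).map fun e => (e.2.2 : F) *
          (Bm w : Matrix I27 I27 F) (p e.1) (p e.2.1)).sum := by
          induction probe u with
          | nil => simp
          | cons e L ih =>
            rw [List.map_cons, List.sum_cons, ih]
            simp only [List.map_cons, List.sum_cons, mul_add, Finset.sum_add_distrib, Matrix.sum_apply,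
              Matrix.smul_apply, smul_eq_mul, Finset.mul_sum]
            congr 1
            exact Finset.sum_congr rfl fun w _ => by ring
      _ = c u := by simp [hv]
  rw [h] at hp
  simpa using hp.symm

theorem Rel.unique {g : GL I27 F} {M M' : GL chevE6.Idx F} (h : Rel g M) (h' : Rel g M') : M = M' := by
  refine Units.ext (Matrix.ext fun u j => ?_)
  have h1 : N (M : Matrix chevE6.Idx chevE6.Idx F) j = N (M' : Matrix chevE6.Idx chevE6.Idx F) j := by
    have h2 := (h j).symm.trans (h' j)
    simpa [Matrix.mul_assoc, ← Units.val_mul] using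
      congrArg (· * ((g⁻¹ : GL I27 F) : Matrix I27 I27 F)) h2
  have h2 := indep (F := F)
    (fun w => (M : Matrix chevE6.Idx chevE6.Idx F) w j - (M' : Matrix chevE6.Idx chevE6.Idx F) w j)
    (by simp only [sub_smul, Finset.sum_sub_distrib]; exact sub_eq_zero.2 h1)
  exact sub_eq_zero.1 (congrFun h2 u)

/-! ### The homomorphism -/

/-- The root element in the adjoint group. -/
noncomputable def xG (r : Fin chevE6.nroots) (t : F) : GL chevE6.Idx F := xg ChevalleyDataE6.cert r.val t

theorem coe_xG (r : Fin chevE6.nroots) (t : F) :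
    ((xG r t : GL chevE6.Idx F) : Matrix chevE6.Idx chevE6.Idx F) = chevE6.xMat F r t := by
  rw [xG, coe_xg, ChevalleyDatum.x, dif_pos (show r.val < chevE6.nroots from r.isLt)]

theorem exists_rel {g : GL I27 F} (hg : g ∈ Gu F) : ∃ M ∈ chevE6.group F, Rel g M := by
  refine Subgroup.closure_induction (p := fun g _ => ∃ M ∈ chevE6.group F, Rel g M) ?_
    ⟨1, one_mem _, Rel.one⟩ ?_ ?_ hg
  · rintro g ⟨r, hr, t, rfl⟩
    exact ⟨xG ⟨r, hr⟩ t, Subgroup.subset_closure ⟨⟨r, hr⟩, t, coe_xG _ t⟩, X_rel ⟨r, hr⟩ t _ (coe_xG _ t)⟩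
  · rintro g g' - - ⟨M, hM, h⟩ ⟨M', hM', h'⟩
    exact ⟨M * M', mul_mem hM hM', h.mul h'⟩
  · rintro g - ⟨M, hM, h⟩
    exact ⟨M⁻¹, inv_mem hM, h.inv⟩

theorem rel_exists {M : GL chevE6.Idx F} (hM : M ∈ chevE6.group F) : ∃ g ∈ Gu F, Rel g M := by
  refine Subgroup.closure_induction (p := fun M _ => ∃ g ∈ Gu F, Rel g M) ?_
    ⟨1, one_mem _, Rel.one⟩ ?_ ?_ hM
  · rintro M ⟨r, t, hM⟩
    exact ⟨X r.val t, X_mem_Gu r.isLt t, X_rel r t M hM⟩
  · rintro M M' - - ⟨g, hg, h⟩ ⟨g', hg', h'⟩
    exact ⟨g * g', mul_mem hg hg', h.mul h'⟩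
  · rintro M - ⟨g, hg, h⟩
    exact ⟨g⁻¹, inv_mem hg, h.inv⟩

variable [Fintype F]

/-- The map onto the adjoint group. -/
noncomputable def toAdj (hF : 3 ≤ Fintype.card F) : E6univ F →* chevE6.group F :=
  MonoidHom.mk'
    (fun g => ⟨(exists_rel (E6univ_le hF g.2)).choose, (exists_rel (E6univ_le hF g.2)).choose_spec.1⟩)
    fun g g' => Subtype.ext <| (exists_rel (E6univ_le hF (g * g').2)).choose_spec.2.unique
      ((exists_rel (E6univ_le hF g.2)).choose_spec.2.mul (exists_rel (E6univ_le hF g'.2)).choose_spec.2)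

theorem toAdj_rel (hF : 3 ≤ Fintype.card F) (g : E6univ F) : Rel (g : GL I27 F) (toAdj hF g : GL chevE6.Idx F) :=
  (exists_rel (E6univ_le hF g.2)).choose_spec.2

theorem toAdj_surjective (hF : 3 ≤ Fintype.card F) : Function.Surjective (toAdj (F := F) hF) := by
  rintro ⟨M, hM⟩
  obtain ⟨g, hg, h⟩ := rel_exists hM
  exact ⟨⟨g, Gu_le hg⟩, Subtype.ext ((toAdj_rel hF _).unique h)⟩

/-! ### The kernel -/

/-- Each pair of coordinates is separated by a diagonal matrix with difference a unit. -/
theorem weights_sep : ∀ x y : Fin 27, x = y ∨ ∃ i : Fin 6,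
    (wTab.getD i.val []).getD y.val 0 - (wTab.getD i.val []).getD x.val 0 = 1 ∨
    (wTab.getD i.val []).getD y.val 0 - (wTab.getD i.val []).getD x.val 0 = -1 := by
  decide +kernel

theorem diag_B : ∀ i : Fin 6, ∀ x y : Fin 27,
    (((B (Sum.inl i)).filter fun e => e.1 = x.val ∧ e.2.1 = y.val).map fun e => e.2.2).sum =
      if x = y then (wTab.getD i.val []).getD x.val 0 else 0 := by
  decide +kernel

/-- A root vector with a unit entry on each edge of the tree. -/
def treeOK : List (ℕ × ℕ × ℕ) → List ℕ → Bool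
  | [], seen => (List.range 27).all fun k => decide (k ∈ seen)
  | (v, par, r) :: rest, seen =>
    decide (v < 27 ∧ par < 27 ∧ par ∈ seen ∧ r < 72) &&
      decide (((((eList r).filter fun e => e.1 = v ∧ e.2.1 = par).map fun e => e.2.2).sum = 1 ∨
        (((eList r).filter fun e => e.1 = v ∧ e.2.1 = par).map fun e => e.2.2).sum = -1) ∨
        ((((eList r).filter fun e => e.1 = par ∧ e.2.1 = v).map fun e => e.2.2).sum = 1 ∨
        (((eList r).filter fun e => e.1 = par ∧ e.2.1 = v).map fun e => e.2.2).sum = -1)) &&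
      treeOK rest (v :: seen)

theorem tree_ok : treeOK treeTab [0] = true := by decide +kernel

omit [Fintype F] in
theorem scalar_of_comm {g : Matrix I27 I27 F} (h : ∀ j, g * Bm j = Bm j * g) :
    g = g (p 0) (p 0) • (1 : Matrix I27 I27 F) := by
  have hdiag : ∀ (i : Fin 6), (Bm (Sum.inl i) : Matrix I27 I27 F) =
      Matrix.diagonal fun x => (((wTab.getD i.val []).getD (code x) 0 : ℤ) : F) := by
    intro i
    ext x y
    conv_lhs => rw [← p_code x, ← p_code y]
    rw [Bm, Zm_apply (B_inRange _) (code_lt x) (code_lt y), diag_B i ⟨_, code_lt x⟩ ⟨_, code_lt y⟩]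
    by_cases hxy : x = y
    · subst hxy; simp
    · have : (⟨code x, code_lt x⟩ : Fin 27) ≠ ⟨code y, code_lt y⟩ := fun hh =>
        hxy (by rw [← p_code x, ← p_code y, Fin.mk.inj hh])
      simp [this, hxy]
  have hoff : ∀ x y, x ≠ y → g x y = 0 := by
    intro x y hxy
    rcases weights_sep ⟨_, code_lt x⟩ ⟨_, code_lt y⟩ with he | ⟨i, hi⟩
    · exact absurd (by rw [← p_code x, ← p_code y, Fin.mk.inj he]) hxy
    have h1 := congrFun (congrFun (h (Sum.inl i)) x) y
    rw [hdiag, Matrix.mul_diagonal, Matrix.diagonal_mul] at h1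
    rcases hi with hi | hi
    all_goals
      have h2 := congrArg (fun z : ℤ => (z : F)) hi
      simp only [Int.cast_sub, Int.cast_one, Int.cast_neg] at h2
      first
        | linear_combination h1 - g x y * h2
        | linear_combination -h1 + g x y * h2
  have hg : g = Matrix.diagonal fun x => g x x := by
    ext x y
    by_cases hxy : x = y
    · subst hxy; simp
    · rw [Matrix.diagonal_apply_ne _ hxy, hoff x y hxy]
  have hcon : ∀ (L : List (ℕ × ℕ × ℕ)) (seen : List ℕ), treeOK L seen = true →
      (∀ k ∈ seen, g (p k) (p k) = g (p 0) (p 0)) → ∀ k < 27, g (p k) (p k) = g (p 0) (p 0) := by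
    intro L
    induction L with
    | nil =>
      intro seen hok hs k hk
      simp only [treeOK, List.all_eq_true, List.mem_range, decide_eq_true_eq] at hok
      exact hs k (hok k hk)
    | cons e L ih =>
      intro seen hok hs
      obtain ⟨v, par, r⟩ := e
      simp only [treeOK, Bool.and_eq_true, decide_eq_true_eq] at hok
      obtain ⟨⟨⟨hv, hpar, hseen, hr⟩, hc⟩, hrest⟩ := hok
      refine ih _ hrest fun k hk => ?_
      rcases List.mem_cons.1 hk with rfl | hk
      · rw [← hs par hseen]
        rcases hc with hc | hc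
        · have h1 := congrFun (congrFun (h (Sum.inr ⟨r, hr⟩)) (p k)) (p par)
          rw [hg, Matrix.mul_diagonal, Matrix.diagonal_mul, Bm, Zm_apply (B_inRange _) hv hpar] at h1
          simp only [B] at h1
          rcases hc with hc | hc <;> rw [hc] at h1 <;> simpa using h1
        · have h1 := congrFun (congrFun (h (Sum.inr ⟨r, hr⟩)) (p par)) (p k)
          rw [hg, Matrix.mul_diagonal, Matrix.diagonal_mul, Bm, Zm_apply (B_inRange _) hpar hv] at h1
          simp only [B] at h1
          rcases hc with hc | hc <;> rw [hc] at h1 <;> simpa using h1.symm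
      · exact hs k hk
  ext x y
  by_cases hxy : x = y
  · subst hxy
    rw [Matrix.smul_apply, Matrix.one_apply_eq, smul_eq_mul, mul_one]
    simpa [p_code] using hcon _ _ tree_ok (fun k hk => by rw [List.mem_singleton.1 hk]) (code x) (code_lt x)
  · simp [hoff x y hxy, hxy]

/-- The diagonal matrices are commutators of root vectors. -/
theorem inl_comm : ∀ i : Fin 6, chevE6.simpleIdx.getD i.val 0 < 72 ∧
    chevE6.negIdx.getD (chevE6.simpleIdx.getD i.val 0) 0 < 72 ∧
    isZero (mulL (eList (chevE6.simpleIdx.getD i.val 0))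
        (eList (chevE6.negIdx.getD (chevE6.simpleIdx.getD i.val 0) 0)) ++
      sclL (-1) (mulL (eList (chevE6.negIdx.getD (chevE6.simpleIdx.getD i.val 0) 0))
        (eList (chevE6.simpleIdx.getD i.val 0))) ++ sclL (-1) (B (Sum.inl i))) = true := by
  decide +kernel

theorem ker_toAdj (hF : 3 ≤ Fintype.card F) : (toAdj (F := F) hF).ker = Subgroup.center (E6univ F) := by
  ext g
  rw [MonoidHom.mem_ker, Subgroup.mem_center_iff]
  constructor
  · intro h k
    have hrel := toAdj_rel hF g
    rw [h] at hrel
    have hs := scalar_of_comm fun j => by simpa [N_one] using hrel j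
    apply Subtype.ext
    apply Units.ext
    rw [Subgroup.coe_mul, Subgroup.coe_mul, Units.val_mul, Units.val_mul, hs, Matrix.smul_mul,
      Matrix.mul_smul, Matrix.one_mul, Matrix.mul_one]
  · intro h
    have hE : ∀ r < 72, ((g : GL I27 F) : Matrix I27 I27 F) * Zm (eList r) =
        Zm (eList r) * ((g : GL I27 F) : Matrix I27 I27 F) := by
      intro r hr
      have h1 := congrArg (fun x : E6univ F => ((x : GL I27 F) : Matrix I27 I27 F))
        (h ⟨X r (1 : F), X_mem hr 1⟩)
      simpa [coe_X, add_mul, mul_add] using h1.symm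
    refine Subtype.ext ((toAdj_rel hF g).unique fun j => ?_)
    rw [OneMemClass.coe_one, Units.val_one, N_one]
    rcases j with i | s
    · obtain ⟨hp, hn, hz⟩ := inl_comm i
      have hz' := Zm_eq_zero (F := F) hz
      simp only [Zm_append, Zm_scl, ← Zm_mul (eList_inRange _) (eList_inRange _), Int.cast_neg, Int.cast_one,
        neg_smul, one_smul, ← sub_eq_add_neg, sub_eq_zero] at hz'
      rw [Bm, ← hz', Matrix.mul_sub, Matrix.sub_mul, ← Matrix.mul_assoc, ← Matrix.mul_assoc, hE _ hp, hE _ hn,
        Matrix.mul_assoc, Matrix.mul_assoc, Matrix.mul_assoc, Matrix.mul_assoc, hE _ hp, hE _ hn]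
    · exact hE s.val s.isLt

/-- The isometries of the cubic form modulo the centre are the adjoint group. -/
theorem e6_equiv (hF : 3 ≤ Fintype.card F) : Nonempty (E6 F ≃* chevE6.group F) :=
  ⟨(QuotientGroup.quotientMulEquivOfEq (ker_toAdj hF).symm).trans
    (QuotientGroup.quotientKerEquivOfSurjective (toAdj hF) (toAdj_surjective hF))⟩

end Cfsg.Agent.E6CubicAdj29
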