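import Mathlib

/-!
Tables for the 27-dimensional representation of the Chevalley group of type E6 inside the isometries
of the cubic form, and a plan for reducing an isometry to the identity by root elements.
-/

set_option autoImplicit false
set_option maxRecDepth 10000

namespace Cfsg.Agent.E6CubicData29

/-- The monomials of the cubic form. -/
def tri : List (ℕ × ℕ × ℕ × ℤ) :=
  [(0, 4, 8, 1), (1, 5, 6, 1), (2, 3, 7, 1), (0, 5, 7, (-1)), (2, 4, 6, (-1)), (1, 3, 8, (-1)), (9, 13, 17, 1), (10, 14, 15, 1), (11, 12, 16, 1), (9, 14, 16, (-1)), (11, 13, 15, (-1)), (10, 12, 17, (-1)), (18, 22, 26, 1), (19, 23, 24, 1), (20, 21, 25, 1), (18, 23, 25, (-1)), (20, 22, 24, (-1)), (19, 21, 26, (-1)), (0, 9, 18, (-1)), (0, 10, 21, (-1)), (0, 11, 24, (-1)), (1, 12, 18, (-1)), (1, 13, 21, (-1)), (1, 14, 24, (-1)), (2, 15, 18, (-1)), (2, 16, 21, (-1)), (2,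 17, 24, (-1)), (3, 9, 19, (-1)), (3, 10, 22, (-1)), (3, 11, 25, (-1)), (4, 12, 19, (-1)), (4, 13, 22, (-1)), (4, 14, 25, (-1)), (5, 15, 19, (-1)), (5, 16, 22, (-1)), (5, 17, 25, (-1)), (6, 9, 20, (-1)), (6, 10, 23, (-1)), (6, 11, 26, (-1)), (7, 12, 20, (-1)), (7, 13, 23, (-1)), (7, 14, 26, (-1)), (8, 15, 20, (-1)), (8, 16, 23, (-1)), (8, 17, 26, (-1))]

/-- The root vectors: row, column, coefficient. -/
def eTab : List (List (ℕ × ℕ × ℤ)) :=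
  [[(10, 9, (-1)), (13, 12, (-1)), (16, 15, (-1)), (18, 21, 1), (19, 22, 1), (20, 23, 1)],
   [(2, 22, 1), (5, 21, (-1)), (10, 7, 1), (13, 6, (-1)), (20, 17, (-1)), (26, 15, 1)],
   [(0, 15, (-1)), (2, 9, 1), (13, 24, 1), (14, 21, (-1)), (19, 7, 1), (20, 4, (-1))],
   [(1, 15, 1), (2, 12, (-1)), (10, 24, 1), (11, 21, (-1)), (19, 6, 1), (20, 3, (-1))],
   [(2, 23, 1), (8, 21, (-1)), (10, 4, (-1)), (13, 3, 1), (19, 17, 1), (25, 15, (-1))],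
   [(0, 22, (-1)), (3, 21, 1), (13, 8, (-1)), (16, 7, 1), (20, 11, 1), (26, 9, (-1))],
   [(1, 22, 1), (4, 21, (-1)), (10, 8, (-1)), (16, 6, 1), (20, 14, (-1)), (26, 12, 1)],
   [(10, 11, 1), (13, 14, 1), (16, 17, 1), (24, 21, (-1)), (25, 22, (-1)), (26, 23, (-1))],
   [(0, 12, (-1)), (1, 9, 1), (16, 24, (-1)), (17, 21, 1), (19, 8, (-1)), (20, 5, 1)],
   [(0, 23, 1), (6, 21, (-1)), (13, 5, (-1)), (16, 4, 1), (19, 11, 1), (25, 9, (-1))],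
   [(1, 23, (-1)), (7, 21, 1), (10, 5, (-1)), (16, 3, 1), (19, 14, (-1)), (25, 12, 1)],
   [(0, 6, (-1)), (1, 7, (-1)), (2, 8, (-1)), (20, 18, 1), (23, 21, 1), (26, 24, 1)],
   [(0, 17, (-1)), (2, 11, 1), (12, 21, 1), (13, 18, (-1)), (25, 7, 1), (26, 4, (-1))],
   [(1, 17, 1), (2, 14, (-1)), (9, 21, 1), (10, 18, (-1)), (25, 6, 1), (26, 3, (-1))],
   [(0, 3, 1), (1, 4, 1), (2, 5, 1), (19, 18, (-1)), (22, 21, (-1)), (25, 24, (-1))],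
   [(0, 14, 1), (1, 11, (-1)), (15, 21, 1), (16, 18, (-1)), (25, 8, 1), (26, 5, (-1))],
   [(3, 15, (-1)), (5, 9, 1), (13, 25, 1), (14, 22, (-1)), (18, 7, (-1)), (20, 1, 1)],
   [(4, 15, 1), (5, 12, (-1)), (10, 25, 1), (11, 22, (-1)), (18, 6, (-1)), (20, 0, 1)],
   [(5, 23, 1), (8, 22, (-1)), (10, 1, 1), (13, 0, (-1)), (18, 17, (-1)), (24, 15, 1)],
   [(11, 9, (-1)), (14, 12, (-1)), (17, 15, (-1)), (18, 24, 1), (19, 25, 1), (20, 26, 1)],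
   [(6, 15, 1), (8, 9, (-1)), (13, 26, (-1)), (14, 23, 1), (18, 4, (-1)), (19, 1, 1)],
   [(7, 15, (-1)), (8, 12, 1), (10, 26, (-1)), (11, 23, 1), (18, 3, (-1)), (19, 0, 1)],
   [(3, 12, 1), (4, 9, (-1)), (16, 25, 1), (17, 22, (-1)), (18, 8, (-1)), (20, 2, 1)],
   [(3, 23, (-1)), (6, 22, 1), (13, 2, (-1)), (16, 1, 1), (18, 11, 1), (24, 9, (-1))],
   [(4, 23, 1), (7, 22, (-1)), (10, 2, (-1)), (16, 0, 1), (18, 14, (-1)), (24, 12, 1)],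
   [(6, 12, 1), (7, 9, (-1)), (16, 26, 1), (17, 23, (-1)), (18, 5, 1), (19, 2, (-1))],
   [(2, 25, 1), (5, 24, (-1)), (11, 7, 1), (14, 6, (-1)), (20, 16, 1), (23, 15, (-1))],
   [(2, 1, 1), (5, 4, 1), (8, 7, 1), (12, 15, (-1)), (13, 16, (-1)), (14, 17, (-1))],
   [(2, 0, 1), (5, 3, 1), (8, 6, 1), (9, 15, (-1)), (10, 16, (-1)), (11, 17, (-1))],
   [(2, 26, 1), (8, 24, (-1)), (11, 4, (-1)), (14, 3, 1), (19, 16, (-1)), (22, 15, 1)],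
   [(3, 6, (-1)), (4, 7, (-1)), (5, 8, (-1)), (20, 19, 1), (23, 22, 1), (26, 25, 1)],
   [(3, 17, (-1)), (5, 11, 1), (12, 22, 1), (13, 19, (-1)), (24, 7, (-1)), (26, 1, 1)],
   [(4, 17, 1), (5, 14, (-1)), (9, 22, 1), (10, 19, (-1)), (24, 6, (-1)), (26, 0, 1)],
   [(0, 25, 1), (3, 24, (-1)), (14, 8, 1), (17, 7, (-1)), (20, 10, 1), (23, 9, (-1))],
   [(0, 1, 1), (3, 4, 1), (6, 7, 1), (12, 9, (-1)), (13, 10, (-1)), (14, 11, (-1))],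
   [(1, 25, 1), (4, 24, (-1)), (11, 8, (-1)), (17, 6, 1), (20, 13, 1), (23, 12, (-1))],
   [(6, 17, 1), (8, 11, (-1)), (12, 23, (-1)), (13, 20, 1), (24, 4, (-1)), (25, 1, 1)],
   [(1, 0, 1), (4, 3, 1), (7, 6, 1), (9, 12, (-1)), (10, 13, (-1)), (11, 14, (-1))],
   [(7, 17, (-1)), (8, 14, 1), (9, 23, (-1)), (10, 20, 1), (24, 3, (-1)), (25, 0, 1)],
   [(0, 26, 1), (6, 24, (-1)), (14, 5, (-1)), (17, 4, 1), (19, 10, (-1)), (22, 9, 1)],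
   [(1, 26, 1), (7, 24, (-1)), (11, 5, 1), (17, 3, (-1)), (19, 13, (-1)), (22, 12, 1)],
   [(6, 3, (-1)), (7, 4, (-1)), (8, 5, (-1)), (19, 20, 1), (22, 23, 1), (25, 26, 1)],
   [(3, 14, 1), (4, 11, (-1)), (15, 22, 1), (16, 19, (-1)), (24, 8, (-1)), (26, 2, 1)],
   [(0, 2, 1), (3, 5, 1), (6, 8, 1), (15, 9, (-1)), (16, 10, (-1)), (17, 11, (-1))],
   [(1, 2, 1), (4, 5, 1), (7, 8, 1), (15, 12, (-1)), (16, 13, (-1)), (17, 14, (-1))],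
   [(6, 14, (-1)), (7, 11, 1), (15, 23, (-1)), (16, 20, 1), (24, 5, (-1)), (25, 2, 1)],
   [(2, 19, (-1)), (5, 18, 1), (9, 7, (-1)), (12, 6, 1), (23, 17, (-1)), (26, 16, 1)],
   [(0, 16, 1), (2, 10, (-1)), (12, 24, 1), (14, 18, (-1)), (22, 7, (-1)), (23, 4, 1)],
   [(1, 16, 1), (2, 13, (-1)), (9, 24, (-1)), (11, 18, 1), (22, 6, 1), (23, 3, (-1))],
   [(2, 20, 1), (8, 18, (-1)), (9, 4, (-1)), (12, 3, 1), (22, 17, (-1)), (25, 16, 1)],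
   [(0, 19, 1), (3, 18, (-1)), (12, 8, 1), (15, 7, (-1)), (23, 11, 1), (26, 10, (-1))],
   [(1, 19, 1), (4, 18, (-1)), (9, 8, (-1)), (15, 6, 1), (23, 14, 1), (26, 13, (-1))],
   [(9, 11, (-1)), (12, 14, (-1)), (15, 17, (-1)), (24, 18, 1), (25, 19, 1), (26, 20, 1)],
   [(0, 13, (-1)), (1, 10, 1), (15, 24, 1), (17, 18, (-1)), (22, 8, (-1)), (23, 5, 1)],
   [(0, 20, 1), (6, 18, (-1)), (12, 5, (-1)), (15, 4, 1), (22, 11, (-1)), (25, 10, 1)],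
   [(1, 20, 1), (7, 18, (-1)), (9, 5, 1), (15, 3, (-1)), (22, 14, (-1)), (25, 13, 1)],
   [(5, 26, (-1)), (8, 25, 1), (11, 1, (-1)), (14, 0, 1), (18, 16, (-1)), (21, 15, 1)],
   [(3, 0, 1), (4, 1, 1), (5, 2, 1), (18, 19, (-1)), (21, 22, (-1)), (24, 25, (-1))],
   [(3, 26, (-1)), (6, 25, 1), (14, 2, (-1)), (17, 1, 1), (18, 10, (-1)), (21, 9, 1)],
   [(4, 26, (-1)), (7, 25, 1), (11, 2, 1), (17, 0, (-1)), (18, 13, (-1)), (21, 12, 1)],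
   [(6, 0, (-1)), (7, 1, (-1)), (8, 2, (-1)), (18, 20, 1), (21, 23, 1), (24, 26, 1)],
   [(3, 16, 1), (5, 10, (-1)), (12, 25, 1), (14, 19, (-1)), (21, 7, 1), (23, 1, (-1))],
   [(4, 16, 1), (5, 13, (-1)), (9, 25, (-1)), (11, 19, 1), (21, 6, (-1)), (23, 0, 1)],
   [(5, 20, 1), (8, 19, (-1)), (9, 1, 1), (12, 0, (-1)), (21, 17, 1), (24, 16, (-1))],
   [(11, 10, 1), (14, 13, 1), (17, 16, 1), (21, 24, (-1)), (22, 25, (-1)), (23, 26, (-1))],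
   [(6, 16, 1), (8, 10, (-1)), (12, 26, 1), (14, 20, (-1)), (21, 4, (-1)), (22, 1, 1)],
   [(7, 16, 1), (8, 13, (-1)), (9, 26, (-1)), (11, 20, 1), (21, 3, 1), (22, 0, (-1))],
   [(3, 13, 1), (4, 10, (-1)), (15, 25, (-1)), (17, 19, 1), (21, 8, (-1)), (23, 2, 1)],
   [(3, 20, (-1)), (6, 19, 1), (12, 2, (-1)), (15, 1, 1), (21, 11, (-1)), (24, 10, 1)],
   [(4, 20, (-1)), (7, 19, 1), (9, 2, 1), (15, 0, (-1)), (21, 14, (-1)), (24, 13, 1)],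
   [(6, 13, (-1)), (7, 10, 1), (15, 26, 1), (17, 20, (-1)), (21, 5, (-1)), (22, 2, 1)],
   [(9, 10, (-1)), (12, 13, (-1)), (15, 16, (-1)), (21, 18, 1), (22, 19, 1), (23, 20, 1)]]

/-- The weights on the fundamental coroots. -/
def wTab : List (List ℤ) :=
  [[(-1), (-1), 0, 0, 0, 1, 0, 0, 1, 0, 0, 1, 0, 0, 1, (-1), (-1), 0, 1, 0, 0, 1, 0, 0, 0, (-1), (-1)], [0, 0, 1, 0, 0, 1, (-1), (-1), 0, 1, 0, 0, 1, 0, 0, 0, (-1), (-1), (-1), (-1), 0, 0, 0, 1, 0, 0, 1], [0, 0, (-1), 1, 1, 0, 0, 0, (-1), 0, 0, (-1), 0, 0, (-1), 1, 1, 0, 0, (-1), 0, 0, (-1), 0, 1, 0, 1], [1, 0, 0, 0, (-1), (-1), 1, 0, 0, (-1), (-1), 0, 0, 0, 1, 0, 0, 1, 0, 1, 0, 0, 1, 0, (-1), 0, (-1)], [(-1), 1, 0, (-1), 1, 0, (-1), 1, 0, 1, 1, 1, (-1), (-1), (-1), 0, 0, 0, 0, 0, 0, 0, 0, 0, 0, 0, 0], [0, (-1), 0, 0, (-1), 0, 1, 0, 1, 0, 0, (-1), 1, 1, 0, 0, 0, (-1), 0, 0, (-1), 0, 0, (-1),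 1, 1, 0]]

/-- A left inverse of the weight table. -/
def lTab : List (List (ℕ × ℤ)) :=
  [[(0, (-1)), (10, (-1))], [(9, 1), (10, (-1))], [(2, (-1)), (9, 1), (10, (-1))], [(2, (-1)), (3, (-1)), (9, 1), (10, (-2))], [(2, (-1)), (3, (-1)), (9, 1), (10, (-1))], [(0, 1), (1, (-1)), (2, (-1)), (3, (-1)), (9, 1)]]

/-- A tree of root-vector entries joining all 27 weights to the first. -/
def treeTab : List (ℕ × ℕ × ℕ) :=
  [(14, 0, 56), (26, 0, 39), (1, 0, 37), (3, 0, 57), (16, 0, 47), (2, 0, 43), (19, 0, 50), (25, 0, 38), (17, 0, 59), (6, 0, 60), (23, 0, 62), (12, 0, 63), (13, 0, 53), (20, 0, 54), (22, 0, 66), (15, 0, 69), (5, 14, 39), (11, 14, 37), (18, 14, 47), (8, 14, 38), (21, 14, 69), (10, 26, 50), (4, 26, 59), (24, 26, 60), (9, 26, 66), (7, 1, 60)]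

/-- How the first nonzero coordinate is obtained and scaled. -/
inductive Mode where
  | forced (s s' : ℕ)
  | free (via? : Option (ℕ × ℕ)) (hops : List (ℕ × ℕ × ℕ)) (scale : ℕ × ℕ × ℕ)

/-- One step: a weight, reasons for vanishing coordinates, eliminations and the quadratic equations. -/
structure Step where
  mu : ℕ
  zerosA : List (ℕ × ℕ × ℕ)
  zerosB : List (ℕ × ℕ × ℕ)
  elim : List (ℕ × ℕ)
  white : List (ℕ × ℕ)
  mode : Mode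

/-- The plan. -/
def plan : List Step :=
  [⟨0, [], [], [(1, 37), (2, 28), (3, 57), (6, 60), (12, 63), (13, 18), (14, 56), (15, 69), (16, 24), (17, 59), (19, 21), (20, 17), (22, 66), (23, 62), (25, 38), (26, 32)], [(4, 8), (5, 7), (7, 5), (8, 4), (9, 18), (10, 21), (11, 24), (18, 9), (21, 10), (24, 11)], .free none [(1, 0, 34), (2, 0, 43), (3, 0, 14), (6, 0, 11), (12, 0, 8), (13, 0, 53), (14, 0, 15), (15, 0, 2), (16, 0, 47), (17, 0, 12), (19, 0, 50), (20, 0, 54), (22, 0, 5), (23, 0, 9), (25, 0, 33), (26, 0, 39), (4, 1, 14), (7, 1, 11), (9, 1, 8), (10, 1, 53), (11, 1, 15), (5, 2, 14), (8, 2, 11), (18, 3, 50), (21, 3, 5), (24, 3, 33)] (1, 37, 34)⟩,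
   ⟨1, [(4, 0, 8), (5, 0, 7), (7, 0, 5), (8, 0, 4), (9, 0, 18), (10, 0, 21), (11, 0, 24), (18, 0, 9), (21, 0, 10), (24, 0, 11)], [], [(0, 34), (2, 27), (15, 68), (16, 23), (17, 58), (19, 20), (20, 16), (22, 65), (23, 61), (25, 36), (26, 31)], [(3, 8), (5, 6), (6, 5), (8, 3), (12, 18), (13, 21), (14, 24), (18, 12), (21, 13), (24, 14)], .free none [(2, 1, 44), (15, 1, 3), (16, 1, 48), (17, 1, 13), (19, 1, 51), (20, 1, 55), (22, 1, 6), (23, 1, 10), (25, 1, 35), (26, 1, 40), (12, 2, 3), (13, 2, 48), (14, 2, 13), (3, 15, 55), (6, 15, 51)] (2, 27, 44)⟩,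
   ⟨2, [(3, 1, 8), (4, 0, 8), (5, 0, 7), (6, 1, 5), (7, 0, 5), (8, 0, 4), (9, 0, 18), (10, 0, 21), (11, 0, 24), (12, 1, 18), (13, 1, 21), (14, 1, 24), (18, 0, 9), (21, 0, 10), (24, 0, 11)], [], [(0, 43), (1, 44), (19, 25), (20, 22), (22, 70), (23, 67), (25, 45), (26, 42)], [(3, 7), (4, 6), (6, 4), (7, 3), (15, 18), (16, 21), (17, 24), (18, 15), (21, 16), (24, 17)], .free none [(19, 2, 46), (20, 2, 49), (22, 2, 1), (23, 2, 4), (25, 2, 26), (26, 2, 29), (16, 19, 29), (17, 19, 4), (15, 22, 29)] (19, 25, 46)⟩,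
   ⟨9, [(3, 1, 8), (4, 2, 6), (5, 1, 6), (6, 1, 5), (7, 2, 3), (8, 1, 3), (12, 1, 18), (13, 1, 21), (14, 1, 24), (15, 2, 18), (16, 2, 21), (17, 2, 24), (18, 1, 12), (21, 1, 13), (24, 1, 14)], [], [(1, 8), (2, 2), (10, 0), (11, 19), (22, 39), (23, 33), (25, 9), (26, 5)], [(0, 18), (3, 19), (6, 20), (13, 17), (14, 16), (16, 14), (17, 13), (18, 0), (19, 3), (20, 6)], .free (some (0, 18)) [(10, 9, 71), (11, 9, 52)] (10, 0, 71)⟩,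
   ⟨18, [], [], [(3, 50), (4, 51), (5, 46), (6, 54), (7, 55), (8, 49), (10, 13), (11, 48), (13, 12), (14, 47), (16, 15), (17, 53), (19, 14), (20, 11), (21, 71), (24, 52)], [(0, 9), (1, 12), (2, 15), (9, 0), (12, 1), (15, 2), (22, 26), (23, 25), (25, 23), (26, 22)], .forced 0 9⟩,
   ⟨12, [(0, 9, 18), (3, 2, 7), (4, 0, 8), (5, 0, 7), (6, 2, 4), (7, 0, 5), (8, 0, 4), (9, 0, 18), (10, 0, 21), (11, 0, 24), (13, 9, 17), (14, 9, 16), (15, 2, 18), (16, 2, 21), (17, 2, 24), (18, 0, 9), (19, 9, 3), (20, 9, 6), (21, 0, 10), (24, 0, 11)], [], [(2, 3), (22, 40), (23, 35), (25, 10), (26, 6)], [(1, 18), (4, 19), (7, 20), (10, 17), (11, 16), (16, 11), (17, 10), (18, 1), (19, 4), (20, 7)], .forced 1 18⟩,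
   ⟨15, [(0, 9, 18), (1, 12, 18), (3, 1, 8), (4, 0, 8), (5, 0, 7), (6, 1, 5), (7, 0, 5), (8, 0, 4), (9, 0, 18), (10, 0, 21), (11, 0, 24), (12, 1, 18), (13, 1, 21), (14, 1, 24), (16, 9, 14), (17, 9, 13), (18, 0, 9), (19, 9, 3), (20, 9, 6), (21, 0, 10), (24, 0, 11)], [], [(22, 29), (23, 26), (25, 4), (26, 1)], [(2, 18), (5, 19), (8, 20), (10, 14), (11, 13), (13, 11), (14, 10), (18, 2), (19, 5), (20, 8)], .forced 2 18⟩,
   ⟨3, [(0, 18, 9), (1, 18, 12), (2, 18, 15), (4, 0, 8), (5, 0, 7), (7, 0, 5), (8, 0, 4), (9, 0, 18), (10, 0, 21), (11, 0, 24), (12, 18, 1), (13, 15, 11), (14, 15, 10), (15, 18, 2), (16, 12, 11), (17, 12, 10), (18, 0, 9), (19, 12, 4), (20, 12, 7), (21, 0, 10), (22, 18, 26), (23, 18, 25), (24, 0, 11), (25, 18, 23), (26, 18, 22)], [], [(6, 41)], [(1, 8), (2, 7), (7, 2), (8, 1), (9, 19), (10, 22), (11, 25), (19, 9), (22, 10), (25,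 11)], .free none [(6, 3, 30)] (6, 41, 30)⟩,
   ⟨7, [(0, 9, 18), (1, 18, 12), (2, 18, 15), (3, 1, 8), (5, 1, 6), (6, 1, 5), (8, 1, 3), (9, 18, 0), (10, 15, 14), (11, 15, 13), (12, 1, 18), (13, 1, 21), (14, 1, 24), (15, 18, 2), (16, 9, 14), (17, 9, 13), (18, 1, 12), (19, 9, 3), (20, 9, 6), (21, 1, 13), (22, 18, 26), (23, 18, 25), (24, 1, 14), (25, 18, 23), (26, 18, 22)], [], [(4, 30)], [(0, 5), (2, 3), (3, 2), (5, 0), (12, 20), (13, 23), (14, 26), (20, 12), (23, 13), (26, 14)], .forced 2 3⟩,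
   ⟨5, [(0, 9, 18), (1, 18, 12), (2, 18, 15), (3, 2, 7), (4, 2, 6), (6, 2, 4), (7, 2, 3), (8, 3, 1), (9, 18, 0), (10, 12, 17), (11, 12, 16), (12, 18, 1), (13, 9, 17), (14, 9, 16), (15, 2, 18), (16, 2, 21), (17, 2, 24), (18, 2, 15), (19, 9, 3), (20, 9, 6), (21, 2, 16), (22, 18, 26), (23, 18, 25), (24, 2, 17), (25, 18, 23), (26, 18, 22)], [], [], [(0, 7), (1, 6), (6, 1), (7, 0), (15, 19), (16, 22), (17, 25), (19, 15), (22, 16), (25, 17)], .forced 0 7⟩,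
   ⟨6, [(0, 18, 9), (1, 18, 12), (2, 18, 15), (3, 7, 2), (4, 0, 8), (5, 0, 7), (7, 0, 5), (8, 0, 4), (9, 0, 18), (10, 0, 21), (11, 0, 24), (12, 18, 1), (13, 15, 11), (14, 15, 10), (15, 18, 2), (16, 12, 11), (17, 12, 10), (18, 0, 9), (19, 12, 4), (20, 12, 7), (21, 0, 10), (22, 18, 26), (23, 18, 25), (24, 0, 11), (25, 18, 23), (26, 18, 22)], [], [], [(1, 5), (2, 4), (4, 2), (5, 1), (9, 20), (10, 23), (11, 26), (20, 9), (23, 10), (26, 11)], .forced 1 5⟩,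
   ⟨4, [(0, 9, 18), (1, 18, 12), (2, 18, 15), (3, 1, 8), (5, 1, 6), (6, 1, 5), (7, 3, 2), (8, 1, 3), (9, 18, 0), (10, 15, 14), (11, 15, 13), (12, 1, 18), (13, 1, 21), (14, 1, 24), (15, 18, 2), (16, 9, 14), (17, 9, 13), (18, 1, 12), (19, 9, 3), (20, 9, 6), (21, 1, 13), (22, 18, 26), (23, 18, 25), (24, 1, 14), (25, 18, 23), (26, 18, 22)], [], [], [(0, 8), (2, 6), (6, 2), (8, 0), (12, 19), (13, 22), (14, 25), (19, 12), (22, 13), (25, 14)], .forced 2 6⟩,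
   ⟨8, [(0, 9, 18), (1, 18, 12), (2, 18, 15), (3, 2, 7), (4, 2, 6), (5, 7, 0), (6, 2, 4), (7, 2, 3), (9, 18, 0), (10, 12, 17), (11, 12, 16), (12, 18, 1), (13, 9, 17), (14, 9, 16), (15, 2, 18), (16, 2, 21), (17, 2, 24), (18, 2, 15), (19, 9, 3), (20, 9, 6), (21, 2, 16), (22, 18, 26), (23, 18, 25), (24, 2, 17), (25, 18, 23), (26, 18, 22)], [], [], [(0, 4), (1, 3), (3, 1), (4, 0), (15, 20), (16, 23), (17, 26), (20, 15), (23, 16), (26, 17)], .forced 0 4⟩,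
   ⟨19, [(0, 18, 9), (1, 18, 12), (2, 18, 15), (3, 1, 8), (4, 0, 8), (5, 0, 7), (6, 1, 5), (7, 0, 5), (8, 0, 4), (9, 0, 18), (10, 0, 21), (11, 0, 24), (12, 1, 18), (13, 1, 21), (14, 1, 24), (15, 2, 18), (16, 2, 21), (17, 2, 24), (18, 0, 9), (20, 7, 12), (21, 0, 10), (22, 18, 26), (23, 18, 25), (24, 0, 11), (25, 18, 23), (26, 18, 22)], [], [], [(3, 9), (4, 12), (5, 15), (9, 3), (12, 4), (15, 5), (21, 26), (23, 24), (24, 23), (26, 21)], .forced 9 3⟩,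
   ⟨20, [(0, 18, 9), (1, 18, 12), (2, 18, 15), (3, 1, 8), (4, 0, 8), (5, 0, 7), (6, 1, 5), (7, 0, 5), (8, 0, 4), (9, 0, 18), (10, 0, 21), (11, 0, 24), (12, 1, 18), (13, 1, 21), (14, 1, 24), (15, 2, 18), (16, 2, 21), (17, 2, 24), (18, 0, 9), (19, 3, 9), (21, 0, 10), (22, 18, 26), (23, 18, 25), (24, 0, 11), (25, 18, 23), (26, 18, 22)], [], [], [(6, 9), (7, 12), (8, 15), (9, 6), (12, 7), (15, 8), (21, 25), (22, 24), (24, 22), (25, 21)], .forced 9 6⟩,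
   ⟨10, [(0, 9, 18), (1, 18, 12), (2, 18, 15), (3, 1, 8), (4, 2, 6), (5, 1, 6), (6, 1, 5), (7, 2, 3), (8, 1, 3), (9, 18, 0), (12, 1, 18), (13, 1, 21), (14, 1, 24), (15, 2, 18), (16, 2, 21), (17, 2, 24), (18, 1, 12), (19, 9, 3), (20, 9, 6), (21, 1, 13), (22, 18, 26), (23, 18, 25), (24, 1, 14), (25, 18, 23), (26, 18, 22)], [], [(11, 64)], [(0, 21), (3, 22), (6, 23), (12, 17), (14, 15), (15, 14), (17, 12), (21, 0), (22, 3), (23, 6)], .free none [(11, 10, 7)] (11, 64, 7)⟩,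
   ⟨14, [(0, 18, 9), (1, 18, 12), (2, 18, 15), (3, 2, 7), (4, 0, 8), (5, 0, 7), (6, 2, 4), (7, 0, 5), (8, 0, 4), (9, 0, 18), (10, 0, 21), (11, 0, 24), (12, 18, 1), (15, 2, 18), (16, 2, 21), (17, 2, 24), (18, 0, 9), (19, 12, 4), (20, 12, 7), (21, 0, 10), (22, 18, 26), (23, 18, 25), (24, 0, 11), (25, 18, 23), (26, 18, 22)], [], [(13, 7)], [(1, 24), (4, 25), (7, 26), (9, 16), (10, 15), (15, 10), (16, 9), (24, 1), (25, 4), (26, 7)], .forced 15 10⟩,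
   ⟨16, [(0, 18, 9), (1, 18, 12), (2, 18, 15), (3, 1, 8), (4, 0, 8), (5, 0, 7), (6, 1, 5), (7, 0, 5), (8, 0, 4), (9, 0, 18), (10, 0, 21), (11, 0, 24), (12, 1, 18), (13, 1, 21), (14, 1, 24), (15, 18, 2), (17, 10, 12), (18, 0, 9), (19, 15, 5), (20, 15, 8), (21, 0, 10), (22, 18, 26), (23, 18, 25), (24, 0, 11), (25, 18, 23), (26, 18, 22)], [], [], [(2, 21), (5, 22), (8, 23), (9, 14), (11, 12), (12, 11), (14, 9), (21, 2), (22, 5), (23, 8)], .forced 9 14⟩,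
   ⟨11, [(0, 9, 18), (1, 18, 12), (2, 18, 15), (3, 1, 8), (4, 2, 6), (5, 1, 6), (6, 1, 5), (7, 2, 3), (8, 1, 3), (9, 18, 0), (10, 14, 15), (12, 1, 18), (13, 1, 21), (14, 1, 24), (15, 2, 18), (16, 2, 21), (17, 2, 24), (18, 1, 12), (19, 9, 3), (20, 9, 6), (21, 1, 13), (22, 18, 26), (23, 18, 25), (24, 1, 14), (25, 18, 23), (26, 18, 22)], [], [], [(0, 24), (3, 25), (6, 26), (12, 16), (13, 15), (15, 13), (16, 12), (24, 0), (25, 3), (26, 6)], .forced 12 16⟩,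
   ⟨13, [(0, 18, 9), (1, 18, 12), (2, 18, 15), (3, 2, 7), (4, 0, 8), (5, 0, 7), (6, 2, 4), (7, 0, 5), (8, 0, 4), (9, 0, 18), (10, 0, 21), (11, 0, 24), (12, 18, 1), (14, 10, 15), (15, 2, 18), (16, 2, 21), (17, 2, 24), (18, 0, 9), (19, 12, 4), (20, 12, 7), (21, 0, 10), (22, 18, 26), (23, 18, 25), (24, 0, 11), (25, 18, 23), (26, 18, 22)], [], [], [(1, 21), (4, 22), (7, 23), (9, 17), (11, 15), (15, 11), (17, 9), (21, 1), (22, 4), (23, 7)], .forced 15 11⟩,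
   ⟨17, [(0, 18, 9), (1, 18, 12), (2, 18, 15), (3, 1, 8), (4, 0, 8), (5, 0, 7), (6, 1, 5), (7, 0, 5), (8, 0, 4), (9, 0, 18), (10, 0, 21), (11, 0, 24), (12, 1, 18), (13, 1, 21), (14, 1, 24), (15, 18, 2), (16, 14, 9), (18, 0, 9), (19, 15, 5), (20, 15, 8), (21, 0, 10), (22, 18, 26), (23, 18, 25), (24, 0, 11), (25, 18, 23), (26, 18, 22)], [], [], [(2, 24), (5, 25), (8, 26), (9, 13), (10, 12), (12, 10), (13, 9), (24, 2), (25, 5), (26, 8)], .forced 9 13⟩,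
   ⟨21, [(0, 9, 18), (1, 18, 12), (2, 18, 15), (3, 9, 19), (4, 12, 19), (5, 15, 19), (6, 9, 20), (7, 12, 20), (8, 15, 20), (9, 18, 0), (10, 12, 17), (11, 12, 16), (12, 18, 1), (13, 9, 17), (14, 9, 16), (15, 18, 2), (16, 9, 14), (17, 9, 13), (18, 9, 0), (19, 9, 3), (20, 9, 6), (22, 18, 26), (23, 18, 25), (24, 14, 1), (25, 18, 23), (26, 18, 22)], [], [], [(0, 10), (1, 13), (2, 16), (10, 0), (13, 1), (16, 2), (19, 26), (20, 25), (25, 20), (26, 19)], .forced 0 10⟩,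
   ⟨22, [(0, 9, 18), (1, 12, 18), (2, 15, 18), (3, 1, 8), (4, 0, 8), (5, 0, 7), (6, 1, 5), (7, 0, 5), (8, 0, 4), (9, 0, 18), (10, 0, 21), (11, 0, 24), (12, 1, 18), (13, 1, 21), (14, 1, 24), (15, 2, 18), (16, 2, 21), (17, 2, 24), (18, 0, 9), (19, 9, 3), (20, 9, 6), (21, 0, 10), (23, 7, 13), (24, 0, 11), (25, 14, 4), (26, 7, 14)], [], [], [(3, 10), (4, 13), (5, 16), (10, 3), (13, 4), (16, 5), (18, 26), (20, 24), (24, 20), (26, 18)], .forced 3 10⟩,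
   ⟨23, [(0, 9, 18), (1, 12, 18), (2, 15, 18), (3, 1, 8), (4, 0, 8), (5, 0, 7), (6, 1, 5), (7, 0, 5), (8, 0, 4), (9, 0, 18), (10, 0, 21), (11, 0, 24), (12, 1, 18), (13, 1, 21), (14, 1, 24), (15, 2, 18), (16, 2, 21), (17, 2, 24), (18, 0, 9), (19, 9, 3), (20, 9, 6), (21, 0, 10), (22, 3, 10), (24, 0, 11), (25, 3, 11), (26, 14, 7)], [], [], [(6, 10), (7, 13), (8, 16), (10, 6), (13, 7), (16, 8), (18, 25), (19, 24), (24, 19), (25, 18)], .forced 7 13⟩,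
   ⟨24, [(0, 9, 18), (1, 18, 12), (2, 18, 15), (3, 9, 19), (4, 12, 19), (5, 15, 19), (6, 9, 20), (7, 12, 20), (8, 15, 20), (9, 18, 0), (10, 12, 17), (11, 12, 16), (12, 18, 1), (13, 9, 17), (14, 9, 16), (15, 18, 2), (16, 9, 14), (17, 9, 13), (18, 9, 0), (19, 9, 3), (20, 9, 6), (21, 10, 0), (22, 18, 26), (23, 18, 25), (25, 18, 23), (26, 18, 22)], [], [], [(0, 11), (1, 14), (2, 17), (11, 0), (14, 1), (17, 2), (19, 23), (20, 22), (22, 20), (23, 19)], .forced 0 11⟩,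
   ⟨25, [(0, 9, 18), (1, 12, 18), (2, 15, 18), (3, 1, 8), (4, 0, 8), (5, 0, 7), (6, 1, 5), (7, 0, 5), (8, 0, 4), (9, 0, 18), (10, 0, 21), (11, 0, 24), (12, 1, 18), (13, 1, 21), (14, 1, 24), (15, 2, 18), (16, 2, 21), (17, 2, 24), (18, 0, 9), (19, 9, 3), (20, 9, 6), (21, 0, 10), (22, 10, 3), (23, 7, 13), (24, 0, 11), (26, 7, 14)], [], [], [(3, 11), (4, 14), (5, 17), (11, 3), (14, 4), (17, 5), (18, 23), (20, 21), (21, 20), (23, 18)], .forced 18 23⟩,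
   ⟨26, [(0, 9, 18), (1, 12, 18), (2, 15, 18), (3, 1, 8), (4, 0, 8), (5, 0, 7), (6, 1, 5), (7, 0, 5), (8, 0, 4), (9, 0, 18), (10, 0, 21), (11, 0, 24), (12, 1, 18), (13, 1, 21), (14, 1, 24), (15, 2, 18), (16, 2, 21), (17, 2, 24), (18, 0, 9), (19, 9, 3), (20, 9, 6), (21, 0, 10), (22, 3, 10), (23, 10, 6), (24, 0, 11), (25, 3, 11)], [], [], [(6, 11), (7, 14), (8, 17), (11, 6), (14, 7), (17, 8), (18, 22), (19, 21), (21, 19), (22, 18)], .forced 18 22⟩]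

end Cfsg.Agent.E6CubicData29
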