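import Cfsg.Prelude.Def_E6
import Cfsg.Agent.Lib.E6CubicData29

/-!
The cubic form in 27 variables as a list of monomials, its polar forms, root elements and their invariance.
-/

set_option autoImplicit false
set_option maxRecDepth 100000

namespace Cfsg.Agent.E6CubicForm29

open Cfsg.Lie Cfsg.Agent.E6CubicData29
open scoped Matrix

variable {F : Type*} [Field F]

/-- The `n`-th coordinate. -/
def p (n : ℕ) : I27 :=
  (⟨n / 9 % 3, Nat.mod_lt _ (by norm_num)⟩, ⟨n / 3 % 3, Nat.mod_lt _ (by norm_num)⟩,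
    ⟨n % 3, Nat.mod_lt _ (by norm_num)⟩)

/-- The number of a coordinate. -/
def code (i : I27) : ℕ := 9 * i.1.val + 3 * i.2.1.val + i.2.2.val

theorem p_code : ∀ i : I27, p (code i) = i := by decide +kernel

theorem code_lt : ∀ i : I27, code i < 27 := by decide +kernel

/-- Sparse sum over a list of monomials. -/
def ev3 (L : List (ℕ × ℕ × ℕ × ℤ)) (v : I27 → F) : F :=
  (L.map fun e => (e.2.2.2 : F) * (v (p e.1) * v (p e.2.1) * v (p e.2.2.1))).sum

theorem ev3_append (L M : List (ℕ × ℕ × ℕ × ℤ)) (v : I27 → F) :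
    ev3 (L ++ M) v = ev3 L v + ev3 M v := by simp [ev3]

theorem cubicT_eq (v : I27 → F) : cubicT v = ev3 tri v := by
  simp [cubicT, mat3, Matrix.det_fin_three, Matrix.trace, Matrix.mul_apply, Fin.sum_univ_three, ev3,
    tri, p]
  ring

/-- Sorting a triple. -/
def sort3 (a b c : ℕ) : ℕ × ℕ × ℕ :=
  if a ≤ b then (if b ≤ c then (a, b, c) else if a ≤ c then (a, c, b) else (c, a, b))
  else (if a ≤ c then (b, a, c) else if b ≤ c then (b, c, a) else (c, b, a))

theorem sort3_eval (a b c : ℕ) (v : I27 → F) :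
    v (p (sort3 a b c).1) * v (p (sort3 a b c).2.1) * v (p (sort3 a b c).2.2) =
      v (p a) * v (p b) * v (p c) := by
  unfold sort3
  split_ifs <;> ring

/-- The monomial of an entry. -/
def key (e : ℕ × ℕ × ℕ × ℤ) : ℕ :=
  let s := sort3 e.1 e.2.1 e.2.2.1
  1024 * s.1 + 32 * s.2.1 + s.2.2

/-- All monomials cancel. -/
def cancels (L : List (ℕ × ℕ × ℕ × ℤ)) : Bool :=
  L.all (fun e => decide (e.1 < 32 ∧ e.2.1 < 32 ∧ e.2.2.1 < 32)) &&
    L.all fun e => decide (((L.filter fun e' => key e' = key e).map fun e' => e'.2.2.2).sum = 0)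

theorem key_eval {e e' : ℕ × ℕ × ℕ × ℤ} (he : e.1 < 32 ∧ e.2.1 < 32 ∧ e.2.2.1 < 32)
    (he' : e'.1 < 32 ∧ e'.2.1 < 32 ∧ e'.2.2.1 < 32) (h : key e = key e') (v : I27 → F) :
    v (p e.1) * v (p e.2.1) * v (p e.2.2.1) = v (p e'.1) * v (p e'.2.1) * v (p e'.2.2.1) := by
  have hb : ∀ a b c : ℕ, a < 32 → b < 32 → c < 32 →
      (sort3 a b c).1 < 32 ∧ (sort3 a b c).2.1 < 32 ∧ (sort3 a b c).2.2 < 32 := by
    intro a b c ha hb hc
    unfold sort3
    split_ifs <;> exact ⟨by assumption, by assumption, by assumption⟩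
  rw [← sort3_eval e.1, ← sort3_eval e'.1]
  have h1 := hb _ _ _ he.1 he.2.1 he.2.2
  have h2 := hb _ _ _ he'.1 he'.2.1 he'.2.2
  simp only [key] at h
  generalize sort3 e.1 e.2.1 e.2.2.1 = s at *
  generalize sort3 e'.1 e'.2.1 e'.2.2.1 = s' at *
  obtain ⟨e1, e2, e3⟩ : s.1 = s'.1 ∧ s.2.1 = s'.2.1 ∧ s.2.2 = s'.2.2 :=
    ⟨by omega, by omega, by omega⟩
  rw [e1, e2, e3]

theorem ev3_eq_zero {L : List (ℕ × ℕ × ℕ × ℤ)} (h : cancels L = true) (v : I27 → F) :
    ev3 L v = 0 := by
  classical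
  simp only [cancels, Bool.and_eq_true, List.all_eq_true, decide_eq_true_eq] at h
  obtain ⟨hlt, hsum⟩ := h
  suffices hgen : ∀ n (M : List (ℕ × ℕ × ℕ × ℤ)), M.length ≤ n →
      (∀ e ∈ M, e.1 < 32 ∧ e.2.1 < 32 ∧ e.2.2.1 < 32) →
      (∀ e ∈ M, ((M.filter fun e' => key e' = key e).map fun e' => e'.2.2.2).sum = 0) →
      ev3 M v = 0 from hgen _ L le_rfl hlt hsum
  intro n
  induction n with
  | zero =>
    intro M hM _ _
    rw [List.length_eq_zero_iff.1 (Nat.le_zero.1 hM)]
    simp [ev3]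
  | succ n ih =>
    intro M hM hlt hsum
    rcases M with _ | ⟨e, M'⟩
    · simp [ev3]
    set M := e :: M' with hMdef
    have he : e ∈ M := List.mem_cons_self
    have hsplit : ev3 M v = ev3 (M.filter fun e' => key e' = key e) v +
        ev3 (M.filter fun e' => !decide (key e' = key e)) v := by
      rw [← ev3_append]
      exact (((List.filter_append_perm (fun e' => decide (key e' = key e)) M).map _).sum_eq).symm
    rw [hsplit]
    have h1 : ev3 (M.filter fun e' => key e' = key e) v = 0 := by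
      have hz := congrArg (fun z : ℤ => (z : F) * (v (p e.1) * v (p e.2.1) * v (p e.2.2.1))) (hsum e he)
      simp only [Int.cast_zero, zero_mul, Int.cast_list_sum, List.map_map,
        ← List.sum_map_mul_right] at hz
      rw [← hz, ev3]
      congr 1
      refine List.map_congr_left fun e' he' => ?_
      simp only [List.mem_filter, decide_eq_true_eq] at he'
      simp only [Function.comp_apply]
      rw [key_eval (hlt e' he'.1) (hlt e he) he'.2]
    rw [h1, zero_add]
    refine ih _ ?_ (fun e' he' => hlt e' (List.mem_filter.1 he').1) fun e' he' => ?_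
    · have : (M.filter fun e' => !decide (key e' = key e)).length < M.length :=
        List.length_filter_lt_length_iff_exists.2 ⟨e, he, by simp⟩
      omega
    · simp only [List.mem_filter, Bool.not_eq_true', decide_eq_false_iff_not] at he'
      rw [List.filter_filter]
      refine Eq.trans ?_ (hsum e' he'.1)
      congr 2
      refine List.filter_congr fun x _ => ?_
      by_cases hx : key x = key e'
      · simp [hx, he'.2]
      · simp [hx]

/-! ### Root elements -/

/-- A sparse matrix. -/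
def Zm (L : List (ℕ × ℕ × ℤ)) : Matrix I27 I27 F :=
  (L.map fun e => (e.2.2 : F) • Matrix.single (p e.1) (p e.2.1) (1 : F)).sum

/-- The list of a root vector. -/
def eList (r : ℕ) : List (ℕ × ℕ × ℤ) := eTab.getD r []

theorem Zm_mulVec (L : List (ℕ × ℕ × ℤ)) (v : I27 → F) (i : I27) :
    (Zm L *ᵥ v) i = (L.map fun e => if p e.1 = i then (e.2.2 : F) * v (p e.2.1) else 0).sum := by
  induction L with
  | nil => simp [Zm]
  | cons e L ih =>
    simp only [Zm, List.map_cons, List.sum_cons, Matrix.add_mulVec, Pi.add_apply] at ih ⊢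
    rw [ih, Matrix.smul_mulVec, Pi.smul_apply]
    congr 1
    by_cases h : p e.1 = i
    · subst h
      simp [Matrix.mulVec, dotProduct, Matrix.single_apply, eq_comm]
    · simp [Matrix.mulVec, dotProduct, Matrix.single_apply, h]

theorem Zm_mulVec_code (L : List (ℕ × ℕ × ℤ)) (v : I27 → F) {n : ℕ}
    (hL : ∀ e ∈ L, e.1 < 27) (hn : n < 27) :
    (Zm L *ᵥ v) (p n) = ((L.filter fun e => e.1 = n).map fun e => (e.2.2 : F) * v (p e.2.1)).sum := by
  rw [Zm_mulVec]
  have hinj : ∀ a b : Fin 27, p a.val = p b.val → a = b := by decide +kernel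
  induction L with
  | nil => simp
  | cons e L ih =>
    have he := hL e List.mem_cons_self
    rw [List.map_cons, List.sum_cons, ih fun e' he' => hL e' (List.mem_cons_of_mem _ he')]
    by_cases h : e.1 = n
    · simp [List.filter_cons, h]
    · have : p e.1 ≠ p n := fun hp => h (congrArg Fin.val (hinj ⟨e.1, he⟩ ⟨n, hn⟩ hp))
      simp [List.filter_cons, h, this]

/-- Products of sparse matrices. -/
def mulL (L M : List (ℕ × ℕ × ℤ)) : List (ℕ × ℕ × ℤ) :=
  L.flatMap fun e => (M.filter fun f => f.1 = e.2.1).map fun f => (e.1, f.2.1, e.2.2 * f.2.2)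

/-- Multiples of sparse matrices. -/
def sclL (c : ℤ) (L : List (ℕ × ℕ × ℤ)) : List (ℕ × ℕ × ℤ) := L.map fun e => (e.1, e.2.1, c * e.2.2)

theorem Zm_append (L M : List (ℕ × ℕ × ℤ)) : (Zm (L ++ M) : Matrix I27 I27 F) = Zm L + Zm M := by
  simp [Zm]

theorem Zm_scl (c : ℤ) (L : List (ℕ × ℕ × ℤ)) :
    (Zm (sclL c L) : Matrix I27 I27 F) = (c : F) • Zm L := by
  induction L with
  | nil => simp [Zm, sclL]
  | cons e L ih =>
    simp only [Zm, sclL, List.map_cons, List.sum_cons, smul_add] at ih ⊢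
    rw [ih, smul_smul, Int.cast_mul]

/-- All indices are in range. -/
def inRange (L : List (ℕ × ℕ × ℤ)) : Bool := L.all fun e => decide (e.1 < 27 ∧ e.2.1 < 27)

theorem inRange_spec {L : List (ℕ × ℕ × ℤ)} (h : inRange L = true) :
    ∀ e ∈ L, e.1 < 27 ∧ e.2.1 < 27 := by
  simpa [inRange] using h

theorem Zm_mul {L M : List (ℕ × ℕ × ℤ)} (hL : inRange L = true) (hM : inRange M = true) :
    (Zm L * Zm M : Matrix I27 I27 F) = Zm (mulL L M) := by
  have hinj : ∀ a b : Fin 27, p a.val = p b.val → a = b := by decide +kernel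
  have hL' := inRange_spec hL
  have hM' := inRange_spec hM
  clear hL hM
  induction L with
  | nil => simp [Zm, mulL]
  | cons e L ih =>
    have he := hL' e List.mem_cons_self
    have h1 : (Zm (e :: L) : Matrix I27 I27 F) =
        (e.2.2 : F) • Matrix.single (p e.1) (p e.2.1) (1 : F) + Zm L := by simp [Zm]
    have h2 : mulL (e :: L) M =
        ((M.filter fun f => f.1 = e.2.1).map fun f => (e.1, f.2.1, e.2.2 * f.2.2)) ++ mulL L M := by
      simp [mulL]
    rw [h1, h2, add_mul, Zm_append, ih fun e' he' => hL' e' (List.mem_cons_of_mem _ he')]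
    congr 1
    clear ih h1 h2
    induction M with
    | nil => simp [Zm]
    | cons f M ihM =>
      have hf := hM' f List.mem_cons_self
      have h1 : (Zm (f :: M) : Matrix I27 I27 F) =
          (f.2.2 : F) • Matrix.single (p f.1) (p f.2.1) (1 : F) + Zm M := by simp [Zm]
      rw [h1, mul_add, ihM fun f' hf' => hM' f' (List.mem_cons_of_mem _ hf')]
      by_cases h : f.1 = e.2.1
      · simp [List.filter_cons, h, Zm, Matrix.single_mul_single_same, smul_smul, mul_comm]
      · have : p e.2.1 ≠ p f.1 := fun hp =>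
          h (congrArg Fin.val (hinj ⟨e.2.1, he.2⟩ ⟨f.1, hf.1⟩ hp)).symm
        simp [List.filter_cons, h, Matrix.single_mul_single_of_ne, this]

/-- A sparse matrix vanishes. -/
def isZero (L : List (ℕ × ℕ × ℤ)) : Bool :=
  inRange L && L.all fun e =>
    decide (((L.filter fun e' => e'.1 = e.1 ∧ e'.2.1 = e.2.1).map fun e' => e'.2.2).sum = 0)

theorem Zm_apply {L : List (ℕ × ℕ × ℤ)} (hL : inRange L = true) {a b : ℕ} (ha : a < 27) (hb : b < 27) :
    (Zm L : Matrix I27 I27 F) (p a) (p b) =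
      ((((L.filter fun e => e.1 = a ∧ e.2.1 = b).map fun e => e.2.2).sum : ℤ) : F) := by
  have hinj : ∀ a b : Fin 27, p a.val = p b.val → a = b := by decide +kernel
  have hL' := inRange_spec hL
  clear hL
  induction L with
  | nil => simp [Zm]
  | cons e L ih =>
    have he := hL' e List.mem_cons_self
    have h1 : (Zm (e :: L) : Matrix I27 I27 F) =
        (e.2.2 : F) • Matrix.single (p e.1) (p e.2.1) (1 : F) + Zm L := by simp [Zm]
    rw [h1, Matrix.add_apply, ih fun e' he' => hL' e' (List.mem_cons_of_mem _ he'), Matrix.smul_apply,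
      Matrix.single_apply]
    by_cases h : e.1 = a ∧ e.2.1 = b
    · simp [List.filter_cons, h]
    · have : ¬ (p e.1 = p a ∧ p e.2.1 = p b) := fun hp =>
        h ⟨congrArg Fin.val (hinj ⟨e.1, he.1⟩ ⟨a, ha⟩ hp.1),
          congrArg Fin.val (hinj ⟨e.2.1, he.2⟩ ⟨b, hb⟩ hp.2)⟩
      simp [List.filter_cons, h, this]

theorem Zm_eq_zero {L : List (ℕ × ℕ × ℤ)} (h : isZero L = true) : (Zm L : Matrix I27 I27 F) = 0 := by
  simp only [isZero, Bool.and_eq_true, List.all_eq_true, decide_eq_true_eq] at h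
  obtain ⟨hL, hsum⟩ := h
  ext i j
  rw [← p_code i, ← p_code j, Zm_apply hL (code_lt i) (code_lt j), Matrix.zero_apply]
  by_cases hex : ∃ e ∈ L, e.1 = code i ∧ e.2.1 = code j
  · obtain ⟨e, he, h1, h2⟩ := hex
    have := hsum e he
    rw [h1, h2] at this
    rw [this, Int.cast_zero]
  · push Not at hex
    rw [List.filter_eq_nil_iff.2 (fun e he => by simpa using hex e he)]
    simp

theorem eList_ok : ∀ r : Fin 72, inRange (eList r.val) = true ∧
    isZero (mulL (eList r.val) (eList r.val)) = true := by decide +kernel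

theorem eList_inRange (r : ℕ) : inRange (eList r) = true := by
  by_cases hr : r < 72
  · exact (eList_ok ⟨r, hr⟩).1
  · have : eTab.length = 72 := by decide +kernel
    have h0 : eList r = [] := List.getD_eq_default _ _ (by omega)
    simp [h0, inRange]

theorem eList_sq (r : ℕ) : (Zm (eList r) * Zm (eList r) : Matrix I27 I27 F) = 0 := by
  rw [Zm_mul (eList_inRange r) (eList_inRange r)]
  refine Zm_eq_zero ?_
  by_cases hr : r < 72
  · exact (eList_ok ⟨r, hr⟩).2
  · have : eTab.length = 72 := by decide +kernel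
    have h0 : eList r = [] := List.getD_eq_default _ _ (by omega)
    simp [h0, mulL, isZero, inRange]

theorem one_add_mul (r : ℕ) (t u : F) :
    (1 + t • Zm (eList r)) * (1 + u • Zm (eList r)) = (1 + (t + u) • Zm (eList r) : Matrix I27 I27 F) := by
  simp only [add_mul, mul_add, Matrix.mul_smul, Matrix.smul_mul, eList_sq, smul_zero,
    add_zero, one_mul, mul_one, add_smul]
  abel

/-- The root element `1 + t E_r` on the 27 coordinates. -/
def X (r : ℕ) (t : F) : GL I27 F :=
  ⟨1 + t • Zm (eList r), 1 + (-t) • Zm (eList r), by rw [one_add_mul, add_neg_cancel, zero_smul, add_zero],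
    by rw [one_add_mul, neg_add_cancel, zero_smul, add_zero]⟩

theorem coe_X (r : ℕ) (t : F) : ((X r t : GL I27 F) : Matrix I27 I27 F) = 1 + t • Zm (eList r) := rfl

theorem X_mulVec (r : ℕ) (t : F) (v : I27 → F) :
    ((X r t : GL I27 F) : Matrix I27 I27 F) *ᵥ v = v + t • (Zm (eList r) *ᵥ v) := by
  rw [coe_X, Matrix.add_mulVec, Matrix.one_mulVec, Matrix.smul_mulVec]

/-! ### Invariance -/

/-- The entries of a root vector in a row. -/
def rowOf (r a : ℕ) : List (ℕ × ℕ × ℤ) := (eList r).filter fun e => e.1 = a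

/-- Monomials of degree one in the parameter. -/
def deg1 (r : ℕ) : List (ℕ × ℕ × ℕ × ℤ) :=
  tri.flatMap fun t =>
    ((rowOf r t.1).map fun e => (e.2.1, t.2.1, t.2.2.1, e.2.2 * t.2.2.2)) ++
    ((rowOf r t.2.1).map fun e => (t.1, e.2.1, t.2.2.1, e.2.2 * t.2.2.2)) ++
    ((rowOf r t.2.2.1).map fun e => (t.1, t.2.1, e.2.1, e.2.2 * t.2.2.2))

/-- Monomials of degree two in the parameter. -/
def deg2 (r : ℕ) : List (ℕ × ℕ × ℕ × ℤ) :=
  tri.flatMap fun t =>
    ((rowOf r t.1).flatMap fun e => (rowOf r t.2.1).map fun f =>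
      (e.2.1, f.2.1, t.2.2.1, e.2.2 * f.2.2 * t.2.2.2)) ++
    ((rowOf r t.1).flatMap fun e => (rowOf r t.2.2.1).map fun f =>
      (e.2.1, t.2.1, f.2.1, e.2.2 * f.2.2 * t.2.2.2)) ++
    ((rowOf r t.2.1).flatMap fun e => (rowOf r t.2.2.1).map fun f =>
      (t.1, e.2.1, f.2.1, e.2.2 * f.2.2 * t.2.2.2))

/-- No monomial of degree three in the parameter. -/
def deg3ok (r : ℕ) : Bool :=
  tri.all fun t => (rowOf r t.1).isEmpty || (rowOf r t.2.1).isEmpty || (rowOf r t.2.2.1).isEmpty

theorem tri_lt : ∀ t ∈ tri, t.1 < 27 ∧ t.2.1 < 27 ∧ t.2.2.1 < 27 := by decide +kernel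

theorem inv_ok : ∀ r : Fin 72,
    cancels (deg1 r.val) = true ∧ cancels (deg2 r.val) = true ∧ deg3ok r.val = true := by
  decide +kernel

theorem cubicT_X {r : ℕ} (hr : r < 72) (t : F) (v : I27 → F) :
    cubicT (((X r t : GL I27 F) : Matrix I27 I27 F) *ᵥ v) = cubicT v := by
  obtain ⟨h1, h2, h3⟩ := inv_ok ⟨r, hr⟩
  simp only [deg3ok, List.all_eq_true, Bool.or_eq_true, List.isEmpty_iff] at h3
  rw [X_mulVec, cubicT_eq, cubicT_eq]
  set w := Zm (eList r) *ᵥ v with hw
  have hrow : ∀ a < 27, w (p a) = ((rowOf r a).map fun e => (e.2.2 : F) * v (p e.2.1)).sum :=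
    fun a ha => Zm_mulVec_code _ _ (fun e he => (inRange_spec (eList_inRange r) e he).1) ha
  suffices h : ev3 tri (v + t • w) = ev3 tri v + t * ev3 (deg1 r) v + t ^ 2 * ev3 (deg2 r) v by
    rw [h, ev3_eq_zero h1, ev3_eq_zero h2]; ring
  have key : ∀ L : List (ℕ × ℕ × ℕ × ℤ), (∀ e ∈ L, e ∈ tri) → ev3 L (v + t • w) = ev3 L v +
      t * (L.map fun e => (e.2.2.2 : F) * (w (p e.1) * v (p e.2.1) * v (p e.2.2.1) +
        v (p e.1) * w (p e.2.1) * v (p e.2.2.1) + v (p e.1) * v (p e.2.1) * w (p e.2.2.1))).sum +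
      t ^ 2 * (L.map fun e => (e.2.2.2 : F) * (w (p e.1) * w (p e.2.1) * v (p e.2.2.1) +
        w (p e.1) * v (p e.2.1) * w (p e.2.2.1) + v (p e.1) * w (p e.2.1) * w (p e.2.2.1))).sum := by
    intro L hL
    induction L with
    | nil => simp [ev3]
    | cons e L ih =>
      have ht := hL e List.mem_cons_self
      have hz : w (p e.1) * w (p e.2.1) * w (p e.2.2.1) = 0 := by
        obtain ⟨l1, l2, l3⟩ := tri_lt e ht
        rcases h3 e ht with (h | h) | h
        · simp [hrow _ l1, h]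
        · simp [hrow _ l2, h]
        · simp [hrow _ l3, h]
      have := ih fun e' he' => hL e' (List.mem_cons_of_mem _ he')
      simp only [ev3, List.map_cons, List.sum_cons, Pi.add_apply, Pi.smul_apply, smul_eq_mul] at this ⊢
      linear_combination this + (e.2.2.2 : F) * t ^ 3 * hz
  rw [key tri fun e he => he]
  have hflat : ∀ (f : ℕ × ℕ × ℕ × ℤ → List (ℕ × ℕ × ℕ × ℤ)) (g : ℕ × ℕ × ℕ × ℤ → F),
      (∀ e ∈ tri, ev3 (f e) v = g e) → ev3 (tri.flatMap f) v = (tri.map g).sum := by
    intro f g hfg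
    have : ∀ L : List (ℕ × ℕ × ℕ × ℤ), (∀ e ∈ L, e ∈ tri) → ev3 (L.flatMap f) v = (L.map g).sum := by
      intro L hL
      induction L with
      | nil => simp [ev3]
      | cons e L ih =>
        rw [List.flatMap_cons, ev3_append, hfg e (hL e List.mem_cons_self),
          ih fun e' he' => hL e' (List.mem_cons_of_mem _ he'), List.map_cons, List.sum_cons]
    exact this tri fun e he => he
  congr 1
  · congr 1
    congr 1
    refine (hflat _ _ fun e he => ?_).symm
    obtain ⟨l1, l2, l3⟩ := tri_lt e he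
    rw [ev3_append, ev3_append, hrow _ l1, hrow _ l2, hrow _ l3]
    simp only [ev3, List.map_map, Function.comp_def, Int.cast_mul, mul_add,
      ← List.sum_map_mul_left, ← List.sum_map_mul_right]
    congr 1
    · congr 1
      · congr 1; exact List.map_congr_left fun x _ => by ring
      · congr 1; exact List.map_congr_left fun x _ => by ring
    · congr 1; exact List.map_congr_left fun x _ => by ring
  · congr 1
    refine (hflat _ _ fun e he => ?_).symm
    obtain ⟨l1, l2, l3⟩ := tri_lt e he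
    have hpair : ∀ (A B : List (ℕ × ℕ × ℤ)) (f : (ℕ × ℕ × ℤ) → (ℕ × ℕ × ℤ) → ℕ × ℕ × ℕ × ℤ)
        (g : (ℕ × ℕ × ℤ) → (ℕ × ℕ × ℤ) → F),
        (∀ a b, ((f a b).2.2.2 : F) * (v (p (f a b).1) * v (p (f a b).2.1) * v (p (f a b).2.2.1)) = g a b) →
        ev3 (A.flatMap fun a => B.map (f a)) v = (A.map fun a => (B.map (g a)).sum).sum := by
      intro A B f g hfg
      induction A with
      | nil => simp [ev3]
      | cons a A ih =>
        rw [List.flatMap_cons, ev3_append, ih, List.map_cons, List.sum_cons]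
        congr 1
        simp only [ev3, List.map_map, Function.comp_def, hfg]
    have hprod : ∀ (A B : List (ℕ × ℕ × ℤ)) (K : F),
        (A.map fun a => (B.map fun b => (a.2.2 : F) * v (p a.2.1) * ((b.2.2 : F) * v (p b.2.1)) * K).sum).sum
          = (A.map fun a => (a.2.2 : F) * v (p a.2.1)).sum * (B.map fun b => (b.2.2 : F) * v (p b.2.1)).sum * K := by
      intro A B K
      simp only [List.sum_map_mul_left, List.sum_map_mul_right]
    rw [ev3_append, ev3_append, hrow _ l1, hrow _ l2, hrow _ l3]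
    rw [hpair _ _ _ (fun a b => (a.2.2 : F) * v (p a.2.1) * ((b.2.2 : F) * v (p b.2.1)) *
        ((e.2.2.2 : F) * v (p e.2.2.1))) (fun a b => by push_cast; ring),
      hpair _ _ _ (fun a b => (a.2.2 : F) * v (p a.2.1) * ((b.2.2 : F) * v (p b.2.1)) *
        ((e.2.2.2 : F) * v (p e.2.1))) (fun a b => by push_cast; ring),
      hpair _ _ _ (fun a b => (a.2.2 : F) * v (p a.2.1) * ((b.2.2 : F) * v (p b.2.1)) *
        ((e.2.2.2 : F) * v (p e.1))) (fun a b => by push_cast; ring),
      hprod, hprod, hprod]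
    ring

theorem X_mem {r : ℕ} (hr : r < 72) (t : F) : X r t ∈ E6univ F := fun v => cubicT_X hr t v

/-! ### Polar forms -/

/-- The part of `T(u + v)` quadratic in `u`. -/
def Qf (u v : I27 → F) : F :=
  (tri.map fun e => (e.2.2.2 : F) * (u (p e.1) * u (p e.2.1) * v (p e.2.2.1) +
    u (p e.1) * v (p e.2.1) * u (p e.2.2.1) + v (p e.1) * u (p e.2.1) * u (p e.2.2.1))).sum

/-- The trilinear form. -/
def Pf (u v w : I27 → F) : F := Qf (u + v) w - Qf u w - Qf v w

theorem cubicT_add_smul (u v : I27 → F) (s : F) :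
    cubicT (u + s • v) = cubicT u + s * Qf u v + s ^ 2 * Qf v u + s ^ 3 * cubicT v := by
  simp only [cubicT_eq, Qf]
  suffices h : ∀ L : List (ℕ × ℕ × ℕ × ℤ), ev3 L (u + s • v) = ev3 L u +
      s * (L.map fun e => (e.2.2.2 : F) * (u (p e.1) * u (p e.2.1) * v (p e.2.2.1) +
        u (p e.1) * v (p e.2.1) * u (p e.2.2.1) + v (p e.1) * u (p e.2.1) * u (p e.2.2.1))).sum +
      s ^ 2 * (L.map fun e => (e.2.2.2 : F) * (v (p e.1) * v (p e.2.1) * u (p e.2.2.1) +
        v (p e.1) * u (p e.2.1) * v (p e.2.2.1) + u (p e.1) * v (p e.2.1) * v (p e.2.2.1))).sum +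
      s ^ 3 * ev3 L v from h tri
  intro L
  induction L with
  | nil => simp [ev3]
  | cons e L ih =>
    simp only [ev3, List.map_cons, List.sum_cons, Pi.add_apply, Pi.smul_apply, smul_eq_mul] at ih ⊢
    linear_combination ih

/-- Coefficients of `P(e_a, v, e_b)`. -/
def pList (a b : ℕ) : List (ℕ × ℤ) :=
  tri.flatMap fun e =>
    (if e.1 = a ∧ e.2.1 = b then [(e.2.2.1, e.2.2.2)] else []) ++
    (if e.1 = b ∧ e.2.1 = a then [(e.2.2.1, e.2.2.2)] else []) ++
    (if e.1 = a ∧ e.2.2.1 = b then [(e.2.1, e.2.2.2)] else []) ++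
    (if e.1 = b ∧ e.2.2.1 = a then [(e.2.1, e.2.2.2)] else []) ++
    (if e.2.1 = a ∧ e.2.2.1 = b then [(e.1, e.2.2.2)] else []) ++
    (if e.2.1 = b ∧ e.2.2.1 = a then [(e.1, e.2.2.2)] else [])

/-- Coefficients of `Q(v, e_t)`. -/
def qList (t : ℕ) : List (ℕ × ℕ × ℤ) :=
  tri.flatMap fun e =>
    (if e.2.2.1 = t then [(e.1, e.2.1, e.2.2.2)] else []) ++
    (if e.2.1 = t then [(e.1, e.2.2.1, e.2.2.2)] else []) ++
    (if e.1 = t then [(e.2.1, e.2.2.1, e.2.2.2)] else [])

/-- A basis vector. -/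
def bv (n : ℕ) : I27 → F := Pi.single (p n) 1

theorem bv_apply {a b : ℕ} (ha : a < 27) (hb : b < 27) :
    (bv a : I27 → F) (p b) = if b = a then 1 else 0 := by
  have hinj : ∀ a b : Fin 27, p a.val = p b.val → a = b := by decide +kernel
  by_cases h : b = a
  · simp [bv, h]
  · have : p b ≠ p a := fun hp => h (congrArg Fin.val (hinj ⟨b, hb⟩ ⟨a, ha⟩ hp))
    simp [bv, h, this]

theorem Pf_bv {a b : ℕ} (ha : a < 27) (hb : b < 27) (v : I27 → F) :
    Pf (bv a) v (bv b) = ((pList a b).map fun e => (e.2 : F) * v (p e.1)).sum := by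
  suffices h : ∀ L : List (ℕ × ℕ × ℕ × ℤ), (∀ e ∈ L, e ∈ tri) →
      ((L.flatMap fun e =>
          (if e.1 = a ∧ e.2.1 = b then [(e.2.2.1, e.2.2.2)] else []) ++
          (if e.1 = b ∧ e.2.1 = a then [(e.2.2.1, e.2.2.2)] else []) ++
          (if e.1 = a ∧ e.2.2.1 = b then [(e.2.1, e.2.2.2)] else []) ++
          (if e.1 = b ∧ e.2.2.1 = a then [(e.2.1, e.2.2.2)] else []) ++
          (if e.2.1 = a ∧ e.2.2.1 = b then [(e.1, e.2.2.2)] else []) ++
          (if e.2.1 = b ∧ e.2.2.1 = a then [(e.1, e.2.2.2)] else [])).map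
        fun e => (e.2 : F) * v (p e.1)).sum =
      (L.map fun e => (e.2.2.2 : F) *
        ((bv a : I27 → F) (p e.1) * (bv b : I27 → F) (p e.2.1) * v (p e.2.2.1) +
         (bv b : I27 → F) (p e.1) * (bv a : I27 → F) (p e.2.1) * v (p e.2.2.1) +
         (bv a : I27 → F) (p e.1) * v (p e.2.1) * (bv b : I27 → F) (p e.2.2.1) +
         (bv b : I27 → F) (p e.1) * v (p e.2.1) * (bv a : I27 → F) (p e.2.2.1) +
         v (p e.1) * (bv a : I27 → F) (p e.2.1) * (bv b : I27 → F) (p e.2.2.1) +
         v (p e.1) * (bv b : I27 → F) (p e.2.1) * (bv a : I27 → F) (p e.2.2.1))).sum by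
    rw [pList, h tri fun e he => he]
    simp only [Pf, Qf, Pi.add_apply]
    generalize tri = L
    induction L with
    | nil => simp
    | cons e L ih =>
      simp only [List.map_cons, List.sum_cons]
      linear_combination ih
  intro L hL
  induction L with
  | nil => simp
  | cons e L ih =>
    obtain ⟨l1, l2, l3⟩ := tri_lt e (hL e List.mem_cons_self)
    rw [List.flatMap_cons, List.map_append, List.sum_append,
      ih fun e' he' => hL e' (List.mem_cons_of_mem _ he'), List.map_cons, List.sum_cons]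
    congr 1
    have hone : ∀ {i j : ℕ} (x : ℕ), i < 27 → j < 27 →
        ((if i = a ∧ j = b then [(x, e.2.2.2)] else []).map fun e => (e.2 : F) * v (p e.1)).sum =
          (e.2.2.2 : F) * ((bv a : I27 → F) (p i) * (bv b : I27 → F) (p j) * v (p x)) := by
      intro i j x hi hj
      rw [bv_apply ha hi, bv_apply hb hj]
      by_cases h1 : i = a <;> by_cases h2 : j = b <;> simp [h1, h2]
    have hone' : ∀ {i j : ℕ} (x : ℕ), i < 27 → j < 27 →
        ((if i = b ∧ j = a then [(x, e.2.2.2)] else []).map fun e => (e.2 : F) * v (p e.1)).sum =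
          (e.2.2.2 : F) * ((bv b : I27 → F) (p i) * (bv a : I27 → F) (p j) * v (p x)) := by
      intro i j x hi hj
      rw [bv_apply hb hi, bv_apply ha hj]
      by_cases h1 : i = b <;> by_cases h2 : j = a <;> simp [h1, h2]
    simp only [List.map_append, List.sum_append]
    rw [hone _ l1 l2, hone' _ l1 l2, hone _ l1 l3, hone' _ l1 l3, hone _ l2 l3, hone' _ l2 l3]
    ring

theorem Qf_bv {t : ℕ} (ht : t < 27) (v : I27 → F) :
    Qf v (bv t) = ((qList t).map fun e => (e.2.2 : F) * (v (p e.1) * v (p e.2.1))).sum := by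
  suffices h : ∀ L : List (ℕ × ℕ × ℕ × ℤ), (∀ e ∈ L, e ∈ tri) →
      ((L.flatMap fun e =>
          (if e.2.2.1 = t then [(e.1, e.2.1, e.2.2.2)] else []) ++
          (if e.2.1 = t then [(e.1, e.2.2.1, e.2.2.2)] else []) ++
          (if e.1 = t then [(e.2.1, e.2.2.1, e.2.2.2)] else [])).map
        fun e => (e.2.2 : F) * (v (p e.1) * v (p e.2.1))).sum =
      (L.map fun e => (e.2.2.2 : F) * (v (p e.1) * v (p e.2.1) * (bv t : I27 → F) (p e.2.2.1) +
        v (p e.1) * (bv t : I27 → F) (p e.2.1) * v (p e.2.2.1) +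
        (bv t : I27 → F) (p e.1) * v (p e.2.1) * v (p e.2.2.1))).sum by
    rw [qList, h tri fun e he => he]; rfl
  intro L hL
  induction L with
  | nil => simp
  | cons e L ih =>
    obtain ⟨l1, l2, l3⟩ := tri_lt e (hL e List.mem_cons_self)
    rw [List.flatMap_cons, List.map_append, List.sum_append,
      ih fun e' he' => hL e' (List.mem_cons_of_mem _ he'), List.map_cons, List.sum_cons]
    congr 1
    have hone : ∀ {i : ℕ} (x y : ℕ), i < 27 →
        ((if i = t then [(x, y, e.2.2.2)] else []).map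
          fun e => (e.2.2 : F) * (v (p e.1) * v (p e.2.1))).sum =
          (e.2.2.2 : F) * ((bv t : I27 → F) (p i) * (v (p x) * v (p y))) := by
      intro i x y hi
      rw [bv_apply ht hi]
      by_cases h1 : i = t <;> simp [h1]
    simp only [List.map_append, List.sum_append]
    rw [hone _ _ l3, hone _ _ l2, hone _ _ l1]
    ring

theorem Qf_linear (u : I27 → F) :
    ∃ φ : (I27 → F) →ₗ[F] F, ∀ v, φ v = Qf u v := by
  refine ⟨{ toFun := Qf u, map_add' := ?_, map_smul' := ?_ }, fun v => rfl⟩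
  · intro v w
    simp only [Qf, Pi.add_apply]
    generalize tri = L
    induction L with
    | nil => simp
    | cons e L ih => simp only [List.map_cons, List.sum_cons]; linear_combination ih
  · intro s v
    simp only [Qf, Pi.smul_apply, smul_eq_mul, RingHom.id_apply]
    generalize tri = L
    induction L with
    | nil => simp
    | cons e L ih => simp only [List.map_cons, List.sum_cons]; linear_combination ih

theorem Pf_linear (u v : I27 → F) :
    ∃ φ : (I27 → F) →ₗ[F] F, ∀ w, φ w = Pf u v w := by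
  obtain ⟨a, ha⟩ := Qf_linear (u + v)
  obtain ⟨b, hb⟩ := Qf_linear u
  obtain ⟨c, hc⟩ := Qf_linear v
  exact ⟨a - b - c, fun w => by simp [Pf, ha, hb, hc]⟩

theorem Qf_preserved [Fintype F] (hF : 3 ≤ Fintype.card F) {g : GL I27 F} (hg : g ∈ E6univ F)
    (u v : I27 → F) :
    Qf ((g : Matrix I27 I27 F) *ᵥ u) ((g : Matrix I27 I27 F) *ᵥ v) = Qf u v := by
  classical
  obtain ⟨s, hs0, hs1⟩ : ∃ s : F, s ≠ 0 ∧ s ≠ 1 := by
    by_contra! h
    have : (Finset.univ : Finset F) ⊆ {0, 1} := fun x _ => by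
      by_cases hx : x = 0
      · simp [hx]
      · simp [h x hx]
    have h2 := (Finset.card_le_card this).trans Finset.card_le_two
    rw [Finset.card_univ] at h2
    omega
  have hT : ∀ w, cubicT ((g : Matrix I27 I27 F) *ᵥ w) = cubicT w := hg
  have key : ∀ r : F, r * Qf ((g : Matrix I27 I27 F) *ᵥ u) ((g : Matrix I27 I27 F) *ᵥ v) +
      r ^ 2 * Qf ((g : Matrix I27 I27 F) *ᵥ v) ((g : Matrix I27 I27 F) *ᵥ u) =
      r * Qf u v + r ^ 2 * Qf v u := by
    intro r
    have h := hT (u + r • v)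
    rw [Matrix.mulVec_add, Matrix.mulVec_smul, cubicT_add_smul, cubicT_add_smul, hT, hT] at h
    linear_combination h
  have h1 := key 1
  have h2 := key s
  have hne : s - s ^ 2 ≠ 0 := by
    rw [show s - s ^ 2 = s * (1 - s) by ring]
    exact mul_ne_zero hs0 (sub_ne_zero.2 (Ne.symm hs1))
  apply mul_left_cancel₀ hne
  linear_combination h2 - s ^ 2 * h1

theorem Pf_preserved [Fintype F] (hF : 3 ≤ Fintype.card F) {g : GL I27 F} (hg : g ∈ E6univ F)
    (u v w : I27 → F) :
    Pf ((g : Matrix I27 I27 F) *ᵥ u) ((g : Matrix I27 I27 F) *ᵥ v) ((g : Matrix I27 I27 F) *ᵥ w) =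
      Pf u v w := by
  rw [Pf, ← Matrix.mulVec_add, Qf_preserved hF hg, Qf_preserved hF hg, Qf_preserved hF hg, Pf]

end Cfsg.Agent.E6CubicForm29
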