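import Mathlib

/-!
Bruhat normal form in a group generated by a copy of the additive group of a field, a torus element
`h` and a Weyl element `t`, from torus-translates of braid relations.
-/

set_option autoImplicit false

namespace Cfsg.Agent.SL2PresWeyl

open Multiplicative (ofAdd)

variable {G : Type*} [Group G] {F : Type*} [Field F]

theorem semiconj_zpow {h t : G} (hth : h * t * h = t) (i : ℤ) : t * h ^ (-i) = h ^ i * t := by
  have : SemiconjBy t h⁻¹ h := by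
    show t * h⁻¹ = h * t
    conv_lhs => rw [← hth]
    group
  have := this.zpow_right i
  rwa [inv_zpow'] at this

theorem conj_zpow {φ : Multiplicative F →* G} {h : G} {μ : F} (hμ : μ ≠ 0)
    (hφ : ∀ r, h * φ (ofAdd r) * h⁻¹ = φ (ofAdd (μ * r))) (i : ℤ) (r : F) :
    h ^ i * φ (ofAdd r) = φ (ofAdd (μ ^ i * r)) * h ^ i := by
  have h1 : ∀ r, h * φ (ofAdd r) = φ (ofAdd (μ * r)) * h := fun r => by rw [← hφ r]; group
  induction i using Int.induction_on generalizing r with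
  | zero => simp
  | succ i ih =>
    rw [zpow_add_one, mul_assoc, h1, ← mul_assoc, ih, zpow_add_one₀ hμ, mul_assoc, mul_assoc]
  | pred i ih =>
    have h2 : h⁻¹ * φ (ofAdd r) = φ (ofAdd (μ⁻¹ * r)) * h⁻¹ := by
      rw [inv_mul_eq_iff_eq_mul, ← mul_assoc, h1, ← mul_assoc, mul_inv_cancel₀ hμ, one_mul]
      group
    rw [zpow_sub_one, mul_assoc, h2, ← mul_assoc, ih, zpow_sub_one₀ hμ, mul_assoc, mul_assoc]

/-- translating a braid relation by the torus -/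
theorem braid_shift {φ : Multiplicative F →* G} {h t : G} {μ : F} (hμ : μ ≠ 0)
    (hφ : ∀ r, h * φ (ofAdd r) * h⁻¹ = φ (ofAdd (μ * r))) (hth : h * t * h = t) {a : F} {j : ℤ}
    (hb : t * φ (ofAdd a) * t = φ (ofAdd (-1 / a)) * h ^ j * t * φ (ofAdd (-1 / a))) (i : ℤ) :
    t * φ (ofAdd (μ ^ i * a)) * t =
      φ (ofAdd (-1 / (μ ^ i * a))) * h ^ (j - 2 * i) * t * φ (ofAdd (-1 / (μ ^ i * a))) := by
  have c := conj_zpow hμ hφ
  have e1 : φ (ofAdd (μ ^ i * a)) = h ^ i * φ (ofAdd a) * h ^ (-i) := by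
    rw [c, mul_assoc, ← zpow_add, add_neg_cancel, zpow_zero, mul_one]
  have e2 : φ (ofAdd (-1 / (μ ^ i * a))) = h ^ (-i) * φ (ofAdd (-1 / a)) * h ^ i := by
    rw [c, mul_assoc, ← zpow_add, neg_add_cancel, zpow_zero, mul_one, zpow_neg]
    congr 2
    field_simp
  have s1 : t * h ^ i = h ^ (-i) * t := by simpa using semiconj_zpow hth (-i)
  have s2 : h ^ (-i) * t = t * h ^ i := s1.symm
  calc t * φ (ofAdd (μ ^ i * a)) * t
      = (t * h ^ i) * φ (ofAdd a) * (h ^ (-i) * t) := by rw [e1]; simp only [mul_assoc]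
    _ = (h ^ (-i) * t) * φ (ofAdd a) * (t * h ^ i) :=
        congrArg₂ (fun x y => x * φ (ofAdd a) * y) s1 s2
    _ = h ^ (-i) * (t * φ (ofAdd a) * t) * h ^ i := by simp only [mul_assoc]
    _ = h ^ (-i) * φ (ofAdd (-1 / a)) * h ^ j * t * φ (ofAdd (-1 / a)) * h ^ i := by
        rw [hb]; simp only [mul_assoc]
    _ = (h ^ (-i) * φ (ofAdd (-1 / a)) * h ^ i) * h ^ (-i + j) * (t * h ^ i) *
          (h ^ (-i) * φ (ofAdd (-1 / a)) * h ^ i) := by
        group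
    _ = _ := by
        rw [← e2, s1, show j - 2 * i = -i + j + -i by ring, zpow_add _ (-i + j) (-i)]
        simp only [mul_assoc]

/-- the braid relation at `1` -/
theorem braid_one {φ : Multiplicative F →* G} {h t : G} {n0 : ℤ} (ht2 : t * t = h ^ n0)
    (h3 : (t * φ (ofAdd 1)) ^ 3 = 1) :
    t * φ (ofAdd (1 : F)) * t = φ (ofAdd (-1 / 1)) * h ^ (-n0) * t * φ (ofAdd (-1 / 1)) := by
  have ht : h ^ (-n0) * t = t⁻¹ := by rw [zpow_neg, ← ht2]; group
  rw [div_one, ofAdd_neg, map_inv, mul_assoc _ (h ^ (-n0)) t, ht]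
  set u := φ (ofAdd (1 : F))
  calc t * u * t = (t * u) ^ 3 * u⁻¹ * t⁻¹ * u⁻¹ := by
        simp only [pow_succ, pow_zero, one_mul, mul_assoc, mul_inv_cancel_left, mul_inv_cancel, mul_one]
    _ = u⁻¹ * t⁻¹ * u⁻¹ := by rw [h3, one_mul]

/-- normal form -/
theorem normal_form {φ : Multiplicative F →* G} {h t : G} {μ : F} (hμ : μ ≠ 0) {n0 : ℤ}
    (hgen : Subgroup.closure (Set.range φ ∪ {h, t}) = ⊤)
    (hφ : ∀ r, h * φ (ofAdd r) * h⁻¹ = φ (ofAdd (μ * r))) (hth : h * t * h = t) (ht2 : t * t = h ^ n0)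
    (hbr : ∀ a : F, a ≠ 0 → ∃ j : ℤ, t * φ (ofAdd a) * t = φ (ofAdd (-1 / a)) * h ^ j * t * φ (ofAdd (-1 / a)))
    (g : G) : (∃ (r : F) (i : ℤ), g = φ (ofAdd r) * h ^ i) ∨
      ∃ (r s : F) (i : ℤ), g = φ (ofAdd r) * h ^ i * t * φ (ofAdd s) := by
  let P : G → Prop := fun g => (∃ (r : F) (i : ℤ), g = φ (ofAdd r) * h ^ i) ∨
      ∃ (r s : F) (i : ℤ), g = φ (ofAdd r) * h ^ i * t * φ (ofAdd s)
  have c := conj_zpow hμ hφ
  have hu : ∀ a g, P g → P (φ (ofAdd a) * g) := by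
    rintro a g (⟨r, i, rfl⟩ | ⟨r, s, i, rfl⟩)
    · exact Or.inl ⟨a + r, i, by rw [ofAdd_add, map_mul, mul_assoc]⟩
    · exact Or.inr ⟨a + r, s, i, by rw [ofAdd_add, map_mul]; simp only [mul_assoc]⟩
  have hh : ∀ (k : ℤ) g, P g → P (h ^ k * g) := by
    rintro k g (⟨r, i, rfl⟩ | ⟨r, s, i, rfl⟩)
    · exact Or.inl ⟨μ ^ k * r, k + i, by rw [← mul_assoc, c, mul_assoc, ← zpow_add]⟩
    · exact Or.inr ⟨μ ^ k * r, s, k + i, by
        simp only [← mul_assoc]; rw [c, mul_assoc (φ _) (h ^ k) (h ^ i), ← zpow_add]⟩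
  have st : ∀ i : ℤ, t * h ^ i = h ^ (-i) * t := fun i => by simpa using semiconj_zpow hth (-i)
  have ht : ∀ g, P g → P (t * g) := by
    rintro g (⟨r, i, rfl⟩ | ⟨r, s, i, rfl⟩)
    · refine Or.inr ⟨0, μ ^ (-i) * r, -i, ?_⟩
      rw [ofAdd_zero, map_one, one_mul, ← st, mul_assoc]
      congr 1
      rw [show φ (ofAdd r) * h ^ i = h ^ i * φ (ofAdd (μ ^ (-i) * r)) by
        rw [c, ← mul_assoc, ← zpow_add₀ hμ, add_neg_cancel, zpow_zero, one_mul]]
    · rcases eq_or_ne r 0 with rfl | hr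
      · refine Or.inl ⟨μ ^ (-i + n0) * s, -i + n0, ?_⟩
        rw [ofAdd_zero, map_one, one_mul, ← c, ← mul_assoc, ← mul_assoc, st, mul_assoc _ t t, ht2, ← zpow_add]
      · obtain ⟨j, hj⟩ := hbr r hr
        refine Or.inr ⟨-1 / r, μ ^ i * (-1 / r) + s, j + i, ?_⟩
        have q1 : h ^ i * t = t * h ^ (-i) := (semiconj_zpow hth i).symm
        have q2 : φ (ofAdd (-1 / r)) * h ^ (-i) = h ^ (-i) * φ (ofAdd (μ ^ i * (-1 / r))) := by
          rw [c, ← mul_assoc, ← zpow_add₀ hμ, neg_add_cancel, zpow_zero, one_mul]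
        calc t * (φ (ofAdd r) * h ^ i * t * φ (ofAdd s))
            = t * (φ (ofAdd r) * (h ^ i * t) * φ (ofAdd s)) := by simp only [mul_assoc]
          _ = (t * φ (ofAdd r) * t) * h ^ (-i) * φ (ofAdd s) := by rw [q1]; simp only [mul_assoc]
          _ = φ (ofAdd (-1 / r)) * h ^ j * t * (φ (ofAdd (-1 / r)) * h ^ (-i)) * φ (ofAdd s) := by
              rw [hj]; simp only [mul_assoc]
          _ = φ (ofAdd (-1 / r)) * h ^ j * (t * h ^ (-i)) * (φ (ofAdd (μ ^ i * (-1 / r))) * φ (ofAdd s)) := by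
              rw [q2]; simp only [mul_assoc]
          _ = _ := by
              rw [semiconj_zpow hth i, ← map_mul, ← ofAdd_add, zpow_add]; simp only [mul_assoc]
  have hinv : ∀ g, P g → P (t⁻¹ * g) := fun g hg => by
    rw [show t⁻¹ = h ^ (-n0) * t by rw [zpow_neg, ← ht2]; group, mul_assoc]
    exact hh _ _ (ht _ hg)
  show P g
  induction (hgen ▸ Subgroup.mem_top g : g ∈ Subgroup.closure (Set.range φ ∪ {h, t})) using
    Subgroup.closure_induction_left with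
  | one => exact Or.inl ⟨0, 0, by simp⟩
  | mul_left x hx y hy ih =>
    rcases hx with ⟨a, rfl⟩ | rfl | rfl
    · exact hu a.toAdd y ih
    · simpa using hh 1 y ih
    · exact ht y ih
  | inv_mul_cancel x hx y hy ih =>
    rcases hx with ⟨a, rfl⟩ | rfl | rfl
    · rw [← map_inv]; exact hu _ y ih
    · simpa using hh (-1) y ih
    · exact hinv y ih

/-- injectivity criterion -/
theorem injective_of {φ : Multiplicative F →* G} {h t : G} {μ : F} (hμ : μ ≠ 0) {n0 : ℤ}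
    (hgen : Subgroup.closure (Set.range φ ∪ {h, t}) = ⊤)
    (hφ : ∀ r, h * φ (ofAdd r) * h⁻¹ = φ (ofAdd (μ * r))) (hth : h * t * h = t) (ht2 : t * t = h ^ n0)
    (hbr : ∀ a : F, a ≠ 0 → ∃ j : ℤ, t * φ (ofAdd a) * t = φ (ofAdd (-1 / a)) * h ^ j * t * φ (ofAdd (-1 / a)))
    {Q : Type*} [Group Q] (π : G →* Q)
    (hB : ∀ (r : F) (i : ℤ), π (φ (ofAdd r) * h ^ i) = 1 → r = 0 ∧ h ^ i = 1)
    (hC : ∀ (r s : F) (i : ℤ), π (φ (ofAdd r) * h ^ i * t * φ (ofAdd s)) ≠ 1) : Function.Injective π := by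
  refine (injective_iff_map_eq_one π).mpr fun g hg => ?_
  rcases normal_form hμ hgen hφ hth ht2 hbr g with ⟨r, i, rfl⟩ | ⟨r, s, i, rfl⟩
  · obtain ⟨rfl, hi⟩ := hB r i hg
    simp [hi]
  · exact absurd hg (hC r s i)

end Cfsg.Agent.SL2PresWeyl
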