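import Cfsg.Agent.Lib.SL2PresAbel
import Cfsg.Agent.Lib.SL2PresWeyl
import Cfsg.Agent.Lib.PSL2Elements
import Cfsg.Agent.Lib.PSLSimple

/-!
The concrete side of short presentations of `SL(2, q)`: the Weyl element, braid relations, and the
facts about generators of the multiplicative group of a finite field.
-/

set_option autoImplicit false

namespace Cfsg.Agent.SL2PresData

open Matrix PSL2Elements
open Multiplicative (ofAdd)
open scoped MatrixGroups

section matrices
variable {F : Type*} [Field F]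

/-- Weyl element `[[0, 1], [-1, 0]]` -/
def W : SL(2, F) := mk2 0 1 (-1) 0 (by ring)

theorem d_W_d (a : Fˣ) : d a * W * d a = (W : SL(2, F)) := by
  apply ext2 <;> simp [W, d]

theorem W_sq : (W * W : SL(2, F)) = -1 := by
  apply ext2 <;> simp [W]

theorem cube : (W * u (1 : F)) ^ 3 = 1 := by
  rw [pow_succ, pow_two]
  apply ext2 <;> simp [W, u, mul_apply2]

theorem braid {a : F} (ha : a ≠ 0) (b : Fˣ) (hb : (b : F) = -1 / a) :
    W * u a * W = u (-1 / a) * d b * W * u (-1 / a) := by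
  have hbi : ((b⁻¹ : Fˣ) : F) = -a := by rw [Units.val_inv_eq_inv_val, hb]; field_simp
  apply ext2 <;> simp [W, u, d, hb] <;> field_simp <;> ring

theorem d_zpow (a : Fˣ) (i : ℤ) : d a ^ i = d (a ^ i) := (map_zpow dHom a i).symm

theorem d_pow (a : Fˣ) (i : ℕ) : d a ^ i = d (a ^ i) := (map_pow dHom a i).symm

theorem closure_eq_top (H : Subgroup SL(2, F)) (hu : ∀ r, u r ∈ H) (hW : W ∈ H) : H = ⊤ := by
  refine PSLSimple.eq_top_of_transvection_mem H fun i j hij c => ?_
  fin_cases i <;> fin_cases j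
  · exact absurd rfl hij
  · convert hu c using 1
    apply ext2 <;> simp [u, SpecialLinearGroup.transvection_coe, Matrix.one_apply, Matrix.single_apply]
  · convert H.mul_mem (H.mul_mem hW (hu (-c))) (H.inv_mem hW) using 1
    rw [eq_mul_inv_iff_mul_eq]
    apply ext2 <;>
      simp [u, W, mul_apply2, SpecialLinearGroup.transvection_coe, Matrix.one_apply, Matrix.single_apply]
  · exact absurd rfl hij

/-- a word of the normal form with a Weyl letter -/
theorem form_apply (r s : F) (a : Fˣ) :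
    (u r * d a * W * u s).1 1 0 = -((a⁻¹ : Fˣ) : F) := by
  simp [u, d, W, mul_apply2]

theorem center_scalar {g : SL(2, F)} (hg : g ∈ Subgroup.center SL(2, F)) :
    g.1 1 0 = 0 ∧ g.1 0 1 = 0 ∧ g.1 0 0 = g.1 1 1 := by
  have h1 := Subgroup.mem_center_iff.mp hg (u 1)
  have h2 := Subgroup.mem_center_iff.mp hg W
  have a1 := congrArg (fun A : SL(2, F) => A.1 0 0) h1
  have a2 := congrArg (fun A : SL(2, F) => A.1 0 1) h1
  have a3 := congrArg (fun A : SL(2, F) => A.1 0 0) h2
  simp [u, W, mul_apply2] at a1 a2 a3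
  refine ⟨a1, ?_, ?_⟩
  · rw [a1] at a3; simpa [eq_comm] using a3
  · linear_combination -a2

end matrices

section field
variable {F : Type*} [Field F] [Fintype F] {ζ : Fˣ}

theorem exists_pow (hζ : ∀ y, y ∈ Subgroup.zpowers ζ) {a : F} (ha : a ≠ 0) :
    ∃ m : ℕ, (ζ : F) ^ m = a := by
  obtain ⟨m, hm⟩ := mem_powers_iff_mem_zpowers.mpr (hζ (Units.mk0 a ha))
  exact ⟨m, by simpa using congrArg Units.val hm⟩

theorem orderOf_gen (hζ : ∀ y, y ∈ Subgroup.zpowers ζ) : orderOf ζ = Fintype.card F - 1 := by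
  rw [orderOf_eq_card_of_forall_mem_zpowers hζ, Nat.card_units, Nat.card_eq_fintype_card]

theorem pow_card_sub_one (hζ : ∀ y, y ∈ Subgroup.zpowers ζ) : ζ ^ (Fintype.card F - 1) = 1 := by
  rw [← orderOf_gen hζ, pow_orderOf_eq_one]

theorem le_of_sq_pow (hζ : ∀ y, y ∈ Subgroup.zpowers ζ) {n : ℕ} (hn : 0 < n)
    (h : (((ζ : F) ^ 2)) ^ n = 1) : Fintype.card F - 1 ≤ 2 * n := by
  rw [← orderOf_gen hζ]
  refine orderOf_le_of_pow_eq_one (by omega) (Units.ext ?_)
  rw [pow_mul]; simpa using h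

theorem dvd_of_zpow_eq_one (hζ : ∀ y, y ∈ Subgroup.zpowers ζ) {i : ℤ} (h : ζ ^ i = 1) :
    ((Fintype.card F - 1 : ℕ) : ℤ) ∣ i := by
  rw [← orderOf_gen hζ]; exact orderOf_dvd_iff_zpow_eq_one.mpr h

variable {p : ℕ} [Fact p.Prime] [Algebra (ZMod p) F]

/-- subalgebras over the prime field are subfields -/
theorem subalgebra_cases (S : Subalgebra (ZMod p) F) : S = ⊤ ∨ ∃ r, 2 ≤ r ∧ r * r ≤ Fintype.card F ∧
    r ∣ Fintype.card F ∧ (∀ x y : F, (x + y) ^ r = x ^ r + y ^ r) ∧ ∀ x ∈ S, x ^ r = x := by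
  classical
  have hinv : ∀ a ∈ S, a⁻¹ ∈ S := by
    intro a ha
    rcases eq_or_ne a 0 with rfl | ha0
    · simp
    rw [inv_eq_of_mul_eq_one_right (show a * a ^ (Fintype.card F - 2) = 1 by
      rw [← pow_succ', show Fintype.card F - 2 + 1 = Fintype.card F - 1 by
        have := Fintype.one_lt_card (α := F); omega, FiniteField.pow_card_sub_one_eq_one a ha0])]
    exact S.pow_mem ha _
  let K : Subfield F := { S.toSubring with inv_mem' := hinv }
  haveI : Fintype K := Fintype.ofFinite K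
  have hq : Nat.card F = Nat.card K ^ Module.finrank K F := Module.natCard_eq_pow_finrank
  have hK2 : 2 ≤ Nat.card K := Finite.one_lt_card
  have hpos := Module.finrank_pos (R := K) (M := F)
  rcases Nat.lt_or_ge (Module.finrank K F) 2 with h | h
  · left
    rw [eq_top_iff]
    intro x _
    by_contra hx
    have hlt : Nat.card K < Nat.card F := by
      rw [Nat.card_eq_fintype_card (α := F), Nat.card_eq_fintype_card]
      exact Fintype.card_subtype_lt (x := x) hx
    rw [show Module.finrank K F = 1 by omega, pow_one] at hq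
    omega
  · right
    refine ⟨Nat.card K, hK2, ?_, ?_, ?_, ?_⟩
    · rw [← Nat.card_eq_fintype_card, hq, ← sq]
      exact Nat.pow_le_pow_right (by omega) h
    · rw [← Nat.card_eq_fintype_card, hq]
      exact dvd_pow_self _ (by omega)
    · intro x y
      rw [Nat.card_eq_fintype_card]
      simpa using map_add (FiniteField.frobeniusAlgHom K F) x y
    · intro x hx
      rw [Nat.card_eq_fintype_card]
      have := (FiniteField.frobeniusAlgHom K F).commutes ⟨x, hx⟩
      rw [FiniteField.coe_frobeniusAlgHom] at this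
      exact this

theorem three_le_of_odd {r : ℕ} (h2 : 2 ≤ r) (hd : r ∣ Fintype.card F) (hodd : Odd (Fintype.card F)) : 3 ≤ r := by
  obtain ⟨j, hj⟩ := (hodd.of_dvd_nat hd)
  omega

/-- the square of a generator generates the field -/
theorem adjoin_sq (hζ : ∀ y, y ∈ Subgroup.zpowers ζ) :
    Algebra.adjoin (ZMod p) {(ζ : F) ^ 2} = ⊤ := by
  rcases subalgebra_cases (Algebra.adjoin (ZMod p) {(ζ : F) ^ 2}) with h | ⟨r, h2, hle, -, -, hfix⟩
  · exact h
  exfalso
  have hv := hfix _ (Algebra.self_mem_adjoin_singleton (ZMod p) ((ζ : F) ^ 2))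
  have h0 : (ζ : F) ^ 2 ≠ 0 := pow_ne_zero _ ζ.ne_zero
  have hp : ((ζ : F) ^ 2) ^ (r - 1) = 1 := by
    refine mul_left_cancel₀ h0 ?_
    rw [← pow_succ', Nat.sub_add_cancel (by omega : 1 ≤ r), hv, mul_one]
  have := le_of_sq_pow hζ (by omega) hp
  have h3 : 2 * r ≤ r * r := Nat.mul_le_mul_right r h2
  have h4 : r * r + 1 ≤ 2 * r := by omega
  omega

/-- for odd `q > 9` there are `y, y - 1` among the squares with `y` generating the field -/
theorem exists_pair (hζ : ∀ y, y ∈ Subgroup.zpowers ζ) (hodd : Odd (Fintype.card F))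
    (h9 : 9 < Fintype.card F) (h2 : (2 : F) ≠ 0) :
    ∃ a b : ℕ, ((ζ : F) ^ 2) ^ a = 1 + ((ζ : F) ^ 2) ^ b ∧
      Algebra.adjoin (ZMod p) {((ζ : F) ^ 2) ^ a} = ⊤ := by
  set z : F := (ζ : F) with hz
  have hz0 : z ≠ 0 := ζ.ne_zero
  have h4 : z ^ 4 ≠ 1 := by
    intro h
    have := le_of_sq_pow hζ (n := 2) (by norm_num) (by rw [← pow_mul]; exact h)
    omega
  set s : F := (z + z⁻¹) / 2
  set t : F := (z - z⁻¹) / 2
  have hs : s ≠ 0 := by
    intro h
    apply h4
    simp only [s, div_eq_zero_iff, h2, or_false] at h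
    field_simp at h
    linear_combination (z ^ 2 - 1) * h
  have ht : t ≠ 0 := by
    intro h
    apply h4
    simp only [t, div_eq_zero_iff, h2, or_false] at h
    field_simp at h
    linear_combination (z ^ 2 + 1) * h
  obtain ⟨a, ha⟩ := exists_pow hζ hs
  obtain ⟨b, hb⟩ := exists_pow hζ ht
  refine ⟨a, b, ?_, ?_⟩
  · rw [← pow_mul, ← pow_mul, Nat.mul_comm 2 a, Nat.mul_comm 2 b, pow_mul, pow_mul, ha, hb]
    simp only [s, t]
    field_simp
    ring
  set y := ((z : F) ^ 2) ^ a with hy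
  rcases subalgebra_cases (Algebra.adjoin (ZMod p) {y}) with h | ⟨r, hr2, hle, hd, hadd, hfix⟩
  · exact h
  exfalso
  set v : F := z ^ 2 with hv
  have hv0 : v ≠ 0 := pow_ne_zero _ hz0
  have hys : y = s ^ 2 := by rw [hy, ← pow_mul, Nat.mul_comm, pow_mul, ha]
  have hmem : v + v⁻¹ ∈ Algebra.adjoin (ZMod p) {y} := by
    have e : v + v⁻¹ = y * 4 - 2 := by
      rw [hys]; simp only [s, hv]; field_simp; ring
    rw [e]
    exact Subalgebra.sub_mem _ (Subalgebra.mul_mem _ (Algebra.self_mem_adjoin_singleton _ _)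
      (by exact_mod_cast Subalgebra.natCast_mem _ 4)) (by exact_mod_cast Subalgebra.natCast_mem _ 2)
  have h := hfix _ hmem
  rw [hadd, inv_pow] at h
  have hw : v ^ r ≠ 0 := pow_ne_zero _ hv0
  have hfac : (v ^ r - v) * (v ^ r * v - 1) = 0 := by
    field_simp at h
    linear_combination h
  have h3 := three_le_of_odd hr2 hd hodd
  have h3r : 3 * r ≤ r * r := Nat.mul_le_mul_right r h3
  rcases mul_eq_zero.mp hfac with h | h
  · have hp : v ^ (r - 1) = 1 := by
      refine mul_left_cancel₀ hv0 ?_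
      rw [← pow_succ', Nat.sub_add_cancel (by omega : 1 ≤ r), mul_one]
      exact sub_eq_zero.mp h
    have := le_of_sq_pow hζ (by omega) hp
    omega
  · have := le_of_sq_pow hζ (n := r + 1) (by omega) (by rw [pow_succ]; exact sub_eq_zero.mp h)
    omega

end field

end Cfsg.Agent.SL2PresData
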