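import Cfsg.Agent.Lib.E6Five14Fix
import Cfsg.Agent.Lib.ChevTwistArith14
import Cfsg.Agent.S2401
import Cfsg.Agent.S0256

/-!
The centraliser of an element of order five of the twisted E6 group over the field with four elements.
-/

set_option autoImplicit false
set_option linter.unusedSectionVars false
set_option maxRecDepth 20000
set_option synthInstance.maxSize 2000

namespace Cfsg.Agent.E6Five14Cent

open Cfsg.Lie Cfsg.Agent Cfsg.Agent.ChevalleyCert Cfsg.Agent.ChevalleyCore Cfsg.Agent.TwistedCore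
  Cfsg.Agent.TwistedTools Cfsg.Agent.TwistedE6
open Cfsg.Agent.TwistE6Mult14Geom (GG)
open Cfsg.Agent.E6Five14Fix (allL sub xg_mem_sub all_facts)
open scoped MatrixGroups

universe u

/-- the pairs of distinct indices -/
abbrev Pair := {ij : Fin 4 × Fin 4 // ij.1 ≠ ij.2}

/-- the roots of a pair of indices -/
def rt (a : Fin 4 × Fin 4) : ℕ :=
  ([[100, 46, 47, 71], [25, 100, 39, 70], [24, 32, 100, 69], [0, 1, 2, 100]] : List (List ℕ)).getD a.1.val []
    |>.getD a.2.val 100

theorem rt_mem : ∀ a : Pair, rt a.1 ∈ allL := by decide +kernel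

theorem rt_surj : ∀ r ∈ allL, ∃ a : Pair, rt a.1 = r := by decide +kernel

theorem rt_zero : ∀ a b : Pair, a.1.1 ≠ b.1.2 → a.1.2 ≠ b.1.1 → a ≠ b →
    rt a.1 ≠ rt b.1 ∧ rt a.1 ≠ chevE6.neg (rt b.1) ∧ chevE6.commTerms (rt b.1) (rt a.1) = [] := by
  decide +kernel

theorem rt_term : ∀ a b : Pair, a.1.1 ≠ b.1.2 → a.1.2 = b.1.1 →
    rt a.1 ≠ rt b.1 ∧ rt a.1 ≠ chevE6.neg (rt b.1) ∧
      (chevE6.commTerms (rt b.1) (rt a.1)).map (fun c => c.1) = [rt (a.1.1, b.1.2)] ∧
      ∀ c ∈ chevE6.commTerms (rt b.1) (rt a.1), c.2.1 % 2 = 1 := by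
  decide +kernel

theorem zmod_two : ∀ t : ZMod 2, t = 0 ∨ t = 1 := by decide

/-- the elements of the subsystem commute with the rank-one subgroups of the class -/
theorem comm_four {F : Type*} [Field F] {a : ℕ} (ha : a ∈ [ra 0, chevE6.neg (ra 0), rb 0, chevE6.neg (rb 0)])
    {r : ℕ} (hr : r ∈ allL) (c t : F) : Commute (xg c6 a c) (xg c6 r t) := by
  obtain ⟨h1, -, h3⟩ := all_facts r hr
  obtain ⟨g1, g2, g3, g4⟩ := h3 a ha
  exact commute_xg c6 g1 h1 g2 g3 g4 c t

variable {K : Type u} [Field K] [Fintype K] (w : K) (hK : Fintype.card K = 2 ^ 2) (hw : w ^ 2 = w + 1)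
  (f : K →+* K) (hf : ∀ t, f t = t ^ 2)

include hK hw hf in
theorem root_mem {r : ℕ} (hr : r ∈ allL) : xg c6 r (1 : K) ∈ GG K := by
  obtain ⟨l, -, hl, rfl⟩ := E6Five14Fix.reach_ok r hr
  exact (E6Five14Class.word_mem w hK hw f hf l hl).1

open Classical in
/-- the generators -/
noncomputable def gen (p : Pair × ZMod 2) : ↥(GG K) :=
  if h : xg c6 (rt p.1.1) ((p.2.val : ℕ) : K) ∈ GG K then ⟨_, h⟩ else 1

include hK hw hf in
theorem gen_zero (a : Pair) : gen (K := K) (a, 0) = 1 := by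
  apply Subtype.ext
  rw [gen, dif_pos (by simp [xg_zero c6])]
  simp [xg_zero c6]

include hK hw hf in
theorem gen_one (a : Pair) : (gen (K := K) (a, 1) : GL chevE6.Idx K) = xg c6 (rt a.1) 1 := by
  have e : (((1 : ZMod 2).val : ℕ) : K) = 1 := by simp [ZMod.val_one]
  rw [gen, dif_pos]
  · simp only [e]
  · simp only [e]; exact root_mem w hK hw f hf (rt_mem a)

include hK hw hf in
/-- the subsystem group is an image of a linear group -/
theorem exists_sl : ∃ χ : SL(4, ZMod 2) →* ↥(GG K), Function.Injective χ ∧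
    χ.range.map (GG K).subtype = (sub : Subgroup (GL chevE6.Idx K)) := by
  classical
  haveI : Fact (Nat.Prime 2) := ⟨Nat.prime_two⟩
  obtain ⟨e, -⟩ := S2401.result (K := ZMod 2) 4 (by norm_num)
  have h1 := gen_one w hK hw f hf
  have h0 := gen_zero w hK hw f hf
  have hneg : (-1 : K) = 1 := E6Five14Fix.neg_eq (TwistE6Mult14Geom.two_zero hK) 1
  have hinv : ∀ a : Pair, (gen (K := K) (a, 1))⁻¹ = gen (a, 1) := fun a => Subtype.ext (by
    rw [Subgroup.coe_inv, h1, xg_inv, hneg])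
  let rel := ({g : FreeGroup (Pair × ZMod 2) | ∃ (a : Pair) (t u : ZMod 2),
        g = FreeGroup.of (a, t) * FreeGroup.of (a, u) * (FreeGroup.of (a, t + u))⁻¹} ∪
      {g | ∃ (a b : Pair) (t u : ZMod 2), a.1.1 ≠ b.1.2 ∧ a.1.2 ≠ b.1.1 ∧
        g = FreeGroup.of (a, t) * FreeGroup.of (b, u) * (FreeGroup.of (a, t))⁻¹ * (FreeGroup.of (b, u))⁻¹} ∪
      {g | ∃ (a b : Pair) (h : a.1.1 ≠ b.1.2) (t u : ZMod 2), a.1.2 = b.1.1 ∧
        g = FreeGroup.of (a, t) * FreeGroup.of (b, u) * (FreeGroup.of (a, t))⁻¹ * (FreeGroup.of (b, u))⁻¹ *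
          (FreeGroup.of (⟨(a.1.1, b.1.2), h⟩, t * u))⁻¹} : Set (FreeGroup (Pair × ZMod 2)))
  have hrel : ∀ r ∈ rel, FreeGroup.lift (gen (K := K)) r = 1 := by
    rintro r ((⟨a, t, u, rfl⟩ | ⟨a, b, t, u, hab, hba, rfl⟩) | ⟨a, b, h, t, u, hab, rfl⟩)
    · simp only [map_mul, map_inv, FreeGroup.lift_apply_of]
      rcases zmod_two t with rfl | rfl <;> rcases zmod_two u with rfl | rfl <;>
        simp only [show (1 : ZMod 2) + 1 = 0 from rfl, add_zero, zero_add, h0, one_mul, mul_one, inv_one,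
          mul_inv_cancel]
      exact Subtype.ext (by rw [Subgroup.coe_mul, h1, xg_mul, Subgroup.coe_one,
        show (1 : K) + 1 = 0 by rw [← two_mul, TwistE6Mult14Geom.two_zero hK, zero_mul], xg_zero c6])
    · simp only [map_mul, map_inv, FreeGroup.lift_apply_of]
      rcases zmod_two t with rfl | rfl <;> rcases zmod_two u with rfl | rfl <;>
        try simp only [h0, one_mul, mul_one, inv_one, mul_inv_cancel]
      rcases eq_or_ne a b with rfl | hne
      · group
      rw [mul_inv_eq_one, mul_inv_eq_iff_eq_mul]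
      obtain ⟨g1, g2, g3⟩ := rt_zero a b hab hba hne
      refine Subtype.ext ?_
      rw [Subgroup.coe_mul, Subgroup.coe_mul, h1, h1]
      exact (commute_xg c6 (all_facts _ (rt_mem b)).1 (all_facts _ (rt_mem a)).1 g1 g2 g3 (1 : K) 1).eq.symm
    · simp only [map_mul, map_inv, FreeGroup.lift_apply_of]
      rcases zmod_two t with rfl | rfl <;> rcases zmod_two u with rfl | rfl <;>
        simp only [zero_mul, mul_zero, h0, one_mul, mul_one, inv_one, mul_inv_cancel]
      obtain ⟨g1, g2, g3, g4⟩ := rt_term a b h hab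
      have hf' := comm_formula c6 (F := K) (all_facts _ (rt_mem b)).1 (all_facts _ (rt_mem a)).1 g1 g2 1 1
      have ew : wg c6 (chevE6.commWord K (rt b.1) (rt a.1) (1 : K) 1) = xg c6 (rt (a.1.1, b.1.2)) 1 := by
        rw [wg, ChevalleyDatum.commWord, List.map_map]
        have e : ((chevE6.commTerms (rt b.1) (rt a.1)).map fun c => c.1).map (fun k => xg c6 k (1 : K)) =
            [xg c6 (rt (a.1.1, b.1.2)) 1] := by rw [g3]; rfl
        rw [List.map_map] at e
        refine Eq.trans (congrArg List.prod ?_) List.prod_singleton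
        refine Eq.trans (List.map_congr_left fun c hc => ?_) e
        simp only [Function.comp_apply, E6Five14Class.odd_one hK (g4 c hc), hneg, one_pow, mul_one]
      rw [ew] at hf'
      rw [mul_inv_eq_one, hinv, hinv]
      refine Subtype.ext ?_
      have hC : xg c6 (rt (a.1.1, b.1.2)) (1 : K) =
          (xg c6 (rt b.1) (1 : K) * xg c6 (rt a.1) 1)⁻¹ * (xg c6 (rt a.1) (1 : K) * xg c6 (rt b.1) 1) := by
        rw [hf']; group
      rw [Subgroup.coe_mul, Subgroup.coe_mul, Subgroup.coe_mul, h1, h1, h1, hC, mul_inv_rev, xg_inv, xg_inv, hneg]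
      simp only [mul_assoc]
  let χ : SL(4, ZMod 2) →* ↥(GG K) := (PresentedGroup.toGroup (rels := rel) hrel).comp e.symm.toMonoidHom
  have hχ : ∀ p, χ (e (PresentedGroup.of p)) = gen p := fun p => by
    show PresentedGroup.toGroup hrel (e.symm (e (PresentedGroup.of p))) = _
    rw [MulEquiv.symm_apply_apply]
    exact PresentedGroup.toGroup.of hrel
  refine ⟨χ, ?_, le_antisymm ?_ ?_⟩
  · obtain ⟨eA⟩ := S0256.equiv_sl
    haveI : IsSimpleGroup ↥(alternatingGroup (Fin 8)) := alternatingGroup.isSimpleGroup (by simp)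
    haveI : Nontrivial SL(4, ZMod 2) := eA.symm.toEquiv.nontrivial
    haveI : IsSimpleGroup SL(4, ZMod 2) := IsSimpleGroup.isSimpleGroup_of_surjective eA.toMonoidHom eA.surjective
    rcases χ.normal_ker.eq_bot_or_eq_top with h | h
    · exact (MonoidHom.ker_eq_bot_iff χ).1 h
    · exfalso
      have a : Pair := ⟨(0, 1), by decide⟩
      have h2 : χ (e (PresentedGroup.of (a, 1))) = 1 := by rw [← MonoidHom.mem_ker, h]; trivial
      have h3 := congrArg (fun x : ↥(GG K) => (x : GL chevE6.Idx K)) h2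
      simp only [hχ, h1, Subgroup.coe_one] at h3
      exact one_ne_zero (StBasic.xg_inj c6 (all_facts _ (rt_mem a)).1 (h3.trans (xg_zero c6 _).symm))
  · rw [Subgroup.map_le_iff_le_comap, MonoidHom.range_eq_map, Subgroup.map_le_iff_le_comap]
    intro x hx
    clear hx
    obtain ⟨y, rfl⟩ := e.surjective x
    have hy : y ∈ Subgroup.closure (Set.range (PresentedGroup.of (rels := rel))) := by
      rw [PresentedGroup.closure_range_of]; trivial
    induction hy using Subgroup.closure_induction with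
    | mem y hy =>
      obtain ⟨⟨a, t⟩, rfl⟩ := hy
      rw [Subgroup.mem_comap, Subgroup.mem_comap, Subgroup.coe_subtype, hχ]
      rcases zmod_two t with rfl | rfl
      · rw [h0]; exact one_mem _
      · rw [h1]; exact xg_mem_sub (rt_mem a)
    | one => rw [map_one]; exact one_mem _
    | mul a b _ _ ha hb => rw [map_mul]; exact mul_mem ha hb
    | inv a _ ha => rw [map_inv]; exact inv_mem ha
  · rw [sub, Subgroup.closure_le]
    rintro _ ⟨r, hr, rfl⟩
    obtain ⟨a, rfl⟩ := rt_surj r hr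
    exact ⟨gen (a, 1), ⟨e (PresentedGroup.of (a, 1)), hχ _⟩, h1 a⟩

include hK hf in
/-- The centraliser of one element of order five. -/
theorem exists_cent : ∃ x : ↥(GG K), orderOf x = 5 ∧
    Nonempty (↥(Subgroup.centralizer ({x} : Set ↥(GG K))) ≃* (Multiplicative (ZMod 5) × ↥(alternatingGroup (Fin 8)))) := by
  classical
  haveI : Fact (Nat.Prime 5) := ⟨by norm_num⟩
  obtain ⟨F, iF, iFF, ι, -, hcard, -⟩ := ChevTwistArith14.exists_ext (F := K) (d := 2) (by norm_num)
  have h16 : Fintype.card F = 16 := by rw [hcard, hK]; norm_num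
  have h2K := TwistE6Mult14Geom.two_zero hK
  have h2 : (2 : F) = 0 := by rw [← map_ofNat ι, h2K, map_zero]
  haveI : CharP F 2 := CharTwo.of_one_ne_zero_of_two_eq_zero one_ne_zero h2
  let f16 : F →+* F := frobenius F 2
  have hf16 : ∀ t, f16 t = t ^ 2 := fun t => frobenius_def (R := F) 2 t
  -- the root of unity
  obtain ⟨z, hz⟩ := exists_prime_orderOf_dvd_card (G := Fˣ) 5 (by rw [Fintype.card_units, h16]; norm_num)
  have hz5u : z ^ 5 = 1 := by rw [← hz, pow_orderOf_eq_one]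
  have hz1u : z ≠ 1 := fun h => by rw [h, orderOf_one] at hz; norm_num at hz
  have hz5 : (z : F) ^ 5 = 1 := by rw [← Units.val_pow_eq_pow_val, hz5u, Units.val_one]
  have hz1 : (z : F) ≠ 1 := fun h => hz1u (Units.ext h)
  obtain ⟨w₀, hw₀⟩ := TwistE6Mult14Geom.exists_w hK
  obtain ⟨w, hw, hws⟩ : ∃ w : K, w ^ 2 = w + 1 ∧ ι w = (z : F) + (z : F)⁻¹ := by
    have hinv : (z : F)⁻¹ = (z : F) ^ 4 :=
      inv_eq_of_mul_eq_one_right (by rw [← pow_succ', hz5])
    have hsum : (z : F) ^ 4 + (z : F) ^ 3 + (z : F) ^ 2 + z + 1 = 0 :=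
      mul_left_cancel₀ (sub_ne_zero.2 hz1) (by linear_combination hz5)
    rw [hinv]
    have hs : ((z : F) + (z : F) ^ 4) ^ 2 = ((z : F) + (z : F) ^ 4) + 1 := by
      linear_combination hsum + ((z : F) ^ 3) * hz5 + 2 * hz5 +
        (-(z : F) - (z : F) ^ 4) * h2
    have hι : (ι w₀) ^ 2 = ι w₀ + 1 := by rw [← map_pow, hw₀, map_add, map_one]
    have h0 : ((z : F) + (z : F) ^ 4 - ι w₀) * ((z : F) + (z : F) ^ 4 - (ι w₀ + 1)) = 0 := by
      linear_combination hs + hι + (1 - ι w₀ * ((z : F) + (z : F) ^ 4) + ι w₀) * h2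
    rcases mul_eq_zero.1 h0 with h | h
    · exact ⟨w₀, hw₀, (sub_eq_zero.1 h).symm⟩
    · exact ⟨w₀ + 1, by linear_combination hw₀ + w₀ * h2K, by rw [map_add, map_one]; exact (sub_eq_zero.1 h).symm⟩
  obtain ⟨χ, hχ, hχs⟩ := exists_sl w hK hw f hf
  set M : GL chevE6.Idx K →* GL chevE6.Idx F := Matrix.GeneralLinearGroup.map ι with hM
  have hMinj : Function.Injective M := by
    intro a b hab
    apply Units.ext
    exact Matrix.map_injective ι.injective (congrArg (fun g : GL chevE6.Idx F => (g : Matrix chevE6.Idx chevE6.Idx F)) hab)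
  have hMx : ∀ r t, M (xg c6 r t) = xg c6 r (ι t) := fun r t => xg_map c6 ι r t
  have hMn : ∀ r t, M (ng c6 r t) = ng c6 r (ι t) := fun r t => by
    simp only [ng, map_mul, hMx, map_neg, map_inv₀]
  have hMsub : (sub : Subgroup (GL chevE6.Idx K)).map M = sub := by
    rw [sub, sub, MonoidHom.map_closure]
    congr 1
    ext g
    constructor
    · rintro ⟨_, ⟨r, hr, rfl⟩, rfl⟩
      exact ⟨r, hr, by rw [hMx, map_one]⟩
    · rintro ⟨r, hr, rfl⟩
      exact ⟨_, ⟨r, hr, rfl⟩, by rw [hMx, map_one]⟩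
  have hMfix : GG K ≤ (tw f16).Fixed.comap M := by
    refine gen_le c6 ?_
    intro l hl
    have hwg : M (wg c6 l) = wg c6 (l.map fun p => (p.1, ι p.2)) := by
      simp only [wg, map_list_prod, List.map_map]
      exact congrArg List.prod (List.map_congr_left fun p _ => hMx p.1 p.2)
    have hfx : ∀ j : Fin 2, ∀ t : F, t ^ 2 = t →
        xg c6 (sr j) t ∈ (tw f16).Fixed ∧ xg c6 (chevE6.neg (sr j)) t ∈ (tw f16).Fixed := fun j t ht =>
      ⟨⟨xg_mem_group c6 _ _, by rw [(sg_sr f16 hf16 j t).1, ht]⟩,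
        ⟨xg_mem_group c6 _ _, by rw [(sg_sr f16 hf16 j t).2, ht]⟩⟩
    have hfp : ∀ j : Fin 2, ∀ t : F, (t ^ 2) ^ 2 = t →
        pr j t (t ^ 2) ∈ (tw f16).Fixed ∧ prn j t (t ^ 2) ∈ (tw f16).Fixed := fun j t ht =>
      ⟨⟨mul_mem (xg_mem_group c6 _ _) (xg_mem_group c6 _ _), by rw [(sg_pr f16 hf16 j _ _).1, ht]⟩,
        ⟨mul_mem (xg_mem_group c6 _ _) (xg_mem_group c6 _ _), by rw [(sg_pr f16 hf16 j _ _).2, ht]⟩⟩
    rw [Subgroup.mem_comap, hwg]
    obtain ⟨e0, e1, a0, b0, a1, b1, g0, g1, c0, d0, c1', d1⟩ := roots_eq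
    rcases hl with ⟨t, ht, r, hr, rfl⟩ | ⟨t, rs, hrs, rfl⟩
    · have hw' : wg c6 ([(r, t)].map fun p => (p.1, ι p.2)) = xg c6 r (ι t) := by simp [wg]
      rw [hw']
      have ht' : (ι t) ^ 2 = ι t := by rw [← map_pow, ht]
      simp only [List.mem_cons, List.not_mem_nil, or_false] at hr
      rcases hr with rfl | rfl | rfl | rfl
      · rw [← e0]; exact (hfx 0 _ ht').1
      · rw [← g0]; exact (hfx 0 _ ht').2
      · rw [← e1]; exact (hfx 1 _ ht').1
      · rw [← g1]; exact (hfx 1 _ ht').2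
    · have hw' : wg c6 ([(rs.1, t), (rs.2, t ^ 2)].map fun p => (p.1, ι p.2)) =
          xg c6 rs.1 (ι t) * xg c6 rs.2 ((ι t) ^ 2) := by simp [wg]
      rw [hw']
      have ht' : ((ι t) ^ 2) ^ 2 = ι t := by rw [← map_pow, ← map_pow, pow_q2 (q := 2) hK]
      simp only [List.mem_cons, List.not_mem_nil, or_false] at hrs
      rcases hrs with rfl | rfl | rfl | rfl
      · rw [← a0, ← b0]; exact (hfp 0 _ ht').1
      · rw [← c0, ← d0]; exact (hfp 0 _ ht').2
      · rw [← a1, ← b1]; exact (hfp 1 _ ht').1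
      · rw [← c1', ← d1]; exact (hfp 1 _ ht').2
  -- the element
  have hxG : pr 0 w (w ^ 2) * pnn 0 1 1 ∈ GG K := by
    have h := pnn_mem f hf 0 (1 : K)
    rw [one_pow] at h
    exact mul_mem (pr_mem 2 0 w).1 h
  let x : ↥(GG K) := ⟨_, hxG⟩
  have hxsplit : (x : GL chevE6.Idx K) =
      xg c6 (ra 0) w * ng c6 (ra 0) 1 * (xg c6 (rb 0) (w ^ 2) * ng c6 (rb 0) 1) := by
    show pr 0 w (w ^ 2) * pnn 0 1 1 = _
    rw [pr, pnn]
    exact (E6Five14Fix.comm_nx (by simp) 1 (w ^ 2)).symm.mul_mul_mul_comm _ _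
  set g := E6Five14Fix.gz (z : F) with hg
  set h := E6Five14Fix.hh (z : F) with hh
  have hMxg : M x = g * h * g⁻¹ := by
    rw [eq_mul_inv_iff_mul_eq, hxsplit, map_mul, map_mul, map_mul, hMx, hMx, hMn, hMn, map_one, map_pow, hws]
    exact E6Five14Fix.gz_conj h2 hz5 hz1
  have hMxk : ∀ k : ℕ, M ((x ^ k : ↥(GG K)) : GL chevE6.Idx K) = g * h ^ k * g⁻¹ := fun k => by
    rw [Subgroup.coe_pow, map_pow, hMxg, conj_pow]
  have hgc : ∀ v ∈ (sub : Subgroup (GL chevE6.Idx F)), Commute g v := by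
    intro v hv
    refine Subgroup.closure_induction (p := fun v _ => Commute g v) ?_ (Commute.one_right _)
      (fun a b _ _ ha hb => ha.mul_right hb) (fun a _ ha => ha.inv_right) hv
    rintro _ ⟨r, hr, rfl⟩
    exact ((comm_four (by simp) hr _ _).mul_left (comm_four (by simp) hr _ _)).mul_left
      ((comm_four (by simp) hr _ _).mul_left (comm_four (by simp) hr _ _))
  have hracomm : ∀ v ∈ (sub : Subgroup (GL chevE6.Idx F)), Commute v (xg c6 (ra 0) (1 : F)) := by
    intro v hv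
    refine Subgroup.closure_induction (p := fun v _ => Commute v (xg c6 (ra 0) (1 : F))) ?_ (Commute.one_left _)
      (fun a b _ _ ha hb => ha.mul_left hb) (fun a _ ha => ha.inv_left) hv
    rintro _ ⟨r, hr, rfl⟩
    exact (comm_four (by simp) hr _ _).symm
  have hχM : ∀ a, M (χ a) ∈ (sub : Subgroup (GL chevE6.Idx F)) := fun a => by
    rw [← hMsub, ← hχs]
    exact Subgroup.mem_map_of_mem M ⟨χ a, ⟨a, rfl⟩, rfl⟩
  have hxc : ∀ a, Commute x (χ a) := fun a => by
    refine Subtype.ext (?_ : (x : GL chevE6.Idx K) * χ a = χ a * x)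
    have hmem : (χ a : GL chevE6.Idx K) ∈ (sub : Subgroup (GL chevE6.Idx K)) :=
      hχs ▸ (⟨χ a, ⟨a, rfl⟩, rfl⟩ : (χ a : GL chevE6.Idx K) ∈ χ.range.map (GG K).subtype)
    refine Subgroup.closure_induction (p := fun v _ => Commute (x : GL chevE6.Idx K) v) ?_ (Commute.one_right _)
      (fun a b _ _ ha hb => ha.mul_right hb) (fun a _ ha => ha.inv_right) hmem
    rintro _ ⟨r, hr, rfl⟩
    rw [hxsplit]
    have hn : ∀ a ∈ [ra 0, rb 0], Commute (ng c6 a (1 : K)) (xg c6 r 1) := by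
      intro a ha
      simp only [List.mem_cons, List.not_mem_nil, or_false] at ha
      rcases ha with rfl | rfl <;>
        exact ((comm_four (by simp) hr _ _).mul_left (comm_four (by simp) hr _ _)).mul_left
          (comm_four (by simp) hr _ _)
    exact ((comm_four (by simp) hr _ _).mul_left (hn _ (by simp))).mul_left
      ((comm_four (by simp) hr _ _).mul_left (hn _ (by simp)))
  have hx5 : x ^ 5 = 1 := Subtype.ext (hMinj (by
    rw [hMxk, hh, E6Five14Fix.hh_pow_five hz5, mul_one, mul_inv_cancel, Subgroup.coe_one, map_one]))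
  have indep : ∀ (k : ℕ) a, x ^ k = χ a → 5 ∣ k := by
    intro k a hk
    have e := hMxk k
    rw [hk] at e
    have hv := hχM a
    have e' : h ^ k = M (χ a) := by
      calc h ^ k = g⁻¹ * (g * h ^ k * g⁻¹) * g := by group
        _ = g⁻¹ * (M (χ a) * g) := by rw [← e, mul_assoc]
        _ = _ := by rw [← (hgc _ hv).eq, inv_mul_cancel_left]
    refine E6Five14Fix.hh_pow_commute ?_ hz5 hz1
    rw [← hh, e']
    exact hracomm _ hv
  have hx1 : x ≠ 1 := fun hx => by
    have := indep 1 1 (by rw [pow_one, hx, map_one])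
    norm_num at this
  have hord : orderOf x = 5 := orderOf_eq_prime hx5 hx1
  have hmod : ∀ n, x ^ (n % 5) = x ^ n := fun n => by rw [← hord, pow_mod_orderOf]
  refine ⟨x, hord, ?_⟩
  have hmem : ∀ (p : Multiplicative (ZMod 5) × SL(4, ZMod 2)),
      x ^ p.1.toAdd.val * χ p.2 ∈ Subgroup.centralizer ({x} : Set ↥(GG K)) := fun p => by
    rw [Subgroup.mem_centralizer_singleton_iff]
    exact (((Commute.refl x).pow_left _).mul_left (hxc p.2).symm).eq
  let μ : Multiplicative (ZMod 5) × SL(4, ZMod 2) →* ↥(Subgroup.centralizer ({x} : Set ↥(GG K))) :=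
    { toFun := fun p => ⟨x ^ p.1.toAdd.val * χ p.2, hmem p⟩
      map_one' := Subtype.ext (by simp)
      map_mul' := fun p q => Subtype.ext (by
        show x ^ (p.1.toAdd + q.1.toAdd).val * χ (p.2 * q.2) =
          x ^ p.1.toAdd.val * χ p.2 * (x ^ q.1.toAdd.val * χ q.2)
        rw [ZMod.val_add, hmod, pow_add, map_mul]
        exact ((hxc p.2).pow_left _).mul_mul_mul_comm _ _) }
  have hμinj : Function.Injective μ := by
    rw [injective_iff_map_eq_one]
    intro p hp
    have e : x ^ p.1.toAdd.val * χ p.2 = 1 := congrArg Subtype.val hp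
    have hd := indep p.1.toAdd.val p.2⁻¹ (by rw [map_inv]; exact eq_inv_of_mul_eq_one_left e)
    have h0 : p.1.toAdd.val = 0 := Nat.eq_zero_of_dvd_of_lt hd (ZMod.val_lt _)
    rw [h0, pow_zero, one_mul] at e
    refine Prod.ext ?_ (hχ (e.trans (map_one χ).symm))
    rw [ZMod.val_eq_zero] at h0
    exact congrArg Multiplicative.ofAdd h0
  have hμsurj : Function.Surjective μ := by
    rintro ⟨y, hy⟩
    rw [Subgroup.mem_centralizer_singleton_iff] at hy
    have hyF : M y ∈ (tw f16).Fixed := hMfix y.2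
    have hgg : g ∈ chevE6.group F := mul_mem (E6Five14Fix.gv_mem _ _) (E6Five14Fix.gv_mem _ _)
    set v := g⁻¹ * M y * g with hv
    have hvg : v ∈ chevE6.group F := mul_mem (mul_mem (inv_mem hgg) hyF.1) hgg
    have hfix : E6Five14Fix.fm (z : F) f16 v = v := by
      have hn := E6Five14Fix.sg_gz h2 hz5 hz1 f16 hf16
      rw [← hg, inv_mul_eq_iff_eq_mul] at hn
      rw [E6Five14Fix.fm, hv, (tw f16).sg_mul (mul_mem (inv_mem hgg) hyF.1) hgg,
        (tw f16).sg_mul (inv_mem hgg) hyF.1, (tw f16).sg_inv hgg, hyF.2, hn]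
      group
    have hhv : h * v = v * h := by
      have e : M x * M y = M y * M x := by
        rw [← map_mul, ← map_mul]
        exact congrArg (fun a : ↥(GG K) => M (a : GL chevE6.Idx K)) hy.symm
      rw [hMxg] at e
      calc h * v = g⁻¹ * (g * h * g⁻¹ * M y) * g := by rw [hv]; group
        _ = g⁻¹ * (M y * (g * h * g⁻¹)) * g := by rw [e]
        _ = _ := by rw [hv]; group
    obtain ⟨k, s, hs, hvs⟩ := E6Five14Fix.normal_form h2 hz5 hz1 f16 hf16 h16 hvg hfix hhv
    have hs' := hs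
    rw [← hMsub, ← hχs] at hs'
    obtain ⟨_, ⟨_, ⟨a, rfl⟩, rfl⟩, ha⟩ := hs'
    refine ⟨(Multiplicative.ofAdd (k : ZMod 5), a), Subtype.ext (Subtype.ext (hMinj ?_))⟩
    show M ((x ^ ((k : ZMod 5)).val * χ a : ↥(GG K)) : GL chevE6.Idx K) = M y
    rw [ZMod.val_natCast, hmod, Subgroup.coe_mul, map_mul, hMxk]
    calc g * h ^ k * g⁻¹ * M (χ a) = g * h ^ k * (g⁻¹ * s) := by rw [mul_assoc]; exact congrArg _ (congrArg _ ha)
      _ = g * (h ^ k * s) * g⁻¹ := by rw [((hgc s hs).inv_left).eq]; group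
      _ = _ := by rw [← hvs, hv]; group
  obtain ⟨eA⟩ := S0256.equiv_sl
  exact ⟨(MulEquiv.ofBijective μ ⟨hμinj, hμsurj⟩).symm.trans (MulEquiv.prodCongr (MulEquiv.refl _) eA.symm)⟩

/-- centralisers of conjugate elements are isomorphic -/
theorem cent_equiv {G : Type*} [Group G] {x y : G} (h : IsConj x y) :
    Nonempty (↥(Subgroup.centralizer ({x} : Set G)) ≃* ↥(Subgroup.centralizer ({y} : Set G))) := by
  obtain ⟨c, hc⟩ := isConj_iff.1 h
  have e : (Subgroup.centralizer ({x} : Set G)).map (MulAut.conj c).toMonoidHom =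
      Subgroup.centralizer ({y} : Set G) := by
    rw [← hc]
    ext a
    rw [Subgroup.mem_map_equiv, Subgroup.mem_centralizer_singleton_iff, Subgroup.mem_centralizer_singleton_iff,
      MulAut.conj_symm_apply, ← (MulAut.conj c).injective.eq_iff, MulAut.conj_apply, MulAut.conj_apply]
    constructor <;> intro h <;> simpa [mul_assoc] using h
  exact ⟨(Subgroup.equivMapOfInjective _ _ (MulAut.conj c).injective).trans (MulEquiv.subgroupCongr e)⟩

end Cfsg.Agent.E6Five14Cent
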