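import Cfsg.Agent.Lib.StemTwistBN9
import Mathlib

/-!
Stem extensions of a group with a split BN-pair of any rank: the part of the kernel prime to the characteristic
lies in the product of the lifted tori of the fundamental classes.  Relations in the Weyl group are replaced by an
exchange condition.
-/

set_option autoImplicit false
set_option linter.unusedSectionVars false
set_option linter.unusedVariables false

namespace Cfsg.Agent.StemTwistNB67

open Subgroup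
open Cfsg.Agent.StemTwistBN9 (Rank1 Lt Lt_le Lt_inj Lt_conj Lt_surj)
open scoped commutatorElement

variable {Γ G : Type*} [Group Γ] [Group G] {κ : Type*}

/-- the data of the group -/
structure RankN (p : ℕ) (U H : Subgroup G) (L X : κ → Subgroup G) (n : κ → G) : Prop where
  perfect : commutator G = ⊤
  rk : ∀ J, Rank1 p U H (L J) (X J) (n J)
  pU : ∀ u ∈ U, StemLift.IsPElem p u
  gen : closure ((U : Set G) ∪ Set.range n) = ⊤
  HU : ∀ h ∈ H, ∀ u ∈ U, h * u * h⁻¹ ∈ U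
  Hcomm : ∀ a ∈ H, ∀ b ∈ H, Commute a b
  Hgen : H ≤ ⨆ J, H ⊓ L J
  NU : ∀ g ∈ closure ((H : Set G) ∪ Set.range n), g ∈ U → g = 1
  dich : ∀ g ∈ closure ((H : Set G) ∪ Set.range n), ∀ J, (∀ x ∈ X J, g⁻¹ * x * g ∈ U) ∨
    ∀ x ∈ X J, (n J * g)⁻¹ * x * (n J * g) ∈ U
  exch : ∀ (l : List κ) (b : κ), ((l ++ [b]).map n).prod ∈ H → ∃ l1 a l2, l = l1 ++ a :: l2 ∧
    (∀ x ∈ L b, (l2.map n).prod * x * ((l2.map n).prod)⁻¹ ∈ L a) ∧
    (n a)⁻¹ * ((l2.map n).prod * n b * ((l2.map n).prod)⁻¹) ∈ H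

variable [Finite Γ] [Finite G] [Fintype κ]

/-- the kernel lies in the product of the lifted tori, so its order is small -/
theorem card_ker_dvd {p : ℕ} [Fact p.Prime] {U H : Subgroup G} {L X : κ → Subgroup G} {n : κ → G}
    (D : RankN p U H L X n) {σ : Γ →* G} (hσ : Cfsg.IsStemExtension σ)
    (hZ : Nat.Coprime (Nat.card σ.ker) p) (kL : ∀ J, StemBasic.KerFree σ (L J)) :
    Nat.card σ.ker * Nat.card H ∣ ∏ J, Nat.card ↥(H ⊓ L J) := by
  classical
  have hs := hσ.1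
  have hc := hσ.2.1
  obtain ⟨P, hP, hPinj, hPmem⟩ := StemStep.exists_pLifts hZ hc hs D.pU
  have hPlift : ∀ u ∈ U, ∃ x ∈ P, σ x = u := by
    intro u hu
    obtain ⟨γ, hγ, hγp⟩ := StemLift.exists_lift hs hZ (D.pU u hu)
    exact ⟨γ, hPmem γ hγp (hγ ▸ hu), hγ⟩
  have hPconj : ∀ (g x : Γ), x ∈ P → σ g * σ x * (σ g)⁻¹ ∈ U → g * x * g⁻¹ ∈ P := fun g x hx h =>
    hPmem _ ((hP x hx).1.conj g) (by rw [map_mul, map_mul, map_inv]; exact h)
  -- the lifted tori
  let HJ : κ → Subgroup Γ := fun J => Lt σ p (L J) ⊓ H.comap σ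
  have hcomm : ∀ J J', ∀ x y : Γ, x ∈ HJ J → y ∈ HJ J' → Commute x y := by
    intro J J' x y hx hy
    rw [← commutatorElement_eq_one_iff_commute]
    refine Lt_inj hc hZ (kL J) ?_ ?_
    · rw [commutatorElement_def, mul_assoc, mul_assoc]
      refine mul_mem hx.1 ?_
      rw [← mul_assoc]
      exact Lt_conj (L J) ((D.rk J).HL hy.2) (inv_mem hx.1)
    · rw [map_commutatorElement, commutatorElement_eq_one_iff_commute]
      exact D.Hcomm _ hx.2 _ hy.2
  set Ht := ⨆ J, HJ J with hHt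
  have hHJ : ∀ J, HJ J ≤ Ht := fun J => le_iSup HJ J
  have hHtH : ∀ h ∈ Ht, σ h ∈ H := fun h hh =>
    (show Ht ≤ H.comap σ from iSup_le fun J => inf_le_right) hh
  -- normalisation of the tori
  have hnorm : ∀ (J : κ) (ν : Γ), ν ∈ Lt σ p (L J) → (∀ h ∈ H, σ ν * h * (σ ν)⁻¹ ∈ H) →
      ∀ h ∈ Ht, ν * h * ν⁻¹ ∈ Ht := by
    intro J ν hν hνH h hh
    have e : ν * h * ν⁻¹ = ⁅ν, h⁆ * h := by rw [commutatorElement_def]; group
    rw [e]
    refine mul_mem (hHJ J ⟨?_, ?_⟩) hh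
    · rw [commutatorElement_def, mul_assoc, mul_assoc]
      refine mul_mem hν ?_
      rw [← mul_assoc]
      exact Lt_conj (L J) ((D.rk J).HL (hHtH h hh)) (inv_mem hν)
    · show σ ⁅ν, h⁆ ∈ H
      rw [map_commutatorElement, commutatorElement_def]
      exact H.mul_mem (hνH _ (hHtH h hh)) (H.inv_mem (hHtH h hh))
  choose α hαT hα using fun J => Lt_surj hs hZ (D.rk J) D.pU (D.rk J).n_mem
  have hαn : ∀ J, ∀ h ∈ Ht, α J * h * (α J)⁻¹ ∈ Ht := fun J =>
    hnorm J (α J) (hαT J) (by rw [hα]; exact (D.rk J).nH)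
  have hαn' : ∀ J, ∀ h ∈ Ht, (α J)⁻¹ * h * (α J)⁻¹⁻¹ ∈ Ht := fun J =>
    hnorm J (α J)⁻¹ (inv_mem (hαT J)) (by rw [map_inv, hα]; simpa using (D.rk J).nH')
  have hαα : ∀ J, α J * α J ∈ Ht := fun J => hHJ J ⟨mul_mem (hαT J) (hαT J), by
    show σ (α J * α J) ∈ H
    rw [map_mul, hα]; exact (D.rk J).nsq⟩
  have hword : ∀ l : List κ, ∀ h ∈ Ht, (l.map α).prod * h * ((l.map α).prod)⁻¹ ∈ Ht := by
    intro l
    induction l with
    | nil => intro h hh; simpa using hh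
    | cons J l ih =>
      intro h hh
      simpa [mul_assoc] using hαn J _ (ih h hh)
  have hσw : ∀ l : List κ, σ (l.map α).prod = (l.map n).prod := by
    intro l
    rw [map_list_prod, List.map_map]
    exact congrArg List.prod (List.map_congr_left fun J _ => hα J)
  -- the exchange
  have hexch : ∀ (k : ℕ) (l : List κ), l.length = k → σ (l.map α).prod ∈ H → (l.map α).prod ∈ Ht := by
    intro k
    induction k using Nat.strong_induction_on with
    | _ k ih =>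
      intro l hk hl
      rcases List.eq_nil_or_concat l with rfl | ⟨pre, b, rfl⟩
      · simp
      rw [List.concat_eq_append] at hk hl ⊢
      rw [hσw] at hl
      obtain ⟨l1, a, l2, rfl, hL, hH⟩ := D.exch pre b hl
      set ν := (l2.map α).prod with hν
      have hh : (α a)⁻¹ * (ν * α b * ν⁻¹) ∈ HJ a := ⟨(Lt σ p (L a)).mul_mem ((Lt σ p (L a)).inv_mem (hαT a))
          (Lt_conj' (g := ν) (by rw [hν, hσw]; exact hL) (hαT b)), by
        show σ ((α a)⁻¹ * (ν * α b * ν⁻¹)) ∈ H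
        simp only [map_mul, map_inv, hα, hν, hσw]
        exact hH⟩
      set h := (α a)⁻¹ * (ν * α b * ν⁻¹)
      have e : ((l1 ++ a :: l2 ++ [b]).map α).prod =
          (l1.map α).prod * (α a * α a * h) * ((l1.map α).prod)⁻¹ * ((l1 ++ l2).map α).prod := by
        simp only [List.map_append, List.map_cons, List.map_nil, List.prod_append, List.prod_cons,
          List.prod_nil, ← hν, h]
        group
      have hkk : (l1.map α).prod * (α a * α a * h) * ((l1.map α).prod)⁻¹ ∈ Ht :=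
        hword l1 _ (mul_mem (hαα a) (hHJ a hh))
      rw [e]
      refine mul_mem hkk (ih (l1 ++ l2).length ?_ (l1 ++ l2) rfl ?_)
      · rw [← hk]; simp
      · rw [← hσw, e, map_mul] at hl
        exact (H.mul_mem_cancel_left (hHtH _ hkk)).1 hl
  -- the group over the Weyl group
  set Nt := closure ((Ht : Set Γ) ∪ Set.range α) with hNt
  have hHtN : Ht ≤ Nt := fun x hx => subset_closure (Or.inl hx)
  have hαN : ∀ J, α J ∈ Nt := fun J => subset_closure (Or.inr ⟨J, rfl⟩)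
  have hNtN : ∀ g ∈ Nt, σ g ∈ closure ((H : Set G) ∪ Set.range n) := by
    have : Nt ≤ (closure ((H : Set G) ∪ Set.range n)).comap σ := by
      rw [hNt, closure_le]
      rintro x (hx | ⟨J, rfl⟩)
      · exact subset_closure (Or.inl (hHtH x hx))
      · exact subset_closure (Or.inr ⟨J, (hα J).symm⟩)
    exact fun g hg => this hg
  have hform : ∀ g ∈ Nt, ∃ h ∈ Ht, ∃ l : List κ, g = h * (l.map α).prod := by
    intro g hg
    induction hg using closure_induction_left with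
    | one => exact ⟨1, one_mem _, [], by simp⟩
    | mul_left x hx y _ ih =>
      obtain ⟨h, hh, l, rfl⟩ := ih
      rcases hx with hx | ⟨J, rfl⟩
      · exact ⟨x * h, mul_mem hx hh, l, by group⟩
      · exact ⟨α J * h * (α J)⁻¹, hαn J h hh, J :: l, by rw [List.map_cons, List.prod_cons]; group⟩
    | inv_mul_cancel x hx y _ ih =>
      obtain ⟨h, hh, l, rfl⟩ := ih
      rcases hx with hx | ⟨J, rfl⟩
      · exact ⟨x⁻¹ * h, mul_mem (inv_mem hx) hh, l, by group⟩
      · exact ⟨(α J * α J)⁻¹ * (α J * h * (α J)⁻¹), mul_mem (inv_mem (hαα J)) (hαn J h hh), J :: l, by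
          rw [List.map_cons, List.prod_cons]; group⟩
  -- left multiplication by a representative
  have move : ∀ J, ∀ u ∈ P, ∀ g ∈ Nt, ∃ u' ∈ P, ∃ g' ∈ Nt, ∃ v ∈ P, α J * (u * g) = u' * g' * v := by
    intro J u hu g hg
    set ν := α J
    have R := D.rk J
    obtain ⟨x, hx, v, hv, hnv, he⟩ := R.split _ (hP u hu).2
    obtain ⟨x', hx', hxe⟩ := hPlift x (R.X_le hx)
    obtain ⟨v', hv', hve⟩ := hPlift v hv
    have hu' : u = v' * x' := mul_inv_eq_one.1 (hPinj _ (mul_mem hu (inv_mem (mul_mem hv' hx')))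
      (by rw [map_mul, map_inv, map_mul, hve, hxe, ← he, mul_inv_cancel]))
    have hvc : ν * v' * ν⁻¹ ∈ P := hPconj ν v' hv' (by rw [hα, hve]; exact hnv)
    rcases D.dich _ (hNtN g hg) J with hd | hd
    · refine ⟨ν * v' * ν⁻¹, hvc, ν * g, mul_mem (hαN J) hg, g⁻¹ * x' * g⁻¹⁻¹, ?_, by rw [hu']; group⟩
      refine hPconj _ x' hx' ?_
      rw [map_inv, hxe, inv_inv]
      exact hd x hx
    · have hliftX : ∀ y ∈ X J, ∃ y' ∈ Lt σ p (L J), y' ∈ P ∧ σ y' = y := fun y hy => by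
        obtain ⟨y', hy', hye⟩ := hPlift y (R.X_le hy)
        exact ⟨y', subset_closure ⟨(hP y' hy').1, by rw [hye]; exact R.X_le_L hy⟩, hy', hye⟩
      have hX' : x' ∈ Lt σ p (L J) := subset_closure ⟨(hP x' hx').1, by rw [hxe]; exact R.X_le_L hx⟩
      have hgL : n J * x * (n J)⁻¹ ∈ L J :=
        (L J).mul_mem ((L J).mul_mem R.n_mem (R.X_le_L hx)) ((L J).inv_mem R.n_mem)
      have hνx : ν * x' * ν⁻¹ ∈ Lt σ p (L J) := mul_mem (mul_mem (hαT J) hX') (inv_mem (hαT J))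
      have hsν : σ (ν * x' * ν⁻¹) = n J * x * (n J)⁻¹ := by rw [map_mul, map_mul, map_inv, hα, hxe]
      rcases R.bruhat _ hgL with ⟨x1, hx1, h1, hh1, e⟩ | ⟨x1, hx1, h1, hh1, y, hy, e⟩
      · obtain ⟨x1', hx1L, hx1P, hx1e⟩ := hliftX x1 hx1
        obtain ⟨h1', hh1L, hh1e⟩ := Lt_surj hs hZ R D.pU hh1.2
        have heq : ν * x' * ν⁻¹ = x1' * h1' := mul_inv_eq_one.1 (Lt_inj hc hZ (kL J)
          (mul_mem hνx (inv_mem (mul_mem hx1L hh1L)))
          (by rw [map_mul, map_inv, hsν, e, map_mul, hx1e, hh1e, mul_inv_cancel]))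
        refine ⟨ν * v' * ν⁻¹ * x1', mul_mem hvc hx1P, h1' * (ν * g), mul_mem
          (hHtN (hHJ J ⟨hh1L, show σ h1' ∈ H by rw [hh1e]; exact hh1.1⟩)) (mul_mem (hαN J) hg), 1, one_mem _, ?_⟩
        rw [hu', show ν * (v' * x' * g) = ν * v' * ν⁻¹ * (ν * x' * ν⁻¹) * (ν * g) by group, heq]
        group
      · obtain ⟨x1', hx1L, hx1P, hx1e⟩ := hliftX x1 hx1
        obtain ⟨y', hyL, hyP, hye⟩ := hliftX y hy
        obtain ⟨h1', hh1L, hh1e⟩ := Lt_surj hs hZ R D.pU hh1.2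
        have heq : ν * x' * ν⁻¹ = x1' * h1' * ν * y' := mul_inv_eq_one.1 (Lt_inj hc hZ (kL J)
          (mul_mem hνx (inv_mem (mul_mem (mul_mem (mul_mem hx1L hh1L) (hαT J)) hyL)))
          (by rw [map_mul, map_inv, hsν, e, map_mul, map_mul, map_mul, hx1e, hh1e, hα, hye, mul_inv_cancel]))
        refine ⟨ν * v' * ν⁻¹ * x1', mul_mem hvc hx1P, h1' * ν * (ν * g), mul_mem (mul_mem
          (hHtN (hHJ J ⟨hh1L, show σ h1' ∈ H by rw [hh1e]; exact hh1.1⟩)) (hαN J)) (mul_mem (hαN J) hg),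
          (ν * g)⁻¹ * y' * (ν * g)⁻¹⁻¹, ?_, ?_⟩
        · refine hPconj _ y' hyP ?_
          rw [map_inv, map_mul, hα, hye, inv_inv]
          exact hd y hy
        · rw [hu', show ν * (v' * x' * g) = ν * v' * ν⁻¹ * (ν * x' * ν⁻¹) * (ν * g) by group, heq]
          group
  have htop : closure ((P : Set Γ) ∪ Set.range α) = ⊤ := by
    set M := closure ((P : Set Γ) ∪ Set.range α) with hM
    have hmap : M.map σ = ⊤ := by
      rw [eq_top_iff, ← D.gen, closure_le]
      rintro x (hx | ⟨J, rfl⟩)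
      · obtain ⟨y, hy, rfl⟩ := hPlift x hx
        exact ⟨y, subset_closure (Or.inl hy), rfl⟩
      · exact ⟨α J, subset_closure (Or.inr ⟨J, rfl⟩), hα J⟩
    rw [eq_top_iff, ← StemBasic.commutator_eq_top_of_stem hσ D.perfect, _root_.commutator_def,
      Subgroup.commutator_le]
    intro x _ y _
    obtain ⟨x', hx', hxe⟩ : σ x ∈ M.map σ := hmap ▸ mem_top _
    obtain ⟨y', hy', hye⟩ : σ y ∈ M.map σ := hmap ▸ mem_top _
    rw [StemPairing.bracket_congr hc hxe.symm hye.symm, commutatorElement_def]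
    exact mul_mem (mul_mem (mul_mem hx' hy') (inv_mem hx')) (inv_mem hy')
  have hHtP : ∀ h ∈ Ht, ∀ u ∈ P, h * u * h⁻¹ ∈ P := fun h hh u hu =>
    hPconj h u hu (D.HU _ (hHtH h hh) _ (hP u hu).2)
  have hall : ∀ z : Γ, ∃ u ∈ P, ∃ g ∈ Nt, ∃ v ∈ P, z = u * g * v := by
    intro z
    have hz : z ∈ closure ((P : Set Γ) ∪ Set.range α) := htop ▸ mem_top z
    induction hz using closure_induction_left with
    | one => exact ⟨1, one_mem _, 1, one_mem _, 1, one_mem _, by simp⟩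
    | mul_left x hx y _ ih =>
      obtain ⟨u, hu, g, hg, v, hv, rfl⟩ := ih
      rcases hx with hx | ⟨J, rfl⟩
      · exact ⟨x * u, mul_mem hx hu, g, hg, v, hv, by group⟩
      · obtain ⟨u', hu', g', hg', v', hv', e⟩ := move J u hu g hg
        exact ⟨u', hu', g', hg', v' * v, mul_mem hv' hv, by rw [← mul_assoc (α J), e]; group⟩
    | inv_mul_cancel x hx y _ ih =>
      obtain ⟨u, hu, g, hg, v, hv, rfl⟩ := ih
      rcases hx with hx | ⟨J, rfl⟩
      · exact ⟨x⁻¹ * u, mul_mem (inv_mem hx) hu, g, hg, v, hv, by group⟩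
      · obtain ⟨u', hu', g', hg', v', hv', e⟩ := move J u hu g hg
        refine ⟨(α J * α J)⁻¹ * u' * (α J * α J)⁻¹⁻¹, hHtP _ (inv_mem (hαα J)) u' hu', (α J * α J)⁻¹ * g',
          mul_mem (inv_mem (hHtN (hαα J))) hg', v' * v, mul_mem hv' hv, ?_⟩
        rw [show (α J)⁻¹ * (u * g * v) = (α J * α J)⁻¹ * (α J * (u * g)) * v by group, e]
        group
  have hker : σ.ker ≤ Ht := by
    intro z hz
    rw [MonoidHom.mem_ker] at hz
    obtain ⟨u, hu, g, hg, v, hv, rfl⟩ := hall z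
    rw [map_mul, map_mul] at hz
    have hgU : σ g ∈ U := by
      rw [show σ g = (σ u)⁻¹ * (σ u * σ g * σ v) * (σ v)⁻¹ by group, hz, mul_one]
      exact U.mul_mem (U.inv_mem (hP u hu).2) (U.inv_mem (hP v hv).2)
    have hg1 := D.NU _ (hNtN g hg) hgU
    obtain ⟨h, hh, l, rfl⟩ := hform g hg
    have hl : (l.map α).prod ∈ Ht := by
      refine hexch _ l rfl ((H.mul_mem_cancel_left (hHtH h hh)).1 ?_)
      rw [← map_mul, hg1]
      exact one_mem _
    rw [hg1, mul_one] at hz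
    have huv : u * v = 1 := hPinj _ (mul_mem hu hv) (by rw [map_mul]; exact hz)
    rw [StemBasic.ker_comm hc hg1 u, mul_assoc, huv, mul_one]
    exact mul_mem hh hl
  -- counting
  have hcard : ∀ J, Nat.card (HJ J) = Nat.card ↥(H ⊓ L J) := by
    intro J
    refine Nat.card_eq_of_bijective (fun x => ⟨σ x.1, x.2.2, Lt_le (L J) x.2.1⟩) ⟨?_, ?_⟩
    · intro a b hab
      have h1 : σ a.1 = σ b.1 := congrArg Subtype.val hab
      exact Subtype.ext (mul_inv_eq_one.1 (Lt_inj hc hZ (kL J) (mul_mem a.2.1 (inv_mem b.2.1))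
        (by rw [map_mul, map_inv, h1, mul_inv_cancel])))
    · rintro ⟨y, hyH, hyL⟩
      obtain ⟨γ, hγ, rfl⟩ := Lt_surj hs hZ (D.rk J) D.pU hyL
      exact ⟨⟨γ, hγ, hyH⟩, rfl⟩
  have hdvd : Nat.card Ht ∣ ∏ J, Nat.card ↥(H ⊓ L J) := by
    have hpc : Pairwise fun i j => ∀ x y : Γ, x ∈ HJ i → y ∈ HJ j → Commute x y :=
      fun i j _ => hcomm i j
    have h1 := Subgroup.card_range_dvd (Subgroup.noncommPiCoprod hpc)
    rw [Subgroup.noncommPiCoprod_range, Nat.card_pi] at h1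
    simpa only [hcard] using h1
  refine dvd_trans (dvd_of_eq ?_) hdvd
  set r := σ.comp Ht.subtype with hr
  have hrange : r.range = H := by
    refine le_antisymm (by rintro _ ⟨x, rfl⟩; exact hHtH x.1 x.2) (D.Hgen.trans (iSup_le fun J => ?_))
    rintro y ⟨hyH, hyL⟩
    obtain ⟨γ, hγ, rfl⟩ := Lt_surj hs hZ (D.rk J) D.pU hyL
    exact ⟨⟨γ, hHJ J ⟨hγ, hyH⟩⟩, rfl⟩
  have hk : Nat.card r.ker = Nat.card σ.ker :=
    Nat.card_eq_of_bijective (fun x => ⟨x.1.1, x.2⟩)
      ⟨fun a b h => Subtype.ext (Subtype.ext (congrArg Subtype.val h :)), fun z => ⟨⟨⟨z.1, hker z.2⟩, z.2⟩, rfl⟩⟩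
  rw [← hk, ← hrange, ← Subgroup.index_ker, Subgroup.card_mul_index]
where
  /-- lifts follow a conjugation between two subgroups -/
  Lt_conj' {Γ G : Type _} [Group Γ] [Group G] [Finite Γ] {σ : Γ →* G} {p : ℕ} {L L' : Subgroup G} {g : Γ}
      (hg : ∀ x ∈ L, σ g * x * (σ g)⁻¹ ∈ L') {y : Γ} (hy : y ∈ Lt σ p L) : g * y * g⁻¹ ∈ Lt σ p L' := by
    induction hy using closure_induction with
    | mem x hx => exact subset_closure ⟨hx.1.conj g, by rw [map_mul, map_mul, map_inv]; exact hg _ hx.2⟩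
    | one => simp
    | mul a b _ _ ha hb => simpa [mul_assoc] using mul_mem ha hb
    | inv a _ ha => simpa [mul_assoc] using inv_mem ha

end Cfsg.Agent.StemTwistNB67
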