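import Cfsg.Agent.Lib.TwistAutE6Form
import Cfsg.Agent.Lib.D4StemMain9
import Cfsg.Agent.Lib.StemTwistNB67

/-!
`²E₆(q)`: the data for the part of the multiplier prime to the characteristic.
-/

set_option autoImplicit false
set_option linter.unusedSectionVars false
set_option linter.unusedVariables false
set_option maxRecDepth 20000

namespace Cfsg.Agent.E6StemClasses67

open Cfsg.Lie Cfsg.Agent Cfsg.Agent.ChevalleyCert Cfsg.Agent.ChevalleyCore Cfsg.Agent.ChevalleyRoots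
  Cfsg.Agent.ChevalleyTorus Cfsg.Agent.TwistedCore Cfsg.Agent.TwistedTools Cfsg.Agent.ChevWeyl
  Cfsg.Agent.ChevBruhat Cfsg.Agent.TwistedE6 Cfsg.Agent.TwistAutE6
open scoped MatrixGroups

variable {K : Type*} [Field K]

/-! ### root subgroups of a set of roots -/

variable (K) in
/-- the subgroup of a set of roots -/
def Rt (P : ℕ → Prop) : Subgroup (GL chevE6.Idx K) :=
  Subgroup.closure {g | ∃ r t, r < chevE6.nroots ∧ P r ∧ g = xg c6 r t}

theorem xg_mem_Rt {P : ℕ → Prop} {r : ℕ} (hr : r < chevE6.nroots) (h : P r) (t : K) : xg c6 r t ∈ Rt K P :=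
  Subgroup.subset_closure ⟨r, t, hr, h, rfl⟩

theorem Rt_mono {P Q : ℕ → Prop} (h : ∀ r < chevE6.nroots, P r → Q r) : Rt K P ≤ Rt K Q := by
  refine Subgroup.closure_mono ?_
  rintro g ⟨r, t, hr, hP, rfl⟩
  exact ⟨r, t, hr, h r hr hP, rfl⟩

variable (f : K →+* K) [Fintype K]

include f in
theorem Rt_le_U {P : ℕ → Prop} (h : ∀ r < chevE6.nroots, P r → chevE6.IsPosRoot r) :
    Rt K P ≤ chevE6.posUnipotent K := by
  refine (Subgroup.closure_le _).2 ?_
  rintro g ⟨r, t, hr, hP, rfl⟩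
  exact (tw f).S.xg_mem_U (h r hr hP) t

/-- conjugation by an element of `N` -/
theorem map_Rt {g : GL chevE6.Idx K} (hg : g ∈ chevE6.monomialSubgroup K) {P Q : ℕ → Prop}
    (h : ∀ r < chevE6.nroots, P r → Q ((tw f).X.img ((tw f).S.toW ⟨g, hg⟩) r)) {x : GL chevE6.Idx K}
    (hx : x ∈ Rt K P) : g * x * g⁻¹ ∈ Rt K Q := by
  refine Sys.conj_closure_le g ?_ hx
  rintro y ⟨r, t, hr, hP, rfl⟩
  obtain ⟨c, -, h1, -⟩ := (tw f).S.acts_toW ⟨g, hg⟩ r hr
  have e : g * xg c6 r t * g⁻¹ = xg c6 ((tw f).X.img ((tw f).S.toW ⟨g, hg⟩) r) (c * t) := h1 t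
  rw [e]
  exact xg_mem_Rt ((tw f).X.img_lt _ hr) (h r hr hP) _

theorem Uw_eq (J : Fin 2 ⊕ Fin 2) : (tw f).S.Uw ((tw f).wd (cl6 J)) = Rt K (· ∈ lst J) := by
  refine le_antisymm ((Subgroup.closure_le _).2 ?_) ((Subgroup.closure_le _).2 ?_)
  · rintro g ⟨r, t, hr, rfl⟩
    have h := (mem_invSet_cl6 f J r).1 hr
    exact xg_mem_Rt (lst_lt J r h) h t
  · rintro g ⟨r, t, -, hr, rfl⟩
    exact xg_mem_Uw f J hr t

/-- the negatives of the roots of a class -/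
def nlst (J : Fin 2 ⊕ Fin 2) : List ℕ := (lst J).map chevE6.neg

/-- the first root of a class -/
def rt (J : Fin 2 ⊕ Fin 2) : ℕ := (lst J).headD 0

theorem lst_facts : ∀ J : Fin 2 ⊕ Fin 2, rt J ∈ lst J ∧ ∀ r ∈ lst J, chevE6.IsPosRoot r ∧
    (r = rt J ∨ r = ChevalleyGraph.symE6.rho (rt J)) ∧ ChevalleyGraph.symE6.rho r ∈ lst J ∧
    Twist.wact' chevE6 (cl6 J) r ∈ nlst J ∧ Twist.wact' chevE6 (cl6 J) (chevE6.neg r) ∈ lst J := by
  decide +kernel

variable {q : ℕ} (hf : ∀ t, f t = t ^ q) (hK : Fintype.card K = q ^ 2)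

/-- the representatives -/
noncomputable abbrev nG (J : Fin 2 ⊕ Fin 2) : ↥(twistedE6 K q) := TwistAutRigid.cG (classes f hf hK) J

/-- the root groups of the classes -/
noncomputable abbrev XG (J : Fin 2 ⊕ Fin 2) : Subgroup ↥(twistedE6 K q) := TwistAutRigid.XJ (classes f hf hK) J

/-- the rank-one subgroups -/
noncomputable def LG : Fin 2 ⊕ Fin 2 → Subgroup ↥(twistedE6 K q)
  | .inl j => (sPhi f hf j).range
  | .inr j => (pPhi f hf j).range

variable (K q) in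
/-- `H¹` -/
def H1 : Subgroup ↥(twistedE6 K q) := (chevE6.diagonalSubgroup K).subgroupOf (twistedE6 K q)

theorem mem_XG {J : Fin 2 ⊕ Fin 2} {y : ↥(twistedE6 K q)} :
    y ∈ XG f hf hK J ↔ (y : GL chevE6.Idx K) ∈ Rt K (· ∈ lst J) := by
  constructor
  · intro h; rw [← Uw_eq f J]; exact h.1
  · intro h; exact ⟨by rw [← Uw_eq f J] at h; exact h, le_fixed f hf hK y.2⟩

theorem nG_N (J : Fin 2 ⊕ Fin 2) : ((nG f hf hK J : ↥(twistedE6 K q)) : GL chevE6.Idx K) ∈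
    chevE6.monomialSubgroup K := (classes f hf hK).cn_N J

theorem toW_nG (J : Fin 2 ⊕ Fin 2) : (tw f).S.toW ⟨_, nG_N f hf hK J⟩ = (tw f).wd (cl6 J) :=
  (classes f hf hK).cn_toW J

include hf hK in
theorem cw_inv' (J : Fin 2 ⊕ Fin 2) : ((tw f).wd (cl6 J))⁻¹ = (tw f).wd (cl6 J) :=
  (classes f hf hK).cw_inv J

/-! ### the tori -/

/-- the parameter of a single class -/
def sTor (j : Fin 2) (s : Kˣ) : Fin chevE6.rank → Kˣ := Pi.mulSingle (sn j) s

/-- the parameter of a pair class -/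
def pTor (q : ℕ) (j : Fin 2) (t : Kˣ) : Fin chevE6.rank → Kˣ :=
  Pi.mulSingle (pn j) t * Pi.mulSingle (pm j) (t ^ q)

theorem sPhi_dd (j : Fin 2) (t : L0 f) (s : Kˣ) (hs : (s : K) = (t : K)) :
    ((sPhi f hf j (D4StemMain9.dd t) : ↥(twistedE6 K q)) : GL chevE6.Idx K) = torus chevE6 (sTor j s) := by
  show rootPhi (sr j) (lts j).1 (Matrix.SpecialLinearGroup.map (L0 f).subtype (D4StemMain9.dd t)) = _
  rw [D4StemMain9.dd, map_mul (Matrix.SpecialLinearGroup.map (L0 f).subtype), map_nel, map_nel, map_neg, map_one,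
    nel_pair]
  rw [show (L0 f).subtype t = ((s : Kˣ) : K) from hs.symm, hg_simple c6 (i := sn j)]
  rfl

theorem pPhi_dd (j : Fin 2) (t : Kˣ) :
    ((pPhi f hf j (D4StemMain9.dd (t : K)) : ↥(twistedE6 K q)) : GL chevE6.Idx K) = torus chevE6 (pTor q j t) := by
  show pairPhi f j _ = torus chevE6 (pTor q j t)
  rw [D4StemMain9.dd, pairPhi_apply, map_mul (Matrix.SpecialLinearGroup.map f), map_nel, map_nel, map_neg, map_one,
    nel_pair, nel_pair, hf, ← Units.val_pow_eq_pow_val, hg_simple c6 (i := pn j), hg_simple c6 (i := pm j), ← map_mul]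
  rfl

theorem sTor_one {j : Fin 2} {s : Kˣ} (h : torus chevE6 (sTor j s) = 1) : s = 1 := by
  obtain ⟨z1, z3, -, -, -, -⟩ := ker_eqs h
  fin_cases j <;> simp [sTor, sn] at z1 z3 <;> assumption

theorem pTor_one {j : Fin 2} {t : Kˣ} (h : torus chevE6 (pTor q j t) = 1) : t = 1 := by
  obtain ⟨-, -, z03, z2, z4, z5⟩ := ker_eqs h
  fin_cases j
  · simp [pTor, pn, pm, Pi.mulSingle_apply] at z03 z2
    rw [pow_succ, ← z2, one_mul] at z03
    exact z03
  · simpa [pTor, pn, pm, Pi.mulSingle_apply] using z2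

include hf hK in
theorem cw_ne (J : Fin 2 ⊕ Fin 2) (h : (tw f).wd (cl6 J) = 1) : False :=
  (classes f hf hK).cw_ne_one J h

theorem notHU (J : Fin 2 ⊕ Fin 2) {h u : ↥(twistedE6 K q)} (hh : h ∈ H1 K q)
    (hu : u ∈ TwistAutRigid.U1 (twistedE6 K q)) (e : nG f hf hK J = h * u) : False := by
  have e' : ((nG f hf hK J : ↥(twistedE6 K q)) : GL chevE6.Idx K) = (h : GL chevE6.Idx K) * u :=
    congrArg Subtype.val e
  have h1 := (tw f).S.toW_unique (n := ⟨_, nG_N f hf hK J⟩) (n' := 1) (b := 1) (b' := (h : GL chevE6.Idx K))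
    (u := 1) (u' := (u : GL chevE6.Idx K)) (one_mem _) (Sys.H_le_B hh) (one_mem _) (Sys.U_le_B hu)
    (by simpa using e')
  rw [map_one, toW_nG f hf hK J] at h1
  exact cw_ne f hf hK J h1

theorem cls_s (j : Fin 2) : D4StemMain9.Cls (TwistAutRigid.U1 (twistedE6 K q)) (H1 K q)
    (XG f hf hK (.inl j)) (sPhi f hf j) where
  memX y := mem_XJ_inl f hf hK j
  X_le := TwistAutRigid.XJ_le _ _
  upper_one t h := (sPair f hf hK j).upper_eq_one t h
  dd_H t ht := by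
    show ((sPhi f hf j (D4StemMain9.dd t) : ↥(twistedE6 K q)) : GL chevE6.Idx K) ∈ chevE6.diagonalSubgroup K
    rw [sPhi_dd f hf j t (Units.mk0 (t : K) fun h => ht (Subtype.ext h)) rfl]
    exact torus_mem_H c6 _
  dd_one t ht h := by
    have h1 := sPhi_dd f hf j t (Units.mk0 (t : K) fun h => ht (Subtype.ext h)) rfl
    rw [h] at h1
    exact Subtype.ext (congrArg Units.val (sTor_one h1.symm))
  HU h hh u hu := Subgroup.mem_normalizer_iff.1 ((tw f).S.H_le_normalizer hh) _ |>.1 hu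
  inter g hg hu := Subtype.ext (Subgroup.mem_bot.1 ((tw f).S.U_inf_H.le ⟨hu, hg⟩))
  notHU h hh u hu e := notHU f hf hK (.inl j) hh hu ((cG_inl f hf hK j).trans e)

theorem cls_p (j : Fin 2) : D4StemMain9.Cls (TwistAutRigid.U1 (twistedE6 K q)) (H1 K q)
    (XG f hf hK (.inr j)) (pPhi f hf j) where
  memX y := mem_XJ_inr f hf hK j
  X_le := TwistAutRigid.XJ_le _ _
  upper_one t h := (pPair f hf hK j).upper_eq_one t h
  dd_H t ht := by
    show ((pPhi f hf j (D4StemMain9.dd t) : ↥(twistedE6 K q)) : GL chevE6.Idx K) ∈ chevE6.diagonalSubgroup K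
    rw [show t = ((Units.mk0 t ht : Kˣ) : K) from rfl, pPhi_dd f hf j]
    exact torus_mem_H c6 _
  dd_one t ht h := by
    have h1 := pPhi_dd f hf j (Units.mk0 t ht)
    rw [show ((Units.mk0 t ht : Kˣ) : K) = t from rfl, h] at h1
    exact congrArg Units.val (pTor_one h1.symm)
  HU h hh u hu := Subgroup.mem_normalizer_iff.1 ((tw f).S.H_le_normalizer hh) _ |>.1 hu
  inter g hg hu := Subtype.ext (Subgroup.mem_bot.1 ((tw f).S.U_inf_H.le ⟨hu, hg⟩))
  notHU h hh u hu e := notHU f hf hK (.inr j) hh hu ((cG_inr f hf hK j).trans e)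

theorem dd_inj {L : Type*} [Field L] {s t : L} (hs : s ≠ 0) (ht : t ≠ 0)
    (h : (D4StemMain9.dd s : SL(2, L)) = D4StemMain9.dd t) : s = t := by
  have := congrArg (fun g : SL(2, L) => (g : Matrix (Fin 2) (Fin 2) L) 0 0) h
  simpa [D4StemMain9.dd_val hs, D4StemMain9.dd_val ht] using this

theorem card_H_inf {L : Type*} [Field L] [Finite L] {G : Type*} [Group G] {U H X : Subgroup G}
    {Φ : SL(2, L) →* G} (C : D4StemMain9.Cls U H X Φ) : Nat.card ↥(H ⊓ Φ.range) = Nat.card Lˣ := by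
  refine (Nat.card_eq_of_bijective (fun t : Lˣ => (⟨Φ (D4StemMain9.dd (t : L)), C.dd_H _ t.ne_zero, ⟨_, rfl⟩⟩ :
    ↥(H ⊓ Φ.range))) ⟨fun s t h => Units.ext (dd_inj s.ne_zero t.ne_zero (C.injective (congrArg Subtype.val h))), ?_⟩).symm
  rintro ⟨g, hg, ⟨a, rfl⟩⟩
  obtain ⟨t, ht, rfl⟩ := C.mem_H hg
  exact ⟨Units.mk0 t ht, rfl⟩

include hf hK in
theorem card_L0 : Nat.card (L0 f)ˣ = q - 1 := by
  letI : Fintype (L0 f) := Fintype.ofFinite _
  rw [Nat.card_units, ← TwistedField.card_fix hK]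
  congr 1
  exact Nat.card_congr (Equiv.subtypeEquivRight fun t => mem_L0 f hf)

include hf hK in
theorem card_prod : ∏ J : Fin 2 ⊕ Fin 2, Nat.card ↥(H1 K q ⊓ LG f hf J) = (q - 1) ^ 2 * (q ^ 2 - 1) ^ 2 := by
  rw [Fintype.prod_sum_type, Fin.prod_univ_two, Fin.prod_univ_two]
  show Nat.card ↥(H1 K q ⊓ (sPhi f hf 0).range) * Nat.card ↥(H1 K q ⊓ (sPhi f hf 1).range) *
    (Nat.card ↥(H1 K q ⊓ (pPhi f hf 0).range) * Nat.card ↥(H1 K q ⊓ (pPhi f hf 1).range)) = _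
  rw [card_H_inf (cls_s f hf hK 0), card_H_inf (cls_s f hf hK 1), card_H_inf (cls_p f hf hK 0),
    card_H_inf (cls_p f hf hK 1), card_L0 f hf hK, TwistedField.card_units_eq, hK]
  ring

/-! ### the group over the Weyl group -/

include hf hK in
theorem N_mem {g : ↥(twistedE6 K q)}
    (hg : g ∈ Subgroup.closure ((H1 K q : Set ↥(twistedE6 K q)) ∪ Set.range (nG f hf hK))) :
    (g : GL chevE6.Idx K) ∈ chevE6.monomialSubgroup K := by
  have : Subgroup.closure ((H1 K q : Set ↥(twistedE6 K q)) ∪ Set.range (nG f hf hK)) ≤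
      (chevE6.monomialSubgroup K).subgroupOf (twistedE6 K q) := by
    rw [Subgroup.closure_le]
    rintro x (hx | ⟨J, rfl⟩)
    · exact Sys.H_le_N hx
    · exact nG_N f hf hK J
  exact this hg

theorem word_N (l : List (Fin 2 ⊕ Fin 2)) :
    ∃ h : (((l.map (nG f hf hK)).prod : ↥(twistedE6 K q)) : GL chevE6.Idx K) ∈ chevE6.monomialSubgroup K,
      (tw f).S.toW ⟨_, h⟩ = (l.map fun J => (tw f).wd (cl6 J)).prod := by
  induction l with
  | nil => exact ⟨one_mem _, map_one (tw f).S.toW⟩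
  | cons J l ih =>
    obtain ⟨h, e⟩ := ih
    have h' : ((((J :: l).map (nG f hf hK)).prod : ↥(twistedE6 K q)) : GL chevE6.Idx K) ∈
        chevE6.monomialSubgroup K := by
      rw [List.map_cons, List.prod_cons, Subgroup.coe_mul]
      exact mul_mem (nG_N f hf hK J) h
    refine ⟨h', ?_⟩
    rw [show (⟨_, h'⟩ : ↥(chevE6.monomialSubgroup K)) = ⟨_, nG_N f hf hK J⟩ * ⟨_, h⟩ from
      Subtype.ext (by simp [List.prod_cons]), map_mul, e, toW_nG f hf hK J, List.map_cons, List.prod_cons]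

include hf hK in
theorem wprod_fix (l : List (Fin 2 ⊕ Fin 2)) : (l.map fun J => (tw f).wd (cl6 J)).prod ∈ (tw f).fixW := by
  obtain ⟨h, e⟩ := word_N f hf hK l
  rw [← e]
  exact (classes f hf hK).toW_fix (n := ⟨_, h⟩) ((l.map (nG f hf hK)).prod).2

/-- the first change of sign along a word -/
theorem scan {r : ℕ} (hr : chevE6.IsPosRoot r) : ∀ l : List (Fin 2 ⊕ Fin 2),
    chevE6.IsNegRoot ((tw f).X.img (l.map fun J => (tw f).wd (cl6 J)).prod r) →
    ∃ l1 a l2, l = l1 ++ a :: l2 ∧ (tw f).X.img (l2.map fun J => (tw f).wd (cl6 J)).prod r ∈ lst a := by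
  intro l
  induction l with
  | nil =>
    intro h
    rw [List.map_nil, List.prod_nil, (tw f).X.img_one] at h
    exact absurd h ((tw f).X.not_pos_and_neg hr)
  | cons a l ih =>
    intro h
    rcases (tw f).X.pos_or_neg ((tw f).X.img_lt (l.map fun J => (tw f).wd (cl6 J)).prod hr.1) with hp | hn
    · refine ⟨[], a, l, rfl, ?_⟩
      rw [List.map_cons, List.prod_cons, (tw f).X.img_mul] at h
      exact (mem_invSet_cl6 f a _).1 ((tw f).X.mem_invSet.2 ⟨hp, h⟩)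
    · obtain ⟨l1, b, l2, rfl, e⟩ := ih hn
      exact ⟨a :: l1, b, l2, rfl, e⟩

theorem img_cl (J : Fin 2 ⊕ Fin 2) {r : ℕ} (hr : r < chevE6.nroots) :
    (tw f).X.img ((tw f).wd (cl6 J)) r = Twist.wact' chevE6 (cl6 J) r := (tw f).img_wd _ hr

include hf hK in
theorem Lgen (J : Fin 2 ⊕ Fin 2) : LG f hf J = Subgroup.closure ((XG f hf hK J : Set ↥(twistedE6 K q)) ∪
    {g | ∃ x ∈ XG f hf hK J, g = nG f hf hK J * x * (nG f hf hK J)⁻¹}) := by
  rcases J with j | j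
  · show (sPhi f hf j).range = _
    rw [nG, cG_inl f hf hK j]
    exact (cls_s f hf hK j).gen
  · show (pPhi f hf j).range = _
    rw [nG, cG_inr f hf hK j]
    exact (cls_p f hf hK j).gen

theorem nG_mem (J : Fin 2 ⊕ Fin 2) : nG f hf hK J ∈ LG f hf J := by
  rcases J with j | j
  · rw [nG, cG_inl f hf hK j]; exact ⟨_, rfl⟩
  · rw [nG, cG_inr f hf hK j]; exact ⟨_, rfl⟩

theorem bruhat (J : Fin 2 ⊕ Fin 2) {g : ↥(twistedE6 K q)} (hg : g ∈ LG f hf J) :
    (∃ x ∈ XG f hf hK J, ∃ h ∈ H1 K q ⊓ LG f hf J, g = x * h) ∨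
      ∃ x ∈ XG f hf hK J, ∃ h ∈ H1 K q ⊓ LG f hf J, ∃ y ∈ XG f hf hK J, g = x * h * nG f hf hK J * y := by
  rcases J with j | j
  · rw [nG, cG_inl f hf hK j]; exact (cls_s f hf hK j).bruhat hg
  · rw [nG, cG_inr f hf hK j]; exact (cls_p f hf hK j).bruhat hg

include hf hK in
theorem exch (l : List (Fin 2 ⊕ Fin 2)) (b : Fin 2 ⊕ Fin 2)
    (hl : ((l ++ [b]).map (nG f hf hK)).prod ∈ H1 K q) :
    ∃ l1 a l2, l = l1 ++ a :: l2 ∧
      (∀ x ∈ LG f hf b, (l2.map (nG f hf hK)).prod * x * ((l2.map (nG f hf hK)).prod)⁻¹ ∈ LG f hf a) ∧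
      (nG f hf hK a)⁻¹ * ((l2.map (nG f hf hK)).prod * nG f hf hK b * ((l2.map (nG f hf hK)).prod)⁻¹) ∈
        H1 K q := by
  obtain ⟨hN, eW⟩ := word_N f hf hK (l ++ [b])
  have h1 : ((l ++ [b]).map fun J => (tw f).wd (cl6 J)).prod = 1 := by
    rw [← eW, ← MonoidHom.mem_ker, (tw f).S.toW_ker]
    exact hl
  rw [List.map_append, List.prod_append, List.map_singleton, List.prod_singleton, mul_eq_one_iff_eq_inv,
    cw_inv' f hf hK b] at h1
  obtain ⟨hb0, hbf⟩ := lst_facts b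
  have hneg : chevE6.IsNegRoot ((tw f).X.img (l.map fun J => (tw f).wd (cl6 J)).prod (rt b)) := by
    rw [h1]
    exact ((tw f).X.mem_invSet.1 ((mem_invSet_cl6 f b _).2 hb0)).2
  obtain ⟨l1, a, l2, rfl, ha⟩ := scan f (hbf _ hb0).1 l hneg
  obtain ⟨-, haf⟩ := lst_facts a
  obtain ⟨hgN, egW⟩ := word_N f hf hK l2
  have hvfix := wprod_fix f hf hK l2
  set v := (l2.map fun J => (tw f).wd (cl6 J)).prod
  set g := (l2.map (nG f hf hK)).prod with hgdef
  have hset : ∀ r ∈ lst b, (tw f).X.img v r ∈ lst a := by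
    intro r hr
    rcases (hbf r hr).2.1 with rfl | rfl
    · exact ha
    · rw [show ChevalleyGraph.symE6.rho (rt b) = (tw f).ρ (rt b) from rfl, hvfix _ (hbf _ hb0).1.1]
      exact (haf _ ha).2.2.1
  have hX : ∀ x ∈ XG f hf hK b, g * x * g⁻¹ ∈ XG f hf hK a := by
    intro x hx
    rw [mem_XG] at hx ⊢
    rw [Subgroup.coe_mul, Subgroup.coe_mul, Subgroup.coe_inv]
    exact map_Rt f hgN (fun r hr h => by rw [egW]; exact hset r h) hx
  have hY : ∀ x ∈ XG f hf hK b,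
      (nG f hf hK a)⁻¹ * (g * (nG f hf hK b * x * (nG f hf hK b)⁻¹) * g⁻¹) * nG f hf hK a ∈ XG f hf hK a := by
    intro x hx
    rw [mem_XG] at hx ⊢
    have h2 : ((nG f hf hK b * x * (nG f hf hK b)⁻¹ : ↥(twistedE6 K q)) : GL chevE6.Idx K) ∈
        Rt K (· ∈ nlst b) := by
      rw [Subgroup.coe_mul, Subgroup.coe_mul, Subgroup.coe_inv]
      refine map_Rt f (nG_N f hf hK b) (fun r hr h => ?_) hx
      rw [toW_nG f hf hK b, img_cl f b hr]
      exact (hbf r h).2.2.2.1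
    have h3 : ((g * (nG f hf hK b * x * (nG f hf hK b)⁻¹) * g⁻¹ : ↥(twistedE6 K q)) : GL chevE6.Idx K) ∈
        Rt K (· ∈ nlst a) := by
      rw [Subgroup.coe_mul, Subgroup.coe_mul, Subgroup.coe_inv]
      refine map_Rt f hgN (fun r hr h => ?_) h2
      obtain ⟨s, hs, rfl⟩ := List.mem_map.1 h
      rw [egW, (tw f).X.img_neg v (hbf s hs).1.1]
      exact List.mem_map.2 ⟨_, hset s hs, rfl⟩
    have hni : ((nG f hf hK a : GL chevE6.Idx K))⁻¹ ∈ chevE6.monomialSubgroup K := inv_mem (nG_N f hf hK a)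
    have h4 := map_Rt f hni (Q := (· ∈ lst a)) (fun r hr h => by
      obtain ⟨s, hs, rfl⟩ := List.mem_map.1 h
      rw [show (⟨_, hni⟩ : ↥(chevE6.monomialSubgroup K)) = (⟨_, nG_N f hf hK a⟩)⁻¹ from rfl, map_inv,
        toW_nG f hf hK a, cw_inv' f hf hK a, img_cl f a hr]
      exact (haf s hs).2.2.2.2) h3
    rw [inv_inv] at h4
    simpa [Subgroup.coe_mul, Subgroup.coe_inv] using h4
  have hL : ∀ x ∈ LG f hf b, g * x * g⁻¹ ∈ LG f hf a := by
    have hXa : XG f hf hK a ≤ LG f hf a := fun x hx => by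
      rw [Lgen f hf hK a]; exact Subgroup.subset_closure (Or.inl hx)
    intro x hx
    rw [Lgen f hf hK b] at hx
    induction hx using Subgroup.closure_induction with
    | mem x hx =>
      rcases hx with hx | ⟨y, hy, rfl⟩
      · exact hXa (hX x hx)
      · have h5 := (LG f hf a).mul_mem ((LG f hf a).mul_mem (nG_mem f hf hK a) (hXa (hY y hy)))
          ((LG f hf a).inv_mem (nG_mem f hf hK a))
        simpa [mul_assoc] using h5
    | one => simp
    | mul x y _ _ hx hy => simpa [mul_assoc] using (LG f hf a).mul_mem hx hy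
    | inv x _ hx => simpa [mul_assoc] using (LG f hf a).inv_mem hx
  refine ⟨l1, a, l2, rfl, hL, ?_⟩
  -- the image of the representative
  set c := g * nG f hf hK b * g⁻¹ with hc
  have hcL : c ∈ LG f hf a := hL _ (nG_mem f hf hK b)
  have hcN : (c : GL chevE6.Idx K) ∈ chevE6.monomialSubgroup K := by
    rw [hc, Subgroup.coe_mul, Subgroup.coe_mul, Subgroup.coe_inv]
    exact mul_mem (mul_mem hgN (nG_N f hf hK b)) (inv_mem hgN)
  have hcW : (tw f).S.toW ⟨_, hcN⟩ = v * (tw f).wd (cl6 b) * v⁻¹ := by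
    rw [show (⟨_, hcN⟩ : ↥(chevE6.monomialSubgroup K)) = ⟨_, hgN⟩ * ⟨_, nG_N f hf hK b⟩ * (⟨_, hgN⟩)⁻¹ from
      Subtype.ext (by simp [hc]), map_mul, map_mul, map_inv, egW, toW_nG f hf hK b]
  have hXB : ∀ x ∈ XG f hf hK a, (x : GL chevE6.Idx K) ∈ chevE6.borelSubgroup K := fun x hx =>
    Sys.U_le_B (TwistAutRigid.XJ_le _ _ hx)
  have hwa : (tw f).S.toW ⟨_, hcN⟩ = (tw f).wd (cl6 a) := by
    rcases bruhat f hf hK a hcL with ⟨x, hx, h, hh, e⟩ | ⟨x, hx, h, hh, y, hy, e⟩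
    · exfalso
      have h2 := (tw f).S.toW_unique (n := ⟨_, hcN⟩) (n' := 1) (b := 1) (b' := (x : GL chevE6.Idx K) * h)
        (u := 1) (u' := 1) (one_mem _) (mul_mem (hXB x hx) (Sys.H_le_B hh.1)) (one_mem _) (one_mem _)
        (by simpa using congrArg Subtype.val e)
      rw [map_one, hcW] at h2
      refine cw_ne f hf hK b ?_
      rw [mul_inv_eq_one] at h2
      exact mul_left_cancel (h2.trans (mul_one v).symm)
    · have h2 := (tw f).S.toW_unique (n := ⟨_, hcN⟩) (n' := ⟨_, nG_N f hf hK a⟩) (b := 1)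
        (b' := (x : GL chevE6.Idx K) * h) (u := 1) (u' := (y : GL chevE6.Idx K)) (one_mem _)
        (mul_mem (hXB x hx) (Sys.H_le_B hh.1)) (one_mem _) (hXB y hy) (by simpa using congrArg Subtype.val e)
      rw [h2, toW_nG f hf hK a]
  have h6 := (tw f).S.toW_eq_iff.1 ((toW_nG f hf hK a).trans hwa.symm)
  show ((((nG f hf hK a)⁻¹ * c : ↥(twistedE6 K q))) : GL chevE6.Idx K) ∈ chevE6.diagonalSubgroup K
  simpa using h6

include hf hK in
theorem dich {g : ↥(twistedE6 K q)}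
    (hg : g ∈ Subgroup.closure ((H1 K q : Set ↥(twistedE6 K q)) ∪ Set.range (nG f hf hK))) (J : Fin 2 ⊕ Fin 2) :
    (∀ x ∈ XG f hf hK J, g⁻¹ * x * g ∈ TwistAutRigid.U1 (twistedE6 K q)) ∨
      ∀ x ∈ XG f hf hK J, (nG f hf hK J * g)⁻¹ * x * (nG f hf hK J * g) ∈ TwistAutRigid.U1 (twistedE6 K q) := by
  obtain ⟨hJ0, hJf⟩ := lst_facts J
  have hgi : ((g : GL chevE6.Idx K))⁻¹ ∈ chevE6.monomialSubgroup K := inv_mem (N_mem f hf hK hg)
  set w := (tw f).S.toW ⟨_, hgi⟩ with hw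
  have hwfix : w ∈ (tw f).fixW := (classes f hf hK).toW_fix (n := ⟨_, hgi⟩) (inv_mem g.2)
  have horb : ∀ r ∈ lst J, ((chevE6.IsPosRoot ((tw f).X.img w (rt J))) → chevE6.IsPosRoot ((tw f).X.img w r)) ∧
      ((chevE6.IsNegRoot ((tw f).X.img w (rt J))) → chevE6.IsNegRoot ((tw f).X.img w r)) := by
    intro r hr
    rcases (hJf r hr).2.1 with rfl | rfl
    · exact ⟨id, id⟩
    · rw [show ChevalleyGraph.symE6.rho (rt J) = (tw f).ρ (rt J) from rfl, hwfix _ (hJf _ hJ0).1.1]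
      exact ⟨(tw f).ρ_isPos, (tw f).ρ_isNeg⟩
  rcases (tw f).X.pos_or_neg ((tw f).X.img_lt w (hJf _ hJ0).1.1) with hp | hn
  · left
    intro x hx
    rw [mem_XG] at hx
    have h1 := map_Rt f hgi (Q := chevE6.IsPosRoot) (fun r hr h => (horb r h).1 hp) hx
    rw [inv_inv] at h1
    show ((g⁻¹ * x * g : ↥(twistedE6 K q)) : GL chevE6.Idx K) ∈ chevE6.posUnipotent K
    simpa using Rt_le_U f (fun r _ h => h) h1
  · right
    intro x hx
    rw [mem_XG] at hx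
    have hni : ((nG f hf hK J : GL chevE6.Idx K))⁻¹ ∈ chevE6.monomialSubgroup K := inv_mem (nG_N f hf hK J)
    have hm := mul_mem hgi hni
    have h1 := map_Rt f hm (Q := chevE6.IsPosRoot) (fun r hr h => by
      rw [show (⟨_, hm⟩ : ↥(chevE6.monomialSubgroup K)) = ⟨_, hgi⟩ * (⟨_, nG_N f hf hK J⟩)⁻¹ from rfl, map_mul,
        map_inv, toW_nG f hf hK J, cw_inv' f hf hK J, (tw f).X.img_mul, img_cl f J hr]
      obtain ⟨s, hs, e⟩ := List.mem_map.1 (hJf r h).2.2.2.1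
      rw [← e, ← hw, (tw f).X.img_neg w (hJf s hs).1.1]
      exact ((tw f).X.pos_neg_iff ((tw f).X.img_lt w (hJf s hs).1.1)).2 ((horb s hs).2 hn)) hx
    show (((nG f hf hK J * g)⁻¹ * x * (nG f hf hK J * g) : ↥(twistedE6 K q)) : GL chevE6.Idx K) ∈
      chevE6.posUnipotent K
    simpa [mul_assoc] using Rt_le_U f (fun r _ h => h) h1

include hf hK in
theorem split (J : Fin 2 ⊕ Fin 2) {u : ↥(twistedE6 K q)} (hu : u ∈ TwistAutRigid.U1 (twistedE6 K q)) :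
    ∃ x ∈ XG f hf hK J, ∃ v ∈ TwistAutRigid.U1 (twistedE6 K q),
      nG f hf hK J * v * (nG f hf hK J)⁻¹ ∈ TwistAutRigid.U1 (twistedE6 K q) ∧ u = v * x := by
  obtain ⟨w0, hw0, hneg, hU⟩ := (tw f).exists_w0_fix
  have hsub : (tw f).X.invSet ((classes f hf hK).cw J) ⊆ (tw f).X.invSet w0 := fun r hr => by
    have := ((tw f).X.mem_invSet.1 hr).1
    exact (tw f).X.mem_invSet.2 ⟨this, hneg r this⟩
  obtain ⟨φ, hφ, hφe⟩ := (classes f hf hK).split hw0 hsub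
  obtain ⟨⟨p1, p2⟩, hp⟩ := hφ.surjective ⟨(u : GL chevE6.Idx K), by rw [← hU]; exact hu, le_fixed f hf hK u.2⟩
  have he := congrArg Subtype.val hp
  rw [hφe] at he
  have hx : (⟨p2.1, (classes f hf hK).UJ_le J p2.2⟩ : ↥(twistedE6 K q)) ∈ XG f hf hK J := p2.2
  set x : ↥(twistedE6 K q) := ⟨p2.1, (classes f hf hK).UJ_le J p2.2⟩
  refine ⟨x, hx, u * x⁻¹, mul_mem hu (inv_mem (TwistAutRigid.XJ_le _ _ hx)), ?_, by group⟩
  show ((nG f hf hK J * (u * x⁻¹) * (nG f hf hK J)⁻¹ : ↥(twistedE6 K q)) : GL chevE6.Idx K) ∈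
    chevE6.posUnipotent K
  have e : ((nG f hf hK J * (u * x⁻¹) * (nG f hf hK J)⁻¹ : ↥(twistedE6 K q)) : GL chevE6.Idx K) = p1.1 := by
    simp only [Subgroup.coe_mul, Subgroup.coe_inv]
    rw [← he]
    show (classes f hf hK).cn J * (((classes f hf hK).cn J)⁻¹ * p1.1 * (classes f hf hK).cn J * p2.1 * p2.1⁻¹) *
      ((classes f hf hK).cn J)⁻¹ = _
    group
  rw [e]
  exact (tw f).S.Uw_le_U _ p1.2.1

include hf hK in
theorem Hgen : H1 K q ≤ ⨆ J, H1 K q ⊓ LG f hf J := by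
  intro h hh
  have h1 : (h : GL chevE6.Idx K) ∈ (psi (K := K) (q := q)).range := by
    rw [psi_range f hf hK]; exact ⟨hh, h.2⟩
  obtain ⟨p, hp⟩ := h1
  obtain ⟨⟨⟨a1, ha1⟩, ⟨a3, ha3⟩⟩, b0, b2⟩ := p
  have hL : ∀ {a : Kˣ}, a ^ q = a → (a : K) ∈ L0 f := fun {a} ha => by
    rw [mem_L0 f hf, ← Units.val_pow_eq_pow_val, ha]
  set s1 := sPhi f hf 0 (D4StemMain9.dd ⟨(a1 : K), hL ha1⟩)
  set s3 := sPhi f hf 1 (D4StemMain9.dd ⟨(a3 : K), hL ha3⟩)
  set p0 := pPhi f hf 0 (D4StemMain9.dd (b0 : K))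
  set p2 := pPhi f hf 1 (D4StemMain9.dd (b2 : K))
  have hS : ∀ {j : Fin 2} {a : Kˣ} (ha : a ^ q = a), sPhi f hf j (D4StemMain9.dd ⟨(a : K), hL ha⟩) ∈
      H1 K q ⊓ LG f hf (.inl j) := fun {j a} ha =>
    ⟨(cls_s f hf hK j).dd_H _ fun h => a.ne_zero (congrArg Subtype.val h), ⟨_, rfl⟩⟩
  have hP : ∀ {j : Fin 2} (b : Kˣ), pPhi f hf j (D4StemMain9.dd (b : K)) ∈ H1 K q ⊓ LG f hf (.inr j) :=
    fun {j} b => ⟨(cls_p f hf hK j).dd_H _ b.ne_zero, ⟨_, rfl⟩⟩
  have e : h = s1 * s3 * p0 * p2 := by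
    apply Subtype.ext
    rw [← hp]
    simp only [Subgroup.coe_mul, s1, s3, p0, p2]
    rw [sPhi_dd f hf 0 ⟨(a1 : K), hL ha1⟩ a1 rfl, sPhi_dd f hf 1 ⟨(a3 : K), hL ha3⟩ a3 rfl, pPhi_dd, pPhi_dd,
      ← map_mul, ← map_mul, ← map_mul]
    show torus chevE6 (tp q a1 a3 b0 b2) = _
    congr 1
    funext i
    have hi : i = nd 0 ∨ i = nd 1 ∨ i = nd 2 ∨ i = nd 3 ∨ i = nd 4 ∨ i = nd 5 := by revert i; decide
    rcases hi with rfl | rfl | rfl | rfl | rfl | rfl <;>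
      simp [tp, sTor, pTor, sn, pn, pm, Pi.mulSingle_apply]
  rw [e]
  exact mul_mem (mul_mem (mul_mem (le_iSup (fun J => H1 K q ⊓ LG f hf J) (.inl 0) (hS ha1))
    (le_iSup (fun J => H1 K q ⊓ LG f hf J) (.inl 1) (hS ha3)))
    (le_iSup (fun J => H1 K q ⊓ LG f hf J) (.inr 0) (hP b0)))
    (le_iSup (fun J => H1 K q ⊓ LG f hf J) (.inr 1) (hP b2))

include hf hK in
theorem gen_top : Subgroup.closure ((TwistAutRigid.U1 (twistedE6 K q) : Set ↥(twistedE6 K q)) ∪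
    Set.range (nG f hf hK)) = ⊤ := by
  set M := Subgroup.closure ((TwistAutRigid.U1 (twistedE6 K q) : Set ↥(twistedE6 K q)) ∪
    Set.range (nG f hf hK)) with hM
  have hLM : ∀ J, LG f hf J ≤ M := by
    intro J
    rw [Lgen f hf hK J, Subgroup.closure_le]
    rintro x (hx | ⟨y, hy, rfl⟩)
    · exact Subgroup.subset_closure (Or.inl (TwistAutRigid.XJ_le _ _ hx))
    · exact mul_mem (mul_mem (Subgroup.subset_closure (Or.inr ⟨J, rfl⟩))
        (Subgroup.subset_closure (Or.inl (TwistAutRigid.XJ_le _ _ hy))))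
        (inv_mem (Subgroup.subset_closure (Or.inr ⟨J, rfl⟩)))
  rw [eq_top_iff]
  intro g _
  suffices key : twistedE6 K q ≤ M.map (twistedE6 K q).subtype by
    obtain ⟨z, hz, e⟩ := key g.2
    obtain rfl : z = g := Subtype.ext e
    exact hz
  refine gen_le c6 ?_
  obtain ⟨e0, e1, a0, b0, a1, b1, g0, g1, c0, d0, c1', d1⟩ := roots_eq
  rintro w (⟨t, ht, r, hr, rfl⟩ | ⟨t, rs, hrs, rfl⟩)
  · have e : wg c6 [(r, t)] = xg c6 r t := by simp [wg]
    rw [e]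
    simp only [List.mem_cons, List.not_mem_nil, or_false] at hr
    rcases hr with rfl | rfl | rfl | rfl
    · exact ⟨su f hf 0 ⟨t, (mem_L0 f hf).mpr ht⟩, hLM (.inl 0) ⟨_, rfl⟩, by rw [← e0]; exact coe_su f hf _ _⟩
    · exact ⟨sl f hf 0 ⟨t, (mem_L0 f hf).mpr ht⟩, hLM (.inl 0) ⟨_, rfl⟩, by rw [← g0]; exact coe_sl f hf _ _⟩
    · exact ⟨su f hf 1 ⟨t, (mem_L0 f hf).mpr ht⟩, hLM (.inl 1) ⟨_, rfl⟩, by rw [← e1]; exact coe_su f hf _ _⟩
    · exact ⟨sl f hf 1 ⟨t, (mem_L0 f hf).mpr ht⟩, hLM (.inl 1) ⟨_, rfl⟩, by rw [← g1]; exact coe_sl f hf _ _⟩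
  · have e : wg c6 [(rs.1, t), (rs.2, t ^ q)] = xg c6 rs.1 t * xg c6 rs.2 (t ^ q) := by simp [wg]
    rw [e]
    simp only [List.mem_cons, List.not_mem_nil, or_false] at hrs
    rcases hrs with rfl | rfl | rfl | rfl
    · exact ⟨pu f hf 0 t, hLM (.inr 0) ⟨_, rfl⟩, by rw [← a0, ← b0]; exact coe_pu f hf _ _⟩
    · exact ⟨pl f hf 0 t, hLM (.inr 0) ⟨_, rfl⟩, by rw [← c0, ← d0]; exact coe_pl f hf _ _⟩
    · exact ⟨pu f hf 1 t, hLM (.inr 1) ⟨_, rfl⟩, by rw [← a1, ← b1]; exact coe_pu f hf _ _⟩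
    · exact ⟨pl f hf 1 t, hLM (.inr 1) ⟨_, rfl⟩, by rw [← c1', ← d1]; exact coe_pl f hf _ _⟩

include f in
theorem conj_H {g : ↥(twistedE6 K q)} (hg : (g : GL chevE6.Idx K) ∈ chevE6.monomialSubgroup K)
    {h : ↥(twistedE6 K q)} (hh : h ∈ H1 K q) : g * h * g⁻¹ ∈ H1 K q :=
  (tw f).S.conj_H ((tw f).S.acts_toW ⟨(g : GL chevE6.Idx K), hg⟩) hh

include hf hK in
theorem rankN {p : ℕ} [Fact p.Prime] [CharP K p] :
    StemTwistNB67.RankN p (TwistAutRigid.U1 (twistedE6 K q)) (H1 K q) (LG f hf) (XG f hf hK) (nG f hf hK) where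
  perfect := TwistedE6.perfect f hf hK
  rk J :=
    { n_mem := nG_mem f hf hK J
      X_le := TwistAutRigid.XJ_le _ _
      Lgen := Lgen f hf hK J
      nH := fun h hh => conj_H f (nG_N f hf hK J) hh
      nH' := fun h hh => by
        have := conj_H f (g := (nG f hf hK J)⁻¹) (inv_mem (nG_N f hf hK J)) hh
        simpa using this
      nsq := by
        apply ((tw f).S.toW_ker).le (x := ⟨_, mul_mem (nG_N f hf hK J) (nG_N f hf hK J)⟩)
        rw [MonoidHom.mem_ker]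
        show (tw f).S.toW (⟨_, nG_N f hf hK J⟩ * ⟨_, nG_N f hf hK J⟩) = 1
        rw [map_mul, toW_nG f hf hK J]
        exact (classes f hf hK).cl_sq J
      HX := fun h hh x hx => by
        rw [mem_XG] at hx ⊢
        have hN : (h : GL chevE6.Idx K) ∈ chevE6.monomialSubgroup K := Sys.H_le_N hh
        have hw : (tw f).S.toW ⟨_, hN⟩ = 1 := (tw f).S.toW_ker.ge hh
        simpa using map_Rt f hN (fun r _ h => by rw [hw, (tw f).X.img_one]; exact h) hx
      split := fun u hu => split f hf hK J hu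
      bruhat := fun g hg => bruhat f hf hK J hg }
  pU := by
    obtain ⟨P, hP⟩ := TwistAutRigid.exists_sylow (classes f hf hK) p
    intro u hu
    rw [← hP] at hu
    obtain ⟨k, hk⟩ := P.isPGroup' ⟨u, hu⟩
    exact ⟨k, by simpa using congrArg Subtype.val hk⟩
  gen := gen_top f hf hK
  HU h hh u hu := Subgroup.mem_normalizer_iff.1 ((tw f).S.H_le_normalizer hh) _ |>.1 hu
  Hcomm a ha b hb := Subtype.ext (H_comm c6 ha hb)
  Hgen := Hgen f hf hK
  NU g hg hu := Subtype.ext (Subgroup.mem_bot.1 ((tw f).S.U_inf_N.le ⟨hu, N_mem f hf hK hg⟩))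
  dich g hg J := dich f hf hK hg J
  exch l b hl := exch f hf hK l b hl

end Cfsg.Agent.E6StemClasses67
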