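import Cfsg.Agent.Lib.TwistE6Mult14Check
import Cfsg.Agent.Lib.E6StemClasses67

/-!
Geometry of the twisted E6 group over the field with four elements: generators of the unipotent subgroup
with their relations, the actions of the fundamental classes and of the torus, and an induction over the
Bruhat decomposition.
-/

set_option autoImplicit false
set_option linter.unusedSectionVars false
set_option maxRecDepth 100000

namespace Cfsg.Agent.TwistE6Mult14Geom

open Cfsg.Lie Cfsg.Agent Cfsg.Agent.ChevalleyCert Cfsg.Agent.ChevalleyCore Cfsg.Agent.ChevalleyRoots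
  Cfsg.Agent.ChevalleyTorus Cfsg.Agent.TwistedCore Cfsg.Agent.TwistedE6 Cfsg.Agent.ChevWeyl
  Cfsg.Agent.ChevBruhat
  Cfsg.Agent.TwistE6MultData14 Cfsg.Agent.TwistE6Mult14Root Cfsg.Agent.TwistE6Mult14Check
  Cfsg.Agent.E6StemClasses67
open Cfsg.Agent.CenSplitStable50 (P P_cons P_nil P_map P_append card_chain)
open Cfsg.Agent.E6StemLevels67 (lv orb Y R)

universe u

variable {K : Type u} [Field K] (w : K)

/-- the group -/
abbrev GG (K : Type u) [Field K] : Subgroup (GL chevE6.Idx K) := twistedE6 K 2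

open Classical in
/-- the generators -/
noncomputable def X (i : ℕ) : ↥(GG K) :=
  if h : PR w (gl.getD i []) ∈ GG K then ⟨_, h⟩ else 1

open Classical in
/-- the torus parameter -/
noncomputable def wu : Kˣ := if h : w = 0 then 1 else Units.mk0 w h

/-- the representatives of the classes, then the torus element -/
noncomputable def nv (k : ℕ) : GL chevE6.Idx K :=
  if k < 4 then cn6 (cJ k) else torus chevE6 (tp 2 1 1 (wu w) 1)

open Classical in
/-- the representatives inside the group -/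
noncomputable def Nr (k : ℕ) : ↥(GG K) := if h : nv w k ∈ GG K then ⟨_, h⟩ else 1

/-- the unipotent subgroup -/
noncomputable def UU : Subgroup ↥(GG K) := Subgroup.closure (X w '' Set.Iio 36)

/-- the part kept by a class -/
noncomputable def Ui (k : ℕ) : Subgroup ↥(GG K) := Subgroup.closure (X w '' {i | okk k i = true})

/-! ### the field -/

theorem two_zero [Fintype K] (hK : Fintype.card K = 2 ^ 2) : (2 : K) = 0 := by
  have h := FiniteField.cast_card_eq_zero K
  rw [hK] at h
  push_cast at h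
  exact eq_zero_of_pow_eq_zero (n := 2) (by rw [← h]; norm_num)

theorem exists_w [Fintype K] (hK : Fintype.card K = 2 ^ 2) : ∃ w : K, w ^ 2 = w + 1 := by
  classical
  have h2 := two_zero hK
  obtain ⟨w, hw⟩ : ∃ w : K, w ∉ ({0, 1} : Finset K) := by
    by_contra h
    push Not at h
    have := Finset.card_le_card (show (Finset.univ : Finset K) ⊆ {0, 1} from fun x _ => h x)
    rw [Finset.card_univ, hK] at this
    have := this.trans Finset.card_le_two
    omega
  simp only [Finset.mem_insert, Finset.mem_singleton, not_or] at hw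
  refine ⟨w, ?_⟩
  have h4 := FiniteField.pow_card w
  rw [hK] at h4
  have h3 : (w - 1) * (w ^ 2 + w + 1) = 0 := by
    apply mul_left_cancel₀ hw.1
    linear_combination h4
  have h5 : w ^ 2 + w + 1 = 0 := (mul_eq_zero.1 h3).resolve_left (sub_ne_zero.2 hw.2)
  linear_combination h5 - (w + 1) * h2

variable [Fintype K] (hK : Fintype.card K = 2 ^ 2) (hw : w ^ 2 = w + 1)
variable (f : K →+* K) (hf : ∀ t, f t = t ^ 2)

include hw in
theorem w_ne_zero : w ≠ 0 := by rintro rfl; simp at hw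

include hK hw in
theorem w_ne_one : w ≠ 1 := by
  rintro rfl
  have h2 := two_zero hK
  exact one_ne_zero (α := K) (by linear_combination hw + h2)

include hK hw hf in
theorem sg_letter {r c : ℕ} (hr : r < 72) (hc : c < 4) :
    (tw f).sg (xg c6 r (cv w c)) = xg c6 (ChevalleyGraph.symE6.rho r) (cv w (cmul c c)) := by
  have h2 := two_zero hK
  rw [sg_all f hr, cast_odd h2, if_pos (by simpa using eps_odd r hr), one_mul, hf, sq,
    cv_mul w h2 hw c hc c hc]

theorem PR_mem_group : ∀ l : List (ℕ × ℕ), PR w l ∈ chevE6.group K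
  | [] => one_mem _
  | p :: l => by rw [PR_cons]; exact mul_mem (xg_mem_group c6 _ _) (PR_mem_group l)

theorem PR_mem_U : ∀ l : List (ℕ × ℕ), (∀ p ∈ l, 36 ≤ p.1 ∧ p.1 < 72) → PR w l ∈ chevE6.posUnipotent K
  | [], _ => one_mem _
  | p :: l, h => by
    rw [PR_cons]
    refine mul_mem ?_ (PR_mem_U l fun q hq => h q (List.mem_cons_of_mem _ hq))
    obtain ⟨h1, h2⟩ := h p List.mem_cons_self
    rw [← E6StemLevels67.R_zero]
    exact E6StemLevels67.xg_mem_R h1 h2 (Nat.zero_le _) _

theorem gl_range {i : ℕ} (hi : i < 36) : ∀ p ∈ gl.getD i [], 36 ≤ p.1 ∧ p.1 < 72 := by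
  revert i
  decide +kernel

include hK hw hf in
theorem gen_mem {i : ℕ} (hi : i < 36) : PR w (gl.getD i []) ∈ GG K := by
  refine (classes f hf hK).fixed_U_le (PR_mem_U w _ (gl_range hi)) ⟨PR_mem_group w _, ?_⟩
  have hd := gen_data i hi
  unfold genOK at hd
  split at hd
  · rename_i r c he
    simp only [Bool.and_eq_true, decide_eq_true_eq, beq_iff_eq] at hd
    obtain ⟨⟨⟨h1, h2⟩, rfl⟩, h3⟩ := hd
    rw [he]
    simp only [PR_cons, PR_nil, mul_one]
    rw [sg_letter w hK hw f hf h2 (by norm_num), h3]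
    rfl
  · rename_i r c r' c' he
    simp only [Bool.and_eq_true, decide_eq_true_eq, beq_iff_eq] at hd
    obtain ⟨⟨⟨⟨⟨⟨⟨⟨⟨⟨⟨h1, h2⟩, h1'⟩, h2'⟩, hc⟩, hc'⟩, e1⟩, e2⟩, -⟩, e3⟩, e4⟩, hl⟩ := hd
    rw [he]
    simp only [PR_cons, PR_nil, mul_one]
    rw [(tw f).sg_mul (xg_mem_group c6 _ _) (xg_mem_group c6 _ _), sg_letter w hK hw f hf h2 hc,
      sg_letter w hK hw f hf h2' hc', e1, e2, e3, e4]
    exact (E6StemLevels67.Y_commute (E6StemLevels67.xg_mem_Y h1' h2' _)
      (hl ▸ E6StemLevels67.xg_mem_Y h1 h2 _)).eq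
  · simp at hd

include hK hw hf in
theorem coe_X {i : ℕ} (hi : i < 36) : (X w i : GL chevE6.Idx K) = PR w (gl.getD i []) := by
  rw [X, dif_pos (gen_mem w hK hw f hf hi)]

include hK hw hf in
theorem coe_P : ∀ l : List ℕ, (∀ a ∈ l, a < 36) →
    ((P (X w) l : ↥(GG K)) : GL chevE6.Idx K) = PR w (rflat l)
  | [], _ => rfl
  | a :: l, h => by
    rw [P_cons, Subgroup.coe_mul, coe_X w hK hw f hf (h a List.mem_cons_self),
      coe_P l fun b hb => h b (List.mem_cons_of_mem _ hb), ← PR_append]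
    rfl

theorem rels_bound : ∀ r < 666, ∀ a ∈ (rels.getD r ([], [])).1 ++ (rels.getD r ([], [])).2, a < 36 := by
  decide +kernel

include hK hw hf in
theorem relsX {r : ℕ} (hr : r < 666) :
    P (X w) (rels.getD r ([], [])).1 = P (X w) (rels.getD r ([], [])).2 := by
  have hb := rels_bound r hr
  apply Subtype.ext
  rw [coe_P w hK hw f hf _ fun a ha => hb a (List.mem_append_left _ ha),
    coe_P w hK hw f hf _ fun a ha => hb a (List.mem_append_right _ ha)]
  exact rsame_sound w (two_zero hK) hw (List.all_eq_true.1 rels_flat r (List.mem_range.2 hr))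

include hK hw hf in
theorem coll_X {l : List ℕ} {out : List ℕ × PcQuad14.PcFrm} (h : PcQuad14.coll rels 100 l = some out) :
    P (X w) l = P (X w) out.1.reverse := by
  have hc : (MonoidHom.id ↥(GG K)).ker ≤ Subgroup.center ↥(GG K) := by rw [MonoidHom.ker_id]; exact bot_le
  obtain ⟨z, e, -⟩ := PcQuad14.coll_sound (σ := MonoidHom.id ↥(GG K))
    (χ := (1 : _ →* Multiplicative (ZMod 4))) (X w) rels 666 (fun _ => 0) hc (rels_len ▸ le_rfl)
    (fun r hr => ⟨1, by rw [OneMemClass.coe_one, mul_one]; exact relsX w hK hw f hf (rels_len ▸ hr), rfl⟩)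
    100 h
  rw [show (z : ↥(GG K)) = 1 from z.2, mul_one] at e
  exact e

theorem X_mem {i : ℕ} (hi : i < 36) : X w i ∈ UU w := Subgroup.subset_closure ⟨i, hi, rfl⟩

include hK hw hf in
theorem X_sq {a : ℕ} (ha : a < 36) : X w a * X w a = 1 := by
  have := relsX w hK hw f hf (r := a * (a + 1) / 2 + a) (by interval_cases a <;> norm_num)
  rw [square_data a ha] at this
  simpa [P] using this

include hK hw hf in
theorem mem_U {i : ℕ} (hi : i < 36) : (X w i : GL chevE6.Idx K) ∈ chevE6.posUnipotent K := by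
  rw [coe_X w hK hw f hf hi]
  exact PR_mem_U w _ (gl_range hi)

include hK hw hf in
theorem UU_le : UU w ≤ TwistAutRigid.U1 (GG K) := by
  rw [UU, Subgroup.closure_le]
  rintro _ ⟨i, hi, rfl⟩
  exact mem_U w hK hw f hf hi

/-! ### the order of the unipotent subgroup -/

/-- the generators from a level on -/
noncomputable def AA (j : ℕ) : Subgroup ↥(GG K) :=
  Subgroup.closure (X w '' {i | i < 36 ∧ j ≤ glev i})

include hK hw hf in
theorem AA_le_R (j : ℕ) : (AA w j).map (GG K).subtype ≤ R K j := by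
  rw [AA, MonoidHom.map_closure, Subgroup.closure_le]
  rintro _ ⟨_, ⟨i, ⟨hi, hj⟩, rfl⟩, rfl⟩
  show (X w i : GL chevE6.Idx K) ∈ R K j
  rw [coe_X w hK hw f hf hi]
  have hd := gen_data i hi
  unfold genOK at hd
  split at hd
  · rename_i r c he
    simp only [Bool.and_eq_true, decide_eq_true_eq, beq_iff_eq] at hd
    rw [glev, he] at hj
    simp only [he, PR_cons, PR_nil, mul_one]
    exact E6StemLevels67.xg_mem_R hd.1.1.1 hd.1.1.2 hj _
  · rename_i r c r' c' he
    simp only [Bool.and_eq_true, decide_eq_true_eq, beq_iff_eq] at hd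
    rw [glev, he] at hj
    obtain ⟨⟨⟨⟨⟨⟨⟨⟨⟨⟨⟨h1, h2⟩, h1'⟩, h2'⟩, -⟩, -⟩, -⟩, -⟩, -⟩, -⟩, -⟩, hl⟩ := hd
    simp only [he, PR_cons, PR_nil, mul_one]
    exact mul_mem (E6StemLevels67.xg_mem_R h1 h2 hj _) (E6StemLevels67.xg_mem_R h1' h2' (hl ▸ hj) _)
  · simp at hd

include hK hw hf in
theorem level_small {j : ℕ} (hj : j < 24) :
    ∃ E : Subgroup ↥(GG K), E ≤ AA w j ∧ E.map (GG K).subtype ≤ Y K j ∧
      2 ^ (orb j).length ≤ Nat.card E := by
  classical
  have h2 := two_zero hK
  have w0 := w_ne_zero w hw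
  have w1 : w + 1 ≠ 0 := fun e => w_ne_one w hK hw (by linear_combination e - h2)
  have hd := level_data j hj
  have hlv : ∀ r ∈ orb j, 36 ≤ r ∧ r < 72 ∧ lv r = j := E6StemLevels67.orb_spec j hj
  unfold levOK at hd
  split at hd
  · rename_i r ho
    simp only [Bool.and_eq_true, decide_eq_true_eq, beq_iff_eq] at hd
    obtain ⟨⟨he, hlt⟩, hg⟩ := hd
    obtain ⟨r1, r2, r3⟩ := hlv r (by rw [ho]; exact List.mem_singleton_self _)
    set a := X w (gfirst j) with ha
    refine ⟨Subgroup.zpowers a, ?_, ?_, ?_⟩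
    · rw [Subgroup.zpowers_le]
      exact Subgroup.subset_closure ⟨_, ⟨hlt, hg.ge⟩, rfl⟩
    · rw [MonoidHom.map_zpowers, Subgroup.zpowers_le]
      show (a : GL chevE6.Idx K) ∈ Y K j
      rw [ha, coe_X w hK hw f hf hlt, he]
      simp only [PR_cons, PR_nil, mul_one]
      exact r3 ▸ E6StemLevels67.xg_mem_Y r1 r2 _
    · rw [ho, Nat.card_zpowers]
      have hne : a ≠ 1 := by
        intro e
        have e' : (a : GL chevE6.Idx K) = 1 := by rw [e]; rfl
        rw [ha, coe_X w hK hw f hf hlt, he] at e'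
        simp only [PR_cons, PR_nil, mul_one] at e'
        have := ChevBruhatInstance.xg_injective c6 r2 r2 (t := cv w 1) (t' := 0) (by simp [cv])
          (e'.trans (xg_zero c6 r).symm)
        simp [cv] at this
      have : orderOf a = 2 := orderOf_eq_prime (by rw [sq]; exact X_sq w hK hw f hf hlt) hne
      rw [this]; rfl
  · rename_i r r' ho
    simp only [Bool.and_eq_true, decide_eq_true_eq, beq_iff_eq] at hd
    obtain ⟨⟨⟨⟨⟨he, he'⟩, hne⟩, hlt⟩, hg⟩, hg'⟩ := hd
    obtain ⟨r1, r2, r3⟩ := hlv r (by rw [ho]; exact List.mem_cons_self)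
    obtain ⟨s1, s2, s3⟩ := hlv r' (by rw [ho]; simp)
    set a := X w (gfirst j) with ha
    set b := X w (gfirst j + 1) with hb
    set E := Subgroup.closure ({a, b} : Set ↥(GG K))
    refine ⟨E, ?_, ?_, ?_⟩
    · rw [Subgroup.closure_le]
      rintro x (rfl | rfl)
      · exact Subgroup.subset_closure ⟨_, ⟨by omega, hg.ge⟩, rfl⟩
      · exact Subgroup.subset_closure ⟨_, ⟨hlt, hg'.ge⟩, rfl⟩
    · rw [MonoidHom.map_closure, Subgroup.closure_le]
      rintro _ ⟨x, hx, rfl⟩
      show (x : GL chevE6.Idx K) ∈ Y K j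
      rcases hx with rfl | rfl
      · rw [ha, coe_X w hK hw f hf (by omega), he]
        simp only [PR_cons, PR_nil, mul_one]
        exact mul_mem (r3 ▸ E6StemLevels67.xg_mem_Y r1 r2 _) (s3 ▸ E6StemLevels67.xg_mem_Y s1 s2 _)
      · rw [hb, coe_X w hK hw f hf hlt, he']
        simp only [PR_cons, PR_nil, mul_one]
        exact mul_mem (r3 ▸ E6StemLevels67.xg_mem_Y r1 r2 _) (s3 ▸ E6StemLevels67.xg_mem_Y s1 s2 _)
    · rw [ho]
      have ea : (a : GL chevE6.Idx K) = xg c6 r w * xg c6 r' (w + 1) := by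
        rw [ha, coe_X w hK hw f hf (by omega), he]
        simp [PR_cons, PR_nil, cv]
      have eb : (b : GL chevE6.Idx K) = xg c6 r (w + 1) * xg c6 r' w := by
        rw [hb, coe_X w hK hw f hf hlt, he']
        simp [PR_cons, PR_nil, cv]
      have sep : ∀ {t t' : K}, t ≠ 0 → xg c6 r t * xg c6 r' t' ≠ 1 := by
        intro t t' ht e
        rw [mul_eq_one_iff_eq_inv, xg_inv] at e
        exact hne (ChevBruhatInstance.xg_injective c6 r2 s2 ht e).1
      have a1 : a ≠ 1 := fun e => sep w0 (ea.symm.trans (by rw [e]; rfl))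
      have b1 : b ≠ 1 := fun e => sep w1 (eb.symm.trans (by rw [e]; rfl))
      have asq : a * a = 1 := X_sq w hK hw f hf (by omega)
      have hab : a ≠ b := by
        intro e
        have e' : xg c6 r w * xg c6 r' (w + 1) = xg c6 r (w + 1) * xg c6 r' w :=
          ea.symm.trans ((congrArg Subtype.val e).trans eb)
        have e2 : (xg c6 r (w + 1))⁻¹ * xg c6 r w = xg c6 r' w * (xg c6 r' (w + 1))⁻¹ := by
          rw [inv_mul_eq_iff_eq_mul, ← mul_assoc, ← e', mul_inv_cancel_right]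
        rw [xg_inv, xg_inv, xg_mul, xg_mul] at e2
        exact hne (ChevBruhatInstance.xg_injective c6 r2 s2
          (show -(w + 1) + w ≠ 0 by simp) e2).1
      have hab1 : a * b ≠ 1 := fun e => hab (by
        rw [← mul_left_cancel_iff (a := a), asq, e])
      have hsub : ({1, a, b, a * b} : Finset ↥(GG K)) ⊆ (E : Set ↥(GG K)).toFinset := by
        intro x hx
        simp only [Finset.mem_insert, Finset.mem_singleton] at hx
        rw [Set.mem_toFinset]
        rcases hx with rfl | rfl | rfl | rfl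
        · exact one_mem _
        · exact Subgroup.subset_closure (Or.inl rfl)
        · exact Subgroup.subset_closure (Or.inr rfl)
        · exact mul_mem (Subgroup.subset_closure (Or.inl rfl)) (Subgroup.subset_closure (Or.inr rfl))
      have h4 := Finset.card_le_card hsub
      rw [Set.toFinset_card, ← Nat.card_eq_fintype_card] at h4
      have h5 : ({1, a, b, a * b} : Finset ↥(GG K)).card = 4 := by
        have c1 : a ≠ a * b := fun e => b1 (mul_eq_left.1 e.symm)
        have c2 : b ≠ a * b := fun e => a1 (mul_eq_right.1 e.symm)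
        rw [Finset.card_insert_of_notMem (by simp [Ne.symm a1, Ne.symm b1, Ne.symm hab1]),
          Finset.card_insert_of_notMem (by simp [hab, c1]), Finset.card_insert_of_notMem (by simp [c2]),
          Finset.card_singleton]
      rw [h5] at h4
      exact h4
  · simp at hd

include hK hw hf in
theorem card_AA (j : ℕ) (hj : j ≤ 24) : 2 ^ E6StemLevels67.cnt j ≤ Nat.card (AA w j) := by
  induction hn : 24 - j generalizing j with
  | zero =>
    obtain rfl : j = 24 := by omega
    exact Nat.one_le_iff_ne_zero.2 Nat.card_pos.ne'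
  | succ n ih =>
    obtain ⟨E, hE, hEY, hcard⟩ := level_small w hK hw f hf (show j < 24 by omega)
    have hmono : AA w (j + 1) ≤ AA w j :=
      Subgroup.closure_mono (Set.image_mono fun i hi => ⟨hi.1, by have := hi.2; omega⟩)
    have hinj : Function.Injective
        (fun p : E × AA w (j + 1) => (⟨p.1.1 * p.2.1, mul_mem (hE p.1.2) (hmono p.2.2)⟩ : AA w j)) := by
      rintro ⟨a, v⟩ ⟨a', v'⟩ e
      have e' : (a : ↥(GG K)) * v = a' * v' := congrArg Subtype.val e
      have h1 : (a' : ↥(GG K))⁻¹ * a = v' * (v : ↥(GG K))⁻¹ := by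
        rw [eq_mul_inv_iff_mul_eq, mul_assoc, e', inv_mul_cancel_left]
      have hY : (((a' : ↥(GG K))⁻¹ * a : ↥(GG K)) : GL chevE6.Idx K) ∈ Y K j :=
        hEY ⟨_, mul_mem (inv_mem a'.2) a.2, rfl⟩
      have hR : (((a' : ↥(GG K))⁻¹ * a : ↥(GG K)) : GL chevE6.Idx K) ∈ R K (j + 1) :=
        AA_le_R w hK hw f hf (j + 1) ⟨_, h1 ▸ mul_mem v'.2 (inv_mem v.2), rfl⟩
      have h3 : (a' : ↥(GG K))⁻¹ * a = 1 :=
        Subtype.ext (E6StemLevels67.Y_inf_R (show j < 24 by omega) hY hR)
      rw [h3, eq_comm, mul_inv_eq_one] at h1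
      exact Prod.ext (Subtype.ext (inv_mul_eq_one.1 h3).symm) (Subtype.ext h1.symm)
    have := Nat.card_le_card_of_injective _ hinj
    rw [Nat.card_prod] at this
    rw [E6StemLevels67.cnt_succ j (by omega), pow_add]
    exact (Nat.mul_le_mul hcard (ih (j + 1) (by omega) (by omega))).trans this

include hK hw hf in
theorem card_U1 : Nat.card (TwistAutRigid.U1 (GG K)) = 2 ^ 36 := by
  obtain ⟨w0, hw0, -, hU⟩ := (tw f).exists_w0_fix
  have hc := (tw f).S.card_Uw w0
  rw [← hU, ChevalleyUnipotent.card_U c6, ← Nat.card_eq_fintype_card] at hc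
  have h36 : (tw f).X.inv w0 = 36 := by
    refine (Nat.pow_right_injective ?_ hc).symm
    rw [Nat.card_eq_fintype_card, hK]; norm_num
  have hm := ((classes f hf hK).main hw0).2.1
  rw [show (classes f hf hK).e = 1 from rfl, pow_one, show (classes f hf hK).Q = 2 from rfl, h36] at hm
  rw [← hm]
  refine Nat.card_congr
    { toFun := fun y => ⟨y.1.1, hU.le (show (y.1.1 : GL chevE6.Idx K) ∈ chevE6.posUnipotent K from y.2), le_fixed f hf hK y.1.2⟩
      invFun := fun y => ⟨⟨y.1, (classes f hf hK).UF_le hw0 y.2⟩, hU.ge y.2.1⟩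
      left_inv := fun _ => rfl
      right_inv := fun _ => rfl }

include hK hw hf in
theorem UU_eq : UU w = TwistAutRigid.U1 (GG K) := by
  refine Subgroup.eq_of_le_of_card_ge (UU_le w hK hw f hf) ?_
  rw [card_U1 w hK hw f hf]
  have h := card_AA w hK hw f hf 0 (by norm_num)
  rw [show E6StemLevels67.cnt 0 = 36 from rfl] at h
  exact h.trans (Subgroup.card_le_of_le (Subgroup.closure_mono (Set.image_mono fun i hi => hi.1)))

include hK hw hf in
theorem card_UU : Nat.card (UU w) = 2 ^ 36 := by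
  rw [UU_eq w hK hw f hf, card_U1 w hK hw f hf]

include hK hw hf in
theorem index_UU : Odd (UU w).index := by
  haveI : Fact (Nat.Prime 2) := ⟨Nat.prime_two⟩
  haveI : CharP K 2 := by
    refine CharTwo.of_one_ne_zero_of_two_eq_zero one_ne_zero (two_zero hK)
  obtain ⟨S, hS⟩ := TwistAutRigid.exists_sylow (classes f hf hK) 2
  rw [UU_eq w hK hw f hf, ← hS, ← Nat.not_even_iff_odd, even_iff_two_dvd]
  exact S.not_dvd_index

/-! ### conjugations -/

include hK hw in
theorem wu_val : ((wu w : Kˣ) : K) = cv w 2 := by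
  rw [wu, dif_neg (w_ne_zero w hw)]; rfl

theorem eta_one (h2 : (2 : K) = 0) (i r : ℕ) : (c6.eta i r : K) = 1 := by
  have h := eta_cast_sq c6 (F := K) i r
  have : ((c6.eta i r : K) - 1) ^ 2 = 0 := by linear_combination h + (1 - (c6.eta i r : K)) * h2
  exact sub_eq_zero.1 (eq_zero_of_pow_eq_zero this)

include hK hw hf in
theorem nv_mem {k : ℕ} (hk : k < 5) : nv w k ∈ GG K := by
  unfold nv
  split
  · exact (classes f hf hK).cn_G1 (cJ k)
  · exact (psi_mem f hf ((1, 1), (wu w, 1))).2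

include hK hw hf in
theorem coe_Nr {k : ℕ} (hk : k < 5) : (Nr w k : GL chevE6.Idx K) = nv w k := by
  rw [Nr, dif_pos (nv_mem w hK hw f hf hk)]

include hK hw hf in
theorem Nr_eq {k : ℕ} (hk : k < 4) : Nr w k = nG f hf hK (cJ k) :=
  Subtype.ext (by rw [coe_Nr w hK hw f hf (by omega), nv, if_pos hk]; rfl)

theorem cl6_len : ∀ J : Fin 2 ⊕ Fin 2, ∀ r < 72, ∀ i ∈ cl6 J, chevE6.reflectRoot i.val r < 72 := by
  decide +kernel

include hK in
theorem ng_conj (i : Fin chevE6.rank) {r : ℕ} (hr : r < 72) (t : K) :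
    ng c6 (chevE6.simple i.val) 1 * xg c6 r t * (ng c6 (chevE6.simple i.val) 1)⁻¹ =
      xg c6 (chevE6.reflectRoot i.val r) t := by
  rw [ng_simple_conj c6 i.isLt (show r < chevE6.nroots from hr), eta_one (two_zero hK), one_mul]

include hK hw in
theorem nv_letter {k : ℕ} (hk : k < 5) {p : ℕ × ℕ} (hp : p.1 < 72) (hc : p.2 < 4) :
    nv w k * xg c6 p.1 (cv w p.2) * (nv w k)⁻¹ = xg c6 (act k p).1 (cv w (act k p).2) := by
  by_cases h4 : k < 4
  · rw [nv, if_pos h4, act, if_pos h4]
    dsimp only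
    generalize hJ : cJ k = J
    rcases J with j | j
    · exact ng_conj hK (sn j) hp _
    · show pnn j 1 1 * _ * (pnn j 1 1)⁻¹ = _
      have := cl6_len (.inr j) p.1 hp (pm j) (by simp [cl6])
      rw [pnn, mul_inv_rev]
      calc ng c6 (ra j) 1 * ng c6 (rb j) 1 * xg c6 p.1 (cv w p.2) *
            ((ng c6 (rb j) 1)⁻¹ * (ng c6 (ra j) 1)⁻¹)
          = ng c6 (ra j) 1 * (ng c6 (rb j) 1 * xg c6 p.1 (cv w p.2) * (ng c6 (rb j) 1)⁻¹) *
              (ng c6 (ra j) 1)⁻¹ := by group
        _ = _ := by rw [ng_conj hK (pm j) hp, ng_conj hK (pn j) this]; rfl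
  · obtain rfl : k = 4 := by omega
    rw [nv, if_neg h4, act, if_neg h4, torus_conj_xg c6 (show p.1 < chevE6.nroots from hp)]
    dsimp only
    congr 1
    have h2 := two_zero hK
    set n := ((chevE6.cartan 0 p.1 + 2 * chevE6.cartan 5 p.1) % 3).toNat
    rw [← cv_mul w h2 hw _ (cpow_lt (by norm_num) n) _ hc, cv_pow w h2 hw (by norm_num) n,
      ← wu_val w hK hw, ← Units.val_pow_eq_pow_val]
    congr 2
    have h3 : (wu w) ^ (3 : ℤ) = 1 := by
      apply Units.ext
      rw [show (3 : ℤ) = ((3 : ℕ) : ℤ) from rfl, zpow_natCast, Units.val_pow_eq_pow_val, wu_val w hK hw,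
        Units.val_one]
      simp only [cv, List.getD_cons_succ, List.getD_cons_zero]
      linear_combination (w + 1) * hw + (w) * h2
    rw [tchar_aux]
    simp only [tp, nd, List.getD_cons_zero, List.getD_cons_succ, one_pow, one_zpow, mul_one]
    rw [← zpow_natCast, ← zpow_natCast (wu w) n, ← zpow_mul, ← zpow_add,
      Int.toNat_of_nonneg (Int.emod_nonneg _ (by norm_num))]
    conv_lhs => rw [← Int.emod_add_mul_ediv (chevE6.cartan 0 p.1 + ((2 : ℕ) : ℤ) * chevE6.cartan 5 p.1) 3,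
      zpow_add, zpow_mul, h3, one_zpow, mul_one]
    rfl

include hK hw hf in
theorem nv_word {k : ℕ} (hk : k < 5) : ∀ l : List (ℕ × ℕ), (∀ p ∈ l, p.1 < 72 ∧ p.2 < 4) →
    nv w k * PR w l * (nv w k)⁻¹ = PR w (l.map (act k))
  | [], _ => by simp [PR_nil]
  | p :: l, h => by
    rw [List.map_cons, PR_cons, PR_cons, ← nv_word hk l fun q hq => h q (List.mem_cons_of_mem _ hq),
      ← nv_letter w hK hw hk (h p List.mem_cons_self).1 (h p List.mem_cons_self).2]
    group

theorem gl_code : ∀ i < 36, ∀ p ∈ gl.getD i [], p.1 < 72 ∧ p.2 < 4 := by decide +kernel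

include hK hw hf in
theorem Nr_conj {k i : ℕ} (hk : k < 5) (hok : okk k i = true) :
    Nr w k * X w i * (Nr w k)⁻¹ = P (X w) (img k i) := by
  have hi : i < 36 := by simp only [okk, Bool.and_eq_true, decide_eq_true_eq] at hok; exact hok.1
  have h := List.all_eq_true.1 (List.all_eq_true.1 act_flat k (List.mem_range.2 hk)) i (List.mem_range.2 hi)
  simp only [hok, Bool.not_true, Bool.false_or, Bool.and_eq_true] at h
  obtain ⟨⟨h1, hb⟩, -⟩ := h
  apply Subtype.ext
  rw [Subgroup.coe_mul, Subgroup.coe_mul, Subgroup.coe_inv, coe_Nr w hK hw f hf hk, coe_X w hK hw f hf hi,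
    coe_P w hK hw f hf _ (by simpa [List.all_eq_true] using hb), nv_word w hK hw f hf hk _ (gl_code i hi)]
  exact rsame_sound w (two_zero hK) hw h1

theorem img_single {k i : ℕ} (hk : k < 4) (hok : okk k i = true) :
    img k i = [(img k i).headD 0] ∧ okk k ((img k i).headD 0) = true := by
  have hi : i < 36 := by simp only [okk, Bool.and_eq_true, decide_eq_true_eq] at hok; exact hok.1
  have h := List.all_eq_true.1 (List.all_eq_true.1 act_flat k (List.mem_range.2 (by omega))) i
    (List.mem_range.2 hi)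
  simp only [hok, Bool.not_true, Bool.false_or, Bool.and_eq_true, Bool.or_eq_true, decide_eq_true_eq,
    beq_iff_eq] at h
  rcases h.2 with h' | h'
  · omega
  · exact h'

theorem img_lt {k i : ℕ} (hk : k < 5) (hok : okk k i = true) : ∀ j ∈ img k i, j < 36 := by
  have hi : i < 36 := by simp only [okk, Bool.and_eq_true, decide_eq_true_eq] at hok; exact hok.1
  have h := List.all_eq_true.1 (List.all_eq_true.1 act_flat k (List.mem_range.2 hk)) i (List.mem_range.2 hi)
  simp only [hok, Bool.not_true, Bool.false_or, Bool.and_eq_true] at h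
  simpa [List.all_eq_true] using h.1.2

include hK hw hf in
theorem Nr_Ui {k : ℕ} (hk : k < 5) {y : ↥(GG K)} (hy : y ∈ Ui w k) :
    Nr w k * y * (Nr w k)⁻¹ ∈ UU w := by
  refine (Subgroup.closure_le ((UU w).comap (MulAut.conj (Nr w k)).toMonoidHom)).2 ?_ hy
  rintro _ ⟨i, hi, rfl⟩
  show Nr w k * X w i * (Nr w k)⁻¹ ∈ UU w
  rw [Nr_conj w hK hw f hf hk hi]
  refine Subgroup.list_prod_mem _ fun x hx => ?_
  obtain ⟨j, hj, rfl⟩ := List.mem_map.1 hx
  exact X_mem w (img_lt hk hi j hj)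

/-- the roots of a class, inside the unipotent subgroup -/
noncomputable def EE (k : ℕ) : Subgroup ↥(GG K) := Subgroup.closure (X w '' {a | a ∈ roots.getD k []})

include hK hw hf in
theorem UU_split {k : ℕ} (hk : k < 5) {y : ↥(GG K)} (hy : y ∈ UU w) :
    ∃ v ∈ Ui w k, ∃ x ∈ EE w k, y = v * x := by
  have hsup : UU w ≤ Ui w k ⊔ EE w k := by
    rw [UU, Subgroup.closure_le]
    rintro _ ⟨i, hi, rfl⟩
    simp only [Set.mem_Iio] at hi
    by_cases hr : i ∈ roots.getD k []
    · exact Subgroup.mem_sup_right (Subgroup.subset_closure ⟨i, hr, rfl⟩)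
    · refine Subgroup.mem_sup_left (Subgroup.subset_closure ⟨i, ?_, rfl⟩)
      show okk k i = true
      simpa [okk, hi] using hr
  have hn : EE w k ≤ Subgroup.normalizer (Ui w k : Set ↥(GG K)) := by
    rw [EE, Subgroup.closure_le]
    rintro _ ⟨a, ha, rfl⟩
    have ha' : a ∈ roots.getD k [] := ha
    have hk4 : k < 4 := by
      by_contra h
      obtain rfl : k = 4 := by omega
      simp [roots] at ha'
    have ha36 := (root_data k hk4 a ha').1
    have hinv : (X w a)⁻¹ = X w a := inv_eq_of_mul_eq_one_right (X_sq w hK hw f hf ha36)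
    have hmap : ∀ v ∈ Ui w k, X w a * v * (X w a)⁻¹ ∈ Ui w k := fun v hv => by
      refine (Subgroup.closure_le ((Ui w k).comap (MulAut.conj (X w a)).toMonoidHom)).2 ?_ hv
      rintro _ ⟨i, hi, rfl⟩
      have hi36 : i < 36 := by
        simp only [okk, Set.mem_setOf_eq, Bool.and_eq_true, decide_eq_true_eq] at hi; exact hi.1
      show X w a * X w i * (X w a)⁻¹ ∈ Ui w k
      rw [hinv]
      have h := List.all_eq_true.1 (List.all_eq_true.1 (List.all_eq_true.1 conj_data k (List.mem_range.2 hk)) a ha') i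
        (List.mem_range.2 hi36)
      simp only [show okk k i = true from hi, Bool.not_true, Bool.false_or] at h
      split at h
      · rename_i out ho
        have e := coll_X w hK hw f hf ho
        simp only [P_cons, P_nil, mul_one] at e
        rw [mul_assoc, e]
        refine Subgroup.list_prod_mem _ fun x hx => ?_
        obtain ⟨j, hj, rfl⟩ := List.mem_map.1 hx
        exact Subgroup.subset_closure ⟨j, List.all_eq_true.1 h j (List.mem_reverse.1 hj), rfl⟩
      · simp at h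
    rw [SetLike.mem_coe, Subgroup.mem_normalizer_iff]
    intro v
    refine ⟨fun hv => hmap v hv, fun hv => ?_⟩
    have := hmap _ hv
    rwa [hinv, ← mul_assoc, ← mul_assoc, X_sq w hK hw f hf ha36, one_mul, mul_assoc,
      X_sq w hK hw f hf ha36, mul_one] at this
  have h := hsup hy
  rw [← SetLike.mem_coe, Subgroup.coe_mul_of_right_le_normalizer_left _ _ hn, Set.mem_mul] at h
  obtain ⟨v, hv, x, hx, e⟩ := h
  exact ⟨v, hv, x, hx, e.symm⟩

include hK hw hf in
theorem EE_le {k : ℕ} (hk : k < 4) : EE w k ≤ XG f hf hK (cJ k) := by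
  rw [EE, Subgroup.closure_le]
  rintro _ ⟨a, ha, rfl⟩
  obtain ⟨ha36, hl⟩ := root_data k hk a ha
  rw [SetLike.mem_coe, mem_XG, coe_X w hK hw f hf ha36]
  refine Subgroup.list_prod_mem _ fun x hx => ?_
  simp only [List.map_map, List.mem_map] at hx
  obtain ⟨p, hp, rfl⟩ := hx
  exact xg_mem_Rt (show p.1 < chevE6.nroots from lst_lt _ _ (hl p hp)) (hl p hp) _

include hK hw hf in
theorem XG_trivial {k : ℕ} (hk : k < 4) {x : ↥(GG K)} (hx : x ∈ XG f hf hK (cJ k))
    (hc : (nG f hf hK (cJ k) * x * (nG f hf hK (cJ k))⁻¹ : ↥(GG K)).1 ∈ chevE6.borelSubgroup K) :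
    x = 1 := by
  rw [mem_XG, ← Uw_eq f (cJ k), ← toW_nG f hf hK (cJ k)] at hx
  have h := (tw f).S.conj_Uw_mem_V ⟨_, nG_N f hf hK (cJ k)⟩ hx
  have h2 := Subgroup.mem_inf.mpr ⟨hc, h⟩
  simp only [Subgroup.coe_mul, Subgroup.coe_inv] at h2
  rw [(tw f).S.B_inf_V, Subgroup.mem_bot, conj_eq_one_iff] at h2
  exact Subtype.ext h2

include hK hw hf in
/-- the part of the unipotent subgroup kept by a representative -/
theorem mem_Ui {k : ℕ} (hk : k < 5) {y : ↥(GG K)} (hy : y ∈ UU w)
    (hc : Nr w k * y * (Nr w k)⁻¹ ∈ UU w) : y ∈ Ui w k := by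
  obtain ⟨v, hv, x, hx, rfl⟩ := UU_split w hK hw f hf hk hy
  by_cases hk4 : k < 4
  · have hv' := Nr_Ui w hK hw f hf hk hv
    have h1 : Nr w k * x * (Nr w k)⁻¹ ∈ UU w := by
      have := mul_mem (inv_mem hv') hc
      convert this using 1
      group
    rw [Nr_eq w hK hw f hf hk4, UU_eq w hK hw f hf] at h1
    rw [XG_trivial w hK hw f hf hk4 (EE_le w hK hw f hf hk4 hx) (Sys.U_le_B h1), mul_one]
    exact hv
  · obtain rfl : k = 4 := by omega
    have hx1 : x = 1 := by
      have : EE w 4 = (⊥ : Subgroup ↥(GG K)) := by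
        rw [EE, Subgroup.closure_eq_bot_iff]
        rintro _ ⟨a, ha, rfl⟩
        simp [roots] at ha
      rwa [this, Subgroup.mem_bot] at hx
    rw [hx1, mul_one]; exact hv

include hK hw hf in
theorem card_Ui {k : ℕ} (hk : k < 5) :
    2 ^ (36 - (roots.getD k []).length) ≤ Nat.card (Ui w k) := by
  classical
  have hm : Nat.card (UU w) ≤ Nat.card (Ui w k) * Nat.card (EE w k) := by
    rw [← Nat.card_prod]
    refine le_trans ?_ (Nat.card_le_card_of_surjective
      (f := fun p : Ui w k × EE w k => (⟨p.1.1 * p.2.1, p.1, p.2, rfl⟩ :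
        {z : ↥(GG K) // ∃ (v : Ui w k) (x : EE w k), z = v.1 * x.1}))
      (fun ⟨z, v, x, e⟩ => ⟨(v, x), Subtype.ext e.symm⟩))
    refine Nat.card_le_card_of_injective (fun y => ⟨y.1, ?_⟩) fun a b h =>
      Subtype.ext (congrArg Subtype.val h :)
    obtain ⟨v, hv, x, hx, e⟩ := UU_split w hK hw f hf hk y.2
    exact ⟨⟨v, hv⟩, ⟨x, hx⟩, e⟩
  have hE : Nat.card (EE w k) ≤ 2 ^ (roots.getD k []).length := by
    by_cases hk4 : k < 4
    · refine (Subgroup.card_le_of_le (EE_le w hK hw f hf hk4)).trans ?_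
      have hcard : Nat.card (XG f hf hK (cJ k)) ≤ Nat.card ↥((tw f).UF ((tw f).wd (cl6 (cJ k)))) :=
        Nat.card_le_card_of_injective (fun y => ⟨y.1.1, y.2⟩)
          fun a b h => Subtype.ext (Subtype.ext (congrArg Subtype.val h :))
      refine hcard.trans ?_
      obtain ⟨l0, l1, l2, l3⟩ : (roots.getD 0 []).length = 1 ∧ (roots.getD 1 []).length = 1 ∧
          (roots.getD 2 []).length = 2 ∧ (roots.getD 3 []).length = 2 := by decide +kernel
      interval_cases k
      · rw [l0, pow_one, show cJ 0 = Sum.inl 0 from rfl, card_UF_single f hf hK 0]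
      · rw [l1, pow_one, show cJ 1 = Sum.inl 1 from rfl, card_UF_single f hf hK 1]
      · rw [l2, show cJ 2 = Sum.inr 0 from rfl, card_UF_pair f hf hK 0]
      · rw [l3, show cJ 3 = Sum.inr 1 from rfl, card_UF_pair f hf hK 1]
    · obtain rfl : k = 4 := by omega
      have : EE w 4 = (⊥ : Subgroup ↥(GG K)) := by
        rw [EE, Subgroup.closure_eq_bot_iff]
        rintro _ ⟨a, ha, rfl⟩
        simp [roots] at ha
      rw [this, Subgroup.card_bot]
      exact Nat.one_le_two_pow
  rw [card_UU w hK hw f hf] at hm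
  have hl : (roots.getD k []).length ≤ 36 := by interval_cases k <;> decide +kernel
  have h := hm.trans (Nat.mul_le_mul_left _ hE)
  rw [show 2 ^ 36 = 2 ^ (36 - (roots.getD k []).length) * 2 ^ (roots.getD k []).length by
    rw [← pow_add, Nat.sub_add_cancel hl]] at h
  exact Nat.le_of_mul_le_mul_right h (by positivity)

/-! ### induction over the Bruhat decomposition -/

include hK hw hf in
theorem mem_UU {y : ↥(GG K)} : y ∈ UU w ↔ (y : GL chevE6.Idx K) ∈ chevE6.posUnipotent K := by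
  rw [UU_eq w hK hw f hf]; rfl

include hf hK in
theorem H_normal {h y : ↥(GG K)} (hh : h ∈ H1 K 2) (hy : (y : GL chevE6.Idx K) ∈ chevE6.posUnipotent K) :
    ((h * y * h⁻¹ : ↥(GG K)) : GL chevE6.Idx K) ∈ chevE6.posUnipotent K :=
  (Subgroup.mem_normalizer_iff.1 ((tw f).S.H_le_normalizer hh) _).1 hy

include hK hw hf in
theorem torus_mem : Nr w 4 ∈ H1 K 2 := by
  show (Nr w 4 : GL chevE6.Idx K) ∈ chevE6.diagonalSubgroup K
  rw [coe_Nr w hK hw f hf (by norm_num), nv, if_neg (by norm_num)]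
  exact torus_mem_H c6 _

include hK hw hf in
theorem torus_ne : Nr w 4 ≠ 1 := by
  intro h
  have h1 : torus chevE6 (tp 2 1 1 (wu w) 1) = 1 := by
    have := congrArg Subtype.val h
    rwa [coe_Nr w hK hw f hf (by norm_num), nv, if_neg (by norm_num)] at this
  obtain ⟨-, -, -, -, h4, -⟩ := ker_eqs h1
  simp [tp] at h4
  exact w_ne_one w hK hw (by
    have := congrArg (fun u : Kˣ => (u : K)) h4.symm
    simpa [wu_val w hK hw, cv] using this)

include hK hw hf in
/-- Induction over the Bruhat decomposition. -/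
theorem bruhat_induction (Q : ↥(GG K) → Prop) (hU : ∀ u ∈ UU w, Q u) (hN : ∀ k < 5, Q (Nr w k))
    (hmul : ∀ a b, Q a → Q b →
      (∀ y ∈ UU w, a * b * y * (a * b)⁻¹ ∈ UU w → b * y * b⁻¹ ∈ UU w) → Q (a * b)) :
    ∀ g, Q g := by
  classical
  have hm := @mem_UU K _ w _ hK hw f hf
  -- the torus
  have hH : ∀ g ∈ H1 K 2, Q g := by
    intro g hg
    set h := Nr w 4
    have hmem := torus_mem w hK hw f hf
    have hne := torus_ne w hK hw f hf
    have hc3 : Nat.card ↥(H1 K 2) = 3 := by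
      have hc := TwistedE6.card_H1 f hf hK
      have he : Nat.card ↥(H1 K 2) = Nat.card ↥(chevE6.diagonalSubgroup K ⊓ twistedE6 K 2) :=
        Nat.card_congr ⟨fun x => ⟨x.1.1, x.2, x.1.2⟩, fun x => ⟨⟨x.1, x.2.2⟩, x.2.1⟩, fun _ => rfl, fun _ => rfl⟩
      rw [show Nat.gcd 3 (2 + 1) = 3 by norm_num, ← he] at hc
      norm_num at hc
      rw [Nat.card_eq_fintype_card]; omega
    haveI : Fact (Nat.Prime 3) := ⟨Nat.prime_three⟩
    have hz : Subgroup.zpowers (⟨h, hmem⟩ : H1 K 2) = ⊤ :=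
      zpowers_eq_top_of_prime_card hc3 fun e => hne (congrArg Subtype.val e)
    obtain ⟨n, hn⟩ := Subgroup.mem_zpowers_iff.1 (hz ▸ Subgroup.mem_top (⟨g, hg⟩ : H1 K 2))
    have hn' : h ^ n = g := by have := congrArg Subtype.val hn; simpa using this
    have hnat : ∀ m : ℕ, Q (h ^ m) := by
      intro m
      induction m with
      | zero => rw [pow_zero]; exact hU 1 (one_mem _)
      | succ m ih =>
        rw [pow_succ]
        exact hmul _ _ ih (hN 4 (by norm_num)) fun y hy _ => hm.2 (H_normal hK f hf hmem (hm.1 hy))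
    have hfin : IsOfFinOrder h := isOfFinOrder_of_finite h
    obtain ⟨m, hm'⟩ := (hfin.mem_zpowers_iff_mem_range_orderOf.1 ⟨n, hn'⟩ : g ∈ _) |> Finset.mem_image.1
    exact hm'.2 ▸ hnat m
  -- the representatives
  have hcase : ∀ J : Fin 2 ⊕ Fin 2, ∃ k < 4, cJ k = J := by decide
  have hn : ∀ m, ∀ n : ↥(GG K), ∀ hnN : (n : GL chevE6.Idx K) ∈ chevE6.monomialSubgroup K,
      (tw f).X.inv ((tw f).S.toW ⟨_, hnN⟩)⁻¹ = m → Q n := by
    intro m
    induction m using Nat.strong_induction_on with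
    | _ m ih =>
      intro n hnN hmn
      set W := (tw f).S.toW ⟨_, hnN⟩ with hW
      by_cases h1 : W = 1
      · exact hH n ((tw f).S.toW_ker.le (x := ⟨_, hnN⟩) h1)
      have hfix : W ∈ (tw f).fixW := (tw f).toW_fix_of_fixed (le_fixed f hf hK n.2).2
      obtain ⟨J, -, -, -, -, hsub⟩ := (classes f hf hK).exists_class_descent (inv_mem hfix)
        (fun e => h1 (inv_eq_one.1 e))
      obtain ⟨k, hk, rfl⟩ := hcase J
      obtain ⟨hset, hinv⟩ : (∀ r ∈ (tw f).X.invSet (W⁻¹ * (tw f).wd (cl6 (cJ k))),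
            (tw f).X.img ((tw f).wd (cl6 (cJ k))) r ∈ (tw f).X.invSet W⁻¹) ∧
          (tw f).X.inv W⁻¹ = (tw f).X.inv (W⁻¹ * (tw f).wd (cl6 (cJ k))) +
            (tw f).X.inv ((tw f).wd (cl6 (cJ k))) := (classes f hf hK).step_sets hsub
      have hpos : 0 < (tw f).X.inv ((tw f).wd (cl6 (cJ k))) := (classes f hf hK).inv_cw_pos _
      have hcw : ((tw f).wd (cl6 (cJ k)))⁻¹ = (tw f).wd (cl6 (cJ k)) := cw_inv' f hf hK _
      set N0 := nG f hf hK (cJ k) with hN0
      have hNk : Nr w k = N0 := Nr_eq w hK hw f hf hk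
      set n' := N0⁻¹ * n with hn'
      have hn'N : (n' : GL chevE6.Idx K) ∈ chevE6.monomialSubgroup K :=
        mul_mem (inv_mem (nG_N f hf hK (cJ k))) hnN
      have hW' : (tw f).S.toW ⟨_, hn'N⟩ = (tw f).wd (cl6 (cJ k)) * W := by
        have : (⟨_, hn'N⟩ : ↥(chevE6.monomialSubgroup K)) =
            (⟨_, nG_N f hf hK (cJ k)⟩)⁻¹ * ⟨_, hnN⟩ := rfl
        rw [this, map_mul, map_inv, toW_nG f hf hK, hcw]
      have hlt : (tw f).X.inv ((tw f).S.toW ⟨_, hn'N⟩)⁻¹ < m := by
        rw [hW', mul_inv_rev, hcw]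
        omega
      have hQ' := ih _ hlt n' hn'N rfl
      have en : n = N0 * n' := by rw [hn', mul_inv_cancel_left]
      rw [en, ← hNk]
      refine hmul _ _ (hN k (by omega)) hQ' fun y hy hyc => ?_
      rw [hNk, ← en] at hyc
      set u := n * y * n⁻¹ with hu
      have hu' : u ∈ TwistAutRigid.U1 (GG K) := hm.1 hyc
      obtain ⟨x, hx, v, hv, hvc, huv⟩ := E6StemClasses67.split f hf hK (cJ k) hu'
      have hself : N0⁻¹ = N0 := by
        apply Subtype.ext
        show (cn6 (K := K) (cJ k))⁻¹ = cn6 (cJ k)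
        have hng : ∀ r, (ng c6 r (1 : K))⁻¹ = ng c6 r 1 := fun r => by
          rw [ng_inv, neg_self (two_zero hK)]
        generalize cJ k = J
        rcases J with j | j
        · exact hng _
        · show (pnn j 1 1)⁻¹ = pnn j 1 1
          rw [pnn, mul_inv_rev, hng, hng]
          exact (commute_ng j 1 1).eq.symm
      rw [hm]
      show ((n' * y * n'⁻¹ : ↥(GG K)) : GL chevE6.Idx K) ∈ chevE6.posUnipotent K
      have hz : n' * y * n'⁻¹ = (N0⁻¹ * v * N0) * (N0⁻¹ * x * N0) := by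
        have : n' * y * n'⁻¹ = N0⁻¹ * u * N0 := by rw [hn', hu]; group
        rw [this, huv]; group
      have hv' : N0⁻¹ * v * N0 ∈ TwistAutRigid.U1 (GG K) := by
        rw [show N0⁻¹ * v * N0 = N0 * v * N0⁻¹ by rw [hself]]
        exact hvc
      by_cases hx1 : x = 1
      · rw [hz, hx1, mul_one, inv_mul_cancel, mul_one]
        exact hv'
      exfalso
      have hxL : N0 * x * N0⁻¹ ∈ LG f hf (cJ k) := by
        rw [Lgen f hf hK]
        exact Subgroup.subset_closure (Or.inr ⟨x, hx, rfl⟩)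
      rcases E6StemClasses67.bruhat f hf hK (cJ k) hxL with ⟨x1, hx', h, hh, e⟩ | ⟨x1, hx', h, hh, x2, hx2, e⟩
      · refine hx1 (XG_trivial w hK hw f hf hk hx ?_)
        rw [e, Subgroup.coe_mul]
        exact mul_mem (Sys.U_le_B (TwistAutRigid.XJ_le _ _ hx')) (Sys.H_le_B hh.1)
      · have hy' : (y : GL chevE6.Idx K) ∈ chevE6.borelSubgroup K := Sys.U_le_B (hm.1 hy)
        have hb1 : ((N0⁻¹ * v * N0 * x1 * h : ↥(GG K)) : GL chevE6.Idx K) ∈ chevE6.borelSubgroup K := by
          rw [Subgroup.coe_mul, Subgroup.coe_mul]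
          exact mul_mem (mul_mem (Sys.U_le_B hv') (Sys.U_le_B (TwistAutRigid.XJ_le _ _ hx')))
            (Sys.H_le_B hh.1)
        have hb2 : ((n'⁻¹ * x2 * n' : ↥(GG K)) : GL chevE6.Idx K) ∈ chevE6.borelSubgroup K := by
          apply Sys.U_le_B
          have hx2' : (x2 : GL chevE6.Idx K) ∈ (tw f).S.Uw ((tw f).wd (cl6 (cJ k))) := by
            rw [Uw_eq f]; exact (mem_XG f hf hK).1 hx2
          have ha := ((tw f).S.acts_toW ⟨_, hn'N⟩).inv (tw f).S
          have : (n' : GL chevE6.Idx K)⁻¹ * x2 * (n' : GL chevE6.Idx K)⁻¹⁻¹ ∈ chevE6.posUnipotent K := by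
            refine Sys.conj_closure_le
              (T := {g | ∃ r t, r ∈ (tw f).X.invSet ((tw f).wd (cl6 (cJ k))) ∧ g = (tw f).S.xg r t}) _ ?_ hx2'
            rintro g ⟨r, t, hr, rfl⟩
            have hr' := (tw f).X.mem_invSet.1 hr
            obtain ⟨c, -, hc, -⟩ := ha r hr'.1.1
            rw [hc]
            refine (tw f).S.xg_mem_U ?_ _
            rw [hW', mul_inv_rev, hcw]
            refine ((tw f).X.pos_or_neg ((tw f).X.img_lt _ hr'.1.1)).resolve_right fun hneg => ?_
            have h3 := (tw f).X.mem_invSet.1 (hset r ((tw f).X.mem_invSet.2 ⟨hr'.1, hneg⟩))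
            exact (tw f).X.not_pos_and_neg h3.1 hr'.2
          rw [inv_inv] at this
          exact this
        have hkey : (1 : GL chevE6.Idx K) * (n' : GL chevE6.Idx K) * y =
            ((N0⁻¹ * v * N0 * x1 * h : ↥(GG K)) : GL chevE6.Idx K) *
              ((N0 * n' : ↥(GG K)) : GL chevE6.Idx K) * ((n'⁻¹ * x2 * n' : ↥(GG K)) : GL chevE6.Idx K) := by
          rw [one_mul]
          have h4 : n' * y = N0⁻¹ * v * N0 * x1 * h * (N0 * n') * (n'⁻¹ * x2 * n') := by
            calc n' * y = n' * y * n'⁻¹ * n' := by group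
              _ = N0⁻¹ * v * N0 * (N0⁻¹ * x * N0) * n' := by rw [hz]
              _ = N0⁻¹ * v * N0 * (N0 * x * N0⁻¹) * n' := by rw [hself]
              _ = _ := by rw [e, ← hN0]; group
          exact congrArg Subtype.val h4
        have hcell := (tw f).S.toW_unique (n := ⟨_, hn'N⟩)
          (n' := ⟨_, mul_mem (nG_N f hf hK (cJ k)) hn'N⟩) (one_mem _) hb1 hy' hb2 hkey
        have h5 : (⟨_, mul_mem (nG_N f hf hK (cJ k)) hn'N⟩ : ↥(chevE6.monomialSubgroup K)) =
            ⟨_, nG_N f hf hK (cJ k)⟩ * ⟨_, hn'N⟩ := rfl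
        rw [h5, map_mul, toW_nG f hf hK] at hcell
        exact cw_ne f hf hK (cJ k) (mul_eq_right.1 hcell.symm)
  intro g
  obtain ⟨b, hb, n, hn1, u, hu, e⟩ := (classes f hf hK).exists_form1 g.2
  have hug : u ∈ GG K := (classes f hf hK).UF_le ((classes f hf hK).toW_fix hn1) hu
  have hu' : (⟨u, hug⟩ : ↥(GG K)) ∈ UU w := hm.2 ((tw f).S.Uw_le_U _ hu.1)
  obtain ⟨hd, hhd, u0, hu0, eb⟩ := (classes f hf hK).mem_B1 hb
  have hb' : ∀ y ∈ UU w, (⟨b, hb.2⟩ : ↥(GG K))⁻¹ * y * ⟨b, hb.2⟩ ∈ UU w := by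
    intro y hy
    have hn : b ∈ Subgroup.normalizer (chevE6.posUnipotent K : Set (GL chevE6.Idx K)) := by
      rw [eb]; exact mul_mem ((tw f).S.H_le_normalizer hhd.1) (Subgroup.le_normalizer hu0.1)
    exact hm.2 ((Subgroup.mem_normalizer_iff''.1 hn _).1 (hm.1 hy))
  have e' : g = ⟨b, hb.2⟩ * ⟨n, hn1⟩ * ⟨u, hug⟩ := Subtype.ext e
  rw [e']
  refine hmul _ _ (hmul _ _ ?_ (hn _ ⟨n, hn1⟩ n.2 rfl) fun y hy hc => ?_) (hU _ hu')
    fun y hy _ => mul_mem (mul_mem hu' hy) (inv_mem hu')
  · have eb' : (⟨b, hb.2⟩ : ↥(GG K)) = ⟨hd, hhd.2⟩ * ⟨u0, hu0.2⟩ := Subtype.ext eb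
    rw [eb']
    exact hmul _ _ (hH _ hhd.1) (hU _ (hm.2 hu0.1)) fun y hy _ =>
      mul_mem (mul_mem (hm.2 hu0.1) hy) (inv_mem (hm.2 hu0.1))
  · have := hb' _ hc
    convert this using 1
    group

end Cfsg.Agent.TwistE6Mult14Geom
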