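import Cfsg.Agent.Lib.E6Five14Rep
import Cfsg.Agent.Lib.TwistE6Mult14Geom

/-!
All elements of order five of the twisted E6 group over the field with four elements are conjugate.
-/

set_option autoImplicit false
set_option linter.unusedSectionVars false
set_option maxRecDepth 20000

namespace Cfsg.Agent.E6Five14Class

open Cfsg.Lie Cfsg.Agent Cfsg.Agent.ChevalleyCert Cfsg.Agent.ChevalleyCore Cfsg.Agent.TwistedCore
  Cfsg.Agent.TwistedE6 Cfsg.Agent.TwistE6Mult14Root Cfsg.Agent.TwistE6Mult14Check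
  Cfsg.Agent.TwistE6Mult14Geom
open Cfsg.Agent.E6Five14Rep (St sx wd)
open Cfsg.Agent.E6Five14Data (emb ys y2 lines sqs reach)

universe u

variable {K : Type u} [Field K] [Fintype K]

/-- the image of a root under a class -/
def rootK (k r : ℕ) : ℕ := (act k (r, 1)).1

/-- the image of a root in E6 -/
abbrev em (i : ℕ) : ℕ := emb.getD i 0

theorem reach_ok : ∀ i < 24, em i < 72 ∧ (∀ k ∈ reach.getD i [], k < 4) ∧
    (reach.getD i []).foldr rootK 39 = em i := by
  decide +kernel

theorem word_lt : (∀ X < 3, ∀ r ∈ ys.getD X [], r < 24) ∧ (∀ r ∈ y2, r < 24) ∧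
    (∀ k < 6, ∀ r ∈ (lines.getD k (0, [])).2, r < 24) ∧ (∀ X < 3, ∀ r ∈ sqs.getD X [], r < 24) := by
  decide +kernel

theorem comm_data : (List.range 24).all (fun r => (List.range 24).all fun s =>
    (s == r || s == chevD4.neg r) ||
      (!(em s == em r) && !(em s == chevE6.neg (em r)) &&
        ((chevE6.commTerms (em r) (em s)).map (fun c => c.1) ==
          (chevD4.commTerms r s).map (fun c => em c.1)) &&
        (chevE6.commTerms (em r) (em s)).all fun c => decide (c.2.1 % 2 = 1))) = true := by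
  decide +kernel

theorem em_neg : ∀ r < 24, em r < 72 := fun r hr => (reach_ok r hr).1

theorem y_images : (ys.getD 1 []).map em = ((ys.getD 0 []).map em).map (rootK 2) ∧
    (ys.getD 2 []).map em = ((ys.getD 0 []).map em).map (fun r => rootK 3 (rootK 2 r)) := by
  decide +kernel

variable (w : K) (hK : Fintype.card K = 2 ^ 2) (hw : w ^ 2 = w + 1) (f : K →+* K) (hf : ∀ t, f t = t ^ 2)

theorem cv_one : cv w 1 = 1 := rfl

include hK in
theorem one_sq (r : ℕ) : xg c6 r (1 : K) * xg c6 r 1 = 1 := by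
  rw [xg_mul c6, show (1 : K) + 1 = 0 by rw [← two_mul, two_zero hK, zero_mul]]
  exact xg_zero c6 r

include hK hw hf in
theorem conj_class {k r : ℕ} (hk : k < 4) (hr : r < 72) :
    nv w k * xg c6 r (1 : K) * (nv w k)⁻¹ = xg c6 (rootK k r) 1 := by
  have h := nv_letter w hK hw (k := k) (by omega) (p := (r, 1)) hr (show 1 < 4 by norm_num)
  have e : (act k (r, 1)).2 = 1 := by rw [act, if_pos hk]
  rw [cv_one, e, cv_one] at h
  exact h

include hK hw hf in
theorem word_mem : ∀ l : List ℕ, (∀ k ∈ l, k < 4) →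
    xg c6 (l.foldr rootK 39) (1 : K) ∈ GG K ∧ l.foldr rootK 39 < 72
  | [], _ => by
    refine ⟨?_, by norm_num⟩
    have h : sr 1 = 39 := by decide +kernel
    rw [List.foldr_nil, ← h]
    exact (xg_mem_sr 2 1 (one_pow 2)).1
  | k :: l, h => by
    obtain ⟨h1, h2⟩ := word_mem l fun a ha => h a (List.mem_cons_of_mem _ ha)
    have hk := h k List.mem_cons_self
    refine ⟨?_, ?_⟩
    · rw [List.foldr_cons, ← conj_class w hK hw f hf hk h2]
      have hn := nv_mem w hK hw f hf (k := k) (by omega)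
      exact mul_mem (mul_mem hn h1) (inv_mem hn)
    · exact (by decide +kernel : ∀ k < 4, ∀ r < 72, rootK k r < 72) k hk _ h2

include hK hw hf in
theorem em_mem {i : ℕ} (hi : i < 24) : xg c6 (em i) (1 : K) ∈ GG K := by
  obtain ⟨-, h1, h2⟩ := reach_ok i hi
  rw [← h2]
  exact (word_mem w hK hw f hf _ h1).1

open Classical in
/-- the images of the generators -/
noncomputable def img (i : ℕ) : ↥(GG K) :=
  if h : xg c6 (em i) (1 : K) ∈ GG K then ⟨_, h⟩ else 1

include hK hw hf in
theorem coe_img {i : ℕ} (hi : i < 24) : (img (K := K) i : GL chevE6.Idx K) = xg c6 (em i) 1 := by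
  rw [img, dif_pos (em_mem w hK hw f hf hi)]

include hK in
theorem odd_one {c : ℤ} (h : c % 2 = 1) : ((c : ℤ) : K) = 1 := by
  rw [← Int.emod_add_mul_ediv c 2, h, Int.cast_add, Int.cast_mul, show ((2 : ℤ) : K) = 0 by
    rw [Int.cast_ofNat]; exact two_zero hK]
  simp

include hK hw hf in
theorem exists_emb : ∃ φ : St →* ↥(GG K), Function.Injective φ ∧
    ∀ r < 24, (φ (sx r) : GL chevE6.Idx K) = xg c6 (em r) 1 := by
  obtain ⟨φ, hφ⟩ := E6Five14Rep.exists_hom (img (K := K))
    (fun r hr => Subtype.ext (by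
      rw [Subgroup.coe_mul, coe_img w hK hw f hf hr, Subgroup.coe_one]
      exact one_sq hK _))
    fun r hr s hs h1 h2 => by
      have h := List.all_eq_true.1 (List.all_eq_true.1 comm_data r (List.mem_range.2 hr)) s (List.mem_range.2 hs)
      simp only [Bool.or_eq_true, beq_iff_eq, h1, h2, false_or, Bool.and_eq_true, Bool.not_eq_true',
        beq_eq_false_iff_ne, List.all_eq_true, decide_eq_true_eq] at h
      obtain ⟨⟨⟨g1, g2⟩, g3⟩, g4⟩ := h
      have hneg : (-1 : K) = 1 := neg_eq_of_add_eq_zero_left (by rw [← two_mul, two_zero hK, zero_mul])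
      apply Subtype.ext
      rw [Subgroup.coe_mul, Subgroup.coe_mul, Subgroup.coe_mul, Subgroup.val_list_prod, List.map_map,
        coe_img w hK hw f hf hr, coe_img w hK hw f hf hs,
        comm_formula c6 (em_neg r hr) (em_neg s hs) g1 g2]
      congr 1
      rw [wg, ChevalleyDatum.commWord, List.map_map]
      have e : ((chevD4.commTerms r s).map fun c => em c.1).map (fun k => xg c6 k (1 : K)) =
          (chevD4.commTerms r s).map ((fun x : ↥(GG K) => (x : GL chevE6.Idx K)) ∘ fun c => img c.1) := by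
        rw [List.map_map]
        refine List.map_congr_left fun c hc => ?_
        exact (coe_img w hK hw f hf (E6Five14Rep.term_facts r hr s hs h1 h2 c hc).1).symm
      refine congrArg List.prod (Eq.trans ?_ e)
      rw [← g3, List.map_map]
      refine List.map_congr_left fun c hc => ?_
      simp only [Function.comp_apply, odd_one hK (g4 c hc), hneg, one_pow, mul_one]
  refine ⟨φ, ?_, fun r hr => by rw [hφ r hr, coe_img w hK hw f hf hr]⟩
  have := E6Five14Rep.simple
  rcases φ.normal_ker.eq_bot_or_eq_top with h | h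
  · exact (MonoidHom.ker_eq_bot_iff φ).1 h
  · exfalso
    have h0 : φ (sx 18) = 1 := by rw [← MonoidHom.mem_ker, h]; trivial
    have h1 := congrArg (fun x : ↥(GG K) => (x : GL chevE6.Idx K)) h0
    simp only [hφ 18 (by norm_num), coe_img w hK hw f hf (show 18 < 24 by norm_num), Subgroup.coe_one] at h1
    exact one_ne_zero (StBasic.xg_inj c6 (em_neg 18 (by norm_num)) (h1.trans (xg_zero c6 _).symm))

variable (φ : St →* ↥(GG K)) (hφ : ∀ r < 24, (φ (sx r) : GL chevE6.Idx K) = xg c6 (em r) 1)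

include hφ in
theorem φ_word : ∀ l : List ℕ, (∀ r ∈ l, r < 24) →
    (φ (wd l) : GL chevE6.Idx K) = ((l.map em).map fun r => xg c6 r (1 : K)).prod
  | [], _ => by simp [wd]
  | a :: l, h => by
    have ih := φ_word l fun r hr => h r (List.mem_cons_of_mem _ hr)
    simp only [wd, List.map_cons, List.prod_cons, map_mul, Subgroup.coe_mul] at ih ⊢
    rw [ih, hφ a (h a List.mem_cons_self)]

include hK hw hf in
theorem conj_list {k : ℕ} (hk : k < 4) : ∀ l : List ℕ, (∀ r ∈ l, r < 72) →
    nv w k * (l.map fun r => xg c6 r (1 : K)).prod * (nv w k)⁻¹ =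
      ((l.map (rootK k)).map fun r => xg c6 r (1 : K)).prod
  | [], _ => by simp
  | a :: l, h => by
    simp only [List.map_cons, List.prod_cons]
    rw [← conj_class w hK hw f hf hk (h a List.mem_cons_self),
      ← conj_list hk l fun r hr => h r (List.mem_cons_of_mem _ hr)]
    group

include hK hw hf hφ in
/-- the three classes of elements of order five in the subsystems fuse -/
theorem fuse {X : ℕ} (hX : X < 3) : IsConj (φ (wd (ys.getD X []))) (φ (wd (ys.getD 0 []))) := by
  have hl := word_lt.1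
  have hc : ∀ (ks : List ℕ), (∀ k ∈ ks, k < 4) → ∀ a b : ↥(GG K), ∀ l : List ℕ, (∀ r ∈ l, r < 72) →
      (a : GL chevE6.Idx K) = (l.map fun r => xg c6 r (1 : K)).prod →
      (b : GL chevE6.Idx K) = ((ks.foldr (fun k m => m.map (rootK k)) l).map fun r => xg c6 r (1 : K)).prod →
      IsConj a b := by
    intro ks hks
    suffices h : ∀ a : ↥(GG K), ∀ l : List ℕ, (∀ r ∈ l, r < 72) →
        (a : GL chevE6.Idx K) = (l.map fun r => xg c6 r (1 : K)).prod →
        ∃ b : ↥(GG K), IsConj a b ∧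
          (b : GL chevE6.Idx K) = ((ks.foldr (fun k m => m.map (rootK k)) l).map fun r => xg c6 r (1 : K)).prod ∧
          ∀ r ∈ ks.foldr (fun k m => m.map (rootK k)) l, r < 72 by
      intro a b l hl' ha hb
      obtain ⟨b', h1, h2, -⟩ := h a l hl' ha
      rwa [show b = b' from Subtype.ext (hb.trans h2.symm)]
    induction ks with
    | nil => exact fun a l hl' ha => ⟨a, IsConj.refl a, ha, hl'⟩
    | cons k ks ih =>
      intro a l hl' ha
      obtain ⟨b, h1, h2, h3⟩ := ih (fun j hj => hks j (List.mem_cons_of_mem _ hj)) a l hl' ha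
      have hk := hks k List.mem_cons_self
      have hn := nv_mem w hK hw f hf (k := k) (by omega)
      refine ⟨⟨nv w k, hn⟩ * b * (⟨nv w k, hn⟩ : ↥(GG K))⁻¹, h1.trans (isConj_iff.2 ⟨_, rfl⟩), ?_, ?_⟩
      · rw [Subgroup.coe_mul, Subgroup.coe_mul, Subgroup.coe_inv, h2, conj_list w hK hw f hf hk _ h3,
          List.foldr_cons]
      · intro r hr
        rw [List.foldr_cons, List.mem_map] at hr
        obtain ⟨r', hr', rfl⟩ := hr
        exact (by decide +kernel : ∀ k < 4, ∀ r < 72, rootK k r < 72) k hk _ (h3 r' hr')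
  have e0 : ∀ r ∈ (ys.getD 0 []).map em, r < 72 := by
    intro r hr
    obtain ⟨i, hi, rfl⟩ := List.mem_map.1 hr
    exact em_neg i (hl 0 (by norm_num) i hi)
  have key : ∀ ks : List ℕ, (∀ k ∈ ks, k < 4) →
      (ys.getD X []).map em = ks.foldr (fun k m => m.map (rootK k)) ((ys.getD 0 []).map em) →
      IsConj (φ (wd (ys.getD X []))) (φ (wd (ys.getD 0 []))) := fun ks hks he =>
    (hc ks hks _ _ _ e0 (φ_word φ hφ _ (hl 0 (by norm_num)))
      (by rw [φ_word φ hφ _ (hl X hX), he])).symm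
  interval_cases X
  · exact IsConj.refl _
  · exact key [2] (by simp) y_images.1
  · exact key [3, 2] (by simp) (by rw [y_images.2]; simp [List.map_map, Function.comp_def])

/-- powers of a word -/
def wpow (n : ℕ) (l : List ℕ) : List ℕ := (List.replicate n l).flatten

theorem wd_append (a b : List ℕ) : wd (a ++ b) = wd a * wd b := by simp [wd]

theorem wd_wpow (n : ℕ) (l : List ℕ) : wd (wpow n l) = wd l ^ n := by
  induction n with
  | zero => simp [wpow, wd]
  | succ n ih => rw [wpow, List.replicate_succ, List.flatten_cons, wd_append, pow_succ', ← ih, wpow]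

/-- the word of a line -/
def lineW (k : ℕ) : List ℕ := if k = 0 then ys.getD 0 [] else y2 ++ wpow (k - 1) (ys.getD 0 [])

theorem data_five : (∀ v < 256, E6Five14Rep.ev (wpow 5 (ys.getD 0 [])) v = v) ∧
    (∀ v < 256, E6Five14Rep.ev (wpow 5 y2) v = v) ∧
    (∀ v < 256, E6Five14Rep.ev (ys.getD 0 [] ++ y2) v = E6Five14Rep.ev (y2 ++ ys.getD 0 []) v) ∧
    (∀ v < 256, E6Five14Rep.ev ((sqs.getD 0 []) ++ ys.getD 0 []) v =
      E6Five14Rep.ev (wpow 2 (ys.getD 0 []) ++ sqs.getD 0 []) v) := by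
  decide +kernel

theorem data_lines : ∀ k < 6, (lines.getD k (0, [])).1 < 3 ∧ ∀ v < 256,
    E6Five14Rep.ev (lineW k ++ (lines.getD k (0, [])).2) v =
      E6Five14Rep.ev ((lines.getD k (0, [])).2 ++ ys.getD (lines.getD k (0, [])).1 []) v := by
  decide +kernel

theorem data_indep : ∀ j < 5, ∃ v < 256, E6Five14Rep.ev (wpow j (ys.getD 0 [])) v ≠ E6Five14Rep.ev y2 v := by
  decide +kernel

theorem data_ne : ∃ v < 256, E6Five14Rep.ev (ys.getD 0 []) v ≠ v := by decide +kernel

theorem flat_lt (n : ℕ) (l : List ℕ) (h : ∀ r ∈ l, r < 24) : ∀ r ∈ wpow n l, r < 24 := by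
  intro r hr
  obtain ⟨a, ha, hra⟩ := List.mem_flatten.1 hr
  rw [List.eq_of_mem_replicate ha] at hra
  exact h r hra

theorem wd_eq_of {a b : List ℕ} (ha : ∀ r ∈ a, r < 24) (hb : ∀ r ∈ b, r < 24)
    (h : ∀ v < 256, E6Five14Rep.ev a v = E6Five14Rep.ev b v) : wd a = wd b := E6Five14Rep.wd_eq ha hb h

theorem app_lt {a b : List ℕ} (ha : ∀ r ∈ a, r < 24) (hb : ∀ r ∈ b, r < 24) : ∀ r ∈ a ++ b, r < 24 :=
  fun r hr => (List.mem_append.1 hr).elim (ha r) (hb r)

theorem isConj_of_mul {G : Type*} [Group G] {x y g : G} (h : x * g = g * y) : IsConj x y :=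
  (isConj_iff.2 ⟨g, by rw [← h, mul_inv_cancel_right]⟩).symm

include hK hw hf in
/-- The main theorem on classes. -/
theorem all_conj : ∃ y : ↥(GG K), orderOf y = 5 ∧ ∀ x : ↥(GG K), orderOf x = 5 → IsConj x y := by
  obtain ⟨φ, hinj, hφ⟩ := exists_emb w hK hw f hf
  obtain ⟨hy, h2, hl, hs⟩ := word_lt
  have hy0 := hy 0 (by norm_num)
  obtain ⟨d1, d2, d3, d4⟩ := data_five
  set A := wd (ys.getD 0 []) with hA
  set B := wd y2 with hB
  have nil_lt : ∀ r ∈ ([] : List ℕ), r < 24 := fun r hr => absurd hr List.not_mem_nil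
  have hA5 : A ^ 5 = 1 := by
    rw [hA, ← wd_wpow]; exact wd_eq_of (flat_lt 5 _ hy0) nil_lt d1
  have hB5 : B ^ 5 = 1 := by
    rw [hB, ← wd_wpow]; exact wd_eq_of (flat_lt 5 _ h2) nil_lt d2
  have hAB : A * B = B * A := by
    rw [hA, hB, ← wd_append, ← wd_append]; exact wd_eq_of (app_lt hy0 h2) (app_lt h2 hy0) d3
  have hA1 : A ≠ 1 := by
    obtain ⟨v, hv, hne⟩ := data_ne
    exact E6Five14Rep.wd_ne hy0 nil_lt v hv hne
  have hBA : ∀ j : ℕ, A ^ j ≠ B := fun j => by
    rw [← pow_mod_orderOf]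
    have hj : j % orderOf A < 5 := by
      have h5 := orderOf_dvd_of_pow_eq_one hA5
      exact lt_of_lt_of_le (Nat.mod_lt _ (Nat.pos_of_ne_zero fun h => by simp [h] at h5))
        (Nat.le_of_dvd (by norm_num) h5)
    obtain ⟨v, hv, hne⟩ := data_indep _ hj
    rw [hA, hB, ← wd_wpow]
    exact E6Five14Rep.wd_ne (flat_lt _ _ hy0) h2 v hv hne
  set a := φ A with ha
  set b := φ B with hb
  have hord : ∀ x : ↥(GG K), x ≠ 1 → x ^ 5 = 1 → orderOf x = 5 := fun x h1 h5 => by
    haveI : Fact (Nat.Prime 5) := ⟨by norm_num⟩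
    exact orderOf_eq_prime h5 h1
  have ha1 : a ≠ 1 := fun h => hA1 (hinj (h.trans (map_one φ).symm))
  have ha5 : a ^ 5 = 1 := by rw [ha, ← map_pow, hA5, map_one]
  have hb5 : b ^ 5 = 1 := by rw [hb, ← map_pow, hB5, map_one]
  have hab : Commute a b := by
    show a * b = b * a
    rw [ha, hb, ← map_mul, hAB, map_mul]
  have hbna : b ∉ Subgroup.zpowers a := by
    intro h
    obtain ⟨j, hj⟩ := (Submonoid.mem_powers_iff _ _).1
      (mem_powers_iff_mem_zpowers.2 h)
    exact hBA j (hinj (by rw [map_pow, ← ha, ← hb]; exact hj))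
  refine ⟨a, hord a ha1 ha5, fun x hx => ?_⟩
  -- squares
  have hsq : IsConj (a ^ 2) a := by
    have e : wd (sqs.getD 0 []) * A = A ^ 2 * wd (sqs.getD 0 []) := by
      rw [hA, ← wd_wpow, ← wd_append, ← wd_append]
      exact wd_eq_of (app_lt (hs 0 (by norm_num)) hy0) (app_lt (flat_lt 2 _ hy0) (hs 0 (by norm_num))) d4
    refine isConj_of_mul (g := φ (wd (sqs.getD 0 []))) ?_
    rw [ha, ← map_pow, ← map_mul, ← map_mul, e]
  have hpow : ∀ m, 1 ≤ m → m < 5 → IsConj (a ^ m) a := by
    intro m h1 h5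
    have h4 : IsConj (a ^ 4) a := by
      have := hsq.pow 2
      rw [← pow_mul] at this
      exact this.trans hsq
    have h8 : IsConj (a ^ 3) a := by
      have := h4.pow 2
      rw [← pow_mul, show 4 * 2 = 3 + 5 from rfl, pow_add, ha5, mul_one] at this
      exact this.trans hsq
    interval_cases m
    · rw [pow_one]
    exacts [hsq, h8, h4]
  have hline : ∀ k < 6, IsConj (φ (wd (lineW k))) a := by
    intro k hk
    obtain ⟨hX, hd⟩ := data_lines k hk
    have hlw : ∀ r ∈ lineW k, r < 24 := by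
      rw [lineW]; split
      · exact hy0
      · exact app_lt h2 (flat_lt _ _ hy0)
    have hgl := hl k hk
    have e := wd_eq_of (app_lt hlw hgl) (app_lt hgl (hy _ hX)) hd
    refine IsConj.trans ?_ (fuse w hK hw f hf φ hφ hX)
    refine isConj_of_mul (g := φ (wd (lines.getD k (0, [])).2)) ?_
    rw [← map_mul, ← map_mul, ← wd_append, ← wd_append, e]
  have hP : ∀ i j : ℕ, a ^ i * b ^ j ≠ 1 → IsConj (a ^ i * b ^ j) a := by
    intro i j hne
    rw [← pow_mod_orderOf a i, ← pow_mod_orderOf b j] at hne ⊢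
    rw [hord a ha1 ha5] at hne ⊢
    rcases eq_or_ne b 1 with hb1 | hb1
    · exact absurd (hb1 ▸ one_mem _) hbna
    rw [hord b hb1 hb5] at hne ⊢
    set i' := i % 5
    set j' := j % 5
    have hi : i' < 5 := Nat.mod_lt _ (by norm_num)
    have hj : j' < 5 := Nat.mod_lt _ (by norm_num)
    rcases Nat.eq_zero_or_pos j' with hj0 | hj0
    · rw [hj0, pow_zero, mul_one] at hne ⊢
      refine hpow i' (Nat.pos_of_ne_zero fun h => hne (by rw [h, pow_zero])) hi
    obtain ⟨k, hk, hkj⟩ : ∃ k < 5, k * j' % 5 = i' :=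
      (by decide : ∀ i < 5, ∀ j < 5, 0 < j → ∃ k < 5, k * j % 5 = i) i' hi j' hj hj0
    have e : (b * a ^ k) ^ j' = a ^ i' * b ^ j' := by
      rw [(hab.symm.pow_right k).mul_pow, ← pow_mul, (hab.symm.pow_pow j' (k * j')).eq, ← pow_mod_orderOf a,
        hord a ha1 ha5, hkj]
    have hl' : IsConj (b * a ^ k) a := by
      have := hline (k + 1) (by omega)
      rwa [lineW, if_neg (by omega), Nat.add_sub_cancel, wd_append, wd_wpow, map_mul, map_pow, ← hA, ← hB,
        ← ha, ← hb] at this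
    rw [← e]
    exact (hl'.pow j').trans (hpow j' hj0 hj)
  -- Sylow
  haveI : Fact (Nat.Prime 5) := ⟨by norm_num⟩
  haveI : Finite ↥(GG K) := inferInstance
  have hb1 : b ≠ 1 := fun h => hbna (h ▸ one_mem _)
  let μ := MonoidHom.noncommCoprod (Subgroup.zpowers a).subtype (Subgroup.zpowers b).subtype (by
    rintro ⟨_, m, rfl⟩ ⟨_, n, rfl⟩
    exact hab.zpow_zpow m n)
  have hμ : Function.Injective μ := by
    rw [← MonoidHom.ker_eq_bot_iff, eq_bot_iff]
    rintro ⟨⟨p, hp⟩, ⟨q, hq⟩⟩ h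
    have h' : p * q = 1 := h
    have hq1 : q = 1 := by
      by_contra hne
      have hgen : Subgroup.zpowers q = Subgroup.zpowers b :=
        Subgroup.eq_of_le_of_card_ge (Subgroup.zpowers_le.2 hq) (by
          rw [Nat.card_zpowers, Nat.card_zpowers, hord b hb1 hb5]
          obtain ⟨n, rfl⟩ := Subgroup.mem_zpowers_iff.1 hq
          rw [hord _ hne (by rw [← zpow_natCast, zpow_comm, zpow_natCast, hb5, one_zpow])])
      refine hbna ?_
      have hqa : q ∈ Subgroup.zpowers a := by rw [eq_inv_of_mul_eq_one_right h']; exact inv_mem hp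
      exact Subgroup.zpowers_le.2 hqa (hgen.symm ▸ Subgroup.mem_zpowers b)
    rw [hq1, mul_one] at h'
    simp [Prod.ext_iff, Subtype.ext_iff, hq1, h']
  have hcard : Nat.card μ.range = 5 ^ 2 := by
    rw [← Nat.card_congr (MonoidHom.ofInjective hμ).toEquiv, Nat.card_prod, Nat.card_zpowers, Nat.card_zpowers,
      hord a ha1 ha5, hord b hb1 hb5]
    norm_num
  have hG := TwistedE6.card_group f hf hK
  norm_num at hG
  have hfac : (Nat.card ↥(GG K)).factorization 5 = 2 := by
    have hN : Nat.card ↥(GG K) = 76532479683774853939200 := by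
      show Nat.card ↥(twistedE6 K 2) = _
      omega
    obtain ⟨m, hm, hcardG⟩ : ∃ m, ¬ 5 ∣ m ∧ Nat.card ↥(GG K) = 5 ^ 2 * m :=
      ⟨3061299187350994157568, by norm_num, by rw [hN]; norm_num⟩
    rw [hcardG, Nat.factorization_mul (by norm_num) (fun h : m = 0 => hm (by simp [h])), Finsupp.add_apply,
      Nat.Prime.factorization_pow (by norm_num), Finsupp.single_eq_same,
      Nat.factorization_eq_zero_of_not_dvd hm]
  let P : Sylow 5 ↥(GG K) := Sylow.ofCard μ.range (by rw [hcard, hfac])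
  have hxp : IsPGroup 5 (Subgroup.zpowers x) := IsPGroup.of_card (n := 1) (by rw [Nat.card_zpowers, hx, pow_one])
  obtain ⟨Q, hQ⟩ := hxp.exists_le_sylow
  obtain ⟨g, hg⟩ := MulAction.exists_smul_eq ↥(GG K) Q P
  have hgx : g * x * g⁻¹ ∈ μ.range := by
    have : g * x * g⁻¹ ∈ ((g • Q : Sylow 5 ↥(GG K)) : Subgroup ↥(GG K)) := by
      rw [Sylow.coe_subgroup_smul]
      exact Subgroup.smul_mem_pointwise_smul x (MulAut.conj g) _ (hQ (Subgroup.mem_zpowers x))
    rw [hg] at this
    exact this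
  obtain ⟨⟨⟨p, hp⟩, ⟨q, hq⟩⟩, he⟩ := hgx
  have he' : p * q = g * x * g⁻¹ := he
  obtain ⟨i, hi⟩ := (Submonoid.mem_powers_iff _ _).1 (mem_powers_iff_mem_zpowers.2 hp)
  obtain ⟨j, hj⟩ := (Submonoid.mem_powers_iff _ _).1 (mem_powers_iff_mem_zpowers.2 hq)
  have hne : g * x * g⁻¹ ≠ 1 := fun h => by
    rw [conj_eq_one_iff] at h
    rw [h, orderOf_one] at hx
    norm_num at hx
  refine (isConj_iff.2 ⟨g, rfl⟩).trans ?_
  rw [← he', ← hi, ← hj] at hne ⊢
  exact hP i j hne

end Cfsg.Agent.E6Five14Class
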