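import Mathlib

/-!
Tables for the elements of order five: the eight dimensional model of the roots of type D4, conjugacy words
and the positions of the roots inside type E6.
-/

set_option autoImplicit false

namespace Cfsg.Agent.E6Five14Data

/-- the weights moved by a root element -/
def moves : List ((ℕ × ℕ) × (ℕ × ℕ)) := [((1, 4), (0, 5)), ((2, 4), (0, 6)), ((7, 4), (0, 3)), ((3, 4), (0, 7)), ((6, 4), (0, 2)), ((5, 4), (0, 1)), ((2, 5), (1, 6)), ((7, 5), (1, 3)), ((3, 5), (1, 7)), ((6, 5), (1, 2)), ((7, 6), (2, 3)), ((3, 6), (2, 7)), ((7, 2), (6, 3)), ((3, 2), (6, 7)), ((2, 1), (5, 6)), ((7, 1), (5, 3)), ((3, 1), (5, 7)), ((6, 1), (5, 2)), ((1, 0), (4, 5)), ((2, 0), (4, 6)), ((7, 0), (4, 3)), ((3, 0), (4, 7)), ((6, 0), (4, 2)), ((5, 0), (4, 1))]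

/-- the roots of type D4 inside E6 -/
def emb : List ℕ := [0, 1, 18, 6, 24, 32, 2, 20, 8, 25, 27, 11, 60, 44, 46, 63, 51, 69, 39, 47, 65, 53, 70, 71]

/-- elements of order five in three subsystems of type A3 -/
def ys : List (List ℕ) := [[18, 14, 13, 5, 9, 10], [18, 14, 12, 5, 9, 11], [13, 14, 12, 10, 9, 11]]

/-- a second element of order five -/
def y2 : List ℕ := [12, 11, 14, 9, 11, 12, 5, 18, 13, 14, 12, 10, 9, 11, 18, 5, 12, 11, 9, 14, 11, 12]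

/-- conjugacy of the six lines -/
def lines : List (ℕ × List ℕ) := [(0, []), (2, [12, 11, 14, 9, 11, 12, 5, 18]), (0, [12, 14, 13, 14, 18, 5, 9, 11, 12, 9, 5, 18]), (2, [10, 13, 18, 14, 12, 11, 9, 10, 14, 5, 18]), (1, [9, 10, 9, 14, 12, 11, 14, 13, 5, 9, 18, 14, 13, 10, 18]), (1, [14, 12, 18, 14, 13, 10, 9, 18, 5, 9, 11, 9, 10, 14, 9, 18])]

/-- squares -/
def sqs : List (List ℕ) := [[13, 9, 18, 14, 5], [12, 9, 18, 14, 5], [12, 13, 9, 10, 14]]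

/-- class words from the root 39 to each root -/
def reach : List (List ℕ) := [[0, 1, 3, 2, 1, 3, 0, 1],
  [1, 3, 2, 1, 3, 0, 1],
  [1, 3, 0, 1],
  [2, 1, 3, 0, 1],
  [0, 1],
  [1],
  [3, 2, 1, 3, 0, 1],
  [3, 0, 1],
  [2, 3, 0, 1],
  [0, 1, 0],
  [3, 1],
  [2, 3, 1],
  [2, 3],
  [3],
  [1, 0],
  [2, 3, 0],
  [3, 0],
  [3, 2, 1, 3, 0],
  [],
  [0],
  [2, 1, 3, 0],
  [1, 3, 0],
  [1, 3, 2, 1, 3, 0],
  [0, 1, 3, 2, 1, 3, 0]]

end Cfsg.Agent.E6Five14Data
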