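import Cfsg.Agent.Lib.TwistedCore

/-!
A group of fixed points of a twist given with representatives for the classes of fundamental roots: factorisation
of the fixed parts of the `U_w`, the normal form, the order, the map onto the fixed Weyl group.
-/

set_option autoImplicit false
set_option linter.unusedSectionVars false

namespace Cfsg.Agent.TwistedCore

open Cfsg.Lie Cfsg.Agent.ChevalleyCert Cfsg.Agent.ChevalleyCore Cfsg.Agent.ChevalleyRoots Cfsg.Agent.ChevalleyTorus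
  Cfsg.Agent.ChevWeyl Cfsg.Agent.ChevBruhat Cfsg.Agent.ChevBruhatInstance

variable {D : ChevalleyDatum} {C : Cert D} {F : Type*} [Field F]

namespace Twist

variable (T : Twist C F)

/-- the element of the Weyl group of a word -/
def wd (l : List (Fin D.rank)) : T.X.W := (l.map T.X.C.simple).prod

/-- the action of a word on root indices -/
def wact' (D : ChevalleyDatum) (l : List (Fin D.rank)) (r : ℕ) : ℕ := l.foldr (fun i x => D.reflectRoot i x) r

lemma img_wd (l : List (Fin D.rank)) {r : ℕ} (hr : r < D.nroots) : T.X.img (T.wd l) r = wact' D l r := by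
  induction l with
  | nil => simp [wd, wact']
  | cons i l ih =>
    have h : T.X.img (T.wd l) r < D.nroots := T.X.img_lt _ hr
    rw [wd, List.map_cons, List.prod_cons, T.X.img_mul]
    rw [wd] at ih h
    rw [T.X.img_simple i h, ih]
    rfl

lemma wd_mul_self {l : List (Fin D.rank)} (h : ∀ r < D.nroots, wact' D l (wact' D l r) = r) :
    T.wd l * T.wd l = 1 :=
  T.eq_of_img fun r hr => by
    rw [T.X.img_mul, T.X.img_one, T.img_wd l hr, T.img_wd l (by rw [← T.img_wd l hr]; exact T.X.img_lt _ hr),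
      h r hr]

lemma mem_invSet_wd (l : List (Fin D.rank)) (r : ℕ) :
    r ∈ T.X.invSet (T.wd l) ↔ D.IsPosRoot r ∧ D.IsNegRoot (wact' D l r) := by
  rw [T.X.mem_invSet]
  exact and_congr_right fun h => by rw [T.img_wd l h.1]

/-- the Weyl group element of a product of `n_p(t)` -/
lemma toW_prod_ng (l : List (Fin D.rank × Fˣ)) :
    ∃ h : (l.map fun p => ng C (D.simple p.1.val) (p.2 : F)).prod ∈ D.monomialSubgroup F,
      T.S.toW ⟨_, h⟩ = T.wd (l.map Prod.fst) := by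
  induction l with
  | nil => exact ⟨one_mem _, map_one T.S.toW⟩
  | cons p l ih =>
    obtain ⟨h, e⟩ := ih
    have hH : hg C (D.simple p.1.val) (p.2 : F) ∈ D.diagonalSubgroup F :=
      hg_mem_H C (simple_lt C p.1.isLt) p.2.ne_zero
    have h1 : ng C (D.simple p.1.val) (p.2 : F) ∈ D.monomialSubgroup F := by
      rw [ng_eq C]
      exact mul_mem (Subgroup.mem_sup_left hH) (ns_mem_N C p.1.isLt)
    have h2 : T.S.toW ⟨_, h1⟩ = T.X.C.simple p.1 := by
      rw [← T.S.toW_sN p.1, T.S.toW_eq_iff]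
      have hv : (T.S.sN p.1 : GL D.Idx F) = ng C (D.simple p.1.val) 1 := rfl
      have := T.S.conj_H ((T.S.acts_simple p.1).inv T.S) (inv_mem hH)
      rw [hv]
      show (ng C (D.simple p.1.val) (p.2 : F))⁻¹ * ng C (D.simple p.1.val) 1 ∈ _
      have e2 : (ng C (D.simple p.1.val) (p.2 : F))⁻¹ * ng C (D.simple p.1.val) 1 =
          (ng C (D.simple p.1.val) 1)⁻¹ * (hg C (D.simple p.1.val) (p.2 : F))⁻¹ *
            (ng C (D.simple p.1.val) (1 : F))⁻¹⁻¹ := by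
        rw [ng_eq C (D.simple p.1.val) (p.2 : F)]; group
      rw [e2]
      exact this
    simp only [List.map_cons, List.prod_cons]
    refine ⟨mul_mem h1 h, ?_⟩
    rw [show (⟨_, mul_mem h1 h⟩ : ↥(D.monomialSubgroup F)) = ⟨_, h1⟩ * ⟨_, h⟩ from rfl, map_mul, h2, e, wd, wd,
      List.map_cons, List.prod_cons]

end Twist

/-- representatives of the classes of fundamental roots in a group of fixed points -/
structure Classes (T : Twist C F) (G1 : Subgroup (GL D.Idx F)) where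
  /-- the classes -/
  κ : Type
  /-- the class of a fundamental root -/
  cls : ℕ → κ
  cls_surj : ∀ J, ∃ i, i < D.rank ∧ cls i = J
  orbit : ∀ i < D.rank, ∀ k < D.rank, cls k = cls i → ∃ n, T.ρs^[n] i = k
  /-- a word for the longest element of the class -/
  cl : κ → List (Fin D.rank)
  cl_cls : ∀ J, ∀ k ∈ cl J, cls (k : ℕ) = J
  cl_sq : ∀ J, T.wd (cl J) * T.wd (cl J) = 1
  mem_cw : ∀ J r, r ∈ T.X.invSet (T.wd (cl J)) ↔ (D.IsPosRoot r ∧ ∀ k < D.rank, cor D r k ≠ 0 → cls k = J)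
  /-- a representative -/
  cn : κ → GL D.Idx F
  cn_G1 : ∀ J, cn J ∈ G1
  cn_N : ∀ J, cn J ∈ D.monomialSubgroup F
  cn_toW : ∀ J, T.S.toW ⟨cn J, cn_N J⟩ = T.wd (cl J)
  G1_le : G1 ≤ T.Fixed
  UJ_le : ∀ J, T.UF (T.wd (cl J)) ≤ G1
  /-- the base of the orders -/
  Q : ℕ
  /-- the exponent of the orders -/
  e : ℕ
  one_lt_Q : 1 < Q
  UJ_card : ∀ J, Nat.card ↥(T.UF (T.wd (cl J))) ^ e = Q ^ T.X.inv (T.wd (cl J))

namespace Classes

variable {T : Twist C F} {G1 : Subgroup (GL D.Idx F)} (K : Classes T G1)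

/-- the longest element of a class -/
abbrev cw (J : K.κ) : T.X.W := T.wd (K.cl J)

/-- the representative in `N` -/
abbrev cnN (J : K.κ) : ↥(D.monomialSubgroup F) := ⟨K.cn J, K.cn_N J⟩

lemma cw_inv (J : K.κ) : (K.cw J)⁻¹ = K.cw J := inv_eq_of_mul_eq_one_right (K.cl_sq J)

lemma cw_fix (J : K.κ) : K.cw J ∈ T.fixW := by
  show T.wd (K.cl J) ∈ _
  rw [← K.cn_toW J]
  exact T.toW_fix_of_fixed (K.G1_le (K.cn_G1 J)).2

lemma simple_mem (J : K.κ) {i : ℕ} (hi : i < D.rank) (h : K.cls i = J) :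
    D.simple i ∈ T.X.invSet (K.cw J) := by
  rw [K.mem_cw]
  refine ⟨T.X.simple_pos hi, fun k hk h0 => ?_⟩
  rw [T.X.cor_simple hi hk] at h0
  split at h0
  · rename_i hki; subst hki; exact h
  · exact absurd rfl h0

lemma cw_ne_one (J : K.κ) : K.cw J ≠ 1 := by
  intro h
  obtain ⟨i, hi, hiJ⟩ := K.cls_surj J
  have := K.simple_mem J hi hiJ
  rw [h, T.X.mem_invSet, T.X.img_one] at this
  exact T.X.not_pos_and_neg this.1 this.2

lemma inv_cw_pos (J : K.κ) : 0 < T.X.inv (K.cw J) :=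
  Nat.pos_of_ne_zero fun h => K.cw_ne_one J (T.X.eq_one_of_inv_eq_zero h)

lemma exists_class_descent {w : T.X.W} (hw : w ∈ T.fixW) (h1 : w ≠ 1) :
    ∃ (J : K.κ) (i : ℕ), i < D.rank ∧ K.cls i = J ∧ D.simple i ∈ T.X.invSet w ∧
      T.X.invSet (K.cw J) ⊆ T.X.invSet w := by
  obtain ⟨i, hi⟩ := T.X.exists_descent (w := w⁻¹) (by simpa using h1)
  rw [inv_inv] at hi
  refine ⟨K.cls i, i, i.isLt, rfl, T.X.mem_invSet.mpr ⟨T.X.simple_pos i.isLt, hi⟩, ?_⟩
  have hit : ∀ n, T.ρs^[n] i.val < D.rank ∧ D.IsNegRoot (T.X.img w (D.simple (T.ρs^[n] i.val))) := by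
    intro n
    induction n with
    | zero => exact ⟨i.isLt, hi⟩
    | succ n ih =>
      rw [Function.iterate_succ_apply']
      refine ⟨(T.ρs_lt _ ih.1).1, ?_⟩
      rw [← T.ρ_simple _ ih.1, hw _ (T.X.simple_lt ih.1)]
      exact T.ρ_isNeg ih.2
  intro r hr
  obtain ⟨hpos, hsupp⟩ := (K.mem_cw _ r).mp hr
  rw [T.X.mem_invSet]
  refine ⟨hpos, ?_⟩
  rw [T.X.neg_iff (T.X.img_lt w hpos.1)]
  intro j hj
  rw [T.X.cor_img w hpos.1 j hj]
  refine Finset.sum_nonpos fun k hk => ?_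
  have hk := Finset.mem_range.mp hk
  by_cases h0 : cor D r k = 0
  · simp [h0]
  · obtain ⟨n, hn⟩ := K.orbit i i.isLt k hk (hsupp k hk h0)
    have := (hit n).2
    rw [hn] at this
    exact mul_nonpos_of_nonneg_of_nonpos ((T.X.pos_iff hpos.1).mp hpos k hk)
      ((T.X.neg_iff this.1).mp this j hj)

lemma step_sets {w : T.X.W} {J : K.κ} (hsub : T.X.invSet (K.cw J) ⊆ T.X.invSet w) :
    (∀ r ∈ T.X.invSet (w * K.cw J), T.X.img (K.cw J) r ∈ T.X.invSet w) ∧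
      T.X.inv w = T.X.inv (w * K.cw J) + T.X.inv (K.cw J) := by
  set v := K.cw J with hv
  have hvv : ∀ r, T.X.img v (T.X.img v r) = r := fun r => by
    rw [← T.X.img_mul, K.cl_sq J, T.X.img_one]
  have h1 : ∀ r ∈ T.X.invSet (w * v), D.IsPosRoot (T.X.img v r) ∧
      T.X.img v r ∈ T.X.invSet w ∧ T.X.img v r ∉ T.X.invSet v := by
    intro r hr
    rw [T.X.mem_invSet, T.X.img_mul] at hr
    have hlt : T.X.img v r < D.nroots := T.X.img_lt v hr.1.1
    have hpos : D.IsPosRoot (T.X.img v r) := by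
      refine (T.X.pos_or_neg hlt).resolve_right fun hn => ?_
      have hnp : D.IsPosRoot (D.neg (T.X.img v r)) := (T.X.pos_neg_iff hlt).mpr hn
      have hmem : D.neg (T.X.img v r) ∈ T.X.invSet v := by
        rw [T.X.mem_invSet]
        refine ⟨hnp, ?_⟩
        rw [T.X.img_neg v hlt, hvv, ← T.X.pos_neg_iff (T.X.root_facts hr.1.1).1,
          (T.X.root_facts hr.1.1).2.1]
        exact hr.1
      have h3 := (T.X.mem_invSet.mp (hsub hmem)).2
      rw [T.X.img_neg w hlt, ← T.X.pos_neg_iff (T.X.root_facts hr.2.1).1, (T.X.root_facts hr.2.1).2.1] at h3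
      exact T.X.not_pos_and_neg h3 hr.2
    refine ⟨hpos, T.X.mem_invSet.mpr ⟨hpos, hr.2⟩, fun h => ?_⟩
    rw [T.X.mem_invSet, hvv] at h
    exact T.X.not_pos_and_neg hr.1 h.2
  refine ⟨fun r hr => (h1 r hr).2.1, ?_⟩
  have hset : T.X.invSet w \ T.X.invSet v = (T.X.invSet (w * v)).image (T.X.img v) := by
    ext s
    rw [Finset.mem_sdiff, Finset.mem_image]
    constructor
    · rintro ⟨hs, hs'⟩
      have hs1 := T.X.mem_invSet.mp hs
      refine ⟨T.X.img v s, T.X.mem_invSet.mpr ⟨?_, ?_⟩, hvv s⟩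
      · exact (T.X.pos_or_neg (T.X.img_lt v hs1.1.1)).resolve_right fun hn =>
          hs' (T.X.mem_invSet.mpr ⟨hs1.1, hn⟩)
      · rw [T.X.img_mul, hvv]; exact hs1.2
    · rintro ⟨r, hr, rfl⟩
      exact (h1 r hr).2
  have hcard := congrArg Finset.card hset
  rw [Finset.card_sdiff_of_subset hsub,
    Finset.card_image_of_injective _ (fun a b h => T.X.img_injective v h)] at hcard
  have hle := Finset.card_le_card hsub
  unfold Weyl.inv
  omega

variable [Fintype F]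

/-- `U_w` as a product along a class -/
lemma split {w : T.X.W} {J : K.κ} (hw : w ∈ T.fixW) (hsub : T.X.invSet (K.cw J) ⊆ T.X.invSet w) :
    ∃ f : ↥(T.UF (w * K.cw J)) × ↥(T.UF (K.cw J)) → ↥(T.UF w), Function.Bijective f ∧
      ∀ p, (f p : GL D.Idx F) = (K.cn J)⁻¹ * p.1 * K.cn J * p.2 := by
  classical
  obtain ⟨himg, hinv⟩ := K.step_sets hsub
  set v := K.cw J with hv
  set n := K.cn J with hn
  have hacts : T.S.Acts n⁻¹ v := by
    have := (T.S.acts_toW (K.cnN J)).inv T.S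
    rw [K.cn_toW J, show (T.wd (K.cl J))⁻¹ = v from K.cw_inv J] at this
    exact this
  have hA : ∀ u ∈ T.S.Uw (w * v), n⁻¹ * u * n ∈ T.S.Uw w := by
    intro u hu
    have : n⁻¹ * u * n⁻¹⁻¹ ∈ T.S.Uw w := by
      refine Sys.conj_closure_le (T := {g | ∃ r t, r ∈ T.X.invSet (w * v) ∧ g = T.S.xg r t}) _ ?_ hu
      rintro x ⟨r, t, hr, rfl⟩
      obtain ⟨c, -, h1, -⟩ := hacts r (T.X.mem_invSet.mp hr).1.1
      rw [h1]
      exact Subgroup.subset_closure ⟨_, _, himg r hr, rfl⟩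
    rwa [inv_inv] at this
  have hB : T.S.Uw v ≤ T.S.Uw w := by
    refine Subgroup.closure_mono ?_
    rintro g ⟨r, t, hr, rfl⟩
    exact ⟨r, t, hsub hr, rfl⟩
  let g : ↥(T.S.Uw (w * v)) × ↥(T.S.Uw v) → ↥(T.S.Uw w) := fun p =>
    ⟨n⁻¹ * p.1 * n * p.2, mul_mem (hA _ p.1.2) (hB p.2.2)⟩
  have hg : Function.Injective g := by
    rintro ⟨u, x⟩ ⟨u', x'⟩ he
    have he' : n⁻¹ * (u : GL D.Idx F) * n * x = n⁻¹ * u' * n * x' := congrArg Subtype.val he
    have hz : ((x' : GL D.Idx F) * (x : GL D.Idx F)⁻¹) ∈ T.S.Uw (T.S.toW (K.cnN J)) := by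
      rw [K.cn_toW J]
      exact mul_mem x'.2 (inv_mem x.2)
    have h1 := T.S.conj_Uw_mem_V _ hz
    have e2 : n * ((x' : GL D.Idx F) * (x : GL D.Idx F)⁻¹) * n⁻¹ = (u' : GL D.Idx F)⁻¹ * u := by
      have e3 : (x' : GL D.Idx F) = (n⁻¹ * u' * n)⁻¹ * (n⁻¹ * u * n * x) := by
        rw [he']; group
      rw [e3]; group
    rw [e2] at h1
    have h2 := Subgroup.mem_inf.mpr
      ⟨Sys.U_le_B (D := D) (F := F) (mul_mem (inv_mem (T.S.Uw_le_U _ u'.2)) (T.S.Uw_le_U _ u.2)), h1⟩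
    rw [T.S.B_inf_V, Subgroup.mem_bot, inv_mul_eq_one] at h2
    obtain rfl : u' = u := Subtype.ext h2
    rw [Subtype.ext (mul_left_cancel he')]
  have hcard : Nat.card (↥(T.S.Uw (w * v)) × ↥(T.S.Uw v)) = Nat.card ↥(T.S.Uw w) := by
    rw [Nat.card_prod, T.S.card_Uw, T.S.card_Uw, T.S.card_Uw, ← pow_add, hinv]
  have hgb : Function.Bijective g := hg.bijective_of_nat_card_le hcard.ge
  have hnf := K.G1_le (K.cn_G1 J)
  have hwv : w * v ∈ T.fixW := mul_mem hw (K.cw_fix J)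
  refine ⟨fun p => ⟨n⁻¹ * p.1 * n * p.2, (g (⟨p.1, p.1.2.1⟩, ⟨p.2, p.2.2.1⟩)).2,
    Subgroup.mul_mem _ (Subgroup.mul_mem _ (Subgroup.mul_mem _ (Subgroup.inv_mem _ hnf) p.1.2.2) hnf) p.2.2.2⟩, ⟨?_, ?_⟩, fun p => rfl⟩
  · rintro ⟨u, x⟩ ⟨u', x'⟩ he
    have := @hg (⟨u, u.2.1⟩, ⟨x, x.2.1⟩) (⟨u', u'.2.1⟩, ⟨x', x'.2.1⟩) (Subtype.ext (congrArg Subtype.val he :))
    simp only [Prod.mk.injEq] at this
    exact Prod.ext (Subtype.ext (congrArg Subtype.val this.1 :)) (Subtype.ext (congrArg Subtype.val this.2 :))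
  · rintro ⟨y, hy, hyf⟩
    obtain ⟨⟨⟨u, hu⟩, ⟨x, hx⟩⟩, hp⟩ := hgb.surjective ⟨y, hy⟩
    have hp' : n⁻¹ * u * n * x = y := congrArg Subtype.val hp
    have hug := T.Uw_le_group _ hu
    have hxg := T.Uw_le_group _ hx
    have hng : n ∈ D.group F := hnf.1
    have e := hyf.2
    rw [← hp', T.sg_mul (mul_mem (mul_mem (inv_mem hng) hug) hng) hxg,
      T.sg_mul (mul_mem (inv_mem hng) hug) hng, T.sg_mul (inv_mem hng) hug, T.sg_inv hng, hnf.2] at e
    have := @hg (⟨T.sg u, T.sg_Uw hwv hu⟩, ⟨T.sg x, T.sg_Uw (K.cw_fix J) hx⟩) (⟨u, hu⟩, ⟨x, hx⟩) (Subtype.ext e)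
    simp only [Prod.mk.injEq, Subtype.mk.injEq] at this
    exact ⟨(⟨u, hu, hug, this.1⟩, ⟨x, hx, hxg, this.2⟩), Subtype.ext hp'⟩

/-- the fixed parts of the `U_w` lie in the group, and their orders multiply; representatives exist -/
lemma main {w : T.X.W} (hw : w ∈ T.fixW) :
    T.UF w ≤ G1 ∧ Nat.card ↥(T.UF w) ^ K.e = K.Q ^ T.X.inv w ∧
      ∃ n : ↥(D.monomialSubgroup F), (n : GL D.Idx F) ∈ Subgroup.closure (Set.range K.cn) ∧ T.S.toW n = w := by
  classical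
  suffices h : ∀ k, ∀ w : T.X.W, w ∈ T.fixW → T.X.inv w = k → T.UF w ≤ G1 ∧
      Nat.card ↥(T.UF w) ^ K.e = K.Q ^ T.X.inv w ∧
      ∃ n : ↥(D.monomialSubgroup F), (n : GL D.Idx F) ∈ Subgroup.closure (Set.range K.cn) ∧ T.S.toW n = w from
    h _ w hw rfl
  intro k
  induction k using Nat.strong_induction_on with
  | _ k ih =>
    intro w hw hk
    by_cases h1 : w = 1
    · subst h1
      have hbot : T.UF 1 = ⊥ := by
        rw [eq_bot_iff]
        refine inf_le_left.trans ?_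
        rw [Sys.Uw, Subgroup.closure_le]
        rintro g ⟨r, t, hr, -⟩
        rw [T.X.mem_invSet, T.X.img_one] at hr
        exact absurd hr.2 (T.X.not_pos_and_neg hr.1)
      have hinv0 : T.X.inv (1 : T.X.W) = 0 := T.X.inv_eq_zero_iff.mpr rfl
      exact ⟨by rw [hbot]; exact bot_le, by rw [hbot, hinv0]; simp, 1, one_mem _, map_one _⟩
    obtain ⟨J, -, -, -, -, hsub⟩ := K.exists_class_descent hw h1
    obtain ⟨-, hinv⟩ := K.step_sets hsub
    have hpos := K.inv_cw_pos J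
    obtain ⟨hle, hcard, n, hn, hnw⟩ :=
      ih (T.X.inv (w * K.cw J)) (by omega) (w * K.cw J) (mul_mem hw (K.cw_fix J)) rfl
    obtain ⟨f, hf, hfe⟩ := K.split hw hsub
    refine ⟨fun y hy => ?_, ?_, n * K.cnN J, mul_mem hn (Subgroup.subset_closure ⟨J, rfl⟩), ?_⟩
    · obtain ⟨p, hp⟩ := hf.surjective ⟨y, hy⟩
      have := congrArg Subtype.val hp
      rw [hfe] at this
      rw [show y = _ from this.symm]
      exact mul_mem (mul_mem (mul_mem (inv_mem (K.cn_G1 J)) (hle p.1.2)) (K.cn_G1 J)) (K.UJ_le J p.2.2)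
    · rw [← Nat.card_eq_of_bijective f hf, Nat.card_prod, mul_pow, hcard, K.UJ_card J, ← pow_add, hinv]
    · rw [map_mul, hnw, K.cn_toW J, mul_assoc, K.cl_sq J, mul_one]

lemma closure_cn_le : Subgroup.closure (Set.range K.cn) ≤ G1 :=
  (Subgroup.closure_le _).mpr (Set.range_subset_iff.mpr K.cn_G1)

include K in
lemma exists_rep {w : T.X.W} (hw : w ∈ T.fixW) :
    ∃ n : ↥(D.monomialSubgroup F), (n : GL D.Idx F) ∈ G1 ∧ T.S.toW n = w := by
  obtain ⟨-, -, n, hn, e⟩ := K.main hw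
  exact ⟨n, K.closure_cn_le hn, e⟩

include K in
lemma UF_le {w : T.X.W} (hw : w ∈ T.fixW) : T.UF w ≤ G1 := (K.main hw).1

include K in
lemma G1_le_group : G1 ≤ D.group F := K.G1_le.trans T.Fixed_le

include K in
lemma toW_fix {n : ↥(D.monomialSubgroup F)} (hn : (n : GL D.Idx F) ∈ G1) : T.S.toW n ∈ T.fixW :=
  T.toW_fix_of_fixed (K.G1_le hn).2

include K in
/-- `U ⊓ G¹` is the fixed part of `U` -/
lemma U1_eq {w0 : T.X.W} (hw0 : w0 ∈ T.fixW) (hU : D.posUnipotent F = T.S.Uw w0) :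
    D.posUnipotent F ⊓ G1 = T.UF w0 := by
  refine le_antisymm (fun u hu => ⟨hU ▸ hu.1, K.G1_le hu.2⟩) fun u hu => ⟨hU ▸ hu.1, K.UF_le hw0 hu⟩

include K in
lemma fixed_U_le {u : GL D.Idx F} (hu : u ∈ D.posUnipotent F) (hf : u ∈ T.Fixed) : u ∈ G1 := by
  obtain ⟨w0, hw0, -, hU⟩ := T.exists_w0_fix
  exact K.UF_le hw0 ⟨hU ▸ hu, hf⟩

include K in
lemma mem_B1 {b : GL D.Idx F} (hb : b ∈ D.borelSubgroup F ⊓ G1) :
    ∃ h ∈ D.diagonalSubgroup F ⊓ G1, ∃ u ∈ D.posUnipotent F ⊓ G1, b = h * u := by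
  obtain ⟨h, hh, u, hu, rfl⟩ := T.S.mem_B_iff.mp hb.1
  obtain ⟨h1, h2⟩ := T.HU_fixed hh hu (K.G1_le hb.2)
  have hu1 := K.fixed_U_le hu h2
  refine ⟨h, ⟨hh, ?_⟩, u, ⟨hu, hu1⟩, rfl⟩
  have := G1.mul_mem hb.2 (G1.inv_mem hu1)
  rwa [mul_inv_cancel_right] at this

include K in
/-- the normal form in the group -/
lemma exists_form1 {g : GL D.Idx F} (hg : g ∈ G1) :
    ∃ b ∈ D.borelSubgroup F ⊓ G1, ∃ n : ↥(D.monomialSubgroup F), (n : GL D.Idx F) ∈ G1 ∧
      ∃ u ∈ T.UF (T.S.toW n), g = b * n * u := by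
  obtain ⟨b, hb, n, u, hu, hfix, rfl⟩ := T.exists_fixed_form (K.G1_le hg)
  obtain ⟨m, hm, hmw⟩ := K.exists_rep hfix
  have hH : (n : GL D.Idx F) * (m : GL D.Idx F)⁻¹ ∈ D.diagonalSubgroup F := by
    have h1 := T.S.toW_eq_iff.mp hmw
    have := T.S.conj_H (T.S.acts_toW m) h1
    have e : (m : GL D.Idx F) * ((m : GL D.Idx F)⁻¹ * n) * (m : GL D.Idx F)⁻¹ =
        (n : GL D.Idx F) * (m : GL D.Idx F)⁻¹ := by group
    rwa [e] at this
  refine ⟨b * ((n : GL D.Idx F) * (m : GL D.Idx F)⁻¹), ⟨mul_mem hb (Sys.H_le_B hH), ?_⟩, m, hm, u,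
    hmw.symm ▸ hu, by group⟩
  have hu1 := K.UF_le hfix hu
  have := mul_mem (mul_mem hg (inv_mem hu1)) (inv_mem hm)
  have e : b * (n : GL D.Idx F) * u * u⁻¹ * (m : GL D.Idx F)⁻¹ = b * ((n : GL D.Idx F) * (m : GL D.Idx F)⁻¹) := by
    group
  rwa [e] at this

include K in
lemma card_B1 : Nat.card ↥(D.borelSubgroup F ⊓ G1) =
    Nat.card ↥(D.diagonalSubgroup F ⊓ G1) * Nat.card ↥(D.posUnipotent F ⊓ G1) := by
  let f : ↥(D.diagonalSubgroup F ⊓ G1) × ↥(D.posUnipotent F ⊓ G1) → ↥(D.borelSubgroup F ⊓ G1) := fun p =>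
    ⟨p.1 * p.2, mul_mem (Sys.H_le_B p.1.2.1) (Sys.U_le_B p.2.2.1), mul_mem p.1.2.2 p.2.2.2⟩
  have hf : Function.Bijective f := by
    constructor
    · rintro ⟨h, u⟩ ⟨h', u'⟩ he
      have he' : (h : GL D.Idx F) * u = h' * u' := congrArg Subtype.val he
      have h1 : (h' : GL D.Idx F)⁻¹ * h = (u' : GL D.Idx F) * (u : GL D.Idx F)⁻¹ := by
        rw [eq_mul_inv_iff_mul_eq, mul_assoc, he', inv_mul_cancel_left]
      have h2 := Subgroup.mem_inf.mpr
        ⟨Subgroup.mul_mem _ u'.2.1 (Subgroup.inv_mem _ u.2.1), h1 ▸ Subgroup.mul_mem _ (Subgroup.inv_mem _ h'.2.1) h.2.1⟩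
      rw [T.S.U_inf_H, Subgroup.mem_bot, ← h1, inv_mul_eq_one] at h2
      obtain rfl : h' = h := Subtype.ext h2
      rw [Subtype.ext (mul_left_cancel he')]
    · rintro ⟨b, hb⟩
      obtain ⟨h, hh, u, hu, rfl⟩ := K.mem_B1 hb
      exact ⟨(⟨h, hh⟩, ⟨u, hu⟩), rfl⟩
  rw [← Nat.card_eq_of_bijective f hf, Nat.card_prod]

include K in
/-- the order of the group -/
theorem card_G1 [Fintype T.fixW] :
    Nat.card ↥G1 = Nat.card ↥(D.borelSubgroup F ⊓ G1) * ∑ w : T.fixW, Nat.card ↥(T.UF (w : T.X.W)) := by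
  classical
  choose rep hrep1 hrep using fun w : T.fixW => K.exists_rep w.2
  let f : (Σ w : T.fixW, ↥(D.borelSubgroup F ⊓ G1) × ↥(T.UF (w : T.X.W))) → ↥G1 := fun p =>
    ⟨p.2.1 * rep p.1 * p.2.2, mul_mem (mul_mem p.2.1.2.2 (hrep1 p.1)) (K.UF_le p.1.2 p.2.2.2)⟩
  have hf : Function.Bijective f := by
    constructor
    · rintro ⟨w, b, u⟩ ⟨w', b', u'⟩ he
      have he' : (b : GL D.Idx F) * rep w * u = b' * rep w' * u' := congrArg Subtype.val he
      have hw := T.S.toW_unique b.2.1 b'.2.1 (Sys.U_le_B (T.S.Uw_le_U _ u.2.1))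
        (Sys.U_le_B (T.S.Uw_le_U _ u'.2.1)) he'
      rw [hrep, hrep] at hw
      obtain rfl : w = w' := Subtype.ext hw
      obtain ⟨h1, h2⟩ := T.S.form_unique (rep w) b.2.1 b'.2.1
        ((hrep w).symm ▸ u.2.1) ((hrep w).symm ▸ u'.2.1) he'
      rw [Subtype.ext h1, Subtype.ext h2]
    · rintro ⟨g, hg⟩
      obtain ⟨b, hb, n, hn, u, hu, rfl⟩ := K.exists_form1 hg
      let w : T.fixW := ⟨T.S.toW n, K.toW_fix hn⟩
      have hh : (n : GL D.Idx F) * (rep w : GL D.Idx F)⁻¹ ∈ D.borelSubgroup F := by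
        apply Sys.H_le_B
        have h1 := T.S.toW_eq_iff.mp (hrep w)
        have := T.S.conj_H (T.S.acts_toW (rep w)) h1
        have e : (rep w : GL D.Idx F) * ((rep w : GL D.Idx F)⁻¹ * n) * (rep w : GL D.Idx F)⁻¹ =
            (n : GL D.Idx F) * (rep w : GL D.Idx F)⁻¹ := by group
        rwa [e] at this
      refine ⟨⟨w, ⟨_, Subgroup.mul_mem _ hb.1 hh, Subgroup.mul_mem _ hb.2 (Subgroup.mul_mem _ hn (Subgroup.inv_mem _ (hrep1 w)))⟩, ⟨u, hu⟩⟩,
        Subtype.ext ?_⟩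
      show b * ((n : GL D.Idx F) * (rep w : GL D.Idx F)⁻¹) * (rep w : GL D.Idx F) * u = _
      group
  rw [← Nat.card_eq_of_bijective f hf, Nat.card_sigma, Finset.mul_sum]
  exact Finset.sum_congr rfl fun w _ => Nat.card_prod _ _

include K in
/-- `N¹` maps onto the fixed Weyl group with kernel `H¹` -/
theorem exists_N1_hom :
    ∃ φ : ↥(D.monomialSubgroup F ⊓ G1) →* ↥T.fixW, Function.Surjective φ ∧
      φ.ker = (D.diagonalSubgroup F ⊓ G1).subgroupOf (D.monomialSubgroup F ⊓ G1) := by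
  refine ⟨(T.S.toW.comp (Subgroup.inclusion inf_le_left)).codRestrict T.fixW
    (fun n => K.toW_fix (n := Subgroup.inclusion inf_le_left n) n.2.2), fun w => ?_, ?_⟩
  · obtain ⟨n, hn, e⟩ := K.exists_rep w.2
    exact ⟨⟨n, n.2, hn⟩, Subtype.ext e⟩
  · ext n
    rw [MonoidHom.mem_ker, Subgroup.mem_subgroupOf, Subgroup.mem_inf]
    constructor
    · intro h
      have h1 : Subgroup.inclusion inf_le_left n ∈ T.S.toW.ker := congrArg Subtype.val h
      rw [T.S.toW_ker] at h1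
      exact ⟨h1, n.2.2⟩
    · intro h
      refine Subtype.ext ?_
      show T.S.toW (Subgroup.inclusion inf_le_left n) = 1
      exact T.S.toW_ker.ge h.1

end Classes

end Cfsg.Agent.TwistedCore
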