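import Cfsg.Agent.Lib.ChevE6Twist14
import Cfsg.Agent.Lib.TwistedClasses

/-!
The stabiliser of the functional of an element of order five: the Weyl group of a subsystem of type A3.
-/

set_option autoImplicit false
set_option maxRecDepth 20000

namespace Cfsg.Agent.E6Five14Weyl

open Cfsg.Lie Cfsg.Agent.ChevalleyCert Cfsg.Agent.ChevWeyl Cfsg.Agent.ChevRootCoord68

/-- the certificate -/
abbrev C₆ := ChevalleyDataE6.cert

/-- the functional modulo five -/
def val (s : ℕ) : ℕ := ((chevE6.cartan 0 s + 2 * chevE6.cartan 5 s) % 5).toNat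

/-- the three reflections as words in fundamental ones -/
def letter : ℕ → List ℕ
  | 0 => [3]
  | 1 => [1]
  | _ => [2, 0, 4, 3, 1, 2, 3, 4, 5, 4, 3, 2, 1, 3, 4, 0, 2]

/-- the path to the third root -/
def path : List ℕ := [2, 0, 4, 3, 1, 2, 3, 4]

/-- the elements of the subgroup as words in the three reflections -/
def words : List (List ℕ) := [[], [0], [1], [2], [0, 1], [0, 2], [1, 0], [1, 2], [2, 0], [0, 1, 0], [0, 1, 2], [0, 2, 0], [1, 0, 2], [1, 2, 0], [2, 0, 1], [0, 1, 0, 2], [0, 1, 2, 0], [0, 2, 0, 1], [1, 0, 2, 0], [1, 2, 0, 1], [0, 1, 0, 2, 0], [0, 1, 2, 0, 1], [1, 0, 2, 0, 1], [0, 1, 0, 2, 0, 1]]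

/-- the reflection word of a word in the three reflections -/
def expand (m : List ℕ) : List ℕ := (m.map letter).flatten

/-- the action of a word -/
def app (l : List ℕ) (r : ℕ) : ℕ := l.foldr (fun i x => chevE6.reflectRoot i x) r


/-- the coefficients of a root coded by a number -/
def code (r : ℕ) : ℤ :=
  C₆.coef r 0 + 16 * C₆.coef r 1 + 16 ^ 2 * C₆.coef r 2 + 16 ^ 3 * C₆.coef r 3 + 16 ^ 4 * C₆.coef r 4 +
    16 ^ 5 * C₆.coef r 5

/-- the values of `val`, three bits for each root -/
def valT (s : ℕ) : ℕ := (0x265c70b84a85151300a91309c2984c97004cb8e172150a2a2600 >>> (3 * s)) % 8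

/-- the codes of the roots modulo 1999, eleven bits for each root -/
def hT (s : ℕ) : ℕ := (0x86b095e1d7224cb0e39026821e4cb9c00f0658c808015851c412c0ff245c987e920e4041fff822c44017fe820c4a771044c7066be9976d29b34367e6d09af43dff5d27b3032e83d781ea9af50df9db3b3604c79f9701e3bff52d76866a94bb031d539a >>> (11 * s)) % 2048

/-- membership in the set of the codes modulo 1999 -/
def hit (h : ℕ) : Bool :=
  Nat.beq ((0x400080000600000c000c00002000200000000000000000000000000000000000c000000002000004000400003000300000000000000100000000000000000000000000000000000000000004000000000000000400000000300000000000000100010000000000000000000600000000100000200020000190018000000000018009800004000400000800000000600000000000000000008000800000000000000c00000000200000000000000020000000000000000000000000000000000000000000800000000000000c000c0000200020000040000000030000000000000000000000000000000000040004000030003000006000010002 >>> h) % 2) 1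

/-- the coefficients of the positive roots, three bits for each -/
def posCoef (r a : ℕ) : ℕ := (0x29a44a68929224948905224a449251241449249241249009249241049040241001040001291209448051209248049200248248201208008200008249001240009000040248001200008009000040008000 >>> (18 * (r - 36) + 3 * a)) % 8

/-- the images of the fundamental roots under the words -/
def imgs : List (List ℕ) := [[56, 46, 42, 39, 37, 36], [56, 47, 43, 32, 40, 36], [56, 25, 42, 47, 37, 36], [56, 46, 5, 70, 3, 36], [56, 24, 43, 46, 40, 36], [56, 47, 5, 69, 3, 36], [56, 39, 50, 24, 48, 36], [56, 25, 5, 71, 3, 36], [56, 71, 43, 1, 40, 36], [56, 32, 50, 25, 48, 36], [56, 24, 5, 71, 3, 36], [56, 71, 42, 2, 37, 36], [56, 39, 5, 69, 3, 36], [56, 70, 50, 0, 48, 36], [56, 0, 43, 46, 40, 36], [56, 32, 5, 70, 3, 36], [56, 69, 50, 0, 48, 36], [56, 0, 42, 47, 37, 36], [56, 70, 42, 2, 37, 36], [56, 1, 50, 25, 48, 36], [56, 69, 43, 1, 40, 36], [56, 2, 50, 24, 48, 36], [56, 1, 42, 39, 37, 36], [56, 2, 43, 32, 40, 36]]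

/-- the order in which the fundamental roots are assigned, with the positive roots tested after each -/
def steps : List (ℕ × List ℕ) := [(3, [39]), (1, [46, 47]), (2, [42, 43, 50]), (0, [56, 57, 58, 61]), (4, [37, 40, 44, 48, 51, 53, 59, 62, 64, 67]), (5, [36, 38, 41, 45, 49, 52, 54, 55, 60, 63, 65, 66, 68, 69, 70, 71])]

theorem valT_eq : ∀ s < 72, valT s = val s := by decide +kernel

theorem hT_eq : ∀ s < 72, (hT s : ℤ) = code s % 1999 := by decide +kernel

theorem hit_hT : ∀ s < 72, hit (hT s) = true := by decide +kernel

theorem posCoef_eq : ∀ r < 72, 36 ≤ r → ∀ a < 6, (posCoef r a : ℤ) = C₆.coef r a := by decide +kernel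

theorem imgs_eq : (words.map fun m => (List.range 6).map fun j => app (expand m) (chevE6.simple j)) = imgs := by
  decide +kernel

/-- the roots tested at a step involve only roots assigned by then, and all are assigned at the end -/
def okSteps : List (ℕ × List ℕ) → List ℕ → Bool
  | [], done => (List.range 6).all fun j => done.contains j
  | (i, R) :: ns, done => decide (i < 6) && !(done.contains i) && (R.all fun r => decide (36 ≤ r) && decide (r < 72) &&
      (List.range 6).all fun j => (posCoef r j == 0) || j == i || done.contains j) && okSteps ns (i :: done)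

/-- the combination of assigned roots, modulo 1999 -/
def comb (L : List (ℕ × ℕ)) (r : ℕ) : ℕ := (L.map fun p => posCoef r p.1 * hT p.2).sum % 1999

/-- the search -/
def search : List (ℕ × List ℕ) → List (ℕ × ℕ) → Bool
  | [], L => let t := (List.range 6).map fun j => ((L.filter fun p => p.1 == j).map fun p => p.2).headD 0
      (!(ChevE6Twist14.orbit.contains (t.map fun c => C₆.coef c 0))) || imgs.contains t
  | (i, R) :: ns, L => (List.range 72).all fun c => (!(Nat.beq (valT c) (valT (chevE6.simple i)))) ||
      (!(R.all fun r => hit (comb ((i, c) :: L) r))) || search ns ((i, c) :: L)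

theorem steps_ok : okSteps steps [] = true := by decide +kernel

theorem search_ok : search steps [] = true := by decide +kernel

theorem orbit_one : ChevE6Twist14.orbit.contains [1, 0, 0, 0, 0, 0] = true := by decide +kernel

theorem words_lt : ∀ m ∈ words, ∀ i ∈ expand m, i < 6 := by decide +kernel

variable (X : Weyl chevE6)

/-- the images of the fundamental roots determine all images -/
theorem img_coef (w : X.W) {s : ℕ} (hs : s < chevE6.nroots) (j : Fin chevE6.rank) :
    C₆.coef (X.img w s) j.val = ∑ i : Fin chevE6.rank, C₆.coef s i.val * C₆.coef (X.img w (chevE6.simple i.val)) j.val := by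
  classical
  have e : ∀ r, ev C₆ (Pi.single j (1 : ℤ)) r = C₆.coef r j.val := fun r => by
    rw [ev, Finset.sum_eq_single j]
    · simp
    · intro b _ hb; simp [Pi.single_eq_of_ne hb]
    · intro h; exact absurd (Finset.mem_univ j) h
  rw [← e, ← ev_wact C₆ X w _ hs, ev]
  refine Finset.sum_congr rfl fun i _ => ?_
  rw [smul_eq_mul, ← e]
  congr 1


theorem img_code (w : X.W) {s : ℕ} (hs : s < 72) :
    code (X.img w s) = ∑ i : Fin chevE6.rank, C₆.coef s i.val * code (X.img w (chevE6.simple i.val)) := by
  simp only [code, mul_add, Finset.sum_add_distrib, ← mul_assoc, mul_comm (C₆.coef s _) (16 ^ _ : ℤ),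
    mul_comm (C₆.coef s _) (16 : ℤ)]
  simp only [mul_assoc, ← Finset.mul_sum]
  rw [← img_coef X w hs ⟨0, by decide⟩, ← img_coef X w hs ⟨1, by decide⟩, ← img_coef X w hs ⟨2, by decide⟩,
    ← img_coef X w hs ⟨3, by decide⟩, ← img_coef X w hs ⟨4, by decide⟩, ← img_coef X w hs ⟨5, by decide⟩]

theorem sum_emod {α : Type*} (n : ℤ) (f g : α → ℤ) : ∀ l : List α,
    (l.map fun p => f p * (g p % n)).sum % n = (l.map fun p => f p * g p).sum % n
  | [] => rfl
  | p :: l => by
    simp only [List.map_cons, List.sum_cons]
    rw [Int.add_emod, sum_emod n f g l, Int.mul_emod, Int.emod_emod, ← Int.mul_emod, ← Int.add_emod]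

theorem sim_lt : ∀ i < 6, chevE6.simple i < 72 := by decide +kernel

theorem search_sound (w : X.W) (hval : ∀ r < 72, val (X.img w r) = val r) :
    ∀ (ns : List (ℕ × List ℕ)) (L : List (ℕ × ℕ)), (∀ p ∈ L, p.1 < 6 ∧ p.2 = X.img w (chevE6.simple p.1)) →
      (L.map fun p => p.1).Nodup → okSteps ns (L.map fun p => p.1) = true → search ns L = true →
      ∃ m ∈ words, ∀ j < 6, app (expand m) (chevE6.simple j) = X.img w (chevE6.simple j)
  | [], L, hL, _, hok, h => by
    simp only [okSteps, List.all_eq_true, List.mem_range, List.contains_iff_mem] at hok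
    have ht : ((List.range 6).map fun j => ((L.filter fun p => p.1 == j).map fun p => p.2).headD 0) =
        (List.range 6).map fun j => X.img w (chevE6.simple j) := by
      refine List.map_congr_left fun j hj => ?_
      obtain ⟨p, hp, hpj⟩ := List.mem_map.1 (hok j (List.mem_range.1 hj))
      have hmem : p ∈ L.filter fun q => q.1 == j := List.mem_filter.2 ⟨hp, by simp [hpj]⟩
      rcases hf : L.filter (fun q => q.1 == j) with _ | ⟨q, l⟩
      · rw [hf] at hmem; exact absurd hmem List.not_mem_nil
      · have hq : q ∈ L.filter fun q => q.1 == j := by rw [hf]; exact List.mem_cons_self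
        obtain ⟨hq1, hq2⟩ := List.mem_filter.1 hq
        rw [hf, List.map_cons, List.headD_cons]
        rw [(hL q hq1).2, beq_iff_eq.1 hq2]
    simp only [search, ht, Bool.or_eq_true, Bool.not_eq_true', List.contains_iff_mem] at h
    rcases h with h | h
    · exfalso
      have h1 : ChevE6Twist14.vec [1, 0, 0, 0, 0, 0] ∈ ChevE6Twist14.orbSet := by
        simp only [ChevE6Twist14.orbSet, List.mem_toFinset, List.mem_map]
        exact ⟨_, List.contains_iff_mem.1 orbit_one, rfl⟩
      have h2 := ChevE6Twist14.orbit_stable X w _ h1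
      simp only [ChevE6Twist14.orbSet, List.mem_toFinset, List.mem_map] at h2
      obtain ⟨l, hl, hl'⟩ := h2
      have hlen : l.length = 6 := (by decide +kernel : ∀ l ∈ ChevE6Twist14.orbit, l.length = 6) l hl
      have key : ((List.range 6).map fun j => X.img w (chevE6.simple j)).map (fun c => C₆.coef c 0) = l := by
        refine List.ext_getElem (by simp [hlen]) fun n h3 h4 => ?_
        simp only [List.getElem_map, List.getElem_range]
        have hn : n < chevE6.rank := by
          show n < 6
          simpa [hlen] using h4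
        have := congrFun hl' ⟨n, hn⟩
        rw [ChevE6Twist14.vec, List.getD_eq_getElem _ _ h4] at this
        rw [this]
        have e2 := ev_wact C₆ X w (ChevE6Twist14.vec [1, 0, 0, 0, 0, 0]) (X.simple_lt hn)
        rw [ev_simple C₆ _ ⟨n, hn⟩] at e2
        rw [e2, ev]
        show _ = ∑ i : Fin 6, _
        rw [Fin.sum_univ_six]
        simp [ChevE6Twist14.vec]
      rw [key, List.contains_iff_mem.2 hl] at h
      exact Bool.noConfusion h
    · rw [← imgs_eq, List.mem_map] at h
      obtain ⟨m, hm, hm'⟩ := h
      exact ⟨m, hm, fun j hj => (List.map_inj_left.1 hm') j (List.mem_range.2 hj)⟩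
  | (i, R) :: ns, L, hL, hnd, hok, h => by
    simp only [okSteps, Bool.and_eq_true, decide_eq_true_eq, Bool.not_eq_true'] at hok
    obtain ⟨⟨⟨hi, hdis⟩, hR⟩, hok'⟩ := hok
    simp only [search, List.all_eq_true, Bool.or_eq_true, Bool.not_eq_true', List.mem_range] at h
    have hc : X.img w (chevE6.simple i) < 72 := X.img_lt _ (sim_lt i hi)
    set c := X.img w (chevE6.simple i)
    have hL' : ∀ p ∈ (i, c) :: L, p.1 < 6 ∧ p.2 = X.img w (chevE6.simple p.1) := by
      intro p hp
      rcases List.mem_cons.1 hp with rfl | hp
      exacts [⟨hi, rfl⟩, hL p hp]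
    have hnd' : (((i, c) :: L).map fun p => p.1).Nodup := by
      rw [List.map_cons, List.nodup_cons]
      exact ⟨fun hmem => by rw [List.contains_iff_mem.2 hmem] at hdis; exact Bool.noConfusion hdis, hnd⟩
    rcases h c hc with (h1 | h1) | h1
    · exfalso
      rw [valT_eq c hc, valT_eq _ (sim_lt i hi), hval _ (sim_lt i hi), Nat.beq_refl] at h1
      exact Bool.noConfusion h1
    · exfalso
      obtain ⟨r, hr, hr'⟩ : ∃ r ∈ R, hit (comb ((i, c) :: L) r) = false := by simpa using h1
      have hr2 := List.all_eq_true.1 hR r hr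
      simp only [Bool.and_eq_true, decide_eq_true_eq, List.all_eq_true, List.mem_range, Bool.or_eq_true, beq_iff_eq,
        List.contains_iff_mem] at hr2
      obtain ⟨⟨h36, h72⟩, hsupp⟩ := hr2
      have himg : X.img w r < 72 := X.img_lt _ (show r < chevE6.nroots by show r < 72; omega)
      have hsum : (((i, c) :: L).map fun p => C₆.coef r p.1 * code p.2).sum = code (X.img w r) := by
        classical
        rw [img_code X w (by omega)]
        have e1 : (((i, c) :: L).map fun p => C₆.coef r p.1 * code p.2) =
            ((((i, c) :: L).map fun p => p.1).map fun j => C₆.coef r j * code (X.img w (chevE6.simple j))) := by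
          rw [List.map_map]
          refine List.map_congr_left fun p hp => ?_
          simp only [Function.comp_apply, ← (hL' p hp).2]
        rw [e1, ← List.sum_toFinset _ hnd']
        show _ = ∑ i : Fin 6, C₆.coef r i.val * code (X.img w (chevE6.simple i.val))
        rw [Fin.sum_univ_eq_sum_range (fun j => C₆.coef r j * code (X.img w (chevE6.simple j))) 6]
        refine Finset.sum_subset (fun j hj => ?_) (fun j hj hj' => ?_)
        · rw [List.mem_toFinset] at hj
          obtain ⟨p, hp, rfl⟩ := List.mem_map.1 hj
          exact Finset.mem_range.2 (hL' p hp).1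
        · rcases hsupp j (Finset.mem_range.1 hj) with (h0 | h0) | h0
          · rw [← posCoef_eq r h72 h36 j (Finset.mem_range.1 hj), h0, Nat.cast_zero, zero_mul]
          · exact absurd (List.mem_toFinset.2 (by rw [h0]; simp)) hj'
          · exact absurd (List.mem_toFinset.2 (List.mem_cons_of_mem _ h0)) hj'
      have hmod : comb ((i, c) :: L) r = hT (X.img w r) := by
        apply Nat.cast_injective (R := ℤ)
        rw [hT_eq _ himg, ← hsum, comb, Int.natCast_emod, Nat.cast_list_sum, List.map_map, Nat.cast_ofNat,
          ← sum_emod 1999 (fun p : ℕ × ℕ => C₆.coef r p.1) fun p => code p.2]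
        congr 2
        refine List.map_congr_left fun p hp => ?_
        obtain ⟨hp1, hp2⟩ := hL' p hp
        rw [Function.comp_apply, Nat.cast_mul, posCoef_eq r h72 h36 _ hp1,
          hT_eq p.2 (hp2 ▸ X.img_lt _ (sim_lt _ hp1))]
      rw [hmod, hit_hT _ himg] at hr'
      exact Bool.noConfusion hr'
    · exact search_sound w hval ns ((i, c) :: L) hL' hnd' hok' h1

variable {F : Type*} [Field F] {C : Cert chevE6} (T : TwistedCore.Twist C F)

/-- The stabiliser consists of the words. -/
theorem exists_word (w : T.X.W) (hval : ∀ r < 72, val (T.X.img w r) = val r) :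
    ∃ m ∈ words, ∀ l : List (Fin chevE6.rank), l.map (fun i => i.val) = expand m → w = T.wd l := by
  obtain ⟨m, hm, heq⟩ := search_sound T.X w hval steps [] (fun p hp => absurd hp List.not_mem_nil)
    List.nodup_nil steps_ok search_ok
  refine ⟨m, hm, fun l hl => T.eq_of_img fun r hr => ?_⟩
  have happ : ∀ j < 6, T.X.img (T.wd l) (chevE6.simple j) = T.X.img w (chevE6.simple j) := by
    intro j hj
    have e : ∀ (l' : List (Fin chevE6.rank)) (x : ℕ), TwistedCore.Twist.wact' chevE6 l' x =
        (l'.map fun i => i.val).foldr (fun i y => chevE6.reflectRoot i y) x := by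
      intro l' x
      induction l' with
      | nil => simp [TwistedCore.Twist.wact']
      | cons a l' ih => simp [TwistedCore.Twist.wact'] at ih ⊢; rw [ih]
    rw [T.img_wd l (sim_lt j hj), e, hl, ← heq j hj, app]
  refine (ChevalleyRoots.coef_inj C₆ (T.X.img_lt _ hr) (T.X.img_lt _ hr) fun j hj => ?_).symm
  rw [img_coef T.X w hr ⟨j, hj⟩, img_coef T.X (T.wd l) hr ⟨j, hj⟩]
  exact Finset.sum_congr rfl fun i _ => by rw [happ i.val i.isLt]

end Cfsg.Agent.E6Five14Weyl
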