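import Cfsg.Agent.Lib.E6Five14Class
import Cfsg.Agent.Lib.E6Five14Weyl
import Cfsg.Agent.Lib.ChevalleyRankOne
import Cfsg.Agent.Lib.ChevTorusCentralizer77
import Cfsg.Agent.Lib.ChevFieldAut77

/-!
The fixed points in the centraliser of the torus element of order five of a split E6 group in characteristic
two: a twisted torus element of order five times a subsystem group of type A3 over the prime field.
-/

set_option autoImplicit false
set_option linter.unusedSectionVars false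
set_option maxRecDepth 20000

namespace Cfsg.Agent.E6Five14Fix

open Cfsg.Lie Cfsg.Agent Cfsg.Agent.ChevalleyCert Cfsg.Agent.ChevalleyCore Cfsg.Agent.ChevalleyRoots
  Cfsg.Agent.ChevalleyTorus Cfsg.Agent.ChevalleyUnipotent Cfsg.Agent.ChevWeyl Cfsg.Agent.ChevBruhat
  Cfsg.Agent.TwistedCore Cfsg.Agent.TwistedTools Cfsg.Agent.TwistedE6 Cfsg.Agent.ChevTorusCentralizer77
open Cfsg.Agent.E6Five14Weyl (val words expand letter)
open Cfsg.Agent.E6Five14Class (rootK)

universe u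

variable {F : Type u} [Field F]

/-- the positive roots of the subsystem -/
def fixL : List ℕ := [39, 46, 47, 69, 70, 71]

/-- all roots of the subsystem -/
def allL : List ℕ := fixL ++ [32, 25, 24, 2, 1, 0]

/-- the classes leading from the root 39 to the roots of the subsystem -/
def reachW : List (List ℕ) := [[], [1, 0], [0], [3, 2, 1, 3, 0], [1, 3, 2, 1, 3, 0], [0, 1, 3, 2, 1, 3, 0], [1],
  [0, 1, 0], [0, 1], [3, 2, 1, 3, 0, 1], [1, 3, 2, 1, 3, 0, 1], [0, 1, 3, 2, 1, 3, 0, 1]]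

theorem reach_ok : ∀ r ∈ allL, ∃ l ∈ reachW, (∀ k ∈ l, k < 4) ∧ l.foldr rootK 39 = r := by decide +kernel

theorem all_facts : ∀ r ∈ allL, r < 72 ∧ chevE6.neg r ∈ allL ∧
    ∀ a ∈ [ra 0, chevE6.neg (ra 0), rb 0, chevE6.neg (rb 0)],
      a < 72 ∧ r ≠ a ∧ r ≠ chevE6.neg a ∧ chevE6.commTerms a r = [] := by
  decide +kernel

theorem fix_sub : ∀ r ∈ fixL, r ∈ allL := by decide +kernel

theorem val_lt : ∀ r < 72, val r < 5 := by decide +kernel

theorem fix_eq : (List.range' 36 36).filter (fun r => val r == 0) = fixL := by decide +kernel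

theorem simple_table : chevE6.simple 0 = 56 ∧ chevE6.simple 1 = 46 ∧ chevE6.simple 2 = 42 ∧
    chevE6.simple 3 = 39 ∧ chevE6.simple 4 = 37 ∧ chevE6.simple 5 = 36 := by decide +kernel

section Char

variable (h2 : (2 : F) = 0)

include h2 in
theorem neg_eq (t : F) : -t = t := by linear_combination (-t) * h2

include h2 in
theorem eta_one (i r : ℕ) : (c6.eta i r : F) = 1 := by
  rcases c6.eta_sq i r with h | h <;> simp [h, neg_eq h2]

include h2 in
theorem ns_conj {i r : ℕ} (hi : i < 6) (hr : r < 72) (t : F) :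
    ng c6 (chevE6.simple i) 1 * xg c6 r t * (ng c6 (chevE6.simple i) 1)⁻¹ = xg c6 (chevE6.reflectRoot i r) t := by
  rw [ng_simple_conj c6 hi hr, eta_one h2, one_mul]

/-- the product of fundamental representatives of a word -/
noncomputable def nl (l : List (Fin chevE6.rank)) : GL chevE6.Idx F :=
  (l.map fun i => ng c6 (chevE6.simple i.val) (1 : F)).prod

theorem refl_lt : ∀ i < 6, ∀ r < 72, chevE6.reflectRoot i r < 72 := by decide +kernel

theorem foldr_lt {r : ℕ} (hr : r < 72) : ∀ l : List (Fin chevE6.rank),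
    l.foldr (fun i x => chevE6.reflectRoot i.val x) r < 72
  | [] => hr
  | i :: l => refl_lt i.val i.isLt _ (foldr_lt hr l)

include h2 in
theorem nl_conj {r : ℕ} (hr : r < 72) (t : F) : ∀ l : List (Fin chevE6.rank),
    nl l * xg c6 r t * (nl l)⁻¹ = xg c6 (l.foldr (fun i x => chevE6.reflectRoot i.val x) r) t
  | [] => by simp [nl]
  | i :: l => by
    have ih := nl_conj hr t l
    simp only [nl, List.map_cons, List.prod_cons, List.foldr_cons] at ih ⊢
    rw [← ns_conj h2 i.isLt (foldr_lt hr l), ← ih]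
    group

include h2 in
theorem nl_conj_ng {r : ℕ} (hr : r < 72) : ∀ l : List (Fin chevE6.rank),
    nl l * ng c6 r (1 : F) * (nl l)⁻¹ = ng c6 (l.foldr (fun i x => chevE6.reflectRoot i.val x) r) 1
  | [] => by simp [nl]
  | i :: l => by
    have ih := nl_conj_ng hr l
    simp only [nl, List.map_cons, List.prod_cons, List.foldr_cons] at ih ⊢
    have e := ng_simple_conj_ng c6 (F := F) (i := i.val) i.isLt (foldr_lt hr l) 1
    rw [eta_one h2, one_mul] at e
    rw [← e, ← ih]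
    group

include h2 in
theorem ng_inv_self (r : ℕ) (t : F) : (ng c6 r t)⁻¹ = ng c6 r t := by rw [ng_inv, neg_eq h2]

include h2 in
theorem ng_sq (r : ℕ) (t : F) : ng c6 r t * ng c6 r t = 1 := by
  rw [← eq_inv_iff_mul_eq_one, ng_inv_self h2]

include h2 in
theorem ng_hg {r : ℕ} (hr : r < 72) {a : F} (ha : a ≠ 0) :
    ng c6 r 1 * hg c6 r a = hg c6 r a⁻¹ * ng c6 r 1 := by
  have h := ng_sq h2 r a
  rw [ng_eq c6] at h
  have h' : hg c6 r a⁻¹ * hg c6 r a = 1 := by
    rw [hg_mul c6 hr (inv_ne_zero ha) ha, inv_mul_cancel₀ ha, hg_one c6 hr]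
  calc ng c6 r 1 * hg c6 r a
      = hg c6 r a⁻¹ * hg c6 r a * ng c6 r 1 * hg c6 r a * (ng c6 r 1 * ng c6 r 1) := by
        rw [h', one_mul, ng_sq h2, mul_one]
    _ = hg c6 r a⁻¹ * (hg c6 r a * ng c6 r 1 * (hg c6 r a * ng c6 r 1)) * ng c6 r 1 := by group
    _ = _ := by rw [h, mul_one]

include h2 in
theorem ng_swap {r : ℕ} (hr : r < 72) (t : F) :
    ng c6 r 1 * xg c6 (chevE6.neg r) t = xg c6 r t * ng c6 r 1 := by
  have h := ChevalleyRankOne.ng_conj_self c6 hr t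
  rw [neg_eq h2, ng_inv_self h2] at h
  rw [← h]
  calc ng c6 r 1 * (ng c6 r 1 * xg c6 r t * ng c6 r 1)
      = ng c6 r 1 * ng c6 r 1 * (xg c6 r t * ng c6 r 1) := by group
    _ = _ := by rw [ng_sq h2, one_mul]

/-- the eigenvector matrix of a rank-one element of order five -/
noncomputable def gv (r : ℕ) (z : F) : GL chevE6.Idx F := xg c6 (chevE6.neg r) z⁻¹ * xg c6 r (z + z⁻¹)⁻¹

include h2 in
theorem gv_conj {r : ℕ} (hr : r < 72) {z : F} (hz : z ≠ 0) (hs : z + z⁻¹ ≠ 0) :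
    xg c6 r (z + z⁻¹) * ng c6 r 1 * gv r z = gv r z * hg c6 r z := by
  set b := (z + z⁻¹)⁻¹ with hb
  set n := ng c6 r (1 : F) with hn
  set h := hg c6 r z with hh
  have hx : ∀ a c : F, xg c6 r a * xg c6 r c = xg c6 r (a + c) := fun a c => xg_mul c6 r a c
  have hxi : ∀ a : F, (xg c6 r a)⁻¹ = xg c6 r a := fun a => by rw [xg_inv, neg_eq h2]
  have ey : xg c6 (chevE6.neg r) z⁻¹ = xg c6 r z * h * n * xg c6 r z := by
    have e : ng c6 r z = xg c6 r z * xg c6 (chevE6.neg r) z⁻¹ * xg c6 r z := by rw [ng, neg_eq h2]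
    rw [ng_eq c6] at e
    calc xg c6 (chevE6.neg r) z⁻¹
        = (xg c6 r z)⁻¹ * (xg c6 r z * xg c6 (chevE6.neg r) z⁻¹ * xg c6 r z) * (xg c6 r z)⁻¹ := by group
      _ = _ := by rw [← e, hxi, hh, hn]; group
  have hpr : ∀ a : F, xg c6 r a * h = h * xg c6 r (z⁻¹ * z⁻¹ * a) := fun a => by
    rw [hh, hg_conj_xg c6 hr hr hz, c6.pair_self r hr, zpow_two]
    congr 2
    field_simp
  have hbb : z⁻¹ * z⁻¹ * (z + b) = b := by
    have h1 : b * (z + z⁻¹) = 1 := inv_mul_cancel₀ hs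
    have h3 : z * z⁻¹ = 1 := mul_inv_cancel₀ hz
    linear_combination (-z⁻¹) * h1 + (z⁻¹ + b) * h3 + (b * z⁻¹ * z⁻¹) * h2
  have hl : xg c6 r (z + z⁻¹) * n * gv r z = xg c6 r z * n * xg c6 r b := by
    rw [gv, ← mul_assoc, mul_assoc (xg c6 r (z + z⁻¹)) n, hn, ng_swap h2 hr, ← mul_assoc, hx,
      show z + z⁻¹ + z⁻¹ = z by linear_combination z⁻¹ * h2]
  rw [hl, gv, ey, mul_assoc _ (xg c6 r z) (xg c6 r b), hx, mul_assoc _ (xg c6 r (z + b)) h, hpr (z + b), hbb]
  calc xg c6 r z * n * xg c6 r b = xg c6 r z * (hg c6 r z * hg c6 r z⁻¹) * n * xg c6 r b := by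
        rw [hg_mul c6 hr hz (inv_ne_zero hz), mul_inv_cancel₀ hz, hg_one c6 hr, mul_one]
    _ = xg c6 r z * hg c6 r z * (hg c6 r z⁻¹ * n) * xg c6 r b := by group
    _ = _ := by rw [hn, ← ng_hg h2 hr hz, hh]; group

include h2 in
theorem gv_inv_mul {r : ℕ} {z : F} (hs : z + z⁻¹ ≠ 0) :
    (gv r z)⁻¹ * gv r z⁻¹ = ng c6 r (z + z⁻¹)⁻¹ := by
  rw [gv, gv, mul_inv_rev, xg_inv, xg_inv, neg_eq h2, neg_eq h2, inv_inv, add_comm z⁻¹ z, ng, inv_inv, neg_eq h2]
  calc _ = xg c6 r (z + z⁻¹)⁻¹ * (xg c6 (chevE6.neg r) z⁻¹ * xg c6 (chevE6.neg r) z) * xg c6 r (z + z⁻¹)⁻¹ := by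
        group
    _ = _ := by rw [xg_mul, add_comm z⁻¹ z]

end Char

/-! ### the element of order five -/

theorem ab_lt : ra 0 < 72 ∧ rb 0 < 72 := by decide +kernel

theorem comm_xn {a : ℕ} (ha : a ∈ [ra 0, chevE6.neg (ra 0)]) (t z : F) :
    Commute (xg c6 a t) (ng c6 (rb 0) z) :=
  ((comm 0 ha (by simp) _ _).mul_right (comm 0 ha (by simp) _ _)).mul_right (comm 0 ha (by simp) _ _)

theorem comm_nx {b : ℕ} (hb : b ∈ [rb 0, chevE6.neg (rb 0)]) (z t : F) :
    Commute (ng c6 (ra 0) z) (xg c6 b t) :=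
  ((comm 0 (by simp) hb _ _).mul_left (comm 0 (by simp) hb _ _)).mul_left (comm 0 (by simp) hb _ _)

/-- the conjugating element -/
noncomputable def gz (z : F) : GL chevE6.Idx F := gv (ra 0) z * gv (rb 0) (z ^ 2)

/-- the element of order five in the twisted group -/
noncomputable def xs (s : F) : GL chevE6.Idx F :=
  xg c6 (ra 0) s * ng c6 (ra 0) 1 * (xg c6 (rb 0) (s ^ 2) * ng c6 (rb 0) 1)

/-- its diagonal form -/
noncomputable def hh (z : F) : GL chevE6.Idx F := hg c6 (ra 0) z * hg c6 (rb 0) (z ^ 2)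

variable (h2 : (2 : F) = 0) {z : F} (hz5 : z ^ 5 = 1) (hz1 : z ≠ 1)

include hz5 in
theorem z_ne : z ≠ 0 := fun h => by simp [h] at hz5

include h2 hz5 hz1 in
theorem s_ne : z + z⁻¹ ≠ 0 := fun h => by
  have h3 : z * z⁻¹ = 1 := mul_inv_cancel₀ (z_ne hz5)
  have h4 : z ^ 2 = 1 := by linear_combination z * h - h3 - h2
  apply hz1
  calc z = z * (z ^ 2) ^ 2 := by rw [h4, one_pow, mul_one]
    _ = 1 := by rw [← hz5]; ring

include h2 in
theorem sq_add (a b : F) : (a + b) ^ 2 = a ^ 2 + b ^ 2 := by linear_combination a * b * h2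

include h2 hz5 hz1 in
theorem gz_conj : xs (z + z⁻¹) * gz z = gz z * hh z := by
  have hz := z_ne hz5
  have hs := s_ne h2 hz5 hz1
  have e2 : (z + z⁻¹) ^ 2 = z ^ 2 + (z ^ 2)⁻¹ := by rw [sq_add h2, inv_pow]
  have hsq : z ^ 2 + (z ^ 2)⁻¹ ≠ 0 := e2 ▸ pow_ne_zero 2 hs
  have ea := gv_conj h2 ab_lt.1 hz hs
  have eb := gv_conj h2 ab_lt.2 (pow_ne_zero 2 hz) hsq
  rw [← e2] at eb
  have c1 : Commute (xg c6 (rb 0) ((z + z⁻¹) ^ 2) * ng c6 (rb 0) 1) (gv (ra 0) z) :=
    Commute.mul_left ((comm 0 (by simp) (by simp) _ _).mul_left (comm 0 (by simp) (by simp) _ _)).symm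
      ((comm_xn (by simp) _ _).mul_left (comm_xn (by simp) _ _)).symm
  have c2 : Commute (hg c6 (ra 0) z) (gv (rb 0) (z ^ 2)) :=
    Commute.mul_left ((comm_nx (by simp) _ _).mul_right (comm_nx (by simp) _ _))
      ((comm_nx (by simp) _ _).mul_right (comm_nx (by simp) _ _))
  calc xs (z + z⁻¹) * gz z
      = xg c6 (ra 0) (z + z⁻¹) * ng c6 (ra 0) 1 * (xg c6 (rb 0) ((z + z⁻¹) ^ 2) * ng c6 (rb 0) 1 * gv (ra 0) z) *
          gv (rb 0) (z ^ 2) := by rw [xs, gz]; group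
    _ = xg c6 (ra 0) (z + z⁻¹) * ng c6 (ra 0) 1 * gv (ra 0) z *
          (xg c6 (rb 0) ((z + z⁻¹) ^ 2) * ng c6 (rb 0) 1 * gv (rb 0) (z ^ 2)) := by rw [c1.eq]; group
    _ = gv (ra 0) z * (hg c6 (ra 0) z * gv (rb 0) (z ^ 2)) * hg c6 (rb 0) (z ^ 2) := by rw [ea, eb]; group
    _ = _ := by rw [c2.eq, gz, hh]; group

variable (f : F →+* F) (hf : ∀ t, f t = t ^ 2)

theorem pi_nodes : ChevalleyGraph.symE6.pi (pn 0).val = (pm 0).val ∧
    ChevalleyGraph.symE6.pi (pm 0).val = (pn 0).val := (pi_facts 0).2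

include hf in
theorem sg_gv_ra (t : F) : (tw f).sg (gv (ra 0) t) = gv (rb 0) (t ^ 2) := by
  rw [gv, (tw f).sg_mul (xg_mem_group c6 _ _) (xg_mem_group c6 _ _), (tw f).sg_negSimple (pn 0).isLt,
    (tw f).sg_simple (pn 0).isLt, show (tw f).ρs (pn 0).val = (pm 0).val from pi_nodes.1,
    show (tw f).fr (pn 0).val = f from rfl, map_inv₀, map_inv₀, map_add, map_inv₀, hf, gv]

include hf in
theorem sg_gv_rb (t : F) : (tw f).sg (gv (rb 0) t) = gv (ra 0) (t ^ 2) := by
  rw [gv, (tw f).sg_mul (xg_mem_group c6 _ _) (xg_mem_group c6 _ _), (tw f).sg_negSimple (pm 0).isLt,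
    (tw f).sg_simple (pm 0).isLt, show (tw f).ρs (pm 0).val = (pn 0).val from pi_nodes.2,
    show (tw f).fr (pm 0).val = f from rfl, map_inv₀, map_inv₀, map_add, map_inv₀, hf, gv]

theorem gv_mem (r : ℕ) (t : F) : gv r t ∈ chevE6.group F :=
  mul_mem (xg_mem_group c6 _ _) (xg_mem_group c6 _ _)

/-- the twisting representative -/
noncomputable def n0 (z : F) : GL chevE6.Idx F := ng c6 (ra 0) (z + z⁻¹)⁻¹

include h2 hz5 hz1 hf in
theorem sg_gz : (gz z)⁻¹ * (tw f).sg (gz z) = n0 z := by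
  have hz := z_ne hz5
  have e4 : (z ^ 2) ^ 2 = z⁻¹ := eq_inv_of_mul_eq_one_left (by rw [← hz5]; ring)
  have c : Commute (gv (ra 0) z) (gv (rb 0) (z ^ 2)) :=
    Commute.mul_left ((comm 0 (by simp) (by simp) _ _).mul_right (comm 0 (by simp) (by simp) _ _))
      ((comm 0 (by simp) (by simp) _ _).mul_right (comm 0 (by simp) (by simp) _ _))
  rw [gz, (tw f).sg_mul (gv_mem _ _) (gv_mem _ _), sg_gv_ra f hf, sg_gv_rb f hf, e4]
  calc _ = (gv (rb 0) (z ^ 2))⁻¹ * ((gv (ra 0) z)⁻¹ * gv (rb 0) (z ^ 2)) * gv (ra 0) z⁻¹ := by group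
    _ = (gv (ra 0) z)⁻¹ * gv (ra 0) z⁻¹ := by rw [c.inv_left.eq]; group
    _ = _ := gv_inv_mul h2 (s_ne h2 hz5 hz1)

/-- the coordinates of the diagonal element -/
noncomputable def cv (u : Fˣ) : Fin chevE6.rank → Fˣ := Pi.mulSingle (nd 0) u * Pi.mulSingle (nd 5) (u ^ 2)

theorem hh_eq (u : Fˣ) : hh (u : F) = torus chevE6 (cv u) := by
  rw [cv, map_mul, ← hg_simple c6, ← hg_simple c6, Units.val_pow_eq_pow_val]
  rfl

theorem tchar_cv {u : Fˣ} (hu : u ^ 5 = 1) (s : ℕ) : tchar chevE6 (cv u) s = u ^ val s := by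
  rw [cv, tchar_mul, tchar_single c6, tchar_single c6, ← zpow_natCast u 2, ← zpow_mul, ← zpow_add]
  show u ^ (chevE6.cartan 0 s + ((2 : ℕ) : ℤ) * chevE6.cartan 5 s) = u ^ val s
  rw [Nat.cast_two, ← zpow_natCast u (val s), val, Int.toNat_of_nonneg (Int.emod_nonneg _ (by norm_num))]
  conv_lhs => rw [← Int.emod_add_mul_ediv (chevE6.cartan 0 s + 2 * chevE6.cartan 5 s) 5]
  rw [zpow_add, zpow_mul, show ((5 : ℤ)) = ((5 : ℕ) : ℤ) from rfl, zpow_natCast, hu, one_zpow, mul_one]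

include hz5 in
theorem hh_pow_five : hh z ^ 5 = 1 := by
  obtain ⟨u, rfl⟩ : ∃ u : Fˣ, (u : F) = z := ⟨Units.mk0 z (z_ne hz5), rfl⟩
  have hu : u ^ 5 = 1 := Units.ext (by simpa using hz5)
  rw [hh_eq, ← map_pow, cv, mul_pow, ← Pi.mulSingle_pow, ← Pi.mulSingle_pow, ← pow_mul, mul_comm 2 5, pow_mul,
    hu, one_pow]
  simp

theorem hh_pow_commute {k : ℕ} (hk : Commute (hh z ^ k) (xg c6 (ra 0) (1 : F))) (hz5 : z ^ 5 = 1) (hz1 : z ≠ 1) :
    5 ∣ k := by
  obtain ⟨u, rfl⟩ : ∃ u : Fˣ, (u : F) = z := ⟨Units.mk0 z (z_ne hz5), rfl⟩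
  have hu : u ^ 5 = 1 := Units.ext (by simpa using hz5)
  have hu1 : u ≠ 1 := fun h => hz1 (by rw [h, Units.val_one])
  haveI : Fact (Nat.Prime 5) := ⟨by norm_num⟩
  have hord : orderOf u = 5 := orderOf_eq_prime hu hu1
  rw [hh_eq, ← map_pow] at hk
  have h := torus_conj_xg c6 ab_lt.1 (cv u ^ k) (1 : F)
  rw [hk.eq, mul_inv_cancel_right] at h
  have h' := StBasic.xg_inj c6 ab_lt.1 h
  rw [mul_one] at h'
  have e : tchar chevE6 (cv u ^ k) (ra 0) = u ^ (2 * k) := by
    clear hk h h'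
    induction k with
    | zero => simp [tchar_one]
    | succ k ih => rw [pow_succ, tchar_mul, ih, tchar_cv hu, show val (ra 0) = 2 by decide +kernel, ← pow_add]; rfl
  rw [e] at h'
  have hd : 5 ∣ 2 * k := hord ▸ orderOf_dvd_of_pow_eq_one (Units.ext h'.symm)
  exact (Nat.Coprime.dvd_of_dvd_mul_left (by norm_num) hd)

/-! ### the twisted endomorphism -/

variable (z) in
/-- the endomorphism in the conjugated picture -/
noncomputable def fm (v : GL chevE6.Idx F) : GL chevE6.Idx F := n0 z * (tw f).sg v * (n0 z)⁻¹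

theorem fm_mul {a b : GL chevE6.Idx F} (ha : a ∈ chevE6.group F) (hb : b ∈ chevE6.group F) :
    fm z f (a * b) = fm z f a * fm z f b := by
  unfold fm
  rw [(tw f).sg_mul ha hb]
  group

theorem fm_one : fm z f (1 : GL chevE6.Idx F) = 1 := by rw [fm, (tw f).sg_one, mul_one, mul_inv_cancel]

theorem fm_list : ∀ l : List (GL chevE6.Idx F), (∀ g ∈ l, g ∈ chevE6.group F) →
    fm z f l.prod = (l.map (fm z f)).prod
  | [], _ => by simp [fm_one]
  | a :: l, h => by
    have h' : ∀ g ∈ l, g ∈ chevE6.group F := fun g hg => h g (List.mem_cons_of_mem _ hg)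
    rw [List.prod_cons, List.map_cons, List.prod_cons, fm_mul f (h a List.mem_cons_self)
      (Subgroup.list_prod_mem _ h'), fm_list l h']

include h2 hf in
theorem sg_reach (t : F) : ∀ l : List ℕ, (∀ k ∈ l, k < 4) →
    (tw f).sg (xg c6 (l.foldr rootK 39) t) = xg c6 (l.foldr rootK 39) (t ^ 2) ∧ l.foldr rootK 39 < 72
  | [], _ => by
    refine ⟨?_, by norm_num⟩
    have h : sr 1 = 39 := by decide +kernel
    rw [List.foldr_nil, ← h]
    exact (sg_sr f hf 1 t).1
  | k :: l, h => by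
    obtain ⟨h1, h3⟩ := sg_reach t l fun a ha => h a (List.mem_cons_of_mem _ ha)
    have hk := h k List.mem_cons_self
    rw [List.foldr_cons]
    refine ⟨?_, (by decide +kernel : ∀ k < 4, ∀ r < 72, rootK k r < 72) k hk _ h3⟩
    set r := l.foldr rootK 39
    have e : ∀ J : Fin 2 ⊕ Fin 2, ∀ t : F, cn6 J * xg c6 r t * (cn6 J)⁻¹ =
        xg c6 ((cl6 J).foldr (fun i x => chevE6.reflectRoot i.val x) r) t := by
      intro J t
      rw [← nl_conj h2 h3 t (cl6 J)]
      rcases J with j | j <;> simp [nl, cn6, cl6, pnn]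
    have hn : ∀ J : Fin 2 ⊕ Fin 2, cn6 (K := F) J ∈ chevE6.group F ∧ (tw f).sg (cn6 J) = cn6 J := by
      rintro (j | j)
      · refine ⟨Twist.ng_mem_group _ _, ?_⟩
        show (tw f).sg (ng c6 (sr j) 1) = ng c6 (sr j) 1
        rw [(tw f).sg_ng_simple (sn j).isLt, map_one, show (tw f).ρs (sn j).val = (sn j).val from (pi_facts j).1]
      · refine ⟨mul_mem (Twist.ng_mem_group _ _) (Twist.ng_mem_group _ _), ?_⟩
        show (tw f).sg (ng c6 (ra j) 1 * ng c6 (rb j) 1) = ng c6 (ra j) 1 * ng c6 (rb j) 1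
        rw [(tw f).sg_mul (Twist.ng_mem_group _ _) (Twist.ng_mem_group _ _), (tw f).sg_ng_simple (pn j).isLt,
          (tw f).sg_ng_simple (pm j).isLt, map_one, map_one,
          show (tw f).ρs (pn j).val = (pm j).val from (pi_facts j).2.1,
          show (tw f).ρs (pm j).val = (pn j).val from (pi_facts j).2.2]
        exact (commute_ng j 1 1).eq.symm
    have er : rootK k r = (cl6 (TwistE6Mult14Check.cJ k)).foldr (fun i x => chevE6.reflectRoot i.val x) r := by
      rw [rootK, TwistE6Mult14Check.act, if_pos hk]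
      generalize TwistE6Mult14Check.cJ k = J
      rcases J with j | j <;> rfl
    rw [er, ← e _ t, (tw f).sg_conj (hn _).1 (xg_mem_group c6 _ _), (hn _).2, h1, e]

theorem n0_commute {r : ℕ} (hr : r ∈ allL) (t : F) : Commute (n0 z) (xg c6 r t) := by
  have h : ∀ a ∈ [ra 0, chevE6.neg (ra 0)], ∀ c : F, Commute (xg c6 a c) (xg c6 r t) := by
    intro a ha c
    obtain ⟨h1, -, h3⟩ := all_facts r hr
    obtain ⟨g1, g2, g3, g4⟩ := h3 a (by rcases List.mem_cons.1 ha with rfl | ha <;> simp_all)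
    exact commute_xg c6 g1 h1 g2 g3 g4 c t
  exact ((h _ (by simp) _).mul_left (h _ (by simp) _)).mul_left (h _ (by simp) _)

include h2 hf in
theorem fm_root {r : ℕ} (hr : r ∈ allL) (t : F) : fm z f (xg c6 r t) = xg c6 r (t ^ 2) := by
  obtain ⟨l, -, hl, rfl⟩ := reach_ok r hr
  rw [fm, (sg_reach h2 f hf t l hl).1, (n0_commute hr _).eq, mul_inv_cancel_right]

include h2 hf in
theorem fm_ng {r : ℕ} (hr : r ∈ allL) : fm z f (ng c6 r (1 : F)) = ng c6 r 1 := by
  have hn := (all_facts r hr).2.1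
  rw [ng, fm_mul f (mul_mem (xg_mem_group c6 _ _) (xg_mem_group c6 _ _)) (xg_mem_group c6 _ _),
    fm_mul f (xg_mem_group c6 _ _) (xg_mem_group c6 _ _), fm_root h2 f hf hr, fm_root h2 f hf hn]
  simp [neg_eq h2]

/-! ### the torus part -/

theorem n0_mem_N : n0 z ∈ chevE6.monomialSubgroup F ∨ z + z⁻¹ = 0 := by
  by_cases h : z + z⁻¹ = 0
  · exact Or.inr h
  · refine Or.inl ?_
    rw [n0, ng_eq c6]
    exact mul_mem (Subgroup.mem_sup_left (hg_mem_H c6 ab_lt.1 (inv_ne_zero h))) (ns_mem_N c6 (pn 0).isLt)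

include h2 hz5 hz1 in
theorem fm_H {v : GL chevE6.Idx F} (hv : v ∈ chevE6.diagonalSubgroup F) :
    fm z f v ∈ chevE6.diagonalSubgroup F := by
  have hn := n0_mem_N.resolve_right (s_ne h2 hz5 hz1)
  exact (Subgroup.mem_normalizer_iff.1 (N_le_normalizer_H c6 hn) _).1 ((tw f).sg_H hv)

include h2 hz5 hz1 hf in
theorem tchar_fm {c : Fin chevE6.rank → Fˣ} (hc : fm z f (torus chevE6 c) = torus chevE6 c) {i : ℕ} (hi : i < 6) :
    tchar chevE6 c (chevE6.reflectRoot 0 (chevE6.simple (ChevalleyGraph.symE6.pi i))) =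
      tchar chevE6 c (chevE6.simple i) ^ 2 := by
  set s := chevE6.simple i
  set s' := chevE6.simple (ChevalleyGraph.symE6.pi i) with hs'
  set p := chevE6.reflectRoot 0 s'
  have hs : s < 72 := simple_lt c6 hi
  have hpi : ChevalleyGraph.symE6.pi i < 6 := ((ChevalleyGraph.symE6).pi_ok i hi).1
  have hs'' : s' < 72 := simple_lt c6 hpi
  have hp : p < 72 := refl_lt 0 (by norm_num) _ hs''
  set b := (z + z⁻¹)⁻¹
  have hb : b ≠ 0 := inv_ne_zero (s_ne h2 hz5 hz1)
  have e : ∀ t : F, fm z f (xg c6 s t) = xg c6 p (b ^ chevE6.pairing (ra 0) p * t ^ 2) := fun t => by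
    rw [fm, (tw f).sg_simple (by exact hi), show (tw f).fr i t = t ^ 2 from hf t,
      show chevE6.simple ((tw f).ρs i) = s' from rfl, n0, ng_eq c6]
    calc hg c6 (ra 0) b * ng c6 (ra 0) 1 * xg c6 s' (t ^ 2) * (hg c6 (ra 0) b * ng c6 (ra 0) 1)⁻¹
        = hg c6 (ra 0) b * (ng c6 (ra 0) 1 * xg c6 s' (t ^ 2) * (ng c6 (ra 0) 1)⁻¹) * (hg c6 (ra 0) b)⁻¹ := by
          group
      _ = _ := by
        rw [show ra 0 = chevE6.simple 0 from rfl, ns_conj h2 (by norm_num) hs'',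
          hg_conj_xg c6 (simple_lt c6 (by decide)) hp hb, mul_inv_cancel_right]
  have h := torus_conj_xg c6 hs c (1 : F)
  have h' := congrArg (fm z f) h
  have hH : torus chevE6 c ∈ chevE6.group F := (tw f).S.H_le_group (torus_mem_H c6 c)
  rw [fm_mul f (mul_mem hH (xg_mem_group c6 _ _)) (inv_mem hH), fm_mul f hH (xg_mem_group c6 _ _),
    show fm z f (torus chevE6 c)⁻¹ = (fm z f (torus chevE6 c))⁻¹ by
      unfold fm; rw [(tw f).sg_inv hH]; group, hc, e, e, torus_conj_xg c6 hp] at h'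
  have h'' := StBasic.xg_inj c6 hp h'
  apply Units.ext
  rw [one_pow, mul_one, mul_one, mul_comm] at h''
  rw [Units.val_pow_eq_pow_val]
  exact mul_left_cancel₀ (zpow_ne_zero _ hb) h''

theorem tchar_add (c : Fin chevE6.rank → Fˣ) {a b s : ℕ}
    (h : ∀ i < 6, chevE6.cartan i s = chevE6.cartan i a + chevE6.cartan i b) :
    tchar chevE6 c s = tchar chevE6 c a * tchar chevE6 c b := by
  rw [tchar, tchar, tchar, ← Finset.prod_mul_distrib]
  exact Finset.prod_congr rfl fun i _ => by rw [h i.val i.isLt, zpow_add]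

theorem tchar_zero (c : Fin chevE6.rank → Fˣ) {a b : ℕ}
    (h : ∀ i < 6, chevE6.cartan i a + chevE6.cartan i b = 0) : tchar chevE6 c a * tchar chevE6 c b = 1 := by
  rw [tchar, tchar, ← Finset.prod_mul_distrib]
  exact Finset.prod_eq_one fun i _ => by rw [← zpow_add, h i.val i.isLt, zpow_zero]

theorem pi_roots :
    chevE6.reflectRoot 0 (chevE6.simple (ChevalleyGraph.symE6.pi 0)) = chevE6.simple 5 ∧
    chevE6.reflectRoot 0 (chevE6.simple (ChevalleyGraph.symE6.pi 1)) = chevE6.simple 1 ∧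
    chevE6.reflectRoot 0 (chevE6.simple (ChevalleyGraph.symE6.pi 2)) = chevE6.simple 4 ∧
    chevE6.reflectRoot 0 (chevE6.simple (ChevalleyGraph.symE6.pi 3)) = chevE6.simple 3 ∧
    (∀ i < 6, chevE6.cartan i (chevE6.reflectRoot 0 (chevE6.simple (ChevalleyGraph.symE6.pi 4))) =
      chevE6.cartan i (chevE6.simple 0) + chevE6.cartan i (chevE6.simple 2)) ∧
    ∀ i < 6, chevE6.cartan i (chevE6.simple 0) +
      chevE6.cartan i (chevE6.reflectRoot 0 (chevE6.simple (ChevalleyGraph.symE6.pi 5))) = 0 := by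
  decide +kernel

variable [Fintype F] (h16 : Fintype.card F = 16)

include h2 hz5 hz1 hf h16 in
theorem torus_fixed {v : GL chevE6.Idx F} (hv : v ∈ chevE6.diagonalSubgroup F) (hfix : fm z f v = v) :
    ∃ k : ℕ, v = hh z ^ k := by
  classical
  obtain ⟨u, rfl⟩ : ∃ u : Fˣ, (u : F) = z := ⟨Units.mk0 z (z_ne hz5), rfl⟩
  have hu : u ^ 5 = 1 := Units.ext (by simpa using hz5)
  have hu1 : u ≠ 1 := fun h => hz1 (by rw [h, Units.val_one])
  haveI : Fact (Nat.Prime 5) := ⟨by norm_num⟩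
  obtain ⟨c, rfl⟩ := (mem_H_iff c6).1 hv
  obtain ⟨p0, p1, p2, p3, p4, p5⟩ := pi_roots
  have hh' := fun i (hi : i < 6) => tchar_fm h2 hz5 hz1 f hf hfix hi
  have g0 := hh' 0 (by norm_num); have g1 := hh' 1 (by norm_num); have g2 := hh' 2 (by norm_num)
  have g3 := hh' 3 (by norm_num); have g4 := hh' 4 (by norm_num); have g5 := hh' 5 (by norm_num)
  rw [p0] at g0; rw [p1] at g1; rw [p2] at g2; rw [p3] at g3
  rw [tchar_add c p4] at g4
  have g5' := tchar_zero c p5
  rw [g5] at g5'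
  set a0 := tchar chevE6 c (chevE6.simple 0) with ha0
  set a1 := tchar chevE6 c (chevE6.simple 1) with ha1
  set a2 := tchar chevE6 c (chevE6.simple 2) with ha2
  set a3 := tchar chevE6 c (chevE6.simple 3) with ha3
  set a4 := tchar chevE6 c (chevE6.simple 4) with ha4
  set a5 := tchar chevE6 c (chevE6.simple 5) with ha5
  have e1 : a1 = 1 := by rw [pow_two] at g1; exact left_eq_mul.mp g1
  have e3 : a3 = 1 := by rw [pow_two] at g3; exact left_eq_mul.mp g3
  rw [g2, ← pow_mul] at g4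
  rw [g0, ← pow_mul, ← pow_succ'] at g5'
  have e0 : a0 = a2 ^ 3 := mul_right_cancel (b := a2) (g4.trans (pow_succ a2 3))
  have h15 : ∀ y : Fˣ, y ^ 15 = 1 := fun y => by
    have := pow_card_eq_one (x := y)
    rwa [Fintype.card_units, h16] at this
  have e2 : a2 ^ 5 = 1 := by
    obtain ⟨t0, -, t2, -, t4, t5⟩ := tchar_simples c
    rw [← ha0] at t0; rw [← ha2] at t2; rw [← ha4] at t4; rw [← ha5] at t5
    have hc : a0 * a2 ^ 2 * a4 * a5 ^ 2 = (c (nd 2) * c (nd 5) * (c (nd 3))⁻¹) ^ 3 := by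
      rw [t0, t2, t4, t5]
      simp only [mul_pow, inv_pow, ← pow_mul, mul_inv]
      apply Units.ext
      push_cast
      field_simp
    rw [g0, g2, e0] at hc
    have h19 : a2 ^ 19 = (c (nd 2) * c (nd 5) * (c (nd 3))⁻¹) ^ 3 := by
      rw [← hc, ← pow_mul, ← pow_mul, ← pow_add, ← pow_add, ← pow_add]
    have h95 : a2 ^ (19 * 5) = 1 := by rw [pow_mul, h19, ← pow_mul, h15]
    rwa [show 19 * 5 = 15 * 6 + 5 from rfl, pow_add, pow_mul, h15, one_pow, one_mul] at h95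
  have hord : orderOf u = 5 := orderOf_eq_prime hu hu1
  have hprim : IsPrimitiveRoot (u : F) 5 := by
    rw [IsPrimitiveRoot.coe_units_iff, ← hord]
    exact IsPrimitiveRoot.orderOf u
  obtain ⟨i, -, hi⟩ := hprim.eq_pow_of_pow_eq_one (ξ := (a2 : F))
    (by rw [← Units.val_pow_eq_pow_val, e2, Units.val_one])
  have hi' : u ^ i = a2 := Units.ext (by rw [Units.val_pow_eq_pow_val, hi])
  refine ⟨4 * i, ?_⟩
  have ht : ∀ s, tchar chevE6 (cv u ^ (4 * i)) s = (u ^ val s) ^ (4 * i) := by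
    intro s
    generalize 4 * i = k
    induction k with
    | zero => simp [tchar_one]
    | succ k ih => rw [pow_succ, tchar_mul, ih, tchar_cv hu, ← pow_succ]
  rw [hh_eq, ← map_pow]
  have key : ∀ s, s ∈ [chevE6.simple 0, chevE6.simple 1, chevE6.simple 2, chevE6.simple 3, chevE6.simple 4,
      chevE6.simple 5] → tchar chevE6 (cv u ^ (4 * i)) s = tchar chevE6 c s := by
    intro s hs
    have v0 : val (chevE6.simple 0) = 2 ∧ val (chevE6.simple 1) = 0 ∧ val (chevE6.simple 2) = 4 ∧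
        val (chevE6.simple 3) = 0 ∧ val (chevE6.simple 4) = 3 ∧ val (chevE6.simple 5) = 4 := by decide +kernel
    obtain ⟨v0, v1, v2, v3, v4, v5⟩ := v0
    have red : ∀ n, u ^ n = u ^ (n % 5) := fun n => by rw [← hord, pow_mod_orderOf]
    simp only [List.mem_cons, List.not_mem_nil, or_false] at hs
    rcases hs with rfl | rfl | rfl | rfl | rfl | rfl <;> rw [ht]
    · rw [v0, ← ha0, e0, ← hi', ← pow_mul, ← pow_mul, red (2 * (4 * i)), red (i * 3)]; congr 1; omega
    · rw [v1, ← ha1, e1, pow_zero, one_pow]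
    · rw [v2, ← ha2, ← hi', ← pow_mul, red (4 * (4 * i)), red i]; congr 1; omega
    · rw [v3, ← ha3, e3, pow_zero, one_pow]
    · rw [v4, ← ha4, g2, ← hi', ← pow_mul, ← pow_mul, red (3 * (4 * i)), red (i * 2)]; congr 1; omega
    · rw [v5, ← ha5, g0, e0, ← hi', ← pow_mul, ← pow_mul, ← pow_mul, red (4 * (4 * i)), red (i * (3 * 2))]
      congr 1; omega
  rw [← mul_inv_eq_one, ← map_inv, ← map_mul, torus_eq_one_iff c6]
  intro j
  have hinv : tchar chevE6 (cv u ^ (4 * i))⁻¹ (chevE6.simple j.val) =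
      (tchar chevE6 (cv u ^ (4 * i)) (chevE6.simple j.val))⁻¹ :=
    eq_inv_of_mul_eq_one_left (by rw [← tchar_mul, inv_mul_cancel, tchar_one])
  rw [tchar_mul, hinv, key _ (by fin_cases j <;> simp), mul_inv_cancel]

/-! ### the Bruhat normal form -/

/-- the normal form of a group element commuting with a torus element -/
theorem commute_form' (T : Twist c6 F) (c : Fin chevE6.rank → Fˣ) {y : GL chevE6.Idx F}
    (hy : y ∈ chevE6.group F) (h : torus chevE6 c * y = y * torus chevE6 c) :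
    ∃ w : T.X.W, (∀ r < chevE6.nroots, tchar chevE6 c (T.X.img w r) = tchar chevE6 c r) ∧
      ∀ m : ↥(chevE6.monomialSubgroup F), T.S.toW m = w →
        ∃ (h₀ : GL chevE6.Idx F) (t t' : ℕ → F), h₀ ∈ chevE6.diagonalSubgroup F ∧
          ((fixRoots chevE6 c).map fun r => xg c6 r (t' r)).prod ∈ T.S.Uw w ∧
          y = h₀ * ((fixRoots chevE6 c).map fun r => xg c6 r (t r)).prod * m *
            ((fixRoots chevE6 c).map fun r => xg c6 r (t' r)).prod := by
  classical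
  let S : Sys chevE6 F := T.S
  set τ := torus chevE6 c with hτ
  have hτH : τ ∈ chevE6.diagonalSubgroup F := torus_mem_H c6 c
  obtain ⟨b, hb, n, u, hu, rfl⟩ := S.exists_cell_form hy
  have h' : τ * (b * n * u) * τ⁻¹ = b * n * u := by rw [h]; group
  have hh : τ * n * τ⁻¹ * (n : GL chevE6.Idx F)⁻¹ ∈ chevE6.diagonalSubgroup F := by
    rw [show τ * n * τ⁻¹ * (n : GL chevE6.Idx F)⁻¹ = τ * (n * τ⁻¹ * (n : GL chevE6.Idx F)⁻¹) by group]
    exact mul_mem hτH (S.conj_H (S.acts_toW n) (inv_mem hτH))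
  set h₁ := τ * n * τ⁻¹ * (n : GL chevE6.Idx F)⁻¹ with hh₁
  have hu' : τ * u * τ⁻¹ ∈ S.Uw (S.toW n) := by
    refine Sys.conj_closure_le (T := {g : GL chevE6.Idx F | ∃ r a, r ∈ S.X.invSet (S.toW n) ∧ g = S.xg r a}) τ ?_ hu
    rintro x ⟨r, a, hr, rfl⟩
    exact Subgroup.subset_closure ⟨r, _, hr, torus_conj_xg c6 (S.X.mem_invSet.mp hr).1.1 c a⟩
  have hbB : τ * b * τ⁻¹ * h₁ ∈ chevE6.borelSubgroup F :=
    mul_mem (mul_mem (mul_mem (Sys.H_le_B hτH) hb) (inv_mem (Sys.H_le_B hτH))) (Sys.H_le_B hh)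
  have he : (τ * b * τ⁻¹ * h₁) * n * (τ * u * τ⁻¹) = b * n * u := by
    conv_rhs => rw [← h']
    rw [hh₁]; group
  obtain ⟨e1, e2⟩ := S.form_unique n hbB hb hu' hu he
  have e2' : τ * u = u * τ := mul_inv_eq_iff_eq_mul.1 e2
  obtain ⟨h₀, hh₀, u₀, hu₀, rfl⟩ := S.mem_B_iff.1 hb
  have hU : τ * u₀ * τ⁻¹ ∈ chevE6.posUnipotent F :=
    (Subgroup.mem_normalizer_iff.1 (H_le_normalizer_U c6 hτH) u₀).1 hu₀
  have e3 : h₀ * (τ * u₀ * τ⁻¹) * h₁ = h₀ * u₀ := by
    conv_rhs => rw [← e1]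
    have : τ * h₀ = h₀ * τ := H_comm c6 hτH hh₀
    rw [← mul_assoc τ h₀ u₀, this]; group
  have e3' : (τ * u₀ * τ⁻¹) * h₁ = u₀ := mul_left_cancel ((mul_assoc _ _ _).symm.trans e3)
  have h11 : h₁ = 1 := by
    have h5 : h₁ = (τ * u₀ * τ⁻¹)⁻¹ * u₀ := eq_inv_mul_of_mul_eq e3'
    have := Subgroup.mem_inf.2 ⟨mul_mem (inv_mem hU) hu₀, h5 ▸ hh⟩
    rwa [U_inf_H c6, Subgroup.mem_bot, ← h5] at this
  rw [h11, mul_one] at e3'
  have e3'' : τ * u₀ = u₀ * τ := mul_inv_eq_iff_eq_mul.1 e3'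
  refine ⟨S.toW n, fun r hr => ?_, fun m hmw => ?_⟩
  · obtain ⟨d, hd, h1, -⟩ := S.acts_toW n r hr
    have hn : τ * n = n * τ := by
      calc τ * (n : GL chevE6.Idx F) = h₁ * n * τ := by rw [hh₁]; group
        _ = n * τ := by rw [h11, one_mul]
    have k1 : τ * (n * S.xg r 1 * (n : GL chevE6.Idx F)⁻¹) * τ⁻¹ =
        n * (τ * S.xg r 1 * τ⁻¹) * (n : GL chevE6.Idx F)⁻¹ := by
      have : (n : GL chevE6.Idx F)⁻¹ * τ⁻¹ = τ⁻¹ * (n : GL chevE6.Idx F)⁻¹ := by
        rw [← mul_inv_rev, ← mul_inv_rev, hn]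
      rw [show τ * (n * S.xg r 1 * (n : GL chevE6.Idx F)⁻¹) * τ⁻¹ =
        τ * n * S.xg r 1 * ((n : GL chevE6.Idx F)⁻¹ * τ⁻¹) by group, this, hn]
      group
    have e6 : ∀ s, s < chevE6.nroots → ∀ a, τ * S.xg s a * τ⁻¹ = S.xg s ((tchar chevE6 c s : F) * a) :=
      fun s hs a => torus_conj_xg c6 hs c a
    rw [h1, e6 _ (S.X.img_lt _ hr), e6 _ hr, h1] at k1
    have k2 := (S.xg_inj _ _ (S.X.img_lt _ hr) (S.X.img_lt _ hr) _ _
      (mul_ne_zero (Units.ne_zero _) (mul_ne_zero hd one_ne_zero)) k1).2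
    exact Units.ext (mul_right_cancel₀ hd (by linear_combination k2))
  · have hH := S.toW_eq_iff.mp hmw
    set k := (n : GL chevE6.Idx F) * (m : GL chevE6.Idx F)⁻¹ with hk
    have hkH : k ∈ chevE6.diagonalSubgroup F := by
      have := S.conj_H (S.acts_toW m) hH
      have e7 : (m : GL chevE6.Idx F) * ((m : GL chevE6.Idx F)⁻¹ * (n : GL chevE6.Idx F)) *
          (m : GL chevE6.Idx F)⁻¹ = k := by
        rw [hk]; group
      rwa [e7] at this
    set u₂ := k⁻¹ * u₀ * k with hu₂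
    have hu₂U : u₂ ∈ chevE6.posUnipotent F := by
      have := (Subgroup.mem_normalizer_iff.1 (H_le_normalizer_U c6 (inv_mem hkH)) u₀).1 hu₀
      rwa [inv_inv] at this
    have hform : h₀ * u₀ * (n : GL chevE6.Idx F) * u = h₀ * k * u₂ * m * u := by
      rw [hu₂, hk]; group
    have e4 : τ * u₂ = u₂ * τ := by
      rw [hu₂]
      calc τ * (k⁻¹ * u₀ * k) = (τ * k⁻¹) * u₀ * k := by group
        _ = k⁻¹ * (τ * u₀) * k := by rw [H_comm c6 hτH (inv_mem hkH)]; group
        _ = k⁻¹ * u₀ * (τ * k) := by rw [e3'']; group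
        _ = _ := by rw [H_comm c6 hτH hkH]; group
    obtain ⟨t, ht⟩ := fixed_U c6 c hu₂U e4
    obtain ⟨t', ht'⟩ := fixed_U c6 c (S.Uw_le_U _ hu) e2'
    exact ⟨h₀ * k, t, t', mul_mem hh₀ hkH, ht' ▸ hu, by rw [← ht, ← ht', hform]⟩

/-- the subsystem group over the prime field -/
noncomputable def sub : Subgroup (GL chevE6.Idx F) :=
  Subgroup.closure {g | ∃ r ∈ allL, g = xg c6 r (1 : F)}

theorem xg_mem_sub {r : ℕ} (hr : r ∈ allL) : xg c6 r (1 : F) ∈ (sub : Subgroup (GL chevE6.Idx F)) :=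
  Subgroup.subset_closure ⟨r, hr, rfl⟩

include h2 in
theorem ng_mem_sub {r : ℕ} (hr : r ∈ allL) : ng c6 r (1 : F) ∈ (sub : Subgroup (GL chevE6.Idx F)) := by
  rw [ng, inv_one, neg_eq h2]
  exact mul_mem (mul_mem (xg_mem_sub hr) (xg_mem_sub (all_facts r hr).2.1)) (xg_mem_sub hr)

/-- the words of the reflections -/
def letterF : ℕ → List (Fin chevE6.rank)
  | 0 => [nd 3]
  | 1 => [nd 1]
  | _ => [nd 2, nd 0, nd 4, nd 3, nd 1, nd 2, nd 3, nd 4] ++ [nd 5] ++
      [nd 2, nd 0, nd 4, nd 3, nd 1, nd 2, nd 3, nd 4].reverse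

/-- the roots of the reflections -/
def lroot : ℕ → ℕ
  | 0 => 39
  | 1 => 46
  | _ => 69

theorem letterF_val : ∀ j, (letterF j).map (fun i => i.val) = letter j
  | 0 => rfl
  | 1 => rfl
  | _ + 2 => rfl

theorem lroot_mem : ∀ j, lroot j ∈ allL
  | 0 => by decide
  | 1 => by decide
  | _ + 2 => by show (69 : ℕ) ∈ allL; decide

include h2 in
theorem nl_letter : ∀ j, nl (F := F) (letterF j) = ng c6 (lroot j) 1
  | 0 => by
    have h : chevE6.simple (nd 3).val = 39 := by decide +kernel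
    simp only [nl, letterF, lroot, List.map_cons, List.map_nil, List.prod_cons, List.prod_nil, mul_one, h]
  | 1 => by
    have h : chevE6.simple (nd 1).val = 46 := by decide +kernel
    simp only [nl, letterF, lroot, List.map_cons, List.map_nil, List.prod_cons, List.prod_nil, mul_one, h]
  | j + 2 => by
    set P : List (Fin chevE6.rank) := [nd 2, nd 0, nd 4, nd 3, nd 1, nd 2, nd 3, nd 4] with hP
    have hf : P.foldr (fun i x => chevE6.reflectRoot i.val x) (chevE6.simple (nd 5).val) = 69 := by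
      decide +kernel
    have hrev : nl (F := F) P.reverse = (nl P)⁻¹ := by
      rw [nl, nl, List.prod_inv_reverse, List.map_reverse, List.map_map]
      congr 2
      exact List.map_congr_left fun i _ => (ng_inv_self h2 _ _).symm
    have e : nl (F := F) (P ++ [nd 5] ++ P.reverse) = nl P * ng c6 (chevE6.simple (nd 5).val) 1 * nl P.reverse := by
      simp [nl, List.map_append, List.prod_append, mul_assoc]
    show nl (P ++ [nd 5] ++ P.reverse) = ng c6 69 1
    rw [e, hrev, nl_conj_ng h2 (simple_lt c6 (nd 5).isLt), hf]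

open Classical in
include h2 hz5 hz1 hf h16 in
/-- The fixed points in the centraliser. -/
theorem normal_form {v : GL chevE6.Idx F} (hv : v ∈ chevE6.group F) (hfix : fm z f v = v)
    (hc : hh z * v = v * hh z) : ∃ k : ℕ, ∃ w ∈ (sub : Subgroup (GL chevE6.Idx F)), v = hh z ^ k * w := by
  obtain ⟨u, rfl⟩ : ∃ u : Fˣ, (u : F) = z := ⟨Units.mk0 z (z_ne hz5), rfl⟩
  have hu : u ^ 5 = 1 := Units.ext (by simpa using hz5)
  have hu1 : u ≠ 1 := fun h => hz1 (by rw [h, Units.val_one])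
  haveI : Fact (Nat.Prime 5) := ⟨by norm_num⟩
  have hord : orderOf u = 5 := orderOf_eq_prime hu hu1
  set T := tw f with hT
  rw [hh_eq] at hc
  obtain ⟨w, hw, hrest⟩ := commute_form' T (cv u) hv hc
  have hlist : fixRoots chevE6 (cv u) = fixL := by
    rw [← fix_eq]
    refine List.filter_congr fun r hr => ?_
    have hr' : r < 72 := by
      have := List.mem_range'_1.1 hr
      have : chevE6.nroots = 72 := rfl
      omega
    rw [Bool.eq_iff_iff, decide_eq_true_iff, beq_iff_eq, tchar_cv hu, ← orderOf_dvd_iff_pow_eq_one, hord]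
    exact ⟨fun h => Nat.eq_zero_of_dvd_of_lt h (val_lt r hr'), fun h => by simp [h]⟩
  have hval : ∀ r < 72, val (T.X.img w r) = val r := by
    intro r hr
    have h := hw r hr
    rw [tchar_cv hu, tchar_cv hu] at h
    exact pow_injOn_Iio_orderOf (hord.symm ▸ val_lt _ (T.X.img_lt _ hr)) (hord.symm ▸ val_lt r hr) h
  obtain ⟨ms, -, hms⟩ := E6Five14Weyl.exists_word T w hval
  have hmap : ((ms.map letterF).flatten).map (fun i => i.val) = expand ms := by
    rw [List.map_flatten, List.map_map, expand]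
    exact congrArg List.flatten (List.map_congr_left fun j _ => letterF_val j)
  have hwd := hms _ hmap
  obtain ⟨hmN, hmW⟩ := T.toW_prod_ng ((ms.map letterF).flatten.map fun i => (i, (1 : Fˣ)))
  have hm : (((ms.map letterF).flatten.map fun i => (i, (1 : Fˣ))).map fun p =>
      ng c6 (chevE6.simple p.1.val) (p.2 : F)).prod = (ms.map fun j => ng c6 (lroot j) (1 : F)).prod := by
    rw [List.map_map, show ((fun p : Fin chevE6.rank × Fˣ => ng c6 (chevE6.simple p.1.val) (p.2 : F)) ∘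
      fun i => (i, (1 : Fˣ))) = fun i => ng c6 (chevE6.simple i.val) (1 : F) from by funext i; simp,
      List.map_flatten, List.prod_flatten, List.map_map, List.map_map]
    exact congrArg List.prod (List.map_congr_left fun j _ => nl_letter h2 j)
  have hmW1 : T.S.toW ⟨_, hmN⟩ = w := by
    rw [hmW, hwd, List.map_map, show (Prod.fst ∘ fun i : Fin chevE6.rank => (i, (1 : Fˣ))) = id from rfl, List.map_id]
  obtain ⟨h₀, t, t', hh₀, ht', hy⟩ := hrest ⟨_, hmN⟩ hmW1
  rw [hlist] at ht' hy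
  simp only [hm] at hy
  set m := (ms.map fun j => ng c6 (lroot j) (1 : F)).prod with hmdef
  set U := fun s : ℕ → F => (fixL.map fun r => xg c6 r (s r)).prod with hUdef
  have hUg : ∀ s : ℕ → F, U s ∈ chevE6.group F := fun s => Subgroup.list_prod_mem _ (by
    intro g hg
    obtain ⟨r, -, rfl⟩ := List.mem_map.1 hg
    exact xg_mem_group c6 _ _)
  have hUU : ∀ s : ℕ → F, U s ∈ chevE6.posUnipotent F := fun s => Subgroup.list_prod_mem _ (by
    intro g hg
    obtain ⟨r, hr, rfl⟩ := List.mem_map.1 hg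
    exact xg_mem_U c6 ((by decide : ∀ r ∈ fixL, chevE6.nroots / 2 ≤ r) r hr) (all_facts r (fix_sub r hr)).1 _)
  have hUF : ∀ s : ℕ → F, fm (u : F) f (U s) = U fun r => s r ^ 2 := fun s => by
    rw [hUdef, fm_list f _ (by intro g hg; obtain ⟨r, -, rfl⟩ := List.mem_map.1 hg; exact xg_mem_group c6 _ _),
      List.map_map]
    exact congrArg List.prod (List.map_congr_left fun r hr => fm_root h2 f hf (fix_sub r hr) _)
  have hmF : fm (u : F) f m = m := by
    rw [hmdef, fm_list f _ (by intro g hg; obtain ⟨r, -, rfl⟩ := List.mem_map.1 hg; exact Twist.ng_mem_group _ _),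
      List.map_map]
    exact congrArg List.prod (List.map_congr_left fun r _ => fm_ng h2 f hf (lroot_mem r))
  have hmg : m ∈ chevE6.group F := Subgroup.list_prod_mem _ (by
    intro g hg; obtain ⟨r, -, rfl⟩ := List.mem_map.1 hg; exact Twist.ng_mem_group _ _)
  have hh₀g : h₀ ∈ chevE6.group F := T.S.H_le_group hh₀
  have e : fm (u : F) f h₀ * (U fun r => t r ^ 2) * m * (U fun r => t' r ^ 2) = h₀ * U t * m * U t' := by
    rw [← hUF, ← hUF]
    conv_lhs => arg 1; arg 2; rw [← hmF]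
    rw [← fm_mul f hh₀g (hUg t), ← fm_mul f (mul_mem hh₀g (hUg t)) hmg,
      ← fm_mul f (mul_mem (mul_mem hh₀g (hUg t)) hmg) (hUg t')]
    exact (hy ▸ hfix : fm (u : F) f (h₀ * U t * m * U t') = h₀ * U t * m * U t')
  have hσ : Function.Bijective f := Finite.injective_iff_bijective.1 f.injective
  let σ : F ≃+* F := RingEquiv.ofBijective f hσ
  have ht'2 : (U fun r => t' r ^ 2) ∈ T.S.Uw w := by
    have h := ChevFieldAut77.psi_mem_Uw c6 T.S σ ht'
    convert h using 1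
    rw [hUdef, map_list_prod, List.map_map]
    refine congrArg List.prod (List.map_congr_left fun r hr => ?_)
    rw [Function.comp_apply]
    have := ChevFieldAut77.psi_xg c6 T.S σ (all_facts r (fix_sub r hr)).1 (t' r)
    exact ((hf (t' r)).symm ▸ this : _).symm
  have hmN' : m ∈ chevE6.monomialSubgroup F := hm ▸ hmN
  have hmW' : T.S.toW ⟨m, hmN'⟩ = w := by
    rw [← hmW1]; congr 1; exact Subtype.ext hm.symm
  obtain ⟨eb, eu⟩ := T.S.form_unique ⟨m, hmN'⟩
    (mul_mem (Sys.H_le_B (fm_H h2 hz5 hz1 f hh₀)) (Sys.U_le_B (hUU fun r => t r ^ 2)))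
    (mul_mem (Sys.H_le_B hh₀) (Sys.U_le_B (hUU t))) (hmW'.symm ▸ ht'2) (hmW'.symm ▸ ht') e
  have hi : h₀⁻¹ * fm (u : F) f h₀ = U t * (U fun r => t r ^ 2)⁻¹ := by
    rw [eq_mul_inv_iff_mul_eq, mul_assoc, eb, inv_mul_cancel_left]
  have h0fix : fm (u : F) f h₀ = h₀ := by
    have h := Subgroup.mem_inf.2 ⟨mul_mem (hUU t) (inv_mem (hUU fun r => t r ^ 2)),
      hi ▸ mul_mem (inv_mem hh₀) (fm_H h2 hz5 hz1 f hh₀)⟩
    rw [U_inf_H c6, Subgroup.mem_bot, ← hi, inv_mul_eq_one] at h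
    exact h.symm
  rw [h0fix] at eb
  have hUinj : ∀ s : ℕ → F, (U fun r => s r ^ 2) = U s → ∀ r ∈ fixL, s r = 0 ∨ s r = 1 := by
    intro s hs r hr
    have ext : ∀ s : ℕ → F, U s = uProd c6 (chevE6.nroots / 2) (fun r => if r ∈ fixL then s r else 0) := by
      intro s
      rw [hUdef, uProd, prod_map_filter _ (fun r => val r == 0)]
      · rw [show chevE6.nroots / 2 = 36 from rfl, show chevE6.nroots - 36 = 36 from rfl, fix_eq]
        exact congrArg List.prod (List.map_congr_left fun r hr => by rw [if_pos hr])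
      · intro r hr hv
        rw [if_neg (fun h => ?_), xg_zero]
        rw [← fix_eq, List.mem_filter] at h
        rw [h.2] at hv
        exact Bool.noConfusion hv
    rw [ext, ext] at hs
    have hb := (by decide : ∀ r ∈ fixL, chevE6.nroots / 2 ≤ r ∧ r < 72) r hr
    have := uProd_inj c6 le_rfl hs r hb.1 hb.2
    simp only [if_pos hr] at this
    rcases eq_or_ne (s r) 0 with h0 | h0
    · exact Or.inl h0
    · exact Or.inr (mul_right_cancel₀ h0 (by rw [one_mul, ← pow_two]; exact this))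
  have hUsub : ∀ s : ℕ → F, (∀ r ∈ fixL, s r = 0 ∨ s r = 1) → U s ∈ (sub : Subgroup (GL chevE6.Idx F)) :=
    fun s hs => Subgroup.list_prod_mem _ (by
      intro g hg
      obtain ⟨r, hr, rfl⟩ := List.mem_map.1 hg
      rcases hs r hr with h | h
      · rw [h, xg_zero]; exact one_mem _
      · rw [h]; exact xg_mem_sub (fix_sub r hr))
  have hmsub : m ∈ (sub : Subgroup (GL chevE6.Idx F)) := Subgroup.list_prod_mem _ (by
    intro g hg; obtain ⟨r, -, rfl⟩ := List.mem_map.1 hg; exact ng_mem_sub h2 (lroot_mem r))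
  obtain ⟨k, hk⟩ := torus_fixed h2 hz5 hz1 f hf h16 hh₀ h0fix
  refine ⟨k, U t * m * U t', mul_mem (mul_mem (hUsub t (hUinj t (mul_left_cancel eb))) hmsub)
    (hUsub t' (hUinj t' eu)), ?_⟩
  rw [← hk, hy]
  simp only [hUdef, mul_assoc]

end Cfsg.Agent.E6Five14Fix
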