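import Cfsg.Agent.Lib.StBruhat
import Cfsg.Prelude.Def_SteinbergCover
import Cfsg.Prelude.Def_Steinberg

/-!
The presented groups `SteinbergCover` and `SteinbergGroup` as Steinberg systems.
-/

set_option autoImplicit false
set_option linter.unusedSectionVars false

namespace Cfsg.Agent.StGroup

open Cfsg.Lie Cfsg.Agent.ChevalleyEngine Cfsg.Agent.ChevalleyCert Cfsg.Agent.ChevalleyRoots
open Cfsg.Agent.ChevalleyCore Cfsg.Agent.StBasic

variable {D : ChevalleyDatum} (C : Cert D) (K : Type*) [Field K]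

/-- the map of the free group to the Chevalley group -/
def φ : FreeGroup (Fin D.nroots × K) →* GL D.Idx K := FreeGroup.lift fun p => xg C p.1.val p.2

theorem φ_stX {r : ℕ} (hr : r < D.nroots) (t : K) : φ C K (D.stX r t) = xg C r t := by
  rw [ChevalleyDatum.stX, dif_pos hr, φ, FreeGroup.lift_apply_of]

theorem φ_stWord {w : List (ℕ × K)} (hw : ∀ p ∈ w, p.1 < D.nroots) : φ C K (D.stWord w) = wg C w := by
  rw [ChevalleyDatum.stWord, map_list_prod, List.map_map, wg]
  exact congrArg List.prod (List.map_congr_left fun p hp => φ_stX C K (hw p hp) p.2)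

include C in
theorem commWord_lt {r s : ℕ} (hr : r < D.nroots) (hs : s < D.nroots) (t u : K) :
    ∀ p ∈ D.commWord K r s t u, p.1 < D.nroots := by
  intro p hp
  obtain ⟨c, hc, rfl⟩ := List.mem_map.1 hp
  exact (commTerms_mem C hr hs hc).1

theorem φ_stH {r : ℕ} (hr : r < D.nroots) (t : K) : φ C K (D.stH r t) = hg C r t := by
  rw [ChevalleyDatum.stH, φ_stWord C K (by
    intro p hp
    simp only [ChevalleyDatum.hWord, ChevalleyDatum.nWord, List.mem_append, List.mem_cons,
      List.not_mem_nil, or_false] at hp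
    rcases hp with (rfl | rfl | rfl) | rfl | rfl | rfl
    exacts [hr, C.neg_lt r, hr, hr, C.neg_lt r, hr])]
  simp [wg, hg, ng, ChevalleyDatum.hWord, ChevalleyDatum.nWord, mul_assoc]

theorem φ_rels : ∀ g ∈ D.steinbergRels K, φ C K g = 1 := by
  rintro g ((⟨r, a, b, hr, rfl⟩ | ⟨r, s, t, u, hr, hs, h1, h2, rfl⟩) | ⟨r, a, b, hr, ha, hb, rfl⟩)
  · rw [map_mul, map_mul, map_inv, φ_stX C K hr, φ_stX C K hr, φ_stX C K hr, xg_mul, mul_inv_cancel]
  · simp only [map_mul, map_inv, φ_stX C K hr, φ_stX C K hs, φ_stWord C K (commWord_lt C K hr hs t u)]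
    rw [mul_inv_eq_one, mul_assoc _ (xg C s u), comm_formula C hr hs h1 h2 t u]
    group
  · rw [map_mul, map_mul, map_inv, φ_stH C K hr, φ_stH C K hr, φ_stH C K hr, hg_mul C hr ha hb,
      mul_inv_cancel]

theorem relsAB_subset : D.steinbergRelsAB K ⊆ D.steinbergRels K := fun _ h => Or.inl h

variable {R : Set (FreeGroup (Fin D.nroots × K))} (hAB : D.steinbergRelsAB K ⊆ R)
  (hR : R ⊆ D.steinbergRels K)

/-- the Steinberg system of a presented group between `SteinbergGroup` and `SteinbergCover` -/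
def sys : Sys C K (PresentedGroup R) where
  x r t := PresentedGroup.mk R (D.stX r t)
  θ := PresentedGroup.toGroup (f := fun p : Fin D.nroots × K => xg C p.1.val p.2) fun g hg => φ_rels C K g (hR hg)
  x_add r hr t u := by
    have h := PresentedGroup.one_of_mem (rels := R) (hAB (Or.inl ⟨r, t, u, hr, rfl⟩))
    rw [map_mul, map_mul, map_inv, mul_inv_eq_one] at h
    exact h
  comm r s hr hs h1 h2 t u := by
    have h := PresentedGroup.one_of_mem (rels := R) (hAB (Or.inr ⟨r, s, t, u, hr, hs, h1, h2, rfl⟩))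
    simp only [map_mul, map_inv] at h
    rw [mul_inv_eq_one] at h
    have e : PresentedGroup.mk R (D.stWord (D.commWord K r s t u)) =
        ((D.commWord K r s t u).map fun p => PresentedGroup.mk R (D.stX p.1 p.2)).prod := by
      rw [ChevalleyDatum.stWord, map_list_prod, List.map_map]
      rfl
    rw [← e, ← h]
    group
  θ_x r hr t := by
    rw [show D.stX r t = FreeGroup.of ((⟨r, hr⟩ : Fin D.nroots), t) by
      rw [ChevalleyDatum.stX, dif_pos hr]]
    exact PresentedGroup.toGroup.of _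
  gen := by
    rw [eq_top_iff, ← PresentedGroup.closure_range_of R, Subgroup.closure_le]
    rintro g ⟨⟨r, t⟩, rfl⟩
    refine Subgroup.subset_closure ⟨r.val, r.isLt, t, ?_⟩
    rw [ChevalleyDatum.stX, dif_pos r.isLt]
    rfl

theorem range_sys (S : Sys C K (PresentedGroup R)) : S.θ.range = D.group K := by
  rw [MonoidHom.range_eq_map, ← S.gen, MonoidHom.map_closure]
  refine le_antisymm ((Subgroup.closure_le _).2 ?_) ((Subgroup.closure_le _).2 ?_)
  · rintro _ ⟨g, ⟨r, hr, t, rfl⟩, rfl⟩
    rw [S.θ_x r hr]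
    exact xg_mem_group C r t
  · rintro g ⟨⟨r, hr⟩, t, hg⟩
    refine Subgroup.subset_closure ⟨_, ⟨r, hr, t, rfl⟩, ?_⟩
    rw [S.θ_x r hr]
    refine ((xg_eq_iff C).1 ?_).symm
    rw [hg, ChevalleyDatum.x, dif_pos hr]

theorem mk_stH (i : ℕ) (t : K) :
    PresentedGroup.mk R (D.stH (D.simple i) t) = StBasic.h (sys C K hAB hR) i t := by
  simp [ChevalleyDatum.stH, ChevalleyDatum.hWord, ChevalleyDatum.nWord, ChevalleyDatum.stWord,
    StBasic.h, StBasic.n, sys, ChevalleyDatum.neg, mul_assoc]

/-- the system of the group presented by (R1)–(R3) -/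
abbrev sysSt : Sys C K (D.SteinbergGroup K) := sys C K (relsAB_subset K) subset_rfl

/-- the system of the group presented by (R1), (R2) -/
abbrev sysCover : Sys C K (D.SteinbergCover K) := sys C K subset_rfl (relsAB_subset K)

end Cfsg.Agent.StGroup
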