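import Cfsg.Agent.Lib.E6Five14Data
import Cfsg.Agent.S1054
import Cfsg.Agent.S1097
import Cfsg.Agent.S1077

/-!
The Steinberg group of type D4 over the field with two elements: homomorphisms out of it, its simplicity and
a faithful permutation model on the 256 vectors of the eight dimensional space.
-/

set_option autoImplicit false
set_option maxRecDepth 20000

namespace Cfsg.Agent.E6Five14Rep

open Cfsg.Lie Cfsg.Agent.ChevalleyCert Cfsg.Agent.ChevalleyCore

/-- the group -/
abbrev St : Type := chevD4.SteinbergGroup (ZMod 2)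

/-- the certificate -/
noncomputable def c4 : Cert chevD4 := ChevalleyAll.cert chevD4 (by simp)

/-- the generators -/
def sx (r : ℕ) : St := chevD4.stGen (ZMod 2) r 1

/-- products of generators -/
def wd (l : List ℕ) : St := (l.map sx).prod

theorem term_check : (List.range 24).all (fun r => (List.range 24).all fun s =>
    (s == r || s == chevD4.neg r) || (chevD4.commTerms r s).all fun c =>
      decide (c.1 < 24) && decide (c.2.1 % 2 = 1) && decide (c.2.2.1 ≠ 0) && decide (c.2.2.2 ≠ 0)) = true := by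
  decide +kernel

theorem term_facts : ∀ r < 24, ∀ s < 24, s ≠ r → s ≠ chevD4.neg r →
    ∀ c ∈ chevD4.commTerms r s, c.1 < 24 ∧ c.2.1 % 2 = 1 ∧ c.2.2.1 ≠ 0 ∧ c.2.2.2 ≠ 0 := by
  intro r hr s hs h1 h2 c hc
  have h := List.all_eq_true.1 (List.all_eq_true.1 term_check r (List.mem_range.2 hr)) s (List.mem_range.2 hs)
  simp only [Bool.or_eq_true, beq_iff_eq, h1, h2, false_or, List.all_eq_true, Bool.and_eq_true,
    decide_eq_true_eq] at h
  exact ⟨(h c hc).1.1.1, (h c hc).1.1.2, (h c hc).1.2, (h c hc).2⟩

theorem neg_lt : ∀ r < 24, chevD4.neg r < 24 := by decide +kernel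

theorem zmod_two (t : ZMod 2) : t = 0 ∨ t = 1 := by revert t; decide

theorem odd_cast {c : ℤ} (h : c % 2 = 1) : ((c : ℤ) : ZMod 2) = 1 := by
  rw [← Int.emod_add_mul_ediv c 2, h, Int.cast_add, Int.cast_mul, show ((2 : ℤ) : ZMod 2) = 0 from rfl]
  simp

theorem neg_inv_one : (-(1 : ZMod 2)⁻¹) = 1 := by rw [inv_one]; rfl

/-- the images of the generators -/
def gens {Γ : Type*} [Group Γ] (f : ℕ → Γ) (p : Fin chevD4.nroots × ZMod 2) : Γ :=
  if p.2 = 0 then 1 else f p.1.val

/-- A homomorphism out of the group. -/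
theorem exists_hom {Γ : Type*} [Group Γ] (f : ℕ → Γ) (hsq : ∀ r < 24, f r * f r = 1)
    (hcomm : ∀ r < 24, ∀ s < 24, s ≠ r → s ≠ chevD4.neg r →
      f s * f r = f r * f s * ((chevD4.commTerms r s).map fun c => f c.1).prod) :
    ∃ φ : St →* Γ, ∀ r < 24, φ (sx r) = f r := by
  have hX : ∀ r, r < 24 → ∀ t : ZMod 2, FreeGroup.lift (gens f) (chevD4.stX r t) = if t = 0 then 1 else f r := by
    intro r hr t
    rw [ChevalleyDatum.stX, dif_pos (show r < chevD4.nroots from hr), FreeGroup.lift_apply_of]
    rfl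
  have hrels : ∀ g ∈ chevD4.steinbergRels (ZMod 2), FreeGroup.lift (gens f) g = 1 := by
    rintro g ((⟨r, a, b, hr, rfl⟩ | ⟨r, s, t, u, hr, hs, h1, h2, rfl⟩) | ⟨r, a, b, hr, ha, hb, rfl⟩)
    · rw [map_mul, map_mul, map_inv, hX r hr, hX r hr, hX r hr]
      rcases zmod_two a with rfl | rfl <;> rcases zmod_two b with rfl | rfl <;>
        simp [show (1 : ZMod 2) + 1 = 0 from rfl, hsq r hr]
    · have e : FreeGroup.lift (gens f) (chevD4.stWord (chevD4.commWord (ZMod 2) r s t u)) =
          if t = 0 ∨ u = 0 then 1 else ((chevD4.commTerms r s).map fun c => f c.1).prod := by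
        rw [ChevalleyDatum.stWord, ChevalleyDatum.commWord, map_list_prod, List.map_map, List.map_map]
        split_ifs with h
        · refine List.prod_eq_one fun x hx => ?_
          obtain ⟨c, hc, rfl⟩ := List.mem_map.1 hx
          obtain ⟨k1, k2, k3, k4⟩ := term_facts r hr s hs h1 h2 c hc
          simp only [Function.comp_apply]
          rw [hX _ k1, if_pos]
          rcases h with rfl | rfl
          · simp [zero_pow k3]
          · simp [zero_pow k4]
        · push Not at h
          obtain rfl : t = 1 := (zmod_two t).resolve_left h.1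
          obtain rfl : u = 1 := (zmod_two u).resolve_left h.2
          refine congrArg List.prod (List.map_congr_left fun c hc => ?_)
          obtain ⟨k1, k2, k3, k4⟩ := term_facts r hr s hs h1 h2 c hc
          simp only [Function.comp_apply]
          rw [hX _ k1, if_neg]
          rw [odd_cast k2, show (-(1 : ZMod 2)) = 1 from rfl, one_pow, one_pow, one_mul, one_mul]
          exact one_ne_zero
      rw [map_mul, map_mul, map_mul, map_mul, map_inv, map_inv, map_inv, hX r hr, hX s hs, e]
      rcases zmod_two t with rfl | rfl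
      · rcases zmod_two u with rfl | rfl <;> simp
      rcases zmod_two u with rfl | rfl
      · simp
      simp only [one_ne_zero, if_false, or_self]
      have hi : ∀ k < 24, (f k)⁻¹ = f k := fun k hk => inv_eq_of_mul_eq_one_right (hsq k hk)
      rw [mul_inv_eq_one, mul_assoc _ (f s), hcomm r hr s hs h1 h2]
      group
    · obtain rfl : a = 1 := (zmod_two a).resolve_left ha
      obtain rfl : b = 1 := (zmod_two b).resolve_left hb
      have hH : FreeGroup.lift (gens f) (chevD4.stH r (1 : ZMod 2)) = (f r * f (chevD4.neg r) * f r) *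
          (f r * f (chevD4.neg r) * f r) := by
        simp only [ChevalleyDatum.stH, ChevalleyDatum.hWord, ChevalleyDatum.nWord, ChevalleyDatum.stWord,
          List.cons_append, List.nil_append, List.map_cons, List.map_nil, List.prod_cons, List.prod_nil,
          mul_one, map_mul, hX r hr, hX _ (neg_lt r hr), neg_inv_one,
          show (-(1 : ZMod 2)) = 1 from rfl, one_ne_zero, if_false, mul_assoc]
      have h1 : (f r * f (chevD4.neg r) * f r) * (f r * f (chevD4.neg r) * f r) = 1 := by
        calc _ = f r * f (chevD4.neg r) * (f r * f r) * f (chevD4.neg r) * f r := by group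
          _ = f r * (f (chevD4.neg r) * f (chevD4.neg r)) * f r := by rw [hsq r hr]; group
          _ = 1 := by rw [hsq _ (neg_lt r hr), mul_one, hsq r hr]
      rw [map_mul, map_mul, map_inv, one_mul, hH, h1]
      simp
  refine ⟨PresentedGroup.toGroup (f := gens f) hrels, fun r hr => ?_⟩
  exact (hX r hr 1).trans (if_neg one_ne_zero)

theorem mk_stH_one (r : ℕ) (hs : r < chevD4.nroots) :
    PresentedGroup.mk (chevD4.steinbergRels (ZMod 2)) (chevD4.stH r (1 : ZMod 2)) = 1 := by
  have h := PresentedGroup.one_of_mem (rels := chevD4.steinbergRels (ZMod 2))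
    (Or.inr ⟨r, 1, 1, hs, one_ne_zero, one_ne_zero, rfl⟩)
  rw [one_mul, map_mul, map_mul, map_inv, mul_inv_cancel_right] at h
  exact h

theorem simple_transfer {A B : Type*} [Group A] [Group B] [IsSimpleGroup B] (θ : A →* B) (h1 : θ.ker = ⊥)
    (h2 : Function.Surjective θ) : IsSimpleGroup A :=
  (MulEquiv.ofBijective θ ⟨(MonoidHom.ker_eq_bot_iff θ).1 h1, h2⟩).isSimpleGroup

/-- The group is simple. -/
theorem simple : IsSimpleGroup St := by
  obtain ⟨θ, hsurj, -, hθ⟩ := S1077.result (K := ZMod 2) chevD4 (by simp)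
  have hle := S1097.result (K := ZMod 2) chevD4 (by simp) θ hθ
  have hbot : θ.ker = ⊥ := by
    rw [eq_bot_iff]
    refine hle.trans ((Subgroup.closure_le _).2 ?_)
    rintro g ⟨i, t, hi, ht, rfl⟩
    obtain rfl : t = 1 := (zmod_two t).resolve_left ht
    exact mk_stH_one _ (ChevalleyRoots.simple_lt c4 hi)
  have : IsSimpleGroup ↥(chevD4.group (ZMod 2)) := (S1054.result chevD4 (by simp)).1
  exact @simple_transfer _ _ _ _ this θ hbot hsurj

/-- the action on vectors coded by numbers -/
def move (r v : ℕ) : ℕ :=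
  let m := E6Five14Data.moves.getD r ((0, 0), (0, 0))
  let a := cond (v.testBit m.1.1) (2 ^ m.1.2) 0
  let b := cond (v.testBit m.2.1) (2 ^ m.2.2) 0
  Nat.xor (Nat.xor v a) b

theorem move_lt : ∀ r < 24, ∀ v < 256, move r v < 256 ∧ move r (move r v) = v := by decide +kernel

/-- the action on the set of vectors -/
def mv (r : ℕ) (v : Fin 256) : Fin 256 :=
  if h : r < 24 then ⟨move r v, (move_lt r h v v.isLt).1⟩ else v

theorem mv_inv (r : ℕ) : Function.Involutive (mv r) := by
  intro v
  by_cases h : r < 24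
  · simp only [mv, dif_pos h]
    exact Fin.ext (move_lt r h v v.isLt).2
  · simp [mv, h]

/-- the permutations -/
def pm (r : ℕ) : Equiv.Perm (Fin 256) := (mv_inv r).toPerm

/-- evaluation of a word -/
def ev (l : List ℕ) (v : ℕ) : ℕ := l.foldr move v

theorem ev_lt : ∀ l : List ℕ, (∀ r ∈ l, r < 24) → ∀ v, v < 256 → ev l v < 256
  | [], _, _, hv => hv
  | r :: l, h, v, hv => (move_lt r (h r List.mem_cons_self) _
      (ev_lt l (fun s hs => h s (List.mem_cons_of_mem _ hs)) v hv)).1

theorem prod_apply : ∀ l : List ℕ, (∀ r ∈ l, r < 24) → ∀ v : Fin 256,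
    (((l.map pm).prod v : Fin 256) : ℕ) = ev l v
  | [], _, _ => rfl
  | r :: l, h, v => by
    rw [List.map_cons, List.prod_cons, Equiv.Perm.mul_apply]
    show ((mv r ((l.map pm).prod v) : Fin 256) : ℕ) = move r (ev l v)
    rw [mv, dif_pos (h r List.mem_cons_self), ← prod_apply l (fun s hs => h s (List.mem_cons_of_mem _ hs)) v]

theorem move_xor (r a b : ℕ) : move r (a ^^^ b) = move r a ^^^ move r b := by
  apply Nat.eq_of_testBit_eq
  intro i
  simp only [move]
  generalize E6Five14Data.moves.getD r ((0, 0), (0, 0)) = m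
  simp only [Nat.testBit_xor, show ∀ x y : ℕ, Nat.xor x y = x ^^^ y from fun _ _ => rfl]
  cases a.testBit m.1.1 <;> cases b.testBit m.1.1 <;> cases a.testBit m.2.1 <;> cases b.testBit m.2.1 <;>
    simp only [Bool.bne_false, Bool.false_bne, bne_self_eq_false,
      cond_true, cond_false, Nat.zero_testBit] <;>
    cases (2 ^ m.1.2).testBit i <;> cases (2 ^ m.2.2).testBit i <;>
    cases a.testBit i <;> cases b.testBit i <;> rfl

theorem ev_xor : ∀ (l : List ℕ) (a b : ℕ), ev l (a ^^^ b) = ev l a ^^^ ev l b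
  | [], _, _ => rfl
  | r :: l, a, b => by
    show move r (ev l (a ^^^ b)) = _
    rw [ev_xor l a b, move_xor]; rfl

theorem ev_zero (l : List ℕ) : ev l 0 = 0 := by
  have h := ev_xor l 0 0
  rwa [Nat.xor_self, Nat.xor_self] at h

/-- words with the same effect on the unit vectors act equally -/
theorem ev_eq_of_units {a b : List ℕ} (h : ∀ k < 8, ev a (2 ^ k) = ev b (2 ^ k)) :
    ∀ k ≤ 8, ∀ v < 2 ^ k, ev a v = ev b v := by
  intro k
  induction k with
  | zero =>
    intro _ v hv
    obtain rfl : v = 0 := by omega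
    rw [ev_zero, ev_zero]
  | succ k ih =>
    intro hk v hv
    rcases Nat.lt_or_ge v (2 ^ k) with hlt | hge
    · exact ih (by omega) v hlt
    · obtain ⟨u, rfl⟩ : ∃ u, v = 2 ^ k + u := ⟨v - 2 ^ k, by omega⟩
      have hu : u < 2 ^ k := by
        rw [pow_succ] at hv; omega
      have e : 2 ^ k + u = 2 ^ k ^^^ u := by
        apply Nat.eq_of_testBit_eq
        intro i
        rw [Nat.testBit_xor, Nat.testBit_two_pow]
        rcases Nat.lt_trichotomy i k with hi | rfl | hi
        · rw [Nat.testBit_two_pow_add_gt hi]; simp [Nat.ne_of_gt hi]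
        · rw [Nat.testBit_two_pow_add_eq, Nat.testBit_lt_two_pow hu]; simp
        · rw [Nat.testBit_lt_two_pow (hu.trans (Nat.pow_lt_pow_right (by norm_num) hi)),
            Nat.testBit_lt_two_pow (lt_of_lt_of_le (by omega : 2 ^ k + u < 2 ^ (k + 1)) (Nat.pow_le_pow_right (by norm_num) hi))]
          simp [Nat.ne_of_lt hi]
      rw [e, ev_xor, ev_xor, h k (by omega), ih (by omega) u hu]

/-- the right hand sides of the commutator relations -/
def rhs (r s : ℕ) : List ℕ := [r, s] ++ (chevD4.commTerms r s).map fun c => c.1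

theorem comm_units : (List.range 24).all (fun r => (List.range 24).all fun s =>
    (s == r || s == chevD4.neg r) ||
      (List.range 8).all fun k => Nat.beq (ev [s, r] (2 ^ k)) (ev (rhs r s) (2 ^ k))) = true := by
  decide +kernel

theorem comm_data : ∀ r < 24, ∀ s < 24, s ≠ r → s ≠ chevD4.neg r → ∀ v < 256,
    ev [s, r] v = ev ([r, s] ++ (chevD4.commTerms r s).map fun c => c.1) v := by
  intro r hr s hs h1 h2 v hv
  have h := List.all_eq_true.1 (List.all_eq_true.1 comm_units r (List.mem_range.2 hr)) s (List.mem_range.2 hs)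
  simp only [Bool.or_eq_true, beq_iff_eq, h1, h2, false_or, List.all_eq_true, List.mem_range, Nat.beq_eq] at h
  exact ev_eq_of_units h 8 le_rfl v hv

theorem exists_model : ∃ ρ : St →* Equiv.Perm (Fin 256), Function.Injective ρ ∧ ∀ r < 24, ρ (sx r) = pm r := by
  obtain ⟨ρ, hρ⟩ := exists_hom pm (fun r _ => Equiv.ext (mv_inv r)) fun r hr s hs h1 h2 => by
    refine Equiv.ext fun v => Fin.ext ?_
    have hl : ∀ k ∈ [r, s] ++ (chevD4.commTerms r s).map (fun c => c.1), k < 24 := by
      intro k hk
      simp only [List.mem_append, List.mem_cons, List.not_mem_nil, or_false, List.mem_map] at hk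
      rcases hk with (rfl | rfl) | ⟨c, hc, rfl⟩
      exacts [hr, hs, (term_facts r hr s hs h1 h2 c hc).1]
    have e1 := prod_apply [s, r] (by simp [hr, hs]) v
    have e2 := prod_apply _ hl v
    simp only [List.map_append, List.prod_append, List.map_cons, List.map_nil, List.prod_cons, List.prod_nil,
      mul_one, List.map_map, Function.comp_def] at e1 e2
    rw [e1, e2]
    exact comm_data r hr s hs h1 h2 v v.isLt
  refine ⟨ρ, ?_, hρ⟩
  haveI := simple
  rcases ρ.normal_ker.eq_bot_or_eq_top with h | h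
  · exact (MonoidHom.ker_eq_bot_iff ρ).1 h
  · exfalso
    have h0 : ρ (sx 18) = 1 := by
      rw [← MonoidHom.mem_ker, h]; trivial
    rw [hρ 18 (by norm_num)] at h0
    have := congrArg (fun p : Equiv.Perm (Fin 256) => ((p ⟨2, by norm_num⟩ : Fin 256) : ℕ)) h0
    revert this
    simp only [Equiv.Perm.coe_one, id_eq]
    decide +kernel

/-- decidable equality of words -/
theorem wd_eq {a b : List ℕ} (ha : ∀ r ∈ a, r < 24) (hb : ∀ r ∈ b, r < 24)
    (h : ∀ v < 256, ev a v = ev b v) : wd a = wd b := by
  obtain ⟨ρ, hρ, hsx⟩ := exists_model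
  apply hρ
  have e : ∀ l : List ℕ, (∀ r ∈ l, r < 24) → ρ (wd l) = (l.map pm).prod := by
    intro l hl
    rw [wd, map_list_prod, List.map_map]
    exact congrArg List.prod (List.map_congr_left fun r hr => hsx r (hl r hr))
  rw [e a ha, e b hb]
  refine Equiv.ext fun v => Fin.ext ?_
  rw [prod_apply a ha, prod_apply b hb]
  exact h v v.isLt

/-- decidable inequality of words -/
theorem wd_ne {a b : List ℕ} (ha : ∀ r ∈ a, r < 24) (hb : ∀ r ∈ b, r < 24)
    (v : ℕ) (hv : v < 256) (h : ev a v ≠ ev b v) : wd a ≠ wd b := by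
  obtain ⟨ρ, hρ, hsx⟩ := exists_model
  intro he
  have e : ∀ l : List ℕ, (∀ r ∈ l, r < 24) → ρ (wd l) = (l.map pm).prod := by
    intro l hl
    rw [wd, map_list_prod, List.map_map]
    exact congrArg List.prod (List.map_congr_left fun r hr => hsx r (hl r hr))
  have := congrArg ρ he
  rw [e a ha, e b hb] at this
  exact h (by rw [← prod_apply a ha ⟨v, hv⟩, ← prod_apply b hb ⟨v, hv⟩, this])

end Cfsg.Agent.E6Five14Rep
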