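import Cfsg.Agent.Lib.E6RadicalTables68
import Cfsg.Agent.Lib.ChevalleyDataE6
import Cfsg.Agent.Lib.DegreeDvd
import Cfsg.Agent.S2401
import Cfsg.Agent.S1063

/-!
The minimal degree bound for `E₆(q)`: characters of the 16-dimensional radical, of the radical of the
subsystem `D₅`, and the bound for `SL₅`.
-/

set_option autoImplicit false
set_option linter.unusedSectionVars false
set_option maxRecDepth 20000

namespace Cfsg.Agent.E6MinDegree68

open Cfsg.Lie Cfsg.Agent.ChevalleyCore Cfsg.Agent.RadicalChar68 Cfsg.Agent.E6RadicalTables68 Module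
open Matrix
open scoped MatrixGroups

variable (F : Type*) [Field F]

local notation "C6" => Cfsg.Agent.ChevalleyDataE6.cert

/-- the group -/
abbrev GG : Subgroup (GL chevE6.Idx F) := chevE6.group F

variable {F}

/-- the root elements -/
def X (r : ℕ) (t : F) : GG F := ⟨xg C6 r t, xg_mem_group C6 r t⟩

theorem X_add (r : ℕ) (t u : F) : X r t * X r u = X r (t + u) := Subtype.ext (xg_mul C6 r t u)

theorem dist_spec {Φ : List ℕ} {r s : ℕ} (h : dist chevE6 Φ r s = true) :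
    r ∈ Φ ∧ s ∈ Φ ∧ r < chevE6.nroots ∧ s < chevE6.nroots ∧ s ≠ r ∧ s ≠ chevE6.neg r := by
  simp only [RadicalChar68.dist, Bool.and_eq_true, decide_eq_true_eq] at h
  tauto

/-- the relations in the group -/
def sys0 (F : Type*) [Field F] : Sys chevE6 (List.range 72) F (GG F) where
  x := X
  add := X_add
  comm0 r s h hc t u := by
    obtain ⟨-, -, h1, h2, h3, h4⟩ := dist_spec h
    have hf := comm_formula (F := F) C6 h1 h2 h3 h4 t u
    simp only [ChevalleyDatum.commWord, hc, List.map_nil, wg, List.prod_nil, mul_one] at hf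
    exact Subtype.ext hf.symm
  comm1 r s k c h hc _ t u := by
    obtain ⟨-, -, h1, h2, h3, h4⟩ := dist_spec h
    have hf := comm_formula (F := F) C6 h1 h2 h3 h4 t u
    simp only [ChevalleyDatum.commWord, hc, List.map_cons, List.map_nil, wg, List.prod_cons, List.prod_nil,
      mul_one, pow_one] at hf
    exact Subtype.ext hf

section Sub

variable {Γ : Type*} [Group Γ] (Y0 : Sys chevE6 (List.range 72) F Γ)

/-- the subgroup of the subsystem `D₅` -/
def G2 : Subgroup Γ := Subgroup.closure {g | ∃ r ∈ phi2, ∃ t, g = Y0.x r t}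

/-- its root elements -/
def X2 (r : ℕ) (t : F) : G2 Y0 :=
  if h : r ∈ phi2 then ⟨Y0.x r t, Subgroup.subset_closure ⟨r, h, t, rfl⟩⟩ else 1

theorem X2_coe {r : ℕ} (h : r ∈ phi2) (t : F) : ((X2 Y0 r t : G2 Y0) : Γ) = Y0.x r t := by
  rw [X2, dif_pos h]

theorem phi2_sub : ∀ r ∈ phi2, r ∈ List.range 72 := by decide +kernel

theorem dist_mono {r s : ℕ} (h : dist chevE6 phi2 r s = true) : dist chevE6 (List.range 72) r s = true := by
  obtain ⟨h1, h2, h3, h4, h5, h6⟩ := dist_spec h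
  simp only [RadicalChar68.dist, Bool.and_eq_true, decide_eq_true_eq]
  exact ⟨⟨⟨⟨⟨phi2_sub r h1, phi2_sub s h2⟩, h3⟩, h4⟩, h5⟩, h6⟩

/-- the relations in the subgroup -/
def sys2 : Sys chevE6 phi2 F (G2 Y0) where
  x := X2 Y0
  add r t u := by
    by_cases h : r ∈ phi2
    · exact Subtype.ext (by simp only [Subgroup.coe_mul, X2_coe Y0 h]; exact Y0.add r t u)
    · simp [X2, h]
  comm0 r s h hc t u := by
    obtain ⟨h1, h2, -⟩ := dist_spec h
    refine Subtype.ext ?_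
    simp only [Subgroup.coe_mul, X2_coe Y0 h1, X2_coe Y0 h2]
    exact (Y0.comm0 r s (dist_mono h) hc t u).eq
  comm1 r s k c h hc hk t u := by
    obtain ⟨h1, h2, -⟩ := dist_spec h
    refine Subtype.ext ?_
    simp only [Subgroup.coe_mul, X2_coe Y0 h1, X2_coe Y0 h2, X2_coe Y0 hk]
    exact Y0.comm1 r s k c (dist_mono h) hc (phi2_sub k hk) t u

end Sub

/-! ### the homomorphism of `SL₅` -/

theorem mem5 : ∀ a b : Fin 5, a ≠ b → r5 a b ∈ phi2 := by decide +kernel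

theorem zero5 : ∀ a b c d : Fin 5, a ≠ b → c ≠ d → a ≠ d → b ≠ c →
    RadicalChar68.zero chevE6 phi2 (r5 a b) (r5 c d) = true := by decide +kernel

theorem chain5 : ∀ a b c : Fin 5, a ≠ b → b ≠ c → a ≠ c →
    dist chevE6 phi2 (r5 a b) (r5 b c) = true ∧
      chevE6.commTerms (r5 a b) (r5 b c) = [(r5 a c, s5 a c * s5 a b * s5 b c, 1, 1)] ∧
      RadicalChar68.zero chevE6 phi2 (r5 a c) (r5 a b) = true ∧
      RadicalChar68.zero chevE6 phi2 (r5 a c) (r5 b c) = true := by decide +kernel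

theorem s5_sq : ∀ a b : Fin 5, a ≠ b → s5 a b * s5 a b = 1 := by decide +kernel

theorem exists_chi [Finite F] {Γ : Type*} [Group Γ] (Y : Sys chevE6 phi2 F Γ) : ∃ χ : SL(5, F) →* Γ, ∀ a b : Fin 5, a ≠ b → ∀ t : F,
    Y.x (r5 a b) t ∈ χ.range ∧
    ∀ h : a ≠ b, ∃ u : F, χ (Matrix.SpecialLinearGroup.transvection h t) = Y.x (r5 a b) u := by
  obtain ⟨e, he⟩ := S2401.result (K := F) 5 (by norm_num)
  let f : {ij : Fin 5 × Fin 5 // ij.1 ≠ ij.2} × F → Γ :=
    fun z => Y.x (r5 z.1.1.1 z.1.1.2) ((s5 z.1.1.1 z.1.1.2 : F) * z.2)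
  obtain ⟨χ, hχ⟩ : ∃ χ : SL(5, F) →* Γ, ∀ z, χ (e (PresentedGroup.of z)) = f z := by
    refine ⟨(PresentedGroup.toGroup (f := f) ?hf).comp e.symm.toMonoidHom, fun z => ?eq⟩
    case hf =>
      rintro r ((⟨⟨⟨a, b⟩, hab⟩, t, u, rfl⟩ | ⟨⟨⟨a, b⟩, hab⟩, ⟨⟨c, d⟩, hcd⟩, t, u, h1, h2, rfl⟩) |
        ⟨⟨⟨a, b⟩, hab⟩, ⟨⟨c, d⟩, hcd⟩, h, t, u, h2, rfl⟩)
      · simp only [map_mul, map_inv, FreeGroup.lift_apply_of, mul_inv_eq_one, f]
        rw [mul_add]
        exact Y.add _ _ _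
      · simp only [map_mul, map_inv, FreeGroup.lift_apply_of, mul_inv_eq_iff_eq_mul, one_mul, f]
        exact (Y.comm_zero (zero5 a b c d hab hcd h1 h2) _ _).eq
      · change b = c at h2
        subst h2
        simp only [map_mul, map_inv, FreeGroup.lift_apply_of, f, mul_inv_eq_one]
        obtain ⟨hd, hterm, hz1, hz2⟩ := chain5 a b d hab hcd h
        set T := (s5 a b : F) * t with hT
        set U := (s5 b d : F) * u with hU
        have hrel : Y.x (r5 b d) U * Y.x (r5 a b) T = Y.x (r5 a b) T * Y.x (r5 b d) U *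
            Y.x (r5 a d) (((s5 a d * s5 a b * s5 b d : ℤ) : F) * -T * U) :=
          Y.comm1 _ _ _ _ hd hterm (mem5 a d h) T U
        have hsq : ((s5 a b * s5 a b : ℤ) : F) = 1 ∧ ((s5 b d * s5 b d : ℤ) : F) = 1 := by
          rw [s5_sq a b hab, s5_sq b d hcd]; simp
        have hk : ((s5 a d * s5 a b * s5 b d : ℤ) : F) * -T * U = -((s5 a d : F) * (t * u)) := by
          obtain ⟨q1, q2⟩ := hsq
          push_cast at q1 q2 ⊢
          rw [hT, hU]
          linear_combination (-(s5 a d : F) * t * u * (s5 b d : F) ^ 2) * q1 + (-(s5 a d : F) * t * u) * q2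
        rw [hk] at hrel
        set K := Y.x (r5 a d) ((s5 a d : F) * (t * u)) with hK
        have hKi : Y.x (r5 a d) (-((s5 a d : F) * (t * u))) = K⁻¹ :=
          eq_inv_of_mul_eq_one_left ((Y.add _ _ _).trans (by
            rw [neg_add_cancel]; exact Y.x_zero _))
        rw [hKi] at hrel
        have c1 : Commute K (Y.x (r5 a b) T) := Y.comm_zero hz1 _ _
        have c2 : Commute K (Y.x (r5 b d) U) := Y.comm_zero hz2 _ _
        calc Y.x (r5 a b) T * Y.x (r5 b d) U * (Y.x (r5 a b) T)⁻¹ * (Y.x (r5 b d) U)⁻¹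
            = Y.x (r5 b d) U * Y.x (r5 a b) T * (K * (Y.x (r5 a b) T)⁻¹) * (Y.x (r5 b d) U)⁻¹ := by
              rw [hrel]; group
          _ = Y.x (r5 b d) U * (K * (Y.x (r5 b d) U)⁻¹) := by rw [c1.inv_right.eq]; group
          _ = K := by rw [c2.inv_right.eq]; group
    case eq =>
      rw [MonoidHom.comp_apply, MulEquiv.coe_toMonoidHom, MulEquiv.symm_apply_apply]
      exact PresentedGroup.toGroup.of _
  refine ⟨χ, fun a b hab t => ⟨⟨e (PresentedGroup.of (⟨(a, b), hab⟩, (s5 a b : F) * t)), ?_⟩, fun h => ?_⟩⟩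
  · rw [hχ]
    simp only [f]
    rw [← mul_assoc, show (s5 a b : F) * (s5 a b : F) = 1 by exact_mod_cast congrArg (Int.cast : ℤ → F) (s5_sq a b hab),
      one_mul]
  · refine ⟨(s5 a b : F) * t, ?_⟩
    have : Matrix.SpecialLinearGroup.transvection h t = e (PresentedGroup.of (⟨(a, b), h⟩, t)) :=
      Subtype.ext (he ⟨(a, b), h⟩ t).symm
    rw [this, hχ]

/-! ### restrictions to invariant subspaces -/

theorem closure_inv {Γ : Type*} [Group Γ] {V : Type*} [AddCommGroup V] [Module ℂ V]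
    (σ : Representation ℂ Γ V) (W : Submodule ℂ V) {S : Set Γ}
    (h : ∀ g ∈ S, ∀ v ∈ W, σ g v ∈ W ∧ σ g⁻¹ v ∈ W) {g : Γ} (hg : g ∈ Subgroup.closure S) :
    ∀ v ∈ W, σ g v ∈ W := by
  suffices ∀ v ∈ W, σ g v ∈ W ∧ σ g⁻¹ v ∈ W from fun v hv => (this v hv).1
  induction hg using Subgroup.closure_induction with
  | mem g hg => exact h g hg
  | one => intro v hv; simp [hv]
  | mul x y _ _ hx hy =>
    intro v hv
    rw [_root_.mul_inv_rev, map_mul, map_mul, Module.End.mul_apply, Module.End.mul_apply]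
    exact ⟨(hx _ (hy v hv).1).1, (hy _ (hx v hv).2).2⟩
  | inv x _ hx => intro v hv; rw [inv_inv]; exact (hx v hv).symm

variable [Fintype F] {V : Type} [AddCommGroup V] [Module ℂ V] [FiniteDimensional ℂ V]

theorem sys_inv {Φ : List ℕ} {Γ : Type*} [Group Γ] (Y : Sys chevE6 Φ F Γ) (r : ℕ) (t : F) :
    (Y.x r t)⁻¹ = Y.x r (-t) :=
  inv_eq_of_mul_eq_one_right (by rw [Y.add, add_neg_cancel, Y.x_zero])

theorem broot_mem : broot ∈ phi2 := by decide +kernel

theorem broot_r5 : ∃ a b : Fin 5, a ≠ b ∧ r5 a b = broot := by decide +kernel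

theorem S2_mem : ∀ i : Fin 10, t2.S i ∈ phi2 := by decide +kernel

theorem S1_range : ∀ i : Fin 16, t1b.S bpos = broot ∧ t1.S i < 72 := by decide +kernel

/-- second level: the subsystem `D₅` -/
theorem level2 {Γ : Type*} [Group Γ] [Finite Γ] (Y : Sys chevE6 phi2 F Γ) (σ : Representation ℂ Γ V) {v : V} {a : F}
    (hfix : ∀ i t, σ (Y.x (t2.S i) t) v = v) (hv : σ (Y.x broot a) v ≠ v) :
    Fintype.card F ^ 7 + Fintype.card F ^ 5 + Fintype.card F ^ 4 + Fintype.card F ^ 3 + Fintype.card F ≤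
      finrank ℂ V + 1 := by
  classical
  set q := Fintype.card F with hq
  have hq2 : 2 ≤ q := Fintype.one_lt_card
  let R := t2.rad Y t2_ok
  set W := Esp R σ 0 with hW
  have hvW : v ∈ W := (mem_fix R σ).2 hfix
  -- the third level
  obtain ⟨χ, hχ⟩ := exists_chi (F := F) Y
  have hgen : ∀ a b : Fin 5, a ≠ b → ∀ (u : F), ∀ w ∈ W, σ (Y.x (r5 a b) u) w ∈ W := by
    intro a b hab u w hw
    have h := r5_inv
    simp only [List.all_eq_true, Bool.or_eq_true, decide_eq_true_eq] at h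
    exact fix_inv (R := R) ((h a (List.mem_finRange a) b (List.mem_finRange b)).resolve_left hab) u hw
  have hχinv : ∀ g : SL(5, F), ∀ w ∈ W, σ (χ g) w ∈ W := by
    intro g
    let S : Subgroup SL(5, F) :=
      { carrier := {g | ∀ w ∈ W, σ (χ g) w ∈ W ∧ σ (χ g)⁻¹ w ∈ W}
        one_mem' := fun w hw => by simp [hw]
        mul_mem' := fun {x y} hx hy w hw => by
          rw [map_mul, _root_.mul_inv_rev, map_mul, map_mul, Module.End.mul_apply, Module.End.mul_apply]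
          exact ⟨(hx _ (hy w hw).1).1, (hy _ (hx w hw).2).2⟩
        inv_mem' := fun {x} hx w hw => by rw [map_inv, inv_inv]; exact (hx w hw).symm }
    have htop : S = ⊤ := Cfsg.Agent.PSLSimple.eq_top_of_transvection_mem _ fun a b hab c => by
      obtain ⟨u, hu⟩ := (hχ a b hab c).2 hab
      intro w hw
      rw [hu, sys_inv Y]
      exact ⟨hgen a b hab u w hw, hgen a b hab (-u) w hw⟩
    have hg : g ∈ S := htop ▸ Subgroup.mem_top g
    exact fun w hw => (hg w hw).1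
  let τ : Representation ℂ SL(5, F) W :=
    { toFun := fun g => (σ (χ g)).restrict (hχinv g)
      map_one' := LinearMap.ext fun w => Subtype.ext (by simp)
      map_mul' := fun g h => LinearMap.ext fun w => Subtype.ext (by simp) }
  have hτ : ∃ g, τ g ≠ 1 := by
    obtain ⟨a', b', hab, hr⟩ := broot_r5
    obtain ⟨g, hg⟩ := (hχ a' b' hab a).1
    refine ⟨g, fun e => hv ?_⟩
    have := congrArg (fun T : Module.End ℂ W => (T ⟨v, hvW⟩ : V)) e
    rw [← hr, ← hg]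
    simpa [τ] using this
  have h3 := SLMinDegree32.le_finrank (F := F) 3 (by norm_num)
    (by refine ⟨?_, ?_, ?_, ?_⟩ <;> simp) W τ hτ
  simp only [SLMinDegree32.geom, Finset.sum_range_succ, Finset.sum_range_zero, ← hq] at h3
  have h3' : q + q ^ 2 + q ^ 3 + q ^ 4 ≤ finrank ℂ W := le_trans (le_of_eq (by ring)) h3
  -- the radical acts nontrivially
  obtain ⟨i, b, u, hu⟩ : ∃ i b u, σ (Y.x (t2.S i) b) u ≠ u := by
    by_contra! hall
    have h1 : ∀ r ∈ (List.finRange 10).map t2.S, ∀ t : F, σ (Y.x r t) = 1 := by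
      intro r hr t
      obtain ⟨i, -, rfl⟩ := List.mem_map.1 hr
      exact LinearMap.ext fun w => hall i t w
    exact hv (by
      have := deriv_trivial (Y := Y) (σ := σ) _ _ d2_ok h1 broot broot_mem a
      show σ (Y.x broot a) v = v
      rw [this]; rfl)
  have key : q ^ 7 + q ^ 5 = (q - 1) * (q ^ 6 + q ^ 5 + 2 * q ^ 4 + 2 * q ^ 3 + 2 * q ^ 2 + q + 1) + q ^ 2 + 1 := by
    obtain ⟨p, hp⟩ : ∃ p, q = p + 1 := ⟨q - 1, by omega⟩
    rw [hp, Nat.add_sub_cancel]; ring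
  rcases dichotomy (σ := σ) t2_ok (by norm_num) (Y := Y) (i := i) (a := b) (v := u) hu with h | h
  · have hlen : (t2.lead 0).length + t2.far.length = 8 := by decide +kernel
    rw [hlen, ← hq] at h
    have e : q ^ 7 + q ^ 5 ≤ q ^ 8 := by
      have : q ^ 5 ≤ q ^ 7 := Nat.pow_le_pow_right (by omega) (by omega)
      have : 2 * q ^ 7 ≤ q ^ 8 := by rw [pow_succ' q 7]; exact Nat.mul_le_mul_right _ hq2
      omega
    have hh : finrank ℂ W + q ^ 8 ≤ finrank ℂ V := h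
    have : 0 ≤ q ^ 2 := Nat.zero_le _
    linarith
  · have hc := count (σ := σ) t2_ok (Y := Y) (m := 1) h
    rw [lead2, one_mul, ← hq] at hc
    have hh : finrank ℂ W + ((q - 1) * (q ^ 6 + q ^ 5 + 2 * q ^ 4 + 2 * q ^ 3 + 2 * q ^ 2 + q + 1)) ≤
        finrank ℂ V := hc
    linarith

theorem card_GG_two (h : Fintype.card F = 2) : ¬ 185 ∣ Nat.card (GG F) := by
  intro hd
  have h1 := S1063.result (F := F) h
  have h2 : 185 ∣ Nat.gcd 3 (2 - 1) * Nat.card ↥(Cfsg.Lie.chevE6.group F) :=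
    dvd_mul_of_dvd_right hd _
  rw [h1] at h2
  norm_num at h2

/-- over two elements the bound improves by one -/
theorem level2_two {Γ : Type*} [Group Γ] [Finite Γ] (Y : Sys chevE6 phi2 F Γ) (h2 : Fintype.card F = 2)
    (hG : ¬ 185 ∣ Nat.card Γ) (σ : Representation ℂ Γ V) {v : V} {a : F}
    (hfix : ∀ i t, σ (Y.x (t2.S i) t) v = v) (hv : σ (Y.x broot a) v ≠ v) : 186 ≤ finrank ℂ V := by
  have h0 := level2 Y σ hfix hv
  rw [h2] at h0
  by_contra hlt
  have h185 : finrank ℂ V = 185 := by omega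
  by_cases hirr : σ.IsIrreducible
  · haveI := hirr
    exact hG (h185 ▸ DegreeDvd.finrank_dvd_card σ)
  haveI : Nontrivial V := Module.nontrivial_of_finrank_pos (R := ℂ) (by omega)
  obtain ⟨U, U', hc, -, -, l1, l2⟩ := CharBasic.exists_decomposition hirr
  obtain ⟨x, hx, y, hy, hxy⟩ := Submodule.mem_sup.1
    (hc.sup_eq_top ▸ Submodule.mem_top : v ∈ U.toSubmodule ⊔ U'.toSubmodule)
  have split : ∀ g : Γ, σ g v = v → σ g x = x ∧ σ g y = y := by
    intro g hg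
    rw [← hxy, map_add] at hg
    have e : σ g x - x = y - σ g y := by rw [sub_eq_sub_iff_add_eq_add, hg]; abel
    have hm : σ g x - x ∈ U.toSubmodule ⊓ U'.toSubmodule :=
      ⟨U.toSubmodule.sub_mem (U.apply_mem_toSubmodule g hx) hx,
        e ▸ U'.toSubmodule.sub_mem hy (U'.apply_mem_toSubmodule g hy)⟩
    rw [hc.inf_eq_bot, Submodule.mem_bot] at hm
    refine ⟨sub_eq_zero.1 hm, ?_⟩
    rw [hm] at e
    exact (sub_eq_zero.1 e.symm).symm
  by_cases hx' : σ (Y.x broot a) x = x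
  · have hy' : σ (Y.x broot a) y ≠ y := fun e => hv (by rw [← hxy, map_add, hx', e])
    have := level2 Y U'.toRepresentation (v := ⟨y, hy⟩) (a := a)
      (fun i t => Subtype.ext (split _ (hfix i t)).2) (fun e => hy' (congrArg Subtype.val e))
    rw [h2] at this
    omega
  · have := level2 Y U.toRepresentation (v := ⟨x, hx⟩) (a := a)
      (fun i t => Subtype.ext (split _ (hfix i t)).1) (fun e => hx' (congrArg Subtype.val e))
    rw [h2] at this
    omega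

/-- first level -/
theorem level1 {Γ : Type*} [Group Γ] [Finite Γ] (Y0 : Sys chevE6 (List.range 72) F Γ)
    (σ : Representation ℂ Γ V) (hnt : ∃ r ∈ List.range 72, ∃ t, σ (Y0.x r t) ≠ 1) :
    Fintype.card F ^ 11 + Fintype.card F ^ 8 + Fintype.card F ^ 7 + Fintype.card F ^ 5 + Fintype.card F ^ 4 +
        Fintype.card F ≤ finrank ℂ V + 2 ∧
      (Fintype.card F = 2 → ¬ 185 ∣ Nat.card Γ → 2481 ≤ finrank ℂ V) := by
  classical
  set q := Fintype.card F with hq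
  have hq2 : 2 ≤ q := Fintype.one_lt_card
  set O1 := (q - 1) * (q ^ 10 + q ^ 9 + q ^ 8 + 2 * q ^ 7 + 2 * q ^ 6 + 2 * q ^ 5 + 2 * q ^ 4 + 2 * q ^ 3 +
    q ^ 2 + q + 1) with hO
  have key : q ^ 11 + q ^ 8 = O1 + q ^ 3 + 1 := by
    obtain ⟨p, hp⟩ : ∃ p, q = p + 1 := ⟨q - 1, by omega⟩
    rw [hO, hp, Nat.add_sub_cancel]; ring
  obtain ⟨r0, hr0, t0, hnt⟩ := hnt
  have hne : ∀ (T : Tab 15) (d : List (ℕ × ℕ × ℕ)),
      derivOK chevE6 (List.range 72) ((List.finRange 16).map T.S) d = true →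
      ∃ i b u, σ (Y0.x (T.S i) b) u ≠ u := by
    intro T d hd
    by_contra! hall
    refine hnt (deriv_trivial (Y := Y0) (σ := σ) _ _ hd (fun r hr t => ?_) r0 hr0 t0)
    obtain ⟨i, -, rfl⟩ := List.mem_map.1 hr
    exact LinearMap.ext fun w => hall i t w
  -- dichotomy for one radical
  have big : ∀ (T : Tab 15) (hT : T.ok chevE6 (List.range 72) = true) (d : List (ℕ × ℕ × ℕ)),
      derivOK chevE6 (List.range 72) ((List.finRange 16).map T.S) d = true →
      (T.lead 0).length + T.far.length = 14 →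
      (∀ p : ℕ, (∑ i : Fin 16, p ^ (T.lead i).length) = p ^ 10 + p ^ 9 + p ^ 8 + 2 * p ^ 7 + 2 * p ^ 6 +
        2 * p ^ 5 + 2 * p ^ 4 + 2 * p ^ 3 + p ^ 2 + p + 1) →
      q ^ 11 + q ^ 8 + q ^ 7 + q ^ 5 + q ^ 4 + q ≤ finrank ℂ V ∨
      (finrank ℂ (Esp (T.rad Y0 hT) σ 0) + O1 ≤ finrank ℂ V ∧
        ∀ (k : Fin 16) (u : F), u ≠ 0 → finrank ℂ (Esp (T.rad Y0 hT) σ (Pi.single k u)) = 1) := by
    intro T hT d hd hlen hlead
    obtain ⟨i, b, u, hu⟩ := hne T d hd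
    rcases dichotomy (σ := σ) hT (by norm_num) (Y := Y0) (i := i) (a := b) (v := u) hu with h | h
    · left
      rw [hlen, ← hq] at h
      have e1 : ∀ j, j ≤ 11 → q ^ j ≤ q ^ 11 := fun j hj => Nat.pow_le_pow_right (by omega) hj
      have e2 : 8 * q ^ 11 ≤ q ^ 14 := by
        rw [show q ^ 14 = q ^ 3 * q ^ 11 by ring]
        exact Nat.mul_le_mul_right _ (le_trans (by norm_num : 8 ≤ 2 ^ 3) (Nat.pow_le_pow_left hq2 3))
      have := e1 8 (by norm_num); have := e1 7 (by norm_num); have := e1 5 (by norm_num)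
      have := e1 4 (by norm_num); have := e1 1 (by norm_num)
      rw [pow_one] at this
      have hh : q ^ 14 ≤ finrank ℂ V := le_trans (Nat.le_add_left _ _) h
      linarith
    · rcases simple_or (σ := σ) hT (by norm_num) (Y := Y0) h with h' | h'
      · left
        rw [hlead, ← hq, ← hO] at h'
        have f1 : q ^ 7 + q ^ 5 + q ^ 4 + q + q ^ 3 + 1 + (q ^ 3 + 1) ≤ q ^ 11 + q ^ 8 := by
          have a1 : ∀ i j, i ≤ j → q ^ i ≤ q ^ j := fun i j hj => Nat.pow_le_pow_right (by omega) hj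
          have : 16 * q ^ 7 ≤ q ^ 11 := by
            rw [show q ^ 11 = q ^ 4 * q ^ 7 by ring]
            exact Nat.mul_le_mul_right _ (le_trans (by norm_num : 16 ≤ 2 ^ 4) (Nat.pow_le_pow_left hq2 4))
          have := a1 5 7 (by norm_num); have := a1 4 7 (by norm_num); have := a1 3 7 (by norm_num)
          have := a1 1 7 (by norm_num); have := a1 0 7 (by norm_num)
          rw [pow_zero] at this
          simp only [pow_one] at *
          omega
        omega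
      · right
        have hc := count (σ := σ) hT (Y := Y0) (m := 1) h
        rw [hlead, one_mul, ← hq, ← hO] at hc
        exact ⟨hc, h'⟩
  have h2481 : q = 2 → q ^ 11 + q ^ 8 + q ^ 7 + q ^ 5 + q ^ 4 + q ≤ finrank ℂ V → 2481 ≤ finrank ℂ V := by
    intro e h; rw [e] at h; norm_num at h; omega
  rcases big t1 t1_ok d1 d1_ok (by decide +kernel) lead1 with h | ⟨hdim, -⟩
  · exact ⟨h.trans (Nat.le_add_right _ _), fun e _ => h2481 e h⟩
  rcases big t1b t1b_ok d1b d1b_ok (by decide +kernel) lead1b with h | ⟨-, hone⟩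
  · exact ⟨h.trans (Nat.le_add_right _ _), fun e _ => h2481 e h⟩
  -- a root vector of the auxiliary radical
  have hd := hone bpos 1 one_ne_zero
  haveI : Nontrivial (Esp (t1b.rad Y0 t1b_ok) σ (Pi.single bpos 1)) :=
    Module.nontrivial_of_finrank_pos (R := ℂ) (by omega)
  obtain ⟨⟨w, hw⟩, hwne⟩ := exists_ne (0 : Esp (t1b.rad Y0 t1b_ok) σ (Pi.single bpos 1))
  have hw0 : w ≠ 0 := fun e => hwne (Subtype.ext e)
  set W := Esp (t1.rad Y0 t1_ok) σ 0 with hW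
  have hwW : w ∈ W := by
    refine (mem_fix _ σ).2 fun i t => ?_
    have h := List.all_eq_true.1 fix1 i (List.mem_finRange i)
    exact fix_vec (R := t1b.rad Y0 t1b_ok) h hd hw hw0 t
  have hw2 : ∀ i t, σ (Y0.x (t2.S i) t) w = w := by
    intro i t
    have h := List.all_eq_true.1 fix2 i (List.mem_finRange i)
    exact fix_vec (R := t1b.rad Y0 t1b_ok) h hd hw hw0 t
  obtain ⟨a, ha⟩ := SLMinDegree32.phi0_ne (F := F)
  have hwb : σ (Y0.x broot a) w ≠ w := by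
    have hb : σ (Y0.x (t1b.S bpos) a) w =
        SLMinDegree32.phi0 ((Pi.single bpos 1 : Fin 16 → F) bpos * a) • w := (mem_E _ σ).1 hw bpos a
    rw [(S1_range 0).1, Pi.single_eq_same, one_mul] at hb
    intro e
    apply ha
    have : (SLMinDegree32.phi0 a - 1 : ℂ) • w = 0 := by
      rw [sub_smul, one_smul, ← hb]
      exact sub_eq_zero.2 e
    exact sub_eq_zero.1 ((smul_eq_zero.1 this).resolve_right hw0)
  -- the fixed space as a representation of the subsystem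
  have hinv : ∀ g : G2 Y0, ∀ x ∈ W, σ (g : Γ) x ∈ W := fun g => by
    refine closure_inv σ W ?_ g.2
    rintro _ ⟨r, hr, t, rfl⟩ x hx
    have h := List.all_eq_true.1 inv12 r hr
    rw [sys_inv Y0]
    exact ⟨fix_inv (R := t1.rad Y0 t1_ok) h t hx, fix_inv (R := t1.rad Y0 t1_ok) h (-t) hx⟩
  let τ : Representation ℂ (G2 Y0) W :=
    { toFun := fun g => (σ (g : Γ)).restrict (hinv g)
      map_one' := LinearMap.ext fun x => Subtype.ext (by simp)
      map_mul' := fun g h => LinearMap.ext fun x => Subtype.ext (by simp) }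
  have hτ : ∀ (r : ℕ), r ∈ phi2 → ∀ (t : F), (τ (X2 Y0 r t) ⟨w, hwW⟩ : V) = σ (Y0.x r t) w := fun r hr t => by
    show σ ((X2 Y0 r t : G2 Y0) : Γ) w = _
    rw [X2_coe Y0 hr]
  have hf2 : ∀ i t, τ (X2 Y0 (t2.S i) t) ⟨w, hwW⟩ = ⟨w, hwW⟩ := fun i t =>
    Subtype.ext (by rw [hτ _ (S2_mem i)]; exact hw2 i t)
  have hb2 : τ (X2 Y0 broot a) ⟨w, hwW⟩ ≠ ⟨w, hwW⟩ := fun e =>
    hwb (by rw [← hτ _ broot_mem, e])
  have h2 := level2 (sys2 Y0) τ hf2 hb2
  rw [← hq] at h2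
  refine ⟨by omega, fun e hG => ?_⟩
  have h3 := level2_two (sys2 Y0) e (fun hd => hG (hd.trans (G2 Y0).card_subgroup_dvd_card)) τ hf2 hb2
  rw [e] at key
  norm_num at key
  omega

/-! ### arithmetic -/

/-- the order polynomial -/
def ordPoly (q : ℕ) : ℕ :=
  q ^ 36 * (q ^ 2 - 1) * (q ^ 5 - 1) * (q ^ 6 - 1) * (q ^ 8 - 1) * (q ^ 9 - 1) * (q ^ 12 - 1)

theorem peel {f a b K : ℤ} (m : ℕ) (D s t : ℤ) (e : s * f + t * b = D) (h : f ∣ a * b ^ m * K) :
    f ∣ a * (D ^ m * K) := by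
  induction m generalizing K with
  | zero => simpa using h
  | succ m ih =>
    have h1 : f ∣ a * (D ^ m * (b * K)) := ih (by convert h using 1; ring)
    have h2 : a * (D ^ (m + 1) * K) = f * (s * (a * D ^ m * K)) + t * (a * (D ^ m * (b * K))) := by
      rw [← e]; ring
    rw [h2]
    exact dvd_add (dvd_mul_right _ _) (dvd_mul_of_dvd_right h1 t)

theorem peel' {f b K : ℤ} (m : ℕ) (D s t : ℤ) (e : s * f + t * b = D) (h : f ∣ b ^ m * K) :
    f ∣ D ^ m * K := by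
  simpa using peel (a := 1) m D s t e (by simpa using h)

/-- the cofactor -/
def f1 (q : ℤ) : ℤ := (-1) + (1) * q ^ 2 + (1) * q ^ 3 + (1) * q ^ 4 + (1) * q ^ 5 + (1) * q ^ 8 + (1) * q ^ 9

theorem small1 {q : ℤ} (h : f1 q ∣ ((1) * q) ^ 36 * ((-1) + (1) * q) ^ 6 * ((1) + (1) * q) ^ 4 * ((1) + (1) * q + (1) * q ^ 2) ^ 3 * ((1) + (1) * q ^ 2) ^ 2 * ((1) + (1) * q + (1) * q ^ 2 + (1) * q ^ 3 + (1) * q ^ 4) ^ 1 * ((1) + (-1) * q + (1) * q ^ 2) ^ 2 * ((1) + (1) * q ^ 4) ^ 1 * ((1) + (1) * q ^ 3 + (1) * q ^ 6) ^ 1 * ((1) + (-1) * q ^ 2 + (1) * q ^ 4) ^ 1) : f1 q ∣ 20000000 := by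
  replace h := dvd_mul_of_dvd_left h 1
  replace h := peel 1 (2) ((-1) + (1) * q + (-1) * q ^ 2) ((1) + (1) * q + (1) * q ^ 2 + (1) * q ^ 3 + (1) * q ^ 4 + (1) * q ^ 5 + (1) * q ^ 7) (by simp only [f1]; ring) h
  replace h := peel 1 (1) ((-1) + (1) * q + (-1) * q ^ 2) ((1) * q + (1) * q ^ 5) (by simp only [f1]; ring) h
  replace h := peel 1 (1) ((-1) + (1) * q + (-1) * q ^ 2) ((1) * q + (1) * q ^ 4 + (1) * q ^ 7) (by simp only [f1]; ring) h
  replace h := peel 2 (4) ((-1)) ((3) + (3) * q + (1) * q ^ 2 + (-1) * q ^ 3 + (-1) * q ^ 4 + (1) * q ^ 5 + (2) * q ^ 6 + (1) * q ^ 7) (by simp only [f1]; ring) h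
  replace h := peel 1 (5) ((-4) + (2) * q + (-2) * q ^ 2 + (-1) * q ^ 3) ((1) + (1) * q + (-1) * q ^ 3 + (3) * q ^ 4 + (2) * q ^ 5 + (-3) * q ^ 6 + (2) * q ^ 7 + (1) * q ^ 8) (by simp only [f1]; ring) h
  replace h := peel 2 (1) ((-1) * q) ((1) + (-1) * q + (-1) * q ^ 2 + (2) * q ^ 3 + (2) * q ^ 4 + (-1) * q ^ 5 + (-1) * q ^ 6 + (1) * q ^ 7 + (1) * q ^ 8) (by simp only [f1]; ring) h
  replace h := peel 3 (2) ((1) * q) ((2) + (-1) * q + (-1) * q ^ 2 + (1) * q ^ 3 + (-1) * q ^ 4 + (-1) * q ^ 5 + (1) * q ^ 6 + (-1) * q ^ 8) (by simp only [f1]; ring) h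
  replace h := peel 4 (1) ((-1)) ((1) * q ^ 2 + (1) * q ^ 4 + (1) * q ^ 8) (by simp only [f1]; ring) h
  replace h := peel 6 (5) ((1)) ((-6) + (-6) * q + (-5) * q ^ 2 + (-4) * q ^ 3 + (-3) * q ^ 4 + (-2) * q ^ 5 + (-2) * q ^ 6 + (-2) * q ^ 7 + (-1) * q ^ 8) (by simp only [f1]; ring) h
  replace h := peel' 36 (1) ((-1)) ((1) * q + (1) * q ^ 2 + (1) * q ^ 3 + (1) * q ^ 4 + (1) * q ^ 7 + (1) * q ^ 8) (by simp only [f1]; ring) h
  norm_num at h ⊢
  exact h

/-- the cofactor -/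
def f2 (q : ℤ) : ℤ := (-2) + (1) * q + (2) * q ^ 2 + (-1) * q ^ 3 + (-1) * q ^ 4 + (2) * q ^ 5 + (1) * q ^ 6 + (-1) * q ^ 7 + (1) * q ^ 9

theorem small2 {q : ℤ} (h : f2 q ∣ ((1) * q) ^ 36 * ((-1) + (1) * q) ^ 6 * ((1) + (1) * q) ^ 4 * ((1) + (1) * q + (1) * q ^ 2) ^ 3 * ((1) + (1) * q ^ 2) ^ 2 * ((1) + (1) * q + (1) * q ^ 2 + (1) * q ^ 3 + (1) * q ^ 4) ^ 1 * ((1) + (-1) * q + (1) * q ^ 2) ^ 2 * ((1) + (1) * q ^ 4) ^ 1 * ((1) + (1) * q ^ 3 + (1) * q ^ 6) ^ 1 * ((1) + (-1) * q ^ 2 + (1) * q ^ 4) ^ 1) : f2 q ∣ 471189111013638144000 := by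
  replace h := dvd_mul_of_dvd_left h 1
  replace h := peel 1 (3) ((-1) + (-1) * q ^ 2) ((1) + (1) * q + (1) * q ^ 2 + (1) * q ^ 3 + (1) * q ^ 4 + (1) * q ^ 5 + (1) * q ^ 7) (by simp only [f2]; ring) h
  replace h := peel 1 (2) ((-1) + (-1) * q ^ 2) ((1) * q + (1) * q ^ 5) (by simp only [f2]; ring) h
  replace h := peel 1 (2) ((-1) + (-1) * q ^ 2) ((1) * q + (1) * q ^ 4 + (1) * q ^ 7) (by simp only [f2]; ring) h
  replace h := peel 2 (1) ((-1) * q) ((1) + (-1) * q + (-1) * q ^ 2 + (2) * q ^ 3 + (2) * q ^ 4 + (-1) * q ^ 5 + (-1) * q ^ 6 + (1) * q ^ 7 + (1) * q ^ 8) (by simp only [f2]; ring) h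
  replace h := peel 1 (31) ((-13) + (-4) * q + (-15) * q ^ 2 + (-5) * q ^ 3) ((5) + (-5) * q ^ 2 + (18) * q ^ 4 + (4) * q ^ 5 + (-16) * q ^ 6 + (10) * q ^ 7 + (5) * q ^ 8) (by simp only [f2]; ring) h
  replace h := peel 2 (12) ((-1) + (-1) * q) ((10) + (-1) * q + (-7) * q ^ 2 + (2) * q ^ 3 + (5) * q ^ 4 + (-1) * q ^ 5 + (-2) * q ^ 6 + (1) * q ^ 7 + (1) * q ^ 8) (by simp only [f2]; ring) h
  replace h := peel 3 (5) ((1) * q) ((5) + (-3) * q + (-3) * q ^ 2 + (4) * q ^ 3 + (-3) * q ^ 5 + (1) * q ^ 6 + (1) * q ^ 7 + (-1) * q ^ 8) (by simp only [f2]; ring) h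
  replace h := peel 4 (2) ((-1)) ((1) * q + (1) * q ^ 2 + (-2) * q ^ 3 + (1) * q ^ 4 + (1) * q ^ 5 + (-1) * q ^ 7 + (1) * q ^ 8) (by simp only [f2]; ring) h
  replace h := peel 6 (2) ((1)) ((-4) + (-3) * q + (-1) * q ^ 2 + (-2) * q ^ 3 + (-3) * q ^ 4 + (-1) * q ^ 5 + (-1) * q ^ 7 + (-1) * q ^ 8) (by simp only [f2]; ring) h
  replace h := peel' 36 (2) ((-1)) ((1) + (2) * q + (-1) * q ^ 2 + (-1) * q ^ 3 + (2) * q ^ 4 + (1) * q ^ 5 + (-1) * q ^ 6 + (1) * q ^ 8) (by simp only [f2]; ring) h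
  norm_num at h ⊢
  exact h

theorem small_q1 : ((List.range 7).all fun q => decide (q < 3) ||
    decide (ordPoly q % (q ^ 11 + q ^ 8 + q ^ 7 + q ^ 5 + q ^ 4 + q - 1) ≠ 0)) = true := by decide +kernel

theorem small_q2 : ((List.range 256).all fun q => decide (q < 3) ||
    decide (ordPoly q % (q ^ 11 + q ^ 8 + q ^ 7 + q ^ 5 + q ^ 4 + q - 2) ≠ 0)) = true := by decide +kernel

theorem ord_cast {q : ℕ} (hq : 1 ≤ q) : ((ordPoly q : ℕ) : ℤ) = ((1) * (q : ℤ)) ^ 36 * ((-1) + (1) * (q : ℤ)) ^ 6 *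
    ((1) + (1) * (q : ℤ)) ^ 4 * ((1) + (1) * (q : ℤ) + (1) * (q : ℤ) ^ 2) ^ 3 * ((1) + (1) * (q : ℤ) ^ 2) ^ 2 *
    ((1) + (1) * (q : ℤ) + (1) * (q : ℤ) ^ 2 + (1) * (q : ℤ) ^ 3 + (1) * (q : ℤ) ^ 4) ^ 1 *
    ((1) + (-1) * (q : ℤ) + (1) * (q : ℤ) ^ 2) ^ 2 * ((1) + (1) * (q : ℤ) ^ 4) ^ 1 *
    ((1) + (1) * (q : ℤ) ^ 3 + (1) * (q : ℤ) ^ 6) ^ 1 * ((1) + (-1) * (q : ℤ) ^ 2 + (1) * (q : ℤ) ^ 4) ^ 1 := by
  have e : ∀ n, 1 ≤ q ^ n := fun n => Nat.one_le_pow _ _ hq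
  rw [ordPoly]
  push_cast [Nat.cast_sub (e 2), Nat.cast_sub (e 5), Nat.cast_sub (e 6), Nat.cast_sub (e 8), Nat.cast_sub (e 9),
    Nat.cast_sub (e 12)]
  ring

/-- the last two values are not divisors of the order -/
theorem excluded {q k : ℕ} (hq : 3 ≤ q) (hk : k ∣ ordPoly q) :
    k + 1 ≠ q ^ 11 + q ^ 8 + q ^ 7 + q ^ 5 + q ^ 4 + q ∧ k + 2 ≠ q ^ 11 + q ^ 8 + q ^ 7 + q ^ 5 + q ^ 4 + q := by
  have hZ : (k : ℤ) ∣ ((ordPoly q : ℕ) : ℤ) := Int.natCast_dvd_natCast.2 hk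
  rw [ord_cast (by omega)] at hZ
  constructor
  · intro h
    by_cases hs : q < 7
    · have h0 := List.all_eq_true.1 small_q1 q (List.mem_range.2 hs)
      simp only [Bool.or_eq_true, decide_eq_true_eq] at h0
      rcases h0 with h0 | h0
      · omega
      · exact h0 (Nat.mod_eq_zero_of_dvd (by rwa [show q ^ 11 + q ^ 8 + q ^ 7 + q ^ 5 + q ^ 4 + q - 1 = k by omega]))
    · have hkf : (k : ℤ) = ((1 : ℤ) - q + q ^ 2) * f1 q := by
        have : ((k + 1 : ℕ) : ℤ) = _ := congrArg (Nat.cast : ℕ → ℤ) h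
        push_cast at this
        simp only [f1]
        linear_combination this
      rw [hkf] at hZ
      have hd := small1 ((dvd_mul_left _ _).trans hZ)
      have hle := Int.le_of_dvd (by norm_num) hd
      have h7 : (7 : ℤ) ≤ q := by exact_mod_cast (show 7 ≤ q by omega)
      have h9 : (7 : ℤ) ^ 9 ≤ (q : ℤ) ^ 9 := pow_le_pow_left₀ (by norm_num) h7 9
      have h8 : (0 : ℤ) ≤ (q : ℤ) ^ 8 + (q : ℤ) ^ 5 + (q : ℤ) ^ 4 + (q : ℤ) ^ 3 + (q : ℤ) ^ 2 := by positivity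
      simp only [f1] at hle
      norm_num at h9
      linarith
  · intro h
    by_cases hs : q < 256
    · have h0 := List.all_eq_true.1 small_q2 q (List.mem_range.2 hs)
      simp only [Bool.or_eq_true, decide_eq_true_eq] at h0
      rcases h0 with h0 | h0
      · omega
      · exact h0 (Nat.mod_eq_zero_of_dvd (by rwa [show q ^ 11 + q ^ 8 + q ^ 7 + q ^ 5 + q ^ 4 + q - 2 = k by omega]))
    · have hkf : (k : ℤ) = ((1 : ℤ) + q ^ 2) * f2 q := by
        have : ((k + 2 : ℕ) : ℤ) = _ := congrArg (Nat.cast : ℕ → ℤ) h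
        push_cast at this
        simp only [f2]
        linear_combination this
      rw [hkf] at hZ
      have hd := small2 ((dvd_mul_left _ _).trans hZ)
      have hle := Int.le_of_dvd (by norm_num) hd
      have h2 : (256 : ℤ) ≤ q := by exact_mod_cast (show 256 ≤ q by omega)
      have h9 : (256 : ℤ) ^ 9 ≤ (q : ℤ) ^ 9 := pow_le_pow_left₀ (by norm_num) h2 9
      have m : ∀ i j : ℕ, i ≤ j → (q : ℤ) ^ i ≤ (q : ℤ) ^ j := fun i j hij => pow_le_pow_right₀ (by linarith) hij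
      have a7 : 65536 * (q : ℤ) ^ 7 ≤ (q : ℤ) ^ 9 := by
        rw [show (q : ℤ) ^ 9 = (q : ℤ) ^ 2 * (q : ℤ) ^ 7 by ring]
        exact mul_le_mul_of_nonneg_right (le_trans (by norm_num) (pow_le_pow_left₀ (by norm_num) h2 2)) (by positivity)
      have := m 3 7 (by norm_num); have := m 4 7 (by norm_num); have := m 0 7 (by norm_num)
      have h8 : (0 : ℤ) ≤ (q : ℤ) + 2 * (q : ℤ) ^ 2 + 2 * (q : ℤ) ^ 5 + (q : ℤ) ^ 6 := by positivity
      simp only [f2] at hle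
      norm_num at h9 this
      linarith

end Cfsg.Agent.E6MinDegree68
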