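import Cfsg.Agent.Lib.RadicalChar68
import Cfsg.Prelude.Def_ChevE6

/-!
Root tables for the minimal degree bound of `E₆(q)`.
-/

set_option autoImplicit false
set_option maxRecDepth 20000

namespace Cfsg.Agent.E6RadicalTables68

open Cfsg.Agent.RadicalChar68 Cfsg.Lie

/-- certificate of a radical -/
def t1 : Tab 15 where
  S := ![71, 70, 69, 68, 66, 67, 65, 64, 63, 62, 60, 61, 59, 58, 57, 56]
  par := ![(0, 0, 0), (0, 46, 25), (0, 47, 24), (0, 48, 23), (0, 50, 21), (0, 49, 22), (0, 51, 20), (0, 52, 19), (0, 53, 18), (0, 54, 17), (1, 53, 18), (0, 55, 16), (1, 54, 17), (1, 55, 16), (2, 55, 16), (4, 55, 16)]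
  lead := ![[(46, 1), (47, 2), (48, 3), (50, 4), (49, 5), (51, 6), (52, 7), (53, 8), (54, 9), (55, 11)],
    [(39, 2), (40, 3), (43, 4), (41, 5), (44, 6), (45, 7), (53, 10), (54, 12), (55, 13)],
    [(37, 3), (42, 4), (38, 5), (44, 8), (45, 9), (51, 10), (52, 12), (55, 14)],
    [(36, 5), (42, 6), (43, 8), (50, 10), (45, 11), (52, 13), (54, 14)],
    [(37, 6), (38, 7), (40, 8), (41, 9), (48, 10), (49, 12), (55, 15)],
    [(42, 7), (43, 9), (44, 11), (50, 12), (51, 13), (53, 14)],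
    [(36, 7), (39, 8), (47, 10), (41, 11), (49, 13), (54, 15)],
    [(39, 9), (40, 11), (47, 12), (48, 13), (53, 15)],
    [(36, 9), (46, 10), (38, 11), (49, 14), (52, 15)],
    [(37, 11), (46, 12), (48, 14), (51, 15)],
    [(36, 12), (38, 13), (41, 14), (45, 15)],
    [(46, 13), (47, 14), (50, 15)],
    [(37, 13), (40, 14), (44, 15)],
    [(39, 14), (43, 15)],
    [(42, 15)],
    []]
  f0 := 10
  far := [(36, 12), (38, 13), (41, 14), (45, 15)]
  fmv := [(35, 12), (33, 13), (30, 14), (26, 15)]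

/-- certificate of a radical -/
def t1b : Tab 15 where
  S := ![71, 70, 69, 68, 66, 65, 55, 63, 54, 60, 52, 49, 45, 41, 38, 36]
  par := ![(0, 0, 0), (0, 46, 25), (0, 47, 24), (0, 48, 23), (0, 50, 21), (0, 51, 20), (0, 61, 10), (0, 53, 18), (0, 62, 9), (1, 53, 18), (0, 64, 7), (0, 67, 4), (1, 64, 7), (1, 67, 4), (2, 67, 4), (3, 67, 4)]
  lead := ![[(46, 1), (47, 2), (48, 3), (50, 4), (51, 5), (61, 6), (53, 7), (62, 8), (64, 10), (67, 11)],
    [(39, 2), (40, 3), (43, 4), (44, 5), (58, 6), (59, 8), (53, 9), (64, 12), (67, 13)],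
    [(37, 3), (42, 4), (57, 6), (44, 7), (51, 9), (59, 10), (62, 12), (67, 14)],
    [(42, 5), (43, 7), (57, 8), (50, 9), (58, 10), (61, 12), (67, 15)],
    [(37, 5), (56, 6), (40, 7), (48, 9), (59, 11), (62, 13), (64, 14)],
    [(39, 7), (56, 8), (47, 9), (58, 11), (61, 13), (64, 15)],
    [(37, 8), (40, 10), (44, 11), (48, 12), (51, 13), (53, 14)],
    [(46, 9), (56, 10), (57, 11), (61, 14), (62, 15)],
    [(39, 10), (43, 11), (47, 12), (50, 13), (53, 15)],
    [(56, 12), (57, 13), (58, 14), (59, 15)],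
    [(42, 11), (46, 12), (50, 14), (51, 15)],
    [(46, 13), (47, 14), (48, 15)],
    [(42, 13), (43, 14), (44, 15)],
    [(39, 14), (40, 15)],
    [(37, 15)],
    []]
  f0 := 9
  far := [(56, 12), (57, 13), (58, 14), (59, 15)]
  fmv := [(15, 12), (14, 13), (13, 14), (12, 15)]

/-- certificate of a radical -/
def t2 : Tab 9 where
  S := ![55, 54, 53, 52, 51, 49, 50, 48, 47, 46]
  par := ![(0, 0, 0), (0, 37, 34), (0, 38, 33), (0, 40, 31), (0, 41, 30), (0, 44, 27), (1, 41, 30), (0, 45, 26), (1, 45, 26), (3, 45, 26)]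
  lead := ![[(37, 1), (38, 2), (40, 3), (41, 4), (44, 5), (45, 7)],
    [(36, 2), (39, 3), (43, 5), (41, 6), (45, 8)],
    [(39, 4), (40, 6), (43, 7), (44, 8)],
    [(36, 4), (42, 5), (38, 6), (45, 9)],
    [(37, 6), (42, 7), (44, 9)],
    [(36, 7), (38, 8), (41, 9)],
    [(42, 8), (43, 9)],
    [(37, 8), (40, 9)],
    [(39, 9)],
    []]
  f0 := 6
  far := [(42, 8), (43, 9)]
  fmv := [(29, 8), (28, 9)]

/-- derivations -/
def d1 : List (ℕ × ℕ × ℕ) :=
  [(16, 56, 5), (17, 56, 6), (18, 56, 7), (19, 56, 8), (20, 56, 9), (21, 56, 10), (26, 56, 11), (27, 56, 12), (28, 56, 13), (29, 56, 14), (22, 57, 8), (23, 57, 9), (24, 57, 10), (30, 57, 11), (31, 57, 12), (32, 57, 13), (42, 57, 15), (25, 58, 10), (33, 58, 11), (34, 58, 12), (39, 58, 14), (43, 58, 15), (35, 59, 11), (37, 59, 13), (40, 59, 14), (44, 59, 15), (36, 60, 12), (38, 60, 13), (41, 60, 14), (45, 60, 15), (46, 61, 13), (47, 61, 14), (50, 61, 15), (48, 62, 14), (51, 62,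 15), (49, 63, 14), (52, 63, 15), (53, 64, 15), (54, 65, 15), (55, 66, 15), (0, 16, 10), (1, 16, 13), (2, 16, 14), (5, 16, 15), (3, 17, 14), (6, 17, 15), (4, 18, 14), (7, 18, 15), (8, 19, 15), (9, 20, 15), (10, 21, 15), (11, 26, 15), (12, 27, 15), (13, 28, 15), (14, 29, 15), (15, 42, 14)]

/-- derivations -/
def d1b : List (ℕ × ℕ × ℕ) :=
  [(4, 36, 3), (7, 36, 6), (9, 36, 8), (12, 36, 11), (18, 36, 17), (20, 36, 19), (23, 36, 22), (27, 36, 26), (31, 36, 30), (34, 36, 33), (10, 38, 8), (13, 38, 11), (21, 38, 19), (24, 38, 22), (28, 38, 26), (32, 38, 30), (37, 38, 35), (14, 41, 11), (25, 41, 22), (29, 41, 26), (39, 41, 33), (40, 41, 35), (15, 45, 11), (42, 45, 30), (43, 45, 33), (44, 45, 35), (46, 49, 30), (47, 49, 33), (48, 49, 35), (50, 52, 33), (51, 52, 35), (53, 54, 35), (56, 60, 26), (57, 60, 30), (58, 60, 33), (59, 60, 35), (61, 63, 33), (62, 63, 35), (64, 65, 35), (67, 68, 35), (0, 4, 22), (1, 4, 30), (2, 4, 33), (3,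 4, 35), (5, 7, 33), (6, 7, 35), (8, 9, 35), (11, 12, 35), (16, 18, 33), (17, 18, 35), (19, 20, 35), (22, 23, 35), (26, 27, 35), (30, 31, 35), (33, 34, 35), (35, 37, 33)]

/-- derivations -/
def d2 : List (ℕ × ℕ × ℕ) :=
  [(26, 46, 19), (27, 46, 20), (28, 46, 21), (30, 46, 22), (31, 46, 23), (32, 46, 24), (29, 47, 21), (33, 47, 22), (34, 47, 23), (39, 47, 25), (35, 48, 22), (37, 48, 24), (40, 48, 25), (36, 49, 23), (38, 49, 24), (41, 49, 25), (42, 50, 24), (43, 50, 25), (44, 51, 25), (45, 52, 25), (16, 26, 23), (17, 26, 24), (19, 26, 25), (18, 27, 24), (20, 27, 25), (21, 28, 25), (22, 30, 25), (23, 31, 25), (24, 32, 25), (25, 39, 24)]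

/-- the roots of D5 -/
def phi2 : List ℕ := [16, 17, 18, 19, 20, 21, 22, 23, 24, 25, 26, 27, 28, 29, 30, 31, 32, 33, 34, 35, 36, 37, 38, 39, 40, 41, 42, 43, 44, 45, 46, 47, 48, 49, 50, 51, 52, 53, 54, 55]

/-- decompositions in the stabiliser -/
def decs : List (ℕ × ℕ × ℕ) :=
  [(67, 50, 59), (64, 29, 67), (62, 28, 67), (61, 27, 67), (59, 21, 67), (58, 20, 67), (57, 18, 67), (56, 18, 64), (53, 14, 67), (51, 13, 67), (50, 12, 67), (48, 13, 64), (47, 12, 64), (46, 12, 62)]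

/-- index of the root -/
def bpos : Fin 16 := 12

/-- the root -/
def broot : ℕ := 45

/-- the roots of the subsystem A4 -/
def r5 : Fin 5 → Fin 5 → ℕ :=
  ![![0, 42, 43, 44, 45],
    ![29, 0, 39, 40, 41],
    ![28, 32, 0, 37, 38],
    ![27, 31, 34, 0, 36],
    ![26, 30, 33, 35, 0]]

/-- the signs -/
def s5 : Fin 5 → Fin 5 → ℤ :=
  ![![1, 1, -1, 1, -1],
    ![1, 1, 1, -1, 1],
    ![-1, 1, 1, 1, -1],
    ![1, -1, 1, 1, 1],
    ![-1, 1, -1, 1, 1]]

theorem t1_ok : t1.ok chevE6 (List.range 72) = true := by decide +kernel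

theorem t1b_ok : t1b.ok chevE6 (List.range 72) = true := by decide +kernel

theorem t2_ok : t2.ok chevE6 phi2 = true := by decide +kernel

theorem d1_ok : derivOK chevE6 (List.range 72) ((List.finRange 16).map t1.S) d1 = true := by decide +kernel

theorem d1b_ok : derivOK chevE6 (List.range 72) ((List.finRange 16).map t1b.S) d1b = true := by decide +kernel

theorem d2_ok : derivOK chevE6 phi2 ((List.finRange 10).map t2.S) d2 = true := by decide +kernel

theorem fix1 : ((List.finRange 16).all fun i => fixOK chevE6 (List.range 72) t1b.S bpos decs (t1.S i)) = true := by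
  decide +kernel

theorem fix2 : ((List.finRange 10).all fun i => fixOK chevE6 (List.range 72) t1b.S bpos decs (t2.S i)) = true := by
  decide +kernel

theorem inv12 : (phi2.all fun g => okMv chevE6 (List.range 72) t1.S g) = true := by decide +kernel

theorem r5_inv : ((List.finRange 5).all fun a => (List.finRange 5).all fun b => decide (a = b) ||
    okMv chevE6 phi2 t2.S (r5 a b)) = true := by decide +kernel

theorem lead1 : ∀ q : ℕ, (∑ i : Fin 16, q ^ (t1.lead i).length) =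
    q ^ 10 + q ^ 9 + q ^ 8 + 2 * q ^ 7 + 2 * q ^ 6 + 2 * q ^ 5 + 2 * q ^ 4 + 2 * q ^ 3 + q ^ 2 + q + 1 := by
  intro q; simp [t1, Fin.sum_univ_succ]; ring

theorem lead1b : ∀ q : ℕ, (∑ i : Fin 16, q ^ (t1b.lead i).length) =
    q ^ 10 + q ^ 9 + q ^ 8 + 2 * q ^ 7 + 2 * q ^ 6 + 2 * q ^ 5 + 2 * q ^ 4 + 2 * q ^ 3 + q ^ 2 + q + 1 := by
  intro q; simp [t1b, Fin.sum_univ_succ]; ring

theorem lead2 : ∀ q : ℕ, (∑ i : Fin 10, q ^ (t2.lead i).length) =
    q ^ 6 + q ^ 5 + 2 * q ^ 4 + 2 * q ^ 3 + 2 * q ^ 2 + q + 1 := by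
  intro q; simp [t2, Fin.sum_univ_succ]; ring

end Cfsg.Agent.E6RadicalTables68
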