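import Cfsg.Agent.Lib.E6StemClasses67

/-!
The positive unipotent group of type E6 filtered by the 24 orbits of the graph symmetry, ordered by height, and its
trace on `²E₆(q)`.
-/

set_option autoImplicit false
set_option linter.unusedSectionVars false
set_option linter.unusedVariables false
set_option maxRecDepth 20000

namespace Cfsg.Agent.E6StemLevels67

open Cfsg.Lie Cfsg.Agent Cfsg.Agent.ChevalleyCert Cfsg.Agent.ChevalleyCore Cfsg.Agent.ChevalleyRoots
  Cfsg.Agent.ChevalleyTorus Cfsg.Agent.TwistedCore Cfsg.Agent.TwistedTools Cfsg.Agent.TwistedE6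
  Cfsg.Agent.ChevWeyl Cfsg.Agent.ChevBruhat Cfsg.Agent.E6StemClasses67
open scoped commutatorElement

/-- the roots of the orbits -/
def orbL : List (List ℕ) :=
  [[39], [46], [36, 56], [37, 42], [47], [38, 57], [40, 43], [44], [41, 58], [48, 50], [51], [45, 59], [49, 61], [53], [60], [52, 62], [63], [54, 64], [65], [55, 67], [66, 68], [69], [70], [71]]

/-- the roots of an orbit -/
def orb (i : ℕ) : List ℕ := orbL.getD i []

/-- the orbit of a positive root -/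
def lv (r : ℕ) : ℕ :=
  ([2, 3, 5, 0, 6, 8, 3, 6, 7, 11, 1, 4, 9, 12, 9, 10, 15, 13, 17, 19, 2, 5, 8, 11, 14, 12, 15, 16, 17, 18, 20, 19, 20, 21, 22, 23] : List ℕ).getD (r - 36) 24

/-- the number of positive roots from an orbit on -/
def cnt (i : ℕ) : ℕ := ([36, 35, 34, 32, 30, 29, 27, 25, 24, 22, 20, 19, 17, 15, 14, 13, 11, 10, 8, 7, 5, 3, 2, 1, 0] : List ℕ).getD i 0

theorem orb_spec : ∀ i < 24, ∀ r ∈ orb i, 36 ≤ r ∧ r < 72 ∧ lv r = i := by decide +kernel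

theorem mem_orb : ∀ r < 72, 36 ≤ r → lv r < 24 ∧ r ∈ orb (lv r) := by decide +kernel

theorem cnt_succ : ∀ i < 24, cnt i = (orb i).length + cnt (i + 1) := by decide +kernel

/-- the check on a pair of positive roots -/
def pairOk (r s : ℕ) : Bool :=
  (decide (lv r ≠ lv s) || (chevE6.commTerms r s).isEmpty) && decide (s ≠ chevE6.neg r) &&
    (chevE6.commTerms r s).all fun c =>
      decide (c.1 < 72) && decide (36 ≤ c.1) && decide (lv r < lv c.1) && decide (lv s < lv c.1)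

theorem pairOk_all : ∀ a < 36, ∀ b < 36, a ≠ b → pairOk (a + 36) (b + 36) = true := by
  decide +kernel

theorem comm_level : ∀ r < 72, ∀ s < 72, 36 ≤ r → 36 ≤ s → r ≠ s →
    (lv r = lv s → chevE6.commTerms r s = []) ∧ s ≠ chevE6.neg r ∧
    ∀ c ∈ chevE6.commTerms r s, c.1 < 72 ∧ 36 ≤ c.1 ∧ lv r < lv c.1 ∧ lv s < lv c.1 := by
  intro r hr s hs hr' hs' hne
  have h := pairOk_all (r - 36) (by omega) (s - 36) (by omega) (by omega)
  rw [show r - 36 + 36 = r by omega, show s - 36 + 36 = s by omega] at h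
  simp only [pairOk, Bool.and_eq_true, Bool.or_eq_true, decide_eq_true_eq, List.isEmpty_iff, List.all_eq_true] at h
  obtain ⟨⟨h1, h2⟩, h3⟩ := h
  exact ⟨fun e => h1.resolve_left (fun ne => ne e), h2, fun c hc => ⟨(h3 c hc).1.1.1, (h3 c hc).1.1.2,
    (h3 c hc).1.2, (h3 c hc).2⟩⟩

theorem rho_level : ∀ r < 72, 36 ≤ r → ChevalleyGraph.symE6.rho r < 72 ∧
    36 ≤ ChevalleyGraph.symE6.rho r ∧ lv (ChevalleyGraph.symE6.rho r) = lv r := by decide +kernel

section Ambient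

variable {K : Type*} [Field K]

variable (K) in
/-- the roots of one orbit -/
def Y (i : ℕ) : Subgroup (GL chevE6.Idx K) :=
  Subgroup.closure {g | ∃ r t, 36 ≤ r ∧ r < 72 ∧ lv r = i ∧ g = xg c6 r t}

variable (K) in
/-- the roots of orbit at least `i` -/
def R (i : ℕ) : Subgroup (GL chevE6.Idx K) :=
  Subgroup.closure {g | ∃ r t, 36 ≤ r ∧ r < 72 ∧ i ≤ lv r ∧ g = xg c6 r t}

theorem Y_eq_Rt {i : ℕ} (hi : i < 24) : Y K i = Rt K (· ∈ orb i) := by
  unfold Y Rt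
  congr 1
  ext g
  constructor
  · rintro ⟨r, t, h1, h2, h3, rfl⟩
    exact ⟨r, t, h2, h3 ▸ (mem_orb r h2 h1).2, rfl⟩
  · rintro ⟨r, t, -, hr, rfl⟩
    obtain ⟨h1, h2, h3⟩ := orb_spec i hi r hr
    exact ⟨r, t, h1, h2, h3, rfl⟩

theorem xg_mem_Y {r : ℕ} (h : 36 ≤ r) (h' : r < 72) (t : K) : xg c6 r t ∈ Y K (lv r) :=
  Subgroup.subset_closure ⟨r, t, h, h', rfl, rfl⟩

theorem xg_mem_R {i r : ℕ} (h : 36 ≤ r) (h' : r < 72) (hi : i ≤ lv r) (t : K) : xg c6 r t ∈ R K i :=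
  Subgroup.subset_closure ⟨r, t, h, h', hi, rfl⟩

theorem R_mono {i j : ℕ} (h : i ≤ j) : R K j ≤ R K i := by
  refine Subgroup.closure_mono ?_
  rintro g ⟨r, t, h1, h2, h3, rfl⟩
  exact ⟨r, t, h1, h2, h.trans h3, rfl⟩

theorem Y_le_R (i : ℕ) : Y K i ≤ R K i := by
  refine Subgroup.closure_mono ?_
  rintro g ⟨r, t, h1, h2, h3, rfl⟩
  exact ⟨r, t, h1, h2, h3.ge, rfl⟩

theorem R_zero : R K 0 = chevE6.posUnipotent K := by
  rw [ChevalleyUnipotent.posUnipotent_eq c6]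
  unfold R ChevalleyUnipotent.uGe
  congr 1
  ext g
  constructor
  · rintro ⟨r, t, h1, h2, -, rfl⟩
    exact ⟨r, t, h1, h1, h2, rfl⟩
  · rintro ⟨r, t, h1, -, h2, rfl⟩
    exact ⟨r, t, h1, h2, Nat.zero_le _, rfl⟩

theorem R_le_U (i : ℕ) : R K i ≤ chevE6.posUnipotent K := (R_mono (Nat.zero_le i)).trans R_zero.le

theorem R_top {i : ℕ} (hi : 24 ≤ i) : R K i = ⊥ := by
  rw [R, Subgroup.closure_eq_bot_iff]
  rintro g ⟨r, t, h1, h2, h3, rfl⟩
  have := (mem_orb r h2 h1).1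
  omega

theorem xg_comm_word {r s : ℕ} (hr : 36 ≤ r) (hr' : r < 72) (hs : 36 ≤ s) (hs' : s < 72) (hne : r ≠ s) (t u : K) :
    ∃ w ∈ R K (max (lv r) (lv s) + 1), xg c6 s u * xg c6 r t = xg c6 r t * xg c6 s u * w := by
  obtain ⟨-, hn, hc⟩ := comm_level r hr' s hs' hr hs hne
  refine ⟨wg c6 (chevE6.commWord K r s t u), ?_,
    comm_formula c6 hr' hs' hne.symm hn t u⟩
  apply Subgroup.list_prod_mem
  intro g hg
  simp only [ChevalleyDatum.commWord, List.map_map, List.mem_map] at hg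
  obtain ⟨c, hcm, rfl⟩ := hg
  obtain ⟨a1, a2, a3, a4⟩ := hc c hcm
  exact xg_mem_R a2 a1 (by omega) _

theorem xg_conj_R {i r : ℕ} (hr : 36 ≤ r) (hr' : r < 72) (t : K) :
    ∀ v ∈ R K i, xg c6 r t * v * (xg c6 r t)⁻¹ ∈ R K i := by
  intro v hv
  induction hv using Subgroup.closure_induction with
  | mem g hg =>
    obtain ⟨s, u, hs, hs', hi, rfl⟩ := hg
    by_cases hne : r = s
    · subst hne
      rw [xg_inv, xg_mul, xg_mul]; exact xg_mem_R hs hs' hi _
    obtain ⟨w, hw, he⟩ := xg_comm_word hr hr' hs hs' hne (-t) u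
    rw [xg_inv, mul_assoc, he, ← mul_assoc, ← mul_assoc, xg_mul, add_neg_cancel, xg_zero, one_mul]
    exact mul_mem (xg_mem_R hs hs' hi _) (R_mono (by omega) hw)
  | one => simp
  | mul a b _ _ ha hb => simpa [mul_assoc] using mul_mem ha hb
  | inv a _ ha => simpa [mul_assoc] using inv_mem ha

theorem conj_R {i : ℕ} {g : GL chevE6.Idx K} (hg : g ∈ chevE6.posUnipotent K) :
    ∀ v ∈ R K i, g * v * g⁻¹ ∈ R K i := by
  rw [← R_zero] at hg
  induction hg using Subgroup.closure_induction_left with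
  | one => simp
  | mul_left x hx y _ ih =>
    obtain ⟨r, t, hr, hr', -, rfl⟩ := hx
    intro v hv
    simpa [mul_assoc] using xg_conj_R hr hr' t _ (ih v hv)
  | inv_mul_cancel x hx y _ ih =>
    obtain ⟨r, t, hr, hr', -, rfl⟩ := hx
    intro v hv
    simpa [mul_assoc, xg_inv] using xg_conj_R hr hr' (-t) _ (ih v hv)

/-- commutators of levels go up -/
theorem bracket_Y {i j : ℕ} {g v : GL chevE6.Idx K} (hg : g ∈ Y K j) (hv : v ∈ Y K i) :
    ⁅g, v⁆ ∈ R K (max j i + 1) := by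
  have hU : ∀ {a} {k}, a ∈ Y K k → a ∈ chevE6.posUnipotent K := fun ha => R_le_U _ (Y_le_R _ ha)
  induction hg using Subgroup.closure_induction generalizing v with
  | mem x hx =>
    obtain ⟨r, t, hr, hr', hj, rfl⟩ := hx
    induction hv using Subgroup.closure_induction with
    | mem y hy =>
      obtain ⟨s, u, hs, hs', hi, rfl⟩ := hy
      by_cases hne : r = s
      · subst hne
        rw [commutatorElement_eq_one_iff_mul_comm.2 (by rw [xg_mul, xg_mul, add_comm])]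
        exact one_mem _
      obtain ⟨w, hw, he⟩ := xg_comm_word hs hs' hr hr' (fun e => hne e.symm) u t
      rw [commutatorElement_def, he]
      have e : xg c6 s u * xg c6 r t * w * (xg c6 r t)⁻¹ * (xg c6 s u)⁻¹ =
          (xg c6 s u * xg c6 r t) * w * (xg c6 s u * xg c6 r t)⁻¹ := by group
      rw [e]
      refine conj_R (mul_mem (hU (xg_mem_Y hs hs' u)) (hU (xg_mem_Y hr hr' t))) _ ?_
      rw [← hj, ← hi, max_comm]; exact hw
    | one => simp
    | mul a b ha _ iha ihb =>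
      have e : ⁅xg c6 r t, a * b⁆ = ⁅xg c6 r t, a⁆ * (a * ⁅xg c6 r t, b⁆ * a⁻¹) := by
        simp only [commutatorElement_def]; group
      rw [e]; exact mul_mem iha (conj_R (hU ha) _ ihb)
    | inv a ha iha =>
      have e : ⁅xg c6 r t, a⁻¹⁆ = a⁻¹ * ⁅xg c6 r t, a⁆⁻¹ * a⁻¹⁻¹ := by
        simp only [commutatorElement_def]; group
      rw [e]; exact conj_R (inv_mem (hU ha)) _ (inv_mem iha)
  | one => simp
  | mul a b ha _ iha ihb =>
    have e : ⁅a * b, v⁆ = a * ⁅b, v⁆ * a⁻¹ * ⁅a, v⁆ := by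
      simp only [commutatorElement_def]; group
    rw [e]; exact mul_mem (conj_R (hU ha) _ (ihb hv)) (iha hv)
  | inv a ha iha =>
    have e : ⁅a⁻¹, v⁆ = a⁻¹ * ⁅a, v⁆⁻¹ * a⁻¹⁻¹ := by
      simp only [commutatorElement_def]; group
    rw [e]; exact conj_R (inv_mem (hU ha)) _ (inv_mem (iha hv))

theorem Y_commute {i : ℕ} {g v : GL chevE6.Idx K} (hg : g ∈ Y K i) (hv : v ∈ Y K i) : Commute g v := by
  refine D4Levels9.commute_of_closure ?_ hg hv
  rintro _ ⟨r, t, hr, hr', hi, rfl⟩ _ ⟨s, u, hs, hs', hi', rfl⟩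
  by_cases hne : r = s
  · subst hne
    show _ = _
    rw [xg_mul, xg_mul, add_comm]
  obtain ⟨hc, hn, -⟩ := comm_level r hr' s hs' hr hs hne
  exact commute_xg c6 hr' hs' (Ne.symm hne) hn (hc (hi.trans hi'.symm)) t u

theorem exists_YR {i : ℕ} {g : GL chevE6.Idx K} (hg : g ∈ R K i) :
    ∃ y ∈ Y K i, ∃ v ∈ R K (i + 1), g = y * v := by
  induction hg using Subgroup.closure_induction with
  | mem x hx =>
    obtain ⟨r, t, hr, hr', hi, rfl⟩ := hx
    rcases eq_or_lt_of_le hi with rfl | hlt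
    · exact ⟨_, xg_mem_Y hr hr' t, 1, one_mem _, (mul_one _).symm⟩
    · exact ⟨1, one_mem _, _, xg_mem_R hr hr' hlt t, (one_mul _).symm⟩
  | one => exact ⟨1, one_mem _, 1, one_mem _, (mul_one _).symm⟩
  | mul a b _ _ ha hb =>
    obtain ⟨y, hy, v, hv, rfl⟩ := ha
    obtain ⟨y', hy', v', hv', rfl⟩ := hb
    refine ⟨y * y', mul_mem hy hy', y'⁻¹ * v * y'⁻¹⁻¹ * v', mul_mem ?_ hv', by group⟩
    exact conj_R (inv_mem (R_le_U _ (Y_le_R _ hy'))) _ hv
  | inv a _ ha =>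
    obtain ⟨y, hy, v, hv, rfl⟩ := ha
    refine ⟨y⁻¹, inv_mem hy, y * v⁻¹ * y⁻¹, conj_R (R_le_U _ (Y_le_R _ hy)) _ (inv_mem hv), by group⟩

variable [Fintype K]

/-- products of commuting root groups are small -/
theorem card_closure_le : ∀ l : List ℕ, (∀ a ∈ l, ∀ b ∈ l, ∀ t u : K, Commute (xg c6 a t) (xg c6 b u)) →
    Nat.card (Subgroup.closure {g | ∃ r t, r ∈ l ∧ g = xg (F := K) c6 r t}) ≤ Fintype.card K ^ l.length := by
  intro l
  induction l with
  | nil => intro _; simp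
  | cons a l ih =>
    intro h
    set L := Subgroup.closure {g | ∃ r t, r ∈ l ∧ g = xg (F := K) c6 r t} with hL
    have hcomm : ∀ v ∈ L, ∀ t : K, Commute (xg c6 a t) v := by
      intro v hv t
      refine D4Levels9.commute_of_closure
        (s := {xg (F := K) c6 a t}) ?_ (Subgroup.subset_closure rfl) hv
      rintro _ rfl _ ⟨r, u, hr, rfl⟩
      exact h a List.mem_cons_self r (List.mem_cons_of_mem _ hr) t u
    have hsurj : ∀ g ∈ Subgroup.closure {g | ∃ r t, r ∈ a :: l ∧ g = xg (F := K) c6 r t},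
        ∃ p : K × L, g = xg c6 a p.1 * (p.2 : GL chevE6.Idx K) := by
      intro g hg
      induction hg using Subgroup.closure_induction with
      | mem x hx =>
        obtain ⟨r, t, hr, rfl⟩ := hx
        rcases List.mem_cons.1 hr with rfl | hr
        · exact ⟨(t, 1), by simp⟩
        · exact ⟨(0, ⟨_, Subgroup.subset_closure ⟨r, t, hr, rfl⟩⟩), by simp⟩
      | one => exact ⟨(0, 1), by simp⟩
      | mul x y _ _ hx hy =>
        obtain ⟨⟨t, v⟩, rfl⟩ := hx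
        obtain ⟨⟨u, w⟩, rfl⟩ := hy
        refine ⟨(t + u, v * w), ?_⟩
        dsimp only
        rw [← xg_mul, Subgroup.coe_mul]
        have := (hcomm v v.2 u).eq
        rw [mul_assoc, mul_assoc, ← mul_assoc (v : GL chevE6.Idx K), ← this, mul_assoc]
      | inv x _ hx =>
        obtain ⟨⟨t, v⟩, rfl⟩ := hx
        refine ⟨(-t, v⁻¹), ?_⟩
        dsimp only
        rw [← xg_inv, Subgroup.coe_inv, mul_inv_rev]
        exact ((hcomm v v.2 t).inv_inv).eq.symm
    refine le_trans (Nat.card_le_card_of_surjective (α := K × L)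
      (fun p => (⟨xg c6 a p.1 * (p.2 : GL chevE6.Idx K),
        mul_mem (Subgroup.subset_closure ⟨a, p.1, List.mem_cons_self, rfl⟩)
          ((Subgroup.closure_mono (by rintro g ⟨r, t, hr, rfl⟩; exact ⟨r, t, List.mem_cons_of_mem _ hr, rfl⟩))
            p.2.2)⟩ : Subgroup.closure {g | ∃ r t, r ∈ a :: l ∧ g = xg (F := K) c6 r t})) ?_) ?_
    · rintro ⟨g, hg⟩
      obtain ⟨p, hp⟩ := hsurj g hg
      exact ⟨p, Subtype.ext hp.symm⟩
    · rw [Nat.card_prod, List.length_cons, pow_succ', Nat.card_eq_fintype_card]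
      exact Nat.mul_le_mul_left _ (ih fun x hx y hy => h x (List.mem_cons_of_mem _ hx) y (List.mem_cons_of_mem _ hy))

theorem card_Y_le {i : ℕ} (hi : i < 24) : Nat.card (Y K i) ≤ Fintype.card K ^ (orb i).length := by
  have e : Y K i = Subgroup.closure {g | ∃ r t, r ∈ orb i ∧ g = xg (F := K) c6 r t} := by
    unfold Y
    congr 1
    ext g
    constructor
    · rintro ⟨r, t, h1, h2, h3, rfl⟩
      exact ⟨r, t, h3 ▸ (mem_orb r h2 h1).2, rfl⟩
    · rintro ⟨r, t, hr, rfl⟩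
      obtain ⟨h1, h2, h3⟩ := orb_spec i hi r hr
      exact ⟨r, t, h1, h2, h3, rfl⟩
  rw [e]
  refine card_closure_le _ fun a ha b hb t u => ?_
  obtain ⟨a1, a2, a3⟩ := orb_spec i hi a ha
  obtain ⟨b1, b2, b3⟩ := orb_spec i hi b hb
  exact Y_commute (i := i) (a3 ▸ xg_mem_Y a1 a2 t) (b3 ▸ xg_mem_Y b1 b2 u)

theorem card_R_le_mul (i : ℕ) : Nat.card (R K i) ≤ Nat.card (Y K i) * Nat.card (R K (i + 1)) := by
  rw [← Nat.card_prod]
  refine Nat.card_le_card_of_surjective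
    (fun p : Y K i × R K (i + 1) => (⟨(p.1 : GL chevE6.Idx K) * (p.2 : GL chevE6.Idx K),
      mul_mem (Y_le_R i p.1.2) (R_mono i.le_succ p.2.2)⟩ : R K i)) ?_
  rintro ⟨g, hg⟩
  obtain ⟨y, hy, v, hv, rfl⟩ := exists_YR hg
  exact ⟨(⟨y, hy⟩, ⟨v, hv⟩), rfl⟩

theorem card_R_le {i : ℕ} (hi : i ≤ 24) : Nat.card (R K i) ≤ Fintype.card K ^ cnt i := by
  induction hn : 24 - i generalizing i with
  | zero =>
    obtain rfl : i = 24 := by omega
    rw [R_top le_rfl, Subgroup.card_bot]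
    exact Nat.one_le_pow _ _ Fintype.card_pos
  | succ n ih =>
    refine (card_R_le_mul i).trans ?_
    rw [cnt_succ i (by omega), pow_add]
    exact Nat.mul_le_mul (card_Y_le (by omega)) (ih (by omega) (by omega))

theorem card_R {i : ℕ} (hi : i ≤ 24) : Nat.card (R K i) = Fintype.card K ^ cnt i := by
  induction i with
  | zero => rw [R_zero, ChevalleyUnipotent.card_U c6]; rfl
  | succ i ih =>
    refine le_antisymm (card_R_le hi) ?_
    have h := (card_R_le_mul (K := K) i).trans (Nat.mul_le_mul_right _ (card_Y_le (by omega)))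
    rw [ih (by omega), cnt_succ i (by omega), pow_add] at h
    exact Nat.le_of_mul_le_mul_left h (pow_pos Fintype.card_pos _)

/-- a level meets the higher ones trivially -/
theorem Y_inf_R {i : ℕ} (hi : i < 24) {g : GL chevE6.Idx K} (h1 : g ∈ Y K i) (h2 : g ∈ R K (i + 1)) : g = 1 := by
  let m : Y K i × R K (i + 1) → R K i := fun p =>
    ⟨(p.1 : GL chevE6.Idx K) * (p.2 : GL chevE6.Idx K), mul_mem (Y_le_R i p.1.2) (R_mono i.le_succ p.2.2)⟩
  have hs : Function.Surjective m := by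
    rintro ⟨g, hg⟩
    obtain ⟨y, hy, v, hv, rfl⟩ := exists_YR hg
    exact ⟨(⟨y, hy⟩, ⟨v, hv⟩), rfl⟩
  have hb := hs.bijective_of_nat_card_le (by
    rw [Nat.card_prod, card_R hi.le, card_R (show i + 1 ≤ 24 by omega), cnt_succ i hi, pow_add]
    exact Nat.mul_le_mul_right _ (card_Y_le hi))
  have := hb.1 (a₁ := (⟨g, h1⟩, 1)) (a₂ := (1, ⟨g, h2⟩)) (Subtype.ext (by simp [m]))
  exact congrArg Subtype.val (Prod.ext_iff.1 this).1

end Ambient

section Fixed

variable {K : Type*} [Field K] {q : ℕ} (f : K →+* K) (hf : ∀ t, f t = t ^ q)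
variable [Fintype K] (hK : Fintype.card K = q ^ 2)

theorem sg_mem_closure {A : Set (GL chevE6.Idx K)}
    (hA : ∀ g ∈ A, ∃ r t, r < 72 ∧ g = xg c6 r t)
    (h : ∀ g ∈ A, ∀ r t, r < 72 → g = xg c6 r t → (tw f).sg g ∈ Subgroup.closure A)
    {g : GL chevE6.Idx K} (hg : g ∈ Subgroup.closure A) : (tw f).sg g ∈ Subgroup.closure A := by
  refine (tw f).sg_closure_le (fun x hx => ?_) (fun x hx => ?_) hg
  · obtain ⟨r, t, -, rfl⟩ := hA x hx
    exact xg_mem_group c6 r t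
  · obtain ⟨r, t, hr, rfl⟩ := hA x hx
    exact h _ hx r t hr rfl

theorem sg_Y {i : ℕ} {g : GL chevE6.Idx K} (hg : g ∈ Y K i) : (tw f).sg g ∈ Y K i := by
  refine (tw f).sg_closure_le ?_ ?_ hg
  · rintro x ⟨r, t, -, hr, -, rfl⟩
    exact xg_mem_group c6 r t
  · rintro x ⟨r, t, h1, h2, h3, rfl⟩
    obtain ⟨a1, a2, a3⟩ := rho_level r h2 h1
    rw [sg_all f h2]
    exact Subgroup.subset_closure ⟨_, _, a2, a1, a3.trans h3, rfl⟩

theorem sg_R {i : ℕ} {g : GL chevE6.Idx K} (hg : g ∈ R K i) : (tw f).sg g ∈ R K i := by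
  refine (tw f).sg_closure_le ?_ ?_ hg
  · rintro x ⟨r, t, -, hr, -, rfl⟩
    exact xg_mem_group c6 r t
  · rintro x ⟨r, t, h1, h2, h3, rfl⟩
    obtain ⟨a1, a2, a3⟩ := rho_level r h2 h1
    rw [sg_all f h2]
    exact Subgroup.subset_closure ⟨_, _, a2, a1, h3.trans a3.ge, rfl⟩

variable (K q) in
/-- a level inside `³D₄(q)` -/
def X (i : ℕ) : Subgroup ↥(twistedE6 K q) := (Y K i).subgroupOf (twistedE6 K q)

variable (K q) in
/-- the levels at least `i` inside `³D₄(q)` -/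
def N (i : ℕ) : Subgroup ↥(twistedE6 K q) := (R K i).subgroupOf (twistedE6 K q)

theorem mem_X {i : ℕ} {g : ↥(twistedE6 K q)} : g ∈ X K q i ↔ (g : GL chevE6.Idx K) ∈ Y K i := Iff.rfl

theorem mem_N {i : ℕ} {g : ↥(twistedE6 K q)} : g ∈ N K q i ↔ (g : GL chevE6.Idx K) ∈ R K i := Iff.rfl

theorem X_le_N {i j : ℕ} (h : j ≤ i) : X K q i ≤ N K q j := fun _ hg => R_mono h (Y_le_R i hg)

theorem N_mono {i j : ℕ} (h : j ≤ i) : N K q i ≤ N K q j := fun _ hg => R_mono h hg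

theorem bracket_X {i j : ℕ} {x y : ↥(twistedE6 K q)} (hy : y ∈ X K q j) (hx : x ∈ X K q i) :
    ⁅y, x⁆ ∈ N K q (max j i + 1) :=
  bracket_Y (K := K) hy hx

theorem X_commute {i : ℕ} {x y : ↥(twistedE6 K q)} (hy : y ∈ X K q i) (hx : x ∈ X K q i) : Commute y x :=
  Subtype.ext (Y_commute (K := K) hy hx).eq

theorem X_inf_N {i : ℕ} (hi : i < 24) {x : ↥(twistedE6 K q)} (h1 : x ∈ X K q i) (h2 : x ∈ N K q (i + 1)) :
    x = 1 :=
  Subtype.ext (Y_inf_R hi h1 h2)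

theorem N_top {i : ℕ} (hi : 24 ≤ i) {x : ↥(twistedE6 K q)} (hx : x ∈ N K q i) : x = 1 := by
  rw [mem_N, R_top hi, Subgroup.mem_bot] at hx
  exact Subtype.ext hx

theorem conj_N {i : ℕ} {g x : ↥(twistedE6 K q)} (hg : (g : GL chevE6.Idx K) ∈ chevE6.posUnipotent K)
    (hx : x ∈ N K q i) : g * x * g⁻¹ ∈ N K q i :=
  conj_R (K := K) hg _ hx

include hf hK in
theorem exists_XN {i : ℕ} (hi : i < 24) {g : ↥(twistedE6 K q)} (hg : g ∈ N K q i) :
    ∃ x ∈ X K q i, ∃ v ∈ N K q (i + 1), g = x * v := by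
  obtain ⟨y, hy, v, hv, he'⟩ := exists_YR (K := K) hg
  have he : (g : GL chevE6.Idx K) = y * v := he'
  have hgf := le_fixed f hf hK g.2
  have hyU := R_le_U _ (Y_le_R _ hy)
  have hvU := R_le_U _ hv
  have e := hgf.2
  rw [he, (tw f).sg_mul ((tw f).S.U_le_group hyU) ((tw f).S.U_le_group hvU)] at e
  have h1 : y⁻¹ * (tw f).sg y = v * ((tw f).sg v)⁻¹ := by
    rw [eq_mul_inv_iff_mul_eq, mul_assoc, e, inv_mul_cancel_left]
  have h2 := Y_inf_R hi (mul_mem (inv_mem hy) (sg_Y f hy)) (h1 ▸ mul_mem hv (inv_mem (sg_R f hv)))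
  have hyG : y ∈ twistedE6 K q :=
    (classes f hf hK).fixed_U_le hyU ⟨(tw f).S.U_le_group hyU, (inv_mul_eq_one.1 h2).symm⟩
  refine ⟨⟨y, hyG⟩, hy, ⟨v, ?_⟩, hv, Subtype.ext he⟩
  have : v = y⁻¹ * (g : GL chevE6.Idx K) := by rw [he, inv_mul_cancel_left]
  rw [this]
  exact mul_mem (inv_mem hyG) g.2

end Fixed

end Cfsg.Agent.E6StemLevels67
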