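import Cfsg.Agent.Lib.StCheckADE
import Cfsg.Agent.Lib.ChevalleyAll

/-!
The data of types D4, E6, E7, E8 for central closedness.
-/

set_option autoImplicit false
set_option maxRecDepth 100000

namespace Cfsg.Agent.StDataADE

open Cfsg.Lie Cfsg.Agent.ChevalleyCert Cfsg.Agent.ChevalleyCheck Cfsg.Agent.StCheckADE Cfsg.Agent.StClosedADE

theorem sl_D4 : chkSL chevD4 = true := by decide +kernel

theorem sl_E6 : chkSL chevE6 = true := by decide +kernel

theorem sl_E7 : chkSL chevE7 = true := by decide +kernel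

theorem sl_E8 : chkSL chevE8 = true := by decide +kernel

theorem ref_D4 : chkRef chevD4 ChevalleyDataD4.tables
    [(18, 6, 22, 9, 19), (14, 1, 23, 15, 11), (13, 3, 22, 9, 16), (12, 2, 22, 9, 15)] = true := by
  decide +kernel

theorem ref_E6 : chkRef chevE6 ChevalleyDataE6.tables
    [(56, 16, 66, 21, 61), (46, 1, 71, 47, 32), (42, 5, 69, 24, 50), (39, 2, 70, 25, 47),
      (37, 3, 69, 24, 48), (36, 4, 68, 23, 49)] = true := by
  decide +kernel

theorem ref_E7 : chkRef chevE7 ChevalleyDataE7.tables
    [(93, 1, 125, 94, 52), (78, 7, 122, 30, 99), (73, 2, 124, 32, 94), (69, 3, 123, 31, 95),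
      (66, 4, 122, 30, 96), (64, 5, 121, 29, 97), (63, 6, 120, 28, 98)] = true := by
  decide +kernel

theorem ref_E8 : chkRef chevE8 ChevalleyDataE8.tables
    [(162, 14, 233, 99, 168), (141, 7, 234, 105, 146), (135, 6, 234, 105, 140), (130, 5, 235, 110, 134),
      (126, 4, 236, 114, 129), (123, 3, 237, 117, 125), (121, 2, 238, 119, 122),
      (120, 1, 239, 122, 118)] = true := by
  decide +kernel

theorem wit_E6' : chkWit chevE6 ChevalleyDataE6.tables = true := by decide +kernel

theorem wit_E7' : chkWit chevE7 ChevalleyDataE7.tables = true := by decide +kernel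

theorem wit_E8' : chkWit chevE8 ChevalleyDataE8.tables = true := by decide +kernel

theorem data_D4 (C : Cert chevD4) : Data C := data_of_chk C ChevalleyDataD4.rows sl_D4 ref_D4

theorem data_E6 (C : Cert chevE6) : Data C := data_of_chk C ChevalleyDataE6.rows sl_E6 ref_E6

theorem data_E7 (C : Cert chevE7) : Data C := data_of_chk C ChevalleyDataE7.rows sl_E7 ref_E7

theorem data_E8 (C : Cert chevE8) : Data C := data_of_chk C ChevalleyDataE8.rows sl_E8 ref_E8

theorem wit_E6 : Wit chevE6 := wit_of_chk ChevalleyDataE6.cert ChevalleyDataE6.rows wit_E6'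

theorem wit_E7 : Wit chevE7 := wit_of_chk ChevalleyDataE7.cert ChevalleyDataE7.rows wit_E7'

theorem wit_E8 : Wit chevE8 := wit_of_chk ChevalleyDataE8.cert ChevalleyDataE8.rows wit_E8'

end Cfsg.Agent.StDataADE
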