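import Cfsg.Agent.Lib.StCentral
import Cfsg.Agent.Lib.StDataADE
import Cfsg.Agent.Lib.StemBasic

/-!
Schur multipliers of simply laced Chevalley groups over finite fields.
-/

set_option autoImplicit false
set_option linter.unusedSectionVars false

namespace Cfsg.Agent.StMultiplier

open Cfsg.Lie Cfsg.Agent.ChevalleyCert Cfsg.Agent.StBasic Cfsg.Agent.StClosedADE

universe u

variable {D : ChevalleyDatum} (C : Cert D) (K : Type u) [Field K] [Finite K]
variable (hG : Gen D) (hD : Data C) (hW : Wit D)

include C hG hD hW in
theorem st_trivial : Cfsg.HasCyclicSchurMultiplier (D.SteinbergGroup K) 1 := by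
  have := StCentral.finite C K (StGroup.relsAB_subset K) subset_rfl hG
  exact StemBasic.hasCyclic_one fun _ _ _ π hπ =>
    StCentral.ker_eq_bot_of_wit C K (StGroup.relsAB_subset K) subset_rfl hG hD hW π hπ

include C hG hD hW in
/-- the multiplier of the Chevalley group is the centre of the Steinberg group -/
theorem group_multiplier {n : ℕ} (hn : Nat.card (Subgroup.center (D.SteinbergGroup K)) = n)
    (hc : IsCyclic (Subgroup.center (D.SteinbergGroup K))) :
    Cfsg.HasCyclicSchurMultiplier ↥(D.group K) n := by
  have hAB := StGroup.relsAB_subset (D := D) K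
  have := StCentral.finite C K hAB subset_rfl hG
  have hk : (StCentral.proj C K hAB subset_rfl).ker = Subgroup.center (D.SteinbergGroup K) := by
    rw [StCentral.ker_proj]
    exact StBruhat.ker_eq_center (StGroup.sysSt C K) hG
  have hcard : Nat.card (StCentral.proj C K hAB subset_rfl).ker = Nat.card (Multiplicative (ZMod n)) := by
    rw [hk, hn, Nat.card_congr Multiplicative.toAdd, Nat.card_zmod]
  have : IsCyclic (StCentral.proj C K hAB subset_rfl).ker := by rw [hk]; exact hc
  exact StemBasic.hasSchurMultiplier_of_cover (StCentral.proj C K hAB subset_rfl)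
    (StCentral.proj_surjective C K hAB subset_rfl) hk.le (StCentral.perfect (StGroup.sysSt C K) hD)
    (fun _ _ _ π hπ => StCentral.ker_eq_bot_of_wit C K hAB subset_rfl hG hD hW π hπ)
    (mulEquivOfCyclicCardEq hcard)

end Cfsg.Agent.StMultiplier
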