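import Cfsg.Agent.Lib.TwistedE6Simple
import Cfsg.Agent.Lib.StEmbedE8
import Cfsg.Agent.Lib.StMultiplier

/-!
A stem extension of `²E₆(q)` with kernel of order `gcd(3, q + 1)`: inside the preimage in the Steinberg group of
type E6.
-/

set_option autoImplicit false
set_option linter.unusedSectionVars false
set_option linter.unusedVariables false
set_option maxRecDepth 20000

namespace Cfsg.Agent.E6StemLower67

open Cfsg.Lie Cfsg.Agent Cfsg.Agent.ChevalleyCert Cfsg.Agent.ChevalleyCore Cfsg.Agent.ChevalleyRoots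
  Cfsg.Agent.ChevalleyTorus Cfsg.Agent.TwistedCore Cfsg.Agent.TwistedTools Cfsg.Agent.TwistedE6
open scoped commutatorElement

universe u

variable (K : Type u) [Field K] (q : ℕ)

/-- the Steinberg system -/
noncomputable abbrev St : StBasic.Sys c6 K (chevE6.SteinbergGroup K) := StGroup.sysSt c6 K

/-- the preimage in the Steinberg group -/
noncomputable def Pre : Subgroup (chevE6.SteinbergGroup K) := (twistedE6 K q).comap (St K).θ

/-- the projection of the preimage -/
noncomputable def pj : ↥(Pre K q) →* ↥(twistedE6 K q) :=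
  ((St K).θ.comp (Pre K q).subtype).codRestrict (twistedE6 K q) fun x => x.2

/-- the cover -/
noncomputable def cov : ↥(commutator ↥(Pre K q)) →* ↥(twistedE6 K q) := (pj K q).comp (commutator ↥(Pre K q)).subtype

variable {K q} (f : K →+* K) (hf : ∀ t, f t = t ^ q) [Fintype K] (hK : Fintype.card K = q ^ 2)

theorem hMul : StTorus.HMul (St K) := StGroupTorus.hMul_st c6 K

theorem finite_St : Finite (chevE6.SteinbergGroup K) :=
  StCentral.finite c6 K (StGroup.relsAB_subset K) subset_rfl StGen.gen_E6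

include hf hK in
theorem pj_surjective : Function.Surjective (pj K q) := by
  intro g
  have hg : (g : GL chevE6.Idx K) ∈ (St K).θ.range := by
    rw [StGroup.range_sys c6 K (St K)]
    exact (le_fixed f hf hK g.2).1
  obtain ⟨x, hx⟩ := hg
  exact ⟨⟨x, show (St K).θ x ∈ twistedE6 K q by rw [hx]; exact g.2⟩, Subtype.ext hx⟩

theorem pj_ker_le : (pj K q).ker ≤ Subgroup.center ↥(Pre K q) := by
  intro x hx
  have h1 : (St K).θ x.1 = 1 := congrArg Subtype.val (MonoidHom.mem_ker.1 hx)
  have hc := StBruhat.mem_center_of_ker (St K) StGen.gen_E6 h1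
  exact Subgroup.mem_center_iff.2 fun g => Subtype.ext (Subgroup.mem_center_iff.1 hc g.1)

variable (hperf : commutator ↥(twistedE6 K q) = ⊤)

include hf hK hperf in
theorem cov_surjective : Function.Surjective (cov K q) := by
  intro g
  have h : g ∈ (commutator ↥(Pre K q)).map (pj K q) := by
    rw [_root_.commutator_def, Subgroup.map_commutator,
      Subgroup.map_top_of_surjective _ (pj_surjective f hf hK), ← _root_.commutator_def, hperf]
    exact Subgroup.mem_top g
  obtain ⟨x, hx, hxe⟩ := h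
  exact ⟨⟨x, hx⟩, hxe⟩

include hf hK hperf in
theorem cov_perfect : commutator ↥(commutator ↥(Pre K q)) = ⊤ := by
  rw [eq_top_iff]
  rintro ⟨x, hx⟩ -
  have key : commutator ↥(Pre K q) ≤
      (commutator ↥(commutator ↥(Pre K q))).map (commutator ↥(Pre K q)).subtype := by
    refine (_root_.commutator_def ↥(Pre K q)).le.trans (Subgroup.commutator_le.2 ?_)
    intro a _ b _
    obtain ⟨a', ha'⟩ := cov_surjective f hf hK hperf (pj K q a)
    obtain ⟨b', hb'⟩ := cov_surjective f hf hK hperf (pj K q b)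
    refine ⟨⁅a', b'⁆, Subgroup.commutator_mem_commutator (Subgroup.mem_top _) (Subgroup.mem_top _), ?_⟩
    rw [map_commutatorElement]
    exact (StemPairing.bracket_congr pj_ker_le ha'.symm hb'.symm).symm
  obtain ⟨x', hx', he⟩ := key hx
  obtain rfl : x' = ⟨x, hx⟩ := Subtype.ext he
  exact hx'

include hf hK hperf in
theorem cov_stem : Cfsg.IsStemExtension (cov K q) := by
  refine ⟨cov_surjective f hf hK hperf, fun x hx => ?_, by rw [cov_perfect f hf hK hperf]; exact le_top⟩
  have := pj_ker_le (K := K) (q := q) (x := x.1) hx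
  exact Subgroup.mem_center_iff.2 fun g => Subtype.ext (Subgroup.mem_center_iff.1 this g.1)

theorem dvd_gcd_one {p : ℕ} (hp : p.Prime) (h3 : p ≠ 3) : Nat.Coprime p 3 :=
  (Nat.coprime_primes hp Nat.prime_three).2 h3

include hf hK hperf in
theorem root_pair_mem {p : ℕ} [Fact p.Prime] [CharP K p] (h3 : p ≠ 3)
    (hd : Nat.card (pj K q).ker ∣ 3) {x : ↥(Pre K q)} (hx : x ^ p = 1) : x ∈ commutator ↥(Pre K q) := by
  haveI := finite_St (K := K)
  obtain ⟨y, hy⟩ := cov_surjective f hf hK hperf (pj K q x)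
  obtain ⟨z, hz, he⟩ := StemBasic.exists_ker_mul (σ := pj K q) hy.symm
  have hz3 : z ^ 3 = 1 := by
    obtain ⟨k, hk⟩ := hd
    have := StemBasic.orderOf_dvd_card_ker (σ := pj K q) hz
    exact orderOf_dvd_iff_pow_eq_one.1 (this.trans ⟨k, hk⟩)
  have h1 : z ^ p ∈ commutator ↥(Pre K q) := by
    have e : x ^ p = (y : ↥(Pre K q)) ^ p * z ^ p := by
      rw [he, Commute.mul_pow (StemBasic.ker_comm pj_ker_le hz _)]
      rfl
    rw [hx] at e
    rw [eq_inv_of_mul_eq_one_right e.symm]
    exact inv_mem (pow_mem y.2 p)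
  have hz1 : z ∈ commutator ↥(Pre K q) := by
    have hcop : Nat.Coprime p (orderOf z) :=
      (dvd_gcd_one (Fact.out : p.Prime) h3).coprime_dvd_right (orderOf_dvd_of_pow_eq_one hz3)
    obtain ⟨m, hm⟩ := exists_pow_eq_self_of_coprime hcop
    rw [← hm]
    exact pow_mem h1 m
  rw [he]
  exact mul_mem y.2 hz1

/-- commuting root elements in the Steinberg group -/
theorem st_comm {r s : ℕ} (hr : r < chevE6.nroots) (hs : s < chevE6.nroots) (h1 : s ≠ r)
    (h2 : s ≠ chevE6.neg r) (h : chevE6.commTerms r s = []) (t u : K) :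
    Commute ((St K).x r t) ((St K).x s u) := by
  have := (St K).comm r s hr hs h1 h2 t u
  simp only [ChevalleyDatum.commWord, h, List.map_nil, List.prod_nil, mul_one] at this
  exact this.symm

theorem st_pow (p : ℕ) [CharP K p] {r : ℕ} (hr : r < chevE6.nroots) (t : K) : (St K).x r t ^ p = 1 := by
  have : ∀ k : ℕ, (St K).x r t ^ k = (St K).x r ((k : K) * t) := by
    intro k
    induction k with
    | zero => rw [pow_zero, Nat.cast_zero, zero_mul, StBasic.x_zero _ hr]
    | succ k ih => rw [pow_succ, ih, (St K).x_add r hr, Nat.cast_succ, add_mul, one_mul]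
  rw [this, CharP.cast_eq_zero, zero_mul, StBasic.x_zero _ hr]

include hf hK hperf in
theorem torus_pair_mem {p : ℕ} [Fact p.Prime] [CharP K p] (h3 : p ≠ 3) (hd : Nat.card (pj K q).ker ∣ 3)
    (j : Fin 2) (t : Kˣ) :
    StTorus.tor (St K) StGen.gen_E6 hMul (Pi.mulSingle (pn j) t * Pi.mulSingle (pm j) (t ^ q)) ∈
      (commutator ↥(Pre K q)).map (Pre K q).subtype := by
  set M := (commutator ↥(Pre K q)).map (Pre K q).subtype
  set S := St K
  have hcm : ∀ {r s : ℕ}, r ∈ [ra j, chevE6.neg (ra j)] → s ∈ [rb j, chevE6.neg (rb j)] → ∀ a b : K,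
      Commute (S.x r a) (S.x s b) := by
    intro r s hr hs a b
    obtain ⟨h1, h2, h3', h4, h5⟩ := orth_ok j r hr s hs
    exact st_comm h1 h2 h3' h4 h5 a b
  have hlt : ra j < chevE6.nroots ∧ rb j < chevE6.nroots :=
    ⟨simple_lt c6 (pn j).isLt, simple_lt c6 (pm j).isLt⟩
  have hU : ∀ a : K, S.x (ra j) a * S.x (rb j) (a ^ q) ∈ M ∧
      S.x (chevE6.neg (ra j)) a * S.x (chevE6.neg (rb j)) (a ^ q) ∈ M := by
    intro a
    have h1 : S.x (ra j) a * S.x (rb j) (a ^ q) ∈ Pre K q := by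
      show S.θ _ ∈ twistedE6 K q
      rw [map_mul, S.θ_x _ hlt.1, S.θ_x _ hlt.2]
      exact (pr_mem q j a).1
    have h2 : S.x (chevE6.neg (ra j)) a * S.x (chevE6.neg (rb j)) (a ^ q) ∈ Pre K q := by
      show S.θ _ ∈ twistedE6 K q
      rw [map_mul, S.θ_x _ (c6.neg_lt _), S.θ_x _ (c6.neg_lt _)]
      exact (pr_mem q j a).2
    constructor
    · refine ⟨⟨_, h1⟩, root_pair_mem f hf hK hperf h3 hd (p := p) (Subtype.ext ?_), rfl⟩
      show (S.x (ra j) a * S.x (rb j) (a ^ q)) ^ p = 1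
      rw [(hcm (by simp) (by simp) a _).mul_pow, st_pow p hlt.1, st_pow p hlt.2, one_mul]
    · refine ⟨⟨_, h2⟩, root_pair_mem f hf hK hperf h3 hd (p := p) (Subtype.ext ?_), rfl⟩
      show (S.x (chevE6.neg (ra j)) a * S.x (chevE6.neg (rb j)) (a ^ q)) ^ p = 1
      rw [(hcm (by simp) (by simp) a _).mul_pow, st_pow p (c6.neg_lt _), st_pow p (c6.neg_lt _), one_mul]
  have hn : ∀ a : K, StBasic.n S (pn j).val a * StBasic.n S (pm j).val (a ^ q) ∈ M := by
    intro a
    have e : StBasic.n S (pn j).val a * StBasic.n S (pm j).val (a ^ q) =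
        S.x (ra j) a * S.x (rb j) (a ^ q) *
          (S.x (chevE6.neg (ra j)) (-a⁻¹) * S.x (chevE6.neg (rb j)) (-(a ^ q)⁻¹)) *
          (S.x (ra j) a * S.x (rb j) (a ^ q)) := by
      unfold StBasic.n
      rw [triple_mul (hcm (by simp) (by simp) _ _).symm (hcm (by simp) (by simp) _ _).symm
        (hcm (by simp) (by simp) _ _).symm]
    rw [e, ← neg_inv_pow f hf a]
    exact mul_mem (mul_mem (hU a).1 (hU _).2) (hU a).1
  have hc : ∀ a b : K, Commute (StBasic.n S (pm j).val a) (StBasic.n S (pn j).val b) := by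
    intro a b
    have h : ∀ r ∈ [ra j, chevE6.neg (ra j)], ∀ c : K, Commute (S.x r c) (StBasic.n S (pm j).val a) :=
      fun r hr c => ((hcm hr (by simp) _ _).mul_right (hcm hr (by simp) _ _)).mul_right (hcm hr (by simp) _ _)
    exact (((h _ (by simp) _).mul_left (h _ (by simp) _)).mul_left (h _ (by simp) _)).symm
  rw [map_mul, StTorus.tor_single, StTorus.tor_single]
  show StBasic.n S (pn j).val (t : K) * StBasic.n S (pn j).val (-1) *
    (StBasic.n S (pm j).val ((t ^ q : Kˣ) : K) * StBasic.n S (pm j).val (-1)) ∈ M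
  have e : StBasic.n S (pn j).val (t : K) * StBasic.n S (pn j).val (-1) *
      (StBasic.n S (pm j).val ((t ^ q : Kˣ) : K) * StBasic.n S (pm j).val (-1)) =
      (StBasic.n S (pn j).val (t : K) * StBasic.n S (pm j).val ((t : K) ^ q)) *
        (StBasic.n S (pn j).val (-1) * StBasic.n S (pm j).val ((-1 : K) ^ q)) := by
    rw [Units.val_pow_eq_pow_val, show (-1 : K) ^ q = -1 by rw [← hf, map_neg, map_one]]
    exact mul_mul_mul_comm' (hc _ _).symm
  rw [e]
  exact mul_mem (hn _) (hn _)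
where
  mul_mul_mul_comm' {a b c d : chevE6.SteinbergGroup K} (h : Commute b c) :
      a * b * (c * d) = a * c * (b * d) := by
    rw [mul_assoc a b, ← mul_assoc b c, h.eq, mul_assoc, mul_assoc]

include hf hK in
/-- a stem extension with kernel of the right order -/
theorem exists_cover (hperf : commutator ↥(twistedE6 K q) = ⊤) :
    ∃ (Γ : Type u) (_ : Group Γ) (_ : Finite Γ) (σ : Γ →* ↥(twistedE6 K q)),
      Cfsg.IsStemExtension σ ∧ Nonempty (σ.ker ≃* Multiplicative (ZMod (Nat.gcd 3 (q + 1)))) := by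
  haveI := finite_St (K := K)
  have hd3 : Nat.gcd 3 (q + 1) = 1 ∨ Nat.gcd 3 (q + 1) = 3 :=
    (Nat.dvd_prime Nat.prime_three).1 (Nat.gcd_dvd_left 3 (q + 1))
  rcases hd3 with h1 | h3
  · rw [h1]
    refine ⟨↥(twistedE6 K q), inferInstance, inferInstance, MonoidHom.id _, StemBasic.isStem_id _, ⟨?_⟩⟩
    have hk : Nat.card (MonoidHom.id ↥(twistedE6 K q)).ker = 1 := by
      rw [(MonoidHom.ker_eq_bot_iff _).2 fun _ _ h => h, Subgroup.card_bot]
    haveI := (Nat.card_eq_one_iff_unique.1 hk).1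
    haveI : IsCyclic (MonoidHom.id ↥(twistedE6 K q)).ker := isCyclic_of_subsingleton
    exact mulEquivOfCyclicCardEq (by rw [hk, Nat.card_congr Multiplicative.toAdd, Nat.card_zmod])
  have h3q : 3 ∣ q + 1 := h3 ▸ Nat.gcd_dvd_right 3 (q + 1)
  obtain ⟨p, hp⟩ := CharP.exists K
  haveI := hp
  obtain ⟨m, hpp, hm⟩ := FiniteField.card K p
  haveI : Fact p.Prime := ⟨hpp⟩
  have hp3 : p ≠ 3 := by
    rintro rfl
    have hq3 : 3 ∣ q := Nat.prime_three.dvd_of_dvd_pow (hK ▸ hm ▸ dvd_pow_self 3 m.pos.ne')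
    exact absurd ((Nat.dvd_add_right hq3).1 h3q) (by norm_num)
  have hker : Nat.card (Subgroup.center (chevE6.SteinbergGroup K)) ∣ 3 := by
    rw [StEmbedE8.card_center_E6]
    exact Nat.gcd_dvd_left _ _
  have hcz : ∀ x : ↥(Pre K q), x ∈ (pj K q).ker → x.1 ∈ Subgroup.center (chevE6.SteinbergGroup K) :=
    fun x hx => StBruhat.mem_center_of_ker (St K) StGen.gen_E6 (congrArg Subtype.val (MonoidHom.mem_ker.1 hx))
  have hd : Nat.card (pj K q).ker ∣ 3 := by
    refine (Subgroup.card_dvd_of_injective (((Pre K q).subtype.comp (pj K q).ker.subtype).codRestrict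
      (Subgroup.center (chevE6.SteinbergGroup K)) fun x => hcz x.1 x.2) ?_).trans hker
    intro a b h
    exact Subtype.ext (Subtype.ext (congrArg Subtype.val h :))
  set σ := cov K q
  refine ⟨↥(commutator ↥(Pre K q)), inferInstance, inferInstance, σ, cov_stem f hf hK hperf, ?_⟩
  have hkd : Nat.card σ.ker ∣ 3 := by
    refine (Subgroup.card_dvd_of_injective (((commutator ↥(Pre K q)).subtype.comp σ.ker.subtype).codRestrict
      (pj K q).ker fun x => x.2) ?_).trans hd
    intro a b h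
    exact Subtype.ext (Subtype.ext (congrArg Subtype.val h :))
  obtain ⟨w, hw⟩ : ∃ w : Kˣ, orderOf w = 3 := by
    haveI : Fact (Nat.Prime 3) := ⟨Nat.prime_three⟩
    refine exists_prime_orderOf_dvd_card' 3 ?_
    rw [TwistedField.card_units_eq, hK]
    obtain ⟨k, rfl⟩ : ∃ k, q = k + 1 := ⟨q - 1, by have := TwistedField.one_lt_base hK; omega⟩
    have : (k + 1) ^ 2 - 1 = (k + 1 + 1) * k := by
      have : (k + 1) ^ 2 = (k + 1 + 1) * k + 1 := by ring
      omega
    rw [this]
    exact Dvd.dvd.mul_right h3q k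
  have hw3 : w ^ 3 = 1 := hw ▸ pow_orderOf_eq_one w
  have hwq : w ^ q = w ^ 2 := by
    rw [pow_eq_pow_mod q hw3, show q % 3 = 2 by omega]
  have hwq2 : (w ^ 2) ^ q = w := by
    rw [← pow_mul, mul_comm, pow_mul, hwq, ← pow_mul, show 2 * 2 = 3 + 1 from rfl, pow_succ, hw3, one_mul]
  set c : Fin chevE6.rank → Kˣ :=
    Pi.mulSingle (pn 0) w * Pi.mulSingle (pm 0) (w ^ q) *
      (Pi.mulSingle (pn 1) (w ^ 2) * Pi.mulSingle (pm 1) ((w ^ 2) ^ q)) with hc
  have hcw : c = fun i : Fin chevE6.rank => ([w, 1, w ^ 2, 1, w, w ^ 2] : List Kˣ).getD i.val 1 := by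
    funext i
    have hi : i = nd 0 ∨ i = nd 1 ∨ i = nd 2 ∨ i = nd 3 ∨ i = nd 4 ∨ i = nd 5 := by revert i; decide
    rcases hi with rfl | rfl | rfl | rfl | rfl | rfl <;>
      simp [hc, hwq, hwq2, pn, pm, Pi.mulSingle_apply]
  obtain ⟨z, hzC, hz⟩ : StTorus.tor (St K) StGen.gen_E6 hMul c ∈
      (commutator ↥(Pre K q)).map (Pre K q).subtype := by
    rw [hc, map_mul]
    exact mul_mem (torus_pair_mem f hf hK hperf (p := p) hp3 hd 0 w)
      (torus_pair_mem f hf hK hperf (p := p) hp3 hd 1 (w ^ 2))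
  have hzk : (⟨z, hzC⟩ : ↥(commutator ↥(Pre K q))) ∈ σ.ker := by
    refine MonoidHom.mem_ker.2 (Subtype.ext ?_)
    show (St K).θ ((Pre K q).subtype z) = 1
    rw [hz, StTorus.θ_tor, hcw, torus_ker hw3]
  have hz1 : (⟨z, hzC⟩ : ↥(commutator ↥(Pre K q))) ≠ 1 := by
    intro h
    have h' : StTorus.tor (St K) StGen.gen_E6 hMul c = 1 := by
      rw [← hz, show z = (1 : ↥(Pre K q)) from congrArg Subtype.val h]; rfl
    have := congrFun ((injective_iff_map_eq_one _).1 (StEmbedE8.tor_injective c6 (by decide +kernel)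
      StEmbedE8.emb_E6 (StDataADE.data_E6 _) K StGen.gen_E6) c h') (nd 0)
    rw [hcw] at this
    simp at this
    rw [this, orderOf_one] at hw
    omega
  have hk3 : Nat.card σ.ker = 3 := by
    rcases (Nat.dvd_prime Nat.prime_three).1 hkd with h | h
    · exfalso
      rw [Subgroup.card_eq_one] at h
      exact hz1 (Subgroup.mem_bot.1 (h ▸ hzk))
    · exact h
  haveI : Fact (Nat.Prime 3) := ⟨Nat.prime_three⟩
  haveI : IsCyclic σ.ker := isCyclic_of_prime_card hk3
  rw [h3]
  exact ⟨mulEquivOfCyclicCardEq (by rw [hk3, Nat.card_congr Multiplicative.toAdd, Nat.card_zmod])⟩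

end Cfsg.Agent.E6StemLower67
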