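import Cfsg.Agent.Lib.E6StemLevels67
import Cfsg.Agent.Lib.StemSection9

/-!
Central extensions of `²E₆(q)`, `q > 2`: the unipotent subgroup has no multiplier.
-/

set_option autoImplicit false
set_option linter.unusedSectionVars false
set_option linter.unusedVariables false
set_option linter.unusedSimpArgs false
set_option maxRecDepth 20000

namespace Cfsg.Agent.E6StemU67

open Cfsg.Lie Cfsg.Agent Cfsg.Agent.ChevalleyCert Cfsg.Agent.ChevalleyCore Cfsg.Agent.ChevalleyRoots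
  Cfsg.Agent.ChevalleyTorus Cfsg.Agent.TwistedCore Cfsg.Agent.TwistedTools Cfsg.Agent.TwistedE6
  Cfsg.Agent.ChevWeyl Cfsg.Agent.ChevBruhat Cfsg.Agent.E6StemClasses67 Cfsg.Agent.E6StemLevels67
  Cfsg.Agent.TwistAutE6 Cfsg.Agent.StemSection9
open scoped commutatorElement

/-! ### exponents -/

/-- parameters `(k₁, k₃, x₀, x₂, y₀, y₂)` of the torus elements used -/
def prs : List (ℤ × ℤ × ℤ × ℤ × ℤ × ℤ) :=
  [(0, 0, -1, 0, 1, 0), (-1, 0, 0, 0, 0, 0), (0, -1, 0, 0, 0, 0), (0, 0, -1, 0, 0, -1), (0, 0, -1, -1, 0, 1),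
    (-1, -1, 0, -1, 0, -1)]

/-- the two parts of the exponent on a root -/
def AB (p : ℤ × ℤ × ℤ × ℤ × ℤ × ℤ) (r : ℕ) : ℤ × ℤ :=
  match p with
  | (k1, k3, x0, x2, y0, y2) =>
    (k1 * chevE6.cartan 1 r + k3 * chevE6.cartan 3 r + x0 * chevE6.cartan 0 r + y0 * chevE6.cartan 5 r +
        x2 * chevE6.cartan 2 r + y2 * chevE6.cartan 4 r,
      k1 * chevE6.cartan 1 r + k3 * chevE6.cartan 3 r + x0 * chevE6.cartan 5 r + y0 * chevE6.cartan 0 r +
        x2 * chevE6.cartan 4 r + y2 * chevE6.cartan 2 r)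

/-- the exponent vanishes for every `q` -/
def zeroB (c : ℤ × ℤ) : Bool := decide (c.1 = 0 ∧ c.2 = 0)

/-- the exponent is not a multiple of `q² - 1` for any `q ≥ 3` -/
def moveB (c : ℤ × ℤ) : Bool :=
  decide ((c.1 ≠ 0 ∨ c.2 ≠ 0) ∧ (c.1 + 3 * c.2) % 8 ≠ 0 ∧ (c.1 + 4 * c.2) % 15 ≠ 0 ∧
    ((c.1.natAbs ≤ 4 ∧ c.2.natAbs ≤ 3) ∨ (c.2.natAbs ≤ 4 ∧ c.1.natAbs ≤ 3)))

/-- a torus element fixes an orbit -/
def fixB (p : ℤ × ℤ × ℤ × ℤ × ℤ × ℤ) (i : ℕ) : Bool := (orb i).all fun r => zeroB (AB p r)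

/-- a torus element moves an orbit -/
def movB (p : ℤ × ℤ × ℤ × ℤ × ℤ × ℤ) (i : ℕ) : Bool := (orb i).all fun r => moveB (AB p r)

theorem movers_ok : ∀ i < 24, ∃ p ∈ prs, movB p i = true := by decide +kernel

theorem killers_ok : ∀ i < 24, ∀ j < i, ∃ p ∈ prs,
    (fixB p j = true ∧ movB p i = true) ∨ (fixB p i = true ∧ movB p j = true) := by decide +kernel

theorem small_zero {q A B : ℤ} (hq : 5 ≤ q) (hA : A.natAbs ≤ 4) (hB : B.natAbs ≤ 3)
    (hd : q ^ 2 - 1 ∣ A + q * B) : A = 0 ∧ B = 0 := by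
  have hA' : -4 ≤ A ∧ A ≤ 4 := by omega
  have hB' : -3 ≤ B ∧ B ≤ 3 := by omega
  have h0 : A + q * B = 0 := Int.eq_zero_of_abs_lt_dvd hd (by
    rw [abs_lt]; constructor <;> nlinarith)
  have hB0 : B = 0 := by
    by_contra hne
    rcases (show 1 ≤ B ∨ B ≤ -1 by omega) with h | h <;> nlinarith
  subst hB0
  simp_all

theorem move_int {q : ℕ} (hq : 3 ≤ q) {c : ℤ × ℤ} (h : moveB c = true) :
    ¬ ((q : ℤ) ^ 2 - 1 ∣ c.1 + q * c.2) := by
  obtain ⟨A, B⟩ := c
  simp only [moveB, decide_eq_true_eq] at h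
  obtain ⟨h0, h8, h15, hs⟩ := h
  intro hd
  rcases (show q = 3 ∨ q = 4 ∨ 5 ≤ q by omega) with rfl | rfl | h5
  · norm_num at hd; omega
  · norm_num at hd; omega
  have h5' : (5 : ℤ) ≤ (q : ℤ) := by exact_mod_cast h5
  rcases hs with ⟨ha, hb⟩ | ⟨hb, ha⟩
  · obtain ⟨ea, eb⟩ := small_zero h5' ha hb hd
    rcases h0 with h | h <;> contradiction
  · have hd' : (q : ℤ) ^ 2 - 1 ∣ B + q * A := by
      have e : B + (q : ℤ) * A = q * (A + q * B) - ((q : ℤ) ^ 2 - 1) * B := by ring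
      rw [e]
      exact dvd_sub (dvd_mul_of_dvd_right hd _) (dvd_mul_right _ _)
    obtain ⟨eb, ea⟩ := small_zero h5' hb ha hd'
    rcases h0 with h | h <;> contradiction

variable {K : Type*} [Field K] {q : ℕ} (f : K →+* K) (hf : ∀ t, f t = t ^ q)
variable [Fintype K] (hK : Fintype.card K = q ^ 2)

include hK in
theorem units_zpow (g : Kˣ) : g ^ ((q : ℤ) ^ 2 - 1) = 1 := by
  have h := units_q2 hK g
  rw [← pow_mul] at h
  rw [zpow_sub, zpow_one, ← Nat.cast_pow, zpow_natCast, pow_two, h, mul_inv_cancel]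

include hK in
/-- the parameters of a torus element -/
noncomputable def par (g : Kˣ) : ℤ × ℤ × ℤ × ℤ × ℤ × ℤ → Dg K q
  | (k1, k3, x0, x2, y0, y2) =>
    ((⟨g ^ (((q : ℤ) + 1) * k1), fixed_pow hK g k1⟩, ⟨g ^ (((q : ℤ) + 1) * k3), fixed_pow hK g k3⟩),
      (g ^ (x0 + q * y0), g ^ (x2 + q * y2)))
where
  fixed_pow (hK : Fintype.card K = q ^ 2) (g : Kˣ) (k : ℤ) : (g ^ (((q : ℤ) + 1) * k)) ^ q = g ^ (((q : ℤ) + 1) * k) := by
    rw [← zpow_natCast, ← zpow_mul, show ((q : ℤ) + 1) * k * q = ((q : ℤ) + 1) * k + ((q : ℤ) ^ 2 - 1) * k by ring,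
      zpow_add, zpow_mul g ((q : ℤ) ^ 2 - 1), units_zpow hK, one_zpow, mul_one]

include hK in
theorem tchar_par (g : Kˣ) (p : ℤ × ℤ × ℤ × ℤ × ℤ × ℤ) (r : ℕ) :
    tchar chevE6 (tv (par hK g p)) r = g ^ ((AB p r).1 + q * (AB p r).2) := by
  obtain ⟨k1, k3, x0, x2, y0, y2⟩ := p
  rw [tchar_aux]
  simp only [tv, tp, par, AB, List.getD_cons_succ, List.getD_cons_zero]
  have hp : ∀ a : ℤ, (g ^ a) ^ q = g ^ (a * q) := fun a => by rw [← zpow_natCast, ← zpow_mul]
  simp only [hp, ← zpow_mul, ← zpow_add]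
  set e0 := chevE6.cartan 0 r
  set e1 := chevE6.cartan 1 r
  set e2 := chevE6.cartan 2 r
  set e3 := chevE6.cartan 3 r
  set e4 := chevE6.cartan 4 r
  set e5 := chevE6.cartan 5 r
  rw [← mul_inv_eq_one, ← zpow_neg, ← zpow_add, ← one_zpow (y0 * e5 + y2 * e4 : ℤ), ← units_zpow hK g, ← zpow_mul]
  congr 1
  ring

/-- the torus element fixes a level -/
def Fix (p : Dg K q) (j : ℕ) : Prop := ∀ r ∈ orb j, tchar chevE6 (tv p) r = 1

/-- the torus element moves every root of a level -/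
def Move (p : Dg K q) (j : ℕ) : Prop := ∀ r ∈ orb j, tchar chevE6 (tv p) r ≠ 1

include hK in
theorem exists_movers (hq : 3 ≤ q) : (∀ i < 24, ∃ p : Dg K q, Move p i) ∧
    ∀ i < 24, ∀ j < i, ∃ p : Dg K q, (Fix p j ∧ Move p i) ∨ (Fix p i ∧ Move p j) := by
  obtain ⟨g, hg⟩ := IsCyclic.exists_ofOrder_eq_natCard (α := Kˣ)
  rw [TwistedField.card_units_eq, hK] at hg
  have hcast : ((q ^ 2 - 1 : ℕ) : ℤ) = (q : ℤ) ^ 2 - 1 := by
    rw [Nat.cast_sub (Nat.one_le_pow _ _ (by omega)), Nat.cast_pow, Nat.cast_one]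
  have hfix : ∀ p j, fixB p j = true → Fix (par hK g p) j := by
    intro p j h r hr
    simp only [fixB, zeroB, List.all_eq_true, decide_eq_true_eq] at h
    obtain ⟨h1, h2⟩ := h r hr
    rw [tchar_par hK, h1, h2, mul_zero, add_zero, zpow_zero]
  have hmov : ∀ p j, movB p j = true → Move (par hK g p) j := by
    intro p j h r hr he
    simp only [movB, List.all_eq_true] at h
    rw [tchar_par hK, ← orderOf_dvd_iff_zpow_eq_one, hg, hcast] at he
    exact move_int hq (h r hr) he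
  refine ⟨fun i hi => ?_, fun i hi j hj => ?_⟩
  · obtain ⟨p, -, hp⟩ := movers_ok i hi
    exact ⟨_, hmov p i hp⟩
  · obtain ⟨p, -, hp⟩ := killers_ok i hi j hj
    exact ⟨par hK g p, hp.imp (fun h => ⟨hfix p j h.1, hmov p i h.2⟩) fun h => ⟨hfix p i h.1, hmov p j h.2⟩⟩

theorem torus_conj_Y {j : ℕ} (c : Fin chevE6.rank → Kˣ) {y : GL chevE6.Idx K} (hy : y ∈ Y K j) :
    torus chevE6 c * y * (torus chevE6 c)⁻¹ ∈ Y K j := by
  induction hy using Subgroup.closure_induction with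
  | mem x hx =>
    obtain ⟨r, t, h1, h2, h3, rfl⟩ := hx
    rw [torus_conj_xg c6 h2, ← h3]
    exact E6StemLevels67.xg_mem_Y h1 h2 _
  | one => simp
  | mul x z _ _ hx hz =>
    have e : torus chevE6 c * (x * z) * (torus chevE6 c)⁻¹ =
        (torus chevE6 c * x * (torus chevE6 c)⁻¹) * (torus chevE6 c * z * (torus chevE6 c)⁻¹) := by group
    rw [e]; exact mul_mem hx hz
  | inv x _ hx =>
    have e : torus chevE6 c * x⁻¹ * (torus chevE6 c)⁻¹ = (torus chevE6 c * x * (torus chevE6 c)⁻¹)⁻¹ := by group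
    rw [e]; exact inv_mem hx

include hf in
theorem tor_conj_X (p : Dg K q) {j : ℕ} {x : ↥(twistedE6 K q)} (hx : x ∈ X K q j) :
    tor f hf p * x * (tor f hf p)⁻¹ ∈ X K q j := torus_conj_Y _ hx

include hf in
theorem tor_bracket_X (p : Dg K q) {j : ℕ} {x : ↥(twistedE6 K q)} (hx : x ∈ X K q j) :
    ⁅tor f hf p, x⁆ ∈ X K q j := by
  rw [commutatorElement_def]
  exact mul_mem (tor_conj_X f hf p hx) (inv_mem hx)

theorem fix_torus {p : Dg K q} {j : ℕ} (hj : j < 24) (h : Fix p j) {y : GL chevE6.Idx K} (hy : y ∈ Y K j) :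
    Commute (torus chevE6 (tv p)) y := by
  refine D4Levels9.commute_of_closure (s := {torus chevE6 (tv p)}) ?_ (Subgroup.subset_closure rfl) hy
  rintro _ rfl _ ⟨r, t, h1, h2, h3, rfl⟩
  have := torus_conj_xg c6 h2 (tv p) t
  rw [h r (h3 ▸ (mem_orb r h2 h1).2), Units.val_one, one_mul] at this
  exact mul_inv_eq_iff_eq_mul.1 this

include hf hK in
theorem move_X {p : Dg K q} {j : ℕ} (h : Move p j) {x : ↥(twistedE6 K q)}
    (hx : x ∈ X K q j) : ∃ y ∈ X K q j, ⁅tor f hf p, y⁆ = x := by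
  set T := torus chevE6 (tv p) with hT
  let m : Y K j →* Y K j :=
    { toFun := fun y => ⟨⁅T, (y : GL chevE6.Idx K)⁆, by
        rw [commutatorElement_def]; exact mul_mem (torus_conj_Y _ y.2) (inv_mem y.2)⟩
      map_one' := Subtype.ext (by simp)
      map_mul' := fun y z => Subtype.ext (by
        have hz : ⁅T, (z : GL chevE6.Idx K)⁆ ∈ Y K j := by
          rw [commutatorElement_def]; exact mul_mem (torus_conj_Y _ z.2) (inv_mem z.2)
        have hc := Y_commute y.2 hz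
        show ⁅T, (y : GL chevE6.Idx K) * z⁆ = ⁅T, (y : GL chevE6.Idx K)⁆ * ⁅T, (z : GL chevE6.Idx K)⁆
        have e : ⁅T, (y : GL chevE6.Idx K) * z⁆ =
            ⁅T, (y : GL chevE6.Idx K)⁆ * ((y : GL chevE6.Idx K) * ⁅T, (z : GL chevE6.Idx K)⁆ * (y : GL chevE6.Idx K)⁻¹) := by
          simp only [commutatorElement_def]; group
        rw [e, hc.eq, mul_inv_cancel_right]) }
  have hms : Function.Surjective m := by
    suffices hle : Y K j ≤ m.range.map (Y K j).subtype by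
      rintro ⟨y, hy⟩
      obtain ⟨_, ⟨z, rfl⟩, e⟩ := hle hy
      exact ⟨z, Subtype.ext e⟩
    refine (Subgroup.closure_le _).2 ?_
    rintro _ ⟨r, t, h1, h2, h3, rfl⟩
    set c : K := (tchar chevE6 (tv p) r : K) with hc
    have hc1 : c - 1 ≠ 0 := sub_ne_zero.2 fun e => h r (h3 ▸ (mem_orb r h2 h1).2) (Units.ext e)
    have hy : xg c6 r (t / (c - 1)) ∈ Y K j := h3 ▸ E6StemLevels67.xg_mem_Y h1 h2 _
    refine ⟨_, ⟨⟨_, hy⟩, rfl⟩, ?_⟩
    show ⁅T, xg c6 r (t / (c - 1))⁆ = _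
    rw [commutatorElement_def, hT, torus_conj_xg c6 h2, xg_inv c6, xg_mul c6, ← hc]
    congr 1
    field_simp
    ring
  obtain ⟨⟨y, hy⟩, he⟩ := hms ⟨x, hx⟩
  have he' : ⁅T, y⁆ = (x : GL chevE6.Idx K) := congrArg Subtype.val he
  have hyU : y ∈ chevE6.posUnipotent K := R_le_U _ (Y_le_R _ hy)
  have hTf := le_fixed f hf hK (tor f hf p).2
  rw [coe_tor, ← hT] at hTf
  have hyg := (tw f).S.U_le_group hyU
  have hsy : (tw f).sg y = y := by
    have hm : m ⟨(tw f).sg y, sg_Y f hy⟩ = m ⟨y, hy⟩ := by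
      refine Subtype.ext ?_
      show ⁅T, (tw f).sg y⁆ = ⁅T, y⁆
      have e : (tw f).sg ⁅T, y⁆ = ⁅T, y⁆ := by rw [he']; exact (le_fixed f hf hK x.2).2
      rw [commutatorElement_def, (tw f).sg_mul (mul_mem (mul_mem hTf.1 hyg) (inv_mem hTf.1)) (inv_mem hyg),
        (tw f).sg_conj hTf.1 hyg, (tw f).sg_inv hyg, hTf.2, ← commutatorElement_def,
        ← commutatorElement_def] at e
      exact e
    exact congrArg Subtype.val ((Finite.injective_iff_surjective.2 hms) hm)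
  exact ⟨⟨y, (classes f hf hK).fixed_U_le hyU ⟨hyg, hsy⟩⟩, hy, Subtype.ext he'⟩

/-! ### two orbits as commutators -/

theorem comm_single {r s k : ℕ} {C : ℤ} (hr : r < chevE6.nroots) (hs : s < chevE6.nroots) (h1 : s ≠ r)
    (h2 : s ≠ chevE6.neg r) (h : chevE6.commTerms r s = [(k, C, 1, 1)]) (t u : K) :
    ⁅xg c6 s u, xg c6 r t⁆ = xg c6 k (((-C : ℤ) : K) * (t * u)) := by
  have hform := comm_formula c6 hr hs h1 h2 (-t) (-u)
  simp [ChevalleyDatum.commWord, h, wg] at hform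
  rw [commutatorElement_def, xg_inv, xg_inv, mul_assoc _ (xg c6 s (-u)), hform]
  have e1 : xg c6 r t * xg c6 r (-t) = 1 := by rw [xg_mul, add_neg_cancel, xg_zero]
  have e2 : xg c6 s u * xg c6 s (-u) = 1 := by rw [xg_mul, add_neg_cancel, xg_zero]
  rw [mul_assoc (xg c6 s u), ← mul_assoc (xg c6 r t), ← mul_assoc (xg c6 r t), e1, one_mul, ← mul_assoc, e2, one_mul]
  congr 1
  push_cast
  ring

theorem intCast_pm {C : ℤ} (h : C = 1 ∨ C = -1) : (C : K) ≠ 0 ∧ f (C : K) = (C : K) := by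
  refine ⟨?_, map_intCast f C⟩
  rcases h with rfl | rfl <;> simp

/-- the two roots of a single sum -/
def cS : ℕ := Twist.wact' chevE6 (cl6 (.inl 1)) (sr 0)

/-- the root over the first node of a pair -/
def cA : ℕ := Twist.wact' chevE6 (cl6 (.inr 1)) (ra 0)

/-- the root over the second node of a pair -/
def cB : ℕ := Twist.wact' chevE6 (cl6 (.inr 1)) (rb 0)

/-- two commuting roots -/
def orthB (r s : ℕ) : Bool :=
  decide (r < chevE6.nroots ∧ s < chevE6.nroots ∧ s ≠ r ∧ s ≠ chevE6.neg r) && (chevE6.commTerms r s).isEmpty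

theorem commute_orth {r s : ℕ} (h : orthB r s = true) (t u : K) : Commute (xg c6 r t) (xg c6 s u) := by
  simp only [orthB, Bool.and_eq_true, decide_eq_true_eq, List.isEmpty_iff] at h
  obtain ⟨⟨h1, h2, h3, h4⟩, h5⟩ := h
  exact commute_xg c6 h1 h2 h3 h4 h5 t u

/-- a single term in a commutator -/
def sumB (r s k : ℕ) : Bool :=
  decide (r < chevE6.nroots ∧ s < chevE6.nroots ∧ s ≠ r ∧ s ≠ chevE6.neg r) &&
    (chevE6.commTerms r s == [(k, 1, 1, 1)] || chevE6.commTerms r s == [(k, -1, 1, 1)])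

theorem sum_spec {r s k : ℕ} (h : sumB r s k = true) : ∃ C : ℤ, (C = 1 ∨ C = -1) ∧
    ∀ t u : K, ⁅xg c6 s u, xg c6 r t⁆ = xg c6 k ((C : K) * (t * u)) := by
  simp only [sumB, Bool.and_eq_true, decide_eq_true_eq, Bool.or_eq_true, beq_iff_eq] at h
  obtain ⟨⟨h1, h2, h3, h4⟩, h5 | h5⟩ := h
  · exact ⟨-1, Or.inr rfl, comm_single h1 h2 h3 h4 h5⟩
  · exact ⟨-(-1), Or.inl (neg_neg 1), comm_single h1 h2 h3 h4 h5⟩

theorem sum_facts : sumB (chevE6.neg (sr 1)) cS (sr 0) = true ∧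
    sumB (chevE6.neg (ra 1)) cA (ra 0) = true ∧ sumB (chevE6.neg (rb 1)) cB (rb 0) = true ∧
    orthB (sr 0) (chevE6.neg (sr 1)) = true ∧ orthB (sr 0) cS = true ∧
    (∀ a ∈ [ra 0, rb 0], ∀ b ∈ [chevE6.neg (ra 1), chevE6.neg (rb 1), cA, cB], orthB a b = true) ∧
    orthB cA cB = true ∧ orthB cA (chevE6.neg (rb 1)) = true ∧ orthB cB (chevE6.neg (ra 1)) = true ∧
    orthB (chevE6.neg (ra 1)) (chevE6.neg (rb 1)) = true ∧
    orthB (ra 0) (rb 0) = true ∧
    orb 1 = [sr 0] ∧ (∀ r ∈ orb 2, r ∈ [ra 0, rb 0]) ∧ (∀ r ∈ [ra 0, rb 0], r ∈ orb 2) := by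
  decide +kernel

theorem pair_bracket {G : Type*} [Group G] {a a' b b' : G} (h1 : Commute a a') (h2 : Commute b b')
    (h3 : Commute a b') (h4 : Commute a' b) (h5 : Commute a' ⁅a, b⁆) (h6 : Commute b' ⁅a, b⁆) :
    ⁅a * a', b * b'⁆ = ⁅a, b⁆ * ⁅a', b'⁆ := by
  have e : ⁅a * a', b * b'⁆ = a * (a' * b * a'⁻¹) * (a' * b' * a'⁻¹) * a⁻¹ * b'⁻¹ * b⁻¹ := by
    rw [commutatorElement_def]; group
  rw [e, h4.eq, mul_inv_cancel_right]
  have hk : a' * b' * a'⁻¹ = ⁅a', b'⁆ * b' := by rw [commutatorElement_def]; group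
  rw [hk]
  set k := ⁅a', b'⁆ with hk'
  have hka : Commute k a := by
    rw [hk', commutatorElement_def]
    exact (((h1.symm).mul_left h3.symm).mul_left h1.symm.inv_left).mul_left h3.symm.inv_left
  have hkb : Commute k b := by
    rw [hk', commutatorElement_def]
    exact (((h4).mul_left h2.symm).mul_left h4.inv_left).mul_left h2.symm.inv_left
  calc a * b * (k * b') * a⁻¹ * b'⁻¹ * b⁻¹ = a * b * k * (b' * a⁻¹) * b'⁻¹ * b⁻¹ := by group
    _ = a * b * k * (a⁻¹ * b') * b'⁻¹ * b⁻¹ := by rw [h3.inv_left.eq]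
    _ = a * b * (k * (a⁻¹ * b⁻¹)) := by group
    _ = a * b * (a⁻¹ * b⁻¹ * k) := by rw [(hka.inv_right.mul_right hkb.inv_right).eq]
    _ = _ := by rw [commutatorElement_def]; group

theorem coe_br {G : Type*} [Group G] {S : Subgroup G} (a b : ↥S) : ((⁅a, b⁆ : ↥S) : G) = ⁅(a : G), (b : G)⁆ :=
  map_commutatorElement S.subtype a b

/-- an orbit is made of commutators of elements commuting with it -/
def Split (K : Type*) [Field K] (q i : ℕ) : Prop :=
  ∀ x ∈ X K q i, ∃ y z : ↥(twistedE6 K q), x = ⁅y, z⁆ ∧ ∀ x' ∈ X K q i, Commute x' y ∧ Commute x' z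

include hf hK in
theorem split_long : Split K q 1 := by
  obtain ⟨hs, -, -, ho1, ho2, -, -, -, -, -, -, horb, -, -⟩ := sum_facts
  obtain ⟨C, hC, hform⟩ := sum_spec (K := K) hs
  have hY : Y K 1 = Rt K (· ∈ [sr 0]) := by rw [Y_eq_Rt (by norm_num), horb]
  -- the element over the sum
  set n := nG f hf hK (.inl 1)
  set E : ↥(twistedE6 K q) := n * su f hf 0 1 * n⁻¹ with hE
  have hn : ((n : ↥(twistedE6 K q)) : GL chevE6.Idx K) = ng c6 (sr 1) 1 := rfl
  set e : K := (c6.eta (sn 1).val (sr 0) : K) with he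
  have hEv : (E : GL chevE6.Idx K) = xg c6 cS e := by
    rw [hE, Subgroup.coe_mul, Subgroup.coe_mul, Subgroup.coe_inv, hn, coe_su]
    rw [show ((1 : L0 f) : K) = 1 from rfl, sr, ng_simple_conj c6 (sn 1).isLt (simple_lt c6 (sn 0).isLt), mul_one]
    rfl
  have hew : e ≠ 0 ∧ f e = e := ⟨eta_cast_ne c6 _ _, map_intCast f _⟩
  have hC' := intCast_pm f hC
  intro x hx
  obtain ⟨t, ht, hxe⟩ : ∃ t : K, t ^ q = t ∧ (x : GL chevE6.Idx K) = xg c6 (sr 0) t := by
    refine UF_single f hf 0 ⟨?_, le_fixed f hf hK x.2⟩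
    rw [Uw_eq f (.inl 0)]
    exact (hY ▸ hx : (x : GL chevE6.Idx K) ∈ Rt K (· ∈ [sr 0]))
  set u : K := t / ((C : K) * e) with hu
  have huq : u ^ q = u := by
    rw [← hf, hu, map_div₀, map_mul, hC'.2, hew.2, hf, ht]
  refine ⟨E, sl f hf 1 ⟨u, (mem_L0 f hf).mpr huq⟩, Subtype.ext ?_, fun x' hx' => ?_⟩
  · rw [coe_br]
    rw [hEv, coe_sl, hxe, hform]
    congr 1
    show t = (C : K) * (u * e)
    rw [hu]
    field_simp [hew.1, hC'.1]
  · have hx'' : (x' : GL chevE6.Idx K) ∈ Rt K (· ∈ [sr 0]) := hY ▸ hx'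
    constructor <;> refine Subtype.ext ?_
    · show (x' : GL chevE6.Idx K) * (E : GL chevE6.Idx K) = (E : GL chevE6.Idx K) * x'
      rw [hEv]
      refine (D4Levels9.commute_of_closure ?_ hx'' (Subgroup.subset_closure (Set.mem_singleton _))).eq
      rintro _ ⟨r, v, -, hr, rfl⟩ _ rfl
      rw [List.mem_singleton.1 hr]
      exact commute_orth ho2 _ _
    · rw [Subgroup.coe_mul, Subgroup.coe_mul, coe_sl]
      refine (D4Levels9.commute_of_closure ?_ hx'' (Subgroup.subset_closure (Set.mem_singleton _))).eq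
      rintro _ ⟨r, v, -, hr, rfl⟩ _ rfl
      rw [List.mem_singleton.1 hr]
      exact commute_orth ho1 _ _

include hf hK in
theorem split_short : Split K q 2 := by
  obtain ⟨-, hsA, hsB, -, -, hoX, hc, hcb, hca, hdd, hab, -, horb, horb'⟩ := sum_facts
  obtain ⟨C, hC, hform⟩ := sum_spec (K := K) hsA
  obtain ⟨C', hC', hform'⟩ := sum_spec (K := K) hsB
  have hY : Y K 2 = Rt K (· ∈ [ra 0, rb 0]) := by
    rw [Y_eq_Rt (by norm_num)]
    exact le_antisymm (Rt_mono fun r _ h => horb r h) (Rt_mono fun r _ h => horb' r h)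
  set n := nG f hf hK (.inr 1)
  set E : ↥(twistedE6 K q) := n * pu f hf 0 1 * n⁻¹ with hE
  obtain ⟨e, e', he, hEv⟩ : ∃ e e' : K, e ≠ 0 ∧ (E : GL chevE6.Idx K) = xg c6 cA e * xg c6 cB e' := by
    obtain ⟨c, hc0, h1, -⟩ := (tw f).S.acts_toW ⟨_, nG_N f hf hK (.inr 1)⟩ (ra 0) (lts 0).2.1
    obtain ⟨c', -, h1', -⟩ := (tw f).S.acts_toW ⟨_, nG_N f hf hK (.inr 1)⟩ (rb 0) (lts 0).2.2
    have a1 : (n : GL chevE6.Idx K) * xg c6 (ra 0) 1 * (n : GL chevE6.Idx K)⁻¹ = xg c6 cA (c * 1) := by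
      have := h1 1
      rw [toW_nG f hf hK, img_cl f _ (lts 0).2.1] at this
      exact this
    have a2 : (n : GL chevE6.Idx K) * xg c6 (rb 0) 1 * (n : GL chevE6.Idx K)⁻¹ = xg c6 cB (c' * 1) := by
      have := h1' 1
      rw [toW_nG f hf hK, img_cl f _ (lts 0).2.2] at this
      exact this
    refine ⟨c * 1, c' * 1, by rwa [mul_one], ?_⟩
    rw [← a1, ← a2, hE, Subgroup.coe_mul, Subgroup.coe_mul, Subgroup.coe_inv, coe_pu, pr, one_pow]
    group
  have hC0 := intCast_pm f hC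
  intro x hx
  have hxU : ∀ g : ↥(twistedE6 K q), (g : GL chevE6.Idx K) ∈ Rt K (· ∈ [ra 0, rb 0]) →
      ∃ t : K, (g : GL chevE6.Idx K) = pr 0 t (t ^ q) := fun g hg => by
    refine UF_pair f hf 0 ⟨?_, le_fixed f hf hK g.2⟩
    rw [Uw_eq f (.inr 0)]
    exact hg
  obtain ⟨t, hxe⟩ := hxU x (hY ▸ hx)
  set u : K := t / ((C : K) * e) with hu
  set D := pl f hf 1 u
  have hD : (D : GL chevE6.Idx K) = xg c6 (chevE6.neg (ra 1)) u * xg c6 (chevE6.neg (rb 1)) (u ^ q) :=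
    coe_pl f hf 1 u
  have hcomm : ((⁅E, D⁆ : ↥(twistedE6 K q)) : GL chevE6.Idx K) =
      pr 0 ((C : K) * (u * e)) ((C' : K) * (u ^ q * e')) := by
    rw [coe_br, hEv, hD, pair_bracket (commute_orth hc _ _) (commute_orth hdd _ _)
      (commute_orth hcb _ _) (commute_orth hca _ _) ?_ ?_, hform, hform', pr]
    · rw [hform]
      exact (commute_orth (hoX _ (by simp) cB (by simp)) _ _).symm
    · rw [hform]
      exact (commute_orth (hoX _ (by simp) (chevE6.neg (rb 1)) (by simp)) _ _).symm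
  refine ⟨E, D, ?_, fun x' hx' => ?_⟩
  · refine Subtype.ext ?_
    obtain ⟨t', ht'⟩ := hxU ⁅E, D⁆ (by
      rw [hcomm, pr]
      exact mul_mem (xg_mem_Rt (lts 0).2.1 (by simp) _) (xg_mem_Rt (lts 0).2.2 (by simp) _))
    rw [hcomm] at ht'
    obtain ⟨h1, h2⟩ := pr_inj 0 ht'
    have htt : (C : K) * (u * e) = t := by
      rw [hu]; field_simp [he, hC0.1]
    rw [hcomm, hxe, htt]
    rw [htt] at h1
    rw [h2, h1]
  · have hx'' : (x' : GL chevE6.Idx K) ∈ Rt K (· ∈ [ra 0, rb 0]) := hY ▸ hx'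
    have key : ∀ b ∈ [chevE6.neg (ra 1), chevE6.neg (rb 1), cA, cB], ∀ v : K,
        Commute (x' : GL chevE6.Idx K) (xg c6 b v) := fun b hb v => by
      refine D4Levels9.commute_of_closure ?_ hx'' (Subgroup.subset_closure (Set.mem_singleton _))
      rintro _ ⟨r, w, -, hr, rfl⟩ _ rfl
      exact commute_orth (hoX r hr b hb) _ _
    constructor <;> refine Subtype.ext ?_
    · show (x' : GL chevE6.Idx K) * (E : GL chevE6.Idx K) = (E : GL chevE6.Idx K) * x'
      rw [hEv]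
      exact ((key cA (by simp) _).mul_right (key cB (by simp) _)).eq
    · rw [Subgroup.coe_mul, Subgroup.coe_mul, hD]
      exact ((key _ (by simp) _).mul_right (key _ (by simp) _)).eq

/-- words carrying every orbit to a fundamental one -/
def wrd (i : ℕ) : List (Fin 2 ⊕ Fin 2) :=
  (([[1, 0], [], [], [3, 2], [1], [3], [3, 2, 1], [1, 3, 0], [3, 1], [3, 2, 1, 0], [1, 3], [3, 1, 3], [3, 1, 0],
    [1, 3, 1], [1, 3, 2, 0], [3, 1, 3, 0], [1, 3, 2], [3, 1, 3, 0, 1], [1, 3, 2, 1], [3, 1, 3, 0, 1, 3],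
    [3, 1, 3, 0, 1, 3, 2], [1, 3, 2, 1, 3], [1, 3, 2, 1, 3, 1], [1, 3, 2, 1, 3, 1, 0]] : List (List (Fin 4))).getD i []).map
    fun a => if a = 0 then .inl 0 else if a = 1 then .inl 1 else if a = 2 then .inr 0 else .inr 1

/-- the fundamental orbit of the same length -/
def base (i : ℕ) : ℕ := if (orb i).length = 1 then 1 else 2

theorem wrd_ok : ∀ i < 24, ∀ r ∈ orb i,
    Twist.wact' chevE6 ((wrd i).flatMap cl6) r ∈ orb (base i) := by decide +kernel

theorem wd_flat : ∀ l : List (Fin 2 ⊕ Fin 2),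
    (l.map fun J => (tw f).wd (cl6 J)).prod = (tw f).wd (l.flatMap cl6) := by
  intro l
  induction l with
  | nil => rfl
  | cons J l ih => rw [List.map_cons, List.prod_cons, ih, List.flatMap_cons, (tw f).wd_append]

include hf hK in
theorem transport {i : ℕ} (hi : i < 24) :
    ∃ g : ↥(twistedE6 K q), ∀ x ∈ X K q i, g * x * g⁻¹ ∈ X K q (base i) := by
  obtain ⟨hN, eW⟩ := word_N f hf hK (wrd i)
  refine ⟨((wrd i).map (nG f hf hK)).prod, fun x hx => ?_⟩
  have hb : base i < 24 := by unfold base; split <;> norm_num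
  have hx' : (x : GL chevE6.Idx K) ∈ Rt K (· ∈ orb i) := Y_eq_Rt (K := K) hi ▸ hx
  show ((_ * x * _⁻¹ : ↥(twistedE6 K q)) : GL chevE6.Idx K) ∈ Y K (base i)
  rw [Y_eq_Rt hb, Subgroup.coe_mul, Subgroup.coe_mul, Subgroup.coe_inv]
  refine map_Rt f hN (fun r hr h => ?_) hx'
  rw [eW, wd_flat f, (tw f).img_wd _ hr]
  exact wrd_ok i hi r h

section Ext

variable {Γ : Type*} [Group Γ] {σ : Γ →* ↥(twistedE6 K q)} (hs : Function.Surjective σ)
  (hc : σ.ker ≤ Subgroup.center Γ)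

/-- the preimage of a level is commutative -/
def Ab (σ : Γ →* ↥(twistedE6 K q)) (i : ℕ) : Prop := ∀ a b : Γ, σ a ∈ X K q i → σ b ∈ X K q i → Commute a b

include hs hc in
theorem ab_of_split {i : ℕ} (h : Split K q i) : Ab σ i := by
  intro a b ha hb
  obtain ⟨y, z, hyz, hcy⟩ := h _ hb
  obtain ⟨η, rfl⟩ := hs y
  obtain ⟨ζ, rfl⟩ := hs z
  obtain ⟨h1, h2⟩ := hcy _ ha
  have hfix : ∀ x, Commute (σ a) (σ x) → σ (a * x * a⁻¹) = σ x := by
    intro x hx
    rw [map_mul, map_mul, map_inv, hx.eq, mul_inv_cancel_right]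
  have h3 : a * ⁅η, ζ⁆ * a⁻¹ = ⁅η, ζ⁆ := by
    rw [conjugate_commutatorElement]
    exact StemPairing.bracket_congr hc (hfix _ h1) (hfix _ h2)
  rw [← commutatorElement_eq_one_iff_commute,
    StemPairing.bracket_congr hc (a' := a) (b' := ⁅η, ζ⁆) rfl (by rw [map_commutatorElement]; exact hyz),
    commutatorElement_eq_one_iff_commute]
  exact mul_inv_eq_iff_eq_mul.1 h3

include hf hK hs hc in
theorem ab_all {i : ℕ} (hi : i < 24) : Ab σ i := by
  obtain ⟨g, hg⟩ := transport f hf hK hi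
  have hb : Ab σ (base i) := by
    unfold base; split
    · exact ab_of_split hs hc (split_long f hf hK)
    · exact ab_of_split hs hc (split_short f hf hK)
  intro a b ha hb'
  obtain ⟨γ, rfl⟩ := hs g
  have h := hb (γ * a * γ⁻¹) (γ * b * γ⁻¹) (by rw [map_mul, map_mul, map_inv]; exact hg _ ha)
    (by rw [map_mul, map_mul, map_inv]; exact hg _ hb')
  rw [← commutatorElement_eq_one_iff_commute] at h ⊢
  rw [← conjugate_commutatorElement, conj_eq_one_iff] at h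
  exact h

/-- the generators used for normalisation -/
def Good (σ : Γ →* ↥(twistedE6 K q)) (g : Γ) : Prop :=
  (∃ p : Dg K q, σ g = tor f hf p) ∨ ∃ j < 24, σ g ∈ X K q j

include hf hK hs hc in
theorem exists_sec (hq : 3 ≤ q) (i : ℕ) (hi : i ≤ 24) :
    ∃ S : Subgroup Γ, Sec σ S (N K q i) ∧ ∀ g, Good f hf σ g → Nrm S g := by
  obtain ⟨movers, kill⟩ := exists_movers hK hq
  induction hn : 24 - i generalizing i with
  | zero =>
    obtain rfl : i = 24 := by omega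
    have e : N K q 24 = ⊥ := by
      rw [eq_bot_iff]
      intro x hx
      exact Subgroup.mem_bot.2 (N_top le_rfl hx)
    exact ⟨⊥, e ▸ Sec.bot σ, fun g _ => nrm_bot g⟩
  | succ n ih =>
    have hi6 : i < 24 := by omega
    obtain ⟨S, hS, hnrm⟩ := ih (i + 1) (by omega) (by omega)
    obtain ⟨p, hmv⟩ := movers i hi6
    obtain ⟨h, hh⟩ := hs (tor f hf p)
    have hXn : ∀ j, j < 24 → ∀ x : Γ, σ x ∈ X K q j → Nrm S x := fun j hj x hx => hnrm x (Or.inr ⟨j, hj, hx⟩)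
    obtain ⟨S', hS', -, hext⟩ := StemSection9.step (X := X K q i) (N := N K q i) hs hc hS (X_le_N le_rfl)
      (N_mono i.le_succ) (fun g hg => exists_XN f hf hK hi6 hg) (fun x h1 h2 => X_inf_N hi6 h1 h2)
      (ab_all f hf hK hs hc hi6) (hXn i hi6) h
      (fun x hx => by rw [hh]; exact tor_bracket_X f hf p hx)
      (fun x hx => by
        obtain ⟨y, hy, he⟩ := move_X f hf hK hmv hx
        exact ⟨y, hy, by rw [hh]; exact he⟩)
    refine ⟨S', hS', fun g hg => hext g (hnrm g hg) ?_⟩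
    rcases hg with ⟨p', hga⟩ | ⟨j, hj, hgj⟩
    · left
      rw [hga, hh]
      exact ⟨Subtype.ext (H_comm c6 (torus_mem_H c6 _) (torus_mem_H c6 _)), fun x hx => tor_conj_X f hf p' hx⟩
    · right
      intro x hx
      rcases Nat.lt_trichotomy i j with hij | hij | hij
      · exact bracket_of_mem hc hS (X_le_N hij hgj) (hXn i hi6 x hx)
      · subst hij
        rw [commutatorElement_eq_one_iff_commute.2 (ab_all f hf hK hs hc hi6 g x hgj hx)]
        exact one_mem _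
      · obtain ⟨p', hk⟩ := kill i hi6 j hij
        obtain ⟨k, hk'⟩ := hs (tor f hf p')
        have hkn : Nrm S k := hnrm k (Or.inl ⟨p', hk'⟩)
        rcases hk with ⟨hfx, hmv'⟩ | ⟨hfx, hmv'⟩
        · obtain ⟨y, hy, he⟩ := move_X f hf hK hmv' hx
          obtain ⟨y', rfl⟩ := hs y
          refine bracket_lift hc hS (h := k) (x' := y') ?_ (by rw [hk', he]) hkn (hXn i hi6 x hx) ?_
          · rw [hk']; exact Subtype.ext (fix_torus hj hfx hgj).eq
          · rw [map_commutatorElement]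
            exact N_mono (by omega) (bracket_X hgj hy)
        · obtain ⟨y, hy, he⟩ := move_X f hf hK hmv' hgj
          obtain ⟨y', rfl⟩ := hs y
          refine bracket_lift' hc hS (h := k) (g' := y') ?_ (by rw [hk', he]) hkn (hXn j hj g hgj) ?_
          · rw [hk']; exact Subtype.ext (fix_torus hi6 hfx hx).eq
          · rw [map_commutatorElement]
            exact N_mono (by omega) (bracket_X hy hx)

include hf hK hs hc in
/-- `U` has no multiplier -/
theorem kerFree_U (hq : 3 ≤ q) : StemBasic.KerFree σ (TwistAutRigid.U1 (twistedE6 K q)) := by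
  obtain ⟨S, hS, -⟩ := exists_sec f hf hK hs hc hq 0 (Nat.zero_le _)
  have e : N K q 0 = TwistAutRigid.U1 (twistedE6 K q) := by rw [N, R_zero]; rfl
  exact e ▸ hS.kerFree hc

end Ext

end Cfsg.Agent.E6StemU67
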