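import Mathlib
import Cfsg.Agent.Lib.CoxeterWeyl
import Cfsg.Agent.Lib.CoxeterCenter
import Cfsg.Agent.Lib.CoxeterCenterData
import Cfsg.Agent.Lib.E8EvenData69

/-!
The even subgroup `Wp` of the Weyl group of type E8: generators `x i = s_i s_7`, homomorphisms out of
it from tuples satisfying the relations `(A_i A_j⁻¹) ^ m_ij = 1`, its central element `z`, and the
reflection attached to a root index.
-/

set_option autoImplicit false

namespace Cfsg.Agent.E8Even69

open Cfsg.Agent.CoxeterTables Cfsg.Agent.CoxeterData Cfsg.Agent.CoxeterWeyl Cfsg.Agent.CoxeterCenter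
open Cfsg.Agent.CoxeterCenterData Cfsg.Agent.E8EvenData69

universe u

/-- the Coxeter matrix of type E8 -/
abbrev C8 : CoxeterMatrix (Fin 8) := CoxeterMatrix.E₈

/-- the Weyl group of type E8 -/
abbrev W : Type := C8.Group

theorem card_W : Nat.card W = 696729600 := by
  rw [(coxeter_sound C8 e8_act e8_chain).1]; decide +kernel

instance finite_W : Finite W := Nat.finite_of_card_ne_zero (by rw [card_W]; norm_num)

/-- the simple reflections -/
def s (i : Fin 8) : W := C8.simple i

theorem s_sq (i : Fin 8) : s i * s i = 1 := C8.toCoxeterSystem.simple_mul_simple_self i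

theorem s_inv (i : Fin 8) : (s i)⁻¹ = s i := inv_eq_of_mul_eq_one_right (s_sq i)

theorem s_rel (i j : Fin 8) : (s i * s j) ^ C8.M i j = 1 := C8.toCoxeterSystem.simple_mul_simple_pow i j

theorem gen_val (i : Fin 8) : gen C8 i.val = s i := by simp [gen, s]

/-- the even subgroup -/
abbrev Wp : Subgroup W := commutator W

theorem adj_mem (i j : Fin 8) (h : C8.M i j = 3) : s i * s j ∈ Wp := by
  have h1 := Subgroup.commutator_mem_commutator (Subgroup.mem_top (s j)) (Subgroup.mem_top (s i))
  rw [← commutator_def, commutatorElement_def, s_inv, s_inv] at h1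
  have h3 := s_rel j i
  rw [show C8.M j i = 3 by rw [C8.symmetric]; exact h, pow_succ, pow_two] at h3
  have : s j * s i * s j * s i = s i * s j := by
    calc s j * s i * s j * s i = s j * s i * (s j * s i) * ((s j * s i) * (s j * s i)⁻¹) := by group
      _ = (s j * s i * (s j * s i) * (s j * s i)) * (s j * s i)⁻¹ := by group
      _ = (s j * s i)⁻¹ := by rw [h3, one_mul]
      _ = s i * s j := by rw [mul_inv_rev, s_inv, s_inv]
  rwa [this] at h1

theorem step_mem {i j : Fin 8} (h : C8.M i j = 3) (hj : s j * s 7 ∈ Wp) : s i * s 7 ∈ Wp := by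
  have := mul_mem (adj_mem i j h) hj
  rwa [show s i * s j * (s j * s 7) = s i * (s j * s j) * s 7 by group, s_sq, mul_one] at this

theorem x_mem : ∀ i : Fin 8, s i * s 7 ∈ Wp := by
  have h7 : s 7 * s 7 ∈ Wp := by rw [s_sq]; exact one_mem _
  have h6 := step_mem (i := 6) (j := 7) (by decide) h7
  have h5 := step_mem (i := 5) (j := 6) (by decide) h6
  have h4 := step_mem (i := 4) (j := 5) (by decide) h5
  have h3 := step_mem (i := 3) (j := 4) (by decide) h4
  have h2 := step_mem (i := 2) (j := 3) (by decide) h3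
  have h1 := step_mem (i := 1) (j := 3) (by decide) h3
  have h0 := step_mem (i := 0) (j := 2) (by decide) h2
  intro i
  fin_cases i <;> assumption

/-- the generators of the even subgroup -/
def x (i : Fin 8) : Wp := ⟨s i * s 7, x_mem i⟩

theorem x_seven : x 7 = 1 := Subtype.ext (s_sq 7)

theorem coe_x (i : Fin 8) : (x i : W) = s i * s 7 := rfl

/-- the sign character -/
noncomputable def sgn : W →* Multiplicative (ZMod 2) :=
  C8.toCoxeterSystem.lift ⟨fun _ => Multiplicative.ofAdd 1, by
    intro i j
    rw [show Multiplicative.ofAdd (1 : ZMod 2) * Multiplicative.ofAdd 1 = 1 by decide, one_pow]⟩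

theorem sgn_s (i : Fin 8) : sgn (s i) = Multiplicative.ofAdd 1 := by
  exact CoxeterSystem.lift_apply_simple _ _ i

theorem sgn_Wp {w : W} (h : w ∈ Wp) : sgn w = 1 := Abelianization.commutator_subset_ker sgn h

theorem closure_x_coe : Subgroup.closure (Set.range fun i => (x i : W)) = Wp ∧
    ∀ w : W, w ∈ Wp ∨ w * s 7 ∈ Wp := by
  set X := Subgroup.closure (Set.range fun i => (x i : W)) with hX
  have hx : ∀ i, s i * s 7 ∈ X := fun i => Subgroup.subset_closure ⟨i, rfl⟩
  have hle : X ≤ Wp := by
    rw [hX, Subgroup.closure_le]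
    rintro _ ⟨i, rfl⟩
    exact (x i).2
  have hcl : ∀ j, ∀ w ∈ X, s j * w * s j ∈ X := by
    intro j w hw
    refine Subgroup.closure_induction (p := fun y _ => s j * y * s j ∈ X) ?_ ?_ ?_ ?_ hw
    · rintro _ ⟨i, rfl⟩
      have := mul_mem (mul_mem (hx j) (inv_mem (hx i))) (inv_mem (hx j))
      simp only [mul_inv_rev, s_inv] at this
      show s j * (s i * s 7) * s j ∈ X
      rwa [show s j * s 7 * (s 7 * s i) * (s 7 * s j) = s j * (s 7 * s 7) * s i * (s 7 * s j) by group,
        s_sq, show s j * 1 * s i * (s 7 * s j) = s j * (s i * s 7) * s j by group] at this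
    · rw [mul_one, s_sq]; exact one_mem _
    · intro a b _ _ ha hb
      have := mul_mem ha hb
      rwa [show s j * a * s j * (s j * b * s j) = s j * a * (s j * s j) * b * s j by group, s_sq,
        show s j * a * 1 * b * s j = s j * (a * b) * s j by group] at this
    · intro a _ ha
      have := inv_mem ha
      rwa [mul_inv_rev, mul_inv_rev, s_inv, ← mul_assoc] at this
  have hall : ∀ w : W, w ∈ X ∨ w * s 7 ∈ X := by
    intro w
    induction w using C8.toCoxeterSystem.simple_induction_left with
    | one => exact Or.inl (one_mem _)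
    | mul_simple_left w i ih =>
      rw [CoxeterMatrix.toCoxeterSystem_simple]
      change s i * w ∈ X ∨ s i * w * s 7 ∈ X
      rcases ih with h | h
      · right
        have := mul_mem (hcl i w h) (hx i)
        rwa [show s i * w * s i * (s i * s 7) = s i * w * (s i * s i) * s 7 by group, s_sq, mul_one] at this
      · left
        have := mul_mem (hcl i _ h) (mul_mem (hx i) (inv_mem (hx 7)))
        simp only [mul_inv_rev, s_inv, s_sq, inv_one, mul_one] at this
        rwa [show s i * (w * s 7) * s i * (s i * s 7) = s i * w * s 7 * (s i * s i) * s 7 by group,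
          s_sq, mul_one, mul_assoc _ (s 7), s_sq, mul_one] at this
  have hn : X = Wp := by
    refine le_antisymm hle fun w hw => (hall w).resolve_right fun h => ?_
    have h1 := sgn_Wp (hle h)
    rw [map_mul, sgn_Wp hw, one_mul, sgn_s] at h1
    exact absurd h1 (by decide)
  exact ⟨hn, fun w => (hall w).imp (fun h => hle h) (fun h => hle h)⟩

theorem closure_x : Subgroup.closure (Set.range x) = ⊤ := by
  refine Subgroup.map_injective Wp.subtype_injective ?_
  rw [MonoidHom.map_closure, ← Set.range_comp, ← MonoidHom.range_eq_map, Subgroup.range_subtype]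
  exact closure_x_coe.1

theorem card_Wp : Nat.card Wp = 348364800 := by
  have hidx : (Wp : Subgroup W).index = 2 := by
    rw [Subgroup.index_eq_two_iff]
    refine ⟨s 7, fun b => ?_⟩
    rcases closure_x_coe.2 b with h | h
    · refine Or.inr ⟨h, fun h' => ?_⟩
      have h1 := sgn_Wp h'
      rw [map_mul, sgn_Wp h, one_mul, sgn_s] at h1
      exact absurd h1 (by decide)
    · refine Or.inl ⟨h, fun h' => ?_⟩
      have h1 := sgn_Wp h
      rw [map_mul, sgn_Wp h', one_mul, sgn_s] at h1
      exact absurd h1 (by decide)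
  have h := Subgroup.card_mul_index (Wp : Subgroup W)
  rw [hidx, card_W] at h
  omega

/-! ### homomorphisms from tuples -/

/-- tuples satisfying the relations of the even subgroup -/
def Tuple {H : Type u} [Group H] (A : Fin 8 → H) : Prop :=
  A 7 = 1 ∧ ∀ i j, (A i * (A j)⁻¹) ^ C8.M i j = 1

theorem exists_hom {H : Type u} [Group H] {A : Fin 8 → H} (hA : Tuple A) :
    ∃ χ : Wp →* H, ∀ i, χ (x i) = A i := by
  classical
  let Q := Multiplicative (ZMod 2)
  let t : Q := Multiplicative.ofAdd 1
  have ht : t * t = 1 := by decide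
  have htinv : t⁻¹ = t := by decide
  have hq : ∀ q : Q, q = 1 ∨ q = t := by decide
  let f : Fin 8 → RegularWreathProduct H Q :=
    fun i => ⟨fun q => if q = 1 then A i else (A i)⁻¹, t⟩
  have h2 : ∀ i j, f i * f j =
      ⟨fun q => if q = 1 then A i * (A j)⁻¹ else (A i)⁻¹ * A j, 1⟩ := by
    intro i j
    refine RegularWreathProduct.ext (funext fun q => ?_) ht
    rcases hq q with rfl | rfl
    · simp [f, RegularWreathProduct.mul_left, htinv, show t ≠ 1 by decide]
    · simp [f, RegularWreathProduct.mul_left, htinv, ht, show t ≠ 1 by decide]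
  have hpow : ∀ (g : Q → H) (n : ℕ), (⟨g, 1⟩ : RegularWreathProduct H Q) ^ n = ⟨g ^ n, 1⟩ := by
    intro g n
    induction n with
    | zero => simp; rfl
    | succ n ih =>
      rw [pow_succ, ih, pow_succ]
      refine RegularWreathProduct.ext (funext fun q => ?_) (by simp)
      simp [RegularWreathProduct.mul_left]
  have hlift : C8.IsLiftable f := by
    intro i j
    rw [h2, hpow]
    refine RegularWreathProduct.ext (funext fun q => ?_) rfl
    simp only [Pi.pow_apply]
    split_ifs
    · exact hA.2 i j
    · have e : (A i)⁻¹ * A j = (A i)⁻¹ * (A i * (A j)⁻¹)⁻¹ * ((A i)⁻¹)⁻¹ := by group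
      rw [e, conj_pow, inv_pow, hA.2 i j]
      simp
  let φ : W →* RegularWreathProduct H Q := C8.toCoxeterSystem.lift ⟨f, hlift⟩
  have hφ : ∀ i, φ (s i) = f i := fun i => by
    simp only [φ, s]
    rw [← CoxeterMatrix.toCoxeterSystem_simple, CoxeterSystem.lift_apply_simple]
  have hright : ∀ w ∈ Wp, (φ w).right = 1 := fun w hw =>
    Abelianization.commutator_subset_ker (RegularWreathProduct.rightHom.comp φ) hw
  refine ⟨{ toFun := fun w => (φ w).left 1, map_one' := by simp
            map_mul' := fun a b => by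
              simp [RegularWreathProduct.mul_left, hright a a.2] }, fun i => ?_⟩
  show (φ (s i * s 7)).left 1 = A i
  rw [map_mul, hφ, hφ, h2]
  simp [hA.1]

theorem hom_ext {H : Type u} [Group H] {a b : Wp →* H} (h : ∀ i, a (x i) = b (x i)) : a = b := by
  refine MonoidHom.eq_of_eqOn_dense closure_x ?_
  rintro _ ⟨i, rfl⟩
  exact h i

/-! ### root action -/

theorem exists_rho : ∃ ρ : W →* Equiv.Perm (Fin 240), Function.Injective ρ ∧
    (∀ k ∈ List.range 8, ∀ r : Fin 240, (ρ (gen C8 k) r).val = act e8Perm k r.val) :=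
  (setup e8_act e8_chain).2

/-- the action on root indices -/
noncomputable def rho : W →* Equiv.Perm (Fin 240) := exists_rho.choose

theorem rho_injective : Function.Injective rho := exists_rho.choose_spec.1

theorem rho_gen : ∀ k ∈ List.range 8, ∀ r : Fin 240, (rho (gen C8 k) r).val = act e8Perm k r.val :=
  exists_rho.choose_spec.2

theorem rho_wprod (w : List ℕ) (hw : ∀ k ∈ w, k < 8) (r : Fin 240) :
    (rho (wprod (gen C8) w) r).val = actWord e8Perm w r.val :=
  wprod_act _ rho_gen w (fun k hk => List.mem_range.mpr (hw k hk)) r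

theorem eq_words {w w' : List ℕ} (hw : ∀ k ∈ w, k < 8) (hw' : ∀ k ∈ w', k < 8)
    (h : permList e8Perm 240 w = permList e8Perm 240 w') : wprod (gen C8) w = wprod (gen C8) w' :=
  eq_of_permList_eq rho rho_injective rho_gen hw hw' h

theorem wprod_even : ∀ (n : ℕ) (w : List ℕ), (∀ k ∈ w, k < 8) → w.length = 2 * n →
    wprod (gen C8) w ∈ Wp
  | 0, w, _, h => by
    rw [List.eq_nil_of_length_eq_zero (by omega : w.length = 0)]; exact one_mem _
  | n + 1, [], _, h => by simp at h
  | n + 1, [_], _, h => by simp at h; omega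
  | n + 1, a :: b :: w, hw, h => by
    have ha : a < 8 := hw a (by simp)
    have hb : b < 8 := hw b (by simp)
    rw [wprod_cons, wprod_cons, ← mul_assoc]
    refine mul_mem ?_ (wprod_even n w (fun k hk => hw k (by simp [hk])) (by simp at h; omega))
    have h1 := mul_mem (x_mem ⟨a, ha⟩) (inv_mem (x_mem ⟨b, hb⟩))
    simp only [mul_inv_rev, s_inv] at h1
    rw [show gen C8 a = s ⟨a, ha⟩ from gen_val ⟨a, ha⟩, show gen C8 b = s ⟨b, hb⟩ from gen_val ⟨b, hb⟩]
    rwa [show s ⟨a, ha⟩ * s 7 * (s 7 * s ⟨b, hb⟩) = s ⟨a, ha⟩ * (s 7 * s 7) * s ⟨b, hb⟩ by group,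
      s_sq, mul_one] at h1

/-! ### the central element -/

theorem negL_eq : permList e8Perm 240 (cPow 8 15) = negL := by decide +kernel

/-- the central involution -/
def z : Wp := ⟨wprod (gen C8) (cPow 8 15),
  wprod_even 60 _ (fun _ hk => mem_cPow hk) (by decide)⟩

theorem center_W : (Subgroup.center W : Set W) = {1, (z : W)} := by
  rw [show (z : W) = ((List.finRange 8).map C8.simple).prod ^ 15 from wprod_cPow 15]
  exact centre_eq e8_act e8_chain (reps := e8Reps) (paths := e8Paths) (fx := e8Fix) (by decide +kernel)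

theorem z_mem_center_W : (z : W) ∈ Subgroup.center W := by
  rw [← SetLike.mem_coe, center_W]; simp

theorem z_mem_center : z ∈ Subgroup.center Wp := by
  rw [Subgroup.mem_center_iff]
  exact fun g => Subtype.ext (Subgroup.mem_center_iff.mp z_mem_center_W g)

theorem rho_z (r : Fin 240) : (rho (z : W) r).val = negL.getD r.val 0 := by
  rw [show (z : W) = wprod (gen C8) (cPow 8 15) from rfl, rho_wprod _ (fun _ hk => mem_cPow hk), ← negL_eq,
    permList, List.getD_eq_getElem _ _ (by simp)]
  simp

theorem z_ne_one : z ≠ 1 := by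
  intro h
  have h1 := rho_z 0
  rw [h] at h1
  simp only [Subgroup.coe_one, map_one, Equiv.Perm.one_apply] at h1
  revert h1
  decide +kernel

theorem z_sq : z * z = 1 := by
  refine Subtype.ext ?_
  show wprod (gen C8) (cPow 8 15) * wprod (gen C8) (cPow 8 15) = wprod (gen C8) []
  rw [← wprod_append]
  refine eq_words (fun k hk => ?_) (by simp) (by decide +kernel)
  rcases List.mem_append.mp hk with h | h <;> exact mem_cPow h

/-! ### the reflection of the highest root -/

theorem stab_zero {g : W} (hg : rho g 0 = 0) : g ∈ gSub (gen C8) [0, 1, 2, 3, 4, 5, 6] := by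
  have hsplit : ∃ L Ls, e8Chain = L :: Ls := ⟨e8Level0, _, rfl⟩
  obtain ⟨L, Ls, hL⟩ := hsplit
  have hC := e8_chain
  rw [hL] at hC
  simp only [chainOK, Bool.and_eq_true, decide_eq_true_eq] at hC
  have hsub : L.sub = [0, 1, 2, 3, 4, 5, 6] := by
    obtain rfl : L = e8Level0 := by
      simp only [e8Chain, List.cons.injEq] at hL; exact hL.1.symm
    rfl
  rw [hsub] at hC
  have hcard := (chain_sound (ρ := rho) (gen_rels C8) (setup e8_act e8_chain).1 _ _ hC.2
    (fun k hk => rho_gen k (by
      have hk' : k ∈ [0, 1, 2, 3, 4, 5, 6] := hk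
      simp at hk' ⊢; omega))).1
  set H := gSub (gen C8) [0, 1, 2, 3, 4, 5, 6] with hH
  let act' : MulAction W (Fin 240) := MulAction.compHom (Fin 240) rho
  let St : Subgroup W := MulAction.stabilizer W (0 : Fin 240)
  have hHS : H ≤ St := by
    rw [hH, gSub, Subgroup.closure_le]
    rintro _ ⟨k, hk, rfl⟩
    show rho (gen C8 k) 0 = 0
    refine Fin.ext ?_
    have hk' : k ∈ [0, 1, 2, 3, 4, 5, 6] := hk
    rw [rho_gen k (by simp at hk' ⊢; omega)]
    revert hk'
    revert k
    intro k _ hk'
    have key : ∀ k ∈ [0, 1, 2, 3, 4, 5, 6], act e8Perm k 0 = 0 := by decide +kernel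
    exact key k hk'
  have hpaths : ∀ r : Fin 240, (∀ k ∈ (e8Paths.getD r.val (0, [])).2, k < 8) ∧
      actWord e8Perm (e8Paths.getD r.val (0, [])).2 0 = r.val := by decide +kernel
  have hidx : St.index = 240 := by
    rw [MulAction.index_stabilizer]
    have : MulAction.orbit W (0 : Fin 240) = Set.univ := Set.eq_univ_of_forall fun r =>
      ⟨wprod (gen C8) (e8Paths.getD r.val (0, [])).2, Fin.ext (by
        show (rho _ 0).val = _
        rw [rho_wprod _ (hpaths r).1]; exact (hpaths r).2)⟩
    simp [this]
  have hSt : Nat.card St * 240 = 696729600 := by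
    rw [← hidx, Subgroup.card_mul_index, card_W]
  have hW : L.size * Nat.card H = 696729600 := by
    rw [hcard, ← card_W, (coxeter_sound C8 e8_act e8_chain).1, hL]; simp
  have hLsize : L.size = 240 := by
    obtain rfl : L = e8Level0 := by
      simp only [e8Chain, List.cons.injEq] at hL; exact hL.1.symm
    decide +kernel
  rw [hLsize] at hW
  have h240 : Nat.card H * 240 = Nat.card St * 240 := by rw [hSt, mul_comm]; exact hW
  have heq : H = St := Subgroup.eq_of_le_of_card_ge hHS (Nat.eq_of_mul_eq_mul_right (by norm_num) h240).ge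
  rw [heq]
  exact hg

/-- reflection in the highest root -/
def sTheta : W := wprod (gen C8) theta

theorem sTheta_comm {g : W} (hg : g ∈ gSub (gen C8) [0, 1, 2, 3, 4, 5, 6]) : g * sTheta = sTheta * g := by
  refine Subgroup.closure_induction (p := fun y _ => y * sTheta = sTheta * y) ?_ ?_ ?_ ?_ hg
  · rintro _ ⟨k, hk, rfl⟩
    have key : ∀ k ∈ [0, 1, 2, 3, 4, 5, 6], (∀ a ∈ k :: theta, a < 8) ∧ (∀ a ∈ theta ++ [k], a < 8) ∧
        permList e8Perm 240 (k :: theta) = permList e8Perm 240 (theta ++ [k]) := by decide +kernel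
    obtain ⟨h1, h2, h3⟩ := key k hk
    have := eq_words h1 h2 h3
    simpa [sTheta] using this
  · simp
  · intro a b _ _ ha hb
    rw [mul_assoc, hb, ← mul_assoc, ha, mul_assoc]
  · intro a _ ha
    rw [eq_mul_inv_iff_mul_eq, mul_assoc, ← ha, inv_mul_cancel_left]

/-- An element of `Wp` moving every root to itself or its negative is `1` or `z`. -/
theorem eq_one_or_z_of_signs (w : Wp)
    (h : ∀ r, rho (w : W) r = r ∨ rho (w : W) r = rho (z : W) r) : w = 1 ∨ w = z := by
  have key : ∀ g : W, (w : W) * g * sTheta * ((w : W) * g)⁻¹ = g * sTheta * g⁻¹ := by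
    intro g
    have e : ∀ a : W, rho a 0 = rho g 0 → a * sTheta * a⁻¹ = g * sTheta * g⁻¹ := by
      intro a ha
      have h1 : rho (g⁻¹ * a) 0 = 0 := by
        rw [map_mul, Equiv.Perm.mul_apply, ha, map_inv, Equiv.Perm.coe_inv]
        exact Equiv.symm_apply_apply _ _
      have h2 := sTheta_comm (stab_zero h1)
      calc a * sTheta * a⁻¹ = g * (g⁻¹ * a * sTheta) * (g⁻¹ * a)⁻¹ * g⁻¹ := by group
        _ = g * (sTheta * (g⁻¹ * a)) * (g⁻¹ * a)⁻¹ * g⁻¹ := by rw [h2]
        _ = g * sTheta * g⁻¹ := by group
    rcases h (rho g 0) with h1 | h1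
    · exact e _ (by rw [map_mul, Equiv.Perm.mul_apply, h1])
    · have hz := Subgroup.mem_center_iff.mp z_mem_center_W
      have h2 := e ((z : W)⁻¹ * ((w : W) * g)) (by
        rw [map_mul, Equiv.Perm.mul_apply, map_mul, Equiv.Perm.mul_apply, h1, map_inv, Equiv.Perm.coe_inv]
        exact Equiv.symm_apply_apply _ _)
      rw [← h2]
      have hc : ∀ y : W, (z : W)⁻¹ * y * (z : W) = y := fun y => by
        rw [mul_assoc, hz y, inv_mul_cancel_left]
      symm
      calc (z : W)⁻¹ * ((w : W) * g) * sTheta * ((z : W)⁻¹ * ((w : W) * g))⁻¹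
          = (z : W)⁻¹ * ((w : W) * g * sTheta * ((w : W) * g)⁻¹) * (z : W) := by group
        _ = _ := hc _
  have hsimple : ∀ i : Fin 8, wprod (gen C8) (toSimple.getD i.val []) * sTheta *
      (wprod (gen C8) (toSimple.getD i.val []))⁻¹ = s i := by
    intro i
    have chk : ∀ i : Fin 8, (∀ a ∈ toSimple.getD i.val [] ++ theta ++ (toSimple.getD i.val []).reverse, a < 8) ∧
        permList e8Perm 240 (toSimple.getD i.val [] ++ theta ++ (toSimple.getD i.val []).reverse) =
          permList e8Perm 240 [i.val] := by decide +kernel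
    rw [inv_wprod (gen_rels C8), sTheta, ← wprod_append, ← wprod_append,
      eq_words (chk i).1 (by simp) (chk i).2]
    simp [gen_val]
  have hc : (w : W) ∈ Subgroup.center W := by
    rw [Subgroup.mem_center_iff]
    intro g
    induction g using C8.toCoxeterSystem.simple_induction_left with
    | one => simp
    | mul_simple_left g i ih =>
      rw [CoxeterMatrix.toCoxeterSystem_simple]
      change s i * g * (w : W) = (w : W) * (s i * g)
      have hi : (w : W) * s i = s i * (w : W) := by
        have := key (wprod (gen C8) (toSimple.getD i.val []))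
        rw [hsimple i] at this
        have h2 : (w : W) * s i * (w : W)⁻¹ = s i := by
          calc (w : W) * s i * (w : W)⁻¹
              = (w : W) * (wprod (gen C8) (toSimple.getD i.val []) * sTheta *
                  (wprod (gen C8) (toSimple.getD i.val []))⁻¹) * (w : W)⁻¹ := by rw [hsimple i]
            _ = _ := by group
            _ = s i := this
        rw [mul_inv_eq_iff_eq_mul] at h2
        exact h2
      rw [mul_assoc, ih, ← mul_assoc, ← hi, mul_assoc]
  rw [← SetLike.mem_coe, center_W] at hc
  rcases hc with h1 | h1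
  · exact Or.inl (Subtype.ext h1)
  · exact Or.inr (Subtype.ext h1)

/-! ### the twisted generators -/

theorem twist_words : ∀ i : Fin 8, (∀ k ∈ twistW.getD i.val [], k < 8) ∧
    (twistW.getD i.val []).length % 2 = 0 := by decide +kernel

/-- twisted generators -/
def y (i : Fin 8) : Wp := ⟨wprod (gen C8) (twistW.getD i.val []),
  wprod_even ((twistW.getD i.val []).length / 2) _ (twist_words i).1 (by have := (twist_words i).2; omega)⟩

theorem y_seven : y 7 = 1 := Subtype.ext rfl

theorem twist_perm : ∀ i : Fin 8, ∀ r : Fin 240,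
    actWord e8Perm (twistW.getD i.val []) r.val = act twistP i.val r.val ∧
    actWord e8Perm (twistW.getD i.val []).reverse r.val = act twistP (8 + i.val) r.val := by
  decide +kernel

theorem twist_rels : ∀ i j : Fin 8,
    permList twistP 240 (List.replicate (C8.M i j) [i.val, 8 + j.val]).flatten = List.range 240 ∨
    permList twistP 240 (List.replicate (C8.M i j) [i.val, 8 + j.val]).flatten = negL := by
  decide +kernel

theorem eq_of_perm {w : W} {l : List ℕ} (hl : l.length = 240)
    (hw : ∀ r : Fin 240, (rho w r).val = l.getD r.val 0) :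
    (l = List.range 240 → w = 1) ∧ (l = negL → w = (z : W)) := by
  refine ⟨fun e => rho_injective (Equiv.ext fun r => Fin.ext ?_),
    fun e => rho_injective (Equiv.ext fun r => Fin.ext ?_)⟩
  · rw [hw, e, map_one, List.getD_eq_getElem _ _ (by simp)]; simp
  · rw [hw, e, rho_z]

theorem y_rels (i j : Fin 8) : ((y i : Wp) * (y j)⁻¹) ^ C8.M i j = 1 ∨
    ((y i : Wp) * (y j)⁻¹) ^ C8.M i j = z := by
  let τ : ℕ → W := fun k => if h : k < 8 then (y ⟨k, h⟩ : W) else
    if h' : k - 8 < 8 then ((y ⟨k - 8, h'⟩)⁻¹ : Wp) else 1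
  have hτ : ∀ k ∈ List.range 16, ∀ r : Fin 240, (rho (τ k) r).val = act twistP k r.val := by
    intro k hk r
    have hk' : k < 16 := List.mem_range.mp hk
    by_cases h : k < 8
    · simp only [τ, dif_pos h]
      rw [show ((y ⟨k, h⟩ : Wp) : W) = wprod (gen C8) (twistW.getD k []) from rfl,
        rho_wprod _ (twist_words ⟨k, h⟩).1]
      exact (twist_perm ⟨k, h⟩ r).1
    · have h' : k - 8 < 8 := by omega
      simp only [τ, dif_neg h, dif_pos h']
      rw [Subgroup.coe_inv, show ((y ⟨k - 8, h'⟩ : Wp) : W) = wprod (gen C8) (twistW.getD (k - 8) []) from rfl,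
        inv_wprod (gen_rels C8), rho_wprod _ (fun a ha => (twist_words ⟨k - 8, h'⟩).1 a (List.mem_reverse.mp ha))]
      have := (twist_perm ⟨k - 8, h'⟩ r).2
      rwa [show 8 + (k - 8) = k by omega] at this
  set l := (List.replicate (C8.M i j) [i.val, 8 + j.val]).flatten with hl
  have hmem : ∀ k ∈ l, k ∈ List.range 16 := by
    intro k hk
    simp only [hl, List.mem_flatten, List.mem_replicate] at hk
    obtain ⟨_, ⟨-, rfl⟩, hk⟩ := hk
    simp at hk
    rcases hk with rfl | rfl <;> simp <;> omega
  have hval : ((((y i : Wp) * (y j)⁻¹) ^ C8.M i j : Wp) : W) = wprod τ l := by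
    rw [SubmonoidClass.coe_pow, hl]
    induction C8.M i j with
    | zero => simp
    | succ n ih =>
      rw [List.replicate_succ, List.flatten_cons, wprod_append, ← ih, pow_succ']
      congr 1
      have hi : τ i.val = (y i : W) := by simp [τ, i.isLt]
      have hj : τ (8 + j.val) = ((y j)⁻¹ : Wp) := by
        have h1 : ¬ (8 + j.val < 8) := by omega
        have h2 : 8 + j.val - 8 < 8 := by omega
        simp only [τ, dif_neg h1, dif_pos h2]
        congr
        omega
      simp [wprod_cons, hi, hj]
  have hp := eq_of_perm (w := wprod τ l) (l := permList twistP 240 l) (by simp [permList]) fun r => by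
    rw [wprod_act _ hτ l hmem r, permList, List.getD_eq_getElem _ _ (by simp)]
    simp
  rcases twist_rels i j with h | h
  · exact Or.inl (Subtype.ext (by rw [hval, hp.1 h]; rfl))
  · exact Or.inr (Subtype.ext (by rw [hval, hp.2 h]))

theorem y_zero_sq : y 0 * y 0 = z := by
  refine Subtype.ext ?_
  show wprod (gen C8) (twistW.getD 0 []) * wprod (gen C8) (twistW.getD 0 []) = _
  rw [← wprod_append]
  refine (eq_of_perm (l := negL) (by decide +kernel) fun r => ?_).2 rfl
  have hlt : ∀ k ∈ twistW.getD 0 [] ++ twistW.getD 0 [], k < 8 := fun k hk => by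
    rcases List.mem_append.mp hk with h | h <;> exact (twist_words 0).1 k h
  have hw0 : ∀ k ∈ twistW.getD 0 [], k < 8 := (twist_words 0).1
  rw [wprod_append, map_mul, Equiv.Perm.mul_apply, rho_wprod _ hw0]
  have h1 := (twist_perm 0 r).1
  have h2 := rho_wprod _ hw0 r
  have h3 := (twist_perm 0 (rho (wprod (gen C8) (twistW.getD 0 [])) r)).1
  simp only [Fin.val_zero] at h1 h3
  rw [h3, h2, h1]
  have key : ∀ r : Fin 240, act twistP 0 (act twistP 0 r.val) = negL.getD r.val 0 := by decide +kernel
  exact key r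

theorem x_zero_sq : x 0 * x 0 = 1 := by
  refine Subtype.ext ?_
  show s 0 * s 7 * (s 0 * s 7) = 1
  have h := s_rel 0 7
  rw [show C8.M 0 7 = 2 from by decide, pow_two] at h
  exact h

end Cfsg.Agent.E8Even69
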