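import Cfsg.Agent.Lib.E6MinDegree68

/-!
The top four values below the minimal degree bound of `E₈(q)` do not divide the group order.
-/

set_option autoImplicit false
set_option maxRecDepth 20000
set_option maxHeartbeats 2000000

namespace Cfsg.Agent.E8MinArith68

open Cfsg.Agent.E6MinDegree68

/-- the order polynomial -/
def ord8 (q : ℕ) : ℕ := q ^ 120 * (q ^ 2 - 1) * (q ^ 8 - 1) * (q ^ 12 - 1) * (q ^ 14 - 1) * (q ^ 18 - 1) * (q ^ 20 - 1) * (q ^ 24 - 1) * (q ^ 30 - 1)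

/-- the bound -/
def t8 (q : ℕ) : ℕ := q ^ 29 + q ^ 23 + q ^ 19 + q ^ 17 + q ^ 13 + q ^ 11 + q ^ 7 + q

/-- the factored order -/
def pr (q : ℤ) : ℤ := ((1) * q) ^ 120 * ((-1) + (1) * q) ^ 8 * ((1) + (1) * q) ^ 8 * ((1) + (1) * q + (1) * q ^ 2) ^ 4 * ((1) + (1) * q ^ 2) ^ 4 * ((1) + (1) * q + (1) * q ^ 2 + (1) * q ^ 3 + (1) * q ^ 4) ^ 2 * ((1) + (-1) * q + (1) * q ^ 2) ^ 4 * ((1) + (1) * q + (1) * q ^ 2 + (1) * q ^ 3 + (1) * q ^ 4 + (1) * q ^ 5 + (1) * q ^ 6) ^ 1 * ((1) + (1) * q ^ 4) ^ 2 * ((1) + (1) * q ^ 3 + (1) * q ^ 6) ^ 1 * ((1) + (-1) * q + (1) * q ^ 2 + (-1) * q ^ 3 + (1) * q ^ 4) ^ 2 * ((1) + (-1) * q ^ 2 + (1) * q ^ 4) ^ 2 * ((1) + (-1) * q + (1) * q ^ 2 + (-1) * q ^ 3 + (1) * q ^ 4 + (-1) * q ^ 5 + (1) * q ^ 6) ^ 1 * ((1) + (-1) * q + (1) * q ^ 3 + (-1) * q ^ 4 + (1) * q ^ 5 + (-1) * q ^ 7 + (1) * q ^ 8) ^ 1 * ((1) + (-1) * q ^ 3 + (1) * q ^ 6) ^ 1 * ((1)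 + (-1) * q ^ 2 + (1) * q ^ 4 + (-1) * q ^ 6 + (1) * q ^ 8) ^ 1 * ((1) + (-1) * q ^ 4 + (1) * q ^ 8) ^ 1 * ((1) + (1) * q + (-1) * q ^ 3 + (-1) * q ^ 4 + (-1) * q ^ 5 + (1) * q ^ 7 + (1) * q ^ 8) ^ 1

/-- the cofactor -/
def g1 (q : ℤ) : ℤ := (-1) + (1) * q ^ 3 + (1) * q ^ 5 + (1) * q ^ 7 + (1) * q ^ 9 + (1) * q ^ 11 + (1) * q ^ 13 + (-1) * q ^ 16 + (1) * q ^ 19 + (1) * q ^ 20 + (1) * q ^ 21

theorem small1 {q : ℤ} (h : g1 q ∣ pr q) : g1 q ∣ 247349343217114251388359 := by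
  rw [pr] at h
  replace h := dvd_mul_of_dvd_left h 1
  replace h := peel 1 (1) ((1) * q + (-1) * q ^ 3 + (-1) * q ^ 5 + (1) * q ^ 7) ((1) + (1) * q ^ 16 + (-1) * q ^ 20) (by simp only [g1]; ring) h
  replace h := peel 1 (1) ((1) * q + (-1) * q ^ 3 + (-1) * q ^ 5 + (1) * q ^ 7) ((1) + (1) * q + (-1) * q ^ 3 + (-1) * q ^ 9 + (1) * q ^ 11 + (-1) * q ^ 13 + (1) * q ^ 15 + (1) * q ^ 16 + (1) * q ^ 17 + (-1) * q ^ 19 + (-1) * q ^ 20) (by simp only [g1]; ring) h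
  replace h := peel 1 (1) ((1) * q + (-1) * q ^ 2 + (-1) * q ^ 3 + (2) * q ^ 4 + (-1) * q ^ 5 + (-1) * q ^ 6 + (1) * q ^ 7) ((1) + (1) * q + (-1) * q ^ 5 + (-1) * q ^ 11 + (1) * q ^ 15 + (1) * q ^ 16 + (-1) * q ^ 20) (by simp only [g1]; ring) h
  replace h := peel 1 (3) ((-1) * q + (2) * q ^ 2 + (-3) * q ^ 3 + (2) * q ^ 4 + (-1) * q ^ 5) ((3) + (-1) * q + (2) * q ^ 2 + (2) * q ^ 4 + (-1) * q ^ 5 + (1) * q ^ 6 + (-1) * q ^ 7 + (2) * q ^ 8 + (-3) * q ^ 9 + (2) * q ^ 10 + (-1) * q ^ 11 + (1) * q ^ 12 + (-1) * q ^ 13 + (2) * q ^ 14 + (1) * q ^ 16 + (2) * q ^ 18 + (-1) * q ^ 19 + (1) * q ^ 20) (by simp only [g1]; ring) h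
  replace h := peel 1 (30841) ((-9496) + (1089) * q + (5904) * q ^ 2 + (-7309) * q ^ 3 + (1476) * q ^ 4 + (-1239) * q ^ 5 + (-600) * q ^ 6 + (-129) * q ^ 7) ((21345) + (22434) * q + (28338) * q ^ 2 + (9180) * q ^ 3 + (8478) * q ^ 4 + (-16418) * q ^ 5 + (-14074) * q ^ 6 + (-18378) * q ^ 7 + (5886) * q ^ 8 + (3684) * q ^ 9 + (12836) * q ^ 10 + (4660) * q ^ 11 + (7932) * q ^ 12 + (-2046) * q ^ 13 + (5730) * q ^ 14 + (7106) * q ^ 15 + (9403) * q ^ 16 + (3060) * q ^ 17 + (2826) * q ^ 18 + (858) * q ^ 19 + (129) * q ^ 20) (by simp only [g1]; ring) h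
  replace h := peel 1 (1) ((-1) + (1) * q ^ 2 + (-1) * q ^ 3 + (1) * q ^ 4 + (-1) * q ^ 5) ((1) * q ^ 2 + (1) * q ^ 3 + (1) * q ^ 4 + (1) * q ^ 8 + (1) * q ^ 12 + (1) * q ^ 13 + (1) * q ^ 14 + (-1) * q ^ 15 + (-1) * q ^ 16 + (1) * q ^ 18 + (1) * q ^ 19 + (1) * q ^ 20) (by simp only [g1]; ring) h
  replace h := peel 2 (1) ((-2) + (1) * q + (2) * q ^ 2 + (-2) * q ^ 3) ((-1) + (1) * q + (1) * q ^ 2 + (1) * q ^ 3 + (1) * q ^ 4 + (1) * q ^ 6 + (-1) * q ^ 7 + (1) * q ^ 8 + (-1) * q ^ 9 + (1) * q ^ 10 + (1) * q ^ 12 + (1) * q ^ 13 + (1) * q ^ 14 + (-1) * q ^ 15 + (-1) * q ^ 17 + (1) * q ^ 18 + (2) * q ^ 20) (by simp only [g1]; ring) h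
  replace h := peel 2 (1) ((1) + (-2) * q + (2) * q ^ 2 + (-1) * q ^ 3) ((2) + (-3) * q ^ 5 + (3) * q ^ 10 + (-2) * q ^ 15 + (1) * q ^ 20) (by simp only [g1]; ring) h
  replace h := peel 1 (19) ((-12) + (-3) * q + (4) * q ^ 2 + (-11) * q ^ 3 + (2) * q ^ 4 + (-9) * q ^ 5) ((7) + (-3) * q + (4) * q ^ 2 + (-6) * q ^ 3 + (8) * q ^ 4 + (-5) * q ^ 5 + (13) * q ^ 6 + (1) * q ^ 7 + (24) * q ^ 8 + (-1) * q ^ 9 + (14) * q ^ 10 + (-13) * q ^ 11 + (11) * q ^ 12 + (-9) * q ^ 13 + (12) * q ^ 14 + (-16) * q ^ 15 + (3) * q ^ 16 + (-4) * q ^ 17 + (18) * q ^ 18 + (7) * q ^ 19 + (9) * q ^ 20) (by simp only [g1]; ring) h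
  replace h := peel 2 (1) ((-3) + (2) * q + (-2) * q ^ 3) ((-2) + (2) * q + (1) * q ^ 3 + (1) * q ^ 5 + (2) * q ^ 7 + (2) * q ^ 9 + (1) * q ^ 11 + (1) * q ^ 13 + (-1) * q ^ 15 + (-1) * q ^ 16 + (1) * q ^ 17 + (2) * q ^ 19 + (2) * q ^ 20) (by simp only [g1]; ring) h
  replace h := peel 1 (7) ((1) + (2) * q + (3) * q ^ 2 + (-3) * q ^ 3 + (5) * q ^ 4 + (-1) * q ^ 5) ((8) + (-6) * q + (1) * q ^ 2 + (-7) * q ^ 3 + (7) * q ^ 4 + (-8) * q ^ 5 + (6) * q ^ 6 + (-2) * q ^ 7 + (5) * q ^ 8 + (-10) * q ^ 9 + (4) * q ^ 10 + (-4) * q ^ 11 + (3) * q ^ 12 + (-5) * q ^ 13 + (9) * q ^ 14 + (-5) * q ^ 15 + (3) * q ^ 16 + (-4) * q ^ 17 + (3) * q ^ 18 + (-5) * q ^ 19 + (1) * q ^ 20) (by simp only [g1]; ring) h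
  replace h := peel 4 (3) ((-1) * q) ((3) + (2) * q + (-1) * q ^ 2 + (-3) * q ^ 3 + (-1) * q ^ 4 + (2) * q ^ 5 + (4) * q ^ 6 + (2) * q ^ 7 + (-1) * q ^ 8 + (-3) * q ^ 9 + (-1) * q ^ 10 + (2) * q ^ 11 + (4) * q ^ 12 + (2) * q ^ 13 + (-1) * q ^ 14 + (-3) * q ^ 15 + (-2) * q ^ 16 + (2) * q ^ 18 + (2) * q ^ 19 + (1) * q ^ 20) (by simp only [g1]; ring) h
  replace h := peel 2 (1) ((-1) + (-1) * q ^ 3) ((1) * q ^ 5 + (1) * q ^ 10 + (1) * q ^ 20) (by simp only [g1]; ring) h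
  replace h := peel 4 (1) ((-1)) ((1) * q ^ 3 + (1) * q ^ 7 + (1) * q ^ 11 + (-1) * q ^ 16 + (1) * q ^ 18 + (1) * q ^ 19) (by simp only [g1]; ring) h
  replace h := peel 4 (1) ((1) * q) ((1) + (-1) * q ^ 2 + (1) * q ^ 3 + (-1) * q ^ 4 + (-1) * q ^ 8 + (1) * q ^ 9 + (-1) * q ^ 10 + (-1) * q ^ 14 + (1) * q ^ 15 + (-1) * q ^ 20) (by simp only [g1]; ring) h
  replace h := peel 8 (9) ((-1)) ((8) + (-8) * q + (8) * q ^ 2 + (-7) * q ^ 3 + (7) * q ^ 4 + (-6) * q ^ 5 + (6) * q ^ 6 + (-5) * q ^ 7 + (5) * q ^ 8 + (-4) * q ^ 9 + (4) * q ^ 10 + (-3) * q ^ 11 + (3) * q ^ 12 + (-2) * q ^ 13 + (2) * q ^ 14 + (-2) * q ^ 15 + (1) * q ^ 16 + (-1) * q ^ 17 + (1) * q ^ 18 + (1) * q ^ 20) (by simp only [g1]; ring) h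
  replace h := peel 8 (7) ((1)) ((-8) + (-8) * q + (-8) * q ^ 2 + (-7) * q ^ 3 + (-7) * q ^ 4 + (-6) * q ^ 5 + (-6) * q ^ 6 + (-5) * q ^ 7 + (-5) * q ^ 8 + (-4) * q ^ 9 + (-4) * q ^ 10 + (-3) * q ^ 11 + (-3) * q ^ 12 + (-2) * q ^ 13 + (-2) * q ^ 14 + (-2) * q ^ 15 + (-3) * q ^ 16 + (-3) * q ^ 17 + (-3) * q ^ 18 + (-2) * q ^ 19 + (-1) * q ^ 20) (by simp only [g1]; ring) h
  replace h := peel' 120 (1) ((-1)) ((1) * q ^ 2 + (1) * q ^ 4 + (1) * q ^ 6 + (1) * q ^ 8 + (1) * q ^ 10 + (1) * q ^ 12 + (-1) * q ^ 15 + (1) * q ^ 18 + (1) * q ^ 19 + (1) * q ^ 20) (by simp only [g1]; ring) h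
  norm_num at h ⊢
  exact h

theorem large1 (p : ℕ) : (247349343217114251388359 : ℤ) < g1 (13 + (p : ℤ)) := by
  have e : g1 (13 + (p : ℤ)) = (267530748026775389681719 : ℤ) + (430478479142203600955756 * (p : ℤ) ^ 1 + 329848537077137537774718 * (p : ℤ) ^ 2 + 160071784517999398400500 * (p : ℤ) ^ 3 + 55195036875400477639545 * (p : ℤ) ^ 4 + 14379924651067378885834 * (p : ℤ) ^ 5 + 2938380510755431738269 * (p : ℤ) ^ 6 + 482490826998115758447 * (p : ℤ) ^ 7 + 64702359792262436517 * (p : ℤ) ^ 8 + 7161751793770717703 * (p : ℤ) ^ 9 + 658573412853829343 * (p : ℤ) ^ 10 + 50467680463260945 * (p : ℤ) ^ 11 + 3222899819924005 * (p : ℤ) ^ 12 + 170988269205599 * (p : ℤ) ^ 13 + 7487802048324 * (p : ℤ) ^ 14 + 267789192476 * (p : ℤ) ^ 15 + 7695948194 * (p : ℤ) ^ 16 + 173471064 * (p : ℤ) ^ 17 + 2954367 * (p : ℤ) ^ 18 + 35751 * (p : ℤ) ^ 19 + 274 * (p : ℤ) ^ 20 + 1 * (p : ℤ) ^ 21) := by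
    simp only [g1]; ring
  rw [e]
  exact lt_of_lt_of_le (by norm_num) (le_add_of_nonneg_right (by positivity))

theorem range1 : ((List.range 1).all fun a => (List.range 128).all fun b => decide (128 * a + b < 2) || decide (ord8 (128 * a + b) % (t8 (128 * a + b) - 1) ≠ 0)) = true := by decide +kernel

/-- the cofactor -/
def g2 (q : ℤ) : ℤ := (-2) + (-1) * q + (1) * q ^ 2 + (2) * q ^ 5 + (1) * q ^ 6 + (1) * q ^ 8 + (-2) * q ^ 10 + (1) * q ^ 12 + (1) * q ^ 14 + (2) * q ^ 15 + (1) * q ^ 18 + (-1) * q ^ 20 + (1) * q ^ 24 + (1) * q ^ 25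

theorem small2 {q : ℤ} (h : g2 q ∣ pr q) : g2 q ∣ 829027391673773143392944934157633684463371772271067262802198528 := by
  rw [pr] at h
  replace h := dvd_mul_of_dvd_left h 1
  replace h := peel 1 (3) ((-1) + (1) * q + (-1) * q ^ 2 + (1) * q ^ 3 + (-1) * q ^ 4) ((1) + (1) * q ^ 3 + (1) * q ^ 5 + (1) * q ^ 7 + (1) * q ^ 9 + (1) * q ^ 11 + (1) * q ^ 13 + (1) * q ^ 16 + (1) * q ^ 19 + (-1) * q ^ 20 + (1) * q ^ 21) (by simp only [g2]; ring) h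
  replace h := peel 1 (2) ((-1) + (1) * q + (-1) * q ^ 2 + (1) * q ^ 3 + (-1) * q ^ 4) ((1) * q + (1) * q ^ 5 + (1) * q ^ 7 + (2) * q ^ 11 + (1) * q ^ 15 + (1) * q ^ 17 + (1) * q ^ 21) (by simp only [g2]; ring) h
  replace h := peel 1 (2) ((-1) + (1) * q + (-1) * q ^ 2 + (1) * q ^ 3 + (-1) * q ^ 4) ((1) * q + (1) * q ^ 3 + (1) * q ^ 7 + (1) * q ^ 9 + (1) * q ^ 13 + (1) * q ^ 15 + (1) * q ^ 19 + (1) * q ^ 21) (by simp only [g2]; ring) h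
  replace h := peel 1 (127) ((-59) + (20) * q + (-24) * q ^ 2 + (37) * q ^ 3 + (-19) * q ^ 4 + (-28) * q ^ 5) ((9) + (-19) * q + (31) * q ^ 2 + (39) * q ^ 3 + (4) * q ^ 4 + (37) * q ^ 5 + (40) * q ^ 6 + (79) * q ^ 7 + (15) * q ^ 8 + (-18) * q ^ 9 + (56) * q ^ 10 + (9) * q ^ 11 + (-28) * q ^ 12 + (59) * q ^ 13 + (39) * q ^ 14 + (-5) * q ^ 15 + (6) * q ^ 16 + (69) * q ^ 17 + (27) * q ^ 18 + (-7) * q ^ 19 + (51) * q ^ 20 + (15) * q ^ 21 + (-18) * q ^ 22 + (47) * q ^ 23 + (28) * q ^ 24) (by simp only [g2]; ring) h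
  replace h := peel 1 (1) ((-1) + (1) * q + (-1) * q ^ 2 + (1) * q ^ 3 + (-1) * q ^ 4) ((-1) + (1) * q ^ 3 + (1) * q ^ 5 + (1) * q ^ 7 + (1) * q ^ 9 + (1) * q ^ 11 + (1) * q ^ 13 + (-1) * q ^ 16 + (1) * q ^ 19 + (1) * q ^ 20 + (1) * q ^ 21) (by simp only [g2]; ring) h
  replace h := peel 1 (43) ((-16) + (8) * q + (-12) * q ^ 2 + (10) * q ^ 3 + (-11) * q ^ 4 + (-11) * q ^ 5) ((11) + (11) * q + (-11) * q ^ 5 + (-11) * q ^ 6 + (16) * q ^ 7 + (24) * q ^ 8 + (12) * q ^ 9 + (17) * q ^ 10 + (30) * q ^ 11 + (31) * q ^ 12 + (37) * q ^ 13 + (13) * q ^ 14 + (-26) * q ^ 15 + (-13) * q ^ 16 + (15) * q ^ 17 + (2) * q ^ 18 + (1) * q ^ 19 + (6) * q ^ 20 + (3) * q ^ 21 + (23) * q ^ 22 + (33) * q ^ 23 + (11) * q ^ 24) (by simp only [g2]; ring) h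
  replace h := peel 2 (2) ((1) * q + (-2) * q ^ 2 + (1) * q ^ 3) ((2) + (2) * q + (-1) * q ^ 2 + (1) * q ^ 3 + (-2) * q ^ 5 + (-1) * q ^ 6 + (-1) * q ^ 8 + (2) * q ^ 10 + (1) * q ^ 11 + (-1) * q ^ 12 + (2) * q ^ 13 + (-1) * q ^ 14 + (-1) * q ^ 15 + (-1) * q ^ 18 + (1) * q ^ 20 + (1) * q ^ 23 + (-1) * q ^ 24) (by simp only [g2]; ring) h
  replace h := peel 2 (12) ((-1)) ((10) + (9) * q + (1) * q ^ 3 + (-8) * q ^ 5 + (-6) * q ^ 6 + (1) * q ^ 7 + (1) * q ^ 9 + (6) * q ^ 10 + (4) * q ^ 11 + (1) * q ^ 13 + (-3) * q ^ 15 + (-2) * q ^ 16 + (1) * q ^ 19 + (2) * q ^ 20 + (1) * q ^ 21) (by simp only [g2]; ring) h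
  replace h := peel 1 (57) ((-17) + (18) * q + (-28) * q ^ 2 + (35) * q ^ 3 + (-27) * q ^ 4 + (4) * q ^ 5) ((23) + (19) * q + (-21) * q ^ 2 + (1) * q ^ 3 + (-10) * q ^ 4 + (1) * q ^ 5 + (-12) * q ^ 6 + (25) * q ^ 7 + (-5) * q ^ 8 + (12) * q ^ 9 + (-2) * q ^ 10 + (1) * q ^ 11 + (-12) * q ^ 12 + (25) * q ^ 13 + (-5) * q ^ 14 + (-11) * q ^ 15 + (-4) * q ^ 16 + (21) * q ^ 17 + (-3) * q ^ 18 + (11) * q ^ 19 + (-13) * q ^ 20 + (-3) * q ^ 21 + (-8) * q ^ 22 + (23) * q ^ 23 + (-4) * q ^ 24) (by simp only [g2]; ring) h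
  replace h := peel 2 (2) ((1) * q + (-1) * q ^ 2 + (1) * q ^ 3) ((2) + (2) * q + (-1) * q ^ 2 + (-3) * q ^ 5 + (-1) * q ^ 6 + (1) * q ^ 7 + (-1) * q ^ 8 + (1) * q ^ 9 + (2) * q ^ 10 + (-1) * q ^ 12 + (-1) * q ^ 14 + (-2) * q ^ 15 + (1) * q ^ 17 + (-1) * q ^ 18 + (1) * q ^ 19 + (1) * q ^ 20 + (-1) * q ^ 21 + (-1) * q ^ 24) (by simp only [g2]; ring) h
  replace h := peel 1 (127) ((-58) + (40) * q + (-38) * q ^ 2 + (50) * q ^ 3 + (-33) * q ^ 4 + (-11) * q ^ 5) ((11) + (11) * q + (-11) * q ^ 5 + (-11) * q ^ 6 + (58) * q ^ 7 + (-40) * q ^ 8 + (-20) * q ^ 9 + (1) * q ^ 10 + (64) * q ^ 11 + (-37) * q ^ 12 + (45) * q ^ 13 + (17) * q ^ 14 + (-66) * q ^ 15 + (-33) * q ^ 16 + (47) * q ^ 17 + (18) * q ^ 18 + (9) * q ^ 19 + (10) * q ^ 20 + (5) * q ^ 21 + (-61) * q ^ 22 + (33) * q ^ 23 + (11) * q ^ 24) (by simp only [g2]; ring) h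
  replace h := peel 4 (2) ((1) + (-1) * q) ((4) + (3) * q + (-3) * q ^ 2 + (-5) * q ^ 3 + (-2) * q ^ 4 + (1) * q ^ 5 + (4) * q ^ 6 + (4) * q ^ 7 + (-1) * q ^ 8 + (-4) * q ^ 9 + (-1) * q ^ 10 + (1) * q ^ 11 + (1) * q ^ 12 + (1) * q ^ 13 + (-1) * q ^ 14 + (-3) * q ^ 15 + (3) * q ^ 17 + (2) * q ^ 18 + (-1) * q ^ 20 + (-2) * q ^ 21 + (-1) * q ^ 22 + (1) * q ^ 23 + (1) * q ^ 24) (by simp only [g2]; ring) h
  replace h := peel 2 (2) ((1) * q + (1) * q ^ 3) ((2) + (-1) * q ^ 2 + (-1) * q ^ 6 + (-1) * q ^ 8 + (2) * q ^ 10 + (-1) * q ^ 12 + (-1) * q ^ 14 + (-1) * q ^ 18 + (1) * q ^ 20 + (-1) * q ^ 24) (by simp only [g2]; ring) h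
  replace h := peel 4 (2) ((-1)) ((-1) * q + (1) * q ^ 2 + (1) * q ^ 3 + (-1) * q ^ 4 + (1) * q ^ 5 + (2) * q ^ 6 + (-1) * q ^ 7 + (-1) * q ^ 8 + (1) * q ^ 9 + (-1) * q ^ 10 + (-1) * q ^ 11 + (2) * q ^ 12 + (1) * q ^ 13 + (-1) * q ^ 14 + (1) * q ^ 15 + (1) * q ^ 16 + (-1) * q ^ 17 + (1) * q ^ 19 + (-1) * q ^ 20 + (-1) * q ^ 21 + (1) * q ^ 22 + (1) * q ^ 23) (by simp only [g2]; ring) h
  replace h := peel 4 (6) ((1) + (1) * q) ((8) + (-5) * q + (-3) * q ^ 2 + (7) * q ^ 3 + (-4) * q ^ 4 + (-5) * q ^ 5 + (6) * q ^ 6 + (-2) * q ^ 7 + (-5) * q ^ 8 + (6) * q ^ 9 + (1) * q ^ 10 + (-5) * q ^ 11 + (3) * q ^ 12 + (1) * q ^ 13 + (-5) * q ^ 14 + (1) * q ^ 15 + (2) * q ^ 16 + (-3) * q ^ 17 + (2) * q ^ 19 + (-1) * q ^ 20 + (1) * q ^ 22 + (-1) * q ^ 23 + (-1) * q ^ 24) (by simp only [g2]; ring) h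
  replace h := peel 8 (2) ((-1)) ((-1) * q + (2) * q ^ 2 + (-2) * q ^ 3 + (2) * q ^ 4 + (1) * q ^ 6 + (-1) * q ^ 7 + (2) * q ^ 8 + (-2) * q ^ 9 + (1) * q ^ 12 + (-1) * q ^ 13 + (2) * q ^ 14 + (1) * q ^ 18 + (-1) * q ^ 19 + (1) * q ^ 24) (by simp only [g2]; ring) h
  replace h := peel 8 (6) ((1)) ((-8) + (-9) * q + (-8) * q ^ 2 + (-8) * q ^ 3 + (-8) * q ^ 4 + (-6) * q ^ 5 + (-5) * q ^ 6 + (-5) * q ^ 7 + (-4) * q ^ 8 + (-4) * q ^ 9 + (-6) * q ^ 10 + (-6) * q ^ 11 + (-5) * q ^ 12 + (-5) * q ^ 13 + (-4) * q ^ 14 + (-2) * q ^ 15 + (-2) * q ^ 16 + (-2) * q ^ 17 + (-1) * q ^ 18 + (-1) * q ^ 19 + (-2) * q ^ 20 + (-2) * q ^ 21 + (-2) * q ^ 22 + (-2) * q ^ 23 + (-1) * q ^ 24) (by simp only [g2]; ring) h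
  replace h := peel' 120 (2) ((-1)) ((-1) + (1) * q + (2) * q ^ 4 + (1) * q ^ 5 + (1) * q ^ 7 + (-2) * q ^ 9 + (1) * q ^ 11 + (1) * q ^ 13 + (2) * q ^ 14 + (1) * q ^ 17 + (-1) * q ^ 19 + (1) * q ^ 23 + (1) * q ^ 24) (by simp only [g2]; ring) h
  norm_num at h ⊢
  exact h

theorem large2 (p : ℕ) : (829027391673773143392944934157633684463371772271067262802198528 : ℤ) < g2 (329 + (p : ℤ)) := by
  have e : g2 (329 + (p : ℤ)) = (853523515061424412549323473035317435545385144208614933908394598 : ℤ) + (64849548454840692692422370867341499278743813339212675097994220 * (p : ℤ) ^ 1 + 2365046332544900529279418370849077506147155243409957322139520 * (p : ℤ) ^ 2 + 55105846592937239522581655991919463992395145997213730430950 * (p : ℤ) ^ 3 + 921110655520513653289564253440523086738531559410081725312 * (p : ℤ) ^ 4 + 11757433424484568992869008503783830381222300905639125698 * (p : ℤ) ^ 5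 + 119108484465980875869821877446344301918699391432837126 * (p : ℤ) ^ 6 + 982538729813674926652686304667550785565008018065490 * (p : ℤ) ^ 7 + 6718674618283434704541487741161670008515086249153 * (p : ℤ) ^ 8 + 38569270696096192877897353123322508665001447719 * (p : ℤ) ^ 9 + 187548160619297901715152280409256208569659337 * (p : ℤ) ^ 10 + 777253660901607623729998276852597759775266 * (p : ℤ) ^ 11 + 2755884122525484620455482093107576537092 * (p : ℤ) ^ 12 + 8375530666782694913318115778681137044 * (p : ℤ) ^ 13 + 21818099475515824468257819821552827 * (p : ℤ) ^ 14 + 48626130492655197092987116452266 * (p : ℤ) ^ 15 + 92363650608300238914794894434 * (p : ℤ) ^ 16 + 148609315096523963955846573 * (p : ℤ) ^ 17 + 200731191693823089801027 * (p : ℤ) ^ 18 + 224755663424717075616 * (p : ℤ) ^ 19 + 204919474857866075 * (p : ℤ) ^ 20 + 148280920373586 * (p : ℤ) ^ 21 + 81935839216 * (p : ℤ) ^ 22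 + 32480196 * (p : ℤ) ^ 23 + 8226 * (p : ℤ) ^ 24 + 1 * (p : ℤ) ^ 25) := by
    simp only [g2]; ring
  rw [e]
  exact lt_of_lt_of_le (by norm_num) (le_add_of_nonneg_right (by positivity))

theorem range2 : ((List.range 3).all fun a => (List.range 128).all fun b => decide (128 * a + b < 2) || decide (ord8 (128 * a + b) % (t8 (128 * a + b) - 2) ≠ 0)) = true := by decide +kernel

/-- the cofactor -/
def g3 (q : ℤ) : ℤ := (-3) + (1) * q + (1) * q ^ 7 + (1) * q ^ 11 + (1) * q ^ 13 + (1) * q ^ 17 + (1) * q ^ 19 + (1) * q ^ 23 + (1) * q ^ 29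

theorem small3 {q : ℤ} (h : g3 q ∣ pr q) : g3 q ∣ 2823716562013219754707308503058889890738664315223566208152590375407094735983843484129140625000 := by
  rw [pr] at h
  replace h := dvd_mul_of_dvd_left h 1
  replace h := peel 1 (4) ((-1)) ((1) + (1) * q ^ 3 + (1) * q ^ 5 + (1) * q ^ 7 + (1) * q ^ 9 + (1) * q ^ 11 + (1) * q ^ 13 + (1) * q ^ 16 + (1) * q ^ 19 + (-1) * q ^ 20 + (1) * q ^ 21) (by simp only [g3]; ring) h
  replace h := peel 1 (3) ((-1)) ((1) * q + (1) * q ^ 5 + (1) * q ^ 7 + (2) * q ^ 11 + (1) * q ^ 15 + (1) * q ^ 17 + (1) * q ^ 21) (by simp only [g3]; ring) h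
  replace h := peel 1 (3) ((-1)) ((1) * q + (1) * q ^ 3 + (1) * q ^ 7 + (1) * q ^ 9 + (1) * q ^ 13 + (1) * q ^ 15 + (1) * q ^ 19 + (1) * q ^ 21) (by simp only [g3]; ring) h
  replace h := peel 1 (991) ((-324) + (-114) * q + (70) * q ^ 2 + (55) * q ^ 3 + (1) * q ^ 4 + (-18) * q ^ 5) ((19) + (-18) * q + (324) * q ^ 2 + (114) * q ^ 3 + (-70) * q ^ 4 + (269) * q ^ 5 + (113) * q ^ 6 + (272) * q ^ 7 + (59) * q ^ 8 + (-71) * q ^ 9 + (287) * q ^ 10 + (113) * q ^ 11 + (-52) * q ^ 12 + (269) * q ^ 13 + (113) * q ^ 14 + (-52) * q ^ 15 + (-55) * q ^ 16 + (323) * q ^ 17 + (132) * q ^ 18 + (-70) * q ^ 19 + (269) * q ^ 20 + (113) * q ^ 21 + (-52) * q ^ 22 + (269) * q ^ 23 + (113) * q ^ 24 + (-52) * q ^ 25 + (-55) * q ^ 26 + (-1) * q ^ 27 + (18) * q ^ 28) (by simp only [g3]; ring) h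
  replace h := peel 1 (2) ((-1)) ((-1) + (1) * q ^ 3 + (1) * q ^ 5 + (1) * q ^ 7 + (1) * q ^ 9 + (1) * q ^ 11 + (1) * q ^ 13 + (-1) * q ^ 16 + (1) * q ^ 19 + (1) * q ^ 20 + (1) * q ^ 21) (by simp only [g3]; ring) h
  replace h := peel 1 (547) ((-182) + (-61) * q + (-20) * q ^ 2 + (-7) * q ^ 3 + (-2) * q ^ 4 + (-1) * q ^ 5) ((1) + (182) * q ^ 7 + (243) * q ^ 8 + (81) * q ^ 9 + (27) * q ^ 10 + (191) * q ^ 11 + (246) * q ^ 12 + (264) * q ^ 13 + (88) * q ^ 14 + (-153) * q ^ 15 + (-51) * q ^ 16 + (165) * q ^ 17 + (55) * q ^ 18 + (18) * q ^ 19 + (6) * q ^ 20 + (2) * q ^ 21 + (183) * q ^ 22 + (243) * q ^ 23 + (81) * q ^ 24 + (27) * q ^ 25 + (9) * q ^ 26 + (3) * q ^ 27 + (1) * q ^ 28) (by simp only [g3]; ring) h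
  replace h := peel 2 (3) ((-1)) ((1) * q + (1) * q ^ 3 + (1) * q ^ 11 + (2) * q ^ 13 + (1) * q ^ 15 + (1) * q ^ 23 + (1) * q ^ 25) (by simp only [g3]; ring) h
  replace h := peel 2 (1) ((-1)) ((-2) + (-1) * q + (1) * q ^ 2 + (2) * q ^ 5 + (1) * q ^ 6 + (1) * q ^ 8 + (-2) * q ^ 10 + (1) * q ^ 12 + (1) * q ^ 14 + (2) * q ^ 15 + (1) * q ^ 18 + (-1) * q ^ 20 + (1) * q ^ 24 + (1) * q ^ 25) (by simp only [g3]; ring) h
  replace h := peel 1 (1117) ((-342) + (-102) * q + (-148) * q ^ 2 + (-53) * q ^ 3 + (-55) * q ^ 4 + (-36) * q ^ 5) ((91) + (36) * q + (-342) * q ^ 2 + (-102) * q ^ 3 + (-148) * q ^ 4 + (289) * q ^ 5 + (47) * q ^ 6 + (454) * q ^ 7 + (155) * q ^ 8 + (203) * q ^ 9 + (-253) * q ^ 10 + (-47) * q ^ 11 + (-112) * q ^ 12 + (289) * q ^ 13 + (47) * q ^ 14 + (112) * q ^ 15 + (53) * q ^ 16 + (397) * q ^ 17 + (138) * q ^ 18 + (148) * q ^ 19 + (-289) * q ^ 20 + (-47) *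 q ^ 21 + (-112) * q ^ 22 + (289) * q ^ 23 + (47) * q ^ 24 + (112) * q ^ 25 + (53) * q ^ 26 + (55) * q ^ 27 + (36) * q ^ 28) (by simp only [g3]; ring) h
  replace h := peel 2 (3) ((-1)) ((1) * q + (-1) * q ^ 5 + (1) * q ^ 7 + (1) * q ^ 9 + (1) * q ^ 17 + (1) * q ^ 19 + (-1) * q ^ 21 + (1) * q ^ 25) (by simp only [g3]; ring) h
  replace h := peel 1 (1093) ((-364) + (-121) * q + (-40) * q ^ 2 + (-13) * q ^ 3 + (-4) * q ^ 4 + (-1) * q ^ 5) ((1) + (364) * q ^ 7 + (-243) * q ^ 8 + (-81) * q ^ 9 + (-27) * q ^ 10 + (355) * q ^ 11 + (-246) * q ^ 12 + (282) * q ^ 13 + (94) * q ^ 14 + (-333) * q ^ 15 + (-111) * q ^ 16 + (327) * q ^ 17 + (109) * q ^ 18 + (36) * q ^ 19 + (12) * q ^ 20 + (4) * q ^ 21 + (-363) * q ^ 22 + (243) * q ^ 23 + (81) * q ^ 24 + (27) * q ^ 25 + (9) * q ^ 26 + (3) * q ^ 27 + (1) * q ^ 28) (by simp only [g3]; ring) h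
  replace h := peel 4 (1) ((1)) ((4) + (3) * q + (-1) * q ^ 2 + (-4) * q ^ 3 + (-3) * q ^ 4 + (1) * q ^ 5 + (4) * q ^ 6 + (2) * q ^ 7 + (-2) * q ^ 8 + (-4) * q ^ 9 + (-2) * q ^ 10 + (1) * q ^ 11 + (3) * q ^ 12 + (1) * q ^ 13 + (-2) * q ^ 14 + (-3) * q ^ 15 + (-1) * q ^ 16 + (1) * q ^ 17 + (2) * q ^ 18 + (-2) * q ^ 20 + (-2) * q ^ 21 + (1) * q ^ 23 + (1) * q ^ 24 + (-1) * q ^ 26 + (-1) * q ^ 27) (by simp only [g3]; ring) h
  replace h := peel 2 (5) ((-1)) ((2) + (-1) * q + (-1) * q ^ 2 + (2) * q ^ 5 + (-1) * q ^ 6 + (-1) * q ^ 8 + (2) * q ^ 10 + (-1) * q ^ 12 + (-1) * q ^ 14 + (2) * q ^ 15 + (-1) * q ^ 18 + (1) * q ^ 20 + (-1) * q ^ 24 + (1) * q ^ 25) (by simp only [g3]; ring) h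
  replace h := peel 4 (3) ((-1)) ((1) * q + (-1) * q ^ 3 + (1) * q ^ 5 + (1) * q ^ 11 + (1) * q ^ 17 + (1) * q ^ 23 + (-1) * q ^ 25 + (1) * q ^ 27) (by simp only [g3]; ring) h
  replace h := peel 4 (7) ((-1)) ((4) + (-3) * q + (-1) * q ^ 2 + (4) * q ^ 3 + (-3) * q ^ 4 + (-1) * q ^ 5 + (4) * q ^ 6 + (-2) * q ^ 7 + (-2) * q ^ 8 + (4) * q ^ 9 + (-2) * q ^ 10 + (-1) * q ^ 11 + (3) * q ^ 12 + (-1) * q ^ 13 + (-2) * q ^ 14 + (3) * q ^ 15 + (-1) * q ^ 16 + (-1) * q ^ 17 + (2) * q ^ 18 + (-2) * q ^ 20 + (2) * q ^ 21 + (-1) * q ^ 23 + (1) * q ^ 24 + (-1) * q ^ 26 + (1) * q ^ 27) (by simp only [g3]; ring) h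
  replace h := peel 8 (11) ((-1)) ((8) + (-7) * q + (7) * q ^ 2 + (-7) * q ^ 3 + (7) * q ^ 4 + (-7) * q ^ 5 + (7) * q ^ 6 + (-6) * q ^ 7 + (6) * q ^ 8 + (-6) * q ^ 9 + (6) * q ^ 10 + (-5) * q ^ 11 + (5) * q ^ 12 + (-4) * q ^ 13 + (4) * q ^ 14 + (-4) * q ^ 15 + (4) * q ^ 16 + (-3) * q ^ 17 + (3) * q ^ 18 + (-2) * q ^ 19 + (2) * q ^ 20 + (-2) * q ^ 21 + (2) * q ^ 22 + (-1) * q ^ 23 + (1) * q ^ 24 + (-1) * q ^ 25 + (1) * q ^ 26 + (-1) * q ^ 27 + (1) * q ^ 28) (by simp only [g3]; ring) h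
  replace h := peel 8 (5) ((1)) ((-8) + (-7) * q + (-7) * q ^ 2 + (-7) * q ^ 3 + (-7) * q ^ 4 + (-7) * q ^ 5 + (-7) * q ^ 6 + (-6) * q ^ 7 + (-6) * q ^ 8 + (-6) * q ^ 9 + (-6) * q ^ 10 + (-5) * q ^ 11 + (-5) * q ^ 12 + (-4) * q ^ 13 + (-4) * q ^ 14 + (-4) * q ^ 15 + (-4) * q ^ 16 + (-3) * q ^ 17 + (-3) * q ^ 18 + (-2) * q ^ 19 + (-2) * q ^ 20 + (-2) * q ^ 21 + (-2) * q ^ 22 + (-1) * q ^ 23 + (-1) * q ^ 24 + (-1) * q ^ 25 + (-1) * q ^ 26 + (-1) * q ^ 27 + (-1) * q ^ 28) (by simp only [g3]; ring) h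
  replace h := peel' 120 (3) ((-1)) ((1) + (1) * q ^ 6 + (1) * q ^ 10 + (1) * q ^ 12 + (1) * q ^ 16 + (1) * q ^ 18 + (1) * q ^ 22 + (1) * q ^ 28) (by simp only [g3]; ring) h
  norm_num at h ⊢
  exact h

theorem large3 (p : ℕ) : (2823716562013219754707308503058889890738664315223566208152590375407094735983843484129140625000 : ℤ) < g3 (1669 + (p : ℤ)) := by
  have e : g3 (1669 + (p : ℤ)) = (2826400906381883955309021404991571889449596327960119130133912630114622871264864997386316092389 : ℤ) + (49110620901782285622035364356515414027868555582658724412846161010579948933727511703607427320 * (p : ℤ) ^ 1 + 411952482100031155604007756701945811002721958939225951785027237564288618870389012855111680 * (p : ℤ) ^ 2 + 2221433396584949311211693219550757960554930781032198449717472232031388162619004838105000 * (p : ℤ) ^ 3 + 8651478177233175867466318741947525311272817185494146761131280187383198102790460066558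 * (p : ℤ) ^ 4 + 25918149122927429201409536576105882352368812278785794162888463269768646652905972790 * (p : ℤ) ^ 5 + 62116594662498332417794113464180466194460593349713418860486179138789949589446540 * (p : ℤ) ^ 6 + 122287227359193841102935908050775393575739892560891990713774760366473542590940 * (p : ℤ) ^ 7 + 201491836571469780127266169389965577124050251526003002733425091669501476287 * (p : ℤ) ^ 8 + 281694199321008280584927767955476556288663638122907671131228236528853853 * (p : ℤ) ^ 9 + 337560454548841558519603039979033592525462321065627382584023892580851 * (p : ℤ) ^ 10 + 349346295355302010559785692595491525484251349978002689769664952125 * (p : ℤ) ^ 11 + 313972104872949679951685268399060747996125947698703623854685938 * (p : ℤ) ^ 12 + 246002939707800366833035848049282375468812491683582101992454 * (p : ℤ) ^ 13 + 168451897428948295357674498384445998790277805936264832042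 * (p : ℤ) ^ 14 + 100929836686008565223272409713260888905644534684280926 * (p : ℤ) ^ 15 + 52914084541795982366897716164780894981972238526402 * (p : ℤ) ^ 16 + 24244285026022901024552118118409211053184224974 * (p : ℤ) ^ 17 + 9684156191740723397064520542026539688441222 * (p : ℤ) ^ 18 + 3359267071651728339305197293155710472466 * (p : ℤ) ^ 19 + 1006371201812980329330484142519086384 * (p : ℤ) ^ 20 + 258419379049810920824397497255878 * (p : ℤ) ^ 21 + 56303584955566407936030713807 * (p : ℤ) ^ 22 + 10267150198998745813744621 * (p : ℤ) ^ 23 + 1537919442630129690495 * (p : ℤ) ^ 24 + 184292323862208471 * (p : ℤ) ^ 25 + 16987816183086 * (p : ℤ) ^ 26 + 1130937766 * (p : ℤ) ^ 27 + 48401 * (p : ℤ) ^ 28 + 1 * (p : ℤ) ^ 29) := by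
    simp only [g3]; ring
  rw [e]
  exact lt_of_lt_of_le (by norm_num) (le_add_of_nonneg_right (by positivity))

theorem range3 : ((List.range 14).all fun a => (List.range 128).all fun b => decide (128 * a + b < 2) || decide (ord8 (128 * a + b) % (t8 (128 * a + b) - 3) ≠ 0)) = true := by decide +kernel

/-- the cofactor -/
def g4 (q : ℤ) : ℤ := (-4) + (-3) * q + (1) * q ^ 2 + (4) * q ^ 3 + (3) * q ^ 4 + (-1) * q ^ 5 + (-4) * q ^ 6 + (-2) * q ^ 7 + (2) * q ^ 8 + (4) * q ^ 9 + (2) * q ^ 10 + (-1) * q ^ 11 + (-3) * q ^ 12 + (-1) * q ^ 13 + (2) * q ^ 14 + (3) * q ^ 15 + (1) * q ^ 16 + (-1) * q ^ 17 + (-2) * q ^ 18 + (2) * q ^ 20 + (2) * q ^ 21 + (-1) * q ^ 23 + (-1) * q ^ 24 + (1) * q ^ 26 + (1) * q ^ 27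

theorem small4 {q : ℤ} (h : g4 q ∣ pr q) : g4 q ∣ 561514777944379828313226462465846242120537608941219654393512851693781162822031920385478618131582174563716300800000 := by
  rw [pr] at h
  replace h := dvd_mul_of_dvd_left h 1
  replace h := peel 1 (5) ((-1) + (1) * q + (-1) * q ^ 2) ((1) + (1) * q ^ 3 + (1) * q ^ 5 + (1) * q ^ 7 + (1) * q ^ 9 + (1) * q ^ 11 + (1) * q ^ 13 + (1) * q ^ 16 + (1) * q ^ 19 + (-1) * q ^ 20 + (1) * q ^ 21) (by simp only [g4]; ring) h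
  replace h := peel 1 (4) ((-1) + (1) * q + (-1) * q ^ 2) ((1) * q + (1) * q ^ 5 + (1) * q ^ 7 + (2) * q ^ 11 + (1) * q ^ 15 + (1) * q ^ 17 + (1) * q ^ 21) (by simp only [g4]; ring) h
  replace h := peel 1 (4) ((-1) + (1) * q + (-1) * q ^ 2) ((1) * q + (1) * q ^ 3 + (1) * q ^ 7 + (1) * q ^ 9 + (1) * q ^ 13 + (1) * q ^ 15 + (1) * q ^ 19 + (1) * q ^ 21) (by simp only [g4]; ring) h
  replace h := peel 1 (541) ((-137) + (104) * q + (-75) * q ^ 2 + (-43) * q ^ 3 + (5) * q ^ 4 + (12) * q ^ 5) ((-7) + (5) * q + (149) * q ^ 2 + (40) * q ^ 3 + (-34) * q ^ 4 + (106) * q ^ 5 + (31) * q ^ 6 + (125) * q ^ 7 + (33) * q ^ 8 + (-22) * q ^ 9 + (113) * q ^ 10 + (26) * q ^ 11 + (-24) * q ^ 12 + (130) * q ^ 13 + (45) * q ^ 14 + (-22) * q ^ 15 + (-24) * q ^ 16 + (130) * q ^ 17 + (38) * q ^ 18 + (-17) * q ^ 19 + (125) * q ^ 20 + (33) * q ^ 21 + (-29) * q ^ 22 + (118) * q ^ 23 + (38) * q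 ^ 24 + (-17) * q ^ 25 + (-12) * q ^ 26) (by simp only [g4]; ring) h
  replace h := peel 1 (3) ((-1) + (1) * q + (-1) * q ^ 2) ((-1) + (1) * q ^ 3 + (1) * q ^ 5 + (1) * q ^ 7 + (1) * q ^ 9 + (1) * q ^ 11 + (1) * q ^ 13 + (-1) * q ^ 16 + (1) * q ^ 19 + (1) * q ^ 20 + (1) * q ^ 21) (by simp only [g4]; ring) h
  replace h := peel 1 (3277) ((-816) + (612) * q + (-663) * q ^ 2 + (-169) * q ^ 3 + (-39) * q ^ 4 + (-13) * q ^ 5) ((13) + (13) * q + (-13) * q ^ 3 + (-13) * q ^ 4 + (13) * q ^ 6 + (829) * q ^ 7 + (1020) * q ^ 8 + (242) * q ^ 9 + (54) * q ^ 10 + (836) * q ^ 11 + (1038) * q ^ 12 + (1082) * q ^ 13 + (264) * q ^ 14 + (-763) * q ^ 15 + (-194) * q ^ 16 + (774) * q ^ 17 + (200) * q ^ 18 + (50) * q ^ 19 + (6) * q ^ 20 + (-5) * q ^ 21 + (818) * q ^ 22 + (1027) * q ^ 23 + (260) * q ^ 24 + (65) * q ^ 25 + (13) * q ^ 26) (by simp only [g4]; ring) h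
  replace h := peel 2 (4) ((-1) + (1) * q + (-1) * q ^ 2) ((1) * q + (1) * q ^ 3 + (1) * q ^ 11 + (2) * q ^ 13 + (1) * q ^ 15 + (1) * q ^ 23 + (1) * q ^ 25) (by simp only [g4]; ring) h
  replace h := peel 2 (2) ((-1) + (1) * q + (-1) * q ^ 2) ((-2) + (-1) * q + (1) * q ^ 2 + (2) * q ^ 5 + (1) * q ^ 6 + (1) * q ^ 8 + (-2) * q ^ 10 + (1) * q ^ 12 + (1) * q ^ 14 + (2) * q ^ 15 + (1) * q ^ 18 + (-1) * q ^ 20 + (1) * q ^ 24 + (1) * q ^ 25) (by simp only [g4]; ring) h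
  replace h := peel 1 (5149) ((-1191) + (1008) * q + (-1333) * q ^ 2 + (15) * q ^ 3 + (-311) * q ^ 4 + (-74) * q ^ 5) ((385) + (459) * q + (-1117) * q ^ 2 + (-568) * q ^ 3 + (-784) * q ^ 4 + (990) * q ^ 5 + (455) * q ^ 6 + (1915) * q ^ 7 + (437) * q ^ 8 + (166) * q ^ 9 + (-1403) * q ^ 10 + (-250) * q ^ 11 + (-106) * q ^ 12 + (1350) * q ^ 13 + (137) * q ^ 14 + (46) * q ^ 15 + (-106) * q ^ 16 + (1350) * q ^ 17 + (522) * q ^ 18 + (505) * q ^ 19 + (-1223) * q ^ 20 + (-409) * q ^ 21 + (-445) * q ^ 22 + (1170) * q ^ 23 + (296) * q ^ 24 + (385) * q ^ 25 + (74) * q ^ 26) (by simp only [g4]; ring) h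
  replace h := peel 2 (4) ((-1) + (1) * q + (-1) * q ^ 2) ((1) * q + (-1) * q ^ 5 + (1) * q ^ 7 + (1) * q ^ 9 + (1) * q ^ 17 + (1) * q ^ 19 + (-1) * q ^ 21 + (1) * q ^ 25) (by simp only [g4]; ring) h
  replace h := peel 1 (5461) ((-1362) + (1028) * q + (-1105) * q ^ 2 + (-273) * q ^ 3 + (-65) * q ^ 4 + (-13) * q ^ 5) ((13) + (13) * q + (-13) * q ^ 3 + (-13) * q ^ 4 + (13) * q ^ 6 + (1375) * q ^ 7 + (-1028) * q ^ 8 + (-270) * q ^ 9 + (-74) * q ^ 10 + (1350) * q ^ 11 + (-1018) * q ^ 12 + (1114) * q ^ 13 + (272) * q ^ 14 + (-1307) * q ^ 15 + (-330) * q ^ 16 + (1286) * q ^ 17 + (328) * q ^ 18 + (82) * q ^ 19 + (14) * q ^ 20 + (-3) * q ^ 21 + (-1366) * q ^ 22 + (1027) * q ^ 23 + (260) * q ^ 24 + (65) * q ^ 25 + (13) * q ^ 26) (by simp only [g4]; ring) h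
  replace h := peel 4 (40) ((-1)) ((36) + (33) * q + (-2) * q ^ 2 + (-31) * q ^ 3 + (-26) * q ^ 4 + (4) * q ^ 5 + (26) * q ^ 6 + (20) * q ^ 7 + (-4) * q ^ 8 + (-20) * q ^ 9 + (-14) * q ^ 10 + (5) * q ^ 11 + (16) * q ^ 12 + (10) * q ^ 13 + (-4) * q ^ 14 + (-11) * q ^ 15 + (-6) * q ^ 16 + (4) * q ^ 17 + (8) * q ^ 18 + (4) * q ^ 19 + (-2) * q ^ 20 + (-4) * q ^ 21 + (-2) * q ^ 22 + (1) * q ^ 23 + (2) * q ^ 24 + (1) * q ^ 25) (by simp only [g4]; ring) h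
  replace h := peel 2 (6) ((-1) + (1) * q + (-1) * q ^ 2) ((2) + (-1) * q + (-1) * q ^ 2 + (2) * q ^ 5 + (-1) * q ^ 6 + (-1) * q ^ 8 + (2) * q ^ 10 + (-1) * q ^ 12 + (-1) * q ^ 14 + (2) * q ^ 15 + (-1) * q ^ 18 + (1) * q ^ 20 + (-1) * q ^ 24 + (1) * q ^ 25) (by simp only [g4]; ring) h
  replace h := peel 4 (4) ((1) * q) ((4) + (4) * q + (-1) * q ^ 2 + (-5) * q ^ 3 + (-3) * q ^ 4 + (2) * q ^ 5 + (4) * q ^ 6 + (2) * q ^ 7 + (-2) * q ^ 8 + (-4) * q ^ 9 + (-2) * q ^ 10 + (2) * q ^ 11 + (3) * q ^ 12 + (1) * q ^ 13 + (-2) * q ^ 14 + (-3) * q ^ 15 + (-1) * q ^ 16 + (2) * q ^ 17 + (2) * q ^ 18 + (-2) * q ^ 20 + (-2) * q ^ 21 + (2) * q ^ 23 + (1) * q ^ 24 + (-1) * q ^ 25 + (-1) * q ^ 26) (by simp only [g4]; ring) h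
  replace h := peel 4 (4) ((1) * q) ((4) + (-1) * q ^ 2 + (-3) * q ^ 4 + (4) * q ^ 6 + (-2) * q ^ 8 + (-2) * q ^ 10 + (3) * q ^ 12 + (-2) * q ^ 14 + (-1) * q ^ 16 + (2) * q ^ 18 + (-2) * q ^ 20 + (1) * q ^ 24 + (-1) * q ^ 26) (by simp only [g4]; ring) h
  replace h := peel 8 (4) ((-1)) ((-3) * q + (4) * q ^ 2 + (3) * q ^ 4 + (-4) * q ^ 5 + (-2) * q ^ 7 + (4) * q ^ 8 + (2) * q ^ 10 + (-3) * q ^ 11 + (-1) * q ^ 13 + (3) * q ^ 14 + (1) * q ^ 16 + (-2) * q ^ 17 + (2) * q ^ 20 + (-1) * q ^ 23 + (1) * q ^ 26) (by simp only [g4]; ring) h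
  replace h := peel 8 (4) ((1)) ((-8) + (-11) * q + (-10) * q ^ 2 + (-6) * q ^ 3 + (-3) * q ^ 4 + (-4) * q ^ 5 + (-8) * q ^ 6 + (-10) * q ^ 7 + (-8) * q ^ 8 + (-4) * q ^ 9 + (-2) * q ^ 10 + (-3) * q ^ 11 + (-6) * q ^ 12 + (-7) * q ^ 13 + (-5) * q ^ 14 + (-2) * q ^ 15 + (-1) * q ^ 16 + (-2) * q ^ 17 + (-4) * q ^ 18 + (-4) * q ^ 19 + (-2) * q ^ 20 + (-1) * q ^ 23 + (-2) * q ^ 24 + (-2) * q ^ 25 + (-1) * q ^ 26) (by simp only [g4]; ring) h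
  replace h := peel' 120 (4) ((-1)) ((-3) + (1) * q + (4) * q ^ 2 + (3) * q ^ 3 + (-1) * q ^ 4 + (-4) * q ^ 5 + (-2) * q ^ 6 + (2) * q ^ 7 + (4) * q ^ 8 + (2) * q ^ 9 + (-1) * q ^ 10 + (-3) * q ^ 11 + (-1) * q ^ 12 + (2) * q ^ 13 + (3) * q ^ 14 + (1) * q ^ 15 + (-1) * q ^ 16 + (-2) * q ^ 17 + (2) * q ^ 19 + (2) * q ^ 20 + (-1) * q ^ 22 + (-1) * q ^ 23 + (1) * q ^ 25 + (1) * q ^ 26) (by simp only [g4]; ring) h
  norm_num at h ⊢
  exact h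

theorem large4 (p : ℕ) : (561514777944379828313226462465846242120537608941219654393512851693781162822031920385478618131582174563716300800000 : ℤ) < g4 (16329 + (p : ℤ)) := by
  have e : g4 (16329 + (p : ℤ)) = (562257813893218743719253458892819754447781565298611708771089237873303049447872981125446214130325378902152757901476 : ℤ) + (929691135044569454493244991169719030378687699651822055177961568672653515281788513108011752114692672664138738676 * (p : ℤ) ^ 1 + 740152939191758159001931618563883129815867007983936836685798446201465812853521427274981847672709379886823944 * (p : ℤ) ^ 2 + 377728407786878587094609418611686179211158269883223958874740937476839212164545116488191904181993144926572 * (p : ℤ) ^ 3 + 138793882446892545989479705475549950448814630762738793605628946115991691956187869691996153275545560370 * (p : ℤ) ^ 4 + 39099173936580399486577040147976185896389086129440498187941611210490123651421737288818355246984856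 * (p : ℤ) ^ 5 + 8779674971511087199876830901032152458827752621784927743793020376528932063885198519800095563906 * (p : ℤ) ^ 6 + 1613017648101490402793323200567649183281753729060842989940932386217751443582378809760795954 * (p : ℤ) ^ 7 + 246955415160210467010631561157400119064286096256259314180229660679658630762838887401271 * (p : ℤ) ^ 8 + 31927805648278536054424661983068508035478287785080544375181977200122478369449030604 * (p : ℤ) ^ 9 + 3519500264564049818909935794726907429680978023353310187324326452582398252617804 * (p : ℤ) ^ 10 + 333101558267621628032022196553243479356073057029131388699559771167480855581 * (p : ℤ) ^ 11 + 27199118358933033601857581903937257924024611332075303299674210811485449 * (p : ℤ) ^ 12 + 1921950329192002443967404311090989529857457006370228450920250909920 * (p : ℤ) ^ 13 + 117701388328119999113152143885542793929978150592773765757945281 * (p : ℤ)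 ^ 14 + 6247022997087782173946284935010917420093120088270454217093 * (p : ℤ) ^ 15 + 286928570095959037956169270909614292009299942444475300 * (p : ℤ) ^ 16 + 11369908867970093928231469526016731070106185554957 * (p : ℤ) ^ 17 + 386833346248556044113398041623519375948549301 * (p : ℤ) ^ 18 + 11221534240808540794451436749065386026304 * (p : ℤ) ^ 19 + 274885388912042145274969826272308395 * (p : ℤ) ^ 20 + 5611381906090370198206637872523 * (p : ℤ) ^ 21 + 93721196176320940489886637 * (p : ℤ) ^ 22 + 1247726552154672681053 * (p : ℤ) ^ 23 + 12735253456198649 * (p : ℤ) ^ 24 + 93589745145 * (p : ℤ) ^ 25 + 440884 * (p : ℤ) ^ 26 + 1 * (p : ℤ) ^ 27) := by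
    simp only [g4]; ring
  rw [e]
  exact lt_of_lt_of_le (by norm_num) (le_add_of_nonneg_right (by positivity))

theorem range4 : ((List.range 128).all fun a => (List.range 128).all fun b => decide (128 * a + b < 2) || decide (ord8 (128 * a + b) % (t8 (128 * a + b) - 4) ≠ 0)) = true := by decide +kernel

theorem ord_cast {q : ℕ} (hq : 1 ≤ q) : ((ord8 q : ℕ) : ℤ) = pr q := by
  have e : ∀ n, 1 ≤ q ^ n := fun n => Nat.one_le_pow _ _ hq
  rw [ord8, pr]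
  push_cast [Nat.cast_sub (e 2), Nat.cast_sub (e 8), Nat.cast_sub (e 12), Nat.cast_sub (e 14), Nat.cast_sub (e 18), Nat.cast_sub (e 20), Nat.cast_sub (e 24), Nat.cast_sub (e 30)]
  ring

theorem excl1 {q k : ℕ} (hq : 2 ≤ q) (hk : k ∣ ord8 q) : k + 1 ≠ t8 q := by
  intro h
  by_cases hs : q < 13
  · have h0 := List.all_eq_true.1 (List.all_eq_true.1 range1 (q / 128) (List.mem_range.2 (by omega))) (q % 128) (List.mem_range.2 (by omega))
    rw [Nat.div_add_mod] at h0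
    simp only [Bool.or_eq_true, decide_eq_true_eq] at h0
    rcases h0 with h0 | h0
    · omega
    · exact h0 (Nat.mod_eq_zero_of_dvd (by rwa [show t8 q - 1 = k by omega]))
  · obtain ⟨p, rfl⟩ : ∃ p, q = 13 + p := ⟨q - 13, by omega⟩
    have hkf : (k : ℤ) = ((1) + (-1) * ((13 + p : ℕ) : ℤ) + (1) * ((13 + p : ℕ) : ℤ) ^ 3 + (-1) * ((13 + p : ℕ) : ℤ) ^ 4 + (1) * ((13 + p : ℕ) : ℤ) ^ 5 + (-1) * ((13 + p : ℕ) : ℤ) ^ 7 + (1) * ((13 + p : ℕ) : ℤ) ^ 8) * g1 ((13 + p : ℕ) : ℤ) := by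
      have h' : ((k + 1 : ℕ) : ℤ) = ((t8 (13 + p) : ℕ) : ℤ) := congrArg Nat.cast h
      generalize hz : 13 + p = z at h' ⊢
      simp only [t8] at h'
      push_cast at h'
      simp only [g1]
      linear_combination h'
    have hZ : (k : ℤ) ∣ pr ((13 + p : ℕ) : ℤ) := ord_cast (q := 13 + p) (by omega) ▸ Int.natCast_dvd_natCast.2 hk
    rw [hkf] at hZ
    have hd := small1 ((dvd_mul_left _ _).trans hZ)
    push_cast at hd
    have hle := Int.le_of_dvd (by norm_num) hd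
    exact absurd hle (not_le.2 (large1 p))

theorem excl2 {q k : ℕ} (hq : 2 ≤ q) (hk : k ∣ ord8 q) : k + 2 ≠ t8 q := by
  intro h
  by_cases hs : q < 329
  · have h0 := List.all_eq_true.1 (List.all_eq_true.1 range2 (q / 128) (List.mem_range.2 (by omega))) (q % 128) (List.mem_range.2 (by omega))
    rw [Nat.div_add_mod] at h0
    simp only [Bool.or_eq_true, decide_eq_true_eq] at h0
    rcases h0 with h0 | h0
    · omega
    · exact h0 (Nat.mod_eq_zero_of_dvd (by rwa [show t8 q - 2 = k by omega]))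
  · obtain ⟨p, rfl⟩ : ∃ p, q = 329 + p := ⟨q - 329, by omega⟩
    have hkf : (k : ℤ) = ((1) + (-1) * ((329 + p : ℕ) : ℤ) + (1) * ((329 + p : ℕ) : ℤ) ^ 2 + (-1) * ((329 + p : ℕ) : ℤ) ^ 3 + (1) * ((329 + p : ℕ) : ℤ) ^ 4) * g2 ((329 + p : ℕ) : ℤ) := by
      have h' : ((k + 2 : ℕ) : ℤ) = ((t8 (329 + p) : ℕ) : ℤ) := congrArg Nat.cast h
      generalize hz : 329 + p = z at h' ⊢
      simp only [t8] at h'
      push_cast at h'
      simp only [g2]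
      linear_combination h'
    have hZ : (k : ℤ) ∣ pr ((329 + p : ℕ) : ℤ) := ord_cast (q := 329 + p) (by omega) ▸ Int.natCast_dvd_natCast.2 hk
    rw [hkf] at hZ
    have hd := small2 ((dvd_mul_left _ _).trans hZ)
    push_cast at hd
    have hle := Int.le_of_dvd (by norm_num) hd
    exact absurd hle (not_le.2 (large2 p))

theorem excl3 {q k : ℕ} (hq : 2 ≤ q) (hk : k ∣ ord8 q) : k + 3 ≠ t8 q := by
  intro h
  by_cases hs : q < 1669
  · have h0 := List.all_eq_true.1 (List.all_eq_true.1 range3 (q / 128) (List.mem_range.2 (by omega))) (q % 128) (List.mem_range.2 (by omega))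
    rw [Nat.div_add_mod] at h0
    simp only [Bool.or_eq_true, decide_eq_true_eq] at h0
    rcases h0 with h0 | h0
    · omega
    · exact h0 (Nat.mod_eq_zero_of_dvd (by rwa [show t8 q - 3 = k by omega]))
  · obtain ⟨p, rfl⟩ : ∃ p, q = 1669 + p := ⟨q - 1669, by omega⟩
    have hkf : (k : ℤ) = ((1)) * g3 ((1669 + p : ℕ) : ℤ) := by
      have h' : ((k + 3 : ℕ) : ℤ) = ((t8 (1669 + p) : ℕ) : ℤ) := congrArg Nat.cast h
      generalize hz : 1669 + p = z at h' ⊢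
      simp only [t8] at h'
      push_cast at h'
      simp only [g3]
      linear_combination h'
    have hZ : (k : ℤ) ∣ pr ((1669 + p : ℕ) : ℤ) := ord_cast (q := 1669 + p) (by omega) ▸ Int.natCast_dvd_natCast.2 hk
    rw [hkf] at hZ
    have hd := small3 ((dvd_mul_left _ _).trans hZ)
    push_cast at hd
    have hle := Int.le_of_dvd (by norm_num) hd
    exact absurd hle (not_le.2 (large3 p))

theorem excl4 {q k : ℕ} (hq : 2 ≤ q) (hk : k ∣ ord8 q) : k + 4 ≠ t8 q := by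
  intro h
  by_cases hs : q < 16329
  · have h0 := List.all_eq_true.1 (List.all_eq_true.1 range4 (q / 128) (List.mem_range.2 (by omega))) (q % 128) (List.mem_range.2 (by omega))
    rw [Nat.div_add_mod] at h0
    simp only [Bool.or_eq_true, decide_eq_true_eq] at h0
    rcases h0 with h0 | h0
    · omega
    · exact h0 (Nat.mod_eq_zero_of_dvd (by rwa [show t8 q - 4 = k by omega]))
  · obtain ⟨p, rfl⟩ : ∃ p, q = 16329 + p := ⟨q - 16329, by omega⟩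
    have hkf : (k : ℤ) = ((1) + (-1) * ((16329 + p : ℕ) : ℤ) + (1) * ((16329 + p : ℕ) : ℤ) ^ 2) * g4 ((16329 + p : ℕ) : ℤ) := by
      have h' : ((k + 4 : ℕ) : ℤ) = ((t8 (16329 + p) : ℕ) : ℤ) := congrArg Nat.cast h
      generalize hz : 16329 + p = z at h' ⊢
      simp only [t8] at h'
      push_cast at h'
      simp only [g4]
      linear_combination h'
    have hZ : (k : ℤ) ∣ pr ((16329 + p : ℕ) : ℤ) := ord_cast (q := 16329 + p) (by omega) ▸ Int.natCast_dvd_natCast.2 hk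
    rw [hkf] at hZ
    have hd := small4 ((dvd_mul_left _ _).trans hZ)
    push_cast at hd
    have hle := Int.le_of_dvd (by norm_num) hd
    exact absurd hle (not_le.2 (large4 p))

/-- the last four values are not divisors of the order -/
theorem excluded {q k : ℕ} (hq : 2 ≤ q) (hk : k ∣ ord8 q) (hb : t8 q ≤ k + 4) : t8 q ≤ k := by
  have := excl1 hq hk; have := excl2 hq hk; have := excl3 hq hk; have := excl4 hq hk
  omega

end Cfsg.Agent.E8MinArith68
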