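import Cfsg.Agent.Lib.E8MinDefs68

/-! Certificates for the minimal degree bound of `E₈(q)`. -/

set_option autoImplicit false
set_option maxRecDepth 50000

namespace Cfsg.Agent.E8MinChecks68

open Cfsg.Agent.RootChar68 Cfsg.Agent.E8RootSys68 Cfsg.Agent.E8MinTables68 Cfsg.Lie

theorem single : singleOK chevE8 = true := by decide +kernel

theorem sH_comm : commOK L0 sH = true := by decide +kernel

theorem sW_comm : commOK L0 sW = true := by decide +kernel

theorem sA_comm : commOK L0 sA = true := by decide +kernel

theorem sF_comm : commOK LF sF = true := by decide +kernel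

theorem cH_ok : chainOK L0 sH 0 [] [] cH = true := by decide +kernel

theorem cW_ok : chainOK L0 sW 0 [] [] cW = true := by decide +kernel

theorem cA_ok : chainOK L0 sA 0 [] ((List.finRange 30).filter fun u => decide (1 ≤ u.val ∧ u.val < 14)) cA = true := by
  decide +kernel

theorem cF1_ok : chainOK LF sF 1 [0] (cF0.map Prod.snd) cF1 = true := by decide +kernel

theorem cF0_ok : chainOK LF sF 0 [1] [] cF0 = true := by decide +kernel

theorem sW_fix : (zList.all fun r => fix2OK L0 sW 0 decW r) = true := by decide +kernel

theorem sW_cover : ((List.finRange 29).all fun k => decide (k = 0) || (cW.map Prod.snd).contains k) = true := by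
  decide +kernel

theorem sH_cover : ((List.finRange 29).all fun k => decide (k = 0) || (cH.map Prod.snd).contains k) = true := by
  decide +kernel

theorem dZ_ok : derivOK L0 (List.range 240) zList dZ = true := by decide +kernel

theorem dTop_ok : derivOK L0 (List.range 240) [239] dTop = true := by decide +kernel

theorem dW_ok : derivOK L0 (List.range 240) [sW 0] dW = true := by decide +kernel

theorem d27_ok : derivOK L7 e7List ((List.finRange 27).map tR.S) d27 = true := by decide +kernel

end Cfsg.Agent.E8MinChecks68
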