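import Cfsg.Agent.Lib.E8MinDefs68

/-! Certificates for the minimal degree bound of `E₈(q)`. -/

set_option autoImplicit false
set_option maxRecDepth 50000

namespace Cfsg.Agent.E8MinChecks68

open Cfsg.Agent.RootChar68 Cfsg.Agent.E8RootSys68 Cfsg.Agent.E8MinTables68 Cfsg.Lie

theorem tS_comm : commOK L1 tS.S = true := by decide +kernel

theorem tS_par : tS.okPar L1 = true := by decide +kernel

theorem tS_lead : tS.okLead L1 = true := by decide +kernel

theorem tS_far : tS.okFar L1 = true := by decide +kernel

theorem tS_fix : (sixList.all fun r => zList.contains r || fix1OK L1 tS.S bpos decS r) = true := by decide +kernel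

end Cfsg.Agent.E8MinChecks68
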