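import Cfsg.Agent.Lib.E8MinDefs68

/-! Certificates for the minimal degree bound of `E₈(q)`. -/

set_option autoImplicit false
set_option Elab.async false
set_option maxRecDepth 50000

namespace Cfsg.Agent.E8MinChecks68

open Cfsg.Agent.RootChar68 Cfsg.Agent.E8RootSys68 Cfsg.Agent.E8MinTables68 Cfsg.Lie

theorem tZ_comm : commOK L0 tZ.S = true := by decide +kernel

theorem tZ_par : tZ.okPar L0 = true := by decide +kernel

theorem tZ_lead : tZ.okLead L0 = true := by decide +kernel

theorem tZ_far : tZ.okFar L0 = true := by decide +kernel

theorem tQ_comm : commOK LQ tQ.S = true := by decide +kernel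

theorem tQ_par : tQ.okPar LQ = true := by decide +kernel

-- the chain check is split, one declaration at a time, to keep the memory peak low
theorem tQ_lead_0 : (((List.finRange 56).drop 0).take 7).all (fun i => chainOK LQ tQ.S i [] (below i) (tQ.lead i)) = true := by decide +kernel
theorem tQ_lead_1 : (((List.finRange 56).drop 7).take 7).all (fun i => chainOK LQ tQ.S i [] (below i) (tQ.lead i)) = true := by decide +kernel
theorem tQ_lead_2 : (((List.finRange 56).drop 14).take 7).all (fun i => chainOK LQ tQ.S i [] (below i) (tQ.lead i)) = true := by decide +kernel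
theorem tQ_lead_3 : (((List.finRange 56).drop 21).take 7).all (fun i => chainOK LQ tQ.S i [] (below i) (tQ.lead i)) = true := by decide +kernel
theorem tQ_lead_4 : (((List.finRange 56).drop 28).take 7).all (fun i => chainOK LQ tQ.S i [] (below i) (tQ.lead i)) = true := by decide +kernel
theorem tQ_lead_5 : (((List.finRange 56).drop 35).take 7).all (fun i => chainOK LQ tQ.S i [] (below i) (tQ.lead i)) = true := by decide +kernel
theorem tQ_lead_6 : (((List.finRange 56).drop 42).take 7).all (fun i => chainOK LQ tQ.S i [] (below i) (tQ.lead i)) = true := by decide +kernel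
theorem tQ_lead_7 : (((List.finRange 56).drop 49).take 7).all (fun i => chainOK LQ tQ.S i [] (below i) (tQ.lead i)) = true := by decide +kernel
theorem tQ_lead : tQ.okLead LQ = true := by
  have e : List.finRange 56 = ((List.finRange 56).drop 0).take 7 ++ ((List.finRange 56).drop 7).take 7 ++ ((List.finRange 56).drop 14).take 7 ++ ((List.finRange 56).drop 21).take 7 ++ ((List.finRange 56).drop 28).take 7 ++ ((List.finRange 56).drop 35).take 7 ++ ((List.finRange 56).drop 42).take 7 ++ ((List.finRange 56).drop 49).take 7 := by decide +kernel
  show ((List.finRange 56).all fun i => chainOK LQ tQ.S i [] (below i) (tQ.lead i)) = true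
  rw [e]
  simp only [List.all_append, tQ_lead_0, tQ_lead_1, tQ_lead_2, tQ_lead_3, tQ_lead_4, tQ_lead_5, tQ_lead_6, tQ_lead_7, Bool.and_self]

theorem tQ_far : tQ.okFar LQ = true := by decide +kernel

theorem tR_comm : commOK L7 tR.S = true := by decide +kernel

theorem tR_par : tR.okPar L7 = true := by decide +kernel

theorem tR_lead : tR.okLead L7 = true := by decide +kernel

theorem tR_far : tR.okFar L7 = true := by decide +kernel

end Cfsg.Agent.E8MinChecks68
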