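import Cfsg.Agent.Lib.E8MinPrep68

/-!
The minimal degree bound for `E₈(q)`: the main argument.
-/

set_option autoImplicit false
set_option maxRecDepth 50000
set_option linter.style.haveILetI false
set_option linter.unusedSectionVars false

namespace Cfsg.Agent.E8MinDegree68

open Cfsg.Lie Cfsg.Agent.ChevalleyCore Cfsg.Agent.RootChar68 Cfsg.Agent.E8RootSys68
open Cfsg.Agent.E8MinTables68 Cfsg.Agent.E8MinChecks68 Module

local notation "C8" => Cfsg.Agent.ChevalleyDataE8.cert

variable {F : Type*} [Field F] [Fintype F] {V : Type} [AddCommGroup V] [Module ℂ V] [FiniteDimensional ℂ V]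
  (σ : Representation ℂ (chevE8.group F) V)

/-- the bound up to four -/
theorem bound (hnt : ∃ r ∈ List.range 240, ∃ t, σ ((sys8 F).x r t) ≠ 1) :
    T8 (Fintype.card F) ≤ finrank ℂ V + 4 := by
  classical
  set q := Fintype.card F with hq
  have hq2 : 2 ≤ q := Fintype.one_lt_card
  have fin : ∀ {N : ℕ}, T8 q ≤ N → N ≤ finrank ℂ V → T8 q ≤ finrank ℂ V + 4 := fun h1 h2 => by omega
  obtain ⟨hkz, hkn, hk239⟩ := kills_dom
  simp only [List.all_eq_true] at hkz hkn
  obtain ⟨hlA, hlF0, hlF1, hlH, hlW, hlS, hlQ, hlR⟩ := cA_len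
  obtain ⟨hpW, hpH, hδW, hδH, hw240, hH0⟩ := pairW
  -- the highest root
  obtain ⟨r0, hr0, a0, v0, hv0⟩ := move_exists σ hnt [239] dTop dTop_ok
  obtain rfl := List.mem_singleton.1 hr0
  obtain ⟨hH1, hH2⟩ := heis σ sH sH_comm cH cH_ok hlH sH_cover (δ := hTop) (by omega) hδH hpH
    (a := a0) (v := v0) (by rw [hH0]; exact hv0)
  have htop := hH2 1 1 one_ne_zero (hH1 1 one_ne_zero)
  rw [hH0, one_mul, ← hq] at htop
  -- the grade two roots
  obtain ⟨rz, hrz, az, vz, hvz⟩ := move_exists σ hnt zList dZ dZ_ok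
  obtain ⟨iz, -, rfl⟩ := List.mem_map.1 (zmap ▸ hrz)
  set RZ := mkRad (sys8 F) tZ.S tZ_comm with hRZ
  have hWZ : Fx (sys8 F) σ zList ≤ Esp RZ σ 0 := fun x hx =>
    (mem_fix RZ σ).2 fun i a => hx (tZ.S i) (zmap ▸ List.mem_map.2 ⟨i, List.mem_finRange i, rfl⟩) a
  rcases dichotomy (R := RZ) rfl tZ_par tZ_lead tZ_far (by norm_num) hvz with
    ⟨b, hb, hb0, hbf, hbN, -⟩ | hroot
  · -- an anisotropic character
    obtain ⟨hs0, hs1, hf0⟩ := sF_head
    obtain ⟨w, hw0, hw⟩ := exists_vec le_rfl hb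
    have hwN : w ∈ Fx (sys8 F) σ nList := fun s hs a => by
      obtain ⟨k, hk, rfl⟩ := n_cover s hs
      have h := (mem_E RZ σ).1 hw k a
      rw [hbN k hk, zero_mul, AddChar.map_zero_eq_one, one_smul] at h
      exact h
    set dom := fun r => Nat.testBit fMask r with hdom
    have hinv := mask_inv σ invF top_le.2.2.2
    have hK : ∀ k ∈ nList, L0.dom k = true ∧ ∀ t, ∀ v ∈ Fx (sys8 F) σ nList, σ ((sys8 F).x k t) v = v :=
      fun k hk => ⟨hkn k hk, fun t v hv => hv k hk t⟩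
    set Y' : Sys LF F (Module.End ℂ (Fx (sys8 F) σ nList))ˣ := resSys (sys8 F) σ dom hinv nList hK with hY'
    set RF := mkRad Y' sF sF_comm with hRF
    obtain ⟨c, hc, hcv⟩ := exists_ext (R := RF) (σ := taut _) (v := ⟨w, hwN⟩) [0, 1]
      (fun j => if j = 0 then b 0 else b 13) (fun e => hw0 (congrArg Subtype.val e)) (fun j hj a => by
        refine Subtype.ext ?_
        rcases List.mem_cons.1 hj with rfl | hj
        · rw [show RF.S 0 = sF 0 from rfl, show ∀ r, Y'.x r a = (resSys (sys8 F) σ dom hinv nList hK).x r a from fun r => rfl]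
          rw [taut_x (sys8 F) σ dom hinv nList hK (r := sF 0) domF0.1 a ⟨w, hwN⟩]
          have h := (mem_E RZ σ).1 hw 0 a
          rw [show RZ.S 0 = sF 0 from hs0.symm] at h
          rw [h]
          simp
        · obtain rfl := List.mem_singleton.1 hj
          rw [show RF.S 1 = sF 1 from rfl, show ∀ r, Y'.x r a = (resSys (sys8 F) σ dom hinv nList hK).x r a from fun r => rfl]
          rw [taut_x (sys8 F) σ dom hinv nList hK (r := sF 1) domF0.2 a ⟨w, hwN⟩]
          have h := (mem_E RZ σ).1 hw 13 a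
          rw [show RZ.S 13 = sF 1 from hs1.symm] at h
          rw [h]
          simp)
    have hc0 : c 0 ≠ 0 := by rw [hcv 0 (by simp)]; simpa using hb0
    have hc1 : c 1 ≠ 0 := by rw [hcv 1 (by simp)]; simpa [← hf0] using hbf
    obtain ⟨c2, hc2, -, h2z, h20, h2E⟩ := kill (R := RF) cF0 [] cF0_ok c hc hc0 (by simp)
    have h21 : c2 1 = c 1 := h2E 1 (by simp)
    have h2zero : ∀ l ∈ cF0.map Prod.snd, c2 l = 0 := fun l hl => by
      obtain ⟨p, hp, rfl⟩ := List.mem_map.1 hl
      exact h2z p hp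
    obtain ⟨c3, hc3, h3Z, h3z, h31, h3E⟩ := kill (R := RF) cF1 _ cF1_ok c2 hc2 (h21 ▸ hc1) h2zero
    have h30 : c3 0 = c 0 := (h3E 0 (by simp)).trans h20
    obtain ⟨A, hA, hAc⟩ := spread (R := RF) (σ := taut _) (t := c 1) hc1 (fun _ => c 0) cF1 _ cF1_ok {c3}
      (fun d hd => by
        obtain rfl := Finset.mem_singleton.1 hd
        exact ⟨hc3, h3Z, h3z, h31.trans h21, fun k hk => by obtain rfl := List.mem_singleton.1 hk; exact h30⟩)
    obtain ⟨B, hB, hBc⟩ := spread (R := RF) (σ := taut _) (t := c 0) hc0 (fun _ => c 1) cF0 [] cF0_ok A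
      (fun d hd => by
        obtain ⟨g1, g2, g3, g4⟩ := hA d hd
        exact ⟨g1, by simp, fun p hp => g2 _ (List.mem_map.2 ⟨p, hp, rfl⟩), g4 0 (by simp),
          fun k hk => by obtain rfl := List.mem_singleton.1 hk; exact g3⟩)
    have hle := le_dim (R := RF) (σ := taut _) B (fun d hd => (hB d hd).1)
      (fun h => hc0 ((hB 0 h).2.2.1).symm)
    rw [Finset.card_singleton, mul_one, hlF1] at hAc
    rw [hlF0] at hBc
    rw [← hq] at hAc hBc
    have h32 : q ^ 32 ≤ finrank ℂ (Fx (sys8 F) σ nList) := by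
      have hp : q ^ 32 = q ^ 16 * q ^ 16 := by ring
      have := Nat.mul_le_mul_left (q ^ 16) hAc
      omega
    exact fin (big32 hq2 h32) (Submodule.finrank_le _)
  -- root characters: multiplicity
  have hmult : Good RZ σ (q ^ 16) (Pi.single 0 1) := by
    set RA := mkRad (sys8 F) sA sA_comm with hRA
    obtain ⟨w, hw0, hw⟩ := exists_vec le_rfl (hroot 0 1 one_ne_zero)
    let J : List (Fin 30) := (List.finRange 14).map fun k => ⟨k.val, by omega⟩
    obtain ⟨c, hc, hcv⟩ := exists_ext (R := RA) (σ := σ) J (fun j => if j = 0 then 1 else 0) hw0 (fun j hj a => by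
      obtain ⟨k, -, rfl⟩ := List.mem_map.1 hj
      show σ ((sys8 F).x (sA _) a) w = _
      have h := (mem_E RZ σ).1 hw k a
      rw [show RZ.S k = sA ⟨k.val, by omega⟩ from (sA_head k).symm] at h
      rw [h]
      congr 2
      by_cases hk : k = 0
      · subst hk; simp
      · rw [Pi.single_eq_of_ne hk, if_neg (show (⟨k.val, by omega⟩ : Fin 30) ≠ 0 from fun e => hk (Fin.ext (show k.val = 0 from congrArg Fin.val e)))]
      )
    have hJ : ∀ k : Fin 14, c ⟨k.val, by omega⟩ = if k = 0 then 1 else 0 := fun k => by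
      rw [hcv _ (List.mem_map.2 ⟨k, List.mem_finRange k, rfl⟩)]
      by_cases hk : k = 0
      · subst hk; simp
      · rw [if_neg hk, if_neg (show (⟨k.val, by omega⟩ : Fin 30) ≠ 0 from fun e => hk (Fin.ext (show k.val = 0 from congrArg Fin.val e)))]
    have hc0 : c 0 = 1 := by simpa using hJ 0
    set Z0 := (List.finRange 30).filter fun u => decide (1 ≤ u.val ∧ u.val < 14) with hZ0
    have hZ : ∀ l ∈ Z0, c l = 0 := fun l hl => by
      simp only [hZ0, List.mem_filter, decide_eq_true_eq] at hl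
      have h := hJ ⟨l.val, hl.2.2⟩
      rw [if_neg (fun e => by have e' : l.val = 0 := congrArg Fin.val e; omega)] at h
      exact h
    obtain ⟨c2, hc2, h2Z, h2z, h20, -⟩ := kill (R := RA) cA Z0 cA_ok c hc (by rw [hc0]; exact one_ne_zero) hZ
    obtain ⟨B, hB, hBc⟩ := spread (R := RA) (σ := σ) (t := 1) one_ne_zero (fun _ => 0) cA Z0 cA_ok {c2}
      (fun d hd => by
        obtain rfl := Finset.mem_singleton.1 hd
        exact ⟨hc2, h2Z, h2z, h20.trans hc0, by simp⟩)
    rw [Finset.card_singleton, mul_one, hlA] at hBc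
    refine hBc.trans ?_
    have := le_sub (R := RA) (σ := σ) (m := 1) (Esp RZ σ (Pi.single 0 1)) B fun d hd => ⟨(hB d hd).1, fun x hx => ?_⟩
    · rwa [one_mul] at this
    · refine (mem_E RZ σ).2 fun k a => ?_
      have h := (mem_E RA σ).1 hx ⟨k.val, by omega⟩ a
      rw [show RA.S ⟨k.val, by omega⟩ = tZ.S k from sA_head k] at h
      rw [show RZ.S k = tZ.S k from rfl, h]
      congr 2
      by_cases hk : k = 0
      · subst hk; rw [Pi.single_eq_same]; exact congrArg (· * a) (hB d hd).2.2.1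
      · rw [Pi.single_eq_of_ne hk, (hB d hd).2.1 _ (by
          simp only [hZ0, List.mem_filter, List.mem_finRange, decide_eq_true_eq, true_and]
          exact ⟨Nat.one_le_iff_ne_zero.2 fun e => hk (Fin.ext e), k.isLt⟩)]
  have h14 : finrank ℂ (Fx (sys8 F) σ zList) + q ^ 16 * o14 q ≤ finrank ℂ V := by
    have := count (R := RZ) rfl tZ_par tZ_lead
      (root_up (R := RZ) rfl tZ_par (by norm_num) one_ne_zero hmult)
    exact le_trans (Nat.add_le_add_right (Submodule.finrank_mono hWZ) _) this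
  -- the vector from the Heisenberg group of the auxiliary root
  obtain ⟨rw', hrw', aw, vw, hvw⟩ := move_exists σ hnt [sW 0] dW dW_ok
  obtain rfl := List.mem_singleton.1 hrw'
  obtain ⟨hW1, hW2⟩ := heis σ sW sW_comm cW cW_ok hlW sW_cover (δ := hW) hw240 hδW hpW hvw
  set RW := mkRad (sys8 F) sW sW_comm with hRW
  by_cases hthree : 3 ≤ finrank ℂ (Esp RW σ (Pi.single 0 1))
  · have := hW2 3 1 one_ne_zero hthree
    rw [← hq] at this
    exact fin (big3 hq2 (le_trans (Nat.le_add_left _ _) this)) le_rfl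
  obtain ⟨w, hw0, hw⟩ := exists_vec le_rfl (hW1 1 one_ne_zero)
  have hwZ : w ∈ Fx (sys8 F) σ zList := fun s hs t =>
    fix_plane (R := RW) (List.all_eq_true.1 sW_fix s hs) (by omega) hw t
  obtain ⟨a1, ha1⟩ := SLMinDegree32.phi0_ne (F := F)
  have phi_ne : ∀ {w : V}, w ≠ 0 → (SLMinDegree32.phi0 (1 * a1) : ℂ) • w ≠ w := fun {w} hw0 e => by
    apply ha1
    have : (SLMinDegree32.phi0 a1 - 1 : ℂ) • w = 0 := by
      rw [sub_smul, one_smul, sub_eq_zero]; rwa [one_mul] at e
    exact sub_eq_zero.1 ((smul_eq_zero.1 this).resolve_right hw0)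
  have hwmove : σ ((sys8 F).x (sW 0) a1) w ≠ w := by
    have h := (mem_E RW σ).1 hw 0 a1
    rw [show RW.S 0 = sW 0 from rfl, Pi.single_eq_same] at h
    rw [h]; exact phi_ne hw0
  -- the sixty-four dimensional radical
  set dom1' := fun r => Nat.testBit p1Mask r with hdom1
  have hinv1 := mask_inv σ inv1 top_le.1
  have hK1 : ∀ k ∈ zList, L0.dom k = true ∧ ∀ t, ∀ v ∈ Fx (sys8 F) σ zList, σ ((sys8 F).x k t) v = v :=
    fun k hk => ⟨hkz k hk, fun t v hv => hv k hk t⟩
  set Y1 : Sys L1 F (Module.End ℂ (Fx (sys8 F) σ zList))ˣ := resSys (sys8 F) σ dom1' hinv1 zList hK1 with hY1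
  set RS := mkRad Y1 tS.S tS_comm with hRS
  obtain ⟨⟨iw, hiw⟩, iq, hiq⟩ := w_in
  have hmoveS : taut _ (Y1.x (tS.S iw) a1) ⟨w, hwZ⟩ ≠ ⟨w, hwZ⟩ := fun e => hwmove (by
    have := congrArg Subtype.val e
    rwa [taut_x (sys8 F) σ dom1' hinv1 zList hK1 (dom1 iw), hiw] at this)
  rcases dichotomy (R := RS) rfl tS_par tS_lead tS_far (by norm_num) hmoveS with
    ⟨b, hb, hb0, hbf, hbN, hbfar⟩ | hroot1
  · have := far_bound (R := RS) rfl tS_par tS_lead tS_far hb hb0 hbf hbN hbfar
    rw [hlS, one_mul, ← hq] at this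
    have h33 : q ^ 32 ≤ finrank ℂ (Fx (sys8 F) σ zList) :=
      le_trans (pw (by omega) (by norm_num)) (le_trans (Nat.le_add_left _ _) this)
    exact fin (big32 hq2 h33) (Submodule.finrank_le _)
  rcases simple_or (R := RS) rfl tS_par tS_lead (by norm_num) hroot1 with hbig | hline
  · have h : 2 * o64 q ≤ finrank ℂ (Fx (sys8 F) σ zList) := le_trans (Nat.le_add_left _ _) hbig
    exact fin (big14 hq2 (le_trans (by omega) h14)) le_rfl
  obtain ⟨⟨z, hzZ⟩, hz0, hz⟩ := exists_vec le_rfl (hroot1 bpos 1 one_ne_zero)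
  have hz0' : z ≠ 0 := fun e => hz0 (Subtype.ext e)
  obtain ⟨hbr, hb7, hbp1, hbm7, b6, hb6, hb6e⟩ := broot_ok
  have hz6 : z ∈ Fx (sys8 F) σ sixList := fun r hr t => by
    have h := List.all_eq_true.1 tS_fix r hr
    rw [Bool.or_eq_true, List.contains_iff_mem] at h
    rcases h with h | h
    · exact hzZ r h t
    · have h' := fix_line (R := RS) h (hline bpos 1 one_ne_zero) hz hz0 t
      have := congrArg Subtype.val h'
      rwa [taut_x (sys8 F) σ dom1' hinv1 zList hK1 (six_dom r hr)] at this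
  have hzmove : σ ((sys8 F).x broot a1) z ≠ z := by
    have h := congrArg Subtype.val ((mem_E RS (taut _)).1 hz bpos a1)
    rw [show RS.S bpos = tS.S bpos from rfl, taut_x (sys8 F) σ dom1' hinv1 zList hK1 (dom1 bpos), hbr,
      Pi.single_eq_same] at h
    rw [h]; exact phi_ne hz0'
  -- the Heisenberg quotient
  set domq := fun r => Nat.testBit pqMask r with hdomq
  have hinvQ := mask_inv σ invQ top_le.2.1
  have hKQ : ∀ k ∈ [239], L0.dom k = true ∧ ∀ t, ∀ v ∈ Fx (sys8 F) σ [239], σ ((sys8 F).x k t) v = v :=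
    fun k hk => ⟨by rw [List.mem_singleton.1 hk]; exact hk239, fun t v hv => hv k hk t⟩
  set YQ : Sys LQ F (Module.End ℂ (Fx (sys8 F) σ [239]))ˣ := resSys (sys8 F) σ domq hinvQ [239] hKQ with hYQ
  set RQ := mkRad YQ tQ.S tQ_comm with hRQ
  have hw239 : w ∈ Fx (sys8 F) σ [239] := fun s hs t => by
    obtain rfl := List.mem_singleton.1 hs
    exact hwZ 239 (by decide +kernel) t
  have hmoveQ : taut _ (YQ.x (tQ.S iq) a1) ⟨w, hw239⟩ ≠ ⟨w, hw239⟩ := fun e => hwmove (by
    have := congrArg Subtype.val e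
    rwa [taut_x (sys8 F) σ domq hinvQ [239] hKQ (domQ iq).1, hiq] at this)
  rcases dichotomy (R := RQ) rfl tQ_par tQ_lead tQ_far (by norm_num) hmoveQ with
    ⟨b, hb, hb0, hbf, hbN, hbfar⟩ | hrootQ
  · have := far_bound (R := RQ) rfl tQ_par tQ_lead tQ_far hb hb0 hbf hbN hbfar
    rw [hlQ, one_mul, ← hq] at this
    have h43 : q ^ 32 ≤ finrank ℂ (Fx (sys8 F) σ [239]) :=
      le_trans (pw (by omega) (by norm_num)) (le_trans (Nat.le_add_left _ _) this)
    exact fin (big32 hq2 h43) (Submodule.finrank_le _)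
  have hq56 : finrank ℂ (Fx (sys8 F) σ qList) + o56 q ≤ finrank ℂ (Fx (sys8 F) σ [239]) := by
    have h := count (R := RQ) rfl tQ_par tQ_lead (m := 1) hrootQ
    rw [one_mul] at h
    exact le_trans (Nat.add_le_add_right (finrank_Fx_le (sys8 F) σ domq hinvQ [239] hKQ RQ qList
      (fun x hx s hs => by obtain rfl := List.mem_singleton.1 hs; exact hx 239 lists_sub.1) domQ) _) h
  -- the radical of E₇
  set dom7 := fun r => Nat.testBit e7Mask r with hdom7
  have hinv7 := mask_inv σ inv7 top_le.2.2.1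
  have hK7 : ∀ k ∈ ([] : List ℕ), L0.dom k = true ∧ ∀ t, ∀ v ∈ Fx (sys8 F) σ qList, σ ((sys8 F).x k t) v = v :=
    fun k hk => absurd hk (by simp)
  set Y7 : Sys L7 F (Module.End ℂ (Fx (sys8 F) σ qList))ˣ := resSys (sys8 F) σ dom7 hinv7 [] hK7 with hY7
  set RR := mkRad Y7 tR.S tR_comm with hRR
  have hzq : z ∈ Fx (sys8 F) σ qList := fun s hs => hz6 s (lists_sub.2 s hs)
  obtain ⟨ir, ar, vr, hvr⟩ : ∃ i a v, taut _ (Y7.x (tR.S i) a) v ≠ v := by
    by_contra! hall
    refine hzmove ?_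
    have := deriv_trivial (Y := Y7) (σ := taut _) _ _ _ d27_ok (fun s hs u => by
      obtain ⟨i, -, rfl⟩ := List.mem_map.1 hs
      exact LinearMap.ext (hall i u)) broot hb7 a1
    have h2 := congrArg (fun T : Module.End ℂ (Fx (sys8 F) σ qList) => (T ⟨z, hzq⟩ : V)) this
    rwa [taut_x (sys8 F) σ dom7 hinv7 [] hK7 (e7_dom broot hb7)] at h2
  rcases dichotomy (R := RR) rfl tR_par tR_lead tR_far (by norm_num) hvr with
    ⟨b, hb, hb0, hbf, hbN, hbfar⟩ | hrootR
  · have := far_bound (R := RR) rfl tR_par tR_lead tR_far hb hb0 hbf hbN hbfar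
    rw [hlR, one_mul, ← hq] at this
    have h24 : q ^ 24 ≤ finrank ℂ (Fx (sys8 F) σ qList) := le_trans (Nat.le_add_left _ _) this
    exact fin (big24 hq2 (le_trans (by omega) htop)) le_rfl
  have hq27 : finrank ℂ (Fx (sys8 F) σ sixList) + o27 q ≤ finrank ℂ (Fx (sys8 F) σ qList) := by
    have h := count (R := RR) rfl tR_par tR_lead (m := 1) hrootR
    rw [one_mul] at h
    exact le_trans (Nat.add_le_add_right (finrank_Fx_le (sys8 F) σ dom7 hinv7 [] hK7 RR sixList
      (fun x hx s hs => hx s (lists_sub.2 s hs)) domR) _) h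
  -- the subsystem E₆
  set W6 := Fx (sys8 F) σ sixList with hW6
  have hinv : ∀ g : G6 F, ∀ x ∈ W6, σ (g : chevE8.group F) x ∈ W6 := fun g => by
    refine E6MinDegree68.closure_inv σ W6 ?_ g.2
    rintro _ ⟨r, hr, t, rfl⟩ x hx
    rw [Sys.x_inv]
    exact ⟨fx_inv _ σ (List.all_eq_true.1 inv6 r hr) t hx, fx_inv _ σ (List.all_eq_true.1 inv6 r hr) (-t) hx⟩
  let τ : Representation ℂ (G6 F) W6 :=
    { toFun := fun g => (σ (g : chevE8.group F)).restrict (hinv g)
      map_one' := LinearMap.ext fun x => Subtype.ext (by simp)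
      map_mul' := fun g h => LinearMap.ext fun x => Subtype.ext (by simp) }
  have h6 := (E6MinDegree68.level1 (sys6 F) τ ⟨b6, hb6, a1, fun e => hzmove (by
    have h2 := congrArg (fun T : Module.End ℂ W6 => (T ⟨z, hz6⟩ : V)) e
    change σ (((sys6 F).x b6 a1 : G6 F) : chevE8.group F) z = z at h2
    have hco : (((sys6 F).x b6 a1 : G6 F) : chevE8.group F) = (sys8 F).x broot a1 := by
      rw [← hb6e]; exact congrArg Subtype.val (dif_pos hb6)
    rwa [hco] at h2)⟩).1
  rw [← hq] at h6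
  exact total hq2 htop hq56 hq27 h6

end Cfsg.Agent.E8MinDegree68
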