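import Cfsg.Agent.Lib.E8MinChecksA68
import Cfsg.Agent.Lib.E8MinChecksB68
import Cfsg.Agent.Lib.E8MinChecksC68
import Cfsg.Agent.Lib.E6MinDegree68
import Cfsg.Agent.Lib.ChevalleyDataE8
import Cfsg.Agent.Lib.ChevalleyPerfect

/-!
The minimal degree bound for `E₈(q)`: the Heisenberg parabolic, the parabolic with the fourteen-dimensional
centre, the radical of `E₇` and the bound for `E₆`.
-/

set_option autoImplicit false
set_option maxRecDepth 50000
set_option linter.style.haveILetI false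
set_option linter.unusedSectionVars false

namespace Cfsg.Agent.E8MinDegree68

open Cfsg.Lie Cfsg.Agent.ChevalleyCore Cfsg.Agent.RootChar68 Cfsg.Agent.E8RootSys68
open Cfsg.Agent.E8MinTables68 Cfsg.Agent.E8MinChecks68 Module

local notation "C8" => Cfsg.Agent.ChevalleyDataE8.cert

/-! ### orbit sizes -/

theorem tZ_lens : (List.finRange 14).map (fun i => (tZ.lead i).length) =
    [12, 11, 10, 9, 8, 7, 6, 6, 5, 4, 3, 2, 1, 0] := by decide +kernel

/-- the orbit size -/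
def o14 (q : ℕ) : ℕ := (q - 1) * ∑ i : Fin 14, q ^ (tZ.lead i).length

theorem o14_eq {q : ℕ} (hq : 1 ≤ q) : o14 q + (q ^ 6 + 1) = q ^ 13 + q ^ 7 := by
  have hs : (∑ i : Fin 14, q ^ (tZ.lead i).length) = q ^ 12 + q ^ 11 + q ^ 10 + q ^ 9 + q ^ 8 + q ^ 7 + 2 * q ^ 6 + q ^ 5 + q ^ 4 + q ^ 3 + q ^ 2 + q ^ 1 + q ^ 0 := by
    rw [Fin.sum_univ_def, show (List.finRange 14).map (fun i => q ^ (tZ.lead i).length) =
      ((List.finRange 14).map (fun i => (tZ.lead i).length)).map (fun e => q ^ e) by rw [List.map_map]; rfl,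
      tZ_lens]
    simp only [List.map_cons, List.map_nil, List.sum_cons, List.sum_nil]
    ring
  obtain ⟨p, hp⟩ : ∃ p, q = p + 1 := ⟨q - 1, by omega⟩
  rw [o14, hs, hp, Nat.add_sub_cancel]
  ring

theorem tS_lens : (List.finRange 64).map (fun i => (tS.lead i).length) =
    [21, 20, 19, 18, 18, 17, 17, 16, 16, 16, 15, 15, 15, 15, 14, 14, 14, 14, 13, 13, 13, 13, 12, 12, 12, 12, 12, 11, 11, 11, 11, 11, 10, 10, 10, 10, 10, 9, 9, 9, 9, 9, 8, 8, 8, 8, 7, 7, 7, 7, 6, 6, 6, 6, 5, 5, 5, 4, 4, 3, 3, 2, 1, 0] := by decide +kernel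

/-- the orbit size -/
def o64 (q : ℕ) : ℕ := (q - 1) * ∑ i : Fin 64, q ^ (tS.lead i).length

theorem o64_eq {q : ℕ} (hq : 1 ≤ q) : o64 q + (q ^ 9 + q ^ 6 + q ^ 5 + q ^ 3 + 1) = q ^ 22 + q ^ 19 + q ^ 17 + q ^ 16 + q ^ 13 := by
  have hs : (∑ i : Fin 64, q ^ (tS.lead i).length) = q ^ 21 + q ^ 20 + q ^ 19 + 2 * q ^ 18 + 2 * q ^ 17 + 3 * q ^ 16 + 4 * q ^ 15 + 4 * q ^ 14 + 4 * q ^ 13 + 5 * q ^ 12 + 5 * q ^ 11 + 5 * q ^ 10 + 5 * q ^ 9 + 4 * q ^ 8 + 4 * q ^ 7 + 4 * q ^ 6 + 3 * q ^ 5 + 2 * q ^ 4 + 2 * q ^ 3 + q ^ 2 + q ^ 1 + q ^ 0 := by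
    rw [Fin.sum_univ_def, show (List.finRange 64).map (fun i => q ^ (tS.lead i).length) =
      ((List.finRange 64).map (fun i => (tS.lead i).length)).map (fun e => q ^ e) by rw [List.map_map]; rfl,
      tS_lens]
    simp only [List.map_cons, List.map_nil, List.sum_cons, List.sum_nil]
    ring
  obtain ⟨p, hp⟩ : ∃ p, q = p + 1 := ⟨q - 1, by omega⟩
  rw [o64, hs, hp, Nat.add_sub_cancel]
  ring

theorem tQ_lens : (List.finRange 56).map (fun i => (tQ.lead i).length) =
    [27, 26, 25, 24, 23, 22, 22, 21, 21, 20, 20, 19, 19, 18, 18, 18, 17, 17, 17, 16, 16, 16, 15, 15, 15, 14, 14, 14, 13, 13, 13, 12, 12, 12, 11, 11, 11, 10, 10, 10, 9, 9, 9, 8, 8, 7, 7, 6, 6, 5, 5, 4, 3, 2, 1, 0] := by decide +kernel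

/-- the orbit size -/
def o56 (q : ℕ) : ℕ := (q - 1) * ∑ i : Fin 56, q ^ (tQ.lead i).length

theorem o56_eq {q : ℕ} (hq : 1 ≤ q) : o56 q + (q ^ 9 + q ^ 5 + 1) = q ^ 28 + q ^ 23 + q ^ 19 := by
  have hs : (∑ i : Fin 56, q ^ (tQ.lead i).length) = q ^ 27 + q ^ 26 + q ^ 25 + q ^ 24 + q ^ 23 + 2 * q ^ 22 + 2 * q ^ 21 + 2 * q ^ 20 + 2 * q ^ 19 + 3 * q ^ 18 + 3 * q ^ 17 + 3 * q ^ 16 + 3 * q ^ 15 + 3 * q ^ 14 + 3 * q ^ 13 + 3 * q ^ 12 + 3 * q ^ 11 + 3 * q ^ 10 + 3 * q ^ 9 + 2 * q ^ 8 + 2 * q ^ 7 + 2 * q ^ 6 + 2 * q ^ 5 + q ^ 4 + q ^ 3 + q ^ 2 + q ^ 1 + q ^ 0 := by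
    rw [Fin.sum_univ_def, show (List.finRange 56).map (fun i => q ^ (tQ.lead i).length) =
      ((List.finRange 56).map (fun i => (tQ.lead i).length)).map (fun e => q ^ e) by rw [List.map_map]; rfl,
      tQ_lens]
    simp only [List.map_cons, List.map_nil, List.sum_cons, List.sum_nil]
    ring
  obtain ⟨p, hp⟩ : ∃ p, q = p + 1 := ⟨q - 1, by omega⟩
  rw [o56, hs, hp, Nat.add_sub_cancel]
  ring

theorem tR_lens : (List.finRange 27).map (fun i => (tR.lead i).length) =
    [16, 15, 14, 13, 12, 12, 11, 11, 10, 10, 9, 9, 8, 8, 8, 7, 7, 6, 6, 5, 5, 4, 4, 3, 2, 1, 0] := by decide +kernel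

/-- the orbit size -/
def o27 (q : ℕ) : ℕ := (q - 1) * ∑ i : Fin 27, q ^ (tR.lead i).length

theorem o27_eq {q : ℕ} (hq : 1 ≤ q) : o27 q + (q ^ 8 + q ^ 4 + 1) = q ^ 17 + q ^ 13 + q ^ 9 := by
  have hs : (∑ i : Fin 27, q ^ (tR.lead i).length) = q ^ 16 + q ^ 15 + q ^ 14 + q ^ 13 + 2 * q ^ 12 + 2 * q ^ 11 + 2 * q ^ 10 + 2 * q ^ 9 + 3 * q ^ 8 + 2 * q ^ 7 + 2 * q ^ 6 + 2 * q ^ 5 + 2 * q ^ 4 + q ^ 3 + q ^ 2 + q ^ 1 + q ^ 0 := by
    rw [Fin.sum_univ_def, show (List.finRange 27).map (fun i => q ^ (tR.lead i).length) =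
      ((List.finRange 27).map (fun i => (tR.lead i).length)).map (fun e => q ^ e) by rw [List.map_map]; rfl,
      tR_lens]
    simp only [List.map_cons, List.map_nil, List.sum_cons, List.sum_nil]
    ring
  obtain ⟨p, hp⟩ : ∃ p, q = p + 1 := ⟨q - 1, by omega⟩
  rw [o27, hs, hp, Nat.add_sub_cancel]
  ring

/-! ### finite checks -/

theorem inv1 : ((List.range 240).all fun g => !(Nat.testBit p1Mask g) || fxOK L0 zList g) = true := by
  decide +kernel

theorem invQ : ((List.range 240).all fun g => !(Nat.testBit pqMask g) || fxOK L0 [239] g) = true := by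
  decide +kernel

theorem inv7 : ((List.range 240).all fun g => !(Nat.testBit e7Mask g) || fxOK L0 qList g) = true := by
  decide +kernel

theorem invF : ((List.range 240).all fun g => !(Nat.testBit fMask g) || fxOK L0 nList g) = true := by
  decide +kernel

theorem inv6 : ((List.range 72).all fun r => fxOK L0 sixList (emb.getD r 0)) = true := by decide +kernel

theorem top_le : p1Mask < 2 ^ 240 ∧ pqMask < 2 ^ 240 ∧ e7Mask < 2 ^ 240 ∧ fMask < 2 ^ 240 := by decide +kernel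

theorem kills_dom : (zList.all fun k => L0.dom k) = true ∧ (nList.all fun k => L0.dom k) = true ∧
    L0.dom 239 = true := by decide +kernel

theorem pairW : chevE8.pairing hW (sW 0) = 1 ∧ chevE8.pairing hTop (sH 0) = 1 ∧ hW < 240 ∧ hTop < 240 ∧
    sW 0 < 240 ∧ sH 0 = 239 := by decide +kernel

theorem zmap : (List.finRange 14).map tZ.S = zList := by decide +kernel

theorem n_cover : ∀ s ∈ nList, ∃ k ∈ tZ.N, tZ.S k = s := by decide +kernel

theorem sF_head : sF 0 = tZ.S 0 ∧ sF 1 = tZ.S 13 ∧ tZ.f0 = 13 := by decide +kernel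

theorem sA_head : ∀ k : Fin 14, sA ⟨k.val, by omega⟩ = tZ.S k := by decide +kernel

theorem cA_len : cA.length = 16 ∧ cF0.length = 16 ∧ cF1.length = 16 ∧ cH.length = 28 ∧ cW.length = 28 ∧
    (tS.lead 0).length + tS.far.length = 33 ∧ (tQ.lead 0).length + tQ.far.length = 43 ∧
    (tR.lead 0).length + tR.far.length = 24 := by decide +kernel

theorem w_in : (∃ i, tS.S i = sW 0) ∧ (∃ i, tQ.S i = sW 0) := by decide +kernel

theorem dom1 : ∀ i, Nat.testBit p1Mask (tS.S i) = true := by decide +kernel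

theorem domQ : ∀ i, Nat.testBit pqMask (tQ.S i) = true ∧ tQ.S i ∈ qList := by decide +kernel

theorem domR : ∀ i, Nat.testBit e7Mask (tR.S i) = true ∧ tR.S i ∈ sixList := by decide +kernel

theorem domF0 : Nat.testBit fMask (sF 0) = true ∧ Nat.testBit fMask (sF 1) = true := by decide +kernel

theorem six_dom : ∀ r ∈ sixList, Nat.testBit p1Mask r = true := by decide +kernel

theorem broot_ok : tS.S bpos = broot ∧ broot ∈ e7List ∧ Nat.testBit p1Mask broot = true ∧
    Nat.testBit e7Mask broot = true ∧ ∃ r ∈ List.range 72, emb.getD r 0 = broot := by decide +kernel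

theorem e7_dom : ∀ r ∈ e7List, Nat.testBit e7Mask r = true := by decide +kernel

theorem lists_sub : 239 ∈ qList ∧ (∀ r ∈ qList, r ∈ sixList) := by decide +kernel

theorem embOK : ((List.range 72).all fun r => (List.range 72).all fun s => s == r || s == chevE6.neg r ||
    (L0.dist (emb.getD r 0) (emb.getD s 0) &&
      match chevE6.commTerms r s with
      | [] => L0.ct (emb.getD r 0) (emb.getD s 0) == none
      | [(k, c, 1, 1)] => L0.ct (emb.getD r 0) (emb.getD s 0) == some (emb.getD k 0, c) &&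
          L0.dom (emb.getD k 0)
      | _ => false)) = true := by decide +kernel

/-! ### the group -/

variable (F : Type*) [Field F]

/-- the relations in the group -/
def sys8 : Sys L0 F (chevE8.group F) := chevSys C8 single F

variable {F} [Fintype F] {V : Type} [AddCommGroup V] [Module ℂ V] [FiniteDimensional ℂ V]
  (σ : Representation ℂ (chevE8.group F) V)

/-- the eigenspace of one root for the character `t` -/
noncomputable def E1 (top : ℕ) (t : F) : Submodule ℂ V :=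
  Esp (mkRad (sys8 F) (fun _ : Fin 1 => top) (by simp [commOK, Rel.zero])) σ (fun _ => t)

theorem mem_E1 {top : ℕ} {t : F} {v : V} :
    v ∈ E1 σ top t ↔ ∀ a, σ ((sys8 F).x top a) v = SLMinDegree32.phi0 (t * a) • v := by
  rw [E1, mem_E]
  exact ⟨fun h a => h 0 a, fun h _ a => h a⟩

theorem torus_le {top δ : ℕ} (htop : top < 240) (hδ : δ < 240) (hp : chevE8.pairing δ top = 1) {t u : F}
    (ht : t ≠ 0) (hu : u ≠ 0) : finrank ℂ (E1 σ top t) ≤ finrank ℂ (E1 σ top u) := by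
  set c : F := t / u with hc
  have hc0 : c ≠ 0 := div_ne_zero ht hu
  set h : chevE8.group F := ⟨hg C8 δ c, ChevalleyPerfect.hg_mem_group C8 δ c⟩
  have hrel : ∀ a, h * (sys8 F).x top a = (sys8 F).x top (c * a) * h := fun a => Subtype.ext (by
    show hg C8 δ c * xg C8 top a = xg C8 top (c * a) * hg C8 δ c
    rw [hg_conj_xg C8 hδ htop hc0, hp, zpow_one])
  have hmap : ∀ v ∈ E1 σ top t, σ h v ∈ E1 σ top u := by
    intro v hv
    rw [mem_E1] at hv ⊢
    intro a
    have h2 := congrArg (fun g => σ g v) (hrel (a / c))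
    simp only [map_mul, Module.End.mul_apply, hv, map_smul] at h2
    rw [mul_div_cancel₀ a hc0] at h2
    rw [← h2]
    congr 2
    rw [hc]
    field_simp
  exact LinearMap.finrank_le_finrank_of_injective (f := (σ h).restrict hmap)
    fun x y e => Subtype.ext (rho_inj σ _ (congrArg Subtype.val e))

/-- the Heisenberg count -/
theorem heis (S : Fin 29 → ℕ) (hS : commOK L0 S = true) (js : List (ℕ × Fin 29))
    (hch : chainOK L0 S 0 [] [] js = true) (hlen : js.length = 28)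
    (hcov : ((List.finRange 29).all fun k => decide (k = 0) || (js.map Prod.snd).contains k) = true)
    {δ : ℕ} (htop : S 0 < 240) (hδ : δ < 240) (hp : chevE8.pairing δ (S 0) = 1)
    {a : F} {v : V} (hv : σ ((sys8 F).x (S 0) a) v ≠ v) :
    (∀ t : F, t ≠ 0 → Good (mkRad (sys8 F) S hS) σ 1 (Pi.single 0 t)) ∧
      ∀ (m : ℕ) (t : F), t ≠ 0 → Good (mkRad (sys8 F) S hS) σ m (Pi.single 0 t) →
        finrank ℂ (Fx (sys8 F) σ [S 0]) + m * ((Fintype.card F - 1) * Fintype.card F ^ 28) ≤ finrank ℂ V := by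
  classical
  set R := mkRad (sys8 F) S hS with hR
  set R1 := mkRad (sys8 F) (fun _ : Fin 1 => S 0) (by simp [commOK, Rel.zero]) with hR1
  simp only [List.all_eq_true, Bool.or_eq_true, decide_eq_true_eq, List.contains_iff_mem] at hcov
  obtain ⟨c, hc0, hc⟩ := exists_char (R := R1) (i := 0) hv
  have ht0 : c 0 ≠ 0 := fun e => hc0 (funext fun i => by rw [Subsingleton.elim i 0]; exact e)
  obtain ⟨w0, hw0, hw⟩ := exists_vec le_rfl hc
  have hw1 : w0 ∈ E1 σ (S 0) (c 0) := (mem_E1 σ).2 fun a => (mem_E R1 σ).1 hw 0 a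
  have hone : ∀ t : F, t ≠ 0 → Good R σ 1 (Pi.single 0 t) := by
    intro t ht
    haveI : Nontrivial (E1 σ (S 0) (c 0)) := ⟨⟨⟨w0, hw1⟩, 0, fun e => hw0 (congrArg Subtype.val e)⟩⟩
    have hpos : 0 < finrank ℂ (E1 σ (S 0) t) :=
      lt_of_lt_of_le finrank_pos (torus_le σ htop hδ hp ht0 ht)
    haveI : Nontrivial (E1 σ (S 0) t) := Module.nontrivial_of_finrank_pos (R := ℂ) hpos
    obtain ⟨⟨w, hw⟩, hwne⟩ := exists_ne (0 : E1 σ (S 0) t)
    obtain ⟨c1, hc1, hval⟩ := exists_ext (R := R) [0] (fun _ => t) (fun e => hwne (Subtype.ext e))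
      (fun j hj a => by obtain rfl := List.mem_singleton.1 hj; exact (mem_E1 σ).1 hw a)
    have h10 : c1 0 = t := hval 0 (by simp)
    obtain ⟨c2, hc2, -, hz, h20, -⟩ := kill (R := R) js [] hch c1 hc1 (by rw [h10]; exact ht) (by simp)
    convert hc2 using 1
    funext k
    by_cases hk : k = 0
    · subst hk; rw [Pi.single_eq_same, h20, h10]
    · rw [Pi.single_eq_of_ne hk]
      obtain ⟨p, hp, rfl⟩ := List.mem_map.1 ((hcov k (List.mem_finRange k)).resolve_left hk)
      exact (hz p hp).symm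
  refine ⟨hone, fun m t ht hm => ?_⟩
  obtain ⟨B, hB, hcard⟩ := spread (R := R) (σ := σ) ht (fun _ => 0) js [] hch {Pi.single 0 t} (fun d hd => by
    obtain rfl := Finset.mem_singleton.1 hd
    refine ⟨hm, by simp, fun p hp => Pi.single_eq_of_ne (fun e => ?_) _, by simp, by simp⟩
    have key : ∀ (js : List (ℕ × Fin 29)) Z, chainOK L0 R.S 0 [] Z js = true → ∀ q ∈ js, q.2 ≠ 0 := by
      intro js
      induction js with
      | nil => simp
      | cons q r ih =>
        intro Z hZ q' hq'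
        simp only [chainOK, Bool.and_eq_true] at hZ
        rcases List.mem_cons.1 hq' with rfl | hq'
        · exact (step_ne hZ.1).symm
        · exact ih _ hZ.2 q' hq'
    exact key _ _ hch p hp e)
  rw [Finset.card_singleton, mul_one, hlen] at hcard
  have hE : m * Fintype.card F ^ 28 ≤ finrank ℂ (E1 σ (S 0) t) := by
    refine le_trans (Nat.mul_le_mul_left m hcard) (le_sub (E1 σ (S 0) t) B fun d hd => ⟨(hB d hd).1, ?_⟩)
    intro x hx
    refine (mem_E1 σ).2 fun a => ?_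
    have := (mem_E R σ).1 hx 0 a
    rwa [(hB d hd).2.2.1] at this
  let B1 : Finset (Fin 1 → F) := (Finset.univ.filter fun x : F => x ≠ 0).image fun x => fun _ => x
  have hB1 : ∀ d ∈ B1, Good R1 σ (m * Fintype.card F ^ 28) d := by
    intro d hd
    obtain ⟨x, hx, rfl⟩ := Finset.mem_image.1 hd
    exact hE.trans (torus_le σ htop hδ hp ht (Finset.mem_filter.1 hx).2)
  have hle := le_dim (R := R1) (σ := σ) B1 hB1 (fun h => by
    obtain ⟨x, hx, hx'⟩ := Finset.mem_image.1 h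
    exact (Finset.mem_filter.1 hx).2 (congrFun hx' 0))
  have hcard1 : B1.card = Fintype.card F - 1 := by
    rw [Finset.card_image_of_injective _ (fun x y e => congrFun e (0 : Fin 1)), Finset.filter_ne',
      Finset.card_erase_of_mem (Finset.mem_univ _), Finset.card_univ]
  rw [hcard1] at hle
  have hFx : Fx (sys8 F) σ [S 0] ≤ Esp R1 σ 0 := fun x hx => (mem_fix R1 σ).2 fun i a => hx (S 0) (by simp) a
  calc _ ≤ finrank ℂ (Esp R1 σ 0) + m * ((Fintype.card F - 1) * Fintype.card F ^ 28) :=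
        Nat.add_le_add_right (Submodule.finrank_mono hFx) _
    _ = finrank ℂ (Esp R1 σ 0) + m * Fintype.card F ^ 28 * (Fintype.card F - 1) := by ring
    _ ≤ _ := hle

theorem move_exists (hnt : ∃ r ∈ List.range 240, ∃ t, σ ((sys8 F).x r t) ≠ 1) (K : List ℕ)
    (d : List (ℕ × ℕ × ℕ)) (hd : derivOK L0 (List.range 240) K d = true) :
    ∃ r ∈ K, ∃ a v, σ ((sys8 F).x r a) v ≠ v := by
  by_contra! hall
  obtain ⟨r, hr, t, hne⟩ := hnt
  exact hne (deriv_trivial (Y := sys8 F) (σ := σ) _ _ _ hd (fun s hs u => LinearMap.ext (hall s hs u)) r hr t)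

/-- invariance from a checked mask -/
theorem mask_inv {M : ℕ} {l : List ℕ} (h : ((List.range 240).all fun g => !(Nat.testBit M g) || fxOK L0 l g) = true)
    (hlt : M < 2 ^ 240) : ∀ r, (fun r => Nat.testBit M r) r = true →
      ∀ t, ∀ v ∈ Fx (sys8 F) σ l, σ ((sys8 F).x r t) v ∈ Fx (sys8 F) σ l := by
  intro r hr t v hv
  have hlt' : r < 240 := by
    by_contra hge
    have : Nat.testBit M r = false :=
      Nat.testBit_lt_two_pow (lt_of_lt_of_le hlt (Nat.pow_le_pow_right (by norm_num) (not_lt.1 hge)))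
    exact absurd (show Nat.testBit M r = true from hr) (by rw [this]; simp)
  simp only [List.all_eq_true, Bool.or_eq_true, Bool.not_eq_true'] at h
  refine fx_inv _ σ ((h r (List.mem_range.2 hlt')).resolve_left ?_) t hv
  simp only at hr
  simp [hr]

/-- the target -/
def T8 (q : ℕ) : ℕ := q ^ 29 + q ^ 23 + q ^ 19 + q ^ 17 + q ^ 13 + q ^ 11 + q ^ 7 + q

theorem pw {q i j : ℕ} (hq : 1 ≤ q) (h : i ≤ j) : q ^ i ≤ q ^ j := Nat.pow_le_pow_right hq h

theorem pw2 {q : ℕ} (hq : 2 ≤ q) (i j : ℕ) : 2 ^ j * q ^ i ≤ q ^ (i + j) := by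
  rw [pow_add, mul_comm (q ^ i)]
  exact Nat.mul_le_mul_right _ (Nat.pow_le_pow_left hq j)

theorem big32 {q N : ℕ} (hq : 2 ≤ q) (h : q ^ 32 ≤ N) : T8 q ≤ N := by
  have h1 : 8 * q ^ 29 ≤ q ^ 32 := pw2 hq 29 3
  have := pw (i := 23) (j := 29) (by omega : 1 ≤ q) (by norm_num); have := pw (i := 19) (j := 29) (by omega : 1 ≤ q) (by norm_num)
  have := pw (i := 17) (j := 29) (by omega : 1 ≤ q) (by norm_num); have := pw (i := 13) (j := 29) (by omega : 1 ≤ q) (by norm_num)
  have := pw (i := 11) (j := 29) (by omega : 1 ≤ q) (by norm_num); have := pw (i := 7) (j := 29) (by omega : 1 ≤ q) (by norm_num)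
  have := pw (i := 1) (j := 29) (by omega : 1 ≤ q) (by norm_num)
  simp only [T8, pow_one] at *
  omega

theorem big3 {q N : ℕ} (hq : 2 ≤ q) (h : 3 * ((q - 1) * q ^ 28) ≤ N) : T8 q ≤ N := by
  obtain ⟨p, rfl⟩ : ∃ p, q = p + 1 := ⟨q - 1, by omega⟩
  rw [Nat.add_sub_cancel] at h
  have e : (p + 1) ^ 29 + (p + 1) ^ 28 ≤ 3 * (p * (p + 1) ^ 28) := by
    rw [show (p + 1) ^ 29 + (p + 1) ^ 28 = (p + 2) * (p + 1) ^ 28 by ring, ← mul_assoc]
    exact Nat.mul_le_mul_right _ (by omega)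
  have h1 : 8 * (p + 1) ^ 23 ≤ (p + 1) ^ 28 := le_trans (pw2 hq 23 3) (pw (by omega) (by norm_num))
  have := pw (i := 19) (j := 23) (by omega : 1 ≤ p + 1) (by norm_num); have := pw (i := 17) (j := 23) (by omega : 1 ≤ p + 1) (by norm_num)
  have := pw (i := 13) (j := 23) (by omega : 1 ≤ p + 1) (by norm_num); have := pw (i := 11) (j := 23) (by omega : 1 ≤ p + 1) (by norm_num)
  have := pw (i := 7) (j := 23) (by omega : 1 ≤ p + 1) (by norm_num); have := pw (i := 1) (j := 23) (by omega : 1 ≤ p + 1) (by norm_num)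
  simp only [T8, pow_one] at *
  omega

theorem big14 {q N : ℕ} (hq : 2 ≤ q) (h : q ^ 16 * o14 q + 2 * o64 q ≤ N) : T8 q ≤ N := by
  have hA := o14_eq (q := q) (by omega)
  have hB := o64_eq (q := q) (by omega)
  have hA' : q ^ 16 * o14 q + (q ^ 22 + q ^ 16) = q ^ 29 + q ^ 23 := by
    rw [show q ^ 22 + q ^ 16 = q ^ 16 * (q ^ 6 + 1) by ring, ← mul_add, hA]; ring
  have h1 : 16 * q ^ 13 ≤ q ^ 17 := pw2 hq 13 4
  have := pw (i := 11) (j := 13) (by omega : 1 ≤ q) (by norm_num); have := pw (i := 9) (j := 13) (by omega : 1 ≤ q) (by norm_num)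
  have := pw (i := 7) (j := 13) (by omega : 1 ≤ q) (by norm_num); have := pw (i := 6) (j := 13) (by omega : 1 ≤ q) (by norm_num)
  have := pw (i := 5) (j := 13) (by omega : 1 ≤ q) (by norm_num); have := pw (i := 3) (j := 13) (by omega : 1 ≤ q) (by norm_num)
  have := pw (i := 1) (j := 13) (by omega : 1 ≤ q) (by norm_num); have := pw (i := 0) (j := 13) (by omega : 1 ≤ q) (by norm_num)
  simp only [T8, pow_one, pow_zero] at *
  omega

theorem big24 {q N : ℕ} (hq : 2 ≤ q) (h : (q - 1) * q ^ 28 + o56 q + q ^ 24 ≤ N) : T8 q ≤ N := by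
  have hA := o56_eq (q := q) (by omega)
  have hC : (q - 1) * q ^ 28 + q ^ 28 = q ^ 29 := by
    obtain ⟨p, rfl⟩ : ∃ p, q = p + 1 := ⟨q - 1, by omega⟩
    rw [Nat.add_sub_cancel]; ring
  have h1 : 16 * q ^ 17 ≤ q ^ 24 := le_trans (pw2 hq 17 4) (pw (by omega) (by norm_num))
  have := pw (i := 13) (j := 17) (by omega : 1 ≤ q) (by norm_num); have := pw (i := 11) (j := 17) (by omega : 1 ≤ q) (by norm_num)
  have := pw (i := 7) (j := 17) (by omega : 1 ≤ q) (by norm_num); have := pw (i := 9) (j := 17) (by omega : 1 ≤ q) (by norm_num)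
  have := pw (i := 5) (j := 17) (by omega : 1 ≤ q) (by norm_num)
  have := pw (i := 1) (j := 17) (by omega : 1 ≤ q) (by norm_num); have := pw (i := 0) (j := 17) (by omega : 1 ≤ q) (by norm_num)
  simp only [T8, pow_one, pow_zero] at *
  omega

theorem total {q N a b c : ℕ} (hq : 2 ≤ q) (h1 : a + (q - 1) * q ^ 28 ≤ N) (h2 : b + o56 q ≤ a)
    (h3 : c + o27 q ≤ b) (h4 : q ^ 11 + q ^ 8 + q ^ 7 + q ^ 5 + q ^ 4 + q ≤ c + 2) : T8 q ≤ N + 4 := by
  have hA := o56_eq (q := q) (by omega)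
  have hB := o27_eq (q := q) (by omega)
  have hC : (q - 1) * q ^ 28 + q ^ 28 = q ^ 29 := by
    obtain ⟨p, rfl⟩ : ∃ p, q = p + 1 := ⟨q - 1, by omega⟩
    rw [Nat.add_sub_cancel]; ring
  simp only [T8]
  omega

/-- the subgroup of the subsystem `E₆` -/
def G6 (F : Type*) [Field F] : Subgroup (chevE8.group F) :=
  Subgroup.closure {g | ∃ r ∈ List.range 72, ∃ t, g = (sys8 F).x (emb.getD r 0) t}

/-- the relations of `E₆` in the subgroup -/
def sys6 (F : Type*) [Field F] : RadicalChar68.Sys chevE6 (List.range 72) F (G6 F) where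
  x r t := if h : r ∈ List.range 72 then ⟨(sys8 F).x (emb.getD r 0) t, Subgroup.subset_closure ⟨r, h, t, rfl⟩⟩ else 1
  add r t u := by
    by_cases h : r ∈ List.range 72
    · simp only [dif_pos h]
      exact Subtype.ext ((sys8 F).add _ t u)
    · simp [h]
  comm0 r s h hc t u := by
    obtain ⟨h1, h2, -, -, h5, h6⟩ := E6MinDegree68.dist_spec h
    have he := List.all_eq_true.1 (List.all_eq_true.1 embOK r h1) s h2
    simp only [Bool.or_eq_true, beq_iff_eq, Bool.and_eq_true, hc] at he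
    rcases he with (he | he) | he
    · exact absurd he h5
    · exact absurd he h6
    · simp only [dif_pos h1, dif_pos h2]
      exact Subtype.ext ((sys8 F).comm0 _ _ he.1 he.2 t u).eq
  comm1 r s k c h hc hk t u := by
    obtain ⟨h1, h2, -, -, h5, h6⟩ := E6MinDegree68.dist_spec h
    have he := List.all_eq_true.1 (List.all_eq_true.1 embOK r h1) s h2
    simp only [Bool.or_eq_true, beq_iff_eq, Bool.and_eq_true, hc] at he
    rcases he with (he | he) | he
    · exact absurd he h5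
    · exact absurd he h6
    · simp only [dif_pos h1, dif_pos h2, dif_pos hk]
      exact Subtype.ext ((sys8 F).comm1 _ _ _ c he.1 he.2.1 he.2.2 t u)

end Cfsg.Agent.E8MinDegree68
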