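import Cfsg.Agent.Lib.RootChar68
import Cfsg.Agent.Lib.ChevalleyCore

/-!
Chevalley groups as systems for the character calculus, restriction to invariant subspaces, fixed spaces.
-/

set_option autoImplicit false
set_option linter.unusedSectionVars false
set_option linter.style.haveILetI false

namespace Cfsg.Agent.E8RootSys68

open Cfsg.Lie Cfsg.Agent.ChevalleyCert Cfsg.Agent.ChevalleyCore Cfsg.Agent.RootChar68 Module

/-- the table of a datum whose chains have length one -/
def chevRel (D : ChevalleyDatum) : Rel where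
  dom r := decide (r < D.nroots)
  pair r s := s != r && s != D.neg r
  ct r s := (D.chainEntry r s).head?

/-- all chains are single -/
def singleOK (D : ChevalleyDatum) : Bool :=
  (List.range D.nroots).all fun r => (D.chain.getD r #[]).toList.all fun e => decide (e.2.toList.length ≤ 1)

theorem chainEntry_le {D : ChevalleyDatum} (h : singleOK D = true) {r : ℕ} (hr : r < D.nroots) (s : ℕ) :
    (D.chainEntry r s).length ≤ 1 := by
  simp only [singleOK, List.all_eq_true, decide_eq_true_eq] at h
  rw [ChevalleyDatum.chainEntry]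
  split
  · simp
  · rename_i e he
    exact h r (List.mem_range.2 hr) e (List.mem_of_find?_eq_some he)

theorem commTerms_eq {D : ChevalleyDatum} (h : singleOK D = true) {r s : ℕ} (hr : r < D.nroots)
    (hs : s < D.nroots) :
    D.commTerms r s = match (D.chainEntry r s).head? with
      | none => []
      | some p => [(p.1, p.2, 1, 1)] := by
  have h1 := chainEntry_le h hr s
  have h2 := chainEntry_le h hs r
  have e1 : D.chainEntry r s = [] ∨ ∃ p, D.chainEntry r s = [p] := by
    rcases hl : D.chainEntry r s with _ | ⟨p, _ | ⟨q, l⟩⟩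
    · exact Or.inl rfl
    · exact Or.inr ⟨p, rfl⟩
    · rw [hl] at h1; simp at h1
  have n2 : ∀ j, D.chainRoot s r (j + 2) = none := fun j => by
    rw [ChevalleyDatum.chainRoot, List.getElem?_eq_none (by omega)]
    rfl
  have n1 : ∀ j, D.chainRoot r s (j + 2) = none := fun j => by
    rw [ChevalleyDatum.chainRoot, List.getElem?_eq_none (by omega)]
    rfl
  rcases e1 with e | ⟨p, e⟩
  · simp [ChevalleyDatum.commTerms, n1 0, n2 0, n1 1, n2 1, e,
      show D.chainRoot r s 1 = none by simp [ChevalleyDatum.chainRoot, e]]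
  · simp [ChevalleyDatum.commTerms, n1 0, n2 0, n1 1, n2 1, ChevalleyDatum.chainM, e,
      show D.chainRoot r s 1 = some p.1 by simp [ChevalleyDatum.chainRoot, e]]

/-- the group as a system -/
def chevSys {D : ChevalleyDatum} (C : Cert D) (h : singleOK D = true) (F : Type*) [Field F] :
    Sys (chevRel D) F (D.group F) where
  x r t := ⟨xg C r t, xg_mem_group C r t⟩
  add r t u := Subtype.ext (xg_mul C r t u)
  comm0 r s hd hc t u := by
    simp only [Rel.dist, chevRel, Bool.and_eq_true, decide_eq_true_eq, bne_iff_ne] at hd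
    obtain ⟨⟨h1, h2⟩, h3, h4⟩ := hd
    have ht : D.commTerms r s = [] := by
      rw [commTerms_eq h h1 h2, show (D.chainEntry r s).head? = none from hc]
    have hf := comm_formula (F := F) C h1 h2 h3 h4 t u
    simp only [ChevalleyDatum.commWord, ht, List.map_nil, wg, List.prod_nil, mul_one] at hf
    exact Subtype.ext hf.symm
  comm1 r s k c hd hc _ t u := by
    simp only [Rel.dist, chevRel, Bool.and_eq_true, decide_eq_true_eq, bne_iff_ne] at hd
    obtain ⟨⟨h1, h2⟩, h3, h4⟩ := hd
    have ht : D.commTerms r s = [(k, c, 1, 1)] := by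
      rw [commTerms_eq h h1 h2, show (D.chainEntry r s).head? = some (k, c) from hc]
    have hf := comm_formula (F := F) C h1 h2 h3 h4 t u
    simp only [ChevalleyDatum.commWord, ht, List.map_cons, List.map_nil, wg, List.prod_cons, List.prod_nil,
      mul_one, pow_one] at hf
    exact Subtype.ext hf

section Restrict

variable {L : Rel} {F : Type*} [Field F] {Γ : Type*} [Group Γ] {V : Type} [AddCommGroup V] [Module ℂ V]
  (Y : Sys L F Γ) (σ : Representation ℂ Γ V)

/-- the fixed space of some roots -/
def Fx (l : List ℕ) : Submodule ℂ V where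
  carrier := {v | ∀ s ∈ l, ∀ a, σ (Y.x s a) v = v}
  add_mem' := fun {x y} hx hy s hs a => by rw [map_add, hx s hs a, hy s hs a]
  zero_mem' := fun s _ a => map_zero _
  smul_mem' := fun r x hx s hs a => by rw [map_smul, hx s hs a]

theorem mem_Fx {l : List ℕ} {v : V} : v ∈ Fx Y σ l ↔ ∀ s ∈ l, ∀ a, σ (Y.x s a) v = v := Iff.rfl

/-- a root normalising the family -/
def fxOK (L : Rel) (l : List ℕ) (g : ℕ) : Bool :=
  l.all fun s => L.zero g s || (match L.ct g s with
    | none => false
    | some p => L.one g s p.1 && l.contains p.1)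

theorem fx_inv {l : List ℕ} {g : ℕ} (h : fxOK L l g = true) (t : F) {v : V} (hv : v ∈ Fx Y σ l) :
    σ (Y.x g t) v ∈ Fx Y σ l := by
  intro s hs a
  simp only [fxOK, List.all_eq_true, Bool.or_eq_true] at h
  rcases h s hs with h1 | h1
  · rw [← Module.End.mul_apply, ← map_mul, ← (Y.comm_zero h1 t a).eq, map_mul, Module.End.mul_apply, hv s hs]
  · cases hc : L.ct g s with
    | none => rw [hc] at h1; exact absurd h1 (by simp)
    | some p =>
      simp only [hc, Bool.and_eq_true, List.contains_iff_mem] at h1
      obtain ⟨c, -, -, hrel⟩ := Y.comm_one h1.1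
      rw [← Module.End.mul_apply, ← map_mul, hrel, map_mul, map_mul, Module.End.mul_apply,
        Module.End.mul_apply, hv p.1 h1.2, hv s hs]

variable {W : Submodule ℂ V} (dom : ℕ → Bool) (hinv : ∀ r, dom r = true → ∀ t, ∀ v ∈ W, σ (Y.x r t) v ∈ W)

/-- a root element on an invariant subspace -/
def resUnit (r : ℕ) (t : F) : (Module.End ℂ W)ˣ :=
  if h : dom r = true then
    { val := (σ (Y.x r t)).restrict (hinv r h t)
      inv := (σ (Y.x r (-t))).restrict (hinv r h (-t))
      val_inv := LinearMap.ext fun v => Subtype.ext (by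
        show σ (Y.x r t) (σ (Y.x r (-t)) (v : V)) = v
        rw [← Module.End.mul_apply, ← map_mul, Y.add, add_neg_cancel, Y.x_zero, map_one]; rfl)
      inv_val := LinearMap.ext fun v => Subtype.ext (by
        show σ (Y.x r (-t)) (σ (Y.x r t) (v : V)) = v
        rw [← Module.End.mul_apply, ← map_mul, Y.add, neg_add_cancel, Y.x_zero, map_one]; rfl) }
  else 1

theorem resUnit_apply {r : ℕ} (h : dom r = true) (t : F) (v : W) :
    (((resUnit Y σ dom hinv r t : (Module.End ℂ W)ˣ) : Module.End ℂ W) v : V) = σ (Y.x r t) v := by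
  rw [resUnit, dif_pos h]
  rfl

variable (K : List ℕ) (hK : ∀ k ∈ K, L.dom k = true ∧ ∀ t, ∀ v ∈ W, σ (Y.x k t) v = v)

/-- the system on an invariant subspace, roots acting trivially erased -/
def resSys : Sys (L.erase dom K) F (Module.End ℂ W)ˣ where
  x := resUnit Y σ dom hinv
  add r t u := by
    by_cases h : dom r = true
    · refine Units.ext (LinearMap.ext fun v => Subtype.ext ?_)
      rw [Units.val_mul, Module.End.mul_apply, resUnit_apply Y σ dom hinv h, resUnit_apply Y σ dom hinv h,
        resUnit_apply Y σ dom hinv h, ← Module.End.mul_apply, ← map_mul, Y.add]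
    · simp [resUnit, h]
  comm0 r s hd hc t u := by
    simp only [Rel.dist, Rel.erase, Bool.and_eq_true] at hd
    obtain ⟨⟨⟨h1, g1⟩, h2, g2⟩, hp⟩ := hd
    have hd' : L.dist r s = true := by simp [Rel.dist, g1, g2, hp]
    refine Units.ext (LinearMap.ext fun v => Subtype.ext ?_)
    rw [Units.val_mul, Units.val_mul, Module.End.mul_apply, Module.End.mul_apply, resUnit_apply Y σ dom hinv h1,
      resUnit_apply Y σ dom hinv h2, resUnit_apply Y σ dom hinv h2, resUnit_apply Y σ dom hinv h1,
      ← Module.End.mul_apply, ← Module.End.mul_apply, ← map_mul, ← map_mul]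
    cases hct : L.ct r s with
    | none => rw [(Y.comm0 r s hd' hct t u).eq]
    | some p =>
      obtain ⟨k, c⟩ := p
      have hk : k ∈ K := by simpa [Rel.erase, hct] using hc
      rw [Y.comm1 r s k c hd' hct (hK k hk).1 t u, map_mul _ (Y.x r t * Y.x s u), Module.End.mul_apply,
        (hK k hk).2 _ _ v.2]
  comm1 r s k c hd hc hk t u := by
    simp only [Rel.dist, Rel.erase, Bool.and_eq_true] at hd hk
    obtain ⟨⟨⟨h1, g1⟩, h2, g2⟩, hp⟩ := hd
    have hd' : L.dist r s = true := by simp [Rel.dist, g1, g2, hp]
    have hct : L.ct r s = some (k, c) := by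
      simp only [Rel.erase, Option.bind_eq_some_iff] at hc
      obtain ⟨p, hp', hp''⟩ := hc
      split at hp''
      · exact absurd hp'' (by simp)
      · rw [hp', Option.some.inj hp'']
    refine Units.ext (LinearMap.ext fun v => Subtype.ext ?_)
    simp only [Units.val_mul, Module.End.mul_apply]
    rw [resUnit_apply Y σ dom hinv h2, resUnit_apply Y σ dom hinv h1, resUnit_apply Y σ dom hinv h1,
      resUnit_apply Y σ dom hinv h2, resUnit_apply Y σ dom hinv hk.1, ← Module.End.mul_apply, ← map_mul,
      Y.comm1 r s k c hd' hct hk.2 t u, map_mul, map_mul, Module.End.mul_apply, Module.End.mul_apply]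

/-- the tautological representation -/
noncomputable def taut (W : Submodule ℂ V) : Representation ℂ (Module.End ℂ W)ˣ W := Units.coeHom _

theorem taut_x {r : ℕ} (h : dom r = true) (t : F) (v : W) :
    ((taut W ((resSys Y σ dom hinv K hK).x r t) v : W) : V) = σ (Y.x r t) v :=
  resUnit_apply Y σ dom hinv h t v

variable [Fintype F] [FiniteDimensional ℂ V]

/-- fixed spaces inside the subspace -/
theorem finrank_Fx_le {n : ℕ} (R : Rad (resSys Y σ dom hinv K hK) n) (l : List ℕ)
    (hl : Fx Y σ l ≤ W) (hS : ∀ i, dom (R.S i) = true ∧ R.S i ∈ l) :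
    finrank ℂ (Fx Y σ l) ≤ finrank ℂ (Esp R (taut W) 0) := by
  let f : Fx Y σ l →ₗ[ℂ] W := Submodule.inclusion hl
  have hf : ∀ x, f x ∈ Esp R (taut W) 0 := fun x => (mem_fix R _).2 fun i a => Subtype.ext (by
    rw [taut_x Y σ dom hinv K hK (hS i).1]
    exact x.2 (R.S i) (hS i).2 a)
  refine LinearMap.finrank_le_finrank_of_injective (f := f.codRestrict _ hf) fun a b e => ?_
  exact Submodule.inclusion_injective hl (congrArg Subtype.val e)

end Restrict

end Cfsg.Agent.E8RootSys68
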