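import Mathlib
import Cfsg.Prelude.Def_Local
import Cfsg.Agent.Lib.HallCore
import Cfsg.Agent.Lib.HallConstrained
import Cfsg.Agent.Lib.TransferAlperin
import Cfsg.Agent.Lib.AlperinTame
import Cfsg.Agent.Lib.CharPBasic

/-!
# Groups of early characteristic two type: the core of S3244, given the Z*-theorem
-/

set_option autoImplicit false
open Cfsg

namespace Cfsg.Agent.EarlyCharTwoType62



open Cfsg.Agent.HallCore Cfsg.Agent.HallConstrained

lemma eq_one_of_odd_of_two {H : Type*} [Group H] [Finite H] {P Y : Subgroup H} (hP : IsPGroup 2 P)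
    (hY : Odd (Nat.card Y)) {g : H} (hgP : g ∈ P) (hgY : g ∈ Y) : g = 1 := by
  obtain ⟨k, hk⟩ := IsPGroup.iff_card.1 hP
  have h1 : orderOf g ∣ 2 ^ k := hk ▸ Subgroup.orderOf_dvd_natCard P hgP
  have h2 : orderOf g ∣ Nat.card Y := Subgroup.orderOf_dvd_natCard Y hgY
  exact orderOf_eq_one_iff.1 (Nat.eq_one_of_dvd_coprimes
    ((Nat.coprime_two_left.2 hY).pow_left k) h1 h2)

lemma normalizer_zpowers_involution {H : Type*} [Group H] {e : H} (he : orderOf e = 2) :
    Subgroup.normalizer (Subgroup.zpowers e : Set H) = Subgroup.centralizer ({e} : Set H) := by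
  ext x
  rw [Subgroup.mem_centralizer_singleton_iff]
  constructor
  · intro hx
    have h := (Subgroup.mem_normalizer_iff.1 hx e).1 (Subgroup.mem_zpowers e)
    obtain ⟨k, hk⟩ := Subgroup.mem_zpowers_iff.1 h
    rw [← zpow_mod_orderOf, he] at hk
    rcases Int.emod_two_eq_zero_or_one k with h0 | h0
    · rw [show ((2 : ℕ) : ℤ) = 2 from rfl, h0, zpow_zero, eq_comm, mul_inv_eq_one] at hk
      have : e = 1 := mul_eq_left.1 hk
      rw [this, orderOf_one] at he
      omega
    · rw [show ((2 : ℕ) : ℤ) = 2 from rfl, h0, zpow_one, eq_mul_inv_iff_mul_eq] at hk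
      exact hk.symm
  · intro hx
    rw [Subgroup.mem_normalizer_iff]
    have hk : ∀ k : ℤ, x * e ^ k * x⁻¹ = e ^ k := fun k => by
      rw [(Commute.zpow_right hx k).eq, mul_inv_cancel_right]
    intro h
    constructor
    · intro hh
      obtain ⟨k, rfl⟩ := Subgroup.mem_zpowers_iff.1 hh
      rw [hk]; exact hh
    · intro hh
      obtain ⟨k, hk'⟩ := Subgroup.mem_zpowers_iff.1 hh
      refine Subgroup.mem_zpowers_iff.2 ⟨k, ?_⟩
      rw [← hk k] at hk'
      exact mul_left_cancel (mul_right_cancel hk')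

/-- Involution-fixed part of an odd subgroup normalized by `C(t)` in a group of characteristic 2. -/
lemma fixed_trivial {G : Type*} [Group G] [Finite G] (z t : G) (ht : orderOf t = 2)
    (htz : t * z = z * t)
    (hC : Subgroup.centralizer
        (Cfsg.pCore 2 ↥(Subgroup.centralizer ({z} : Set G)) : Set ↥(Subgroup.centralizer ({z} : Set G)))
          ≤ Cfsg.pCore 2 ↥(Subgroup.centralizer ({z} : Set G)))
    (X : Subgroup G) (hX : Odd (Nat.card X)) (hXt : ∀ x ∈ X, x * t = t * x)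
    (hXz : ∀ x ∈ X, x * z = z * x)
    (hn : ∀ y : G, y * z = z * y → y * t = t * y → ∀ x ∈ X, y * x * y⁻¹ ∈ X) : X = ⊥ := by
  set C := Subgroup.centralizer ({z} : Set G) with hCdef
  have hXC : X ≤ C := fun x hx => Subgroup.mem_centralizer_singleton_iff.2 (hXz x hx)
  let tt : C := ⟨t, Subgroup.mem_centralizer_singleton_iff.2 htz⟩
  set P := Cfsg.pCore 2 ↥C with hP
  haveI : P.Normal := Cfsg.Agent.HallCore.pCore_normal 2 ↥C
  have hPp : IsPGroup 2 P := Cfsg.Agent.HallCore.isPGroup_pCore 2 ↥C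
  rw [Subgroup.eq_bot_iff_forall]
  intro x hx
  let xx : C := ⟨x, hXC hx⟩
  have hY : Odd (Nat.card (X.subgroupOf C)) := by
    rwa [Nat.card_congr (Subgroup.subgroupOfEquivOfLe hXC).toEquiv]
  have hxY : xx ∈ X.subgroupOf C := hx
  have hQ : IsPGroup 2 (Subgroup.zpowers tt) := IsPGroup.of_card (n := 1) (by
    rw [Nat.card_zpowers, pow_one, ← ht, ← Subgroup.orderOf_coe tt])
  have hall : ∀ y ∈ P, Commute xx y := by
    refine Cfsg.Agent.CharPBasic.commute_of_centralizes_fixed hPp hQ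
      (le_top.trans (Subgroup.normalizer_eq_top_iff.2 inferInstance).ge) ?_ ?_ ?_ ?_
    · rw [← Subgroup.orderOf_coe xx]
      exact Nat.coprime_two_right.2 (hX.of_dvd_nat (Subgroup.orderOf_dvd_natCard X hx))
    · exact (Subgroup.normalizer_eq_top_iff.2 (inferInstance : P.Normal)).ge (Subgroup.mem_top _)
    · intro q hq
      obtain ⟨k, rfl⟩ := Subgroup.mem_zpowers_iff.1 hq
      exact Commute.zpow_right (Subtype.ext (hXt x hx)) k
    · intro y hy hyt
      have hy' : (y : G) * t = t * y :=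
        (congrArg Subtype.val (hyt tt (Subgroup.mem_zpowers tt)).eq).symm
      have h1 : y * xx * y⁻¹ * xx⁻¹ = 1 := by
        refine eq_one_of_odd_of_two hPp hY ?_ ?_
        · rw [mul_assoc, mul_assoc]
          refine P.mul_mem hy ?_
          rw [← mul_assoc]
          exact Subgroup.Normal.conj_mem ‹_› _ (P.inv_mem hy) xx
        · refine Subgroup.mul_mem _ ?_ (Subgroup.inv_mem _ hxY)
          exact hn y (Subgroup.mem_centralizer_singleton_iff.1 y.2) hy' x hx
      rw [mul_inv_eq_one, mul_inv_eq_iff_eq_mul] at h1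
      exact h1.symm
  have h2 : xx = 1 := eq_one_of_odd_of_two hPp hY
    (hC fun y hy => (hall y hy).eq.symm) hxY
  exact congrArg Subtype.val h2

lemma exists_invariant_sylow {M : Type*} [Group M] [Finite M] (hM : Cfsg.IsPConstrained 2 M)
    (U : Sylow 2 M) :
    ∃ P : Subgroup M, P ≤ (U : Subgroup M) ⊓ Cfsg.pPrimePCore 2 M ∧
      P ⊔ Cfsg.pPrimeCore 2 M = Cfsg.pPrimePCore 2 M ∧
      Subgroup.centralizer (P : Set M) ≤ Cfsg.pPrimePCore 2 M := by
  haveI hn : (Cfsg.pPrimePCore 2 M).Normal :=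
    (Cfsg.Agent.HallCore.pCore_normal 2 _).comap _
  haveI : (Cfsg.pPrimeCore 2 M).Normal := Cfsg.Agent.HallCore.pPrimeCore_normal 2 M
  obtain ⟨P0⟩ : Nonempty (Sylow 2 ↥(Cfsg.pPrimePCore 2 M)) := inferInstance
  obtain ⟨Q, hQ⟩ := P0.exists_comap_subtype_eq
  obtain ⟨g, hg⟩ := MulAction.exists_smul_eq M Q U
  have hfix : ∀ N : Subgroup M, N.Normal → N.map (MulAut.conj g).toMonoidHom = N := by
    intro N hN
    ext x
    constructor
    · rintro ⟨y, hy, rfl⟩
      exact hN.conj_mem y hy g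
    · intro hx
      refine ⟨g⁻¹ * x * g, by simpa using hN.conj_mem x hx g⁻¹, ?_⟩
      simp only [MulEquiv.coe_toMonoidHom, MulAut.conj_apply]
      group
  refine ⟨(sylImg P0).map (MulAut.conj g).toMonoidHom, le_inf ?_ ?_, ?_, ?_⟩
  · rintro x ⟨y, ⟨v, hv, rfl⟩, rfl⟩
    rw [← hg]
    have hvQ : (v : M) ∈ (Q : Subgroup M) := by
      rw [← hQ] at hv
      exact hv
    exact ⟨(v : M), hvQ, rfl⟩
  · exact (Subgroup.map_mono (Subgroup.map_subtype_le _)).trans (hfix _ hn).le
  · calc (sylImg P0).map (MulAut.conj g).toMonoidHom ⊔ Cfsg.pPrimeCore 2 M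
        = (sylImg P0 ⊔ Cfsg.pPrimeCore 2 M).map (MulAut.conj g).toMonoidHom := by
          rw [Subgroup.map_sup, hfix (Cfsg.pPrimeCore 2 M) inferInstance]
      _ = _ := by rw [sylImg_sup, hfix _ hn]
  · intro x hx
    have h1 : g⁻¹ * x * g ∈ Subgroup.centralizer (sylImg P0 : Set M) := by
      intro y hy
      have h3 : g * y * g⁻¹ * x = x * (g * y * g⁻¹) := hx _ ⟨y, hy, rfl⟩
      calc y * (g⁻¹ * x * g) = g⁻¹ * (g * y * g⁻¹ * x) * g := by group
        _ = g⁻¹ * (x * (g * y * g⁻¹)) * g := by rw [h3]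
        _ = _ := by group
    have h2 := hn.conj_mem _ (hM P0 h1) g
    have e : g * (g⁻¹ * x * g) * g⁻¹ = x := by group
    rwa [e] at h2

lemma le_of_normalizer_inf_le {G : Type*} [Group G] [Finite G] {R T : Subgroup G}
    (hR : IsPGroup 2 R) (hTR : T ≤ R) (h : R ⊓ Subgroup.normalizer (T : Set G) ≤ T) : R ≤ T := by
  rcases eq_or_lt_of_le hTR with e | e
  · exact e.ge
  · exact absurd h (Cfsg.Agent.AlperinTame.lt_normalizer_inf hR e).not_ge

lemma unique_involution {H : Type*} [Group H] [Finite H] (hc : IsCyclic H) {a b : H}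
    (ha : a * a = 1) (hb : b * b = 1) (ha1 : a ≠ 1) (hb1 : b ≠ 1) : a = b := by
  classical
  have := Fintype.ofFinite H
  have h := hc.card_pow_eq_one_le (α := H) (n := 2) (by norm_num)
  by_contra hne
  have h3 : ({1, a, b} : Finset H) ⊆ ({x : H | x ^ 2 = 1} : Finset H) := by
    intro x hx
    simp only [Finset.mem_insert, Finset.mem_singleton] at hx
    rcases hx with rfl | rfl | rfl <;> simp [pow_two, ha, hb]
  have := Finset.card_le_card h3
  rw [Finset.card_eq_three.2 ⟨1, a, b, ha1.symm, hb1.symm, hne, rfl⟩] at this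
  omega

lemma inverts_of_fpf {H : Type*} [Group H] [Finite H] (X : Subgroup H) (e : H) (he : e * e = 1)
    (hn : ∀ x ∈ X, e * x * e ∈ X) (hf : ∀ x ∈ X, e * x * e = x → x = 1) :
    ∀ x ∈ X, e * x * e = x⁻¹ := by
  have hinv : e⁻¹ = e := inv_eq_of_mul_eq_one_right he
  let f : X → X := fun x => ⟨(x : H)⁻¹ * (e * x * e), X.mul_mem (X.inv_mem x.2) (hn x x.2)⟩
  have finj : Function.Injective f := by
    rintro ⟨a, ha⟩ ⟨b, hb⟩ hab
    have h : a⁻¹ * (e * a * e) = b⁻¹ * (e * b * e) := congrArg Subtype.val hab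
    have h2 := hf (b * a⁻¹) (X.mul_mem hb (X.inv_mem ha)) (by
      calc e * (b * a⁻¹) * e = (e * b * e) * (e * a * e)⁻¹ := by
            rw [mul_inv_rev, mul_inv_rev, hinv]; simp [← mul_assoc]; rw [mul_assoc (e * b) e e, he, mul_one]
        _ = b * (b⁻¹ * (e * b * e)) * (e * a * e)⁻¹ := by group
        _ = b * (a⁻¹ * (e * a * e)) * (e * a * e)⁻¹ := by rw [h]
        _ = b * a⁻¹ := by group)
    exact Subtype.ext (mul_inv_eq_one.1 h2).symm
  intro y hy
  obtain ⟨⟨x, hx⟩, hxy⟩ := (Finite.injective_iff_surjective.1 finj) ⟨y, hy⟩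
  have h : x⁻¹ * (e * x * e) = y := congrArg Subtype.val hxy
  rw [← h, mul_inv_rev, mul_inv_rev, mul_inv_rev, hinv, inv_inv]
  simp only [← mul_assoc]
  rw [mul_assoc _ e e, he, mul_one]

/-- The statement of S3244 from Glauberman's Z*-theorem. -/
theorem exists_noncyclic_centre.{v} (ZSTAR : ∀ {G : Type v} [Group G] [Finite G] (P : Sylow 2 G) (u : G) (hu : orderOf u = 2) (huP : u ∈ (P : Subgroup G)) (hiso : ∀ g : G, g * u * g⁻¹ ∈ (P : Subgroup G) → g * u * g⁻¹ = u), ∃ N : Subgroup G, N.Normal ∧ Odd (Nat.card N) ∧ ∀ g : G, (u * g * u⁻¹ * g⁻¹) ∈ N)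
    {G : Type v} [Group G] [Finite G] [IsSimpleGroup G]
    (hG : ¬ IsMulCommutative G) (S : Sylow 2 G) (A : Subgroup G) (hA : Cfsg.IsSCN (S : Subgroup G) A) (hA3 : ¬ Cfsg.PRankLE 2 2 ↥A)
    (hinv : ∀ X : Subgroup G, Odd (Nat.card ↥X) → (S : Subgroup G) ≤ Subgroup.normalizer (X : Set G) → X = ⊥)
    (hcon : ∀ T : Subgroup G, IsPGroup 2 ↥T → T ≠ ⊥ → Cfsg.IsPConstrained 2 ↥(Subgroup.normalizer (T : Set G))) :
    ∃ M : Subgroup G, Cfsg.IsMaximalTwoLocal M ∧ ¬ IsCyclic ↥(Subgroup.center ↥(Cfsg.pCore 2 ↥M)) := by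
  classical
  by_contra hno
  simp only [not_exists, not_and, not_not] at hno
  -- the central involution of the Sylow subgroup
  have hSne : Nontrivial ↥(S : Subgroup G) := by
    rw [Subgroup.nontrivial_iff_ne_bot]
    intro hb
    apply hA3
    intro B _ _
    have hA1 : Nat.card A = 1 := Subgroup.card_eq_one.2 (le_bot_iff.1 (hA.1.trans hb.le))
    have := Nat.le_of_dvd (by omega) (hA1 ▸ Subgroup.card_subgroup_dvd_card B)
    omega
  obtain ⟨z', hz'⟩ := exists_prime_orderOf_dvd_card' (G := Subgroup.center ↥(S : Subgroup G)) 2 (by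
    obtain ⟨k, hk, hk'⟩ := (S.isPGroup'.to_subgroup (Subgroup.center ↥(S : Subgroup G))).nontrivial_iff_card.mp
      S.isPGroup'.center_nontrivial
    exact hk' ▸ dvd_pow_self 2 hk.ne')
  set z : G := ((z' : ↥(S : Subgroup G)) : G) with hzdef
  have hoz : orderOf z = 2 := by rw [← hz', Subgroup.orderOf_coe, Subgroup.orderOf_coe]
  have hz1 : z ≠ 1 := fun h => by rw [h, orderOf_one] at hoz; omega
  have hz2 : z * z = 1 := by rw [← pow_two, ← hoz]; exact pow_orderOf_eq_one z
  have hzS : z ∈ (S : Subgroup G) := (z' : ↥(S : Subgroup G)).2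
  have hzc : ∀ s ∈ (S : Subgroup G), s * z = z * s := fun s hs =>
    congrArg Subtype.val (Subgroup.mem_center_iff.1 z'.2 ⟨s, hs⟩)
  have hzp : IsPGroup 2 (Subgroup.zpowers z) :=
    IsPGroup.of_card (n := 1) (by rw [Nat.card_zpowers, hoz, pow_one])
  have hzne : Subgroup.zpowers z ≠ ⊥ := by rw [Ne, Subgroup.zpowers_eq_bot]; exact hz1
  have hCc : Cfsg.IsPConstrained 2 ↥(Subgroup.centralizer ({z} : Set G)) := by
    have := hcon _ hzp hzne
    rwa [normalizer_zpowers_involution hoz] at this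
  have hCO : Cfsg.pPrimeCore 2 ↥(Subgroup.centralizer ({z} : Set G)) = ⊥ := by
    set C := Subgroup.centralizer ({z} : Set G) with hC
    haveI := Cfsg.Agent.HallCore.pPrimeCore_normal 2 ↥C
    have hX := hinv ((Cfsg.pPrimeCore 2 ↥C).map C.subtype) (by
      rw [Subgroup.card_map_of_injective C.subtype_injective]
      exact Nat.coprime_two_right.1 (coprime_card_pPrimeCore 2 ↥C)) (by
      intro s hs
      have hsC : s ∈ C := Subgroup.mem_centralizer_singleton_iff.2 (hzc s hs)
      rw [Subgroup.mem_normalizer_iff]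
      intro x
      constructor
      · rintro ⟨y, hy, rfl⟩
        exact ⟨⟨s, hsC⟩ * y * ⟨s, hsC⟩⁻¹, Subgroup.Normal.conj_mem ‹_› y hy _, rfl⟩
      · rintro ⟨y, hy, hxy⟩
        refine ⟨⟨s, hsC⟩⁻¹ * y * ⟨s, hsC⟩, by
          simpa using Subgroup.Normal.conj_mem ‹_› y hy (⟨s, hsC⟩ : C)⁻¹, ?_⟩
        simp only [Subgroup.coe_subtype, Subgroup.coe_mul, Subgroup.coe_inv] at hxy ⊢
        rw [hxy]; group)
    exact (Subgroup.map_eq_bot_iff_of_injective _ C.subtype_injective).1 hX
  have hCcen := (isPConstrained_iff_of_bot hCO).1 hCc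
  -- normalizers of radical subgroups fix `z`
  have key : ∀ T : Subgroup G, T ≤ (S : Subgroup G) →
      TransferAlperin.IsFullyNormalized 2 (S : Subgroup G) T →
      (S : Subgroup G) ⊓ Subgroup.centralizer (T : Set G) ≤ T →
      (∀ D : Subgroup G, D ≤ Subgroup.normalizer (T : Set G) →
        Subgroup.normalizer (T : Set G) ≤ Subgroup.normalizer (D : Set G) → IsPGroup 2 D → D ≤ T) →
      ∀ c ∈ Subgroup.normalizer (T : Set G), c * z * c⁻¹ = z := by
    intro T hTS hfn hcent hrad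
    set N := Subgroup.normalizer (T : Set G) with hN
    have hTp : IsPGroup 2 T := S.isPGroup'.to_le hTS
    have hzT : z ∈ T := hcent ⟨hzS, fun s hs => hzc s (hTS hs)⟩
    have hT1 : T ≠ ⊥ := fun h => hz1 (by rwa [h, Subgroup.mem_bot] at hzT)
    have hzZT : ∀ s ∈ T, s * z = z * s := fun s hs => hzc s (hTS hs)
    have hTN : T ≤ N := Subgroup.le_normalizer
    obtain ⟨M, hMm⟩ := (Set.toFinite {M : Subgroup G | Cfsg.IsTwoLocal M ∧ N ≤ M}).exists_maximal
      ⟨N, ⟨T, hTp, hT1, rfl⟩, le_rfl⟩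
    have hNM : N ≤ M := hMm.1.2
    have hmax : Cfsg.IsMaximalTwoLocal M := ⟨hMm.1.1, fun K hK hle =>
      le_antisymm (hMm.le_of_ge ⟨hK, hNM.trans hle⟩ hle) hle⟩
    have hTM : T ≤ M := hTN.trans hNM
    obtain ⟨TM, hTMp, hTM1, hMeq⟩ := hMm.1.1
    have hMc : Cfsg.IsPConstrained 2 ↥M := by rw [hMeq]; exact hcon TM hTMp hTM1
    set Q := Cfsg.pCore 2 ↥M with hQ
    haveI hQn : Q.Normal := Cfsg.Agent.HallCore.pCore_normal 2 ↥M
    have hQp : IsPGroup 2 Q := Cfsg.Agent.HallCore.isPGroup_pCore 2 ↥M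
    -- normal subgroups of `M` meet `N` in normal subgroups of `N`
    have hnormN : ∀ H : Subgroup ↥M, H.Normal →
        N ≤ Subgroup.normalizer ((H.map M.subtype ⊓ N : Subgroup G) : Set G) := by
      intro H hH n hn
      have : ∀ m ∈ N, ∀ x ∈ H.map M.subtype ⊓ N, m * x * m⁻¹ ∈ H.map M.subtype ⊓ N := by
        rintro m hm x ⟨⟨y, hy, rfl⟩, hxN⟩
        exact ⟨⟨⟨m, hNM hm⟩ * y * ⟨m, hNM hm⟩⁻¹, hH.conj_mem y hy _, rfl⟩,
          N.mul_mem (N.mul_mem hm hxN) (N.inv_mem hm)⟩
      rw [Subgroup.mem_normalizer_iff]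
      intro x
      refine ⟨this n hn x, fun hx => ?_⟩
      simpa [mul_assoc] using this n⁻¹ (N.inv_mem hn) _ hx
    have hle2 : ∀ H : Subgroup ↥M, H.Normal → ∀ R : Subgroup ↥M, IsPGroup 2 R → T.subgroupOf M ≤ R →
        IsPGroup 2 ↥(H.map M.subtype ⊓ N) → ∀ Y : Subgroup ↥M, Y ≤ R → Y ≤ H →
        (∀ y ∈ Y, ∀ s : ↥M, (s : G) ∈ T → s * y * s⁻¹ ∈ Y) → Y ≤ T.subgroupOf M := by
      intro H hH R hR hTR hD Y hYR hYH hYn
      have hD' := hrad _ inf_le_right (hnormN H hH) hD
      have hT' : T.subgroupOf M ≤ Subgroup.normalizer (Y : Set ↥M) := by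
        intro s hs
        rw [Subgroup.mem_normalizer_iff]
        intro y
        refine ⟨fun hy => hYn y hy s hs, fun hy => ?_⟩
        simpa [mul_assoc] using hYn _ hy s⁻¹ (by simpa using T.inv_mem hs)
      have hsupR : Y ⊔ T.subgroupOf M ≤ R := sup_le hYR hTR
      have h := le_of_normalizer_inf_le (hR.to_le hsupR) le_sup_right ?_
      · exact le_sup_left.trans h
      rintro x ⟨hx, hxn⟩
      have hx' : x ∈ ((Y ⊔ T.subgroupOf M : Subgroup ↥M) : Set ↥M) := hx
      rw [Subgroup.coe_mul_of_right_le_normalizer_left Y _ hT'] at hx'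
      obtain ⟨y, hy, s, hs, rfl⟩ := Set.mem_mul.1 hx'
      have hyN : y ∈ Subgroup.normalizer ((T.subgroupOf M : Subgroup ↥M) : Set ↥M) := by
        have := Subgroup.mul_mem _ hxn (Subgroup.inv_mem _ (Subgroup.le_normalizer hs))
        rwa [mul_inv_cancel_right] at this
      have hyNG : (y : G) ∈ N := by
        rw [hN, Subgroup.mem_normalizer_iff]
        intro a
        constructor
        · intro ha
          exact (Subgroup.mem_normalizer_iff.1 hyN ⟨a, hTM ha⟩).1 ha
        · intro ha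
          have hyM := y.2
          have haM : a ∈ M := by
            have := M.mul_mem (M.mul_mem (M.inv_mem hyM) (hTM ha)) hyM
            simpa [mul_assoc] using this
          exact (Subgroup.mem_normalizer_iff.1 hyN ⟨a, haM⟩).2 ha
      exact Subgroup.mul_mem _ (hD' ⟨⟨y, hYH hy, rfl⟩, hyNG⟩) hs
    obtain ⟨U, hU⟩ := ((hTp.comap_of_injective M.subtype M.subtype_injective :
      IsPGroup 2 ↥(T.subgroupOf M))).exists_le_sylow
    have hQT : Q ≤ T.subgroupOf M := by
      have hR : IsPGroup 2 ↥(Q ⊔ T.subgroupOf M) :=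
        hQp.to_sup_of_normal_left (hTp.comap_of_injective M.subtype M.subtype_injective)
      exact hle2 Q hQn _ hR le_sup_right ((hQp.map _).to_le inf_le_left) Q le_sup_left le_rfl
        (fun y hy s _ => hQn.conj_mem y hy s)
    -- the involution of `Z(O₂(M))`
    have hcyc := hno M hmax
    have hQne : Q ≠ ⊥ := by
      intro hb
      apply hTM1
      have hle : TM ≤ M := hMeq ▸ Subgroup.le_normalizer
      have hn : (TM.subgroupOf M).Normal := by
        subst hMeq; exact Subgroup.normal_in_normalizer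
      have h := Cfsg.Agent.HallCore.le_pCore (N := TM.subgroupOf M)
        (hTMp.comap_of_injective M.subtype M.subtype_injective)
      rw [← hQ, hb, le_bot_iff, Subgroup.subgroupOf_eq_bot, disjoint_iff, inf_eq_left.2 hle] at h
      exact h
    haveI : Nontrivial Q := (Subgroup.nontrivial_iff_ne_bot Q).2 hQne
    obtain ⟨t', ht'⟩ := exists_prime_orderOf_dvd_card' (G := Subgroup.center Q) 2 (by
      obtain ⟨k, hk, hk'⟩ := (hQp.to_subgroup (Subgroup.center Q)).nontrivial_iff_card.mp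
        hQp.center_nontrivial
      exact hk' ▸ dvd_pow_self 2 hk.ne')
    set t : G := (((t' : Q) : ↥M) : G) with htdef
    have hot : orderOf t = 2 := by
      rw [← ht', Subgroup.orderOf_coe, Subgroup.orderOf_coe, Subgroup.orderOf_coe]
    have ht'1 : t' ≠ 1 := fun h => by rw [h, orderOf_one] at ht'; omega
    have ht'2 : t' * t' = 1 := by rw [← pow_two, ← ht']; exact pow_orderOf_eq_one t'
    have ht2 : t * t = 1 := by rw [← pow_two, ← hot]; exact pow_orderOf_eq_one t
    have huniq : ∀ w : ↥M, ∀ hw : w ∈ Q, (∀ q ∈ Q, q * w = w * q) → w * w = 1 → w = 1 ∨ (w : G) = t := by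
      intro w hw hwc hw2
      by_cases hw1 : w = 1
      · exact Or.inl hw1
      let wc : Subgroup.center Q := ⟨⟨w, hw⟩, Subgroup.mem_center_iff.2 fun q =>
        Subtype.ext (hwc q q.2)⟩
      have := unique_involution hcyc (a := wc) (b := t') (Subtype.ext (Subtype.ext hw2)) ht'2
        (fun h => hw1 (congrArg (fun x : Subgroup.center Q => ((x : Q) : ↥M)) h)) ht'1
      exact Or.inr (congrArg (fun x : Subgroup.center Q => (((x : Q) : ↥M) : G)) this)
    have htc : ∀ m ∈ M, m * t = t * m := by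
      intro m hm
      set tM : ↥M := ((t' : Q) : ↥M) with htM
      have h1 := huniq (⟨m, hm⟩ * tM * ⟨m, hm⟩⁻¹) (hQn.conj_mem _ (t' : Q).2 _) (by
        intro q hq
        have hq' : (⟨m, hm⟩ : ↥M)⁻¹ * q * ⟨m, hm⟩ ∈ Q := by
          simpa using hQn.conj_mem q hq (⟨m, hm⟩ : ↥M)⁻¹
        have hcq : ((⟨m, hm⟩ : ↥M)⁻¹ * q * ⟨m, hm⟩) * tM = tM * ((⟨m, hm⟩ : ↥M)⁻¹ * q * ⟨m, hm⟩) :=
          congrArg Subtype.val (Subgroup.mem_center_iff.1 t'.2 ⟨_, hq'⟩)
        calc q * (⟨m, hm⟩ * tM * ⟨m, hm⟩⁻¹)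
            = ⟨m, hm⟩ * (((⟨m, hm⟩ : ↥M)⁻¹ * q * ⟨m, hm⟩) * tM) * ⟨m, hm⟩⁻¹ := by group
          _ = ⟨m, hm⟩ * (tM * ((⟨m, hm⟩ : ↥M)⁻¹ * q * ⟨m, hm⟩)) * ⟨m, hm⟩⁻¹ := by rw [hcq]
          _ = _ := by group) (by
        apply Subtype.ext
        show m * t * m⁻¹ * (m * t * m⁻¹) = 1
        calc m * t * m⁻¹ * (m * t * m⁻¹) = m * (t * t) * m⁻¹ := by group
          _ = 1 := by rw [ht2]; group)
      rcases h1 with h1 | h1
      · exfalso
        have h3 : m * t * m⁻¹ = 1 := congrArg Subtype.val h1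
        rw [mul_inv_eq_one, mul_eq_left] at h3
        rw [h3, orderOf_one] at hot
        omega
      · exact mul_inv_eq_iff_eq_mul.1 h1
    have htT : t ∈ T := hQT (t' : Q).2
    have hMt : Subgroup.centralizer ({t} : Set G) = M := by
      have hle : M ≤ Subgroup.centralizer ({t} : Set G) := fun m hm =>
        Subgroup.mem_centralizer_singleton_iff.2 (htc m hm)
      exact hmax.2 _ ⟨Subgroup.zpowers t, IsPGroup.of_card (n := 1)
        (by rw [Nat.card_zpowers, hot, pow_one]),
        by rw [Ne, Subgroup.zpowers_eq_bot]; intro h; rw [h, orderOf_one] at hot; omega,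
        (normalizer_zpowers_involution hot).symm⟩ hle
    -- `z` acts fixed point freely on `O(M)`
    set OM := (Cfsg.pPrimeCore 2 ↥M).map M.subtype with hOM
    haveI hOn : (Cfsg.pPrimeCore 2 ↥M).Normal := Cfsg.Agent.HallCore.pPrimeCore_normal 2 ↥M
    have hOodd : Odd (Nat.card OM) := by
      rw [hOM, Subgroup.card_map_of_injective M.subtype_injective]
      exact Nat.coprime_two_right.1 (coprime_card_pPrimeCore 2 ↥M)
    have hOMM : OM ≤ M := Subgroup.map_subtype_le _
    have hOnorm : ∀ m ∈ M, ∀ x ∈ OM, m * x * m⁻¹ ∈ OM := by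
      rintro m hm x ⟨y, hy, rfl⟩
      exact ⟨⟨m, hm⟩ * y * ⟨m, hm⟩⁻¹, hOn.conj_mem y hy _, rfl⟩
    have hX : OM ⊓ Subgroup.centralizer ({z} : Set G) = ⊥ := by
      refine fixed_trivial z t hot (hzZT t htT) hCcen _
        (hOodd.of_dvd_nat (Subgroup.card_dvd_of_le inf_le_left))
        (fun x hx => htc x (hOMM hx.1))
        (fun x hx => Subgroup.mem_centralizer_singleton_iff.1 hx.2) ?_
      intro y hyz hyt x hx
      have hyM : y ∈ M := hMt ▸ Subgroup.mem_centralizer_singleton_iff.2 hyt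
      have hyz' : y ∈ Subgroup.centralizer ({z} : Set G) :=
        Subgroup.mem_centralizer_singleton_iff.2 hyz
      exact ⟨hOnorm y hyM x hx.1,
        Subgroup.mul_mem _ (Subgroup.mul_mem _ hyz' hx.2) (Subgroup.inv_mem _ hyz')⟩
    have hfix : ∀ x ∈ OM, x * z = z * x → x = 1 := fun x hx h =>
      Subgroup.eq_bot_iff_forall _ |>.1 hX x ⟨hx, Subgroup.mem_centralizer_singleton_iff.2 h⟩
    -- the Sylow subgroup of `O_{2',2}(M)`
    obtain ⟨P, hP, hPsup, hPcen⟩ := exists_invariant_sylow hMc U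
    set O22 := Cfsg.pPrimePCore 2 ↥M with hO22
    haveI h22n : O22.Normal := (Cfsg.Agent.HallCore.pCore_normal 2 _).comap _
    have hUO : (U : Subgroup ↥M) ⊓ O22 ≤ T.subgroupOf M := by
      refine hle2 O22 h22n _ U.isPGroup' hU ?_ _ inf_le_left inf_le_right ?_
      · rintro ⟨d, ⟨y, hy, hyd⟩, hdN⟩
        obtain ⟨k, hk⟩ := (Cfsg.Agent.HallCore.isPGroup_pCore 2 (↥M ⧸ Cfsg.pPrimeCore 2 ↥M))
          ⟨_, hy⟩
        have hk' : y ^ 2 ^ k ∈ Cfsg.pPrimeCore 2 ↥M :=
          (QuotientGroup.eq_one_iff _).1 (congrArg Subtype.val hk)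
        refine ⟨k, Subtype.ext ?_⟩
        have hdO : d ^ 2 ^ k ∈ OM := ⟨_, hk', by rw [map_pow, hyd]⟩
        have hdN' : d ^ 2 ^ k ∈ N := N.pow_mem hdN _
        refine hfix _ hdO ?_
        have hc : (d ^ 2 ^ k) * z * (d ^ 2 ^ k)⁻¹ * z⁻¹ = 1 := by
          refine eq_one_of_odd_of_two hTp hOodd
            (T.mul_mem ((Subgroup.mem_normalizer_iff.1 hdN' z).1 hzT) (T.inv_mem hzT)) ?_
          rw [mul_assoc, mul_assoc]
          refine OM.mul_mem hdO ?_
          rw [← mul_assoc]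
          exact hOnorm z (hTM hzT) _ (OM.inv_mem hdO)
        rw [mul_inv_eq_one, mul_inv_eq_iff_eq_mul] at hc
        exact hc
      · intro y hy s hs
        refine ⟨?_, h22n.conj_mem y hy.2 s⟩
        exact (U : Subgroup ↥M).mul_mem ((U : Subgroup ↥M).mul_mem (hU hs) hy.1)
          ((U : Subgroup ↥M).inv_mem (hU hs))
    -- conjugates of `z` under `N`
    have hconj : ∀ n ∈ N, n * z * n⁻¹ = z ∨ n * z * n⁻¹ = z * t := by
      intro n hn
      set y := n * z * n⁻¹ with hy
      have hyT : y ∈ T := (Subgroup.mem_normalizer_iff.1 hn z).1 hzT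
      have hyZ : ∀ s ∈ T, s * y = y * s := by
        intro s hs
        have hs' : n⁻¹ * s * n ∈ T :=
          (Subgroup.mem_normalizer_iff.1 hn _).2 (by simpa [mul_assoc] using hs)
        calc s * y = n * ((n⁻¹ * s * n) * z) * n⁻¹ := by rw [hy]; group
          _ = n * (z * (n⁻¹ * s * n)) * n⁻¹ := by rw [hzZT _ hs']
          _ = _ := by rw [hy]; group
      have hy2 : y * y = 1 := by
        calc y * y = n * (z * z) * n⁻¹ := by rw [hy]; group
          _ = 1 := by rw [hz2]; group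
      set zM : ↥M := ⟨z, hTM hzT⟩
      set yM : ↥M := ⟨y, hTM hyT⟩
      have hin : ∀ a : ↥M, (a : G) ∈ T → (∀ s ∈ T, s * (a : G) = a * s) → a ∈ O22 := by
        intro a _ hac
        exact hPcen fun p hp => Subtype.ext (hac p (hUO (hP hp)))
      have hw22 : zM * yM ∈ O22 := O22.mul_mem (hin zM hzT hzZT) (hin yM hyT hyZ)
      have hz_inv := inverts_of_fpf OM z hz2
        (fun x hx => by
          have := hOnorm z (hTM hzT) x hx
          rwa [inv_eq_of_mul_eq_one_right hz2] at this)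
        (fun x hx h => hfix x hx (by
          calc x * z = z * x * z * z := by rw [h]
            _ = z * x * (z * z) := by group
            _ = z * x := by rw [hz2, mul_one]))
      have hy_inv : ∀ x ∈ OM, y * x * y = x⁻¹ := by
        intro x hx
        have hnM : n ∈ M := hNM hn
        have hx' : n⁻¹ * x * n ∈ OM := by simpa using hOnorm n⁻¹ (M.inv_mem hnM) x hx
        have hni := inv_eq_of_mul_eq_one_right hz2
        calc y * x * y = n * (z * (n⁻¹ * x * n) * z) * n⁻¹ := by rw [hy]; group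
          _ = n * (n⁻¹ * x * n)⁻¹ * n⁻¹ := by rw [hz_inv _ hx']
          _ = x⁻¹ := by group
      have hwO : ∀ x ∈ Cfsg.pPrimeCore 2 ↥M, x * (zM * yM) = (zM * yM) * x := by
        intro x hx
        apply Subtype.ext
        show (x : G) * (z * y) = z * y * x
        have hxO : (x : G) ∈ OM := ⟨x, hx, rfl⟩
        have h1 := hy_inv _ hxO
        have h2 := hz_inv _ (OM.inv_mem hxO)
        rw [inv_inv] at h2
        have hyi : y⁻¹ = y := inv_eq_of_mul_eq_one_right hy2
        calc (x : G) * (z * y) = z * (x : G)⁻¹ * z * (z * y) := by rw [h2]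
          _ = z * (x : G)⁻¹ * (z * z) * y := by group
          _ = z * (y * x * y) * y := by rw [hz2, h1]; group
          _ = z * y * x * (y * y) := by group
          _ = z * y * x := by rw [hy2, mul_one]
      have hwP : ∀ p ∈ P, p * (zM * yM) = (zM * yM) * p := by
        intro p hp
        apply Subtype.ext
        show (p : G) * (z * y) = z * y * p
        have hpT : (p : G) ∈ T := hUO (hP hp)
        rw [← mul_assoc, hzZT _ hpT, mul_assoc, hyZ _ hpT, ← mul_assoc]
      have hwZ : O22 ≤ Subgroup.centralizer ({zM * yM} : Set ↥M) := by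
        rw [← hPsup]
        exact sup_le (fun p hp => Subgroup.mem_centralizer_singleton_iff.2 (hwP p hp))
          (fun x hx => Subgroup.mem_centralizer_singleton_iff.2 (hwO x hx))
      have hw2 : (zM * yM) * (zM * yM) = 1 := by
        apply Subtype.ext
        show z * y * (z * y) = 1
        rw [mul_assoc, ← mul_assoc y, ← hzZT y hyT |>.symm] <;> try rfl
        calc z * (z * y * y) = (z * z) * (y * y) := by group
          _ = 1 := by rw [hz2, hy2, one_mul]
      let W : Subgroup ↥M :=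
        { carrier := {v | v ∈ O22 ∧ (∀ u ∈ O22, u * v = v * u) ∧ v * v = 1}
          one_mem' := ⟨O22.one_mem, fun u _ => by simp, one_mul 1⟩
          mul_mem' := by
            rintro a b ⟨ha, hac, ha2⟩ ⟨hb, hbc, hb2⟩
            refine ⟨O22.mul_mem ha hb, fun u hu => by
              rw [← mul_assoc, hac u hu, mul_assoc, hbc u hu, mul_assoc], ?_⟩
            rw [mul_assoc, ← mul_assoc b, hac b hb, mul_assoc a b b, hb2, mul_one, ha2]
          inv_mem' := by
            rintro a ⟨ha, hac, ha2⟩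
            rw [inv_eq_of_mul_eq_one_right ha2]
            exact ⟨ha, hac, ha2⟩ }
      have hWn : W.Normal := ⟨fun v ⟨hv, hvc, hv2⟩ g => by
        refine ⟨h22n.conj_mem v hv g, fun u hu => ?_, ?_⟩
        · have hu' : g⁻¹ * u * g ∈ O22 := by simpa using h22n.conj_mem u hu g⁻¹
          calc u * (g * v * g⁻¹) = g * ((g⁻¹ * u * g) * v) * g⁻¹ := by group
            _ = g * (v * (g⁻¹ * u * g)) * g⁻¹ := by rw [hvc _ hu']
            _ = _ := by group
        · calc g * v * g⁻¹ * (g * v * g⁻¹) = g * (v * v) * g⁻¹ := by group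
            _ = 1 := by rw [hv2]; group⟩
      have hWp : IsPGroup 2 W := fun v => ⟨1, Subtype.ext (by
        show (v : ↥M) ^ 2 ^ 1 = 1
        rw [pow_one, pow_two]; exact v.2.2.2)⟩
      have hwQ : zM * yM ∈ Q := Cfsg.Agent.HallCore.le_pCore (N := W) hWp
        ⟨hw22, fun u hu => Subgroup.mem_centralizer_singleton_iff.1 (hwZ hu), hw2⟩
      have hwQc : ∀ q ∈ Q, q * (zM * yM) = (zM * yM) * q := fun q hq => by
        apply Subtype.ext
        show (q : G) * (z * y) = z * y * q
        have hqT : (q : G) ∈ T := hQT hq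
        rw [← mul_assoc, hzZT _ hqT, mul_assoc, hyZ _ hqT, ← mul_assoc]
      rcases huniq _ hwQ hwQc hw2 with h | h
      · left
        have h' : z * y = 1 := congrArg Subtype.val h
        exact (mul_left_cancel (hz2.trans h'.symm)).symm
      · right
        have h' : z * y = t := h
        rw [← h', ← mul_assoc, hz2, one_mul]
    intro n hn
    rcases hconj n hn with h | h
    · exact h
    -- `n` would give a subgroup of index 2 containing a Sylow subgroup of `N`
    exfalso
    have hne : z * t ≠ z := fun e => by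
      rw [mul_eq_left] at e; rw [e, orderOf_one] at hot; omega
    let H : Subgroup ↥N := (Subgroup.centralizer ({z} : Set G)).subgroupOf N
    have hH : ∀ a : ↥N, a ∈ H ↔ (a : G) * z * (a : G)⁻¹ = z := fun a => by
      rw [Subgroup.mem_subgroupOf, Subgroup.mem_centralizer_singleton_iff, mul_inv_eq_iff_eq_mul]
    have hi : H.index = 2 := by
      rw [Subgroup.index_eq_two_iff]
      refine ⟨⟨n, hn⟩, fun b => ?_⟩
      have hbt : (b : G) * (z * t) * (b : G)⁻¹ = (b : G) * z * (b : G)⁻¹ * t := by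
        calc (b : G) * (z * t) * (b : G)⁻¹ = (b : G) * z * (t * (b : G)⁻¹) := by group
          _ = (b : G) * z * ((b : G)⁻¹ * t) := by rw [← htc _ (M.inv_mem (hNM b.2))]
          _ = _ := by group
      have hb2 : ((b : G) * n) * z * ((b : G) * n)⁻¹ = (b : G) * z * (b : G)⁻¹ * t := by
        rw [← hbt, ← h]; group
      rw [hH, hH]
      show Xor' (((b : G) * n) * z * ((b : G) * n)⁻¹ = z) ((b : G) * z * (b : G)⁻¹ = z)
      rw [hb2]
      rcases hconj b b.2 with hb | hb <;> rw [hb]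
      · exact Or.inr ⟨rfl, hne⟩
      · exact Or.inl ⟨by rw [mul_assoc, ht2, mul_one], hne⟩
    obtain ⟨R⟩ : Nonempty (Sylow 2 ↥N) := inferInstance
    obtain ⟨c, hc, hcR⟩ := hfn ((R : Subgroup ↥N).map N.subtype) (Subgroup.map_subtype_le _)
      (R.isPGroup'.map _)
    have hRH : ((⟨c, hc⟩ : ↥N) • R : Sylow 2 ↥N) ≤ H := by
      rintro _ ⟨r, hr, rfl⟩
      rw [hH]
      have hS : c * (r : G) * c⁻¹ ∈ (S : Subgroup G) :=
        hcR (TransferAlperin.conj_mem_cj ⟨r, hr, rfl⟩)
      show c * (r : G) * c⁻¹ * z * (c * (r : G) * c⁻¹)⁻¹ = z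
      rw [hzc _ hS, mul_inv_cancel_right]
    have h1 := Subgroup.index_dvd_of_le hRH
    rw [hi] at h1
    exact Sylow.not_dvd_index _ h1
  -- `z` is isolated in `S`
  have hiso : ∀ g : G, g * z * g⁻¹ ∈ (S : Subgroup G) → g * z * g⁻¹ = z := by
    let Φ : Subgroup G → G → Prop := fun T g =>
      (z ∈ T → g * z * g⁻¹ = z) ∧ (g⁻¹ * z * g ∈ T → g⁻¹ * z * g = z)
    have main := TransferAlperin.alperin_induction_centric S Φ
      (trans := fun T g k _ _ _ h1 h2 => ⟨fun hz => by
          have e1 := h1.1 hz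
          have hzg : z ∈ TransferAlperin.cj g T := e1 ▸ TransferAlperin.conj_mem_cj hz
          calc k * g * z * (k * g)⁻¹ = k * (g * z * g⁻¹) * k⁻¹ := by group
            _ = z := by rw [e1, h2.1 hzg],
        fun hk => by
          have e : g⁻¹ * (k⁻¹ * z * k) * g = (k * g)⁻¹ * z * (k * g) := by group
          have e2 := h2.2 (TransferAlperin.mem_cj.2 (e ▸ hk))
          rw [← e, e2] at hk ⊢
          exact h1.2 hk⟩)
      (inv := fun T g _ _ h => ⟨fun hz => by
          rw [inv_inv]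
          exact h.2 (TransferAlperin.mem_cj.1 hz),
        fun hz => by
          rw [inv_inv] at hz ⊢
          refine h.1 ?_
          have := TransferAlperin.mem_cj.1 hz
          simpa [mul_assoc] using this⟩)
      (mono := fun U T g hUT _ _ h => ⟨fun hz => h.1 (hUT hz), fun hz => h.2 (hUT hz)⟩)
      (cent := fun T _ c hc => ⟨fun hz => by rw [← hc z hz, mul_inv_cancel_right],
        fun hz => by
          have e := hc _ hz
          have e' : z = c⁻¹ * z * c := mul_left_cancel (a := c⁻¹) (by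
            calc c⁻¹ * z = (c⁻¹ * z * c) * c⁻¹ := by group
              _ = c⁻¹ * (c * (c⁻¹ * z * c)) * c⁻¹ := by group
              _ = c⁻¹ * ((c⁻¹ * z * c) * c) * c⁻¹ := by rw [e]
              _ = c⁻¹ * (c⁻¹ * z * c) := by group)
          exact e'.symm⟩)
      (base := fun T hT hfn hcent hrad _ c hc _ =>
        ⟨fun _ => key T hT hfn hcent hrad c hc, fun _ => by
          have := key T hT hfn hcent hrad c⁻¹ (Subgroup.inv_mem _ hc)
          rwa [inv_inv] at this⟩)
    intro g hg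
    refine (main (Subgroup.zpowers z) g (Subgroup.zpowers_le.2 hzS) ?_).1 (Subgroup.mem_zpowers z)
    rw [TransferAlperin.cj, MonoidHom.map_zpowers, Subgroup.zpowers_le]
    simpa using hg
  obtain ⟨K, hKn, hKodd, hK⟩ := ZSTAR S z hoz hzS hiso
  rcases hKn.eq_bot_or_eq_top with hb | hb
  · have hzcen : z ∈ Subgroup.center G := Subgroup.mem_center_iff.2 fun g => by
      have := hK g
      rw [hb, Subgroup.mem_bot, mul_inv_eq_one, mul_inv_eq_iff_eq_mul] at this
      exact this.symm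
    rcases (inferInstance : (Subgroup.center G).Normal).eq_bot_or_eq_top with hc | hc
    · exact hz1 (by rwa [hc, Subgroup.mem_bot] at hzcen)
    · exact hG ⟨⟨fun a b => (Subgroup.mem_center_iff.1 (hc.ge (Subgroup.mem_top b)) a)⟩⟩
  · rw [hb, Subgroup.card_top] at hKodd
    have : 2 ∣ Nat.card G := hoz ▸ orderOf_dvd_natCard z
    exact (Nat.not_even_iff_odd.2 hKodd) (even_iff_two_dvd.2 this)

end Cfsg.Agent.EarlyCharTwoType62
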