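import Mathlib

/-!
# The decomposition numbers of a principal block with an automiser of order 21

A table of integers `a`, `v 0`, `v 1`, `v 2` satisfying the orthogonality relations of such a block
does not exist.
-/

set_option autoImplicit false

namespace Cfsg.Agent.EightAutomizer56Arith

variable {ι : Type*} [Fintype ι] [DecidableEq ι]

/-- The support of a column. -/
def supp (u : ι → ℤ) : Finset ι := Finset.univ.filter fun x => u x ≠ 0

omit [DecidableEq ι] in
theorem mem_supp {u : ι → ℤ} {x : ι} : x ∈ supp u ↔ u x ≠ 0 := by simp [supp]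

theorem entry {a u : ι → ℤ} (ha : ∀ x, 0 < a x) (hau : ∑ x, a x * u x = 0)
    (huu : ∑ x, u x * u x = 4) (x : ι) : u x = -1 ∨ u x = 0 ∨ u x = 1 := by
  by_contra hx
  push Not at hx
  have h4 : 4 ≤ u x * u x := by
    rcases lt_or_ge (u x) 0 with h | h
    · nlinarith [show u x ≤ -2 by omega]
    · nlinarith [show 2 ≤ u x by omega]
  have hrest : ∀ y, y ≠ x → u y = 0 := by
    intro y hy
    have h := Finset.add_sum_erase Finset.univ (fun z => u z * u z) (Finset.mem_univ x)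
    rw [huu] at h
    have h0 : ∑ z ∈ Finset.univ.erase x, u z * u z = 0 := by
      have := Finset.sum_nonneg (s := Finset.univ.erase x) (f := fun z => u z * u z)
        fun z _ => mul_self_nonneg (u z)
      omega
    exact mul_self_eq_zero.1 ((Finset.sum_eq_zero_iff_of_nonneg fun z _ => mul_self_nonneg (u z)).1 h0 y
      (by simp [hy]))
  rw [Finset.sum_eq_single x (fun y _ hy => by simp [hrest y hy]) (by simp)] at hau
  rcases mul_eq_zero.1 hau with h | h
  · exact (ha x).ne' h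
  · exact hx.2.1 h

theorem card_supp {a u : ι → ℤ} (ha : ∀ x, 0 < a x) (hau : ∑ x, a x * u x = 0)
    (huu : ∑ x, u x * u x = 4) : (supp u).card = 4 := by
  have h : ((supp u).card : ℤ) = ∑ x, u x * u x := by
    rw [supp, Finset.natCast_card_filter]
    refine Finset.sum_congr rfl fun x _ => ?_
    rcases entry ha hau huu x with h | h | h <;> simp [h]
  rw [huu] at h
  exact_mod_cast h

/-- Two columns of norm 4 with product 2 agree on the two rows they share. -/
theorem agree {a u w : ι → ℤ} (ha : ∀ x, 0 < a x) (hau : ∑ x, a x * u x = 0)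
    (haw : ∑ x, a x * w x = 0) (huu : ∑ x, u x * u x = 4) (hww : ∑ x, w x * w x = 4)
    (huw : ∑ x, u x * w x = 2) :
    (supp u ∩ supp w).card = 2 ∧ ∀ x, u x ≠ 0 → w x ≠ 0 → u x = w x := by
  set I := supp u ∩ supp w with hI
  set D := I.filter fun x => u x ≠ w x with hD
  have hmemI : ∀ x, x ∈ I ↔ u x ≠ 0 ∧ w x ≠ 0 := fun x => by simp [hI, mem_supp]
  have hIs : ∑ x ∈ I, u x * w x = 2 := by
    rw [← huw]
    refine Finset.sum_subset (Finset.subset_univ _) fun x _ hx => ?_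
    rw [hmemI] at hx
    rw [mul_eq_zero]
    tauto
  have hval : ∀ x ∈ I, u x * w x = 1 - 2 * (if u x ≠ w x then 1 else 0) := by
    intro x hx
    obtain ⟨h1, h2⟩ := (hmemI x).1 hx
    rcases entry ha hau huu x with h | h | h <;> rcases entry ha haw hww x with h' | h' | h' <;>
      simp_all
  rw [Finset.sum_congr rfl hval, Finset.sum_sub_distrib, ← Finset.mul_sum,
    ← Finset.natCast_card_filter, Finset.sum_const, nsmul_eq_mul, mul_one, ← hD] at hIs
  have hIu : I.card ≤ (supp u).card := Finset.card_le_card Finset.inter_subset_left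
  have hIw : I.card ≤ (supp w).card := Finset.card_le_card Finset.inter_subset_right
  rw [card_supp ha hau huu] at hIu
  rw [card_supp ha haw hww] at hIw
  have hD1 : D.card ≤ 1 := by omega
  rcases Nat.eq_zero_or_pos D.card with h0 | h0
  · refine ⟨by omega, fun x h1 h2 => ?_⟩
    by_contra hne
    exact Finset.notMem_empty x ((Finset.card_eq_zero.1 h0) ▸
      (Finset.mem_filter.2 ⟨(hmemI x).2 ⟨h1, h2⟩, hne⟩ : x ∈ D))
  · exfalso
    obtain ⟨x0, hx0⟩ := Finset.card_eq_one.1 (by omega : D.card = 1)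
    have hI4 : I.card = 4 := by omega
    have hu : I = supp u :=
      Finset.eq_of_subset_of_card_le Finset.inter_subset_left (by rw [card_supp ha hau huu, hI4])
    have hw : I = supp w :=
      Finset.eq_of_subset_of_card_le Finset.inter_subset_right (by rw [card_supp ha haw hww, hI4])
    have hoff : ∀ x, x ≠ x0 → u x = w x := by
      intro x hx
      by_cases hxI : x ∈ I
      · by_contra hne
        exact hx (Finset.mem_singleton.1 (hx0 ▸ (Finset.mem_filter.2 ⟨hxI, hne⟩ : x ∈ D)))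
      · have h1 : u x = 0 := by
          by_contra h
          exact hxI (hu ▸ mem_supp.2 h)
        have h2 : w x = 0 := by
          by_contra h
          exact hxI (hw ▸ mem_supp.2 h)
        rw [h1, h2]
    have hsum : ∑ x, a x * (u x - w x) = a x0 * (u x0 - w x0) :=
      Finset.sum_eq_single x0 (fun x _ hx => by simp [hoff x hx]) (by simp)
    simp only [mul_sub, Finset.sum_sub_distrib, hau, haw, sub_self] at hsum
    have hne : u x0 ≠ w x0 :=
      (Finset.mem_filter.1 (hx0 ▸ Finset.mem_singleton_self x0 : x0 ∈ D)).2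
    rw [← mul_sub] at hsum
    rcases mul_eq_zero.1 hsum.symm with h | h
    · exact (ha x0).ne' h
    · exact hne (sub_eq_zero.1 h)

theorem roots {X P Q : ℤ} (hX : X ≠ 0) (hX1 : X ≠ -1) (hP : P ≠ 0) (hQ : Q ≠ 0)
    (h1 : 1 + X = P + Q) (h2 : 1 + (1 : ℚ) / X = 1 / P + 1 / Q) : P = 1 ∨ Q = 1 := by
  have hX' : (X : ℚ) ≠ 0 := by exact_mod_cast hX
  have hP' : (P : ℚ) ≠ 0 := by exact_mod_cast hP
  have hQ' : (Q : ℚ) ≠ 0 := by exact_mod_cast hQ
  field_simp at h2
  have h3 : (X + 1) * (P * Q) = X * (P + Q) := by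
    have : ((X + 1 : ℤ) : ℚ) * (P * Q) = (X : ℚ) * (P + Q) := by push_cast; linarith
    exact_mod_cast this
  rw [← h1, mul_comm X (1 + X), add_comm X 1] at h3
  have hPQ : P * Q = X := mul_left_cancel₀ (by omega) h3
  have h4 : (P - 1) * (Q - 1) = 0 := by linear_combination hPQ + h1
  rcases mul_eq_zero.1 h4 with h | h <;> omega

theorem mixed {C D F : ℤ} (hC : C ≠ 0) (hD : D ≠ 0) (hF : F ≠ 0) (hF1 : F ≠ 1)
    (hC8 : (8 : ℤ) ∣ C - 2) (hCneg : C < 0 → C ≤ -14)
    (h1 : 1 + C = D + F) (h2 : 1 + (4 : ℚ) / C = 4 / D + 1 / F) : False := by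
  have hC' : (C : ℚ) ≠ 0 := by exact_mod_cast hC
  have hD' : (D : ℚ) ≠ 0 := by exact_mod_cast hD
  have hF' : (F : ℚ) ≠ 0 := by exact_mod_cast hF
  field_simp at h2
  have h3 : C * D * F + 4 * D * F = 4 * C * F + C * D := by
    have : ((C * D * F + 4 * D * F : ℤ) : ℚ) = ((4 * C * F + C * D : ℤ) : ℚ) := by
      push_cast; linarith
    exact_mod_cast this
  have h4 : (C * D - 4 * F) * (F - 1) = 0 := by linear_combination h3 + (4 * F) * h1
  rcases mul_eq_zero.1 h4 with h | h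
  · have h5 : (C + 4) * (D - 4) = -12 := by linear_combination h - 4 * h1
    have h6 : (C + 4) ∣ (12 : ℤ) := ⟨-(D - 4), by linarith⟩
    have h7 : C + 4 ≤ 12 := Int.le_of_dvd (by norm_num) h6
    have h8 : -(C + 4) ≤ 12 := Int.le_of_dvd (by norm_num) (neg_dvd.2 h6)
    obtain ⟨k, hk⟩ := hC8
    have h9 : C = 2 ∨ C = -14 := by
      rcases lt_or_ge C 0 with h' | h'
      · right; have := hCneg h'; omega
      · left; omega
    rcases h9 with rfl | rfl
    · omega
    · norm_num at h5; omega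
  · omega

/-- No table of this shape exists. -/
theorem false_of_table {a : ι → ℤ} {v : Fin 3 → ι → ℤ} (ha : ∀ x, 0 < a x) {e : ι}
    (hae : a e = 1) (hv0 : v 0 e = 1) (hv1 : v 1 e = 0) (hv2 : v 2 e = 0)
    (huniq : ∀ x, a x = 1 → x = e)
    (hmod : ∀ x, (8 : ℤ) ∣ a x + 7 * (v 0 x + v 1 x + v 2 x))
    (hnn : ∀ x, 0 ≤ a x + 7 * (v 0 x + v 1 x + v 2 x))
    (hvv : ∀ i j, ∑ x, v i x * v j x = if i = j then 4 else 2)
    (hav : ∀ j, ∑ x, a x * v j x = 0)
    (hq : ∀ i j, ∑ x, ((v 0 x + v 1 x + v 2 x : ℤ) : ℚ) ^ 2 / a x * v i x =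
      ∑ x, ((v 0 x + v 1 x + v 2 x : ℤ) : ℚ) ^ 2 / a x * v j x) : False := by
  have hee : ∀ j, ∑ x, v j x * v j x = 4 := fun j => by rw [hvv, if_pos rfl]
  have hag : ∀ i j, i ≠ j → (supp (v i) ∩ supp (v j)).card = 2 ∧
      ∀ x, v i x ≠ 0 → v j x ≠ 0 → v i x = v j x := fun i j hij =>
    agree ha (hav i) (hav j) (hee i) (hee j) (by rw [hvv, if_neg hij])
  set U := fun j => supp (v j) with hU
  have hc4 : ∀ j, (U j).card = 4 := fun j => card_supp ha (hav j) (hee j)
  obtain ⟨h01, g01⟩ := hag 0 1 (by decide)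
  obtain ⟨h02, g02⟩ := hag 0 2 (by decide)
  obtain ⟨h12, g12⟩ := hag 1 2 (by decide)
  have he0 : e ∈ U 0 \ U 1 := by simp [hU, mem_supp, hv0, hv1]
  have hd0 : (U 0 \ U 1).card = 2 := by
    have := Finset.card_sdiff_add_card_inter (U 0) (U 1)
    have : (U 0 ∩ U 1).card = 2 := h01
    have := hc4 0
    omega
  have hd1 : (U 1 \ U 0).card = 2 := by
    have := Finset.card_sdiff_add_card_inter (U 1) (U 0)
    have : (U 1 ∩ U 0).card = 2 := by rw [Finset.inter_comm]; exact h01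
    have := hc4 1
    omega
  obtain ⟨y, hy⟩ := Finset.card_eq_one.1 (by rw [Finset.card_erase_of_mem he0, hd0] :
    ((U 0 \ U 1).erase e).card = 1)
  have hy' : y ∈ (U 0 \ U 1).erase e := hy ▸ Finset.mem_singleton_self y
  have hye : y ≠ e := (Finset.mem_erase.1 hy').1
  have hU01 : U 0 \ U 1 = {e, y} := by
    rw [← Finset.insert_erase he0, hy]
  obtain ⟨p, q, hpq, hU10⟩ := Finset.card_eq_two.1 hd1
  -- values on the four rows
  have hyv : v 0 y ≠ 0 ∧ v 1 y = 0 := by
    have := (Finset.mem_erase.1 hy').2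
    simpa [hU, mem_supp] using this
  have hpv : v 1 p ≠ 0 ∧ v 0 p = 0 := by
    have : p ∈ U 1 \ U 0 := by rw [hU10]; simp
    simpa [hU, mem_supp] using this
  have hqv : v 1 q ≠ 0 ∧ v 0 q = 0 := by
    have : q ∈ U 1 \ U 0 := by rw [hU10]; simp
    simpa [hU, mem_supp] using this
  -- differences of two columns
  have hdiff : ∀ (R : Type) [CommRing R] (F : ι → R),
      ∑ x, F x * (v 0 x : R) - ∑ x, F x * (v 1 x : R) =
        F e + F y * (v 0 y : R) - (F p * (v 1 p : R) + F q * (v 1 q : R)) := by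
    intro R _ F
    rw [← Finset.sum_sub_distrib]
    have h1 : ∑ x, (F x * (v 0 x : R) - F x * (v 1 x : R)) =
        ∑ x ∈ (U 0 \ U 1) ∪ (U 1 \ U 0), (F x * (v 0 x : R) - F x * (v 1 x : R)) := by
      refine (Finset.sum_subset (Finset.subset_univ _) fun x _ hx => ?_).symm
      simp only [hU, Finset.mem_union, Finset.mem_sdiff, mem_supp, not_or, not_and, not_not] at hx
      by_cases h : v 0 x = 0
      · have : v 1 x = 0 := by
          by_contra h'
          exact hx.2 h' h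
        simp [h, this]
      · have h' := fun h'' => hx.1 h h''
        by_cases h'' : v 1 x = 0
        · exact absurd (hx.1 h) (not_not.2 h'')
        · rw [g01 x h h'', sub_self]
    rw [h1, Finset.sum_union disjoint_sdiff_sdiff, hU01, hU10, Finset.sum_pair hye.symm,
      Finset.sum_pair hpq]
    simp only [hv0, hv1, hyv.2, hpv.2, hqv.2, Int.cast_one, Int.cast_zero, mul_one, mul_zero]
    ring
  have hA1 : 1 + a y * v 0 y = a p * v 1 p + a q * v 1 q := by
    have := hdiff ℤ a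
    simp only [Int.cast_id, hav, sub_zero, hae] at this
    linarith
  have hA2 : 1 + ((v 0 y + v 2 y : ℤ) : ℚ) ^ 2 / a y * v 0 y =
      ((v 1 p + v 2 p : ℤ) : ℚ) ^ 2 / a p * v 1 p + ((v 1 q + v 2 q : ℤ) : ℚ) ^ 2 / a q * v 1 q := by
    have := hdiff ℚ fun x => ((v 0 x + v 1 x + v 2 x : ℤ) : ℚ) ^ 2 / a x
    rw [hq 0 1, sub_self] at this
    simp only [hv0, hv1, hv2, hyv.2, hpv.2, hqv.2, hae, zero_add, add_zero] at this
    norm_num at this ⊢
    linarith
  -- the count of those rows in the third column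
  have hcnt : ({e, y} : Finset ι).filter (· ∈ U 2) = (U 0 ∩ U 2) \ U 1 ∧
      ({p, q} : Finset ι).filter (· ∈ U 2) = (U 1 ∩ U 2) \ U 0 := by
    constructor
    · rw [← hU01]; ext x; simp only [Finset.mem_filter, Finset.mem_sdiff, Finset.mem_inter]; tauto
    · rw [← hU10]; ext x; simp only [Finset.mem_filter, Finset.mem_sdiff, Finset.mem_inter]; tauto
  have hcard : (({e, y} : Finset ι).filter (· ∈ U 2)).card =
      (({p, q} : Finset ι).filter (· ∈ U 2)).card := by
    rw [hcnt.1, hcnt.2]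
    have e1 := Finset.card_sdiff_add_card_inter (U 0 ∩ U 2) (U 1)
    have e2 := Finset.card_sdiff_add_card_inter (U 1 ∩ U 2) (U 0)
    have e3 : U 0 ∩ U 2 ∩ U 1 = U 1 ∩ U 2 ∩ U 0 := by ext x; simp; tauto
    have : (U 0 ∩ U 2).card = 2 := h02
    have : (U 1 ∩ U 2).card = 2 := h12
    rw [e3] at e1
    omega
  have he2 : e ∉ U 2 := by simp [hU, mem_supp, hv2]
  rw [Finset.card_filter, Finset.card_filter, Finset.sum_pair hye.symm, Finset.sum_pair hpq,
    if_neg he2, zero_add] at hcard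
  have hin : ∀ x, x ∈ U 2 ↔ v 2 x ≠ 0 := fun x => mem_supp
  have hne1 : ∀ x, x ≠ e → a x ≠ 1 := fun x hx h => hx (huniq x h)
  have hpe : p ≠ e := fun h => hpv.1 (h ▸ hv1)
  have hqe : q ≠ e := fun h => hqv.1 (h ▸ hv1)
  have hpm : ∀ {x : ι} {z : ℤ}, z = -1 ∨ z = 0 ∨ z = 1 → z ≠ 0 →
      a x * z ≠ 0 ∧ (x ≠ e → a x * z ≠ 1 ∧ a x * z ≠ -1) ∧
      ∀ k : ℚ, k / (a x : ℚ) * (z : ℚ) = k / ((a x * z : ℤ) : ℚ) := by
    intro x z hz hz0
    have := ha x
    rcases hz with rfl | rfl | rfl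
    · refine ⟨by omega, fun hx => by have := hne1 x hx; omega, fun k => ?_⟩
      push_cast; rw [mul_neg_one, mul_neg_one, div_neg]
    · exact absurd rfl hz0
    · refine ⟨by omega, fun hx => by have := hne1 x hx; omega, fun k => ?_⟩
      push_cast; rw [mul_one, mul_one]
  have hsq : ∀ {z : ℤ}, z = -1 ∨ z = 0 ∨ z = 1 → z ≠ 0 →
      (((z + z : ℤ) : ℚ) ^ 2 = 4 ∧ ((z : ℤ) : ℚ) ^ 2 = 1) := by
    intro z hz hz0
    rcases hz with rfl | rfl | rfl <;> simp at hz0 ⊢ <;> norm_num
  have ey := entry ha (hav 0) (hee 0) y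
  have ep := entry ha (hav 1) (hee 1) p
  have eq' := entry ha (hav 1) (hee 1) q
  obtain ⟨y0, y1, yd⟩ := hpm (x := y) ey hyv.1
  obtain ⟨p0, p1, pd⟩ := hpm (x := p) ep hpv.1
  obtain ⟨q0, q1, qd⟩ := hpm (x := q) eq' hqv.1
  by_cases hy2 : y ∈ U 2
  · have hC8 : (8 : ℤ) ∣ a y * v 0 y - 2 := by
      have h := hmod y
      rw [hyv.2, ← g02 y hyv.1 ((hin y).1 hy2)] at h
      obtain ⟨k, hk⟩ := h
      rcases ey with h' | h' | h' <;> rw [h'] at hk ⊢
      · exact ⟨-k - 2, by omega⟩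
      · exact absurd h' hyv.1
      · exact ⟨k - 2, by omega⟩
    have hCneg : a y * v 0 y < 0 → a y * v 0 y ≤ -14 := by
      intro hneg
      have h := hnn y
      rw [hyv.2, ← g02 y hyv.1 ((hin y).1 hy2)] at h
      have := ha y
      rcases ey with h' | h' | h' <;> rw [h'] at h hneg ⊢ <;> omega
    rw [← g02 y hyv.1 ((hin y).1 hy2), (hsq ey hyv.1).1, yd] at hA2
    by_cases hp2 : p ∈ U 2
    · have hq2 : q ∉ U 2 := by simp [hy2, hp2] at hcard; exact hcard
      rw [← g12 p hpv.1 ((hin p).1 hp2), (hsq ep hpv.1).1, not_not.1 (mt (hin q).2 hq2), add_zero,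
        (hsq eq' hqv.1).2, pd, qd] at hA2
      exact mixed y0 p0 q0 (q1 hqe).1 hC8 hCneg hA1 hA2
    · have hq2 : q ∈ U 2 := by simp [hy2, hp2] at hcard; exact hcard
      rw [← g12 q hqv.1 ((hin q).1 hq2), (hsq eq' hqv.1).1, not_not.1 (mt (hin p).2 hp2), add_zero,
        (hsq ep hpv.1).2, pd, qd, add_comm (1 / _ : ℚ)] at hA2
      rw [add_comm (a p * v 1 p)] at hA1
      exact mixed y0 q0 p0 (p1 hpe).1 hC8 hCneg hA1 hA2
  · have hp2 : p ∉ U 2 := fun h => by rw [if_neg hy2, if_pos h] at hcard; omega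
    have hq2 : q ∉ U 2 := fun h => by rw [if_neg hy2, if_pos h] at hcard; omega
    rw [not_not.1 (mt (hin y).2 hy2), not_not.1 (mt (hin p).2 hp2),
      not_not.1 (mt (hin q).2 hq2), add_zero, add_zero, add_zero, (hsq ey hyv.1).2,
      (hsq ep hpv.1).2, (hsq eq' hqv.1).2, yd, pd, qd] at hA2
    rcases roots y0 (y1 hye).2 p0 q0 hA1 hA2 with h | h
    · exact (p1 hpe).1 h
    · exact (q1 hqe).1 h

end Cfsg.Agent.EightAutomizer56Arith
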