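import Mathlib
import Cfsg.Agent.Lib.CharBasic
import Cfsg.Agent.Lib.CharBasicDecomp
import Cfsg.Agent.Lib.CharBasicOrth

/-!
# Groups with the shape of `O . (2^3 : 3)` with a central involution

The local structure of the centraliser of an involution when the automiser of an elementary abelian
Sylow 2-subgroup of order 8 has order 21.
-/

set_option autoImplicit false

open scoped ComplexConjugate

namespace Cfsg.Agent.EightAutomizer56Local

attribute [local instance] Classical.propDecidable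

universe u

variable {C : Type u} [Group C]

/-- The shape `O . (S : ⟨g⟩)`. -/
structure Datum (O S : Subgroup C) (t g : C) : Prop where
  normal : O.Normal
  odd : Odd (Nat.card O)
  card_S : Nat.card S = 8
  sq : ∀ s ∈ S, s * s = 1
  t_mem : t ∈ S
  t_ne : t ≠ 1
  t_central : ∀ x, Commute t x
  g_norm : ∀ s ∈ S, g⁻¹ * s * g ∈ S
  g_cube : g ^ 3 ∈ O
  fix : ∀ s ∈ S, Commute g s → s = 1 ∨ s = t
  cover : ∀ x : C, ∃ k : Fin 3, ∃ s : S, ∃ o : O, g ^ (k : ℕ) * s * o = x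
  centr : ∀ x : C, (∀ s ∈ S, Commute x s) → ∃ s : S, ∃ o : O, (s : C) * o = x

section basic

variable {O S : Subgroup C} {t g : C} (D : Datum O S t g)
include D

theorem inv_self {s : C} (hs : s ∈ S) : s⁻¹ = s := inv_eq_of_mul_eq_one_right (D.sq s hs)

theorem comm {a b : C} (ha : a ∈ S) (hb : b ∈ S) : Commute a b := by
  have h := inv_self D (mul_mem ha hb)
  rw [mul_inv_rev, inv_self D ha, inv_self D hb] at h
  exact h.symm

theorem eq_one_of_mem {x : C} (hS : x ∈ S) (hO : x ∈ O) : x = 1 := by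
  rw [← orderOf_eq_one_iff]
  have h2 : orderOf x ∣ 2 := orderOf_dvd_of_pow_eq_one (by rw [pow_two]; exact D.sq x hS)
  rcases (Nat.dvd_prime Nat.prime_two).1 h2 with h | h
  · exact h
  · exact absurd (h ▸ Subgroup.orderOf_dvd_natCard O hO) D.odd.not_two_dvd_nat

theorem norm_pow (n : ℕ) {s : C} (hs : s ∈ S) : (g ^ n)⁻¹ * s * g ^ n ∈ S := by
  induction n generalizing s with
  | zero => simpa using hs
  | succ n ih =>
    rw [show (g ^ (n + 1))⁻¹ * s * g ^ (n + 1) = (g ^ n)⁻¹ * (g⁻¹ * s * g) * g ^ n by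
      rw [pow_succ']; group]
    exact ih (D.g_norm s hs)

theorem cube_comm {s : C} (hs : s ∈ S) : Commute (g ^ 3) s := by
  have h1 : (g ^ 3)⁻¹ * s * g ^ 3 * s⁻¹ ∈ S := mul_mem (norm_pow D 3 hs) (inv_mem hs)
  have h2 : (g ^ 3)⁻¹ * s * g ^ 3 * s⁻¹ ∈ O := by
    rw [show (g ^ 3)⁻¹ * s * g ^ 3 * s⁻¹ = (g ^ 3)⁻¹ * (s * g ^ 3 * s⁻¹) by group]
    exact mul_mem (inv_mem D.g_cube) (D.normal.conj_mem _ D.g_cube _)
  have h := eq_one_of_mem D h1 h2
  show g ^ 3 * s = s * g ^ 3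
  calc g ^ 3 * s = g ^ 3 * ((g ^ 3)⁻¹ * s * g ^ 3 * s⁻¹) * s := by rw [h, mul_one]
    _ = s * g ^ 3 := by group

/-- The square of `g` satisfies the same hypotheses. -/
theorem fix_sq {s : C} (hs : s ∈ S) (h : Commute (g ^ 2) s) : s = 1 ∨ s = t := by
  refine D.fix s hs ?_
  have h4 : Commute (g ^ 4) s := by
    rw [show g ^ 4 = g ^ 2 * g ^ 2 from pow_add g 2 2]
    exact h.mul_left h
  rw [show g = (g ^ 3)⁻¹ * g ^ 4 by group]
  exact (cube_comm D hs).inv_left.mul_left h4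

theorem pow_notMem {k : ℕ} (hk : k = 1 ∨ k = 2) (s : S) (o : O) : g ^ k ≠ s * o := by
  intro h
  have hfix : ∀ u ∈ S, Commute (g ^ k) u := by
    intro u hu
    have h1 : (g ^ k)⁻¹ * u * g ^ k * u⁻¹ ∈ S := mul_mem (norm_pow D k hu) (inv_mem hu)
    have h2 : (g ^ k)⁻¹ * u * g ^ k * u⁻¹ ∈ O := by
      rw [h, show ((s : C) * (o : C))⁻¹ * u * ((s : C) * (o : C)) * u⁻¹ =
        (o : C)⁻¹ * ((s : C)⁻¹ * u * (s : C)) * (o : C) * u⁻¹ by group]
      have hsu : (s : C)⁻¹ * u * (s : C) = u := by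
        rw [mul_assoc, (comm D hu s.2).eq, inv_mul_cancel_left]
      rw [hsu, show (o : C)⁻¹ * u * (o : C) * u⁻¹ = (o : C)⁻¹ * (u * (o : C) * u⁻¹) by group]
      exact mul_mem (inv_mem o.2) (D.normal.conj_mem _ o.2 _)
    have h3 := eq_one_of_mem D h1 h2
    show g ^ k * u = u * g ^ k
    calc g ^ k * u = g ^ k * ((g ^ k)⁻¹ * u * g ^ k * u⁻¹) * u := by rw [h3, mul_one]
      _ = u * g ^ k := by group
  have hall : (S : Set C) ⊆ {1, t} := by
    intro u hu
    rcases hk with rfl | rfl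
    · exact D.fix u hu (by simpa using hfix u hu)
    · exact fix_sq D hu (hfix u hu)
  have hc : Nat.card S ≤ 2 := by
    show Nat.card (S : Set C) ≤ 2
    rw [Nat.card_coe_set_eq]
    refine (Set.ncard_le_ncard hall (Set.toFinite _)).trans ?_
    exact (Set.ncard_insert_le _ _).trans (by simp)
  rw [D.card_S] at hc
  omega

/-- Every element is uniquely `g ^ k * s * o`. -/
theorem bijective : Function.Bijective fun p : Fin 3 × S × O => g ^ (p.1 : ℕ) * p.2.1 * p.2.2 := by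
  refine ⟨?_, fun x => ?_⟩
  · have key : ∀ p q : Fin 3 × S × O, (p.1 : ℕ) ≤ q.1 →
        g ^ (p.1 : ℕ) * p.2.1 * p.2.2 = g ^ (q.1 : ℕ) * q.2.1 * q.2.2 → p = q := by
      rintro ⟨k, s, o⟩ ⟨k', s', o'⟩ hle h
      simp only at hle h
      obtain ⟨d, hd⟩ := Nat.le.dest hle
      rw [← hd, pow_add, mul_assoc (g ^ (k : ℕ)), mul_assoc (g ^ (k : ℕ)), mul_assoc (g ^ (k : ℕ)),
        mul_right_inj] at h
      have hd0 : d = 0 := by
        by_contra hd0
        refine pow_notMem D (k := d) (by omega)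
          (⟨(s : C) * (s' : C)⁻¹, mul_mem s.2 (inv_mem s'.2)⟩ : S)
          (⟨(s' : C) * ((o : C) * (o' : C)⁻¹) * (s' : C)⁻¹,
            D.normal.conj_mem _ (mul_mem o.2 (inv_mem o'.2)) _⟩ : O) ?_
        calc g ^ d = g ^ d * (s' : C) * (o' : C) * (o' : C)⁻¹ * (s' : C)⁻¹ := by group
          _ = (s : C) * (o : C) * (o' : C)⁻¹ * (s' : C)⁻¹ := by rw [h]
          _ = _ := by group
      subst hd0
      rw [pow_zero, one_mul] at h
      have h1 : (s' : C)⁻¹ * s = o' * (o : C)⁻¹ := by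
        calc (s' : C)⁻¹ * s = (s' : C)⁻¹ * ((s : C) * o) * (o : C)⁻¹ := by group
          _ = _ := by rw [h]; group
      have h2 := eq_one_of_mem D (x := (s' : C)⁻¹ * s) (mul_mem (inv_mem s'.2) s.2)
        (h1 ▸ mul_mem o'.2 (inv_mem o.2))
      have hs : s = s' := Subtype.ext (inv_mul_eq_one.1 h2).symm
      rw [hs, mul_right_inj] at h
      exact Prod.ext (Fin.ext (by simpa using hd)) (Prod.ext hs (Subtype.ext h))
    intro p q h
    rcases le_total (p.1 : ℕ) q.1 with h' | h'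
    · exact key p q h' h
    · exact (key q p h' h.symm).symm
  · obtain ⟨k, s, o, h⟩ := D.cover x
    exact ⟨(k, s, o), h⟩

/-- The bijection. -/
noncomputable def equiv : Fin 3 × S × O ≃ C := Equiv.ofBijective _ (bijective D)

theorem card_eq [Finite C] : Nat.card C = 24 * Nat.card O := by
  rw [← Nat.card_congr (equiv D), Nat.card_prod, Nat.card_prod, Nat.card_fin, D.card_S]
  ring

theorem sum_eq [Fintype C] (f : C → ℂ) :
    ∑ x, f x = ∑ k : Fin 3, ∑ s : S, ∑ o : O, f (g ^ (k : ℕ) * s * o) := by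
  rw [← (equiv D).sum_comp, Fintype.sum_prod_type]
  exact Finset.sum_congr rfl fun k _ => Fintype.sum_prod_type _

theorem exists_eq (x : C) : ∃ k : Fin 3, ∃ s : S, ∃ o : O,
    x = g ^ (k : ℕ) * s * o ∧ (equiv D).symm x = (k, s, o) := by
  obtain ⟨⟨k, s, o⟩, h⟩ : ∃ p, (equiv D).symm x = p := ⟨_, rfl⟩
  refine ⟨k, s, o, ?_, h⟩
  rw [Equiv.symm_apply_eq] at h
  exact h

/-- An element `h * o` with `h ^ 3 ∈ O` has odd order. -/
theorem odd_order {h o : C} (hh : h ^ 3 ∈ O) (ho : o ∈ O) : ¬ 2 ∣ orderOf (h * o) := by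
  have := D.normal
  have h3 : (h * o) ^ 3 ∈ O := by
    rw [← QuotientGroup.eq_one_iff, QuotientGroup.mk_pow, QuotientGroup.mk_mul,
      (QuotientGroup.eq_one_iff o).2 ho, mul_one, ← QuotientGroup.mk_pow, QuotientGroup.eq_one_iff]
    exact hh
  have h4 : orderOf (h * o) ∣ 3 * Nat.card O := by
    apply orderOf_dvd_of_pow_eq_one
    rw [pow_mul, ← orderOf_dvd_iff_pow_eq_one]
    exact Subgroup.orderOf_dvd_natCard O h3
  exact fun h5 => ((by decide : Odd 3).mul D.odd).not_two_dvd_nat (h5.trans h4)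

/-- The product of the central involution with an element of odd order has even order. -/
theorem even_order {z : C} (hz : ¬ 2 ∣ orderOf z) : 2 ∣ orderOf (t * z) := by
  by_contra h
  have hm : Odd (orderOf (t * z) * orderOf z) :=
    (Nat.odd_iff.2 (Nat.two_dvd_ne_zero.1 h)).mul (Nat.odd_iff.2 (Nat.two_dvd_ne_zero.1 hz))
  have h1 : t ^ (orderOf (t * z) * orderOf z) = 1 := by
    have e := (D.t_central z).mul_pow (orderOf (t * z) * orderOf z)
    rw [show (t * z) ^ (orderOf (t * z) * orderOf z) = 1 by rw [pow_mul, pow_orderOf_eq_one, one_pow],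
      show z ^ (orderOf (t * z) * orderOf z) = 1 by
        rw [mul_comm, pow_mul, pow_orderOf_eq_one, one_pow], mul_one] at e
    exact e.symm
  obtain ⟨k, hk⟩ := hm
  rw [hk, pow_succ, pow_mul, pow_two, D.sq t D.t_mem, one_pow, one_mul] at h1
  exact D.t_ne h1

/-- A nontrivial element of `S` times an element of `O` has even order. -/
theorem even_order_S [Finite C] (s : S) (o : O) (hs : (s : C) ≠ 1) : 2 ∣ orderOf ((s : C) * o) := by
  have := D.normal
  by_contra h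
  have h1 : orderOf ((s : C ⧸ O)) ∣ orderOf ((s : C) * o) := by
    have e : ((s : C ⧸ O)) = ((((s : C) * o : C)) : C ⧸ O) := by
      rw [QuotientGroup.mk_mul, (QuotientGroup.eq_one_iff (o : C)).2 o.2, mul_one]
    rw [e]
    exact orderOf_map_dvd (QuotientGroup.mk' O) _
  have h2 : orderOf ((s : C ⧸ O)) ∣ 2 := orderOf_dvd_of_pow_eq_one (by
    rw [← QuotientGroup.mk_pow, pow_two, D.sq _ s.2, QuotientGroup.mk_one])
  rcases (Nat.dvd_prime Nat.prime_two).1 h2 with h3 | h3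
  · exact hs (eq_one_of_mem D s.2 ((QuotientGroup.eq_one_iff _).1 (orderOf_eq_one_iff.1 h3)))
  · exact h (h3 ▸ h1)

/-- The elements of odd order in the coset of `h`. -/
theorem coset_sum [Fintype C] {h : C} (hn : ∀ s ∈ S, h⁻¹ * s * h ∈ S) (h3 : h ^ 3 ∈ O)
    (hc : ∀ s ∈ S, Commute (h ^ 3) s) (hf : ∀ s ∈ S, Commute h s → s = 1 ∨ s = t)
    {f : C → ℂ} (hcl : Cfsg.IsClassFunction C f) :
    ∑ s : S, ∑ o : O, (if ¬ 2 ∣ orderOf (h * s * o) then f (h * s * o) else 0) =
      4 * ∑ o : O, f (h * o) := by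
  have := D.normal
  let d : S →* S :=
    { toFun := fun u => ⟨h⁻¹ * u * h * (u : C)⁻¹, mul_mem (hn u u.2) (inv_mem u.2)⟩
      map_one' := Subtype.ext (by simp)
      map_mul' := fun u w => Subtype.ext (by
        have hw : h⁻¹ * (w : C) * h * (w : C)⁻¹ ∈ S := mul_mem (hn w w.2) (inv_mem w.2)
        show h⁻¹ * ((u : C) * w) * h * ((u : C) * w)⁻¹ =
          h⁻¹ * u * h * (u : C)⁻¹ * (h⁻¹ * w * h * (w : C)⁻¹)
        calc h⁻¹ * ((u : C) * w) * h * ((u : C) * w)⁻¹
            = h⁻¹ * u * h * ((h⁻¹ * w * h * (w : C)⁻¹) * (u : C)⁻¹) := by group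
          _ = h⁻¹ * u * h * ((u : C)⁻¹ * (h⁻¹ * w * h * (w : C)⁻¹)) := by
              rw [(comm D hw (inv_mem u.2)).eq]
          _ = _ := by group) }
  have hd : ∀ u : S, ((d u : S) : C) = h⁻¹ * u * h * (u : C)⁻¹ := fun u => rfl
  have hker : ∀ u : S, u ∈ d.ker ↔ u = 1 ∨ u = ⟨t, D.t_mem⟩ := by
    intro u
    rw [MonoidHom.mem_ker, Subtype.ext_iff, hd]
    constructor
    · intro hu
      have : Commute h (u : C) := by
        show h * u = u * h
        calc h * (u : C) = h * (h⁻¹ * u * h * (u : C)⁻¹) * u := by rw [show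
              h⁻¹ * (u : C) * h * (u : C)⁻¹ = 1 from hu, mul_one]
          _ = u * h := by group
      rcases hf u u.2 this with h' | h'
      · exact Or.inl (Subtype.ext h')
      · exact Or.inr (Subtype.ext h')
    · rintro (rfl | rfl)
      · simp
      · show h⁻¹ * t * h * t⁻¹ = 1
        rw [mul_assoc h⁻¹, (D.t_central h).eq, inv_mul_cancel_left, mul_inv_cancel]
  have hker2 : Nat.card d.ker = 2 := by
    refine Nat.card_eq_two_iff.2 ⟨⟨1, one_mem _⟩, ⟨⟨t, D.t_mem⟩, (hker _).2 (Or.inr rfl)⟩,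
      fun e => D.t_ne (congrArg (fun x : d.ker => ((x : S) : C)) e).symm, ?_⟩
    refine Set.eq_univ_of_forall fun x => ?_
    rcases (hker x).1 x.2 with e | e
    · exact Or.inl (Subtype.ext e)
    · exact Or.inr (Subtype.ext e)
  have hidx : d.range.index = 2 ∧ Nat.card d.range = 4 := by
    have h1 := d.ker.card_mul_index
    rw [Subgroup.index_ker, hker2, D.card_S] at h1
    have h2 := d.range.card_mul_index
    rw [D.card_S] at h2
    have h4 : Nat.card d.range = 4 := by omega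
    rw [h4] at h2
    exact ⟨by omega, h4⟩
  have htK : (⟨t, D.t_mem⟩ : S) ∉ d.range := by
    rintro ⟨u, hu⟩
    have hu' : h⁻¹ * (u : C) * h = t * u := by
      have := congrArg Subtype.val hu
      rw [hd] at this
      rw [← show h⁻¹ * (u : C) * h * (u : C)⁻¹ = t from this]
      group
    have e2 : ∀ x : C, h⁻¹ * (t * x) * h = t * (h⁻¹ * x * h) := fun x => by
      rw [← mul_assoc h⁻¹, ← (D.t_central h⁻¹).eq]; group
    have e3 : (h ^ 3)⁻¹ * u * h ^ 3 = t * (t * (t * u)) := by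
      calc (h ^ 3)⁻¹ * (u : C) * h ^ 3 = h⁻¹ * (h⁻¹ * (h⁻¹ * u * h) * h) * h := by
            rw [pow_succ, pow_two]; group
        _ = _ := by rw [hu', e2, hu', e2, e2, hu']
    rw [show (h ^ 3)⁻¹ * (u : C) * h ^ 3 = u by
      rw [mul_assoc, ← (hc u u.2).eq, inv_mul_cancel_left], ← mul_assoc t t, D.sq t D.t_mem,
      one_mul, right_eq_mul] at e3
    exact D.t_ne e3
  have hin : ∀ s ∈ d.range, ∑ o : O, (if ¬ 2 ∣ orderOf (h * (s : S) * o) then f (h * (s : S) * o)
      else 0) = ∑ o : O, f (h * o) := by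
    rintro _ ⟨u, rfl⟩
    let e : O ≃ O :=
      { toFun := fun o => ⟨(u : C)⁻¹ * o * u, by simpa using D.normal.conj_mem _ o.2 (u : C)⁻¹⟩
        invFun := fun o => ⟨(u : C) * o * (u : C)⁻¹, D.normal.conj_mem _ o.2 (u : C)⟩
        left_inv := fun o => Subtype.ext (by simp; group)
        right_inv := fun o => Subtype.ext (by simp; group) }
    refine Fintype.sum_equiv e _ _ fun o => ?_
    have he : h * ((d u : S) : C) * o = (u : C) * (h * (e o : C)) * (u : C)⁻¹ := by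
      rw [hd]
      show h * (h⁻¹ * u * h * (u : C)⁻¹) * o = (u : C) * (h * ((u : C)⁻¹ * o * u)) * (u : C)⁻¹
      group
    rw [he, if_pos, hcl]
    rw [show (u : C) * (h * (e o : C)) * (u : C)⁻¹ = MulAut.conj (u : C) (h * (e o : C)) from rfl,
      MulEquiv.orderOf_eq]
    exact odd_order D h3 (e o).2
  have hout : ∀ s ∉ d.range, ∑ o : O, (if ¬ 2 ∣ orderOf (h * (s : S) * o) then f (h * (s : S) * o)
      else 0) = 0 := by
    intro s hs
    obtain ⟨u, hu⟩ : (⟨t, D.t_mem⟩ : S) * s ∈ d.range :=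
      (Subgroup.mul_mem_iff_of_index_two hidx.1).2 (iff_of_false htK hs)
    refine Finset.sum_eq_zero fun o _ => if_neg (not_not.2 ?_)
    have hs' : (s : C) = t * ((d u : S) : C) := by
      rw [hu, Subgroup.coe_mul, ← mul_assoc, D.sq t D.t_mem, one_mul]
    rw [hs', ← mul_assoc, ← (D.t_central h).eq, mul_assoc t, mul_assoc t]
    refine even_order D ?_
    have he : h * ((d u : S) : C) * o = (u : C) * (h * ((u : C)⁻¹ * o * u)) * (u : C)⁻¹ := by
      rw [hd]; group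
    rw [he, show (u : C) * (h * ((u : C)⁻¹ * o * u)) * (u : C)⁻¹ =
      MulAut.conj (u : C) (h * ((u : C)⁻¹ * o * u)) from rfl, MulEquiv.orderOf_eq]
    exact odd_order D h3 (by simpa using D.normal.conj_mem _ o.2 (u : C)⁻¹)
  have hsplit : ∀ s : S, ∑ o : O, (if ¬ 2 ∣ orderOf (h * (s : S) * o) then f (h * (s : S) * o)
      else 0) = if s ∈ d.range then ∑ o : O, f (h * o) else 0 := fun s => by
    split_ifs with hs
    · exact hin s hs
    · exact hout s hs
  rw [Finset.sum_congr rfl fun s _ => hsplit s, ← Finset.sum_filter, Finset.sum_const, nsmul_eq_mul]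
  congr 1
  have : (Finset.univ.filter fun s : S => s ∈ d.range).card = Nat.card d.range := by
    rw [Nat.card_eq_fintype_card]
    exact (Fintype.card_of_subtype _ (fun s => by simp)).symm
  rw [this, hidx.2]
  norm_num

/-- The sum of a class function over the elements of odd order. -/
theorem regular_sum [Fintype C] {f : C → ℂ} (hcl : Cfsg.IsClassFunction C f) :
    ∑ x, (if ¬ 2 ∣ orderOf x then f x else 0) =
      ∑ o : O, f o + 4 * ∑ o : O, f (g * o) + 4 * ∑ o : O, f (g ^ 2 * o) := by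
  rw [sum_eq D, Fin.sum_univ_three]
  simp only [Fin.val_zero, Fin.val_one, Fin.val_two, pow_zero, pow_one, one_mul]
  rw [coset_sum D D.g_norm D.g_cube (fun s => cube_comm D) D.fix hcl,
    coset_sum D (fun s => norm_pow D 2) (by rw [← pow_mul, mul_comm, pow_mul]; exact pow_mem D.g_cube 2)
      (fun s hs => by rw [← pow_mul, mul_comm, pow_mul]; exact (cube_comm D hs).pow_left 2)
      (fun s => fix_sq D) hcl]
  congr 2
  rw [Finset.sum_eq_single (1 : S)]
  · refine Finset.sum_congr rfl fun o _ => ?_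
    rw [OneMemClass.coe_one, one_mul, if_pos]
    exact fun h => D.odd.not_two_dvd_nat (h.trans (Subgroup.orderOf_dvd_natCard O o.2))
  · intro s _ hs
    refine Finset.sum_eq_zero fun o _ => if_neg (not_not.2 ?_)
    exact even_order_S D s o fun e => hs (Subtype.ext e)
  · simp

theorem pow_three_mul_mem (n : ℕ) : g ^ (3 * n) ∈ O := by rw [pow_mul]; exact pow_mem D.g_cube n

/-- Normal form of a power. -/
theorem pow_normal (n : ℕ) (s : S) (o : O) : ∃ o' : O,
    g ^ n * s * o = g ^ (n % 3) * s * o' := by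
  refine ⟨⟨g ^ (3 * (n / 3)) * o, mul_mem (pow_three_mul_mem D _) o.2⟩, ?_⟩
  have hc : Commute (g ^ (3 * (n / 3))) (s : C) := by
    rw [pow_mul]; exact (cube_comm D s.2).pow_left _
  calc g ^ n * s * o = g ^ (n % 3) * (g ^ (3 * (n / 3)) * s) * o := by
        rw [← mul_assoc, ← pow_add, Nat.mod_add_div]
    _ = _ := by rw [hc.eq]; group

/-- The linear character of order three. -/
theorem exists_lam {w : ℂ} (hw : w ^ 3 = 1) :
    ∃ lam : C →* ℂˣ, ∀ (n : ℕ) (s : S) (o : O), (lam (g ^ n * s * o) : ℂ) = w ^ n := by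
  have hw0 : w ≠ 0 := fun h => by simp [h] at hw
  let lu : C → ℂˣ := fun x => (Units.mk0 w hw0) ^ (((equiv D).symm x).1 : ℕ)
  have hlu : ∀ (n : ℕ) (s : S) (o : O), lu (g ^ n * s * o) = (Units.mk0 w hw0) ^ n := by
    intro n s o
    obtain ⟨o', ho'⟩ := pow_normal D n s o
    have he : (equiv D).symm (g ^ n * s * o) = (⟨n % 3, Nat.mod_lt _ (by norm_num)⟩, s, o') := by
      rw [Equiv.symm_apply_eq]; exact ho'
    show (Units.mk0 w hw0) ^ (((equiv D).symm (g ^ n * s * o)).1 : ℕ) = _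
    rw [he]
    refine Units.ext ?_
    simp only [Units.val_pow_eq_pow_val, Units.val_mk0]
    conv_rhs => rw [← Nat.mod_add_div n 3, pow_add, pow_mul, hw, one_pow, mul_one]
  have hmul : ∀ x y, lu (x * y) = lu x * lu y := by
    intro x y
    obtain ⟨k, s, o, rfl, -⟩ := exists_eq D x
    obtain ⟨l, s', o', rfl, -⟩ := exists_eq D y
    have e : g ^ (k : ℕ) * s * o * (g ^ (l : ℕ) * s' * o') = g ^ ((k : ℕ) + l) *
        (((g ^ (l : ℕ))⁻¹ * s * g ^ (l : ℕ)) * s') *
        ((g ^ (l : ℕ) * s')⁻¹ * o * (g ^ (l : ℕ) * s') * o') := by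
      rw [pow_add]; group
    have hs : (g ^ (l : ℕ))⁻¹ * s * g ^ (l : ℕ) * s' ∈ S := mul_mem (norm_pow D _ s.2) s'.2
    have ho : (g ^ (l : ℕ) * s')⁻¹ * o * (g ^ (l : ℕ) * s') * o' ∈ O := by
      refine mul_mem ?_ o'.2
      simpa using D.normal.conj_mem _ o.2 (g ^ (l : ℕ) * (s' : C))⁻¹
    rw [e, show ((g ^ (l : ℕ))⁻¹ * s * g ^ (l : ℕ)) * s' = ((⟨_, hs⟩ : S) : C) from rfl]
    rw [show (g ^ (l : ℕ) * s')⁻¹ * o * (g ^ (l : ℕ) * s') * o' = ((⟨_, ho⟩ : O) : C) from rfl,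
      hlu, hlu, hlu, pow_add]
  refine ⟨MonoidHom.mk' lu hmul, fun n s o => ?_⟩
  rw [MonoidHom.mk'_apply, hlu]
  push_cast
  rfl

theorem inv_mem_coset {x : C} {n : ℕ} {o : O} (h : x = g ^ n * o) :
    ∃ m : ℕ, ∃ o' : O, x⁻¹ = g ^ m * o' := by
  subst h
  refine ⟨2 * n, ⟨(g ^ (2 * n))⁻¹ * (o : C)⁻¹ * g ^ (2 * n) * (g ^ (3 * n))⁻¹,
    mul_mem ?_ (inv_mem (pow_three_mul_mem D n))⟩, ?_⟩
  · simpa using D.normal.conj_mem _ (inv_mem o.2) (g ^ (2 * n))⁻¹
  · show (g ^ n * (o : C))⁻¹ =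
      g ^ (2 * n) * ((g ^ (2 * n))⁻¹ * (o : C)⁻¹ * g ^ (2 * n) * (g ^ (3 * n))⁻¹)
    rw [show g ^ (3 * n) = g ^ n * g ^ (2 * n) by rw [← pow_add]; congr 1; omega]
    group

/-- The subgroup `O⟨g⟩`. -/
def ell : Subgroup C where
  carrier := {x | ∃ n : ℕ, ∃ o : O, x = g ^ n * o}
  one_mem' := ⟨0, 1, by simp⟩
  mul_mem' := by
    rintro _ _ ⟨n, o, rfl⟩ ⟨m, o', rfl⟩
    refine ⟨n + m, ⟨(g ^ m)⁻¹ * o * g ^ m * o', mul_mem ?_ o'.2⟩, ?_⟩
    · simpa using D.normal.conj_mem _ o.2 (g ^ m)⁻¹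
    · show g ^ n * (o : C) * (g ^ m * (o' : C)) = g ^ (n + m) * ((g ^ m)⁻¹ * o * g ^ m * o')
      rw [pow_add]; group
  inv_mem' := by
    rintro x ⟨n, o, h⟩
    exact inv_mem_coset D h

theorem ell_bijective : Function.Bijective fun p : Fin 3 × O =>
    (⟨g ^ (p.1 : ℕ) * p.2, p.1, p.2, rfl⟩ : ell D) := by
  refine ⟨fun p q h => ?_, ?_⟩
  · have := (bijective D).1 (a₁ := (p.1, 1, p.2)) (a₂ := (q.1, 1, q.2)) (by
      simpa using congrArg Subtype.val h)
    simpa [Prod.ext_iff] using this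
  · rintro ⟨x, n, o, rfl⟩
    obtain ⟨o', ho'⟩ := pow_normal D n 1 o
    refine ⟨(⟨n % 3, Nat.mod_lt _ (by norm_num)⟩, o'), Subtype.ext ?_⟩
    simpa using ho'.symm

/-- A twisted average of a character over `t O⟨g⟩` is an integer. -/
theorem exists_int [Fintype C] {w : ℂ} (hw : w ^ 3 = 1) {ψ : C → ℂ}
    (hψ : Cfsg.IsCharacter C ψ) :
    ∃ z : ℤ, (3 * Nat.card O : ℂ)⁻¹ *
      ∑ k : Fin 3, ∑ o : O, w ^ (k : ℕ) * conj (ψ (t * (g ^ (k : ℕ) * o))) = z := by
  obtain ⟨lam, hlam⟩ := exists_lam D hw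
  let E : Fin 3 × O ≃ ell D := Equiv.ofBijective _ (ell_bijective D)
  let Z := Subgroup.zpowers t
  have hZ : Nat.card Z = 2 := by
    rw [Nat.card_zpowers]
    exact orderOf_eq_prime (by rw [pow_two]; exact D.sq t D.t_mem) D.t_ne
  let φ : ell D × Z →* C := (ell D).subtype.noncommCoprod Z.subtype (fun a b => by
    obtain ⟨z, hz⟩ := b.2
    show Commute (a : C) (b : C)
    rw [← hz]
    exact (D.t_central (a : C)).symm.zpow_right z)
  let θ : ell D × Z →* ℂˣ := lam.comp ((ell D).subtype.comp (MonoidHom.fst _ _))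
  obtain ⟨m, hm⟩ := CharBasicOrth.classInner_isCharacter
    (CharBasicDecomp.isCharacter_linear θ) (CharBasic.isCharacter_comap φ hψ)
  obtain ⟨k, hk⟩ := CharBasicOrth.classInner_isCharacter
    (CharBasicDecomp.isCharacter_linear (lam.comp (ell D).subtype))
    (CharBasic.isCharacter_comap (ell D).subtype hψ)
  have hL : (Nat.card (ell D) : ℂ) = 3 * Nat.card O := by
    rw [← Nat.card_congr E, Nat.card_prod, Nat.card_fin]; push_cast; rfl
  have huniv : (Finset.univ : Finset Z) = {1, ⟨t, Subgroup.mem_zpowers t⟩} := by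
    refine (Finset.eq_univ_of_card _ ?_).symm
    rw [Finset.card_pair (fun e => D.t_ne (congrArg Subtype.val e).symm), ← Nat.card_eq_fintype_card,
      hZ]
  have hm' : ∑ h : ell D, (lam (h : C) : ℂ) * conj (ψ h) +
      ∑ h : ell D, (lam (h : C) : ℂ) * conj (ψ (t * h)) = 2 * (3 * Nat.card O) * m := by
    rw [← hm, ← hL, ← Nat.cast_ofNat (R := ℂ) (n := 2), ← Nat.cast_mul, mul_comm 2, ← hZ,
      ← Nat.card_prod, CharBasicOrth.card_mul_classInner, Fintype.sum_prod_type,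
      ← Finset.sum_add_distrib]
    refine Finset.sum_congr rfl fun h _ => ?_
    rw [huniv, Finset.sum_pair (fun e => D.t_ne (congrArg Subtype.val e).symm)]
    simp [θ, φ, (D.t_central (h : C)).eq]
  have hk' : ∑ h : ell D, (lam (h : C) : ℂ) * conj (ψ h) = (3 * Nat.card O) * k := by
    rw [← hk, ← hL, CharBasicOrth.card_mul_classInner]
    simp
  refine ⟨2 * m - k, ?_⟩
  have h0 : ∑ h : ell D, (lam (h : C) : ℂ) * conj (ψ (t * h)) =
      ∑ k : Fin 3, ∑ o : O, w ^ (k : ℕ) * conj (ψ (t * (g ^ (k : ℕ) * o))) := by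
    rw [← E.sum_comp, Fintype.sum_prod_type]
    refine Finset.sum_congr rfl fun j _ => Finset.sum_congr rfl fun o _ => ?_
    have := hlam j 1 o
    simp only [OneMemClass.coe_one, mul_one] at this
    show (lam (g ^ (j : ℕ) * (o : C)) : ℂ) * conj (ψ (t * (g ^ (j : ℕ) * (o : C)))) = _
    rw [this]
  rw [← h0]
  have hO : (3 * Nat.card O : ℂ) ≠ 0 :=
    mul_ne_zero (by norm_num) (Nat.cast_ne_zero.2 Nat.card_pos.ne')
  rw [inv_mul_eq_iff_eq_mul₀ hO]
  push_cast
  linear_combination hm' - hk'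

end basic

end Cfsg.Agent.EightAutomizer56Local
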