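import Mathlib
import Cfsg.Agent.Lib.EightAutomizer56Local
import Cfsg.Agent.Lib.EightAutomizer56Arith
import Cfsg.Agent.Lib.SectionComplement79
import Cfsg.Agent.Lib.ZStarPrincipal
import Cfsg.Agent.Lib.ZStarCount
import Cfsg.Agent.Lib.ClassAlgebraVal

/-!
# The principal block of a group with elementary abelian Sylow 2-subgroup and automiser of order 21
-/

set_option autoImplicit false

open scoped ComplexConjugate

namespace Cfsg.Agent.EightAutomizer56Block

open Cfsg EightAutomizer56Local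

attribute [local instance] Classical.propDecidable

universe u

/-- Three-term geometric sums at a cube root of unity. -/
theorem geom {w : ℂ} (hw : w ^ 3 = 1) (hsum : 1 + w + w ^ 2 = 0) (m : ℕ) :
    1 + w ^ m + (w ^ m) ^ 2 = if 3 ∣ m then 3 else 0 := by
  rw [pow_eq_pow_mod m hw]
  rcases (by omega : m % 3 = 0 ∨ m % 3 = 1 ∨ m % 3 = 2) with h | h | h <;> rw [h]
  · rw [if_pos (Nat.dvd_of_mod_eq_zero h)]; norm_num
  · rw [if_neg (by omega)]; linear_combination hsum
  · rw [if_neg (by omega)]; linear_combination hsum + w * hw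

variable {G : Type u} [Group G] [Fintype G]

/-- A linear character trivial on the centraliser of a Sylow 2-subgroup lies in the principal
block. -/
theorem linear_mem_principal {C : Type u} [Group C] [Finite C] {M : Ideal AlgInt}
    (hM : IsPModular 2 M) (S : Subgroup C) (hS : IsPGroup 2 S) (lam : C →* ℂˣ)
    (hlam : ∀ x, (∀ s ∈ S, Commute x s) → lam x = 1) :
    (⟨fun y => (lam y : ℂ), CharBasicDecomp.isIrrCharacter_linear lam⟩ : IrrCharacter C) ∈
      principalBlock M C := by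
  intro x
  show MemLocalIdeal M (centralChar (fun _ => (1 : ℂ)) x - centralChar (fun y => (lam y : ℂ)) x)
  have hone : (1 : AlgInt) ∉ M := fun h => hM.2.1.ne_top ((Ideal.eq_top_iff_one M).2 h)
  set H := Subgroup.centralizer ({x} : Set C) with hH
  simp only [centralChar, map_one, Units.val_one, div_one, mul_one, ← hH]
  by_cases hx : lam x = 1
  · exact ⟨0, 1, M.zero_mem, hone, by simp [hx]⟩
  have h2 : 2 ∣ H.index := by
    haveI : Fact (Nat.Prime 2) := ⟨Nat.prime_two⟩
    have hempty : IsEmpty (MulAction.fixedPoints S (C ⧸ H)) := by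
      refine ⟨fun q => hx ?_⟩
      obtain ⟨c, hc⟩ := QuotientGroup.mk_surjective q.1
      have hcomm : ∀ s ∈ S, Commute (c * x * c⁻¹) s := by
        intro s hs
        have h1 : (⟨s, hs⟩ : S) • (c : C ⧸ H) = (c : C ⧸ H) := hc ▸ q.2 ⟨s, hs⟩
        change ((s * c : C) : C ⧸ H) = (c : C ⧸ H) at h1
        rw [QuotientGroup.eq, hH, Subgroup.mem_centralizer_singleton_iff] at h1
        have h2 : c⁻¹ * s⁻¹ * c * x = x * (c⁻¹ * s⁻¹ * c) := by
          simpa [mul_inv_rev, mul_assoc] using h1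
        show c * x * c⁻¹ * s = s * (c * x * c⁻¹)
        calc c * x * c⁻¹ * s = s * c * (c⁻¹ * s⁻¹ * c * x) * c⁻¹ * s := by group
          _ = s * c * (x * (c⁻¹ * s⁻¹ * c)) * c⁻¹ * s := by rw [h2]
          _ = s * (c * x * c⁻¹) := by group
      have := hlam _ hcomm
      rwa [map_mul, map_mul, map_inv, mul_inv_cancel_comm] at this
    have h := hS.card_modEq_card_fixedPoints (α := C ⧸ H)
    rw [Nat.card_of_isEmpty (α := MulAction.fixedPoints S (C ⧸ H))] at h
    exact (Nat.modEq_zero_iff_dvd).1 h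
  obtain ⟨m, hm⟩ := h2
  have hint : IsIntegral ℤ ((m : ℂ) * (1 - (lam x : ℂ))) :=
    (isIntegral_algebraMap (x := (m : ℤ))).mul (isIntegral_one.sub
      (CharBasic.isCharacter_integral (CharBasicDecomp.isCharacter_linear lam) x))
  refine ⟨((2 : ℕ) : AlgInt) * (⟨_, hint⟩ : AlgInt), 1, M.mul_mem_right _ hM.2.2, hone, ?_⟩
  have h2c : ((((2 : ℕ) : AlgInt)) : ℂ) = 2 := map_natCast (algebraMap AlgInt ℂ) 2
  rw [hm, MulMemClass.coe_mul, h2c]
  push_cast
  ring

/-- The twisted pairing of a character on the section of `t` has the expected closed form. -/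
theorem secPair_eq {t : G} {O S : Subgroup (Subgroup.centralizer ({t} : Set G))}
    {tC g : Subgroup.centralizer ({t} : Set G)} (D : Datum O S tC g) {wj : ℂ}
    (lam : Subgroup.centralizer ({t} : Set G) →* ℂˣ)
    (hlam : ∀ (n : ℕ) (s : S) (o : O), (lam (g ^ n * s * o) : ℂ) = wj ^ n)
    {χ : G → ℂ} (hχ : IsClassFunction G χ) :
    SectionOrth79.secPair 2 t
        (pRegularPart 2 fun y : Subgroup.centralizer ({t} : Set G) => (lam y : ℂ)) χ =
      ∑ o : O, conj (χ (t * (o : Subgroup.centralizer ({t} : Set G)))) +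
      4 * (wj * ∑ o : O, conj (χ (t * (g * o : Subgroup.centralizer ({t} : Set G))))) +
      4 * (wj ^ 2 * ∑ o : O, conj (χ (t * (g ^ 2 * o : Subgroup.centralizer ({t} : Set G))))) := by
  let f : Subgroup.centralizer ({t} : Set G) → ℂ := fun y => (lam y : ℂ) * conj (χ (t * y))
  have hf : IsClassFunction _ f := by
    intro y h
    show (lam (h * y * h⁻¹) : ℂ) * conj (χ (t * ((h * y * h⁻¹ : _) : G))) = _
    rw [map_mul, map_mul, map_inv, mul_inv_cancel_comm]
    congr 2
    push_cast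
    have ht : (h : G) * t = t * h := Subgroup.mem_centralizer_singleton_iff.1 h.2
    rw [← hχ (t * (y : G)) (h : G)]
    congr 1
    calc t * ((h : G) * y * (h : G)⁻¹) = (t * h) * y * (h : G)⁻¹ := by group
      _ = _ := by rw [← ht]; group
  have h0 : SectionOrth79.secPair 2 t
      (pRegularPart 2 fun y : Subgroup.centralizer ({t} : Set G) => (lam y : ℂ)) χ =
      ∑ y, (if ¬ 2 ∣ orderOf y then f y else 0) := by
    refine Finset.sum_congr rfl fun y _ => ?_
    by_cases hy : 2 ∣ orderOf y <;> simp [hy, f, pRegularPart, IsPRegular]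
  rw [h0, regular_sum D hf, Finset.mul_sum _ _ wj, Finset.mul_sum _ _ (wj ^ 2)]
  have e1 : ∀ (n : ℕ) (o : O), (lam (g ^ n * o) : ℂ) = wj ^ n := fun n o => by
    simpa using hlam n 1 o
  congr 1
  · congr 1
    · refine Finset.sum_congr rfl fun o _ => ?_
      have := e1 0 o
      rw [pow_zero, one_mul, pow_zero] at this
      simp [f, this]
    · congr 1
      refine Finset.sum_congr rfl fun o _ => ?_
      have := e1 1 o
      rw [pow_one, pow_one] at this
      simp only [f, this]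
  · congr 1
    refine Finset.sum_congr rfl fun o _ => ?_
    simp only [f, e1 2 o]

omit [Fintype G] in
/-- An element of odd order whose product with `t` is a product of two conjugates of `t` is
inverted in `C(t)`. -/
theorem inverted {t : G} (ht : orderOf t = 2) {y : Subgroup.centralizer ({t} : Set G)}
    (hy : ¬ 2 ∣ orderOf y) {x : G} (hx : IsConj (t * (y : G)) (t * (x * t * x⁻¹))) :
    ∃ a : Subgroup.centralizer ({t} : Set G), a * y * a⁻¹ = y⁻¹ := by
  have htt : t * t = 1 := by rw [← pow_two, ← ht, pow_orderOf_eq_one]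
  have htinv : t⁻¹ = t := inv_eq_of_mul_eq_one_right htt
  have hty : Commute t (y : G) := (Subgroup.mem_centralizer_singleton_iff.1 y.2).symm
  obtain ⟨c, hc⟩ := isConj_iff.1 hx
  set a := c⁻¹ * t * c with ha
  have hinv : a * (t * (y : G)) * a⁻¹ = (t * (y : G))⁻¹ := by
    have e : t * (y : G) = c⁻¹ * (t * (x * t * x⁻¹)) * c := by rw [← hc]; group
    rw [e, ha]
    simp only [mul_inv_rev, inv_inv, htinv, mul_assoc, mul_inv_cancel_left]
    simp only [← mul_assoc t t, htt, one_mul]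
  obtain ⟨k, hk⟩ : Odd (orderOf (y : G)) := by
    rw [Subgroup.orderOf_coe]
    exact Nat.odd_iff.2 (Nat.two_dvd_ne_zero.1 hy)
  have hpow : (t * (y : G)) ^ orderOf (y : G) = t := by
    rw [hty.mul_pow, pow_orderOf_eq_one, mul_one, hk, pow_succ, pow_mul, pow_two, htt, one_pow,
      one_mul]
  have hat : a * t * a⁻¹ = t :=
    calc a * t * a⁻¹ = (a * (t * (y : G)) * a⁻¹) ^ orderOf (y : G) := by rw [conj_pow, hpow]
      _ = t := by rw [hinv, inv_pow, hpow, htinv]
  have haC : a ∈ Subgroup.centralizer ({t} : Set G) := by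
    rw [Subgroup.mem_centralizer_singleton_iff]
    calc a * t = a * t * a⁻¹ * a := by group
      _ = t * a := by rw [hat]
  refine ⟨⟨a, haC⟩, Subtype.ext ?_⟩
  show a * (y : G) * a⁻¹ = (y : G)⁻¹
  calc a * (y : G) * a⁻¹ = (a * t * a⁻¹)⁻¹ * (a * (t * (y : G)) * a⁻¹) := by group
    _ = t * ((y : G)⁻¹ * t) := by rw [hat, hinv, mul_inv_rev, htinv]
    _ = (y : G)⁻¹ := by
        rw [hty.inv_right.symm.eq, ← mul_assoc, htt, one_mul]

/-- The configuration does not occur. -/
theorem false_of_datum (hlin : ∀ χ : IrrCharacter G, (χ : G → ℂ) 1 = 1 → (χ : G → ℂ) = fun _ => 1)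
    {t : G} (ht : orderOf t = 2) {S : Subgroup (Subgroup.centralizer ({t} : Set G))}
    {g : Subgroup.centralizer ({t} : Set G)}
    (D : Datum (pPrimeCore 2 (Subgroup.centralizer ({t} : Set G))) S
      ⟨t, Subgroup.mem_centralizer_singleton_iff.2 rfl⟩ g)
    (hconj : ∀ u ∈ S, u ≠ 1 → IsConj t (u : G)) : False := by
  classical
  haveI : Fact (Nat.Prime 2) := ⟨Nat.prime_two⟩
  set O := pPrimeCore 2 (Subgroup.centralizer ({t} : Set G)) with hOdef
  obtain ⟨M, hM⟩ := ZStarCount.exists_isPModular 2 Nat.prime_two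
  obtain ⟨w, hwp⟩ : ∃ w : ℂ, IsPrimitiveRoot w 3 :=
    ⟨_, Complex.isPrimitiveRoot_exp 3 (by norm_num)⟩
  have hw : w ^ 3 = 1 := hwp.pow_eq_one
  have hsum : 1 + w + w ^ 2 = 0 := by
    have := hwp.geom_sum_eq_zero (by norm_num)
    simpa [Finset.sum_range_succ] using this
  have hwc : conj w = w ^ 2 := by
    rw [← Complex.inv_eq_conj (hwp.norm'_eq_one (by norm_num))]
    exact inv_eq_of_mul_eq_one_right (by rw [← pow_succ']; exact hw)
  have hwi : ∀ i : ℕ, (w ^ i) ^ 3 = 1 := fun i => by rw [← pow_mul, mul_comm, pow_mul, hw, one_pow]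
  have hgeom : ∀ m, 1 + w ^ m + (w ^ m) ^ 2 = if 3 ∣ m then 3 else 0 := geom hw hsum
  choose lam hlam using fun j : Fin 3 => exists_lam D (hwi j)
  set N : ℕ := Nat.card O with hN
  have hN0 : (N : ℂ) ≠ 0 := Nat.cast_ne_zero.2 Nat.card_pos.ne'
  let sA : IrrCharacter G → ℕ → ℂ := fun χ k =>
    ∑ o : O, conj ((χ : G → ℂ) (t * ((g ^ k * o : (Subgroup.centralizer ({t} : Set G))) : G)))
  have hcf : ∀ χ : IrrCharacter G, IsClassFunction G (χ : G → ℂ) := fun χ =>
    CharBasic.isClassFunction_of_isCharacter (ClassAlgebraVal.irr_isCharacter χ)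
  -- the integers
  choose V hV using fun (χ : IrrCharacter G) (i : Fin 3) => exists_int D (hwi i)
    (CharBasic.isCharacter_comap (Subgroup.centralizer ({t} : Set G)).subtype (ClassAlgebraVal.irr_isCharacter χ))
  have hV' : ∀ χ (i : Fin 3), 3 * (N : ℂ) * (V χ i : ℂ) =
      sA χ 0 + w ^ (i : ℕ) * sA χ 1 + (w ^ (i : ℕ)) ^ 2 * sA χ 2 := by
    intro χ i
    rw [← hV χ i, ← mul_assoc, hN, mul_inv_cancel₀ (mul_ne_zero (by norm_num) hN0), one_mul,
      Fin.sum_univ_three]
    simp only [sA, Fin.val_zero, Fin.val_one, Fin.val_two, pow_one, pow_zero, Finset.mul_sum,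
      one_mul, Function.comp_apply, Subgroup.coe_subtype]
    rfl
  let A : IrrCharacter G → ℤ := fun χ => V χ 0 + V χ 1 + V χ 2
  have hA0 : ∀ χ, sA χ 0 = (N : ℂ) * (A χ : ℂ) := by
    intro χ
    have e0 := hV' χ 0
    have e1 := hV' χ 1
    have e2 := hV' χ 2
    simp only [Fin.val_zero, Fin.val_one, Fin.val_two, pow_zero, pow_one, one_pow, one_mul] at e0 e1 e2
    simp only [A]
    push_cast
    linear_combination (-1 / 3 : ℂ) * (e0 + e1 + e2) + (-1 / 3 : ℂ) * sA χ 1 * hsum
      + (-1 / 3 : ℂ) * sA χ 2 * (hsum + w * hw)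
  -- the pairings
  let P : Fin 3 → IrrCharacter G → ℂ := fun j χ =>
    SectionOrth79.secPair 2 t (pRegularPart 2 fun y : (Subgroup.centralizer ({t} : Set G)) => (lam j y : ℂ)) (χ : G → ℂ)
  have hP : ∀ j χ, P j χ = 3 * (N : ℂ) * ((4 * V χ j - A χ : ℤ) : ℂ) := by
    intro j χ
    have e := secPair_eq D (lam j) (hlam j) (hcf χ)
    have e' := hV' χ j
    simp only [sA, pow_zero, one_mul, pow_one] at e'
    have e'' := hA0 χ
    simp only [sA, pow_zero, one_mul] at e''
    show SectionOrth79.secPair 2 t _ _ = _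
    rw [e]
    push_cast
    linear_combination (-4 : ℂ) * e' - 3 * e''
  set B := principalBlock M G with hB
  have hx : ∃ k : ℕ, orderOf t = 2 ^ k := ⟨1, by rw [ht, pow_one]⟩
  have hmem : ∀ j, pRegularPart 2 (fun y : (Subgroup.centralizer ({t} : Set G)) => (lam j y : ℂ)) ∈
      BlockSubsections79.regSpan 2 (principalBlock M (Subgroup.centralizer ({t} : Set G))) := by
    intro j
    refine Submodule.subset_span ⟨⟨_, CharBasicDecomp.isIrrCharacter_linear (lam j)⟩, ?_, rfl⟩
    refine linear_mem_principal hM S (IsPGroup.of_card (n := 3) D.card_S) (lam j) fun x hxS => ?_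
    obtain ⟨s, o, rfl⟩ := D.centr x hxS
    refine Units.ext ?_
    simpa using hlam j 0 s o
  have hoff : ∀ j χ, χ ∉ B → P j χ = 0 := fun j χ hχ =>
    SectionOrth79.secPair_eq_zero hM hx (SectionComplement79.induced_principal hM hx) (hmem j) hχ
  have hlamreg : ∀ (j : Fin 3) (y : (Subgroup.centralizer ({t} : Set G))), ¬ 2 ∣ orderOf y →
      pRegularPart 2 (fun z : (Subgroup.centralizer ({t} : Set G)) => (lam j z : ℂ)) y = (lam j y : ℂ) := fun j y hy => by
    simp [pRegularPart, IsPRegular, hy]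
  -- the general relation
  have hgen : ∀ (j : Fin 3) (F : IrrCharacter G → ℂ), ∑ χ : {χ // χ ∈ B}, P j χ * F χ =
      ∑ y : (Subgroup.centralizer ({t} : Set G)), if ¬ 2 ∣ orderOf y then (lam j y : ℂ) *
        ∑ χ : IrrCharacter G, F χ * conj ((χ : G → ℂ) (t * y)) else 0 := by
    intro j F
    rw [← Finset.sum_subtype (Finset.univ.filter (· ∈ B)) (by simp) (fun χ => P j χ * F χ),
      Finset.sum_filter, Finset.sum_congr rfl fun χ _ => show
        (if χ ∈ B then P j χ * F χ else 0) = P j χ * F χ by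
          split_ifs with h
          · rfl
          · rw [hoff j χ h, zero_mul]]
    simp only [P, SectionOrth79.secPair, Finset.sum_mul]
    rw [Finset.sum_comm]
    refine Finset.sum_congr rfl fun y _ => ?_
    by_cases hy : 2 ∣ orderOf y
    · simp [hy]
    · simp only [hy, not_false_eq_true, if_true, hlamreg j y hy, Finset.mul_sum]
      exact Finset.sum_congr rfl fun χ _ => by ring
  -- values on the principal block
  have htB : ∀ χ : {χ // χ ∈ B}, ((χ : IrrCharacter G) : G → ℂ) t = (A χ : ℂ) := by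
    intro χ
    obtain ⟨hK1, hK2, hK3⟩ := ZStarPrincipal.centralizerPPrimeCore_spec (p := 2) t
    have hc : sA χ 0 = (N : ℂ) * conj (((χ : IrrCharacter G) : G → ℂ) t) := by
      simp only [sA, pow_zero, one_mul]
      rw [Finset.sum_congr rfl fun o _ => by
        rw [ZStarPrincipal.apply_eq_of_mem hM hx hK1 hK2 hK3 χ.2
          (v := ((o : (Subgroup.centralizer ({t} : Set G))) : G)) ⟨(o : (Subgroup.centralizer ({t} : Set G))), o.2, rfl⟩],
        Finset.sum_const, nsmul_eq_mul, Finset.card_univ, ← Nat.card_eq_fintype_card]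
    rw [hA0] at hc
    have h := congrArg conj (mul_left_cancel₀ hN0 hc).symm
    simpa using h
  -- orthogonality relations
  have hR2 : ∀ i j : Fin 3, ∑ χ : {χ // χ ∈ B}, (4 * V χ j - A χ) * V χ i =
      if i = j then (8 : ℤ) else 0 := by
    intro i j
    let T : ℕ → IrrCharacter G → ℂ := fun k χ =>
      ∑ o : O, (χ : G → ℂ) (t * ((g ^ k * o : (Subgroup.centralizer ({t} : Set G))) : G))
    have hTk : ∀ k : ℕ, ∑ χ : {χ // χ ∈ B}, P j χ * T k χ =
        (N : ℂ) * (24 * N) * (w ^ (j : ℕ)) ^ k := by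
      intro k
      simp only [T, Finset.mul_sum]
      rw [Finset.sum_comm]
      have hz : ∀ o : O, ∑ χ : {χ // χ ∈ B}, P j χ * ((χ : IrrCharacter G) : G → ℂ)
          (t * ((g ^ k * o : (Subgroup.centralizer ({t} : Set G))) : G)) = (24 * N : ℂ) * (w ^ (j : ℕ)) ^ k := by
        intro o
        have hreg : ¬ 2 ∣ orderOf (g ^ k * o : (Subgroup.centralizer ({t} : Set G))) :=
          odd_order D (by rw [← pow_mul, mul_comm]; exact pow_three_mul_mem D k) o.2
        have e := SectionOrth79.sum_block_secPair hM hx (SectionComplement79.induced_principal hM hx)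
          (hmem j) (fun z h => by
            simp only [pRegularPart, IsPRegular, show h * z * h⁻¹ = MulAut.conj h z from rfl,
              MulEquiv.orderOf_eq]
            simp [mul_inv_cancel_comm]) hreg
        rw [← Finset.sum_subtype (Finset.univ.filter (· ∈ B)) (by simp)
          (fun χ => P j χ * (χ : G → ℂ) (t * ((g ^ k * o : (Subgroup.centralizer ({t} : Set G))) : G))), e, hlamreg j _ hreg,
          card_eq D, show (lam j (g ^ k * o) : ℂ) = (w ^ (j : ℕ)) ^ k by simpa using hlam j k 1 o,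
          ← hN]
        push_cast
        ring
      rw [Finset.sum_congr rfl fun o _ => hz o, Finset.sum_const, nsmul_eq_mul, Finset.card_univ,
        ← Nat.card_eq_fintype_card]
      ring
    have hVc : ∀ χ, 3 * (N : ℂ) * (V χ i : ℂ) =
        T 0 χ + (w ^ 2) ^ (i : ℕ) * T 1 χ + ((w ^ 2) ^ (i : ℕ)) ^ 2 * T 2 χ := by
      intro χ
      have h := congrArg conj (hV' χ i)
      simpa [sA, T, map_sum, map_ofNat, hwc] using h
    have hsumL : ∑ χ : {χ // χ ∈ B}, P j χ * (3 * (N : ℂ) * (V χ i : ℂ)) =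
        (N : ℂ) * (24 * N) * (1 + (w ^ (2 * (i : ℕ) + j)) + (w ^ (2 * (i : ℕ) + j)) ^ 2) := by
      simp only [hVc, mul_add, Finset.sum_add_distrib, mul_left_comm (P j _) ((w ^ 2) ^ (i : ℕ)),
        mul_left_comm (P j _) (((w ^ 2) ^ (i : ℕ)) ^ 2), ← Finset.mul_sum, hTk]
      rw [pow_add, pow_mul]
      ring
    rw [hgeom] at hsumL
    have hiff : 3 ∣ 2 * (i : ℕ) + j ↔ i = j := by
      rw [Fin.ext_iff]
      have := i.2
      have := j.2
      omega
    have e : (9 * (N : ℂ) ^ 2) * ((∑ χ : {χ // χ ∈ B}, (4 * V χ j - A χ) * V χ i : ℤ) : ℂ) =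
        9 * (N : ℂ) ^ 2 * ((if i = j then (8 : ℤ) else 0 : ℤ) : ℂ) := by
      rw [Int.cast_sum, Finset.mul_sum]
      refine (Finset.sum_congr rfl fun χ _ => ?_).trans (hsumL.trans ?_)
      · rw [hP]; push_cast; ring
      · simp only [hiff]
        split_ifs <;> push_cast <;> ring
    exact_mod_cast mul_left_cancel₀ (mul_ne_zero (by norm_num) (pow_ne_zero 2 hN0)) e
  have hdeg : ∀ χ : {χ // χ ∈ B}, ((χ : IrrCharacter G) : G → ℂ) 1 =
      ((charDegree ((χ : IrrCharacter G) : G → ℂ) : ℤ) : ℂ) := fun χ => by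
    rw [Int.cast_natCast]; exact ClassAlgebraVal.apply_one_eq_charDegree _
  have hyne : ∀ y : (Subgroup.centralizer ({t} : Set G)), ¬ 2 ∣ orderOf y → ¬ IsConj (1 : G) (t * y) := by
    intro y hy h
    rw [isConj_one_right] at h
    have : (y : G) = t⁻¹ := eq_inv_of_mul_eq_one_right h
    rw [← Subgroup.orderOf_coe, this, orderOf_inv, ht] at hy
    exact hy dvd_rfl
  have hR3 : ∀ j : Fin 3, ∑ χ : {χ // χ ∈ B},
      (charDegree ((χ : IrrCharacter G) : G → ℂ) : ℤ) * (4 * V χ j - A χ) = 0 := by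
    intro j
    have h := hgen j fun χ => (χ : G → ℂ) 1
    rw [Finset.sum_eq_zero (s := (Finset.univ : Finset (Subgroup.centralizer ({t} : Set G)))) fun y _ => ?_] at h
    · simp only [hP, hdeg] at h
      have e : 3 * (N : ℂ) * ((∑ χ : {χ // χ ∈ B},
          (charDegree ((χ : IrrCharacter G) : G → ℂ) : ℤ) * (4 * V χ j - A χ) : ℤ) : ℂ) =
            3 * (N : ℂ) * ((0 : ℤ) : ℂ) := by
        rw [Int.cast_zero, mul_zero, Int.cast_sum, Finset.mul_sum, ← h]
        exact Finset.sum_congr rfl fun χ _ => by push_cast; ring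
      exact_mod_cast mul_left_cancel₀ (mul_ne_zero (by norm_num) hN0) e
    · split_ifs with hy
      · rfl
      · rw [CharBasicOrth.sum_irr_mul_conj, if_neg (hyne y hy), mul_zero]
  have hR4 : ∀ i j : Fin 3,
      ∑ χ : {χ // χ ∈ B}, ((A χ : ℤ) : ℚ) ^ 2 /
          ((charDegree ((χ : IrrCharacter G) : G → ℂ) : ℤ) : ℚ) * (V χ i : ℚ) =
        ∑ χ : {χ // χ ∈ B}, ((A χ : ℤ) : ℚ) ^ 2 /
          ((charDegree ((χ : IrrCharacter G) : G → ℂ) : ℤ) : ℚ) * (V χ j : ℚ) := by
    intro i j
    let F : IrrCharacter G → ℂ := fun χ => (χ : G → ℂ) t * (χ : G → ℂ) t / (χ : G → ℂ) 1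
    have hindep : ∀ j : Fin 3, ∑ χ : {χ // χ ∈ B}, P j χ * F χ =
        ∑ y : (Subgroup.centralizer ({t} : Set G)), if ¬ 2 ∣ orderOf y then
          ∑ χ : IrrCharacter G, F χ * conj ((χ : G → ℂ) (t * y)) else 0 := by
      intro j
      rw [hgen j F]
      refine Finset.sum_congr rfl fun y _ => ?_
      split_ifs with hy
      · rfl
      have hT : ∑ χ : IrrCharacter G, F χ * conj ((χ : G → ℂ) (t * y)) =
          ∑ χ : IrrCharacter G, (χ : G → ℂ) t * (χ : G → ℂ) t *
            conj ((χ : G → ℂ) (t * y)) / (χ : G → ℂ) 1 :=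
        Finset.sum_congr rfl fun χ _ => by simp only [F]; ring
      rw [hT, ClassAlgebraVal.sum_irr_triple]
      by_cases hne : Nonempty {x : G // IsConj (t * (y : G)) (t * (x * t * x⁻¹))}
      · obtain ⟨⟨x, hx'⟩⟩ := hne
        obtain ⟨a, ha⟩ := inverted ht hy hx'
        obtain ⟨k, s, o, rfl, -⟩ := exists_eq D y
        have h1 := congrArg (fun z => (lam 1 z : ℂ)) ha
        simp only [map_mul, map_inv, mul_inv_cancel_comm] at h1
        rw [Units.val_inv_eq_inv_val] at h1
        have h2 : (lam 1 (g ^ (k : ℕ) * s * o) : ℂ) = w ^ (k : ℕ) := by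
          rw [hlam]; simp
        rw [show ((lam 1 (g ^ (k : ℕ)) * lam 1 (s : (Subgroup.centralizer ({t} : Set G))) * lam 1 (o : (Subgroup.centralizer ({t} : Set G))) : ℂˣ) : ℂ) =
          w ^ (k : ℕ) by rw [← map_mul, ← map_mul]; exact h2] at h1
        have h3 : w ^ (k : ℕ) = 1 := by
          have h4 : w ^ (k : ℕ) * w ^ (k : ℕ) = 1 := by
            nth_rw 1 [h1]
            exact inv_mul_cancel₀ (pow_ne_zero _ (hwp.ne_zero (by norm_num)))
          calc w ^ (k : ℕ) = (w ^ (k : ℕ)) * ((w ^ (k : ℕ)) * (w ^ (k : ℕ))) := by rw [h4, mul_one]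
            _ = (w ^ (k : ℕ)) ^ 3 := by ring
            _ = 1 := hwi _
        rw [hlam, ← pow_mul, mul_comm (j : ℕ), pow_mul, h3, one_pow, one_mul]
      · rw [not_nonempty_iff] at hne
        rw [Nat.card_of_isEmpty (α := {x : G // IsConj (t * (y : G)) (t * (x * t * x⁻¹))})]
        simp
    have key : ∀ j : Fin 3, ∑ χ : {χ // χ ∈ B}, P j χ * F χ =
        3 * (N : ℂ) * (((4 : ℚ) * (∑ χ : {χ // χ ∈ B}, ((A χ : ℤ) : ℚ) ^ 2 /
          ((charDegree ((χ : IrrCharacter G) : G → ℂ) : ℤ) : ℚ) * (V χ j : ℚ)) -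
          ∑ χ : {χ // χ ∈ B}, ((A χ : ℤ) : ℚ) ^ 2 /
          ((charDegree ((χ : IrrCharacter G) : G → ℂ) : ℤ) : ℚ) * (A χ : ℚ) : ℚ) : ℂ) := by
      intro j
      push_cast
      rw [Finset.mul_sum, ← Finset.sum_sub_distrib, Finset.mul_sum]
      refine Finset.sum_congr rfl fun χ _ => ?_
      simp only [F, hP, htB, hdeg]
      push_cast
      ring
    have h := (hindep i).trans (hindep j).symm
    rw [key, key] at h
    have h5 := mul_left_cancel₀ (mul_ne_zero (by norm_num) hN0) h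
    rw [Rat.cast_inj] at h5
    linarith
  -- the trivial character
  let one : {χ // χ ∈ B} := ⟨BlockPrincipal81.oneChar G, BlockPrincipal81.oneChar_mem hM⟩
  have hVone : ∀ i : Fin 3, V one i = if i = 0 then 1 else 0 := by
    intro i
    have h := hV' one i
    have hs : ∀ k, sA one k = (N : ℂ) := fun k => by
      simp [sA, one, BlockPrincipal81.oneChar, hN, Nat.card_eq_fintype_card]
    rw [hs, hs, hs] at h
    have e : 3 * (N : ℂ) * (V one i : ℂ) = 3 * (N : ℂ) * ((if i = 0 then 1 else 0 : ℤ) : ℂ) := by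
      rw [h, show (N : ℂ) + w ^ (i : ℕ) * N + (w ^ (i : ℕ)) ^ 2 * N =
        N * (1 + w ^ (i : ℕ) + (w ^ (i : ℕ)) ^ 2) by ring, hgeom]
      fin_cases i <;> norm_num <;> ring
    exact_mod_cast mul_left_cancel₀ (mul_ne_zero (by norm_num) hN0) e
  -- restriction to the Sylow subgroup
  have hres : ∀ χ : {χ // χ ∈ B}, ∃ m : ℕ,
      (charDegree ((χ : IrrCharacter G) : G → ℂ) : ℤ) + 7 * A χ = 8 * m := by
    intro χ
    obtain ⟨m, hm⟩ := ClassAlgebraVal.exists_sum_subgroup
      (CharBasic.isCharacter_comap (Subgroup.centralizer ({t} : Set G)).subtype (ClassAlgebraVal.irr_isCharacter (χ : IrrCharacter G))) S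
    refine ⟨m, ?_⟩
    have hval : ∀ u : S, conj ((((χ : IrrCharacter G) : G → ℂ) ∘ (Subgroup.centralizer ({t} : Set G)).subtype) (u : (Subgroup.centralizer ({t} : Set G)))) =
        if u = 1 then ((charDegree ((χ : IrrCharacter G) : G → ℂ) : ℤ) : ℂ) else (A χ : ℂ) := by
      intro u
      split_ifs with hu
      · subst hu
        simp [hdeg χ]
      · show conj (((χ : IrrCharacter G) : G → ℂ) ((u : (Subgroup.centralizer ({t} : Set G))) : G)) = _
        rw [← ClassAlgebraVal.irr_conj _ (hconj u u.2 (by simpa using hu)), htB]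
        simp
    rw [Finset.sum_congr rfl fun u _ => hval u, ← Finset.add_sum_erase _ _ (Finset.mem_univ 1),
      if_pos rfl, Finset.sum_congr rfl fun u hu => if_neg (Finset.ne_of_mem_erase hu),
      Finset.sum_const, nsmul_eq_mul, Finset.card_erase_of_mem (Finset.mem_univ 1), Finset.card_univ,
      ← Nat.card_eq_fintype_card, D.card_S] at hm
    norm_num at hm
    exact_mod_cast hm
  -- derived relations
  have hAV : ∀ i, ∑ χ : {χ // χ ∈ B}, A χ * V χ i = 8 := by
    intro i
    have e := hR2 i 0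
    have e1 := hR2 i 1
    have e2 := hR2 i 2
    have : ∑ χ : {χ // χ ∈ B}, ((4 * V χ 0 - A χ) * V χ i + (4 * V χ 1 - A χ) * V χ i +
        (4 * V χ 2 - A χ) * V χ i) = ∑ χ : {χ // χ ∈ B}, A χ * V χ i :=
      Finset.sum_congr rfl fun χ _ => by simp only [A]; ring
    rw [← this, Finset.sum_add_distrib, Finset.sum_add_distrib, e, e1, e2]
    fin_cases i <;> decide
  have hvv : ∀ i j : Fin 3, ∑ χ : {χ // χ ∈ B}, V χ i * V χ j = if i = j then (4 : ℤ) else 2 := by
    intro i j
    have e := hR2 i j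
    simp only [sub_mul, Finset.sum_sub_distrib, hAV i, mul_assoc, ← Finset.mul_sum] at e
    rw [show ∑ χ : {χ // χ ∈ B}, V χ i * V χ j = ∑ χ : {χ // χ ∈ B}, V χ j * V χ i from
      Finset.sum_congr rfl fun χ _ => mul_comm _ _]
    split_ifs at e ⊢ <;> omega
  have hAa : ∑ χ : {χ // χ ∈ B}, (charDegree ((χ : IrrCharacter G) : G → ℂ) : ℤ) * A χ = 0 := by
    have : ∑ χ : {χ // χ ∈ B}, (charDegree ((χ : IrrCharacter G) : G → ℂ) : ℤ) * A χ =
        ∑ χ : {χ // χ ∈ B}, ((charDegree ((χ : IrrCharacter G) : G → ℂ) : ℤ) * (4 * V χ 0 - A χ) +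
          (charDegree ((χ : IrrCharacter G) : G → ℂ) : ℤ) * (4 * V χ 1 - A χ) +
          (charDegree ((χ : IrrCharacter G) : G → ℂ) : ℤ) * (4 * V χ 2 - A χ)) :=
      Finset.sum_congr rfl fun χ _ => by simp only [A]; ring
    rw [this, Finset.sum_add_distrib, Finset.sum_add_distrib, hR3, hR3, hR3]; rfl
  refine EightAutomizer56Arith.false_of_table (ι := {χ // χ ∈ B})
    (a := fun χ => (charDegree ((χ : IrrCharacter G) : G → ℂ) : ℤ))
    (v := fun i χ => V χ i)
    (fun χ => Int.natCast_pos.2 (ClassAlgebraVal.charDegree_pos _)) (e := one) ?_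
    (by rw [hVone]; rfl) (by rw [hVone]; rfl) (by rw [hVone]; rfl) ?_ ?_ ?_ hvv ?_ hR4
  · simp [one, BlockPrincipal81.oneChar, charDegree]
  · intro χ hχ
    refine Subtype.ext (Subtype.ext ?_)
    rw [hlin _ (by rw [hdeg χ, hχ]; simp)]
    rfl
  · intro χ
    obtain ⟨m, hm⟩ := hres χ
    exact ⟨m, hm⟩
  · intro χ
    obtain ⟨m, hm⟩ := hres χ
    show 0 ≤ _ + 7 * A χ
    rw [hm]; positivity
  · intro j
    have e := hR3 j
    simp only [mul_sub, Finset.sum_sub_distrib, hAa, sub_zero, mul_left_comm _ (4 : ℤ),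
      ← Finset.mul_sum] at e
    exact (mul_eq_zero.1 e).resolve_left (by norm_num)

end Cfsg.Agent.EightAutomizer56Block
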