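import Mathlib
import Cfsg.Prelude.Def_EvenType

/-!
# Strongly `p`-embedded subgroups through normalizers of `p`-subgroups
-/

set_option autoImplicit false

namespace Cfsg.Agent.PEmbCore

open Subgroup
open scoped Pointwise

variable {G : Type*} [Group G] {p : ℕ}

theorem not_pRankLE_zero_of_ne_bot [Finite G] [hp : Fact p.Prime] {Q : Subgroup G}
    (hQ : IsPGroup p Q) (hne : Q ≠ ⊥) : ¬ Cfsg.PRankLE p 0 Q := by
  intro h
  have hdvd : p ∣ Nat.card Q := by
    obtain ⟨k, hk⟩ := IsPGroup.iff_card.mp hQ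
    have hk0 : k ≠ 0 := by
      rintro rfl; exact hne (Subgroup.card_eq_one.mp (by simpa using hk))
    exact hk ▸ dvd_pow_self p hk0
  obtain ⟨x, hx⟩ := exists_prime_orderOf_dvd_card' p hdvd
  have := h (Subgroup.zpowers x) inferInstance (fun a ha => by
    obtain ⟨i, rfl⟩ := Subgroup.mem_zpowers_iff.mp ha
    rw [← zpow_natCast, ← zpow_mul, mul_comm, zpow_mul, zpow_natCast, ← hx, pow_orderOf_eq_one,
      one_zpow])
  rw [Nat.card_zpowers, hx, pow_zero] at this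
  exact absurd hp.out.two_le (by omega)

theorem ne_bot_of_not_pRankLE_zero {Q : Subgroup G} (h : ¬ Cfsg.PRankLE p 0 Q) : Q ≠ ⊥ := by
  rintro rfl
  refine h fun A _ _ => ?_
  rw [Subsingleton.elim A ⊥, Subgroup.card_bot, pow_zero]

theorem isStronglyPEmbedded_iff [Finite G] [hp : Fact p.Prime] {H : Subgroup G} :
    Cfsg.IsStronglyPEmbedded p H ↔ p ∣ Nat.card G ∧ H ≠ ⊤ ∧ ∃ P : Sylow p G,
      ∀ Q : Subgroup G, Q ≤ (P : Subgroup G) → Q ≠ ⊥ → Subgroup.normalizer (Q : Set G) ≤ H := by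
  unfold Cfsg.IsStronglyPEmbedded Cfsg.kGeneratedCore
  refine and_congr_right' (and_congr_right' (exists_congr fun P => ?_))
  rw [iSup_le_iff]
  exact ⟨fun h Q hQ hne => h ⟨Q, hQ, not_pRankLE_zero_of_ne_bot (P.2.to_le hQ) hne⟩,
    fun h Q => h Q.1 Q.2.1 (ne_bot_of_not_pRankLE_zero Q.2.2)⟩

theorem exists_orderOf_eq [Finite G] [hp : Fact p.Prime] {Q : Subgroup G}
    (hQ : IsPGroup p Q) (hne : Q ≠ ⊥) : ∃ x ∈ Q, orderOf x = p := by
  have hdvd : p ∣ Nat.card Q := by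
    obtain ⟨k, hk⟩ := IsPGroup.iff_card.mp hQ
    have hk0 : k ≠ 0 := by
      rintro rfl; exact hne (Subgroup.card_eq_one.mp (by simpa using hk))
    exact hk ▸ dvd_pow_self p hk0
  obtain ⟨x, hx⟩ := exists_prime_orderOf_dvd_card' p hdvd
  exact ⟨x, x.2, by rw [Subgroup.orderOf_coe, hx]⟩

end Cfsg.Agent.PEmbCore
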