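import Mathlib
import Cfsg.Prelude.Def_Transfer
import Cfsg.Agent.Lib.EightAutomizer56Block
import Cfsg.Agent.Lib.FrattiniTuples
import Cfsg.Agent.Lib.PClosedStrong56
import Cfsg.Agent.Lib.DihedralStar68
import Cfsg.Agent.S0074

/-!
# The automiser of an elementary abelian Sylow 2-subgroup of order 8 in a simple group with
solvable centralisers of involutions
-/

set_option autoImplicit false

open scoped commutatorElement

namespace Cfsg.Agent.EightAutomizer56Main

open Cfsg EightAutomizer56Local

universe u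

/-- In a solvable group an element centralising a Sylow `p`-subgroup lies in its product
with the `p'`-core. -/
theorem mem_of_centralize {H : Type u} [Group H] [Finite H] (hsol : Group.IsSolvable H)
    {p : ℕ} [Fact p.Prime] (S : Sylow p H) {x : H}
    (hx : ∀ s ∈ (S : Subgroup H), Commute x s) : x ∈ (S : Subgroup H) ⊔ pPrimeCore p H := by
  have := hsol
  have hKn : (pPrimeCore p H).Normal := HallCore.pPrimeCore_normal p H
  set K := pPrimeCore p H
  let f := QuotientGroup.mk' K
  have hf : Function.Surjective f := QuotientGroup.mk'_surjective K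
  set S' := S.mapSurjective hf with hS'
  set V := pCore p (H ⧸ K) with hVdef
  have hVn : V.Normal := HallCore.pCore_normal p _
  have hVS : V ≤ (S' : Subgroup (H ⧸ K)) := by
    have h1 : IsPGroup p ↥(V ⊔ (S' : Subgroup (H ⧸ K))) :=
      IsPGroup.to_sup_of_normal_left (HallCore.isPGroup_pCore p _) S'.2
    rw [← S'.3 h1 le_sup_right]
    exact le_sup_left
  have hle : ∀ y : H ⧸ K, (∀ v ∈ (S' : Subgroup (H ⧸ K)), Commute y v) → y ∈ V := fun y hy =>
    HallSolvable.centralizer_pCore_le
      (HallSolvable.isPSolvable_quotient (HallSolvable.isPSolvable_of_solvable p) K)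
      (HallCore.pPrimeCore_quotient_self p H) (fun v hv => (hy v (hVS hv)).symm)
  have hfx : f x ∈ (S' : Subgroup (H ⧸ K)) := by
    refine hVS (hle _ ?_)
    rintro _ ⟨s, hs, rfl⟩
    exact (hx s hs).map f
  rw [hS', Sylow.coe_mapSurjective, ← Subgroup.mem_comap, Subgroup.comap_map_eq,
    QuotientGroup.ker_mk'] at hfx
  exact hfx

/-- The automisers that can occur. -/
theorem automizer_cases {E : Type u} [Group E] [Finite E] (hE8 : Nat.card E = 8)
    (hdvd : Nat.card (MulAut E) ∣ 168) (A : Subgroup (MulAut E))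
    (hodd : Odd (Nat.card A)) (hfix : ∀ z : E, (∀ a ∈ A, a z = z) → z = 1) :
    Nat.card A = 7 ∨ (Nat.card A = 21 ∧ ∀ t : E, t ≠ 1 →
      (∀ u : E, u ≠ 1 → ∃ a ∈ A, a t = u) ∧
      ∃ α ∈ A, orderOf α = 3 ∧ α t = t ∧ (∀ a ∈ A, a t = t → ∃ k : Fin 3, a = α ^ (k : ℕ)) ∧
        ∀ s : E, α s = s → s = 1 ∨ s = t) := by
  classical
  haveI : Fact (Nat.Prime 3) := ⟨Nat.prime_three⟩
  haveI : Fact (Nat.Prime 7) := ⟨by norm_num⟩
  have h21 : Nat.card A ∣ 21 := by
    have h1 : Nat.card A ∣ 8 * 21 := (Subgroup.card_subgroup_dvd_card A).trans hdvd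
    exact (Nat.Coprime.dvd_of_dvd_mul_left
      ((hodd.coprime_two_right).pow_right 3) h1)
  have hn1 : Nat.card A ≠ 1 := by
    intro h
    obtain ⟨z, hz⟩ : ∃ z : E, z ≠ 1 := by
      haveI : Nontrivial E := Finite.one_lt_card_iff_nontrivial.1 (by omega)
      exact exists_ne 1
    refine hz (hfix z fun a ha => ?_)
    have : A = ⊥ := Subgroup.card_eq_one.1 h
    rw [this, Subgroup.mem_bot] at ha
    rw [ha, MulAut.one_apply]
  have hn3 : Nat.card A ≠ 3 := by
    intro h
    have hp : IsPGroup 3 A := IsPGroup.of_card (n := 1) (by rw [h, pow_one])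
    have hmod := hp.card_modEq_card_fixedPoints (α := E)
    rw [hE8] at hmod
    have hs : Subsingleton (MulAction.fixedPoints A E) := ⟨fun z w => by
      have hz : ∀ z : MulAction.fixedPoints A E, (z : E) = 1 := fun z =>
        hfix z fun a ha => z.2 ⟨a, ha⟩
      exact Subtype.ext ((hz z).trans (hz w).symm)⟩
    have : Nat.card (MulAction.fixedPoints A E) = 1 := Nat.card_eq_one_iff_unique.2
      ⟨hs, ⟨⟨1, fun a => map_one (a : MulAut E)⟩⟩⟩
    rw [this] at hmod
    exact absurd hmod (by decide)
  have hd : Nat.card A = 1 ∨ Nat.card A = 3 ∨ Nat.card A = 7 ∨ Nat.card A = 21 := by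
    have := Nat.mem_divisors.2 ⟨h21, by norm_num⟩
    rw [show Nat.divisors 21 = {1, 3, 7, 21} by decide] at this
    simpa using this
  rcases hd with h | h | h | h
  · exact absurd h hn1
  · exact absurd h hn3
  · exact Or.inl h
  refine Or.inr ⟨h, fun t ht => ?_⟩
  obtain ⟨σ, hσ⟩ := exists_prime_orderOf_dvd_card' 7 (show 7 ∣ Nat.card A by rw [h]; norm_num)
  have hσ1 : (σ : MulAut E) ≠ 1 := fun e => by
    have : σ = 1 := Subtype.ext e
    rw [this, orderOf_one] at hσ
    norm_num at hσ
  -- an element of order seven fixes only the identity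
  have hσfix : ∀ z : E, (σ : MulAut E) z = z → z = 1 := by
    let F : Subgroup E := MonoidHom.eqLocus ((σ : MulAut E) : E →* E) (MonoidHom.id E)
    have hp : IsPGroup 7 (Subgroup.zpowers σ) :=
      IsPGroup.of_card (n := 1) (by rw [Nat.card_zpowers, hσ, pow_one])
    have hmod := hp.card_modEq_card_fixedPoints (α := E)
    have he : Nat.card (MulAction.fixedPoints (Subgroup.zpowers σ) E) = Nat.card F := by
      refine Nat.card_congr (Equiv.subtypeEquivRight fun z => ⟨fun hz => ?_, fun hz x => ?_⟩)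
      · exact hz ⟨σ, Subgroup.mem_zpowers σ⟩
      · have hm : σ ∈ MulAction.stabilizer A z := hz
        exact Subgroup.zpowers_le.2 hm x.2
    rw [hE8, he] at hmod
    have hF : Nat.card F ∣ 8 := hE8 ▸ Subgroup.card_subgroup_dvd_card F
    have hFne : Nat.card F ≠ 8 := fun e => hσ1 <| MulEquiv.ext fun z => by
      have hz : z ∈ F := by rw [Subgroup.eq_top_of_card_eq F (by rw [e, hE8])]; trivial
      exact hz
    have hF1 : Nat.card F = 1 := by
      have := Nat.le_of_dvd (by norm_num) hF
      have hmod' : 8 % 7 = Nat.card F % 7 := hmod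
      omega
    intro z hz
    have : z ∈ (⊥ : Subgroup E) := by rw [← Subgroup.card_eq_one.1 hF1]; exact hz
    exact this
  have horb : ∀ u : E, u ≠ 1 → u ∈ MulAction.orbit A t := by
    have hsub : MulAction.orbit A t ⊆ {u : E | u ≠ 1} := by
      rintro _ ⟨a, rfl⟩ e
      exact ht ((map_eq_one_iff (a : MulAut E) (MulEquiv.injective _)).1 e)
    have hsub2 : MulAction.orbit (Subgroup.zpowers σ) t ⊆ MulAction.orbit A t := by
      rintro _ ⟨x, rfl⟩
      exact ⟨x.1, rfl⟩
    have h7 : (MulAction.orbit (Subgroup.zpowers σ) t).ncard = 7 := by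
      have hidx := MulAction.index_stabilizer (Subgroup.zpowers σ) t
      have hd : (MulAction.stabilizer (Subgroup.zpowers σ) t).index ∣ 7 := by
        have h0 : Nat.card (Subgroup.zpowers σ) = 7 := (Nat.card_zpowers σ).trans hσ
        exact h0 ▸ Subgroup.index_dvd_card _
      rw [hidx] at hd
      rcases (Nat.dvd_prime (by norm_num)).1 hd with e | e
      · exfalso
        obtain ⟨z, hz⟩ := Set.ncard_eq_one.1 e
        have h1 : t = z := by simpa [hz] using MulAction.mem_orbit_self (M := Subgroup.zpowers σ) t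
        have h2 := MulAction.mem_orbit t (⟨σ, Subgroup.mem_zpowers σ⟩ : Subgroup.zpowers σ)
        rw [hz, Set.mem_singleton_iff, ← h1] at h2
        exact ht (hσfix t h2)
      · exact e
    have hne : ({u : E | u ≠ 1} : Set E).ncard = 7 := by
      rw [show ({u : E | u ≠ 1} : Set E) = {1}ᶜ from rfl, Set.ncard_compl, hE8,
        Set.ncard_singleton]
    have heq := Set.eq_of_subset_of_ncard_le (hsub2.trans hsub) (by rw [h7, hne]) (Set.toFinite _)
    intro u hu
    exact hsub2 (heq.symm ▸ hu)
  refine ⟨fun u hu => ?_, ?_⟩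
  · obtain ⟨a, ha⟩ := horb u hu
    exact ⟨a, a.2, ha⟩
  have hstab : Nat.card (MulAction.stabilizer A t) = 3 := by
    have h1 : MulAction.orbit A t = {u : E | u ≠ 1} := by
      refine Set.Subset.antisymm ?_ horb
      rintro _ ⟨a, rfl⟩ e
      exact ht ((map_eq_one_iff (a : MulAut E) (MulEquiv.injective _)).1 e)
    have h2 := (MulAction.stabilizer A t).card_mul_index
    rw [MulAction.index_stabilizer, h1, show ({u : E | u ≠ 1} : Set E) = {1}ᶜ from rfl,
      Set.ncard_compl, hE8, Set.ncard_singleton, h] at h2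
    omega
  obtain ⟨α, hα⟩ := exists_prime_orderOf_dvd_card' 3 (show 3 ∣ Nat.card (MulAction.stabilizer A t) by
    rw [hstab])
  have hα3 : orderOf ((α : A) : MulAut E) = 3 := by
    rw [Subgroup.orderOf_coe, Subgroup.orderOf_coe, hα]
  refine ⟨((α : A) : MulAut E), (α : A).2, hα3, α.2, ?_, ?_⟩
  · intro a ha hat
    have hm : (⟨⟨a, ha⟩, hat⟩ : MulAction.stabilizer A t) ∈ Subgroup.zpowers α := by
      rw [Subgroup.eq_top_of_card_eq (Subgroup.zpowers α)
        (by rw [Nat.card_zpowers, hα, hstab])]
      trivial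
    rw [mem_zpowers_iff_mem_range_orderOf, hα, Finset.mem_image] at hm
    obtain ⟨k, hk, hk'⟩ := hm
    refine ⟨⟨k, Finset.mem_range.1 hk⟩, ?_⟩
    have := congrArg (fun z : MulAction.stabilizer A t => ((z : A) : MulAut E)) hk'
    simpa using this.symm
  · let F : Subgroup E := MonoidHom.eqLocus (((α : A) : MulAut E) : E →* E) (MonoidHom.id E)
    have hp : IsPGroup 3 (Subgroup.zpowers ((α : A) : MulAut E)) :=
      IsPGroup.of_card (n := 1) (by rw [Nat.card_zpowers, hα3, pow_one])
    have hmod := hp.card_modEq_card_fixedPoints (α := E)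
    have he : Nat.card (MulAction.fixedPoints (Subgroup.zpowers ((α : A) : MulAut E)) E) =
        Nat.card F := by
      refine Nat.card_congr (Equiv.subtypeEquivRight fun z => ⟨fun hz => ?_, fun hz x => ?_⟩)
      · exact hz ⟨_, Subgroup.mem_zpowers _⟩
      · have hm : ((α : A) : MulAut E) ∈ MulAction.stabilizer (MulAut E) z := hz
        exact Subgroup.zpowers_le.2 hm x.2
    rw [hE8, he] at hmod
    have hF : Nat.card F ∣ 8 := hE8 ▸ Subgroup.card_subgroup_dvd_card F
    have hFne : Nat.card F ≠ 8 := fun e => by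
      have : ((α : A) : MulAut E) = 1 := MulEquiv.ext fun z => by
        have hz : z ∈ F := by rw [Subgroup.eq_top_of_card_eq F (by rw [e, hE8])]; trivial
        exact hz
      rw [this, orderOf_one] at hα3
      norm_num at hα3
    have hF2 : Nat.card F = 2 := by
      have hd' := Nat.le_of_dvd (by norm_num) hF
      have hmod' : 8 % 3 = Nat.card F % 3 := hmod
      have : Nat.card F ≠ 5 := fun e => by rw [e] at hF; norm_num at hF
      omega
    intro s hs
    obtain ⟨y, hy, huniq⟩ := (Nat.card_eq_two_iff' (1 : F)).1 hF2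
    by_cases hs1 : s = 1
    · exact Or.inl hs1
    · right
      have e1 := huniq ⟨s, hs⟩ fun e => hs1 (congrArg Subtype.val e)
      have e2 := huniq ⟨t, α.2⟩ fun e => ht (congrArg Subtype.val e)
      exact congrArg Subtype.val (e1.trans e2.symm)

/-- The automiser has order 7. -/
theorem main {G : Type u} [Group G] [Finite G]
    [IsSimpleGroup G] (hG : ¬ IsMulCommutative G) (S : Sylow 2 G)
    (hS : Cfsg.IsElementaryAbelian 2 (S : Subgroup G)) (hS8 : Nat.card ↥(S : Subgroup G) = 8)
    (hC : ∀ t : G, orderOf t = 2 → Group.IsSolvable ↥(Subgroup.centralizer ({t} : Set G))) :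
    (Subgroup.centralizer ((S : Subgroup G) : Set G)).relIndex
      (Subgroup.normalizer ((S : Subgroup G) : Set G)) = 7 := by
  classical
  haveI := Fintype.ofFinite G
  haveI : Fact (Nat.Prime 2) := ⟨Nat.prime_two⟩
  obtain ⟨⟨hScomm⟩, hSexp⟩ := hS
  have hSc : ∀ x ∈ (S : Subgroup G), ∀ y ∈ (S : Subgroup G), x * y = y * x := fun x hx y hy =>
    congrArg Subtype.val (hScomm.comm ⟨x, hx⟩ ⟨y, hy⟩)
  have hSmc : IsMulCommutative (S : Subgroup G) := ⟨hScomm⟩
  let f : (Subgroup.normalizer ((S : Subgroup G) : Set G)) →* MulAut (S : Subgroup G) :=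
    (S : Subgroup G).normalizerMonoidHom
  have hfa : ∀ n s, ((f n s : (S : Subgroup G)) : G) = (n : G) * s * (n : G)⁻¹ := fun n s => rfl
  have hcard : Nat.card f.range = (Subgroup.centralizer ((S : Subgroup G) : Set G)).relIndex
      (Subgroup.normalizer ((S : Subgroup G) : Set G)) := by
    rw [← Subgroup.index_ker, Subgroup.normalizerMonoidHom_ker]
    rfl
  have hodd : Odd (Nat.card f.range) := by
    rw [hcard, Nat.odd_iff, ← Nat.two_dvd_ne_zero]
    intro h
    refine Sylow.not_dvd_index S (h.trans ?_)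
    refine (Subgroup.relIndex_dvd_of_le_left (Subgroup.normalizer ((S : Subgroup G) : Set G))
      (show (S : Subgroup G) ≤ Subgroup.centralizer ((S : Subgroup G) : Set G) from
        fun x hx y hy => hSc y hy x hx)).trans ?_
    exact ⟨_, (Subgroup.relIndex_mul_index Subgroup.le_normalizer).symm⟩
  have hperf : commutator G = ⊤ :=
    ((inferInstance : (commutator G).Normal).eq_bot_or_eq_top).resolve_left fun h => hG
      ⟨⟨fun a b => by
        have hm := Subgroup.commutator_mem_commutator (Subgroup.mem_top a) (Subgroup.mem_top b)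
        rw [← commutator_def, h, Subgroup.mem_bot, commutatorElement_eq_one_iff_mul_comm] at hm
        exact hm⟩⟩
  -- no element of the Sylow subgroup is fixed by the automiser
  have hfix : ∀ z : (S : Subgroup G), (∀ a ∈ f.range, a z = z) → z = 1 := by
    intro z hz
    letI : CommGroup (S : Subgroup G) := { (inferInstance : Group (S : Subgroup G)) with
      mul_comm := hScomm.comm }
    let φ : (S : Subgroup G) →* (S : Subgroup G) :=
      { toFun := fun s => ∏ a : f.range, (a : MulAut (S : Subgroup G)) s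
        map_one' := Finset.prod_eq_one fun a _ => map_one _
        map_mul' := fun s s' => by
          rw [← Finset.prod_mul_distrib]
          exact Finset.prod_congr rfl fun a _ => map_mul _ _ _ }
    have hinv : ∀ (b : f.range) (s : (S : Subgroup G)),
        φ ((b : MulAut (S : Subgroup G)) s) = φ s := fun b s =>
      Fintype.prod_equiv (Equiv.mulRight b) _ _ fun a => rfl
    have hall : ∀ x ∈ ⁅(S : Subgroup G), Subgroup.normalizer ((S : Subgroup G) : Set G)⁆,
        ∀ hx : x ∈ (S : Subgroup G), φ ⟨x, hx⟩ = 1 := by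
      intro x hx
      rw [Subgroup.commutator_def] at hx
      induction hx using Subgroup.closure_induction with
      | mem x hx =>
        intro hxS
        obtain ⟨s, hs, n, hn, rfl⟩ := hx
        have e : (⟨⁅s, n⁆, hxS⟩ : (S : Subgroup G)) = ⟨s, hs⟩ * f ⟨n, hn⟩ ⟨s, hs⟩⁻¹ :=
          Subtype.ext (by
            rw [Subgroup.coe_mul, hfa]
            show ⁅s, n⁆ = s * (n * s⁻¹ * n⁻¹)
            rw [commutatorElement_def]
            group)
        rw [e, map_mul, hinv ⟨f ⟨n, hn⟩, ⟨n, hn⟩, rfl⟩, map_inv, mul_inv_cancel]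
      | one => exact fun _ => map_one φ
      | mul x y hxc hyc ihx ihy =>
        intro hxy
        have hxS := S0074.comm_le S (by rw [Subgroup.commutator_def]; exact hxc)
        have hyS := S0074.comm_le S (by rw [Subgroup.commutator_def]; exact hyc)
        rw [show (⟨x * y, hxy⟩ : (S : Subgroup G)) = ⟨x, hxS⟩ * ⟨y, hyS⟩ from rfl, map_mul,
          ihx, ihy, mul_one]
      | inv x hxc ihx =>
        intro hx'
        have hxS := S0074.comm_le S (by rw [Subgroup.commutator_def]; exact hxc)
        rw [show (⟨x⁻¹, hx'⟩ : (S : Subgroup G)) = (⟨x, hxS⟩ : (S : Subgroup G))⁻¹ from rfl, map_inv,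
          ihx, inv_one]
    have hzc : (z : G) ∈ ⁅(S : Subgroup G), Subgroup.normalizer ((S : Subgroup G) : Set G)⁆ := by
      refine S0074.focal_le S hSmc ?_
      rw [← Subgroup.commutator_inf_eq_focalSubgroup S, hperf, top_inf_eq]
      exact z.2
    have h1 : φ z = z ^ Nat.card f.range := by
      show ∏ a : f.range, (a : MulAut (S : Subgroup G)) z = _
      rw [Finset.prod_congr rfl fun a _ => hz _ a.2, Finset.prod_const, Finset.card_univ,
        Nat.card_eq_fintype_card]
    rw [hall _ hzc z.2] at h1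
    obtain ⟨k, hk⟩ := hodd
    have hz2 : z ^ 2 = 1 := Subtype.ext (hSexp z z.2)
    rw [hk, pow_succ, pow_mul, hz2, one_pow, one_mul] at h1
    exact h1.symm
  have hdvd : Nat.card (MulAut (S : Subgroup G)) ∣ 168 := by
    have hΦ : frattini (S : Subgroup G) = ⊥ := PGroupsBasic.frattini_eq_bot_of_elementary (p := 2)
      (fun a b => hScomm.comm a b) fun a => Subtype.ext (by simpa using hSexp a a.2)
    have := FrattiniTuples.card_mulAut_dvd (P := (S : Subgroup G)) (p := 2) (n := 3)
      (by rw [hS8]; norm_num) (r := 3) (by rw [hΦ, Subgroup.index_bot, hS8]; norm_num)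
    simpa [Finset.prod_range_succ] using this
  rw [← hcard]
  rcases automizer_cases hS8 hdvd
    f.range hodd hfix with h | ⟨-, hall⟩
  · exact h
  exfalso
  obtain ⟨t, ht1⟩ : ∃ t : (S : Subgroup G), t ≠ 1 := by
    haveI : Nontrivial (S : Subgroup G) := Finite.one_lt_card_iff_nontrivial.1 (by omega)
    exact exists_ne 1
  obtain ⟨htrans, α, ⟨g0, hg0⟩, hα3, hαt, hstab, hαfix⟩ := hall t ht1
  have ht2 : orderOf (t : G) = 2 :=
    orderOf_eq_prime (hSexp t t.2) fun e => ht1 (Subtype.ext e)
  -- a representative of odd order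
  obtain ⟨m, g, hgodd, hm3, hg⟩ : ∃ (m : ℕ) (g : Subgroup.normalizer ((S : Subgroup G) : Set G)),
      Odd (orderOf g) ∧ ¬ 3 ∣ m ∧ f g = α ^ m := by
    refine ⟨orderOf g0 / 3 ^ (orderOf g0).factorization 3, g0 ^ _, ?_,
      Nat.not_dvd_ordCompl Nat.prime_three (orderOf_pos g0).ne', by rw [map_pow, hg0]⟩
    have h0 : (g0 ^ (orderOf g0 / 3 ^ (orderOf g0).factorization 3)) ^
        (3 ^ (orderOf g0).factorization 3) = 1 := by
      rw [← pow_mul, Nat.div_mul_cancel (Nat.ordProj_dvd _ _), pow_orderOf_eq_one]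
    exact ((by decide : Odd 3).pow).of_dvd_nat (orderOf_dvd_of_pow_eq_one h0)
  have hpowfix : ∀ s, (α ^ m : MulAut (S : Subgroup G)) s = s → α s = s := by
    intro s hs
    have hmem : (α ^ m) ∈ MulAction.stabilizer (MulAut (S : Subgroup G)) s := hs
    obtain ⟨e, he⟩ := exists_pow_eq_self_of_coprime (x := α) (n := m) (by
      rw [hα3]; exact ((Nat.Prime.coprime_iff_not_dvd Nat.prime_three).2 hm3).symm)
    have := pow_mem hmem e
    rw [he] at this
    exact this
  have htC : ∀ {n : Subgroup.normalizer ((S : Subgroup G) : Set G)}, f n t = t →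
      (n : G) ∈ Subgroup.centralizer ({(t : G)} : Set G) := fun {n} hn => by
    rw [Subgroup.mem_centralizer_singleton_iff]
    have := congrArg Subtype.val hn
    rw [hfa] at this
    calc (n : G) * t = n * t * (n : G)⁻¹ * n := by group
      _ = t * n := by rw [this]
  have hαmt : f g t = t := by
    rw [hg]
    have hmem : α ∈ MulAction.stabilizer (MulAut (S : Subgroup G)) t := hαt
    exact pow_mem hmem m
  have hSC : (S : Subgroup G) ≤ Subgroup.centralizer ({(t : G)} : Set G) := fun x hx =>
    Subgroup.mem_centralizer_singleton_iff.2 (hSc x hx t t.2)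
  set S' := S.subtype hSC with hS'def
  set K := pPrimeCore 2 (Subgroup.centralizer ({(t : G)} : Set G)) with hKdef
  have hKn : K.Normal := HallCore.pPrimeCore_normal 2 _
  have hS'm : ∀ x : Subgroup.centralizer ({(t : G)} : Set G),
      x ∈ (S' : Subgroup (Subgroup.centralizer ({(t : G)} : Set G))) ↔ (x : G) ∈ (S : Subgroup G) :=
    fun x => Subgroup.mem_subgroupOf
  have hKodd : Odd (Nat.card K) := by
    rw [Nat.odd_iff, ← Nat.two_dvd_ne_zero]
    exact HallCore.not_dvd_card_pPrimeCore 2 _
  have hS'c : IsMulCommutative (S' : Subgroup (Subgroup.centralizer ({(t : G)} : Set G))) :=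
    ⟨⟨fun a b => Subtype.ext (Subtype.ext (hSc _ ((hS'm _).1 a.2) _ ((hS'm _).1 b.2)))⟩⟩
  have hcentr : ∀ x : Subgroup.centralizer ({(t : G)} : Set G),
      (∀ s ∈ (S' : Subgroup (Subgroup.centralizer ({(t : G)} : Set G))), Commute x s) →
      ∃ s : (S' : Subgroup (Subgroup.centralizer ({(t : G)} : Set G))), ∃ o : K,
        (s : Subgroup.centralizer ({(t : G)} : Set G)) * o = x := by
    intro x hx
    obtain ⟨s, hs, o, ho, rfl⟩ := Subgroup.mem_sup_of_normal_right.1
      (mem_of_centralize (hC _ ht2) S' hx)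
    exact ⟨⟨s, hs⟩, ⟨o, ho⟩, rfl⟩
  let gC : Subgroup.centralizer ({(t : G)} : Set G) := ⟨g, htC hαmt⟩
  have hg3 : f (g ^ 3) = 1 := by
    rw [map_pow, hg, ← pow_mul, mul_comm, pow_mul]
    have : α ^ 3 = 1 := hα3 ▸ pow_orderOf_eq_one α
    rw [this, one_pow]
  have hkerC : ∀ n : Subgroup.normalizer ((S : Subgroup G) : Set G), f n = 1 →
      ∀ (hn : (n : G) ∈ Subgroup.centralizer ({(t : G)} : Set G)),
      ∀ s ∈ (S' : Subgroup (Subgroup.centralizer ({(t : G)} : Set G))),
        Commute (⟨n, hn⟩ : Subgroup.centralizer ({(t : G)} : Set G)) s := by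
    intro n hn _ s hs
    have := congrArg (fun a : MulAut (S : Subgroup G) =>
      ((a ⟨(s : G), (hS'm s).1 hs⟩ : (S : Subgroup G)) : G)) hn
    simp only [hfa, MulAut.one_apply] at this
    refine Subtype.ext ?_
    show (n : G) * (s : G) = (s : G) * n
    calc (n : G) * s = n * s * (n : G)⁻¹ * n := by group
      _ = s * n := by rw [this]
  refine EightAutomizer56Block.false_of_datum (DihedralStar68.linear_eq_one hG) ht2
    (S := (S' : Subgroup (Subgroup.centralizer ({(t : G)} : Set G)))) (g := gC) ?_ ?_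
  · refine ⟨hKn, hKodd, ?_, ?_, (hS'm _).2 t.2, fun e => ht1 (Subtype.ext (congrArg Subtype.val e :)),
      ?_, ?_, ?_, ?_, ?_, hcentr⟩
    · rw [hS'def, Sylow.coe_subtype, Nat.card_congr (Subgroup.subgroupOfEquivOfLe hSC).toEquiv, hS8]
    · intro s hs
      exact Subtype.ext (by simpa [pow_two] using hSexp _ ((hS'm s).1 hs))
    · intro x
      exact Subtype.ext (Subgroup.mem_centralizer_singleton_iff.1 x.2).symm
    · intro s hs
      rw [hS'm] at hs ⊢
      show (g : G)⁻¹ * s * g ∈ (S : Subgroup G)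
      have := (Subgroup.mem_normalizer_iff.1 (inv_mem g.2) (s : G)).1 hs
      rwa [inv_inv] at this
    · obtain ⟨s, o, hso⟩ := hcentr (gC ^ 3) (by
        have h := hkerC (g ^ 3) hg3 (by rw [SubgroupClass.coe_pow]; exact pow_mem (htC hαmt) 3)
        exact h)
      have hoddq : Odd (orderOf ((gC ^ 3 : Subgroup.centralizer ({(t : G)} : Set G)) :
          (Subgroup.centralizer ({(t : G)} : Set G)) ⧸ K)) := by
        refine hgodd.of_dvd_nat ((orderOf_map_dvd (QuotientGroup.mk' K) (gC ^ 3)).trans ?_)
        refine orderOf_dvd_of_pow_eq_one (Subtype.ext ?_)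
        show (((g : G)) ^ 3) ^ orderOf g = 1
        rw [← pow_mul, mul_comm, pow_mul, ← Subgroup.orderOf_coe, pow_orderOf_eq_one, one_pow]
      rw [← QuotientGroup.eq_one_iff]
      have h2 : ((gC ^ 3 : Subgroup.centralizer ({(t : G)} : Set G)) :
          (Subgroup.centralizer ({(t : G)} : Set G)) ⧸ K) ^ 2 = 1 := by
        rw [← hso, QuotientGroup.mk_mul, (QuotientGroup.eq_one_iff _).2 o.2, mul_one,
          ← QuotientGroup.mk_pow, QuotientGroup.eq_one_iff]
        have : ((s : Subgroup.centralizer ({(t : G)} : Set G))) ^ 2 = 1 :=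
          Subtype.ext (hSexp _ ((hS'm _).1 s.2))
        rw [this]
        exact one_mem _
      rcases (Nat.dvd_prime Nat.prime_two).1 (orderOf_dvd_of_pow_eq_one h2) with e | e
      · exact orderOf_eq_one_iff.1 e
      · rw [e] at hoddq; exact absurd hoddq (by decide)
    · intro s hs hcomm
      have hs' : f g ⟨(s : G), (hS'm s).1 hs⟩ = ⟨(s : G), (hS'm s).1 hs⟩ := by
        refine Subtype.ext ?_
        rw [hfa]
        have : (g : G) * s = s * g := congrArg Subtype.val hcomm
        rw [this, mul_inv_cancel_right]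
      rw [hg] at hs'
      rcases hαfix _ (hpowfix _ hs') with e | e
      · exact Or.inl (Subtype.ext (congrArg Subtype.val e :))
      · exact Or.inr (Subtype.ext (congrArg Subtype.val e :))
    · intro x
      have htop := PClosedStrong56.sup_normalizer_eq_top (hC _ ht2) S' hS'c
      have hx : x ∈ K ⊔ Subgroup.normalizer
          ((S' : Subgroup (Subgroup.centralizer ({(t : G)} : Set G))) :
            Set (Subgroup.centralizer ({(t : G)} : Set G))) := by rw [htop]; trivial
      obtain ⟨o, ho, n, hn, rfl⟩ := Subgroup.mem_sup_of_normal_left.1 hx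
      have hnG : (n : G) ∈ Subgroup.normalizer ((S : Subgroup G) : Set G) := by
        rw [Subgroup.mem_normalizer_iff]
        intro y
        constructor
        · intro hy
          have := (Subgroup.mem_normalizer_iff.1 hn ⟨y, hSC hy⟩).1 ((hS'm _).2 hy)
          exact (hS'm _).1 this
        · intro hy
          have hyC : y ∈ Subgroup.centralizer ({(t : G)} : Set G) := by
            have := mul_mem (mul_mem (inv_mem n.2) (hSC hy)) n.2
            simpa [mul_assoc] using this
          exact (hS'm ⟨y, hyC⟩).1 ((Subgroup.mem_normalizer_iff.1 hn ⟨y, hyC⟩).2 ((hS'm _).2 hy))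
      have hnt : f ⟨n, hnG⟩ t = t := Subtype.ext (by
        rw [hfa]
        have := Subgroup.mem_centralizer_singleton_iff.1 n.2
        show (n : G) * t * (n : G)⁻¹ = t
        rw [this, mul_inv_cancel_right])
      obtain ⟨k, hk⟩ := hstab _ ⟨_, rfl⟩ hnt
      obtain ⟨e, he⟩ := exists_pow_eq_self_of_coprime (x := α) (n := m) (by
        rw [hα3]; exact ((Nat.Prime.coprime_iff_not_dvd Nat.prime_three).2 hm3).symm)
      set l := (e * (k : ℕ)) % 3 with hl
      have hfl : f (g ^ l) = α ^ (k : ℕ) := by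
        have h3 : (α ^ m) ^ 3 = 1 := by
          rw [← hg, ← map_pow]; exact hg3
        rw [map_pow, hg, hl, ← pow_eq_pow_mod _ h3, pow_mul, he]
      obtain ⟨s, o', hso⟩ := hcentr ((gC ^ l)⁻¹ * n) (by
        have h := hkerC ((g ^ l)⁻¹ * ⟨n, hnG⟩) (by rw [map_mul, map_inv, hfl, hk, inv_mul_cancel])
          (mul_mem (inv_mem (by rw [SubgroupClass.coe_pow]; exact pow_mem (htC hαmt) l)) n.2)
        exact h)
      refine ⟨⟨l, Nat.mod_lt _ (by norm_num)⟩, s, ⟨(gC ^ l * s)⁻¹ * o * (gC ^ l * s) * o', ?_⟩, ?_⟩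
      · exact mul_mem (by simpa using hKn.conj_mem o ho (gC ^ l * (s : _))⁻¹) o'.2
      · show gC ^ l * (s : Subgroup.centralizer ({(t : G)} : Set G)) *
          ((gC ^ l * s)⁻¹ * o * (gC ^ l * s) * o') = o * n
        calc gC ^ l * (s : Subgroup.centralizer ({(t : G)} : Set G)) *
              ((gC ^ l * s)⁻¹ * o * (gC ^ l * s) * o')
            = o * (gC ^ l * ((s : Subgroup.centralizer ({(t : G)} : Set G)) * o')) := by group
          _ = o * n := by rw [hso]; group
  · intro u hu hu1
    obtain ⟨a, ⟨n, rfl⟩, ha⟩ := htrans ⟨(u : G), (hS'm u).1 hu⟩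
      fun e => hu1 (Subtype.ext (congrArg Subtype.val e :))
    exact isConj_iff.2 ⟨n, (hfa n t).symm.trans (congrArg Subtype.val ha)⟩

end Cfsg.Agent.EightAutomizer56Main
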