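import Mathlib

set_option autoImplicit false
set_option maxRecDepth 100000

/-! `S_8` and the groups `(2^6)^k ⋊ A_8` have the element orders of `J_2`. -/

namespace Cfsg.Agent.EightSpectrum

/-- Maximal element orders. -/
def tops : List ℕ := [7, 8, 10, 12, 15]

lemma range_of_tops {G : Type*} [Group G] (h1 : ∀ g : G, ∃ m ∈ tops, g ^ m = 1)
    (h2 : ∀ m ∈ tops, ∃ g : G, orderOf g = m) :
    Set.range (orderOf : G → ℕ) = {n | ∃ m ∈ tops, n ∣ m} := by
  ext n
  constructor
  · rintro ⟨g, rfl⟩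
    obtain ⟨m, hm, hg⟩ := h1 g
    exact ⟨m, hm, orderOf_dvd_of_pow_eq_one hg⟩
  · rintro ⟨m, hm, hn⟩
    obtain ⟨g, hg⟩ := h2 m hm
    refine ⟨g ^ (orderOf g / n), orderOf_pow_orderOf_div ?_ (hg ▸ hn)⟩
    rw [hg]; fin_cases hm <;> omega

/-- Multisets of at most `fuel` numbers `≥ 2` with sum `≤ b`. -/
def types : ℕ → ℕ → List (Multiset ℕ)
  | 0, _ => [0]
  | fuel + 1, b => 0 :: (List.range (b + 1)).flatMap fun c =>
      if 2 ≤ c then (types fuel (b - c)).map fun s => c ::ₘ s else []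

lemma mem_types (s : Multiset ℕ) : ∀ fuel b, (∀ x ∈ s, 2 ≤ x) → s.card ≤ fuel → s.sum ≤ b → s ∈ types fuel b := by
  induction s using Multiset.induction with
  | empty => intro fuel b _ _ _; cases fuel <;> simp [types]
  | cons a t ih =>
    intro fuel b h2 hc hb
    rw [Multiset.card_cons] at hc
    rw [Multiset.sum_cons] at hb
    obtain ⟨f', rfl⟩ : ∃ f', fuel = f' + 1 := ⟨fuel - 1, by omega⟩
    have := ih f' (b - a) (fun x hx => h2 x (Multiset.mem_cons_of_mem hx)) (by omega) (by omega)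
    simp only [types, List.mem_cons, List.mem_flatMap, List.mem_range]
    refine Or.inr ⟨a, by omega, ?_⟩
    rw [if_pos (h2 a (Multiset.mem_cons_self _ _))]
    exact List.mem_map.mpr ⟨_, this, rfl⟩

lemma cycleType_mem (g : Equiv.Perm (Fin 8)) : g.cycleType ∈ types 4 8 := by
  have hsum : g.cycleType.sum ≤ 8 := by
    rw [g.sum_cycleType]
    simpa using Finset.card_le_univ g.support
  have h2 : ∀ x ∈ g.cycleType, 2 ≤ x := fun x hx => Equiv.Perm.two_le_of_mem_cycleType hx
  refine mem_types _ 4 8 h2 ?_ hsum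
  have := Multiset.card_nsmul_le_sum (s := g.cycleType) (a := 2) h2
  rw [smul_eq_mul] at this
  omega

theorem types_check : ∀ s ∈ types 4 8, (∃ m ∈ tops, s.lcm ∣ m) ∧
    ((s.sum + s.card) % 2 = 0 → (s.lcm ∣ 4 ∨ s.lcm ∣ 5 ∨ s.lcm ∣ 6 ∨ s = {7} ∨ s = {5, 3})) := by
  decide +kernel

theorem perm_cases (g : Equiv.Perm (Fin 8)) : ∃ m ∈ tops, g ^ m = 1 := by
  obtain ⟨m, hm, hd⟩ := (types_check _ (cycleType_mem g)).1
  exact ⟨m, hm, orderOf_dvd_iff_pow_eq_one.mp (g.lcm_cycleType ▸ hd)⟩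

theorem alt_cases (g : alternatingGroup (Fin 8)) :
    g ^ 4 = 1 ∨ g ^ 5 = 1 ∨ g ^ 6 = 1 ∨ g.1.cycleType = {7} ∨ g.1.cycleType = {5, 3} := by
  have hs := (Equiv.Perm.sign_of_cycleType g.1).symm.trans (Equiv.Perm.mem_alternatingGroup.mp g.2)
  have hev : Even (g.1.cycleType.sum + g.1.cycleType.card) :=
    (neg_one_pow_eq_one_iff_even (by decide : (-1 : ℤˣ) ≠ 1)).mp hs
  have key : ∀ m, g.1.cycleType.lcm ∣ m → g ^ m = 1 := fun m hm => Subtype.ext (by
    rw [SubgroupClass.coe_pow, OneMemClass.coe_one]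
    exact orderOf_dvd_iff_pow_eq_one.mp (g.1.lcm_cycleType ▸ hm))
  rcases (types_check _ (cycleType_mem g.1)).2 (Nat.even_iff.mp hev) with h | h | h | h | h
  exacts [Or.inl (key _ h), Or.inr (Or.inl (key _ h)), Or.inr (Or.inr (Or.inl (key _ h))),
    Or.inr (Or.inr (Or.inr (Or.inl h))), Or.inr (Or.inr (Or.inr (Or.inr h)))]

lemma orderOf_of_check {G : Type*} [Monoid G] {g : G} {m : ℕ} (hm : 0 < m)
    (h : g ^ m = 1 ∧ ∀ j < m, 0 < j → g ^ j ≠ 1) : orderOf g = m := (orderOf_eq_iff hm).mpr h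

theorem range_perm_eight : Set.range (orderOf : Equiv.Perm (Fin 8) → ℕ) = {n | ∃ m ∈ tops, n ∣ m} := by
  refine range_of_tops perm_cases fun m hm => ?_
  fin_cases hm
  · exact ⟨([0, 1, 2, 3, 4, 5, 6] : List (Fin 8)).formPerm, orderOf_of_check (by norm_num) (by decide +kernel)⟩
  · exact ⟨([0, 1, 2, 3, 4, 5, 6, 7] : List (Fin 8)).formPerm, orderOf_of_check (by norm_num) (by decide +kernel)⟩
  · exact ⟨([0, 1, 2, 3, 4] : List (Fin 8)).formPerm * ([5, 6] : List (Fin 8)).formPerm,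
      orderOf_of_check (by norm_num) (by decide +kernel)⟩
  · exact ⟨([0, 1, 2, 3] : List (Fin 8)).formPerm * ([4, 5, 6] : List (Fin 8)).formPerm,
      orderOf_of_check (by norm_num) (by decide +kernel)⟩
  · exact ⟨([0, 1, 2, 3, 4] : List (Fin 8)).formPerm * ([5, 6, 7] : List (Fin 8)).formPerm,
      orderOf_of_check (by norm_num) (by decide +kernel)⟩

/-- Differences of values. -/
def diff (c : Fin 8 → ZMod 2) : Fin 8 × Fin 8 → ZMod 2 := fun p => c p.1 + c p.2

/-- The six-dimensional module. -/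
def heart : AddSubgroup (Fin 8 × Fin 8 → ZMod 2) where
  carrier := {w | ∃ c : Fin 8 → ZMod 2, ∑ x, c x = 0 ∧ w = diff c}
  zero_mem' := ⟨0, by simp, by funext p; simp [diff]⟩
  add_mem' := by
    rintro _ _ ⟨a, ha, rfl⟩ ⟨b, hb, rfl⟩
    refine ⟨a + b, by simp [Finset.sum_add_distrib, ha, hb], ?_⟩
    funext p; simp only [diff, Pi.add_apply]; ring
  neg_mem' := by
    rintro _ ⟨a, ha, rfl⟩
    refine ⟨-a, by simp [ha], ?_⟩
    funext p; simp only [diff, Pi.neg_apply]; ring

variable (k : ℕ)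

/-- The action of a permutation on one copy of the module. -/
def moveOne (g : Equiv.Perm (Fin 8)) (w : heart) : heart :=
  ⟨fun p => w.1 (g⁻¹ p.1, g⁻¹ p.2), by
    obtain ⟨c, hc, he⟩ := w.2
    refine ⟨fun x => c (g⁻¹ x), ?_, by rw [he]; rfl⟩
    rw [← hc]; exact Equiv.sum_comp g⁻¹ c⟩

/-- The action of a permutation on the copies. -/
def move (g : Equiv.Perm (Fin 8)) : (Fin k → heart) →+ (Fin k → heart) where
  toFun v := fun j => moveOne g (v j)
  map_zero' := rfl
  map_add' _ _ := rfl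

lemma move_one (v : Fin k → heart) : move k 1 v = v := by
  funext j; exact Subtype.ext (funext fun p => rfl)

lemma move_mul (g h : Equiv.Perm (Fin 8)) (v : Fin k → heart) : move k (g * h) v = move k g (move k h v) := by
  funext j; exact Subtype.ext (funext fun p => rfl)

/-- The action by automorphisms. -/
def act : alternatingGroup (Fin 8) →* MulAut (Multiplicative (Fin k → heart)) where
  toFun g :=
    { toFun := fun v => Multiplicative.ofAdd (move k g v.toAdd)
      invFun := fun v => Multiplicative.ofAdd (move k (g⁻¹ : alternatingGroup (Fin 8)) v.toAdd)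
      left_inv := fun v => by simp [← move_mul, move_one]
      right_inv := fun v => by simp [← move_mul, move_one]
      map_mul' := fun v w => by simp }
  map_one' := MulEquiv.ext fun v => congrArg Multiplicative.ofAdd (move_one k v.toAdd)
  map_mul' g h := MulEquiv.ext fun v => congrArg Multiplicative.ofAdd (move_mul k g h v.toAdd)

/-- The group. -/
abbrev Big : Type := Multiplicative (Fin k → heart) ⋊[act k] alternatingGroup (Fin 8)

variable {k}

lemma pow_left (x : Big k) (n : ℕ) :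
    (x ^ n).left.toAdd = ∑ i ∈ Finset.range n, move k ((x.right : Equiv.Perm (Fin 8)) ^ i) x.left.toAdd ∧
      (x ^ n).right = x.right ^ n := by
  induction n with
  | zero => simp
  | succ n ih =>
    rw [pow_succ, SemidirectProduct.mul_left, SemidirectProduct.mul_right, ih.2, toAdd_mul, ih.1,
      Finset.sum_range_succ, ← pow_succ, ← SubgroupClass.coe_pow]
    exact ⟨rfl, rfl⟩

lemma two_smul_heart (w : Fin k → heart) : 2 • w = 0 := by
  funext j
  refine Subtype.ext (funext fun p => ?_)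
  show 2 • (w j).1 p = 0
  rw [nsmul_eq_mul, show ((2 : ℕ) : ZMod 2) = 0 from by decide, zero_mul]

theorem rep_seven : ∀ c : Fin 8 → ZMod 2, ∑ x, c x = 0 → ∀ x y : Fin 8,
    ∑ i ∈ Finset.range 7, (c (((([0, 1, 2, 3, 4, 5, 6] : List (Fin 8)).formPerm ^ i)⁻¹) x) +
      c (((([0, 1, 2, 3, 4, 5, 6] : List (Fin 8)).formPerm ^ i)⁻¹) y)) = 0 := by decide +kernel

theorem rep_fifteen : ∀ c : Fin 8 → ZMod 2, ∑ x, c x = 0 → ∀ x y : Fin 8,
    ∑ i ∈ Finset.range 15, (c ((((([0, 1, 2, 3, 4] : List (Fin 8)).formPerm *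
      ([5, 6, 7] : List (Fin 8)).formPerm) ^ i)⁻¹) x) + c ((((([0, 1, 2, 3, 4] : List (Fin 8)).formPerm *
      ([5, 6, 7] : List (Fin 8)).formPerm) ^ i)⁻¹) y)) = 0 := by decide +kernel

lemma norm_zero {r g : Equiv.Perm (Fin 8)} {n : ℕ} (hconj : IsConj r g)
    (hr : ∀ c : Fin 8 → ZMod 2, ∑ x, c x = 0 → ∀ x y : Fin 8,
      ∑ i ∈ Finset.range n, (c ((r ^ i)⁻¹ x) + c ((r ^ i)⁻¹ y)) = 0) (v : Fin k → heart) :
    ∑ i ∈ Finset.range n, move k (g ^ i) v = 0 := by
  obtain ⟨h, hh⟩ := isConj_iff.mp hconj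
  funext j
  refine Subtype.ext (funext fun p => ?_)
  rw [Finset.sum_apply, AddSubmonoidClass.coe_finsetSum, Finset.sum_apply]
  obtain ⟨c, hc, he⟩ := (v j).2
  show ∑ i ∈ Finset.range n, (v j).1 ((g ^ i)⁻¹ p.1, (g ^ i)⁻¹ p.2) = 0
  rw [he]
  simp only [diff]
  have key : ∀ i x, c ((g ^ i)⁻¹ x) = (fun y => c (h y)) ((r ^ i)⁻¹ (h⁻¹ x)) := by
    intro i x
    show c ((g ^ i)⁻¹ x) = c (h ((r ^ i)⁻¹ (h⁻¹ x)))
    rw [← hh, conj_pow]
    simp
  simp only [key]
  exact hr (fun y => c (h y)) (by rw [← hc]; exact Equiv.sum_comp h c) _ _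

lemma big_cases (x : Big k) : ∃ m ∈ tops, x ^ m = 1 := by
  have hdouble : ∀ n m : ℕ, x.right ^ n = 1 → m = n * 2 → x ^ m = 1 := by
    intro n m hn hm
    subst hm
    rw [pow_mul]
    have hr : (x ^ n).right = 1 := (pow_left x n).2.trans hn
    have he : x ^ n = SemidirectProduct.inl (x ^ n).left := SemidirectProduct.ext rfl hr
    rw [he, ← map_pow]
    have h2 : (x ^ n).left ^ 2 = 1 := by
      apply Multiplicative.toAdd.injective
      rw [toAdd_pow, toAdd_one]
      exact two_smul_heart _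
    rw [h2, map_one]
  have hzero : ∀ n : ℕ, ∀ r : Equiv.Perm (Fin 8), (x.right : Equiv.Perm (Fin 8)).cycleType = r.cycleType →
      r ^ n = 1 → (∀ c : Fin 8 → ZMod 2, ∑ x, c x = 0 → ∀ x y : Fin 8,
        ∑ i ∈ Finset.range n, (c ((r ^ i)⁻¹ x) + c ((r ^ i)⁻¹ y)) = 0) → x ^ n = 1 := by
    intro n r hct hrn hr
    have hconj : IsConj r (x.right : Equiv.Perm (Fin 8)) := Equiv.Perm.isConj_iff_cycleType_eq.mpr hct.symm
    refine SemidirectProduct.ext (Multiplicative.toAdd.injective ?_) ?_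
    · rw [(pow_left x n).1, norm_zero hconj hr]; rfl
    · rw [(pow_left x n).2]
      refine Subtype.ext ?_
      obtain ⟨h, hh⟩ := isConj_iff.mp hconj
      rw [SubgroupClass.coe_pow, ← hh, conj_pow, hrn, mul_one, mul_inv_cancel]
      rfl
  rcases alt_cases x.right with h | h | h | h | h
  · exact ⟨8, by decide, hdouble 4 8 h rfl⟩
  · exact ⟨10, by decide, hdouble 5 10 h rfl⟩
  · exact ⟨12, by decide, hdouble 6 12 h rfl⟩
  · exact ⟨7, by decide, hzero 7 _ (h.trans (by decide +kernel)) (by decide +kernel) rep_seven⟩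
  · exact ⟨15, by decide, hzero 15 _ (h.trans (by decide +kernel)) (by decide +kernel) rep_fifteen⟩

/-- A vector of weight two in every copy. -/
def pair (a b : Fin 8) (hab : a ≠ b) : Multiplicative (Fin k → heart) :=
  Multiplicative.ofAdd fun _ => ⟨diff (fun x => if x = a ∨ x = b then 1 else 0),
    ⟨_, by
      have : ∀ a b : Fin 8, a ≠ b → ∑ x, (if x = a ∨ x = b then (1 : ZMod 2) else 0) = 0 := by decide +kernel
      exact this a b hab, rfl⟩⟩

/-- The sum over powers at a pair of points, computed. -/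
def witnessSum (g : Equiv.Perm (Fin 8)) (a b : Fin 8) (n : ℕ) (p : Fin 8 × Fin 8) : ZMod 2 :=
  ∑ i ∈ Finset.range n, diff (fun x => if x = a ∨ x = b then 1 else 0) ((g ^ i)⁻¹ p.1, (g ^ i)⁻¹ p.2)

lemma big_order (hk : 0 < k) (g : alternatingGroup (Fin 8)) (a b : Fin 8) (hab : a ≠ b) (m : ℕ) (hm : 0 < m)
    (h1 : g.1 ^ m = 1 ∧ ∀ p, witnessSum g.1 a b m p = 0)
    (h2 : ∀ j < m, 0 < j → g.1 ^ j ≠ 1 ∨ ∃ p, witnessSum g.1 a b j p ≠ 0) :
    ∃ x : Big k, orderOf x = m := by
  refine ⟨⟨pair a b hab, g⟩, orderOf_of_check hm ⟨?_, fun j hj hj0 h => ?_⟩⟩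
  · refine SemidirectProduct.ext (Multiplicative.toAdd.injective ?_) ?_
    · rw [(pow_left (⟨pair a b hab, g⟩ : Big k) m).1]
      funext i
      refine Subtype.ext (funext fun p => ?_)
      rw [Finset.sum_apply, AddSubmonoidClass.coe_finsetSum, Finset.sum_apply]
      exact h1.2 p
    · rw [(pow_left (⟨pair a b hab, g⟩ : Big k) m).2]
      exact Subtype.ext h1.1
  · rcases h2 j hj hj0 with e | ⟨p, e⟩
    · refine e ?_
      have h' := congrArg (fun y : Big k => (y.right : Equiv.Perm (Fin 8))) h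
      simp only [(pow_left (⟨pair a b hab, g⟩ : Big k) j).2] at h'
      simpa using h'
    · refine e ?_
      have h' := congrArg (fun y : Big k => y.left.toAdd) h
      simp only [(pow_left (⟨pair a b hab, g⟩ : Big k) j).1] at h'
      have h'' := congrFun (congrArg Subtype.val (congrFun h' ⟨0, hk⟩)) p
      rw [Finset.sum_apply, AddSubmonoidClass.coe_finsetSum, Finset.sum_apply] at h''
      exact h''

theorem range_big (hk : 0 < k) : Set.range (orderOf : Big k → ℕ) = {n | ∃ m ∈ tops, n ∣ m} := by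
  refine range_of_tops big_cases fun m hm => ?_
  fin_cases hm
  · exact big_order hk ⟨([0, 1, 2, 3, 4, 5, 6] : List (Fin 8)).formPerm, Equiv.Perm.mem_alternatingGroup.mpr (by decide +kernel)⟩ 0 7 (by decide) 7
      (by norm_num) (by decide +kernel) (by decide +kernel)
  · exact big_order hk ⟨([0, 1, 2, 3] : List (Fin 8)).formPerm * ([4, 5] : List (Fin 8)).formPerm, Equiv.Perm.mem_alternatingGroup.mpr (by decide +kernel)⟩ 0 4
      (by decide) 8 (by norm_num) (by decide +kernel) (by decide +kernel)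
  · exact big_order hk ⟨([0, 1, 2, 3, 4] : List (Fin 8)).formPerm, Equiv.Perm.mem_alternatingGroup.mpr (by decide +kernel)⟩ 5 6 (by decide) 10
      (by norm_num) (by decide +kernel) (by decide +kernel)
  · exact big_order hk ⟨([0, 1, 2] : List (Fin 8)).formPerm * ([3, 4] : List (Fin 8)).formPerm * ([5, 6] : List (Fin 8)).formPerm,
      Equiv.Perm.mem_alternatingGroup.mpr (by decide +kernel)⟩ 3 5 (by decide) 12 (by norm_num) (by decide +kernel) (by decide +kernel)
  · exact big_order hk ⟨([0, 1, 2, 3, 4] : List (Fin 8)).formPerm * ([5, 6, 7] : List (Fin 8)).formPerm, Equiv.Perm.mem_alternatingGroup.mpr (by decide +kernel)⟩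
      0 5 (by decide) 15 (by norm_num) (by decide +kernel) (by decide +kernel)

theorem exists_large (N : ℕ) : ∃ (H : Type) (_ : Group H) (_ : Fintype H), N < Fintype.card H ∧
    Set.range (orderOf : H → ℕ) = {n | ∃ m ∈ tops, n ∣ m} := by
  classical
  haveI : Finite (Big (N + 1)) := Finite.of_equiv _ SemidirectProduct.equivProd.symm
  refine ⟨Big (N + 1), inferInstance, Fintype.ofFinite _, ?_, range_big (Nat.succ_pos N)⟩
  rw [← @Nat.card_eq_fintype_card _ (Fintype.ofFinite _)]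
  have h1 := Nat.card_le_card_of_injective
    (fun v : Fin (N + 1) → Bool => (SemidirectProduct.inl (Multiplicative.ofAdd fun j =>
      if v j then ((pair (k := 1) 0 1 (by decide)).toAdd 0) else 0) : Big (N + 1)))
    (fun v w h => funext fun j => by
      have h' := congrFun (Multiplicative.ofAdd.injective (SemidirectProduct.inl_injective h)) j
      have hne : (pair (k := 1) 0 1 (by decide)).toAdd 0 ≠ (0 : heart) := fun e => by
        have e' := congrFun (congrArg Subtype.val e) ((0 : Fin 8), (2 : Fin 8))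
        simp [pair, diff] at e'
      cases hv : v j <;> cases hw : w j <;> simp [hv, hw] at h' ⊢ <;> first
        | exact hne h'
        | exact hne h'.symm)
  have e : Nat.card (Fin (N + 1) → Bool) = 2 ^ (N + 1) := by simp
  rw [e] at h1
  exact (Nat.lt_succ_self N).trans (Nat.lt_two_pow_self.trans_le h1)

end Cfsg.Agent.EightSpectrum
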