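import Mathlib

/-!
Actions of an abelian group in which every non-identity element fixes the same number of points:
orbit counting and the relation between stabilisers of different orbits.
-/

set_option autoImplicit false

namespace Cfsg.Agent.ElationOrbitCount

open MulAction

variable {M Ω : Type*} [CommGroup M] [MulAction M Ω]

/-- The orbits of a subgroup. -/
abbrev Orbits (S : Subgroup M) (Ω : Type*) [MulAction M Ω] : Type _ :=
  Quotient (orbitRel S Ω)

/-- The orbits of the whole group. -/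
abbrev AllOrbits (M Ω : Type*) [CommGroup M] [MulAction M Ω] : Type _ :=
  Quotient (orbitRel M Ω)

theorem stabilizer_smul_eq (x : M) (α : Ω) : stabilizer M (x • α) = stabilizer M α := by
  ext y
  rw [mem_stabilizer_iff, mem_stabilizer_iff, smul_smul, mul_comm, mul_smul]
  exact (MulAction.injective x).eq_iff

variable [Finite M] [Finite Ω]

/-- Burnside's lemma with constant fixed point numbers, for a subgroup. -/
theorem burnside {φ₀ : ℕ} (h : ∀ x : M, x ≠ 1 → Nat.card (fixedBy Ω x) = φ₀) (S : Subgroup M) :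
    Nat.card Ω + (Nat.card S - 1) * φ₀ = Nat.card (Orbits S Ω) * Nat.card S := by
  classical
  have := Fintype.ofFinite Ω
  have := Fintype.ofFinite S
  have hb := MulAction.sum_card_fixedBy_eq_card_orbits_mul_card_group S Ω
  simp only [← Nat.card_eq_fintype_card] at hb
  rw [← Finset.add_sum_erase _ _ (Finset.mem_univ (1 : S))] at hb
  have h1 : Nat.card (fixedBy Ω (1 : S)) = Nat.card Ω :=
    Nat.card_congr (Equiv.subtypeUnivEquiv fun a => one_smul S a)
  have hrest : ∀ x ∈ (Finset.univ : Finset S).erase 1, Nat.card (fixedBy Ω x) = φ₀ := by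
    intro x hx
    exact h (x : M) fun e => Finset.ne_of_mem_erase hx (Subtype.ext e)
  rw [h1, Finset.sum_congr rfl hrest, Finset.sum_const,
    Finset.card_erase_of_mem (Finset.mem_univ _), Finset.card_univ, ← Nat.card_eq_fintype_card,
    smul_eq_mul] at hb
  exact hb

/-- Burnside's lemma for the whole group. -/
theorem burnside_top {φ₀ : ℕ} (h : ∀ x : M, x ≠ 1 → Nat.card (fixedBy Ω x) = φ₀) :
    Nat.card Ω + (Nat.card M - 1) * φ₀ = Nat.card (AllOrbits M Ω) * Nat.card M := by
  have hb := burnside h (⊤ : Subgroup M)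
  have e : Nat.card (Orbits (⊤ : Subgroup M) Ω) = Nat.card (AllOrbits M Ω) := by
    refine Nat.card_congr (Quotient.congr (Equiv.refl Ω) fun a b => ?_)
    constructor
    · intro h'
      obtain ⟨x, hx⟩ := h'
      exact ⟨x.1, hx⟩
    · rintro ⟨x, hx⟩; exact ⟨⟨x, Subgroup.mem_top x⟩, hx⟩
  rwa [e, Subgroup.card_top] at hb

/-- The arithmetic of the situation `|Ω| < bound`: the orbit number determines everything. -/
theorem fixed_eq {φ₀ : ℕ} (h : ∀ x : M, x ≠ 1 → Nat.card (fixedBy Ω x) = φ₀)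
    (hlt : Nat.card Ω + 1 < 2 * Nat.card M) (α₀ : Ω) (x₀ : M) (hmove : x₀ • α₀ ≠ α₀) :
    Nat.card (AllOrbits M Ω) = φ₀ + 1 ∧ Nat.card Ω = φ₀ + Nat.card M := by
  set o := Nat.card (AllOrbits M Ω) with ho
  set N := Nat.card M with hN
  have hb := burnside_top h
  rw [← ho, ← hN] at hb
  have hN1 : 1 ≤ N := Nat.card_pos
  have hoΩ : o < Nat.card Ω := by
    have := Fintype.ofFinite Ω
    classical
    have := Fintype.ofFinite (AllOrbits M Ω)
    rw [ho, Nat.card_eq_fintype_card, Nat.card_eq_fintype_card]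
    refine Fintype.card_lt_of_surjective_not_injective (Quotient.mk (orbitRel M Ω))
      Quotient.mk_surjective fun hinj => hmove (hinj (Quotient.sound ⟨x₀, rfl⟩))
  rcases Nat.lt_or_ge φ₀ o with hlo | hge
  · obtain ⟨c, hc⟩ : ∃ c, o = φ₀ + 1 + c := ⟨o - φ₀ - 1, by omega⟩
    rw [hc] at hb hoΩ
    have e : Nat.card Ω = φ₀ + N + c * N := by
      have h1 : (N - 1) * φ₀ + φ₀ = N * φ₀ := by
        obtain ⟨N', hN'⟩ : ∃ N', N = N' + 1 := ⟨N - 1, by omega⟩
        rw [hN', Nat.add_sub_cancel]; ring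
      have h2 : (φ₀ + 1 + c) * N = N * φ₀ + N + c * N := by ring
      omega
    rcases Nat.eq_zero_or_pos c with rfl | hc0
    · exact ⟨hc, by rw [e]; ring⟩
    · exfalso
      have : N ≤ c * N := Nat.le_mul_of_pos_left N hc0
      omega
  · exfalso
    have h1 : o * N ≤ φ₀ * N := Nat.mul_le_mul_right N hge
    have h2 : (N - 1) * φ₀ + φ₀ = N * φ₀ := by
      obtain ⟨N', hN'⟩ : ∃ N', N = N' + 1 := ⟨N - 1, by omega⟩
      rw [hN', Nat.add_sub_cancel]; ring
    have h3 : φ₀ * N = N * φ₀ := mul_comm _ _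
    -- here `|Ω| ≤ φ₀`, so every element fixes everything
    have hle : φ₀ ≤ Nat.card Ω := by
      by_cases hx : x₀ = 1
      · exact absurd (by rw [hx, one_smul]) hmove
      · rw [← h x₀ hx]; exact Nat.card_le_card_of_injective _ Subtype.val_injective
    have hx : x₀ ≠ 1 := fun hx => hmove (by rw [hx, one_smul])
    have hlt' : φ₀ < Nat.card Ω := by
      refine lt_of_le_of_ne hle fun he => hmove ?_
      rw [← h x₀ hx] at he
      have hsurj := (Function.Injective.bijective_of_nat_card_le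
        (Subtype.val_injective (p := fun a => x₀ • a = a)) he.ge).2
      obtain ⟨⟨a, ha⟩, rfl⟩ := hsurj α₀
      exact ha
    omega

/-- The stabiliser of a point is transitive on every other orbit. -/
theorem exists_mem_stabilizer {φ₀ : ℕ} (h : ∀ x : M, x ≠ 1 → Nat.card (fixedBy Ω x) = φ₀)
    (hlt : Nat.card Ω + 1 < 2 * Nat.card M) {α : Ω} {x₀ : M} (hmove : x₀ • α ≠ α)
    {β : Ω} (hβ : β ∉ orbit M α) (x : M) :
    ∃ s ∈ stabilizer M α, s • β = x • β := by
  classical
  obtain ⟨ho, hk⟩ := fixed_eq h hlt α x₀ hmove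
  set S := stabilizer M α with hS
  let f : Orbits S Ω → AllOrbits M Ω :=
    Quotient.map' id fun a b hab => by obtain ⟨s, hs⟩ := hab; exact ⟨(s : M), hs⟩
  have hf : Function.Surjective f := fun q => by
    induction q using Quotient.inductionOn with
    | h a => exact ⟨Quotient.mk'' a, rfl⟩
  set y₀ : AllOrbits M Ω := Quotient.mk'' α
  -- `S` fixes the orbit of `α` pointwise
  have hfix : ∀ γ ∈ orbit M α, ∀ s : S, (s : M) • γ = γ := by
    rintro γ ⟨z, rfl⟩ s
    show (s : M) • z • α = z • α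
    rw [smul_smul, mul_comm, mul_smul, s.2]
  let e : orbit M α → {z : Orbits S Ω // f z = y₀} := fun γ =>
    ⟨Quotient.mk'' γ.1, Quotient.sound γ.2⟩
  have he : Function.Bijective e := by
    refine ⟨fun γ δ hγ => ?_, fun z => ?_⟩
    · obtain ⟨s, hs⟩ := Quotient.exact (congrArg Subtype.val hγ)
      exact Subtype.ext (hs.symm.trans (hfix _ δ.2 s))
    · obtain ⟨z, hz⟩ := z
      induction z using Quotient.inductionOn with
      | h a => exact ⟨⟨a, Quotient.exact hz⟩, rfl⟩
  have horb : Nat.card (orbit M α) * Nat.card S = Nat.card M := by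
    rw [Nat.card_congr (orbitEquivQuotientStabilizer M α)]
    exact (Subgroup.card_eq_card_quotient_mul_card_subgroup S).symm
  have hoS : Nat.card (Orbits S Ω) = φ₀ + Nat.card (orbit M α) := by
    have hb := burnside h S
    have hS0 : 0 < Nat.card S := Nat.card_pos
    refine Nat.eq_of_mul_eq_mul_right hS0 ?_
    rw [← hb, hk, add_mul, horb]
    obtain ⟨N', hN'⟩ : ∃ N', Nat.card S = N' + 1 := ⟨Nat.card S - 1, by omega⟩
    rw [hN', Nat.add_sub_cancel]
    ring
  let g : {z : Orbits S Ω // f z ≠ y₀} → {y : AllOrbits M Ω // y ≠ y₀} := fun z => ⟨f z.1, z.2⟩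
  have hg : Function.Surjective g := fun y => by
    obtain ⟨z, hz⟩ := hf y.1
    exact ⟨⟨z, by rw [hz]; exact y.2⟩, Subtype.ext hz⟩
  have hgb : Function.Bijective g := by
    refine hg.bijective_of_nat_card_le ?_
    have c1 : Nat.card {z : Orbits S Ω // f z ≠ y₀} + Nat.card (orbit M α) =
        Nat.card (Orbits S Ω) := by
      rw [Nat.card_eq_of_bijective e he, add_comm, ← Nat.card_sum]
      exact Nat.card_congr (Equiv.sumCompl fun z : Orbits S Ω => f z = y₀)
    have c2 : Nat.card {y : AllOrbits M Ω // y ≠ y₀} + 1 = Nat.card (AllOrbits M Ω) := by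
      have := Fintype.ofFinite (AllOrbits M Ω)
      simp only [Nat.card_eq_fintype_card, Fintype.card_subtype_compl, Fintype.card_subtype_eq]
      have : 0 < Fintype.card (AllOrbits M Ω) := Fintype.card_pos_iff.2 ⟨y₀⟩
      omega
    omega
  have hne : ∀ γ, γ ∈ orbit M β → f (Quotient.mk'' γ) ≠ y₀ := fun γ hγ e => by
    refine hβ ?_
    have h1 : γ ∈ orbit M α := Quotient.exact e
    rw [← MulAction.orbit_eq_iff.2 h1, MulAction.orbit_eq_iff.2 hγ]
    exact mem_orbit_self β
  have hx : x • β ∈ orbit M β := mem_orbit β x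
  have heq : g ⟨Quotient.mk'' (x • β), hne _ hx⟩ = g ⟨Quotient.mk'' β, hne _ (mem_orbit_self β)⟩ :=
    Subtype.ext (Quotient.sound hx)
  obtain ⟨s, hs⟩ := Quotient.exact (congrArg Subtype.val (hgb.1 heq))
  exact ⟨s, s.2, hs⟩

/-- Stabilisers of points in different orbits generate the group. -/
theorem sup_stabilizer {φ₀ : ℕ} (h : ∀ x : M, x ≠ 1 → Nat.card (fixedBy Ω x) = φ₀)
    (hlt : Nat.card Ω + 1 < 2 * Nat.card M) {α : Ω} {x₀ : M} (hmove : x₀ • α ≠ α)
    {β : Ω} (hβ : β ∉ orbit M α) : stabilizer M α ⊔ stabilizer M β = ⊤ := by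
  rw [Subgroup.eq_top_iff']
  intro x
  obtain ⟨s, hs, he⟩ := exists_mem_stabilizer h hlt hmove hβ x
  have h2 : s⁻¹ * x ∈ stabilizer M β := by
    rw [mem_stabilizer_iff, mul_smul, ← he, inv_smul_smul]
  have := Subgroup.mul_mem_sup hs h2
  rwa [mul_inv_cancel_left] at this

/-- A free point makes every point of every other orbit fixed by the whole group, and then each
non-identity element fixes exactly the common fixed points. -/
theorem fixed_of_free {φ₀ : ℕ} (h : ∀ x : M, x ≠ 1 → Nat.card (fixedBy Ω x) = φ₀)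
    (hlt : Nat.card Ω + 1 < 2 * Nat.card M) {α : Ω} {x₀ : M} (hmove : x₀ • α ≠ α)
    (hfree : stabilizer M α = ⊥) {x : M} (hx : x ≠ 1) {β : Ω} (hfix : x • β = β) (y : M) :
    y • β = β := by
  by_cases hβ : β ∈ orbit M α
  · exfalso
    obtain ⟨z, rfl⟩ := hβ
    have : x ∈ stabilizer M (z • α) := hfix
    rw [stabilizer_smul_eq, hfree, Subgroup.mem_bot] at this
    exact hx this
  · have := sup_stabilizer h hlt hmove hβ
    rw [hfree, bot_sup_eq] at this
    exact (this ▸ Subgroup.mem_top y : y ∈ stabilizer M β)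

/-- A point with nontrivial stabiliser has a companion orbit which is not fixed. -/
theorem exists_other {φ₀ : ℕ} (h : ∀ x : M, x ≠ 1 → Nat.card (fixedBy Ω x) = φ₀)
    (hlt : Nat.card Ω + 1 < 2 * Nat.card M) {α : Ω} {x₀ : M} (hmove : x₀ • α ≠ α)
    (hne : stabilizer M α ≠ ⊥) :
    ∃ (β : Ω) (y : M), β ∉ orbit M α ∧ y • β ≠ β := by
  classical
  by_contra hall
  push Not at hall
  obtain ⟨s, hs, hs1⟩ := (Subgroup.bot_or_exists_ne_one _).resolve_left hne
  -- `s` would fix everything
  have hfix : ∀ γ : Ω, s • γ = γ := by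
    intro γ
    by_cases hγ : γ ∈ orbit M α
    · obtain ⟨z, rfl⟩ := hγ
      show s ∈ stabilizer M (z • α)
      rw [stabilizer_smul_eq]; exact hs
    · exact hall γ s hγ
  have : φ₀ = Nat.card Ω := by
    rw [← h s hs1]
    exact Nat.card_congr (Equiv.subtypeUnivEquiv hfix)
  obtain ⟨-, hk⟩ := fixed_eq h hlt α x₀ hmove
  have : 0 < Nat.card M := Nat.card_pos
  omega

end Cfsg.Agent.ElationOrbitCount
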