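import Mathlib

/-!
Permutations of eleven residues coded as natural numbers in base sixteen.
-/

namespace Cfsg.Agent.ElevenCycle28

/-- the number with digits `f 0`, ..., `f (n-1)` -/
def mkN (f : ℕ → ℕ) : ℕ → ℕ
  | 0 => 0
  | n + 1 => mkN f n + 16 ^ n * f n

/-- digit -/
def gt (a i : ℕ) : ℕ := a / 16 ^ i % 16

/-- composition of codes -/
def mu (a b : ℕ) : ℕ := mkN (fun i => gt a (gt b i)) 11

/-- power of a code -/
def pw (a : ℕ) : ℕ → ℕ
  | 0 => mkN id 11
  | n + 1 => mu (pw a n) a

/-- translation code -/
def tk (k : ℕ) : ℕ := mkN (fun i => (i + k) % 11) 11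

/-- number of moved digits among the first `n` -/
def sup (a : ℕ) : ℕ → ℕ
  | 0 => 0
  | n + 1 => sup a n + if gt a n = n then 0 else 1

/-- iteration of a code -/
def it (a : ℕ) : ℕ → ℕ → ℕ
  | x, 0 => x
  | x, p + 1 => it a (gt a x) p

/-- `a` moves exactly `p` digits and its `p`-th power fixes all -/
def cyc (a p : ℕ) : Bool := sup a 11 == p && (List.range 11).all fun i => it a i p == i

/-- the word selected by a certificate, raised to its exponent -/
def word (m x c : ℕ) : ℕ :=
  let y := mu (tk (c / 1000)) (mu x (tk (11 - c / 1000)))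
  pw (if c / 100 % 10 = 0 then mu x y else mu (mu (mu x y) (pw x (m - 1))) (pw y (m - 1)))
    (c / 10 % 10)

/-- validity of a certificate -/
def good (m x c : ℕ) : Bool :=
  c / 1000 < 11 && (c % 10 == 2 || c % 10 == 3 || c % 10 == 5 || c % 10 == 7) && cyc (word m x c) (c % 10)

/-- validity of a list of certificates -/
def check (m : ℕ) : List ℕ → List ℕ → Bool
  | [], _ => true
  | _ :: _, [] => false
  | x :: xs, c :: cs => good m x c && check m xs cs

theorem exists_good {m : ℕ} : ∀ {xs cs : List ℕ}, check m xs cs = true → ∀ x ∈ xs,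
    ∃ c, good m x c = true
  | [], _, _, x, hx => by simp at hx
  | _ :: _, [], h, _, _ => by simp [check] at h
  | y :: xs, c :: cs, h, x, hx => by
    simp only [check, Bool.and_eq_true] at h
    rcases List.mem_cons.mp hx with rfl | hx
    · exact ⟨c, h.1⟩
    · exact exists_good h.2 x hx

/-- two transpositions, one moving `0` -/
def mkTwo (b d e : ℕ) : ℕ :=
  mkN (fun i => if i = 0 then b else if i = b then 0 else if i = d then e else if i = e then d else i) 11

/-- all codes of two transpositions moving `0` -/
def genTwo : List ℕ :=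
  (List.range 11).flatMap fun b => if b = 0 then [] else
    (List.range 11).flatMap fun d => if d = 0 ∨ d = b then [] else
      (List.range 11).flatMap fun e => if e = 0 ∨ e = b ∨ ¬ d < e then [] else [mkTwo b d e]

/-- two 3-cycles, one moving `0` -/
def mkThree (b c d e f : ℕ) : ℕ :=
  mkN (fun i => if i = 0 then b else if i = b then c else if i = c then 0 else if i = d then e
    else if i = e then f else if i = f then d else i) 11

/-- all codes of two 3-cycles sending `0` to `b` -/
def genThree (b : ℕ) : List ℕ :=
  (List.range 11).flatMap fun c => if c = 0 ∨ c = b then [] else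
    (List.range 11).flatMap fun d => if d = 0 ∨ d = b ∨ d = c then [] else
      (List.range 11).flatMap fun e => if e = 0 ∨ e = b ∨ e = c ∨ ¬ d < e then [] else
        (List.range 11).flatMap fun f =>
          if f = 0 ∨ f = b ∨ f = c ∨ f = e ∨ ¬ d < f then [] else [mkThree b c d e f]

end Cfsg.Agent.ElevenCycle28
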