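import Cfsg.Agent.Lib.ElevenCycleCert28

/-!
A permutation of eleven residues made of two transpositions or of two 3-cycles generates,
together with the translation, a group containing a prime cycle of length at most seven.
-/

set_option autoImplicit false

namespace Cfsg.Agent.ElevenCycle28

open Equiv

theorem mkN_lt {f : ℕ → ℕ} : ∀ {n : ℕ}, (∀ i < n, f i < 16) → mkN f n < 16 ^ n
  | 0, _ => by simp [mkN]
  | n + 1, h => by
    have h1 := mkN_lt (n := n) fun i hi => h i (by omega)
    have h2 := Nat.mul_le_mul_left (16 ^ n) (Nat.le_of_lt_succ (h n (by omega)))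
    rw [mkN, pow_succ]
    have : 16 ^ n * f n + 16 ^ n ≤ 16 ^ n * 16 := by
      rw [← Nat.mul_succ]; exact Nat.mul_le_mul_left _ (h n (by omega))
    omega

theorem gt_mkN {f : ℕ → ℕ} : ∀ {n : ℕ}, (∀ i < n, f i < 16) → ∀ i < n, gt (mkN f n) i = f i
  | 0, _, i, hi => absurd hi (by omega)
  | n + 1, h, i, hi => by
    have h1 := mkN_lt (n := n) fun j hj => h j (by omega)
    rw [mkN, gt]
    rcases Nat.lt_or_ge i n with h2 | h2
    · have ih := gt_mkN (n := n) (fun j hj => h j (by omega)) i h2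
      rw [gt] at ih
      obtain ⟨j, rfl⟩ : ∃ j, n = i + (j + 1) := ⟨n - i - 1, by omega⟩
      rw [show 16 ^ (i + (j + 1)) * f (i + (j + 1)) = 16 ^ i * (16 * (16 ^ j * f (i + (j + 1)))) by
        rw [pow_add, pow_succ]; ring, Nat.add_mul_div_left _ _ (by positivity),
        Nat.add_mul_mod_self_left, ih]
    · have h3 : i = n := by omega
      subst h3
      rw [Nat.add_mul_div_left _ _ (by positivity), Nat.div_eq_of_lt h1, zero_add,
        Nat.mod_eq_of_lt (h _ hi)]

theorem mkN_congr {f g : ℕ → ℕ} : ∀ {n : ℕ}, (∀ i < n, f i = g i) → mkN f n = mkN g n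
  | 0, _ => rfl
  | n + 1, h => by rw [mkN, mkN, mkN_congr (n := n) fun i hi => h i (by omega), h n (by omega)]

/-- code of a permutation -/
def enc (σ : Perm (ZMod 11)) : ℕ := mkN (fun i => (σ (i : ZMod 11)).val) 11

theorem val_lt11 (a : ZMod 11) : a.val < 16 := lt_trans (ZMod.val_lt a) (by norm_num)

theorem gt_enc (σ : Perm (ZMod 11)) {i : ℕ} (hi : i < 11) : gt (enc σ) i = (σ (i : ZMod 11)).val :=
  gt_mkN (fun _ _ => val_lt11 _) i hi

theorem enc_mul (σ τ : Perm (ZMod 11)) : enc (σ * τ) = mu (enc σ) (enc τ) := by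
  refine mkN_congr fun i hi => ?_
  rw [gt_enc τ hi, gt_enc σ (ZMod.val_lt _), ZMod.natCast_zmod_val]
  rfl

theorem enc_one : enc 1 = mkN id 11 :=
  mkN_congr fun i hi => by simp [ZMod.val_natCast, Nat.mod_eq_of_lt hi]

theorem enc_pow (σ : Perm (ZMod 11)) : ∀ n, enc (σ ^ n) = pw (enc σ) n
  | 0 => by rw [pow_zero, enc_one, pw]
  | n + 1 => by rw [pow_succ, enc_mul, enc_pow σ n, pw]

theorem enc_addRight (k : ℕ) : enc (Equiv.addRight (k : ZMod 11)) = tk k := by
  refine mkN_congr fun i _ => ?_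
  simp only [Equiv.coe_addRight]
  rw [← Nat.cast_add, ZMod.val_natCast]

theorem sup_enc (σ : Perm (ZMod 11)) : sup (enc σ) 11 = σ.support.card := by
  have h : ∀ n ≤ 11, sup (enc σ) n
      = ((Finset.range n).filter fun i : ℕ => σ (i : ZMod 11) ≠ (i : ZMod 11)).card := by
    intro n hn
    induction n with
    | zero => simp [sup]
    | succ n ih =>
      rw [sup, ih (by omega), Finset.range_add_one, Finset.filter_insert, gt_enc σ (by omega)]
      have e : (σ (n : ZMod 11)).val = n ↔ σ (n : ZMod 11) = (n : ZMod 11) := by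
        constructor
        · intro h
          exact ZMod.val_injective 11 (by rw [h, ZMod.val_natCast, Nat.mod_eq_of_lt (by omega)])
        · intro h
          rw [h, ZMod.val_natCast, Nat.mod_eq_of_lt (by omega)]
      by_cases h1 : σ (n : ZMod 11) = (n : ZMod 11)
      · rw [if_pos (e.mpr h1), if_neg (not_not.mpr h1), add_zero]
      · rw [if_neg (fun h2 => h1 (e.mp h2)), if_pos h1, Finset.card_insert_of_notMem (by simp)]
  rw [h 11 le_rfl]
  refine Finset.card_bij' (fun i _ => (i : ZMod 11)) (fun a _ => a.val) ?_ ?_ ?_ ?_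
  · intro i hi
    rw [Finset.mem_filter] at hi
    exact Perm.mem_support.mpr hi.2
  · intro a ha
    rw [Finset.mem_filter, ZMod.natCast_zmod_val]
    exact ⟨Finset.mem_range.mpr (ZMod.val_lt a), Perm.mem_support.mp ha⟩
  · intro i hi
    rw [Finset.mem_filter, Finset.mem_range] at hi
    rw [ZMod.val_natCast, Nat.mod_eq_of_lt hi.1]
  · intro a _
    exact ZMod.natCast_zmod_val a

theorem it_enc (σ : Perm (ZMod 11)) : ∀ (p : ℕ) (i : ℕ), i < 11 →
    it (enc σ) i p = ((σ ^ p) (i : ZMod 11)).val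
  | 0, i, hi => by simp [it, ZMod.val_natCast, Nat.mod_eq_of_lt hi]
  | p + 1, i, hi => by
    rw [it, gt_enc σ hi, it_enc σ p _ (ZMod.val_lt _), ZMod.natCast_zmod_val, pow_succ]
    rfl

theorem of_cyc {σ : Perm (ZMod 11)} {p : ℕ} (h : cyc (enc σ) p = true) :
    σ.support.card = p ∧ σ ^ p = 1 := by
  simp only [cyc, Bool.and_eq_true, beq_iff_eq, List.all_eq_true, List.mem_range] at h
  refine ⟨by rw [← sup_enc]; exact h.1, Equiv.ext fun a => ?_⟩
  have h1 := h.2 a.val (ZMod.val_lt a)
  rw [it_enc σ p _ (ZMod.val_lt a), ZMod.natCast_zmod_val] at h1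
  exact ZMod.val_injective 11 h1

/-- From a certificate, a prime cycle in any subgroup containing `σ` and the translations. -/
theorem of_good {σ : Perm (ZMod 11)} {m : ℕ} (hm : 0 < m) (hσ : σ ^ m = 1) (H : Subgroup (Perm (ZMod 11)))
    (hT : Equiv.addRight (1 : ZMod 11) ∈ H) (hs : σ ∈ H) {c : ℕ} (h : good m (enc σ) c = true) :
    ∃ w ∈ H, (w.support.card).Prime ∧ w.support.card ≤ 7 ∧ orderOf w = w.support.card := by
  simp only [good, Bool.and_eq_true, decide_eq_true_eq, Bool.or_eq_true, beq_iff_eq] at h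
  obtain ⟨⟨hk, hp⟩, hw⟩ := h
  set k := c / 1000 with hkdef
  have hadd : ∀ i : ℕ, Equiv.addRight (i : ZMod 11) ∈ H := fun i => by
    induction i with
    | zero => simp only [Nat.cast_zero]; convert H.one_mem; exact Equiv.ext fun x => by simp
    | succ i ih =>
      convert H.mul_mem hT ih
      exact Equiv.ext fun x => by simp [add_assoc]
  let y : Perm (ZMod 11) := Equiv.addRight (k : ZMod 11) * (σ * Equiv.addRight ((11 - k : ℕ) : ZMod 11))
  have hy : y ∈ H := H.mul_mem (hadd k) (H.mul_mem hs (hadd _))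
  let w0 : Perm (ZMod 11) := if c / 100 % 10 = 0 then σ * y
    else σ * y * σ ^ (m - 1) * y ^ (m - 1)
  have hw0 : w0 ∈ H := by
    simp only [w0]
    split_ifs
    · exact H.mul_mem hs hy
    · exact H.mul_mem (H.mul_mem (H.mul_mem hs hy) (H.pow_mem hs _)) (H.pow_mem hy _)
  have he : word m (enc σ) c = enc (w0 ^ (c / 10 % 10)) := by
    simp only [word, w0, y, hkdef]
    rw [enc_pow]
    congr 1
    split_ifs <;> simp only [enc_mul, enc_pow, enc_addRight]
  rw [he] at hw
  obtain ⟨h1, h2⟩ := of_cyc hw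
  have hpr : (c % 10).Prime := by
    rcases hp with ((hp | hp) | hp) | hp <;> rw [hp] <;> norm_num
  haveI := Fact.mk hpr
  refine ⟨_, H.pow_mem hw0 (c / 10 % 10), h1 ▸ hpr, by omega, ?_⟩
  rw [h1]
  refine orderOf_eq_prime h2 fun h3 => ?_
  rw [h3, Perm.support_one, Finset.card_empty] at h1
  exact hpr.ne_zero h1.symm

theorem enc_eq {σ : Perm (ZMod 11)} {f : ℕ → ℕ}
    (h : ∀ a : ZMod 11, f a.val = (σ a).val) : mkN f 11 = enc σ :=
  mkN_congr fun i hi => by
    have := h (i : ZMod 11)
    rwa [ZMod.val_natCast, Nat.mod_eq_of_lt hi] at this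

theorem cert_two {σ : Perm (ZMod 11)} (h2 : σ ^ 2 = 1) (hc : σ.support.card = 4) (h0 : σ 0 ≠ 0) :
    ∃ c, good 2 (enc σ) c = true := by
  have hinv : ∀ a, σ (σ a) = a := fun a => by
    have := DFunLike.congr_fun h2 a; rwa [pow_two] at this
  have hne : (σ.support \ {0, σ 0}).Nonempty := by
    rw [← Finset.card_pos]
    have := Finset.le_card_sdiff ({0, σ 0} : Finset (ZMod 11)) σ.support
    have := Finset.card_le_two (a := (0 : ZMod 11)) (b := σ 0)
    omega
  obtain ⟨d, hd, hmin⟩ := Finset.exists_min_image _ (fun a : ZMod 11 => a.val) hne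
  simp only [Finset.mem_sdiff, Finset.mem_insert, Finset.mem_singleton, not_or, Perm.mem_support] at hd hmin
  obtain ⟨hd, hd0, hdb⟩ := hd
  set b := σ 0 with hb
  set e := σ d with he
  have he0 : e ≠ 0 := fun h => hdb (by rw [hb, ← h, he, hinv])
  have heb : e ≠ b := fun h => hd0 (σ.injective h)
  have hsub : ({0, b, d, e} : Finset (ZMod 11)) ⊆ σ.support := by
    intro a ha
    simp only [Finset.mem_insert, Finset.mem_singleton] at ha
    rw [Perm.mem_support]
    rcases ha with rfl | rfl | rfl | rfl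
    · exact h0
    · rw [hb, hinv]; exact h0.symm
    · exact hd
    · rw [he, hinv]; exact hd.symm
  have hsup := Finset.eq_of_subset_of_card_le hsub (by
    rw [hc]; exact le_of_eq (Finset.card_eq_four.mpr ⟨0, b, d, e, h0.symm, fun h => hd0 h.symm,
      fun h => he0 h.symm, fun h => hdb h.symm, fun h => heb h.symm, fun h => hd h.symm, rfl⟩).symm)
  have hde : d.val < e.val := by
    refine lt_of_le_of_ne (hmin e ⟨?_, he0, heb⟩) fun h => hd (ZMod.val_injective 11 h).symm
    rw [he, hinv]; exact hd.symm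
  refine exists_good check_two (enc σ) ?_
  have hv : ∀ x y : ZMod 11, x ≠ y → x.val ≠ y.val := fun x y h e => h (ZMod.val_injective 11 e)
  have hz : ∀ x : ZMod 11, x ≠ 0 → x.val ≠ 0 := fun x h e => h (by rw [← ZMod.natCast_zmod_val x, e, Nat.cast_zero])
  simp only [genTwo, List.mem_flatMap, List.mem_range]
  refine ⟨b.val, ZMod.val_lt _, ?_⟩
  rw [if_neg (hz b h0), List.mem_flatMap]
  refine ⟨d.val, List.mem_range.mpr (ZMod.val_lt _), ?_⟩
  rw [if_neg (not_or.mpr ⟨hz d hd0, hv _ _ hdb⟩), List.mem_flatMap]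
  refine ⟨e.val, List.mem_range.mpr (ZMod.val_lt _), ?_⟩
  rw [if_neg (by simp [hz e he0, hv _ _ heb, hde]), List.mem_singleton]
  refine (enc_eq fun a => ?_).symm
  simp only [(ZMod.val_injective 11).eq_iff, ZMod.val_eq_zero]
  split_ifs with k1 k2 k3 k4
  · rw [k1]
  · rw [k2, hb, hinv, ZMod.val_zero]
  · rw [k3]
  · rw [k4, he, hinv]
  · by_cases k : σ a = a
    · rw [k]
    · exfalso
      have := Perm.mem_support.mpr k
      rw [← hsup] at this
      simp only [Finset.mem_insert, Finset.mem_singleton] at this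
      tauto

theorem cert_three {σ : Perm (ZMod 11)} (h3 : σ ^ 3 = 1) (hc : σ.support.card = 6) (h0 : σ 0 ≠ 0) :
    ∃ c, good 3 (enc σ) c = true := by
  have hinv : ∀ a, σ (σ (σ a)) = a := fun a => by
    have := DFunLike.congr_fun h3 a; rwa [pow_succ, pow_two] at this
  have hmv : ∀ a, σ a ≠ a → σ (σ a) ≠ σ a ∧ σ (σ a) ≠ a := fun a ha =>
    ⟨fun h => ha (σ.injective h), fun h => ha (by conv_rhs => rw [← hinv a, h])⟩
  set b := σ 0 with hb
  set c := σ b with hcdef
  have hc0 : σ c = 0 := by rw [hcdef, hb, hinv]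
  obtain ⟨hcb', hc0''⟩ := hmv 0 h0
  have hcb : c ≠ b := hcb'
  have hc0' : c ≠ 0 := hc0''
  have hne : (σ.support \ {0, b, c}).Nonempty := by
    rw [← Finset.card_pos]
    have := Finset.le_card_sdiff ({0, b, c} : Finset (ZMod 11)) σ.support
    have := Finset.card_le_three (a := (0 : ZMod 11)) (b := b) (c := c)
    omega
  obtain ⟨d, hd, hmin⟩ := Finset.exists_min_image _ (fun a : ZMod 11 => a.val) hne
  simp only [Finset.mem_sdiff, Finset.mem_insert, Finset.mem_singleton, not_or, Perm.mem_support] at hd hmin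
  obtain ⟨hd, hd0, hdb, hdc⟩ := hd
  set e := σ d with he
  set f := σ e with hf
  obtain ⟨hfe', hfd''⟩ := hmv d hd
  have hfe : f ≠ e := hfe'
  have hfd : f ≠ d := hfd''
  have hfd' : σ f = d := by rw [hf, he, hinv]
  have he0 : e ≠ 0 := fun h => hdc (σ.injective (by rw [hc0]; exact h))
  have heb : e ≠ b := fun h => hd0 (σ.injective h)
  have hec : e ≠ c := fun h => hdb (σ.injective h)
  have hf0 : f ≠ 0 := fun h => hec (σ.injective (by rw [hc0]; exact h))
  have hfb : f ≠ b := fun h => he0 (σ.injective h)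
  have hfc : f ≠ c := fun h => heb (σ.injective h)
  have hsub : ({0, b, c, d, e, f} : Finset (ZMod 11)) ⊆ σ.support := by
    intro a ha
    simp only [Finset.mem_insert, Finset.mem_singleton] at ha
    rw [Perm.mem_support]
    rcases ha with rfl | rfl | rfl | rfl | rfl | rfl
    · exact h0
    · exact hcb
    · exact hc0 ▸ hc0'.symm
    · exact hd
    · exact hfe
    · exact hfd' ▸ hfd.symm
  have hsup := Finset.eq_of_subset_of_card_le hsub (by
    rw [hc]
    rw [Finset.card_insert_of_notMem, Finset.card_insert_of_notMem, Finset.card_insert_of_notMem,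
      Finset.card_insert_of_notMem, Finset.card_insert_of_notMem, Finset.card_singleton] <;>
    simp only [Finset.mem_insert, Finset.mem_singleton, not_or]
    · exact hfe.symm
    · exact ⟨Ne.symm hd, hfd.symm⟩
    · exact ⟨Ne.symm hdc, hec.symm, hfc.symm⟩
    · exact ⟨hcb.symm, Ne.symm hdb, heb.symm, hfb.symm⟩
    · exact ⟨Ne.symm h0, hc0'.symm, Ne.symm hd0, he0.symm, hf0.symm⟩)
  have hde : d.val < e.val :=
    lt_of_le_of_ne (hmin e ⟨hfe, he0, heb, hec⟩) fun h => hd (ZMod.val_injective 11 h).symm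
  have hdf : d.val < f.val :=
    lt_of_le_of_ne (hmin f ⟨hfd' ▸ hfd.symm, hf0, hfb, hfc⟩) fun h => hfd (ZMod.val_injective 11 h).symm
  have hz : ∀ x : ZMod 11, x ≠ 0 → x.val ≠ 0 := fun x h e => h (by rw [← ZMod.natCast_zmod_val x, e, Nat.cast_zero])
  have hv : ∀ x y : ZMod 11, x ≠ y → x.val ≠ y.val := fun x y h e => h (ZMod.val_injective 11 e)
  have hmem : enc σ ∈ genThree b.val := by
    simp only [genThree, List.mem_flatMap, List.mem_range]
    refine ⟨c.val, ZMod.val_lt _, ?_⟩
    rw [if_neg (by simp [hz c hc0', hv _ _ hcb]), List.mem_flatMap]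
    refine ⟨d.val, List.mem_range.mpr (ZMod.val_lt _), ?_⟩
    rw [if_neg (by simp [hz d hd0, hv _ _ hdb, hv _ _ hdc]), List.mem_flatMap]
    refine ⟨e.val, List.mem_range.mpr (ZMod.val_lt _), ?_⟩
    rw [if_neg (by simp [hz e he0, hv _ _ heb, hv _ _ hec, hde]), List.mem_flatMap]
    refine ⟨f.val, List.mem_range.mpr (ZMod.val_lt _), ?_⟩
    rw [if_neg (by simp [hz f hf0, hv _ _ hfb, hv _ _ hfc, hv _ _ hfe, hdf]), List.mem_singleton]
    refine (enc_eq fun a => ?_).symm
    simp only [(ZMod.val_injective 11).eq_iff, ZMod.val_eq_zero]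
    split_ifs with k1 k2 k3 k4 k5 k6
    · rw [k1]
    · rw [k2]
    · rw [k3, hc0, ZMod.val_zero]
    · rw [k4]
    · rw [k5]
    · rw [k6, hfd']
    · by_cases k : σ a = a
      · rw [k]
      · exfalso
        have := Perm.mem_support.mpr k
        rw [← hsup] at this
        simp only [Finset.mem_insert, Finset.mem_singleton] at this
        tauto
  have hb1 : 1 ≤ b.val ∧ b.val < 11 := ⟨Nat.pos_of_ne_zero (hz b h0), ZMod.val_lt b⟩
  generalize b.val = B at hmem hb1
  obtain ⟨h1, h2⟩ := hb1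
  interval_cases B
  · exact exists_good check_three_1 _ hmem
  · exact exists_good check_three_2 _ hmem
  · exact exists_good check_three_3 _ hmem
  · exact exists_good check_three_4 _ hmem
  · exact exists_good check_three_5 _ hmem
  · exact exists_good check_three_6 _ hmem
  · exact exists_good check_three_7 _ hmem
  · exact exists_good check_three_8 _ hmem
  · exact exists_good check_three_9 _ hmem
  · exact exists_good check_three_10 _ hmem

/-- The main consequence. -/
theorem exists_prime_cycle (H : Subgroup (Perm (ZMod 11))) (hT : Equiv.addRight (1 : ZMod 11) ∈ H)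
    {σ : Perm (ZMod 11)} (hs : σ ∈ H)
    (h : (σ ^ 2 = 1 ∧ σ.support.card = 4) ∨ (σ ^ 3 = 1 ∧ σ.support.card = 6)) :
    ∃ w ∈ H, (w.support.card).Prime ∧ w.support.card ≤ 7 ∧ orderOf w = w.support.card := by
  obtain ⟨a, ha⟩ : ∃ a, σ a ≠ a := by
    have : σ.support.Nonempty := Finset.card_pos.mp (by rcases h with h | h <;> omega)
    obtain ⟨a, ha⟩ := this
    exact ⟨a, Perm.mem_support.mp ha⟩
  have hadd : ∀ i : ℕ, Equiv.addRight (i : ZMod 11) ∈ H := fun i => by
    induction i with
    | zero => simp only [Nat.cast_zero]; convert H.one_mem; exact Equiv.ext fun x => by simp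
    | succ i ih =>
      convert H.mul_mem hT ih
      exact Equiv.ext fun x => by simp [add_assoc]
  let T : Perm (ZMod 11) := Equiv.addRight a
  have hTH : T ∈ H := by simpa [T] using hadd a.val
  set τ := T⁻¹ * σ * (T⁻¹)⁻¹ with hτ
  have hτH : τ ∈ H := H.mul_mem (H.mul_mem (H.inv_mem hTH) hs) (H.inv_mem (H.inv_mem hTH))
  have h0 : τ 0 ≠ 0 := by
    intro h0
    apply ha
    have : T⁻¹ (σ a) = 0 := by simpa [τ, T] using h0
    have := congrArg T this
    simpa [T] using this
  have hcard : τ.support.card = σ.support.card := Perm.card_support_conj ..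
  rcases h with ⟨h1, h2⟩ | ⟨h1, h2⟩
  · have hp : τ ^ 2 = 1 := by rw [hτ, conj_pow, h1, mul_one, mul_inv_cancel]
    obtain ⟨c, hc⟩ := cert_two hp (hcard.trans h2) h0
    exact of_good (by norm_num) hp H hT hτH hc
  · have hp : τ ^ 3 = 1 := by rw [hτ, conj_pow, h1, mul_one, mul_inv_cancel]
    obtain ⟨c, hc⟩ := cert_three hp (hcard.trans h2) h0
    exact of_good (by norm_num) hp H hT hτH hc

end Cfsg.Agent.ElevenCycle28
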