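import Mathlib
import Cfsg.Agent.Lib.PGroupsBasic

/-!
2-groups in which every element commutes with its conjugates have class at most two; 2-groups with
a fixed-point-free automorphism of order three are of this kind.
-/

set_option autoImplicit false

namespace Cfsg.Agent.EngelClass65

open scoped commutatorElement

variable {T : Type*} [Group T]

theorem hall_witt (x y z : T) :
    y * ⁅⁅y⁻¹, x⁆, z⁆ * y⁻¹ * (z * ⁅⁅z⁻¹, y⁆, x⁆ * z⁻¹) * (x * ⁅⁅x⁻¹, z⁆, y⁆ * x⁻¹) = 1 := by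
  simp only [commutatorElement_def]; group

theorem conj_central {c : T} (hc : ∀ g : T, g * c = c * g) (g : T) : g * c * g⁻¹ = c := by
  rw [hc g, mul_inv_cancel_right]

/-- The step: if all triple commutators are central then they are trivial. -/
theorem triple_eq_one [Finite T] (hT : IsPGroup 2 T) (h : ∀ x g : T, Commute x (g * x * g⁻¹))
    (hc : ∀ a b c g : T, g * ⁅⁅a, b⁆, c⁆ = ⁅⁅a, b⁆, c⁆ * g) (x y z : T) : ⁅⁅x, y⁆, z⁆ = 1 := by
  -- linearity in the last argument
  have hlin : ∀ a b g g' : T, ⁅⁅a, b⁆, g * g'⁆ = ⁅⁅a, b⁆, g⁆ * ⁅⁅a, b⁆, g'⁆ := by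
    intro a b g g'
    have e : ⁅⁅a, b⁆, g * g'⁆ = ⁅⁅a, b⁆, g⁆ * (g * ⁅⁅a, b⁆, g'⁆ * g⁻¹) := by
      simp only [commutatorElement_def]; group
    rw [e, conj_central (hc a b g') g]
  -- linearity in the first argument
  have hmul : ∀ a b a' b' g : T, ⁅⁅a, b⁆ * ⁅a', b'⁆, g⁆ = ⁅⁅a', b'⁆, g⁆ * ⁅⁅a, b⁆, g⁆ := by
    intro a b a' b' g
    have e : ⁅⁅a, b⁆ * ⁅a', b'⁆, g⁆ = ⁅a, b⁆ * ⁅⁅a', b'⁆, g⁆ * ⁅a, b⁆⁻¹ * ⁅⁅a, b⁆, g⁆ := by
      simp only [commutatorElement_def]; group
    rw [e, conj_central (hc a' b' g) _]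
  have hneg : ∀ a b g : T, ⁅⁅b, a⁆, g⁆ = ⁅⁅a, b⁆, g⁆⁻¹ := by
    intro a b g
    refine eq_inv_of_mul_eq_one_left ?_
    rw [← hmul, ← commutatorElement_inv b a, inv_mul_cancel]
    simp
  have hconj : ∀ a b g k : T, ⁅k * ⁅a, b⁆ * k⁻¹, g⁆ = ⁅⁅a, b⁆, g⁆ := by
    intro a b g k
    have e : k * ⁅a, b⁆ * k⁻¹ = ⁅a, b⁆ * ⁅⁅b, a⁆, k⁆ := by
      simp only [commutatorElement_def]; group
    rw [e]
    have e2 : ∀ u c : T, (∀ g : T, g * c = c * g) → ⁅u * c, g⁆ = ⁅u, g⁆ := by
      intro u c hcc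
      have e3 : ⁅u * c, g⁆ = u * (c * (g * c⁻¹ * g⁻¹)) * u⁻¹ * ⁅u, g⁆ := by
        simp only [commutatorElement_def]; group
      have e4 : g * c⁻¹ * g⁻¹ = c⁻¹ := by
        rw [show g * c⁻¹ * g⁻¹ = (g * c * g⁻¹)⁻¹ by group, conj_central hcc g]
      rw [e3, e4, mul_inv_cancel, mul_one, mul_inv_cancel, one_mul]
    exact e2 _ _ (hc b a k)
  have hengel : ∀ a b : T, ⁅⁅a, b⁆, b⁆ = 1 := by
    intro a b
    rw [commutatorElement_eq_one_iff_mul_comm]
    have h1 : Commute ⁅a, b⁆ b := by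
      have := ((h b a).symm.mul_left ((Commute.refl b).inv_left))
      rwa [show a * b * a⁻¹ * b⁻¹ = ⁅a, b⁆ from (commutatorElement_def a b).symm] at this
    exact h1.eq
  have hswap : ∀ a b c : T, ⁅⁅a, b⁆, c⁆ * ⁅⁅a, c⁆, b⁆ = 1 := by
    intro a b c
    have h1 := hengel a (b * c)
    have e : ⁅a, b * c⁆ = ⁅a, b⁆ * (b * ⁅a, c⁆ * b⁻¹) := by
      simp only [commutatorElement_def]; group
    have e' : b * ⁅a, c⁆ * b⁻¹ = ⁅b * a * b⁻¹, b * c * b⁻¹⁆ := by
      simp only [commutatorElement_def]; group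
    have h2 : ∀ g : T, ⁅⁅a, b * c⁆, g⁆ = ⁅⁅a, c⁆, g⁆ * ⁅⁅a, b⁆, g⁆ := by
      intro g
      rw [e, e', hmul, ← e', hconj]
    rw [h2, hlin, hlin, hengel, hengel, mul_one, one_mul] at h1
    rw [← h1]
    exact (hc a c b _)
  -- Jacobi
  have hfirst : ∀ a b c : T, ⁅⁅b⁻¹, a⁆, c⁆ = ⁅⁅a, b⁆, c⁆ := by
    intro a b c
    have e : ⁅b⁻¹, a⁆ = b⁻¹ * ⁅a, b⁆ * b⁻¹⁻¹ := by
      simp only [commutatorElement_def]; group
    rw [e, hconj]
  have hjac := hall_witt x y z
  rw [hfirst, hfirst, hfirst, conj_central (hc x y z) y, conj_central (hc y z x) z,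
    conj_central (hc z x y) x] at hjac
  have h12 : ⁅⁅y, z⁆, x⁆ = ⁅⁅x, y⁆, z⁆ := by
    rw [eq_inv_of_mul_eq_one_left (hswap y z x), hneg x y z, inv_inv]
  have h31 : ⁅⁅z, x⁆, y⁆ = ⁅⁅x, y⁆, z⁆ := by
    rw [hneg x z y, inv_eq_of_mul_eq_one_left (hswap x y z)]
  rw [h12, h31] at hjac
  obtain ⟨k, hk⟩ := IsPGroup.iff_orderOf.1 hT ⁅⁅x, y⁆, z⁆
  have h3 : orderOf ⁅⁅x, y⁆, z⁆ ∣ 3 := orderOf_dvd_of_pow_eq_one (by rw [pow_succ, pow_two]; exact hjac)
  rcases (Nat.dvd_prime Nat.prime_three).1 h3 with h' | h'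
  · exact orderOf_eq_one_iff.1 h'
  · rw [hk] at h'
    have := Nat.Prime.dvd_of_dvd_pow Nat.prime_three (h' ▸ dvd_rfl : 3 ∣ 2 ^ k)
    omega

theorem class_two_aux : ∀ (n : ℕ) (T : Type _) [Group T] [Finite T], Nat.card T ≤ n → IsPGroup 2 T →
    (∀ x g : T, Commute x (g * x * g⁻¹)) → ∀ a b g : T, g * ⁅a, b⁆ = ⁅a, b⁆ * g := by
  intro n
  induction n with
  | zero => intro T _ _ hn; exact absurd hn (by have := Nat.card_pos (α := T); omega)
  | succ n ih =>
    intro T _ _ hn hT h a b g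
    haveI : Fact (Nat.Prime 2) := ⟨Nat.prime_two⟩
    rcases subsingleton_or_nontrivial T with hs | hnt
    · exact Subsingleton.elim _ _
    have hZ : Subgroup.center T ≠ ⊥ := by
      haveI := hT.center_nontrivial
      exact (Subgroup.nontrivial_iff_ne_bot _).1 inferInstance
    have hlt : Nat.card (T ⧸ Subgroup.center T) ≤ n := by
      have h1 := Subgroup.card_eq_card_quotient_mul_card_subgroup (Subgroup.center T)
      have h2 : 2 ≤ Nat.card (Subgroup.center T) := by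
        have := (Subgroup.nontrivial_iff_ne_bot _).2 hZ
        exact Finite.one_lt_card
      have h3 : 2 * Nat.card (T ⧸ Subgroup.center T) ≤ Nat.card T := by
        rw [h1, mul_comm 2]
        exact Nat.mul_le_mul_left _ h2
      have := Nat.card_pos (α := T ⧸ Subgroup.center T)
      omega
    have hq : ∀ x g : T ⧸ Subgroup.center T, Commute x (g * x * g⁻¹) := by
      intro x g
      obtain ⟨x, rfl⟩ := QuotientGroup.mk'_surjective _ x
      obtain ⟨g, rfl⟩ := QuotientGroup.mk'_surjective _ g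
      rw [← map_inv, ← map_mul, ← map_mul]
      exact (h x g).map _
    have hc : ∀ a b c g : T, g * ⁅⁅a, b⁆, c⁆ = ⁅⁅a, b⁆, c⁆ * g := by
      intro a b c g
      have h1 := ih (T ⧸ Subgroup.center T) hlt (hT.to_quotient _) hq (QuotientGroup.mk' _ a)
        (QuotientGroup.mk' _ b) (QuotientGroup.mk' _ c)
      have h2 : ⁅⁅a, b⁆, c⁆ ∈ Subgroup.center T := by
        rw [← QuotientGroup.eq_one_iff]
        show QuotientGroup.mk' (Subgroup.center T) ⁅⁅a, b⁆, c⁆ = 1
        rw [map_commutatorElement, map_commutatorElement, commutatorElement_eq_one_iff_mul_comm]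
        exact h1.symm
      exact (Subgroup.mem_center_iff.1 h2 g)
    exact (commutatorElement_eq_one_iff_mul_comm.1 (triple_eq_one hT h hc a b g)).symm

/-- Class at most two. -/
theorem class_two [Finite T] (hT : IsPGroup 2 T) (h : ∀ x g : T, Commute x (g * x * g⁻¹)) (a b : T) :
    ⁅a, b⁆ ∈ Subgroup.center T :=
  Subgroup.mem_center_iff.2 fun g => class_two_aux (Nat.card T) T le_rfl hT h a b g

/-- An automorphism of order dividing three without nontrivial fixed point. -/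
structure Fpf3 (r : T ≃* T) : Prop where
  cube : ∀ x, r (r (r x)) = x
  free : ∀ x, r x = x → x = 1

namespace Fpf3

variable [Finite T] {r : T ≃* T} (hr : Fpf3 r)
include hr

theorem exists_diff (g : T) : ∃ s : T, s⁻¹ * r s = g := by
  have hinj : Function.Injective fun s : T => s⁻¹ * r s := by
    intro s t h
    have h1 : r (t * s⁻¹) = t * s⁻¹ := by
      rw [map_mul, map_inv]
      have : r s = s * (t⁻¹ * r t) := by rw [← (show s⁻¹ * r s = t⁻¹ * r t from h)]; group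
      rw [this]; group
    exact (mul_inv_eq_one.1 (hr.free _ h1)).symm
  exact (Finite.injective_iff_surjective.1 hinj) g

theorem prod_eq (x : T) : x * r x * r (r x) = 1 := by
  obtain ⟨s, rfl⟩ := hr.exists_diff x
  simp only [map_mul, map_inv, hr.cube]
  group

theorem twice : Fpf3 (r.trans r) where
  cube x := by
    simp only [MulEquiv.trans_apply]
    rw [hr.cube, hr.cube]
  free x h := by
    simp only [MulEquiv.trans_apply] at h
    refine hr.free x ?_
    have := congrArg r h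
    rw [hr.cube] at this
    exact this.symm

theorem comm_r (x : T) : Commute x (r x) := by
  have h1 := hr.prod_eq x
  have h2 := hr.twice.prod_eq x
  simp only [MulEquiv.trans_apply] at h2
  rw [hr.cube] at h2
  have e1 : r (r x) = (x * r x)⁻¹ := eq_inv_of_mul_eq_one_right h1
  rw [e1] at h2
  show x * r x = r x * x
  calc x * r x = r x * (x * (x * r x)⁻¹ * r x)⁻¹ * x := by group
    _ = r x * x := by rw [h2, inv_one, mul_one]

theorem sq (x : T) : r (r x) = (x * r x)⁻¹ := eq_inv_of_mul_eq_one_right (hr.prod_eq x)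

theorem comm_conj_r (x g : T) : Commute x (g * r x * g⁻¹) := by
  obtain ⟨s, rfl⟩ := hr.exists_diff g
  have h := hr.comm_r (s * x * s⁻¹)
  rw [map_mul, map_mul, map_inv] at h
  have h1 := h.map (MulAut.conj s⁻¹).toMonoidHom
  simp only [MulEquiv.coe_toMonoidHom, MulAut.conj_apply, inv_inv] at h1
  convert h1 using 1 <;> group

theorem comm_conj (x g : T) : Commute x (g * x * g⁻¹) := by
  have h1 : Commute (r x) (g * x * g⁻¹) := by
    have h := (hr.comm_conj_r x g⁻¹).map (MulAut.conj g).toMonoidHom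
    simp only [MulEquiv.coe_toMonoidHom, MulAut.conj_apply, inv_inv] at h
    have h' : Commute (g * x * g⁻¹) (r x) := by convert h using 1; group
    exact h'.symm
  have h2 : Commute (r (r x)) (g * x * g⁻¹) := by
    have h := hr.comm_conj_r (r (r x)) g
    rwa [hr.cube] at h
  have h3 := (h1.mul_left h2).inv_left
  have e : x = (r x * r (r x))⁻¹ := by
    have := hr.prod_eq x
    rw [mul_assoc] at this
    exact eq_inv_of_mul_eq_one_left this
  rwa [← e] at h3

theorem commutator_mem_center (hT : IsPGroup 2 T) (a b : T) : ⁅a, b⁆ ∈ Subgroup.center T :=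
  class_two hT hr.comm_conj a b

end Fpf3

end Cfsg.Agent.EngelClass65
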