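import Mathlib
import Cfsg.Agent.S3992
import Cfsg.Agent.Lib.CoprimeGen
import Cfsg.Agent.Lib.FrobeniusNilpotent

/-!
# Groups whose elements all have prime power order: reduction to the simple socle
-/

set_option autoImplicit false
set_option linter.unusedSectionVars false
set_option linter.style.haveILetI false

namespace Cfsg.Agent.EppoGroup4

open Subgroup Cfsg.Agent.S3992

variable {G : Type*} [Group G] [Finite G]

/-- Commuting non-trivial elements are powers of the same prime. -/
theorem isPGroup_centralizer (h : EPPO G) {p : ℕ} [hp : Fact p.Prime] {x : G} (hx : orderOf x = p) :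
    IsPGroup p (centralizer ({x} : Set G)) := by
  rintro ⟨y, hy⟩
  rcases eq_or_ne y 1 with rfl | hy1
  · exact ⟨0, by simp⟩
  obtain ⟨l, k, hl, hk, he⟩ := h y hy1
  have hlp : l = p := by
    by_contra hne
    refine no_coprime_commute h (s := x) (t := y) ?_ ?_
      (fun e => hp.out.one_lt.ne (by rw [← hx, e, orderOf_one])) hy1
    · exact (mem_centralizer_singleton_iff.1 hy).symm
    · rw [hx, ← he]
      exact Nat.Coprime.pow_right _ ((Nat.coprime_primes hp.out hl.nat_prime).2 (Ne.symm hne))
  subst hlp
  exact ⟨k, Subtype.ext (by simp [he, pow_orderOf_eq_one])⟩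

/-- A non-cyclic abelian group does not act coprimely on a non-trivial normal `p`-subgroup. -/
theorem noncyclic_not_coprime (h : EPPO G) {R A : Subgroup G} [R.Normal] (hR : R ≠ ⊥)
    [IsMulCommutative A] (hA : ¬ IsCyclic A) (hcop : (Nat.card A).Coprime (Nat.card R)) : False := by
  refine hR (le_bot_iff.1 (CoprimeGen.le_of_centralizers hA ?_ hcop fun a ha ha1 => ?_))
  · rw [normalizer_eq_top_iff.2 inferInstance]
    exact le_top
  · rintro y ⟨hyR, hy⟩
    rw [mem_bot]
    by_contra hy1
    refine no_coprime_commute h (mem_centralizer_singleton_iff.1 hy).symm ?_ ha1 hy1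
    exact Nat.Coprime.of_dvd (Subgroup.orderOf_dvd_natCard _ ha) (Subgroup.orderOf_dvd_natCard _ hyR) hcop

/-- A non-cyclic abelian `q`-subgroup of the quotient by a normal `p`-subgroup forces `p = q`. -/
theorem radical_prime (h : EPPO G) {R : Subgroup G} [R.Normal] (hR : R ≠ ⊥) {p : ℕ} [Fact p.Prime]
    (hRp : IsPGroup p R) {q : ℕ} [Fact q.Prime] (A : Subgroup (G ⧸ R)) [IsMulCommutative A]
    (hA : ¬ IsCyclic A) (hAq : IsPGroup q A) : p = q := by
  by_contra hne
  set Y := A.comap (QuotientGroup.mk' R) with hY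
  have hRY : R ≤ Y := fun x hx => by
    rw [hY, mem_comap, QuotientGroup.mk'_apply, (QuotientGroup.eq_one_iff x).2 hx]
    exact one_mem A
  have hn : (R.subgroupOf Y).Normal := inferInstance
  have hidx : (R.subgroupOf Y).index = Nat.card A := by
    have h1 := Subgroup.card_mul_index (R.subgroupOf Y)
    have h2 : Nat.card Y = Nat.card R * Nat.card A := by
      have h3 := Subgroup.index_comap A (QuotientGroup.mk' R)
      have h4 := Subgroup.card_mul_index (⊥ : Subgroup A)
      have e1 := Subgroup.card_mul_index Y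
      have e2 := Subgroup.card_mul_index A
      have e3 := Subgroup.card_eq_card_quotient_mul_card_subgroup R
      have e4 : Y.index = A.index := Subgroup.index_comap_of_surjective A (QuotientGroup.mk'_surjective R)
      rw [e4, e3, ← e2] at e1
      have h0 : 0 < A.index := Nat.pos_of_ne_zero Subgroup.index_ne_zero_of_finite
      nlinarith
    rw [Nat.card_congr (subgroupOfEquivOfLe hRY).toEquiv, h2] at h1
    exact Nat.eq_of_mul_eq_mul_left Nat.card_pos h1
  have hcop : (Nat.card A).Coprime (Nat.card R) := by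
    obtain ⟨i, hi⟩ := hRp.exists_card_eq
    obtain ⟨j, hj⟩ := hAq.exists_card_eq
    rw [hi, hj]
    exact Nat.Coprime.pow _ _ ((Nat.coprime_primes (Fact.out) (Fact.out)).2 (Ne.symm hne))
  obtain ⟨C, hC⟩ := exists_right_complement'_of_coprime (N := R.subgroupOf Y)
    (by rw [hidx, Nat.card_congr (subgroupOfEquivOfLe hRY).toEquiv]; exact hcop.symm)
  set f : C →* A :=
    ((QuotientGroup.mk' R).comp (Y.subtype.comp C.subtype)).codRestrict A (fun c => c.1.2) with hf
  have hfinj : Function.Injective f := by
    refine (injective_iff_map_eq_one f).2 fun c hc => Subtype.ext ?_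
    have hcR : (c : Y) ∈ R.subgroupOf Y := by
      rw [mem_subgroupOf]
      exact (QuotientGroup.eq_one_iff _).1 (congrArg Subtype.val hc)
    exact mem_bot.1 (hC.disjoint.le_bot ⟨hcR, c.2⟩)
  have hcard : Nat.card C = Nat.card A := by rw [← hC.symm.index_eq_card, hidx]
  have hbij : Function.Bijective f :=
    (Nat.bijective_iff_injective_and_card f).2 ⟨hfinj, hcard⟩
  let e : C.map Y.subtype ≃* A :=
    (C.equivMapOfInjective Y.subtype (subtype_injective Y)).symm.trans (MulEquiv.ofBijective f hbij)
  haveI : IsMulCommutative (C.map Y.subtype) :=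
    ⟨⟨fun a b => e.injective (by rw [map_mul, map_mul]; exact mul_comm' _ _)⟩⟩
  refine noncyclic_not_coprime h hR (A := C.map Y.subtype) (fun hc => hA (e.isCyclic.1 hc)) ?_
  rw [Nat.card_congr e.toEquiv]
  exact hcop

/-- An outer element of prime order prime to a normal simple subgroup does not exist. -/
theorem dvd_card_socle (h : EPPO G) (M : Subgroup G) [M.Normal] (hs : IsSimpleGroup M)
    (hna : ¬ IsMulCommutative M) {l : ℕ} (hl : l.Prime) (hd : l ∣ Nat.card G) : l ∣ Nat.card M := by
  by_contra hnd
  haveI := Fact.mk hl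
  obtain ⟨x, hx⟩ := exists_prime_orderOf_dvd_card' (G := G) l hd
  have hx1 : x ≠ 1 := fun e => hl.one_lt.ne (by rw [← hx, e, orderOf_one])
  have hnil := FrobeniusNilpotent.isNilpotent_of_complement (K := M) (H := zpowers x)
    (zpowers_ne_bot.2 hx1) (fun y hy hy1 => by
      rw [eq_bot_iff]
      rintro m ⟨hm, hmc⟩
      rw [mem_bot]
      by_contra hm1
      refine no_coprime_commute h (mem_centralizer_singleton_iff.1 hmc).symm ?_ hy1 hm1
      refine Nat.Coprime.of_dvd (orderOf_dvd_of_mem_zpowers hy) (Subgroup.orderOf_dvd_natCard _ hm) ?_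
      rw [hx]
      exact hl.coprime_iff_not_dvd.2 hnd)
  haveI := hnil
  haveI : Group.IsSolvable M := inferInstance
  exact hna (IsSimpleGroup.comm_iff_isSolvable.2 inferInstance |> fun hc => ⟨⟨hc⟩⟩)

/-- The automiser of a subgroup of prime order, a prime power dividing `p - 1`. -/
theorem automiser (h : EPPO G) {p : ℕ} [hp : Fact p.Prime] (P : Subgroup G) (hP : Nat.card P = p) :
    ∃ n k : ℕ, Nat.card ↥(normalizer (P : Set G)) = n * p ^ k ∧ n ∣ p - 1 ∧ (n = 1 ∨ IsPrimePow n) ∧
      Nat.card ↥(centralizer (P : Set G)) = p ^ k := by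
  haveI : IsCyclic P := isCyclic_of_prime_card hP
  obtain ⟨⟨x, hxP⟩, hgen⟩ := IsCyclic.exists_generator (α := P)
  have hx : orderOf x = p := by
    rw [← Subgroup.orderOf_mk x hxP, orderOf_eq_card_of_forall_mem_zpowers hgen, hP]
  have hC : IsPGroup p (centralizer (P : Set G)) :=
    (isPGroup_centralizer h hx).to_le (centralizer_le (Set.singleton_subset_iff.2 hxP))
  obtain ⟨k, hk⟩ := hC.exists_card_eq
  set f := (P.normalizerMonoidHom) with hf
  have hker : f.ker = (centralizer (P : Set G)).subgroupOf (normalizer (P : Set G)) :=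
    P.normalizerMonoidHom_ker
  have hle : centralizer (P : Set G) ≤ normalizer (P : Set G) := centralizer_le_normalizer _
  have hcard : Nat.card ↥(normalizer (P : Set G)) = Nat.card f.range * p ^ k := by
    rw [← Subgroup.card_mul_index f.ker, Subgroup.index_ker f, hker,
      Nat.card_congr (subgroupOfEquivOfLe hle).toEquiv, hk, mul_comm]
  refine ⟨Nat.card f.range, k, hcard, ?_, ?_, hk⟩
  · refine (Subgroup.card_subgroup_dvd_card f.range).trans ?_
    rw [IsCyclic.card_mulAut P, hP, Nat.totient_prime hp.out]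
  · haveI : IsCyclic (MulAut P) := by
      obtain e := IsCyclic.mulAutMulEquiv P
      rw [hP] at e
      exact e.isCyclic.2 inferInstance
    obtain ⟨g, hg⟩ := IsCyclic.exists_generator (α := f.range)
    rw [← orderOf_eq_card_of_forall_mem_zpowers hg]
    obtain ⟨⟨y, hy⟩, hy'⟩ := f.rangeRestrict_surjective g
    rcases eq_or_ne g 1 with rfl | hg1
    · exact Or.inl orderOf_one
    right
    have hd := orderOf_map_dvd f.rangeRestrict ⟨y, hy⟩
    rw [hy'] at hd
    have e1 := Subgroup.orderOf_mk y hy
    rw [e1] at hd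
    exact (h y fun e => hg1 (by subst e; exact hy'.symm.trans (map_one _))).dvd hd
      fun e => hg1 (orderOf_eq_one_iff.1 e)

/-- A normal simple subgroup is everything if two of its Sylow normalisers pin it down. -/
theorem socle_eq_top (h : EPPO G) (M : Subgroup G) [M.Normal] (hs : IsSimpleGroup M)
    (hna : ¬ IsMulCommutative M) {p r : ℕ} (hp : p.Prime) (hr : r.Prime) (hsq : Squarefree (p - 1))
    (hp1 : (Nat.card M).factorization p = 1) (hr1 : (Nat.card M).factorization r = 1)
    (hpr : p ≠ r) (hpr' : ¬ p ∣ r - 1) : M = ⊤ := by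
  classical
  have key : ∀ l : ℕ, l.Prime → (Nat.card M).factorization l = 1 →
      ∃ n n' k : ℕ, n' ∣ l - 1 ∧ (n' = 1 ∨ IsPrimePow n') ∧ n ∣ n' ∧ n ≠ 1 ∧ M.index * n ∣ n' * l ^ k := by
    intro l hl h1
    haveI := Fact.mk hl
    obtain ⟨P⟩ := (inferInstance : Nonempty (Sylow l M))
    have hPc : Nat.card (P : Subgroup M) = l := by rw [P.card_eq_multiplicity, h1, pow_one]
    set P' := (P : Subgroup M).map M.subtype with hP'
    have hP'c : Nat.card P' = l := by rw [hP', card_map_of_injective (subtype_injective M), hPc]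
    obtain ⟨n', k, hN', hn', hn'p, hC'⟩ := automiser h P' hP'c
    obtain ⟨n, j, hN, hn, hnp, hC⟩ := automiser (eppo_subgroup h M) (P : Subgroup M) hPc
    -- Frattini
    have hsup := Sylow.normalizer_sup_eq_top P
    have hNle : normalizer (P' : Set G) ⊓ M = (normalizer ((P : Subgroup M) : Set M)).map M.subtype := by
      ext x
      constructor
      · rintro ⟨hx, hxM⟩
        refine ⟨⟨x, hxM⟩, ?_, rfl⟩
        rw [SetLike.mem_coe, mem_normalizer_iff]
        intro y
        have := mem_normalizer_iff.1 hx (y : G)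
        rw [hP'] at this
        refine (Iff.trans ?_ this).trans ?_
        · exact ⟨fun hy => ⟨y, hy, rfl⟩, fun ⟨z, hz, e⟩ => subtype_injective M e ▸ hz⟩
        · exact ⟨fun ⟨z, hz, e⟩ => by
              have : z = ⟨x, hxM⟩ * y * ⟨x, hxM⟩⁻¹ := Subtype.ext e
              exact this ▸ hz,
            fun hy => ⟨_, hy, rfl⟩⟩
      · rintro ⟨z, hz, rfl⟩
        exact ⟨le_normalizer_map _ (mem_map_of_mem _ hz), z.2⟩
    have hidx : M.index = M.relIndex (normalizer (P' : Set G)) := by
      rw [← relIndex_sup_right (K := M) (H := normalizer (P' : Set G)), hsup, relIndex_top_right]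
    have hmul := relIndex_mul_relIndex (⊥ : Subgroup G) (normalizer (P' : Set G) ⊓ M)
      (normalizer (P' : Set G)) bot_le inf_le_left
    rw [relIndex_bot_left, relIndex_bot_left, inf_relIndex_left, hNle,
      card_map_of_injective (subtype_injective M), ← hidx, hN, hN'] at hmul
    -- the centraliser order of `P` in `M` divides the one in `G`
    have hjk : l ^ j ∣ l ^ k := by
      rw [← hC, ← hC', ← card_map_of_injective (subtype_injective M) (K := centralizer ((P : Subgroup M) : Set M))]
      refine Subgroup.card_dvd_of_le ?_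
      rintro _ ⟨z, hz, rfl⟩
      rw [mem_centralizer_iff]
      rintro _ ⟨y, hy, rfl⟩
      exact congrArg Subtype.val (mem_centralizer_iff.1 hz y hy)
    have hjk' : j ≤ k := (Nat.pow_dvd_pow_iff_le_right hl.one_lt).1 hjk
    have hcopn : Nat.Coprime n (l ^ k) := by
      refine Nat.Coprime.pow_right _ (Nat.Coprime.symm (hl.coprime_iff_not_dvd.2 fun hd => ?_))
      have hl1 := hl.two_le
      have := Nat.le_of_dvd (by omega) (hd.trans hn)
      omega
    have hnn' : n ∣ n' := hcopn.dvd_of_dvd_mul_right ⟨M.index * l ^ j, by rw [← hmul]; ring⟩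
    have hn1 : n ≠ 1 := by
      intro e
      have hle : normalizer ((P : Subgroup M) : Set M) ≤ centralizer ((P : Subgroup M) : Set M) := by
        refine le_of_eq (eq_of_le_of_card_ge (centralizer_le_normalizer _) ?_).symm
        rw [hN, e, one_mul, hC]
      have hcompl := MonoidHom.ker_transferSylow_isComplement' P hle
      rcases (MonoidHom.transferSylow P hle).normal_ker.eq_bot_or_eq_top with hb | ht
      · rw [hb, isComplement'_bot_left] at hcompl
        have : IsCyclic M := by
          have this : IsCyclic (P : Subgroup M) := isCyclic_of_prime_card hPc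
          exact Subgroup.topEquiv.isCyclic.1 (hcompl ▸ this)
        exact hna IsCyclic.isMulCommutative
      · rw [ht, isComplement'_top_left] at hcompl
        rw [hcompl, card_bot] at hPc
        exact hl.one_lt.ne hPc
    refine ⟨n, n', k, hn', hn'p, hnn', hn1, ?_⟩
    refine ⟨l ^ j, ?_⟩
    rw [← hmul]; ring
  obtain ⟨n, n', k, hn', hn'p, hnn', hn1, hd⟩ := key p hp hp1
  obtain ⟨m, m', i, hm', -, -, -, hd'⟩ := key r hr hr1
  -- the automiser at `p` has prime order
  have hprime : n = n' := by
    rcases hn'p with e | ⟨l, a, hl, ha, rfl⟩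
    · exact absurd (Nat.dvd_one.1 (e ▸ hnn')) hn1
    have ha1 : a ≤ 1 := by
      by_contra hgt
      exact hl.nat_prime.one_lt.ne' (Nat.isUnit_iff.1 (hsq l (dvd_trans (by rw [← pow_two]; exact pow_dvd_pow l (by omega)) hn')))
    obtain ⟨b, hb, rfl⟩ := (Nat.dvd_prime_pow hl.nat_prime).1 hnn'
    have : b ≠ 0 := fun e => hn1 (by rw [e, pow_zero])
    congr 1
    omega
  have hnpos : 0 < n := Nat.pos_of_ne_zero fun e => by
    rw [e] at hnn'; simp at hnn'; rw [hnn'] at hn'
    have := hp.two_le
    simp at hn'; omega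
  have h1 : M.index ∣ p ^ k := by
    rw [← hprime, mul_comm M.index] at hd
    exact Nat.dvd_of_mul_dvd_mul_left hnpos hd
  have h2 : M.index ∣ (r - 1) * r ^ i :=
    ((dvd_mul_right _ _).trans hd').trans (Nat.mul_dvd_mul_right hm' _)
  rw [← index_eq_one]
  exact Nat.eq_one_of_dvd_coprimes ((Nat.Coprime.mul_right (hp.coprime_iff_not_dvd.2 hpr')
    (Nat.Coprime.pow_right _ ((Nat.coprime_primes hp hr).2 hpr))).pow_left k) h1 h2

end Cfsg.Agent.EppoGroup4
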