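import Cfsg.Agent.Lib.SuzukiGroupCentralizer

/-!
The cyclic tori of orders `q + r + 1` and `q - r + 1` (`r = 2^(m+1)`) of the Suzuki group.
-/

set_option autoImplicit false

namespace Cfsg.Agent.SuzukiGroupTori

open scoped Matrix Pointwise LinearAlgebra.Projectivization
open MulAction Cfsg.Agent.SuzukiGroupBasic Cfsg.Agent.SuzukiGroupStructure
open Cfsg.Agent.SuzukiGroupCentralizer

variable {F : Type*} [Field F] {m : ℕ} [hP : Param F m]

set_option quotPrecheck false
local notation "G" => ↥(Cfsg.Sz F m)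
local notation "qq" => (2 ^ (2 * m + 1) : ℕ)

include hP in
theorem q_ge : 8 ≤ qq :=
  Nat.le_trans (by norm_num) (Nat.pow_le_pow_right two_pos
    (show 3 ≤ 2 * m + 1 by have := one_le (F := F) (m := m); omega))

omit hP in
theorem coprime_sub_one {p : ℕ} (hp : p.Prime) (h : p ∣ qq ^ 2 + 1) :
    p ≠ 2 ∧ p ≠ 3 ∧ ¬ p ∣ qq - 1 := by
  have h1 : 1 ≤ qq := Nat.one_le_two_pow
  have h2 : 2 ∣ qq := dvd_pow_self 2 (by omega)
  refine ⟨?_, ?_, ?_⟩
  · rintro rfl
    have : 2 ∣ qq ^ 2 := dvd_pow h2 two_ne_zero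
    omega
  · rintro rfl
    have h3 := Nat.pow_mod qq 2 3
    have h4 : qq % 3 < 3 := Nat.mod_lt _ (by norm_num)
    interval_cases h5 : qq % 3 <;> simp at h3 <;> omega
  · intro hd
    have h3 : p ∣ (qq - 1) * (qq + 1) := hd.mul_right _
    have h4 : qq ^ 2 + 1 = (qq - 1) * (qq + 1) + 2 := by
      obtain ⟨k, hk⟩ := Nat.exists_eq_add_of_le h1
      rw [hk, Nat.add_sub_cancel_left]; ring
    rw [h4] at h
    have h5 := (Nat.dvd_add_right h3).mp h
    have h6 := (Nat.prime_dvd_prime_iff_eq hp Nat.prime_two).mp h5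
    subst h6
    omega

/-- A non-identity element whose order is built from primes dividing `q² + 1` is fixed-point-free. -/
theorem fixFree_of_orderOf {g : G} (hg : g ≠ 1)
    (h : ∀ p : ℕ, p.Prime → p ∣ orderOf g → p ∣ qq ^ 2 + 1) : FixFree g := by
  obtain ⟨p, hp, hpd⟩ := Nat.exists_prime_and_dvd (fun e => hg (orderOf_eq_one_iff.mp e))
  have hp' := coprime_sub_one hp (h p hp hpd)
  rcases exists_conj_Ts_or_Hs hg with hf | ⟨c, a, b, hab⟩ | ⟨c, k, -, hck⟩
  · exact hf
  · exfalso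
    have h1 : orderOf g ∣ 4 := by
      rw [← MulEquiv.orderOf_eq (MulAut.conj c), MulAut.conj_apply, hab]; exact orderOf_Ts_dvd a b
    have h2 := hpd.trans h1
    rw [show 4 = 2 ^ 2 from rfl] at h2
    exact hp'.1 ((Nat.prime_dvd_prime_iff_eq hp Nat.prime_two).mp (hp.dvd_of_dvd_pow h2))
  · exfalso
    have h1 : orderOf g ∣ qq - 1 := by
      rw [← MulEquiv.orderOf_eq (MulAut.conj c), MulAut.conj_apply, hck]; exact orderOf_Hs_dvd k
    exact hp'.2.2 (hpd.trans h1)

theorem centralizer_conj (c g : G) :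
    Subgroup.centralizer {c * g * c⁻¹} =
      (Subgroup.centralizer {g}).map (MulAut.conj c).toMonoidHom := by
  ext x
  rw [Subgroup.mem_map]
  constructor
  · intro hx
    refine ⟨c⁻¹ * x * c, ?_, by simp [mul_assoc]⟩
    rw [Subgroup.mem_centralizer_singleton_iff] at hx ⊢
    calc c⁻¹ * x * c * g = c⁻¹ * (x * (c * g * c⁻¹)) * c := by group
      _ = c⁻¹ * ((c * g * c⁻¹) * x) * c := by rw [hx]
      _ = g * (c⁻¹ * x * c) := by group
  · rintro ⟨y, hy, rfl⟩
    rw [Subgroup.mem_centralizer_singleton_iff] at hy ⊢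
    exact (Commute.conj (show Commute y g from hy) c).eq

/-- The centralisers of fixed-point-free elements. -/
def IsTorus (A : Subgroup G) : Prop := ∃ g : G, FixFree g ∧ A = Subgroup.centralizer {g}

theorem IsTorus.cyclic {A : Subgroup G} (hA : IsTorus A) : IsCyclic A := by
  obtain ⟨g, hg, rfl⟩ := hA; exact hg.isCyclic_centralizer

theorem IsTorus.fixFree {A : Subgroup G} (hA : IsTorus A) {u : G} (hu : u ∈ A) (h1 : u ≠ 1) :
    FixFree u := by
  obtain ⟨g, hg, rfl⟩ := hA
  exact hg.of_commute (Subgroup.mem_centralizer_singleton_iff.mp hu) h1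

theorem IsTorus.eq_centralizer {A : Subgroup G} (hA : IsTorus A) {u : G} (hu : u ∈ A)
    (h1 : u ≠ 1) : Subgroup.centralizer {u} = A := by
  obtain ⟨g, hg, rfl⟩ := hA
  exact hg.centralizer_eq hu h1

theorem IsTorus.card_dvd {A : Subgroup G} (hA : IsTorus A) : Nat.card A ∣ qq ^ 2 + 1 := by
  obtain ⟨g, hg, rfl⟩ := hA; exact hg.centralizer_dvd

theorem IsTorus.ne_bot {A : Subgroup G} (hA : IsTorus A) : A ≠ ⊥ := by
  obtain ⟨g, hg, rfl⟩ := hA
  intro h
  have : g ∈ Subgroup.centralizer {g} := Subgroup.mem_centralizer_singleton_iff.mpr rfl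
  rw [h, Subgroup.mem_bot] at this
  exact hg.ne_one this

theorem IsTorus.map {A : Subgroup G} (hA : IsTorus A) (c : G) :
    IsTorus (A.map (MulAut.conj c).toMonoidHom) := by
  obtain ⟨g, hg, rfl⟩ := hA
  exact ⟨c * g * c⁻¹, hg.conj c, (centralizer_conj c g).symm⟩

theorem IsTorus.five_le {A : Subgroup G} (hA : IsTorus A) : 5 ≤ Nat.card A := by
  have h1 : Nat.card A ≠ 1 := fun h => hA.ne_bot (Subgroup.card_eq_one.mp h)
  obtain ⟨p, hp, hpd⟩ := Nat.exists_prime_and_dvd h1
  obtain ⟨h2, h3, -⟩ := coprime_sub_one hp (hpd.trans hA.card_dvd)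
  have h5 : 5 ≤ p := by
    have := hp.two_le
    by_contra h
    interval_cases p <;> first | omega | exact absurd hp (by norm_num)
  exact h5.trans (Nat.le_of_dvd Nat.card_pos hpd)

theorem not_three_dvd : ¬ 3 ∣ Nat.card G := by
  rw [natCard_Sz]
  have h2 : qq % 3 = 2 := by
    rw [pow_succ, pow_mul, Nat.mul_mod, Nat.pow_mod]; norm_num
  intro h
  rcases (Nat.Prime.dvd_mul Nat.prime_three).mp h with h | h
  · rcases (Nat.Prime.dvd_mul Nat.prime_three).mp h with h | h
    · obtain ⟨u, hu⟩ := Nat.prime_three.dvd_of_dvd_pow h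
      rw [hu, Nat.mul_mod_right] at h2
      omega
    · exact (coprime_sub_one Nat.prime_three h).2.1 rfl
  · generalize qq = Q at h h2
    omega

/-- `|N(A)| = n · |A|` with `n ∈ {1, 2, 4}`. -/
theorem IsTorus.exists_index {A : Subgroup G} (hA : IsTorus A) :
    ∃ n : ℕ, (n = 1 ∨ n = 2 ∨ n = 4) ∧
      Nat.card (Subgroup.normalizer (A : Set G)) = n * Nat.card A := by
  set N := Subgroup.normalizer (A : Set G) with hN
  have hle : A ≤ N := Subgroup.le_normalizer
  have h1 : Nat.card A ≠ 1 := fun h => hA.ne_bot (Subgroup.card_eq_one.mp h)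
  obtain ⟨p, hp, hpd⟩ := Nat.exists_prime_and_dvd h1
  have : Fact p.Prime := ⟨hp⟩
  obtain ⟨h, ho⟩ := (exists_prime_orderOf_dvd_card' p hpd : ∃ x : A, orderOf x = p)
  have ho' : orderOf (h : G) = p := by rw [← ho]; exact (Subgroup.orderOf_coe h)
  have hne : (h : G) ≠ 1 := by
    intro e; rw [e, orderOf_one] at ho'; exact hp.one_lt.ne ho'
  obtain ⟨-, S, hS, -, hSmem⟩ := isCyclic_centralizer_of_prime hp ho' (hpd.trans hA.card_dvd)
  have hC := hA.eq_centralizer h.2 hne
  have hmap : ∀ x : N, (x : G) * h * (x : G)⁻¹ ∈ S := fun x => by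
    refine hSmem x _ rfl (Subgroup.mem_centralizer_singleton_iff.mp ?_)
    rw [hC]; exact (Subgroup.mem_normalizer_iff.mp x.2 h).mp h.2
  let f : N ⧸ A.subgroupOf N → S := fun x => ⟨(x.out : G) * h * (x.out : G)⁻¹, hmap x.out⟩
  have hf : Function.Injective f := by
    intro x y hxy
    have e : (x.out : G) * h * (x.out : G)⁻¹ = (y.out : G) * h * (y.out : G)⁻¹ :=
      congrArg Subtype.val hxy
    rw [← QuotientGroup.out_eq' x, ← QuotientGroup.out_eq' y, QuotientGroup.eq,
      Subgroup.mem_subgroupOf]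
    refine (SetLike.ext_iff.mp hC _).mp ?_
    rw [Subgroup.mem_centralizer_singleton_iff, Subgroup.coe_mul, Subgroup.coe_inv]
    calc (x.out : G)⁻¹ * y.out * h = (x.out : G)⁻¹ * ((y.out : G) * h * (y.out : G)⁻¹) * y.out := by
          group
      _ = h * ((x.out : G)⁻¹ * y.out) := by rw [← e]; group
  have hn4 : A.relIndex N ≤ 4 := by
    refine le_trans ?_ hS
    rw [← Nat.card_coe_set_eq]
    exact Nat.card_le_card_of_injective f hf
  have hmul : Nat.card A * A.relIndex N = Nat.card N := by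
    rw [← Nat.card_congr (Subgroup.subgroupOfEquivOfLe hle).toEquiv]
    exact Subgroup.card_mul_index (A.subgroupOf N)
  refine ⟨A.relIndex N, ?_, by rw [← hmul, mul_comm]⟩
  have hpos : A.relIndex N ≠ 0 := by
    intro e; rw [e, mul_zero] at hmul; exact Nat.card_pos.ne hmul
  have h3 : A.relIndex N ≠ 3 := fun e => not_three_dvd (F := F) (m := m)
    (dvd_trans (Dvd.intro_left (Nat.card A) (by rw [← hmul, e]) : 3 ∣ Nat.card N)
      (Subgroup.card_subgroup_dvd_card N))
  omega

theorem sylow_centre_torus {p : ℕ} (hp : p.Prime) (h : p ∣ qq ^ 2 + 1) (P : Sylow p G) :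
    ∃ A : Subgroup G, IsTorus A ∧ (P : Subgroup G) ≤ A := by
  have : Fact p.Prime := ⟨hp⟩
  have hpG : p ∣ Nat.card G := by
    rw [natCard_Sz]; exact (h.mul_left _).mul_right _
  have : Nontrivial (P : Subgroup G) :=
    (Subgroup.nontrivial_iff_ne_bot _).mpr (P.ne_bot_of_dvd_card hpG)
  have := P.isPGroup'.center_nontrivial
  obtain ⟨z, hz1⟩ := exists_ne (1 : Subgroup.center (P : Subgroup G))
  have hzne : ((z : (P : Subgroup G)) : G) ≠ 1 := fun h => hz1 (Subtype.ext (Subtype.ext h))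
  have hf : FixFree ((z : (P : Subgroup G)) : G) := by
    refine fixFree_of_orderOf hzne fun l hl hld => ?_
    obtain ⟨n, hn⟩ := (P.isPGroup').exists_card_eq
    have h1 : l ∣ p ^ n := hn ▸ hld.trans ((P : Subgroup G).orderOf_dvd_natCard (z : (P : Subgroup G)).2)
    rwa [(Nat.prime_dvd_prime_iff_eq hl hp).mp (hl.dvd_of_dvd_pow h1)]
  exact ⟨_, ⟨_, hf, rfl⟩, fun x hx => Subgroup.mem_centralizer_singleton_iff.mpr
    (congrArg Subtype.val (Subgroup.mem_center_iff.mp z.2 ⟨x, hx⟩))⟩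

theorem IsTorus.conj_of_common_prime {A B : Subgroup G} (hA : IsTorus A) (hB : IsTorus B) {p : ℕ}
    (hp : p.Prime) (hpA : p ∣ Nat.card A) (hpB : p ∣ Nat.card B) :
    ∃ c : G, B = A.map (MulAut.conj c).toMonoidHom := by
  have : Fact p.Prime := ⟨hp⟩
  let P : Sylow p G := default
  obtain ⟨C, hC, hPC⟩ := sylow_centre_torus hp (hpA.trans hA.card_dvd) P
  have key : ∀ D : Subgroup G, IsTorus D → p ∣ Nat.card D →
      ∃ c : G, D.map (MulAut.conj c).toMonoidHom = C := by
    intro D hD hpD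
    obtain ⟨x, hx⟩ := (exists_prime_orderOf_dvd_card' p hpD : ∃ x : D, orderOf x = p)
    have hx' : orderOf (x : G) = p := by rw [← hx]; exact Subgroup.orderOf_coe x
    have hz : IsPGroup p (Subgroup.zpowers (x : G)) :=
      IsPGroup.of_card (n := 1) (by rw [Nat.card_zpowers, hx', pow_one])
    obtain ⟨Q, hQ⟩ := hz.exists_le_sylow
    obtain ⟨c, hc⟩ := MulAction.exists_smul_eq G Q P
    refine ⟨c, ?_⟩
    have hxne : c * (x : G) * c⁻¹ ≠ 1 := by
      rw [Ne, conj_eq_one_iff]
      intro e; rw [e, orderOf_one] at hx'; exact hp.one_lt.ne hx'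
    have hxP : c * (x : G) * c⁻¹ ∈ (P : Subgroup G) := by
      rw [← hc, Sylow.coe_subgroup_smul]
      exact ⟨x, hQ (Subgroup.mem_zpowers _), rfl⟩
    rw [← (hD.map c).eq_centralizer (Subgroup.mem_map_of_mem _ x.2) hxne,
      ← hC.eq_centralizer (hPC hxP) hxne]
    rfl
  obtain ⟨a, ha⟩ := key A hA hpA
  obtain ⟨b, hb⟩ := key B hB hpB
  refine ⟨b⁻¹ * a, Subgroup.map_injective (f := (MulAut.conj b).toMonoidHom) (MulAut.conj b).injective ?_⟩
  rw [hb, Subgroup.map_map, ← ha]
  congr 1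
  ext x; simp [mul_assoc]

/-! ### Counting fixed-point-free elements -/

theorem two_mul_card_fixFree :
    2 * Nat.card {g : G // FixFree g} = qq ^ 3 * (qq - 1) ^ 2 := by
  classical
  have := finiteF (F := F) (m := m)
  let : Fintype G := Fintype.ofFinite _
  let Ω := ↥(suzukiOvoid F m)
  let : Fintype Ω := Fintype.ofFinite _
  let act : MulAction G Ω :=
    { smul := fun g p => ⟨g • (p : ℙ F (Fin 4 → F)), smul_mem_ovoid g p.2⟩
      one_smul := fun p => Subtype.ext (one_smul _ _)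
      mul_smul := fun g h p => Subtype.ext (mul_smul g h (p : ℙ F (Fin 4 → F))) }
  let Ω2 := {x : Ω × Ω // x.1 ≠ x.2}
  let act2 : MulAction G Ω2 :=
    { smul := fun g x => ⟨(g • x.1.1, g • x.1.2), fun h => x.2 (MulAction.injective g h)⟩
      one_smul := fun x => Subtype.ext (Prod.ext (one_smul _ _) (one_smul _ _))
      mul_smul := fun g h x => Subtype.ext (Prod.ext (mul_smul g h x.1.1) (mul_smul g h x.1.2)) }
  have htr : IsPretransitive G Ω := ⟨fun p p' => by
    obtain ⟨g, hg⟩ := exists_to_inf (m := m) p.2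
    obtain ⟨g', hg'⟩ := exists_to_inf (m := m) p'.2
    exact ⟨g' * g⁻¹, Subtype.ext (by
      change (g' * g⁻¹) • (p : ℙ F (Fin 4 → F)) = p'
      rw [mul_smul, ← hg, inv_smul_smul, hg'])⟩⟩
  have htr2 : IsPretransitive G Ω2 := ⟨fun x y => by
    obtain ⟨g, h1, h2⟩ := two_trans x.1.1.2 x.1.2.2 y.1.1.2 y.1.2.2
      (fun h => x.2 (Subtype.ext h)) (fun h => y.2 (Subtype.ext h))
    exact ⟨g, Subtype.ext (Prod.ext (Subtype.ext h1) (Subtype.ext h2))⟩⟩
  let φ : G → ℕ := fun g => (Finset.univ.filter fun p : Ω => g • p = p).card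
  have hfix : ∀ g : G, Fintype.card (fixedBy Ω g) = φ g := fun g =>
    Fintype.card_of_subtype _ (fun p => by simp)
  have hfix2 : ∀ g : G, Fintype.card (fixedBy Ω2 g) = φ g * φ g - φ g := fun g => by
    rw [← Finset.offDiag_card]
    refine Fintype.card_of_bijective (f := fun x : fixedBy Ω2 g =>
      (⟨x.1.1, by
        have h := congrArg Subtype.val x.2
        simp only [Finset.mem_offDiag, Finset.mem_filter, Finset.mem_univ, true_and]
        exact ⟨congrArg Prod.fst h, congrArg Prod.snd h, x.1.2⟩⟩ :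
          (Finset.univ.filter fun p : Ω => g • p = p).offDiag)) ⟨?_, ?_⟩ |>.trans (Fintype.card_coe _)
    · intro a b h; exact Subtype.ext (Subtype.ext (congrArg (fun z => z.1) h))
    · rintro ⟨x, hx⟩
      simp only [Finset.mem_offDiag, Finset.mem_filter, Finset.mem_univ, true_and] at hx
      exact ⟨⟨⟨x, hx.2.2⟩, Subtype.ext (Prod.ext hx.1 hx.2.1)⟩, rfl⟩
  let : Fintype (Quotient (orbitRel G Ω)) := Fintype.ofFinite _
  let : Fintype (Quotient (orbitRel G Ω2)) := Fintype.ofFinite _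
  have hone : Fintype.card (Quotient (orbitRel G Ω)) = 1 := by
    rw [Fintype.card_eq_one_iff]
    refine ⟨⟦(⟨_, inf_mem⟩ : Ω)⟧, fun y => ?_⟩
    induction y using Quotient.inductionOn with
    | h p => exact Quotient.sound (exists_smul_eq G _ p)
  have hone2 : Fintype.card (Quotient (orbitRel G Ω2)) = 1 := by
    rw [Fintype.card_eq_one_iff]
    refine ⟨⟦(⟨(⟨_, inf_mem⟩, ⟨_, zero_mem⟩), fun h => inf_ne_zero (congrArg Subtype.val h)⟩ : Ω2)⟧,
      fun y => ?_⟩
    induction y using Quotient.inductionOn with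
    | h p => exact Quotient.sound (exists_smul_eq G _ p)
  have hs1 : ∑ g : G, φ g = Fintype.card G := by
    rw [Finset.sum_congr rfl fun g _ => (hfix g).symm,
      sum_card_fixedBy_eq_card_orbits_mul_card_group, hone, one_mul]
  have hs2 : ∑ g : G, (φ g * φ g - φ g) = Fintype.card G := by
    rw [Finset.sum_congr rfl fun g _ => (hfix2 g).symm,
      sum_card_fixedBy_eq_card_orbits_mul_card_group, hone2, one_mul]
  have hΩ : Fintype.card Ω = qq ^ 2 + 1 := by
    rw [← Nat.card_eq_fintype_card, Nat.card_coe_set_eq, ncard_ovoid, natCard (F := F) (m := m)]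
  have hφ1 : φ 1 = qq ^ 2 + 1 := by
    rw [← hΩ]; simp [φ]
  have hle2 : ∀ g : G, g ≠ 1 → φ g ≤ 2 := by
    intro g hg
    by_contra h
    obtain ⟨p, p', p'', hp, hp', hp'', h1, h2, h3⟩ := Finset.two_lt_card_iff.mp (not_le.mp h)
    simp only [Finset.mem_filter, Finset.mem_univ, true_and] at hp hp' hp''
    exact hg (eq_one_of_fix_three p.2 p'.2 p''.2 (fun e => h1 (Subtype.ext e))
      (fun e => h3 (Subtype.ext e)) (fun e => h2 (Subtype.ext e))
      (congrArg Subtype.val hp) (congrArg Subtype.val hp') (congrArg Subtype.val hp''))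
  have hφ0 : ∀ g : G, FixFree g ↔ φ g = 0 := by
    intro g
    rw [Finset.card_eq_zero, Finset.filter_eq_empty_iff]
    exact ⟨fun h p _ e => h p p.2 (congrArg Subtype.val e),
      fun h p hp e => h (x := ⟨p, hp⟩) (Finset.mem_univ _) (Subtype.ext e)⟩
  have key : ∀ g : G, (if FixFree g then 2 else 0) + (if g = 1 then (qq ^ 2) * (qq ^ 2 - 1) else 0) +
      2 * φ g = (φ g * φ g - φ g) + 2 := by
    intro g
    by_cases hg : g = 1
    · subst hg
      rw [if_neg (fun h => h.ne_one rfl), if_pos rfl, hφ1]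
      obtain ⟨k, hk⟩ : ∃ k, qq ^ 2 = k + 1 := Nat.exists_eq_succ_of_ne_zero (by positivity)
      rw [hk, Nat.add_sub_cancel, show (k + 1 + 1) * (k + 1 + 1) - (k + 1 + 1) = (k + 1 + 1) * (k + 1) by
        rw [← Nat.mul_sub_one]; rfl]
      ring
    · rw [if_neg hg]
      have h2 := hle2 g hg
      have h0 := hφ0 g
      interval_cases h : φ g <;> simp_all
  have hsum := Finset.sum_congr (s₁ := (Finset.univ : Finset G)) rfl fun g _ => key g
  simp only [Finset.sum_add_distrib, ← Finset.mul_sum, hs1, hs2, Finset.sum_ite_eq',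
    Finset.mem_univ, if_true, Finset.sum_ite, Finset.sum_const_zero, add_zero, Finset.sum_const,
    smul_eq_mul, Finset.card_univ] at hsum
  rw [Nat.card_eq_fintype_card, Fintype.card_subtype]
  rw [← Nat.card_eq_fintype_card, natCard_Sz] at hsum
  have h8 := q_ge (F := F) (m := m)
  obtain ⟨k, hk⟩ : ∃ k, qq = k + 1 := ⟨qq - 1, by omega⟩
  rw [hk] at hsum ⊢
  have e1 : (k + 1) ^ 2 - 1 = k * (k + 2) := by
    rw [Nat.sub_eq_iff_eq_add (Nat.one_le_pow _ _ (by omega : 0 < k + 1))]; ring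
  rw [e1] at hsum
  simp only [Nat.add_sub_cancel] at hsum ⊢
  generalize (Finset.filter (fun g : G => FixFree g) Finset.univ).card = N at hsum ⊢
  nlinarith

theorem exists_tori :
    ∃ A₁ A₂ : Subgroup G, IsTorus A₁ ∧ IsTorus A₂ ∧
      Nat.card A₁ = qq + 2 ^ (m + 1) + 1 ∧ Nat.card A₂ = qq - 2 ^ (m + 1) + 1 ∧
      Nat.card (Subgroup.normalizer (A₁ : Set G)) = 4 * Nat.card A₁ ∧
      Nat.card (Subgroup.normalizer (A₂ : Set G)) = 4 * Nat.card A₂ ∧
      ∀ A : Subgroup G, IsTorus A → ∃ c : G,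
        A = A₁.map (MulAut.conj c).toMonoidHom ∨ A = A₂.map (MulAut.conj c).toMonoidHom := by
  classical
  let : Fintype G := Fintype.ofFinite _
  let : Fintype (Subgroup G) := Fintype.ofFinite _
  have h8 := q_ge (F := F) (m := m)
  set q : ℕ := qq with hq
  set 𝒜 : Finset (Subgroup G) := Finset.univ.filter IsTorus
  let cls : Subgroup G → Finset (Subgroup G) := fun A =>
    Finset.univ.image fun c : G => A.map (MulAut.conj c).toMonoidHom
  have hcomp : ∀ (A : Subgroup G) (c d : G),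
      (A.map (MulAut.conj c).toMonoidHom).map (MulAut.conj d).toMonoidHom =
        A.map (MulAut.conj (d * c)).toMonoidHom := fun A c d => by
    rw [Subgroup.map_map]; congr 1; ext x; simp [mul_assoc]
  have hone : ∀ A : Subgroup G, A.map (MulAut.conj (1 : G)).toMonoidHom = A := fun A => by
    ext x; simp
  have hself : ∀ A : Subgroup G, A ∈ cls A := fun A =>
    Finset.mem_image.mpr ⟨1, Finset.mem_univ _, hone A⟩
  have hclseq : ∀ (A : Subgroup G) (c : G), cls (A.map (MulAut.conj c).toMonoidHom) = cls A := by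
    intro A c
    ext B
    simp only [cls, Finset.mem_image, Finset.mem_univ, true_and]
    constructor
    · rintro ⟨d, rfl⟩; exact ⟨d * c, (hcomp A c d).symm⟩
    · rintro ⟨d, rfl⟩; exact ⟨d * c⁻¹, by rw [hcomp, inv_mul_cancel_right]⟩
  set 𝒦 := 𝒜.image cls with h𝒦
  -- total
  have htotal : ∑ A ∈ 𝒜, (Nat.card A - 1) = Nat.card {g : G // FixFree g} := by
    rw [Nat.card_eq_fintype_card, Fintype.card_subtype,
      Finset.card_eq_sum_card_fiberwise (f := fun g : G => Subgroup.centralizer {g}) (t := 𝒜)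
        (fun g hg => by
          simp only [Finset.coe_filter, Finset.mem_univ, true_and, Set.mem_setOf_eq] at hg
          simp only [Finset.mem_coe, 𝒜, Finset.mem_filter, Finset.mem_univ, true_and]
          exact ⟨g, hg, rfl⟩)]
    refine Finset.sum_congr rfl fun A hA => ?_
    simp only [𝒜, Finset.mem_filter, Finset.mem_univ, true_and] at hA
    rw [Nat.card_eq_fintype_card, Fintype.card_subtype, ← Finset.card_erase_of_mem
      (s := Finset.univ.filter fun x : G => x ∈ A) (a := 1) (by simp)]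
    congr 1
    ext g
    simp only [Finset.mem_erase, Finset.mem_filter, Finset.mem_univ, true_and]
    constructor
    · rintro ⟨h1, h2⟩; exact ⟨hA.fixFree h2 h1, hA.eq_centralizer h2 h1⟩
    · rintro ⟨h1, rfl⟩; exact ⟨h1.ne_one, Subgroup.mem_centralizer_singleton_iff.mpr rfl⟩
  -- per class
  have hclass : ∀ K ∈ 𝒦, ∃ (A : Subgroup G) (n d c : ℕ), IsTorus A ∧ K = cls A ∧
      (n = 1 ∨ n = 2 ∨ n = 4) ∧ Nat.card (Subgroup.normalizer (A : Set G)) = n * Nat.card A ∧
      n * c = 4 ∧ Nat.card A * d = q ^ 2 + 1 ∧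
      4 * ∑ B ∈ 𝒜 with cls B = K, (Nat.card B - 1) =
        q ^ 2 * (q - 1) * (c * ((Nat.card A - 1) * d)) := by
    intro K hK
    obtain ⟨A, hA, rfl⟩ := Finset.mem_image.mp hK
    simp only [𝒜, Finset.mem_filter, Finset.mem_univ, true_and] at hA
    obtain ⟨n, hn, hN⟩ := hA.exists_index
    obtain ⟨d, hd⟩ := hA.card_dvd
    refine ⟨A, n, d, 4 / n, hA, rfl, hn, hN, by rcases hn with rfl | rfl | rfl <;> norm_num,
      hd.symm, ?_⟩
    have hfib : (𝒜.filter fun B => cls B = cls A) = cls A := by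
      ext B
      simp only [𝒜, Finset.mem_filter, Finset.mem_univ, true_and]
      constructor
      · rintro ⟨-, h⟩; exact h ▸ hself B
      · intro h
        obtain ⟨c, -, rfl⟩ := Finset.mem_image.mp h
        exact ⟨hA.map c, hclseq A c⟩
    rw [hfib, Finset.sum_const_nat (m := Nat.card A - 1) (fun B hB => by
      obtain ⟨c, -, rfl⟩ := Finset.mem_image.mp hB
      rw [Subgroup.card_map_of_injective (MulAut.conj c).injective])]
    have hcard : (cls A).card * Nat.card (Subgroup.normalizer (A : Set G)) = Nat.card G := by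
      rw [Nat.card_eq_fintype_card (α := G), ← Finset.card_univ (α := G),
        Finset.card_eq_sum_card_image (fun c : G => A.map (MulAut.conj c).toMonoidHom) Finset.univ]
      symm
      refine Finset.sum_const_nat fun B hB => ?_
      obtain ⟨c, -, rfl⟩ := Finset.mem_image.mp hB
      rw [Nat.card_eq_fintype_card, ← Fintype.card_subtype]
      refine Fintype.card_congr ?_
      refine (Equiv.mulLeft c⁻¹).subtypeEquiv fun x => ?_
      change _ ↔ c⁻¹ * x ∈ _
      rw [Subgroup.mem_normalizer_iff_map_conj_eq]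
      constructor
      · intro h
        have h2 := hcomp A x c⁻¹
        rw [h, hcomp, inv_mul_cancel, hone] at h2
        exact h2.symm
      · intro h
        have h2 : A.map (MulAut.conj (c⁻¹ * x)).toMonoidHom = A := h
        calc A.map (MulAut.conj x).toMonoidHom
            = (A.map (MulAut.conj (c⁻¹ * x)).toMonoidHom).map (MulAut.conj c).toMonoidHom := by
              rw [hcomp, mul_inv_cancel_left]
          _ = _ := by rw [h2]
    rw [hN, natCard_Sz, ← hq, hd] at hcard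
    have hA0 : 0 < Nat.card A := Nat.card_pos
    have hcard' : (cls A).card * n = q ^ 2 * (q - 1) * d :=
      Nat.eq_of_mul_eq_mul_right hA0 (by linear_combination hcard)
    have h4 : n * (4 / n) = 4 := by rcases hn with rfl | rfl | rfl <;> norm_num
    calc 4 * ((cls A).card * (Nat.card A - 1))
        = (cls A).card * (n * (4 / n)) * (Nat.card A - 1) := by rw [h4]; ring
      _ = ((cls A).card * n) * (4 / n) * (Nat.card A - 1) := by ring
      _ = _ := by rw [hcard']; ring
  choose! rep nn dd cc hrep hKrep hnn hnorm hnc hdd heq using hclass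
  let X : Finset (Subgroup G) → ℕ := fun K => cc K * ((Nat.card (rep K) - 1) * dd K)
  have hsumX : ∑ K ∈ 𝒦, X K = 2 * q * (q - 1) := by
    have h1 : ∑ K ∈ 𝒦, 4 * (∑ B ∈ 𝒜 with cls B = K, (Nat.card B - 1)) =
        q ^ 2 * (q - 1) * ∑ K ∈ 𝒦, X K := by
      rw [Finset.mul_sum]; exact Finset.sum_congr rfl heq
    rw [← Finset.mul_sum, Finset.sum_fiberwise_of_maps_to (fun B hB => Finset.mem_image_of_mem cls hB),
      htotal] at h1
    have h2 := two_mul_card_fixFree (F := F) (m := m)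
    rw [← hq] at h2
    have hpos : 0 < q ^ 2 * (q - 1) := Nat.mul_pos (pow_pos (by omega) 2) (by omega)
    refine Nat.eq_of_mul_eq_mul_left hpos ?_
    linear_combination -h1 + 2 * h2
  have hXb : ∀ K ∈ 𝒦, 4 * (q ^ 2 + 1) * cc K ≤ 5 * X K ∧ X K < cc K * (q ^ 2 + 1) := by
    intro K hK
    have h5 := (hrep K hK).five_le
    have hd := hdd K hK
    have hd0 : 0 < dd K := by
      by_contra h
      rw [Nat.eq_zero_of_not_pos h, mul_zero] at hd
      omega
    have hc0 : 0 < cc K := by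
      by_contra h
      have := hnc K hK
      rw [Nat.eq_zero_of_not_pos h, mul_zero] at this
      omega
    obtain ⟨a, ha⟩ : ∃ a, Nat.card (rep K) = a + 5 := ⟨_, (Nat.sub_add_cancel h5).symm⟩
    rw [ha] at hd
    simp only [X, ha, show a + 5 - 1 = a + 4 by omega]
    rw [← hd]
    constructor <;> nlinarith [mul_pos hc0 hd0]
  have hX2 : 2 * q * (q - 1) < 2 * (q ^ 2 + 1) := by
    obtain ⟨k, hk⟩ : ∃ k, q = k + 1 := ⟨q - 1, by omega⟩
    rw [hk, Nat.add_sub_cancel]; nlinarith
  have hX1 : q ^ 2 + 1 < 2 * q * (q - 1) := by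
    obtain ⟨k, hk⟩ : ∃ k, q = k + 8 := ⟨q - 8, by omega⟩
    rw [hk, show k + 8 - 1 = k + 7 by omega]; nlinarith
  have hcc : ∀ K ∈ 𝒦, cc K = 1 ∨ cc K = 2 ∨ cc K = 4 := by
    intro K hK
    have := hnc K hK
    rcases hnn K hK with h | h | h <;> rw [h] at this <;> omega
  have htwo : 𝒦.card = 2 := by
    have h1 : 4 * (q ^ 2 + 1) * 𝒦.card ≤ 5 * (2 * q * (q - 1)) := by
      rw [← hsumX, Finset.mul_sum, mul_comm _ 𝒦.card, ← smul_eq_mul 𝒦.card, ← Finset.sum_const]
      refine Finset.sum_le_sum fun K hK => ?_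
      have := (hXb K hK).1
      rcases hcc K hK with h | h | h <;> rw [h] at this <;> omega
    have h2 : 𝒦.card ≤ 2 := by
      by_contra h
      have : 4 * (q ^ 2 + 1) * 3 ≤ 4 * (q ^ 2 + 1) * 𝒦.card := Nat.mul_le_mul_left _ (by omega)
      omega
    have h3 : 𝒦.card ≠ 0 := by
      intro h
      rw [Finset.card_eq_zero.mp h, Finset.sum_empty] at hsumX
      omega
    by_contra h
    obtain ⟨K, hK⟩ := Finset.card_eq_one.mp (show 𝒦.card = 1 by omega)
    have hKm : K ∈ 𝒦 := by rw [hK]; exact Finset.mem_singleton_self K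
    rw [hK, Finset.sum_singleton] at hsumX
    obtain ⟨hb1, hb2⟩ := hXb K hKm
    rcases hcc K hKm with h1 | h1 | h1
    · rw [h1] at hb2; omega
    · have hd := hdd K hKm
      have h5 := (hrep K hKm).five_le
      simp only [X, h1] at hsumX
      obtain ⟨a, ha⟩ : ∃ a, Nat.card (rep K) = a + 1 := ⟨_, (Nat.sub_add_cancel (by omega)).symm⟩
      obtain ⟨k, hk⟩ : ∃ k, q = k + 1 := ⟨q - 1, by omega⟩
      rw [ha, Nat.add_sub_cancel, hk, Nat.add_sub_cancel] at hsumX
      rw [ha, hk] at hd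
      have hdeq : dd K = k + 2 := by linarith
      have hdvd : (k + 2) ∣ (k + 1) ^ 2 + 1 := hdeq ▸ ⟨_, (by rw [mul_comm]; exact hd.symm)⟩
      have : (k + 1) ^ 2 + 1 = (k + 2) * k + 2 := by ring
      rw [this] at hdvd
      have := Nat.le_of_dvd two_pos ((Nat.dvd_add_right (dvd_mul_right _ _)).mp hdvd)
      omega
    · rw [h1] at hb1; omega
  obtain ⟨K₁, K₂, hKne, hKeq⟩ := Finset.card_eq_two.mp htwo
  have hK₁ : K₁ ∈ 𝒦 := by rw [hKeq]; exact Finset.mem_insert_self _ _
  have hK₂ : K₂ ∈ 𝒦 := by rw [hKeq]; simp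
  rw [hKeq, Finset.sum_pair hKne] at hsumX
  obtain ⟨hc1, hc2⟩ : cc K₁ = 1 ∧ cc K₂ = 1 := by
    have b1 := (hXb K₁ hK₁).1
    have b2 := (hXb K₂ hK₂).1
    constructor
    · rcases hcc K₁ hK₁ with h | h | h <;> rw [h] at b1 <;> rcases hcc K₂ hK₂ with h' | h' | h' <;>
        rw [h'] at b2 <;> omega
    · rcases hcc K₂ hK₂ with h | h | h <;> rw [h] at b2 <;> rcases hcc K₁ hK₁ with h' | h' | h' <;>
        rw [h'] at b1 <;> omega
  have hn1 : nn K₁ = 4 := by have := hnc K₁ hK₁; rwa [hc1, mul_one] at this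
  have hn2 : nn K₂ = 4 := by have := hnc K₂ hK₂; rwa [hc2, mul_one] at this
  set A := rep K₁
  set B := rep K₂
  have hA := hrep K₁ hK₁
  have hB := hrep K₂ hK₂
  have hall : ∀ D : Subgroup G, IsTorus D → ∃ c : G,
      D = A.map (MulAut.conj c).toMonoidHom ∨ D = B.map (MulAut.conj c).toMonoidHom := by
    intro D hD
    have : cls D ∈ 𝒦 := Finset.mem_image_of_mem cls (by simp [𝒜, hD])
    rw [hKeq, Finset.mem_insert, Finset.mem_singleton] at this
    rcases this with h | h
    · have := hself D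
      rw [h, hKrep K₁ hK₁] at this
      obtain ⟨c, -, hc⟩ := Finset.mem_image.mp this
      exact ⟨c, Or.inl hc.symm⟩
    · have := hself D
      rw [h, hKrep K₂ hK₂] at this
      obtain ⟨c, -, hc⟩ := Finset.mem_image.mp this
      exact ⟨c, Or.inr hc.symm⟩
  have hcop : Nat.Coprime (Nat.card A) (Nat.card B) := by
    refine Nat.coprime_of_dvd fun p hp h1 h2 => hKne ?_
    obtain ⟨c, hc⟩ := hA.conj_of_common_prime hB hp h1 h2
    refine (hKrep K₁ hK₁).trans (Eq.trans ?_ (hKrep K₂ hK₂).symm)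
    rw [hc, hclseq]
  have hfull : q ^ 2 + 1 ∣ Nat.card A * Nat.card B := by
    rw [Nat.dvd_iff_prime_pow_dvd_dvd]
    intro p k hp hpk
    rcases Nat.eq_zero_or_pos k with rfl | hk
    · simp
    have : Fact p.Prime := ⟨hp⟩
    let P : Sylow p G := default
    have hp1 : p ∣ q ^ 2 + 1 := (dvd_pow_self p hk.ne').trans hpk
    obtain ⟨D, hD, hPD⟩ := sylow_centre_torus hp (hq ▸ hp1) P
    have hpG : p ^ k ∣ Nat.card G := by
      rw [natCard_Sz, ← hq]; exact (hpk.mul_left _).mul_right _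
    have hpD : p ^ k ∣ Nat.card D :=
      (P.pow_dvd_card_of_pow_dvd_card hpG).trans (Subgroup.card_dvd_of_le hPD)
    obtain ⟨c, h | h⟩ := hall D hD
    · rw [h, Subgroup.card_map_of_injective (MulAut.conj c).injective] at hpD
      exact hpD.mul_right _
    · rw [h, Subgroup.card_map_of_injective (MulAut.conj c).injective] at hpD
      exact hpD.mul_left _
  have hprod : Nat.card A * Nat.card B = q ^ 2 + 1 :=
    Nat.dvd_antisymm (hcop.mul_dvd_of_dvd_of_dvd (hq ▸ hA.card_dvd) (hq ▸ hB.card_dvd)) hfull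
  have hdA : dd K₁ = Nat.card B :=
    Nat.eq_of_mul_eq_mul_left Nat.card_pos ((hdd K₁ hK₁).trans hprod.symm)
  have hdB : dd K₂ = Nat.card A :=
    Nat.eq_of_mul_eq_mul_left Nat.card_pos ((hdd K₂ hK₂).trans (hprod.symm.trans (mul_comm _ _)))
  simp only [X, hc1, hc2, one_mul] at hsumX
  change (Nat.card A - 1) * dd K₁ + (Nat.card B - 1) * dd K₂ = _ at hsumX
  rw [hdA, hdB, Nat.sub_one_mul, Nat.sub_one_mul, mul_comm (Nat.card B), hprod] at hsumX
  have hAle : Nat.card A ≤ q ^ 2 + 1 := hprod ▸ Nat.le_mul_of_pos_right _ Nat.card_pos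
  have hBle : Nat.card B ≤ q ^ 2 + 1 := hprod ▸ Nat.le_mul_of_pos_left _ Nat.card_pos
  have hab : Nat.card A + Nat.card B = 2 * q + 2 := by
    obtain ⟨k, hk⟩ : ∃ k, q = k + 1 := ⟨q - 1, by omega⟩
    have e : 2 * (q ^ 2 + 1) = 2 * q * (q - 1) + (2 * q + 2) := by
      rw [hk, Nat.add_sub_cancel]; ring
    omega
  set r := 2 ^ (m + 1) with hr
  have hr2 : r * r = 2 * q := by rw [hr, hq]; ring
  have hrq : r ≤ q := Nat.pow_le_pow_right two_pos (by omega)
  have hsol : Nat.card A = q + r + 1 ∨ Nat.card A + r = q + 1 := by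
    have h1 : ((Nat.card A : ℤ) - (q + r + 1)) * ((Nat.card A : ℤ) + r - (q + 1)) = 0 := by
      zify at hab hprod hr2
      linear_combination (Nat.card A : ℤ) * hab - hprod - hr2
    rcases mul_eq_zero.mp h1 with h | h <;> [left; right] <;> omega
  rcases hsol with h | h
  · refine ⟨A, B, hA, hB, h, by omega, ?_, ?_, hall⟩
    · rw [hnorm K₁ hK₁, hn1]
    · rw [hnorm K₂ hK₂, hn2]
  · refine ⟨B, A, hB, hA, by omega, by omega, ?_, ?_, fun D hD => ?_⟩
    · rw [hnorm K₂ hK₂, hn2]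
    · rw [hnorm K₁ hK₁, hn1]
    · obtain ⟨c, h | h⟩ := hall D hD
      · exact ⟨c, Or.inr h⟩
      · exact ⟨c, Or.inl h⟩

end Cfsg.Agent.SuzukiGroupTori
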