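import Mathlib
import Cfsg.Prelude.Def_Sz
import Cfsg.Prelude.Def_Exceptional
import Cfsg.Agent.S3992
import Cfsg.Agent.Lib.EppoGroup4
import Cfsg.Agent.Lib.DicksonTorus
import Cfsg.Agent.Lib.PSL2Small
import Cfsg.Agent.Lib.SuzukiGroupTori
import Cfsg.Agent.Lib.SuzukiGroupLie
import Cfsg.Agent.Lib.CIT21Dihedral
import Cfsg.Agent.S0254

/-!
# Simple groups whose elements all have prime power order, given the CIT classification
-/

set_option autoImplicit false
set_option linter.unusedSectionVars false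
set_option linter.style.haveILetI false

namespace Cfsg.Agent.EppoSimple4

open Cfsg.Agent.S3992

variable {G : Type*} [Group G] [Finite G]

/-- The conclusion of the classification of CIT groups. -/
def CITList (G : Type*) [Group G] : Prop :=
  (∃ (F : Type) (_ : Field F) (_ : Fintype F),
      (Fintype.card F = 9 ∨ (∃ n : ℕ, Fintype.card F = 2 ^ n) ∨
        ((Fintype.card F).Prime ∧ ∃ k : ℕ, Fintype.card F = 2 ^ k + 1 ∨ Fintype.card F + 1 = 2 ^ k)) ∧
      Nonempty (G ≃* Matrix.ProjectiveSpecialLinearGroup (Fin 2) F)) ∨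
  (∃ (F : Type) (_ : Field F) (_ : Fintype F), Fintype.card F = 4 ∧
      Nonempty (G ≃* Matrix.ProjectiveSpecialLinearGroup (Fin 3) F)) ∨
  Cfsg.Lie.IsoSuzuki G

/-- The simple groups with all elements of prime power order. -/
def EppoList (G : Type*) [Group G] : Prop :=
  Nonempty (G ≃* alternatingGroup (Fin 6)) ∨
  (∃ (F : Type) (_ : Field F) (_ : Fintype F), Fintype.card F ∈ ({4, 7, 8, 17} : Finset ℕ) ∧
    Nonempty (G ≃* Matrix.ProjectiveSpecialLinearGroup (Fin 2) F)) ∨
  (∃ (F : Type) (_ : Field F) (_ : Fintype F), Fintype.card F = 4 ∧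
    Nonempty (G ≃* Matrix.ProjectiveSpecialLinearGroup (Fin 3) F)) ∨
  (∃ (F : Type) (_ : Field F) (_ : Fintype F),
    (Fintype.card F = 8 ∧ Nonempty (G ≃* ↥(Cfsg.Lie.Sz F 4))) ∨
      (Fintype.card F = 32 ∧ Nonempty (G ≃* ↥(Cfsg.Lie.Sz F 8))))

/-- All elements of prime power order force `2`-group centralisers of involutions. -/
theorem cit (h : EPPO G) :
    ∀ t : G, orderOf t = 2 → IsPGroup 2 (Subgroup.centralizer ({t} : Set G)) := fun _ ht =>
  haveI : Fact (Nat.Prime 2) := ⟨Nat.prime_two⟩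
  EppoGroup4.isPGroup_centralizer h ht

theorem eppo_equiv {H : Type*} [Group H] (h : EPPO G) (e : G ≃* H) : EPPO H := fun x hx => by
  rw [← e.symm.orderOf_eq]
  exact h _ fun e1 => hx (by simpa using congrArg e e1)

theorem perm3_comm : ∀ a : Equiv.Perm (Fin 3), Equiv.Perm.sign a = 1 →
    ∀ b : Equiv.Perm (Fin 3), Equiv.Perm.sign b = 1 → a * b = b * a := by decide +kernel

theorem perm3_sign {a : Equiv.Perm (Fin 3)}
    (ha : a ∈ ⁅(⊤ : Subgroup (Equiv.Perm (Fin 3))), (⊤ : Subgroup (Equiv.Perm (Fin 3)))⁆) : Equiv.Perm.sign a = 1 := by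
  have h : ⁅(⊤ : Subgroup (Equiv.Perm (Fin 3))), (⊤ : Subgroup (Equiv.Perm (Fin 3)))⁆ ≤ MonoidHom.ker (Equiv.Perm.sign (α := Fin 3)) := by
    rw [Subgroup.commutator_le]
    intro x _ y _
    simp [MonoidHom.mem_ker, commutatorElement_def, mul_comm, Int.units_mul_self, ← mul_assoc]
  exact h ha

theorem a4_comm : ∀ a : alternatingGroup (Fin 4), a * a = 1 →
    ∀ b : alternatingGroup (Fin 4), b * b = 1 → a * b = b * a := by decide +kernel

theorem a4_comm_sq : ∀ a b : alternatingGroup (Fin 4),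
    a * b * a⁻¹ * b⁻¹ * (a * b * a⁻¹ * b⁻¹) = 1 := by decide +kernel

theorem a4_sq {a : alternatingGroup (Fin 4)}
    (ha : a ∈ ⁅(⊤ : Subgroup (alternatingGroup (Fin 4))), (⊤ : Subgroup (alternatingGroup (Fin 4)))⁆) : a * a = 1 := by
  induction ha using Subgroup.closure_induction with
  | mem x hx =>
    obtain ⟨u, -, v, -, rfl⟩ := hx
    exact a4_comm_sq u v
  | one => simp
  | mul x y _ _ hx hy =>
    have := a4_comm x hx y hy
    calc x * y * (x * y) = x * (y * x) * y := by group
      _ = x * x * (y * y) := by rw [← this]; group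
      _ = 1 := by rw [hx, hy, one_mul]
  | inv x _ hx => rw [← mul_inv_rev, hx, inv_one]

/-- A prime power divisible by a prime is a power of it. -/
theorem eq_pow_of_dvd {n p : ℕ} (h : IsPrimePow n) (hp : p.Prime) (hd : p ∣ n) :
    ∃ a, n = p ^ a := by
  obtain ⟨l, k, hl, hk, rfl⟩ := h
  exact ⟨k, by rw [(Nat.prime_dvd_prime_iff_eq hp hl.nat_prime).1 (hp.dvd_of_dvd_pow hd)]⟩

/-- The torus orders of `PSL(2, q)`. -/
theorem torus_prime_pow {F : Type} [Field F] [Fintype F]
    (h : EPPO (Matrix.ProjectiveSpecialLinearGroup (Fin 2) F)) {N : ℕ}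
    (hN : N = Fintype.card F - 1 ∨ N = Fintype.card F + 1) (h3 : 3 ≤ N) :
    IsPrimePow (N / Nat.gcd 2 (Fintype.card F - 1)) := by
  obtain ⟨p, hchar, n, hp, hn⟩ := FiniteField.card' F
  haveI : Fact p.Prime := ⟨hp⟩
  obtain ⟨g, w, hg, -⟩ := DicksonTorus.exists_torus (F := F) p (N := N)
    (by rwa [Nat.card_eq_fintype_card]) h3
  rw [DicksonPSL.dd, Nat.card_eq_fintype_card] at hg
  rw [← hg]
  refine h g fun e => ?_
  rw [e, orderOf_one] at hg
  have hgcd : Nat.gcd 2 (Fintype.card F - 1) ≤ 2 := Nat.le_of_dvd two_pos (Nat.gcd_dvd_left _ _)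
  have hpos : 0 < Nat.gcd 2 (Fintype.card F - 1) := Nat.gcd_pos_of_pos_left _ two_pos
  have : N / Nat.gcd 2 (Fintype.card F - 1) = 1 := hg.symm
  have h4 : N < 2 * Nat.gcd 2 (Fintype.card F - 1) := by
    have := Nat.lt_mul_div_succ N hpos
    rw [‹N / _ = 1›] at this
    omega
  rcases Nat.eq_or_lt_of_le hgcd with e2 | e2
  · have hd := Nat.gcd_dvd_right 2 (Fintype.card F - 1)
    rw [e2] at hd
    rcases hN with e3 | e3 <;> omega
  · omega

/-- The fields of the projective special linear groups of degree two. -/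
theorem psl2_case [IsSimpleGroup G] (hna : ¬ IsMulCommutative G) (h : EPPO G) {F : Type} [Field F]
    [Fintype F]
    (hF : Fintype.card F = 9 ∨ (∃ n : ℕ, Fintype.card F = 2 ^ n) ∨
      ((Fintype.card F).Prime ∧ ∃ k : ℕ, Fintype.card F = 2 ^ k + 1 ∨ Fintype.card F + 1 = 2 ^ k))
    (e : G ≃* Matrix.ProjectiveSpecialLinearGroup (Fin 2) F) : EppoList G := by
  have hP := eppo_equiv h e
  have hsol : ∀ (_ : Group.IsSolvable G), False := fun hs =>
    hna ⟨⟨IsSimpleGroup.comm_iff_isSolvable.2 hs⟩⟩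
  have h2 : Fintype.card F ≠ 2 := by
    intro hq
    obtain ⟨e'⟩ := PSL2Small.psl2_two F (by rw [Nat.card_eq_fintype_card, hq])
    haveI : Group.IsSolvable (Equiv.Perm (Fin 3)) := (Group.isSolvable_def _).2 ⟨2, by
      simp only [derivedSeries_succ, derivedSeries_zero]
      rw [eq_bot_iff, Subgroup.commutator_le]
      intro a ha b hb
      rw [Subgroup.mem_bot]
      exact commutatorElement_eq_one_iff_mul_comm.2 (perm3_comm a (perm3_sign ha) b (perm3_sign hb))⟩
    exact hsol (Group.isSolvable_of_isSolvable_injective (f := (e.trans e').toMonoidHom)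
      (e.trans e').injective)
  rcases hF with hq | ⟨n, hn⟩ | ⟨hpr, k, hk⟩
  · obtain ⟨e'⟩ := Cfsg.Agent.S0254.result (F := F) hq
    exact Or.inl ⟨e.trans e'⟩
  · -- characteristic two
    have hn2 : 2 ≤ n := by
      have := Fintype.one_lt_card (α := F)
      rcases n with _ | _ | n
      · simp [hn] at this
      · exact absurd hn h2
      · omega
    have h4 : 4 ≤ 2 ^ n := le_trans (by norm_num) (Nat.pow_le_pow_right two_pos hn2)
    have hgcd : Nat.gcd 2 (Fintype.card F - 1) = 1 := by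
      refine (Nat.prime_two.coprime_iff_not_dvd.2 ?_)
      rw [hn]
      have : 2 ∣ 2 ^ n := dvd_pow_self 2 (by omega)
      omega
    have key : ∀ N, (N = Fintype.card F - 1 ∨ N = Fintype.card F + 1) → 3 ∣ N →
        ∃ a, N = 3 ^ a := by
      intro N hN hd
      have := torus_prime_pow hP hN (by rw [hn] at hN; omega)
      rw [hgcd, Nat.div_one] at this
      exact eq_pow_of_dvd this Nat.prime_three hd
    have h3 : ¬ 3 ∣ 2 ^ n := fun hd => by
      have := Nat.prime_three.dvd_of_dvd_pow hd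
      omega
    have hq : Fintype.card F = 4 ∨ Fintype.card F = 8 := by
      rw [hn] at key ⊢
      have haux : ∀ a : ℕ, (3 ^ a = 2 ^ n + 1 ∨ 3 ^ a + 1 = 2 ^ n) → 3 ^ a = 3 ∨ 3 ^ a = 9 := by
        intro a ha
        rcases Nat.eq_zero_or_pos a with rfl | ha0
        · simp at ha; omega
        rcases CIT21Dihedral.prime_or_nine (k := n) Nat.prime_three (by norm_num) rfl ha0 ha with hh | hh
        · exact Or.inl (((Nat.prime_dvd_prime_iff_eq Nat.prime_three hh).1
            (dvd_pow_self 3 ha0.ne')).symm)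
        · exact Or.inr hh
      rcases (show 2 ^ n % 3 = 1 ∨ 2 ^ n % 3 = 2 by omega) with hm | hm
      · obtain ⟨a, ha⟩ := key _ (Or.inl rfl) (by omega)
        have := haux a (Or.inr (by omega))
        rcases this with hh | hh
        · left; omega
        · exfalso
          have e10 : 2 ^ n = 10 := by omega
          have : 5 ∣ 2 ^ n := by omega
          have := Nat.Prime.dvd_of_dvd_pow (by norm_num : Nat.Prime 5) this
          omega
      · obtain ⟨a, ha⟩ := key _ (Or.inr rfl) (by omega)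
        have := haux a (Or.inl (by omega))
        rcases this with hh | hh <;> omega
    refine Or.inr (Or.inl ⟨F, inferInstance, inferInstance, ?_, ⟨e⟩⟩)
    rcases hq with hq | hq <;> rw [hq] <;> decide
  · -- a prime field
    have hq3 : Fintype.card F ≠ 3 := by
      intro hq
      obtain ⟨e'⟩ := PSL2Small.psl2_three F (by rw [Nat.card_eq_fintype_card, hq])
      haveI : Group.IsSolvable (alternatingGroup (Fin 4)) := (Group.isSolvable_def _).2 ⟨2, by
        simp only [derivedSeries_succ, derivedSeries_zero]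
        rw [eq_bot_iff, Subgroup.commutator_le]
        intro a ha b hb
        rw [Subgroup.mem_bot]
        exact commutatorElement_eq_one_iff_mul_comm.2 (a4_comm a (a4_sq ha) b (a4_sq hb))⟩
      exact hsol (Group.isSolvable_of_isSolvable_injective (f := (e.trans e').toMonoidHom)
        (e.trans e').injective)
    have hodd : Fintype.card F % 2 = 1 := hpr.eq_two_or_odd.resolve_left h2
    have h5 : 5 ≤ Fintype.card F := by
      have := hpr.two_le
      rcases Nat.lt_or_ge (Fintype.card F) 5 with hlt | hge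
      · exfalso
        interval_cases h : Fintype.card F <;> omega
      · exact hge
    have hgcd : Nat.gcd 2 (Fintype.card F - 1) = 2 := Nat.gcd_eq_left (by omega)
    have h3 : ¬ 3 ∣ Fintype.card F := fun hd =>
      hq3 ((Nat.prime_dvd_prime_iff_eq Nat.prime_three hpr).1 hd).symm
    have key : ∀ N, (N = Fintype.card F - 1 ∨ N = Fintype.card F + 1) → 3 ∣ N →
        ∃ a, N = 2 * 3 ^ a := by
      intro N hN hd
      have := torus_prime_pow hP hN (by omega)
      rw [hgcd] at this
      obtain ⟨a, ha⟩ := eq_pow_of_dvd this Nat.prime_three (by omega)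
      exact ⟨a, by omega⟩
    rcases k with _ | k
    · rcases hk with hk | hk <;> simp at hk <;> omega
    rw [pow_succ] at hk
    have hk3 : ¬ 3 ∣ 2 ^ k := fun hd => by
      have := Nat.prime_three.dvd_of_dvd_pow hd
      omega
    have hlist : Fintype.card F = 5 ∨ Fintype.card F = 7 ∨ Fintype.card F = 17 := by
      have hk' : 2 ^ k % 3 = 1 ∨ 2 ^ k % 3 = 2 := by omega
      rcases hk with hk | hk
      · obtain ⟨a, ha⟩ := key _ (Or.inr rfl) (by rcases hk' with e1 | e1 <;> omega)
        rcases Nat.eq_zero_or_pos a with rfl | ha0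
        · omega
        rcases CIT21Dihedral.prime_or_nine (q := 3 ^ a) (k := k) Nat.prime_three (by norm_num) rfl
          ha0 (Or.inl (by omega)) with hh | hh
        · have := (Nat.prime_dvd_prime_iff_eq Nat.prime_three hh).1 (dvd_pow_self 3 ha0.ne')
          omega
        · omega
      · obtain ⟨a, ha⟩ := key _ (Or.inl rfl) (by rcases hk' with e1 | e1 <;> omega)
        rcases Nat.eq_zero_or_pos a with rfl | ha0
        · omega
        rcases CIT21Dihedral.prime_or_nine (q := 3 ^ a) (k := k) Nat.prime_three (by norm_num) rfl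
          ha0 (Or.inr (by omega)) with hh | hh
        · have := (Nat.prime_dvd_prime_iff_eq Nat.prime_three hh).1 (dvd_pow_self 3 ha0.ne')
          omega
        · exfalso
          have : 5 ∣ 2 ^ k := by omega
          have := Nat.Prime.dvd_of_dvd_pow (by norm_num : Nat.Prime 5) this
          omega
    rcases hlist with hq | hq | hq
    · obtain ⟨e5⟩ := PSL2Small.psl2_five F (by rw [Nat.card_eq_fintype_card, hq])
      haveI : Fintype (GaloisField 2 2) := Fintype.ofFinite _
      have h4 : Nat.card (GaloisField 2 2) = 4 := GaloisField.card 2 2 (by norm_num)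
      obtain ⟨e4⟩ := PSL2Small.psl2_four (GaloisField 2 2) h4
      refine Or.inr (Or.inl ⟨GaloisField 2 2, inferInstance, inferInstance, ?_,
        ⟨(e.trans e5).trans e4.symm⟩⟩)
      rw [← Nat.card_eq_fintype_card, h4]; decide
    all_goals
      refine Or.inr (Or.inl ⟨F, inferInstance, inferInstance, ?_, ⟨e⟩⟩)
      rw [hq]; decide

/-- The Suzuki groups with all torus orders prime powers. -/
theorem suzuki_m {F : Type} [Field F] [Fintype F] {m : ℕ} (hm : 1 ≤ m)
    (hF : Fintype.card F = 2 ^ (2 * m + 1))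
    (h : EPPO ↥(Cfsg.Lie.Sz F (2 ^ (m + 1)))) : m = 1 ∨ m = 2 := by
  haveI : SuzukiGroupBasic.Param F m := SuzukiGroupBasic.Param.mk' hm hF
  haveI := SuzukiGroupLie.finite_lie (F := F) (m := m)
  have hS : EPPO ↥(Cfsg.Sz F m) := eppo_equiv h SuzukiGroupLie.lieEquiv
  obtain ⟨A₁, A₂, hA₁, hA₂, hc₁, hc₂, -⟩ := SuzukiGroupTori.exists_tori (F := F) (m := m)
  have hpp : ∀ A : Subgroup ↥(Cfsg.Sz F m), SuzukiGroupTori.IsTorus A → IsPrimePow (Nat.card A) := by
    intro A hA
    haveI := hA.cyclic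
    obtain ⟨g, hg⟩ := IsCyclic.exists_generator (α := A)
    rw [← orderOf_eq_card_of_forall_mem_zpowers hg]
    refine eppo_subgroup hS A g fun e => ?_
    have h5 := hA.five_le
    rw [← orderOf_eq_card_of_forall_mem_zpowers hg, e, orderOf_one] at h5
    omega
  have hpow : 2 ^ (2 * m + 1) = 2 ^ (m + 1) * 2 ^ m := by rw [← pow_add]; ring_nf
  set X := 2 ^ m with hX
  have hsucc : 2 ^ (m + 1) = 2 * X := by rw [hX, pow_succ]; ring
  have hq : 2 ^ (2 * m + 1) = 2 * (X * X) := by rw [hpow, hsucc]; ring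
  rw [hq, hsucc] at hc₁ hc₂
  have hX2 : 2 ≤ X := le_trans (by norm_num) (Nat.pow_le_pow_right two_pos hm)
  have hXX : 2 * X ≤ 2 * (X * X) := by nlinarith
  have hprod : Nat.card A₁ * Nat.card A₂ = 4 * (X * X) * (X * X) + 1 := by
    rw [hc₁, hc₂]
    obtain ⟨d, hd⟩ := Nat.le.dest hXX
    rw [← hd, Nat.add_sub_cancel_left]
    nlinarith
  have h5d : 5 ∣ Nat.card A₁ * Nat.card A₂ := by
    rw [hprod]
    have hmod : X * X % 5 = 1 ∨ X * X % 5 = 4 := by
      have h5 : ¬ 5 ∣ X := fun hd => by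
        have := Nat.Prime.dvd_of_dvd_pow (by norm_num : Nat.Prime 5) hd
        omega
      rw [Nat.mul_mod]
      have : X % 5 = 1 ∨ X % 5 = 2 ∨ X % 5 = 3 ∨ X % 5 = 4 := by omega
      rcases this with e | e | e | e <;> rw [e] <;> omega
    rw [Nat.dvd_iff_mod_eq_zero, Nat.add_mod, Nat.mul_mod, Nat.mul_mod 4]
    rcases hmod with e | e <;> rw [e]
  obtain ⟨A, hA, hcard, h5⟩ : ∃ A : Subgroup ↥(Cfsg.Sz F m), SuzukiGroupTori.IsTorus A ∧
      (Nat.card A + 2 * X = 2 * (X * X) + 1 ∨ Nat.card A = 2 * (X * X) + 2 * X + 1) ∧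
      5 ∣ Nat.card A := by
    rcases (Nat.Prime.dvd_mul (by norm_num)).1 h5d with hd | hd
    · exact ⟨A₁, hA₁, Or.inr hc₁, hd⟩
    · exact ⟨A₂, hA₂, Or.inl (by omega), hd⟩
  obtain ⟨a, ha⟩ := eq_pow_of_dvd (hpp A hA) (by norm_num : Nat.Prime 5) h5
  by_contra hcon
  obtain ⟨j, rfl⟩ : ∃ j, m = j + 3 := ⟨m - 3, by omega⟩
  -- the order of `5` modulo `2 ^ (m + 1)`
  have hmod : ((5 : ZMod (2 ^ (j + 2 + 2)))) ^ a = 1 := by
    have hdvd : ((2 * X : ℕ) : ZMod (2 ^ (j + 2 + 2))) = 0 := by
      rw [ZMod.natCast_eq_zero_iff, ← hsucc]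
    have e1 : ((5 ^ a : ℕ) : ZMod (2 ^ (j + 2 + 2))) = 1 := by
      rw [← ha]
      rcases hcard with hc | hc
      · have := congrArg (fun t : ℕ => (t : ZMod (2 ^ (j + 2 + 2)))) hc
        simp only [Nat.cast_add, Nat.cast_one] at this
        rw [hdvd, add_zero, show ((2 * (X * X) : ℕ) : ZMod (2 ^ (j + 2 + 2))) = 0 by
          rw [show 2 * (X * X) = 2 * X * X by ring, Nat.cast_mul, hdvd, zero_mul], zero_add] at this
        exact this
      · rw [hc]
        simp only [Nat.cast_add, Nat.cast_one]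
        rw [hdvd, show ((2 * (X * X) : ℕ) : ZMod (2 ^ (j + 2 + 2))) = 0 by
          rw [show 2 * (X * X) = 2 * X * X by ring, Nat.cast_mul, hdvd, zero_mul]]
        simp
    exact_mod_cast e1
  have hord := orderOf_dvd_of_pow_eq_one hmod
  rw [ZMod.orderOf_five] at hord
  have ha0 : a ≠ 0 := by
    rintro rfl
    have := hA.five_le
    rw [ha] at this
    norm_num at this
  have hge := Nat.le_of_dvd (Nat.pos_of_ne_zero ha0) hord
  have hbig : ∀ i : ℕ, 4 * (2 ^ (i + 3) * 2 ^ (i + 3)) < 5 ^ 2 ^ (i + 2) := by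
    intro i
    induction i with
    | zero => norm_num
    | succ i ih =>
      have e : 2 ^ (i + 1 + 2) = 2 ^ (i + 2) * 2 := pow_succ 2 (i + 2)
      rw [e, pow_mul, pow_succ 2 (i + 3), pow_two]
      have h1 : 1 ≤ 2 ^ (i + 3) := Nat.one_le_two_pow
      generalize 5 ^ 2 ^ (i + 2) = P at ih ⊢
      generalize 2 ^ (i + 3) = Y at ih h1 ⊢
      have h4 : 4 ≤ P := by nlinarith
      have h5 : 4 * P ≤ P * P := Nat.mul_le_mul_right P h4
      nlinarith
  have h5a : 5 ^ 2 ^ (j + 2) ≤ Nat.card A := ha ▸ Nat.pow_le_pow_right (by norm_num) hge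
  have := hbig j
  rw [← hX] at this
  have hX8 : 8 ≤ X := by
    rw [hX, pow_add]
    have := @Nat.one_le_two_pow j
    omega
  have : 8 * X ≤ X * X := Nat.mul_le_mul_right X hX8
  rcases hcard with hc | hc <;> omega

/-- Simple groups with all elements of prime power order. -/
theorem classify [IsSimpleGroup G] (hna : ¬ IsMulCommutative G) (h : EPPO G) (hL : CITList G) :
    EppoList G := by
  rcases hL with ⟨F, iF, iFF, hF, ⟨e⟩⟩ | h3 | ⟨F, iF, iFF, m, hm, hq, ⟨e⟩⟩
  · exact psl2_case hna h hF e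
  · exact Or.inr (Or.inr (Or.inl h3))
  · refine Or.inr (Or.inr (Or.inr ⟨F, iF, iFF, ?_⟩))
    rcases suzuki_m hm hq (eppo_equiv h e) with rfl | rfl
    · exact Or.inl ⟨hq, ⟨e⟩⟩
    · exact Or.inr ⟨hq, ⟨e⟩⟩

end Cfsg.Agent.EppoSimple4
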