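import Mathlib
import Cfsg.Agent.Lib.CIT21Main
import Cfsg.Agent.Lib.CIT21Frobenius
import Cfsg.Agent.Lib.EppoSimple4
import Cfsg.Agent.Lib.SuzukiUniq67Main

/-!
# The CIT classification with the Suzuki groups up to isomorphism
-/

set_option autoImplicit false

namespace Cfsg.Agent.EppoCIT4

open CIT21

universe u

variable {G : Type u} [Group G] [Finite G]

/-- Suzuki's classification of CIT groups, up to isomorphism. -/
theorem citList (hs : IsSimpleGroup G) (hna : ∃ a b : G, a * b ≠ b * a) (hG : IsCIT G) :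
    EppoSimple4.CITList G := by
  haveI := hs
  have hloc : LocalSpec G := localSpec
  have field : (∃ (F : Type) (_ : Field F) (_ : Fintype F),
      Nonempty (G ≃* Matrix.ProjectiveSpecialLinearGroup (Fin 2) F)) → EppoSimple4.CITList G := by
    rintro ⟨F, hF, hFf, he⟩
    exact Or.inl ⟨F, hF, hFf, CIT21Dihedral.fieldSpec hG hs F he, he⟩
  by_cases hE : ∃ N D V : Subgroup G, ∃ c, ELocal N D V c
  · obtain ⟨N, V, c, hV⟩ := reduceSpec hloc quadraticSpec hG hs hna hE
    have h2 := hV.sl2.two_le
    rcases Nat.lt_or_ge c 4 with hc | hc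
    · obtain ⟨n, hn⟩ := hV.sl2.pGroup_D.exists_card_eq
      rcases (show c = 2 ∨ c = 3 by omega) with rfl | rfl
      · exact field (CIT21Dihedral.dihedralSpec hG hs ⟨N, V, hV⟩)
      · exfalso
        have h3 := hV.sl2.card_U
        rw [hn] at h3
        have : (3 : ℕ) ∣ 2 ^ n := ⟨3, by rw [h3]; norm_num⟩
        have := Nat.Prime.dvd_of_dvd_pow Nat.prime_three this
        norm_num at this
    · exact Or.inr (Or.inl (plane hG hs (flatsSpec quadraticSpec hG hs ⟨N, V, c, hc, hV⟩)))
  · have hTI := climbSpec hloc hG hs hna fun N D V c h => hE ⟨N, D, V, c, h⟩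
    obtain ⟨Ω, iA, iF, hZ⟩ := frobenius_zassenhaus hG hs hna hTI
    rcases SuzukiUniq67.psl2_or_isoSuzuki hZ with h | h
    · exact field h
    · exact Or.inr (Or.inr h)

/-- Simple groups all of whose elements have prime power order. -/
theorem eppoList (hs : IsSimpleGroup G) (hna : ¬ IsMulCommutative G) (h : S3992.EPPO G) :
    EppoSimple4.EppoList G := by
  haveI := hs
  refine EppoSimple4.classify hna h (citList hs ?_ (EppoSimple4.cit h))
  by_contra hcon
  push Not at hcon
  exact hna ⟨⟨hcon⟩⟩

end Cfsg.Agent.EppoCIT4
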