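import Mathlib
import Cfsg.Agent.S0016
import Cfsg.Agent.S0201

/-!
A non-abelian simple group of even order contains a four-group.
-/

set_option autoImplicit false

namespace Cfsg.Agent.KleinFourSimple54

variable {G : Type*} [Group G] [Finite G]

/-- Two commuting involutions span a four-group. -/
theorem exists_klein_of_commuting {a b : G} (ha : a * a = 1) (hb : b * b = 1) (hab : a * b = b * a)
    (ha1 : a ≠ 1) (hb1 : b ≠ 1) (hne : a ≠ b) : ∃ E : Subgroup G, IsKleinFour E := by
  classical
  let E : Subgroup G :=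
    { carrier := {1, a, b, a * b}
      one_mem' := by simp
      inv_mem' := by
        intro x hx
        simp only [Set.mem_insert_iff, Set.mem_singleton_iff] at hx ⊢
        have e1 : a⁻¹ = a := inv_eq_of_mul_eq_one_right ha
        have e2 : b⁻¹ = b := inv_eq_of_mul_eq_one_right hb
        rcases hx with rfl | rfl | rfl | rfl
        · simp
        · simp [e1]
        · simp [e2]
        · simp [e1, e2, hab]
      mul_mem' := by
        intro x y hx hy
        simp only [Set.mem_insert_iff, Set.mem_singleton_iff] at hx hy ⊢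
        have k1 : a * (a * b) = b := by rw [← mul_assoc, ha, one_mul]
        have k2 : b * (a * b) = a := by rw [hab, ← mul_assoc, hb, one_mul]
        have k3 : a * b * a = b := by rw [hab, mul_assoc, ha, mul_one]
        have k4 : a * b * b = a := by rw [mul_assoc, hb, mul_one]
        have k5 : a * b * (a * b) = 1 := by rw [mul_assoc, k2, ha]
        rcases hx with rfl | rfl | rfl | rfl <;> rcases hy with rfl | rfl | rfl | rfl <;>
          simp [ha, hb, k1, k2, k3, k4, k5, hab.symm] }
  have hab1 : a * b ≠ 1 := fun h => hne (mul_left_cancel (ha.trans h.symm))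
  have hab2 : a * b ≠ a := fun h => hb1 (mul_eq_left.1 h)
  have hab3 : a * b ≠ b := fun h => ha1 (mul_eq_right.1 h)
  have hc : Nat.card E = 4 := by
    show Nat.card ↥({1, a, b, a * b} : Set G) = 4
    rw [Nat.card_coe_set_eq, Set.ncard_insert_of_notMem
      (by simp [ha1.symm, hb1.symm, hab1.symm]), Set.ncard_insert_of_notMem (by simp [hne, hab2.symm]),
      Set.ncard_pair hab3.symm]
  have hsq : ∀ x : E, x ^ 2 = 1 := by
    rintro ⟨x, hx⟩
    refine Subtype.ext ?_
    show x ^ 2 = 1
    rw [pow_two]
    rcases hx with rfl | rfl | rfl | rfl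
    · simp
    · exact ha
    · exact hb
    · rw [mul_assoc, ← mul_assoc b, ← hab, ← mul_assoc, ← mul_assoc, ha, one_mul, hb]
  haveI : Nontrivial E := Finite.one_lt_card_iff_nontrivial.1 (by omega)
  refine ⟨E, hc, ?_⟩
  exact ((Nat.dvd_prime Nat.prime_two).1 (Monoid.exponent_dvd_of_forall_pow_eq_one hsq)).resolve_left
    fun h => not_nontrivial_iff_subsingleton.2 (Monoid.exp_eq_one_iff.1 h) inferInstance

/-- A non-abelian simple group of even order contains a four-group. -/
theorem exists_klein [IsSimpleGroup G] (hG : ¬ IsMulCommutative G) (h2 : 2 ∣ Nat.card G) :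
    ∃ E : Subgroup G, IsKleinFour E := by
  classical
  haveI : Fact (Nat.Prime 2) := ⟨Nat.prime_two⟩
  by_contra hno
  obtain ⟨P⟩ := (inferInstance : Nonempty (Sylow 2 G))
  have hP1 : (P : Subgroup G) ≠ ⊥ := fun h => by
    have := P.not_dvd_index
    rw [h, Subgroup.index_bot] at this
    exact this h2
  haveI : Nontrivial (P : Subgroup G) := (Subgroup.nontrivial_iff_ne_bot _).2 hP1
  haveI := P.2.center_nontrivial
  obtain ⟨k, hk0, hk⟩ := (IsPGroup.to_subgroup P.2 (Subgroup.center (P : Subgroup G))).nontrivial_iff_card.1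
    inferInstance
  obtain ⟨z, hz⟩ := exists_prime_orderOf_dvd_card' (G := Subgroup.center (P : Subgroup G)) 2
    (hk ▸ dvd_pow_self 2 hk0.ne')
  rw [← Subgroup.orderOf_coe] at hz
  have hz1 : (z : (P : Subgroup G)) ≠ 1 := fun h => by rw [h, orderOf_one] at hz; omega
  have hzz : ((z : (P : Subgroup G)) : G) * ((z : (P : Subgroup G)) : G) = 1 := by
    rw [← Subgroup.coe_mul, ← pow_two, orderOf_dvd_iff_pow_eq_one.1 hz.dvd, Subgroup.coe_one]
  have huniq : ∀ x : (P : Subgroup G), x * x = 1 → x ≠ 1 → x = z := by
    intro x hx hx1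
    by_contra hne
    refine hno (exists_klein_of_commuting hzz (congrArg Subtype.val hx)
      (congrArg Subtype.val ((Subgroup.mem_center_iff.1 z.2 x).symm)) (fun h => hz1 (Subtype.ext h))
      (fun h => hx1 (Subtype.ext h)) fun h => hne (Subtype.ext h).symm)
  have hone : ∀ H K : Subgroup (P : Subgroup G), Nat.card H = 2 → Nat.card K = 2 → H = K := by
    have key : ∀ H : Subgroup (P : Subgroup G), Nat.card H = 2 →
        H = Subgroup.zpowers (z : (P : Subgroup G)) := by
      intro H hH
      obtain ⟨h, hh⟩ := exists_prime_orderOf_dvd_card' (G := H) 2 (by rw [hH])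
      rw [← Subgroup.orderOf_coe] at hh
      have e : (h : (P : Subgroup G)) = z := huniq _
        (by rw [← pow_two, orderOf_dvd_iff_pow_eq_one.1 hh.dvd]) (fun e => by rw [e, orderOf_one] at hh; omega)
      refine (Subgroup.eq_of_le_of_card_ge (Subgroup.zpowers_le.2 (e ▸ h.2)) ?_).symm
      rw [Nat.card_zpowers, hz, hH]
    exact fun H K hH hK => (key H hH).trans (key K hK).symm
  have hcyc : ∀ _ : IsCyclic (P : Subgroup G), False := by
    intro hc
    have hmin : (Nat.card G).minFac = 2 := (Nat.minFac_eq_two_iff _).2 h2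
    have hcompl := IsCyclic.isComplement' hmin hc
    set f := MonoidHom.transferSylow P (IsCyclic.normalizer_le_centralizer hmin hc)
    rcases f.normal_ker.eq_bot_or_eq_top with h | h
    · rw [h, Subgroup.isComplement'_bot_left] at hcompl
      refine hG ⟨⟨fun a b => ?_⟩⟩
      haveI := hc
      have := congrArg Subtype.val (IsCyclic.commGroup.mul_comm
        (⟨a, hcompl ▸ Subgroup.mem_top a⟩ : (P : Subgroup G)) ⟨b, hcompl ▸ Subgroup.mem_top b⟩)
      exact this
    · rw [h, Subgroup.isComplement'_top_left] at hcompl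
      exact hP1 hcompl
  rcases S0016.result 2 P.2 hone with hc | ⟨-, n, ⟨e⟩⟩
  · exact hcyc hc
  rcases n with _ | n
  · refine hcyc ?_
    have : IsCyclic (QuaternionGroup 1) := QuaternionGroup.quaternionGroup_one_isCyclic
    exact isCyclic_of_surjective e.symm e.symm.surjective
  have hO : ∀ N : Subgroup G, N.Normal → Odd (Nat.card N) → N = ⊥ := fun N hN hodd => by
    rcases hN.eq_bot_or_eq_top with h | h
    · exact h
    · rw [h, Subgroup.card_top] at hodd
      exact absurd h2 hodd.not_two_dvd_nat
  have hZ := S0201.result P n e hO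
  rcases (inferInstance : (Subgroup.center G).Normal).eq_bot_or_eq_top with h | h
  · rw [h, Subgroup.card_bot] at hZ
    omega
  · exact hG ⟨⟨fun a b => (Subgroup.mem_center_iff.1 (h ▸ Subgroup.mem_top b) a)⟩⟩

end Cfsg.Agent.KleinFourSimple54
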