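import Mathlib

/-!
Element orders in `PSL(n, q)`: an element either centralises a non-trivial element of order `r`
(`r ∣ q - 1`, `r ∤ n`) or has order dividing `p ^ e * (q ^ n - 1) / ((q - 1) * gcd (n, q - 1))`.
-/

set_option autoImplicit false
set_option linter.style.haveILetI false
set_option linter.unusedSectionVars false

namespace Cfsg.Agent.SpectrumPSL61

open Matrix

/-- `1 + q + ⋯ + q ^ (n - 1)`. -/
def geom (q n : ℕ) : ℕ := ∑ i ∈ Finset.range n, q ^ i

theorem geom_mul_add (q n : ℕ) (hq : 1 ≤ q) : geom q n * (q - 1) + 1 = q ^ n := by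
  induction n with
  | zero => simp [geom]
  | succ n ih =>
    simp only [geom, Finset.sum_range_succ] at *
    rw [pow_succ, add_mul]
    obtain ⟨k, rfl⟩ : ∃ k, q = k + 1 := ⟨q - 1, by omega⟩
    simp only [Nat.add_sub_cancel] at *
    linear_combination ih

theorem geom_mul (q d j : ℕ) (hq : 2 ≤ q) : geom q (d * j) = geom q d * geom (q ^ d) j := by
  have h1 := geom_mul_add q (d * j) (by omega)
  have h2 := geom_mul_add q d (by omega)
  have h3 := geom_mul_add (q ^ d) j (Nat.one_le_pow _ _ (by omega))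
  have h4 : q ^ d - 1 = geom q d * (q - 1) := by omega
  rw [h4, ← pow_mul] at h3
  exact Nat.eq_of_mul_eq_mul_right (show 0 < q - 1 by omega) (by linarith)

theorem geom_modEq (Q g j : ℕ) (hQ : Q ≡ 1 [MOD g]) : geom Q j ≡ j [MOD g] := by
  induction j with
  | zero => simp [geom, Nat.ModEq.refl]
  | succ j ih =>
    simp only [geom, Finset.sum_range_succ] at *
    simpa using ih.add (hQ.pow j)

theorem gcd_dvd_geom (q n : ℕ) (hq : 1 ≤ q) : Nat.gcd n (q - 1) ∣ geom q n := by
  have h1 : q ≡ 1 [MOD Nat.gcd n (q - 1)] := by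
    rw [Nat.ModEq.comm, Nat.modEq_iff_dvd' hq]
    exact Nat.gcd_dvd_right _ _
  exact (Nat.modEq_zero_iff_dvd).1 ((geom_modEq q _ n h1).trans
    (Nat.modEq_zero_iff_dvd.2 (Nat.gcd_dvd_left _ _)))

theorem coprime_geom (q n p : ℕ) (hn : 1 ≤ n) (hp : p ∣ q) : Nat.Coprime p (geom q n) := by
  have h : geom q n = q * geom q (n - 1) + 1 := by
    obtain ⟨k, rfl⟩ : ∃ k, n = k + 1 := ⟨n - 1, by omega⟩
    simp only [geom, Nat.add_sub_cancel, Finset.sum_range_succ', Finset.mul_sum, pow_zero]
    congr 1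
    exact Finset.sum_congr rfl fun i _ => pow_succ' q i
  rw [h]
  obtain ⟨c, rfl⟩ := hp
  rw [mul_assoc, Nat.coprime_mul_left_add_right]
  exact Nat.coprime_one_right p

variable {F : Type*} [Field F] [Fintype F] {n : ℕ}

local notation "SL" => Matrix.SpecialLinearGroup (Fin n) F
local notation "Mat" => Matrix (Fin n) (Fin n) F
local notation "PS" => Matrix.ProjectiveSpecialLinearGroup (Fin n) F

theorem mk_eq_one_iff (A : SL) : ((A : SL) : PS) = 1 ↔ ∃ a : F, a ^ n = 1 ∧ Matrix.scalar (Fin n) a = (A : Mat) := by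
  rw [QuotientGroup.eq_one_iff, Matrix.SpecialLinearGroup.mem_center_iff, Fintype.card_fin]

/-- A non-trivial idempotent commuting with `g` yields a commuting element of order `r`. -/
theorem exists_commute_order (hn : 2 ≤ n) {r : ℕ} (hr : r.Prime) (hrq : r ∣ Fintype.card F - 1)
    (hrn : ¬ r ∣ n) (g : SL) (E : Mat) (hE : E * E = E) (h0 : E ≠ 0) (h1 : E ≠ 1)
    (hc : Commute E (g : Mat)) :
    ∃ s : SL, Commute s g ∧ orderOf ((s : SL) : PS) = r := by
  classical
  haveI := Fact.mk hr
  obtain ⟨u, hu⟩ := exists_prime_orderOf_dvd_card' (G := Fˣ) r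
    (by rwa [Nat.card_eq_fintype_card, Fintype.card_units])
  let x : F := u
  have hxr : x ^ r = 1 := by
    have := congrArg Units.val (hu ▸ pow_orderOf_eq_one u)
    simpa using this
  have hxn : x ^ n ≠ 1 := fun h => hrn (by
    rw [← hu]; exact orderOf_dvd_of_pow_eq_one (Units.ext (by simpa using h)))
  have hEF : E * (1 - E) = 0 := by rw [mul_sub, mul_one, hE, sub_self]
  have hFE : (1 - E) * E = 0 := by rw [sub_mul, one_mul, hE, sub_self]
  have hFF : (1 - E) * (1 - E) = 1 - E := by rw [mul_sub, mul_one, hFE, sub_zero]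
  let φ : F → Mat := fun a => a • E + (1 - E)
  have hφmul : ∀ a b, φ a * φ b = φ (a * b) := fun a b => by
    simp only [φ, add_mul, mul_add, smul_mul_assoc, mul_smul_comm, smul_smul, hE, hEF, hFE, hFF,
      smul_zero, add_zero, zero_add]
    rw [mul_comm b a]
  have hφpow : ∀ a k, φ a ^ k = φ (a ^ k) := fun a k => by
    induction k with
    | zero => simp [φ]
    | succ k ih => rw [pow_succ, ih, hφmul, pow_succ]
  have hφr : φ x ^ r = 1 := by rw [hφpow, hxr]; simp [φ]
  set δ := (φ x).det with hδdef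
  have hδr : δ ^ r = 1 := by rw [hδdef, ← Matrix.det_pow, hφr, Matrix.det_one]
  have hδ0 : δ ≠ 0 := fun h => by rw [h, zero_pow hr.ne_zero] at hδr; exact zero_ne_one hδr
  have hdet : (δ⁻¹ • φ x ^ n).det = 1 := by
    rw [Matrix.det_smul, Fintype.card_fin, Matrix.det_pow, ← mul_pow, inv_mul_cancel₀ hδ0, one_pow]
  let s : SL := ⟨δ⁻¹ • φ x ^ n, hdet⟩
  have hcomm : Commute s g := by
    apply Subtype.ext
    show (δ⁻¹ • φ x ^ n) * (g : Mat) = (g : Mat) * (δ⁻¹ • φ x ^ n)
    exact ((((hc.smul_left x).add_left ((Commute.one_left _).sub_left hc)).pow_left n).smul_left δ⁻¹).eq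
  have hsr : s ^ r = 1 := by
    apply Subtype.ext
    show ((s ^ r : SL) : Mat) = 1
    rw [Matrix.SpecialLinearGroup.coe_pow]
    show (δ⁻¹ • φ x ^ n) ^ r = 1
    rw [_root_.smul_pow, ← pow_mul, mul_comm n r, pow_mul, hφr, one_pow, inv_pow, hδr, inv_one, one_smul]
  refine ⟨s, hcomm, orderOf_eq_prime ?_ ?_⟩
  · rw [← QuotientGroup.mk_pow, hsr]; rfl
  · intro h
    obtain ⟨a, -, ha⟩ := (mk_eq_one_iff s).1 h
    have hs : (δ * a) • (1 : Mat) = φ (x ^ n) := by
      rw [← hφpow, ← smul_smul]
      have ha' : Matrix.scalar (Fin n) a = δ⁻¹ • φ x ^ n := ha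
      rw [show (a • (1 : Mat)) = δ⁻¹ • φ x ^ n by
        rw [← ha', Matrix.scalar_apply, Matrix.smul_one_eq_diagonal]]
      rw [smul_smul, mul_inv_cancel₀ hδ0, one_smul]
    have e1 : (δ * a) • E = x ^ n • E := by
      have := congrArg (· * E) hs
      simpa [φ, smul_mul_assoc, add_mul, hE, hFE] using this
    have e2 : (δ * a) • (1 - E) = 1 - E := by
      have := congrArg (· * (1 - E)) hs
      simpa [φ, smul_mul_assoc, add_mul, hEF, hFF] using this
    have f1 : δ * a = x ^ n := by
      have : (δ * a - x ^ n) • E = 0 := by rw [sub_smul, e1, sub_self]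
      exact sub_eq_zero.1 ((smul_eq_zero.1 this).resolve_right h0)
    have f2 : δ * a = 1 := by
      have : (δ * a - 1) • (1 - E) = 0 := by rw [sub_smul, e2, one_smul, sub_self]
      exact sub_eq_zero.1 ((smul_eq_zero.1 this).resolve_right (sub_ne_zero.2 (Ne.symm h1)))
    exact hxn (f1.symm.trans f2)

set_option maxHeartbeats 1600000 in
/-- In a subfield of the matrix algebra, elements of determinant one become scalars at the semisimple exponent. -/
theorem scalar_of_det_one (hn : 1 ≤ n) {K : Type*} [Field K] [Algebra F K] [Finite K]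
    (Φ : K →ₐ[F] Mat) (σ : K) (hdet : (Φ σ).det = 1) :
    ∃ a : F, algebraMap F K a =
      σ ^ (geom (Fintype.card F) n / Nat.gcd n (Fintype.card F - 1)) := by
  classical
  haveI : Nonempty (Fin n) := ⟨⟨0, hn⟩⟩
  let V := Fin n → F
  let act : K →+* Module.End F V :=
    { toFun := fun z => Matrix.toLin' (Φ z)
      map_one' := by rw [map_one]; exact Matrix.toLin'_one
      map_mul' := fun a b => by rw [map_mul]; exact Matrix.toLin'_mul _ _
      map_zero' := by simp
      map_add' := fun a b => by rw [map_add, map_add] }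
  letI : Module K V := Module.compHom V act
  haveI : IsScalarTower F K V := ⟨fun c z v => by
    show Matrix.toLin' (Φ (c • z)) v = c • Matrix.toLin' (Φ z) v
    rw [map_smul, map_smul]; rfl⟩
  haveI : FiniteDimensional F K := inferInstance
  set d := Module.finrank F K with hd
  set j := Module.finrank K V with hj
  have hdj : d * j = n := by rw [Module.finrank_mul_finrank F K V, Module.finrank_fin_fun]
  set q := Fintype.card F with hqdef
  have hq : 2 ≤ q := Fintype.one_lt_card
  have hcardS : Nat.card K = q ^ d := by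
    rw [Module.natCard_eq_pow_finrank (K := F), Nat.card_eq_fintype_card]
  have hd0 : 1 ≤ d := Module.finrank_pos
  have hnorm : Algebra.norm F σ ^ j = 1 := by
    have h1 : ((σ • (LinearMap.id : V →ₗ[K] V)).restrictScalars F).det = 1 := by
      rw [show ((σ • (LinearMap.id : V →ₗ[K] V)).restrictScalars F) =
        Matrix.toLin' (Φ σ) from LinearMap.ext fun v => rfl, LinearMap.det_toLin', hdet]
    rwa [LinearMap.det_restrictScalars, LinearMap.det_smul, LinearMap.det_id, mul_one, map_pow] at h1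
  have hσ : σ ^ (geom q d * j) = 1 := by
    have h := congrArg (algebraMap F K) hnorm
    rw [map_pow, map_one, FiniteField.algebraMap_norm_eq_pow, ← pow_mul, hcardS,
      Nat.card_eq_fintype_card, ← hqdef] at h
    rwa [show (q ^ d - 1) / (q - 1) = geom q d by
      rw [← geom_mul_add q d (by omega), Nat.add_sub_cancel, Nat.mul_div_cancel _ (by omega)]] at h
  have hσ0 : σ ≠ 0 := fun h => by
    rw [h, zero_pow] at hσ
    · exact zero_ne_one hσ
    · have : 1 ≤ j := by
        rcases Nat.eq_zero_or_pos j with h0 | h0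
        · rw [h0, mul_zero] at hdj; omega
        · exact h0
      have h1 := geom_mul_add q d (by omega)
      have h2 : q ^ 1 ≤ q ^ d := Nat.pow_le_pow_right (by omega) hd0
      rw [pow_one] at h2
      intro h0
      rcases Nat.mul_eq_zero.1 h0 with e0 | e0
      · rw [e0, zero_mul] at h1; omega
      · omega
  have hσ' : σ ^ (geom q d * (q - 1)) = 1 := by
    haveI := Fintype.ofFinite K
    have h := FiniteField.pow_card_sub_one_eq_one σ hσ0
    rwa [← Nat.card_eq_fintype_card, hcardS,
      show q ^ d - 1 = geom q d * (q - 1) by have := geom_mul_add q d (by omega); omega] at h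
  set c := Nat.gcd n (q - 1) with hc
  set g0 := Nat.gcd j (q - 1) with hg0
  have hσg : σ ^ (geom q d * g0) = 1 := by
    rw [pow_mul, hg0]
    exact pow_gcd_eq_one.mpr ⟨by rw [← pow_mul, hσ], by rw [← pow_mul, hσ']⟩
  have hA : geom q n = geom q d * geom (q ^ d) j := by rw [← hdj, geom_mul q d j hq]
  have hT : g0 ∣ geom (q ^ d) j := by
    refine (Nat.modEq_zero_iff_dvd).1 ((geom_modEq _ _ j ?_).trans
      (Nat.modEq_zero_iff_dvd.2 (Nat.gcd_dvd_left _ _)))
    have : q ≡ 1 [MOD g0] := by
      rw [Nat.ModEq.comm, Nat.modEq_iff_dvd' (by omega)]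
      exact Nat.gcd_dvd_right _ _
    simpa using this.pow d
  have hcA : c ∣ geom q n := gcd_dvd_geom q n (by omega)
  obtain ⟨w, hw⟩ : c ∣ q - 1 := Nat.gcd_dvd_right _ _
  have hkey : (σ ^ (geom q n / c)) ^ (q - 1) = 1 := by
    rw [← pow_mul, hw, ← mul_assoc, Nat.div_mul_cancel hcA, hA]
    obtain ⟨t, ht⟩ := hT
    rw [ht, show geom q d * (g0 * t) * w = geom q d * g0 * (t * w) by ring, pow_mul, hσg, one_pow]
  obtain ⟨a, ha⟩ : ∃ a : F, algebraMap F K a = σ ^ (geom q n / c) := by
    by_contra hno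
    push Not at hno
    let P : Polynomial K := Polynomial.X ^ (q - 1) - Polynomial.C 1
    have hP : P ≠ 0 := Polynomial.X_pow_sub_C_ne_zero (by omega) 1
    let T : Finset K := insert (σ ^ (geom q n / c))
      ((Finset.univ.filter fun a : F => a ≠ 0).image (algebraMap F K))
    have hTc : T.card = q := by
      rw [Finset.card_insert_of_notMem, Finset.card_image_of_injective _ (algebraMap F K).injective,
        Finset.filter_ne', Finset.card_erase_of_mem (Finset.mem_univ _), Finset.card_univ, ← hqdef]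
      · omega
      · simp only [Finset.mem_image, not_exists, not_and]
        exact fun a _ => hno a
    have hsub : T ⊆ P.roots.toFinset := by
      intro z hz
      rw [Multiset.mem_toFinset, Polynomial.mem_roots hP]
      simp only [T, Finset.mem_insert, Finset.mem_image, Finset.mem_filter, Finset.mem_univ,
        true_and] at hz
      rcases hz with rfl | ⟨a, ha, rfl⟩
      · simp [P, Polynomial.IsRoot, hkey]
      · simp [P, Polynomial.IsRoot, ← map_pow, hqdef ▸ FiniteField.pow_card_sub_one_eq_one a ha]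
    have := (Finset.card_le_card hsub).trans
      ((Multiset.toFinset_card_le _).trans (Polynomial.card_roots' P))
    rw [Polynomial.natDegree_X_pow_sub_C, hTc] at this
    omega
  exact ⟨a, ha⟩

set_option maxHeartbeats 1600000 in
/-- The dichotomy. -/
theorem dichotomy (hn : 2 ≤ n) {r p e : ℕ} [Fact p.Prime] [CharP F p] (hpe : n ≤ p ^ e)
    (hr : r.Prime) (hrq : r ∣ Fintype.card F - 1) (hrn : ¬ r ∣ n) (g : SL) :
    (∃ s : SL, Commute s g ∧ orderOf ((s : SL) : PS) = r) ∨
      ((g : SL) : PS) ^ (p ^ e * (geom (Fintype.card F) n / Nat.gcd n (Fintype.card F - 1))) = 1 := by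
  classical
  haveI : Nonempty (Fin n) := ⟨⟨0, by omega⟩⟩
  haveI : CharP Mat p := charP_of_injective_algebraMap (algebraMap F Mat).injective p
  let R := Algebra.adjoin F {(g : Mat)}
  have hRc : ∀ x ∈ R, ∀ y ∈ R, Commute x y := by
    intro x hx y hy
    exact congrArg Subtype.val ((IsMulCommutative.is_comm).comm (⟨x, hx⟩ : R) ⟨y, hy⟩)
  let S : Subalgebra F Mat :=
    { carrier := {z | ∃ y ∈ R, y ^ p ^ e = z}
      mul_mem' := by
        rintro _ _ ⟨a, ha, rfl⟩ ⟨b, hb, rfl⟩
        exact ⟨a * b, R.mul_mem ha hb, (hRc a ha b hb).mul_pow _⟩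
      one_mem' := ⟨1, R.one_mem, one_pow _⟩
      add_mem' := by
        rintro _ _ ⟨a, ha, rfl⟩ ⟨b, hb, rfl⟩
        exact ⟨a + b, R.add_mem ha hb, add_pow_char_pow_of_commute _ _ (hRc a ha b hb)⟩
      zero_mem' := ⟨0, R.zero_mem, zero_pow (pow_ne_zero _ (Fact.out : p.Prime).ne_zero)⟩
      algebraMap_mem' := fun c => by
        obtain ⟨c', hc'⟩ := (bijective_frobenius F p).surjective.iterate e c
        refine ⟨algebraMap F Mat c', R.algebraMap_mem c', ?_⟩
        rw [← map_pow, ← iterate_frobenius, hc'] }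
  have hgR : (g : Mat) ∈ R := Algebra.self_mem_adjoin_singleton F _
  have hsc : ∀ z ∈ S, Commute z (g : Mat) := by
    rintro _ ⟨y, hy, rfl⟩
    exact (hRc y hy _ hgR).pow_left _
  by_cases hid : ∃ E ∈ S, E * E = E ∧ E ≠ 0 ∧ E ≠ 1
  · obtain ⟨E, hES, hE, h0, h1⟩ := hid
    exact Or.inl (exists_commute_order hn hr hrq hrn g E hE h0 h1 (hsc E hES))
  right
  push Not at hid
  -- `S` is a field
  have hunit : ∀ z : S, z ≠ 0 → ∃ w : S, z * w = 1 := by
    intro z hz
    obtain ⟨i, j, hij, hzij⟩ : ∃ i j : ℕ, i < j ∧ z ^ i = z ^ j := by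
      obtain ⟨i, j, hne, h⟩ := Finite.exists_ne_map_eq_of_infinite (fun k : ℕ => z ^ k)
      rcases lt_or_gt_of_ne hne with hl | hl
      · exact ⟨i, j, hl, h⟩
      · exact ⟨j, i, hl, h.symm⟩
    set d := j - i
    have hper : ∀ k, i ≤ k → ∀ t, z ^ (k + t * d) = z ^ k := by
      intro k hk t
      induction t with
      | zero => simp
      | succ t ih =>
        rw [show k + (t + 1) * d = (k + t * d - i) + j by
          rw [Nat.succ_mul]; omega, pow_add, ← hzij, ← pow_add,
          show k + t * d - i + i = k + t * d by omega, ih]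
    set N := (i + 1) * d with hN
    have hd1 : 1 ≤ d := by omega
    have hN1 : i + 1 ≤ N := Nat.le_mul_of_pos_right _ hd1
    have hidem : z ^ N * z ^ N = z ^ N := by rw [← pow_add]; exact hper N (by omega) (i + 1)
    by_cases hN0 : z ^ N = 0
    · exfalso
      apply hz
      obtain ⟨y, hy, hyz⟩ := z.2
      have h1 : IsNilpotent y := ⟨p ^ e * N, by
        rw [pow_mul, hyz]; exact congrArg Subtype.val hN0⟩
      have h2 : y ^ n = 0 := by
        have := (Matrix.isNilpotent_toLin'_iff y).2 h1
        have h3 : (Matrix.toLin' y) ^ n = 0 := by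
          have h4 := (LinearMap.charpoly_nilpotent_tfae (Matrix.toLin' y)).out 0 1
          have h5 : (Matrix.toLin' y).charpoly = Polynomial.X ^ n := by
            rw [h4.1 this, Module.finrank_fin_fun]
          have h6 := LinearMap.aeval_self_charpoly (Matrix.toLin' y)
          rwa [h5, map_pow, Polynomial.aeval_X] at h6
        apply Matrix.toLin'.injective
        rw [Matrix.toLin'_pow, h3, map_zero]
      exact Subtype.ext (hyz ▸ pow_eq_zero_of_le hpe h2)
    · have h1 : z ^ N = 1 := by
        by_contra hne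
        exact hne (Subtype.ext (hid _ (z ^ N).2 (congrArg Subtype.val hidem)
          (fun h => hN0 (Subtype.ext h))))
      exact ⟨z ^ (N - 1), by rw [← pow_succ', Nat.sub_add_cancel (by omega)]; exact h1⟩
  letI : CommRing S :=
    { (inferInstance : Ring S) with
      mul_comm := fun a b => Subtype.ext (by
        obtain ⟨y, hy, hyz⟩ := a.2
        obtain ⟨w, hw, hwz⟩ := b.2
        show (a : Mat) * b = b * a
        rw [← hyz, ← hwz]
        exact ((hRc y hy w hw).pow_pow _ _).eq) }
  letI : Field S := IsField.toField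
    { exists_pair_ne := ⟨0, 1, fun h => zero_ne_one (α := Mat) (congrArg Subtype.val h)⟩
      mul_comm := mul_comm
      mul_inv_cancel := fun {a} ha => hunit a ha }
  let σ : S := ⟨(g : Mat) ^ p ^ e, _, hgR, rfl⟩
  obtain ⟨a, ha⟩ := scalar_of_det_one (K := S) (by omega) S.val σ
    (show ((g : Mat) ^ p ^ e).det = 1 by rw [Matrix.det_pow, g.2, one_pow])
  set q := Fintype.card F with hqdef
  set c := Nat.gcd n (q - 1) with hc
  have hmat : ((g ^ (p ^ e * (geom q n / c)) : SL) : Mat) = Matrix.scalar (Fin n) a := by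
    rw [Matrix.SpecialLinearGroup.coe_pow, pow_mul]
    have := congrArg Subtype.val ha
    rw [SubmonoidClass.coe_pow] at this
    rw [← this]
    rfl
  rw [← QuotientGroup.mk_pow, mk_eq_one_iff]
  refine ⟨a, ?_, hmat.symm⟩
  have := (g ^ (p ^ e * (geom q n / c))).2
  rw [hmat] at this
  simpa [Matrix.scalar_apply, Matrix.det_diagonal] using this

/-- The shift matrix with a single block of size `b` in the upper left corner. -/
def shift (b : ℕ) : Mat := Matrix.of fun i j => if (i : ℕ) + 1 = j ∧ (j : ℕ) < b then 1 else 0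

theorem shift_pow (b : ℕ) : ∀ k : ℕ, 1 ≤ k →
    (shift b : Mat) ^ k = Matrix.of fun i j : Fin n => if (i : ℕ) + k = j ∧ (j : ℕ) < b then 1 else 0 := by
  intro k hk
  induction k, hk using Nat.le_induction with
  | base => rw [pow_one]; rfl
  | succ k hk ih =>
    rw [pow_succ, ih]
    ext i j
    rw [Matrix.mul_apply]
    simp only [shift, Matrix.of_apply, ite_mul, one_mul, zero_mul]
    by_cases h : (i : ℕ) + (k + 1) = j ∧ (j : ℕ) < b
    · rw [if_pos h, Finset.sum_eq_single ⟨i + k, by have := j.2; omega⟩]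
      · simp only [true_and]
        rw [if_pos (by omega), if_pos ⟨by omega, h.2⟩]
      · intro l _ hl
        rw [if_neg]
        exact fun e => hl (Fin.ext e.1.symm)
      · exact fun h' => absurd (Finset.mem_univ _) h'
    · rw [if_neg h]
      refine Finset.sum_eq_zero fun l _ => ?_
      by_cases e : (i : ℕ) + k = l ∧ (l : ℕ) < b
      · rw [if_pos e, if_neg]
        exact fun e2 => h ⟨by omega, e2.2⟩
      · rw [if_neg e]

/-- A unipotent element of order `p ^ e` in `PSL`. -/
theorem exists_unipotent {p e b : ℕ} [Fact p.Prime] [CharP F p] (hpe : n ≤ p ^ e)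
    (he : p ^ (e - 1) < b) (he1 : 1 ≤ e) (hb : b ≤ n) :
    ∃ u : SL, (u : Mat) = 1 + shift b ∧ orderOf ((u : SL) : PS) = p ^ e := by
  classical
  have hp := (Fact.out : p.Prime)
  have hb0 : 1 ≤ b := by omega
  haveI : Nonempty (Fin n) := ⟨⟨0, by omega⟩⟩
  haveI : CharP Mat p := charP_of_injective_algebraMap (algebraMap F Mat).injective p
  have hdet : (1 + shift b : Mat).det = 1 := by
    rw [Matrix.det_of_isUpperTriangular]
    · refine Finset.prod_eq_one fun i _ => ?_
      simp [shift]
    · intro i j hij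
      have hij' : (j : ℕ) < i := hij
      have : ¬ ((i : ℕ) + 1 = j ∧ (j : ℕ) < b) := by omega
      simp [shift, this, Matrix.one_apply, Fin.ne_of_val_ne (show (i : ℕ) ≠ j by omega)]
  let u : SL := ⟨1 + shift b, hdet⟩
  refine ⟨u, rfl, ?_⟩
  have hpow : ∀ i : ℕ, (1 + shift b : Mat) ^ p ^ i = 1 + (shift b : Mat) ^ p ^ i := fun i => by
    rw [add_pow_char_pow_of_commute _ _ (Commute.one_left _), one_pow]
  obtain ⟨e', rfl⟩ : ∃ e', e = e' + 1 := ⟨e - 1, by omega⟩
  refine orderOf_eq_prime_pow ?_ ?_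
  · intro h
    rw [← QuotientGroup.mk_pow, mk_eq_one_iff] at h
    obtain ⟨a, -, ha⟩ := h
    rw [Matrix.SpecialLinearGroup.coe_pow] at ha
    change Matrix.scalar (Fin n) a = (1 + shift b : Mat) ^ p ^ e' at ha
    rw [Nat.add_sub_cancel] at he
    rw [hpow, shift_pow b _ (Nat.one_le_pow _ _ hp.pos)] at ha
    have := congrFun (congrFun ha ⟨0, by omega⟩) ⟨p ^ e', by omega⟩
    have h0 : (⟨0, by omega⟩ : Fin n) ≠ ⟨p ^ e', by omega⟩ := fun e => by
      have hv : 0 = p ^ e' := congrArg Fin.val e
      have := Nat.one_le_pow e' p hp.pos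
      omega
    simp [Matrix.scalar_apply, h0, he] at this
  · rw [← QuotientGroup.mk_pow, mk_eq_one_iff]
    refine ⟨1, one_pow n, ?_⟩
    rw [Matrix.SpecialLinearGroup.coe_pow]
    show _ = (1 + shift b : Mat) ^ p ^ (e' + 1)
    rw [hpow, shift_pow b _ (Nat.one_le_pow _ _ hp.pos), map_one]
    ext i j
    have : ¬ ((i : ℕ) + p ^ (e' + 1) = j ∧ (j : ℕ) < b) := by have := j.2; omega
    simp [this]

/-- A Singer element: its order is a multiple of the semisimple exponent. -/
theorem exists_singer (hn : 1 ≤ n) {p : ℕ} [Fact p.Prime] [CharP F p] :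
    ∃ u : SL, geom (Fintype.card F) n / Nat.gcd n (Fintype.card F - 1) ∣ orderOf ((u : SL) : PS) := by
  classical
  haveI : NeZero n := ⟨by omega⟩
  haveI : Nonempty (Fin n) := ⟨⟨0, hn⟩⟩
  set q := Fintype.card F with hqdef
  have hq : 2 ≤ q := Fintype.one_lt_card
  let K := FiniteField.Extension F p n
  haveI : Finite K := Module.finite_of_finite F
  have b := Module.finBasisOfFinrankEq F K (FiniteField.finrank_extension F p n)
  obtain ⟨x, hx⟩ := IsCyclic.exists_ofOrder_eq_natCard (α := Kˣ)
  have hcard : orderOf x = q ^ n - 1 := by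
    rw [hx, Nat.card_units, FiniteField.natCard_extension, Nat.card_eq_fintype_card]
  let y : Kˣ := x ^ (q - 1)
  have hy : orderOf y = geom q n := by
    have h := geom_mul_add q n (by omega)
    rw [orderOf_pow' x (by omega : q - 1 ≠ 0), hcard, show q ^ n - 1 = geom q n * (q - 1) by omega,
      Nat.gcd_mul_left_left, Nat.mul_div_cancel _ (by omega)]
  have hdet : (Algebra.leftMulMatrix b (y : K)).det = 1 := by
    rw [← Algebra.norm_eq_matrix_det b, Units.val_pow_eq_pow_val, map_pow]
    exact FiniteField.pow_card_sub_one_eq_one _ (Algebra.norm_ne_zero_iff.2 x.ne_zero)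
  refine ⟨⟨Algebra.leftMulMatrix b (y : K), hdet⟩, ?_⟩
  set u : SL := ⟨Algebra.leftMulMatrix b (y : K), hdet⟩
  have h := pow_orderOf_eq_one ((u : SL) : PS)
  rw [← QuotientGroup.mk_pow, mk_eq_one_iff] at h
  obtain ⟨a, han, ha⟩ := h
  set k := orderOf ((u : SL) : PS)
  have hya : ((y : K) ^ k) = algebraMap F K a := by
    apply Algebra.leftMulMatrix_injective b
    rw [AlgHom.commutes, map_pow]
    rw [Matrix.SpecialLinearGroup.coe_pow] at ha
    simpa [u, Matrix.algebraMap_eq_diagonal, Pi.algebraMap_def, Matrix.scalar_apply] using ha.symm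
  have ha0 : a ≠ 0 := fun h0 => by rw [h0, zero_pow (by omega)] at han; exact zero_ne_one han
  have hac : a ^ Nat.gcd n (q - 1) = 1 :=
    pow_gcd_eq_one.mpr ⟨han, FiniteField.pow_card_sub_one_eq_one a ha0⟩
  have hdvd : geom q n ∣ k * Nat.gcd n (q - 1) := by
    rw [← hy]
    refine orderOf_dvd_of_pow_eq_one (Units.ext ?_)
    rw [Units.val_pow_eq_pow_val, pow_mul, hya, ← map_pow, hac, map_one, Units.val_one]
  have hpos : 0 < Nat.gcd n (q - 1) := Nat.gcd_pos_of_pos_left _ hn
  exact (Nat.div_dvd_iff_dvd_mul (gcd_dvd_geom q n (by omega)) hpos).2 (by rwa [mul_comm])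

end Cfsg.Agent.SpectrumPSL61
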