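import Mathlib
import Cfsg.Agent.Lib.SpectrumPSL61

/-!
The element orders of `PSL(3,q)`.
-/

set_option autoImplicit false

namespace Cfsg.Agent.SpectrumPSL53

open Matrix Polynomial

variable {F : Type*} [Field F] [Fintype F]

local notation "PS3" => Matrix.ProjectiveSpecialLinearGroup (Fin 3) F
local notation "SL3" => Matrix.SpecialLinearGroup (Fin 3) F
local notation "q" => Fintype.card F

theorem q_two : 2 ≤ q := Fintype.one_lt_card

theorem dvd_geom_three : Nat.gcd 3 (q - 1) ∣ q ^ 2 + q + 1 := by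
  have h := SpectrumPSL61.gcd_dvd_geom q 3 (Nat.le_of_lt q_two)
  have e : SpectrumPSL61.geom q 3 = q ^ 2 + q + 1 := by
    simp [SpectrumPSL61.geom, Finset.sum_range_succ]; ring
  rwa [e] at h

theorem mk_eq_one (g : SL3) : ((g : SL3) : PS3) = 1 ↔
    ∃ a : F, a ^ 3 = 1 ∧ (g : Matrix (Fin 3) (Fin 3) F) = a • 1 := by
  rw [SpectrumPSL61.mk_eq_one_iff]
  refine exists_congr fun a => and_congr_right fun _ => ?_
  rw [Matrix.scalar_apply, Matrix.smul_one_eq_diagonal, eq_comm]

/-- scalar powers read off from the characteristic polynomial -/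
theorem orderOf_dvd_of_charpoly (g : SL3) {K : Type*} [Field K] [Algebra F K] {m : ℕ} {w : K}
    (hw : w ^ Nat.gcd 3 (q - 1) = 1)
    (h : (g : Matrix (Fin 3) (Fin 3) F).charpoly.map (algebraMap F K) ∣ X ^ m - Polynomial.C w) :
    orderOf ((g : SL3) : PS3) ∣ m := by
  classical
  refine orderOf_dvd_of_pow_eq_one ?_
  rw [← QuotientGroup.mk_pow, mk_eq_one]
  let G : Matrix (Fin 3) (Fin 3) K := (g : Matrix (Fin 3) (Fin 3) F).map (algebraMap F K)
  have hG : G ^ m = w • 1 := by
    rw [← charpoly_map] at h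
    obtain ⟨r, hr⟩ := h
    have h0 := congrArg (aeval G) hr
    rw [map_mul, show aeval G G.charpoly = 0 from G.aeval_self_charpoly, zero_mul, map_sub, map_pow, aeval_X, aeval_C,
      sub_eq_zero, Algebra.algebraMap_eq_smul_one] at h0
    exact h0
  have hmap : ((g : Matrix (Fin 3) (Fin 3) F) ^ m).map (algebraMap F K) = w • 1 := by
    rw [← hG]
    exact map_pow (algebraMap F K).mapMatrix _ m
  have hent : ∀ i j, algebraMap F K (((g : Matrix (Fin 3) (Fin 3) F) ^ m) i j) = (w • (1 : Matrix (Fin 3) (Fin 3) K)) i j :=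
    fun i j => congrFun (congrFun hmap i) j
  refine ⟨((g : Matrix (Fin 3) (Fin 3) F) ^ m) 0 0, ?_, ?_⟩
  · apply (algebraMap F K).injective
    rw [map_pow, hent, map_one]
    simp only [Matrix.smul_apply, Matrix.one_apply_eq, smul_eq_mul, mul_one]
    obtain ⟨e, he⟩ : Nat.gcd 3 (q - 1) ∣ 3 := Nat.gcd_dvd_left _ _
    rw [he, pow_mul, hw, one_pow]
  · rw [Matrix.SpecialLinearGroup.coe_pow]
    ext i j
    apply (algebraMap F K).injective
    rw [hent]
    simp only [Matrix.smul_apply, smul_eq_mul, map_mul, hent]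
    rcases eq_or_ne i j with rfl | hij
    · simp
    · simp [Matrix.one_apply_ne hij]

theorem prod_dvd_sub {K : Type*} [Field K] {M : Multiset K} (hM : M.Nodup) {m : ℕ} (hm : 0 < m) {w : K}
    (h : ∀ a ∈ M, a ^ m = w) : (M.map fun a => X - Polynomial.C a).prod ∣ X ^ m - Polynomial.C w := by
  have h0 : (X ^ m - Polynomial.C w : K[X]) ≠ 0 := X_pow_sub_C_ne_zero hm w
  rw [Multiset.prod_X_sub_C_dvd_iff_le_roots h0, Multiset.le_iff_subset hM]
  intro a ha
  rw [mem_roots h0, IsRoot, eval_sub, eval_pow, eval_X, eval_C, h a ha, sub_self]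

theorem eq_of_three {α : Type*} {M : Multiset α} {a b c : α} (hcard : M.card = 3) (ha : a ∈ M) (hb : b ∈ M)
    (hc : c ∈ M) (hab : a ≠ b) (hac : a ≠ c) (hbc : b ≠ c) : M = {a, b, c} := by
  classical
  have hnd : ({a, b, c} : Multiset α).Nodup := by simp [hab, hac, hbc]
  refine (Multiset.eq_of_le_of_card_le ((Multiset.le_iff_subset hnd).2 ?_) (by simp [hcard])).symm
  intro x hx
  simp only [Multiset.insert_eq_cons, Multiset.mem_cons, Multiset.mem_singleton] at hx
  rcases hx with rfl | rfl | rfl <;> assumption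

/-- every element order is in the list -/
theorem orderOf_cases (p : ℕ) [Fact p.Prime] [CharP F p] (x : PS3) :
    orderOf x ∣ (q ^ 2 + q + 1) / Nat.gcd 3 (q - 1) ∨ orderOf x ∣ (q ^ 2 - 1) / Nat.gcd 3 (q - 1) ∨
      orderOf x ∣ q - 1 ∨ orderOf x ∣ p * (q - 1) / Nat.gcd 3 (q - 1) ∨ (p = 2 ∧ orderOf x ∣ 4) := by
  classical
  obtain ⟨g, rfl⟩ := QuotientGroup.mk_surjective x
  have hq := q_two (F := F)
  set d := Nat.gcd 3 (q - 1) with hd
  have hd0 : 0 < d := Nat.gcd_pos_of_pos_left _ (by norm_num)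
  have hd1 : d ∣ q - 1 := Nat.gcd_dvd_right _ _
  obtain ⟨e, he⟩ : d ∣ 3 := Nat.gcd_dvd_left _ _
  let K := AlgebraicClosure F
  set fK := (g : Matrix (Fin 3) (Fin 3) F).charpoly.map (algebraMap F K) with hfK
  have hmon : fK.Monic := (charpoly_monic _).map _
  set M := fK.roots with hM
  have hprod : fK = (M.map fun a => X - Polynomial.C a).prod :=
    (IsAlgClosed.splits fK).eq_prod_roots_of_monic hmon
  have hcard : M.card = 3 := by
    rw [hM, IsAlgClosed.card_roots_eq_natDegree, hfK, natDegree_map, charpoly_natDegree_eq_dim]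
    rfl
  have hM1 : M.prod = 1 := by
    rw [hM, hfK, ← charpoly_map, ← det_eq_prod_roots_charpoly]
    show ((algebraMap F K).mapMatrix (g : Matrix (Fin 3) (Fin 3) F)).det = 1
    rw [← RingHom.map_det, g.2, map_one]
  have hfin : ∀ {m : ℕ} {w : K}, w ^ d = 1 → fK ∣ X ^ m - Polynomial.C w →
      orderOf ((g : SL3) : PS3) ∣ m := fun {m w} hw h => orderOf_dvd_of_charpoly g hw h
  have hU : ∀ a ∈ M, a ≠ 0 ∧ a ^ q ∈ M := by
    intro a ha
    refine ⟨fun h0 => ?_, ?_⟩
    · have := Multiset.prod_eq_zero (h0 ▸ ha)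
      rw [hM1] at this
      exact one_ne_zero this
    · rw [hM, mem_roots hmon.ne_zero, hfK, IsRoot, eval_map] at ha ⊢
      have h := congrArg (fun f => Polynomial.eval₂ (algebraMap F K) a f) (FiniteField.expand_card (K := F) ((g : Matrix (Fin 3) (Fin 3) F).charpoly))
      simp only [eval₂_pow, ha, zero_pow (by omega : q ≠ 0), expand_eq_comp_X_pow, eval₂_comp, eval₂_X] at h
      exact h
  have hUinj : ∀ a b : K, a ^ q = b ^ q → a = b := by
    intro a b h
    obtain ⟨n, hp, hn⟩ := FiniteField.card F p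
    haveI : CharP K p := charP_of_injective_algebraMap (algebraMap F K).injective p
    haveI : ExpChar K p := ExpChar.prime Fact.out
    rw [hn] at h
    exact iterateFrobenius_inj K p n h
  by_cases hall : ∀ a ∈ M, a ^ q = a
  · have hn1 : ∀ a ∈ M, a ^ (q - 1) = 1 := fun a ha => by
      have h := hall a ha
      rw [show q = q - 1 + 1 by omega, pow_succ] at h
      exact mul_right_cancel₀ (hU a ha).1 (h.trans (one_mul a).symm)
    by_cases hnd : M.Nodup
    · right; right; left
      exact hfin (one_pow d) (hprod ▸ prod_dvd_sub hnd (by omega) hn1)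
    · obtain ⟨a, ha⟩ : ∃ a, 2 ≤ M.count a := by
        by_contra hno
        push Not at hno
        exact hnd (Multiset.nodup_iff_count_le_one.2 fun a => by have := hno a; omega)
      obtain ⟨M', hM'⟩ := Multiset.exists_cons_of_mem (Multiset.count_pos.1 (by omega : 0 < M.count a))
      obtain ⟨M'', hM''⟩ := Multiset.exists_cons_of_mem (show a ∈ M' from
        Multiset.count_pos.1 (by rw [hM', Multiset.count_cons_self] at ha; omega))
      obtain ⟨c, hc⟩ := Multiset.card_eq_one.1 (show M''.card = 1 by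
        rw [hM', hM'', Multiset.card_cons, Multiset.card_cons] at hcard; omega)
      have hMeq : M = a ::ₘ a ::ₘ {c} := by rw [hM', hM'', hc]
      have haM : a ∈ M := by rw [hMeq]; simp
      rw [hMeq, Multiset.prod_cons, Multiset.prod_cons, Multiset.prod_singleton] at hM1
      haveI : CharP K p := charP_of_injective_algebraMap (algebraMap F K).injective p
      have hp2 := (Fact.out : p.Prime).two_le
      rw [hMeq] at hprod
      simp only [Multiset.map_cons, Multiset.map_singleton, Multiset.prod_cons, Multiset.prod_singleton] at hprod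
      by_cases hac : a = c
      · subst hac
        have ha3 : a ^ 3 = 1 := by rw [← hM1]; ring
        have had : a ^ d = 1 := pow_gcd_eq_one.2 ⟨ha3, hn1 a haM⟩
        rcases eq_or_ne p 2 with hp | hp
        · right; right; right; right
          refine ⟨hp, hfin (w := a ^ 4) (by rw [← pow_mul, mul_comm, pow_mul, had, one_pow]) ?_⟩
          subst hp
          refine ⟨X - Polynomial.C a, ?_⟩
          rw [hprod, show (4 : ℕ) = 2 ^ 2 from rfl, map_pow, ← sub_pow_char_pow]
          ring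
        · right; right; right; left
          have hpd : p ∣ p * (q - 1) / d := by
            rw [Nat.mul_div_assoc p hd1]; exact dvd_mul_right _ _
          refine dvd_trans (hfin (w := a ^ p) (by rw [← pow_mul, mul_comm, pow_mul, had, one_pow]) ?_) hpd
          refine ⟨(X - Polynomial.C a) ^ (p - 3), ?_⟩
          rw [hprod, map_pow, ← sub_pow_char]
          rw [show (X - Polynomial.C a) * ((X - Polynomial.C a) * (X - Polynomial.C a)) = (X - Polynomial.C a) ^ 3 by ring,
            ← pow_add]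
          congr 1
          omega
      · right; right; right; left
        obtain ⟨k, hk⟩ := hd1
        have hk0 : 0 < k := by rcases Nat.eq_zero_or_pos k with rfl | h <;> omega
        have hkd : (q - 1) / d = k := by rw [hk, Nat.mul_div_cancel_left _ hd0]
        have ha3 : a ^ k * (a ^ k * a ^ k) = 1 := by
          rw [← pow_add, ← pow_add, show k + (k + k) = 3 * k by omega, show 3 * k = (q - 1) * e by rw [hk, he]; ring,
            pow_mul, hn1 a haM, one_pow]
        have hck : c ^ k = a ^ k := by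
          have h := congrArg (· ^ k) hM1
          simp only [mul_pow, one_pow] at h
          have ha0 := (hU a haM).1
          exact mul_left_cancel₀ (pow_ne_zero k ha0) (mul_left_cancel₀ (pow_ne_zero k ha0) (h.trans ha3.symm))
        rw [Nat.mul_div_assoc p (Nat.gcd_dvd_right 3 (q - 1)), hkd]
        have hwd : ((a ^ k) ^ p) ^ d = 1 := by
          rw [← pow_mul, ← pow_mul, show k * (p * d) = (q - 1) * p by rw [hk]; ring, pow_mul, hn1 a haM, one_pow]
        refine hfin hwd ?_
        have hdv : (X - Polynomial.C a) * (X - Polynomial.C c) ∣ X ^ k - Polynomial.C (a ^ k) := by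
          have := prod_dvd_sub (M := {a, c}) (by simp [hac]) hk0 (w := a ^ k) (by simp [hck])
          simpa using this
        rw [mul_comm p k, pow_mul, map_pow, ← sub_pow_char, hprod]
        refine Dvd.dvd.trans ?_ ((pow_dvd_pow_of_dvd hdv 2).trans (pow_dvd_pow _ hp2))
        exact ⟨X - Polynomial.C c, by ring⟩
  · push Not at hall
    obtain ⟨a, haM, hab⟩ := hall
    obtain ⟨hbM, hcM⟩ : a ^ q ∈ M ∧ (a ^ q) ^ q ∈ M := ⟨(hU a haM).2, (hU _ (hU a haM).2).2⟩
    set b := a ^ q with hb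
    set c := b ^ q with hc
    have hbc : b ≠ c := fun h => hab (hUinj b a (by rw [← hc, ← h, hb])).symm.symm
    by_cases hca : c = a
    · right; left
      obtain ⟨e3, hes, heM⟩ : ∃ e3, M = {a, b, e3} ∧ e3 ∈ M := by
        obtain ⟨M', hM'⟩ := Multiset.exists_cons_of_mem haM
        have hb' : b ∈ M' := by rw [hM'] at hbM; exact (Multiset.mem_cons.1 hbM).resolve_left hab
        obtain ⟨M'', hM''⟩ := Multiset.exists_cons_of_mem hb'
        obtain ⟨c', hc'⟩ := Multiset.card_eq_one.1 (show M''.card = 1 by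
          rw [hM', hM'', Multiset.card_cons, Multiset.card_cons] at hcard; omega)
        exact ⟨c', by rw [hM', hM'', hc']; rfl, by rw [hM', hM'', hc']; simp⟩
      have hp1 : a * (b * e3) = 1 := by simpa [hes] using hM1
      have hq2 : q + 1 ≤ q ^ 2 := by nlinarith
      have ha0 := (hU a haM).1
      have hord : a ^ (q ^ 2 - 1) = 1 := by
        have h : a ^ (q ^ 2) = a := by rw [pow_two, pow_mul]; exact hca
        rw [show q ^ 2 = q ^ 2 - 1 + 1 by omega, pow_succ] at h
        exact mul_right_cancel₀ ha0 (h.trans (one_mul a).symm)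
      obtain ⟨k, hk⟩ : d ∣ q ^ 2 - 1 := by
        refine hd1.trans ?_
        exact ⟨q + 1, by rw [show q ^ 2 - 1 = (q + 1) * (q - 1) by simpa using Nat.sq_sub_sq q 1, mul_comm]⟩
      have hk0 : 0 < k := by rcases Nat.eq_zero_or_pos k with rfl | h <;> omega
      rw [hk, Nat.mul_div_cancel_left _ hd0]
      have hwd : (a ^ k) ^ d = 1 := by rw [← pow_mul, mul_comm, ← hk]; exact hord
      have hwq : (a ^ k) ^ (q - 1) = 1 := by
        obtain ⟨l, hl⟩ := hd1
        rw [hl, pow_mul, hwd, one_pow]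
      have hbk : b ^ k = a ^ k := by
        rw [hb, ← pow_mul, mul_comm, pow_mul, show q = q - 1 + 1 by omega, pow_succ, hwq, one_mul]
      have hek : e3 ^ k = a ^ k := by
        have h3 : a ^ k * (a ^ k * a ^ k) = 1 := by
          rw [show a ^ k * (a ^ k * a ^ k) = (a ^ k) ^ 3 by ring, he, pow_mul, hwd, one_pow]
        have h := congrArg (· ^ k) hp1
        simp only [mul_pow, one_pow, hbk] at h
        exact mul_left_cancel₀ (pow_ne_zero k ha0) (mul_left_cancel₀ (pow_ne_zero k ha0) (h.trans h3.symm))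
      -- the third root is fixed, hence different
      have hfix : e3 ^ q = e3 := by
        have h := congrArg (· ^ q) hp1
        simp only [mul_pow, one_pow, ← hb, ← hc, hca] at h
        have h' : a * (b * e3 ^ q) = a * (b * e3) := by rw [hp1, ← h]; ring
        exact mul_left_cancel₀ (hU b hbM).1 (mul_left_cancel₀ ha0 h')
      have hea : a ≠ e3 := fun h => hab (by rw [hb, h]; exact hfix)
      have heb : b ≠ e3 := fun h => hbc (by rw [hc, h, hfix])
      refine hfin hwd (hprod ▸ prod_dvd_sub ?_ hk0 ?_)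
      · rw [hes]; simp [Ne.symm hab, hea, heb]
      · rw [hes]; simp [hbk, hek]
    · left
      have hM3 : M = {a, b, c} := eq_of_three hcard haM hbM hcM (Ne.symm hab) (Ne.symm hca) hbc
      have hp1 : a * (b * c) = 1 := by simpa [hM3] using hM1
      have hord : a ^ (q ^ 2 + q + 1) = 1 := by
        rw [← hp1, hc, hb, ← pow_mul, pow_succ, pow_add, pow_two]; ring
      obtain ⟨k, hk⟩ := dvd_geom_three (F := F)
      rw [hk, Nat.mul_div_cancel_left _ hd0]
      have hk0 : 0 < k := by rcases Nat.eq_zero_or_pos k with rfl | h <;> omega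
      have hwd : (a ^ k) ^ d = 1 := by rw [← pow_mul, mul_comm, hd, ← hk]; exact hord
      have hwq : (a ^ k) ^ q = a ^ k := by
        obtain ⟨l, hl⟩ := hd1
        rw [show q = q - 1 + 1 by omega, pow_succ, hl, pow_mul, hwd, one_pow, one_mul]
      have hbk : b ^ k = a ^ k := by rw [hb, ← pow_mul, mul_comm, pow_mul, hwq]
      have hck : c ^ k = a ^ k := by rw [hc, ← pow_mul, mul_comm, pow_mul, hbk, hwq]
      refine hfin hwd (hprod ▸ prod_dvd_sub ?_ hk0 ?_)
      · rw [hM3]; simp [Ne.symm hab, Ne.symm hca, hbc]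
      · rw [hM3]; simp [hbk, hck]

theorem exists_of_dvd {G : Type*} [Group G] [Finite G] (x : G) {s : ℕ} (h : s ∣ orderOf x) :
    ∃ y : G, orderOf y = s :=
  ⟨x ^ (orderOf x / s), orderOf_pow_orderOf_div (orderOf_pos x).ne' h⟩

/-- Singer -/
theorem exists_singer (p : ℕ) [Fact p.Prime] [CharP F p] :
    ∃ x : PS3, (q ^ 2 + q + 1) / Nat.gcd 3 (q - 1) ∣ orderOf x := by
  obtain ⟨u, hu⟩ := SpectrumPSL61.exists_singer (F := F) (n := 3) (by norm_num) (p := p)
  have e : SpectrumPSL61.geom q 3 = q ^ 2 + q + 1 := by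
    simp [SpectrumPSL61.geom, Finset.sum_range_succ]; ring
  exact ⟨_, e ▸ hu⟩

theorem exists_two_torus (p : ℕ) [Fact p.Prime] [CharP F p] :
    ∃ x : PS3, (q ^ 2 - 1) / Nat.gcd 3 (q - 1) ∣ orderOf x := by
  classical
  let K := FiniteField.Extension F p 2
  haveI : Finite K := Module.finite_of_finite F
  have b := Module.finBasisOfFinrankEq F K (FiniteField.finrank_extension F p 2)
  obtain ⟨x, hx⟩ := IsCyclic.exists_ofOrder_eq_natCard (α := Kˣ)
  have hcard : orderOf x = q ^ 2 - 1 := by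
    rw [hx, Nat.card_units, FiniteField.natCard_extension, Nat.card_eq_fintype_card]
  let A := Algebra.leftMulMatrix b (x : K)
  have hA0 : A.det ≠ 0 := by
    show (Algebra.leftMulMatrix b (x : K)).det ≠ 0
    rw [← Algebra.norm_eq_matrix_det b]
    exact Algebra.norm_ne_zero_iff.2 x.ne_zero
  let B : Matrix (Fin 2 ⊕ Fin 1) (Fin 2 ⊕ Fin 1) F := Matrix.fromBlocks A 0 0 (Matrix.diagonal fun _ => A.det⁻¹)
  have hdet : (Matrix.reindexAlgEquiv F F finSumFinEquiv B).det = 1 := by
    rw [Matrix.coe_reindexAlgEquiv, Matrix.det_reindex_self]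
    simp only [B, Matrix.det_fromBlocks_zero₂₁, Matrix.det_diagonal]
    simp [mul_inv_cancel₀ hA0]
  let g : SL3 := ⟨Matrix.reindexAlgEquiv F F finSumFinEquiv B, hdet⟩
  refine ⟨g, ?_⟩
  set k := orderOf ((g : SL3) : PS3)
  have h := pow_orderOf_eq_one ((g : SL3) : PS3)
  rw [← QuotientGroup.mk_pow, mk_eq_one] at h
  obtain ⟨a, ha3, ha⟩ := h
  rw [Matrix.SpecialLinearGroup.coe_pow] at ha
  change (Matrix.reindexAlgEquiv F F finSumFinEquiv B) ^ k = a • 1 at ha
  rw [← map_pow, ← map_one (Matrix.reindexAlgEquiv F F finSumFinEquiv), ← map_smul] at ha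
  have ha' := (Matrix.reindexAlgEquiv F F (finSumFinEquiv : Fin 2 ⊕ Fin 1 ≃ Fin 3)).injective ha
  have hpow : ∀ j : ℕ, B ^ j = Matrix.fromBlocks (A ^ j) 0 0 (Matrix.diagonal fun _ => A.det⁻¹ ^ j) := by
    intro j
    induction j with
    | zero => simp
    | succ j ih => simp [pow_succ, ih, B, Matrix.fromBlocks_multiply]
  rw [hpow, ← Matrix.fromBlocks_one, Matrix.fromBlocks_smul, Matrix.fromBlocks_inj] at ha'
  have hxk : (x : K) ^ k = algebraMap F K a := by
    apply Algebra.leftMulMatrix_injective b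
    rw [AlgHom.commutes, map_pow, Algebra.algebraMap_eq_smul_one]
    exact ha'.1
  have ha0 : a ≠ 0 := fun h0 => by rw [h0] at ha3; simp at ha3
  have had : a ^ Nat.gcd 3 (q - 1) = 1 := pow_gcd_eq_one.2 ⟨ha3, FiniteField.pow_card_sub_one_eq_one a ha0⟩
  have hdvd : q ^ 2 - 1 ∣ k * Nat.gcd 3 (q - 1) := by
    rw [← hcard]
    refine orderOf_dvd_of_pow_eq_one (Units.ext ?_)
    rw [Units.val_pow_eq_pow_val, pow_mul, hxk, ← map_pow, had, map_one, Units.val_one]
  have hd2 : Nat.gcd 3 (q - 1) ∣ q ^ 2 - 1 := (Nat.gcd_dvd_right _ _).trans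
    ⟨q + 1, by rw [show q ^ 2 - 1 = (q + 1) * (q - 1) by simpa using Nat.sq_sub_sq q 1, mul_comm]⟩
  exact (Nat.div_dvd_iff_dvd_mul hd2 (Nat.gcd_pos_of_pos_left _ (by norm_num))).2 (by rwa [mul_comm])

theorem exists_split : ∃ x : PS3, q - 1 ∣ orderOf x := by
  classical
  obtain ⟨u, hu⟩ := IsCyclic.exists_ofOrder_eq_natCard (α := Fˣ)
  have hord : orderOf u = q - 1 := by rw [hu, Nat.card_eq_fintype_card, Fintype.card_units]
  let g : SL3 := ⟨Matrix.diagonal ![(u : F), (u : F)⁻¹, 1], by simp [Fin.prod_univ_three]⟩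
  refine ⟨g, ?_⟩
  have h := pow_orderOf_eq_one ((g : SL3) : PS3)
  rw [← QuotientGroup.mk_pow, mk_eq_one] at h
  obtain ⟨a, -, ha⟩ := h
  rw [Matrix.SpecialLinearGroup.coe_pow] at ha
  change (Matrix.diagonal ![(u : F), (u : F)⁻¹, 1]) ^ _ = a • 1 at ha
  rw [Matrix.diagonal_pow, Matrix.smul_one_eq_diagonal, Matrix.diagonal_eq_diagonal_iff] at ha
  have h0 := ha 0
  have h2 := ha 2
  simp at h0 h2
  rw [← hord]
  exact orderOf_dvd_of_pow_eq_one (Units.ext (by simp [h0, ← h2]))

theorem exists_mixed (p : ℕ) [Fact p.Prime] [CharP F p] :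
    ∃ x : PS3, p * (q - 1) / Nat.gcd 3 (q - 1) ∣ orderOf x := by
  classical
  obtain ⟨u, hu⟩ := IsCyclic.exists_ofOrder_eq_natCard (α := Fˣ)
  have hord : orderOf u = q - 1 := by rw [hu, Nat.card_eq_fintype_card, Fintype.card_units]
  have hu0 : (u : F) ≠ 0 := u.ne_zero
  let N : Matrix (Fin 3) (Fin 3) F := !![(u : F), 1, 0; 0, (u : F), 0; 0, 0, ((u : F)⁻¹) ^ 2]
  have hdet : N.det = 1 := by
    simp only [N, Matrix.det_fin_three]; simp; field_simp
  let g : SL3 := ⟨N, hdet⟩
  have hpow : ∀ j : ℕ, N ^ j = !![(u : F) ^ j, (j : F) * (u : F) ^ j / (u : F), 0; 0, (u : F) ^ j, 0; 0, 0, (((u : F)⁻¹) ^ 2) ^ j] := by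
    intro j
    induction j with
    | zero => simp [Matrix.one_fin_three]
    | succ j ih =>
      rw [pow_succ, ih]
      ext i l
      fin_cases i <;> fin_cases l <;> simp [N, Matrix.mul_apply, Fin.sum_univ_three, pow_succ] <;> field_simp <;> ring
  refine ⟨g, ?_⟩
  set k := orderOf ((g : SL3) : PS3)
  have h := pow_orderOf_eq_one ((g : SL3) : PS3)
  rw [← QuotientGroup.mk_pow, mk_eq_one] at h
  obtain ⟨a, ha3, ha⟩ := h
  rw [Matrix.SpecialLinearGroup.coe_pow] at ha
  change N ^ k = a • 1 at ha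
  rw [hpow] at ha
  have h00 := congrFun (congrFun ha 0) 0
  have h01 := congrFun (congrFun ha 0) 1
  simp at h00 h01
  have hk : (k : F) = 0 := by
    simpa [hu0] using h01
  have hpk : p ∣ k := (CharP.cast_eq_zero_iff F p k).1 hk
  have ha0 : a ≠ 0 := fun h0 => by rw [h0] at ha3; simp at ha3
  have had : a ^ Nat.gcd 3 (q - 1) = 1 := pow_gcd_eq_one.2 ⟨ha3, FiniteField.pow_card_sub_one_eq_one a ha0⟩
  have hdvd : q - 1 ∣ k * Nat.gcd 3 (q - 1) := by
    rw [← hord] at had ⊢
    refine orderOf_dvd_of_pow_eq_one (Units.ext ?_)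
    rw [Units.val_pow_eq_pow_val, pow_mul, h00, had, Units.val_one]
  have hd0 : 0 < Nat.gcd 3 (q - 1) := Nat.gcd_pos_of_pos_left _ (by norm_num)
  have hq1 : (q - 1) / Nat.gcd 3 (q - 1) ∣ k :=
    (Nat.div_dvd_iff_dvd_mul (Nat.gcd_dvd_right _ _) hd0).2 (by rwa [mul_comm])
  rw [Nat.mul_div_assoc p (Nat.gcd_dvd_right _ _)]
  refine Nat.Coprime.mul_dvd_of_dvd_of_dvd ?_ hpk hq1
  refine ((Fact.out : p.Prime).coprime_iff_not_dvd.2 fun hdv => ?_)
  have hpq : p ∣ q - 1 := hdv.trans (Nat.div_dvd_of_dvd (Nat.gcd_dvd_right _ _))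
  obtain ⟨n, -, hn⟩ := FiniteField.card F p
  have hpn : p ∣ q := hn ▸ dvd_pow_self p n.ne_zero
  have := Nat.dvd_sub hpn hpq
  rw [Nat.sub_sub_self (Nat.le_of_lt q_two)] at this
  exact (Fact.out : p.Prime).one_lt.ne' (Nat.dvd_one.1 this)

theorem exists_four [CharP F 2] : ∃ x : PS3, 4 ∣ orderOf x := by
  classical
  let N : Matrix (Fin 3) (Fin 3) F := !![1, 1, 0; 0, 1, 1; 0, 0, 1]
  let g : SL3 := ⟨N, by simp [N, Matrix.det_fin_three]⟩
  have h2 : N ^ 2 = !![1, 0, 1; 0, 1, 0; 0, 0, 1] := by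
    have h : (1 : F) + 1 = 0 := CharTwo.add_self_eq_zero 1
    ext i l
    fin_cases i <;> fin_cases l <;> simp [N, pow_two, Matrix.mul_apply, Fin.sum_univ_three, h]
  have h4 : N ^ 4 = 1 := by
    have h : (1 : F) + 1 = 0 := CharTwo.add_self_eq_zero 1
    rw [show (4 : ℕ) = 2 + 2 from rfl, pow_add, h2]
    ext i l
    fin_cases i <;> fin_cases l <;> simp [Matrix.mul_apply, Fin.sum_univ_three, h]
  haveI : Fact (Nat.Prime 2) := ⟨Nat.prime_two⟩
  refine ⟨g, dvd_of_eq (Eq.symm (?_ : _ = 2 ^ (1 + 1)))⟩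
  refine orderOf_eq_prime_pow (fun h => ?_) ?_
  · rw [← QuotientGroup.mk_pow, mk_eq_one] at h
    obtain ⟨a, -, ha⟩ := h
    rw [Matrix.SpecialLinearGroup.coe_pow, pow_one] at ha
    change N ^ 2 = a • 1 at ha
    rw [h2] at ha
    have := congrFun (congrFun ha 0) 2
    simp at this
  · rw [← QuotientGroup.mk_pow, mk_eq_one]
    refine ⟨1, one_pow _, ?_⟩
    rw [Matrix.SpecialLinearGroup.coe_pow, one_smul]
    exact h4

end Cfsg.Agent.SpectrumPSL53
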