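import Mathlib
import Cfsg.Agent.Lib.EppoGroup4
import Cfsg.Agent.Lib.EppoSimple4
import Cfsg.Agent.Lib.PSLCard
import Cfsg.Agent.Lib.SpectrumPSL53
import Cfsg.Agent.Lib.KleinFourSimple54
import Cfsg.Agent.S1475

/-!
# Groups with all elements of prime power order have at most four prime divisors
-/

set_option autoImplicit false
set_option linter.unusedSectionVars false
set_option linter.style.haveILetI false

namespace Cfsg.Agent.EppoFour4

open Cfsg.Agent.S3992 Cfsg.Agent.EppoSimple4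

universe u

theorem card_primeFactors_le {n k : ℕ} (s : Finset ℕ) (hs : ∀ q ∈ s, q.Prime)
    (h : n ∣ (∏ q ∈ s, q) ^ k) : n.primeFactors.card ≤ s.card := by
  refine Finset.card_le_card fun p hp => ?_
  obtain ⟨hp1, hp2, -⟩ := Nat.mem_primeFactors.1 hp
  obtain ⟨q, hq, hpq⟩ := (hp1.prime.dvd_finset_prod_iff _).1 (hp1.dvd_of_dvd_pow (hp2.trans h))
  rwa [(Nat.prime_dvd_prime_iff_eq hp1 (hs q hq)).1 hpq]

theorem factorization_one {n p c : ℕ} (hp : p.Prime) (h : n = p * c) (hc : ¬ p ∣ c) :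
    n.factorization p = 1 := by
  have hc0 : c ≠ 0 := fun e => hc (e ▸ dvd_zero p)
  rw [h, Nat.factorization_mul hp.ne_zero hc0, Finsupp.add_apply, hp.factorization_self,
    Nat.factorization_eq_zero_of_not_dvd hc]

variable {M : Type u} [Group M] [Finite M]

theorem card_psl34 {F : Type} [Field F] [Fintype F] (hF : Fintype.card F = 4)
    (e : M ≃* Matrix.ProjectiveSpecialLinearGroup (Fin 3) F) : Nat.card M = 20160 := by
  rw [Nat.card_congr e.toEquiv]
  have h1 := PSLCard.card_SL (F := F) 3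
  have h2 := PSLCard.card_PSL_mul (F := F) 3
  rw [Nat.card_eq_fintype_card (α := F), hF, Fin.prod_univ_three] at h1
  rw [Nat.card_eq_fintype_card (α := F), hF] at h2
  norm_num at h1 h2
  omega

theorem card_sz {F : Type} [Field F] [Fintype F] {m : ℕ} (hm : 1 ≤ m)
    (hF : Fintype.card F = 2 ^ (2 * m + 1)) {e : ℕ} (he : e = 2 ^ (m + 1))
    (f : M ≃* ↥(Cfsg.Lie.Sz F e)) : Nat.card M =
      (2 ^ (2 * m + 1)) ^ 2 * ((2 ^ (2 * m + 1)) ^ 2 + 1) * (2 ^ (2 * m + 1) - 1) := by
  subst he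
  haveI : SuzukiGroupBasic.Param F m := SuzukiGroupBasic.Param.mk' hm hF
  rw [Nat.card_congr (f.trans SuzukiGroupLie.lieEquiv).toEquiv,
    SuzukiGroupStructure.natCard_Sz]

theorem isSolvable_sup_normal {G : Type*} [Group G] {H K : Subgroup G} [H.Normal]
    (hH : Group.IsSolvable H) (hK : Group.IsSolvable K) :
    Group.IsSolvable (H ⊔ K : Subgroup G) := by
  haveI := hH
  haveI := hK
  haveI : Group.IsSolvable ((H ⊔ K).map (QuotientGroup.mk' H)) := by
    rw [Subgroup.map_sup, QuotientGroup.map_mk'_self, bot_sup_eq]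
    exact Group.isSolvable_of_surjective ((QuotientGroup.mk' H).subgroupMap_surjective K)
  refine Group.isSolvable_of_ker_le_range (Subgroup.inclusion (le_sup_left : H ≤ H ⊔ K))
    ((QuotientGroup.mk' H).subgroupMap (H ⊔ K)) fun z hz => ?_
  exact ⟨⟨z.1, (QuotientGroup.eq_one_iff _).1 (congrArg Subtype.val hz)⟩, rfl⟩

/-- The three groups with four prime divisors. -/
theorem list_cases (h : EppoList M) :
    Even (Nat.card M) ∧ ((Nat.card M).primeFactors.card ≤ 3 ∨
    ((Nat.card M).primeFactors.card ≤ 4 ∧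
      ((∃ (F : Type) (_ : Field F) (_ : Fintype F), Fintype.card F = 4 ∧
          Nonempty (M ≃* Matrix.ProjectiveSpecialLinearGroup (Fin 3) F) ∧ Nat.card M = 20160) ∨
        (∃ (F : Type) (_ : Field F) (_ : Fintype F),
          (Fintype.card F = 8 ∧ Nonempty (M ≃* ↥(Cfsg.Lie.Sz F 4)) ∧ Nat.card M = 29120) ∨
          (Fintype.card F = 32 ∧ Nonempty (M ≃* ↥(Cfsg.Lie.Sz F 8)) ∧ Nat.card M = 32537600))))) := by
  rcases h with ⟨⟨e⟩⟩ | ⟨F, iF, iFF, hq, ⟨e⟩⟩ | ⟨F, iF, iFF, hF, ⟨e⟩⟩ | ⟨F, iF, iFF, ⟨hF, ⟨e⟩⟩ | ⟨hF, ⟨e⟩⟩⟩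
  · have hc : Nat.card M = 360 := by
      rw [Nat.card_congr e.toEquiv, nat_card_alternatingGroup]
      simp
      rfl
    rw [hc]
    exact ⟨⟨180, rfl⟩, Or.inl (card_primeFactors_le (k := 3) {2, 3, 5}
      (by norm_num) (by norm_num))⟩
  · have hc : Nat.card M = Fintype.card F * (Fintype.card F ^ 2 - 1) /
        Nat.gcd 2 (Fintype.card F - 1) := by
      rw [Nat.card_congr e.toEquiv, PSLCard.card_PSL2, Nat.card_eq_fintype_card (α := F)]
    simp only [Finset.mem_insert, Finset.mem_singleton] at hq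
    rcases hq with hq | hq | hq | hq <;> rw [hq] at hc <;> norm_num at hc <;> rw [hc]
    · exact ⟨⟨30, rfl⟩, Or.inl (card_primeFactors_le (k := 3) {2, 3, 5} (by norm_num) (by norm_num))⟩
    · exact ⟨⟨84, rfl⟩, Or.inl (card_primeFactors_le (k := 3) {2, 3, 7} (by norm_num) (by norm_num))⟩
    · exact ⟨⟨252, rfl⟩, Or.inl (card_primeFactors_le (k := 3) {2, 3, 7} (by norm_num) (by norm_num))⟩
    · exact ⟨⟨1224, rfl⟩, Or.inl (card_primeFactors_le (k := 4) {2, 3, 17} (by norm_num) (by norm_num))⟩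
  · have hc := card_psl34 hF e
    refine ⟨hc ▸ ⟨10080, rfl⟩, Or.inr ⟨?_, Or.inl ⟨F, iF, iFF, hF, ⟨e⟩, hc⟩⟩⟩
    rw [hc]
    exact card_primeFactors_le (k := 6) {2, 3, 5, 7} (by norm_num) (by norm_num)
  · have hc := card_sz (m := 1) le_rfl hF rfl e
    norm_num at hc
    refine ⟨hc ▸ ⟨14560, rfl⟩, Or.inr ⟨?_, Or.inr ⟨F, iF, iFF, Or.inl ⟨hF, ⟨e⟩, hc⟩⟩⟩⟩
    rw [hc]
    exact card_primeFactors_le (k := 6) {2, 5, 7, 13} (by norm_num) (by norm_num)
  · have hc := card_sz (m := 2) one_le_two hF rfl e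
    norm_num at hc
    refine ⟨hc ▸ ⟨16268800, rfl⟩, Or.inr ⟨?_, Or.inr ⟨F, iF, iFF, Or.inr ⟨hF, ⟨e⟩, hc⟩⟩⟩⟩
    rw [hc]
    exact card_primeFactors_le (k := 10) {2, 5, 31, 41} (by norm_num) (by norm_num)

/-- The Sylow `3`-subgroups of `PSL₃(4)` are not cyclic. -/
theorem not_cyclic_three {F : Type} [Field F] [Fintype F] (hF : Fintype.card F = 4)
    (e : M ≃* Matrix.ProjectiveSpecialLinearGroup (Fin 3) F) :
    ∃ P : Subgroup M, Nat.card P = 9 ∧ ¬ IsCyclic P := by
  haveI : Fact (Nat.Prime 3) := ⟨Nat.prime_three⟩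
  obtain ⟨P, hP⟩ := Sylow.exists_subgroup_card_pow_prime (G := M) 3 (n := 2)
    (by rw [card_psl34 hF e]; norm_num)
  refine ⟨P, by rw [hP]; norm_num, fun hc => ?_⟩
  obtain ⟨g, hg⟩ := IsCyclic.exists_generator (α := P)
  have h9 : orderOf g = 9 := by
    rw [orderOf_eq_card_of_forall_mem_zpowers hg, hP]; norm_num
  rw [← Subgroup.orderOf_coe, ← e.orderOf_eq] at h9
  obtain ⟨p, hchar, n, hp, hn⟩ := FiniteField.card' F
  have hp2 : p = 2 := by
    have hd : p ∣ 2 ^ 2 := by
      have : Fintype.card F = p ^ (n : ℕ) := hn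
      rw [hF] at this
      exact ⟨p ^ ((n : ℕ) - 1), by
        rw [← pow_succ', Nat.sub_add_cancel n.pos, ← this]; norm_num⟩
    exact (Nat.prime_dvd_prime_iff_eq hp Nat.prime_two).1 (hp.dvd_of_dvd_pow hd)
  subst hp2
  haveI : Fact (Nat.Prime 2) := ⟨Nat.prime_two⟩
  have := SpectrumPSL53.orderOf_cases (F := F) 2 (e g)
  rw [h9, hF] at this
  norm_num at this

variable {G : Type u} [Group G] [Finite G]

/-- At most four primes; exactly four only for `PSL₃(4)` and extensions of the Suzuki groups. -/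
theorem main (h : EPPO G)
    (hclass : ∀ (M : Type u) [Group M] [Finite M], IsSimpleGroup M → ¬ IsMulCommutative M →
      EPPO M → EppoList M) :
    (Nat.card G).primeFactors.card ≤ 4 ∧
    ((Nat.card G).primeFactors.card = 4 →
      (∃ (F : Type) (_ : Field F) (_ : Fintype F), Fintype.card F = 4 ∧
        Nonempty (G ≃* Matrix.ProjectiveSpecialLinearGroup (Fin 3) F)) ∨
      (∃ (N : Subgroup G) (_ : N.Normal), IsPGroup 2 ↥N ∧
        ∃ (F : Type) (_ : Field F) (_ : Fintype F),
          (Fintype.card F = 8 ∧ Nonempty (G ⧸ N ≃* ↥(Cfsg.Lie.Sz F 4))) ∨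
          (Fintype.card F = 32 ∧ Nonempty (G ⧸ N ≃* ↥(Cfsg.Lie.Sz F 8))))) := by
  classical
  by_cases hsol : Group.IsSolvable G
  · have h2 := Cfsg.Agent.S1475.result (G := G) fun g => (em (g = 1)).symm.imp_left (h g)
    exact ⟨by omega, fun h4 => absurd h2 (by omega)⟩
  -- the solvable radical
  obtain ⟨R, hRn, hRs, hRmax⟩ : ∃ R : Subgroup G, R.Normal ∧ Group.IsSolvable R ∧
      ∀ N : Subgroup G, N.Normal → Group.IsSolvable N → N ≤ R := by
    obtain ⟨R, ⟨hRn, hRs⟩, hmax⟩ := (Set.toFinite {N : Subgroup G | N.Normal ∧ Group.IsSolvable N}).exists_maximal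
      ⟨⊥, inferInstance, inferInstance⟩
    refine ⟨R, hRn, hRs, fun N hN hNs => ?_⟩
    haveI := hN
    haveI := hRn
    haveI := hNs
    haveI := hRs
    have : Group.IsSolvable (N ⊔ R : Subgroup G) := isSolvable_sup_normal hNs hRs
    exact le_sup_left.trans (hmax ⟨inferInstance, this⟩ le_sup_right)
  haveI := hRn
  obtain ⟨⟨p, hp, hRp⟩, ⟨M, hMn, hMs, hMna, -⟩, -⟩ := Cfsg.Agent.S3992.result hsol h R hRs hRmax
  haveI := hMn
  haveI := hMs
  haveI := Fact.mk hp
  have hQ : EPPO (G ⧸ R) := eppo_quotient h R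
  obtain ⟨heven, hlist⟩ := list_cases (hclass M hMs hMna (eppo_subgroup hQ M))
  haveI : Fact (Nat.Prime 2) := ⟨Nat.prime_two⟩
  -- a non-trivial radical is a `2`-group
  have hR2 : IsPGroup 2 R := by
    rcases eq_or_ne R ⊥ with hb | hb
    · rw [hb]; exact IsPGroup.of_bot
    obtain ⟨E, hE⟩ := KleinFourSimple54.exists_klein hMna (even_iff_two_dvd.1 heven)
    haveI := hE
    haveI : IsMulCommutative (E.map M.subtype) := by
      refine ⟨⟨fun a b => (E.equivMapOfInjective M.subtype (Subgroup.subtype_injective M)).symm.injective ?_⟩⟩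
      rw [map_mul, map_mul]
      exact IsKleinFour.isMulCommutative.is_comm.comm _ _
    have hncyc : ¬ IsCyclic (E.map M.subtype) := fun hc =>
      IsKleinFour.not_isCyclic ((E.equivMapOfInjective M.subtype (Subgroup.subtype_injective M)).isCyclic.2 hc)
    have := EppoGroup4.radical_prime h hb hRp (q := 2) (E.map M.subtype) hncyc (IsPGroup.of_card (n := 2) (by
      rw [Subgroup.card_map_of_injective (Subgroup.subtype_injective M), hE.card_four]; norm_num))
    exact this ▸ hRp
  -- the prime divisors are those of `M`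
  have hprimes : (Nat.card G).primeFactors ⊆ (Nat.card M).primeFactors := by
    intro l hl
    obtain ⟨hl1, hl2, -⟩ := Nat.mem_primeFactors.1 hl
    refine Nat.mem_primeFactors.2 ⟨hl1, ?_, Nat.card_pos.ne'⟩
    rw [Subgroup.card_eq_card_quotient_mul_card_subgroup R] at hl2
    rcases hl1.dvd_mul.1 hl2 with hd | hd
    · exact EppoGroup4.dvd_card_socle hQ M hMs hMna hl1 hd
    · obtain ⟨j, hj⟩ := hR2.exists_card_eq
      rw [hj] at hd
      rw [(Nat.prime_dvd_prime_iff_eq hl1 Nat.prime_two).1 (hl1.dvd_of_dvd_pow hd)]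
      exact even_iff_two_dvd.1 heven
  have hle := Finset.card_le_card hprimes
  rcases hlist with h3 | ⟨h4, hgroups⟩
  · exact ⟨by omega, fun he => absurd hle (by omega)⟩
  refine ⟨by omega, fun _ => ?_⟩
  rcases hgroups with ⟨F, iF, iFF, hF, ⟨e⟩, hc⟩ | ⟨F, iF, iFF, hsz⟩
  · left
    have hMtop : M = ⊤ := EppoGroup4.socle_eq_top hQ M hMs hMna (p := 7) (r := 5) (by norm_num)
      (by norm_num) (Nat.squarefree_iff_prime_squarefree.2 fun x hx hd => by
        have h7 := Nat.le_of_dvd (by norm_num) hd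
        have := hx.two_le
        have hx3 : x ≤ 2 := by nlinarith
        interval_cases x
        norm_num at hd)
      (by rw [hc]; exact factorization_one (c := 2880) (by norm_num) rfl (by norm_num))
      (by rw [hc]; exact factorization_one (c := 4032) (by norm_num) rfl (by norm_num))
      (by norm_num) (by norm_num)
    have hRbot : R = ⊥ := by
      by_contra hb
      obtain ⟨P, hP, hPc⟩ := not_cyclic_three hF e
      haveI : Fact (Nat.Prime 3) := ⟨Nat.prime_three⟩
      have hP9 : Nat.card (P.map M.subtype) = 3 ^ 2 := by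
        rw [Subgroup.card_map_of_injective (Subgroup.subtype_injective M), hP]; norm_num
      haveI : IsMulCommutative (P.map M.subtype) :=
        ⟨⟨IsPGroup.commutative_of_card_eq_prime_sq hP9⟩⟩
      have := EppoGroup4.radical_prime h hb hR2 (q := 3) (P.map M.subtype) (fun hc' =>
        hPc ((P.equivMapOfInjective M.subtype (Subgroup.subtype_injective M)).isCyclic.2 hc'))
        (IsPGroup.of_card hP9)
      omega
    exact ⟨F, iF, iFF, hF, ⟨((QuotientGroup.quotientBot.symm.trans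
      (QuotientGroup.quotientMulEquivOfEq hRbot.symm)).trans Subgroup.topEquiv.symm).trans
      ((MulEquiv.subgroupCongr hMtop.symm).trans e)⟩⟩
  · right
    refine ⟨R, hRn, hR2, F, iF, iFF, ?_⟩
    rcases hsz with ⟨hF, ⟨e⟩, hc⟩ | ⟨hF, ⟨e⟩, hc⟩
    · have hMtop : M = ⊤ := EppoGroup4.socle_eq_top hQ M hMs hMna (p := 7) (r := 13) (by norm_num)
        (by norm_num) (Nat.squarefree_iff_prime_squarefree.2 fun x hx hd => by
          have h7 := Nat.le_of_dvd (by norm_num) hd
          have := hx.two_le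
          have hx3 : x ≤ 2 := by nlinarith
          interval_cases x
          norm_num at hd)
        (by rw [hc]; exact factorization_one (c := 4160) (by norm_num) rfl (by norm_num))
        (by rw [hc]; exact factorization_one (c := 2240) (by norm_num) rfl (by norm_num))
        (by norm_num) (by norm_num)
      exact Or.inl ⟨hF, ⟨Subgroup.topEquiv.symm.trans ((MulEquiv.subgroupCongr hMtop.symm).trans e)⟩⟩
    · have hMtop : M = ⊤ := EppoGroup4.socle_eq_top hQ M hMs hMna (p := 31) (r := 41) (by norm_num)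
        (by norm_num) (Nat.squarefree_iff_prime_squarefree.2 fun x hx hd => by
          have h7 := Nat.le_of_dvd (by norm_num) hd
          have := hx.two_le
          have hx3 : x ≤ 5 := by nlinarith
          interval_cases x <;> norm_num at hd)
        (by rw [hc]; exact factorization_one (c := 1049600) (by norm_num) rfl (by norm_num))
        (by rw [hc]; exact factorization_one (c := 793600) (by norm_num) rfl (by norm_num))
        (by norm_num) (by norm_num)
      exact Or.inr ⟨hF, ⟨Subgroup.topEquiv.symm.trans ((MulEquiv.subgroupCongr hMtop.symm).trans e)⟩⟩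

end Cfsg.Agent.EppoFour4
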