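import Mathlib
import Cfsg.Agent.Lib.SignalizerStrongEmb
import Cfsg.Agent.S1229

/-!
Groups with an elementary abelian Sylow `2`-subgroup `P`, `C(t) = C(P) = P × D` for all involutions
`t ∈ P`, `|N(P) : C(P)| = r = |P| - 1` prime, and no dihedral subgroup meeting the primes of `|D|`.
-/

set_option autoImplicit false

namespace Cfsg.Agent.EqOrderConj59

open Cfsg.Agent.SignalizerStrongEmb

variable {G : Type*} [Group G]

/-- The normalizer. -/
abbrev NN (P : Subgroup G) : Subgroup G := Subgroup.normalizer (P : Set G)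

/-- The centralizer. -/
abbrev CC (P : Subgroup G) : Subgroup G := Subgroup.centralizer (P : Set G)

theorem mem_CC {P : Subgroup G} {x : G} : x ∈ CC P ↔ ∀ a ∈ P, a * x = x * a :=
  Subgroup.mem_centralizer_iff

theorem mem_NN [Finite G] {P : Subgroup G} {x : G} : x ∈ NN P ↔ ∀ a ∈ P, x * a * x⁻¹ ∈ P := by
  refine ⟨fun hx a ha => (Subgroup.mem_normalizer_iff.1 hx a).1 ha, fun h => ?_⟩
  let f : P → P := fun a => ⟨x * a * x⁻¹, h a a.2⟩
  have hf : Function.Injective f := fun a b hab => by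
    have := congrArg Subtype.val hab
    exact Subtype.ext (mul_left_cancel (mul_right_cancel this))
  refine Subgroup.mem_normalizer_iff.2 fun a => ⟨h a, fun ha => ?_⟩
  obtain ⟨b, hb⟩ := Finite.surjective_of_injective hf ⟨_, ha⟩
  have := congrArg Subtype.val hb
  rw [← mul_left_cancel (mul_right_cancel this)]
  exact b.2

theorem CC_le_NN [Finite G] (P : Subgroup G) : CC P ≤ NN P := fun x hx =>
  mem_NN.2 fun a ha => by rwa [← mem_CC.1 hx a ha, mul_inv_cancel_right]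

/-- `g₀`-formula for the transfer. -/
theorem transfer_eq_map_pow {A : Type*} [CommGroup A] {H : Subgroup G} [H.FiniteIndex] (ψ : H →* A)
    {g : G} (hg : g ∈ H)
    (key : ∀ (k : ℕ) (g₀ : G) (hk : g₀⁻¹ * g ^ k * g₀ ∈ H),
      ψ ⟨g₀⁻¹ * g ^ k * g₀, hk⟩ = ψ ⟨g ^ k, pow_mem hg k⟩) :
    MonoidHom.transfer ψ g = ψ ⟨g, hg⟩ ^ H.index := by
  classical
  let := H.fintypeQuotientOfFiniteIndex
  rw [MonoidHom.transfer_eq_prod_quotient_orbitRel_zpowers_quot, Subgroup.index_eq_sum_minimalPeriod H g,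
    ← Finset.prod_pow_eq_pow_sum]
  refine Finset.prod_congr rfl fun q _ => ?_
  rw [key]
  exact map_pow ψ ⟨g, hg⟩ _

/-- An element of odd order squaring to `1` is `1`. -/
theorem eq_one_of_odd_sq {x : G} (ho : Odd (orderOf x)) (h : x * x = 1) : x = 1 := by
  have h2 : orderOf x ∣ 2 := orderOf_dvd_of_pow_eq_one (by rw [pow_two, h])
  exact orderOf_eq_one_iff.1 (Nat.eq_one_of_dvd_coprimes (Nat.coprime_two_right.2 ho) dvd_rfl h2)

theorem odd_orderOf_of_mem [Finite G] {N : Subgroup G} (hN : Odd (Nat.card N)) {x : G} (hx : x ∈ N) :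
    Odd (orderOf x) :=
  hN.of_dvd_nat (Subgroup.orderOf_dvd_natCard N hx)

/-- The standing hypotheses. -/
structure Hyp (P D : Subgroup G) (r : ℕ) : Prop where
  two : IsPGroup 2 P
  oddIdx : Odd P.index
  comm : ∀ a ∈ P, ∀ b ∈ P, a * b = b * a
  sq : ∀ a ∈ P, a * a = 1
  cardP : Nat.card P = r + 1
  prime : r.Prime
  three : 3 ≤ r
  nn : NN P ≠ ⊤
  cent : ∀ t ∈ P, t ≠ 1 → ∀ c : G, c * t = t * c → c ∈ CC P
  memD : ∀ c : G, c ∈ D ↔ c ∈ CC P ∧ Odd (orderOf c)
  powr : ∀ x ∈ NN P, x ^ r ∈ CC P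
  gen : ∀ x ∈ NN P, x ∉ CC P → ∀ y ∈ NN P, ∃ i : ℕ, y * x ^ i ∈ CC P
  noinv : ∀ s s' : G, orderOf s = 2 → orderOf s' = 2 → (orderOf (s * s')).Coprime (Nat.card D)
  abSyl : ∀ p : ℕ, p.Prime → ∀ A : Subgroup G, A ≤ D → IsPGroup p A →
    ∀ a ∈ A, ∀ b ∈ A, a * b = b * a

namespace Hyp

variable [Finite G] {P D : Subgroup G} {r : ℕ} (h : Hyp P D r)
include h

theorem orderOf_mem {t : G} (ht : t ∈ P) (h1 : t ≠ 1) : orderOf t = 2 :=
  orderOf_eq_two_of_mul_self (h.sq t ht) h1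

theorem exists_ne_one : ∃ t ∈ P, t ≠ 1 := by
  refine (P.ne_bot_iff_exists_ne_one.1 ?_).elim fun t ht => ⟨t, t.2, fun e => ht (Subtype.ext e)⟩
  intro e
  have := h.cardP
  rw [e, Subgroup.card_bot] at this
  have := h.three
  omega

theorem P_le : P ≤ CC P := fun t ht => mem_CC.2 fun a ha => h.comm a ha t ht

/-- Powers of two in `N(P)` lie in `P`. -/
theorem two_mem {x : G} (hx : x ∈ NN P) {k : ℕ} (hk : x ^ 2 ^ k = 1) : x ∈ P := by
  have : Fact (Nat.Prime 2) := ⟨Nat.prime_two⟩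
  have hz : IsPGroup 2 (Subgroup.zpowers x) := by
    obtain ⟨j, -, hj⟩ := (Nat.dvd_prime_pow Nat.prime_two).mp (orderOf_dvd_of_pow_eq_one hk)
    exact IsPGroup.of_card (n := j) (by rw [Nat.card_zpowers, hj])
  have hs : IsPGroup 2 (Subgroup.zpowers x ⊔ P : Subgroup G) :=
    hz.to_sup_of_normal_right' h.two (Subgroup.zpowers_le.2 hx)
  obtain ⟨n, hn⟩ := IsPGroup.iff_card.1 hs
  have h1 : P.relIndex (Subgroup.zpowers x ⊔ P) ∣ 2 ^ n := hn ▸ Subgroup.relIndex_dvd_card _ _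
  have h2 : P.relIndex (Subgroup.zpowers x ⊔ P) ∣ P.index :=
    Subgroup.relIndex_dvd_index_of_le le_sup_right
  have h3 : P.relIndex (Subgroup.zpowers x ⊔ P) = 1 :=
    Nat.eq_one_of_dvd_coprimes ((Nat.coprime_two_left.2 h.oddIdx).pow_left n) h1 h2
  exact Subgroup.relIndex_eq_one.1 h3 (Subgroup.mem_sup_left (Subgroup.mem_zpowers x))

theorem invol_mem {i : G} (hi : orderOf i = 2) (hx : i ∈ NN P) : i ∈ P :=
  h.two_mem hx (k := 1) (by rw [pow_one, ← hi, pow_orderOf_eq_one])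

/-- Every involution is conjugate into `P`. -/
theorem invol_conj {i : G} (hi : orderOf i = 2) : ∃ g : G, g⁻¹ * i * g ∈ P := by
  have : Fact (Nat.Prime 2) := ⟨Nat.prime_two⟩
  let S : Sylow 2 G := h.two.toSylow (Nat.two_dvd_ne_zero.2 (Nat.odd_iff.1 h.oddIdx))
  have hz : IsPGroup 2 (Subgroup.zpowers i) :=
    IsPGroup.of_card (n := 1) (by rw [Nat.card_zpowers, hi, pow_one])
  obtain ⟨Q, hQ⟩ := hz.exists_le_sylow
  obtain ⟨g, hg⟩ := MulAction.exists_smul_eq G S Q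
  refine ⟨g, ?_⟩
  have hm : i ∈ ((g • S : Sylow 2 G) : Subgroup G) := hg.symm ▸ hQ (Subgroup.mem_zpowers i)
  rw [Sylow.coe_subgroup_smul, Subgroup.mem_pointwise_smul_iff_inv_smul_mem] at hm
  simpa [MulAut.smul_def, S] using hm

theorem se : Cfsg.IsStronglyEmbedded (NN P) := by
  obtain ⟨t, ht, ht1⟩ := h.exists_ne_one
  refine ⟨h.nn, even_card_of_involution_mem (h.orderOf_mem ht ht1) (Subgroup.le_normalizer ht),
    fun g hg => ?_⟩
  refine Nat.not_even_iff_odd.1 fun he => hg ?_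
  obtain ⟨i, ⟨hiH, hig⟩, hi⟩ := exists_involution_of_even he
  have hj : g⁻¹ * i * g ∈ NN P := mem_conj_iff.1 hig
  have hiP := h.invol_mem hi hiH
  have hjo : orderOf (g⁻¹ * i * g) = 2 := by
    simpa using (orderOf_conj g⁻¹ i).trans hi
  have hjP := h.invol_mem hjo hj
  refine mem_NN.2 fun a ha => ?_
  have hc : g * a * g⁻¹ ∈ CC P := h.cent i hiP (involution_ne_one hi) _ (by
    have := h.comm a ha _ hjP
    calc g * a * g⁻¹ * i = g * (a * (g⁻¹ * i * g)) * g⁻¹ := by group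
      _ = g * (g⁻¹ * i * g * a) * g⁻¹ := by rw [this]
      _ = i * (g * a * g⁻¹) := by group)
  exact h.two_mem (CC_le_NN P hc) (k := 1)
    (by rw [pow_one, pow_two, show g * a * g⁻¹ * (g * a * g⁻¹) = g * (a * a) * g⁻¹ by group,
      h.sq a ha, mul_one, mul_inv_cancel])

theorem card_swap {x y : G ⧸ NN P} (hxy : x ≠ y) :
    Nat.card {i : G // orderOf i = 2 ∧ i • x = y} = r := by
  rw [SignalizerStrongEmb.card_swap h.se x y hxy]
  have e : {t : G | orderOf t = 2 ∧ t ∈ NN P} = (P : Set G) \ {1} := by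
    ext t
    refine ⟨fun ht => ⟨h.invol_mem ht.1 ht.2, involution_ne_one ht.1⟩,
      fun ht => ⟨h.orderOf_mem ht.1 ht.2, Subgroup.le_normalizer ht.1⟩⟩
  show Nat.card ↥{t : G | orderOf t = 2 ∧ t ∈ NN P} = r
  rw [e, Nat.card_coe_set_eq, Set.ncard_diff_singleton_of_mem P.one_mem, ← Nat.card_coe_set_eq]
  show Nat.card P - 1 = r
  rw [h.cardP, Nat.add_sub_cancel]

theorem exists_swap {x y : G ⧸ NN P} (hxy : x ≠ y) : ∃ i : G, orderOf i = 2 ∧ i • x = y := by
  have := h.card_swap hxy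
  have h3 := h.three
  have : Nonempty {i : G // orderOf i = 2 ∧ i • x = y} := (Nat.card_pos_iff.1 (by omega)).1
  exact ⟨this.some.1, this.some.2⟩

theorem exists_point : ∃ b : G ⧸ NN P, b ≠ QuotientGroup.mk 1 := by
  obtain ⟨u, hu, -⟩ := exists_involution_not_mem h.se
  exact ⟨QuotientGroup.mk u, fun e => hu (by simpa using QuotientGroup.eq.1 e.symm)⟩

theorem fixed_unique {i : G} (hi : orderOf i = 2) {x y : G ⧸ NN P} (hx : i • x = x) (hy : i • y = y) :
    x = y :=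
  (existsUnique_fixed h.se hi).unique hx hy

theorem eq_one_of_fix {t : G} (ht : t ∈ P) {b : G ⧸ NN P} (hb : b ≠ QuotientGroup.mk 1)
    (htb : t • b = b) : t = 1 := by
  by_contra h1
  exact hb (h.fixed_unique (h.orderOf_mem ht h1) htb
    (smul_one_eq_iff.2 (Subgroup.le_normalizer ht)))

theorem odd_of_fix {x : G} {b : G ⧸ NN P} (hx : x ∈ NN P) (hb : b ≠ QuotientGroup.mk 1)
    (hxb : x • b = b) : Odd (orderOf x) := by
  refine Nat.not_even_iff_odd.1 fun he => ?_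
  have h2 : orderOf (x ^ (orderOf x / 2)) = 2 :=
    orderOf_pow_orderOf_div (orderOf_pos x).ne' he.two_dvd
  refine hb (h.fixed_unique h2 ?_ ?_)
  · exact MulAction.mem_stabilizer_iff.1 (pow_mem (MulAction.mem_stabilizer_iff.2 hxb) _)
  · exact smul_one_eq_iff.2 (pow_mem hx _)

theorem D_le : D ≤ CC P := fun x hx => ((h.memD x).1 hx).1

theorem D_le_NN : D ≤ NN P := h.D_le.trans (CC_le_NN P)

theorem oddD : Odd (Nat.card D) := by
  refine Nat.not_even_iff_odd.1 fun he => ?_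
  obtain ⟨i, hiD, hi⟩ := exists_involution_of_even he
  have := ((h.memD i).1 hiD).2
  rw [hi] at this
  exact absurd this (by decide)

theorem conj_D {x d : G} (hx : x ∈ NN P) (hd : d ∈ D) : x * d * x⁻¹ ∈ D := by
  obtain ⟨hc, ho⟩ := (h.memD d).1 hd
  refine (h.memD _).2 ⟨mem_CC.2 fun a ha => ?_, by rwa [orderOf_conj]⟩
  have ha' : x⁻¹ * a * x ∈ P := by
    have := (mem_NN.1 (inv_mem hx)) a ha
    simpa using this
  calc a * (x * d * x⁻¹) = x * ((x⁻¹ * a * x) * d) * x⁻¹ := by group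
    _ = x * (d * (x⁻¹ * a * x)) * x⁻¹ := by rw [mem_CC.1 hc _ ha']
    _ = x * d * x⁻¹ * a := by group

/-- `C(P) = P × D`. -/
theorem decomp {x : G} (hx : x ∈ CC P) : ∃ t ∈ P, t * x ∈ D := by
  obtain ⟨k, m, hm, hkm⟩ := Nat.exists_eq_two_pow_mul_odd (orderOf_pos x).ne'
  have hxk : (x ^ m) ^ 2 ^ k = 1 := by rw [← pow_mul, mul_comm, ← hkm, pow_orderOf_eq_one]
  have ht : x ^ m ∈ P := h.two_mem (CC_le_NN P (pow_mem hx m)) hxk
  refine ⟨x ^ m, ht, (h.memD _).2 ⟨mul_mem (h.P_le ht) hx, ?_⟩⟩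
  refine hm.of_dvd_nat (orderOf_dvd_of_pow_eq_one ?_)
  rw [(Commute.pow_self x m).mul_pow]
  obtain ⟨j, rfl⟩ := hm
  rw [pow_succ (x ^ (2 * j + 1)), pow_mul (x ^ (2 * j + 1)) 2 j, pow_two, h.sq _ ht, one_pow, one_mul,
    h.sq _ ht]

theorem cc_of_coprime {x : G} (hx : x ∈ NN P) (hc : (orderOf x).Coprime r) : x ∈ CC P := by
  obtain ⟨m, hm⟩ := exists_pow_eq_self_of_coprime (n := r) (x := x) hc.symm
  rw [← hm]
  exact pow_mem (h.powr x hx) m

theorem mem_D_of_coprime {x : G} (hx : x ∈ NN P) (ho : Odd (orderOf x))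
    (hc : (orderOf x).Coprime r) : x ∈ D :=
  (h.memD x).2 ⟨h.cc_of_coprime hx hc, ho⟩

theorem eq_one_of_prod {x : G} (hx : x ∈ D) (hc : (orderOf x).Coprime (Nat.card D)) : x = 1 :=
  orderOf_eq_one_iff.1 (Nat.eq_one_of_dvd_coprimes hc dvd_rfl (Subgroup.orderOf_dvd_natCard D hx))

/-- Facts about a pair of points and a swapper. -/
theorem swap_symm {i : G} (hi : orderOf i = 2) {x y : G ⧸ NN P} (hxy : i • x = y) : i • y = x := by
  rw [← hxy, smul_smul, involution_mul_self hi, one_smul]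

theorem mul_mem_stab {i j : G} (hj : orderOf j = 2) (hi : orderOf i = 2) {b : G ⧸ NN P}
    (hib : i • (QuotientGroup.mk 1 : G ⧸ NN P) = b) (hjb : j • (QuotientGroup.mk 1 : G ⧸ NN P) = b) :
    i * j ∈ NN P ∧ (i * j) • b = b := by
  constructor
  · refine smul_one_eq_iff.1 ?_
    rw [mul_smul, hjb, h.swap_symm hi hib]
  · rw [mul_smul, h.swap_symm hj hjb, hib]

theorem orderOf_prod {i j : G} (hj : orderOf j = 2) (hi : orderOf i = 2) {b : G ⧸ NN P}
    (hb : b ≠ QuotientGroup.mk 1)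
    (hib : i • (QuotientGroup.mk 1 : G ⧸ NN P) = b) (hjb : j • (QuotientGroup.mk 1 : G ⧸ NN P) = b)
    (hne : i ≠ j) :
    orderOf (i * j) = r ∧ i * j ∉ CC P := by
  obtain ⟨hN, hf⟩ := h.mul_mem_stab hj hi hib hjb
  have hodd := h.odd_of_fix hN hb hf
  have hc := h.noinv i j hi hj
  have hne1 : i * j ≠ 1 := fun e => hne (by
    rw [← mul_inv_eq_one, involution_inv hj]; exact e)
  have hnC : i * j ∉ CC P := fun hC => hne1 (h.eq_one_of_prod ((h.memD _).2 ⟨hC, hodd⟩) hc)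
  refine ⟨?_, hnC⟩
  have hr : (i * j) ^ r = 1 := by
    refine h.eq_one_of_prod ((h.memD _).2 ⟨h.powr _ hN, hodd.of_dvd_nat (orderOf_pow_dvd r)⟩)
      (hc.coprime_dvd_left (orderOf_pow_dvd r))
  have := Fact.mk h.prime
  exact orderOf_eq_prime hr hne1

theorem exists_rot {s : G} (hs : orderOf s = 2) {b : G ⧸ NN P} (hb : b ≠ QuotientGroup.mk 1)
    (hsb : s • (QuotientGroup.mk 1 : G ⧸ NN P) = b) :
    ∃ i : G, orderOf i = 2 ∧ i • (QuotientGroup.mk 1 : G ⧸ NN P) = b ∧ i ≠ s := by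
  have hc := h.card_swap (Ne.symm hb)
  have : Finite {i : G // orderOf i = 2 ∧ i • (QuotientGroup.mk 1 : G ⧸ NN P) = b} := inferInstance
  have h2 : Nontrivial {i : G // orderOf i = 2 ∧ i • (QuotientGroup.mk 1 : G ⧸ NN P) = b} :=
    Finite.one_lt_card_iff_nontrivial.1 (by have := h.three; omega)
  obtain ⟨i, hi⟩ := exists_ne (⟨s, hs, hsb⟩ : {i : G // orderOf i = 2 ∧ i • (QuotientGroup.mk 1 : G ⧸ NN P) = b})
  exact ⟨i.1, i.2.1, i.2.2, fun e => hi (Subtype.ext e)⟩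

theorem coprime_r : r.Coprime (Nat.card D) := by
  obtain ⟨b, hb⟩ := h.exists_point
  obtain ⟨s, hs, hsb⟩ := h.exists_swap (Ne.symm hb)
  obtain ⟨i, hi, hib, hne⟩ := h.exists_rot hs hb hsb
  rw [← (h.orderOf_prod hs hi hb hib hsb hne).1]
  exact h.noinv i s hi hs

/-- An element of `D` fixing `b` commutes with every swapper. -/
theorem swap_comm {s : G} (hs : orderOf s = 2) {b : G ⧸ NN P} (hb : b ≠ QuotientGroup.mk 1)
    (hsb : s • (QuotientGroup.mk 1 : G ⧸ NN P) = b) {d : G} (hd : d ∈ D) (hdb : d • b = b) :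
    s * d = d * s := by
  have hdH := h.D_le_NN hd
  have hbo := h.swap_symm hs hsb
  set y := s * d * s⁻¹ with hy
  have hyH : y ∈ NN P := by
    refine smul_one_eq_iff.1 ?_
    rw [hy, mul_smul, mul_smul, involution_inv hs, hsb, hdb, hbo]
  have hyb : y • b = b := by
    rw [hy, mul_smul, mul_smul, involution_inv hs, hbo, smul_one_eq_iff.2 hdH, hsb]
  have hod : orderOf y = orderOf d := orderOf_conj s d
  have hyD : y ∈ D := h.mem_D_of_coprime hyH (h.odd_of_fix hyH hb hyb) (by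
    rw [hod]
    exact (h.coprime_r.coprime_dvd_right (Subgroup.orderOf_dvd_natCard D hd)).symm)
  have hz : d⁻¹ * y = 1 := by
    refine h.eq_one_of_prod (mul_mem (inv_mem hd) hyD) ?_
    have e : d⁻¹ * y = d⁻¹ * s * d * s := by rw [hy, involution_inv hs]; group
    rw [e]
    exact h.noinv _ _ (by simpa using (orderOf_conj d⁻¹ s).trans hs) hs
  have : y = d := (inv_mul_eq_one.1 hz).symm
  rw [hy] at this
  exact mul_inv_eq_iff_eq_mul.1 this

/-- The rotations: an element of order `r` fixing `b`, inverted by `s`. -/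
theorem rotation {s : G} (hs : orderOf s = 2) {b : G ⧸ NN P} (hb : b ≠ QuotientGroup.mk 1)
    (hsb : s • (QuotientGroup.mk 1 : G ⧸ NN P) = b) :
    ∃ k : G, k ∈ NN P ∧ k • b = b ∧ k ∉ CC P ∧ orderOf k = r ∧ s * k * s⁻¹ = k⁻¹ ∧
      (∀ d ∈ D, d • b = b → k * d = d * k) ∧
      ∀ x ∈ NN P, x • b = b → ∃ n : ℕ, x * k ^ n ∈ D := by
  obtain ⟨i, hi, hib, hne⟩ := h.exists_rot hs hb hsb
  obtain ⟨hN, hf⟩ := h.mul_mem_stab hs hi hib hsb
  obtain ⟨ho, hnC⟩ := h.orderOf_prod hs hi hb hib hsb hne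
  refine ⟨i * s, hN, hf, hnC, ho, ?_, fun d hd hdb => ?_, fun x hx hxb => ?_⟩
  · rw [mul_inv_rev, involution_inv hs, involution_inv hi, mul_assoc, mul_assoc,
      involution_mul_self hs, mul_one]
  · rw [mul_assoc, h.swap_comm hs hb hsb hd hdb, ← mul_assoc, h.swap_comm hi hb hib hd hdb, mul_assoc]
  · obtain ⟨n, hn⟩ := h.gen _ hN hnC x hx
    refine ⟨n, (h.memD _).2 ⟨hn, h.odd_of_fix (mul_mem hx (pow_mem hN n)) hb ?_⟩⟩
    rw [mul_smul, MulAction.mem_stabilizer_iff.1 (pow_mem (MulAction.mem_stabilizer_iff.2 hf) n),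
      hxb]

/-- A normal subgroup inside `N(P)` lies in `D`. -/
theorem normal_le_D {N : Subgroup G} (hN : N.Normal) (hle : N ≤ NN P) : N ≤ D := by
  have hodd : Odd (Nat.card N) := by
    refine Nat.not_even_iff_odd.1 fun he => h.nn ?_
    obtain ⟨i, hiN, hi⟩ := exists_involution_of_even he
    refine eq_top_iff.2 fun g _ => ?_
    exact mem_of_conj_mem h.se hi (hle hiN) (hle (hN.conj_mem i hiN g))
  intro x hx
  refine (h.memD x).2 ⟨mem_CC.2 fun a ha => ?_, odd_orderOf_of_mem hodd hx⟩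
  have h1 : x * a * x⁻¹ * a⁻¹ ∈ N := by
    have := mul_mem hx (hN.conj_mem _ (inv_mem hx) a)
    simpa [mul_assoc] using this
  have h2 : x * a * x⁻¹ * a⁻¹ ∈ P := mul_mem ((mem_NN.1 (hle hx)) a ha) (inv_mem ha)
  have h3 : x * a * x⁻¹ * a⁻¹ = 1 :=
    eq_one_of_odd_sq (odd_orderOf_of_mem hodd h1) (h.sq _ h2)
  exact (mul_inv_eq_iff_eq_mul.1 (mul_inv_eq_one.1 h3)).symm

theorem cc_subgroupOf {L : Subgroup G} (hPL : P ≤ L) {x : L} :
    x ∈ CC (P.subgroupOf L) ↔ (x : G) ∈ CC P := by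
  rw [mem_CC, mem_CC]
  exact ⟨fun hx a ha => congrArg Subtype.val (hx ⟨a, hPL ha⟩ ha),
    fun hx a ha => Subtype.ext (hx a ha)⟩

theorem nn_subgroupOf {L : Subgroup G} (hPL : P ≤ L) {x : L} :
    x ∈ NN (P.subgroupOf L) ↔ (x : G) ∈ NN P := by
  rw [mem_NN, mem_NN]
  exact ⟨fun hx a ha => hx ⟨a, hPL ha⟩ ha, fun hx a ha => hx a ha⟩

/-- Inheritance by subgroups. -/
theorem sub {L : Subgroup G} (hPL : P ≤ L) (hx : ∃ x ∈ L, x ∉ NN P) :
    Hyp (P.subgroupOf L) (D.subgroupOf L) r where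
  two := h.two.of_equiv (Subgroup.subgroupOfEquivOfLe hPL).symm
  oddIdx := h.oddIdx.of_dvd_nat (Subgroup.relIndex_dvd_index_of_le hPL)
  comm a ha b hb := Subtype.ext (h.comm a ha b hb)
  sq a ha := Subtype.ext (h.sq a ha)
  cardP := (Nat.card_congr (Subgroup.subgroupOfEquivOfLe hPL).toEquiv).trans h.cardP
  prime := h.prime
  three := h.three
  nn e := by
    obtain ⟨x, hxL, hxn⟩ := hx
    exact hxn ((h.nn_subgroupOf hPL (x := ⟨x, hxL⟩)).1 (e ▸ Subgroup.mem_top _))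
  cent t ht h1 c hc := (h.cc_subgroupOf hPL).2
    (h.cent t ht (fun e => h1 (Subtype.ext e)) c (congrArg Subtype.val hc))
  memD c := by
    rw [Subgroup.mem_subgroupOf, h.memD, h.cc_subgroupOf hPL, Subgroup.orderOf_coe]
  powr x hx := (h.cc_subgroupOf hPL).2 (by simpa using h.powr x ((h.nn_subgroupOf hPL).1 hx))
  gen x hx hxn y hy := by
    obtain ⟨i, hi⟩ := h.gen x ((h.nn_subgroupOf hPL).1 hx)
      (fun hc => hxn ((h.cc_subgroupOf hPL).2 hc)) y ((h.nn_subgroupOf hPL).1 hy)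
    exact ⟨i, (h.cc_subgroupOf hPL).2 (by simpa using hi)⟩
  noinv s s' hs hs' := by
    have := h.noinv s s' (by rwa [Subgroup.orderOf_coe]) (by rwa [Subgroup.orderOf_coe])
    rw [← Subgroup.coe_mul, Subgroup.orderOf_coe] at this
    refine this.coprime_dvd_right ?_
    rw [← Subgroup.card_map_of_injective (K := D.subgroupOf L) L.subtype_injective]
    exact Subgroup.card_dvd_of_le (Subgroup.map_comap_le _ _)
  abSyl p hp A hA hAp a ha b hb := Subtype.ext
    (h.abSyl p hp (A.map L.subtype) ((Subgroup.map_mono hA).trans (Subgroup.map_comap_le _ _))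
      (hAp.map _) a (Subgroup.mem_map_of_mem _ ha) b (Subgroup.mem_map_of_mem _ hb))

variable {N : Subgroup G} [N.Normal]

theorem lift_conj (hN : N ≤ D) {x a a' : G} (ha : a ∈ P) (ha' : a' ∈ P)
    (he : ((x * a * x⁻¹ : G) : G ⧸ N) = (a' : G ⧸ N)) : x * a * x⁻¹ = a' := by
  have hn : a'⁻¹ * (x * a * x⁻¹) ∈ D := hN (QuotientGroup.eq.1 he.symm)
  obtain ⟨hc, ho⟩ := (h.memD _).1 hn
  have hcm := mem_CC.1 hc a' ha'
  have h1 : a'⁻¹ * (x * a * x⁻¹) = 1 := by
    refine eq_one_of_odd_sq ho ?_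
    calc a'⁻¹ * (x * a * x⁻¹) * (a'⁻¹ * (x * a * x⁻¹))
        = (a'⁻¹ * (x * a * x⁻¹) * a'⁻¹) * (x * a * x⁻¹) := by group
      _ = (a' * (a'⁻¹ * (x * a * x⁻¹))) * (x * a * x⁻¹) := by
        rw [inv_eq_of_mul_eq_one_right (h.sq a' ha')] at hcm ⊢
        rw [hcm]
      _ = x * (a * a) * x⁻¹ := by group
      _ = 1 := by rw [h.sq a ha, mul_one, mul_inv_cancel]
  exact (inv_mul_eq_one.1 h1).symm

theorem nn_map (hN : N ≤ D) {x : G} :
    (x : G ⧸ N) ∈ NN (P.map (QuotientGroup.mk' N)) ↔ x ∈ NN P := by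
  rw [mem_NN, mem_NN]
  constructor
  · intro hx a ha
    obtain ⟨a', ha', he⟩ := hx (a : G ⧸ N) (Subgroup.mem_map_of_mem _ ha)
    rw [h.lift_conj hN (x := x) ha ha' he.symm]
    exact ha'
  · rintro hx _ ⟨a, ha, rfl⟩
    exact Subgroup.mem_map_of_mem (QuotientGroup.mk' N) (hx a ha)

theorem cc_map (hN : N ≤ D) {x : G} :
    (x : G ⧸ N) ∈ CC (P.map (QuotientGroup.mk' N)) ↔ x ∈ CC P := by
  rw [mem_CC, mem_CC]
  constructor
  · intro hx a ha
    have he := hx (a : G ⧸ N) (Subgroup.mem_map_of_mem _ ha)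
    have := h.lift_conj hN (x := x) ha ha (by
      rw [QuotientGroup.mk_mul, QuotientGroup.mk_mul, QuotientGroup.mk_inv, ← he, mul_inv_cancel_right])
    exact (mul_inv_eq_iff_eq_mul.1 this).symm
  · rintro hx _ ⟨a, ha, rfl⟩
    exact congrArg (QuotientGroup.mk' N) (hx a ha)

/-- Inheritance by quotients modulo normal subgroups inside `D`. -/
theorem quot (hN : N ≤ D) :
    Hyp (P.map (QuotientGroup.mk' N)) (D.map (QuotientGroup.mk' N)) r where
  two := h.two.map _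
  oddIdx := h.oddIdx.of_dvd_nat (P.index_map_dvd (QuotientGroup.mk'_surjective N))
  comm := by
    rintro _ ⟨a, ha, rfl⟩ _ ⟨b, hb, rfl⟩
    rw [← map_mul, ← map_mul, h.comm a ha b hb]
  sq := by
    rintro _ ⟨a, ha, rfl⟩
    rw [← map_mul, h.sq a ha, map_one]
  cardP := by
    let f : P → P.map (QuotientGroup.mk' N) := fun a => ⟨_, Subgroup.mem_map_of_mem _ a.2⟩
    have hf : Function.Bijective f := by
      refine ⟨fun a b hab => ?_, fun ⟨_, a, ha, e⟩ => ⟨⟨a, ha⟩, Subtype.ext e⟩⟩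
      have he : ((a : G) : G ⧸ N) = ((b : G) : G ⧸ N) := congrArg Subtype.val hab
      have := h.lift_conj hN (x := 1) a.2 b.2 (by simpa using he)
      exact Subtype.ext (by simpa using this)
    rw [← Nat.card_eq_of_bijective f hf, h.cardP]
  prime := h.prime
  three := h.three
  nn e := h.nn (eq_top_iff.2 fun x _ => (h.nn_map hN).1 (e ▸ Subgroup.mem_top _))
  cent := by
    rintro _ ⟨t, ht, rfl⟩ h1 c hc
    obtain ⟨c, rfl⟩ := QuotientGroup.mk_surjective c
    refine (h.cc_map hN).2 (h.cent t ht (fun e => h1 (by rw [e, map_one])) c ?_)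
    have := h.lift_conj hN (x := c) ht ht (by
      rw [QuotientGroup.mk_mul, QuotientGroup.mk_mul, QuotientGroup.mk_inv]
      exact mul_inv_eq_iff_eq_mul.2 hc)
    exact mul_inv_eq_iff_eq_mul.1 this
  memD c := by
    obtain ⟨c, rfl⟩ := QuotientGroup.mk_surjective c
    constructor
    · rintro ⟨d, hd, he⟩
      have he' : (d : G ⧸ N) = c := he
      rw [← he']
      exact ⟨(h.cc_map hN).2 (h.D_le hd),
        ((h.memD d).1 hd).2.of_dvd_nat (orderOf_map_dvd (QuotientGroup.mk' N) d)⟩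
    · rintro ⟨hc, ho⟩
      have hc' := (h.cc_map hN).1 hc
      obtain ⟨t, ht, htc⟩ := h.decomp hc'
      have hod : Odd (orderOf ((t * c : G) : G ⧸ N)) :=
        ((h.memD _).1 htc).2.of_dvd_nat (orderOf_map_dvd (QuotientGroup.mk' N) (t * c))
      have hcm : Commute (t : G ⧸ N) (c : G ⧸ N) := congrArg _ (mem_CC.1 hc' t ht)
      have ht1 : (t : G ⧸ N) = 1 := by
        refine eq_one_of_odd_sq ((hod.mul ho).of_dvd_nat (orderOf_dvd_of_pow_eq_one ?_))
          (by rw [← QuotientGroup.mk_mul, h.sq t ht, QuotientGroup.mk_one])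
        have e : (t : G ⧸ N) = ((t * c : G) : G ⧸ N) * (c : G ⧸ N)⁻¹ := by
          rw [QuotientGroup.mk_mul, mul_inv_cancel_right]
        rw [e, Commute.mul_pow, pow_mul, pow_orderOf_eq_one, one_pow, one_mul, inv_pow,
          Nat.mul_comm, pow_mul, pow_orderOf_eq_one, one_pow, inv_one]
        rw [QuotientGroup.mk_mul]
        exact (hcm.mul_left (Commute.refl _)).inv_right
      exact ⟨t * c, htc, by
        show ((t * c : G) : G ⧸ N) = c
        rw [QuotientGroup.mk_mul, ht1, one_mul]⟩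
  powr x hx := by
    obtain ⟨x, rfl⟩ := QuotientGroup.mk_surjective x
    exact (h.cc_map hN).2 (h.powr x ((h.nn_map hN).1 hx))
  gen x hx hxn y hy := by
    obtain ⟨x, rfl⟩ := QuotientGroup.mk_surjective x
    obtain ⟨y, rfl⟩ := QuotientGroup.mk_surjective y
    obtain ⟨i, hi⟩ := h.gen x ((h.nn_map hN).1 hx) (fun hc => hxn ((h.cc_map hN).2 hc)) y
      ((h.nn_map hN).1 hy)
    exact ⟨i, (h.cc_map hN).2 hi⟩
  noinv := by
    have lift : ∀ s : G ⧸ N, orderOf s = 2 → ∃ s₀ : G, orderOf s₀ = 2 ∧ (s₀ : G ⧸ N) = s := by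
      intro s hs
      obtain ⟨x, rfl⟩ := QuotientGroup.mk_surjective s
      have hx2 : x * x ∈ N := by
        rw [← QuotientGroup.eq_one_iff, QuotientGroup.mk_mul, involution_mul_self hs]
      set m := Nat.card N with hm
      have hodd : Odd m := h.oddD.of_dvd_nat (Subgroup.card_dvd_of_le hN)
      have hs0 : x ^ m * x ^ m = 1 := by
        rw [← (Commute.refl x).mul_pow]
        have := pow_card_eq_one' (G := N) (x := ⟨x * x, hx2⟩)
        exact congrArg Subtype.val this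
      have himg : ((x ^ m : G) : G ⧸ N) = (x : G ⧸ N) := by
        obtain ⟨j, hj⟩ := hodd
        rw [QuotientGroup.mk_pow, hj, pow_succ, pow_mul, pow_two, involution_mul_self hs, one_pow,
          one_mul]
      exact ⟨x ^ m, orderOf_eq_two_of_mul_self hs0 fun e => involution_ne_one hs (by
        rw [← himg, e, QuotientGroup.mk_one]), himg⟩
    intro s s' hs hs'
    obtain ⟨a, ha, rfl⟩ := lift s hs
    obtain ⟨b, hb, rfl⟩ := lift s' hs'
    exact ((h.noinv a b ha hb).coprime_dvd_left (orderOf_map_dvd (QuotientGroup.mk' N) (a * b))).coprime_dvd_right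
      (Subgroup.card_map_dvd D _)
  abSyl p hp A hA hAp a ha b hb := by
    have := Fact.mk hp
    have hle : A.comap (QuotientGroup.mk' N) ≤ D := by
      intro x hx
      obtain ⟨d, hd, he⟩ := hA hx
      have hm : d⁻¹ * x ∈ N := QuotientGroup.eq.1 he
      simpa using mul_mem hd (hN hm)
    let f : A.comap (QuotientGroup.mk' N) →* A :=
      ((QuotientGroup.mk' N).domRestrict _).codRestrict A fun x => x.2
    have hf : Function.Surjective f := fun ⟨y, hy⟩ => by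
      obtain ⟨x, rfl⟩ := QuotientGroup.mk_surjective y
      exact ⟨⟨x, hy⟩, rfl⟩
    obtain ⟨Q⟩ : Nonempty (Sylow p (A.comap (QuotientGroup.mk' N))) := inferInstance
    have htop : ((Q.mapSurjective hf : Sylow p A) : Subgroup A) = ⊤ :=
      ((Q.mapSurjective hf).is_maximal' (hAp.to_subgroup ⊤ |>.of_equiv Subgroup.topEquiv |>.to_subgroup ⊤) le_top).symm
    have hQ := h.abSyl p hp ((Q : Subgroup _).map (A.comap (QuotientGroup.mk' N)).subtype)
      ((Subgroup.map_subtype_le _).trans hle) (Q.2.map _)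
    have hex : ∀ y ∈ A, ∃ x ∈ (Q : Subgroup _).map (A.comap (QuotientGroup.mk' N)).subtype,
        (x : G ⧸ N) = y := by
      intro y hy
      have : (⟨y, hy⟩ : A) ∈ ((Q.mapSurjective hf : Sylow p A) : Subgroup A) :=
        htop ▸ Subgroup.mem_top _
      obtain ⟨x, hx, he⟩ := this
      exact ⟨x, Subgroup.mem_map_of_mem _ hx, congrArg Subtype.val he⟩
    obtain ⟨x, hx, rfl⟩ := hex a ha
    obtain ⟨y, hy, rfl⟩ := hex b hb
    rw [← QuotientGroup.mk_mul, ← QuotientGroup.mk_mul, hQ x hx y hy]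

omit N

/-- The case `D = 1`: involution centralizers are elementary abelian. -/
theorem elemCent_of_bot (hD : D = ⊥) :
    ∀ t : G, orderOf t = 2 → IsMulCommutative (Subgroup.centralizer ({t} : Set G)) ∧
      ∀ c ∈ Subgroup.centralizer ({t} : Set G), c ^ 2 = 1 := by
  intro t ht
  obtain ⟨g, hg⟩ := h.invol_conj ht
  have hmem : ∀ c ∈ Subgroup.centralizer ({t} : Set G), g⁻¹ * c * g ∈ P := by
    intro c hc
    have hct : t * c = c * t := Subgroup.mem_centralizer_iff.1 hc t rfl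
    have h1 : g⁻¹ * t * g ≠ 1 := fun e => involution_ne_one ht (by
      have := congrArg (fun x => g * x * g⁻¹) e
      simpa [mul_assoc] using this)
    have hC : g⁻¹ * c * g ∈ CC P := h.cent _ hg h1 _ (by
      calc g⁻¹ * c * g * (g⁻¹ * t * g) = g⁻¹ * (c * t) * g := by group
        _ = g⁻¹ * (t * c) * g := by rw [hct]
        _ = g⁻¹ * t * g * (g⁻¹ * c * g) := by group)
    obtain ⟨a, ha, hac⟩ := h.decomp hC
    rw [hD, Subgroup.mem_bot] at hac
    rw [show g⁻¹ * c * g = a⁻¹ from eq_inv_of_mul_eq_one_right hac]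
    exact inv_mem ha
  refine ⟨⟨⟨fun a b => Subtype.ext ?_⟩⟩, fun c hc => ?_⟩
  · have e := h.comm _ (hmem a a.2) _ (hmem b b.2)
    show (a : G) * b = b * a
    calc (a : G) * b = g * ((g⁻¹ * a * g) * (g⁻¹ * b * g)) * g⁻¹ := by group
      _ = g * ((g⁻¹ * b * g) * (g⁻¹ * a * g)) * g⁻¹ := by rw [e]
      _ = b * a := by group
  · calc c ^ 2 = g * ((g⁻¹ * c * g) * (g⁻¹ * c * g)) * g⁻¹ := by rw [pow_two]; group
      _ = 1 := by rw [h.sq _ (hmem c hc), mul_one, mul_inv_cancel]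

theorem not_cyclic : ¬ IsCyclic P := by
  intro hcyc
  obtain ⟨t, ht, ht1⟩ := h.exists_ne_one
  obtain ⟨g, hg⟩ := IsCyclic.exists_generator (α := P)
  have hg2 : orderOf g ∣ 2 := orderOf_dvd_of_pow_eq_one (Subtype.ext (by
    rw [Subgroup.coe_pow, pow_two, h.sq g g.2, Subgroup.coe_one]))
  rw [orderOf_eq_card_of_forall_mem_zpowers hg, h.cardP] at hg2
  have := Nat.le_of_dvd two_pos hg2
  have := h.three
  omega

/-- The case `D = 1`: `P` is transitive on the other points. -/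
theorem translate_of_bot (hD : D = ⊥) {x y : G} (hx : x ∉ NN P) (hy : y ∉ NN P) :
    ∃ t ∈ P, (t * x)⁻¹ * y ∈ NN P := by
  have : Fact (Nat.Prime 2) := ⟨Nat.prime_two⟩
  let S : Sylow 2 G := h.two.toSylow (Nat.two_dvd_ne_zero.2 (Nat.odd_iff.1 h.oddIdx))
  have hnn : ¬ (S : Subgroup G).Normal := fun e => h.nn (Subgroup.normalizer_eq_top_iff.2 e)
  have hne : ∀ z : G, z ∉ NN P → (QuotientGroup.mk z : G ⧸ NN P) ≠ QuotientGroup.mk 1 :=
    fun z hz e => hz (by simpa using QuotientGroup.eq.1 e.symm)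
  obtain ⟨t, ⟨ht, hte⟩, -⟩ := (S1229.result S h.not_cyclic hnn (h.elemCent_of_bot hD)).2.2
    (QuotientGroup.mk x) (QuotientGroup.mk y) (hne x hx) (hne y hy)
  exact ⟨t, ht, QuotientGroup.eq.1 hte⟩

end Hyp

end Cfsg.Agent.EqOrderConj59
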