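import Mathlib
import Cfsg.Agent.Lib.TransferAlperin
import Cfsg.Agent.Lib.CAGroupStructure22

/-!
Groups in which every non-abelian subgroup is self-normalising: the Sylow subgroups of such a simple
group are abelian and centralisers of nonidentity elements are abelian.
-/

set_option autoImplicit false

namespace Cfsg.Agent.NSNGroups22

open Subgroup
open scoped commutatorElement

variable {G : Type*} [Group G]

/-- Every non-abelian subgroup is self-normalising. -/
def NSN (G : Type*) [Group G] : Prop :=
  ∀ H : Subgroup G, ¬ IsMulCommutative H → Subgroup.normalizer (H : Set G) = H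

/-- The elements of a subgroup commute. -/
def Ab (H : Subgroup G) : Prop := ∀ a ∈ H, ∀ b ∈ H, a * b = b * a

theorem ab_iff {H : Subgroup G} : Ab H ↔ IsMulCommutative H := by
  constructor
  · exact fun h => ⟨⟨fun a b => Subtype.ext (h a a.2 b b.2)⟩⟩
  · intro h a ha b hb
    exact congrArg Subtype.val (h.is_comm.comm ⟨a, ha⟩ ⟨b, hb⟩)

theorem self_norm (hG : NSN G) {H : Subgroup G} (h : ¬ Ab H) {g : G}
    (hg : g ∈ normalizer (H : Set G)) : g ∈ H := by
  rwa [hG H fun e => h (ab_iff.2 e)] at hg

/-- Proper invariant subgroups of a subgroup are abelian. -/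
theorem normal_ab (hG : NSN G) {H N : Subgroup G} (hN : H ≤ normalizer (N : Set G))
    (hne : ¬ H ≤ N) : Ab N := by
  by_contra h
  exact hne fun x hx => self_norm hG h (hN hx)

/-- A non-perfect non-abelian subgroup has an abelian normal subgroup of prime index. -/
theorem exists_max [Finite G] (hG : NSN G) {H : Subgroup G} (hp : commutator H ≠ ⊤) :
    ∃ M : Subgroup G, M ≤ H ∧ H ≤ normalizer (M : Set G) ∧ Ab M ∧ ¬ H ≤ M ∧
      (∀ K : Subgroup G, M ≤ K → K ≤ H → K = M ∨ K = H) ∧
      ∃ r : ℕ, r.Prime ∧ M.relIndex H = r ∧ ∀ h ∈ H, h ^ r ∈ M := by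
  obtain ⟨K, hK, hle⟩ := (eq_top_or_exists_le_coatom (commutator H)).resolve_left hp
  have hKn : K.Normal := ⟨fun k hk g => by
    have : g * k * g⁻¹ * k⁻¹ ∈ K :=
      hle (Subgroup.commutator_mem_commutator (Subgroup.mem_top g) (Subgroup.mem_top k))
    simpa using mul_mem this hk⟩
  set M := K.map H.subtype with hM
  have hMH : M ≤ H := Subgroup.map_subtype_le K
  have hnorm : H ≤ normalizer (M : Set G) := by
    intro h hh
    rw [Subgroup.mem_normalizer_iff]
    intro x
    constructor
    · rintro ⟨k, hk, rfl⟩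
      exact ⟨_, hKn.conj_mem k hk ⟨h, hh⟩, rfl⟩
    · rintro ⟨k, hk, e⟩
      refine ⟨_, hKn.conj_mem k hk ⟨h, hh⟩⁻¹, ?_⟩
      simp only [map_mul, map_inv, e]
      simp [mul_assoc]
  have hne : ¬ H ≤ M := by
    intro h
    refine hK.1 ((Subgroup.eq_top_iff' K).2 fun x => ?_)
    obtain ⟨k, hk, e⟩ := h x.2
    exact Subtype.ext e ▸ hk
  have hmax : ∀ L : Subgroup G, M ≤ L → L ≤ H → L = M ∨ L = H := by
    intro L h1 h2
    rcases eq_or_lt_of_le (show K ≤ L.subgroupOf H from fun k hk => h1 ⟨k, hk, rfl⟩) with e | e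
    · left; rw [hM, e, Subgroup.subgroupOf_map_subtype, inf_eq_left.2 h2]
    · right
      exact le_antisymm h2 (Subgroup.subgroupOf_eq_top.1 (hK.2 _ e))
  have hab : Ab M := normal_ab hG hnorm hne
  -- prime index
  have hidx : K.index = M.relIndex H := by
    rw [Subgroup.relIndex, Subgroup.subgroupOf, hM,
      Subgroup.comap_map_eq_self_of_injective Subtype.val_injective]
  have h1 : K.index ≠ 1 := fun e => hK.1 (Subgroup.index_eq_one.1 e)
  obtain ⟨r, hr, hrd⟩ := Nat.exists_prime_and_dvd h1
  have := Fact.mk hr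
  obtain ⟨z, hz⟩ := exists_prime_orderOf_dvd_card' (G := H ⧸ K) r hrd
  have htop : (Subgroup.zpowers z).comap (QuotientGroup.mk' K) = ⊤ := by
    refine hK.2 _ (lt_of_le_of_ne (fun k hk => ?_) fun e => ?_)
    · rw [Subgroup.mem_comap, QuotientGroup.mk'_apply, (QuotientGroup.eq_one_iff k).2 hk]
      exact one_mem _
    · obtain ⟨x, hx⟩ := QuotientGroup.mk'_surjective K z
      have hxK : x ∈ (Subgroup.zpowers z).comap (QuotientGroup.mk' K) := by
        rw [Subgroup.mem_comap, hx]; exact Subgroup.mem_zpowers z
      rw [← e] at hxK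
      rw [← hx, QuotientGroup.mk'_apply, (QuotientGroup.eq_one_iff x).2 hxK, orderOf_one] at hz
      exact hr.ne_one hz.symm
  have hcard : K.index = r := by
    rw [Subgroup.index, ← hz, ← Nat.card_zpowers,
      show Subgroup.zpowers z = (⊤ : Subgroup (H ⧸ K)) from
        Subgroup.comap_injective (QuotientGroup.mk'_surjective K)
          (htop.trans (Subgroup.comap_top _).symm), Subgroup.card_top]
  refine ⟨M, hMH, hnorm, hab, hne, hmax, r, hr, hidx ▸ hcard, fun h hh => ?_⟩
  refine ⟨⟨h, hh⟩ ^ r, ?_, by simp⟩
  show (⟨h, hh⟩ : H) ^ r ∈ K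
  rw [← hcard]
  exact Subgroup.pow_index_mem K _

/-- In a non-abelian `p`-subgroup all of whose proper subgroups are abelian, commutators are
central. -/
theorem comm_central [Finite G] (hG : NSN G) {p : ℕ} [Fact p.Prime] {P : Subgroup G}
    (hP : IsPGroup p P) (hab : ¬ Ab P) : commutator P ≤ center P := by
  have hproper : ∀ K : Subgroup P, K ≠ ⊤ → ∀ a ∈ K, ∀ b ∈ K, a * b = b * a := by
    intro K hK a ha b hb
    have := hP
    haveI : Group.IsNilpotent P := hP.isNilpotent
    have hlt := Group.normalizerCondition_of_isNilpotent K (lt_top_iff_ne_top.2 hK)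
    obtain ⟨x, hx, hxK⟩ := SetLike.exists_of_lt hlt
    have hA : Ab (K.map P.subtype) := by
      by_contra h
      obtain ⟨k, hk, e⟩ := self_norm hG h (g := (x : G)) (by
        rw [Subgroup.mem_normalizer_iff]
        intro y
        constructor
        · rintro ⟨k, hk, rfl⟩
          exact ⟨_, (Subgroup.mem_normalizer_iff.1 hx k).1 hk, rfl⟩
        · rintro ⟨k, hk, e⟩
          refine ⟨_, (Subgroup.mem_normalizer_iff.1 (inv_mem hx) k).1 hk, ?_⟩
          simp only [map_mul, map_inv, e]
          simp [mul_assoc])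
      exact hxK (Subtype.ext e ▸ hk)
    exact Subtype.ext (hA a.1 ⟨a, ha, rfl⟩ b.1 ⟨b, hb, rfl⟩)
  haveI : Group.IsNilpotent P := hP.isNilpotent
  intro c hc
  refine Subgroup.mem_center_iff.2 fun x => ?_
  by_cases hx : Subgroup.zpowers x = ⊤
  · exfalso
    refine hab fun a ha b hb => ?_
    obtain ⟨i, hi⟩ := Subgroup.mem_zpowers_iff.1 (hx ▸ Subgroup.mem_top (⟨a, ha⟩ : P))
    obtain ⟨j, hj⟩ := Subgroup.mem_zpowers_iff.1 (hx ▸ Subgroup.mem_top (⟨b, hb⟩ : P))
    exact congrArg Subtype.val
      (show (⟨a, ha⟩ : P) * ⟨b, hb⟩ = ⟨b, hb⟩ * ⟨a, ha⟩ by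
        rw [← hi, ← hj]; exact (Commute.refl x).zpow_zpow i j)
  obtain ⟨K, hK, hle⟩ := (eq_top_or_exists_le_coatom (Subgroup.zpowers x)).resolve_left hx
  have hKn : K.Normal := Subgroup.NormalizerCondition.normal_of_coatom _
    Group.normalizerCondition_of_isNilpotent hK
  refine hproper K hK.1 x (hle (Subgroup.mem_zpowers x)) c ?_
  obtain ⟨r, hr, hrd⟩ := Nat.exists_prime_and_dvd
    (show K.index ≠ 1 from fun e => hK.1 (Subgroup.index_eq_one.1 e))
  have hcomm : commutator P ≤ K := by
    haveI := Fact.mk hr
    obtain ⟨z, hz⟩ := exists_prime_orderOf_dvd_card' (G := P ⧸ K) r hrd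
    have htop : (Subgroup.zpowers z).comap (QuotientGroup.mk' K) = ⊤ := by
      refine hK.2 _ (lt_of_le_of_ne (fun k hk => ?_) fun e => ?_)
      · rw [Subgroup.mem_comap, QuotientGroup.mk'_apply, (QuotientGroup.eq_one_iff k).2 hk]
        exact one_mem _
      · obtain ⟨y, hy⟩ := QuotientGroup.mk'_surjective K z
        have hyK : y ∈ (Subgroup.zpowers z).comap (QuotientGroup.mk' K) := by
          rw [Subgroup.mem_comap, hy]; exact Subgroup.mem_zpowers z
        rw [← e] at hyK
        rw [← hy, QuotientGroup.mk'_apply, (QuotientGroup.eq_one_iff y).2 hyK, orderOf_one] at hz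
        exact hr.ne_one hz.symm
    rw [_root_.commutator, Subgroup.commutator_le]
    intro a _ b _
    obtain ⟨i, hi⟩ := Subgroup.mem_zpowers_iff.1
      (show QuotientGroup.mk' K a ∈ Subgroup.zpowers z by
        rw [← Subgroup.mem_comap, htop]; exact Subgroup.mem_top a)
    obtain ⟨j, hj⟩ := Subgroup.mem_zpowers_iff.1
      (show QuotientGroup.mk' K b ∈ Subgroup.zpowers z by
        rw [← Subgroup.mem_comap, htop]; exact Subgroup.mem_top b)
    rw [← QuotientGroup.eq_one_iff, ← QuotientGroup.mk'_apply, commutatorElement_def, map_mul,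
      map_mul, map_mul, map_inv, map_inv, ← hi, ← hj]
    group
  exact hcomm hc

/-- A perfect group has no nontrivial abelian self-normalising Sylow subgroup. -/
theorem sylow_eq_bot {K : Type*} [Group K] [Finite K] (hperf : commutator K = ⊤) {p : ℕ}
    [Fact p.Prime] (P : Sylow p K) (hab : Ab (P : Subgroup K))
    (hn : normalizer ((P : Subgroup K) : Set K) ≤ (P : Subgroup K)) : (P : Subgroup K) = ⊥ := by
  have hNP : normalizer ((P : Subgroup K) : Set K) ≤ centralizer ((P : Subgroup K) : Set K) :=
    fun n hn' => mem_centralizer_iff.2 fun w hw => hab w hw n (hn hn')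
  haveI : IsMulCommutative (P : Subgroup K) := ab_iff.1 hab
  have hc := MonoidHom.ker_transferSylow_isComplement' P hNP
  have hker : (MonoidHom.transferSylow P hNP).ker = ⊤ := by
    rw [eq_top_iff, ← hperf, _root_.commutator, Subgroup.commutator_le]
    intro a _ b _
    rw [MonoidHom.mem_ker, map_commutatorElement]
    exact commutatorElement_eq_one_iff_mul_comm.2
      (Subtype.ext (hab _ (Subtype.prop _) _ (Subtype.prop _)))
  rw [hker] at hc
  exact Subgroup.isComplement'_top_left.1 hc

variable [Finite G]

theorem centralizes_of_mem {H M T : Subgroup G} (hMn : H ≤ normalizer (M : Set G)) (hMab : Ab M)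
    (hTH : T ≤ H) (hT : H ≤ normalizer (T : Set G)) {p : ℕ} (hTp : IsPGroup p T) {n : G}
    (hn : n ∈ M) (hnH : n ∈ H) (hco : (orderOf n).Coprime p) : n ∈ centralizer (T : Set G) := by
  refine mem_centralizer_iff.2 fun q hq => ?_
  set c := n * q * n⁻¹ * q⁻¹ with hc
  have hcM : c ∈ M := by
    have := (mem_normalizer_iff.1 (hMn (hTH hq)) n⁻¹).1 (inv_mem hn)
    have e : c = n * (q * n⁻¹ * q⁻¹) := by rw [hc]; group
    exact e ▸ mul_mem hn this
  have hcT : c ∈ T := mul_mem ((mem_normalizer_iff.1 (hT hnH) q).1 hq) (inv_mem hq)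
  have hnc : n * c = c * n := hMab n hn c hcM
  have key : ∀ i : ℕ, n ^ i * q * (n ^ i)⁻¹ = c ^ i * q := by
    intro i
    induction i with
    | zero => simp
    | succ i ih =>
      calc n ^ (i + 1) * q * (n ^ (i + 1))⁻¹ = n * (n ^ i * q * (n ^ i)⁻¹) * n⁻¹ := by
            rw [pow_succ' n i]; group
        _ = n * c ^ i * n⁻¹ * (n * q * n⁻¹) := by rw [ih]; group
        _ = c ^ i * (c * q) := by
            rw [(Commute.pow_right (show Commute n c from hnc) i).eq,
              show c * q = n * q * n⁻¹ by rw [hc]; group]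
            group
        _ = c ^ (i + 1) * q := by rw [pow_succ]; exact (mul_assoc _ _ _).symm
  have h1 := key (orderOf n)
  rw [pow_orderOf_eq_one, one_mul, inv_one, mul_one] at h1
  have h2 : c ^ orderOf n = 1 := right_eq_mul.1 h1
  obtain ⟨k, hk⟩ := hTp ⟨c, hcT⟩
  have h3 : c ^ p ^ k = 1 := congrArg Subtype.val hk
  have hc1 : c = 1 := orderOf_eq_one_iff.1 (Nat.eq_one_of_dvd_coprimes (hco.pow_right k)
    (orderOf_dvd_of_pow_eq_one h2) (orderOf_dvd_of_pow_eq_one h3))
  rw [hc, mul_inv_eq_one, mul_inv_eq_iff_eq_mul] at hc1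
  exact hc1.symm

section sylow

variable (hG : NSN G) {p : ℕ} [hp : Fact p.Prime]
include hG

theorem local_central (hSyl : ∀ P : Sylow p G, ¬ Ab (P : Subgroup G)) :
    ∀ (d : ℕ) (T : Subgroup G), Nat.card G - Nat.card T ≤ d → IsPGroup p T → Ab T →
      ∀ n ∈ normalizer (T : Set G), (orderOf n).Coprime p → n ∈ centralizer (T : Set G) := by
  intro d
  induction d using Nat.strong_induction_on with
  | _ d IH =>
    intro T hd hTp hTab n hn hco
    set H := normalizer (T : Set G) with hH
    have hTH : T ≤ H := le_normalizer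
    by_cases hHab : Ab H
    · exact mem_centralizer_iff.2 fun q hq => hHab q (hTH hq) n hn
    obtain ⟨P0, hP0⟩ := ((hTp.of_equiv (Subgroup.subgroupOfEquivOfLe hTH).symm).exists_le_sylow)
    set P := (P0 : Subgroup H).map H.subtype with hP
    have hPH : P ≤ H := Subgroup.map_subtype_le _
    have hPp : IsPGroup p P := P0.isPGroup'.map H.subtype
    have hTP : T ≤ P := fun q hq => ⟨⟨q, hTH hq⟩, hP0 hq, rfl⟩
    -- the step through a normal abelian Sylow subgroup
    have step : Ab P → H ≤ normalizer (P : Set G) → n ∈ centralizer (T : Set G) := by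
      intro hPab hPn
      by_cases hne : Nat.card P ≤ Nat.card T
      · exfalso
        have hTeq : T = P := Subgroup.eq_of_le_of_card_ge hTP hne
        obtain ⟨S, hS⟩ := hTp.exists_le_sylow
        have hne' : T ≠ (S : Subgroup G) := fun e => hSyl S (e ▸ hTab)
        haveI : Group.IsNilpotent (S : Subgroup G) := S.isPGroup'.isNilpotent
        have hlt := Group.normalizerCondition_of_isNilpotent (T.subgroupOf (S : Subgroup G))
          (lt_top_iff_ne_top.2 fun e => hne' (le_antisymm hS (Subgroup.subgroupOf_eq_top.1 e)))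
        obtain ⟨x, hx, hxT⟩ := SetLike.exists_of_lt hlt
        have hxH : (x : G) ∈ H := by
          rw [hH, mem_normalizer_iff]
          intro y
          constructor
          · intro hy
            exact (mem_normalizer_iff.1 hx ⟨y, hS hy⟩).1 hy
          · intro hy
            have := (mem_normalizer_iff.1 (inv_mem hx) ⟨_, hS hy⟩).1 hy
            simpa [Subgroup.mem_subgroupOf, mul_assoc] using this
        -- the normal p-subgroup generated with `x`
        have hQ : IsPGroup p (((S : Subgroup G) ⊓ H).subgroupOf H) :=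
          (S.isPGroup'.to_le (inf_le_left : (S : Subgroup G) ⊓ H ≤ _)).of_equiv
            (Subgroup.subgroupOfEquivOfLe inf_le_right).symm
        have hle : (P0 : Subgroup H) ≤ ((S : Subgroup G) ⊓ H).subgroupOf H := by
          intro y hy
          have hyT : (y : G) ∈ T := by rw [hTeq]; exact ⟨y, hy, rfl⟩
          exact ⟨hS hyT, y.2⟩
        have heq := P0.is_maximal' hQ hle
        have hxP : (x : G) ∈ P := by
          have : (⟨x, hxH⟩ : H) ∈ (P0 : Subgroup H) := heq ▸ ⟨x.2, hxH⟩
          exact ⟨_, this, rfl⟩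
        exact hxT (by rw [Subgroup.mem_subgroupOf, hTeq]; exact hxP)
      · push Not at hne
        have hlt : Nat.card G - Nat.card P < d := by
          have := Subgroup.card_le_card_group P
          omega
        have h := IH _ hlt P le_rfl hPp hPab n (hPn hn) hco
        exact Subgroup.centralizer_le (Set.Subset.trans (fun q hq => hTP hq) subset_rfl) h
    by_cases hperf : commutator H = ⊤
    · set C := H ⊓ centralizer (T : Set G) with hC
      by_cases hCH : H ≤ C
      · exact (hCH hn).2
      have hCn : H ≤ normalizer (C : Set G) := by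
        intro h hh
        rw [mem_normalizer_iff]
        have key : ∀ g ∈ H, ∀ y ∈ C, g * y * g⁻¹ ∈ C := by
          intro g hg y hy
          refine ⟨H.mul_mem (H.mul_mem hg hy.1) (H.inv_mem hg), mem_centralizer_iff.2 fun q hq => ?_⟩
          have hq' : g⁻¹ * q * g ∈ T := by
            have := (mem_normalizer_iff.1 (H.inv_mem hg) q).1 hq
            rwa [inv_inv] at this
          have := mem_centralizer_iff.1 hy.2 _ hq'
          calc q * (g * y * g⁻¹) = g * (g⁻¹ * q * g * y) * g⁻¹ := by group
            _ = g * (y * (g⁻¹ * q * g)) * g⁻¹ := by rw [this]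
            _ = g * y * g⁻¹ * q := by group
        refine fun y => ⟨key h hh y, fun hy => ?_⟩
        simpa [mul_assoc] using key h⁻¹ (inv_mem hh) _ hy
      have hCab : Ab C := normal_ab hG hCn hCH
      by_cases hPab : Ab P
      · -- the Sylow subgroup is the Sylow subgroup of an abelian normal subgroup
        have hPC : P ≤ C := fun y hy =>
          ⟨hPH hy, mem_centralizer_iff.2 fun q hq => hPab q (hTP hq) y hy⟩
        refine step hPab ?_
        intro h hh
        have hle : ∀ g ∈ H, ∀ y ∈ P, g * y * g⁻¹ ∈ P := by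
          rintro g hg _ ⟨y, hy, rfl⟩
          set z : H := ⟨g, hg⟩ * y * ⟨g, hg⟩⁻¹ with hz
          set Pc := (P0 : Subgroup H).map (MulAut.conj (⟨g, hg⟩ : H)).toMonoidHom
          have hzPc : z ∈ Pc := ⟨y, hy, rfl⟩
          have hsub : Pc ≤ (C.subgroupOf H) := by
            rintro _ ⟨w, hw, rfl⟩
            exact (mem_normalizer_iff.1 (hCn hg) (w : G)).1 (hPC ⟨w, hw, rfl⟩)
          have hsub' : (P0 : Subgroup H) ≤ C.subgroupOf H := fun w hw => hPC ⟨w, hw, rfl⟩
          have hcomm : Pc ≤ normalizer ((P0 : Subgroup H) : Set H) := by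
            intro a ha
            refine mem_normalizer_iff.2 fun w => ?_
            have e : ∀ w ∈ (P0 : Subgroup H), a * w * a⁻¹ = w := fun w hw => by
              rw [show a * w = w * a from Subtype.ext (hCab _ (hsub ha) _ (hsub' hw)),
                mul_inv_cancel_right]
            refine ⟨fun hw => by rwa [e w hw], fun hw => ?_⟩
            have h' := e _ hw
            have : a * w * a⁻¹ = w := mul_left_cancel (mul_right_cancel h')
            rwa [this] at hw
          have hsup : IsPGroup p ((P0 : Subgroup H) ⊔ Pc : Subgroup H) :=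
            P0.isPGroup'.to_sup_of_normal_left' (P0.isPGroup'.map _) hcomm
          have heq := P0.is_maximal' hsup le_sup_left
          exact ⟨z, heq ▸ (le_sup_right : Pc ≤ _) hzPc, rfl⟩
        refine mem_normalizer_iff.2 fun y => ⟨hle h hh y, fun hy => ?_⟩
        simpa [mul_assoc] using hle h⁻¹ (inv_mem hh) _ hy
      · exfalso
        -- the image of the Sylow subgroup modulo `C`
        set K := C.subgroupOf H
        haveI : K.Normal := ⟨fun y hy g => (mem_normalizer_iff.1 (hCn g.2) (y : G)).1 hy⟩
        let Pb := P0.mapSurjective (QuotientGroup.mk'_surjective K)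
        have hPb : (Pb : Subgroup (H ⧸ K)) = (P0 : Subgroup H).map (QuotientGroup.mk' K) :=
          Sylow.coe_mapSurjective _ P0
        have hcent : ∀ a ∈ (P0 : Subgroup H), ∀ b ∈ (P0 : Subgroup H), ⁅a, b⁆ ∈ K := by
          intro a ha b hb
          have hc := comm_central hG hPp hPab
            (Subgroup.commutator_mem_commutator
              (Subgroup.mem_top (⟨(a : G), ⟨a, ha, rfl⟩⟩ : P))
              (Subgroup.mem_top (⟨(b : G), ⟨b, hb, rfl⟩⟩ : P)))
          refine ⟨(⁅a, b⁆ : H).2, mem_centralizer_iff.2 fun q hq => ?_⟩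
          have := congrArg Subtype.val (Subgroup.mem_center_iff.1 hc ⟨q, hTP hq⟩)
          exact this
        have hab : Ab (Pb : Subgroup (H ⧸ K)) := by
          rw [hPb]
          rintro _ ⟨a, ha, rfl⟩ _ ⟨b, hb, rfl⟩
          rw [← commutatorElement_eq_one_iff_mul_comm, ← map_commutatorElement,
            QuotientGroup.mk'_apply, QuotientGroup.eq_one_iff]
          exact hcent a ha b hb
        have hperf' : commutator (H ⧸ K) = ⊤ := by
          rw [_root_.commutator, ← Subgroup.map_top_of_surjective (QuotientGroup.mk' K)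
            (QuotientGroup.mk'_surjective K), ← Subgroup.map_commutator, ← _root_.commutator,
            hperf]
        have hnorm : normalizer ((Pb : Subgroup (H ⧸ K)) : Set (H ⧸ K)) ≤
            (Pb : Subgroup (H ⧸ K)) := by
          intro g hg
          obtain ⟨x, rfl⟩ := QuotientGroup.mk'_surjective K g
          set L := (Pb : Subgroup (H ⧸ K)).comap (QuotientGroup.mk' K) with hL
          have hP0L : (P0 : Subgroup H) ≤ L := fun y hy => by
            rw [hL, Subgroup.mem_comap, hPb]; exact ⟨y, hy, rfl⟩
          have hx : x ∈ normalizer (L : Set H) := mem_normalizer_iff.2 fun y => by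
            simp only [hL, Subgroup.mem_comap, map_mul, map_inv]
            exact mem_normalizer_iff.1 hg _
          -- Frattini argument
          haveI : (L.subgroupOf (normalizer (L : Set H))).Normal := normal_in_normalizer
          let P1 : Sylow p L := P0.subtype hP0L
          let e := Subgroup.subgroupOfEquivOfLe (le_normalizer : L ≤ normalizer (L : Set H))
          have hmul : ∀ y : H, y ∈ normalizer (L : Set H) → ∃ l ∈ L,
              l⁻¹ * y ∈ normalizer ((P0 : Subgroup H) : Set H) := by
            intro y hy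
            have hconjle : (P0 : Subgroup H).map (MulAut.conj y).toMonoidHom ≤ L := by
              rintro _ ⟨w, hw, rfl⟩
              exact (mem_normalizer_iff.1 hy w).1 (hP0L hw)
            let P2 : Sylow p L := (y • P0).subtype hconjle
            obtain ⟨l, hl⟩ := MulAction.exists_smul_eq L P1 P2
            refine ⟨l, l.2, ?_⟩
            refine Sylow.smul_eq_iff_mem_normalizer.1 ?_
            rw [mul_smul]
            have h2 : ((l : H) • P0) = y • P0 := by
              refine Sylow.ext ?_
              have h3 := congrArg (fun Q : Sylow p L => (Q : Subgroup L).map L.subtype) hl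
              simp only [P1, P2, Sylow.coe_subtype, Subgroup.subgroupOf_map_subtype] at h3
              have h4 : ((l • P0.subtype hP0L : Sylow p L) : Subgroup L).map L.subtype =
                  (((l : H) • P0 : Sylow p H) : Subgroup H) := by
                ext z
                constructor
                · rintro ⟨_, ⟨w, hw, rfl⟩, rfl⟩
                  exact ⟨(w : H), hw, rfl⟩
                · rintro ⟨w, hw, rfl⟩
                  exact ⟨_, ⟨⟨w, hP0L hw⟩, hw, rfl⟩, rfl⟩
              rw [← h4, h3]
              ext z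
              constructor
              · rintro ⟨w, hw, rfl⟩
                exact hw
              · intro hz
                exact ⟨⟨z, hconjle hz⟩, hz, rfl⟩
            rw [← h2, inv_smul_smul]
          obtain ⟨l, hl, hlx⟩ := hmul x hx
          have hself : (l⁻¹ * x : H) ∈ (P0 : Subgroup H) := by
            have : ((l⁻¹ * x : H) : G) ∈ P := by
              refine self_norm hG hPab (mem_normalizer_iff.2 fun w => ⟨?_, ?_⟩)
              · rintro ⟨v, hv, rfl⟩
                exact ⟨_, (mem_normalizer_iff.1 hlx v).1 hv, rfl⟩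
              · rintro ⟨v, hv, e⟩
                refine ⟨_, (mem_normalizer_iff.1 (inv_mem hlx) v).1 hv, ?_⟩
                simp only [map_mul, map_inv, e]
                simp [mul_assoc]
            obtain ⟨v, hv, e⟩ := this
            exact Subtype.ext e ▸ hv
          have : x ∈ L := by
            have := mul_mem hl (hP0L hself)
            rwa [mul_inv_cancel_left] at this
          exact this
        have h0 := sylow_eq_bot hperf' Pb hab hnorm
        rw [hPb] at h0
        refine hPab fun a ha b hb => hCab a ?_ b ?_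
        all_goals
          first
          | (obtain ⟨a, ha', rfl⟩ := ha
             exact (QuotientGroup.eq_one_iff a).1
               ((Subgroup.eq_bot_iff_forall _).1 h0 _ ⟨a, ha', rfl⟩))
          | (obtain ⟨b, hb', rfl⟩ := hb
             exact (QuotientGroup.eq_one_iff b).1
               ((Subgroup.eq_bot_iff_forall _).1 h0 _ ⟨b, hb', rfl⟩))
    · obtain ⟨M, hMH, hMn, hMab, -, -, r, hr, hridx, hpow⟩ := exists_max hG hperf
      by_cases hnM : n ∈ M
      · exact centralizes_of_mem hMn hMab hTH (by rw [hH]) hTp hnM hn hco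
      -- the index is prime to p
      have hrp : r ≠ p := by
        rintro rfl
        refine hnM ?_
        obtain ⟨a, b, hab⟩ : ∃ a b : ℤ, (orderOf n : ℤ) * a + (r : ℤ) * b = 1 :=
          ⟨_, _, by rw [← Nat.gcd_eq_gcd_ab, hco.gcd_eq_one]; rfl⟩
        have e : n = (n ^ r) ^ b := by
          conv_lhs => rw [← zpow_one n, ← hab, zpow_add, zpow_mul, zpow_natCast, pow_orderOf_eq_one,
            one_zpow, one_mul, zpow_mul, zpow_natCast]
        exact e ▸ zpow_mem (hpow n hn) b
      have hPM : P ≤ M := by
        intro y hy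
        obtain ⟨k, hk⟩ := hPp ⟨y, hy⟩
        have hy1 : y ^ p ^ k = 1 := congrArg Subtype.val hk
        obtain ⟨a, b, hab⟩ : ∃ a b : ℤ, ((p ^ k : ℕ) : ℤ) * a + (r : ℤ) * b = 1 :=
          ⟨_, _, by
            rw [← Nat.gcd_eq_gcd_ab,
              (Nat.Coprime.pow_left k ((Nat.coprime_primes hp.out hr).2 (Ne.symm hrp))).gcd_eq_one]
            rfl⟩
        have e : y = (y ^ r) ^ b := by
          conv_lhs => rw [← zpow_one y, ← hab, zpow_add, zpow_mul, zpow_natCast, hy1,
            one_zpow, one_mul, zpow_mul, zpow_natCast]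
        exact e ▸ zpow_mem (hpow y (hPH hy)) b
      refine step (fun a ha b hb => hMab a (hPM ha) b (hPM hb)) ?_
      intro h hh
      have hle : ∀ g ∈ H, ∀ y ∈ P, g * y * g⁻¹ ∈ P := by
        rintro g hg _ ⟨y, hy, rfl⟩
        set z : H := ⟨g, hg⟩ * y * ⟨g, hg⟩⁻¹ with hz
        set Pc := (P0 : Subgroup H).map (MulAut.conj (⟨g, hg⟩ : H)).toMonoidHom
        have hzPc : z ∈ Pc := ⟨y, hy, rfl⟩
        have hsub : Pc ≤ (M.subgroupOf H) := by
          rintro _ ⟨w, hw, rfl⟩
          exact (mem_normalizer_iff.1 (hMn hg) (w : G)).1 (hPM ⟨w, hw, rfl⟩)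
        have hsub' : (P0 : Subgroup H) ≤ M.subgroupOf H := fun w hw => hPM ⟨w, hw, rfl⟩
        have hcomm : Pc ≤ normalizer ((P0 : Subgroup H) : Set H) := by
          intro a ha
          refine mem_normalizer_iff.2 fun w => ?_
          have e : ∀ w ∈ (P0 : Subgroup H), a * w * a⁻¹ = w := fun w hw => by
            rw [show a * w = w * a from Subtype.ext (hMab _ (hsub ha) _ (hsub' hw)),
              mul_inv_cancel_right]
          refine ⟨fun hw => by rwa [e w hw], fun hw => ?_⟩
          have h' := e _ hw
          have : a * w * a⁻¹ = w := mul_left_cancel (mul_right_cancel h')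
          rwa [this] at hw
        have hsup : IsPGroup p ((P0 : Subgroup H) ⊔ Pc : Subgroup H) :=
          P0.isPGroup'.to_sup_of_normal_left' (P0.isPGroup'.map _) hcomm
        have heq := P0.is_maximal' hsup le_sup_left
        exact ⟨z, heq ▸ (le_sup_right : Pc ≤ _) hzPc, rfl⟩
      refine mem_normalizer_iff.2 fun y => ⟨hle h hh y, fun hy => ?_⟩
      simpa [mul_assoc] using hle h⁻¹ (inv_mem hh) _ hy

/-- Sylow subgroups of a simple such group are abelian. -/
theorem sylow_ab [IsSimpleGroup G] (hnc : ¬ ∀ a b : G, Commute a b) (P : Sylow p G) :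
    Ab (P : Subgroup G) := by
  by_contra hne
  have hall : ∀ S : Sylow p G, ¬ Ab (S : Subgroup G) := by
    intro S hS
    obtain ⟨g, hg⟩ := MulAction.exists_smul_eq G S P
    refine hne ?_
    rw [← hg]
    rintro _ ⟨a, ha, rfl⟩ _ ⟨b, hb, rfl⟩
    show MulAut.conj g a * MulAut.conj g b = MulAut.conj g b * MulAut.conj g a
    rw [← map_mul, ← map_mul, hS a ha b hb]
  obtain ⟨P', N, hN, hc⟩ := TransferAlperin.hasNormalPComplement_of_local P
    fun T hTP _ _ _ n hn hco => by
      have hTp : IsPGroup p T := P.isPGroup'.to_le hTP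
      by_cases hTab : Ab T
      · exact local_central hG hall _ T le_rfl hTp hTab n hn hco
      · obtain ⟨k, hk⟩ := hTp ⟨n, self_norm hG hTab hn⟩
        have h3 : n ^ p ^ k = 1 := congrArg Subtype.val hk
        have : n = 1 := orderOf_eq_one_iff.1 (Nat.eq_one_of_dvd_coprimes (hco.pow_right k)
          dvd_rfl (orderOf_dvd_of_pow_eq_one h3))
        subst this
        exact one_mem _
  rcases IsSimpleGroup.eq_bot_or_eq_top_of_normal N hN with e | e
  · rw [e, Subgroup.isComplement'_bot_left] at hc
    haveI : Group.IsNilpotent G := by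
      have : IsPGroup p (⊤ : Subgroup G) := hc ▸ P'.isPGroup'
      exact (this.of_equiv Subgroup.topEquiv).isNilpotent
    exact hnc fun a b => IsSimpleGroup.comm_iff_isSolvable.2 inferInstance a b
  · rw [e, Subgroup.isComplement'_top_left] at hc
    refine hall P' ?_
    intro a ha b hb
    rw [(Subgroup.eq_bot_iff_forall _).1 hc a ha, one_mul, mul_one]

end sylow

end Cfsg.Agent.NSNGroups22
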