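import Mathlib
import Cfsg.Agent.Lib.NSNGroups22

/-!
In a simple group in which every non-abelian subgroup is self-normalising, commuting is transitive.
-/

set_option autoImplicit false

namespace Cfsg.Agent.NSNSimple22

open Subgroup Cfsg.Agent.NSNGroups22
open Cfsg.Agent.CAGroupStructure22 (cen mem_cen CA)
open scoped commutatorElement Pointwise

variable {G : Type*} [Group G] [Finite G]

theorem mem_normalizer_of_forall_mem {I : Subgroup G} {y : G}
    (h : ∀ x ∈ I, y * x * y⁻¹ ∈ I) : y ∈ normalizer (I : Set G) := by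
  refine mem_normalizer_iff.2 fun x => ⟨h x, fun hx => ?_⟩
  let f : I → I := fun z => ⟨y * z.1 * y⁻¹, h _ z.2⟩
  have hf : Function.Injective f := fun a b e => Subtype.ext
    (mul_left_cancel (mul_right_cancel (congrArg Subtype.val e)))
  obtain ⟨z, hz⟩ := (Finite.injective_iff_surjective.1 hf) ⟨_, hx⟩
  exact (mul_left_cancel (mul_right_cancel (congrArg Subtype.val hz))) ▸ z.2

theorem pow_eq_self_of_coprime {x : G} {m r : ℕ} (hm : x ^ m = 1) (hco : m.Coprime r) :
    ∃ b : ℤ, x = (x ^ r) ^ b := by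
  obtain ⟨a, b, hab⟩ : ∃ a b : ℤ, (m : ℤ) * a + (r : ℤ) * b = 1 :=
    ⟨_, _, by rw [← Nat.gcd_eq_gcd_ab, hco.gcd_eq_one]; rfl⟩
  refine ⟨b, ?_⟩
  conv_lhs => rw [← zpow_one x, ← hab, zpow_add, zpow_mul, zpow_natCast, hm, one_zpow, one_mul,
    zpow_mul, zpow_natCast]

theorem eq_one_of_coprime {x : G} {m r : ℕ} (hm : x ^ m = 1) (hr : x ^ r = 1) (hco : m.Coprime r) :
    x = 1 := by
  obtain ⟨b, hb⟩ := pow_eq_self_of_coprime hm hco
  rw [hb, hr, one_zpow]

/-- A central element of an abelian Sylow subgroup of a perfect group is trivial. -/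
theorem central_eq_one {K : Type*} [Group K] [Finite K] (hperf : commutator K = ⊤) {p : ℕ}
    [Fact p.Prime] (P : Sylow p K) (hab : Ab (P : Subgroup K)) {a : K} (ha : a ∈ (P : Subgroup K))
    (hkey : ∀ (k : ℕ) (g : K), g⁻¹ * a ^ k * g ∈ (P : Subgroup K) → g⁻¹ * a ^ k * g = a ^ k) :
    a = 1 := by
  haveI : IsMulCommutative (P : Subgroup K) := ab_iff.1 hab
  open scoped IsMulCommutative in
  have h := MonoidHom.transfer_eq_pow (MonoidHom.id (P : Subgroup K)) a hkey
  have htriv : ∀ f : K →* (P : Subgroup K), f a = 1 := by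
    intro f
    have : a ∈ f.ker := by
      have hle : commutator K ≤ f.ker := by
        rw [_root_.commutator, Subgroup.commutator_le]
        intro x _ y _
        rw [MonoidHom.mem_ker, map_commutatorElement]
        exact commutatorElement_eq_one_iff_mul_comm.2
          (Subtype.ext (hab _ (Subtype.prop _) _ (Subtype.prop _)))
      exact hle (hperf ▸ Subgroup.mem_top a)
    exact this
  rw [htriv] at h
  have h1 : a ^ (P : Subgroup K).index = 1 := (congrArg Subtype.val h).symm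
  obtain ⟨k, hk⟩ := P.isPGroup' ⟨a, ha⟩
  refine eq_one_of_coprime h1 (congrArg Subtype.val hk) (Nat.Coprime.pow_right k ?_)
  exact ((Fact.out : p.Prime).coprime_iff_not_dvd.2 P.not_dvd_index).symm

variable (hG : NSN G) (hnc : ¬ ∀ a b : G, Commute a b) [IsSimpleGroup G]
include hG hnc

omit hG in
theorem perfect : commutator G = ⊤ := by
  rcases IsSimpleGroup.eq_bot_or_eq_top_of_normal (commutator G) inferInstance with e | e
  · exact absurd (fun a b => commutatorElement_eq_one_iff_mul_comm.1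
      ((Subgroup.eq_bot_iff_forall _).1 e _
        (Subgroup.commutator_mem_commutator (Subgroup.mem_top a) (Subgroup.mem_top b)))) hnc
  · exact e

/-- Centralisers of elements of prime order are abelian. -/
theorem cen_ab {a : G} {q : ℕ} [hq : Fact q.Prime] (ha : orderOf a = q) : Ab (cen a) := by
  by_contra hH
  have ha1 : a ≠ 1 := by
    rintro rfl
    rw [orderOf_one] at ha
    exact hq.out.ne_one ha.symm
  set H := cen a with hHdef
  have haH : a ∈ H := mem_cen.2 (Commute.refl a)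
  have hca : ∀ h ∈ H, Commute h a := fun h hh => mem_cen.1 hh
  by_cases hperf : commutator H = ⊤
  · -- transfer inside the centraliser
    have hag : IsPGroup q (zpowers (⟨a, haH⟩ : H)) := IsPGroup.of_card (n := 1)
      (by rw [Nat.card_zpowers, Subgroup.orderOf_mk, ha, pow_one])
    obtain ⟨P, hP⟩ := hag.exists_le_sylow
    obtain ⟨S, hS⟩ := (P.isPGroup'.map H.subtype).exists_le_sylow
    have hSab := sylow_ab hG hnc S
    have := central_eq_one hperf P
      (fun x hx y hy => Subtype.ext (hSab x.1 (hS ⟨x, hx, rfl⟩) y.1 (hS ⟨y, hy, rfl⟩)))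
      (hP (mem_zpowers _)) (fun k g _ => by
        have : Commute (g : H) ((⟨a, haH⟩ : H) ^ k) :=
          (show Commute g (⟨a, haH⟩ : H) from Subtype.ext (hca g g.2).eq).pow_right k
        rw [mul_assoc, ← this.eq, inv_mul_cancel_left])
    exact ha1 (congrArg Subtype.val this)
  obtain ⟨M, hMH, hMn, hMab, hMne, hmax, r, hr, hridx, hpow⟩ := exists_max hG hperf
  have := Fact.mk hr
  have haM : a ∈ M := by
    by_contra haM
    have hle : M ⊔ zpowers a ≤ H := sup_le hMH (zpowers_le.2 haH)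
    rcases hmax _ le_sup_left hle with e | e
    · exact haM (e ▸ (le_sup_right : zpowers a ≤ _) (mem_zpowers a))
    · refine hH ?_
      rw [← e, sup_eq_closure]
      intro x hx y hy
      exact congrArg Subtype.val ((Subgroup.isMulCommutative_closure (k := ((M : Set G) ∪ zpowers a))
        (by
          rintro u (hu | hu) v (hv | hv)
          · exact hMab u hu v hv
          · obtain ⟨i, rfl⟩ := mem_zpowers_iff.1 hv
            exact ((hca u (hMH hu)).zpow_right i).eq
          · obtain ⟨i, rfl⟩ := mem_zpowers_iff.1 hu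
            exact ((hca v (hMH hv)).zpow_right i).eq.symm
          · obtain ⟨i, rfl⟩ := mem_zpowers_iff.1 hu
            obtain ⟨j, rfl⟩ := mem_zpowers_iff.1 hv
            exact ((Commute.refl a).zpow_zpow i j).eq)).is_comm.comm ⟨x, hx⟩ ⟨y, hy⟩)
  -- an `r`-element outside `M`
  obtain ⟨y, hyH, hyM, hyr⟩ : ∃ y ∈ H, y ∉ M ∧ ∃ k, y ^ r ^ k = 1 := by
    by_contra hall
    push Not at hall
    obtain ⟨R⟩ := (inferInstance : Nonempty (Sylow r H))
    have hRM : (R : Subgroup H) ≤ M.subgroupOf H := by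
      intro x hx
      obtain ⟨k, hk⟩ := R.isPGroup' ⟨x, hx⟩
      by_contra hxM
      refine hall x.1 x.2 hxM k ?_
      have := congrArg (fun z : (R : Subgroup H) => ((z : H) : G)) hk
      simpa using this
    have h1 := Subgroup.index_dvd_of_le hRM
    rw [show (M.subgroupOf H).index = M.relIndex H from rfl, hridx] at h1
    exact R.not_dvd_index h1
  obtain ⟨R0, hR0⟩ : ∃ R0 : Sylow r H, (⟨y, hyH⟩ : H) ∈ (R0 : Subgroup H) := by
    obtain ⟨k, hk⟩ := hyr
    obtain ⟨n, hn, ho⟩ := (Nat.dvd_prime_pow hr).1 (orderOf_dvd_of_pow_eq_one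
      (show (⟨y, hyH⟩ : H) ^ r ^ k = 1 from Subtype.ext hk))
    obtain ⟨R0, hR0⟩ := (IsPGroup.of_card (p := r) (n := n)
      (show Nat.card (zpowers (⟨y, hyH⟩ : H)) = r ^ n by rw [Nat.card_zpowers, ho])).exists_le_sylow
    exact ⟨R0, hR0 (mem_zpowers _)⟩
  obtain ⟨R1, hR1⟩ := (R0.isPGroup'.map H.subtype).exists_le_sylow
  have hR1ab := sylow_ab hG hnc R1
  have hyR1 : y ∈ (R1 : Subgroup G) := hR1 ⟨_, hR0, rfl⟩
  -- elements of `r`-power order in `M` commute with `y`
  have hR0M : ∀ x ∈ M, ∀ k, x ^ r ^ k = 1 → x ∈ (R1 : Subgroup G) ∧ Commute y x := by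
    intro x hx k hk
    set MH := M.subgroupOf H with hMHdef
    haveI : MH.Normal := ⟨fun z hz g => (mem_normalizer_iff.1 (hMn g.2) (z : G)).1 hz⟩
    have hxz : IsPGroup r (zpowers (⟨x, hMH hx⟩ : H)) := by
      intro z
      obtain ⟨i, hi⟩ := mem_zpowers_iff.1 z.2
      refine ⟨k, Subtype.ext ?_⟩
      have hk' : (⟨x, hMH hx⟩ : H) ^ r ^ k = 1 := Subtype.ext hk
      push_cast
      rw [← hi, ← zpow_natCast, ← zpow_mul, mul_comm, zpow_mul, zpow_natCast, hk', one_zpow]
    obtain ⟨R', hR'⟩ := hxz.exists_le_sylow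
    obtain ⟨g, hg⟩ := MulAction.exists_smul_eq H R' R0
    have hgx : g * ⟨x, hMH hx⟩ * g⁻¹ ∈ (R0 : Subgroup H) := by
      rw [← hg]
      exact ⟨_, hR' (mem_zpowers _), rfl⟩
    -- conjugation by `H` fixes the `r`-elements of `M` up to conjugation by `y`
    have hx' : (g : G) * x * (g : G)⁻¹ ∈ (R1 : Subgroup G) := hR1 ⟨_, hgx, rfl⟩
    have hsub : ∀ g ∈ H, ∀ z ∈ M, Commute y z → Commute y (g * z * g⁻¹) := by
      intro g hg z hz hyz
      -- `H` is generated by `M` and `y`
      have hgen : M ⊔ zpowers y = H := by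
        rcases hmax _ le_sup_left (sup_le hMH (zpowers_le.2 hyH)) with e | e
        · exact absurd (e ▸ (le_sup_right : zpowers y ≤ _) (mem_zpowers y)) hyM
        · exact e
      have hcen : z ∈ centralizer (H : Set G) := by
        rw [← hgen, sup_eq_closure, centralizer_closure]
        refine mem_centralizer_iff.2 ?_
        rintro u (hu | hu)
        · exact hMab u hu z hz
        · obtain ⟨i, rfl⟩ := mem_zpowers_iff.1 hu
          exact (hyz.zpow_left i).eq
      rwa [mem_centralizer_iff.1 hcen g hg, mul_inv_cancel_right]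
    have hxM' : (g : G) * x * (g : G)⁻¹ ∈ M := (mem_normalizer_iff.1 (hMn g.2) x).1 hx
    have hyx' : Commute y ((g : G) * x * (g : G)⁻¹) := hR1ab y hyR1 _ hx'
    have hyx : Commute y x := by
      have := hsub (g : G)⁻¹ (inv_mem g.2) _ hxM' hyx'
      simpa [mul_assoc] using this
    refine ⟨?_, hyx⟩
    -- then `x` is central
    have hgen : M ⊔ zpowers y = H := by
      rcases hmax _ le_sup_left (sup_le hMH (zpowers_le.2 hyH)) with e | e
      · exact absurd (e ▸ (le_sup_right : zpowers y ≤ _) (mem_zpowers y)) hyM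
      · exact e
    have hcen : x ∈ centralizer (H : Set G) := by
      rw [← hgen, sup_eq_closure, centralizer_closure]
      refine mem_centralizer_iff.2 ?_
      rintro u (hu | hu)
      · exact hMab u hu x hx
      · obtain ⟨i, rfl⟩ := mem_zpowers_iff.1 hu
        exact (hyx.zpow_left i).eq
    rwa [mem_centralizer_iff.1 hcen g g.2, mul_inv_cancel_right] at hx'
  have hgen : M ⊔ zpowers y = H := by
    rcases hmax _ le_sup_left (sup_le hMH (zpowers_le.2 hyH)) with e | e
    · exact absurd (e ▸ (le_sup_right : zpowers y ≤ _) (mem_zpowers y)) hyM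
    · exact e
  have hym : ∀ m ∈ M, y * m * y⁻¹ ∈ M := fun m hm => (mem_normalizer_iff.1 (hMn hyH) m).1 hm
  have hcomm : ∀ u ∈ M, ∀ v ∈ M, u * v = v * u := hMab
  let φ : M →* M :=
    { toFun := fun m => ⟨y * m.1 * y⁻¹ * m.1⁻¹, mul_mem (hym _ m.2) (inv_mem m.2)⟩
      map_one' := Subtype.ext (by simp)
      map_mul' := fun u v => Subtype.ext (by
        show y * (u.1 * v.1) * y⁻¹ * (u.1 * v.1)⁻¹ =
          y * u.1 * y⁻¹ * u.1⁻¹ * (y * v.1 * y⁻¹ * v.1⁻¹)
        rw [hcomm u.1 u.2 v.1 v.2]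
        calc y * (v.1 * u.1) * y⁻¹ * (v.1 * u.1)⁻¹
            = y * v.1 * y⁻¹ * (y * u.1 * y⁻¹ * u.1⁻¹) * v.1⁻¹ := by group
          _ = y * u.1 * y⁻¹ * u.1⁻¹ * (y * v.1 * y⁻¹) * v.1⁻¹ := by
            rw [hcomm _ (hym _ v.2) _ (mul_mem (hym _ u.2) (inv_mem u.2))]
          _ = _ := by group) }
  have hyr' : y ^ r ∈ M := hpow y hyH
  -- `φ` is injective on its image
  have hφφ : ∀ m : M, Commute y (φ m : G) → φ m = 1 := by
    intro m hm
    have key : ∀ i : ℕ, y ^ i * m.1 * (y ^ i)⁻¹ = (φ m : G) ^ i * m.1 := by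
      intro i
      induction i with
      | zero => simp
      | succ i ih =>
        calc y ^ (i + 1) * m.1 * (y ^ (i + 1))⁻¹ = y * (y ^ i * m.1 * (y ^ i)⁻¹) * y⁻¹ := by
              rw [pow_succ' y i]; group
          _ = y * (φ m : G) ^ i * y⁻¹ * (y * m.1 * y⁻¹) := by rw [ih]; group
          _ = (φ m : G) ^ i * ((φ m : G) * m.1) := by
              rw [(hm.pow_right i).eq,
                show (φ m : G) * m.1 = y * m.1 * y⁻¹ by
                  show y * m.1 * y⁻¹ * m.1⁻¹ * m.1 = _; group]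
              group
          _ = (φ m : G) ^ (i + 1) * m.1 := by rw [pow_succ]; exact (mul_assoc _ _ _).symm
    have h1 := key r
    rw [hcomm _ hyr' _ m.2, mul_inv_cancel_right] at h1
    have hφr : φ m ^ r = 1 := Subtype.ext (by simpa using (right_eq_mul.1 h1))
    -- killing the prime-to-`r` part
    obtain ⟨e, s, hs, hcard⟩ : ∃ e s : ℕ, ¬ r ∣ s ∧ Nat.card M = r ^ e * s :=
      Nat.exists_eq_pow_mul_and_not_dvd (Nat.card_pos (α := M)).ne' r hr.ne_one
    have hms : φ (m ^ s) = 1 := by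
      have hpow' : ((m ^ s : M) : G) ^ r ^ e = 1 := by
        rw [SubmonoidClass.coe_pow, ← pow_mul, mul_comm, ← hcard, ← SubmonoidClass.coe_pow,
          pow_card_eq_one', OneMemClass.coe_one]
      have hc := (hR0M _ (m ^ s).2 e hpow').2
      refine Subtype.ext ?_
      show y * (m ^ s : M).1 * y⁻¹ * ((m ^ s : M).1)⁻¹ = 1
      rw [hc.eq, mul_inv_cancel_right, mul_inv_cancel]
    rw [map_pow] at hms
    exact Subtype.ext (eq_one_of_coprime (congrArg Subtype.val hms) (congrArg Subtype.val hφr)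
      (hr.coprime_iff_not_dvd.2 hs).symm)
  -- the normal subgroup generated by the image and `y`
  have hψ : ∀ m : M, y * (φ m : G) * y⁻¹ = (φ (⟨y * m.1 * y⁻¹, hym _ m.2⟩ : M) : G) := fun m => by
    show y * (y * m.1 * y⁻¹ * m.1⁻¹) * y⁻¹ = y * (y * m.1 * y⁻¹) * y⁻¹ * (y * m.1 * y⁻¹)⁻¹
    group
  set I := φ.range.map M.subtype with hI
  have hIM : I ≤ M := Subgroup.map_subtype_le _
  set S := I ⊔ zpowers y with hS
  have hSH : S = H := by
    have hSle : S ≤ H := sup_le (hIM.trans hMH) (zpowers_le.2 hyH)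
    have hSn : H ≤ normalizer (S : Set G) := by
      rw [← hgen, sup_le_iff, zpowers_le]
      refine ⟨fun m hm => ?_, Subgroup.le_normalizer ((le_sup_right : zpowers y ≤ _) (mem_zpowers y))⟩
      have hIn : ∀ x ∈ I, ∀ m ∈ M, m * x * m⁻¹ = x := fun x hx m hm => by
        rw [hcomm m hm x (hIM hx), mul_inv_cancel_right]
      have hyconj : ∀ m ∈ M, m * y * m⁻¹ ∈ S := fun m hm => by
        have e : m * y * m⁻¹ = ((φ ⟨m, hm⟩ : G))⁻¹ * y := by
          show m * y * m⁻¹ = (y * m * y⁻¹ * m⁻¹)⁻¹ * y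
          group
        exact e ▸ mul_mem (inv_mem ((le_sup_left : I ≤ _) ⟨_, ⟨_, rfl⟩, rfl⟩))
          ((le_sup_right : zpowers y ≤ _) (mem_zpowers y))
      have hto : ∀ m ∈ M, ∀ x ∈ S, m * x * m⁻¹ ∈ S := by
        intro m hm
        suffices S ≤ S.comap (MulAut.conj m).toMonoidHom from fun x hx => this hx
        refine sup_le (fun x hx => ?_) (zpowers_le.2 (hyconj m hm))
        show m * x * m⁻¹ ∈ S
        rw [hIn x hx m hm]
        exact (le_sup_left : I ≤ _) hx
      refine mem_normalizer_iff.2 fun x => ⟨hto m hm x, fun hx => ?_⟩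
      simpa [mul_assoc] using hto m⁻¹ (inv_mem hm) _ hx
    by_contra hne
    have hnle : ¬ H ≤ S := fun h => hne (le_antisymm hSle h)
    have hSab := normal_ab hG hSn hnle
    have htriv : ∀ m : M, φ m = 1 := fun m => hφφ m
      (hSab y ((le_sup_right : zpowers y ≤ _) (mem_zpowers y)) _
        ((le_sup_left : I ≤ _) ⟨_, ⟨m, rfl⟩, rfl⟩))
    refine hH ?_
    rw [← hgen, sup_eq_closure]
    intro u hu v hv
    exact congrArg Subtype.val ((Subgroup.isMulCommutative_closure (k := ((M : Set G) ∪ zpowers y))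
      (by
        have hym' : ∀ w ∈ M, Commute y w := fun w hw => by
          have := congrArg Subtype.val (htriv ⟨w, hw⟩)
          exact mul_inv_eq_iff_eq_mul.1 (mul_inv_eq_one.1 this)
        rintro u (hu | hu) v (hv | hv)
        · exact hMab u hu v hv
        · obtain ⟨i, rfl⟩ := mem_zpowers_iff.1 hv
          exact ((hym' u hu).zpow_left i).eq.symm
        · obtain ⟨i, rfl⟩ := mem_zpowers_iff.1 hu
          exact ((hym' v hv).zpow_left i).eq
        · obtain ⟨i, rfl⟩ := mem_zpowers_iff.1 hu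
          obtain ⟨j, rfl⟩ := mem_zpowers_iff.1 hv
          exact ((Commute.refl y).zpow_zpow i j).eq)).is_comm.comm ⟨u, hu⟩ ⟨v, hv⟩)
  -- central elements of `M` are powers of `y`
  have hcentral : ∀ z ∈ M, Commute y z → ∃ i : ℤ, z = y ^ i := by
    intro z hz hyz
    have hzS : z ∈ S := hSH ▸ hMH hz
    have hyI : y ∈ normalizer (I : Set G) := by
      have hto : ∀ x ∈ I, y * x * y⁻¹ ∈ I := by
        rintro _ ⟨_, ⟨m, rfl⟩, rfl⟩
        exact ⟨_, ⟨_, rfl⟩, (hψ m).symm⟩
      exact mem_normalizer_of_forall_mem hto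
    obtain ⟨u, hu, v, hv, e⟩ : ∃ u ∈ I, ∃ v ∈ zpowers y, u * v = z := by
      have hset : ((I ⊔ zpowers y : Subgroup G) : Set G) = (I : Set G) * (zpowers y : Set G) :=
        Subgroup.coe_mul_of_right_le_normalizer_left I (zpowers y) (zpowers_le.2 hyI)
      have : z ∈ (I : Set G) * (zpowers y : Set G) := hset ▸ hzS
      exact Set.mem_mul.1 this
    obtain ⟨_, ⟨m, rfl⟩, rfl⟩ := hu
    obtain ⟨i, rfl⟩ := mem_zpowers_iff.1 hv
    refine ⟨i, ?_⟩
    have hm : Commute y (φ m : G) := by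
      have : (φ m : G) = z * (y ^ i)⁻¹ := eq_mul_inv_of_mul_eq e
      rw [this]
      exact hyz.mul_right ((Commute.refl y).zpow_right i).inv_right
    rw [← e, hφφ m hm]
    simp
  obtain ⟨i, hai⟩ := hcentral a haM (hca y hyH)
  have hrq : r = q := by
    obtain ⟨k, hk⟩ := hyr
    have h1 : a ^ r ^ k = 1 := by
      rw [hai, ← zpow_natCast, ← zpow_mul, mul_comm, zpow_mul, zpow_natCast, hk, one_zpow]
    have h2 := orderOf_dvd_of_pow_eq_one h1
    rw [ha] at h2
    exact ((Nat.prime_dvd_prime_iff_eq hq.out hr).1 (hq.out.dvd_of_dvd_pow h2)).symm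
  -- the Sylow subgroup is cyclic
  have hR1H : (R1 : Subgroup G) ≤ H := fun x hx =>
    mem_cen.2 (hR1ab x hx a (hai ▸ zpow_mem hyR1 i))
  have hcyc : ∀ x ∈ (R1 : Subgroup G), ∃ j : ℤ, x = y ^ j := by
    intro x hx
    have hxS : x ∈ S := hSH ▸ hR1H hx
    obtain ⟨k, hk⟩ := R1.isPGroup' ⟨x, hx⟩
    have hyI : zpowers y ≤ normalizer (I : Set G) := zpowers_le.2 (by
      have hto : ∀ x ∈ I, y * x * y⁻¹ ∈ I := by
        rintro _ ⟨_, ⟨m, rfl⟩, rfl⟩
        exact ⟨_, ⟨_, rfl⟩, (hψ m).symm⟩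
      exact mem_normalizer_of_forall_mem hto)
    have hset : ((I ⊔ zpowers y : Subgroup G) : Set G) = (I : Set G) * (zpowers y : Set G) :=
      Subgroup.coe_mul_of_right_le_normalizer_left I (zpowers y) hyI
    obtain ⟨u, hu, v, hv, e⟩ := Set.mem_mul.1 (show x ∈ (I : Set G) * (zpowers y : Set G) from
      hset ▸ hxS)
    obtain ⟨j, rfl⟩ := mem_zpowers_iff.1 hv
    have hu' : u ∈ (R1 : Subgroup G) := by
      rw [show u = x * (y ^ j)⁻¹ from eq_mul_inv_of_mul_eq e]
      exact mul_mem hx (inv_mem (zpow_mem hyR1 j))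
    obtain ⟨l, hl⟩ := hcentral u (hIM hu) (hR1ab y hyR1 u hu')
    exact ⟨l + j, by rw [← e, hl, zpow_add]⟩
  -- transfer in the whole group
  refine ha1 (central_eq_one (perfect hnc) R1 hR1ab (hai ▸ zpow_mem hyR1 i) fun k g hg => ?_)
  haveI : IsMulCommutative (R1 : Subgroup G) := ab_iff.1 hR1ab
  obtain ⟨n, hn, e⟩ := R1.conj_eq_normalizer_conj_of_mem (a ^ k) g
    (pow_mem (hai ▸ zpow_mem hyR1 i) k) hg
  rw [e]
  -- the normaliser of the cyclic Sylow subgroup centralises `a`
  obtain ⟨l, hl⟩ := hcyc (n * y * n⁻¹) ((mem_normalizer_iff.1 hn y).1 hyR1)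
  have hna : n * a * n⁻¹ = a ^ l := by
    rw [hai, ← conj_zpow, hl, ← zpow_mul, ← zpow_mul, mul_comm]
  have hnH : n ∈ normalizer (H : Set G) := by
    refine mem_normalizer_of_forall_mem fun h hh => mem_cen.2 ?_
    have hb : Commute (n * h * n⁻¹) (a ^ l) := by
      rw [← hna]
      show n * h * n⁻¹ * (n * a * n⁻¹) = n * a * n⁻¹ * (n * h * n⁻¹)
      calc n * h * n⁻¹ * (n * a * n⁻¹) = n * (h * a) * n⁻¹ := by group
        _ = n * (a * h) * n⁻¹ := by rw [(hca h hh).eq]
        _ = _ := by group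
    have hcop : (l.natAbs).Coprime q := by
      by_contra hc
      rw [Nat.coprime_comm, hq.out.coprime_iff_not_dvd, not_not] at hc
      have : a ^ l = 1 := by
        rw [← orderOf_dvd_iff_zpow_eq_one, ha]
        exact Int.natCast_dvd.2 hc
      rw [this, conj_eq_one_iff] at hna
      exact ha1 hna
    obtain ⟨u, v, huv⟩ : ∃ u v : ℤ, l * u + (q : ℤ) * v = 1 := by
      have : IsCoprime l (q : ℤ) := Int.isCoprime_iff_nat_coprime.2 (by simpa using hcop)
      obtain ⟨u, v, h⟩ := this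
      exact ⟨u, v, by linarith⟩
    have : a = (a ^ l) ^ u := by
      conv_lhs => rw [← zpow_one a, ← huv, zpow_add, zpow_mul, zpow_mul, zpow_natCast,
        ← ha, pow_orderOf_eq_one, one_zpow, mul_one]
    rw [this]
    exact hb.zpow_right u
  have hnc' := (mem_cen.1 (self_norm hG hH hnH))
  rw [mul_assoc, ← ((hnc'.pow_right k)).eq, inv_mul_cancel_left]

/-- Commuting is transitive on nonidentity elements. -/
theorem ca : CA G := by
  intro a b c _ hb _ hab hbc
  obtain ⟨q, hq, hqd⟩ := Nat.exists_prime_and_dvd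
    (show orderOf b ≠ 1 from fun e => hb (orderOf_eq_one_iff.1 e))
  have := Fact.mk hq
  set d := b ^ (orderOf b / q) with hd
  have hdo : orderOf d = q := by
    rw [hd, orderOf_pow_of_dvd (Nat.div_ne_zero_iff.2 ⟨hq.ne_zero,
      Nat.le_of_dvd (orderOf_pos b) hqd⟩) (Nat.div_dvd_of_dvd hqd),
      Nat.div_div_self hqd (orderOf_pos b).ne']
  exact cen_ab hG hnc hdo a (mem_cen.2 (hab.pow_right _)) c (mem_cen.2 (hbc.symm.pow_right _))

end Cfsg.Agent.NSNSimple22
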