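import Mathlib
import Cfsg.Agent.Lib.CAGroupProjective22
import Cfsg.Agent.Lib.NSNSimple22

/-!
In a simple CA group of degree `k + 2` with `k` prime every non-abelian subgroup is self-normalising.
-/

set_option autoImplicit false

namespace Cfsg.Agent.NSNConverse22

open Subgroup Cfsg.Agent.CAGroupStructure22 Cfsg.Agent.CAGroupGeometry22
open Cfsg.Agent.SignalizerStrongEmb (orderOf_eq_two_of_mul_self involution_mul_self involution_ne_one)

variable {G : Type*} [Group G] [Finite G]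

/-- The properties of `PSL(2, 2^n)`, `2^n - 1 = k` prime, that are used. -/
structure Hyp (G : Type*) [Group G] (k : ℕ) : Prop where
  ca : CA G
  nc : ¬ ∀ a b : G, Commute a b
  simple : IsSimpleGroup G
  prime : k.Prime
  kk : ∀ t : G, orderOf t = 2 → Cfg.kk t = k
  inv : ∀ x n : G, x * x ≠ 1 → Commute (n * x * n⁻¹) x → n * x * n⁻¹ = x ∨ n * x * n⁻¹ = x⁻¹

variable {k : ℕ} (P : Hyp G k)
include P

theorem cfg {t : G} (ht : orderOf t = 2) : Cfg t := Cfg.of_ca P.ca ht P.simple P.nc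

theorem sq_ne_of_mem {x : G} (hx : x * x ≠ 1) {y : G} (hy : y ∈ cen x) (hy1 : y ≠ 1) :
    y * y ≠ 1 := by
  intro h
  have hx1 : x ≠ 1 := fun e => hx (by rw [e, one_mul])
  have e := cen_eq P.ca hx1 hy hy1
  exact hx (sq_one (cfg P (orderOf_eq_two_of_mul_self h hy1))
    (e.symm ▸ mem_cen.2 (Commute.refl x)))

theorem inverts {x n : G} (hx : x * x ≠ 1) (hn : n ∈ normalizer (cen x : Set G))
    (hnc : n ∉ cen x) {a : G} (ha : a ∈ cen x) : n * a * n⁻¹ = a⁻¹ := by
  have hx1 : x ≠ 1 := fun e => hx (by rw [e, one_mul])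
  by_cases ha1 : a = 1
  · subst ha1; simp
  refine (P.inv a n (sq_ne_of_mem P hx ha ha1)
    (comm_cen P.ca hx1 ((mem_normalizer_iff.1 hn a).1 ha) ha)).resolve_left fun e => hnc ?_
  rw [← cen_eq P.ca hx1 ha ha1]
  exact mem_cen.2 (mul_inv_eq_iff_eq_mul.1 e)

/-- A subgroup meeting the normaliser of a Sylow two subgroup outside of it. -/
theorem le_or_top {t : G} (ht : orderOf t = 2) {L : Subgroup G} (htL : t ∈ L) {n : G}
    (hnL : n ∈ L) (hn : n ∈ normalizer (cen t : Set G)) (hnM : n ∉ cen t) :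
    L ≤ normalizer (cen t : Set G) ∨ L = ⊤ := by
  have H := cfg P ht
  have hk := P.kk t ht
  haveI hnorm : ((cen t).subgroupOf (normalizer (cen t : Set G))).Normal :=
    Subgroup.normal_in_normalizer
  have hnk : n ^ k ∈ cen t := by
    have := ((cen t).subgroupOf (normalizer (cen t : Set G))).pow_index_mem
      (⟨n, hn⟩ : normalizer (cen t : Set G))
    rw [show ((cen t).subgroupOf (normalizer (cen t : Set G))).index = k from hk] at this
    exact this
  -- the conjugates of `t` fill the centraliser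
  let f : Fin k → {x : ↥(L ⊓ cen t) // x ≠ 1} := fun i =>
    ⟨⟨n ^ (i : ℕ) * t * (n ^ (i : ℕ))⁻¹, L.mul_mem (L.mul_mem (pow_mem hnL _) htL)
      (L.inv_mem (pow_mem hnL _)), Cfg.conj_mem (pow_mem hn _) H.t_mem⟩,
      fun e => conj_ne_one H.t_ne (congrArg Subtype.val e)⟩
  have hlt : ∀ i j : ℕ, j < k → i < j →
      n ^ i * t * (n ^ i)⁻¹ ≠ n ^ j * t * (n ^ j)⁻¹ := by
    intro i j hj hij e
    have h1 : n ^ (j - i) ∈ cen t := by
      refine H.fix H.t_mem H.t_ne ?_
      have hji : n ^ j = n ^ i * n ^ (j - i) := by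
        rw [← pow_add]; congr 1; omega
      rw [hji] at e
      calc n ^ (j - i) * t * (n ^ (j - i))⁻¹
          = (n ^ i)⁻¹ * (n ^ i * n ^ (j - i) * t * (n ^ i * n ^ (j - i))⁻¹) * n ^ i := by group
        _ = (n ^ i)⁻¹ * (n ^ i * t * (n ^ i)⁻¹) * n ^ i := by rw [← e]
        _ = t := by group
    have hco : (j - i).Coprime k := ((P.prime.coprime_iff_not_dvd).2
      fun h => by have := Nat.le_of_dvd (by omega) h; omega).symm
    have : n ∈ cen t := by
      have e := Int.gcd_eq_gcd_ab ((j - i : ℕ) : ℤ) (k : ℤ)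
      rw [Int.gcd_natCast_natCast, hco.gcd_eq_one, Nat.cast_one] at e
      have e' := zpow_one n
      rw [e, zpow_add, zpow_mul, zpow_mul, zpow_natCast, zpow_natCast] at e'
      rw [← e']
      exact mul_mem (zpow_mem h1 _) (zpow_mem hnk _)
    exact hnM this
  have hf : Function.Injective f := by
    intro i j e
    have e' : n ^ (i : ℕ) * t * (n ^ (i : ℕ))⁻¹ = n ^ (j : ℕ) * t * (n ^ (j : ℕ))⁻¹ :=
      congrArg (fun z => z.1.1) e
    rcases lt_trichotomy (i : ℕ) j with h | h | h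
    · exact absurd e' (hlt _ _ j.2 h)
    · exact Fin.ext h
    · exact absurd e'.symm (hlt _ _ i.2 h)
  have hML : cen t ≤ L := by
    classical
    have := Fintype.ofFinite ↥(L ⊓ cen t)
    have h1 := Nat.card_le_card_of_injective f hf
    rw [Nat.card_fin, Nat.card_eq_fintype_card, Fintype.card_subtype_compl,
      Fintype.card_subtype_eq, ← Nat.card_eq_fintype_card] at h1
    have h2 : Nat.card (cen t) = k + 1 := by rw [card_cen H, hk]
    have h3 : 0 < Nat.card ↥(L ⊓ cen t) := Nat.card_pos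
    have := P.prime.one_lt
    exact fun x hx => ((Subgroup.eq_of_le_of_card_ge (inf_le_right : L ⊓ cen t ≤ cen t) (by omega)).symm ▸ hx : x ∈ L ⊓ cen t).1
  have hNL : normalizer (cen t : Set G) ≤ L := by
    set K := L ⊓ normalizer (cen t : Set G)
    have hMK : cen t ≤ K := le_inf hML le_normalizer
    have h1 := relIndex_mul_relIndex (cen t) K (normalizer (cen t : Set G)) hMK inf_le_right
    rw [show (cen t).relIndex (normalizer (cen t : Set G)) = k from hk] at h1
    rcases P.prime.eq_one_or_self_of_dvd _ (Dvd.intro _ h1) with e | e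
    · exact absurd ((relIndex_eq_one.1 e) ⟨hnL, hn⟩) hnM
    · rw [e] at h1
      have := Nat.eq_of_mul_eq_mul_left P.prime.pos (h1.trans (mul_one k).symm)
      exact fun x hx => (relIndex_eq_one.1 this hx).1
  by_cases hle : L ≤ normalizer (cen t : Set G)
  · exact Or.inl hle
  right
  obtain ⟨g, hgL, hgN⟩ := SetLike.not_le_iff_exists.1 hle
  have hp : g • base t ≠ base t := fun e => hgN (smul_base_eq.1 e)
  refine (eq_top_iff' L).2 fun z => ?_
  by_cases hz : z • base t = base t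
  · exact hNL (smul_base_eq.1 hz)
  obtain ⟨a, ha⟩ := (CAGroupProjective22.regular H hp).2 ⟨z • base t, hz⟩
  have ha' : (a : G) • g • base t = z • base t := congrArg Subtype.val ha
  have hmem : ((a : G) * g)⁻¹ * z ∈ normalizer (cen t : Set G) := by
    rw [← smul_base_eq, mul_smul, ← ha', ← mul_smul (a : G), inv_smul_smul]
  have := mul_mem (mul_mem (hML a.2) hgL) (hNL hmem)
  rwa [mul_inv_cancel_left] at this

omit P

/-- The nonidentity elements of `L` conjugate in `L` into the centraliser of `x`. -/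
def cl (L : Subgroup G) (x : G) : Set G :=
  {y | y ∈ L ∧ y ≠ 1 ∧ ∃ g ∈ L, g⁻¹ * y * g ∈ cen x}

omit [Finite G] in
theorem self_mem_cl {L : Subgroup G} {x : G} (hx : x ∈ L) (hx1 : x ≠ 1) : x ∈ cl L x :=
  ⟨hx, hx1, 1, one_mem _, by simpa using mem_cen.2 (Commute.refl x)⟩

theorem card_cl (h : CA G) (L : Subgroup G) {x : G} (hx : x ≠ 1) :
    (cl L x).ncard * Nat.card ↥(L ⊓ normalizer (cen x : Set G)) =
      Nat.card L * (Nat.card ↥(L ⊓ cen x) - 1) := by
  classical
  have := Fintype.ofFinite ↥(L ⊓ cen x)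
  have e1 : Nat.card ↥(L ⊓ cen x) - 1 = Nat.card {y : ↥(L ⊓ cen x) // y ≠ 1} := by
    rw [Nat.card_eq_fintype_card, Nat.card_eq_fintype_card, Fintype.card_subtype_compl,
      Fintype.card_subtype_eq]
  have hsel : ∀ z : cl L x, ∃ g : L, (g : G)⁻¹ * z.1 * g ∈ cen x := fun z => by
    obtain ⟨g, hg, e⟩ := z.2.2.2
    exact ⟨⟨g, hg⟩, e⟩
  choose g hg using hsel
  rw [e1, ← Nat.card_coe_set_eq, ← Nat.card_prod, ← Nat.card_prod]
  let f : cl L x × ↥(L ⊓ normalizer (cen x : Set G)) → L × {y : ↥(L ⊓ cen x) // y ≠ 1} :=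
    fun p => (⟨(g p.1).1 * p.2.1, mul_mem (g p.1).2 p.2.2.1⟩,
      ⟨⟨((g p.1).1 * p.2.1)⁻¹ * p.1.1 * ((g p.1).1 * p.2.1),
        L.mul_mem (L.mul_mem (L.inv_mem (L.mul_mem (g p.1).2 p.2.2.1)) p.1.2.1)
          (L.mul_mem (g p.1).2 p.2.2.1),
        by
          have hh := (mem_normalizer_iff.1 (inv_mem p.2.2.2)
            ((g p.1).1⁻¹ * p.1.1 * (g p.1).1)).1 (hg p.1)
          simpa [mul_assoc] using hh⟩,
        fun e => p.1.2.2.1 (by
          have e' : ((g p.1).1 * p.2.1)⁻¹ * p.1.1 * ((g p.1).1 * p.2.1) = 1 :=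
            congrArg Subtype.val e
          calc p.1.1 = ((g p.1).1 * p.2.1) *
                (((g p.1).1 * p.2.1)⁻¹ * p.1.1 * ((g p.1).1 * p.2.1)) *
                  ((g p.1).1 * p.2.1)⁻¹ := by group
            _ = 1 := by rw [e']; group)⟩)
  refine Nat.card_congr (Equiv.ofBijective f ⟨?_, ?_⟩)
  · rintro ⟨z, n⟩ ⟨z', n'⟩ e
    have ea : (g z).1 * n.1 = (g z').1 * n'.1 := congrArg (fun q => (q.1 : G)) e
    have eb : ((g z).1 * n.1)⁻¹ * z.1 * ((g z).1 * n.1) =
        ((g z').1 * n'.1)⁻¹ * z'.1 * ((g z').1 * n'.1) := congrArg (fun q => q.2.1.1) e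
    rw [← ea] at eb
    obtain rfl : z = z' := Subtype.ext (mul_left_cancel (mul_right_cancel eb))
    exact Prod.ext rfl (Subtype.ext (mul_left_cancel ea))
  · rintro ⟨a, y⟩
    have hz : (a : G) * y.1.1 * (a : G)⁻¹ ∈ cl L x := ⟨mul_mem (mul_mem a.2 y.1.2.1) (inv_mem a.2),
      conj_ne_one fun e => y.2 (Subtype.ext e), a, a.2, by simpa [mul_assoc] using y.1.2.2⟩
    set z : cl L x := ⟨_, hz⟩
    have hn : ((g z).1)⁻¹ * a ∈ normalizer (cen x : Set G) := by
      refine mem_normalizer_cen h hx y.1.2.2 (fun e => y.2 (Subtype.ext e)) ?_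
      have := hg z
      simpa [z, mul_assoc] using this
    refine ⟨(z, ⟨((g z).1)⁻¹ * a, L.mul_mem (L.inv_mem (g z).2) a.2, hn⟩),
      Prod.ext (Subtype.ext (mul_inv_cancel_left _ _)) (Subtype.ext (Subtype.ext ?_))⟩
    show ((g z).1 * (((g z).1)⁻¹ * a))⁻¹ * z.1 * ((g z).1 * (((g z).1)⁻¹ * a)) = y.1.1
    rw [mul_inv_cancel_left]
    show (a : G)⁻¹ * ((a : G) * y.1.1 * (a : G)⁻¹) * a = y.1.1
    group

omit [Finite G] in
theorem cl_disjoint (h : CA G) {L : Subgroup G} {x y : G} (hx : x ≠ 1) (hy : y ∈ L) (hy1 : y ≠ 1)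
    (hxy : y ∉ cl L x) : Disjoint (cl L x) (cl L y) := by
  refine Set.disjoint_left.2 fun z hzx hzy => hxy ?_
  obtain ⟨-, hz1, a, ha, hza⟩ := hzx
  obtain ⟨-, -, b, hb, hzb⟩ := hzy
  refine ⟨hy, hy1, b⁻¹ * a, mul_mem (inv_mem hb) ha, ?_⟩
  have hwb : b⁻¹ * z * b ≠ 1 := fun e => hz1 (by
    calc z = b * (b⁻¹ * z * b) * b⁻¹ := by group
      _ = 1 := by rw [e]; group)
  have hwa : a⁻¹ * z * a ≠ 1 := fun e => hz1 (by
    calc z = a * (a⁻¹ * z * a) * a⁻¹ := by group
      _ = 1 := by rw [e]; group)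
  rw [← cen_eq h hx hza hwa]
  have h1 : y ∈ cen (b⁻¹ * z * b) := by
    rw [cen_eq h hy1 hzb hwb]; exact mem_cen.2 (Commute.refl y)
  have h2 := (conj_mem_cen_conj (g := a⁻¹ * b)).2 h1
  have e : a⁻¹ * b * (b⁻¹ * z * b) * (a⁻¹ * b)⁻¹ = a⁻¹ * z * a := by group
  rw [e] at h2
  simpa [mul_assoc] using h2

omit [Finite G] in
theorem cl_subset (L : Subgroup G) (x : G) : cl L x ⊆ (L : Set G) \ {1} :=
  fun _ hy => ⟨hy.1, hy.2.1⟩

theorem ncard_diff (L : Subgroup G) : ((L : Set G) \ {1}).ncard + 1 = Nat.card L := by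
  rw [Set.ncard_sdiff_singleton_add_one L.one_mem, ← Nat.card_coe_set_eq]
  rfl

include P

/-- A proper subgroup normalises the centraliser of one of its elements. -/
theorem exists_le {L : Subgroup G} (hL : L ≠ ⊥) (hT : L ≠ ⊤) :
    ∃ x ∈ L, x ≠ 1 ∧ L ≤ normalizer (cen x : Set G) := by
  by_contra hall
  push Not at hall
  set h := Nat.card L with hh
  have hA : ∀ x ∈ L, x ≠ 1 → 2 ≤ Nat.card ↥(L ⊓ cen x) ∧
      Nat.card ↥(L ⊓ cen x) ≤ Nat.card ↥(L ⊓ normalizer (cen x : Set G)) ∧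
      Nat.card ↥(L ⊓ normalizer (cen x : Set G)) < h := by
    intro x hx hx1
    refine ⟨?_, Subgroup.card_le_of_le (inf_le_inf_left L le_normalizer), ?_⟩
    · by_contra hlt
      have h1 : L ⊓ cen x = ⊥ := Subgroup.eq_bot_of_card_le _ (by omega)
      exact hx1 ((Subgroup.eq_bot_iff_forall _).1 h1 x ⟨hx, mem_cen.2 (Commute.refl x)⟩)
    · refine lt_of_le_of_ne (Subgroup.card_le_of_le inf_le_left) fun e => hall x hx hx1 ?_
      have := Subgroup.eq_of_le_of_card_ge (inf_le_left : L ⊓ normalizer (cen x : Set G) ≤ L) e.ge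
      exact this ▸ inf_le_right
  -- involutions
  have hI : ∀ x ∈ L, x ≠ 1 → x * x = 1 →
      Nat.card ↥(L ⊓ normalizer (cen x : Set G)) = Nat.card ↥(L ⊓ cen x) := by
    intro x hx hx1 hxx
    congr 2
    refine le_antisymm (fun n hn => ⟨hn.1, ?_⟩) (inf_le_inf_left L le_normalizer)
    by_contra hnc
    rcases le_or_top P (orderOf_eq_two_of_mul_self hxx hx1) hx hn.1 hn.2 hnc with e | e
    · exact hall x hx hx1 e
    · exact hT e
  -- the other elements
  have hO : ∀ x ∈ L, x ≠ 1 → x * x ≠ 1 → 3 ≤ Nat.card ↥(L ⊓ cen x) ∧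
      (Nat.card ↥(L ⊓ normalizer (cen x : Set G)) = Nat.card ↥(L ⊓ cen x) ∨
        (∃ e ∈ L, e ≠ 1 ∧ e * e = 1) ∧
          Nat.card ↥(L ⊓ normalizer (cen x : Set G)) = 2 * Nat.card ↥(L ⊓ cen x)) := by
    intro x hx hx1 hxx
    constructor
    · classical
      have hxC : x ∈ L ⊓ cen x := ⟨hx, mem_cen.2 (Commute.refl x)⟩
      have hinv : x⁻¹ ≠ x := fun e => hxx (mul_eq_one_iff_eq_inv.2 e.symm)
      have h3 : ({1, x, x⁻¹} : Set G).ncard = 3 :=
        Set.ncard_eq_three.2 ⟨1, x, x⁻¹, hx1.symm, fun e => hx1 (inv_eq_one.1 e.symm),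
          hinv.symm, rfl⟩
      have hsub : ({1, x, x⁻¹} : Set G) ⊆ ((L ⊓ cen x : Subgroup G) : Set G) := by
        rintro y (rfl | rfl | rfl)
        · exact one_mem _
        · exact hxC
        · exact inv_mem hxC
      have := Set.ncard_le_ncard hsub
      rw [h3, ← Nat.card_coe_set_eq] at this
      exact this
    by_cases hne : L ⊓ normalizer (cen x : Set G) ≤ cen x
    · left
      congr 2
      exact le_antisymm (le_inf inf_le_left hne) (inf_le_inf_left L le_normalizer)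
    right
    obtain ⟨n, hn, hnc⟩ := SetLike.not_le_iff_exists.1 hne
    have hinv := fun a ha => inverts P hxx hn.2 hnc (a := a) ha
    constructor
    · by_contra hno
      push Not at hno
      refine hnc ?_
      have h2 : n * n ∈ cen x := by
        rw [mem_cen]
        refine mul_inv_eq_iff_eq_mul.1 ?_
        calc n * n * x * (n * n)⁻¹ = n * (n * x * n⁻¹) * n⁻¹ := by group
          _ = n * x⁻¹ * n⁻¹ := by rw [hinv x (mem_cen.2 (Commute.refl x))]
          _ = x := by
            rw [hinv x⁻¹ (inv_mem (mem_cen.2 (Commute.refl x))), inv_inv]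
      rcases Nat.even_or_odd (orderOf n) with he | ho
      · obtain ⟨m, hm⟩ := he
        have hpos := orderOf_pos n
        refine absurd (pow_mem hn.1 m) fun hmem => hno (n ^ m) hmem ?_ ?_
        · exact pow_ne_one_of_lt_orderOf (by omega) (by omega)
        · rw [← pow_add, ← hm, pow_orderOf_eq_one]
      · obtain ⟨m, hm⟩ := ho
        have : n = (n * n) ^ (m + 1) := by
          rw [← pow_two, ← pow_mul, show 2 * (m + 1) = orderOf n + 1 by omega, pow_succ,
            pow_orderOf_eq_one, one_mul]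
        rw [this]
        exact pow_mem h2 _
    · set Q := L ⊓ normalizer (cen x : Set G)
      have hidx : ((L ⊓ cen x).subgroupOf Q).index = 2 := by
        rw [index_eq_two_iff]
        refine ⟨⟨n, hn⟩, fun b => ?_⟩
        by_cases hb : (b : G) ∈ cen x
        · refine Or.inr ⟨?_, fun hc => hnc ?_⟩
          · exact ⟨b.2.1, hb⟩
          · have hc' : (b : G) * n ∈ cen x := hc.2
            simpa using mul_mem (inv_mem hb) hc'
        · refine Or.inl ⟨⟨mul_mem b.2.1 hn.1, ?_⟩, fun hc => hb hc.2⟩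
          show (b : G) * n ∈ cen x
          rw [mem_cen]
          refine mul_inv_eq_iff_eq_mul.1 ?_
          calc (b : G) * n * x * ((b : G) * n)⁻¹ = b * (n * x * n⁻¹) * (b : G)⁻¹ := by group
            _ = b * x⁻¹ * (b : G)⁻¹ := by rw [hinv x (mem_cen.2 (Commute.refl x))]
            _ = x := by
              rw [inverts P hxx b.2.2 hb (inv_mem (mem_cen.2 (Commute.refl x))), inv_inv]
      have := ((L ⊓ cen x).subgroupOf Q).card_mul_index
      rw [hidx, Nat.card_congr (Subgroup.subgroupOfEquivOfLe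
        (inf_le_inf_left L le_normalizer : L ⊓ cen x ≤ Q)).toEquiv] at this
      rw [← this, mul_comm]
  obtain ⟨z0, hz0, hz01⟩ : ∃ z ∈ L, z ≠ 1 := by
    by_contra hn
    push Not at hn
    exact hL ((Subgroup.eq_bot_iff_forall _).2 hn)
  have hd := ncard_diff L
  have hK : ∀ x ∈ L, x ≠ 1 → (cl L x).ncard * Nat.card ↥(L ⊓ normalizer (cen x : Set G)) =
      h * (Nat.card ↥(L ⊓ cen x) - 1) := fun x _ hx1 => card_cl P.ca L hx1
  have hpair : ∀ x y, x ≠ 1 → y ∈ L → y ≠ 1 → y ∉ cl L x →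
      (cl L x).ncard + (cl L y).ncard + 1 ≤ h := by
    intro x y hx hy hy1 hxy
    rw [← Set.ncard_union_eq (cl_disjoint P.ca hx hy hy1 hxy), hh, ← hd]
    exact Nat.add_le_add_right
      (Set.ncard_le_ncard (Set.union_subset (cl_subset L x) (cl_subset L y))) 1
  -- lower bounds
  have hbI : ∀ x ∈ L, x ≠ 1 → x * x = 1 → h ≤ 2 * (cl L x).ncard := by
    intro x hx hx1 hxx
    have e := hK x hx hx1
    rw [hI x hx hx1 hxx] at e
    have h2 := (hA x hx hx1).1
    obtain ⟨c, hc⟩ := Nat.exists_eq_add_of_le h2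
    rw [hc] at e
    rw [show 2 + c - 1 = c + 1 by omega] at e
    nlinarith
  have hbO : ∀ x ∈ L, x ≠ 1 → x * x ≠ 1 → h ≤ 3 * (cl L x).ncard := by
    intro x hx hx1 hxx
    have e := hK x hx hx1
    obtain ⟨c, hc⟩ := Nat.exists_eq_add_of_le (hO x hx hx1 hxx).1
    rcases (hO x hx hx1 hxx).2 with e' | ⟨-, e'⟩ <;>
      rw [e', hc, show 3 + c - 1 = c + 2 by omega] at e <;> nlinarith
  by_cases hev : ∃ e ∈ L, e ≠ 1 ∧ e * e = 1
  · obtain ⟨e, he, he1, hee⟩ := hev
    have hKe := hK e he he1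
    rw [hI e he he1 hee] at hKe
    obtain ⟨hc2, -, hclt⟩ := hA e he he1
    rw [hI e he he1 hee] at hclt
    obtain ⟨x, hx, hxe⟩ : ∃ x ∈ (L : Set G) \ {1}, x ∉ cl L e := by
      by_contra hn
      push Not at hn
      have e' : cl L e = (L : Set G) \ {1} := Set.Subset.antisymm (cl_subset L e) hn
      rw [e'] at hKe
      have h1 : ((L : Set G) \ {1}).ncard = h - 1 := by omega
      rw [h1, Nat.sub_mul, Nat.mul_sub, one_mul, mul_one] at hKe
      have : h ≤ h * Nat.card ↥(L ⊓ cen e) := Nat.le_mul_of_pos_right _ (by omega)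
      have : Nat.card ↥(L ⊓ cen e) ≤ h * Nat.card ↥(L ⊓ cen e) :=
        Nat.le_mul_of_pos_left _ (by omega)
      omega
    have hx1 : x ≠ 1 := hx.2
    have hs := hpair e x he1 hx.1 hx1 hxe
    have hKe2 := hbI e he he1 hee
    have hxx : x * x ≠ 1 := fun hxx => by
      have := hbI x hx.1 hx1 hxx
      omega
    have hKx := hK x hx.1 hx1
    obtain ⟨ha3, hna⟩ := hO x hx.1 hx1 hxx
    have hnx : Nat.card ↥(L ⊓ normalizer (cen x : Set G)) = 2 * Nat.card ↥(L ⊓ cen x) := by
      rcases hna with e' | ⟨-, e'⟩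
      · exfalso
        rw [e'] at hKx
        obtain ⟨c, hc⟩ := Nat.exists_eq_add_of_le ha3
        rw [hc, show 3 + c - 1 = c + 2 by omega] at hKx
        nlinarith
      · exact e'
    have hlt := (hA x hx.1 hx1).2.2
    rw [hnx] at hKx hlt
    have hKx3 := hbO x hx.1 hx1 hxx
    have hc : Nat.card ↥(L ⊓ cen e) = 2 := by
      by_contra hne
      obtain ⟨c, hc⟩ := Nat.exists_eq_add_of_le (show 3 ≤ Nat.card ↥(L ⊓ cen e) by omega)
      rw [hc, show 3 + c - 1 = c + 2 by omega] at hKe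
      nlinarith
    rw [hc] at hKe
    have hrest : (L : Set G) \ {1} ⊆ cl L e ∪ cl L x := by
      intro y hy
      by_contra hn
      rw [Set.mem_union, not_or] at hn
      have hy1 : y ≠ 1 := hy.2
      have h3 : (cl L e).ncard + (cl L x).ncard + (cl L y).ncard + 1 ≤ h := by
        rw [← Set.ncard_union_eq (cl_disjoint P.ca he1 hx.1 hx1 hxe),
          ← Set.ncard_union_eq (Set.disjoint_union_left.2 ⟨cl_disjoint P.ca he1 hy.1 hy1 hn.1,
            cl_disjoint P.ca hx1 hy.1 hy1 hn.2⟩), hh, ← hd]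
        exact Nat.add_le_add_right (Set.ncard_le_ncard (Set.union_subset
          (Set.union_subset (cl_subset L e) (cl_subset L x)) (cl_subset L y))) 1
      by_cases hyy : y * y = 1
      · have := hbI y hy.1 hy1 hyy; omega
      · have := hbO y hy.1 hy1 hyy; omega
    have h4 := (Set.ncard_le_ncard hrest).trans (Set.ncard_union_le _ _)
    obtain ⟨a, ha⟩ := Nat.exists_eq_add_of_le ha3
    rw [ha, show 3 + a - 1 = a + 2 by omega] at hKx
    rw [ha] at hlt
    nlinarith
  · push Not at hev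
    have hxx : z0 * z0 ≠ 1 := hev z0 hz0 hz01
    have hN : ∀ x ∈ L, x ≠ 1 →
        Nat.card ↥(L ⊓ normalizer (cen x : Set G)) = Nat.card ↥(L ⊓ cen x) := by
      intro x hx hx1
      rcases (hO x hx hx1 (hev x hx hx1)).2 with e' | ⟨⟨e, he, he1, hee⟩, -⟩
      · exact e'
      · exact absurd hee (hev e he he1)
    have hb : ∀ x ∈ L, x ≠ 1 → 2 * h ≤ 3 * (cl L x).ncard := by
      intro x hx hx1
      have e := hK x hx hx1
      obtain ⟨c, hc⟩ := Nat.exists_eq_add_of_le (hO x hx hx1 (hev x hx hx1)).1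
      rw [hN x hx hx1, hc, show 3 + c - 1 = c + 2 by omega] at e
      nlinarith
    have hall' : (L : Set G) \ {1} ⊆ cl L z0 := by
      intro y hy
      by_contra hn
      have := hpair z0 y hz01 hy.1 hy.2 hn
      have := hb z0 hz0 hz01
      have := hb y hy.1 hy.2
      omega
    have e' : cl L z0 = (L : Set G) \ {1} := Set.Subset.antisymm (cl_subset L z0) hall'
    have hKz := hK z0 hz0 hz01
    obtain ⟨hc2, -, hclt⟩ := hA z0 hz0 hz01
    rw [hN z0 hz0 hz01, e', show ((L : Set G) \ {1}).ncard = h - 1 by omega, Nat.sub_mul,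
      Nat.mul_sub, one_mul, mul_one] at hKz
    rw [hN z0 hz0 hz01] at hclt
    have : h ≤ h * Nat.card ↥(L ⊓ cen z0) := Nat.le_mul_of_pos_right _ (by omega)
    have : Nat.card ↥(L ⊓ cen z0) ≤ h * Nat.card ↥(L ⊓ cen z0) :=
      Nat.le_mul_of_pos_left _ (by omega)
    omega

/-- Non-abelian subgroups are self-normalising. -/
theorem nsn : NSNGroups22.NSN G := by
  intro S hS
  refine le_antisymm (fun n hn => ?_) le_normalizer
  have hnab : ∀ x : G, x ≠ 1 → ¬ S ≤ cen x := fun x hx hle =>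
    hS ⟨⟨fun a b => Subtype.ext (comm_cen P.ca hx (hle a.2) (hle b.2))⟩⟩
  set L := normalizer (S : Set G) with hLdef
  by_cases hT : L = ⊤
  · rcases P.simple.eq_bot_or_eq_top_of_normal S (normalizer_eq_top_iff.1 hT) with e | e
    · exact absurd (fun a b => Subtype.ext
        (by simp [(Subgroup.eq_bot_iff_forall _).1 e a a.2, (Subgroup.eq_bot_iff_forall _).1 e b b.2]))
        (fun h : ∀ a b : S, a * b = b * a => hS ⟨⟨h⟩⟩)
    · rw [e]; exact mem_top n
  have hSL : S ≤ L := le_normalizer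
  have hL : L ≠ ⊥ := fun e => hS ⟨⟨fun a b => Subtype.ext (by
    simp [(Subgroup.eq_bot_iff_forall _).1 e a (hSL a.2),
      (Subgroup.eq_bot_iff_forall _).1 e b (hSL b.2)])⟩⟩
  obtain ⟨x, hxL, hx1, hle⟩ := exists_le P hL hT
  obtain ⟨s, hs, hsc⟩ := SetLike.not_le_iff_exists.1 (hnab x hx1)
  have hsN : s ∈ normalizer (cen x : Set G) := hle (hSL hs)
  have hconj : ∀ a ∈ L, ∀ y ∈ S, a * y * a⁻¹ ∈ S := fun a ha y hy =>
    (mem_normalizer_iff.1 ha y).1 hy
  by_cases hxx : x * x = 1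
  · have ht := orderOf_eq_two_of_mul_self hxx hx1
    have H := cfg P ht
    -- the part in the centraliser
    have hLM : L ⊓ cen x ≤ S := by
      intro y hy
      obtain ⟨a, ha, e⟩ := H.exists_comm_eq (inf_le_right : L ⊓ cen x ≤ _) hsN hsc
        (fun a ha => ⟨L.mul_mem (L.mul_mem (hSL hs) ha.1) (L.inv_mem (hSL hs)), Cfg.conj_mem hsN ha.2⟩) hy
      rw [← e, mul_assoc, mul_assoc, ← mul_assoc a s⁻¹ a⁻¹]
      exact mul_mem hs (hconj a ha.1 _ (inv_mem hs))
    haveI : ((cen x).subgroupOf (normalizer (cen x : Set G))).Normal :=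
      Subgroup.normal_in_normalizer
    set M' := (cen x).subgroupOf (normalizer (cen x : Set G))
    haveI := Fact.mk P.prime
    have hcard : Nat.card (normalizer (cen x : Set G) ⧸ M') = k := P.kk x ht
    have hne : (QuotientGroup.mk ⟨s, hsN⟩ : normalizer (cen x : Set G) ⧸ M') ≠ 1 :=
      fun e => hsc ((QuotientGroup.eq_one_iff _).1 e : _)
    obtain ⟨i, hi⟩ := mem_zpowers_iff.1 (mem_zpowers_of_prime_card hcard hne
      (g' := QuotientGroup.mk ⟨n, hle hn⟩))
    rw [← QuotientGroup.mk_zpow, QuotientGroup.eq] at hi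
    have hmem : (s ^ i)⁻¹ * n ∈ cen x := by
      rw [Subgroup.mem_subgroupOf] at hi
      simpa using hi
    have := mul_mem (zpow_mem hs i) (hLM ⟨L.mul_mem (L.inv_mem (zpow_mem (hSL hs) i)) hn, hmem⟩)
    rwa [mul_inv_cancel_left] at this
  · have hinv := fun a ha => inverts P hxx hsN hsc (a := a) ha
    have hLA : ∀ a ∈ L, a ∈ cen x → a ∈ S := by
      intro a ha hac
      have h2 : a * a ∈ S := by
        have e : a * s * a⁻¹ * s⁻¹ = a * a := by
          rw [mul_assoc, mul_assoc, ← mul_assoc s a⁻¹ s⁻¹, hinv a⁻¹ (inv_mem hac), inv_inv]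
        exact e ▸ mul_mem (hconj a ha s hs) (inv_mem hs)
      rcases Nat.even_or_odd (orderOf a) with he | ⟨m, hm⟩
      · obtain ⟨m, hm⟩ := he
        have hpos := orderOf_pos a
        exact absurd (show a ^ m * a ^ m = 1 by rw [← pow_add, ← hm, pow_orderOf_eq_one])
          (sq_ne_of_mem P hxx (pow_mem hac m) (pow_ne_one_of_lt_orderOf (by omega) (by omega)))
      · have : a = (a * a) ^ (m + 1) := by
          rw [← pow_two, ← pow_mul, show 2 * (m + 1) = orderOf a + 1 by omega, pow_succ,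
            pow_orderOf_eq_one, one_mul]
        rw [this]
        exact pow_mem h2 _
    by_cases hnc : n ∈ cen x
    · exact hLA n hn hnc
    have hmem : s * n ∈ cen x := by
      rw [mem_cen]
      refine mul_inv_eq_iff_eq_mul.1 ?_
      calc s * n * x * (s * n)⁻¹ = s * (n * x * n⁻¹) * s⁻¹ := by group
        _ = s * x⁻¹ * s⁻¹ := by rw [inverts P hxx (hle hn) hnc (mem_cen.2 (Commute.refl x))]
        _ = x := by rw [hinv x⁻¹ (inv_mem (mem_cen.2 (Commute.refl x))), inv_inv]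
    have := mul_mem (inv_mem hs) (hLA _ (mul_mem (hSL hs) hn) hmem)
    rwa [inv_mul_cancel_left] at this

end Cfsg.Agent.NSNConverse22
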