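import Mathlib

/-! A finite group partitioned by subgroups of index at most two in their normalisers: two members
of order at least four force the octahedral or icosahedral configuration. -/

set_option autoImplicit false

namespace Cfsg.Agent.SmallPartition

variable {G : Type*} [Group G] [Finite G]

/-- A conjugation invariant partition into subgroups with small normaliser quotient. -/
structure Part (𝒜 : Finset (Subgroup G)) : Prop where
  ne : ∀ A ∈ 𝒜, A ≠ ⊥
  conj : ∀ A ∈ 𝒜, ∀ g : G, A.map (MulAut.conj g).toMonoidHom ∈ 𝒜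
  cover : ∀ x : G, x ≠ 1 → ∃! A, A ∈ 𝒜 ∧ x ∈ A
  norm : ∀ A ∈ 𝒜, A.relIndex (Subgroup.normalizer (A : Set G)) ≤ 2

open Classical in
/-- The conjugates of `A`. -/
noncomputable def cls (A : Subgroup G) : Finset (Subgroup G) :=
  haveI : Fintype G := Fintype.ofFinite G
  Finset.univ.image fun g : G => A.map (MulAut.conj g).toMonoidHom

theorem mem_cls {A B : Subgroup G} :
    B ∈ cls A ↔ ∃ g : G, A.map (MulAut.conj g).toMonoidHom = B := by
  simp [cls]

theorem map_conj_map (A : Subgroup G) (g h : G) :
    (A.map (MulAut.conj g).toMonoidHom).map (MulAut.conj h).toMonoidHom =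
      A.map (MulAut.conj (h * g)).toMonoidHom := by
  rw [Subgroup.map_map]
  congr 1
  ext x
  simp [mul_assoc]

theorem self_mem_cls (A : Subgroup G) : A ∈ cls A :=
  mem_cls.mpr ⟨1, by
    convert Subgroup.map_id A
    ext x
    simp⟩

theorem cls_disjoint {A B : Subgroup G} (h : B ∉ cls A) : Disjoint (cls A) (cls B) := by
  rw [Finset.disjoint_left]
  intro C hA hB
  obtain ⟨g, hg⟩ := mem_cls.mp hA
  obtain ⟨k, hk⟩ := mem_cls.mp hB
  apply h
  refine mem_cls.mpr ⟨k⁻¹ * g, ?_⟩
  rw [← map_conj_map, hg, ← hk, map_conj_map, inv_mul_cancel]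
  exact (Subgroup.map_id B).symm ▸ by
    ext x
    simp

theorem map_conj_eq_iff (A : Subgroup G) (g : G) :
    A.map (MulAut.conj g).toMonoidHom = A ↔ g ∈ Subgroup.normalizer (A : Set G) := by
  rw [Subgroup.mem_normalizer_iff]
  constructor
  · intro h x
    constructor
    · intro hx
      have : g * x * g⁻¹ ∈ A.map (MulAut.conj g).toMonoidHom := ⟨x, hx, rfl⟩
      rwa [h] at this
    · intro hx
      have : g * x * g⁻¹ ∈ A.map (MulAut.conj g).toMonoidHom := h.symm ▸ hx
      obtain ⟨y, hy, e⟩ := this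
      have e' : g * y * g⁻¹ = g * x * g⁻¹ := e
      rw [mul_left_inj, mul_right_inj] at e'
      exact e' ▸ hy
  · intro h
    ext x
    constructor
    · rintro ⟨y, hy, rfl⟩
      exact (h y).mp hy
    · intro hx
      refine ⟨g⁻¹ * x * g, (h _).mpr ?_, ?_⟩
      · simpa [mul_assoc] using hx
      · simp [mul_assoc]

theorem card_cls (A : Subgroup G) :
    (cls A).card * Nat.card (Subgroup.normalizer (A : Set G)) = Nat.card G := by
  classical
  haveI : Fintype G := Fintype.ofFinite G
  set N := Subgroup.normalizer (A : Set G)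
  let f : G ⧸ N → Subgroup G := Quotient.lift (fun g => A.map (MulAut.conj g).toMonoidHom) (by
    intro a b hab
    replace hab : QuotientGroup.leftRel N a b := hab
    rw [QuotientGroup.leftRel_apply] at hab
    rw [← (map_conj_eq_iff A _).mpr hab, map_conj_map, mul_inv_cancel_left,
      (map_conj_eq_iff A _).mpr hab])
  have hinj : Function.Injective f := by
    intro x y
    induction x using QuotientGroup.induction_on with
    | H a =>
      induction y using QuotientGroup.induction_on with
      | H b =>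
        intro h
        have h1 := congrArg (fun S => Subgroup.map (MulAut.conj a⁻¹).toMonoidHom S) h
        change (A.map (MulAut.conj a).toMonoidHom).map (MulAut.conj a⁻¹).toMonoidHom =
          (A.map (MulAut.conj b).toMonoidHom).map (MulAut.conj a⁻¹).toMonoidHom at h1
        rw [map_conj_map, map_conj_map, inv_mul_cancel,
          (map_conj_eq_iff A 1).mpr (one_mem _)] at h1
        exact QuotientGroup.eq.mpr ((map_conj_eq_iff A _).mp h1.symm)
  have hrange : (cls A : Set (Subgroup G)) = Set.range f := by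
    ext B
    rw [Finset.mem_coe, mem_cls]
    constructor
    · rintro ⟨g, rfl⟩; exact ⟨QuotientGroup.mk g, rfl⟩
    · rintro ⟨x, rfl⟩
      induction x using QuotientGroup.induction_on with
      | H g => exact ⟨g, rfl⟩
  have h1 : (cls A).card = Nat.card (G ⧸ N) := by
    rw [← Set.ncard_coe_finset, hrange, ← Nat.card_coe_set_eq, Nat.card_range_of_injective hinj]
  rw [h1, ← Subgroup.card_eq_card_quotient_mul_card_subgroup]

theorem card_of_mem_cls {A B : Subgroup G} (h : B ∈ cls A) : Nat.card B = Nat.card A := by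
  obtain ⟨g, rfl⟩ := mem_cls.mp h
  exact Subgroup.card_map_of_injective (MulAut.conj g).injective

/-- The weight of the class of `A`. -/
noncomputable def wgt (A : Subgroup G) : ℚ :=
  (1 - 1 / (Nat.card A : ℚ)) / (A.relIndex (Subgroup.normalizer (A : Set G)) : ℚ)

theorem sum_cls (A : Subgroup G) :
    ∑ B ∈ cls A, ((Nat.card B : ℚ) - 1) = (Nat.card G : ℚ) * wgt A := by
  rw [Finset.sum_congr rfl fun B hB => by rw [card_of_mem_cls hB], Finset.sum_const, nsmul_eq_mul,
    wgt]
  have h1 := card_cls A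
  have h2 : Nat.card A * A.relIndex (Subgroup.normalizer (A : Set G)) =
      Nat.card (Subgroup.normalizer (A : Set G)) := by
    rw [← Subgroup.relIndex_bot_left, ← Subgroup.relIndex_bot_left,
      Subgroup.relIndex_mul_relIndex ⊥ A _ bot_le Subgroup.le_normalizer]
  have ha : (0 : ℚ) < Nat.card A := by exact_mod_cast Nat.card_pos
  have he : (0 : ℚ) < A.relIndex (Subgroup.normalizer (A : Set G)) := by
    exact_mod_cast Nat.pos_of_ne_zero (by
      intro h0; rw [h0, mul_zero] at h2; exact absurd h2.symm Nat.card_pos.ne')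
  rw [← h1, ← h2]
  push_cast
  field_simp

variable {𝒜 : Finset (Subgroup G)} (P : Part 𝒜)
include P

theorem cls_subset {A : Subgroup G} (hA : A ∈ 𝒜) : cls A ⊆ 𝒜 := fun B hB => by
  obtain ⟨g, rfl⟩ := mem_cls.mp hB
  exact P.conj A hA g

theorem total : ∑ A ∈ 𝒜, ((Nat.card A : ℚ) - 1) = (Nat.card G : ℚ) - 1 := by
  classical
  haveI : Fintype G := Fintype.ofFinite G
  have hset : Finset.univ.erase (1 : G) =
      𝒜.biUnion fun A => (Finset.univ.filter fun x => x ∈ A).erase 1 := by
    ext x
    simp only [Finset.mem_erase, Finset.mem_univ, and_true, Finset.mem_biUnion, Finset.mem_filter,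
      true_and]
    constructor
    · intro hx
      obtain ⟨A, ⟨hA, hxA⟩, -⟩ := P.cover x hx
      exact ⟨A, hA, hx, hxA⟩
    · rintro ⟨A, -, hx, -⟩; exact hx
  have hdisj : (𝒜 : Set (Subgroup G)).PairwiseDisjoint
      fun A => (Finset.univ.filter fun x => x ∈ A).erase 1 := by
    intro A hA B hB hAB
    rw [Function.onFun, Finset.disjoint_left]
    intro x hxA hxB
    simp only [Finset.mem_erase, Finset.mem_filter, Finset.mem_univ, true_and] at hxA hxB
    exact hAB ((P.cover x hxA.1).unique ⟨hA, hxA.2⟩ ⟨hB, hxB.2⟩)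
  have h1 := congrArg Finset.card hset
  rw [Finset.card_biUnion hdisj] at h1
  have h2 : ∀ A : Subgroup G,
      ((((Finset.univ.filter fun x => x ∈ A).erase 1).card : ℕ) : ℚ) = (Nat.card A : ℚ) - 1 := by
    intro A
    rw [Finset.card_erase_of_mem (by simp), Nat.cast_sub (Finset.card_pos.mpr ⟨1, by simp⟩),
      Nat.card_eq_fintype_card, Fintype.card_subtype]
    simp
  have h3 : (((Finset.univ.erase (1 : G)).card : ℕ) : ℚ) = (Nat.card G : ℚ) - 1 := by
    rw [Finset.card_erase_of_mem (Finset.mem_univ 1), Nat.cast_sub (Finset.card_pos.mpr ⟨1, Finset.mem_univ 1⟩),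
      Nat.card_eq_fintype_card, Finset.card_univ]
    simp
  rw [← h3, h1, Nat.cast_sum]
  exact Finset.sum_congr rfl fun A _ => (h2 A).symm

theorem two_le {A : Subgroup G} (hA : A ∈ 𝒜) : 2 ≤ Nat.card A := by
  haveI : Nontrivial A := A.nontrivial_iff_ne_bot.mpr (P.ne A hA)
  exact Finite.one_lt_card

theorem wgt_eq {A : Subgroup G} (hA : A ∈ 𝒜) :
    wgt A = 1 - 1 / (Nat.card A : ℚ) ∨ wgt A = (1 - 1 / (Nat.card A : ℚ)) / 2 := by
  have h := P.norm A hA
  have h0 : A.relIndex (Subgroup.normalizer (A : Set G)) ≠ 0 :=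
    Subgroup.index_ne_zero_of_finite
  unfold wgt
  rcases Nat.lt_or_ge (A.relIndex (Subgroup.normalizer (A : Set G))) 2 with h1 | h1
  · left
    rw [show A.relIndex (Subgroup.normalizer (A : Set G)) = 1 by omega]; simp
  · right
    rw [show A.relIndex (Subgroup.normalizer (A : Set G)) = 2 by omega]; norm_num

theorem inv_le {A : Subgroup G} {k : ℕ} (hk : 0 < k) (hA : k ≤ Nat.card A) :
    1 / (Nat.card A : ℚ) ≤ 1 / (k : ℚ) := by
  apply one_div_le_one_div_of_le
  · exact_mod_cast hk
  · exact_mod_cast hA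

theorem quarter_le_wgt {A : Subgroup G} (hA : A ∈ 𝒜) : 1 / 4 ≤ wgt A := by
  have h1 := inv_le P (k := 2) two_pos (two_le P hA)
  push_cast at h1
  rcases wgt_eq P hA with h | h <;> rw [h] <;> linarith

theorem sum_subset_le {S : Finset (Subgroup G)} (hS : S ⊆ 𝒜) :
    ∑ A ∈ S, ((Nat.card A : ℚ) - 1) ≤ (Nat.card G : ℚ) - 1 := by
  rw [← total P]
  refine Finset.sum_le_sum_of_subset_of_nonneg hS fun A hA _ => ?_
  have : (2 : ℚ) ≤ Nat.card A := by exact_mod_cast two_le P hA
  linarith

/-- Two members of order at least four are conjugate, and then the configuration is small. -/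
theorem small {A B : Subgroup G} (hA : A ∈ 𝒜) (hB : B ∈ 𝒜) (hne : A ≠ B) (ha : 4 ≤ Nat.card A)
    (hb : 4 ≤ Nat.card B) :
    Nat.card A ≤ 5 ∧ (cls A).card ≤ 6 ∧ ∀ C ∈ 𝒜, 4 ≤ Nat.card C → C ∈ cls A := by
  classical
  have hG : (0 : ℚ) < Nat.card G := by exact_mod_cast Nat.card_pos
  set δ : ℚ := 1 / (Nat.card G : ℚ) with hδ
  have hδpos : 0 < δ := by positivity
  have hGδ : (Nat.card G : ℚ) * δ = 1 := by rw [hδ]; field_simp
  have norm1 : ∀ {s : ℚ}, (Nat.card G : ℚ) * s ≤ (Nat.card G : ℚ) - 1 → s ≤ 1 - δ := fun {s} h =>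
    le_of_mul_le_mul_left (by rw [mul_sub, mul_one, hGδ]; exact h) hG
  -- the same class
  have same : ∀ X ∈ 𝒜, ∀ Y ∈ 𝒜, 4 ≤ Nat.card X → 4 ≤ Nat.card Y → Y ∈ cls X := by
    intro X hX Y hY hx hy
    by_contra hnot
    have hd := cls_disjoint hnot
    have hsub : cls X ∪ cls Y ⊆ 𝒜 := Finset.union_subset (cls_subset P hX) (cls_subset P hY)
    have hle := sum_subset_le P hsub
    rw [Finset.sum_union hd, sum_cls, sum_cls, ← mul_add] at hle
    have hle' := norm1 hle
    have ix := inv_le P (k := 4) four_pos hx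
    have iy := inv_le P (k := 4) four_pos hy
    push_cast at ix iy
    have iy0 : (0 : ℚ) < 1 / (Nat.card Y : ℚ) := by
      have : (0 : ℚ) < Nat.card Y := by exact_mod_cast Nat.card_pos
      positivity
    have ix0 : (0 : ℚ) < 1 / (Nat.card X : ℚ) := by
      have : (0 : ℚ) < Nat.card X := by exact_mod_cast Nat.card_pos
      positivity
    rcases wgt_eq P hX with wx | wx
    · rcases wgt_eq P hY with wy | wy <;> rw [wx, wy] at hle' <;> linarith
    rcases wgt_eq P hY with wy | wy
    · rw [wx, wy] at hle'; linarith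
    have hall : 𝒜 = cls X ∪ cls Y := by
      refine Finset.Subset.antisymm (fun Z hZ => ?_) hsub
      by_contra hZn
      rw [Finset.mem_union, not_or] at hZn
      have hd2 : Disjoint (cls X ∪ cls Y) (cls Z) :=
        Finset.disjoint_union_left.mpr ⟨cls_disjoint hZn.1, cls_disjoint hZn.2⟩
      have hle2 := sum_subset_le P (Finset.union_subset hsub (cls_subset P hZ))
      rw [Finset.sum_union hd2, Finset.sum_union hd, sum_cls, sum_cls, sum_cls, ← mul_add,
        ← mul_add] at hle2
      have hle3 := norm1 hle2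
      have hq := quarter_le_wgt P hZ
      rw [wx, wy] at hle3
      linarith
    have htot := total P
    rw [hall, Finset.sum_union hd, sum_cls, sum_cls, ← mul_add, wx, wy] at htot
    have heq : (1 - 1 / (Nat.card X : ℚ)) / 2 + (1 - 1 / (Nat.card Y : ℚ)) / 2 = 1 - δ :=
      mul_left_cancel₀ hG.ne' (by rw [htot, mul_sub, mul_one, hGδ])
    -- but `|N(X)| = 2 |X| ≤ |G|`
    have hbound : ∀ Z ∈ 𝒜, wgt Z = (1 - 1 / (Nat.card Z : ℚ)) / 2 →
        2 * δ ≤ 1 / (Nat.card Z : ℚ) := by
      intro Z hZ wz
      have h2z : Nat.card Z * 2 ≤ Nat.card G := by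
        have he : Z.relIndex (Subgroup.normalizer (Z : Set G)) = 2 := by
          have h := P.norm Z hZ
          have h0 : Z.relIndex (Subgroup.normalizer (Z : Set G)) ≠ 0 :=
            Subgroup.index_ne_zero_of_finite
          have h1 : Z.relIndex (Subgroup.normalizer (Z : Set G)) ≠ 1 := by
            intro e
            have h2 := two_le P hZ
            have h2' : (2 : ℚ) ≤ Nat.card Z := by exact_mod_cast h2
            rw [wgt, e, Nat.cast_one, div_one] at wz
            have : 1 / (Nat.card Z : ℚ) ≤ 1 / 2 := one_div_le_one_div_of_le two_pos h2'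
            linarith
          omega
        have h2 := Subgroup.relIndex_mul_relIndex ⊥ Z _ bot_le
          (Subgroup.le_normalizer (H := Z))
        rw [Subgroup.relIndex_bot_left, Subgroup.relIndex_bot_left, he] at h2
        rw [h2]
        exact Subgroup.card_le_card_group _
      have hz : (0 : ℚ) < Nat.card Z := by exact_mod_cast Nat.card_pos
      have h2z' : (Nat.card Z : ℚ) * 2 ≤ Nat.card G := by exact_mod_cast h2z
      rw [le_div_iff₀ hz, hδ, mul_one_div, div_mul_eq_mul_div, div_le_one hG]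
      linarith
    have bx := hbound X hX wx
    have by' := hbound Y hY wy
    linarith
  refine and_assoc.mp ⟨?_, fun C hC hc => same A hA C hC ha hc⟩
  -- the size of the class
  have hBA := same A hA B hB ha hb
  set a := Nat.card A with hadef
  set c := (cls A).card
  set e := A.relIndex (Subgroup.normalizer (A : Set G)) with hedef
  have hN : c * (a * e) = Nat.card G := by
    have h2 := Subgroup.relIndex_mul_relIndex ⊥ A _ bot_le (Subgroup.le_normalizer (H := A))
    rw [Subgroup.relIndex_bot_left, Subgroup.relIndex_bot_left] at h2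
    rw [hadef, hedef, h2]
    exact card_cls A
  have hc2 : 2 ≤ c := Finset.one_lt_card.mpr ⟨A, self_mem_cls A, B, hBA, hne⟩
  have ia := inv_le P (k := 4) four_pos ha
  push_cast at ia
  have ha0 : (0 : ℚ) < a := by exact_mod_cast Nat.card_pos
  -- the other classes have members of order two or three
  have small' : ∀ C ∈ 𝒜, C ∉ cls A →
      wgt C = 1 / 4 ∨ wgt C = 1 / 3 ∨ wgt C = 1 / 2 ∨ wgt C = 2 / 3 := by
    intro C hC hCn
    have h4 : Nat.card C < 4 := lt_of_not_ge fun h => hCn (same A hA C hC ha h)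
    have h2 := two_le P hC
    interval_cases hcc : Nat.card C <;> rcases wgt_eq P hC with w | w <;> rw [hcc] at w <;>
      norm_num at w <;> tauto
  have key : ∃ s : ℚ, wgt A + s = 1 - δ ∧
      (s = 0 ∨ s = 1/4 ∨ s = 1/3 ∨ s = 1/2 ∨ s = 2/3 ∨ s = 7/12 ∨ 3/4 ≤ s ∨
        (5/8 ≤ s)) := by
    by_cases h1 : 𝒜 = cls A
    · refine ⟨0, mul_left_cancel₀ hG.ne' ?_, Or.inl rfl⟩
      rw [add_zero, ← sum_cls, ← h1, total P, mul_sub, mul_one, hGδ]
    obtain ⟨C, hC, hCn⟩ : ∃ C ∈ 𝒜, C ∉ cls A := by
      by_contra hh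
      simp only [not_exists, not_and, not_not] at hh
      exact h1 (Finset.Subset.antisymm hh (cls_subset P hA))
    have hsub := Finset.union_subset (cls_subset P hA) (cls_subset P hC)
    have hd := cls_disjoint hCn
    by_cases h2 : 𝒜 = cls A ∪ cls C
    · refine ⟨wgt C, mul_left_cancel₀ hG.ne' ?_, ?_⟩
      · rw [mul_add, ← sum_cls, ← sum_cls, ← Finset.sum_union hd, ← h2, total P, mul_sub,
          mul_one, hGδ]
      · rcases small' C hC hCn with w | w | w | w <;> rw [w] <;> norm_num
    obtain ⟨D, hD, hDn⟩ : ∃ D ∈ 𝒜, D ∉ cls A ∪ cls C := by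
      by_contra hh
      simp only [not_exists, not_and, not_not] at hh
      exact h2 (Finset.Subset.antisymm hh hsub)
    rw [Finset.mem_union, not_or] at hDn
    have hd2 : Disjoint (cls A ∪ cls C) (cls D) :=
      Finset.disjoint_union_left.mpr ⟨cls_disjoint hDn.1, cls_disjoint hDn.2⟩
    have hsub2 := Finset.union_subset hsub (cls_subset P hD)
    by_cases h3 : 𝒜 = cls A ∪ cls C ∪ cls D
    · refine ⟨wgt C + wgt D, mul_left_cancel₀ hG.ne' ?_, ?_⟩
      · rw [mul_add, mul_add, ← sum_cls, ← sum_cls, ← sum_cls, ← add_assoc,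
          ← Finset.sum_union hd, ← Finset.sum_union hd2, ← h3, total P, mul_sub, mul_one, hGδ]
      · rcases small' C hC hCn with w | w | w | w <;> rcases small' D hD hDn.1 with v | v | v | v <;>
          rw [w, v] <;> norm_num
    obtain ⟨E, hE, hEn⟩ : ∃ E ∈ 𝒜, E ∉ cls A ∪ cls C ∪ cls D := by
      by_contra hh
      simp only [not_exists, not_and, not_not] at hh
      exact h3 (Finset.Subset.antisymm hh hsub2)
    refine ⟨1 - δ - wgt A, by ring, Or.inr (Or.inr (Or.inr (Or.inr (Or.inr (Or.inr (Or.inl ?_))))))⟩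
    rw [Finset.mem_union, Finset.mem_union, not_or, not_or] at hEn
    have hd3 : Disjoint (cls A ∪ cls C ∪ cls D) (cls E) :=
      Finset.disjoint_union_left.mpr ⟨Finset.disjoint_union_left.mpr
        ⟨cls_disjoint hEn.1.1, cls_disjoint hEn.1.2⟩, cls_disjoint hEn.2⟩
    have hle := sum_subset_le P (Finset.union_subset hsub2 (cls_subset P hE))
    rw [Finset.sum_union hd3, Finset.sum_union hd2, Finset.sum_union hd, sum_cls, sum_cls, sum_cls,
      sum_cls, ← mul_add, ← mul_add, ← mul_add] at hle
    have := norm1 hle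
    have := quarter_le_wgt P hC
    have := quarter_le_wgt P hD
    have := quarter_le_wgt P hE
    linarith
  obtain ⟨s, hs, hcases⟩ := key
  have hδeq : δ = 1 / ((c : ℚ) * (a * e)) := by
    rw [hδ, ← hN]; push_cast; rfl
  have h0 : e ≠ 0 := Subgroup.index_ne_zero_of_finite
  have he2 : e ≤ 2 := P.norm A hA
  have hw : wgt A = (1 - 1 / (a : ℚ)) / e := rfl
  interval_cases e
  · exact absurd rfl h0
  · -- index one
    exfalso
    rw [Nat.cast_one, div_one] at hw
    have hc2' : (2 : ℚ) ≤ c := by exact_mod_cast hc2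
    have hlt : 2 * δ ≤ 1 / (a : ℚ) := by
      have h1 : δ * ((c : ℚ) * a) = 1 := by
        rw [hδ, ← hN]; push_cast; field_simp
      rw [le_div_iff₀ ha0]
      nlinarith
    rw [hw] at hs
    rcases hcases with h | h | h | h | h | h | h | h <;> linarith
  · -- index two
    rw [Nat.cast_ofNat] at hw
    have hc2' : (2 : ℚ) ≤ c := by exact_mod_cast hc2
    have hlt : 4 * δ ≤ 1 / (a : ℚ) := by
      have h1 : δ * ((c : ℚ) * (a * 2)) = 1 := by
        rw [hδ, ← hN]; push_cast; field_simp
      rw [le_div_iff₀ ha0]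
      nlinarith
    rw [hw] at hs
    have hs' : s = 7 / 12 := by
      rcases hcases with h | h | h | h | h | h | h | h <;> first | exact h | linarith
    subst hs'
    have h5 : a ≤ 5 := by
      by_contra h6
      have h6' : (6 : ℚ) ≤ a := by exact_mod_cast (show 6 ≤ a by omega)
      have := one_div_le_one_div_of_le (by norm_num : (0:ℚ) < 6) h6'
      linarith
    refine ⟨h5, ?_⟩
    have h1 : δ * ((c : ℚ) * (a * 2)) = 1 := by
      rw [hδ, ← hN]; push_cast; field_simp
    have : (c : ℚ) ≤ 6 := by
      interval_cases a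
      · norm_num at hs h1
        have : δ = 1 / 24 := by linarith
        rw [this] at h1; linarith
      · norm_num at hs h1
        have : δ = 1 / 60 := by linarith
        rw [this] at h1; linarith
    exact_mod_cast this

end Cfsg.Agent.SmallPartition
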