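import Mathlib
import Cfsg.Agent.Lib.SmallPartition

/-! A group of `2 × 2` matrices of order prime to the characteristic: three distinct eigenlines of
elements of projective order at least four force small projective orders and few such lines. -/

set_option autoImplicit false
set_option linter.style.haveILetI false

namespace Cfsg.Agent.PGL2SplitAxes

open Matrix

variable {F : Type*} [Field F]

/-- `g` is scalar. -/
def Sc (g : Matrix (Fin 2) (Fin 2) F) : Prop := g 0 1 = 0 ∧ g 1 0 = 0 ∧ g 0 0 = g 1 1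

theorem sc_iff {g : Matrix (Fin 2) (Fin 2) F} : Sc g ↔ ∃ c : F, g = c • (1 : Matrix (Fin 2) (Fin 2) F) := by
  constructor
  · rintro ⟨h1, h2, h3⟩
    refine ⟨g 0 0, ?_⟩
    ext i j
    fin_cases i <;> fin_cases j <;> simp [h1, h2, h3]
  · rintro ⟨c, rfl⟩
    simp [Sc]

theorem sc_commute {g : Matrix (Fin 2) (Fin 2) F} (hg : Sc g) (h : Matrix (Fin 2) (Fin 2) F) :
    Commute g h := by
  obtain ⟨c, rfl⟩ := sc_iff.mp hg
  exact (Commute.one_left h).smul_left c

/-- The commutant of a nonscalar matrix is spanned by `1` and the matrix. -/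
theorem exists_span {g h : Matrix (Fin 2) (Fin 2) F} (hg : ¬ Sc g) (hc : Commute g h) :
    ∃ x y : F, h = x • (1 : Matrix (Fin 2) (Fin 2) F) + y • g := by
  have e : g * h = h * g := hc
  have e00 := congrFun (congrFun e 0) 0
  have e01 := congrFun (congrFun e 0) 1
  have e10 := congrFun (congrFun e 1) 0
  simp only [Matrix.mul_apply, Fin.sum_univ_two] at e00 e01 e10
  obtain ⟨y, hy1, hy2, hy3⟩ : ∃ y : F, h 0 1 = y * g 0 1 ∧ h 1 0 = y * g 1 0 ∧
      h 0 0 - h 1 1 = y * (g 0 0 - g 1 1) := by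
    by_cases hb : g 0 1 = 0
    · by_cases hc' : g 1 0 = 0
      · have hd : g 0 0 - g 1 1 ≠ 0 := fun h0 => hg ⟨hb, hc', sub_eq_zero.mp h0⟩
        have h01 : h 0 1 = 0 := by
          have : (g 0 0 - g 1 1) * h 0 1 = 0 := by rw [hb] at e01; linear_combination e01
          exact (mul_eq_zero.mp this).resolve_left hd
        have h10 : h 1 0 = 0 := by
          have : (g 0 0 - g 1 1) * h 1 0 = 0 := by rw [hc'] at e10; linear_combination -e10
          exact (mul_eq_zero.mp this).resolve_left hd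
        exact ⟨(h 0 0 - h 1 1) / (g 0 0 - g 1 1), by rw [hb, h01, mul_zero],
          by rw [hc', h10, mul_zero], by field_simp⟩
      · refine ⟨h 1 0 / g 1 0, ?_, by field_simp, ?_⟩
        · rw [hb, zero_mul] at e00
          have : h 0 1 * g 1 0 = 0 := by linear_combination -e00
          rw [hb, mul_zero, (mul_eq_zero.mp this).resolve_right hc']
        · field_simp
          linear_combination e10
    · refine ⟨h 0 1 / g 0 1, by field_simp, ?_, ?_⟩
      · field_simp
        linear_combination e00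
      · field_simp
        linear_combination -e01
  refine ⟨h 0 0 - y * g 0 0, y, ?_⟩
  ext i j
  fin_cases i <;> fin_cases j <;> simp
  · exact hy1
  · exact hy2
  · linear_combination -hy3

theorem commute_trans {g h k : Matrix (Fin 2) (Fin 2) F} (hg : ¬ Sc g) (h1 : Commute g h)
    (h2 : Commute g k) : Commute h k := by
  obtain ⟨x, y, rfl⟩ := exists_span hg h1
  exact ((Commute.one_left k).smul_left x).add_left (h2.smul_left y)

theorem pow_one_add_nil {g n : Matrix (Fin 2) (Fin 2) F} {c : F}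
    (hg : g = c • (1 : Matrix (Fin 2) (Fin 2) F) + n) (hn : n * n = 0) (m : ℕ) :
    g ^ (m + 1) = c ^ (m + 1) • (1 : Matrix (Fin 2) (Fin 2) F) + (((m + 1 : ℕ) : F) * c ^ m) • n := by
  induction m with
  | zero => simp [hg]
  | succ m ih =>
    rw [pow_succ, ih, hg]
    simp only [add_mul, mul_add, smul_mul_smul, one_mul, mul_one, smul_mul_assoc, mul_smul_comm,
      smul_smul, hn, smul_zero, add_zero]
    rw [smul_add, smul_smul, smul_smul, add_assoc, ← add_smul]
    congr 2
    · ring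
    · push_cast; ring

/-- A `p'`-element that is not scalar has distinct eigenvalues. -/
theorem disc_ne {p : ℕ} [CharP F p] (hp : p ≠ 2) {g : Matrix (Fin 2) (Fin 2) F}
    (hdet : g.det ≠ 0) (hg : ¬ Sc g) {m : ℕ} (hm : 0 < m) (hpm : ¬ p ∣ m) (hgm : g ^ m = 1) :
    g.trace ^ 2 - 4 * g.det ≠ 0 := by
  intro h0
  have h2 : (2 : F) ≠ 0 := by
    intro e
    have e' : ((2 : ℕ) : F) = 0 := by exact_mod_cast e
    rw [CharP.cast_eq_zero_iff F p] at e'
    have h1 := CharP.char_ne_one F p
    have := Nat.le_of_dvd two_pos e'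
    interval_cases p
    · simp at e'
    · exact h1 rfl
    · exact hp rfl
  set c := g.trace / 2 with hc
  have hn : (g - c • 1) * (g - c • 1) = 0 := by
    have ht : g.trace = g 0 0 + g 1 1 := Matrix.trace_fin_two g
    rw [Matrix.det_fin_two] at h0
    ext i j
    fin_cases i <;> fin_cases j <;>
      simp [Matrix.mul_apply, Fin.sum_univ_two, hc, ht] <;> field_simp <;>
      first | linear_combination (-1 : F) * 0 + (1 : F) * h0 + (0 : F) | ring1 | skip
    all_goals (rw [ht] at h0; linear_combination h0)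
  obtain ⟨k, rfl⟩ : ∃ k, m = k + 1 := ⟨m - 1, by omega⟩
  have hpow := pow_one_add_nil (g := g) (n := g - c • 1) (c := c) (by abel) hn k
  rw [hgm] at hpow
  have hc0 : c ≠ 0 := by
    intro e
    apply hdet
    have ht : g.trace = 0 := by
      rw [hc, div_eq_zero_iff] at e; exact e.resolve_right h2
    rw [ht] at h0
    have : (2 * 2) * g.det = 0 := by linear_combination -h0
    exact (mul_eq_zero.mp this).resolve_left (mul_ne_zero h2 h2)
  have hcoef : ((k + 1 : ℕ) : F) * c ^ k ≠ 0 :=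
    mul_ne_zero (fun e => hpm ((CharP.cast_eq_zero_iff F p _).mp e)) (pow_ne_zero k hc0)
  apply hg
  rw [sc_iff]
  refine ⟨c + (1 - c ^ (k + 1)) / (((k + 1 : ℕ) : F) * c ^ k), ?_⟩
  have h3 : (((k + 1 : ℕ) : F) * c ^ k) • (g - c • 1) =
      (1 - c ^ (k + 1)) • (1 : Matrix (Fin 2) (Fin 2) F) := by
    rw [sub_smul, one_smul, eq_sub_iff_add_eq]
    rw [add_comm]; exact hpow.symm
  have h4 := congrArg (fun M => (((k + 1 : ℕ) : F) * c ^ k)⁻¹ • M) h3
  simp only [smul_smul, inv_mul_cancel₀ hcoef, one_smul] at h4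
  rw [sub_eq_iff_eq_add] at h4
  rw [add_smul, h4, add_comm, div_eq_inv_mul]

/-- An element of the commutant with the same trace and determinant is `g` or its conjugate root. -/
theorem eq_or_eq {g h : Matrix (Fin 2) (Fin 2) F} (hg : ¬ Sc g) (hc : Commute g h)
    (ht : h.trace = g.trace) (hd : h.det = g.det) (h2 : (2 : F) ≠ 0)
    (hdisc : g.trace ^ 2 - 4 * g.det ≠ 0) :
    h = g ∨ h = g.trace • (1 : Matrix (Fin 2) (Fin 2) F) - g := by
  obtain ⟨x, y, rfl⟩ := exists_span hg hc
  rw [Matrix.trace_fin_two, Matrix.trace_fin_two] at ht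
  rw [Matrix.det_fin_two, Matrix.det_fin_two] at hd
  rw [Matrix.trace_fin_two, Matrix.det_fin_two] at hdisc
  simp at ht hd
  have hy : (y ^ 2 - 1) * ((g 0 0 + g 1 1) ^ 2 - 4 * (g 0 0 * g 1 1 - g 0 1 * g 1 0)) = 0 := by
    linear_combination ((x + y * g 0 0 + (x + y * g 1 1)) + (g 0 0 + g 1 1)) * ht - 4 * hd
  rcases mul_eq_zero.mp hy with h | h
  · have hy' : y = 1 ∨ y = -1 := by
      have : (y - 1) * (y + 1) = 0 := by linear_combination h
      rcases mul_eq_zero.mp this with e | e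
      · exact Or.inl (sub_eq_zero.mp e)
      · exact Or.inr (eq_neg_of_add_eq_zero_left e)
    rcases hy' with rfl | rfl
    · left
      have hx : x = 0 := by
        have : (2 : F) * x = 0 := by linear_combination ht
        exact (mul_eq_zero.mp this).resolve_left h2
      simp [hx]
    · right
      have hx : x = g.trace := by
        rw [Matrix.trace_fin_two]
        have : (2 : F) * (x - (g 0 0 + g 1 1)) = 0 := by linear_combination ht
        exact sub_eq_zero.mp ((mul_eq_zero.mp this).resolve_left h2)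
      rw [hx, neg_one_smul, sub_eq_add_neg]
  · exact absurd h hdisc

theorem eigen_of_commute {g h : Matrix (Fin 2) (Fin 2) F} (hg : ¬ Sc g) (hh : ¬ Sc h)
    (hc : Commute g h) {v : Fin 2 → F} {μ : F} (hv : h *ᵥ v = μ • v) :
    ∃ ν : F, g *ᵥ v = ν • v := by
  obtain ⟨x, y, rfl⟩ := exists_span hg hc
  have hy : y ≠ 0 := by
    intro e
    apply hh
    rw [e, zero_smul, add_zero, sc_iff]
    exact ⟨x, rfl⟩
  refine ⟨y⁻¹ * (μ - x), ?_⟩
  rw [Matrix.add_mulVec, Matrix.smul_mulVec, Matrix.smul_mulVec, Matrix.one_mulVec,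
    ← eq_sub_iff_add_eq', ← sub_smul] at hv
  rw [← smul_smul, ← hv, smul_smul, inv_mul_cancel₀ hy, one_smul]

/-- Independence of two vectors. -/
def Ind (v w : Fin 2 → F) : Prop := v 0 * w 1 - v 1 * w 0 ≠ 0

theorem ind_ne {v w : Fin 2 → F} (h : Ind v w) : v ≠ 0 := by
  rintro rfl; simp [Ind] at h

/-- Three independent eigenlines force a scalar. -/
theorem sc_of_three {g : Matrix (Fin 2) (Fin 2) F} {u v w : Fin 2 → F} {a b c : F}
    (huv : Ind u v) (huw : Ind u w) (hvw : Ind v w)
    (hu : g *ᵥ u = a • u) (hv : g *ᵥ v = b • v) (hw : g *ᵥ w = c • w) : Sc g := by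
  set α := (w 0 * v 1 - w 1 * v 0) / (u 0 * v 1 - u 1 * v 0) with hα
  set β := (u 0 * w 1 - u 1 * w 0) / (u 0 * v 1 - u 1 * v 0) with hβ
  have huv' : u 0 * v 1 - u 1 * v 0 ≠ 0 := huv
  have hαne : α ≠ 0 := by
    rw [hα]
    refine div_ne_zero ?_ huv'
    intro e
    exact hvw (by linear_combination -e)
  have hβne : β ≠ 0 := div_ne_zero huw huv'
  have hw' : w = α • u + β • v := by
    have key : ∀ i, (u 0 * v 1 - u 1 * v 0) * w i = (w 0 * v 1 - w 1 * v 0) * u i +
        (u 0 * w 1 - u 1 * w 0) * v i := by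
      intro i; fin_cases i <;> simp <;> ring
    funext i
    simp only [Pi.add_apply, Pi.smul_apply, smul_eq_mul, hα, hβ]
    rw [div_mul_eq_mul_div, div_mul_eq_mul_div, ← add_div, eq_div_iff huv']
    linear_combination key i
  rw [hw', Matrix.mulVec_add, Matrix.mulVec_smul, Matrix.mulVec_smul, hu, hv] at hw
  have e0 := congrFun hw 0
  have e1 := congrFun hw 1
  simp only [Pi.add_apply, Pi.smul_apply, smul_eq_mul] at e0 e1
  have hA : α * (a - c) * (u 0 * v 1 - u 1 * v 0) = 0 := by linear_combination v 1 * e0 - v 0 * e1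
  have hB : β * (b - c) * (u 0 * v 1 - u 1 * v 0) = 0 := by linear_combination u 0 * e1 - u 1 * e0
  have hac : a = c := sub_eq_zero.mp
    ((mul_eq_zero.mp ((mul_eq_zero.mp hA).resolve_right huv')).resolve_left hαne)
  have hbc : b = c := sub_eq_zero.mp
    ((mul_eq_zero.mp ((mul_eq_zero.mp hB).resolve_right huv')).resolve_left hβne)
  rw [sc_iff]
  refine ⟨c, ?_⟩
  have hu' : g *ᵥ u = c • u := hac ▸ hu
  have hv' : g *ᵥ v = c • v := hbc ▸ hv
  have u0 := congrFun hu' 0
  have u1 := congrFun hu' 1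
  have v0 := congrFun hv' 0
  have v1 := congrFun hv' 1
  simp only [Matrix.mulVec, dotProduct, Fin.sum_univ_two, Pi.smul_apply, smul_eq_mul] at u0 u1 v0 v1
  ext i j
  fin_cases i <;> fin_cases j <;> simp <;> apply mul_right_cancel₀ huv'
  · linear_combination v 1 * u0 - u 1 * v0
  · linear_combination u 0 * v0 - v 0 * u0
  · linear_combination v 1 * u1 - u 1 * v1
  · linear_combination u 0 * v1 - v 0 * u1

section Main

variable (Γ : Subgroup (GL (Fin 2) F))

/-- The matrix of an element. -/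
abbrev mat (g : Γ) : Matrix (Fin 2) (Fin 2) F := ((g : GL (Fin 2) F) : Matrix (Fin 2) (Fin 2) F)

/-- Scalar elements of `Γ`. -/
def scGroup : Subgroup Γ where
  carrier := {g | Sc (mat Γ g)}
  one_mem' := sc_iff.mpr ⟨1, by simp⟩
  mul_mem' := by
    intro g h hg hh
    obtain ⟨c, hc⟩ := sc_iff.mp hg
    obtain ⟨d, hd⟩ := sc_iff.mp hh
    refine sc_iff.mpr ⟨c * d, ?_⟩
    show mat Γ g * mat Γ h = _
    rw [hc, hd, smul_mul_smul, one_mul]
  inv_mem' := by
    intro g hg
    obtain ⟨c, hc⟩ := sc_iff.mp hg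
    have hone : mat Γ g * mat Γ g⁻¹ = 1 := Units.mul_inv (g : GL (Fin 2) F)
    have hc0 : c ≠ 0 := by
      rintro rfl
      rw [hc, zero_smul, zero_mul] at hone
      exact zero_ne_one hone
    refine sc_iff.mpr ⟨c⁻¹, ?_⟩
    rw [hc, smul_mul_assoc, one_mul] at hone
    show mat Γ g⁻¹ = _
    rw [← hone, smul_smul, inv_mul_cancel₀ hc0, one_smul]

instance scGroup_normal : (scGroup Γ).Normal := ⟨fun x hx g => by
  have hc : x * g = g * x := Subtype.ext (Units.ext (sc_commute hx (mat Γ g)).eq)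
  rwa [← hc, mul_inv_cancel_right]⟩

/-- The axis of `g`. -/
def cen (g : Γ) : Subgroup Γ := Subgroup.centralizer {g}

theorem mem_cen {g h : Γ} : h ∈ cen Γ g ↔ Commute (mat Γ g) (mat Γ h) := by
  rw [cen, Subgroup.mem_centralizer_singleton_iff]
  constructor
  · intro h1; exact (congrArg (mat Γ) h1).symm
  · intro h1; exact Subtype.ext (Units.ext h1.eq.symm)

theorem cen_eq {g h : Γ} (hg : g ∉ scGroup Γ) (hh : h ∉ scGroup Γ) (hc : h ∈ cen Γ g) :
    cen Γ g = cen Γ h := by
  rw [mem_cen] at hc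
  ext k
  rw [mem_cen, mem_cen]
  exact ⟨fun h1 => commute_trans hg hc h1, fun h1 => commute_trans hh hc.symm h1⟩

theorem sc_le_cen (g : Γ) : scGroup Γ ≤ cen Γ g := fun z hz => by
  rw [mem_cen]; exact (sc_commute hz _).symm

/-- Main consequence: small projective orders, few lines. -/
theorem bound [Finite F] {p : ℕ} [Fact p.Prime] [CharP F p] (hp : p ≠ 2)
    (hΓ : ¬ p ∣ Nat.card Γ) {ι : Type*} [Fintype ι] (g : ι → Γ) (v : ι → Fin 2 → F)
    (hv : ∀ i, ∃ μ : F, mat Γ (g i) *ᵥ v i = μ • v i) (hind : ∀ i j, i ≠ j → Ind (v i) (v j))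
    (hord : ∀ i (m : ℕ), 0 < m → m < 4 → g i ^ m ∉ scGroup Γ)
    (h3 : 3 ≤ Fintype.card ι) :
    Fintype.card ι ≤ 12 ∧ ∀ i, ∃ m : ℕ, 0 < m ∧ m ≤ 5 ∧ g i ^ m ∈ scGroup Γ := by
  classical
  haveI : Finite Γ := inferInstance
  set π := QuotientGroup.mk' (scGroup Γ)
  have hns : ∀ i, g i ∉ scGroup Γ := fun i => by simpa using hord i 1 one_pos (by norm_num)
  haveI : Fintype Γ := Fintype.ofFinite Γ
  let 𝒜 : Finset (Subgroup (Γ ⧸ scGroup Γ)) :=
    (Finset.univ.filter fun x : Γ => x ∉ scGroup Γ).image fun x => (cen Γ x).map π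
  have hmem : ∀ A, A ∈ 𝒜 ↔ ∃ x : Γ, x ∉ scGroup Γ ∧ (cen Γ x).map π = A := fun A => by
    simp [𝒜]
  have hpre : ∀ (x y : Γ), π y ∈ (cen Γ x).map π → y ∈ cen Γ x := by
    intro x y hy
    have : y ∈ ((cen Γ x).map π).comap π := hy
    rwa [Subgroup.comap_map_eq, QuotientGroup.ker_mk', sup_eq_left.mpr (sc_le_cen Γ x)] at this
  have hone : ∀ y, π y = 1 ↔ y ∈ scGroup Γ := fun y => QuotientGroup.eq_one_iff y
  have h2F : (2 : F) ≠ 0 := by
    intro e
    have e' : ((2 : ℕ) : F) = 0 := by exact_mod_cast e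
    rw [CharP.cast_eq_zero_iff F p, Nat.prime_dvd_prime_iff_eq Fact.out Nat.prime_two] at e'
    exact hp e'
  have P : SmallPartition.Part 𝒜 := by
    refine ⟨fun A hA => ?_, fun A hA q => ?_, fun q hq => ?_, fun A hA => ?_⟩
    · obtain ⟨x, hx, rfl⟩ := (hmem A).mp hA
      intro e
      have h1 : π x ∈ (cen Γ x).map π := ⟨x, (mem_cen Γ).mpr (Commute.refl _), rfl⟩
      rw [e, Subgroup.mem_bot, hone] at h1
      exact hx h1
    · obtain ⟨x, hx, rfl⟩ := (hmem A).mp hA
      obtain ⟨y, rfl⟩ := QuotientGroup.mk'_surjective (scGroup Γ) q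
      rw [hmem]
      refine ⟨y * x * y⁻¹, fun h => hx ?_, ?_⟩
      · have := (scGroup_normal Γ).conj_mem _ h y⁻¹
        simpa [mul_assoc] using this
      · rw [Subgroup.map_map]
        have e : ∀ z : Γ, z ∈ cen Γ (y * x * y⁻¹) ↔ y⁻¹ * z * y ∈ cen Γ x := fun z => by
          rw [cen, cen, Subgroup.mem_centralizer_singleton_iff,
            Subgroup.mem_centralizer_singleton_iff]
          constructor
          · intro h
            calc y⁻¹ * z * y * x = y⁻¹ * (z * (y * x * y⁻¹)) * y := by group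
              _ = y⁻¹ * ((y * x * y⁻¹) * z) * y := by rw [h]
              _ = _ := by group
          · intro h
            calc z * (y * x * y⁻¹) = y * (y⁻¹ * z * y * x) * y⁻¹ := by group
              _ = y * (x * (y⁻¹ * z * y)) * y⁻¹ := by rw [h]
              _ = _ := by group
        ext w
        constructor
        · rintro ⟨z, hz, rfl⟩
          exact ⟨y⁻¹ * z * y, (e z).mp hz, by simp [π, mul_assoc]⟩
        · rintro ⟨z, hz, rfl⟩
          exact ⟨y * z * y⁻¹, (e _).mpr (by simpa [mul_assoc] using hz), by simp [π]⟩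
    · obtain ⟨y, rfl⟩ := QuotientGroup.mk'_surjective (scGroup Γ) q
      have hy : y ∉ scGroup Γ := fun h => hq ((hone y).mpr h)
      refine ⟨(cen Γ y).map π, ⟨(hmem _).mpr ⟨y, hy, rfl⟩, y, (mem_cen Γ).mpr (Commute.refl _),
        rfl⟩, ?_⟩
      rintro A ⟨hA, hyA⟩
      obtain ⟨x, hx, rfl⟩ := (hmem A).mp hA
      rw [cen_eq Γ hx hy (hpre x y hyA)]
    · obtain ⟨x, hx, rfl⟩ := (hmem A).mp hA
      set N := Subgroup.normalizer ((cen Γ x).map π : Set (Γ ⧸ scGroup Γ))
      have hdet : (mat Γ x).det ≠ 0 := ((Matrix.isUnit_iff_isUnit_det _).mp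
        (x : GL (Fin 2) F).isUnit).ne_zero
      have hgm : mat Γ x ^ Nat.card Γ = 1 := by
        show ((x : GL (Fin 2) F) : Matrix (Fin 2) (Fin 2) F) ^ _ = 1
        rw [← Units.val_pow_eq_pow_val, ← SubmonoidClass.coe_pow, pow_card_eq_one',
          OneMemClass.coe_one, Units.val_one]
      have hdisc := disc_ne (p := p) hp hdet hx Nat.card_pos hΓ hgm
      have hkey : ∀ q : N, ∀ n : Γ, π n = q →
          mat Γ (n * x * n⁻¹) = mat Γ x ∨
            mat Γ (n * x * n⁻¹) = (mat Γ x).trace • 1 - mat Γ x := by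
        intro q n hn
        have hxm : π x ∈ (cen Γ x).map π := ⟨x, (mem_cen Γ).mpr (Commute.refl _), rfl⟩
        have hmv : π (n * x * n⁻¹) ∈ (cen Γ x).map π := by
          rw [map_mul, map_mul, map_inv, hn]
          exact (Subgroup.mem_normalizer_iff.mp q.2 _).mp hxm
        have hc := (mem_cen Γ).mp (hpre x _ hmv)
        have hconj : mat Γ (n * x * n⁻¹) =
            ((n : GL (Fin 2) F) : Matrix (Fin 2) (Fin 2) F) * mat Γ x *
              (((n : GL (Fin 2) F)⁻¹ : GL (Fin 2) F) : Matrix (Fin 2) (Fin 2) F) := rfl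
        refine eq_or_eq hx hc ?_ ?_ h2F hdisc
        · rw [hconj, Matrix.trace_units_conj]
        · rw [hconj, Matrix.det_units_conj]
      let f : N ⧸ ((cen Γ x).map π).subgroupOf N → Bool := fun Q =>
        decide (mat Γ (Quotient.out (Q.out : Γ ⧸ scGroup Γ) * x *
          (Quotient.out (Q.out : Γ ⧸ scGroup Γ))⁻¹) = mat Γ x)
      have hinj : Function.Injective f := by
        intro Q Q' hQ
        set n := Quotient.out (Q.out : Γ ⧸ scGroup Γ) with hn
        set n' := Quotient.out (Q'.out : Γ ⧸ scGroup Γ) with hn'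
        have e1 : π n = Q.out := QuotientGroup.out_eq' _
        have e2 : π n' = Q'.out := QuotientGroup.out_eq' _
        have hQ' : mat Γ (n * x * n⁻¹) = mat Γ x ↔ mat Γ (n' * x * n'⁻¹) = mat Γ x :=
          decide_eq_decide.mp hQ
        have hsame : mat Γ (n * x * n⁻¹) = mat Γ (n' * x * n'⁻¹) := by
          by_cases h : mat Γ (n * x * n⁻¹) = mat Γ x
          · rw [h, hQ'.mp h]
          · rw [(hkey _ n e1).resolve_left h, (hkey _ n' e2).resolve_left fun h' => h (hQ'.mpr h')]
        have hsame' : n * x * n⁻¹ = n' * x * n'⁻¹ := Subtype.ext (Units.ext hsame)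
        have hcx : n⁻¹ * n' ∈ cen Γ x := by
          rw [cen, Subgroup.mem_centralizer_singleton_iff]
          calc n⁻¹ * n' * x = n⁻¹ * (n' * x * n'⁻¹) * n' := by group
            _ = x * (n⁻¹ * n') := by rw [← hsame']; group
        rw [← QuotientGroup.out_eq' Q, ← QuotientGroup.out_eq' Q', QuotientGroup.eq,
          Subgroup.mem_subgroupOf]
        refine ⟨n⁻¹ * n', hcx, ?_⟩
        rw [map_mul, map_inv, e1, e2]
        rfl
      calc ((cen Γ x).map π).relIndex N = Nat.card (N ⧸ ((cen Γ x).map π).subgroupOf N) := rfl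
        _ ≤ Nat.card Bool := Nat.card_le_card_of_injective f hinj
        _ = 2 := by simp
  let ax : ι → Subgroup (Γ ⧸ scGroup Γ) := fun i => (cen Γ (g i)).map π
  have hax : ∀ i, ax i ∈ 𝒜 := fun i => (hmem _).mpr ⟨g i, hns i, rfl⟩
  have hbig : ∀ i, 4 ≤ Nat.card (ax i) ∧ orderOf (π (g i)) ≤ Nat.card (ax i) := by
    intro i
    have hm : π (g i) ∈ ax i := ⟨g i, (mem_cen Γ).mpr (Commute.refl _), rfl⟩
    have h1 : orderOf (π (g i)) ≤ Nat.card (ax i) := by
      rw [show π (g i) = ((⟨_, hm⟩ : ax i) : Γ ⧸ scGroup Γ) from rfl, Subgroup.orderOf_coe]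
      exact Nat.le_of_dvd Nat.card_pos (orderOf_dvd_natCard _)
    refine ⟨le_trans ?_ h1, h1⟩
    by_contra hlt
    have := hord i (orderOf (π (g i))) (orderOf_pos _) (by omega)
    apply this
    rw [← hone, map_pow, pow_orderOf_eq_one]
  -- at most two lines on one axis
  have hfib : ∀ i j k, i ≠ j → i ≠ k → j ≠ k → ax i = ax j → ax i = ax k → False := by
    intro i j k hij hik hjk e1 e2
    have hc : ∀ l, ax i = ax l → Commute (mat Γ (g i)) (mat Γ (g l)) := by
      intro l e
      have hm : π (g l) ∈ ax l := ⟨g l, (mem_cen Γ).mpr (Commute.refl _), rfl⟩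
      rw [← e] at hm
      exact (mem_cen Γ).mp (hpre _ _ hm)
    obtain ⟨a, hu⟩ := hv i
    obtain ⟨b, hb⟩ := hv j
    obtain ⟨c, hc'⟩ := hv k
    obtain ⟨b', hb'⟩ := eigen_of_commute (hns i) (hns j) (hc j e1) hb
    obtain ⟨c', hc''⟩ := eigen_of_commute (hns i) (hns k) (hc k e2) hc'
    exact hns i (sc_of_three (hind i j hij) (hind i k hik) (hind j k hjk) hu hb' hc'')
  obtain ⟨i₀, j₀, hij⟩ : ∃ i j, ax i ≠ ax j := by
    by_contra h
    simp only [not_exists, not_not] at h
    obtain ⟨i, -, j, -, k, -, hij, hik, hjk⟩ := Finset.two_lt_card.mp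
      (show 2 < (Finset.univ : Finset ι).card by rw [Finset.card_univ]; omega)
    exact hfib i j k hij hik hjk (h i j) (h i k)
  obtain ⟨ha5, hc6, hall⟩ := SmallPartition.small P (hax i₀) (hax j₀) hij (hbig i₀).1 (hbig j₀).1
  refine ⟨?_, fun i => ⟨orderOf (π (g i)), orderOf_pos _, ?_, ?_⟩⟩
  · have h1 : (Finset.univ.image ax).card ≤ 6 := by
      refine le_trans (Finset.card_le_card ?_) hc6
      intro A hA
      obtain ⟨i, -, rfl⟩ := Finset.mem_image.mp hA
      exact hall _ (hax i) (hbig i).1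
    have h2 : (Finset.univ : Finset ι).card ≤ 2 * (Finset.univ.image ax).card :=
      Finset.card_le_mul_card_image _ 2 fun A _ => by
        by_contra hlt
        obtain ⟨i, hi, j, hj, k, hk, hij, hik, hjk⟩ := Finset.two_lt_card.mp (not_le.mp hlt)
        simp only [Finset.mem_filter, Finset.mem_univ, true_and] at hi hj hk
        exact hfib i j k hij hik hjk (hi.trans hj.symm) (hi.trans hk.symm)
    rw [Finset.card_univ] at h2
    omega
  · refine (hbig i).2.trans ?_
    rw [SmallPartition.card_of_mem_cls (hall _ (hax i) (hbig i).1)]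
    exact ha5
  · rw [← hone, map_pow, pow_orderOf_eq_one]

end Main

end Cfsg.Agent.PGL2SplitAxes
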