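import Mathlib
import Cfsg.Agent.S5748
import Cfsg.Agent.S4073
import Cfsg.Agent.Lib.PSL2Elements

/-!
Groups in which centralisers of involutions are abelian: basic facts, and the facts about
`SL(2, 2^n)` that are needed.
-/

set_option autoImplicit false
set_option linter.unusedSectionVars false

namespace Cfsg.Agent.InvolAbelian22Basic

open Cfsg.Agent.CAGroupStructure22
open Cfsg.Agent.SignalizerStrongEmb (involution_ne_one involution_mul_self)
open scoped MatrixGroups

universe v

variable {G : Type v} [Group G]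

/-- Centralisers of involutions are abelian. -/
def AIC (G : Type*) [Group G] : Prop :=
  ∀ u : G, orderOf u = 2 → ∀ a ∈ cen u, ∀ b ∈ cen u, a * b = b * a

/-- A noncyclic, non-normal abelian centraliser of an involution. -/
structure Base (t : G) : Prop where
  cm : AIC G
  ot : orderOf t = 2
  notNormal : ¬ (cen t).Normal
  rk : ∃ u : G, orderOf u = 2 ∧ u ≠ t ∧ u ∈ cen t

/-- The conclusion of the classification. -/
def SLProd (G : Type v) [Group G] : Prop :=
  ∃ (F : Type) (_ : Field F) (_ : Fintype F) (A : Type) (_ : CommGroup A) (_ : Finite A),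
    CharP F 2 ∧ Odd (Nat.card A) ∧ 4 ≤ Nat.card F ∧
      Nonempty (G ≃* Matrix.SpecialLinearGroup (Fin 2) F × A)

theorem cen_invol (cm : AIC G) {u z : G} (hu : orderOf u = 2) (hz : orderOf z = 2)
    (h : z ∈ cen u) : cen z = cen u := by
  ext x
  constructor
  · intro hx
    exact mem_cen.2 (cm z hz x hx u (mem_cen.2 (mem_cen.1 h).symm))
  · intro hx
    exact mem_cen.2 (cm u hu x hx z h)

theorem aic_subgroup (cm : AIC G) (R : Subgroup G) : AIC R := by
  intro u hu a ha b hb
  refine Subtype.ext (cm u (by rwa [Subgroup.orderOf_coe]) a ?_ b ?_)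
  · exact mem_cen.2 (congrArg Subtype.val (mem_cen.1 ha))
  · exact mem_cen.2 (congrArg Subtype.val (mem_cen.1 hb))

theorem exists_invol_pow [Finite G] {x : G} (h : ¬ Odd (orderOf x)) :
    ∃ i : ℕ, orderOf (x ^ i) = 2 := by
  refine ⟨orderOf x / 2, ?_⟩
  exact orderOf_pow_orderOf_div (orderOf_pos x).ne'
    (even_iff_two_dvd.1 (Nat.not_odd_iff_even.1 h))

theorem odd_card_of_no_invol {H : Type*} [Group H] [Finite H] (h : ∀ x : H, orderOf x ≠ 2) :
    Odd (Nat.card H) := by
  rw [← Nat.not_even_iff_odd]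
  intro he
  have := Fact.mk Nat.prime_two
  obtain ⟨x, hx⟩ := exists_prime_orderOf_dvd_card' 2 (even_iff_two_dvd.1 he)
  exact h x hx

theorem mem_of_pow_two_mem [Finite G] {H : Subgroup G} {n : G} (ho : Odd (orderOf n))
    (h : n * n ∈ H) : n ∈ H := by
  obtain ⟨j, hj⟩ := ho
  have e : n = (n * n) ^ (j + 1) := by
    rw [← pow_two, ← pow_mul, show 2 * (j + 1) = orderOf n + 1 by omega, pow_succ,
      pow_orderOf_eq_one, one_mul]
  rw [e]
  exact H.pow_mem h _

namespace Base

variable {t : G} (B : Base t)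
include B

theorem t_ne : t ≠ 1 := involution_ne_one B.ot

theorem t_mem : t ∈ cen t := mem_cen.2 (Commute.refl t)

theorem comm {a b : G} (ha : a ∈ cen t) (hb : b ∈ cen t) : a * b = b * a := B.cm t B.ot a ha b hb

theorem cen_eq {z : G} (hz : orderOf z = 2) (h : z ∈ cen t) : cen z = cen t :=
  cen_invol B.cm B.ot hz h

theorem norm_of {x g : G} (hx : x ∈ cen t) (ox : orderOf x = 2) (hg : g * x * g⁻¹ ∈ cen t) :
    g ∈ Subgroup.normalizer (cen t : Set G) := by
  rw [Subgroup.mem_normalizer_iff]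
  intro z
  have e := B.cen_eq (by rw [SignalizerStrongEmb.orderOf_conj]; exact ox) hg
  rw [← B.cen_eq ox hx]
  conv_rhs => rw [B.cen_eq ox hx, ← e]
  exact conj_mem_cen_conj.symm

theorem normalizer_ne_top : Subgroup.normalizer (cen t : Set G) ≠ ⊤ := fun e =>
  B.notNormal (Subgroup.normalizer_eq_top_iff.1 e)

variable [Finite G]

theorem conj_or_comm {u v : G} (hu : orderOf u = 2) (hv : orderOf v = 2) :
    IsConj u v ∨ Commute u v := by
  rcases Nat.even_or_odd (orderOf (u * v)) with he | ho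
  · right
    obtain ⟨z, -, hz, h1, h2⟩ := SignalizerStrongEmb.exists_commuting_of_even hu hv he
    exact B.cm z hz u (mem_cen.2 h1) v (mem_cen.2 h2)
  · left
    obtain ⟨w, -, hw⟩ := SignalizerStrongEmb.exists_conj_of_odd hu hv ho
    exact isConj_iff.2 ⟨w, hw⟩

theorem conjI {u v : G} (hu : orderOf u = 2) (hv : orderOf v = 2) : IsConj u v := by
  suffices key : ∀ u : G, orderOf u = 2 → IsConj t u from (key u hu).symm.trans (key v hv)
  clear hu hv
  intro u hu
  rcases B.conj_or_comm B.ot hu with h | h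
  · exact h
  obtain ⟨g, hg⟩ : ∃ g : G, g * t * g⁻¹ ∉ cen t := by
    by_contra hall
    push Not at hall
    exact B.normalizer_ne_top ((Subgroup.eq_top_iff' _).2 fun g =>
      B.norm_of B.t_mem B.ot (hall g))
  set v := g * t * g⁻¹ with hv
  have hvo : orderOf v = 2 := by rw [hv, SignalizerStrongEmb.orderOf_conj]; exact B.ot
  rcases B.conj_or_comm hvo hu with h' | h'
  · exact IsConj.trans (isConj_iff.2 ⟨g, rfl⟩) h'
  · exact absurd (mem_cen.2 (B.cm u hu v (mem_cen.2 h') t (mem_cen.2 h))) hg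

theorem exists_norm_conj {x : G} (hx : x ∈ cen t) (ho : orderOf x = 2) :
    ∃ n ∈ Subgroup.normalizer (cen t : Set G), n * t * n⁻¹ = x := by
  obtain ⟨n, hn⟩ := isConj_iff.1 (B.conjI B.ot ho)
  exact ⟨n, B.norm_of B.t_mem B.ot (hn ▸ hx), hn⟩

theorem card_invol_cen : Nat.card {x : G // x ∈ cen t ∧ orderOf x = 2} = Cfg.kk t := by
  classical
  set N := Subgroup.normalizer (cen t : Set G)
  set K := (cen t).subgroupOf N
  let f : N ⧸ K → {x : G // x ∈ cen t ∧ orderOf x = 2} := Quotient.lift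
    (fun n : N => (⟨(n : G) * t * (n : G)⁻¹, Cfg.conj_mem n.2 B.t_mem,
      (SignalizerStrongEmb.orderOf_conj _ _).trans B.ot⟩ :
        {x : G // x ∈ cen t ∧ orderOf x = 2}))
    (by
      intro a b hab
      replace hab := QuotientGroup.leftRel_apply.1 hab
      rw [Subgroup.mem_subgroupOf, mem_cen] at hab
      refine Subtype.ext ?_
      push_cast at hab
      calc (a : G) * t * (a : G)⁻¹
          = (a : G) * ((a : G)⁻¹ * b * t * ((a : G)⁻¹ * b)⁻¹) * (a : G)⁻¹ := by
            rw [hab.eq, mul_inv_cancel_right]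
        _ = b * t * (b : G)⁻¹ := by group)
  have hf : Function.Bijective f := by
    constructor
    · intro a b
      induction a using QuotientGroup.induction_on with
      | H a =>
        induction b using QuotientGroup.induction_on with
        | H b =>
          intro e
          have e' : (a : G) * t * (a : G)⁻¹ = b * t * (b : G)⁻¹ := congrArg Subtype.val e
          refine QuotientGroup.eq.2 ?_
          rw [Subgroup.mem_subgroupOf, mem_cen]
          refine mul_inv_eq_iff_eq_mul.1 ?_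
          push_cast
          calc (a : G)⁻¹ * b * t * ((a : G)⁻¹ * b)⁻¹
              = (a : G)⁻¹ * (b * t * (b : G)⁻¹) * a := by group
            _ = (a : G)⁻¹ * (a * t * (a : G)⁻¹) * a := by rw [e']
            _ = t := by group
    · rintro ⟨x, hx, ho⟩
      obtain ⟨n, hn, e⟩ := B.exists_norm_conj hx ho
      exact ⟨QuotientGroup.mk ⟨n, hn⟩, Subtype.ext e⟩
  rw [← Nat.card_congr (Equiv.ofBijective f hf)]
  rfl

theorem odd_kk : Odd (Cfg.kk t) := by
  classical
  have := Fintype.ofFinite G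
  let E : Subgroup G :=
    { carrier := {x | x ∈ cen t ∧ x * x = 1}
      one_mem' := ⟨one_mem _, one_mul 1⟩
      mul_mem' := by
        rintro a b ⟨ha, ha2⟩ ⟨hb, hb2⟩
        refine ⟨mul_mem ha hb, ?_⟩
        calc a * b * (a * b) = a * (b * a) * b := by group
          _ = a * (a * b) * b := by rw [← B.comm ha hb]
          _ = a * a * (b * b) := by group
          _ = 1 := by rw [ha2, hb2, one_mul]
      inv_mem' := by
        rintro a ⟨ha, ha2⟩
        refine ⟨inv_mem ha, ?_⟩
        rw [← mul_inv_rev, ha2, inv_one] }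
  have htE : t ∈ E := ⟨B.t_mem, involution_mul_self B.ot⟩
  have heven : 2 ∣ Nat.card E := B.ot ▸ Subgroup.orderOf_dvd_natCard E htE
  have e : Nat.card {x : G // x ∈ cen t ∧ orderOf x = 2} = Nat.card {x : E // x ≠ 1} :=
    Nat.card_congr
      { toFun := fun x => ⟨⟨x.1, x.2.1, involution_mul_self x.2.2⟩,
          fun e => involution_ne_one x.2.2 (congrArg Subtype.val e)⟩
        invFun := fun x => ⟨x.1.1, x.1.2.1, SignalizerStrongEmb.orderOf_eq_two_of_mul_self x.1.2.2
          fun e => x.2 (Subtype.ext e)⟩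
        left_inv := fun _ => rfl
        right_inv := fun _ => rfl }
  rw [B.card_invol_cen, Nat.card_eq_fintype_card, Fintype.card_subtype_compl,
    Fintype.card_subtype_eq] at e
  rw [Nat.card_eq_fintype_card] at heven
  have : 1 ≤ Fintype.card E := Fintype.card_pos
  rw [Nat.odd_iff]
  omega

theorem three_le_kk : 3 ≤ Cfg.kk t := by
  obtain ⟨u, hu, hut, huM⟩ := B.rk
  have := B.card_invol_cen
  obtain ⟨i, hi⟩ := B.odd_kk
  by_contra hlt
  rw [show Cfg.kk t = 1 by omega, Nat.card_eq_one_iff_unique] at this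
  exact hut (congrArg Subtype.val (this.1.elim (⟨u, huM, hu⟩ : {x : G // x ∈ cen t ∧ orderOf x = 2})
    ⟨t, B.t_mem, B.ot⟩))

omit B in
theorem pow_kk_mem {n : G} (hn : n ∈ Subgroup.normalizer (cen t : Set G)) :
    n ^ Cfg.kk t ∈ cen t := by
  have : ((cen t).subgroupOf (Subgroup.normalizer (cen t : Set G))).Normal :=
    Subgroup.normal_in_normalizer
  exact ((cen t).subgroupOf (Subgroup.normalizer (cen t : Set G))).pow_index_mem
    (⟨n, hn⟩ : Subgroup.normalizer (cen t : Set G))

theorem involution_mem {n : G} (hn : n ∈ Subgroup.normalizer (cen t : Set G))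
    (ho : orderOf n = 2) : n ∈ cen t := by
  have h := pow_kk_mem hn
  obtain ⟨j, hj⟩ := B.odd_kk
  rwa [hj, pow_succ, pow_mul, pow_two, involution_mul_self ho, one_pow, one_mul] at h

/-- An element of even order of the centraliser has its centraliser in it. -/
theorem cen_le_of_not_odd {x : G} (hx : x ∈ cen t) (h : ¬ Odd (orderOf x)) : cen x ≤ cen t := by
  obtain ⟨i, hi⟩ := exists_invol_pow h
  intro y hy
  rw [← B.cen_eq hi (pow_mem hx i)]
  exact mem_cen.2 ((mem_cen.1 hy).pow_right i)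

theorem card_involutions :
    Nat.card {v : G // orderOf v = 2} = (cen t).index := by
  have h1 : Nat.card {v : G // orderOf v = 2} = Nat.card {x : G // IsConj t x} := by
    refine Nat.card_congr (Equiv.subtypeEquivRight fun x => ⟨fun h => B.conjI B.ot h, fun h => ?_⟩)
    obtain ⟨c, rfl⟩ := isConj_iff.1 h
    rw [SignalizerStrongEmb.orderOf_conj]
    exact B.ot
  have := Fintype.ofFinite G
  have h2 := CharBasicOrth.card_conj_mul_card_centralizer t
  rw [h1]
  exact Nat.eq_of_mul_eq_mul_right (Nat.card_pos (α := cen t))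
    (h2.trans ((cen t).card_mul_index.symm.trans (mul_comm _ _)))

/-- Restriction to a subgroup. -/
theorem restrict (R : Subgroup G) (hMR : cen t ≤ R)
    (hR : ¬ R ≤ Subgroup.normalizer (cen t : Set G)) (htR : t ∈ R) : Base (⟨t, htR⟩ : R) := by
  refine ⟨aic_subgroup B.cm R, by rw [← Subgroup.orderOf_coe]; exact B.ot, fun hn => hR ?_, ?_⟩
  · intro r hr
    refine B.norm_of B.t_mem B.ot (mem_cen.2 ?_)
    have := mem_cen.1 (hn.conj_mem (⟨t, htR⟩ : R) (mem_cen.2 (Commute.refl _)) ⟨r, hr⟩)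
    exact congrArg Subtype.val this
  · obtain ⟨u, hu, hut, huM⟩ := B.rk
    exact ⟨⟨u, hMR huM⟩, by rw [← Subgroup.orderOf_coe]; exact hu,
      fun e => hut (congrArg Subtype.val e), mem_cen.2 (Subtype.ext (mem_cen.1 huM))⟩

end Base

/-! ### Facts about `SL(2, 2^n)` -/

variable {F : Type*} [Field F] [Finite F] [CharP F 2]

theorem sl_simple (hq : 4 ≤ Nat.card F) : IsSimpleGroup SL(2, F) := by
  classical
  have := Fintype.ofFinite F
  haveI := PSLSimple.isSimpleGroup_PSL_fin' (F := F) (n := 2) le_rfl (fun _ => hq)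
  haveI : Nontrivial SL(2, F) := (S5748.pslEquiv F).symm.toEquiv.nontrivial
  exact IsSimpleGroup.isSimpleGroup_of_surjective (f := (S5748.pslEquiv F).toMonoidHom)
    (S5748.pslEquiv F).surjective

theorem sl_not_comm : ¬ ∀ a b : SL(2, F), Commute a b := by
  intro h
  have e : Subgroup.center SL(2, F) = ⊤ :=
    (Subgroup.eq_top_iff' _).2 fun x => Subgroup.mem_center_iff.2 fun y => h y x
  have h0 := Subgroup.mem_top (PSL2Elements.u (1 : F))
  rw [← e, S5748.center_bot, Subgroup.mem_bot, ← PSL2Elements.u_zero] at h0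
  exact one_ne_zero (PSL2Elements.u_injective h0)

theorem sl_sq (hq : 4 ≤ Nat.card F) {s x : SL(2, F)} (hs : orderOf s = 2) (h : Commute x s) :
    x * x = 1 :=
  CAGroupGeometry22.sq_one (Cfg.of_ca (fun a b c _ hb _ => S5748.ca_sl2 a b c hb) hs
    (sl_simple hq) sl_not_comm) (mem_cen.2 h)

omit [Finite F] in
theorem tr_ne_zero {X : SL(2, F)} (hX : X * X ≠ 1) : PSL2Elements.tr X ≠ 0 := by
  intro h0
  refine hX (Subtype.ext ?_)
  rw [Matrix.SpecialLinearGroup.coe_mul, Matrix.SpecialLinearGroup.coe_one,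
    PSL2Elements.sq_eq, h0, zero_smul, zero_sub]
  ext i j
  fin_cases i <;> fin_cases j <;> simp [CharTwo.neg_eq]

theorem card_cen_sl {X : SL(2, F)} (hX : X * X ≠ 1) : Nat.card (cen X) ≤ Nat.card F + 1 := by
  have h4 : (4 : F) = 0 := by
    rw [show (4 : F) = 2 + 2 by norm_num, CharTwo.add_self_eq_zero]
  have h : PSL2Elements.tr X ^ 2 ≠ 4 := by
    rw [h4]
    exact pow_ne_zero 2 (tr_ne_zero hX)
  rcases (PSL2Elements.centralizer_semisimple h).2 with ⟨-, e⟩ | ⟨-, e⟩ <;>
    · show Nat.card (Subgroup.centralizer ({X} : Set SL(2, F))) ≤ _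
      omega

/-- Subgroups of odd order are small. -/
theorem card_odd_subgroup (H : Subgroup SL(2, F)) (hodd : Odd (Nat.card H)) :
    Nat.card H ≤ Nat.card F + 1 := by
  classical
  have hca : CA SL(2, F) := fun a b c _ hb _ => S5748.ca_sl2 a b c hb
  have hord : ∀ x ∈ H, Odd (orderOf x) := fun x hx =>
    hodd.of_dvd_nat (Subgroup.orderOf_dvd_natCard H hx)
  have hsq : ∀ x ∈ H, x ≠ 1 → x * x ≠ 1 := fun x hx h1 h => by
    have := hord x hx
    rw [SignalizerStrongEmb.orderOf_eq_two_of_mul_self h h1] at this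
    exact absurd this (by decide)
  have hnorm : ∀ x ∈ H, x ≠ 1 →
      H ⊓ Subgroup.normalizer (cen x : Set SL(2, F)) = H ⊓ cen x := by
    intro x hx hx1
    refine le_antisymm (fun n hn => ⟨hn.1, ?_⟩) (inf_le_inf_left H Subgroup.le_normalizer)
    have hnx := mem_cen.1 ((Subgroup.mem_normalizer_iff.1 hn.2 x).1 (mem_cen.2 (Commute.refl x)))
    rcases S4073.inv_sl2 x n (hsq x hx hx1) hnx with e | e
    · exact mem_cen.2 (mul_inv_eq_iff_eq_mul.1 e)
    · refine mem_of_pow_two_mem (hord n hn.1) (mem_cen.2 (mul_inv_eq_iff_eq_mul.1 ?_))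
      calc n * n * x * (n * n)⁻¹ = n * (n * x * n⁻¹) * n⁻¹ := by group
        _ = (n * x * n⁻¹)⁻¹ := by rw [e, ← conj_inv, e]
        _ = x := by rw [e, inv_inv]
  have hcount : ∀ x ∈ H, x ≠ 1 →
      (NSNConverse22.cl H x).ncard * Nat.card ↥(H ⊓ cen x) =
        Nat.card H * (Nat.card ↥(H ⊓ cen x) - 1) ∧ 2 ≤ Nat.card ↥(H ⊓ cen x) := by
    intro x hx hx1
    refine ⟨?_, ?_⟩
    · have := NSNConverse22.card_cl hca H hx1
      rwa [hnorm x hx hx1] at this
    · by_contra hlt
      exact hx1 ((Subgroup.eq_bot_iff_forall _).1 (Subgroup.eq_bot_of_card_le (H ⊓ cen x)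
        (by omega)) x ⟨hx, mem_cen.2 (Commute.refl x)⟩)
  rcases subsingleton_or_nontrivial H with hs | hn
  · rw [Nat.card_unique]
    omega
  obtain ⟨⟨x, hx⟩, hx1'⟩ := exists_ne (1 : H)
  have hx1 : x ≠ 1 := fun e => hx1' (Subtype.ext e)
  obtain ⟨hcx, hax⟩ := hcount x hx hx1
  have hsub : Nat.card ↥(H ⊓ cen x) ≤ Nat.card H := Subgroup.card_le_of_le inf_le_left
  by_cases hA : Nat.card ↥(H ⊓ cen x) = Nat.card H
  · rw [← hA]
    exact (Subgroup.card_le_of_le inf_le_right).trans (card_cen_sl (hsq x hx hx1))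
  exfalso
  have hd : ((H : Set SL(2, F)) \ {1}).ncard + 1 = Nat.card H := NSNConverse22.ncard_diff H
  obtain ⟨y, ⟨hy, hy1⟩, hyx⟩ : ∃ y ∈ (H : Set SL(2, F)) \ {1}, y ∉ NSNConverse22.cl H x := by
    by_contra hall
    push Not at hall
    have he : NSNConverse22.cl H x = (H : Set SL(2, F)) \ {1} :=
      Set.Subset.antisymm (NSNConverse22.cl_subset H x) hall
    rw [he] at hcx
    obtain ⟨a, ha⟩ : ∃ a, Nat.card ↥(H ⊓ cen x) = a + 1 := ⟨_, (Nat.sub_add_cancel (by omega)).symm⟩
    rw [ha, Nat.add_sub_cancel] at hcx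
    rw [← hd] at hcx hA
    rw [ha] at hA
    refine hA ?_
    have : ((H : Set SL(2, F)) \ {1}).ncard = a := by linarith
    omega
  obtain ⟨hcy, hay⟩ := hcount y hy hy1
  have hdis := NSNConverse22.cl_disjoint hca hx1 hy hy1 hyx
  have hle := Set.ncard_le_ncard (Set.union_subset (NSNConverse22.cl_subset H x)
    (NSNConverse22.cl_subset H y)) (Set.toFinite _)
  rw [Set.ncard_union_eq hdis] at hle
  have half : ∀ c a : ℕ, c * a = Nat.card H * (a - 1) → 2 ≤ a → Nat.card H ≤ 2 * c := by
    intro c a h h2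
    obtain ⟨b, rfl⟩ : ∃ b, a = b + 2 := ⟨a - 2, by omega⟩
    rw [show b + 2 - 1 = b + 1 by omega] at h
    nlinarith
  have := half _ _ hcx hax
  have := half _ _ hcy hay
  omega

end Cfsg.Agent.InvolAbelian22Basic
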