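import Mathlib
import Cfsg.Agent.Lib.InvolAbelian22Basic

/-!
Groups with abelian centralisers of involutions and trivial centre: an element of odd order in the
centraliser of an involution has its centraliser in the normaliser.
-/

set_option autoImplicit false
set_option linter.unusedSectionVars false

namespace Cfsg.Agent.InvolAbelian22Bad

open Cfsg.Agent.CAGroupStructure22 Cfsg.Agent.InvolAbelian22Basic
open Cfsg.Agent.SignalizerStrongEmb (involution_ne_one involution_mul_self orderOf_eq_two_of_mul_self)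
open scoped MatrixGroups

universe v

variable {G : Type v} [Group G] [Finite G] {t : G}

/-- The inductive hypothesis. -/
def IH (G : Type v) [Group G] : Prop :=
  ∀ (R : Type v) [Group R] [Finite R], Nat.card R < Nat.card G → ∀ s : R, Base s → SLProd R

theorem struct (B : Base t) (hIH : IH G) (hZ : Subgroup.center G = ⊥) {x : G} (hx : x ∈ cen t)
    (hx1 : x ≠ 1) (hbad : ¬ cen x ≤ Subgroup.normalizer (cen t : Set G)) :
    cen t ≤ cen x ∧ ∃ htR : t ∈ cen x, Base (⟨t, htR⟩ : cen x) ∧
    (∀ y ∈ cen t, Odd (orderOf y) → ∀ r ∈ cen x, Commute r y) ∧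
    ∃ (F : Type) (_ : Field F) (_ : Fintype F), CharP F 2 ∧ 4 ≤ Nat.card F ∧
      ∃ ψ : cen x →* SL(2, F),
        (∀ y : cen x, ψ y = 1 ↔ ((y : G) ∈ cen t ∧ Odd (orderOf (y : G)))) ∧
        ∀ a : SL(2, F), orderOf a = 2 → ∃ y : cen x, orderOf y = 2 ∧ ψ y = a := by
  classical
  have hMR : cen t ≤ cen x := fun m hm => mem_cen.2 (B.comm hm hx)
  have htR : t ∈ cen x := hMR B.t_mem
  have hne : cen x ≠ ⊤ := by
    intro e
    refine hx1 ((Subgroup.eq_bot_iff_forall _).1 hZ x (Subgroup.mem_center_iff.2 fun g => ?_))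
    exact (mem_cen.1 (e.symm ▸ Subgroup.mem_top g : g ∈ cen x))
  have BR := B.restrict (cen x) hMR hbad htR
  have hlt : Nat.card (cen x) < Nat.card G :=
    lt_of_le_of_ne (Subgroup.card_le_card_group _) fun e => hne ((Subgroup.card_eq_iff_eq_top _).1 e)
  obtain ⟨F, iF, iFt, A, iA, iAf, hch, hA, hq, ⟨e⟩⟩ := hIH (cen x) hlt _ BR
  haveI := hch
  set ψ : cen x →* SL(2, F) := (MonoidHom.fst _ _).comp e.toMonoidHom with hψ
  set t' : cen x := ⟨t, htR⟩
  have hψe : ∀ y, ψ y = (e y).1 := fun y => rfl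
  have hs : orderOf (ψ t') = 2 := by
    refine orderOf_eq_two_of_mul_self ?_ fun h1 => ?_
    · rw [← map_mul, involution_mul_self BR.ot, map_one]
    · have h2 : (e t').2 * (e t').2 = 1 := by
        rw [← Prod.snd_mul, ← map_mul, involution_mul_self BR.ot, map_one, Prod.snd_one]
      by_cases h3 : (e t').2 = 1
      · exact BR.t_ne (e.map_eq_one_iff.1 (Prod.ext h1 h3))
      · have hd := orderOf_dvd_natCard (e t').2
        rw [orderOf_eq_two_of_mul_self h2 h3] at hd
        exact Nat.not_even_iff_odd.2 hA (even_iff_two_dvd.2 hd)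
  have hcomm : ∀ y : cen x, ψ y = 1 → ∀ r : cen x, Commute r y := by
    intro y hy r
    refine e.injective ?_
    rw [map_mul, map_mul]
    refine Prod.ext ?_ (mul_comm _ _)
    rw [Prod.fst_mul, Prod.fst_mul, ← hψe y, hy, mul_one, one_mul]
  have hiff : ∀ y : cen x, ψ y = 1 ↔ ((y : G) ∈ cen t ∧ Odd (orderOf (y : G))) := by
    intro y
    constructor
    · intro hy
      refine ⟨mem_cen.2 (congrArg Subtype.val (hcomm y hy t')).symm, ?_⟩
      rw [Subgroup.orderOf_coe, ← MulEquiv.orderOf_eq e y]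
      refine hA.of_dvd_nat ?_
      have hd : orderOf (e y) ∣ orderOf (e y).2 := by
        refine orderOf_dvd_of_pow_eq_one (Prod.ext ?_ ?_)
        · rw [Prod.pow_fst, ← hψe y, hy, one_pow, Prod.fst_one]
        · rw [Prod.pow_snd, pow_orderOf_eq_one, Prod.snd_one]
      exact hd.trans (orderOf_dvd_natCard _)
    · rintro ⟨hyM, hyo⟩
      have hc : Commute (ψ y) (ψ t') :=
        (show Commute y t' from Subtype.ext (mem_cen.1 hyM)).map ψ
      have hsq := sl_sq hq hs hc
      have ho : Odd (orderOf (ψ y)) := hyo.of_dvd_nat (by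
        rw [Subgroup.orderOf_coe]
        exact orderOf_map_dvd ψ y)
      exact (Subgroup.mem_bot).1 (mem_of_pow_two_mem (H := ⊥) ho (Subgroup.mem_bot.2 hsq))
  refine ⟨hMR, htR, BR, fun y hy hyo r hr => ?_, F, iF, iFt, hch, hq, ψ, hiff, fun a ha => ?_⟩
  · have := hcomm ⟨y, hMR hy⟩ ((hiff _).2 ⟨hy, hyo⟩) ⟨r, hr⟩
    exact congrArg Subtype.val this
  · refine ⟨e.symm (a, 1), orderOf_eq_two_of_mul_self ?_ fun h => ?_, ?_⟩
    · rw [← map_mul, Prod.mk_mul_mk, involution_mul_self ha, one_mul, Prod.mk_one_one, map_one]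
    · have h' := congrArg e h
      rw [MulEquiv.apply_symm_apply, map_one] at h'
      exact involution_ne_one ha (congrArg Prod.fst h')
    · rw [hψe, MulEquiv.apply_symm_apply]

theorem no_bad (B : Base t) (hIH : IH G) (hZ : Subgroup.center G = ⊥) {x : G} (hx : x ∈ cen t)
    (hx1 : x ≠ 1) : cen x ≤ Subgroup.normalizer (cen t : Set G) := by
  classical
  by_contra hbad
  obtain ⟨hMR, htR, BR, hcomm, F, iF, iFt, hch, hq, ψ, hiff, hlift⟩ :=
    struct B hIH hZ hx hx1 hbad
  haveI := hch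
  have hxo : Odd (orderOf x) := by
    by_contra h
    exact hbad ((B.cen_le_of_not_odd hx h).trans Subgroup.le_normalizer)
  have hcenR : ∀ y ∈ cen t, Odd (orderOf y) → y ≠ 1 → cen y ≤ (cen x) := by
    intro y hy hyo hy1
    have hb : ¬ cen y ≤ Subgroup.normalizer (cen t : Set G) := fun h =>
      hbad fun r hr => h (mem_cen.2 (hcomm y hy hyo r hr))
    obtain ⟨-, -, -, hc, -⟩ := struct B hIH hZ hy hy1 hb
    exact fun r hr => mem_cen.2 (hc x hx hxo r hr)
  have hsf : ∀ g : G, g * t * g⁻¹ ∈ (cen x) → g ∈ (cen x) := by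
    intro g hg
    have ho : orderOf (⟨g * t * g⁻¹, hg⟩ : (cen x)) = 2 := by
      rw [← Subgroup.orderOf_coe]
      exact (SignalizerStrongEmb.orderOf_conj _ _).trans B.ot
    obtain ⟨r, hr⟩ := isConj_iff.1 (BR.conjI BR.ot ho)
    have hr' : (r : G) * t * (r : G)⁻¹ = g * t * g⁻¹ := congrArg Subtype.val hr
    have hm : (r : G)⁻¹ * g ∈ cen t := by
      refine mem_cen.2 (mul_inv_eq_iff_eq_mul.1 ?_)
      calc (r : G)⁻¹ * g * t * ((r : G)⁻¹ * g)⁻¹ = (r : G)⁻¹ * (g * t * g⁻¹) * r := by group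
        _ = (r : G)⁻¹ * ((r : G) * t * (r : G)⁻¹) * r := by rw [hr']
        _ = t := by group
    have := (cen x).mul_mem r.2 (hMR hm)
    rwa [mul_inv_cancel_left] at this
  -- involutions of the subgroup
  set m := Nat.card {v : (cen x) // orderOf v = 2} with hmdef
  have hm : m = (cen t).relIndex (cen x) := by
    rw [hmdef, BR.card_involutions]
    show (cen (⟨t, htR⟩ : (cen x))).index = ((cen t).subgroupOf (cen x)).index
    congr 1
    ext y
    rw [Subgroup.mem_subgroupOf, mem_cen, mem_cen]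
    exact ⟨fun h => congrArg Subtype.val h.eq, fun h => Subtype.ext h⟩
  have hmbig : 2 * (Nat.card F - 1) ≤ m := by
    have : Finite F := inferInstance
    have hu : ∀ a : Fˣ, orderOf (PSL2Elements.u (a : F)) = 2 := fun a => by
      refine orderOf_eq_two_of_mul_self ?_ fun h => a.ne_zero (PSL2Elements.u_injective
        (h.trans PSL2Elements.u_zero.symm))
      rw [PSL2Elements.u_mul, CharTwo.add_self_eq_zero, PSL2Elements.u_zero]
    have hw : ∀ a : Fˣ,
        orderOf (PSL2Elements.w * PSL2Elements.u (a : F) * PSL2Elements.w⁻¹) = 2 := fun a =>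
      (SignalizerStrongEmb.orderOf_conj _ _).trans (hu a)
    choose f hf hfψ using fun a : Fˣ => hlift _ (hu a)
    choose f' hf' hfψ' using fun a : Fˣ => hlift _ (hw a)
    have h := Nat.card_le_card_of_injective
      (fun s : Fˣ ⊕ Fˣ => (s.elim (fun a => ⟨f a, hf a⟩) fun a => ⟨f' a, hf' a⟩ :
        {v : (cen x) // orderOf v = 2})) (by
      have h10 : ∀ a b : Fˣ, PSL2Elements.u (a : F) ≠
          PSL2Elements.w * PSL2Elements.u (b : F) * PSL2Elements.w⁻¹ := by
        intro a b h
        have := congrArg (fun M : SL(2, F) => M.1 1 0) h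
        simp [PSL2Elements.u, PSL2Elements.w, PSL2Elements.inv_apply, Matrix.mul_apply,
          Fin.sum_univ_two] at this
      rintro (a | a) (b | b) h
      · refine congrArg Sum.inl (Units.ext (PSL2Elements.u_injective ?_))
        rw [← hfψ a, ← hfψ b]
        exact congrArg (fun v => ψ v.1) h
      · refine absurd ?_ (h10 a b)
        rw [← hfψ a, ← hfψ' b]
        exact congrArg (fun v => ψ v.1) h
      · refine absurd ?_ (h10 b a)
        rw [← hfψ b, ← hfψ' a]
        exact congrArg (fun v => ψ v.1) h.symm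
      · refine congrArg Sum.inr (Units.ext (PSL2Elements.u_injective ?_))
        refine mul_left_cancel (a := PSL2Elements.w) (mul_right_cancel (b := PSL2Elements.w⁻¹) ?_)
        rw [← hfψ' a, ← hfψ' b]
        exact congrArg (fun v => ψ v.1) h)
    rw [Nat.card_sum, Nat.card_units] at h
    omega
  -- a coset with many involutions
  let fib : G ⧸ (cen x) → ℕ := fun q => Nat.card {v : G // orderOf v = 2 ∧ (v : G ⧸ (cen x)) = q}
  have hbase : fib (1 : G) = m := by
    refine Nat.card_congr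
      { toFun := fun v => ⟨⟨v.1, by
          have := v.2.2
          rw [QuotientGroup.eq] at this
          simpa using (cen x).inv_mem this⟩, by rw [← Subgroup.orderOf_coe]; exact v.2.1⟩
        invFun := fun v => ⟨v.1.1, by rw [Subgroup.orderOf_coe]; exact v.2,
          QuotientGroup.eq.2 (by simpa using (cen x).inv_mem v.1.2)⟩
        left_inv := fun _ => rfl
        right_inv := fun _ => rfl }
  obtain ⟨q, hq1, hqm⟩ : ∃ q : G ⧸ (cen x), q ≠ (1 : G) ∧ m ≤ fib q := by
    have := Fintype.ofFinite (G ⧸ (cen x))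
    by_contra hall
    push Not at hall
    have hsum : ∑ q : G ⧸ (cen x), fib q = ∑ _q : G ⧸ (cen x), m := by
      rw [Finset.sum_const, Finset.card_univ, smul_eq_mul, ← Nat.card_eq_fintype_card, mul_comm,
        ← Nat.card_sigma, hm, show Nat.card (G ⧸ (cen x)) = (cen x).index from rfl,
        Subgroup.relIndex_mul_index hMR, ← B.card_involutions]
      exact Nat.card_congr
        { toFun := fun x => ⟨x.2.1, x.2.2.1⟩
          invFun := fun v => ⟨(v.1 : G ⧸ (cen x)), v.1, v.2, rfl⟩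
          left_inv := fun ⟨q, v, h1, h2⟩ => by subst h2; rfl
          right_inv := fun _ => rfl }
    obtain ⟨g, hg⟩ : ∃ g : G, g ∉ (cen x) := by
      by_contra h
      push Not at h
      refine hx1 ((Subgroup.eq_bot_iff_forall _).1 hZ x (Subgroup.mem_center_iff.2 fun g => ?_))
      exact mem_cen.1 (h g)
    refine (Finset.sum_lt_sum (fun q _ => ?_) ⟨(g : G ⧸ (cen x)), Finset.mem_univ _, hall _ ?_⟩).ne hsum
    · by_cases hq1 : q = (1 : G)
      · exact (hq1 ▸ hbase).le
      · exact (hall q hq1).le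
    · exact fun e => hg (by simpa using (cen x).inv_mem (QuotientGroup.eq.1 e))
  obtain ⟨⟨u, hu, huq⟩⟩ : Nonempty {v : G // orderOf v = 2 ∧ (v : G ⧸ (cen x)) = q} := by
    refine Nat.card_pos_iff.1 ?_ |>.1
    exact lt_of_lt_of_le (by omega) hqm
  have hout : ∀ v : G, (v : G ⧸ (cen x)) = q → v ∉ (cen x) := fun v hv hvR =>
    hq1 (hv.symm.trans (QuotientGroup.eq.2 (by simpa using (cen x).inv_mem hvR)))
  set H₀ : Subgroup (cen x) := ((cen x) ⊓ (cen x).comap (MulAut.conj u).toMonoidHom).subgroupOf (cen x) with hH₀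
  have hodd : Odd (Nat.card H₀) := by
    refine odd_card_of_no_invol fun z hz => hout u huq ?_
    rw [← Subgroup.orderOf_coe] at hz
    obtain ⟨r, hr⟩ := isConj_iff.1 (BR.conjI BR.ot hz)
    have hr' : (r : G) * t * (r : G)⁻¹ = (z.1 : G) := congrArg Subtype.val hr
    have hz2 : u * (z.1 : G) * u⁻¹ ∈ (cen x) := (Subgroup.mem_subgroupOf.1 z.2).2
    have hur : u * (r : G) ∈ (cen x) := hsf _ (by
      rw [← hr'] at hz2
      convert hz2 using 1
      group)
    have := (cen x).mul_mem hur ((cen x).inv_mem r.2)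
    rwa [mul_inv_cancel_right] at this
  have hH : Nat.card (H₀.map ψ) ≤ Nat.card F + 1 :=
    card_odd_subgroup _ (hodd.of_dvd_nat (Subgroup.card_map_dvd _ _))
  have huv : ∀ v : {v : G // orderOf v = 2 ∧ (v : G ⧸ (cen x)) = q}, u * v.1 ∈ (cen x) := fun v => by
    have := QuotientGroup.eq.1 (huq.trans v.2.2.symm)
    rwa [SignalizerStrongEmb.involution_inv hu] at this
  have huv' : ∀ v, (⟨u * v.1, huv v⟩ : (cen x)) ∈ H₀ := fun v => by
    refine Subgroup.mem_subgroupOf.2 ⟨huv v, ?_⟩
    show u * (u * v.1) * u⁻¹ ∈ (cen x)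
    have := (cen x).inv_mem (huv v)
    rw [mul_inv_rev, SignalizerStrongEmb.involution_inv v.2.1] at this
    rwa [← mul_assoc, involution_mul_self hu, one_mul]
  let g : {v : G // orderOf v = 2 ∧ (v : G ⧸ (cen x)) = q} → H₀.map ψ := fun v =>
    ⟨ψ ⟨u * v.1, huv v⟩, Subgroup.mem_map_of_mem ψ (huv' v)⟩
  have hg : Function.Injective g := by
    intro v w h
    have h' : ψ ((⟨u * v.1, huv v⟩ : (cen x))⁻¹ * ⟨u * w.1, huv w⟩) = 1 := by
      rw [map_mul, map_inv, show ψ ⟨u * v.1, huv v⟩ = ψ ⟨u * w.1, huv w⟩ from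
        congrArg Subtype.val h, inv_mul_cancel]
    obtain ⟨hoM, hoo⟩ := (hiff _).1 h'
    have he : (((⟨u * v.1, huv v⟩ : (cen x))⁻¹ * ⟨u * w.1, huv w⟩ : (cen x)) : G) = v.1 * w.1 := by
      show (u * v.1)⁻¹ * (u * w.1) = v.1 * w.1
      rw [mul_inv_rev, SignalizerStrongEmb.involution_inv v.2.1, mul_assoc, inv_mul_cancel_left]
    rw [he] at hoM hoo
    by_contra hne
    have ho1 : v.1 * w.1 ≠ 1 := fun e => hne (Subtype.ext (by
      rw [mul_eq_one_iff_eq_inv.1 e, SignalizerStrongEmb.involution_inv w.2.1]))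
    refine hout v.1 v.2.2 (hsf _ (hcenR (v.1 * w.1)⁻¹ (inv_mem hoM) (by rwa [orderOf_inv])
      (inv_ne_one.2 ho1) ?_))
    have h1 := (conj_mem_cen_conj (g := v.1)).2 (mem_cen.2 (mem_cen.1 hoM).symm)
    have e : v.1 * (v.1 * w.1) * v.1⁻¹ = (v.1 * w.1)⁻¹ := by
      rw [← mul_assoc, involution_mul_self v.2.1, one_mul, mul_inv_rev,
        SignalizerStrongEmb.involution_inv w.2.1]
    rwa [e] at h1
  have hle := (hqm.trans (Nat.card_le_card_of_injective g hg)).trans hH
  omega

end Cfsg.Agent.InvolAbelian22Bad
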