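import Mathlib
import Cfsg.Agent.Lib.InvolAbelian22Basic
import Cfsg.Agent.Lib.PSL2Sylow
import Cfsg.Agent.S0088

/-!
Groups with abelian centralisers of involutions: reduction by the centre.
-/

set_option autoImplicit false
set_option linter.unusedSectionVars false

namespace Cfsg.Agent.InvolAbelian22Central

open Cfsg.Agent.CAGroupStructure22 Cfsg.Agent.InvolAbelian22Basic
open Cfsg.Agent.SignalizerStrongEmb (involution_ne_one involution_mul_self orderOf_eq_two_of_mul_self)
open scoped MatrixGroups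

universe v

variable {G : Type v} [Group G] [Finite G] {t : G}

theorem center_le (B : Base t) : Subgroup.center G ≤ cen t := fun z hz =>
  mem_cen.2 (Subgroup.mem_center_iff.1 hz t).symm

theorem center_odd (B : Base t) : Odd (Nat.card (Subgroup.center G)) := by
  refine odd_card_of_no_invol fun z hz => B.notNormal ?_
  rw [← Subgroup.orderOf_coe] at hz
  have e := B.cen_eq hz (center_le B z.2)
  have htop : cen (z : G) = ⊤ :=
    (Subgroup.eq_top_iff' _).2 fun g => mem_cen.2 (Subgroup.mem_center_iff.1 z.2 g)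
  rw [← e, htop]
  infer_instance

/-- An element whose image commutes with that of an involution commutes with it. -/
theorem mem_of_commute_mk (B : Base t) {u x : G} (hu : orderOf u = 2)
    (h : Commute (x : G ⧸ Subgroup.center G) (u : G ⧸ Subgroup.center G)) : x ∈ cen u := by
  have hz : u⁻¹ * (x * u * x⁻¹) ∈ Subgroup.center G := by
    rw [← QuotientGroup.eq]
    simp only [QuotientGroup.mk_mul, QuotientGroup.mk_inv]
    rw [show (x : G ⧸ Subgroup.center G) * u = u * x from h.eq, mul_inv_cancel_right]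
  set z := u⁻¹ * (x * u * x⁻¹) with hzdef
  have hc : Commute u z := Subgroup.mem_center_iff.1 hz u
  have e : x * u * x⁻¹ = u * z := by rw [hzdef]; group
  have hz2 : z * z = 1 := by
    have h1 : (x * u * x⁻¹) * (x * u * x⁻¹) = 1 := by
      rw [show (x * u * x⁻¹) * (x * u * x⁻¹) = x * (u * u) * x⁻¹ by group,
        involution_mul_self hu, mul_one, mul_inv_cancel]
    rw [e] at h1
    calc z * z = u * u * (z * z) := by rw [involution_mul_self hu, one_mul]
      _ = u * (u * z) * z := by group
      _ = u * (z * u) * z := by rw [hc.eq]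
      _ = u * z * (u * z) := by group
      _ = 1 := h1
  have hz1 : z = 1 := by
    by_contra hne
    have hd := Subgroup.orderOf_dvd_natCard _ hz
    rw [orderOf_eq_two_of_mul_self hz2 hne] at hd
    exact Nat.not_even_iff_odd.2 (center_odd B) (even_iff_two_dvd.2 hd)
  rw [hz1, mul_one] at e
  exact mem_cen.2 (mul_inv_eq_iff_eq_mul.1 e)

/-- Involutions of the quotient lift. -/
theorem exists_lift (B : Base t) {y : G ⧸ Subgroup.center G} (hy : orderOf y = 2) :
    ∃ u : G, orderOf u = 2 ∧ (u : G ⧸ Subgroup.center G) = y := by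
  induction y using QuotientGroup.induction_on with
  | H g =>
    have hg2 : g * g ∈ Subgroup.center G := by
      rw [← QuotientGroup.eq_one_iff]
      push_cast
      exact involution_mul_self hy
    set m := orderOf (g * g) with hm
    have hodd : Odd m := (center_odd B).of_dvd_nat (Subgroup.orderOf_dvd_natCard _ hg2)
    have he : ((g ^ m : G) : G ⧸ Subgroup.center G) = g := by
      obtain ⟨j, hj⟩ := hodd
      rw [hj, QuotientGroup.mk_pow, pow_succ, pow_mul, pow_two, involution_mul_self hy, one_pow,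
        one_mul]
    refine ⟨g ^ m, orderOf_eq_two_of_mul_self ?_ fun e => ?_, he⟩
    · rw [← (Commute.refl g).mul_pow]
      exact pow_orderOf_eq_one _
    · rw [e] at he
      exact involution_ne_one hy he.symm

theorem aic_quot (B : Base t) : AIC (G ⧸ Subgroup.center G) := by
  intro y hy a ha b hb
  obtain ⟨u, hu, rfl⟩ := exists_lift B hy
  induction a using QuotientGroup.induction_on with
  | H a =>
    induction b using QuotientGroup.induction_on with
    | H b =>
      rw [← QuotientGroup.mk_mul, ← QuotientGroup.mk_mul,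
        B.cm u hu a (mem_of_commute_mk B hu (mem_cen.1 ha)) b
          (mem_of_commute_mk B hu (mem_cen.1 hb))]

theorem mk_t_ne (B : Base t) : (t : G ⧸ Subgroup.center G) ≠ 1 := by
  intro e
  have hd := Subgroup.orderOf_dvd_natCard _ ((QuotientGroup.eq_one_iff t).1 e)
  rw [B.ot] at hd
  exact Nat.not_even_iff_odd.2 (center_odd B) (even_iff_two_dvd.2 hd)

theorem base_quot (B : Base t) : Base (t : G ⧸ Subgroup.center G) := by
  refine ⟨aic_quot B, orderOf_eq_two_of_mul_self ?_ (mk_t_ne B), fun hn => B.notNormal ?_, ?_⟩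
  · rw [← QuotientGroup.mk_mul, involution_mul_self B.ot, QuotientGroup.mk_one]
  · refine ⟨fun x hx g => mem_of_commute_mk B B.ot ?_⟩
    push_cast
    exact mem_cen.1 (hn.conj_mem _ (mem_cen.2
      ((mem_cen.1 hx).map (QuotientGroup.mk' (Subgroup.center G)))) (g : G ⧸ Subgroup.center G))
  · obtain ⟨u, hu, hut, huM⟩ := B.rk
    refine ⟨u, orderOf_eq_two_of_mul_self ?_ ?_, fun e => hut ?_,
      mem_cen.2 ((mem_cen.1 huM).map (QuotientGroup.mk' (Subgroup.center G)))⟩
    · rw [← QuotientGroup.mk_mul, involution_mul_self hu, QuotientGroup.mk_one]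
    · intro e
      have hd := Subgroup.orderOf_dvd_natCard _ ((QuotientGroup.eq_one_iff u).1 e)
      rw [hu] at hd
      exact Nat.not_even_iff_odd.2 (center_odd B) (even_iff_two_dvd.2 hd)
    · have hz : u⁻¹ * t ∈ Subgroup.center G := QuotientGroup.eq.1 e
      by_contra hne
      have h2 : (u⁻¹ * t) * (u⁻¹ * t) = 1 := by
        rw [SignalizerStrongEmb.involution_inv hu]
        calc u * t * (u * t) = u * (t * u) * t := by group
          _ = u * (u * t) * t := by rw [(mem_cen.1 huM).eq]
          _ = u * u * (t * t) := by group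
          _ = 1 := by rw [involution_mul_self hu, involution_mul_self B.ot, one_mul]
      have hd := Subgroup.orderOf_dvd_natCard _ hz
      rw [orderOf_eq_two_of_mul_self h2 fun e => hne (inv_mul_eq_one.1 e)] at hd
      exact Nat.not_even_iff_odd.2 (center_odd B) (even_iff_two_dvd.2 hd)

/-- The quotient by the centre is `SL(2, F)` itself. -/
theorem exists_surj (B : Base t) (hout : SLProd (G ⧸ Subgroup.center G)) :
    ∃ (F : Type) (_ : Field F) (_ : Fintype F), CharP F 2 ∧ 4 ≤ Nat.card F ∧
      ∃ ψ : G →* SL(2, F), Function.Surjective ψ ∧ ψ.ker = Subgroup.center G := by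
  classical
  obtain ⟨F, iF, iFt, A, iA, iAf, hch, hA, hq, ⟨e⟩⟩ := hout
  haveI := hch
  haveI := sl_simple hq
  set f : G →* SL(2, F) × A := e.toMonoidHom.comp (QuotientGroup.mk' _) with hf
  have hfs : Function.Surjective f := e.surjective.comp (QuotientGroup.mk'_surjective _)
  have hfker : f.ker = Subgroup.center G := by
    ext x
    rw [MonoidHom.mem_ker, ← QuotientGroup.eq_one_iff (N := Subgroup.center G)]
    show e (x : G ⧸ _) = 1 ↔ _
    rw [MulEquiv.map_eq_one_iff]
  set ψ : G →* SL(2, F) := (MonoidHom.fst _ _).comp f with hψ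
  have hψs : Function.Surjective ψ := fun s => by
    obtain ⟨x, hx⟩ := hfs (s, 1)
    exact ⟨x, by rw [hψ, MonoidHom.comp_apply, hx]; rfl⟩
  refine ⟨F, iF, iFt, hch, hq, ψ, hψs, le_antisymm ?_ ?_⟩
  swap
  · rw [← hfker]
    intro x hx
    rw [MonoidHom.mem_ker] at hx ⊢
    rw [hψ, MonoidHom.comp_apply, hx]
    rfl
  -- the kernel is central
  have ht2 : (f t).2 = 1 := by
    have h1 : (f t).2 * (f t).2 = 1 := by
      rw [← Prod.snd_mul, ← map_mul, involution_mul_self B.ot, map_one, Prod.snd_one]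
    by_contra hne
    have hd := orderOf_dvd_natCard (f t).2
    rw [orderOf_eq_two_of_mul_self h1 hne] at hd
    exact Nat.not_even_iff_odd.2 hA (even_iff_two_dvd.2 hd)
  have hKM : ψ.ker ≤ cen t := by
    intro k hk
    have hk1 : (f k).1 = 1 := hk
    have hc : Commute (f k) (f t) := Prod.ext (by simp [hk1]) (by simp [ht2])
    refine mem_of_commute_mk B B.ot ?_
    exact e.injective (by rw [map_mul, map_mul]; exact hc.eq)
  set C := Subgroup.centralizer (ψ.ker : Set G) with hC
  have hCn : C.Normal := by rw [hC]; infer_instance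
  have hMC : cen t ≤ C := fun m hm =>
    Subgroup.mem_centralizer_iff.2 fun k hk => B.comm (hKM hk) hm
  have hCtop : C.map ψ = ⊤ := by
    refine (IsSimpleGroup.eq_bot_or_eq_top_of_normal _ (hCn.map ψ hψs)).resolve_left fun e0 => ?_
    have h1 : ψ t = 1 := (Subgroup.eq_bot_iff_forall _).1 e0 _ ⟨t, hMC B.t_mem, rfl⟩
    refine mk_t_ne B ?_
    refine e.map_eq_one_iff.1 ?_
    exact Prod.ext h1 ht2
  intro k hk
  refine Subgroup.mem_center_iff.2 fun g => ?_
  obtain ⟨c, hc, hcg⟩ : ψ g ∈ C.map ψ := hCtop ▸ Subgroup.mem_top _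
  have hd : c⁻¹ * g ∈ C :=
    hMC (hKM (by rw [MonoidHom.mem_ker, map_mul, map_inv, hcg, inv_mul_cancel]))
  have hg : g ∈ C := by
    have := C.mul_mem hc hd
    rwa [mul_inv_cancel_left] at this
  exact (Subgroup.mem_centralizer_iff.1 hg k hk).symm

/-- Sylow subgroups are abelian. -/
theorem sylow_comm (B : Base t) {F : Type} [Field F] [Fintype F] [CharP F 2]
    {ψ : G →* SL(2, F)} (hψ : Function.Surjective ψ) (hker : ψ.ker = Subgroup.center G)
    {l : ℕ} [hl : Fact l.Prime] (P : Sylow l G) : IsMulCommutative (P : Subgroup G) := by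
  by_cases hl2 : l = 2
  · subst hl2
    obtain ⟨Q, hQ⟩ : ∃ Q : Sylow 2 G, t ∈ (Q : Subgroup G) := by
      obtain ⟨Q, hQ⟩ := (IsPGroup.of_card (p := 2) (n := 1)
        (show Nat.card (Subgroup.zpowers t) = 2 ^ 1 by
          rw [Nat.card_zpowers, B.ot, pow_one])).exists_le_sylow
      exact ⟨Q, hQ (Subgroup.mem_zpowers t)⟩
    obtain ⟨Q', hQ'M, hQ'⟩ : ∃ u : G, (Q : Subgroup G) ≤ cen u ∧ orderOf u = 2 := by
      have : Nontrivial (Q : Subgroup G) :=
        ⟨⟨⟨t, hQ⟩, 1, fun e => B.t_ne (congrArg Subtype.val e)⟩⟩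
      have := Q.isPGroup'.center_nontrivial
      obtain ⟨⟨z, hz⟩, hz1⟩ := exists_ne (1 : Subgroup.center (Q : Subgroup G))
      have hz1' : (z : G) ≠ 1 := fun e => hz1 (Subtype.ext (Subtype.ext e))
      have hnodd : ¬ Odd (orderOf (z : G)) := by
        intro ho
        obtain ⟨i, hi⟩ := IsPGroup.iff_orderOf.1 Q.isPGroup' z
        rw [Subgroup.orderOf_coe, hi] at ho
        rcases Nat.eq_zero_or_pos i with rfl | hi'
        · rw [pow_zero, ← Subgroup.orderOf_coe] at hi
          exact hz1' (orderOf_eq_one_iff.1 hi)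
        · exact Nat.not_even_iff_odd.2 ho ((Nat.even_pow' hi'.ne').2 even_two)
      obtain ⟨i, hi⟩ := exists_invol_pow hnodd
      refine ⟨(z : G) ^ i, fun w hw => mem_cen.2 (Commute.pow_right ?_ i), hi⟩
      exact congrArg Subtype.val (Subgroup.mem_center_iff.1 hz ⟨w, hw⟩)
    obtain ⟨g, rfl⟩ := MulAction.exists_smul_eq G Q P
    refine ⟨⟨fun a b => Subtype.ext ?_⟩⟩
    obtain ⟨a', ha', ea⟩ := a.2
    obtain ⟨b', hb', eb⟩ := b.2
    show (a : G) * b = b * a
    rw [← ea, ← eb]
    show g * a' * g⁻¹ * (g * b' * g⁻¹) = g * b' * g⁻¹ * (g * a' * g⁻¹)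
    rw [show g * a' * g⁻¹ * (g * b' * g⁻¹) = g * (a' * b') * g⁻¹ by group,
      B.cm Q' hQ' a' (hQ'M ha') b' (hQ'M hb')]
    group
  · obtain ⟨Q, hQ⟩ := (P.isPGroup'.map ψ).exists_le_sylow
    have hcQ := PSL2Sylow.isCyclic_sylow (p := 2) l hl2 hl2 Q
    have hcm : IsCyclic ↥((P : Subgroup G).map ψ) :=
      isCyclic_of_injective (Subgroup.inclusion hQ) (Subgroup.inclusion_injective hQ)
    refine MonoidHom.isMulCommutative_of_isCyclic_of_ker_le_center (ψ.subgroupMap (P : Subgroup G)) ?_
    intro x hx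
    have hxZ : (x : G) ∈ Subgroup.center G := hker ▸ congrArg Subtype.val hx
    exact Subgroup.mem_center_iff.2 fun y => Subtype.ext (Subgroup.mem_center_iff.1 hxZ y)

theorem inf_commutator (B : Base t) {F : Type} [Field F] [Fintype F] [CharP F 2]
    {ψ : G →* SL(2, F)} (hψ : Function.Surjective ψ) (hker : ψ.ker = Subgroup.center G) :
    commutator G ⊓ Subgroup.center G = ⊥ := by
  rw [Subgroup.eq_bot_iff_forall]
  rintro x ⟨hx1, hx2⟩
  by_contra hne
  obtain ⟨l, hl, hld⟩ := Nat.exists_prime_and_dvd (fun e => hne (orderOf_eq_one_iff.1 e))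
  have := Fact.mk hl
  set y := x ^ (orderOf x / l) with hy
  have hoy : orderOf y = l := orderOf_pow_orderOf_div (orderOf_pos x).ne' hld
  obtain ⟨P, hP⟩ := (IsPGroup.of_card (p := l) (n := 1)
    (show Nat.card (Subgroup.zpowers y) = l ^ 1 by
      rw [Nat.card_zpowers, hoy, pow_one])).exists_le_sylow
  have h0 := S0088.result (P : Subgroup G) (sylow_comm B hψ hker P) P.card_coprime_index
  have : y = 1 := (Subgroup.eq_bot_iff_forall _).1 h0 y
    ⟨⟨hP (Subgroup.mem_zpowers y), Subgroup.pow_mem _ hx1 _⟩, Subgroup.pow_mem _ hx2 _⟩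
  rw [this, orderOf_one] at hoy
  exact hl.ne_one hoy.symm

/-- The conclusion for a group with nontrivial centre. -/
theorem out_of_quot (B : Base t) (hout : SLProd (G ⧸ Subgroup.center G)) : SLProd G := by
  classical
  obtain ⟨F, iF, iFt, hch, hq, ψ, hψ, hker⟩ := exists_surj B hout
  haveI := hch
  have hinf := inf_commutator B hψ hker
  have hperf : commutator SL(2, F) = ⊤ :=
    PSLSimple.commutator_SL_fin_eq_top le_rfl fun _ => PSLSimple.exists_sq_ne_one hq
  set D := commutator G with hD
  have hDs : ∀ s : SL(2, F), ∃ d ∈ D, ψ d = s := by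
    intro s
    have h1 : D.map ψ = ⊤ := by
      rw [hD, commutator_def, Subgroup.map_commutator, Subgroup.map_top_of_surjective ψ hψ,
        ← commutator_def, hperf]
    have hs : s ∈ D.map ψ := h1 ▸ Subgroup.mem_top s
    exact hs
  let φ : D →* SL(2, F) := ψ.comp D.subtype
  have hφ : Function.Bijective φ := by
    constructor
    · rw [injective_iff_map_eq_one]
      intro d hd
      have hdZ : (d : G) ∈ Subgroup.center G := hker ▸ (show (d : G) ∈ ψ.ker from hd)
      exact Subtype.ext ((Subgroup.eq_bot_iff_forall _).1 hinf _ ⟨d.2, hdZ⟩)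
    · intro s
      obtain ⟨d, hd, e⟩ := hDs s
      exact ⟨⟨d, hd⟩, e⟩
  set Z := Subgroup.center G with hZ
  let Θ : D × Z →* G := MonoidHom.noncommCoprod D.subtype Z.subtype fun d z =>
    (Subgroup.mem_center_iff.1 z.2 d : (d : G) * z = z * d)
  have hΘ : Function.Bijective Θ := by
    constructor
    · rw [injective_iff_map_eq_one]
      rintro ⟨d, z⟩ h
      have h' : (d : G) * (z : G) = 1 := h
      have hdz : (d : G) = (z : G)⁻¹ := eq_inv_of_mul_eq_one_left h'
      have hd : (d : G) = 1 := (Subgroup.eq_bot_iff_forall _).1 hinf _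
        ⟨d.2, hdz ▸ Z.inv_mem z.2⟩
      have hz : (z : G) = 1 := by rwa [hd, one_mul] at h'
      exact Prod.ext (Subtype.ext hd) (Subtype.ext hz)
    · intro g
      obtain ⟨d, hd, e⟩ := hDs (ψ g)
      have hz : d⁻¹ * g ∈ Z := by
        rw [← hker, MonoidHom.mem_ker, map_mul, map_inv, e, inv_mul_cancel]
      exact ⟨(⟨d, hd⟩, ⟨_, hz⟩), show d * (d⁻¹ * g) = g from mul_inv_cancel_left d g⟩
  letI : CommGroup Z := { (inferInstance : Group Z) with
    mul_comm := fun a b => Subtype.ext (Subgroup.mem_center_iff.1 b.2 a) }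
  refine ⟨F, iF, iFt, Shrink.{0} Z, inferInstance, inferInstance, hch, ?_, hq, ⟨?_⟩⟩
  · rw [← Nat.card_congr (equivShrink.{0} Z)]
    exact center_odd B
  · exact (MulEquiv.ofBijective Θ hΘ).symm.trans
      (MulEquiv.prodCongr (MulEquiv.ofBijective φ hφ) (Shrink.mulEquiv.{0} (α := Z)).symm)

end Cfsg.Agent.InvolAbelian22Central
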