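import Mathlib
import Cfsg.Agent.Lib.InvolAbelian22Basic

/-!
Groups with abelian centralisers of involutions: the case in which the centralisers of the
nonidentity elements of an involution centraliser lie in its normaliser.
-/

set_option autoImplicit false
set_option linter.unusedSectionVars false

namespace Cfsg.Agent.InvolAbelian22Good

open Cfsg.Agent.CAGroupStructure22 Cfsg.Agent.InvolAbelian22Basic
open Cfsg.Agent.CAGroupGeometry22 (Pts base smul_base smul_base_eq)
open Cfsg.Agent.SignalizerStrongEmb (involution_ne_one involution_mul_self involution_inv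
  orderOf_eq_two_of_mul_self)
open scoped MatrixGroups

universe v

variable {G : Type v} [Group G] [Finite G] {t : G} (B : Base t)
  (hgood : ∀ x ∈ cen t, x ≠ 1 → cen x ≤ Subgroup.normalizer (cen t : Set G))
include B hgood

/-- Only the identity of the centraliser is inverted by an involution outside the normaliser. -/
theorem inverted {x u : G} (hx : x ∈ cen t) (hu : orderOf u = 2)
    (huN : u ∉ Subgroup.normalizer (cen t : Set G)) (h : u * x * u⁻¹ = x⁻¹) : x = 1 := by
  by_contra hx1
  by_cases ho : Odd (orderOf x)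
  · apply huN
    have h1 : u * t * u⁻¹ ∈ cen x⁻¹ := by
      rw [← h]
      exact conj_mem_cen_conj.2 (mem_cen.2 (mem_cen.1 hx).symm)
    have h2 : u * t * u⁻¹ ∈ cen x :=
      mem_cen.2 (by simpa using (mem_cen.1 h1).inv_right)
    exact B.norm_of B.t_mem B.ot (B.involution_mem (hgood x hx hx1 h2)
      ((SignalizerStrongEmb.orderOf_conj _ _).trans B.ot))
  · obtain ⟨i, hi⟩ := exists_invol_pow ho
    refine huN (Subgroup.le_normalizer ?_)
    rw [← B.cen_eq hi (pow_mem hx i)]
    refine mem_cen.2 (mul_inv_eq_iff_eq_mul.1 ?_)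
    rw [← conj_pow, h, inv_pow, involution_inv hi]

/-- An element of odd order inverted by an involution has centraliser inverted by it. -/
theorem inverts_cen {a u : G} (hu : orderOf u = 2) (ha : u * a * u⁻¹ = a⁻¹) (hao : Odd (orderOf a))
    (ha1 : a ≠ 1) {o : G} (ho : o ∈ cen a) : u * o * u⁻¹ = o⁻¹ := by
  classical
  have hnc : ¬ Commute a u := by
    intro h
    rw [← h.eq, mul_inv_cancel_right, eq_inv_iff_mul_eq_one] at ha
    exact ha1 (orderOf_eq_one_iff.1 (Nat.eq_one_of_dvd_coprimes
      ((Nat.coprime_two_right).2 hao) dvd_rfl (orderOf_dvd_of_pow_eq_one (pow_two a ▸ ha))))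
  have hA : ∀ y ∈ cen a, u * y * u⁻¹ ∈ cen a := fun y hy => by
    have h := (conj_mem_cen_conj (g := u)).2 hy
    rw [ha] at h
    exact mem_cen.2 (by simpa using (mem_cen.1 h).inv_right)
  -- the involution fixes nothing
  have hfree : ∀ y ∈ cen a, Commute y u → y = 1 := by
    intro y hy hyu
    by_contra hy1
    by_cases hyo : Odd (orderOf y)
    · obtain ⟨g, hg⟩ := isConj_iff.1 (B.conjI B.ot hu)
      set y' := g⁻¹ * y * g with hy'
      set a' := g⁻¹ * a * g with ha'
      have hyM : y' ∈ cen t := by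
        have h := (conj_mem_cen_conj (g := g⁻¹)).2 (mem_cen.2 hyu)
        rwa [inv_inv, ← hy', show g⁻¹ * u * g = t by rw [← hg]; group] at h
      have haN : a' ∈ Subgroup.normalizer (cen t : Set G) := by
        refine hgood y' hyM (fun e => hy1 ?_) ?_
        · calc y = g * y' * g⁻¹ := by rw [hy']; group
            _ = 1 := by rw [e]; group
        · have h := (conj_mem_cen_conj (g := g⁻¹)).2 (mem_cen.2 (mem_cen.1 hy).symm)
          rwa [inv_inv] at h
      have hinv : t * a' * t⁻¹ = a'⁻¹ := by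
        rw [ha', show t = g⁻¹ * u * g by rw [← hg]; group]
        calc g⁻¹ * u * g * (g⁻¹ * a * g) * (g⁻¹ * u * g)⁻¹ = g⁻¹ * (u * a * u⁻¹) * g := by group
          _ = (g⁻¹ * a * g)⁻¹ := by rw [ha]; group
      have hsq : a' * a' ∈ cen t := by
        have h1 : a' * t * a'⁻¹ * t⁻¹ ∈ cen t :=
          mul_mem (Cfg.conj_mem haN B.t_mem) (inv_mem B.t_mem)
        have e : a' * t * a'⁻¹ * t⁻¹ = a' * a' := by
          calc a' * t * a'⁻¹ * t⁻¹ = a' * (t * a' * t⁻¹)⁻¹ := by group
            _ = a' * a' := by rw [hinv, inv_inv]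
        rwa [e] at h1
      have h4 : a' * a' = (a' * a')⁻¹ := by
        calc a' * a' = t * (a' * a') * t⁻¹ := by
              rw [← (mem_cen.1 hsq).eq, mul_inv_cancel_right]
          _ = (t * a' * t⁻¹) * (t * a' * t⁻¹) := by group
          _ = a'⁻¹ * a'⁻¹ := by rw [hinv]
          _ = (a' * a')⁻¹ := (mul_inv_rev a' a').symm
      have ho' : orderOf a' = orderOf a := by
        rw [ha']
        have := SignalizerStrongEmb.orderOf_conj g⁻¹ a
        rwa [inv_inv] at this
      have hd : orderOf a ∣ 2 * 2 := ho' ▸ orderOf_dvd_of_pow_eq_one (by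
        rw [pow_mul, pow_two, pow_two]
        exact eq_inv_iff_mul_eq_one.1 h4)
      exact ha1 (orderOf_eq_one_iff.1 (Nat.eq_one_of_dvd_coprimes
        (((Nat.coprime_two_right).2 hao).mul_right ((Nat.coprime_two_right).2 hao)) dvd_rfl hd))
    · obtain ⟨i, hi⟩ := exists_invol_pow hyo
      refine hnc ?_
      have e := cen_invol B.cm hu hi (mem_cen.2 (hyu.pow_left i))
      exact mem_cen.1 (e ▸ mem_cen.2 ((mem_cen.1 hy).symm.pow_right i))
  let f : cen a → cen a := fun y => ⟨(y : G)⁻¹ * (u * y * u⁻¹), mul_mem (inv_mem y.2) (hA _ y.2)⟩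
  have hf : Function.Injective f := by
    intro y w e
    have e' : (y : G)⁻¹ * (u * y * u⁻¹) = (w : G)⁻¹ * (u * w * u⁻¹) := congrArg Subtype.val e
    have hfix : u * ((w : G) * (y : G)⁻¹) * u⁻¹ = (w : G) * (y : G)⁻¹ := by
      calc u * ((w : G) * (y : G)⁻¹) * u⁻¹
          = (w : G) * ((w : G)⁻¹ * (u * w * u⁻¹)) * ((y : G)⁻¹ * (u * y * u⁻¹))⁻¹ * (y : G)⁻¹ := by
            group
        _ = (w : G) * (y : G)⁻¹ := by rw [e', mul_inv_cancel_right]
    have := hfree _ (mul_mem w.2 (inv_mem y.2))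
      (show Commute _ u from (mul_inv_eq_iff_eq_mul.1 hfix).symm)
    exact Subtype.ext (mul_inv_eq_one.1 this).symm
  obtain ⟨y, hy⟩ := Finite.injective_iff_surjective.1 hf ⟨o, ho⟩
  have e : (y : G)⁻¹ * (u * y * u⁻¹) = o := congrArg Subtype.val hy
  rw [← e]
  have hu2 := involution_mul_self hu
  calc u * ((y : G)⁻¹ * (u * y * u⁻¹)) * u⁻¹
      = u * (y : G)⁻¹ * u * y * (u * u)⁻¹ := by group
    _ = u * (y : G)⁻¹ * u⁻¹ * y := by rw [hu2, involution_inv hu]; group
    _ = ((y : G)⁻¹ * (u * y * u⁻¹))⁻¹ := by group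

/-- Every coset of the centraliser in the normaliser contains a product of two involutions. -/
theorem exists_prod {n : G} (hn : n ∈ Subgroup.normalizer (cen t : Set G)) :
    ∃ u v : G, orderOf u = 2 ∧ orderOf v = 2 ∧ u ∉ Subgroup.normalizer (cen t : Set G) ∧
      u * v ∈ Subgroup.normalizer (cen t : Set G) ∧ n⁻¹ * (u * v) ∈ cen t := by
  classical
  have := Fintype.ofFinite G
  have := Fintype.ofFinite (Pts t)
  set N := Subgroup.normalizer (cen t : Set G)
  let F : Pts t → Type v := fun p => {v : G // orderOf v = 2 ∧ v • base t = p}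
  have hnot : ∀ {p : Pts t} (_ : p ≠ base t) (v : F p), v.1 ∉ N := fun hp v h =>
    hp (v.2.2.symm.trans (smul_base_eq.2 h))
  have hprod : ∀ {p : Pts t} (u v : F p), u.1 * v.1 ∈ N := fun {p} u v => by
    rw [← smul_base_eq, mul_smul, v.2.2]
    calc u.1 • p = u.1 • (u.1 • base t) := by rw [u.2.2]
      _ = base t := by rw [← mul_smul, involution_mul_self u.2.1, one_smul]
  let f : ∀ {p : Pts t} (_ : F p), F p → N ⧸ (cen t).subgroupOf N :=
    fun u v => QuotientGroup.mk ⟨u.1 * v.1, hprod u v⟩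
  have hinj : ∀ {p : Pts t} (_ : p ≠ base t) (u : F p), Function.Injective (f u) := by
    intro p hp u v w e
    have e' := QuotientGroup.eq.1 e
    rw [Subgroup.mem_subgroupOf] at e'
    push_cast at e'
    rw [mul_inv_rev, involution_inv v.2.1, mul_assoc, inv_mul_cancel_left] at e'
    have hinv : v.1 * (v.1 * w.1) * v.1⁻¹ = (v.1 * w.1)⁻¹ := by
      rw [← mul_assoc, involution_mul_self v.2.1, one_mul, mul_inv_rev, involution_inv w.2.1]
    have h1 := inverted B hgood e' v.2.1 (hnot hp v) hinv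
    exact Subtype.ext ((mul_eq_one_iff_eq_inv.1 h1).trans (involution_inv w.2.1))
  have hle : ∀ p : Pts t, Nat.card (F p) ≤ Cfg.kk t := by
    intro p
    by_cases hp : p = base t
    · subst hp
      refine le_of_eq ?_
      rw [← B.card_invol_cen]
      exact Nat.card_congr (Equiv.subtypeEquivRight fun v =>
        ⟨fun h => ⟨B.involution_mem (smul_base_eq.1 h.2) h.1, h.1⟩,
          fun h => ⟨h.2, smul_base_eq.2 (Subgroup.le_normalizer h.1)⟩⟩)
    · rcases isEmpty_or_nonempty (F p) with he | ⟨⟨u⟩⟩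
      · rw [Nat.card_of_isEmpty]; exact Nat.zero_le _
      · exact Nat.card_le_card_of_injective _ (hinj hp u)
  have hsum : ∑ p : Pts t, Nat.card (F p) = ∑ _p : Pts t, Cfg.kk t := by
    rw [Finset.sum_const, Finset.card_univ, smul_eq_mul, ← Nat.card_eq_fintype_card, mul_comm,
      show Cfg.kk t * Nat.card (Pts t) = (cen t).index from Cfg.kk_mul_index,
      ← B.card_involutions, ← Nat.card_sigma]
    exact Nat.card_congr
      { toFun := fun x => ⟨x.2.1, x.2.2.1⟩
        invFun := fun v => ⟨v.1 • base t, v.1, v.2, rfl⟩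
        left_inv := fun ⟨p, v, h1, h2⟩ => by subst h2; rfl
        right_inv := fun _ => rfl }
  obtain ⟨g, hg⟩ : ∃ g : G, g ∉ N := by
    by_contra h
    push Not at h
    exact B.normalizer_ne_top ((Subgroup.eq_top_iff' _).2 h)
  have hp : g • base t ≠ base t := fun e => hg (smul_base_eq.1 e)
  have hcard := (Finset.sum_eq_sum_iff_of_le fun p _ => hle p).1 hsum (g • base t)
    (Finset.mem_univ _)
  obtain ⟨u⟩ : Nonempty (F (g • base t)) := by
    have := B.three_le_kk
    exact (Nat.card_pos_iff.1 (by omega)).1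
  obtain ⟨v, hv⟩ := ((hinj hp u).bijective_of_nat_card_le hcard.ge).2 (QuotientGroup.mk ⟨n, hn⟩)
  refine ⟨u.1, v.1, u.2.1, v.2.1, hnot hp u, hprod u v, ?_⟩
  have hv' := QuotientGroup.eq.1 hv.symm
  rw [Subgroup.mem_subgroupOf] at hv'
  exact hv'

theorem cenM {x : G} (hx : x ∈ cen t) (hx1 : x ≠ 1) : cen x = cen t := by
  refine le_antisymm (fun n hn => ?_) fun m hm => mem_cen.2 (B.comm hm hx)
  by_cases ho : Odd (orderOf x)
  swap
  · exact B.cen_le_of_not_odd hx ho hn
  by_contra hnM
  obtain ⟨u, v, hu, hv, huN, haN, hcos⟩ := exists_prod B hgood (hgood x hx hx1 hn)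
  set a := u * v with ha
  have hinv : u * a * u⁻¹ = a⁻¹ := by
    rw [ha, ← mul_assoc, involution_mul_self hu, one_mul, mul_inv_rev, involution_inv hv]
  have haM : a ∉ cen t := fun h => hnM (by
    have := mul_mem h (inv_mem hcos)
    rwa [mul_inv_rev, inv_inv, mul_inv_cancel_left] at this)
  have hak : a ^ Cfg.kk t = 1 := by
    refine inverted B hgood (Base.pow_kk_mem haN) hu huN ?_
    rw [← conj_pow, hinv, inv_pow]
  have hxa : x ∈ cen a := by
    have e : a = n * (n⁻¹ * a) := (mul_inv_cancel_left n a).symm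
    rw [e]
    exact mem_cen.2 ((mem_cen.1 hn).symm.mul_right (B.comm hx hcos))
  exact hx1 (inverted B hgood hx hu huN (inverts_cen B hgood hu hinv
    (B.odd_kk.of_dvd_nat (orderOf_dvd_of_pow_eq_one hak))
    (fun e => haM (e ▸ one_mem _)) hxa))

/-- The conclusion in the good case. -/
theorem out_good : SLProd G := by
  have H : Cfg t := ⟨B.cm, fun x hx hx1 => cenM B hgood hx hx1, B.ot, B.notNormal, B.rk⟩
  obtain ⟨r, hr, ⟨e⟩⟩ := CAGroupProjective22.exists_equiv H
  haveI := Fintype.ofFinite (GaloisField 2 r)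
  refine ⟨GaloisField 2 r, inferInstance, inferInstance, PUnit.{1}, inferInstance, inferInstance,
    inferInstance, ?_, ?_, ⟨e.trans MulEquiv.prodUnique.symm⟩⟩
  · rw [Nat.card_unique]
    exact odd_one
  · rw [GaloisField.card 2 r (by omega)]
    calc 4 = 2 ^ 2 := by norm_num
      _ ≤ 2 ^ r := Nat.pow_le_pow_right (by norm_num) hr

end Cfsg.Agent.InvolAbelian22Good
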