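import Mathlib
import Cfsg.Agent.Lib.EqOrderConj59Basic
import Cfsg.Agent.S2202
import Cfsg.Agent.S0205
import Cfsg.Agent.Lib.FrobeniusNilpotent
import Cfsg.Agent.Lib.InvolAbelian22Basic

/-!
Under `Hyp P D r` the subgroup `D` is normal (i.e. it fixes every point).
-/

set_option autoImplicit false

namespace Cfsg.Agent.EqOrderConj59

open Cfsg.Agent.SignalizerStrongEmb

universe u

/-- Faithfulness of the action on `G ⧸ N(P)`. -/
def Faithful {G : Type u} [Group G] (P : Subgroup G) : Prop :=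
  ∀ N : Subgroup G, N.Normal → N ≤ NN P → N = ⊥

/-- What the induction gives on proper subgroups. -/
def Below {G : Type u} [Group G] (P D : Subgroup G) : Prop :=
  ∀ L : Subgroup G, L ≠ ⊤ → P ≤ L → (∃ x ∈ L, x ∉ NN P) → (D.subgroupOf L).Normal

namespace Hyp

variable {G : Type u} [Group G] [Finite G] {P D : Subgroup G} {r : ℕ} (h : Hyp P D r)
include h

local notation "o" => (QuotientGroup.mk (1 : G) : G ⧸ NN P)

/-- Translations are unique. -/
theorem translate_inj {b : G ⧸ NN P} (hb : b ≠ o) {t t' : G} (ht : t ∈ P) (ht' : t' ∈ P)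
    (e : t • b = t' • b) : t = t' := by
  have h1 : (t'⁻¹ * t) • b = b := by rw [mul_smul, e, inv_smul_smul]
  exact (inv_mul_eq_one.1 (h.eq_one_of_fix (mul_mem (inv_mem ht') ht) hb h1)).symm

/-- An element of `C(d)`-shape fixing three points. -/
theorem eq_one_of_fix3 {i j : G} (hi : orderOf i = 2) (hj : orderOf j = 2) {c : G ⧸ NN P} (hc : c ≠ o)
    (hic : i • o = c) (hjc : j • o = c) {t : G} (ht : t ∈ P) (ht1 : t ≠ 1)
    (e : i • (t • c) = j • (t • c)) : i = j := by
  by_contra hne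
  obtain ⟨hN, hf⟩ := h.mul_mem_stab hj hi hic hjc
  obtain ⟨-, hnC⟩ := h.orderOf_prod hj hi hc hic hjc hne
  refine hnC (h.cent t ht ht1 _ ?_)
  have hfix : (i * j) • (t • c) = t • c := by
    rw [mul_smul, ← e, smul_smul, involution_mul_self hi, one_smul]
  have he : (i * j) * t * (i * j)⁻¹ = t := by
    refine h.translate_inj hc ((mem_NN.1 hN) t ht) ht ?_
    rw [mul_smul, mul_smul, inv_smul_eq_iff.2 hf.symm, hfix]
  exact mul_inv_eq_iff_eq_mul.1 he

/-- `P` is transitive on the points fixed by `d` other than `o`. -/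
theorem line {L : Subgroup G} (hPL : P ≤ L) (hN : (D.subgroupOf L).Normal)
    (hx : ∃ x ∈ L, x ∉ NN P) {s i : G} (hs : s ∈ L) (hsn : s ∉ NN P) (hi : i ∈ L) (hin : i ∉ NN P) :
    ∃ t ∈ P, t • (QuotientGroup.mk s : G ⧸ NN P) = QuotientGroup.mk i := by
  have hL := h.sub hPL hx
  have hQ := hL.quot (N := D.subgroupOf L) le_rfl
  have hbot : (D.subgroupOf L).map (QuotientGroup.mk' (D.subgroupOf L)) = ⊥ := by
    rw [Subgroup.map_eq_bot_iff, QuotientGroup.ker_mk']
  obtain ⟨_, ⟨t, ht, rfl⟩, hte⟩ := hQ.translate_of_bot hbot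
    (x := ((⟨s, hs⟩ : L) : L ⧸ D.subgroupOf L)) (y := ((⟨i, hi⟩ : L) : L ⧸ D.subgroupOf L))
    (fun e => hsn ((h.nn_subgroupOf hPL).1 ((hL.nn_map le_rfl).1 e)))
    (fun e => hin ((h.nn_subgroupOf hPL).1 ((hL.nn_map le_rfl).1 e)))
  refine ⟨t, ht, QuotientGroup.eq.2 ?_⟩
  exact (h.nn_subgroupOf hPL).1 ((hL.nn_map le_rfl).1 hte)

theorem swap_not_mem {s : G} {b : G ⧸ NN P} (hb : b ≠ o) (hsb : s • o = b) : s ∉ NN P :=
  fun hm => hb (by rw [← hsb, smul_one_eq_iff.2 hm])

theorem mk_of_smul {s : G} {b : G ⧸ NN P} (hsb : s • o = b) : (QuotientGroup.mk s : G ⧸ NN P) = b := by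
  rw [← hsb]
  exact (congrArg QuotientGroup.mk (mul_one s)).symm

theorem cent_facts (hF : Faithful P) (hI : Below P D) {d : G} (hd : d ∈ D) (hd1 : d ≠ 1)
    {b : G ⧸ NN P} (hb : b ≠ o) (hdb : d • b = b) :
    P ≤ Subgroup.centralizer ({d} : Set G) ∧
    (D.subgroupOf (Subgroup.centralizer ({d} : Set G))).Normal ∧
    (∃ s, orderOf s = 2 ∧ s • o = b ∧ s ∈ Subgroup.centralizer ({d} : Set G) ∧ s ∉ NN P) ∧
    ∀ c : G ⧸ NN P, c ≠ o → d • c = c → ∃ t ∈ P, t • b = c := by
  set L := Subgroup.centralizer ({d} : Set G) with hL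
  have memL : ∀ {x : G}, x * d = d * x → x ∈ L := fun hx =>
    Subgroup.mem_centralizer_iff.2 (by rintro y rfl; exact hx.symm)
  have hPL : P ≤ L := fun a ha => memL (mem_CC.1 (h.D_le hd) a ha)
  obtain ⟨s, hs, hsb⟩ := h.exists_swap (Ne.symm hb)
  have hsL : s ∈ L := memL (h.swap_comm hs hb hsb hd hdb)
  have hsn := h.swap_not_mem hb hsb
  have hne : L ≠ ⊤ := by
    intro e
    have hz : ∀ x : G, x * d = d * x := fun x =>
      (Subgroup.mem_centralizer_iff.1 (e ▸ Subgroup.mem_top x : x ∈ L) d rfl).symm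
    have hn : (Subgroup.zpowers d).Normal := ⟨fun w hw g => by
      obtain ⟨k, rfl⟩ := hw
      have : Commute g (d ^ k) := Commute.zpow_right (hz g) k
      rw [show g * (fun x => d ^ x) k * g⁻¹ = g * d ^ k * g⁻¹ from rfl, this.eq, mul_inv_cancel_right]
      exact Subgroup.zpow_mem _ (Subgroup.mem_zpowers d) k⟩
    exact hd1 (Subgroup.zpowers_eq_bot.1 (hF _ hn (Subgroup.zpowers_le.2 (h.D_le_NN hd))))
  have hNor := hI L hne hPL ⟨s, hsL, hsn⟩
  refine ⟨hPL, hNor, ⟨s, hs, hsb, hsL, hsn⟩, fun c hc hdc => ?_⟩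
  obtain ⟨i, hi, hic⟩ := h.exists_swap (Ne.symm hc)
  have hiL : i ∈ L := memL (h.swap_comm hi hc hic hd hdc)
  obtain ⟨t, ht, hte⟩ := h.line hPL hNor ⟨s, hsL, hsn⟩ hsL hsn hiL (h.swap_not_mem hc hic)
  rw [h.mk_of_smul hsb, h.mk_of_smul hic] at hte
  exact ⟨t, ht, hte⟩

/-- Fixed points of `d` correspond to `Option P`. -/
theorem fix_equiv (hF : Faithful P) (hI : Below P D) {d : G} (hd : d ∈ D) (hd1 : d ≠ 1)
    {b : G ⧸ NN P} (hb : b ≠ o) (hdb : d • b = b) :
    Nat.card {c : G ⧸ NN P // d • c = c} = r + 2 := by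
  obtain ⟨-, -, -, hline⟩ := h.cent_facts hF hI hd hd1 hb hdb
  have hdo : d • o = o := smul_one_eq_iff.2 (h.D_le_NN hd)
  have hfix : ∀ t ∈ P, d • (t • b) = t • b := fun t ht => by
    rw [smul_smul, ← mem_CC.1 (h.D_le hd) t ht, mul_smul, hdb]
  have hto : ∀ t ∈ P, t • b ≠ o := fun t ht e => hb (by
    rw [← inv_smul_smul t b, e]
    exact smul_one_eq_iff.2 (Subgroup.le_normalizer (inv_mem ht)))
  let f : Option P → {c : G ⧸ NN P // d • c = c} := fun x =>
    x.elim ⟨o, hdo⟩ fun t => ⟨(t : G) • b, hfix t t.2⟩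
  have hf : Function.Bijective f := by
    constructor
    · rintro (_ | a) (_ | a') e
      · rfl
      · exact absurd (congrArg Subtype.val e).symm (hto a' a'.2)
      · exact absurd (congrArg Subtype.val e) (hto a a.2)
      · exact congrArg some (Subtype.ext (h.translate_inj hb a.2 a'.2 (congrArg Subtype.val e)))
    · rintro ⟨c, hc⟩
      by_cases hco : c = o
      · exact ⟨none, Subtype.ext hco.symm⟩
      · obtain ⟨t, ht, hte⟩ := hline c hco hc
        exact ⟨some ⟨t, ht⟩, Subtype.ext hte⟩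
  have : Fintype P := Fintype.ofFinite _
  rw [← Nat.card_eq_of_bijective f hf, Nat.card_eq_fintype_card, Fintype.card_option,
    ← Nat.card_eq_fintype_card, h.cardP]

/-- A prime divisor of `|D|` does not divide `q + 1`. -/
theorem not_dvd (hF : Faithful P) (hI : Below P D) {d : G} (hd : d ∈ D) (hd1 : d ≠ 1)
    {b : G ⧸ NN P} (hb : b ≠ o) (hdb : d • b = b) {p : ℕ} (hp : p.Prime) (hpD : p ∣ Nat.card D) :
    ¬ p ∣ r + 2 := by
  intro hpn
  have := Fact.mk hp
  obtain ⟨hPL, hNor, ⟨s, hs, hsb, hsL, hsn⟩, hline⟩ := h.cent_facts hF hI hd hd1 hb hdb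
  set L := Subgroup.centralizer ({d} : Set G) with hL
  have hdfix : ∀ {x : G}, x ∈ L → d • (QuotientGroup.mk x : G ⧸ NN P) = QuotientGroup.mk x := by
    intro x hx
    show (QuotientGroup.mk (d * x) : G ⧸ NN P) = QuotientGroup.mk x
    rw [Subgroup.mem_centralizer_iff.1 hx d rfl, QuotientGroup.eq, mul_inv_rev, mul_assoc,
      inv_mul_cancel, mul_one]
    exact inv_mem (h.D_le_NN hd)
  have memL : ∀ {x : G}, x * d = d * x → x ∈ L := fun hx =>
    Subgroup.mem_centralizer_iff.2 (by rintro y rfl; exact hx.symm)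
  -- the index of `H ∩ L` in `L`
  have hidx : (NN P).relIndex L = r + 2 := by
    rw [← h.fix_equiv hF hI hd hd1 hb hdb]
    let f : (↥L ⧸ (NN P).subgroupOf L) → {c : G ⧸ NN P // d • c = c} :=
      Quotient.lift (fun x : L => ⟨QuotientGroup.mk (x : G), hdfix x.2⟩) fun x y hxy => by
        refine Subtype.ext (QuotientGroup.eq.2 ?_)
        exact Subgroup.mem_subgroupOf.1 (QuotientGroup.leftRel_apply.1 hxy)
    have hf : Function.Bijective f := by
      constructor
      · intro x y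
        induction x using QuotientGroup.induction_on with
        | _ x =>
          induction y using QuotientGroup.induction_on with
          | _ y =>
            intro e
            have e' : (QuotientGroup.mk (x : G) : G ⧸ NN P) = QuotientGroup.mk (y : G) :=
              congrArg Subtype.val e
            exact QuotientGroup.eq.2 (Subgroup.mem_subgroupOf.2 (QuotientGroup.eq.1 e'))
      · rintro ⟨c, hc⟩
        by_cases hco : c = o
        · exact ⟨QuotientGroup.mk (1 : L), Subtype.ext hco.symm⟩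
        · obtain ⟨i, hi, hic⟩ := h.exists_swap (Ne.symm hco)
          exact ⟨QuotientGroup.mk ⟨i, memL (h.swap_comm hi hco hic hd hc)⟩,
            Subtype.ext (h.mk_of_smul hic)⟩
    exact Nat.card_eq_of_bijective f hf
  set DL := D.subgroupOf L with hDL
  have hdvd : p ∣ Nat.card (L ⧸ DL) := by
    have h1 : ((NN P).subgroupOf L).index ∣ DL.index :=
      Subgroup.index_dvd_of_le fun x hx => h.D_le_NN hx
    exact (hpn.trans hidx.symm.dvd).trans h1
  obtain ⟨y', hy'⟩ := exists_prime_orderOf_dvd_card' (G := L ⧸ DL) p hdvd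
  obtain ⟨y, rfl⟩ := QuotientGroup.mk_surjective y'
  have hyp : (y : G) ^ p ∈ D := by
    have : ((y ^ p : L) : L ⧸ DL) = 1 := by rw [QuotientGroup.mk_pow, ← hy', pow_orderOf_eq_one]
    have h2 := (QuotientGroup.eq_one_iff _).1 this
    simpa [hDL, Subgroup.mem_subgroupOf] using h2
  have hyD : (y : G) ∉ D := fun hm => hp.ne_one (by
    rw [← hy', (QuotientGroup.eq_one_iff _).2 (show y ∈ DL from hm), orderOf_one])
  have hpodd : Odd p := h.oddD.of_dvd_nat hpD
  have hin : ∀ z : G, z ∈ NN P → z ^ p ∈ D → z ∈ D := by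
    intro z hz hzp
    have hco : r.Coprime p := h.coprime_r.coprime_dvd_right hpD
    have hzC : z ∈ CC P := by
      obtain ⟨a, b', hab⟩ : ∃ a b' : ℤ, (r : ℤ) * a + p * b' = 1 :=
        ⟨Nat.gcdA r p, Nat.gcdB r p, by rw [← Nat.gcd_eq_gcd_ab, hco.gcd_eq_one]; rfl⟩
      rw [← zpow_one z, ← hab, zpow_add, zpow_mul, zpow_mul, zpow_natCast, zpow_natCast]
      exact mul_mem (zpow_mem (h.powr z hz) a) (zpow_mem (h.D_le hzp) b')
    obtain ⟨t, ht, htz⟩ := h.decomp hzC
    obtain ⟨j, hj⟩ := hpodd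
    have hcm : Commute t z := mem_CC.1 hzC t ht
    have htp : t ^ p = t := by rw [hj, pow_succ, pow_mul, pow_two, h.sq t ht, one_pow, one_mul]
    have htD : t ∈ D := by
      have := mul_mem (pow_mem htz p) (inv_mem hzp)
      rwa [hcm.mul_pow, mul_inv_cancel_right, htp] at this
    simpa using mul_mem (inv_mem htD) htz
  have hyn : (y : G) ∉ NN P := fun hm => hyD (hin _ hm hyp)
  have hy2 : (y : G) * y ∉ NN P := by
    intro hm
    have h2 : (y : G) * y ∈ D := hin _ hm (by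
      rw [(Commute.refl _).mul_pow]
      exact mul_mem hyp hyp)
    obtain ⟨j, hj⟩ := hpodd
    rw [hj, pow_succ, pow_mul, pow_two] at hyp
    exact hyD (by simpa using mul_mem (inv_mem (pow_mem h2 j)) hyp)
  set b1 : G ⧸ NN P := QuotientGroup.mk (y : G) with hb1
  set c : G ⧸ NN P := QuotientGroup.mk ((y : G) * y) with hc
  have hne0 : ∀ z : G, z ∉ NN P → (QuotientGroup.mk z : G ⧸ NN P) ≠ o :=
    fun z hz e => hz (by simpa using QuotientGroup.eq.1 e.symm)
  have hb1o : b1 ≠ o := hne0 _ hyn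
  have hco : c ≠ o := hne0 _ hy2
  have hbc : b1 ≠ c := fun e => hyn (by simpa using QuotientGroup.eq.1 e)
  have hdb1 : d • b1 = b1 := hdfix y.2
  have hdc : d • c = c := hdfix (mul_mem y.2 y.2)
  -- a swapper of `o, c` fixing `b1`
  obtain ⟨-, -, -, hlinec⟩ := h.cent_facts hF hI hd hd1 hco hdc
  obtain ⟨t1, ht1, ht1c⟩ := hlinec b1 hb1o hdb1
  have ht11 : t1 ≠ 1 := fun e => hbc (by rw [← ht1c, e, one_smul])
  obtain ⟨i, ⟨hi, hic⟩, hib1⟩ : ∃ i, (orderOf i = 2 ∧ i • o = c) ∧ i • b1 = b1 := by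
    let f : {i : G // orderOf i = 2 ∧ i • o = c} → {x : G ⧸ NN P // d • x = x ∧ x ≠ o ∧ x ≠ c} :=
      fun i => ⟨i.1 • b1, by
        rw [smul_smul, ← h.swap_comm i.2.1 hco i.2.2 hd hdc, mul_smul, hdb1],
        fun e => hbc (smul_left_cancel i.1 (e.trans (h.swap_symm i.2.1 i.2.2).symm)),
        fun e => hb1o (smul_left_cancel i.1 (e.trans i.2.2.symm))⟩
    have hinj : Function.Injective f := by
      intro i j e
      refine Subtype.ext (h.eq_one_of_fix3 i.2.1 j.2.1 hco i.2.2 j.2.2 ht1 ht11 ?_)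
      rw [ht1c]
      exact congrArg Subtype.val e
    have hcard : Nat.card {x : G ⧸ NN P // d • x = x ∧ x ≠ o ∧ x ≠ c} ≤
        Nat.card {i : G // orderOf i = 2 ∧ i • o = c} := by
      rw [h.card_swap (Ne.symm hco)]
      have h3 := h.fix_equiv hF hI hd hd1 hb hdb
      have e : Nat.card {x : G ⧸ NN P // d • x = x ∧ x ≠ o ∧ x ≠ c} =
          ({x : G ⧸ NN P | d • x = x} \ {o, c}).ncard := by
        rw [← Nat.card_coe_set_eq]
        exact Nat.card_congr (Equiv.subtypeEquivRight fun x => by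
          show _ ↔ (d • x = x) ∧ x ∉ ({o, c} : Set (G ⧸ NN P))
          rw [Set.mem_insert_iff, Set.mem_singleton_iff, not_or])
      rw [e, Set.ncard_sdiff (by
        rintro x (rfl | rfl)
        · exact smul_one_eq_iff.2 (h.D_le_NN hd)
        · exact hdc), Set.ncard_pair (Ne.symm hco), ← Nat.card_coe_set_eq]
      show Nat.card {x : G ⧸ NN P // d • x = x} - 2 ≤ r
      rw [h3, Nat.add_sub_cancel]
    obtain ⟨i, hi⟩ := (Nat.bijective_iff_injective_and_card f).2
      ⟨hinj, le_antisymm (Nat.card_le_card_of_injective f hinj) hcard⟩ |>.2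
      ⟨b1, hdb1, hb1o, hbc⟩
    exact ⟨i.1, i.2, congrArg Subtype.val hi⟩
  set z := i * (y : G) with hz
  have hyo : (y : G) • o = b1 := congrArg QuotientGroup.mk (mul_one (y : G))
  have hzo : z • o = b1 := by rw [hz, mul_smul, hyo, hib1]
  have hyb1 : (y : G) • b1 = c := rfl
  have hzb1 : z • b1 = o := by rw [hz, mul_smul, hyb1, h.swap_symm hi hic]
  obtain ⟨j, hj, hjb⟩ := h.exists_swap (Ne.symm hb1o)
  obtain ⟨k, hk, hkb, hkC, hko, hkinv, hkcom, hdec⟩ := h.rotation hj hb1o hjb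
  obtain ⟨n, hn⟩ := hdec (j * z) (smul_one_eq_iff.1 (by rw [mul_smul, hzo, h.swap_symm hj hjb]))
    (by rw [mul_smul, hzb1, hjb])
  set e := j * z * k ^ n with he
  set j' := j * (k ^ n)⁻¹ with hj'
  have hkn : (k ^ n) • b1 = b1 :=
    MulAction.mem_stabilizer_iff.1 (pow_mem (MulAction.mem_stabilizer_iff.2 hkb) n)
  have heb1 : e • b1 = b1 := by rw [he, mul_smul, hkn, mul_smul, hzb1, hjb]
  have hek : Commute (k ^ n) e := (show Commute k e from hkcom e hn heb1).pow_left n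
  have hj'2 : j' * j' = 1 := by
    have hinv : j * (k ^ n)⁻¹ * j⁻¹ = k ^ n := by
      rw [← conj_inv, ← conj_pow, hkinv, inv_pow, inv_inv]
    calc j' * j' = (j * (k ^ n)⁻¹ * j⁻¹) * (j * j) * (k ^ n)⁻¹ := by rw [hj']; group
      _ = 1 := by rw [hinv, involution_mul_self hj, mul_one, mul_inv_cancel]
  have hj'1 : j' ≠ 1 := by
    intro e1
    refine hb1o ?_
    have h1 : j = k ^ n := mul_inv_eq_one.1 e1
    rw [← hjb, h1]
    exact smul_one_eq_iff.2 (pow_mem hk n)
  have hy_eq : (y : G) = i * j' * e := by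
    have h1 : z = j' * e := by
      rw [hj', he]
      calc z = (j * j) * z := by rw [involution_mul_self hj, one_mul]
        _ = j * ((j * z * k ^ n) * (k ^ n)⁻¹) := by rw [mul_inv_cancel_right, mul_assoc]
        _ = j * ((k ^ n)⁻¹ * (j * z * k ^ n)) := by
          rw [← (show Commute (k ^ n) (j * z * k ^ n) from hek).inv_left.eq]
        _ = _ := by simp only [mul_assoc]
    rw [mul_assoc, ← h1, hz, ← mul_assoc, involution_mul_self hi, one_mul]
  have hcop := h.noinv i j' hi (orderOf_eq_two_of_mul_self hj'2 hj'1)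
  have hjL : j ∈ L := memL (h.swap_comm hj hb1o hjb hd hdb1)
  have hkL : k ∈ L := memL (hkcom d hd hdb1)
  have hiL : i ∈ L := memL (h.swap_comm hi hco hic hd hdc)
  have hj'L : j' ∈ L := mul_mem hjL (inv_mem (pow_mem hkL n))
  have heL : e ∈ L := mul_mem (mul_mem hjL (mul_mem hiL y.2)) (pow_mem hkL n)
  have hmk : (y : L ⧸ DL) = ((⟨i * j', mul_mem hiL hj'L⟩ : L) : L ⧸ DL) := by
    have hyL : y = (⟨i * j', mul_mem hiL hj'L⟩ : L) * ⟨e, heL⟩ := Subtype.ext hy_eq
    rw [hyL, QuotientGroup.mk_mul, (QuotientGroup.eq_one_iff (⟨e, heL⟩ : L)).2 hn, mul_one]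
  have hdiv : p ∣ orderOf (i * j') := by
    rw [← hy', hmk]
    refine (orderOf_map_dvd (QuotientGroup.mk' DL) _).trans ?_
    rw [Subgroup.orderOf_mk]
  exact hp.ne_one (Nat.eq_one_of_dvd_coprimes hcop hdiv hpD)

end Hyp

end Cfsg.Agent.EqOrderConj59
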