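import Mathlib
import Cfsg.Agent.Lib.EqOrderConj59Kill

/-!
The induction: under `Hyp P D r` the subgroup `D` is normal.
-/

set_option autoImplicit false

namespace Cfsg.Agent.EqOrderConj59

open Cfsg.Agent.SignalizerStrongEmb

universe u

namespace Hyp

variable {G : Type u} [Group G] [Finite G] {P D : Subgroup G} {r : ℕ} (h : Hyp P D r)
include h

local notation "o" => (QuotientGroup.mk (1 : G) : G ⧸ NN P)

theorem invol_centralizer_comm (hab : ∀ a ∈ D, ∀ b ∈ D, a * b = b * a) {t : G} (ht : orderOf t = 2) :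
    IsMulCommutative ↥(Subgroup.centralizer ({t} : Set G)) := by
  obtain ⟨g, hg⟩ := h.invol_conj ht
  have hC : ∀ x ∈ CC P, ∀ y ∈ CC P, x * y = y * x := by
    intro x hx y hy
    obtain ⟨a, ha, hax⟩ := h.decomp hx
    obtain ⟨b, hb, hby⟩ := h.decomp hy
    have hcd : Commute (a * x) (b * y) := hab _ hax _ hby
    have hab' : Commute a b := h.comm a ha b hb
    have hDP : ∀ d ∈ D, ∀ p ∈ P, Commute p d := fun d hd p hp => mem_CC.1 (h.D_le hd) p hp
    have hxe : x = a⁻¹ * (a * x) := by group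
    have hye : y = b⁻¹ * (b * y) := by group
    have e : Commute x y := by
      rw [hxe, hye]
      exact ((hab'.inv_inv).mul_right ((hDP _ hby a ha).inv_left)).mul_left
        (((hDP _ hax b hb).inv_left).symm.mul_right hcd)
    exact e
  have hmem : ∀ c ∈ Subgroup.centralizer ({t} : Set G), g⁻¹ * c * g ∈ CC P := by
    intro c hc
    have hct : t * c = c * t := Subgroup.mem_centralizer_iff.1 hc t rfl
    refine h.cent _ hg (fun e => involution_ne_one ht (by
      have := congrArg (fun x => g * x * g⁻¹) e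
      simpa [mul_assoc] using this)) _ ?_
    calc g⁻¹ * c * g * (g⁻¹ * t * g) = g⁻¹ * (c * t) * g := by group
      _ = g⁻¹ * (t * c) * g := by rw [hct]
      _ = g⁻¹ * t * g * (g⁻¹ * c * g) := by group
  refine ⟨⟨fun a b => Subtype.ext ?_⟩⟩
  show (a : G) * b = b * a
  have e := hC _ (hmem a a.2) _ (hmem b b.2)
  calc (a : G) * b = g * ((g⁻¹ * a * g) * (g⁻¹ * b * g)) * g⁻¹ := by group
    _ = g * ((g⁻¹ * b * g) * (g⁻¹ * a * g)) * g⁻¹ := by rw [e]
    _ = b * a := by group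

/-- The abelian endgame. -/
theorem bot_of_comm (hF : Faithful P) (hab : ∀ a ∈ D, ∀ b ∈ D, a * b = b * a) : D = ⊥ := by
  have : Fact (Nat.Prime 2) := ⟨Nat.prime_two⟩
  obtain ⟨t, ht, ht1⟩ := h.exists_ne_one
  have ht2 := h.orderOf_mem ht ht1
  have heven : Even (Nat.card G) :=
    even_iff_two_dvd.2 (ht2 ▸ orderOf_dvd_natCard t)
  let S : Sylow 2 G := h.two.toSylow (Nat.two_dvd_ne_zero.2 (Nat.odd_iff.1 h.oddIdx))
  rcases S2202.result heven (fun s hs => h.invol_centralizer_comm hab hs) with hc | hn | hres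
  · exact absurd (hc S) h.not_cyclic
  · exact absurd (Subgroup.normalizer_eq_top_iff.2 (hn S)) h.nn
  obtain ⟨F, _, _, A, _, _, hchar, hAodd, ⟨e⟩⟩ := hres
  have := hchar
  have hA : ∀ a : A, a = 1 := by
    intro a
    set z := e.symm (1, a) with hz
    have hzc : ∀ x : G, x * z = z * x := fun x => e.injective (by
      rw [map_mul, map_mul, hz, MulEquiv.apply_symm_apply]
      exact Prod.ext (by simp) (mul_comm _ _))
    have hn : (Subgroup.zpowers z).Normal := ⟨fun w hw g => by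
      obtain ⟨k, rfl⟩ := hw
      have : Commute g (z ^ k) := Commute.zpow_right (hzc g) k
      show g * z ^ k * g⁻¹ ∈ _
      rw [this.eq, mul_inv_cancel_right]
      exact Subgroup.zpow_mem _ (Subgroup.mem_zpowers z) k⟩
    have hzN : z ∈ NN P := CC_le_NN P (mem_CC.2 fun p _ => hzc p)
    have := Subgroup.zpowers_eq_bot.1 (hF _ hn (Subgroup.zpowers_le.2 hzN))
    rw [hz, MulEquiv.map_eq_one_iff] at this
    exact congrArg Prod.snd this
  have hinj : ∀ x : G, (e x).1 = 1 → x = 1 := fun x hx =>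
    e.injective (by rw [map_one]; exact Prod.ext hx (hA _))
  have hF4 : 4 ≤ Nat.card F := by
    by_contra hlt
    have h2 : 2 ∣ Nat.card F := by
      have ho : addOrderOf (1 : F) = 2 :=
        addOrderOf_eq_prime (by rw [nsmul_one]; exact CharP.cast_eq_zero F 2) one_ne_zero
      exact ho ▸ addOrderOf_dvd_natCard (1 : F)
    have hpos : 0 < Nat.card F := Nat.card_pos
    obtain ⟨k, hk⟩ := h2
    have hF2 : Nat.card F = 2 := by omega
    have hG : Nat.card G = 6 := by
      rw [Nat.card_congr e.toEquiv, Nat.card_prod, PSLCard.card_SL2, hF2,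
        show Nat.card A = 1 from Nat.card_eq_one_iff_unique.2 ⟨⟨fun a b => (hA a).trans (hA b).symm⟩, ⟨1⟩⟩]
      norm_num
    have h4 : r + 1 ∣ 6 := h.cardP ▸ hG ▸ Subgroup.card_subgroup_dvd_card P
    have h5 := h.three
    have h6 : r + 1 ≤ 6 := Nat.le_of_dvd (by norm_num) h4
    obtain ⟨n, hn⟩ := IsPGroup.iff_card.1 h.two
    rw [h.cardP] at hn
    rcases n with _ | _ | _ | n
    · omega
    · omega
    · rw [show r + 1 = 4 by simpa using hn] at h4
      norm_num at h4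
    · rw [pow_succ, pow_succ, pow_succ] at hn
      have := Nat.one_le_two_pow (n := n)
      omega
  refine (Subgroup.eq_bot_iff_forall _).2 fun d hd => ?_
  have hcm : Commute (e t).1 (e d).1 := by
    have : Commute t d := mem_CC.1 (h.D_le hd) t ht
    exact (this.map e.toMonoidHom).map (MonoidHom.fst _ _)
  have hto : orderOf (e t).1 = 2 := by
    refine orderOf_eq_two_of_mul_self ?_ fun e1 => ht1 (hinj t e1)
    rw [← Prod.fst_mul, ← map_mul, h.sq t ht, map_one, Prod.fst_one]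
  have hsq := InvolAbelian22Basic.sl_sq hF4 hto hcm.symm
  refine eq_one_of_odd_sq ((h.memD d).1 hd).2 (hinj _ ?_)
  rw [map_mul, Prod.fst_mul]
  exact hsq

theorem p_in_commutator {s : G} (hs : orderOf s = 2) {b : G ⧸ NN P} (hb : b ≠ o) (hsb : s • o = b) :
    ∀ t : NN P, (t : G) ∈ P → t ∈ commutator ↥(NN P) := by
  obtain ⟨k, hk, hkb, hkC, -, -, -, -⟩ := h.rotation hs hb hsb
  intro t ht
  let f : P → P := fun a => ⟨k * a * k⁻¹ * (a : G)⁻¹, mul_mem ((mem_NN.1 hk) a a.2) (inv_mem a.2)⟩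
  have hf : Function.Injective f := by
    intro a a' e
    have e' : k * a * k⁻¹ * (a : G)⁻¹ = k * a' * k⁻¹ * (a' : G)⁻¹ := congrArg Subtype.val e
    by_contra hne
    have hne' : (a : G)⁻¹ * a' ≠ 1 := fun h1 => hne (Subtype.ext (inv_mul_eq_one.1 h1))
    refine hkC (h.cent _ (mul_mem (inv_mem a.2) a'.2) hne' k ?_)
    have : k * ((a : G)⁻¹ * a') * k⁻¹ = (a : G)⁻¹ * a' := by
      calc k * ((a : G)⁻¹ * a') * k⁻¹ = (k * a * k⁻¹)⁻¹ * (k * a' * k⁻¹) := by group
        _ = (a : G)⁻¹ * ((k * a * k⁻¹ * (a : G)⁻¹)⁻¹ * (k * a' * k⁻¹ * (a' : G)⁻¹)) * a' := by group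
        _ = _ := by rw [e', inv_mul_cancel, mul_one]
    exact mul_inv_eq_iff_eq_mul.1 this
  obtain ⟨a, ha⟩ := Finite.surjective_of_injective hf ⟨t, ht⟩
  have : t = (⟨k, hk⟩ : NN P) * ⟨(a : G), Subgroup.le_normalizer a.2⟩ * (⟨k, hk⟩ : NN P)⁻¹ *
      (⟨(a : G), Subgroup.le_normalizer a.2⟩ : NN P)⁻¹ := by
    refine Subtype.ext ?_
    exact ((congrArg Subtype.val ha).symm :)
  rw [this, ← commutatorElement_def]
  exact Subgroup.commutator_mem_commutator (Subgroup.mem_top _) (Subgroup.mem_top _)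

/-- In the presence of a two-point stabiliser `B ≠ 1` in `D`, some element of `B` survives in the
abelianization of `N(P)`. -/
theorem exists_not_mem_commutator (hF : Faithful P) (hI : Below P D)
    {d₀ : G} (hd₀ : d₀ ∈ D) (hd₀1 : d₀ ≠ 1) {b : G ⧸ NN P} (hb : b ≠ o) (hd₀b : d₀ • b = b) :
    ∃ d : G, ∃ hd : d ∈ D, d • b = b ∧ (⟨d, h.D_le_NN hd⟩ : NN P) ∉ commutator ↥(NN P) := by
  obtain ⟨s, hs, hsb⟩ := h.exists_swap (Ne.symm hb)
  obtain ⟨k, hk, hkb, hkC, hko, -, hkcom, hdec⟩ := h.rotation hs hb hsb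
  set B : Subgroup G := D ⊓ MulAction.stabilizer G b with hB
  have memB : ∀ {x : G}, x ∈ B ↔ x ∈ D ∧ x • b = b := fun {x} => Iff.rfl
  -- `B` is a Frobenius complement in `D`
  have hmal : ∀ x ∈ D, ∀ y ∈ B, y ≠ 1 → x⁻¹ * y * x ∈ B → x ∈ B := by
    intro x hx y hy hy1 hxy
    refine memB.2 ⟨hx, ?_⟩
    have hxo : x • o = o := smul_one_eq_iff.2 (h.D_le_NN hx)
    have hne : x • b ≠ o := fun e => hb (smul_left_cancel x (e.trans hxo.symm))
    have hyx : y • (x • b) = x • b := by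
      have h2 := (memB.1 hxy).2
      rw [mul_smul, mul_smul, inv_smul_eq_iff] at h2
      exact h2
    obtain ⟨-, -, -, hline⟩ := h.cent_facts hF hI (memB.1 hy).1 hy1 hb (memB.1 hy).2
    obtain ⟨t, ht, hte⟩ := hline _ hne hyx
    have hf : (t⁻¹ * x) • b = b := by rw [mul_smul, ← hte, inv_smul_smul]
    have hn : t⁻¹ * x ∈ NN P := mul_mem (inv_mem (Subgroup.le_normalizer ht)) (h.D_le_NN hx)
    have hodd := h.odd_of_fix hn hb hf
    have hcm : Commute t⁻¹ x := (show Commute t x from mem_CC.1 (h.D_le hx) t ht).inv_left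
    have htm : (t⁻¹ * x) ^ orderOf x = t := by
      rw [hcm.mul_pow, pow_orderOf_eq_one, mul_one, inv_eq_of_mul_eq_one_right (h.sq t ht)]
      obtain ⟨j, hj⟩ := ((h.memD x).1 hx).2
      rw [hj, pow_succ, pow_mul, pow_two, h.sq t ht, one_pow, one_mul]
    have htb : t • b = b := by
      rw [← htm]
      exact MulAction.mem_stabilizer_iff.1 (pow_mem (MulAction.mem_stabilizer_iff.2 hf) _)
    rw [← hte, htb]
  set B' : Subgroup D := B.subgroupOf D with hB'
  have hd₀B : d₀ ∈ B := memB.2 ⟨hd₀, hd₀b⟩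
  have hBk : ∀ x ∈ B, k * x = x * k := fun x hx => hkcom x (memB.1 hx).1 (memB.1 hx).2
  obtain ⟨Kf, hKn, hKc, hKk⟩ : ∃ Kf : Subgroup D, Kf.Normal ∧ Subgroup.IsComplement' Kf B' ∧
      ∀ x ∈ Kf, (⟨k * x * k⁻¹, h.conj_D hk x.2⟩ : D) ∈ Kf := by
    by_cases htop : B' = ⊤
    · refine ⟨⊥, inferInstance, htop ▸ Subgroup.isComplement'_bot_top, fun x hx => ?_⟩
      rw [Subgroup.mem_bot] at hx ⊢
      subst hx
      exact Subtype.ext (by simp)
    · have hFr : Cfsg.IsFrobeniusComplement B' := by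
        refine ⟨fun e => hd₀1 ?_, htop, fun g hg => ?_⟩
        · exact congrArg Subtype.val ((Subgroup.eq_bot_iff_forall _).1 e ⟨d₀, hd₀⟩ hd₀B)
        · refine (Subgroup.eq_bot_iff_forall _).2 ?_
          rintro y ⟨hy, hy'⟩
          by_contra hy1
          refine hg (hmal g g.2 y hy (fun e => hy1 (Subtype.ext e)) ?_)
          have h2 := Subgroup.mem_pointwise_smul_iff_inv_smul_mem.1 hy'
          simpa [MulAut.smul_def, hB', Subgroup.mem_subgroupOf] using h2
      obtain ⟨Kf, hset, hKn, hKc, -⟩ := FrobeniusNilpotent.exists_nilpotent_kernel hFr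
      refine ⟨Kf, hKn, hKc, fun x hx => ?_⟩
      have hx' : x ∈ Cfsg.frobeniusKernel B' := hset ▸ hx
      show (⟨k * x * k⁻¹, h.conj_D hk x.2⟩ : D) ∈ (Kf : Set D)
      rw [hset]
      rcases hx' with rfl | hx'
      · exact Or.inl (Subtype.ext (by simp))
      · refine Or.inr fun g hg => hx' ⟨k⁻¹ * g * k, by simpa using h.conj_D (inv_mem hk) g.2⟩ ?_
        rw [Subgroup.mem_pointwise_smul_iff_inv_smul_mem] at hg ⊢
        have hg' : (g : G)⁻¹ * (k * x * k⁻¹) * g ∈ B := by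
          simpa [MulAut.smul_def, hB', Subgroup.mem_subgroupOf] using hg
        have e2 : (k⁻¹ * g * k)⁻¹ * (x : G) * (k⁻¹ * g * k) ∈ B := by
          have h3 : (k⁻¹ * g * k)⁻¹ * (x : G) * (k⁻¹ * g * k)
              = k⁻¹ * ((g : G)⁻¹ * (k * x * k⁻¹) * g) * k := by group
          rw [h3, mul_assoc, ← hBk _ hg', inv_mul_cancel_left]
          exact hg'
        simpa [MulAut.smul_def, hB', Subgroup.mem_subgroupOf, mul_assoc] using e2
  set K : Subgroup G := Kf.map D.subtype with hK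
  have hKD : K ≤ D := Subgroup.map_subtype_le _
  set B1 : Subgroup G := ⁅B, B⁆ with hB1
  have hB1B : B1 ≤ B := Subgroup.commutator_le.2 fun x hx y hy => by
    rw [commutatorElement_def]
    exact mul_mem (mul_mem (mul_mem hx hy) (inv_mem hx)) (inv_mem hy)
  have hKnD : ∀ d ∈ D, ∀ x ∈ K, d * x * d⁻¹ ∈ K := by
    rintro d hd _ ⟨x, hx, rfl⟩
    exact ⟨_, hKn.conj_mem x hx ⟨d, hd⟩, rfl⟩
  have hKk' : ∀ x ∈ K, k * x * k⁻¹ ∈ K := by
    rintro _ ⟨x, hx, rfl⟩
    exact ⟨_, hKk x hx, rfl⟩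
  have hB1n : ∀ d ∈ B, ∀ x ∈ B1, d * x * d⁻¹ ∈ B1 := by
    intro d hd x hx
    have hm : B.map (MulAut.conj d).toMonoidHom ≤ B := by
      rintro _ ⟨y, hy, rfl⟩
      exact mul_mem (mul_mem hd hy) (inv_mem hd)
    have h2 : B1.map (MulAut.conj d).toMonoidHom ≤ B1 := by
      rw [hB1, Subgroup.map_commutator]
      exact Subgroup.commutator_mono hm hm
    exact h2 (Subgroup.mem_map_of_mem _ hx)
  have hPD : ∀ t ∈ P, ∀ d ∈ D, t * d = d * t := fun t ht d hd => mem_CC.1 (h.D_le hd) t ht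
  let W : Subgroup G :=
    { carrier := {x | ∃ t ∈ P, ∃ a ∈ K, ∃ c ∈ B1, x = t * a * c}
      one_mem' := ⟨1, P.one_mem, 1, K.one_mem, 1, B1.one_mem, by simp⟩
      mul_mem' := by
        rintro _ _ ⟨t, ht, a, ha, c, hc, rfl⟩ ⟨t', ht', a', ha', c', hc', rfl⟩
        have hcD := (memB.1 (hB1B hc)).1
        refine ⟨t * t', mul_mem ht ht', a * (c * a' * c⁻¹), mul_mem ha (hKnD c hcD a' ha'),
          c * c', mul_mem hc hc', ?_⟩
        have e : a * c * t' = t' * (a * c) :=
          (hPD t' ht' _ (mul_mem (hKD ha) hcD)).symm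
        calc t * a * c * (t' * a' * c') = t * (a * c * t') * (a' * c') := by group
          _ = t * (t' * (a * c)) * (a' * c') := by rw [e]
          _ = _ := by group
      inv_mem' := by
        rintro _ ⟨t, ht, a, ha, c, hc, rfl⟩
        have hcD := (memB.1 (hB1B hc)).1
        refine ⟨t⁻¹, inv_mem ht, c⁻¹ * a⁻¹ * c⁻¹⁻¹, hKnD _ (inv_mem hcD) _ (inv_mem ha),
          c⁻¹, inv_mem hc, ?_⟩
        have e : c⁻¹ * a⁻¹ * t⁻¹ = t⁻¹ * (c⁻¹ * a⁻¹) :=
          (hPD _ (inv_mem ht) _ (mul_mem (inv_mem hcD) (inv_mem (hKD ha)))).symm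
        calc (t * a * c)⁻¹ = c⁻¹ * a⁻¹ * t⁻¹ := by group
          _ = t⁻¹ * (c⁻¹ * a⁻¹) := e
          _ = _ := by group }
  have hPW : P ≤ W := fun t ht => ⟨t, ht, 1, K.one_mem, 1, B1.one_mem, by simp⟩
  have hKW : K ≤ W := fun a ha => ⟨1, P.one_mem, a, ha, 1, B1.one_mem, by simp⟩
  have hB1W : B1 ≤ W := fun c hc => ⟨1, P.one_mem, 1, K.one_mem, c, hc, by simp⟩
  have hnorm : ∀ x : G, (∀ t ∈ P, x * t * x⁻¹ ∈ W) → (∀ a ∈ K, x * a * x⁻¹ ∈ W) →
      (∀ c ∈ B1, x * c * x⁻¹ ∈ W) → x ∈ NN W := by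
    intro x h1 h2 h3
    refine mem_NN.2 ?_
    rintro _ ⟨t, ht, a, ha, c, hc, rfl⟩
    rw [show x * (t * a * c) * x⁻¹ = (x * t * x⁻¹) * (x * a * x⁻¹) * (x * c * x⁻¹) by group]
    exact mul_mem (mul_mem (h1 t ht) (h2 a ha)) (h3 c hc)
  have hNle : NN P ≤ NN W := by
    intro x hx
    have hPN : P ≤ NN W := hPW.trans Subgroup.le_normalizer
    have hKN : K ≤ NN W := hKW.trans Subgroup.le_normalizer
    have hBN : B ≤ NN W := fun d hd => hnorm d
      (fun t ht => hPW ((mem_NN.1 (h.D_le_NN (memB.1 hd).1)) t ht))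
      (fun a ha => hKW (hKnD d (memB.1 hd).1 a ha))
      (fun c hc => hB1W (hB1n d hd c hc))
    have hkN : k ∈ NN W := hnorm k (fun t ht => hPW ((mem_NN.1 hk) t ht))
      (fun a ha => hKW (hKk' a ha))
      (fun c hc => hB1W (by rw [hBk c (hB1B hc), mul_inv_cancel_right]; exact hc))
    obtain ⟨i, hi⟩ := h.gen k hk hkC x hx
    obtain ⟨t, ht, hti⟩ := h.decomp hi
    obtain ⟨⟨a, b'⟩, hab, -⟩ := hKc.existsUnique ⟨t * (x * k ^ i), hti⟩
    have e : (a.1 : G) * (b'.1 : G) = t * (x * k ^ i) := congrArg Subtype.val hab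
    have hm : t * (x * k ^ i) ∈ NN W := by
      rw [← e]
      exact mul_mem (hKN (Subgroup.mem_map_of_mem _ a.2)) (hBN b'.2)
    have := mul_mem (mul_mem (inv_mem (hPN ht)) hm) (inv_mem (pow_mem hkN i))
    simpa [mul_assoc] using this
  set WH : Subgroup (NN P) := W.subgroupOf (NN P) with hWH
  have : WH.Normal := ⟨fun w hw g => (mem_NN.1 (hNle g.2)) w hw⟩
  have hcomm : commutator ↥(NN P) ≤ WH := by
    let T : Set (↥(NN P) ⧸ WH) :=
      {q | ∃ y : NN P, ((y : G) ∈ B ∨ (y : G) = k) ∧ (y : ↥(NN P) ⧸ WH) = q}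
    have hT : ∀ a ∈ T, ∀ b ∈ T, a * b = b * a := by
      rintro _ ⟨a, ha, rfl⟩ _ ⟨c, hc, rfl⟩
      rw [← QuotientGroup.mk_mul, ← QuotientGroup.mk_mul]
      rcases ha with ha | ha <;> rcases hc with hc | hc
      · refine QuotientGroup.eq.2 (Subgroup.mem_subgroupOf.2 (hB1W ?_))
        have hcm := Subgroup.commutator_mem_commutator (inv_mem hc) (inv_mem ha)
        rw [← hB1, commutatorElement_def] at hcm
        simpa [mul_assoc] using hcm
      · rw [show a * c = c * a from Subtype.ext (by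
          show (a : G) * c = c * a
          rw [hc]; exact (hBk _ ha).symm)]
      · rw [show a * c = c * a from Subtype.ext (by
          show (a : G) * c = c * a
          rw [ha]; exact hBk _ hc)]
      · rw [show a = c from Subtype.ext (ha.trans hc.symm)]
    have hgen : ∀ x : NN P, (x : ↥(NN P) ⧸ WH) ∈ Subgroup.closure T := by
      intro x
      obtain ⟨i, hi⟩ := h.gen k hk hkC x x.2
      obtain ⟨t, ht, hti⟩ := h.decomp hi
      obtain ⟨⟨a, b'⟩, hab, -⟩ := hKc.existsUnique ⟨t * (x * k ^ i), hti⟩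
      have e : (a.1 : G) * (b'.1 : G) = t * (x * k ^ i) := congrArg Subtype.val hab
      let T' : NN P := ⟨t, Subgroup.le_normalizer ht⟩
      let A' : NN P := ⟨(a.1 : G), h.D_le_NN a.1.2⟩
      let B'' : NN P := ⟨(b'.1 : G), h.D_le_NN b'.1.2⟩
      let K' : NN P := ⟨k, hk⟩
      have hx : x = T'⁻¹ * A' * B'' * (K' ^ i)⁻¹ := Subtype.ext (by
        show (x : G) = t⁻¹ * a.1 * b'.1 * (k ^ i)⁻¹
        rw [mul_assoc t⁻¹, e]; group)
      rw [hx, QuotientGroup.mk_mul, QuotientGroup.mk_mul, QuotientGroup.mk_mul,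
        (QuotientGroup.eq_one_iff T'⁻¹).2 (Subgroup.mem_subgroupOf.2 (hPW (inv_mem ht))),
        (QuotientGroup.eq_one_iff A').2 (Subgroup.mem_subgroupOf.2 (hKW (Subgroup.mem_map_of_mem _ a.2))),
        one_mul, one_mul, QuotientGroup.mk_inv, QuotientGroup.mk_pow]
      exact mul_mem (Subgroup.subset_closure ⟨B'', Or.inl b'.2, rfl⟩)
        (inv_mem (pow_mem (Subgroup.subset_closure (k := T) ⟨K', Or.inr rfl, rfl⟩) i))
    have := Subgroup.isMulCommutative_closure hT
    rw [commutator_def, Subgroup.commutator_le]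
    intro x _ y _
    rw [← QuotientGroup.eq_one_iff, commutatorElement_def, QuotientGroup.mk_mul, QuotientGroup.mk_mul,
      QuotientGroup.mk_mul, QuotientGroup.mk_inv, QuotientGroup.mk_inv]
    have hxy : (x : ↥(NN P) ⧸ WH) * (y : ↥(NN P) ⧸ WH) = (y : ↥(NN P) ⧸ WH) * x :=
      congrArg Subtype.val (this.is_comm.comm ⟨_, hgen x⟩ ⟨_, hgen y⟩)
    rw [hxy, mul_inv_cancel_right, mul_inv_cancel]
  -- `B` is solvable
  have hBne : ∃ d ∈ B, d ∉ B1 := by
    by_contra hcon
    push Not at hcon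
    have hoddB : Odd (Nat.card B) := h.oddD.of_dvd_nat (Subgroup.card_dvd_of_le inf_le_left)
    have := S0205.result (G := B) hoddB
    have : Nontrivial B := ⟨⟨⟨d₀, hd₀B⟩, 1, fun e => hd₀1 (congrArg Subtype.val e)⟩⟩
    refine (Group.IsSolvable.commutator_lt_top_of_nontrivial B).ne (eq_top_iff.2 fun x _ => ?_)
    have hx := hcon x x.2
    rw [hB1, ← Subgroup.map_subtype_commutator] at hx
    obtain ⟨y, hy, e⟩ := hx
    rwa [← Subtype.ext e]
  obtain ⟨d, hdB, hd1⟩ := hBne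
  refine ⟨d, (memB.1 hdB).1, (memB.1 hdB).2, fun hm => hd1 ?_⟩
  obtain ⟨t, ht, a, ha, c, hc, e⟩ : d ∈ W := hcomm hm
  have ht1 : t = 1 := by
    have htD : t ∈ D := by
      have h2 := mul_mem (mul_mem (memB.1 hdB).1 (inv_mem (memB.1 (hB1B hc)).1)) (inv_mem (hKD ha))
      rwa [e, mul_inv_cancel_right, mul_inv_cancel_right] at h2
    exact eq_one_of_odd_sq ((h.memD t).1 htD).2 (h.sq t ht)
  have haB : a ∈ B := by
    have h2 := mul_mem hdB (inv_mem (hB1B hc))
    rwa [e, ht1, one_mul, mul_inv_cancel_right] at h2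
  obtain ⟨a', ha', rfl⟩ := ha
  have : a' ∈ Kf ⊓ B' := ⟨ha', haB⟩
  rw [hKc.disjoint.eq_bot, Subgroup.mem_bot] at this
  rw [e, ht1, this]
  simpa using hc

/-- The transfer case. -/
theorem comm_of_fixed (hF : Faithful P) (hI : Below P D)
    {d₀ : G} (hd₀ : d₀ ∈ D) (hd₀1 : d₀ ≠ 1) {b : G ⧸ NN P} (hb : b ≠ o) (hd₀b : d₀ • b = b) :
    ∀ x ∈ D, ∀ y ∈ D, x * y = y * x := by
  obtain ⟨d, hd, hdb, hdc⟩ := h.exists_not_mem_commutator hF hI hd₀ hd₀1 hb hd₀b
  obtain ⟨s, hs, hsb⟩ := h.exists_swap (Ne.symm hb)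
  let ψ : NN P →* Abelianization ↥(NN P) := Abelianization.of
  let V : G →* Abelianization ↥(NN P) := MonoidHom.transfer ψ
  have hker : ∀ x : NN P, ψ x = 1 ↔ x ∈ commutator ↥(NN P) := fun x => QuotientGroup.eq_one_iff x
  have key : ∀ e : G, ∀ he : e ∈ D, V e = ψ ⟨e, h.D_le_NN he⟩ ^ (NN P).index := by
    intro e he
    refine transfer_eq_map_pow ψ (h.D_le_NN he) fun m g₀ hm => ?_
    have heD : e ^ m ∈ D := pow_mem he m
    obtain ⟨g₁, hg₁, hcm⟩ : ∃ g₁ ∈ NN P, g₀⁻¹ * e ^ m * g₀ = g₁⁻¹ * e ^ m * g₁ := by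
      by_cases hg : g₀ ∈ NN P
      · exact ⟨g₀, hg, rfl⟩
      have hc : (QuotientGroup.mk g₀ : G ⧸ NN P) ≠ o := fun e' => hg (by simpa using QuotientGroup.eq.1 e'.symm)
      have hfix : e ^ m • (QuotientGroup.mk g₀ : G ⧸ NN P) = QuotientGroup.mk g₀ := by
        refine (QuotientGroup.eq.2 ?_).symm
        simpa [mul_assoc] using hm
      obtain ⟨i, hi, hic⟩ := h.exists_swap (Ne.symm hc)
      have hie := h.swap_comm hi hc hic heD hfix
      refine ⟨i⁻¹ * g₀, QuotientGroup.eq.1 (h.mk_of_smul hic), ?_⟩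
      calc g₀⁻¹ * e ^ m * g₀ = g₀⁻¹ * ((e ^ m * i) * i⁻¹) * g₀ := by group
        _ = g₀⁻¹ * ((i * e ^ m) * i⁻¹) * g₀ := by rw [hie]
        _ = _ := by group
    have : (⟨g₀⁻¹ * e ^ m * g₀, hm⟩ : NN P) = ⟨g₁, hg₁⟩⁻¹ * ⟨e ^ m, pow_mem (h.D_le_NN he) m⟩ * ⟨g₁, hg₁⟩ :=
      Subtype.ext hcm
    rw [this, map_mul, map_mul, map_inv, mul_right_comm, inv_mul_cancel, one_mul]
  -- the target has odd order
  have hoddA : Odd (Nat.card (Abelianization ↥(NN P))) := by
    have h1 : P.subgroupOf (NN P) ≤ commutator ↥(NN P) := fun t ht => h.p_in_commutator hs hb hsb t ht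
    exact (h.oddIdx.of_dvd_nat (Subgroup.relIndex_dvd_index_of_le Subgroup.le_normalizer)).of_dvd_nat
      (Subgroup.index_dvd_of_le h1)
  have hinv : ∀ i : G, orderOf i = 2 → V i = 1 := fun i hi =>
    eq_one_of_odd_sq (hoddA.of_dvd_nat (orderOf_dvd_natCard _))
      (by rw [← map_mul, involution_mul_self hi, map_one])
  -- a `p`-element of `D` not in the kernel
  set w := ψ ⟨d, h.D_le_NN hd⟩ with hw
  have hw1 : w ≠ 1 := fun e => hdc ((hker _).1 e)
  obtain ⟨p, hp, hpw⟩ := Nat.exists_prime_and_dvd (n := orderOf w) (fun e => hw1 (orderOf_eq_one_iff.1 e))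
  have := Fact.mk hp
  obtain ⟨a, m, hm, hdm⟩ := Nat.exists_eq_pow_mul_and_not_dvd (orderOf_pos d).ne' p hp.ne_one
  have hdm1 : d ^ m ≠ 1 := by
    intro e
    refine hm (hpw.trans ((orderOf_map_dvd ψ _).trans ?_))
    rw [Subgroup.orderOf_mk]
    exact orderOf_dvd_of_pow_eq_one e
  have hdmD : d ^ m ∈ D := pow_mem hd m
  have hdmb : d ^ m • b = b :=
    MulAction.mem_stabilizer_iff.1 (pow_mem (MulAction.mem_stabilizer_iff.2 hdb) m)
  have hpo : (d ^ m) ^ p ^ a = 1 := by rw [← pow_mul, mul_comm, ← hdm, pow_orderOf_eq_one]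
  have hpD : p ∣ Nat.card D := by
    refine hpw.trans ((orderOf_map_dvd ψ _).trans ?_)
    rw [Subgroup.orderOf_mk]
    exact Subgroup.orderOf_dvd_natCard D hd
  have hn : ¬ p ∣ (NN P).index := by
    intro hpn
    refine h.not_dvd hF hI hdmD hdm1 hb hdmb hp hpD ?_
    have hpg : IsPGroup p (Subgroup.zpowers (d ^ m)) := by
      obtain ⟨j, -, hj⟩ := (Nat.dvd_prime_pow hp).mp (orderOf_dvd_of_pow_eq_one hpo)
      exact IsPGroup.of_card (n := j) (by rw [Nat.card_zpowers, hj])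
    have hmod := hpg.card_modEq_card_fixedPoints (G ⧸ NN P)
    have hfix : Nat.card (MulAction.fixedPoints (Subgroup.zpowers (d ^ m)) (G ⧸ NN P)) = r + 2 := by
      rw [← h.fix_equiv hF hI hdmD hdm1 hb hdmb]
      refine Nat.card_congr (Equiv.subtypeEquivRight fun c => ?_)
      refine ⟨fun hc => hc ⟨_, Subgroup.mem_zpowers _⟩, fun hc => ?_⟩
      rintro ⟨_, j, rfl⟩
      exact MulAction.mem_stabilizer_iff.1 (zpow_mem (MulAction.mem_stabilizer_iff.2 hc) j)
    rw [hfix] at hmod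
    exact Nat.modEq_zero_iff_dvd.1 (hmod.symm.trans (Nat.modEq_zero_iff_dvd.2 hpn))
  have hVd : d ^ m ∉ V.ker := by
    intro hk
    have h1 : V (d ^ m) = 1 := hk
    rw [key _ hdmD] at h1
    have hwm : ψ ⟨d ^ m, h.D_le_NN hdmD⟩ = w ^ m := map_pow ψ ⟨d, h.D_le_NN hd⟩ m
    rw [hwm, ← pow_mul] at h1
    rcases (hp.dvd_mul.1 (hpw.trans (orderOf_dvd_of_pow_eq_one h1))) with h2 | h2
    · exact hm h2
    · exact hn h2
  set M := V.ker with hM
  have hPM : P ≤ M := fun t ht => by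
    by_cases ht1 : t = 1
    · rw [ht1]; exact one_mem _
    · exact hinv t (h.orderOf_mem ht ht1)
  have hMne : M ≠ ⊤ := fun e => hVd (e ▸ Subgroup.mem_top _)
  have hMn := hI M hMne hPM ⟨s, hinv s hs, h.swap_not_mem hb hsb⟩
  have hDM : ∀ x ∈ D, x ∈ M → x = 1 := by
    intro x hx hxM
    have hall : ∀ g : G, g⁻¹ * x * g ∈ NN P := by
      intro g
      by_cases hg : g ∈ NN P
      · exact mul_mem (mul_mem (inv_mem hg) (h.D_le_NN hx)) hg
      have hc : (QuotientGroup.mk g : G ⧸ NN P) ≠ o := fun e' => hg (by simpa using QuotientGroup.eq.1 e'.symm)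
      obtain ⟨i, hi, hic⟩ := h.exists_swap (Ne.symm hc)
      have hig : i⁻¹ * g ∈ NN P := QuotientGroup.eq.1 (h.mk_of_smul hic)
      have hiM : i ∈ M := hinv i hi
      have hconj := hMn.conj_mem ⟨x, hxM⟩ hx ⟨i, hiM⟩⁻¹
      have hxi : i⁻¹ * x * i ∈ D := by simpa [Subgroup.mem_subgroupOf] using hconj
      have := mul_mem (mul_mem (inv_mem hig) (h.D_le_NN hxi)) hig
      simpa [mul_assoc] using this
    have hmem : x ∈ (NN P).normalCore := fun g => by simpa using hall g⁻¹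
    have := hF _ (Subgroup.normalCore_normal _) (Subgroup.normalCore_le _)
    rw [this] at hmem
    exact hmem
  intro x hx y hy
  have : V (x * y * (y * x)⁻¹) = 1 := by
    rw [map_mul, map_inv, map_mul, map_mul, mul_comm (V x) (V y), mul_inv_cancel]
  exact mul_inv_eq_one.1 (hDM _ (mul_mem (mul_mem hx hy) (inv_mem (mul_mem hy hx))) this)

/-- The semiregular case. -/
theorem comm_of_semiregular (hsr : ∀ c : G ⧸ NN P, c ≠ o → ∀ d ∈ D, d • c = c → d = 1) :
    ∀ x ∈ D, ∀ y ∈ D, x * y = y * x := by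
  obtain ⟨b, hb⟩ := h.exists_point
  obtain ⟨s, hs, hsb⟩ := h.exists_swap (Ne.symm hb)
  obtain ⟨k, hk, hkb, hkC, hko, hkinv, -, -⟩ := h.rotation hs hb hsb
  have hfpf : ∀ d ∈ D, k * d = d * k → d = 1 := by
    by_contra hcon
    push Not at hcon
    obtain ⟨d, hd, hkd, hd1⟩ := hcon
    obtain ⟨p, hp, hpd⟩ := Nat.exists_prime_and_dvd (n := orderOf d) (fun e => hd1 (orderOf_eq_one_iff.1 e))
    have := Fact.mk hp
    set e := d ^ (orderOf d / p)
    have he : orderOf e = p := orderOf_pow_orderOf_div (orderOf_pos d).ne' hpd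
    set C := Subgroup.centralizer ({k} : Set G) with hC
    have memC : ∀ {x : G}, k * x = x * k → x ∈ C := fun hx =>
      Subgroup.mem_centralizer_iff.2 (by rintro y rfl; exact hx)
    have heC : e ∈ C := pow_mem (memC hkd) _
    have heD : e ∈ D := pow_mem hd _
    have he1 : e ≠ 1 := fun e1 => hp.ne_one (by rw [← he, e1, orderOf_one])
    let Z : Subgroup C := Subgroup.zpowers ⟨e, heC⟩
    have hZ : IsPGroup p Z := IsPGroup.of_card (n := 1) (by rw [Nat.card_zpowers, Subgroup.orderOf_mk, he, pow_one])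
    have hsC : ∀ x ∈ C, s * x * s⁻¹ ∈ C := by
      intro x hx
      refine memC ?_
      have hx' : Commute k x := Subgroup.mem_centralizer_iff.1 hx k rfl
      have h1 : s * k⁻¹ * s⁻¹ = k := by rw [← conj_inv, hkinv, inv_inv]
      calc k * (s * x * s⁻¹) = s * (k⁻¹ * x) * s⁻¹ := by nth_rw 1 [← h1]; group
        _ = s * (x * k⁻¹) * s⁻¹ := by rw [hx'.inv_left.eq]
        _ = s * x * s⁻¹ * k := by nth_rw 2 [← h1]; group
    have hs' : s⁻¹ = s := involution_inv hs
    have himage : MulAction.orbit C b = (fun c => s • c) '' MulAction.orbit C o := by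
      ext c
      constructor
      · rintro ⟨x, rfl⟩
        refine ⟨(s * x * s⁻¹ : G) • o, ⟨⟨_, hsC x x.2⟩, rfl⟩, ?_⟩
        show s • ((s * x * s⁻¹) • o) = (x : G) • b
        rw [hs', smul_smul, ← mul_assoc, ← mul_assoc, involution_mul_self hs, one_mul, mul_smul, hsb]
      · rintro ⟨_, ⟨x, rfl⟩, rfl⟩
        refine ⟨⟨_, hsC x x.2⟩, ?_⟩
        show (s * x * s⁻¹) • b = s • ((x : G) • o)
        rw [hs', mul_smul, h.swap_symm hs hsb, mul_smul]
    have hcards : Nat.card (MulAction.orbit C b) = Nat.card (MulAction.orbit C o) := by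
      rw [Nat.card_coe_set_eq, Nat.card_coe_set_eq, himage,
        Set.ncard_image_of_injective _ (fun x y hxy => smul_left_cancel s hxy)]
    have hbo : b ∉ MulAction.orbit C o := by
      rintro ⟨x, hx⟩
      have hxb : (x : G) • o = b := hx
      have hy : s⁻¹ * x ∈ NN P := smul_one_eq_iff.1 (by rw [mul_smul, hxb, hs', h.swap_symm hs hsb])
      set y := s⁻¹ * (x : G) with hy_def
      have hyk : y * k * y⁻¹ = k⁻¹ := by
        have hx' : Commute k (x : G) := Subgroup.mem_centralizer_iff.1 x.2 k rfl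
        calc y * k * y⁻¹ = s⁻¹ * ((x : G) * k * (x : G)⁻¹) * s := by rw [hy_def]; group
          _ = s⁻¹ * k * s := by rw [← hx'.eq, mul_inv_cancel_right]
          _ = k⁻¹ := by
            have := hkinv
            rw [hs'] at this ⊢
            exact this
      -- the quotient `N(P)/C(P)` is abelian
      obtain ⟨n, hn⟩ := h.gen k hk hkC y hy
      have hk2 : k * k ∈ CC P := by
        set c := y * k ^ n with hc
        have hconj : c * k * c⁻¹ = k⁻¹ := by rw [← hyk, hc]; group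
        have hk' : k * c * k⁻¹ ∈ CC P := by
          refine mem_CC.2 fun a ha => ?_
          have ha' : k⁻¹ * a * k ∈ P := by simpa using (mem_NN.1 (inv_mem hk)) a ha
          calc a * (k * c * k⁻¹) = k * ((k⁻¹ * a * k) * c) * k⁻¹ := by group
            _ = k * (c * (k⁻¹ * a * k)) * k⁻¹ := by rw [mem_CC.1 hn _ ha']
            _ = k * c * k⁻¹ * a := by group
        have := inv_mem (mul_mem hn (inv_mem hk'))
        have e2 : c * (k * c * k⁻¹)⁻¹ = (c * k * c⁻¹) * k⁻¹ := by group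
        rw [e2, hconj, mul_inv_rev, inv_inv] at this
        exact this
      refine hkC ?_
      obtain ⟨j, hj⟩ := h.prime.odd_of_ne_two (by have := h.three; omega)
      have hkr : k * (k * k) ^ j = 1 := by rw [← pow_two, ← pow_mul, ← pow_succ', ← hj, ← hko, pow_orderOf_eq_one]
      rw [eq_inv_of_mul_eq_one_left hkr]
      exact inv_mem (pow_mem hk2 j)
    have h1 := hZ.card_modEq_card_fixedPoints (MulAction.orbit C o)
    have h2 := hZ.card_modEq_card_fixedPoints (MulAction.orbit C b)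
    have hfo : Nat.card (MulAction.fixedPoints Z (MulAction.orbit C o)) = 1 := by
      rw [Nat.card_eq_one_iff_unique]
      refine ⟨⟨fun x y => ?_⟩, ⟨⟨⟨o, MulAction.mem_orbit_self _⟩, ?_⟩⟩⟩
      · have : ∀ x : MulAction.fixedPoints Z (MulAction.orbit C o), (x.1 : G ⧸ NN P) = o := by
          intro x
          by_contra hx
          refine he1 (hsr _ hx e heD ?_)
          exact congrArg Subtype.val (x.2 ⟨⟨e, heC⟩, Subgroup.mem_zpowers _⟩)
        exact Subtype.ext (Subtype.ext ((this x).trans (this y).symm))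
      · rintro ⟨z, j, rfl⟩
        refine Subtype.ext ?_
        show ((⟨e, heC⟩ : C) ^ j : C).1 • o = o
        rw [Subgroup.coe_zpow]
        exact MulAction.mem_stabilizer_iff.1
          (zpow_mem (MulAction.mem_stabilizer_iff.2 (smul_one_eq_iff.2 (h.D_le_NN heD))) j)
    have hfb : Nat.card (MulAction.fixedPoints Z (MulAction.orbit C b)) = 0 := by
      rw [Nat.card_eq_zero]
      refine Or.inl ⟨fun x => ?_⟩
      have hx : (x.1 : G ⧸ NN P) ≠ o := by
        intro e1
        have h3 : o ∈ MulAction.orbit C b := e1 ▸ x.1.2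
        exact hbo (MulAction.mem_orbit_symm.1 h3)
      exact he1 (hsr _ hx e heD (congrArg Subtype.val (x.2 ⟨⟨e, heC⟩, Subgroup.mem_zpowers _⟩)))
    rw [hfo] at h1
    rw [hfb, hcards] at h2
    have := (Nat.modEq_zero_iff_dvd.1 (h1.symm.trans h2))
    exact hp.not_dvd_one this
  let φ : MulAut D :=
    { toFun := fun x => ⟨k * x * k⁻¹, h.conj_D hk x.2⟩
      invFun := fun x => ⟨k⁻¹ * x * k, by simpa using h.conj_D (inv_mem hk) x.2⟩
      left_inv := fun x => Subtype.ext (by simp [mul_assoc])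
      right_inv := fun x => Subtype.ext (by simp [mul_assoc])
      map_mul' := fun x y => Subtype.ext (by simp [mul_assoc]) }
  have hpow : ∀ n : ℕ, ∀ x : D, ((φ ^ n) x : G) = k ^ n * x * (k ^ n)⁻¹ := by
    intro n
    induction n with
    | zero => intro x; simp
    | succ n ih =>
      intro x
      rw [pow_succ', MulAut.mul_apply]
      show k * ((φ ^ n) x : G) * k⁻¹ = _
      rw [ih, pow_succ']
      group
  have hnil : Group.IsNilpotent D := FrobeniusNilpotent.isNilpotent_of_fpf φ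
    (fun x hx => Subtype.ext (hfpf x x.2 (mul_inv_eq_iff_eq_mul.1 (congrArg Subtype.val hx))))
    r h.prime (MulEquiv.ext fun x => Subtype.ext (by
      rw [hpow, ← hko, pow_orderOf_eq_one, one_mul, inv_one, mul_one]; rfl))
  obtain ⟨E⟩ := ((Group.isNilpotent_of_finite_tfae (G := D)).out 0 4).1 hnil
  intro x hx y hy
  have key : ∀ u v : (∀ p : (Nat.card D).primeFactors, ∀ S : Sylow p D, (↑S : Subgroup D)), u * v = v * u := by
    intro u v
    funext p S
    refine Subtype.ext (Subtype.ext ?_)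
    exact h.abSyl p (Nat.prime_of_mem_primeFactors p.2) ((S : Subgroup D).map D.subtype)
      (Subgroup.map_subtype_le _) (S.2.map _) _ (Subgroup.mem_map_of_mem _ (u p S).2) _
      (Subgroup.mem_map_of_mem _ (v p S).2)
  have := key (E.symm ⟨x, hx⟩) (E.symm ⟨y, hy⟩)
  rw [← map_mul, ← map_mul] at this
  exact congrArg Subtype.val (E.symm.injective this)

theorem bot_of_faithful (hF : Faithful P) (hI : Below P D) : D = ⊥ := by
  by_cases hc : ∃ c : G ⧸ NN P, c ≠ o ∧ ∃ d ∈ D, d ≠ 1 ∧ d • c = c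
  · obtain ⟨b, hb, d, hd, hd1, hdb⟩ := hc
    exact h.bot_of_comm hF (h.comm_of_fixed hF hI hd hd1 hb hdb)
  · push Not at hc
    refine h.bot_of_comm hF (h.comm_of_semiregular fun c hc' d hd hdc => ?_)
    by_contra hd1
    exact hc c hc' d hd hd1 hdc

end Hyp

theorem normal_aux (n : ℕ) : ∀ (G : Type u) [Group G] [Finite G], Nat.card G = n →
    ∀ (P D : Subgroup G) (r : ℕ), Hyp P D r → D.Normal := by
  induction n using Nat.strong_induction_on with
  | _ n ih =>
    intro G _ _ hn P D r h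
    have hI : Below P D := by
      intro L hL hPL hx
      refine ih (Nat.card L) ?_ L rfl _ _ r (h.sub hPL hx)
      rw [← hn]
      refine lt_of_le_of_ne (Nat.le_of_dvd Nat.card_pos (Subgroup.card_subgroup_dvd_card L)) ?_
      exact fun e => hL (Subgroup.eq_top_of_card_eq L e)
    by_cases hF : Faithful P
    · rw [h.bot_of_faithful hF hI]; infer_instance
    simp only [Faithful, not_forall] at hF
    obtain ⟨N, hN, hle, hne⟩ := hF
    have hND := h.normal_le_D hN hle
    have hlt : Nat.card (G ⧸ N) < n := by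
      have h1 := N.card_mul_index
      have h2 : 1 < Nat.card N := N.one_lt_card_iff_ne_bot.2 hne
      rw [← hn, ← h1]
      show N.index < _
      exact lt_mul_of_one_lt_left (Nat.pos_of_ne_zero Subgroup.index_ne_zero_of_finite) h2
    have := ih (Nat.card (G ⧸ N)) hlt (G ⧸ N) rfl _ _ r (h.quot hND)
    have e : D = (D.map (QuotientGroup.mk' N)).comap (QuotientGroup.mk' N) :=
      (Subgroup.comap_map_eq_self (by rw [QuotientGroup.ker_mk']; exact hND)).symm
    rw [e]
    exact Subgroup.Normal.comap this _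

/-- Under `Hyp` the subgroup `D` is normal. -/
theorem Hyp.normal {G : Type u} [Group G] [Finite G] {P D : Subgroup G} {r : ℕ} (h : Hyp P D r) :
    D.Normal :=
  normal_aux (Nat.card G) G rfl P D r h

end Cfsg.Agent.EqOrderConj59
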