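import Mathlib
import Cfsg.Agent.Lib.ChevAutGalois
import Cfsg.Agent.Lib.HallTheorem
import Cfsg.Agent.S3360

/-!
Solvable linear groups of order prime to `p` which are transitive on the subspaces of each
dimension of a space of dimension at least three: they are semilinear of dimension three, or
of dimension five over the field with two elements.
-/

set_option autoImplicit false
set_option maxHeartbeats 400000
set_option linter.unusedSectionVars false

namespace Cfsg.Agent.TransitiveSubspaces87

universe u v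

section Semilinear

variable {V : Type u} [AddCommGroup V] {F : Type*} [Field F] {G : Type v} [Group G]
  [DistribMulAction G V]

/-- `g` is semilinear with respect to the identification `e`. -/
def Semilinear (e : V ≃+ F) : Prop :=
  ∀ g : G, ∃ (a : F) (σ : F ≃+* F), ∀ v : V, e (g • v) = a * σ (e v)

theorem coeff_eq (e : V ≃+ F) {g : G} {a : F} {σ : F ≃+* F}
    (h : ∀ v : V, e (g • v) = a * σ (e v)) : a = e (g • e.symm 1) := by
  rw [h, AddEquiv.apply_symm_apply, map_one, mul_one]

theorem coeff_ne_zero (e : V ≃+ F) {g : G} {a : F} {σ : F ≃+* F}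
    (h : ∀ v : V, e (g • v) = a * σ (e v)) : a ≠ 0 := by
  intro ha
  have h1 := h (g⁻¹ • e.symm 1)
  rw [smul_inv_smul, AddEquiv.apply_symm_apply, ha, zero_mul] at h1
  exact one_ne_zero h1

theorem auto_unique (e : V ≃+ F) {g : G} {a b : F} {σ τ : F ≃+* F}
    (h : ∀ v : V, e (g • v) = a * σ (e v)) (h' : ∀ v : V, e (g • v) = b * τ (e v)) :
    a = b ∧ σ = τ := by
  have hab : a = b := (coeff_eq e h).trans (coeff_eq e h').symm
  refine ⟨hab, RingEquiv.ext fun x => ?_⟩
  have h1 := h (e.symm x)
  rw [h', AddEquiv.apply_symm_apply, ← hab] at h1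
  exact (mul_left_cancel₀ (coeff_ne_zero e h) h1).symm

/-- The field automorphism of a semilinear map. -/
noncomputable def auto (e : V ≃+ F) (hs : Semilinear (G := G) e) : G →* (F ≃+* F) where
  toFun g := (hs g).choose_spec.choose
  map_one' := by
    have h : ∀ v : V, e ((1 : G) • v) = (1 : F) * (1 : F ≃+* F) (e v) := fun v => by simp
    exact (auto_unique e (hs 1).choose_spec.choose_spec h).2
  map_mul' g k := by
    have hg := (hs g).choose_spec.choose_spec
    have hk := (hs k).choose_spec.choose_spec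
    have h : ∀ v : V, e ((g * k) • v) = ((hs g).choose * (hs g).choose_spec.choose (hs k).choose) *
        ((hs g).choose_spec.choose * (hs k).choose_spec.choose) (e v) := fun v => by
      rw [mul_smul, hg, hk, map_mul, mul_assoc]; rfl
    exact (auto_unique e (hs (g * k)).choose_spec.choose_spec h).2

theorem auto_spec (e : V ≃+ F) (hs : Semilinear (G := G) e) (g : G) :
    ∀ v : V, e (g • v) = e (g • e.symm 1) * auto e hs g (e v) := fun v => by
  rw [← coeff_eq e (hs g).choose_spec.choose_spec]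
  exact (hs g).choose_spec.choose_spec v

theorem card_ker_dvd [Finite F] [Finite G] [FaithfulSMul G V] (e : V ≃+ F)
    (hs : Semilinear (G := G) e) : Nat.card (auto e hs).ker ∣ Nat.card Fˣ := by
  have hne : ∀ g : G, e (g • e.symm 1) ≠ 0 := fun g => coeff_ne_zero e (auto_spec e hs g)
  have hk : ∀ g ∈ (auto e hs).ker, ∀ v : V, e (g • v) = e (g • e.symm 1) * e v := fun g hg v => by
    rw [auto_spec e hs g v, MonoidHom.mem_ker.1 hg]; rfl
  let f : ↥(auto e hs).ker →* Fˣ :=
    { toFun := fun g => Units.mk0 (e ((g : G) • e.symm 1)) (hne g)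
      map_one' := by ext; simp
      map_mul' := fun g k => by
        ext
        simp only [Units.val_mk0, Units.val_mul, Subgroup.coe_mul]
        rw [mul_smul, hk g g.2] }
  refine Subgroup.card_dvd_of_injective f fun g k hgk => ?_
  have h1 : e ((g : G) • e.symm 1) = e ((k : G) • e.symm 1) := congrArg Units.val hgk
  refine Subtype.ext (eq_of_smul_eq_smul fun v : V => e.injective ?_)
  rw [hk g g.2, hk k k.2, h1]

theorem card_dvd [Fintype F] [Finite G] [FaithfulSMul G V] (e : V ≃+ F)
    (hs : Semilinear (G := G) e) {p n : ℕ} [Fact p.Prime] [CharP F p]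
    (hF : Fintype.card F = p ^ n) : Nat.card G ∣ (p ^ n - 1) * n := by
  classical
  rw [← Subgroup.card_mul_index (auto e hs).ker, Subgroup.index_ker]
  refine Nat.mul_dvd_mul ?_ ?_
  · refine (card_ker_dvd e hs).trans ?_
    rw [Nat.card_eq_fintype_card, Fintype.card_units, hF]
  · rw [← ChevAutGalois.card_ringAut (F := F) p n hF]
    exact Subgroup.card_subgroup_dvd_card _

theorem auto_eq_one [Fintype F] (e : V ≃+ F) (hs : Semilinear (G := G) e)
    {p n : ℕ} [Fact p.Prime] [CharP F p] (hF : Fintype.card F = p ^ n) {g : G}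
    (hg : (orderOf g).Coprime n) : auto e hs g = 1 := by
  have h1 : orderOf (auto e hs g) ∣ orderOf g := orderOf_map_dvd _ g
  have h2 : orderOf (auto e hs g) ∣ n := by
    rw [← ChevAutGalois.card_ringAut (F := F) p n hF]
    exact orderOf_dvd_natCard _
  exact orderOf_eq_one_iff.1 (Nat.eq_one_of_dvd_coprimes hg h1 h2)

end Semilinear

section Planes

variable {p : ℕ} [Fact p.Prime] {V : Type u} [AddCommGroup V] [Module (ZMod p) V] [Finite V]

/-- the subspaces of order `p ^ 2` -/
def Planes (p : ℕ) (V : Type u) [AddCommGroup V] [Module (ZMod p) V] : Type u :=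
  {U : Submodule (ZMod p) V // Nat.card U = p ^ 2}

theorem card_span_pair {x y : V} (hx : x ≠ 0) (hy : ∀ c : ZMod p, y ≠ c • x) :
    Nat.card (Submodule.span (ZMod p) ({x, y} : Set V)) = p ^ 2 := by
  haveI : Fintype V := Fintype.ofFinite V
  have hli : LinearIndependent (ZMod p) ![x, y] := by
    rw [LinearIndependent.pair_iff' hx]
    exact fun a h => hy a h.symm
  have hr : Set.range ![x, y] = {x, y} := Matrix.range_cons_cons_empty x y ![]
  have h := finrank_span_eq_card hli
  rw [hr, Fintype.card_fin] at h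
  rw [Module.natCard_eq_pow_finrank (K := ZMod p) (V := Submodule.span (ZMod p) ({x, y} : Set V)),
    h, Nat.card_zmod]

theorem card_indep (m : ℕ) (U : Submodule (ZMod p) V) (hU : Nat.card U = p ^ m) :
    Nat.card {t : V × V // t.1 ∈ U ∧ t.2 ∈ U ∧ t.1 ≠ 0 ∧ ∀ c : ZMod p, t.2 ≠ c • t.1} =
      (p ^ m - 1) * (p ^ m - p) := by
  classical
  haveI : Fintype V := Fintype.ofFinite V
  let e : {t : V × V // t.1 ∈ U ∧ t.2 ∈ U ∧ t.1 ≠ 0 ∧ ∀ c : ZMod p, t.2 ≠ c • t.1} ≃
      Σ x : {x : U // x ≠ 0}, {y : U // y ∉ Set.range fun c : ZMod p => c • x.1} :=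
    { toFun := fun t => ⟨⟨⟨t.1.1, t.2.1⟩, fun h => t.2.2.2.1 (congrArg Subtype.val h)⟩,
        ⟨⟨t.1.2, t.2.2.1⟩, fun ⟨c, hc⟩ => t.2.2.2.2 c (congrArg Subtype.val hc).symm⟩⟩
      invFun := fun s => ⟨(s.1.1.1, s.2.1.1), s.1.1.2, s.2.1.2,
        fun h => s.1.2 (Subtype.ext h), fun c hc => s.2.2 ⟨c, Subtype.ext hc.symm⟩⟩
      left_inv := fun t => rfl
      right_inv := fun s => rfl }
  rw [Nat.card_congr e, Nat.card_sigma]
  have hy : ∀ x : {x : U // x ≠ 0},
      Nat.card {y : U // y ∉ Set.range fun c : ZMod p => c • x.1} = p ^ m - p := by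
    intro x
    have h := Set.ncard_compl (Set.range fun c : ZMod p => c • x.1)
    rw [Set.ncard_range_of_injective (smul_left_injective (ZMod p) x.2), Nat.card_zmod, hU] at h
    rw [← h]; rfl
  have hx : Fintype.card {x : U // x ≠ 0} = p ^ m - 1 := by
    rw [Fintype.card_subtype_compl, Fintype.card_subtype_eq, ← Nat.card_eq_fintype_card, hU]
  rw [Finset.sum_congr rfl fun x _ => hy x, Finset.sum_const, Finset.card_univ, hx, smul_eq_mul]

theorem card_planes (n : ℕ) (hV : Nat.card V = p ^ n) :
    Nat.card (Planes p V) * ((p ^ 2 - 1) * (p ^ 2 - p)) = (p ^ n - 1) * (p ^ n - p) := by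
  classical
  haveI : Fintype V := Fintype.ofFinite V
  haveI : Finite (Planes p V) :=
    Finite.of_injective (fun U : Planes p V => (U.1 : Set V)) fun U W h =>
      Subtype.ext (SetLike.coe_injective h)
  haveI := Fintype.ofFinite (Planes p V)
  let e : {t : V × V // t.1 ∈ (⊤ : Submodule (ZMod p) V) ∧ t.2 ∈ (⊤ : Submodule (ZMod p) V) ∧
        t.1 ≠ 0 ∧ ∀ c : ZMod p, t.2 ≠ c • t.1} ≃
      Σ U : Planes p V, {t : V × V // t.1 ∈ U.1 ∧ t.2 ∈ U.1 ∧ t.1 ≠ 0 ∧
        ∀ c : ZMod p, t.2 ≠ c • t.1} :=
    { toFun := fun t => ⟨⟨Submodule.span (ZMod p) ({t.1.1, t.1.2} : Set V),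
        card_span_pair t.2.2.2.1 t.2.2.2.2⟩,
        ⟨t.1, Submodule.subset_span (by simp), Submodule.subset_span (by simp), t.2.2.2⟩⟩
      invFun := fun s => ⟨s.2.1, trivial, trivial, s.2.2.2.2⟩
      left_inv := fun t => rfl
      right_inv := by
        rintro ⟨U, t, h1, h2, h3, h4⟩
        have hle : Submodule.span (ZMod p) ({t.1, t.2} : Set V) ≤ U.1 := by
          rw [Submodule.span_le]
          rintro z (rfl | rfl) <;> assumption
        have heq : Submodule.span (ZMod p) ({t.1, t.2} : Set V) = U.1 := by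
          refine SetLike.coe_injective (Set.eq_of_subset_of_ncard_le hle ?_)
          rw [← Nat.card_coe_set_eq, ← Nat.card_coe_set_eq]
          exact (U.2.trans (card_span_pair h3 h4).symm).le
        obtain ⟨U, hU⟩ := U
        simp only at heq
        subst heq
        rfl }
  have htop : Nat.card (⊤ : Submodule (ZMod p) V) = p ^ n := by
    rw [← hV]; exact Nat.card_congr Submodule.topEquiv.toEquiv
  have h := card_indep n ⊤ htop
  rw [Nat.card_congr e, Nat.card_sigma,
    Finset.sum_congr rfl fun U _ => card_indep 2 U.1 U.2, Finset.sum_const, Finset.card_univ,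
    smul_eq_mul, ← Nat.card_eq_fintype_card] at h
  exact h

end Planes

section Exception

/-- No group of order prime to `3` and divisible by `80` and `13` acts faithfully and solvably on
a group of order `81`. -/
theorem no_exception {V : Type u} [AddCommGroup V] [Finite V] (hV : Nat.card V = 81)
    {G : Type v} [Group G] [Finite G] [Group.IsSolvable G] [DistribMulAction G V] [FaithfulSMul G V]
    (h5 : 5 ∣ Nat.card G) (h13 : 13 ∣ Nat.card G) : False := by
  obtain ⟨K, hK⟩ := HallTheorem.exists_isPiHall_of_solvable (G := G) ({5, 13} : Set ℕ)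
  haveI : Fact (Nat.Prime 5) := ⟨by norm_num⟩
  haveI : Fact (Nat.Prime 13) := ⟨by norm_num⟩
  have hdK : ∀ r : ℕ, r.Prime → r ∈ ({5, 13} : Set ℕ) → r ∣ Nat.card G → r ∣ Nat.card K := by
    intro r hr hmem hdvd
    rw [← Subgroup.card_mul_index K] at hdvd
    exact (hr.dvd_mul.1 hdvd).resolve_right (hK.2 r hr hmem)
  let fixG : G → AddSubgroup V := fun g =>
    { carrier := {v | g • v = v}
      add_mem' := fun ha hb => by simp only [Set.mem_setOf_eq] at *; rw [smul_add, ha, hb]
      zero_mem' := smul_zero g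
      neg_mem' := fun ha => by simp only [Set.mem_setOf_eq] at *; rw [smul_neg, ha] }
  have h81 : ∀ W : AddSubgroup V, Nat.card W ∈ ({1, 3, 9, 27, 81} : Set ℕ) := by
    intro W
    have h := W.card_addSubgroup_dvd_card
    rw [hV, show (81 : ℕ) = 3 ^ 4 by norm_num, Nat.dvd_prime_pow Nat.prime_three] at h
    obtain ⟨i, hi, h⟩ := h
    interval_cases i <;> simp [h]
  -- the fixed points of an element of prime order `r`
  have hmod : ∀ (r : ℕ) [Fact r.Prime] (g : G), orderOf g = r →
      Nat.card (fixG g) % r = 81 % r ∧ Nat.card (fixG g) ≠ 81 := by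
    intro r _ g hg
    constructor
    · have hp : IsPGroup r ↥(Subgroup.zpowers g) :=
        IsPGroup.of_card (n := 1) (by rw [Nat.card_zpowers, hg, pow_one])
      have h := hp.card_modEq_card_fixedPoints V
      rw [hV] at h
      have heq : (MulAction.fixedPoints ↥(Subgroup.zpowers g) V) = (fixG g : Set V) := by
        ext v
        refine ⟨fun hv => hv ⟨g, Subgroup.mem_zpowers g⟩, fun hv x => ?_⟩
        obtain ⟨k, hk⟩ := Subgroup.mem_zpowers_iff.1 x.2
        have hfix : g ∈ MulAction.stabilizer G v := hv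
        show (x : G) • v = v
        rw [← hk]
        exact zpow_mem hfix k
      rw [heq] at h
      exact h.symm
    · intro h
      have htop : fixG g = ⊤ := AddSubgroup.eq_top_of_card_eq _ (h.trans hV.symm)
      have : g = 1 := eq_of_smul_eq_smul fun v : V => by
        rw [one_smul]
        exact (htop ▸ AddSubgroup.mem_top v : v ∈ fixG g)
      rw [this, orderOf_one] at hg
      exact (Fact.out : r.Prime).one_lt.ne hg
  have hfix13 : ∀ g : G, orderOf g = 13 → Nat.card (fixG g) = 3 := by
    intro g hg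
    obtain ⟨h1, h2⟩ := hmod 13 g hg
    rcases h81 (fixG g) with h | h | h | h | h <;> rw [h] at h1 h2 <;> first | exact h | omega
  have hfix5 : ∀ g : G, orderOf g = 5 → Nat.card (fixG g) = 1 := by
    intro g hg
    obtain ⟨h1, h2⟩ := hmod 5 g hg
    rcases h81 (fixG g) with h | h | h | h | h <;> rw [h] at h1 h2 <;> first | exact h | omega
  -- an element of prime order `r > 3` preserving a subgroup of order `3` fixes it
  have key : ∀ (y g : G) (r : ℕ), orderOf y = 13 → orderOf g = r → Nat.Coprime r 6 →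
      (∀ v : V, y • v = v → y • (g • v) = g • v) → ∀ v : V, y • v = v → g • v = v := by
    intro y g r hy hg hr hinv v hv
    have hW := hfix13 y hy
    let e : Equiv.Perm {v : V // v ∈ fixG y} :=
      Equiv.ofBijective (fun v => ⟨g • v.1, hinv v.1 v.2⟩)
        (Finite.injective_iff_bijective.1 fun a b h =>
          Subtype.ext (smul_left_cancel g (congrArg Subtype.val h)))
    have he : ∀ (k : ℕ) (v : {v : V // v ∈ fixG y}), ((e ^ k) v).1 = g ^ k • v.1 := by
      intro k
      induction k with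
      | zero => intro v; simp
      | succ k ih =>
          intro v
          rw [pow_succ', Equiv.Perm.mul_apply, pow_succ', mul_smul, ← ih]
          rfl
    have her : e ^ r = 1 := Equiv.ext fun v => Subtype.ext (by
      rw [he, ← hg, pow_orderOf_eq_one, one_smul]; rfl)
    have he1 : e = 1 := by
      have h1 : orderOf e ∣ r := orderOf_dvd_of_pow_eq_one her
      have h2 : orderOf e ∣ 6 := by
        have h := orderOf_dvd_natCard e
        rw [Nat.card_perm, show Nat.card {v : V // v ∈ fixG y} = 3 from hW] at h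
        exact h
      exact orderOf_eq_one_iff.1 (Nat.eq_one_of_dvd_coprimes hr h1 h2)
    exact congrArg Subtype.val (Equiv.ext_iff.1 he1 ⟨v, hv⟩)
  -- the Sylow `13`-subgroup of `K` is normal
  obtain ⟨S⟩ := (inferInstance : Nonempty (Sylow 13 ↥K))
  obtain ⟨z, hz⟩ := exists_prime_orderOf_dvd_card' (G := ↥K) 5 (hdK 5 (by norm_num) (by simp) h5)
  -- elements of the Sylow `5`-subgroup act without fixed points
  have h5free : ∀ (R : Subgroup G), IsPGroup 5 R → Nat.card R ∣ 80 := by
    intro R hR
    have hne : ∀ g ∈ R, g ≠ 1 → ∀ v : V, g • v = v → v = 0 := by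
      intro g hg hg1 v hv
      obtain ⟨i, hi⟩ := hR.exists_pow_pow_eq_one ⟨g, hg⟩ |>.imp fun i hi => congrArg Subtype.val hi
      simp only [Subgroup.coe_pow, Subgroup.coe_one] at hi
      obtain ⟨j, hj, hord⟩ := (Nat.dvd_prime_pow (by norm_num : Nat.Prime 5)).1
        (orderOf_dvd_of_pow_eq_one hi)
      have hj1 : 1 ≤ j := by
        by_contra hj0
        push Not at hj0
        interval_cases j
        exact hg1 (orderOf_eq_one_iff.1 hord)
      have ho : orderOf (g ^ 5 ^ (j - 1)) = 5 := by
        rw [orderOf_pow, hord, Nat.gcd_eq_right (pow_dvd_pow 5 (Nat.sub_le j 1)),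
          Nat.pow_div (Nat.sub_le j 1) (by norm_num)]
        rw [show j - (j - 1) = 1 by omega, pow_one]
      have hmem : v ∈ fixG (g ^ 5 ^ (j - 1)) := by
        have hg' : g ∈ MulAction.stabilizer G v := hv
        exact pow_mem hg' _
      exact (AddSubgroup.eq_bot_iff_forall _).1 (AddSubgroup.card_eq_one.1 (hfix5 _ ho)) v hmem
    haveI : Fintype V := Fintype.ofFinite V
    classical
    let X := {v : V // v ≠ 0}
    letI : MulAction ↥R X :=
      { smul := fun g v => ⟨(g : G) • v.1, fun h => v.2 (by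
          have := congrArg ((g : G)⁻¹ • ·) h
          simpa using this)⟩
        one_smul := fun v => Subtype.ext (one_smul G v.1)
        mul_smul := fun g k v => Subtype.ext (mul_smul (g : G) (k : G) v.1) }
    have hstab : ∀ x : X, MulAction.stabilizer ↥R x = ⊥ := fun x => by
      rw [Subgroup.eq_bot_iff_forall]
      intro g hg
      by_contra hg1
      exact x.2 (hne g g.2 (fun h => hg1 (Subtype.ext h)) x.1 (congrArg Subtype.val hg))
    have hX : Nat.card X = 80 := by
      rw [Nat.card_eq_fintype_card, Fintype.card_subtype_compl, Fintype.card_subtype_eq,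
        ← Nat.card_eq_fintype_card, hV]
    have hc := MulAction.selfEquivSigmaOrbitsQuotientStabilizer ↥R X
    rw [← hX, Nat.card_congr hc, Nat.card_sigma]
    refine Finset.dvd_sum fun ω _ => ?_
    rw [hstab, ← Subgroup.index, Subgroup.index_bot]
  have hKcard : ∀ r : ℕ, r.Prime → r ∣ Nat.card K → r = 5 ∨ r = 13 := fun r hr h => by
    simpa using hK.1 r hr h
  obtain ⟨R⟩ := (inferInstance : Nonempty (Sylow 5 ↥K))
  have hR80 : Nat.card R ∣ 80 := by
    rw [← Subgroup.card_map_of_injective (K.subtype_injective)]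
    exact h5free _ (R.2.map _)
  have hR5 : Nat.card R = 5 := by
    obtain ⟨i, hi⟩ := IsPGroup.iff_card.1 R.2
    have hi1 : 1 ≤ i := by
      have hd := R.dvd_card_of_dvd_card (hdK 5 (by norm_num) (by simp) h5)
      rw [hi] at hd
      by_contra h0
      push Not at h0
      interval_cases i
      norm_num at hd
    rw [hi] at hR80
    have hi2 : i < 2 := by
      by_contra h2
      push Not at h2
      exact absurd ((pow_dvd_pow 5 h2).trans hR80) (by norm_num)
    interval_cases i
    rw [hi]; norm_num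
  have hidx : (S : Subgroup ↥K).index = 5 := by
    have hndvd := S.not_dvd_index
    have hd5 : (S : Subgroup ↥K).index ∣ Nat.card K := Subgroup.index_dvd_card _
    have h13' : ∀ r : ℕ, r.Prime → r ∣ (S : Subgroup ↥K).index → r = 5 := fun r hr h => by
      rcases hKcard r hr (h.trans hd5) with rfl | rfl
      · rfl
      · exact absurd h hndvd
    have hne : (S : Subgroup ↥K).index ≠ 0 := Subgroup.index_ne_zero_of_finite
    obtain ⟨i, hi⟩ : ∃ i, (S : Subgroup ↥K).index = 5 ^ i := ⟨_, Nat.eq_prime_pow_of_unique_prime_dvd hne fun {d} hd h => h13' d hd h⟩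
    have hfac : 5 ^ i ∣ Nat.card R := by
      rw [Sylow.card_eq_multiplicity]
      refine pow_dvd_pow 5 ((Nat.Prime.pow_dvd_iff_le_factorization (by norm_num) Nat.card_pos.ne').1 ?_)
      exact hi ▸ hd5
    rw [hR5] at hfac
    have hi2 : i ≤ 1 := by
      by_contra h2
      push Not at h2
      exact absurd ((pow_dvd_pow 5 (Nat.succ_le_of_lt h2)).trans hfac) (by norm_num)
    have hz' : 5 ∣ (S : Subgroup ↥K).index := by
      have h := hdK 5 (by norm_num) (by simp) h5
      rw [← Subgroup.card_mul_index (S : Subgroup ↥K)] at h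
      refine ((Nat.Prime.dvd_mul (by norm_num)).1 h).resolve_left fun hS => ?_
      obtain ⟨j, hj⟩ := IsPGroup.iff_card.1 S.2
      rw [hj] at hS
      exact absurd ((Nat.prime_dvd_prime_iff_eq (by norm_num) (by norm_num)).1
        ((by norm_num : Nat.Prime 5).dvd_of_dvd_pow hS)) (by norm_num)
    interval_cases i
    · rw [hi] at hz'; norm_num at hz'
    · rw [hi]; norm_num
  have hnorm : (S : Subgroup ↥K).Normal := by
    have h1 : Nat.card (Sylow 13 ↥K) ∣ 5 := hidx ▸ S.card_dvd_index
    have h2 := card_sylow_modEq_one 13 ↥K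
    rcases (Nat.dvd_prime (by norm_num)).1 h1 with h | h
    · haveI : Subsingleton (Sylow 13 ↥K) := (Nat.card_eq_one_iff_unique.1 h).1
      exact S.normal_of_subsingleton
    · rw [h] at h2; exact absurd h2 (by decide)
  -- a central element of order `13` of `S`
  have hS1 : (S : Subgroup ↥K) ≠ ⊥ := by
    intro h
    have hd := S.dvd_card_of_dvd_card (hdK 13 (by norm_num) (by simp) h13)
    rw [h, Subgroup.card_bot] at hd
    norm_num at hd
  haveI : Nontrivial ↥(S : Subgroup ↥K) := (Subgroup.nontrivial_iff_ne_bot _).2 hS1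
  haveI := S.2.center_nontrivial
  obtain ⟨⟨c, hc⟩, hc1⟩ := exists_ne (1 : Subgroup.center ↥(S : Subgroup ↥K))
  obtain ⟨i, hi⟩ := (S.2.exists_pow_pow_eq_one c)
  obtain ⟨j, -, hord⟩ := (Nat.dvd_prime_pow (by norm_num : Nat.Prime 13)).1
    (orderOf_dvd_of_pow_eq_one hi)
  have hj1 : 1 ≤ j := by
    by_contra hj0
    push Not at hj0
    interval_cases j
    exact hc1 (Subtype.ext (orderOf_eq_one_iff.1 hord))
  let y : ↥(S : Subgroup ↥K) := c ^ 13 ^ (j - 1)
  have hyo : orderOf y = 13 := by
    rw [orderOf_pow, hord, Nat.gcd_eq_right (pow_dvd_pow 13 (Nat.sub_le j 1)),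
      Nat.pow_div (Nat.sub_le j 1) (by norm_num)]
    rw [show j - (j - 1) = 1 by omega, pow_one]
  have hyc : ∀ x : ↥(S : Subgroup ↥K), x * y = y * x :=
    Subgroup.mem_center_iff.1 (pow_mem hc _)
  have hyG : orderOf ((y : ↥K) : G) = 13 := by rw [Subgroup.orderOf_coe, Subgroup.orderOf_coe, hyo]
  have hzG : orderOf ((z : G)⁻¹) = 5 := by rw [orderOf_inv, Subgroup.orderOf_coe, hz]
  let y' : ↥(S : Subgroup ↥K) := ⟨z * y * z⁻¹, hnorm.conj_mem _ y.2 z⟩
  have hy'G : orderOf ((y' : ↥K) : G) = 13 := by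
    have : ((y' : ↥K) : G) = MulAut.conj (z : G) ((y : ↥K) : G) := rfl
    rw [this, MulEquiv.orderOf_eq, hyG]
  have hcomm : ((y : ↥K) : G) * ((y' : ↥K) : G) = ((y' : ↥K) : G) * ((y : ↥K) : G) :=
    (congrArg (fun x : ↥(S : Subgroup ↥K) => ((x : ↥K) : G)) (hyc y')).symm
  have hW := hfix13 _ hyG
  obtain ⟨w, hw, hw0⟩ : ∃ w ∈ fixG ((y : ↥K) : G), w ≠ 0 := by
    by_contra hcon
    push Not at hcon
    have : fixG ((y : ↥K) : G) = ⊥ := (AddSubgroup.eq_bot_iff_forall _).2 hcon
    rw [this, AddSubgroup.card_bot] at hW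
    omega
  have hzinv : ∀ v : V, ((y : ↥K) : G) • v = v →
      ((y : ↥K) : G) • ((z : G)⁻¹ • v) = (z : G)⁻¹ • v := by
    intro v hv
    have h := key _ _ 13 hyG hy'G (by norm_num) (fun u hu => by
      rw [← mul_smul, hcomm, mul_smul, hu]) v hv
    have e1 : ((y' : ↥K) : G) = (z : G) * ((y : ↥K) : G) * (z : G)⁻¹ := rfl
    rw [e1, mul_smul, mul_smul] at h
    exact eq_inv_smul_iff.2 h
  have hwz : w ∈ fixG ((z : G)⁻¹) := key _ _ 5 hyG hzG (by norm_num) hzinv w hw
  exact hw0 ((AddSubgroup.eq_bot_iff_forall _).1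
    (AddSubgroup.card_eq_one.1 (hfix5 _ hzG)) w hwz)

end Exception

section Core

variable {p : ℕ} [Fact p.Prime] {V : Type u} [AddCommGroup V] [Module (ZMod p) V] [Finite V]

/-- Linear automorphisms permute the planes. -/
instance (H : Subgroup (V ≃ₗ[ZMod p] V)) : MulAction ↥H (Planes p V) where
  smul g U := ⟨U.1.map (g : V ≃ₗ[ZMod p] V).toLinearMap, by
    exact (Nat.card_congr ((g : V ≃ₗ[ZMod p] V).submoduleMap U.1).toEquiv).symm.trans U.2⟩
  one_smul U := Subtype.ext (by
    show U.1.map ((1 : V ≃ₗ[ZMod p] V)).toLinearMap = U.1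
    exact Submodule.map_id U.1)
  mul_smul g k U := Subtype.ext (by
    show U.1.map ((g : V ≃ₗ[ZMod p] V) * (k : V ≃ₗ[ZMod p] V)).toLinearMap = _
    exact Submodule.map_comp (k : V ≃ₗ[ZMod p] V).toLinearMap (g : V ≃ₗ[ZMod p] V).toLinearMap U.1)

theorem planes_card_mul_dvd (H : Subgroup (V ≃ₗ[ZMod p] V)) (n : ℕ) (hn : 2 ≤ n)
    (hV : Nat.card V = p ^ n)
    (htr : ∀ U U' : Planes p V, ∃ a : ↥H, a • U = U') (m : ℕ)
    (hm : ∀ U : Planes p V, m ∣ Nat.card (MulAction.stabilizer ↥H U)) :
    Nat.card (Planes p V) * m ∣ Nat.card H := by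
  haveI : Finite (Planes p V) :=
    Finite.of_injective (fun U : Planes p V => (U.1 : Set V)) fun U W h =>
      Subtype.ext (SetLike.coe_injective h)
  have hpos : 0 < Nat.card (Planes p V) := by
    refine Nat.pos_of_ne_zero fun h => ?_
    have h1 := card_planes (p := p) n hV
    rw [h, zero_mul] at h1
    have hp2 := (Fact.out : p.Prime).two_le
    have h2 : p ^ 2 ≤ p ^ n := Nat.pow_le_pow_right (by omega) hn
    have h3 : p < p ^ 2 := by nlinarith
    rcases mul_eq_zero.1 h1.symm with h4 | h4 <;> omega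
  haveI := (Nat.card_pos_iff.1 hpos).1
  obtain ⟨U⟩ := (inferInstance : Nonempty (Planes p V))
  haveI : MulAction.IsPretransitive ↥H (Planes p V) := ⟨htr⟩
  have horb : Nat.card (MulAction.orbit ↥H U) = Nat.card (Planes p V) := by
    rw [MulAction.orbit_eq_univ, Nat.card_congr (Equiv.Set.univ _)]
  rw [← Subgroup.card_mul_index (MulAction.stabilizer ↥H U), MulAction.index_stabilizer,
    ← Nat.card_coe_set_eq, horb, mul_comm (Nat.card (MulAction.stabilizer ↥H U))]
  exact Nat.mul_dvd_mul_left _ (hm U)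

theorem eq_of_pow_eq {a b r k : ℕ} (ha : a.Prime) (hr : r.Prime) (hb : b ≠ 0) (h : a ^ b = r ^ k) :
    a = r ∧ b = k := by
  have h1 : a = r := (Nat.prime_dvd_prime_iff_eq ha hr).1
    (ha.dvd_of_dvd_pow (h ▸ dvd_pow_self a hb))
  exact ⟨h1, Nat.pow_right_injective hr.two_le (h1 ▸ h)⟩

theorem small_cases {p n : ℕ} (hp : 2 ≤ p) (hn : 4 ≤ n)
    (h : p ^ (n - 1) ≤ n * (p * p - 1) + 1) : (n = 4 ∧ (p = 2 ∨ p = 3)) ∨ (n = 5 ∧ p = 2) := by
  obtain ⟨k, rfl⟩ : ∃ k, n = k + 3 := ⟨n - 3, by omega⟩
  rw [show k + 3 - 1 = k + 2 by omega, pow_add, pow_two] at h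
  have hk : p ^ k ≤ k + 3 := by
    by_contra hc
    push Not at hc
    have h1 : (k + 4) * (p * p) ≤ p ^ k * (p * p) := Nat.mul_le_mul_right _ hc
    have h2 : (k + 3) * (p * p - 1) + 1 < (k + 4) * (p * p) := by
      have : (k + 3) * (p * p - 1) ≤ (k + 3) * (p * p) := Nat.mul_le_mul_left _ (Nat.sub_le _ _)
      nlinarith
    omega
  have h2k : 2 ^ k ≤ p ^ k := Nat.pow_le_pow_left hp k
  have hk2 : k ≤ 2 := by
    by_contra hc
    push Not at hc
    have : ∀ j, 3 ≤ j → j + 3 < 2 ^ j := by
      intro j hj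
      induction j, hj using Nat.le_induction with
      | base => norm_num
      | succ j hj ih => rw [pow_succ]; omega
    have := this k hc
    omega
  interval_cases k
  · omega
  · left
    simp only [pow_one] at hk h
    refine ⟨by norm_num, ?_⟩
    have hp4 : p ≤ 4 := by omega
    interval_cases p <;> first | exact Or.inl rfl | exact Or.inr rfl | (norm_num at h)
  · right
    refine ⟨by norm_num, ?_⟩
    by_contra hne
    have h3 : 3 * 3 ≤ p * p := Nat.mul_le_mul (by omega) (by omega)
    rw [pow_two] at hk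
    omega

/-- **Solvable groups of order prime to `p` transitive on subspaces.** -/
theorem core (n : ℕ) (hn : 3 ≤ n) (hV : Nat.card V = p ^ n) (A : Subgroup (V ≃ₗ[ZMod p] V))
    [Group.IsSolvable ↥A]
    (htr : ∀ U U' : Submodule (ZMod p) V, Nat.card U = Nat.card U' →
      ∃ a ∈ A, U.map (a : V ≃ₗ[ZMod p] V).toLinearMap = U') :
    ∃ e : V ≃+ GaloisField p n, Semilinear (G := ↥A) e ∧ (n = 3 ∨ (n = 5 ∧ p = 2)) ∧
      (p = 2 → n = 3 → Nat.card A = 7 ∨ Nat.card A = 21) ∧ (n = 5 → Nat.card A = 155) := by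
  have hp2 := (Fact.out : p.Prime).two_le
  haveI : Nontrivial V := Finite.one_lt_card_iff_nontrivial.1 (by
    rw [hV]; exact Nat.one_lt_pow (by omega) (by omega))
  haveI : Finite (V ≃ₗ[ZMod p] V) := Finite.of_injective (fun f => (f : V → V)) DFunLike.coe_injective
  let ψ : ↥A × (ZMod p)ˣ →* (V ≃ₗ[ZMod p] V) :=
    { toFun := fun x => (x.1 : V ≃ₗ[ZMod p] V) * LinearEquiv.smulOfUnit x.2
      map_one' := by ext v; simp [LinearEquiv.smulOfUnit]
      map_mul' := fun x y => by
        ext v
        simp [LinearEquiv.smulOfUnit, mul_smul, Units.smul_def]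
        exact smul_comm _ _ _ }
  haveI : Group.IsSolvable ψ.range :=
    Group.isSolvable_of_surjective (MonoidHom.rangeRestrict_surjective ψ)
  have hAle : A ≤ ψ.range := fun a ha => ⟨(⟨a, ha⟩, 1), by
    ext v; simp [ψ, LinearEquiv.smulOfUnit]⟩
  have htrG : ∀ v w : V, v ≠ 0 → w ≠ 0 → ∃ g : ↥ψ.range, ψ.range.subtype g v = w := by
    intro v w hv hw
    have hc : ∀ x : V, x ≠ 0 → Nat.card (Submodule.span (ZMod p) {x}) = p := fun x hx => by
      rw [Module.natCard_eq_pow_finrank (K := ZMod p), finrank_span_singleton hx, Nat.card_zmod,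
        pow_one]
    obtain ⟨a, ha, hmap⟩ := htr (Submodule.span (ZMod p) {v}) (Submodule.span (ZMod p) {w})
      ((hc v hv).trans (hc w hw).symm)
    have hmem : a v ∈ Submodule.span (ZMod p) {w} :=
      hmap ▸ Submodule.mem_map_of_mem (Submodule.mem_span_singleton_self v)
    obtain ⟨c, hcv⟩ := Submodule.mem_span_singleton.1 hmem
    have hc0 : c ≠ 0 := by
      rintro rfl
      rw [zero_smul] at hcv
      exact hv (a.map_eq_zero_iff.1 hcv.symm)
    refine ⟨⟨ψ (⟨a, ha⟩, (Units.mk0 c hc0)⁻¹), _, rfl⟩, ?_⟩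
    show a ((Units.mk0 c hc0)⁻¹ • v) = w
    rw [Units.smul_def, map_smul, ← hcv, ← mul_smul,
      show (((Units.mk0 c hc0)⁻¹ : (ZMod p)ˣ) : ZMod p) * c = 1 from
        Units.inv_mul (Units.mk0 c hc0), one_smul]
  have htrP : ∀ (H : Subgroup (V ≃ₗ[ZMod p] V)), A ≤ H → ∀ U U' : Planes p V,
      ∃ a : ↥H, a • U = U' := fun H hH U U' => by
    obtain ⟨a, ha, hmap⟩ := htr U.1 U'.1 (U.2.trans U'.2.symm)
    exact ⟨⟨a, hH ha⟩, Subtype.ext hmap⟩
  have hdvdA : Nat.card (Planes p V) ∣ Nat.card A :=
    (mul_one (Nat.card (Planes p V))) ▸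
      planes_card_mul_dvd A n (by omega) hV (htrP A le_rfl) 1 fun U => one_dvd _
  have hN := card_planes (p := p) n hV
  rcases S3360.result p (G := ↥ψ.range) inferInstance ψ.range.subtype
      (Subgroup.subtype_injective _) htrG with ⟨F, _, _, e, he⟩ | hexc
  swap
  · -- the exceptional degree `3 ^ 4`
    exfalso
    have hp := (Fact.out : p.Prime)
    rw [hV] at hexc
    simp only [Set.mem_insert_iff, Set.mem_singleton_iff] at hexc
    have hpn : p = 3 ∧ n = 4 := by
      rcases hexc with h | h | h | h | h | h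
      · have := eq_of_pow_eq (r := 3) (k := 2) hp Nat.prime_three (by omega) h; omega
      · have := eq_of_pow_eq (r := 5) (k := 2) hp Nat.prime_five (by omega) h; omega
      · have := eq_of_pow_eq (r := 7) (k := 2) hp (by norm_num) (by omega) h; omega
      · have := eq_of_pow_eq (r := 11) (k := 2) hp (by norm_num) (by omega) h; omega
      · have := eq_of_pow_eq (r := 23) (k := 2) hp (by norm_num) (by omega) h; omega
      · exact eq_of_pow_eq (r := 3) (k := 4) hp Nat.prime_three (by omega) h
    obtain ⟨rfl, rfl⟩ := hpn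
    norm_num at hN
    have h130 : Nat.card (Planes 3 V) = 130 := by omega
    rw [h130] at hdvdA
    exact no_exception (G := ↥A) (V := V) (hV.trans (by norm_num))
      (dvd_trans (by norm_num) hdvdA) (dvd_trans (by norm_num) hdvdA)
  -- the semilinear case
  have hFcard : Fintype.card F = p ^ n := by
    rw [← Nat.card_eq_fintype_card, ← Nat.card_congr e.toEquiv, hV]
  haveI : Fintype (GaloisField p n) := Fintype.ofFinite _
  have hGF : Fintype.card (GaloisField p n) = p ^ n := by
    rw [← Nat.card_eq_fintype_card, GaloisField.card p n (by omega)]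
  let r : F ≃+* GaloisField p n := FiniteField.ringEquivOfCardEq (hFcard.trans hGF.symm)
  let e' : V ≃+ GaloisField p n := e.trans r.toAddEquiv
  have hsG : Semilinear (G := ↥ψ.range) e' := fun g => by
    obtain ⟨a, σ, h⟩ := he g
    exact ⟨r a, r.symm.trans (σ.trans r), fun v => by
      show r (e (g • v)) = r a * r (σ (r.symm (r (e v))))
      rw [RingEquiv.symm_apply_apply, ← map_mul]
      exact congrArg r (h v)⟩
  have hsA : Semilinear (G := ↥A) e' := fun a => hsG ⟨a.1, hAle a.2⟩
  have hGdvd : Nat.card ψ.range ∣ (p ^ n - 1) * n := card_dvd e' hsG hGF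
  have hAdvd : Nat.card A ∣ (p ^ n - 1) * n := (Subgroup.card_dvd_of_le hAle).trans hGdvd
  have hbig : Nat.card (Planes p V) * (p - 1) ∣ (p ^ n - 1) * n := by
    refine dvd_trans (planes_card_mul_dvd ψ.range n (by omega) hV (htrP _ hAle) (p - 1) ?_) hGdvd
    intro U
    let f : (ZMod p)ˣ →* ↥(MulAction.stabilizer ↥ψ.range U) :=
      { toFun := fun c => ⟨⟨ψ (1, c), _, rfl⟩, Subtype.ext (by
          show U.1.map (ψ (1, c)).toLinearMap = U.1
          ext x
          refine ⟨?_, fun hx => ⟨c⁻¹ • x, U.1.smul_mem _ hx, ?_⟩⟩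
          · rintro ⟨y, hy, rfl⟩
            simpa [ψ, LinearEquiv.smulOfUnit, Units.smul_def] using U.1.smul_mem (c : ZMod p) hy
          · show c • c⁻¹ • x = x
            exact smul_inv_smul c x)⟩
        map_one' := Subtype.ext (Subtype.ext (map_one ψ))
        map_mul' := fun c d => Subtype.ext (Subtype.ext (by
          show ψ (1, c * d) = ψ (1, c) * ψ (1, d)
          rw [← map_mul, Prod.mk_mul_mk, one_mul])) }
    have hf : Function.Injective f := fun c d hcd => by
      obtain ⟨v, hv⟩ := exists_ne (0 : V)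
      have h : ψ (1, c) = ψ (1, d) := congrArg (fun x => x.1.1) hcd
      have h1 : (c : ZMod p) • v = (d : ZMod p) • v := by
        simpa [ψ, LinearEquiv.smulOfUnit, Units.smul_def] using LinearEquiv.congr_fun h v
      exact Units.ext (smul_left_injective (ZMod p) hv h1)
    have h := Subgroup.card_dvd_of_injective f hf
    rwa [Nat.card_eq_fintype_card, ZMod.card_units] at h
  have hcases : n = 3 ∨ (n = 5 ∧ p = 2) := by
    rcases (show n = 3 ∨ 4 ≤ n by omega) with h | h4
    · exact Or.inl h
    have hle := Nat.le_of_dvd (Nat.mul_pos (Nat.sub_pos_of_lt (Nat.one_lt_pow (by omega) (by omega)))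
      (by omega)) hbig
    have hpn : p ^ (n - 1) ≤ n * (p * p - 1) + 1 := by
      have hpos : 0 < p ^ n - 1 := Nat.sub_pos_of_lt (Nat.one_lt_pow (by omega) (by omega))
      have h1 : (p ^ n - 1) * (p ^ n - p) * (p - 1) ≤
          (p ^ n - 1) * n * ((p ^ 2 - 1) * (p ^ 2 - p)) := by
        rw [← hN, mul_right_comm]
        exact Nat.mul_le_mul_right _ hle
      rw [mul_assoc, mul_assoc] at h1
      have h2 := Nat.le_of_mul_le_mul_left h1 hpos
      rw [show p ^ n - p = p * (p ^ (n - 1) - 1) by
          rw [Nat.mul_sub, mul_one, ← pow_succ', show n - 1 + 1 = n by omega],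
        show p ^ 2 - p = p * (p - 1) by rw [Nat.mul_sub, mul_one, pow_two],
        show p * (p ^ (n - 1) - 1) * (p - 1) = (p ^ (n - 1) - 1) * (p * (p - 1)) by ring,
        show n * ((p ^ 2 - 1) * (p * (p - 1))) = (n * (p ^ 2 - 1)) * (p * (p - 1)) by ring] at h2
      have h3 := Nat.le_of_mul_le_mul_right h2 (Nat.mul_pos (by omega) (by omega))
      rw [pow_two] at h3
      omega
    rcases small_cases hp2 h4 hpn with ⟨rfl, rfl | rfl⟩ | h
    · norm_num at hN hbig
      have : Nat.card (Planes 2 V) = 35 := by omega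
      rw [this] at hbig
      norm_num at hbig
    · norm_num at hN hbig
      have : Nat.card (Planes 3 V) = 130 := by omega
      rw [this] at hbig
      norm_num at hbig
    · exact Or.inr h
  refine ⟨e', hsA, hcases, ?_, ?_⟩
  · rintro rfl rfl
    norm_num at hN hAdvd
    have h7 : Nat.card (Planes 2 V) = 7 := by omega
    rw [h7] at hdvdA
    obtain ⟨k, hk⟩ := hdvdA
    rw [hk] at hAdvd ⊢
    have hk' : k ∣ 3 := Nat.dvd_of_mul_dvd_mul_left (k := 7) (by norm_num) hAdvd
    rcases (Nat.dvd_prime Nat.prime_three).1 hk' with rfl | rfl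
    · exact Or.inl rfl
    · exact Or.inr rfl
  · rintro rfl
    obtain h | ⟨-, rfl⟩ := hcases
    · omega
    norm_num at hN hAdvd
    have h155 : Nat.card (Planes 2 V) = 155 := by omega
    rw [h155] at hdvdA
    exact Nat.dvd_antisymm hAdvd hdvdA

end Core

end Cfsg.Agent.TransitiveSubspaces87
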