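import Mathlib
import Cfsg.Agent.Lib.EqOrderConj59Basic
import Cfsg.Agent.Lib.BaerSuzuki
import Cfsg.Agent.Lib.HallCore
import Cfsg.Agent.Lib.ComponentsCores
import Cfsg.Agent.S4025

/-!
Consequences of "any two subgroups of the same order are conjugate".
-/

set_option autoImplicit false

namespace Cfsg.Agent.EqOrderConj59

open Cfsg.Agent.SignalizerStrongEmb
open scoped Pointwise

/-- Any two subgroups of the same order are conjugate. -/
def Good (G : Type*) [Group G] : Prop :=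
  ∀ H K : Subgroup G, Nat.card H = Nat.card K → ∃ g : G, K = H.map (MulAut.conj g).toMonoidHom

variable {G : Type*} [Group G] [Finite G]

theorem card_comap_mk (N : Subgroup G) [N.Normal] (K : Subgroup (G ⧸ N)) :
    Nat.card (K.comap (QuotientGroup.mk' N)) = Nat.card N * Nat.card K := by
  have h1 := Subgroup.card_mul_index (K.comap (QuotientGroup.mk' N))
  rw [Subgroup.index_comap_of_surjective K (QuotientGroup.mk'_surjective N), ← N.card_mul_index,
    show N.index = Nat.card (G ⧸ N) from rfl, ← K.card_mul_index, ← mul_assoc] at h1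
  exact Nat.eq_of_mul_eq_mul_right (Nat.pos_of_ne_zero Subgroup.index_ne_zero_of_finite) h1

theorem Good.quotient (hG : Good G) (N : Subgroup G) [N.Normal] : Good (G ⧸ N) := by
  intro H K hHK
  obtain ⟨g, hg⟩ := hG (H.comap (QuotientGroup.mk' N)) (K.comap (QuotientGroup.mk' N))
    (by rw [card_comap_mk, card_comap_mk, hHK])
  refine ⟨QuotientGroup.mk g, ?_⟩
  have h1 := congrArg (Subgroup.map (QuotientGroup.mk' N)) hg
  rw [Subgroup.map_comap_eq_self_of_surjective (QuotientGroup.mk'_surjective N), Subgroup.map_map] at h1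
  have e : (QuotientGroup.mk' N).comp (MulAut.conj g).toMonoidHom =
      (MulAut.conj (g : G ⧸ N)).toMonoidHom.comp (QuotientGroup.mk' N) := MonoidHom.ext fun x => rfl
  rw [e, ← Subgroup.map_map,
    Subgroup.map_comap_eq_self_of_surjective (QuotientGroup.mk'_surjective N)] at h1
  exact h1

theorem Good.isConj (hG : Good G) {a b : G} (ha : orderOf a = 2) (hb : orderOf b = 2) :
    ∃ g : G, g * a * g⁻¹ = b := by
  obtain ⟨g, hg⟩ := hG (Subgroup.zpowers a) (Subgroup.zpowers b)
    (by rw [Nat.card_zpowers, Nat.card_zpowers, ha, hb])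
  refine ⟨g, ?_⟩
  obtain ⟨x, hx, hxb⟩ := (hg ▸ Subgroup.mem_zpowers b : b ∈ _)
  obtain ⟨j, rfl⟩ := hx
  have hxb' : g * a ^ j * g⁻¹ = b := hxb
  rcases Int.even_or_odd j with ⟨i, rfl⟩ | ⟨i, rfl⟩
  · exfalso
    rw [← two_mul, zpow_mul, zpow_two, involution_mul_self ha, one_zpow, mul_one, mul_inv_cancel] at hxb'
    exact involution_ne_one hb hxb'.symm
  · rwa [zpow_add, zpow_mul, zpow_two, involution_mul_self ha, one_zpow, one_mul, zpow_one] at hxb'

/-- No dihedral subgroup of order `2p` beside a cyclic one. -/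
theorem Good.no_invert (hG : Good G) {p : ℕ} (hp : p.Prime) (hp2 : p ≠ 2) {t x s y : G}
    (ht : orderOf t = 2) (hx : orderOf x = p) (htx : t * x = x * t) (hs : orderOf s = 2)
    (hy : orderOf y = p) (hsy : s * y * s⁻¹ = y⁻¹) : False := by
  have := Fact.mk hp
  have hco : (2 : ℕ).Coprime p := (Nat.coprime_primes Nat.prime_two hp).2 (Ne.symm hp2)
  set A := Subgroup.zpowers y ⊔ Subgroup.zpowers s with hA
  have hnorm : Subgroup.zpowers s ≤ Subgroup.normalizer (Subgroup.zpowers y : Set G) := by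
    rw [Subgroup.zpowers_le]
    refine mem_NN.2 ?_
    rintro _ ⟨j, rfl⟩
    refine ⟨-j, ?_⟩
    show y ^ (-j) = s * y ^ j * s⁻¹
    rw [← conj_zpow, hsy, inv_zpow, zpow_neg]
  have hle : Nat.card A ≤ 2 * p := by
    have hset : (A : Set G) = (Subgroup.zpowers s : Set G) * (Subgroup.zpowers y : Set G) := by
      rw [hA, sup_comm]; exact Subgroup.coe_mul_of_left_le_normalizer_right _ _ hnorm
    rw [← SetLike.coe_sort_coe, Nat.card_coe_set_eq, hset]
    refine (Set.natCard_mul_le (s := (Subgroup.zpowers s : Set G)) (t := (Subgroup.zpowers y : Set G))).trans_eq' ?_ |>.trans_eq ?_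
    · rw [Nat.card_coe_set_eq]
    · rw [SetLike.coe_sort_coe, SetLike.coe_sort_coe, Nat.card_zpowers, Nat.card_zpowers, hs, hy]
  have hcard : Nat.card A = 2 * p := by
    refine le_antisymm hle (Nat.le_of_dvd Nat.card_pos (hco.mul_dvd_of_dvd_of_dvd ?_ ?_))
    · exact hs ▸ Subgroup.orderOf_dvd_natCard A (Subgroup.mem_sup_right (Subgroup.mem_zpowers s))
    · exact hy ▸ Subgroup.orderOf_dvd_natCard A (Subgroup.mem_sup_left (Subgroup.mem_zpowers y))
  have htxo : orderOf (t * x) = 2 * p := by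
    rw [(show Commute t x from htx).orderOf_mul_eq_mul_orderOf_of_coprime (by rw [ht, hx]; exact hco),
      ht, hx]
  obtain ⟨g, hg⟩ := hG (Subgroup.zpowers (t * x)) A (by rw [Nat.card_zpowers, htxo, hcard])
  rw [MonoidHom.map_zpowers] at hg
  obtain ⟨i, hi⟩ : s ∈ Subgroup.zpowers ((MulAut.conj g).toMonoidHom (t * x)) :=
    hg ▸ Subgroup.mem_sup_right (Subgroup.mem_zpowers s)
  obtain ⟨j, hj⟩ : y ∈ Subgroup.zpowers ((MulAut.conj g).toMonoidHom (t * x)) :=
    hg ▸ Subgroup.mem_sup_left (Subgroup.mem_zpowers y)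
  have hc : s * y = y * s := by rw [← hi, ← hj]; exact (Commute.zpow_zpow_self _ i j).eq
  rw [hc, mul_inv_cancel_right] at hsy
  have h2 : y * y = 1 := by nth_rw 2 [hsy]; exact mul_inv_cancel y
  have h3 : orderOf y ∣ 2 := orderOf_dvd_of_pow_eq_one (by rw [pow_two, h2])
  rw [hy] at h3
  exact hp2 ((Nat.prime_dvd_prime_iff_eq hp Nat.prime_two).1 h3)

/-- A product of two involutions has order prime to the odd part of every involution centraliser. -/
theorem Good.prod_ndvd (hG : Good G) {p : ℕ} (hp : p.Prime) (hp2 : p ≠ 2) {t x s s' : G}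
    (ht : orderOf t = 2) (hx : orderOf x = p) (htx : t * x = x * t) (hs : orderOf s = 2)
    (hs' : orderOf s' = 2) : ¬ p ∣ orderOf (s * s') := fun hd =>
  hG.no_invert hp hp2 ht hx htx hs (orderOf_pow_orderOf_div (orderOf_pos _).ne' hd)
    (conj_pow_mul_eq_inv hs hs' _)

/-- An involution normalising a `p`-subgroup centralises it, if some involution commutes with an
element of order `p`. -/
theorem Good.centralizes (hG : Good G) {p : ℕ} (hp : p.Prime) (hp2 : p ≠ 2) {t x s : G}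
    (ht : orderOf t = 2) (hx : orderOf x = p) (htx : t * x = x * t) (hs : orderOf s = 2)
    {Q : Subgroup G} (hQ : IsPGroup p Q) (hn : s ∈ NN Q) : ∀ z ∈ Q, s * z = z * s := by
  intro z hz
  have := Fact.mk hp
  have hmem : z⁻¹ * (s * z * s⁻¹) ∈ Q := mul_mem (inv_mem hz) ((mem_NN.1 hn) z hz)
  by_contra hne
  have h1 : z⁻¹ * (s * z * s⁻¹) ≠ 1 := fun e => hne
    (mul_inv_eq_iff_eq_mul.1 (inv_mul_eq_one.1 e).symm)
  obtain ⟨a, ha⟩ := IsPGroup.iff_orderOf.1 hQ ⟨_, hmem⟩
  rw [Subgroup.orderOf_mk] at ha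
  have hd : p ∣ orderOf (z⁻¹ * (s * z * s⁻¹)) := by
    rw [ha]
    refine dvd_pow_self p ?_
    rintro rfl
    exact h1 (orderOf_eq_one_iff.1 (by rw [ha, pow_zero]))
  have e : z⁻¹ * (s * z * s⁻¹) = (z⁻¹ * s * z) * s := by rw [involution_inv hs]; group
  rw [e] at hd
  exact hG.prod_ndvd hp hp2 ht hx htx (by simpa using (orderOf_conj z⁻¹ s).trans hs) hs hd

/-- Centralisers of involutions of an elementary abelian Sylow subgroup lie in its normaliser. -/
theorem Good.cent_le (hG : Good G) (S : Sylow 2 G) (hab : ∀ a ∈ (S : Subgroup G), ∀ b ∈ (S : Subgroup G), a * b = b * a)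
    (hsq : ∀ a ∈ (S : Subgroup G), a * a = 1) {t : G} (ht : t ∈ (S : Subgroup G)) (ht1 : t ≠ 1)
    {c : G} (hc : c * t = t * c) : c ∈ NN (S : Subgroup G) := by
  have := Fact.mk Nat.prime_two
  have ht2 := orderOf_eq_two_of_mul_self (hsq t ht) ht1
  set C := Subgroup.centralizer ({t} : Set G) with hC
  have memC : ∀ {x : G}, x * t = t * x → x ∈ C := fun hx =>
    Subgroup.mem_centralizer_iff.2 (by rintro y rfl; exact hx.symm)
  have hSC : (S : Subgroup G) ≤ C := fun a ha => memC (hab a ha t ht)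
  have hO : ∀ a ∈ (S : Subgroup G), ∀ haC : a ∈ C, (⟨a, haC⟩ : C) ∈ Cfsg.pCore 2 C := by
    intro a ha haC
    by_cases ha1 : a = 1
    · subst ha1; exact one_mem (Cfsg.pCore 2 C)
    by_contra hnot
    have hao : orderOf (⟨a, haC⟩ : C) = 2 := by
      rw [Subgroup.orderOf_mk]; exact orderOf_eq_two_of_mul_self (hsq a ha) ha1
    obtain ⟨e, he1, heodd, hinv⟩ := BaerSuzuki.exists_inverted_odd (⟨a, haC⟩ : C) hao
      (fun N hN hN2 hmem => hnot (by
        have := hN
        exact ComponentsCores.le_pCore' hN2 hmem))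
    obtain ⟨p, hp, hpd⟩ := Nat.exists_prime_and_dvd (n := orderOf e) (fun h => he1 (orderOf_eq_one_iff.1 h))
    have hp2 : p ≠ 2 := by
      rintro rfl
      exact (Nat.not_even_iff_odd.2 heodd) (even_iff_two_dvd.2 hpd)
    set y : C := e ^ (orderOf e / p) with hy
    have hyo : orderOf (y : G) = p := by
      rw [Subgroup.orderOf_coe, hy, orderOf_pow_orderOf_div (orderOf_pos e).ne' hpd]
    have hcm : t * (y : G) = y * t := Subgroup.mem_centralizer_iff.1 y.2 t rfl
    refine hG.no_invert hp hp2 ht2 hyo hcm (s := a) (by rwa [Subgroup.orderOf_mk] at hao) hyo ?_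
    have : (⟨a, haC⟩ : C) * y * (⟨a, haC⟩ : C)⁻¹ = y⁻¹ := by
      rw [hy, ← conj_pow, hinv, inv_pow]
    exact congrArg Subtype.val this
  have hle : (S : Subgroup G) ≤ (Cfsg.pCore 2 C).map C.subtype := fun a ha =>
    ⟨⟨a, hSC ha⟩, hO a ha (hSC ha), rfl⟩
  have heq : (Cfsg.pCore 2 C).map C.subtype = (S : Subgroup G) :=
    S.is_maximal' ((ComponentsCores.isPGroup_pCore 2).map _) hle
  refine mem_NN.2 fun a ha => ?_
  rw [← heq] at ha ⊢
  obtain ⟨a', ha', rfl⟩ := ha
  have hnor : (Cfsg.pCore 2 C).Normal := Cfsg.pCore_normal 2 C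
  exact ⟨_, hnor.conj_mem a' ha' ⟨c, memC hc⟩, rfl⟩

/-- The normaliser of an abelian Sylow `2`-subgroup is transitive on its involutions. -/
theorem Good.transitive (hG : Good G) (S : Sylow 2 G)
    (hab : ∀ a ∈ (S : Subgroup G), ∀ b ∈ (S : Subgroup G), a * b = b * a)
    (hsq : ∀ a ∈ (S : Subgroup G), a * a = 1) {t u : G} (ht : t ∈ (S : Subgroup G)) (ht1 : t ≠ 1)
    (hu : u ∈ (S : Subgroup G)) (hu1 : u ≠ 1) : ∃ m ∈ NN (S : Subgroup G), m * t * m⁻¹ = u := by
  have := Fact.mk Nat.prime_two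
  obtain ⟨g, hg⟩ := hG.isConj (orderOf_eq_two_of_mul_self (hsq t ht) ht1)
    (orderOf_eq_two_of_mul_self (hsq u hu) hu1)
  obtain ⟨m, hm, hmu⟩ := S4025.burnside S hab (Subgroup.zpowers t) (Subgroup.zpowers_le.2 ht) g
    (by
      rw [MonoidHom.map_zpowers, Subgroup.zpowers_le]
      show g * t * g⁻¹ ∈ (S : Subgroup G)
      rwa [hg])
  exact ⟨m, hm, (hmu t (Subgroup.mem_zpowers t)).trans hg⟩

/-- A Sylow `2`-subgroup centralised by its normaliser: the elements of odd order form a normal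
subgroup, a complement. -/
theorem exists_oddPart (S : Sylow 2 G) (hS : NN (S : Subgroup G) ≤ CC (S : Subgroup G)) :
    ∃ N : Subgroup G, N.Normal ∧ (∀ x : G, x ∈ N ↔ Odd (orderOf x)) ∧
      Subgroup.IsComplement' N (S : Subgroup G) := by
  have := Fact.mk Nat.prime_two
  refine ⟨(MonoidHom.transferSylow S hS).ker, MonoidHom.normal_ker _, fun x => ?_,
    MonoidHom.ker_transferSylow_isComplement' S hS⟩
  constructor
  · intro hx
    refine odd_orderOf_of_mem (Nat.not_even_iff_odd.1 fun he => ?_) hx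
    exact MonoidHom.not_dvd_card_ker_transferSylow S hS he.two_dvd
  · intro hx
    obtain ⟨k, hk⟩ := S.2 (MonoidHom.transferSylow S hS x)
    have h1 : orderOf (MonoidHom.transferSylow S hS x) ∣ 2 ^ k := orderOf_dvd_of_pow_eq_one hk
    exact orderOf_eq_one_iff.1 (Nat.eq_one_of_dvd_coprimes
      ((Nat.coprime_two_left.2 hx).pow_left k) h1 (orderOf_map_dvd _ x))

/-- `D`, the elements of odd order in `C(P)`. -/
theorem exists_D (S : Sylow 2 G) (hab : ∀ a ∈ (S : Subgroup G), ∀ b ∈ (S : Subgroup G), a * b = b * a) :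
    ∃ D : Subgroup G, (∀ c, c ∈ D ↔ c ∈ CC (S : Subgroup G) ∧ Odd (orderOf c)) ∧
      Nat.card (CC (S : Subgroup G)) = Nat.card (S : Subgroup G) * Nat.card D := by
  have := Fact.mk Nat.prime_two
  have hle : (S : Subgroup G) ≤ CC (S : Subgroup G) := fun a ha =>
    mem_CC.2 fun b hb => hab b hb a ha
  set S' : Sylow 2 (CC (S : Subgroup G)) := S.subtype hle
  obtain ⟨N, -, hmem, hc⟩ := exists_oddPart S' (fun x _ => mem_CC.2 fun a ha =>
    Subtype.ext (mem_CC.1 x.2 a.1 ha))
  refine ⟨N.map (CC (S : Subgroup G)).subtype, fun c => ⟨?_, fun hc => ?_⟩, ?_⟩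
  · rintro ⟨c, hcN, rfl⟩
    exact ⟨c.2, by simpa [Subgroup.orderOf_coe] using (hmem c).1 hcN⟩
  · exact ⟨⟨c, hc.1⟩, (hmem _).2 (by rw [Subgroup.orderOf_mk]; exact hc.2), rfl⟩
  · rw [Subgroup.card_map_of_injective (Subgroup.subtype_injective _), ← hc.card_mul, mul_comm]
    congr 1
    exact Nat.card_congr (Subgroup.subgroupOfEquivOfLe hle).toEquiv

/-- Every odd prime divisor of `|D|` is the order of an element commuting with an involution. -/
theorem Good.coprime_D (hG : Good G) {P D : Subgroup G} (hDP : D ≤ CC P) (hodd : Odd (Nat.card D))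
    {t : G} (htP : t ∈ P) (ht : orderOf t = 2) (s s' : G) (hs : orderOf s = 2) (hs' : orderOf s' = 2) :
    (orderOf (s * s')).Coprime (Nat.card D) := by
  refine Nat.coprime_of_dvd fun p hp h1 h2 => ?_
  have := Fact.mk hp
  have hp2 : p ≠ 2 := by
    rintro rfl
    exact Nat.not_even_iff_odd.2 hodd (even_iff_two_dvd.2 h2)
  obtain ⟨x, hx⟩ := exists_prime_orderOf_dvd_card' (G := D) p h2
  exact hG.prod_ndvd hp hp2 ht (x := (x : G)) (by rwa [Subgroup.orderOf_coe])
    (mem_CC.1 (hDP x.2) t htP) hs hs' h1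

end Cfsg.Agent.EqOrderConj59
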