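import Mathlib
import Cfsg.Agent.Lib.EqOrderConj59Main
import Cfsg.Agent.Lib.EqOrderConj59Tools
import Cfsg.Agent.S4020
import Cfsg.Agent.S1230
import Cfsg.Agent.Lib.PSLCard

/-!
The normaliser of the elementary abelian Sylow `2`-subgroup.
-/

set_option autoImplicit false

namespace Cfsg.Agent.EqOrderConj59

open Cfsg.Agent.SignalizerStrongEmb

universe u

/-- Standing data. -/
structure Ctx {G : Type u} [Group G] [Finite G] (S : Sylow 2 G) (D : Subgroup G) (q : ℕ) : Prop where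
  good : Good G
  core : ∀ N : Subgroup G, N.Normal → Odd (Nat.card N) → N = ⊥
  comm : ∀ a ∈ (S : Subgroup G), ∀ b ∈ (S : Subgroup G), a * b = b * a
  sq : ∀ a ∈ (S : Subgroup G), a * a = 1
  cardS : Nat.card (S : Subgroup G) = q
  four : 4 ≤ q
  memD : ∀ c, c ∈ D ↔ c ∈ CC (S : Subgroup G) ∧ Odd (orderOf c)
  cardC : Nat.card (CC (S : Subgroup G)) = q * Nat.card D

theorem exists_ctx {G : Type u} [Group G] [Finite G] (hG : Good G)
    (hO : ∀ N : Subgroup G, N.Normal → Odd (Nat.card N) → N = ⊥) (S : Sylow 2 G)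
    (hel : Cfsg.IsElementaryAbelian 2 (S : Subgroup G)) {q : ℕ} (hq : Nat.card (S : Subgroup G) = q)
    (h4 : 4 ≤ q) : ∃ D, Ctx S D q := by
  have hab : ∀ a ∈ (S : Subgroup G), ∀ b ∈ (S : Subgroup G), a * b = b * a := fun a ha b hb =>
    congrArg Subtype.val (hel.1.is_comm.comm (⟨a, ha⟩ : (S : Subgroup G)) ⟨b, hb⟩)
  obtain ⟨D, hD, hc⟩ := exists_D S hab
  exact ⟨D, hG, hO, hab, fun a ha => by rw [← pow_two]; exact hel.2 a ha, hq, h4, hD,
    by rw [hc, hq]⟩

namespace Ctx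

variable {G : Type u} [Group G] [Finite G] {S : Sylow 2 G} {D : Subgroup G} {q : ℕ}
variable (h : Ctx S D q)
include h

theorem two_mem {x : G} (hx : x ∈ NN (S : Subgroup G)) {k : ℕ} (hk : x ^ 2 ^ k = 1) :
    x ∈ (S : Subgroup G) := by
  have : Fact (Nat.Prime 2) := ⟨Nat.prime_two⟩
  have hz : IsPGroup 2 (Subgroup.zpowers x) := by
    obtain ⟨j, -, hj⟩ := (Nat.dvd_prime_pow Nat.prime_two).mp (orderOf_dvd_of_pow_eq_one hk)
    exact IsPGroup.of_card (n := j) (by rw [Nat.card_zpowers, hj])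
  have hs := hz.to_sup_of_normal_right' S.2 (Subgroup.zpowers_le.2 hx)
  rw [← S.is_maximal' hs le_sup_right]
  exact Subgroup.mem_sup_left (Subgroup.mem_zpowers x)

theorem cc_normal : ((CC (S : Subgroup G)).subgroupOf (NN (S : Subgroup G))).Normal :=
  ⟨fun w hw g => mem_CC.2 fun a ha => by
    have ha' : (g : G)⁻¹ * a * g ∈ (S : Subgroup G) := by simpa using (mem_NN.1 (inv_mem g.2)) a ha
    show a * ((g : G) * w * (g : G)⁻¹) = g * w * (g : G)⁻¹ * a
    calc a * ((g : G) * w * (g : G)⁻¹) = g * (((g : G)⁻¹ * a * g) * w) * (g : G)⁻¹ := by group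
      _ = g * ((w : G) * ((g : G)⁻¹ * a * g)) * (g : G)⁻¹ := by rw [mem_CC.1 (show (w : G) ∈ CC (S : Subgroup G) from hw) _ ha']
      _ = _ := by group⟩

theorem exists_ne_one : ∃ t ∈ (S : Subgroup G), t ≠ 1 := by
  refine ((S : Subgroup G).ne_bot_iff_exists_ne_one.1 ?_).elim fun t ht => ⟨t, t.2, fun e => ht (Subtype.ext e)⟩
  intro e
  have := h.cardS
  rw [e, Subgroup.card_bot] at this
  have := h.four
  omega

theorem orderOf_mem {t : G} (ht : t ∈ (S : Subgroup G)) (h1 : t ≠ 1) : orderOf t = 2 :=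
  orderOf_eq_two_of_mul_self (h.sq t ht) h1

theorem cent_le {t : G} (ht : t ∈ (S : Subgroup G)) (ht1 : t ≠ 1) {c : G} (hc : c * t = t * c) :
    c ∈ NN (S : Subgroup G) :=
  h.good.cent_le S h.comm h.sq ht ht1 hc

theorem S_le : (S : Subgroup G) ≤ CC (S : Subgroup G) := fun t ht =>
  mem_CC.2 fun a ha => h.comm a ha t ht

theorem oddD : Odd (Nat.card D) := by
  refine Nat.not_even_iff_odd.1 fun he => ?_
  obtain ⟨i, hiD, hi⟩ := exists_involution_of_even he
  have := ((h.memD i).1 hiD).2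
  rw [hi] at this
  exact absurd this (by decide)

theorem conj_D {x d : G} (hx : x ∈ NN (S : Subgroup G)) (hd : d ∈ D) : x * d * x⁻¹ ∈ D := by
  obtain ⟨hc, ho⟩ := (h.memD d).1 hd
  exact (h.memD _).2 ⟨(h.cc_normal.conj_mem ⟨d, CC_le_NN _ hc⟩ hc ⟨x, hx⟩ :), by rwa [orderOf_conj]⟩

theorem D_le : D ≤ CC (S : Subgroup G) := fun x hx => ((h.memD x).1 hx).1

/-- If `D` is normal it is trivial. -/
theorem D_bot (hn : D.Normal) : D = ⊥ := h.core D hn h.oddD

theorem cc_eq (hb : D = ⊥) : CC (S : Subgroup G) = (S : Subgroup G) := by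
  symm
  refine Subgroup.eq_of_le_of_card_ge h.S_le (le_of_eq ?_)
  rw [h.cardC, hb, Subgroup.card_bot, mul_one, h.cardS]

theorem K_odd : Odd ((CC (S : Subgroup G)).relIndex (NN (S : Subgroup G))) := by
  have := Fact.mk Nat.prime_two
  have h1 : (CC (S : Subgroup G)).relIndex (NN (S : Subgroup G)) ∣
      (S : Subgroup G).relIndex (NN (S : Subgroup G)) := Subgroup.relIndex_dvd_of_le_left _ h.S_le
  have h2 : (S : Subgroup G).relIndex (NN (S : Subgroup G)) ∣ (S : Subgroup G).index :=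
    Subgroup.relIndex_dvd_index_of_le Subgroup.le_normalizer
  exact ((Nat.odd_iff.2 (Nat.two_dvd_ne_zero.1 S.not_dvd_index)).of_dvd_nat h2).of_dvd_nat h1

theorem card_NN : Nat.card (NN (S : Subgroup G)) =
    q * Nat.card D * (CC (S : Subgroup G)).relIndex (NN (S : Subgroup G)) := by
  rw [← h.cardC, ← Nat.card_congr (Subgroup.subgroupOfEquivOfLe (CC_le_NN (S : Subgroup G))).toEquiv]
  exact (Subgroup.card_mul_index _).symm

/-- `|N : C(P)| = (q - 1) · |C(t) : C(P)|`. -/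
theorem K_eq {t : G} (ht : t ∈ (S : Subgroup G)) (ht1 : t ≠ 1) :
    (CC (S : Subgroup G)).relIndex (NN (S : Subgroup G)) =
      (CC (S : Subgroup G)).relIndex (Subgroup.centralizer ({t} : Set G)) * (q - 1) ∧
    CC (S : Subgroup G) ≤ Subgroup.centralizer ({t} : Set G) ∧
    Subgroup.centralizer ({t} : Set G) ≤ NN (S : Subgroup G) := by
  set C := Subgroup.centralizer ({t} : Set G) with hC
  have memC : ∀ {x : G}, x ∈ C ↔ x * t = t * x := fun {x} => by
    rw [hC, Subgroup.mem_centralizer_iff]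
    exact ⟨fun hx => (hx t rfl).symm, fun hx y hy => by rw [Set.mem_singleton_iff.1 hy, hx]⟩
  have h1 : CC (S : Subgroup G) ≤ C := fun x hx => memC.2 (mem_CC.1 hx t ht).symm
  have h2 : C ≤ NN (S : Subgroup G) := fun x hx => h.cent_le ht ht1 (memC.1 hx)
  refine ⟨?_, h1, h2⟩
  rw [← Subgroup.relIndex_mul_relIndex _ _ _ h1 h2]
  congr 1
  -- orbit-stabiliser
  let f : (↥(NN (S : Subgroup G)) ⧸ C.subgroupOf (NN (S : Subgroup G))) →
      {u : G // u ∈ (S : Subgroup G) ∧ u ≠ 1} :=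
    Quotient.lift (fun x : NN (S : Subgroup G) => ⟨(x : G) * t * (x : G)⁻¹, (mem_NN.1 x.2) t ht,
      fun e => ht1 (conj_eq_one_iff.1 e)⟩) fun x y hxy => by
      refine Subtype.ext ?_
      have h3 : ((x : G)⁻¹ * y) * t = t * ((x : G)⁻¹ * y) :=
        memC.1 (Subgroup.mem_subgroupOf.1 (QuotientGroup.leftRel_apply.1 hxy))
      show (x : G) * t * (x : G)⁻¹ = y * t * (y : G)⁻¹
      calc (x : G) * t * (x : G)⁻¹ = x * (t * ((x : G)⁻¹ * y)) * (y : G)⁻¹ := by group
        _ = x * (((x : G)⁻¹ * y) * t) * (y : G)⁻¹ := by rw [h3]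
        _ = y * t * (y : G)⁻¹ := by group
  have hf : Function.Bijective f := by
    constructor
    · intro x y
      induction x using QuotientGroup.induction_on with
      | _ x =>
        induction y using QuotientGroup.induction_on with
        | _ y =>
          intro e
          have e' : (x : G) * t * (x : G)⁻¹ = y * t * (y : G)⁻¹ := congrArg Subtype.val e
          refine QuotientGroup.eq.2 (Subgroup.mem_subgroupOf.2 (memC.2 ?_))
          show (x : G)⁻¹ * y * t = t * ((x : G)⁻¹ * y)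
          calc (x : G)⁻¹ * y * t = (x : G)⁻¹ * (y * t * (y : G)⁻¹) * y := by group
            _ = (x : G)⁻¹ * (x * t * (x : G)⁻¹) * y := by rw [e']
            _ = t * ((x : G)⁻¹ * y) := by group
    · rintro ⟨u, hu, hu1⟩
      obtain ⟨m, hm, hmu⟩ := h.good.transitive S h.comm h.sq ht ht1 hu hu1
      exact ⟨QuotientGroup.mk ⟨m, hm⟩, Subtype.ext hmu⟩
  show Nat.card (↥(NN (S : Subgroup G)) ⧸ C.subgroupOf (NN (S : Subgroup G))) = q - 1
  rw [Nat.card_eq_of_bijective f hf]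
  show Nat.card ↥(((S : Subgroup G) : Set G) \ {1}) = q - 1
  rw [Nat.card_coe_set_eq, Set.ncard_sdiff_singleton_of_mem (S : Subgroup G).one_mem,
    ← Nat.card_coe_set_eq, SetLike.coe_sort_coe, h.cardS]

/-- The core of `N` is `D`. -/
theorem core_NN : Cfsg.pPrimeCore 2 ↥(NN (S : Subgroup G)) = D.subgroupOf (NN (S : Subgroup G)) := by
  have := Fact.mk Nat.prime_two
  have hle : D ≤ NN (S : Subgroup G) := h.D_le.trans (CC_le_NN _)
  have hcard : Nat.card (D.subgroupOf (NN (S : Subgroup G))) = Nat.card D :=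
    Nat.card_congr (Subgroup.subgroupOfEquivOfLe hle).toEquiv
  refine le_antisymm (fun x hx => ?_) ?_
  · have hodd : Odd (Nat.card (Cfsg.pPrimeCore 2 ↥(NN (S : Subgroup G)))) :=
      Nat.coprime_two_right.1 (ComponentsCores.pPrimeCore_coprime 2)
    have hn : (Cfsg.pPrimeCore 2 ↥(NN (S : Subgroup G))).Normal := Cfsg.pPrimeCore_normal 2 _
    refine (h.memD _).2 ⟨mem_CC.2 fun a ha => ?_, ?_⟩
    · set a' : NN (S : Subgroup G) := ⟨a, Subgroup.le_normalizer ha⟩ with ha'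
      have h1 : x * a' * x⁻¹ * a'⁻¹ ∈ Cfsg.pPrimeCore 2 ↥(NN (S : Subgroup G)) := by
        have := mul_mem hx (hn.conj_mem _ (inv_mem hx) a')
        simpa [mul_assoc] using this
      have h2 : ((x * a' * x⁻¹ * a'⁻¹ : NN (S : Subgroup G)) : G) ∈ (S : Subgroup G) :=
        mul_mem ((mem_NN.1 x.2) a ha) (inv_mem ha)
      have h3 : x * a' * x⁻¹ * a'⁻¹ = 1 :=
        eq_one_of_odd_sq (odd_orderOf_of_mem hodd h1) (Subtype.ext (h.sq _ h2))
      exact (congrArg Subtype.val (mul_inv_eq_iff_eq_mul.1 (mul_inv_eq_one.1 h3))).symm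
    · show Odd (orderOf (x : G))
      rw [Subgroup.orderOf_coe]
      exact odd_orderOf_of_mem hodd hx
  · have : (D.subgroupOf (NN (S : Subgroup G))).Normal :=
      ⟨fun w hw g => h.conj_D g.2 hw⟩
    exact ComponentsCores.le_pPrimeCore' (Nat.coprime_two_right.2 (hcard ▸ h.oddD))

theorem card_NN_quot : Nat.card (↥(NN (S : Subgroup G)) ⧸ Cfsg.pPrimeCore 2 ↥(NN (S : Subgroup G))) =
    q * (CC (S : Subgroup G)).relIndex (NN (S : Subgroup G)) := by
  have h1 := Subgroup.card_eq_card_quotient_mul_card_subgroup (Cfsg.pPrimeCore 2 ↥(NN (S : Subgroup G)))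
  have h2 : Nat.card (Cfsg.pPrimeCore 2 ↥(NN (S : Subgroup G))) = Nat.card D := by
    rw [h.core_NN]
    exact Nat.card_congr (Subgroup.subgroupOfEquivOfLe (h.D_le.trans (CC_le_NN _))).toEquiv
  rw [h.card_NN, h2, mul_right_comm] at h1
  exact (Nat.eq_of_mul_eq_mul_right Nat.card_pos h1).symm

theorem abSylD (hD : ∀ p : ℕ, p.Prime → ∀ H K : Subgroup G, IsPGroup p H → IsPGroup p K →
      Nat.card H = Nat.card K → ∃ g : G, K = H.map (MulAut.conj g).toMonoidHom)
    (p : ℕ) (hp : p.Prime) (A : Subgroup G) (hA : A ≤ D) (hAp : IsPGroup p A) :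
    ∀ a ∈ A, ∀ b ∈ A, a * b = b * a := by
  intro a ha b hb
  have := Fact.mk hp
  by_cases hp2 : p = 2
  · subst hp2
    exact h.comm a (h.two_mem (CC_le_NN _ (h.D_le (hA ha))) (k := (hAp ⟨a, ha⟩).choose)
      (congrArg Subtype.val (hAp ⟨a, ha⟩).choose_spec)) b
      (h.two_mem (CC_le_NN _ (h.D_le (hA hb))) (k := (hAp ⟨b, hb⟩).choose)
      (congrArg Subtype.val (hAp ⟨b, hb⟩).choose_spec))
  obtain ⟨Q, hQ⟩ := hAp.exists_le_sylow
  rcases S4020.result hD Q with hc | he | ⟨⟨e⟩⟩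
  · obtain ⟨g, hg⟩ := IsCyclic.exists_generator (α := Q)
    obtain ⟨i, hi⟩ := hg ⟨a, hQ ha⟩
    obtain ⟨j, hj⟩ := hg ⟨b, hQ hb⟩
    have hi' : (g : G) ^ i = a := congrArg Subtype.val hi
    have hj' : (g : G) ^ j = b := congrArg Subtype.val hj
    rw [← hi', ← hj']
    exact (Commute.zpow_zpow_self _ i j).eq
  · exact congrArg Subtype.val (he.1.is_comm.comm (⟨a, hQ ha⟩ : (Q : Subgroup G)) ⟨b, hQ hb⟩)
  · exfalso
    have h8 : Nat.card (Q : Subgroup G) = 8 := by
      rw [Nat.card_congr e.toEquiv, Nat.card_eq_fintype_card, QuaternionGroup.card]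
    obtain ⟨n, hn⟩ := IsPGroup.iff_card.1 Q.2
    rw [h8] at hn
    have h2 : 2 ∣ p ^ n := hn ▸ ⟨4, rfl⟩
    exact hp2 ((Nat.prime_dvd_prime_iff_eq Nat.prime_two hp).1 (Nat.prime_two.dvd_of_dvd_pow h2)).symm

/-- Elements of `N` commute with `t` iff their class fixes `t`; with `|N : C(P)| = r` this forces
`C(t) = C(P)`. -/
theorem hyp (hr : Nat.Prime (q - 1))
    (hK : (CC (S : Subgroup G)).relIndex (NN (S : Subgroup G)) = q - 1)
    (hnn : NN (S : Subgroup G) ≠ ⊤) : Hyp (S : Subgroup G) D (q - 1) where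
  two := S.2
  oddIdx := by
    have := Fact.mk Nat.prime_two
    exact Nat.odd_iff.2 (Nat.two_dvd_ne_zero.1 S.not_dvd_index)
  comm := h.comm
  sq := h.sq
  cardP := by have := h.four; rw [h.cardS]; omega
  prime := hr
  three := by have := h.four; omega
  nn := hnn
  cent t ht ht1 c hc := by
    obtain ⟨h1, h2, -⟩ := h.K_eq ht ht1
    rw [hK] at h1
    have hone : (CC (S : Subgroup G)).relIndex (Subgroup.centralizer ({t} : Set G)) = 1 :=
      (mul_eq_right₀ (by have := h.four; omega)).1 h1.symm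
    exact Subgroup.relIndex_eq_one.1 hone
      (Subgroup.mem_centralizer_iff.2 (by rintro y rfl; exact hc.symm))
  memD := h.memD
  powr x hx := by
    have := h.cc_normal
    have h1 := Subgroup.pow_index_mem ((CC (S : Subgroup G)).subgroupOf (NN (S : Subgroup G))) ⟨x, hx⟩
    rw [show ((CC (S : Subgroup G)).subgroupOf (NN (S : Subgroup G))).index = q - 1 from hK] at h1
    simpa [Subgroup.mem_subgroupOf] using h1
  gen x hx hxn y hy := by
    have := h.cc_normal
    have := Fact.mk hr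
    set C' := (CC (S : Subgroup G)).subgroupOf (NN (S : Subgroup G)) with hC'
    have hx1 : ((⟨x, hx⟩ : NN (S : Subgroup G)) : ↥(NN (S : Subgroup G)) ⧸ C') ≠ 1 := fun e =>
      hxn (show (⟨x, hx⟩ : NN (S : Subgroup G)) ∈ C' from (QuotientGroup.eq_one_iff _).1 e)
    have hm : (((⟨y, hy⟩ : NN (S : Subgroup G)) : ↥(NN (S : Subgroup G)) ⧸ C'))⁻¹ ∈
        Subgroup.zpowers (((⟨x, hx⟩ : NN (S : Subgroup G)) : ↥(NN (S : Subgroup G)) ⧸ C')) :=
      mem_zpowers_of_prime_card (show Nat.card (↥(NN (S : Subgroup G)) ⧸ C') = q - 1 from hK) hx1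
    obtain ⟨i, hi⟩ := Submonoid.mem_powers_iff _ _ |>.1 (mem_powers_iff_mem_zpowers.2 hm)
    refine ⟨i, ?_⟩
    have h1 : (((⟨y, hy⟩ : NN (S : Subgroup G)) * ⟨x, hx⟩ ^ i : NN (S : Subgroup G)) :
        ↥(NN (S : Subgroup G)) ⧸ C') = 1 := by
      rw [QuotientGroup.mk_mul, QuotientGroup.mk_pow, hi, mul_inv_cancel]
    simpa [hC', Subgroup.mem_subgroupOf] using (QuotientGroup.eq_one_iff _).1 h1
  noinv := by
    obtain ⟨t, ht, ht1⟩ := h.exists_ne_one
    exact fun s s' => h.good.coprime_D h.D_le h.oddD ht (h.orderOf_mem ht ht1) s s'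
  abSyl := h.abSylD fun p _ H K _ _ hc => h.good H K hc

end Ctx

/-- The recognition of `PSL₂`. -/
theorem psl_of_hyp {G : Type u} [Group G] [Finite G] {P D : Subgroup G} {r : ℕ} (h : Hyp P D r)
    (hD : D = ⊥) : ∃ (F : Type) (_ : Field F) (_ : Fintype F), Fintype.card F = r + 1 ∧
      Nonempty (G ≃* Matrix.ProjectiveSpecialLinearGroup (Fin 2) F) := by
  have : Fact (Nat.Prime 2) := ⟨Nat.prime_two⟩
  let T : Sylow 2 G := h.two.toSylow (Nat.two_dvd_ne_zero.2 (Nat.odd_iff.1 h.oddIdx))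
  obtain ⟨F, _, _, hF, he⟩ := S1230.result T h.not_cyclic
    (fun e => h.nn (Subgroup.normalizer_eq_top_iff.2 e)) (h.elemCent_of_bot hD)
  exact ⟨F, inferInstance, inferInstance, hF.trans h.cardP, he⟩

end Cfsg.Agent.EqOrderConj59
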