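import Mathlib
import Cfsg.Agent.Lib.EqOrderConj59Norm

/-!
The case `|N : C(P)| = r·k`: a transfer gives a normal subgroup `G₀ ≅ PSL₂(q)`.
-/

set_option autoImplicit false
set_option maxHeartbeats 800000

namespace Cfsg.Agent.EqOrderConj59

open Cfsg.Agent.SignalizerStrongEmb

universe u

namespace Ctx

variable {G : Type u} [Group G] [Finite G] {S : Sylow 2 G} {D : Subgroup G} {q : ℕ}
variable (h : Ctx S D q)
include h

theorem invol_conj {i : G} (hi : orderOf i = 2) : ∃ g : G, g⁻¹ * i * g ∈ (S : Subgroup G) := by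
  obtain ⟨t, ht, ht1⟩ := h.exists_ne_one
  obtain ⟨g, hg⟩ := h.good.isConj hi (h.orderOf_mem ht ht1)
  exact ⟨g⁻¹, by rw [inv_inv, hg]; exact ht⟩

/-- A `k`-element of `N` centralises an involution of `S`; its centraliser in `S` has `k`-congruent order. -/
theorem fixed_count {k : ℕ} [Fact k.Prime] {e : G} (he : e ∈ NN (S : Subgroup G)) {a : ℕ}
    (hek : e ^ k ^ a = 1) :
    Nat.card ↥((S : Subgroup G) ⊓ Subgroup.centralizer ({e} : Set G)) ≡ q [MOD k] := by
  let A : Subgroup G := Subgroup.zpowers e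
  have hA : IsPGroup k A := by
    obtain ⟨j, -, hj⟩ := (Nat.dvd_prime_pow (Fact.out : k.Prime)).mp (orderOf_dvd_of_pow_eq_one hek)
    exact IsPGroup.of_card (n := j) (by rw [Nat.card_zpowers, hj])
  have hAN : A ≤ NN (S : Subgroup G) := Subgroup.zpowers_le.2 he
  letI : MulAction A (S : Subgroup G) :=
    { smul := fun x u => ⟨(x : G) * u * (x : G)⁻¹, (mem_NN.1 (hAN x.2)) u u.2⟩
      one_smul := fun u => Subtype.ext (by
        show ((1 : A) : G) * u * ((1 : A) : G)⁻¹ = u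
        simp)
      mul_smul := fun x y u => Subtype.ext (by
        show ((x * y : A) : G) * u * ((x * y : A) : G)⁻¹ = x * (y * u * (y : G)⁻¹) * (x : G)⁻¹
        rw [Subgroup.coe_mul, mul_inv_rev]
        group) }
  have h1 := hA.card_modEq_card_fixedPoints (S : Subgroup G)
  rw [h.cardS] at h1
  refine Nat.ModEq.trans ?_ h1.symm
  show _ % k = _ % k
  congr 1
  refine (Nat.card_congr ?_).symm
  refine
    { toFun := fun u => ⟨u.1.1, u.1.2, Subgroup.mem_centralizer_iff.2 fun y hy => ?_⟩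
      invFun := fun u => ⟨⟨u.1, u.2.1⟩, fun x => ?_⟩
      left_inv := fun u => rfl
      right_inv := fun u => rfl }
  · have h2 := congrArg Subtype.val (u.2 ⟨e, Subgroup.mem_zpowers e⟩)
    rw [Set.mem_singleton_iff.1 hy]
    exact mul_inv_eq_iff_eq_mul.1 h2
  · refine Subtype.ext ?_
    show (x : G) * u.1 * (x : G)⁻¹ = u.1
    obtain ⟨j, hj⟩ := x.2
    have hc : Commute e u.1 := Subgroup.mem_centralizer_iff.1 u.2.2 e rfl
    rw [← hj]
    show e ^ j * u.1 * (e ^ j)⁻¹ = u.1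
    rw [(hc.zpow_left j).eq, mul_inv_cancel_right]

/-- The composite case. -/
theorem composite {r k : ℕ} [Fact k.Prime] (hq : q = r + 1) (hr : r.Prime) (hkr : k < r) (hk2 : k ≠ 2)
    (hqk : q % k = 2) (hpow : ∀ i : ℕ, 2 ^ i < q → 2 ^ i % k = 2 → i = 1)
    (hK : (CC (S : Subgroup G)).relIndex (NN (S : Subgroup G)) = r * k)
    (hnn : NN (S : Subgroup G) ≠ ⊤) :
    ∃ (G0 : Subgroup G) (F : Type) (_ : Field F) (_ : Fintype F), G0.Normal ∧ Fintype.card F = q ∧
      Nonempty (G0 ≃* Matrix.ProjectiveSpecialLinearGroup (Fin 2) F) ∧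
      ∃ y : G, y ∉ G0 ∧ orderOf y = k := by
  have hkp : k.Prime := Fact.out
  have hkpos := hkp.pos
  have hk3 : 3 ≤ k := by have := hkp.two_le; omega
  have hkr' : k.Coprime r := (Nat.coprime_primes hkp hr).2 (by omega)
  have : Fact (Nat.Prime 2) := ⟨Nat.prime_two⟩
  have := Fact.mk hr
  obtain ⟨t, ht, ht1⟩ := h.exists_ne_one
  have ht2 := h.orderOf_mem ht ht1
  set N := NN (S : Subgroup G) with hN
  set C' := (CC (S : Subgroup G)).subgroupOf N with hC'
  have hCn : C'.Normal := h.cc_normal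
  have hmem' : ∀ x : N, x ∈ C' ↔ (x : G) ∈ CC (S : Subgroup G) := fun x => Iff.rfl
  -- the stabiliser of `t`
  obtain ⟨hKt, hCt, hCtN⟩ := h.K_eq ht ht1
  have hst : (CC (S : Subgroup G)).relIndex (Subgroup.centralizer ({t} : Set G)) = k := by
    rw [hK, show q - 1 = r by omega, mul_comm r k] at hKt
    exact (Nat.eq_of_mul_eq_mul_right hr.pos hKt).symm
  have hpowk : ∀ u ∈ (S : Subgroup G), u ≠ 1 → ∀ x : G, x * u = u * x → x ^ k ∈ CC (S : Subgroup G) := by
    intro u hu hu1 x hx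
    obtain ⟨hKu, hCu, hCuN⟩ := h.K_eq hu hu1
    have hxu : x ∈ Subgroup.centralizer ({u} : Set G) :=
      Subgroup.mem_centralizer_iff.2 (by rintro y rfl; exact hx.symm)
    have hidx : ((CC (S : Subgroup G)).subgroupOf (Subgroup.centralizer ({u} : Set G))).index = k := by
      rw [hK, show q - 1 = r by omega, mul_comm r k] at hKu
      exact (Nat.eq_of_mul_eq_mul_right hr.pos hKu).symm
    have : ((CC (S : Subgroup G)).subgroupOf (Subgroup.centralizer ({u} : Set G))).Normal :=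
      ⟨fun w hw g => hCn.conj_mem ⟨w, CC_le_NN _ hw⟩ hw ⟨g, hCuN g.2⟩⟩
    have h1 := Subgroup.pow_index_mem ((CC (S : Subgroup G)).subgroupOf (Subgroup.centralizer ({u} : Set G))) ⟨x, hxu⟩
    rw [hidx] at h1
    simpa [Subgroup.mem_subgroupOf] using h1
  -- the Sylow `r`-subgroup of `N / C(P)`
  have hKc : Nat.card (↥N ⧸ C') = r * k := hK
  obtain ⟨R, hRn, hRc⟩ : ∃ R : Subgroup (↥N ⧸ C'), R.Normal ∧ Nat.card R = r := by
    obtain ⟨Q⟩ : Nonempty (Sylow r (↥N ⧸ C')) := inferInstance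
    have hQc : Nat.card (Q : Subgroup (↥N ⧸ C')) = r := by
      rw [Q.card_eq_multiplicity, hKc, Nat.factorization_mul hr.ne_zero hkp.ne_zero, Finsupp.add_apply,
        hr.factorization_self, Nat.factorization_eq_zero_of_not_dvd (fun hd => by
          have := (Nat.prime_dvd_prime_iff_eq hr hkp).1 hd
          omega), pow_one]
    have hidx : (Q : Subgroup (↥N ⧸ C')).index = k := by
      have h1 := (Q : Subgroup (↥N ⧸ C')).card_mul_index
      rw [hQc, hKc] at h1
      exact Nat.eq_of_mul_eq_mul_left hr.pos h1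
    have hone : Nat.card (Sylow r (↥N ⧸ C')) = 1 := by
      have h1 : Nat.card (Sylow r (↥N ⧸ C')) ∣ k := hidx ▸ Q.card_dvd_index
      have h2 := card_sylow_modEq_one r (↥N ⧸ C')
      rcases hkp.eq_one_or_self_of_dvd _ h1 with h3 | h3
      · exact h3
      · rw [h3] at h2
        have := Nat.ModEq.eq_of_lt_of_lt h2 hkr hr.one_lt
        omega
    have : Subsingleton (Sylow r (↥N ⧸ C')) := (Nat.card_eq_one_iff_unique.1 hone).1
    exact ⟨Q, Sylow.normal_of_subsingleton Q, hQc⟩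
  have := hRn
  have hAc : Nat.card ((↥N ⧸ C') ⧸ R) = k := by
    have h1 := R.card_mul_index
    rw [hRc, hKc] at h1
    exact Nat.eq_of_mul_eq_mul_left hr.pos h1
  have : IsCyclic ((↥N ⧸ C') ⧸ R) := isCyclic_of_prime_card hAc
  letI : CommGroup ((↥N ⧸ C') ⧸ R) := IsCyclic.commGroup
  let ψ : N →* (↥N ⧸ C') ⧸ R := (QuotientGroup.mk' R).comp (QuotientGroup.mk' C')
  have hψC : ∀ x : N, (x : G) ∈ CC (S : Subgroup G) → ψ x = 1 := fun x hx => by
    show QuotientGroup.mk' R (QuotientGroup.mk' C' x) = 1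
    rw [show QuotientGroup.mk' C' x = 1 from (QuotientGroup.eq_one_iff x).2 hx, map_one]
  have hψr : ∀ x : N, ψ x = 1 → (x : G) ^ r ∈ CC (S : Subgroup G) := by
    intro x hx
    have h1 : (x : ↥N ⧸ C') ∈ R := (QuotientGroup.eq_one_iff _).1 hx
    have h2 : (x : ↥N ⧸ C') ^ r = 1 := by
      have := congrArg Subtype.val (pow_card_eq_one' (x := (⟨_, h1⟩ : R)))
      rwa [hRc] at this
    rw [← QuotientGroup.mk_pow] at h2
    simpa [hC', Subgroup.mem_subgroupOf] using (QuotientGroup.eq_one_iff _).1 h2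
  have hψk : ∀ x : N, ψ x ^ k = 1 := fun x => hAc ▸ pow_card_eq_one'
  -- the element `y`
  obtain ⟨z, hz, hzC⟩ : ∃ z ∈ Subgroup.centralizer ({t} : Set G), z ∉ CC (S : Subgroup G) := by
    by_contra hcon
    push Not at hcon
    have := hkp.ne_one
    exact this (hst ▸ Subgroup.relIndex_eq_one.2 hcon)
  obtain ⟨a, m, hm, hzm⟩ := Nat.exists_eq_pow_mul_and_not_dvd (orderOf_pos z).ne' k hkp.ne_one
  set y := z ^ m with hy
  have hyt : y * t = t * y :=
    (Subgroup.mem_centralizer_iff.1 (pow_mem hz m) t rfl).symm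
  have hyN : y ∈ N := hCtN (pow_mem hz m)
  have hyka : y ^ k ^ a = 1 := by rw [hy, ← pow_mul, mul_comm, ← hzm, pow_orderOf_eq_one]
  have gcdmem : ∀ {x : G} {i j : ℕ}, i.Coprime j → x ^ i ∈ CC (S : Subgroup G) →
      x ^ j ∈ CC (S : Subgroup G) → x ∈ CC (S : Subgroup G) := by
    intro x i j hij hi hj
    obtain ⟨u, v, huv⟩ : ∃ u v : ℤ, (i : ℤ) * u + j * v = 1 :=
      ⟨Nat.gcdA i j, Nat.gcdB i j, by rw [← Nat.gcd_eq_gcd_ab, hij.gcd_eq_one]; rfl⟩
    rw [← zpow_one x, ← huv, zpow_add, zpow_mul, zpow_mul, zpow_natCast, zpow_natCast]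
    exact mul_mem (zpow_mem hi u) (zpow_mem hj v)
  have hyC : y ∉ CC (S : Subgroup G) := fun hyC => hzC <| gcdmem
    ((hkp.coprime_iff_not_dvd.2 hm).symm) hyC
    (hpowk t ht ht1 z (Subgroup.mem_centralizer_iff.1 hz t rfl).symm)
  have hy1 : y ≠ 1 := fun e => hyC (e ▸ one_mem _)
  have hψy : ψ ⟨y, hyN⟩ ≠ 1 := fun e => hyC <| gcdmem
    ((hkr'.pow_left a).symm) (hψr _ e) (by rw [hyka]; exact one_mem _)
  -- fixed points of `k`-elements
  have hfix : ∀ e ∈ N, ∀ b : ℕ, e ^ k ^ b = 1 → ∃ u ∈ (S : Subgroup G), u ≠ 1 ∧ u * e = e * u := by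
    intro e he b heb
    have h1 := h.fixed_count he heb
    by_contra hcon
    push Not at hcon
    have h2 : (S : Subgroup G) ⊓ Subgroup.centralizer ({e} : Set G) = ⊥ := by
      refine (Subgroup.eq_bot_iff_forall _).2 fun u hu => ?_
      by_contra hu1
      exact hcon u hu.1 hu1 (Subgroup.mem_centralizer_iff.1 hu.2 e rfl).symm
    rw [h2, Subgroup.card_bot] at h1
    have h3 : 1 % k = q % k := h1
    rw [Nat.one_mod_eq_one.2 (by omega), hqk] at h3
    omega
  -- strong embedding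
  have hse : Cfsg.IsStronglyEmbedded N := by
    refine ⟨hnn, even_card_of_involution_mem ht2 (Subgroup.le_normalizer ht), fun g hg => ?_⟩
    refine Nat.not_even_iff_odd.1 fun he => hg ?_
    obtain ⟨i, ⟨hiH, hig⟩, hi⟩ := exists_involution_of_even he
    have hjo : orderOf (g⁻¹ * i * g) = 2 := by simpa using (orderOf_conj g⁻¹ i).trans hi
    have hiS := h.two_mem hiH (k := 1) (by rw [pow_one, pow_two, involution_mul_self hi])
    have hjS := h.two_mem (mem_conj_iff.1 hig) (k := 1) (by rw [pow_one, pow_two, involution_mul_self hjo])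
    refine mem_NN.2 fun u hu => ?_
    have hc : g * u * g⁻¹ ∈ N := h.cent_le hiS (involution_ne_one hi) (by
      have := h.comm u hu _ hjS
      calc g * u * g⁻¹ * i = g * (u * (g⁻¹ * i * g)) * g⁻¹ := by group
        _ = g * (g⁻¹ * i * g * u) * g⁻¹ := by rw [this]
        _ = i * (g * u * g⁻¹) := by group)
    exact h.two_mem hc (k := 1)
      (by rw [pow_one, pow_two, show g * u * g⁻¹ * (g * u * g⁻¹) = g * (u * u) * g⁻¹ by group,
        h.sq u hu, mul_one, mul_inv_cancel])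
  -- the transfer
  let V : G →* (↥N ⧸ C') ⧸ R := MonoidHom.transfer ψ
  have key : ∀ e, ∀ he : e ∈ N, ∀ b : ℕ, e ^ k ^ b = 1 → V e = ψ ⟨e, he⟩ ^ N.index := by
    intro e he b heb
    refine transfer_eq_map_pow ψ he fun j g₀ hj => ?_
    have hej : (e ^ j) ^ k ^ b = 1 := by rw [← pow_mul, mul_comm, pow_mul, heb, one_pow]
    have hek : (g₀⁻¹ * e ^ j * g₀) ^ k ^ b = 1 := by
      have := conj_pow (i := k ^ b) (a := g₀⁻¹) (b := e ^ j)
      rw [inv_inv] at this
      rw [this, hej, mul_one, inv_mul_cancel]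
    obtain ⟨t1, ht1S, ht11, ht1c⟩ := hfix _ (pow_mem he j) b hej
    obtain ⟨t', ht'S, ht'1, ht'c⟩ := hfix _ hj b hek
    set u := g₀ * t' * g₀⁻¹ with hu
    have ht1o := h.orderOf_mem ht1S ht11
    have huo : orderOf u = 2 := (orderOf_conj g₀ t').trans (h.orderOf_mem ht'S ht'1)
    have hue : u * e ^ j = e ^ j * u := by
      calc u * e ^ j = g₀ * (t' * (g₀⁻¹ * e ^ j * g₀)) * g₀⁻¹ := by rw [hu]; group
        _ = g₀ * (g₀⁻¹ * e ^ j * g₀ * t') * g₀⁻¹ := by rw [ht'c]
        _ = e ^ j * u := by rw [hu]; group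
    obtain ⟨g₁, hg₁, hcm⟩ : ∃ g₁ ∈ N, g₀⁻¹ * e ^ j * g₀ = g₁⁻¹ * e ^ j * g₁ := by
      rcases Nat.even_or_odd (orderOf (t1 * u)) with heven | hodd
      · obtain ⟨w, -, hwo, hwt, hwu⟩ := exists_commuting_of_even ht1o huo heven
        have hwN : w ∈ N := h.cent_le ht1S ht11 hwt.symm
        refine ⟨g₀, ?_, rfl⟩
        have huN : u ∈ N := h.cent_le (h.two_mem hwN (k := 1) (by rw [pow_one, pow_two, involution_mul_self hwo]))
          (involution_ne_one hwo) hwu
        exact mem_of_conj_mem hse (h.orderOf_mem ht'S ht'1) (Subgroup.le_normalizer ht'S) huN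
      · obtain ⟨w, hw, hwtu⟩ := exists_conj_of_odd ht1o huo hodd
        have hwe : Commute w (e ^ j) := by
          obtain ⟨i, rfl⟩ := hw
          exact Commute.zpow_left ((show Commute t1 (e ^ j) from ht1c).mul_left hue) i
        refine ⟨w⁻¹ * g₀, ?_, ?_⟩
        · refine mem_of_conj_mem hse (h.orderOf_mem ht'S ht'1) (Subgroup.le_normalizer ht'S) ?_
          have e1 : w⁻¹ * g₀ * t' * (w⁻¹ * g₀)⁻¹ = t1 := by
            calc w⁻¹ * g₀ * t' * (w⁻¹ * g₀)⁻¹ = w⁻¹ * u * w := by rw [hu]; group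
              _ = w⁻¹ * (w * t1 * w⁻¹) * w := by rw [hwtu]
              _ = t1 := by group
          rw [e1]
          exact Subgroup.le_normalizer ht1S
        · calc g₀⁻¹ * e ^ j * g₀ = g₀⁻¹ * (e ^ j * w * w⁻¹) * g₀ := by group
            _ = g₀⁻¹ * (w * e ^ j * w⁻¹) * g₀ := by rw [hwe.eq]
            _ = _ := by group
    have : (⟨g₀⁻¹ * e ^ j * g₀, hj⟩ : N) = ⟨g₁, hg₁⟩⁻¹ * ⟨e ^ j, pow_mem he j⟩ * ⟨g₁, hg₁⟩ :=
      Subtype.ext hcm
    rw [this, map_mul, map_mul, map_inv, mul_right_comm, inv_mul_cancel, one_mul]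
  -- `k` is prime to the index
  have hn : ¬ k ∣ N.index := by
    have hD : ∀ p : ℕ, p.Prime → ∀ A B : Subgroup G, IsPGroup p A → IsPGroup p B →
        Nat.card A = Nat.card B → ∃ g : G, B = A.map (MulAut.conj g).toMonoidHom :=
      fun _ _ A B _ _ e => h.good A B e
    have hyP : IsPGroup k (Subgroup.zpowers y) := by
      obtain ⟨j, -, hj⟩ := (Nat.dvd_prime_pow hkp).mp (orderOf_dvd_of_pow_eq_one hyka)
      exact IsPGroup.of_card (n := j) (by rw [Nat.card_zpowers, hj])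
    obtain ⟨Q, hQy⟩ := hyP.exists_le_sylow
    have hQab : ∀ a ∈ (Q : Subgroup G), ∀ b ∈ (Q : Subgroup G), a * b = b * a := by
      rcases S4020.result hD Q with hc | he | ⟨⟨e⟩⟩
      · obtain ⟨g, hg⟩ := IsCyclic.exists_generator (α := Q)
        intro a ha b hb
        obtain ⟨i, hi⟩ := hg ⟨a, ha⟩
        obtain ⟨j, hj⟩ := hg ⟨b, hb⟩
        rw [← show (g : G) ^ i = a from congrArg Subtype.val hi,
          ← show (g : G) ^ j = b from congrArg Subtype.val hj]
        exact (Commute.zpow_zpow_self _ i j).eq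
      · exact fun a ha b hb => congrArg Subtype.val (he.1.is_comm.comm (⟨a, ha⟩ : (Q : Subgroup G)) ⟨b, hb⟩)
      · exfalso
        have h8 : Nat.card (Q : Subgroup G) = 8 := by
          rw [Nat.card_congr e.toEquiv, Nat.card_eq_fintype_card, QuaternionGroup.card]
        obtain ⟨n, hn⟩ := IsPGroup.iff_card.1 Q.2
        rw [h8] at hn
        have h2 : 2 ∣ k ^ n := hn ▸ ⟨4, rfl⟩
        exact hk2 ((Nat.prime_dvd_prime_iff_eq Nat.prime_two hkp).1 (Nat.prime_two.dvd_of_dvd_pow h2)).symm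
    set Cy := Subgroup.centralizer ({y} : Set G) with hCy
    have memCy : ∀ {x : G}, x ∈ Cy ↔ y * x = x * y := fun {x} => by
      rw [hCy, Subgroup.mem_centralizer_iff]
      exact ⟨fun hx => hx y rfl, fun hx w hw => by rw [Set.mem_singleton_iff.1 hw, hx]⟩
    have htCy : t ∈ Cy := memCy.2 hyt
    have hF : Nat.card ↥((S : Subgroup G) ⊓ Cy) = 2 := by
      have h1 := h.fixed_count hyN hyka
      obtain ⟨i, hi⟩ := IsPGroup.iff_card.1 (IsPGroup.to_le S.2 (inf_le_left : (S : Subgroup G) ⊓ Cy ≤ S))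
      have hlt : Nat.card ↥((S : Subgroup G) ⊓ Cy) < q := by
        rw [← h.cardS]
        refine lt_of_le_of_ne (Nat.le_of_dvd Nat.card_pos (Subgroup.card_dvd_of_le inf_le_left)) fun e => ?_
        refine hyC (mem_CC.2 fun u hu => ?_)
        have h2 := Subgroup.eq_of_le_of_card_ge (inf_le_left : (S : Subgroup G) ⊓ Cy ≤ S) e.ge
        exact (memCy.1 ((h2.symm ▸ hu : u ∈ (S : Subgroup G) ⊓ Cy).2)).symm
      rw [hi] at h1 hlt ⊢
      have h3 : 2 ^ i % k = 2 := by rw [h1, hqk]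
      rw [hpow i hlt h3, pow_one]
    have htS : IsPGroup 2 (Subgroup.zpowers (⟨t, htCy⟩ : Cy)) :=
      IsPGroup.of_card (n := 1) (by rw [Nat.card_zpowers, Subgroup.orderOf_mk, ht2, pow_one])
    obtain ⟨T, hT⟩ := htS.exists_le_sylow
    have hTF : ∀ x ∈ (T : Subgroup Cy), (x : G) ∈ (S : Subgroup G) ⊓ Cy := by
      intro x hx
      have hTG : IsPGroup 2 ((T : Subgroup Cy).map Cy.subtype) := T.2.map _
      obtain ⟨S1, hS1⟩ := hTG.exists_le_sylow
      obtain ⟨g, hg⟩ := MulAction.exists_smul_eq G S S1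
      have hm : ∀ w ∈ (S1 : Subgroup G), g⁻¹ * w * g ∈ (S : Subgroup G) := fun w hw => by
        rw [← hg, Sylow.coe_subgroup_smul, Subgroup.mem_pointwise_smul_iff_inv_smul_mem] at hw
        simpa [MulAut.smul_def] using hw
      have ha := hm _ (hS1 (Subgroup.mem_map_of_mem _ hx))
      have hb := hm _ (hS1 (Subgroup.mem_map_of_mem _ (hT (Subgroup.mem_zpowers (⟨t, htCy⟩ : Cy)))))
      have hab := h.comm _ ha _ hb
      have hxt : (x : G) * t = t * x := by
        calc (x : G) * t = g * ((g⁻¹ * x * g) * (g⁻¹ * t * g)) * g⁻¹ := by group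
          _ = g * ((g⁻¹ * t * g) * (g⁻¹ * x * g)) * g⁻¹ := by
            simp only [Subgroup.coe_subtype] at hab
            rw [hab]
          _ = t * x := by group
      obtain ⟨j, hj⟩ := T.2 ⟨x, hx⟩
      exact ⟨h.two_mem (h.cent_le ht ht1 hxt) (k := j) (by simpa using congrArg (fun w : (T : Subgroup Cy) => ((w : Cy) : G)) hj), x.2⟩
    have hTc : Nat.card (T : Subgroup Cy) ≤ 2 := by
      refine le_of_le_of_eq ?_ hF
      exact Nat.card_le_card_of_injective (fun x => (⟨((x : Cy) : G), hTF x x.2⟩ : ↥((S : Subgroup G) ⊓ Cy)))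
        fun x y e => Subtype.ext (Subtype.ext (congrArg (fun w : ↥((S : Subgroup G) ⊓ Cy) => (w : G)) e))
    have hTeq : (T : Subgroup Cy) = Subgroup.zpowers (⟨t, htCy⟩ : Cy) :=
      (Subgroup.eq_of_le_of_card_ge hT (by rw [Nat.card_zpowers, Subgroup.orderOf_mk, ht2]; exact hTc)).symm
    obtain ⟨W, hWn, hWmem, -⟩ := exists_oddPart T (fun x hx => by
      refine mem_CC.2 fun u hu => ?_
      have hxu := (mem_NN.1 hx) u hu
      by_cases hu1 : u = 1
      · rw [hu1, one_mul, mul_one]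
      have hall : ∀ w ∈ (T : Subgroup Cy), w = 1 ∨ w = ⟨t, htCy⟩ := by
        intro w hw
        rw [hTeq] at hw
        obtain ⟨j, rfl⟩ := hw
        have h2 : (⟨t, htCy⟩ : Cy) ^ (2 : ℤ) = 1 := by
          rw [zpow_two]; exact Subtype.ext (involution_mul_self ht2)
        rcases Int.even_or_odd j with ⟨i, rfl⟩ | ⟨i, rfl⟩
        · left; show (⟨t, htCy⟩ : Cy) ^ (i + i) = 1; rw [← two_mul, zpow_mul, h2, one_zpow]
        · right; show (⟨t, htCy⟩ : Cy) ^ (2 * i + 1) = _; rw [zpow_add, zpow_mul, h2, one_zpow, one_mul, zpow_one]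
      have hu' := (hall u hu).resolve_left hu1
      rcases hall _ hxu with e | e
      · exact absurd (conj_eq_one_iff.1 e) hu1
      · rw [← hu'] at e
        exact (mul_inv_eq_iff_eq_mul.1 e).symm)
    have hQCy : (Q : Subgroup G) ≤ Cy := fun a ha =>
      memCy.2 (hQab y (hQy (Subgroup.mem_zpowers y)) a ha)
    set Q' : Sylow k Cy := Q.subtype hQCy with hQ'
    have hQW : (Q' : Subgroup Cy) ≤ W := fun x hx => (hWmem x).2 (by
      obtain ⟨j, hj⟩ := IsPGroup.iff_orderOf.1 Q'.2 ⟨x, hx⟩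
      rw [Subgroup.orderOf_mk] at hj
      rw [hj]
      exact Odd.pow (hkp.odd_of_ne_two hk2))
    have := hWn
    have hfr := Sylow.normalizer_sup_eq_top' Q' hQW
    obtain ⟨w, hw, hweven⟩ : ∃ w ∈ NN (Q' : Subgroup Cy), Even (orderOf w) := by
      by_contra hcon
      push Not at hcon
      have hle : NN (Q' : Subgroup Cy) ≤ W := fun w hw => (hWmem w).2 (Nat.not_even_iff_odd.1 (hcon w hw))
      have htW : (⟨t, htCy⟩ : Cy) ∈ W :=
        (sup_le (show Subgroup.normalizer (Q' : Set Cy) ≤ W from hle) le_rfl) (hfr.ge (Subgroup.mem_top _))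
      have := (hWmem _).1 htW
      rw [Subgroup.orderOf_mk, ht2] at this
      exact absurd this (by decide)
    set i : Cy := w ^ (orderOf w / 2) with hi
    have hio : orderOf (i : G) = 2 := by
      rw [Subgroup.orderOf_coe, hi, orderOf_pow_orderOf_div (orderOf_pos w).ne' hweven.two_dvd]
    have hiQ : (i : G) ∈ NN (Q : Subgroup G) := mem_NN.2 fun a ha =>
      (mem_NN.1 (pow_mem hw (orderOf w / 2))) ⟨a, hQCy ha⟩ ha
    obtain ⟨b, hb⟩ := IsPGroup.iff_orderOf.1 hyP ⟨y, Subgroup.mem_zpowers y⟩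
    rw [Subgroup.orderOf_mk] at hb
    have hyord : orderOf (y ^ (orderOf y / k)) = k := by
      refine orderOf_pow_orderOf_div (orderOf_pos y).ne' ?_
      rw [hb]
      refine dvd_pow_self k ?_
      rintro rfl
      exact hy1 (orderOf_eq_one_iff.1 (by rw [hb, pow_zero]))
    have hcent := h.good.centralizes hkp hk2 ht2 hyord
      ((show Commute t y from hyt.symm).pow_right _).eq hio Q.2 hiQ
    obtain ⟨g, hg⟩ := h.invol_conj hio
    have hg1 : g⁻¹ * (i : G) * g ≠ 1 := fun e => involution_ne_one hio (by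
      have := congrArg (fun x => g * x * g⁻¹) e
      simpa [mul_assoc] using this)
    have hle : ((g⁻¹ • Q : Sylow k G) : Subgroup G) ≤ N := by
      intro x hx
      rw [Sylow.coe_subgroup_smul, Subgroup.mem_pointwise_smul_iff_inv_smul_mem] at hx
      have hx' : g * x * g⁻¹ ∈ (Q : Subgroup G) := by simpa [MulAut.smul_def] using hx
      refine h.cent_le hg hg1 ?_
      have := hcent _ hx'
      calc x * (g⁻¹ * (i : G) * g) = g⁻¹ * ((g * x * g⁻¹) * i) * g := by group
        _ = g⁻¹ * ((i : G) * (g * x * g⁻¹)) * g := by rw [this]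
        _ = g⁻¹ * (i : G) * g * x := by group
    exact fun hd => Sylow.not_dvd_index (g⁻¹ • Q) (hd.trans (Subgroup.index_dvd_of_le hle))
  -- `V` kills involutions and `D`
  have hVk : ∀ x : G, V x ^ k = 1 := fun x => hAc ▸ pow_card_eq_one'
  have hoddk : Odd k := hkp.odd_of_ne_two hk2
  have hVi : ∀ i : G, orderOf i = 2 → V i = 1 := fun i hi =>
    eq_one_of_odd_sq (hoddk.of_dvd_nat (orderOf_dvd_of_pow_eq_one (hVk i)))
      (by rw [← map_mul, involution_mul_self hi, map_one])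
  have hVN : ∀ x, ∀ hx : x ∈ N, V x = 1 → ψ ⟨x, hx⟩ = 1 := by
    intro x hx hVx
    obtain ⟨b, m, hm, hxm⟩ := Nat.exists_eq_pow_mul_and_not_dvd (orderOf_pos x).ne' k hkp.ne_one
    have hmk : (x ^ m) ^ k ^ b = 1 := by rw [← pow_mul, mul_comm, ← hxm, pow_orderOf_eq_one]
    have h1 : ψ ⟨x ^ m, pow_mem hx m⟩ ^ N.index = 1 := by
      rw [← key _ (pow_mem hx m) b hmk, map_pow, hVx, one_pow]
    have h1' : ψ ⟨x, hx⟩ ^ (m * N.index) = 1 := by
      rw [pow_mul, ← map_pow]; exact h1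
    have h2 := orderOf_dvd_of_pow_eq_one (hψk ⟨x, hx⟩)
    have h3 := orderOf_dvd_of_pow_eq_one h1'
    refine orderOf_eq_one_iff.1 (Nat.eq_one_of_dvd_coprimes ?_ h2 h3)
    exact Nat.Coprime.mul_right (hkp.coprime_iff_not_dvd.2 hm) (hkp.coprime_iff_not_dvd.2 hn)
  have hVD : ∀ x ∈ D, V x = 1 := by
    intro x hx
    obtain ⟨b, m, hm, hxm⟩ := Nat.exists_eq_pow_mul_and_not_dvd (orderOf_pos x).ne' k hkp.ne_one
    have hxN : x ^ m ∈ N := CC_le_NN _ (h.D_le (pow_mem hx m))
    have h1 : V x ^ m = 1 := by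
      rw [← map_pow, key _ hxN b (by rw [← pow_mul, mul_comm, ← hxm, pow_orderOf_eq_one]),
        hψC _ (h.D_le (pow_mem hx m)), one_pow]
    exact orderOf_eq_one_iff.1 (Nat.eq_one_of_dvd_coprimes (hkp.coprime_iff_not_dvd.2 hm)
      (orderOf_dvd_of_pow_eq_one (hVk x)) (orderOf_dvd_of_pow_eq_one h1))
  set G0 := V.ker with hG0
  have hSG : (S : Subgroup G) ≤ G0 := fun u hu => by
    by_cases hu1 : u = 1
    · rw [hu1]; exact one_mem _
    · exact hVi u (h.orderOf_mem hu hu1)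
  have hccG : ∀ {x : G0}, x ∈ CC ((S : Subgroup G).subgroupOf G0) ↔ (x : G) ∈ CC (S : Subgroup G) := by
    intro x
    rw [mem_CC, mem_CC]
    exact ⟨fun hx u hu => congrArg Subtype.val (hx ⟨u, hSG hu⟩ hu), fun hx u hu => Subtype.ext (hx u hu)⟩
  have hnnG : ∀ {x : G0}, x ∈ NN ((S : Subgroup G).subgroupOf G0) ↔ (x : G) ∈ N := by
    intro x
    rw [mem_NN, hN, mem_NN]
    exact ⟨fun hx u hu => hx ⟨u, hSG hu⟩ hu, fun hx u hu => hx u hu⟩
  have hyG : y ∉ G0 := fun e => hψy (hVN y hyN e)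
  have hinR : ∀ x : N, (x : G) ∈ G0 → (x : ↥N ⧸ C') ∈ R := fun x hx =>
    (QuotientGroup.eq_one_iff _).1 (hVN x x.2 hx)
  have hyp0 : Hyp ((S : Subgroup G).subgroupOf G0) (D.subgroupOf G0) r :=
    { two := S.2.of_equiv (Subgroup.subgroupOfEquivOfLe hSG).symm
      oddIdx := (Nat.odd_iff.2 (Nat.two_dvd_ne_zero.1 S.not_dvd_index)).of_dvd_nat
        (Subgroup.relIndex_dvd_index_of_le hSG)
      comm := fun a ha b hb => Subtype.ext (h.comm a ha b hb)
      sq := fun a ha => Subtype.ext (h.sq a ha)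
      cardP := (Nat.card_congr (Subgroup.subgroupOfEquivOfLe hSG).toEquiv).trans (h.cardS.trans hq)
      prime := hr
      three := by omega
      nn := by
        intro e
        refine hnn (eq_top_iff.2 fun g _ => mem_NN.2 fun u hu => ?_)
        by_cases hu1 : u = 1
        · simp [hu1]
        have ho : orderOf (g * u * g⁻¹) = 2 := (orderOf_conj g u).trans (h.orderOf_mem hu hu1)
        have hmem : g * u * g⁻¹ ∈ N := hnnG.1 (e ▸ Subgroup.mem_top (⟨_, hVi _ ho⟩ : G0))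
        exact h.two_mem hmem (k := 1) (by rw [pow_one, pow_two, involution_mul_self ho])
      cent := fun u hu hu1 c hc => by
        have hu1' : (u : G) ≠ 1 := fun e => hu1 (Subtype.ext e)
        have hc' : (c : G) * u = u * c := congrArg Subtype.val hc
        have hcN := h.cent_le hu hu1' hc'
        exact hccG.2 (gcdmem hkr'.symm (hψr ⟨c, hcN⟩ (hVN c hcN c.2)) (hpowk u hu hu1' c hc'))
      memD := fun c => by
        rw [Subgroup.mem_subgroupOf, h.memD, hccG, Subgroup.orderOf_coe]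
      powr := fun x hx => hccG.2 (by simpa using hψr ⟨x, hnnG.1 hx⟩ (hVN x (hnnG.1 hx) x.2))
      gen := fun x hx hxn w hw => by
        set x' : N := ⟨x, hnnG.1 hx⟩ with hx'
        set w' : N := ⟨w, hnnG.1 hw⟩ with hw'
        let a : R := ⟨_, hinR x' x.2⟩
        let b : R := ⟨_, hinR w' w.2⟩
        have ha : a ≠ 1 := fun e => hxn (hccG.2 ((QuotientGroup.eq_one_iff x').1 (congrArg Subtype.val e)))
        obtain ⟨i, hi⟩ := (Submonoid.mem_powers_iff _ _).1
          (mem_powers_iff_mem_zpowers.2 (mem_zpowers_of_prime_card hRc (g := a) (g' := b⁻¹) ha))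
        refine ⟨i, hccG.2 ?_⟩
        have h1 : ((w' * x' ^ i : N) : ↥N ⧸ C') = 1 := by
          have h2 : ((b * a ^ i : R) : ↥N ⧸ C') = 1 := by rw [hi, mul_inv_cancel]; rfl
          simpa [a, b] using h2
        simpa [hC', Subgroup.mem_subgroupOf, hx', hw'] using (QuotientGroup.eq_one_iff _).1 h1
      noinv := fun s s' hs hs' => by
        have := h.good.coprime_D h.D_le h.oddD ht ht2 (s : G) (s' : G)
          (by rwa [Subgroup.orderOf_coe]) (by rwa [Subgroup.orderOf_coe])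
        rw [← Subgroup.coe_mul, Subgroup.orderOf_coe] at this
        rwa [Nat.card_congr (Subgroup.subgroupOfEquivOfLe (fun x hx => hVD x hx : D ≤ G0)).toEquiv]
      abSyl := fun p hp A hA hAp a ha b hb => Subtype.ext
        (h.abSylD (fun _ _ H K _ _ e => h.good H K e) p hp (A.map G0.subtype)
          ((Subgroup.map_mono hA).trans (Subgroup.map_comap_le _ _))
          (hAp.map _) a (Subgroup.mem_map_of_mem _ ha) b (Subgroup.mem_map_of_mem _ hb)) }
  have hD0 := hyp0.normal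
  have hGn : G0.Normal := MonoidHom.normal_ker _
  have hDn : D.Normal := by
    have htop := Sylow.normalizer_sup_eq_top' S hSG
    refine ⟨fun d hd g => ?_⟩
    have hle : N ⊔ G0 ≤ NN D := sup_le (fun x hx => mem_NN.2 fun d hd => h.conj_D hx hd)
      (fun x hx => mem_NN.2 fun d hd => by
        simpa [Subgroup.mem_subgroupOf] using hD0.conj_mem ⟨d, hVD d hd⟩ hd ⟨x, hx⟩)
    exact (mem_NN.1 (hle (htop ▸ Subgroup.mem_top g))) d hd
  have hDb := h.D_bot hDn
  obtain ⟨F, _, _, hF, he⟩ := psl_of_hyp hyp0 (by rw [hDb]; exact Subgroup.bot_subgroupOf _)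
  refine ⟨G0, F, inferInstance, inferInstance, hGn, hF.trans hq.symm, he, y, hyG, ?_⟩
  have hyk := hpowk t ht ht1 y hyt
  rw [h.cc_eq hDb] at hyk
  have h1 : (y ^ k) * y ^ k = 1 := h.sq _ hyk
  have h2 : orderOf (y ^ k) ∣ k ^ a := (orderOf_pow_dvd k).trans (orderOf_dvd_of_pow_eq_one hyka)
  exact orderOf_eq_prime (eq_one_of_odd_sq (hoddk.pow.of_dvd_nat h2) h1) hy1

end Ctx

end Cfsg.Agent.EqOrderConj59
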