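import Mathlib
import Cfsg.Agent.Lib.EqOrderConj59Comp
import Cfsg.Agent.Lib.DicksonSmall
import Cfsg.Agent.Lib.PSL2Small
import Cfsg.Agent.Lib.AutPSLApi
import Cfsg.Agent.Lib.ChevAutGalois
import Cfsg.Agent.S0205

/-!
The groups with elementary abelian Sylow `2`-subgroups and conjugate subgroups of equal order.
-/

set_option autoImplicit false

namespace Cfsg.Agent.EqOrderConj59

open Cfsg.Agent.SignalizerStrongEmb
open scoped MatrixGroups

universe u

theorem card_affine {F : Type*} [Field F] [Fintype F] {q : ℕ} (hF : Fintype.card F = q) :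
    Nat.card ↥(Cfsg.affineGroup F) = q * (q - 1) := by
  classical
  let f : F × Fˣ → ↥(Cfsg.affineGroup F) := fun t =>
    ⟨(Units.mulLeft t.2).trans (Equiv.addRight t.1), t.2, t.1, fun x => rfl⟩
  have hf : Function.Bijective f := by
    constructor
    · intro a b hab
      have e : ∀ x : F, (a.2 : F) * x + a.1 = (b.2 : F) * x + b.1 := fun x =>
        congrArg (fun σ : ↥(Cfsg.affineGroup F) => (σ : Equiv.Perm F) x) hab
      have h0 : a.1 = b.1 := by simpa using e 0
      have h1 : (a.2 : F) = b.2 := by simpa [h0] using e 1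
      exact Prod.ext h0 (Units.ext h1)
    · rintro ⟨s, a, b, hs⟩
      exact ⟨(b, a), Subtype.ext (Equiv.ext fun x => (hs x).symm)⟩
  rw [← Nat.card_eq_of_bijective f hf, Nat.card_prod, Nat.card_eq_fintype_card, hF,
    Nat.card_eq_fintype_card, Fintype.card_units, hF]

theorem card_semiaffine {F : Type*} [Field F] [Fintype F] {p n : ℕ} [Fact p.Prime] [CharP F p]
    (hF : Fintype.card F = p ^ n) :
    Nat.card ↥(Cfsg.semiaffineGroup F) = p ^ n * (p ^ n - 1) * n := by
  classical
  haveI : Finite (F ≃+* F) := Finite.of_injective (fun σ => (σ : F → F)) DFunLike.coe_injective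
  let f : F × Fˣ × (F ≃+* F) → ↥(Cfsg.semiaffineGroup F) := fun t =>
    ⟨(t.2.2.toEquiv.trans (Units.mulLeft t.2.1)).trans (Equiv.addRight t.1),
      t.2.1, t.1, t.2.2, fun x => rfl⟩
  have hf : Function.Bijective f := by
    constructor
    · intro a b hab
      have e : ∀ x : F, (a.2.1 : F) * a.2.2 x + a.1 = (b.2.1 : F) * b.2.2 x + b.1 := fun x =>
        congrArg (fun σ : ↥(Cfsg.semiaffineGroup F) => (σ : Equiv.Perm F) x) hab
      have h0 : a.1 = b.1 := by simpa using e 0
      have h1 : (a.2.1 : F) = b.2.1 := by simpa [h0] using e 1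
      refine Prod.ext h0 (Prod.ext (Units.ext h1) (RingEquiv.ext fun x => ?_))
      have h2 := e x
      rw [h0, h1, add_left_inj] at h2
      exact mul_left_cancel₀ b.2.1.ne_zero h2
    · rintro ⟨s, a, b, φ, hs⟩
      exact ⟨(b, a, φ), Subtype.ext (Equiv.ext fun x => (hs x).symm)⟩
  rw [← Nat.card_eq_of_bijective f hf, Nat.card_prod, Nat.card_prod, Nat.card_eq_fintype_card, hF,
    Nat.card_eq_fintype_card, Fintype.card_units, hF, ChevAutGalois.card_ringAut p n hF, mul_assoc]

/-- `PSL₂` only depends on the field up to isomorphism. -/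
theorem psl_congr {F F' : Type*} [Field F] [Field F'] (σ : F ≃+* F') :
    Nonempty (Matrix.ProjectiveSpecialLinearGroup (Fin 2) F ≃*
      Matrix.ProjectiveSpecialLinearGroup (Fin 2) F') := by
  let e : SL(2, F) ≃* SL(2, F') :=
    { toFun := Matrix.SpecialLinearGroup.map (σ : F →+* F')
      invFun := Matrix.SpecialLinearGroup.map (σ.symm : F' →+* F)
      left_inv := fun x => Subtype.ext (Matrix.ext fun i j => σ.symm_apply_apply _)
      right_inv := fun x => Subtype.ext (Matrix.ext fun i j => σ.apply_symm_apply _)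
      map_mul' := map_mul _ }
  refine ⟨QuotientGroup.congr _ _ e ?_⟩
  ext x
  constructor
  · rintro ⟨y, hy, rfl⟩
    refine Subgroup.mem_center_iff.2 fun z => ?_
    obtain ⟨w, rfl⟩ := e.surjective z
    show e w * e y = e y * e w
    rw [← map_mul, ← map_mul, Subgroup.mem_center_iff.1 hy w]
  · intro hx
    obtain ⟨y, rfl⟩ := e.surjective x
    refine ⟨y, Subgroup.mem_center_iff.2 fun z => e.injective ?_, rfl⟩
    rw [map_mul, map_mul, Subgroup.mem_center_iff.1 hx (e z)]

theorem psl_iso_galois {G : Type*} [Group G] {p n : ℕ} [Fact p.Prime] (hn : n ≠ 0) {F : Type}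
    [Field F] [Fintype F] (hF : Fintype.card F = p ^ n)
    (e : G ≃* Matrix.ProjectiveSpecialLinearGroup (Fin 2) F) :
    Nonempty (G ≃* Matrix.ProjectiveSpecialLinearGroup (Fin 2) (GaloisField p n)) := by
  let := Fintype.ofFinite (GaloisField p n)
  have hc : Fintype.card F = Fintype.card (GaloisField p n) := by
    rw [hF, ← Nat.card_eq_fintype_card, GaloisField.card p n hn]
  obtain ⟨e'⟩ := psl_congr (FiniteField.ringEquivOfCardEq hc)
  exact ⟨e.trans e'⟩

namespace Ctx

variable {G : Type u} [Group G] [Finite G] {S : Sylow 2 G} {D : Subgroup G} {q : ℕ}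
variable (h : Ctx S D q)
include h

/-- Order four. -/
theorem four_case (hq : q = 4) :
    Nonempty (G ≃* alternatingGroup (Fin 4)) ∨ Nonempty (G ≃* alternatingGroup (Fin 5)) := by
  obtain ⟨t, ht, ht1⟩ := h.exists_ne_one
  obtain ⟨hKt, hCt, hCtN⟩ := h.K_eq ht ht1
  have hodd : Odd ((CC (S : Subgroup G)).relIndex (Subgroup.centralizer ({t} : Set G))) :=
    h.K_odd.of_dvd_nat ⟨q - 1, hKt⟩
  have hone : (CC (S : Subgroup G)).relIndex (Subgroup.centralizer ({t} : Set G)) = 1 := by
    set T := Subgroup.centralizer ({t} : Set G) with hT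
    have hsqC : ∀ x ∈ T, x * x ∈ CC (S : Subgroup G) := by
      intro x hx
      refine mem_CC.2 fun a ha => ?_
      have hxN := hCtN hx
      have hxt : t * x = x * t := Subgroup.mem_centralizer_iff.1 hx t rfl
      have hfix : ∀ b ∈ ({1, t} : Set G), x * b * x⁻¹ = b := by
        rintro b (rfl | rfl)
        · rw [mul_one, mul_inv_cancel]
        · rw [← hxt, mul_inv_cancel_right]
      -- the other two involutions
      have hcard : ((S : Subgroup G) : Set G).ncard = 4 := by
        rw [← Nat.card_coe_set_eq, SetLike.coe_sort_coe, h.cardS, hq]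
      by_cases hab : a ∈ ({1, t} : Set G)
      · have h1 := mul_inv_eq_iff_eq_mul.1 (hfix a hab)
        calc a * (x * x) = a * x * x := (mul_assoc _ _ _).symm
          _ = x * a * x := by rw [h1]
          _ = x * x * a := by rw [mul_assoc, ← h1, ← mul_assoc]
      simp only [Set.mem_insert_iff, Set.mem_singleton_iff, not_or] at hab
      have hsub : ({1, t, a, t * a} : Set G) = ((S : Subgroup G) : Set G) := by
        refine Set.eq_of_subset_of_ncard_le ?_ ?_ (Set.toFinite _)
        · rintro b (rfl | rfl | rfl | rfl)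
          · exact (S : Subgroup G).one_mem
          · exact ht
          · exact ha
          · exact mul_mem ht ha
        · rw [hcard]
          have h2 : t * a ≠ 1 := fun e => hab.2 (by
            have e2 := congrArg (t * ·) e
            rwa [← mul_assoc, h.sq t ht, one_mul, mul_one] at e2)
          have h3 : t * a ≠ t := fun e => hab.1 (mul_left_cancel (e.trans (mul_one t).symm))
          have h4 : t * a ≠ a := fun e => ht1 (mul_right_cancel (e.trans (one_mul a).symm))
          rw [Set.ncard_insert_of_notMem (by simp [Ne.symm ht1, Ne.symm hab.1, Ne.symm h2]),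
            Set.ncard_insert_of_notMem (by simp [Ne.symm hab.2, Ne.symm h3]), Set.ncard_pair h4.symm]
      have hxa : x * a * x⁻¹ ∈ ({1, t, a, t * a} : Set G) := hsub.symm ▸ (mem_NN.1 hxN) a ha
      rcases hxa with e | e | e | e
      · exact absurd (conj_eq_one_iff.1 e) hab.1
      · refine absurd ?_ hab.2
        exact mul_left_cancel (mul_right_cancel (e.trans (hfix t (Or.inr rfl)).symm))
      · have h1 := mul_inv_eq_iff_eq_mul.1 e
        calc a * (x * x) = a * x * x := (mul_assoc _ _ _).symm
          _ = x * a * x := by rw [← h1]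
          _ = x * x * a := by rw [mul_assoc, ← h1, ← mul_assoc]
      · rw [Set.mem_singleton_iff] at e
        have h2 : x * x * a * (x * x)⁻¹ = a := by
          calc x * x * a * (x * x)⁻¹ = x * (x * a * x⁻¹) * x⁻¹ := by group
            _ = x * (t * a) * x⁻¹ := by rw [e]
            _ = (x * t * x⁻¹) * (x * a * x⁻¹) := by group
            _ = t * (t * a) := by rw [hfix t (Or.inr rfl), e]
            _ = a := by rw [← mul_assoc, h.sq t ht, one_mul]
        exact (mul_inv_eq_iff_eq_mul.1 h2).symm
    refine Subgroup.relIndex_eq_one.2 fun x hx => ?_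
    have hn : ((CC (S : Subgroup G)).subgroupOf T).Normal :=
      ⟨fun w hw g => h.cc_normal.conj_mem ⟨w, CC_le_NN _ hw⟩ hw ⟨g, hCtN g.2⟩⟩
    have h1 := Subgroup.pow_index_mem ((CC (S : Subgroup G)).subgroupOf T) ⟨x, hx⟩
    obtain ⟨j, hj⟩ := hodd
    have hj' : ((CC (S : Subgroup G)).subgroupOf T).index = 2 * j + 1 := hj
    rw [hj'] at h1
    have h2 : x ^ (2 * j + 1) ∈ CC (S : Subgroup G) := by simpa [Subgroup.mem_subgroupOf] using h1
    rw [pow_succ, pow_mul, pow_two] at h2
    simpa using mul_mem (inv_mem (pow_mem (hsqC x hx) j)) h2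
  rw [hone, one_mul, hq] at hKt
  by_cases hnn : NN (S : Subgroup G) = ⊤
  · left
    have hDn : D.Normal := ⟨fun d hd g => h.conj_D (hnn ▸ Subgroup.mem_top g) hd⟩
    have hDb := h.D_bot hDn
    have hcard : Nat.card G = 12 := by
      have h1 := h.card_NN
      rw [hnn, Subgroup.card_top] at h1
      rw [hnn] at hKt
      rw [h1, hDb, Subgroup.card_bot, hKt, hq]
    refine DicksonSmall.iso_A4 hcard fun x hx1 hn => hx1 ?_
    by_cases he : Even (orderOf x)
    · exfalso
      set z := x ^ (orderOf x / 2) with hz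
      have hzo : orderOf z = 2 := orderOf_pow_orderOf_div (orderOf_pos x).ne' he.two_dvd
      have hzc : ∀ g : G, g * z * g⁻¹ = z := by
        intro g
        have hm := hn.conj_mem x (Subgroup.mem_zpowers x) g
        obtain ⟨j, hj⟩ := hm
        have hj' : x ^ j = g * x * g⁻¹ := hj
        have h1 : g * z * g⁻¹ = z ^ j := by
          rw [hz, ← conj_pow, ← hj', ← zpow_natCast, ← zpow_mul, mul_comm, zpow_mul, zpow_natCast]
        rcases Int.even_or_odd j with ⟨i, rfl⟩ | ⟨i, rfl⟩
        · rw [← two_mul, zpow_mul, zpow_two, involution_mul_self hzo, one_zpow] at h1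
          exact absurd (conj_eq_one_iff.1 h1) (involution_ne_one hzo)
        · rwa [zpow_add, zpow_mul, zpow_two, involution_mul_self hzo, one_zpow, one_mul, zpow_one] at h1
      have hzS : z ∈ (S : Subgroup G) := h.two_mem (hnn ▸ Subgroup.mem_top z) (k := 1)
        (by rw [pow_one, pow_two, involution_mul_self hzo])
      obtain ⟨u, hu, hu1, huz⟩ : ∃ u ∈ (S : Subgroup G), u ≠ 1 ∧ u ≠ z := by
        by_contra hcon
        push Not at hcon
        have h2 : ((S : Subgroup G) : Set G) ⊆ {1, z} := fun u hu => by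
          by_cases hu1 : u = 1
          · exact Or.inl hu1
          · exact Or.inr (hcon u hu hu1)
        have h3 := Set.ncard_le_ncard h2 (Set.toFinite _)
        rw [Set.ncard_pair (involution_ne_one hzo).symm, ← Nat.card_coe_set_eq, SetLike.coe_sort_coe,
          h.cardS, hq] at h3
        omega
      obtain ⟨m, -, hm⟩ := h.good.transitive S h.comm h.sq hzS (involution_ne_one hzo) hu hu1
      exact huz (by rw [← hm, hzc])
    · refine Subgroup.zpowers_eq_bot.1 (h.core _ hn ?_)
      rw [Nat.card_zpowers]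
      exact Nat.not_even_iff_odd.1 he
  · right
    have hK : (CC (S : Subgroup G)).relIndex (NN (S : Subgroup G)) = q - 1 := by rw [hKt, hq]
    have hh := h.hyp (by rw [hq]; norm_num) hK hnn
    obtain ⟨F, _, _, hF, ⟨e⟩⟩ := psl_of_hyp hh (h.D_bot hh.normal)
    obtain ⟨e'⟩ := PSL2Small.psl2_four F (by rw [Nat.card_eq_fintype_card, hF, hq])
    exact ⟨e.trans e'⟩

/-- Order at least eight. -/
theorem big_case {n : ℕ} (hn : 3 ≤ n) (hq : q = 2 ^ n) :
    Nonempty (G ≃* Cfsg.affineGroup (GaloisField 2 3)) ∨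
    Nonempty (G ≃* Cfsg.semiaffineGroup (GaloisField 2 3)) ∨
    Nonempty (G ≃* Cfsg.semiaffineGroup (GaloisField 2 5)) ∨
    Nonempty (G ≃* Matrix.ProjectiveSpecialLinearGroup (Fin 2) (GaloisField 2 3)) ∨
    Nonempty (G ≃* MulAut (Matrix.ProjectiveSpecialLinearGroup (Fin 2) (GaloisField 2 5))) := by
  have := Fact.mk Nat.prime_two
  set N := NN (S : Subgroup G) with hN
  set O := Cfsg.pPrimeCore 2 ↥N with hO
  have hsolv : Group.IsSolvable (↥N ⧸ O) := by
    have : Group.IsSolvable ↥N := by
      set S' := (S : Subgroup G).subgroupOf N with hS'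
      have : S'.Normal := ⟨fun w hw g => (mem_NN.1 g.2) w hw⟩
      have h1 : Group.IsSolvable S' := by
        have hp : IsPGroup 2 S' := S.2.of_equiv (Subgroup.subgroupOfEquivOfLe Subgroup.le_normalizer).symm
        have := hp.isNilpotent
        infer_instance
      have h2 : Group.IsSolvable (↥N ⧸ S') := S0205.result (G := ↥N ⧸ S') (by
        have hd : Nat.card (↥N ⧸ S') ∣ (S : Subgroup G).index :=
          Subgroup.relIndex_dvd_index_of_le Subgroup.le_normalizer
        exact (Nat.odd_iff.2 (Nat.two_dvd_ne_zero.1 S.not_dvd_index)).of_dvd_nat hd)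
      exact Group.isSolvable_of_ker_le_range S'.subtype (QuotientGroup.mk' S')
        (by rw [QuotientGroup.ker_mk', Subgroup.range_subtype])
    exact Group.isSolvable_of_surjective (QuotientGroup.mk'_surjective O)
  have h25 := S4025.result (p := 2) (fun H K _ _ e => h.good H K e) S n hn
    ⟨⟨⟨fun a b => Subtype.ext (h.comm a a.2 b b.2)⟩⟩, fun a ha => by rw [pow_two]; exact h.sq a ha⟩
    (h.cardS.trans hq) N hN hsolv
  let := Fintype.ofFinite (GaloisField 2 3)
  let := Fintype.ofFinite (GaloisField 2 5)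
  have hF3 : Fintype.card (GaloisField 2 3) = 2 ^ 3 := by
    rw [← Nat.card_eq_fintype_card, GaloisField.card 2 3 (by norm_num)]
  have hF5 : Fintype.card (GaloisField 2 5) = 2 ^ 5 := by
    rw [← Nat.card_eq_fintype_card, GaloisField.card 2 5 (by norm_num)]
  by_cases hnn : N = ⊤
  · -- `P` normal
    have hDn : D.Normal := ⟨fun d hd g => h.conj_D (hnn ▸ Subgroup.mem_top g : g ∈ N) hd⟩
    have hOb : O = ⊥ := by
      rw [hO, h.core_NN, h.D_bot hDn]
      exact Subgroup.bot_subgroupOf _
    have e0 : G ≃* ↥N ⧸ O :=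
      (Subgroup.topEquiv.symm.trans (MulEquiv.subgroupCongr hnn.symm)).trans
        ((QuotientGroup.quotientBot (G := ↥N)).symm.trans (QuotientGroup.quotientMulEquivOfEq hOb.symm))
    rcases h25 with ⟨rfl, -, h2⟩ | ⟨rfl, -, ⟨e⟩⟩
    · rcases h2 rfl with he | he
      · exact Or.inr (Or.inl (he.map e0.trans))
      · exact Or.inl (he.map e0.trans)
    · exact Or.inr (Or.inr (Or.inl ⟨e0.trans e⟩))
  have hcq := h.card_NN_quot
  have hcardG0 : ∀ {H : Type u} [Group H] (F : Type) [Field F] [Fintype F],
      Fintype.card F = q → (H ≃* Matrix.ProjectiveSpecialLinearGroup (Fin 2) F) →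
        Nat.card H = q * (q ^ 2 - 1) := by
    intro H _ F _ _ hF e
    rw [Nat.card_congr e.toEquiv, PSLCard.card_PSL2_even, Nat.card_eq_fintype_card, hF]
    rw [Nat.card_eq_fintype_card, hF, hq]
    exact Nat.even_pow.2 ⟨even_two, by omega⟩
  rcases h25 with ⟨rfl, -, h2⟩ | ⟨rfl, -, ⟨e⟩⟩
  · rcases h2 rfl with he | he
    · -- `|N : C(P)| = 21`
      exfalso
      obtain e := he.some
      rw [Nat.card_congr e.toEquiv, card_semiaffine (p := 2) hF3, hq] at hcq
      have : Fact (Nat.Prime 3) := ⟨Nat.prime_three⟩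
      obtain ⟨G0, F, _, _, hG0, hF, ⟨e0⟩, y, hy, hyo⟩ := h.composite (r := 7) (k := 3)
        (by rw [hq]; norm_num) (by norm_num) (by norm_num) (by norm_num) (by rw [hq]; norm_num)
        (by
          intro i hi hi2
          rw [hq] at hi
          have h3 : i < 3 := (Nat.pow_lt_pow_iff_right (by norm_num)).1 hi
          interval_cases i <;> simp_all)
        (by omega) hnn
      have hc := hcardG0 F hF e0
      obtain ⟨x, hx⟩ := exists_prime_orderOf_dvd_card' (G := G0) 3 (by rw [hc, hq]; norm_num)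
      obtain ⟨g, hg⟩ := h.good (Subgroup.zpowers (x : G)) (Subgroup.zpowers y)
        (by rw [Nat.card_zpowers, Nat.card_zpowers, Subgroup.orderOf_coe, hx, hyo])
      have hle : (Subgroup.zpowers (x : G)).map (MulAut.conj g).toMonoidHom ≤ G0 := by
        rw [MonoidHom.map_zpowers, Subgroup.zpowers_le]
        exact hG0.conj_mem _ x.2 g
      exact hy (hle (hg ▸ Subgroup.mem_zpowers y))
    · -- `|N : C(P)| = 7`
      have e := he.some
      rw [Nat.card_congr e.toEquiv, card_affine hF3, hq] at hcq
      have hh := h.hyp (by rw [hq]; norm_num) (by rw [hq]; omega) hnn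
      obtain ⟨F, _, _, hF, ⟨e'⟩⟩ := psl_of_hyp hh (h.D_bot hh.normal)
      exact Or.inr (Or.inr (Or.inr (Or.inl (psl_iso_galois (p := 2) (n := 3) (by norm_num)
        (hF.trans (by rw [hq]; norm_num)) e'))))
  · -- `|N : C(P)| = 155`
    rw [Nat.card_congr e.toEquiv, card_semiaffine (p := 2) hF5, hq] at hcq
    have : Fact (Nat.Prime 5) := ⟨Nat.prime_five⟩
    obtain ⟨G0, F, _, _, hG0, hF, ⟨e0⟩, y, hy, hyo⟩ := h.composite (r := 31) (k := 5)
      (by rw [hq]; norm_num) (by norm_num) (by norm_num) (by norm_num) (by rw [hq]; norm_num)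
      (by
        intro i hi hi2
        rw [hq] at hi
        have h5 : i < 5 := (Nat.pow_lt_pow_iff_right (by norm_num)).1 hi
        interval_cases i <;> simp_all)
      (by omega) hnn
    have := hG0
    obtain ⟨e1⟩ := psl_iso_galois (p := 2) (n := 5) (by norm_num) (hF.trans (by rw [hq])) e0
    have hc := hcardG0 F hF e0
    have hSG : (S : Subgroup G) ≤ G0 := by
      intro u hu
      by_cases hu1 : u = 1
      · rw [hu1]; exact one_mem _
      have h2 : 2 ∣ Nat.card G0 := by rw [hc, hq]; norm_num
      obtain ⟨x, hx⟩ := exists_prime_orderOf_dvd_card' (G := G0) 2 h2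
      obtain ⟨g, hg⟩ := h.good.isConj (a := (x : G)) (by rwa [Subgroup.orderOf_coe]) (h.orderOf_mem hu hu1)
      rw [← hg]
      exact hG0.conj_mem _ x.2 g
    let φ : G →* MulAut G0 := MulAut.conjNormal
    have hφ : Function.Injective φ := by
      rw [← MonoidHom.ker_eq_bot_iff]
      have hmem : ∀ x ∈ φ.ker, ∀ w ∈ G0, x * w = w * x := by
        intro x hx w hw
        have h1 : φ x = 1 := hx
        have h2 := congrArg (fun f : MulAut G0 => (f ⟨w, hw⟩ : G)) h1
        simp only [φ, MulAut.conjNormal_apply, MulAut.one_apply] at h2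
        exact mul_inv_eq_iff_eq_mul.1 h2
      refine h.core _ (MonoidHom.normal_ker _) (Nat.not_even_iff_odd.1 fun he => hnn ?_)
      obtain ⟨i, hi, hio⟩ := exists_involution_of_even he
      obtain ⟨g, hg⟩ := h.invol_conj hio
      have hgk : g⁻¹ * i * g ∈ φ.ker := by simpa using (MonoidHom.normal_ker φ).conj_mem i hi g⁻¹
      have hg1 : g⁻¹ * i * g ≠ 1 := fun e => involution_ne_one hio (by
        have := congrArg (fun x => g * x * g⁻¹) e
        simpa [mul_assoc] using this)
      have hle : G0 ≤ N := fun w hw => h.cent_le hg hg1 (hmem _ hgk w hw).symm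
      refine eq_top_iff.2 fun z _ => mem_NN.2 fun u hu => ?_
      exact h.two_mem (hle (hG0.conj_mem u (hSG hu) z)) (k := 1)
        (by rw [pow_one, pow_two, show z * u * z⁻¹ * (z * u * z⁻¹) = z * (u * u) * z⁻¹ by group,
          h.sq u hu, mul_one, mul_inv_cancel])
    let := Fintype.ofFinite (GaloisField 2 5)
    have hMA : Nat.card (MulAut G0) = 5 * (32 * 1023) := by
      rw [Nat.card_congr (MulAut.congr e1).toEquiv,
        AutPSLApi.card_mulAut (n := 2) (p := 2) (f := 5) (by rw [← Nat.card_eq_fintype_card, GaloisField.card 2 5 (by norm_num)]) (by norm_num) le_rfl,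
        if_pos rfl, show Nat.card (GL (Fin 2) (GaloisField 2 5) ⧸ Subgroup.center (GL (Fin 2) (GaloisField 2 5))) = _
          from PSLCard.card_PGL2 (F := GaloisField 2 5), GaloisField.card 2 5 (by norm_num)]
      norm_num
    have hfin : Finite (MulAut G0) := Finite.of_injective (fun f => (f : G0 → G0)) DFunLike.coe_injective
    have hge : 5 * (32 * 1023) ≤ Nat.card G := by
      have h5 : 5 ∣ G0.index := by
        have : G0.index = Nat.card (G ⧸ G0) := rfl
        rw [this, ← hyo]
        have hord : orderOf (y : G ⧸ G0) = 5 := orderOf_eq_prime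
          (by rw [← QuotientGroup.mk_pow, ← hyo, pow_orderOf_eq_one, QuotientGroup.mk_one])
          (fun e => hy ((QuotientGroup.eq_one_iff y).1 e))
        rw [hyo, ← hord]
        exact orderOf_dvd_natCard _
      have h1 := G0.card_mul_index
      have h2 := Nat.le_of_dvd (Nat.pos_of_ne_zero Subgroup.index_ne_zero_of_finite) h5
      rw [← h1, hc, hq]
      norm_num
      omega
    refine Or.inr (Or.inr (Or.inr (Or.inr ⟨(MulEquiv.ofBijective φ
      ((Nat.bijective_iff_injective_and_card φ).2 ⟨hφ, le_antisymm (Nat.card_le_card_of_injective φ hφ) ?_⟩)).trans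
      (MulAut.congr e1)⟩)))
    rw [hMA]
    exact hge

end Ctx

end Cfsg.Agent.EqOrderConj59
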