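import Mathlib
import Cfsg.Agent.Lib.EqOrderConj59Top
import Cfsg.Agent.Lib.BrauerSuzukiApps
import Cfsg.Agent.Lib.SL23Model77
import Cfsg.Agent.S3378

/-!
The quaternion case.
-/

set_option autoImplicit false

namespace Cfsg.Agent.EqOrderConj59

open Cfsg.Agent.SignalizerStrongEmb

universe u

variable {G : Type u} [Group G] [Finite G]

/-- A group of order `24` with a unique involution and quotient `A₄` by it is `SL(2,3)`. -/
theorem iso_SL23 {z : G} [(Subgroup.zpowers z).Normal] (hz : orderOf z = 2)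
    (huniq : ∀ i : G, orderOf i = 2 → i = z) (e : G ⧸ Subgroup.zpowers z ≃* alternatingGroup (Fin 4))
    (hcard : Nat.card G = 24) : Nonempty (G ≃* Matrix.SpecialLinearGroup (Fin 2) (ZMod 3)) := by
  have hzc : ∀ x : G, x * z = z * x := fun x => by
    have h1 := huniq (x * z * x⁻¹) ((orderOf_conj x z).trans hz)
    exact mul_inv_eq_iff_eq_mul.1 h1
  have := Fact.mk Nat.prime_three
  obtain ⟨g, hg⟩ := exists_prime_orderOf_dvd_card' (G := G) 3 (by rw [hcard]; norm_num)
  have hker : ∀ w : G, (w : G ⧸ Subgroup.zpowers z) = 1 → w = 1 ∨ w = z := by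
    intro w hw
    obtain ⟨j, rfl⟩ := (QuotientGroup.eq_one_iff w).1 hw
    show z ^ j = 1 ∨ z ^ j = z
    rcases Int.even_or_odd j with ⟨i, rfl⟩ | ⟨i, rfl⟩
    · left; rw [← two_mul, zpow_mul, zpow_two, involution_mul_self hz, one_zpow]
    · right; rw [zpow_add, zpow_mul, zpow_two, involution_mul_self hz, one_zpow, one_mul, zpow_one]
  have hA : ∀ a b : alternatingGroup (Fin 4), a ^ 3 = 1 → a ≠ 1 → b * b = 1 → b ≠ 1 →
      a * b * a⁻¹ ≠ b ∧ a * (a * b * a⁻¹) * a⁻¹ = b * (a * b * a⁻¹) := by decide +kernel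
  have hinv : ∃ w : alternatingGroup (Fin 4), w * w = 1 ∧ w ≠ 1 := by decide +kernel
  obtain ⟨w, hw, hw1⟩ := hinv
  obtain ⟨x, hx⟩ := QuotientGroup.mk_surjective (e.symm w)
  set gb := e (g : G ⧸ Subgroup.zpowers z) with hgb
  have hg1 : gb ≠ 1 := fun e1 => by
    rw [hgb, MulEquiv.map_eq_one_iff] at e1
    rcases hker g e1 with h | h
    · rw [h, orderOf_one] at hg; omega
    · rw [h, hz] at hg; omega
  have hg3 : gb ^ 3 = 1 := by
    rw [hgb, ← map_pow, ← QuotientGroup.mk_pow, ← hg, pow_orderOf_eq_one, QuotientGroup.mk_one, map_one]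
  have hex : e (x : G ⧸ Subgroup.zpowers z) = w := by rw [hx, MulEquiv.apply_symm_apply]
  -- `x² = z`
  have hxx : x * x = z := by
    have h1 : ((x * x : G) : G ⧸ Subgroup.zpowers z) = 1 := e.injective (by
      rw [QuotientGroup.mk_mul, map_mul, hex, hw, map_one])
    refine (hker _ h1).resolve_left fun h2 => hw1 ?_
    have hx1 : x ≠ 1 := fun e1 => hw1 (by rw [← hex, e1, QuotientGroup.mk_one, map_one])
    have h3 := huniq x (orderOf_eq_two_of_mul_self h2 hx1)
    rw [← hex, h3, (QuotientGroup.eq_one_iff z).2 (Subgroup.mem_zpowers z), map_one]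
  obtain ⟨hne, hthird⟩ := hA gb w hg3 hg1 hw hw1
  have key : ∀ x : G, e (x : G ⧸ Subgroup.zpowers z) = w → x * x = z →
      g * (g * x * g⁻¹) * g⁻¹ = x * (g * x * g⁻¹) →
      ∃ f : Matrix.SpecialLinearGroup (Fin 2) (ZMod 3) →* G, f SL23Model77.w0 = x := by
    intro x hex hxx hy
    set y := g * x * g⁻¹ with hydef
    have hyy : y * y = z := by
      rw [hydef, show g * x * g⁻¹ * (g * x * g⁻¹) = g * (x * x) * g⁻¹ by group, hxx, hzc g, mul_inv_cancel_right]
    have hx4 : x ^ 4 = 1 := by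
      rw [show (4 : ℕ) = 2 * 2 from rfl, pow_mul, pow_two, pow_two, hxx, involution_mul_self hz]
    have hxinv : x⁻¹ = x * z := inv_eq_of_mul_eq_one_right (by rw [← mul_assoc, hxx, involution_mul_self hz])
    have hinv : y * x * y⁻¹ = x⁻¹ := by
      have h1 : ((y * x * y⁻¹ * x⁻¹ : G) : G ⧸ Subgroup.zpowers z) = 1 := e.injective (by
        simp only [hydef, QuotientGroup.mk_mul, QuotientGroup.mk_inv, map_mul, map_inv, hex, map_one, ← hgb]
        have hcomm : ∀ a b : alternatingGroup (Fin 4), a * a = 1 → b * b = 1 → a * b * a⁻¹ * b⁻¹ = 1 := by decide +kernel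
        exact hcomm _ _ (by rw [show gb * w * gb⁻¹ * (gb * w * gb⁻¹) = gb * (w * w) * gb⁻¹ by group, hw,
          mul_one, mul_inv_cancel]) hw)
      rcases hker _ h1 with h2 | h2
      · -- `x` and `y` commute: then `x * y` is an involution or trivial
        exfalso
        have hc : y * x = x * y := mul_inv_eq_iff_eq_mul.1 (mul_inv_eq_one.1 h2)
        have h3 : (x * y) * (x * y) = 1 := by
          calc (x * y) * (x * y) = x * (y * x) * y := by group
            _ = (x * x) * (y * y) := by rw [hc]; group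
            _ = 1 := by rw [hxx, hyy, involution_mul_self hz]
        have hxy : e ((x * y : G) : G ⧸ Subgroup.zpowers z) = w * (gb * w * gb⁻¹) := by
          simp only [hydef, QuotientGroup.mk_mul, QuotientGroup.mk_inv, map_mul, map_inv, hex, ← hgb]
        have hne2 : w * (gb * w * gb⁻¹) ≠ 1 := fun e1 => hne (by
          have h4 := eq_inv_of_mul_eq_one_right e1
          rwa [inv_eq_of_mul_eq_one_right hw] at h4)
        refine hne2 ?_
        by_cases hxy1 : x * y = 1
        · rw [← hxy, hxy1, QuotientGroup.mk_one, map_one]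
        · rw [← hxy, huniq _ (orderOf_eq_two_of_mul_self h3 hxy1),
            (QuotientGroup.eq_one_iff z).2 (Subgroup.mem_zpowers z), map_one]
      · rw [hxinv, hzc x, ← h2, inv_mul_cancel_right]
    obtain ⟨f, hf, -⟩ := SL23Model77.exists_hom x g hx4 (by rw [← hg, pow_orderOf_eq_one])
      (by rw [← hydef, hyy, hxx]) (by rw [← hydef]; exact hinv) (by rw [← hydef]; exact hy)
    exact ⟨f, hf⟩
  obtain ⟨f, x', hf, hx'⟩ : ∃ (f : Matrix.SpecialLinearGroup (Fin 2) (ZMod 3) →* G) (x' : G),
      f SL23Model77.w0 = x' ∧ x' * x' = z := by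
    have h1 : ((g * (g * x * g⁻¹) * g⁻¹ * (x * (g * x * g⁻¹))⁻¹ : G) : G ⧸ Subgroup.zpowers z) = 1 :=
      e.injective (by
        simp only [QuotientGroup.mk_mul, QuotientGroup.mk_inv, map_mul, map_inv, hex, ← hgb, map_one]
        exact mul_inv_eq_one.2 hthird)
    rcases hker _ h1 with h2 | h2
    · obtain ⟨f, hf⟩ := key x hex hxx (mul_inv_eq_one.1 h2)
      exact ⟨f, x, hf, hxx⟩
    · have h3 : g * (g * x * g⁻¹) * g⁻¹ = z * (x * (g * x * g⁻¹)) := mul_inv_eq_iff_eq_mul.1 h2
      have hxz : (x * z) * (x * z) = z := by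
        calc (x * z) * (x * z) = x * (z * x) * z := by group
          _ = (x * x) * (z * z) := by rw [← hzc x]; group
          _ = z := by rw [involution_mul_self hz, mul_one, hxx]
      obtain ⟨f, hf⟩ := key (x * z) (by
        rw [QuotientGroup.mk_mul, (QuotientGroup.eq_one_iff z).2 (Subgroup.mem_zpowers z), mul_one, hex]) hxz (by
        have e1 : g * (x * z) * g⁻¹ = g * x * g⁻¹ * z := by
          calc g * (x * z) * g⁻¹ = g * x * (z * g⁻¹) := by group
            _ = g * x * (g⁻¹ * z) := by rw [hzc g⁻¹]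
            _ = g * x * g⁻¹ * z := by group
        rw [e1]
        calc g * (g * x * g⁻¹ * z) * g⁻¹ = g * (g * x * g⁻¹) * (z * g⁻¹) := by group
          _ = g * (g * x * g⁻¹) * g⁻¹ * z := by rw [← hzc g⁻¹]; group
          _ = z * (x * (g * x * g⁻¹)) * z := by rw [h3]
          _ = x * z * (g * x * g⁻¹ * z) := by rw [← mul_assoc z, ← hzc x]; group)
      exact ⟨f, x * z, hf, hxz⟩
  have hinj : Function.Injective f := by
    rw [injective_iff_map_eq_one]
    intro s hs
    by_contra hs1
    have hz0 : f (SL23Model77.w0 ^ 2) = z := by rw [map_pow, hf, pow_two, hx']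
    refine involution_ne_one hz ?_
    rw [← hz0]
    rcases SL23Model77.kernel_fact s hs1 with h | h | h | h | h
    · rw [← h, hs]
    · rw [← h, map_pow, hs, one_pow]
    · rw [← h, map_pow, hs, one_pow]
    · rw [← h, map_pow, map_mul, map_mul, map_mul, map_inv, map_inv, hs, one_mul, inv_one, mul_one,
        mul_inv_cancel, one_pow]
    · rw [← h, map_pow, map_mul, map_mul, map_mul, map_inv, map_inv, hs, one_mul, inv_one, mul_one,
        mul_inv_cancel, one_pow]
  refine ⟨(MulEquiv.ofBijective f ((Nat.bijective_iff_injective_and_card f).2 ⟨hinj, ?_⟩)).symm⟩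
  rw [hcard, PSLCard.card_SL2, Nat.card_zmod]
  rfl

/-- The quaternion case. -/
theorem quat_case (hG : Good G) (hO : ∀ N : Subgroup G, N.Normal → Odd (Nat.card N) → N = ⊥)
    (S : Sylow 2 G) (e : (S : Subgroup G) ≃* QuaternionGroup 2) :
    Nonempty (G ≃* Matrix.SpecialLinearGroup (Fin 2) (ZMod 3)) ∨
    Nonempty (G ≃* Matrix.SpecialLinearGroup (Fin 2) (ZMod 5)) := by
  have := Fact.mk Nat.prime_two
  obtain ⟨a, b, hab⟩ := ZStarLocal.exists_gens (S : Subgroup G) (n := 1) le_rfl (by simpa using e)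
  set z := a ^ 2 ^ 1 with hzdef
  have hz : orderOf z = 2 := hab.orderOf_z
  have hzc : z ∈ Subgroup.center G :=
    BrauerSuzukiCore.mem_center_of_solitary hab.solitary (BrauerSuzukiApps.pPrimeCore_eq_bot hO)
  have huniq : ∀ i : G, orderOf i = 2 → i = z := fun i hi =>
    hab.solitary.2 i hi (Subgroup.mem_center_iff.1 hzc i)
  set Z := Subgroup.zpowers z with hZ
  have : Z.Normal := ⟨fun w hw g => by
    rw [Subgroup.mem_center_iff.1 ((Subgroup.zpowers_le.2 hzc) hw) g, mul_inv_cancel_right]; exact hw⟩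
  have hZc : Nat.card Z = 2 := by rw [hZ, Nat.card_zpowers, hz]
  have hO' : ∀ N : Subgroup (G ⧸ Z), N.Normal → Odd (Nat.card N) → N = ⊥ := by
    intro N hN hodd
    set M := N.comap (QuotientGroup.mk' Z) with hM
    obtain ⟨S1⟩ : Nonempty (Sylow 2 M) := inferInstance
    have hMc : Nat.card M = 2 * Nat.card N := by rw [hM, card_comap_mk, hZc]
    have hzM : z ∈ M := by
      show (z : G ⧸ Z) ∈ N
      rw [(QuotientGroup.eq_one_iff z).2 (Subgroup.mem_zpowers z)]
      exact one_mem N
    have hall : ∀ w ∈ (S1 : Subgroup M), (w : G) = 1 ∨ (w : G) = z := by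
      intro w hw
      obtain ⟨j, hj⟩ := IsPGroup.iff_orderOf.1 S1.2 ⟨w, hw⟩
      rw [Subgroup.orderOf_mk] at hj
      have hd : 2 ^ j ∣ 2 * Nat.card N := by rw [← hj, ← hMc]; exact orderOf_dvd_natCard w
      have h2 : 2 ^ j ∣ 2 := ((Nat.coprime_two_left.2 hodd).pow_left j).dvd_of_dvd_mul_right hd
      rw [← Subgroup.orderOf_coe] at hj
      have h3 : (w : G) * w = 1 := by
        rw [← pow_two]; exact orderOf_dvd_iff_pow_eq_one.1 (hj ▸ h2)
      by_cases hw1 : (w : G) = 1
      · exact Or.inl hw1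
      · exact Or.inr (huniq _ (orderOf_eq_two_of_mul_self h3 hw1))
    have hcen : ∀ w ∈ (S1 : Subgroup M), (w : G) ∈ Subgroup.center G := fun w hw => by
      rcases hall w hw with h | h
      · rw [h]; exact one_mem _
      · rw [h]; exact hzc
    obtain ⟨W, hWn, hWmem, -⟩ := exists_oddPart S1 (fun x _ => mem_CC.2 fun w hw =>
      Subtype.ext (Subgroup.mem_center_iff.1 (hcen w hw) x).symm)
    have hWG : (W.map M.subtype).Normal := by
      refine ⟨?_⟩
      rintro _ ⟨w, hw, rfl⟩ g
      have hMn : M.Normal := Subgroup.Normal.comap hN _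
      refine ⟨⟨g * w * g⁻¹, hMn.conj_mem w w.2 g⟩, (hWmem _).2 ?_, rfl⟩
      rw [Subgroup.orderOf_mk, orderOf_conj, Subgroup.orderOf_coe]
      exact (hWmem w).1 hw
    have hW : W.map M.subtype = ⊥ := hO _ hWG (by
      rw [Subgroup.card_map_of_injective M.subtype_injective]
      refine Nat.not_even_iff_odd.1 fun he => ?_
      obtain ⟨i, hi, hio⟩ := exists_involution_of_even he
      have := (hWmem i).1 hi
      rw [hio] at this
      exact absurd this (by decide))
    refine (Subgroup.eq_bot_iff_forall _).2 fun v hv => ?_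
    obtain ⟨x, rfl⟩ := QuotientGroup.mk_surjective v
    have hov : Odd (orderOf (x : G ⧸ Z)) := odd_orderOf_of_mem hodd hv
    set m := orderOf (x : G ⧸ Z) with hm
    have hxM : x ∈ M := hv
    -- `x ^ m ∈ Z`, so `x ^ 2` has odd order
    have hx2 : Odd (orderOf ((x : G) ^ 2)) := by
      have h1 : x ^ m ∈ Z := by
        rw [← QuotientGroup.eq_one_iff, QuotientGroup.mk_pow, pow_orderOf_eq_one]
      have h2 : (x ^ 2) ^ m = 1 := by
        rw [← pow_mul, mul_comm, pow_mul]
        obtain ⟨j, hj⟩ := h1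
        have hj' : z ^ j = x ^ m := hj
        rw [← hj', ← zpow_natCast (z ^ j), ← zpow_mul, mul_comm, zpow_mul, zpow_natCast,
          ← hz, pow_orderOf_eq_one, one_zpow]
      exact hov.of_dvd_nat (orderOf_dvd_of_pow_eq_one h2)
    have hW2 : (⟨x, hxM⟩ : M) ^ 2 ∈ W := (hWmem _).2 (by
      rw [← Subgroup.orderOf_coe, SubgroupClass.coe_pow]; exact hx2)
    have hx21 : x ^ 2 = 1 := by
      have : x ^ 2 ∈ W.map M.subtype := ⟨_, hW2, rfl⟩
      rwa [hW, Subgroup.mem_bot] at this
    refine eq_one_of_odd_sq hov ?_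
    rw [← pow_two, ← QuotientGroup.mk_pow, hx21, QuotientGroup.mk_one]
  let T : Sylow 2 (G ⧸ Z) := S.mapSurjective (QuotientGroup.mk'_surjective Z)
  have hZS : Z ≤ (S : Subgroup G) := by
    rw [hZ, Subgroup.zpowers_le, hzdef]
    exact pow_mem hab.a_mem _
  have hcardS : Nat.card (S : Subgroup G) = 8 := by
    rw [Nat.card_congr e.toEquiv, Nat.card_eq_fintype_card, QuaternionGroup.card]
  have hcardT : Nat.card (T : Subgroup (G ⧸ Z)) = 4 := by
    have h1 : Nat.card (S : Subgroup G) = 2 * Nat.card (T : Subgroup (G ⧸ Z)) := by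
      have h2 := card_comap_mk Z ((S : Subgroup G).map (QuotientGroup.mk' Z))
      rw [Subgroup.comap_map_eq_self (by rwa [QuotientGroup.ker_mk']), hZc] at h2
      exact h2
    omega
  have hTel : Cfsg.IsElementaryAbelian 2 (T : Subgroup (G ⧸ Z)) := by
    have hcomm : IsMulCommutative (T : Subgroup (G ⧸ Z)) :=
      IsPGroup.isMulCommutative_of_card_eq_prime_sq (p := 2) (by rw [hcardT]; norm_num)
    refine ⟨hcomm, ?_⟩
    rintro _ ⟨s, hs, rfl⟩
    rw [← map_pow]
    refine (QuotientGroup.eq_one_iff _).2 ?_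
    by_cases hsa : s ∈ Subgroup.zpowers a
    · obtain ⟨j, rfl⟩ := hsa
      show (a ^ j) ^ 2 ∈ Z
      rw [← zpow_natCast, ← zpow_mul, mul_comm, zpow_mul, zpow_natCast, hZ, hzdef, pow_one]
      exact Subgroup.zpow_mem _ (Subgroup.mem_zpowers _) j
    · rw [pow_two, (hab.inv s hs hsa).2]
      exact Subgroup.mem_zpowers _
  obtain ⟨D, hctx⟩ := exists_ctx (hG.quotient Z) hO' T hTel hcardT le_rfl
  have hcardG : Nat.card G = 2 * Nat.card (G ⧸ Z) := by
    rw [Subgroup.card_eq_card_quotient_mul_card_subgroup Z, hZc, mul_comm]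
  rcases hctx.four_case rfl with h4 | h5
  · left
    have e4 := h4.some
    refine iso_SL23 hz huniq e4 ?_
    rw [hcardG, Nat.card_congr e4.toEquiv, nat_card_alternatingGroup, Nat.card_fin]; rfl
  · right
    have e5 := h5.some
    refine S3378.result.1 G ?_ ?_ fun P => ?_
    · rw [hcardG, Nat.card_congr e5.toEquiv, nat_card_alternatingGroup, Nat.card_fin]; rfl
    · intro hs
      have h5 : Group.IsSolvable (alternatingGroup (Fin 5)) :=
        Group.isSolvable_of_surjective (f := e5.toMonoidHom.comp (QuotientGroup.mk' Z))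
          (e5.surjective.comp (QuotientGroup.mk'_surjective Z))
      have hsimp : IsSimpleGroup (alternatingGroup (Fin 5)) := alternatingGroup.isSimpleGroup_five
      exact absurd (IsSimpleGroup.comm_iff_isSolvable.2 h5) (by
        intro hc
        have h1 : ¬ ∀ a b : alternatingGroup (Fin 5), a * b = b * a := by decide +kernel
        exact h1 hc)
    · exact ⟨(Sylow.equiv P S).trans e⟩

end Cfsg.Agent.EqOrderConj59
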