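import Cfsg.Agent.Lib.EqualDeg80Socle
import Cfsg.Agent.Lib.BlockAbelian81
import Cfsg.Agent.Lib.BlockCentral81
import Cfsg.Agent.Lib.Star80Nilpotent

/-!
A block with abelian defect group whose characters all have one degree is nilpotent.
-/

set_option autoImplicit false
set_option linter.unusedSectionVars false

namespace Cfsg.Agent.EqualDeg80Abelian

open Cfsg Cfsg.Agent.BlockTheoryLocalRing Cfsg.Agent.BlockTheoryCentre Cfsg.Agent.BlockTheoryIdem
open Cfsg.Agent.BlockTheoryBrauer Cfsg.Agent.EqualDeg80Dims Cfsg.Agent.EqualDeg80Red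
open Cfsg.Agent.EqualDeg80Centre Cfsg.Agent.EqualDeg80First
open Cfsg.Agent.BrauerPairs81Base Cfsg.Agent.BrauerPairs81Pairs Cfsg.Agent.BrauerPairs81Conj
open Cfsg.Agent.BrauerPairs81Local Cfsg.Agent.BrauerPairs81Fusion
open Cfsg.Agent.BrauerPairs81Max Cfsg.Agent.BlockTheoryDefect Cfsg.Agent.EqualDeg80Alg
open scoped ComplexConjugate

attribute [local instance] Classical.propDecidable

universe u

variable {p : ℕ} [Fact p.Prime] {M : Ideal AlgInt}

section General

variable {G : Type u} [Group G] [Fintype G] {k : Type} [Field k]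

/-- An upper bound for the centre. -/
theorem finrank_cen_le (hM : IsPModular p M) {S : Set (IrrCharacter G)} (hS : IsInt M (idem S))
    (π : localRing hM →+* k) :
    Module.finrank k (cenBelow k (eS hM π hS)) ≤ S.toFinset.card := by
  set A := classMatS hM (invCoeff hM hS)
  have h1 : Module.finrank ℂ (LinearMap.range (Matrix.toLin' (A.map (localRing hM).subtype))) ≤
      S.toFinset.card := by
    set T : Finset (ConjClasses G → ℂ) :=
      S.toFinset.image fun χ : IrrCharacter G => fun C =>
        (idem ({χ} : Set (IrrCharacter G))).coeff C.out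
    have hle : LinearMap.range (Matrix.toLin' (A.map (localRing hM).subtype)) ≤
        Submodule.span ℂ (T : Set (ConjClasses G → ℂ)) := by
      rintro _ ⟨v, rfl⟩
      set zC : MonoidAlgebra ℂ G := ofFun fun x => v (ConjClasses.mk x)
      have hzc : IsCen zC := fun g h => by
        show v (ConjClasses.mk (h * g * h⁻¹)) = v (ConjClasses.mk g)
        rw [(ConjClasses.mk_eq_mk_iff_isConj.2 (isConj_iff.2 ⟨h, rfl⟩) :
          ConjClasses.mk g = ConjClasses.mk (h * g * h⁻¹))]
      have hv : v = fun C => zC.coeff C.out := funext fun C => by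
        show v C = v (ConjClasses.mk C.out)
        rw [show ConjClasses.mk C.out = C from Quotient.out_eq C]
      have hz : idem S * zC =
          ∑ χ ∈ S.toFinset, omega (χ : G → ℂ) zC • idem ({χ} : Set (IrrCharacter G)) := by
        refine ext_omega ((isCen_idem S).mul hzc)
          (Finset.sum_induction _ _ (fun _ _ => IsCen.add) isCen_zero fun χ _ =>
            (isCen_idem _).smul _) fun η => ?_
        simp only [omega_mul η (isCen_idem S), map_sum, map_smul, omega_idem, smul_eq_mul,
          Set.mem_singleton_iff, mul_ite, mul_one, mul_zero, ite_mul, one_mul, zero_mul]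
        rw [Finset.sum_ite_eq]
        simp only [Set.mem_toFinset]
      rw [hv, Matrix.toLin'_apply, inv_mulVec hM hS hzc, hz]
      rw [show (fun C : ConjClasses G =>
          (∑ χ ∈ S.toFinset, omega (χ : G → ℂ) zC • idem ({χ} : Set (IrrCharacter G))).coeff C.out) =
        ∑ χ ∈ S.toFinset, omega (χ : G → ℂ) zC •
          fun C : ConjClasses G => (idem ({χ} : Set (IrrCharacter G))).coeff C.out by
        funext C
        simp [MonoidAlgebra.coeff_sum, Finset.sum_apply]]
      exact Submodule.sum_mem _ fun χ hχ => Submodule.smul_mem _ _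
        (Submodule.subset_span (Finset.mem_image_of_mem _ hχ))
    exact (Submodule.finrank_mono hle).trans ((finrank_span_finset_le_card T).trans Finset.card_image_le)
  rw [← BrandtAlgebra42.rank_map_eq (localRing hM).subtype Subtype.val_injective π A
    (classMatS_sq_inv hM hS)] at h1
  refine le_trans ?_ h1
  let F : cenBelow k (eS hM π hS) →ₗ[k] LinearMap.range (Matrix.toLin' (A.map π)) :=
    { toFun := fun z => ⟨fun C => (z : MonoidAlgebra k G).coeff C.out,
        fun C => (z : MonoidAlgebra k G).coeff C.out, funext fun C => by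
          obtain ⟨hzc, hze⟩ := mem_cenBelow.1 z.2
          conv_rhs => rw [← hze, BrandtBlock42.coeff_mul']
          rw [Matrix.toLin'_apply, classMatS_mulVec]
          refine Fintype.sum_equiv (Equiv.inv G) _ _ fun h => ?_
          rw [Equiv.inv_apply, inv_inv, coeff_eS]
          congr 1
          obtain ⟨c, hc⟩ := isConj_iff.1 ((isConj_out (ConjClasses.mk (h * C.out))).1 rfl)
          conv_rhs => rw [← hc, coeff_inv _ hzc]⟩
      map_add' := fun a b => Subtype.ext (funext fun C => by simp)
      map_smul' := fun t a => Subtype.ext (funext fun C => by simp) }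
  refine LinearMap.finrank_le_finrank_of_injective (f := F) fun a b h =>
    Subtype.ext (MonoidAlgebra.ext (Finsupp.ext fun x => ?_))
  obtain ⟨c, hc⟩ := isConj_iff.1 ((isConj_out (ConjClasses.mk x)).1 rfl)
  rw [← hc, coeff_inv _ (mem_cenBelow.1 a.2).1, coeff_inv _ (mem_cenBelow.1 b.2).1]
  exact congrArg (fun v : LinearMap.range (Matrix.toLin' (A.map π)) =>
    (v : ConjClasses G → k) (ConjClasses.mk x)) h

theorem coeff_πA_equiv {H : Type u} [Group H] [Fintype H] (E : G ≃* H) (z : MonoidAlgebra k G)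
    (x : G) : (πA E.toMonoidHom z).coeff (E x) = z.coeff x :=
  Finsupp.mapDomain_apply E.injective _ x

/-- The product of the Sylow bound: a block of one degree has at least `|D|` members. -/
theorem card_defect_le (hM : IsPModular p M) {B : Set (IrrCharacter G)} (hB : IsPBlock M B) {d : ℕ}
    (hdeg : ∀ χ ∈ B, charDegree (χ : G → ℂ) = d) :
    p ^ blockDefect p B ≤ B.toFinset.card := by
  have hp : p.Prime := Fact.out
  obtain ⟨χ₀, hχ₀, h0⟩ := BlockContrib.exists_height_zero hM hB
  have hd0 : 0 < d := hdeg χ₀ hχ₀ ▸ ClassAlgebraVal.charDegree_pos χ₀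
  have hdv : d.factorization p = BlockContrib.minExp p B := by
    have h1 := BlockContrib.minExp_le (p := p) hχ₀
    rw [hdeg χ₀ hχ₀] at h1
    change (charDegree (χ₀ : G → ℂ)).factorization p - BlockContrib.minExp p B = 0 at h0
    rw [hdeg χ₀ hχ₀] at h0
    omega
  obtain ⟨S⟩ : Nonempty (Sylow p G) := Sylow.nonempty
  set F : G → ℂ := ∑ χ ∈ B.toFinset, (χ : G → ℂ)
  have hF : IsCharacter G F := CharBasicDecomp.isCharacter_sum _ _ fun χ _ =>
    CharBasic.isCharacter_of_isIrrCharacter χ.2
  have hF0 : ∀ s : S, (s : G) ≠ 1 → F s = 0 := by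
    intro s hs
    have hdiv : p ∣ orderOf (s : G) := by
      obtain ⟨i, hi⟩ := IsPGroup.iff_orderOf.1 S.isPGroup' s
      rw [Subgroup.orderOf_coe, hi]
      refine dvd_pow_self p fun h => hs ?_
      rw [h, pow_zero, orderOf_eq_one_iff] at hi
      rw [hi, Subgroup.coe_one]
    have h := blockCoeff_eq_zero_of_dvd hM hB hdiv
    rw [blockCoeff, finsum_mem_eq_toFinset_sum] at h
    have h' := (mul_eq_zero.1 h).resolve_left (inv_ne_zero (Nat.cast_ne_zero.2 Nat.card_pos.ne'))
    rw [Finset.sum_congr rfl fun (χ : IrrCharacter G) hχ => by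
      rw [ClassAlgebraVal.apply_one_eq_charDegree, hdeg χ (Set.mem_toFinset.1 hχ)], ← Finset.mul_sum,
      ← map_sum, mul_eq_zero] at h'
    have h'' := congrArg conj (h'.resolve_left (Nat.cast_ne_zero.2 hd0.ne'))
    rw [Complex.conj_conj, map_zero] at h''
    simpa [F] using h''
  obtain ⟨a, ha⟩ := CharBasicDecomp.classInner_isGeneralizedCharacter
    (CharBasicDecomp.isGeneralizedCharacter_comap (S : Subgroup G).subtype
      (CharBasicDecomp.isGeneralizedCharacter_of_isCharacter hF))
    (CharBasicDecomp.isGeneralizedCharacter_of_isCharacter CharBasicDecomp.isCharacter_one)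
  rw [classInner, Finset.sum_eq_single (1 : (S : Subgroup G))] at ha
  · have hF1 : F 1 = ((B.toFinset.card * d : ℕ) : ℂ) := by
      simp only [F, Finset.sum_apply]
      rw [Finset.sum_congr rfl fun (χ : IrrCharacter G) hχ => by
        rw [ClassAlgebraVal.apply_one_eq_charDegree, hdeg χ (Set.mem_toFinset.1 hχ)]]
      simp
    simp only [Function.comp_apply, map_one, mul_one, hF1] at ha
    rw [inv_mul_eq_iff_eq_mul₀ (Nat.cast_ne_zero.2 Nat.card_pos.ne')] at ha
    have hz : ((B.toFinset.card * d : ℕ) : ℤ) = (Nat.card S : ℤ) * a := by exact_mod_cast ha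
    have hdvd : p ^ (Nat.card G).factorization p ∣ B.toFinset.card * d := by
      rw [← S.card_eq_multiplicity]
      exact Int.natCast_dvd_natCast.1 ⟨a, hz⟩
    have hk0 : B.toFinset.card ≠ 0 := Finset.card_ne_zero.2 ⟨χ₀, Set.mem_toFinset.2 hχ₀⟩
    rw [hp.pow_dvd_iff_le_factorization (mul_ne_zero hk0 hd0.ne'),
      Nat.factorization_mul hk0 hd0.ne', Finsupp.add_apply, hdv,
      ← BlockContrib.minExp_add_defect hM hB, add_comm] at hdvd
    exact Nat.le_of_dvd (Nat.pos_of_ne_zero hk0)
      ((hp.pow_dvd_iff_le_factorization hk0).2 (Nat.add_le_add_iff_right.1 hdvd))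
  · intro s _ hs
    rw [Function.comp_apply, show F ((S : Subgroup G).subtype s) = F s from rfl,
      hF0 s (fun h => hs (Subtype.ext h)), zero_mul]
  · simp

variable [CharP k p]

/-- A height zero character does not vanish modulo the ideal on the centralizer of a defect group. -/
theorem socle_ne_zero (hM : IsPModular p M) (π : localRing hM →+* k)
    (hπ : ∀ z, π z = 0 ↔ MemLocalIdeal M (z : ℂ)) {B : Set (IrrCharacter G)} (hB : IsPBlock M B)
    {D : Subgroup G} (hD : IsDefectGroup p M B D) {χ₀ : IrrCharacter G} (hχ₀ : χ₀ ∈ B)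
    (h0 : blockHeight p B (χ₀ : G → ℂ) = 0) :
    ∃ hri : IsInt M ((Nat.card D : ℂ) • idem ({χ₀} : Set (IrrCharacter G))),
      rk (Cen D) (tok hM π hri) ≠ 0 := by
  have hp : p.Prime := Fact.out
  set d := charDegree (χ₀ : G → ℂ)
  have hd0 : d ≠ 0 := (ClassAlgebraVal.charDegree_pos χ₀).ne'
  have hdv : d.factorization p = BlockContrib.minExp p B := by
    have h1 : BlockContrib.minExp p B ≤ d.factorization p := BlockContrib.minExp_le hχ₀
    change d.factorization p - BlockContrib.minExp p B = 0 at h0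
    omega
  have hsum := BlockContrib.minExp_add_defect hM hB
  have hDc := BlockContribBounds.card_defectGroup hM hB hD
  obtain ⟨g, hdef, hle, hgc⟩ := isDefectGroup_iff.1 hD
  have hg : g ∈ Cen D := Subgroup.mem_centralizer_iff.2 fun u hu =>
    Subgroup.mem_centralizer_singleton_iff.1 (hle hu)
  have hG0 : Nat.card G ≠ 0 := Nat.card_pos.ne'
  obtain ⟨ad, d', hd'p, hd''⟩ := Nat.exists_eq_pow_mul_and_not_dvd hd0 p hp.ne_one
  obtain ⟨ag, r', hr'p, hr''⟩ := Nat.exists_eq_pow_mul_and_not_dvd hG0 p hp.ne_one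
  have hfac : ∀ {a b : ℕ}, ¬ p ∣ b → (p ^ a * b).factorization p = a := fun {a b} hb => by
    have hb0 : b ≠ 0 := fun h => hb (h ▸ dvd_zero p)
    rw [Nat.factorization_mul (pow_ne_zero _ hp.ne_zero) hb0, Finsupp.add_apply,
      Nat.factorization_eq_zero_of_not_dvd hb, hp.factorization_pow, Finsupp.single_eq_same, add_zero]
  have had : ad = BlockContrib.minExp p B := by rw [← hdv, hd'', hfac hd'p]
  have hag : ag = BlockContrib.minExp p B + blockDefect p B := by rw [hsum, hr'', hfac hr'p]
  set c : ℂ := (Nat.card D : ℂ) * (d : ℂ) / (Nat.card G : ℂ)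
  have hc : c = (d' : ℂ) * (r' : ℂ)⁻¹ := by
    have h1 : (r' : ℂ) ≠ 0 := Nat.cast_ne_zero.2 fun h => hr'p (by rw [h]; exact dvd_zero p)
    simp only [c, hDc, hd'', hr'', had, hag, Nat.cast_mul, Nat.cast_pow, pow_add]
    have h2 : (p : ℂ) ≠ 0 := Nat.cast_ne_zero.2 hp.ne_zero
    field_simp
  have hcI : MemLocalRing M c := hc ▸ (localRing hM).mul_mem (natCast_mem (localRing hM) _)
    (inv_natCast_mem hM hr'p)
  have hcN : ¬ MemLocalIdeal M c := fun h => by
    rw [hc] at h
    have h2 := ideal_mul_right hM h (natCast_mem (localRing hM) r')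
    rw [mul_assoc, inv_mul_cancel₀ (Nat.cast_ne_zero.2 fun h => hr'p (by rw [h]; exact dvd_zero p)), mul_one,
      natCast_mem_iff hM] at h2
    exact hd'p h2
  have hcoef : ∀ x, ((Nat.card D : ℂ) • idem ({χ₀} : Set (IrrCharacter G))).coeff x =
      c * (χ₀ : G → ℂ) x⁻¹ := fun x => by
    rw [MonoidAlgebra.coeff_smul, Finsupp.smul_apply, coeff_idem, blockCoeff, finsum_mem_singleton,
      ClassAlgebraVal.apply_one_eq_charDegree, irr_inv, smul_eq_mul]
    simp only [c]
    ring
  have hri : IsInt M ((Nat.card D : ℂ) • idem ({χ₀} : Set (IrrCharacter G))) := fun x => by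
    rw [hcoef]
    exact (localRing hM).mul_mem hcI (EqualDeg80Field.value_mem hM χ₀ _)
  refine ⟨hri, fun h => hdef.2.2 χ₀ hχ₀ ?_⟩
  have h1 := congrArg (fun z : MonoidAlgebra k (Cen D) => z.coeff (⟨g, hg⟩⁻¹ : Cen D)) h
  simp only [coeff_rk, coeff_tok, MonoidAlgebra.coeff_zero, Finsupp.zero_apply, hπ, Subgroup.coe_inv,
    hcoef, inv_inv] at h1
  have h2 : MemLocalIdeal M ((χ₀ : G → ℂ) g) := by
    by_contra hn
    exact not_ideal_mul hM hcI (EqualDeg80Field.value_mem hM χ₀ _) hcN hn h1
  have hidx : ∃ i', (Subgroup.centralizer ({g} : Set G)).index = p ^ ad * i' := by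
    have h3 := congrArg (fun n => n.factorization p)
      (Subgroup.card_mul_index (Subgroup.centralizer ({g} : Set G)))
    simp only [Nat.factorization_mul Nat.card_pos.ne' Subgroup.index_ne_zero_of_finite,
      Finsupp.add_apply] at h3
    rw [hDc] at hgc
    have h4 := Nat.pow_right_injective hp.two_le hgc
    have h5 : ((Subgroup.centralizer ({g} : Set G)).index).factorization p = ad := by omega
    refine ⟨(Subgroup.centralizer ({g} : Set G)).index /
      p ^ (Subgroup.centralizer ({g} : Set G)).index.factorization p,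
      (Nat.ordProj_mul_ordCompl_eq_self _ p).symm.trans ?_⟩
    rw [h5]
  obtain ⟨i', hi'⟩ := hidx
  show MemLocalIdeal M (centralChar (χ₀ : G → ℂ) g)
  rw [centralChar, ClassAlgebraVal.apply_one_eq_charDegree, show charDegree (χ₀ : G → ℂ) = d from rfl,
    hi', hd'', show ((p ^ ad * i' : ℕ) : ℂ) * (χ₀ : G → ℂ) g / ((p ^ ad * d' : ℕ) : ℂ) =
      ((i' : ℂ) * (d' : ℂ)⁻¹) * (χ₀ : G → ℂ) g by
      have h2 : (p : ℂ) ≠ 0 := Nat.cast_ne_zero.2 hp.ne_zero
      push_cast
      field_simp]
  exact ideal_mul_left hM ((localRing hM).mul_mem (natCast_mem (localRing hM) _)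
    (inv_natCast_mem hM hd'p)) h2

end General

variable {G : Type u} [Group G] [Fintype G]

theorem conj_iff {y : G} {D : Subgroup G} (hy : y ∈ Subgroup.normalizer (D : Set G)) (x : G) :
    x ∈ Cen D ↔ y * x * y⁻¹ ∈ Cen D := by
  have := mem_cen_cjS y D x
  rwa [cjS_of_normalizer hy] at this

theorem σ_rk {k : Type} [Field k] {D : Subgroup G} {y : G}
    (hy : ∀ x, x ∈ Cen D ↔ y * x * y⁻¹ ∈ Cen D) {z : MonoidAlgebra k G}
    (hz : ∀ a, a * z = z * a) :
    πA (conjEquiv y (Cen D) (Cen D) hy).toMonoidHom (rk (Cen D) z) = rk (Cen D) z := by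
  refine MonoidAlgebra.ext (Finsupp.ext fun x => ?_)
  obtain ⟨x, rfl⟩ := (conjEquiv y (Cen D) (Cen D) hy).surjective x
  rw [coeff_πA_equiv, coeff_rk, coeff_rk]
  exact (coeff_inv z hz y x).symm

theorem σ_blk {k : Type} [Field k] (hM : IsPModular p M) (π : localRing hM →+* k) {D : Subgroup G}
    {y : G} (hy : ∀ x, x ∈ Cen D ↔ y * x * y⁻¹ ∈ Cen D) {f f' : Set (IrrCharacter (Cen D))}
    (hf : IsInt M (idem f)) (hf' : IsInt M (idem f')) (hff : cjA y (eb (Cen D) f) = eb (Cen D) f') :
    πA (conjEquiv y (Cen D) (Cen D) hy).toMonoidHom (tok hM π hf) = tok hM π hf' := by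
  refine tok_map hM π _ hf hf' (MonoidAlgebra.ext (Finsupp.ext fun x => ?_))
  obtain ⟨x, rfl⟩ := (conjEquiv y (Cen D) (Cen D) hy).surjective x
  refine (Finsupp.mapDomain_apply (conjEquiv y (Cen D) (Cen D) hy).injective _ x).trans ?_
  show blockCoeff f x = blockCoeff f' _
  rw [← coeff_eb_coe, ← coeff_eb_coe, ← hff, coeff_cjA]
  congr 1
  show (x : G) = y⁻¹ * (y * x * y⁻¹) * y
  group

theorem sq_sub_aux {R : Type*} [Ring R] {r i : R} (hc : i * r = r * i) (hi : i * i = i) :
    r * i * (r * i) - r * i = (r * r - r) * i := by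
  rw [sub_mul, show r * i * (r * i) = r * (i * r) * i by simp only [mul_assoc], hc,
    show r * (r * i) * i = r * r * (i * i) by simp only [mul_assoc], hi]

/-- The truncation of a central element below `B` is determined by its product with one pair. -/
theorem rk_eq_zero {k : Type} [Field k] (hM : IsPModular p M) (π : localRing hM →+* k)
    (hπ : ∀ z, π z = 0 ↔ MemLocalIdeal M (z : ℂ)) {B : Set (IrrCharacter G)} {D : Subgroup G}
    {e : Set (IrrCharacter (Cen D))} (hmax : IsMaximalBrauerPair p M B D e)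
    (hBi : IsInt M (idem B)) (hei : IsInt M (idem e)) {z : MonoidAlgebra k G}
    (hz : z ∈ cenBelow k (eS hM π hBi)) (hz0 : rk (Cen D) z * eS hM π hei = 0) :
    rk (Cen D) z = 0 := by
  have hB : IsPBlock M B := hmax.1.2.1
  have hDp : IsPGroup p D := hmax.1.1.1
  have hblk : ∀ f ∈ blockSet M (Cen D), ∀ hf : IsInt M (idem f),
      rk (Cen D) z * tok hM π hf = 0 := by
    intro f hf hfi
    rw [mem_blockSet] at hf
    have hb : InvBy (Cen D) (idem B) := BrauerPairs81Base.IsCen.invBy (isCen_idem B) _
    have hbD : InvBy D (idem B) := BrauerPairs81Base.IsCen.invBy (isCen_idem B) _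
    by_cases hocc : Occ M D f (idem B)
    · obtain ⟨x, hx⟩ := exists_conj_subpairLE hM hmax (isBrauerPairOf_iff.2 ⟨⟨hDp, hf⟩, hB, hocc⟩)
      have hxD : cjS x D = D := Subgroup.eq_of_le_of_card_ge (subgroup_le_of_subpairLE hx)
        (le_of_eq (card_cjS x D).symm)
      have hxn : x ∈ Subgroup.normalizer (D : Set G) := by
        rw [Subgroup.mem_normalizer_iff]
        intro a
        conv_rhs => rw [← hxD, mem_cjS]
        simp [mul_assoc]
      have heq : cP x ⟨D, f⟩ = (⟨D, e⟩ : BrauerPairIdx G) :=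
        ple_antisymm_top hM hmax.1.1 hx hxD
      have hebq : cjA x (eb (Cen D) f) = eb (Cen D) e := by
        have := eb_cP x ⟨D, f⟩
        rw [heq] at this
        exact this.symm
      have hσ := σ_blk hM π (conj_iff hxn) hfi hei hebq
      have hinj : Function.Injective
          (πA (k := k) (conjEquiv x (Cen D) (Cen D) (conj_iff hxn)).toMonoidHom) :=
        fun a b h => MonoidAlgebra.ext (Finsupp.ext fun c => by
          rw [← coeff_πA_equiv (conjEquiv x (Cen D) (Cen D) (conj_iff hxn)) a, h, coeff_πA_equiv])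
      refine hinj ?_
      rw [map_mul, map_zero, σ_rk (conj_iff hxn) (mem_cenBelow.1 hz).1, hσ]
      exact hz0
    · have hphi : ∀ ξ ∈ f, MemLocalIdeal M (phi D (idem B) ξ) := fun ξ hξ =>
        (phi_dichotomy hM hDp hbD hb hBi (idem_sq B) ξ).resolve_right
          fun h => hocc (occ_of_mem hM hf hb hBi hξ h)
      set w := res (Cen D) (idem B) * idem f
      have hrc : IsCen (res (Cen D) (idem B)) := isCen_res_of_invBy hb
      have hri' : IsInt M (res (Cen D) (idem B)) := isInt_res _ hBi
      have hwc : IsCen w := hrc.mul (isCen_idem f)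
      have hwi : IsInt M w := IsInt.mul hM hri' hfi
      obtain ⟨N, hN⟩ := exists_small_pow hM hwc hwi fun ξ => by
        rw [omega_mul ξ hrc, omega_idem]
        by_cases hξ : ξ ∈ f
        · rw [if_pos hξ, mul_one]; exact hphi ξ hξ
        · rw [if_neg hξ, mul_zero]; exact ideal_zero hM
      have hsq : Small M (w * w - w) := by
        have h1 := small_res_mul hM hDp hbD hbD hBi hBi
        rw [idem_sq] at h1
        have e1 := sq_sub_aux (r := res (Cen D) (idem B)) (i := idem f)
          ((isCen_idem f).comm (res (Cen D) (idem B))) (idem_sq f)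
        rw [e1]
        exact small_mul_right hM (small_symm hM h1) hfi
      have hsmall : Small M w := small_of_idem_of_pow hM hwi hsq (N := N + 1) (Nat.succ_ne_zero N)
        (by rw [pow_succ]; exact small_mul_right hM hN hwi)
      have hz' : rk (Cen D) z = rk (Cen D) z * rk (Cen D) (eS hM π hBi) := by
        rw [← rk_mul hM π hπ hDp hBi hz (mem_cenBelow.2 ⟨eS_comm hM π hBi, eS_sq hM π hBi⟩),
          ← (mem_cenBelow.1 hz).1, (mem_cenBelow.1 hz).2]
      rw [hz', mul_assoc, eS_eq_tok, rk_tok, tok_mul,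
        tok_eq_of_small hM π hπ (z := w) (w := 0) hwi (isInt_zero hM) (by simpa using hsmall),
        tok_zero, mul_zero]
  have hone : IsInt M (∑ f ∈ blockSet M (Cen D), idem f) := fun x => by
    rw [sum_idem_blockSet hM]; exact isInt_one hM x
  have hall : ∀ f, IsInt M (if IsPBlock M f then idem f else (0 : MonoidAlgebra ℂ (Cen D))) :=
    fun f => by
      by_cases h : IsPBlock M f
      · rw [if_pos h]; exact isInt_idem hM h
      · rw [if_neg h]; exact isInt_zero hM
  have h1 : (1 : MonoidAlgebra k (Cen D)) = ∑ f ∈ blockSet M (Cen D), tok hM π (hall f) := by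
    have hs : ∑ f ∈ blockSet M (Cen D),
        (if IsPBlock M f then idem f else (0 : MonoidAlgebra ℂ (Cen D))) = 1 := by
      rw [← sum_idem_blockSet hM]
      exact Finset.sum_congr rfl fun f hf => if_pos (mem_blockSet.1 hf)
    have hsi : IsInt M (∑ f ∈ blockSet M (Cen D),
        (if IsPBlock M f then idem f else (0 : MonoidAlgebra ℂ (Cen D)))) := by
      rw [hs]; exact isInt_one hM
    rw [← tok_sum hM π _ _ hall hsi]
    refine MonoidAlgebra.ext (Finsupp.ext fun x => ?_)
    rw [coeff_tok, MonoidAlgebra.one_def, MonoidAlgebra.coeff_single, Finsupp.single_apply,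
      show (if (1 : Cen D) = x then (1 : k) else 0) = π (if (1 : Cen D) = x then 1 else 0) by
        rw [apply_ite π, map_one, map_zero]]
    refine congrArg π (Subtype.ext ?_)
    simp only [hs, MonoidAlgebra.one_def, MonoidAlgebra.coeff_single, Finsupp.single_apply]
    split_ifs <;> rfl
  rw [← mul_one (rk (Cen D) z), h1, Finset.mul_sum]
  refine Finset.sum_eq_zero fun f hf => ?_
  rw [tok_congr hM π (hall f) (isInt_idem hM (mem_blockSet.1 hf)) (if_pos (mem_blockSet.1 hf))]
  exact hblk f hf _

set_option maxHeartbeats 1000000 in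
/-- The inertial quotient is trivial. -/
theorem stab_le_cen (hM : IsPModular p M) {B : Set (IrrCharacter G)} {D : Subgroup G}
    {e : Set (IrrCharacter (Cen D))} (hmax : IsMaximalBrauerPair p M B D e)
    (hab : ∀ x ∈ D, ∀ y ∈ D, x * y = y * x) {d : ℕ}
    (hdeg : ∀ χ ∈ B, charDegree (χ : G → ℂ) = d) :
    stab (⟨D, e⟩ : BrauerPairIdx G) ≤ Cen D := by
  have hp : p.Prime := Fact.out
  have hB : IsPBlock M B := hmax.1.2.1
  have he : IsPBlock M e := hmax.1.1.2
  have hDp : IsPGroup p D := hmax.1.1.1
  have hD := isDefectGroup_of_maximal hM hmax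
  have hDcard := BlockContribBounds.card_defectGroup hM hB hD
  obtain ⟨k, _, _, _, π, hπ, hred⟩ := EqualDeg80Field.exists_field.{u} hM
  have hBi : IsInt M (idem B) := isInt_idem hM hB
  have hei : IsInt M (idem e) := isInt_idem hM he
  obtain ⟨χ₀, hχ₀, h0⟩ := BlockContrib.exists_height_zero hM hB
  obtain ⟨hri, hrD⟩ := socle_ne_zero hM π hπ hB hD hχ₀ h0
  -- the block of the centraliser
  set Z : Subgroup (Cen D) := D.subgroupOf (Cen D) with hZdef
  have hDle : D ≤ Cen D := fun x hx => Subgroup.mem_centralizer_iff.2 fun y hy => hab y hy x hx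
  have hZcard : Nat.card Z = Nat.card D := Nat.card_congr (Subgroup.subgroupOfEquivOfLe hDle).toEquiv
  have hZc : Z ≤ Subgroup.center (Cen D) := fun z hz => Subgroup.mem_center_iff.2 fun g =>
    Subtype.ext (Subgroup.mem_centralizer_iff.1 g.2 z hz).symm
  haveI hZn : Z.Normal := ⟨fun u hu g => by
    rwa [Subgroup.mem_center_iff.1 (hZc hu) g, mul_inv_cancel_right]⟩
  have hZp : IsPGroup p Z := hDp.comap_subtype
  obtain ⟨D', hD'⟩ := BlockTheoryDefect.exists_defectGroup hM he
  have hD'eq : D' = Z := by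
    refine (Subgroup.eq_of_le_of_card_ge
      (BlockTheoryDefect.normal_le_defectGroup hM he hD' Z hZp) (le_of_eq ?_)).symm
    rw [BlockContribBounds.card_defectGroup hM he hD',
      BlockAbelian81.defect_cen hM hmax hab le_rfl Relation.ReflTransGen.refl, hZcard, hDcard]
  have hDe : IsDefectGroup p M e Z := hD'eq ▸ hD'
  obtain ⟨θ, hθe, hθ⟩ := BlockCentral81.exists_dzero hM he hDe
  have hZtop : Z ⊔ Subgroup.centralizer (Z : Set (Cen D)) = ⊤ := by
    refine eq_top_iff.2 fun x _ => Subgroup.mem_sup_right (Subgroup.mem_centralizer_iff.2 fun z hz => ?_)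
    exact (Subgroup.mem_center_iff.1 (hZc hz) x).symm
  have hke : Nat.card e = Nat.card Z := by
    rw [BlockPCount9.Setting.card_eq ⟨hM, hZp, hZtop, hZn, he, hDe, hθe, hθ.triv⟩]
    refine (Nat.card_eq_of_bijective ConjClasses.mk ⟨fun a b h => ?_, ConjClasses.mk_surjective⟩).symm
    obtain ⟨c, hc⟩ := isConj_iff.1 (ConjClasses.mk_eq_mk_iff_isConj.1 h)
    rw [← hc]
    refine Subtype.ext ?_
    show (a : Cen D) = c * a * c⁻¹
    rw [Subgroup.mem_center_iff.1 (hZc a.2) c]
    simp
  -- a basis of the centre of the block of the centraliser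
  set eb' := eS hM π hei
  have hsing : ∀ x : Cen D, p ∣ orderOf x → eb'.coeff x = 0 := fun x hx => by
    rw [coeff_eS, show (⟨(idem e).coeff x, hei x⟩ : localRing hM) = 0 from
      Subtype.ext (blockCoeff_eq_zero_of_dvd hM he hx), map_zero]
  let L : (Z → k) →ₗ[k] cenBelow k eb' :=
    { toFun := fun a => ⟨∑ u : Z, a u • (MonoidAlgebra.single (u : Cen D) 1 * eb'), by
        refine Submodule.sum_mem _ fun u _ => Submodule.smul_mem _ _ (mem_cenBelow.2 ⟨fun w => ?_, ?_⟩)
        · have hu : MonoidAlgebra.single (u : Cen D) (1 : k) * w =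
              w * MonoidAlgebra.single (u : Cen D) 1 := by
            refine MonoidAlgebra.ext (Finsupp.ext fun x => ?_)
            rw [BrandtBlock42.coeff_single_mul', BrandtBlock42.coeff_mul_single']
            congr 1
            exact (Subgroup.mem_center_iff.1 (inv_mem (hZc u.2)) x).symm
          rw [← mul_assoc, ← hu, mul_assoc, eS_comm hM π hei, ← mul_assoc]
        · rw [← mul_assoc, ← eS_comm hM π hei (MonoidAlgebra.single (u : Cen D) 1), mul_assoc,
            eS_sq hM π hei]⟩
      map_add' := fun a b => Subtype.ext (by simp [add_smul, Finset.sum_add_distrib])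
      map_smul' := fun c a => Subtype.ext (by simp [Finset.smul_sum, smul_smul]) }
  have hLinj : Function.Injective L := by
    refine (injective_iff_map_eq_zero L).2 fun a ha => funext fun u₀ => ?_
    obtain ⟨s, hs⟩ : ∃ s, eb'.coeff s ≠ 0 := by
      by_contra! h
      exact eS_ne_zero hM π hπ hei (block_nonempty hM he) (MonoidAlgebra.ext (Finsupp.ext (by simpa using h)))
    have h := congrArg (fun w : cenBelow k eb' => (w : MonoidAlgebra k (Cen D)).coeff (u₀ * s)) ha
    simp only [L, LinearMap.coe_mk, AddHom.coe_mk, MonoidAlgebra.coeff_sum, Finsupp.finsetSum_apply,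
      MonoidAlgebra.coeff_smul, Finsupp.smul_apply, smul_eq_mul, BrandtBlock42.coeff_single_mul',
      ZeroMemClass.coe_zero, MonoidAlgebra.coeff_zero, Finsupp.zero_apply] at h
    rw [Finset.sum_eq_single u₀] at h
    · rw [inv_mul_cancel_left, mul_eq_zero] at h
      exact h.resolve_right hs
    · intro u _ hu
      rw [hsing _ ?_, mul_zero]
      by_contra hr
      have hsr : ¬ p ∣ orderOf s := fun hh => hs (hsing s hh)
      have := (BlockCentral81.split_unique hZc hZp (u := (u : Cen D)⁻¹ * u₀) (u' := 1)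
        (mul_mem (inv_mem u.2) u₀.2) (one_mem Z) hsr hr (by rw [one_mul, mul_assoc])).1
      exact hu (Subtype.ext (inv_mul_eq_one.1 this))
    · simp
  have hLsurj : Function.Surjective L := by
    refine (LinearMap.injective_iff_surjective_of_finrank_eq_finrank ?_).1 hLinj
    refine le_antisymm (LinearMap.finrank_le_finrank_of_injective hLinj) ?_
    refine (finrank_cen_le hM hei π).trans (le_of_eq ?_)
    rw [Module.finrank_fintype_fun_eq_card, ← Nat.card_eq_fintype_card, ← hke, Set.toFinset_card,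
      Nat.card_eq_fintype_card]
  have hkill : ∀ z ∈ cenBelow k (eS hM π hBi), rk (Cen D) z * eb' = 0 → z = 0 := fun z hz hz0 =>
    EqualDeg80Socle.rk_injective hM π hπ hred hB hBi hdeg hDp hχ₀ hri hrD hz
      (rk_eq_zero hM π hπ hmax hBi hei hz hz0)
  -- the coordinates
  let T : cenBelow k (eS hM π hBi) →ₗ[k] cenBelow k eb' :=
    { toFun := fun z => ⟨rk (Cen D) (z : MonoidAlgebra k G) * eb', mem_cenBelow.2 ⟨fun w => by
          have hc : ∀ v, v * rk (Cen D) (z : MonoidAlgebra k G) =
              rk (Cen D) (z : MonoidAlgebra k G) * v := commute_of_coeff _ fun x g => by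
            rw [coeff_rk, coeff_rk]
            exact coeff_inv _ (mem_cenBelow.1 z.2).1 g x
          rw [← mul_assoc, hc, mul_assoc, eS_comm hM π hei, ← mul_assoc],
        by rw [← mul_assoc, ← eS_comm hM π hei, mul_assoc, eS_sq hM π hei]⟩⟩
      map_add' := fun a b => Subtype.ext (by simp [add_mul])
      map_smul' := fun c a => Subtype.ext (by simp) }
  let Le := LinearEquiv.ofBijective L ⟨hLinj, hLsurj⟩
  let coord := Le.symm.toLinearMap.comp T
  intro y hy
  refine Subgroup.mem_centralizer_iff.2 fun x hx => ?_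
  by_contra hne
  obtain ⟨hyn, hye⟩ := cP_eq_self_iff.1 (mem_stab.1 hy)
  set E := conjEquiv y (Cen D) (Cen D) (conj_iff hyn)
  have hEZ : ∀ {u : Cen D}, u ∈ Z → E u ∈ Z := fun {u} hu =>
    (Subgroup.mem_normalizer_iff.1 hyn (u : G)).1 hu
  let φ : Z → Z := fun u => ⟨E u, hEZ u.2⟩
  have hφ : Function.Bijective φ := Finite.injective_iff_bijective.1 fun a b h =>
    Subtype.ext (E.injective (congrArg Subtype.val h))
  have hinv : ∀ z u, coord z (φ u) = coord z u := by
    intro z u
    set a := coord z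
    have ha : ∑ u : Z, a u • (MonoidAlgebra.single (u : Cen D) 1 * eb') =
        rk (Cen D) (z : MonoidAlgebra k G) * eb' :=
      congrArg Subtype.val (Le.apply_symm_apply (T z))
    have hσ := congrArg (πA (k := k) E.toMonoidHom) ha
    rw [map_sum, map_mul, σ_rk (conj_iff hyn) (mem_cenBelow.1 z.2).1] at hσ
    simp only [map_smul, map_mul, πA_single, MulEquiv.coe_toMonoidHom] at hσ
    rw [show πA (k := k) E.toMonoidHom eb' = eb' from σ_blk hM π (conj_iff hyn) hei hei hye] at hσ
    have h2 : L (fun v => a ((Equiv.ofBijective φ hφ).symm v)) = T z := by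
      refine Subtype.ext ?_
      show ∑ v : Z, _ = rk (Cen D) (z : MonoidAlgebra k G) * eb'
      rw [← hσ, ← Equiv.sum_comp (Equiv.ofBijective φ hφ)]
      refine Finset.sum_congr rfl fun v _ => ?_
      simp only [Equiv.symm_apply_apply]
      rfl
    have h3 : L a = T z := Le.apply_symm_apply (T z)
    have h4 := congrFun (hLinj (h2.trans h3.symm)) (φ u)
    simp only [Equiv.ofBijective_symm_apply_apply] at h4
    exact h4.symm
  let x0 : Z := ⟨⟨x, hDle hx⟩, hx⟩
  have hmove : φ x0 ≠ x0 := fun h => hne (by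
    have : y * x * y⁻¹ = x := congrArg (fun u : Z => ((u : Cen D) : G)) h
    calc x * y = y * x * y⁻¹ * y := by rw [this]
      _ = y * x := by group)
  let F : cenBelow k (eS hM π hBi) →ₗ[k] ({u : Z // u ≠ φ x0} → k) :=
    (LinearMap.funLeft k k Subtype.val).comp coord
  have hFinj : Function.Injective F := by
    refine (injective_iff_map_eq_zero F).2 fun z hz => ?_
    have h1 : coord z = 0 := funext fun u => by
      by_cases hu : u = φ x0
      · rw [hu, hinv]
        exact congrFun hz ⟨x0, fun h => hmove h.symm⟩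
      · exact congrFun hz ⟨u, hu⟩
    have h2 : T z = 0 := Le.symm.map_eq_zero_iff.1 h1
    exact Subtype.ext (hkill _ z.2 (congrArg Subtype.val h2))
  have h1 := LinearMap.finrank_le_finrank_of_injective hFinj
  rw [Module.finrank_fintype_fun_eq_card, Fintype.card_subtype_compl, Fintype.card_subtype_eq,
    ← Nat.card_eq_fintype_card, hZcard, hDcard] at h1
  have h2 := card_defect_le hM hB hdeg
  have h3 := le_finrank_cen hM hBi π
  have h4 : 0 < p ^ blockDefect p B := pow_pos hp.pos _
  omega

/-- One degree and an abelian defect group force nilpotency. -/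
theorem nilpotent_of_equal_degrees (hM : IsPModular p M) {B : Set (IrrCharacter G)}
    (hB : IsPBlock M B) {D : Subgroup G} (hD : IsDefectGroup p M B D)
    (hab : ∀ x ∈ D, ∀ y ∈ D, x * y = y * x) {d : ℕ}
    (hdeg : ∀ χ ∈ B, charDegree (χ : G → ℂ) = d) : IsNilpotentBlock p M B := by
  obtain ⟨e, hmax⟩ := Star80Nilpotent.exists_maximal hM hB hD
  have hst := stab_le_cen hM hmax hab hdeg
  refine BrauerPairs81Nilpotent.nilpotent_of_below hM hmax fun a ha x hx _ => ?_
  refine Subgroup.mem_centralizer_iff.2 fun q hq => ?_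
  have h := BlockAbelian81.fix_of_nilpotent hM hmax hab hst a ha x
    (by rw [mem_stab.1 hx]; exact ha) q hq
  calc q * x = x * q * x⁻¹ * x := by rw [h]
    _ = x * q := by group

end Cfsg.Agent.EqualDeg80Abelian
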