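import Mathlib

/-!
A finite dimensional algebra, a central idempotent `e` and matrix units of size `d` for `e` modulo a
nilpotent ideal: when the dimension of `eA` is at most `d * d` times a bound for the central elements
in `eA`, every element of `eA` is a combination of lifted matrix units with central coefficients.
-/

set_option autoImplicit false

namespace Cfsg.Agent.EqualDeg80Alg

variable {k R R0 : Type*} [Field k] [Ring R] [Algebra k R] [Ring R0] [Algebra k R0]
  [FiniteDimensional k R]

/-- The central elements below `e`. -/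
def cenBelow (k : Type*) {R : Type*} [Field k] [Ring R] [Algebra k R] (e : R) : Submodule k R :=
  (Subalgebra.center k R).toSubmodule ⊓
    LinearMap.ker (LinearMap.mulLeft k e - LinearMap.id)

theorem mem_cenBelow {e z : R} : z ∈ cenBelow k e ↔ (∀ a, a * z = z * a) ∧ e * z = z := by
  simp only [cenBelow, Submodule.mem_inf, Subalgebra.mem_toSubmodule, Subalgebra.mem_center_iff,
    LinearMap.mem_ker, LinearMap.sub_apply, LinearMap.mulLeft_apply, LinearMap.id_apply, sub_eq_zero]

theorem exists_central (φ : R →ₐ[k] R0) (hnil : IsNilpotent (RingHom.ker φ.toRingHom))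
    {e : R} (hec : ∀ a, a * e = e * a) (he : e * e = e) {d : ℕ} [NeZero d]
    (ε : Fin d → Fin d → R0) (hεr : ∀ i j, ∃ x, φ x = ε i j)
    (hεm : ∀ i j a b, ε i j * ε a b = if j = a then ε i b else 0)
    (hεs : ∑ i, ε i i = φ e) {m : ℕ}
    (hdim : Module.finrank k (LinearMap.range (LinearMap.mulLeft k e)) ≤ d * d * m)
    (hcen : m ≤ Module.finrank k (cenBelow k e)) (x : R) (hx : e * x = x) :
    ∃ z a : Fin d → Fin d → R, (∀ i j, z i j ∈ cenBelow k e) ∧
      x = ∑ i, ∑ j, z i j * a i j ∧ (φ x = 0 → ∀ i j, φ (z i j) = 0) ∧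
        ∀ i j, φ (a i j) = ε i j := by
  obtain ⟨N, hN⟩ := hnil
  have hker : ∀ {y : R}, y ∈ RingHom.ker φ.toRingHom ↔ φ y = 0 := fun {y} => RingHom.mem_ker
  have hnel : ∀ y, φ y = 0 → IsNilpotent y := fun y hy => ⟨N, by
    have := Ideal.pow_mem_pow (hker.2 hy) N
    rw [hN] at this
    exact Ideal.mem_bot.1 this⟩
  let o : Fin d := 0
  choose u hu using hεr
  obtain ⟨f₀, hf₀, hφf₀⟩ := exists_isIdempotentElem_eq_of_ker_isNilpotent φ.toRingHom
    (fun y hy => hnel y (RingHom.mem_ker.1 hy)) (ε o o) ⟨u o o, hu o o⟩
    (by show ε o o * ε o o = _; rw [hεm, if_pos rfl])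
  replace hφf₀ : φ f₀ = ε o o := hφf₀
  have heo : φ e * ε o o = ε o o := by
    rw [← hεs, Finset.sum_mul, Finset.sum_eq_single o] <;> simp +contextual [hεm]
  set f := e * f₀ with hfdef
  have hf : f * f = f := by
    calc e * f₀ * (e * f₀) = e * (f₀ * e) * f₀ := by simp only [mul_assoc]
      _ = e * (e * f₀) * f₀ := by rw [hec]
      _ = e * e * (f₀ * f₀) := by simp only [mul_assoc]
      _ = e * f₀ := by rw [he, hf₀.eq]
  have hφf : φ f = ε o o := by rw [hfdef, map_mul, hφf₀, heo]
  have hef : e * f = f := by rw [hfdef, ← mul_assoc, he]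
  let r : Fin d → R := fun i => e * u i o * f
  let s₀ : Fin d → R := fun i => f * (e * u o i)
  have her : ∀ i, e * r i = r i := fun i => by simp only [r, ← mul_assoc, he]
  have hrf : ∀ i, r i * f = r i := fun i => by simp only [r, mul_assoc, hf]
  have hφr : ∀ i, φ (r i) = ε i o := fun i => by
    simp only [r, map_mul, hu, hφf, ← hεs]
    rw [Finset.sum_mul, Finset.sum_eq_single i] <;> simp +contextual [hεm]
  have hφs₀ : ∀ i, φ (s₀ i) = ε o i := fun i => by
    simp only [s₀, map_mul, hu, hφf, ← hεs]
    rw [Finset.sum_mul, Finset.sum_eq_single o] <;> simp +contextual [hεm]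
  set S := ∑ i, r i * s₀ i + (1 - e) with hS
  have hφS : φ S = 1 := by
    simp only [hS, map_add, map_sum, map_mul, map_sub, map_one, hφr, hφs₀, hεm, if_true, hεs]
    abel
  obtain ⟨T, hT⟩ : IsUnit S := by
    have h := (hnel (1 - S) (by rw [map_sub, map_one, hφS, sub_self])).isUnit_one_sub
    rwa [sub_sub_cancel] at h
  have hφT : φ (↑T⁻¹ : R) = 1 := by
    have h := congrArg φ T.mul_inv
    rw [map_mul, hT, hφS, one_mul, map_one] at h
    exact h
  let s : Fin d → R := fun i => s₀ i * ↑T⁻¹
  have hfs : ∀ i, f * s i = s i := fun i => by simp only [s, s₀, ← mul_assoc, hf]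
  have hφs : ∀ i, φ (s i) = ε o i := fun i => by simp only [s, map_mul, hφs₀, hφT, mul_one]
  have hes : e * S = ∑ i, r i * s₀ i := by
    simp only [hS, mul_add, mul_sub, mul_one, he, sub_self, add_zero, Finset.mul_sum, ← mul_assoc, her]
  have hrs : ∑ i, r i * s i = e := by
    calc ∑ i, r i * s i = (∑ i, r i * s₀ i) * ↑T⁻¹ := by simp only [s, Finset.sum_mul, mul_assoc]
      _ = e := by rw [← hes, ← hT, mul_assoc, T.mul_inv, mul_one]
  -- the lifted units are exact
  have hsr : ∀ i j, s i * r j = if i = j then f else 0 := by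
    let E : Fin d → Fin d → R := fun i j => (if i = j then f else 0) - s i * r j
    have hEK : ∀ (n : ℕ) i j, E i j ∈ (RingHom.ker φ.toRingHom) ^ (n + 1) := by
      have h0 : ∀ i j, E i j ∈ RingHom.ker φ.toRingHom := fun i j => hker.2 (by
        simp only [E, map_sub, map_mul, hφs, hφr, hεm]
        split_ifs <;> simp [hφf])
      have hP : ∀ i j, ∑ l, s i * r l * (s l * r j) = s i * r j := fun i j => by
        calc ∑ l, s i * r l * (s l * r j) = s i * (∑ l, r l * s l) * r j := by
              simp only [Finset.mul_sum, Finset.sum_mul, mul_assoc]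
          _ = _ := by rw [hrs, mul_assoc, her]
      have hE : ∀ i j, ∑ l, E i l * E l j = E i j := fun i j => by
        have e1 : ∀ l, E i l * E l j = (if i = l then (if l = j then f else 0) else 0) -
            (if i = l then s l * r j else 0) - (if l = j then s i * r l else 0) +
              s i * r l * (s l * r j) := fun l => by
          simp only [E, sub_mul, mul_sub]
          have h1 : f * (s l * r j) = s l * r j := by rw [← mul_assoc, hfs]
          have h2 : s i * r l * f = s i * r l := by rw [mul_assoc, hrf]
          by_cases h : i = l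
          · subst h
            by_cases h' : i = j
            · subst h'
              simp only [↓reduceIte, hf, h1, h2]
              abel
            · simp only [↓reduceIte, if_neg h', h1, mul_zero, zero_mul]
              abel
          · by_cases h' : l = j
            · subst h'
              simp only [↓reduceIte, if_neg h, h2, mul_zero, zero_mul]
              abel
            · simp only [if_neg h, if_neg h', mul_zero, zero_mul]
              abel
        simp only [e1, Finset.sum_add_distrib, Finset.sum_sub_distrib, Finset.sum_ite_eq,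
          Finset.sum_ite_eq', Finset.mem_univ, if_true, hP, E]
        abel
      intro n
      induction n with
      | zero => intro i j; rw [zero_add, Submodule.pow_one]; exact h0 i j
      | succ n ih =>
        intro i j
        rw [← hE]
        refine Ideal.sum_mem _ fun l _ => ?_
        rw [Submodule.pow_succ]
        exact Submodule.mul_mem_mul (ih i l) (h0 l j)
    intro i j
    have h := hEK N i j
    rw [Submodule.pow_succ, hN] at h
    have : E i j = 0 := by simpa using h
    exact (sub_eq_zero.1 this).symm
  -- the corner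
  let C : Submodule k R := LinearMap.range ((LinearMap.mulLeft k f).comp (LinearMap.mulRight k f))
  have hC : ∀ {c : R}, c ∈ C → f * c = c ∧ c * f = c := fun {c} hc => by
    obtain ⟨y, rfl⟩ := hc
    simp only [LinearMap.comp_apply, LinearMap.mulLeft_apply, LinearMap.mulRight_apply]
    exact ⟨by rw [← mul_assoc, hf], by simp only [mul_assoc, hf]⟩
  let Ψ : (Fin d → Fin d → C) →ₗ[k] LinearMap.range (LinearMap.mulLeft k e) :=
    { toFun := fun c => ⟨∑ i, ∑ j, r i * (c i j : R) * s j, ∑ i, ∑ j, r i * (c i j : R) * s j, by
        simp only [LinearMap.mulLeft_apply, Finset.mul_sum, ← mul_assoc, her]⟩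
      map_add' := fun a b => Subtype.ext (by
        simp [mul_add, add_mul, Finset.sum_add_distrib])
      map_smul' := fun t a => Subtype.ext (by simp [Finset.smul_sum]) }
  have hΨ : Function.Injective Ψ := by
    refine (injective_iff_map_eq_zero Ψ).2 fun c hc => funext fun a => funext fun b => Subtype.ext ?_
    have h := congrArg (fun y : LinearMap.range (LinearMap.mulLeft k e) => s a * (y : R) * r b) hc
    simp only [Ψ, LinearMap.coe_mk, AddHom.coe_mk, Finset.mul_sum, Finset.sum_mul,
      Submodule.coe_zero, mul_zero, zero_mul] at h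
    rw [Finset.sum_eq_single a, Finset.sum_eq_single b] at h
    · rw [show s a * (r a * (c a b : R) * s b) * r b = s a * r a * (c a b : R) * (s b * r b) by
        simp only [mul_assoc], hsr, hsr, if_pos rfl, if_pos rfl, (hC (c a b).2).1,
        (hC (c a b).2).2] at h
      simpa using h
    · intro l _ hl
      rw [show s a * (r a * (c a l : R) * s l) * r b = s a * r a * (c a l : R) * (s l * r b) by
        simp only [mul_assoc], hsr l b, if_neg hl, mul_zero]
    · simp
    · intro l _ hl
      refine Finset.sum_eq_zero fun j _ => ?_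
      rw [show s a * (r l * (c l j : R) * s j) * r b = s a * r l * (c l j : R) * (s j * r b) by
        simp only [mul_assoc], hsr a l, if_neg (Ne.symm hl), zero_mul, zero_mul]
    · simp
  have hdC : d * d * Module.finrank k C ≤ d * d * m := by
    refine le_trans (le_of_eq ?_) ((LinearMap.finrank_le_finrank_of_injective hΨ).trans hdim)
    simp [Module.finrank_pi_fintype, mul_assoc]
  have hfz : ∀ {z : R}, z ∈ cenBelow k e → f * z * f = z * f := fun {z} hz => by
    rw [(mem_cenBelow.1 hz).1 f, mul_assoc, hf]
  let Θ : cenBelow k e →ₗ[k] C :=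
    { toFun := fun z => ⟨(z : R) * f, z, by
        simp only [LinearMap.comp_apply, LinearMap.mulLeft_apply, LinearMap.mulRight_apply]
        rw [← mul_assoc, hfz z.2]⟩
      map_add' := fun a b => Subtype.ext (by simp [add_mul])
      map_smul' := fun t a => Subtype.ext (by simp) }
  have hΘ : Function.Injective Θ := by
    refine (injective_iff_map_eq_zero Θ).2 fun z hz => Subtype.ext ?_
    obtain ⟨hzc, hze⟩ := mem_cenBelow.1 z.2
    have h : (z : R) * f = 0 := congrArg (fun y : C => (y : R)) hz
    calc (z : R) = (∑ i, r i * s i) * z := by rw [hrs, hze]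
      _ = ∑ i, r i * ((z : R) * f) * s i := by
        rw [Finset.sum_mul]
        refine Finset.sum_congr rfl fun i _ => ?_
        rw [mul_assoc, hzc (s i), mul_assoc (r i), mul_assoc (z : R) f, hfs]
      _ = 0 := by simp [h]
  have hsurj : Function.Surjective Θ := by
    refine (LinearMap.injective_iff_surjective_of_finrank_eq_finrank ?_).1 hΘ
    refine le_antisymm (LinearMap.finrank_le_finrank_of_injective hΘ) (le_trans ?_ hcen)
    exact Nat.le_of_mul_le_mul_left hdC (Nat.mul_pos (NeZero.pos d) (NeZero.pos d))
  have hmem : ∀ a b, s a * x * r b ∈ C := fun a b => ⟨s a * x * r b, by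
    simp only [LinearMap.comp_apply, LinearMap.mulLeft_apply, LinearMap.mulRight_apply]
    simp only [mul_assoc, hrf]
    rw [← mul_assoc, hfs]⟩
  choose z hz using fun a b => hsurj ⟨_, hmem a b⟩
  replace hz : ∀ a b, (z a b : R) * f = s a * x * r b := fun a b => congrArg Subtype.val (hz a b)
  refine ⟨fun i j => z i j, fun i j => r i * s j, fun i j => (z i j).2, ?_, fun hx0 i j => ?_,
    fun i j => by rw [map_mul, hφr, hφs, hεm, if_pos rfl]⟩
  · calc x = (∑ i, r i * s i) * x * ∑ j, r j * s j := by rw [hrs, hx, hec, hx]
      _ = ∑ i, ∑ j, r i * (s i * x * r j) * s j := by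
        simp only [Finset.sum_mul, Finset.mul_sum, mul_assoc]
        exact Finset.sum_comm
      _ = ∑ i, ∑ j, (z i j : R) * (r i * s j) := by
        refine Finset.sum_congr rfl fun i _ => Finset.sum_congr rfl fun j _ => ?_
        rw [← hz, mul_assoc (r i), mul_assoc (z i j : R), hfs, ← mul_assoc,
          (mem_cenBelow.1 (z i j).2).1 (r i), mul_assoc]
  · obtain ⟨hzc, hze⟩ := mem_cenBelow.1 (z i j).2
    have h0 : φ (z i j) * ε o o = 0 := by
      rw [← hφf, ← map_mul, hz, map_mul, map_mul, hx0, mul_zero, zero_mul]
    calc φ (z i j) = (∑ l, ε l l) * φ (z i j) := by rw [hεs, ← map_mul, hze]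
      _ = ∑ l, ε l o * (φ (z i j) * ε o o) * ε o l := by
        rw [Finset.sum_mul]
        refine Finset.sum_congr rfl fun l _ => ?_
        rw [mul_assoc, mul_assoc (φ _) (ε o o), hεm, if_pos rfl, ← hφs, ← map_mul φ (z i j : R),
          ← hzc (s l), map_mul, hφs, ← mul_assoc, hεm, if_pos rfl]
      _ = 0 := by simp [h0]

end Cfsg.Agent.EqualDeg80Alg
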