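import Mathlib
import Cfsg.Agent.Lib.BrandtAlgebra42

/-!
An algebra with a map onto a product of matrix algebras with nilpotent kernel: the rank of the image
of an idempotent under any matrix representation is a fixed combination of its ranks in the factors.
-/

set_option autoImplicit false

namespace Cfsg.Agent.EqualDeg80Rank

open Matrix

attribute [local instance] Classical.propDecidable

variable {k : Type*} [Field k]

/-- An idempotent matrix factors through any idempotent of at least its rank. -/
theorem exists_factor {d : ℕ} {E F : Matrix (Fin d) (Fin d) k} (hE : E * E = E) (hF : F * F = F)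
    (h : E.rank ≤ F.rank) : ∃ X Y, E = X * F * Y := by
  let e := Matrix.toLin' E
  let f := Matrix.toLin' F
  have he : ∀ v, e (e v) = e v := fun v => by
    rw [← LinearMap.comp_apply]; simp only [e, ← Matrix.toLin'_mul, hE]
  have hf : ∀ v, f (f v) = f v := fun v => by
    rw [← LinearMap.comp_apply]; simp only [f, ← Matrix.toLin'_mul, hF]
  have hle : Module.finrank k (LinearMap.range e) ≤ Module.finrank k (LinearMap.range f) := h
  obtain ⟨u, hu⟩ : ∃ u : LinearMap.range e →ₗ[k] LinearMap.range f, Function.Injective u := by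
    let b := Module.finBasis k (LinearMap.range e)
    let b' := Module.finBasis k (LinearMap.range f)
    refine ⟨b.constr k fun i => b' (Fin.castLE hle i), (injective_iff_map_eq_zero _).2 fun z hz => ?_⟩
    rw [Module.Basis.constr_apply_fintype] at hz
    have hli := Fintype.linearIndependent_iff.1
      (b'.linearIndependent.comp _ (Fin.castLE_injective hle)) _ hz
    exact b.equivFun.injective (by rw [map_zero]; exact funext hli)
  obtain ⟨v, hv⟩ := u.exists_leftInverse_of_injective (LinearMap.ker_eq_bot.2 hu)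
  let x : (Fin d → k) →ₗ[k] (Fin d → k) :=
    (LinearMap.range e).subtype ∘ₗ v ∘ₗ f.rangeRestrict
  let y : (Fin d → k) →ₗ[k] (Fin d → k) :=
    (LinearMap.range f).subtype ∘ₗ u ∘ₗ e.rangeRestrict
  refine ⟨LinearMap.toMatrix' x, LinearMap.toMatrix' y, Matrix.toLin'.injective ?_⟩
  refine LinearMap.ext fun w => ?_
  simp only [Matrix.toLin'_mul, Matrix.toLin'_toMatrix', LinearMap.comp_apply]
  show e w = x (f (y w))
  obtain ⟨z, hz⟩ := (u (e.rangeRestrict w)).2
  have h1 : f (y w) = y w := by
    show f (u (e.rangeRestrict w) : Fin d → k) = _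
    rw [← hz, hf]; exact hz
  have h2 : f.rangeRestrict (y w) = u (e.rangeRestrict w) := Subtype.ext h1
  show e w = ((v (f.rangeRestrict (f (y w)))) : Fin d → k)
  rw [h1, h2, ← LinearMap.comp_apply, hv]
  rfl

/-- The trace of an idempotent matrix is its rank. -/
theorem trace_eq_rank {d : ℕ} (E : Matrix (Fin d) (Fin d) k) (hE : E * E = E) :
    E.trace = (E.rank : k) := (BrandtAlgebra42.rank_eq_trace E hE).symm

/-- Ranks add over orthogonal idempotent matrices. -/
theorem rank_add_of_orth {d : ℕ} {E F : Matrix (Fin d) (Fin d) k} (hE : E * E = E) (hF : F * F = F)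
    (hEF : E * F = 0) (hFE : F * E = 0) : (E + F).rank = E.rank + F.rank := by
  show Module.finrank k (LinearMap.range (Matrix.toLin' (E + F))) =
    Module.finrank k (LinearMap.range (Matrix.toLin' E)) + Module.finrank k (LinearMap.range (Matrix.toLin' F))
  set e := Matrix.toLin' E
  set f := Matrix.toLin' F
  have h11 : ∀ v, e (e v) = e v := fun v => by
    rw [← LinearMap.comp_apply]; simp only [e, ← Matrix.toLin'_mul, hE]
  have h22 : ∀ v, f (f v) = f v := fun v => by
    rw [← LinearMap.comp_apply]; simp only [f, ← Matrix.toLin'_mul, hF]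
  have h12 : ∀ v, e (f v) = 0 := fun v => by
    rw [← LinearMap.comp_apply]; simp only [e, f, ← Matrix.toLin'_mul, hEF, map_zero, LinearMap.zero_apply]
  have h21 : ∀ v, f (e v) = 0 := fun v => by
    rw [← LinearMap.comp_apply]; simp only [e, f, ← Matrix.toLin'_mul, hFE, map_zero, LinearMap.zero_apply]
  rw [map_add]
  have hsup : LinearMap.range (e + f) = LinearMap.range e ⊔ LinearMap.range f := by
    refine le_antisymm (LinearMap.range_le_iff_comap.2 (eq_top_iff.2 fun v _ => ?_)) (sup_le ?_ ?_)
    · exact Submodule.add_mem_sup (LinearMap.mem_range_self e v) (LinearMap.mem_range_self f v)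
    · rintro _ ⟨v, rfl⟩; exact ⟨e v, by simp [h11, h21]⟩
    · rintro _ ⟨v, rfl⟩; exact ⟨f v, by simp [h22, h12]⟩
  have hinf : LinearMap.range e ⊓ LinearMap.range f = ⊥ := by
    rw [Submodule.eq_bot_iff]
    rintro _ ⟨⟨v, rfl⟩, ⟨w, hw⟩⟩
    rw [← h11 v, ← hw, h12]
  rw [hsup, ← Submodule.finrank_sup_add_finrank_inf_eq, hinf, finrank_bot, add_zero]

/-- Ranks add over a family of orthogonal idempotent matrices. -/
theorem rank_sum_of_orth {d : ℕ} {ι : Type*} (s : Finset ι) (E : ι → Matrix (Fin d) (Fin d) k)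
    (hE : OrthogonalIdempotents E) : (∑ i ∈ s, E i).rank = ∑ i ∈ s, (E i).rank := by
  induction s using Finset.induction_on with
  | empty => simp
  | insert a s ha ih =>
    rw [Finset.sum_insert ha, Finset.sum_insert ha, ← ih,
      rank_add_of_orth (hE.idem a) hE.isIdempotentElem_sum]
    · rw [Finset.mul_sum]
      exact Finset.sum_eq_zero fun i hi => hE.ortho fun h => ha (h ▸ hi)
    · rw [Finset.sum_mul]
      exact Finset.sum_eq_zero fun i hi => hE.ortho fun h => ha (h.symm ▸ hi)

variable {A : Type*} [Ring A] [Algebra k A] {m : ℕ} {n : Fin m → ℕ}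

/-- Comparing ranks in the factors compares ranks in every representation. -/
theorem rank_le (P : A →ₐ[k] Π l, Matrix (Fin (n l)) (Fin (n l)) k) (hP : Function.Surjective P)
    (hnil : IsNilpotent (RingHom.ker P.toRingHom)) {d : ℕ} (R : A →ₐ[k] Matrix (Fin d) (Fin d) k)
    {f f' : A} (hf : f * f = f) (hf' : f' * f' = f') (h : ∀ l, (P f l).rank ≤ (P f' l).rank) :
    (R f).rank ≤ (R f').rank := by
  have hfac : ∀ l, ∃ X Y, P f l = X * P f' l * Y := fun l =>
    exists_factor (by rw [← Pi.mul_apply, ← map_mul, hf]) (by rw [← Pi.mul_apply, ← map_mul, hf']) (h l)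
  choose X Y hXY using hfac
  obtain ⟨x, hx⟩ := hP X
  obtain ⟨y, hy⟩ := hP Y
  set t := f * x * f' * y * f with ht
  have hPf : ∀ l, P f l * P f l = P f l := fun l => by rw [← Pi.mul_apply, ← map_mul, hf]
  have hPt : P t = P f := by
    funext l
    simp only [t, map_mul, Pi.mul_apply, hx, hy]
    calc P f l * X l * P f' l * Y l * P f l = P f l * (X l * P f' l * Y l) * P f l := by
          simp only [mul_assoc]
      _ = P f l := by rw [← hXY, hPf, hPf]
  obtain ⟨N, hN⟩ := hnil
  have hj : (f - t) ^ N = 0 := by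
    have := Ideal.pow_mem_pow (show f - t ∈ RingHom.ker P.toRingHom from RingHom.mem_ker.2 (by
      show P (f - t) = 0
      rw [map_sub, hPt, sub_self])) N
    rw [hN] at this
    exact Ideal.mem_bot.1 this
  have hft : f * t = t := by simp only [t, ← mul_assoc, hf]
  have htf : t * f = t := by simp only [t, mul_assoc, hf]
  have hfj : f * (1 - (f - t)) = t := by rw [mul_sub, mul_one, mul_sub, hf, hft, sub_sub_cancel]
  have hsum : t * (∑ i ∈ Finset.range N, (f - t) ^ i) = f := by
    calc t * (∑ i ∈ Finset.range N, (f - t) ^ i)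
        = f * ((1 - (f - t)) * ∑ i ∈ Finset.range N, (f - t) ^ i) := by rw [← mul_assoc, hfj]
      _ = f := by rw [mul_neg_geom_sum, hj, sub_zero, mul_one]
  calc (R f).rank = (R (f * x) * R f' * R (y * f * ∑ i ∈ Finset.range N, (f - t) ^ i)).rank := by
        rw [← map_mul, ← map_mul]
        congr 2
        conv_lhs => rw [← hsum]
        simp only [t, mul_assoc]
    _ ≤ (R (f * x) * R f').rank := Matrix.rank_mul_le_left _ _
    _ ≤ (R f').rank := Matrix.rank_mul_le_right _ _

/-- The rank in a representation of an idempotent is a combination of its ranks in the factors. -/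
theorem exists_mult (P : A →ₐ[k] Π l, Matrix (Fin (n l)) (Fin (n l)) k) (hP : Function.Surjective P)
    (hnil : IsNilpotent (RingHom.ker P.toRingHom)) (hn : ∀ l, n l ≠ 0) {d : ℕ}
    (R : A →ₐ[k] Matrix (Fin d) (Fin d) k) :
    ∃ c : Fin m → ℕ, ∀ f : A, f * f = f → (R f).rank = ∑ l, c l * (P f l).rank := by
  let E : (Σ l, Fin (n l)) → Π l, Matrix (Fin (n l)) (Fin (n l)) k :=
    fun s => Pi.single s.1 (Matrix.single s.2 s.2 1)
  have hE : OrthogonalIdempotents E := by
    refine ⟨fun ⟨l, i⟩ => ?_, fun ⟨l, i⟩ ⟨l', i'⟩ hne => ?_⟩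
    · show E ⟨l, i⟩ * E ⟨l, i⟩ = E ⟨l, i⟩
      simp [E, ← Pi.single_mul, Matrix.single_mul_single_same]
    · show E ⟨l, i⟩ * E ⟨l', i'⟩ = 0
      rcases eq_or_ne l l' with rfl | hl
      · have hi : i ≠ i' := fun h => hne (by subst h; rfl)
        simp only [E, ← Pi.single_mul]
        rw [Matrix.single_mul_single_of_ne (h := hi), Pi.single_zero]
      · funext q
        rcases eq_or_ne q l with rfl | hq
        · simp [E, hl]
        · simp [E, hq]
  obtain ⟨a, ha, hPa⟩ := OrthogonalIdempotents.lift_of_isNilpotent_ker P.toRingHom (fun x hx => by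
    obtain ⟨N, hN⟩ := hnil
    have := Ideal.pow_mem_pow hx N
    rw [hN] at this
    exact ⟨N, Ideal.mem_bot.1 this⟩) hE fun i => hP (E i)
  have hPa' : ∀ s, P (a s) = E s := fun s => congrFun hPa s
  have hrk : ∀ (s : Σ l, Fin (n l)) (q : Fin m), (P (a s) q).rank = if q = s.1 then 1 else 0 := by
    rintro ⟨l, i⟩ q
    rw [hPa']
    split_ifs with h
    · subst h
      simp only [E, Pi.single_eq_same]
      refine le_antisymm ?_ (Nat.one_le_iff_ne_zero.2 fun h0 => ?_)
      · rw [show Matrix.single i i (1 : k) = Matrix.vecMulVec (Pi.single i 1) (Pi.single i 1) by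
          rw [Matrix.single_eq_single_vecMulVec_single]]
        exact Matrix.rank_vecMulVec_le _ _
      · change Module.finrank k (LinearMap.range (Matrix.toLin' (Matrix.single i i (1 : k)))) = 0 at h0
        rw [Submodule.finrank_eq_zero, LinearMap.range_eq_bot, LinearEquiv.map_eq_zero_iff] at h0
        simpa using congrFun (congrFun h0 i) i
    · simp [E, h]
  refine ⟨fun l => (R (a ⟨l, ⟨0, Nat.pos_of_ne_zero (hn l)⟩⟩)).rank, fun f hf => ?_⟩
  have hr : ∀ l, (P f l).rank ≤ n l := fun l => (Matrix.rank_le_width (P f l))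
  let S : Finset (Σ l, Fin (n l)) := Finset.univ.sigma fun l =>
    (Finset.univ : Finset (Fin (n l))).filter fun i : Fin (n l) => i.1 < (P f l).rank
  have hcard : ∀ l, ((Finset.univ : Finset (Fin (n l))).filter
      fun i : Fin (n l) => i.1 < (P f l).rank).card = (P f l).rank := fun l => by
    conv_rhs => rw [← Finset.card_range (P f l).rank]
    refine Finset.card_bij' (fun i _ => i.1) (fun i hi => ⟨i, lt_of_lt_of_le (Finset.mem_range.1 hi) (hr l)⟩)
      (fun i hi => Finset.mem_range.2 (Finset.mem_filter.1 hi).2)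
      (fun i hi => Finset.mem_filter.2 ⟨Finset.mem_univ _, Finset.mem_range.1 hi⟩)
      (fun i _ => rfl) (fun i _ => rfl)
  set f' := ∑ s ∈ S, a s
  have hf' : f' * f' = f' := ha.isIdempotentElem_sum
  have hRa : OrthogonalIdempotents (fun s => R (a s)) := ha.map R.toRingHom
  have heq : ∀ l, (P f' l).rank = (P f l).rank := by
    intro l
    have ho : OrthogonalIdempotents (fun s => P (a s) l) :=
      ha.map ((Pi.evalRingHom (fun l => Matrix (Fin (n l)) (Fin (n l)) k) l).comp P.toRingHom)
    simp only [f', map_sum, Finset.sum_apply]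
    rw [rank_sum_of_orth S _ ho]
    simp only [S, Finset.sum_sigma, hrk, Finset.sum_const, hcard, smul_eq_mul, mul_ite, mul_one,
      mul_zero]
    rw [Finset.sum_eq_single l (fun q _ hq => by simp [Ne.symm hq]) (by simp)]
    simp [hcard]
  rw [show (R f).rank = (R f').rank from le_antisymm (rank_le P hP hnil R hf hf' fun l => (heq l).ge)
    (rank_le P hP hnil R hf' hf fun l => (heq l).le)]
  simp only [f', map_sum]
  rw [rank_sum_of_orth S _ hRa, Finset.sum_sigma]
  refine Finset.sum_congr rfl fun l _ => ?_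
  rw [Finset.sum_congr rfl fun i _ => le_antisymm
    (rank_le P hP hnil R (ha.idem _) (ha.idem _) fun q => le_of_eq
      ((hrk ⟨l, i⟩ q).trans (hrk ⟨l, ⟨0, Nat.pos_of_ne_zero (hn l)⟩⟩ q).symm))
    (rank_le P hP hnil R (ha.idem _) (ha.idem _) fun q => le_of_eq
      ((hrk ⟨l, ⟨0, Nat.pos_of_ne_zero (hn l)⟩⟩ q).trans (hrk ⟨l, i⟩ q).symm)),
    Finset.sum_const, hcard, smul_eq_mul, mul_comm]

end Cfsg.Agent.EqualDeg80Rank
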