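import Cfsg.Agent.Lib.EqualDeg80Field
import Cfsg.Agent.Lib.EqualDeg80Rank
import Cfsg.Agent.Lib.BlockPCount9

/-!
Brauer character of a representation in characteristic `p`, defined through ranks of eigen-idempotents,
its extension to a generalized character, independence for the simple components, and divisibility of
the simple dimensions of a set of characters of one degree.
-/

set_option autoImplicit false
set_option linter.unusedSectionVars false

namespace Cfsg.Agent.EqualDeg80Brauer

open Cfsg Cfsg.Agent.BlockTheoryLocalRing Cfsg.Agent.BlockTheoryCentre Cfsg.Agent.BlockTheoryIdem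
open Cfsg.Agent.EqualDeg80Red Cfsg.Agent.EqualDeg80Dims Cfsg.Agent.EqualDeg80Field
open Cfsg.Agent.EqualDeg80First

attribute [local instance] Classical.propDecidable

universe u

variable {p : ℕ} [Fact p.Prime] {M : Ideal AlgInt} {G : Type u} [Group G] [Fintype G]
variable {k : Type} [Field k]

/-- A primitive root of unity. -/
noncomputable def zeta (m : ℕ) : ℂ := Complex.exp (2 * Real.pi * Complex.I / m)

theorem zeta_prim (y : G) : IsPrimitiveRoot (zeta (orderOf y)) (orderOf y) :=
  Complex.isPrimitiveRoot_exp _ (orderOf_pos y).ne'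

theorem zeta_pow_mem (hM : IsPModular p M) (y : G) (j : ℕ) :
    MemLocalRing M (zeta (orderOf y) ^ j) :=
  (localRing hM).pow_mem (of_isIntegral hM ((zeta_prim y).isIntegral (orderOf_pos y))) j

theorem zeta_inv_mem (hM : IsPModular p M) (y : G) (j : ℕ) :
    MemLocalRing M (zeta (orderOf y) ^ j)⁻¹ := by
  rw [← inv_pow]
  exact (localRing hM).pow_mem (of_isIntegral hM ((zeta_prim y).inv.isIntegral (orderOf_pos y))) j

/-- The eigen-idempotent over `ℂ`. -/
noncomputable def eigC (y : G) (j : ℕ) : MonoidAlgebra ℂ G :=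
  eigenIdem (orderOf y) y (zeta (orderOf y) ^ j)

theorem isInt_eigC (hM : IsPModular p M) {y : G} (hy : ¬ p ∣ orderOf y) (j : ℕ) :
    IsInt M (eigC y j) := isInt_eigenIdem hM hy _ (zeta_pow_mem hM y j)

theorem eigC_sq (y : G) (j : ℕ) : eigC y j * eigC y j = eigC y j :=
  eigenIdem_sq (orderOf y) y (pow_orderOf_eq_one y)
    (by rw [← pow_mul, mul_comm, pow_mul, (zeta_prim y).pow_eq_one, one_pow]) (orderOf_pos y)

theorem sum_eigC (y : G) :
    ∑ j ∈ Finset.range (orderOf y), (zeta (orderOf y) ^ j)⁻¹ • eigC y j =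
      MonoidAlgebra.single y 1 := by
  rcases Nat.lt_or_ge 1 (orderOf y) with h | h
  · exact sum_eigenIdem (orderOf y) y (zeta_prim y) (pow_orderOf_eq_one y) h
  · have h1 : orderOf y = 1 := le_antisymm h (orderOf_pos y)
    simp [eigC, h1, eigenIdem, orderOf_eq_one_iff.1 h1]

/-- The eigen-idempotent over the residue field. -/
noncomputable def eig (hM : IsPModular p M) (π : localRing hM →+* k) (y : G) (j : ℕ) :
    MonoidAlgebra k G :=
  if h : IsInt M (eigC y j) then tok hM π h else 0

theorem eig_eq (hM : IsPModular p M) (π : localRing hM →+* k) {y : G} {j : ℕ}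
    (h : IsInt M (eigC y j)) : eig hM π y j = tok hM π h := dif_pos h

theorem eig_sq (hM : IsPModular p M) (π : localRing hM →+* k) (y : G) (j : ℕ) :
    eig hM π y j * eig hM π y j = eig hM π y j := by
  by_cases h : IsInt M (eigC y j)
  · rw [eig_eq hM π h, tok_mul]; exact tok_congr hM π _ _ (eigC_sq y j)
  · simp [eig, dif_neg h]

/-- The Brauer character of a matrix representation. -/
noncomputable def phi (hM : IsPModular p M) (π : localRing hM →+* k) {d : ℕ}
    (R : MonoidAlgebra k G →ₐ[k] Matrix (Fin d) (Fin d) k) (y : G) : ℂ :=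
  ∑ j ∈ Finset.range (orderOf y),
    (zeta (orderOf y) ^ j)⁻¹ * ((R (eig hM π y j)).rank : ℂ)

theorem phi_red (hM : IsPModular p M) (π : localRing hM →+* k) (χ : IrrCharacter G) {d : ℕ}
    {R : MonoidAlgebra k G →ₐ[k] Matrix (Fin d) (Fin d) k}
    (hR : ∀ (z : MonoidAlgebra ℂ G) (hz : IsInt M z), z * z = z →
      ((R (tok hM π hz)).rank : ℂ) = chiSum (χ : G → ℂ) z) {y : G} (hy : ¬ p ∣ orderOf y) :
    phi hM π R y = (χ : G → ℂ) y := by
  rw [← one_mul ((χ : G → ℂ) y), ← chiSum_single, ← sum_eigC, map_sum, phi]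
  refine Finset.sum_congr rfl fun j _ => ?_
  rw [map_smul, smul_eq_mul, eig_eq hM π (isInt_eigC hM hy j), hR _ _ (eigC_sq y j)]

theorem phi_eq_sum (hM : IsPModular p M) (π : localRing hM →+* k) {m : ℕ} {n : Fin m → ℕ}
    (P : MonoidAlgebra k G →ₐ[k] Π l, Matrix (Fin (n l)) (Fin (n l)) k) {d : ℕ}
    (R : MonoidAlgebra k G →ₐ[k] Matrix (Fin d) (Fin d) k) {c : Fin m → ℕ}
    (hc : ∀ f, f * f = f → (R f).rank = ∑ l, c l * (P f l).rank) (y : G) :
    phi hM π R y = ∑ l, (c l : ℂ) *
      phi hM π ((Pi.evalAlgHom k (fun l => Matrix (Fin (n l)) (Fin (n l)) k) l).comp P) y := by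
  simp only [phi, Finset.mul_sum]
  rw [Finset.sum_comm]
  refine Finset.sum_congr rfl fun j _ => ?_
  rw [hc _ (eig_sq hM π y j), Nat.cast_sum, Finset.mul_sum]
  refine Finset.sum_congr rfl fun l _ => ?_
  rw [Nat.cast_mul]
  simp only [AlgHom.comp_apply, Pi.evalAlgHom_apply]
  ring

theorem phi_mem (hM : IsPModular p M) (π : localRing hM →+* k) {d : ℕ}
    (R : MonoidAlgebra k G →ₐ[k] Matrix (Fin d) (Fin d) k) (y : G) :
    MemLocalRing M (phi hM π R y) :=
  (localRing hM).sum_mem fun j _ =>
    (localRing hM).mul_mem (zeta_inv_mem hM y j) (natCast_mem (localRing hM) _)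

theorem red_phi (hM : IsPModular p M) (π : localRing hM →+* k) {d : ℕ}
    (R : MonoidAlgebra k G →ₐ[k] Matrix (Fin d) (Fin d) k) {y : G} (hy : ¬ p ∣ orderOf y) :
    π ⟨phi hM π R y, phi_mem hM π R y⟩ = (R (MonoidAlgebra.single y 1)).trace := by
  have h1 : MonoidAlgebra.single y (1 : k) = ∑ j ∈ Finset.range (orderOf y),
      π ⟨_, zeta_inv_mem hM y j⟩ • eig hM π y j := by
    refine MonoidAlgebra.ext (Finsupp.ext fun x => ?_)
    rw [MonoidAlgebra.coeff_sum, Finsupp.finsetSum_apply,
      Finset.sum_congr rfl fun j _ => show (π ⟨_, zeta_inv_mem hM y j⟩ • eig hM π y j).coeff x =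
        π (⟨_, zeta_inv_mem hM y j⟩ * ⟨(eigC y j).coeff x, isInt_eigC hM hy j x⟩) by
        rw [MonoidAlgebra.coeff_smul, Finsupp.smul_apply, smul_eq_mul,
          eig_eq hM π (isInt_eigC hM hy j), coeff_tok, map_mul], ← map_sum]
    have h := congrArg (fun z : MonoidAlgebra ℂ G => z.coeff x) (sum_eigC y)
    simp only [MonoidAlgebra.coeff_sum, Finsupp.finsetSum_apply, MonoidAlgebra.coeff_smul,
      Finsupp.smul_apply, smul_eq_mul, MonoidAlgebra.coeff_single, Finsupp.single_apply] at h
    rw [MonoidAlgebra.coeff_single, Finsupp.single_apply,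
      show (if y = x then (1 : k) else 0) = π (if y = x then 1 else 0) by
        rw [apply_ite π, map_one, map_zero]]
    refine congrArg π (Subtype.ext ?_)
    rw [AddSubmonoidClass.coe_finsetSum]
    push_cast
    rw [h]
    split_ifs <;> rfl
  rw [h1, map_sum, Matrix.trace_sum,
    show (⟨phi hM π R y, phi_mem hM π R y⟩ : localRing hM) = ∑ j ∈ Finset.range (orderOf y),
      (⟨_, zeta_inv_mem hM y j⟩ : localRing hM) * ((R (eig hM π y j)).rank : localRing hM) from
      Subtype.ext (by rw [AddSubmonoidClass.coe_finsetSum]; push_cast; rfl), map_sum]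
  refine Finset.sum_congr rfl fun j _ => ?_
  rw [map_mul, map_natCast, map_smul, Matrix.trace_smul, smul_eq_mul,
    EqualDeg80Rank.trace_eq_rank _ (by rw [← map_mul, eig_sq])]

theorem phi_conj (hM : IsPModular p M) (π : localRing hM →+* k) {d : ℕ}
    (R : MonoidAlgebra k G →ₐ[k] Matrix (Fin d) (Fin d) k) {y : G} (hy : ¬ p ∣ orderOf y) (c : G) :
    phi hM π R (c * y * c⁻¹) = phi hM π R y := by
  have ho : orderOf (c * y * c⁻¹) = orderOf y :=
    orderOf_injective (MulAut.conj c).toMonoidHom (MulAut.conj c).injective y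
  simp only [phi, ho]
  refine Finset.sum_congr rfl fun j _ => ?_
  congr 2
  have hc : ∀ c : G, IsInt M (MonoidAlgebra.single c (1 : ℂ)) := fun c =>
    isInt_single hM c (localRing hM).one_mem
  have hs : ∀ c : G, tok hM π (hc c) = MonoidAlgebra.single c 1 := fun c => by
    refine MonoidAlgebra.ext (Finsupp.ext fun x => ?_)
    refine (coeff_tok hM π (hc c) x).trans ?_
    rw [show (MonoidAlgebra.single c (1 : k)).coeff x = π (if c = x then 1 else 0) by
        rw [MonoidAlgebra.coeff_single, Finsupp.single_apply, apply_ite π, map_one, map_zero]]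
    refine congrArg π (Subtype.ext ?_)
    simp only [MonoidAlgebra.coeff_single, Finsupp.single_apply]
    split_ifs <;> rfl
  have hy' : ¬ p ∣ orderOf (c * y * c⁻¹) := by rwa [ho]
  have e : eig hM π (c * y * c⁻¹) j =
      MonoidAlgebra.single c 1 * eig hM π y j * MonoidAlgebra.single c⁻¹ 1 := by
    rw [eig_eq hM π (isInt_eigC hM hy' j), eig_eq hM π (isInt_eigC hM hy j), ← hs, ← hs, tok_mul,
      tok_mul]
    refine tok_congr hM π _ _ ?_
    simp only [eigC, ho, eigenIdem, Finset.mul_sum, Finset.sum_mul, Algebra.mul_smul_comm,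
      Algebra.smul_mul_assoc, MonoidAlgebra.single_mul_single, one_mul, mul_one, conj_pow]
  have e' : eig hM π y j =
      MonoidAlgebra.single c⁻¹ 1 * eig hM π (c * y * c⁻¹) j * MonoidAlgebra.single c 1 := by
    rw [e, ← mul_assoc, ← mul_assoc, MonoidAlgebra.single_mul_single, inv_mul_cancel, one_mul,
      ← MonoidAlgebra.one_def, one_mul, mul_assoc, MonoidAlgebra.single_mul_single, inv_mul_cancel,
      one_mul, ← MonoidAlgebra.one_def, mul_one]
  refine le_antisymm ?_ ?_
  · rw [e, map_mul, map_mul]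
    exact (Matrix.rank_mul_le_left _ _).trans (Matrix.rank_mul_le_right _ _)
  · conv_lhs => rw [e', map_mul, map_mul]
    exact (Matrix.rank_mul_le_left _ _).trans (Matrix.rank_mul_le_right _ _)

theorem phi_comap {H : Type u} [Group H] [Fintype H] (hM : IsPModular p M) (π : localRing hM →+* k)
    {d : ℕ} (R : MonoidAlgebra k G →ₐ[k] Matrix (Fin d) (Fin d) k) (f : H →* G)
    (hf : Function.Injective f) {y : H} (hy : ¬ p ∣ orderOf y) :
    phi hM π (R.comp (πA f)) y = phi hM π R (f y) := by
  have ho : orderOf (f y) = orderOf y := orderOf_injective f hf y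
  have hy' : ¬ p ∣ orderOf (f y) := by rwa [ho]
  simp only [phi, ho]
  refine Finset.sum_congr rfl fun j _ => ?_
  rw [AlgHom.comp_apply, eig_eq hM π (isInt_eigC hM hy j), eig_eq hM π (isInt_eigC hM hy' j),
    tok_map hM π f (isInt_eigC hM hy j) (isInt_eigC hM hy' j)]
  simp only [eigC, ho, eigenIdem, MonoidAlgebra.mapDomainRingHom_apply]
  rw [MonoidAlgebra.mapDomain_smul]
  simp only [← MonoidAlgebra.mapDomainRingHom_apply, map_sum]
  simp only [MonoidAlgebra.mapDomainRingHom_apply, MonoidAlgebra.mapDomain_single, map_pow]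

variable [CharP k p]

theorem regular_character (g : G) :
    ∑ η : IrrCharacter G, (η : G → ℂ) 1 * (η : G → ℂ) g = if g = 1 then (Nat.card G : ℂ) else 0 := by
  have h := congrArg (fun z : MonoidAlgebra ℂ G => z.coeff g⁻¹) (idem_univ (G := G))
  simp only [coeff_idem, blockCoeff_eq_sum, Set.mem_univ, if_true, MonoidAlgebra.one_def,
    MonoidAlgebra.coeff_single, Finsupp.single_apply, ← irr_inv, inv_inv] at h
  rw [inv_mul_eq_iff_eq_mul₀ (Nat.cast_ne_zero.2 Nat.card_pos.ne'), one_eq_inv] at h
  rw [h, mul_ite, mul_one, mul_zero]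

/-- On a `p'`-group a Brauer character is a generalized character. -/
theorem gen_of_regular_group {H : Type u} [Group H] [Fintype H] (hM : IsPModular p M)
    (π : localRing hM →+* k) (hred : ∀ χ : IrrCharacter H, HasRed hM π χ)
    (hH : ¬ p ∣ Nat.card H) {d : ℕ} (R : MonoidAlgebra k H →ₐ[k] Matrix (Fin d) (Fin d) k) :
    IsGeneralizedCharacter H (phi hM π R) := by
  choose Q hQ1 hQ2 using hred
  let e := (Fintype.equivFin (IrrCharacter H)).symm
  let n : Fin (Fintype.card (IrrCharacter H)) → ℕ := fun l => charDegree ((e l : IrrCharacter H) : H → ℂ)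
  let P : MonoidAlgebra k H →ₐ[k] Π l, Matrix (Fin (n l)) (Fin (n l)) k :=
    Pi.algHom k _ fun l => Q (e l)
  have hcard : ((Nat.card H : ℕ) : k) ≠ 0 := by rwa [Ne, CharP.cast_eq_zero_iff k p]
  have hinj : Function.Injective P := by
    refine (injective_iff_map_eq_zero P).2 fun x hx => MonoidAlgebra.ext (Finsupp.ext fun h => ?_)
    have h0 : ∀ η : IrrCharacter H, Q η x = 0 := fun η => by
      obtain ⟨l, rfl⟩ := e.surjective η
      exact congrFun hx l
    have e1 : (0 : k) = ∑ η : IrrCharacter H, π ⟨_, value_mem hM η 1⟩ *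
        (Q η (x * MonoidAlgebra.single h⁻¹ 1)).trace := by
      simp [map_mul, h0]
    have e2 : ∀ η : IrrCharacter H, (Q η (x * MonoidAlgebra.single h⁻¹ 1)).trace =
        ∑ g, x.coeff g * π ⟨_, value_mem hM η (g * h⁻¹)⟩ := fun η => by
      conv_lhs => rw [BrandtBlock42.eq_sum_single' x, Finset.sum_mul, map_sum, Matrix.trace_sum]
      refine Finset.sum_congr rfl fun g _ => ?_
      rw [MonoidAlgebra.single_mul_single, mul_one,
        show MonoidAlgebra.single (g * h⁻¹) (x.coeff g) = x.coeff g • MonoidAlgebra.single (g * h⁻¹) 1 by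
          simp [MonoidAlgebra.smul_single'], map_smul, Matrix.trace_smul, smul_eq_mul, hQ1]
    simp only [e2, Finset.mul_sum] at e1
    rw [Finset.sum_comm, Finset.sum_eq_single h] at e1
    · have e3 : ∑ η : IrrCharacter H, (⟨_, value_mem hM η 1⟩ * ⟨_, value_mem hM η 1⟩ : localRing hM) =
          ((Nat.card H : ℕ) : localRing hM) := Subtype.ext (by
        rw [AddSubmonoidClass.coe_finsetSum]
        push_cast
        rw [regular_character, if_pos rfl])
      have e4 := congrArg π e3
      simp only [map_sum, map_mul, map_natCast] at e4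
      simp only [mul_inv_cancel] at e1
      rw [Finset.sum_congr rfl fun η _ => mul_left_comm _ (x.coeff h) _, ← Finset.mul_sum, e4] at e1
      simpa [← Nat.card_eq_fintype_card, hcard] using e1.symm
    · intro g _ hg
      have e3 : ∑ η : IrrCharacter H,
          (⟨_, value_mem hM η 1⟩ * ⟨_, value_mem hM η (g * h⁻¹)⟩ : localRing hM) = 0 := Subtype.ext (by
        rw [AddSubmonoidClass.coe_finsetSum]
        push_cast
        rw [regular_character, if_neg fun hh => hg (mul_inv_eq_one.1 hh)])
      have e4 := congrArg π e3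
      simp only [map_sum, map_mul, map_zero] at e4
      rw [Finset.sum_congr rfl fun η _ => mul_left_comm _ (x.coeff g) _, ← Finset.mul_sum, e4, mul_zero]
    · simp
  have hdim : Module.finrank k (MonoidAlgebra k H) =
      Module.finrank k (Π l, Matrix (Fin (n l)) (Fin (n l)) k) := by
    rw [Module.finrank_pi_fintype]
    simp only [Module.finrank_matrix, Module.finrank_self, Fintype.card_fin, mul_one]
    rw [LinearEquiv.finrank_eq ((MonoidAlgebra.coeffLinearEquiv k).trans
      (Finsupp.linearEquivFunOnFinite k k H)), Module.finrank_fintype_fun_eq_card]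
    have h1 := regular_character (1 : H)
    rw [if_pos rfl, Nat.card_eq_fintype_card, ← e.sum_comp] at h1
    simp only [ClassAlgebraVal.apply_one_eq_charDegree] at h1
    exact_mod_cast h1.symm
  have hsurj : Function.Surjective P :=
    (LinearMap.injective_iff_surjective_of_finrank_eq_finrank hdim (f := P.toLinearMap)).1 hinj
  have hnil : IsNilpotent (RingHom.ker P.toRingHom) :=
    ⟨1, by rw [Submodule.pow_one]; exact (RingHom.injective_iff_ker_eq_bot P.toRingHom).1 hinj⟩
  obtain ⟨c, hc⟩ := EqualDeg80Rank.exists_mult P hsurj hnil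
    (fun l => (ClassAlgebraVal.charDegree_pos (e l)).ne') R
  have key : phi hM π R = ∑ l, fun y => ((c l : ℤ) : ℂ) * ((e l : IrrCharacter H) : H → ℂ) y := by
    funext y
    have hy : ¬ p ∣ orderOf y := fun h => hH (h.trans (orderOf_dvd_natCard y))
    rw [phi_eq_sum hM π P R hc y, Finset.sum_apply]
    refine Finset.sum_congr rfl fun l _ => ?_
    rw [show (Pi.evalAlgHom k (fun l => Matrix (Fin (n l)) (Fin (n l)) k) l).comp P = Q (e l) from
      rfl, phi_red hM π (e l) (hQ2 (e l)) hy, Int.cast_natCast]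
  rw [key]
  exact CharBasicDecomp.isGeneralizedCharacter_sum _ _ fun l _ =>
    CharBasicDecomp.isGeneralizedCharacter_zsmul
      (CharBasicDecomp.isGeneralizedCharacter_of_isCharacter
        (CharBasic.isCharacter_of_isIrrCharacter (e l).2)) _

/-- A Brauer character read at `p'`-parts is a generalized character. -/
theorem gen_regPart (hM : IsPModular p M) (π : localRing hM →+* k)
    (hred : ∀ (X : Type u) (_ : Group X) (_ : Fintype X) (χ : IrrCharacter X), HasRed hM π χ)
    {d : ℕ} (R : MonoidAlgebra k G →ₐ[k] Matrix (Fin d) (Fin d) k) :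
    IsGeneralizedCharacter G fun g => phi hM π R ((BlockPCount9.pp p g)⁻¹ * g) := by
  have hreg : ∀ g : G, ¬ p ∣ orderOf ((BlockPCount9.pp p g)⁻¹ * g) := fun g => by
    obtain ⟨y, hy, -, -, hy'⟩ := BlockPCount9.pp_spec (p := p) g
    nth_rw 2 [← hy]
    rwa [inv_mul_cancel_left]
  refine BrauerInduction.isGeneralizedCharacter_of_elementary (fun g h => ?_) fun E q hq hE => ?_
  · show phi hM π R _ = phi hM π R _
    rw [BlockPCount9.pp_eq (BrauerBlocksPPart.isPPart_conj h (BlockPCount9.pp_spec (p := p) g)),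
      show (h * BlockPCount9.pp p g * h⁻¹)⁻¹ * (h * g * h⁻¹) =
        h * ((BlockPCount9.pp p g)⁻¹ * g) * h⁻¹ by group]
    exact phi_conj hM π R (hreg g) h
  · haveI : Group.IsNilpotent E := BrauerInduction.isNilpotent_of_isElementary hq hE
    set ψ : E →* G := E.subtype.comp (BlockPCount9.piP' p E)
    have hψ : ∀ a : E, ψ a = (BlockPCount9.pp p (a : G))⁻¹ * (a : G) := fun a => by
      rw [BlockPCount9.pp_eq (BlockPCount9.isPPart_coe (BlockPCount9.pp_spec (p := p) a))]
      rfl
    have hregH : ∀ y : ψ.range, ¬ p ∣ orderOf y := by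
      rintro ⟨_, a, rfl⟩
      rw [← Subgroup.orderOf_coe]
      show ¬ p ∣ orderOf (ψ a)
      rw [hψ]
      exact hreg _
    have hH : ¬ p ∣ Nat.card ψ.range := fun h => by
      obtain ⟨y, hy⟩ := exists_prime_orderOf_dvd_card' (G := ψ.range) p h
      exact hregH y (hy ▸ dvd_refl p)
    refine (congrArg (IsGeneralizedCharacter E) (funext fun a => ?_)).mpr
      (CharBasicDecomp.isGeneralizedCharacter_comap ψ.rangeRestrict
        (gen_of_regular_group hM π (hred ψ.range inferInstance inferInstance) hH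
          (R.comp (πA ψ.range.subtype))))
    show _ = phi hM π (R.comp (πA ψ.range.subtype)) (ψ.rangeRestrict a)
    rw [phi_comap hM π R ψ.range.subtype Subtype.val_injective (hregH _)]
    exact congrArg (phi hM π R) (hψ a).symm

theorem single_regPart_nilpotent {u y : G} {a : ℕ} (hu : u ^ p ^ a = 1) (hc : Commute u y) :
    IsNilpotent (MonoidAlgebra.single (u * y) (1 : k) - MonoidAlgebra.single y 1) := by
  haveI : CharP (MonoidAlgebra k G) p :=
    charP_of_injective_algebraMap (FaithfulSMul.algebraMap_injective k (MonoidAlgebra k G)) p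
  have h1 : IsNilpotent (MonoidAlgebra.single u (1 : k) - 1) := ⟨p ^ a, by
    rw [sub_pow_char_pow_of_commute p a (Commute.one_right _), one_pow, MonoidAlgebra.single_pow,
      hu, one_pow, ← MonoidAlgebra.one_def, sub_self]⟩
  have h2 : Commute (MonoidAlgebra.single u (1 : k) - 1) (MonoidAlgebra.single y 1) :=
    ((show Commute (MonoidAlgebra.single u (1 : k)) (MonoidAlgebra.single y 1) by
      show _ * _ = _ * _
      rw [MonoidAlgebra.single_mul_single, MonoidAlgebra.single_mul_single, hc.eq]).sub_left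
      (Commute.one_left _))
  have h3 := h2.isNilpotent_mul_right h1
  rwa [sub_mul, one_mul, MonoidAlgebra.single_mul_single, one_mul] at h3

/-- The Brauer characters of the simple components are independent. -/
theorem eq_zero_of_sum (hM : IsPModular p M) (π : localRing hM →+* k) {m : ℕ} {n : Fin m → ℕ}
    (P : MonoidAlgebra k G →ₐ[k] Π l, Matrix (Fin (n l)) (Fin (n l)) k) (hP : Function.Surjective P)
    (hn : ∀ l, n l ≠ 0) (w : Fin m → ℤ)
    (hw : ∀ y : G, ¬ p ∣ orderOf y → ∑ l, (w l : ℂ) *
      phi hM π ((Pi.evalAlgHom k (fun l => Matrix (Fin (n l)) (Fin (n l)) k) l).comp P) y = 0) :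
    w = 0 := by
  have hp : p.Prime := Fact.out
  have step : ∀ w : Fin m → ℤ, (∀ y : G, ¬ p ∣ orderOf y → ∑ l, (w l : ℂ) *
      phi hM π ((Pi.evalAlgHom k (fun l => Matrix (Fin (n l)) (Fin (n l)) k) l).comp P) y = 0) →
      ∀ l, (p : ℤ) ∣ w l := by
    intro w hw
    let t : MonoidAlgebra k G →ₗ[k] k := ∑ l, (w l : k) •
      ((Matrix.traceLinearMap (Fin (n l)) k k).comp (LinearMap.proj l)).comp P.toLinearMap
    have ht : ∀ x, t x = ∑ l, (w l : k) * (P x l).trace := fun x => by
      simp [t, LinearMap.sum_apply]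
    have hreg : ∀ y : G, ¬ p ∣ orderOf y → t (MonoidAlgebra.single y 1) = 0 := by
      intro y hy
      rw [ht]
      have e : ∑ l, (w l : localRing hM) * ⟨_, phi_mem hM π
          ((Pi.evalAlgHom k (fun l => Matrix (Fin (n l)) (Fin (n l)) k) l).comp P) y⟩ = 0 :=
        Subtype.ext (by rw [AddSubmonoidClass.coe_finsetSum]; push_cast; exact hw y hy)
      have e1 := congrArg π e
      simp only [map_sum, map_mul, map_intCast, map_zero, red_phi hM π _ hy] at e1
      exact e1
    have hall : ∀ x, t x = 0 := by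
      intro x
      rw [BrandtBlock42.eq_sum_single' x, map_sum]
      refine Finset.sum_eq_zero fun g _ => ?_
      obtain ⟨y, hy, hc, ⟨a, ha⟩, hy'⟩ := BlockPCount9.pp_spec (p := p) g
      have hn' := single_regPart_nilpotent (k := k) (p := p) (a := a)
        (by rw [← ha]; exact pow_orderOf_eq_one _) hc
      rw [hy] at hn'
      have h0 : t (MonoidAlgebra.single g 1 - MonoidAlgebra.single y 1) = 0 := by
        rw [ht]
        refine Finset.sum_eq_zero fun l _ => ?_
        have h5 : (P (MonoidAlgebra.single g 1 - MonoidAlgebra.single y 1) l).trace = 0 :=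
          (Matrix.isNilpotent_trace_of_isNilpotent (hn'.map
            ((Pi.evalRingHom (fun l => Matrix (Fin (n l)) (Fin (n l)) k) l).comp P.toRingHom))).eq_zero
        rw [h5, mul_zero]
      rw [map_sub, hreg y hy', sub_zero] at h0
      rw [show MonoidAlgebra.single g (x.coeff g) = x.coeff g • MonoidAlgebra.single g 1 by
        simp [MonoidAlgebra.smul_single'], map_smul, h0, smul_zero]
    intro l
    haveI : NeZero (n l) := ⟨hn l⟩
    obtain ⟨x, hx⟩ := hP (Pi.single l (Matrix.single 0 0 1))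
    have h := hall x
    rw [ht, Finset.sum_eq_single l] at h
    · rw [hx, Pi.single_eq_same, Matrix.trace_single_eq_same, mul_one] at h
      exact (CharP.intCast_eq_zero_iff k p _).1 h
    · intro q _ hq
      rw [hx, Pi.single_eq_of_ne hq, Matrix.trace_zero, mul_zero]
    · simp
  have hdesc : ∀ (i : ℕ) (w : Fin m → ℤ), (∀ y : G, ¬ p ∣ orderOf y → ∑ l, (w l : ℂ) *
      phi hM π ((Pi.evalAlgHom k (fun l => Matrix (Fin (n l)) (Fin (n l)) k) l).comp P) y = 0) →
      ∀ l, ((p : ℤ) ^ i) ∣ w l := by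
    intro i
    induction i with
    | zero => intro w _ l; simp
    | succ i ih =>
      intro w hw l
      choose v hv using step w hw
      have hv' : ∀ y : G, ¬ p ∣ orderOf y → ∑ l, (v l : ℂ) *
          phi hM π ((Pi.evalAlgHom k (fun l => Matrix (Fin (n l)) (Fin (n l)) k) l).comp P) y = 0 := by
        intro y hy
        have h := hw y hy
        simp only [hv, Int.cast_mul, Int.cast_natCast, mul_assoc, ← Finset.mul_sum] at h
        exact (mul_eq_zero.1 h).resolve_left (Nat.cast_ne_zero.2 hp.ne_zero)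
      rw [hv, pow_succ']
      exact mul_dvd_mul_left _ (ih v hv' l)
  funext l
  refine Int.eq_zero_of_dvd_of_natAbs_lt_natAbs (hdesc (w l).natAbs w hw l) ?_
  rw [Int.natAbs_pow, Int.natAbs_natCast]
  exact Nat.lt_pow_self hp.one_lt

/-- In a set of characters of one degree that degree divides the simple dimensions. -/
theorem dvd_dim (hM : IsPModular p M) (π : localRing hM →+* k)
    (hred : ∀ (X : Type u) (_ : Group X) (_ : Fintype X) (χ : IrrCharacter X), HasRed hM π χ)
    {B : Set (IrrCharacter G)} (hB : IsInt M (idem B)) {d : ℕ}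
    (hdeg : ∀ χ ∈ B, charDegree (χ : G → ℂ) = d) {m : ℕ} {n : Fin m → ℕ}
    (P : MonoidAlgebra k G →ₐ[k] Π l, Matrix (Fin (n l)) (Fin (n l)) k) (hP : Function.Surjective P)
    (hnil : IsNilpotent (RingHom.ker P.toRingHom)) (hn : ∀ l, n l ≠ 0) {l₀ : Fin m}
    (hl₀ : P (eS hM π hB) l₀ = 1) : d ∣ n l₀ := by
  let P' := fun l => (Pi.evalAlgHom k (fun l => Matrix (Fin (n l)) (Fin (n l)) k) l).comp P
  obtain ⟨a, -, ha⟩ := CharBasicDecomp.exists_int_coeff (gen_regPart hM π hred (P' l₀))
  choose Q hQ1 hQ2 using hred G inferInstance inferInstance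
  choose c hc using fun χ : IrrCharacter G => EqualDeg80Rank.exists_mult P hP hnil hn (Q χ)
  let w : Fin m → ℤ := fun l => ∑ χ, a χ * (c χ l : ℤ) - if l = l₀ then 1 else 0
  have hw : w = 0 := by
    refine eq_zero_of_sum hM π P hP hn w fun y hy => ?_
    have h1 : phi hM π (P' l₀) y = ∑ χ : IrrCharacter G, (a χ : ℂ) * phi hM π (Q χ) y := by
      have h := congrFun ha y
      have hpp : BlockPCount9.pp p y = 1 :=
        BlockPCount9.pp_eq ⟨y, one_mul y, Commute.one_left y, ⟨0, by simp⟩, hy⟩
      simp only [hpp, inv_one, one_mul, Finset.sum_apply, Pi.smul_apply, smul_eq_mul] at h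
      rw [h]
      exact Finset.sum_congr rfl fun χ _ => by rw [phi_red hM π χ (hQ2 χ) hy]
    simp only [w, Int.cast_sub, Int.cast_sum, Int.cast_mul, Int.cast_natCast, Int.cast_ite,
      Int.cast_one, Int.cast_zero, sub_mul, Finset.sum_sub_distrib, ite_mul, one_mul, zero_mul,
      Finset.sum_ite_eq', Finset.mem_univ, if_true, sub_eq_zero]
    show _ = phi hM π (P' l₀) y
    rw [h1]
    simp only [phi_eq_sum hM π P (Q _) (hc _) y, Finset.sum_mul, Finset.mul_sum, mul_assoc]
    exact Finset.sum_comm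
  set f := eS hM π hB
  have hf : f * f = f := eS_sq hM π hB
  have hQf : ∀ χ : IrrCharacter G, ((Q χ f).rank : ℤ) = if χ ∈ B then (d : ℤ) else 0 := by
    intro χ
    have h : ((Q χ f).rank : ℂ) = chiSum (χ : G → ℂ) (idem B) := hQ2 χ _ hB (idem_sq B)
    have h2 : chiSum (χ : G → ℂ) (idem B) = (χ : G → ℂ) 1 * omega (χ : G → ℂ) (idem B) := by
      rw [omega_apply, mul_inv_cancel_left₀ (irr_one_ne_zero χ)]
    rw [h2, omega_idem, ClassAlgebraVal.apply_one_eq_charDegree] at h
    split_ifs at h ⊢ with hχ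
    · rw [mul_one] at h
      exact_mod_cast (Nat.cast_injective h).trans (hdeg χ hχ)
    · rw [mul_zero] at h
      exact_mod_cast h
  have h3 : ∑ l, w l * ((P f l).rank : ℤ) = 0 := by simp [hw]
  simp only [w, sub_mul, Finset.sum_sub_distrib, ite_mul, one_mul, zero_mul, Finset.sum_ite_eq',
    Finset.mem_univ, if_true, hl₀, Matrix.rank_one, Fintype.card_fin, Finset.sum_mul, sub_eq_zero]
    at h3
  rw [Finset.sum_comm] at h3
  simp only [mul_assoc, ← Finset.mul_sum] at h3
  have h4 : ∀ χ : IrrCharacter G, ∑ l, (c χ l : ℤ) * ((P f l).rank : ℤ) = ((Q χ f).rank : ℤ) :=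
    fun χ => by rw [hc χ f hf]; push_cast; rfl
  simp only [h4, hQf, mul_ite, mul_zero] at h3
  rw [← Int.natCast_dvd_natCast, ← h3]
  exact Finset.dvd_sum fun χ _ => by split_ifs <;> simp

end Cfsg.Agent.EqualDeg80Brauer
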