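import Cfsg.Agent.Lib.EqualDeg80Red

/-!
The centre of the algebra of a set of characters over the residue field: spanning by reductions of
class sums, nilpotency modulo scalars for blocks, and the restriction to a centralizer of a `p`-group.
-/

set_option autoImplicit false
set_option linter.unusedSectionVars false

namespace Cfsg.Agent.EqualDeg80Centre

open Cfsg Cfsg.Agent.BlockTheoryLocalRing Cfsg.Agent.BlockTheoryCentre Cfsg.Agent.BlockTheoryIdem
open Cfsg.Agent.BlockTheoryBrauer Cfsg.Agent.EqualDeg80Dims Cfsg.Agent.EqualDeg80Red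
open Cfsg.Agent.BrauerPairs81Base Cfsg.Agent.BrauerPairs81Pairs
open Cfsg.Agent.EqualDeg80Alg

attribute [local instance] Classical.propDecidable

variable {p : ℕ} {M : Ideal AlgInt} {G : Type*} [Group G] [Fintype G] {k : Type*} [Field k]

theorem tok_eq_of_small (hM : IsPModular p M) (π : localRing hM →+* k)
    (hπ : ∀ z, π z = 0 ↔ MemLocalIdeal M (z : ℂ)) {z w : MonoidAlgebra ℂ G} (hz : IsInt M z)
    (hw : IsInt M w) (h : Small M (z - w)) : tok hM π hz = tok hM π hw := by
  refine MonoidAlgebra.ext (Finsupp.ext fun x => ?_)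
  rw [coeff_tok, coeff_tok, ← sub_eq_zero, ← map_sub, hπ]
  simpa using h x

theorem tok_sub (hM : IsPModular p M) (π : localRing hM →+* k) {z w : MonoidAlgebra ℂ G}
    (hz : IsInt M z) (hw : IsInt M w) (h : IsInt M (z - w)) :
    tok hM π h = tok hM π hz - tok hM π hw := by
  refine MonoidAlgebra.ext (Finsupp.ext fun x => ?_)
  refine (coeff_tok hM π h x).trans ?_
  show _ = (tok hM π hz).coeff x - (tok hM π hw).coeff x
  rw [coeff_tok, coeff_tok, ← map_sub]
  exact congrArg π (Subtype.ext (by simp))

theorem tok_smul (hM : IsPModular p M) (π : localRing hM →+* k) (c : localRing hM)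
    {z : MonoidAlgebra ℂ G} (hz : IsInt M z) (h : IsInt M ((c : ℂ) • z)) :
    tok hM π h = π c • tok hM π hz := by
  refine MonoidAlgebra.ext (Finsupp.ext fun x => ?_)
  refine (coeff_tok hM π h x).trans ?_
  show _ = π c * (tok hM π hz).coeff x
  rw [coeff_tok, ← map_mul]
  exact congrArg π (Subtype.ext (by simp))

theorem coeff_inv (z : MonoidAlgebra k G) (hz : ∀ a, a * z = z * a) (g x : G) :
    z.coeff (g * x * g⁻¹) = z.coeff x := by
  have h := congrArg (fun w : MonoidAlgebra k G => w.coeff (g * x)) (hz (MonoidAlgebra.single g 1))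
  simp only [BrandtBlock42.coeff_single_mul', BrandtBlock42.coeff_mul_single',
    inv_mul_cancel_left] at h
  exact h.symm

/-- A class sum times the idempotent. -/
noncomputable def gen (S : Set (IrrCharacter G)) (C : ConjClasses G) : MonoidAlgebra ℂ G :=
  classSum C.out * idem S

theorem isInt_gen (hM : IsPModular p M) {S : Set (IrrCharacter G)} (hS : IsInt M (idem S))
    (C : ConjClasses G) : IsInt M (gen S C) := IsInt.mul hM (isInt_classSum hM _) hS

theorem isCen_gen (S : Set (IrrCharacter G)) (C : ConjClasses G) : IsCen (gen S C) :=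
  (isCen_classSum _).mul (isCen_idem S)

theorem gen_mul_idem (S : Set (IrrCharacter G)) (C : ConjClasses G) :
    gen S C * idem S = gen S C := by rw [gen, mul_assoc, idem_sq]

/-- Central elements below the idempotent are combinations of reduced class sums. -/
theorem eq_sum_gen (hM : IsPModular p M) (π : localRing hM →+* k) {S : Set (IrrCharacter G)}
    (hS : IsInt M (idem S)) {z : MonoidAlgebra k G} (hz : z ∈ cenBelow k (eS hM π hS)) :
    z = ∑ C : ConjClasses G, z.coeff C.out • tok hM π (isInt_gen hM hS C) := by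
  obtain ⟨hzc, hze⟩ := mem_cenBelow.1 hz
  have h1 : z = ∑ C : ConjClasses G, z.coeff C.out • tok hM π (isInt_classSum hM C.out) := by
    refine MonoidAlgebra.ext (Finsupp.ext fun x => ?_)
    simp only [MonoidAlgebra.coeff_sum, Finsupp.finsetSum_apply, MonoidAlgebra.coeff_smul,
      Finsupp.smul_apply, smul_eq_mul, coeff_tok]
    rw [Finset.sum_eq_single (ConjClasses.mk x)]
    · obtain ⟨c, hc⟩ := isConj_iff.1 ((isConj_out (ConjClasses.mk x)).1 rfl)
      rw [show (⟨(classSum (ConjClasses.mk x).out).coeff x, isInt_classSum hM _ x⟩ : localRing hM) = 1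
        from Subtype.ext (by
          simp only [classSum, coeff_ofFun]
          rw [if_pos ((isConj_out (ConjClasses.mk x)).1 rfl)]
          rfl), map_one, mul_one]
      conv_lhs => rw [← hc, coeff_inv z hzc]
    · intro C _ hC
      rw [show (⟨(classSum C.out).coeff x, isInt_classSum hM C.out x⟩ : localRing hM) = 0 from
        Subtype.ext (by
          have : ¬ IsConj C.out x := fun h => hC ((isConj_out C).2 h).symm
          simp only [classSum, coeff_ofFun]
          rw [if_neg this]
          rfl), map_zero, mul_zero]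
    · simp
  have h3 : z = z * eS hM π hS := by rw [← hzc, hze]
  conv_lhs => rw [h3, h1, Finset.sum_mul]
  refine Finset.sum_congr rfl fun C _ => ?_
  rw [smul_mul_assoc, eS_eq_tok, tok_mul]
  rfl

/-- In a block every central element below is a scalar modulo nilpotent elements. -/
theorem exists_scalar (hM : IsPModular p M) (π : localRing hM →+* k)
    (hπ : ∀ z, π z = 0 ↔ MemLocalIdeal M (z : ℂ)) {B : Set (IrrCharacter G)} (hB : IsPBlock M B)
    (hS : IsInt M (idem B)) {z : MonoidAlgebra k G} (hz : z ∈ cenBelow k (eS hM π hS)) :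
    ∃ c : k, IsNilpotent (z - c • eS hM π hS) := by
  obtain ⟨χ, hχ⟩ := block_nonempty hM hB
  have hw : ∀ C, MemLocalRing M (omega (χ : G → ℂ) (gen B C)) := fun C =>
    omega_mem_localRing hM χ (isCen_gen B C) (isInt_gen hM hS C)
  refine ⟨∑ C, z.coeff C.out * π ⟨_, hw C⟩, ?_⟩
  rw [show z - (∑ C, z.coeff C.out * π ⟨_, hw C⟩) • eS hM π hS = ∑ C : ConjClasses G,
      (z.coeff C.out • tok hM π (isInt_gen hM hS C) -
        (z.coeff C.out * π ⟨_, hw C⟩) • eS hM π hS) by
    rw [Finset.sum_smul, Finset.sum_sub_distrib, ← eq_sum_gen hM π hS hz]]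
  have key : ∀ C, IsNilpotent (z.coeff C.out • tok hM π (isInt_gen hM hS C) -
      (z.coeff C.out * π ⟨_, hw C⟩) • eS hM π hS) := by
    intro C
    set w : MonoidAlgebra ℂ G := gen B C - omega (χ : G → ℂ) (gen B C) • idem B
    have hwc : IsCen w := (isCen_gen B C).sub ((isCen_idem B).smul _)
    have hsm : IsInt M (omega (χ : G → ℂ) (gen B C) • idem B) := IsInt.smul hM (hw C) hS
    have hwi : IsInt M w := IsInt.sub hM (isInt_gen hM hS C) hsm
    obtain ⟨N, hN⟩ := exists_small_pow hM hwc hwi fun ξ => by
      rw [map_sub, map_smul, smul_eq_mul]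
      by_cases hξ : ξ ∈ B
      · rw [omega_idem, if_pos hξ, mul_one]
        exact omega_sub_mem hM (sameBlock_of_mem hM hB hξ hχ) (isCen_gen B C) (isInt_gen hM hS C)
      · rw [gen, omega_mul ξ (isCen_classSum _), omega_idem, if_neg hξ, mul_zero, mul_zero, sub_zero]
        exact ideal_zero hM
    have h1 : IsNilpotent (tok hM π hwi) := ⟨N, by
      have hpow : ∀ n, tok hM π hwi ^ n = tok hM π (isInt_pow hM hwi n) := by
        intro n
        induction n with
        | zero =>
          rw [pow_zero]
          refine MonoidAlgebra.ext (Finsupp.ext fun x => ?_)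
          rw [coeff_tok, MonoidAlgebra.one_def, MonoidAlgebra.coeff_single, Finsupp.single_apply,
            show (if (1 : G) = x then (1 : k) else 0) = π (if (1 : G) = x then 1 else 0) by
              rw [apply_ite π, map_one, map_zero]]
          refine congrArg π (Subtype.ext ?_)
          simp only [pow_zero, MonoidAlgebra.one_def, MonoidAlgebra.coeff_single, Finsupp.single_apply]
          split_ifs <;> rfl
        | succ n ih => rw [pow_succ, ih, tok_mul]; exact tok_congr hM π _ _ (pow_succ w n).symm
      rw [hpow]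
      refine MonoidAlgebra.ext (Finsupp.ext fun x => ?_)
      rw [coeff_tok, (hπ _).2 (hN x)]
      simp⟩
    rw [mul_smul, ← smul_sub, eS_eq_tok, ← tok_smul hM π ⟨_, hw C⟩ hS hsm,
      ← tok_sub hM π (isInt_gen hM hS C) hsm hwi]
    exact h1.smul _
  exact Commute.isNilpotent_sum (fun C _ => key C) fun C D _ _ => by
    have hc : ∀ E : ConjClasses G, ∀ a, a * tok hM π (isInt_gen hM hS E) =
        tok hM π (isInt_gen hM hS E) * a := fun E => commute_of_coeff _ fun x g => by
      rw [coeff_tok, coeff_tok]
      exact congrArg π (Subtype.ext (isCen_gen B E x g))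
    exact Commute.sub_left (Commute.smul_left (hc C _).symm _)
      (Commute.smul_left (eS_comm hM π hS _).symm _)

variable {H : Subgroup G}

/-- The restriction of coefficients to a subgroup. -/
noncomputable def rk (H : Subgroup G) : MonoidAlgebra k G →ₗ[k] MonoidAlgebra k H where
  toFun z := ∑ h : H, MonoidAlgebra.single h (z.coeff h)
  map_add' z w := by simp [MonoidAlgebra.single_add, Finset.sum_add_distrib]
  map_smul' c z := by simp [Finset.smul_sum, MonoidAlgebra.smul_single']

theorem coeff_rk (H : Subgroup G) (z : MonoidAlgebra k G) (h : H) :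
    (rk H z).coeff h = z.coeff h := by
  show (∑ j : H, MonoidAlgebra.single j (z.coeff j)).coeff h = _
  simp [MonoidAlgebra.coeff_sum, Finsupp.single_apply, Finset.sum_apply']

theorem rk_tok (hM : IsPModular p M) (π : localRing hM →+* k) (H : Subgroup G)
    {z : MonoidAlgebra ℂ G} (hz : IsInt M z) :
    rk H (tok hM π hz) = tok hM π (isInt_res H hz) := by
  refine MonoidAlgebra.ext (Finsupp.ext fun x => ?_)
  rw [coeff_rk, coeff_tok, coeff_tok]
  rfl

/-- Restriction to the centralizer of a `p`-group is multiplicative on the centre. -/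
theorem rk_mul (hM : IsPModular p M) (π : localRing hM →+* k)
    (hπ : ∀ z, π z = 0 ↔ MemLocalIdeal M (z : ℂ)) {P : Subgroup G} (hP : IsPGroup p P)
    {S : Set (IrrCharacter G)} (hS : IsInt M (idem S)) {z y : MonoidAlgebra k G}
    (hz : z ∈ cenBelow k (eS hM π hS)) (hy : y ∈ cenBelow k (eS hM π hS)) :
    rk (Cen P) (z * y) = rk (Cen P) z * rk (Cen P) y := by
  rw [eq_sum_gen hM π hS hz, eq_sum_gen hM π hS hy]
  simp only [Finset.sum_mul, Finset.mul_sum, map_sum]
  refine Finset.sum_congr rfl fun C _ => Finset.sum_congr rfl fun D _ => ?_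
  simp only [smul_mul_assoc, mul_smul_comm, map_smul]
  congr 2
  rw [tok_mul, rk_tok, rk_tok, rk_tok, tok_mul]
  exact tok_eq_of_small hM π hπ _ _
    (small_res_mul hM hP (BrauerPairs81Base.IsCen.invBy (isCen_gen S _) P) (BrauerPairs81Base.IsCen.invBy (isCen_gen S _) P) (isInt_gen hM hS _)
      (isInt_gen hM hS _))

end Cfsg.Agent.EqualDeg80Centre
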