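import Cfsg.Agent.Lib.BrandtBlock42
import Cfsg.Agent.Lib.EqualDeg80Alg

/-!
A set of irreducible characters with a locally integral idempotent: the dimension of its algebra over
the residue field, a lower bound for its centre, an upper bound for its trace functionals, and matrix
units when the set consists of one character.
-/

set_option autoImplicit false
set_option linter.unusedSectionVars false
set_option linter.style.haveILetI false

namespace Cfsg.Agent.EqualDeg80Dims

open Cfsg Cfsg.Agent.BlockTheoryLocalRing Cfsg.Agent.BlockTheoryCentre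
open Cfsg.Agent.BlockTheoryIdem Cfsg.Agent.BlockTheoryBrauer
open Cfsg.Agent.BrandtAlgebra42
open scoped ComplexConjugate

attribute [local instance] Classical.propDecidable

variable {p : ℕ} {M : Ideal AlgInt} {G : Type*} [Group G] [Fintype G]

/-- A locally integral element, over the local ring. -/
noncomputable def liftI (hM : IsPModular p M) {z : MonoidAlgebra ℂ G} (hz : IsInt M z) :
    MonoidAlgebra (localRing hM) G :=
  MonoidAlgebra.ofCoeff (Finsupp.equivFunOnFinite.symm fun x => ⟨z.coeff x, hz x⟩)

theorem coeff_liftI (hM : IsPModular p M) {z : MonoidAlgebra ℂ G} (hz : IsInt M z) (x : G) :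
    ((liftI hM hz).coeff x : ℂ) = z.coeff x := rfl

theorem toC_liftI (hM : IsPModular p M) {z : MonoidAlgebra ℂ G} (hz : IsInt M z) :
    MonoidAlgebra.mapRingHom G (localRing hM).subtype (liftI hM hz) = z :=
  MonoidAlgebra.ext (Finsupp.ext fun x => by rw [MonoidAlgebra.coeff_mapRingHom]; rfl)

theorem toC_injective (hM : IsPModular p M) :
    Function.Injective (MonoidAlgebra.mapRingHom G (localRing hM).subtype) :=
  fun z w h => MonoidAlgebra.ext (Finsupp.ext fun x => Subtype.ext (by
    have := congrArg (fun t : MonoidAlgebra ℂ G => t.coeff x) h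
    simpa [MonoidAlgebra.coeff_mapRingHom] using this))

variable {k : Type*} [Field k]

theorem cen_out {z : MonoidAlgebra ℂ G} (hz : IsCen z) (x : G) :
    z.coeff (ConjClasses.mk x).out = z.coeff x := by
  obtain ⟨c, hc⟩ := isConj_iff.1 ((isConj_out (ConjClasses.mk x)).1 rfl)
  exact ((hz _ c).symm.trans (congrArg z.coeff hc))

/-- The idempotent over the residue field. -/
noncomputable def eS (hM : IsPModular p M) (π : localRing hM →+* k) {S : Set (IrrCharacter G)}
    (hS : IsInt M (idem S)) : MonoidAlgebra k G :=
  MonoidAlgebra.mapRingHom G π (liftI hM hS)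

theorem coeff_eS (hM : IsPModular p M) (π : localRing hM →+* k) {S : Set (IrrCharacter G)}
    (hS : IsInt M (idem S)) (x : G) : (eS hM π hS).coeff x = π ⟨(idem S).coeff x, hS x⟩ := by
  rw [eS, MonoidAlgebra.coeff_mapRingHom]; rfl

theorem eS_congr (hM : IsPModular p M) (π : localRing hM →+* k) {S T : Set (IrrCharacter G)}
    (hS : IsInt M (idem S)) (hT : IsInt M (idem T)) (h : S = T) : eS hM π hS = eS hM π hT := by
  subst h; rfl

theorem eS_mul (hM : IsPModular p M) (π : localRing hM →+* k) {S T : Set (IrrCharacter G)}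
    (hS : IsInt M (idem S)) (hT : IsInt M (idem T)) (hST : IsInt M (idem (S ∩ T))) :
    eS hM π hS * eS hM π hT = eS hM π hST := by
  rw [eS, eS, eS, ← map_mul]
  congr 1
  apply toC_injective hM
  rw [map_mul, toC_liftI, toC_liftI, toC_liftI, idem_mul_idem]

theorem eS_mul_of_subset (hM : IsPModular p M) (π : localRing hM →+* k)
    {S T : Set (IrrCharacter G)} (hS : IsInt M (idem S)) (hT : IsInt M (idem T)) (h : S ⊆ T) :
    eS hM π hS * eS hM π hT = eS hM π hS := by
  rw [eS_mul hM π hS hT (by rwa [Set.inter_eq_left.2 h])]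
  exact eS_congr hM π _ hS (Set.inter_eq_left.2 h)

theorem eS_mul_eq_zero (hM : IsPModular p M) (π : localRing hM →+* k) {S T : Set (IrrCharacter G)}
    (hS : IsInt M (idem S)) (hT : IsInt M (idem T)) (h : Disjoint S T) :
    eS hM π hS * eS hM π hT = 0 := by
  rw [eS, eS, ← map_mul, ← map_zero (MonoidAlgebra.mapRingHom G π)]
  congr 1
  apply toC_injective hM
  rw [map_mul, toC_liftI, toC_liftI, map_zero, idem_mul_idem, Set.disjoint_iff_inter_eq_empty.1 h,
    idem_empty]

theorem eS_sq (hM : IsPModular p M) (π : localRing hM →+* k) {S : Set (IrrCharacter G)}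
    (hS : IsInt M (idem S)) : eS hM π hS * eS hM π hS = eS hM π hS :=
  eS_mul_of_subset hM π hS hS subset_rfl

theorem commute_of_coeff {k : Type*} [CommRing k] (z : MonoidAlgebra k G)
    (h : ∀ x g : G, z.coeff (g * x * g⁻¹) = z.coeff x) (w : MonoidAlgebra k G) : w * z = z * w := by
  induction w using MonoidAlgebra.induction_linear with
  | zero => simp
  | add a b ha hb => rw [mul_add, add_mul, ha, hb]
  | single g r =>
    rw [show MonoidAlgebra.single g r = r • MonoidAlgebra.single g (1 : k) by
      rw [MonoidAlgebra.smul_single', mul_one], mul_smul_comm, smul_mul_assoc]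
    congr 1
    ext x
    rw [BrandtBlock42.coeff_mul_single', BrandtBlock42.coeff_single_mul',
      ← h (x * g⁻¹) g⁻¹]
    congr 1
    group

theorem eS_comm (hM : IsPModular p M) (π : localRing hM →+* k) {S : Set (IrrCharacter G)}
    (hS : IsInt M (idem S)) (w : MonoidAlgebra k G) : w * eS hM π hS = eS hM π hS * w := by
  refine commute_of_coeff _ (fun x g => ?_) w
  rw [coeff_eS, coeff_eS]
  exact congrArg π (Subtype.ext (isCen_idem S x g))

theorem eS_ne_zero (hM : IsPModular p M) (π : localRing hM →+* k)
    (hπ : ∀ z, π z = 0 ↔ MemLocalIdeal M (z : ℂ)) {S : Set (IrrCharacter G)}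
    (hS : IsInt M (idem S)) (hne : S.Nonempty) : eS hM π hS ≠ 0 := by
  intro h
  obtain ⟨χ, hχ⟩ := hne
  have h1 := omega_ideal_of_small hM χ (isCen_idem S) fun x =>
    (hπ ⟨_, hS x⟩).1 (by rw [← coeff_eS hM π hS x, h]; simp)
  rw [omega_idem, if_pos hχ] at h1
  exact one_not_ideal hM h1

section

/-- Left multiplication by an element, as a matrix. -/
noncomputable def leftMatS (hM : IsPModular p M) {S : Set (IrrCharacter G)} (hS : IsInt M (idem S)) :
    Matrix G G (localRing hM) := Matrix.of fun x y => ⟨(idem S).coeff (x * y⁻¹), hS _⟩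

theorem leftMatS_sq (hM : IsPModular p M) {S : Set (IrrCharacter G)} (hS : IsInt M (idem S)) :
    leftMatS hM hS * leftMatS hM hS = leftMatS hM hS := by
  ext x z : 1
  refine Subtype.ext ?_
  rw [Matrix.mul_apply]
  simp only [leftMatS, Matrix.of_apply]
  push_cast
  conv_rhs => rw [← idem_sq S, coeff_mul_eq]
  refine Fintype.sum_equiv ((Equiv.inv G).trans (Equiv.mulLeft x)) _ _ fun y => ?_
  simp only [Equiv.trans_apply, Equiv.inv_apply, Equiv.coe_mulLeft]
  congr 2
  group

/-- The dimension of the algebra of the set. -/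
theorem finrank_range (hM : IsPModular p M) {S : Set (IrrCharacter G)} (hS : IsInt M (idem S))
    (π : localRing hM →+* k) :
    Module.finrank k (LinearMap.range (LinearMap.mulLeft k (eS hM π hS))) =
      ∑ χ ∈ S.toFinset, charDegree (χ : G → ℂ) ^ 2 := by
  let L : MonoidAlgebra k G ≃ₗ[k] (G → k) :=
    (MonoidAlgebra.coeffLinearEquiv k).trans (Finsupp.linearEquivFunOnFinite k k G)
  set T := LinearMap.mulLeft k (eS hM π hS)
  have hL : Matrix.toLin' ((leftMatS hM hS).map π) = L.conj T := by
    refine LinearMap.ext fun v => funext fun x => ?_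
    have hv : ∀ y, (L.symm v).coeff y = v y := fun y => congrFun (L.apply_symm_apply v) y
    rw [Matrix.toLin'_apply, LinearEquiv.conj_apply]
    show _ = (eS hM π hS * L.symm v).coeff x
    rw [BrandtBlock42.coeff_mul']
    simp only [Matrix.mulVec, dotProduct, Matrix.map_apply, leftMatS, Matrix.of_apply, hv, coeff_eS]
    refine Fintype.sum_equiv ((Equiv.inv G).trans (Equiv.mulLeft x)) _ _ fun y => ?_
    simp only [Equiv.trans_apply, Equiv.inv_apply, Equiv.coe_mulLeft]
    congr 2
    group
  have h4 : Module.finrank k (LinearMap.range (Matrix.toLin' ((leftMatS hM hS).map π))) =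
      Module.finrank k (LinearMap.range T) := by
    rw [hL, LinearEquiv.conj_apply, LinearMap.range_comp_of_range_eq_top _
      (LinearEquiv.range L.symm), LinearMap.range_comp, LinearEquiv.finrank_map_eq]
  rw [rank_map_eq (localRing hM).subtype Subtype.val_injective π _ (leftMatS_sq hM hS)] at h4
  have htrc := rank_eq_trace _ (by rw [← Matrix.map_mul, leftMatS_sq hM hS] :
    (leftMatS hM hS).map (localRing hM).subtype * (leftMatS hM hS).map (localRing hM).subtype =
      (leftMatS hM hS).map (localRing hM).subtype)
  have e : ((leftMatS hM hS).map (localRing hM).subtype).trace =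
      ∑ χ ∈ S.toFinset, ((charDegree (χ : G → ℂ) : ℂ)) ^ 2 := by
    simp only [Matrix.trace, Matrix.diag_apply, Matrix.map_apply, leftMatS, Matrix.of_apply,
      mul_inv_cancel, Subring.coe_subtype, Finset.sum_const, Finset.card_univ, nsmul_eq_mul]
    show (Fintype.card G : ℂ) * (idem S).coeff 1 = _
    rw [coeff_idem, blockCoeff, ← mul_assoc, Nat.card_eq_fintype_card,
      mul_inv_cancel₀ (Nat.cast_ne_zero.2 Fintype.card_ne_zero), one_mul,
      finsum_mem_eq_toFinset_sum]
    refine Finset.sum_congr rfl fun χ _ => ?_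
    rw [ClassAlgebraVal.apply_one_eq_charDegree, Complex.conj_natCast, sq]
  rw [h4, e] at htrc
  exact_mod_cast htrc

/-- The matrix of a twisted convolution by the idempotent on class functions. -/
noncomputable def classMatS (hM : IsPModular p M) (f : G → localRing hM) :
    Matrix (ConjClasses G) (ConjClasses G) (localRing hM) :=
  Matrix.of fun C D => ∑ h : G, if ConjClasses.mk (h * C.out) = D then f h else 0

theorem classMatS_mulVec {R : Type*} [CommRing R] (hM : IsPModular p M) (f : G → localRing hM)
    (g : localRing hM →+* R) (v : ConjClasses G → R) (C : ConjClasses G) :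
    ((classMatS hM f).map g).mulVec v C = ∑ h : G, g (f h) * v (ConjClasses.mk (h * C.out)) := by
  simp only [Matrix.mulVec, dotProduct, classMatS, Matrix.map_apply, Matrix.of_apply, map_sum,
    Finset.sum_mul]
  rw [Finset.sum_comm]
  refine Finset.sum_congr rfl fun h _ => ?_
  rw [Finset.sum_eq_single (ConjClasses.mk (h * C.out))]
  · simp
  · intro D _ hD
    simp [Ne.symm hD]
  · simp

/-- The coefficients of `idem S` at inverses. -/
noncomputable def invCoeff (hM : IsPModular p M) {S : Set (IrrCharacter G)} (hS : IsInt M (idem S))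
    (h : G) : localRing hM := ⟨(idem S).coeff h⁻¹, hS _⟩

/-- The coefficients of `idem S`. -/
noncomputable def dirCoeff (hM : IsPModular p M) {S : Set (IrrCharacter G)} (hS : IsInt M (idem S))
    (h : G) : localRing hM := ⟨(idem S).coeff h, hS _⟩

theorem inv_mulVec (hM : IsPModular p M) {S : Set (IrrCharacter G)} (hS : IsInt M (idem S))
    {z : MonoidAlgebra ℂ G} (hz : IsCen z) :
    ((classMatS hM (invCoeff hM hS)).map (localRing hM).subtype).mulVec
      (fun C => z.coeff C.out) = fun C => (idem S * z).coeff C.out := by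
  funext C
  rw [classMatS_mulVec, coeff_mul_eq]
  refine Fintype.sum_equiv (Equiv.inv G) _ _ fun h => ?_
  simp only [invCoeff, Subring.coe_subtype, Equiv.inv_apply, inv_inv]
  congr 1
  exact cen_out hz _

theorem dir_mulVec (hM : IsPModular p M) {S : Set (IrrCharacter G)} (hS : IsInt M (idem S))
    (χ : IrrCharacter G) :
    ((classMatS hM (dirCoeff hM hS)).map (localRing hM).subtype).mulVec
      (fun C => (χ : G → ℂ) C.out) =
      if χ ∈ S then (fun C : ConjClasses G => (χ : G → ℂ) C.out) else 0 := by
  funext C
  rw [classMatS_mulVec]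
  have h := chiSum_idem_mul S χ (MonoidAlgebra.single C.out (1 : ℂ))
  rw [chiSum_single, one_mul] at h
  have e : ∑ h : G, (localRing hM).subtype (dirCoeff hM hS h) *
      (χ : G → ℂ) (ConjClasses.mk (h * C.out)).out =
      chiSum (χ : G → ℂ) (idem S * MonoidAlgebra.single C.out (1 : ℂ)) := by
    rw [chiSum_apply]
    refine Fintype.sum_equiv (Equiv.mulRight C.out) _ _ fun h => ?_
    simp only [Equiv.coe_mulRight, BrandtBlock42.coeff_mul_single', BrandtBlock42.irr_out]
    simp [dirCoeff]
  rw [e, h]
  split_ifs <;> rfl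

theorem classMatS_sq_dir (hM : IsPModular p M) {S : Set (IrrCharacter G)} (hS : IsInt M (idem S)) :
    classMatS hM (dirCoeff hM hS) * classMatS hM (dirCoeff hM hS) = classMatS hM (dirCoeff hM hS) := by
  have hinj : Function.Injective (localRing hM).subtype := Subtype.val_injective
  apply Matrix.map_injective hinj
  show (classMatS hM (dirCoeff hM hS) * classMatS hM (dirCoeff hM hS)).map (localRing hM).subtype = _
  rw [Matrix.map_mul]
  apply Matrix.toLin'.injective
  refine LinearMap.ext fun v => ?_
  obtain ⟨c, rfl⟩ := BrandtBlock42.exists_irr_comb v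
  simp only [map_sum, map_smul, Matrix.toLin'_apply, ← Matrix.mulVec_mulVec, dir_mulVec]
  refine Finset.sum_congr rfl fun χ _ => congrArg _ ?_
  split_ifs with h
  · rw [dir_mulVec, if_pos h]
  · rw [Matrix.mulVec_zero]

theorem classMatS_sq_inv (hM : IsPModular p M) {S : Set (IrrCharacter G)} (hS : IsInt M (idem S)) :
    classMatS hM (invCoeff hM hS) * classMatS hM (invCoeff hM hS) = classMatS hM (invCoeff hM hS) := by
  have hinj : Function.Injective (localRing hM).subtype := Subtype.val_injective
  apply Matrix.map_injective hinj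
  show (classMatS hM (invCoeff hM hS) * classMatS hM (invCoeff hM hS)).map (localRing hM).subtype = _
  rw [Matrix.map_mul]
  apply Matrix.toLin'.injective
  refine LinearMap.ext fun v => ?_
  set z : MonoidAlgebra ℂ G := ofFun fun x => v (ConjClasses.mk x) with hzdef
  have hzc : IsCen z := fun x h => by
    simp only [hzdef, coeff_ofFun]
    exact congrArg v (ConjClasses.mk_eq_mk_iff_isConj.2 (isConj_iff.2 ⟨h, rfl⟩).symm)
  have hv : v = fun C => z.coeff C.out := funext fun C => by
    simp only [hzdef, coeff_ofFun]
    exact congrArg v (Quotient.out_eq C).symm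
  simp only [Matrix.toLin'_apply, ← Matrix.mulVec_mulVec, hv, inv_mulVec hM hS hzc,
    inv_mulVec hM hS ((isCen_idem S).mul hzc), ← mul_assoc, idem_sq]

/-- A lower bound for the centre. -/
theorem le_finrank_cen (hM : IsPModular p M) {S : Set (IrrCharacter G)} (hS : IsInt M (idem S))
    (π : localRing hM →+* k) :
    S.toFinset.card ≤ Module.finrank k (EqualDeg80Alg.cenBelow k (eS hM π hS)) := by
  set A := classMatS hM (invCoeff hM hS)
  -- over the complex numbers
  have h1 : S.toFinset.card ≤
      Module.finrank ℂ (LinearMap.range (Matrix.toLin' (A.map (localRing hM).subtype))) := by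
    let v : S → LinearMap.range (Matrix.toLin' (A.map (localRing hM).subtype)) := fun χ =>
      ⟨fun C => (idem {(χ : IrrCharacter G)}).coeff C.out, fun C => (idem {(χ : IrrCharacter G)}).coeff C.out, by
        rw [Matrix.toLin'_apply, inv_mulVec hM hS (isCen_idem _), idem_mul_idem,
          Set.inter_singleton_of_mem χ.2]⟩
    have hli : LinearIndependent ℂ v := by
      refine Fintype.linearIndependent_iff.2 fun c hc i => ?_
      have hz : (∑ χ : S, c χ • idem {(χ : IrrCharacter G)} : MonoidAlgebra ℂ G) = 0 := by
        refine MonoidAlgebra.ext (Finsupp.ext fun x => ?_)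
        have h := congrArg (fun w : LinearMap.range (Matrix.toLin' (A.map (localRing hM).subtype)) =>
          (w : ConjClasses G → ℂ) (ConjClasses.mk x)) hc
        simp only [v, Submodule.coe_sum, Submodule.coe_smul, Finset.sum_apply, Pi.smul_apply,
          smul_eq_mul, Submodule.coe_zero, Pi.zero_apply] at h
        simp only [MonoidAlgebra.coeff_sum, Finsupp.finsetSum_apply, MonoidAlgebra.coeff_smul,
          Finsupp.smul_apply, smul_eq_mul, MonoidAlgebra.coeff_zero, Finsupp.zero_apply]
        rw [← h]
        exact Finset.sum_congr rfl fun χ _ => by rw [cen_out (isCen_idem _)]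
      have h := congrArg (omega ((i : IrrCharacter G) : G → ℂ)) hz
      simp only [map_sum, map_smul, omega_idem, Set.mem_singleton_iff, smul_eq_mul, map_zero] at h
      rw [Finset.sum_eq_single i] at h
      · simpa using h
      · intro j _ hj
        rw [if_neg fun hh => hj (Subtype.ext hh.symm), mul_zero]
      · simp
    have := hli.fintype_card_le_finrank
    rwa [← Set.toFinset_card] at this
  rw [← rank_map_eq (localRing hM).subtype Subtype.val_injective π A (classMatS_sq_inv hM hS)] at h1
  refine h1.trans ?_
  -- over the residue field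
  let Γ : (ConjClasses G → k) →ₗ[k] MonoidAlgebra k G :=
    { toFun := fun v => ∑ x : G, MonoidAlgebra.single x (v (ConjClasses.mk x))
      map_add' := fun v w => by simp [MonoidAlgebra.single_add, Finset.sum_add_distrib]
      map_smul' := fun c v => by simp [Finset.smul_sum, MonoidAlgebra.smul_single] }
  have hΓ : ∀ v x, (Γ v).coeff x = v (ConjClasses.mk x) := fun v x => by
    simp [Γ, MonoidAlgebra.coeff_sum, Finsupp.single_apply, Finset.sum_apply']
  have hΓinj : Function.Injective Γ := fun v w h => funext fun C => by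
    rw [← Quotient.out_eq C]
    exact ((hΓ v C.out).symm.trans (by rw [h])).trans (hΓ w C.out)
  have hcl : ∀ x g : G, ConjClasses.mk (g * x * g⁻¹) = ConjClasses.mk x := fun x g =>
    (ConjClasses.mk_eq_mk_iff_isConj.2 (isConj_iff.2 ⟨g, rfl⟩)).symm
  have hmul : ∀ v, Γ (Matrix.toLin' (A.map π) v) = eS hM π hS * Γ v := fun v => by
    refine MonoidAlgebra.ext (Finsupp.ext fun x => ?_)
    rw [hΓ, Matrix.toLin'_apply, classMatS_mulVec, BrandtBlock42.coeff_mul']
    obtain ⟨c, hc⟩ := isConj_iff.1 ((isConj_out (ConjClasses.mk x)).1 rfl).symm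
    refine Fintype.sum_equiv ((MulAut.conj c).toEquiv.symm.trans (Equiv.inv G)) _ _ fun h => ?_
    simp only [Equiv.trans_apply, Equiv.inv_apply, invCoeff, coeff_eS, hΓ]
    congr 1
    · congr 1
      refine Subtype.ext ?_
      show (idem S).coeff h⁻¹ = (idem S).coeff ((MulAut.conj c).symm h)⁻¹
      rw [MulAut.conj_symm_apply, mul_inv_rev, mul_inv_rev, inv_inv,
        show c⁻¹ * (h⁻¹ * c) = c⁻¹ * h⁻¹ * (c⁻¹)⁻¹ by group]
      exact (isCen_idem S h⁻¹ c⁻¹).symm
    · congr 1
      show _ = ConjClasses.mk ((((MulAut.conj c).symm h)⁻¹)⁻¹ * x)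
      rw [inv_inv, MulAut.conj_symm_apply, ← hcl (c⁻¹ * h * c * x) c]
      congr 1
      rw [← hc]; group
  have hsub : (LinearMap.range (Matrix.toLin' (A.map π))).map Γ ≤
      EqualDeg80Alg.cenBelow k (eS hM π hS) := by
    rintro _ ⟨_, ⟨v, rfl⟩, rfl⟩
    refine EqualDeg80Alg.mem_cenBelow.2 ⟨commute_of_coeff _ fun x g => ?_, ?_⟩
    · rw [hΓ, hΓ, hcl]
    · rw [hmul, ← mul_assoc, eS_sq hM π hS]
  calc _ = Module.finrank k ((LinearMap.range (Matrix.toLin' (A.map π))).map Γ) :=
        (LinearEquiv.finrank_eq (Submodule.equivMapOfInjective Γ hΓinj _))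
    _ ≤ _ := Submodule.finrank_mono hsub

/-- Trace functionals on the algebra of the set. -/
theorem trace_bound (hM : IsPModular p M) {S : Set (IrrCharacter G)} (hS : IsInt M (idem S))
    (π : localRing hM →+* k) {n : ℕ}
    (φ : Fin n → (MonoidAlgebra k G →ₗ[k] k))
    (htr : ∀ i a b, φ i (a * b) = φ i (b * a)) (he : ∀ i a, φ i (eS hM π hS * a) = φ i a)
    (hli : LinearIndependent k φ) : n ≤ S.toFinset.card := by
  set A := classMatS hM (dirCoeff hM hS)
  have hrankC : Module.finrank ℂ (LinearMap.range (Matrix.toLin' (A.map (localRing hM).subtype))) ≤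
      S.toFinset.card := by
    set T : Finset (ConjClasses G → ℂ) :=
      S.toFinset.image fun χ : IrrCharacter G => fun C => (χ : G → ℂ) C.out
    have hle : LinearMap.range (Matrix.toLin' (A.map (localRing hM).subtype)) ≤
        Submodule.span ℂ (T : Set (ConjClasses G → ℂ)) := by
      rintro _ ⟨v, rfl⟩
      obtain ⟨c, rfl⟩ := BrandtBlock42.exists_irr_comb v
      simp only [map_sum, map_smul, Matrix.toLin'_apply, A, dir_mulVec]
      refine Submodule.sum_mem _ fun χ _ => Submodule.smul_mem _ _ ?_
      split_ifs with h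
      · exact Submodule.subset_span (Finset.mem_image_of_mem _ (Set.mem_toFinset.2 h))
      · exact Submodule.zero_mem _
    exact (Submodule.finrank_mono hle).trans ((finrank_span_finset_le_card T).trans Finset.card_image_le)
  rw [← rank_map_eq (localRing hM).subtype Subtype.val_injective π A (classMatS_sq_dir hM hS)] at hrankC
  refine le_trans ?_ hrankC
  let ev : (MonoidAlgebra k G →ₗ[k] k) →ₗ[k] (ConjClasses G → k) :=
    { toFun := fun ψ C => ψ (MonoidAlgebra.single C.out 1)
      map_add' := fun _ _ => rfl
      map_smul' := fun _ _ => rfl }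
  have hcl : ∀ i g, φ i (MonoidAlgebra.single (ConjClasses.mk g).out 1) =
      φ i (MonoidAlgebra.single g 1) := by
    intro i g
    obtain ⟨c, hc'⟩ := isConj_iff.1 ((isConj_out (ConjClasses.mk g)).1 rfl)
    have hg : MonoidAlgebra.single g (1 : k) = MonoidAlgebra.single c 1 *
        MonoidAlgebra.single (ConjClasses.mk g).out 1 * MonoidAlgebra.single c⁻¹ 1 := by
      simp [MonoidAlgebra.single_mul_single, hc']
    conv_rhs => rw [hg, htr, ← mul_assoc, MonoidAlgebra.single_mul_single, inv_mul_cancel, one_mul,
      ← MonoidAlgebra.one_def, one_mul]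
  have hmem : ∀ i, ev (φ i) ∈ LinearMap.range (Matrix.toLin' (A.map π)) := by
    intro i
    refine ⟨ev (φ i), funext fun C => ?_⟩
    rw [Matrix.toLin'_apply, classMatS_mulVec]
    show _ = φ i (MonoidAlgebra.single C.out 1)
    conv_rhs => rw [← he, BrandtBlock42.eq_sum_single' (eS hM π hS), Finset.sum_mul, map_sum]
    refine Finset.sum_congr rfl fun h _ => ?_
    show π (dirCoeff hM hS h) * φ i (MonoidAlgebra.single (ConjClasses.mk (h * C.out)).out 1) = _
    rw [hcl, MonoidAlgebra.single_mul_single, mul_one,
      show MonoidAlgebra.single (h * C.out) ((eS hM π hS).coeff h) =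
        (eS hM π hS).coeff h • MonoidAlgebra.single (h * C.out) (1 : k) by
        rw [MonoidAlgebra.smul_single', mul_one], map_smul, smul_eq_mul]
    rw [coeff_eS]
    rfl
  have hli' : LinearIndependent k
      (fun i => (⟨ev (φ i), hmem i⟩ : LinearMap.range (Matrix.toLin' (A.map π)))) := by
    refine Fintype.linearIndependent_iff.2 fun g hg i => ?_
    refine Fintype.linearIndependent_iff.1 hli g ?_ i
    refine LinearMap.ext fun a => ?_
    induction a using MonoidAlgebra.induction_linear with
    | zero => simp
    | add a b ha hb => simp only [map_add, ha, hb]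
    | single x r =>
      have := congrArg (fun w : LinearMap.range (Matrix.toLin' (A.map π)) =>
        (w : ConjClasses G → k) (ConjClasses.mk x)) hg
      simp only [ev, LinearMap.coe_mk, AddHom.coe_mk, Submodule.coe_sum, Submodule.coe_smul,
        Finset.sum_apply, Pi.smul_apply, smul_eq_mul, Submodule.coe_zero, Pi.zero_apply, hcl] at this
      rw [show MonoidAlgebra.single x r = r • MonoidAlgebra.single x (1 : k) by
        rw [MonoidAlgebra.smul_single', mul_one], map_smul, map_smul, LinearMap.sum_apply]
      simp only [LinearMap.smul_apply, smul_eq_mul, this, mul_zero, LinearMap.zero_apply]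
  simpa using hli'.fintype_card_le_finrank

end

end Cfsg.Agent.EqualDeg80Dims
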