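import Cfsg.Agent.Lib.EqualDeg80Red
import Cfsg.Agent.Lib.DefectZeroReduction

/-!
A residue field with reductions of all irreducible representations, compatible with idempotents.
-/

set_option autoImplicit false
set_option linter.unusedSectionVars false

namespace Cfsg.Agent.EqualDeg80Field

open Cfsg Cfsg.Agent.BlockTheoryLocalRing Cfsg.Agent.BlockTheoryCentre Cfsg.Agent.EqualDeg80Red

universe u

variable {p : ℕ} {M : Ideal AlgInt}

theorem value_mem (hM : IsPModular p M) {X : Type u} [Group X] [Fintype X] (χ : IrrCharacter X)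
    (g : X) : MemLocalRing M ((χ : X → ℂ) g) := by
  obtain ⟨n, ρ, -, hρ⟩ := χ.2
  exact hρ ▸ of_isIntegral hM (CharBasic.isIntegral_character ρ g)

/-- A reduction of `χ`: traces are reduced values and ranks of idempotents are kept. -/
def HasRed (hM : IsPModular p M) {k : Type} [Field k] (π : localRing hM →+* k) {X : Type u} [Group X]
    [Fintype X] (χ : IrrCharacter X) : Prop :=
  ∃ R : MonoidAlgebra k X →ₐ[k]
      Matrix (Fin (charDegree (χ : X → ℂ))) (Fin (charDegree (χ : X → ℂ))) k,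
    (∀ g, (R (MonoidAlgebra.single g 1)).trace = π ⟨(χ : X → ℂ) g, value_mem hM χ g⟩) ∧
      ∀ (z : MonoidAlgebra ℂ X) (hz : IsInt M z), z * z = z →
        ((R (tok hM π hz)).rank : ℂ) = chiSum (χ : X → ℂ) z

/-- The residue field. -/
theorem exists_field (hM : IsPModular p M) :
    ∃ (k : Type) (_ : Field k) (_ : IsAlgClosed k) (_ : CharP k p) (π : localRing hM →+* k),
      (∀ z, π z = 0 ↔ MemLocalIdeal M (z : ℂ)) ∧
        ∀ (X : Type u) (_ : Group X) (_ : Fintype X) (χ : IrrCharacter X), HasRed hM π χ := by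
  classical
  obtain ⟨B, hAB, hMB⟩ := Ideal.image_subset_nonunits_valuationSubring
    (A := (AlgInt : Subalgebra ℤ ℂ).toSubring) M hM.2.1.ne_top
  have hmem : ∀ a : AlgInt, (a : ℂ) ∈ B := fun a => hAB a.2
  set res : B →+* IsLocalRing.ResidueField B := IsLocalRing.residue B with hresdef
  have hres0 : ∀ a : AlgInt, a ∈ M → res ⟨(a : ℂ), hmem a⟩ = 0 := fun a ha => by
    refine (IsLocalRing.residue_eq_zero_iff _).2 ?_
    exact (B.coe_mem_nonunits_iff (a := ⟨(a : ℂ), hmem a⟩)).1 (hMB ⟨a, ha, rfl⟩)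
  have hres1 : ∀ b : AlgInt, b ∉ M → res ⟨(b : ℂ), hmem b⟩ ≠ 0 := by
    intro b hb h0
    obtain ⟨c, i, hi, hci⟩ := hM.2.1.exists_inv hb
    have e : (⟨(c : ℂ), hmem c⟩ : B) * ⟨(b : ℂ), hmem b⟩ + ⟨(i : ℂ), hmem i⟩ = 1 :=
      Subtype.ext (by push_cast; exact_mod_cast congrArg (fun x : AlgInt => (x : ℂ)) hci)
    have := congrArg res e
    rw [map_add, map_mul, h0, mul_zero, hres0 i hi, zero_add, map_one] at this
    exact zero_ne_one this
  have hle : localRing hM ≤ B.toSubring := by
    rintro z ⟨a, b, hb, rfl⟩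
    obtain ⟨u, hu⟩ : IsUnit (⟨(b : ℂ), hmem b⟩ : B) :=
      (IsLocalRing.residue_ne_zero_iff_isUnit _).1 (hres1 b hb)
    have hinv : ((b : ℂ))⁻¹ = (((u⁻¹ : Bˣ) : B) : ℂ) := by
      refine inv_eq_of_mul_eq_one_right ?_
      have h := congrArg (fun x : B => (x : ℂ)) (Units.mul_inv u)
      rw [hu] at h
      simpa using h
    show (a : ℂ) / (b : ℂ) ∈ B
    rw [div_eq_mul_inv, hinv]
    exact mul_mem (hmem a) ((u⁻¹ : Bˣ) : B).2
  haveI hchar : CharP (IsLocalRing.ResidueField B) p := by
    refine (CharP.charP_iff_prime_eq_zero hM.1).2 ?_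
    have h := hres0 (p : AlgInt) hM.2.2
    rwa [show (⟨((p : AlgInt) : ℂ), hmem _⟩ : B) = (p : B) from Subtype.ext (by push_cast; rfl),
      map_natCast] at h
  haveI hclosed : IsAlgClosed (IsLocalRing.ResidueField B) := by
    refine IsAlgClosed.of_exists_root _ fun f hf hirr => ?_
    obtain ⟨g, hg⟩ := Polynomial.map_surjective res IsLocalRing.residue_surjective f
    obtain ⟨q, hqf, hqd, hqm⟩ := Polynomial.lifts_and_degree_eq_and_monic
      ((Polynomial.mem_lifts f).2 ⟨g, hg⟩) hf
    obtain ⟨z, hz⟩ := IsAlgClosed.exists_root (q.map (algebraMap B ℂ))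
      (by rw [hqm.degree_map, hqd]; exact (Polynomial.degree_pos_of_irreducible hirr).ne')
    rw [Polynomial.IsRoot, Polynomial.eval_map] at hz
    obtain ⟨w, hw⟩ := IsIntegrallyClosed.isIntegral_iff.1
      (⟨q, hqm, hz⟩ : IsIntegral B z)
    subst hw
    refine ⟨res w, ?_⟩
    rw [← hqf, Polynomial.eval_map, Polynomial.eval₂_hom]
    have h0 : q.eval w = 0 := by
      apply IsFractionRing.injective B ℂ
      rw [map_zero, ← hz, Polynomial.eval₂_at_apply]
    rw [h0, map_zero]
  set π : localRing hM →+* IsLocalRing.ResidueField B := res.comp (Subring.inclusion hle) with hπdef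
  refine ⟨IsLocalRing.ResidueField B, inferInstance, hclosed, hchar, π, fun z => ⟨fun h0 => ?_, ?_⟩, ?_⟩
  · by_contra hn
    have hi := inv_mem hM z.2 hn
    have hz0 : (z : ℂ) ≠ 0 := fun h => hn (h ▸ ideal_zero hM)
    have e : z * ⟨_, hi⟩ = 1 := Subtype.ext (mul_inv_cancel₀ hz0)
    have := congrArg π e
    rw [map_mul, h0, zero_mul, map_one] at this
    exact zero_ne_one this
  · rintro ⟨a, b, ha, hb, h⟩
    have e : (Subring.inclusion hle z : B) * ⟨(b : ℂ), hmem b⟩ = ⟨(a : ℂ), hmem a⟩ :=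
      Subtype.ext (by
        show (z : ℂ) * (b : ℂ) = (a : ℂ)
        rw [← h, div_mul_cancel₀ _ (coe_ne_zero hb)])
    have := congrArg res e
    rw [map_mul, hres0 a ha] at this
    exact (mul_eq_zero.1 this).resolve_right (hres1 b hb)
  intro X _ _ χ
  obtain ⟨n, ρ, -, hρ⟩ := χ.2
  have hdeg : charDegree (χ : X → ℂ) = n := by
    rw [charDegree, ← hρ, Representation.char_one, Module.finrank_fin_fun]
    simp
  have hχ : ∀ g, (χ : X → ℂ) g = (DefectZeroReduction.mat ρ g).trace := fun g => by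
    rw [← hρ]
    show LinearMap.trace ℂ _ (ρ g) = _
    rw [LinearMap.trace_eq_matrix_trace ℂ (Pi.basisFun ℂ (Fin n))]
    rfl
  obtain ⟨P, hP, hint⟩ := DefectZeroReduction.exists_integral B (DefectZeroReduction.mat ρ)
  set Φ := DefectZeroReduction.conjHom (DefectZeroReduction.mat ρ) P hP
  have htrΦ : ∀ g, (Φ g).trace = (χ : X → ℂ) g := fun g => by
    show (P⁻¹ * DefectZeroReduction.mat ρ g * P).trace = _
    rw [hχ, Matrix.trace_mul_cycle, Matrix.mul_nonsing_inv P hP, one_mul]
  have hinj : Function.Injective (B.subtype.mapMatrix : Matrix (Fin n) (Fin n) B →+* _) :=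
    fun X Y h => Matrix.ext fun i j => Subtype.ext (congrFun (congrFun h i) j)
  let Ψ : X →* Matrix (Fin n) (Fin n) B :=
    { toFun := fun g => Matrix.of fun i j => ⟨Φ g i j, hint g i j⟩
      map_one' := hinj ((show B.subtype.mapMatrix _ = Φ 1 from rfl).trans (by rw [map_one, map_one]))
      map_mul' := fun g h => hinj ((show B.subtype.mapMatrix _ = Φ (g * h) from rfl).trans
        (by rw [map_mul, map_mul]; rfl)) }
  let R : MonoidAlgebra (IsLocalRing.ResidueField B) X →ₐ[IsLocalRing.ResidueField B]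
      Matrix (Fin n) (Fin n) (IsLocalRing.ResidueField B) :=
    MonoidAlgebra.lift (IsLocalRing.ResidueField B) _ X (res.mapMatrix.toMonoidHom.comp Ψ)
  have hR : ∀ g r, R (MonoidAlgebra.single g r) = r • res.mapMatrix (Ψ g) := fun g r => by
    simp [R, MonoidAlgebra.lift_single]
  rw [HasRed, hdeg]
  refine ⟨R, fun g => ?_, fun z hz hzz => ?_⟩
  · rw [hR, one_smul]
    show (res.mapMatrix (Ψ g)).trace = res _
    rw [show (res.mapMatrix (Ψ g)).trace = res (Ψ g).trace from (map_sum res _ _).symm]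
    congr 1
    refine Subtype.ext ?_
    rw [Matrix.trace, AddSubmonoidClass.coe_finsetSum]
    exact htrΦ g
  · let F : MonoidAlgebra ℂ X →ₐ[ℂ] Matrix (Fin n) (Fin n) ℂ := MonoidAlgebra.lift ℂ _ X Φ
    set E : Matrix (Fin n) (Fin n) B := ∑ x, (⟨z.coeff x, hle (hz x)⟩ : B) • Ψ x with hE
    have hEF : B.subtype.mapMatrix E = F z := by
      conv_rhs => rw [eq_sum_single z]
      rw [hE, map_sum, map_sum]
      refine Finset.sum_congr rfl fun x _ => ?_
      rw [MonoidAlgebra.lift_single]
      ext i j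
      rfl
    have hEE : E * E = E := hinj (by rw [map_mul, hEF, ← map_mul, hzz])
    have hRE : R (tok hM π hz) = E.map res := by
      conv_lhs => rw [BrandtBlock42.eq_sum_single' (tok hM π hz)]
      rw [map_sum, hE, ← RingHom.mapMatrix_apply, map_sum]
      refine Finset.sum_congr rfl fun x _ => ?_
      rw [hR, coeff_tok]
      ext i j
      simp only [Matrix.smul_apply, RingHom.mapMatrix_apply, Matrix.map_apply, smul_eq_mul, map_mul]
      rfl
    have hEC : E.map B.subtype = F z := hEF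
    have hrk : (R (tok hM π hz)).rank = (E.map B.subtype).rank := by
      rw [hRE]
      exact BrandtAlgebra42.rank_map_eq B.subtype Subtype.val_injective res E hEE
    have htr : ((E.map B.subtype).rank : ℂ) = (E.map B.subtype).trace :=
      BrandtAlgebra42.rank_eq_trace _ (by rw [← Matrix.map_mul, hEE])
    rw [hrk, htr, hEC]
    conv_lhs => rw [eq_sum_single z]
    rw [map_sum, Matrix.trace_sum, chiSum_apply]
    refine Finset.sum_congr rfl fun x _ => ?_
    rw [MonoidAlgebra.lift_single, Matrix.trace_smul, htrΦ, smul_eq_mul]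

end Cfsg.Agent.EqualDeg80Field
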