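import Cfsg.Agent.Lib.EqualDeg80Alg
import Cfsg.Agent.Lib.BrandtBlock42

/-!
First order terms of central elements along an abelian normal `p`-subgroup `V` of a finite group.
If the radical of an algebra summand is generated by central elements then the stabiliser of a block
below fixes every additive functional on `V`.
-/

set_option autoImplicit false
set_option linter.unusedSectionVars false

namespace Cfsg.Agent.EqualDeg80First

open MonoidAlgebra

attribute [local instance] Classical.propDecidable

variable {k : Type*} [Field k]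

/-- Reindexing along `f` weighted by `F`. -/
noncomputable def W {α β : Type*} [Fintype α] (f : α → β) (F : α → k) :
    MonoidAlgebra k α →ₗ[k] MonoidAlgebra k β where
  toFun z := ∑ a, z.coeff a • single (f a) (F a)
  map_add' z w := by simp [add_smul, Finset.sum_add_distrib]
  map_smul' c z := by simp [Finset.smul_sum, mul_assoc, MonoidAlgebra.smul_single']

theorem W_single {α β : Type*} [Fintype α] (f : α → β) (F : α → k) (a : α) (r : k) :
    W f F (single a r) = single (f a) (r * F a) := by
  simp only [W, LinearMap.coe_mk, AddHom.coe_mk]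
  rw [Finset.sum_eq_single a]
  · simp [MonoidAlgebra.smul_single']
  · intro b _ hb
    simp [Finsupp.single_apply, Ne.symm hb]
  · simp

theorem coeff_W_id {β : Type*} [Fintype β] (F : β → k) (y : MonoidAlgebra k β) (q : β) :
    (W (fun x => x) F y).coeff q = y.coeff q * F q := by
  simp [W, MonoidAlgebra.coeff_sum, Finsupp.single_apply, Finset.sum_apply']

theorem W_sub {α β : Type*} [Fintype α] (f : α → β) (F F' : α → k) (z : MonoidAlgebra k α) :
    W f (fun a => F a - F' a) z = W f F z - W f F' z := by
  simp [W, MonoidAlgebra.single_sub, smul_sub, Finset.sum_sub_distrib]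

variable {X Q : Type*} [Group X] [Fintype X] [Group Q] [Fintype Q]

/-- The map of group algebras. -/
noncomputable def πA (ψ : X →* Q) : MonoidAlgebra k X →ₐ[k] MonoidAlgebra k Q :=
  MonoidAlgebra.mapDomainAlgHom k k ψ

theorem πA_single (ψ : X →* Q) (g : X) (r : k) : πA ψ (single g r) = single (ψ g) r := by
  simp [πA, MonoidAlgebra.mapDomain_single]

theorem W_comp (ψ : X →* Q) {β : Type*} (f : Q → β) (F : Q → k) (z : MonoidAlgebra k X) :
    W (fun g => f (ψ g)) (fun g => F (ψ g)) z = W f F (πA ψ z) := by
  induction z using MonoidAlgebra.induction_linear with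
  | zero => simp
  | add a b ha hb => simp [ha, hb]
  | single g r => rw [πA_single, W_single, W_single]

/-- Additive on a subgroup. -/
def AddOn (V : Subgroup X) (l : X → k) : Prop := ∀ u ∈ V, ∀ v ∈ V, l (u * v) = l u + l v

/-- `g` fixes every additive functional. -/
def Fix (k : Type*) [Field k] (V : Subgroup X) (g : X) : Prop :=
  ∀ l : X → k, AddOn V l → ∀ u ∈ V, l (g * u * g⁻¹) = l u

variable {ψ : X →* Q} (hψ : Function.Surjective ψ) {V : Subgroup X}

/-- A section. -/
noncomputable def sec (hψ : Function.Surjective ψ) : Q → X := Function.surjInv hψ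

theorem ψ_sec (q : Q) : ψ (sec hψ q) = q := Function.surjInv_eq hψ q

variable (hker : ∀ g, ψ g = 1 ↔ g ∈ V)
include hker

theorem dev_mem (g : X) : g * (sec hψ (ψ g))⁻¹ ∈ V :=
  (hker _).1 (by rw [map_mul, map_inv, ψ_sec, mul_inv_cancel])

theorem conj_mem {g u : X} (hu : u ∈ V) : g * u * g⁻¹ ∈ V :=
  (hker _).1 (by rw [map_mul, map_mul, (hker u).2 hu, mul_one, map_inv, mul_inv_cancel])

theorem addOn_comp {l : X → k} (hl : AddOn V l) (g : X) : AddOn V fun u => l (g * u * g⁻¹) :=
  fun u hu v hv => by
    simp only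
    rw [← hl _ (conj_mem hker hu) _ (conj_mem hker hv)]
    group

omit hker in
/-- The deviation of an element from the section, measured by `l`. -/
noncomputable def dev (hψ : Function.Surjective ψ) (l : X → k) (g : X) : k :=
  l (g * (sec hψ (ψ g))⁻¹)

omit hker in
/-- The first order term. -/
noncomputable def L (hψ : Function.Surjective ψ) (l : X → k) :
    MonoidAlgebra k X →ₗ[k] MonoidAlgebra k Q := W ψ (dev hψ l)

theorem L_mul_single {l : X → k} (hl : AddOn V l) (z : MonoidAlgebra k X) (h : X) (r : k) :
    L hψ l (z * single h r) = L hψ l z * single (ψ h) r +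
      W (fun q => q * ψ h) (fun q => r * l (sec hψ q * h * (sec hψ (q * ψ h))⁻¹)) (πA ψ z) := by
  induction z using MonoidAlgebra.induction_linear with
  | zero => simp
  | add a b ha hb => rw [add_mul, map_add, ha, hb, map_add, map_add, map_add, add_mul]; abel
  | single g s =>
    rw [MonoidAlgebra.single_mul_single, L, W_single, W_single, πA_single, W_single,
      MonoidAlgebra.single_mul_single, map_mul, ← MonoidAlgebra.single_add]
    congr 1
    simp only [dev, map_mul]
    rw [show g * h * (sec hψ (ψ g * ψ h))⁻¹ = g * (sec hψ (ψ g))⁻¹ *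
      (sec hψ (ψ g) * h * (sec hψ (ψ g * ψ h))⁻¹) by group,
      hl _ (dev_mem hψ hker g) _ ((hker _).1 (by simp [ψ_sec]))]
    ring

theorem L_mul {l : X → k} (hl : AddOn V l) {z : MonoidAlgebra k X} (hz : πA ψ z = 0)
    (a : MonoidAlgebra k X) : L hψ l (z * a) = L hψ l z * πA ψ a := by
  induction a using MonoidAlgebra.induction_linear with
  | zero => simp
  | add a b ha hb => simp [mul_add, ha, hb]
  | single g r => rw [L_mul_single hψ hker hl, hz, map_zero, add_zero, πA_single]

theorem L_conj {l : X → k} (hl : AddOn V l) (g : X) (z : MonoidAlgebra k X) :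
    L hψ l (single g 1 * z * single g⁻¹ 1) =
      single (ψ g) 1 * L hψ (fun u => l (g * u * g⁻¹)) z * single (ψ g)⁻¹ 1 +
      W (fun q => ψ g * q * (ψ g)⁻¹)
        (fun q => l (g * sec hψ q * g⁻¹ * (sec hψ (ψ g * q * (ψ g)⁻¹))⁻¹)) (πA ψ z) := by
  induction z using MonoidAlgebra.induction_linear with
  | zero => simp
  | add a b ha hb =>
    simp only [mul_add, add_mul, map_add, ha, hb]
    abel
  | single x s =>
    simp only [MonoidAlgebra.single_mul_single, one_mul, mul_one, L, W_single, πA_single]
    rw [map_mul, map_mul, map_inv, ← MonoidAlgebra.single_add]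
    congr 1
    simp only [dev, map_mul, map_inv]
    rw [← mul_add, show g * x * g⁻¹ * (sec hψ (ψ g * ψ x * (ψ g)⁻¹))⁻¹ =
      g * (x * (sec hψ (ψ x))⁻¹) * g⁻¹ *
        (g * sec hψ (ψ x) * g⁻¹ * (sec hψ (ψ g * ψ x * (ψ g)⁻¹))⁻¹) by group,
      hl _ (conj_mem hker (dev_mem hψ hker x)) _ ((hker _).1 (by simp [ψ_sec]))]

theorem L_central {l : X → k} (hl : AddOn V l) {z : MonoidAlgebra k X}
    (hz : ∀ a, a * z = z * a) (hz0 : πA ψ z = 0) (g : X) :
    single (ψ g) 1 * L hψ (fun u => l (g * u * g⁻¹)) z * single (ψ g)⁻¹ 1 = L hψ l z := by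
  have h := L_conj hψ hker hl g z
  rw [hz, mul_assoc, MonoidAlgebra.single_mul_single, mul_inv_cancel, one_mul,
    ← MonoidAlgebra.one_def, mul_one, hz0, map_zero, add_zero] at h
  exact h.symm

/-- The second order identity for central elements. -/
theorem second_order {l m : X → k} (hl : AddOn V l) (hm : AddOn V m)
    (hab : ∀ u ∈ V, ∀ v ∈ V, u * v = v * u) {z : MonoidAlgebra k X}
    (hz : ∀ a, a * z = z * a) (hz0 : πA ψ z = 0) {w : X} (hw : w ∈ V) (q : Q) :
    (L hψ l z).coeff q * (m (sec hψ q * w * (sec hψ q)⁻¹) - m w) +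
      (L hψ m z).coeff q * (l (sec hψ q * w * (sec hψ q)⁻¹) - l w) = 0 := by
  set Γ : MonoidAlgebra k X →ₗ[k] MonoidAlgebra k Q := W ψ fun g => dev hψ l g * dev hψ m g
  set dl : Q → k := fun q => l (sec hψ q * w * (sec hψ q)⁻¹)
  set dm : Q → k := fun q => m (sec hψ q * w * (sec hψ q)⁻¹)
  have hψw : ψ w = 1 := (hker w).2 hw
  have dev_left : ∀ {f : X → k}, AddOn V f → ∀ g, dev hψ f (w * g) = f w + dev hψ f g := by
    intro f hf g
    simp only [dev, map_mul, hψw, one_mul]
    rw [mul_assoc, hf _ hw _ (dev_mem hψ hker g)]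
  have dev_right : ∀ {f : X → k}, AddOn V f → ∀ g,
      dev hψ f (g * w) = dev hψ f g + f (sec hψ (ψ g) * w * (sec hψ (ψ g))⁻¹) := by
    intro f hf g
    simp only [dev, map_mul, hψw, mul_one]
    rw [← hf _ (dev_mem hψ hker g) _ (conj_mem hker hw)]
    group
  have e1 : ∀ y, Γ (single w 1 * y) =
      Γ y + m w • L hψ l y + l w • L hψ m y + (l w * m w) • πA ψ y := by
    intro y
    induction y using MonoidAlgebra.induction_linear with
    | zero => simp
    | add a b ha hb => simp only [mul_add, map_add, ha, hb, smul_add]; abel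
    | single g r =>
      simp only [Γ, L, MonoidAlgebra.single_mul_single, one_mul, W_single, πA_single, map_mul, hψw,
        MonoidAlgebra.smul_single', dev_left hl, dev_left hm, ← MonoidAlgebra.single_add]
      congr 1
      ring
  have e2 : ∀ y, Γ (y * single w 1) = Γ y + W (fun x => x) dm (L hψ l y) +
      W (fun x => x) dl (L hψ m y) + W (fun x => x) (fun x => dl x * dm x) (πA ψ y) := by
    intro y
    induction y using MonoidAlgebra.induction_linear with
    | zero => simp
    | add a b ha hb => simp only [add_mul, map_add, ha, hb]; abel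
    | single g r =>
      simp only [Γ, L, MonoidAlgebra.single_mul_single, mul_one, W_single, πA_single, map_mul, hψw,
        dev_right hl, dev_right hm, ← MonoidAlgebra.single_add, dl, dm]
      congr 1
      ring
  have h := (congrArg Γ (hz (single w 1))).symm.trans (e1 z)
  rw [e2, hz0, map_zero, smul_zero, add_zero, add_zero] at h
  have h' := congrArg (fun y : MonoidAlgebra k Q => y.coeff q) h
  simp only [MonoidAlgebra.coeff_add, Finsupp.add_apply, coeff_W_id, MonoidAlgebra.coeff_smul,
    Finsupp.smul_apply, smul_eq_mul, dl, dm] at h'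
  linear_combination h'

theorem fix_or_of_coeff (hab : ∀ u ∈ V, ∀ v ∈ V, u * v = v * u) {l : X → k} (hl : AddOn V l)
    {z : MonoidAlgebra k X} (hz : ∀ a, a * z = z * a) (hz0 : πA ψ z = 0) {q : Q}
    (hne : (L hψ l z).coeff q ≠ 0) :
    Fix k V (sec hψ q) ∨ ((2 : k) = 0 ∧ Fix k V (sec hψ q * sec hψ q)) := by
  set g := sec hψ q
  by_cases h2 : (2 : k) = 0
  · refine Or.inr ⟨h2, fun m hm u hu => ?_⟩
    have hm' := addOn_comp hker hm g
    have h1 := second_order hψ hker hl hm hab hz hz0 hu q
    have h3 := second_order hψ hker hl hm' hab hz hz0 hu q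
    have hq : (L hψ (fun x => m (g * x * g⁻¹)) z).coeff q = (L hψ m z).coeff q := by
      have h := congrArg (fun y : MonoidAlgebra k Q => y.coeff q) (L_central hψ hker hm hz hz0 g)
      rw [ψ_sec] at h
      rw [← h, BrandtBlock42.coeff_mul_single', BrandtBlock42.coeff_single_mul']
      simp
    rw [hq] at h3
    have e : g * (g * u * g⁻¹) * g⁻¹ = g * g * u * (g * g)⁻¹ := by group
    rw [e] at h3
    have h4 : (L hψ l z).coeff q * (m (g * g * u * (g * g)⁻¹) - m u) = 0 := by
      have h5 : (2 : k) * ((L hψ l z).coeff q * (m (g * u * g⁻¹) - m u)) = 0 := by rw [h2, zero_mul]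
      linear_combination h3 - h1 + h5
    exact sub_eq_zero.1 ((mul_eq_zero.1 h4).resolve_left hne)
  · refine Or.inl fun m hm u hu => ?_
    have h1 := second_order hψ hker hl hl hab hz hz0 hu q
    rw [← two_mul, mul_eq_zero, mul_eq_zero] at h1
    have hδ := (h1.resolve_left h2).resolve_left hne
    have h3 := second_order hψ hker hl hm hab hz hz0 hu q
    rw [hδ, mul_zero, add_zero] at h3
    exact sub_eq_zero.1 ((mul_eq_zero.1 h3).resolve_left hne)

/-- The kernel of the map of group algebras is nilpotent. -/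
theorem isNilpotent_ker {p : ℕ} [Fact p.Prime] [CharP k p] (hψ : Function.Surjective ψ)
    (hV : IsPGroup p V) (hab : ∀ u ∈ V, ∀ v ∈ V, u * v = v * u) :
    IsNilpotent (RingHom.ker (πA (k := k) ψ).toRingHom) := by
  letI : CommGroup V := { (inferInstance : Group V) with
    mul_comm := fun a b => Subtype.ext (hab a a.2 b b.2) }
  let ι : MonoidAlgebra k V →ₐ[k] MonoidAlgebra k X := MonoidAlgebra.mapDomainAlgHom k k V.subtype
  have hι : ∀ (u : V) (r : k), ι (single u r) = single (u : X) r := fun u r => by
    simp [ι, MonoidAlgebra.mapDomain_single]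
  let gen : V → MonoidAlgebra k V := fun u => single u 1 - 1
  let I : Ideal (MonoidAlgebra k V) := Ideal.span (Set.range gen)
  obtain ⟨N, hN⟩ : IsNilpotent I := by
    rw [Ideal.FG.isNilpotent_iff_le_nilradical ⟨Finset.univ.image gen, by
      rw [Finset.coe_image, Finset.coe_univ, Set.image_univ]⟩, Ideal.span_le]
    rintro _ ⟨u, rfl⟩
    obtain ⟨l, hl⟩ := IsPGroup.iff_orderOf.1 hV u
    haveI : CharP (MonoidAlgebra k V) p :=
      charP_of_injective_algebraMap (FaithfulSMul.algebraMap_injective k (MonoidAlgebra k V)) p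
    refine mem_nilradical.2 ⟨p ^ l, ?_⟩
    rw [sub_pow_char_pow_of_commute p l (Commute.one_right _), one_pow, MonoidAlgebra.single_pow,
      ← hl, pow_orderOf_eq_one, one_pow, ← MonoidAlgebra.one_def, sub_self]
  let cg : X → MonoidAlgebra k V →ₐ[k] MonoidAlgebra k V := fun g =>
    MonoidAlgebra.mapDomainAlgHom k k
      (MonoidHom.mk' (fun u : V => (⟨g * u * g⁻¹, conj_mem hker u.2⟩ : V)) fun a b => Subtype.ext (by
        simp [mul_assoc]))
  have hcg : ∀ g a, single g 1 * ι a = ι (cg g a) * single g 1 := by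
    intro g a
    induction a using MonoidAlgebra.induction_linear with
    | zero => simp
    | add a b ha hb => rw [map_add, mul_add, ha, hb, map_add, map_add, add_mul]
    | single u r =>
      simp [cg, hι, MonoidAlgebra.mapDomain_single, MonoidAlgebra.single_mul_single, mul_assoc]
  have hcI : ∀ g n a, a ∈ I ^ n → cg g a ∈ I ^ n := by
    intro g n a ha
    have h1 : I.map (cg g) ≤ I := by
      rw [Ideal.map_span, Ideal.span_le]
      rintro _ ⟨_, ⟨u, rfl⟩, rfl⟩
      refine Ideal.subset_span ⟨⟨g * u * g⁻¹, conj_mem hker u.2⟩, ?_⟩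
      show single (⟨g * u * g⁻¹, conj_mem hker u.2⟩ : V) 1 - 1 = cg g (single u 1 - 1)
      rw [map_sub, map_one]
      simp [cg, MonoidAlgebra.mapDomain_single]
    refine Ideal.pow_right_mono h1 n ?_
    rw [← Ideal.map_pow]
    exact Ideal.mem_map_of_mem _ ha
  let K : ℕ → Submodule k (MonoidAlgebra k X) := fun n =>
    Submodule.span k {x | ∃ a ∈ I ^ n, ∃ g : X, x = ι a * single g 1}
  have hK1 : ∀ {z}, πA (k := k) ψ z = 0 → z ∈ K 1 := by
    intro z hz
    have hz' : (∑ g, z.coeff g • single (sec hψ (ψ g)) (1 : k)) = 0 := by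
      have h := W_comp (k := k) ψ (sec hψ) (fun _ => 1) z
      rw [hz, map_zero] at h
      exact h
    have e : z = ∑ g, z.coeff g • (ι (gen ⟨_, dev_mem hψ hker g⟩) * single (sec hψ (ψ g)) 1) := by
      calc z = ∑ g, z.coeff g • single g (1 : k) - ∑ g, z.coeff g • single (sec hψ (ψ g)) (1 : k) := by
            rw [hz', sub_zero]
            conv_lhs => rw [BrandtBlock42.eq_sum_single' z]
            simp [MonoidAlgebra.smul_single']
        _ = _ := by
            rw [← Finset.sum_sub_distrib]
            refine Finset.sum_congr rfl fun g _ => ?_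
            rw [map_sub, map_one, hι, sub_mul, one_mul, MonoidAlgebra.single_mul_single, smul_sub]
            simp
    rw [e]
    refine Submodule.sum_mem _ fun g _ => Submodule.smul_mem _ _ (Submodule.subset_span ?_)
    exact ⟨_, by rw [pow_one]; exact Ideal.subset_span ⟨_, rfl⟩, _, rfl⟩
  have hKm : ∀ n x, x ∈ K n → ∀ y, y ∈ K 1 → x * y ∈ K (n + 1) := by
    intro n x hx y hy
    induction hx using Submodule.span_induction with
    | zero => simp
    | add a b _ _ ha hb => rw [add_mul]; exact add_mem ha hb
    | smul c a _ ha => rw [smul_mul_assoc]; exact Submodule.smul_mem _ _ ha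
    | mem x hx =>
      obtain ⟨a, ha, g, rfl⟩ := hx
      induction hy using Submodule.span_induction with
      | zero => simp
      | add a b _ _ ha hb => rw [mul_add]; exact add_mem ha hb
      | smul c a _ ha => rw [mul_smul_comm]; exact Submodule.smul_mem _ _ ha
      | mem y hy =>
        obtain ⟨b, hb, h, rfl⟩ := hy
        refine Submodule.subset_span ⟨a * cg g b, ?_, g * h, ?_⟩
        · rw [pow_succ]
          exact Ideal.mul_mem_mul ha (by simpa using hcI g 1 b hb)
        · rw [mul_assoc, ← mul_assoc (single g (1 : k)), hcg, map_mul, mul_assoc, mul_assoc,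
            MonoidAlgebra.single_mul_single, one_mul]
  have hpow : ∀ n x, x ∈ (RingHom.ker (πA (k := k) ψ).toRingHom) ^ (n + 1) → x ∈ K (n + 1) := by
    intro n
    induction n with
    | zero => intro x hx; rw [zero_add, Submodule.pow_one] at hx; exact hK1 (RingHom.mem_ker.1 hx)
    | succ n ih =>
      intro x hx
      rw [Submodule.pow_succ] at hx
      refine Submodule.mul_induction_on hx (fun a ha b hb => ?_) fun a b ha hb => add_mem ha hb
      exact hKm _ _ (ih a ha) _ (hK1 (RingHom.mem_ker.1 hb))
  refine ⟨N + 1, ?_⟩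
  refine (Submodule.eq_bot_iff _).2 fun x hx => ?_
  have h0 : K (N + 1) = ⊥ := by
    refine Submodule.span_eq_bot.2 ?_
    rintro _ ⟨a, ha, g, rfl⟩
    rw [pow_succ, hN] at ha
    have : a = 0 := by simpa using ha
    simp [this]
  have h1 := hpow N x hx
  rw [h0] at h1
  exact (Submodule.mem_bot k).1 h1

/-- The main step: the stabiliser of the idempotent below fixes the additive functionals. -/
theorem fix_of_stab {p : ℕ} [Fact p.Prime] [CharP k p] (hψ : Function.Surjective ψ)
    (hV : IsPGroup p V) (hab : ∀ u ∈ V, ∀ v ∈ V, u * v = v * u)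
    {e : MonoidAlgebra k X} (hec : ∀ a, a * e = e * a) (he : e * e = e) {d : ℕ} (hd : 0 < d)
    (ε : Fin d → Fin d → MonoidAlgebra k Q)
    (hεm : ∀ i j a b, ε i j * ε a b = if j = a then ε i b else 0)
    (hεs : ∑ i, ε i i = πA ψ e) {m : ℕ}
    (hdim : Module.finrank k (LinearMap.range (LinearMap.mulLeft k e)) ≤ d * d * m)
    (hcen : m ≤ Module.finrank k (EqualDeg80Alg.cenBelow k e))
    (H : Subgroup Q) (hHfix : ∀ g, ψ g ∈ H → Fix k V g)
    (et : MonoidAlgebra k Q) (het0 : et ≠ 0) (het : et * et = et) (hete : et * πA ψ e = et)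
    (hsupp : ∀ q, q ∉ H → et.coeff q = 0)
    (hHc : ∀ q ∈ H, single q 1 * et = et * single q 1)
    (hdich : ∀ q, single q 1 * et = et * single q 1 ∨ et * (single q 1 * et) = 0)
    (hscal : ∀ ζ : MonoidAlgebra k Q, (∀ q, q ∉ H → ζ.coeff q = 0) →
      (∀ q ∈ H, single q 1 * ζ = ζ * single q 1) → ∃ s : k, ζ * et = s • et)
    (hH : ∀ g : X, single (ψ g) 1 * et = et * single (ψ g) 1 →
      (Fix k V g ∨ ((2 : k) = 0 ∧ Fix k V (g * g))) → ψ g ∈ H)
    (g : X) (hg : single (ψ g) 1 * et = et * single (ψ g) 1) : Fix k V g := by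
  haveI : NeZero d := ⟨hd.ne'⟩
  intro l hl u hu
  set l' : X → k := fun x => l (g * x * g⁻¹)
  have hl' : AddOn V l' := addOn_comp hker hl g
  -- elements supported on `H` commuting with its elements commute with `et`
  have hcomm : ∀ y : MonoidAlgebra k Q, (∀ q ∈ H, single q 1 * y = y * single q 1) →
      et * y = y * et := by
    intro y hy
    rw [BrandtBlock42.eq_sum_single' et, Finset.sum_mul, Finset.mul_sum]
    refine Finset.sum_congr rfl fun q _ => ?_
    by_cases hq : q ∈ H
    · rw [show single q (et.coeff q) = et.coeff q • single q (1 : k) by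
        rw [MonoidAlgebra.smul_single', mul_one], smul_mul_assoc, mul_smul_comm, hy q hq]
    · simp [hsupp q hq]
  -- scalar action of the first order terms
  have key : ∀ f : X → k, AddOn V f → ∀ z, (∀ a, a * z = z * a) → πA ψ z = 0 →
      ∃ s : k, et * L hψ f z = s • et := by
    intro f hf z hz hz0
    set y := L hψ f z
    have hyH : ∀ q ∈ H, single q 1 * y = y * single q 1 := by
      intro q hq
      have h := L_central hψ hker hf hz hz0 (sec hψ q)
      have hfx : L hψ (fun x => f (sec hψ q * x * (sec hψ q)⁻¹)) z = y := by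
        refine congrArg (fun F => W ψ F z) (funext fun x => ?_)
        exact hHfix _ (by rw [ψ_sec]; exact hq) f hf _ (dev_mem hψ hker x)
      rw [hfx, ψ_sec] at h
      conv_rhs => rw [show y = single q 1 * y * single q⁻¹ (1 : k) from h.symm]
      rw [mul_assoc _ (single q⁻¹ (1 : k)), MonoidAlgebra.single_mul_single, inv_mul_cancel, one_mul,
        ← MonoidAlgebra.one_def, mul_one]
    set ζ := W (fun x => x) (fun q => if q ∈ H then (1 : k) else 0) y
    have hζs : ∀ q, q ∉ H → ζ.coeff q = 0 := fun q hq => by rw [coeff_W_id, if_neg hq, mul_zero]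
    have hζH : ∀ q ∈ H, single q 1 * ζ = ζ * single q 1 := by
      intro q hq
      ext x
      rw [BrandtBlock42.coeff_single_mul', BrandtBlock42.coeff_mul_single', coeff_W_id, coeff_W_id]
      have h := congrArg (fun w : MonoidAlgebra k Q => w.coeff x) (hyH q hq)
      simp only [BrandtBlock42.coeff_single_mul', BrandtBlock42.coeff_mul_single'] at h
      rw [h]
      congr 1
      exact if_congr (by rw [Subgroup.mul_mem_cancel_left H (inv_mem hq),
        Subgroup.mul_mem_cancel_right H (inv_mem hq)]) rfl rfl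
    obtain ⟨s, hs⟩ := hscal ζ hζs hζH
    refine ⟨s, ?_⟩
    have e1 : et * y * et = et * ζ * et := by
      rw [BrandtBlock42.eq_sum_single' y, BrandtBlock42.eq_sum_single' ζ]
      simp only [Finset.mul_sum, Finset.sum_mul]
      refine Finset.sum_congr rfl fun q _ => ?_
      simp only [ζ, coeff_W_id]
      by_cases hq : q ∈ H
      · rw [if_pos hq, mul_one]
      · rw [if_neg hq, mul_zero, MonoidAlgebra.single_zero, mul_zero, zero_mul]
        rcases hdich q with hst | h0
        · by_cases hc : y.coeff q = 0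
          · simp [hc]
          · exfalso
            refine hq ?_
            have := hH (sec hψ q) (by rw [ψ_sec]; exact hst)
              (fix_or_of_coeff hψ hker hab hf hz hz0 hc)
            rwa [ψ_sec] at this
        · rw [show single q (y.coeff q) = y.coeff q • single q (1 : k) by
            rw [MonoidAlgebra.smul_single', mul_one], mul_smul_comm, smul_mul_assoc, mul_assoc, h0,
            smul_zero]
    calc et * y = et * y * et := by
          rw [mul_assoc, ← hcomm y hyH, ← mul_assoc, het]
      _ = et * ζ * et := e1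
      _ = s • et := by rw [mul_assoc, hs, mul_smul_comm, het]
  -- invariance
  have hν : ∀ z, (∀ a, a * z = z * a) → πA ψ z = 0 →
      et * L hψ (fun x => l' x - l x) z = 0 := by
    intro z hz hz0
    obtain ⟨s, hs⟩ := key l' hl' z hz hz0
    have h1 : et * L hψ l z = s • et := by
      have hg' : single (ψ g) (1 : k) * et * single (ψ g)⁻¹ 1 = et := by
        rw [hg, mul_assoc, MonoidAlgebra.single_mul_single, mul_inv_cancel, one_mul,
          ← MonoidAlgebra.one_def, mul_one]
      rw [← L_central hψ hker hl hz hz0 g, ← mul_assoc, ← mul_assoc, ← hg,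
        mul_assoc (single (ψ g) (1 : k)) et, hs, mul_smul_comm, smul_mul_assoc, hg']
    rw [show L hψ (fun x => l' x - l x) z = L hψ l' z - L hψ l z from W_sub ψ _ _ z, mul_sub, hs, h1,
      sub_self]
  -- the generation of the kernel
  set x := e * (single u (1 : k) - 1)
  have hx : e * x = x := by rw [← mul_assoc, he]
  obtain ⟨z, a, hz, hxz, hz0, -⟩ := EqualDeg80Alg.exists_central (πA ψ)
    (isNilpotent_ker hker hψ hV hab) hec he ε
    (fun i j => ⟨∑ q, single (sec hψ q) ((ε i j).coeff q), by
      rw [map_sum]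
      simp only [πA_single, ψ_sec]
      exact (BrandtBlock42.eq_sum_single' _).symm⟩)
    hεm hεs hdim hcen x hx
  have hx0 : πA ψ (single u (1 : k) - 1) = 0 := by
    rw [map_sub, πA_single, (hker u).2 hu, map_one, ← MonoidAlgebra.one_def, sub_self]
  have hxπ : πA ψ x = 0 := by rw [map_mul, hx0, mul_zero]
  have hadd : AddOn V fun x => l' x - l x := fun a ha b hb => by
    simp only [hl' a ha b hb, hl a ha b hb]; ring
  have hLu : L hψ (fun x => l' x - l x) (single u (1 : k) - 1) = (l' u - l u) • 1 := by
    have hu1 : L hψ (fun x => l' x - l x) (single u (1 : k) - 1) =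
        single 1 (dev hψ (fun x => l' x - l x) u - dev hψ (fun x => l' x - l x) 1) := by
      simp [L, MonoidAlgebra.one_def, W_single, (hker u).2 hu, MonoidAlgebra.single_sub]
    rw [hu1, MonoidAlgebra.one_def, MonoidAlgebra.smul_single', mul_one]
    congr 1
    simp only [dev, (hker u).2 hu, map_one, one_mul]
    have hd := dev_mem hψ hker 1
    rw [map_one, one_mul] at hd
    have h1 := hadd u hu _ hd
    simp only at h1
    rw [h1]
    ring
  have h : et * L hψ (fun x => l' x - l x) x = 0 := by
    rw [hxz, map_sum, Finset.mul_sum]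
    refine Finset.sum_eq_zero fun i _ => ?_
    rw [map_sum, Finset.mul_sum]
    refine Finset.sum_eq_zero fun j _ => ?_
    obtain ⟨hzc, -⟩ := EqualDeg80Alg.mem_cenBelow.1 (hz i j)
    rw [L_mul hψ hker hadd (hz0 hxπ i j), ← mul_assoc, hν _ hzc (hz0 hxπ i j), zero_mul]
  rw [show x = (single u (1 : k) - 1) * e from (hec _).symm, L_mul hψ hker hadd hx0, hLu, smul_mul_assoc,
    one_mul, mul_smul_comm, hete, smul_eq_zero] at h
  exact sub_eq_zero.1 (h.resolve_right het0)

end Cfsg.Agent.EqualDeg80First
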