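import Mathlib
import Cfsg.Agent.Lib.CoprimeAction
import Cfsg.Agent.Lib.EqualDeg80First

/-!
A `p'`-element acting on a `p`-group `D` and fixing every additive functional on `D` centralises `D`.
-/

set_option autoImplicit false

namespace Cfsg.Agent.EqualDeg80Frattini

attribute [local instance] Classical.propDecidable

open Cfsg.Agent.EqualDeg80First

variable {p : ℕ} [Fact p.Prime] {k : Type*} [Field k] [CharP k p]
variable {G X : Type*} [Group G] [Finite G] [Group X]

theorem mem_centralizer_of_fix (D : Subgroup G) [D.Normal] (hD : IsPGroup p D) (f : G →* X)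
    (hf : f.ker ≤ ⁅D, D⁆) {z : G} (hz : ¬ p ∣ orderOf z) (hfix : Fix k (D.map f) (f z)) :
    z ∈ Subgroup.centralizer (D : Set G) := by
  have hzN : Subgroup.zpowers z ≤ Subgroup.normalizer (D : Set G) := by
    rw [Subgroup.normalizer_eq_top]; exact le_top
  -- the functional attached to a maximal subgroup
  have key : ∀ W : Subgroup D, IsCoatom W → ∀ a ∈ Subgroup.zpowers z, ∀ (x : G) (hx : x ∈ D)
      (h : a * x * a⁻¹ * x⁻¹ ∈ D), (⟨_, h⟩ : D) ∈ W := by
    intro W hW
    haveI : Group.IsNilpotent D := hD.isNilpotent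
    haveI hWn : W.Normal := Subgroup.NormalizerCondition.normal_of_coatom W Group.normalizerCondition_of_isNilpotent hW
    haveI : Fact (IsPGroup p (D ⧸ W)) := ⟨hD.to_quotient W⟩
    have hcard : Nat.card (D ⧸ W) = p := by
      obtain ⟨n, hn⟩ := IsPGroup.iff_card.1 (hD.to_quotient W)
      have hne : Nat.card (D ⧸ W) ≠ 1 := by
        rw [← Subgroup.index_eq_card, Ne, Subgroup.index_eq_one]; exact hW.1
      obtain ⟨y, hy⟩ := exists_prime_orderOf_dvd_card' (G := D ⧸ W) p (by
        rw [hn] at hne ⊢
        exact dvd_pow_self p fun h0 => hne (by rw [h0, pow_zero]))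
      have htop : (Subgroup.zpowers y).comap (QuotientGroup.mk' W) = ⊤ := by
        refine hW.2 _ (lt_of_le_of_ne ?_ ?_)
        · intro w hw
          rw [Subgroup.mem_comap, QuotientGroup.mk'_apply, (QuotientGroup.eq_one_iff w).2 hw]
          exact one_mem _
        · intro h
          obtain ⟨w, rfl⟩ := QuotientGroup.mk'_surjective W y
          have : w ∈ W := by rw [h, Subgroup.mem_comap]; exact Subgroup.mem_zpowers _
          rw [QuotientGroup.mk'_apply, (QuotientGroup.eq_one_iff w).2 this, orderOf_one] at hy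
          exact (Fact.out : p.Prime).one_lt.ne hy
      have : Subgroup.zpowers y = ⊤ := Subgroup.comap_injective (QuotientGroup.mk'_surjective W)
        (htop.trans (Subgroup.comap_top _).symm)
      rw [← Subgroup.card_top (G := D ⧸ W), ← this, Nat.card_zpowers, hy]
    haveI : IsCyclic (D ⧸ W) := isCyclic_of_prime_card hcard
    let e : D ⧸ W →* Multiplicative k :=
      (AddMonoidHom.toMultiplicative
        ((ZMod.castHom (dvd_refl p) k).comp (ZMod.ringEquivCongr hcard).toRingHom).toAddMonoidHom).comp
        (zmodCyclicMulEquiv (inferInstance : IsCyclic (D ⧸ W))).symm.toMonoidHom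
    have he : Function.Injective e := by
      intro a b hab
      exact (zmodCyclicMulEquiv (inferInstance : IsCyclic (D ⧸ W))).symm.injective
        (Multiplicative.toAdd.injective ((ZMod.ringEquivCongr hcard).injective
          ((ZMod.castHom_injective k) (Multiplicative.ofAdd.injective hab))))
    let m : D →* Multiplicative k := e.comp (QuotientGroup.mk' W)
    have hcomm : ∀ u : D, (u : G) ∈ ⁅D, D⁆ → m u = 1 := by
      intro u hu
      have : (⁅(⊤ : Subgroup D), ⊤⁆ : Subgroup D) ≤ m.ker := Subgroup.commutator_le.2 fun a _ b _ => by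
        rw [MonoidHom.mem_ker, map_commutatorElement, commutatorElement_eq_one_iff_mul_comm, mul_comm]
      refine this ?_
      rw [← Subgroup.mem_map_iff_mem D.subtype_injective, Subgroup.map_commutator, ← MonoidHom.range_eq_map,
        Subgroup.range_subtype]
      exact hu
    let l : X → k := fun y => if h : ∃ u : D, f u = y then Multiplicative.toAdd (m h.choose) else 0
    have hl : ∀ u : D, l (f u) = Multiplicative.toAdd (m u) := by
      intro u
      have h : ∃ v : D, f v = f u := ⟨u, rfl⟩
      simp only [l, dif_pos h]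
      congr 1
      have h2 : m (h.choose * u⁻¹) = 1 := hcomm _ (hf (by simp [h.choose_spec]))
      rwa [map_mul, map_inv, mul_inv_eq_one] at h2
    have hadd : AddOn (D.map f) l := by
      rintro _ ⟨u, hu, rfl⟩ _ ⟨v, hv, rfl⟩
      have h := hl (⟨u, hu⟩ * ⟨v, hv⟩)
      rw [map_mul m, toAdd_mul, ← hl, ← hl, Subgroup.coe_mul, map_mul f] at h
      exact h
    have hfixn : ∀ n : ℕ, Fix k (D.map f) (f z ^ n) := by
      intro n
      induction n with
      | zero => intro l' _ u _; simp
      | succ n ih =>
        intro l' hl' u hu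
        have hconj : ∀ v ∈ D.map f, f z * v * (f z)⁻¹ ∈ D.map f := by
          rintro _ ⟨v, hv, rfl⟩
          exact ⟨_, (inferInstance : D.Normal).conj_mem v hv z, by simp⟩
        rw [pow_succ, show f z ^ n * f z * u * (f z ^ n * f z)⁻¹ =
          f z ^ n * (f z * u * (f z)⁻¹) * (f z ^ n)⁻¹ by group, ih l' hl' _ (hconj u hu), hfix l' hl' u hu]
    intro a ha x hx h
    obtain ⟨n, rfl⟩ : a ∈ Submonoid.powers z := (mem_powers_iff_mem_zpowers).2 ha
    have hax : z ^ n * x * (z ^ n)⁻¹ ∈ D := (inferInstance : D.Normal).conj_mem x hx _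
    have h1 : m ⟨_, hax⟩ = m ⟨x, hx⟩ := Multiplicative.toAdd.injective (by
      rw [← hl, ← hl, map_mul, map_mul, map_inv, map_pow]
      exact hfixn n l hadd _ ⟨x, hx, rfl⟩)
    have h2 : m ⟨_, h⟩ = 1 := by
      rw [show (⟨_, h⟩ : D) = ⟨_, hax⟩ * (⟨x, hx⟩ : D)⁻¹ from rfl, map_mul, map_inv, h1, mul_inv_cancel]
    exact (QuotientGroup.eq_one_iff _).1 (he (h2.trans (map_one e).symm))
  refine Subgroup.zpowers_le.1 (CoprimeAction.le_centralizer_of_frattini hzN ?_ ?_)
  · rw [Nat.card_zpowers]
    obtain ⟨n, hn⟩ := IsPGroup.iff_card.1 (hD.to_subgroup (frattini D))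
    rw [hn]
    exact Nat.Coprime.pow_right n (((Fact.out : p.Prime).coprime_iff_not_dvd.2 hz).symm)
  · intro a ha x hx
    have h : a * x * a⁻¹ * x⁻¹ ∈ D :=
      mul_mem ((inferInstance : D.Normal).conj_mem x hx a) (inv_mem hx)
    refine ⟨⟨_, h⟩, ?_, rfl⟩
    rw [SetLike.mem_coe, frattini, Order.radical]
    simp only [Subgroup.mem_iInf]
    exact fun W hW => key W hW a ha x hx h

end Cfsg.Agent.EqualDeg80Frattini
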