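import Cfsg.Agent.Lib.BrauerPairs81Nilpotent
import Cfsg.Agent.Lib.BrauerPairs81Stab

/-!
Brauer pairs of a block with normal defect group: the stabiliser of a pair below the maximal pair
`(D, e)` is the stabiliser of `(D, e)` times the centraliser.
-/

set_option autoImplicit false
set_option linter.unusedSectionVars false

namespace Cfsg.Agent.EqualDeg80Pairs

open Cfsg Cfsg.Agent.BlockTheoryLocalRing Cfsg.Agent.BlockTheoryCentre
open Cfsg.Agent.BlockTheoryIdem Cfsg.Agent.BlockTheoryBrauer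
open Cfsg.Agent.BrauerPairs81Base Cfsg.Agent.BrauerPairs81Pairs Cfsg.Agent.BrauerPairs81Conj
open Cfsg.Agent.BrauerPairs81Local Cfsg.Agent.BrauerPairs81Fusion Cfsg.Agent.BrauerPairs81Stab

attribute [local instance] Classical.propDecidable

variable {p : ℕ} [Fact p.Prime] {M : Ideal AlgInt} {G : Type*} [Group G] [Fintype G]

theorem cjA_zero (g : G) : cjA g (0 : MonoidAlgebra ℂ G) = 0 := MonoidAlgebra.ext (Finsupp.ext fun x => by simp [coeff_cjA])

theorem cjA_mul' (g : G) (z w : MonoidAlgebra ℂ G) : cjA g (z * w) = cjA g z * cjA g w := by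
  refine MonoidAlgebra.ext (Finsupp.ext fun x => ?_)
  rw [coeff_cjA, coeff_mul_eq, coeff_mul_eq]
  refine Fintype.sum_equiv (MulAut.conj g).toEquiv _ _ fun y => ?_
  simp only [MulEquiv.toEquiv_eq_coe, MulEquiv.coe_toEquiv, MulAut.conj_apply, coeff_cjA]
  congr 2 <;> group

theorem cjA_sum {ι : Type*} (g : G) (s : Finset ι) (f : ι → MonoidAlgebra ℂ G) :
    cjA g (∑ i ∈ s, f i) = ∑ i ∈ s, cjA g (f i) :=
  MonoidAlgebra.ext (Finsupp.ext fun x => by
    simp [coeff_cjA, MonoidAlgebra.coeff_sum, Finsupp.finsetSum_apply])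

theorem cjA_injective (g : G) : Function.Injective (cjA g : MonoidAlgebra ℂ G → _) := fun z w h => by
  rw [← cjA_one z, ← cjA_one w, ← inv_mul_cancel g, cjA_mul, cjA_mul, h]

variable {D : Subgroup G} [hDn : D.Normal] {e : Set (IrrCharacter (Cen D))}

theorem cen_conj_iff (g : G) : ∀ x, x ∈ Cen D ↔ g * x * g⁻¹ ∈ Cen D :=
  conj_mem_iff_of_normalizer (normalizer_le_normalizer_cen (by rw [Subgroup.normalizer_eq_top]; trivial))

/-- The orbit of the block idempotent under `C(R)`. -/
noncomputable def orb (e : Set (IrrCharacter (Cen D))) (R : Subgroup G) :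
    Finset (MonoidAlgebra ℂ G) :=
  (Finset.univ.filter fun c : G => c ∈ Cen R).image fun c => cjA c (eb (Cen D) e)

/-- The orbit sum. -/
noncomputable def O (e : Set (IrrCharacter (Cen D))) (R : Subgroup G) : MonoidAlgebra ℂ G :=
  ∑ w ∈ orb e R, w

theorem exists_block_of_mem (he : IsPBlock M e) {R : Subgroup G} {w : MonoidAlgebra ℂ G}
    (hw : w ∈ orb e R) : ∃ f : Set (IrrCharacter (Cen D)), IsPBlock M f ∧ w = eb (Cen D) f := by
  simp only [orb, Finset.mem_image] at hw
  obtain ⟨c, -, rfl⟩ := hw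
  exact ⟨_, isPBlock_push _ he, cjA_eb (cen_conj_iff c) e⟩

theorem mul_orb (hM : IsPModular p M) (he : IsPBlock M e) {R R' : Subgroup G}
    {w w' : MonoidAlgebra ℂ G} (hw : w ∈ orb e R) (hw' : w' ∈ orb e R') :
    w * w' = if w = w' then w else 0 := by
  obtain ⟨f, hf, rfl⟩ := exists_block_of_mem he hw
  obtain ⟨f', hf', rfl⟩ := exists_block_of_mem he hw'
  split_ifs with h
  · rw [← h, eb_sq]
  · exact eb_mul_of_ne hM hf hf' fun hh => h (by rw [hh])

theorem orb_mul_O (hM : IsPModular p M) (he : IsPBlock M e) {R R' : Subgroup G}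
    (hsub : orb e R' ⊆ orb e R) : O e R * O e R' = O e R' := by
  rw [O, O, Finset.mul_sum]
  refine Finset.sum_congr rfl fun w hw => ?_
  rw [Finset.sum_mul, Finset.sum_eq_single w]
  · rw [mul_orb hM he (hsub hw) hw, if_pos rfl]
  · intro w' hw' hne
    rw [mul_orb hM he hw' hw, if_neg hne]
  · exact fun h => absurd (hsub hw) h

theorem orb_mono {R R' : Subgroup G} (h : R ≤ R') : orb e R' ⊆ orb e R :=
  Finset.image_subset_image fun c hc => by
    simp only [Finset.mem_filter, Finset.mem_univ, true_and] at hc ⊢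
    exact centralizer_le h hc

theorem O_supported (he : IsPBlock M e) {R : Subgroup G} {x : G} (hx : x ∉ Cen D) :
    (O e R).coeff x = 0 := by
  rw [O, MonoidAlgebra.coeff_sum, Finsupp.finsetSum_apply]
  refine Finset.sum_eq_zero fun w hw => ?_
  obtain ⟨f, -, rfl⟩ := exists_block_of_mem he hw
  exact coeff_eb_of_notMem _ f hx

theorem O_isInt (hM : IsPModular p M) (he : IsPBlock M e) (R : Subgroup G) : IsInt M (O e R) := by
  intro x
  rw [O, MonoidAlgebra.coeff_sum, Finsupp.finsetSum_apply]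
  refine (localRing hM).sum_mem fun w hw => ?_
  obtain ⟨f, hf, rfl⟩ := exists_block_of_mem he hw
  exact isInt_eb hM hf x

theorem cjA_O {R : Subgroup G} {u : G} (hu : u ∈ Subgroup.normalizer (R : Set G))
    (hfix : cjA u (eb (Cen D) e) = eb (Cen D) e ∨ u ∈ Cen R) : cjA u (O e R) = O e R := by
  rw [O, cjA_sum]
  refine (Finset.sum_image (g := cjA u) (f := fun w => w) fun a _ b _ h => cjA_injective u h).symm.trans ?_
  refine Finset.sum_congr (Finset.eq_of_subset_of_card_le ?_ ?_) fun _ _ => rfl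
  · intro w hw
    simp only [orb, Finset.mem_image, Finset.mem_filter, Finset.mem_univ, true_and] at hw ⊢
    obtain ⟨_, ⟨c, hc, rfl⟩, rfl⟩ := hw
    rcases hfix with hfix | hcen
    · refine ⟨u * c * u⁻¹, (conj_mem_iff_of_normalizer (normalizer_le_normalizer_cen hu) c).1 hc, ?_⟩
      conv_lhs => rw [← hfix]
      rw [← cjA_mul, ← cjA_mul]
      congr 1
      group
    · exact ⟨u * c, mul_mem hcen hc, cjA_mul _ _ _⟩
  · rw [Finset.card_image_of_injective _ (cjA_injective u)]

theorem O_invBy_cen (R : Subgroup G) : InvBy (Cen R) (O e R) :=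
  invBy_iff.2 fun _ hu => cjA_O (Subgroup.centralizer_le_normalizer _ hu) (Or.inr hu)

theorem res_O_sq (hM : IsPModular p M) (he : IsPBlock M e) {R : Subgroup G} (hR : R ≤ D) :
    res (Cen R) (O e R) * res (Cen R) (O e R) = res (Cen R) (O e R) := by
  rw [← res_mul_of_supported _ (fun x hx => O_supported he fun h => hx (centralizer_le hR h)),
    orb_mul_O hM he subset_rfl]

theorem incl_res_O (he : IsPBlock M e) {R : Subgroup G} (hR : R ≤ D) :
    incl (Cen R) (res (Cen R) (O e R)) = O e R := by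
  refine MonoidAlgebra.ext (Finsupp.ext fun x => ?_)
  by_cases hx : x ∈ Cen R
  · rw [show x = ((⟨x, hx⟩ : Cen R) : G) from rfl, coeff_incl_coe, coeff_res]
  · rw [coeff_incl_of_notMem _ _ hx, O_supported he fun h => hx (centralizer_le hR h)]

theorem O_top (he : IsPBlock M e) : O e D = eb (Cen D) e := by
  have h : orb e D = {eb (Cen D) e} := by
    refine Finset.eq_singleton_iff_unique_mem.2 ⟨Finset.mem_image.2 ⟨1, by simp, cjA_one _⟩, ?_⟩
    intro w hw
    simp only [orb, Finset.mem_image, Finset.mem_filter, Finset.mem_univ, true_and] at hw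
    obtain ⟨c, hc, rfl⟩ := hw
    exact invBy_iff.1 (invBy_eb_self _ e) c hc
  rw [O, h, Finset.sum_singleton]

/-- A pair below `(D, e)` absorbs the orbit sum. -/
theorem eb_mul_O (hM : IsPModular p M) (he : IsPBlock M e) {a : BrauerPairIdx G}
    (ha : PLE p M a ⟨D, e⟩) : eb (Cen a.1) a.2 * O e a.1 = eb (Cen a.1) a.2 := by
  change Relation.ReflTransGen (NormalSubpairRel p M) a ⟨D, e⟩ at ha
  induction ha using Relation.ReflTransGen.head_induction_on with
  | refl => rw [O_top he, eb_sq]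
  | @head a b hab hbc ih =>
    obtain ⟨Q, f⟩ := a
    obtain ⟨R, g⟩ := b
    obtain ⟨hQf, hRg, hQR, hRN, hinv, hocc⟩ := isNormalSubpair_iff.1 hab
    have hRD : R ≤ D := subgroup_le_of_subpairLE hbc
    have hQD : Q ≤ D := hQR.trans hRD
    simp only at ih ⊢
    set r := res (Cen Q) (O e Q) with hr
    have hrc : IsCen r := isCen_res_of_invBy (O_invBy_cen Q)
    obtain ⟨A, hA⟩ := exists_idem_eq hrc (res_O_sq hM he hQD)
    have hri : IsInt M (idem A) := hA ▸ isInt_res _ (O_isInt hM he Q)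
    have hprod : eb (Cen Q) f * O e Q = incl (Cen Q) (idem (f ∩ A)) := by
      rw [← idem_mul_idem, map_mul, ← eb_eq_incl, hA, incl_res_O he hQD]
    rcases em (∀ ξ ∈ f, ξ ∈ A) with hfA | hfA
    · rw [hprod, Set.inter_eq_left.2 hfA, eb_eq_incl]
    · exfalso
      push Not at hfA
      obtain ⟨ξ, hξf, hξA⟩ := hfA
      have h0 : f ∩ A = ∅ := by
        refine Set.eq_empty_iff_forall_notMem.2 fun η hη => ?_
        have h := omega_sub_mem hM (sameBlock_of_mem hM hQf.2 hη.1 hξf) (isCen_idem A) hri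
        rw [omega_idem, omega_idem, if_pos hη.2, if_neg hξA, sub_zero] at h
        exact one_not_ideal hM h
      rw [h0, idem_empty, map_zero] at hprod
      obtain ⟨η, hη⟩ := block_nonempty hM hRg.2
      have hOR : InvBy R (O e Q) := invBy_iff.2 fun u hu =>
        cjA_O (hRN hu) (Or.inl (invBy_iff.1 (invBy_eb_cen D e) u (hRD hu)))
      have hCC : Cen R ≤ Cen Q := centralizer_le hQR
      have hphi1 : phi R (O e Q) η = 1 := by
        have hsupp : ∀ S : Subgroup G, ∀ x ∉ Cen R, (O e S).coeff x = 0 := fun S x hx =>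
          O_supported he fun h => hx (centralizer_le hRD h)
        have h1 : phi R (O e R) η = 1 := by
          have h := congrArg (res (Cen R)) ih
          rw [res_mul_of_supported _ (fun x hx => coeff_eb_of_notMem _ g hx), res_eb] at h
          have h' := congrArg (omega (η : Cen R → ℂ)) h
          rwa [omega_mul η (isCen_idem g), omega_idem, if_pos hη, one_mul] at h'
        have h := congrArg (fun w => omega (η : Cen R → ℂ) (res (Cen R) w))
          (orb_mul_O hM he (orb_mono (e := e) hQR))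
        simp only at h
        rw [res_mul_of_supported _ (hsupp Q),
          omega_mul η (isCen_res_of_invBy (invBy_mono hCC (O_invBy_cen Q)))] at h
        unfold phi at h1 ⊢
        rwa [h1, mul_one] at h
      refine not_both hM hRg.1 hinv hOR (invBy_mono hCC (invBy_eb_self _ f))
        (invBy_mono hCC (O_invBy_cen Q)) (isInt_eb hM hQf.2) (O_isInt hM he Q) hprod η (hocc η hη) ?_
      rw [hphi1, sub_self]
      exact ideal_zero hM

/-- Stabilisers below a maximal pair on a normal subgroup. -/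
theorem stab_le_of_normal (hM : IsPModular p M) (he : IsPBlock M e) {a : BrauerPairIdx G}
    (ha : PLE p M a ⟨D, e⟩) (haB : IsPBlock M a.2) {x : G} (hx : x ∈ stab a) :
    ∃ y ∈ stab (⟨D, e⟩ : BrauerPairIdx G), ∃ c ∈ Cen a.1, x = y * c := by
  obtain ⟨hxN, hxf⟩ := cP_eq_self_iff.1 (mem_stab.1 hx)
  have h1 := eb_mul_O hM he ha
  have h2 : eb (Cen a.1) a.2 * cjA x (O e a.1) = eb (Cen a.1) a.2 := by
    have := congrArg (cjA x) h1
    rwa [cjA_mul', hxf] at this
  have hne : O e a.1 * cjA x (O e a.1) ≠ 0 := by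
    intro h
    have h3 : eb (Cen a.1) a.2 = 0 := by
      conv_lhs => rw [← h2, ← h1, mul_assoc, h, mul_zero]
    obtain ⟨ξ, hξ⟩ := block_nonempty hM haB
    have h4 := congrArg (fun w => omega (ξ : Cen a.1 → ℂ) (res (Cen a.1) w)) h3
    simp only [res_eb, map_zero, omega_idem, if_pos hξ] at h4
    exact one_ne_zero h4
  obtain ⟨w, hw, w', hw', hww⟩ : ∃ w ∈ orb e a.1, ∃ w' ∈ orb e a.1, w * cjA x w' ≠ 0 := by
    by_contra hcon
    push Not at hcon
    refine hne ?_
    rw [O, cjA_sum, Finset.sum_mul]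
    refine Finset.sum_eq_zero fun w hw => ?_
    rw [Finset.mul_sum]
    exact Finset.sum_eq_zero fun w' hw' => hcon w hw w' hw'
  have heq : w = cjA x w' := by
    obtain ⟨f, hf, rfl⟩ := exists_block_of_mem he hw
    obtain ⟨f', hf', rfl⟩ := exists_block_of_mem he hw'
    rw [cjA_eb (cen_conj_iff x)] at hww ⊢
    by_contra hne'
    exact hww (eb_mul_of_ne hM hf (isPBlock_push _ hf') fun h => hne' (by rw [h]))
  simp only [orb, Finset.mem_image, Finset.mem_filter, Finset.mem_univ, true_and] at hw hw'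
  obtain ⟨c1, hc1, rfl⟩ := hw
  obtain ⟨c2, hc2, rfl⟩ := hw'
  refine ⟨c1⁻¹ * x * c2, ?_, (c1⁻¹ * x * c2)⁻¹ * x, ?_, by group⟩
  · refine mem_stab.2 (cP_eq_self_iff.2 ⟨?_, ?_⟩)
    · rw [Subgroup.normalizer_eq_top]; trivial
    · rw [cjA_mul, cjA_mul, ← heq, ← cjA_mul, inv_mul_cancel, cjA_one]
  · rw [show (c1⁻¹ * x * c2)⁻¹ * x = c2⁻¹ * (x⁻¹ * c1 * x) by group]
    refine mul_mem (inv_mem hc2) ?_
    have h := (conj_mem_iff_of_normalizer (normalizer_le_normalizer_cen (inv_mem hxN)) c1).1 hc1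
    rwa [inv_inv] at h

end Cfsg.Agent.EqualDeg80Pairs
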