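import Cfsg.Agent.Lib.EqualDeg80Red
import Cfsg.Agent.Lib.EqualDeg80Frattini
import Cfsg.Agent.Lib.EqualDeg80Pairs
import Cfsg.Agent.Lib.BlockNormalP81
import Cfsg.Agent.Lib.BlockContribMajor
import Cfsg.Agent.Lib.DegreeDvd

/-!
A block with normal defect group whose height zero characters have one degree is nilpotent.
-/

set_option autoImplicit false
set_option linter.unusedSectionVars false
set_option linter.style.haveILetI false

namespace Cfsg.Agent.EqualDeg80Main

open Cfsg Cfsg.Agent.BlockTheoryLocalRing Cfsg.Agent.BlockTheoryCentre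
open Cfsg.Agent.BlockTheoryIdem Cfsg.Agent.BlockTheoryBrauer
open Cfsg.Agent.BrauerPairs81Base Cfsg.Agent.BrauerPairs81Pairs Cfsg.Agent.BrauerPairs81Conj
open Cfsg.Agent.BrauerPairs81Local Cfsg.Agent.BrauerPairs81Fusion
open Cfsg.Agent.BrauerPairs81Nilpotent Cfsg.Agent.BrauerPairs81Index
open Cfsg.Agent.EqualDeg80First Cfsg.Agent.EqualDeg80Red Cfsg.Agent.EqualDeg80Dims
open scoped ComplexConjugate

attribute [local instance] Classical.propDecidable

variable {p : ℕ} [Fact p.Prime] {M : Ideal AlgInt}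

section Fix

variable {k : Type*} [Field k] {X : Type*} [Group X] {V : Subgroup X} [V.Normal]

theorem fix_mul {a b : X} (ha : Fix k V a) (hb : Fix k V b) : Fix k V (a * b) := fun l hl u hu => by
  rw [show a * b * u * (a * b)⁻¹ = a * (b * u * b⁻¹) * a⁻¹ by group,
    ha l hl _ ((inferInstance : V.Normal).conj_mem u hu b), hb l hl u hu]

theorem fix_pow {a : X} (ha : Fix k V a) : ∀ n : ℕ, Fix k V (a ^ n)
  | 0 => fun l _ u _ => by simp
  | n + 1 => by rw [pow_succ]; exact fix_mul (fix_pow ha n) ha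

theorem fix_zpowers [Finite X] {a b : X} (ha : Fix k V a) (hb : b ∈ Subgroup.zpowers a) :
    Fix k V b := by
  obtain ⟨n, rfl⟩ : b ∈ Submonoid.powers a := mem_powers_iff_mem_zpowers.2 hb
  exact fix_pow ha n

end Fix

/-- Pushing a group algebra element forward does not change the value of an inflated function. -/
theorem chiSum_comp {A B : Type*} [Group A] [Fintype A] [Group B] [Fintype B] (f : A →* B)
    (χ : B → ℂ) (z : MonoidAlgebra ℂ A) :
    chiSum (χ ∘ f) z = chiSum χ (MonoidAlgebra.mapDomainRingHom ℂ f z) := by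
  induction z using MonoidAlgebra.induction_linear with
  | zero => simp
  | add a b ha hb => rw [map_add, map_add, map_add, ha, hb]
  | single g r =>
    rw [MonoidAlgebra.mapDomainRingHom_apply, MonoidAlgebra.mapDomain_single, chiSum_single,
      chiSum_single]
    rfl

variable {G : Type*} [Group G] [Fintype G]

set_option maxHeartbeats 1600000 in
/-- The inertial group of a suitable maximal pair acts as a `p`-group. -/
theorem exists_pair (hM : IsPModular p M) {B : Set (IrrCharacter G)} (hB : IsPBlock M B)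
    {D : Subgroup G} [hDn : D.Normal] (hD : IsDefectGroup p M B D) {d : ℕ}
    (hdeg : ∀ χ : IrrCharacter G, χ ∈ B → blockHeight p B (χ : G → ℂ) = 0 →
      charDegree (χ : G → ℂ) = d) :
    ∃ e : Set (IrrCharacter (Cen D)), IsMaximalBrauerPair p M B D e ∧
      ∀ y ∈ stab (⟨D, e⟩ : BrauerPairIdx G), ∀ z ∈ Subgroup.zpowers y, IsPRegular p z → z ∈ Cen D := by
  have hp : p.Prime := Fact.out
  haveI : M.IsMaximal := hM.2.1
  letI := Ideal.Quotient.field M
  haveI := BrandtBlock42.isAlgClosed_residue hM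
  haveI : CharP (AlgInt ⧸ M) p := by
    refine (CharP.charP_iff_prime_eq_zero hp).2 ?_
    rw [← map_natCast (Ideal.Quotient.mk M)]
    exact Ideal.Quotient.eq_zero_iff_mem.2 hM.2.2
  obtain ⟨π, hπ⟩ := BrandtBlock42.exists_reduction hM
  have hDp : IsPGroup p D := BlockTheoryDefect.isPGroup_of_isDefectGroup hD
  have hDcard : Nat.card D = p ^ blockDefect p B := BlockContribBounds.card_defectGroup hM hB hD
  set N : Subgroup G := ⁅D, D⁆
  haveI : N.Normal := Subgroup.commutator_normal D D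
  have hND : N ≤ D := Subgroup.commutator_le_left D D
  haveI : Fintype (G ⧸ N) := Fintype.ofFinite _
  set f : G →* G ⧸ N := QuotientGroup.mk' N
  have hfs : Function.Surjective f := QuotientGroup.mk'_surjective N
  set V : Subgroup (G ⧸ N) := D.map f
  haveI : V.Normal := Subgroup.Normal.map hDn f hfs
  haveI : Fintype ((G ⧸ N) ⧸ V) := Fintype.ofFinite _
  set ψ : G ⧸ N →* (G ⧸ N) ⧸ V := QuotientGroup.mk' V
  have hψs : Function.Surjective ψ := QuotientGroup.mk'_surjective V
  have hψk : ∀ g, ψ g = 1 ↔ g ∈ V := fun g => QuotientGroup.eq_one_iff g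
  have hmemV : ∀ g, f g ∈ V ↔ g ∈ D := fun g => by
    refine ⟨?_, fun h => ⟨g, h, rfl⟩⟩
    rintro ⟨u, hu, h⟩
    have : u⁻¹ * g ∈ D := hND (QuotientGroup.eq.1 h)
    simpa using mul_mem hu this
  have hψf : ∀ g, ψ (f g) = 1 ↔ g ∈ D := fun g => (hψk _).trans (hmemV g)
  have hVp : IsPGroup p V := hDp.map f
  have hVab : ∀ u ∈ V, ∀ v ∈ V, u * v = v * u := by
    rintro _ ⟨u, hu, rfl⟩ _ ⟨v, hv, rfl⟩
    rw [← commutatorElement_eq_one_iff_mul_comm, ← map_commutatorElement]
    exact (QuotientGroup.eq_one_iff _).2 (Subgroup.commutator_mem_commutator hu hv)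
  have hVidx : V.index = D.index := by
    rw [Subgroup.index_map_eq D hfs (by rw [QuotientGroup.ker_mk']; exact hND)]
  have hQcard : (Nat.card ((G ⧸ N) ⧸ V)).factorization p = BlockContrib.minExp p B := by
    have h1 := BlockContrib.minExp_add_defect hM hB
    rw [← Subgroup.card_mul_index D, Nat.factorization_mul Nat.card_pos.ne' D.index_ne_zero_of_finite,
      Finsupp.add_apply, hDcard, hp.factorization_pow, Finsupp.single_eq_same] at h1
    rw [← Subgroup.index_eq_card, hVidx]
    omega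
  -- the sets of characters
  set S := BlockQuotient78.contained N B
  set S0 := BlockQuotient78.contained V S
  have hSmap : MonoidAlgebra.mapDomainRingHom ℂ f (idem B) = idem S := mapDomain_idem N B
  have hS0map : MonoidAlgebra.mapDomainRingHom ℂ ψ (idem S) = idem S0 := mapDomain_idem V S
  have hBint : IsInt M (idem B) := isInt_idem hM hB
  have hSint : IsInt M (idem S) := hSmap ▸ isInt_mapDomain hM f hBint
  have hS0int : IsInt M (idem S0) := hS0map ▸ isInt_mapDomain hM ψ hSint
  have hSdeg : ∀ χ ∈ S, charDegree (χ : G ⧸ N → ℂ) = d ∧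
      (charDegree (χ : G ⧸ N → ℂ)).factorization p = (Nat.card ((G ⧸ N) ⧸ V)).factorization p := by
    intro χ hχ
    have hinfl : charDegree (BlockQuotient78.infl N χ : G → ℂ) = charDegree (χ : G ⧸ N → ℂ) :=
      CharKernel.charDegree_quotEquiv N χ
    obtain ⟨n, hn0, hn, hdvd⟩ := DegreeDvd.degree_dvd_index_abelian χ.2 V
      fun a b => Subtype.ext (hVab a a.2 b b.2)
    have hn' : charDegree (χ : G ⧸ N → ℂ) = n := by simp [charDegree, hn]
    have hle : (charDegree (χ : G ⧸ N → ℂ)).factorization p ≤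
        (Nat.card ((G ⧸ N) ⧸ V)).factorization p := by
      rw [← Subgroup.index_eq_card, hn']
      exact (Nat.factorization_le_iff_dvd hn0.ne' V.index_ne_zero_of_finite).2 hdvd p
    have hge := BlockContrib.minExp_le (p := p) (show BlockQuotient78.infl N χ ∈ B from hχ)
    rw [hinfl, ← hQcard] at hge
    have heq := le_antisymm hle hge
    refine ⟨?_, heq⟩
    rw [← hinfl]
    refine hdeg _ hχ ?_
    show (charDegree (BlockQuotient78.infl N χ : G → ℂ)).factorization p - BlockContrib.minExp p B = 0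
    rw [hinfl, heq, hQcard, Nat.sub_self]
  have hS0deg : ∀ χ ∈ S0, charDegree (χ : (G ⧸ N) ⧸ V → ℂ) = d ∧
      (charDegree (χ : (G ⧸ N) ⧸ V → ℂ)).factorization p =
        (Nat.card ((G ⧸ N) ⧸ V)).factorization p := by
    intro χ hχ
    have hinfl : charDegree (BlockQuotient78.infl V χ : G ⧸ N → ℂ) =
        charDegree (χ : (G ⧸ N) ⧸ V → ℂ) := CharKernel.charDegree_quotEquiv V χ
    have := hSdeg _ (show BlockQuotient78.infl V χ ∈ S from hχ)
    rwa [hinfl] at this
  obtain ⟨χ0, hχ0⟩ : S0.Nonempty := by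
    obtain ⟨χ, hχ, htriv⟩ := BlockNormalP81.exists_trivial_on hM hB D hDp
    set χ1 := (CharKernel.quotEquiv N).symm ⟨χ, fun n hn => htriv n (hND hn)⟩
    have h1 : BlockQuotient78.infl N χ1 = χ := by simp [BlockQuotient78.infl, χ1]
    have h2 : ∀ v ∈ V, (χ1 : G ⧸ N → ℂ) v = (χ1 : G ⧸ N → ℂ) 1 := by
      rintro _ ⟨u, hu, rfl⟩
      have ha := BlockQuotient78.infl_apply N χ1 u
      have hb := BlockQuotient78.infl_apply N χ1 1
      rw [h1] at ha hb
      rw [map_one] at hb
      rw [← ha, ← hb, htriv u hu]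
    refine ⟨(CharKernel.quotEquiv V).symm ⟨χ1, h2⟩, ?_⟩
    show BlockQuotient78.infl V _ ∈ S
    show BlockQuotient78.infl N (BlockQuotient78.infl V _) ∈ B
    rw [show BlockQuotient78.infl V ((CharKernel.quotEquiv V).symm ⟨χ1, h2⟩) = χ1 by
      simp [BlockQuotient78.infl], h1]
    exact hχ
  have hd0 : 0 < d := (hS0deg χ0 hχ0).1 ▸ ClassAlgebraVal.charDegree_pos χ0
  -- matrix units modulo the radical
  have hsing : ∀ χ ∈ S0, IsInt M (idem ({χ} : Set (IrrCharacter ((G ⧸ N) ⧸ V)))) := fun χ hχ =>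
    isInt_singleton hM χ (hS0deg χ hχ).2
  have hunit : ∀ χ : S0, Nonempty (EqualDeg80Units.Units (AlgInt ⧸ M)
      (eS hM π (hsing χ χ.2)) d) := fun χ => by
    have := EqualDeg80Units.exists_units hM π χ.1 (hsing χ χ.2)
    rwa [(hS0deg χ χ.2).1] at this
  let U := fun χ : S0 => (hunit χ).some
  let ε : Fin d → Fin d → MonoidAlgebra (AlgInt ⧸ M) ((G ⧸ N) ⧸ V) := fun i j => ∑ χ : S0, (U χ).ε i j
  have habsr : ∀ (χ : S0) i j, (U χ).ε i j * eS hM π (hsing χ χ.2) = (U χ).ε i j := fun χ i j => by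
    rw [eS_comm, (U χ).absorb]
  have hεm : ∀ i j a b, ε i j * ε a b = if j = a then ε i b else 0 := by
    intro i j a b
    simp only [ε, Finset.sum_mul, Finset.mul_sum]
    have h : ∀ χ : S0, ∑ χ' : S0, (U χ').ε i j * (U χ).ε a b = (U χ).ε i j * (U χ).ε a b := by
      intro χ
      refine Finset.sum_eq_single χ (fun χ' _ hne => ?_) (by simp)
      rw [← habsr χ', ← (U χ).absorb a b, mul_assoc, ← mul_assoc (eS hM π (hsing χ' χ'.2)),
        eS_mul_eq_zero hM π _ _ (Set.disjoint_singleton.2 fun hh => hne (Subtype.ext hh)), zero_mul,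
        mul_zero]
    simp only [h, (U _).mul]
    split_ifs <;> simp
  have hεs : ∑ i, ε i i = πA ψ (eS hM π hSint) := by
    rw [eS_eq_tok, tok_map hM π ψ hSint hS0int hS0map]
    simp only [ε]
    rw [Finset.sum_comm, Finset.sum_congr rfl fun χ _ => (U χ).sum]
    have hsum : idem S0 = ∑ χ : S0, idem ({(χ : IrrCharacter ((G ⧸ N) ⧸ V))} : Set _) := by
      refine ext_omega (isCen_idem _)
        (Finset.sum_induction _ _ (fun _ _ => IsCen.add) isCen_zero fun _ _ => isCen_idem _) fun η => ?_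
      simp only [map_sum, omega_idem, Set.mem_singleton_iff]
      by_cases hη : η ∈ S0
      · rw [if_pos hη, Finset.sum_eq_single (⟨η, hη⟩ : S0)]
        · simp
        · exact fun b _ hb => if_neg fun hh => hb (Subtype.ext hh.symm)
        · simp
      · rw [if_neg hη, Finset.sum_eq_zero]
        exact fun b _ => if_neg fun (hh : η = b.1) => hη (by rw [hh]; exact b.2)
    have hsint : IsInt M (∑ χ : S0, idem ({(χ : IrrCharacter ((G ⧸ N) ⧸ V))} : Set _)) :=
      fun x => by rw [← hsum]; exact hS0int x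
    rw [tok_congr hM π hS0int hsint hsum]
    exact (tok_sum hM π Finset.univ _ (fun χ : S0 => hsing χ χ.2) hsint).symm
  have hdim : Module.finrank (AlgInt ⧸ M)
      (LinearMap.range (LinearMap.mulLeft (AlgInt ⧸ M) (eS hM π hSint))) ≤ d * d * S.toFinset.card := by
    rw [finrank_range hM hSint π, Finset.sum_congr rfl fun (χ : IrrCharacter (G ⧸ N)) hχ =>
      show charDegree (χ : G ⧸ N → ℂ) ^ 2 = d * d by
        rw [(hSdeg χ (Set.mem_toFinset.1 hχ)).1, sq], Finset.sum_const, smul_eq_mul, mul_comm]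
  have hcen := le_finrank_cen hM hSint π
  -- the image of the centraliser
  set H : Subgroup ((G ⧸ N) ⧸ V) := (Cen D).map (ψ.comp f)
  haveI hCn : (Cen D).Normal := ⟨fun c hc g => (EqualDeg80Pairs.cen_conj_iff g c).1 hc⟩
  haveI : H.Normal := Subgroup.Normal.map hCn _ (hψs.comp hfs)
  have hHfix : ∀ g, ψ g ∈ H → Fix (AlgInt ⧸ M) V g := by
    rintro g ⟨c, hc, hcg⟩
    rw [MonoidHom.comp_apply] at hcg
    have hv : (f c)⁻¹ * g ∈ V := (hψk _).1 (by rw [map_mul, map_inv, hcg, inv_mul_cancel])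
    have h1 : Fix (AlgInt ⧸ M) V (f c) := by
      rintro l hl _ ⟨u, hu, rfl⟩
      rw [← map_inv, ← map_mul, ← map_mul,
        show c * u * c⁻¹ = u by rw [← Subgroup.mem_centralizer_iff.1 hc u hu, mul_inv_cancel_right]]
    have h2 : Fix (AlgInt ⧸ M) V ((f c)⁻¹ * g) := fun l hl u hu => by
      rw [hVab _ hv u hu, mul_inv_cancel_right]
    rw [show g = f c * ((f c)⁻¹ * g) by group]
    exact fix_mul h1 h2
  have hS0supp : ∀ x ∉ H, (idem S0).coeff x = 0 := by
    intro x hx
    rw [← hS0map, ← hSmap, eq_sum_single (idem B), map_sum, map_sum, MonoidAlgebra.coeff_sum,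
      Finsupp.finsetSum_apply]
    refine Finset.sum_eq_zero fun g _ => ?_
    by_cases hg : g ∈ Cen D
    · simp only [MonoidAlgebra.mapDomainRingHom_apply, MonoidAlgebra.mapDomain_single,
        MonoidAlgebra.coeff_single]
      rw [Finsupp.single_eq_of_ne]
      intro hh
      exact hx ⟨g, hg, hh.symm⟩
    · rw [coeff_idem, BlockNormalP81.blockCoeff_eq_zero hM D hDp hB hg]; simp
  obtain ⟨θ, hθc, hθfull⟩ := exists_full_constituent H χ0 (hS0deg χ0 hχ0).2
  obtain ⟨habsθ, hωθ⟩ := eb_singleton_mul H hS0supp hχ0 hθc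
  have hθint : IsInt M (idem ({θ} : Set (IrrCharacter H))) := isInt_singleton hM θ hθfull
  have hebint : IsInt M (eb H {θ}) := by rw [eb_eq_incl]; exact isInt_incl H hM hθint
  have hconjH : ∀ q, ∀ x, x ∈ H ↔ q * x * q⁻¹ ∈ H := fun q =>
    conj_mem_iff_of_normalizer (by rw [Subgroup.normalizer_eq_top]; trivial)
  set et := tok hM π hebint
  have het0 : et ≠ 0 := by
    intro h
    have hs := tok_eq_zero_small hM π hπ hebint h
    have h1 := omega_ideal_of_small hM θ (isCen_idem {θ}) fun x => by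
      have := hs (x : (G ⧸ N) ⧸ V)
      rwa [coeff_eb_coe] at this
    rw [omega_idem, if_pos (Set.mem_singleton θ)] at h1
    exact one_not_ideal hM h1
  have het : et * et = et := by
    rw [tok_mul]; exact tok_congr hM π _ _ (eb_sq H _)
  have hete : et * πA ψ (eS hM π hSint) = et := by
    rw [eS_eq_tok, tok_map hM π ψ hSint hS0int hS0map, tok_mul]
    exact tok_congr hM π _ _ habsθ
  have hsupp : ∀ q, q ∉ H → et.coeff q = 0 := fun q hq => by
    rw [coeff_tok, show (⟨_, hebint q⟩ : localRing hM) = 0 from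
      Subtype.ext (coeff_eb_of_notMem H _ hq), map_zero]
  have hcjeb : ∀ q, IsInt M (cjA q (eb H {θ})) := fun q => isInt_cjA q hebint
  have hstab : ∀ q, cjA q (eb H {θ}) = eb H {θ} →
      MonoidAlgebra.single q 1 * et = et * MonoidAlgebra.single q 1 := fun q h => by
    rw [single_mul_tok hM π q hebint (hcjeb q)]
    exact congrArg (· * _) (tok_congr hM π _ _ h)
  have hdich' : ∀ q, cjA q (eb H {θ}) = eb H {θ} ∨
      et * (MonoidAlgebra.single q 1 * et) = 0 := by
    intro q
    have e1 := cjA_eb (hconjH q) ({θ} : Set (IrrCharacter H))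
    simp only [pushSet, Set.image_singleton] at e1
    by_cases h : pushChar (conjEquiv q H H (hconjH q)) θ = θ
    · exact Or.inl (by rw [e1, h])
    · refine Or.inr ?_
      have h0 : eb H {θ} * cjA q (eb H {θ}) = 0 := by
        rw [e1, eb_mul, idem_mul_idem, Set.singleton_inter_eq_empty.2 (by simpa using Ne.symm h),
          idem_empty, map_zero]
      rw [single_mul_tok hM π q hebint (hcjeb q), ← mul_assoc, tok_mul,
        tok_congr hM π _ (show IsInt M (0 : MonoidAlgebra ℂ ((G ⧸ N) ⧸ V)) from h0 ▸ IsInt.mul hM hebint (hcjeb q)) h0,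
        tok_zero, zero_mul]
  have hstab' : ∀ q, MonoidAlgebra.single q 1 * et = et * MonoidAlgebra.single q 1 →
      cjA q (eb H {θ}) = eb H {θ} := by
    intro q hq
    refine (hdich' q).resolve_right fun h => het0 ?_
    rw [hq, ← mul_assoc, het] at h
    calc et = et * (MonoidAlgebra.single q 1 * MonoidAlgebra.single q⁻¹ 1) := by
          rw [MonoidAlgebra.single_mul_single, mul_inv_cancel, one_mul, ← MonoidAlgebra.one_def, mul_one]
      _ = 0 := by rw [← mul_assoc, h, zero_mul]
  have hHc : ∀ q ∈ H, MonoidAlgebra.single q 1 * et = et * MonoidAlgebra.single q 1 := fun q hq =>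
    hstab q (invBy_iff.1 (invBy_eb_self H _) q hq)
  have hdich : ∀ q, MonoidAlgebra.single q 1 * et = et * MonoidAlgebra.single q 1 ∨
      et * (MonoidAlgebra.single q 1 * et) = 0 := fun q => (hdich' q).imp_left (hstab q)
  have hscal : ∀ ζ : MonoidAlgebra (AlgInt ⧸ M) ((G ⧸ N) ⧸ V), (∀ q, q ∉ H → ζ.coeff q = 0) →
      (∀ q ∈ H, MonoidAlgebra.single q 1 * ζ = ζ * MonoidAlgebra.single q 1) →
      ∃ s : AlgInt ⧸ M, ζ * et = s • et := by
    intro ζ hζs hζc
    obtain ⟨Uθ⟩ := EqualDeg80Units.exists_units hM π θ hθint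
    let ζ' : MonoidAlgebra (AlgInt ⧸ M) H := ∑ h : H, MonoidAlgebra.single h (ζ.coeff h)
    have hcoe : ∀ h : H, ζ'.coeff h = ζ.coeff h := fun h => by
      simp [ζ', MonoidAlgebra.coeff_sum, Finsupp.single_apply, Finset.sum_apply']
    have hζ' : πA H.subtype ζ' = ζ := by
      simp only [ζ', map_sum, πA_single, Subgroup.coe_subtype]
      conv_rhs => rw [BrandtBlock42.eq_sum_single' ζ]
      rw [← Finset.sum_subset (Finset.subset_univ ((Finset.univ : Finset H).map ⟨_, Subtype.val_injective⟩))]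
      · rw [Finset.sum_map]; rfl
      · intro x _ hx
        rw [hζs x (fun h => hx (Finset.mem_map.2 ⟨⟨x, h⟩, Finset.mem_univ _, rfl⟩)),
          MonoidAlgebra.single_zero]
    have hcen' : ∀ w, w * ζ' = ζ' * w := commute_of_coeff ζ' fun x g => by
      rw [hcoe, hcoe]
      have h := congrArg (fun y : MonoidAlgebra (AlgInt ⧸ M) ((G ⧸ N) ⧸ V) => y.coeff ((g : (G ⧸ N) ⧸ V) * x))
        (hζc g g.2)
      simp only [BrandtBlock42.coeff_single_mul', BrandtBlock42.coeff_mul_single'] at h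
      rw [inv_mul_cancel_left] at h
      exact h.symm
    obtain ⟨s, hs⟩ := Uθ.scalar (ClassAlgebraVal.charDegree_pos θ) fun i j => hcen' _
    refine ⟨s, ?_⟩
    have h := congrArg (πA H.subtype) hs
    rw [map_mul, map_smul, hζ', eS_eq_tok,
      tok_map hM π H.subtype hθint hebint (eb_eq_incl H {θ}).symm] at h
    exact h
  -- the pair
  let φ : Cen D →* H := (ψ.comp f).subgroupMap (Cen D)
  have hφs : Function.Surjective φ := (ψ.comp f).subgroupMap_surjective (Cen D)
  have hφv : ∀ c : Cen D, ((φ c : H) : (G ⧸ N) ⧸ V) = ψ (f (c : G)) := fun c => rfl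
  set ξ : IrrCharacter (Cen D) :=
    ⟨(θ : H → ℂ) ∘ φ, CharBasic.isIrrCharacter_comap φ hφs θ.2⟩
  set Z : Subgroup (Cen D) := D.subgroupOf (Cen D)
  have hZc : Z ≤ Subgroup.center (Cen D) := fun z hz => Subgroup.mem_center_iff.2 fun g =>
    Subtype.ext (Subgroup.mem_centralizer_iff.1 g.2 z hz).symm
  have hZp : IsPGroup p Z := hDp.comap_subtype
  haveI : Z.Normal := hDn.comap _
  have hker : φ.ker = Z := by
    ext c
    rw [MonoidHom.mem_ker, Subgroup.mem_subgroupOf, ← hψf (c : G), ← hφv]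
    exact ⟨fun h => by rw [h]; rfl, fun h => Subtype.ext h⟩
  have hdz : BlockCentral81.DZero p Z ξ := by
    refine ⟨fun u hu => ?_, ?_⟩
    · show (θ : H → ℂ) (φ u) = (θ : H → ℂ) (φ 1)
      rw [MonoidHom.mem_ker.1 (hker.symm ▸ hu), map_one]
    · have h1 : charDegree (ξ : Cen D → ℂ) = charDegree (θ : H → ℂ) := by
        show charDegree ((θ : H → ℂ) ∘ φ) = _
        simp [charDegree, Function.comp]
      have h2 : Nat.card Z * Nat.card H = Nat.card (Cen D) := by
        rw [← hker, ← Nat.card_congr (QuotientGroup.quotientKerEquivOfSurjective φ hφs).toEquiv,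
          ← Subgroup.index_eq_card, Subgroup.card_mul_index]
      rw [h1, hθfull, ← h2, Nat.factorization_mul Nat.card_pos.ne' Nat.card_pos.ne', Finsupp.add_apply,
        add_comm]
  set e := blockOf M (ξ : Cen D → ℂ)
  have he : IsPBlock M e := ⟨ξ, rfl⟩
  have hξe : ξ ∈ e := self_mem_blockOf hM ξ
  have hocc : phi D (idem B) ξ = 1 := by
    have e1 : MonoidAlgebra.mapDomainRingHom ℂ φ (res (Cen D) (idem B)) = res H (idem S0) := by
      have hinc : incl (Cen D) (res (Cen D) (idem B)) = idem B := by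
        refine MonoidAlgebra.ext (Finsupp.ext fun x => ?_)
        by_cases hx : x ∈ Cen D
        · rw [show x = ((⟨x, hx⟩ : Cen D) : G) from rfl, coeff_incl_coe, coeff_res]
        · rw [coeff_incl_of_notMem _ _ hx, coeff_idem, BlockNormalP81.blockCoeff_eq_zero hM D hDp hB hx]
      have hcomm : ∀ w, incl H (MonoidAlgebra.mapDomainRingHom ℂ φ w) =
          MonoidAlgebra.mapDomainRingHom ℂ ψ (MonoidAlgebra.mapDomainRingHom ℂ f (incl (Cen D) w)) := by
        intro w
        induction w using MonoidAlgebra.induction_linear with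
        | zero => simp
        | add a b ha hb => simp only [map_add, ha, hb]
        | single g r =>
          simp only [incl, MonoidAlgebra.mapDomainRingHom_apply, MonoidAlgebra.mapDomain_single]
          rfl
      refine MonoidAlgebra.ext (Finsupp.ext fun h => ?_)
      rw [coeff_res, ← coeff_incl_coe H, hcomm, hinc, hSmap, hS0map]
    rw [phi, omega_apply, show ((ξ : Cen D → ℂ)) = (θ : H → ℂ) ∘ φ from rfl, chiSum_comp, e1]
    simpa [omega_apply] using hωθ
  have hpair : IsBrauerPairOf p M B D e := isBrauerPairOf_iff.2 ⟨⟨hDp, he⟩, hB,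
    occ_of_mem hM he (IsCen.invBy (isCen_idem B) _) hBint hξe
      (by rw [hocc, sub_self]; exact ideal_zero hM)⟩
  have hmax := BlockContribMajor.isMaximal_of_card hM hpair hDcard
  refine ⟨e, hmax, ?_⟩
  -- translating stabilisers
  have hpush : ∀ g : G, ∀ c : Cen D,
      φ (conjEquiv g (Cen D) (Cen D) (EqualDeg80Pairs.cen_conj_iff g) c) =
        conjEquiv (ψ (f g)) H H (hconjH _) (φ c) := fun g c => Subtype.ext (by
    show ψ (f (g * (c : G) * g⁻¹)) = ψ (f g) * ψ (f (c : G)) * (ψ (f g))⁻¹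
    simp only [map_mul, map_inv])
  have heq : ∀ g : G, cjA (ψ (f g)) (eb H {θ}) = eb H {θ} →
      pushChar (conjEquiv g (Cen D) (Cen D) (EqualDeg80Pairs.cen_conj_iff g)) ξ = ξ := by
    intro g hg
    rw [cjA_eb (hconjH _), pushSet, Set.image_singleton] at hg
    have h1 : pushChar (conjEquiv (ψ (f g)) H H (hconjH _)) θ = θ :=
      Set.singleton_eq_singleton_iff.1 (eb_injective hg)
    refine Subtype.ext (funext fun c => ?_)
    obtain ⟨c, rfl⟩ := (conjEquiv g (Cen D) (Cen D) (EqualDeg80Pairs.cen_conj_iff g)).surjective c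
    rw [pushChar_apply]
    show (θ : H → ℂ) (φ c) = (θ : H → ℂ) (φ _)
    rw [hpush]
    conv_rhs => rw [← h1]
    rw [pushChar_apply]
  have hcore : ∀ y, MonoidAlgebra.single (ψ y) 1 * et = et * MonoidAlgebra.single (ψ y) 1 →
      (Fix (AlgInt ⧸ M) V y ∨ ((2 : AlgInt ⧸ M) = 0 ∧ Fix (AlgInt ⧸ M) V (y * y))) → ψ y ∈ H := by
    intro y hy hfix
    obtain ⟨g, rfl⟩ := hfs y
    have hgs : g ∈ stab (⟨D, e⟩ : BrauerPairIdx G) := by
      refine mem_stab.2 (cP_eq_self_iff.2 ⟨by rw [Subgroup.normalizer_eq_top]; trivial, ?_⟩)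
      rw [cjA_eb (EqualDeg80Pairs.cen_conj_iff g)]
      congr 1
      refine block_eq_of_mem hM (isPBlock_push _ he) he ⟨ξ, hξe, rfl⟩ ?_
      rw [heq g (hstab' _ hy)]
      exact hξe
    obtain ⟨a, z, ha, hz, rfl, ⟨n, hn⟩, hzr⟩ := exists_split (p := p) g
    have haD : a ∈ D ⊔ Cen D := le_sup_of_stabilizes hM hmax (isPGroup_zpowers hn)
      (fun u hu => (Subgroup.zpowers_le.2 (Subgroup.zpowers_le.2 hgs ha) hu : u ∈ stab _))
      (Subgroup.mem_zpowers a)
    have haH : ψ (f a) ∈ H := by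
      have h : (D ⊔ Cen D).map (ψ.comp f) ≤ H := by
        rw [Subgroup.map_sup]
        refine sup_le ?_ le_rfl
        rintro _ ⟨u, hu, rfl⟩
        rw [MonoidHom.comp_apply, (hψf u).2 hu]
        exact one_mem H
      exact h ⟨a, haD, rfl⟩
    have hzD : z ∈ Cen D := by
      refine EqualDeg80Frattini.mem_centralizer_of_fix (k := AlgInt ⧸ M) D hDp f
        (by rw [QuotientGroup.ker_mk']) hzr ?_
      have hzz : f z ∈ Subgroup.zpowers (f (a * z)) := by
        rw [← MonoidHom.map_zpowers]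
        exact ⟨z, hz, rfl⟩
      rcases hfix with hfix | ⟨h2, hfix⟩
      · exact fix_zpowers hfix hzz
      · have hp2 : p = 2 := ((Nat.prime_dvd_prime_iff_eq hp Nat.prime_two).1
          ((CharP.cast_eq_zero_iff (AlgInt ⧸ M) p 2).1 (by exact_mod_cast h2)))
        obtain ⟨i, hi⟩ := Subgroup.mem_zpowers_iff.1 hzz
        have hsq : f z * f z ∈ Subgroup.zpowers (f (a * z) * f (a * z)) :=
          Subgroup.mem_zpowers_iff.2 ⟨i, by rw [← hi, (Commute.refl _).mul_zpow]⟩
        have hodd : Odd (orderOf (f z)) := by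
          have hndvd : ¬ p ∣ orderOf z := hzr
          rw [hp2] at hndvd
          exact Odd.of_dvd_nat (Nat.odd_iff.2 (Nat.two_dvd_ne_zero.1 hndvd)) (orderOf_map_dvd f z)
        obtain ⟨j, hj⟩ := hodd
        refine fix_zpowers (fix_zpowers hfix hsq) (Subgroup.mem_zpowers_iff.2 ⟨(j + 1 : ℕ), ?_⟩)
        rw [zpow_natCast, ← sq, ← pow_mul, show 2 * (j + 1) = orderOf (f z) + 1 by omega, pow_succ,
          pow_orderOf_eq_one, one_mul]
    rw [map_mul, map_mul]
    exact mul_mem haH ⟨z, hzD, rfl⟩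
  intro y hy z hz hzr
  obtain ⟨-, hyfix⟩ := cP_eq_self_iff.1 (mem_stab.1 hy)
  rw [cjA_eb (EqualDeg80Pairs.cen_conj_iff y)] at hyfix
  have hmem : pushChar (conjEquiv y (Cen D) (Cen D) (EqualDeg80Pairs.cen_conj_iff y)) ξ ∈ e := by
    have he' : pushSet _ e = e := eb_injective hyfix
    conv => arg 1; rw [← he']
    exact ⟨ξ, hξe, rfl⟩
  have hunique : pushChar (conjEquiv y (Cen D) (Cen D) (EqualDeg80Pairs.cen_conj_iff y)) ξ = ξ := by
    refine hdz.unique hM hZc hZp ?_ (sameBlock_of_mem hM he hmem hξe)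
    intro u hu
    obtain ⟨u, rfl⟩ := (conjEquiv y (Cen D) (Cen D) (EqualDeg80Pairs.cen_conj_iff y)).surjective u
    rw [← map_one (conjEquiv y (Cen D) (Cen D) (EqualDeg80Pairs.cen_conj_iff y)), pushChar_apply,
      pushChar_apply]
    refine hdz.triv u ?_
    rw [Subgroup.mem_subgroupOf] at hu ⊢
    have hu' : y * (u : G) * y⁻¹ ∈ D := hu
    have := hDn.conj_mem _ hu' y⁻¹
    simpa [mul_assoc] using this
  have hyet : MonoidAlgebra.single (ψ (f y)) 1 * et = et * MonoidAlgebra.single (ψ (f y)) 1 := by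
    refine hstab _ ?_
    rw [cjA_eb (hconjH _), pushSet, Set.image_singleton]
    congr 2
    refine Subtype.ext (funext fun h => ?_)
    obtain ⟨h, rfl⟩ := (conjEquiv (ψ (f y)) H H (hconjH _)).surjective h
    obtain ⟨c, rfl⟩ := hφs h
    rw [pushChar_apply, ← hpush]
    have := pushChar_apply (conjEquiv y (Cen D) (Cen D) (EqualDeg80Pairs.cen_conj_iff y)) ξ c
    rw [hunique] at this
    exact this.symm
  have hfixy := fix_of_stab hψk hψs hVp hVab
    (fun a => eS_comm hM π hSint a) (eS_sq hM π hSint) hd0 ε hεm hεs hdim hcen H hHfix et het0 het hete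
    hsupp hHc hdich hscal hcore (f y) hyet
  refine EqualDeg80Frattini.mem_centralizer_of_fix (k := AlgInt ⧸ M) D hDp f
    (by rw [QuotientGroup.ker_mk']) hzr (fix_zpowers hfixy ?_)
  rw [← MonoidHom.map_zpowers]
  exact ⟨z, hz, rfl⟩

/-- Height zero characters of one degree force nilpotency. -/
theorem nilpotent_of_equal_degrees (hM : IsPModular p M) {B : Set (IrrCharacter G)}
    (hB : IsPBlock M B) {D : Subgroup G} [hDn : D.Normal] (hD : IsDefectGroup p M B D) {d : ℕ}
    (hdeg : ∀ χ : IrrCharacter G, χ ∈ B → blockHeight p B (χ : G → ℂ) = 0 →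
      charDegree (χ : G → ℂ) = d) : IsNilpotentBlock p M B := by
  obtain ⟨e, hmax, he⟩ := exists_pair hM hB hD hdeg
  refine nilpotent_of_below hM hmax fun a ha x hx hreg => ?_
  obtain ⟨y, hy, c, hc, rfl⟩ := EqualDeg80Pairs.stab_le_of_normal hM hmax.1.1.2 ha
    (isBrauerPairOf_down hM ha hmax.1).1.2 hx
  obtain ⟨u, z, hu, hz, rfl, ⟨n, hn⟩, hzr⟩ := exists_split (p := p) y
  have hzD : z ∈ Cen a.1 := centralizer_le (subgroup_le_of_subpairLE ha :) (he _ hy z hz hzr)
  have hxn := stab_le_normalizer a hx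
  have hzc : z * c ∈ Cen a.1 := mul_mem hzD hc
  have hun : u ∈ Subgroup.normalizer (a.1 : Set G) := by
    rw [show u = u * z * c * (z * c)⁻¹ by group]
    exact mul_mem hxn (inv_mem (Subgroup.centralizer_le_normalizer _ hzc))
  refine mem_cen_of_action hxn hun hreg hn fun q hq => ?_
  rw [show u * z * c * q * (u * z * c)⁻¹ = u * (z * c * q * (z * c)⁻¹) * u⁻¹ by group,
    show z * c * q * (z * c)⁻¹ = q by
      rw [← Subgroup.mem_centralizer_iff.1 hzc q hq, mul_inv_cancel_right]]

end Cfsg.Agent.EqualDeg80Main
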