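import Cfsg.Agent.Lib.EqualDeg80Dims

/-!
Matrix units for the idempotent of a single character whose idempotent is locally integral.
-/

set_option autoImplicit false
set_option linter.unusedSectionVars false
set_option linter.style.haveILetI false

namespace Cfsg.Agent.EqualDeg80Units

open Cfsg Cfsg.Agent.BlockTheoryLocalRing Cfsg.Agent.BlockTheoryCentre
open Cfsg.Agent.BlockTheoryIdem Cfsg.Agent.BrandtAlgebra42 Cfsg.Agent.EqualDeg80Dims

attribute [local instance] Classical.propDecidable

variable {p : ℕ} {M : Ideal AlgInt} {G : Type*} [Group G] [Fintype G]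
variable {k : Type*} [Field k]

/-- Matrix units of size `d` for the idempotent `e`, with one-dimensional corners. -/
structure Units (k : Type*) {R : Type*} [Field k] [Ring R] [Algebra k R] (e : R) (d : ℕ) where
  ε : Fin d → Fin d → R
  mul : ∀ i j a b, ε i j * ε a b = if j = a then ε i b else 0
  sum : ∑ i, ε i i = e
  absorb : ∀ i j, e * ε i j = ε i j
  corner : ∀ i x, ∃ s : k, ε i i * x * ε i i = s • ε i i

theorem Units.scalar {R : Type*} [Ring R] [Algebra k R] {e : R} {d : ℕ} (U : Units k e d)
    (hd : 0 < d) {ζ : R} (hζ : ∀ i j, U.ε i j * ζ = ζ * U.ε i j) : ∃ s : k, ζ * e = s • e := by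
  obtain ⟨s, hs⟩ := U.corner ⟨0, hd⟩ ζ
  refine ⟨s, ?_⟩
  rw [hζ, mul_assoc, U.mul, if_pos rfl] at hs
  rw [← U.sum, Finset.mul_sum, Finset.smul_sum]
  refine Finset.sum_congr rfl fun i _ => ?_
  have h1 : U.ε i i = U.ε i ⟨0, hd⟩ * U.ε ⟨0, hd⟩ ⟨0, hd⟩ * U.ε ⟨0, hd⟩ i := by
    rw [U.mul, if_pos rfl, U.mul, if_pos rfl]
  rw [h1, ← mul_assoc, ← mul_assoc, ← hζ, mul_assoc (U.ε i _) ζ, hs, mul_smul_comm, smul_mul_assoc]

variable [IsAlgClosed k]

/-- A single character with locally integral idempotent gives a full matrix algebra. -/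
theorem exists_units (hM : IsPModular p M) (π : localRing hM →+* k) (χ : IrrCharacter G)
    (hS : IsInt M (idem ({χ} : Set (IrrCharacter G)))) :
    Nonempty (Units k (eS hM π hS) (charDegree (χ : G → ℂ))) := by
  set e := eS hM π hS with he
  set d := charDegree (χ : G → ℂ) with hd
  let I : Ideal (MonoidAlgebra k G) :=
    { carrier := {w | e * w = 0}
      add_mem' := fun {a b} ha hb => by show e * (a + b) = 0; rw [mul_add, ha, hb, add_zero]
      zero_mem' := mul_zero e
      smul_mem' := fun c w hw => by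
        show e * (c * w) = 0
        rw [← mul_assoc, ← eS_comm, mul_assoc, show e * w = 0 from hw, mul_zero] }
  haveI : I.IsTwoSided := ⟨fun b ha => by
    show e * (_ * b) = 0
    rw [← mul_assoc, show e * _ = 0 from ha, zero_mul]⟩
  let A := MonoidAlgebra k G ⧸ I
  let q : MonoidAlgebra k G →ₐ[k] A := Ideal.Quotient.mkₐ k I
  have hqs : Function.Surjective q := Ideal.Quotient.mk_surjective
  have hq : ∀ w, q w = 0 ↔ e * w = 0 := fun w => Ideal.Quotient.eq_zero_iff_mem
  have hee : e * e = e := eS_sq hM π hS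
  have hqe : ∀ w, q (e * w) = q w := fun w => by
    rw [← sub_eq_zero, ← map_sub, hq, mul_sub, ← mul_assoc, hee, sub_self]
  have hqi : ∀ {a b}, q a = q b → e * a = e * b := fun {a b} h => by
    rw [← sub_eq_zero, ← mul_sub, ← hq, map_sub, h, sub_self]
  haveI : FiniteDimensional k A := Module.Finite.of_surjective q.toLinearMap hqs
  have hdim : Module.finrank k A = d ^ 2 := by
    have h1 := LinearMap.finrank_range_add_finrank_ker (LinearMap.mulLeft k e)
    have h2 := LinearMap.finrank_range_add_finrank_ker q.toLinearMap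
    have h3 : LinearMap.ker (LinearMap.mulLeft k e) = LinearMap.ker q.toLinearMap := by
      ext w
      simp only [LinearMap.mem_ker, LinearMap.mulLeft_apply, AlgHom.toLinearMap_apply, hq]
    rw [LinearMap.range_eq_top.2 hqs, finrank_top, ← h3] at h2
    rw [finrank_range hM hS π] at h1
    simp only [Set.toFinset_singleton, Finset.sum_singleton, ← hd] at h1
    show Module.finrank k A = _
    omega
  have hd0 : 0 < d := ClassAlgebraVal.charDegree_pos χ
  haveI : Nontrivial A := Module.nontrivial_of_finrank_pos (R := k) (by rw [hdim]; positivity)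
  -- at most one trace functional
  have htr : ∀ φ : Fin 2 → (A →ₗ[k] k), (∀ i, IsTr (φ i)) → ¬ LinearIndependent k φ := by
    intro φ hφ hli
    have h := trace_bound hM hS π (n := 2) (fun i => (φ i).comp q.toLinearMap)
      (fun i a b => by simp [hφ i (q a) (q b)])
      (fun i a => congrArg (φ i) (hqe a))
      (Fintype.linearIndependent_iff.2 fun g hg i => Fintype.linearIndependent_iff.1 hli g
        (LinearMap.ext fun a => by
          obtain ⟨a, rfl⟩ := hqs a
          simpa using LinearMap.congr_fun hg a) i)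
    simp at h
  -- the regular trace
  let τ0 : MonoidAlgebra k G →ₗ[k] k :=
    { toFun := fun w => (e * w).coeff 1
      map_add' := fun a b => by simp [mul_add]
      map_smul' := fun c a => by simp }
  obtain ⟨σ, hσ⟩ := q.toLinearMap.exists_rightInverse_of_surjective (LinearMap.range_eq_top.2 hqs)
  let τ := τ0.comp σ
  have hτq : ∀ w, τ (q w) = (e * w).coeff 1 := fun w => by
    show (e * σ (q w)).coeff 1 = _
    rw [hqi (show q (σ (q w)) = q w from LinearMap.congr_fun hσ (q w))]
  have hτ : IsTr τ := by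
    intro a b
    obtain ⟨a, rfl⟩ := hqs a
    obtain ⟨b, rfl⟩ := hqs b
    have key : ∀ a b : MonoidAlgebra k G, (a * b).coeff 1 = (b * a).coeff 1 := fun a b => by
      rw [BrandtBlock42.coeff_mul', BrandtBlock42.coeff_mul']
      refine Fintype.sum_equiv (Equiv.inv G) _ _ fun x => ?_
      simp [mul_comm]
    rw [← map_mul, ← map_mul, hτq, hτq, ← mul_assoc, key, ← mul_assoc, eS_comm, mul_assoc]
  have hnd : ∀ a, (∀ b, τ (a * b) = 0) → a = 0 := by
    intro a ha
    obtain ⟨a, rfl⟩ := hqs a
    rw [hq]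
    ext x
    have := ha (q (MonoidAlgebra.single x⁻¹ 1))
    rw [← map_mul, hτq, ← mul_assoc, BrandtBlock42.coeff_mul_single', one_mul, inv_inv] at this
    simpa using this
  -- semisimplicity
  haveI : IsArtinianRing A := IsArtinianRing.of_finite k A
  set J : Ideal A := Ring.jacobson A
  haveI : IsSemisimpleRing (A ⧸ J) := IsSemiprimaryRing.isSemisimpleRing
  haveI : FiniteDimensional k (A ⧸ J) :=
    Module.Finite.of_surjective (Ideal.Quotient.mkₐ k J).toLinearMap Ideal.Quotient.mk_surjective
  obtain ⟨m, n, hn, ⟨w⟩⟩ := IsSemisimpleRing.exists_algEquiv_pi_matrix_of_isAlgClosed k (A ⧸ J)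
  let P : A →ₐ[k] Π i, Matrix (Fin (n i)) (Fin (n i)) k := w.toAlgHom.comp (Ideal.Quotient.mkₐ k J)
  have hPs : Function.Surjective P := w.surjective.comp Ideal.Quotient.mk_surjective
  let t : Fin m → (A →ₗ[k] k) := fun l =>
    ((Matrix.traceLinearMap (Fin (n l)) k k).comp (LinearMap.proj l)).comp P.toLinearMap
  have ht : ∀ l, IsTr (t l) := fun l a b => by
    simp only [t, LinearMap.comp_apply, AlgHom.toLinearMap_apply, map_mul, LinearMap.proj_apply,
      Pi.mul_apply, Matrix.traceLinearMap_apply]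
    rw [Matrix.trace_mul_comm]
  have hone : ∀ l, ∃ y, t l y = 1 ∧ ∀ l', l' ≠ l → t l' y = 0 := fun l => by
    obtain ⟨y, hy⟩ := hPs (Pi.single l
      (Matrix.single (⟨0, Nat.pos_of_ne_zero (hn l).out⟩ : Fin (n l))
        ⟨0, Nat.pos_of_ne_zero (hn l).out⟩ 1))
    exact ⟨y, by simp [t, hy], fun l' hl => by simp [t, hy, hl]⟩
  have hm : 0 < m := by
    by_contra h0
    obtain rfl : m = 0 := by omega
    have h1 : Subsingleton (A ⧸ J) := w.injective.subsingleton
    obtain ⟨N, hN⟩ : IsNilpotent J := by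
      rw [show J = Ring.jacobson A from rfl, ← Ideal.jacobson_bot]
      exact IsArtinianRing.isNilpotent_jacobson_bot
    have h2 := Ideal.pow_mem_pow (Ideal.Quotient.eq_zero_iff_mem.1
      (Subsingleton.elim (Ideal.Quotient.mk J (1 : A)) 0)) N
    rw [hN, one_pow] at h2
    exact one_ne_zero (Ideal.mem_bot.1 h2 : (1 : A) = 0)
  set l₀ : Fin m := ⟨0, hm⟩
  have hdep : ∀ φ : A →ₗ[k] k, IsTr φ → ∃ c : k, φ = c • t l₀ := by
    intro φ hφ
    obtain ⟨y, hy, -⟩ := hone l₀
    refine ⟨φ y, ?_⟩
    by_contra hne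
    refine htr ![φ - φ y • t l₀, t l₀] (fun i => by
      fin_cases i
      · intro a b
        simp [hφ a b, ht l₀ a b]
      · exact ht l₀) (Fintype.linearIndependent_iff.2 fun g hg i => ?_)
    simp only [Fin.sum_univ_two, Matrix.cons_val_zero, Matrix.cons_val_one] at hg
    have g1 : g 1 = 0 := by simpa [hy] using LinearMap.congr_fun hg y
    have g0 : g 0 = 0 := by
      rw [g1, zero_smul, add_zero, smul_eq_zero] at hg
      exact hg.resolve_right fun h => hne (sub_eq_zero.1 h)
    fin_cases i <;> assumption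
  have hsub : ∀ l, l = l₀ := fun l => by
    by_contra hl
    obtain ⟨c, hc⟩ := hdep (t l) (ht l)
    obtain ⟨y, hy, hy'⟩ := hone l
    have := LinearMap.congr_fun hc y
    rw [hy, LinearMap.smul_apply, hy' l₀ (Ne.symm hl), smul_zero] at this
    exact one_ne_zero this
  haveI := hn l₀
  let Q : A →ₐ[k] Matrix (Fin (n l₀)) (Fin (n l₀)) k :=
    (Pi.evalAlgHom k (fun i => Matrix (Fin (n i)) (Fin (n i)) k) l₀).comp P
  have hQs : Function.Surjective Q := fun y => by
    obtain ⟨x, hx⟩ := hPs (Pi.single l₀ y)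
    exact ⟨x, by show P x l₀ = y; rw [hx, Pi.single_eq_same]⟩
  have hQi : Function.Injective Q := by
    refine (injective_iff_map_eq_zero Q).2 fun x hx => hnd x fun b => ?_
    obtain ⟨c, hc⟩ := hdep τ hτ
    rw [hc]
    have : Q (x * b) = 0 := by rw [map_mul, hx, zero_mul]
    show c * (Matrix.trace (Q (x * b))) = 0
    rw [this, Matrix.trace_zero, mul_zero]
  have hnd2 : n l₀ = d := by
    have h := LinearEquiv.finrank_eq (AlgEquiv.ofBijective Q ⟨hQi, hQs⟩).toLinearEquiv
    rw [hdim, Module.finrank_matrix, Module.finrank_self] at h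
    simp only [Fintype.card_fin, mul_one] at h
    exact Nat.pow_left_injective two_ne_zero (by rw [h, sq]; : d ^ 2 = (n l₀) ^ 2).symm
  choose u hu using fun (i j : Fin d) => hQs (Matrix.single (Fin.cast hnd2.symm i) (Fin.cast hnd2.symm j) 1)
  choose v hv using fun i j => hqs (u i j)
  have key : ∀ {a b}, Q (q a) = Q (q b) → e * a = e * b := fun h => hqi (hQi h)
  have habs : ∀ i j, e * (e * v i j) = e * v i j := fun i j => by rw [← mul_assoc, hee]
  refine ⟨⟨fun i j => e * v i j, ?_, ?_, habs, ?_⟩⟩
  · intro i j a b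
    have e1 : e * v i j * (e * v a b) = e * (v i j * v a b) := by
      rw [mul_assoc, ← mul_assoc (v i j) e, eS_comm hM π hS (v i j), mul_assoc, ← mul_assoc, hee]
    rw [e1]
    split_ifs with h
    · subst h
      exact key (by simp [hv, hu])
    · rw [← mul_zero e]
      exact key (by simp [hv, hu, h])
  · rw [← Finset.mul_sum]
    conv_rhs => rw [← mul_one e]
    refine key ?_
    simp only [map_sum, hv, hu, map_one]
    rw [← Matrix.sum_single_one, ← Equiv.sum_comp (finCongr hnd2.symm)]
    rfl
  · intro i x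
    refine ⟨Q (q x) (Fin.cast hnd2.symm i) (Fin.cast hnd2.symm i), ?_⟩
    have e1 : e * v i i * x * (e * v i i) = e * (v i i * x * v i i) := by
      rw [mul_assoc e (v i i) x, mul_assoc e, ← mul_assoc (v i i * x) e, eS_comm hM π hS (v i i * x),
        mul_assoc e, ← mul_assoc e e, hee]
    rw [e1, ← mul_smul_comm]
    refine key ?_
    simp only [map_mul, map_smul, hv, hu]
    rw [Matrix.single_mul_mul_single]
    simp

end Cfsg.Agent.EqualDeg80Units
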