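import Cfsg.Agent.Lib.EqualDeg80Dims
import Cfsg.Agent.Lib.EqualDeg80Units
import Cfsg.Agent.Lib.EqualDeg80First
import Cfsg.Agent.Lib.BlockQuotient78
import Cfsg.Agent.Lib.BrauerPairs81Stab
import Cfsg.Agent.Lib.CharProjDegree
import Cfsg.Agent.Lib.BlockCentral81

/-!
Reduction of locally integral elements: functoriality in the group, conjugation, sets of characters
of full defect, restriction of idempotents to a normal subgroup.
-/

set_option autoImplicit false
set_option linter.unusedSectionVars false

namespace Cfsg.Agent.EqualDeg80Red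

open Cfsg Cfsg.Agent.BlockTheoryLocalRing Cfsg.Agent.BlockTheoryCentre
open Cfsg.Agent.BlockTheoryIdem Cfsg.Agent.BlockTheoryBrauer Cfsg.Agent.EqualDeg80Dims
open Cfsg.Agent.BrauerPairs81Base Cfsg.Agent.BrauerPairs81Pairs
open Cfsg.Agent.EqualDeg80First
open scoped ComplexConjugate

attribute [local instance] Classical.propDecidable

variable {p : ℕ} {M : Ideal AlgInt} {G Q : Type*} [Group G] [Fintype G] [Group Q] [Fintype Q]
variable {k : Type*} [Field k]

/-- The reduction of a locally integral element. -/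
noncomputable def tok (hM : IsPModular p M) (π : localRing hM →+* k) {z : MonoidAlgebra ℂ G}
    (hz : IsInt M z) : MonoidAlgebra k G := MonoidAlgebra.mapRingHom G π (liftI hM hz)

theorem coeff_tok (hM : IsPModular p M) (π : localRing hM →+* k) {z : MonoidAlgebra ℂ G}
    (hz : IsInt M z) (x : G) : (tok hM π hz).coeff x = π ⟨z.coeff x, hz x⟩ := by
  rw [tok, MonoidAlgebra.coeff_mapRingHom]; rfl

theorem eS_eq_tok (hM : IsPModular p M) (π : localRing hM →+* k) {S : Set (IrrCharacter G)}
    (hS : IsInt M (idem S)) : eS hM π hS = tok hM π hS := rfl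

theorem tok_congr (hM : IsPModular p M) (π : localRing hM →+* k) {z w : MonoidAlgebra ℂ G}
    (hz : IsInt M z) (hw : IsInt M w) (h : z = w) : tok hM π hz = tok hM π hw := by subst h; rfl

theorem tok_mul (hM : IsPModular p M) (π : localRing hM →+* k) {z w : MonoidAlgebra ℂ G}
    (hz : IsInt M z) (hw : IsInt M w) :
    tok hM π hz * tok hM π hw = tok hM π (IsInt.mul hM hz hw) := by
  rw [tok, tok, tok, ← map_mul]
  congr 1
  apply toC_injective hM
  rw [map_mul, toC_liftI, toC_liftI, toC_liftI]

theorem tok_zero (hM : IsPModular p M) (π : localRing hM →+* k)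
    (hz : IsInt M (0 : MonoidAlgebra ℂ G)) : tok hM π hz = 0 :=
  MonoidAlgebra.ext (Finsupp.ext fun x => by
    rw [coeff_tok, show (⟨_, hz x⟩ : localRing hM) = 0 from Subtype.ext (by simp), map_zero]; simp)

theorem tok_sum (hM : IsPModular p M) (π : localRing hM →+* k) {ι : Type*} (s : Finset ι)
    (z : ι → MonoidAlgebra ℂ G) (hz : ∀ i, IsInt M (z i)) (hs : IsInt M (∑ i ∈ s, z i)) :
    tok hM π hs = ∑ i ∈ s, tok hM π (hz i) := by
  simp only [tok, ← map_sum]
  congr 1
  apply toC_injective hM
  simp only [map_sum, toC_liftI]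

theorem tok_eq_zero_small (hM : IsPModular p M) (π : localRing hM →+* k)
    (hπ : ∀ z, π z = 0 ↔ MemLocalIdeal M (z : ℂ)) {z : MonoidAlgebra ℂ G} (hz : IsInt M z)
    (h : tok hM π hz = 0) : Small M z := fun x =>
  (hπ ⟨_, hz x⟩).1 (by rw [← coeff_tok hM π hz x, h]; simp)

theorem isInt_mapDomain (hM : IsPModular p M) (f : G →* Q) {z : MonoidAlgebra ℂ G}
    (hz : IsInt M z) : IsInt M (MonoidAlgebra.mapDomainRingHom ℂ f z) := by
  intro x
  rw [eq_sum_single z, map_sum, MonoidAlgebra.coeff_sum, Finsupp.finsetSum_apply]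
  refine (localRing hM).sum_mem fun g _ => ?_
  rw [MonoidAlgebra.mapDomainRingHom_apply, MonoidAlgebra.mapDomain_single, MonoidAlgebra.coeff_single,
    Finsupp.single_apply]
  split_ifs
  exacts [hz g, (localRing hM).zero_mem]

theorem tok_map (hM : IsPModular p M) (π : localRing hM →+* k) (f : G →* Q) {z : MonoidAlgebra ℂ G}
    (hz : IsInt M z) {w : MonoidAlgebra ℂ Q} (hw : IsInt M w)
    (h : MonoidAlgebra.mapDomainRingHom ℂ f z = w) :
    πA f (tok hM π hz) = tok hM π hw := by
  have h1 : MonoidAlgebra.mapDomainRingHom (localRing hM) f (liftI hM hz) = liftI hM hw := by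
    apply toC_injective hM
    have h2 := congrArg (fun φ : MonoidAlgebra (localRing hM) G →+* MonoidAlgebra ℂ Q =>
      φ (liftI hM hz)) (MonoidAlgebra.mapRingHom_comp_mapDomainRingHom (localRing hM).subtype f)
    simp only [RingHom.comp_apply] at h2
    rw [h2, toC_liftI, toC_liftI, h]
  have h2 := congrArg (fun φ : MonoidAlgebra (localRing hM) G →+* MonoidAlgebra k Q =>
    φ (liftI hM hz)) (MonoidAlgebra.mapRingHom_comp_mapDomainRingHom π f)
  simp only [RingHom.comp_apply] at h2
  rw [tok, tok, ← h1, h2]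
  rfl

/-- Conjugation against multiplication by a group element. -/
theorem single_mul_tok (hM : IsPModular p M) (π : localRing hM →+* k) (q : G)
    {z : MonoidAlgebra ℂ G} (hz : IsInt M z) (hzq : IsInt M (cjA q z)) :
    MonoidAlgebra.single q 1 * tok hM π hz = tok hM π hzq * MonoidAlgebra.single q 1 := by
  refine MonoidAlgebra.ext (Finsupp.ext fun x => ?_)
  rw [BrandtBlock42.coeff_single_mul', BrandtBlock42.coeff_mul_single', coeff_tok, coeff_tok]
  refine congrArg π (Subtype.ext ?_)
  show z.coeff (q⁻¹ * x) = (cjA q z).coeff (x * q⁻¹)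
  rw [coeff_cjA]
  congr 1
  group

theorem isInt_cjA (q : G) {z : MonoidAlgebra ℂ G} (hz : IsInt M z) : IsInt M (cjA q z) :=
  fun _ => hz _

theorem coeff_mapDomain_apply {N : Subgroup G} [N.Normal] (z : MonoidAlgebra ℂ G) (g : G) :
    (MonoidAlgebra.mapDomainRingHom ℂ (QuotientGroup.mk' N) z).coeff (QuotientGroup.mk' N g) =
      ∑ n : N, z.coeff (g * n) := by
  conv_lhs => rw [eq_sum_single z, map_sum, MonoidAlgebra.coeff_sum, Finsupp.finsetSum_apply]
  simp only [MonoidAlgebra.mapDomainRingHom_apply, MonoidAlgebra.mapDomain_single,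
    MonoidAlgebra.coeff_single, Finsupp.single_apply]
  rw [← Finset.sum_filter]
  refine (Finset.sum_nbij' (fun n : N => g * (n : G)) (fun x => if hx : g⁻¹ * x ∈ N then ⟨_, hx⟩ else 1)
    ?_ ?_ ?_ ?_ ?_).symm
  · intro n _
    simp only [Finset.mem_filter, Finset.mem_univ, true_and, Finset.mem_coe]
    exact QuotientGroup.eq.2 (by simp)
  · simp
  · intro n _
    simp
  · intro x hx
    simp only [Finset.mem_filter, Finset.mem_univ, true_and, Finset.mem_coe] at hx
    have hmem : g⁻¹ * x ∈ N := QuotientGroup.eq.1 hx.symm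
    simp [hmem]
  · intro n _
    rfl

/-- The image of an idempotent in a quotient group. -/
theorem mapDomain_idem (N : Subgroup G) [N.Normal] [Fintype (G ⧸ N)] (B : Set (IrrCharacter G)) :
    MonoidAlgebra.mapDomainRingHom ℂ (QuotientGroup.mk' N) (idem B) =
      idem (BlockQuotient78.contained N B) := by
  refine MonoidAlgebra.ext (Finsupp.ext fun x => ?_)
  obtain ⟨g, rfl⟩ := QuotientGroup.mk'_surjective N x
  rw [coeff_mapDomain_apply, coeff_idem, BlockQuotient78.sum_coset]
  simp [coeff_idem]

/-- The idempotent of a character whose degree has the full `p`-part is integral. -/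
theorem isInt_singleton [Fact p.Prime] (hM : IsPModular p M) (θ : IrrCharacter G)
    (h : (charDegree (θ : G → ℂ)).factorization p = (Nat.card G).factorization p) :
    IsInt M (idem ({θ} : Set (IrrCharacter G))) := by
  intro g
  rw [coeff_idem, blockCoeff, finsum_mem_singleton, ← mul_assoc]
  refine (localRing hM).mul_mem ?_ ?_
  · have hz : BlockCentral81.DZero p (⊥ : Subgroup G) θ :=
      ⟨fun u hu => by rw [Subgroup.mem_bot.1 hu], by simp [h]⟩
    have := hz.scale_mem hM
    rw [Subgroup.card_bot, Nat.cast_one, one_mul, div_eq_inv_mul] at this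
    exact this
  · exact of_isIntegral hM (by rw [← irr_inv]; exact CharBasic.isCharacter_integral (CharBasic.isCharacter_of_isIrrCharacter θ.2) _)

/-- An irreducible character has a constituent on a normal subgroup, with the `p`-part of the degree
under control. -/
theorem exists_full_constituent (H : Subgroup G) [H.Normal] (χ : IrrCharacter G)
    (hχ : (charDegree (χ : G → ℂ)).factorization p = (Nat.card G).factorization p) :
    ∃ θ : IrrCharacter H, classInner (fun h : H => (χ : G → ℂ) h) (θ : H → ℂ) ≠ 0 ∧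
      (charDegree (θ : H → ℂ)).factorization p = (Nat.card H).factorization p := by
  have hres : IsCharacter H fun h : H => (χ : G → ℂ) h :=
    CharInduced.isCharacter_res H (CharBasic.isCharacter_of_isIrrCharacter χ.2)
  obtain ⟨d, hd0, hd⟩ := CharBasic.isIrrCharacter_apply_one χ.2
  obtain ⟨θ, hθ, hne⟩ := CharInduced.exists_constituent hres
    (CharInduced.isCharacter_ne_zero_of_apply_one hd0 (by simpa using hd))
  refine ⟨⟨θ, hθ⟩, hne, ?_⟩
  obtain ⟨a, b, hb, hab, hdvd⟩ := CharProjDegree.degree_dvd H χ.2 hθ hne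
  have hb' : charDegree θ = b := by simp [charDegree, hb]
  have hab' : charDegree (χ : G → ℂ) = b * a := by
    rw [ClassAlgebraVal.apply_one_eq_charDegree χ] at hab
    exact_mod_cast hab
  have hpos : b * a ≠ 0 := hab' ▸ (ClassAlgebraVal.charDegree_pos χ).ne'
  obtain ⟨hb0, ha0⟩ := mul_ne_zero_iff.1 hpos
  have h1 : (charDegree θ).factorization p ≤ (Nat.card H).factorization p :=
    ClassAlgebraOmega.factorization_charDegree_le (⟨θ, hθ⟩ : IrrCharacter H) p
  have h2 : a.factorization p ≤ H.index.factorization p :=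
    (Nat.factorization_le_iff_dvd ha0 H.index_ne_zero_of_finite).2 hdvd p
  rw [hab', Nat.factorization_mul hb0 ha0, ← Subgroup.card_mul_index H,
    Nat.factorization_mul Nat.card_pos.ne' H.index_ne_zero_of_finite] at hχ
  simp only [Finsupp.coe_add, Pi.add_apply] at hχ
  rw [hb'] at h1
  show (charDegree θ).factorization p = _
  rw [hb']
  omega

/-- When the idempotent of `S` lives on the normal subgroup `H`, it absorbs every constituent there
of a member. -/
theorem eb_singleton_mul (H : Subgroup G) [H.Normal] {S : Set (IrrCharacter G)}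
    (hsupp : ∀ x ∉ H, (idem S).coeff x = 0) {χ : IrrCharacter G} (hχ : χ ∈ S)
    {θ : IrrCharacter H} (hθ : classInner (fun h : H => (χ : G → ℂ) h) (θ : H → ℂ) ≠ 0) :
    eb H {θ} * idem S = eb H {θ} ∧ omega (θ : H → ℂ) (res H (idem S)) = 1 := by
  have hinc : incl H (res H (idem S)) = idem S := by
    refine MonoidAlgebra.ext (Finsupp.ext fun x => ?_)
    by_cases hx : x ∈ H
    · rw [show x = ((⟨x, hx⟩ : H) : G) from rfl, coeff_incl_coe, coeff_res]
    · rw [coeff_incl_of_notMem _ _ hx, hsupp x hx]
  have hc : IsCen (res H (idem S)) := isCen_res_of_invBy (IsCen.invBy (isCen_idem S) H)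
  obtain ⟨A, hA⟩ := BrauerPairs81Stab.exists_idem_eq hc
    (by rw [← res_mul_of_supported H hsupp, idem_sq])
  obtain ⟨m, hm, hsum⟩ := CharBasicDecomp.exists_mult
    (CharInduced.isCharacter_res H (CharBasic.isCharacter_of_isIrrCharacter χ.2))
  have hA' : θ ∈ A := by
    by_contra hθA
    have h1 : chiSum (χ : G → ℂ) (idem S) = (χ : G → ℂ) 1 := by
      have h := omega_idem S χ
      rw [if_pos hχ, omega_apply, inv_mul_eq_iff_eq_mul₀ (irr_one_ne_zero χ), mul_one] at h
      exact h
    have h2 : chiSum (χ : G → ℂ) (idem S) =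
        chiSum (fun h : H => (χ : G → ℂ) h) (res H (idem S)) := by
      rw [chiSum_apply, chiSum_apply]
      simp only [coeff_res]
      rw [← Finset.sum_subset (Finset.subset_univ ((Finset.univ : Finset H).map ⟨_, Subtype.val_injective⟩))]
      · rw [Finset.sum_map]; rfl
      · intro x _ hx
        rw [hsupp x (fun h => hx (Finset.mem_map.2 ⟨⟨x, h⟩, Finset.mem_univ _, rfl⟩)), zero_mul]
    have h3 : ∀ η : IrrCharacter H, chiSum (η : H → ℂ) (idem A) =
        if η ∈ A then (η : H → ℂ) 1 else 0 := fun η => by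
      have h := omega_idem A η
      rw [omega_apply, inv_mul_eq_iff_eq_mul₀ (irr_one_ne_zero η), mul_ite, mul_one, mul_zero] at h
      exact h
    have h4 : chiSum (fun h : H => (χ : G → ℂ) h) (idem A) =
        ∑ η : IrrCharacter H, (m η : ℂ) * chiSum (η : H → ℂ) (idem A) := by
      simp only [chiSum_apply, Finset.mul_sum]
      rw [Finset.sum_comm]
      refine Finset.sum_congr rfl fun x _ => ?_
      have := congrFun hsum x
      rw [this, Finset.sum_apply, Finset.mul_sum]
      exact Finset.sum_congr rfl fun η _ => by simp [mul_left_comm]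
    have h5 : (χ : G → ℂ) 1 = ∑ η : IrrCharacter H, (m η : ℂ) * (η : H → ℂ) 1 := by
      have := congrFun hsum 1
      simpa [Finset.sum_apply] using this
    rw [h2, ← hA, h4, h5] at h1
    simp only [h3] at h1
    have h6 : ∑ η : IrrCharacter H, ((m η * if η ∈ A then charDegree (η : H → ℂ) else 0 : ℕ) : ℂ) =
        ∑ η : IrrCharacter H, ((m η * charDegree (η : H → ℂ) : ℕ) : ℂ) := by
      convert h1 using 2 with η η
      · split_ifs <;> simp [ClassAlgebraVal.apply_one_eq_charDegree]
      · simp [ClassAlgebraVal.apply_one_eq_charDegree]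
    rw [← Nat.cast_sum, ← Nat.cast_sum, Nat.cast_inj] at h6
    have h7 := (Finset.sum_eq_sum_iff_of_le fun η _ => ?_).1 h6 θ (Finset.mem_univ θ)
    · rw [if_neg hθA, mul_zero, eq_comm, mul_eq_zero] at h7
      rcases h7 with h | h
      · exact hθ (by rw [hm θ, h, Nat.cast_zero])
      · exact (ClassAlgebraVal.charDegree_pos θ).ne' h
    · split_ifs <;> simp
  refine ⟨?_, by rw [← hA, omega_idem, if_pos hA']⟩
  rw [← hinc, ← hA, eb_eq_incl, ← map_mul, idem_mul_idem, Set.inter_eq_left.2 (Set.singleton_subset_iff.2 hA')]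

end Cfsg.Agent.EqualDeg80Red
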