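import Cfsg.Agent.Lib.EqualDeg80Centre
import Cfsg.Agent.Lib.EqualDeg80Brauer

/-!
For a block whose characters have one degree the restriction to the centralizer of a defect group is
injective on the centre of the block algebra over the residue field.
-/

set_option autoImplicit false
set_option linter.unusedSectionVars false

namespace Cfsg.Agent.EqualDeg80Socle

open Cfsg Cfsg.Agent.BlockTheoryLocalRing Cfsg.Agent.BlockTheoryCentre Cfsg.Agent.BlockTheoryIdem
open Cfsg.Agent.BlockTheoryBrauer Cfsg.Agent.EqualDeg80Dims Cfsg.Agent.EqualDeg80Red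
open Cfsg.Agent.EqualDeg80Centre Cfsg.Agent.EqualDeg80Field
open Cfsg.Agent.BrauerPairs81Base Cfsg.Agent.EqualDeg80Alg

attribute [local instance] Classical.propDecidable

universe u

variable {p : ℕ} [Fact p.Prime] {M : Ideal AlgInt} {G : Type u} [Group G] [Fintype G]
variable {k : Type} [Field k]

/-- A central element of a product of matrix algebras is scalar on each factor. -/
theorem central_scalar {m : ℕ} {n : Fin m → ℕ} {z : Π l, Matrix (Fin (n l)) (Fin (n l)) k}
    (hz : ∀ a, a * z = z * a) (l : Fin m) : ∃ s : k, z l = s • 1 := by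
  obtain ⟨s, hs⟩ := Matrix.mem_range_scalar_of_commute_single (M := z l) fun i j _ => by
    have h := congrFun (hz (Pi.single l (Matrix.single i j 1))) l
    simp only [Pi.mul_apply, Pi.single_eq_same] at h
    exact h
  exact ⟨s, by rw [← hs, Matrix.scalar_apply, Matrix.smul_one_eq_diagonal]⟩

/-- A nilpotent central element of a product of matrix algebras is zero. -/
theorem central_nilpotent {m : ℕ} {n : Fin m → ℕ} {z : Π l, Matrix (Fin (n l)) (Fin (n l)) k}
    (hz : ∀ a, a * z = z * a) (hn : IsNilpotent z) : z = 0 := by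
  funext l
  obtain ⟨s, hs⟩ := central_scalar hz l
  obtain ⟨N, hN⟩ := hn
  have h := congrFun hN l
  rw [Pi.pow_apply, hs, smul_pow, one_pow] at h
  rw [Pi.zero_apply, hs]
  rw [Pi.zero_apply] at h
  rcases smul_eq_zero.1 h with h | h
  · rw [eq_zero_of_pow_eq_zero h, zero_smul]
  · rw [h, smul_zero]

/-- Matrix units of size `d` for a central idempotent with all sizes multiples of `d`. -/
theorem exists_eps {m : ℕ} {n : Fin m → ℕ} {E : Π l, Matrix (Fin (n l)) (Fin (n l)) k} {d : ℕ}
    (hE : ∀ l, E l = 0 ∨ E l = 1 ∧ d ∣ n l) :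
    ∃ ε : Fin d → Fin d → Π l, Matrix (Fin (n l)) (Fin (n l)) k,
      (∀ i j a b, ε i j * ε a b = if j = a then ε i b else 0) ∧ ∑ i, ε i i = E := by
  have key : ∀ l, ∃ f : Matrix (Fin d) (Fin d) k →ₗ[k] Matrix (Fin (n l)) (Fin (n l)) k,
      (∀ X Y, f (X * Y) = f X * f Y) ∧ f 1 = E l := by
    intro l
    rcases hE l with h | ⟨h, q, hq⟩
    · exact ⟨0, fun X Y => by simp, by simp [h]⟩
    · let e : Fin d × Fin q ≃ Fin (n l) := finProdFinEquiv.trans (finCongr hq.symm)
      refine ⟨{ toFun := fun X => Matrix.reindex e e (Matrix.blockDiagonal fun _ : Fin q => X)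
                map_add' := fun X Y => by
                  rw [← Pi.add_def, Matrix.blockDiagonal_add]; rfl
                map_smul' := fun c X => by
                  rw [show (fun _ : Fin q => c • X) = c • fun _ : Fin q => X from rfl,
                    Matrix.blockDiagonal_smul]; rfl }, fun X Y => ?_, ?_⟩
      · simp only [LinearMap.coe_mk, AddHom.coe_mk, Matrix.blockDiagonal_mul, Matrix.reindex_apply,
          Matrix.submatrix_mul_equiv]
      · simp only [LinearMap.coe_mk, AddHom.coe_mk]
        rw [show (fun _ : Fin q => (1 : Matrix (Fin d) (Fin d) k)) = 1 from rfl,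
          Matrix.blockDiagonal_one, Matrix.reindex_apply, Matrix.submatrix_one_equiv, h]
  choose f hf hf1 using key
  refine ⟨fun i j l => f l (Matrix.single i j 1), fun i j a b => ?_, ?_⟩
  · funext l
    rw [Pi.mul_apply, ← hf]
    split_ifs with h
    · subst h; rw [Matrix.single_mul_single_same, mul_one]
    · rw [Matrix.single_mul_single_of_ne (h := h), map_zero]; rfl
  · funext l
    rw [Finset.sum_apply, ← map_sum, Matrix.sum_single_one, hf1]

set_option maxHeartbeats 1000000 in
/-- Injectivity of the restriction to the centralizer of a defect group. -/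
theorem rk_injective [CharP k p] [IsAlgClosed k] (hM : IsPModular p M) (π : localRing hM →+* k)
    (hπ : ∀ z, π z = 0 ↔ MemLocalIdeal M (z : ℂ))
    (hred : ∀ (X : Type u) (_ : Group X) (_ : Fintype X) (χ : IrrCharacter X), HasRed hM π χ)
    {B : Set (IrrCharacter G)} (hB : IsPBlock M B) (hBi : IsInt M (idem B)) {d : ℕ}
    (hdeg : ∀ χ ∈ B, charDegree (χ : G → ℂ) = d) {D : Subgroup G} (hD : IsPGroup p D)
    {χ₀ : IrrCharacter G} (hχ₀ : χ₀ ∈ B) {N : ℕ}
    (hri : IsInt M ((N : ℂ) • idem ({χ₀} : Set (IrrCharacter G))))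
    (hrD : rk (Cen D) (tok hM π hri) ≠ 0) {z : MonoidAlgebra k G}
    (hz : z ∈ cenBelow k (eS hM π hBi)) (hz0 : rk (Cen D) z = 0) : z = 0 := by
  set e := eS hM π hBi
  haveI : IsArtinianRing (MonoidAlgebra k G) := IsArtinianRing.of_finite k (MonoidAlgebra k G)
  set J : Ideal (MonoidAlgebra k G) := Ring.jacobson (MonoidAlgebra k G)
  haveI : IsSemisimpleRing ((MonoidAlgebra k G) ⧸ J) := IsSemiprimaryRing.isSemisimpleRing
  haveI : FiniteDimensional k ((MonoidAlgebra k G) ⧸ J) :=
    Module.Finite.of_surjective (Ideal.Quotient.mkₐ k J).toLinearMap Ideal.Quotient.mk_surjective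
  obtain ⟨m, n, hn, ⟨w⟩⟩ := IsSemisimpleRing.exists_algEquiv_pi_matrix_of_isAlgClosed k ((MonoidAlgebra k G) ⧸ J)
  let P : (MonoidAlgebra k G) →ₐ[k] Π i, Matrix (Fin (n i)) (Fin (n i)) k :=
    w.toAlgHom.comp (Ideal.Quotient.mkₐ k J)
  have hP : Function.Surjective P := w.surjective.comp Ideal.Quotient.mk_surjective
  have hker : RingHom.ker P.toRingHom = J := by
    ext a
    rw [RingHom.mem_ker]
    show w (Ideal.Quotient.mk J a) = 0 ↔ a ∈ J
    rw [map_eq_zero_iff w w.injective, Ideal.Quotient.eq_zero_iff_mem]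
  have hnil : IsNilpotent (RingHom.ker P.toRingHom) := by
    rw [hker, show J = Ring.jacobson (MonoidAlgebra k G) from rfl, ← Ideal.jacobson_bot]
    exact IsArtinianRing.isNilpotent_jacobson_bot
  have hn0 : ∀ l, n l ≠ 0 := fun l => (hn l).out
  have hec : ∀ a, a * e = e * a := eS_comm hM π hBi
  have hee : e * e = e := eS_sq hM π hBi
  have hcP : ∀ {x : (MonoidAlgebra k G)}, (∀ a, a * x = x * a) → ∀ b, b * P x = P x * b := fun hx b => by
    obtain ⟨a, rfl⟩ := hP b
    rw [← map_mul, hx, map_mul]
  -- the matrix units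
  have hd0 : 0 < d := hdeg χ₀ hχ₀ ▸ ClassAlgebraVal.charDegree_pos χ₀
  haveI : NeZero d := ⟨hd0.ne'⟩
  obtain ⟨ε, hεm, hεs⟩ := exists_eps (E := P e) (d := d) fun l => by
    obtain ⟨s, hs⟩ := central_scalar (hcP hec) l
    have h1 : P e l * P e l = P e l := by rw [← Pi.mul_apply, ← map_mul, hee]
    rw [hs, smul_mul_smul_comm, one_mul] at h1
    haveI : NeZero (n l) := ⟨hn0 l⟩
    have hss : s * s = s := by
      have := congrFun (congrFun h1 0) 0
      simpa using this
    rcases eq_or_ne s 0 with rfl | h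
    · exact Or.inl (by rw [hs, zero_smul])
    · rw [mul_eq_left₀ h] at hss
      subst hss
      rw [one_smul] at hs
      exact Or.inr ⟨hs, EqualDeg80Brauer.dvd_dim hM π hred hBi hdeg P hP hnil hn0 hs⟩
  choose ul hul using fun i j => hP (ε i j)
  have hdim : Module.finrank k (LinearMap.range (LinearMap.mulLeft k e)) ≤
      d * d * B.toFinset.card := by
    rw [finrank_range hM hBi π, Finset.sum_congr rfl fun (χ : IrrCharacter G) hχ =>
      show charDegree (χ : G → ℂ) ^ 2 = d * d by rw [hdeg χ (Set.mem_toFinset.1 hχ), sq],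
      Finset.sum_const, smul_eq_mul, mul_comm]
  have hgen := fun x hx => exists_central P hnil hec hee ε (fun i j => ⟨ul i j, hul i j⟩) hεm hεs hdim
    (le_finrank_cen hM hBi π) x hx
  -- images of central elements are scalar
  have hscal : ∀ y ∈ cenBelow k e, ∃ c : k, P y = c • P e := by
    intro y hy
    obtain ⟨c, hc⟩ := exists_scalar hM π hπ hB hBi hy
    refine ⟨c, ?_⟩
    have h1 : ∀ a, a * (y - c • e) = (y - c • e) * a := fun a => by
      rw [mul_sub, sub_mul, (mem_cenBelow.1 hy).1, mul_smul_comm, hec, smul_mul_assoc]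
    have h2 := central_nilpotent (hcP h1) (hc.map P)
    rwa [map_sub, map_smul, sub_eq_zero] at h2
  -- the socle element
  set r := tok hM π hri
  have hr0 : r ≠ 0 := fun h => hrD (by rw [h, map_zero])
  have hrcen : r ∈ cenBelow k e := by
    refine mem_cenBelow.2 ⟨commute_of_coeff _ fun x g => ?_, ?_⟩
    · rw [coeff_tok, coeff_tok]
      exact congrArg π (Subtype.ext ((isCen_idem _).smul _ x g))
    · show eS hM π hBi * r = r
      rw [eS_eq_tok, tok_mul]
      refine tok_congr hM π _ _ ?_
      rw [Algebra.mul_smul_comm, idem_mul_idem, Set.inter_singleton_of_mem hχ₀]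
  have hrJ : ∀ y ∈ cenBelow k e, P y = 0 → r * y = 0 := by
    intro y hy hy0
    obtain ⟨c, hc⟩ : ∃ c : k, r * y = c • r := by
      refine ⟨∑ C, y.coeff (C : ConjClasses G).out *
        π ⟨_, omega_mem_localRing hM χ₀ (isCen_gen B C) (isInt_gen hM hBi C)⟩, ?_⟩
      conv_lhs => rw [eq_sum_gen hM π hBi hy]
      rw [Finset.mul_sum, Finset.sum_smul]
      refine Finset.sum_congr rfl fun C _ => ?_
      rw [mul_smul_comm, mul_smul]
      congr 1
      have hsm : IsInt M (omega (χ₀ : G → ℂ) (gen B C) •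
          ((N : ℂ) • idem ({χ₀} : Set (IrrCharacter G)))) :=
        IsInt.smul hM (omega_mem_localRing hM χ₀ (isCen_gen B C) (isInt_gen hM hBi C)) hri
      rw [← tok_smul hM π ⟨_, omega_mem_localRing hM χ₀ (isCen_gen B C) (isInt_gen hM hBi C)⟩ hri hsm,
        tok_mul]
      refine tok_congr hM π _ _ ?_
      refine ext_omega (((isCen_idem _).smul _).mul (isCen_gen B C))
        (((isCen_idem _).smul _).smul _) fun χ => ?_
      simp only [omega_mul χ ((isCen_idem _).smul _), map_smul, smul_eq_mul, omega_idem]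
      by_cases h : χ = χ₀
      · subst h; rw [if_pos (Set.mem_singleton χ)]; ring
      · rw [if_neg (by simpa using h)]; ring
    obtain ⟨L, hL⟩ := hnil
    have hyN : y ^ L = 0 := by
      have := Ideal.pow_mem_pow (show y ∈ RingHom.ker P.toRingHom from RingHom.mem_ker.2 hy0) L
      rw [hL] at this
      exact Ideal.mem_bot.1 this
    have h2 : ∀ i : ℕ, r * y ^ i = c ^ i • r := fun i => by
      induction i with
      | zero => simp
      | succ i ih => rw [pow_succ, ← mul_assoc, ih, smul_mul_assoc, hc, smul_smul, pow_succ]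
    have h3 := h2 L
    rw [hyN, mul_zero] at h3
    rw [hc, eq_zero_of_pow_eq_zero ((smul_eq_zero.1 h3.symm).resolve_right hr0), zero_smul]
  -- an annihilating central element is a multiple of `r`
  let o : Fin d := 0
  have hann : ∀ x ∈ cenBelow k e, (∀ y ∈ cenBelow k e, P y = 0 → x * y = 0) →
      ∃ s : k, x = s • r := by
    intro x hx hx0
    have hker' : ∀ x ∈ cenBelow k e, (∀ y ∈ cenBelow k e, P y = 0 → x * y = 0) →
        ∀ a, P a = 0 → x * a = 0 := by
      intro x hx hx0 a ha
      obtain ⟨hxc, hxe⟩ := mem_cenBelow.1 hx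
      obtain ⟨Z, U, hZ, hZU, hZ0, -⟩ := hgen (e * a) (by rw [← mul_assoc, hee])
      rw [show x * a = x * (e * a) by rw [← mul_assoc, ← hxc e, hxe], hZU, Finset.mul_sum]
      refine Finset.sum_eq_zero fun i _ => ?_
      rw [Finset.mul_sum]
      refine Finset.sum_eq_zero fun j _ => ?_
      rw [← mul_assoc, hx0 _ (hZ i j) (hZ0 (by rw [map_mul, ha, mul_zero]) i j), zero_mul]
    have hcoef : ∀ g : G, ∃ c : Fin d → Fin d → k,
        P (e * MonoidAlgebra.single g 1) = ∑ i, ∑ j, c i j • ε i j := by
      intro g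
      obtain ⟨Z, U, hZ, hZU, -, hU⟩ :=
        hgen (e * MonoidAlgebra.single g 1) (by rw [← mul_assoc, hee])
      choose c hc using fun i j => hscal _ (hZ i j)
      refine ⟨c, ?_⟩
      rw [hZU]
      simp only [map_sum, map_mul, hc, hU, smul_mul_assoc]
      refine Finset.sum_congr rfl fun i _ => Finset.sum_congr rfl fun j _ => ?_
      congr 1
      rw [← hεs, Finset.sum_mul, Finset.sum_eq_single i] <;> simp +contextual [hεm]
    choose c hc using hcoef
    have hform : ∀ x ∈ cenBelow k e, (∀ a, P a = 0 → x * a = 0) →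
        ∀ g, x.coeff g⁻¹ = (∑ i, c g i i) * (x * ul o o).coeff 1 := by
      intro x hx hxk g
      obtain ⟨hxc, hxe⟩ := mem_cenBelow.1 hx
      have hsub : ∀ a b, P a = P b → x * a = x * b := fun a b h => by
        rw [← sub_eq_zero, ← mul_sub]
        exact hxk _ (by rw [map_sub, h, sub_self])
      have e1 : x * (e * MonoidAlgebra.single g 1) = x * ∑ i, ∑ j, c g i j • ul i j :=
        hsub _ _ (by simp only [hc, map_sum, map_smul, hul])
      have e2 : x.coeff g⁻¹ = (x * (e * MonoidAlgebra.single g 1)).coeff 1 := by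
        rw [← mul_assoc, ← hxc e, hxe, BrandtBlock42.coeff_mul_single', one_mul]
      have hswap : ∀ a b : (MonoidAlgebra k G), (a * b).coeff 1 = (b * a).coeff 1 := fun a b => by
        rw [BrandtBlock42.coeff_mul', BrandtBlock42.coeff_mul']
        refine Fintype.sum_equiv (Equiv.inv G) _ _ fun y => ?_
        simp [mul_comm]
      have htr : ∀ a b : (MonoidAlgebra k G), (x * (a * b)).coeff 1 = (x * (b * a)).coeff 1 := fun a b => by
        rw [← mul_assoc, hswap, ← mul_assoc, hxc, mul_assoc]
      have e3 : ∀ i j, (x * ul i j).coeff 1 = if i = j then (x * ul o o).coeff 1 else 0 := by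
        intro i j
        rw [hsub (ul i j) (ul i o * ul o j) (by rw [map_mul, hul, hul, hul, hεm, if_pos rfl]), htr]
        split_ifs with h
        · subst h
          rw [hsub (ul o i * ul i o) (ul o o) (by rw [map_mul, hul, hul, hul, hεm, if_pos rfl])]
        · rw [hsub (ul o j * ul i o) 0 (by rw [map_mul, hul, hul, hεm, if_neg (Ne.symm h), map_zero]),
            mul_zero]
          rfl
      rw [e2, e1, Finset.mul_sum, MonoidAlgebra.coeff_sum, Finsupp.finsetSum_apply, Finset.sum_mul]
      refine Finset.sum_congr rfl fun i _ => ?_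
      rw [Finset.mul_sum, MonoidAlgebra.coeff_sum, Finsupp.finsetSum_apply, Finset.sum_eq_single i]
      · rw [mul_smul_comm, MonoidAlgebra.coeff_smul, Finsupp.smul_apply, smul_eq_mul, e3, if_pos rfl]
      · intro j _ hj
        rw [mul_smul_comm, MonoidAlgebra.coeff_smul, Finsupp.smul_apply, smul_eq_mul, e3,
          if_neg (Ne.symm hj), mul_zero]
      · simp
    have hr1 := hform r hrcen (hker' r hrcen hrJ)
    have hx1 := hform x hx (hker' x hx hx0)
    have hσ : (r * ul o o).coeff 1 ≠ 0 := fun h => hr0 (MonoidAlgebra.ext (Finsupp.ext fun g => by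
      have := hr1 g⁻¹
      rw [inv_inv, h, mul_zero] at this
      simpa using this))
    refine ⟨(x * ul o o).coeff 1 / (r * ul o o).coeff 1, MonoidAlgebra.ext (Finsupp.ext fun g => ?_)⟩
    have e1 := hx1 g⁻¹
    have e2 := hr1 g⁻¹
    rw [inv_inv] at e1 e2
    rw [MonoidAlgebra.coeff_smul, Finsupp.smul_apply, smul_eq_mul, e1, e2]
    field_simp
  -- descent
  obtain ⟨L, hL⟩ := hnil
  suffices key : ∀ i : ℕ, ∀ z ∈ cenBelow k e, rk (Cen D) z = 0 →
      z ∈ RingHom.ker P.toRingHom ^ (L + 1 - i) → z = 0 by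
    refine key (L + 1) z hz hz0 ?_
    rw [Nat.sub_self, Submodule.pow_zero, Ideal.one_eq_top]
    trivial
  intro i
  induction i with
  | zero =>
    intro z _ _ hzK
    rw [Nat.sub_zero, Submodule.pow_succ, hL] at hzK
    simpa using hzK
  | succ i ih =>
    intro z hz hz0 hzK
    by_cases hann' : ∀ y ∈ cenBelow k e, P y = 0 → z * y = 0
    · obtain ⟨s, rfl⟩ := hann z hz hann'
      rw [map_smul, smul_eq_zero] at hz0
      rw [hz0.resolve_right hrD, zero_smul]
    · push Not at hann'
      obtain ⟨y, hy, hy0, hne⟩ := hann'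
      refine absurd (ih (z * y) ?_ ?_ ?_) hne
      · obtain ⟨hzc, hze⟩ := mem_cenBelow.1 hz
        refine mem_cenBelow.2 ⟨fun a => ?_, by rw [← mul_assoc, hze]⟩
        rw [← mul_assoc, hzc, mul_assoc, (mem_cenBelow.1 hy).1, mul_assoc]
      · rw [rk_mul hM π hπ hD hBi hz hy, hz0, zero_mul]
      · have h1 : z * y ∈ RingHom.ker P.toRingHom ^ (L + 1 - (i + 1)) * RingHom.ker P.toRingHom :=
          Ideal.mul_mem_mul hzK (RingHom.mem_ker.2 hy0)
        rcases Nat.lt_or_ge i (L + 1) with hi | hi
        · rw [show L + 1 - i = (L + 1 - (i + 1)) + 1 by omega, Submodule.pow_succ]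
          exact h1
        · rw [Nat.sub_eq_zero_of_le hi, Submodule.pow_zero, Ideal.one_eq_top]
          trivial

end Cfsg.Agent.EqualDeg80Socle
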