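import Mathlib

/-!
Doubly transitive groups with an involution `t` such that every non-identity element commuting
with `t` fixes as many points as `t`: the swapping elements of every pair of points are conjugates
of `t`, and inverting the (abelian) two-point stabiliser.
-/

set_option autoImplicit false
set_option linter.unusedSectionVars false
set_option linter.style.haveILetI false

namespace Cfsg.Agent.EqualFixity79

open MulAction

universe u v

variable {G : Type u} [Group G] {Ω : Type v} [MulAction G Ω]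

/-- The number of fixed points of an element. -/
noncomputable def fx (Ω : Type v) [MulAction G Ω] (g : G) : ℕ := Nat.card {x : Ω // g • x = x}

theorem fx_conj (k g : G) : fx Ω (k * g * k⁻¹) = fx Ω g :=
  (Nat.card_congr ((MulAction.toPerm k).subtypeEquiv fun x => by
    simp [mul_smul, MulAction.toPerm_apply])).symm

theorem fx_one : fx Ω (1 : G) = Nat.card Ω :=
  Nat.card_congr (Equiv.subtypeUnivEquiv fun x => one_smul G x)

/-- A set stable under an involution has as many points as fixed points, modulo two. -/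
theorem parity [DecidableEq Ω] {u : G} (hu : u * u = 1) (s : Finset Ω) (hs : ∀ x ∈ s, u • x ∈ s) :
    (s.card : ZMod 2) = ((s.filter fun x => u • x = x).card : ZMod 2) := by
  have h : ∑ _x ∈ s.filter (fun x => ¬ u • x = x), (1 : ZMod 2) = 0 := by
    refine Finset.sum_involution (fun a _ => u • a) (fun a _ => by decide) (fun a ha _ => ?_)
      (fun a ha => ?_) (fun a _ => ?_)
    · exact (Finset.mem_filter.1 ha).2
    · rw [Finset.mem_filter] at ha ⊢
      refine ⟨hs a ha.1, fun e => ha.2 ?_⟩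
      exact MulAction.injective u e
    · rw [smul_smul, hu, one_smul]
  rw [Finset.sum_const, nsmul_one] at h
  rw [← Finset.card_filter_add_card_filter_not (fun x => u • x = x), Nat.cast_add, h, add_zero]

/-- The hypotheses: `t` is an involution with `i` fixed points and so is fixed-point count of every
non-identity element of its centraliser. -/
structure EqFix (Ω : Type v) [MulAction G Ω] (t : G) (i : ℕ) : Prop where
  two_pre : IsMultiplyPretransitive G Ω 2
  ne_one : t ≠ 1
  sq : t * t = 1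
  fix : fx Ω t = i
  cen : ∀ g : G, Commute g t → g ≠ 1 → fx Ω g = i

namespace EqFix

variable {t : G} {i : ℕ}

theorem exists_map (hE : EqFix Ω t i) {a b c d : Ω} (hab : a ≠ b) (hcd : c ≠ d) :
    ∃ g : G, g • a = c ∧ g • b = d :=
  (is_two_pretransitive_iff.1 hE.two_pre) hab hcd

theorem conj_sq (hE : EqFix Ω t i) {u : G} (hu : IsConj t u) : u * u = 1 ∧ u ≠ 1 := by
  obtain ⟨k, rfl⟩ := isConj_iff.1 hu
  refine ⟨?_, fun h => hE.ne_one ?_⟩
  · rw [show k * t * k⁻¹ * (k * t * k⁻¹) = k * (t * t) * k⁻¹ by group, hE.sq]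
    simp
  · have := congrArg (fun z => k⁻¹ * z * k) h
    simpa [mul_assoc] using this

theorem fix_conj (hE : EqFix Ω t i) {u : G} (hu : IsConj t u) : fx Ω u = i := by
  obtain ⟨k, rfl⟩ := isConj_iff.1 hu
  rw [fx_conj, hE.fix]

theorem fix_comm (hE : EqFix Ω t i) {u g : G} (hu : IsConj t u) (hgu : Commute g u) (hg : g ≠ 1) :
    fx Ω g = i := by
  obtain ⟨k, rfl⟩ := isConj_iff.1 hu
  have h1 : Commute (k⁻¹ * g * k) t := by
    have := congrArg (fun z => k⁻¹ * z * k) hgu.eq
    show k⁻¹ * g * k * t = t * (k⁻¹ * g * k)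
    simpa [mul_assoc] using this
  have h2 : k⁻¹ * g * k ≠ 1 := fun h => hg (by
    have := congrArg (fun z => k * z * k⁻¹) h
    simpa [mul_assoc] using this)
  have h3 := hE.cen _ h1 h2
  rwa [show k⁻¹ * g * k = k⁻¹ * g * (k⁻¹)⁻¹ by rw [inv_inv], fx_conj] at h3

variable [Finite G] [FaithfulSMul G Ω] [Finite Ω]

theorem fix_lt (hE : EqFix Ω t i) : i < Nat.card Ω := by
  rw [← hE.fix]
  refine lt_of_le_of_ne (Finite.card_subtype_le _) fun h => hE.ne_one ?_
  refine eq_of_smul_eq_smul (α := Ω) fun x => ?_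
  rw [one_smul]
  by_contra hx
  exact (Finite.card_subtype_lt (p := fun y => t • y = y) hx).ne h

theorem card_cen_le (hE : EqFix Ω t i) :
    Nat.card (Subgroup.centralizer ({t} : Set G)) + i ≤ Nat.card Ω := by
  classical
  haveI := Fintype.ofFinite G
  haveI := Fintype.ofFinite Ω
  set C := Subgroup.centralizer ({t} : Set G)
  haveI := Fintype.ofFinite (orbitRel.Quotient C Ω)
  have hB := sum_card_fixedBy_eq_card_orbits_mul_card_group C Ω
  set N := Fintype.card (orbitRel.Quotient C Ω)
  have hsum : ∑ g : C, Fintype.card (fixedBy Ω g) =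
      Nat.card Ω + (Nat.card C - 1) * i := by
    have hfx : ∀ g : C, Fintype.card (fixedBy Ω g) = fx Ω (g : G) := fun g => by
      rw [← Nat.card_eq_fintype_card]; rfl
    rw [Finset.sum_congr rfl (fun g _ => hfx g),
      ← Finset.add_sum_erase _ _ (Finset.mem_univ (1 : C)),
      Finset.sum_const_nat (m := i), Finset.card_erase_of_mem (Finset.mem_univ _),
      Finset.card_univ, Nat.card_eq_fintype_card (α := C)]
    · rw [show ((1 : C) : G) = 1 from rfl, fx_one]
    · intro g hg
      refine hE.cen _ ?_ fun h => Finset.ne_of_mem_erase hg (Subtype.ext h)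
      exact Subgroup.mem_centralizer_singleton_iff.1 g.2
  rw [hsum] at hB
  obtain ⟨c, hc⟩ : ∃ c, Nat.card C = c + 1 := ⟨_, (Nat.sub_add_cancel Nat.card_pos).symm⟩
  rw [← Nat.card_eq_fintype_card (α := C), hc, Nat.add_sub_cancel] at hB
  have hlt := hE.fix_lt
  by_contra hle
  push Not at hle
  rcases le_or_gt N i with hN | hN
  · nlinarith
  · nlinarith

theorem card_conj (_hE : EqFix Ω t i) :
    Nat.card {u : G // IsConj t u} * Nat.card (Subgroup.centralizer ({t} : Set G)) = Nat.card G := by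
  classical
  set C := Subgroup.centralizer ({t} : Set G)
  let f : G → {u : G // IsConj t u} := fun g => ⟨g * t * g⁻¹, isConj_iff.2 ⟨g, rfl⟩⟩
  have hf : ∀ a b : G, f a = f b ↔ a⁻¹ * b ∈ C := fun a b => by
    rw [Subgroup.mem_centralizer_singleton_iff, Subtype.ext_iff]
    constructor
    · intro h
      have := congrArg (fun z => a⁻¹ * z * b) h
      simpa [f, mul_assoc] using this.symm
    · intro h
      have := congrArg (fun z => a * z * b⁻¹) h
      simpa [f, mul_assoc] using this.symm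
  let e : G ⧸ C → {u : G // IsConj t u} := Quotient.lift f fun a b h =>
    (hf a b).2 (QuotientGroup.leftRel_apply.1 h)
  have he : Function.Bijective e := by
    refine ⟨?_, ?_⟩
    · rintro ⟨a⟩ ⟨b⟩ h
      exact QuotientGroup.eq.2 ((hf a b).1 h)
    · rintro ⟨u, hu⟩
      obtain ⟨g, rfl⟩ := isConj_iff.1 hu
      exact ⟨QuotientGroup.mk g, rfl⟩
  rw [← Nat.card_eq_of_bijective e he, ← Subgroup.index_eq_card, Subgroup.index_mul_card]

theorem card_pairs (hE : EqFix Ω t i) {a b : Ω} (hab : a ≠ b) :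
    Nat.card {p : Ω × Ω // p.1 ≠ p.2} * Nat.card ↥(stabilizer G a ⊓ stabilizer G b) = Nat.card G := by
  classical
  set H := stabilizer G a ⊓ stabilizer G b
  let f : G → {p : Ω × Ω // p.1 ≠ p.2} := fun g =>
    ⟨(g • a, g • b), fun e => hab (MulAction.injective g e)⟩
  have hf : ∀ x y : G, f x = f y ↔ x⁻¹ * y ∈ H := fun x y => by
    simp only [f, Subtype.ext_iff, Prod.ext_iff, H, Subgroup.mem_inf, mem_stabilizer_iff, mul_smul,
      inv_smul_eq_iff]
    exact ⟨fun h => ⟨h.1.symm, h.2.symm⟩, fun h => ⟨h.1.symm, h.2.symm⟩⟩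
  let e : G ⧸ H → {p : Ω × Ω // p.1 ≠ p.2} := Quotient.lift f fun x y h =>
    (hf x y).2 (QuotientGroup.leftRel_apply.1 h)
  have he : Function.Bijective e := by
    refine ⟨?_, ?_⟩
    · rintro ⟨x⟩ ⟨y⟩ h
      exact QuotientGroup.eq.2 ((hf x y).1 h)
    · rintro ⟨⟨c, d⟩, hcd⟩
      obtain ⟨g, rfl, rfl⟩ := hE.exists_map hab hcd
      exact ⟨QuotientGroup.mk g, rfl⟩
  rw [← Nat.card_eq_of_bijective e he, ← Subgroup.index_eq_card, Subgroup.index_mul_card]

theorem card_moves_eq (hE : EqFix Ω t i) {a b c d : Ω} (hab : a ≠ b) (hcd : c ≠ d) :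
    Nat.card {u : G // IsConj t u ∧ u • a = b} = Nat.card {u : G // IsConj t u ∧ u • c = d} := by
  obtain ⟨k, rfl, rfl⟩ := hE.exists_map hab hcd
  refine Nat.card_congr ((MulAut.conj k).toEquiv.subtypeEquiv fun u => ?_)
  show IsConj t u ∧ u • a = b ↔ IsConj t (k * u * k⁻¹) ∧ (k * u * k⁻¹) • (k • a) = k • b
  rw [mul_smul, mul_smul, inv_smul_smul, smul_left_cancel_iff]
  refine and_congr_left fun _ => ⟨fun h => h.trans (isConj_iff.2 ⟨k, rfl⟩), fun h => h.trans
    (isConj_iff.2 ⟨k⁻¹, by group⟩)⟩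

theorem card_moves (hE : EqFix Ω t i) {a b : Ω} (hab : a ≠ b) :
    Nat.card {u : G // IsConj t u} * (Nat.card Ω - i) =
      Nat.card {p : Ω × Ω // p.1 ≠ p.2} * Nat.card {u : G // IsConj t u ∧ u • a = b} := by
  classical
  haveI := Fintype.ofFinite G
  haveI := Fintype.ofFinite Ω
  let L := Σ u : {u : G // IsConj t u}, {x : Ω // u.1 • x ≠ x}
  let R := Σ p : {p : Ω × Ω // p.1 ≠ p.2}, {u : G // IsConj t u ∧ u • p.1.1 = p.1.2}
  have e : L ≃ R :=
    { toFun := fun z => ⟨⟨(z.2.1, z.1.1 • z.2.1), fun h => z.2.2 h.symm⟩, z.1.1, z.1.2, rfl⟩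
      invFun := fun z => ⟨⟨z.2.1, z.2.2.1⟩, z.1.1.1, fun h => z.1.2 (h.symm.trans z.2.2.2)⟩
      left_inv := fun z => rfl
      right_inv := by
        rintro ⟨⟨⟨x, y⟩, hxy⟩, u, hu, he⟩
        change u • x = y at he
        subst he
        rfl }
  have h := Nat.card_congr e
  have hL : Nat.card L = Nat.card {u : G // IsConj t u} * (Nat.card Ω - i) := by
    rw [Nat.card_sigma, Finset.sum_const_nat (m := Nat.card Ω - i), Finset.card_univ,
      ← Nat.card_eq_fintype_card]
    intro u _
    rw [← hE.fix_conj u.2, fx, ← Nat.card_congr (Equiv.sumCompl fun x : Ω => u.1 • x = x),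
      Nat.card_sum, Nat.add_sub_cancel_left]
  have hR : Nat.card R = Nat.card {p : Ω × Ω // p.1 ≠ p.2} *
      Nat.card {u : G // IsConj t u ∧ u • a = b} := by
    rw [Nat.card_sigma, Finset.sum_const_nat (m := Nat.card {u : G // IsConj t u ∧ u • a = b}),
      Finset.card_univ, ← Nat.card_eq_fintype_card]
    intro p _
    exact (hE.card_moves_eq hab p.2).symm
  rw [← hL, h, hR]

/-- Every element interchanging two points is conjugate to `t`, there are as many as the two-point
stabiliser has elements, and `|C(t)| = n - i`. -/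
theorem key (hE : EqFix Ω t i) {a b : Ω} (hab : a ≠ b) :
    Nat.card (Subgroup.centralizer ({t} : Set G)) + i = Nat.card Ω ∧
      Nat.card {u : G // IsConj t u ∧ u • a = b} = Nat.card ↥(stabilizer G a ⊓ stabilizer G b) ∧
      ∀ g : G, g • a = b → g • b = a → IsConj t g := by
  classical
  let S := {g : G // g • a = b ∧ g • b = a}
  let j : {u : G // IsConj t u ∧ u • a = b} → S := fun u => ⟨u.1, u.2.2, by
    calc (u : G) • b = (u : G) • ((u : G) • a) := by rw [u.2.2]
      _ = a := by rw [smul_smul, (hE.conj_sq u.2.1).1, one_smul]⟩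
  have hj : Function.Injective j := fun x y h => Subtype.ext (congrArg (fun z : S => z.1) h)
  have hSH : Nat.card S ≤ Nat.card ↥(stabilizer G a ⊓ stabilizer G b) := by
    rcases isEmpty_or_nonempty S with h | h
    · simp
    obtain ⟨g₀, h0a, h0b⟩ := h
    refine Nat.card_le_card_of_injective (fun g : S => (⟨g₀⁻¹ * g.1, ?_⟩ : ↥(stabilizer G a ⊓ stabilizer G b))) fun x y h => ?_
    · simp only [Subgroup.mem_inf, mem_stabilizer_iff, mul_smul, inv_smul_eq_iff]
      exact ⟨g.2.1.trans h0a.symm, g.2.2.trans h0b.symm⟩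
    · exact Subtype.ext (mul_left_cancel (congrArg Subtype.val h))
  have hMS : Nat.card {u : G // IsConj t u ∧ u • a = b} ≤ Nat.card S := Nat.card_le_card_of_injective j hj
  have h1 := hE.card_conj
  have h2 := hE.card_pairs hab
  have h3 := hE.card_moves hab
  have hC := hE.card_cen_le
  have hP : 0 < Nat.card {p : Ω × Ω // p.1 ≠ p.2} :=
    Nat.card_pos_iff.2 ⟨⟨⟨(a, b), hab⟩⟩, inferInstance⟩
  have h4 : Nat.card {u : G // IsConj t u ∧ u • a = b} * Nat.card ↥(Subgroup.centralizer ({t} : Set G)) = Nat.card ↥(stabilizer G a ⊓ stabilizer G b) * (Nat.card Ω - i) := by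
    refine Nat.eq_of_mul_eq_mul_left hP ?_
    rw [← mul_assoc, ← h3, mul_right_comm, h1, ← h2]
    ring
  have hH : 0 < Nat.card ↥(stabilizer G a ⊓ stabilizer G b) := Nat.card_pos
  have hC1 : 0 < Nat.card ↥(Subgroup.centralizer ({t} : Set G)) := Nat.card_pos
  have hMH : Nat.card {u : G // IsConj t u ∧ u • a = b} = Nat.card ↥(stabilizer G a ⊓ stabilizer G b) := by
    refine le_antisymm (hMS.trans hSH) (Nat.le_of_mul_le_mul_right ?_ hC1)
    rw [h4]
    exact Nat.mul_le_mul_left _ (by omega)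
  refine ⟨?_, hMH, fun g ha hb => ?_⟩
  · rw [hMH] at h4
    have := Nat.eq_of_mul_eq_mul_left hH h4
    omega
  · obtain ⟨u, hu⟩ := ((Nat.bijective_iff_injective_and_card j).2 ⟨hj, by omega⟩).2 ⟨g, ha, hb⟩
    have e : u.1 = g := congrArg (fun z : S => z.1) hu
    rw [← e]
    exact u.2.1

theorem exists_swap (hE : EqFix Ω t i) {a b : Ω} (hab : a ≠ b) :
    ∃ u : G, IsConj t u ∧ u • a = b ∧ u • b = a := by
  have h : 0 < Nat.card {u : G // IsConj t u ∧ u • a = b} := by
    rw [(hE.key hab).2.1]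
    exact Nat.card_pos
  obtain ⟨⟨u, hu, hua⟩⟩ := (Nat.card_pos_iff.1 h).1
  exact ⟨u, hu, hua, by rw [← hua, smul_smul, (hE.conj_sq hu).1, one_smul]⟩

/-- An element interchanging two points inverts the stabiliser of both. -/
theorem inverts (hE : EqFix Ω t i) {a b : Ω} (hab : a ≠ b) {g x : G} (hga : g • a = b)
    (hgb : g • b = a) (hxa : x • a = a) (hxb : x • b = b) : g * x * g⁻¹ = x⁻¹ := by
  have h1 := (hE.conj_sq ((hE.key hab).2.2 g hga hgb)).1
  have h2 := (hE.conj_sq ((hE.key hab).2.2 (g * x) (by rw [mul_smul, hxa, hga])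
    (by rw [mul_smul, hxb, hgb]))).1
  rw [show g⁻¹ = g from inv_eq_of_mul_eq_one_right h1]
  exact eq_inv_of_mul_eq_one_left (by rw [← h2]; group)

theorem comm_two (hE : EqFix Ω t i) {a b : Ω} (hab : a ≠ b) {x y : G} (hxa : x • a = a)
    (hxb : x • b = b) (hya : y • a = a) (hyb : y • b = b) : x * y = y * x := by
  obtain ⟨g, -, hga, hgb⟩ := hE.exists_swap hab
  have h := hE.inverts hab hga hgb (x := x * y) (by rw [mul_smul, hya, hxa])
    (by rw [mul_smul, hyb, hxb])
  have hx := hE.inverts hab hga hgb hxa hxb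
  have hy := hE.inverts hab hga hgb hya hyb
  have h' : x⁻¹ * y⁻¹ = (x * y)⁻¹ := by
    rw [← h, ← hx, ← hy]
    group
  rw [mul_inv_rev] at h'
  simpa using congrArg (·⁻¹) h'.symm

end EqFix

end Cfsg.Agent.EqualFixity79
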