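import Cfsg.Agent.Lib.EqualFixity79Semi
import Cfsg.Agent.Lib.ZStarTheorem
import Cfsg.Agent.Lib.ZStarBasic
import Cfsg.Agent.Lib.HallCore
import Cfsg.Prelude.Def_Sz
import Cfsg.Agent.Lib.SharplyTwoTransitive
import Cfsg.Agent.Lib.SuzukiUniq67Main
import Cfsg.Agent.S0205
import Cfsg.Agent.S0338
import Cfsg.Agent.S0339

/-!
Doubly transitive groups with equal fixity on the centraliser of an involution: a regular normal
subgroup, or a simple Zassenhaus group, hence `PSL₂` or of Suzuki type.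
-/

set_option autoImplicit false
set_option linter.unusedSectionVars false
set_option linter.style.haveILetI false

namespace Cfsg.Agent.EqualFixity79

open MulAction

universe u v

variable {G : Type u} [Group G] [Finite G] {Ω : Type v} [MulAction G Ω]

/-- A normal subgroup acting regularly. -/
def HasRegular (G : Type u) (Ω : Type v) [Group G] [MulAction G Ω] : Prop :=
  ∃ R : Subgroup G, R.Normal ∧ (∀ x y : Ω, ∃ r ∈ R, r • x = y) ∧
    ∀ x : Ω, ∀ r ∈ R, r • x = x → r = 1

variable [FaithfulSMul G Ω]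

theorem transitive_of_normal (h2 : IsMultiplyPretransitive G Ω 2) {N : Subgroup G} (hN : N.Normal)
    (hN1 : N ≠ ⊥) : ∀ x y : Ω, ∃ r ∈ N, r • x = y := by
  intro x y
  rcases eq_or_ne x y with rfl | hxy
  · exact ⟨1, N.one_mem, one_smul G x⟩
  obtain ⟨n, hn, hn1⟩ := N.bot_or_exists_ne_one.resolve_left hN1
  obtain ⟨a, ha⟩ : ∃ a : Ω, n • a ≠ a := by
    by_contra h
    push Not at h
    exact hn1 (eq_of_smul_eq_smul fun a : Ω => by rw [h a, one_smul])
  obtain ⟨g, hga, hgb⟩ := (is_two_pretransitive_iff.1 h2) ha.symm hxy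
  exact ⟨g * n * g⁻¹, hN.conj_mem n hn g, by rw [← hga, mul_smul, mul_smul, inv_smul_smul, hgb]⟩

/-- A normal subgroup of odd order gives a regular normal subgroup. -/
theorem regular_of_odd_normal (h2 : IsMultiplyPretransitive G Ω 2) {N : Subgroup G} (hN : N.Normal)
    (hN1 : N ≠ ⊥) (hodd : Odd (Nat.card N)) : HasRegular G Ω := by
  classical
  haveI := hN
  have hsol : Group.IsSolvable N := Cfsg.Agent.S0205.result hodd
  obtain ⟨k, hk⟩ := (Group.isSolvable_def N).1 hsol
  set m := Nat.find (p := fun k => derivedSeries N k = ⊥) ⟨k, hk⟩ with hm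
  have hmspec : derivedSeries N m = ⊥ := Nat.find_spec (p := fun k => derivedSeries N k = ⊥) ⟨k, hk⟩
  obtain ⟨j, hj⟩ : ∃ j, m = j + 1 := by
    refine ⟨m - 1, (Nat.sub_add_cancel ?_).symm⟩
    by_contra h
    rw [show m = 0 by omega, derivedSeries_zero] at hmspec
    refine hN1 ?_
    rw [eq_bot_iff]
    intro x hx
    have : (⟨x, hx⟩ : N) ∈ (⊥ : Subgroup N) := hmspec ▸ Subgroup.mem_top _
    exact Subgroup.mem_bot.2 (congrArg Subtype.val (Subgroup.mem_bot.1 this))
  have hne : derivedSeries N j ≠ ⊥ :=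
    Nat.find_min (p := fun k => derivedSeries N k = ⊥) ⟨k, hk⟩ (show j < m by omega)
  rw [hj, derivedSeries_succ, Subgroup.commutator_eq_bot_iff_le_centralizer] at hmspec
  haveI := derivedSeries_characteristic N j
  set A := (derivedSeries N j).map N.subtype with hA
  have hAn : A.Normal := by rw [hA]; infer_instance
  have hA1 : A ≠ ⊥ := fun h => hne ((Subgroup.map_eq_bot_iff_of_injective _ N.subtype_injective).1 h)
  have hcomm : ∀ r ∈ A, ∀ s ∈ A, r * s = s * r := by
    rintro _ ⟨r, hr, rfl⟩ _ ⟨s, hs, rfl⟩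
    exact congrArg Subtype.val (Subgroup.mem_centralizer_iff.1 (hmspec hs) r hr)
  refine ⟨A, hAn, transitive_of_normal h2 hAn hA1, fun x r hr hrx => ?_⟩
  refine eq_of_smul_eq_smul fun y : Ω => ?_
  obtain ⟨s, hs, rfl⟩ := transitive_of_normal h2 hAn hA1 x y
  rw [one_smul, smul_smul, hcomm r hr s hs, mul_smul, hrx]

variable [Fintype Ω] [DecidableEq Ω]

theorem regular_of_isolated {t : G} {i : ℕ} (hE : EqFix Ω t i) (hi : i = 1)
    (huniq : ∀ v : G, v * v = 1 → v ≠ 1 → Commute v t → v = t) : HasRegular G Ω := by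
  classical
  haveI : Fact (Nat.Prime 2) := ⟨Nat.prime_two⟩
  have hto : orderOf t = 2 := orderOf_eq_prime (by rw [pow_two]; exact hE.sq) hE.ne_one
  obtain ⟨S, hS⟩ := (IsPGroup.of_card (n := 1) (G := Subgroup.zpowers t) (p := 2)
    (by rw [Nat.card_zpowers, pow_one, hto])).exists_le_sylow
  have htS : t ∈ S := hS (Subgroup.mem_zpowers t)
  haveI : Nontrivial (S : Subgroup G) :=
    ⟨⟨⟨t, htS⟩, 1, fun h => hE.ne_one (congrArg Subtype.val h)⟩⟩
  haveI := S.isPGroup'.center_nontrivial
  have hcdvd : 2 ∣ Nat.card (Subgroup.center (S : Subgroup G)) := by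
    obtain ⟨n, hn⟩ := IsPGroup.iff_card.1 (S.isPGroup'.to_subgroup (Subgroup.center _))
    rcases n with _ | n
    · rw [pow_zero] at hn
      have := Finite.one_lt_card (α := Subgroup.center (S : Subgroup G))
      omega
    · rw [hn]
      exact dvd_pow_self 2 (Nat.succ_ne_zero n)
  obtain ⟨z, hz⟩ := exists_prime_orderOf_dvd_card' 2 hcdvd
  have hz2 : ((z : (S : Subgroup G)) : G) * (z : (S : Subgroup G)) = 1 := by
    have := pow_orderOf_eq_one z
    rw [hz, pow_two] at this
    exact congrArg Subtype.val (congrArg Subtype.val this)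
  have hz1 : ((z : (S : Subgroup G)) : G) ≠ 1 := fun h => by
    rw [show z = 1 from Subtype.ext (Subtype.ext h), orderOf_one] at hz
    omega
  have hzt : ((z : (S : Subgroup G)) : G) = t := huniq _ hz2 hz1
    (congrArg Subtype.val (Subgroup.mem_center_iff.1 z.2 ⟨t, htS⟩)).symm
  have hiso : ∀ g : G, g * t * g⁻¹ ∈ S → g * t * g⁻¹ = t := fun g hg => by
    have hc := (hE.conj_sq (isConj_iff.2 ⟨g, rfl⟩))
    have h : (⟨g * t * g⁻¹, hg⟩ : (S : Subgroup G)) * z.1 = z.1 * ⟨g * t * g⁻¹, hg⟩ :=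
      Subgroup.mem_center_iff.1 z.2 _
    refine huniq _ hc.1 hc.2 ?_
    have h' := congrArg Subtype.val h
    simp only [Subgroup.coe_mul, hzt] at h'
    exact h'
  by_cases hO : Cfsg.pPrimeCore 2 G = ⊥
  · exfalso
    have hc := ZStarTheorem.mem_center_of_isolated
      (ZStarBasic.isolated_of_sylow S t hto htS hiso) hO
    obtain ⟨a, ha⟩ := Finset.card_pos.1 (show 0 < (fset Ω t).card by
      rw [card_fset, hE.fix]; omega)
    haveI := isPretransitive_of_is_two_pretransitive (h2 := hE.two_pre)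
    have hall : ∀ b : Ω, t • b = b := fun b => by
      obtain ⟨g, rfl⟩ := exists_smul_eq G a b
      rw [smul_smul, ← Subgroup.mem_center_iff.1 hc g, mul_smul, mem_fset.1 ha]
    exact hE.ne_one (eq_of_smul_eq_smul fun b : Ω => by rw [hall b, one_smul])
  · exact regular_of_odd_normal hE.two_pre (HallCore.pPrimeCore_normal 2 G) hO
      (Nat.coprime_two_right.1 (HallCore.coprime_card_pPrimeCore 2 G))

/-- The classification. -/
theorem classify {t : G} {i : ℕ} (hE : EqFix Ω t i) (hn : 3 ≤ Nat.card Ω) :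
    (∃ (F : Type) (_ : Field F) (_ : Fintype F),
      Nonempty (G ≃* Matrix.ProjectiveSpecialLinearGroup (Fin 2) F)) ∨
      Cfsg.Lie.IsoSuzuki G ∨ HasRegular G Ω := by
  classical
  rcases hE.semiregular with hsemi | ⟨hi, huniq⟩
  swap
  · exact Or.inr (Or.inr (regular_of_isolated hE hi huniq))
  have h3 : ∀ (g : G) (a b c : Ω), a ≠ b → b ≠ c → a ≠ c → g • a = a → g • b = b → g • c = c →
      g = 1 := by
    intro g a b c hab hbc hac ha hb hc
    by_contra hg
    have h1 : ({a, b, c} : Finset Ω) ⊆ fset Ω g := by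
      intro x hx
      simp only [Finset.mem_insert, Finset.mem_singleton] at hx
      rcases hx with rfl | rfl | rfl <;> rw [mem_fset] <;> assumption
    have h2 := (Finset.card_le_card h1).trans (hsemi g hg)
    rw [Finset.card_eq_three.2 ⟨a, b, c, hab, hac, hbc, rfl⟩] at h2
    omega
  by_cases hnt : ∃ g : G, g ≠ 1 ∧ ∃ a b : Ω, a ≠ b ∧ g • a = a ∧ g • b = b
  swap
  · -- sharply doubly transitive
    push Not at hnt
    obtain ⟨K, p, j, -, -, -, -, -, hKn, -, -, hKiff, hKt⟩ :=
      SharplyTwoTransitive.kernel_exists (G := G) (X := Ω) hE.two_pre (fun g a b hab ha hb =>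
        by_contra fun h => hnt g h a b hab ha hb) (by omega)
    refine Or.inr (Or.inr ⟨K, hKn, fun x y => ?_, fun x r hr hrx =>
      ((hKiff r).1 hr).resolve_right fun h => h x hrx⟩)
    obtain ⟨r, hr⟩ := hKt.exists_smul_eq x y
    exact ⟨r.1, r.2, hr⟩
  by_cases hreg : HasRegular G Ω
  · exact Or.inr (Or.inr hreg)
  have hZ : Cfsg.IsZassenhausGroup G Ω := by
    refine ⟨inferInstance, hE.two_pre, h3, hnt, fun N hN hNt => ?_⟩
    by_contra hcon
    push Not at hcon
    refine hreg ⟨N, hN, fun x y => ?_, fun x r hr hrx => ?_⟩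
    · obtain ⟨r, hr⟩ := hNt.exists_smul_eq x y
      exact ⟨r.1, r.2, hr⟩
    · have hm : (⟨r, hr⟩ : N) ∈ stabilizer N x := hrx
      rw [hcon x, Subgroup.mem_bot] at hm
      exact congrArg Subtype.val hm
  haveI : IsSimpleGroup G := by
    rcases Nat.even_or_odd (Nat.card Ω) with hev | hodd
    swap
    · exact Cfsg.Agent.S0338.result hZ (Nat.card_eq_fintype_card (α := Ω) ▸ hodd)
    haveI : Nontrivial G := by
      obtain ⟨g, hg, -⟩ := hnt
      exact ⟨⟨g, 1, hg⟩⟩
    refine @IsSimpleGroup.mk G _ _ fun N hN => ?_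
    rcases eq_or_ne N ⊥ with h | hN1
    · exact Or.inl h
    refine Or.inr ?_
    have htr := transitive_of_normal hE.two_pre hN hN1
    haveI : IsPretransitive N Ω := ⟨fun x y => by
      obtain ⟨r, hr, e⟩ := htr x y
      exact ⟨⟨r, hr⟩, e⟩⟩
    haveI : Fact (Nat.Prime 2) := ⟨Nat.prime_two⟩
    obtain ⟨a⟩ : Nonempty Ω := (Nat.card_pos_iff.1 (by omega)).1
    have hdvd : 2 ∣ Nat.card N := (even_iff_two_dvd.1 hev).trans (by
      rw [← index_stabilizer_of_transitive N a]
      exact Subgroup.index_dvd_card _)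
    obtain ⟨v, hv⟩ := exists_prime_orderOf_dvd_card' 2 hdvd
    have hv2 : (v : G) * v = 1 := by
      have := pow_orderOf_eq_one v
      rw [hv, pow_two] at this
      exact congrArg Subtype.val this
    have hv1 : (v : G) ≠ 1 := fun h => by
      rw [show v = 1 from Subtype.ext h, orderOf_one] at hv
      omega
    obtain ⟨p, hp⟩ : ∃ p : Ω, (v : G) • p ≠ p := by
      by_contra h
      push Not at h
      exact hv1 (eq_of_smul_eq_smul fun p : Ω => by rw [h p, one_smul])
    have htv := (hE.key hp.symm).2.2 (v : G) rfl (by rw [smul_smul, hv2, one_smul])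
    have hconjN : ∀ u : G, IsConj t u → u ∈ N := fun u hu => by
      obtain ⟨k, hk⟩ := isConj_iff.1 (htv.symm.trans hu)
      exact hk ▸ hN.conj_mem _ v.2 k
    have hH : ∀ c d : Ω, c ≠ d → ∀ x : G, x • c = c → x • d = d → x ∈ N := by
      intro c d hcd x hc hd
      obtain ⟨u, hu, huc, hud⟩ := hE.exists_swap hcd
      have hux : IsConj t (u * x) := (hE.key hcd).2.2 _ (by rw [mul_smul, hc, huc])
        (by rw [mul_smul, hd, hud])
      have := N.mul_mem (N.inv_mem (hconjN u hu)) (hconjN _ hux)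
      rwa [inv_mul_cancel_left] at this
    have hZN := Cfsg.Agent.S0339.result hZ N hN1
    rw [Subgroup.eq_top_iff']
    intro g
    obtain ⟨b, hb⟩ : ∃ b : Ω, b ≠ a := by
      haveI : Nontrivial Ω := Finite.one_lt_card_iff_nontrivial.1 (by omega)
      exact exists_ne a
    obtain ⟨n, hna, hnb⟩ := (is_two_pretransitive_iff.1 hZN.2.1) hb.symm
      (fun e => hb.symm (MulAction.injective g e) : g • a ≠ g • b)
    have := N.mul_mem n.2 (hH a b hb.symm ((n : G)⁻¹ * g)
      (by rw [mul_smul, inv_smul_eq_iff]; exact hna.symm)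
      (by rw [mul_smul, inv_smul_eq_iff]; exact hnb.symm))
    rwa [mul_inv_cancel_left] at this
  rcases SuzukiUniq67.psl2_or_isoSuzuki hZ with h | h
  · exact Or.inl h
  · exact Or.inr (Or.inl h)

end Cfsg.Agent.EqualFixity79
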