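import Cfsg.Agent.Lib.EqualFixity79

/-!
Under the equal-fixity hypothesis a non-identity element fixes at most two points, unless the degree
is odd, `t` has a single fixed point and is the only involution of its centraliser.
-/

set_option autoImplicit false
set_option linter.unusedSectionVars false
set_option linter.style.haveILetI false

namespace Cfsg.Agent.EqualFixity79

open MulAction

universe u v

variable {G : Type u} [Group G] [Finite G] {Ω : Type v} [MulAction G Ω] [FaithfulSMul G Ω]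
  [Fintype Ω] [DecidableEq Ω]

/-- The fixed points of an element, as a finset. -/
def fset (Ω : Type v) [MulAction G Ω] [Fintype Ω] [DecidableEq Ω] (g : G) : Finset Ω :=
  Finset.univ.filter fun p => g • p = p

theorem mem_fset {g : G} {p : Ω} : p ∈ fset Ω g ↔ g • p = p := by
  simp [fset]

theorem card_fset (g : G) : (fset Ω g).card = fx Ω g := by
  rw [fx, Nat.card_eq_fintype_card, Fintype.card_subtype]
  rfl

theorem two_le_fx {g : G} {a b : Ω} (hab : a ≠ b) (ha : g • a = a) (hb : g • b = b) :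
    2 ≤ fx Ω g := by
  rw [← card_fset]
  exact Finset.one_lt_card.2 ⟨a, mem_fset.2 ha, b, mem_fset.2 hb, hab⟩

theorem mem_fset_comm {g x : G} (h : Commute g x) {p : Ω} (hp : p ∈ fset Ω x) :
    g • p ∈ fset Ω x := by
  rw [mem_fset] at hp ⊢
  rw [smul_smul, ← h.eq, mul_smul, hp]

theorem mem_fset_inv {g x : G} (h : g * x * g⁻¹ = x⁻¹) {p : Ω} (hp : p ∈ fset Ω x) :
    g • p ∈ fset Ω x := by
  rw [mem_fset] at hp ⊢
  have h' : x⁻¹ • (g • p) = g • p := by
    rw [← h, smul_smul, show g * x * g⁻¹ * g = g * x by group, mul_smul, hp]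
  calc x • (g • p) = x • (x⁻¹ • (g • p)) := by rw [h']
    _ = g • p := smul_inv_smul x _

theorem exists_third {s : Finset Ω} (hs : 3 ≤ s.card) (a b : Ω) : ∃ c ∈ s, c ≠ a ∧ c ≠ b := by
  have h : 0 < ((s.erase a).erase b).card := by
    have h1 := Finset.pred_card_le_card_erase (a := a) (s := s)
    have h2 := Finset.pred_card_le_card_erase (a := b) (s := s.erase a)
    omega
  obtain ⟨c, hc⟩ := Finset.card_pos.1 h
  simp only [Finset.mem_erase] at hc
  exact ⟨c, hc.2.2, hc.2.1, hc.1⟩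

namespace EqFix

variable {t : G} {i : ℕ}

theorem fix_unique (hE : EqFix Ω t i) (hi : i ≤ 1) {u : G} (hu : IsConj t u) {p q : Ω}
    (hp : u • p = p) (hq : u • q = q) : p = q := by
  by_contra h
  have h1 := two_le_fx h hp hq
  rw [hE.fix_conj hu] at h1
  omega

theorem no_inv (hE : EqFix Ω t i) (hi : i ≤ 1) {a b : Ω} (hab : a ≠ b) {x : G} (ha : x • a = a)
    (hb : x • b = b) (hx : x * x = 1) : x = 1 := by
  by_contra hne
  obtain ⟨g, hg, hga, hgb⟩ := hE.exists_swap hab
  have h := hE.inverts hab hga hgb ha hb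
  rw [inv_eq_of_mul_eq_one_right hx, mul_inv_eq_iff_eq_mul] at h
  have h1 := hE.fix_comm hg (show Commute x g from h.symm) hne
  have h2 := two_le_fx hab ha hb
  omega

/-- A moved pair inside the fixed set: an involution doing this inverts the element. -/
theorem inverts_moved (hE : EqFix Ω t i) {u x : G} (hu : u * u = 1) {p : Ω} (hp : x • p = p)
    (hup : x • (u • p) = u • p) (hmove : u • p ≠ p) : u * x * u⁻¹ = x⁻¹ :=
  hE.inverts hmove.symm rfl (by rw [smul_smul, hu, one_smul]) hp hup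

theorem sq_of_comm_inv {u x : G} (h : u * x * u⁻¹ = x⁻¹) (hc : Commute u x) : x * x = 1 := by
  rw [hc.eq, mul_inv_cancel_right] at h
  nth_rewrite 2 [h]
  exact mul_inv_cancel x

theorem comm_swap_swap (hE : EqFix Ω t i) {u w x : G} (hu : u * x * u⁻¹ = x⁻¹)
    (hw : w * x * w⁻¹ = x⁻¹) : Commute (u * w) x := by
  have h : u * w * x * (u * w)⁻¹ = x := by
    rw [show u * w * x * (u * w)⁻¹ = u * (w * x * w⁻¹) * u⁻¹ by group, hw,
      show u * x⁻¹ * u⁻¹ = (u * x * u⁻¹)⁻¹ by group, hu, inv_inv]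
  exact mul_inv_eq_iff_eq_mul.1 h

/-- The fixed set of a three-point fixer has odd size. -/
theorem fset_odd (hE : EqFix Ω t i) (hi : i ≤ 1) {x : G} (hx1 : x ≠ 1)
    (hf : 3 ≤ (fset Ω x).card) : Odd (fset Ω x).card := by
  rw [← Nat.not_even_iff_odd]
  intro hev
  obtain ⟨a, ha⟩ := Finset.card_pos.1 (show 0 < (fset Ω x).card by omega)
  set C := Subgroup.centralizer ({x} : Set G)
  have hCmem : ∀ g : G, g ∈ C ↔ Commute g x := fun g => Subgroup.mem_centralizer_singleton_iff
  have horb : orbit C a = (fset Ω x : Set Ω) := by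
    ext p
    constructor
    · rintro ⟨g, rfl⟩
      exact mem_fset_comm ((hCmem _).1 g.2) ha
    · intro hp
      rw [Finset.mem_coe] at hp
      rcases eq_or_ne p a with rfl | hpa
      · exact mem_orbit_self _
      obtain ⟨r, hr, hra, hrp⟩ := exists_third hf a p
      obtain ⟨u, -, hua, hur⟩ := hE.exists_swap hra.symm
      obtain ⟨w, -, hwr, hwp⟩ := hE.exists_swap hrp
      have h1 := hE.inverts hra.symm hua hur (mem_fset.1 ha) (mem_fset.1 hr)
      have h2 := hE.inverts hrp hwr hwp (mem_fset.1 hr) (mem_fset.1 hp)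
      exact ⟨⟨w * u, (hCmem _).2 (hE.comm_swap_swap h2 h1)⟩,
        show (w * u) • a = p by rw [mul_smul, hua, hwr]⟩
  have hdvd : 2 ∣ Nat.card C := by
    refine (even_iff_two_dvd.1 hev).trans ?_
    rw [← Set.ncard_coe_finset, ← horb, ← index_stabilizer]
    exact Subgroup.index_dvd_card _
  haveI : Fact (Nat.Prime 2) := ⟨Nat.prime_two⟩
  obtain ⟨v, hv⟩ := exists_prime_orderOf_dvd_card' 2 hdvd
  have hv2 : (v : G) * v = 1 := by
    have := pow_orderOf_eq_one v
    rw [hv, pow_two] at this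
    exact congrArg Subtype.val this
  have hv1 : (v : G) ≠ 1 := fun h => by
    rw [show v = 1 from Subtype.ext h, orderOf_one] at hv
    omega
  have hvx : Commute (v : G) x := (hCmem _).1 v.2
  by_cases hall : ∀ p ∈ fset Ω x, (v : G) • p = p
  · obtain ⟨b, hb, hba, -⟩ := exists_third hf a a
    exact hv1 (hE.no_inv hi hba.symm (hall a ha) (hall b hb) hv2)
  · push Not at hall
    obtain ⟨p, hp, hmove⟩ := hall
    have h := hE.inverts_moved hv2 (mem_fset.1 hp) (mem_fset.1 (mem_fset_comm hvx hp)) hmove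
    obtain ⟨b, hb, hba, -⟩ := exists_third hf a a
    exact hx1 (hE.no_inv hi hba.symm (mem_fset.1 ha) (mem_fset.1 hb) (sq_of_comm_inv h hvx))

/-- An involution swapping two points of an odd fixed set fixes a third one of them. -/
theorem exists_fixed_in (hE : EqFix Ω t i) (hi : i ≤ 1) {x : G} (hx1 : x ≠ 1)
    (hf : 3 ≤ (fset Ω x).card) {p q : Ω} (hp : p ∈ fset Ω x) (hq : q ∈ fset Ω x) (hpq : p ≠ q)
    {u : G} (hu : IsConj t u) (hup : u • p = q) : ∃ a ∈ fset Ω x, u • a = a := by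
  by_contra hcon
  push Not at hcon
  have hsq := (hE.conj_sq hu).1
  have hinv := hE.inverts_moved hsq (mem_fset.1 hp) (by rw [hup]; exact mem_fset.1 hq)
    (by rw [hup]; exact hpq.symm)
  have hpar := parity hsq (fset Ω x) fun r hr => mem_fset_inv hinv hr
  rw [Finset.filter_eq_empty_iff.2 fun r hr => hcon r hr, Finset.card_empty, Nat.cast_zero,
    ZMod.natCast_eq_zero_iff_even] at hpar
  exact Nat.not_even_iff_odd.2 (hE.fset_odd hi hx1 hf) hpar

theorem semiregular_zero (hE : EqFix Ω t i) (hi : i = 0) {x : G} (hx1 : x ≠ 1) :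
    (fset Ω x).card ≤ 2 := by
  by_contra hf
  obtain ⟨p, hp⟩ := Finset.card_pos.1 (show 0 < (fset Ω x).card by omega)
  obtain ⟨q, hq, hqp, -⟩ := exists_third (show 3 ≤ (fset Ω x).card by omega) p p
  obtain ⟨u, hu, hup, -⟩ := hE.exists_swap hqp.symm
  obtain ⟨a, -, ha⟩ := hE.exists_fixed_in (by omega) hx1 (by omega) hp hq hqp.symm hu hup
  have h := hE.fix_conj hu
  have h0 : 0 < fx Ω u := by
    rw [← card_fset]
    exact Finset.card_pos.2 ⟨a, mem_fset.2 ha⟩
  omega

theorem card_fixing (hE : EqFix Ω t i) (hi : i = 1) {a b : Ω} (hab : a ≠ b) :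
    Nat.card {u : G // IsConj t u ∧ u • a = a} =
      Nat.card ↥(stabilizer G a ⊓ stabilizer G b) := by
  classical
  haveI := Fintype.ofFinite G
  subst hi
  have hconst : ∀ c : Ω, Nat.card {u : G // IsConj t u ∧ u • c = c} =
      Nat.card {u : G // IsConj t u ∧ u • a = a} := fun c => by
    haveI := isPretransitive_of_is_two_pretransitive (h2 := hE.two_pre)
    obtain ⟨k, rfl⟩ := exists_smul_eq G a c
    refine (Nat.card_congr ((MulAut.conj k).toEquiv.subtypeEquiv fun u => ?_)).symm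
    show IsConj t u ∧ u • a = a ↔ IsConj t (k * u * k⁻¹) ∧ (k * u * k⁻¹) • (k • a) = k • a
    rw [mul_smul, mul_smul, inv_smul_smul, smul_left_cancel_iff]
    exact and_congr_left fun _ => ⟨fun h => h.trans (isConj_iff.2 ⟨k, rfl⟩), fun h => h.trans
      (isConj_iff.2 ⟨k⁻¹, by group⟩)⟩
  let e : (Σ u : {u : G // IsConj t u}, {c : Ω // u.1 • c = c}) ≃
      Σ c : Ω, {u : G // IsConj t u ∧ u • c = c} :=
    { toFun := fun z => ⟨z.2.1, z.1.1, z.1.2, z.2.2⟩
      invFun := fun z => ⟨⟨z.2.1, z.2.2.1⟩, z.1, z.2.2.2⟩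
      left_inv := fun z => rfl
      right_inv := fun z => rfl }
  have h := Nat.card_congr e
  have hone : ∀ u ∈ (Finset.univ : Finset {u : G // IsConj t u}),
      Nat.card {c : Ω // u.1 • c = c} = 1 := fun u _ => hE.fix_conj u.2
  rw [Nat.card_sigma, Nat.card_sigma, Finset.sum_const_nat hone,
    Finset.sum_const_nat (fun c _ => hconst c), Finset.card_univ, Finset.card_univ, mul_one] at h
  have h1 := hE.card_conj
  have h2 := hE.card_pairs hab
  have h3 := (hE.key hab).1
  have hp : Nat.card {p : Ω × Ω // p.1 ≠ p.2} = Nat.card Ω * (Nat.card Ω - 1) := by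
    have hd : Nat.card {p : Ω × Ω // p.1 = p.2} = Nat.card Ω := Nat.card_congr
      { toFun := fun p => p.1.1
        invFun := fun c => ⟨(c, c), rfl⟩
        left_inv := fun p => Subtype.ext (Prod.ext rfl p.2)
        right_inv := fun c => rfl }
    have hs := Nat.card_congr (Equiv.sumCompl fun p : Ω × Ω => p.1 = p.2)
    rw [Nat.card_sum, hd, Nat.card_prod] at hs
    rw [Nat.mul_sub, mul_one, ← hs, Nat.add_sub_cancel_left]
  rw [hp, show Nat.card Ω - 1 = Nat.card (Subgroup.centralizer ({t} : Set G)) by omega] at h2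
  rw [Nat.card_eq_fintype_card (α := {u : G // IsConj t u}), h, ← Nat.card_eq_fintype_card] at h1
  have hn : 0 < Nat.card Ω := by
    rw [Nat.card_eq_fintype_card]
    exact Fintype.card_pos_iff.2 ⟨a⟩
  have hC : 0 < Nat.card (Subgroup.centralizer ({t} : Set G)) := Nat.card_pos
  refine Nat.eq_of_mul_eq_mul_left (Nat.mul_pos hn hC) ?_
  rw [h2, ← h1]
  ring

/-- All conjugates of `t` fixing a point of the fixed set of a three-point fixer invert it. -/
theorem inverts_all (hE : EqFix Ω t i) (hi : i = 1) {x : G} (hx1 : x ≠ 1)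
    (hf : 3 ≤ (fset Ω x).card) {a : Ω} (ha : a ∈ fset Ω x) {u : G} (hu : IsConj t u)
    (hua : u • a = a) {p : Ω} (hp : p ∈ fset Ω x) (hpa : p ≠ a) :
    u • p ∈ fset Ω x ∧ u * x * u⁻¹ = x⁻¹ := by
  classical
  haveI := Fintype.ofFinite G
  let P := {pq : Ω × Ω // pq.1 ∈ fset Ω x ∧ pq.2 ∈ fset Ω x ∧ pq.1 ≠ pq.2}
  let A := Σ z : P, {w : G // IsConj t w ∧ w • z.1.1 = z.1.2}
  let B := Σ z : P, {w : G // IsConj t w ∧ w • z.1.1 = z.1.1}
  have hex : ∀ z : A, ∃ c ∈ fset Ω x, z.2.1 • c = c := fun z =>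
    hE.exists_fixed_in (by omega) hx1 hf z.1.2.1 z.1.2.2.1 z.1.2.2.2 z.2.2.1 z.2.2.2
  choose c hc hcfix using hex
  let φ : A → B := fun z => ⟨⟨(c z, z.1.1.1), hc z, z.1.2.1, fun e => z.1.2.2.2 (by
    have h1 := hcfix z
    rw [show c z = z.1.1.1 from e] at h1
    exact h1.symm.trans z.2.2.2)⟩, z.2.1, z.2.2.1, hcfix z⟩
  have hφ : Function.Injective φ := by
    rintro ⟨⟨⟨p₁, q₁⟩, hz₁⟩, w₁, hw₁, e₁⟩ ⟨⟨⟨p₂, q₂⟩, hz₂⟩, w₂, hw₂, e₂⟩ h
    have hw : w₁ = w₂ := congrArg (fun z : B => z.2.1) h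
    have hp' : p₁ = p₂ := congrArg (fun z : B => z.1.1.2) h
    change w₁ • p₁ = q₁ at e₁
    change w₂ • p₂ = q₂ at e₂
    subst hw hp' e₁ e₂
    rfl
  have hcard : Nat.card A = Nat.card B := by
    rw [Nat.card_sigma, Nat.card_sigma]
    refine Finset.sum_congr rfl fun z _ => ?_
    rw [(hE.key z.2.2.2).2.1, hE.card_fixing hi z.2.2.2]
  obtain ⟨⟨⟨⟨p', q'⟩, hz⟩, w, hw, e'⟩, hzz⟩ :=
    ((Nat.bijective_iff_injective_and_card φ).2 ⟨hφ, hcard⟩).2
      ⟨⟨(a, p), ha, hp, hpa.symm⟩, u, hu, hua⟩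
  obtain rfl : w = u := congrArg (fun z : B => z.2.1) hzz
  obtain rfl : p' = p := congrArg (fun z : B => z.1.1.2) hzz
  have hq : w • p' = q' := e'
  have hmove : w • p' ≠ p' := fun h => hpa (hE.fix_unique (by omega) hu h hua)
  refine ⟨hq ▸ hz.2.1, hE.inverts_moved (hE.conj_sq hu).1 (mem_fset.1 hp) ?_ hmove⟩
  rw [hq]
  exact mem_fset.1 hz.2.1

/-- If some non-identity element fixes three points, `t` is the only involution of its
centraliser. -/
theorem unique_involution (hE : EqFix Ω t i) (hi : i = 1) {x : G} (hx1 : x ≠ 1)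
    (hf : 3 ≤ (fset Ω x).card) {v : G} (hv2 : v * v = 1) (hv1 : v ≠ 1) (hvt : Commute v t) :
    v = t := by
  by_contra hne
  obtain ⟨a, ha⟩ := Finset.card_pos.1 (show 0 < (fset Ω x).card by omega)
  obtain ⟨p, hp, hpa, -⟩ := exists_third hf a a
  obtain ⟨a₀, ha₀⟩ := Finset.card_pos.1 (show 0 < (fset Ω t).card by
    rw [card_fset, hE.fix]; omega)
  haveI := isPretransitive_of_is_two_pretransitive (h2 := hE.two_pre)
  obtain ⟨k, hk⟩ := exists_smul_eq G a₀ a
  -- move `v` and `t` so that they fix `a`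
  have hu : IsConj t (k * t * k⁻¹) := isConj_iff.2 ⟨k, rfl⟩
  have hua : (k * t * k⁻¹) • a = a := by
    rw [← hk, mul_smul, mul_smul, inv_smul_smul, mem_fset.1 ha₀]
  set w := k * v * k⁻¹ with hw
  have hw2 : w * w = 1 := by
    rw [hw, show k * v * k⁻¹ * (k * v * k⁻¹) = k * (v * v) * k⁻¹ by group, hv2]
    simp
  have hw1 : w ≠ 1 := fun h => hv1 (by
    have := congrArg (fun z => k⁻¹ * z * k) h
    simpa [hw, mul_assoc] using this)
  have hwne : w ≠ k * t * k⁻¹ := fun h => hne (by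
    have := congrArg (fun z => k⁻¹ * z * k) h
    simpa [hw, mul_assoc] using this)
  have hwu : Commute w (k * t * k⁻¹) := by
    show k * v * k⁻¹ * (k * t * k⁻¹) = k * t * k⁻¹ * (k * v * k⁻¹)
    rw [show k * v * k⁻¹ * (k * t * k⁻¹) = k * (v * t) * k⁻¹ by group, hvt.eq]
    group
  have key : ∀ s : G, s * s = 1 → s ≠ 1 → Commute s (k * t * k⁻¹) → s * x * s⁻¹ = x⁻¹ := by
    intro s hs2 hs1 hsu
    have hsa : s • a = a := hE.fix_unique (by omega) hu
      (by rw [smul_smul, ← hsu.eq, mul_smul, hua]) hua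
    have hsp : s • p ≠ p := fun h => by
      have h1 := two_le_fx hpa h hsa
      rw [hE.fix_comm hu hsu hs1] at h1
      omega
    have hsT : IsConj t s :=
      (hE.key hsp.symm).2.2 s rfl (by rw [smul_smul, hs2, one_smul])
    exact (hE.inverts_all hi hx1 hf ha hsT hsa hp hpa).2
  have h1 := key w hw2 hw1 hwu
  have h2 := key (k * t * k⁻¹) (hE.conj_sq hu).1 (hE.conj_sq hu).2 (Commute.refl _)
  have h3 := key (w * (k * t * k⁻¹)) (by
      calc w * (k * t * k⁻¹) * (w * (k * t * k⁻¹)) = w * ((k * t * k⁻¹) * w) * (k * t * k⁻¹) := by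
            simp only [mul_assoc]
        _ = w * (w * (k * t * k⁻¹)) * (k * t * k⁻¹) := by rw [hwu.eq]
        _ = (w * w) * ((k * t * k⁻¹) * (k * t * k⁻¹)) := by simp only [mul_assoc]
        _ = 1 := by rw [hw2, (hE.conj_sq hu).1, one_mul])
    (fun h => hwne (by
      rw [mul_eq_one_iff_eq_inv] at h
      rwa [inv_eq_of_mul_eq_one_right (hE.conj_sq hu).1] at h))
    (hwu.mul_left (Commute.refl _))
  have h4 := hE.comm_swap_swap h1 h2
  obtain ⟨b, hb, hba, -⟩ := exists_third hf a a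
  exact hx1 (hE.no_inv (by omega) hba (mem_fset.1 hb) (mem_fset.1 ha) (sq_of_comm_inv h3 h4))

/-! ### At least two fixed points -/

theorem exists_conj_fixing (hE : EqFix Ω t i) (hi : 2 ≤ i) {a b : Ω} (hab : a ≠ b) :
    ∃ u : G, IsConj t u ∧ u • a = a ∧ u • b = b := by
  have h : 1 < (fset Ω t).card := by rw [card_fset, hE.fix]; omega
  obtain ⟨p, hp, q, hq, hpq⟩ := Finset.one_lt_card.1 h
  obtain ⟨k, rfl, rfl⟩ := hE.exists_map hpq hab
  exact ⟨k * t * k⁻¹, isConj_iff.2 ⟨k, rfl⟩,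
    by rw [mul_smul, mul_smul, inv_smul_smul, mem_fset.1 hp],
    by rw [mul_smul, mul_smul, inv_smul_smul, mem_fset.1 hq]⟩

theorem fix_eq (hE : EqFix Ω t i) (hi : 2 ≤ i) {a b : Ω} (hab : a ≠ b) {x : G} (hx1 : x ≠ 1)
    (ha : x • a = a) (hb : x • b = b) : fx Ω x = i := by
  obtain ⟨u, hu, hua, hub⟩ := hE.exists_conj_fixing hi hab
  exact hE.fix_comm hu (hE.comm_two hab ha hb hua hub) hx1

theorem card_two_eq (hE : EqFix Ω t i) {a b c d : Ω} (hab : a ≠ b) (hcd : c ≠ d) :
    Nat.card ↥(stabilizer G a ⊓ stabilizer G b) = Nat.card ↥(stabilizer G c ⊓ stabilizer G d) := by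
  rw [← (hE.key hab).2.1, ← (hE.key hcd).2.1, hE.card_moves_eq hab hcd]

/-- Two-point stabilisers of exponent two, at all pairs at once. -/
theorem exp_two (hE : EqFix Ω t i) {a b : Ω} (hab : a ≠ b)
    (h : ∀ z : G, z • a = a → z • b = b → z * z = 1) {c d : Ω} (hcd : c ≠ d) {z : G}
    (hc : z • c = c) (hd : z • d = d) : z * z = 1 := by
  obtain ⟨k, rfl, rfl⟩ := hE.exists_map hab hcd
  have h1 := h (k⁻¹ * z * k) (by rw [mul_smul, mul_smul, hc, inv_smul_smul])
    (by rw [mul_smul, mul_smul, hd, inv_smul_smul])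
  have h2 := congrArg (fun w => k * w * k⁻¹) h1
  simpa [mul_assoc] using h2

theorem cen_exp_two (hE : EqFix Ω t i) (hi : 2 ≤ i) {a b : Ω} (hab : a ≠ b)
    (h : ∀ z : G, z • a = a → z • b = b → z * z = 1) {u y : G} (hu : IsConj t u)
    (hy : Commute y u) : y * y = 1 := by
  rcases eq_or_ne y 1 with rfl | hy1
  · simp
  have h1 : 1 < (fset Ω y).card := by rw [card_fset, hE.fix_comm hu hy hy1]; omega
  obtain ⟨c, hc, d, hd, hcd⟩ := Finset.one_lt_card.1 h1
  exact hE.exp_two hab h hcd (mem_fset.1 hc) (mem_fset.1 hd)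

/-- A non-identity element fixing two points has the fixed set of a conjugate of `t` fixing
them. -/
theorem line (hE : EqFix Ω t i) (hi : 3 ≤ i) {a b : Ω} (hab : a ≠ b) {x u : G} (hx1 : x ≠ 1)
    (ha : x • a = a) (hb : x • b = b) (hu : IsConj t u) (hua : u • a = a) (hub : u • b = b) :
    fset Ω x = fset Ω u := by
  have hlong : ∀ z : G, z • a = a → z • b = b → z * z ≠ 1 → fset Ω z = fset Ω u := by
    intro z hza hzb hz
    refine Finset.eq_of_subset_of_card_le (fun c hc => ?_) ?_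
    · rw [mem_fset]
      by_contra hmove
      have hcomm : Commute u z := hE.comm_two hab hua hub hza hzb
      exact hz (sq_of_comm_inv (hE.inverts_moved (hE.conj_sq hu).1 (mem_fset.1 hc)
        (mem_fset.1 (mem_fset_comm hcomm hc)) hmove) hcomm)
    · rw [card_fset, card_fset, hE.fix_conj hu,
        hE.fix_eq (by omega) hab (fun h => hz (by simp [h])) hza hzb]
  by_cases hx : x * x = 1
  swap
  · exact hlong x ha hb hx
  refine (Finset.eq_of_subset_of_card_le (fun c hc => ?_) ?_).symm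
  swap
  · rw [card_fset, card_fset, hE.fix_conj hu, hE.fix_eq (by omega) hab hx1 ha hb]
  rw [mem_fset]
  by_contra hmove
  have hxu : Commute x u := hE.comm_two hab ha hb hua hub
  by_cases hexp : ∀ z : G, z • a = a → z • b = b → z * z = 1
  · -- exponent two
    have hd : x • c ∈ fset Ω u := mem_fset_comm hxu hc
    have hcd : c ≠ x • c := fun h => hmove h.symm
    have hsub : ∀ p, p ≠ c → u • p = p → x • p = p →
        stabilizer G p ⊓ stabilizer G c = stabilizer G c ⊓ stabilizer G (x • c) := by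
      intro p hpc hup hxp
      refine Subgroup.eq_of_le_of_card_ge (fun y hy => ?_) (hE.card_two_eq hpc hcd).ge
      obtain ⟨hyp, hyc⟩ : y • p = p ∧ y • c = c := hy
      have hyu : Commute y u := hE.comm_two hpc hyp hyc hup (mem_fset.1 hc)
      have h1 := hE.cen_exp_two (by omega) hab hexp hu hyu
      have h2 := hE.cen_exp_two (by omega) hab hexp hu (hyu.mul_left hxu)
      have hyx : y * x = x * y := by
        calc y * x = (y * x)⁻¹ := (inv_eq_of_mul_eq_one_right h2).symm
          _ = x * y := by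
            rw [mul_inv_rev, inv_eq_of_mul_eq_one_right hx, inv_eq_of_mul_eq_one_right h1]
      exact ⟨hyc, show y • (x • c) = x • c by rw [smul_smul, hyx, mul_smul, hyc]⟩
    have hca : a ≠ c := fun h => hmove (h ▸ ha)
    have hcb : b ≠ c := fun h => hmove (h ▸ hb)
    have h3 : stabilizer G a ⊓ stabilizer G c = stabilizer G b ⊓ stabilizer G c := by
      rw [hsub a hca hua ha, hsub b hcb hub hb]
    have h4 : stabilizer G a ⊓ stabilizer G c = stabilizer G a ⊓ stabilizer G b :=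
      Subgroup.eq_of_le_of_card_ge (le_inf inf_le_left (h3.le.trans inf_le_left))
        (hE.card_two_eq hca hab).ge
    have hx' : x ∈ stabilizer G a ⊓ stabilizer G b := ⟨ha, hb⟩
    rw [← h4] at hx'
    exact hmove hx'.2
  · push Not at hexp
    obtain ⟨z, hza, hzb, hz⟩ := hexp
    rw [← hlong z hza hzb hz] at hc
    have hcomm : Commute x z := hE.comm_two hab ha hb hza hzb
    exact hz (sq_of_comm_inv (hE.inverts_moved hx (mem_fset.1 hc)
      (mem_fset.1 (mem_fset_comm hcomm hc)) hmove) hcomm)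

theorem same (hE : EqFix Ω t i) (hi : 3 ≤ i) {a b : Ω} (hab : a ≠ b) {x y : G} (hx1 : x ≠ 1)
    (hy1 : y ≠ 1) (hxa : x • a = a) (hxb : x • b = b) (hya : y • a = a) (hyb : y • b = b) :
    fset Ω x = fset Ω y := by
  obtain ⟨u, hu, hua, hub⟩ := hE.exists_conj_fixing (by omega) hab
  rw [hE.line hi hab hx1 hxa hxb hu hua hub, hE.line hi hab hy1 hya hyb hu hua hub]

theorem comm_t_of_swap (hE : EqFix Ω t i) {a b : Ω} (hab : a ≠ b) (hta : t • a = a)
    (htb : t • b = b) {u : G} (hua : u • a = b) (hub : u • b = a) : Commute u t := by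
  have h := hE.inverts hab hua hub hta htb
  rw [inv_eq_of_mul_eq_one_right hE.sq] at h
  exact mul_inv_eq_iff_eq_mul.1 h

theorem sq_case (hE : EqFix Ω t i) (hi : 3 ≤ i) {y : G} (hy : Commute y t) {a : Ω}
    (hta : t • a = a) (hya : y • a = a) (hy2 : y * y ≠ 1) : fset Ω y = fset Ω t := by
  have hy1 : y ≠ 1 := fun h => hy2 (by simp [h])
  have h : 1 < (fset Ω y).card := by rw [card_fset, hE.cen y hy hy1]; omega
  obtain ⟨p, hp, hpa⟩ := Finset.exists_mem_ne h a
  by_cases hmove : t • p = p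
  · exact hE.same hi hpa hy1 hE.ne_one (mem_fset.1 hp) hya hmove hta
  · exact absurd (sq_of_comm_inv (hE.inverts_moved hE.sq (mem_fset.1 hp)
      (mem_fset.1 (mem_fset_comm hy.symm hp)) hmove) hy.symm) hy2

theorem even_case (hE : EqFix Ω t i) (hi : 3 ≤ i) (hev : Even i) {y : G} (hy : Commute y t)
    {a : Ω} (hta : t • a = a) (hya : y • a = a) (hy1 : y ≠ 1) : fset Ω y = fset Ω t := by
  by_cases hother : ∃ p, p ≠ a ∧ y • p = p ∧ t • p = p
  · obtain ⟨p, hpa, hyp, htp⟩ := hother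
    exact hE.same hi hpa hy1 hE.ne_one hyp hya htp hta
  exfalso
  have hpar := parity hE.sq (fset Ω y) fun r hr => mem_fset_comm hy.symm hr
  have hone : (fset Ω y).filter (fun r => t • r = r) = {a} := by
    ext r
    simp only [Finset.mem_filter, mem_fset, Finset.mem_singleton]
    refine ⟨fun h => by_contra fun hra => hother ⟨r, hra, h.1, h.2⟩, ?_⟩
    rintro rfl
    exact ⟨hya, hta⟩
  rw [hone, card_fset, hE.cen y hy hy1, Finset.card_singleton, Nat.cast_one] at hpar
  rw [(ZMod.natCast_eq_zero_iff_even).2 hev] at hpar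
  exact zero_ne_one hpar

theorem odd_absurd (hE : EqFix Ω t i) (hi : 3 ≤ i) (hodd : Odd i) : False := by
  have hcard : (fset Ω t).card = i := by rw [card_fset, hE.fix]
  obtain ⟨a, ha⟩ := Finset.card_pos.1 (show 0 < (fset Ω t).card by omega)
  obtain ⟨b, hb, hba, -⟩ := exists_third (show 3 ≤ (fset Ω t).card by omega) a a
  obtain ⟨u, hu, hua, hub⟩ := hE.exists_swap hba.symm
  have hut := hE.comm_t_of_swap hba.symm (mem_fset.1 ha) (mem_fset.1 hb) hua hub
  have hu1 := (hE.conj_sq hu).2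
  obtain ⟨e, he, hue⟩ : ∃ e ∈ fset Ω t, u • e = e := by
    by_contra hcon
    push Not at hcon
    have hpar := parity (hE.conj_sq hu).1 (fset Ω t) fun r hr => mem_fset_comm hut hr
    rw [Finset.filter_eq_empty_iff.2 fun r hr => hcon r hr, Finset.card_empty, Nat.cast_zero,
      ZMod.natCast_eq_zero_iff_even, hcard] at hpar
    exact Nat.not_even_iff_odd.2 hodd hpar
  have huniq : ∀ r ∈ fset Ω t, u • r = r → r = e := by
    intro r hr hur
    by_contra hre
    have h := hE.same hi hre hu1 hE.ne_one hur hue (mem_fset.1 hr) (mem_fset.1 he)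
    rw [← h, mem_fset, hua] at ha
    exact hba ha
  have hea : e ≠ a := fun h => hba (by rw [h, hua] at hue; exact hue)
  obtain ⟨w, hw, hwe, hwa⟩ := hE.exists_swap hea
  have hwt := hE.comm_t_of_swap hea (mem_fset.1 he) (mem_fset.1 ha) hwe hwa
  have hg : Commute (u * w) t := hut.mul_left hwt
  have hg2 : u * w * (u * w) ≠ 1 := by
    intro h
    have hcomm : u * w = w * u := by
      calc u * w = (u * w)⁻¹ := (inv_eq_of_mul_eq_one_right h).symm
        _ = w * u := by
          rw [mul_inv_rev, inv_eq_of_mul_eq_one_right (hE.conj_sq hu).1,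
            inv_eq_of_mul_eq_one_right (hE.conj_sq hw).1]
    have := huniq (w • e) (mem_fset_comm hwt he) (by rw [smul_smul, hcomm, mul_smul, hue])
    rw [hwe] at this
    exact hea this.symm
  have hg1 : u * w ≠ 1 := fun h => hg2 (by rw [h, one_mul])
  have hfree : ∀ r ∈ fset Ω (u * w), t • r ≠ r := by
    intro r hr htr
    have h := hE.sq_case hi hg htr (mem_fset.1 hr) hg2
    rw [← h, mem_fset, mul_smul, hwe, hua] at he
    have hbe : b = e := huniq b hb (by rw [he]; exact hue)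
    rw [← hbe, hub] at hue
    exact hba hue.symm
  have hpar := parity hE.sq (fset Ω (u * w)) fun r hr => mem_fset_comm hg.symm hr
  rw [Finset.filter_eq_empty_iff.2 fun r hr => hfree r hr, Finset.card_empty, Nat.cast_zero,
    ZMod.natCast_eq_zero_iff_even, card_fset, hE.cen _ hg hg1] at hpar
  exact Nat.not_even_iff_odd.2 hodd hpar

theorem even_exp_two (hE : EqFix Ω t i) (hi : 3 ≤ i) (hev : Even i) :
    ∃ a b : Ω, a ≠ b ∧ ∀ z : G, z • a = a → z • b = b → z * z = 1 := by
  have hcard : 3 ≤ (fset Ω t).card := by rw [card_fset, hE.fix]; exact hi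
  obtain ⟨a, ha⟩ := Finset.card_pos.1 (show 0 < (fset Ω t).card by omega)
  obtain ⟨b, hb, hba, -⟩ := exists_third hcard a a
  obtain ⟨c, hc, hca, hcb⟩ := exists_third hcard a b
  refine ⟨a, b, hba.symm, fun z hza hzb => ?_⟩
  rcases eq_or_ne z 1 with rfl | hz1
  · simp
  have hzF : ∀ r ∈ fset Ω t, z • r = r := fun r hr => by
    rw [← mem_fset, hE.same hi hba.symm hz1 hE.ne_one hza hzb (mem_fset.1 ha) (mem_fset.1 hb)]
    exact hr
  obtain ⟨ub, -, hb1, hb2⟩ := hE.exists_swap hba.symm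
  obtain ⟨uc, -, hc1, hc2⟩ := hE.exists_swap hca.symm
  have hbt := hE.comm_t_of_swap hba.symm (mem_fset.1 ha) (mem_fset.1 hb) hb1 hb2
  have hct := hE.comm_t_of_swap hca.symm (mem_fset.1 ha) (mem_fset.1 hc) hc1 hc2
  have hd : ub • c ∈ fset Ω t := mem_fset_comm hbt hc
  have hda : ub • c ≠ a := fun h => hcb (MulAction.injective ub (h.trans hb2.symm))
  obtain ⟨ud, -, hd1, hd2⟩ := hE.exists_swap hda.symm
  have hdt := hE.comm_t_of_swap hda.symm (mem_fset.1 ha) (mem_fset.1 hd) hd1 hd2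
  have hy : Commute (ud * ub * uc) t := (hdt.mul_left hbt).mul_left hct
  have hya : (ud * ub * uc) • a = a := by rw [mul_smul, mul_smul, hc1, hd2]
  have hinv : ud * ub * uc * z * (ud * ub * uc)⁻¹ = z⁻¹ := by
    have hi1 := hE.inverts hba.symm hb1 hb2 hza hzb
    have hi2 := hE.inverts hca.symm hc1 hc2 hza (hzF c hc)
    have hi3 := hE.inverts hda.symm hd1 hd2 hza (hzF _ hd)
    rw [show ud * ub * uc * z * (ud * ub * uc)⁻¹ =
        ud * (ub * (uc * z * uc⁻¹) * ub⁻¹) * ud⁻¹ by group, hi2,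
      show ub * z⁻¹ * ub⁻¹ = (ub * z * ub⁻¹)⁻¹ by group, hi1, inv_inv, hi3]
  refine sq_of_comm_inv hinv ?_
  rcases eq_or_ne (ud * ub * uc) 1 with h | h
  · rw [h]
    exact Commute.one_left z
  have hF := hE.even_case hi hev hy (mem_fset.1 ha) hya h
  refine hE.comm_two hba.symm hya ?_ hza hzb
  rw [← mem_fset, hF]
  exact hb

theorem even_absurd (hE : EqFix Ω t i) (hi : 3 ≤ i) (hev : Even i) : False := by
  classical
  obtain ⟨a, b, hab, hexp⟩ := hE.even_exp_two hi hev
  haveI : Fact (Nat.Prime 2) := ⟨Nat.prime_two⟩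
  obtain ⟨k, hk⟩ : ∃ k, Nat.card (Subgroup.centralizer ({t} : Set G)) = 2 ^ k := by
    refine IsPGroup.iff_card.1 fun g => ⟨1, Subtype.ext ?_⟩
    rw [pow_one, pow_two]
    exact hE.cen_exp_two (by omega) hab hexp (IsConj.refl t)
      (Subgroup.mem_centralizer_singleton_iff.1 g.2)
  have hn := (hE.key hab).1
  -- lines through `a`
  have hex : ∀ c, c ≠ a → ∃ u : G, IsConj t u ∧ u • a = a ∧ u • c = c := fun c hc =>
    hE.exists_conj_fixing (by omega) hc.symm
  choose w hw hwa hwc using hex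
  let L : Ω → Finset Ω := fun c => if h : c = a then ∅ else (fset Ω (w c h)).erase a
  have hL : ∀ c (h : c ≠ a), L c = (fset Ω (w c h)).erase a := fun c h => dif_neg h
  have hfib : ∀ c, c ≠ a → (Finset.univ.erase a).filter (fun d => L d = L c) = L c := by
    intro c hc
    ext d
    simp only [Finset.mem_filter, Finset.mem_erase, Finset.mem_univ, and_true]
    constructor
    · rintro ⟨hd, he⟩
      rw [← he, hL d hd]
      exact Finset.mem_erase.2 ⟨hd, mem_fset.2 (hwc d hd)⟩
    · intro hd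
      rw [hL c hc, Finset.mem_erase] at hd
      refine ⟨hd.1, ?_⟩
      rw [hL d hd.1, hL c hc, hE.same hi hd.1 (hE.conj_sq (hw d hd.1)).2
        (hE.conj_sq (hw c hc)).2 (hwc d hd.1) (hwa d hd.1) (mem_fset.1 hd.2) (hwa c hc)]
  have hdiv : i - 1 ∣ (Finset.univ.erase a).card := by
    rw [Finset.card_eq_sum_card_image L]
    refine Finset.dvd_sum fun l hl => ?_
    obtain ⟨c, hc, rfl⟩ := Finset.mem_image.1 hl
    have hc' := Finset.ne_of_mem_erase hc
    rw [hfib c hc', hL c hc', Finset.card_erase_of_mem (mem_fset.2 (hwa c hc')), card_fset,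
      hE.fix_conj (hw c hc')]
  rw [Finset.card_erase_of_mem (Finset.mem_univ a), Finset.card_univ,
    ← Nat.card_eq_fintype_card, ← hn, hk, show 2 ^ k + i - 1 = 2 ^ k + (i - 1) by omega,
    Nat.dvd_add_self_right] at hdiv
  obtain ⟨j, -, hj⟩ := (Nat.dvd_prime_pow Nat.prime_two).1 hdiv
  obtain ⟨r, hr⟩ := hev
  rcases j with _ | j
  · rw [pow_zero] at hj; omega
  · rw [pow_succ] at hj; omega

/-- At most two fixed points for every non-identity element, apart from the odd-degree case with a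
unique involution in `C(t)`. -/
theorem semiregular (hE : EqFix Ω t i) :
    (∀ x : G, x ≠ 1 → (fset Ω x).card ≤ 2) ∨
      (i = 1 ∧ ∀ v : G, v * v = 1 → v ≠ 1 → Commute v t → v = t) := by
  by_cases h : ∀ x : G, x ≠ 1 → (fset Ω x).card ≤ 2
  · exact Or.inl h
  push Not at h
  obtain ⟨x, hx1, hf⟩ := h
  refine Or.inr ?_
  rcases lt_trichotomy i 1 with hi | hi | hi
  · have := hE.semiregular_zero (by omega) hx1
    omega
  · exact ⟨hi, fun v hv hv1 hvt => hE.unique_involution hi hx1 (by omega) hv hv1 hvt⟩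
  · exfalso
    rcases le_or_gt i 2 with hi2 | hi2
    · obtain ⟨a, ha⟩ := Finset.card_pos.1 (show 0 < (fset Ω x).card by omega)
      obtain ⟨b, hb, hba, -⟩ := exists_third (show 3 ≤ (fset Ω x).card by omega) a a
      have := hE.fix_eq (by omega) hba hx1 (mem_fset.1 hb) (mem_fset.1 ha)
      rw [card_fset] at hf
      omega
    · rcases Nat.even_or_odd i with hev | hodd
      · exact hE.even_absurd hi2 hev
      · exact hE.odd_absurd hi2 hodd

end EqFix

end Cfsg.Agent.EqualFixity79
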