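import Mathlib
import Cfsg.Prelude.Def_KGroupFacts

/-!
Elementary facts about stem extensions and `Cfsg.HasSchurMultiplier`: universe change,
the Frattini property, trivial multiplier criterion, cyclic multiplier helpers.
-/

set_option autoImplicit false

namespace Cfsg.Agent.SchurMultiplierBasic

open Cfsg
open scoped commutatorElement

universe u v w

variable {Γ : Type u} {G : Type v} [Group Γ] [Group G]

/-- A subgroup supplementing a central subgroup contains the derived subgroup. -/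
theorem commutator_le_of_sup_center (H Z : Subgroup Γ) (hZ : Z ≤ Subgroup.center Γ)
    (hHZ : H ⊔ Z = ⊤) : commutator Γ ≤ H := by
  have hn : Z.Normal := ⟨fun z hz g => by rw [(Subgroup.mem_center_iff.1 (hZ hz) g)]; simpa⟩
  have hdec : ∀ g : Γ, ∃ h ∈ H, ∃ z ∈ Z, h * z = g := fun g => by
    have : g ∈ H ⊔ Z := hHZ ▸ Subgroup.mem_top g
    exact Subgroup.mem_sup_of_normal_right.1 this
  rw [commutator_def, Subgroup.commutator_le]
  intro g _ k _
  obtain ⟨a, ha, z, hz, rfl⟩ := hdec g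
  obtain ⟨b, hb, t, ht, rfl⟩ := hdec k
  have e1 := Subgroup.mem_center_iff.1 (hZ hz)
  have e2 := Subgroup.mem_center_iff.1 (hZ ht)
  have : ⁅a * z, b * t⁆ = ⁅a, b⁆ := by
    simp only [commutatorElement_def, mul_inv_rev]
    calc a * z * (b * t) * (z⁻¹ * a⁻¹) * (t⁻¹ * b⁻¹)
        = a * z * b * (t * z⁻¹) * a⁻¹ * t⁻¹ * b⁻¹ := by group
      _ = a * z * b * (z⁻¹ * t) * a⁻¹ * t⁻¹ * b⁻¹ := by rw [e2 z⁻¹]
      _ = a * (z * b) * z⁻¹ * (t * a⁻¹) * t⁻¹ * b⁻¹ := by group
      _ = a * (b * z) * z⁻¹ * (a⁻¹ * t) * t⁻¹ * b⁻¹ := by rw [e1 b, e2 a⁻¹]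
      _ = a * b * a⁻¹ * b⁻¹ := by group
  rw [this, commutatorElement_def]
  exact H.mul_mem (H.mul_mem (H.mul_mem ha hb) (H.inv_mem ha)) (H.inv_mem hb)

/-- A subgroup of a stem extension mapping onto the base is the whole group. -/
theorem stem_eq_top_of_map_eq_top {σ : Γ →* G} (hσ : IsStemExtension σ) (H : Subgroup Γ)
    (hH : H.map σ = ⊤) : H = ⊤ := by
  have h1 : H ⊔ σ.ker = ⊤ := by
    rw [← Subgroup.comap_map_eq, hH, Subgroup.comap_top]
  have h2 : σ.ker ≤ H := hσ.2.2.trans (commutator_le_of_sup_center H _ hσ.2.1 h1)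
  rwa [sup_eq_left.2 h2] at h1

/-- Transport of a stem extension along isomorphisms. -/
theorem stem_congr {Δ : Type w} [Group Δ] {σ : Γ →* G} (hσ : IsStemExtension σ) (e : Δ ≃* Γ) :
    IsStemExtension (σ.comp e.toMonoidHom) := by
  refine ⟨hσ.1.comp e.surjective, ?_, ?_⟩
  · intro x hx
    have := hσ.2.1 (show e x ∈ σ.ker from hx)
    rw [Subgroup.mem_center_iff] at this ⊢
    intro g
    apply e.injective
    simpa using this (e g)
  · intro x hx
    have h := hσ.2.2 (show e x ∈ σ.ker from hx)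
    have hm : (commutator Γ).map e.symm.toMonoidHom ≤ commutator Δ := by
      rw [commutator_def, commutator_def, Subgroup.map_commutator]
      exact Subgroup.commutator_mono le_top le_top
    have := hm (Subgroup.mem_map_of_mem _ h)
    simpa using this

/-- The identity is a stem extension. -/
theorem stem_id : IsStemExtension (MonoidHom.id G) :=
  ⟨Function.surjective_id, by simp [MonoidHom.ker_id], by simp [MonoidHom.ker_id]⟩

/-- Criterion for trivial Schur multiplier. -/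
theorem hasCyclicSchurMultiplier_one [Finite G]
    (h : ∀ (Δ : Type v) [Group Δ] [Finite Δ] (σ : Δ →* G), IsStemExtension σ → σ.ker = ⊥) :
    HasCyclicSchurMultiplier G 1 := by
  refine ⟨⟨G, inferInstance, inferInstance, MonoidHom.id G, stem_id, ?_⟩, ?_⟩
  · haveI : Subsingleton (MonoidHom.id G).ker := by
      rw [MonoidHom.ker_id]; infer_instance
    letI : Unique (MonoidHom.id G).ker := uniqueOfSubsingleton 1
    exact ⟨MulEquiv.ofUnique⟩
  · intro Δ _ _ σ hσ
    refine ⟨1, fun x => ⟨1, ?_⟩⟩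
    have hb := h Δ σ hσ
    obtain ⟨x, hx⟩ := x
    have hx' := hx
    rw [hb, Subgroup.mem_bot] at hx'
    subst hx'
    rfl

/-- Trivial Schur multiplier forces every stem extension to be bijective. -/
theorem ker_eq_bot_of_hasCyclicSchurMultiplier_one (h : HasCyclicSchurMultiplier G 1)
    (Δ : Type v) [Group Δ] [Finite Δ] (σ : Δ →* G) (hσ : IsStemExtension σ) : σ.ker = ⊥ := by
  obtain ⟨π, hπ⟩ := h.2 Δ σ hσ
  haveI : Subsingleton σ.ker := hπ.subsingleton
  exact Subgroup.eq_bot_of_subsingleton _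

/-- In a group generated by `a, x`, if the commutator `c` of the generators spans a subgroup
invariant under both, then the derived group is spanned by `c`. -/
theorem commutator_le_zpowers [Finite Γ] (a x c : Γ)
    (hgen : Subgroup.closure ({a, x} : Set Γ) = ⊤) (hc : x * a * x⁻¹ * a⁻¹ = c)
    (ha : a * c * a⁻¹ ∈ Subgroup.zpowers c) (hx : x * c * x⁻¹ ∈ Subgroup.zpowers c) :
    commutator Γ ≤ Subgroup.zpowers c := by
  have hN : ∀ g : Γ, g * c * g⁻¹ ∈ Subgroup.zpowers c →
      g ∈ Subgroup.normalizer (Subgroup.zpowers c : Set Γ) := by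
    intro g hg
    have hle : (Subgroup.zpowers c).map (MulAut.conj g).toMonoidHom ≤ Subgroup.zpowers c := by
      rw [MonoidHom.map_zpowers]
      exact Subgroup.zpowers_le.2 (by simpa using hg)
    rw [Subgroup.mem_normalizer_iff]
    intro h
    refine ⟨fun hh => by simpa using hle (Subgroup.mem_map_of_mem _ hh), fun hh => ?_⟩
    have heq : (Subgroup.zpowers c).map (MulAut.conj g).toMonoidHom = Subgroup.zpowers c :=
      Subgroup.eq_of_le_of_card_ge hle
        (le_of_eq (Subgroup.card_map_of_injective (MulAut.conj g).injective).symm)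
    rw [← heq] at hh
    obtain ⟨k, hk, hke⟩ := hh
    have : k = h := by simpa using hke
    exact this ▸ hk
  have htop : Subgroup.normalizer (Subgroup.zpowers c : Set Γ) = ⊤ := by
    rw [eq_top_iff, ← hgen, Subgroup.closure_le]
    intro g hg
    rcases hg with rfl | rfl
    · exact hN _ ha
    · exact hN _ hx
  haveI : (Subgroup.zpowers c).Normal := Subgroup.normalizer_eq_top_iff.1 htop
  let q := QuotientGroup.mk' (Subgroup.zpowers c)
  have hcomm : q x * q a = q a * q x := by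
    have hmem : x * a * x⁻¹ * a⁻¹ ∈ Subgroup.zpowers c := hc.symm ▸ Subgroup.mem_zpowers c
    have : q (x * a * x⁻¹ * a⁻¹) = 1 := (QuotientGroup.eq_one_iff _).2 hmem
    simp only [map_mul, map_inv] at this
    exact commutatorElement_eq_one_iff_mul_comm.1 (by rw [commutatorElement_def]; exact this)
  have himg : Subgroup.closure ({q a, q x} : Set (Γ ⧸ Subgroup.zpowers c)) = ⊤ := by
    have h := congrArg (Subgroup.map q) hgen
    rw [MonoidHom.map_closure, Set.image_pair, Subgroup.map_top_of_surjective q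
      (QuotientGroup.mk'_surjective _)] at h
    exact h
  have hab : ∀ s t : Γ ⧸ Subgroup.zpowers c, s * t = t * s := by
    have hle : Subgroup.closure ({q a, q x} : Set (Γ ⧸ Subgroup.zpowers c)) ≤
        Subgroup.centralizer {q a, q x} := by
      rw [Subgroup.closure_le]
      intro g hg k hk
      rcases hg with rfl | rfl <;> rcases hk with rfl | rfl
      · rfl
      · exact hcomm
      · exact hcomm.symm
      · rfl
    have h2 : ({q a, q x} : Set (Γ ⧸ Subgroup.zpowers c)) ⊆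
        (Subgroup.center (Γ ⧸ Subgroup.zpowers c) : Set _) := by
      intro g hg
      rw [SetLike.mem_coe, Subgroup.mem_center_iff]
      intro t
      have := hle (himg ▸ Subgroup.mem_top t)
      exact (this g hg).symm
    have hcen : Subgroup.center (Γ ⧸ Subgroup.zpowers c) = ⊤ := by
      rw [eq_top_iff, ← himg, Subgroup.closure_le]; exact h2
    intro s t
    exact (Subgroup.mem_center_iff.1 (hcen ▸ Subgroup.mem_top t) s)
  rw [commutator_def, Subgroup.commutator_le]
  intro g _ k _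
  have : q ⁅g, k⁆ = 1 := by
    rw [map_commutatorElement]
    exact commutatorElement_eq_one_iff_mul_comm.2 (hab _ _)
  exact (QuotientGroup.eq_one_iff _).1 this

/-- A group spanned by one element killed by `n` is an image of `Multiplicative (ZMod n)`. -/
theorem exists_surjective_zmod {K : Type u} [Group K] (n : ℕ) (g : K) (hg : g ^ n = 1)
    (hgen : ∀ y : K, y ∈ Subgroup.zpowers g) :
    ∃ π : Multiplicative (ZMod n) →* K, Function.Surjective π := by
  let f : ℤ →+ Additive K := zmultiplesHom (Additive K) (Additive.ofMul g)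
  have hf : f n = 0 := by
    simp only [f, zmultiplesHom_apply, natCast_zsmul, ← ofMul_pow, hg, ofMul_one]
  refine ⟨AddMonoidHom.toMultiplicativeLeft (ZMod.lift n ⟨f, hf⟩), fun y => ?_⟩
  obtain ⟨k, hk⟩ := hgen y
  refine ⟨Multiplicative.ofAdd (k : ZMod n), ?_⟩
  simp only [AddMonoidHom.toMultiplicativeLeft_apply_apply, toAdd_ofAdd, ZMod.lift_coe]
  simp only [f, zmultiplesHom_apply, ← ofMul_zpow, toMul_ofMul]
  exact hk

/-- `x a x⁻¹ = a⁻¹ z`, `z` central and `x` commuting with `a ^ n` force `(a⁻² z) ^ n = 1`. -/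
theorem inverting_commutator_pow (a x z : Γ) (n : ℕ) (hz : ∀ g : Γ, g * z = z * g)
    (hxa : x * a * x⁻¹ = a⁻¹ * z) (hn : x * a ^ n = a ^ n * x) :
    ((a ^ 2)⁻¹ * z) ^ n = 1 := by
  have h1 : x * a ^ n * x⁻¹ = (a ^ n)⁻¹ * z ^ n := by
    rw [← conj_pow, hxa, Commute.mul_pow (hz a⁻¹), inv_pow]
  rw [hn, mul_inv_cancel_right] at h1
  rw [Commute.mul_pow (hz (a ^ 2)⁻¹), inv_pow, ← pow_mul]
  calc (a ^ (2 * n))⁻¹ * z ^ n
      = (a ^ n)⁻¹ * ((a ^ n)⁻¹ * z ^ n) := by rw [two_mul, pow_add]; group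
    _ = (a ^ n)⁻¹ * a ^ n := by rw [← h1]
    _ = 1 := inv_mul_cancel _

/-- In a stem extension generated by `a, x` with `x a x⁻¹ ≡ a⁻¹` modulo the kernel, every kernel
element is a power of the commutator `c = [x, a]`, which satisfies `σ c = (σ a)⁻²`. -/
theorem dihedral_type_commutator [Finite Γ] {σ : Γ →* G} (hσ : IsStemExtension σ) (a x z : Γ)
    (n : ℕ) (hgen : Subgroup.closure ({a, x} : Set Γ) = ⊤) (hzk : z ∈ σ.ker)
    (hxa : x * a * x⁻¹ = a⁻¹ * z) (hn : x * a ^ n = a ^ n * x) :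
    ∃ c : Γ, c ^ n = 1 ∧ σ c = (σ a ^ 2)⁻¹ ∧ commutator Γ ≤ Subgroup.zpowers c := by
  have hzc : ∀ g : Γ, g * z = z * g := Subgroup.mem_center_iff.1 (hσ.2.1 hzk)
  refine ⟨(a ^ 2)⁻¹ * z, inverting_commutator_pow a x z n hzc hxa hn, ?_, ?_⟩
  · rw [map_mul, map_inv, map_pow, MonoidHom.mem_ker.1 hzk, mul_one]
  · refine commutator_le_zpowers a x _ hgen ?_ ?_ ?_
    · rw [hxa, mul_assoc, ← hzc a⁻¹, ← mul_assoc, pow_two, mul_inv_rev]
    · have : a * ((a ^ 2)⁻¹ * z) * a⁻¹ = (a ^ 2)⁻¹ * z := by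
        rw [mul_assoc a, mul_assoc (a ^ 2)⁻¹ z a⁻¹, ← hzc a⁻¹]
        group
      rw [this]; exact Subgroup.mem_zpowers _
    · have : x * ((a ^ 2)⁻¹ * z) * x⁻¹ = ((a ^ 2)⁻¹ * z)⁻¹ := by
        have h2 : x * (a ^ 2)⁻¹ * x⁻¹ = ((x * a * x⁻¹) ^ 2)⁻¹ := by rw [conj_pow]; group
        have hb2 : (a⁻¹ * z) * (a⁻¹ * z) = (a ^ 2)⁻¹ * (z * z) := by
          calc (a⁻¹ * z) * (a⁻¹ * z) = a⁻¹ * (z * a⁻¹) * z := by group
            _ = a⁻¹ * (a⁻¹ * z) * z := by rw [hzc a⁻¹]
            _ = (a ^ 2)⁻¹ * (z * z) := by group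
        calc x * ((a ^ 2)⁻¹ * z) * x⁻¹ = (x * (a ^ 2)⁻¹ * x⁻¹) * (x * z * x⁻¹) := by group
          _ = ((a ^ 2)⁻¹ * (z * z))⁻¹ * z := by
              rw [h2, hxa, pow_two (a⁻¹ * z), hb2, hzc x, mul_inv_cancel_right]
          _ = z⁻¹ * z⁻¹ * (a ^ 2 * z) := by group
          _ = z⁻¹ * z⁻¹ * (z * a ^ 2) := by rw [hzc (a ^ 2)]
          _ = ((a ^ 2)⁻¹ * z)⁻¹ := by group
      rw [this]; exact Subgroup.inv_mem _ (Subgroup.mem_zpowers _)

end Cfsg.Agent.SchurMultiplierBasic
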