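import Mathlib
import Cfsg.Prelude.Def_KGroupFacts
import Cfsg.Agent.Lib.E8Even69
import Cfsg.Agent.Lib.SchurMultiplierBasic

/-!
The Schur multiplier of a simple group which is the central quotient of the even subgroup of W(E8) is
the Klein four group.
-/

set_option autoImplicit false

namespace Cfsg.Agent.EvenCoxeterStem69

universe u v

open Cfsg.Agent.E8Even69
open scoped commutatorElement

/-- The generators of the even subgroup satisfy its relations. -/
theorem x_tuple : Tuple x := by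
  refine ⟨x_seven, fun i j => Subtype.ext ?_⟩
  rw [SubmonoidClass.coe_pow, Subgroup.coe_mul, Subgroup.coe_inv, coe_x, coe_x, mul_inv_rev, s_inv, s_inv]
  rw [show s i * s 7 * (s 7 * s j) = s i * (s 7 * s 7) * s j by group, s_sq, mul_one]
  exact s_rel i j

/-- the six involutive nodes -/
def nd (i : Fin 6) : Fin 8 := i.castLE (by norm_num)

/-- adjacency among the six involutive nodes -/
def adj (i j : Fin 6) : Bool := decide (C8.M (nd i) (nd j) = 3)

theorem m7 : ∀ i : Fin 6, C8.M (nd i) 7 = 2 := by decide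

theorem m6 : ∀ i : Fin 6, i ≠ 5 → C8.M (nd i) 6 = 2 := by decide

theorem m2 : ∀ i j : Fin 6, i ≠ j → adj i j = false → C8.M (nd i) (nd j) = 2 := by decide

/-- Facts about a tuple in a group. -/
structure Rels {H : Type u} [Group H] (T : Fin 6 → H) (X : H) : Prop where
  sq : ∀ i, T i * T i = 1
  braid : ∀ i j, adj i j = true → T i * T j * T i = T j * T i * T j
  comm : ∀ i j, adj i j = false → T i * T j = T j * T i
  cube : X ^ 3 = 1
  invert : ∀ i, i ≠ 5 → T i * X * (T i)⁻¹ = X⁻¹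
  last : (T 5 * X⁻¹) ^ 3 = 1

theorem Rels.tuple {H : Type u} [Group H] {T : Fin 6 → H} {X : H} (h : Rels T X) :
    Tuple ![T 0, T 1, T 2, T 3, T 4, T 5, X, 1] := by
  refine ⟨rfl, ?_⟩
  set A := ![T 0, T 1, T 2, T 3, T 4, T 5, X, 1] with hA
  have hsymm : ∀ i j, (A i * (A j)⁻¹) ^ C8.M i j = 1 → (A j * (A i)⁻¹) ^ C8.M j i = 1 := by
    intro i j e
    rw [show A j * (A i)⁻¹ = (A i * (A j)⁻¹)⁻¹ by group, C8.symmetric j i, inv_pow, e, inv_one]
  have hi : ∀ i, (T i)⁻¹ = T i := fun i => inv_eq_of_mul_eq_one_right (h.sq i)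
  have hA6 : ∀ i : Fin 6, A (nd i) = T i := fun i => by fin_cases i <;> rfl
  have h66 : ∀ i j : Fin 6, (A (nd i) * (A (nd j))⁻¹) ^ C8.M (nd i) (nd j) = 1 := by
    intro i j
    rw [hA6, hA6]
    rcases eq_or_ne i j with rfl | hne
    · simp
    cases hadj : adj i j with
    | true =>
      have hM : C8.M (nd i) (nd j) = 3 := of_decide_eq_true hadj
      rw [hM, hi]
      calc (T i * T j) ^ 3 = (T i * T j * T i) * (T j * T i * T j) := by rw [pow_succ, pow_two]; group
        _ = (T j * T i * T j) * (T j * T i * T j) := by rw [h.braid i j hadj]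
        _ = T j * T i * (T j * T j) * T i * T j := by group
        _ = T j * (T i * T i) * T j := by rw [h.sq]; group
        _ = 1 := by rw [h.sq, mul_one, h.sq]
    | false =>
      have hM : C8.M (nd i) (nd j) = 2 := m2 i j hne hadj
      rw [hM, hi, pow_two]
      calc T i * T j * (T i * T j) = T i * T j * (T j * T i) := by rw [← h.comm i j hadj]
        _ = T i * (T j * T j) * T i := by group
        _ = 1 := by rw [h.sq, mul_one, h.sq]
  have h67 : ∀ i : Fin 6, (A (nd i) * (A 7)⁻¹) ^ C8.M (nd i) 7 = 1 := by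
    intro i
    rw [hA6, show A 7 = 1 from rfl, inv_one, mul_one, m7 i, pow_two,
      h.sq]
  have h6 : ∀ i : Fin 6, (A (nd i) * (A 6)⁻¹) ^ C8.M (nd i) 6 = 1 := by
    intro i
    rw [hA6, show A 6 = X from rfl]
    rcases eq_or_ne i 5 with rfl | hne
    · rw [show C8.M (nd 5) 6 = 3 by decide]; exact h.last
    · rw [m6 i hne, pow_two]
      have h1 : (T i * X * (T i)⁻¹)⁻¹ = X⁻¹⁻¹ := by rw [h.invert i hne]
      rw [mul_inv_rev, mul_inv_rev, inv_inv, inv_inv, hi] at h1
      calc T i * X⁻¹ * (T i * X⁻¹) = (T i * (X⁻¹ * T i)) * X⁻¹ := by group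
        _ = 1 := by rw [h1, mul_inv_cancel]
  have h76 : (A 6 * (A 7)⁻¹) ^ C8.M 6 7 = 1 := by
    rw [show A 7 = 1 from rfl, show A 6 = X from rfl, inv_one, mul_one, show C8.M 6 7 = 3 by decide, h.cube]
  have hcases : ∀ i : Fin 8, (∃ k, nd k = i) ∨ i = 6 ∨ i = 7 := by decide
  intro i j
  rcases hcases i with ⟨i, rfl⟩ | rfl | rfl <;> rcases hcases j with ⟨j, rfl⟩ | rfl | rfl
  · exact h66 i j
  · exact h6 i
  · exact h67 i
  · exact hsymm _ _ (h6 j)
  · simp
  · exact h76
  · exact hsymm _ _ (h67 j)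
  · exact hsymm _ _ h76
  · simp

variable {G : Type u} [Group G]

/-- The images of the generators in a quotient satisfy the relations. -/
theorem rels_of_tuple {H : Type v} [Group H] {A : Fin 8 → H} (h : Tuple A) :
    Rels (fun i => A (nd i)) (A 6) := by
  have h7 : ∀ i : Fin 8, A i ^ C8.M i 7 = 1 := fun i => by
    simpa [h.1] using h.2 i 7
  have hsq : ∀ i : Fin 6, A (nd i) * A (nd i) = 1 := fun i => by
    have := h7 (nd i)
    rwa [m7 i, pow_two] at this
  have hi : ∀ i, (A (nd i))⁻¹ = A (nd i) := fun i => inv_eq_of_mul_eq_one_right (hsq i)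
  refine ⟨hsq, ?_, ?_, ?_, ?_, ?_⟩
  · intro i j hadj
    have := h.2 (nd i) (nd j)
    rw [of_decide_eq_true hadj, hi, pow_succ, pow_two] at this
    calc A (nd i) * A (nd j) * A (nd i)
        = (A (nd i) * A (nd j) * (A (nd i) * A (nd j)) * (A (nd i) * A (nd j))) *
            ((A (nd j))⁻¹ * (A (nd i))⁻¹ * (A (nd j))⁻¹) := by group
      _ = _ := by rw [this, one_mul, hi, hi]
  · intro i j hadj
    rcases eq_or_ne i j with rfl | hne
    · rfl
    have := h.2 (nd i) (nd j)
    rw [m2 i j hne hadj, hi, pow_two] at this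
    calc A (nd i) * A (nd j) = (A (nd i) * A (nd j))⁻¹ := eq_inv_of_mul_eq_one_left this
      _ = A (nd j) * A (nd i) := by rw [mul_inv_rev, hi, hi]
  · have := h7 6
    rwa [show C8.M 6 7 = 3 by decide] at this
  · intro i hne
    have := h.2 (nd i) 6
    rw [m6 i hne, pow_two] at this
    calc A (nd i) * A 6 * (A (nd i))⁻¹ = (A (nd i) * (A 6)⁻¹ * (A (nd i))⁻¹)⁻¹ := by group
      _ = ((A (nd i) * (A 6)⁻¹ * (A (nd i) * (A 6)⁻¹)) * A 6)⁻¹ := by
          congr 1; rw [hi]; group
      _ = (A 6)⁻¹ := by rw [this, one_mul]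
  · have := h.2 (nd 5) 6
    rwa [show C8.M (nd 5) 6 = 3 by decide] at this

section upper

variable {Γ : Type v} [Group Γ]

theorem mul_central_cube (a v : Γ) (hv : ∀ g, g * v = v * g) : (a * v) ^ 3 = a ^ 3 * v ^ 3 :=
  Commute.mul_pow (hv a) 3

theorem conj_mul_central (t a v : Γ) (hv : ∀ g, g * v = v * g) :
    t * (a * v) * t⁻¹ = t * a * t⁻¹ * v := by
  rw [show t * (a * v) * t⁻¹ = t * a * (v * t⁻¹) by group, ← hv t⁻¹]; group

set_option maxHeartbeats 800000 in
/-- Lifting a relation tuple through a central extension: up to one central involution. -/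
theorem exists_lift (σ : Γ →* G) (hsur : Function.Surjective σ) (hcen : σ.ker ≤ Subgroup.center Γ)
    (a : Fin 6 → G) (b : G) (hr : Rels a b) :
    ∃ (T : Fin 6 → Γ) (X c : Γ), (∀ i, σ (T i) = a i) ∧ σ X = b ∧ σ c = 1 ∧ c * c = 1 ∧
      (∀ i, T i * T i = c) ∧
      (∀ i j, adj i j = true → T i * T j * T i = T j * T i * T j) ∧
      (∀ i j, adj i j = false → i ≠ j → ⁅T i, T j⁆ = c) ∧
      X ^ 3 = 1 ∧ (∀ i, i ≠ 5 → T i * X * (T i)⁻¹ = X⁻¹) ∧ (T 5 * X⁻¹) ^ 3 = c := by
  classical
  have cen : ∀ {x : Γ}, σ x = 1 → ∀ g, g * x = x * g := fun h =>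
    Subgroup.mem_center_iff.mp (hcen (MonoidHom.mem_ker.mpr h))
  choose S hS using fun i => hsur (a i)
  let nxt : Fin 6 → Γ → Γ := fun j t => (t * S j) * t * (t * S j)⁻¹
  have hnxt : ∀ p j t, adj p j = true → σ t = a p → σ (nxt j t) = a j ∧
      t * nxt j t * t = nxt j t * t * nxt j t ∧ nxt j t * nxt j t = t * t := by
    intro p j t hpj ht
    have hb := hr.braid p j hpj
    have h1 : σ (nxt j t) = a j := by
      simp only [nxt, map_mul, map_inv, ht, hS]
      rw [hb]; group
    have h3 : nxt j t * nxt j t = t * t := by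
      have hc := cen (x := t * t) (by rw [map_mul, ht, hr.sq])
      calc nxt j t * nxt j t = (t * S j) * (t * t) * (t * S j)⁻¹ := by simp only [nxt]; group
        _ = t * t := by rw [hc (t * S j)]; group
    refine ⟨h1, ?_, h3⟩
    have hc := cen (x := (S j)⁻¹ * nxt j t) (by simp [h1, hS])
    obtain ⟨d, hd, hdj⟩ : ∃ d, (∀ g, g * d = d * g) ∧ nxt j t = S j * d := ⟨_, hc, by group⟩
    have h2 : nxt j t = (t * nxt j t) * t * (t * nxt j t)⁻¹ := by
      conv_rhs => rw [hdj]
      calc nxt j t = (t * S j) * t * (t * S j)⁻¹ := rfl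
        _ = (t * S j) * (t * d) * d⁻¹ * (t * S j)⁻¹ := by group
        _ = (t * S j) * (d * t) * d⁻¹ * (t * S j)⁻¹ := by rw [hd t]
        _ = _ := by group
    calc t * nxt j t * t = ((t * nxt j t) * t * (t * nxt j t)⁻¹) * (t * nxt j t) := by group
      _ = nxt j t * (t * nxt j t) := by rw [← h2]
      _ = _ := by group
  let T0 := S 0
  let T2 := nxt 2 T0
  let T3 := nxt 3 T2
  let T1 := nxt 1 T3
  let T4 := nxt 4 T3
  let T5 := nxt 5 T4
  let T : Fin 6 → Γ := ![T0, T1, T2, T3, T4, T5]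
  set e := T0 * T0 with he
  have s0 : σ T0 = a 0 := hS 0
  obtain ⟨s2, b2, e2⟩ := hnxt 0 2 T0 (by decide) s0
  obtain ⟨s3, b3, e3⟩ := hnxt 2 3 T2 (by decide) s2
  obtain ⟨s1, b1, e1⟩ := hnxt 3 1 T3 (by decide) s3
  obtain ⟨s4, b4, e4⟩ := hnxt 3 4 T3 (by decide) s3
  obtain ⟨s5, b5, e5⟩ := hnxt 4 5 T4 (by decide) s4
  have q2 : T2 * T2 = e := e2
  have q3 : T3 * T3 = e := e3.trans q2
  have q1 : T1 * T1 = e := e1.trans q3
  have q4 : T4 * T4 = e := e4.trans q3
  have q5 : T5 * T5 = e := e5.trans q4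
  have qT : ∀ i, T i * T i = e := fun i => by fin_cases i <;> first | rfl | assumption
  have sT : ∀ i, σ (T i) = a i := fun i => by fin_cases i <;> assumption
  have ec := cen (x := e) (by rw [he, map_mul, s0, hr.sq])
  have bT : ∀ i j, adj i j = true → T i * T j * T i = T j * T i * T j := by
    intro i j h
    fin_cases i <;> fin_cases j <;> first | exact absurd h (by decide) | assumption | (exact Eq.symm ‹_›)
  set g : Fin 6 → Fin 6 → Γ := fun i j => ⁅T i, T j⁆ with hg
  have gker : ∀ i j, adj i j = false → σ (g i j) = 1 := by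
    intro i j h
    simp only [hg]
    rw [map_commutatorElement, sT, sT, commutatorElement_eq_one_iff_mul_comm]
    exact hr.comm i j h
  have gsq : ∀ i j, adj i j = false → g i j * g i j = 1 := by
    intro i j h
    have c1 := cen (gker i j h)
    have e' : T i * T j = g i j * T j * T i := by simp only [hg, commutatorElement_def]; group
    have e2 : T i * (T j * T j) = g i j * g i j * (T j * T j) * T i := by
      calc T i * (T j * T j) = (T i * T j) * T j := by group
        _ = (g i j * T j * T i) * T j := by rw [← e']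
        _ = g i j * T j * (T i * T j) := by group
        _ = g i j * T j * (g i j * T j * T i) := by rw [e']
        _ = g i j * (T j * g i j) * T j * T i := by group
        _ = g i j * (g i j * T j) * T j * T i := by rw [c1 (T j)]
        _ = _ := by group
    rw [qT, ec (T i)] at e2
    calc g i j * g i j = (g i j * g i j * e * T i) * (e * T i)⁻¹ := by group
      _ = 1 := by rw [← e2]; group
  have gsymm : ∀ i j, adj i j = false → g j i = g i j := by
    intro i j h
    have : g j i = (g i j)⁻¹ := (commutatorElement_inv _ _).symm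
    rw [this]
    exact inv_eq_of_mul_eq_one_right (gsq i j h)
  have move : ∀ i j k, adj j k = true → adj i j = false → adj i k = false → g i k = g i j := by
    intro i j k hjk hij hik
    set w := T j * T k with hw
    have ek : T k = w * T j * w⁻¹ := by rw [hw, bT j k hjk]; group
    have hz : σ (w⁻¹ * T i * w * (T i)⁻¹) = 1 := by
      have c1 := hr.comm i j hij
      have c2 := hr.comm i k hik
      rw [hw]
      simp only [map_mul, map_inv, sT]
      calc (a j * a k)⁻¹ * a i * (a j * a k) * (a i)⁻¹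
          = (a j * a k)⁻¹ * ((a i * a j) * a k) * (a i)⁻¹ := by group
        _ = (a j * a k)⁻¹ * (a j * (a i * a k)) * (a i)⁻¹ := by rw [c1]; group
        _ = 1 := by rw [c2]; group
    obtain ⟨d, hdd, hd⟩ : ∃ d, (∀ y, y * d = d * y) ∧ w⁻¹ * T i * w = d * T i :=
      ⟨_, cen hz, by group⟩
    have c4 := cen (gker i j hij)
    show ⁅T i, T k⁆ = g i j
    calc ⁅T i, T k⁆ = w * ((w⁻¹ * T i * w) * T j * (w⁻¹ * T i * w)⁻¹ * (T j)⁻¹) * w⁻¹ := by
          rw [ek]; simp only [commutatorElement_def]; group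
      _ = w * ((d * T i) * T j * (d * T i)⁻¹ * (T j)⁻¹) * w⁻¹ := by rw [hd]
      _ = w * (d * (T i * T j * (T i)⁻¹) * d⁻¹ * (T j)⁻¹) * w⁻¹ := by group
      _ = w * ((T i * T j * (T i)⁻¹) * d * d⁻¹ * (T j)⁻¹) * w⁻¹ := by rw [← hdd (T i * T j * (T i)⁻¹)]
      _ = w * g i j * w⁻¹ := by simp only [hg, commutatorElement_def]; group
      _ = g i j := by rw [c4 w]; group
  set c := g 0 3 with hcdef
  have d04 : g 0 4 = c := (move 0 3 4 (by decide) (by decide) (by decide)).trans hcdef.symm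
  have d05 : g 0 5 = c := (move 0 4 5 (by decide) (by decide) (by decide)).trans d04
  have d01 : g 0 1 = c := (move 0 3 1 (by decide) (by decide) (by decide)).trans hcdef.symm
  have d12 : g 1 2 = c := by
    rw [move 1 0 2 (by decide) (by decide) (by decide), gsymm 0 1 (by decide), d01]
  have d25 : g 2 5 = c := by
    rw [← gsymm 2 5 (by decide), move 5 0 2 (by decide) (by decide) (by decide), gsymm 0 5 (by decide), d05]
  have d24 : g 2 4 = c := (move 2 5 4 (by decide) (by decide) (by decide)).trans d25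
  have d35 : g 3 5 = c := by
    rw [← gsymm 3 5 (by decide), move 5 2 3 (by decide) (by decide) (by decide), gsymm 2 5 (by decide), d25]
  have d15 : g 1 5 = c := by
    rw [← gsymm 1 5 (by decide), move 5 3 1 (by decide) (by decide) (by decide), gsymm 3 5 (by decide), d35]
  have d14 : g 1 4 = c := (move 1 5 4 (by decide) (by decide) (by decide)).trans d15
  have hall : ∀ i j, adj i j = false → i ≠ j → g i j = c := by
    have aux : ∀ i j : Fin 6, i < j → adj i j = false → g i j = c := by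
      intro i j hij h
      have hmem : (i, j) ∈ [((0 : Fin 6), (1 : Fin 6)), (0, 3), (0, 4), (0, 5), (1, 2), (1, 4),
          (1, 5), (2, 4), (2, 5), (3, 5)] := by
        revert hij h; revert i j; decide
      simp only [List.mem_cons, Prod.mk.injEq, List.not_mem_nil, or_false] at hmem
      rcases hmem with ⟨rfl, rfl⟩ | ⟨rfl, rfl⟩ | ⟨rfl, rfl⟩ | ⟨rfl, rfl⟩ | ⟨rfl, rfl⟩ | ⟨rfl, rfl⟩ | ⟨rfl, rfl⟩ |
        ⟨rfl, rfl⟩ | ⟨rfl, rfl⟩ | ⟨rfl, rfl⟩
      exacts [d01, hcdef.symm, d04, d05, d12, d14, d15, d24, d25, d35]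
    intro i j h hne
    rcases lt_or_gt_of_ne hne with hij | hij
    · exact aux i j hij h
    · have h' : adj j i = false := by revert h; revert i j; decide
      exact (gsymm j i h').trans (aux j i hij h')
  have hc1 : σ c = 1 := gker 0 3 (by decide)
  have hcc : c * c = 1 := gsq 0 3 (by decide)
  have cc := cen hc1
  -- the lift of the element of order three
  obtain ⟨X0, hX0⟩ := hsur b
  have hinv : ∀ i, i ≠ 5 → ∀ Y, σ Y = b → σ (T i * Y * (T i)⁻¹ * Y) = 1 := by
    intro i hi Y hY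
    simp only [map_mul, map_inv, sT, hY, hr.invert i hi]
    exact inv_mul_cancel b
  set w := X0 ^ 3 with hw
  set w0 := T0 * X0 * T0⁻¹ * X0 with hw0
  have hw1 : σ w = 1 := by rw [hw, map_pow, hX0, hr.cube]
  have hw01 : σ w0 = 1 := hinv 0 (by decide) X0 hX0
  have cw := cen hw1
  have cw0 := cen hw01
  have hww : w0 ^ 3 = w * w := by
    have h1 : (T0 * X0 * T0⁻¹) ^ 3 = w := by
      rw [conj_pow, ← hw, cw T0]; group
    rw [show T0 * X0 * T0⁻¹ = X0⁻¹ * w0 by rw [cw0 X0⁻¹, hw0]; group, mul_central_cube _ _ cw0, inv_pow,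
      ← hw, inv_mul_eq_iff_eq_mul] at h1
    exact h1
  set v := w⁻¹ * w0 with hv
  have hv1 : σ v = 1 := by rw [hv, map_mul, map_inv, hw1, hw01, inv_one, one_mul]
  have cv := cen hv1
  set X1 := X0 * v with hX1
  have hX1b : σ X1 = b := by rw [hX1, map_mul, hX0, hv1, mul_one]
  have hX13 : X1 ^ 3 = 1 := by
    rw [hX1, mul_central_cube _ _ cv, hv, mul_central_cube _ _ cw0, hww, ← hw]; group
  set v0 := T0 * X1 * T0⁻¹ * X1 with hv0
  have hv01 : σ v0 = 1 := hinv 0 (by decide) X1 hX1b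
  have cv0 := cen hv01
  have hv03 : v0 ^ 3 = 1 := by
    have h1 : (T0 * X1 * T0⁻¹) ^ 3 = 1 := by rw [conj_pow, hX13]; group
    rw [show T0 * X1 * T0⁻¹ = X1⁻¹ * v0 by rw [cv0 X1⁻¹, hv0]; group, mul_central_cube _ _ cv0, inv_pow,
      hX13, inv_one, one_mul] at h1
    exact h1
  set X := X1 * v0 with hX
  have hXb : σ X = b := by rw [hX, map_mul, hX1b, hv01, mul_one]
  have hX3 : X ^ 3 = 1 := by rw [hX, mul_central_cube _ _ cv0, hX13, hv03, one_mul]
  let d : Fin 6 → Γ := fun i => T i * X * (T i)⁻¹ * X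
  have hd0 : d 0 = 1 := by
    show T0 * X * T0⁻¹ * X = 1
    rw [hX, conj_mul_central _ _ _ cv0]
    calc T0 * X1 * T0⁻¹ * v0 * (X1 * v0) = T0 * X1 * T0⁻¹ * (v0 * X1) * v0 := by group
      _ = v0 ^ 3 := by rw [← cv0 X1, pow_succ, pow_two, hv0]; group
      _ = 1 := hv03
  have hd3 : ∀ i, i ≠ 5 → d i ^ 3 = 1 := by
    intro i hi
    have cd := cen (hinv i hi X hXb)
    have h1 : (T i * X * (T i)⁻¹) ^ 3 = 1 := by rw [conj_pow, hX3]; group
    rw [show T i * X * (T i)⁻¹ = X⁻¹ * d i by rw [cd X⁻¹]; group, mul_central_cube _ _ cd,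
      inv_pow, hX3, inv_one, one_mul] at h1
    exact h1
  have hdik : ∀ i k, i ≠ 5 → k ≠ 5 → adj i k = false → i ≠ k → d i = d k := by
    intro i k hi hk hik hne
    have cdi := cen (hinv i hi X hXb)
    have cdk := cen (hinv k hk X hXb)
    have hstep : ∀ p q, p ≠ 5 → q ≠ 5 →
        (T p * T q) * X * (T p * T q)⁻¹ = X * (d p)⁻¹ * d q := by
      intro p q hp hq
      have cdp := cen (hinv p hp X hXb)
      have cdq := cen (hinv q hq X hXb)
      calc (T p * T q) * X * (T p * T q)⁻¹ = T p * ((T q * X * (T q)⁻¹ * X) * X⁻¹) * (T p)⁻¹ := by group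
        _ = T p * (X⁻¹ * d q) * (T p)⁻¹ := by rw [cdq X⁻¹]
        _ = T p * X⁻¹ * (T p)⁻¹ * d q := conj_mul_central _ _ _ cdq
        _ = X * (d p)⁻¹ * d q := by simp only [d]; group
    have heq : T i * T k = c * (T k * T i) := by
      rw [← hall i k hik hne]; simp only [hg, commutatorElement_def]; group
    have h1 := hstep i k hi hk
    rw [heq, show c * (T k * T i) * X * (c * (T k * T i))⁻¹ = c * ((T k * T i) * X * (T k * T i)⁻¹) * c⁻¹ by
      group, hstep k i hk hi, ← cc, mul_inv_cancel_right] at h1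
    have h2 : (d k)⁻¹ * d i = (d i)⁻¹ * d k :=
      mul_left_cancel (a := X) ((mul_assoc _ _ _).symm.trans (h1.trans (mul_assoc _ _ _)))
    have cm : Commute (d i) (d k) := cdk (d i)
    have h3 : d i * d i = d k * d k := by
      calc d i * d i = d k * ((d k)⁻¹ * d i) * d i := by group
        _ = d k * ((d i)⁻¹ * d k) * d i := by rw [h2]
        _ = d k * (d i)⁻¹ * (d k * d i) := by group
        _ = d k * (d i)⁻¹ * (d i * d k) := by rw [cm.eq]
        _ = d k * d k := by group
    calc d i = (d i * d i) * (d i * d i) * (d i ^ 3)⁻¹ := by rw [pow_succ, pow_two]; group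
      _ = (d k * d k) * (d k * d k) * (d k ^ 3)⁻¹ := by rw [h3, hd3 i hi, hd3 k hk]
      _ = d k := by rw [pow_succ, pow_two]; group
  have hd : ∀ i, i ≠ 5 → d i = 1 := by
    have h1 : d 1 = 1 := (hdik 1 0 (by decide) (by decide) (by decide) (by decide)).trans hd0
    have h3 : d 3 = 1 := (hdik 3 0 (by decide) (by decide) (by decide) (by decide)).trans hd0
    have h4 : d 4 = 1 := (hdik 4 0 (by decide) (by decide) (by decide) (by decide)).trans hd0
    have h2 : d 2 = 1 := (hdik 2 1 (by decide) (by decide) (by decide) (by decide)).trans h1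
    intro i hi
    fin_cases i <;> first | exact absurd rfl hi | assumption
  have hTX : ∀ i, i ≠ 5 → T i * X * (T i)⁻¹ = X⁻¹ := fun i hi => eq_inv_of_mul_eq_one_left (hd i hi)
  -- the last relation
  set f := (T5 * X⁻¹) ^ 3 with hf
  have hf1 : σ f = 1 := by
    rw [hf, map_pow, map_mul, map_inv, hXb]
    rw [show σ T5 = a 5 from s5]
    exact hr.last
  have cf := cen hf1
  have hff : f * f = c * e ^ 3 := by
    have h05 : T0 * T5 * T0⁻¹ = T5 * c := by
      rw [cc T5, ← d05]; simp only [hg, commutatorElement_def]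
      show T0 * T5 * T0⁻¹ = T0 * T5 * T0⁻¹ * T5⁻¹ * T5
      group
    have h0 : T0 * X * T0⁻¹ = X⁻¹ := hTX 0 (by decide)
    have h1 : T0 * f * T0⁻¹ = (T5 * X * c) ^ 3 := by
      rw [hf, ← conj_pow]
      congr 1
      calc T0 * (T5 * X⁻¹) * T0⁻¹ = (T0 * T5 * T0⁻¹) * (T0 * X * T0⁻¹)⁻¹ := by group
        _ = T5 * c * X := by rw [h05, h0, inv_inv]
        _ = T5 * X * c := by rw [mul_assoc, ← cc X, ← mul_assoc]
    have h2 : T5 * X = (T5 * (T5 * X⁻¹)⁻¹ * T5⁻¹) * e := by
      rw [← q5]; group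
    rw [cf T0, mul_inv_cancel_right, mul_central_cube _ _ cc, h2, mul_central_cube _ _ ec, conj_pow, inv_pow,
      ← hf] at h1
    have h3 : T5 * f⁻¹ * T5⁻¹ = f⁻¹ := by
      have : σ f⁻¹ = 1 := by rw [map_inv, hf1, inv_one]
      rw [cen this T5]; group
    rw [h3] at h1
    have h4 : c ^ 3 = c := by rw [pow_succ, pow_two, hcc, one_mul]
    rw [h4] at h1
    calc f * f = f * (f⁻¹ * e ^ 3 * c) := by rw [← h1]
      _ = e ^ 3 * c := by group
      _ = c * e ^ 3 := cc _
  set z' := e * f⁻¹ with hz'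
  have hz'1 : σ z' = 1 := by
    rw [hz', map_mul, map_inv, hf1, he, map_mul, s0, hr.sq, inv_one, mul_one]
  have cz := cen hz'1
  have hz'3 : z' ^ 3 * f = c := by
    have cfinv := cen (x := f⁻¹) (by rw [map_inv, hf1, inv_one])
    rw [hz', mul_central_cube _ _ cfinv]
    calc e ^ 3 * f⁻¹ ^ 3 * f = e ^ 3 * (f * f)⁻¹ := by group
      _ = e ^ 3 * (e ^ 3)⁻¹ * c⁻¹ := by rw [hff]; group
      _ = c := by rw [mul_inv_cancel, one_mul]; exact inv_eq_of_mul_eq_one_right hcc
  refine ⟨fun i => T i * z', X, c, fun i => by rw [map_mul, sT, hz'1, mul_one], hXb, hc1, hcc, ?_, ?_, ?_,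
    hX3, ?_, ?_⟩
  · intro i
    calc T i * z' * (T i * z') = T i * (z' * T i) * z' := by group
      _ = T i * (T i * z') * z' := by rw [cz (T i)]
      _ = e * (z' * z') := by rw [← qT i]; group
      _ = z' ^ 3 * f := by
          rw [pow_succ, pow_two, mul_assoc (z' * z') z' f, show z' * f = e by rw [hz']; group, ← ec]
      _ = c := hz'3
  · intro i j h
    have key : ∀ p q : Γ, p * z' * (q * z') * (p * z') = p * q * p * z' ^ 3 := fun p q => by
      calc p * z' * (q * z') * (p * z') = p * (z' * q) * (z' * p) * z' := by group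
        _ = p * (q * z') * (p * z') * z' := by rw [cz q, cz p]
        _ = p * q * (z' * p) * (z' * z') := by group
        _ = p * q * (p * z') * (z' * z') := by rw [cz p]
        _ = _ := by rw [pow_succ, pow_two]; group
    rw [key, key, bT i j h]
  · intro i j h hne
    rw [← hall i j h hne]
    simp only [hg, commutatorElement_def]
    calc T i * z' * (T j * z') * (T i * z')⁻¹ * (T j * z')⁻¹
        = T i * (z' * T j) * (T i)⁻¹ * (z'⁻¹ * (T j)⁻¹) := by group
      _ = T i * (T j * z') * (T i)⁻¹ * (z'⁻¹ * (T j)⁻¹) := by rw [cz (T j)]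
      _ = T i * T j * (z' * (T i)⁻¹) * (z'⁻¹ * (T j)⁻¹) := by group
      _ = T i * T j * ((T i)⁻¹ * z') * (z'⁻¹ * (T j)⁻¹) := by rw [cz (T i)⁻¹]
      _ = _ := by group
  · intro i hi
    calc T i * z' * X * (T i * z')⁻¹ = T i * (z' * X) * z'⁻¹ * (T i)⁻¹ := by group
      _ = T i * (X * z') * z'⁻¹ * (T i)⁻¹ := by rw [cz X]
      _ = T i * X * (T i)⁻¹ := by group
      _ = X⁻¹ := hTX i hi
  · show (T5 * z' * X⁻¹) ^ 3 = c
    rw [mul_assoc, ← cz X⁻¹, ← mul_assoc, mul_central_cube _ _ cz, ← hf, ← cf]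
    exact hz'3

end upper

variable [Finite G]

theorem card_ker_le {Γ : Type v} [Group Γ] [Finite Γ] (ψ : Wp →* G) (hψ : Function.Surjective ψ)
    (hker : ∀ w, ψ w = 1 → w = 1 ∨ w = z) (σ : Γ →* G) (hσ : Cfsg.IsStemExtension σ) :
    Nat.card σ.ker ≤ 4 := by
  classical
  have hA : Tuple fun i => ψ (x i) :=
    ⟨by simp [x_seven], fun i j => by simp only []; rw [← map_inv, ← map_mul, ← map_pow, x_tuple.2, map_one]⟩
  obtain ⟨T, X, c, sT, sX, hc1, hcc, hsq, hbr, hcom, hX3, hinv, hlast⟩ :=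
    exists_lift σ hσ.1 hσ.2.1 _ _ (rels_of_tuple hA)
  set Z := Subgroup.zpowers c with hZ
  have hZk : Z ≤ σ.ker := Subgroup.zpowers_le.mpr hc1
  haveI hn : Z.Normal := ⟨fun n hn g => by
    rw [Subgroup.mem_center_iff.mp (hσ.2.1 (hZk hn)) g]; simpa using hn⟩
  let q := QuotientGroup.mk' Z
  have qc : q c = 1 := (QuotientGroup.eq_one_iff _).mpr (Subgroup.mem_zpowers c)
  have hr : Rels (fun i => q (T i)) (q X) := by
    refine ⟨fun i => by rw [← map_mul, hsq, qc], fun i j h => by simp only [← map_mul]; rw [hbr i j h],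
      fun i j h => ?_, by rw [← map_pow, hX3, map_one],
      fun i hi => by simp only [← map_inv, ← map_mul]; rw [hinv i hi],
      by rw [← map_inv, ← map_mul, ← map_pow, hlast, qc]⟩
    rcases eq_or_ne i j with rfl | hne
    · rfl
    rw [← commutatorElement_eq_one_iff_mul_comm, ← map_commutatorElement, hcom i j h hne, qc]
  obtain ⟨χ, hχ⟩ := exists_hom hr.tuple
  let σ' : Γ ⧸ Z →* G := QuotientGroup.lift Z σ hZk
  have hcomp : σ'.comp χ = ψ := by
    refine hom_ext fun i => ?_
    rw [MonoidHom.comp_apply, hχ]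
    fin_cases i
    case «6» => exact sX
    case «7» =>
      show σ' 1 = _
      rw [map_one]; exact (by rw [x_seven, map_one] : ψ (x 7) = 1).symm
    all_goals exact sT _
  have hsurχ : Function.Surjective χ := by
    have htop : (χ.range.comap q) = ⊤ := by
      refine SchurMultiplierBasic.stem_eq_top_of_map_eq_top hσ _ (eq_top_iff.mpr fun g _ => ?_)
      obtain ⟨w, rfl⟩ := hψ g
      obtain ⟨t, ht⟩ := QuotientGroup.mk'_surjective Z (χ w)
      refine ⟨t, ⟨w, ht.symm⟩, ?_⟩
      rw [← hcomp, MonoidHom.comp_apply, ← ht]; rfl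
    intro y
    obtain ⟨t, rfl⟩ := QuotientGroup.mk'_surjective Z y
    have : t ∈ χ.range.comap q := htop ▸ Subgroup.mem_top t
    exact this
  obtain ⟨r, hr'⟩ := QuotientGroup.mk'_surjective Z (χ z)
  have hsub : (σ.ker : Set Γ) ⊆ ({1, c, r, r * c} : Set Γ) := by
    intro k hk
    obtain ⟨w, hw⟩ := hsurχ (q k)
    have hw1 : ψ w = 1 := by
      rw [← hcomp, MonoidHom.comp_apply, hw]; exact hk
    have hZc : ∀ n ∈ Z, n = 1 ∨ n = c := by
      intro n hn
      obtain ⟨m, rfl⟩ := hn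
      have h2 : c ^ (2 : ℤ) = 1 := by rw [zpow_two, hcc]
      rcases Int.even_or_odd' m with ⟨l, rfl | rfl⟩
      · left; show c ^ (2 * l) = 1; rw [zpow_mul, h2, one_zpow]
      · right; show c ^ (2 * l + 1) = c; rw [zpow_add, zpow_mul, h2, one_zpow, one_mul, zpow_one]
    simp only [Set.mem_insert_iff, Set.mem_singleton_iff]
    rcases hker w hw1 with rfl | rfl
    · rw [map_one] at hw
      rcases hZc k ((QuotientGroup.eq_one_iff k).mp hw.symm) with h | h
      · exact Or.inl h
      · exact Or.inr (Or.inl h)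
    · have h1 : r⁻¹ * k ∈ Z := QuotientGroup.eq.mp (hr'.trans hw)
      rcases hZc _ h1 with h | h
      · exact Or.inr (Or.inr (Or.inl (inv_mul_eq_one.mp h).symm))
      · exact Or.inr (Or.inr (Or.inr (inv_mul_eq_iff_eq_mul.mp h)))
  have h1 := Set.ncard_le_ncard hsub (Set.toFinite _)
  rw [← Nat.card_coe_set_eq] at h1
  refine h1.trans ((Set.ncard_insert_le _ _).trans (Nat.succ_le_succ ((Set.ncard_insert_le _ _).trans
    (Nat.succ_le_succ ((Set.ncard_insert_le _ _).trans ?_)))))
  rw [Set.ncard_singleton]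

section main

variable (ψ : Wp →* G) (hψ : Function.Surjective ψ) (hker : ∀ w, ψ w = 1 ↔ w = 1 ∨ w = z)

include hker in
theorem ker_le_center : ψ.ker ≤ Subgroup.center Wp := fun w hw => by
  rcases (hker w).mp hw with rfl | rfl
  · exact one_mem _
  · exact z_mem_center

include hψ hker in
theorem eq_top_of_map (H : Subgroup Wp) (hH : H.map ψ = ⊤) : commutator Wp ≤ H := by
  refine SchurMultiplierBasic.commutator_le_of_sup_center H _ (ker_le_center ψ hker) ?_
  rw [← Subgroup.comap_map_eq, hH, Subgroup.comap_top]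

include hker in
theorem sq_of_fibre {a b : Wp} (h : ψ a = ψ b) : a * a = b * b := by
  have : ψ (b⁻¹ * a) = 1 := by rw [map_mul, map_inv, h, inv_mul_cancel]
  rcases (hker _).mp this with h1 | h1
  · rw [inv_mul_eq_one.mp h1]
  · have e : a = b * z := inv_mul_eq_iff_eq_mul.mp h1
    have cz := Subgroup.mem_center_iff.mp z_mem_center
    rw [e]
    calc b * z * (b * z) = b * (z * b) * z := by group
      _ = b * (b * z) * z := by rw [cz b]
      _ = b * b * (z * z) := by group
      _ = b * b := by rw [z_sq, mul_one]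

include hψ hker in
theorem wp_perfect (hG : commutator G = ⊤) : commutator Wp = ⊤ := by
  have hmap : (commutator Wp).map ψ = ⊤ := by
    rw [commutator_def, Subgroup.map_commutator, Subgroup.map_top_of_surjective _ hψ, ← commutator_def, hG]
  obtain ⟨w, hw, hwy⟩ : ψ (y 0) ∈ (commutator Wp).map ψ := hmap ▸ Subgroup.mem_top _
  have hz : z ∈ commutator Wp := by
    rw [← y_zero_sq, ← sq_of_fibre ψ hker hwy]; exact mul_mem hw hw
  have hk : ψ.ker ≤ commutator Wp := fun k hk => by
    rcases (hker k).mp hk with rfl | rfl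
    · exact one_mem _
    · exact hz
  have h1 : commutator Wp ⊔ ψ.ker = ⊤ := by rw [← Subgroup.comap_map_eq, hmap, Subgroup.comap_top]
  rwa [sup_eq_left.2 hk] at h1

include hψ hker in
theorem exists_twist [IsSimpleGroup G] (hG : commutator G = ⊤) : ∃ ψ' : Wp →* G, Function.Surjective ψ' ∧
    (∀ w, ψ' w = 1 ↔ w = 1 ∨ w = z) ∧ ψ' (x 0) = ψ (y 0) := by
  have hA : Tuple fun i => ψ (y i) := by
    refine ⟨by simp [y_seven], fun i j => ?_⟩
    simp only []
    rw [← map_inv, ← map_mul, ← map_pow]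
    exact (hker _).mpr (y_rels i j)
  obtain ⟨ψ', h'⟩ := exists_hom hA
  have hn : (ψ'.ker.map ψ).Normal := Subgroup.Normal.map inferInstance ψ hψ
  rcases hn.eq_bot_or_eq_top with h | h
  · have hle : ψ'.ker ≤ ψ.ker := (Subgroup.map_eq_bot_iff _).mp h
    have hidx : ψ.ker.index = Nat.card G := by
      rw [Subgroup.index_ker, MonoidHom.range_eq_top.mpr hψ, Subgroup.card_top]
    have h1 : Nat.card G * Nat.card ψ.ker = Nat.card Wp := by
      rw [← hidx, mul_comm, Subgroup.card_mul_index]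
    have h2 : Nat.card ψ'.range * Nat.card ψ'.ker = Nat.card Wp := by
      rw [← Subgroup.index_ker, mul_comm, Subgroup.card_mul_index]
    have h3 : Nat.card ψ'.range ≤ Nat.card G := Subgroup.card_le_card_group _
    have h4 : Nat.card ψ'.ker ≤ Nat.card ψ.ker := Subgroup.card_le_of_le hle
    have h5 : Nat.card ψ.ker ≤ Nat.card ψ'.ker := by
      have hpos : 0 < Nat.card G := Nat.card_pos
      exact Nat.le_of_mul_le_mul_left (h1.le.trans (h2.ge.trans (Nat.mul_le_mul_right _ h3))) hpos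
    have heq : ψ'.ker = ψ.ker := Subgroup.eq_of_le_of_card_ge hle h5
    refine ⟨ψ', ?_, fun w => ?_, h' 0⟩
    · rw [← MonoidHom.range_eq_top]
      refine Subgroup.eq_top_of_card_eq _ ?_
      rw [← Subgroup.index_ker, heq, hidx]
    · rw [← MonoidHom.mem_ker, heq, MonoidHom.mem_ker, hker]
  · exfalso
    have h1 := eq_top_of_map ψ hψ hker _ h
    rw [wp_perfect ψ hψ hker hG] at h1
    have h2 : ψ' (x 0) = 1 := h1 (Subgroup.mem_top _)
    rw [h'] at h2
    refine z_ne_one ?_
    rcases (hker _).mp h2 with h3 | h3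
    · rw [← y_zero_sq, h3, one_mul]
    · rw [← y_zero_sq, h3, z_sq]

end main

/-- A perfect subgroup maps to a stem extension. -/
theorem derived_perfect {L : Type v} [Group L] (π : L →* G) (hπ : Function.Surjective π)
    (hc : π.ker ≤ Subgroup.center L) (hG : commutator G = ⊤) :
    Cfsg.IsStemExtension (π.comp (commutator L).subtype) := by
  set D := commutator L with hD
  have hmap : D.map π = ⊤ := by
    rw [hD, commutator_def, Subgroup.map_commutator, Subgroup.map_top_of_surjective _ hπ, ← commutator_def, hG]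
  have hs : Function.Surjective (π.comp D.subtype) := fun g => by
    obtain ⟨l, hl, rfl⟩ : g ∈ D.map π := hmap ▸ Subgroup.mem_top g
    exact ⟨⟨l, hl⟩, rfl⟩
  have hperf : D ≤ (commutator D).map D.subtype := by
    refine SchurMultiplierBasic.commutator_le_of_sup_center _ _ hc ?_
    rw [← Subgroup.comap_map_eq, Subgroup.map_map, commutator_def, Subgroup.map_commutator,
      Subgroup.map_top_of_surjective _ hs, ← commutator_def, hG, Subgroup.comap_top]
  refine ⟨hs, fun d hd => Subgroup.mem_center_iff.mpr fun g =>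
    Subtype.ext (Subgroup.mem_center_iff.mp (hc (show (d : L) ∈ π.ker from hd)) g), fun d _ => ?_⟩
  obtain ⟨d', hd', he⟩ := hperf d.2
  rwa [Subtype.ext he] at hd'

/-- The cover and the bound. -/
theorem hasMultiplier [IsSimpleGroup G] (hG : commutator G = ⊤) (ψ : Wp →* G)
    (hψ : Function.Surjective ψ) (hker : ∀ w, ψ w = 1 ↔ w = 1 ∨ w = z) :
    Cfsg.HasSchurMultiplier G (Multiplicative (ZMod 2 × ZMod 2)) := by
  classical
  obtain ⟨ψ', hψ', hker', h0⟩ := exists_twist ψ hψ hker hG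
  let K0 : Subgroup (Wp × Wp) := (ψ.comp (MonoidHom.fst _ _)).eqLocus (ψ'.comp (MonoidHom.snd _ _))
  let σ0 : K0 →* G := ψ.comp ((MonoidHom.fst _ _).comp K0.subtype)
  have hmem : ∀ k : K0, ψ k.1.1 = ψ' k.1.2 := fun k => k.2
  have hs0 : Function.Surjective σ0 := fun g => by
    obtain ⟨a, ha⟩ := hψ g
    obtain ⟨b, hb⟩ := hψ' g
    exact ⟨⟨(a, b), ha.trans hb.symm⟩, ha⟩
  have hk0 : ∀ k : K0, σ0 k = 1 → (k.1.1 = 1 ∨ k.1.1 = z) ∧ (k.1.2 = 1 ∨ k.1.2 = z) := fun k hk =>
    ⟨(hker _).mp hk, (hker' _).mp ((hmem k).symm.trans hk)⟩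
  have hc0 : σ0.ker ≤ Subgroup.center K0 := by
    intro k hk
    rw [Subgroup.mem_center_iff]
    intro g
    obtain ⟨h1, h2⟩ := hk0 k hk
    have cz := Subgroup.mem_center_iff.mp z_mem_center
    refine Subtype.ext (Prod.ext ?_ ?_)
    · show g.1.1 * k.1.1 = k.1.1 * g.1.1
      rcases h1 with h | h <;> rw [h]
      · simp
      · exact cz _
    · show g.1.2 * k.1.2 = k.1.2 * g.1.2
      rcases h2 with h | h <;> rw [h]
      · simp
      · exact cz _
  set M := commutator K0 with hM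
  have hmapM : M.map σ0 = ⊤ := by
    rw [hM, commutator_def, Subgroup.map_commutator, Subgroup.map_top_of_surjective _ hs0, ← commutator_def, hG]
  have hz1 : ∃ m ∈ M, (m : Wp × Wp) = (z, 1) := by
    obtain ⟨m, hm, hmu⟩ : ψ (y 0) ∈ M.map σ0 := hmapM ▸ Subgroup.mem_top _
    refine ⟨m * m, mul_mem hm hm, Prod.ext ?_ ?_⟩
    · show m.1.1 * m.1.1 = z
      rw [sq_of_fibre ψ hker (a := m.1.1) (b := y 0) hmu, y_zero_sq]
    · show m.1.2 * m.1.2 = 1
      rw [sq_of_fibre ψ' hker' (a := m.1.2) (b := x 0) ((hmem m).symm.trans ((show ψ m.1.1 = ψ (y 0) from hmu).trans h0.symm)), x_zero_sq]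
  have hz2 : ∃ m ∈ M, (m : Wp × Wp).2 = z ∧ σ0 m = 1 := by
    let p2 : K0 →* Wp := (MonoidHom.snd _ _).comp K0.subtype
    have h1 : (M.map p2).map ψ' = ⊤ := by
      rw [Subgroup.map_map, ← hmapM]
      congr 1
      exact MonoidHom.ext fun k => (hmem k).symm
    have h2 := eq_top_of_map ψ' hψ' hker' _ h1
    rw [wp_perfect ψ hψ hker hG] at h2
    obtain ⟨m, hm, hmz⟩ := h2 (Subgroup.mem_top z)
    refine ⟨m, hm, hmz, ?_⟩
    show ψ m.1.1 = 1
    rw [hmem m, show m.1.2 = z from hmz]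
    exact (hker' z).mpr (Or.inr rfl)
  have hstem0 : Cfsg.IsStemExtension σ0 := by
    refine ⟨hs0, hc0, fun k hk => ?_⟩
    obtain ⟨m1, hm1, e1⟩ := hz1
    obtain ⟨m2, hm2, e2, f2⟩ := hz2
    obtain ⟨hk1, hk2⟩ := hk0 k hk
    -- first correct the second coordinate
    have hfix : ∀ k' : K0, (k'.1.1 = 1 ∨ k'.1.1 = z) → k'.1.2 = 1 → k' ∈ M := by
      intro k' h1 h2
      rcases h1 with h | h
      · rw [show k' = 1 from Subtype.ext (Prod.ext h h2)]; exact one_mem _
      · have e' : (k' : Wp × Wp) = (z, 1) := Prod.ext h h2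
        have : k' = m1 := Subtype.ext (e'.trans e1.symm)
        rw [this]; exact hm1
    rcases hk2 with h | h
    · exact hfix k hk1 h
    · have h1 : σ0 (k * m2) = 1 := by rw [map_mul, MonoidHom.mem_ker.mp hk, f2, one_mul]
      have h2 : (k * m2 : K0).1.2 = 1 := by
        show k.1.2 * m2.1.2 = 1
        rw [h, e2, z_sq]
      have := mul_mem (hfix (k * m2) (hk0 _ h1).1 h2) (inv_mem hm2)
      rwa [mul_inv_cancel_right] at this
  let K : Type u := ULift.{u} K0
  let σK : K →* G := σ0.comp (MulEquiv.ulift (α := K0)).toMonoidHom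
  have hstem : Cfsg.IsStemExtension σK := SchurMultiplierBasic.stem_congr hstem0 MulEquiv.ulift
  have hcard : Nat.card σK.ker = 4 := by
    have hzp : ∀ (φ : Wp →* G), (∀ w, φ w = 1 ↔ w = 1 ∨ w = z) → Nat.card φ.ker = 2 := by
      intro φ hφ
      rw [Nat.card_eq_two_iff]
      refine ⟨1, ⟨z, (hφ z).mpr (Or.inr rfl)⟩, fun h => z_ne_one (Subtype.ext_iff.mp h).symm, ?_⟩
      ext w
      simp only [Set.mem_insert_iff, Set.mem_singleton_iff, Set.mem_univ, iff_true]
      rcases (hφ w.1).mp w.2 with h | h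
      · exact Or.inl (Subtype.ext h)
      · exact Or.inr (Subtype.ext h)
    let e : σK.ker ≃ ψ.ker × ψ'.ker :=
      { toFun := fun k => (⟨k.1.down.1.1, k.2⟩, ⟨k.1.down.1.2, (hmem _).symm.trans k.2⟩)
        invFun := fun p => ⟨ULift.up ⟨(p.1.1, p.2.1),
          (MonoidHom.mem_ker.mp p.1.2).trans (MonoidHom.mem_ker.mp p.2.2).symm⟩, p.1.2⟩
        left_inv := fun k => rfl
        right_inv := fun p => rfl }
    rw [Nat.card_congr e, Nat.card_prod, hzp ψ hker, hzp ψ' hker']
  have hexp : ∀ k : σK.ker, k * k = 1 := by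
    rintro ⟨⟨⟨⟨a, b⟩, hab⟩⟩, hk⟩
    obtain ⟨h1, h2⟩ := hk0 ⟨(a, b), hab⟩ hk
    refine Subtype.ext (congrArg ULift.up (Subtype.ext (Prod.ext ?_ ?_)))
    · show a * a = 1
      rcases h1 with h | h <;> simp only at h <;> rw [h]
      · rw [one_mul]
      · exact z_sq
    · show b * b = 1
      rcases h2 with h | h <;> simp only at h <;> rw [h]
      · rw [one_mul]
      · exact z_sq
  haveI : IsKleinFour σK.ker := by
    refine ⟨hcard, ?_⟩
    haveI : Nontrivial σK.ker := by
      haveI : Finite σK.ker := Nat.finite_of_card_ne_zero (by omega)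
      rw [← Finite.one_lt_card_iff_nontrivial]; omega
    exact (Monoid.exponent_eq_prime_iff Nat.prime_two).mpr fun g hg => orderOf_eq_prime (by rw [pow_two, hexp]) hg
  obtain ⟨iso⟩ : Nonempty (σK.ker ≃* Multiplicative (ZMod 2 × ZMod 2)) := IsKleinFour.nonempty_mulEquiv
  refine ⟨⟨K, inferInstance, inferInstance, σK, hstem, ⟨iso⟩⟩, fun Γ _ _ σ hσ => ?_⟩
  let L : Subgroup (Γ × K) := (σ.comp (MonoidHom.fst _ _)).eqLocus (σK.comp (MonoidHom.snd _ _))
  let π : L →* G := σ.comp ((MonoidHom.fst _ _).comp L.subtype)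
  have hmemL : ∀ l : L, σ l.1.1 = σK l.1.2 := fun l => l.2
  have hπs : Function.Surjective π := fun g => by
    obtain ⟨a, ha⟩ := hσ.1 g
    obtain ⟨b, hb⟩ := hstem.1 g
    exact ⟨⟨(a, b), ha.trans hb.symm⟩, ha⟩
  have hπc : π.ker ≤ Subgroup.center L := by
    intro l hl
    rw [Subgroup.mem_center_iff]
    intro g
    have h1 := Subgroup.mem_center_iff.mp (hσ.2.1 (show l.1.1 ∈ σ.ker from hl))
    have h2 := Subgroup.mem_center_iff.mp (hstem.2.1 (show l.1.2 ∈ σK.ker from (hmemL l).symm.trans hl))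
    exact Subtype.ext (Prod.ext (h1 _) (h2 _))
  have hP := derived_perfect π hπs hπc hG
  set π' := π.comp (commutator L).subtype with hπ'
  have hP4 := card_ker_le ψ hψ (fun w => (hker w).mp) π' hP
  let q1 : (commutator L : Subgroup L) →* Γ := (MonoidHom.fst _ _).comp (L.subtype.comp (commutator L).subtype)
  let q2 : (commutator L : Subgroup L) →* K := (MonoidHom.snd _ _).comp (L.subtype.comp (commutator L).subtype)
  have e1 : σ.comp q1 = π' := rfl
  have e2 : σK.comp q2 = π' := MonoidHom.ext fun p => (hmemL p.1).symm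
  have hq1 : q1.range = ⊤ := SchurMultiplierBasic.stem_eq_top_of_map_eq_top hσ _ (by
    rw [← MonoidHom.range_comp, e1, MonoidHom.range_eq_top.mpr hP.1])
  have hq2 : q2.range = ⊤ := SchurMultiplierBasic.stem_eq_top_of_map_eq_top hstem _ (by
    rw [← MonoidHom.range_comp, e2, MonoidHom.range_eq_top.mpr hP.1])
  let r2 : π'.ker →* σK.ker := (q2.comp π'.ker.subtype).codRestrict σK.ker fun p =>
    MonoidHom.mem_ker.mpr ((DFunLike.congr_fun e2 p.1).trans p.2)
  let r1 : π'.ker →* σ.ker := (q1.comp π'.ker.subtype).codRestrict σ.ker fun p =>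
    MonoidHom.mem_ker.mpr ((DFunLike.congr_fun e1 p.1).trans p.2)
  have hr2 : Function.Surjective r2 := fun k => by
    obtain ⟨p, hp⟩ : k.1 ∈ q2.range := hq2 ▸ Subgroup.mem_top _
    refine ⟨⟨p, MonoidHom.mem_ker.mpr ?_⟩, Subtype.ext hp⟩
    rw [← e2, MonoidHom.comp_apply, hp]; exact k.2
  have hr1 : Function.Surjective r1 := fun k => by
    obtain ⟨p, hp⟩ : k.1 ∈ q1.range := hq1 ▸ Subgroup.mem_top _
    refine ⟨⟨p, MonoidHom.mem_ker.mpr ?_⟩, Subtype.ext hp⟩
    rw [← e1, MonoidHom.comp_apply, hp]; exact k.2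
  have hb2 : Function.Bijective r2 := (Nat.bijective_iff_surjective_and_card r2).mpr
    ⟨hr2, le_antisymm (by rw [hcard]; exact hP4) (Nat.card_le_card_of_surjective r2 hr2)⟩
  let back := ((MulEquiv.ofBijective r2 hb2).trans iso).symm
  exact ⟨r1.comp back.toMonoidHom, hr1.comp back.surjective⟩

end Cfsg.Agent.EvenCoxeterStem69
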