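import Cfsg.Agent.Lib.EvenCyclicDihedral27
import Cfsg.Agent.Lib.AutPSLField

/-!
For S3730: between `PSL(2, F)` and its automorphism group only `PSL(2, F)` and `PGL(2, F)` qualify.
-/

set_option autoImplicit false
set_option linter.style.haveILetI false

namespace Cfsg.Agent.EvenCyclic27

open Subgroup Matrix
open Cfsg.Agent.AutPSLBasic Cfsg.Agent.AutPSLMain Cfsg.Agent.AutPSLApi Cfsg.Agent.AutPSLField
  Cfsg.Agent.GaloisDescentGL
open scoped MatrixGroups

section Field

variable {F : Type} [Field F] [Fintype F]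

/-- In a finite field the product of two elements of the same square class is a square. -/
theorem isSquare_mul_of_iff (hodd : Odd (Fintype.card F)) {a b : F} (h : IsSquare a ↔ IsSquare b) :
    IsSquare (a * b) := by
  classical
  by_cases ha : IsSquare a
  · exact ha.mul (h.1 ha)
  have h2 : ringChar F ≠ 2 := fun h2 => by
    have := FiniteField.even_card_iff_char_two.1 h2
    exact absurd this (by rw [Nat.odd_iff] at hodd; omega)
  have ha' := quadraticChar_neg_one_iff_not_isSquare.2 ha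
  have hb' := quadraticChar_neg_one_iff_not_isSquare.2 fun hb => ha (h.2 hb)
  have hab : a * b ≠ 0 := by
    intro h0
    rcases mul_eq_zero.1 h0 with rfl | rfl
    · exact ha ⟨0, by simp⟩
    · exact ha (h.2 ⟨0, by simp⟩)
  refine (quadraticChar_one_iff_isSquare hab).1 ?_
  rw [map_mul, ha', hb']; norm_num

omit [Fintype F] in
theorem isSquare_map_iff (σ : F ≃+* F) (a : F) : IsSquare (σ a) ↔ IsSquare a :=
  ⟨fun h => by simpa using h.map σ.symm, fun h => h.map σ⟩

theorem isSquare_mul_map (hodd : Odd (Fintype.card F)) (σ : F ≃+* F) (a : F) : IsSquare (a * σ a) :=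
  isSquare_mul_of_iff hodd (isSquare_map_iff σ a).symm

/-- Elements fixed by an involutory field automorphism are squares. -/
theorem isSquare_of_fixed (hodd : Odd (Fintype.card F)) {σ : F ≃+* F} (hσ : orderOf σ = 2) {c : F}
    (hc : σ c = c) (hc0 : c ≠ 0) : IsSquare c := by
  obtain ⟨u, hu⟩ : Units.mk0 c hc0 ∈ (unorm σ).range := by
    rw [range_unorm]
    show Units.map (σ : F →* F) _ = _
    exact Units.ext hc
  have h := congrArg Units.val hu
  simp only [unorm, MonoidHom.coe_mk, OneHom.coe_mk, hσ, Finset.prod_range_succ, Finset.prod_range_zero,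
    one_mul, Units.val_mul, Units.val_mk0, Units.coe_map] at h
  rw [← h]
  simpa using isSquare_mul_map hodd σ (u : F)

/-- A norm-square has square root class determined: `d σ(d) = λ²` with `λ` fixed forces `d` square. -/
theorem isSquare_of_norm (hodd : Odd (Fintype.card F)) {σ : F ≃+* F} (hσ : orderOf σ = 2) {d l : F}
    (hl : σ l = l) (hl0 : l ≠ 0) (h : d * σ d = l ^ 2) : IsSquare d := by
  have hls := isSquare_of_fixed hodd hσ hl hl0
  obtain ⟨e, he⟩ : ∃ e, e = d / l := ⟨_, rfl⟩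
  have hee : e * σ e = 1 := by
    rw [he, map_div₀, hl, div_mul_div_comm, h, pow_two, div_self (mul_ne_zero hl0 hl0)]
  have hd : d = e * l := by rw [he, div_mul_cancel₀ _ hl0]
  rw [hd]
  refine IsSquare.mul ?_ hls
  by_cases h1 : 1 + e = 0
  · have : e = -1 := by linear_combination h1
    rw [this]
    exact isSquare_of_fixed hodd hσ (by rw [map_neg, map_one]) (neg_ne_zero.2 one_ne_zero)
  · have hσz : σ (1 + e) ≠ 0 := fun h0 => h1 (σ.injective (by rw [h0, map_zero]))
    have : e = (1 + e) * σ (1 + e) * (σ (1 + e))⁻¹ ^ 2 := by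
      have h2 : e * σ (1 + e) = 1 + e := by rw [map_add, map_one, mul_add, mul_one, hee]; ring
      field_simp
      linear_combination h2
    rw [this]
    exact (isSquare_mul_map hodd σ _).mul ⟨(σ (1 + e))⁻¹, by ring⟩

omit [Fintype F] in
/-- Composition in semilinear coordinates. -/
theorem semi_mul (a b : GL (Fin 2) F) (σ τ : F ≃+* F) :
    (cj a * fd σ : MulAut (P 2 F)) * (cj b * fd τ) = cj (a * gmap σ b) * fd (σ * τ) := by
  calc (cj a * fd σ : MulAut (P 2 F)) * (cj b * fd τ) = cj a * (fd σ * cj b) * fd τ := by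
        simp only [mul_assoc]
    _ = _ := by rw [fd_mul_cj', map_mul, map_mul]; simp only [mul_assoc]

omit [Fintype F] in
theorem semi_inj {a b : GL (Fin 2) F} {σ τ : F ≃+* F}
    (h : (cj a * fd σ : MulAut (P 2 F)) = cj b * fd τ) : σ = τ := by
  have h1 : (cj (b⁻¹ * a) * fd (σ * τ⁻¹) : MulAut (P 2 F)) = 1 := by
    rw [map_mul, map_mul, map_inv, map_inv]
    calc (cj b : MulAut (P 2 F))⁻¹ * cj a * (fd σ * (fd τ)⁻¹)
        = (cj b)⁻¹ * (cj a * fd σ) * (fd τ)⁻¹ := by group
      _ = 1 := by rw [h]; group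
  exact mul_inv_eq_one.1 (cj_fd_eq_one le_rfl h1).2

omit [Fintype F] in
theorem det_gmap (σ : F ≃+* F) (a : GL (Fin 2) F) :
    ((gmap σ a : GL (Fin 2) F) : Matrix (Fin 2) (Fin 2) F).det = σ (a : Matrix (Fin 2) (Fin 2) F).det := by
  rw [coe_gmap, RingEquiv.map_det]; rfl

omit [Fintype F] in
/-- Square determinant means inner. -/
theorem cj_of_isSquare (a : GL (Fin 2) F) (h : IsSquare (a : Matrix (Fin 2) (Fin 2) F).det) :
    ∃ s : SL(2, F), (cj a : MulAut (P 2 F)) = cj (Matrix.SpecialLinearGroup.toGL s) := by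
  obtain ⟨c, hc⟩ := h
  have hc0 : c ≠ 0 := by
    rintro rfl
    exact (Matrix.GeneralLinearGroup.det a).ne_zero (by simpa using hc)
  refine ⟨⟨c⁻¹ • (a : Matrix (Fin 2) (Fin 2) F), ?_⟩, ?_⟩
  · rw [Matrix.det_smul, hc, Fintype.card_fin]
    field_simp
  · have e : a = Matrix.GeneralLinearGroup.scalar (Fin 2) (Units.mk0 c hc0) *
        Matrix.SpecialLinearGroup.toGL ⟨c⁻¹ • (a : Matrix (Fin 2) (Fin 2) F), by
          rw [Matrix.det_smul, hc, Fintype.card_fin]; field_simp⟩ := by
      apply Units.ext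
      ext i j
      show _ = (Matrix.scalar (Fin 2) c * (c⁻¹ • (a : Matrix (Fin 2) (Fin 2) F))) i j
      simp [Matrix.scalar_apply, hc0]
    conv_lhs => rw [e, map_mul, cj_scalar le_rfl, one_mul]

end Field

variable {G : Type*} [Group G] [Finite G] {F : Type} [Field F] [Fintype F]

/-- The structure of `G` as a group between `PSL(2, F)` and its automorphism group. -/
theorem psl_or_pgl (hE : EC G) (hD : SylowDihedral G) (M : Subgroup G) [M.Normal] (hgM : Good M)
    (hC : centralizer (M : Set G) = ⊥) (hodd : Odd (Fintype.card F)) (e : M ≃* P 2 F) :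
    Nonempty (G ≃* P 2 F) ∨ Nonempty (G ≃* Matrix.ProjGenLinGroup (Fin 2) F) := by
  haveI : Fact (Nat.Prime 2) := ⟨Nat.prime_two⟩
  obtain ⟨ρ, hρ⟩ : ∃ ρ : G →* MulAut (P 2 F), ∀ g x, ρ g x = e (MulAut.conjNormal g (e.symm x)) :=
    ⟨MonoidHom.mk' (fun g => (e.symm.trans (MulAut.conjNormal g)).trans e) (fun g h => by
      ext x; simp [MulAut.mul_apply]), fun g x => rfl⟩
  have hinj : Function.Injective ρ := by
    rw [injective_iff_map_eq_one]
    intro g hg
    have h : g ∈ centralizer (M : Set G) := by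
      refine mem_centralizer_iff.2 fun x hx => ?_
      have h1 := hρ g (e ⟨x, hx⟩)
      rw [hg, e.symm_apply_apply, MulAut.one_apply] at h1
      have h2 := congrArg Subtype.val (e.injective h1)
      rw [MulAut.conjNormal_apply] at h2
      exact (mul_inv_eq_iff_eq_mul.1 h2.symm).symm
    rwa [hC, mem_bot] at h
  have hρM : ∀ m : M, ρ m = MulAut.conj (e m) := by
    intro m; ext x
    rw [hρ, MulAut.conj_apply, show MulAut.conjNormal (m : G) (e.symm x) = m * e.symm x * m⁻¹ from
      Subtype.ext (MulAut.conjNormal_apply _ _), map_mul, map_mul, map_inv, e.apply_symm_apply]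
  have hρm : ∀ s : SL(2, F), ρ (e.symm (QuotientGroup.mk s) : M) = cj (Matrix.SpecialLinearGroup.toGL s) := by
    intro s
    rw [hρM, e.apply_symm_apply, AutPSLGeometry.conj_mk]
  have hsq : ∀ a : GL (Fin 2) F, IsSquare (a : Matrix (Fin 2) (Fin 2) F).det →
      ∃ m ∈ M, ρ m = cj a := by
    intro a ha
    obtain ⟨s, hs⟩ := cj_of_isSquare a ha
    exact ⟨_, SetLike.coe_mem _, (hρm s).trans hs.symm⟩
  -- prime field matrices
  obtain ⟨p, hp⟩ := CharP.exists F
  haveI := hp
  haveI hpp : Fact p.Prime := ⟨(CharP.char_is_prime_or_zero F p).resolve_right (CharP.char_ne_zero_of_finite F p)⟩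
  have h2 : (2 : F) ≠ 0 := by
    refine Ring.two_ne_zero fun h => ?_
    have := FiniteField.even_card_iff_char_two.1 h
    rw [Nat.odd_iff] at hodd; omega
  obtain ⟨a₀, b₀, hab₀⟩ := ZMod.sq_add_sq p (-1)
  obtain ⟨a, ha⟩ : ∃ a : F, a = ZMod.castHom (dvd_refl p) F a₀ := ⟨_, rfl⟩
  obtain ⟨b, hb⟩ : ∃ b : F, b = ZMod.castHom (dvd_refl p) F b₀ := ⟨_, rfl⟩
  have hab : a ^ 2 + b ^ 2 = -1 := by
    rw [ha, hb, ← map_pow, ← map_pow, ← map_add, hab₀, map_neg, map_one]
  have hfix : ∀ (σ : F ≃+* F) (c : ZMod p), σ (ZMod.castHom (dvd_refl p) F c) = ZMod.castHom (dvd_refl p) F c :=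
    fun σ c => RingHom.congr_fun (RingHom.ext_zmod ((σ : F →+* F).comp (ZMod.castHom (dvd_refl p) F))
      (ZMod.castHom (dvd_refl p) F)) c
  obtain ⟨w, hw⟩ : ∃ w : SL(2, F), (w : Matrix (Fin 2) (Fin 2) F) = !![0, 1; -1, 0] :=
    ⟨⟨!![0, 1; -1, 0], by simp [Matrix.det_fin_two]⟩, rfl⟩
  obtain ⟨u, hu⟩ : ∃ u : SL(2, F), (u : Matrix (Fin 2) (Fin 2) F) = !![1, 1; 0, 1] :=
    ⟨⟨!![1, 1; 0, 1], by simp [Matrix.det_fin_two]⟩, rfl⟩
  obtain ⟨z, hz⟩ : ∃ z : SL(2, F), (z : Matrix (Fin 2) (Fin 2) F) = !![a, b; b, -a] :=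
    ⟨⟨!![a, b; b, -a], by rw [Matrix.det_fin_two_of]; linear_combination -hab⟩, rfl⟩
  have hcenter : ∀ c : SL(2, F), c ∈ center SL(2, F) →
      c.1 0 1 = 0 ∧ c.1 1 0 = 0 ∧ c.1 0 0 = c.1 1 1 := by
    intro c hc
    rw [Matrix.SpecialLinearGroup.mem_center_iff] at hc
    obtain ⟨r, -, hr⟩ := hc
    rw [← hr]
    simp
  have hww : (QuotientGroup.mk w : P 2 F) * QuotientGroup.mk w = 1 := by
    rw [← QuotientGroup.mk_mul, QuotientGroup.eq_one_iff, Matrix.SpecialLinearGroup.mem_center_iff]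
    refine ⟨-1, by simp, ?_⟩
    rw [Matrix.SpecialLinearGroup.coe_mul, hw]
    ext i j; fin_cases i <;> fin_cases j <;> simp [Matrix.mul_apply]
  have hw1 : (QuotientGroup.mk w : P 2 F) ≠ 1 := fun h => by
    rw [QuotientGroup.eq_one_iff] at h
    have := (hcenter w h).1
    rw [hw] at this
    simp at this
  have hzz : (QuotientGroup.mk z : P 2 F) * QuotientGroup.mk z = 1 := by
    rw [← QuotientGroup.mk_mul, QuotientGroup.eq_one_iff, Matrix.SpecialLinearGroup.mem_center_iff]
    refine ⟨-1, by simp, ?_⟩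
    rw [Matrix.SpecialLinearGroup.coe_mul, hz]
    ext i j
    fin_cases i <;> fin_cases j <;> simp [Matrix.mul_apply, Matrix.scalar_apply] <;>
      first | linear_combination -hab | linear_combination hab | ring
  have hz1 : (QuotientGroup.mk z : P 2 F) ≠ 1 := fun h => by
    rw [QuotientGroup.eq_one_iff] at h
    obtain ⟨h01, -, h00⟩ := hcenter z h
    rw [hz] at h01 h00
    simp at h01 h00
    have ha0 : a = 0 := by
      have : (2 : F) * a = 0 := by linear_combination h00
      exact (mul_eq_zero.1 this).resolve_left h2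
    rw [ha0, h01] at hab
    simp at hab
  have hwzne : (QuotientGroup.mk w : P 2 F) ≠ QuotientGroup.mk z := fun h => by
    obtain ⟨h01, h10, h00⟩ := hcenter _ (QuotientGroup.eq.1 h)
    rw [Matrix.SpecialLinearGroup.coe_mul, Matrix.SpecialLinearGroup.coe_inv, hw, hz,
      Matrix.adjugate_fin_two_of] at h01 h10 h00
    simp [Matrix.mul_apply] at h01 h10 h00
    have ha0 : a = 0 := by linear_combination h01
    have hb0 : b = 0 := by
      have : (2 : F) * b = 0 := by linear_combination -h00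
      exact (mul_eq_zero.1 this).resolve_left h2
    rw [ha0, hb0] at hab
    simp at hab
  have hwz : (QuotientGroup.mk w : P 2 F) * QuotientGroup.mk z = QuotientGroup.mk z * QuotientGroup.mk w := by
    rw [← QuotientGroup.mk_mul, ← QuotientGroup.mk_mul, QuotientGroup.eq,
      Matrix.SpecialLinearGroup.mem_center_iff]
    refine ⟨-1, by simp, ?_⟩
    rw [Matrix.SpecialLinearGroup.coe_mul, Matrix.SpecialLinearGroup.coe_inv,
      Matrix.SpecialLinearGroup.coe_mul, Matrix.SpecialLinearGroup.coe_mul, hw, hz, Matrix.mul_fin_two,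
      Matrix.mul_fin_two, Matrix.adjugate_fin_two_of, Matrix.mul_fin_two]
    ext i j
    fin_cases i <;> fin_cases j <;> simp [Matrix.scalar_apply] <;>
      first | linear_combination -hab | linear_combination hab | ring
  have hwu : (QuotientGroup.mk w : P 2 F) * QuotientGroup.mk u ≠ QuotientGroup.mk u * QuotientGroup.mk w := by
    intro h
    rw [← QuotientGroup.mk_mul, ← QuotientGroup.mk_mul, QuotientGroup.eq] at h
    obtain ⟨h01, h10, h00⟩ := hcenter _ h
    rw [Matrix.SpecialLinearGroup.coe_mul, Matrix.SpecialLinearGroup.coe_inv,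
      Matrix.SpecialLinearGroup.coe_mul, Matrix.SpecialLinearGroup.coe_mul, hw, hu, Matrix.mul_fin_two,
      Matrix.mul_fin_two, Matrix.adjugate_fin_two_of, Matrix.mul_fin_two] at h01 h10 h00
    simp at h01 h10 h00
  have cfix : ∀ (φ : G) (σ : F ≃+* F) (s : SL(2, F)), ρ φ = fd σ → (∀ i j, σ (s.1 i j) = s.1 i j) →
      Commute φ ((e.symm (QuotientGroup.mk s) : M) : G) := by
    intro φ σ s hφ hs
    refine hinj ?_
    rw [map_mul, map_mul, hφ, hρm, fd_mul_cj']
    congr 2
    apply Units.ext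
    ext i j
    exact hs i j
  have mconv : ∀ x y : P 2 F, ((e.symm x : M) : G) * (e.symm y : M) = (e.symm (x * y) : M) := fun x y => by
    rw [map_mul]; rfl
  have hcoe_inj : ∀ x y : P 2 F, ((e.symm x : M) : G) = (e.symm y : M) → x = y :=
    fun x y h => e.symm.injective (Subtype.ext h)
  have hinvol : ∀ x : P 2 F, x * x = 1 → x ≠ 1 → orderOf ((e.symm x : M) : G) = 2 := by
    intro x hx hx1
    refine orderOf_eq_prime (by rw [pow_two, mconv, hx, map_one]; rfl) fun h => hx1 ?_
    exact e.symm.injective (by rw [map_one]; exact Subtype.ext h)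
  -- no pure field automorphism of prime order
  have no_field : ∀ (φ : G) (σ : F ≃+* F) (r : ℕ), r.Prime → orderOf σ = r → ρ φ = fd σ → False := by
    intro φ σ r hr hσ hφ
    have hφo : orderOf φ = r := by
      rw [← orderOf_injective ρ hinj, hφ, orderOf_injective (fd : (F ≃+* F) →* MulAut (P 2 F)) (fd_injective le_rfl), hσ]
    have hσw : ∀ i j, σ (w.1 i j) = w.1 i j := by intro i j; rw [hw]; fin_cases i <;> fin_cases j <;> simp
    have hσu : ∀ i j, σ (u.1 i j) = u.1 i j := by intro i j; rw [hu]; fin_cases i <;> fin_cases j <;> simp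
    have hσz : ∀ i j, σ (z.1 i j) = z.1 i j := by
      intro i j; rw [hz]; fin_cases i <;> fin_cases j <;> simp [ha, hb, hfix, -ZMod.castHom_apply]
    have hcw := cfix φ σ w hφ hσw
    have hw2 := hinvol _ hww hw1
    rcases hr.eq_two_or_odd' with rfl | hrodd
    · have hz2 := hinvol _ hzz hz1
      have hcz := cfix φ σ z hφ hσz
      have hmem : φ ∈ M := by
        rcases four_self_centralizing hD hw2 hz2 hφo (fun h => hwzne (hcoe_inj _ _ h))
          (show Commute _ _ by rw [commute_iff_eq, mconv, mconv, hwz]) hcw.symm hcz.symm with h | h | h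
        · exact h ▸ SetLike.coe_mem _
        · exact h ▸ SetLike.coe_mem _
        · exact h ▸ mul_mem (SetLike.coe_mem _) (SetLike.coe_mem _)
      -- an inner automorphism is no field automorphism
      obtain ⟨s, hs⟩ := QuotientGroup.mk_surjective (e ⟨φ, hmem⟩)
      have h1 : ρ φ = cj (Matrix.SpecialLinearGroup.toGL s) * fd 1 := by
        rw [map_one, mul_one, ← hρm s, hs, e.symm_apply_apply]
      rw [hφ, ← one_mul (fd σ), ← map_one (cj : GL (Fin 2) F →* MulAut (P 2 F))] at h1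
      rw [semi_inj h1, orderOf_one] at hσ
      exact Nat.one_ne_zero (by omega)
    · have h1 := mem_cen.2 hcw
      have hφ1 : φ ≠ 1 := fun h => hr.ne_one (by rw [← hφo, h, orderOf_one])
      have hcu := cfix φ σ u hφ hσu
      have h2 : ((e.symm (QuotientGroup.mk u) : M) : G) ∈ normalizer (zpowers φ : Set G) := by
        rw [mem_normalizer_iff]
        intro x
        have key : ∀ y ∈ zpowers φ, Commute ((e.symm (QuotientGroup.mk u) : M) : G) y := by
          rintro y ⟨i, rfl⟩
          exact (hcu.symm).zpow_right i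
        constructor
        · intro hx
          rw [(key x hx).eq, mul_inv_cancel_right]
          exact hx
        · intro hx
          have h' := key _ hx
          have e2 : x = ((e.symm (QuotientGroup.mk u) : M) : G) * x * ((e.symm (QuotientGroup.mk u) : M) : G)⁻¹ := by
            refine mul_left_cancel (a := ((e.symm (QuotientGroup.mk u) : M) : G)) ?_
            rw [h'.eq]; group
          rw [e2]; exact hx
      rw [norm_odd hE hw2 h1 (by rw [hφo]; exact hrodd) hφ1] at h2
      have := (mem_cen.1 h2).eq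
      rw [mconv, mconv] at this
      exact hwu (hcoe_inj _ _ this).symm
  have hdec : ∀ g : G, ∃ (a : GL (Fin 2) F) (σ : F ≃+* F), ρ g = cj a * fd σ := fun g => rigid_two (ρ g)
  have hpow : ∀ (g : G) (a : GL (Fin 2) F) (σ : F ≃+* F), ρ g = cj a * fd σ → ∀ k : ℕ,
      ∃ a', ρ (g ^ k) = cj a' * fd (σ ^ k) := by
    intro g a σ h k
    induction k with
    | zero => exact ⟨1, by rw [pow_zero, pow_zero, map_one, map_one, map_one, mul_one]⟩
    | succ k ih =>
      obtain ⟨a', ha'⟩ := ih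
      exact ⟨a' * gmap (σ ^ k) a, by rw [pow_succ, map_mul, ha', h, semi_mul, pow_succ]⟩
  -- all field parts are trivial
  have hσ1 : ∀ (g : G) (a : GL (Fin 2) F) (σ : F ≃+* F), ρ g = cj a * fd σ → σ = 1 := by
    intro g₀ c₀ σ₀ h₀
    by_contra hne
    obtain ⟨r, hr, hrd⟩ := Nat.exists_prime_and_dvd (fun h => hne (orderOf_eq_one_iff.1 h) : orderOf σ₀ ≠ 1)
    haveI : Finite (F ≃+* F) := Finite.of_injective _ DFunLike.coe_injective
    have hfin : 0 < orderOf σ₀ := orderOf_pos σ₀
    obtain ⟨g₁, hg₁⟩ : ∃ g₁, g₁ = g₀ ^ (orderOf σ₀ / r) := ⟨_, rfl⟩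
    obtain ⟨σ, hσdef⟩ : ∃ σ, σ = σ₀ ^ (orderOf σ₀ / r) := ⟨_, rfl⟩
    obtain ⟨c₁, hc₁⟩ := hpow g₀ c₀ σ₀ h₀ (orderOf σ₀ / r)
    rw [← hg₁, ← hσdef] at hc₁
    have hσ : orderOf σ = r := by
      rw [hσdef]
      exact orderOf_pow_orderOf_div hfin.ne' hrd
    rcases hr.eq_two_or_odd' with hr2 | hrodd
    swap
    · obtain ⟨m, hm, hmρ⟩ := hsq (c₁ * gmap σ c₁) (by
        rw [Units.val_mul, Matrix.det_mul, det_gmap]; exact isSquare_mul_map hodd σ _)
      refine no_field (m⁻¹ * (g₁ * g₁)) (σ * σ) r hr ?_ ?_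
      · rw [← pow_two, Nat.Coprime.orderOf_pow, hσ]
        rw [hσ, Nat.coprime_two_right]; exact hrodd
      · rw [map_mul, map_mul, map_inv, hmρ, hc₁, semi_mul]
        group
    subst hr2
    -- pass to a `2`-element
    obtain ⟨i, m, hm, him⟩ := Nat.exists_eq_two_pow_mul_odd (orderOf_pos g₁).ne'
    obtain ⟨c₂, hc₂⟩ := hpow g₁ c₁ σ hc₁ m
    have hσm : σ ^ m = σ := by
      obtain ⟨k, rfl⟩ := hm
      rw [pow_succ, pow_mul, ← hσ, pow_orderOf_eq_one, one_pow, one_mul]
    rw [hσm] at hc₂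
    have hp2 : IsPGroup 2 (zpowers (g₁ ^ m)) := IsPGroup.of_card (n := i) (by
      rw [Nat.card_zpowers, orderOf_pow' g₁ (by rintro rfl; simp at hm), him,
        Nat.gcd_eq_right (dvd_mul_left m _), Nat.mul_div_cancel _ hm.pos])
    obtain ⟨R⟩ : Nonempty (Sylow 2 M) := inferInstance
    obtain ⟨S, hS⟩ := ((R.isPGroup').map M.subtype).exists_le_sylow
    obtain ⟨B, hBc, hBS, -, hBsq, hBmul, -⟩ := hD S
    obtain ⟨T, hT⟩ := hp2.exists_le_sylow
    obtain ⟨x, hx⟩ := MulAction.exists_smul_eq G T S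
    obtain ⟨s, hs⟩ : ∃ s, s = x * g₁ ^ m * x⁻¹ := ⟨_, rfl⟩
    have hsS : s ∈ (S : Subgroup G) := by rw [← hx, hs]; exact ⟨_, hT (mem_zpowers _), rfl⟩
    obtain ⟨cs, τ, hcs, hτ⟩ : ∃ (cs : GL (Fin 2) F) (τ : F ≃+* F),
        ρ s = cj cs * fd τ ∧ orderOf τ = 2 := by
      obtain ⟨cx, σx, hx'⟩ := hdec x
      obtain ⟨ci, σi, hi'⟩ := hdec x⁻¹
      have hsum : σx * σi = 1 := by
        have h1 : ρ (x * x⁻¹) = cj 1 * fd 1 := by rw [mul_inv_cancel, map_one, map_one, map_one, mul_one]
        rw [map_mul, hx', hi', semi_mul] at h1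
        exact semi_inj h1
      refine ⟨cx * gmap σx c₂ * gmap (σx * σ) ci, σx * σ * σi, ?_, ?_⟩
      · rw [hs, map_mul, map_mul, hx', hc₂, hi', semi_mul, semi_mul]
      · rw [eq_inv_of_mul_eq_one_right hsum, orderOf_conj, hσ]
    obtain ⟨r₀, hr₀, hr₀B⟩ : ∃ r₀ : M, r₀ ∈ (R : Subgroup M) ∧ (r₀ : G) ∉ B := by
      by_contra hcon
      push Not at hcon
      refine hgM.not_cyclic R ?_
      haveI := hBc
      exact isCyclic_of_injective
        ({ toFun := fun r => (⟨((r : M) : G), hcon r r.2⟩ : B), map_one' := rfl,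
           map_mul' := fun _ _ => rfl } : (R : Subgroup M) →* B)
        (fun a b h => Subtype.ext (Subtype.ext (congrArg (fun x : B => (x : G)) h)))
    have hr₀S : (r₀ : G) ∈ (S : Subgroup G) := hS ⟨r₀, hr₀, rfl⟩
    obtain ⟨v, cv, hvv, hv⟩ : ∃ (v : G) (cv : GL (Fin 2) F), v * v = 1 ∧ ρ v = cj cv * fd τ := by
      by_cases hsB : s ∈ B
      · obtain ⟨sr, hsr⟩ := QuotientGroup.mk_surjective (e r₀)
        have h1 : ρ (r₀ : G) = cj (Matrix.SpecialLinearGroup.toGL sr) * fd 1 := by
          rw [map_one, mul_one, ← hρm sr, hsr, e.symm_apply_apply]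
        refine ⟨s * r₀, cs * gmap τ (Matrix.SpecialLinearGroup.toGL sr), hBsq _ (mul_mem hsS hr₀S)
          (fun h => hr₀B (by simpa using mul_mem (inv_mem hsB) h)), ?_⟩
        rw [map_mul, hcs, h1, semi_mul, mul_one]
      · exact ⟨s, cs, hBsq s hsS hsB, hcs⟩
    have h11 := congrArg ρ hvv
    rw [map_mul, map_one, hv, semi_mul] at h11
    obtain ⟨l, hl⟩ := (AutPSLField.mem_center _).1 (cj_fd_eq_one le_rfl h11).1
    have hlfix : Units.map (τ : F →* F) l = l := by
      have e1 := congrArg (gmap τ) hl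
      rw [map_mul, gmap_scalar] at e1
      have e2 : gmap τ (gmap τ cv) = cv := by
        apply Units.ext; ext i j
        show τ (τ _) = _
        have : τ * τ = 1 := by rw [← pow_two, ← hτ, pow_orderOf_eq_one]
        rw [← RingAut.mul_apply, this]; rfl
      rw [e2] at e1
      have e3 : gmap τ cv * cv = Matrix.GeneralLinearGroup.scalar (Fin 2) l := by
        calc gmap τ cv * cv = cv⁻¹ * (cv * gmap τ cv) * cv := by group
          _ = Matrix.GeneralLinearGroup.scalar (Fin 2) l := by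
            rw [hl, mul_assoc, ← AutPSLField.scalar_comm, inv_mul_cancel_left]
      rw [e3] at e1
      have e4 := Matrix.ext_iff.2 (congrArg Units.val e1) 0 0
      apply Units.ext
      simpa using e4.symm
    have hsd : IsSquare (cv : Matrix (Fin 2) (Fin 2) F).det := by
      refine isSquare_of_norm hodd hτ (congrArg Units.val hlfix) l.ne_zero ?_
      have e5 := congrArg (fun g : GL (Fin 2) F => (g : Matrix (Fin 2) (Fin 2) F).det) hl
      simpa [Matrix.det_mul, det_gmap, Matrix.GeneralLinearGroup.coe_scalar, Matrix.scalar_apply] using e5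
    obtain ⟨mm, -, hmm⟩ := hsq cv hsd
    refine no_field (mm⁻¹ * v) τ 2 Nat.prime_two hτ ?_
    rw [map_mul, map_inv, hmm, hv, inv_mul_cancel_left]
  have hcj : ∀ g : G, ∃ a : GL (Fin 2) F, ρ g = cj a := by
    intro g
    obtain ⟨a, σ, h⟩ := hdec g
    exact ⟨a, by rw [h, hσ1 g a σ h, map_one, mul_one]⟩
  by_cases hall : ∀ g : G, g ∈ M
  · exact Or.inl ⟨((Subgroup.topEquiv.symm.trans (MulEquiv.subgroupCongr
      (show (⊤ : Subgroup G) = M from le_antisymm (fun g _ => hall g) le_top))).trans e)⟩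
  right
  push Not at hall
  obtain ⟨g₀, hg₀⟩ := hall
  obtain ⟨c, hc⟩ := hcj g₀
  have hns : ¬ IsSquare (c : Matrix (Fin 2) (Fin 2) F).det := fun h => by
    obtain ⟨m, hm, hmρ⟩ := hsq c h
    exact hg₀ (hinj (hc.trans hmρ.symm) ▸ hm)
  have hrange : ρ.range = (cjP (F := F) (n := 2) le_rfl).range := by
    apply le_antisymm
    · rintro - ⟨g, rfl⟩
      obtain ⟨a, ha⟩ := hcj g
      exact ⟨QuotientGroup.mk a, ha.symm⟩
    · rintro - ⟨q, rfl⟩
      obtain ⟨a, rfl⟩ := QuotientGroup.mk_surjective q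
      change cj a ∈ ρ.range
      by_cases has : IsSquare (a : Matrix (Fin 2) (Fin 2) F).det
      · obtain ⟨m, -, hm⟩ := hsq a has
        exact ⟨m, hm⟩
      · obtain ⟨m, -, hm⟩ := hsq (a * c) (by
          rw [Units.val_mul, Matrix.det_mul]
          exact isSquare_mul_of_iff hodd (iff_of_false has hns))
        exact ⟨m * g₀⁻¹, by rw [map_mul, map_inv, hm, hc, map_mul, mul_inv_cancel_right]⟩
  exact ⟨((MonoidHom.ofInjective hinj).trans (MulEquiv.subgroupCongr hrange)).trans
    (MonoidHom.ofInjective (cjP_injective le_rfl)).symm⟩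

end Cfsg.Agent.EvenCyclic27
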