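import Mathlib

/-!
Groups in which every nontrivial subgroup of a cyclic subgroup of even order has the same normalizer as
the cyclic subgroup (for S3730): centralizers of involutions, their odd parts, central involutions.
-/

set_option autoImplicit false
set_option linter.style.haveILetI false

namespace Cfsg.Agent.EvenCyclic27

open Subgroup

variable {G : Type*} [Group G]

/-- The hypothesis of S3730. -/
def EC (G : Type*) [Group G] : Prop :=
  ∀ X : Subgroup G, IsCyclic ↥X → Even (Nat.card ↥X) → ∀ Y : Subgroup G, Y ≤ X → Y ≠ ⊥ →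
    normalizer (X : Set G) = normalizer (Y : Set G)

/-- The centralizer of an element. -/
abbrev cen (t : G) : Subgroup G := centralizer ({t} : Set G)

theorem mem_cen {t g : G} : g ∈ cen t ↔ Commute g t := mem_centralizer_singleton_iff

theorem self_mem_cen (t : G) : t ∈ cen t := mem_cen.2 (Commute.refl t)

theorem mem_cen_comm {t g : G} (h : g ∈ cen t) : t ∈ cen g := mem_cen.2 (mem_cen.1 h).symm

theorem conj_zpowers (g x : G) :
    (zpowers x).map (MulAut.conj g).toMonoidHom = zpowers (g * x * g⁻¹) := by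
  rw [MonoidHom.map_zpowers]; simp

theorem orderOf_conj (g x : G) : orderOf (g * x * g⁻¹) = orderOf x := by
  simpa using orderOf_injective (MulAut.conj g).toMonoidHom (MulAut.conj g).injective x

theorem mem_cen_conj {t g n : G} (h : g ∈ cen t) : n * g * n⁻¹ ∈ cen (n * t * n⁻¹) := by
  refine mem_cen.2 ?_
  calc n * g * n⁻¹ * (n * t * n⁻¹) = n * (g * t) * n⁻¹ := by group
    _ = n * (t * g) * n⁻¹ := by rw [(mem_cen.1 h).eq]
    _ = n * t * n⁻¹ * (n * g * n⁻¹) := by group

theorem conj_mem_zpowers {g x : G} (h : g ∈ normalizer (zpowers x : Set G)) :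
    g * x * g⁻¹ ∈ zpowers x :=
  (mem_normalizer_iff.1 h x).1 (mem_zpowers x)

theorem normalizer_zpowers_eq_cen {t : G} (ht : orderOf t = 2) :
    normalizer (zpowers t : Set G) = cen t := by
  have ht2 : t * t = 1 := by rw [← pow_two, ← ht, pow_orderOf_eq_one]
  have hmem : ∀ z ∈ zpowers t, z = 1 ∨ z = t := by
    rintro z ⟨k, rfl⟩
    rcases Int.even_or_odd' k with ⟨m, rfl | rfl⟩
    · exact Or.inl (by simp [zpow_mul, pow_two, ht2])
    · exact Or.inr (by simp [zpow_add_one, zpow_mul, pow_two, ht2])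
  have ht1 : t ≠ 1 := fun h => by simp [h] at ht
  ext g
  constructor
  · intro hg
    refine mem_cen.2 ?_
    rcases hmem _ (conj_mem_zpowers hg) with h | h
    · exact absurd (by simpa [mul_inv_eq_one] using h) ht1
    · calc g * t = (g * t * g⁻¹) * g := by group
        _ = t * g := by rw [h]
  · intro hg
    rw [mem_normalizer_iff]
    have hc : ∀ z ∈ zpowers t, g * z * g⁻¹ = z := by
      rintro z ⟨k, rfl⟩
      change g * t ^ k * g⁻¹ = t ^ k
      rw [((mem_cen.1 hg).zpow_right k).eq, mul_inv_cancel_right]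
    intro z
    constructor
    · intro hz; rw [hc z hz]; exact hz
    · intro hz
      have h2 : z = g⁻¹ * (g * z * g⁻¹) * g := by group
      have h3 := hc _ hz
      rw [mul_inv_eq_iff_eq_mul] at h3
      rw [h2, mul_assoc g⁻¹, ← h3]
      simpa [mul_assoc] using hz

/-- The normalizer of every nontrivial subgroup of a cyclic group with involution `t` is `cen t`. -/
theorem norm_eq (hE : EC G) {x t : G} (ht : orderOf t = 2) (htx : t ∈ zpowers x) {Y : Subgroup G}
    (hY : Y ≤ zpowers x) (hY1 : Y ≠ ⊥) : normalizer (Y : Set G) = cen t := by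
  have hev : Even (Nat.card ↥(zpowers x)) := by
    rw [even_iff_two_dvd, ← ht]
    exact orderOf_dvd_natCard _ htx
  have ht1 : zpowers t ≠ ⊥ := by
    rw [ne_eq, zpowers_eq_bot]; intro h; simp [h] at ht
  rw [← hE _ inferInstance hev Y hY hY1,
    hE _ inferInstance hev (zpowers t) (zpowers_le.2 htx) ht1, normalizer_zpowers_eq_cen ht]

/-- An element of odd order in `cen t` generates a subgroup with normalizer `cen t`. -/
theorem norm_odd (hE : EC G) {t a : G} (ht : orderOf t = 2) (ha : a ∈ cen t) (hodd : Odd (orderOf a))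
    (ha1 : a ≠ 1) : normalizer (zpowers a : Set G) = cen t := by
  have hc : Commute a t := mem_cen.1 ha
  have htt : t ^ 2 = 1 := by rw [← ht]; exact pow_orderOf_eq_one t
  obtain ⟨k, hk⟩ := hodd
  have htm : (a * t) ^ (2 * k + 1) = t := by
    rw [hc.mul_pow, ← hk, pow_orderOf_eq_one, one_mul, hk, pow_succ, pow_mul, htt, one_pow, one_mul]
  have ham : (a * t) ^ (2 * (k + 1)) = a := by
    rw [hc.mul_pow, show 2 * (k + 1) = orderOf a + 1 by omega, pow_succ, pow_orderOf_eq_one,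
      one_mul, show orderOf a + 1 = 2 * (k + 1) by omega, pow_mul, htt, one_pow, mul_one]
  exact norm_eq hE (x := a * t) ht (by have := pow_mem (mem_zpowers (a * t)) (2 * k + 1); rwa [htm] at this)
    (zpowers_le.2 (by have := pow_mem (mem_zpowers (a * t)) (2 * (k + 1)); rwa [ham] at this))
    (by simpa [zpowers_eq_bot] using ha1)

/-- Two involutions centralizing a common element of odd order have the same centralizer. -/
theorem cen_eq_cen (hE : EC G) {t s a : G} (ht : orderOf t = 2) (hs : orderOf s = 2) (hat : a ∈ cen t)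
    (has : a ∈ cen s) (hodd : Odd (orderOf a)) (ha1 : a ≠ 1) : cen s = cen t := by
  rw [← norm_odd hE hs has hodd ha1, ← norm_odd hE ht hat hodd ha1]

/-- Every element of `cen t` normalizes `⟨a⟩` for `a` of odd order in `cen t`. -/
theorem conj_odd_mem (hE : EC G) {t a g : G} (ht : orderOf t = 2) (hat : a ∈ cen t) (hodd : Odd (orderOf a))
    (hg : g ∈ cen t) : g * a * g⁻¹ ∈ zpowers a := by
  rcases eq_or_ne a 1 with rfl | ha1
  · simp
  · exact conj_mem_zpowers (by rw [norm_odd hE ht hat hodd ha1]; exact hg)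

/-- Powers: an element of order `2 ^ (k + 2)` has its cyclic group normalized by the centralizer of its involution. -/
theorem norm_two (hE : EC G) {x : G} {k : ℕ} (hx : orderOf x = 2 ^ (k + 1)) :
    normalizer (zpowers x : Set G) = cen (x ^ 2 ^ k) ∧ orderOf (x ^ 2 ^ k) = 2 := by
  have ho : orderOf (x ^ 2 ^ k) = 2 := by
    rw [orderOf_pow' x (pow_ne_zero _ two_ne_zero), hx,
      Nat.gcd_eq_right (pow_dvd_pow 2 k.le_succ), Nat.pow_div k.le_succ two_pos]
    simp
  refine ⟨norm_eq hE ho (pow_mem (mem_zpowers x) _) le_rfl ?_, ho⟩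
  rw [ne_eq, zpowers_eq_bot]
  rintro rfl
  rw [orderOf_one] at hx
  exact absurd hx.symm (Nat.one_lt_two_pow (Nat.succ_ne_zero k)).ne'

variable [Finite G]

omit [Finite G] in
theorem odd_orderOf_mul (hE : EC G) {t a b : G} (ht : orderOf t = 2) (ha : a ∈ cen t) (hb : b ∈ cen t)
    (hoa : Odd (orderOf a)) (hob : Odd (orderOf b)) : Odd (orderOf (a * b)) := by
  have key : ∀ n : ℕ, ∃ c ∈ zpowers b, (a * b) ^ n = a ^ n * c := by
    intro n
    induction n with
    | zero => exact ⟨1, one_mem _, by simp⟩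
    | succ n ih =>
      obtain ⟨c, hc, hn⟩ := ih
      have h1 : a⁻¹ * c * a ∈ zpowers b := by
        obtain ⟨i, rfl⟩ := hc
        have h2 := conj_odd_mem hE ht hb hob (inv_mem ha)
        rw [inv_inv] at h2
        have h3 := zpow_mem h2 i
        rwa [show (a⁻¹ * b * a) ^ i = a⁻¹ * b ^ i * a by
          have := conj_zpow (a := a⁻¹) (b := b) (i := i); rwa [inv_inv] at this] at h3
      refine ⟨a⁻¹ * c * a * b, mul_mem h1 (mem_zpowers b), ?_⟩
      rw [pow_succ, hn, pow_succ]; group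
  obtain ⟨c, hc, hn⟩ := key (orderOf a)
  rw [pow_orderOf_eq_one, one_mul] at hn
  have hd : orderOf (a * b) ∣ orderOf a * orderOf b := by
    apply orderOf_dvd_of_pow_eq_one
    rw [pow_mul, hn, ← orderOf_dvd_iff_pow_eq_one]
    exact (orderOf_dvd_natCard _ hc).trans (by rw [Nat.card_zpowers])
  exact (hoa.mul hob).of_dvd_nat hd

/-- The elements of odd order of `cen t`. -/
def oddPart (hE : EC G) {t : G} (ht : orderOf t = 2) : Subgroup G where
  carrier := {a | a ∈ cen t ∧ Odd (orderOf a)}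
  mul_mem' ha hb := ⟨mul_mem ha.1 hb.1, odd_orderOf_mul hE ht ha.1 hb.1 ha.2 hb.2⟩
  one_mem' := ⟨one_mem _, by rw [orderOf_one]; exact odd_one⟩
  inv_mem' ha := ⟨inv_mem ha.1, by rw [orderOf_inv]; exact ha.2⟩

theorem mem_oddPart {hE : EC G} {t : G} {ht : orderOf t = 2} {a : G} :
    a ∈ oddPart hE ht ↔ a ∈ cen t ∧ Odd (orderOf a) := Iff.rfl

theorem oddPart_le (hE : EC G) {t : G} (ht : orderOf t = 2) : oddPart hE ht ≤ cen t := fun _ h => h.1

theorem oddPart_conj (hE : EC G) {t : G} (ht : orderOf t = 2) {g a : G} (hg : g ∈ cen t)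
    (ha : a ∈ oddPart hE ht) : g * a * g⁻¹ ∈ oddPart hE ht :=
  ⟨mul_mem (mul_mem hg ha.1) (inv_mem hg), by rw [orderOf_conj]; exact ha.2⟩

theorem odd_card_oddPart (hE : EC G) {t : G} (ht : orderOf t = 2) :
    Odd (Nat.card (oddPart hE ht)) := by
  rw [← Nat.not_even_iff_odd, even_iff_two_dvd]
  intro h
  haveI : Fact (Nat.Prime 2) := ⟨Nat.prime_two⟩
  obtain ⟨x, hx⟩ := exists_prime_orderOf_dvd_card' 2 h
  rw [← Subgroup.orderOf_coe] at hx
  have := x.2.2
  rw [hx] at this
  exact absurd this (by decide)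

/-- Decomposition `cen t = oddPart * S` for a Sylow `2`-subgroup `S ≤ cen t`. -/
theorem exists_odd_mul (hE : EC G) {t : G} (ht : orderOf t = 2) (S : Sylow 2 G)
    (hS : (S : Subgroup G) ≤ cen t) {g : G} (hg : g ∈ cen t) :
    ∃ a ∈ oddPart hE ht, ∃ s ∈ (S : Subgroup G), g = a * s := by
  haveI : Fact (Nat.Prime 2) := ⟨Nat.prime_two⟩
  obtain ⟨A, hA⟩ : ∃ A : Subgroup (cen t), A = (oddPart hE ht).subgroupOf (cen t) := ⟨_, rfl⟩
  haveI hAn : A.Normal := by
    refine ⟨fun x hx y => ?_⟩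
    rw [hA, mem_subgroupOf] at hx ⊢
    exact oddPart_conj hE ht y.2 hx
  -- the quotient is a `2`-group
  have hq : IsPGroup 2 ((cen t) ⧸ A) := by
    intro x
    induction x using QuotientGroup.induction_on with
    | H x =>
      obtain ⟨k, m, hm, hkm⟩ := Nat.exists_eq_two_pow_mul_odd (orderOf_pos x).ne'
      refine ⟨k, ?_⟩
      rw [← QuotientGroup.mk_pow, QuotientGroup.eq_one_iff, hA, mem_subgroupOf]
      refine ⟨(x ^ 2 ^ k).2, ?_⟩
      rw [Subgroup.orderOf_coe, orderOf_pow' x (pow_ne_zero _ two_ne_zero), hkm,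
        Nat.gcd_eq_right (dvd_mul_right _ _), Nat.mul_div_cancel_left _ (by positivity)]
      exact hm
  obtain ⟨j, hj⟩ := IsPGroup.iff_card.1 hq
  have hAodd : Odd (Nat.card A) := by
    rw [hA, Nat.card_congr (subgroupOfEquivOfLe (oddPart_le hE ht)).toEquiv]
    exact odd_card_oddPart hE ht
  obtain ⟨T, hT⟩ : ∃ T : Subgroup (cen t), T = (S : Subgroup G).subgroupOf (cen t) := ⟨_, rfl⟩
  obtain ⟨i, hi⟩ := S.isPGroup'.exists_card_eq
  have hTc : Nat.card T = 2 ^ i := by
    rw [hT, Nat.card_congr (subgroupOfEquivOfLe hS).toEquiv, hi]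
  have hC : Nat.card (cen t) = Nat.card A * 2 ^ j := by
    rw [← hj]; exact A.card_mul_index.symm
  have h1 : 2 ^ i ∣ 2 ^ j := by
    refine (Nat.Coprime.pow_left i (Nat.coprime_two_left.2 hAodd)).dvd_of_dvd_mul_left ?_
    rw [← hC, ← hTc]
    exact T.card_subgroup_dvd_card
  have h2 : 2 ^ j ∣ 2 ^ i := by
    rw [← hi]
    exact S.pow_dvd_card_of_pow_dvd_card
      ((dvd_mul_left _ _).trans (hC ▸ (cen t).card_subgroup_dvd_card))
  have hcomp : IsComplement' A T := by
    refine isComplement'_of_coprime ?_ ?_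
    · rw [hTc, hC, Nat.dvd_antisymm h1 h2]
    · rw [hTc]; exact (Nat.Coprime.pow_left i (Nat.coprime_two_left.2 hAodd)).symm
  obtain ⟨⟨a, s⟩, has, -⟩ := hcomp.existsUnique ⟨g, hg⟩
  have ha := a.2
  have hs := s.2
  simp only [hA, SetLike.mem_coe, mem_subgroupOf] at ha
  simp only [hT, SetLike.mem_coe, mem_subgroupOf] at hs
  exact ⟨_, ha, _, hs, (congrArg Subtype.val has).symm⟩

theorem exists_conj_of_le (S S' : Sylow 2 G) {z : G} (hS : (S : Subgroup G) ≤ cen z)
    (hS' : (S' : Subgroup G) ≤ cen z) :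
    ∃ h ∈ cen z, ∀ x, x ∈ (S' : Subgroup G) ↔ h⁻¹ * x * h ∈ (S : Subgroup G) := by
  haveI : Fact (Nat.Prime 2) := ⟨Nat.prime_two⟩
  obtain ⟨⟨h, hh⟩, he⟩ := MulAction.exists_smul_eq (cen z) (S.subtype hS) (S'.subtype hS')
  refine ⟨h, hh, fun x => ?_⟩
  have he' : ((⟨h, hh⟩ : cen z) • S.subtype hS : Sylow 2 (cen z)) = S'.subtype hS' := he
  constructor
  · intro hx
    have hx' : (⟨x, hS' hx⟩ : cen z) ∈ ((⟨h, hh⟩ : cen z) • S.subtype hS : Sylow 2 (cen z)) := by
      rw [he']; exact hx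
    obtain ⟨y, hy, hyx⟩ := hx'
    have e : h * (y : G) * h⁻¹ = x := congrArg Subtype.val hyx
    rw [← e]
    simpa [mul_assoc] using (show (y : G) ∈ (S : Subgroup G) from hy)
  · intro hx
    have hy : (⟨h⁻¹ * x * h, hS hx⟩ : cen z) ∈ S.subtype hS := hx
    have h2 : (⟨h, hh⟩ : cen z) * ⟨h⁻¹ * x * h, hS hx⟩ * ⟨h, hh⟩⁻¹ ∈
        ((⟨h, hh⟩ : cen z) • S.subtype hS : Sylow 2 (cen z)) :=
      ⟨_, hy, rfl⟩
    rw [he'] at h2
    have e : h * (h⁻¹ * x * h) * h⁻¹ = x := by group
    have h3 : h * (h⁻¹ * x * h) * h⁻¹ ∈ (S' : Subgroup G) := h2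
    rwa [e] at h3

/-- If `z` is central in the Sylow subgroups `S`, `S'` and `v ∈ S` is central in `S'`, then `v` is central in `S`. -/
theorem central_of_central (hE : EC G) {z : G} (hz : orderOf z = 2) (S S' : Sylow 2 G)
    (hS : (S : Subgroup G) ≤ cen z) (hS' : (S' : Subgroup G) ≤ cen z) {v : G} (hv : v ∈ (S : Subgroup G))
    (hv' : v ∈ (S' : Subgroup G)) (hc : ∀ s ∈ (S' : Subgroup G), Commute v s) :
    ∀ s ∈ (S : Subgroup G), Commute v s := by
  obtain ⟨h, hh, hconj⟩ := exists_conj_of_le S S' hS hS'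
  obtain ⟨a, ha, s₀, hs₀, rfl⟩ := exists_odd_mul hE hz S hS hh
  obtain ⟨w, hw⟩ : ∃ w, w = a⁻¹ * v * a := ⟨_, rfl⟩
  have hwS : w ∈ (S : Subgroup G) := by
    have h1 := mul_mem (mul_mem hs₀ ((hconj v).1 hv')) (inv_mem hs₀)
    rw [hw]
    convert h1 using 1
    group
  -- `w = v`
  have hwv : w = v := by
    have h1 : v⁻¹ * w ∈ oddPart hE hz := by
      rw [hw, show v⁻¹ * (a⁻¹ * v * a) = v⁻¹ * a⁻¹ * v⁻¹⁻¹ * a by group]
      exact mul_mem (oddPart_conj hE hz (inv_mem (hS hv)) (inv_mem ha)) ha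
    have h2 : orderOf (v⁻¹ * w) = 1 := by
      haveI : Fact (Nat.Prime 2) := ⟨Nat.prime_two⟩
      obtain ⟨k, hk⟩ := IsPGroup.iff_orderOf.1 S.isPGroup' ⟨_, mul_mem (inv_mem hv) hwS⟩
      rw [Subgroup.orderOf_mk] at hk
      have h3 := h1.2
      rw [hk] at h3 ⊢
      rcases Nat.eq_zero_or_pos k with rfl | hk0
      · simp
      · exact absurd h3 (by simp [Nat.odd_pow_iff hk0.ne', parity_simps])
    exact (inv_mul_eq_one.1 (orderOf_eq_one_iff.1 h2)).symm
  intro s hs
  have hca : Commute a v := by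
    rw [hw] at hwv
    calc a * v = a * (a⁻¹ * v * a) := by rw [hwv]
      _ = v * a := by group
  have h1 : a * s * a⁻¹ ∈ (S' : Subgroup G) := by
    rw [hconj]
    convert mul_mem (mul_mem (inv_mem hs₀) hs) hs₀ using 1
    group
  have h2 := hc _ h1
  calc v * s = a⁻¹ * (v * (a * s * a⁻¹)) * a := by
        rw [show a⁻¹ * (v * (a * s * a⁻¹)) * a = (a⁻¹ * v * a) * s by group]
        rw [show a⁻¹ * v * a = v by rw [← hw, hwv]]
    _ = a⁻¹ * ((a * s * a⁻¹) * v) * a := by rw [h2.eq]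
    _ = s * v := by
        rw [show a⁻¹ * ((a * s * a⁻¹) * v) * a = s * (a⁻¹ * v * a) by group]
        rw [show a⁻¹ * v * a = v by rw [← hw, hwv]]

end Cfsg.Agent.EvenCyclic27
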