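import Cfsg.Agent.Lib.EvenCyclicCentral27
import Cfsg.Agent.Lib.TransferThompson
import Cfsg.Agent.Lib.FrobeniusFPF
import Cfsg.Agent.Lib.PGroupsCyclic
import Cfsg.Agent.S0205

/-!
For S3730: reduction to dihedral Sylow 2-subgroups.
-/

set_option autoImplicit false
set_option linter.style.haveILetI false

namespace Cfsg.Agent.EvenCyclic27

open Subgroup
open scoped MatrixGroups

variable {G : Type*} [Group G]

/-- The property is inherited by subgroups. -/
theorem EC.to_subgroup (hE : EC G) (M : Subgroup G) : EC M := by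
  intro X hX hev Y hYX hY
  have hinj : Function.Injective M.subtype := M.subtype_injective
  have e := (X.equivMapOfInjective M.subtype hinj)
  have h := hE (X.map M.subtype) (isCyclic_of_surjective _ e.surjective)
    (by rwa [← Nat.card_congr e.toEquiv]) (Y.map M.subtype) (map_mono hYX)
    (by rwa [ne_eq, map_eq_bot_iff_of_injective _ hinj])
  have key : ∀ (Z : Subgroup M) (g : M), g ∈ normalizer (Z : Set M) ↔
      (g : G) ∈ normalizer ((Z.map M.subtype : Subgroup G) : Set G) := by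
    intro Z g
    constructor
    · intro hg
      rw [mem_normalizer_iff]
      intro z
      constructor
      · rintro ⟨w, hw, rfl⟩
        exact ⟨g * w * g⁻¹, (mem_normalizer_iff.1 hg w).1 hw, rfl⟩
      · rintro ⟨w, hw, hwz⟩
        refine ⟨g⁻¹ * w * g, (mem_normalizer_iff.1 hg _).2 (by simpa [mul_assoc] using hw), ?_⟩
        change (g : G)⁻¹ * (w : G) * g = z
        rw [show (w : G) = g * z * (g : G)⁻¹ from hwz]; group
    · intro hg
      rw [mem_normalizer_iff]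
      intro z
      constructor
      · intro hz
        obtain ⟨w, hw, hwz⟩ := (mem_normalizer_iff.1 hg z).1 ⟨z, hz, rfl⟩
        rwa [← show w = g * z * g⁻¹ from Subtype.ext hwz]
      · intro hz
        obtain ⟨w, hw, hwz⟩ := (mem_normalizer_iff.1 hg z).2 ⟨g * z * g⁻¹, hz, rfl⟩
        rwa [← show w = z from Subtype.ext hwz]
  ext g
  rw [key X g, key Y g, h]

/-- No nontrivial solvable normal subgroup. -/
def NoSolv (G : Type*) [Group G] : Prop :=
  ∀ N : Subgroup G, N.Normal → Group.IsSolvable ↥N → N = ⊥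

variable [Finite G]

theorem NoSolv.odd (hs : NoSolv G) (N : Subgroup G) (hN : N.Normal) (h : Odd (Nat.card N)) : N = ⊥ :=
  hs N hN (S0205.result h)

theorem NoSolv.good (hs : NoSolv G) [Nontrivial G] : Good G := by
  haveI : Fact (Nat.Prime 2) := ⟨Nat.prime_two⟩
  have h2 : ∀ P : Sylow 2 G, ¬ (P : Subgroup G).Normal := by
    intro P hP
    haveI := P.isPGroup'.isNilpotent
    have hP1 := hs _ hP inferInstance
    have hodd : Odd (Nat.card G) := by
      rw [← Nat.not_even_iff_odd, even_iff_two_dvd]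
      intro h
      have h3 := P.dvd_card_of_dvd_card h
      rw [hP1, card_bot] at h3
      omega
    haveI := S0205.result hodd
    exact (bot_ne_top : (⊥ : Subgroup G) ≠ ⊤) (hs ⊤ inferInstance inferInstance).symm
  refine ⟨hs _ inferInstance (Group.isSolvable_of_comm fun a b => Subtype.ext ((mem_center_iff.1 b.2 a))), hs.odd _ (HallCore.pPrimeCore_normal 2 G) ?_, h2⟩
  exact ZStarTheorem.odd_card_pPrimeCore

theorem NoSolv.good_of_normal (hs : NoSolv G) (M : Subgroup G) [M.Normal] (hM : M ≠ ⊥) : Good M := by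
  haveI : Fact (Nat.Prime 2) := ⟨Nat.prime_two⟩
  have key : ∀ N : Subgroup M, N.Characteristic → Group.IsSolvable N → N = ⊥ := by
    intro N hN hNs
    haveI := hN
    have e := N.equivMapOfInjective M.subtype M.subtype_injective
    have := hs (N.map M.subtype) inferInstance
      (Group.isSolvable_of_surjective (f := e.toMonoidHom) e.surjective)
    rwa [map_eq_bot_iff_of_injective _ M.subtype_injective] at this
  refine ⟨key _ inferInstance (Group.isSolvable_of_comm fun a b => Subtype.ext ((mem_center_iff.1 b.2 a))), key _ (HallCore.pPrimeCore_characteristic 2 M)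
    (S0205.result ZStarTheorem.odd_card_pPrimeCore), fun P hP => ?_⟩
  haveI := P.isPGroup'.isNilpotent
  have hP1 := key _ (P.characteristic_of_normal hP) inferInstance
  have hodd : Odd (Nat.card M) := by
    rw [← Nat.not_even_iff_odd, even_iff_two_dvd]
    intro h
    have h3 := P.dvd_card_of_dvd_card h
    rw [hP1, card_bot] at h3
    omega
  exact hM (hs.odd M inferInstance hodd)

/-- Index two transfer: a subgroup of index two of `S` closed under fusion is the trace of a normal subgroup. -/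
theorem transfer_index_two (S : Sylow 2 G) (B : Subgroup G) (hB : B ≤ (S : Subgroup G)) {v : G}
    (hvS : v ∈ (S : Subgroup G)) (hvB : v ∉ B) (hvv : v * v = 1)
    (hmul : ∀ s ∈ (S : Subgroup G), s ∉ B → ∀ s' ∈ (S : Subgroup G), s' ∉ B → s * s' ∈ B)
    (hfus : ∀ b ∈ B, ∀ g : G, g * b * g⁻¹ ∈ (S : Subgroup G) → g * b * g⁻¹ ∈ B) :
    ∃ (M : Subgroup G) (_ : M.Normal), (∀ x, x ∈ M ∧ x ∈ (S : Subgroup G) ↔ x ∈ B) ∧
      (∀ a : G, Odd (orderOf a) → a ∈ M) ∧
      ∃ R : Sylow 2 M, ∀ x : M, x ∈ (R : Subgroup M) ↔ (x : G) ∈ B := by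
  haveI : Fact (Nat.Prime 2) := ⟨Nat.prime_two⟩
  obtain ⟨Q, hQ⟩ : ∃ Q : Subgroup (S : Subgroup G), Q = B.subgroupOf (S : Subgroup G) := ⟨_, rfl⟩
  have hQi : Q.index = 2 := by
    rw [index_eq_two_iff]
    refine ⟨⟨v, hvS⟩, fun b => ?_⟩
    simp only [hQ, mem_subgroupOf, Subgroup.coe_mul]
    by_cases hb : (b : G) ∈ B
    · refine Or.inr ⟨hb, fun h => hvB ?_⟩
      simpa using mul_mem (inv_mem hb) h
    · exact Or.inl ⟨hmul _ b.2 hb v hvS hvB, hb⟩
  haveI : Q.Normal := normal_of_index_eq_two hQi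
  haveI : IsCyclic ((S : Subgroup G) ⧸ Q) := isCyclic_of_prime_card (p := 2) hQi
  letI : CommGroup ((S : Subgroup G) ⧸ Q) := IsCyclic.commGroup
  have hA : IsPGroup 2 ((S : Subgroup G) ⧸ Q) := S.isPGroup'.to_quotient Q
  obtain ⟨ϕ, hϕ⟩ : ∃ ϕ : (S : Subgroup G) →* (S : Subgroup G) ⧸ Q, ϕ = QuotientGroup.mk' Q := ⟨_, rfl⟩
  have hmem : ∀ s : (S : Subgroup G), ϕ s = 1 ↔ (s : G) ∈ B := by
    intro s
    rw [hϕ, QuotientGroup.mk'_apply, QuotientGroup.eq_one_iff, hQ, mem_subgroupOf]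
  obtain ⟨M, hM⟩ : ∃ M, M = (MonoidHom.transfer ϕ).ker := ⟨_, rfl⟩
  haveI hMn : M.Normal := hM ▸ inferInstance
  have hBM : ∀ b ∈ B, b ∈ M := by
    intro b hb
    rw [hM, MonoidHom.mem_ker]
    obtain ⟨e, he⟩ := IsPGroup.iff_orderOf.1 S.isPGroup' ⟨b, hB hb⟩
    rw [Subgroup.orderOf_mk] at he
    obtain ⟨n, -, hn⟩ := TransferThompson.transfer_eq_pow_fixed ϕ he 1
      (fun g k _ h => (hmem _).2 (by
        have := hfus _ (pow_mem hb k) g⁻¹ (by simpa using h)
        simpa using this))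
      (fun g h => (hmem _).2 (by
        have := hfus _ hb g⁻¹ (by simpa using h)
        simpa using this))
    rw [hn, one_pow]
  have hv1 : v ∉ M := by
    rw [hM, MonoidHom.mem_ker]
    refine TransferThompson.transfer_ne_one S hA ϕ hvS (fun h => hvB ((hmem _).1 h)) ?_ ?_
    · intro g k hk h
      obtain ⟨j, rfl⟩ := hk
      refine (hmem _).2 ?_
      simp only [pow_mul, pow_two, hvv, one_pow, mul_one, inv_mul_cancel]
      exact one_mem B
    · intro g h
      have h1 : g⁻¹ * v * g ∉ B := fun hb => by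
        have := hfus _ hb g (by simpa [mul_assoc] using hvS)
        exact hvB (by simpa [mul_assoc] using this)
      rw [eq_comm, ← inv_mul_eq_one, ← map_inv, ← map_mul, hmem]
      have h2 : (v⁻¹ : G) ∉ B := fun hb => hvB (by simpa using inv_mem hb)
      exact hmul _ (inv_mem hvS) h2 _ h h1
  have hiff : ∀ x, x ∈ M ∧ x ∈ (S : Subgroup G) ↔ x ∈ B := by
    intro x
    refine ⟨fun ⟨h1, h2⟩ => ?_, fun h => ⟨hBM x h, hB h⟩⟩
    by_contra hx
    apply hv1
    have := mul_mem (inv_mem h1) (hBM _ (hmul x h2 hx v hvS hvB))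
    rwa [inv_mul_cancel_left] at this
  refine ⟨M, hMn, hiff, fun a ha => ?_, ?_⟩
  · rw [hM, MonoidHom.mem_ker]
    obtain ⟨k, hk⟩ := IsPGroup.iff_orderOf.1 hA (MonoidHom.transfer ϕ a)
    refine orderOf_eq_one_iff.1 (Nat.eq_one_of_dvd_coprimes (Nat.coprime_two_right.2 ha)
      (orderOf_map_dvd _ a) ?_)
    have : (MonoidHom.transfer ϕ a) ^ 2 = 1 := by
      have h := pow_card_eq_one' (G := (S : Subgroup G) ⧸ Q) (x := MonoidHom.transfer ϕ a)
      rwa [show Nat.card ((S : Subgroup G) ⧸ Q) = 2 from hQi] at h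
    exact orderOf_dvd_of_pow_eq_one this
  · obtain ⟨T, hT⟩ : ∃ T : Subgroup M, T = B.subgroupOf M := ⟨_, rfl⟩
    have hTp : IsPGroup 2 T := by
      rw [hT]
      exact (S.isPGroup'.to_le hB).of_equiv (subgroupOfEquivOfLe (fun b hb => hBM b hb)).symm
    obtain ⟨R, hR⟩ := hTp.exists_le_sylow
    refine ⟨R, fun x => ⟨fun hx => ?_, fun hx => hR (by rw [hT, mem_subgroupOf]; exact hx)⟩⟩
    suffices h : T = (R : Subgroup M) by
      rw [← h, hT, mem_subgroupOf] at hx; exact hx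
    obtain ⟨P, hP⟩ := ((R.isPGroup').map M.subtype).exists_le_sylow
    obtain ⟨g, hg⟩ := MulAction.exists_smul_eq G P S
    refine eq_of_le_of_card_ge hR ?_
    have hsub : ((R : Subgroup M).map M.subtype).map (MulAut.conj g).toMonoidHom ≤ B := by
      rintro - ⟨-, ⟨r, hr, rfl⟩, rfl⟩
      refine (hiff _).1 ⟨by simpa using hMn.conj_mem _ r.2 g, ?_⟩
      rw [← hg]
      exact ⟨(r : G), hP ⟨r, hr, rfl⟩, rfl⟩
    have h1 := card_le_of_le hsub
    rwa [← Nat.card_congr (equivMapOfInjective _ _ (MulAut.conj g).injective).toEquiv,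
      ← Nat.card_congr (equivMapOfInjective _ _ M.subtype_injective).toEquiv,
      ← Nat.card_congr (subgroupOfEquivOfLe (fun b hb => hBM b hb)).toEquiv, ← hT] at h1

theorem cen_conj (g t : G) (x : G) : x ∈ cen (g * t * g⁻¹) ↔ g⁻¹ * x * g ∈ cen t := by
  constructor
  · intro h
    have := mem_cen_conj (n := g⁻¹) h
    rwa [inv_inv, show g⁻¹ * (g * t * g⁻¹) * g = t by group] at this
  · intro h
    have := mem_cen_conj (n := g) h
    rwa [show g * (g⁻¹ * x * g) * g⁻¹ = x by group] at this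

/-- An elementary Sylow subgroup of order at least eight: all involution centralizers abelian. -/
theorem elementary_abelian_cen (hs : NoSolv G) [Nontrivial G] (hE : EC G) (S : Sylow 2 G)
    (hel : ∀ x ∈ (S : Subgroup G), x * x = 1) (hbig : 4 < Nat.card (S : Subgroup G)) :
    ∀ t : G, orderOf t = 2 → ∀ a ∈ cen t, ∀ b ∈ cen t, a * b = b * a := by
  haveI : Fact (Nat.Prime 2) := ⟨Nat.prime_two⟩
  have hS : ∀ a ∈ (S : Subgroup G), ∀ b ∈ (S : Subgroup G), a * b = b * a := by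
    intro a ha b hb
    have hab := hel _ (mul_mem ha hb)
    calc a * b = (a * b)⁻¹ := (inv_eq_of_mul_eq_one_right hab).symm
      _ = b * a := by
        rw [mul_inv_rev, inv_eq_of_mul_eq_one_right (hel a ha), inv_eq_of_mul_eq_one_right (hel b hb)]
  intro t ht
  obtain ⟨g, hgS⟩ := exists_conj_mem S ht
  suffices key : ∀ a ∈ cen (g * t * g⁻¹), ∀ b ∈ cen (g * t * g⁻¹), a * b = b * a by
    intro a ha b hb
    have := key _ (mem_cen_conj (n := g) ha) _ (mem_cen_conj (n := g) hb)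
    calc a * b = g⁻¹ * (g * a * g⁻¹ * (g * b * g⁻¹)) * g := by group
      _ = g⁻¹ * (g * b * g⁻¹ * (g * a * g⁻¹)) * g := by rw [this]
      _ = b * a := by group
  have ht' : orderOf (g * t * g⁻¹) = 2 := by rw [orderOf_conj, ht]
  generalize g * t * g⁻¹ = t at hgS ht'
  have hle : (S : Subgroup G) ≤ cen t := fun s hs => mem_cen.2 (hS s hs t hgS)
  by_cases hall : ∀ s ∈ (S : Subgroup G), ∀ a ∈ oddPart hE ht', Commute a s
  · intro a ha b hb
    obtain ⟨a₁, ha₁, a₂, ha₂, rfl⟩ := exists_odd_mul hE ht' S hle ha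
    obtain ⟨b₁, hb₁, b₂, hb₂, rfl⟩ := exists_odd_mul hE ht' S hle hb
    have c1 : Commute a₁ b₁ := oddPart_comm hE ht' ha₁ hb₁
    have c2 : Commute a₁ b₂ := hall b₂ hb₂ a₁ ha₁
    have c3 : Commute a₂ b₁ := (hall a₂ ha₂ b₁ hb₁).symm
    have c4 : Commute a₂ b₂ := hS a₂ ha₂ b₂ hb₂
    exact ((c1.mul_right c2).mul_left (c3.mul_right c4)).eq
  exfalso
  push Not at hall
  obtain ⟨s₀, hs₀S, a₀, ha₀, hs₀⟩ := hall
  obtain ⟨K, hK⟩ : ∃ K, K = (S : Subgroup G) ⊓ centralizer (oddPart hE ht' : Set G) := ⟨_, rfl⟩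
  have hmemK : ∀ {s : G}, s ∈ K ↔ s ∈ (S : Subgroup G) ∧ ∀ a ∈ oddPart hE ht', Commute a s := by
    intro s
    rw [hK, mem_inf, mem_centralizer_iff]
    exact and_congr_right fun _ => ⟨fun h a ha => h a ha, fun h a ha => h a ha⟩
  have hKS : K ≤ (S : Subgroup G) := fun s h => (hmemK.1 h).1
  have hs₀K : s₀ ∉ K := fun h => hs₀ ((hmemK.1 h).2 a₀ ha₀)
  have hord : ∀ s ∈ (S : Subgroup G), s ≠ 1 → orderOf s = 2 := fun s hs h1 =>
    orderOf_eq_prime (by rw [pow_two]; exact hel s hs) h1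
  have hinv : ∀ s ∈ (S : Subgroup G), s ∉ K → ∀ a ∈ oddPart hE ht', s * a * s⁻¹ = a⁻¹ := by
    intro s hs hsK
    refine (fix_or_invert hE ht' (hord s hs fun h => hsK (h ▸ one_mem K)) (hle hs)).resolve_left ?_
    exact fun h => hsK (hmemK.2 ⟨hs, h⟩)
  have hmul : ∀ s ∈ (S : Subgroup G), s ∉ K → ∀ s' ∈ (S : Subgroup G), s' ∉ K → s * s' ∈ K := by
    intro s hs hsK s' hs' hs'K
    refine hmemK.2 ⟨mul_mem hs hs', fun a ha => ?_⟩
    refine ((mul_inv_eq_iff_eq_mul.1 ?_).symm : Commute a _)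
    calc s * s' * a * (s * s')⁻¹ = s * (s' * a * s'⁻¹) * s⁻¹ := by group
      _ = a := by rw [hinv s' hs' hs'K a ha, hinv s hs hsK _ (inv_mem ha), inv_inv]
  -- `K` has order at least four
  obtain ⟨k₁, hk₁, k₂, hk₂, hk11, hk21, hk12⟩ : ∃ k₁ ∈ K, ∃ k₂ ∈ K, k₁ ≠ 1 ∧ k₂ ≠ 1 ∧ k₁ ≠ k₂ := by
    by_contra hcon
    push Not at hcon
    have hsub : ((S : Subgroup G) : Set G) ⊆ (K : Set G) ∪ (fun k => s₀ * k) '' (K : Set G) := by
      intro s hs
      by_cases hsK : s ∈ K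
      · exact Or.inl hsK
      · exact Or.inr ⟨s₀ * s, hmul s₀ hs₀S hs₀K s hs hsK, by simp [← mul_assoc, hel s₀ hs₀S]⟩
    have h1 := (Set.ncard_le_ncard hsub (Set.toFinite _)).trans (Set.ncard_union_le _ _)
    have h2 : (K : Set G).ncard ≤ 2 := by
      by_contra h
      obtain ⟨a, ha, b, hb, c, hc, hab, hac, hbc⟩ :=
        (Set.two_lt_ncard_iff (Set.toFinite _)).1 (not_le.1 h) |> fun ⟨a, b, c, ha, hb, hc, h1, h2, h3⟩ =>
          (⟨a, ha, b, hb, c, hc, h1, h2, h3⟩ : ∃ a ∈ (K : Set G), ∃ b ∈ (K : Set G), ∃ c ∈ (K : Set G),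
            a ≠ b ∧ a ≠ c ∧ b ≠ c)
      by_cases ha1 : a = 1
      · exact hbc (hcon b hb c hc (fun h => hab (ha1.trans h.symm)) (fun h => hac (ha1.trans h.symm)))
      by_cases hb1 : b = 1
      · exact hac (hcon a ha c hc ha1 (fun h => hbc (hb1.trans h.symm)))
      exact hab (hcon a ha b hb ha1 hb1)
    have h3 := Set.ncard_image_le (f := fun k => s₀ * k) (s := (K : Set G)) (Set.toFinite _)
    have h4 : ((S : Subgroup G) : Set G).ncard = Nat.card (S : Subgroup G) := rfl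
    omega
  have hcenK : ∀ k ∈ K, k ≠ 1 → cen k = cen t := by
    intro k hk hk1
    exact cen_eq_cen hE ht' (hord k (hKS hk) hk1) ha₀.1 (mem_cen.2 ((hmemK.1 hk).2 a₀ ha₀)) ha₀.2
      fun h => hs₀ (h ▸ Commute.one_left s₀)
  haveI : IsMulCommutative (S : Subgroup G) := ⟨⟨fun a b => Subtype.ext (hS a a.2 b b.2)⟩⟩
  have hfus : ∀ b ∈ K, ∀ g : G, g * b * g⁻¹ ∈ (S : Subgroup G) → g * b * g⁻¹ ∈ K := by
    intro b hb g hg
    obtain ⟨n, hn, he⟩ := S.conj_eq_normalizer_conj_of_mem b g⁻¹ (hKS hb) (by rwa [inv_inv])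
    rw [inv_inv] at he
    rw [he]
    have hnS : ∀ s ∈ (S : Subgroup G), n⁻¹ * s * n ∈ (S : Subgroup G) := fun s hs => by
      simpa using ((mem_normalizer_iff.1 (inv_mem hn)) s).1 hs
    -- `n` normalizes `cen t`
    obtain ⟨k, hk, hk1, hk'⟩ : ∃ k ∈ K, k ≠ 1 ∧ n⁻¹ * k * n ∈ K := by
      by_cases h1 : n⁻¹ * k₁ * n ∈ K
      · exact ⟨k₁, hk₁, hk11, h1⟩
      by_cases h2 : n⁻¹ * k₂ * n ∈ K
      · exact ⟨k₂, hk₂, hk21, h2⟩
      refine ⟨k₁ * k₂, mul_mem hk₁ hk₂, fun h => hk12 ?_, ?_⟩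
      · rw [mul_eq_one_iff_eq_inv.1 h, inv_eq_of_mul_eq_one_right (hel k₂ (hKS hk₂))]
      · have := hmul _ (hnS _ (hKS hk₁)) h1 _ (hnS _ (hKS hk₂)) h2
        convert this using 1
        group
    have hk'1 : n⁻¹ * k * n ≠ 1 := fun h => hk1 (by
      calc k = n * (n⁻¹ * k * n) * n⁻¹ := by group
        _ = 1 := by rw [h]; group)
    have hnorm : ∀ x, x ∈ cen t ↔ n * x * n⁻¹ ∈ cen t := by
      intro x
      have h1 := hcenK k hk hk1
      have h2 := hcenK _ hk' hk'1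
      conv_lhs => rw [← h2, show n⁻¹ * k * n = n⁻¹ * k * n⁻¹⁻¹ by rw [inv_inv], cen_conj, inv_inv, h1]
    refine hmemK.2 ⟨hnS b (hKS hb), fun a ha => ?_⟩
    have h := (hmemK.1 hb).2 (n * a * n⁻¹) ⟨(hnorm a).1 ha.1, by rw [orderOf_conj]; exact ha.2⟩
    calc a * (n⁻¹ * b * n) = n⁻¹ * ((n * a * n⁻¹) * b) * n := by group
      _ = n⁻¹ * (b * (n * a * n⁻¹)) * n := by rw [h.eq]
      _ = n⁻¹ * b * n * a := by group
  obtain ⟨M, hMn, hiff, hodd, R, hR⟩ := transfer_index_two S K hKS hs₀S hs₀K (hel s₀ hs₀S) hmul hfus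
  have hM1 : M ≠ ⊥ := fun h => hk11 (by
    have := ((hiff k₁).2 hk₁).1
    rwa [h, mem_bot] at this)
  have habM : ∀ u : M, orderOf u = 2 → ∀ a ∈ cen u, ∀ b ∈ cen u, a * b = b * a := by
    intro u hu
    obtain ⟨m, hm⟩ := exists_conj_mem R hu
    obtain ⟨k, hkdef⟩ : ∃ k : M, k = m * u * m⁻¹ := ⟨_, rfl⟩
    have hkK : (k : G) ∈ K := (hR _).1 (hkdef ▸ hm)
    have hk1 : (k : G) ≠ 1 := fun h => by
      have h2 : orderOf k = 2 := by rw [hkdef, orderOf_conj, hu]
      rw [← Subgroup.orderOf_coe, h, orderOf_one] at h2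
      exact absurd h2 (by norm_num)
    have key : ∀ a : M, a ∈ cen k → ∃ a₁ ∈ oddPart hE ht', ∃ a₂ ∈ K, (a : G) = a₁ * a₂ := by
      intro a ha
      have h1 : (a : G) ∈ cen t := by
        rw [← hcenK _ hkK hk1]; exact mem_cen.2 (congrArg Subtype.val (mem_cen.1 ha))
      obtain ⟨a₁, ha₁, a₂, ha₂, he⟩ := exists_odd_mul hE ht' S hle h1
      refine ⟨a₁, ha₁, a₂, (hiff a₂).1 ⟨?_, ha₂⟩, he⟩
      have := mul_mem (inv_mem (hodd a₁ ha₁.2)) a.2
      rwa [he, inv_mul_cancel_left] at this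
    have hcom : ∀ a ∈ cen k, ∀ b ∈ cen k, a * b = b * a := by
      intro a ha b hb
      obtain ⟨a₁, ha₁, a₂, ha₂, hea⟩ := key a ha
      obtain ⟨b₁, hb₁, b₂, hb₂, heb⟩ := key b hb
      apply Subtype.ext
      rw [Subgroup.coe_mul, Subgroup.coe_mul, hea, heb]
      have c1 : Commute a₁ b₁ := oddPart_comm hE ht' ha₁ hb₁
      have c2 : Commute a₁ b₂ := (hmemK.1 hb₂).2 a₁ ha₁
      have c3 : Commute a₂ b₁ := ((hmemK.1 ha₂).2 b₁ hb₁).symm
      have c4 : Commute a₂ b₂ := hS a₂ (hKS ha₂) b₂ (hKS hb₂)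
      exact ((c1.mul_right c2).mul_left (c3.mul_right c4)).eq
    intro a ha b hb
    subst hkdef
    have := hcom _ (mem_cen_conj (n := m) ha) _ (mem_cen_conj (n := m) hb)
    calc a * b = m⁻¹ * (m * a * m⁻¹ * (m * b * m⁻¹)) * m := by group
      _ = m⁻¹ * (m * b * m⁻¹ * (m * a * m⁻¹)) * m := by rw [this]
      _ = b * a := by group
  obtain ⟨F, _, _, hF, -, ⟨e⟩⟩ := out_of_abelian (hs.good_of_normal M hM1) habM
  haveI := hF
  obtain ⟨a, ha⟩ : ∃ a : M, a = ⟨a₀, hodd a₀ ha₀.2⟩ := ⟨_, rfl⟩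
  obtain ⟨k, hk⟩ : ∃ k : M, k = ⟨k₁, ((hiff k₁).2 hk₁).1⟩ := ⟨_, rfl⟩
  have h1 : e a = 1 := by
    refine sl2_odd (t := e k) ?_ ?_ ?_ ?_
    · rw [MulEquiv.orderOf_eq, ← Subgroup.orderOf_coe, ha]; exact ha₀.2
    · rw [← map_mul, ← map_one e]
      exact congrArg e (Subtype.ext (by rw [hk]; exact hel k₁ (hKS hk₁)))
    · rw [ne_eq, MulEquiv.map_eq_one_iff]
      exact fun h => hk11 (by rw [hk] at h; exact congrArg Subtype.val h)
    · exact (show Commute a k from Subtype.ext (by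
        rw [ha, hk]; exact (hmemK.1 hk₁).2 a₀ ha₀)).map e.toMonoidHom
  rw [MulEquiv.map_eq_one_iff, ha] at h1
  exact hs₀ ((show a₀ = 1 from congrArg Subtype.val h1) ▸ Commute.one_left s₀)

/-- In the generalized dihedral case `B` is cyclic. -/
theorem dihOver_cyclic (hs : NoSolv G) [Nontrivial G] (hE : EC G) (S : Sylow 2 G) {B : Subgroup G}
    (hB : DihOver (S : Subgroup G) B) : IsCyclic B := by
  haveI : Fact (Nat.Prime 2) := ⟨Nat.prime_two⟩
  by_contra hnc
  obtain ⟨z₁, z₂, hz₁, hz₂, hz11, hz22, hz12⟩ : ∃ z₁ z₂ : G, z₁ ∈ B ∧ z₂ ∈ B ∧ orderOf z₁ = 2 ∧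
      orderOf z₂ = 2 ∧ z₁ ≠ z₂ := by
    by_contra hcon
    push Not at hcon
    apply hnc
    letI : CommGroup B := { (inferInstance : Group B) with
      mul_comm := fun a b => Subtype.ext (hB.comm a a.2 b b.2) }
    refine FrobeniusFPF.isCyclic_of_unique_prime fun p hp d e hd he => ?_
    have hp2 : p = 2 := by
      obtain ⟨i, hi⟩ := IsPGroup.iff_orderOf.1 (S.isPGroup'.to_le hB.le) d
      exact (Nat.prime_dvd_prime_iff_eq hp Nat.prime_two).1
        (hp.dvd_of_dvd_pow (show p ∣ 2 ^ i by rw [← hi, hd]))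
    subst hp2
    rw [← Subgroup.orderOf_coe] at hd he
    rw [Subtype.ext (hcon d e d.2 e.2 hd he)]
    exact mem_zpowers e
  have hsq_central : ∀ b ∈ B, b * b = 1 → ∀ s ∈ (S : Subgroup G), Commute b s := by
    intro b hb hbb s hs
    by_cases hsB : s ∈ B
    · exact hB.comm b hb s hsB
    · have := hB.out_inv s hs hsB b hb
      rw [inv_eq_of_mul_eq_one_right hbb, mul_inv_eq_iff_eq_mul] at this
      exact this.symm
  obtain ⟨v, hvS, hvB⟩ := hB.exists_out
  obtain ⟨x, hxB, hxbig⟩ := hB.exists_big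
  have hfus : ∀ b ∈ B, ∀ g : G, g * b * g⁻¹ ∈ (S : Subgroup G) → g * b * g⁻¹ ∈ B := by
    intro b hb g hg
    by_contra hout
    obtain ⟨w, hw⟩ : ∃ w, w = g * b * g⁻¹ := ⟨_, rfl⟩
    rw [← hw] at hg hout
    have hww := hB.out_sq w hg hout
    have hbb : b * b = 1 := by
      calc b * b = g⁻¹ * ((g * b * g⁻¹) * (g * b * g⁻¹)) * g := by group
        _ = 1 := by rw [← hw, hww]; group
    have hbc := hsq_central b hb hbb
    have hS1 : (g • S : Sylow 2 G) ≤ cen w := by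
      rintro - ⟨s, hs, rfl⟩
      refine mem_cen.2 ?_
      rw [hw]
      change g * s * g⁻¹ * (g * b * g⁻¹) = g * b * g⁻¹ * (g * s * g⁻¹)
      calc g * s * g⁻¹ * (g * b * g⁻¹) = g * (s * b) * g⁻¹ := by group
        _ = g * (b * s) * g⁻¹ := by rw [(hbc s hs).eq]
        _ = _ := by group
    have hP : IsPGroup 2 ((((S : Subgroup G) ⊓ cen w).subgroupOf (cen w) : Subgroup (cen w))) :=
      ((S.isPGroup'.to_le inf_le_left)).of_equiv (subgroupOfEquivOfLe inf_le_right).symm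
    obtain ⟨R, hR⟩ := hP.exists_le_sylow
    obtain ⟨⟨h, hh⟩, he⟩ := MulAction.exists_smul_eq (cen w) ((g • S).subtype hS1) R
    have hmem : ∀ y ∈ (S : Subgroup G) ⊓ cen w, (h * g)⁻¹ * y * (h * g) ∈ (S : Subgroup G) := by
      intro y hy
      have h1 : (⟨y, hy.2⟩ : cen w) ∈ R := hR (mem_subgroupOf.2 hy)
      rw [← he] at h1
      obtain ⟨r, hr, hrw⟩ := h1
      obtain ⟨r₀, hr₀, hr₀e⟩ := (show (r : G) ∈ ((g • S : Sylow 2 G) : Subgroup G) from hr)
      have e : y = h * (r : G) * h⁻¹ := (congrArg Subtype.val hrw).symm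
      have e2 : (r : G) = g * r₀ * g⁻¹ := hr₀e.symm
      rw [e, e2]
      convert (show r₀ ∈ (S : Subgroup G) from hr₀) using 1
      group
    -- one of `z₁, z₂, z₁ z₂` pulls back into `B`
    obtain ⟨z, hzB, hzo, hzg⟩ : ∃ z ∈ B, orderOf z = 2 ∧ (h * g)⁻¹ * z * (h * g) ∈ B := by
      have hin : ∀ z ∈ B, z * z = 1 → (h * g)⁻¹ * z * (h * g) ∈ (S : Subgroup G) := fun z hz hzz =>
        hmem z ⟨hB.le hz, mem_cen.2 (hsq_central z hz hzz w hg)⟩
      have e₁ : z₁ * z₁ = 1 := by rw [← pow_two, ← hz11, pow_orderOf_eq_one]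
      have e₂ : z₂ * z₂ = 1 := by rw [← pow_two, ← hz22, pow_orderOf_eq_one]
      by_cases h1 : (h * g)⁻¹ * z₁ * (h * g) ∈ B
      · exact ⟨z₁, hz₁, hz11, h1⟩
      by_cases h2 : (h * g)⁻¹ * z₂ * (h * g) ∈ B
      · exact ⟨z₂, hz₂, hz22, h2⟩
      refine ⟨z₁ * z₂, mul_mem hz₁ hz₂, orderOf_eq_prime ?_ ?_, ?_⟩
      · rw [(show Commute z₁ z₂ from hB.comm z₁ hz₁ z₂ hz₂).mul_pow, pow_two, pow_two, e₁, e₂, one_mul]
      · intro h0
        exact hz12 (by rw [mul_eq_one_iff_eq_inv.1 h0, inv_eq_of_mul_eq_one_right e₂])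
      · have := hB.out_mul _ (hin z₁ hz₁ e₁) h1 _ (hin z₂ hz₂ e₂) h2
        convert this using 1
        group
    have hzz : z * z = 1 := by rw [← pow_two, ← hzo, pow_orderOf_eq_one]
    have hS'z : ((h • (g • S) : Sylow 2 G) : Subgroup G) ≤ cen z := by
      rintro - ⟨r, ⟨r₀, hr₀, rfl⟩, rfl⟩
      refine mem_cen.2 ?_
      have hc := hsq_central _ hzg (by
        calc (h * g)⁻¹ * z * (h * g) * ((h * g)⁻¹ * z * (h * g)) = (h * g)⁻¹ * (z * z) * (h * g) := by group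
          _ = 1 := by rw [hzz]; group) r₀ hr₀
      change h * (g * r₀ * g⁻¹) * h⁻¹ * z = z * (h * (g * r₀ * g⁻¹) * h⁻¹)
      calc h * (g * r₀ * g⁻¹) * h⁻¹ * z = (h * g) * (r₀ * ((h * g)⁻¹ * z * (h * g))) * (h * g)⁻¹ := by group
        _ = (h * g) * (((h * g)⁻¹ * z * (h * g)) * r₀) * (h * g)⁻¹ := by rw [hc.eq]
        _ = _ := by group
    have hwS' : w ∈ ((h • (g • S) : Sylow 2 G) : Subgroup G) := by
      have h1 : (⟨w, self_mem_cen w⟩ : cen w) ∈ R := hR (mem_subgroupOf.2 ⟨hg, self_mem_cen w⟩)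
      rw [← he] at h1
      obtain ⟨r, hr, hrw⟩ := h1
      exact ⟨(r : G), hr, congrArg Subtype.val hrw⟩
    have hwc : ∀ s ∈ ((h • (g • S) : Sylow 2 G) : Subgroup G), Commute w s := by
      rintro - ⟨r, hr, rfl⟩
      have h1 := mem_cen.1 (hS1 hr)
      change Commute w (h * r * h⁻¹)
      exact ((mem_cen.1 hh).symm.mul_right h1.symm).mul_right (mem_cen.1 hh).symm.inv_right
    have hwx := central_of_central hE hzo S (h • (g • S))
      (fun s hs => mem_cen.2 (hsq_central z hzB hzz s hs).symm) hS'z hg hwS' hwc x (hB.le hxB)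
    have h3 := hB.out_inv w hg hout x hxB
    rw [hwx.eq, mul_inv_cancel_right] at h3
    exact hxbig.mul_self_ne (by rw [mul_eq_one_iff_eq_inv]; exact h3)
  obtain ⟨M, hMn, hiff, -, R, hR⟩ := transfer_index_two S B hB.le hvS hvB (hB.out_sq v hvS hvB)
    hB.out_mul hfus
  have hxM : x ∈ M := ((hiff x).2 hxB).1
  have hM1 : M ≠ ⊥ := fun h => hxbig.mul_self_ne (by
    rw [h, mem_bot] at hxM; rw [hxM, one_mul])
  refine abelian_big_absurd (hs.good_of_normal M hM1) (hE.to_subgroup M) R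
    (fun a ha b hb => Subtype.ext (hB.comm _ ((hR a).1 ha) _ ((hR b).1 hb)))
    (x := ⟨x, hxM⟩) ((hR _).2 hxB) ?_
  obtain ⟨k, hk⟩ := hxbig
  exact ⟨k, by rw [Subgroup.orderOf_mk, hk]⟩

/-- Sylow `2`-subgroups are dihedral (four-groups included). -/
def SylowDihedral (G : Type*) [Group G] : Prop :=
  ∀ S : Sylow 2 G, ∃ B : Subgroup G, IsCyclic B ∧ B ≤ (S : Subgroup G) ∧
    (∃ v ∈ (S : Subgroup G), v ∉ B) ∧
    (∀ s ∈ (S : Subgroup G), s ∉ B → s * s = 1) ∧
    (∀ s ∈ (S : Subgroup G), s ∉ B → ∀ s' ∈ (S : Subgroup G), s' ∉ B → s * s' ∈ B) ∧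
    1 < Nat.card B

/-- Either `G ≅ SL(2, 2^n)`, or the Sylow `2`-subgroups are dihedral. -/
theorem main_cases (hs : NoSolv G) [Nontrivial G] (hE : EC G) :
    (∃ (F : Type) (_ : Field F) (_ : Fintype F), CharP F 2 ∧ 3 < Fintype.card F ∧
      Nonempty (G ≃* SL(2, F))) ∨ SylowDihedral G := by
  haveI : Fact (Nat.Prime 2) := ⟨Nat.prime_two⟩
  have hg := hs.good
  obtain ⟨S₀⟩ : Nonempty (Sylow 2 G) := inferInstance
  by_cases hex : ∃ S : Sylow 2 G, (∀ x ∈ (S : Subgroup G), x * x = 1) ∧ 4 < Nat.card (S : Subgroup G)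
  · obtain ⟨S, hel, hbig⟩ := hex
    exact Or.inl (out_of_abelian hg (elementary_abelian_cen hs hE S hel hbig))
  right
  intro S
  rcases structure_cases hE hg.not_isolated S with hel | ⟨hab, x, hx, y, hy, hxB, -, -⟩ | ⟨B, hB⟩
  · have hle : Nat.card (S : Subgroup G) ≤ 4 := not_lt.1 fun h => hex ⟨S, hel, h⟩
    have hncyc := hg.not_cyclic S
    obtain ⟨a, ha1⟩ : ∃ a : (S : Subgroup G), a ≠ 1 := by
      by_contra hcon
      push Not at hcon
      exact hncyc ⟨1, fun z => ⟨0, by rw [hcon z]; simp⟩⟩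
    have hao : orderOf (a : G) = 2 :=
      orderOf_eq_prime (by rw [pow_two]; exact hel a a.2) (fun h => ha1 (Subtype.ext h))
    obtain ⟨v, hv⟩ : ∃ v : (S : Subgroup G), v ∉ zpowers a := by
      by_contra hcon
      push Not at hcon
      exact hncyc ⟨a, hcon⟩
    have hS4 : Nat.card (S : Subgroup G) = 4 := by
      obtain ⟨k, hk⟩ := S.isPGroup'.exists_card_eq
      rw [hk] at hle ⊢
      rcases Nat.lt_or_ge k 2 with h | h
      · exfalso
        interval_cases k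
        · exact ha1 ((Nat.card_eq_one_iff_unique.1 hk).1.elim a 1)
        · exact hncyc (isCyclic_of_prime_card (p := 2) (by rw [hk, pow_one]))
      · have : k ≤ 2 := (Nat.pow_le_pow_iff_right (by norm_num)).1 (show 2 ^ k ≤ 2 ^ 2 by norm_num; exact hle)
        rw [show k = 2 by omega]; rfl
    have hBle : zpowers (a : G) ≤ (S : Subgroup G) := zpowers_le.2 a.2
    refine ⟨zpowers (a : G), inferInstance, hBle, ⟨v, v.2, fun h => hv ?_⟩,
      fun s hs _ => hel s hs, fun s hs hsB s' hs' hs'B => ?_, ?_⟩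
    · obtain ⟨i, hi⟩ := h
      exact ⟨i, Subtype.ext (by simpa using hi)⟩
    · obtain ⟨Q, hQ⟩ : ∃ Q, Q = (zpowers (a : G)).subgroupOf (S : Subgroup G) := ⟨_, rfl⟩
      have hQi : Q.index = 2 := by
        have h1 := Q.card_mul_index
        rw [hQ, Nat.card_congr (subgroupOfEquivOfLe hBle).toEquiv, Nat.card_zpowers, hao, hS4, ← hQ] at h1
        omega
      have := (mul_mem_iff_of_index_two hQi (a := ⟨s, hs⟩) (b := ⟨s', hs'⟩)).2
        (iff_of_false (by rw [hQ, mem_subgroupOf]; exact hsB) (by rw [hQ, mem_subgroupOf]; exact hs'B))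
      rw [hQ, mem_subgroupOf] at this
      exact this
    · rw [Nat.card_zpowers, hao]; norm_num
  · exact (abelian_big_absurd hg hE S hab hx hxB).elim
  · obtain ⟨x, hxB, hxbig⟩ := hB.exists_big
    refine ⟨B, dihOver_cyclic hs hE S hB, hB.le, hB.exists_out, hB.out_sq, hB.out_mul, ?_⟩
    rw [one_lt_card_iff_ne_bot]
    exact fun h => hxbig.mul_self_ne (by rw [h, mem_bot] at hxB; rw [hxB, one_mul])

end Cfsg.Agent.EvenCyclic27
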