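import Mathlib
import Cfsg.Agent.Lib.PSLSimple
import Cfsg.Agent.Lib.PSLCard

/-!
Facts about `SL_2`: elements commuting with all transvections up to sign, generation by squares.
-/

set_option autoImplicit false
set_option linter.unusedSectionVars false

namespace Cfsg.Agent.OrthUnitarySL2

open Matrix
open scoped MatrixGroups commutatorElement

variable {F : Type*} [Field F]

/-- The element `-1`. -/
def minusOne (F : Type*) [Field F] : SL(2, F) :=
  ⟨-1, by rw [Matrix.det_neg, Matrix.det_one]; simp⟩

theorem minusOne_coe : ((minusOne F) : Matrix (Fin 2) (Fin 2) F) = -1 := rfl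

theorem minusOne_eq_one (h2 : (2 : F) = 0) : minusOne F = 1 := by
  apply Subtype.ext
  show (-1 : Matrix (Fin 2) (Fin 2) F) = 1
  ext i j
  by_cases hij : i = j
  · subst hij
    simp only [Matrix.neg_apply, Matrix.one_apply_eq]
    linear_combination -h2
  · simp [hij]

theorem minusOne_central (y : SL(2, F)) : y * minusOne F = minusOne F * y :=
  Subtype.ext (show y.1 * -1 = -1 * y.1 by simp)

/-- An element commuting up to sign with everything is central. -/
theorem mem_center_of_comm (x : SL(2, F))
    (hx : ∀ y, ⁅x, y⁆ = 1 ∨ ⁅x, y⁆ = minusOne F) : x ∈ Subgroup.center SL(2, F) := by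
  have hT : ∀ (i j : Fin 2) (hij : i ≠ j) (c : F),
      x * SpecialLinearGroup.transvection hij c = SpecialLinearGroup.transvection hij c * x := by
    intro i j hij c
    rcases hx (SpecialLinearGroup.transvection hij c) with h | h
    · exact commutatorElement_eq_one_iff_mul_comm.1 h
    · -- compare traces
      set T := SpecialLinearGroup.transvection hij c with hT
      have h1 : x * T * x⁻¹ = minusOne F * T := by
        rw [← h, commutatorElement_def]; group
      have h2 : (x.1 * T.1 * x.1.adjugate).trace = ((-1 : Matrix (Fin 2) (Fin 2) F) * T.1).trace :=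
        congrArg (fun g : SL(2, F) => g.1.trace) h1
      have hadj : (x : Matrix (Fin 2) (Fin 2) F).adjugate * x = 1 := by
        rw [Matrix.adjugate_mul, x.2, one_smul]
      rw [Matrix.trace_mul_comm, ← Matrix.mul_assoc, hadj,
        Matrix.one_mul, Matrix.neg_mul, Matrix.one_mul, Matrix.trace_neg] at h2
      have h3 : (T : Matrix (Fin 2) (Fin 2) F).trace = 2 := by
        rw [hT, SpecialLinearGroup.transvection_coe, Matrix.trace_add, Matrix.trace_one,
          Matrix.trace_fin_two]
        fin_cases i <;> fin_cases j <;> first | exact absurd rfl hij | simp [Matrix.single_apply]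
      rw [h3] at h2
      have h4 : minusOne F = 1 := by
        have h5 : (2 : F) * 2 = 0 := by linear_combination h2
        exact minusOne_eq_one ((mul_eq_zero.1 h5).elim id id)
      rw [h4, one_mul] at h1
      exact mul_inv_eq_iff_eq_mul.1 h1
  rw [Subgroup.mem_center_iff]
  intro y
  refine PSLSimple.transvection_induction (fun y => y * x = x * y) (fun i j hij c => (hT i j hij c).symm)
    (fun A B hA hB => ?_) y
  calc A * B * x = A * (B * x) := mul_assoc _ _ _
    _ = (A * x) * B := by rw [hB, mul_assoc]
    _ = x * A * B := by rw [hA]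
    _ = x * (A * B) := mul_assoc _ _ _

/-- In odd characteristic `SL_2` is generated by squares. -/
theorem closure_squares (h2 : (2 : F) ≠ 0) :
    Subgroup.closure (Set.range fun y : SL(2, F) => y * y) = ⊤ := by
  refine PSLSimple.eq_top_of_transvection_mem _ fun i j hij c => Subgroup.subset_closure
    ⟨SpecialLinearGroup.transvection hij (c / 2), ?_⟩
  apply Subtype.ext
  show (SpecialLinearGroup.transvection hij (c / 2)).1 * (SpecialLinearGroup.transvection hij (c / 2)).1
    = (SpecialLinearGroup.transvection hij c).1
  simp only [SpecialLinearGroup.transvection_coe]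
  rw [Matrix.add_mul, Matrix.one_mul, Matrix.mul_add, Matrix.mul_one,
    show Matrix.single i j (c / 2) * Matrix.single i j (c / 2) = (0 : Matrix (Fin 2) (Fin 2) F) by
      simp [hij.symm],
    add_zero, add_assoc, ← Matrix.single_add]
  congr 2
  field_simp
  ring

theorem card_SL2 [Finite F] {q : ℕ} (hF : Nat.card F = q) :
    Nat.card SL(2, F) = q * (q ^ 2 - 1) := by
  have hq : 1 < q := hF ▸ Finite.one_lt_card
  have h := PSLCard.card_SL (F := F) 2
  rw [Fin.prod_univ_two, hF] at h
  simp only [Fin.val_zero, pow_zero, Fin.val_one, pow_one] at h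
  apply Nat.eq_of_mul_eq_mul_left (show 0 < q - 1 by omega)
  rw [h]
  have e1 : q ≤ q ^ 2 := Nat.le_self_pow (by norm_num) q
  have e2 : 1 ≤ q ^ 2 := Nat.one_le_pow _ _ (by omega)
  zify [e1, e2, hq.le]
  ring

end Cfsg.Agent.OrthUnitarySL2
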