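import Cfsg.Agent.Lib.EvenCyclicSylow27
import Cfsg.Agent.Lib.ZStarTheorem
import Cfsg.Agent.Lib.HallCore
import Cfsg.Agent.Lib.OrthUnitarySL2
import Cfsg.Agent.S2202
import Cfsg.Agent.S4211

/-!
For S3730: the abelian Sylow case, and groups all of whose involution centralizers are abelian.
-/

set_option autoImplicit false
set_option linter.style.haveILetI false

namespace Cfsg.Agent.EvenCyclic27

open Subgroup Matrix
open scoped MatrixGroups

variable {G : Type*} [Group G]

section SL2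

variable {F : Type} [Field F] [CharP F 2]

theorem neg_eq_self' (x : F) : -x = x := CharTwo.neg_eq x

/-- Cayley–Hamilton for `SL(2, F)` in characteristic `2`. -/
theorem sl2_sq (g : SL(2, F)) :
    (g : Matrix (Fin 2) (Fin 2) F) * g = (g.1 0 0 + g.1 1 1) • (g : Matrix (Fin 2) (Fin 2) F) + 1 := by
  have h := g.2
  rw [Matrix.det_fin_two] at h
  have h2 : (2 : F) = 0 := CharTwo.two_eq_zero
  ext i j
  fin_cases i <;> fin_cases j <;>
    simp [Matrix.mul_apply, Fin.sum_univ_two] <;> first | linear_combination (-1 : F) * h - h2 | ring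

/-- `SL(2, F)` in characteristic two has no element of order four. -/
theorem sl2_sq_eq_one {g : SL(2, F)} (h : g * g * (g * g) = 1) : g * g = 1 := by
  have hA := sl2_sq g
  set a := g.1 0 0 + g.1 1 1
  have hm : ((g : Matrix (Fin 2) (Fin 2) F) * g) * ((g : Matrix (Fin 2) (Fin 2) F) * g) = 1 :=
    congrArg Subtype.val h
  rw [hA, add_mul, mul_add, smul_mul_assoc, mul_smul_comm, hA] at hm
  apply Subtype.ext
  show (g : Matrix (Fin 2) (Fin 2) F) * g = 1
  by_cases ha : a = 0
  · rw [hA, ha, zero_smul, zero_add]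
  · exfalso
    simp only [mul_one, one_mul, smul_add, smul_smul] at hm
    have h2 : ∀ m : Matrix (Fin 2) (Fin 2) F, m + m = 0 := fun m => by
      ext i j; exact CharTwo.add_self_eq_zero _
    -- `a³ g + a² + 1 + (a g + a g)`
    have h3 : (a * (a * a)) • (g : Matrix (Fin 2) (Fin 2) F) + (a * a) • (1 : Matrix (Fin 2) (Fin 2) F) = 0 := by
      calc _ = (a * (a * a)) • (g : Matrix (Fin 2) (Fin 2) F) + (a * a) • (1 : Matrix (Fin 2) (Fin 2) F) +
            (a • (g : Matrix (Fin 2) (Fin 2) F) + a • g.1) + (1 + 1) := by rw [h2, h2, add_zero, add_zero]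
        _ = ((a * (a * a)) • (g : Matrix (Fin 2) (Fin 2) F) + (a * a) • 1 + a • g.1 + (a • g.1 + 1)) + 1 := by
              abel
        _ = 1 + 1 := by rw [hm]
        _ = 0 := h2 1
    have h01 := congrFun (congrFun h3 0) 1
    have h10 := congrFun (congrFun h3 1) 0
    have h00 := congrFun (congrFun h3 0) 0
    have h11 := congrFun (congrFun h3 1) 1
    simp [ha] at h01 h10 h00 h11
    have hd := g.2
    rw [Matrix.det_fin_two, h01, h10] at hd
    have e : a * g.1 0 0 = a * g.1 1 1 := by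
      apply mul_left_cancel₀ (mul_ne_zero ha ha)
      linear_combination h00 - h11
    apply ha
    rw [show a = g.1 0 0 + g.1 1 1 from rfl, mul_left_cancel₀ ha e]
    exact CharTwo.add_self_eq_zero _

/-- Only the identity has odd order in the centralizer of an involution of `SL(2, F)`, `char F = 2`. -/
theorem sl2_odd {g t : SL(2, F)} (hg : Odd (orderOf g)) (ht : t * t = 1) (ht1 : t ≠ 1)
    (hc : Commute g t) : g = 1 := by
  have hgg : (g * t) * (g * t) = g * g := by
    calc g * t * (g * t) = g * (t * g) * t := by group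
      _ = g * g * (t * t) := by rw [← hc.eq]; group
      _ = g * g := by rw [ht, mul_one]
  have hm : ((g * t : SL(2, F)) : Matrix (Fin 2) (Fin 2) F) * (g * t : SL(2, F)) =
      (g : Matrix (Fin 2) (Fin 2) F) * g := congrArg Subtype.val hgg
  rw [sl2_sq, sl2_sq, add_left_inj] at hm
  set a := g.1 0 0 + g.1 1 1
  set b := (g * t).1 0 0 + (g * t).1 1 1
  have hinv : ((g⁻¹ : SL(2, F)) : Matrix (Fin 2) (Fin 2) F) * g = 1 :=
    congrArg Subtype.val (inv_mul_cancel g)
  have hm' := congrArg (fun m => ((g⁻¹ : SL(2, F)) : Matrix (Fin 2) (Fin 2) F) * m) hm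
  simp only [Matrix.SpecialLinearGroup.coe_mul, mul_smul_comm, ← mul_assoc, hinv, one_mul] at hm'
  -- `b t = a`
  by_cases hb : b = 0
  · rw [hb, zero_smul] at hm'
    have ha : a = 0 := by
      have := congrFun (congrFun hm' 0) 0
      simpa using this.symm
    have h2 : g ^ 2 = 1 := by
      apply Subtype.ext
      rw [pow_two]
      show (g : Matrix (Fin 2) (Fin 2) F) * g = 1
      rw [sl2_sq, show g.1 0 0 + g.1 1 1 = 0 from ha, zero_smul, zero_add]
    exact orderOf_eq_one_iff.1 (Nat.eq_one_of_dvd_coprimes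
      (Nat.coprime_two_right.2 hg) dvd_rfl (orderOf_dvd_of_pow_eq_one h2))
  · exfalso
    apply ht1
    have h01 := congrFun (congrFun hm' 0) 1
    have h10 := congrFun (congrFun hm' 1) 0
    have h00 := congrFun (congrFun hm' 0) 0
    have h11 := congrFun (congrFun hm' 1) 1
    simp [hb] at h01 h10 h00 h11
    have hd := t.2
    rw [Matrix.det_fin_two, h01, h10] at hd
    have e : t.1 0 0 = t.1 1 1 := mul_left_cancel₀ hb (h00.trans h11.symm)
    have e1 : t.1 0 0 = 1 := by
      have h4 : (t.1 0 0 - 1) * (t.1 0 0 - 1) = 0 := by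
        linear_combination (-(t.1 0 0) + 1) * (CharTwo.two_eq_zero : (2 : F) = 0) + hd + (t.1 0 0) * e
      exact sub_eq_zero.1 (mul_self_eq_zero.1 h4)
    apply Subtype.ext
    ext i j
    fin_cases i <;> fin_cases j
    · simpa using e1
    · simpa using h01
    · simpa using h10
    · simpa using e.symm.trans e1

theorem sl2_center_trivial (z : SL(2, F)) (hz : z ∈ center SL(2, F)) : z = 1 := by
  rw [Matrix.SpecialLinearGroup.mem_center_iff] at hz
  obtain ⟨r, hr, hs⟩ := hz
  rw [Fintype.card_fin] at hr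
  have h1 : (r - 1) * (r - 1) = 0 := by
    linear_combination hr + (1 - r) * (CharTwo.two_eq_zero : (2 : F) = 0)
  apply Subtype.ext
  rw [← hs, sub_eq_zero.1 (mul_self_eq_zero.1 h1)]
  simp

end SL2

/-- Trivial centre and odd core, no normal Sylow `2`-subgroup. -/
structure Good (G : Type*) [Group G] : Prop where
  center_bot : center G = ⊥
  core_bot : Cfsg.pPrimeCore 2 G = ⊥
  sylow : ∀ P : Sylow 2 G, ¬ (P : Subgroup G).Normal

variable [Finite G]

theorem Good.not_isolated (hg : Good G) (u : G) : ¬ Cfsg.IsIsolatedInvolution u := fun h => by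
  have := ZStarTheorem.mem_center_of_isolated h hg.core_bot
  rw [hg.center_bot, mem_bot] at this
  have h2 := h.1
  rw [this, orderOf_one] at h2
  exact absurd h2 (by norm_num)

theorem Good.not_cyclic (hg : Good G) (S : Sylow 2 G) : ¬ IsCyclic (S : Subgroup G) := fun hc => by
  haveI : Fact (Nat.Prime 2) := ⟨Nat.prime_two⟩
  by_cases he : 2 ∣ Nat.card G
  · have hp : (Nat.card G).minFac = 2 := (Nat.minFac_eq_two_iff _).2 he
    obtain ⟨N, hN⟩ : ∃ N, N = (MonoidHom.transferSylow S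
        (IsCyclic.normalizer_le_centralizer hp hc)).ker := ⟨_, rfl⟩
    haveI hNn : N.Normal := hN ▸ inferInstance
    have hcomp : N.IsComplement' S := hN ▸ IsCyclic.isComplement' hp hc
    have hNodd : Cfsg.pPrimeCore 2 G ≥ N := by
      refine HallCore.le_pPrimeCore ?_
      rw [Nat.coprime_comm, Nat.Prime.coprime_iff_not_dvd Nat.prime_two, hN]
      exact MonoidHom.not_dvd_card_ker_transferSylow _ _
    rw [hg.core_bot] at hNodd
    have hb : N = ⊥ := le_bot_iff.1 hNodd
    rw [hb, isComplement'_bot_left] at hcomp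
    exact hg.sylow S (by rw [hcomp]; infer_instance)
  · have h0 : (S : Subgroup G) = ⊥ := by
      refine eq_bot_of_card_eq _ ?_
      obtain ⟨k, hk⟩ := S.isPGroup'.exists_card_eq
      rw [hk]
      rcases Nat.eq_zero_or_pos k with rfl | hk0
      · rfl
      · exact absurd ((dvd_pow_self 2 hk0.ne').trans (hk ▸ (S : Subgroup G).card_subgroup_dvd_card)) he
    exact hg.sylow S (by rw [h0]; infer_instance)

/-- All involution centralizers abelian. -/
theorem out_of_abelian (hg : Good G)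
    (hab : ∀ t : G, orderOf t = 2 → ∀ a ∈ cen t, ∀ b ∈ cen t, a * b = b * a) :
    ∃ (F : Type) (_ : Field F) (_ : Fintype F), CharP F 2 ∧ 3 < Fintype.card F ∧
      Nonempty (G ≃* SL(2, F)) := by
  haveI : Fact (Nat.Prime 2) := ⟨Nat.prime_two⟩
  obtain ⟨S⟩ : Nonempty (Sylow 2 G) := inferInstance
  have heven : Even (Nat.card G) := by
    rw [even_iff_two_dvd]
    by_contra he
    have : Cfsg.pPrimeCore 2 G = ⊤ := top_le_iff.1 (HallCore.le_pPrimeCore (by
      rw [card_top, Nat.coprime_comm, Nat.Prime.coprime_iff_not_dvd Nat.prime_two]; exact he))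
    rw [hg.core_bot] at this
    have h1 : (S : Subgroup G) = ⊥ := le_bot_iff.1 (this ▸ le_top)
    exact hg.sylow S (by rw [h1]; infer_instance)
  rcases S2202.result heven (fun t ht => ⟨⟨fun a b => Subtype.ext (hab t ht a a.2 b b.2)⟩⟩) with
    h | h | ⟨F, iF, iF', A, iA, iA', hF, -, ⟨e⟩⟩
  · exact absurd (h S) (hg.not_cyclic S)
  · exact absurd (h S) (hg.sylow S)
  haveI := hF
  have hA : ∀ a : A, a = 1 := by
    intro a
    have h1 : e.symm (1, a) ∈ center G := mem_center_iff.2 fun g => by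
      apply e.injective
      rw [map_mul, map_mul, e.apply_symm_apply]
      exact Prod.ext (by simp) (mul_comm _ _)
    rw [hg.center_bot, mem_bot, MulEquiv.map_eq_one_iff] at h1
    exact congrArg Prod.snd h1
  obtain ⟨f, hf⟩ : ∃ f : G ≃* SL(2, F), True := ⟨e.trans
    { toFun := Prod.fst, invFun := fun g => (g, 1), left_inv := fun p => Prod.ext rfl (hA p.2).symm,
      right_inv := fun _ => rfl, map_mul' := fun _ _ => rfl }, trivial⟩
  refine ⟨F, iF, iF', hF, ?_, ⟨f⟩⟩
  by_contra hq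
  have hq2 : Fintype.card F = 2 := by
    obtain ⟨n, -, hn⟩ := FiniteField.card F 2
    have h1 := Fintype.one_lt_card (α := F)
    rw [hn] at hq h1 ⊢
    have : (n : ℕ) < 2 := by
      by_contra h
      exact hq (lt_of_lt_of_le (by norm_num : 3 < 2 ^ 2) (Nat.pow_le_pow_right (by norm_num) (not_lt.1 h)))
    rw [show (n : ℕ) = 1 by have := n.pos; omega]
    rfl
  have hcard : Nat.card G = 6 := by
    rw [Nat.card_congr f.toEquiv, OrthUnitarySL2.card_SL2 (q := 2) (by rw [Nat.card_eq_fintype_card, hq2])]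
    rfl
  haveI : Fact (Nat.Prime 3) := ⟨Nat.prime_three⟩
  obtain ⟨x, hx⟩ := exists_prime_orderOf_dvd_card' 3 (show 3 ∣ Nat.card G by rw [hcard]; norm_num)
  have hi : (zpowers x).index = 2 := by
    have := (zpowers x).card_mul_index
    rw [hcard, Nat.card_zpowers, hx] at this
    omega
  haveI := normal_of_index_eq_two hi
  have := HallCore.le_pPrimeCore (p := 2) (N := zpowers x) (by rw [Nat.card_zpowers, hx]; norm_num)
  rw [hg.core_bot, le_bot_iff, zpowers_eq_bot] at this
  rw [this, orderOf_one] at hx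
  exact absurd hx (by norm_num)

omit [Finite G] in
theorem sq_of_iso {F : Type} [Field F] [CharP F 2] (e : G ≃* SL(2, F)) {g : G} (h : Big g) : False := by
  obtain ⟨k, hk⟩ := h
  have hb : Big g := ⟨k, hk⟩
  obtain ⟨y, hy⟩ : ∃ y, y = g ^ 2 ^ k := ⟨_, rfl⟩
  have hyo : orderOf y = 2 ^ 2 := by
    rw [hy, orderOf_pow' g (pow_ne_zero _ two_ne_zero), hk, Nat.gcd_eq_right (pow_dvd_pow 2 (by omega)),
      Nat.pow_div (by omega) two_pos, Nat.add_sub_cancel_left]
  have h4 : y * y * (y * y) = 1 := by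
    calc y * y * (y * y) = y ^ (2 ^ 2) := by simp [pow_succ, mul_assoc]
      _ = 1 := by rw [← hyo, pow_orderOf_eq_one]
  have h2 : e y * e y = 1 := sl2_sq_eq_one (by rw [← map_mul, ← map_mul, h4, map_one])
  exact (show Big y from ⟨0, hyo⟩).mul_self_ne (e.injective (by rw [map_mul, h2, map_one]))

theorem oddPart_comm (hE : EC G) {t : G} (ht : orderOf t = 2) {a b : G} (ha : a ∈ oddPart hE ht)
    (hb : b ∈ oddPart hE ht) : a * b = b * a := by
  have key : IsMulCommutative (oddPart hE ht) := by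
    by_contra hna
    obtain ⟨Q, E, A, ⟨e⟩, -⟩ := S4211.result hna (fun H => ⟨fun x hx y => by
      obtain ⟨i, hi⟩ := conj_odd_mem hE ht x.2.1 x.2.2 y.2.1
      have : y * x * y⁻¹ = x ^ i := Subtype.ext (by simpa using hi.symm)
      rw [this]; exact H.zpow_mem hx i⟩)
    have h1 := Q.card_subgroup_dvd_card
    rw [Nat.card_congr e.toEquiv, Nat.card_eq_fintype_card (α := QuaternionGroup 2),
      QuaternionGroup.card] at h1
    exact absurd ((odd_card_oddPart hE ht).of_dvd_nat h1) (by decide)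
  exact congrArg Subtype.val (key.is_comm.comm ⟨a, ha⟩ ⟨b, hb⟩)

theorem exists_conj_mem (S : Sylow 2 G) {t : G} (ht : orderOf t = 2) :
    ∃ g : G, g * t * g⁻¹ ∈ (S : Subgroup G) := by
  haveI : Fact (Nat.Prime 2) := ⟨Nat.prime_two⟩
  have hp : IsPGroup 2 (zpowers t) :=
    IsPGroup.of_card (n := 1) (by rw [Nat.card_zpowers, ht, pow_one])
  obtain ⟨R, hR⟩ := hp.exists_le_sylow
  obtain ⟨g, hg⟩ := MulAction.exists_smul_eq G R S
  exact ⟨g, hg ▸ ⟨t, hR (mem_zpowers t), rfl⟩⟩

/-- An element of odd order fixing the involution of `⟨w⟩` centralizes `w` if `w` normalizes its group. -/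
theorem commute_big (hE : EC G) {t a w : G} (ht : orderOf t = 2) (hwB : Big w) (ha : a ∈ oddPart hE ht)
    (hw : w ∈ cen t) (haw : a ∈ cen (inv2 w)) : Commute a w := by
  have h1 : a * w * a⁻¹ * w⁻¹ ∈ oddPart hE ht := by
    rw [show a * w * a⁻¹ * w⁻¹ = a * (w * a⁻¹ * w⁻¹) by group]
    exact mul_mem ha (oddPart_conj hE ht hw (inv_mem ha))
  have h2 : a * w * a⁻¹ * w⁻¹ ∈ zpowers w :=
    mul_mem (conj_mem_zpowers (by rw [norm_big hE hwB]; exact haw)) (inv_mem (mem_zpowers w))
  obtain ⟨k, hk⟩ := hwB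
  have h3 : orderOf (a * w * a⁻¹ * w⁻¹) ∣ 2 ^ (k + 2) := by
    rw [← hk, ← Nat.card_zpowers w]; exact orderOf_dvd_natCard _ h2
  have h4 := orderOf_eq_one_iff.1 (Nat.eq_one_of_dvd_coprimes
    (Nat.Coprime.pow_right _ (Nat.coprime_two_right.2 h1.2)) dvd_rfl h3)
  rwa [mul_inv_eq_one, mul_inv_eq_iff_eq_mul] at h4

/-- An involution of `cen t` centralizes the odd part, or inverts it. -/
theorem fix_or_invert (hE : EC G) {t s : G} (ht : orderOf t = 2) (hs : orderOf s = 2) (hst : s ∈ cen t) :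
    (∀ a ∈ oddPart hE ht, Commute a s) ∨ ∀ a ∈ oddPart hE ht, s * a * s⁻¹ = a⁻¹ := by
  by_cases h : ∃ a ∈ oddPart hE ht, a ≠ 1 ∧ Commute a s
  · obtain ⟨a, ha, ha1, has⟩ := h
    left
    intro b hb
    have e := cen_eq_cen hE ht hs ha.1 (mem_cen.2 has) ha.2 ha1
    exact mem_cen.1 (e ▸ hb.1 : b ∈ cen s)
  · push Not at h
    right
    intro a ha
    have hb := oddPart_conj hE ht hst ha
    have hss : s * s = 1 := by rw [← pow_two, ← hs, pow_orderOf_eq_one]
    have hsi : s⁻¹ = s := inv_eq_of_mul_eq_one_right hss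
    have h1 : Commute (a * (s * a * s⁻¹)) s := by
      refine (mul_inv_eq_iff_eq_mul.1 ?_).symm
      calc s * (a * (s * a * s⁻¹)) * s⁻¹ = (s * a * s⁻¹) * ((s * s) * a * (s * s)⁻¹) := by group
        _ = (s * a * s⁻¹) * a := by rw [hss]; group
        _ = a * (s * a * s⁻¹) := (oddPart_comm hE ht ha hb).symm
    by_contra hne
    exact h _ (mul_mem ha hb) (fun h0 => hne (eq_inv_of_mul_eq_one_right h0)) h1

/-- Abelian Sylow subgroup with two different square-involutions: involution centralizers are abelian. -/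
theorem abelian_cen (hE : EC G) (S : Sylow 2 G)
    (hS : ∀ a ∈ (S : Subgroup G), ∀ b ∈ (S : Subgroup G), a * b = b * a) {x₀ y₀ : G}
    (hx₀ : x₀ ∈ (S : Subgroup G)) (hy₀ : y₀ ∈ (S : Subgroup G)) (hx₀B : Big x₀) (hy₀B : Big y₀)
    (hne₀ : inv2 x₀ ≠ inv2 y₀) :
    ∀ t : G, orderOf t = 2 → ∀ a ∈ cen t, ∀ b ∈ cen t, a * b = b * a := by
  -- elements of order four
  have four : ∀ {x : G}, x ∈ (S : Subgroup G) → Big x → ∃ x₁ ∈ (S : Subgroup G),
      orderOf x₁ = 2 ^ (0 + 2) ∧ inv2 x₁ = inv2 x := by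
    rintro x hx ⟨k, hk⟩
    have ho : orderOf (x ^ 2 ^ k) = 2 ^ (0 + 2) := by
      rw [orderOf_pow' x (pow_ne_zero _ two_ne_zero), hk, Nat.gcd_eq_right (pow_dvd_pow 2 (by omega)),
        Nat.pow_div (by omega) two_pos, Nat.add_sub_cancel_left]
    exact ⟨x ^ 2 ^ k, pow_mem hx _, ho, by rw [inv2_eq ho, inv2_eq hk, ← pow_mul, ← pow_add]⟩
  obtain ⟨x, hxS, hxo, hxi⟩ := four hx₀ hx₀B
  obtain ⟨y, hyS, hyo, hyi⟩ := four hy₀ hy₀B
  have hne : inv2 x ≠ inv2 y := by rw [hxi, hyi]; exact hne₀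
  have hxB : Big x := ⟨0, hxo⟩
  have hyB : Big y := ⟨0, hyo⟩
  have hsq : ∀ {w : G}, orderOf w = 2 ^ (0 + 2) → inv2 w = w * w := fun {w} hw => by
    rw [inv2_eq hw, show 2 ^ (0 + 1) = 2 by norm_num, pow_two]
  intro t ht
  obtain ⟨g, hgS⟩ := exists_conj_mem S ht
  suffices key : ∀ a ∈ cen (g * t * g⁻¹), ∀ b ∈ cen (g * t * g⁻¹), a * b = b * a by
    intro a ha b hb
    have := key _ (mem_cen_conj (n := g) ha) _ (mem_cen_conj (n := g) hb)
    calc a * b = g⁻¹ * (g * a * g⁻¹ * (g * b * g⁻¹)) * g := by group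
      _ = g⁻¹ * (g * b * g⁻¹ * (g * a * g⁻¹)) * g := by rw [this]
      _ = b * a := by group
  have ht' : orderOf (g * t * g⁻¹) = 2 := by rw [orderOf_conj, ht]
  generalize g * t * g⁻¹ = t at hgS ht'
  have hle : (S : Subgroup G) ≤ cen t := fun s hs => mem_cen.2 (hS s hs t hgS)
  -- `z` of order four whose square centralizes the odd part
  obtain ⟨z, hzS, hzB, hzc⟩ : ∃ z ∈ (S : Subgroup G), Big z ∧
      ∀ a ∈ oddPart hE ht', Commute a (inv2 z) := by
    have hxy : Commute x y := hS x hxS y hyS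
    have hxyo : orderOf (x * y) = 2 ^ (0 + 2) := by
      have h4 : (x * y) ^ 2 ^ (0 + 2) = 1 := by
        rw [hxy.mul_pow]; nth_rewrite 1 [← hxo]; rw [← hyo, pow_orderOf_eq_one, pow_orderOf_eq_one, one_mul]
      refine orderOf_eq_prime_pow (n := 1) ?_ h4
      intro h
      rw [hxy.mul_pow, pow_one, pow_two, pow_two, ← hsq hxo, ← hsq hyo, mul_eq_one_iff_eq_inv] at h
      refine hne (h.trans (inv_eq_of_mul_eq_one_right ?_))
      rw [← pow_two, ← orderOf_inv2 hyB, pow_orderOf_eq_one]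
    rcases fix_or_invert hE ht' (orderOf_inv2 hxB) (hle (zpowers_le.2 hxS (inv2_mem x))) with h | h
    · exact ⟨x, hxS, hxB, h⟩
    rcases fix_or_invert hE ht' (orderOf_inv2 hyB) (hle (zpowers_le.2 hyS (inv2_mem y))) with h' | h'
    · exact ⟨y, hyS, hyB, h'⟩
    refine ⟨x * y, mul_mem hxS hyS, ⟨0, hxyo⟩, fun a ha => ?_⟩
    have e : inv2 (x * y) = inv2 x * inv2 y := by
      rw [hsq hxyo, hsq hxo, hsq hyo, ← pow_two, hxy.mul_pow, pow_two, pow_two]
    rw [e]
    refine ((mul_inv_eq_iff_eq_mul.1 ?_).symm : Commute a _)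
    calc inv2 x * inv2 y * a * (inv2 x * inv2 y)⁻¹
        = inv2 x * (inv2 y * a * (inv2 y)⁻¹) * (inv2 x)⁻¹ := by group
      _ = a := by rw [h' a ha, h _ (inv_mem ha), inv_inv]
  have hcen : ∀ s ∈ (S : Subgroup G), ∀ a ∈ oddPart hE ht', Commute a s := by
    have hinv : ∀ s ∈ (S : Subgroup G), s * s = 1 → ∀ a ∈ oddPart hE ht', Commute a s := by
      intro s hs hss a ha
      have hsz : Commute s z := hS s hs z hzS
      have e : (s * z) ^ 2 = z ^ 2 := by rw [hsz.mul_pow, pow_two, hss, one_mul]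
      have hb : Big (s * z) := (sq_or_big S (mul_mem hs hzS)).resolve_left fun h => hzB.mul_self_ne (by
        rw [← pow_two, ← e, pow_two, h])
      have ei : inv2 (s * z) = inv2 z := by
        obtain ⟨k, hk⟩ := hzB
        have ho : orderOf (s * z) = 2 ^ (k + 2) := by
          refine orderOf_eq_prime_pow ?_ ?_
          · rw [pow_succ', pow_mul, e, ← pow_mul, ← pow_succ', ← orderOf_dvd_iff_pow_eq_one, hk,
              Nat.pow_dvd_pow_iff_le_right (by norm_num)]
            omega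
          · rw [show (s * z) ^ 2 ^ (k + 2) = (z ^ 2) ^ 2 ^ (k + 1) by rw [← e, ← pow_mul, ← pow_succ'],
              ← pow_mul, ← pow_succ', ← hk, pow_orderOf_eq_one]
        rw [inv2_eq ho, inv2_eq hk, pow_succ', pow_mul, e, ← pow_mul]
      have h1 := commute_big hE ht' hb ha (hle (mul_mem hs hzS)) (ei ▸ mem_cen.2 (hzc a ha))
      have h2 := commute_big hE ht' hzB ha (hle hzS) (mem_cen.2 (hzc a ha))
      have := h1.mul_right h2.inv_right
      rwa [mul_inv_cancel_right] at this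
    intro s hs a ha
    rcases sq_or_big S hs with h | h
    · exact hinv s hs h a ha
    · refine commute_big hE ht' h ha (hle hs) (mem_cen.2 (hinv _ (zpowers_le.2 hs (inv2_mem s)) ?_ a ha))
      rw [← pow_two, ← orderOf_inv2 h, pow_orderOf_eq_one]
  intro a ha b hb
  obtain ⟨a₁, ha₁, a₂, ha₂, rfl⟩ := exists_odd_mul hE ht' S hle ha
  obtain ⟨b₁, hb₁, b₂, hb₂, rfl⟩ := exists_odd_mul hE ht' S hle hb
  have c1 : Commute a₁ b₁ := oddPart_comm hE ht' ha₁ hb₁
  have c2 : Commute a₁ b₂ := hcen b₂ hb₂ a₁ ha₁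
  have c3 : Commute a₂ b₁ := (hcen a₂ ha₂ b₁ hb₁).symm
  have c4 : Commute a₂ b₂ := hS a₂ ha₂ b₂ hb₂
  exact ((c1.mul_right c2).mul_left (c3.mul_right c4)).eq

/-- The abelian nonelementary case is impossible. -/
theorem abelian_big_absurd (hg : Good G) (hE : EC G) (S : Sylow 2 G)
    (hS : ∀ a ∈ (S : Subgroup G), ∀ b ∈ (S : Subgroup G), a * b = b * a) {x : G}
    (hx : x ∈ (S : Subgroup G)) (hxB : Big x) : False := by
  rcases structure_cases hE hg.not_isolated S with h | ⟨-, x', hx', y, hy, hx'B, hyB, hne⟩ | ⟨B, hB⟩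
  · exact hxB.mul_self_ne (h x hx)
  · obtain ⟨F, _, _, hF, -, ⟨e⟩⟩ := out_of_abelian hg (abelian_cen hE S hS hx' hy hx'B hyB hne)
    exact sq_of_iso e hxB
  · obtain ⟨v, hv, hvB⟩ := hB.exists_out
    obtain ⟨z, hzB, hzbig⟩ := hB.exists_big
    have := hB.out_inv v hv hvB z hzB
    rw [hS v hv z (hB.le hzB), mul_inv_cancel_right] at this
    exact hzbig.mul_self_ne (by rw [mul_eq_one_iff_eq_inv]; exact this)

end Cfsg.Agent.EvenCyclic27
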