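import Mathlib

/-!
The simple factors of a non-abelian minimal normal subgroup, handled inside the ambient group.
-/

set_option autoImplicit false

namespace Cfsg.Agent.MinNormalFactors

variable {G : Type*} [Group G]

/-- `N` is a minimal normal subgroup. -/
structure IsMNS (N : Subgroup G) : Prop where
  normal : N.Normal
  ne_bot : N ≠ ⊥
  min : ∀ M : Subgroup G, M.Normal → M ≤ N → M = ⊥ ∨ M = N

/-- `T` is a minimal among the nontrivial subgroups of `N` normalized by `N`. -/
structure IsFactor (N T : Subgroup G) : Prop where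
  le : T ≤ N
  ne_bot : T ≠ ⊥
  normalized : N ≤ Subgroup.normalizer (T : Set G)
  min : ∀ K : Subgroup G, K ≤ T → N ≤ Subgroup.normalizer (K : Set G) → K = ⊥ ∨ K = T

theorem exists_isMNS_le [Finite G] (N : Subgroup G) [N.Normal] (hN : N ≠ ⊥) :
    ∃ M, M ≤ N ∧ IsMNS M := by
  obtain ⟨M, ⟨hMn, hM1, hMN⟩, hmin⟩ := Set.exists_min_image
    {M : Subgroup G | M.Normal ∧ M ≠ ⊥ ∧ M ≤ N} (fun M => Nat.card M) (Set.toFinite _)
    ⟨N, ‹N.Normal›, hN, le_rfl⟩
  refine ⟨M, hMN, hMn, hM1, fun L hLn hLM => ?_⟩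
  by_cases hL : L = ⊥
  · exact Or.inl hL
  · exact Or.inr (Subgroup.eq_of_le_of_card_ge hLM (hmin L ⟨hLn, hL, hLM.trans hMN⟩))

theorem exists_isFactor_le [Finite G] {N : Subgroup G} (A : Subgroup G) (hAN : A ≤ N) (hA : A ≠ ⊥)
    (hn : N ≤ Subgroup.normalizer (A : Set G)) : ∃ T, T ≤ A ∧ IsFactor N T := by
  obtain ⟨T, ⟨hTA, hT1, hTn⟩, hmin⟩ := Set.exists_min_image
    {K : Subgroup G | K ≤ A ∧ K ≠ ⊥ ∧ N ≤ Subgroup.normalizer (K : Set G)}
    (fun K => Nat.card K) (Set.toFinite _) ⟨A, le_rfl, hA, hn⟩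
  refine ⟨T, hTA, hTA.trans hAN, hT1, hTn, fun K hK hKn => ?_⟩
  by_cases h : K = ⊥
  · exact Or.inl h
  · exact Or.inr (Subgroup.eq_of_le_of_card_ge hK (hmin K ⟨hK.trans hTA, h, hKn⟩))

theorem conj_mem_of_le_normalizer {T : Subgroup G} {n t : G}
    (hn : n ∈ Subgroup.normalizer (T : Set G)) (ht : t ∈ T) : n * t * n⁻¹ ∈ T :=
  (Subgroup.mem_normalizer_iff.mp hn t).mp ht

/-- a subgroup closed under conjugation by all elements of `N` is normalized by `N` -/
theorem le_normalizer_of_forall {N K : Subgroup G} (h : ∀ n ∈ N, ∀ k ∈ K, n * k * n⁻¹ ∈ K) :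
    N ≤ Subgroup.normalizer (K : Set G) := fun n hn =>
  Subgroup.mem_normalizer_iff.mpr fun x => ⟨h n hn x, fun hx => by
    simpa [mul_assoc] using h n⁻¹ (N.inv_mem hn) _ hx⟩

variable {N : Subgroup G}

theorem IsFactor.inf_eq_bot {T U : Subgroup G} (hT : IsFactor N T) (hU : IsFactor N U)
    (hne : T ≠ U) : T ⊓ U = ⊥ := by
  have hn : N ≤ Subgroup.normalizer ((T ⊓ U : Subgroup G) : Set G) := le_normalizer_of_forall
    fun n hn k hk => ⟨conj_mem_of_le_normalizer (hT.normalized hn) hk.1,
      conj_mem_of_le_normalizer (hU.normalized hn) hk.2⟩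
  rcases hT.min _ inf_le_left hn with h | h
  · exact h
  · rcases hU.min _ inf_le_right hn with h' | h'
    · exact h'
    · exact absurd (h.symm.trans h') hne

theorem IsFactor.commute {T U : Subgroup G} (hT : IsFactor N T) (hU : IsFactor N U)
    (hne : T ≠ U) {t u : G} (ht : t ∈ T) (hu : u ∈ U) : Commute t u := by
  have h1 : t * u * t⁻¹ * u⁻¹ ∈ T ⊓ U := by
    refine ⟨?_, ?_⟩
    · rw [mul_assoc t u, mul_assoc]
      exact T.mul_mem ht (conj_mem_of_le_normalizer (hT.normalized (hU.le hu)) (T.inv_mem ht))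
    · exact U.mul_mem (conj_mem_of_le_normalizer (hU.normalized (hT.le ht)) hu) (U.inv_mem hu)
  rw [hT.inf_eq_bot hU hne, Subgroup.mem_bot, mul_inv_eq_one, mul_inv_eq_iff_eq_mul] at h1
  exact h1

/-- the conjugate of a factor by an element of `G` -/
def conjSub (g : G) (T : Subgroup G) : Subgroup G := T.map (MulAut.conj g).toMonoidHom

theorem mem_conjSub {g x : G} {T : Subgroup G} : x ∈ conjSub g T ↔ g⁻¹ * x * g ∈ T := by
  constructor
  · rintro ⟨t, ht, rfl⟩
    simpa [mul_assoc] using ht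
  · intro h
    exact ⟨_, h, by simp [mul_assoc]⟩

theorem conj_mem_conjSub {g t : G} {T : Subgroup G} (ht : t ∈ T) : g * t * g⁻¹ ∈ conjSub g T :=
  ⟨t, ht, rfl⟩

theorem conjSub_eq_self {g : G} {T : Subgroup G} (h : g ∈ Subgroup.normalizer (T : Set G)) :
    conjSub g T = T := by
  ext x
  rw [mem_conjSub]
  exact ((Subgroup.mem_normalizer_iff'' ).mp h x).symm

theorem conjSub_conjSub (g h : G) (T : Subgroup G) : conjSub g (conjSub h T) = conjSub (g * h) T := by
  ext x
  simp [mem_conjSub, mul_assoc]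

theorem conjSub_one (T : Subgroup G) : conjSub 1 T = T := by
  ext x; simp [mem_conjSub]

theorem mem_normalizer_of_conjSub_eq {g : G} {T : Subgroup G} (h : conjSub g T = T) :
    g ∈ Subgroup.normalizer (T : Set G) :=
  Subgroup.mem_normalizer_iff.mpr fun x => by
    constructor
    · intro hx
      exact h ▸ conj_mem_conjSub hx
    · intro hx
      rw [← h] at hx
      simpa [mul_assoc] using mem_conjSub.mp hx

theorem IsFactor.conj (hNn : N.Normal) {T : Subgroup G} (hT : IsFactor N T) (g : G) :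
    IsFactor N (conjSub g T) := by
  refine ⟨?_, ?_, ?_, ?_⟩
  · rintro _ ⟨t, ht, rfl⟩
    exact hNn.conj_mem t (hT.le ht) g
  · rw [conjSub, ne_eq, Subgroup.map_eq_bot_iff_of_injective _ (MulAut.conj g).injective]
    exact hT.ne_bot
  · refine le_normalizer_of_forall fun n hn k hk => ?_
    rw [mem_conjSub] at hk ⊢
    have h1 : g⁻¹ * n * g ∈ N := by simpa using hNn.conj_mem n hn g⁻¹
    have := conj_mem_of_le_normalizer (hT.normalized h1) hk
    simpa [mul_assoc] using this
  · intro K hK hKn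
    have h2 : conjSub g⁻¹ K ≤ T := by
      intro x hx
      rw [mem_conjSub] at hx
      simpa [mul_assoc] using mem_conjSub.mp (hK hx)
    have h3 : N ≤ Subgroup.normalizer ((conjSub g⁻¹ K : Subgroup G) : Set G) := by
      refine le_normalizer_of_forall fun n hn k hk => ?_
      rw [mem_conjSub] at hk ⊢
      have := conj_mem_of_le_normalizer (hKn (hNn.conj_mem n hn g)) hk
      simpa [mul_assoc] using this
    rcases hT.min _ h2 h3 with h | h
    · left
      rwa [conjSub, Subgroup.map_eq_bot_iff_of_injective _ (MulAut.conj g⁻¹).injective] at h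
    · right
      rw [← h, conjSub_conjSub, mul_inv_cancel, conjSub_one]

theorem iSup_conj_eq (hN : IsMNS N) {T : Subgroup G} (hT : IsFactor N T) :
    ⨆ g : G, conjSub g T = N := by
  have hle : ⨆ g : G, conjSub g T ≤ N := iSup_le fun g => (hT.conj hN.normal g).le
  have hnorm : (⨆ g : G, conjSub g T).Normal := by
    refine ⟨fun x hx h => ?_⟩
    induction hx using Subgroup.iSup_induction' with
    | hp g y hy =>
      refine Subgroup.mem_iSup_of_mem (h * g) ?_
      rw [mem_conjSub] at hy ⊢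
      simpa [mul_assoc] using hy
    | h1 => simp
    | hmul a b _ _ ha hb =>
      rw [show h * (a * b) * h⁻¹ = (h * a * h⁻¹) * (h * b * h⁻¹) by group]
      exact Subgroup.mul_mem _ ha hb
  rcases hN.min _ hnorm hle with h | h
  · exfalso
    have h1 : conjSub (1 : G) T ≤ ⊥ := h ▸ le_iSup (fun g => conjSub g T) 1
    rw [conjSub_one] at h1
    exact hT.ne_bot (le_bot_iff.mp h1)
  · exact h

/-- the join of the factors other than `T` centralizes `T` -/
theorem le_sup_centralizer (hN : IsMNS N) {T : Subgroup G} (hT : IsFactor N T) :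
    N ≤ T ⊔ (N ⊓ Subgroup.centralizer (T : Set G)) := by
  calc N = ⨆ g : G, conjSub g T := (iSup_conj_eq hN hT).symm
    _ ≤ _ := iSup_le fun g => by
      by_cases h : conjSub g T = T
      · rw [h]; exact le_sup_left
      · refine le_sup_of_le_right (le_inf (hT.conj hN.normal g).le fun x hx => ?_)
        exact Subgroup.mem_centralizer_iff.mpr fun t ht =>
          (hT.commute (hT.conj hN.normal g) (Ne.symm h) ht hx)

theorem decomp (hN : IsMNS N) {T : Subgroup G} (hT : IsFactor N T) {n : G} (hn : n ∈ N) :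
    ∃ t ∈ T, ∃ c ∈ N ⊓ Subgroup.centralizer (T : Set G), n = t * c := by
  have h := le_sup_centralizer hN hT hn
  rw [← SetLike.mem_coe, Subgroup.coe_mul_of_left_le_normalizer_right] at h
  · obtain ⟨t, ht, c, hc, rfl⟩ := h
    exact ⟨t, ht, c, hc, rfl⟩
  · refine le_normalizer_of_forall fun t ht c hc => ?_
    have : t * c = c * t := Subgroup.mem_centralizer_iff.mp hc.2 t ht
    rw [this, mul_inv_cancel_right]
    exact hc

/-- a factor is never abelian if `N` is not -/
theorem not_abelian (hN : IsMNS N) (hab : ¬ IsMulCommutative N) {T : Subgroup G} (hT : IsFactor N T) :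
    ¬ IsMulCommutative T := by
  intro hTab
  apply hab
  have hcc : ∀ g h : G, ∀ x ∈ conjSub g T, ∀ y ∈ conjSub h T, x * y = y * x := by
    intro g h x hx y hy
    by_cases he : conjSub g T = conjSub h T
    · rw [← he, mem_conjSub] at hy
      rw [mem_conjSub] at hx
      have := congrArg Subtype.val (hTab.is_comm.comm (⟨_, hx⟩ : T) ⟨_, hy⟩)
      simp only [Subgroup.coe_mul] at this
      calc x * y = g * ((g⁻¹ * x * g) * (g⁻¹ * y * g)) * g⁻¹ := by group
        _ = g * ((g⁻¹ * y * g) * (g⁻¹ * x * g)) * g⁻¹ := by rw [this]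
        _ = y * x := by group
    · exact (hT.conj hN.normal g).commute (hT.conj hN.normal h) he hx hy
  have hle : ∀ h : G, conjSub h T ≤ Subgroup.centralizer (N : Set G) := by
    intro h y hy
    have : N ≤ Subgroup.centralizer {y} := by
      rw [← iSup_conj_eq hN hT]
      refine iSup_le fun g x hx => Subgroup.mem_centralizer_iff.mpr ?_
      rintro _ rfl
      exact (hcc g h x hx _ hy).symm
    exact Subgroup.mem_centralizer_iff.mpr fun x hx =>
      (Subgroup.mem_centralizer_iff.mp (this hx) y rfl).symm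
  have hNN : N ≤ Subgroup.centralizer (N : Set G) := by
    conv_lhs => rw [← iSup_conj_eq hN hT]
    exact iSup_le hle
  exact Subgroup.le_centralizer_iff_isMulCommutative.mp hNN

/-- no nontrivial abelian subgroup of `N` is normalized by `N` -/
theorem eq_bot_of_abelian [Finite G] (hN : IsMNS N) (hab : ¬ IsMulCommutative N) (A : Subgroup G)
    (hA : A ≤ N) (hAn : N ≤ Subgroup.normalizer (A : Set G)) (hAab : IsMulCommutative A) : A = ⊥ := by
  by_contra hne
  obtain ⟨T, hTA, hT⟩ := exists_isFactor_le A hA hne hAn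
  exact not_abelian hN hab hT ⟨⟨fun a b => Subtype.ext
    (congrArg Subtype.val (hAab.is_comm.comm (⟨a, hTA a.2⟩ : A) ⟨b, hTA b.2⟩) :)⟩⟩

theorem center_trivial [Finite G] (hN : IsMNS N) (hab : ¬ IsMulCommutative N) :
    N ⊓ Subgroup.centralizer (N : Set G) = ⊥ := by
  refine eq_bot_of_abelian hN hab _ inf_le_left ?_ ⟨⟨fun a b => Subtype.ext
    (Subgroup.mem_centralizer_iff.mp b.2.2 a a.2.1)⟩⟩
  refine le_normalizer_of_forall fun n hn k hk => ?_
  have : n * k = k * n := Subgroup.mem_centralizer_iff.mp hk.2 n hn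
  rw [this, mul_inv_cancel_right]; exact hk

theorem inf_centralizer_eq_bot [Finite G] (hN : IsMNS N) (hab : ¬ IsMulCommutative N)
    {T : Subgroup G} (hT : IsFactor N T) : T ⊓ Subgroup.centralizer (T : Set G) = ⊥ := by
  refine eq_bot_of_abelian hN hab _ (inf_le_left.trans hT.le) ?_ ⟨⟨fun a b => Subtype.ext
    (Subgroup.mem_centralizer_iff.mp b.2.2 a a.2.1)⟩⟩
  refine le_normalizer_of_forall fun n hn k hk => ⟨conj_mem_of_le_normalizer (hT.normalized hn) hk.1, ?_⟩
  refine Subgroup.mem_centralizer_iff.mpr fun t ht => ?_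
  have h1 : n⁻¹ * t * n ∈ T := by simpa using conj_mem_of_le_normalizer (hT.normalized (N.inv_mem hn)) ht
  have h2 := Subgroup.mem_centralizer_iff.mp hk.2 _ h1
  calc t * (n * k * n⁻¹) = n * ((n⁻¹ * t * n) * k) * n⁻¹ := by group
    _ = n * (k * (n⁻¹ * t * n)) * n⁻¹ := by rw [h2]
    _ = n * k * n⁻¹ * t := by group

/-- uniqueness of the decomposition `N = T × C_N(T)` -/
theorem decomp_unique [Finite G] (hN : IsMNS N) (hab : ¬ IsMulCommutative N)
    {T : Subgroup G} (hT : IsFactor N T) {t t' c c' : G} (ht : t ∈ T) (ht' : t' ∈ T)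
    (hc : c ∈ Subgroup.centralizer (T : Set G)) (hc' : c' ∈ Subgroup.centralizer (T : Set G))
    (h : t * c = t' * c') : t = t' ∧ c = c' := by
  have h1 : t'⁻¹ * t = c' * c⁻¹ := by
    rw [eq_mul_inv_iff_mul_eq, mul_assoc, h, inv_mul_cancel_left]
  have h2 : t'⁻¹ * t ∈ T ⊓ Subgroup.centralizer (T : Set G) :=
    ⟨T.mul_mem (T.inv_mem ht') ht, h1 ▸ (Subgroup.centralizer (T : Set G)).mul_mem hc' ((Subgroup.centralizer (T : Set G)).inv_mem hc)⟩
  rw [inf_centralizer_eq_bot hN hab hT, Subgroup.mem_bot, inv_mul_eq_one] at h2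
  subst h2
  exact ⟨rfl, mul_left_cancel h⟩

theorem isSimpleGroup (hN : IsMNS N) {T : Subgroup G} (hT : IsFactor N T) : IsSimpleGroup T := by
  haveI : Nontrivial T := (Subgroup.nontrivial_iff_ne_bot T).mpr hT.ne_bot
  refine ⟨fun K hK => ?_⟩
  have hKn : N ≤ Subgroup.normalizer ((K.map T.subtype : Subgroup G) : Set G) := by
    refine le_normalizer_of_forall fun n hn k hk => ?_
    obtain ⟨k, hk, rfl⟩ := hk
    obtain ⟨t, ht, c, hc, rfl⟩ := decomp hN hT hn
    have hck : c * (k : G) = k * c := (Subgroup.mem_centralizer_iff.mp hc.2 k k.2).symm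
    refine ⟨⟨t, ht⟩ * k * ⟨t, ht⟩⁻¹, hK.conj_mem k hk _, ?_⟩
    simp only [Subgroup.coe_subtype, Subgroup.coe_mul, InvMemClass.coe_inv, mul_inv_rev]
    calc t * (k : G) * t⁻¹ = t * (k * c) * c⁻¹ * t⁻¹ := by group
      _ = t * (c * k) * c⁻¹ * t⁻¹ := by rw [hck]
      _ = _ := by group
  rcases hT.min _ (Subgroup.map_subtype_le K) hKn with h | h
  · left
    rwa [Subgroup.map_eq_bot_iff_of_injective _ T.subtype_injective] at h
  · right
    apply Subgroup.map_injective T.subtype_injective
    rw [h, ← MonoidHom.range_eq_map, Subgroup.range_subtype]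

/-- all factors are conjugate -/
theorem exists_conj [Finite G] (hN : IsMNS N) (hab : ¬ IsMulCommutative N) {T U : Subgroup G}
    (hT : IsFactor N T) (hU : IsFactor N U) : ∃ g : G, conjSub g T = U := by
  by_contra h
  push Not at h
  have hle : U ≤ N ⊓ Subgroup.centralizer (N : Set G) := by
    refine le_inf hU.le fun u hu => Subgroup.mem_centralizer_iff.mpr fun n hn => ?_
    have : N ≤ Subgroup.centralizer {u} := by
      rw [← iSup_conj_eq hN hT]
      refine iSup_le fun g x hx => Subgroup.mem_centralizer_iff.mpr ?_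
      rintro _ rfl
      exact ((hT.conj hN.normal g).commute hU (h g) hx hu).symm
    exact (Subgroup.mem_centralizer_iff.mp (this hn) u rfl).symm
  rw [center_trivial hN hab, le_bot_iff] at hle
  exact hU.ne_bot hle

theorem eq_of_forall_normalizer [Finite G] (hN : IsMNS N) (hab : ¬ IsMulCommutative N) {T U : Subgroup G}
    (hT : IsFactor N T) (hU : IsFactor N U)
    (h : ∀ g : G, g ∈ Subgroup.normalizer (T : Set G)) : U = T := by
  obtain ⟨g, hg⟩ := exists_conj hN hab hT hU
  rw [← hg, conjSub_eq_self (h g)]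

theorem commutator_eq [Finite G] (hN : IsMNS N) (hab : ¬ IsMulCommutative N) : ⁅N, N⁆ = N := by
  haveI := hN.normal
  rcases hN.min ⁅N, N⁆ (Subgroup.commutator_normal N N) (Subgroup.commutator_le_left N N) with h | h
  · exact absurd (Subgroup.le_centralizer_iff_isMulCommutative.mp
      (Subgroup.commutator_eq_bot_iff_le_centralizer.mp h)) hab
  · exact h

end Cfsg.Agent.MinNormalFactors
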