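import Cfsg.Agent.Lib.EvenCyclicCases27
import Cfsg.Agent.Lib.MinNormalFactors
import Cfsg.Agent.Lib.PSLCard
import Cfsg.Agent.S0508

/-!
For S3730: dihedral Sylow 2-subgroups give a simple normal subgroup `PSL(2, F)`, `|F|` odd, with trivial centralizer.
-/

set_option autoImplicit false
set_option linter.style.haveILetI false

namespace Cfsg.Agent.EvenCyclic27

open Subgroup
open scoped MatrixGroups

variable {G : Type*} [Group G] [Finite G]

/-- A subgroup with trivial centre, trivial odd core and no normal Sylow inherits dihedral Sylow subgroups. -/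
theorem SylowDihedral.to_subgroup (hD : SylowDihedral G) (H : Subgroup G) (hH : Good H) :
    SylowDihedral H := by
  haveI : Fact (Nat.Prime 2) := ⟨Nat.prime_two⟩
  intro R
  obtain ⟨S, hS⟩ := ((R.isPGroup').map H.subtype).exists_le_sylow
  obtain ⟨B, hBc, hBS, -, hsq, hmul, -⟩ := hD S
  have hRS : ∀ r : H, r ∈ (R : Subgroup H) → (r : G) ∈ (S : Subgroup G) := fun r hr => hS ⟨r, hr, rfl⟩
  obtain ⟨B', hB'⟩ : ∃ B' : Subgroup H, B' = (R : Subgroup H) ⊓ B.subgroupOf H := ⟨_, rfl⟩
  have hmem : ∀ {r : H}, r ∈ B' ↔ r ∈ (R : Subgroup H) ∧ (r : G) ∈ B := by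
    intro r; rw [hB', mem_inf, mem_subgroupOf]
  haveI : IsCyclic B' := by
    haveI := hBc
    exact isCyclic_of_injective
      ({ toFun := fun r => (⟨((r : H) : G), (hmem.1 r.2).2⟩ : B), map_one' := rfl,
         map_mul' := fun _ _ => rfl } : B' →* B)
      (fun a b h => Subtype.ext (Subtype.ext (congrArg (fun x : B => (x : G)) h)))
  have hout : ∃ v ∈ (R : Subgroup H), v ∉ B' := by
    by_contra hcon
    push Not at hcon
    refine hH.not_cyclic R ?_
    rw [show (R : Subgroup H) = B' from le_antisymm (fun r hr => hcon r hr) (fun r hr => (hmem.1 hr).1)]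
    infer_instance
  have hmul' : ∀ s ∈ (R : Subgroup H), s ∉ B' → ∀ s' ∈ (R : Subgroup H), s' ∉ B' → s * s' ∈ B' :=
    fun s hs hsB s' hs' hs'B => hmem.2 ⟨mul_mem hs hs',
      hmul _ (hRS s hs) (fun h => hsB (hmem.2 ⟨hs, h⟩)) _ (hRS s' hs') (fun h => hs'B (hmem.2 ⟨hs', h⟩))⟩
  have hsq' : ∀ s ∈ (R : Subgroup H), s ∉ B' → s * s = 1 := fun s hs hsB =>
    Subtype.ext (hsq _ (hRS s hs) fun h => hsB (hmem.2 ⟨hs, h⟩))
  refine ⟨B', inferInstance, fun r hr => (hmem.1 hr).1, hout, hsq', hmul', ?_⟩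
  rw [one_lt_card_iff_ne_bot]
  intro h0
  obtain ⟨v, hv, hvB⟩ := hout
  refine hH.not_cyclic R ⟨⟨v, hv⟩, fun r => ?_⟩
  by_cases hr : (r : H) ∈ B'
  · rw [h0, mem_bot] at hr
    exact ⟨0, Subtype.ext (by simp [hr])⟩
  · refine ⟨1, Subtype.ext ?_⟩
    have := hmul' v hv hvB r r.2 hr
    rw [h0, mem_bot] at this
    simp only [zpow_one]
    calc v = v * ((r : H) * r) := by rw [hsq' r r.2 hr, mul_one]
      _ = v * r * r := by group
      _ = (r : H) := by rw [this, one_mul]

omit [Finite G] in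
theorem inverts_of_out {S B : Subgroup G} (hle : B ≤ S) (hsq : ∀ s ∈ S, s ∉ B → s * s = 1)
    {v b : G} (hv : v ∈ S) (hvB : v ∉ B) (hb : b ∈ B) : v * b * v⁻¹ = b⁻¹ := by
  have h1 : b * v ∉ B := fun h => hvB (by simpa using mul_mem (inv_mem hb) h)
  have h2 := hsq _ (mul_mem (hle hb) hv) h1
  rw [inv_eq_of_mul_eq_one_right (hsq v hv hvB)]
  exact (inv_eq_of_mul_eq_one_right (by rw [← h2]; group)).symm

theorem eq_of_cyclic {B : Subgroup G} (hc : IsCyclic B) {a b : G} (ha : a ∈ B) (hb : b ∈ B)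
    (ha2 : orderOf a = 2) (hb2 : orderOf b = 2) : a = b := by
  haveI := hc
  rcases S0508.inv_unique (A := B) ha hb (by rw [← pow_two, ← ha2, pow_orderOf_eq_one])
      (by rw [← pow_two, ← hb2, pow_orderOf_eq_one]) (by rintro rfl; simp at hb2) with h | h
  · subst h; simp at ha2
  · exact h

/-- With dihedral Sylow subgroups, a four-group is self-centralizing among involutions. -/
theorem four_self_centralizing (hD : SylowDihedral G) {a b c : G} (ha : orderOf a = 2) (hb : orderOf b = 2)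
    (hc : orderOf c = 2) (hab : a ≠ b) (cab : Commute a b) (cac : Commute a c) (cbc : Commute b c) :
    c = a ∨ c = b ∨ c = a * b := by
  haveI : Fact (Nat.Prime 2) := ⟨Nat.prime_two⟩
  have sq : ∀ {x : G}, orderOf x = 2 → x * x = 1 := fun hx => by rw [← pow_two, ← hx, pow_orderOf_eq_one]
  have key : ∀ z ∈ closure ({a, b, c} : Set G), z * z = 1 ∧ Commute z a ∧ Commute z b ∧ Commute z c := by
    intro z hz
    induction hz using Subgroup.closure_induction with
    | mem x hx =>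
      rcases hx with rfl | rfl | rfl
      · exact ⟨sq ha, Commute.refl _, cab, cac⟩
      · exact ⟨sq hb, cab.symm, Commute.refl _, cbc⟩
      · exact ⟨sq hc, cac.symm, cbc.symm, Commute.refl _⟩
    | one => exact ⟨one_mul 1, Commute.one_left _, Commute.one_left _, Commute.one_left _⟩
    | mul x y hx _ ihx ihy =>
      refine ⟨?_, ihx.2.1.mul_left ihy.2.1, ihx.2.2.1.mul_left ihy.2.2.1, ihx.2.2.2.mul_left ihy.2.2.2⟩
      have hxy : Commute x y := by
        have : y ∈ centralizer ({x} : Set G) := by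
          refine (closure_le _).2 ?_ (by assumption)
          rintro w (rfl | rfl | rfl)
          · exact mem_centralizer_singleton_iff.2 ihx.2.1.eq.symm
          · exact mem_centralizer_singleton_iff.2 ihx.2.2.1.eq.symm
          · exact mem_centralizer_singleton_iff.2 ihx.2.2.2.eq.symm
        exact (mem_centralizer_singleton_iff.1 this).symm
      rw [← pow_two, hxy.mul_pow, pow_two, pow_two, ihx.1, ihy.1, one_mul]
    | inv x _ ih =>
      exact ⟨by rw [← mul_inv_rev, ih.1, inv_one], ih.2.1.inv_left, ih.2.2.1.inv_left, ih.2.2.2.inv_left⟩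
  have hp : IsPGroup 2 (closure ({a, b, c} : Set G)) := fun z =>
    ⟨1, Subtype.ext (by rw [pow_one, pow_two]; exact (key z z.2).1)⟩
  obtain ⟨S, hS⟩ := hp.exists_le_sylow
  obtain ⟨B, hBc, hBS, -, hsq, hmul, -⟩ := hD S
  have haS : a ∈ (S : Subgroup G) := hS (subset_closure (by simp))
  have hbS : b ∈ (S : Subgroup G) := hS (subset_closure (by simp))
  have hcS : c ∈ (S : Subgroup G) := hS (subset_closure (by simp))
  have habo : orderOf (a * b) = 2 := orderOf_eq_prime (by rw [cab.mul_pow, pow_two, pow_two, sq ha, sq hb, one_mul])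
    (fun h => hab (by rw [mul_eq_one_iff_eq_inv.1 h, inv_eq_of_mul_eq_one_right (sq hb)]))
  -- the involution of `B` among `a, b, a b`
  obtain ⟨z, hz, hzB, hz2⟩ : ∃ z, (z = a ∨ z = b ∨ z = a * b) ∧ z ∈ B ∧ orderOf z = 2 := by
    by_cases h1 : a ∈ B
    · exact ⟨a, Or.inl rfl, h1, ha⟩
    by_cases h2 : b ∈ B
    · exact ⟨b, Or.inr (Or.inl rfl), h2, hb⟩
    exact ⟨a * b, Or.inr (Or.inr rfl), hmul a haS h1 b hbS h2, habo⟩
  by_cases hcB : c ∈ B
  · rw [eq_of_cyclic hBc hcB hzB hc hz2]; exact hz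
  have hcd : ∀ d : G, orderOf d = 2 → d ∈ (S : Subgroup G) → d ∉ B → Commute c d → c = d ∨ c = z * d := by
    intro d hd hdS hdB hcd'
    by_cases h : c * d = 1
    · exact Or.inl (by rw [mul_eq_one_iff_eq_inv.1 h, inv_eq_of_mul_eq_one_right (sq hd)])
    · right
      have ho : orderOf (c * d) = 2 := orderOf_eq_prime
        (by rw [hcd'.mul_pow, pow_two, pow_two, sq hc, sq hd, one_mul]) h
      rw [← eq_of_cyclic hBc (hmul c hcS hcB d hdS hdB) hzB ho hz2, mul_assoc, sq hd, mul_one]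
  by_cases h1 : a ∈ B
  · have hb' : b ∉ B := fun h => hab (eq_of_cyclic hBc h1 h ha hb)
    rcases hcd b hb hbS hb' cbc.symm with h | h
    · exact Or.inr (Or.inl h)
    · exact Or.inr (Or.inr (by rw [h, eq_of_cyclic hBc hzB h1 hz2 ha]))
  · rcases hcd a ha haS h1 cac.symm with h | h
    · exact Or.inl h
    · by_cases h2 : b ∈ B
      · exact Or.inr (Or.inr (by rw [h, eq_of_cyclic hBc hzB h2 hz2 hb, cab.eq]))
      · refine Or.inr (Or.inl ?_)
        rw [h, eq_of_cyclic hBc hzB (hmul a haS h1 b hbS h2) hz2 habo, cab.eq, mul_assoc, sq ha, mul_one]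

/-- A group with dihedral Sylow subgroups has two commuting involutions. -/
theorem exists_four (hD : SylowDihedral G) :
    ∃ a b : G, orderOf a = 2 ∧ orderOf b = 2 ∧ a ≠ b ∧ Commute a b := by
  haveI : Fact (Nat.Prime 2) := ⟨Nat.prime_two⟩
  obtain ⟨S⟩ : Nonempty (Sylow 2 G) := inferInstance
  obtain ⟨B, -, hBS, ⟨v, hvS, hvB⟩, hsq, -, hB1⟩ := hD S
  have hd : 2 ∣ Nat.card B := by
    obtain ⟨k, hk⟩ := (S.isPGroup'.to_le hBS).exists_card_eq
    rw [hk] at hB1 ⊢
    exact dvd_pow_self 2 (fun h => by rw [h] at hB1; omega)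
  obtain ⟨⟨z, hzB⟩, hz⟩ := exists_prime_orderOf_dvd_card' 2 hd
  rw [Subgroup.orderOf_mk] at hz
  refine ⟨z, v, hz, orderOf_eq_prime (by rw [pow_two]; exact hsq v hvS hvB) (fun h => hvB (h ▸ one_mem B)),
    fun h => hvB (h ▸ hzB), ?_⟩
  have := inverts_of_out hBS hsq hvS hvB hzB
  rw [inv_eq_of_mul_eq_one_right (show z * z = 1 by rw [← pow_two, ← hz, pow_orderOf_eq_one]),
    mul_inv_eq_iff_eq_mul] at this
  exact this.symm

theorem isSimple_good (T : Subgroup G) [IsSimpleGroup T] (hna : ¬ IsMulCommutative T) : Good T := by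
  haveI : Fact (Nat.Prime 2) := ⟨Nat.prime_two⟩
  have hns : ¬ Group.IsSolvable T := fun hs => hna ⟨⟨fun a b => IsSimpleGroup.comm_iff_isSolvable.2 hs a b⟩⟩
  refine ⟨?_, ?_, fun P hP => ?_⟩
  · rcases (center T).normal_of_characteristic.eq_bot_or_eq_top with h | h
    · exact h
    · exact absurd ⟨⟨fun a b => (mem_center_iff.1 (h ▸ mem_top b : b ∈ center T) a)⟩⟩ hna
  · rcases (HallCore.pPrimeCore_normal 2 T).eq_bot_or_eq_top with h | h
    · exact h
    · refine absurd ?_ hns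
      refine S0205.result ?_
      have := ZStarTheorem.odd_card_pPrimeCore (G := T)
      rwa [h, card_top] at this
  · rcases hP.eq_bot_or_eq_top with h | h
    · refine hns (S0205.result ?_)
      rw [← Nat.not_even_iff_odd, even_iff_two_dvd]
      intro hd
      have := P.dvd_card_of_dvd_card hd
      rw [h, card_bot] at this
      omega
    · haveI := P.isPGroup'.isNilpotent
      haveI : Group.IsSolvable (⊤ : Subgroup T) := h ▸ (inferInstance : Group.IsSolvable (P : Subgroup T))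
      exact hns (Group.isSolvable_of_surjective (f := (topEquiv : (⊤ : Subgroup T) ≃* T).toMonoidHom)
        (topEquiv : (⊤ : Subgroup T) ≃* T).surjective)

theorem exists_simple_normal (hs : NoSolv G) [Nontrivial G] (hD : SylowDihedral G) :
    ∃ (M : Subgroup G) (_ : M.Normal), IsSimpleGroup M ∧ ¬ IsMulCommutative M ∧
      centralizer (M : Set G) = ⊥ := by
  obtain ⟨M, -, hM⟩ := MinNormalFactors.exists_isMNS_le (⊤ : Subgroup G) top_ne_bot
  haveI hMn := hM.normal
  have hab : ¬ IsMulCommutative M := fun h =>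
    hM.ne_bot (hs M hMn (Group.isSolvable_of_comm fun a b => h.is_comm.comm a b))
  obtain ⟨T, -, hT⟩ := MinNormalFactors.exists_isFactor_le M le_rfl hM.ne_bot le_normalizer
  have hTs := MinNormalFactors.isSimpleGroup hM hT
  have hTna : ¬ IsMulCommutative T := MinNormalFactors.not_abelian hM hab hT
  have hgT := isSimple_good T
  obtain ⟨a, b, ha, hb, hab', cab⟩ := exists_four (hD.to_subgroup T (hgT hTna))
  rw [← Subgroup.orderOf_coe] at ha hb
  have clash : ∀ c : G, orderOf c = 2 → (∀ x ∈ T, Commute x c) → c ∈ T := by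
    intro c hc hcT
    rcases four_self_centralizing hD ha hb hc (fun h => hab' (Subtype.ext h))
      (cab.map T.subtype) (hcT a a.2) (hcT b b.2) with h | h | h
    · exact h ▸ a.2
    · exact h ▸ b.2
    · exact h ▸ mul_mem a.2 b.2
  have hTM : T = M := by
    by_contra hne
    obtain ⟨g, hg⟩ : ∃ g : G, MinNormalFactors.conjSub g T ≠ T := by
      by_contra hcon
      push Not at hcon
      refine hne ((hM.min T ⟨fun x hx g => ?_⟩ hT.le).resolve_left hT.ne_bot)
      have := MinNormalFactors.conj_mem_conjSub (g := g) hx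
      rwa [hcon g] at this
    have hU := MinNormalFactors.IsFactor.conj hMn hT g
    obtain ⟨c, hc⟩ : ∃ c, c = g * (a : G) * g⁻¹ := ⟨_, rfl⟩
    have hcU : c ∈ MinNormalFactors.conjSub g T := hc ▸ MinNormalFactors.conj_mem_conjSub a.2
    have hcT := clash c (by rw [hc, orderOf_conj, ha]) fun x hx => hT.commute hU hg.symm hx hcU
    have : c ∈ T ⊓ MinNormalFactors.conjSub g T := ⟨hcT, hcU⟩
    rw [hT.inf_eq_bot hU hg.symm, mem_bot, hc] at this
    have h1 : orderOf (g * (a : G) * g⁻¹) = 1 := by rw [this, orderOf_one]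
    rw [orderOf_conj, ha] at h1
    exact absurd h1 (by norm_num)
  subst hTM
  refine ⟨T, hMn, hTs, hTna, ?_⟩
  by_contra hC
  haveI : (centralizer (T : Set G)).Normal := normal_centralizer
  obtain ⟨c, -, hc, -, -, -⟩ := exists_four (hD.to_subgroup _ (hs.good_of_normal _ hC))
  rw [← Subgroup.orderOf_coe] at hc
  have hcT := clash c hc fun x hx => (mem_centralizer_iff.1 c.2 x hx)
  have h1 : (⟨c, hcT⟩ : T) ∈ center T :=
    mem_center_iff.2 fun x => Subtype.ext (mem_centralizer_iff.1 c.2 x x.2)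
  rw [(hgT hTna).center_bot, mem_bot] at h1
  have h2 : (c : G) = 1 := congrArg Subtype.val h1
  rw [h2, orderOf_one] at hc
  exact absurd hc (by norm_num)

/-- A simple group with dihedral Sylow subgroups and the hypothesis is `PSL(2, F)`, `|F|` odd, `> 3`. -/
theorem simple_psl [IsSimpleGroup G] (hna : ¬ IsMulCommutative G) (hE : EC G) (hD : SylowDihedral G) :
    ∃ (F : Type) (_ : Field F) (_ : Fintype F), Odd (Fintype.card F) ∧ 3 < Fintype.card F ∧
      Nonempty (G ≃* Matrix.ProjectiveSpecialLinearGroup (Fin 2) F) := by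
  haveI : Fact (Nat.Prime 2) := ⟨Nat.prime_two⟩
  obtain ⟨S⟩ : Nonempty (Sylow 2 G) := inferInstance
  obtain ⟨B, hBc, hBS, ⟨v, hvS, hvB⟩, hsq, hmul, hB1⟩ := hD S
  have hd : 2 ∣ Nat.card B := by
    obtain ⟨k, hk⟩ := (S.isPGroup'.to_le hBS).exists_card_eq
    rw [hk] at hB1 ⊢
    exact dvd_pow_self 2 (fun h => by rw [h] at hB1; omega)
  obtain ⟨⟨t, htB⟩, ht⟩ := exists_prime_orderOf_dvd_card' 2 hd
  rw [Subgroup.orderOf_mk] at ht
  have htt : t * t = 1 := by rw [← pow_two, ← ht, pow_orderOf_eq_one]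
  have hinvs : ∀ s ∈ (S : Subgroup G), s ∉ B → ∀ b ∈ B, s * b * s⁻¹ = b⁻¹ :=
    fun s hs hsB b hb => inverts_of_out hBS hsq hs hsB hb
  have htZ : ∀ s ∈ (S : Subgroup G), s * t = t * s := by
    intro s hs
    by_cases hsB : s ∈ B
    · haveI := hBc
      exact congrArg Subtype.val (IsCyclic.commGroup.mul_comm (⟨s, hsB⟩ : B) ⟨t, htB⟩)
    · exact mul_inv_eq_iff_eq_mul.1 (by rw [hinvs s hs hsB t htB, inv_eq_of_mul_eq_one_right htt])
  -- the dihedral isomorphism
  obtain ⟨n, hn⟩ : ∃ n, n = Nat.card B := ⟨_, rfl⟩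
  haveI : NeZero n := ⟨by omega⟩
  have hiso : Nonempty ((S : Subgroup G) ≃* DihedralGroup n) := by
    haveI := hBc
    obtain ⟨⟨r, hrB⟩, hr⟩ := IsCyclic.exists_generator (α := B)
    have hBz : B = zpowers r := le_antisymm (fun x hx => by
      obtain ⟨i, hi⟩ := hr ⟨x, hx⟩
      exact ⟨i, congrArg Subtype.val hi⟩) (zpowers_le.2 hrB)
    have hvS' : (⟨v, hvS⟩ : (S : Subgroup G)) ∉ zpowers (⟨r, hBS hrB⟩ : (S : Subgroup G)) := by
      rintro ⟨i, hi⟩
      exact hvB (hBz ▸ ⟨i, congrArg Subtype.val hi⟩)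
    refine PGroupsCyclic.nonempty_mulEquiv_dihedral (x := ⟨r, hBS hrB⟩) ?_ hvS'
      (Subtype.ext (hinvs v hvS hvB r hrB)) (Subtype.ext (by rw [pow_two]; exact hsq v hvS hvB)) ?_
    · rw [Subgroup.orderOf_mk, hn, hBz, Nat.card_zpowers]
    · obtain ⟨Q, hQ⟩ : ∃ Q, Q = B.subgroupOf (S : Subgroup G) := ⟨_, rfl⟩
      have hQi : Q.index = 2 := by
        rw [index_eq_two_iff]
        refine ⟨⟨v, hvS⟩, fun b => ?_⟩
        simp only [hQ, mem_subgroupOf, Subgroup.coe_mul]
        by_cases hb : (b : G) ∈ B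
        · exact Or.inr ⟨hb, fun h => hvB (by simpa using mul_mem (inv_mem hb) h)⟩
        · exact Or.inl ⟨hmul _ b.2 hb v hvS hvB, hb⟩
      rw [← Q.card_mul_index, hQi, hQ, Nat.card_congr (subgroupOfEquivOfLe hBS).toEquiv, hn, mul_comm]
  obtain ⟨O, hO⟩ : ∃ O, O = (Cfsg.oddCore (centralizer ({t} : Set G))).map
      (centralizer ({t} : Set G)).subtype := ⟨_, rfl⟩
  have hle : (S : Subgroup G) ≤ cen t := fun s hs => mem_cen.2 (htZ s hs)
  have hOmem : ∀ a, a ∈ O ↔ a ∈ oddPart hE ht := by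
    intro a
    rw [hO]
    constructor
    · rintro ⟨c, hc, rfl⟩
      refine ⟨c.2, ?_⟩
      change Odd (orderOf (c : G))
      rw [Subgroup.orderOf_coe]
      exact (ZStarTheorem.odd_card_pPrimeCore (G := centralizer ({t} : Set G))).of_dvd_nat
        (orderOf_dvd_natCard _ hc)
    · intro ha
      haveI : ((oddPart hE ht).subgroupOf (centralizer ({t} : Set G))).Normal := ⟨fun x hx y => by
        rw [mem_subgroupOf] at hx ⊢
        exact oddPart_conj hE ht y.2 hx⟩
      refine ⟨⟨a, ha.1⟩, HallCore.le_pPrimeCore ?_ (mem_subgroupOf.2 ha), rfl⟩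
      rw [Nat.card_congr (subgroupOfEquivOfLe (oddPart_le hE ht)).toEquiv, Nat.coprime_two_right]
      exact odd_card_oddPart hE ht
  -- an involution outside `B` does not centralize `O`
  have key : ∀ a ∈ O, a ≠ 1 → ∀ s ∈ (S : Subgroup G), s ∉ B → ¬ ∀ x ∈ O, Commute x s := by
    intro a haO ha1 s hs hsB hcs
    have ha := (hOmem a).1 haO
    have hso : orderOf s = 2 :=
      orderOf_eq_prime (by rw [pow_two]; exact hsq s hs hsB) (fun h => hsB (h ▸ one_mem B))
    have hcc := cen_eq_cen hE ht hso ha.1 (mem_cen.2 (hcs a haO)) ha.2 ha1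
    have hScs : ∀ w ∈ (S : Subgroup G), Commute w s := fun w hw => mem_cen.1 (hcc ▸ hle hw : w ∈ cen s)
    -- `B` has exponent two, so `S` is a four-group centralizing `O`
    have hB2 : ∀ b ∈ B, b = 1 ∨ b = t := by
      intro b hb
      by_cases hb1 : b = 1
      · exact Or.inl hb1
      · right
        have := hinvs s hs hsB b hb
        rw [(hScs b (hBS hb)).symm.eq, mul_inv_cancel_right] at this
        exact eq_of_cyclic hBc hb htB (orderOf_eq_prime (by rw [pow_two, mul_eq_one_iff_eq_inv]; exact this) hb1) ht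
    have hall : ∀ w ∈ (S : Subgroup G), ∀ x ∈ O, Commute x w := by
      intro w hw x hx
      have hxt : Commute x t := mem_cen.1 ((hOmem x).1 hx).1
      by_cases hwB : w ∈ B
      · rcases hB2 w hwB with rfl | rfl
        · exact Commute.one_right x
        · exact hxt
      · rcases hB2 _ (hmul w hw hwB s hs hsB) with h | h
        · rw [mul_eq_one_iff_eq_inv.1 h]; exact (hcs x hx).inv_right
        · rw [show w = t * s⁻¹ by rw [← h, mul_inv_cancel_right]]; exact hxt.mul_right (hcs x hx).inv_right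
    have hSab : ∀ w ∈ (S : Subgroup G), ∀ w' ∈ (S : Subgroup G), w * w' = w' * w := by
      intro w hw w' hw'
      have hsq' : ∀ w ∈ (S : Subgroup G), w * w = 1 := by
        intro w hw
        by_cases hwB : w ∈ B
        · rcases hB2 w hwB with rfl | rfl
          · exact one_mul 1
          · exact htt
        · exact hsq w hw hwB
      have h := hsq' _ (mul_mem hw hw')
      calc w * w' = (w * w')⁻¹ := (inv_eq_of_mul_eq_one_right h).symm
        _ = _ := by
          rw [mul_inv_rev, inv_eq_of_mul_eq_one_right (hsq' w hw), inv_eq_of_mul_eq_one_right (hsq' w' hw')]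
    have habel : ∀ u : G, orderOf u = 2 → ∀ x ∈ cen u, ∀ y ∈ cen u, x * y = y * x := by
      intro u hu
      obtain ⟨g, hg⟩ := exists_conj_mem S hu
      have hu' : orderOf (g * u * g⁻¹) = 2 := by rw [orderOf_conj, hu]
      have hcu : cen (g * u * g⁻¹) = cen t :=
        cen_eq_cen hE ht hu' ha.1 (mem_cen.2 (hall _ hg a haO)) ha.2 ha1
      intro x hx y hy
      have hx' : g * x * g⁻¹ ∈ cen t := hcu ▸ mem_cen_conj (n := g) hx
      have hy' : g * y * g⁻¹ ∈ cen t := hcu ▸ mem_cen_conj (n := g) hy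
      obtain ⟨a₁, ha₁, a₂, ha₂, e₁⟩ := exists_odd_mul hE ht S hle hx'
      obtain ⟨b₁, hb₁, b₂, hb₂, e₂⟩ := exists_odd_mul hE ht S hle hy'
      have c1 : Commute a₁ b₁ := oddPart_comm hE ht ha₁ hb₁
      have c2 : Commute a₁ b₂ := hall b₂ hb₂ a₁ ((hOmem _).2 ha₁)
      have c3 : Commute a₂ b₁ := (hall a₂ ha₂ b₁ ((hOmem _).2 hb₁)).symm
      have c4 : Commute a₂ b₂ := hSab a₂ ha₂ b₂ hb₂
      have hc := ((c1.mul_right c2).mul_left (c3.mul_right c4)).eq
      rw [← e₁, ← e₂] at hc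
      calc x * y = g⁻¹ * (g * x * g⁻¹ * (g * y * g⁻¹)) * g := by group
        _ = g⁻¹ * (g * y * g⁻¹ * (g * x * g⁻¹)) * g := by rw [hc]
        _ = y * x := by group
    have hgood : Good (⊤ : Subgroup G) := by
      haveI : IsSimpleGroup (⊤ : Subgroup G) := IsSimpleGroup.isSimpleGroup_of_surjective
        (topEquiv.symm : G ≃* (⊤ : Subgroup G)).toMonoidHom (topEquiv.symm : G ≃* (⊤ : Subgroup G)).surjective
      exact isSimple_good ⊤ fun h => hna ⟨⟨fun x y => congrArg Subtype.val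
        (h.is_comm.comm (⟨x, mem_top x⟩ : (⊤ : Subgroup G)) ⟨y, mem_top y⟩)⟩⟩
    obtain ⟨F, _, _, hF, -, ⟨e⟩⟩ := out_of_abelian hgood (fun u hu x hx y hy => Subtype.ext (by
      rw [Subgroup.coe_mul, Subgroup.coe_mul]
      refine habel u ?_ x ?_ y ?_
      · rw [Subgroup.orderOf_coe, hu]
      · exact mem_cen.2 ((mem_cen.1 hx).map (⊤ : Subgroup G).subtype)
      · exact mem_cen.2 ((mem_cen.1 hy).map (⊤ : Subgroup G).subtype)))
    haveI := hF
    refine ha1 ?_
    have h1 := sl2_odd (g := (topEquiv.symm.trans e) a) (t := (topEquiv.symm.trans e) t)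
      (by rw [MulEquiv.orderOf_eq]; exact ha.2) (by rw [← map_mul, htt, map_one])
      (by rw [ne_eq, MulEquiv.map_eq_one_iff]; rintro rfl; simp at ht)
      ((mem_cen.1 ha.1).map (topEquiv.symm.trans e).toMonoidHom)
    rwa [MulEquiv.map_eq_one_iff] at h1
  have hinvO : ∀ a ∈ O, a ≠ 1 → ∀ s ∈ (S : Subgroup G), s ∉ B → ∀ x ∈ O, s * x * s⁻¹ = x⁻¹ := by
    intro a haO ha1 s hs hsB x hx
    have hso : orderOf s = 2 :=
      orderOf_eq_prime (by rw [pow_two]; exact hsq s hs hsB) (fun h => hsB (h ▸ one_mem B))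
    rcases fix_or_invert hE ht hso (hle hs) with h | h
    · exact absurd (fun x hx => h x ((hOmem x).1 hx)) (key a haO ha1 s hs hsB)
    · exact h x ((hOmem x).1 hx)
  have hR : ∀ a ∈ O, a ≠ 1 → (S : Subgroup G) ⊓ centralizer (O : Set G) = B := by
    intro a haO ha1
    refine le_antisymm (fun s hs => ?_) (fun b hb => ⟨hBS hb, mem_centralizer_iff.2 fun x hx => ?_⟩)
    · by_contra hsB
      exact key a haO ha1 s hs.1 hsB fun x hx => mem_centralizer_iff.1 hs.2 x hx
    · have hvb : v * b ∉ B := fun h => hvB (by simpa using mul_mem h (inv_mem hb))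
      have h1 := hinvO a haO ha1 (v * b) (mul_mem hvS (hBS hb)) hvb x hx
      have h2 := hinvO a haO ha1 v hvS hvB x hx
      have h3 : b * x * b⁻¹ = x := by
        calc b * x * b⁻¹ = v⁻¹ * ((v * b) * x * (v * b)⁻¹) * v := by group
          _ = v⁻¹ * (v * x * v⁻¹) * v := by rw [h1, h2]
          _ = x := by group
      exact (mul_inv_eq_iff_eq_mul.1 h3).symm
  have hrel : B.relIndex (S : Subgroup G) = 2 := by
    rw [relIndex, index_eq_two_iff]
    refine ⟨⟨v, hvS⟩, fun b => ?_⟩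
    simp only [mem_subgroupOf, Subgroup.coe_mul]
    by_cases hb : (b : G) ∈ B
    · exact Or.inr ⟨hb, fun h => hvB (by simpa using mul_mem (inv_mem hb) h)⟩
    · exact Or.inl ⟨hmul _ b.2 hb v hvS hvB, hb⟩
  have ha' : O ≠ ⊥ → IsCyclic ((S : Subgroup G) ⊓ centralizer (O : Set G) : Subgroup G) ∧
      ((S : Subgroup G) ⊓ centralizer (O : Set G)).relIndex (S : Subgroup G) = 2 := by
    intro hO1
    obtain ⟨a, haO, ha1⟩ := (Subgroup.ne_bot_iff_exists_ne_one.1 hO1) |> fun ⟨⟨a, ha⟩, h⟩ =>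
      (⟨a, ha, fun h' => h (Subtype.ext h')⟩ : ∃ a ∈ O, a ≠ 1)
    rw [hR a haO ha1]
    exact ⟨hBc, hrel⟩
  have hb' : ∀ s ∈ (S : Subgroup G), s ∉ centralizer (O : Set G) → ∀ y ∈ O, s * y * s⁻¹ = y⁻¹ := by
    intro s hs hsO x hx
    obtain ⟨a, haO, ha1⟩ : ∃ a ∈ O, a ≠ 1 := by
      by_contra hcon
      push Not at hcon
      exact hsO (mem_centralizer_iff.2 fun y hy => by rw [hcon y hy, one_mul, mul_one])
    refine hinvO a haO ha1 s hs (fun h => hsO ?_) x hx
    rw [← hR a haO ha1] at h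
    exact h.2
  have hc' : ∀ Y : Subgroup G, Y ≤ O → Y ≠ ⊥ → normalizer (Y : Set G) ≤ centralizer ({t} : Set G) := by
    intro Y hYO hY1 g hg
    obtain ⟨⟨a, haY⟩, ha1'⟩ := Subgroup.ne_bot_iff_exists_ne_one.1 hY1
    have ha1 : a ≠ 1 := fun h => ha1' (Subtype.ext h)
    have ha := (hOmem a).1 (hYO haY)
    have h1 := (hOmem _).1 (hYO (conj_mem_of_le_normalizer' hg haY))
    obtain ⟨t', ht'⟩ : ∃ t', t' = g⁻¹ * t * g := ⟨_, rfl⟩
    have ht'o : orderOf t' = 2 := by
      rw [ht', show g⁻¹ * t * g = g⁻¹ * t * g⁻¹⁻¹ by rw [inv_inv], orderOf_conj, ht]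
    have hat' : a ∈ cen t' := by
      have := mem_cen_conj (n := g⁻¹) h1.1
      rwa [inv_inv, show g⁻¹ * (g * a * g⁻¹) * g = a by group, ← ht'] at this
    have hcc := cen_eq_cen hE ht ht'o ha.1 hat' ha.2 ha1
    have ht'c : t' ∈ cen t := hcc ▸ self_mem_cen t'
    obtain ⟨a₁, ha₁, s, hs, e⟩ := exists_odd_mul hE ht S hle ht'c
    have hts : Commute t' s⁻¹ := ((mem_cen.1 (hcc ▸ hle hs : s ∈ cen t')).symm).inv_right
    have ha₁1 : a₁ = 1 := by
      obtain ⟨k, hk⟩ := S.isPGroup' ⟨s, hs⟩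
      have hk' : s ^ 2 ^ k = 1 := congrArg Subtype.val hk
      have hpow : a₁ ^ 2 ^ (k + 1) = 1 := by
        rw [show a₁ = t' * s⁻¹ by rw [e, mul_inv_cancel_right], hts.mul_pow, inv_pow, pow_succ, pow_mul s, hk',
          one_pow, inv_one, mul_one, mul_comm, pow_mul, pow_two,
          show t' * t' = 1 by rw [← pow_two, ← ht'o, pow_orderOf_eq_one], one_pow]
      exact orderOf_eq_one_iff.1 (Nat.eq_one_of_dvd_coprimes
        (Nat.Coprime.pow_right _ (Nat.coprime_two_right.2 ha₁.2)) dvd_rfl (orderOf_dvd_of_pow_eq_one hpow))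
    have ht'S : t' ∈ (S : Subgroup G) := by rw [e, ha₁1, one_mul]; exact hs
    have ht'R : t' ∈ (S : Subgroup G) ⊓ centralizer (O : Set G) := ⟨ht'S, mem_centralizer_iff.2 fun x hx =>
      mem_cen.1 (hcc ▸ ((hOmem x).1 hx).1 : x ∈ cen t')⟩
    rw [hR a (hYO haY) ha1] at ht'R
    have heq := eq_of_cyclic hBc ht'R htB ht'o ht
    refine mem_cen.2 ?_
    calc g * t = g * (g⁻¹ * t * g) := by rw [← ht', heq]
      _ = t * g := by group
  obtain ⟨F, _, _, hodd, ⟨e⟩⟩ := S0508.result S n (by omega) hiso t ht (hBS htB) htZ O hO ha' hb' hc'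
  refine ⟨F, inferInstance, inferInstance, hodd, ?_, ⟨e⟩⟩
  by_contra h3
  have hq : Fintype.card F = 3 := by
    have := Fintype.one_lt_card (α := F)
    obtain ⟨k, hk⟩ := hodd
    omega
  have hcard : Nat.card G = 12 := by
    rw [Nat.card_congr e.toEquiv, PSLCard.card_PSL2_odd (by rw [Nat.card_eq_fintype_card]; exact hodd),
      Nat.card_eq_fintype_card, hq]
    rfl
  obtain ⟨k, hk⟩ := S.isPGroup'.exists_card_eq
  have h4 : 2 ^ 2 ∣ Nat.card (S : Subgroup G) := S.pow_dvd_card_of_pow_dvd_card (by rw [hcard]; norm_num)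
  have h12 : Nat.card (S : Subgroup G) ∣ 12 := hcard ▸ (S : Subgroup G).card_subgroup_dvd_card
  have hS4 : Nat.card (S : Subgroup G) = 4 := by
    rw [hk] at h4 h12 ⊢
    have h2 : 2 ≤ k := (Nat.pow_dvd_pow_iff_le_right (by norm_num)).1 h4
    have h3 : k < 3 := by
      by_contra h
      exact absurd ((pow_dvd_pow 2 (not_lt.1 h)).trans h12) (by norm_num)
    rw [show k = 2 by omega]; rfl
  have hidx : (S : Subgroup G).index = 3 := by
    have := (S : Subgroup G).card_mul_index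
    rw [hS4, hcard] at this; omega
  have hcore := (S : Subgroup G).normalCore_le
  rcases (normalCore_normal (S : Subgroup G)).eq_bot_or_eq_top with h | h
  · have h6 : Nat.card G ≤ Nat.card (Equiv.Perm (G ⧸ (S : Subgroup G))) := by
      refine Nat.card_le_card_of_injective (MulAction.toPermHom G (G ⧸ (S : Subgroup G))) ?_
      rwa [← MonoidHom.ker_eq_bot_iff, ← normalCore_eq_ker]
    rw [Nat.card_perm, ← index_eq_card, hidx, hcard] at h6
    exact absurd h6 (by decide)
  · rw [h, top_le_iff] at hcore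
    rw [hcore, card_top, hcard] at hS4
    exact absurd hS4 (by norm_num)
where
  conj_mem_of_le_normalizer' {Y : Subgroup G} {g a : G} (hg : g ∈ normalizer (Y : Set G)) (ha : a ∈ Y) :
      g * a * g⁻¹ ∈ Y := (mem_normalizer_iff.1 hg a).1 ha

end Cfsg.Agent.EvenCyclic27
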