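import Cfsg.Agent.Lib.EvenCyclicBasic27
import Cfsg.Prelude.Def_TwoFusion

/-!
The Sylow 2-subgroups of a group in which nontrivial subgroups of cyclic groups of even order have the
same normalizers (for S3730): elementary abelian, abelian with two "big" involutions, or generalized dihedral.
-/

set_option autoImplicit false
set_option linter.style.haveILetI false

namespace Cfsg.Agent.EvenCyclic27

open Subgroup

variable {G : Type*} [Group G]

/-- Of order `2 ^ (k + 2)`. -/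
def Big (x : G) : Prop := ∃ k : ℕ, orderOf x = 2 ^ (k + 2)

/-- The involution in `⟨x⟩`. -/
noncomputable def inv2 (x : G) : G := x ^ (orderOf x / 2)

theorem Big.mul_self_ne {x : G} (h : Big x) : x * x ≠ 1 := by
  obtain ⟨k, hk⟩ := h
  intro h2
  have := orderOf_dvd_of_pow_eq_one (show x ^ 2 = 1 by rw [pow_two, h2])
  rw [hk] at this
  have h4 : 4 ≤ 2 ^ (k + 2) := by
    calc 4 = 2 ^ 2 := by norm_num
      _ ≤ _ := Nat.pow_le_pow_right (by norm_num) (by omega)
  have := Nat.le_of_dvd (by norm_num) this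
  omega

theorem Big.conj {x : G} (h : Big x) (g : G) : Big (g * x * g⁻¹) := by
  obtain ⟨k, hk⟩ := h
  exact ⟨k, by rw [orderOf_conj, hk]⟩

theorem inv2_conj (g x : G) : inv2 (g * x * g⁻¹) = g * inv2 x * g⁻¹ := by
  rw [inv2, inv2, orderOf_conj, conj_pow]

theorem inv2_eq {x : G} {k : ℕ} (hk : orderOf x = 2 ^ (k + 2)) : inv2 x = x ^ 2 ^ (k + 1) := by
  rw [inv2, hk]
  congr 1
  rw [pow_succ' 2 (k + 1), Nat.mul_div_cancel_left _ (by norm_num : 0 < 2)]

theorem orderOf_inv2 {x : G} (h : Big x) : orderOf (inv2 x) = 2 := by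
  obtain ⟨k, hk⟩ := h
  rw [inv2_eq hk, orderOf_pow' x (pow_ne_zero _ two_ne_zero), hk,
    Nat.gcd_eq_right (pow_dvd_pow 2 (by omega)), Nat.pow_div (by omega) two_pos,
    show k + 2 - (k + 1) = 1 by omega, pow_one]

theorem inv2_mem (x : G) : inv2 x ∈ zpowers x := pow_mem (mem_zpowers x) _

theorem norm_big (hE : EC G) {x : G} (h : Big x) :
    normalizer (zpowers x : Set G) = cen (inv2 x) := by
  obtain ⟨k, hk⟩ := h
  rw [inv2_eq hk]
  exact (norm_two hE hk).1

/-- A nontrivial element of `⟨x⟩` generates the involution of `⟨x⟩`. -/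
theorem inv2_mem_of_mem {x z : G} (h : Big x) (hz : z ∈ zpowers x) (hz1 : z ≠ 1) :
    inv2 x ∈ zpowers z := by
  obtain ⟨k, hk⟩ := h
  obtain ⟨i, hi⟩ : ∃ i : ℕ, z = x ^ i := by
    have hfin : IsOfFinOrder x := orderOf_pos_iff.1 (by rw [hk]; positivity)
    obtain ⟨i, hi⟩ := hfin.mem_powers_iff_mem_zpowers.2 hz
    exact ⟨i, hi.symm⟩
  subst hi
  have hi0 : i ≠ 0 := by rintro rfl; simp at hz1
  obtain ⟨j, m, hm, hij⟩ := Nat.exists_eq_two_pow_mul_odd hi0
  have hj : j < k + 2 := by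
    by_contra hj
    apply hz1
    rw [← orderOf_dvd_iff_pow_eq_one, hk, hij]
    exact (pow_dvd_pow 2 (not_lt.1 hj)).mul_right m
  obtain ⟨r, hr⟩ := hm
  have e : (x ^ i) ^ 2 ^ (k + 1 - j) = inv2 x := by
    have e1 : i * 2 ^ (k + 1 - j) = 2 ^ (k + 2) * r + 2 ^ (k + 1) := by
      rw [hij, hr, mul_right_comm, ← pow_add, Nat.add_sub_cancel' (by omega)]; ring
    rw [← pow_mul, e1, pow_add, pow_mul, ← hk, pow_orderOf_eq_one, one_pow, one_mul, inv2_eq hk]
  rw [← e]
  exact pow_mem (mem_zpowers _) _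

theorem eq_inv2 {x z : G} (h : Big x) (hz : z ∈ zpowers x) (ho : orderOf z = 2) : z = inv2 x := by
  have hz1 : z ≠ 1 := by rintro rfl; simp at ho
  obtain ⟨i, hi⟩ := inv2_mem_of_mem h hz hz1
  have h2 := orderOf_inv2 h
  rcases Int.even_or_odd' i with ⟨m, rfl | rfl⟩
  · exfalso
    simp only [zpow_mul] at hi
    rw [show z ^ (2 : ℤ) = 1 by rw [zpow_two, ← pow_two, ← ho, pow_orderOf_eq_one], one_zpow] at hi
    rw [← hi, orderOf_one] at h2
    exact absurd h2 (by norm_num)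
  · simp only [zpow_add_one, zpow_mul] at hi
    rw [show z ^ (2 : ℤ) = 1 by rw [zpow_two, ← pow_two, ← ho, pow_orderOf_eq_one], one_zpow,
      one_mul] at hi
    exact hi

/-- Cyclic groups with different involutions meet trivially. -/
theorem disjoint_big {x y z : G} (hx : Big x) (hy : Big y) (hne : inv2 x ≠ inv2 y)
    (h1 : z ∈ zpowers x) (h2 : z ∈ zpowers y) : z = 1 := by
  by_contra hz
  exact hne (eq_inv2 hy (zpowers_le.2 h2 (inv2_mem_of_mem hx h1 hz)) (orderOf_inv2 hx))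

variable [Finite G]

theorem sq_or_big (S : Sylow 2 G) {x : G} (hx : x ∈ (S : Subgroup G)) : x * x = 1 ∨ Big x := by
  haveI : Fact (Nat.Prime 2) := ⟨Nat.prime_two⟩
  obtain ⟨k, hk⟩ := IsPGroup.iff_orderOf.1 S.isPGroup' ⟨x, hx⟩
  rw [Subgroup.orderOf_mk] at hk
  rcases Nat.lt_or_ge k 2 with h | h
  · left
    rw [← pow_two, ← orderOf_dvd_iff_pow_eq_one, hk]
    calc 2 ^ k ∣ 2 ^ 1 := pow_dvd_pow 2 (by omega)
      _ = 2 := pow_one 2
  · exact Or.inr ⟨k - 2, by rw [hk]; congr 1; omega⟩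

theorem exists_outside {S : Sylow 2 G} {T : Subgroup G} (hT : T ≤ (S : Subgroup G))
    (hne : T ≠ (S : Subgroup G)) :
    ∃ g ∈ (S : Subgroup G), g ∉ T ∧ g * g ∈ T ∧ ∀ z ∈ T, g * z * g⁻¹ ∈ T := by
  haveI : Fact (Nat.Prime 2) := ⟨Nat.prime_two⟩
  haveI := S.isPGroup'.isNilpotent
  have hnc := Group.normalizerCondition_of_isNilpotent (G := (S : Subgroup G))
  have hlt : T.subgroupOf (S : Subgroup G) < ⊤ := by
    rw [lt_top_iff_ne_top, ne_eq, subgroupOf_eq_top]
    exact fun h => hne (le_antisymm hT h)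
  obtain ⟨g, hg, hgT⟩ := SetLike.exists_of_lt (hnc _ hlt)
  -- square `g` until it lands in `T`
  obtain ⟨k, hk⟩ := IsPGroup.iff_orderOf.1 S.isPGroup' g
  have hex : ∃ j, g ^ 2 ^ j ∈ T.subgroupOf (S : Subgroup G) :=
    ⟨k, by rw [← hk, pow_orderOf_eq_one]; exact one_mem _⟩
  classical
  obtain ⟨j, hj⟩ : ∃ j, j + 1 = Nat.find hex := by
    refine ⟨Nat.find hex - 1, ?_⟩
    have : Nat.find hex ≠ 0 := fun h0 => hgT (by simpa [h0] using Nat.find_spec hex)
    omega
  refine ⟨((g ^ 2 ^ j : (S : Subgroup G)) : G), (g ^ 2 ^ j).2, fun h => ?_, ?_, fun z hz => ?_⟩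
  · exact Nat.find_min hex (show j < Nat.find hex by omega) h
  · have := Nat.find_spec hex
    rw [← hj, pow_succ, pow_mul, pow_two] at this
    exact this
  · have := (mem_normalizer_iff.1 (pow_mem hg (2 ^ j)) ⟨z, hT hz⟩).1 hz
    simpa [mem_subgroupOf] using this

/-- The involution of a cyclic subgroup of order at least `4` of `S` is central in `S`. -/
theorem inv2_central (hE : EC G) (S : Sylow 2 G) {x₀ : G} (hx₀ : x₀ ∈ (S : Subgroup G)) (hB : Big x₀) :
    ∀ s ∈ (S : Subgroup G), Commute (inv2 x₀) s := by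
  by_contra hcon
  push Not at hcon
  obtain ⟨s₁, hs₁, hns⟩ := hcon
  obtain ⟨k₀, hk₀⟩ := hB
  obtain ⟨x, hx⟩ : ∃ x, x = x₀ ^ 2 ^ k₀ := ⟨_, rfl⟩
  obtain ⟨u, hu⟩ : ∃ u, u = inv2 x₀ := ⟨_, rfl⟩
  have hxo : orderOf x = 2 ^ (0 + 2) := by
    rw [hx, orderOf_pow' x₀ (pow_ne_zero _ two_ne_zero), hk₀, Nat.gcd_eq_right (pow_dvd_pow 2 (by omega)),
      Nat.pow_div (by omega) two_pos]
    congr 1; omega
  have hxB : Big x := ⟨0, hxo⟩
  have hxS : x ∈ (S : Subgroup G) := hx ▸ pow_mem hx₀ _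
  have hxu : inv2 x = u := by
    rw [hu, inv2_eq hxo, inv2_eq hk₀, hx, ← pow_mul, ← pow_add]
  have hu2 : orderOf u = 2 := hxu ▸ orderOf_inv2 hxB
  have hxx : x * x = u := by
    rw [← hxu, inv2_eq hxo, show 2 ^ (0 + 1) = 2 by norm_num, pow_two]
  obtain ⟨T, hT⟩ : ∃ T, T = (S : Subgroup G) ⊓ cen u := ⟨_, rfl⟩
  have hne : T ≠ (S : Subgroup G) := by
    intro h
    have h2 : s₁ ∈ (S : Subgroup G) ⊓ cen u := by rw [← hT, h]; exact hs₁
    exact hns (hu ▸ (mem_cen.1 h2.2).symm)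
  obtain ⟨g, hgS, hgT, hg2, hgn⟩ := exists_outside (hT ▸ inf_le_left) hne
  have hxT : x ∈ T := by
    rw [hT]
    exact ⟨hxS, mem_cen.2 (hxx ▸ (Commute.refl x).mul_right (Commute.refl x))⟩
  have huT : u ∈ T := hxx ▸ mul_mem hxT hxT
  obtain ⟨y, hy⟩ : ∃ y, y = g * x * g⁻¹ := ⟨_, rfl⟩
  obtain ⟨u', hu'⟩ : ∃ u', u' = g * u * g⁻¹ := ⟨_, rfl⟩
  have hyT : y ∈ T := hy ▸ hgn x hxT
  have hu'T : u' ∈ T := hu' ▸ hgn u huT
  have hu'ne : u' ≠ u := by
    intro h
    apply hgT
    rw [hT]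
    refine ⟨hgS, mem_cen.2 ?_⟩
    calc g * u = (g * u * g⁻¹) * g := by group
      _ = u * g := by rw [← hu', h]
  have hyu : inv2 y = u' := by rw [hy, inv2_conj, hxu, hu']
  have hyB : Big y := hy ▸ hxB.conj g
  have hyy : y * y = u' := by
    rw [hy, hu', ← hxx]; group
  have hTc : ∀ z ∈ T, Commute z u := fun z hz => mem_cen.1 (hT ▸ hz : z ∈ (S : Subgroup G) ⊓ cen u).2
  have hxu' : Commute x u' := by
    -- `g⁻¹ x g ∈ T` because `g² ∈ T`
    have h1 : g⁻¹ * x * g ∈ T := by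
      have := hgn _ (mul_mem (mul_mem (inv_mem hg2) hxT) hg2)
      convert this using 1
      group
    have h2 := hTc _ h1
    calc x * u' = g * ((g⁻¹ * x * g) * u) * g⁻¹ := by rw [hu']; group
      _ = g * (u * (g⁻¹ * x * g)) * g⁻¹ := by rw [h2.eq]
      _ = u' * x := by rw [hu']; group
  -- `x` and `y` normalize each other
  have hxy : Commute x y := by
    have h1 : x * y * x⁻¹ ∈ zpowers y :=
      conj_mem_zpowers (by rw [norm_big hE hyB, hyu]; exact mem_cen.2 hxu')
    have h2 : y * x * y⁻¹ ∈ zpowers x :=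
      conj_mem_zpowers (by rw [norm_big hE hxB, hxu]; exact mem_cen.2 (hTc y hyT))
    have h3 : x * y * x⁻¹ * y⁻¹ = 1 := by
      refine disjoint_big hxB hyB (by rw [hxu, hyu]; exact hu'ne.symm) ?_
        (mul_mem h1 (inv_mem (mem_zpowers y)))
      rw [show x * y * x⁻¹ * y⁻¹ = x * (y * x * y⁻¹)⁻¹ by group]
      exact mul_mem (mem_zpowers x) (inv_mem h2)
    rwa [mul_inv_eq_one, mul_inv_eq_iff_eq_mul] at h3
  -- `g² ` conjugates `x` into `x^{±1}`
  have hg2x : g * y * g⁻¹ ∈ zpowers x := by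
    have h1 : (g * g) * x * (g * g)⁻¹ ∈ zpowers x :=
      conj_mem_zpowers (by rw [norm_big hE hxB, hxu]; exact mem_cen.2 (hTc _ hg2))
    rw [hy]
    convert h1 using 1
    group
  have key : ∀ h : G, h ∈ (S : Subgroup G) → h * h ∈ T → h * x * h⁻¹ = y →
      h * u * h⁻¹ = u' → Big h → False := by
    intro h hhS hh2 hhx hhu hhB
    obtain ⟨v, hv⟩ : ∃ v, v = inv2 h := ⟨_, rfl⟩
    have hvT : v ∈ T := by
      obtain ⟨k, hk⟩ := hhB
      rw [hv, inv2_eq hk, pow_succ', pow_mul, pow_two]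
      exact pow_mem hh2 _
    have huv : u ∈ normalizer (zpowers h : Set G) := by
      rw [norm_big hE hhB, ← hv]; exact mem_cen.2 (hTc v hvT).symm
    -- `u u' ∈ ⟨h⟩`
    have h1 : u * u' ∈ zpowers h := by
      have h0 := mul_mem (conj_mem_zpowers huv) (inv_mem (mem_zpowers h))
      have e : u * h * u⁻¹ * h⁻¹ = u * u' := by
        rw [← hhu, inv_eq_of_mul_eq_one_right (show u * u = 1 by rw [← pow_two, ← hu2, pow_orderOf_eq_one])]
        group
      rwa [e] at h0
    have huu : orderOf (u * u') = 2 := by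
      refine orderOf_eq_prime ?_ ?_
      · rw [(show Commute u u' from (hTc u' hu'T).symm).mul_pow, ← hu2, pow_orderOf_eq_one, one_mul,
          show u' ^ orderOf u = 1 by rw [hu', conj_pow, pow_orderOf_eq_one]; group]
      · intro h0
        apply hu'ne
        rw [mul_eq_one_iff_eq_inv] at h0
        rw [← inv_inv u', ← h0]
        exact inv_eq_of_mul_eq_one_right (by rw [← pow_two, ← hu2, pow_orderOf_eq_one])
    have hxv : x ∈ normalizer (zpowers h : Set G) := by
      rw [norm_big hE hhB, ← eq_inv2 hhB h1 huu]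
      exact mem_cen.2 ((hTc x hxT).mul_right hxu')
    have h2 : x * y⁻¹ ∈ zpowers h := by
      have h0 := mul_mem (conj_mem_zpowers hxv) (inv_mem (mem_zpowers h))
      rw [← hhx]
      convert h0 using 1
      group
    obtain ⟨i, hi⟩ := h2
    have hi' : Commute h (x * y⁻¹) := hi ▸ (Commute.refl h).zpow_right i
    -- conjugating: `y (h y h⁻¹)⁻¹ = x y⁻¹`
    have hhy : h * y * h⁻¹ ∈ zpowers x := by
      have h1 : (h * h) * x * (h * h)⁻¹ ∈ zpowers x :=
        conj_mem_zpowers (by rw [norm_big hE hxB, hxu]; exact mem_cen.2 (hTc _ hh2))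
      rw [← hhx]
      convert h1 using 1
      group
    have h3 : y * (h * y * h⁻¹)⁻¹ = x * y⁻¹ := by
      calc y * (h * y * h⁻¹)⁻¹ = h * (x * y⁻¹) * h⁻¹ := by rw [← hhx]; group
        _ = x * y⁻¹ := by rw [hi'.eq, mul_inv_cancel_right]
    have h4 : y * y ∈ zpowers x := by
      have e : y * y = x * (h * y * h⁻¹) := by
        have h5 : y = x * y⁻¹ * (h * y * h⁻¹) := by rw [← h3]; group
        calc y * y = y * (x * y⁻¹ * (h * y * h⁻¹)) := by rw [← h5]
          _ = (y * x) * y⁻¹ * (h * y * h⁻¹) := by group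
          _ = _ := by rw [← hxy.eq]; group
      rw [e]
      exact mul_mem (mem_zpowers x) hhy
    exact hu'ne ((eq_inv2 hxB (hyy ▸ h4) (by rw [hu', orderOf_conj, hu2])).trans hxu)
  rcases sq_or_big S hgS with hgg | hgB
  · -- replace `g` by `g x`
    have hginv : g⁻¹ = g := inv_eq_of_mul_eq_one_right hgg
    have hsq : (g * x) * (g * x) = y * x := by
      rw [hy, hginv]; group
    have hsT : (g * x) * (g * x) ∈ T := hsq ▸ mul_mem hyT hxT
    have hgxS : g * x ∈ (S : Subgroup G) := mul_mem hgS hxS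
    rcases sq_or_big S hgxS with h0 | h0
    · rw [hsq, mul_eq_one_iff_eq_inv] at h0
      apply hu'ne
      rw [← hyy, h0, ← mul_inv_rev, hxx, inv_eq_of_mul_eq_one_right
        (show u * u = 1 by rw [← pow_two, ← hu2, pow_orderOf_eq_one])]
    · refine key _ hgxS hsT ?_ ?_ h0
      · rw [hy]; group
      · rw [hu']
        calc g * x * u * (g * x)⁻¹ = g * (x * u * x⁻¹) * g⁻¹ := by group
          _ = g * u * g⁻¹ := by rw [(hTc x hxT).eq, mul_inv_cancel_right]
  · exact key g hgS hg2 hy.symm hu'.symm hgB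

theorem conj_mem_of_big (hE : EC G) (S : Sylow 2 G) {x s : G} (hx : x ∈ (S : Subgroup G)) (hB : Big x)
    (hs : s ∈ (S : Subgroup G)) : s * x * s⁻¹ ∈ zpowers x :=
  conj_mem_zpowers (by rw [norm_big hE hB]; exact mem_cen.2 (inv2_central hE S hx hB s hs).symm)

/-- Elements of order at least `4` with different involutions commute. -/
theorem commute_of_ne (hE : EC G) (S : Sylow 2 G) {x y : G} (hx : x ∈ (S : Subgroup G))
    (hy : y ∈ (S : Subgroup G)) (hxB : Big x) (hyB : Big y) (hne : inv2 x ≠ inv2 y) : Commute x y := by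
  have h3 : x * y * x⁻¹ * y⁻¹ = 1 := by
    refine disjoint_big hxB hyB hne ?_
      (mul_mem (conj_mem_of_big hE S hy hyB hx) (inv_mem (mem_zpowers y)))
    rw [show x * y * x⁻¹ * y⁻¹ = x * (y * x * y⁻¹)⁻¹ by group]
    exact mul_mem (mem_zpowers x) (inv_mem (conj_mem_of_big hE S hx hxB hy))
  rwa [mul_inv_eq_one, mul_inv_eq_iff_eq_mul] at h3

/-- `S` is generalized dihedral over `B`. -/
structure DihOver (S B : Subgroup G) : Prop where
  le : B ≤ S
  exists_out : ∃ v ∈ S, v ∉ B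
  comm : ∀ a ∈ B, ∀ b ∈ B, a * b = b * a
  out_sq : ∀ s ∈ S, s ∉ B → s * s = 1
  out_inv : ∀ s ∈ S, s ∉ B → ∀ b ∈ B, s * b * s⁻¹ = b⁻¹
  out_mul : ∀ s ∈ S, s ∉ B → ∀ s' ∈ S, s' ∉ B → s * s' ∈ B
  exists_big : ∃ x ∈ B, Big x

/-- Two noncommuting... : if all elements outside `B` are involutions, `B` is abelian and inverted. -/
theorem dihOver_of_out {S B : Subgroup G} (hle : B ≤ S) (hv : ∃ v ∈ S, v ∉ B)
    (hsq : ∀ s ∈ S, s ∉ B → s * s = 1) (hmul : ∀ s ∈ S, s ∉ B → ∀ s' ∈ S, s' ∉ B → s * s' ∈ B)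
    (hbig : ∃ x ∈ B, Big x) : DihOver S B := by
  have hinv : ∀ s ∈ S, s ∉ B → ∀ b ∈ B, s * b * s⁻¹ = b⁻¹ := by
    intro s hs hsB b hb
    have h1 : b * s ∉ B := fun h => hsB (by simpa using mul_mem (inv_mem hb) h)
    have h2 := hsq _ (mul_mem (hle hb) hs) h1
    rw [inv_eq_of_mul_eq_one_right (hsq s hs hsB)]
    exact (inv_eq_of_mul_eq_one_right (by rw [← h2]; group)).symm
  refine ⟨hle, hv, fun a ha b hb => ?_, hsq, hinv, hmul, hbig⟩
  obtain ⟨v, hvS, hvB⟩ := hv
  have h1 := hinv v hvS hvB (a * b) (mul_mem ha hb)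
  have h2 : v * (a * b) * v⁻¹ = a⁻¹ * b⁻¹ := by
    rw [← hinv v hvS hvB a ha, ← hinv v hvS hvB b hb]; group
  rw [h2, ← mul_inv_rev, inv_inj] at h1
  exact h1.symm

theorem exists_conj_ne (hni : ∀ u : G, ¬ Cfsg.IsIsolatedInvolution u) (S : Sylow 2 G) {u : G}
    (hu : orderOf u = 2) (huS : u ∈ (S : Subgroup G)) (hc : ∀ s ∈ (S : Subgroup G), Commute u s) :
    ∃ g : G, g * u * g⁻¹ ∈ (S : Subgroup G) ∧ g * u * g⁻¹ ≠ u := by
  haveI : Fact (Nat.Prime 2) := ⟨Nat.prime_two⟩
  have h := hni u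
  unfold Cfsg.IsIsolatedInvolution at h
  push Not at h
  obtain ⟨g, hg, hne⟩ := h hu
  have hle : (S : Subgroup G) ≤ cen u := fun s hs => mem_cen.2 (hc s hs).symm
  have hp : IsPGroup 2 (zpowers (⟨g * u * g⁻¹, mem_cen.2 hg.symm⟩ : cen u)) := by
    refine IsPGroup.of_card (n := 1) ?_
    rw [Nat.card_zpowers, Subgroup.orderOf_mk, orderOf_conj, hu, pow_one]
  obtain ⟨R, hR⟩ := hp.exists_le_sylow
  obtain ⟨⟨h, hh⟩, he⟩ := MulAction.exists_smul_eq (cen u) R (S.subtype hle)
  refine ⟨h * g, ?_, fun e => hne ?_⟩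
  · have h1 : (⟨h, hh⟩ : cen u) * ⟨g * u * g⁻¹, mem_cen.2 hg.symm⟩ * ⟨h, hh⟩⁻¹ ∈
        ((⟨h, hh⟩ : cen u) • R : Sylow 2 (cen u)) := ⟨_, hR (mem_zpowers _), rfl⟩
    rw [he] at h1
    have h2 : h * (g * u * g⁻¹) * h⁻¹ ∈ (S : Subgroup G) := h1
    convert h2 using 1
    group
  · calc g * u * g⁻¹ = h⁻¹ * (h * g * u * (h * g)⁻¹) * h := by group
      _ = u := by rw [e, mul_assoc, ← (mem_cen.1 hh).eq, inv_mul_cancel_left]

/-- The structure of the Sylow 2-subgroups. -/
theorem structure_cases (hE : EC G) (hni : ∀ u : G, ¬ Cfsg.IsIsolatedInvolution u) (S : Sylow 2 G) :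
    (∀ x ∈ (S : Subgroup G), x * x = 1) ∨
    ((∀ a ∈ (S : Subgroup G), ∀ b ∈ (S : Subgroup G), a * b = b * a) ∧
      ∃ x ∈ (S : Subgroup G), ∃ y ∈ (S : Subgroup G), Big x ∧ Big y ∧ inv2 x ≠ inv2 y) ∨
    ∃ B : Subgroup G, DihOver (S : Subgroup G) B := by
  by_cases hex : ∃ x ∈ (S : Subgroup G), Big x
  swap
  · exact Or.inl fun x hx => (sq_or_big S hx).resolve_right fun h => hex ⟨x, hx, h⟩
  obtain ⟨x, ⟨hxS, hxB⟩, hmax⟩ := Set.exists_max_image {x : G | x ∈ (S : Subgroup G) ∧ Big x} orderOf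
    (Set.toFinite _) (by obtain ⟨x, h1, h2⟩ := hex; exact ⟨x, h1, h2⟩)
  have hdvd : ∀ z ∈ (S : Subgroup G), orderOf z ∣ orderOf x := by
    intro z hz
    rcases sq_or_big S hz with h | h
    · obtain ⟨k, hk⟩ := hxB
      refine (orderOf_dvd_of_pow_eq_one (show z ^ 2 = 1 by rw [pow_two, h])).trans ?_
      rw [hk]; exact dvd_pow_self 2 (by omega)
    · obtain ⟨i, hi⟩ := h
      obtain ⟨k, hk⟩ := hxB
      have := hmax z ⟨hz, i, hi⟩
      rw [hi, hk] at this ⊢
      exact pow_dvd_pow 2 ((Nat.pow_le_pow_iff_right (by norm_num)).1 this)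
  by_cases htwo : ∃ y ∈ (S : Subgroup G), orderOf y = orderOf x ∧ inv2 x ≠ inv2 y
  · obtain ⟨y, hyS, hyo, hne⟩ := htwo
    have hyB : Big y := by obtain ⟨k, hk⟩ := hxB; exact ⟨k, hyo.trans hk⟩
    have hxy := commute_of_ne hE S hxS hyS hxB hyB hne
    obtain ⟨C, hC⟩ : ∃ C, C = (S : Subgroup G) ⊓ cen x ⊓ cen y := ⟨_, rfl⟩
    have hCS : C ≤ (S : Subgroup G) := hC ▸ inf_le_left.trans inf_le_left
    have hmemC : ∀ {w : G}, w ∈ C ↔ (w ∈ (S : Subgroup G) ∧ Commute w x) ∧ Commute w y := by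
      intro w; rw [hC, mem_inf, mem_inf, mem_cen, mem_cen]
    have hxC : x ∈ C := hmemC.2 ⟨⟨hxS, Commute.refl x⟩, hxy⟩
    have hCcomm : ∀ z ∈ C, ∀ w ∈ C, w * z = z * w := by
      intro z hz w hw
      obtain ⟨⟨hzS, hzx⟩, hzy⟩ := hmemC.1 hz
      obtain ⟨⟨hwS, hwx⟩, hwy⟩ := hmemC.1 hw
      suffices w * z * w⁻¹ = z by rwa [mul_inv_eq_iff_eq_mul] at this
      -- the relation given by `z * x'`
      have rel : ∀ x' : G, x' ∈ (S : Subgroup G) → Commute z x' → Commute w x' → Big (z * x') →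
          ∃ i : ℤ, w * z * w⁻¹ = z ^ i * x' ^ (i - 1) := by
        intro x' hx'S hzx' hwx' hBig
        obtain ⟨i, hi⟩ := conj_mem_of_big hE S (mul_mem hzS hx'S) hBig hwS
        refine ⟨i, ?_⟩
        simp only [hzx'.mul_zpow] at hi
        calc w * z * w⁻¹ = w * (z * x') * w⁻¹ * (w * x' * w⁻¹)⁻¹ := by group
          _ = z ^ i * x' ^ (i - 1) := by
            rw [← hi, hwx'.eq, mul_inv_cancel_right, zpow_sub_one, mul_assoc]
      rcases sq_or_big S hzS with hz2 | hzB
      · have hbig : ∀ {x' : G}, Commute z x' → Big x' → x' ∈ (S : Subgroup G) → Big (z * x') := by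
          intro x' hc hB hS'
          refine (sq_or_big S (mul_mem hzS hS')).resolve_left fun h => hB.mul_self_ne ?_
          rw [← pow_two, hc.mul_pow, pow_two, hz2, one_mul, pow_two] at h
          exact h
        obtain ⟨i, hi⟩ := rel x hxS hzx hwx (hbig hzx hxB hxS)
        obtain ⟨j, hj⟩ := rel y hyS hzy hwy (hbig hzy hyB hyS)
        have hz2' : (w * z * w⁻¹) * (w * z * w⁻¹) = 1 := by
          rw [show (w * z * w⁻¹) * (w * z * w⁻¹) = w * (z * z) * w⁻¹ by group, hz2]; group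
        have hodd : ∀ {x' : G} {i : ℤ}, Commute z x' → Big x' →
            w * z * w⁻¹ = z ^ i * x' ^ (i - 1) → z ^ i = z := by
          intro x' i hc hB he
          rw [he] at hz2'
          have h1 : z ^ i * x' ^ (i - 1) * (z ^ i * x' ^ (i - 1)) =
              (z * z) ^ i * (x' ^ (i - 1) * x' ^ (i - 1)) := by
            rw [(Commute.refl z).mul_zpow]
            have hc' : Commute (x' ^ (i - 1)) (z ^ i) := (hc.zpow_zpow i (i - 1)).symm
            calc z ^ i * x' ^ (i - 1) * (z ^ i * x' ^ (i - 1))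
                = z ^ i * (x' ^ (i - 1) * z ^ i) * x' ^ (i - 1) := by group
              _ = z ^ i * (z ^ i * x' ^ (i - 1)) * x' ^ (i - 1) := by rw [hc'.eq]
              _ = _ := by group
          rw [h1, hz2, one_zpow, one_mul, ← zpow_add, ← orderOf_dvd_iff_zpow_eq_one] at hz2'
          obtain ⟨k, hk⟩ := hB
          rw [hk] at hz2'
          have h4 : (4 : ℤ) ∣ (i - 1 + (i - 1)) := by
            refine (dvd_trans ?_ hz2')
            exact ⟨((2 : ℕ) ^ k : ℕ), by push_cast; ring⟩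
          obtain ⟨m, hm⟩ : ∃ m : ℤ, i = 2 * m + 1 := by
            obtain ⟨c, hc⟩ := h4; exact ⟨c, by omega⟩
          rw [hm, zpow_add_one, zpow_mul, zpow_two, hz2, one_zpow, one_mul]
        rw [hodd hzx hxB hi] at hi
        rw [hodd hzy hyB hj] at hj
        have h1 : x ^ (i - 1) = y ^ (j - 1) := mul_left_cancel (hi.symm.trans hj)
        have h2 := disjoint_big hxB hyB hne ⟨i - 1, rfl⟩ ⟨j - 1, h1.symm⟩
        rw [hi]; exact mul_eq_left.2 h2
      · obtain ⟨x', hx'S, hzx', hwx', hx'B, hx'o, hne'⟩ : ∃ x', x' ∈ (S : Subgroup G) ∧ Commute z x' ∧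
            Commute w x' ∧ Big x' ∧ orderOf x' = orderOf x ∧ inv2 z ≠ inv2 x' := by
          by_cases h : inv2 z = inv2 x
          · exact ⟨y, hyS, hzy, hwy, hyB, hyo, h ▸ hne⟩
          · exact ⟨x, hxS, hzx, hwx, hxB, rfl, h⟩
        have hzz' : Big (z * x') := by
          refine (sq_or_big S (mul_mem hzS hx'S)).resolve_left fun h => hzB.mul_self_ne ?_
          rw [← pow_two, hzx'.mul_pow, mul_eq_one_iff_eq_inv, pow_two] at h
          refine disjoint_big hzB hx'B hne' (mul_mem (mem_zpowers z) (mem_zpowers z)) ?_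
          rw [h]; exact inv_mem (pow_mem (mem_zpowers x') 2)
        obtain ⟨i, hi⟩ := rel x' hx'S hzx' hwx' hzz'
        have h1 : x' ^ (i - 1) = 1 := by
          refine disjoint_big hzB hx'B hne' ?_ ⟨i - 1, rfl⟩
          rw [show x' ^ (i - 1) = (z ^ i)⁻¹ * (w * z * w⁻¹) by rw [hi, inv_mul_cancel_left]]
          exact mul_mem (inv_mem ⟨i, rfl⟩) (conj_mem_of_big hE S hzS hzB hwS)
        rw [hi, h1, mul_one]
        rw [← orderOf_dvd_iff_zpow_eq_one, hx'o] at h1
        have h2 : z ^ (i - 1) = 1 :=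
          orderOf_dvd_iff_zpow_eq_one.1 ((Int.natCast_dvd_natCast.2 (hdvd z hzS)).trans h1)
        rwa [zpow_sub_one, mul_inv_eq_one] at h2
    by_cases hall : ∀ w ∈ (S : Subgroup G), w ∈ C
    · exact Or.inr (Or.inl ⟨fun a ha b hb => (hCcomm b (hall b hb) a (hall a ha)),
        x, hxS, y, hyS, hxB, hyB, hne⟩)
    push Not at hall
    -- the common exponent
    have hact : ∀ w ∈ (S : Subgroup G), w ∉ C → w * x * w⁻¹ * x⁻¹ ≠ 1 ∧ w * y * w⁻¹ * y⁻¹ ≠ 1 := by
      intro w hw hwC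
      obtain ⟨d, hd⟩ := conj_mem_of_big hE S hxS hxB hw
      obtain ⟨d', hd'⟩ := conj_mem_of_big hE S hyS hyB hw
      have hbxy : Big (x * y) := by
        refine (sq_or_big S (mul_mem hxS hyS)).resolve_left fun h => hxB.mul_self_ne ?_
        rw [← pow_two, hxy.mul_pow, mul_eq_one_iff_eq_inv, pow_two] at h
        refine disjoint_big hxB hyB hne (mul_mem (mem_zpowers x) (mem_zpowers x)) ?_
        rw [h]; exact inv_mem (pow_mem (mem_zpowers y) 2)
      obtain ⟨k, hk⟩ := conj_mem_of_big hE S (mul_mem hxS hyS) hbxy hw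
      simp only [hxy.mul_zpow] at hk hd hd'
      have e : x ^ k * y ^ k = x ^ d * y ^ d' := by rw [hk, hd, hd']; group
      have e1 : x ^ (-d + k) = y ^ (d' + -k) := by
        rw [zpow_add, zpow_add, zpow_neg, zpow_neg,
          inv_mul_eq_iff_eq_mul, ← mul_assoc, eq_mul_inv_iff_mul_eq]
        exact e
      have h1 := disjoint_big hxB hyB hne ⟨-d + k, rfl⟩ ⟨d' + -k, e1.symm⟩
      have h2 : y ^ (d' + -k) = 1 := e1 ▸ h1
      simp only at h1 h2
      rw [zpow_add, zpow_neg, inv_mul_eq_one] at h1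
      rw [zpow_add, zpow_neg, mul_inv_eq_one] at h2
      rw [← hd, ← hd', h1, h2]
      simp only [ne_eq, mul_inv_eq_one]
      have hiff : x ^ k = x ↔ y ^ k = y := by
        rw [← mul_inv_eq_one, ← zpow_sub_one, ← orderOf_dvd_iff_zpow_eq_one, ← hyo,
          orderOf_dvd_iff_zpow_eq_one, zpow_sub_one, mul_inv_eq_one]
      constructor <;> intro h <;> apply hwC <;> refine hmemC.2 ⟨⟨hw, ?_⟩, ?_⟩ <;>
        (rw [commute_iff_eq, ← mul_inv_eq_iff_eq_mul])
      · rw [← hd, h1, h]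
      · rw [← hd', h2, hiff.1 h]
      · rw [← hd, h1, hiff.2 h]
      · rw [← hd', h2, h]
    have hsq : ∀ w ∈ (S : Subgroup G), w ∉ C → w * w = 1 := by
      intro w hw hwC
      refine (sq_or_big S hw).resolve_right fun hwB => ?_
      have hmem : ∀ z ∈ (S : Subgroup G), w * z * w⁻¹ * z⁻¹ ∈ zpowers w := fun z hz => by
        rw [show w * z * w⁻¹ * z⁻¹ = w * (z * w * z⁻¹)⁻¹ by group]
        exact mul_mem (mem_zpowers w) (inv_mem (conj_mem_of_big hE S hw hwB hz))
      obtain ⟨h1, h2⟩ := hact w hw hwC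
      refine hne ?_
      have e : ∀ z ∈ (S : Subgroup G), Big z → w * z * w⁻¹ * z⁻¹ ≠ 1 → inv2 z = inv2 w := by
        intro z hz hzB hz1
        by_contra hcon
        exact hz1 (disjoint_big hzB hwB hcon
          (mul_mem (conj_mem_of_big hE S hz hzB hw) (inv_mem (mem_zpowers z))) (hmem z hz))
      exact (e x hxS hxB h1).trans (e y hyS hyB h2).symm
    refine Or.inr (Or.inr ⟨C, dihOver_of_out hCS hall hsq ?_ ⟨x, hxC, hxB⟩⟩)
    intro s hs hsC s' hs' hs'C
    have inverts : ∀ {v : G}, v ∈ (S : Subgroup G) → v ∉ C → ∀ b ∈ C, v * b * v⁻¹ = b⁻¹ := by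
      intro v hv hvC b hb
      have h1 : b * v ∉ C := fun h => hvC (by simpa using mul_mem (inv_mem hb) h)
      have h2 := hsq _ (mul_mem (hCS hb) hv) h1
      rw [inv_eq_of_mul_eq_one_right (hsq v hv hvC)]
      exact (inv_eq_of_mul_eq_one_right (by rw [← h2]; group)).symm
    have hyC : y ∈ C := hmemC.2 ⟨⟨hyS, hxy.symm⟩, Commute.refl y⟩
    refine hmemC.2 ⟨⟨mul_mem hs hs', ?_⟩, ?_⟩ <;> rw [commute_iff_eq, ← mul_inv_eq_iff_eq_mul]
    · rw [show s * s' * x * (s * s')⁻¹ = s * (s' * x * s'⁻¹) * s⁻¹ by group,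
        inverts hs' hs'C x hxC, inverts hs hsC _ (inv_mem hxC), inv_inv]
    · rw [show s * s' * y * (s * s')⁻¹ = s * (s' * y * s'⁻¹) * s⁻¹ by group,
        inverts hs' hs'C y hyC, inverts hs hsC _ (inv_mem hyC), inv_inv]
  · -- a single involution on top
    push Not at htwo
    obtain ⟨u, hu⟩ : ∃ u, u = inv2 x := ⟨_, rfl⟩
    have hu2 : orderOf u = 2 := hu ▸ orderOf_inv2 hxB
    have huc : ∀ s ∈ (S : Subgroup G), Commute u s := hu ▸ inv2_central hE S hxS hxB
    have huS : u ∈ (S : Subgroup G) := hu ▸ zpowers_le.2 hxS (inv2_mem x)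
    obtain ⟨g, hgS, hgne⟩ := exists_conj_ne hni S hu2 huS huc
    obtain ⟨v, hv⟩ : ∃ v, v = g * u * g⁻¹ := ⟨_, rfl⟩
    have hv2 : orderOf v = 2 := by rw [hv, orderOf_conj, hu2]
    have hvS : v ∈ (S : Subgroup G) := hv ▸ hgS
    have hvnc : ¬ ∀ s ∈ (S : Subgroup G), Commute v s := by
      intro hc
      haveI : Fact (Nat.Prime 2) := ⟨Nat.prime_two⟩
      obtain ⟨n, hn, he⟩ := S.conj_eq_normalizer_conj_of_mem_centralizer u g⁻¹
        (mem_centralizer_iff.2 fun s hs => (huc s hs).symm.eq)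
        (mem_centralizer_iff.2 fun s hs => by rw [inv_inv, ← hv]; exact (hc s hs).symm.eq)
      rw [inv_inv] at he
      have hn' : n⁻¹ * x * n ∈ (S : Subgroup G) := by
        simpa using ((mem_normalizer_iff.1 (inv_mem hn)) x).1 hxS
      apply hgne
      rw [he, hu, show n⁻¹ * inv2 x * n = n⁻¹ * inv2 x * n⁻¹⁻¹ by rw [inv_inv], ← inv2_conj]
      exact (htwo _ (by rwa [inv_inv]) (orderOf_conj _ _)).symm
    -- no big element commutes with `v`
    have hnc : ∀ z ∈ (S : Subgroup G), Big z → ¬ Commute z v := by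
      intro z hz hzB hzv
      apply hvnc
      haveI : Fact (Nat.Prime 2) := ⟨Nat.prime_two⟩
      have hS1 : (g • S : Sylow 2 G) ≤ cen v := by
        rintro - ⟨s, hs, rfl⟩
        refine mem_cen.2 ?_
        rw [hv]
        change g * s * g⁻¹ * (g * u * g⁻¹) = g * u * g⁻¹ * (g * s * g⁻¹)
        calc g * s * g⁻¹ * (g * u * g⁻¹) = g * (s * u) * g⁻¹ := by group
          _ = g * (u * s) * g⁻¹ := by rw [(huc s hs).eq]
          _ = _ := by group
      have hP : IsPGroup 2 ((((S : Subgroup G) ⊓ cen v).subgroupOf (cen v) : Subgroup (cen v))) :=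
        ((S.isPGroup'.to_le inf_le_left)).of_equiv (subgroupOfEquivOfLe inf_le_right).symm
      obtain ⟨R, hR⟩ := hP.exists_le_sylow
      obtain ⟨⟨h, hh⟩, he⟩ := MulAction.exists_smul_eq (cen v) ((g • S).subtype hS1) R
      have hmem : ∀ w ∈ (S : Subgroup G) ⊓ cen v, w ∈ (h • (g • S) : Sylow 2 G) := by
        intro w hw
        have h1 : (⟨w, hw.2⟩ : cen v) ∈ R := hR (mem_subgroupOf.2 hw)
        rw [← he] at h1
        obtain ⟨r, hr, hrw⟩ := h1
        exact ⟨(r : G), hr, congrArg Subtype.val hrw⟩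
      have hcS' : ∀ s ∈ ((h • (g • S) : Sylow 2 G) : Subgroup G), Commute v s := by
        rintro - ⟨r, hr, rfl⟩
        have h1 := mem_cen.1 (hS1 hr)
        change Commute v (h * r * h⁻¹)
        exact ((mem_cen.1 hh).symm.mul_right h1.symm).mul_right (mem_cen.1 hh).symm.inv_right
      have hzS' := hmem z ⟨hz, mem_cen.2 hzv⟩
      have hvS' := hmem v ⟨hvS, self_mem_cen v⟩
      exact central_of_central hE (orderOf_inv2 hzB) S (h • (g • S))
        (fun s hs => mem_cen.2 (inv2_central hE S hz hzB s hs).symm)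
        (fun s hs => mem_cen.2 (inv2_central hE _ hzS' hzB s hs).symm) hvS hvS' hcS'
    have hvv : v * v = 1 := by rw [← pow_two, ← hv2, pow_orderOf_eq_one]
    have hvinv : ∀ z ∈ (S : Subgroup G), Big z → v * z * v = z⁻¹ := by
      intro z hz hzB
      have h0 : v⁻¹ = v := inv_eq_of_mul_eq_one_right hvv
      rcases sq_or_big S (mul_mem hz hvS) with h | h
      · exact (inv_eq_of_mul_eq_one_right (by rw [← h]; group)).symm
      exfalso
      have hsq : Commute (z * v * (z * v)) v := by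
        obtain ⟨c, hc⟩ := conj_mem_of_big hE S hz hzB hvS
        rw [h0] at hc
        have hc2 : z ^ (c * c) = z := by
          rw [zpow_mul]
          simp only at hc
          rw [hc, show v * z * v = v * z * v⁻¹ by rw [h0], conj_zpow, hc, h0]
          calc v * (v * z * v) * v = (v * v) * z * (v * v) := by group
            _ = z := by rw [hvv, one_mul, mul_one]
        have e : z * v * (z * v) = z ^ (1 + c) := by
          simp only at hc
          rw [zpow_add, zpow_one, hc]; group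
        rw [e]
        have : v * z ^ (1 + c) * v⁻¹ = z ^ (1 + c) := by
          simp only at hc
          rw [← conj_zpow, show v * z * v⁻¹ = v * z * v by rw [h0], ← hc, ← zpow_mul, mul_add, mul_one,
            zpow_add, hc2, zpow_add, zpow_one]
          exact ((Commute.refl z).zpow_left c).eq
        exact (mul_inv_eq_iff_eq_mul.1 this).symm
      have hsmall : (z * v) * (z * v) * ((z * v) * (z * v)) = 1 :=
        (sq_or_big S (mul_mem (mul_mem hz hvS) (mul_mem hz hvS))).resolve_right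
          fun hb => hnc _ (mul_mem (mul_mem hz hvS) (mul_mem hz hvS)) hb hsq
      obtain ⟨i, hi⟩ := conj_mem_of_big hE S (mul_mem hz hvS) h hvS
      have e : v * z = (z * v) ^ i := by
        simp only at hi
        rw [hi, h0]
        calc v * z = v * z * (v * v) := by rw [hvv, mul_one]
          _ = _ := by group
      have h4 : (z * v) ^ (4 : ℤ) = 1 := by
        rw [show (4 : ℤ) = ((4 : ℕ) : ℤ) from rfl, zpow_natCast]
        simpa [pow_succ, mul_assoc] using hsmall
      rcases Int.even_or_odd' i with ⟨m, rfl | rfl⟩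
      · -- `v z` would commute with `v`
        have h1 : Commute ((z * v) * (z * v)) v := hsq
        have h2 : Commute (v * z) v := by
          rw [e, zpow_mul, zpow_two]; exact h1.zpow_left m
        refine hnc z hz hzB ?_
        calc z * v = v * (v * z * v) := by
              rw [show v * (v * z * v) = (v * v) * (z * v) by group, hvv, one_mul]
          _ = v * (v * (v * z)) := by rw [h2.eq]
          _ = v * z := by rw [← mul_assoc, hvv, one_mul]
      · rcases Int.even_or_odd' m with ⟨r, rfl | rfl⟩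
        · refine hnc z hz hzB ?_
          rw [show 2 * (2 * r) + 1 = 4 * r + 1 by ring, zpow_add_one, zpow_mul, h4, one_zpow,
            one_mul] at e
          exact e.symm
        · rw [show 2 * (2 * r + 1) + 1 = 4 * (r + 1) + (-1) by ring, zpow_add, zpow_mul, h4, one_zpow,
            one_mul, zpow_neg_one, mul_inv_rev, h0] at e
          exact hzB.mul_self_ne (by rw [← mul_eq_one_iff_eq_inv.2 (mul_left_cancel e)])
    have h0 : v⁻¹ = v := inv_eq_of_mul_eq_one_right hvv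
    have main : ∀ a ∈ (S : Subgroup G), ∀ b ∈ (S : Subgroup G), Big a → Big b → (a * b) * (a * b) = 1 →
        (a⁻¹ * b) * (a⁻¹ * b) = 1 →
        b * b ∈ zpowers a ∧ orderOf (b * b) = 2 ∧ b * a * b⁻¹ = a⁻¹ * (b * b)⁻¹ := by
      intro a ha b hb haB hbB h h'
      have h1 : b * a * b = a⁻¹ := (inv_eq_of_mul_eq_one_right (by rw [← h]; group)).symm
      have h2 : b * a⁻¹ * b = a := by
        have := (inv_eq_of_mul_eq_one_right (show a⁻¹ * (b * a⁻¹ * b) = 1 by rw [← h']; group)).symm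
        rwa [inv_inv] at this
      have h3 : b * a * b⁻¹ = a⁻¹ * (b * b)⁻¹ := by rw [← h1]; group
      have hbb : b * b ∈ zpowers a := by
        have e : b * b = (a * (b * a * b⁻¹))⁻¹ := by rw [h3]; simp [mul_assoc]
        rw [e]
        exact inv_mem (mul_mem (mem_zpowers a) (conj_mem_of_big hE S ha haB hb))
      refine ⟨hbb, orderOf_eq_prime ?_ hbB.mul_self_ne, h3⟩
      obtain ⟨i, hi⟩ := hbb
      have hc : Commute a (b * b) := hi ▸ (Commute.refl a).zpow_right i
      have e : a * (b * b) = a * (b * b)⁻¹ := by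
        calc a * (b * b) = b * b * a := hc.eq
          _ = b * (a⁻¹ * b⁻¹) := by rw [← h1]; group
          _ = b * a⁻¹ * b * (b * b)⁻¹ := by group
          _ = a * (b * b)⁻¹ := by rw [h2]
      rw [pow_two]
      nth_rewrite 2 [mul_left_cancel e]
      exact mul_inv_cancel _
    have hcomm : ∀ a ∈ (S : Subgroup G), ∀ b ∈ (S : Subgroup G), Big a → Big b → Commute a b := by
      intro a ha b hb haB hbB
      have of_big : ∀ {a : G}, a ∈ (S : Subgroup G) → Big a → Big (a * b) → Commute a b := by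
        intro a ha haB h
        have h1 := hvinv _ (mul_mem ha hb) h
        have h2 : v * (a * b) * v = a⁻¹ * b⁻¹ := by
          rw [← hvinv a ha haB, ← hvinv b hb hbB]
          calc v * (a * b) * v = v * a * 1 * b * v := by group
            _ = _ := by rw [← hvv]; group
        rw [h2, ← mul_inv_rev, inv_inj] at h1
        exact h1.symm
      rcases sq_or_big S (mul_mem ha hb) with h | h
      swap
      · exact of_big ha haB h
      rcases sq_or_big S (mul_mem (inv_mem ha) hb) with h' | h'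
      swap
      · have hBi : Big a⁻¹ := by obtain ⟨k, hk⟩ := haB; exact ⟨k, by rw [orderOf_inv, hk]⟩
        exact (Commute.inv_left_iff).1 (of_big (inv_mem ha) hBi h')
      obtain ⟨hbb, hb2, hconj⟩ := main a ha b hb haB hbB h h'
      have hba : b * a * (b * a) = 1 := by
        calc b * a * (b * a) = a⁻¹ * (a * b * (a * b)) * a := by group
          _ = 1 := by rw [h]; group
      have hba' : b⁻¹ * a * (b⁻¹ * a) = 1 := by
        calc b⁻¹ * a * (b⁻¹ * a) = (a⁻¹ * b * (a⁻¹ * b))⁻¹ := by group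
          _ = 1 := by rw [h', inv_one]
      obtain ⟨haa, ha2, -⟩ := main b hb a ha hbB haB hba hba'
      have e : b * b = a * a := by
        rw [eq_inv2 haB hbb hb2, eq_inv2 haB (mul_mem (mem_zpowers a) (mem_zpowers a)) ha2]
      have ha4 : a * a * (a * a) = 1 := by rw [← pow_two (a * a), ← ha2, pow_orderOf_eq_one]
      have e2 : b * a * b⁻¹ = a := by
        rw [hconj, e, inv_eq_of_mul_eq_one_right ha4]; group
      exact (mul_inv_eq_iff_eq_mul.1 e2).symm
    -- the centralizer of the big elements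
    obtain ⟨B, hB⟩ : ∃ B : Subgroup G, B = (S : Subgroup G) ⊓
        centralizer {a : G | a ∈ (S : Subgroup G) ∧ Big a} := ⟨_, rfl⟩
    have hmemB : ∀ {w : G}, w ∈ B ↔ w ∈ (S : Subgroup G) ∧
        ∀ a ∈ (S : Subgroup G), Big a → Commute w a := by
      intro w
      rw [hB, mem_inf, mem_centralizer_iff]
      exact and_congr_right fun _ => ⟨fun h a ha haB => (h a ⟨ha, haB⟩).symm,
        fun h a ha => (h a ha.1 ha.2).symm.eq⟩
    have hbigB : ∀ a ∈ (S : Subgroup G), Big a → a ∈ B := fun a ha haB =>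
      hmemB.2 ⟨ha, fun b hb hbB => hcomm a ha b hb haB hbB⟩
    have hsq : ∀ w ∈ (S : Subgroup G), w ∉ B → w * w = 1 := fun w hw hwB =>
      (sq_or_big S hw).resolve_right fun h => hwB (hbigB w hw h)
    have hout : ∀ w ∈ (S : Subgroup G), w ∉ B → ∀ a ∈ (S : Subgroup G), Big a →
        w * a * w⁻¹ = a⁻¹ := by
      intro w hw hwB a ha haB
      have h1 : a * w ∉ B := fun h => hwB (by
        simpa using mul_mem (inv_mem (hbigB a ha haB)) h)
      have h2 := hsq _ (mul_mem ha hw) h1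
      rw [inv_eq_of_mul_eq_one_right (hsq w hw hwB)]
      exact (inv_eq_of_mul_eq_one_right (by rw [← h2]; group)).symm
    refine Or.inr (Or.inr ⟨B, dihOver_of_out (hB ▸ inf_le_left) ⟨v, hvS, fun h => hnc x hxS hxB
      ((hmemB.1 h).2 x hxS hxB).symm⟩ hsq ?_ ⟨x, hbigB x hxS hxB, hxB⟩⟩)
    intro w hw hwB w' hw' hw'B
    refine hmemB.2 ⟨mul_mem hw hw', fun a ha haB => ?_⟩
    rw [commute_iff_eq, ← mul_inv_eq_iff_eq_mul,
      show w * w' * a * (w * w')⁻¹ = w * (w' * a * w'⁻¹) * w⁻¹ by group, hout w' hw' hw'B a ha haB,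
      ← conj_inv, hout w hw hwB a ha haB, inv_inv]

end Cfsg.Agent.EvenCyclic27
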