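import Mathlib

/-!
A hermitian space over an extension field K of odd prime degree inside a hermitian space over F:
the lifted form, hermitian orthogonality, frames of Lagrangian subspaces, fixed fields.
-/

set_option autoImplicit false
set_option linter.unusedSectionVars false
set_option linter.style.haveILetI false

namespace Cfsg.Agent.ExtFieldGU22

open Module

variable {F K V : Type*} [Field F] [Fintype F] [Field K] [Fintype K] [Algebra F K]
  [AddCommGroup V] [Module F V] [Module K V] [IsScalarTower F K V] [FiniteDimensional K V]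

/-- `f` is a hermitian form over F for which the adjoint of `c ∈ K` is `β c`; `h` is a lift of it along `τ`. -/
structure Geo (σ : F ≃+* F) (β : K ≃+* K) (f : V → V → F) (τ : K →ₗ[F] F) (h : V → V → K) : Prop where
  prime : (finrank F K).Prime
  three : 3 ≤ finrank F K
  inv : ∀ a, σ (σ a) = a
  ne : ∃ a, σ a ≠ a
  alg : ∀ a, β (algebraMap F K a) = algebraMap F K (σ a)
  bb : ∀ c, β (β c) = c
  nondeg : ∀ x, (∀ y, f x y = 0) → x = 0
  tau_one : τ 1 = 1
  tau_bar : ∀ c, τ (β c) = σ (τ c)
  lift : ∀ (c : K) x y, f (c • x) y = τ (c * h x y)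
  h_add : ∀ x y z, h (x + y) z = h x z + h y z
  h_smul : ∀ (c : K) x z, h (c • x) z = c * h x z
  h_herm : ∀ x y, h y x = β (h x y)

theorem tau_ext {τ : K →ₗ[F] F} (h1 : τ 1 = 1) {a b : K} (h : ∀ c, τ (c * a) = τ (c * b)) : a = b := by
  by_contra hne
  have h0 := h (a - b)⁻¹
  have : τ ((a - b)⁻¹ * (a - b)) = 0 := by rw [mul_sub, map_sub, h0, sub_self]
  rw [inv_mul_cancel₀ (sub_ne_zero.2 hne), h1] at this
  exact one_ne_zero this

/-- A unit of skew type and an element of trace one exist. -/
theorem exists_theta {E : Type*} [Field E] (σ : E ≃+* E) (hinv : ∀ a, σ (σ a) = a) (hne : ∃ a, σ a ≠ a) :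
    ∃ θ : E, θ + σ θ = 1 ∧ θ - σ θ ≠ 0 := by
  obtain ⟨a, ha⟩ := hne
  by_cases h2 : (2 : E) = 0
  · have hneg : ∀ x : E, -x = x := fun x => by linear_combination -(x * h2)
    have ht : a + σ a ≠ 0 := fun h => ha (by linear_combination h - (2 : E) * 0 - a * h2)
    refine ⟨a / (a + σ a), ?_, ?_⟩
    · rw [map_div₀, map_add, hinv, add_comm (σ a) a, ← add_div, div_self ht]
    · rw [map_div₀, map_add, hinv, add_comm (σ a) a, ← sub_div]
      exact div_ne_zero (sub_ne_zero.2 (Ne.symm ha)) ht
  · haveI : NeZero (2 : E) := ⟨h2⟩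
    by_cases ht : a + σ a = 0
    · refine ⟨a + 1 / 2, ?_, ?_⟩
      · rw [map_add, map_div₀, map_one, map_ofNat]
        linear_combination ht + add_halves (1 : E)
      · rw [map_add, map_div₀, map_one, map_ofNat]
        intro h
        exact ha (by linear_combination -h)
    · refine ⟨a / (a + σ a), ?_, ?_⟩
      · rw [map_div₀, map_add, hinv, add_comm (σ a) a, ← add_div, div_self ht]
      · rw [map_div₀, map_add, hinv, add_comm (σ a) a, ← sub_div]
        exact div_ne_zero (sub_ne_zero.2 (Ne.symm ha)) ht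

/-- Existence of the lift. -/
theorem exists_geo (σ : F ≃+* F) (β : K ≃+* K) (f : V → V → F) (hp : (finrank F K).Prime)
    (h3 : 3 ≤ finrank F K) (hinv : ∀ a, σ (σ a) = a) (hne : ∃ a, σ a ≠ a)
    (halg : ∀ a, β (algebraMap F K a) = algebraMap F K (σ a)) (hbb : ∀ c, β (β c) = c)
    (hadd : ∀ x y z, f (x + y) z = f x z + f y z) (hsmul : ∀ (a : F) x z, f (a • x) z = a * f x z)
    (hherm : ∀ x y, f y x = σ (f x y)) (hadj : ∀ (c : K) x y, f (c • x) y = f x (β c • y))
    (hnd : ∀ x, (∀ y, f x y = 0) → x = 0) :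
    ∃ τ h, Geo σ β f τ h := by
  classical
  obtain ⟨θ, hθ, -⟩ := exists_theta σ hinv hne
  obtain ⟨τ₀, hτ₀⟩ := Module.Projective.exists_dual_eq_one (K := F) (one_ne_zero : (1 : K) ≠ 0)
  let τ : K →ₗ[F] F :=
    { toFun := fun c => θ * τ₀ c + σ θ * σ (τ₀ (β c))
      map_add' := fun a b => by simp only [map_add]; ring
      map_smul' := fun s a => by
        have e : β (s • a) = σ s • β a := by rw [Algebra.smul_def, map_mul, halg, Algebra.smul_def]
        simp only [e, map_smul, smul_eq_mul, map_mul, hinv, RingHom.id_apply]; ring }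
  have hτ : ∀ c, τ c = θ * τ₀ c + σ θ * σ (τ₀ (β c)) := fun c => rfl
  have h1 : τ 1 = 1 := by rw [hτ, map_one β, hτ₀, map_one σ, mul_one, mul_one, hθ]
  have hbar : ∀ c, τ (β c) = σ (τ c) := fun c => by
    rw [hτ, hτ, map_add, map_mul, map_mul, hinv, hinv, hbb]; ring
  let Φ : K →ₗ[F] (K →ₗ[F] F) :=
    { toFun := fun a => τ.comp (LinearMap.mulRight F a)
      map_add' := fun a b => by ext c; simp [mul_add]
      map_smul' := fun s a => by ext c; simp [mul_smul_comm] }
  haveI : FiniteDimensional F K := Module.Finite.of_finite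
  have hinj : Function.Injective Φ := fun a b h => tau_ext h1 fun c => LinearMap.congr_fun h c
  have hsurj : Function.Surjective Φ :=
    (LinearMap.injective_iff_surjective_of_finrank_eq_finrank
      (by rw [Module.finrank_linearMap, finrank_self, mul_one])).1 hinj
  have hex : ∀ x y : V, ∃ a : K, ∀ c, τ (c * a) = f (c • x) y := by
    intro x y
    let φ : K →ₗ[F] F :=
      { toFun := fun c => f (c • x) y
        map_add' := fun a b => by rw [add_smul, hadd]
        map_smul' := fun s a => by rw [smul_assoc, hsmul, RingHom.id_apply, smul_eq_mul] }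
    obtain ⟨a, ha⟩ := hsurj φ
    exact ⟨a, fun c => LinearMap.congr_fun ha c⟩
  choose h hh using hex
  refine ⟨τ, h, hp, h3, hinv, hne, halg, hbb, hnd, h1, hbar, fun c x y => (hh x y c).symm,
    fun x y z => tau_ext h1 fun c => ?_, fun e x z => tau_ext h1 fun c => ?_, fun x y => tau_ext h1 fun c => ?_⟩
  · rw [hh, mul_add, map_add, hh, hh, smul_add, hadd]
  · rw [hh, ← mul_assoc, hh, smul_smul]
  · rw [hh, show c * β (h x y) = β (β c * h x y) by rw [map_mul, hbb], hbar, hh, hadj, hherm]

variable {σ : F ≃+* F} {β : K ≃+* K} {f : V → V → F} {τ : K →ₗ[F] F} {h : V → V → K}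
  (G : Geo σ β f τ h)
include G

theorem f_eq (x y : V) : f x y = τ (h x y) := by
  have := G.lift 1 x y
  rwa [one_smul, one_mul] at this

theorem h_add_right (x y z : V) : h x (y + z) = h x y + h x z := by
  rw [G.h_herm, G.h_add, map_add, ← G.h_herm, ← G.h_herm]

theorem h_smul_right (c : K) (x z : V) : h x (c • z) = β c * h x z := by
  rw [G.h_herm, G.h_smul, map_mul, ← G.h_herm]

/-- `h` in its first argument, as a linear map. -/
def hl (z : V) : V →ₗ[K] K where
  toFun x := h x z
  map_add' x y := G.h_add x y z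
  map_smul' c x := G.h_smul c x z

theorem hl_apply (x z : V) : hl G z x = h x z := rfl

theorem h_zero_left (z : V) : h 0 z = 0 := (hl G z).map_zero

theorem h_zero_right (z : V) : h z 0 = 0 := by rw [G.h_herm, h_zero_left G, map_zero]

theorem h_sub_left (x y z : V) : h (x - y) z = h x z - h y z := (hl G z).map_sub x y

theorem h_sub_right (x y z : V) : h x (y - z) = h x y - h x z := by
  rw [G.h_herm, h_sub_left G, map_sub, ← G.h_herm, ← G.h_herm]

theorem h_sum_left {ι : Type*} (s : Finset ι) (w : ι → V) (z : V) :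
    h (∑ i ∈ s, w i) z = ∑ i ∈ s, h (w i) z := map_sum (hl G z) w s

theorem h_sum_right {ι : Type*} (s : Finset ι) (w : ι → V) (z : V) :
    h z (∑ i ∈ s, w i) = ∑ i ∈ s, h z (w i) := by
  rw [G.h_herm, h_sum_left G, map_sum]
  exact Finset.sum_congr rfl fun i _ => (G.h_herm _ _).symm

theorem h_zero_symm {x y : V} (e : h x y = 0) : h y x = 0 := by rw [G.h_herm, e, map_zero]

theorem h_nondeg {x : V} (hx : ∀ y, h x y = 0) : x = 0 :=
  G.nondeg x fun y => by rw [f_eq G, hx, map_zero]

theorem h_zero_of_f {x y : V} (hxy : ∀ c : K, f x (c • y) = 0) : h x y = 0 := by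
  refine tau_ext G.tau_one fun c => ?_
  have := hxy (β c)
  rw [f_eq G, h_smul_right G, G.bb] at this
  rw [this, mul_zero, map_zero]

/-- Prescribed values on independent vectors. -/
theorem exists_dual {k : ℕ} {w : Fin k → V} (hw : LinearIndependent K w) (t : Fin k → K) :
    ∃ x, ∀ i, h x (w i) = t i := by
  classical
  let T : V →ₗ[K] (Fin k → K) := LinearMap.pi fun i => hl G (w i)
  suffices hT : LinearMap.range T = ⊤ by
    obtain ⟨x, hx⟩ := (LinearMap.range_eq_top.1 hT) t
    exact ⟨x, fun i => congrFun hx i⟩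
  by_contra hT
  obtain ⟨φ, hφ0, hφ⟩ := Submodule.exists_le_ker_of_lt_top _ (lt_top_iff_ne_top.2 hT)
  have hφe : ∀ v : Fin k → K, φ v = ∑ i, v i * φ (Pi.single i 1) := fun v => by
    conv_lhs => rw [pi_eq_sum_univ' v]
    simp [map_sum, map_smul]
  have hz : ∑ i, β (φ (Pi.single i 1)) • w i = 0 := by
    refine h_nondeg G fun y => ?_
    rw [G.h_herm, h_sum_right G]
    have : φ (T y) = 0 := hφ (LinearMap.mem_range_self T y)
    rw [hφe] at this
    rw [← map_zero β, ← this]
    congr 1
    refine Finset.sum_congr rfl fun i _ => ?_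
    rw [h_smul_right G, G.bb, mul_comm]
    rfl
  refine hφ0 (LinearMap.ext fun v => ?_)
  rw [hφe, LinearMap.zero_apply]
  refine Finset.sum_eq_zero fun i _ => ?_
  have := Fintype.linearIndependent_iff.1 hw _ hz i
  rw [show φ (Pi.single i 1) = 0 from β.injective (this.trans (map_zero β).symm), mul_zero]

/-- The orthogonal space. -/
def hperp (W : Submodule K V) : Submodule K V where
  carrier := {x | ∀ w ∈ W, h x w = 0}
  add_mem' {a b} ha hb := fun w hw => by rw [G.h_add, ha w hw, hb w hw, add_zero]
  zero_mem' := fun w _ => h_zero_left G w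
  smul_mem' c x hx := fun w hw => by rw [G.h_smul, hx w hw, mul_zero]

theorem mem_hperp {W : Submodule K V} {x : V} : x ∈ hperp G W ↔ ∀ w ∈ W, h x w = 0 := Iff.rfl

theorem finrank_hperp (W : Submodule K V) : finrank K (hperp G W) + finrank K W = finrank K V := by
  classical
  let b := Module.finBasis K W
  let T : V →ₗ[K] (Fin (finrank K W) → K) := LinearMap.pi fun i => hl G (b i : V)
  have hli : LinearIndependent K (fun i => (b i : V)) :=
    b.linearIndependent.map' W.subtype (Submodule.ker_subtype W)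
  have hr : LinearMap.range T = ⊤ := LinearMap.range_eq_top.2 fun t => by
    obtain ⟨x, hx⟩ := exists_dual G hli t
    exact ⟨x, funext hx⟩
  have hk : LinearMap.ker T = hperp G W := by
    refine le_antisymm (fun x hx w hw => ?_) (fun x hx => ?_)
    · have e : w = ∑ i, b.repr ⟨w, hw⟩ i • (b i : V) := by
        have := congrArg Subtype.val (b.sum_repr ⟨w, hw⟩)
        rw [Submodule.coe_sum] at this
        exact this.symm
      rw [e, h_sum_right G]
      refine Finset.sum_eq_zero fun i _ => ?_
      rw [h_smul_right G, show h x (b i : V) = 0 from congrFun hx i, mul_zero]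
    · exact funext fun i => hx _ (b i).2
  have := LinearMap.finrank_range_add_finrank_ker T
  rw [hr, hk, finrank_top, Module.finrank_fin_fun] at this
  omega

end Cfsg.Agent.ExtFieldGU22
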