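import Mathlib
import Cfsg.Agent.Lib.ExtFieldGU22Basic

/-!
Frames of Lagrangian subspaces, fixed fields of involutions, a counting lemma for zeros of quadratic maps.
-/

set_option autoImplicit false
set_option linter.unusedSectionVars false
set_option linter.style.haveILetI false
set_option maxHeartbeats 800000

namespace Cfsg.Agent.ExtFieldGU22

open Module

section FixField

variable {E : Type*} [Field E] [Fintype E]

/-- The fixed field. -/
def fx (σ : E ≃+* E) : Subfield E := (σ : E →+* E).eqLocusField (RingHom.id E)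

theorem mem_fx {σ : E ≃+* E} {a : E} : a ∈ fx σ ↔ σ a = a := Iff.rfl

theorem card_fx_sq (σ : E ≃+* E) (hinv : ∀ a, σ (σ a) = a) (hne : ∃ a, σ a ≠ a) :
    Fintype.card E = Nat.card (fx σ) ^ 2 := by
  obtain ⟨θ, -, hθ⟩ := exists_theta σ hinv hne
  let e : fx σ × fx σ → E := fun p => p.1 + θ * p.2
  have he : Function.Bijective e := by
    constructor
    · rintro ⟨a, b⟩ ⟨a', b'⟩ hab
      replace hab : (a : E) + θ * b = a' + θ * b' := hab
      have h2 := congrArg σ hab
      rw [map_add, map_add, map_mul, map_mul, mem_fx.1 a.2, mem_fx.1 b.2, mem_fx.1 a'.2, mem_fx.1 b'.2] at h2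
      have : (b : E) = b' := mul_left_cancel₀ hθ (by linear_combination hab - h2)
      exact Prod.ext (Subtype.ext (by linear_combination hab - θ * this)) (Subtype.ext this)
    · intro c
      set b := (c - σ c) / (θ - σ θ) with hb
      have hb' : σ b = b := by
        rw [hb, map_div₀, map_sub, map_sub, hinv, hinv, ← neg_sub c, ← neg_sub θ, neg_div_neg_eq]
      refine ⟨(⟨c - θ * b, mem_fx.2 ?_⟩, ⟨b, mem_fx.2 hb'⟩), sub_add_cancel c (θ * b)⟩
      rw [map_sub, map_mul, hb']
      linear_combination (div_mul_cancel₀ (c - σ c) hθ)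
  rw [← Nat.card_eq_fintype_card, ← Nat.card_eq_of_bijective e he, Nat.card_prod, sq]

theorem aut_pow (φ : E ≃+* E) : ∃ N : ℕ, ∀ x, φ x = x ^ N := by
  classical
  obtain ⟨p, hc⟩ := CharP.exists E
  haveI : Fact p.Prime := ⟨CharP.char_is_prime E p⟩
  letI : Algebra (ZMod p) E := ZMod.algebra E p
  let φ' : E ≃ₐ[ZMod p] E := AlgEquiv.ofRingEquiv (f := φ) fun r => by
    exact RingHom.congr_fun
      (RingHom.ext_zmod ((φ : E →+* E).comp (algebraMap (ZMod p) E)) (algebraMap (ZMod p) E)) r
  obtain ⟨i, hi⟩ := (FiniteField.bijective_frobeniusAlgEquivOfAlgebraic_pow (ZMod p) E).2 φ'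
  refine ⟨p ^ (i : ℕ), fun x => ?_⟩
  have h := congrArg (fun e : E ≃ₐ[ZMod p] E => e x) hi
  simp only [FiniteField.coe_frobeniusAlgEquivOfAlgebraic_iterate, AlgEquiv.coe_pow,
    Nat.card_zmod, ZMod.card] at h
  exact h.symm

theorem aut_comm (φ ψ : E ≃+* E) (x : E) : φ (ψ x) = ψ (φ x) := by
  obtain ⟨N, hN⟩ := aut_pow φ
  rw [hN, hN, map_pow]

end FixField

section Count

variable {E W X : Type*} [Field E] [Fintype E] [AddCommGroup W] [Module E W] [Finite W]
  [AddCommGroup X] [Module E X]

/-- Few quadratic equations have a number of solutions divisible by the characteristic. -/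
theorem dvd_card_zero (p : ℕ) [CharP E p] [Fact p.Prime] (B : W →ₗ[E] W →ₗ[E] X) (Y : Submodule E X)
    [FiniteDimensional E Y] (hY : ∀ v w, B v w ∈ Y) (hlt : 2 * finrank E Y < finrank E W) :
    p ∣ Nat.card {w : W // B w w = 0} := by
  classical
  haveI : Module.Finite E W := Module.Finite.of_finite
  let b := Module.finBasis E W
  let e := Module.finBasis E Y
  let c : Fin (finrank E W) → Fin (finrank E W) → Y := fun j l => ⟨B (b j) (b l), hY _ _⟩
  let P : Fin (finrank E Y) → MvPolynomial (Fin (finrank E W)) E := fun i =>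
    ∑ j, ∑ l, MvPolynomial.C (e.repr (c j l) i) * MvPolynomial.X j * MvPolynomial.X l
  have hdeg : ∀ i, (P i).totalDegree ≤ 2 := by
    intro i
    refine MvPolynomial.totalDegree_finsetSum_le fun j _ => MvPolynomial.totalDegree_finsetSum_le fun l _ => ?_
    refine (MvPolynomial.totalDegree_mul _ _).trans ?_
    refine (Nat.add_le_add (MvPolynomial.totalDegree_mul _ _) le_rfl).trans ?_
    simp [MvPolynomial.totalDegree_C, MvPolynomial.totalDegree_X]
  have heval : ∀ (x : Fin (finrank E W) → E), (∀ i, MvPolynomial.eval x (P i) = 0) ↔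
      B (∑ j, x j • b j) (∑ j, x j • b j) = 0 := by
    intro x
    have e1 : ∀ i, MvPolynomial.eval x (P i) = e.repr (∑ j, ∑ l, (x j * x l) • c j l) i := fun i => by
      simp only [P, map_sum, map_smul, Finsupp.coe_finset_sum, Finsupp.coe_smul, Finset.sum_apply,
        Pi.smul_apply, smul_eq_mul, map_mul, MvPolynomial.eval_C, MvPolynomial.eval_X]
      exact Finset.sum_congr rfl fun j _ => Finset.sum_congr rfl fun l _ => by ring
    have e2 : (((∑ j, ∑ l, (x j * x l) • c j l) : Y) : X) = B (∑ j, x j • b j) (∑ j, x j • b j) := by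
      simp only [Submodule.coe_sum, Submodule.coe_smul, c, map_sum, map_smul, LinearMap.sum_apply,
        LinearMap.smul_apply]
      rw [Finset.sum_comm]
      exact Finset.sum_congr rfl fun j _ => by
        rw [Finset.smul_sum]
        exact Finset.sum_congr rfl fun l _ => by rw [smul_smul, mul_comm]
    rw [← e2, ZeroMemClass.coe_eq_zero, ← e.repr.map_eq_zero_iff]
    simp only [e1, Finsupp.ext_iff, Finsupp.coe_zero, Pi.zero_apply]
  have hsum : ∑ i, (P i).totalDegree < Fintype.card (Fin (finrank E W)) := by
    rw [Fintype.card_fin]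
    refine lt_of_le_of_lt (Finset.sum_le_sum fun i _ => hdeg i) ?_
    simp only [Finset.sum_const, Finset.card_univ, Fintype.card_fin, smul_eq_mul]
    omega
  have h : p ∣ Nat.card {x : Fin (finrank E W) → E // ∀ i, MvPolynomial.eval x (P i) = 0} := by
    have h := char_dvd_card_solutions_of_fintype_sum_lt p hsum
    rw [Nat.card_eq_fintype_card]
    convert h
  refine h.trans (dvd_of_eq (Nat.card_congr (Equiv.subtypeEquiv b.equivFun.symm.toEquiv fun x => ?_)))
  rw [heval x]
  simp [Basis.equivFun_symm_apply]

end Count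

variable {F K V : Type*} [Field F] [Fintype F] [Field K] [Fintype K] [Algebra F K]
  [AddCommGroup V] [Module F V] [Module K V] [IsScalarTower F K V] [FiniteDimensional K V]
variable {σ : F ≃+* F} {β : K ≃+* K} {f : V → V → F} {τ : K →ₗ[F] F} {h : V → V → K}

/-- A hyperbolic basis split into two totally isotropic halves. -/
structure Frame (h : V → V → K) {m : ℕ} (a b : Fin m → V) : Prop where
  aa : ∀ i j, h (a i) (a j) = 0
  bb : ∀ i j, h (b i) (b j) = 0
  ab : ∀ i j, h (a i) (b j) = if i = j then 1 else 0
  span : ∀ x, x = ∑ i, h x (b i) • a i + ∑ i, h x (a i) • b i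

/-- The subspace spanned by one half of a frame. -/
def LA {m : ℕ} (a : Fin m → V) : Submodule K V := Submodule.span K (Set.range a)

/-- Lagrangian subspaces. -/
structure Lag (h : V → V → K) (L : Submodule K V) : Prop where
  iso : ∀ x ∈ L, ∀ y ∈ L, h x y = 0
  max : ∀ x, (∀ y ∈ L, h x y = 0) → x ∈ L

variable (G : Geo σ β f τ h)
include G

theorem Frame.ba {m : ℕ} {a b : Fin m → V} (P : Frame h a b) (i j : Fin m) :
    h (b i) (a j) = if i = j then 1 else 0 := by
  rw [G.h_herm, P.ab]
  by_cases e : j = i
  · rw [if_pos e, if_pos e.symm, map_one]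
  · rw [if_neg e, if_neg (Ne.symm e), map_zero]

theorem Frame.swap {m : ℕ} {a b : Fin m → V} (P : Frame h a b) : Frame h b a :=
  ⟨P.bb, P.aa, P.ba G, fun x => (P.span x).trans (add_comm _ _)⟩

theorem Frame.mem_iff {m : ℕ} {a b : Fin m → V} (P : Frame h a b) {x : V} :
    x ∈ LA (K := K) a ↔ ∀ i, h x (a i) = 0 := by
  constructor
  · intro hx i
    obtain ⟨c, rfl⟩ := (Submodule.mem_span_range_iff_exists_fun K).1 hx
    rw [h_sum_left G]
    exact Finset.sum_eq_zero fun j _ => by rw [G.h_smul, P.aa, mul_zero]
  · intro hx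
    rw [P.span x, (Finset.sum_eq_zero fun i _ => by rw [hx i, zero_smul] : ∑ i, h x (a i) • b i = 0),
      add_zero]
    exact Submodule.sum_mem _ fun i _ => Submodule.smul_mem _ _ (Submodule.subset_span ⟨i, rfl⟩)

theorem Frame.lag {m : ℕ} {a b : Fin m → V} (P : Frame h a b) : Lag h (LA (K := K) a) := by
  refine ⟨fun x hx y hy => ?_, fun x hx => (P.mem_iff G).2 fun i => hx _ (Submodule.subset_span ⟨i, rfl⟩)⟩
  obtain ⟨c, rfl⟩ := (Submodule.mem_span_range_iff_exists_fun K).1 hy
  rw [h_sum_right G]
  exact Finset.sum_eq_zero fun j _ => by rw [h_smul_right G, (P.mem_iff G).1 hx, mul_zero]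

/-- Every Lagrangian subspace is half of a frame. -/
theorem exists_frame {L : Submodule K V} (hL : Lag h L) :
    ∃ (m : ℕ) (a b : Fin m → V), Frame h a b ∧ LA (K := K) a = L ∧ 2 * m = finrank K V := by
  classical
  let e := Module.finBasis K L
  let a : Fin (finrank K L) → V := fun i => (e i : V)
  have ha : LA (K := K) a = L := by
    rw [LA, show Set.range a = Submodule.subtype L '' Set.range e by rw [← Set.range_comp]; rfl,
      Submodule.span_image, e.span_eq, Submodule.map_top, Submodule.range_subtype]
  have hli : LinearIndependent K a := e.linearIndependent.map' L.subtype (Submodule.ker_subtype L)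
  choose x hx using fun i : Fin (finrank K L) => exists_dual G hli (fun j => if i = j then (1 : K) else 0)
  obtain ⟨θ, hθ, -⟩ := exists_theta σ G.inv G.ne
  set t := algebraMap F K θ with ht
  have htt : t + β t = 1 := by rw [ht, G.alg, ← map_add, hθ, map_one]
  let b : Fin (finrank K L) → V := fun i => x i - ∑ j, (t * h (x i) (x j)) • a j
  have haa : ∀ i j, h (a i) (a j) = 0 := fun i j => hL.iso _ (e i).2 _ (e j).2
  have hax : ∀ j k, h (a j) (x k) = if k = j then 1 else 0 := fun j k => by
    rw [G.h_herm, hx]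
    by_cases h' : k = j
    · simp [h']
    · simp [h']
  have hab : ∀ i j, h (a i) (b j) = if i = j then 1 else 0 := fun i j => by
    rw [h_sub_right G, h_sum_right G, Finset.sum_eq_zero (fun k _ => by rw [h_smul_right G, haa, mul_zero]),
      sub_zero, hax]
    by_cases h' : i = j
    · rw [if_pos h', if_pos h'.symm]
    · rw [if_neg h', if_neg (Ne.symm h')]
  refine ⟨_, a, b, ⟨haa, fun i k => ?_, hab, fun v => ?_⟩, ha, ?_⟩
  · have e1 : h (∑ j, (t * h (x i) (x j)) • a j) (b k) = t * h (x i) (x k) := by
      rw [h_sum_left G, Finset.sum_eq_single k]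
      · rw [G.h_smul, hab, if_pos rfl, mul_one]
      · intro j _ hj; rw [G.h_smul, hab, if_neg hj, mul_zero]
      · intro hk; exact absurd (Finset.mem_univ k) hk
    have e2 : h (x i) (b k) = h (x i) (x k) - β t * h (x i) (x k) := by
      rw [h_sub_right G, h_sum_right G, Finset.sum_eq_single i]
      · rw [h_smul_right G, hx, if_pos rfl, mul_one, map_mul, ← G.h_herm]
      · intro j _ hj; rw [h_smul_right G, hx, if_neg (Ne.symm hj), mul_zero]
      · intro hk; exact absurd (Finset.mem_univ i) hk
    rw [h_sub_left G, e1, e2]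
    linear_combination (- h (x i) (x k)) * htt
  · have hz : v - ∑ i, h v (a i) • b i ∈ L := by
      refine hL.max _ fun y hy => ?_
      replace hy : y ∈ LA (K := K) a := by rw [ha]; exact hy
      obtain ⟨c, rfl⟩ := (Submodule.mem_span_range_iff_exists_fun K).1 hy
      rw [h_sum_right G]
      refine Finset.sum_eq_zero fun j _ => ?_
      rw [h_smul_right G, h_sub_left G, h_sum_left G, Finset.sum_eq_single j]
      · rw [G.h_smul, G.h_herm (a j) (b j), hab, if_pos rfl, map_one, mul_one, sub_self, mul_zero]
      · intro k _ hk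
        rw [G.h_smul, G.h_herm (a j) (b k), hab, if_neg (Ne.symm hk), map_zero, mul_zero]
      · intro hk; exact absurd (Finset.mem_univ j) hk
    replace hz : v - ∑ i, h v (a i) • b i ∈ LA (K := K) a := by rw [ha]; exact hz
    obtain ⟨c, hc⟩ := (Submodule.mem_span_range_iff_exists_fun K).1 hz
    have hv : v = ∑ i, c i • a i + ∑ i, h v (a i) • b i := by rw [hc, sub_add_cancel]
    suffices hcv : ∀ k, c k = h v (b k) by
      conv_lhs => rw [hv]
      exact congrArg (· + _) (Finset.sum_congr rfl fun i _ => by rw [hcv])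
    intro k
    conv_rhs => rw [hv]
    rw [G.h_add, h_sum_left G, h_sum_left G, Finset.sum_eq_single k]
    · rw [G.h_smul, hab, if_pos rfl, mul_one, Finset.sum_eq_zero, add_zero]
      intro j _
      rw [G.h_smul]
      have e1 : h (∑ l, (t * h (x j) (x l)) • a l) (b k) = t * h (x j) (x k) := by
        rw [h_sum_left G, Finset.sum_eq_single k]
        · rw [G.h_smul, hab, if_pos rfl, mul_one]
        · intro l _ hl; rw [G.h_smul, hab, if_neg hl, mul_zero]
        · intro hk; exact absurd (Finset.mem_univ k) hk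
      have e2 : h (x j) (b k) = h (x j) (x k) - β t * h (x j) (x k) := by
        rw [h_sub_right G, h_sum_right G, Finset.sum_eq_single j]
        · rw [h_smul_right G, hx, if_pos rfl, mul_one, map_mul, ← G.h_herm]
        · intro l _ hl; rw [h_smul_right G, hx, if_neg (Ne.symm hl), mul_zero]
        · intro hk; exact absurd (Finset.mem_univ j) hk
      rw [h_sub_left G, e1, e2]
      linear_combination (- h v (a j) * h (x j) (x k)) * htt
    · intro j _ hj; rw [G.h_smul, hab, if_neg hj, mul_zero]
    · intro hk; exact absurd (Finset.mem_univ k) hk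
  · have hp : hperp G L = L :=
      le_antisymm (fun v hv => hL.max v hv) (fun v hv y hy => hL.iso v hv y hy)
    have := finrank_hperp G L
    rw [hp] at this
    omega

/-- A totally isotropic subspace lies in a Lagrangian one, when the dimension is even. -/
theorem exists_lag_ge (heven : Even (finrank K V)) (W : Submodule K V) (hW : ∀ x ∈ W, ∀ y ∈ W, h x y = 0) :
    ∃ L, W ≤ L ∧ Lag h L := by
  classical
  obtain ⟨k, hk⟩ : ∃ k, finrank K V - finrank K W ≤ k := ⟨_, le_rfl⟩
  induction k generalizing W with
  | zero =>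
    have := Submodule.finrank_le W
    have hWtop : W = ⊤ := Submodule.eq_top_of_finrank_eq (by omega)
    exact ⟨W, le_rfl, hW, fun x _ => hWtop ▸ Submodule.mem_top⟩
  | succ k ih =>
    by_cases hmax : ∀ x, (∀ y ∈ W, h x y = 0) → x ∈ W
    · exact ⟨W, le_rfl, hW, hmax⟩
    push Not at hmax
    obtain ⟨x₀, hx₀, hx₀W⟩ := hmax
    suffices hex : ∃ u, u ∈ hperp G W ∧ u ∉ W ∧ h u u = 0 by
      obtain ⟨u, huW, hu, huu⟩ := hex
      have hlt : W < W ⊔ K ∙ u := lt_of_le_of_ne le_sup_left fun e =>
        hu (e ▸ Submodule.mem_sup_right (Submodule.mem_span_singleton_self u))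
      have := Submodule.finrank_lt_finrank_of_lt hlt
      obtain ⟨L, hL, hLag⟩ := ih (W ⊔ K ∙ u) (fun x hx y hy => by
        obtain ⟨x₁, hx₁, x₂, hx₂, rfl⟩ := Submodule.mem_sup.1 hx
        obtain ⟨y₁, hy₁, y₂, hy₂, rfl⟩ := Submodule.mem_sup.1 hy
        obtain ⟨c, rfl⟩ := Submodule.mem_span_singleton.1 hx₂
        obtain ⟨d, rfl⟩ := Submodule.mem_span_singleton.1 hy₂
        rw [G.h_add, h_add_right G, h_add_right G, hW _ hx₁ _ hy₁, h_smul_right G, G.h_smul, G.h_smul,
          h_smul_right G, huW _ hy₁, h_zero_symm G (huW _ hx₁), huu]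
        ring) (by omega)
      exact ⟨L, le_sup_left.trans hL, hLag⟩
    by_cases h0 : h x₀ x₀ = 0
    · exact ⟨x₀, hx₀, hx₀W, h0⟩
    have hWle : W ≤ hperp G W := fun x hx y hy => hW x hx y hy
    have hlt : W < hperp G W := lt_of_le_of_ne hWle fun e => hx₀W (e ▸ hx₀)
    have h1 := Submodule.finrank_lt_finrank_of_lt hlt
    have h2 := finrank_hperp G W
    obtain ⟨j, hj⟩ := heven
    let φ : hperp G W →ₗ[K] K := (hl G x₀).comp (hperp G W).subtype
    have h3 := LinearMap.finrank_range_add_finrank_ker φ
    have h4 : finrank K (LinearMap.range φ) ≤ 1 := (Submodule.finrank_le _).trans (finrank_self K).le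
    obtain ⟨y, hy, hyW⟩ : ∃ y : hperp G W, h y x₀ = 0 ∧ (y : V) ∉ W := by
      by_contra! hno
      have hsub : (LinearMap.ker φ).map (hperp G W).subtype ≤ W := by
        rintro _ ⟨y, hy, rfl⟩
        exact hno y (LinearMap.mem_ker.1 hy)
      have h5 := Submodule.finrank_mono hsub
      rw [Submodule.finrank_map_subtype_eq] at h5
      omega
    by_cases h1' : h (y : V) y = 0
    · exact ⟨y, y.2, hyW, h1'⟩
    -- norms fill the fixed field
    have hfix : ∀ z : V, β (h z z) = h z z := fun z => (G.h_herm z z).symm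
    set μ := - h (y : V) y / h x₀ x₀ with hμ
    have hμf : β μ = μ := by rw [hμ, map_div₀, map_neg, hfix, hfix]
    obtain ⟨z, hz⟩ : ∃ z, z * β z = μ := by
      obtain ⟨N, hN⟩ := aut_pow β
      have hne : ∃ c, β c ≠ c := by
        obtain ⟨a, ha⟩ := G.ne
        exact ⟨algebraMap F K a, fun e => ha ((algebraMap F K).injective (by rw [← G.alg]; exact e))⟩
      let ν : Kˣ →* Kˣ :=
        { toFun := fun u => Units.mk0 ((u : K) * β u) (mul_ne_zero u.ne_zero ((map_ne_zero β).2 u.ne_zero))
          map_one' := Units.ext (by simp)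
          map_mul' := fun u v => Units.ext (by simp [map_mul]; ring) }
      have hμ0 : μ ≠ 0 := by rw [hμ]; exact div_ne_zero (neg_ne_zero.2 h1') h0
      suffices Units.mk0 μ hμ0 ∈ ν.range by
        obtain ⟨u, hu⟩ := this
        exact ⟨u, congrArg Units.val hu⟩
      let S : Subgroup Kˣ :=
        { carrier := {u | β u = u}
          mul_mem' := fun {u v} (hu : β u = u) (hv : β v = v) => by
            show β ((u * v : Kˣ) : K) = _
            rw [Units.val_mul, map_mul, hu, hv]
          one_mem' := show β _ = _ by rw [Units.val_one, map_one]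
          inv_mem' := fun {u} (hu : β u = u) => by
            show β ((u⁻¹ : Kˣ) : K) = _
            rw [Units.val_inv_eq_inv_val, map_inv₀, hu] }
      have hle : ν.range ≤ S := by
        rintro _ ⟨u, rfl⟩
        show β ((u : K) * β u) = (u : K) * β u
        rw [map_mul, G.bb, mul_comm]
      have hS : Nat.card S = Nat.card (fx β) - 1 := by
        rw [← Nat.card_units]
        refine Nat.card_congr
          { toFun := fun u => Units.mk0 ⟨(u : Kˣ), mem_fx.2 u.2⟩ (fun e => (u : Kˣ).ne_zero (congrArg Subtype.val e))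
            invFun := fun u => ⟨Units.mk0 ((u : fx β) : K) (fun e => u.ne_zero (Subtype.ext e)), mem_fx.1 (u : fx β).2⟩
            left_inv := fun u => Subtype.ext (Units.ext rfl)
            right_inv := fun u => Units.ext rfl }
      -- the kernel has at most |fixed field| + 1 elements
      set Q := Nat.card (fx β)
      have hK : Nat.card Kˣ = (Q - 1) * (Q + 1) := by
        rw [Nat.card_units, Nat.card_eq_fintype_card, card_fx_sq β G.bb hne, mul_comm, ← Nat.sq_sub_sq, one_pow]
      have hker : Nat.card ν.ker ≤ Q + 1 := by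
        let π : Kˣ →* Kˣ :=
          { toFun := fun u => Units.mk0 ((u : K) / β u) (div_ne_zero u.ne_zero ((map_ne_zero β).2 u.ne_zero))
            map_one' := Units.ext (by simp)
            map_mul' := fun u v => Units.ext (by simp [map_mul, mul_div_mul_comm]) }
        have hπk : π.ker ≤ S := fun u hu => by
          have e := congrArg Units.val (MonoidHom.mem_ker.1 hu)
          show β u = u
          exact ((div_eq_one_iff_eq ((map_ne_zero β).2 u.ne_zero)).1 e).symm
        have hSk : S ≤ π.ker := fun u hu => MonoidHom.mem_ker.2 (Units.ext (by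
          show (u : K) / β u = 1
          rw [show β u = u from hu, div_self u.ne_zero]))
        have h5 := π.ker.card_mul_index
        rw [Subgroup.index_ker, le_antisymm hπk hSk, hS, hK] at h5
        have hQ : 2 ≤ Q := Finite.one_lt_card (α := fx β)
        have h6 : Nat.card π.range = Q + 1 := Nat.eq_of_mul_eq_mul_left (by omega) h5
        have h7 : π.range ≤ ν.ker := by
          rintro _ ⟨u, rfl⟩
          refine MonoidHom.mem_ker.2 (Units.ext ?_)
          show (u : K) / β u * β ((u : K) / β u) = 1
          have := u.ne_zero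
          have := (map_ne_zero β).2 u.ne_zero
          rw [map_div₀, G.bb]
          field_simp
        have h8 : ν.ker ≤ π.range := fun u hu => by
          have e : (u : K) * β u = 1 := congrArg Units.val (MonoidHom.mem_ker.1 hu)
          by_cases h' : 1 + (u : K) = 0
          · obtain ⟨a, ha, ha'⟩ := exists_theta β G.bb hne
            refine ⟨Units.mk0 (a - β a) ha', Units.ext ?_⟩
            show (a - β a) / β (a - β a) = u
            rw [map_sub, G.bb, ← neg_sub a (β a), div_neg, div_self ha', ← eq_neg_of_add_eq_zero_right h']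
          · refine ⟨Units.mk0 (1 + u) h', Units.ext ?_⟩
            show (1 + (u : K)) / β (1 + u) = u
            rw [div_eq_iff ((map_ne_zero β).2 h'), map_add, map_one]
            linear_combination - e
        rw [le_antisymm h8 h7, h6]
      have h5 := ν.ker.card_mul_index
      rw [Subgroup.index_ker, hK] at h5
      have hrange : Nat.card S ≤ Nat.card ν.range := by
        rw [hS]
        by_contra hlt
        push Not at hlt
        have := Nat.mul_lt_mul_of_le_of_lt hker hlt (Nat.succ_pos _)
        rw [h5, mul_comm] at this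
        exact lt_irrefl _ this
      rw [Subgroup.eq_of_le_of_card_ge hle hrange]
      exact hμf
    refine ⟨z • x₀ + (y : V), add_mem (Submodule.smul_mem _ _ hx₀) y.2, fun hmem => ?_, ?_⟩
    · have h5 : h (z • x₀ + (y : V)) x₀ = 0 := h_zero_symm G (hx₀ _ hmem)
      rw [G.h_add, G.h_smul, hy, add_zero, mul_eq_zero] at h5
      rcases h5 with h5 | h5
      · rw [h5, zero_mul] at hz
        rw [hμ] at hz
        exact div_ne_zero (neg_ne_zero.2 h1') h0 hz.symm
      · exact h0 h5
    · rw [G.h_add, h_add_right G, h_add_right G, G.h_smul, h_smul_right G, G.h_smul, h_smul_right G, hy,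
        h_zero_symm G hy]
      have e : μ * h x₀ x₀ = - h (y : V) y := by rw [hμ, div_mul_cancel₀ _ h0]
      linear_combination h x₀ x₀ * hz + e

end Cfsg.Agent.ExtFieldGU22
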