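import Mathlib
import Cfsg.Agent.Lib.ExtFieldGU22Frame

/-!
An overgroup M of the K-linear special isometries: for each Lagrangian K-subspace L, either M contains all
transvections centred in L or the idealiser of the root group of L in M is K-linear.
-/

set_option autoImplicit false
set_option linter.unusedSectionVars false
set_option linter.style.haveILetI false
set_option maxHeartbeats 800000

namespace Cfsg.Agent.ExtFieldGU22

open Module

variable {F K V : Type*} [Field F] [Fintype F] [Field K] [Fintype K] [Algebra F K]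
  [AddCommGroup V] [Module F V] [Module K V] [IsScalarTower F K V] [FiniteDimensional K V]
  [FiniteDimensional F V]

variable (K) in
/-- M is a group of isometries containing the K-linear isometries of determinant one. -/
structure Over (f : V → V → F) (M : Subgroup (V ≃ₗ[F] V)) : Prop where
  pres : ∀ g ∈ M, ∀ x y, f (g x) (g y) = f x y
  lin : ∀ g : V ≃ₗ[F] V, (∀ (c : K) x, g (c • x) = c • g x) → (∀ x y, f (g x) (g y) = f x y) →
    LinearEquiv.det g = 1 → g ∈ M

theorem mul_app (g k : V ≃ₗ[F] V) (x : V) : (g * k) x = g (k x) := rfl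

theorem inv_app (g : V ≃ₗ[F] V) (x : V) : g⁻¹ (g x) = x := g.symm_apply_apply x

theorem app_inv (g : V ≃ₗ[F] V) (x : V) : g (g⁻¹ x) = x := g.apply_symm_apply x

/-- The parameters of elements of M centralising L and V / L. -/
structure Mem (M : Subgroup (V ≃ₗ[F] V)) (L : Submodule K V) (N : V →ₗ[F] V) : Prop where
  range : ∀ x, N x ∈ L
  kill : ∀ x ∈ L, N x = 0
  elt : ∃ t ∈ M, ∀ x, t x = x + N x

/-- Their span over F. -/
def WF (M : Subgroup (V ≃ₗ[F] V)) (L : Submodule K V) : Submodule F (V →ₗ[F] V) :=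
  Submodule.span F {N | Mem M L N}

/-- Left idealiser. -/
def Ed (M : Subgroup (V ≃ₗ[F] V)) (L : Submodule K V) (A : V →ₗ[F] V) : Prop :=
  ∀ N ∈ WF M L, A.comp N ∈ WF M L

/-- The idealiser is K-linear on L. -/
def Rig (M : Subgroup (V ≃ₗ[F] V)) (L : Submodule K V) : Prop :=
  ∀ A : V →ₗ[F] V, (∀ x ∈ L, A x ∈ L) → Ed M L A → ∀ (c : K), ∀ x ∈ L, A (c • x) = c • A x

/-- All transvections centred in L. -/
def Full (M : Subgroup (V ≃ₗ[F] V)) (f : V → V → F) (σ : F ≃+* F) (L : Submodule K V) : Prop :=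
  ∀ u ∈ L, ∀ t : F, σ t = -t → ∃ g ∈ M, ∀ x, g x = x + (t * f x u) • u

theorem WF_range {M : Subgroup (V ≃ₗ[F] V)} {L : Submodule K V} {N : V →ₗ[F] V} (hN : N ∈ WF M L) (x : V) :
    N x ∈ L := by
  induction hN using Submodule.span_induction with
  | mem N hN => exact hN.range x
  | zero => exact zero_mem L
  | add N N' _ _ h1 h2 => exact add_mem h1 h2
  | smul a N _ h1 => exact (L.restrictScalars F).smul_mem a h1

theorem WF_kill {M : Subgroup (V ≃ₗ[F] V)} {L : Submodule K V} {N : V →ₗ[F] V} (hN : N ∈ WF M L) {x : V}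
    (hx : x ∈ L) : N x = 0 := by
  induction hN using Submodule.span_induction with
  | mem N hN => exact hN.kill x hx
  | zero => rfl
  | add N N' _ _ h1 h2 => rw [LinearMap.add_apply, h1, h2, add_zero]
  | smul a N _ h1 => rw [LinearMap.smul_apply, h1, smul_zero]

/-- Conjugation of parameters. -/
theorem conj_mem {M : Subgroup (V ≃ₗ[F] V)} {L L' : Submodule K V} {g : V ≃ₗ[F] V} (hg : g ∈ M)
    (h1 : ∀ x ∈ L, g x ∈ L') (h2 : ∀ x ∈ L', g⁻¹ x ∈ L) {N : V →ₗ[F] V} (hN : N ∈ WF M L) :
    g.toLinearMap.comp (N.comp (g⁻¹ : V ≃ₗ[F] V).toLinearMap) ∈ WF M L' := by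
  let Φ : (V →ₗ[F] V) →ₗ[F] (V →ₗ[F] V) :=
    { toFun := fun N => g.toLinearMap.comp (N.comp (g⁻¹ : V ≃ₗ[F] V).toLinearMap)
      map_add' := fun a b => by ext x; simp
      map_smul' := fun a b => by ext x; simp }
  have : (WF M L).map Φ ≤ WF M L' := by
    rw [WF, Submodule.map_span, Submodule.span_le]
    rintro _ ⟨N, ⟨hr, hk, t, ht, htx⟩, rfl⟩
    refine Submodule.subset_span ⟨fun x => h1 _ (hr _), fun x hx => ?_, g * t * g⁻¹,
      M.mul_mem (M.mul_mem hg ht) (M.inv_mem hg), fun x => ?_⟩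
    · show g (N (g⁻¹ x)) = 0
      rw [hk _ (h2 x hx), map_zero]
    · rw [mul_app, mul_app, htx, map_add, app_inv]
      rfl
  exact this (Submodule.mem_map_of_mem hN)

variable {σ : F ≃+* F} {β : K ≃+* K} {f : V → V → F} {τ : K →ₗ[F] F} {h : V → V → K}
  (G : Geo σ β f τ h) {M : Subgroup (V ≃ₗ[F] V)} (hM : Over K f M)
include G hM

/-- A K-linear square zero skew map gives an element of M. -/
theorem exists_root (N : V →ₗ[K] V) (sk : ∀ x y, h (N x) y + h x (N y) = 0) (nn : ∀ x, N (N x) = 0) :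
    ∃ g ∈ M, ∀ x, g x = x + N x := by
  let g : V ≃ₗ[F] V := LinearEquiv.ofLinear ((LinearMap.id + N).restrictScalars F)
    ((LinearMap.id - N).restrictScalars F) (LinearMap.ext fun x => by simp [nn])
    (LinearMap.ext fun x => by simp [nn])
  have hg : ∀ x, g x = x + N x := fun x => rfl
  have hiso : ∀ x y, h (g x) (g y) = h x y := fun x y => by
    have e : h (N x) (N y) = 0 := by
      have := sk x (N y)
      rwa [nn, h_zero_right G, add_zero] at this
    rw [hg, hg, G.h_add, h_add_right G, h_add_right G, e]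
    linear_combination sk x y
  refine ⟨g, hM.lin g (fun c x => ?_) (fun x y => by rw [f_eq G, hiso, ← f_eq G]) ?_, hg⟩
  · rw [hg, hg, map_smul, smul_add]
  obtain ⟨p, hc⟩ := CharP.exists F
  haveI : Fact p.Prime := ⟨CharP.char_is_prime F p⟩
  have hpow : ∀ (k : ℕ) x, (g ^ k) x = x + k • N x := by
    intro k
    induction k with
    | zero => intro x; rw [pow_zero, zero_smul, add_zero]; rfl
    | succ k ih =>
      intro x
      rw [pow_succ', mul_app, ih, hg, map_add, map_nsmul, nn, smul_zero, add_zero, succ_nsmul, add_assoc]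
  have h1 : g ^ p = 1 := LinearEquiv.ext fun x => by
    rw [hpow, ← Nat.cast_smul_eq_nsmul F, CharP.cast_eq_zero, zero_smul, add_zero]
    rfl
  have h2 : ((LinearEquiv.det g : Fˣ) : F) ^ p = 1 := by
    rw [← Units.val_pow_eq_pow_val, ← map_pow, h1, map_one, Units.val_one]
  have h3 : (((LinearEquiv.det g : Fˣ) : F) - 1) ^ p = 0 := by rw [sub_pow_char, h2, one_pow, sub_self]
  exact Units.ext (sub_eq_zero.1 (eq_zero_of_pow_eq_zero h3))

section Frame

variable {m : ℕ} {a b : Fin m → V} (P : Frame h a b)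
include P

theorem h_comb_a (α γ : Fin m → K) (k : Fin m) : h (∑ i, α i • a i + ∑ i, γ i • b i) (a k) = γ k := by
  rw [G.h_add, h_sum_left G, h_sum_left G,
    Finset.sum_eq_zero (fun i _ => by rw [G.h_smul, P.aa, mul_zero]), zero_add, Finset.sum_eq_single k]
  · rw [G.h_smul, P.ba G, if_pos rfl, mul_one]
  · intro j _ hj; rw [G.h_smul, P.ba G, if_neg hj, mul_zero]
  · intro hk; exact absurd (Finset.mem_univ k) hk

theorem h_comb_b (α γ : Fin m → K) (k : Fin m) : h (∑ i, α i • a i + ∑ i, γ i • b i) (b k) = α k := by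
  rw [add_comm]
  exact h_comb_a G hM (P.swap G) γ α k

/-- Shears. -/
theorem exists_shear {c : K} (hc : β c = -c) :
    ∃ g ∈ M, ∀ x, g x = x + c • ∑ i, h x (a i) • a i := by
  let N : V →ₗ[K] V := c • ∑ i, (hl G (a i)).smulRight (a i)
  have hN : ∀ x, N x = c • ∑ i, h x (a i) • a i := fun x => by simp [N, hl_apply]
  have hL : ∀ x, N x ∈ LA (K := K) a := fun x => by
    rw [hN]
    exact Submodule.smul_mem _ _ (Submodule.sum_mem _ fun i _ => Submodule.smul_mem _ _
      (Submodule.subset_span ⟨i, rfl⟩))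
  have hz : ∀ x, N (N x) = 0 := fun x => by
    rw [hN (N x), Finset.sum_eq_zero fun i _ => by rw [(P.mem_iff G).1 (hL x) i, zero_smul], smul_zero]
  obtain ⟨g, hg, hgx⟩ := exists_root G hM N (fun x y => by
    rw [hN, hN, G.h_smul, h_smul_right G, h_sum_left G, h_sum_right G, hc, Finset.mul_sum, Finset.mul_sum,
      ← Finset.sum_add_distrib]
    refine Finset.sum_eq_zero fun i _ => ?_
    rw [G.h_smul, h_smul_right G, ← G.h_herm y (a i), G.h_herm y (a i)]
    ring) hz
  exact ⟨g, hg, fun x => by rw [hgx, hN]⟩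

/-- A Weyl element of skew parameter. -/
theorem exists_w {c : K} (hc : β c = -c) (hc0 : c ≠ 0) :
    ∃ g ∈ M, ∀ α γ : Fin m → K, g (∑ i, α i • a i + ∑ i, γ i • b i) =
      ∑ i, (c * γ i) • a i + ∑ i, (-(α i) / c) • b i := by
  obtain ⟨u, hu, hux⟩ := exists_shear G hM P hc
  obtain ⟨d, hd, hdx⟩ := exists_shear G hM (P.swap G) (c := -c⁻¹)
    (by rw [map_neg, map_inv₀, hc, inv_neg])
  have eu : ∀ α γ : Fin m → K, u (∑ i, α i • a i + ∑ i, γ i • b i) =
      ∑ i, (α i + c * γ i) • a i + ∑ i, γ i • b i := fun α γ => by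
    rw [hux]
    simp only [h_comb_a G hM P, Finset.smul_sum, smul_smul, add_smul, Finset.sum_add_distrib]
    abel
  have ed : ∀ α γ : Fin m → K, d (∑ i, α i • a i + ∑ i, γ i • b i) =
      ∑ i, α i • a i + ∑ i, (γ i + -c⁻¹ * α i) • b i := fun α γ => by
    rw [hdx]
    simp only [h_comb_b G hM P, Finset.smul_sum, smul_smul, add_smul, Finset.sum_add_distrib]
    abel
  refine ⟨u * d * u, M.mul_mem (M.mul_mem hu hd) hu, fun α γ => ?_⟩
  rw [mul_app, mul_app, eu, ed, eu]
  congr 1 <;> refine Finset.sum_congr rfl fun i _ => ?_ <;> congr 1 <;> field_simp <;> ring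

/-- The torus of the fixed field. -/
theorem exists_torus {l : K} (hl0 : l ≠ 0) (hl1 : β l = l) :
    ∃ g ∈ M, ∀ α γ : Fin m → K, g (∑ i, α i • a i + ∑ i, γ i • b i) =
      ∑ i, (l * α i) • a i + ∑ i, (γ i / l) • b i := by
  obtain ⟨ε, hε, hε0⟩ : ∃ ε : K, β ε = -ε ∧ ε ≠ 0 := by
    obtain ⟨θ, -, hθ⟩ := exists_theta σ G.inv G.ne
    refine ⟨algebraMap F K (θ - σ θ), ?_, (map_ne_zero _).2 hθ⟩
    rw [G.alg, map_sub, G.inv, map_sub, map_sub, neg_sub]
  obtain ⟨g₁, hg₁, e₁⟩ := exists_w G hM P (c := l * ε) (by rw [map_mul, hl1, hε, mul_neg])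
    (mul_ne_zero hl0 hε0)
  obtain ⟨g₂, hg₂, e₂⟩ := exists_w G hM P (c := -ε) (by rw [map_neg, hε]) (neg_ne_zero.2 hε0)
  refine ⟨g₁ * g₂, M.mul_mem hg₁ hg₂, fun α γ => ?_⟩
  rw [mul_app, e₂, e₁]
  congr 1 <;> refine Finset.sum_congr rfl fun i _ => ?_ <;> congr 1 <;> field_simp

/-- K-linear monomials lie in the span. -/
theorem mono_mem (i j : Fin m) (t : K) :
    ((hl G (a i)).smulRight (t • a j)).restrictScalars F ∈ WF M (LA (K := K) a) := by
  let S : K → (V →ₗ[K] V) := fun s => (hl G (a i)).smulRight (s • a j) - (hl G (a j)).smulRight (β s • a i)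
  have hS : ∀ s, (S s).restrictScalars F ∈ WF M (LA (K := K) a) := by
    intro s
    have hSx : ∀ x, S s x = h x (a i) • s • a j - h x (a j) • β s • a i := fun x => rfl
    have hr : ∀ x, S s x ∈ LA (K := K) a := fun x => by
      rw [hSx]
      exact sub_mem (Submodule.smul_mem _ _ (Submodule.smul_mem _ _ (Submodule.subset_span ⟨j, rfl⟩)))
        (Submodule.smul_mem _ _ (Submodule.smul_mem _ _ (Submodule.subset_span ⟨i, rfl⟩)))
    have hk : ∀ x ∈ LA (K := K) a, S s x = 0 := fun x hx => by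
      rw [hSx, (P.mem_iff G).1 hx, (P.mem_iff G).1 hx, zero_smul, zero_smul, sub_zero]
    obtain ⟨g, hg, hgx⟩ := exists_root G hM (S s) (fun x y => by
      rw [hSx, hSx, h_sub_left G, h_sub_right G]
      simp only [G.h_smul, h_smul_right G, G.bb, ← G.h_herm y]
      ring) (fun x => hk _ (hr x))
    exact Submodule.subset_span ⟨hr, hk, g, hg, hgx⟩
  obtain ⟨θ, -, hθ⟩ := exists_theta σ G.inv G.ne
  set u := (θ - σ θ)⁻¹
  have := (WF M (LA (K := K) a)).smul_mem u
    (sub_mem (hS (algebraMap F K θ * t)) ((WF M (LA (K := K) a)).smul_mem (σ θ) (hS t)))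
  convert this using 1
  refine LinearMap.ext fun x => ?_
  simp only [LinearMap.restrictScalars_apply, LinearMap.smul_apply, LinearMap.sub_apply, S,
    LinearMap.smulRight_apply, hl_apply, map_mul, G.alg, ← algebraMap_smul K (σ θ),
    ← algebraMap_smul K u, smul_sub, smul_smul]
  have e : algebraMap F K u * (algebraMap F K θ - algebraMap F K (σ θ)) = 1 := by
    rw [← map_sub, ← map_mul, inv_mul_cancel₀ hθ, map_one]
  match_scalars
  · linear_combination (- h x (a i) * t) * e
  · ring

/-- A K-linear map from V / L to L is in the span. -/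
theorem lin_mem {N : V →ₗ[F] V} (hr : ∀ x, N x ∈ LA (K := K) a) (hk : ∀ x ∈ LA (K := K) a, N x = 0)
    (hN : ∀ (c : K) x, N (c • x) = c • N x) : N ∈ WF M (LA (K := K) a) := by
  have e : N = ∑ i, ∑ j, ((hl G (a i)).smulRight (h (N (b i)) (b j) • a j)).restrictScalars F := by
    refine LinearMap.ext fun x => ?_
    simp only [LinearMap.sum_apply, LinearMap.restrictScalars_apply, LinearMap.smulRight_apply, hl_apply]
    conv_lhs => rw [P.span x]
    rw [map_add, hk _ (Submodule.sum_mem _ fun i _ => Submodule.smul_mem _ _ (Submodule.subset_span ⟨i, rfl⟩)),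
      zero_add, map_sum]
    refine Finset.sum_congr rfl fun i _ => ?_
    rw [hN, ← Finset.smul_sum]
    congr 1
    conv_lhs => rw [P.span (N (b i))]
    rw [(Finset.sum_eq_zero fun k _ => by rw [(P.mem_iff G).1 (hr _) k, zero_smul] :
      ∑ k, h (N (b i)) (a k) • b k = 0), add_zero]
  rw [e]
  exact Submodule.sum_mem _ fun i _ => Submodule.sum_mem _ fun j _ => mono_mem G hM P i j _

/-- Off-diagonal monomials idealise. -/
theorem e_ed {i j : Fin m} (hij : i ≠ j) (μ : K) :
    Ed M (LA (K := K) a) (((hl G (b j)).smulRight (μ • a i)).restrictScalars F) := by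
  intro N hN
  set L := LA (K := K) a with hL
  set P0 : V →ₗ[K] V := (hl G (b j)).smulRight (μ • a i) with hP0
  let R0 : V →ₗ[K] V := (hl G (μ • a i)).smulRight (b j)
  have hPx : ∀ x, P0 x = h x (b j) • μ • a i := fun x => rfl
  have hRx : ∀ x, R0 x = h x (μ • a i) • b j := fun x => rfl
  have hai : μ • a i ∈ L := Submodule.smul_mem _ _ (Submodule.subset_span ⟨i, rfl⟩)
  have hRL : ∀ y ∈ L, R0 y = 0 := fun y hy => by
    rw [hRx, h_smul_right G, (P.mem_iff G).1 hy, mul_zero, zero_smul]
  have h01 : h (μ • a i) (b j) = 0 := by rw [G.h_smul, P.ab, if_neg hij, mul_zero]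
  have h02 : h (μ • a i) (μ • a i) = 0 := by rw [G.h_smul, h_smul_right G, P.aa, mul_zero, mul_zero]
  have h03 : h (b j) (μ • a i) = 0 := h_zero_symm G h01
  have h04 : h (a i) (b j) = 0 := by rw [P.ab, if_neg hij]
  have h05 : h (a i) (μ • a i) = 0 := by rw [h_smul_right G, P.aa, mul_zero]
  have hT : ∀ s : F, ∃ t ∈ M, ∀ x, t x = x + (algebraMap F K s • P0 x - β (algebraMap F K s) • R0 x) := by
    intro s
    set c := algebraMap F K s
    obtain ⟨g, hg, hgx⟩ := exists_root G hM (c • P0 - β c • R0)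
      (fun x y => by
        simp only [LinearMap.sub_apply, LinearMap.smul_apply, hPx, hRx, h_sub_left G, h_sub_right G, G.h_smul,
          h_smul_right G, ← G.h_herm, G.bb, map_mul, smul_smul]
        ring)
      (fun x => by
        simp only [LinearMap.sub_apply, LinearMap.smul_apply, hPx, hRx, map_sub, map_smul, h01, h02, h03, h04, h05, P.bb,
          zero_smul, smul_zero, sub_zero])
    exact ⟨g, hg, fun x => by rw [hgx]; rfl⟩
  let Pf := P0.restrictScalars F
  let Rf := R0.restrictScalars F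
  have key : ∀ s : F, s • (Pf.comp N) + σ s • (N.comp Rf) + (s * σ s) • (Pf.comp (N.comp Rf)) ∈ WF M L := by
    intro s
    obtain ⟨t, ht, htx⟩ := hT s
    have hLmap : ∀ x ∈ L, t x ∈ L := fun x hx => by
      rw [htx, hRL x hx, smul_zero, sub_zero, hPx]
      exact add_mem hx (Submodule.smul_mem _ _ (Submodule.smul_mem _ _ hai))
    have hnn : ∀ x, P0 (P0 x) = 0 ∧ P0 (R0 x) = 0 ∧ R0 (P0 x) = 0 ∧ R0 (R0 x) = 0 := fun x => by
      refine ⟨?_, ?_, ?_, ?_⟩ <;> simp [hPx, hRx, G.h_smul, h01, h02, h03, h04, h05, P.bb, smul_smul]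
    have htinv : ∀ x, t⁻¹ x = x - (algebraMap F K s • P0 x - β (algebraMap F K s) • R0 x) := fun x => by
      apply t.injective
      rw [app_inv, htx]
      simp only [map_sub, map_smul, (hnn x).1, (hnn x).2.1, (hnn x).2.2.1, (hnn x).2.2.2, smul_zero, sub_zero]
      abel
    have hLinv : ∀ x ∈ L, t⁻¹ x ∈ L := fun x hx => by
      rw [htinv, hRL x hx, smul_zero, sub_zero, hPx]
      exact sub_mem hx (Submodule.smul_mem _ _ (Submodule.smul_mem _ _ hai))
    have := sub_mem (conj_mem ht hLmap hLinv hN) hN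
    convert this using 1
    refine LinearMap.ext fun x => ?_
    have eP : N (P0 x) = 0 := WF_kill hN (by rw [hPx]; exact Submodule.smul_mem _ _ hai)
    simp only [LinearMap.add_apply, LinearMap.sub_apply, LinearMap.smul_apply, LinearMap.comp_apply,
      LinearEquiv.coe_coe, htinv, htx, Pf, Rf, LinearMap.restrictScalars_apply, G.alg, algebraMap_smul, map_sub,
      map_add, LinearMap.map_smul_of_tower, LinearEquiv.map_smul, eP, smul_zero, sub_zero,
      hRL _ (WF_range hN x), hRL _ (WF_range hN (R0 x)), map_zero]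
    module
  obtain ⟨θ, hθ1, hθ⟩ := exists_theta σ G.inv G.ne
  have hS : Pf.comp (N.comp Rf) ∈ WF M L := by
    have := sub_mem (sub_mem (key (θ + 1)) (key θ)) (key 1)
    convert this using 1
    simp only [map_add, map_one]
    match_scalars
    all_goals first
      | ring1
      | linear_combination -hθ1
      | linear_combination hθ1
  have h1 := sub_mem (key θ) ((WF M L).smul_mem (θ * σ θ) hS)
  have h2 := sub_mem (key 1) hS
  have h3 := (WF M L).smul_mem (θ - σ θ)⁻¹ (sub_mem h1 ((WF M L).smul_mem (σ θ) h2))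
  convert h3 using 1
  simp only [map_one, one_mul, one_smul]
  match_scalars
  all_goals first
    | ring1
    | linear_combination -(inv_mul_cancel₀ hθ)
    | linear_combination (inv_mul_cancel₀ hθ)

/-- Scalars idealise, first proof: off-diagonal monomials exist. -/
theorem scalar_ed_of_two (hm : 2 ≤ m) (c : K) {N : V →ₗ[F] V} (hN : N ∈ WF M (LA (K := K) a)) :
    ((c • LinearMap.id : V →ₗ[K] V).restrictScalars F).comp N ∈ WF M (LA (K := K) a) := by
  haveI : Nontrivial (Fin m) := Fin.nontrivial_iff_two_le.2 hm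
  choose o ho using fun i : Fin m => exists_ne i
  have := Submodule.sum_mem (WF M (LA (K := K) a)) (t := Finset.univ)
    (f := fun i => (((hl G (b (o i))).smulRight (c • a i)).restrictScalars F).comp
      ((((hl G (b i)).smulRight ((1 : K) • a (o i))).restrictScalars F).comp N))
    fun i _ => e_ed G hM P (Ne.symm (ho i)) c _ (e_ed G hM P (ho i) 1 N hN)
  convert this using 1
  refine LinearMap.ext fun x => ?_
  simp only [LinearMap.sum_apply, LinearMap.comp_apply, LinearMap.restrictScalars_apply, LinearMap.smul_apply,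
    LinearMap.id_apply, LinearMap.smulRight_apply, hl_apply, one_smul, G.h_smul, P.ab, if_pos, mul_one]
  conv_lhs => rw [P.span (N x)]
  rw [(Finset.sum_eq_zero fun k _ => by rw [(P.mem_iff G).1 (WF_range hN x) k, zero_smul] :
      ∑ k, h (N x) (a k) • b k = 0), add_zero, Finset.smul_sum]
  exact Finset.sum_congr rfl fun i _ => smul_comm c _ _

/-- Scalars idealise, second proof: a scalar of M whose square is not in F. -/
theorem scalar_ed_of_unit {u : K} (hu : β u = u⁻¹) (hN1 : Algebra.norm F u = 1)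
    (hu2 : ∀ t : F, u * u ≠ algebraMap F K t) (c : K) {N : V →ₗ[F] V} (hN : N ∈ WF M (LA (K := K) a)) :
    ((c • LinearMap.id : V →ₗ[K] V).restrictScalars F).comp N ∈ WF M (LA (K := K) a) := by
  classical
  set L := LA (K := K) a with hL
  have hu0 : u ≠ 0 := fun e => hu2 0 (by rw [e, mul_zero, map_zero])
  let sc : K → (V →ₗ[F] V) := fun d => (d • LinearMap.id : V →ₗ[K] V).restrictScalars F
  have hscx : ∀ d x, sc d x = d • x := fun d x => rfl
  -- two-sided maps
  let tw : K → K → (V →ₗ[F] V) → (V →ₗ[F] V) := fun d e N => (sc d).comp (N.comp (sc e))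
  have htw : ∀ d e (N : V →ₗ[F] V) x, tw d e N x = d • N (e • x) := fun d e N x => rfl
  have hmul : ∀ l : K, β l = l → ∀ N ∈ WF M L, tw l l N ∈ WF M L := by
    intro l hl N hN
    rcases eq_or_ne l 0 with rfl | hl0
    · convert zero_mem (WF M L) using 1
      exact LinearMap.ext fun x => by rw [htw, zero_smul, LinearMap.zero_apply]
    obtain ⟨t, ht, htx⟩ := exists_torus G hM P hl0 hl
    have hmem : ∀ x ∈ L, t x = l • x := fun x hx => by
      have hx' : x = ∑ i, h x (b i) • a i + ∑ i : Fin m, (0 : K) • b i := by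
        conv_lhs => rw [P.span x]
        simp [(P.mem_iff G).1 hx]
      conv_lhs => rw [hx']
      rw [htx]
      conv_rhs => rw [hx']
      simp [Finset.smul_sum, smul_smul]
    have hLinv : ∀ x ∈ L, t⁻¹ x ∈ L := fun x hx => by
      have : t⁻¹ x = l⁻¹ • x := by
        apply t.injective
        rw [app_inv, hmem _ (Submodule.smul_mem _ _ hx), smul_smul, mul_inv_cancel₀ hl0, one_smul]
      rw [this]
      exact Submodule.smul_mem _ _ hx
    have := conj_mem ht (fun x hx => by rw [hmem x hx]; exact Submodule.smul_mem _ _ hx) hLinv hN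
    convert this using 1
    refine LinearMap.ext fun x => ?_
    show l • N (l • x) = t (N (t⁻¹ x))
    rw [hmem _ (WF_range hN _)]
    congr 1
    have hx : t⁻¹ x = ∑ i, (h x (b i) / l) • a i + ∑ i, (h x (a i) * l) • b i := by
      apply t.injective
      rw [app_inv, htx]
      conv_lhs => rw [P.span x]
      congr 1 <;> refine Finset.sum_congr rfl fun i _ => ?_ <;> congr 1 <;> field_simp
    have hk : ∀ (α : Fin m → K), N (∑ i, α i • a i) = 0 := fun α => WF_kill hN
      (Submodule.sum_mem _ fun i _ => Submodule.smul_mem _ _ (Submodule.subset_span ⟨i, rfl⟩))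
    rw [hx, map_add, hk, zero_add]
    conv_lhs => rw [P.span x, smul_add, Finset.smul_sum, Finset.smul_sum]
    simp only [smul_smul, map_add, hk, zero_add, mul_comm l]
  let Φ : K → K → (V →ₗ[F] V) → (V →ₗ[F] V) := fun d e N => tw d e N + tw e d N
  have hΦ : ∀ d e, β d = d → β e = e → ∀ N ∈ WF M L, Φ d e N ∈ WF M L := by
    intro d e hd he N hN
    have := sub_mem (sub_mem (hmul (d + e) (by rw [map_add, hd, he]) N hN) (hmul d hd N hN)) (hmul e he N hN)
    convert this using 1
    refine LinearMap.ext fun x => ?_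
    simp only [Φ, LinearMap.add_apply, LinearMap.sub_apply, htw, add_smul, map_add, smul_add]
    abel
  -- extend to all pairs
  obtain ⟨θ, -, hθ⟩ := exists_theta σ G.inv G.ne
  have hdec : ∀ d : K, ∃ d₁ d₂, β d₁ = d₁ ∧ β d₂ = d₂ ∧ d = d₁ + algebraMap F K θ * d₂ := by
    intro d
    set t := algebraMap F K θ
    have ht : t - β t ≠ 0 := by rw [G.alg, ← map_sub]; exact (map_ne_zero _).2 hθ
    set d₂ := (d - β d) / (t - β t) with hd₂
    have h2 : β d₂ = d₂ := by
      rw [hd₂, map_div₀, map_sub, map_sub, G.bb, G.bb, ← neg_sub d, ← neg_sub t, neg_div_neg_eq]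
    refine ⟨d - t * d₂, d₂, ?_, h2, (sub_add_cancel d _).symm⟩
    rw [map_sub, map_mul, h2]
    linear_combination div_mul_cancel₀ (d - β d) ht
  have hΦall : ∀ d e, ∀ N ∈ WF M L, Φ d e N ∈ WF M L := by
    intro d e N hN
    obtain ⟨d₁, d₂, hd₁, hd₂, rfl⟩ := hdec d
    obtain ⟨e₁, e₂, he₁, he₂, rfl⟩ := hdec e
    have := add_mem (add_mem (hΦ d₁ e₁ hd₁ he₁ N hN) ((WF M L).smul_mem θ (hΦ d₂ e₁ hd₂ he₁ N hN)))
      (add_mem ((WF M L).smul_mem θ (hΦ d₁ e₂ hd₁ he₂ N hN))
        ((WF M L).smul_mem (θ * θ) (hΦ d₂ e₂ hd₂ he₂ N hN)))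
    convert this using 1
    refine LinearMap.ext fun x => ?_
    simp only [Φ, LinearMap.add_apply, LinearMap.smul_apply, htw, ← Algebra.smul_def, add_smul, smul_assoc,
      map_add, LinearMap.map_smul_of_tower, smul_add, smul_smul]
    simp only [smul_comm θ, smul_smul]
    module
  -- conjugation by the scalar
  have hunit : ∀ d : K, β d = d⁻¹ → d ≠ 0 → Algebra.norm F d = 1 → ∀ N ∈ WF M L, tw d d⁻¹ N ∈ WF M L := by
    intro d hd hd0 hdn N hN
    let g : V ≃ₗ[F] V := LinearEquiv.ofLinear (sc d) (sc d⁻¹)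
      (LinearMap.ext fun x => by simp [hscx, smul_smul, mul_inv_cancel₀ hd0])
      (LinearMap.ext fun x => by simp [hscx, smul_smul, inv_mul_cancel₀ hd0])
    have hgx : ∀ x, g x = d • x := fun x => rfl
    have hg : g ∈ M := by
      refine hM.lin g (fun e x => by rw [hgx, hgx, smul_comm]) (fun x y => ?_) (Units.ext ?_)
      · rw [hgx, hgx, f_eq G, f_eq G, G.h_smul, h_smul_right G, hd, mul_inv_cancel_left₀ hd0]
      · rw [LinearEquiv.coe_det, Units.val_one]
        show LinearMap.det (sc d) = 1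
        rw [LinearMap.det_restrictScalars, LinearMap.det_smul, LinearMap.det_id, mul_one, map_pow, hdn, one_pow]
    exact conj_mem hg (fun x hx => Submodule.smul_mem _ _ hx) (fun x hx => Submodule.smul_mem _ _ hx) hN
  have hu' : β u⁻¹ = u⁻¹⁻¹ := by rw [map_inv₀, hu]
  have hn' : Algebra.norm F u⁻¹ = 1 := by
    have h1 := map_mul (Algebra.norm F) u u⁻¹
    rwa [mul_inv_cancel₀ hu0, map_one, hN1, one_mul, eq_comm] at h1
  let Δ : (V →ₗ[F] V) → (V →ₗ[F] V) := fun N => tw u u⁻¹ N - tw u⁻¹ u N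
  have hΔ : ∀ N ∈ WF M L, Δ N ∈ WF M L := fun N hN =>
    sub_mem (hunit u hu hu0 hN1 N hN) (by simpa using hunit u⁻¹ hu' (inv_ne_zero hu0) hn' N hN)
  have hleft : ∀ d, ∀ N ∈ WF M L, (sc d).comp (Δ N) ∈ WF M L := by
    intro d N hN
    have := sub_mem (hΦall (u * d) u⁻¹ N hN)
      (hunit u⁻¹ hu' (inv_ne_zero hu0) hn' _ (hΦall d 1 N hN))
    convert this using 1
    refine LinearMap.ext fun x => ?_
    simp only [Δ, Φ, LinearMap.comp_apply, LinearMap.sub_apply, LinearMap.add_apply, hscx, htw, inv_inv, one_smul,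
      smul_add, smul_sub, smul_smul, mul_comm d, one_mul]
    abel
  -- the map Δ on the span
  let Δl : WF M L →ₗ[F] WF M L :=
    { toFun := fun N => ⟨Δ N, hΔ _ N.2⟩
      map_add' := fun N N' => Subtype.ext (LinearMap.ext fun x => by
        simp [Δ, htw, smul_add]; abel)
      map_smul' := fun s N => Subtype.ext (LinearMap.ext fun x => by
        simp [Δ, htw, smul_sub, smul_comm s]) }
  have hΔl : ∀ N : WF M L, ((Δl N : WF M L) : V →ₗ[F] V) = Δ N := fun N => rfl
  haveI : Finite V := Module.finite_of_finite K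
  haveI : Finite (V →ₗ[F] V) := Finite.of_injective (fun g => (g : V → V)) DFunLike.coe_injective
  have hcomm : ∀ N : WF M L, Δl N = 0 → ∀ x, (u * u) • (N : V →ₗ[F] V) x = (N : V →ₗ[F] V) ((u * u) • x) := by
    intro N hN x
    have := LinearMap.congr_fun (congrArg Subtype.val hN) (u • x)
    rw [hΔl] at this
    simp only [Δ, LinearMap.sub_apply, htw, ZeroMemClass.coe_zero, LinearMap.zero_apply, sub_eq_zero,
      smul_smul, inv_mul_cancel₀ hu0, one_smul] at this
    rw [mul_smul, this, ← smul_smul, smul_inv_smul₀ hu0]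
  have hlin : ∀ N : WF M L, Δl N = 0 → ∀ (d : K) x, (N : V →ₗ[F] V) (d • x) = d • (N : V →ₗ[F] V) x := by
    intro N hN
    let S : Subalgebra F K :=
      { carrier := {d | ∀ x, (N : V →ₗ[F] V) (d • x) = d • (N : V →ₗ[F] V) x}
        mul_mem' := fun {d e} hd he x => by rw [mul_smul, hd, he, ← mul_smul]
        one_mem' := fun x => by rw [one_smul, one_smul]
        add_mem' := fun {d e} hd he x => by rw [add_smul, map_add, hd, he, ← add_smul]
        zero_mem' := fun x => by rw [zero_smul, zero_smul, map_zero]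
        algebraMap_mem' := fun s x => by rw [algebraMap_smul, algebraMap_smul, map_smul] }
    haveI := Subalgebra.isSimpleOrder_of_finrank_prime F K G.prime
    have hmem : u * u ∈ S := fun x => (hcomm N hN x).symm
    rcases eq_bot_or_eq_top S with e | e
    · rw [e] at hmem
      obtain ⟨t, ht⟩ := Algebra.mem_bot.1 hmem
      exact absurd ht.symm (hu2 t)
    · exact fun d x => (e.symm ▸ Algebra.mem_top : d ∈ S) x
  have hinj : ∀ N : WF M L, Δl (Δl N) = 0 → Δl N = 0 := by
    intro N hN
    have hl := hlin _ hN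
    set D := ((Δl N : WF M L) : V →ₗ[F] V) with hD
    set w := u * u with hw
    have hw0 : w ≠ 0 := mul_ne_zero hu0 hu0
    -- the commutator with w
    have hc : ∀ y, w • (N : V →ₗ[F] V) y = (N : V →ₗ[F] V) (w • y) + w • D y := fun y => by
      have e1 : D (u • y) = u • (N : V →ₗ[F] V) y - u⁻¹ • (N : V →ₗ[F] V) (w • y) := by
        rw [hD, hΔl]
        simp only [Δ, LinearMap.sub_apply, htw, smul_smul, inv_mul_cancel₀ hu0, one_smul, hw]
      rw [hl] at e1
      have := congrArg (u • ·) e1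
      simp only [smul_sub, smul_smul, mul_inv_cancel₀ hu0, one_smul] at this
      rw [hw, this]; abel
    have hk : ∀ (k : ℕ) y, w ^ k • (N : V →ₗ[F] V) y = (N : V →ₗ[F] V) (w ^ k • y) + k • (w ^ k • D y) := by
      intro k
      induction k with
      | zero => intro y; simp
      | succ k ih =>
        intro y
        rw [pow_succ', mul_smul, ih, smul_add, hc, hl, smul_comm w k, succ_nsmul, smul_smul, smul_smul]
        abel
    refine Subtype.ext (LinearMap.ext fun y => ?_)
    have hQ := hk (Fintype.card K) y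
    rw [FiniteField.pow_card, hc] at hQ
    rw [← Nat.cast_smul_eq_nsmul K (Fintype.card K), FiniteField.cast_card_eq_zero, zero_smul, add_zero,
      add_eq_left, smul_eq_zero] at hQ
    exact hQ.resolve_left hw0
  -- every element is a value of Δ plus a K-linear one
  have hdis : Disjoint (LinearMap.range Δl) (LinearMap.ker Δl) := by
    rw [Submodule.disjoint_def]
    rintro _ ⟨N, rfl⟩ hN
    exact hinj N (LinearMap.mem_ker.1 hN)
  have hsup : LinearMap.range Δl ⊔ LinearMap.ker Δl = ⊤ := by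
    refine Submodule.eq_top_of_finrank_eq ?_
    have := Submodule.finrank_sup_add_finrank_inf_eq (LinearMap.range Δl) (LinearMap.ker Δl)
    rw [hdis.eq_bot, finrank_bot, add_zero, LinearMap.finrank_range_add_finrank_ker] at this
    exact this
  obtain ⟨_, ⟨N₁, rfl⟩, N₂, hN₂, hsum⟩ :=
    Submodule.mem_sup.1 (hsup.symm ▸ Submodule.mem_top : (⟨N, hN⟩ : WF M L) ∈ _)
  have e : N = Δ (N₁ : V →ₗ[F] V) + (N₂ : V →ₗ[F] V) := (congrArg Subtype.val hsum).symm
  rw [e, LinearMap.comp_add]
  refine add_mem (hleft c _ N₁.2) (lin_mem G hM P (fun x => Submodule.smul_mem _ _ (WF_range N₂.2 x))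
    (fun x hx => ?_) (fun d x => ?_))
  · show c • (N₂ : V →ₗ[F] V) x = 0
    rw [WF_kill N₂.2 hx, smul_zero]
  · show c • (N₂ : V →ₗ[F] V) (d • x) = d • c • (N₂ : V →ₗ[F] V) x
    rw [hlin N₂ (LinearMap.mem_ker.1 hN₂) d x, smul_comm]

end Frame

end Cfsg.Agent.ExtFieldGU22
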