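import Mathlib
import Cfsg.Agent.Lib.ExtFieldGU22Idl

/-!
The dichotomy at a Lagrangian K-subspace, and semilinearity of maps between rigid Lagrangian subspaces.
-/

set_option autoImplicit false
set_option linter.unusedSectionVars false
set_option linter.style.haveILetI false
set_option maxHeartbeats 800000

namespace Cfsg.Agent.ExtFieldGU22

open Module

variable {F K V : Type*} [Field F] [Fintype F] [Field K] [Fintype K] [Algebra F K]
  [AddCommGroup V] [Module F V] [Module K V] [IsScalarTower F K V] [FiniteDimensional K V]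
  [FiniteDimensional F V]

/-- Scalars idealise the root group of L. -/
def ScalarEd (M : Subgroup (V ≃ₗ[F] V)) (L : Submodule K V) : Prop :=
  ∀ c : K, Ed M L ((c • LinearMap.id : V →ₗ[K] V).restrictScalars F)

variable {σ : F ≃+* F} {β : K ≃+* K} {f : V → V → F} {τ : K →ₗ[F] F} {h : V → V → K}
  (G : Geo σ β f τ h) {M : Subgroup (V ≃ₗ[F] V)} (hM : Over K f M)
include G hM

section Frame

variable {m : ℕ} {a b : Fin m → V} (P : Frame h a b) (hK : ScalarEd M (LA (K := K) a))
include P hK

/-- What commutes with the idealiser is a scalar. -/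
theorem scalar_of_comm (Z : V →ₗ[F] V) (hZ : ∀ x ∈ LA (K := K) a, Z x ∈ LA (K := K) a)
    (hcomm : ∀ A : V →ₗ[F] V, (∀ x ∈ LA (K := K) a, A x ∈ LA (K := K) a) → Ed M (LA (K := K) a) A →
      ∀ x ∈ LA (K := K) a, Z (A x) = A (Z x)) :
    ∃ d : K, ∀ x ∈ LA (K := K) a, Z x = d • x := by
  classical
  have hai : ∀ i, a i ∈ LA (K := K) a := fun i => Submodule.subset_span ⟨i, rfl⟩
  have hlin : ∀ (c : K), ∀ x ∈ LA (K := K) a, Z (c • x) = c • Z x := fun c x hx =>
    hcomm _ (fun y hy => Submodule.smul_mem _ c hy) (hK c) x hx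
  have hexp : ∀ x ∈ LA (K := K) a, x = ∑ i, h x (b i) • a i := fun x hx => by
    conv_lhs => rw [P.span x]
    simp [(P.mem_iff G).1 hx]
  have hab1 : ∀ i, h (a i) (b i) = 1 := fun i => by rw [P.ab, if_pos rfl]
  have he : ∀ i j, i ≠ j → Z (a i) = h (Z (a j)) (b j) • a i := fun i j hij => by
    have := hcomm _ (fun y _ => Submodule.smul_mem _ _ (Submodule.smul_mem _ _ (hai i)))
      (e_ed G hM P hij 1) (a j) (hai j)
    simpa [hl_apply, hab1] using this
  rcases Nat.eq_zero_or_pos m with rfl | hm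
  · exact ⟨0, fun x hx => by
      rw [zero_smul]
      have : x = 0 := (hexp x hx).trans (Finset.sum_of_isEmpty _)
      rw [this, map_zero]⟩
  refine ⟨h (Z (a ⟨0, hm⟩)) (b ⟨0, hm⟩), fun x hx => ?_⟩
  set i₀ : Fin m := ⟨0, hm⟩
  have hdiag : ∀ i, Z (a i) = h (Z (a i₀)) (b i₀) • a i := fun i => by
    by_cases hi : i = i₀
    · subst hi
      by_cases hne : ∃ j, j ≠ i₀
      · obtain ⟨j, hj⟩ := hne
        have h1 := he i₀ j (Ne.symm hj)
        have h2 := congrArg (fun v => h v (b i₀)) h1
        simp only [G.h_smul, hab1, mul_one] at h2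
        conv_lhs => rw [h1, ← h2]
      · push Not at hne
        conv_lhs => rw [hexp _ (hZ _ (hai i₀))]
        exact Finset.sum_eq_single_of_mem i₀ (Finset.mem_univ _) fun j _ hj => absurd (hne j) hj
    · exact he i i₀ hi
  conv_lhs => rw [hexp x hx, map_sum]
  conv_rhs => rw [hexp x hx, Finset.smul_sum]
  refine Finset.sum_congr rfl fun i _ => ?_
  rw [hlin _ _ (hai i), hdiag, smul_comm]

/-- Either all transvections centred in L, or the idealiser is K-linear. -/
theorem full_or_rig : Full M f σ (LA (K := K) a) ∨ Rig M (LA (K := K) a) := by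
  classical
  by_cases hR : Rig M (LA (K := K) a)
  · exact Or.inr hR
  left
  rw [Rig] at hR
  push Not at hR
  obtain ⟨A₀, hA₀L, hA₀, c₀, x₀, hx₀, hne⟩ := hR
  set L := LA (K := K) a with hLdef
  have hai : ∀ i, a i ∈ L := fun i => Submodule.subset_span ⟨i, rfl⟩
  -- the algebra induced on L
  let R : Subalgebra F (Module.End F L) :=
    { carrier := {A | ∃ B : V →ₗ[F] V, (∀ x : L, B x = A x) ∧ Ed M L B}
      mul_mem' := by
        rintro A A' ⟨B, hB, hBe⟩ ⟨B', hB', hB'e⟩
        refine ⟨B.comp B', fun x => ?_, fun N hN => ?_⟩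
        · rw [LinearMap.comp_apply, hB', hB]; rfl
        · rw [LinearMap.comp_assoc]; exact hBe _ (hB'e N hN)
      one_mem' := ⟨LinearMap.id, fun x => rfl, fun N hN => hN⟩
      add_mem' := by
        rintro A A' ⟨B, hB, hBe⟩ ⟨B', hB', hB'e⟩
        refine ⟨B + B', fun x => ?_, fun N hN => ?_⟩
        · rw [LinearMap.add_apply, hB, hB']; rfl
        · rw [LinearMap.add_comp]; exact add_mem (hBe N hN) (hB'e N hN)
      zero_mem' := ⟨0, fun x => rfl, fun N _ => by rw [LinearMap.zero_comp]; exact zero_mem _⟩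
      algebraMap_mem' := fun s => ⟨s • LinearMap.id, fun x => rfl, fun N hN => by
        rw [LinearMap.smul_comp]; exact (WF M L).smul_mem s hN⟩ }
  have hres : ∀ B : V →ₗ[F] V, (hB : ∀ x ∈ L, B x ∈ L) → Ed M L B →
      (LinearMap.codRestrict (L.restrictScalars F) (B.comp (L.restrictScalars F).subtype)
        (fun x => hB x x.2) : Module.End F L) ∈ R := fun B hB hBe => ⟨B, fun x => rfl, hBe⟩
  let sc : K → V →ₗ[F] V := fun c => (c • LinearMap.id : V →ₗ[K] V).restrictScalars F
  have hsc : ∀ c, ∀ x ∈ L, sc c x ∈ L := fun c x hx => Submodule.smul_mem _ c hx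
  -- L is a simple module
  haveI : Nontrivial L := ⟨⟨⟨x₀, hx₀⟩, 0, fun e => hne (by
    have : x₀ = 0 := congrArg Subtype.val e
    rw [this, smul_zero, map_zero, smul_zero])⟩⟩
  have hexp : ∀ x ∈ L, x = ∑ i, h x (b i) • a i := fun x hx => by
    conv_lhs => rw [P.span x]
    simp [(P.mem_iff G).1 hx]
  haveI : IsSimpleModule R L := by
    refine (isSimpleModule_iff R L).2 ⟨fun S => ?_⟩
    by_cases hS : S = ⊥
    · exact Or.inl hS
    right
    have hSK : ∀ (c : K) (x : L), x ∈ S → c • x ∈ S := fun c x hx =>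
      S.smul_mem (⟨_, hres (sc c) (hsc c) (hK c)⟩ : R) hx
    obtain ⟨x, hx, hx0⟩ := Submodule.exists_mem_ne_zero_of_ne_bot hS
    obtain ⟨j, hj⟩ : ∃ j, h (x : V) (b j) ≠ 0 := by
      by_contra! hz
      refine hx0 (Subtype.ext ((hexp _ x.2).trans ?_))
      exact Finset.sum_eq_zero fun i _ => by rw [hz, zero_smul]
    have hi : ∀ i, i ≠ j → (⟨a i, hai i⟩ : L) ∈ S := fun i hij => by
      have := hSK (h (x : V) (b j))⁻¹ _ (S.smul_mem (⟨_, hres _
        (fun y _ => Submodule.smul_mem _ _ (Submodule.smul_mem _ _ (hai i))) (e_ed G hM P hij 1)⟩ : R) hx)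
      convert this using 1
      refine Subtype.ext ?_
      show a i = (h (x : V) (b j))⁻¹ • (hl G (b j) (x : V) • (1 : K) • a i)
      rw [hl_apply, one_smul, inv_smul_smul₀ hj]
    have hall : ∀ i, (⟨a i, hai i⟩ : L) ∈ S := fun i => by
      by_cases hij : i = j
      · subst hij
        by_cases hne' : ∃ k, k ≠ i
        · obtain ⟨k, hk⟩ := hne'
          have := S.smul_mem (⟨_, hres _
            (fun y _ => Submodule.smul_mem _ _ (Submodule.smul_mem _ _ (hai i))) (e_ed G hM P (Ne.symm hk) 1)⟩ : R)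
            (hi k hk)
          convert this using 1
          refine Subtype.ext ?_
          show a i = hl G (b k) (a k) • (1 : K) • a i
          rw [hl_apply, P.ab, if_pos rfl, one_smul, one_smul]
        · push Not at hne'
          have := hSK (h (x : V) (b i))⁻¹ x hx
          convert this using 1
          refine Subtype.ext ?_
          show a i = (h (x : V) (b i))⁻¹ • (x : V)
          conv_rhs => arg 2; rw [hexp _ x.2]
          rw [Finset.sum_eq_single_of_mem i (Finset.mem_univ _) fun k _ hk => absurd (hne' k) hk,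
            inv_smul_smul₀ hj]
      · exact hi i hij
    refine eq_top_iff.2 fun y _ => ?_
    have e : y = ∑ i, h (y : V) (b i) • (⟨a i, hai i⟩ : L) := Subtype.ext (by
      rw [Submodule.coe_sum]; exact hexp _ y.2)
    rw [e]
    exact S.sum_mem fun i _ => hSK _ _ (hall i)
  -- its endomorphisms are the scalars of F
  have hend : ∀ φ : Module.End R L, ∃ s : F, ∀ x : L, φ x = s • x := by
    intro φ
    obtain ⟨C₀, hC₀⟩ := exists_isCompl (L.restrictScalars F)
    let φF : (L.restrictScalars F) →ₗ[F] V :=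
      { toFun := fun x => ((φ ⟨x, x.2⟩ : L) : V)
        map_add' := fun x y => congrArg Subtype.val (φ.map_add ⟨x, x.2⟩ ⟨y, y.2⟩)
        map_smul' := fun s x => congrArg Subtype.val
          (φ.map_smul (algebraMap F R s) ⟨x, x.2⟩) }
    let Z : V →ₗ[F] V := LinearMap.ofIsCompl hC₀ φF 0
    have hZ : ∀ x : L, Z x = φ x := fun x => LinearMap.ofIsCompl_left_apply hC₀ (⟨x, x.2⟩ : L.restrictScalars F)
    obtain ⟨d, hd⟩ := scalar_of_comm G hM P hK Z (fun x hx => by rw [hZ ⟨x, hx⟩]; exact Subtype.prop _)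
      (fun A hA hAe x hx => by
        rw [hZ ⟨A x, hA x hx⟩, hZ ⟨x, hx⟩]
        exact congrArg Subtype.val (φ.map_smul (⟨_, hres A hA hAe⟩ : R) ⟨x, hx⟩))
    let S : Subalgebra F K :=
      { carrier := {c | ∀ x ∈ L, A₀ (c • x) = c • A₀ x}
        mul_mem' := fun {p q} hp hq x hx => by
          rw [mul_smul, hp _ (Submodule.smul_mem _ _ hx), hq x hx, ← mul_smul]
        one_mem' := fun x _ => by rw [one_smul, one_smul]
        add_mem' := fun {p q} hp hq x hx => by rw [add_smul, map_add, hp x hx, hq x hx, ← add_smul]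
        zero_mem' := fun x _ => by rw [zero_smul, zero_smul, map_zero]
        algebraMap_mem' := fun s x _ => by rw [algebraMap_smul, algebraMap_smul, map_smul] }
    haveI := Subalgebra.isSimpleOrder_of_finrank_prime F K G.prime
    have hdS : d ∈ S := fun x hx => by
      rw [← hd x hx, ← hd _ (hA₀L x hx), hZ ⟨A₀ x, hA₀L x hx⟩, hZ ⟨x, hx⟩]
      exact (congrArg Subtype.val (φ.map_smul (⟨_, hres A₀ hA₀L hA₀⟩ : R) ⟨x, hx⟩)).symm
    rcases eq_bot_or_eq_top S with e | e
    · rw [e] at hdS
      obtain ⟨s, hs⟩ := Algebra.mem_bot.1 hdS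
      refine ⟨s, fun x => Subtype.ext ?_⟩
      rw [← hZ, hd _ x.2, ← hs, algebraMap_smul]
      rfl
    · exact absurd ((e.symm ▸ Algebra.mem_top : c₀ ∈ S) x₀ hx₀) hne
  -- density
  have hRall : ∀ A : Module.End F L, A ∈ R := by
    intro A
    haveI : Finite V := Module.finite_of_finite K
    haveI : Fintype L := Fintype.ofFinite L
    let A' : Module.End (Module.End R L) L :=
      { toFun := A
        map_add' := A.map_add
        map_smul' := fun φ x => by
          obtain ⟨s, hs⟩ := hend φ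
          show A (φ x) = φ (A x)
          rw [hs, hs, map_smul] }
    obtain ⟨⟨B, hB⟩, hr⟩ := jacobson_density (R := R) A' Finset.univ
    convert hB using 1
    exact LinearMap.ext fun x => hr x (Finset.mem_univ x)
  -- every map from V / L to L is in the span
  have hWF : ∀ N : V →ₗ[F] V, (∀ x, N x ∈ L) → (∀ x ∈ L, N x = 0) → N ∈ WF M L := by
    intro N hNr hNk
    let N₀ : V →ₗ[F] V := (∑ i, (hl G (a i)).smulRight ((1 : K) • a i)).restrictScalars F
    have hN₀ : N₀ ∈ WF M L := by
      have e : N₀ = ∑ i, ((hl G (a i)).smulRight ((1 : K) • a i)).restrictScalars F :=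
        LinearMap.ext fun x => by simp [N₀]
      rw [e]
      exact Submodule.sum_mem _ fun i _ => mono_mem G hM P i i 1
    have hN₀x : ∀ x, N₀ x = ∑ i, h x (a i) • a i := fun x => by simp [N₀, hl_apply]
    let D₀ : V →ₗ[K] V := ∑ i, (hl G (b i)).smulRight (b i)
    let A : V →ₗ[F] V := N.comp (D₀.restrictScalars F)
    obtain ⟨B, hB, hBe⟩ := hRall (LinearMap.codRestrict (L.restrictScalars F)
      (A.comp (L.restrictScalars F).subtype) (fun x => hNr _))
    have := hBe N₀ hN₀
    convert this using 1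
    refine LinearMap.ext fun x => ?_
    have hmem : N₀ x ∈ L := WF_range hN₀ x
    rw [LinearMap.comp_apply, hB ⟨N₀ x, hmem⟩]
    show N x = N (D₀ (N₀ x))
    have e1 : D₀ (N₀ x) = ∑ i, h x (a i) • b i := by
      simp only [D₀, LinearMap.sum_apply, LinearMap.smulRight_apply, hl_apply]
      refine Finset.sum_congr rfl fun i _ => ?_
      congr 1
      rw [hN₀x, h_sum_left G, Finset.sum_eq_single i]
      · rw [G.h_smul, P.ab, if_pos rfl, mul_one]
      · intro j _ hj; rw [G.h_smul, P.ab, if_neg hj, mul_zero]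
      · intro hk; exact absurd (Finset.mem_univ i) hk
    rw [e1]
    conv_lhs => rw [P.span x, map_add, hNk _ (Submodule.sum_mem _ fun i _ => Submodule.smul_mem _ _ (hai i)),
      zero_add]
  -- the real form
  obtain ⟨θ, hθ1, hθ⟩ := exists_theta σ G.inv G.ne
  have hzero : Mem M L 0 := ⟨fun x => zero_mem L, fun x _ => rfl, 1, M.one_mem, fun x => by simp⟩
  have hadd : ∀ {N N'}, Mem M L N → Mem M L N' → Mem M L (N + N') := by
    rintro N N' ⟨hr, hk, t, ht, htx⟩ ⟨hr', hk', t', ht', htx'⟩
    refine ⟨fun x => add_mem (hr x) (hr' x), fun x hx => by rw [LinearMap.add_apply, hk x hx, hk' x hx, add_zero],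
      t * t', M.mul_mem ht ht', fun x => ?_⟩
    rw [mul_app, htx', htx, map_add, hk _ (hr' x), add_zero, LinearMap.add_apply]
    abel
  have hneg : ∀ {N}, Mem M L N → Mem M L (-N) := by
    rintro N ⟨hr, hk, t, ht, htx⟩
    refine ⟨fun x => neg_mem (hr x), fun x hx => by rw [LinearMap.neg_apply, hk x hx, neg_zero],
      t⁻¹, M.inv_mem ht, fun x => ?_⟩
    apply t.injective
    rw [app_inv, htx, LinearMap.neg_apply, map_add, map_neg, hk _ (hr x)]
    abel
  have hsq : ∀ (e : F) {N}, σ e = e → Mem M L N → Mem M L ((e * e) • N) := by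
    intro e N he hN
    rcases eq_or_ne e 0 with rfl | he0
    · rw [mul_zero, zero_smul]; exact hzero
    set l := algebraMap F K e
    obtain ⟨t, ht, htx⟩ := exists_torus G hM P (l := l) ((map_ne_zero _).2 he0) (by rw [G.alg, he])
    have hx : ∀ x, t x = ∑ i, (l * h x (b i)) • a i + ∑ i, (h x (a i) / l) • b i := fun x => by
      conv_lhs => rw [P.span x]
      exact htx _ _
    have hmemL : ∀ x ∈ L, t x = e • x := fun x hx' => by
      rw [hx, ← algebraMap_smul K e x]
      conv_rhs => rw [hexp x hx', Finset.smul_sum]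
      simp [(P.mem_iff G).1 hx', smul_smul, l]
    obtain ⟨hr, hk, s, hs, hsx⟩ := hN
    refine ⟨fun x => (L.restrictScalars F).smul_mem _ (hr x), fun x hx' => by
      rw [LinearMap.smul_apply, hk x hx', smul_zero], t * s * t⁻¹,
      M.mul_mem (M.mul_mem ht hs) (M.inv_mem ht), fun x => ?_⟩
    rw [mul_app, mul_app, hsx, map_add, app_inv, hmemL _ (hr _), LinearMap.smul_apply, mul_smul]
    congr 2
    conv_rhs => rw [← app_inv t x, hx (t⁻¹ x)]
    rw [map_add N, hk _ (Submodule.sum_mem _ fun i _ => Submodule.smul_mem _ _ (hai i)), zero_add, ← map_smul,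
      ← algebraMap_smul K e, Finset.smul_sum]
    simp only [smul_smul]
    conv_lhs => rw [P.span (t⁻¹ x), map_add, hk _ (Submodule.sum_mem _ fun i _ => Submodule.smul_mem _ _ (hai i)),
      zero_add]
    congr 1
    refine Finset.sum_congr rfl fun i _ => ?_
    congr 1
    have : l ≠ 0 := (map_ne_zero _).2 he0
    rw [show algebraMap F K e = l from rfl, mul_div_cancel₀ _ this]
  have hsmul : ∀ (e : F) {N}, σ e = e → Mem M L N → Mem M L (e • N) := by
    intro e N he hN
    by_cases h2 : (2 : F) = 0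
    · obtain ⟨r, hr⟩ := FiniteField.isSquare_of_char_two (by
        by_contra hc; exact Ring.two_ne_zero hc h2) e
      have hr' : σ r = r := by
        have h3 : σ r * σ r = r * r := by rw [← map_mul, ← hr, he]
        have : (σ r - r) * (σ r - r) = 0 := by linear_combination h3 + (r * r - σ r * r) * h2
        exact sub_eq_zero.1 (mul_self_eq_zero.1 this)
      rw [hr]
      exact hsq r hr' hN
    · haveI : NeZero (2 : F) := ⟨h2⟩
      have h1 := hsq ((e + 1) / 2) (by rw [map_div₀, map_add, he, map_one, map_ofNat]) hN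
      have h2' := hsq ((e - 1) / 2) (by rw [map_div₀, map_sub, he, map_one, map_ofNat]) hN
      have := hadd h1 (hneg h2')
      convert this using 1
      rw [← sub_eq_add_neg, ← sub_smul]
      congr 1
      field_simp
      ring
  have hsplit : ∀ N ∈ WF M L, ∃ N₁ N₂, Mem M L N₁ ∧ Mem M L N₂ ∧ N = N₁ + θ • N₂ := by
    intro N hN
    induction hN using Submodule.span_induction with
    | mem N hN => exact ⟨N, 0, hN, hzero, by rw [smul_zero, add_zero]⟩
    | zero => exact ⟨0, 0, hzero, hzero, by rw [smul_zero, add_zero]⟩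
    | add N N' _ _ h1 h2 =>
      obtain ⟨A, B, hA, hB, rfl⟩ := h1
      obtain ⟨A', B', hA', hB', rfl⟩ := h2
      exact ⟨A + A', B + B', hadd hA hA', hadd hB hB', by rw [smul_add]; abel⟩
    | smul s N _ h1 =>
      obtain ⟨A, B, hA, hB, rfl⟩ := h1
      set p := (s - σ s) / (θ - σ θ) with hp
      have hp' : σ p = p := by
        rw [hp, map_div₀, map_sub, map_sub, G.inv, G.inv, ← neg_sub s, ← neg_sub θ, neg_div_neg_eq]
      set o := s - θ * p with ho
      have ho' : σ o = o := by
        rw [ho, map_sub, map_mul, hp']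
        linear_combination div_mul_cancel₀ (s - σ s) hθ
      have hn : σ (θ * σ θ) = θ * σ θ := by rw [map_mul, G.inv, mul_comm]
      refine ⟨o • A + -((θ * σ θ) • (p • B)), p • A + o • B + p • B,
        hadd (hsmul o ho' hA) (hneg (hsmul _ hn (hsmul p hp' hB))),
        hadd (hadd (hsmul p hp' hA) (hsmul o ho' hB)) (hsmul p hp' hB), ?_⟩
      rw [show s = o + θ * p by rw [ho]; ring]
      match_scalars
      · ring
      · linear_combination (p * θ) * hθ1
  intro u hu t ht
  let φ : V →ₗ[F] F :=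
    { toFun := fun x => f x u
      map_add' := fun x y => by rw [f_eq G, f_eq G, f_eq G, G.h_add, map_add]
      map_smul' := fun s x => by
        rw [f_eq G, f_eq G, ← algebraMap_smul K s x, G.h_smul, ← Algebra.smul_def, map_smul, RingHom.id_apply] }
  let N : V →ₗ[F] V := (t • φ).smulRight u
  have hN : ∀ x, N x = (t * f x u) • u := fun x => rfl
  have hiso := (P.lag G).iso
  have hmem := hWF N (fun x => (L.restrictScalars F).smul_mem _ hu)
    (fun x hx => by rw [hN, f_eq G, hiso x hx u hu, map_zero, mul_zero, zero_smul])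
  obtain ⟨N₁, N₂, h1, h2, hsum⟩ := hsplit N hmem
  have hskew : ∀ {A : V →ₗ[F] V}, Mem M L A → ∀ x y, f (A x) y + f x (A y) = 0 := by
    rintro A ⟨hr, hk, g, hg, hgx⟩ x y
    have := hM.pres g hg x y
    rw [hgx, hgx, f_eq G, G.h_add, h_add_right G, h_add_right G, hiso _ (hr x) _ (hr y), add_zero, map_add,
      map_add, ← f_eq G, ← f_eq G, ← f_eq G] at this
    linear_combination this
  have hf_smul : ∀ (s : F) x y, f (s • x) y = s * f x y := fun s x y => by
    rw [f_eq G, ← algebraMap_smul K s x, G.h_smul, ← Algebra.smul_def, map_smul, smul_eq_mul, ← f_eq G]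
  have hherm : ∀ x y, f y x = σ (f x y) := fun x y => by rw [f_eq G, f_eq G, G.h_herm, G.tau_bar]
  have hf_add : ∀ x y z, f (x + y) z = f x z + f y z := fun x y z => by
    rw [f_eq G, G.h_add, map_add, ← f_eq G, ← f_eq G]
  have hN₂ : N₂ = 0 := by
    refine LinearMap.ext fun x => G.nondeg _ fun y => ?_
    have e : f (N x) y + f x (N y) = 0 := by
      rw [hN, hN, hf_smul, hherm ((t * f y u) • u) x, hf_smul, map_mul, map_mul, ht, ← hherm, ← hherm]
      ring
    rw [hsum, LinearMap.add_apply, LinearMap.add_apply, LinearMap.smul_apply, LinearMap.smul_apply, hf_add,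
      hherm (N₁ y + θ • N₂ y) x, hf_add, hf_smul, hf_smul, map_add, map_mul, ← hherm, ← hherm] at e
    have e' : (θ - σ θ) * f (N₂ x) y = 0 := by linear_combination e - hskew h1 x y - σ θ * hskew h2 x y
    exact (mul_eq_zero.1 e').resolve_left hθ
  obtain ⟨g, hg, hgx⟩ := h1.elt
  refine ⟨g, hg, fun x => ?_⟩
  rw [hgx, ← hN, hsum, hN₂, smul_zero, add_zero]

end Frame

/-- Rigid Lagrangian subspaces are mapped semilinearly. -/
theorem semi_of_rig {L₁ : Submodule K V} (hR : Rig M L₁) {m : ℕ} {a b : Fin m → V} (P : Frame h a b)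
    (hK : ScalarEd M (LA (K := K) a)) {g : V ≃ₗ[F] V} (hg : g ∈ M) (h1 : ∀ x ∈ L₁, g x ∈ LA (K := K) a)
    (h2 : ∀ x ∈ LA (K := K) a, g⁻¹ x ∈ L₁) (c : K) : ∃ d : K, ∀ x ∈ L₁, g (c • x) = d • g x := by
  set L := LA (K := K) a
  let Z : V →ₗ[F] V := g.toLinearMap.comp (((c • LinearMap.id : V →ₗ[K] V).restrictScalars F).comp
    (g⁻¹ : V ≃ₗ[F] V).toLinearMap)
  have hZ : ∀ y, Z y = g (c • g⁻¹ y) := fun y => rfl
  obtain ⟨d, hd⟩ := scalar_of_comm G hM P hK Z
    (fun x hx => h1 _ (Submodule.smul_mem _ _ (h2 x hx))) (fun A hA hAe y hy => by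
      let A' : V →ₗ[F] V := (g⁻¹ : V ≃ₗ[F] V).toLinearMap.comp (A.comp g.toLinearMap)
      have hA'x : ∀ x, A' x = g⁻¹ (A (g x)) := fun x => rfl
      have hA'e : Ed M L₁ A' := fun N hN => by
        have := conj_mem (L' := L₁) (M.inv_mem hg) h2 (fun x hx => by rw [inv_inv]; exact h1 x hx)
          (hAe _ (conj_mem hg h1 h2 hN))
        convert this using 1
        refine LinearMap.ext fun x => ?_
        simp [hA'x, inv_inv, inv_app]
      have := hR A' (fun x hx => h2 _ (hA _ (h1 x hx))) hA'e c (g⁻¹ y) (h2 y hy)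
      rw [hA'x, hA'x, app_inv] at this
      rw [hZ, hZ, ← this, app_inv])
  exact ⟨d, fun x hx => by rw [← hd _ (h1 x hx), hZ, inv_app]⟩

end Cfsg.Agent.ExtFieldGU22
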