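import Mathlib
import Cfsg.Agent.Lib.ExtFieldGU22Rig

/-!
If all Lagrangian K-subspaces are rigid, every element of the overgroup maps them to K-subspaces:
two counting arguments with zeros of quadratic maps over the fixed field.
-/

set_option autoImplicit false
set_option linter.unusedSectionVars false
set_option linter.style.haveILetI false
set_option maxHeartbeats 800000

namespace Cfsg.Agent.ExtFieldGU22

open Module

variable {F K V : Type*} [Field F] [Fintype F] [Field K] [Fintype K] [Algebra F K]
  [AddCommGroup V] [Module F V] [Module K V] [IsScalarTower F K V] [FiniteDimensional K V]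
  [FiniteDimensional F V]

variable (K) in
/-- An F-subspace closed under K. -/
def KStab (U : Submodule F V) : Prop := ∀ c : K, ∀ x ∈ U, c • x ∈ U

/-- The image of L. -/
def img (g : V ≃ₗ[F] V) (L : Submodule K V) : Submodule F V :=
  (L.restrictScalars F).map g.toLinearMap

theorem mem_img {g : V ≃ₗ[F] V} {L : Submodule K V} {x : V} : x ∈ img g L ↔ g⁻¹ x ∈ L := by
  constructor
  · rintro ⟨y, hy, rfl⟩
    show g⁻¹ (g y) ∈ L
    rw [inv_app]; exact hy
  · exact fun h => ⟨g⁻¹ x, h, app_inv g x⟩

theorem finrank_img (g : V ≃ₗ[F] V) (L : Submodule K V) :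
    finrank F (img g L) = finrank F K * finrank K L := by
  rw [Module.finrank_mul_finrank, img, ← (Submodule.equivMapOfInjective _ g.injective _).finrank_eq]
  exact (Submodule.restrictScalarsEquiv F K V L).restrictScalars F |>.finrank_eq

theorem kstab_finrank {U : Submodule F V} (hU : KStab K U) :
    ∃ P : Submodule K V, P.restrictScalars F = U ∧ finrank F U = finrank F K * finrank K P := by
  let P : Submodule K V :=
    { carrier := U
      add_mem' := fun ha hb => U.add_mem ha hb
      zero_mem' := U.zero_mem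
      smul_mem' := fun c x hx => hU c x hx }
  refine ⟨P, rfl, ?_⟩
  rw [Module.finrank_mul_finrank]
  rfl

variable {σ : F ≃+* F} {β : K ≃+* K} {f : V → V → F} {τ : K →ₗ[F] F} {h : V → V → K}
  (G : Geo σ β f τ h) {M : Subgroup (V ≃ₗ[F] V)} (hM : Over K f M)
include G

theorem beta_ne : ∃ c, β c ≠ c := by
  obtain ⟨a, ha⟩ := G.ne
  exact ⟨algebraMap F K a, fun e => ha ((algebraMap F K).injective (by rw [← G.alg]; exact e))⟩

theorem finrank_fx : finrank (fx σ) F = 2 := by
  haveI : Fintype (fx σ) := Fintype.ofFinite _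
  haveI : Module.Finite (fx σ) F := Module.Finite.of_finite
  refine Nat.pow_right_injective (Finite.one_lt_card (α := fx σ)) ?_
  show Nat.card (fx σ) ^ finrank (fx σ) F = Nat.card (fx σ) ^ 2
  rw [← card_fx_sq σ G.inv G.ne, ← Module.natCard_eq_pow_finrank, Nat.card_eq_fintype_card]

omit G in
theorem fx_smul (s : fx σ) (c : K) : s • c = algebraMap F K (s : F) * c := Algebra.smul_def s c

/-- The self-conjugate elements killed by τ. -/
def Ys : Submodule (fx σ) K where
  carrier := {x | β x = x ∧ τ x = 0}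
  add_mem' {a b} ha hb := ⟨by rw [map_add, ha.1, hb.1], by rw [map_add, ha.2, hb.2, add_zero]⟩
  zero_mem' := ⟨map_zero β, map_zero τ⟩
  smul_mem' s x hx := by
    have hs : σ (s : F) = s := mem_fx.1 s.2
    refine ⟨?_, ?_⟩
    · rw [fx_smul, map_mul, G.alg, hs, hx.1]
    · rw [fx_smul, ← Algebra.smul_def, map_smul, hx.2, smul_zero]

theorem finrank_Ys : finrank (fx σ) (Ys G) + 1 = finrank F K := by
  classical
  haveI : Fintype (fx σ) := Fintype.ofFinite _
  haveI : Module.Finite (fx σ) K := Module.Finite.of_finite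
  obtain ⟨q, hq⟩ : ∃ q, Nat.card (fx σ) = q := ⟨_, rfl⟩
  have hq1 : 1 < q := hq ▸ Finite.one_lt_card
  let S : Submodule (fx σ) K :=
    { carrier := {x | β x = x}
      add_mem' := fun {a b} (ha : β a = a) (hb : β b = b) => by show β (a + b) = a + b; rw [map_add, ha, hb]
      zero_mem' := map_zero β
      smul_mem' := fun s x (hx : β x = x) => by
        show β (s • x) = s • x
        rw [fx_smul, map_mul, G.alg, mem_fx.1 s.2, hx] }
  have hS : finrank (fx σ) S = finrank F K := by
    refine Nat.pow_right_injective (Finite.one_lt_card (α := fx σ)) ?_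
    show Nat.card (fx σ) ^ _ = Nat.card (fx σ) ^ _
    rw [← Module.natCard_eq_pow_finrank]
    refine Nat.pow_left_injective two_ne_zero ?_
    show Nat.card S ^ 2 = (Nat.card (fx σ) ^ finrank F K) ^ 2
    rw [← pow_mul, mul_comm, pow_mul, ← card_fx_sq σ G.inv G.ne, ← Nat.card_eq_fintype_card,
      ← Module.natCard_eq_pow_finrank (K := F) (V := K), show Nat.card S = Nat.card (fx β) from rfl,
      ← card_fx_sq β G.bb (beta_ne G), Nat.card_eq_fintype_card]
  let T : S →ₗ[fx σ] fx σ :=
    { toFun := fun x => ⟨τ x, mem_fx.2 (by rw [← G.tau_bar, show β (x : K) = x from x.2])⟩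
      map_add' := fun x y => Subtype.ext (map_add τ _ _)
      map_smul' := fun s x => Subtype.ext (by
        show τ ((s • x : S) : K) = s * τ x
        rw [Submodule.coe_smul, fx_smul, ← Algebra.smul_def, map_smul, smul_eq_mul]) }
  have h1 := LinearMap.finrank_range_add_finrank_ker T
  have h2 : LinearMap.range T = ⊤ := LinearMap.range_eq_top.2 fun s => ⟨⟨algebraMap F K s, by
    show β _ = _; rw [G.alg, mem_fx.1 s.2]⟩, Subtype.ext (by
    show τ (algebraMap F K s) = s
    rw [Algebra.algebraMap_eq_smul_one, map_smul, G.tau_one, smul_eq_mul, mul_one])⟩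
  have h3 : (LinearMap.ker T).map S.subtype = Ys G := by
    ext x
    constructor
    · rintro ⟨y, hy, rfl⟩
      exact ⟨y.2, congrArg Subtype.val (LinearMap.mem_ker.1 hy)⟩
    · intro hx
      exact ⟨⟨x, hx.1⟩, LinearMap.mem_ker.2 (Subtype.ext hx.2), rfl⟩
  rw [← h3, Submodule.finrank_map_subtype_eq]
  rw [h2, finrank_top, finrank_self, hS] at h1
  omega

theorem f_smul_left (s : F) (x y : V) : f (s • x) y = s * f x y := by
  rw [f_eq G, ← algebraMap_smul K s x, G.h_smul, ← Algebra.smul_def, map_smul, smul_eq_mul, ← f_eq G]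

theorem f_herm (x y : V) : f y x = σ (f x y) := by rw [f_eq G, f_eq G, G.h_herm, G.tau_bar]

theorem f_add_left (x y z : V) : f (x + y) z = f x z + f y z := by
  rw [f_eq G, G.h_add, map_add, ← f_eq G, ← f_eq G]

theorem img_iso (hM : Over K f M) {g : V ≃ₗ[F] V} (hg : g ∈ M) {L : Submodule K V} (hL : Lag h L) {u v : V}
    (hu : u ∈ img g L) (hv : v ∈ img g L) : f u v = 0 := by
  rw [← hM.pres g⁻¹ (M.inv_mem hg), f_eq G, hL.iso _ (mem_img.1 hu) _ (mem_img.1 hv), map_zero]

theorem img_max (hM : Over K f M) {g : V ≃ₗ[F] V} (hg : g ∈ M) {L : Submodule K V} (hL : Lag h L) {x : V}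
    (hx : ∀ u ∈ img g L, f x u = 0) : x ∈ img g L := by
  refine mem_img.2 (hL.max _ fun y hy => h_zero_of_f G fun c => ?_)
  have := hx (g (c • y)) (mem_img.2 (by rw [inv_app]; exact Submodule.smul_mem _ _ hy))
  rwa [← hM.pres g⁻¹ (M.inv_mem hg), inv_app] at this

/-- Two subspaces of complementary size under the pairing by τ contain a skew product. -/
theorem exists_skew_prod (W Db : Submodule F K) (hann : ∀ c, c ∈ Db ↔ ∀ w ∈ W, τ (c * w) = 0) (hW : W ≠ ⊥)
    (hDb : Db ≠ ⊥) : ∃ c ∈ Db, ∃ w ∈ W, c * w ≠ 0 ∧ β (c * w) = -(c * w) := by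
  classical
  haveI : FiniteDimensional F K := Module.Finite.of_finite
  haveI : Fintype (fx σ) := Fintype.ofFinite _
  have hdim : finrank F Db + finrank F W = finrank F K := by
    let Φ : K →ₗ[F] Module.Dual F K :=
      { toFun := fun a => τ.comp (LinearMap.mulLeft F a)
        map_add' := fun a b => by ext c; simp [add_mul]
        map_smul' := fun s a => by ext c; simp [smul_mul_assoc] }
    have hinj : Function.Injective Φ := fun a b e => tau_ext G.tau_one fun c => by
      have := LinearMap.congr_fun e c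
      simpa [Φ, mul_comm] using this
    have hsurj : Function.Surjective Φ :=
      (LinearMap.injective_iff_surjective_of_finrank_eq_finrank (Subspace.dual_finrank_eq).symm).1 hinj
    have he : Db = W.dualAnnihilator.comap Φ := by
      ext c
      rw [hann, Submodule.mem_comap, Submodule.mem_dualAnnihilator]
      rfl
    rw [he, LinearEquiv.finrank_eq (f := (LinearEquiv.ofBijective Φ ⟨hinj, hsurj⟩).ofSubmodules _ _
      (show _ = W.dualAnnihilator from Submodule.map_comap_eq_of_surjective hsurj _)), add_comm,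
      Subspace.finrank_add_finrank_dualAnnihilator_eq]
  by_contra hno
  push Not at hno
  haveI : Module.Finite (fx σ) F := Module.Finite.of_finite
  haveI : Module.Finite (fx σ) K := Module.Finite.of_finite
  haveI : Module.Finite (fx σ) Db := Module.Finite.of_finite
  haveI : Module.Finite (fx σ) W := Module.Finite.of_finite
  obtain ⟨p, hc⟩ := CharP.exists F
  haveI : Fact p.Prime := ⟨CharP.char_is_prime F p⟩
  haveI : CharP (fx σ) p := (fx σ).subtype.charP Subtype.val_injective p
  let B : (Db × W) →ₗ[fx σ] (Db × W) →ₗ[fx σ] K :=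
    LinearMap.mk₂ (fx σ) (fun u v => (u.1 : K) * v.2 + β ((u.1 : K) * v.2))
      (fun u u' v => by simp [add_mul]; ring)
      (fun s u v => by
        show (s • (u.1 : K)) * v.2 + β ((s • (u.1 : K)) * v.2) = s • ((u.1 : K) * v.2 + β ((u.1 : K) * v.2))
        simp only [fx_smul, map_mul, G.alg, mem_fx.1 s.2]
        ring)
      (fun u v v' => by simp [mul_add]; ring)
      (fun s u v => by
        show (u.1 : K) * (s • (v.2 : K)) + β ((u.1 : K) * (s • (v.2 : K))) =
          s • ((u.1 : K) * v.2 + β ((u.1 : K) * v.2))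
        simp only [fx_smul, map_mul, G.alg, mem_fx.1 s.2]
        ring)
  have hB : ∀ u v, B u v = (u.1 : K) * v.2 + β ((u.1 : K) * v.2) := fun u v => rfl
  have hY : ∀ u v, B u v ∈ Ys G := fun u v => by
    refine ⟨by rw [hB, map_add, G.bb, add_comm], ?_⟩
    rw [hB, map_add, G.tau_bar, (hann _).1 u.1.2 _ v.2.2, map_zero, add_zero]
  have hlt : 2 * finrank (fx σ) (Ys G) < finrank (fx σ) (Db × W) := by
    rw [Module.finrank_prod, ← Module.finrank_mul_finrank (fx σ) F Db, ← Module.finrank_mul_finrank (fx σ) F W,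
      finrank_fx G]
    have := finrank_Ys G
    omega
  have hdvd := dvd_card_zero p B (Ys G) hY hlt
  -- the zeros are the pairs with a zero entry
  have hset : ∀ u : Db × W, B u u = 0 ↔ u.1 = 0 ∨ u.2 = 0 := fun u => by
    constructor
    · intro hu
      by_contra! hne
      exact hno u.1 u.1.2 u.2 u.2.2 (mul_ne_zero (fun e => hne.1 (Subtype.ext e)) (fun e => hne.2 (Subtype.ext e)))
        (eq_neg_of_add_eq_zero_right (by rw [← hB]; exact hu))
    · rintro (e | e) <;> simp [hB, e]
  let e : Db ⊕ {w : W // w ≠ 0} → {u : Db × W // B u u = 0} := fun s => match s with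
    | Sum.inl c => ⟨(c, 0), (hset _).2 (Or.inr rfl)⟩
    | Sum.inr w => ⟨(0, w.1), (hset _).2 (Or.inl rfl)⟩
  have he : Function.Bijective e := by
    constructor
    · rintro (c | w) (c' | w') e' <;> simp only [e, Subtype.mk.injEq, Prod.mk.injEq] at e'
      · rw [e'.1]
      · exact absurd e'.2.symm w'.2
      · exact absurd e'.2 w.2
      · rw [Subtype.ext e'.2]
    · rintro ⟨⟨c, w⟩, hu⟩
      by_cases hw : w = 0
      · exact ⟨Sum.inl c, by subst hw; rfl⟩
      · refine ⟨Sum.inr ⟨w, hw⟩, ?_⟩
        have : c = 0 := ((hset _).1 hu).resolve_right hw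
        subst this
        rfl
  rw [← Nat.card_eq_of_bijective e he, Nat.card_sum] at hdvd
  have hpow : ∀ (U : Submodule F K), U ≠ ⊥ → p ∣ Nat.card U := fun U hU => by
    rw [Module.natCard_eq_pow_finrank (K := F)]
    refine Dvd.dvd.pow ?_ (fun e => hU (Submodule.finrank_eq_zero.1 e))
    obtain ⟨k, -, hk⟩ := FiniteField.card F p
    rw [Nat.card_eq_fintype_card, hk]
    exact dvd_pow_self p k.ne_zero
  have hWc : Nat.card {w : W // w ≠ 0} + 1 = Nat.card W := by
    rw [← Nat.card_eq_of_bijective _ (Equiv.optionSubtypeNe (0 : W)).bijective, Finite.card_option]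
  have h1 := hpow Db hDb
  have h2 := hpow W hW
  rw [← hWc] at h2
  have h3 : p ∣ Nat.card {w : W // w ≠ 0} := (Nat.dvd_add_right h1).1 hdvd
  exact (Fact.out : p.Prime).ne_one (Nat.dvd_one.1 ((Nat.dvd_add_right h3).1 h2))

/-- A totally f-isotropic subspace strictly above a K-stable one contains an h-isotropic vector outside it. -/
theorem exists_iso_outside (U W : Submodule F V) (hU : ∀ u ∈ U, ∀ v ∈ U, f u v = 0) (hle : W ≤ U)
    (hbig : finrank F W + finrank F K ≤ finrank F U) : ∃ u ∈ U, u ∉ W ∧ h u u = 0 := by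
  classical
  haveI : FiniteDimensional F K := Module.Finite.of_finite
  haveI : Fintype (fx σ) := Fintype.ofFinite _
  haveI : Finite V := Module.finite_of_finite K
  obtain ⟨C₀, hC₀⟩ := exists_isCompl W
  set C := C₀ ⊓ U with hC
  have hCW : C ⊓ W = ⊥ := by
    rw [eq_bot_iff, hC]
    intro x hx
    exact (Submodule.disjoint_def.1 hC₀.disjoint) x hx.2 hx.1.1 |> fun e => e ▸ Submodule.zero_mem _
  have hsum : C ⊔ W = U := by
    refine le_antisymm (sup_le inf_le_right hle) fun x hx => ?_
    obtain ⟨w, hw, c, hc, rfl⟩ := Submodule.mem_sup.1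
      (hC₀.sup_eq_top ▸ Submodule.mem_top : x ∈ W ⊔ C₀)
    rw [add_comm]
    refine Submodule.add_mem_sup ⟨hc, ?_⟩ hw
    simpa using U.sub_mem hx (hle hw)
  have hCdim : finrank F K ≤ finrank F C := by
    have := Submodule.finrank_sup_add_finrank_inf_eq C W
    rw [hsum, hCW, finrank_bot, add_zero] at this
    omega
  suffices hu : ∃ u ∈ C, u ≠ 0 ∧ h u u = 0 by
    obtain ⟨u, hu, hu0, huu⟩ := hu
    refine ⟨u, hu.2, fun hW => hu0 ?_, huu⟩
    have : u ∈ C ⊓ W := ⟨hu, hW⟩
    rwa [hCW, Submodule.mem_bot] at this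
  by_contra hno
  push Not at hno
  obtain ⟨θ, hθ1, -⟩ := exists_theta σ G.inv G.ne
  set t := algebraMap F K θ
  letI : Module (fx σ) V := Module.compHom V (fx σ).subtype
  haveI : IsScalarTower (fx σ) F V := ⟨fun s a v => by
    show ((s : F) * a) • v = (s : F) • a • v
    rw [mul_smul]⟩
  haveI : Module.Finite (fx σ) C := Module.Finite.of_finite
  haveI : Module.Finite (fx σ) K := Module.Finite.of_finite
  haveI : Module.Finite (fx σ) F := Module.Finite.of_finite
  obtain ⟨p, hc⟩ := CharP.exists F
  haveI : Fact p.Prime := ⟨CharP.char_is_prime F p⟩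
  haveI : CharP (fx σ) p := (fx σ).subtype.charP Subtype.val_injective p
  let B : C →ₗ[fx σ] C →ₗ[fx σ] K :=
    LinearMap.mk₂ (fx σ) (fun u v => t * h (u : V) v + β (t * h (u : V) v))
      (fun u u' v => by simp only [Submodule.coe_add, G.h_add, mul_add, map_add]; ring)
      (fun s u v => by
        show t * h ((s : F) • (u : V)) v + β (t * h ((s : F) • (u : V)) v) = s • (t * h (u : V) v + β (t * h (u : V) v))
        rw [← algebraMap_smul K (s : F) (u : V), G.h_smul, fx_smul]
        simp only [map_mul, G.alg, mem_fx.1 s.2]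
        ring)
      (fun u v v' => by simp only [Submodule.coe_add, h_add_right G, mul_add, map_add]; ring)
      (fun s u v => by
        show t * h (u : V) ((s : F) • (v : V)) + β (t * h (u : V) ((s : F) • (v : V))) =
          s • (t * h (u : V) v + β (t * h (u : V) v))
        rw [← algebraMap_smul K (s : F) (v : V), h_smul_right G, fx_smul, G.alg, mem_fx.1 s.2]
        simp only [map_mul, G.alg, mem_fx.1 s.2]
        ring)
  have hB : ∀ u v, B u v = t * h (u : V) v + β (t * h (u : V) v) := fun u v => rfl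
  have hY : ∀ u v, B u v ∈ Ys G := fun u v => by
    refine ⟨by rw [hB, map_add, G.bb, add_comm], ?_⟩
    rw [hB, map_add, G.tau_bar, ← Algebra.smul_def, map_smul, ← f_eq G, hU _ u.2.2 _ v.2.2, smul_zero,
      map_zero, add_zero]
  have hdiag : ∀ u : C, B u u = h (u : V) u := fun u => by
    rw [hB, map_mul, G.alg, ← G.h_herm, ← add_mul, ← map_add, hθ1, map_one, one_mul]
  have hlt : 2 * finrank (fx σ) (Ys G) < finrank (fx σ) C := by
    rw [← Module.finrank_mul_finrank (fx σ) F C, finrank_fx G]
    have := finrank_Ys G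
    omega
  have hdvd := dvd_card_zero p B (Ys G) hY hlt
  have huniq : Nat.card {u : C // B u u = 0} = 1 := by
    refine Nat.card_eq_one_iff_unique.2 ⟨⟨fun a b => ?_⟩, ⟨⟨0, by simp⟩⟩⟩
    have : ∀ c : {u : C // B u u = 0}, c.1 = 0 := fun c => by
      by_contra hc0
      exact hno (c.1 : V) c.1.2 (fun e => hc0 (Subtype.ext e)) (by rw [← hdiag]; exact c.2)
    exact Subtype.ext ((this a).trans (this b).symm)
  rw [huniq] at hdvd
  exact (Fact.out : p.Prime).ne_one (Nat.dvd_one.1 hdvd)

end Cfsg.Agent.ExtFieldGU22
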