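import Mathlib
import Cfsg.Agent.Lib.ExtFieldGU22Meet

/-!
An overgroup of the K-linear special isometries either consists of K-semilinear maps or contains all unitary
F-transvections.
-/

set_option autoImplicit false
set_option linter.unusedSectionVars false
set_option linter.style.haveILetI false
set_option maxHeartbeats 800000

namespace Cfsg.Agent.ExtFieldGU22

open Module

variable {F K V : Type*} [Field F] [Fintype F] [Field K] [Fintype K] [Algebra F K]
  [AddCommGroup V] [Module F V] [Module K V] [IsScalarTower F K V] [FiniteDimensional K V]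
  [FiniteDimensional F V]

/-- All transvections with centre u. -/
def Tv (M : Subgroup (V ≃ₗ[F] V)) (f : V → V → F) (σ : F ≃+* F) (u : V) : Prop :=
  ∀ t : F, σ t = -t → ∃ g ∈ M, ∀ x, g x = x + (t * f x u) • u

/-- A multiplicative endomorphism whose difference from the identity squares to zero is the identity. -/
theorem eq_self_of_sq_zero (hp : (finrank F K).Prime) (h3 : 3 ≤ finrank F K) (d : K →ₗ[F] K) (h1 : d 1 = 1)
    (hmul : ∀ a b, d (a * b) = d a * d b) (hsq : ∀ c, d (d c - c) = d c - c) (c : K) : d c = c := by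
  haveI : FiniteDimensional F K := Module.Finite.of_finite
  let S : Subalgebra F K :=
    { carrier := {c | d c = c}
      mul_mem' := fun {a b} (ha : d a = a) (hb : d b = b) => by
        show d (a * b) = a * b
        rw [hmul, ha, hb]
      one_mem' := h1
      add_mem' := fun {a b} (ha : d a = a) (hb : d b = b) => by
        show d (a + b) = a + b
        rw [map_add, ha, hb]
      zero_mem' := map_zero d
      algebraMap_mem' := fun s => by
        show d (algebraMap F K s) = algebraMap F K s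
        rw [Algebra.algebraMap_eq_smul_one, map_smul, h1] }
  haveI := Subalgebra.isSimpleOrder_of_finrank_prime F K hp
  rcases eq_bot_or_eq_top S with e | e
  · exfalso
    set ν : K →ₗ[F] K := d - LinearMap.id
    have hker : LinearMap.ker ν ≤ Subalgebra.toSubmodule S := fun x hx => by
      rw [LinearMap.mem_ker, LinearMap.sub_apply, LinearMap.id_apply, sub_eq_zero] at hx
      exact hx
    have hr : LinearMap.range ν ≤ Subalgebra.toSubmodule S := by
      rintro _ ⟨x, rfl⟩
      exact hsq x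
    have h2 := LinearMap.finrank_range_add_finrank_ker ν
    have h4 := Submodule.finrank_mono hker
    have h5 := Submodule.finrank_mono hr
    rw [e] at h4 h5
    have h6 : finrank F (Subalgebra.toSubmodule (⊥ : Subalgebra F K)) = 1 := Subalgebra.finrank_bot
    omega
  · exact (e.symm ▸ Algebra.mem_top : c ∈ S)

variable {σ : F ≃+* F} {β : K ≃+* K} {f : V → V → F} {τ : K →ₗ[F] F} {h : V → V → K}
  (G : Geo σ β f τ h) {M : Subgroup (V ≃ₗ[F] V)} (hM : Over K f M)
include G hM

section Rigid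

variable (hK : ∀ (m : ℕ) (a b : Fin m → V), Frame h a b → ScalarEd M (LA (K := K) a))
  (hrig : ∀ L, Lag h L → Rig M L)
include hK hrig

/-- Semilinearity on one Lagrangian subspace mapped to another. -/
theorem semi {g : V ≃ₗ[F] V} (hg : g ∈ M) {L₁ L₂ : Submodule K V} (hL₁ : Lag h L₁) (hL₂ : Lag h L₂)
    (h1 : ∀ x ∈ L₁, g x ∈ L₂) (h2 : ∀ x ∈ L₂, g⁻¹ x ∈ L₁) (c : K) :
    ∃ d : K, ∀ x ∈ L₁, g (c • x) = d • g x := by
  obtain ⟨m, a, b, P, ha, -⟩ := exists_frame G hL₂
  subst ha
  exact semi_of_rig G hM (hrig _ hL₁) P (hK m a b P) hg h1 h2 c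

/-- A bigger bad intersection. -/
theorem step {g : V ≃ₗ[F] V} (hg : g ∈ M) {L₁ L₂ : Submodule K V} (hL₁ : Lag h L₁) (hL₂ : Lag h L₂)
    (hbad : ¬ KStab K (img g L₁ ⊓ L₂.restrictScalars F)) :
    ∃ k ∈ M, ¬ KStab K (img k L₁ ⊓ L₁.restrictScalars F) ∧
      finrank F (img g L₁ ⊓ L₂.restrictScalars F : Submodule F V) <
        finrank F (img k L₁ ⊓ L₁.restrictScalars F : Submodule F V) := by
  classical
  haveI : FiniteDimensional F K := Module.Finite.of_finite
  rw [KStab] at hbad
  push Not at hbad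
  obtain ⟨c₀, δ, ⟨hδU, hδL⟩, hδ'⟩ := hbad
  set U := img g L₁ with hUdef
  replace hδL : δ ∈ L₂ := hδL
  have hc₀ : c₀ • δ ∉ U := fun e => hδ' ⟨e, L₂.smul_mem c₀ hδL⟩
  let D : Submodule F K := U.comap ((LinearMap.toSpanSingleton K V δ).restrictScalars F)
  have hD : ∀ d, d ∈ D ↔ d • δ ∈ U := fun d => Iff.rfl
  let hδ : V →ₗ[F] K := (hl G δ).restrictScalars F
  let W : Submodule F K := U.map hδ
  let Db : Submodule F K :=
    { carrier := {c | ∀ w ∈ W, τ (c * w) = 0}
      add_mem' := fun {a b} ha hb w hw => by rw [add_mul, map_add, ha w hw, hb w hw, add_zero]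
      zero_mem' := fun w _ => by rw [zero_mul, map_zero]
      smul_mem' := fun s a ha w hw => by rw [smul_mul_assoc, map_smul, ha w hw, smul_zero] }
  have hDb : ∀ d, d ∈ D ↔ β d ∈ Db := fun d => by
    constructor
    · rintro hd w ⟨u, hu, rfl⟩
      show τ (β d * h u δ) = 0
      rw [← h_smul_right G, ← f_eq G]
      exact img_iso G hM hg hL₁ hu ((hD d).1 hd)
    · intro hd
      show d • δ ∈ U
      refine img_max G hM hg hL₁ fun u hu => ?_
      rw [f_herm G, f_eq G, h_smul_right G]
      rw [show τ (β d * h u δ) = 0 from hd _ ⟨u, hu, rfl⟩, map_zero]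
  have hW : W ≠ ⊥ := fun e => hc₀ ((hD c₀).1 ((hDb c₀).2 fun w hw => by
    rw [(Submodule.eq_bot_iff W).1 e w hw, mul_zero, map_zero]))
  have hDb0 : Db ≠ ⊥ := fun e => by
    have : β 1 ∈ Db := (hDb 1).1 ((hD 1).2 (by rwa [one_smul]))
    rw [e, Submodule.mem_bot, map_one] at this
    exact one_ne_zero this
  obtain ⟨d, hd, w, ⟨y, hy, rfl⟩, hne, hskew⟩ := exists_skew_prod G W Db (fun c => Iff.rfl) hW hDb0
  set δ' := β d • δ with hδ'def
  have hδ'U : δ' ∈ U := (hD _).1 ((hDb _).2 (by rwa [G.bb]))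
  have hδ'L : δ' ∈ L₂ := L₂.smul_mem _ hδL
  set κ := h y δ' with hκdef
  have hκ : κ = d * h y δ := by rw [hκdef, hδ'def, h_smul_right G, G.bb]
  have hκ0 : κ ≠ 0 := by rw [hκ]; exact hne
  have hκs : β κ = -κ := by rw [hκ]; exact hskew
  have hδδ : h δ' δ' = 0 := hL₂.iso _ hδ'L _ hδ'L
  let N : V →ₗ[K] V := (hl G δ').smulRight (κ⁻¹ • δ')
  have hN : ∀ x, N x = h x δ' • κ⁻¹ • δ' := fun x => rfl
  obtain ⟨x, hx, hxx⟩ := exists_root G hM N (fun p r => by
    rw [hN, hN, G.h_smul, G.h_smul κ⁻¹ δ' r, h_smul_right G (h r δ') p, h_smul_right G κ⁻¹ p δ', map_inv₀, hκs,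
      inv_neg, G.h_herm r δ']
    ring) (fun p => by
    rw [hN, hN p, G.h_smul, G.h_smul, hδδ, mul_zero, mul_zero, zero_smul])
  have hyN : N y = δ' := by rw [hN, ← hκdef, smul_smul, mul_inv_cancel₀ hκ0, one_smul]
  have hkillL : ∀ u ∈ L₂, N u = 0 := fun u hu => by rw [hN, hL₂.iso u hu δ' hδ'L, zero_smul]
  let I : Submodule F V := U ⊓ U.comap (N.restrictScalars F)
  have hI : ∀ u, u ∈ I ↔ u ∈ U ∧ N u ∈ U := fun u => Iff.rfl
  -- the dimension of I
  let e : V →ₗ[F] K := ((hl G δ').smulRight (κ⁻¹ * β d)).restrictScalars F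
  have he : ∀ u, N u = e u • δ := fun u => by
    show h u δ' • κ⁻¹ • (β d • δ) = (h u δ' * (κ⁻¹ * β d)) • δ
    rw [smul_smul, smul_smul, mul_assoc]
  have hD1 : 1 ≤ finrank F D := Submodule.one_le_finrank_iff.2 fun e' => by
    have : (1 : K) ∈ D := (hD 1).2 (by rwa [one_smul])
    rw [e', Submodule.mem_bot] at this
    exact one_ne_zero this
  have hcodim : finrank F U < finrank F I + finrank F K := by
    let ψ : U →ₗ[F] K ⧸ D := D.mkQ.comp (e.comp U.subtype)
    have hk : (LinearMap.ker ψ).map U.subtype ≤ I := by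
      rintro _ ⟨u, hu, rfl⟩
      rw [SetLike.mem_coe, LinearMap.mem_ker, LinearMap.comp_apply, Submodule.mkQ_apply, Submodule.Quotient.mk_eq_zero] at hu
      exact (hI _).2 ⟨u.2, by rw [he]; exact (hD _).1 hu⟩
    have h1 := LinearMap.finrank_range_add_finrank_ker ψ
    have h2 := Submodule.finrank_le (LinearMap.range ψ)
    have h3 := Submodule.finrank_quotient_add_finrank D
    have h4 := Submodule.finrank_mono hk
    rw [Submodule.finrank_map_subtype_eq] at h4
    omega
  set k := g⁻¹ * x * g with hkdef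
  have hkM : k ∈ M := M.mul_mem (M.mul_mem (M.inv_mem hg) hx) hg
  have hkl : ∀ l, k l = l + g⁻¹ (N (g l)) := fun l => by rw [hkdef, mul_app, mul_app, hxx, map_add, inv_app]
  have hgU : ∀ l ∈ L₁, g l ∈ U := fun l hl => mem_img.2 (by rwa [inv_app])
  by_cases hIU : U ≤ I
  · -- x stabilises U
    exfalso
    have hk1 : ∀ l ∈ L₁, k l ∈ L₁ := fun l hl => by
      rw [hkl]; exact add_mem hl (mem_img.1 ((hI _).1 (hIU (hgU l hl))).2)
    have hk2 : ∀ l ∈ L₁, k⁻¹ l ∈ L₁ := fun l hl => by
      have hNN : ∀ u, N (N u) = 0 := fun u => hkillL _ (by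
        rw [hN]; exact L₂.smul_mem _ (L₂.smul_mem _ hδ'L))
      have : k⁻¹ l = l - g⁻¹ (N (g l)) := by
        apply k.injective
        rw [app_inv, hkl, map_sub g, app_inv, map_sub N, hNN, sub_zero]
        abel
      rw [this]
      exact sub_mem hl (mem_img.1 ((hI _).1 (hIU (hgU l hl))).2)
    choose dd hdd using semi G hM hK hrig hkM hL₁ hL₁ hk1 hk2
    set l₀ := g⁻¹ δ' with hl₀
    have hl₀L : l₀ ∈ L₁ := mem_img.1 hδ'U
    have hl₀0 : l₀ ≠ 0 := fun e0 => hκ0 (by
      rw [hκdef, show δ' = g l₀ from (app_inv g δ').symm, e0, map_zero, h_zero_right G])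
    have hk0 : k l₀ = l₀ := by rw [hkl, hl₀, app_inv, hkillL _ hδ'L, map_zero, add_zero]
    have hdl : ∀ c, k (c • l₀) = dd c • l₀ := fun c => by rw [hdd c l₀ hl₀L, hk0]
    have hu := smul_left_injective K hl₀0
    let dl : K →ₗ[F] K :=
      { toFun := dd
        map_add' := fun p r => hu (by
          show dd (p + r) • l₀ = (dd p + dd r) • l₀
          rw [add_smul, ← hdl, ← hdl, ← hdl, add_smul, map_add])
        map_smul' := fun s p => hu (by
          show dd (s • p) • l₀ = (s • dd p) • l₀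
          rw [← hdl, smul_assoc, smul_assoc, ← hdl, map_smul]) }
    have hsq : ∀ c, dl (dl c - c) = dl c - c := fun c => hu (by
      show dd (dd c - c) • l₀ = (dd c - c) • l₀
      have hNN : ∀ u, N (N u) = 0 := fun u => hkillL _ (by
        rw [hN]; exact L₂.smul_mem _ (L₂.smul_mem _ hδ'L))
      rw [← hdl, sub_smul, ← hdl, hkl (c • l₀), add_sub_cancel_left, hkl, app_inv, hNN, map_zero, add_zero])
    have hid : ∀ c, dd c = c := fun c => eq_self_of_sq_zero G.prime G.three dl
      (hu (by show dd 1 • l₀ = (1 : K) • l₀; rw [← hdl, one_smul, hk0]))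
      (fun p r => hu (by
        show dd (p * r) • l₀ = (dd p * dd r) • l₀
        rw [← hdl, mul_smul, hdd p _ (L₁.smul_mem r hl₀L), hdl, ← mul_smul])) hsq c
    set l₁ := g⁻¹ y
    have hl₁L : l₁ ∈ L₁ := mem_img.1 hy
    have hz : ∀ c : K, g (c • l₀) = N (g (c • l₁)) := fun c => by
      have h1 := hdd c l₁ hl₁L
      rw [hid, hkl, hkl, smul_add, add_right_inj] at h1
      have h2 := congrArg g h1
      rw [app_inv, show g l₁ = y from app_inv g y, hyN] at h2
      exact h2.symm
    -- too many images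
    let θl : K →ₗ[F] V := g.toLinearMap.comp ((LinearMap.toSpanSingleton K V l₀).restrictScalars F)
    have hθinj : Function.Injective θl := fun p r e' => hu (g.injective e')
    let φl : K →ₗ[F] V :=
      ((LinearMap.toSpanSingleton K V δ).restrictScalars F).comp (LinearMap.mulRight F (d * (κ⁻¹ * β d)))
    have hsub : LinearMap.range θl ≤ W.map φl := by
      rintro _ ⟨c, rfl⟩
      refine ⟨h (g (c • l₁)) δ, ⟨g (c • l₁), hgU _ (L₁.smul_mem c hl₁L), rfl⟩, ?_⟩
      show (h (g (c • l₁)) δ * (d * (κ⁻¹ * β d))) • δ = g (c • l₀)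
      rw [hz, he]
      show _ = (h (g (c • l₁)) (β d • δ) * (κ⁻¹ * β d)) • δ
      rw [h_smul_right G, G.bb]
      congr 1
      ring
    have h1 := Submodule.finrank_mono hsub
    rw [LinearMap.finrank_range_of_inj hθinj] at h1
    have h2 := Submodule.finrank_map_le φl W
    have h3 : finrank F W < finrank F K := by
      refine Submodule.finrank_lt fun e' => ?_
      have hd0 : d ≠ 0 := fun e0 => hne (by rw [e0, zero_mul])
      have := hd d⁻¹ (e' ▸ Submodule.mem_top)
      rw [mul_inv_cancel₀ hd0, G.tau_one] at this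
      exact one_ne_zero this
    omega
  · -- a larger intersection
    have hmeet : img k L₁ ⊓ L₁.restrictScalars F = I.map (g⁻¹ : V ≃ₗ[F] V).toLinearMap := by
      refine le_antisymm ?_ ?_
      · intro v hv
        obtain ⟨hvk, hvL⟩ := hv
        replace hvk := mem_img.1 hvk
        replace hvL : v ∈ L₁ := hvL
        set l := k⁻¹ v with hl
        have hv' : v = l + g⁻¹ (N (g l)) := by rw [← hkl, hl, app_inv]
        have hNl : N (g l) ∈ U := mem_img.2 (by
          have : g⁻¹ (N (g l)) = v - l := by rw [hv']; abel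
          rw [this]; exact sub_mem hvL hvk)
        have hgl : g l ∈ I := (hI _).2 ⟨hgU l hvk, hNl⟩
        refine ⟨g v, ?_, inv_app g v⟩
        have : g v = g l + N (g l) := by
          conv_lhs => rw [hv', map_add, app_inv]
        rw [this]
        refine add_mem hgl ((hI _).2 ⟨hNl, ?_⟩)
        rw [hkillL _ (by rw [hN]; exact L₂.smul_mem _ (L₂.smul_mem _ hδ'L))]
        exact U.zero_mem
      · rintro _ ⟨u, hu, rfl⟩
        obtain ⟨huU, huN⟩ := (hI u).1 hu
        refine ⟨mem_img.2 ?_, mem_img.1 huU⟩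
        have hkey : k (g⁻¹ (u - N u)) = g⁻¹ u := by
          rw [hkl, app_inv, map_sub N, hkillL (N u) (by rw [hN]; exact L₂.smul_mem _ (L₂.smul_mem _ hδ'L)),
            sub_zero, map_sub]
          abel
        show k⁻¹ (g⁻¹ u) ∈ L₁
        rw [← hkey, inv_app]
        exact mem_img.1 (U.sub_mem huU huN)
    have hP : finrank F (I.map (g⁻¹ : V ≃ₗ[F] V).toLinearMap) = finrank F I :=
      ((g⁻¹ : V ≃ₗ[F] V).submoduleMap I).finrank_eq.symm
    refine ⟨k, hkM, fun hst => ?_, ?_⟩
    · obtain ⟨P, hPU, hPdim⟩ := kstab_finrank (hmeet ▸ hst)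
      rw [hP] at hPdim
      have hU : finrank F U = finrank F K * finrank K L₁ := finrank_img g L₁
      have hlt : finrank F I < finrank F U :=
        Submodule.finrank_lt_finrank_of_lt (lt_of_le_of_ne inf_le_left fun e' => hIU e'.ge)
      rw [hPdim, hU] at hlt hcodim
      have h1 : finrank K P + 1 ≤ finrank K L₁ := Nat.lt_of_mul_lt_mul_left hlt
      have h2 := Nat.mul_le_mul_left (finrank F K) h1
      rw [mul_add, mul_one] at h2
      omega
    · rw [hmeet, hP]
      refine Submodule.finrank_lt_finrank_of_lt (lt_of_le_of_ne (fun u hu => (hI u).2 ⟨hu.1, ?_⟩) fun e' => ?_)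
      · rw [hkillL u hu.2]; exact U.zero_mem
      · have hyI : y ∈ I := (hI y).2 ⟨hy, by rw [hyN]; exact hδ'U⟩
        rw [← e'] at hyI
        have := hkillL y hyI.2
        rw [hyN] at this
        exact hκ0 (by rw [hκdef, this, h_zero_right G])

/-- No intersection is bad. -/
theorem meet_stab {g : V ≃ₗ[F] V} (hg : g ∈ M) {L₁ L₂ : Submodule K V} (hL₁ : Lag h L₁) (hL₂ : Lag h L₂) :
    KStab K (img g L₁ ⊓ L₂.restrictScalars F) := by
  suffices key : ∀ j, ∀ g ∈ M, ∀ L₁ L₂, Lag h L₁ → Lag h L₂ →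
      finrank F V ≤ finrank F (img g L₁ ⊓ L₂.restrictScalars F : Submodule F V) + j →
      KStab K (img g L₁ ⊓ L₂.restrictScalars F) from key _ g hg L₁ L₂ hL₁ hL₂ (Nat.le_add_left _ _)
  intro j
  induction j with
  | zero =>
    intro g hg L₁ L₂ hL₁ hL₂ hle
    by_contra hbad
    obtain ⟨k, -, -, hlt⟩ := step G hM hK hrig hg hL₁ hL₂ hbad
    have := Submodule.finrank_le (img k L₁ ⊓ L₁.restrictScalars F)
    omega
  | succ j ih =>
    intro g hg L₁ L₂ hL₁ hL₂ hle
    by_contra hbad
    obtain ⟨k, hk, hbad', hlt⟩ := step G hM hK hrig hg hL₁ hL₂ hbad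
    exact hbad' (ih k hk L₁ L₁ hL₁ hL₁ (by omega))

/-- Images of Lagrangian subspaces are Lagrangian. -/
theorem img_stab (hev : Even (finrank K V)) {g : V ≃ₗ[F] V} (hg : g ∈ M) {L : Submodule K V} (hL : Lag h L) :
    KStab K (img g L) := by
  obtain ⟨L₀, -, hL₀⟩ := exists_lag_ge G hev ⊥ (fun x hx y _ => by
    rw [(Submodule.mem_bot K).1 hx, h_zero_left G])
  suffices key : ∀ j, ∀ L₂, Lag h L₂ →
      finrank F V ≤ finrank F (img g L ⊓ L₂.restrictScalars F : Submodule F V) + j → KStab K (img g L) from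
    key _ L₀ hL₀ (Nat.le_add_left _ _)
  intro j
  induction j with
  | zero =>
    intro L₂ _ hle
    have htop : img g L ⊓ L₂.restrictScalars F = ⊤ :=
      Submodule.eq_top_of_finrank_eq (le_antisymm (Submodule.finrank_le _) (by simpa using hle))
    have hU : img g L = ⊤ := eq_top_iff.2 (htop ▸ inf_le_left)
    intro c x _
    rw [hU]
    exact Submodule.mem_top
  | succ j ih =>
    intro L₂ hL₂ hle
    set U := img g L
    set W := U ⊓ L₂.restrictScalars F with hWdef
    have hW := meet_stab G hM hK hrig hg hL hL₂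
    by_cases hUW : U ≤ W
    · intro c x hx
      exact (hW c x (hUW hx)).1
    obtain ⟨P, hPW', hPdim⟩ := kstab_finrank hW
    have hPW : P.restrictScalars F = W := hPW'
    have hUdim : finrank F U = finrank F K * finrank K L := finrank_img g L
    have hlt : finrank F W < finrank F U :=
      Submodule.finrank_lt_finrank_of_lt (lt_of_le_of_ne inf_le_left fun e => hUW e.ge)
    have hbig : finrank F W + finrank F K ≤ finrank F U := by
      rw [hPdim, hUdim] at hlt ⊢
      have h2 := Nat.mul_le_mul_left (finrank F K) (Nat.lt_of_mul_lt_mul_left hlt)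
      rw [Nat.succ_eq_add_one, mul_add, mul_one] at h2
      exact h2
    obtain ⟨u, hu, huW, huu⟩ := exists_iso_outside G U W (fun a ha b hb => img_iso G hM hg hL ha hb)
      inf_le_left hbig
    have huP : ∀ w ∈ P, h u w = 0 := fun w hw => h_zero_of_f G fun c => by
      have hw' : w ∈ W := by rw [← hPW]; exact hw
      exact img_iso G hM hg hL hu (hW c w hw').1
    have hPP : ∀ a ∈ P, ∀ b ∈ P, h a b = 0 := fun a ha b hb => by
      have ha' : a ∈ W := by rw [← hPW]; exact ha
      have hb' : b ∈ W := by rw [← hPW]; exact hb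
      exact hL₂.iso a ha'.2 b hb'.2
    obtain ⟨L₃, hle₃, hL₃⟩ := exists_lag_ge G hev (P ⊔ K ∙ u) (fun a ha b hb => by
      obtain ⟨a₁, ha₁, a₂, ha₂, rfl⟩ := Submodule.mem_sup.1 ha
      obtain ⟨b₁, hb₁, b₂, hb₂, rfl⟩ := Submodule.mem_sup.1 hb
      obtain ⟨c, rfl⟩ := Submodule.mem_span_singleton.1 ha₂
      obtain ⟨e, rfl⟩ := Submodule.mem_span_singleton.1 hb₂
      rw [G.h_add, h_add_right G, h_add_right G, hPP _ ha₁ _ hb₁, h_smul_right G, G.h_smul, G.h_smul,
        h_smul_right G, huP _ hb₁, h_zero_symm G (huP _ ha₁), huu]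
      ring)
    refine ih L₃ hL₃ ?_
    have hlt' : W < U ⊓ L₃.restrictScalars F := by
      refine lt_of_le_of_ne (fun a ha => ⟨ha.1, hle₃ (Submodule.mem_sup_left (?_ : a ∈ P))⟩) fun e => huW ?_
      · rw [← hPW] at ha; exact ha
      · rw [e]; exact ⟨hu, hle₃ (Submodule.mem_sup_right (Submodule.mem_span_singleton_self u))⟩
    have := Submodule.finrank_lt_finrank_of_lt hlt'
    omega

/-- Everything is semilinear. -/
theorem semilinear (hev : Even (finrank K V)) [Nontrivial V] {g : V ≃ₗ[F] V} (hg : g ∈ M) (c : K) :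
    ∃ d : K, ∀ x, g (c • x) = d • g x := by
  obtain ⟨L, -, hL⟩ := exists_lag_ge G hev ⊥ (fun x hx y _ => by
    rw [(Submodule.mem_bot K).1 hx, h_zero_left G])
  obtain ⟨m, a, b, P, ha, hm⟩ := exists_frame G hL
  have hm0 : 0 < m := by
    have : 0 < finrank K V := Module.finrank_pos
    omega
  set i₀ : Fin m := ⟨0, hm0⟩
  have key : ∀ L : Submodule K V, Lag h L → ∀ c : K, ∃ d : K, ∀ x ∈ L, g (c • x) = d • g x := by
    intro L hL
    have hst := img_stab G hM hK hrig hev hg hL
    let U : Submodule K V :=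
      { carrier := img g L
        add_mem' := fun ha hb => (img g L).add_mem ha hb
        zero_mem' := (img g L).zero_mem
        smul_mem' := fun c x hx => hst c x hx }
    have hU : Lag h U := ⟨fun p hp r hr => h_zero_of_f G fun e => img_iso G hM hg hL hp (U.smul_mem e hr),
      fun p hp => img_max G hM hg hL fun r hr => by rw [f_eq G, hp r hr, map_zero]⟩
    exact semi G hM hK hrig hg hL hU (fun x hx => mem_img.2 (by rwa [inv_app]))
      (fun x hx => mem_img.1 hx)
  choose d₁ hd₁ using key (LA (K := K) a) (P.lag G)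
  choose d₂ hd₂ using key (LA (K := K) b) ((P.swap G).lag G)
  have hai : a i₀ ∈ LA (K := K) a := Submodule.subset_span ⟨i₀, rfl⟩
  have hbi : b i₀ ∈ LA (K := K) b := Submodule.subset_span ⟨i₀, rfl⟩
  have hga : g (a i₀) ≠ 0 := fun e => by
    have h1 := P.ab i₀ i₀
    rw [(LinearEquiv.map_eq_zero_iff g).1 e, h_zero_left G, if_pos rfl] at h1
    exact zero_ne_one h1
  have hu := smul_left_injective K hga
  -- d₁ is an automorphism
  let e₁ : K →+* K :=
    { toFun := d₁
      map_one' := hu (by show d₁ 1 • g (a i₀) = (1 : K) • g (a i₀); rw [← hd₁ 1 _ hai, one_smul, one_smul])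
      map_mul' := fun p r => hu (by
        show d₁ (p * r) • g (a i₀) = (d₁ p * d₁ r) • g (a i₀)
        rw [← hd₁ _ _ hai, mul_smul, hd₁ p _ (Submodule.smul_mem _ r hai), hd₁ r _ hai, ← mul_smul])
      map_zero' := hu (by show d₁ 0 • g (a i₀) = (0 : K) • g (a i₀); rw [← hd₁ 0 _ hai, zero_smul, zero_smul, map_zero])
      map_add' := fun p r => hu (by
        show d₁ (p + r) • g (a i₀) = (d₁ p + d₁ r) • g (a i₀)
        rw [← hd₁ _ _ hai, add_smul, map_add, hd₁ p _ hai, hd₁ r _ hai, add_smul]) }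
  let φ : K ≃+* K := RingEquiv.ofBijective e₁ (Finite.injective_iff_bijective.1 e₁.injective)
  have hφ : ∀ c, φ c = d₁ c := fun c => rfl
  have hκ : h (g (a i₀)) (g (b i₀)) ≠ 0 := fun e => by
    have h1 := hM.pres g hg (a i₀) (b i₀)
    rw [f_eq G, f_eq G, e, P.ab, if_pos rfl, map_zero, G.tau_one] at h1
    exact zero_ne_one h1
  have hd : ∀ c, d₂ c = d₁ c := by
    intro c
    have key2 : ∀ c', d₁ c' = β (d₂ (β c')) := by
      intro c'
      refine mul_right_cancel₀ hκ (tau_ext G.tau_one fun e => ?_)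
      obtain ⟨e', rfl⟩ := φ.surjective e
      have h1 : f (g (c' • e' • a i₀)) (g (b i₀)) = f (g (e' • a i₀)) (g (β c' • b i₀)) := by
        rw [hM.pres g hg, hM.pres g hg, f_eq G, f_eq G, G.h_smul, h_smul_right G, G.bb, G.h_smul]
      rw [hd₁ c' _ (Submodule.smul_mem _ e' hai), hd₁ e' _ hai, hd₂ (β c') _ hbi, f_eq G, f_eq G,
        G.h_smul, G.h_smul, h_smul_right G, G.h_smul] at h1
      rw [hφ]
      convert h1 using 2 <;> ring
    have h1 := key2 (β c)
    rw [G.bb, ← hφ, aut_comm φ β c, hφ] at h1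
    exact (β.injective h1).symm
  refine ⟨d₁ c, fun x => ?_⟩
  conv_lhs => rw [P.span x, smul_add, map_add,
    hd₁ c _ (Submodule.sum_mem _ fun i _ => Submodule.smul_mem _ _ (Submodule.subset_span ⟨i, rfl⟩)),
    hd₂ c _ (Submodule.sum_mem _ fun i _ => Submodule.smul_mem _ _ (Submodule.subset_span ⟨i, rfl⟩)), hd,
    ← smul_add, ← map_add, ← P.span x]

end Rigid

/-- Full transvection groups at one Lagrangian subspace give all transvections. -/
theorem all_tv {m : ℕ} {a b : Fin m → V} (P : Frame h a b) (hfull : Full M f σ (LA (K := K) a)) {u : V}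
    (hu : f u u = 0) : Tv M f σ u := by
  have hconj : ∀ {g}, g ∈ M → ∀ {v}, Tv M f σ v → Tv M f σ (g v) := by
    intro g hg v hv t ht
    obtain ⟨k, hk, hkx⟩ := hv t ht
    refine ⟨g * k * g⁻¹, M.mul_mem (M.mul_mem hg hk) (M.inv_mem hg), fun x => ?_⟩
    rw [mul_app, mul_app, hkx, map_add, app_inv, map_smul,
      show f (g⁻¹ x) v = f x (g v) by rw [← hM.pres g hg, app_inv]]
  obtain ⟨θ, -, hθ⟩ := exists_theta σ G.inv G.ne
  set c := algebraMap F K (θ - σ θ)
  have hc0 : c ≠ 0 := (map_ne_zero _).2 hθ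
  obtain ⟨w, hw, hwx⟩ := exists_w G hM P (c := c)
    (by rw [G.alg, map_sub, G.inv, ← neg_sub θ, map_neg]) hc0
  have hfull' : ∀ v ∈ LA (K := K) b, Tv M f σ v := by
    intro v hv
    obtain ⟨γ, rfl⟩ := (Submodule.mem_span_range_iff_exists_fun K).1 hv
    have := hconj hw (v := ∑ i, (-(c * γ i)) • a i) (hfull _
      (Submodule.sum_mem _ fun i _ => Submodule.smul_mem _ _ (Submodule.subset_span ⟨i, rfl⟩)))
    have e := hwx (fun i => -(c * γ i)) 0
    simp only [Pi.zero_apply, zero_smul, Finset.sum_const_zero, add_zero, mul_zero, zero_add, neg_neg,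
      mul_div_cancel_left₀ _ hc0] at e
    rwa [e] at this
  set p := ∑ i, h u (b i) • a i with hp
  set r := ∑ i, h u (a i) • b i with hr
  have hu' : u = p + r := P.span u
  have hpL : p ∈ LA (K := K) a :=
    Submodule.sum_mem _ fun i _ => Submodule.smul_mem _ _ (Submodule.subset_span ⟨i, rfl⟩)
  have hrL : r ∈ LA (K := K) b :=
    Submodule.sum_mem _ fun i _ => Submodule.smul_mem _ _ (Submodule.subset_span ⟨i, rfl⟩)
  have hadd : ∀ x y z, f x (y + z) = f x y + f x z := fun x y z => by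
    rw [f_eq G, f_eq G, f_eq G, h_add_right G, map_add]
  have hpp : f p p = 0 := by rw [f_eq G, (P.lag G).iso p hpL p hpL, map_zero]
  have hrr : ∀ x ∈ LA (K := K) b, ∀ y ∈ LA (K := K) b, f x y = 0 := fun x hx y hy => by
    rw [f_eq G, ((P.swap G).lag G).iso x hx y hy, map_zero]
  -- two centres that are not orthogonal
  have hstep : ∀ r' ∈ LA (K := K) b, f p r' ≠ 0 → f (p + r') (p + r') = 0 → Tv M f σ (p + r') := by
    intro r' hr' hne hiso
    have hs : σ (1 / f p r') = -(1 / f p r') := by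
      rw [f_add_left G, hadd, hadd, hpp, hrr r' hr' r' hr', zero_add, add_zero] at hiso
      rw [map_div₀, map_one, ← f_herm G, eq_neg_of_add_eq_zero_right hiso, div_neg]
    obtain ⟨k, hk, hkx⟩ := hfull' r' hr' _ hs
    have := hconj hk (v := p) (hfull p hpL)
    rwa [hkx, one_div, inv_mul_cancel₀ hne, one_smul] at this
  rw [hu']
  rw [hu'] at hu
  by_cases hp0 : p = 0
  · rw [hp0, zero_add]; exact hfull' r hrL
  by_cases hne : f p r = 0
  · obtain ⟨a', ha', hpa⟩ : ∃ a' ∈ LA (K := K) b, f p a' ≠ 0 := by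
      by_contra hall
      push Not at hall
      refine hp0 (G.nondeg p fun x => ?_)
      rw [P.span x, hadd, f_eq G, (P.lag G).iso p hpL _ (Submodule.sum_mem _ fun i _ =>
        Submodule.smul_mem _ _ (Submodule.subset_span ⟨i, rfl⟩)), map_zero, zero_add]
      exact hall _ (Submodule.sum_mem _ fun i _ => Submodule.smul_mem _ _ (Submodule.subset_span ⟨i, rfl⟩))
    obtain ⟨k, hk, hkx⟩ := hfull' a' ha' (θ - σ θ) (by rw [map_sub, G.inv]; ring)
    have hk' : k (p + r) = p + (r + ((θ - σ θ) * f p a') • a') := by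
      rw [hkx, f_add_left G, hrr r hrL a' ha', add_zero, add_assoc]
    have h1 := hstep (r + ((θ - σ θ) * f p a') • a') (add_mem hrL ((LA (K := K) b).restrictScalars F |>.smul_mem _ ha'))
      (by
        rw [hadd, hne, zero_add, f_herm G, f_smul_left G, map_mul, ← f_herm G]
        exact mul_ne_zero ((map_ne_zero σ).2 (mul_ne_zero hθ hpa)) hpa)
      (by rw [← hk', hM.pres k hk]; exact hu)
    have := hconj (M.inv_mem hk) h1
    rwa [← hk', inv_app] at this
  · exact hstep r hrL hne hu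

/-- Either all maps are semilinear or all transvections are present. -/
theorem main (hev : Even (finrank K V)) [Nontrivial V]
    (hbig : 4 ≤ finrank K V ∨
      ∃ u : K, β u = u⁻¹ ∧ Algebra.norm F u = 1 ∧ ∀ t : F, u * u ≠ algebraMap F K t) :
    (∀ g ∈ M, ∀ c : K, ∃ d : K, ∀ x, g (c • x) = d • g x) ∨
      ∀ u : V, f u u = 0 → ∀ t : F, σ t = -t → ∃ g ∈ M, ∀ x, g x = x + (t * f x u) • u := by
  have hK : ∀ (m : ℕ) (a b : Fin m → V), Frame h a b → ScalarEd M (LA (K := K) a) := by
    intro m a b P c N hN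
    rcases hbig with h4 | ⟨u, hu, hu1, hu2⟩
    · refine scalar_ed_of_two G hM P ?_ c hN
      have hdim : finrank K (LA (K := K) a) ≤ m :=
        (finrank_range_le_card a).trans (Fintype.card_fin m).le
      have hp : hperp G (LA (K := K) a) ≤ LA (K := K) a := fun x hx =>
        (P.mem_iff G).2 fun i => hx _ (Submodule.subset_span ⟨i, rfl⟩)
      have h1 := Submodule.finrank_mono hp
      have h2 := finrank_hperp G (LA (K := K) a)
      omega
    · exact scalar_ed_of_unit G hM P hu hu1 hu2 c hN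
  by_cases hfull : ∃ L, Lag h L ∧ Full M f σ L
  · obtain ⟨L, hL, hLf⟩ := hfull
    obtain ⟨m, a, b, P, ha, -⟩ := exists_frame G hL
    subst ha
    exact Or.inr fun u hu => all_tv G hM P hLf hu
  · push Not at hfull
    refine Or.inl fun g hg c => semilinear G hM hK (fun L hL => ?_) hev hg c
    obtain ⟨m, a, b, P, ha, -⟩ := exists_frame G hL
    subst ha
    exact (full_or_rig G hM P (hK m a b P)).resolve_left (hfull _ hL)

end Cfsg.Agent.ExtFieldGU22
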