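import Mathlib
import Cfsg.Prelude.Def_GeometricClasses
import Cfsg.Agent.Lib.ExtFieldGU22Gen
import Cfsg.Agent.Lib.TransvectionUnitaryGen
import Cfsg.Agent.Lib.OrthUnitaryTransvection
import Cfsg.Agent.Lib.TransvectionMax

/-!
The normaliser of an adjoint-closed subfield of odd prime degree r of the matrix algebra is maximal in the
special unitary group of dimension n, when n / r is even (excluding n = 2r, r = 3, q = 2).
-/

set_option autoImplicit false
set_option linter.unusedSectionVars false
set_option linter.style.haveILetI false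
set_option maxHeartbeats 1600000
set_option synthInstance.maxHeartbeats 400000

namespace Cfsg.Agent.ExtFieldGU22Glue

open Module Cfsg
open Cfsg.Agent.ExtFieldGU22 (fx card_fx_sq)
open scoped Matrix MatrixGroups

section Unit

variable {F K : Type*} [Field F] [Fintype F] [Field K] [Fintype K] [Algebra F K]

/-- A scalar of norm one inverted by β whose square is not in F. -/
theorem exists_unit (q r : ℕ) (hF : Fintype.card F = q ^ 2) (σ : F ≃+* F) (hσ : ∀ x, σ x = x ^ q)
    (hinv : ∀ a, σ (σ a) = a) (hne : ∃ a, σ a ≠ a) (β : K ≃+* K) (hbb : ∀ c, β (β c) = c)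
    (halg : ∀ a, β (algebraMap F K a) = algebraMap F K (σ a)) (hr : finrank F K = r) (hrp : r.Prime)
    (hro : Odd r) (hex : ¬ (r = 3 ∧ q = 2)) :
    ∃ u : K, β u = u⁻¹ ∧ Algebra.norm F u = 1 ∧ ∀ t : F, u * u ≠ algebraMap F K t := by
  classical
  have hq2 : 2 ≤ q := by
    by_contra hq
    have h1 := Fintype.one_lt_card (α := F)
    rw [hF] at h1
    have : q ^ 2 ≤ 1 := by interval_cases q <;> simp
    omega
  have hneK : ∃ c, β c ≠ c := by
    obtain ⟨a, ha⟩ := hne
    exact ⟨algebraMap F K a, fun e => ha ((algebraMap F K).injective (by rw [← halg]; exact e))⟩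
  set Q := Nat.card (fx β) with hQdef
  have hKc : Fintype.card K = Q ^ 2 := card_fx_sq β hbb hneK
  have hQ : Q = q ^ r := by
    refine Nat.pow_left_injective two_ne_zero ?_
    show Q ^ 2 = (q ^ r) ^ 2
    rw [← hKc, Module.card_eq_pow_finrank (K := F), hF, hr, ← pow_mul, ← pow_mul, mul_comm]
  -- the units of the form c / β c
  let π : Kˣ →* Kˣ :=
    { toFun := fun u => Units.mk0 ((u : K) / β u) (div_ne_zero u.ne_zero ((map_ne_zero β).2 u.ne_zero))
      map_one' := Units.ext (by simp)
      map_mul' := fun u v => Units.ext (by simp [map_mul, mul_div_mul_comm]) }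
  have hker : Nat.card π.ker ≤ Q - 1 := by
    rw [hQdef, ← Nat.card_units]
    refine Nat.card_le_card_of_injective
      (fun u : π.ker => Units.mk0 (⟨((u : Kˣ) : K), ?_⟩ : fx β) (fun e => (u : Kˣ).ne_zero (congrArg Subtype.val e))) ?_
    · have e : ((u : Kˣ) : K) / β ((u : Kˣ) : K) = 1 := congrArg Units.val (MonoidHom.mem_ker.1 u.2)
      exact ExtFieldGU22.mem_fx.2 ((div_eq_one_iff_eq ((map_ne_zero β).2 (Units.ne_zero _))).1 e).symm
    · intro u v huv
      exact Subtype.ext (Units.ext (congrArg (fun w : (fx β)ˣ => ((w : fx β) : K)) huv))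
  have hrange : Q + 1 ≤ Nat.card π.range := by
    have h1 := π.ker.card_mul_index
    rw [Subgroup.index_ker, Nat.card_units, Nat.card_eq_fintype_card (α := K), hKc] at h1
    have h2 : (Q + 1) * (Q - 1) = Q ^ 2 - 1 := by rw [← Nat.sq_sub_sq, one_pow]
    have h3 : (Q + 1) * (Q - 1) ≤ Nat.card π.range * (Q - 1) := by
      rw [h2, ← h1, mul_comm]
      exact Nat.mul_le_mul_left _ hker
    refine Nat.le_of_mul_le_mul_right h3 ?_
    rw [hQ]
    have : 2 ≤ q ^ r := le_trans hq2 (Nat.le_self_pow hrp.ne_zero q)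
    omega
  -- the norm
  have hnorm : ∀ c, Algebra.norm F (β c) = σ (Algebra.norm F c) := fun c => by
    apply (algebraMap F K).injective
    rw [← halg, FiniteField.algebraMap_norm_eq_pow, FiniteField.algebraMap_norm_eq_pow, map_pow]
  let ψ : π.range →* Fˣ := (Units.map (Algebra.norm F : K →* F)).comp π.range.subtype
  have hψ : ψ.range ≤ rootsOfUnity (q + 1) F := by
    rintro _ ⟨⟨_, u, rfl⟩, rfl⟩
    rw [mem_rootsOfUnity]
    refine Units.ext ?_
    rw [Units.val_pow_eq_pow_val, Units.val_one]
    show (Algebra.norm F ((u : K) / β u)) ^ (q + 1) = 1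
    have h1 : Algebra.norm F ((u : K) / β u) * σ (Algebra.norm F ((u : K) / β u)) = 1 := by
      rw [← hnorm, ← map_mul, map_div₀, hbb, div_mul_div_comm, mul_comm (u : K), div_self, map_one]
      exact mul_ne_zero ((map_ne_zero β).2 u.ne_zero) u.ne_zero
    rw [pow_succ', ← hσ, h1]
  haveI : NeZero (q + 1) := ⟨by omega⟩
  have hψc : Nat.card ψ.range ≤ q + 1 := (Subgroup.card_le_of_le hψ).trans (card_rootsOfUnity _ _)
  by_contra hno
  push Not at hno
  have hbad : Nat.card ψ.ker ≤ 2 * r := by
    haveI : NeZero (2 * r) := ⟨by have := hrp.pos; omega⟩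
    refine le_trans (Nat.card_le_card_of_injective
      (fun u : ψ.ker => (⟨((u : π.range) : Kˣ), ?_⟩ : rootsOfUnity (2 * r) K)) ?_) (card_rootsOfUnity _ _)
    · obtain ⟨⟨v, w, hw⟩, hv⟩ := u
      have hβ : β (v : K) = (v : K)⁻¹ := by
        rw [← hw]
        show β ((w : K) / β w) = ((w : K) / β w)⁻¹
        rw [map_div₀, hbb, inv_div]
      have hn : Algebra.norm F (v : K) = 1 := congrArg Units.val (MonoidHom.mem_ker.1 hv)
      obtain ⟨t, ht⟩ := hno (v : K) hβ hn
      have hN := congrArg (Algebra.norm F) ht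
      rw [map_mul, hn, mul_one, Algebra.norm_algebraMap, hr] at hN
      rw [mem_rootsOfUnity]
      refine Units.ext ?_
      rw [Units.val_pow_eq_pow_val, Units.val_one, pow_mul, sq, ht, ← map_pow, ← hN, map_one]
    · intro u v huv
      have e := congrArg Subtype.val huv
      exact Subtype.ext (Subtype.ext e)
  have hψk := ψ.ker.card_mul_index
  rw [Subgroup.index_ker] at hψk
  have h1 : Q + 1 ≤ 2 * r * (q + 1) := calc
    Q + 1 ≤ Nat.card π.range := hrange
    _ = Nat.card ψ.ker * Nat.card ψ.range := hψk.symm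
    _ ≤ 2 * r * (q + 1) := Nat.mul_le_mul hbad hψc
  rw [hQ] at h1
  rcases eq_or_ne r 3 with rfl | hr3
  · have hq3 : 3 ≤ q := by
      by_contra hq
      exact hex ⟨rfl, by omega⟩
    nlinarith
  · have h5 : 5 ≤ r := by
      obtain ⟨j, rfl⟩ := hro
      have := hrp.two_le
      omega
    obtain ⟨j, rfl⟩ : ∃ j, r = j + 5 := ⟨r - 5, by omega⟩
    clear hbad hψk hQ hr hrp hro hr3 hex h5
    have key : 2 * (j + 5) * (q + 1) ≤ q ^ (j + 5) := by
      clear h1 hno
      induction j with
      | zero =>
        have : q ^ 4 ≥ 16 := le_trans (by norm_num) (Nat.pow_le_pow_left hq2 4)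
        rw [pow_succ]
        nlinarith
      | succ j ih =>
        rw [show j + 1 + 5 = (j + 5) + 1 from rfl, pow_succ]
        nlinarith [Nat.mul_le_mul ih hq2]
    omega

end Unit

/-- A group containing all transvections contains the special unitary group. -/
theorem su_le {F : Type*} [Field F] [Fintype F] {n q : ℕ} (hF : Fintype.card F = q ^ 2) (hn : 4 ≤ n)
    {N : Subgroup (GL (Fin n) F)}
    (hN : ∀ (v : Fin n → F) (c : F), Cfsg.hermForm n F q v v = 0 → c + c ^ q = 0 → ∃ g ∈ N, ∀ x,
      (g : Matrix (Fin n) (Fin n) F) *ᵥ x = x + (c * Cfsg.hermForm n F q x v) • v) :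
    Cfsg.GU n F q ⊓ Cfsg.Geo.specialLinear (Fin n) F ≤ N := by
  intro g hg
  obtain ⟨hgU, hgS⟩ := hg
  have hd : (g : Matrix (Fin n) (Fin n) F).det = 1 := congrArg Units.val hgS
  let a : Cfsg.SU n F q := OrthUnitaryHerm.mkSU (g : Matrix (Fin n) (Fin n) F) hd hgU
  let Φ : Cfsg.SU n F q →* GL (Fin n) F :=
    Matrix.SpecialLinearGroup.toGL.comp (Cfsg.SU n F q).subtype
  have htop := OrthUnitaryTransvection.tGroup_eq_top (n := n) hF (by omega) (by omega)
  have hle : OrthUnitaryTransvection.tGroup n F q ≤ N.comap Φ := by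
    refine (Subgroup.closure_le _).2 ?_
    rintro A ⟨v, c, hv, hA⟩
    have hact : ∀ x, ((Φ A : GL (Fin n) F) : Matrix (Fin n) (Fin n) F) *ᵥ x =
        x + (c * Cfsg.hermForm n F q x v) • v := fun x => by
      show ((A : Matrix.SpecialLinearGroup (Fin n) F) : Matrix (Fin n) (Fin n) F) *ᵥ x = _
      rw [hA, OrthUnitaryHerm.transvection_mulVec]
    by_cases hv0 : v = 0
    · have : Φ A = 1 := TransvectionMax.gl_ext fun x => by
        rw [hact, hv0, smul_zero, add_zero, TransvectionMax.one_act]
      show Φ A ∈ N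
      rw [this]
      exact N.one_mem
    · have hAU : OrthUnitaryHerm.IsU q ((A : Matrix.SpecialLinearGroup (Fin n) F) : Matrix (Fin n) (Fin n) F) := A.2
      rw [hA] at hAU
      have hc := OrthUnitaryTransvection.skew_of_isU hF hv0 hv hAU
      obtain ⟨h, hh, hhx⟩ := hN v c hv hc
      show Φ A ∈ N
      rw [show Φ A = h from TransvectionMax.gl_ext fun x => by rw [hact, hhx]]
      exact hh
  have ha : Φ a ∈ N := hle (htop ▸ Subgroup.mem_top a)
  rwa [show Φ a = g from Units.ext rfl] at ha

/-- Maximality of the normaliser of an extension field of odd prime degree, even quotient. -/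
theorem isMaximalIn {F : Type*} [Field F] [Fintype F] (n q : ℕ) (hF : Fintype.card F = q ^ 2) (hn : 4 ≤ n)
    (r : ℕ) (hr : r.Prime) (hro : Odd r) (K : Subalgebra F (Matrix (Fin n) (Fin n) F))
    (hK : Cfsg.Geo.IsFieldSubalgebra r K) (hac : Cfsg.Geo.IsAdjointClosedFor (Cfsg.hermForm n F q) K)
    (hev : Even (n / r)) (hex : ¬ (n = 2 * r ∧ r = 3 ∧ q = 2)) :
    Cfsg.Geo.IsMaximalIn (Cfsg.GU n F q ⊓ Cfsg.Geo.specialLinear (Fin n) F)
      (Cfsg.Geo.subalgebraNormalizer K ⊓ (Cfsg.GU n F q ⊓ Cfsg.Geo.specialLinear (Fin n) F)) := by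
  classical
  obtain ⟨τ, hτ, hf⟩ := TransvectionUnitaryGen.herm_isUnitaryForm (n := n) hF
  set f := Cfsg.hermForm n F q
  haveI : Nonempty (Fin n) := ⟨⟨0, by omega⟩⟩
  letI : CommRing K :=
    { (inferInstance : Ring K) with mul_comm := fun x y => Subtype.ext (hK.comm _ x.2 _ y.2) }
  have hfld : IsField K := by
    refine ⟨⟨0, 1, zero_ne_one⟩, mul_comm, fun {x} hx => ?_⟩
    obtain ⟨y, hy, hxy⟩ := hK.inv x x.2 (fun h => hx (Subtype.ext h))
    exact ⟨⟨y, hy⟩, Subtype.ext hxy⟩
  letI : Field K := hfld.toField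
  haveI : Finite K := Subtype.finite
  letI : Fintype K := Fintype.ofFinite K
  have hsmul : ∀ (e : K) (x : Fin n → F), e • x = (e : Matrix (Fin n) (Fin n) F) *ᵥ x := fun e x => rfl
  haveI : IsScalarTower F K (Fin n → F) := ⟨fun c e x => by
    rw [hsmul, hsmul, Subalgebra.coe_smul, Matrix.smul_mulVec]⟩
  haveI : FiniteDimensional K (Fin n → F) := Module.Finite.of_restrictScalars_finite F K _
  have hrF : finrank F K = r := hK.finrank_eq
  have hrank : r * finrank K (Fin n → F) = n := by
    have h := Module.finrank_mul_finrank F K (Fin n → F)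
    rwa [hrF, Module.finrank_fintype_fun_eq_card, Fintype.card_fin] at h
  have hdiv : n / r = finrank K (Fin n → F) := Nat.div_eq_of_eq_mul_right hr.pos hrank.symm
  rw [hdiv] at hev
  have hr3 : 3 ≤ r := by
    obtain ⟨j, rfl⟩ := hro
    have := hr.two_le
    omega
  -- the involution
  have hnd : ∀ x, (∀ y, f x y = 0) → x = 0 := fun x hx => by
    by_contra h0
    obtain ⟨⟨y, hy⟩, -⟩ := hf.nondegenerate x h0
    exact hy (TransvectionUnitary.skew_zero hf (hx y))
  have hadjE : ∀ c : K, ∃ c' : K, ∀ u v, f (c • u) v = f u (c' • v) := fun c => by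
    obtain ⟨k', hk', he⟩ := hac c c.2
    exact ⟨⟨k', hk'⟩, fun u v => by rw [hsmul, hsmul]; exact he u v⟩
  choose bf hbf using hadjE
  have hright : ∀ u v v' : Fin n → F, (∀ w, f w v = f w v') → v = v' := fun u v v' hvv => by
    refine sub_eq_zero.1 (hnd _ fun w => TransvectionUnitary.skew_zero hf ?_)
    rw [TransvectionUnitary.sub_right hf, hvv, sub_self]
  have huniq : ∀ c d : K, (∀ u v, f (c • u) v = f u (d • v)) → bf c = d := fun c d hcd => by
    obtain ⟨v, hv⟩ := exists_ne (0 : Fin n → F)
    exact smul_left_injective K hv (hright v _ _ fun w => by rw [← hbf, hcd])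
  have hbb : ∀ c, bf (bf c) = c := fun c => huniq _ _ fun u v => by
    rw [hf.herm, ← hbf c, ← hf.herm]
  let bhom : K →+* K :=
    { toFun := bf
      map_one' := huniq _ _ fun u v => by rw [one_smul, one_smul]
      map_mul' := fun c d => huniq _ _ fun u v => by
        rw [mul_smul, hbf, hbf, ← mul_smul, mul_comm]
      map_zero' := huniq _ _ fun u v => by
        rw [zero_smul, zero_smul, TransvectionUnitary.zero_left hf, TransvectionUnitary.zero_right hf]
      map_add' := fun c d => huniq _ _ fun u v => by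
        rw [add_smul, hf.add_left, hbf, hbf, ← TransvectionUnitary.add_right hf, ← add_smul] }
  let β : K ≃+* K := RingEquiv.ofBijective bhom ⟨bhom.injective, fun c => ⟨bf c, hbb c⟩⟩
  have hβ : ∀ c, β c = bf c := fun c => rfl
  have halg : ∀ a, β (algebraMap F K a) = algebraMap F K (τ a) := fun a => huniq _ _ fun u v => by
    rw [algebraMap_smul, algebraMap_smul, hf.smul_left, TransvectionUnitary.smul_right hf, hf.involutive]
  obtain ⟨ρ, h, G⟩ := ExtFieldGU22.exists_geo τ β f (hrF ▸ hr) (by rw [hrF]; exact hr3) hf.involutive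
    (TransvectionUnitary.exists_not_fixed hf.ne_refl) halg hbb hf.add_left hf.smul_left
    (fun x y => hf.herm y x) hbf hnd
  -- not everything normalises K
  have hTK : ∀ (v : Fin n → F) (c : F), f v v = 0 → τ c = -c →
      TransvectionMax.ft f v (τ c • v) ∈ Cfsg.GU n F q ⊓ Cfsg.Geo.specialLinear (Fin n) F := fun v c hv hc =>
    ⟨fun x y => TransvectionUnitary.ut_preserves hf hv hc x y, TransvectionMax.ft_mem_sl f v _⟩
  have hwit : ¬ Cfsg.GU n F q ⊓ Cfsg.Geo.specialLinear (Fin n) F ≤ Cfsg.Geo.subalgebraNormalizer K := by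
    intro hle
    obtain ⟨u, -, hu, huu⟩ := TransvectionUnitary.exists_isotropic hf (X := ⊤)
      (by rw [finrank_top, Module.finrank_fintype_fun_eq_card, Fintype.card_fin]; omega)
    obtain ⟨t, ht0, ht⟩ := TransvectionUnitary.exists_tz hf
    set T := TransvectionMax.ft f u (τ t • u)
    have hTx : ∀ x, (T : Matrix (Fin n) (Fin n) F) *ᵥ x = x + (t * f x u) • u := fun x =>
      TransvectionUnitary.ut_act hf huu t x
    have hcomm : ∀ (k : K) y, (t * f (k • y) u) • u = (t * f y u) • (k • u) := by
      intro k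
      let k' : K := ⟨_, ((hle (hTK u t huu ht)) k).1 k.2⟩
      have hk' : ∀ x, k' • ((T : Matrix (Fin n) (Fin n) F) *ᵥ x) =
          (T : Matrix (Fin n) (Fin n) F) *ᵥ (k • x) := fun x => by
        rw [hsmul, hsmul, Matrix.mulVec_mulVec, Matrix.mulVec_mulVec]
        show ((_ * _) * _ : Matrix _ _ F) *ᵥ x = _
        rw [Units.inv_mul_cancel_right]
      -- a vector fixed with its multiple
      let φ : (Fin n → F) →ₗ[F] (Fin 2 → F) :=
        { toFun := fun x => ![f x u, f (k • x) u]
          map_add' := fun x y => by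
            ext i; fin_cases i
            · exact hf.add_left x y u
            · show f (k • (x + y)) u = f (k • x) u + f (k • y) u
              rw [smul_add, hf.add_left]
          map_smul' := fun s x => by
            ext i; fin_cases i
            · exact hf.smul_left s x u
            · show f (k • (s • x)) u = s * f (k • x) u
              rw [smul_comm, hf.smul_left] }
      obtain ⟨x, hx, hx0⟩ := Submodule.exists_mem_ne_zero_of_ne_bot (p := LinearMap.ker φ) fun e => by
        have h1 := LinearMap.finrank_range_add_finrank_ker φ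
        have h2 := Submodule.finrank_le (LinearMap.range φ)
        rw [e, finrank_bot, Module.finrank_fintype_fun_eq_card, Fintype.card_fin] at h1
        rw [Module.finrank_fin_fun] at h2
        omega
      have hx1 : f x u = 0 := congrFun (LinearMap.mem_ker.1 hx) 0
      have hx2 : f (k • x) u = 0 := congrFun (LinearMap.mem_ker.1 hx) 1
      have hkk : k' = k := by
        apply smul_left_injective K hx0
        show k' • x = k • x
        have := hk' x
        rwa [hTx, hTx, hx1, hx2, mul_zero, zero_smul, add_zero, add_zero] at this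
      intro y
      have := hk' y
      rw [hkk, hTx, hTx, smul_add, add_right_inj, smul_comm] at this
      exact this.symm
    obtain ⟨⟨y₀, hy₀⟩, -⟩ := hf.nondegenerate u hu
    have hbot : ∀ k ∈ K, k ∈ (⊥ : Subalgebra F (Matrix (Fin n) (Fin n) F)) := by
      intro k hk
      have h1 := hcomm ⟨k, hk⟩ ((t * f y₀ u)⁻¹ • y₀)
      have e : t * f ((t * f y₀ u)⁻¹ • y₀) u = 1 := by
        rw [hf.smul_left]
        field_simp
      rw [e, one_smul, ← algebraMap_smul K _ u] at h1
      exact Algebra.mem_bot.2 ⟨_, congrArg Subtype.val (smul_left_injective K hu h1)⟩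
    have := hK.finrank_eq
    rw [show K = ⊥ from eq_bot_iff.2 hbot, Subalgebra.finrank_bot] at this
    exact hr.one_lt.ne this
  refine ⟨lt_of_le_of_ne inf_le_right (fun e => hwit (e ▸ inf_le_left)), fun M h1 h2 => ?_⟩
  let M' : Subgroup ((Fin n → F) ≃ₗ[F] (Fin n → F)) :=
    { carrier := {g | ∃ A ∈ M, ∀ x, (A : Matrix (Fin n) (Fin n) F) *ᵥ x = g x}
      mul_mem' := by
        rintro a b ⟨A, hA, hAx⟩ ⟨B, hB, hBx⟩
        exact ⟨A * B, mul_mem hA hB, fun x => by rw [TransvectionMax.mul_act, hBx, hAx]; rfl⟩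
      one_mem' := ⟨1, one_mem M, fun x => by rw [TransvectionMax.one_act]; rfl⟩
      inv_mem' := by
        rintro a ⟨A, hA, hAx⟩
        refine ⟨A⁻¹, inv_mem hA, fun x => ?_⟩
        apply a.injective
        rw [← hAx, TransvectionMax.act_inv_act]
        exact (a.apply_symm_apply x).symm }
  have hM : ExtFieldGU22.Over K f M' := by
    refine ⟨?_, fun g hlin hpres hdet => ?_⟩
    · rintro g ⟨A, hA, hAx⟩ x y
      rw [← hAx, ← hAx]
      exact (h2 hA).1 x y
    let A : GL (Fin n) F :=
      ⟨LinearMap.toMatrix' g.toLinearMap, LinearMap.toMatrix' g.symm.toLinearMap,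
        by rw [← LinearMap.toMatrix'_comp, LinearEquiv.comp_symm, LinearMap.toMatrix'_id],
        by rw [← LinearMap.toMatrix'_comp, LinearEquiv.symm_comp, LinearMap.toMatrix'_id]⟩
    have hA : ∀ x, (A : Matrix (Fin n) (Fin n) F) *ᵥ x = g x := fun x =>
      LinearMap.toMatrix'_mulVec g.toLinearMap x
    refine ⟨A, h1 ⟨?_, fun x y => ?_, ?_⟩, hA⟩
    · intro k
      have hconj : ∀ c : K, (A : Matrix (Fin n) (Fin n) F) *
          (c : Matrix (Fin n) (Fin n) F) * (A⁻¹ : GL (Fin n) F) = c := by
        intro c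
        rw [Units.mul_inv_eq_iff_eq_mul]
        apply Matrix.ext_iff_mulVec.mpr
        intro x
        rw [← Matrix.mulVec_mulVec, ← Matrix.mulVec_mulVec, hA, hA, ← hsmul, hlin, hsmul]
      constructor
      · intro hk
        rw [hconj ⟨k, hk⟩]
        exact hk
      · intro hk
        have h := hconj ⟨_, hk⟩
        have := (Units.mul_right_inj A).1 ((Units.mul_left_inj A⁻¹).1 h)
        rw [← this]
        exact hk
    · show f ((A : Matrix (Fin n) (Fin n) F) *ᵥ x) ((A : Matrix (Fin n) (Fin n) F) *ᵥ y) = f x y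
      rw [hA, hA]
      exact hpres x y
    · refine MonoidHom.mem_ker.2 (Units.ext ?_)
      rw [Matrix.GeneralLinearGroup.val_det_apply, Units.val_one]
      show (LinearMap.toMatrix' g.toLinearMap).det = 1
      rw [LinearMap.det_toMatrix', ← LinearEquiv.coe_det, hdet, Units.val_one]
  have hbig : 4 ≤ finrank K (Fin n → F) ∨
      ∃ u : K, β u = u⁻¹ ∧ Algebra.norm F u = 1 ∧ ∀ t : F, u * u ≠ algebraMap F K t := by
    by_cases h4 : 4 ≤ finrank K (Fin n → F)
    · exact Or.inl h4
    right
    refine exists_unit q r hF τ hτ hf.involutive (TransvectionUnitary.exists_not_fixed hf.ne_refl) β hbb halg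
      hrF hr hro fun hc => hex ⟨?_, hc⟩
    obtain ⟨j, hj⟩ := hev
    have hj1 : j = 1 := by
      have : 0 < finrank K (Fin n → F) := Module.finrank_pos
      omega
    rw [hj, hj1] at hrank
    omega
  rcases ExtFieldGU22.main G hM hev hbig with hsemi | htv
  · left
    refine le_antisymm (le_inf (fun A hA => ?_) h2) h1
    let g : (Fin n → F) ≃ₗ[F] (Fin n → F) :=
      LinearEquiv.ofBijective (Matrix.toLin' (A : Matrix (Fin n) (Fin n) F))
        ((Finite.injective_iff_bijective).1 fun a b h =>
          TransvectionMax.act_injective A (by simpa [Matrix.toLin'_apply] using h))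
    have hg : g ∈ M' := ⟨A, hA, fun x => (Matrix.toLin'_apply _ x).symm⟩
    choose d hd using hsemi g hg
    have hinj : Function.Injective d := fun c c' h => by
      obtain ⟨v, hv⟩ := exists_ne (0 : Fin n → F)
      exact smul_left_injective K hv (g.injective (by
        show g (c • v) = g (c' • v)
        rw [hd, hd, h]))
    have hconj : ∀ c : K, (A : Matrix (Fin n) (Fin n) F) * (c : Matrix (Fin n) (Fin n) F) *
        ((A⁻¹ : GL (Fin n) F) : Matrix (Fin n) (Fin n) F) = (d c : K) := by
      intro c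
      rw [Units.mul_inv_eq_iff_eq_mul]
      apply Matrix.ext_iff_mulVec.mpr
      intro x
      rw [← Matrix.mulVec_mulVec, ← Matrix.mulVec_mulVec, ← hsmul, ← hsmul]
      exact (Matrix.toLin'_apply _ _).symm.trans
        ((hd c x).trans (congrArg (d c • ·) (Matrix.toLin'_apply _ _)))
    intro k
    constructor
    · intro hk
      rw [show k = ((⟨k, hk⟩ : K) : Matrix (Fin n) (Fin n) F) from rfl, hconj]
      exact (d ⟨k, hk⟩).2
    · intro hk
      obtain ⟨c, hc⟩ := (Finite.injective_iff_surjective.1 hinj) ⟨_, hk⟩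
      have h := hconj c
      rw [hc] at h
      have := (Units.mul_right_inj A).1 ((Units.mul_left_inj A⁻¹).1 h)
      rw [← this]
      exact c.2
  · right
    refine le_antisymm h2 (su_le hF hn fun v c hv hc => ?_)
    obtain ⟨g, ⟨A, hA, hAx⟩, hgx⟩ := htv v hv c (by rw [hτ]; exact eq_neg_of_add_eq_zero_right hc)
    exact ⟨A, hA, fun x => by rw [hAx, hgx]⟩

end Cfsg.Agent.ExtFieldGU22Glue
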