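import Mathlib
import Cfsg.Agent.Lib.OrthUnitarySimple

/-!
A subgroup of an orthogonal group containing the Siegel elements of all `J`-lines (`J` spanning a quadratic
extension field acting by similitudes with non-trivial adjoint) contains the commutator subgroup as soon as it
contains a Siegel element of another totally singular line.
-/

set_option autoImplicit false
set_option linter.unusedSectionVars false
set_option maxHeartbeats 1000000

namespace Cfsg.Agent.ExtFieldGUOrthTen58

open QuadraticMap Module
open Cfsg.Agent.OrthUnitaryQuad Cfsg.Agent.OrthUnitaryRefl Cfsg.Agent.OrthUnitaryOmega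
  Cfsg.Agent.OrthUnitarySimple

variable {F V : Type*} [Field F] [Fintype F] [AddCommGroup V] [Module F V] [FiniteDimensional F V]

/-- The setting. -/
structure Setting (Q : QuadraticForm F V) (J : V →ₗ[F] V) (t d : F) : Prop where
  nd : (polarBilin Q).Nondegenerate
  sq : ∀ x, J (J x) = t • J x - d • x
  irred : ∀ s : F, s * s - t * s + d ≠ 0
  adj : ∀ x y, polar Q (J x) y = t * polar Q x y - polar Q x (J y)
  qJ : ∀ x, Q (J x) = d * Q x
  diag : ∀ x, polar Q x (J x) = t * Q x
  dim : 10 ≤ finrank F V

variable {Q : QuadraticForm F V} {J : V →ₗ[F] V} {t d : F}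

section
variable (hS : Setting Q J t d)
include hS

theorem f_right (x y : V) : polar Q x (J y) = t * polar Q x y - polar Q (J x) y := by
  rw [hS.adj]; ring

theorem f_JJ (x y : V) : polar Q (J x) (J y) = d * polar Q x y := by
  rw [hS.adj, hS.sq, polar_sub_right, polar_smul_right, polar_smul_right, smul_eq_mul, smul_eq_mul]
  ring

theorem norm_ne {a b : F} (h : a ≠ 0 ∨ b ≠ 0) : a * a - t * a * b + d * b * b ≠ 0 := by
  intro h0
  by_cases hb : b = 0
  · subst hb
    rcases h with h | h
    · simp [h] at h0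
    · exact h rfl
  · apply hS.irred (a / b)
    field_simp
    linear_combination h0

theorem span_stable (x : V) : ∀ y ∈ Submodule.span F ({x, J x} : Set V),
    J y ∈ Submodule.span F ({x, J x} : Set V) := by
  intro y hy
  obtain ⟨s, u, rfl⟩ := Submodule.mem_span_pair.1 hy
  rw [map_add, map_smul, map_smul, hS.sq]
  exact add_mem (Submodule.smul_mem _ _ (Submodule.subset_span (by simp)))
    (Submodule.smul_mem _ _ (sub_mem (Submodule.smul_mem _ _ (Submodule.subset_span (by simp)))
      (Submodule.smul_mem _ _ (Submodule.subset_span (by simp)))))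

theorem span4_stable (a b : V) : ∀ y ∈ Submodule.span F ({a, J a, b, J b} : Set V),
    J y ∈ Submodule.span F ({a, J a, b, J b} : Set V) := by
  intro y hy
  induction hy using Submodule.span_induction with
  | mem z hz =>
    rcases hz with rfl | rfl | rfl | rfl
    · exact Submodule.subset_span (by simp)
    · rw [hS.sq]
      exact sub_mem (Submodule.smul_mem _ _ (Submodule.subset_span (by simp)))
        (Submodule.smul_mem _ _ (Submodule.subset_span (by simp)))
    · exact Submodule.subset_span (by simp)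
    · rw [hS.sq]
      exact sub_mem (Submodule.smul_mem _ _ (Submodule.subset_span (by simp)))
        (Submodule.smul_mem _ _ (Submodule.subset_span (by simp)))
  | zero => simp
  | add u v _ _ hu hv => rw [map_add]; exact add_mem hu hv
  | smul c u _ hu => rw [map_smul]; exact Submodule.smul_mem _ _ hu

theorem mem_of_comb {U : Submodule F V} (hU : ∀ x ∈ U, J x ∈ U) {x : V} {s u : F}
    (h : s • x + u • J x ∈ U) (hne : s ≠ 0 ∨ u ≠ 0) : x ∈ U := by
  have hn : s * s + t * s * u + d * u * u ≠ 0 := by
    have := norm_ne hS (a := s) (b := -u) (hne.imp id neg_ne_zero.2)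
    intro h0
    exact this (by linear_combination h0)
  have hx : (s * s + t * s * u + d * u * u) • x = (s + t * u) • (s • x + u • J x) - u • J (s • x + u • J x) := by
    rw [map_add, map_smul, map_smul, hS.sq]
    module
  have := U.smul_mem (s * s + t * s * u + d * u * u)⁻¹ (U.sub_mem (U.smul_mem (s + t * u) h) (U.smul_mem u (hU _ h)))
  rwa [← hx, inv_smul_smul₀ hn] at this

theorem indep {x : V} (hx : x ≠ 0) {s u : F} (h : s • x + u • J x = 0) : s = 0 ∧ u = 0 := by
  by_contra hne
  have := mem_of_comb hS (U := ⊥) (by simp) (x := x) (s := s) (u := u) (by simp [h]) (by tauto)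
  exact hx ((Submodule.mem_bot F).1 this)

end

/-- The span of two `J`-lines. -/
def lines (J : V →ₗ[F] V) (a b : V) : Submodule F V := Submodule.span F {a, J a, b, J b}

/-- The orthogonal of two `J`-lines. -/
def perp (Q : QuadraticForm F V) (J : V →ₗ[F] V) (a b : V) : Submodule F V :=
  LinearMap.BilinForm.orthogonal (polarBilin Q) (lines J a b)

theorem mem_perp {a b x : V} :
    x ∈ perp Q J a b ↔ polar Q a x = 0 ∧ polar Q (J a) x = 0 ∧ polar Q b x = 0 ∧ polar Q (J b) x = 0 := by
  constructor
  · intro h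
    exact ⟨h a (Submodule.subset_span (by simp)), h (J a) (Submodule.subset_span (by simp)),
      h b (Submodule.subset_span (by simp)), h (J b) (Submodule.subset_span (by simp))⟩
  · rintro ⟨h1, h2, h3, h4⟩ y hy
    have : lines J a b ≤ LinearMap.ker ((polarBilin Q).flip x) := by
      rw [lines, Submodule.span_le]
      rintro z (rfl | rfl | rfl | rfl) <;> simpa
    simpa using this hy

section
variable (hS : Setting Q J t d)
include hS

theorem J_mem_perp {a b x : V} (hx : x ∈ perp Q J a b) : J x ∈ perp Q J a b := by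
  rw [mem_perp] at hx ⊢
  refine ⟨?_, ?_, ?_, ?_⟩
  · rw [f_right hS, hx.1, hx.2.1]; ring
  · rw [f_JJ hS, hx.1, mul_zero]
  · rw [f_right hS, hx.2.2.1, hx.2.2.2]; ring
  · rw [f_JJ hS, hx.2.2.1, mul_zero]

theorem comb_mem_perp {a b x : V} (hx : x ∈ perp Q J a b) (s u : F) : s • x + u • J x ∈ perp Q J a b :=
  add_mem (Submodule.smul_mem _ _ hx) (Submodule.smul_mem _ _ (J_mem_perp hS hx))

theorem Q_comb {x : V} (hx : Q x = 0) (s u : F) : Q (s • x + u • J x) = 0 := by
  simp [QuadraticMap.map_add (⇑Q), QuadraticMap.map_smul, hS.qJ, hx, polar_smul_left, polar_smul_right, hS.diag]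

theorem perp_perp {a b x : V} (h : ∀ y ∈ perp Q J a b, polar Q x y = 0) : x ∈ lines J a b := by
  have hrefl : (polarBilin Q).IsRefl := fun u v huv => (polar_comm _ v u).trans huv
  rw [← LinearMap.BilinForm.orthogonal_orthogonal hS.nd hrefl (lines J a b)]
  exact fun y hy => (polar_comm _ y x).trans (h y hy)

omit [Fintype F] hS in
theorem lines_zero_eq (a : V) : lines J a 0 = Submodule.span F {a, J a} := by
  rw [lines, map_zero]
  apply le_antisymm <;> rw [Submodule.span_le] <;> rintro z hz
  · rcases hz with rfl | rfl | rfl | rfl <;>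
      first | exact zero_mem _ | exact Submodule.subset_span (by simp)
  · rcases hz with rfl | rfl <;> exact Submodule.subset_span (by simp)

/-- The singular vectors outside the lines span, unless the lines span a totally singular
four-space. -/
theorem perp_le_span (a b : V) (hab : b ∈ lines J a 0 ∨ b ∉ perp Q J a b) :
    perp Q J a b ≤ Submodule.span F {x | x ∈ perp Q J a b ∧ Q x = 0 ∧ x ∉ lines J a b} := by
  classical
  set W := perp Q J a b with hW
  set S := lines J a b with hSd
  have hS4 : finrank F S ≤ 4 := by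
    have := finrank_span_finset_le_card (R := F) (({a, J a, b, J b} : Finset V))
    simp only [Finset.coe_insert, Finset.coe_singleton] at this
    exact this.trans Finset.card_le_four
  have hWd : finrank F V ≤ finrank F W + 4 := by
    have h1 := LinearMap.BilinForm.finrank_orthogonal (B := polarBilin Q) hS.nd S
    rw [hW, perp, ← hSd]
    omega
  obtain ⟨C, hC⟩ := ((S ⊓ W).comap W.subtype).exists_isCompl
  set C' := C.map W.subtype with hC'
  have hC'W : C' ≤ W := by
    rintro _ ⟨x, -, rfl⟩
    exact x.2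
  have hdisj : ∀ x ∈ C', x ∈ S → x = 0 := by
    rintro _ ⟨x, hxC, rfl⟩ hxS
    have h0 : x = 0 := (Submodule.disjoint_def.1 hC.disjoint) _ (show x ∈ _ from ⟨hxS, x.2⟩) hxC
    simp [h0]
  have hdim : 3 ≤ finrank F C' := by
    rw [hC', Submodule.finrank_map_subtype_eq]
    have h1 := Submodule.finrank_add_eq_of_isCompl hC
    rw [(Submodule.comapSubtypeEquivOfLe (inf_le_right : S ⊓ W ≤ W)).finrank_eq] at h1
    have h2 := Submodule.finrank_mono (inf_le_left : S ⊓ W ≤ S)
    have h3 := LinearMap.BilinForm.finrank_orthogonal (B := polarBilin Q) hS.nd S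
    have h4 : finrank F W = finrank F V - finrank F S := h3
    have := hS.dim
    rcases hab with hab | hab
    · have h5 : finrank F S ≤ 2 := by
        have hle : S ≤ Submodule.span F {a, J a} := by
          rw [lines_zero_eq] at hab
          rw [hSd, lines, Submodule.span_le]
          rintro z (rfl | rfl | rfl | rfl)
          · exact Submodule.subset_span (by simp)
          · exact Submodule.subset_span (by simp)
          · exact hab
          · exact span_stable hS a _ hab
        refine (Submodule.finrank_mono hle).trans ?_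
        have := finrank_span_finset_le_card (R := F) (({a, J a} : Finset V))
        rw [Finset.coe_pair] at this
        exact this.trans Finset.card_le_two
      omega
    · have hlt : S ⊓ W < S := inf_le_left.lt_of_ne fun he => hab ((inf_eq_left.1 he)
        (Submodule.subset_span (by simp)))
      have := Submodule.finrank_lt_finrank_of_lt hlt
      omega
  have hsplit : ∀ y ∈ W, ∃ s ∈ S ⊓ W, ∃ c ∈ C', y = s + c := by
    intro y hy
    obtain ⟨s, hs, c, hc, hsc⟩ := Submodule.mem_sup.1 (hC.sup_eq_top ▸ Submodule.mem_top (x := (⟨y, hy⟩ : W)))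
    exact ⟨s, hs, c, Submodule.mem_map_of_mem hc, (congrArg Subtype.val hsc).symm⟩
  have hperpS : ∀ x ∈ W, ∀ s ∈ S, polar Q x s = 0 := fun x hx s hs => (polar_comm _ x s).trans (hx s hs)
  have hreg : IsReg (Q.restrict C') := by
    intro x hx _
    refine Subtype.ext (hdisj x x.2 (perp_perp hS fun y hy => ?_))
    obtain ⟨s, hs, c, hc, rfl⟩ := hsplit y hy
    have h1 : polar Q (x : V) c = 0 := hx ⟨c, hc⟩
    rw [polar_add_right, hperpS _ (hC'W x.2) s hs.1, zero_add, h1]
  obtain ⟨p, hp, hp0⟩ := exists_singular hreg hdim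
  have hpp : Q (p : V) = 0 := hp
  have hpS : (p : V) ∉ S := fun h => hp0 (Subtype.ext (hdisj p p.2 h))
  obtain ⟨q, hq, hpq⟩ : ∃ q ∈ W, polar Q (p : V) q ≠ 0 := by
    by_contra hcon
    push Not at hcon
    exact hpS (perp_perp hS hcon)
  have hp' : (p : V) ∈ Submodule.span F {x | x ∈ W ∧ Q x = 0 ∧ x ∉ S} :=
    Submodule.subset_span ⟨hC'W p.2, hpp, hpS⟩
  have key : ∀ y ∈ W, polar Q (p : V) y ≠ 0 → y ∈ Submodule.span F {x | x ∈ W ∧ Q x = 0 ∧ x ∉ S} := by
    intro y hy hpy
    set c := - Q y / polar Q (p : V) y with hc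
    have h0 : Q (y + c • (p : V)) = 0 := by
      rw [QuadraticMap.map_add (⇑Q), QuadraticMap.map_smul, hpp, polar_smul_right, polar_comm Q y, hc]
      simp [hpy]
    have hn : y + c • (p : V) ∉ S := by
      intro h
      have h1 := hperpS _ (hC'W p.2) _ h
      rw [polar_add_right, polar_smul_right, polar_self_mul, hpp] at h1
      simp [hpy] at h1
    have h2 : y + c • (p : V) ∈ Submodule.span F {x | x ∈ W ∧ Q x = 0 ∧ x ∉ S} :=
      Submodule.subset_span ⟨add_mem hy (Submodule.smul_mem _ _ (hC'W p.2)), h0, hn⟩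
    have := sub_mem h2 (Submodule.smul_mem _ c hp')
    rwa [add_sub_cancel_right] at this
  intro y hy
  by_cases h : polar Q (p : V) y = 0
  · have h1 := key (y + q) (add_mem hy hq) (by rw [polar_add_right, h, zero_add]; exact hpq)
    have := sub_mem h1 (key q hq hpq)
    rwa [add_sub_cancel_right] at this
  · exact key y hy h

theorem exists_iso (a b c : V) (hab : b ∈ lines J a 0 ∨ b ∉ perp Q J a b) (h : ∃ y ∈ perp Q J a b, polar Q c y ≠ 0) :
    ∃ p ∈ perp Q J a b, Q p = 0 ∧ p ∉ lines J a b ∧ polar Q c p ≠ 0 := by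
  by_contra hcon
  push Not at hcon
  obtain ⟨y, hy, hyc⟩ := h
  have hle : Submodule.span F {x | x ∈ perp Q J a b ∧ Q x = 0 ∧ x ∉ lines J a b} ≤
      LinearMap.ker (polarBilin Q c) := by
    rw [Submodule.span_le]
    rintro x ⟨h1, h2, h3⟩
    simpa using hcon x h1 h2 h3
  exact hyc (hle (perp_le_span hS a b hab hy))

theorem exists_out (a b : V) (hab : b ∈ lines J a 0 ∨ b ∉ perp Q J a b) : ∃ p ∈ perp Q J a b, Q p = 0 ∧ p ∉ lines J a b := by
  by_contra hcon
  push Not at hcon
  have hle : perp Q J a b ≤ ⊥ := by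
    refine (perp_le_span hS a b hab).trans (Submodule.span_le.2 ?_)
    rintro x ⟨h1, h2, h3⟩
    exact absurd (hcon x h1 h2) h3
  have h1 := Submodule.finrank_mono hle
  have h2 := LinearMap.BilinForm.finrank_orthogonal (B := polarBilin Q) hS.nd (lines J a b)
  classical
  have h3 := finrank_span_finset_le_card (R := F) (({a, J a, b, J b} : Finset V))
  simp only [Finset.coe_insert, Finset.coe_singleton] at h3
  have h4 := h3.trans Finset.card_le_four
  rw [finrank_bot, perp] at h1
  have h5 : finrank F (lines J a b) ≤ 4 := h4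
  have := hS.dim
  omega

end

/-- All Siegel elements along `(a, w)` lie in `M`. -/
def W (M : Subgroup (orth Q)) {a : V} (ha : Q a = 0) : Submodule F V where
  carrier := {w | ∃ h : polar Q a w = 0, ∀ c : F,
    siegel Q a (c • w) ha (by rw [polar_smul_right, h, smul_zero]) ∈ M}
  zero_mem' := by
    refine ⟨polar_zero_right _ _, fun c => ?_⟩
    rw [siegel_eq_one ha _ (a := 0) (by simp)]
    exact one_mem M
  add_mem' := by
    rintro x y ⟨hx, hx'⟩ ⟨hy, hy'⟩
    refine ⟨by rw [polar_add_right, hx, hy, add_zero], fun c => ?_⟩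
    rw [siegel_congr ha _ (smul_add c x y), ← siegel_mul ha (by rw [polar_smul_right, hx, smul_zero])
      (by rw [polar_smul_right, hy, smul_zero])]
    exact mul_mem (hx' c) (hy' c)
  smul_mem' := by
    rintro s x ⟨hx, hx'⟩
    refine ⟨by rw [polar_smul_right, hx, smul_zero], fun c => ?_⟩
    rw [siegel_congr ha _ (smul_smul c s x)]
    exact hx' (c * s)

theorem mem_W {M : Subgroup (orth Q)} {a w : V} {ha : Q a = 0} :
    w ∈ W M ha ↔ ∃ h : polar Q a w = 0, ∀ c : F,
      siegel Q a (c • w) ha (by rw [polar_smul_right, h, smul_zero]) ∈ M := Iff.rfl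

theorem W_polar {M : Subgroup (orth Q)} {a w : V} {ha : Q a = 0} (h : w ∈ W M ha) : polar Q a w = 0 := h.1

theorem W_map {M : Subgroup (orth Q)} {g : orth Q} (hg : g ∈ M) {a w : V} {ha : Q a = 0} (hga : g.1 a = a)
    (hw : w ∈ W M ha) : g.1 w ∈ W M ha := by
  obtain ⟨h, h'⟩ := hw
  refine ⟨by rw [← hga, polar_orth g, h], fun c => ?_⟩
  have := mul_mem (mul_mem hg (h' c)) (inv_mem hg)
  rw [conj_siegel] at this
  convert this using 2
  · exact hga.symm
  · rw [map_smul]

theorem W_comm {M : Subgroup (orth Q)} {a w : V} {ha : Q a = 0} (hw : Q w = 0) (h : w ∈ W M ha) :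
    a ∈ W M hw := by
  obtain ⟨h1, h2⟩ := h
  refine ⟨(polar_comm _ w a).trans h1, fun c => ?_⟩
  convert h2 (-c) using 1
  apply orth_ext
  intro x
  rw [siegel_apply, siegel_apply]
  simp only [QuadraticMap.map_smul, hw, ha, polar_smul_left, smul_eq_mul, mul_zero, zero_mul, add_zero]
  module

theorem W_apply {M : Subgroup (orth Q)} {a w : V} {ha : Q a = 0} (hw : Q w = 0) (h : w ∈ W M ha) :
    ∃ g ∈ M, ∀ x, g.1 x = x + polar Q a x • w - polar Q w x • a := by
  obtain ⟨_, h2⟩ := h
  refine ⟨_, h2 1, fun x => ?_⟩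
  rw [siegel_apply]
  simp [hw]

/-- The hypothesis on the group. -/
def Hyp (M : Subgroup (orth Q)) (J : V →ₗ[F] V) : Prop := ∀ (v : V) (hv : Q v = 0), J v ∈ W M hv

section
variable {M : Subgroup (orth Q)} (hS : Setting Q J t d) (hM : Hyp M J)
include hS hM

/-- One further element in `W` gives the orthogonal of the line. -/
theorem perp_le_W {a b : V} {ha : Q a = 0} (hb : b ∈ W M ha) (hn : b ∉ lines J a 0) :
    perp Q J a 0 ≤ W M ha := by
  classical
  have hs : ∀ {v}, Q v = 0 → Q (J v) = 0 := fun hv => by rw [hS.qJ, hv, mul_zero]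
  -- a transvection of a singular vector orthogonal to the line moves `W` along that vector
  have shift : ∀ v ∈ perp Q J a 0, Q v = 0 → ∀ x ∈ W M ha,
      polar Q v x • J v - polar Q (J v) x • v ∈ W M ha := by
    intro v hv hvq x hx
    obtain ⟨g, hg, e⟩ := W_apply (hs hvq) (hM v hvq)
    rw [mem_perp] at hv
    have hva : polar Q v a = 0 := (polar_comm _ v a).trans hv.1
    have hJva : polar Q (J v) a = 0 := by
      rw [hS.adj, hva, polar_comm Q v (J a), hv.2.1]; ring
    have hga : g.1 a = a := by rw [e, hva, hJva]; simp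
    have := sub_mem (W_map hg hga hx) hx
    rw [e] at this
    convert this using 1
    abel
  -- a singular element
  obtain ⟨p, hp, hpq, hpn, hbp⟩ := exists_iso hS a 0 b (Or.inl (zero_mem _)) (by
    by_contra hcon
    push Not at hcon
    exact hn (perp_perp hS hcon))
  set w := (-polar Q (J p) b) • p + polar Q p b • J p with hw
  have hwW : w ∈ W M ha := by
    have := shift p hp hpq b hb
    convert this using 1
    rw [hw]; module
  have hwq : Q w = 0 := Q_comb hS hpq _ _
  have hwp : w ∈ perp Q J a 0 := comb_mem_perp hS hp _ _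
  have hwn : w ∉ lines J a 0 := fun h => hpn (mem_of_comb hS (span4_stable hS a 0) h
    (Or.inr (by rw [polar_comm Q p b]; exact hbp)))
  clear_value w
  clear hw hp hpq hpn hbp hb hn p b
  -- the elements orthogonal to a singular one
  have half : ∀ w, Q w = 0 → w ∈ W M ha → w ∈ perp Q J a 0 → w ∉ lines J a 0 →
      (∀ x ∈ perp Q J a 0, polar Q w x = 0 → x ∈ W M ha) ∧ J w ∈ W M ha ∧
      ∃ y ∈ perp Q J a 0, polar Q w y = 0 ∧ polar Q (J w) y ≠ 0 := by
    intro w hwq hwW hwp hwn
    obtain ⟨y, hy, hwy, hJwy⟩ : ∃ y ∈ perp Q J a 0, polar Q w y = 0 ∧ polar Q (J w) y ≠ 0 := by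
      obtain ⟨p, hp, hwp'⟩ : ∃ p ∈ perp Q J a 0, polar Q w p ≠ 0 := by
        by_contra hcon
        push Not at hcon
        exact hwn (perp_perp hS hcon)
      refine ⟨polar Q w (J p) • p + (-polar Q w p) • J p, comb_mem_perp hS hp _ _, ?_, ?_⟩
      · simp only [polar_add_right, polar_smul_right, smul_eq_mul]; ring
      · have : polar Q (J w) (polar Q w (J p) • p + (-polar Q w p) • J p) =
            -(polar Q w (J p) * polar Q w (J p) - t * polar Q w (J p) * polar Q w p +
              d * polar Q w p * polar Q w p) := by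
          simp only [polar_add_right, polar_smul_right, smul_eq_mul, f_JJ hS, hS.adj w p]
          ring
        rw [this, neg_ne_zero]
        exact norm_ne hS (Or.inr hwp')
    have hJwp : J w ∈ perp Q J a 0 := J_mem_perp hS hwp
    have hwJw : polar Q w (J w) = 0 := by rw [hS.diag, hwq, mul_zero]
    -- a singular translate
    have sing : ∀ x ∈ perp Q J a 0, polar Q w x = 0 → polar Q (J w) x ≠ 0 →
        x + (-Q x / polar Q (J w) x) • J w ∈ W M ha := by
      intro x hx hwx hJwx
      set u := x + (-Q x / polar Q (J w) x) • J w with hu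
      have huq : Q u = 0 := by
        rw [hu, QuadraticMap.map_add (⇑Q), QuadraticMap.map_smul, hs hwq, polar_smul_right,
          polar_comm Q x (J w), smul_zero, add_zero, smul_eq_mul, div_mul_cancel₀ _ hJwx, add_neg_cancel]
      have huw : polar Q u w = 0 := by
        rw [hu, polar_add_left, polar_smul_left, (polar_comm _ x w).trans hwx,
          (polar_comm _ (J w) w).trans hwJw, smul_zero, add_zero]
      have hJuw : polar Q (J u) w ≠ 0 := by
        rw [hS.adj, huw, polar_comm Q u (J w), hu, polar_add_right, polar_smul_right, polar_self_mul,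
          hs hwq]
        simp [hJwx]
      have hup : u ∈ perp Q J a 0 := add_mem hx (Submodule.smul_mem _ _ hJwp)
      have h := shift u hup huq w hwW
      rw [huw, zero_smul, zero_sub, neg_mem_iff] at h
      have := Submodule.smul_mem _ (polar Q (J u) w)⁻¹ h
      rwa [inv_smul_smul₀ hJuw] at this
    -- two vectors of the orthogonal of both lines
    have hJw : J w ∈ W M ha := by
      have hlt : ¬ perp Q J a w ≤ lines J a w := fun hle => by
        have h1 := Submodule.finrank_mono hle
        have h2 := LinearMap.BilinForm.finrank_orthogonal (B := polarBilin Q) hS.nd (lines J a w)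
        have h3 := finrank_span_finset_le_card (R := F) (({a, J a, w, J w} : Finset V))
        simp only [Finset.coe_insert, Finset.coe_singleton] at h3
        have h4 : finrank F (lines J a w) ≤ 4 := h3.trans Finset.card_le_four
        rw [perp] at h1
        have := hS.dim
        omega
      obtain ⟨z, hz, hzn⟩ := SetLike.not_le_iff_exists.1 hlt
      obtain ⟨z', hz', hzz'⟩ : ∃ z' ∈ perp Q J a w, polar Q z z' ≠ 0 := by
        by_contra hcon
        push Not at hcon
        exact hzn (perp_perp hS hcon)
      rw [mem_perp] at hz hz'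
      have hzp : z ∈ perp Q J a 0 := mem_perp.2 ⟨hz.1, hz.2.1, by simp, by simp⟩
      have hz'p : z' ∈ perp Q J a 0 := mem_perp.2 ⟨hz'.1, hz'.2.1, by simp, by simp⟩
      set β := polar Q (J w) y with hβ
      have h0 := sing y hy hwy hJwy
      have h1 := sing (y + z) (add_mem hy hzp) (by rw [polar_add_right, hwy, hz.2.2.1, add_zero])
        (by rw [polar_add_right, hz.2.2.2, add_zero]; exact hJwy)
      have h2 := sing (y + z') (add_mem hy hz'p) (by rw [polar_add_right, hwy, hz'.2.2.1, add_zero])
        (by rw [polar_add_right, hz'.2.2.2, add_zero]; exact hJwy)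
      have h3 := sing (y + z + z') (add_mem (add_mem hy hzp) hz'p)
        (by rw [polar_add_right, polar_add_right, hwy, hz.2.2.1, hz'.2.2.1, add_zero, add_zero])
        (by rw [polar_add_right, polar_add_right, hz.2.2.2, hz'.2.2.2, add_zero, add_zero]; exact hJwy)
      simp only [polar_add_right, hz.2.2.2, hz'.2.2.2, add_zero, ← hβ] at h0 h1 h2 h3
      have h := Submodule.smul_mem _ (β / polar Q z z') (sub_mem (add_mem h1 h2) (add_mem h0 h3))
      convert h using 1
      simp only [QuadraticMap.map_add (⇑Q), polar_add_left]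
      match_scalars
      · field_simp; ring
      all_goals ring
    refine ⟨fun x hx hwx => ?_, hJw, y, hy, hwy, hJwy⟩
    have main : ∀ x ∈ perp Q J a 0, polar Q w x = 0 → polar Q (J w) x ≠ 0 → x ∈ W M ha := by
      intro x hx hwx hJwx
      have := sub_mem (sing x hx hwx hJwx) (Submodule.smul_mem _ (-Q x / polar Q (J w) x) hJw)
      rwa [add_sub_cancel_right] at this
    by_cases h : polar Q (J w) x = 0
    · have := sub_mem (main (x + y) (add_mem hx hy) (by rw [polar_add_right, hwx, hwy, add_zero])
        (by rw [polar_add_right, h, zero_add]; exact hJwy)) (main y hy hwy hJwy)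
      rwa [add_sub_cancel_right] at this
    · exact main x hx hwx h
  obtain ⟨hH, hJw, y, hy, hwy, hJwy⟩ := half w hwq hwW hwp hwn
  have hH' := (half (J w) (hs hwq) hJw (J_mem_perp hS hwp) fun h => hwn (mem_of_comb hS
    (span4_stable hS a 0) (s := 0) (u := 1) (by rwa [zero_smul, one_smul, zero_add]) (Or.inr one_ne_zero))).1
  intro x hx
  set k := polar Q (J w) x / polar Q (J w) y with hk
  have := add_mem (hH' (x - k • y) (sub_mem hx (Submodule.smul_mem _ _ hy)) (by
    rw [polar_sub_right, polar_smul_right, smul_eq_mul, hk, div_mul_cancel₀ _ hJwy, sub_self]))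
    (Submodule.smul_mem _ k (hH y hy hwy))
  rwa [sub_add_cancel] at this

/-- All orthogonal pairs. -/
theorem commutator_le {a₀ b₀ : V} (ha₀ : Q a₀ = 0) (ha₀0 : a₀ ≠ 0) (hb₀ : b₀ ∈ W M ha₀) (hn : b₀ ∉ lines J a₀ 0) :
    commutator (orth Q) ≤ M := by
  have h0 := perp_le_W hS hM hb₀ hn
  have hsym : ∀ {x y : V}, y ∈ perp Q J x 0 → x ∈ perp Q J y 0 := fun {x y} h => by
    rw [mem_perp] at h ⊢
    refine ⟨(polar_comm _ y x).trans h.1, ?_, by simp, by simp⟩
    rw [hS.adj, polar_comm Q y x, h.1, polar_comm Q y (J x), h.2.1]; ring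
  have hnswap : ∀ {x y : V}, x ≠ 0 → y ∉ lines J x 0 → x ∉ lines J y 0 := fun {x y} hx h h' => by
    apply h
    have hyy : lines J y 0 = Submodule.span F {y, J y} := by
      rw [lines, map_zero]
      apply le_antisymm <;> rw [Submodule.span_le] <;> rintro z hz
      · rcases hz with rfl | rfl | rfl | rfl <;>
          first | exact zero_mem _ | exact Submodule.subset_span (by simp)
      · rcases hz with rfl | rfl <;> exact Submodule.subset_span (by simp)
    rw [hyy] at h'
    obtain ⟨s, u, e⟩ := Submodule.mem_span_pair.1 h'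
    refine mem_of_comb hS (span4_stable hS x 0) (s := s) (u := u) (e ▸ Submodule.subset_span (by simp)) ?_
    by_contra h0
    push Not at h0
    exact hx (by rw [← e, h0.1, h0.2, zero_smul, zero_smul, add_zero])
  have hall : ∀ {c : V} (hc : Q c = 0), c ≠ 0 → perp Q J c 0 ≤ W M hc := by
    intro c hc hc0
    by_cases hdir : c ∈ perp Q J a₀ 0 ∧ c ∉ lines J a₀ 0
    · exact perp_le_W hS hM (W_comm hc (h0 hdir.1)) (hnswap ha₀0 hdir.2)
    obtain ⟨p, hp, hpq, hpn⟩ := exists_out hS a₀ c (or_iff_not_imp_left.2 fun hn' hm => hdir ⟨by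
      rw [mem_perp] at hm ⊢; exact ⟨hm.1, hm.2.1, by simp, by simp⟩, hn'⟩)
    have hle : lines J a₀ 0 ≤ lines J a₀ c ∧ lines J c 0 ≤ lines J a₀ c := by
      constructor <;> rw [lines, lines, Submodule.span_le] <;>
        rintro z (rfl | rfl | rfl | rfl) <;>
        first | exact zero_mem _ | (rw [map_zero]; exact zero_mem _) | exact Submodule.subset_span (by simp)
    rw [mem_perp] at hp
    have hp1 : p ∈ perp Q J a₀ 0 := mem_perp.2 ⟨hp.1, hp.2.1, by simp, by simp⟩
    have hp2 : p ∈ perp Q J c 0 := mem_perp.2 ⟨hp.2.2.1, hp.2.2.2, by simp, by simp⟩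
    have hn1 : p ∉ lines J a₀ 0 := fun h => hpn (hle.1 h)
    have hn2 : p ∉ lines J c 0 := fun h => hpn (hle.2 h)
    have e1 := perp_le_W hS hM (W_comm hpq (h0 hp1)) (hnswap ha₀0 hn1)
    exact perp_le_W hS hM (W_comm hc (e1 (hsym hp2))) hn2
  rw [commutator_eq_sGroup hS.nd (by have := hS.dim; omega), sGroup, Subgroup.closure_le]
  rintro _ ⟨a, y, ha, hay, -, rfl⟩
  by_cases ha0 : a = 0
  · subst ha0
    rw [siegel_zero_left]
    exact one_mem M
  suffices hy : y ∈ W M ha by
    obtain ⟨h1, h2⟩ := hy
    rw [← siegel_congr ha _ (one_smul F y)]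
    exact h2 1
  obtain ⟨q, hq⟩ : ∃ q, Q q = 0 ∧ polar Q a q ≠ 0 := by
    obtain ⟨q, -, h1, -, h2⟩ := exists_iso hS 0 0 a (Or.inl (zero_mem _)) (by
      by_contra hcon
      push Not at hcon
      exact ha0 (hS.nd.1 a fun z => by simpa using hcon z (mem_perp.2 (by simp))))
    exact ⟨q, h1, h2⟩
  set a' := (-polar Q a (J q)) • q + polar Q a q • J q with ha'
  have ha'q : Q a' = 0 := Q_comb hS hq.1 _ _
  have e1 : polar Q a a' = 0 := by
    simp only [ha', polar_add_right, polar_smul_right, smul_eq_mul]; ring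
  have e2 : polar Q (J a) a' ≠ 0 := by
    have : polar Q (J a) a' = polar Q a (J q) * polar Q a (J q) - t * polar Q a (J q) * polar Q a q +
        d * polar Q a q * polar Q a q := by
      simp only [ha', polar_add_right, polar_smul_right, smul_eq_mul, f_JJ hS, hS.adj a q]
      ring
    rw [this]
    exact norm_ne hS (Or.inr hq.2)
  obtain ⟨c, hc, hcq, hcn⟩ := exists_out hS a a' (Or.inr fun h => e2 (mem_perp.1 h).2.1)
  rw [mem_perp] at hc
  have ha'0 : a' ≠ 0 := fun h => e2 (by rw [h]; simp)
  obtain ⟨g, hg, hgx⟩ := W_apply hcq (hall ha'q ha'0 (mem_perp.2 ⟨hc.2.2.1, hc.2.2.2, by simp, by simp⟩))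
  have hga : g.1 a = a := by
    simp [hgx, polar_comm Q a' a, e1, polar_comm Q c a, hc.1]
  obtain ⟨b, hb, -, -, hcb⟩ := exists_iso hS a 0 c (Or.inl (zero_mem _)) (by
    by_contra hcon
    push Not at hcon
    refine hcn ((show lines J a 0 ≤ lines J a a' by
      rw [lines, lines, Submodule.span_le]
      rintro z (rfl | rfl | rfl | rfl)
      · exact Submodule.subset_span (by simp)
      · exact Submodule.subset_span (by simp)
      · exact zero_mem _
      · rw [map_zero]; exact zero_mem _) (perp_perp hS hcon)))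
  have hgb := W_map hg hga (hall ha ha0 hb)
  rw [mem_perp] at hb
  have e3 : polar Q (J a) (g.1 b) ≠ 0 := by
    simp [hgx, sub_eq_add_neg, polar_add_right, polar_smul_right, polar_neg_right, hb.2.1, hc.2.1, hcb, e2]
  set l := polar Q (J a) y / polar Q (J a) (g.1 b)
  have : y - l • g.1 b ∈ perp Q J a 0 := by
    rw [mem_perp]
    refine ⟨by rw [polar_sub_right, polar_smul_right, hay, W_polar hgb, smul_zero, sub_zero], ?_, by simp, by simp⟩
    rw [polar_sub_right, polar_smul_right, smul_eq_mul, div_mul_cancel₀ _ e3, sub_self]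
  have := add_mem (hall ha ha0 this) (Submodule.smul_mem _ l hgb)
  rwa [sub_add_cancel] at this

end

end Cfsg.Agent.ExtFieldGUOrthTen58
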