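import Cfsg.Prelude.Def_GeometricClasses
import Cfsg.Agent.Lib.ExtFieldGUOrthTen58
import Cfsg.Agent.Lib.OmegaMaxGlue

/-!
Normalisers of hermitian subfields of degree two in orthogonal groups of dimension at least ten.
-/

set_option autoImplicit false
set_option maxHeartbeats 1000000
open Cfsg

namespace Cfsg.Agent.ExtFieldGUMax58

open QuadraticMap Module
open Cfsg.Agent.OrthUnitaryQuad Cfsg.Agent.OrthUnitarySimple Cfsg.Agent.OmegaGeo Cfsg.Agent.OmegaMaxGlue
open Cfsg.Agent.ExtFieldGUOrthTen58 (Setting mem_of_comb indep exists_out exists_iso perp_le_span lines mem_perp)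
open scoped Matrix MatrixGroups

variable {F : Type*} [Field F] [Fintype F] {n : ℕ}

/-- The generator of `K`. -/
theorem exists_delta (hn : 10 ≤ n) (q : QuadraticForm F (Fin n → F)) (hnd : (polarBilin q).Nondegenerate)
    (K : Subalgebra F (Matrix (Fin n) (Fin n) F)) (hK : Cfsg.Geo.IsFieldSubalgebra 2 K)
    (hac : Cfsg.Geo.IsAdjointClosedFor (polar ⇑q) K)
    (hnsa : ¬ Cfsg.Geo.IsSelfAdjointFor (polar ⇑q) K)
    (hsc : ∀ k ∈ K, ∃ c : F, ∀ v, q (k *ᵥ v) = c * q v) :
    ∃ (δ : Matrix (Fin n) (Fin n) F) (t d : F), δ ∈ K ∧ Setting q (Matrix.toLin' δ) t d ∧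
      ∀ k ∈ K, ∃ a b : F, k = a • 1 + b • δ := by
  classical
  haveI : Nonempty (Fin n) := ⟨⟨0, by omega⟩⟩
  have hext : ∀ {A B : Matrix (Fin n) (Fin n) F}, (∀ u v, polar q v (A *ᵥ u) = polar q v (B *ᵥ u)) → A = B := by
    intro A B h
    refine Matrix.ext_iff_mulVec.mpr fun u => sub_eq_zero.1 (hnd.2 _ fun v => ?_)
    simp [h u v]
  obtain ⟨k, hk, hk'⟩ : ∃ k ∈ K, ¬ ∀ u v, polar q (k *ᵥ u) v = polar q u (k *ᵥ v) := by
    simp only [Cfsg.Geo.IsSelfAdjointFor, not_forall] at hnsa
    obtain ⟨k, hk, h⟩ := hnsa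
    exact ⟨k, hk, fun h' => h.elim fun u ⟨v, huv⟩ => huv (h' u v)⟩
  obtain ⟨k', hk'K, hadj⟩ := hac k hk
  have hadj' : ∀ u v, polar q (k' *ᵥ u) v = polar q u (k *ᵥ v) := fun u v => by
    rw [polar_comm, ← hadj v u, polar_comm]
  have hne : k' ≠ k := fun h => hk' (fun u v => by rw [hadj, h])
  have hnF : ∀ s : F, k ≠ s • 1 := fun s hs => hk' fun u v => by
    simp [hs, Matrix.smul_mulVec, polar_smul_left, polar_smul_right]
  have hind : ∀ a b : F, a • (1 : Matrix (Fin n) (Fin n) F) + b • k = 0 → a = 0 ∧ b = 0 := by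
    intro a b h
    by_cases hb : b = 0
    · rw [hb, zero_smul, add_zero, smul_eq_zero] at h
      exact ⟨h.resolve_right one_ne_zero, hb⟩
    · exfalso
      apply hnF (-(a / b))
      have := congrArg (b⁻¹ • ·) h
      simp only [smul_add, smul_smul, inv_mul_cancel₀ hb, one_smul, smul_zero] at this
      rw [neg_smul, div_eq_inv_mul]
      exact eq_neg_of_add_eq_zero_right this
  have hspan : ∀ x ∈ K, ∃ a b : F, x = a • 1 + b • k := by
    intro x hx
    let L : (F × F) →ₗ[F] K :=
      { toFun := fun p => ⟨p.1 • 1 + p.2 • k, add_mem (K.smul_mem (one_mem K) _) (K.smul_mem hk _)⟩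
        map_add' := fun p p' => by
          apply Subtype.ext
          simp only [Prod.fst_add, Prod.snd_add, add_smul, Subalgebra.coe_add]; abel
        map_smul' := fun c p => by
          apply Subtype.ext
          simp [smul_smul] }
    have hL : Function.Injective L := by
      rw [injective_iff_map_eq_zero]
      intro p hp
      obtain ⟨h1, h2⟩ := hind _ _ (congrArg Subtype.val hp)
      exact Prod.ext h1 h2
    haveI : FiniteDimensional F K := Module.finite_of_finrank_pos (R := F) (M := K) (by rw [hK.finrank_eq]; norm_num)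
    obtain ⟨⟨a, b⟩, hab⟩ := (LinearMap.injective_iff_surjective_of_finrank_eq_finrank
      (by rw [Module.finrank_prod, Module.finrank_self, hK.finrank_eq])).1 hL ⟨x, hx⟩
    exact ⟨a, b, (congrArg Subtype.val hab).symm⟩
  obtain ⟨a, t, hsq⟩ := hspan (k * k) (mul_mem hk hk)
  -- the adjoint satisfies the same equation
  have hsq' : k' * k' = a • 1 + t • k' := by
    refine hext fun u v => ?_
    have h1 : polar q ((k * k) *ᵥ v) u = polar q v ((k' * k') *ᵥ u) := by
      rw [← Matrix.mulVec_mulVec, ← Matrix.mulVec_mulVec, hadj, hadj]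
    rw [← h1, hsq]
    simp [Matrix.add_mulVec, Matrix.smul_mulVec, polar_add_left, polar_add_right, polar_smul_left,
      polar_smul_right, hadj]
  have hcomm := hK.comm k hk k' hk'K
  have hsum : k' = t • 1 - k := by
    have h1 : (k' - k) * (k' + k - t • 1) = 0 := by
      rw [sub_mul, mul_sub, mul_sub, mul_add, mul_add, hsq, hsq', ← hcomm]
      simp only [Matrix.mul_smul, mul_one]
      abel
    obtain ⟨y, hy, hy'⟩ := hK.inv _ (sub_mem hk'K hk) (sub_ne_zero.2 hne)
    have h2 := congrArg (y * ·) h1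
    simp only [← mul_assoc, ← hK.comm _ (sub_mem hk'K hk) y hy, hy', one_mul, mul_zero] at h2
    rw [eq_sub_iff_add_eq]
    exact sub_eq_zero.1 h2
  set d := -a with hd
  have hsq2 : ∀ x, k *ᵥ (k *ᵥ x) = t • (k *ᵥ x) - d • x := fun x => by
    rw [Matrix.mulVec_mulVec, hsq, Matrix.add_mulVec, Matrix.smul_mulVec, Matrix.smul_mulVec, Matrix.one_mulVec, hd]
    module
  have hirr : ∀ s : F, s * s - t * s + d ≠ 0 := by
    intro s hs
    have h : (k - s • 1) * (k - (t - s) • 1) = 0 := by
      rw [sub_mul, mul_sub, mul_sub, hsq]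
      simp only [Matrix.mul_smul, Matrix.smul_mul, mul_one, one_mul, smul_smul]
      rw [hd] at hs
      rw [show a = s * s - t * s by linear_combination -hs]
      module
    by_cases h1 : k - s • 1 = 0
    · exact hnF s (sub_eq_zero.1 h1)
    · obtain ⟨y, hy, hxy⟩ := hK.inv _ (sub_mem hk (K.smul_mem (one_mem K) s)) h1
      have := congrArg (y * ·) h
      simp only [← mul_assoc, ← hK.comm _ (sub_mem hk (K.smul_mem (one_mem K) s)) y hy, hxy, one_mul, mul_zero] at this
      exact hnF _ (sub_eq_zero.1 this)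
  have hadj2 : ∀ x y, polar q (k *ᵥ x) y = t * polar q x y - polar q x (k *ᵥ y) := fun x y => by
    rw [hadj, hsum, Matrix.sub_mulVec, Matrix.smul_mulVec, Matrix.one_mulVec, polar_sub_right, polar_smul_right,
      smul_eq_mul]
  have hJJ : ∀ x y, polar q (k *ᵥ x) (k *ᵥ y) = d * polar q x y := fun x y => by
    rw [hadj2, hsq2, polar_sub_right, polar_smul_right, polar_smul_right, smul_eq_mul, smul_eq_mul]
    ring
  obtain ⟨x₀, y₀, hxy₀⟩ : ∃ x y, polar q x y ≠ 0 := by
    by_contra hcon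
    push Not at hcon
    have h0 := hnd.1 (Pi.single ⟨0, by omega⟩ 1) fun y => by simpa using hcon _ y
    simpa using congrFun h0 ⟨0, by omega⟩
  obtain ⟨c, hc⟩ := hsc k hk
  have hcd : c = d := by
    refine mul_right_cancel₀ hxy₀ ?_
    rw [← hJJ]
    simp only [polar, ← Matrix.mulVec_add, hc]
    ring
  obtain ⟨c', hc'⟩ := hsc (1 + k) (add_mem (one_mem K) hk)
  have hc'd : c' = 1 + t + d := by
    refine mul_right_cancel₀ hxy₀ ?_
    have h1 : polar q ((1 + k) *ᵥ x₀) ((1 + k) *ᵥ y₀) = c' * polar q x₀ y₀ := by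
      simp only [polar, ← Matrix.mulVec_add, hc']
      ring
    rw [← h1, Matrix.add_mulVec, Matrix.add_mulVec, Matrix.one_mulVec, Matrix.one_mulVec, polar_add_left,
      polar_add_right, polar_add_right, hJJ, hadj2]
    ring
  refine ⟨k, t, d, hk, ⟨hnd, fun x => ?_, hirr, fun x y => ?_, fun x => ?_, fun x => ?_, ?_⟩, hspan⟩
  · simpa [Matrix.toLin'_apply] using hsq2 x
  · simpa [Matrix.toLin'_apply] using hadj2 x y
  · rw [Matrix.toLin'_apply, hc, hcd]
  · rw [Matrix.toLin'_apply]
    have h := hc' x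
    rw [Matrix.add_mulVec, Matrix.one_mulVec, QuadraticMap.map_add (⇑q), hc, hcd, hc'd] at h
    linear_combination h
  · rw [Module.finrank_fintype_fun_eq_card, Fintype.card_fin]; omega

/-- A map stable on the `J`-lines of singular vectors is in `F + F J`. -/
theorem eq_comb {V : Type*} [AddCommGroup V] [Module F V] [FiniteDimensional F V] {Q : QuadraticForm F V}
    {J : V →ₗ[F] V} {t d : F} (hS : Setting Q J t d) (T : V →ₗ[F] V)
    (hT : ∀ u, Q u = 0 → T u ∈ Submodule.span F ({u, J u} : Set V)) : ∃ a b : F, ∀ x, T x = a • x + b • J x := by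
  classical
  have hc : ∀ u : V, Q u = 0 → ∃ a b : F, T u = a • u + b • J u := fun u hu => by
    obtain ⟨a, b, h⟩ := Submodule.mem_span_pair.1 (hT u hu)
    exact ⟨a, b, h.symm⟩
  choose ca cb hcab using hc
  have key : ∀ u w (hu : Q u = 0) (hw : Q w = 0), u ≠ 0 → polar Q u w = 0 → w ∉ lines J u 0 →
      ca u hu = ca w hw ∧ cb u hu = cb w hw := by
    intro u w hu hw hu0 huw hn
    have hq : Q (u + w) = 0 := by rw [QuadraticMap.map_add (⇑Q), hu, hw, huw]; simp
    have h := hcab _ hq
    rw [map_add, hcab u hu, hcab w hw, map_add] at h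
    have h2 : (ca w hw - ca _ hq) • w + (cb w hw - cb _ hq) • J w =
        (ca _ hq - ca u hu) • u + (cb _ hq - cb u hu) • J u := by
      rw [← sub_eq_zero] at h ⊢
      rw [← h]
      module
    by_cases h0 : ca w hw - ca _ hq = 0 ∧ cb w hw - cb _ hq = 0
    · rw [h0.1, h0.2, zero_smul, zero_smul, add_zero] at h2
      obtain ⟨e1, e2⟩ := indep hS hu0 h2.symm
      constructor
      · linear_combination -e1 - h0.1
      · linear_combination -e2 - h0.2
    · have hm : (ca _ hq - ca u hu) • u + (cb _ hq - cb u hu) • J u ∈ lines J u 0 :=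
        add_mem (Submodule.smul_mem _ _ (Submodule.subset_span (by simp)))
          (Submodule.smul_mem _ _ (Submodule.subset_span (by simp)))
      rw [← h2] at hm
      exact absurd (mem_of_comb hS (ExtFieldGUOrthTen58.span4_stable hS u 0) hm (not_and_or.1 h0)) hn
  have hsub : ∀ u w : V, lines J u 0 ≤ lines J u w ∧ lines J u 0 ≤ lines J w u := fun u w => by
    constructor <;> rw [lines, lines, Submodule.span_le] <;>
      rintro z (rfl | rfl | rfl | rfl) <;>
      first | exact zero_mem _ | (rw [map_zero]; exact zero_mem _) | exact Submodule.subset_span (by simp)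
  obtain ⟨u₀, -, hu₀, hu₀n⟩ := exists_out hS 0 0 (Or.inl (zero_mem _))
  have hu₀0 : u₀ ≠ 0 := fun h => hu₀n (by rw [h]; exact zero_mem _)
  refine ⟨ca u₀ hu₀, cb u₀ hu₀, fun x => ?_⟩
  have hle : ExtFieldGUOrthTen58.perp Q J 0 0 ≤
      LinearMap.ker (T - (ca u₀ hu₀ • LinearMap.id + cb u₀ hu₀ • J)) := by
    refine (perp_le_span hS 0 0 (Or.inl (zero_mem _))).trans (Submodule.span_le.2 ?_)
    rintro w ⟨-, hw, hwn⟩
    have hw0 : w ≠ 0 := fun h => hwn (by rw [h]; exact zero_mem _)
    by_cases hdir : polar Q u₀ w = 0 ∧ w ∉ lines J u₀ 0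
    · have e1 := key u₀ w hu₀ hw hu₀0 hdir.1 hdir.2
      simp [hcab w hw, ← e1.1, ← e1.2]
    obtain ⟨p, hp, hpq, hpn⟩ := exists_out hS u₀ w
      (or_iff_not_imp_left.2 fun hn' hm => hdir ⟨(mem_perp.1 hm).1, hn'⟩)
    rw [mem_perp] at hp
    have e1 := key u₀ p hu₀ hpq hu₀0 hp.1 fun h => hpn ((hsub u₀ w).1 h)
    have e2 := key w p hw hpq hw0 hp.2.2.1 fun h => hpn ((hsub w u₀).2 h)
    simp [hcab w hw, e1.1, e1.2, e2.1, e2.2]
  have := hle (x := x) (mem_perp.2 (by simp))
  simpa [sub_eq_zero] using this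

/-- Normalisers of hermitian subfields of degree two are maximal from dimension ten on. -/
theorem isMaximalIn {F : Type*} [Field F] [Fintype F] {n : ℕ} (hn : 10 ≤ n) (Q : (Fin n → F) → F) (hQ : Cfsg.Geo.IsNondegenerateQuadraticForm Q) (K : Subalgebra F (Matrix (Fin n) (Fin n) F)) (hK : Cfsg.Geo.IsFieldSubalgebra 2 K) (hac : Cfsg.Geo.IsAdjointClosedFor (QuadraticMap.polar Q) K) (hnsa : ¬ Cfsg.Geo.IsSelfAdjointFor (QuadraticMap.polar Q) K) (hsc : ∀ k ∈ K, ∃ c : F, ∀ v : (Fin n → F), Q (Matrix.mulVec k v) = c * Q v) : Cfsg.Geo.IsMaximalIn (Cfsg.Geo.omegaGL Q) (Cfsg.Geo.subalgebraNormalizer K ⊓ Cfsg.Geo.omegaGL Q) := by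
  classical
  obtain ⟨q, rfl, hnd⟩ := exists_quad hQ
  obtain ⟨δ, t, d, hδK, hS, hspan⟩ := exists_delta hn q hnd K hK hac hnsa hsc
  set J := Matrix.toLin' δ with hJ
  have hd : 5 ≤ finrank F (Fin n → F) := by rw [Module.finrank_fintype_fun_eq_card, Fintype.card_fin]; omega
  have hsie : ∀ u w hu hw, toGL q (siegel q u w hu hw) ∈ Cfsg.Geo.omegaGL ⇑q := fun u w hu hw =>
    toGL_mem (sGroup_le_commutator hnd hd (siegel_mem hnd hd hu hw))
  refine ⟨lt_of_le_of_ne inf_le_right fun h => ?_, fun M h1 h2 => ?_⟩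
  · -- a Siegel element outside the normaliser
    obtain ⟨a, -, haq, han⟩ := exists_out hS 0 0 (Or.inl (zero_mem _))
    have ha0 : a ≠ 0 := fun h => han (by rw [h]; exact zero_mem _)
    obtain ⟨w, hw, hwq, hwn⟩ := exists_out hS a 0 (Or.inl (zero_mem _))
    rw [mem_perp] at hw
    have hmem := hsie a w haq hw.1
    rw [← h] at hmem
    obtain ⟨α, β, hαβ⟩ := hspan _ ((hmem.1 δ).1 hδK)
    have hk : ∀ x, (siegel q a w haq hw.1).1 (J x) =
        α • (siegel q a w haq hw.1).1 x + β • J ((siegel q a w haq hw.1).1 x) := fun x => by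
      have := congrArg (fun A : Matrix (Fin n) (Fin n) F =>
        (A * (toGL q (siegel q a w haq hw.1) : Matrix (Fin n) (Fin n) F)) *ᵥ x) hαβ
      simpa only [Units.inv_mul_cancel_right, add_mul, Matrix.smul_mul, one_mul, Matrix.add_mulVec,
        Matrix.smul_mulVec, ← Matrix.mulVec_mulVec, toGL_mulVec, hJ, Matrix.toLin'_apply] using this
    have hwJa : polar q w (J a) = 0 := (polar_comm _ w (J a)).trans hw.2.1
    have ga : (siegel q a w haq hw.1).1 a = a := by
      simp [siegel_apply, hwq, polar_self_mul, haq, polar_comm q w a, hw.1]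
    have gJa : (siegel q a w haq hw.1).1 (J a) = J a := by
      rw [siegel_apply, hS.diag, haq, hwq, hwJa]; simp
    have h1 := hk a
    rw [ga, gJa] at h1
    obtain ⟨hα, hβ⟩ := indep hS ha0 (show α • a + (β - 1) • J a = 0 by
      rw [sub_smul, one_smul, ← add_sub_assoc, ← h1, sub_self])
    obtain ⟨x, hx⟩ : ∃ x, polar q a x ≠ 0 := by
      by_contra hcon
      push Not at hcon
      exact ha0 (hnd.1 a hcon)
    have h2 := hk x
    rw [hα, sub_eq_zero.1 hβ, zero_smul, zero_add, one_smul, siegel_apply, siegel_apply, hwq, zero_mul, zero_mul,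
      add_zero, add_zero, map_sub, map_add, map_smul, map_smul] at h2
    apply hwn
    have h3 : (-polar q a (J x)) • w + polar q a x • J w = polar q w x • J a - polar q w (J x) • a := by
      rw [← sub_eq_zero] at h2 ⊢
      rw [← neg_eq_zero, ← h2]
      module
    have hm : polar q w x • J a - polar q w (J x) • a ∈ lines J a 0 :=
      sub_mem (Submodule.smul_mem _ _ (Submodule.subset_span (by simp)))
        (Submodule.smul_mem _ _ (Submodule.subset_span (by simp)))
    rw [← h3] at hm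
    exact mem_of_comb hS (ExtFieldGUOrthTen58.span4_stable hS a 0) hm (Or.inr hx)
  by_cases h : M ≤ Cfsg.Geo.subalgebraNormalizer K
  · exact Or.inl (le_antisymm (le_inf h h2) h1)
  obtain ⟨g₀, hg₀, hg₀N⟩ := SetLike.not_le_iff_exists.1 h
  obtain ⟨g, -, rfl⟩ := exists_of_mem_omegaGL (h2 hg₀)
  right
  refine le_antisymm h2 fun y hy => ?_
  obtain ⟨k, hk, rfl⟩ := exists_of_mem_omegaGL hy
  let M' := M.comap (glHom q)
  have hgM : g ∈ M' := hg₀
  suffices commutator (orth q) ≤ M' from this hk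
  have hHyp : ExtFieldGUOrthTen58.Hyp M' J := by
    intro v hv
    have hvJ : polar q v (J v) = 0 := by rw [hS.diag, hv, mul_zero]
    refine ⟨hvJ, fun c => ?_⟩
    set τ := siegel q v (c • J v) hv (by rw [polar_smul_right, hvJ, smul_zero]) with hτ
    refine Subgroup.mem_comap.2 (h1 ⟨?_, hsie _ _ _ _⟩)
    have hcomm : ∀ x, τ.1 (J x) = J (τ.1 x) := fun x => by
      simp only [hτ, siegel_apply, QuadraticMap.map_smul, hS.qJ, hv, mul_zero, smul_zero, zero_mul, add_zero,
        polar_smul_left, map_sub, map_add, map_smul, hS.sq, ExtFieldGUOrthTen58.f_JJ hS, ExtFieldGUOrthTen58.f_right hS v x,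
        smul_eq_mul]
      module
    have hconj : ∀ A ∈ K, (toGL q τ : Matrix (Fin n) (Fin n) F) * A * ((toGL q τ)⁻¹ : GL (Fin n) F) = A := by
      intro A hA
      obtain ⟨a, b, rfl⟩ := hspan A hA
      rw [Units.mul_inv_eq_iff_eq_mul]
      refine Matrix.ext_iff_mulVec.mpr fun x => ?_
      simp only [← Matrix.mulVec_mulVec, Matrix.add_mulVec, Matrix.smul_mulVec, Matrix.one_mulVec, toGL_mulVec,
        map_add, map_smul]
      rw [show δ *ᵥ x = J x from (Matrix.toLin'_apply δ x).symm, hcomm, hJ, Matrix.toLin'_apply]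
    intro A
    constructor
    · intro hA
      rw [glHom_apply, hconj A hA]
      exact hA
    · intro hA
      rw [glHom_apply] at hA
      have := (Units.mul_right_inj (toGL q τ)).1 ((Units.mul_left_inj (toGL q τ)⁻¹).1 (hconj _ hA))
      rw [← this]
      exact hA
  by_cases hmove : ∃ v, q v = 0 ∧ g.1 (J v) ∉ Submodule.span F ({g.1 v, J (g.1 v)} : Set (Fin n → F))
  · obtain ⟨v, hv, hnv⟩ := hmove
    have hgv : q (g.1 v) = 0 := by rw [map_orth g, hv]
    obtain ⟨hp, hm⟩ := hHyp v hv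
    have hb : g.1 (J v) ∈ ExtFieldGUOrthTen58.W M' hgv := by
      refine ⟨by rw [polar_orth g, hp], fun c => ?_⟩
      have := mul_mem (mul_mem hgM (hm c)) (inv_mem hgM)
      rw [conj_siegel] at this
      convert this using 2
      rw [map_smul]
    refine ExtFieldGUOrthTen58.commutator_le hS hHyp hgv (fun h0 => hnv ?_) hb fun hl => hnv ?_
    · rw [show v = 0 from g.1.map_eq_zero_iff.1 h0]
      simp
    · have hle : lines J (g.1 v) 0 ≤ Submodule.span F ({g.1 v, J (g.1 v)} : Set (Fin n → F)) := by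
        rw [lines, Submodule.span_le]
        rintro z (rfl | rfl | rfl | rfl) <;>
          first | exact zero_mem _ | (rw [map_zero]; exact zero_mem _) | exact Submodule.subset_span (by simp)
      exact hle hl
  · exfalso
    push Not at hmove
    apply hg₀N
    let T : (Fin n → F) →ₗ[F] (Fin n → F) :=
      (g.1 : (Fin n → F) →ₗ[F] (Fin n → F)) ∘ₗ J ∘ₗ (g.1.symm : (Fin n → F) →ₗ[F] (Fin n → F))
    obtain ⟨a, b, hab⟩ := eq_comb hS T fun u hu => by
      have h0 : q (g.1.symm u) = 0 := by rw [← map_orth g, g.1.apply_symm_apply, hu]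
      simpa [T] using hmove _ h0
    have hgd : (toGL q g : Matrix (Fin n) (Fin n) F) * δ * ((toGL q g)⁻¹ : GL (Fin n) F) = a • 1 + b • δ := by
      rw [Units.mul_inv_eq_iff_eq_mul]
      refine Matrix.ext_iff_mulVec.mpr fun x => ?_
      have := hab (g.1 x)
      simp only [T, LinearMap.comp_apply, LinearEquiv.coe_coe, LinearEquiv.symm_apply_apply, hJ,
        Matrix.toLin'_apply] at this
      simp only [← Matrix.mulVec_mulVec, Matrix.add_mulVec, Matrix.smul_mulVec, Matrix.one_mulVec, toGL_mulVec]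
      exact this
    let Φ : K → K := fun A => ⟨(toGL q g : Matrix (Fin n) (Fin n) F) * A * ((toGL q g)⁻¹ : GL (Fin n) F), by
      obtain ⟨s, u, hsu⟩ := hspan A A.2
      rw [hsu, mul_add, add_mul, Matrix.mul_smul, Matrix.mul_smul, Matrix.smul_mul, Matrix.smul_mul, mul_one,
        Units.mul_inv, hgd]
      exact add_mem (K.smul_mem (one_mem K) s)
        (K.smul_mem (add_mem (K.smul_mem (one_mem K) a) (K.smul_mem hδK b)) u)⟩
    have hΦ : Function.Injective Φ := fun A A' h =>
      Subtype.ext ((Units.mul_right_inj (toGL q g)).1 ((Units.mul_left_inj (toGL q g)⁻¹).1 (congrArg Subtype.val h)))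
    haveI : Finite K := Subtype.finite
    intro A
    constructor
    · intro hA
      exact (Φ ⟨A, hA⟩).2
    · intro hA
      obtain ⟨A', hA'⟩ := (Finite.injective_iff_surjective.1 hΦ) ⟨_, hA⟩
      have := (Units.mul_right_inj (toGL q g)).1 ((Units.mul_left_inj (toGL q g)⁻¹).1 (congrArg Subtype.val hA'))
      rw [← this]
      exact A'.2

end Cfsg.Agent.ExtFieldGUMax58
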