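import Mathlib
import Cfsg.Agent.Lib.OrthUnitarySimple

/-!
A subgroup of an orthogonal group containing the Siegel elements of all `J`-lines (`J` spanning a quadratic
extension field acting by similitudes with non-trivial adjoint) contains the commutator subgroup as soon as it
contains a Siegel element of another totally singular line.
-/

set_option autoImplicit false
set_option linter.unusedSectionVars false
set_option maxHeartbeats 1000000

namespace Cfsg.Agent.ExtFieldGUOrth

open QuadraticMap Module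
open Cfsg.Agent.OrthUnitaryQuad Cfsg.Agent.OrthUnitaryRefl Cfsg.Agent.OrthUnitaryOmega
  Cfsg.Agent.OrthUnitarySimple

variable {F V : Type*} [Field F] [Fintype F] [AddCommGroup V] [Module F V] [FiniteDimensional F V]

/-- The setting. -/
structure Setting (Q : QuadraticForm F V) (J : V →ₗ[F] V) (t d : F) : Prop where
  nd : (polarBilin Q).Nondegenerate
  sq : ∀ x, J (J x) = t • J x - d • x
  irred : ∀ s : F, s * s - t * s + d ≠ 0
  adj : ∀ x y, polar Q (J x) y = t * polar Q x y - polar Q x (J y)
  qJ : ∀ x, Q (J x) = d * Q x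
  diag : ∀ x, polar Q x (J x) = t * Q x
  dim : 12 ≤ finrank F V

variable {Q : QuadraticForm F V} {J : V →ₗ[F] V} {t d : F}

section
variable (hS : Setting Q J t d)
include hS

theorem f_right (x y : V) : polar Q x (J y) = t * polar Q x y - polar Q (J x) y := by
  rw [hS.adj]; ring

theorem f_JJ (x y : V) : polar Q (J x) (J y) = d * polar Q x y := by
  rw [hS.adj, hS.sq, polar_sub_right, polar_smul_right, polar_smul_right, smul_eq_mul, smul_eq_mul]
  ring

theorem norm_ne {a b : F} (h : a ≠ 0 ∨ b ≠ 0) : a * a - t * a * b + d * b * b ≠ 0 := by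
  intro h0
  by_cases hb : b = 0
  · subst hb
    rcases h with h | h
    · simp [h] at h0
    · exact h rfl
  · apply hS.irred (a / b)
    field_simp
    linear_combination h0

theorem span_stable (x : V) : ∀ y ∈ Submodule.span F ({x, J x} : Set V),
    J y ∈ Submodule.span F ({x, J x} : Set V) := by
  intro y hy
  obtain ⟨s, u, rfl⟩ := Submodule.mem_span_pair.1 hy
  rw [map_add, map_smul, map_smul, hS.sq]
  exact add_mem (Submodule.smul_mem _ _ (Submodule.subset_span (by simp)))
    (Submodule.smul_mem _ _ (sub_mem (Submodule.smul_mem _ _ (Submodule.subset_span (by simp)))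
      (Submodule.smul_mem _ _ (Submodule.subset_span (by simp)))))

theorem span4_stable (a b : V) : ∀ y ∈ Submodule.span F ({a, J a, b, J b} : Set V),
    J y ∈ Submodule.span F ({a, J a, b, J b} : Set V) := by
  intro y hy
  induction hy using Submodule.span_induction with
  | mem z hz =>
    rcases hz with rfl | rfl | rfl | rfl
    · exact Submodule.subset_span (by simp)
    · rw [hS.sq]
      exact sub_mem (Submodule.smul_mem _ _ (Submodule.subset_span (by simp)))
        (Submodule.smul_mem _ _ (Submodule.subset_span (by simp)))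
    · exact Submodule.subset_span (by simp)
    · rw [hS.sq]
      exact sub_mem (Submodule.smul_mem _ _ (Submodule.subset_span (by simp)))
        (Submodule.smul_mem _ _ (Submodule.subset_span (by simp)))
  | zero => simp
  | add u v _ _ hu hv => rw [map_add]; exact add_mem hu hv
  | smul c u _ hu => rw [map_smul]; exact Submodule.smul_mem _ _ hu

theorem mem_of_comb {U : Submodule F V} (hU : ∀ x ∈ U, J x ∈ U) {x : V} {s u : F}
    (h : s • x + u • J x ∈ U) (hne : s ≠ 0 ∨ u ≠ 0) : x ∈ U := by
  have hn : s * s + t * s * u + d * u * u ≠ 0 := by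
    have := norm_ne hS (a := s) (b := -u) (hne.imp id neg_ne_zero.2)
    intro h0
    exact this (by linear_combination h0)
  have hx : (s * s + t * s * u + d * u * u) • x = (s + t * u) • (s • x + u • J x) - u • J (s • x + u • J x) := by
    rw [map_add, map_smul, map_smul, hS.sq]
    module
  have := U.smul_mem (s * s + t * s * u + d * u * u)⁻¹ (U.sub_mem (U.smul_mem (s + t * u) h) (U.smul_mem u (hU _ h)))
  rwa [← hx, inv_smul_smul₀ hn] at this

theorem indep {x : V} (hx : x ≠ 0) {s u : F} (h : s • x + u • J x = 0) : s = 0 ∧ u = 0 := by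
  by_contra hne
  have := mem_of_comb hS (U := ⊥) (by simp) (x := x) (s := s) (u := u) (by simp [h]) (by tauto)
  exact hx ((Submodule.mem_bot F).1 this)

end

/-- The span of two `J`-lines. -/
def lines (J : V →ₗ[F] V) (a b : V) : Submodule F V := Submodule.span F {a, J a, b, J b}

/-- The orthogonal of two `J`-lines. -/
def perp (Q : QuadraticForm F V) (J : V →ₗ[F] V) (a b : V) : Submodule F V :=
  LinearMap.BilinForm.orthogonal (polarBilin Q) (lines J a b)

theorem mem_perp {a b x : V} :
    x ∈ perp Q J a b ↔ polar Q a x = 0 ∧ polar Q (J a) x = 0 ∧ polar Q b x = 0 ∧ polar Q (J b) x = 0 := by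
  constructor
  · intro h
    exact ⟨h a (Submodule.subset_span (by simp)), h (J a) (Submodule.subset_span (by simp)),
      h b (Submodule.subset_span (by simp)), h (J b) (Submodule.subset_span (by simp))⟩
  · rintro ⟨h1, h2, h3, h4⟩ y hy
    have : lines J a b ≤ LinearMap.ker ((polarBilin Q).flip x) := by
      rw [lines, Submodule.span_le]
      rintro z (rfl | rfl | rfl | rfl) <;> simpa
    simpa using this hy

section
variable (hS : Setting Q J t d)
include hS

theorem J_mem_perp {a b x : V} (hx : x ∈ perp Q J a b) : J x ∈ perp Q J a b := by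
  rw [mem_perp] at hx ⊢
  refine ⟨?_, ?_, ?_, ?_⟩
  · rw [f_right hS, hx.1, hx.2.1]; ring
  · rw [f_JJ hS, hx.1, mul_zero]
  · rw [f_right hS, hx.2.2.1, hx.2.2.2]; ring
  · rw [f_JJ hS, hx.2.2.1, mul_zero]

theorem comb_mem_perp {a b x : V} (hx : x ∈ perp Q J a b) (s u : F) : s • x + u • J x ∈ perp Q J a b :=
  add_mem (Submodule.smul_mem _ _ hx) (Submodule.smul_mem _ _ (J_mem_perp hS hx))

theorem Q_comb {x : V} (hx : Q x = 0) (s u : F) : Q (s • x + u • J x) = 0 := by
  simp [QuadraticMap.map_add (⇑Q), QuadraticMap.map_smul, hS.qJ, hx, polar_smul_left, polar_smul_right, hS.diag]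

theorem perp_perp {a b x : V} (h : ∀ y ∈ perp Q J a b, polar Q x y = 0) : x ∈ lines J a b := by
  have hrefl : (polarBilin Q).IsRefl := fun u v huv => (polar_comm _ v u).trans huv
  rw [← LinearMap.BilinForm.orthogonal_orthogonal hS.nd hrefl (lines J a b)]
  exact fun y hy => (polar_comm _ y x).trans (h y hy)

/-- The singular vectors outside the lines span. -/
theorem perp_le_span (a b : V) :
    perp Q J a b ≤ Submodule.span F {x | x ∈ perp Q J a b ∧ Q x = 0 ∧ x ∉ lines J a b} := by
  classical
  set W := perp Q J a b with hW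
  set S := lines J a b with hSd
  have hS4 : finrank F S ≤ 4 := by
    have := finrank_span_finset_le_card (R := F) (({a, J a, b, J b} : Finset V))
    simp only [Finset.coe_insert, Finset.coe_singleton] at this
    exact this.trans Finset.card_le_four
  have hWd : finrank F V ≤ finrank F W + 4 := by
    have h1 := LinearMap.BilinForm.finrank_orthogonal (B := polarBilin Q) hS.nd S
    rw [hW, perp, ← hSd]
    omega
  obtain ⟨C, hC⟩ := ((S ⊓ W).comap W.subtype).exists_isCompl
  set C' := C.map W.subtype with hC'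
  have hC'W : C' ≤ W := by
    rintro _ ⟨x, -, rfl⟩
    exact x.2
  have hdisj : ∀ x ∈ C', x ∈ S → x = 0 := by
    rintro _ ⟨x, hxC, rfl⟩ hxS
    have h0 : x = 0 := (Submodule.disjoint_def.1 hC.disjoint) _ (show x ∈ _ from ⟨hxS, x.2⟩) hxC
    simp [h0]
  have hdim : 3 ≤ finrank F C' := by
    rw [hC', Submodule.finrank_map_subtype_eq]
    have h1 := Submodule.finrank_add_eq_of_isCompl hC
    rw [(Submodule.comapSubtypeEquivOfLe (inf_le_right : S ⊓ W ≤ W)).finrank_eq] at h1
    have h2 := Submodule.finrank_mono (inf_le_left : S ⊓ W ≤ S)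
    have := hS.dim
    omega
  have hsplit : ∀ y ∈ W, ∃ s ∈ S ⊓ W, ∃ c ∈ C', y = s + c := by
    intro y hy
    obtain ⟨s, hs, c, hc, hsc⟩ := Submodule.mem_sup.1 (hC.sup_eq_top ▸ Submodule.mem_top (x := (⟨y, hy⟩ : W)))
    exact ⟨s, hs, c, Submodule.mem_map_of_mem hc, (congrArg Subtype.val hsc).symm⟩
  have hperpS : ∀ x ∈ W, ∀ s ∈ S, polar Q x s = 0 := fun x hx s hs => (polar_comm _ x s).trans (hx s hs)
  have hreg : IsReg (Q.restrict C') := by
    intro x hx _
    refine Subtype.ext (hdisj x x.2 (perp_perp hS fun y hy => ?_))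
    obtain ⟨s, hs, c, hc, rfl⟩ := hsplit y hy
    have h1 : polar Q (x : V) c = 0 := hx ⟨c, hc⟩
    rw [polar_add_right, hperpS _ (hC'W x.2) s hs.1, zero_add, h1]
  obtain ⟨p, hp, hp0⟩ := exists_singular hreg hdim
  have hpp : Q (p : V) = 0 := hp
  have hpS : (p : V) ∉ S := fun h => hp0 (Subtype.ext (hdisj p p.2 h))
  obtain ⟨q, hq, hpq⟩ : ∃ q ∈ W, polar Q (p : V) q ≠ 0 := by
    by_contra hcon
    push Not at hcon
    exact hpS (perp_perp hS hcon)
  have hp' : (p : V) ∈ Submodule.span F {x | x ∈ W ∧ Q x = 0 ∧ x ∉ S} :=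
    Submodule.subset_span ⟨hC'W p.2, hpp, hpS⟩
  have key : ∀ y ∈ W, polar Q (p : V) y ≠ 0 → y ∈ Submodule.span F {x | x ∈ W ∧ Q x = 0 ∧ x ∉ S} := by
    intro y hy hpy
    set c := - Q y / polar Q (p : V) y with hc
    have h0 : Q (y + c • (p : V)) = 0 := by
      rw [QuadraticMap.map_add (⇑Q), QuadraticMap.map_smul, hpp, polar_smul_right, polar_comm Q y, hc]
      simp [hpy]
    have hn : y + c • (p : V) ∉ S := by
      intro h
      have h1 := hperpS _ (hC'W p.2) _ h
      rw [polar_add_right, polar_smul_right, polar_self_mul, hpp] at h1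
      simp [hpy] at h1
    have h2 : y + c • (p : V) ∈ Submodule.span F {x | x ∈ W ∧ Q x = 0 ∧ x ∉ S} :=
      Submodule.subset_span ⟨add_mem hy (Submodule.smul_mem _ _ (hC'W p.2)), h0, hn⟩
    have := sub_mem h2 (Submodule.smul_mem _ c hp')
    rwa [add_sub_cancel_right] at this
  intro y hy
  by_cases h : polar Q (p : V) y = 0
  · have h1 := key (y + q) (add_mem hy hq) (by rw [polar_add_right, h, zero_add]; exact hpq)
    have := sub_mem h1 (key q hq hpq)
    rwa [add_sub_cancel_right] at this
  · exact key y hy h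

theorem exists_iso (a b c : V) (h : ∃ y ∈ perp Q J a b, polar Q c y ≠ 0) :
    ∃ p ∈ perp Q J a b, Q p = 0 ∧ p ∉ lines J a b ∧ polar Q c p ≠ 0 := by
  by_contra hcon
  push Not at hcon
  obtain ⟨y, hy, hyc⟩ := h
  have hle : Submodule.span F {x | x ∈ perp Q J a b ∧ Q x = 0 ∧ x ∉ lines J a b} ≤
      LinearMap.ker (polarBilin Q c) := by
    rw [Submodule.span_le]
    rintro x ⟨h1, h2, h3⟩
    simpa using hcon x h1 h2 h3
  exact hyc (hle (perp_le_span hS a b hy))

theorem exists_out (a b : V) : ∃ p ∈ perp Q J a b, Q p = 0 ∧ p ∉ lines J a b := by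
  by_contra hcon
  push Not at hcon
  have hle : perp Q J a b ≤ ⊥ := by
    refine (perp_le_span hS a b).trans (Submodule.span_le.2 ?_)
    rintro x ⟨h1, h2, h3⟩
    exact absurd (hcon x h1 h2) h3
  have h1 := Submodule.finrank_mono hle
  have h2 := LinearMap.BilinForm.finrank_orthogonal (B := polarBilin Q) hS.nd (lines J a b)
  classical
  have h3 := finrank_span_finset_le_card (R := F) (({a, J a, b, J b} : Finset V))
  simp only [Finset.coe_insert, Finset.coe_singleton] at h3
  have h4 := h3.trans Finset.card_le_four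
  rw [finrank_bot, perp] at h1
  have h5 : finrank F (lines J a b) ≤ 4 := h4
  have := hS.dim
  omega

end

/-- All Siegel elements along `(a, w)` lie in `M`. -/
def W (M : Subgroup (orth Q)) {a : V} (ha : Q a = 0) : Submodule F V where
  carrier := {w | ∃ h : polar Q a w = 0, ∀ c : F,
    siegel Q a (c • w) ha (by rw [polar_smul_right, h, smul_zero]) ∈ M}
  zero_mem' := by
    refine ⟨polar_zero_right _ _, fun c => ?_⟩
    rw [siegel_eq_one ha _ (a := 0) (by simp)]
    exact one_mem M
  add_mem' := by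
    rintro x y ⟨hx, hx'⟩ ⟨hy, hy'⟩
    refine ⟨by rw [polar_add_right, hx, hy, add_zero], fun c => ?_⟩
    rw [siegel_congr ha _ (smul_add c x y), ← siegel_mul ha (by rw [polar_smul_right, hx, smul_zero])
      (by rw [polar_smul_right, hy, smul_zero])]
    exact mul_mem (hx' c) (hy' c)
  smul_mem' := by
    rintro s x ⟨hx, hx'⟩
    refine ⟨by rw [polar_smul_right, hx, smul_zero], fun c => ?_⟩
    rw [siegel_congr ha _ (smul_smul c s x)]
    exact hx' (c * s)

theorem mem_W {M : Subgroup (orth Q)} {a w : V} {ha : Q a = 0} :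
    w ∈ W M ha ↔ ∃ h : polar Q a w = 0, ∀ c : F,
      siegel Q a (c • w) ha (by rw [polar_smul_right, h, smul_zero]) ∈ M := Iff.rfl

theorem W_polar {M : Subgroup (orth Q)} {a w : V} {ha : Q a = 0} (h : w ∈ W M ha) : polar Q a w = 0 := h.1

theorem W_map {M : Subgroup (orth Q)} {g : orth Q} (hg : g ∈ M) {a w : V} {ha : Q a = 0} (hga : g.1 a = a)
    (hw : w ∈ W M ha) : g.1 w ∈ W M ha := by
  obtain ⟨h, h'⟩ := hw
  refine ⟨by rw [← hga, polar_orth g, h], fun c => ?_⟩
  have := mul_mem (mul_mem hg (h' c)) (inv_mem hg)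
  rw [conj_siegel] at this
  convert this using 2
  · exact hga.symm
  · rw [map_smul]

theorem W_comm {M : Subgroup (orth Q)} {a w : V} {ha : Q a = 0} (hw : Q w = 0) (h : w ∈ W M ha) :
    a ∈ W M hw := by
  obtain ⟨h1, h2⟩ := h
  refine ⟨(polar_comm _ w a).trans h1, fun c => ?_⟩
  convert h2 (-c) using 1
  apply orth_ext
  intro x
  rw [siegel_apply, siegel_apply]
  simp only [QuadraticMap.map_smul, hw, ha, polar_smul_left, smul_eq_mul, mul_zero, zero_mul, add_zero]
  module

theorem W_apply {M : Subgroup (orth Q)} {a w : V} {ha : Q a = 0} (hw : Q w = 0) (h : w ∈ W M ha) :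
    ∃ g ∈ M, ∀ x, g.1 x = x + polar Q a x • w - polar Q w x • a := by
  obtain ⟨_, h2⟩ := h
  refine ⟨_, h2 1, fun x => ?_⟩
  rw [siegel_apply]
  simp [hw]

/-- The hypothesis on the group. -/
def Hyp (M : Subgroup (orth Q)) (J : V →ₗ[F] V) : Prop := ∀ (v : V) (hv : Q v = 0), J v ∈ W M hv

section
variable {M : Subgroup (orth Q)} (hS : Setting Q J t d) (hM : Hyp M J)
include hS hM

theorem exists_N {p w : V} (hp : Q p = 0) (hw : Q w = 0) (h1 : polar Q p w = 0) (h2 : polar Q (J p) w = 0) :
    ∃ g ∈ M, ∀ x, g.1 x = x + polar Q p x • J w + polar Q w x • J p - polar Q (J w) x • p - polar Q (J p) x • w := by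
  have hpw : Q (p + w) = 0 := by rw [QuadraticMap.map_add (⇑Q), hp, hw, h1]; simp
  have hs : ∀ {v}, Q v = 0 → Q (J v) = 0 := fun hv => by rw [hS.qJ, hv, mul_zero]
  obtain ⟨g1, hg1, e1⟩ := W_apply (hs hpw) (hM _ hpw)
  obtain ⟨g2, hg2, e2⟩ := W_apply (hs hp) (hM _ hp)
  obtain ⟨g3, hg3, e3⟩ := W_apply (hs hw) (hM _ hw)
  have k1 : polar Q p (J p) = 0 := by rw [hS.diag, hp, mul_zero]
  have k2 : polar Q w (J w) = 0 := by rw [hS.diag, hw, mul_zero]
  have k3 : polar Q p (J w) = 0 := by rw [f_right hS, h1, h2]; ring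
  have k4 : polar Q (J p) (J w) = 0 := by rw [f_JJ hS, h1, mul_zero]
  refine ⟨g1 * g2⁻¹ * g3⁻¹, mul_mem (mul_mem hg1 (inv_mem hg2)) (inv_mem hg3), fun x => ?_⟩
  have i2 : ∀ y, g2⁻¹.1 y = y - polar Q p y • J p + polar Q (J p) y • p := fun y => by
    apply g2.1.injective
    rw [show g2.1 (g2⁻¹.1 y) = y from g2.1.apply_symm_apply y, e2]
    simp only [sub_eq_add_neg, ← neg_smul, polar_add_right, polar_smul_right, smul_eq_mul, k1,
      polar_self_mul, hp, hs hp, polar_comm Q (J p) p]
    module
  have i3 : ∀ y, g3⁻¹.1 y = y - polar Q w y • J w + polar Q (J w) y • w := fun y => by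
    apply g3.1.injective
    rw [show g3.1 (g3⁻¹.1 y) = y from g3.1.apply_symm_apply y, e3]
    simp only [sub_eq_add_neg, ← neg_smul, polar_add_right, polar_smul_right, smul_eq_mul, k2,
      polar_self_mul, hw, hs hw, polar_comm Q (J w) w]
    module
  rw [orth_mul_apply, orth_mul_apply, e1, i2, i3]
  simp only [map_add, sub_eq_add_neg, ← neg_smul, polar_add_left, polar_add_right, polar_smul_right, smul_eq_mul,
    polar_self_mul, hp, hw, hs hp, hs hw, k1, k2, k3, k4, h1, h2, polar_comm Q (J p) p, polar_comm Q (J w) w,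
    polar_comm Q w p, polar_comm Q (J w) p, polar_comm Q w (J p), polar_comm Q (J w) (J p)]
  module

/-- One further element in `W` gives the orthogonal of the line. -/
theorem perp_le_W {a b : V} {ha : Q a = 0} (hb : b ∈ W M ha) (hn : b ∉ lines J a 0) :
    perp Q J a 0 ≤ W M ha := by
  classical
  have hsub : ∀ x y : V, lines J x 0 ≤ lines J x y := fun x y => by
    rw [lines, lines, Submodule.span_le]
    rintro z (rfl | rfl | rfl | rfl)
    · exact Submodule.subset_span (by simp)
    · exact Submodule.subset_span (by simp)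
    · exact zero_mem _
    · rw [map_zero]; exact zero_mem _
  have hswap : ∀ x y z : V, y ∈ lines J x z → y ∉ lines J x 0 → z ∈ lines J x y := fun x y z h hy => by
    obtain ⟨c1, r, hr, e⟩ := Submodule.mem_span_insert.1 h
    obtain ⟨c2, r', hr', e'⟩ := Submodule.mem_span_insert.1 hr
    obtain ⟨c3, c4, e''⟩ := Submodule.mem_span_pair.1 hr'
    have hmem : c3 • z + c4 • J z ∈ lines J x y := by
      have he : c3 • z + c4 • J z = y - c1 • x - c2 • J x := by rw [e, e', ← e'']; module
      rw [he]
      exact sub_mem (sub_mem (Submodule.subset_span (by simp))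
        (Submodule.smul_mem _ _ (Submodule.subset_span (by simp))))
        (Submodule.smul_mem _ _ (Submodule.subset_span (by simp)))
    refine mem_of_comb hS (span4_stable hS x y) hmem ?_
    by_contra h0
    push Not at h0
    apply hy
    rw [e, e', ← e'', h0.1, h0.2, zero_smul, zero_smul, add_zero, add_zero]
    exact add_mem (Submodule.smul_mem _ _ (Submodule.subset_span (by simp)))
      (Submodule.smul_mem _ _ (Submodule.subset_span (by simp)))
  -- a singular one
  obtain ⟨w₀, hw₀, hw₀q, hw₀n⟩ := exists_out hS a b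
  rw [mem_perp] at hw₀
  obtain ⟨p, hp, hpq, -, hpb⟩ := exists_iso hS a w₀ b (by
    by_contra hcon
    push Not at hcon
    exact hw₀n (hswap _ _ _ (perp_perp hS hcon) hn))
  rw [mem_perp] at hp
  obtain ⟨N, hN, hNx⟩ := exists_N hS hM hpq hw₀q ((polar_comm _ p w₀).trans hp.2.2.1)
    (by rw [hS.adj, polar_comm Q p w₀, hp.2.2.1, polar_comm Q p (J w₀), hp.2.2.2]; ring)
  have hcross : polar Q (J p) a = 0 := by
    rw [hS.adj, polar_comm Q p a, hp.1, polar_comm Q p (J a), hp.2.1]; ring
  have hcross' : polar Q (J w₀) a = 0 := by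
    rw [hS.adj, polar_comm Q w₀ a, hw₀.1, polar_comm Q w₀ (J a), hw₀.2.1]; ring
  have hNa : N.1 a = a := by
    simp [hNx, polar_comm Q p a, hp.1, polar_comm Q w₀ a, hw₀.1, hcross, hcross']
  have hcb : polar Q (J w₀) b = 0 := by
    rw [hS.adj, polar_comm Q w₀ b, hw₀.2.2.1, polar_comm Q w₀ (J b), hw₀.2.2.2]; ring
  set w := (-polar Q (J p) b) • w₀ + polar Q p b • J w₀ with hw
  have hwW : w ∈ W M ha := by
    have := sub_mem (W_map hN hNa hb) hb
    convert this using 1
    rw [hNx, polar_comm Q w₀ b, hw₀.2.2.1, hcb, hw]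
    module
  have hwn : w ∉ lines J a 0 := fun h => hw₀n (hsub a b (mem_of_comb hS (span4_stable hS a 0) h
    (Or.inr (by rw [polar_comm Q p b]; exact hpb))))
  have hwq : Q w = 0 := Q_comb hS hw₀q _ _
  have hwp : w ∈ perp Q J a 0 :=
    comb_mem_perp hS (mem_perp.2 ⟨hw₀.1, hw₀.2.1, by simp, by simp⟩) _ _
  clear hNx hN hcross hNa hp hpb
  -- propagation
  have step : ∀ w, Q w = 0 → w ∈ W M ha → w ∈ perp Q J a 0 → w ∉ lines J a 0 →
      perp Q J a w ≤ W M ha := by
    intro w hwq hwW hwp hwn
    refine (perp_le_span hS a w).trans (Submodule.span_le.2 ?_)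
    rintro u ⟨hu, huq, hun⟩
    rw [mem_perp] at hu hwp
    obtain ⟨p, hp, hpq, -, hpw⟩ := exists_iso hS a u w (by
      by_contra hcon
      push Not at hcon
      exact hun (hswap _ _ _ (perp_perp hS hcon) hwn))
    set p' := (-polar Q (J p) w) • p + polar Q p w • J p with hp'
    have hp'q : Q p' = 0 := Q_comb hS hpq _ _
    have hp'm := mem_perp.1 (comb_mem_perp hS hp (-polar Q (J p) w) (polar Q p w))
    rw [← hp'] at hp'm
    have e1 : polar Q p' w = 0 := by
      simp only [hp', polar_add_left, polar_smul_left, smul_eq_mul]; ring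
    have e2 : polar Q (J p') w ≠ 0 := by
      have : polar Q (J p') w = -(polar Q (J p) w * polar Q (J p) w - t * polar Q (J p) w * polar Q p w +
          d * polar Q p w * polar Q p w) := by
        simp only [hp', map_add, map_smul, hS.sq, sub_eq_add_neg, ← neg_smul, polar_add_left, polar_smul_left,
          smul_eq_mul]
        ring
      rw [this, neg_ne_zero]
      exact norm_ne hS (Or.inr (by rw [polar_comm Q p w]; exact hpw))
    obtain ⟨N, hN, hNx⟩ := exists_N hS hM hp'q huq ((polar_comm _ p' u).trans hp'm.2.2.1)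
      (by rw [hS.adj, polar_comm Q p' u, hp'm.2.2.1, polar_comm Q p' (J u), hp'm.2.2.2]; ring)
    have c1 : polar Q (J p') a = 0 := by
      rw [hS.adj, polar_comm Q p' a, hp'm.1, polar_comm Q p' (J a), hp'm.2.1]; ring
    have c2 : polar Q (J u) a = 0 := by
      rw [hS.adj, polar_comm Q u a, hu.1, polar_comm Q u (J a), hu.2.1]; ring
    have c3 : polar Q (J u) w = 0 := by
      rw [hS.adj, polar_comm Q u w, hu.2.2.1, polar_comm Q u (J w), hu.2.2.2]; ring
    have hNa : N.1 a = a := by
      simp [hNx, polar_comm Q p' a, hp'm.1, polar_comm Q u a, hu.1, c1, c2]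
    have h := sub_mem (W_map hN hNa hwW) hwW
    have e : N.1 w - w = (-polar Q (J p') w) • u := by
      rw [hNx, e1, polar_comm Q u w, hu.2.2.1, c3]; module
    rw [e] at h
    have := Submodule.smul_mem _ (-polar Q (J p') w)⁻¹ h
    rwa [inv_smul_smul₀ (neg_ne_zero.2 e2)] at this
  obtain ⟨u, hu, huq, hun⟩ := exists_out hS a w
  have hu' : u ∈ perp Q J a 0 := by
    rw [mem_perp] at hu ⊢; simp [hu.1, hu.2.1]
  have hun' : u ∉ lines J a 0 := fun h => hun (hsub a w h)
  have h1 := step w hwq hwW hwp hwn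
  have h2 := step u huq (h1 hu) hu' hun'
  obtain ⟨p, hp, hpq, -, hpu⟩ := exists_iso hS a w u (by
    by_contra hcon
    push Not at hcon
    exact hun (perp_perp hS hcon))
  intro y hy
  set P := polar Q u p with hP
  set R := polar Q (J u) p with hR
  set A := polar Q u y with hA
  set B := polar Q (J u) y with hB
  set D := R * R - t * R * P + d * P * P with hD
  have hD0 : D ≠ 0 := norm_ne hS (Or.inr hpu)
  set z := ((A * d * P - (t * P - R) * B) / D) • p + ((P * B - R * A) / D) • J p with hz
  have hz1 : z ∈ perp Q J a w := comb_mem_perp hS hp _ _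
  have hzy : y - z ∈ perp Q J a u := by
    rw [mem_perp] at hy hz1 ⊢
    refine ⟨by rw [polar_sub_right, hy.1, hz1.1, sub_zero], by rw [polar_sub_right, hy.2.1, hz1.2.1, sub_zero],
      ?_, ?_⟩
    · rw [polar_sub_right, sub_eq_zero, hz, polar_add_right, polar_smul_right, polar_smul_right, f_right hS,
        ← hP, ← hR, ← hA, smul_eq_mul, smul_eq_mul]
      field_simp
      rw [hD]; ring
    · rw [polar_sub_right, sub_eq_zero, hz, polar_add_right, polar_smul_right, polar_smul_right, f_JJ hS,
        ← hP, ← hR, ← hB, smul_eq_mul, smul_eq_mul]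
      field_simp
      rw [hD]; ring
  have := add_mem (h1 hz1) (h2 hzy)
  rwa [add_sub_cancel] at this

/-- All orthogonal pairs. -/
theorem commutator_le {a₀ b₀ : V} (ha₀ : Q a₀ = 0) (ha₀0 : a₀ ≠ 0) (hb₀ : b₀ ∈ W M ha₀) (hn : b₀ ∉ lines J a₀ 0) :
    commutator (orth Q) ≤ M := by
  have h0 := perp_le_W hS hM hb₀ hn
  have hsym : ∀ {x y : V}, y ∈ perp Q J x 0 → x ∈ perp Q J y 0 := fun {x y} h => by
    rw [mem_perp] at h ⊢
    refine ⟨(polar_comm _ y x).trans h.1, ?_, by simp, by simp⟩
    rw [hS.adj, polar_comm Q y x, h.1, polar_comm Q y (J x), h.2.1]; ring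
  have hnswap : ∀ {x y : V}, x ≠ 0 → y ∉ lines J x 0 → x ∉ lines J y 0 := fun {x y} hx h h' => by
    apply h
    have hyy : lines J y 0 = Submodule.span F {y, J y} := by
      rw [lines, map_zero]
      apply le_antisymm <;> rw [Submodule.span_le] <;> rintro z hz
      · rcases hz with rfl | rfl | rfl | rfl <;>
          first | exact zero_mem _ | exact Submodule.subset_span (by simp)
      · rcases hz with rfl | rfl <;> exact Submodule.subset_span (by simp)
    rw [hyy] at h'
    obtain ⟨s, u, e⟩ := Submodule.mem_span_pair.1 h'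
    refine mem_of_comb hS (span4_stable hS x 0) (s := s) (u := u) (e ▸ Submodule.subset_span (by simp)) ?_
    by_contra h0
    push Not at h0
    exact hx (by rw [← e, h0.1, h0.2, zero_smul, zero_smul, add_zero])
  have hall : ∀ {c : V} (hc : Q c = 0), c ≠ 0 → perp Q J c 0 ≤ W M hc := by
    intro c hc hc0
    obtain ⟨p, hp, hpq, hpn⟩ := exists_out hS a₀ c
    have hle : lines J a₀ 0 ≤ lines J a₀ c ∧ lines J c 0 ≤ lines J a₀ c := by
      constructor <;> rw [lines, lines, Submodule.span_le] <;>
        rintro z (rfl | rfl | rfl | rfl) <;>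
        first | exact zero_mem _ | (rw [map_zero]; exact zero_mem _) | exact Submodule.subset_span (by simp)
    rw [mem_perp] at hp
    have hp1 : p ∈ perp Q J a₀ 0 := mem_perp.2 ⟨hp.1, hp.2.1, by simp, by simp⟩
    have hp2 : p ∈ perp Q J c 0 := mem_perp.2 ⟨hp.2.2.1, hp.2.2.2, by simp, by simp⟩
    have hn1 : p ∉ lines J a₀ 0 := fun h => hpn (hle.1 h)
    have hn2 : p ∉ lines J c 0 := fun h => hpn (hle.2 h)
    have e1 := perp_le_W hS hM (W_comm hpq (h0 hp1)) (hnswap ha₀0 hn1)
    exact perp_le_W hS hM (W_comm hc (e1 (hsym hp2))) hn2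
  rw [commutator_eq_sGroup hS.nd (by have := hS.dim; omega), sGroup, Subgroup.closure_le]
  rintro _ ⟨a, y, ha, hay, -, rfl⟩
  by_cases ha0 : a = 0
  · subst ha0
    rw [siegel_zero_left]
    exact one_mem M
  suffices hy : y ∈ W M ha by
    obtain ⟨h1, h2⟩ := hy
    rw [← siegel_congr ha _ (one_smul F y)]
    exact h2 1
  obtain ⟨q, hq⟩ : ∃ q, Q q = 0 ∧ polar Q a q ≠ 0 := by
    obtain ⟨q, -, h1, -, h2⟩ := exists_iso hS 0 0 a (by
      by_contra hcon
      push Not at hcon
      exact ha0 (hS.nd.1 a fun z => by simpa using hcon z (mem_perp.2 (by simp))))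
    exact ⟨q, h1, h2⟩
  set a' := (-polar Q a (J q)) • q + polar Q a q • J q with ha'
  have ha'q : Q a' = 0 := Q_comb hS hq.1 _ _
  have e1 : polar Q a a' = 0 := by
    simp only [ha', polar_add_right, polar_smul_right, smul_eq_mul]; ring
  have e2 : polar Q (J a) a' ≠ 0 := by
    have : polar Q (J a) a' = polar Q a (J q) * polar Q a (J q) - t * polar Q a (J q) * polar Q a q +
        d * polar Q a q * polar Q a q := by
      simp only [ha', polar_add_right, polar_smul_right, smul_eq_mul, f_JJ hS, hS.adj a q]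
      ring
    rw [this]
    exact norm_ne hS (Or.inr hq.2)
  obtain ⟨c, hc, hcq, hcn⟩ := exists_out hS a a'
  rw [mem_perp] at hc
  have ha'0 : a' ≠ 0 := fun h => e2 (by rw [h]; simp)
  obtain ⟨g, hg, hgx⟩ := W_apply hcq (hall ha'q ha'0 (mem_perp.2 ⟨hc.2.2.1, hc.2.2.2, by simp, by simp⟩))
  have hga : g.1 a = a := by
    simp [hgx, polar_comm Q a' a, e1, polar_comm Q c a, hc.1]
  obtain ⟨b, hb, -, -, hcb⟩ := exists_iso hS a 0 c (by
    by_contra hcon
    push Not at hcon
    refine hcn ((show lines J a 0 ≤ lines J a a' by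
      rw [lines, lines, Submodule.span_le]
      rintro z (rfl | rfl | rfl | rfl)
      · exact Submodule.subset_span (by simp)
      · exact Submodule.subset_span (by simp)
      · exact zero_mem _
      · rw [map_zero]; exact zero_mem _) (perp_perp hS hcon)))
  have hgb := W_map hg hga (hall ha ha0 hb)
  rw [mem_perp] at hb
  have e3 : polar Q (J a) (g.1 b) ≠ 0 := by
    simp [hgx, sub_eq_add_neg, polar_add_right, polar_smul_right, polar_neg_right, hb.2.1, hc.2.1, hcb, e2]
  set l := polar Q (J a) y / polar Q (J a) (g.1 b)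
  have : y - l • g.1 b ∈ perp Q J a 0 := by
    rw [mem_perp]
    refine ⟨by rw [polar_sub_right, polar_smul_right, hay, W_polar hgb, smul_zero, sub_zero], ?_, by simp, by simp⟩
    rw [polar_sub_right, polar_smul_right, smul_eq_mul, div_mul_cancel₀ _ e3, sub_self]
  have := add_mem (hall ha ha0 this) (Submodule.smul_mem _ l hgb)
  rwa [sub_add_cancel] at this

end

end Cfsg.Agent.ExtFieldGUOrth
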