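import Mathlib
import Cfsg.Agent.Lib.OrthUnitaryQuad
import Cfsg.Agent.Lib.ExtFieldMax

/-!
Orthogonal geometry over an extension field K inside an orthogonal space over F (odd order, K acting by
self-adjoint maps): reflections, Siegel transformations, tori and transitivity.
-/

set_option autoImplicit false
set_option linter.unusedSectionVars false

namespace Cfsg.Agent.ExtFieldOrth

open QuadraticMap Module
open Cfsg.Agent.OrthUnitaryQuad
open scoped commutatorElement

variable {F K V : Type*} [Field F] [Fintype F] [Field K] [Fintype K] [Algebra F K]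
  [AddCommGroup V] [Module F V] [Module K V] [IsScalarTower F K V] [FiniteDimensional K V]

variable (K) in
/-- `v` is singular over K. -/
def Sing (Q : QuadraticForm F V) (v : V) : Prop := ∀ c : K, polar Q (c • v) v = 0

variable (K) in
/-- The hypotheses. -/
structure Hyp (Q : QuadraticForm F V) (M : Subgroup (orth Q)) : Prop where
  two : (2 : F) ≠ 0
  prime : (finrank F K).Prime
  dim : 4 ≤ finrank K V
  big : finrank K V = 4 → 3 ≤ finrank F K ∨ ∀ x y : V, Sing K Q x → Sing K Q y →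
    (∀ c : K, polar Q (c • x) y = 0) → x ≠ 0 → ∃ e : K, y = e • x
  adj : ∀ (c : K) x y, polar Q (c • x) y = polar Q x (c • y)
  nd : (polarBilin Q).Nondegenerate
  lin : ∀ g ∈ commutator (orth Q), (∀ (c : K) x, g.1 (c • x) = c • g.1 x) → g ∈ M
  move : ∃ g ∈ M, ∃ c : K, ∀ d : K, ∃ x : V, g.1 (c • x) ≠ d • g.1 x

variable {Q : QuadraticForm F V} {M : Subgroup (orth Q)}

/-- `B` lifts the polar form along `τ`. -/
structure Lifts (Q : QuadraticForm F V) (τ : K →ₗ[F] F) (B : V →ₗ[K] V →ₗ[K] K) : Prop where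
  one : τ 1 = 1
  eq : ∀ (c : K) x y, polar Q (c • x) y = τ (c * B x y)

theorem tau_ext {τ : K →ₗ[F] F} (h1 : τ 1 = 1) {a b : K} (h : ∀ c, τ (c * a) = τ (c * b)) : a = b := by
  by_contra hne
  have h0 := h (a - b)⁻¹
  have : τ ((a - b)⁻¹ * (a - b)) = 0 := by rw [mul_sub, map_sub, h0, sub_self]
  rw [inv_mul_cancel₀ (sub_ne_zero.2 hne), h1] at this
  exact one_ne_zero this

theorem exists_lift (hM : Hyp K Q M) (τ : K →ₗ[F] F) (h1 : τ 1 = 1) : ∃ B, Lifts Q τ B := by
  classical
  let Φ : K →ₗ[F] (K →ₗ[F] F) :=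
    { toFun := fun a => τ.comp (LinearMap.mulRight F a)
      map_add' := fun a b => by ext c; simp [mul_add]
      map_smul' := fun s a => by ext c; simp [mul_smul_comm] }
  have hinj : Function.Injective Φ := fun a b h => tau_ext h1 fun c => LinearMap.congr_fun h c
  have hsurj : Function.Surjective Φ :=
    (LinearMap.injective_iff_surjective_of_finrank_eq_finrank
      (by rw [Module.finrank_linearMap, finrank_self, mul_one])).1 hinj
  have hex : ∀ x y : V, ∃ a : K, ∀ c, τ (c * a) = polar Q (c • x) y := by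
    intro x y
    obtain ⟨a, ha⟩ := hsurj
      (((polarBilin Q).flip y).comp ((LinearMap.toSpanSingleton K V x).restrictScalars F))
    exact ⟨a, fun c => LinearMap.congr_fun ha c⟩
  choose b hb using hex
  refine ⟨LinearMap.mk₂ K b ?_ ?_ ?_ ?_, h1, fun c x y => (hb x y c).symm⟩
  · intro x x' y
    refine tau_ext h1 fun c => ?_
    rw [hb, mul_add, map_add, hb, hb, smul_add, polar_add_left]
  · intro e x y
    refine tau_ext h1 fun c => ?_
    rw [hb, smul_eq_mul, ← mul_assoc, hb, smul_smul]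
  · intro x y y'
    refine tau_ext h1 fun c => ?_
    rw [hb, polar_add_right, mul_add, map_add, hb, hb]
  · intro e x y
    refine tau_ext h1 fun c => ?_
    rw [hb, smul_eq_mul, ← mul_assoc, hb, ← hM.adj, smul_smul, mul_comm]

/-- The reflection map. -/
noncomputable def sf (B : V →ₗ[K] V →ₗ[K] K) (a x : V) : V := x - (2 * B x a / B a a) • a

/-- The Siegel map. -/
noncomputable def ef (B : V →ₗ[K] V →ₗ[K] K) (v w x : V) : V :=
  x + B x v • w - (B x w + 2⁻¹ * B w w * B x v) • v

/-- The orthogonal of a pair. -/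
def pperp (B : V →ₗ[K] V →ₗ[K] K) (v v' : V) : Submodule K V :=
  LinearMap.ker (B.flip v) ⊓ LinearMap.ker (B.flip v')

theorem mem_pperp {B : V →ₗ[K] V →ₗ[K] K} {v v' x : V} : x ∈ pperp B v v' ↔ B x v = 0 ∧ B x v' = 0 := by
  simp [pperp]

section
variable {τ : K →ₗ[F] F} {B : V →ₗ[K] V →ₗ[K] K} (hM : Hyp K Q M) (hB : Lifts Q τ B)
include hM hB

theorem two_ne : (2 : K) ≠ 0 := fun h => hM.two ((algebraMap F K).injective (by simpa [map_ofNat] using h))

theorem f_eq (x y : V) : polar Q x y = τ (B x y) := by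
  have := hB.eq 1 x y
  rwa [one_smul, one_mul] at this

theorem B_symm (x y : V) : B x y = B y x := by
  refine tau_ext hB.one fun c => ?_
  rw [← hB.eq, ← hB.eq, hM.adj, polar_comm]

theorem B_nondeg (x : V) (h : ∀ y, B x y = 0) : x = 0 :=
  hM.nd.1 x fun y => by
    show polar Q x y = 0
    rw [f_eq hM hB, h, map_zero]

theorem sing_iff {v : V} : Sing K Q v ↔ B v v = 0 :=
  ⟨fun h => tau_ext hB.one fun c => by rw [← hB.eq, h, mul_zero, map_zero],
    fun h c => by rw [hB.eq, h, mul_zero, map_zero]⟩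

theorem Q_eq (x : V) : Q x = 2⁻¹ * τ (B x x) := by
  rw [← f_eq hM hB, polar_self_mul, inv_mul_cancel_left₀ hM.two]

theorem exists_vec (φ : V →ₗ[K] K) : ∃ w, ∀ x, B x w = φ x := by
  have hinj : Function.Injective B.flip := by
    rw [injective_iff_map_eq_zero]
    intro w hw
    refine B_nondeg hM hB w fun y => ?_
    rw [B_symm hM hB w y]
    exact LinearMap.congr_fun hw y
  obtain ⟨w, hw⟩ := (LinearMap.injective_iff_surjective_of_finrank_eq_finrank
    (by rw [Module.finrank_linearMap, finrank_self, mul_one])).1 hinj φ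
  exact ⟨w, fun x => LinearMap.congr_fun hw x⟩

theorem exists_iso (T : V →ₗ[K] V) (h : ∀ x y, B (T x) (T y) = B x y) :
    ∃ g : orth Q, (∀ x, g.1 x = T x) ∧ ∀ (c : K) x, g.1 (c • x) = c • g.1 x := by
  haveI : Finite V := Module.finite_of_finite K
  have hinj : Function.Injective (T.restrictScalars F) := by
    rw [injective_iff_map_eq_zero]
    intro x hx
    refine B_nondeg hM hB x fun y => ?_
    rw [← h, show T x = 0 from hx, map_zero, LinearMap.zero_apply]
  exact ⟨⟨LinearEquiv.ofBijective (T.restrictScalars F) (Finite.injective_iff_bijective.1 hinj),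
    fun x => by
      show Q (T x) = Q x
      rw [Q_eq hM hB, Q_eq hM hB, h]⟩, fun x => rfl, fun c x => T.map_smul c x⟩

theorem exists_refl {a : V} (ha : B a a ≠ 0) :
    ∃ g : orth Q, (∀ x, g.1 x = sf B a x) ∧ ∀ (c : K) x, g.1 (c • x) = c • g.1 x := by
  obtain ⟨g, hg, hl⟩ := exists_iso hM hB
    (LinearMap.id - (LinearMap.toSpanSingleton K V ((2 / B a a) • a)).comp (B.flip a)) (fun x y => by
      simp [B_symm hM hB a y]
      field_simp
      ring)
  refine ⟨g, fun x => ?_, hl⟩
  rw [hg, sf]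
  simp [smul_smul]
  ring_nf

theorem exists_ef {v : V} (hv : B v v = 0) {w : V} (hw : B v w = 0) :
    ∃ g : orth Q, (∀ x, g.1 x = ef B v w x) ∧ ∀ (c : K) x, g.1 (c • x) = c • g.1 x := by
  have h2 := two_ne hM hB
  obtain ⟨g, hg, hl⟩ := exists_iso hM hB
    (LinearMap.id + (LinearMap.toSpanSingleton K V w).comp (B.flip v) -
      (LinearMap.toSpanSingleton K V v).comp (B.flip w + (2⁻¹ * B w w) • B.flip v)) (fun x y => by
      simp [hv, hw, B_symm hM hB w v, B_symm hM hB v y, B_symm hM hB w y]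
      field_simp
      ring)
  exact ⟨g, fun x => by rw [hg, ef]; simp, hl⟩

theorem ef_add {v : V} (hv : B v v = 0) {a b : V} (ha : B v a = 0) (hb : B v b = 0) (x : V) :
    ef B v a (ef B v b x) = ef B v (a + b) x := by
  have h2 := two_ne hM hB
  simp [ef, hv, ha, hb, B_symm hM hB b v, B_symm hM hB b a]
  match_scalars <;> field_simp <;> ring

theorem rot_mem {s t : orth Q} (hs : ∀ (c : K) x, s.1 (c • x) = c • s.1 x)
    (ht : ∀ (c : K) x, t.1 (c • x) = c • t.1 x) : s * t * s⁻¹ * t⁻¹ ∈ M := by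
  have hc : ⁅s, t⁆ ∈ commutator (orth Q) := by
    rw [commutator_def]
    exact Subgroup.commutator_mem_commutator (Subgroup.mem_top s) (Subgroup.mem_top t)
  rw [commutatorElement_def] at hc
  refine hM.lin _ hc fun c x => ?_
  have hinv : ∀ {g : orth Q}, (∀ (c : K) x, g.1 (c • x) = c • g.1 x) →
      ∀ (c : K) x, g⁻¹.1 (c • x) = c • g⁻¹.1 x := fun {g} hg c x => by
    apply g.1.injective
    rw [hg]
    show g.1 (g.1.symm (c • x)) = c • g.1 (g.1.symm x)
    rw [LinearEquiv.apply_symm_apply, LinearEquiv.apply_symm_apply]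
  show s.1 (t.1 (s⁻¹.1 (t⁻¹.1 (c • x)))) = c • s.1 (t.1 (s⁻¹.1 (t⁻¹.1 x)))
  rw [hinv ht, hinv hs, ht, hs]

theorem sf_sf {a : V} (ha : B a a ≠ 0) (x : V) : sf B a (sf B a x) = x := by
  simp only [sf, map_sub, map_smul, LinearMap.sub_apply, LinearMap.smul_apply, smul_eq_mul]
  match_scalars
  · ring
  · field_simp
    ring

/-- The square of a product of two reflections. -/
theorem exists_rot {a b : V} (ha : B a a ≠ 0) (hb : B b b ≠ 0) :
    ∃ g ∈ M, (∀ (c : K) x, g.1 (c • x) = c • g.1 x) ∧ ∀ x, g.1 x = sf B a (sf B b (sf B a (sf B b x))) := by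
  obtain ⟨s, hs, hsl⟩ := exists_refl hM hB ha
  obtain ⟨t, ht, htl⟩ := exists_refl hM hB hb
  refine ⟨_, rot_mem hM hB hsl htl, ?_⟩
  have hsi : ∀ x, s⁻¹.1 x = sf B a x := fun x => by
    apply s.1.injective
    rw [hs (sf B a x), sf_sf hM hB ha]
    exact s.1.apply_symm_apply x
  have hti : ∀ x, t⁻¹.1 x = sf B b x := fun x => by
    apply t.1.injective
    rw [ht (sf B b x), sf_sf hM hB hb]
    exact t.1.apply_symm_apply x
  have key : ∀ x, (s * t * s⁻¹ * t⁻¹).1 x = sf B a (sf B b (sf B a (sf B b x))) := fun x => by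
    show s.1 (t.1 (s⁻¹.1 (t⁻¹.1 x))) = _
    rw [hs, ht, hsi, hti]
  refine ⟨fun c x => ?_, key⟩
  rw [key, key]
  simp [sf, smul_sub, smul_smul, mul_sub, sub_div, mul_div_assoc, mul_left_comm, mul_comm, mul_assoc]

/-- Siegel transformations lie in `M`. -/
theorem E_mem {v : V} (hv : B v v = 0) {w : V} (hw : B v w = 0) :
    ∃ g ∈ M, (∀ (c : K) x, g.1 (c • x) = c • g.1 x) ∧ ∀ x, g.1 x = ef B v w x := by
  have h2 := two_ne hM hB
  have main : ∀ {w}, B v w = 0 → B w w ≠ 0 → ∃ g ∈ M, (∀ (c : K) x, g.1 (c • x) = c • g.1 x) ∧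
      ∀ x, g.1 x = ef B v w x := by
    intro w hw hww
    obtain ⟨s, hs, hsl⟩ := exists_refl hM hB hww
    set u := (-(2⁻¹ : K)) • w with hu
    have hvu : B v u = 0 := by simp [hu, hw]
    obtain ⟨e, he, hel⟩ := exists_ef hM hB hv hvu
    have hvu' : B v (-u) = 0 := by simp [hu, hw]
    have hei : ∀ x, e⁻¹.1 x = ef B v (-u) x := fun x => by
      apply e.1.injective
      rw [he (ef B v (-u) x), ef_add hM hB hv hvu hvu']
      show e.1 (e.1.symm x) = _
      rw [LinearEquiv.apply_symm_apply]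
      simp [ef]
    have hsi : ∀ x, s⁻¹.1 x = sf B w x := fun x => by
      apply s.1.injective
      rw [hs (sf B w x), sf_sf hM hB hww]
      exact s.1.apply_symm_apply x
    have key : ∀ x, (s * e * s⁻¹ * e⁻¹).1 x = ef B v w x := fun x => by
      show s.1 (e.1 (s⁻¹.1 (e⁻¹.1 x))) = _
      rw [hs, he, hsi, hei]
      simp [sf, ef, hu, hv, hw, B_symm hM hB w v]
      match_scalars <;> field_simp <;> ring
    refine ⟨_, rot_mem hM hB hsl hel, fun c x => ?_, key⟩
    rw [key, key]
    simp [ef, smul_sub, smul_add, smul_smul, mul_add, mul_left_comm, mul_comm]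
  by_cases hv0 : v = 0
  · exact ⟨1, one_mem M, fun c x => rfl, fun x => by simp [ef, hv0]⟩
  by_cases hww : B w w = 0
  swap
  · exact main hw hww
  obtain ⟨a, hva, haa⟩ : ∃ a, B v a = 0 ∧ B a a ≠ 0 := by
    by_contra hcon
    push Not at hcon
    -- the orthogonal of `v` would be totally singular
    have hpol : ∀ x y, B v x = 0 → B v y = 0 → B x y = 0 := fun x y hx hy => by
      have h := hcon (x + y) (by simp [hx, hy])
      simp [hcon x hx, hcon y hy, B_symm hM hB y x] at h
      exact (mul_eq_zero.1 (show (2 : K) * B x y = 0 by linear_combination h)).resolve_left h2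
    have h1 := LinearMap.finrank_range_add_finrank_ker (B v)
    have h3 := Submodule.finrank_le (LinearMap.range (B v))
    rw [finrank_self] at h3
    have h4 : finrank K (LinearMap.ker (B v)) ≤ finrank K (LinearMap.ker (B v)).dualAnnihilator := by
      have hinj : Function.Injective B := by
        rw [injective_iff_map_eq_zero]
        exact fun x hx => B_nondeg hM hB x fun y => LinearMap.congr_fun hx y
      refine LinearMap.finrank_le_finrank_of_injective
        (f := B.restrict (p := LinearMap.ker (B v)) (q := (LinearMap.ker (B v)).dualAnnihilator)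
          fun x hx => (Submodule.mem_dualAnnihilator _).2 fun y hy => hpol x y hx hy)
        fun x y h => Subtype.ext (hinj (congrArg Subtype.val h))
    have h5 := Subspace.finrank_add_finrank_dualAnnihilator_eq (LinearMap.ker (B v))
    have := hM.dim
    omega
  obtain ⟨a, hva, haa, hwa⟩ : ∃ a, B v a = 0 ∧ B a a ≠ 0 ∧ B (w - a) (w - a) ≠ 0 := by
    by_cases h : B (w - a) (w - a) = 0
    · refine ⟨-a, by simp [hva], by simpa using haa, ?_⟩
      simp [hww, B_symm hM hB a w] at h ⊢
      intro h'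
      exact haa ((mul_eq_zero.1 (show (2 : K) * B a a = 0 by linear_combination h + h')).resolve_left h2)
    · exact ⟨a, hva, haa, h⟩
  obtain ⟨g1, m1, l1, e1⟩ := main hva haa
  obtain ⟨g2, m2, l2, e2⟩ := main (show B v (w - a) = 0 by simp [hw, hva]) hwa
  have key : ∀ x, (g1 * g2).1 x = ef B v w x := fun x => by
    show g1.1 (g2.1 x) = _
    rw [e1, e2, ef_add hM hB hv hva (by simp [hw, hva]), add_sub_cancel]
  exact ⟨_, mul_mem m1 m2, fun c x => by show g1.1 (g2.1 (c • x)) = c • g1.1 (g2.1 x); rw [l2, l1], key⟩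

theorem exists_partner {v : V} (hv : B v v = 0) (hv0 : v ≠ 0) : ∃ v', B v' v' = 0 ∧ B v v' = 1 := by
  obtain ⟨z, hz⟩ : ∃ z, B v z ≠ 0 := by
    by_contra h
    push Not at h
    exact hv0 (B_nondeg hM hB v h)
  have h2 := two_ne hM hB
  set y := (B v z)⁻¹ • z with hy
  have hvy : B v y = 1 := by simp [hy, inv_mul_cancel₀ hz]
  refine ⟨y - (2⁻¹ * B y y) • v, ?_, by simp [hvy, hv]⟩
  simp [hv, hvy, B_symm hM hB y v]
  field_simp
  ring

section
variable {v v' : V} (hv : B v v = 0) (hv' : B v' v' = 0) (hvv' : B v v' = 1)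
include hv hv' hvv'

theorem v_ne : v ≠ 0 := fun h => by simp [h] at hvv'

theorem decomp (x : V) : x - B x v' • v - B x v • v' ∈ pperp B v v' := by
  rw [mem_pperp]
  simp [hv, hv', hvv', B_symm hM hB v' v]

theorem pperp_nondeg {y : V} (hy : y ∈ pperp B v v') (h : ∀ z ∈ pperp B v v', B y z = 0) : y = 0 := by
  refine B_nondeg hM hB y fun x => ?_
  have h1 := h _ (decomp hM hB hv hv' hvv' x)
  rw [mem_pperp] at hy
  simpa [hy.1, hy.2] using h1

theorem finrank_pperp : finrank K (pperp B v v') + 2 = finrank K V := by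
  have hv0 := v_ne hM hB hv hv' hvv'
  let φ : V →ₗ[K] K × K := (B.flip v).prod (B.flip v')
  have hker : LinearMap.ker φ = pperp B v v' := by
    ext x
    simp [φ, mem_pperp, Prod.ext_iff]
  have hsurj : LinearMap.range φ = ⊤ := LinearMap.range_eq_top.2 fun p =>
    ⟨p.1 • v' + p.2 • v, Prod.ext (by simp [φ, hv, hvv', B_symm hM hB v' v]) (by simp [φ, hv', hvv'])⟩
  have h1 := LinearMap.finrank_range_add_finrank_ker φ
  rw [hker, hsurj, finrank_top, Module.finrank_prod, finrank_self] at h1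
  omega

theorem exists_aniso {y : V} (hy : y ∈ pperp B v v') (hy0 : y ≠ 0) :
    ∃ a ∈ pperp B v v', B a a ≠ 0 ∧ B y a ≠ 0 := by
  have h2 := two_ne hM hB
  obtain ⟨z, hz, hyz⟩ : ∃ z ∈ pperp B v v', B y z ≠ 0 := by
    by_contra hcon
    push Not at hcon
    exact hy0 (pperp_nondeg hM hB hv hv' hvv' hy hcon)
  by_cases h1 : B y y = 0
  swap
  · exact ⟨y, hy, h1, h1⟩
  by_cases h3 : B z z = 0
  swap
  · exact ⟨z, hz, h3, hyz⟩
  refine ⟨y + z, add_mem hy hz, ?_, by simpa [h1] using hyz⟩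
  simp [h1, h3, B_symm hM hB z y]
  intro h
  exact hyz ((mul_eq_zero.1 (show (2 : K) * B y z = 0 by linear_combination h)).resolve_left h2)

/-- The perpendicular plane represents everything. -/
theorem exists_value (a : K) : ∃ y ∈ pperp B v v', y ≠ 0 ∧ (a ≠ 0 → B y y = a) := by
  have h2 := two_ne hM hB
  have hd := finrank_pperp hM hB hv hv' hvv'
  have := hM.dim
  obtain ⟨y₀, hy₀, hy₀0⟩ := (Submodule.ne_bot_iff (pperp B v v')).1 (fun h => by rw [h, finrank_bot] at hd; omega)
  obtain ⟨b, hb, hbb, -⟩ := exists_aniso hM hB hv hv' hvv' hy₀ hy₀0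
  by_cases ha : a = 0
  · exact ⟨y₀, hy₀, hy₀0, fun h => absurd ha h⟩
  obtain ⟨y₁, hy₁, hy₁0⟩ := (Submodule.ne_bot_iff (pperp B v v' ⊓ LinearMap.ker (B.flip b))).1 (fun h => by
    have h1 := Submodule.finrank_sup_add_finrank_inf_eq (pperp B v v') (LinearMap.ker (B.flip b))
    have h3 := LinearMap.finrank_range_add_finrank_ker (B.flip b)
    have h4 := Submodule.finrank_le (LinearMap.range (B.flip b))
    have h5 := Submodule.finrank_le (pperp B v v' ⊔ LinearMap.ker (B.flip b))
    rw [h, finrank_bot] at h1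
    rw [finrank_self] at h4
    omega)
  have hy₁b : B y₁ b = 0 := hy₁.2
  obtain ⟨c, hc, hcc, hcb⟩ : ∃ c ∈ pperp B v v', B c c ≠ 0 ∧ B c b = 0 := by
    by_cases h : B y₁ y₁ = 0
    swap
    · exact ⟨y₁, hy₁.1, h, hy₁b⟩
    obtain ⟨z, hz, hyz⟩ : ∃ z ∈ pperp B v v', B y₁ z ≠ 0 := by
      by_contra hcon
      push Not at hcon
      exact hy₁0 (pperp_nondeg hM hB hv hv' hvv' hy₁.1 hcon)
    set z' := z - (B z b / B b b) • b with hz'
    have hz'b : B z' b = 0 := by simp [hz', div_mul_cancel₀ _ hbb]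
    have hyz' : B y₁ z' ≠ 0 := by simpa [hz', hy₁b] using hyz
    by_cases h3 : B z' z' = 0
    swap
    · exact ⟨z', sub_mem hz (Submodule.smul_mem _ _ hb), h3, hz'b⟩
    refine ⟨y₁ + z', add_mem hy₁.1 (sub_mem hz (Submodule.smul_mem _ _ hb)), ?_, by simp [hy₁b, hz'b]⟩
    simp [h, h3, B_symm hM hB z' y₁]
    intro h'
    exact hyz' ((mul_eq_zero.1 (show (2 : K) * B y₁ z' = 0 by linear_combination h')).resolve_left h2)
  obtain ⟨s, t, hst⟩ := FiniteField.exists_root_sum_quadratic
    (f := Polynomial.C (B b b) * Polynomial.X ^ 2)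
    (g := Polynomial.C (B c c) * Polynomial.X ^ 2 + Polynomial.C (-a))
    (Polynomial.degree_C_mul_X_pow 2 hbb)
    (by
      rw [Polynomial.degree_add_eq_left_of_degree_lt] <;> rw [Polynomial.degree_C_mul_X_pow 2 hcc]
      · rfl
      · exact lt_of_le_of_lt Polynomial.degree_C_le (by decide))
    (FiniteField.odd_card_of_char_ne_two (fun h => h2 (by
      have := ringChar.Nat.cast_ringChar (R := K)
      rw [h] at this
      simpa using this)))
  simp only [Polynomial.eval_add, Polynomial.eval_mul, Polynomial.eval_C, Polynomial.eval_pow,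
    Polynomial.eval_X] at hst
  refine ⟨s • b + t • c, add_mem (Submodule.smul_mem _ _ hb) (Submodule.smul_mem _ _ hc), fun h => ?_, fun _ => ?_⟩
  · have h' := congrArg (fun z => B z z) h
    simp [hcb, B_symm hM hB b c] at h'
    exact ha (by linear_combination h' - hst)
  · simp [hcb, B_symm hM hB b c]
    linear_combination hst

theorem exists_torus {d : K} (hd : d ≠ 0) :
    ∃ g ∈ M, (∀ (c : K) x, g.1 (c • x) = c • g.1 x) ∧ g.1 v = (d * d) • v ∧ g.1 v' = (d * d)⁻¹ • v' ∧
      ∀ y ∈ pperp B v v', g.1 y = y := by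
  have h2 := two_ne hM hB
  have hvv'' : B v' v = 1 := by rw [B_symm hM hB, hvv']
  have ha : B (v - v') (v - v') ≠ 0 := by
    simp [hv, hv', hvv', hvv'']
    intro h
    exact h2 (by linear_combination -h)
  have hb : B (v - d⁻¹ • v') (v - d⁻¹ • v') ≠ 0 := by
    simp [hv, hv', hvv', hvv'']
    intro h
    field_simp at h
    exact h2 (by linear_combination -h)
  obtain ⟨g, hg, hl, hgx⟩ := exists_rot hM hB hb ha
  have qa : B (v - v') (v - v') = -2 := by simp [hv, hv', hvv', hvv'']; ring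
  have qb : B (v - d⁻¹ • v') (v - d⁻¹ • v') = -2 * d⁻¹ := by simp [hv, hv', hvv', hvv'']; ring
  have a1 : ∀ k : K, sf B (v - v') (k • v) = k • v' := fun k => by
    rw [sf, qa]; simp [hv, hvv']; match_scalars <;> field_simp <;> ring
  have a2 : ∀ k : K, sf B (v - v') (k • v') = k • v := fun k => by
    rw [sf, qa]; simp [hv', hvv'']; match_scalars <;> field_simp <;> ring
  have b1 : ∀ k : K, sf B (v - d⁻¹ • v') (k • v) = (k * d⁻¹) • v' := fun k => by
    rw [sf, qb]; simp [hv, hvv']; match_scalars <;> field_simp <;> ring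
  have b2 : ∀ k : K, sf B (v - d⁻¹ • v') (k • v') = (k * d) • v := fun k => by
    rw [sf, qb]; simp [hv', hvv'']; match_scalars <;> field_simp <;> ring
  refine ⟨g, hg, hl, ?_, ?_, fun y hy => ?_⟩
  · rw [hgx, show sf B (v - v') v = v' by simpa using a1 1, show sf B (v - d⁻¹ • v') v' = d • v by simpa using b2 1,
      a1, b2]
  · rw [hgx, show sf B (v - v') v' = v by simpa using a2 1,
      show sf B (v - d⁻¹ • v') v = d⁻¹ • v' by simpa using b1 1, a2, b1, mul_inv]
  · rw [mem_pperp] at hy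
    rw [hgx]
    simp [sf, hy]

end

/-- Transitivity on singular vectors. -/
theorem exists_transitive {a b : V} (ha : B a a = 0) (hb : B b b = 0) (ha0 : a ≠ 0) (hb0 : b ≠ 0) :
    ∃ h ∈ M, h.1 a = b ∧ ∀ (c : K) x, h.1 (c • x) = c • h.1 x := by
  have h2 := two_ne hM hB
  have key : ∀ {a b : V}, B a a = 0 → B b b = 0 → B a b ≠ 0 →
      ∃ h ∈ M, h.1 a = b ∧ ∀ (c : K) x, h.1 (c • x) = c • h.1 x := by
    intro a b ha hb hab
    set b' := (B a b)⁻¹ • b with hb'
    have hab' : B a b' = 1 := by simp [hb', inv_mul_cancel₀ hab]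
    have hb'' : B b' b' = 0 := by simp [hb', hb]
    obtain ⟨w, hw, -, hww⟩ := exists_value hM hB ha hb'' hab' (-2 * B a b)
    have hww := hww (by simp [h2, hab])
    rw [mem_pperp] at hw
    have hwb : B w b = 0 := by simpa [hb', hab] using hw.2
    set p := a + b + w with hp
    have hap : B a p = B a b := by simp [hp, ha, B_symm hM hB a w, hw.1]
    have hbp : B b p = B a b := by simp [hp, hb, B_symm hM hB b a, B_symm hM hB b w, hwb]
    have hpp : B p p = 0 := by
      simp [hp, ha, hb, hww, B_symm hM hB b a, B_symm hM hB a w, hw.1, B_symm hM hB b w, hwb]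
      ring
    set u := (B a b)⁻¹ • (b - a) with hu
    obtain ⟨h, hh, hl, hx⟩ := E_mem hM hB hpp (w := u) (by
      simp [hu, B_symm hM hB p b, B_symm hM hB p a, hbp, hap])
    refine ⟨h, hh, ?_, hl⟩
    have e1 : B a u = 1 := by simp [hu, ha, inv_mul_cancel₀ hab]
    have e2 : B u u = -2 * (B a b)⁻¹ := by
      simp [hu, ha, hb, B_symm hM hB b a]
      field_simp
      ring
    rw [hx, ef, hap, e1, e2, hu, smul_smul, mul_inv_cancel₀ hab, one_smul]
    match_scalars <;> field_simp <;> ring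
  obtain ⟨a', ha', haa'⟩ := exists_partner hM hB ha ha0
  obtain ⟨b', hb', hbb'⟩ := exists_partner hM hB hb hb0
  obtain ⟨c, hc, hac, hbc⟩ : ∃ c, B c c = 0 ∧ B a c ≠ 0 ∧ B b c ≠ 0 := by
    by_cases h1 : B b a' = 0
    swap
    · exact ⟨a', ha', by rw [haa']; exact one_ne_zero, h1⟩
    by_cases h3 : B a b' = 0
    swap
    · exact ⟨b', hb', h3, by rw [hbb']; exact one_ne_zero⟩
    by_cases hab : B a b = 0
    · refine ⟨a' + b' - B a' b' • a, ?_, by simp [haa', h3, ha], by simp [hbb', h1, B_symm hM hB b a, hab]⟩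
      simp [ha', hb', ha, haa', h3, B_symm hM hB b' a', B_symm hM hB b' a, B_symm hM hB a' a]
    · have h1' : B a' b = 0 := by rw [B_symm hM hB, h1]
      obtain ⟨w, hw, -, hww⟩ := exists_value hM hB ha
        (v' := (B a b)⁻¹ • b) (by simp [hb]) (by simp [inv_mul_cancel₀ hab]) (-2 * B a b)
      have hww := hww (by simp [h2, hab])
      rw [mem_pperp] at hw
      have hwb : B w b = 0 := by simpa [hab] using hw.2
      refine ⟨a + b + w, ?_, by simpa [ha, B_symm hM hB a w, hw.1] using hab,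
        by simpa [hb, B_symm hM hB b a, B_symm hM hB b w, hwb] using hab⟩
      simp [ha, hb, hww, B_symm hM hB b a, B_symm hM hB a w, hw.1, B_symm hM hB b w, hwb]
      ring
  obtain ⟨h1, m1, e1, l1⟩ := key ha hc hac
  obtain ⟨h3, m3, e3, l3⟩ := key hc hb (by rw [B_symm hM hB]; exact hbc)
  exact ⟨h3 * h1, mul_mem m3 m1, by show h3.1 (h1.1 a) = b; rw [e1, e3],
    fun c x => by show h3.1 (h1.1 (c • x)) = c • h3.1 (h1.1 x); rw [l1, l3]⟩

end

end Cfsg.Agent.ExtFieldOrth
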