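import Mathlib
import Cfsg.Agent.Lib.ExtFieldOrthBasic

/-!
The starting configuration: some element of the group fixes a vector singular over K and moves its line.
-/

set_option autoImplicit false
set_option linter.unusedSectionVars false
set_option linter.style.haveILetI false
set_option maxHeartbeats 800000

namespace Cfsg.Agent.ExtFieldOrth

open QuadraticMap Module
open Cfsg.Agent.OrthUnitaryQuad

section CW

variable {F W : Type*} [Field F] [Fintype F] [AddCommGroup W] [Module F W] [FiniteDimensional F W]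

/-- Common zeros of few quadratic functions. -/
theorem exists_zero {ι : Type*} [Fintype ι] (Bi : ι → W →ₗ[F] W →ₗ[F] F) (Li : ι → W →ₗ[F] F)
    (h : 2 * Fintype.card ι < finrank F W) : ∃ x, x ≠ 0 ∧ ∀ i, Bi i x x + Li i x = 0 := by
  classical
  let b := Module.finBasis F W
  let f : ι → MvPolynomial (Fin (finrank F W)) F := fun i =>
    ∑ j, ∑ l, MvPolynomial.C (Bi i (b j) (b l)) * MvPolynomial.X j * MvPolynomial.X l +
      ∑ j, MvPolynomial.C (Li i (b j)) * MvPolynomial.X j
  have heval : ∀ i (a : Fin (finrank F W) → F), MvPolynomial.eval a (f i) =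
      Bi i (∑ j, a j • b j) (∑ j, a j • b j) + Li i (∑ j, a j • b j) := by
    intro i a
    simp [f, map_sum, Finset.mul_sum, mul_comm, mul_left_comm]
    rw [Finset.sum_comm]
    exact Finset.sum_congr rfl fun x _ => Finset.sum_congr rfl fun y _ => mul_left_comm _ _ _
  have hdeg : ∀ i, (f i).totalDegree ≤ 2 := by
    intro i
    refine (MvPolynomial.totalDegree_add _ _).trans (max_le ?_ ?_)
    · refine MvPolynomial.totalDegree_finsetSum_le fun j _ => MvPolynomial.totalDegree_finsetSum_le fun l _ => ?_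
      refine (MvPolynomial.totalDegree_mul _ _).trans ?_
      refine (Nat.add_le_add (MvPolynomial.totalDegree_mul _ _) le_rfl).trans ?_
      simp [MvPolynomial.totalDegree_C, MvPolynomial.totalDegree_X]
    · refine MvPolynomial.totalDegree_finsetSum_le fun j _ => ?_
      refine (MvPolynomial.totalDegree_mul _ _).trans ?_
      simp [MvPolynomial.totalDegree_C, MvPolynomial.totalDegree_X]
  set p := ringChar F with hp
  haveI : CharP F p := ringChar.charP F
  haveI hpp : Fact p.Prime := ⟨CharP.char_is_prime F p⟩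
  have hsum : ∑ i, (f i).totalDegree < Fintype.card (Fin (finrank F W)) := by
    rw [Fintype.card_fin]
    refine lt_of_le_of_lt (Finset.sum_le_sum fun i _ => hdeg i) ?_
    simpa [mul_comm] using h
  have hdvd := char_dvd_card_solutions_of_fintype_sum_lt p hsum
  have hzero : ∀ i, MvPolynomial.eval (0 : Fin (finrank F W) → F) (f i) = 0 := fun i => by
    rw [heval]; simp
  have hcard : 1 < Fintype.card { x : Fin (finrank F W) → F // ∀ i, MvPolynomial.eval x (f i) = 0 } :=
    lt_of_lt_of_le hpp.out.one_lt (Nat.le_of_dvd (Fintype.card_pos_iff.2 ⟨⟨0, hzero⟩⟩) hdvd)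
  obtain ⟨⟨a, ha⟩, hne⟩ := Fintype.exists_ne_of_one_lt_card hcard ⟨0, hzero⟩
  refine ⟨∑ j, a j • b j, fun h0 => hne (Subtype.ext (funext fun j => ?_)), fun i => by rw [← heval, ha]⟩
  exact Fintype.linearIndependent_iff.1 b.linearIndependent a h0 j

end CW

variable {F K V : Type*} [Field F] [Fintype F] [Field K] [Fintype K] [Algebra F K]
  [AddCommGroup V] [Module F V] [Module K V] [IsScalarTower F K V] [FiniteDimensional K V]

variable {Q : QuadraticForm F V} {M : Subgroup (orth Q)}

theorem mul_app (g h : orth Q) (x : V) : (g * h).1 x = g.1 (h.1 x) := rfl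

theorem inv_app (g : orth Q) (x : V) : g⁻¹.1 (g.1 x) = x := g.1.symm_apply_apply x

theorem app_inv (g : orth Q) (x : V) : g.1 (g⁻¹.1 x) = x := g.1.apply_symm_apply x

theorem polar_inv (g : orth Q) (x y : V) : polar Q (g⁻¹.1 x) y = polar Q x (g.1 y) := by
  conv_rhs => rw [← app_inv g x, polar_orth g]

/-- `M` has an element fixing `D • v` and moving the line of `v`. -/
def Moves (M : Subgroup (orth Q)) (v : V) (D : Submodule F K) : Prop :=
  ∃ g ∈ M, (∀ d ∈ D, g.1 (d • v) = d • v) ∧ ∃ c : K, ∀ e : K, g.1 (c • v) ≠ e • v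

/-- A central element at the line of `v`. -/
def Root (M : Subgroup (orth Q)) (τ : K →ₗ[F] F) (B : V →ₗ[K] V →ₗ[K] K) (v : V) : Prop :=
  ∃ ψ : K →ₗ[F] K, (∀ P R, τ (ψ P * R) + τ (P * ψ R) = 0) ∧ ψ 1 ≠ 0 ∧
    ∃ C ∈ M, ∀ x, C.1 x = x + ψ (B x v) • v

section
variable {τ : K →ₗ[F] F} {B : V →ₗ[K] V →ₗ[K] K} (hM : Hyp K Q M) (hB : Lifts Q τ B)
include hM hB

theorem B_map {g : orth Q} (hg : ∀ (c : K) x, g.1 (c • x) = c • g.1 x) (x y : V) :
    B (g.1 x) (g.1 y) = B x y :=
  tau_ext hB.one fun c => by rw [← hB.eq, ← hB.eq, ← hg, polar_orth g]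

theorem exists_sq_ne : ∃ d : K, d ≠ 0 ∧ ∀ s : F, d * d ≠ algebraMap F K s := by
  have h2 := two_ne hM hB
  by_contra hcon
  push Not at hcon
  have hall : ∀ x : K, ∃ s : F, x = algebraMap F K s := by
    intro x
    obtain ⟨s, hs⟩ : ∃ s : F, x * x = algebraMap F K s := by
      by_cases hx : x = 0
      · exact ⟨0, by simp [hx]⟩
      · exact hcon x hx
    obtain ⟨u, hu⟩ : ∃ u : F, (x + 1) * (x + 1) = algebraMap F K u := by
      by_cases hx : x + 1 = 0
      · exact ⟨0, by simp [hx]⟩
      · exact hcon _ hx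
    refine ⟨2⁻¹ * (u - s - 1), ?_⟩
    simp only [map_mul, map_sub, map_inv₀, map_ofNat, map_one, ← hs, ← hu]
    field_simp
    ring
  have hle : finrank F K ≤ 1 := finrank_le_one (1 : K) fun x => by
    obtain ⟨s, rfl⟩ := hall x
    exact ⟨s, by rw [Algebra.smul_def, mul_one]⟩
  have := hM.prime.two_le
  omega

section
variable {v v' : V} (hv : B v v = 0) (hv' : B v' v' = 0) (hvv' : B v v' = 1)
include hv hv' hvv'

theorem mem_line {y : V} (h : ∀ w, B v w = 0 → B y w = 0) : y = B y v' • v := by
  have hyv : B y v = 0 := h v hv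
  have hd := decomp hM hB hv hv' hvv' y
  rw [hyv, zero_smul, sub_zero] at hd
  refine sub_eq_zero.1 (pperp_nondeg hM hB hv hv' hvv' hd fun z hz => ?_)
  rw [mem_pperp] at hz
  simp [h z (by rw [B_symm hM hB, hz.1]), B_symm hM hB v z, hz.1]

/-- An element of `M` fixing the orthogonal of `v`. -/
theorem trivial_or_root {C : orth Q} (hC : C ∈ M) (hfix : ∀ y, B y v = 0 → C.1 y = y) :
    (∀ x, C.1 x = x) ∨ Root M τ B v := by
  have hBv'v : B v' v = 1 := by rw [B_symm hM hB, hvv']
  let ψ : K →ₗ[F] K :=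
    { toFun := fun c => B (C.1 (c • v') - c • v') v'
      map_add' := fun a b => by simp [add_smul]; ring
      map_smul' := fun s a => by
        show B (C.1 ((s • a) • v') - (s • a) • v') v' = s • B (C.1 (a • v') - a • v') v'
        rw [smul_assoc, LinearEquiv.map_smul, ← smul_sub, LinearMap.map_smul_of_tower, LinearMap.smul_apply] }
  have hψ : ∀ c, C.1 (c • v') = c • v' + ψ c • v := by
    intro c
    have h := mem_line hM hB hv hv' hvv' (y := C.1 (c • v') - c • v') (fun y hy => by
      have hy' : B y v = 0 := by rw [B_symm hM hB]; exact hy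
      rw [map_sub, LinearMap.sub_apply, sub_eq_zero]
      refine tau_ext hB.one fun a => ?_
      rw [← hB.eq, ← hB.eq, hM.adj, hM.adj a (c • v')]
      conv_lhs => rw [← hfix (a • y) (by simp [hy']), polar_orth C])
    rw [show ψ c = B (C.1 (c • v') - c • v') v' from rfl, ← h]
    abel
  have hCx : ∀ x, C.1 x = x + ψ (B x v) • v := by
    intro x
    have h := hfix (x - B x v • v') (by simp [hBv'v])
    rw [map_sub, hψ] at h
    rw [← sub_eq_zero] at h ⊢
    rw [← h]
    abel
  have hanti : ∀ P R, τ (ψ P * R) + τ (P * ψ R) = 0 := by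
    intro P R
    have h := polar_orth C (P • v') (R • v')
    rw [hψ, hψ] at h
    simp only [f_eq hM hB, map_add, map_smul, LinearMap.add_apply, LinearMap.smul_apply, smul_eq_mul, hv', hv,
      hvv', hBv'v, mul_zero, mul_one, zero_add, add_zero] at h
    rw [mul_comm R, mul_comm (ψ R), map_zero] at h
    exact h
  by_cases hz : ∀ c, ψ c = 0
  · exact Or.inl fun x => by rw [hCx, hz, zero_smul, add_zero]
  right
  push Not at hz
  obtain ⟨c, hc⟩ := hz
  obtain ⟨d, hd, hdψ⟩ : ∃ d : K, d ≠ 0 ∧ ψ (d * d) ≠ 0 := by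
    by_contra hcon
    push Not at hcon
    have hsq : ∀ a : K, ψ (a * a) = 0 := fun a => by
      by_cases ha : a = 0
      · simp [ha]
      · exact hcon a ha
    have h2 := two_ne hM hB
    exact hc (by
      rw [show c = (c + 1) / 2 * ((c + 1) / 2) - (c - 1) / 2 * ((c - 1) / 2) by field_simp; ring, map_sub, hsq,
        hsq, sub_zero])
  obtain ⟨h, hh, hl, h1, h3, h4⟩ := exists_torus hM hB hv hv' hvv' hd
  refine ⟨(LinearMap.mulLeft F (d * d)).comp (ψ.comp (LinearMap.mulLeft F (d * d))), fun P R => ?_, ?_,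
    h * C * h⁻¹, mul_mem (mul_mem hh hC) (inv_mem hh), fun x => ?_⟩
  · simp only [LinearMap.comp_apply, LinearMap.mulLeft_apply]
    have := hanti (d * d * P) (d * d * R)
    rw [show d * d * ψ (d * d * P) * R = ψ (d * d * P) * (d * d * R) by ring,
      show P * (d * d * ψ (d * d * R)) = d * d * P * ψ (d * d * R) by ring]
    exact this
  · simp [hd, hdψ]
  · have e : B (h⁻¹.1 x) v = d * d * B x v := by
      rw [← B_map hM hB hl (h⁻¹.1 x) v, app_inv, h1, map_smul, smul_eq_mul]
    rw [mul_app, mul_app, hCx, map_add, app_inv, hl, h1, smul_smul, e]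
    simp only [LinearMap.comp_apply, LinearMap.mulLeft_apply]
    rw [mul_comm (ψ _)]

/-- An element of `M` stabilising the line of `v`. -/
theorem test {k : orth Q} (hk : k ∈ M) (e : K →ₗ[F] K) (he : ∀ c : K, k.1 (c • v) = e c • v) :
    Root M τ B v ∨ ((∀ c y, e (c * y) * e 1 = e c * e y) ∧
      ∀ (c : K) (w : V), B v w = 0 → ∃ d : K, k.1 (c • w) = (e c / e 1) • k.1 w + d • v) := by
  classical
  have hv0 := v_ne hM hB hv hv' hvv'
  have hBv'v : B v' v = 1 := by rw [B_symm hM hB, hvv']
  have heinj : Function.Injective e := fun a b h => smul_left_injective K hv0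
    (k.1.injective (show k.1 (a • v) = k.1 (b • v) by rw [he, he, h]))
  have hesurj : Function.Surjective e := Finite.injective_iff_surjective.1 heinj
  have hkp : ∀ {y}, B y v = 0 → B (k.1 y) v = 0 := fun {y} hy => by
    refine tau_ext hB.one fun a => ?_
    obtain ⟨a', rfl⟩ := hesurj a
    rw [← hB.eq, hM.adj, ← he, polar_orth k, ← hM.adj, hB.eq, hy, mul_zero, mul_zero]
  have hkip : ∀ {y}, B y v = 0 → B (k⁻¹.1 y) v = 0 := fun {y} hy => by
    refine tau_ext hB.one fun a => ?_
    rw [← hB.eq, hM.adj, polar_inv, he, ← hM.adj, hB.eq, hy, mul_zero, mul_zero]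
  by_cases hroot : Root M τ B v
  · exact Or.inl hroot
  right
  set p := B (k⁻¹.1 v') v with hp
  have key : ∀ w1 w2, B v w1 = 0 → B v w2 = 0 → e (B (k⁻¹.1 w2) w1) = B (k.1 (p • w1)) w2 := by
    intro w1 w2 hw1 hw2
    obtain ⟨a, ha, hal, hax⟩ := E_mem hM hB hv hw2
    obtain ⟨E1, hE1, -, hE1x⟩ := E_mem hM hB hv hw1
    set b := k * E1 * k⁻¹ with hb
    have hbm : b ∈ M := mul_mem (mul_mem hk hE1) (inv_mem hk)
    have hbx : ∀ x, b.1 x = x + k.1 (B (k⁻¹.1 x) v • w1) -
        e (B (k⁻¹.1 x) w1 + 2⁻¹ * B w1 w1 * B (k⁻¹.1 x) v) • v := fun x => by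
      rw [hb, mul_app, mul_app, hE1x, ef, map_sub, map_add, app_inv, he]
    have hay : ∀ y, B y v = 0 → a.1 y = y - B y w2 • v := fun y hy => by
      rw [hax, ef, hy]; simp
    have hby : ∀ y, B y v = 0 → b.1 y = y - e (B (k⁻¹.1 y) w1) • v := fun y hy => by
      rw [hbx, hkip hy]; simp
    have hkiv : ∀ c : K, B (k⁻¹.1 (c • v)) w1 = 0 := fun c => by
      obtain ⟨c', rfl⟩ := hesurj c
      rw [← he, inv_app, map_smul, LinearMap.smul_apply, hw1, smul_zero]
    have hcomm : ∀ y, B y v = 0 → a.1 (b.1 y) = b.1 (a.1 y) := by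
      intro y hy
      rw [hby y hy, hay y hy, hay _ (by simp [hy, hv]), hby _ (by simp [hy, hv])]
      simp only [map_sub, map_smul, LinearMap.sub_apply, LinearMap.smul_apply, hw2, hkiv, smul_zero, sub_zero,
        smul_eq_mul, mul_zero]
      abel
    rcases trivial_or_root hM hB hv hv' hvv'
      (C := a * b * (b * a)⁻¹) (mul_mem (mul_mem ha hbm) (inv_mem (mul_mem hbm ha))) (fun z hz => by
        have hy : B ((b * a)⁻¹.1 z) v = 0 := by
          have h1 : B (b⁻¹.1 z) v = 0 := by
            rw [show b⁻¹ = k * E1⁻¹ * k⁻¹ by rw [hb]; group, mul_app, mul_app]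
            apply hkp
            have h2 : ∀ u, B u v = 0 → B (E1⁻¹.1 u) v = 0 := fun u hu => by
              have h3 := congrArg (fun q => B q v) (hE1x (E1⁻¹.1 u))
              simp [app_inv, ef, hu, hv, B_symm hM hB w1 v, hw1] at h3
              exact h3.symm
            exact h2 _ (hkip hz)
          rw [mul_inv_rev, mul_app]
          have h3 := congrArg (fun q => B q v) (hax (a⁻¹.1 (b⁻¹.1 z)))
          rw [app_inv] at h3
          simp only [ef, map_add, map_sub, map_smul, LinearMap.add_apply, LinearMap.sub_apply, LinearMap.smul_apply,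
            h1, hv, B_symm hM hB w2 v, hw2, smul_eq_mul, mul_zero, add_zero, sub_zero] at h3
          exact h3.symm
        rw [mul_app, mul_app, hcomm _ hy, ← mul_app b a, app_inv]) with h | h
    swap
    · exact absurd h hroot
    have h := h ((b * a).1 v')
    rw [mul_app (a * b), inv_app, mul_app a b, mul_app b a] at h
    have hkpw : B (k.1 (p • w1)) v = 0 := hkp (by simp [B_symm hM hB w1 v, hw1])
    have hbv : b.1 v = v := by
      have := hkiv 1
      rw [one_smul] at this
      rw [hby v hv, this]; simp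
    have hbw2 : b.1 w2 = w2 - e (B (k⁻¹.1 w2) w1) • v := hby _ (by rw [B_symm hM hB]; exact hw2)
    have hsm : ∀ c : K, b.1 (c • v) = c • v := fun c => by rw [hby _ (by simp [hv]), hkiv]; simp
    rw [hax, hax, hbx v', ← hp] at h
    simp only [ef, map_add, map_sub, map_smul, LinearMap.add_apply, LinearMap.sub_apply, LinearMap.smul_apply,
      smul_eq_mul, hBv'v, hv, hw2, hkpw, mul_zero, add_zero, zero_add, sub_zero, one_smul, mul_one] at h
    rw [hbw2, hsm, hbx v', ← hp] at h
    have h' := congrArg (fun q => B q v') h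
    simp only [map_add, map_sub, map_smul, LinearMap.add_apply, LinearMap.sub_apply, LinearMap.smul_apply,
      smul_eq_mul, hvv', mul_one] at h'
    linear_combination h'
  have key2 : ∀ w1 w2 (c d : K), B v w1 = 0 → B v w2 = 0 →
      e (c * B (k⁻¹.1 (d • w2)) w1) = d * B (k.1 ((p * c) • w1)) w2 := by
    intro w1 w2 c d h1 h2
    have := key (c • w1) (d • w2) (by simp [h1]) (by simp [h2])
    simpa [smul_smul, mul_comm] using this
  have hmult : ∀ c y, e (c * y) * e 1 = e c * e y := by
    have hd := finrank_pperp hM hB hv hv' hvv'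
    have := hM.dim
    obtain ⟨y₀, hy₀, hy₀0⟩ := (Submodule.ne_bot_iff (pperp B v v')).1
      (fun h => by rw [h, finrank_bot] at hd; omega)
    obtain ⟨a, ha, haa, -⟩ := exists_aniso hM hB hv hv' hvv' hy₀ hy₀0
    rw [mem_pperp] at ha
    set w1 := (B a a)⁻¹ • a with hw1d
    have hw1 : B v w1 = 0 := by simp [hw1d, B_symm hM hB v a, ha.1]
    have hw2 : B v (k.1 a) = 0 := by rw [B_symm hM hB]; exact hkp ha.1
    have hG : ∀ c, B (k.1 ((p * c) • w1)) (k.1 a) = e c := fun c => by
      have := key2 w1 (k.1 a) c 1 hw1 hw2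
      rw [one_smul, one_mul, inv_app] at this
      rw [← this]
      simp [hw1d, haa]
    intro c y
    have he1 : e 1 ≠ 0 := fun h => one_ne_zero (heinj (h.trans (map_zero e).symm))
    have h1 := key2 w1 (k.1 a) 1 (e y / e 1) hw1 hw2
    rw [hG, one_mul, div_mul_cancel₀ _ he1] at h1
    have h2 := key2 w1 (k.1 a) c (e y / e 1) hw1 hw2
    rw [hG, heinj h1] at h2
    rw [h2]
    field_simp
  refine ⟨hmult, fun c w hw => ?_⟩
  have he1 : e 1 ≠ 0 := fun h => one_ne_zero (heinj (h.trans (map_zero e).symm))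
  have hkw : B v (k.1 w) = 0 := by
    rw [B_symm hM hB]; exact hkp (by rw [B_symm hM hB]; exact hw)
  set d := e c / e 1
  have hline := mem_line hM hB hv hv' hvv' (y := k⁻¹.1 (d • k.1 w) - c • w) (fun u hu => by
    apply heinj
    rw [map_zero, map_sub, LinearMap.sub_apply, map_sub]
    have h1 := key2 u (k.1 w) 1 d hu hkw
    have h2 := key2 u (k.1 w) 1 1 hu hkw
    rw [one_smul, one_mul, inv_app, one_mul] at h2
    rw [one_mul, ← h2] at h1
    rw [h1, map_smul, LinearMap.smul_apply, smul_eq_mul, sub_eq_zero]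
    have h3 := hmult c (B w u)
    refine mul_right_cancel₀ he1 ?_
    rw [h3]
    simp only [d]
    field_simp)
  set q := B (k⁻¹.1 (d • k.1 w) - c • w) v' with hq
  have h := congrArg k.1 hline
  rw [map_sub, app_inv, he] at h
  exact ⟨-e q, by rw [neg_smul, ← h]; abel⟩

end

/-- A hyperbolic pair in the perpendicular space. -/
theorem exists_pair_pperp {v v' : V} (hv : B v v = 0) (hv' : B v' v' = 0) (hvv' : B v v' = 1)
    (hdim : 5 ≤ finrank K V) :
    ∃ e f, (B e v = 0 ∧ B e v' = 0) ∧ (B f v = 0 ∧ B f v' = 0) ∧ B e e = 0 ∧ B f f = 0 ∧ B e f = 1 := by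
  classical
  have h2 := two_ne hM hB
  haveI : FiniteDimensional F K := Module.Finite.of_finite
  have hd := finrank_pperp hM hB hv hv' hvv'
  obtain ⟨ec, hec, hene⟩ : ∃ y : pperp B v v', B (y : V) y = 0 ∧ y ≠ 0 := by
    let bK := Module.finBasis F K
    haveI : FiniteDimensional F (pperp B v v') := FiniteDimensional.trans F K _
    obtain ⟨y, hy0, hy⟩ := exists_zero
      (fun i : Fin (finrank F K) => LinearMap.mk₂ F (fun x y : pperp B v v' => τ (bK i * B (x : V) y))
        (fun x x' y => by simp [mul_add]) (fun s x y => by simp [LinearMap.map_smul_of_tower, mul_smul_comm])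
        (fun x y y' => by simp [mul_add]) (fun s x y => by simp [LinearMap.map_smul_of_tower, mul_smul_comm]))
      (fun _ => 0) (by
        rw [Fintype.card_fin, ← Module.finrank_mul_finrank F K (pperp B v v')]
        nlinarith [hd, hdim, hM.prime.two_le])
    refine ⟨y, tau_ext hB.one fun P => ?_, hy0⟩
    rw [mul_zero, map_zero, ← bK.sum_repr P, Finset.sum_mul, map_sum]
    refine Finset.sum_eq_zero fun i _ => ?_
    rw [smul_mul_assoc, map_smul, show τ (bK i * B (y : V) y) = 0 by simpa using hy i, smul_zero]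
  obtain ⟨eV, hevp⟩ := ec
  have he : B eV eV = 0 := hec
  have he0 : eV ≠ 0 := fun h => hene (Subtype.ext h)
  obtain ⟨f0, hf0, hef0⟩ := exists_partner hM hB he he0
  set f1 := f0 - B f0 v' • v - B f0 v • v' with hf1
  have hf1p := decomp hM hB hv hv' hvv' f0
  rw [mem_pperp] at hevp hf1p
  rw [← hf1] at hf1p
  have hef1 : B eV f1 = 1 := by simp [hf1, hevp, hef0]
  have hev : B v eV = 0 := by rw [B_symm hM hB]; exact hevp.1
  have hev' : B v' eV = 0 := by rw [B_symm hM hB]; exact hevp.2
  have hf1e : B f1 eV = 1 := by rw [B_symm hM hB, hef1]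
  set f2 := f1 - (2⁻¹ * B f1 f1) • eV with hf2
  have hf2f2 : B f2 f2 = 0 := by
    simp [hf2, hef1, hf1e, he]
    field_simp
    ring
  have hf2e : B f2 eV = 1 := by simp [hf2, hf1e, he]
  have hf2v : B f2 v = 0 ∧ B f2 v' = 0 := by simp [hf2, hf1p, hevp]
  exact ⟨eV, f2, hevp, hf2v, he, hf2f2, by rw [B_symm hM hB, hf2e]⟩

variable (hnoMove : ∀ v : V, v ≠ 0 → B v v = 0 → ¬ Moves M v (F ∙ (1 : K)))
include hnoMove

theorem line_of_noMove {g : orth Q} (hg : g ∈ M) {x : V} (hx : B x x = 0) (hx0 : x ≠ 0)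
    (hgx : B (g.1 x) (g.1 x) = 0) (c : K) : ∃ d : K, g.1 (c • x) = d • g.1 x := by
  by_contra hcon
  push Not at hcon
  obtain ⟨h, hh, he, hl⟩ := exists_transitive hM hB hgx hx ((map_ne_zero_iff _ g.1.injective).2 hx0) hx0
  refine hnoMove x hx0 hx ⟨h * g, mul_mem hh hg, fun d hd => ?_, c, fun e hce => hcon e ?_⟩
  · obtain ⟨s, rfl⟩ := Submodule.mem_span_singleton.1 hd
    rw [smul_assoc, one_smul, mul_app, LinearEquiv.map_smul, LinearEquiv.map_smul, he]
  · apply h.1.injective
    rw [mul_app] at hce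
    rw [hce, hl, he]

theorem no_root {v v' : V} (hv : B v v = 0) (hv' : B v' v' = 0) (hvv' : B v v' = 1) : ¬ Root M τ B v := by
  classical
  rintro ⟨ψ, hanti, hψ, C, hC, hCx⟩
  have h2 := two_ne hM hB
  have hBv'v : B v' v = 1 := by rw [B_symm hM hB, hvv']
  haveI : FiniteDimensional F K := Module.Finite.of_finite
  have hnotfix : ∀ {c : K}, ψ c = 0 → c ≠ 0 → False := by
    intro c hc hc0
    refine hnoMove (c • v') (smul_ne_zero hc0 fun h => by simp [h] at hvv') (by simp [hv'])
      ⟨C, hC, fun d hd => ?_, 1 / c, fun e he => ?_⟩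
    · obtain ⟨s, rfl⟩ := Submodule.mem_span_singleton.1 hd
      rw [smul_assoc, one_smul, LinearEquiv.map_smul, hCx]
      simp [hBv'v, hc]
    · rw [hCx] at he
      simp only [map_smul, LinearMap.smul_apply, hBv'v, smul_eq_mul, smul_smul, one_div, inv_mul_cancel₀ hc0,
        one_smul, mul_one] at he
      have h' := congrArg (fun q => B q v') he
      simp [hvv', hv', hψ] at h'
  rcases hM.prime.eq_two_or_odd' with hr | hr
  swap
  · -- an alternating form of odd dimension is degenerate
    let b := Module.finBasis F K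
    let A : Matrix (Fin (finrank F K)) (Fin (finrank F K)) F := Matrix.of fun i j => τ (ψ (b i) * b j)
    have hA : A.det = 0 := by
      have h1 : A.transpose = -A := by
        ext i j
        simp only [A, Matrix.transpose_apply, Matrix.of_apply, Matrix.neg_apply]
        have := hanti (b j) (b i)
        rw [mul_comm (b j)] at this
        linear_combination this
      have h3 := congrArg Matrix.det h1
      rw [Matrix.det_transpose, Matrix.det_neg, Fintype.card_fin, hr.neg_one_pow] at h3
      exact (mul_eq_zero.1 (show (2 : F) * A.det = 0 by linear_combination h3)).resolve_left hM.two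
    obtain ⟨a, ha0, ha⟩ := Matrix.exists_vecMul_eq_zero_iff.2 hA
    refine hnotfix (c := ∑ i, a i • b i) (tau_ext hB.one fun P => ?_) (fun h =>
      ha0 (funext fun i => Fintype.linearIndependent_iff.1 b.linearIndependent a h i))
    rw [mul_zero, map_zero, ← b.sum_repr P, Finset.sum_mul, map_sum]
    refine Finset.sum_eq_zero fun j _ => ?_
    have := congrFun ha j
    simp only [A, Matrix.vecMul, dotProduct, Matrix.of_apply, Pi.zero_apply] at this
    rw [map_sum, Finset.mul_sum, map_sum]
    simp only [map_smul, smul_mul_assoc, mul_smul_comm, smul_eq_mul, mul_comm (b j)]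
    rw [Finset.sum_congr rfl fun i _ => mul_left_comm (a i) _ _, ← Finset.mul_sum, this, mul_zero]
  -- degree two: three roots give a monomial map
  set κ := ψ 1 with hκ
  have hτκ : τ κ = 0 := by
    have := hanti 1 1
    simp only [mul_one, one_mul] at this
    exact (mul_eq_zero.1 (show (2 : F) * τ κ = 0 by linear_combination this)).resolve_left hM.two
  have hbasis : ∀ y : K, ∃ a b : F, y = algebraMap F K a + algebraMap F K b * κ := by
    have hind : LinearIndependent F ![(1 : K), κ] := by
      rw [LinearIndependent.pair_iff]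
      intro s u h
      have h1 := congrArg τ h
      simp [hB.one, hτκ] at h1
      subst h1
      simp [hψ] at h
      exact ⟨rfl, h⟩
    intro y
    have hy : y ∈ Submodule.span F (Set.range ![(1 : K), κ]) := by
      rw [hind.span_eq_top_of_card_eq_finrank' (by simpa using hr.symm)]
      trivial
    rw [Matrix.range_cons, Matrix.range_cons, Matrix.range_empty, Set.union_empty,
      Set.singleton_union] at hy
    obtain ⟨a, c, rfl⟩ := Submodule.mem_span_pair.1 hy
    exact ⟨a, c, by simp [Algebra.smul_def]⟩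
  obtain ⟨ν, t, hνt⟩ := hbasis (κ * κ)
  have hν : ν ≠ 0 := by
    intro h0
    subst h0
    rw [map_zero, zero_add] at hνt
    have h1 := mul_right_cancel₀ hψ hνt
    have h3 : τ (algebraMap F K t) = t := by
      rw [Algebra.algebraMap_eq_smul_one, map_smul, hB.one, smul_eq_mul, mul_one]
    rw [h1, h3] at hτκ
    exact hψ (by rw [h1, hτκ, map_zero])
  have hψκ : ψ κ = algebraMap F K (-ν) := by
    obtain ⟨a, c, hac⟩ := hbasis (ψ κ)
    have e1 := hanti κ 1
    have e2 := hanti κ κ
    rw [← hκ, mul_one] at e1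
    rw [hac] at e1 e2 ⊢
    have m1 : ∀ (s : F) (y : K), τ (algebraMap F K s * y) = s * τ y := fun s y => by
      rw [← Algebra.smul_def, map_smul, smul_eq_mul]
    have m2 : τ (κ * κ) = ν := by
      rw [hνt, map_add, m1, hτκ, Algebra.algebraMap_eq_smul_one, map_smul, hB.one, smul_eq_mul]; ring
    have m3 : τ (algebraMap F K a) = a := by
      rw [Algebra.algebraMap_eq_smul_one, map_smul, hB.one, smul_eq_mul, mul_one]
    rw [map_add, m1, hτκ, m2, m3] at e1
    rw [mul_comm κ (_ + _), add_mul, map_add, m1, hτκ, mul_assoc, m1, m2] at e2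
    have hc : c = 0 := by
      have : (2 : F) * (c * ν) = 0 := by linear_combination e2
      simpa [hM.two, hν] using this
    subst hc
    rw [show -ν = a by linear_combination -e1, map_zero, zero_mul, add_zero]
  have hm : ∀ (r : F) (y : K), ψ (algebraMap F K r * y) = algebraMap F K r * ψ y := fun r y => by
    rw [← Algebra.smul_def, map_smul, Algebra.smul_def]
  have hψ1 : ∀ r : F, ψ (algebraMap F K r) = algebraMap F K r * κ := fun r => by
    have := hm r 1
    rwa [mul_one, ← hκ] at this
  have hψψ : ∀ c, ψ (ψ c) = -algebraMap F K ν * c := fun c => by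
    obtain ⟨a, b, rfl⟩ := hbasis c
    simp only [map_add, hψ1, hm, hψκ, map_neg]
    ring
  obtain ⟨a, b, hab⟩ : ∃ a b : F, a * a + t * a * b - ν * (b * b) = ν⁻¹ := by
    have hD : ν + t * t / 4 ≠ 0 := by
      intro h0
      have h4 : (4 : F) ≠ 0 := by
        rw [show (4 : F) = 2 * 2 by norm_num]; exact mul_ne_zero hM.two hM.two
      have hz : (κ - algebraMap F K (t / 2)) * (κ - algebraMap F K (t / 2)) = 0 := by
        rw [sub_mul, mul_sub, mul_sub, hνt, show ν = -(t / 2 * (t / 2)) by
          have h5 : (2 : F)⁻¹ * 2⁻¹ = 4⁻¹ := by rw [← mul_inv]; norm_num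
          linear_combination h0 + t ^ 2 * h5]
        have : algebraMap F K t = algebraMap F K (t / 2) + algebraMap F K (t / 2) := by
          rw [← map_add]; congr 1; field_simp [hM.two]; ring
        rw [map_neg, map_mul, this]
        ring
      rw [mul_self_eq_zero, sub_eq_zero] at hz
      rw [hz, Algebra.algebraMap_eq_smul_one, map_smul, hB.one, smul_eq_mul, mul_one] at hτκ
      exact hψ (by rw [hz, hτκ, map_zero])
    obtain ⟨a', b', hab⟩ := FiniteField.exists_root_sum_quadratic
      (f := Polynomial.X ^ 2 + Polynomial.C (-ν⁻¹ : F))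
      (g := Polynomial.C (-(ν + t * t / 4)) * Polynomial.X ^ 2)
      (by rw [Polynomial.degree_X_pow_add_C (by norm_num)]; rfl)
      (Polynomial.degree_C_mul_X_pow 2 (neg_ne_zero.2 hD))
      (FiniteField.odd_card_of_char_ne_two (fun h => hM.two (by
        have := ringChar.Nat.cast_ringChar (R := F)
        rw [h] at this
        simpa using this)))
    simp only [Polynomial.eval_add, Polynomial.eval_mul, Polynomial.eval_C, Polynomial.eval_pow,
      Polynomial.eval_X] at hab
    refine ⟨a' - t / 2 * b', b', ?_⟩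
    have h4 : (4 : F) ≠ 0 := by
      rw [show (4 : F) = 2 * 2 by norm_num]; exact mul_ne_zero hM.two hM.two
    have := hM.two
    field_simp at hab ⊢
    linear_combination hab
  set s := algebraMap F K ν⁻¹ with hs
  have hsν : s * algebraMap F K ν = 1 := by rw [hs, ← map_mul, inv_mul_cancel₀ hν, map_one]
  set d := algebraMap F K a + algebraMap F K b * κ with hd
  have hdd : ∀ c, d * ψ (d * c) = s * ψ c := by
    have hab' := congrArg (algebraMap F K) hab
    simp only [map_add, map_sub, map_mul] at hab'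
    intro c
    obtain ⟨x, y, rfl⟩ := hbasis c
    have e : d * (algebraMap F K x + algebraMap F K y * κ) = algebraMap F K (a * x + b * y * ν) +
        algebraMap F K (a * y + b * x + b * y * t) * κ := by
      simp only [hd, map_add, map_mul]
      linear_combination (algebraMap F K b * algebraMap F K y) * hνt
    rw [e, map_add ψ, map_add ψ, hψ1, hm, hψκ, hψ1, hm, hψκ]
    simp only [hd, hs, map_add, map_mul, map_neg]
    linear_combination (algebraMap F K x * κ - algebraMap F K y * algebraMap F K ν) * hab' +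
      (algebraMap F K b * (algebraMap F K a * algebraMap F K x + algebraMap F K b * algebraMap F K y * algebraMap F K ν)) * hνt
  have hd0 : d ≠ 0 := fun h0 => by
    have := hdd 1
    rw [h0, zero_mul, ← hκ] at this
    exact mul_ne_zero (by rw [hs]; simp [hν]) hψ this.symm
  have hv0 := v_ne hM hB hv hv' hvv'
  have hv'0 : v' ≠ 0 := fun h => by simp [h] at hvv'
  obtain ⟨h, hh, hhv, hl⟩ := exists_transitive hM hB hv (b := d • v') (by simp [hv']) hv0 (smul_ne_zero hd0 hv'0)
  have hC1 : ∀ x, (h * C * h⁻¹).1 x = x + (s * ψ (B x v')) • v' := fun x => by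
    rw [mul_app, mul_app, hCx, map_add, app_inv, hl, hhv, smul_smul]
    congr 2
    rw [← hdd, mul_comm (ψ _) d]
    congr 2
    rw [← B_map hM hB hl, app_inv, hhv, map_smul, smul_eq_mul]
  set k := C * (h * C * h⁻¹) * C with hk
  have hkM : k ∈ M := mul_mem (mul_mem hC (mul_mem (mul_mem hh hC) (inv_mem hh))) hC
  have eC : ∀ r : K, C.1 (r • v') = r • v' + ψ r • v := fun r => by rw [hCx]; simp [hBv'v]
  have eC0 : ∀ r : K, C.1 (r • v) = r • v := fun r => by rw [hCx]; simp [hv]
  have eD : ∀ r : K, (h * C * h⁻¹).1 (r • v) = r • v + (s * ψ r) • v' := fun r => by rw [hC1]; simp [hvv']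
  have eD0 : ∀ r : K, (h * C * h⁻¹).1 (r • v') = r • v' := fun r => by rw [hC1]; simp [hv']
  have hsψ : ∀ r : K, s * ψ (ψ r) = -r := fun r => by
    rw [hψψ]; linear_combination (-r) * hsν
  have hsψ' : ∀ r : K, ψ (s * ψ r) = -r := fun r => by rw [hs, hm, ← hs, hsψ]
  have hk1 : ∀ c : K, k.1 (c • v) = (s * ψ c) • v' := fun c => by
    rw [hk, mul_app, mul_app, eC0, eD, map_add, eC0, eC, hsψ']
    match_scalars <;> ring
  have hk2 : ∀ c : K, k.1 (c • v') = ψ c • v := fun c => by
    rw [hk, mul_app, mul_app, eC, map_add, eD0, eD, hsψ, map_add, map_add, eC, eC0, eC, map_neg]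
    match_scalars <;> ring
  have hk3 : ∀ p ∈ pperp B v v', k.1 p = p := fun p hp => by
    rw [mem_pperp] at hp
    have e : C.1 p = p := by rw [hCx]; simp [hp]
    rw [hk, mul_app, mul_app, e, hC1, hp.2]
    simp [e]
  set β : K := (κ - algebraMap F K (t / 2)) * κ⁻¹ with hβ
  have hβκ : β * κ = κ - algebraMap F K (t / 2) := by rw [hβ, inv_mul_cancel_right₀ hψ]
  have hβ0 : β ≠ 0 := by
    refine mul_ne_zero (fun h0 => ?_) (inv_ne_zero hψ)
    rw [sub_eq_zero] at h0
    rw [h0, Algebra.algebraMap_eq_smul_one, map_smul, hB.one, smul_eq_mul, mul_one] at hτκ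
    exact hψ (by rw [h0, hτκ, map_zero])
  obtain ⟨w, hwp, -, hww⟩ := exists_value hM hB hv hv' hvv' β
  have hww := hww hβ0
  obtain ⟨hwv, hwv'⟩ := mem_pperp.1 hwp
  have hvw : B v w = 0 := by rw [B_symm hM hB]; exact hwv
  have hv'w : B v' w = 0 := by rw [B_symm hM hB]; exact hwv'
  obtain ⟨E1, hE1, -, hE1x⟩ := E_mem hM hB hv hvw
  obtain ⟨E2, hE2, -, hE2x⟩ := E_mem hM hB hv' (w := (s * κ) • w) (by simp [hv'w])
  have hG1 : ∀ c : K, (k * E1 * k⁻¹).1 (c • v) =
      c • v + (-(s * ψ c)) • w - (s * ψ (2⁻¹ * β * -(s * ψ c))) • v' := fun c => by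
    have e : k.1 ((-(s * ψ c)) • v') = c • v := by
      rw [hk2, map_neg, hs, hm, hψψ, ← mul_assoc, mul_neg, ← hs, hsν]
      simp
    rw [mul_app, mul_app, ← e, inv_app, hE1x]
    simp only [ef, map_smul, LinearMap.smul_apply, smul_eq_mul, hBv'v, hv'w, hww, mul_one, mul_zero, zero_add]
    rw [map_sub, map_add, hk3 _ (Submodule.smul_mem _ _ hwp), hk1]
  have hκκ : algebraMap F K ν + algebraMap F K t * κ = κ * κ := hνt.symm
  set G := E2 * (k * E1 * k⁻¹) with hG
  refine hnoMove v hv0 hv ⟨G, mul_mem hE2 (mul_mem (mul_mem hkM hE1) (inv_mem hkM)), fun e he => ?_, κ,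
    fun e he => ?_⟩
  · obtain ⟨r, rfl⟩ := Submodule.mem_span_singleton.1 he
    rw [smul_assoc, one_smul, LinearEquiv.map_smul]
    congr 1
    have hh2 : (2⁻¹ : K) = algebraMap F K 2⁻¹ := by simp [map_ofNat]
    have e1 := hG1 1
    rw [one_smul] at e1
    rw [hG, mul_app, e1, ← hκ, hE2x]
    simp only [ef, map_add, map_sub, map_smul, LinearMap.add_apply, LinearMap.sub_apply, LinearMap.smul_apply,
      smul_eq_mul, hvv', hwv', hv', hvw, hv'w, hww, mul_zero, mul_one, zero_add, add_zero, sub_zero]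
    have e3 : ψ (2⁻¹ * β * -(s * κ)) = algebraMap F K 2⁻¹ * (-(s * ψ (β * κ))) := by
      rw [show 2⁻¹ * β * -(s * κ) = algebraMap F K 2⁻¹ * (algebraMap F K (-ν⁻¹) * (β * κ)) by
        rw [hh2, map_neg, hs]; ring, hm, hm, map_neg, hs]
      ring
    have e4 : ψ (β * κ) = -algebraMap F K ν - algebraMap F K (t / 2) * κ := by
      rw [hβκ, map_sub, hψκ, hψ1, map_neg]
    rw [e3, e4, ← hh2]
    have htt : algebraMap F K (t / 2) = algebraMap F K t * 2⁻¹ := by
      rw [div_eq_mul_inv, map_mul, ← hh2]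
    rw [htt] at hβκ ⊢
    clear_value β
    match_scalars
    · ring
    · ring
    · have h22 : (2 : K) * 2⁻¹ = 1 := mul_inv_cancel₀ h2
      linear_combination (2⁻¹ * s * s * κ) * hβκ + (2⁻¹ * s * s) * hνt +
        (-(κ * s * s * κ * β) - 2⁻¹ * s * s * algebraMap F K t * κ) * h22
  · rw [hG, mul_app, hG1, hE2x] at he
    have h1 := congrArg (fun q => B q w) he
    simp [ef, hvw, hv'w, hwv', hv', hvv', hww, hψκ] at h1
    have h5 : (1 + s * (κ * κ)) * β = 0 := by
      linear_combination h1 - β * hsν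
    have h6 : κ * κ = -algebraMap F K ν := by
      have h7 := (mul_eq_zero.1 h5).resolve_right hβ0
      linear_combination algebraMap F K ν * h7 - κ * κ * hsν
    have h8 := congrArg τ h6
    rw [hνt, map_add, ← Algebra.smul_def, map_smul, hτκ, smul_zero, add_zero, ← map_neg,
      Algebra.algebraMap_eq_smul_one, map_smul, hB.one, Algebra.algebraMap_eq_smul_one, map_smul, hB.one] at h8
    simp only [smul_eq_mul, mul_one] at h8
    exact hν ((mul_eq_zero.1 (show (2 : F) * ν = 0 by linear_combination h8)).resolve_left hM.two)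

omit hnoMove in
theorem keep_perp {k : orth Q} {v : V} {e : K →ₗ[F] K} (he : ∀ c : K, k.1 (c • v) = e c • v)
    (hsurj : Function.Surjective e) {y : V} (hy : B y v = 0) : B (k.1 y) v = 0 := by
  refine tau_ext hB.one fun a => ?_
  obtain ⟨a', rfl⟩ := hsurj a
  rw [← hB.eq, hM.adj, ← he, polar_orth k, ← hM.adj, hB.eq, hy, mul_zero, mul_zero]

/-- Semilinearity when there is a second hyperbolic pair. -/
theorem semilinear_five {k : orth Q} (hk : k ∈ M) {v v' : V} (hv : B v v = 0) (hv' : B v' v' = 0)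
    (hvv' : B v v' = 1) (hdim : 5 ≤ finrank K V) (σ : K →ₗ[F] K) (hσ : Function.Surjective σ) (h1 : σ 1 = 1)
    (he : ∀ c : K, k.1 (c • v) = σ c • v)
    (hq : ∀ (c : K) (w : V), B v w = 0 → ∃ d : K, k.1 (c • w) = σ c • k.1 w + d • v)
    (hmult : ∀ c y, σ (c * y) = σ c * σ y) : ∀ (c : K) (y : V), k.1 (c • y) = σ c • k.1 y := by
  classical
  obtain ⟨e, f, hep, hfp, hee, hff, hef⟩ := exists_pair_pperp hM hB hv hv' hvv' hdim
  have hkv : k.1 v = v := by simpa [h1] using he 1
  -- every singular vector of the perpendicular space gives a quotient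
  have key : ∀ {e f : V}, B e v = 0 → B e e = 0 → B f f = 0 → B e f = 1 → B f v = 0 →
      ∀ c, k.1 (c • e) = σ c • k.1 e ∧ ∀ y, B e y = 0 → ∃ d : K, k.1 (c • y) = σ c • k.1 y + d • k.1 e := by
    intro e f hev hee hff hef hfv
    have hve : B v e = 0 := by rw [B_symm hM hB]; exact hev
    have hkev : B (k.1 e) v = 0 := keep_perp hM hB he hσ hev
    have he0 : e ≠ 0 := fun h => by simp [h] at hef
    have hkee : B (k.1 e) (k.1 e) = 0 := by
      refine tau_ext hB.one fun a => ?_
      obtain ⟨a', rfl⟩ := hσ a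
      obtain ⟨d, hd⟩ := hq a' e hve
      rw [← hB.eq, eq_sub_of_add_eq hd.symm, polar_sub_left, polar_orth k, hB.eq, hee, hB.eq,
        B_symm hM hB v, hkev]
      simp
    have hkne : ∀ q : K, k.1 e ≠ q • v := by
      intro q h
      obtain ⟨q', rfl⟩ := hσ q
      rw [← he] at h
      have := congrArg (fun z => B z f) (k.1.injective h)
      simp [hef, B_symm hM hB v f, hfv] at this
    have hline : ∀ c, k.1 (c • e) = σ c • k.1 e := by
      intro c
      obtain ⟨d, hd⟩ := hq c e hve
      obtain ⟨d', hd'⟩ := line_of_noMove hM hB hnoMove hk hee he0 hkee c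
      rw [hd'] at hd
      by_cases hdd : d' = σ c
      · rw [hd', hdd]
      · refine absurd ?_ (hkne ((d' - σ c)⁻¹ * d))
        rw [mul_smul, show d • v = (d' - σ c) • k.1 e by rw [sub_smul, hd]; abel,
          inv_smul_smul₀ (sub_ne_zero.2 hdd)]
    intro c
    refine ⟨hline c, fun y hy => ?_⟩
    obtain ⟨h, hh, hhe, hl⟩ := exists_transitive hM hB hkee hee ((map_ne_zero_iff _ k.1.injective).2 he0) he0
    have he2 : ∀ a : K, (h * k).1 (a • e) = σ a • e := fun a => by rw [mul_app, hline, hl, hhe]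
    rcases test hM hB hee hff hef (mul_mem hh hk) σ he2 with hR | ⟨-, hR⟩
    · exact absurd hR (no_root hM hB hnoMove hee hff hef)
    · obtain ⟨d, hd⟩ := hR c y hy
      refine ⟨d, h.1.injective ?_⟩
      rw [mul_app, mul_app, h1, div_one] at hd
      rw [hd, map_add, hl, hl, hhe]
  obtain ⟨keK, kfK⟩ : (∀ c, k.1 (c • e) = σ c • k.1 e) ∧ (∀ c, k.1 (c • f) = σ c • k.1 f) :=
    ⟨fun c => (key hep.1 hee hff hef hfp.1 c).1,
      fun c => (key hfp.1 hff hee (by rw [B_symm hM hB, hef]) hep.1 c).1⟩
  have hkf : B f e = 1 := by rw [B_symm hM hB, hef]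
  -- the semilinear vectors form a K-subspace
  let S : Submodule K V :=
    { carrier := {y | ∀ c : K, k.1 (c • y) = σ c • k.1 y}
      add_mem' := fun {a b} ha hb c => by
        rw [smul_add, map_add, ha, hb, map_add, smul_add]
      zero_mem' := fun c => by simp
      smul_mem' := fun a y hy c => by
        show k.1 (c • a • y) = σ c • k.1 (a • y)
        rw [smul_smul, hy, hy, hmult, mul_smul] }
  have hvS : v ∈ S := fun c => by rw [he, hkv]
  have heS : e ∈ S := keK
  have hfS : f ∈ S := kfK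
  have hpair : ∀ a b : K, a • k.1 e = b • k.1 f → a = 0 := by
    intro a b h
    obtain ⟨a', rfl⟩ := hσ a
    obtain ⟨b', rfl⟩ := hσ b
    rw [← keK, ← kfK] at h
    have := congrArg (fun z => B z f) (k.1.injective h)
    simp [hef, hff] at this
    rw [this, map_zero]
  have hrest : ∀ y, B e y = 0 → B f y = 0 → y ∈ S := by
    intro y hy1 hy2 c
    obtain ⟨d, hd⟩ := (key hep.1 hee hff hef hfp.1 c).2 y hy1
    obtain ⟨d', hd'⟩ := (key hfp.1 hff hee hkf hep.1 c).2 y hy2
    rw [hd] at hd'
    rw [hd, hpair d d' (add_left_cancel hd'), zero_smul, add_zero]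
  intro c y
  have : y ∈ S := by
    rw [show y = (B y f • e + B y e • f) + (y - B y f • e - B y e • f) by abel]
    refine S.add_mem (S.add_mem (S.smul_mem _ heS) (S.smul_mem _ hfS)) (hrest _ ?_ ?_)
    · simp [hee, hef, B_symm hM hB e y]
    · simp [hff, hkf, B_symm hM hB f y]
  exact this c

/-- Semilinearity without a second hyperbolic pair. -/
theorem semilinear_three {k : orth Q} (hk : k ∈ M) {v v' : V} (hv : B v v = 0) (hv' : B v' v' = 0)
    (hvv' : B v v' = 1) (σ : K →ₗ[F] K) (hσ : Function.Bijective σ) (h1 : σ 1 = 1)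
    (he : ∀ c : K, k.1 (c • v) = σ c • v)
    (hq : ∀ (c : K) (w : V), B v w = 0 → ∃ d : K, k.1 (c • w) = σ c • k.1 w + d • v)
    (hmult : ∀ c y, σ (c * y) = σ c * σ y)
    (hnorm : k.1 v' = B (k.1 v') v • v' + B (k.1 v') v' • v) :
    ∀ (c : K) (y : V), k.1 (c • y) = σ c • k.1 y := by
  classical
  have h2 := two_ne hM hB
  have hBv'v : B v' v = 1 := by rw [B_symm hM hB, hvv']
  have hnr := no_root hM hB hnoMove hv hv' hvv'
  set β := B (k.1 v') v with hβ
  have hτσ : ∀ a c : K, τ (σ a * B (k.1 (c • v')) v) = τ (c * a) := fun a c => by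
    rw [← hB.eq, hM.adj, ← he, polar_orth k, hB.eq, map_smul, smul_eq_mul, hBv'v, mul_one]
  have hβτ : ∀ a, τ (σ a * β) = τ a := fun a => by
    have := hτσ a 1
    rwa [one_smul, one_mul] at this
  have hβc : ∀ c, B (k.1 (c • v')) v = σ c * β := fun c => tau_ext hB.one fun a => by
    obtain ⟨a', rfl⟩ := hσ.2 a
    rw [hτσ, ← mul_assoc, ← hmult, hβτ, mul_comm]
  have hβ0 : β ≠ 0 := fun h => by
    have := hβτ 1
    rw [h, mul_zero, map_zero, hB.one] at this
    exact one_ne_zero this.symm
  have hkp : ∀ {y}, B y v = 0 → B (k.1 y) v = 0 := fun hy => keep_perp hM hB he hσ.2 hy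
  have hγ : ∀ z w, B z v = 0 → B w v = 0 → B (k.1 z) (k.1 w) = σ (B z w) * β := fun z w hz hw => by
    refine tau_ext hB.one fun a => ?_
    obtain ⟨a', rfl⟩ := hσ.2 a
    obtain ⟨d, hd⟩ := hq a' z (by rw [B_symm hM hB]; exact hz)
    rw [← hB.eq, eq_sub_of_add_eq hd.symm, polar_sub_left, polar_orth k, hB.eq, hB.eq, B_symm hM hB v,
      hkp hw, mul_zero, map_zero, sub_zero, ← mul_assoc, ← hmult, hβτ]
  -- the perpendicular space is preserved
  have hY : ∀ w ∈ pperp B v v', k.1 w ∈ pperp B v v' := by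
    intro w hw
    rw [mem_pperp] at hw
    have hvw : B v w = 0 := by rw [B_symm hM hB]; exact hw.1
    set ν := B (k.1 w) v' with hν
    set w' := β⁻¹ • (k.1 w - ν • v) with hw'
    have hw'v : B v w' = 0 := by simp [hw', hv, B_symm hM hB v (k.1 w), hkp hw.1]
    have hw'v' : B w' v' = 0 := by simp [hw', hvv', hν]
    clear_value w'
    obtain ⟨a, ha, -, hax⟩ := E_mem hM hB hv hw'v
    obtain ⟨E1, hE1, -, hE1x⟩ := E_mem hM hB hv hvw
    have hfix : ∀ z, B z v = 0 → a.1 (k.1 z) = k.1 (E1.1 z) := fun z hz => by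
      rw [hax, hE1x, ef, ef, hz, hkp hz]
      simp only [zero_smul, add_zero, mul_zero, map_sub, he]
      congr 2
      rw [hw', map_smul, map_sub, map_smul, hkp hz, smul_zero, sub_zero, hγ z w hz hw.1, smul_eq_mul]
      field_simp
    rcases trivial_or_root hM hB hv hv' hvv' (C := a⁻¹ * (k * E1 * k⁻¹))
      (mul_mem (inv_mem ha) (mul_mem (mul_mem hk hE1) (inv_mem hk))) (fun y hy => by
        have hy' : B (k⁻¹.1 y) v = 0 := by
          refine tau_ext hB.one fun b => ?_
          rw [← hB.eq, hM.adj, polar_inv, he, ← hM.adj, hB.eq, hy, mul_zero, mul_zero]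
        rw [mul_app, mul_app, mul_app, ← hfix _ hy', inv_app, app_inv]) with h | h
    swap
    · exact absurd h hnr
    have h' : ∀ z, k.1 (E1.1 z) = a.1 (k.1 z) := fun z => by
      have := congrArg a.1 (h (k.1 z))
      rwa [mul_app, app_inv, mul_app, mul_app, inv_app] at this
    have h3 := congrArg (fun q => B q v') (h' v')
    have hkw'' : B (k.1 v') w' = 0 := by
      rw [hnorm, map_add, map_smul, map_smul, LinearMap.add_apply, LinearMap.smul_apply, LinearMap.smul_apply,
        B_symm hM hB v' w', hw'v', hw'v, smul_zero, smul_zero, add_zero]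
    simp only [hax, hE1x, ef, ← hβ, hBv'v, map_add, map_sub, one_smul, mul_one, LinearMap.add_apply,
      LinearMap.sub_apply, map_smul, LinearMap.smul_apply, he, smul_eq_mul, hvv', hw'v', hkw'', mul_zero, add_zero,
      zero_add, B_symm hM hB v' w, hw.2] at h3
    have hq' : B w' w' = β⁻¹ * σ (B w w) := by
      rw [hw']
      simp only [LinearMap.map_smul B, LinearMap.map_smul, map_sub, LinearMap.sub_apply, LinearMap.smul_apply, hv, hkp hw.1,
        B_symm hM hB v (k.1 w), hγ w w hw.1 hw.1, smul_eq_mul, mul_zero, sub_zero]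
      field_simp
    have hhalf : σ (2⁻¹ * B w w) = 2⁻¹ * σ (B w w) := by
      have : σ (2⁻¹ * B w w) + σ (2⁻¹ * B w w) = σ (B w w) := by
        rw [← map_add]; congr 1; field_simp; ring
      rw [← this]
      field_simp
      ring
    rw [mem_pperp]
    refine ⟨hkp hw.1, ?_⟩
    rw [← hν]
    rw [hq', hhalf] at h3
    field_simp at h3
    exact (mul_eq_zero.1 (show (2 : K) * ν = 0 by linear_combination h3)).resolve_left h2
  haveI : Finite (pperp B v v') := by
    haveI : Finite V := Module.finite_of_finite K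
    exact Subtype.finite
  have hYs : ∀ y ∈ pperp B v v', ∃ z ∈ pperp B v v', k.1 z = y := by
    intro y hy
    let G : pperp B v v' → pperp B v v' := fun z => ⟨k.1 z, hY _ z.2⟩
    have hG : Function.Injective G := fun a b h => Subtype.ext (k.1.injective (congrArg Subtype.val h))
    obtain ⟨z, hz⟩ := (Finite.injective_iff_surjective.1 hG) ⟨y, hy⟩
    exact ⟨z, z.2, congrArg Subtype.val hz⟩
  have hYK : ∀ (c : K), ∀ w ∈ pperp B v v', k.1 (c • w) = σ c • k.1 w := by
    intro c w hw
    obtain ⟨d, hd⟩ := hq c w (by rw [B_symm hM hB]; exact (mem_pperp.1 hw).1)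
    have e1 := (mem_pperp.1 (hY _ (Submodule.smul_mem _ c hw))).2
    rw [hd, map_add, LinearMap.add_apply, map_smul, LinearMap.smul_apply, (mem_pperp.1 (hY _ hw)).2, map_smul,
      LinearMap.smul_apply, hvv', smul_zero, zero_add, smul_eq_mul, mul_one] at e1
    rw [hd, e1, zero_smul, add_zero]
  let α : K →ₗ[F] K :=
    { toFun := fun c => B (k.1 (c • v')) v'
      map_add' := fun a b => by simp [add_smul]
      map_smul' := fun s a => by
        show B (k.1 ((s • a) • v')) v' = s • B (k.1 (a • v')) v'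
        rw [smul_assoc, LinearEquiv.map_smul, LinearMap.map_smul_of_tower, LinearMap.smul_apply] }
  have hkc : ∀ c, k.1 (c • v') = (σ c * β) • v' + α c • v := by
    intro c
    have hd := decomp hM hB hv hv' hvv' (k.1 (c • v'))
    rw [hβc, show B (k.1 (c • v')) v' = α c from rfl] at hd
    have h0 := pperp_nondeg hM hB hv hv' hvv' hd fun z hz => by
      obtain ⟨z₀, hz₀, rfl⟩ := hYs z hz
      rw [mem_pperp] at hz
      rw [map_sub, map_sub, LinearMap.sub_apply, LinearMap.sub_apply, LinearMap.map_smul B, LinearMap.map_smul B, LinearMap.smul_apply,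
        LinearMap.smul_apply, B_symm hM hB v, hz.1, B_symm hM hB v', hz.2, smul_zero, smul_zero, sub_zero, sub_zero]
      refine tau_ext hB.one fun b => ?_
      obtain ⟨b', rfl⟩ := hσ.2 b
      rw [← hB.eq, hM.adj, ← hYK b' z₀ hz₀, polar_orth k, ← hM.adj, hB.eq, map_smul, LinearMap.smul_apply,
        B_symm hM hB v', (mem_pperp.1 hz₀).2, smul_zero, mul_zero, mul_zero]
    rw [← sub_eq_zero, ← h0]
    abel
  have hv'0 : v' ≠ 0 := fun h => by simp [h] at hvv'
  have hα0 : ∀ c, α c = 0 := by
    set a := α 1 with ha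
    by_cases ha0 : a = 0
    · intro c
      have e1 : k.1 v' = β • v' := by
        have := hkc 1
        rwa [one_smul, ← ha, ha0, zero_smul, add_zero, h1, one_mul] at this
      obtain ⟨d, hd⟩ := line_of_noMove hM hB hnoMove hk hv' hv'0 (by rw [e1]; simp [hv']) c
      rw [hkc, e1] at hd
      have := congrArg (fun q => B q v') hd
      simpa [hv', hvv'] using this
    exfalso
    obtain ⟨e, he'⟩ := hσ.2 (-(2 / a))
    have he0 : e ≠ 0 := fun h => by
      rw [h, map_zero] at he'
      exact div_ne_zero h2 ha0 (neg_eq_zero.1 he'.symm)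
    obtain ⟨w, hwp, -, hww⟩ := exists_value hM hB hv hv' hvv' (2 * e)
    have hww := hww (mul_ne_zero h2 he0)
    obtain ⟨hwv, hwv'⟩ := mem_pperp.1 hwp
    obtain ⟨hkwv, hkwv'⟩ := mem_pperp.1 (hY w hwp)
    have hv'w : B v' w = 0 := by rw [B_symm hM hB]; exact hwv'
    have hvw : B v w = 0 := by rw [B_symm hM hB]; exact hwv
    obtain ⟨E, hE, -, hEx⟩ := E_mem hM hB hv' hv'w
    have hσ2 : σ 2 = 2 := by rw [show (2 : K) = 1 + 1 by norm_num, map_add, h1]
    have hσe : σ (2 * e) = 2 * σ e := by rw [hmult, hσ2]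
    set G := k * E * k⁻¹ with hG
    have hGd : ∀ d c₀ : K, σ c₀ = -α d → G.1 ((σ d * β) • v') =
        ((σ d - σ e * σ c₀) * β) • v' + σ c₀ • k.1 w - α (e * c₀) • v := by
      intro d c₀ hc₀
      have e1 : k.1 (d • v' + c₀ • v) = (σ d * β) • v' := by
        rw [map_add, hkc, he, hc₀, neg_smul]; abel
      rw [hG, mul_app, mul_app, ← e1, inv_app, hEx]
      simp only [ef, map_add, map_smul, LinearMap.add_apply, LinearMap.smul_apply, smul_eq_mul, hv', hvv',
        hv'w, hvw, hww, mul_zero, mul_one, zero_add]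
      rw [show (2 : K)⁻¹ * (2 * e) = e by field_simp, map_sub, map_add, hYK c₀ w hwp, map_add, he, hkc, hkc,
        hmult, hc₀]
      match_scalars <;> ring
    obtain ⟨c₁, hc₁⟩ := hσ.2 (-α 1)
    have hec : e * c₁ = 2 := hσ.1 (by
      rw [hmult, he', hc₁, hσ2, ← ha]; field_simp)
    have hG1 := hGd 1 c₁ hc₁
    have hα2 : α 2 = 2 * a := by
      rw [show (2 : K) = 1 + 1 by norm_num, map_add, ← ha]; ring
    rw [h1, one_mul, hec, hα2, he', hc₁, ← ha,
      show (1 - -(2 / a) * -a) * β = -β by field_simp; ring] at hG1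
    have hkww : B (k.1 w) (k.1 w) = 2 * (-(2 / a)) * β := by
      rw [hγ w w hwv hwv, hww, hσe, he']
    have hv'kw : B v' (k.1 w) = 0 := by rw [B_symm hM hB]; exact hkwv'
    have hvkw : B v (k.1 w) = 0 := by rw [B_symm hM hB]; exact hkwv
    have hαd : ∀ d, α d = a * σ d := by
      intro d
      obtain ⟨m, hm⟩ := line_of_noMove hM hB hnoMove (mul_mem (mul_mem hk hE) (inv_mem hk))
        (x := β • v') (by simp [hv']) (smul_ne_zero hβ0 hv'0) (by
          rw [hG1]
          simp [hv, hv', hvv', hBv'v, hkwv, hkwv', hvkw, hv'kw, hkww]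
          field_simp
          ring) (σ d)
      obtain ⟨c₀, hc₀⟩ := hσ.2 (-α d)
      rw [smul_smul, hGd d c₀ hc₀, hG1, he', hc₀] at hm
      have e1 := congrArg (fun q => B q (k.1 w)) hm
      have e2 := congrArg (fun q => B q v) hm
      simp [hvkw, hv'kw, hkww, hv, hBv'v, hkwv] at e1 e2
      have hB0 : 2 * (2 / a) * β ≠ 0 := mul_ne_zero (mul_ne_zero h2 (div_ne_zero h2 ha0)) hβ0
      have e1' : α d = m * a := by
        refine mul_right_cancel₀ hB0 ?_
        linear_combination e1
      have e2' : σ d - 2 / a * α d = -m := by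
        refine mul_right_cancel₀ hβ0 ?_
        linear_combination e2
      rw [e1'] at e2' ⊢
      field_simp at e2'
      linear_combination -a * e2'
    have hsq : ∀ c : K, τ (c * c * (β * a)) = 0 := by
      intro c
      obtain ⟨d, rfl⟩ := hσ.2 c
      have h := map_orth k (d • v')
      rw [Q_eq hM hB, Q_eq hM hB, hkc, hαd] at h
      simp [hv, hv', hvv', hBv'v] at h
      rcases h with h | h
      swap
      · rw [← map_add, show σ d * β * (a * σ d) + a * σ d * (σ d * β) =
          σ d * σ d * (β * a) + σ d * σ d * (β * a) by ring, map_add] at h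
        exact (mul_eq_zero.1 (show (2 : F) * τ (σ d * σ d * (β * a)) = 0 by linear_combination h)).resolve_left hM.two
      · exact absurd h hM.two
    refine mul_ne_zero hβ0 ha0 (tau_ext hB.one fun c => ?_)
    rw [mul_zero, map_zero, show c = (c + 1) / 2 * ((c + 1) / 2) - (c - 1) / 2 * ((c - 1) / 2) by field_simp; ring,
      sub_mul, map_sub, hsq, hsq, sub_zero]
  intro c y
  have hd := decomp hM hB hv hv' hvv' y
  rw [show y = B y v' • v + B y v • v' + (y - B y v' • v - B y v • v') by abel]
  simp only [smul_add, map_add, smul_smul, he, hkc, hα0, hmult, zero_smul, add_zero,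
    hYK c _ hd, mul_assoc]

omit hnoMove in
/-- Some element of `M` fixes a singular vector and moves its line. -/
theorem exists_moves : ∃ v : V, v ≠ 0 ∧ B v v = 0 ∧ Moves M v (F ∙ (1 : K)) := by
  classical
  by_contra hcon
  push Not at hcon
  haveI : FiniteDimensional F K := Module.Finite.of_finite
  haveI : FiniteDimensional F V := FiniteDimensional.trans F K V
  obtain ⟨g, hg, c₀, hgc⟩ := hM.move
  let bk := Module.finBasis F (LinearMap.ker τ)
  let P₁ : K → (V →ₗ[F] V) → V →ₗ[F] V →ₗ[F] F := fun c T =>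
    LinearMap.mk₂ F (fun x y => polar Q (c • T x) (T y)) (fun x x' y => by simp [polar_add_left])
      (fun s x y => by rw [map_smul, smul_comm, polar_smul_left]) (fun x y y' => by simp [polar_add_right])
      (fun s x y => by rw [map_smul, polar_smul_right])
  obtain ⟨x, hx0, hx⟩ := exists_zero
    (fun i : (Fin (finrank F (LinearMap.ker τ)) ⊕ Fin (finrank F (LinearMap.ker τ))) ⊕ Unit =>
      Sum.elim (Sum.elim (fun j => P₁ (bk j : K) LinearMap.id) (fun j => P₁ (bk j : K) g.1.toLinearMap))
        (fun _ => polarBilin Q) i)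
    (fun _ => 0) (by
      have h1 := LinearMap.finrank_range_add_finrank_ker τ
      rw [LinearMap.range_eq_top.2 (fun s => ⟨s • 1, by rw [map_smul, hB.one, smul_eq_mul, mul_one]⟩), finrank_top,
        finrank_self] at h1
      simp only [Fintype.card_sum, Fintype.card_fin, Fintype.card_unit]
      rw [← Module.finrank_mul_finrank F K V]
      have := Nat.mul_le_mul_left (finrank F K) hM.dim
      omega)
  have hsing : ∀ z : V, polar Q z z = 0 → (∀ j, polar Q ((bk j : K) • z) z = 0) → B z z = 0 := by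
    intro z h0 hj
    refine (sing_iff hM hB).1 fun c => ?_
    have hker : c - τ c • (1 : K) ∈ LinearMap.ker τ := by simp [hB.one]
    rw [show c = (∑ j, bk.repr ⟨_, hker⟩ j • (bk j : K)) + τ c • (1 : K) by
      have := congrArg Subtype.val (bk.sum_repr ⟨_, hker⟩)
      simp only [Submodule.coe_sum, Submodule.coe_smul] at this
      rw [this, sub_add_cancel], add_smul, polar_add_left, smul_assoc, one_smul, polar_smul_left, h0, smul_zero,
      add_zero, Finset.sum_smul]
    have : ∀ (s : Finset (Fin (finrank F (LinearMap.ker τ)))),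
        polar Q (∑ j ∈ s, (bk.repr ⟨_, hker⟩ j • (bk j : K)) • z) z = 0 := by
      intro s
      induction s using Finset.induction with
      | empty => simp
      | insert j s hjs ih =>
        rw [Finset.sum_insert hjs, polar_add_left, ih, smul_assoc, polar_smul_left, hj, smul_zero, add_zero]
    exact this _
  have hxx : B x x = 0 := hsing x (by simpa using hx (Sum.inr ())) fun j => by
    simpa [P₁] using hx (Sum.inl (Sum.inl j))
  have hgx : B (g.1 x) (g.1 x) = 0 := hsing _ (by
    rw [polar_orth g]; simpa using hx (Sum.inr ())) fun j => by simpa [P₁] using hx (Sum.inl (Sum.inr j))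
  obtain ⟨h, hh, hhx, hl⟩ := exists_transitive hM hB hgx hxx ((map_ne_zero_iff _ g.1.injective).2 hx0) hx0
  obtain ⟨x', hx', hxx'⟩ := exists_partner hM hB hxx hx0
  have hx'x : B x' x = 1 := by rw [B_symm hM hB, hxx']
  set z := (h * g).1 x' with hz
  set β := B z x with hβ
  have hτβ : τ β = 1 := by
    rw [hβ, ← f_eq hM hB, hz, ← hhx, ← mul_app h g, polar_orth (h * g), f_eq hM hB, hx'x, hB.one]
  have hβ0 : β ≠ 0 := fun h0 => by simp [h0] at hτβ
  set u := -β⁻¹ • (z - B z x' • x - β • x') with hu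
  have hd := decomp hM hB hxx hx' hxx' z
  have hxu : B x u = 0 := by
    rw [mem_pperp] at hd
    rw [B_symm hM hB x u, hu, map_smul, LinearMap.smul_apply, hd.1, smul_zero]
  obtain ⟨E, hE, hEl, hEx⟩ := E_mem hM hB hxx hxu
  set k := E * (h * g) with hk
  have hkm : k ∈ M := mul_mem hE (mul_mem hh hg)
  have hEl' : E.1 x = x := by rw [hEx, ef]; simp [hxx, hxu]
  let σ : K →ₗ[F] K :=
    { toFun := fun c => B (k.1 (c • x)) x'
      map_add' := fun a b => by simp [add_smul]
      map_smul' := fun s a => by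
        show B (k.1 ((s • a) • x)) x' = s • B (k.1 (a • x)) x'
        rw [smul_assoc, LinearEquiv.map_smul, LinearMap.map_smul_of_tower, LinearMap.smul_apply] }
  have he : ∀ c, k.1 (c • x) = σ c • x := by
    intro c
    obtain ⟨d, hd⟩ := line_of_noMove hM hB (fun v h1 h2 => hcon v h1 h2) hg hxx hx0 hgx c
    have e : k.1 (c • x) = d • x := by rw [hk, mul_app, mul_app, hd, hl, hhx, hEl, hEl']
    rw [show σ c = B (k.1 (c • x)) x' from rfl, e, map_smul, LinearMap.smul_apply, hxx', smul_eq_mul, mul_one]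
  have hσ1 : σ 1 = 1 := by
    show B (k.1 ((1 : K) • x)) x' = 1
    rw [one_smul, hk, mul_app, mul_app, hhx, hEl', hxx']
  have hσb : Function.Bijective σ := by
    have hinj : Function.Injective σ := fun a b hab => smul_left_injective K hx0
      (k.1.injective (show k.1 (a • x) = k.1 (b • x) by rw [he, he, hab]))
    exact ⟨hinj, Finite.injective_iff_surjective.1 hinj⟩
  rcases test hM hB hxx hx' hxx' hkm σ he with hR | ⟨hmult, hq⟩
  · exact no_root hM hB (fun v h1 h2 => hcon v h1 h2) hxx hx' hxx' hR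
  simp only [hσ1, mul_one, div_one] at hmult hq
  have hsemi : ∀ (c : K) (y : V), k.1 (c • y) = σ c • k.1 y := by
    rcases hM.dim.eq_or_lt with h4 | h5
    · refine semilinear_three hM hB (fun v h1 h2 => hcon v h1 h2) hkm hxx hx' hxx' σ hσb hσ1 he hq
        hmult ?_
      have hkx' : k.1 x' = β • x' + (B (k.1 x') x') • x := by
        rw [mem_pperp] at hd
        have e : k.1 x' = z + β • u - (B z u + 2⁻¹ * B u u * β) • x := by
          rw [hk, mul_app, hEx, ef]
        have e2 : z + β • u = B z x' • x + β • x' := by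
          rw [hu, smul_smul, mul_neg, mul_inv_cancel₀ hβ0, neg_smul, one_smul]; abel
        rw [e2, add_sub_right_comm, ← sub_smul] at e
        rw [e]
        simp [hxx', hx', add_comm]
      have hb : B (k.1 x') x = β := by rw [hkx']; simp [hx'x, hxx]
      rw [hb]
      exact hkx'
    · exact semilinear_five hM hB (fun v h1 h2 => hcon v h1 h2) hkm hxx hx' hxx' h5 σ hσb.2 hσ1 he hq hmult
  obtain ⟨y, hy⟩ := hgc (σ c₀)
  apply hy
  have hE' : ∀ z, E.1 (h.1 (g.1 z)) = k.1 z := fun z => rfl
  apply h.1.injective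
  apply E.1.injective
  rw [hl, hEl, hE', hE', hsemi]

end

end Cfsg.Agent.ExtFieldOrth
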