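import Mathlib
import Cfsg.Agent.Lib.ExtFieldOrthBase
import Cfsg.Agent.Lib.ExtFieldGUOrth

/-!
From a moving element to a configuration fixing a hyperplane of a singular line, and from there to
F-Siegel elements inside the line.
-/

set_option autoImplicit false
set_option linter.unusedSectionVars false
set_option linter.style.haveILetI false
set_option maxHeartbeats 800000

namespace Cfsg.Agent.ExtFieldOrth

open QuadraticMap Module
open Cfsg.Agent.OrthUnitaryQuad
open Cfsg.Agent.ExtFieldMax (exists_dual_one)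

variable {F K V : Type*} [Field F] [Fintype F] [Field K] [Fintype K] [Algebra F K]
  [AddCommGroup V] [Module F V] [Module K V] [IsScalarTower F K V] [FiniteDimensional K V]

variable {Q : QuadraticForm F V} {M : Subgroup (orth Q)}

section
variable {τ : K →ₗ[F] F} {B : V →ₗ[K] V →ₗ[K] K} (hM : Hyp K Q M) (hB : Lifts Q τ B)
include hM hB

/-- Some mover sends a vector off `D` into the orthogonal of `v`. -/
theorem exists_perp_mover {v v' : V} (hv : B v v = 0) (hv' : B v' v' = 0) (hvv' : B v v' = 1)
    {D : Submodule F K} (h1 : (1 : K) ∈ D) (hD : finrank F D < finrank F K) (hmv : Moves M v D) :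
    ∃ g ∈ M, (∀ d ∈ D, g.1 (d • v) = d • v) ∧ (∃ c : K, ∀ e : K, g.1 (c • v) ≠ e • v) ∧
      ∃ y, y ∉ D ∧ B (g.1 (y • v)) v = 0 := by
  classical
  obtain ⟨g, hg, hgD, hmoved⟩ := hmv
  by_cases hex : ∃ y, y ∉ D ∧ B (g.1 (y • v)) v = 0
  · exact ⟨g, hg, hgD, hmoved, hex⟩
  push Not at hex
  obtain ⟨y, -, hy⟩ := SetLike.exists_of_lt (show D < ⊤ from lt_top_iff_ne_top.2 fun h => by
    rw [h, finrank_top] at hD; omega)
  haveI : FiniteDimensional F K := Module.Finite.of_finite
  haveI : FiniteDimensional F (pperp B v v') := FiniteDimensional.trans F K _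
  set z := g.1 (y • v) with hz
  set β := B z v with hβ
  have hgv : g.1 v = v := by simpa using hgD 1 h1
  let bk := Module.finBasis F (LinearMap.ker τ)
  let u : Fin (finrank F (LinearMap.ker τ)) → V := fun j => g.1 ((bk j : K) • v)
  obtain ⟨w, hw0, hw⟩ := exists_zero
    (fun j => LinearMap.mk₂ F (fun a b : pperp B v v' => -τ (2⁻¹ * β * B v (u j) * B (a : V) b))
      (fun a a' b => by simp [mul_add]; ring) (fun s a b => by simp [LinearMap.map_smul_of_tower, mul_smul_comm])
      (fun a b b' => by simp [mul_add]; ring) (fun s a b => by simp [LinearMap.map_smul_of_tower, mul_smul_comm]))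
    (fun j =>
      { toFun := fun a : pperp B v v' => τ (β * B (a : V) (u j)) - τ (B z (a : V) * B v (u j))
        map_add' := fun a b => by simp [mul_add, add_mul]; ring
        map_smul' := fun s a => by
          simp [LinearMap.map_smul_of_tower, mul_smul_comm, smul_mul_assoc, mul_sub] })
    (by
      have e1 := LinearMap.finrank_range_add_finrank_ker τ
      rw [LinearMap.range_eq_top.2 (fun s => ⟨s • 1, by rw [map_smul, hB.one, smul_eq_mul, mul_one]⟩), finrank_top,
        finrank_self] at e1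
      rw [Fintype.card_fin, ← Module.finrank_mul_finrank F K (pperp B v v')]
      have e2 := finrank_pperp hM hB hv hv' hvv'
      have := hM.dim
      have e3 := Nat.mul_le_mul_left (finrank F K) (show 2 ≤ finrank K (pperp B v v') by omega)
      omega)
  obtain ⟨wv, hwp⟩ := w
  have hwv : B v wv = 0 := by rw [B_symm hM hB]; exact (mem_pperp.1 hwp).1
  obtain ⟨t, ht, htl, htx⟩ := E_mem hM hB hv hwv
  have htv : ∀ p : K, t.1 (p • v) = p • v := fun p => by rw [htx, ef]; simp [hv, hwv]
  set k := g⁻¹ * t * g with hk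
  have hkD : ∀ d ∈ D, k.1 (d • v) = d • v := fun d hd => by
    rw [hk, mul_app, mul_app, hgD d hd, htv]
    conv_lhs => rw [← hgD d hd, inv_app]
  have hsing0 : ∀ a b : K, polar Q (g.1 (a • v)) (g.1 (b • v)) = 0 := fun a b => by
    rw [polar_orth g, f_eq hM hB]; simp [hv]
  refine ⟨k, mul_mem (mul_mem (inv_mem hg) ht) hg, hkD, ?_, y, hy, ?_⟩
  · by_contra hcon
    push Not at hcon
    obtain ⟨e, he⟩ := hcon y
    rw [hk, mul_app, mul_app] at he
    have he' := congrArg g.1 he
    rw [app_inv, ← hz] at he'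
    have hz' : B (t.1 z) v = β := by rw [htx, ef]; simp [hv, B_symm hM hB wv v, hwv, hβ]
    have hey : e - y ∈ D := by
      by_contra hcon'
      apply hex _ hcon'
      rw [sub_smul, map_sub, ← he', ← hz, map_sub, LinearMap.sub_apply, hz', sub_self]
    have htz : t.1 z = z + (e - y) • v := by
      rw [he', ← hgD _ hey, hz, ← map_add, ← add_smul, add_sub_cancel]
    apply hw0
    refine Subtype.ext (pperp_nondeg hM hB hv hv' hvv' hwp fun q hq => ?_)
    have h2 := congrArg (fun x => B x q) htz
    rw [htx] at h2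
    simp only [ef, map_add, map_sub, map_smul, LinearMap.add_apply, LinearMap.sub_apply, LinearMap.smul_apply,
      smul_eq_mul, B_symm hM hB v q, (mem_pperp.1 hq).1, mul_zero, add_zero, sub_zero] at h2
    have : β * B wv q = 0 := by linear_combination h2
    exact (mul_eq_zero.1 this).resolve_left (hex y hy)
  · refine tau_ext hB.one fun c => ?_
    rw [mul_zero, map_zero, ← hB.eq, hM.adj]
    rw [hk, mul_app, mul_app, polar_inv, ← hz]
    have hker : c - τ c • (1 : K) ∈ LinearMap.ker τ := by simp [hB.one]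
    have hc : c = (∑ j, bk.repr ⟨_, hker⟩ j • (bk j : K)) + τ c • (1 : K) := by
      have := congrArg Subtype.val (bk.sum_repr ⟨_, hker⟩)
      simp only [Submodule.coe_sum, Submodule.coe_smul] at this
      rw [this, sub_add_cancel]
    have h0 : polar Q (t.1 z) v = 0 := by
      rw [show v = t.1 v by simpa using (htv 1).symm, polar_orth t, ← hgv]
      simpa using hsing0 y 1
    have hj : ∀ j, polar Q (t.1 z) (u j) = 0 := fun j => by
      have h3 := hw j
      simp only [LinearMap.mk₂_apply, LinearMap.coe_mk, AddHom.coe_mk] at h3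
      rw [htx, f_eq hM hB]
      have h4 : τ (B z (u j)) = 0 := by rw [← f_eq hM hB]; exact hsing0 _ _
      have h5 : B (ef B v wv z) (u j) = B z (u j) + β * B wv (u j) - B z wv * B v (u j) -
          2⁻¹ * β * B v (u j) * B wv wv := by
        simp [ef, hβ]; ring
      rw [h5, map_sub, map_sub, map_add, h4]
      linear_combination h3
    rw [hc, add_smul, map_add, polar_add_right, smul_assoc, one_smul, LinearEquiv.map_smul, polar_smul_right, hgv,
      h0, smul_zero, add_zero, Finset.sum_smul, map_sum]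
    have : ∀ (s : Finset (Fin (finrank F (LinearMap.ker τ)))),
        polar Q (t.1 z) (∑ j ∈ s, g.1 ((bk.repr ⟨_, hker⟩ j • (bk j : K)) • v)) = 0 := by
      intro s
      induction s using Finset.induction with
      | empty => simp
      | insert j s hjs ih =>
        rw [Finset.sum_insert hjs, polar_add_right, ih, smul_assoc, LinearEquiv.map_smul, polar_smul_right]
        rw [show g.1 ((bk j : K) • v) = u j from rfl, hj, smul_zero, add_zero]
    exact this _

theorem moves_step {v v' : V} (hv : B v v = 0) (hv' : B v' v' = 0) (hvv' : B v v' = 1) (D : Submodule F K)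
    (h1 : (1 : K) ∈ D) (hD : finrank F D + 2 ≤ finrank F K) (hmv : Moves M v D) :
    ∃ c : K, c ∉ D ∧ Moves M v (D ⊔ F ∙ c) := by
  classical
  have hv0 := v_ne hM hB hv hv' hvv'
  have hinjv : Function.Injective (fun c : K => c • v) := smul_left_injective K hv0
  obtain ⟨g, hg, hgD, ⟨c₁, hc₁⟩, y₁, hy₁, hz₁v⟩ :=
    exists_perp_mover hM hB hv hv' hvv' h1 (by omega) hmv
  by_contra hcon
  push Not at hcon
  have hkey : ∀ y : K, y ∉ D → ∀ k ∈ M, (∀ d ∈ D, k.1 (d • v) = d • v) → k.1 (y • v) = y • v →
      ∀ e : K, ∃ d : K, k.1 (e • v) = d • v := by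
    intro y hy k hk hkD hky e
    by_contra hne
    push Not at hne
    refine hcon y hy ⟨k, hk, fun d hd => ?_, e, hne⟩
    obtain ⟨d', hd', s, hs, rfl⟩ := Submodule.mem_sup.1 hd
    obtain ⟨t, rfl⟩ := Submodule.mem_span_singleton.1 hs
    rw [add_smul, map_add, hkD _ hd', smul_assoc, LinearEquiv.map_smul, hky]
  have hpne : ∃ u ∈ pperp B v v', u ≠ 0 := (Submodule.ne_bot_iff _).1 fun h => by
    have := finrank_pperp hM hB hv hv' hvv'
    have := hM.dim
    rw [h, finrank_bot] at *
    omega
  have claim : ∀ h ∈ M, (∀ d ∈ D, h.1 (d • v) = d • v) → ∀ y : K, y ∉ D → ∀ y' : K,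
      h.1 (y • v) = y' • v → ∀ e : K, ∃ d : K, h.1 (e • v) = d • v := by
    intro h hh hhD y hy y' hyy e
    by_contra hne
    push Not at hne
    set z := h.1 (e • v) with hzd
    have hz : z ∉ Submodule.span K {v} := fun h' => by
      obtain ⟨d, hd⟩ := Submodule.mem_span_singleton.1 h'
      exact hne d hd.symm
    have hmain : ∀ t : orth Q, t ∈ M → (∀ p : K, t.1 (p • v) = p • v) → ∃ m : K, h.1 (m • v) = t.1 z := by
      intro t ht hfix
      obtain ⟨d, hd⟩ := hkey y hy (h⁻¹ * t * h) (mul_mem (mul_mem (inv_mem hh) ht) hh)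
        (fun d hd => by
          rw [mul_app, mul_app, hhD d hd, hfix]
          conv_lhs => rw [← hhD d hd, inv_app])
        (by rw [mul_app, mul_app, hyy, hfix, ← hyy, inv_app]) e
      rw [mul_app, mul_app] at hd
      have := congrArg h.1 hd
      rw [app_inv] at this
      exact ⟨d, this.symm⟩
    by_cases hzv : B z v = 0
    · obtain ⟨φ, hφz, hφ0⟩ := exists_dual_one _ hz
      have hback : ∀ l : K, ∃ m : K, h.1 (m • v) = l • v := by
        intro l
        obtain ⟨w, hw⟩ := exists_vec hM hB ((-l) • φ)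
        have hvw : B v w = 0 := by simp [hw, hφ0 v (Submodule.mem_span_singleton_self v)]
        obtain ⟨t, ht, -, htx⟩ := E_mem hM hB hv hvw
        obtain ⟨m, hm⟩ := hmain t ht fun p => by rw [htx, ef]; simp [hv, hvw]
        rw [htx, ef, hzv, hw] at hm
        simp [hφz] at hm
        exact ⟨m - e, by rw [sub_smul, map_sub, hm, ← hzd, add_sub_cancel_left]⟩
      choose fn hf using hback
      have hfinj : Function.Injective fn := fun l l' hll => hinjv (by
        show l • v = l' • v
        rw [← hf l, ← hf l', hll])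
      obtain ⟨l, hl⟩ := (Finite.injective_iff_surjective.1 hfinj) e
      have h5 := hf l; rw [hl] at h5; exact hne l h5
    · obtain ⟨u, hu, hu0⟩ := hpne
      have hvu : B v u = 0 := by rw [B_symm hM hB]; exact (mem_pperp.1 hu).1
      have hfam : ∀ a : K, ∃ m, h.1 (m • v) = ef B v (a • u) z := fun a => by
        obtain ⟨t, ht, -, htx⟩ := E_mem hM hB hv (show B v (a • u) = 0 by simp [hvu])
        obtain ⟨m, hm⟩ := hmain t ht fun p => by rw [htx, ef]; simp [hv, hvu]
        exact ⟨m, by rw [hm, htx]⟩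
      choose fm hfm using hfam
      obtain ⟨q, hq, huq⟩ : ∃ q ∈ pperp B v v', B u q ≠ 0 := by
        by_contra hc
        push Not at hc
        exact hu0 (pperp_nondeg hM hB hv hv' hvv' hu hc)
      have hvq : B v q = 0 := by rw [B_symm hM hB]; exact (mem_pperp.1 hq).1
      have hfinj : Function.Injective fm := fun a a' haa => by
        have h3 := congrArg (fun x => B x q) ((hfm a).symm.trans (haa ▸ hfm a'))
        simp [ef, hvq, huq, hzv] at h3
        exact h3
      obtain ⟨a, ha⟩ := (Finite.injective_iff_surjective.1 hfinj) 0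
      have h3 := congrArg (fun x => B x v) (hfm a)
      simp [ha, ef, hv, B_symm hM hB u v, hvu] at h3
      exact hzv h3.symm
  set z₁ := g.1 (y₁ • v) with hz₁
  have hz₁n : z₁ ∉ Submodule.span K {v} := fun h => by
    obtain ⟨d, hd⟩ := Submodule.mem_span_singleton.1 h
    obtain ⟨d', hd'⟩ := claim g hg hgD y₁ hy₁ d hd.symm c₁
    exact hc₁ d' hd'
  -- the image of the line is orthogonal to `v`
  have hperp : ∀ y : K, B (g.1 (y • v)) v = 0 := by
    intro y
    by_contra hy
    obtain ⟨u, hu, hu0, hzu⟩ : ∃ u ∈ pperp B v v', u ≠ 0 ∧ B z₁ u = 0 := by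
      obtain ⟨u, hu, hu0⟩ := (Submodule.ne_bot_iff (pperp B v v' ⊓ LinearMap.ker (B z₁))).1 fun h => by
        have h1 := Submodule.finrank_sup_add_finrank_inf_eq (pperp B v v') (LinearMap.ker (B z₁))
        have h3 := LinearMap.finrank_range_add_finrank_ker (B z₁)
        have h4 := Submodule.finrank_le (LinearMap.range (B z₁))
        have h5 := Submodule.finrank_le (pperp B v v' ⊔ LinearMap.ker (B z₁))
        have h6 := finrank_pperp hM hB hv hv' hvv'
        have := hM.dim
        rw [h, finrank_bot] at h1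
        rw [finrank_self] at h4
        omega
      exact ⟨u, hu.1, hu0, hu.2⟩
    have hvu : B v u = 0 := by rw [B_symm hM hB]; exact (mem_pperp.1 hu).1
    have hfam : ∀ a : K, ∃ m, g.1 (m • v) = ef B v (a • u) (g.1 (y • v)) := fun a => by
      obtain ⟨t, ht, -, htx⟩ := E_mem hM hB hv (show B v (a • u) = 0 by simp [hvu])
      have hfix : ∀ p : K, t.1 (p • v) = p • v := fun p => by rw [htx, ef]; simp [hv, hvu]
      obtain ⟨d, hd⟩ := hkey y₁ hy₁ (g⁻¹ * t * g) (mul_mem (mul_mem (inv_mem hg) ht) hg)
        (fun d hd => by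
          rw [mul_app, mul_app, hgD d hd, hfix]
          conv_lhs => rw [← hgD d hd, inv_app])
        (by
          rw [mul_app, mul_app, ← hz₁, show t.1 z₁ = z₁ by rw [htx, ef, hz₁v]; simp [hzu], hz₁, inv_app]) y
      rw [mul_app, mul_app, htx] at hd
      have := congrArg g.1 hd
      rw [app_inv] at this
      exact ⟨d, this.symm⟩
    choose fm hfm using hfam
    obtain ⟨q, hq, huq⟩ : ∃ q ∈ pperp B v v', B u q ≠ 0 := by
      by_contra hc
      push Not at hc
      exact hu0 (pperp_nondeg hM hB hv hv' hvv' hu hc)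
    have hvq : B v q = 0 := by rw [B_symm hM hB]; exact (mem_pperp.1 hq).1
    have hfinj : Function.Injective fm := fun a a' haa => by
      have h3 := congrArg (fun x => B x q) ((hfm a).symm.trans (haa ▸ hfm a'))
      simp [ef, hvq, huq, hy] at h3
      exact h3
    obtain ⟨a, ha⟩ := (Finite.injective_iff_surjective.1 hfinj) 0
    have h3 := congrArg (fun x => B x v) (hfm a)
    simp [ha, ef, hv, B_symm hM hB u v, hvu] at h3
    exact hy h3.symm
  -- a linear family of translations on the image of the line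
  have hc₁n : g.1 (c₁ • v) ∉ Submodule.span K {v} := fun h => by
    obtain ⟨e, he⟩ := Submodule.mem_span_singleton.1 h
    exact hc₁ e he.symm
  obtain ⟨φ, hφ1, hφ0⟩ := exists_dual_one _ hc₁n
  have hφv : φ v = 0 := hφ0 v (Submodule.mem_span_singleton_self v)
  have htl : ∀ l : K, ∃ t ∈ M, (∀ p : K, t.1 (p • v) = p • v) ∧
      ∀ y : K, t.1 (g.1 (y • v)) = g.1 (y • v) + (φ (g.1 (y • v)) * l) • v := by
    intro l
    obtain ⟨w, hw⟩ := exists_vec hM hB ((-l) • φ)
    have hvw : B v w = 0 := by simp [hw, hφv]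
    obtain ⟨t, ht, -, htx⟩ := E_mem hM hB hv hvw
    refine ⟨t, ht, fun p => by rw [htx, ef]; simp [hv, hvw], fun y => ?_⟩
    rw [htx, ef, hperp, hw]
    simp [mul_comm]
  have htrans : ∀ (l : K) (y : K), y ∉ D → φ (g.1 (y • v)) * l ∈ D → l ∈ D := by
    intro l y hy hyl
    obtain ⟨t, ht, hfix, htx⟩ := htl l
    have hmap : (g⁻¹ * t * g).1 (y • v) = (y + φ (g.1 (y • v)) * l) • v := by
      rw [mul_app, mul_app]
      apply g.1.injective
      rw [app_inv, htx, add_smul, map_add, hgD _ hyl]
    obtain ⟨d, hd⟩ := claim (g⁻¹ * t * g) (mul_mem (mul_mem (inv_mem hg) ht) hg)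
      (fun d hd => by
        rw [mul_app, mul_app, hgD d hd, hfix]
        conv_lhs => rw [← hgD d hd, inv_app])
      y hy _ hmap c₁
    rw [mul_app, mul_app] at hd
    have h2 := congrArg g.1 hd
    rw [app_inv, htx, hφ1, one_mul] at h2
    have h3 : g.1 ((d - c₁) • v) = l • v := by
      rw [sub_smul, map_sub, ← h2, add_sub_cancel_left]
    by_cases hdD : d - c₁ ∈ D
    · rw [hgD _ hdD] at h3
      exact hinjv h3 ▸ hdD
    · obtain ⟨e, he⟩ := claim g hg hgD _ hdD l h3 c₁
      exact absurd he (hc₁ e)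
  have hc₁D : c₁ ∉ D := fun h => hc₁ c₁ (hgD _ h)
  have hker : ∀ y : K, φ (g.1 (y • v)) = 0 → y ∈ D := by
    intro y hy
    by_contra hyD
    obtain ⟨l, -, hl⟩ := SetLike.exists_of_lt (show D < ⊤ from lt_top_iff_ne_top.2 fun h => by
      rw [h, finrank_top] at hD; omega)
    exact hl (htrans l y hyD (by rw [hy, zero_mul]; exact zero_mem D))
  obtain ⟨y, hyF⟩ : ∃ y : K, φ (g.1 (y • v)) ∉ (⊥ : Subalgebra F K) := by
    by_contra hall
    push Not at hall
    have htop : (⊤ : Submodule F K) ≤ D ⊔ F ∙ c₁ := by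
      intro y _
      obtain ⟨s, hs⟩ := Algebra.mem_bot.1 (hall y)
      have e1 : g.1 ((s • c₁) • v) = algebraMap F K s • g.1 (c₁ • v) := by
        rw [smul_assoc, LinearEquiv.map_smul, algebraMap_smul]
      have : y - s • c₁ ∈ D := hker _ (by
        rw [sub_smul, map_sub, map_sub, ← hs, e1, map_smul, hφ1, smul_eq_mul, mul_one, sub_self])
      rw [← sub_add_cancel y (s • c₁)]
      exact Submodule.add_mem_sup this (Submodule.mem_span_singleton.2 ⟨s, rfl⟩)
    have h2 := Submodule.finrank_mono htop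
    rw [finrank_top] at h2
    have h3 := Submodule.finrank_add_le_finrank_add_finrank D (F ∙ c₁)
    have h4 : finrank F (F ∙ c₁) = 1 := finrank_span_singleton (fun h => hc₁D (h ▸ zero_mem D))
    omega
  set t := φ (g.1 (y • v)) with ht
  have ht0 : t ≠ 0 := fun h => hyF (h ▸ zero_mem _)
  have hyD : y ∉ D := fun h => ht0 (by rw [ht, hgD y h, map_smul, hφv, smul_zero])
  have hstab : ∀ d ∈ D, t * d ∈ D := by
    have hsub : ∀ l, t * l ∈ D → l ∈ D := fun l hl => htrans l y hyD hl
    let fm : D →ₗ[F] D :=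
      { toFun := fun d => ⟨t⁻¹ * d, hsub _ (by rw [mul_inv_cancel_left₀ ht0]; exact d.2)⟩
        map_add' := fun a b => Subtype.ext (mul_add _ _ _)
        map_smul' := fun s a => Subtype.ext (mul_smul_comm _ _ _) }
    have hf : Function.Injective fm := fun a b hab =>
      Subtype.ext (mul_left_cancel₀ (inv_ne_zero ht0) (congrArg Subtype.val hab))
    intro d hd
    obtain ⟨d', hd'⟩ := (Finite.injective_iff_surjective.1 hf) ⟨d, hd⟩
    have : t⁻¹ * (d' : K) = d := congrArg Subtype.val hd'
    rw [← this, mul_inv_cancel_left₀ ht0]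
    exact d'.2
  let S : Subalgebra F K :=
    { carrier := {a | ∀ d ∈ D, a * d ∈ D}
      mul_mem' := fun {a b} ha hb d hd => by rw [mul_assoc]; exact ha _ (hb d hd)
      one_mem' := fun d hd => by rwa [one_mul]
      add_mem' := fun {a b} ha hb d hd => by rw [add_mul]; exact add_mem (ha d hd) (hb d hd)
      zero_mem' := fun d _ => by rw [zero_mul]; exact zero_mem D
      algebraMap_mem' := fun s d hd => by rw [← Algebra.smul_def]; exact D.smul_mem s hd }
  haveI := Subalgebra.isSimpleOrder_of_finrank_prime F K hM.prime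
  rcases eq_bot_or_eq_top S with h | h
  · exact hyF (h ▸ (hstab : t ∈ S))
  · have : D = ⊤ := eq_top_iff.2 fun x _ => by
      have hx : x ∈ S := h ▸ Algebra.mem_top
      simpa using hx 1 h1
    rw [this, finrank_top] at hD
    omega

end

/-- The configuration reached by the induction. -/
structure Config (M : Subgroup (orth Q)) (v : V) (lam : K →ₗ[F] F) (g : orth Q) : Prop where
  mem : g ∈ M
  sing : Sing K Q v
  one : lam 1 = 1
  fix : ∀ d, lam d = 0 → g.1 (d • v) = d • v
  moved : ∀ c : K, g.1 v ≠ c • v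
  perp : ∀ c : K, polar Q (c • v) (g.1 v) = 0

theorem exists_config (hM : Hyp K Q M) :
    ∃ (v : V) (lam : K →ₗ[F] F) (g : orth Q), Config M v lam g := by
  classical
  obtain ⟨ψ₀, hψ₀, -⟩ := exists_dual_one (⊥ : Submodule F K) (z := (1 : K)) (by simp)
  obtain ⟨B, hB⟩ := exists_lift hM ψ₀ hψ₀
  haveI : FiniteDimensional F K := Module.Finite.of_finite
  obtain ⟨v₀, hv₀, hvs, hbase⟩ := exists_moves hM hB
  obtain ⟨v', hv', hvv'⟩ := exists_partner hM hB hvs hv₀
  have hr := hM.prime.two_le
  have hk : ∀ k, k + 2 ≤ finrank F K →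
      ∃ D : Submodule F K, (1 : K) ∈ D ∧ finrank F D = k + 1 ∧ Moves M v₀ D := by
    intro k
    induction k with
    | zero =>
      exact fun _ => ⟨_, Submodule.mem_span_singleton_self 1, finrank_span_singleton one_ne_zero, hbase⟩
    | succ k ih =>
      intro hk
      obtain ⟨D, h1, hd, hm⟩ := ih (by omega)
      obtain ⟨c, hc, hm'⟩ := moves_step hM hB hvs hv' hvv' D h1 (by omega) hm
      refine ⟨_, Submodule.mem_sup_left h1, ?_, hm'⟩
      have h2 := Submodule.finrank_sup_add_finrank_inf_eq D (F ∙ c)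
      have hc0 : c ≠ 0 := fun h => hc (h ▸ zero_mem D)
      have h3 : D ⊓ F ∙ c = ⊥ := by
        rw [eq_bot_iff]
        rintro x ⟨hx, hx'⟩
        obtain ⟨s, rfl⟩ := Submodule.mem_span_singleton.1 hx'
        by_cases hs : s = 0
        · simp [hs]
        · exact absurd ((Submodule.smul_mem_iff _ hs).1 hx) hc
      rw [h3, finrank_bot, finrank_span_singleton hc0, hd] at h2
      omega
  obtain ⟨D, hD1, hd, hmv⟩ := hk (finrank F K - 2) (by omega)
  obtain ⟨g, hg, hgD, ⟨c₁, hc₁⟩, y, hy, hyv⟩ := exists_perp_mover hM hB hvs hv' hvv' hD1 (by omega) hmv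
  obtain ⟨ψ, hψy, hψD⟩ := exists_dual_one D hy
  let lam : K →ₗ[F] F := ψ.comp (LinearMap.mulRight F y)
  have hker : LinearMap.ker ψ = D := by
    symm
    refine Submodule.eq_of_le_of_finrank_le (fun x hx => LinearMap.mem_ker.2 (hψD x hx)) ?_
    have h1 := LinearMap.finrank_range_add_finrank_ker ψ
    have h2 : finrank F (LinearMap.range ψ) = 1 := by
      rw [LinearMap.range_eq_top.2 fun s => ⟨s • y, by rw [map_smul, hψy, smul_eq_mul, mul_one]⟩,
        finrank_top, finrank_self]
    omega
  refine ⟨y • v₀, lam, g, hg, (sing_iff hM hB).2 (by simp [hvs]), by simp [lam, hψy], fun d hd0 => ?_,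
    fun e he => ?_, fun c => ?_⟩
  · rw [smul_smul]
    apply hgD
    rw [← hker]
    exact LinearMap.mem_ker.2 (by simpa [lam] using hd0)
  · apply hc₁ (c₁ - ψ c₁ • y + ψ c₁ • (e * y))
    have hmem : c₁ - ψ c₁ • y ∈ D := by
      rw [← hker]; simp [hψy]
    rw [add_smul, ← hgD _ hmem, smul_assoc (ψ c₁) (e * y), mul_smul, ← he, ← LinearEquiv.map_smul, ← map_add,
      ← smul_assoc, ← add_smul, sub_add_cancel]
  · rw [hB.eq, map_smul, LinearMap.smul_apply, B_symm hM hB v₀, hyv, smul_zero, mul_zero, map_zero]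

/-- F-Siegel elements inside a singular line, and one leaving it. -/
theorem exists_pairs (hM : Hyp K Q M) {v : V} {lam : K →ₗ[F] F} {g : orth Q} (hC : Config M v lam g) :
    ∃ μ : K, μ ≠ 0 ∧ lam μ = 0 ∧
      ∀ (c : K) (h : Q (c • v) = 0), μ • v ∈ ExtFieldGUOrth.W M h := by
  classical
  haveI : FiniteDimensional F K := Module.Finite.of_finite
  haveI : FiniteDimensional F V := FiniteDimensional.trans F K V
  obtain ⟨B, hB⟩ := exists_lift hM lam hC.one
  have hv := (sing_iff hM hB).1 hC.sing
  set z := g.1 v with hz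
  have hv0 : v ≠ 0 := fun h => hC.moved 0 (by simp [h])
  have hvz : B v z = 0 := tau_ext hB.one fun c => by rw [← hB.eq, hC.perp, mul_zero, map_zero]
  have hzv : B z v = 0 := by rw [B_symm hM hB, hvz]
  obtain ⟨v', hv', hvv'⟩ := exists_partner hM hB hv hv0
  have hgl : ∀ p : K, g.1 (p • v) = (p - algebraMap F K (lam p)) • v + lam p • z := by
    intro p
    have h : g.1 ((p - algebraMap F K (lam p)) • v) = (p - algebraMap F K (lam p)) • v := by
      apply hC.fix
      rw [map_sub, Algebra.algebraMap_eq_smul_one, map_smul, hC.one, smul_eq_mul, mul_one, sub_self]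
    conv_lhs => rw [← sub_add_cancel p (algebraMap F K (lam p)), add_smul, map_add, h, algebraMap_smul,
      LinearEquiv.map_smul]
  have hz0 : z ∉ Submodule.span K {v} := fun h => by
    obtain ⟨c, hc⟩ := Submodule.mem_span_singleton.1 h
    exact hC.moved c hc.symm
  obtain ⟨κ, hκ, hκ0⟩ : ∃ d, lam d = 0 ∧ d ≠ 0 := by
    obtain ⟨d, hd, hd0⟩ := (Submodule.ne_bot_iff (LinearMap.ker lam)).1 (fun h => by
      have h1 := LinearMap.finrank_range_add_finrank_ker lam
      have h2 := Submodule.finrank_le (LinearMap.range lam)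
      have := hM.prime.two_le
      rw [h, finrank_bot, add_zero] at h1
      rw [finrank_self] at h2
      omega)
    exact ⟨d, LinearMap.mem_ker.1 hd, hd0⟩
  obtain ⟨φ, hφz, hφ0⟩ := exists_dual_one _ hz0
  have hφv : φ v = 0 := hφ0 v (Submodule.mem_span_singleton_self v)
  have htr : ∀ c : K, ∃ t ∈ M, (∀ p : K, t.1 (p • v) = p • v) ∧ t.1 z = z + c • v := by
    intro c
    obtain ⟨w, hw⟩ := exists_vec hM hB ((-c) • φ)
    have hvw : B v w = 0 := by simp [hw, hφv]
    obtain ⟨t, ht, -, htx⟩ := E_mem hM hB hv hvw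
    refine ⟨t, ht, fun p => by rw [htx, ef]; simp [hv, hvw], ?_⟩
    rw [htx, ef, hzv, hw]
    simp [hφz]
  -- an element acting as a transvection on the line
  obtain ⟨t, ht, htv, htz⟩ := htr (-κ)
  let e : K →ₗ[F] K := LinearMap.id - (LinearMap.toSpanSingleton F K κ).comp lam
  have he : ∀ p : K, (g⁻¹ * t * g).1 (p • v) = e p • v := by
    intro p
    rw [mul_app, mul_app]
    apply g.1.injective
    rw [app_inv, hgl, map_add, htv, LinearEquiv.map_smul, htz, show e p = p - lam p • κ from rfl,
      sub_smul p (lam p • κ), map_sub, hgl p, smul_assoc (lam p) κ v, LinearEquiv.map_smul, hC.fix κ hκ]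
    module
  have hem : g⁻¹ * t * g ∈ M := mul_mem (mul_mem (inv_mem hC.mem) ht) hC.mem
  rcases test hM hB hv hv' hvv' hem e he with hR | ⟨hmult, -⟩
  swap
  · exfalso
    have h := hmult κ κ
    simp only [e, LinearMap.sub_apply, LinearMap.id_apply, LinearMap.comp_apply, LinearMap.toSpanSingleton_apply,
      hC.one, hκ, zero_smul, sub_zero, one_smul] at h
    set s := lam (κ * κ)
    have h2 : κ * κ = s • κ - algebraMap F K s := by
      apply mul_left_cancel₀ hκ0
      rw [Algebra.smul_def] at h ⊢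
      linear_combination -h
    have h3 := congrArg lam h2
    rw [map_sub, map_smul, hκ, smul_zero, zero_sub, Algebra.algebraMap_eq_smul_one, map_smul, hC.one, smul_eq_mul,
      mul_one] at h3
    have hs : s = 0 := (mul_eq_zero.1 (show (2 : F) * s = 0 by linear_combination h3)).resolve_left hM.two
    rw [hs, zero_smul, map_zero, sub_zero, mul_self_eq_zero] at h2
    exact hκ0 h2
  obtain ⟨ψ, hanti, hψ, C, hCm, hCx⟩ := hR
  set μ := ψ 1 with hμ
  have hlμ : lam μ = 0 := by
    have := hanti 1 1
    rw [← hμ, one_mul, mul_one] at this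
    exact (mul_eq_zero.1 (show (2 : F) * lam μ = 0 by linear_combination this)).resolve_left hM.two
  refine ⟨μ, hψ, hlμ, ?_⟩
  set G := g * C * g⁻¹ with hG
  have hP : ∀ x, B (g⁻¹.1 x) v = B x v + algebraMap F K (polar Q x z - lam (B x v)) := fun x => by
    refine tau_ext hB.one fun a => ?_
    rw [← hB.eq, hM.adj, polar_inv, hgl, polar_add_right, polar_smul_right, ← hM.adj, hB.eq, sub_mul,
      map_sub, ← Algebra.smul_def, map_smul, smul_eq_mul, mul_add, map_add, mul_comm a (algebraMap F K _),
      ← Algebra.smul_def, map_smul, smul_eq_mul, smul_eq_mul]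
    ring
  have hGx : ∀ x, G.1 x = x + (ψ (B x v) + (polar Q x z - lam (B x v)) • μ +
      algebraMap F K (lam (μ * B x v))) • v - lam (μ * B x v) • z := fun x => by
    rw [hG, mul_app, mul_app, hCx, map_add, app_inv, hgl, hP]
    set P := B x v
    set s := polar Q x z - lam P
    have e1 : ψ (P + algebraMap F K s) = ψ P + s • μ := by
      rw [map_add, Algebra.algebraMap_eq_smul_one, map_smul, ← hμ]
    have e2 : lam (ψ P + s • μ) = - lam (μ * P) := by
      have := hanti P 1
      rw [← hμ, mul_one] at this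
      rw [map_add, map_smul, hlμ, smul_zero, add_zero, mul_comm μ P]
      linear_combination this
    rw [e1, e2, map_neg, sub_neg_eq_add, neg_smul]
    abel
  have hGm : G ∈ M := mul_mem (mul_mem hC.mem hCm) (inv_mem hC.mem)
  intro c hcQ
  refine ⟨by rw [f_eq hM hB]; simp [hv], fun s => ?_⟩
  obtain ⟨t, ht, htv, htz⟩ := htr (s • c)
  set S := siegel Q (c • v) (s • μ • v) hcQ
    (by rw [polar_smul_right, f_eq hM hB]; simp [hv]) with hS
  suffices S = t * G * t⁻¹ * G⁻¹ by
    rw [this]
    exact mul_mem (mul_mem (mul_mem ht hGm) (inv_mem ht)) (inv_mem hGm)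
  have htv1 : t.1 v = v := by simpa using htv 1
  have key : ∀ y, t.1 (G.1 y) = S.1 (G.1 (t.1 y)) := by
    intro y
    have hPt : B (t.1 y) v = B y v := by
      refine tau_ext hB.one fun a => ?_
      rw [← hB.eq, ← hB.eq, hM.adj, hM.adj a y, ← polar_orth t y (a • v), htv]
    have hzt : polar Q (t.1 y) z = polar Q y z - lam (s • c * B y v) := by
      have : polar Q (t.1 y) (t.1 z) = polar Q y z := polar_orth t y z
      rw [htz, polar_add_right, ← hM.adj, hB.eq, hPt] at this
      linear_combination this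
    set P := B y v with hPd
    set s' := polar Q y z
    have hpu : ∀ a : K, polar Q (a • v) (G.1 (t.1 y)) = lam (a * P) := fun a => by
      rw [hB.eq, hGx, map_sub, map_add, map_smul (B v), LinearMap.map_smul_of_tower (B v), hv, hvz,
        B_symm hM hB v (t.1 y), hPt, smul_zero, smul_zero, add_zero, sub_zero]
    rw [hS, siegel_apply, polar_smul_left, hpu, hpu, show Q (s • μ • v) = 0 by
        rw [QuadraticMap.map_smul, Q_eq hM hB]; simp [hv],
      zero_mul, add_zero, hGx, hGx, hPt, hzt, map_sub, map_add, LinearEquiv.map_smul, htz, htv]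
    rw [smul_mul_assoc, map_smul]
    simp only [smul_eq_mul, sub_smul, add_smul, smul_smul, smul_assoc, smul_add, algebraMap_smul]
    module
  refine Subtype.ext (LinearEquiv.ext fun x => ?_)
  rw [mul_app, mul_app, mul_app, key, app_inv, app_inv]

end Cfsg.Agent.ExtFieldOrth
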