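import Mathlib
import Cfsg.Agent.Lib.ExtFieldOrthMoves
import Cfsg.Agent.Lib.OmegaStabTools

/-!
An overgroup of the K-isometries which does not preserve the K-structure contains the commutator subgroup.
-/

set_option autoImplicit false
set_option linter.unusedSectionVars false
set_option linter.style.haveILetI false
set_option maxHeartbeats 800000

namespace Cfsg.Agent.ExtFieldOrth

open QuadraticMap Module
open Cfsg.Agent.OrthUnitaryQuad
open Cfsg.Agent.ExtFieldMax (exists_dual_one)
open Cfsg.Agent.OrthUnitarySimple (conj_siegel siegel_congr)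

variable {F K V : Type*} [Field F] [Fintype F] [Field K] [Fintype K] [Algebra F K]
  [AddCommGroup V] [Module F V] [Module K V] [IsScalarTower F K V] [FiniteDimensional K V]
  [FiniteDimensional F V]

variable {Q : QuadraticForm F V} {M : Subgroup (orth Q)}

/-- The Siegel elements along `(u, y)` lie in `M`. -/
def Pair (M : Subgroup (orth Q)) (u y : V) : Prop :=
  ∃ h : Q u = 0, y ∈ ExtFieldGUOrth.W M h

theorem Pair.comm {u y : V} (hy : Q y = 0) (h : Pair M u y) : Pair M y u :=
  ⟨hy, ExtFieldGUOrth.W_comm hy h.2⟩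

theorem Pair.add {u y y' : V} (h : Pair M u y) (h' : Pair M u y') : Pair M u (y + y') :=
  ⟨h.1, add_mem h.2 h'.2⟩

theorem Pair.smul {u y : V} (h : Pair M u y) (s : F) : Pair M u (s • y) :=
  ⟨h.1, Submodule.smul_mem _ s h.2⟩

theorem Pair.conj {u y : V} (h : Pair M u y) {g : orth Q} (hg : g ∈ M) : Pair M (g.1 u) (g.1 y) := by
  obtain ⟨hu, hp, hy⟩ := h
  refine ⟨by rw [map_orth g, hu], by rw [polar_orth g, hp], fun c => ?_⟩
  have := mul_mem (mul_mem hg (hy c)) (inv_mem hg)
  rw [conj_siegel] at this
  convert this using 2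
  rw [map_smul]

/-- Vectors paired with the whole line. -/
def Lset (M : Subgroup (orth Q)) (v : V) : Set V := {y | ∀ c : K, Pair M (c • v) y}

section
variable {τ : K →ₗ[F] F} {B : V →ₗ[K] V →ₗ[K] K} (hM : Hyp K Q M) (hB : Lifts Q τ B)
include hM hB

theorem span_sq (P : Submodule F K) (h : ∀ a : K, a * a ∈ P) (c : K) : c ∈ P := by
  have h2 := two_ne hM hB
  rw [show c = (c + 1) / 2 * ((c + 1) / 2) - (c - 1) / 2 * ((c - 1) / 2) by field_simp; ring]
  exact sub_mem (h _) (h _)

theorem Q_line {v : V} (hv : B v v = 0) (c : K) : Q (c • v) = 0 := by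
  rw [Q_eq hM hB]; simp [hv]

/-- Non-degenerate subspaces have anisotropic vectors. -/
theorem exists_aniso' (W : Submodule K V) (hW : ∀ x ∈ W, (∀ z ∈ W, B x z = 0) → x = 0) {y : V} (hy : y ∈ W)
    (hy0 : y ≠ 0) : ∃ a ∈ W, B a a ≠ 0 := by
  have h2 := two_ne hM hB
  by_contra hcon
  push Not at hcon
  refine hy0 (hW y hy fun z hz => ?_)
  have h := hcon (y + z) (add_mem hy hz)
  simp [hcon y hy, hcon z hz, B_symm hM hB z y] at h
  exact (mul_eq_zero.1 (show (2 : K) * B y z = 0 by linear_combination h)).resolve_left h2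

theorem nondeg_inf (W : Submodule K V) (hW : ∀ x ∈ W, (∀ z ∈ W, B x z = 0) → x = 0) {a : V} (ha : a ∈ W)
    (haa : B a a ≠ 0) :
    ∀ x ∈ W ⊓ LinearMap.ker (B.flip a), (∀ z ∈ W ⊓ LinearMap.ker (B.flip a), B x z = 0) → x = 0 := by
  intro x hx h
  refine hW x hx.1 fun z hz => ?_
  have hxa : B x a = 0 := hx.2
  have := h (z - (B z a / B a a) • a) ⟨sub_mem hz (W.smul_mem _ ha), by simp [div_mul_cancel₀ _ haa]⟩
  simpa [hxa] using this

theorem finrank_inf_ker (W : Submodule K V) (φ : V →ₗ[K] K) :
    finrank K W ≤ finrank K ↥(W ⊓ LinearMap.ker φ) + 1 := by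
  have h1 := Submodule.finrank_sup_add_finrank_inf_eq W (LinearMap.ker φ)
  have h3 := LinearMap.finrank_range_add_finrank_ker φ
  have h4 := Submodule.finrank_le (LinearMap.range φ)
  have h5 := Submodule.finrank_le (W ⊔ LinearMap.ker φ)
  rw [finrank_self] at h4
  omega

/-- A parameter for a rotation with trace outside the small field. -/
theorem exists_t {a b : K} (ha : a ≠ 0) (hb : b ≠ 0) (hcase : ¬ IsSquare (-(a * b)) ∨ 3 ≤ finrank F K) :
    ∃ t : K, t ≠ 0 ∧ a + t * t * b ≠ 0 ∧ a - t * t * b ≠ 0 ∧
      ∀ s : F, 16 * a * b * (t * t) ≠ algebraMap F K s * ((a + t * t * b) * (a + t * t * b)) := by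
  classical
  have h2 := two_ne hM hB
  have hr := hM.prime.two_le
  by_contra hcon
  push Not at hcon
  have hq : 3 ≤ Fintype.card F := by
    have := FiniteField.odd_card_of_char_ne_two (F := F) (fun h => hM.two (by
      have := ringChar.Nat.cast_ringChar (R := F)
      rw [h] at this
      simpa using this))
    have := Fintype.one_lt_card (α := F)
    omega
  obtain ⟨E, hE0, hEd, hE⟩ : ∃ E : Polynomial K, E ≠ 0 ∧
      E.natDegree + 4 * Fintype.card F ≤ Fintype.card K + 4 ∧
      ∀ t, a + t * t * b = 0 → E.eval t = 0 := by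
    by_cases hsq : IsSquare (-(a * b))
    · have hr3 := hcase.resolve_left (not_not.2 hsq)
      refine ⟨Polynomial.C b * Polynomial.X ^ 2 + Polynomial.C a, fun h => ha ?_, ?_, fun t ht => ?_⟩
      · simpa using congrArg (Polynomial.eval 0) h
      · have h1 : (Polynomial.C b * Polynomial.X ^ 2 + Polynomial.C a).natDegree ≤ 2 := by compute_degree
        have h3 : Fintype.card F ^ 3 ≤ Fintype.card K := by
          rw [Module.card_eq_pow_finrank (K := F) (V := K)]
          exact Nat.pow_le_pow_right (by omega) hr3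
        have : 9 * Fintype.card F ≤ Fintype.card F ^ 3 := by
          calc 9 * Fintype.card F ≤ (Fintype.card F * Fintype.card F) * Fintype.card F :=
                Nat.mul_le_mul_right _ (Nat.mul_le_mul hq hq)
            _ = _ := by ring
        omega
      · simp only [Polynomial.eval_add, Polynomial.eval_mul, Polynomial.eval_C, Polynomial.eval_pow, Polynomial.eval_X]
        linear_combination ht
    · refine ⟨1, one_ne_zero, ?_, fun t ht => ?_⟩
      · have h3 : Fintype.card F ^ 2 ≤ Fintype.card K := by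
          rw [Module.card_eq_pow_finrank (K := F) (V := K)]
          exact Nat.pow_le_pow_right (by omega) hr
        rw [Polynomial.natDegree_one]
        zify at *
        nlinarith [sq_nonneg ((Fintype.card F : ℤ) - 2)]
      · exact absurd ⟨t * b, by linear_combination (-b) * ht⟩ hsq
  let S : Finset F := Finset.univ \ {0, 4}
  let G : F → Polynomial K := fun s => Polynomial.C (algebraMap F K s) *
    (Polynomial.C a + Polynomial.C b * Polynomial.X ^ 2) ^ 2 - Polynomial.C (16 * a * b) * Polynomial.X ^ 2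
  let P : Polynomial K :=
    E * Polynomial.X * (Polynomial.C a - Polynomial.C b * Polynomial.X ^ 2) * ∏ s ∈ S, G s
  have h4 : (4 : F) ≠ 0 := by
    rw [show (4 : F) = 2 * 2 by norm_num]; exact mul_ne_zero hM.two hM.two
  have hS : S.card + 2 = Fintype.card F := by
    rw [Finset.card_sdiff, Finset.inter_univ, Finset.card_pair h4.symm, Finset.card_univ]; omega
  have hGd : ∀ s, (G s).natDegree ≤ 4 := fun s => by simp only [G]; compute_degree
  have hP0 : P ≠ 0 := by
    refine mul_ne_zero (mul_ne_zero (mul_ne_zero hE0 Polynomial.X_ne_zero) fun h => ha ?_) ?_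
    · simpa using congrArg (Polynomial.eval 0) h
    · refine Finset.prod_ne_zero_iff.2 fun s hs h => ?_
      have hs0 : s ≠ 0 := by
        intro h0
        simp [S, h0] at hs
      have := congrArg (Polynomial.eval 0) h
      simp [G, ha, hs0] at this
  have hdeg : P.natDegree ≤ E.natDegree + 1 + 2 + 4 * S.card := by
    refine Polynomial.natDegree_mul_le.trans (Nat.add_le_add (Polynomial.natDegree_mul_le.trans
      (Nat.add_le_add (Polynomial.natDegree_mul_le.trans (Nat.add_le_add le_rfl Polynomial.natDegree_X.le)) ?_)) ?_)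
    · compute_degree
    · refine (Polynomial.natDegree_prod_le _ _).trans ((Finset.sum_le_sum fun s _ => hGd s).trans ?_)
      simp [mul_comm]
  apply hP0
  refine Polynomial.eq_zero_of_natDegree_lt_card_of_eval_eq_zero P Function.injective_id (fun t => ?_) (by omega)
  simp only [id, P, Polynomial.eval_mul, Polynomial.eval_sub, Polynomial.eval_C, Polynomial.eval_pow,
    Polynomial.eval_X, Polynomial.eval_prod]
  by_cases ht0 : t = 0
  · simp [ht0]
  by_cases hp : a + t * t * b = 0
  · rw [hE t hp]; simp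
  by_cases hm : a - t * t * b = 0
  · rw [show a - b * t ^ 2 = 0 by linear_combination hm]; simp
  obtain ⟨s, hs⟩ := hcon t ht0 hp hm
  have h16 : (16 : K) * a * b * (t * t) ≠ 0 := by
    rw [show (16 : K) = 2 * 2 * 2 * 2 by norm_num]
    simp [h2, ha, hb, ht0]
  have hsS : s ∈ S := by
    have h0 : s ≠ 0 := fun h => h16 (by rw [hs, h, map_zero, zero_mul])
    have h44 : s ≠ 4 := by
      intro h
      rw [h, map_ofNat] at hs
      have : (4 : K) * ((a - t * t * b) * (a - t * t * b)) = 0 := by linear_combination -hs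
      simp [hm, show (4 : K) = 2 * 2 by norm_num, h2] at this
    simp [S, h0, h44]
  rw [Finset.prod_eq_zero hsS]
  · simp
  · simp only [G, Polynomial.eval_sub, Polynomial.eval_mul, Polynomial.eval_C, Polynomial.eval_pow,
      Polynomial.eval_add, Polynomial.eval_X]
    linear_combination -hs

section
variable {v v' : V} (hv : B v v = 0) (hv' : B v' v' = 0) (hvv' : B v v' = 1)
include hv hv' hvv'

/-- A rotation plane. -/
theorem plane_le (S : Submodule F V)
    (hS : ∀ g ∈ M, (∀ c : K, g.1 (c • v) = c • v) → ∀ y ∈ S, g.1 y ∈ S)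
    {a b : V} (ha : a ∈ pperp B v v') (hb : b ∈ pperp B v v') (hab : B a b = 0) (haa : B a a ≠ 0)
    (hbb : B b b ≠ 0) (hcase : ¬ IsSquare (-(B a a * B b b)) ∨ 3 ≤ finrank F K) {y : V} (hy : y ∈ S)
    (hyq : B y a ^ 2 * B b b + B y b ^ 2 * B a a ≠ 0) : ∀ c : K, c • a ∈ S := by
  classical
  have h2 := two_ne hM hB
  obtain ⟨t, ht0, hp, hm, hγF⟩ := exists_t hM hB haa hbb hcase
  set A := B a a
  set C := B b b
  have hba : B b a = 0 := by rw [B_symm hM hB, hab]
  set b' := a + t • b with hb'
  have hb'q : B b' b' = A + t * t * C := by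
    simp [hb', hab, hba, A, C]
    ring
  have hb'0 : B b' b' ≠ 0 := by rw [hb'q]; exact hp
  obtain ⟨σ, hσ, hσl, hσx⟩ := exists_rot hM hB haa hb'0
  obtain ⟨σ', hσ', hσl', hσx'⟩ := exists_rot hM hB hb'0 haa
  rw [mem_pperp] at ha hb
  have hσv : ∀ c : K, σ.1 (c • v) = c • v := fun c => by
    rw [hσx]; simp [sf, hb', B_symm hM hB v a, B_symm hM hB v b, ha, hb]
  have hσv' : ∀ c : K, σ'.1 (c • v) = c • v := fun c => by
    rw [hσx']; simp [sf, hb', B_symm hM hB v a, B_symm hM hB v b, ha, hb]
  set q := A + t * t * C with hq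
  set cs := (A - t * t * C) / q with hcs
  set n := 4 * t * cs / q with hn
  set a' := cs * cs - 4 * A * C * (t * t) / (q * q) with ha'
  have hσlin : ∀ x, σ.1 x = x + (a' - 1) • ((B x a / A) • a + (B x b / C) • b) +
      (n * B x b) • a - (n * B x a) • b := fun x => by
    rw [hσx]
    simp only [sf, hb', map_add, map_sub, map_smul, LinearMap.add_apply, LinearMap.sub_apply,
      LinearMap.smul_apply, smul_eq_mul, hab, hba]
    simp only [show B a a = A from rfl, show B b b = C from rfl, mul_zero, add_zero, zero_add, sub_zero]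
    rw [show A + t * (t * C) = q by rw [hq]; ring, ha', hn, hcs]
    match_scalars
    · ring
    · field_simp
      rw [hq]
      ring
    · field_simp
      rw [hq]
      ring
  have hσlin' : ∀ x, σ'.1 x = x + (a' - 1) • ((B x a / A) • a + (B x b / C) • b) -
      (n * B x b) • a + (n * B x a) • b := fun x => by
    rw [hσx']
    simp only [sf, hb', map_add, map_sub, map_smul, LinearMap.add_apply, LinearMap.sub_apply,
      LinearMap.smul_apply, smul_eq_mul, hab, hba]
    simp only [show B a a = A from rfl, show B b b = C from rfl, mul_zero, add_zero, zero_add, sub_zero]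
    rw [show A + t * (t * C) = q by rw [hq]; ring, ha', hn, hcs]
    match_scalars
    · ring
    · field_simp
      rw [hq]
      ring
    · field_simp
      rw [hq]
      ring
  set γ := 2 * (a' - 1) with hγ
  have hsum : ∀ x, x ∈ S → γ • ((B x a / A) • a + (B x b / C) • b) ∈ S := fun x hx => by
    have : γ • ((B x a / A) • a + (B x b / C) • b) = σ.1 x + σ'.1 x - x - x := by
      rw [hσlin, hσlin', hγ]; module
    rw [this]
    exact sub_mem (sub_mem (add_mem (hS σ hσ hσv x hx) (hS σ' hσ' hσv' x hx)) hx) hx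
  have hγK : γ ∉ (⊥ : Subalgebra F K) := by
    intro h
    obtain ⟨s, hs⟩ := Algebra.mem_bot.1 h
    refine hγF (-s) ?_
    have e : γ * (q * q) = -(16 * A * C * (t * t)) := by
      rw [hγ, ha', hcs]; field_simp; rw [hq]; ring
    rw [← hs] at e
    rw [map_neg]
    linear_combination e
  have hγ0 : γ ≠ 0 := fun h => hγK (by rw [h]; exact zero_mem _)
  set yP := (B y a / A) • a + (B y b / C) • b with hyP
  have hPa : ∀ k : K, (B (k • yP) a / A) • a + (B (k • yP) b / C) • b = k • yP := fun k => by
    rw [hyP]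
    simp [hab, hba, smul_add, smul_smul]
    simp only [show B a a = A from rfl, show B b b = C from rfl]
    match_scalars <;> field_simp
  let L : Subalgebra F K :=
    { carrier := {k | ∀ l : K, l • yP ∈ S → (k * l) • yP ∈ S}
      mul_mem' := fun {k k'} h h' l hl => by rw [mul_assoc]; exact h _ (h' l hl)
      one_mem' := fun l hl => by rwa [one_mul]
      add_mem' := fun {k k'} h h' l hl => by rw [add_mul, add_smul]; exact add_mem (h l hl) (h' l hl)
      zero_mem' := fun l _ => by rw [zero_mul, zero_smul]; exact zero_mem S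
      algebraMap_mem' := fun s l hl => by rw [← Algebra.smul_def, smul_assoc]; exact S.smul_mem s hl }
  haveI := Subalgebra.isSimpleOrder_of_finrank_prime F K hM.prime
  have hL : L = ⊤ := (eq_bot_or_eq_top L).resolve_left fun h => hγK (h ▸ (show γ ∈ L from fun l hl => by
    have := hsum _ hl
    rwa [hPa, smul_smul] at this))
  have hall : ∀ k : K, k • yP ∈ S := fun k => by
    have h : k / γ ∈ L := hL ▸ Algebra.mem_top
    have := h γ (hsum y hy)
    rwa [div_mul_cancel₀ _ hγ0] at this
  -- a second, independent vector of the plane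
  set α := B y a / A with hα
  set β := B y b / C with hβ
  have hσy : ∀ k : K, (k * (a' * α + n * (β * C))) • a + (k * (a' * β - n * (α * A))) • b ∈ S := fun k => by
    have h := hS σ hσ hσv _ (hall k)
    rw [hσlin] at h
    have e1 : B (k • yP) a = k * (α * A) := by
      rw [hyP]; simp [hab, hba, A, hα, hβ]
    have e2 : B (k • yP) b = k * (β * C) := by
      rw [hyP]; simp [hab, hba, C, hα, hβ]
    rw [e1, e2] at h
    convert h using 1
    rw [hyP]
    match_scalars <;> field_simp <;> ring
  have hdet : n * (α * α * A + β * β * C) ≠ 0 := by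
    refine mul_ne_zero ?_ fun h0 => hyq ?_
    · rw [hn, hcs]
      refine div_ne_zero (mul_ne_zero (mul_ne_zero ?_ ht0) (div_ne_zero hm hp)) hp
      rw [show (4 : K) = 2 * 2 by norm_num]; exact mul_ne_zero h2 h2
    · rw [hα, hβ] at h0
      field_simp at h0
      linear_combination h0
  intro c
  set D := n * (α * α * A + β * β * C) with hD
  have h := sub_mem (hσy (c * β / D)) (hall (c * (a' * β - n * (α * A)) / D))
  convert h using 1
  rw [hyP]
  match_scalars
  · field_simp
    rw [hD]; ring
  · field_simp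
    ring

/-- The whole orthogonal of the line. -/
theorem perp_le {S : Submodule F V} (hline : ∀ c : K, c • v ∈ S)
    (hS : ∀ g ∈ M, (∀ c : K, g.1 (c • v) = c • v) → ∀ y ∈ S, g.1 y ∈ S)
    (hroot : ∀ e : V, B e e = 0 → e ≠ 0 → ∀ a c : K, Pair M (c • e) (a • e))
    {y : V} (hy : y ∈ pperp B v v') (hy0 : y ≠ 0) (hyS : y ∈ S) : ∀ x, B x v = 0 → x ∈ S := by
  classical
  have h2 := two_ne hM hB
  have hd := finrank_pperp hM hB hv hv' hvv'
  have hnd : ∀ x ∈ pperp B v v', (∀ z ∈ pperp B v v', B x z = 0) → x = 0 := fun x hx h =>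
    pperp_nondeg hM hB hv hv' hvv' hx h
  -- a non-singular vector
  obtain ⟨w, hw, hwS, hww⟩ : ∃ w ∈ pperp B v v', w ∈ S ∧ B w w ≠ 0 := by
    by_cases hyy : B y y = 0
    swap
    · exact ⟨y, hy, hyS, hyy⟩
    obtain ⟨q, hq, hyq⟩ : ∃ q ∈ pperp B v v', B y q ≠ 0 := by
      by_contra hc
      push Not at hc
      exact hy0 (hnd y hy hc)
    set q' := (B y q)⁻¹ • q with hq'
    set f := q' - (2⁻¹ * B q' q') • y with hf
    have hfp : f ∈ pperp B v v' := sub_mem (Submodule.smul_mem _ _ hq) (Submodule.smul_mem _ _ hy)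
    have hyf : B y f = 1 := by simp [hf, hq', hyy, inv_mul_cancel₀ hyq]
    have hyq' : B y q' = 1 := by simp [hq', inv_mul_cancel₀ hyq]
    have hff : B f f = 0 := by
      simp [hf, hyy, hyq', B_symm hM hB q' y]
      field_simp
      ring
    have hfy : B f y = 1 := by rw [B_symm hM hB, hyf]
    obtain ⟨κ, hκ, hκ0⟩ : ∃ d, τ d = 0 ∧ d ≠ 0 := by
      haveI : FiniteDimensional F K := Module.Finite.of_finite
      obtain ⟨d, hd, hd0⟩ := (Submodule.ne_bot_iff (LinearMap.ker τ)).1 (fun h => by
        have h1 := LinearMap.finrank_range_add_finrank_ker τ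
        have h3 := Submodule.finrank_le (LinearMap.range τ)
        have := hM.prime.two_le
        rw [h, finrank_bot, add_zero] at h1
        rw [finrank_self] at h3
        omega)
      exact ⟨d, LinearMap.mem_ker.1 hd, hd0⟩
    obtain ⟨hQ0, hW⟩ := hroot f hff (fun h => by simp [h] at hyf) κ 1
    obtain ⟨g, hg, hgx⟩ := ExtFieldGUOrth.W_apply (Q_line hM hB hff κ) hW
    have hvf : B f v = 0 ∧ B f v' = 0 := mem_pperp.1 hfp
    have hgv : ∀ c : K, g.1 (c • v) = c • v := fun c => by
      rw [hgx, hB.eq, hB.eq]; simp [hvf]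
    have hgy : g.1 y = y + κ • f := by
      rw [hgx, hB.eq, hB.eq, hfy]; simp [hκ, hB.one]
    refine ⟨y + κ • f, add_mem hy (Submodule.smul_mem _ _ hfp), hgy ▸ hS g hg hgv y hyS, ?_⟩
    simp [hyy, hff, hyf, hfy]
    intro h
    exact hκ0 ((mul_eq_zero.1 (show (2 : K) * κ = 0 by linear_combination h)).resolve_left h2)
  -- anisotropic vectors
  have step : ∀ {a : V}, a ∈ pperp B v v' → B a a ≠ 0 → ∀ {y : V}, y ∈ pperp B v v' → y ∈ S → B y y ≠ 0 →
      B y a ≠ 0 → ∀ c : K, c • a ∈ S := by
    intro a ha haa y hyp hyS hyy hya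
    have hnd1 := nondeg_inf hM hB _ hnd ha haa
    set W1 := pperp B v v' ⊓ LinearMap.ker (B.flip a) with hW1
    have h1 := finrank_inf_ker hM hB (pperp B v v') (B.flip a)
    rw [← hW1] at h1
    have := hM.dim
    obtain ⟨x₁, hx₁, hx₁0⟩ := (Submodule.ne_bot_iff W1).1 fun h => by
      rw [h, finrank_bot] at h1; omega
    obtain ⟨b, hb, hbb⟩ := exists_aniso' hM hB W1 hnd1 hx₁ hx₁0
    rcases hM.dim.eq_or_lt with h4 | h5
    · have hab : B a b = 0 := by rw [B_symm hM hB]; exact hb.2
      have hcase : ¬ IsSquare (-(B a a * B b b)) ∨ 3 ≤ finrank F K := by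
        rcases hM.big h4.symm with h | h
        · exact Or.inr h
        refine Or.inl fun ⟨r, hr⟩ => ?_
        set x := B b b • a + r • b with hx
        have hap := mem_pperp.1 ha
        have hbp := mem_pperp.1 hb.1
        have hxx : B x x = 0 := by
          simp [hx, hab, B_symm hM hB b a]
          linear_combination (-B b b) * hr
        have hvx : B v x = 0 := by
          rw [B_symm hM hB]; simp [hx, hap.1, hbp.1]
        obtain ⟨e, he⟩ := h v x ((sing_iff hM hB).2 hv) ((sing_iff hM hB).2 hxx)
          (fun c => by rw [hB.eq, hvx, mul_zero, map_zero]) (v_ne hM hB hv hv' hvv')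
        have e1 := congrArg (fun q => B q v') he
        simp [hx, hap.2, hbp.2, hvv'] at e1
        have e2 := congrArg (fun q => B q a) he
        simp [hx, B_symm hM hB b a, hab, ← e1] at e2
        rcases e2 with e2 | e2
        · exact hbb e2
        · exact haa e2
      refine plane_le hM hB hv hv' hvv' S hS ha hb.1 hab haa hbb hcase hyS ?_
      -- `a`, `b` span
      have hyd : y = (B y a / B a a) • a + (B y b / B b b) • b := by
        by_contra hne
        set u := y - ((B y a / B a a) • a + (B y b / B b b) • b) with hu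
        have hua : B u a = 0 := by simp [hu, hab, B_symm hM hB b a, div_mul_cancel₀ _ haa]
        have hub : B u b = 0 := by simp [hu, hab, B_symm hM hB b a, div_mul_cancel₀ _ hbb]
        have hnd2 := nondeg_inf hM hB W1 hnd1 hb hbb
        set W2 := W1 ⊓ LinearMap.ker (B.flip b)
        have huW : u ∈ W2 := ⟨⟨sub_mem hyp (add_mem (Submodule.smul_mem _ _ ha) (Submodule.smul_mem _ _ hb.1)), hua⟩,
          hub⟩
        obtain ⟨c, hc, hcc⟩ := exists_aniso' hM hB W2 hnd2 huW (sub_ne_zero.2 hne)
        have hind : LinearIndependent K ![a, b, c] := by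
          rw [Fintype.linearIndependent_iff]
          intro g hg
          simp [Fin.sum_univ_three] at hg
          have hac : B a c = 0 := by rw [B_symm hM hB]; exact hc.1.2
          have hbc : B b c = 0 := by rw [B_symm hM hB]; exact hc.2
          have e0 := congrArg (fun z => B z a) hg
          have e1 := congrArg (fun z => B z b) hg
          have e2 := congrArg (fun z => B z c) hg
          simp [hab, B_symm hM hB b a, haa, show B c a = 0 from hc.1.2] at e0
          simp [hab, hbb, show B c b = 0 from hc.2] at e1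
          simp [hac, hbc, hcc] at e2
          intro i
          fin_cases i <;> assumption
        have h3 : finrank K (Submodule.span K (Set.range ![a, b, c])) ≤ finrank K (pperp B v v') :=
          Submodule.finrank_mono (Submodule.span_le.2 (by
            rintro _ ⟨i, rfl⟩
            fin_cases i
            exacts [ha, hb.1, hc.1.1]))
        rw [finrank_span_eq_card hind, Fintype.card_fin] at h3
        omega
      intro h0
      apply hyy
      conv_lhs => rw [hyd]
      simp [hab, B_symm hM hB b a]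
      field_simp
      linear_combination h0
    · -- an elliptic plane
      set W2 := W1 ⊓ LinearMap.ker (B.flip b) with hW2
      have hnd2 := nondeg_inf hM hB W1 hnd1 hb hbb
      have h2' := finrank_inf_ker hM hB W1 (B.flip b)
      rw [← hW2] at h2'
      obtain ⟨x₂, hx₂, hx₂0⟩ := (Submodule.ne_bot_iff W2).1 fun h => by
        rw [h, finrank_bot] at h2'; omega
      obtain ⟨c, hc, hcc⟩ := exists_aniso' hM hB W2 hnd2 hx₂ hx₂0
      haveI : FiniteDimensional F K := Module.Finite.of_finite
      obtain ⟨ν, hν⟩ := FiniteField.exists_nonsquare (F := K) (fun h => h2 (by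
        have := ringChar.Nat.cast_ringChar (R := K)
        rw [h] at this
        simpa using this))
      have hν0 : ν ≠ 0 := fun h => hν (h ▸ IsSquare.zero)
      obtain ⟨s, u, hsu⟩ := FiniteField.exists_root_sum_quadratic
        (f := Polynomial.C (B b b) * Polynomial.X ^ 2)
        (g := Polynomial.C (B c c) * Polynomial.X ^ 2 + Polynomial.C (ν / B a a))
        (Polynomial.degree_C_mul_X_pow 2 hbb)
        (by
          rw [Polynomial.degree_add_eq_left_of_degree_lt] <;> rw [Polynomial.degree_C_mul_X_pow 2 hcc]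
          · rfl
          · exact lt_of_le_of_lt Polynomial.degree_C_le (by decide))
        (FiniteField.odd_card_of_char_ne_two (fun h => h2 (by
          have := ringChar.Nat.cast_ringChar (R := K)
          rw [h] at this
          simpa using this)))
      simp only [Polynomial.eval_add, Polynomial.eval_mul, Polynomial.eval_C, Polynomial.eval_pow,
        Polynomial.eval_X] at hsu
      set b' := s • b + u • c with hb'
      have hcb : B c b = 0 := hc.2
      have hqb : B b' b' = -(ν / B a a) := by
        simp [hb', hcb, B_symm hM hB b c]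
        linear_combination hsu
      have hb'p : b' ∈ W1 := add_mem (W1.smul_mem _ hb) (W1.smul_mem _ hc.1)
      have hab' : B a b' = 0 := by rw [B_symm hM hB]; exact hb'p.2
      have hns : ¬ IsSquare (-(B a a * B b' b')) := by
        rw [hqb, mul_neg, neg_neg, mul_div_cancel₀ _ haa]; exact hν
      refine plane_le hM hB hv hv' hvv' S hS ha hb'p.1 hab' haa
        (by rw [hqb]; exact neg_ne_zero.2 (div_ne_zero hν0 haa)) (Or.inl hns) hyS ?_
      intro h0
      apply hns
      exact ⟨B y b' * B a a / B y a, by field_simp; linear_combination -h0⟩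
  have hwK := step hw hww hw hwS hww hww
  have hanis : ∀ c ∈ pperp B v v', B c c ≠ 0 → ∀ k : K, k • c ∈ S := by
    intro c hc hcc
    by_cases hwc : B w c = 0
    swap
    · exact step hc hcc hw hwS hww hwc
    obtain ⟨t, ht0, ht⟩ : ∃ t : K, t ≠ 0 ∧ B w w + t * t * B c c ≠ 0 := by
      by_cases h : B w w + B c c = 0
      · obtain ⟨d, hd0, hd⟩ := exists_sq_ne hM hB
        refine ⟨d, hd0, fun h' => ?_⟩
        have : (d * d - 1) * B c c = 0 := by linear_combination h' - h
        refine hd 1 ?_
        rw [map_one]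
        exact sub_eq_zero.1 ((mul_eq_zero.1 this).resolve_right hcc)
      · exact ⟨1, one_ne_zero, by rwa [one_mul, one_mul]⟩
    have hcw : B c w = 0 := by rw [B_symm hM hB, hwc]
    set m := w + t • c with hm
    have hmm : B m m = B w w + t * t * B c c := by
      simp [hm, hwc, hcw]; ring
    have hmS : ∀ k : K, k • m ∈ S := step (add_mem hw (Submodule.smul_mem _ _ hc)) (by rw [hmm]; exact ht) hw hwS
      hww (by simp [hm, hwc, hww])
    refine step hc hcc (add_mem hw (Submodule.smul_mem _ _ hc)) (by simpa using hmS 1) (by rw [hmm]; exact ht)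
      (by simp [hm, hwc, ht0, hcc])
  intro x hx
  have hd' := decomp hM hB hv hv' hvv' x
  rw [hx, zero_smul, sub_zero] at hd'
  rw [show x = B x v' • v + (x - B x v' • v) by abel]
  refine add_mem (hline _) ?_
  set π := x - B x v' • v
  by_cases hπ0 : π = 0
  · rw [hπ0]; exact zero_mem S
  by_cases hππ : B π π = 0
  swap
  · simpa using hanis π hd' hππ 1
  obtain ⟨a, ha, haa, hπa⟩ := exists_aniso hM hB hv hv' hvv' hd' hπ0
  obtain ⟨a', ha', haa', hpa'⟩ : ∃ a' ∈ pperp B v v', B a' a' ≠ 0 ∧ B (π + a') (π + a') ≠ 0 := by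
    by_cases h : B (π + a) (π + a) = 0
    · refine ⟨-a, neg_mem ha, by simpa using haa, fun h' => haa ?_⟩
      simp [hππ, B_symm hM hB a π] at h h'
      exact (mul_eq_zero.1 (show (2 : K) * B a a = 0 by linear_combination h + h')).resolve_left h2
    · exact ⟨a, ha, haa, h⟩
  have := sub_mem (hanis _ (add_mem hd' ha') hpa' 1) (hanis a' ha' haa' 1)
  simpa using this

end

end

/-- The main theorem. -/
theorem commutator_le (hM : Hyp K Q M) : commutator (orth Q) ≤ M := by
  classical
  obtain ⟨v, lam, g, hC⟩ := exists_config hM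
  obtain ⟨μ, hμ0, hlμ, hμ⟩ := exists_pairs hM hC
  obtain ⟨B, hB⟩ := exists_lift hM lam hC.one
  have hv := (sing_iff hM hB).1 hC.sing
  have hv0 : v ≠ 0 := fun h => hC.moved 0 (by simp [h])
  obtain ⟨v', hv', hvv'⟩ := exists_partner hM hB hv hv0
  have hBv'v : B v' v = 1 := by rw [B_symm hM hB, hvv']
  -- the line
  have hUU : ∀ a c : K, Pair M (c • v) (a • v) := by
    intro a
    let P : Submodule F K :=
      { carrier := {a | ∀ c : K, Pair M (c • v) (a • v)}
        add_mem' := fun {a b} ha hb c => by rw [add_smul]; exact (ha c).add (hb c)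
        zero_mem' := fun c => ⟨Q_line hM hB hv c, by rw [zero_smul]; exact zero_mem _⟩
        smul_mem' := fun s a ha c => by rw [smul_assoc]; exact (ha c).smul s }
    refine (show ∀ a, a ∈ P from fun a => ?_) a
    let P' : Submodule F K := P.comap (LinearMap.mulLeft F μ)
    have hP' : ∀ d : K, d * d ∈ P' := by
      intro d c
      by_cases hd : d = 0
      · subst hd
        exact ⟨Q_line hM hB hv c, by simp⟩
      obtain ⟨h, hh, hl, e1, -⟩ := exists_torus hM hB hv hv' hvv' hd
      have h3 := (show Pair M ((c / (d * d)) • v) (μ • v) from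
        ⟨Q_line hM hB hv _, hμ _ (Q_line hM hB hv _)⟩).conj hh
      rw [hl, hl, e1, smul_smul, smul_smul, div_mul_cancel₀ _ (mul_ne_zero hd hd)] at h3
      exact h3
    have := span_sq hM hB P' hP' (a / μ)
    simpa [P', mul_div_cancel₀ _ hμ0] using this
  set z := g.1 v with hz
  have hzv : B z v = 0 := by
    rw [B_symm hM hB]
    exact tau_ext hB.one fun c => by rw [← hB.eq, hC.perp, mul_zero, map_zero]
  have hzQ : Q z = 0 := by
    rw [hz, map_orth g]; simpa using Q_line hM hB hv 1
  let P : Submodule F K :=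
    (ExtFieldGUOrth.W M hzQ).comap ((LinearMap.toSpanSingleton K V v).restrictScalars F)
  have hker : ∀ p, lam p = 0 → p ∈ P := fun p hp => by
    have h := (hUU 1 p).conj hC.mem
    rw [one_smul, hC.fix p hp] at h
    exact (h.comm hzQ).2
  have hPall : ∀ p, p ∈ P := by
    intro p
    have hsq : ∀ d κ : K, lam κ = 0 → d * d * κ ∈ P := by
      intro d κ hκ
      by_cases hd : d = 0
      · simp [hd]
      obtain ⟨h, hh, hl, e1, -, e3⟩ := exists_torus hM hB hv hv' hvv' hd
      have hd' := decomp hM hB hv hv' hvv' z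
      rw [hzv, zero_smul, sub_zero] at hd'
      have hhz : h.1 z = z + ((d * d - 1) * B z v') • v := by
        conv_lhs => rw [show z = B z v' • v + (z - B z v' • v) by abel]
        rw [map_add, hl, e1, e3 _ hd', smul_smul, sub_mul, sub_smul, one_mul]
        rw [mul_comm (B z v')]
        abel
      have h3 := (show Pair M (κ • v) z from Pair.comm (Q_line hM hB hv κ) ⟨hzQ, hker κ hκ⟩).conj hh
      rw [hl, e1, smul_smul, hhz, mul_comm κ] at h3
      have h4 := h3.add (hUU (-((d * d - 1) * B z v')) (d * d * κ))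
      rw [neg_smul, add_neg_cancel_right] at h4
      exact (h4.comm hzQ).2
    haveI : FiniteDimensional F K := Module.Finite.of_finite
    obtain ⟨κ, hκ, hκ0⟩ : ∃ d, lam d = 0 ∧ d ≠ 0 := ⟨μ, hlμ, hμ0⟩
    have h := span_sq hM hB (P.comap (LinearMap.mulRight F κ)) (fun d => hsq d κ hκ) (p / κ)
    simpa [div_mul_cancel₀ _ hκ0] using h
  let S : Submodule F V :=
    { carrier := {y | ∀ c : K, Pair M (c • v) y}
      add_mem' := fun {a b} ha hb c => (ha c).add (hb c)
      zero_mem' := fun c => ⟨Q_line hM hB hv c, zero_mem _⟩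
      smul_mem' := fun s a ha c => (ha c).smul s }
  have hzS : z ∈ S := fun c => Pair.comm (Q_line hM hB hv c) ⟨hzQ, hPall c⟩
  have hline : ∀ c : K, c • v ∈ S := fun c c' => hUU c c'
  have hSst : ∀ g ∈ M, (∀ c : K, g.1 (c • v) = c • v) → ∀ y ∈ S, g.1 y ∈ S := fun g hg hgv y hy c => by
    have := (hy c).conj hg
    rwa [hgv] at this
  have hroot : ∀ e : V, B e e = 0 → e ≠ 0 → ∀ a c : K, Pair M (c • e) (a • e) := fun e he he0 a c => by
    obtain ⟨h, hh, hhe, hl⟩ := exists_transitive hM hB hv he hv0 he0
    have := (hUU a c).conj hh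
    rwa [hl, hl, hhe] at this
  set π := z - B z v' • v with hπ
  have hπp : π ∈ pperp B v v' := by
    have := decomp hM hB hv hv' hvv' z
    rwa [hzv, zero_smul, sub_zero] at this
  have hπ0 : π ≠ 0 := fun h => hC.moved (B z v') (sub_eq_zero.1 h)
  have hall : ∀ x, B x v = 0 → x ∈ S :=
    perp_le hM hB hv hv' hvv' hline hSst hroot hπp hπ0 (sub_mem hzS (hline _))
  -- the opposite line
  have hv'0 : v' ≠ 0 := fun h => by simp [h] at hvv'
  obtain ⟨h, hh, hhv, hl⟩ := exists_transitive hM hB hv hv' hv0 hv'0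
  have hall' : ∀ x, B x v' = 0 → ∀ c : K, Pair M (c • v') x := fun x hx c => by
    have := (hall (h⁻¹.1 x) (by rw [← B_map hM hB hl, app_inv, hhv, hx]) c).conj hh
    rwa [app_inv, hl, hhv] at this
  obtain ⟨y₁, hy₁, hy₁0⟩ := (Submodule.ne_bot_iff (pperp B v v')).1 (fun h => by
    have := finrank_pperp hM hB hv hv' hvv'
    have := hM.dim
    rw [h, finrank_bot] at *
    omega)
  obtain ⟨y₂, hy₂, hy₁₂⟩ : ∃ y₂ ∈ pperp B v v', polar Q y₁ y₂ = 1 := by
    obtain ⟨q, hq, hyq⟩ : ∃ q ∈ pperp B v v', B y₁ q ≠ 0 := by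
      by_contra hc
      push Not at hc
      exact hy₁0 (pperp_nondeg hM hB hv hv' hvv' hy₁ hc)
    exact ⟨(B y₁ q)⁻¹ • q, Submodule.smul_mem _ _ hq, by
      rw [f_eq hM hB]; simp [inv_mul_cancel₀ hyq, hB.one]⟩
  rw [mem_pperp] at hy₁ hy₂
  have full : ∀ {u u' : V}, B u u = 0 → B u' u' = 0 → B u u' = 1 → B y₁ u = 0 → B y₁ u' = 0 → B y₂ u = 0 →
      B y₂ u' = 0 → (∀ x, B x u = 0 → ∀ c : K, Pair M (c • u) x) → (∀ x, B x u' = 0 → ∀ c : K, Pair M (c • u') x) →
      OmegaStabTools.Full M u := by
    intro u u' hu hu' huu' h1 h1' h2 h2' hp hp' w hQu hw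
    have hu'u : B u' u = 1 := by rw [B_symm hM hB, huu']
    set β := B w u with hβ
    have hτβ : lam β = 0 := by
      rw [hβ, ← f_eq hM hB, polar_comm]; exact hw
    have hQ : Q (β • u') = 0 := Q_line hM hB hu' β
    obtain ⟨hQ', hP, hm⟩ := hp' y₁ h1' β
    have hpu : polar Q (β • u') u = 0 := by rw [hB.eq, hu'u, mul_one]; exact hτβ
    set t := siegel Q (β • u') ((1 : F) • y₁) hQ (by rw [polar_smul_right, hP, smul_zero]) with ht
    have htm : t ∈ M := hm 1
    have htu : t.1 u = u := by
      rw [ht, siegel_apply, hpu, one_smul, f_eq hM hB y₁, h1]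
      simp
    have hty : t.1 y₂ = y₂ - β • u' := by
      rw [ht, siegel_apply, one_smul, hy₁₂, hB.eq, B_symm hM hB u', h2']
      simp
    have h3 := (hp y₂ h2 1).conj htm
    rw [one_smul, htu, hty] at h3
    have h4 : Pair M u (β • u') := by
      have h6 := hp y₂ h2 1
      rw [one_smul] at h6
      have := h6.add (h3.smul (-1 : F))
      convert this using 1
      module
    have h5 := hp (w - β • u') (by simp [hu'u, hβ]) 1
    rw [one_smul] at h5
    obtain ⟨hq5, hp5, hfin⟩ := h4.add h5
    have := hfin 1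
    rw [siegel_congr hQu _ (show (1 : F) • (β • u' + (w - β • u')) = w by rw [one_smul, add_sub_cancel])] at this
    exact this
  have hQv : Q v = 0 := by simpa using Q_line hM hB hv 1
  have hQv' : Q v' = 0 := by simpa using Q_line hM hB hv' 1
  refine OmegaStabTools.commutator_le_of_full hM.nd ?_ hQv hQv' ?_
    (full hv hv' hvv' hy₁.1 hy₁.2 hy₂.1 hy₂.2 (fun x hx => hall x hx) hall')
    (full hv' hv hBv'v hy₁.2 hy₁.1 hy₂.2 hy₂.1 hall' (fun x hx => hall x hx))
  · rw [← Module.finrank_mul_finrank F K V]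
    have := hM.dim
    have := hM.prime.two_le
    nlinarith
  · rw [f_eq hM hB, hvv', hC.one]; exact one_ne_zero

end Cfsg.Agent.ExtFieldOrth
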