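import Mathlib
import Cfsg.Agent.Lib.ExtFieldOrthGen
import Cfsg.Agent.Lib.OmegaMaxGlue

/-!
From the theorem on subgroups of `orth Q` to maximality of the normaliser of a field of self-adjoint matrices.
-/

set_option autoImplicit false
set_option linter.unusedSectionVars false
set_option linter.style.haveILetI false
set_option maxHeartbeats 1000000
set_option synthInstance.maxHeartbeats 400000

namespace Cfsg.Agent.ExtFieldOrthGlue

open QuadraticMap Module
open Cfsg.Agent.OrthUnitaryQuad Cfsg.Agent.OmegaGeo Cfsg.Agent.OmegaMaxGlue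
open Cfsg.Agent.ExtFieldMax (exists_dual_one)
open scoped Matrix MatrixGroups

section

variable {F K V : Type*} [Field F] [Fintype F] [Field K] [Fintype K] [Algebra F K]
  [AddCommGroup V] [Module F V] [Module K V] [IsScalarTower F K V] [FiniteDimensional K V]
  [FiniteDimensional F V] {Q : QuadraticForm F V}

theorem exists_not_semilinear (h2 : (2 : F) ≠ 0) (hr : (finrank F K).Prime) (hdim : 4 ≤ finrank K V)
    (hbig : finrank K V = 4 → 3 ≤ finrank F K ∨ ∀ x y : V, ExtFieldOrth.Sing K Q x → ExtFieldOrth.Sing K Q y →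
      (∀ c : K, polar Q (c • x) y = 0) → x ≠ 0 → ∃ e : K, y = e • x)
    (hadj : ∀ (c : K) x y, polar Q (c • x) y = polar Q x (c • y)) (hnd : (polarBilin Q).Nondegenerate) :
    ∃ g ∈ commutator (orth Q), ∃ c : K, ∀ d : K, ∃ x : V, g.1 (c • x) ≠ d • g.1 x := by
  classical
  haveI : FiniteDimensional F K := Module.Finite.of_finite
  obtain ⟨c₀, hc₀⟩ : ∃ c : K, ∀ s : F, c ≠ algebraMap F K s := by
    by_contra hcon
    push Not at hcon
    have : finrank F K ≤ 1 := finrank_le_one (1 : K) fun x => by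
      obtain ⟨s, rfl⟩ := hcon x
      exact ⟨s, by rw [Algebra.smul_def, mul_one]⟩
    have := hr.two_le
    omega
  have hV : finrank K V ≠ 0 := by omega
  obtain ⟨a, ha⟩ : ∃ a, Q a ≠ 0 := by
    by_contra hcon
    push Not at hcon
    have : Subsingleton V := ⟨fun a b => sub_eq_zero.1 (hnd.1 _ fun y => by
      show polar Q _ y = 0
      simp [polar, hcon])⟩
    exact hV Module.finrank_zero_of_subsingleton
  have ha0 : a ≠ 0 := fun h => ha (by rw [h, QuadraticMap.map_zero])
  have hHyp : ExtFieldOrth.Hyp K Q (⊤ : Subgroup (orth Q)) := by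
    refine ⟨h2, hr, hdim, hbig, hadj, hnd, fun g _ _ => Subgroup.mem_top g, refl Q a ha, Subgroup.mem_top _, c₀,
      fun d => ?_⟩
    by_contra hcon
    push Not at hcon
    obtain ⟨x, hx, hx0⟩ := (Submodule.ne_bot_iff (LinearMap.ker (polarBilin Q a) ⊓
        LinearMap.ker (polarBilin Q (c₀ • a)))).1 fun h => by
      have h1 := Submodule.finrank_sup_add_finrank_inf_eq (LinearMap.ker (polarBilin Q a))
        (LinearMap.ker (polarBilin Q (c₀ • a)))
      have h3 := LinearMap.finrank_range_add_finrank_ker (polarBilin Q a)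
      have h4 := LinearMap.finrank_range_add_finrank_ker (polarBilin Q (c₀ • a))
      have h5 := Submodule.finrank_le (LinearMap.range (polarBilin Q a))
      have h6 := Submodule.finrank_le (LinearMap.range (polarBilin Q (c₀ • a)))
      have h7 := Submodule.finrank_le (LinearMap.ker (polarBilin Q a) ⊔ LinearMap.ker (polarBilin Q (c₀ • a)))
      have h8 := Module.finrank_mul_finrank F K V
      have h9 := Nat.mul_le_mul hr.two_le hdim
      rw [h, finrank_bot] at h1
      rw [finrank_self] at h5 h6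
      omega
    have hxa : polar Q a x = 0 := hx.1
    have hxc : polar Q (c₀ • a) x = 0 := hx.2
    have hd : d = c₀ := by
      have := hcon x
      rw [refl_apply, refl_apply, hxa, ← hadj, hxc] at this
      simp at this
      exact (smul_left_injective K hx0 this).symm
    subst hd
    obtain ⟨y, hy⟩ : ∃ y, polar Q a y ≠ 0 := by
      by_contra hc
      push Not at hc
      exact ha0 (hnd.1 a hc)
    have := hcon y
    rw [refl_apply, refl_apply, smul_sub, sub_right_inj, smul_comm, ← algebraMap_smul K _ a,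
      ← algebraMap_smul K _ (d • a), smul_smul] at this
    have h3 := smul_left_injective K ha0 this
    refine hc₀ ((polar Q a (d • y)) / polar Q a y) ?_
    rw [map_mul, map_mul] at h3
    rw [map_div₀, eq_div_iff (by simpa using hy)]
    have hne : algebraMap F K (Q a)⁻¹ ≠ 0 := by simpa using ha
    apply mul_left_cancel₀ hne
    linear_combination -h3
  obtain ⟨τ, hτ, -⟩ := exists_dual_one (⊥ : Submodule F K) (z := (1 : K)) (by simp)
  obtain ⟨B, hB⟩ := ExtFieldOrth.exists_lift hHyp τ hτ
  obtain ⟨v, hv0, hv, -⟩ := ExtFieldOrth.exists_moves hHyp hB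
  obtain ⟨v', hv', hvv'⟩ := ExtFieldOrth.exists_partner hHyp hB hv hv0
  have hBv'v : B v' v = 1 := by rw [ExtFieldOrth.B_symm hHyp hB, hvv']
  obtain ⟨κ, hκ, hκ0⟩ : ∃ d, τ d = 0 ∧ d ≠ 0 := by
    obtain ⟨d, hd, hd0⟩ := (Submodule.ne_bot_iff (LinearMap.ker τ)).1 (fun h => by
      have h1 := LinearMap.finrank_range_add_finrank_ker τ
      have h3 := Submodule.finrank_le (LinearMap.range τ)
      have := hr.two_le
      rw [h, finrank_bot, add_zero] at h1
      rw [finrank_self] at h3
      omega)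
    exact ⟨d, LinearMap.mem_ker.1 hd, hd0⟩
  have hn : 5 ≤ finrank F V := by
    rw [← Module.finrank_mul_finrank F K V]
    have := Nat.mul_le_mul hr.two_le hdim
    omega
  have hQv : Q v = 0 := by simpa using ExtFieldOrth.Q_line hHyp hB hv 1
  have hQk : Q (κ • v) = 0 := ExtFieldOrth.Q_line hHyp hB hv κ
  have hperp : polar Q (κ • v) v = 0 := by rw [hB.eq, hv, mul_zero, map_zero]
  obtain ⟨g, hg, hgx⟩ := exists_siegel hnd hn hQk hQv ((polar_comm _ v (κ • v)).trans hperp)
  refine ⟨g, hg, κ, fun d => ?_⟩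
  by_contra hcon
  push Not at hcon
  have hfix : ∀ c : K, g.1 (c • v) = c • v := fun c => by
    rw [hgx, ExtFieldOrth.f_eq hHyp hB v, hB.eq κ v (c • v)]
    simp [hv]
  have hdκ : d = κ := by
    have := hcon v
    rw [hfix, show g.1 v = v by simpa using hfix 1] at this
    exact (smul_left_injective K hv0 this).symm
  subst hdκ
  have h := hcon v'
  rw [hgx, hgx, hB.eq _ v (d • v'), hB.eq _ v v', ExtFieldOrth.f_eq hHyp hB v, ExtFieldOrth.f_eq hHyp hB v, map_smul,
    hvv', smul_eq_mul, mul_one, hB.one, hκ, zero_smul, one_smul, smul_sub, smul_add, add_zero] at h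
  simp only [zero_smul, sub_zero, hκ] at h
  have h' := congrArg (fun q => B q v') h
  simp [hv', hvv', LinearMap.map_smul_of_tower, Algebra.smul_def] at h'
  have h'' := congrArg τ h'
  rw [map_neg, Algebra.algebraMap_eq_smul_one, map_smul, hB.one, smul_eq_mul, mul_one] at h''
  have hs : τ (d * d) = 0 :=
    (mul_eq_zero.1 (show (2 : F) * τ (d * d) = 0 by linear_combination -h'')).resolve_left h2
  rw [hs, map_zero, neg_zero] at h'
  exact hκ0 (mul_self_eq_zero.1 h'.symm)

end

variable {F : Type*} [Field F] [Fintype F] {ι : Type} [Fintype ι] [DecidableEq ι]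

/-- The degree divides the dimension. -/
theorem dvd_card {r : ℕ} [Nonempty ι] (K : Subalgebra F (Matrix ι ι F)) (hK : Cfsg.Geo.IsFieldSubalgebra r K) :
    r ∣ Fintype.card ι := by
  letI : CommRing K :=
    { (inferInstance : Ring K) with mul_comm := fun x y => Subtype.ext (hK.comm _ x.2 _ y.2) }
  have hfld : IsField K := by
    refine ⟨⟨0, 1, zero_ne_one⟩, mul_comm, fun {x} hx => ?_⟩
    obtain ⟨y, hy, hxy⟩ := hK.inv x x.2 (fun h => hx (Subtype.ext h))
    exact ⟨⟨y, hy⟩, Subtype.ext hxy⟩
  letI : Field K := hfld.toField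
  haveI : IsScalarTower F K (ι → F) := ⟨fun c e x => by
    show ((c • e : K) : Matrix ι ι F) *ᵥ x = c • ((e : Matrix ι ι F) *ᵥ x)
    rw [Subalgebra.coe_smul, Matrix.smul_mulVec]⟩
  have h := Module.finrank_mul_finrank F K (ι → F)
  rw [show finrank F K = r from hK.finrank_eq, Module.finrank_fintype_fun_eq_card] at h
  exact ⟨_, h.symm⟩

/-- Maximality of the normaliser of a self-adjoint field. -/
theorem isMaximalIn' (q : QuadraticForm F (ι → F)) (hnd : (polarBilin q).Nondegenerate) (h2 : (2 : F) ≠ 0)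
    {r : ℕ} (hr : r.Prime) (K : Subalgebra F (Matrix ι ι F)) (hK : Cfsg.Geo.IsFieldSubalgebra r K)
    (hsa : Cfsg.Geo.IsSelfAdjointFor (polar ⇑q) K) (hdim : 4 * r ≤ Fintype.card ι)
    (hbig : Fintype.card ι = 4 * r → 3 ≤ r ∨ ∀ U : Submodule F (ι → F), ¬ OmegaClasses.Lagr q U) :
    Cfsg.Geo.IsMaximalIn (Cfsg.Geo.omegaGL ⇑q) (Cfsg.Geo.subalgebraNormalizer K ⊓ Cfsg.Geo.omegaGL ⇑q) := by
  classical
  haveI : Nonempty ι := Fintype.card_pos_iff.1 (by have := hr.two_le; omega)
  letI : CommRing K :=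
    { (inferInstance : Ring K) with mul_comm := fun x y => Subtype.ext (hK.comm _ x.2 _ y.2) }
  have hfld : IsField K := by
    refine ⟨⟨0, 1, zero_ne_one⟩, mul_comm, fun {x} hx => ?_⟩
    obtain ⟨y, hy, hxy⟩ := hK.inv x x.2 (fun h => hx (Subtype.ext h))
    exact ⟨⟨y, hy⟩, Subtype.ext hxy⟩
  letI : Field K := hfld.toField
  haveI : Finite K := Subtype.finite
  letI : Fintype K := Fintype.ofFinite K
  have hsmul : ∀ (e : K) (x : ι → F), e • x = (e : Matrix ι ι F) *ᵥ x := fun e x => rfl
  haveI : IsScalarTower F K (ι → F) := ⟨fun c e x => by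
    rw [hsmul, hsmul, Subalgebra.coe_smul, Matrix.smul_mulVec]⟩
  haveI : FiniteDimensional K (ι → F) := Module.Finite.of_restrictScalars_finite F K _
  have hrk : finrank F K = r := hK.finrank_eq
  have hrank : r * finrank K (ι → F) = Fintype.card ι := by
    have h := Module.finrank_mul_finrank F K (ι → F)
    rw [hrk, Module.finrank_fintype_fun_eq_card] at h
    exact h
  have hd : 4 ≤ finrank K (ι → F) :=
    Nat.le_of_mul_le_mul_left (by rw [hrank, mul_comm r]; exact hdim) hr.pos
  have hadj : ∀ (c : K) x y, polar q (c • x) y = polar q x (c • y) := fun c x y => by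
    rw [hsmul, hsmul]; exact hsa c c.2 x y
  have hb : finrank K (ι → F) = 4 → 3 ≤ finrank F K ∨ ∀ x y : ι → F, ExtFieldOrth.Sing K q x →
      ExtFieldOrth.Sing K q y → (∀ c : K, polar q (c • x) y = 0) → x ≠ 0 → ∃ e : K, y = e • x := by
    intro h4
    rcases hbig (by rw [← hrank, h4, mul_comm]) with h | hL
    · exact Or.inl (hrk.symm ▸ h)
    refine Or.inr fun x y hx hy hxy hx0 => ?_
    by_contra hne
    push Not at hne
    set U := (Submodule.span K (Set.range ![x, y])).restrictScalars F with hU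
    have hsing : ∀ z : ι → F, ExtFieldOrth.Sing K q z → ∀ c : K, q (c • z) = 0 := fun z hz c => by
      have h := hz (c * c)
      rw [mul_smul, hadj, OrthUnitaryQuad.polar_self_mul] at h
      exact (mul_eq_zero.1 h).resolve_left h2
    refine hL U ⟨fun u hu => ?_, ?_⟩
    · obtain ⟨c, rfl⟩ := (Submodule.mem_span_range_iff_exists_fun K).1 hu
      rw [Fin.sum_univ_two, QuadraticMap.map_add (⇑q), show q (c 0 • ![x, y] 0) = 0 from hsing x hx _,
        show q (c 1 • ![x, y] 1) = 0 from hsing y hy _]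
      have e := hxy (c 1 * c 0)
      rw [mul_smul, hadj] at e
      simpa using e
    · have hli : LinearIndependent K ![x, y] := LinearIndependent.pair_iff.2 fun a b hab => by
        by_cases hb0 : b = 0
        · subst hb0
          rw [zero_smul, add_zero, smul_eq_zero] at hab
          exact ⟨hab.resolve_right hx0, rfl⟩
        · exfalso
          refine hne (-(b⁻¹ * a)) ?_
          rw [neg_smul, mul_smul, ← smul_neg, ← eq_neg_of_add_eq_zero_right hab, inv_smul_smul₀ hb0]
      haveI : FiniteDimensional F (Submodule.span K (Set.range ![x, y])) := Module.Finite.of_finite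
      have h5 : finrank F U = finrank F K * finrank K (Submodule.span K (Set.range ![x, y])) := by
        rw [Module.finrank_mul_finrank F K (Submodule.span K (Set.range ![x, y]))]
        rfl
      rw [h5, finrank_span_eq_card hli, hrk, Fintype.card_fin, Module.finrank_fintype_fun_eq_card, ← hrank, h4]
      ring
  -- elements normalising `K` are semilinear
  have hsemi : ∀ g : orth q, toGL q g ∈ Cfsg.Geo.subalgebraNormalizer K →
      ∀ c : K, ∃ d : K, ∀ x : ι → F, g.1 (c • x) = d • g.1 x := fun g hg c =>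
    ⟨⟨_, (hg c).1 c.2⟩, fun x => by
      rw [hsmul, hsmul, ← toGL_mulVec, ← toGL_mulVec, Matrix.mulVec_mulVec, Matrix.mulVec_mulVec,
        Units.inv_mul_cancel_right]⟩
  refine ⟨lt_of_le_of_ne inf_le_right fun h => ?_, fun M h1 h2' => ?_⟩
  · obtain ⟨g, hg, c, hc⟩ := exists_not_semilinear h2 (hrk ▸ hr) hd hb hadj hnd
    have := toGL_mem hg
    rw [← h] at this
    obtain ⟨d, hd'⟩ := hsemi g this.1 c
    obtain ⟨x, hx⟩ := hc d
    exact hx (hd' x)
  by_cases h : M ≤ Cfsg.Geo.subalgebraNormalizer K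
  · exact Or.inl (le_antisymm (le_inf h h2') h1)
  obtain ⟨g₀, hg₀, hg₀N⟩ := SetLike.not_le_iff_exists.1 h
  obtain ⟨g, -, rfl⟩ := exists_of_mem_omegaGL (h2' hg₀)
  right
  refine le_antisymm h2' fun y hy => ?_
  obtain ⟨k, hk, rfl⟩ := exists_of_mem_omegaGL hy
  let M' := M.comap (glHom q)
  suffices commutator (orth q) ≤ M' from this hk
  refine ExtFieldOrth.commutator_le (K := K) ⟨h2, hrk ▸ hr, hd, hb, hadj, hnd, fun τ hτ hlin => ?_, g, hg₀, ?_⟩
  · refine Subgroup.mem_comap.2 (h1 ⟨?_, toGL_mem hτ⟩)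
    rw [glHom_apply]
    have hconj : ∀ A : K, (toGL q τ : Matrix ι ι F) * (A : Matrix ι ι F) * ((toGL q τ)⁻¹ : GL ι F) = A := by
      intro A
      rw [Units.mul_inv_eq_iff_eq_mul]
      refine Matrix.ext_iff_mulVec.mpr fun x => ?_
      rw [← Matrix.mulVec_mulVec, ← Matrix.mulVec_mulVec, toGL_mulVec, toGL_mulVec, ← hsmul, hlin, hsmul]
    intro A
    constructor
    · intro hA
      rw [hconj ⟨A, hA⟩]
      exact hA
    · intro hA
      have := (Units.mul_right_inj (toGL q τ)).1 ((Units.mul_left_inj (toGL q τ)⁻¹).1 (hconj ⟨_, hA⟩))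
      rw [← this]
      exact hA
  · by_contra hcon
    push Not at hcon
    apply hg₀N
    choose d hd' using hcon
    have hval : ∀ c : K, (toGL q g : Matrix ι ι F) * (c : Matrix ι ι F) * ((toGL q g)⁻¹ : GL ι F) =
        (d c : Matrix ι ι F) := by
      intro c
      rw [Units.mul_inv_eq_iff_eq_mul]
      refine Matrix.ext_iff_mulVec.mpr fun x => ?_
      rw [← Matrix.mulVec_mulVec, ← Matrix.mulVec_mulVec, toGL_mulVec, toGL_mulVec, ← hsmul, ← hsmul, hd']
    have hinj : Function.Injective d := fun a b hab => Subtype.ext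
      ((Units.mul_right_inj (toGL q g)).1 ((Units.mul_left_inj (toGL q g)⁻¹).1 (by
        rw [hval, hval, hab])))
    intro A
    constructor
    · intro hA
      rw [hval ⟨A, hA⟩]
      exact (d ⟨A, hA⟩).2
    · intro hA
      obtain ⟨A', hA'⟩ := (Finite.injective_iff_surjective.1 hinj) ⟨_, hA⟩
      have e := hval A'
      rw [hA'] at e
      have := (Units.mul_right_inj (toGL q g)).1 ((Units.mul_left_inj (toGL q g)⁻¹).1 e)
      rw [← this]
      exact A'.2

/-- Maximality of the normaliser of a self-adjoint field, large degree at dimension four. -/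
theorem isMaximalIn (q : QuadraticForm F (ι → F)) (hnd : (polarBilin q).Nondegenerate) (h2 : (2 : F) ≠ 0)
    {r : ℕ} (hr : r.Prime) (K : Subalgebra F (Matrix ι ι F)) (hK : Cfsg.Geo.IsFieldSubalgebra r K)
    (hsa : Cfsg.Geo.IsSelfAdjointFor (polar ⇑q) K) (hdim : 4 * r ≤ Fintype.card ι)
    (hbig : Fintype.card ι = 4 * r → 3 ≤ r) :
    Cfsg.Geo.IsMaximalIn (Cfsg.Geo.omegaGL ⇑q) (Cfsg.Geo.subalgebraNormalizer K ⊓ Cfsg.Geo.omegaGL ⇑q) :=
  isMaximalIn' q hnd h2 hr K hK hsa hdim fun h => Or.inl (hbig h)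

end Cfsg.Agent.ExtFieldOrthGlue
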