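import Mathlib
import Cfsg.Agent.Lib.OrthUnitaryQuad
import Cfsg.Agent.Lib.OrthUnitaryRefl
import Cfsg.Agent.Lib.ExtFieldMax

/-!
A three-dimensional orthogonal geometry over an extension field K of odd prime degree inside an
orthogonal space over F (odd order): frames, Siegel maps, tori, transitivity on singular lines, and the
elements fixing a singular line.
-/

set_option autoImplicit false
set_option linter.unusedSectionVars false
set_option linter.style.haveILetI false
set_option maxHeartbeats 800000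

namespace Cfsg.Agent.ExtFieldThree10

open QuadraticMap Module
open Cfsg.Agent.OrthUnitaryQuad Cfsg.Agent.OrthUnitaryRefl
open scoped commutatorElement

variable {F K V : Type*} [Field F] [Fintype F] [Field K] [Fintype K] [Algebra F K]
  [AddCommGroup V] [Module F V] [Module K V] [IsScalarTower F K V] [FiniteDimensional K V]

variable (K) in
/-- The geometric hypotheses. -/
structure Geo (Q : QuadraticForm F V) : Prop where
  two : (2 : F) ≠ 0
  prime : (finrank F K).Prime
  three : 3 ≤ finrank F K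
  dim : finrank K V = 3
  adj : ∀ (c : K) x y, polar Q (c • x) y = polar Q x (c • y)
  nd : (polarBilin Q).Nondegenerate

variable (K) in
/-- The hypotheses on the subgroup. -/
structure Hyp (Q : QuadraticForm F V) (M : Subgroup (orth Q)) : Prop where
  geo : Geo K Q
  lin : ∀ g ∈ commutator (orth Q), (∀ (c : K) x, g.1 (c • x) = c • g.1 x) → g ∈ M
  det : ∀ g ∈ M, LinearMap.det (g.1 : V →ₗ[F] V) = 1
  move : ∃ g ∈ M, ∃ c : K, ∀ d : K, ∃ x : V, g.1 (c • x) ≠ d • g.1 x

variable {Q : QuadraticForm F V} {M : Subgroup (orth Q)}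

/-- `B` lifts the polar form along `τ`. -/
structure Lifts (Q : QuadraticForm F V) (τ : K →ₗ[F] F) (B : V →ₗ[K] V →ₗ[K] K) : Prop where
  one : τ 1 = 1
  eq : ∀ (c : K) x y, polar Q (c • x) y = τ (c * B x y)

theorem tau_ext {τ : K →ₗ[F] F} (h1 : τ 1 = 1) {a b : K} (h : ∀ c, τ (c * a) = τ (c * b)) : a = b := by
  by_contra hne
  have h0 := h (a - b)⁻¹
  have : τ ((a - b)⁻¹ * (a - b)) = 0 := by rw [mul_sub, map_sub, h0, sub_self]
  rw [inv_mul_cancel₀ (sub_ne_zero.2 hne), h1] at this
  exact one_ne_zero this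

theorem mul_app (g h : orth Q) (x : V) : (g * h).1 x = g.1 (h.1 x) := rfl

theorem inv_app (g : orth Q) (x : V) : g⁻¹.1 (g.1 x) = x := g.1.symm_apply_apply x

theorem app_inv (g : orth Q) (x : V) : g.1 (g⁻¹.1 x) = x := g.1.apply_symm_apply x

theorem polar_inv (g : orth Q) (x y : V) : polar Q (g⁻¹.1 x) y = polar Q x (g.1 y) := by
  conv_rhs => rw [← app_inv g x, polar_orth g]

theorem inv_lin {g : orth Q} (hg : ∀ (c : K) x, g.1 (c • x) = c • g.1 x) (c : K) (x : V) :
    g⁻¹.1 (c • x) = c • g⁻¹.1 x := by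
  apply g.1.injective
  rw [app_inv, hg, app_inv]

theorem exists_lift (hG : Geo K Q) (τ : K →ₗ[F] F) (h1 : τ 1 = 1) : ∃ B, Lifts Q τ B := by
  classical
  let Φ : K →ₗ[F] (K →ₗ[F] F) :=
    { toFun := fun a => τ.comp (LinearMap.mulRight F a)
      map_add' := fun a b => by ext c; simp [mul_add]
      map_smul' := fun s a => by ext c; simp [mul_smul_comm] }
  have hinj : Function.Injective Φ := fun a b h => tau_ext h1 fun c => LinearMap.congr_fun h c
  have hsurj : Function.Surjective Φ :=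
    (LinearMap.injective_iff_surjective_of_finrank_eq_finrank
      (by rw [Module.finrank_linearMap, finrank_self, mul_one])).1 hinj
  have hex : ∀ x y : V, ∃ a : K, ∀ c, τ (c * a) = polar Q (c • x) y := by
    intro x y
    obtain ⟨a, ha⟩ := hsurj
      (((polarBilin Q).flip y).comp ((LinearMap.toSpanSingleton K V x).restrictScalars F))
    exact ⟨a, fun c => LinearMap.congr_fun ha c⟩
  choose b hb using hex
  refine ⟨LinearMap.mk₂ K b ?_ ?_ ?_ ?_, h1, fun c x y => (hb x y c).symm⟩
  · intro x x' y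
    refine tau_ext h1 fun c => ?_
    rw [hb, mul_add, map_add, hb, hb, smul_add, polar_add_left]
  · intro e x y
    refine tau_ext h1 fun c => ?_
    rw [hb, smul_eq_mul, ← mul_assoc, hb, smul_smul]
  · intro x y y'
    refine tau_ext h1 fun c => ?_
    rw [hb, polar_add_right, mul_add, map_add, hb, hb]
  · intro e x y
    refine tau_ext h1 fun c => ?_
    rw [hb, smul_eq_mul, ← mul_assoc, hb, ← hG.adj, smul_smul, mul_comm]

/-- A frame: a hyperbolic pair and a vector spanning its orthogonal. -/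
structure Frame (B : V →ₗ[K] V →ₗ[K] K) (v v' w : V) : Prop where
  vv : B v v = 0
  pp : B v' v' = 0
  vp : B v v' = 1
  wv : B w v = 0
  wp : B w v' = 0
  ww : B w w ≠ 0

/-- The reflection map. -/
noncomputable def sf (B : V →ₗ[K] V →ₗ[K] K) (a x : V) : V := x - (2 * B x a / B a a) • a

/-- The Siegel map. -/
noncomputable def ef (B : V →ₗ[K] V →ₗ[K] K) (v w x : V) : V :=
  x + B x v • w - (B x w + 2⁻¹ * B w w * B x v) • v

/-- A nontrivial element acting as the identity on the orthogonal of `v`. -/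
def Root (M : Subgroup (orth Q)) (τ : K →ₗ[F] F) (B : V →ₗ[K] V →ₗ[K] K) (v : V) : Prop :=
  ∃ ψ : K →ₗ[F] K, (∀ P R, τ (ψ P * R) + τ (P * ψ R) = 0) ∧ ψ ≠ 0 ∧
    ∃ C ∈ M, ∀ x, C.1 x = x + ψ (B x v) • v

section
variable {τ : K →ₗ[F] F} {B : V →ₗ[K] V →ₗ[K] K} (hG : Geo K Q) (hB : Lifts Q τ B)
include hG hB

theorem two_ne : (2 : K) ≠ 0 := fun h => hG.two ((algebraMap F K).injective (by simpa [map_ofNat] using h))

theorem f_eq (x y : V) : polar Q x y = τ (B x y) := by
  have := hB.eq 1 x y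
  rwa [one_smul, one_mul] at this

theorem B_symm (x y : V) : B x y = B y x := by
  refine tau_ext hB.one fun c => ?_
  rw [← hB.eq, ← hB.eq, hG.adj, polar_comm]

theorem B_nondeg (x : V) (h : ∀ y, B x y = 0) : x = 0 :=
  hG.nd.1 x fun y => by
    show polar Q x y = 0
    rw [f_eq hG hB, h, map_zero]

theorem Q_eq (x : V) : Q x = 2⁻¹ * τ (B x x) := by
  rw [← f_eq hG hB, polar_self_mul, inv_mul_cancel_left₀ hG.two]

theorem exists_vec (φ : V →ₗ[K] K) : ∃ w, ∀ x, B x w = φ x := by
  have hinj : Function.Injective B.flip := by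
    rw [injective_iff_map_eq_zero]
    intro w hw
    refine B_nondeg hG hB w fun y => ?_
    rw [B_symm hG hB w y]
    exact LinearMap.congr_fun hw y
  obtain ⟨w, hw⟩ := (LinearMap.injective_iff_surjective_of_finrank_eq_finrank
    (by rw [Module.finrank_linearMap, finrank_self, mul_one])).1 hinj φ
  exact ⟨w, fun x => LinearMap.congr_fun hw x⟩

theorem exists_iso (T : V →ₗ[K] V) (h : ∀ x y, B (T x) (T y) = B x y) :
    ∃ g : orth Q, (∀ x, g.1 x = T x) ∧ ∀ (c : K) x, g.1 (c • x) = c • g.1 x := by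
  haveI : Finite V := Module.finite_of_finite K
  have hinj : Function.Injective (T.restrictScalars F) := by
    rw [injective_iff_map_eq_zero]
    intro x hx
    refine B_nondeg hG hB x fun y => ?_
    rw [← h, show T x = 0 from hx, map_zero, LinearMap.zero_apply]
  exact ⟨⟨LinearEquiv.ofBijective (T.restrictScalars F) (Finite.injective_iff_bijective.1 hinj),
    fun x => by
      show Q (T x) = Q x
      rw [Q_eq hG hB, Q_eq hG hB, h]⟩, fun x => rfl, fun c x => T.map_smul c x⟩

theorem exists_refl {a : V} (ha : B a a ≠ 0) :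
    ∃ g : orth Q, (∀ x, g.1 x = sf B a x) ∧ ∀ (c : K) x, g.1 (c • x) = c • g.1 x := by
  obtain ⟨g, hg, hl⟩ := exists_iso hG hB
    (LinearMap.id - (LinearMap.toSpanSingleton K V ((2 / B a a) • a)).comp (B.flip a)) (fun x y => by
      simp [B_symm hG hB a y]
      field_simp
      ring)
  refine ⟨g, fun x => ?_, hl⟩
  rw [hg, sf]
  simp [smul_smul]
  ring_nf

theorem exists_ef {v : V} (hv : B v v = 0) {w : V} (hw : B v w = 0) :
    ∃ g : orth Q, (∀ x, g.1 x = ef B v w x) ∧ ∀ (c : K) x, g.1 (c • x) = c • g.1 x := by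
  have h2 := two_ne hG hB
  obtain ⟨g, hg, hl⟩ := exists_iso hG hB
    (LinearMap.id + (LinearMap.toSpanSingleton K V w).comp (B.flip v) -
      (LinearMap.toSpanSingleton K V v).comp (B.flip w + (2⁻¹ * B w w) • B.flip v)) (fun x y => by
      simp [hv, hw, B_symm hG hB w v, B_symm hG hB v y, B_symm hG hB w y]
      field_simp
      ring)
  exact ⟨g, fun x => by rw [hg, ef]; simp, hl⟩

theorem ef_add {v : V} (hv : B v v = 0) {a b : V} (ha : B v a = 0) (hb : B v b = 0) (x : V) :
    ef B v a (ef B v b x) = ef B v (a + b) x := by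
  have h2 := two_ne hG hB
  simp [ef, hv, ha, hb, B_symm hG hB b v, B_symm hG hB b a]
  match_scalars <;> field_simp <;> ring

theorem sf_sf {a : V} (ha : B a a ≠ 0) (x : V) : sf B a (sf B a x) = x := by
  simp only [sf, map_sub, map_smul, LinearMap.sub_apply, LinearMap.smul_apply, smul_eq_mul]
  match_scalars
  · ring
  · field_simp
    ring

theorem exists_frame {v : V} (hv : B v v = 0) (hv0 : v ≠ 0) : ∃ v' w, Frame B v v' w := by
  have h2 := two_ne hG hB
  obtain ⟨z, hz⟩ : ∃ z, B v z ≠ 0 := by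
    by_contra h
    push Not at h
    exact hv0 (B_nondeg hG hB v h)
  set y := (B v z)⁻¹ • z with hy
  have hvy : B v y = 1 := by simp [hy, inv_mul_cancel₀ hz]
  set v' := y - (2⁻¹ * B y y) • v with hv'
  have hvp : B v v' = 1 := by simp [hv', hvy, hv]
  have hpp : B v' v' = 0 := by
    simp [hv', hv, hvy, B_symm hG hB y v]
    field_simp
    ring
  have hpv : B v' v = 1 := by rw [B_symm hG hB, hvp]
  let φ : V →ₗ[K] K × K := (B.flip v).prod (B.flip v')
  obtain ⟨w, hw, hw0⟩ := (Submodule.ne_bot_iff (LinearMap.ker φ)).1 fun h => by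
    have h1 := LinearMap.finrank_range_add_finrank_ker φ
    have h3 := Submodule.finrank_le (LinearMap.range φ)
    rw [h, finrank_bot] at h1
    rw [Module.finrank_prod, finrank_self] at h3
    have := hG.dim
    omega
  simp only [φ, LinearMap.mem_ker, LinearMap.prod_apply, Function.prod_apply, Prod.mk_eq_zero,
    LinearMap.flip_apply] at hw
  refine ⟨v', w, hv, hpp, hvp, hw.1, hw.2, fun hww => ?_⟩
  -- otherwise `v`, `v'`, `w` span and `w` is orthogonal to all
  have hvw : B v w = 0 := by rw [B_symm hG hB, hw.1]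
  have hpw : B v' w = 0 := by rw [B_symm hG hB, hw.2]
  have hind : LinearIndependent K ![v, v', w] := by
    rw [Fintype.linearIndependent_iff]
    intro g hg
    simp [Fin.sum_univ_three] at hg
    have e0 := congrArg (fun z => B z v) hg
    have e1 := congrArg (fun z => B z v') hg
    simp [hv, hpv, hw.1] at e0
    simp [hvp, hpp, hw.2] at e1
    rw [e0, e1, zero_smul, zero_smul, zero_add, zero_add, smul_eq_zero] at hg
    intro i
    fin_cases i
    exacts [e1, e0, hg.resolve_right hw0]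
  have hspan := hind.span_eq_top_of_card_eq_finrank (by rw [Fintype.card_fin, hG.dim])
  apply hw0
  refine B_nondeg hG hB w fun x => ?_
  have hx : x ∈ Submodule.span K (Set.range ![v, v', w]) := by rw [hspan]; exact Submodule.mem_top
  refine Submodule.span_induction (fun y hy => ?_) (map_zero _) (fun a b _ _ ha hb => by rw [map_add, ha, hb, add_zero])
    (fun c a _ ha => by rw [map_smul, ha, smul_zero]) hx
  obtain ⟨i, rfl⟩ := hy
  fin_cases i <;> simp [hw.1, hw.2, hww]

section
variable {v v' w : V} (hF : Frame B v v' w)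
include hF

theorem Frame.pv : B v' v = 1 := by rw [B_symm hG hB, hF.vp]

theorem Frame.vw : B v w = 0 := by rw [B_symm hG hB, hF.wv]

theorem Frame.pw : B v' w = 0 := by rw [B_symm hG hB, hF.wp]

theorem Frame.ne : v ≠ 0 := fun h => by have := hF.vp; simp [h] at this

theorem frame_eq (x : V) : x = B x v' • v + B x v • v' + (B x w / B w w) • w := by
  have hind : LinearIndependent K ![v, v', w] := by
    rw [Fintype.linearIndependent_iff]
    intro g hg
    simp [Fin.sum_univ_three] at hg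
    have e0 := congrArg (fun z => B z v) hg
    have e1 := congrArg (fun z => B z v') hg
    have e2 := congrArg (fun z => B z w) hg
    simp [hF.vv, Frame.pv hG hB hF, hF.wv] at e0
    simp [hF.vp, hF.pp, hF.wp] at e1
    simp [Frame.vw hG hB hF, Frame.pw hG hB hF, hF.ww] at e2
    intro i
    fin_cases i
    exacts [e1, e0, e2]
  have hspan := hind.span_eq_top_of_card_eq_finrank (by rw [Fintype.card_fin, hG.dim])
  set d := x - (B x v' • v + B x v • v' + (B x w / B w w) • w) with hd
  have h1 : B d v = 0 := by simp [hd, hF.vv, Frame.pv hG hB hF, hF.wv]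
  have h2 : B d v' = 0 := by simp [hd, hF.vp, hF.pp, hF.wp]
  have h3 : B d w = 0 := by
    simp [hd, Frame.vw hG hB hF, Frame.pw hG hB hF, div_mul_cancel₀ _ hF.ww]
  refine sub_eq_zero.1 (B_nondeg hG hB d fun y => ?_)
  have hy : y ∈ Submodule.span K (Set.range ![v, v', w]) := by rw [hspan]; exact Submodule.mem_top
  refine Submodule.span_induction (fun y hy => ?_) (map_zero _) (fun a b _ _ ha hb => by rw [map_add, ha, hb, add_zero])
    (fun c a _ ha => by rw [map_smul, ha, smul_zero]) hy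
  obtain ⟨i, rfl⟩ := hy
  fin_cases i
  exacts [h1, h2, h3]

theorem Frame.swap : Frame B v' v w :=
  ⟨hF.pp, hF.vv, Frame.pv hG hB hF, hF.wp, hF.wv, hF.ww⟩

theorem sing_line {x : V} (hx : B x x = 0) (hxv : B x v = 0) : x = B x v' • v := by
  have h := frame_eq hG hB hF x
  rw [hxv, zero_smul, add_zero] at h
  have h2 := congrArg (fun y => B y y) h
  simp [hx, hF.vv, hF.wv, Frame.vw hG hB hF, hF.ww] at h2
  rw [h2, zero_div, zero_smul, add_zero] at h
  exact h

end

/-- The square of a product of two reflections and other commutators of linear maps. -/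
theorem rot_mem (hlin : ∀ g ∈ commutator (orth Q), (∀ (c : K) x, g.1 (c • x) = c • g.1 x) → g ∈ M)
    {s t : orth Q} (hs : ∀ (c : K) x, s.1 (c • x) = c • s.1 x)
    (ht : ∀ (c : K) x, t.1 (c • x) = c • t.1 x) : s * t * s⁻¹ * t⁻¹ ∈ M := by
  have hc : ⁅s, t⁆ ∈ commutator (orth Q) := by
    rw [commutator_def]
    exact Subgroup.commutator_mem_commutator (Subgroup.mem_top s) (Subgroup.mem_top t)
  rw [commutatorElement_def] at hc
  refine hlin _ hc fun c x => ?_
  show s.1 (t.1 (s⁻¹.1 (t⁻¹.1 (c • x)))) = c • s.1 (t.1 (s⁻¹.1 (t⁻¹.1 x)))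
  rw [inv_lin ht, inv_lin hs, ht, hs]

theorem B_map {g : orth Q} (hg : ∀ (c : K) x, g.1 (c • x) = c • g.1 x) (x y : V) :
    B (g.1 x) (g.1 y) = B x y :=
  tau_ext hB.one fun c => by rw [← hB.eq, ← hB.eq, ← hg, polar_orth g]

theorem exists_rot (hlin : ∀ g ∈ commutator (orth Q), (∀ (c : K) x, g.1 (c • x) = c • g.1 x) → g ∈ M)
    {a b : V} (ha : B a a ≠ 0) (hb : B b b ≠ 0) :
    ∃ g ∈ M, (∀ (c : K) x, g.1 (c • x) = c • g.1 x) ∧ ∀ x, g.1 x = sf B a (sf B b (sf B a (sf B b x))) := by
  obtain ⟨s, hs, hsl⟩ := exists_refl hG hB ha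
  obtain ⟨t, ht, htl⟩ := exists_refl hG hB hb
  refine ⟨_, rot_mem hG hB hlin hsl htl, ?_⟩
  have hsi : ∀ x, s⁻¹.1 x = sf B a x := fun x => by
    apply s.1.injective
    rw [hs (sf B a x), sf_sf hG hB ha]
    exact s.1.apply_symm_apply x
  have hti : ∀ x, t⁻¹.1 x = sf B b x := fun x => by
    apply t.1.injective
    rw [ht (sf B b x), sf_sf hG hB hb]
    exact t.1.apply_symm_apply x
  have key : ∀ x, (s * t * s⁻¹ * t⁻¹).1 x = sf B a (sf B b (sf B a (sf B b x))) := fun x => by
    show s.1 (t.1 (s⁻¹.1 (t⁻¹.1 x))) = _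
    rw [hs, ht, hsi, hti]
  refine ⟨fun c x => ?_, key⟩
  rw [key, key]
  simp [sf, smul_sub, smul_smul, mul_sub, sub_div, mul_div_assoc, mul_left_comm, mul_comm, mul_assoc]

end

section
variable {τ : K →ₗ[F] F} {B : V →ₗ[K] V →ₗ[K] K} (hM : Hyp K Q M) (hB : Lifts Q τ B)
include hM hB

/-- Siegel maps with anisotropic parameter lie in `M`. -/
theorem E_mem {v w : V} (hv : B v v = 0) (hw : B v w = 0) (hww : B w w ≠ 0) :
    ∃ g ∈ M, (∀ (c : K) x, g.1 (c • x) = c • g.1 x) ∧ ∀ x, g.1 x = ef B v w x := by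
  have hG := hM.geo
  have h2 := two_ne hG hB
  obtain ⟨s, hs, hsl⟩ := exists_refl hG hB hww
  set u := (-(2⁻¹ : K)) • w with hu
  have hvu : B v u = 0 := by simp [hu, hw]
  obtain ⟨e, he, hel⟩ := exists_ef hG hB hv hvu
  have hvu' : B v (-u) = 0 := by simp [hu, hw]
  have hei : ∀ x, e⁻¹.1 x = ef B v (-u) x := fun x => by
    apply e.1.injective
    rw [he (ef B v (-u) x), ef_add hG hB hv hvu hvu']
    show e.1 (e.1.symm x) = _
    rw [LinearEquiv.apply_symm_apply]
    simp [ef]
  have hsi : ∀ x, s⁻¹.1 x = sf B w x := fun x => by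
    apply s.1.injective
    rw [hs (sf B w x), sf_sf hG hB hww]
    exact s.1.apply_symm_apply x
  have key : ∀ x, (s * e * s⁻¹ * e⁻¹).1 x = ef B v w x := fun x => by
    show s.1 (e.1 (s⁻¹.1 (e⁻¹.1 x))) = _
    rw [hs, he, hsi, hei]
    simp [sf, ef, hu, hv, hw, B_symm hG hB w v]
    match_scalars <;> field_simp <;> ring
  refine ⟨_, rot_mem hG hB hM.lin hsl hel, fun c x => ?_, key⟩
  rw [key, key]
  simp [ef, smul_sub, smul_add, smul_smul, mul_add, mul_left_comm, mul_comm]

section
variable {v v' w : V} (hF : Frame B v v' w)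
include hF

/-- The unipotent radical at `v`. -/
theorem exists_E (a : K) : ∃ g ∈ M, (∀ (c : K) x, g.1 (c • x) = c • g.1 x) ∧
    ∀ x, g.1 x = x + (B x v * a) • w - (a * B x w + 2⁻¹ * (a * a * B w w) * B x v) • v := by
  by_cases ha : a = 0
  · exact ⟨1, one_mem M, fun c x => rfl, fun x => by simp [ha]⟩
  obtain ⟨g, hg, hl, hx⟩ := E_mem hM hB (w := a • w) hF.vv
    (by simp [Frame.vw hM.geo hB hF]) (by simp [ha, hF.ww])
  refine ⟨g, hg, hl, fun x => ?_⟩
  rw [hx, ef, smul_smul]
  simp [mul_assoc]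

theorem exists_torus {d : K} (hd : d ≠ 0) :
    ∃ g ∈ M, (∀ (c : K) x, g.1 (c • x) = c • g.1 x) ∧ g.1 v = (d * d) • v ∧ g.1 v' = (d * d)⁻¹ • v' ∧
      g.1 w = w := by
  have hG := hM.geo
  have h2 := two_ne hG hB
  have hv := hF.vv
  have hv' := hF.pp
  have hvv' := hF.vp
  have hvv'' := Frame.pv hG hB hF
  have ha : B (v - v') (v - v') ≠ 0 := by
    simp [hv, hv', hvv', hvv'']
    intro h
    exact h2 (by linear_combination -h)
  have hb : B (v - d⁻¹ • v') (v - d⁻¹ • v') ≠ 0 := by
    simp [hv, hv', hvv', hvv'']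
    intro h
    field_simp at h
    exact h2 (by linear_combination -h)
  obtain ⟨g, hg, hl, hgx⟩ := exists_rot hG hB hM.lin hb ha
  have qa : B (v - v') (v - v') = -2 := by simp [hv, hv', hvv', hvv'']; ring
  have qb : B (v - d⁻¹ • v') (v - d⁻¹ • v') = -2 * d⁻¹ := by simp [hv, hv', hvv', hvv'']; ring
  have a1 : ∀ k : K, sf B (v - v') (k • v) = k • v' := fun k => by
    rw [sf, qa]; simp [hv, hvv']; match_scalars <;> field_simp <;> ring
  have a2 : ∀ k : K, sf B (v - v') (k • v') = k • v := fun k => by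
    rw [sf, qa]; simp [hv', hvv'']; match_scalars <;> field_simp <;> ring
  have b1 : ∀ k : K, sf B (v - d⁻¹ • v') (k • v) = (k * d⁻¹) • v' := fun k => by
    rw [sf, qb]; simp [hv, hvv']; match_scalars <;> field_simp <;> ring
  have b2 : ∀ k : K, sf B (v - d⁻¹ • v') (k • v') = (k * d) • v := fun k => by
    rw [sf, qb]; simp [hv', hvv'']; match_scalars <;> field_simp <;> ring
  refine ⟨g, hg, hl, ?_, ?_, ?_⟩
  · rw [hgx, show sf B (v - v') v = v' by simpa using a1 1, show sf B (v - d⁻¹ • v') v' = d • v by simpa using b2 1,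
      a1, b2]
  · rw [hgx, show sf B (v - v') v' = v by simpa using a2 1,
      show sf B (v - d⁻¹ • v') v = d⁻¹ • v' by simpa using b1 1, a2, b1, mul_inv]
  · rw [hgx]
    simp [sf, hF.wv, hF.wp]

/-- An element exchanging the two lines of a frame. -/
theorem exists_weyl : ∃ g ∈ M, (∀ (c : K) x, g.1 (c • x) = c • g.1 x) ∧
    g.1 v = (-(B w w / 2)) • v' ∧ g.1 w = -w := by
  have hG := hM.geo
  have h2 := two_ne hG hB
  have hq := hF.ww
  obtain ⟨e, he, hel, hex⟩ := exists_E hM hB hF (2 / B w w)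
  obtain ⟨f, hf, hfl, hfx⟩ := exists_E hM hB (Frame.swap hG hB hF) 1
  refine ⟨e * f * e, mul_mem (mul_mem he hf) he, fun c x => ?_, ?_, ?_⟩
  · simp only [mul_app]; rw [hel, hfl, hel]
  · simp only [mul_app, hex, hfx]
    simp [hF.vv, hF.vp, hF.wv, hF.wp, hF.pp, Frame.pv hG hB hF, Frame.vw hG hB hF, Frame.pw hG hB hF]
    match_scalars <;> field_simp <;> ring
  · simp only [mul_app, hex, hfx]
    simp [hF.vv, hF.vp, hF.wv, hF.wp, hF.pp, Frame.pv hG hB hF, Frame.vw hG hB hF, Frame.pw hG hB hF]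
    match_scalars <;> field_simp <;> ring

end

/-- Transitivity on singular lines. -/
theorem exists_transitive {a b : V} (ha : B a a = 0) (hb : B b b = 0) (ha0 : a ≠ 0) (hb0 : b ≠ 0) :
    ∃ h ∈ M, ∃ t : K, t ≠ 0 ∧ h.1 a = t • b ∧ ∀ (c : K) x, h.1 (c • x) = c • h.1 x := by
  have hG := hM.geo
  have h2 := two_ne hG hB
  by_cases hab : B a b = 0
  · obtain ⟨a', w, hF⟩ := exists_frame hG hB ha ha0
    have hb' := sing_line hG hB hF hb (by rw [B_symm hG hB, hab])
    set k := B b a'
    have hk : k ≠ 0 := fun h => hb0 (by rw [hb', h, zero_smul])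
    exact ⟨1, one_mem M, k⁻¹, inv_ne_zero hk, by rw [hb', smul_smul, inv_mul_cancel₀ hk, one_smul]; rfl,
      fun c x => rfl⟩
  set b' := (B a b)⁻¹ • b with hb'
  have hab' : B a b' = 1 := by simp [hb', inv_mul_cancel₀ hab]
  have hb'' : B b' b' = 0 := by simp [hb', hb]
  obtain ⟨w, hwa, hwb, hww⟩ : ∃ w, B w a = 0 ∧ B w b' = 0 ∧ B w w ≠ 0 := by
    obtain ⟨a', w₀, hF⟩ := exists_frame hG hB ha ha0
    -- move the frame to the pair `a`, `b'`
    set w := w₀ - B b' w₀ • a with hwd
    refine ⟨w, by simp [hwd, hF.wv, ha], ?_, ?_⟩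
    · simp [hwd, B_symm hG hB w₀ b', hab']
    · simp [hwd, hF.wv, Frame.vw hG hB hF, ha, hF.ww]
  have haw : B a w = 0 := by rw [B_symm hG hB, hwa]
  have hbw : B b' w = 0 := by rw [B_symm hG hB, hwb]
  set s := -(B w w / 2) with hs
  have hs0 : s ≠ 0 := neg_ne_zero.2 (div_ne_zero hww h2)
  have hba' : B b' a = 1 := by rw [B_symm hG hB, hab']
  set p := s • a + b' + w with hp
  have hap : B a p = 1 := by simp [hp, ha, hab', haw]
  have hpp : B p p = 0 := by
    simp [hp, ha, hb'', hab', hba', haw, hwa, hbw, hwb, hs]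
    field_simp
    ring
  have hbp : B b' p = s := by simp [hp, hb'', hba', hbw]
  set u := s⁻¹ • b' - a with hu
  have huu : B u u = -2 * s⁻¹ := by simp [hu, ha, hb'', hab', hba']; ring
  obtain ⟨h, hh, hl, hx⟩ := E_mem hM hB hpp (w := u)
    (by simp [hu, B_symm hG hB p b', B_symm hG hB p a, hbp, hap, inv_mul_cancel₀ hs0])
    (by rw [huu]; simp [h2, hs0])
  refine ⟨h, hh, s⁻¹ * (B a b)⁻¹, mul_ne_zero (inv_ne_zero hs0) (inv_ne_zero hab), ?_, hl⟩
  have hau : B a u = s⁻¹ := by simp [hu, ha, hab']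
  rw [hx, ef, hap, hau, huu, mul_smul, ← hb', hu]
  match_scalars <;> field_simp <;> ring

section
variable {v v' w : V} (hF : Frame B v v' w)
include hF

/-- An element of `M` fixing the orthogonal of `v`. -/
theorem trivial_or_root {C : orth Q} (hC : C ∈ M) (hfix : ∀ y, B y v = 0 → C.1 y = y) :
    C = 1 ∨ Root M τ B v := by
  have hG := hM.geo
  have hpv := Frame.pv hG hB hF
  let ψ : K →ₗ[F] K :=
    { toFun := fun c => B (C.1 (c • v') - c • v') v'
      map_add' := fun a b => by simp [add_smul]; ring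
      map_smul' := fun s a => by
        show B (C.1 ((s • a) • v') - (s • a) • v') v' = s • B (C.1 (a • v') - a • v') v'
        rw [smul_assoc, LinearEquiv.map_smul, ← smul_sub, LinearMap.map_smul_of_tower, LinearMap.smul_apply] }
  have hψ : ∀ c, C.1 (c • v') = c • v' + ψ c • v := by
    intro c
    set y := C.1 (c • v') - c • v' with hy
    have hperp : ∀ u, B u v = 0 → B y u = 0 := fun u hu => by
      rw [hy, map_sub, LinearMap.sub_apply, sub_eq_zero]
      refine tau_ext hB.one fun a => ?_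
      rw [← hB.eq, ← hB.eq, hG.adj, hG.adj a (c • v')]
      conv_lhs => rw [← hfix (a • u) (by simp [hu]), polar_orth C]
    have h := frame_eq hG hB hF y
    rw [hperp v hF.vv, hperp w hF.wv, zero_smul, zero_div, zero_smul, add_zero, add_zero] at h
    rw [show ψ c = B y v' from rfl, ← h, hy]
    abel
  have hCx : ∀ x, C.1 x = x + ψ (B x v) • v := by
    intro x
    have h := hfix (x - B x v • v') (by simp [hpv])
    rw [map_sub, hψ] at h
    rw [← sub_eq_zero] at h ⊢
    rw [← h]
    abel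
  have hanti : ∀ P R, τ (ψ P * R) + τ (P * ψ R) = 0 := by
    intro P R
    have h := polar_orth C (P • v') (R • v')
    rw [hψ, hψ] at h
    simp only [f_eq hG hB, map_add, map_smul, LinearMap.add_apply, LinearMap.smul_apply, smul_eq_mul, hF.pp, hF.vv,
      hF.vp, hpv, mul_zero, mul_one, zero_add, add_zero] at h
    rw [mul_comm R, mul_comm (ψ R), map_zero] at h
    exact h
  by_cases hz : ψ = 0
  · exact Or.inl (orth_ext fun x => by rw [hCx, hz]; simp)
  · exact Or.inr ⟨ψ, hanti, hz, C, hC, hCx⟩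

/-- An element of `M` stabilising the line of `v`. -/
theorem test (hno : ¬ Root M τ B v) {k : orth Q} (hk : k ∈ M) (e : K →ₗ[F] K)
    (he : ∀ c : K, k.1 (c • v) = e c • v) (he1 : e 1 = 1) :
    (∀ c y, e (c * y) = e c * e y) ∧
      ∀ (c : K) (u : V), B v u = 0 → ∃ d : K, k.1 (c • u) = e c • k.1 u + d • v := by
  classical
  have hG := hM.geo
  have hv := hF.vv
  have hvv' := hF.vp
  have hv0 := Frame.ne hG hB hF
  have hBv'v := Frame.pv hG hB hF
  have heinj : Function.Injective e := fun a b h => smul_left_injective K hv0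
    (k.1.injective (show k.1 (a • v) = k.1 (b • v) by rw [he, he, h]))
  have hesurj : Function.Surjective e := Finite.injective_iff_surjective.1 heinj
  have hkp : ∀ {y}, B y v = 0 → B (k.1 y) v = 0 := fun {y} hy => by
    refine tau_ext hB.one fun a => ?_
    obtain ⟨a', rfl⟩ := hesurj a
    rw [← hB.eq, hG.adj, ← he, polar_orth k, ← hG.adj, hB.eq, hy, mul_zero, mul_zero]
  have hkip : ∀ {y}, B y v = 0 → B (k⁻¹.1 y) v = 0 := fun {y} hy => by
    refine tau_ext hB.one fun a => ?_
    rw [← hB.eq, hG.adj, polar_inv, he, ← hG.adj, hB.eq, hy, mul_zero, mul_zero]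
  set p := B (k⁻¹.1 v') v with hp
  have hEall : ∀ u, B v u = 0 → ∃ g ∈ M, ∀ x, g.1 x = ef B v u x := fun u hu => by
    by_cases huu : B u u = 0
    · have h := sing_line hG hB hF huu (by rw [B_symm hG hB, hu])
      refine ⟨1, one_mem M, fun x => ?_⟩
      rw [ef, huu, mul_zero, zero_mul, add_zero, h]
      simp [hv]
      rw [mul_comm]
      module
    · obtain ⟨g, hg, -, hgx⟩ := E_mem hM hB hv hu huu
      exact ⟨g, hg, hgx⟩
  have key : ∀ w1 w2, B v w1 = 0 → B v w2 = 0 → e (B (k⁻¹.1 w2) w1) = B (k.1 (p • w1)) w2 := by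
    intro w1 w2 hw1 hw2
    obtain ⟨a, ha, hax⟩ := hEall w2 hw2
    obtain ⟨E1, hE1, hE1x⟩ := hEall w1 hw1
    set b := k * E1 * k⁻¹ with hb
    have hbm : b ∈ M := mul_mem (mul_mem hk hE1) (inv_mem hk)
    have hbx : ∀ x, b.1 x = x + k.1 (B (k⁻¹.1 x) v • w1) -
        e (B (k⁻¹.1 x) w1 + 2⁻¹ * B w1 w1 * B (k⁻¹.1 x) v) • v := fun x => by
      rw [hb, mul_app, mul_app, hE1x, ef, map_sub, map_add, app_inv, he]
    have hay : ∀ y, B y v = 0 → a.1 y = y - B y w2 • v := fun y hy => by
      rw [hax, ef, hy]; simp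
    have hby : ∀ y, B y v = 0 → b.1 y = y - e (B (k⁻¹.1 y) w1) • v := fun y hy => by
      rw [hbx, hkip hy]; simp
    have hkiv : ∀ c : K, B (k⁻¹.1 (c • v)) w1 = 0 := fun c => by
      obtain ⟨c', rfl⟩ := hesurj c
      rw [← he, inv_app, map_smul, LinearMap.smul_apply, hw1, smul_zero]
    have hcomm : ∀ y, B y v = 0 → a.1 (b.1 y) = b.1 (a.1 y) := by
      intro y hy
      rw [hby y hy, hay y hy, hay _ (by simp [hy, hv]), hby _ (by simp [hy, hv])]
      simp only [map_sub, map_smul, LinearMap.sub_apply, LinearMap.smul_apply, hw2, hkiv, smul_zero, sub_zero,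
        smul_eq_mul, mul_zero]
      abel
    have h : a * b * (b * a)⁻¹ = 1 := ((trivial_or_root hM hB hF
      (C := a * b * (b * a)⁻¹) (mul_mem (mul_mem ha hbm) (inv_mem (mul_mem hbm ha))) (fun z hz => by
        have hy : B ((b * a)⁻¹.1 z) v = 0 := by
          have h1 : B (b⁻¹.1 z) v = 0 := by
            rw [show b⁻¹ = k * E1⁻¹ * k⁻¹ by rw [hb]; group, mul_app, mul_app]
            apply hkp
            have h2 : ∀ u, B u v = 0 → B (E1⁻¹.1 u) v = 0 := fun u hu => by
              have h3 := congrArg (fun q => B q v) (hE1x (E1⁻¹.1 u))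
              simp [app_inv, ef, hu, hv, B_symm hG hB w1 v, hw1] at h3
              exact h3.symm
            exact h2 _ (hkip hz)
          rw [mul_inv_rev, mul_app]
          have h3 := congrArg (fun q => B q v) (hax (a⁻¹.1 (b⁻¹.1 z)))
          rw [app_inv] at h3
          simp only [ef, map_add, map_sub, map_smul, LinearMap.add_apply, LinearMap.sub_apply, LinearMap.smul_apply,
            h1, hv, B_symm hG hB w2 v, hw2, smul_eq_mul, mul_zero, add_zero, sub_zero] at h3
          exact h3.symm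
        rw [mul_app, mul_app, hcomm _ hy, ← mul_app b a, app_inv])).resolve_right hno)
    have h : a.1 (b.1 v') = b.1 (a.1 v') := by
      rw [← mul_app, ← mul_app]
      rw [mul_inv_eq_one] at h
      rw [h]
    have hkpw : B (k.1 (p • w1)) v = 0 := hkp (by simp [B_symm hG hB w1 v, hw1])
    have hbv : b.1 v = v := by
      have := hkiv 1
      rw [one_smul] at this
      rw [hby v hv, this]; simp
    have hbw2 : b.1 w2 = w2 - e (B (k⁻¹.1 w2) w1) • v := hby _ (by rw [B_symm hG hB]; exact hw2)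
    have hsm : ∀ c : K, b.1 (c • v) = c • v := fun c => by rw [hby _ (by simp [hv]), hkiv]; simp
    rw [hax, hax, hbx v', ← hp] at h
    simp only [ef, map_add, map_sub, map_smul, LinearMap.add_apply, LinearMap.sub_apply, LinearMap.smul_apply,
      smul_eq_mul, hBv'v, hv, hw2, hkpw, mul_zero, add_zero, zero_add, sub_zero, one_smul, mul_one] at h
    rw [hbw2, hsm, hbx v', ← hp] at h
    have h' := congrArg (fun q => B q v') h
    simp only [map_add, map_sub, map_smul, LinearMap.add_apply, LinearMap.sub_apply, LinearMap.smul_apply,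
      smul_eq_mul, hvv', mul_one] at h'
    linear_combination h'
  have key2 : ∀ w1 w2 (c d : K), B v w1 = 0 → B v w2 = 0 →
      e (c * B (k⁻¹.1 (d • w2)) w1) = d * B (k.1 ((p * c) • w1)) w2 := by
    intro w1 w2 c d h1 h2
    have := key (c • w1) (d • w2) (by simp [h1]) (by simp [h2])
    simpa [smul_smul, mul_comm] using this
  have hvw := Frame.vw hG hB hF
  have hmult : ∀ c y, e (c * y) = e c * e y := by
    set w1 := (B w w)⁻¹ • w with hw1d
    have hw1 : B v w1 = 0 := by simp [hw1d, hvw]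
    have hw2 : B v (k.1 w) = 0 := by rw [B_symm hG hB]; exact hkp hF.wv
    have hG' : ∀ c, B (k.1 ((p * c) • w1)) (k.1 w) = e c := fun c => by
      have := key2 w1 (k.1 w) c 1 hw1 hw2
      rw [one_smul, one_mul, inv_app] at this
      rw [← this]
      simp [hw1d, hF.ww]
    intro c y
    have h1 := key2 w1 (k.1 w) 1 (e y) hw1 hw2
    rw [hG', one_mul, he1, mul_one] at h1
    have h2 := key2 w1 (k.1 w) c (e y) hw1 hw2
    rw [hG', heinj h1] at h2
    rw [h2, mul_comm]
  refine ⟨hmult, fun c u hu => ?_⟩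
  have hkw : B v (k.1 u) = 0 := by
    rw [B_symm hG hB]; exact hkp (by rw [B_symm hG hB]; exact hu)
  set d := e c
  set y := k⁻¹.1 (d • k.1 u) - c • u with hy
  have hperp : ∀ u', B v u' = 0 → B y u' = 0 := fun u' hu' => by
    apply heinj
    rw [map_zero, hy, map_sub, LinearMap.sub_apply, map_sub]
    have h1 := key2 u' (k.1 u) 1 d hu' hkw
    have h2 := key2 u' (k.1 u) 1 1 hu' hkw
    rw [one_smul, one_mul, inv_app, one_mul] at h2
    rw [one_mul, ← h2] at h1
    rw [h1, map_smul, LinearMap.smul_apply, smul_eq_mul, hmult, sub_self]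
  have hline := frame_eq hG hB hF y
  rw [hperp v hv, hperp w hvw, zero_smul, zero_div, zero_smul, add_zero, add_zero] at hline
  set q := B y v' with hq
  have h := congrArg k.1 hline
  rw [hy, map_sub, app_inv, he] at h
  exact ⟨-e q, by rw [neg_smul, ← h]; abel⟩

/-- Moving roots around. -/
theorem root_map {u : V} {t : K} (ht : t ≠ 0) {h : orth Q} (hh : h ∈ M)
    (hl : ∀ (c : K) x, h.1 (c • x) = c • h.1 x) (hhv : h.1 v = t • u) (hR : Root M τ B v) :
    Root M τ B u := by
  obtain ⟨ψ, hanti, hψ, C, hC, hCx⟩ := hR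
  refine ⟨(LinearMap.mulLeft F t).comp (ψ.comp (LinearMap.mulLeft F t)), fun P R => ?_, fun h0 => hψ ?_,
    h * C * h⁻¹, mul_mem (mul_mem hh hC) (inv_mem hh), fun x => ?_⟩
  · simp only [LinearMap.comp_apply, LinearMap.mulLeft_apply]
    have := hanti (t * P) (t * R)
    rw [show t * ψ (t * P) * R = ψ (t * P) * (t * R) by ring, show P * (t * ψ (t * R)) = t * P * ψ (t * R) by ring]
    exact this
  · refine LinearMap.ext fun c => ?_
    have := LinearMap.congr_fun h0 (c / t)
    simpa [mul_div_cancel₀ _ ht, ht] using this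
  · have e : B (h⁻¹.1 x) v = t * B x u := by
      rw [← B_map hM.geo hB hl (h⁻¹.1 x) v, app_inv, hhv, map_smul, smul_eq_mul]
    rw [mul_app, mul_app, hCx, map_add, app_inv, hl, hhv, smul_smul, e]
    simp only [LinearMap.comp_apply, LinearMap.mulLeft_apply]
    rw [mul_comm (ψ _)]

/-- The elements fixing a line pointwise. -/
theorem fix_line (hno : ¬ Root M τ B v) {k : orth Q} (hk : k ∈ M) (hkv : ∀ c : K, k.1 (c • v) = c • v) :
    ∃ a : K, ∀ x, k.1 x = x + (B x v * a) • w - (a * B x w + 2⁻¹ * (a * a * B w w) * B x v) • v := by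
  classical
  have hG := hM.geo
  have h2 := two_ne hG hB
  have hvw := Frame.vw hG hB hF
  have hpv := Frame.pv hG hB hF
  have hpw := Frame.pw hG hB hF
  have hq := hF.ww
  set q := B w w with hqd
  have hkv1 : k.1 v = v := by simpa using hkv 1
  have hBk : ∀ x, B (k.1 x) v = B x v := fun x => by
    refine tau_ext hB.one fun c => ?_
    rw [← hB.eq, ← hB.eq, hG.adj, hG.adj c x, ← polar_orth k x (c • v), hkv]
  obtain ⟨a₀, ha₀⟩ : ∃ a₀, k.1 v' = B (k.1 v') v' • v + v' + a₀ • w := ⟨B (k.1 v') w / q, by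
    have h := frame_eq hG hB hF (k.1 v')
    rwa [hBk, hpv, one_smul] at h⟩
  obtain ⟨e, he, hel, hex⟩ := exists_E hM hB hF (-a₀)
  set k1 := e * k with hk1
  have hk1m : k1 ∈ M := mul_mem he hk
  have hk1v : ∀ c : K, k1.1 (c • v) = c • v := fun c => by
    rw [hk1, mul_app, hkv, hex]; simp [hF.vv, hvw]
  obtain ⟨ρ, hρ⟩ : ∃ ρ : K, k1.1 v' = v' + ρ • v := by
    refine ⟨B (k.1 v') v' - (-a₀ * (a₀ * q) + 2⁻¹ * (a₀ * a₀ * q)), ?_⟩
    rw [hk1, mul_app, hex, hBk, ha₀]
    simp [hF.vv, hpv, hF.wv, hvw, hpw, hF.pp, hF.vp, hF.wp, ← hqd]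
    module
  obtain ⟨-, hsemi⟩ := test hM hB hF hno hk1m LinearMap.id hk1v rfl
  have hBk1 : ∀ x, B (k1.1 x) v = B x v := fun x => by
    refine tau_ext hB.one fun c => ?_
    rw [← hB.eq, ← hB.eq, hG.adj, hG.adj c x, ← polar_orth k1 x (c • v), hk1v]
  set μ := B (k1.1 w) w / q with hμd
  have hkw : k1.1 w = B (k1.1 w) v' • v + μ • w := by
    have h := frame_eq hG hB hF (k1.1 w)
    rwa [hBk1, hF.wv, zero_smul, add_zero] at h
  have hkc : ∀ c : K, ∃ d, k1.1 (c • w) = (c * μ) • w + d • v := fun c => by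
    obtain ⟨d, hd⟩ := hsemi c w hvw
    refine ⟨c * B (k1.1 w) v' + d, ?_⟩
    rw [hd, LinearMap.id_apply]
    conv_lhs => rw [hkw]
    module
  have hμ2 : μ * μ = 1 := by
    refine mul_right_cancel₀ hq (tau_ext hB.one fun c => ?_)
    obtain ⟨d, hd⟩ := hkc c
    have h := polar_orth k1 (c • w) w
    rw [hd, hkw, hB.eq, f_eq hG hB] at h
    simp [hF.vv, hvw, hF.wv, ← hqd] at h
    rw [show c * (μ * μ * q) = c * μ * (μ * q) by ring, h, one_mul]
  -- exact values on `w`
  have hkx : ∀ c : K, k1.1 (c • w) = (μ * c) • w := by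
    intro c
    obtain ⟨d, hd⟩ := hkc c
    obtain ⟨e1, he1, -, he1x⟩ := exists_E hM hB hF c
    obtain ⟨e2, he2, -, he2x⟩ := exists_E hM hB hF (μ * c)
    have hfix : ∀ x, B x v = 0 → e2.1 (k1.1 x) = k1.1 (e1.1 x) := fun x hx => by
      have hx1 := frame_eq hG hB hF x
      rw [hx, zero_smul, add_zero] at hx1
      obtain ⟨d', hd'⟩ := hkc (B x w / q)
      rw [he2x, hBk1, he1x, hx]
      simp only [zero_mul, mul_zero, zero_smul, add_zero, map_sub, hk1v]
      congr 2
      have hxw : B (k1.1 x) w = B x w * μ := by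
        rw [hx1, map_add, hk1v, hd']
        simp [hvw, ← hqd]
        field_simp
      rw [hxw]
      linear_combination (c * B x w) * hμ2
    have hC : e2⁻¹ * (k1 * e1 * k1⁻¹) = 1 := (trivial_or_root hM hB hF
      (mul_mem (inv_mem he2) (mul_mem (mul_mem hk1m he1) (inv_mem hk1m))) (fun y hy => by
        have hy' : B (k1⁻¹.1 y) v = 0 := by rw [← hBk1, app_inv, hy]
        rw [mul_app, mul_app, mul_app, ← hfix _ hy', inv_app, app_inv])).resolve_right hno
    rw [inv_mul_eq_one, eq_mul_inv_iff_mul_eq] at hC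
    have h := congrArg (fun g : orth Q => B (g.1 v') v') hC
    simp only [mul_app, hρ, he1x, he2x, map_add, map_sub] at h
    simp only [hF.vv, hpv, hF.wv, hvw, hpw, hF.pp, hF.vp, hF.wp, map_smul, LinearMap.smul_apply, smul_eq_mul,
      map_add, LinearMap.add_apply, LinearMap.sub_apply, map_sub, hk1v, hρ, hd, ← hqd, one_mul, mul_zero, mul_one,
      add_zero, zero_add, sub_zero] at h
    have hd0 : d = 0 := by linear_combination (-h) - (2⁻¹ * c * c * q) * hμ2
    rw [hd, hd0, zero_smul, add_zero, mul_comm]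
  -- the opposite line
  have hkp : ∀ c : K, k1.1 (c • v') = c • v' + B (k1.1 (c • v')) v' • v := by
    intro c
    set x := k1.1 (c • v') with hx
    have h := frame_eq hG hB hF x
    have h1 : B x v = c := by rw [hx, hBk1]; simp [hpv]
    have h3 : B x (μ • w) = 0 := by
      refine tau_ext hB.one fun b => ?_
      rw [← hB.eq, hG.adj, smul_smul, mul_comm b, ← hkx, hx, polar_orth k1, ← hG.adj, hB.eq]
      simp [hpw]
    have hμ0 : μ ≠ 0 := fun h => by simp [h] at hμ2
    rw [map_smul, smul_eq_mul, mul_eq_zero] at h3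
    rw [h1, h3.resolve_left hμ0, zero_div, zero_smul, add_zero] at h
    conv_lhs => rw [h]
    abel
  rcases mul_self_eq_one_iff.1 hμ2 with hμ1 | hμ1
  · have hC := (trivial_or_root hM hB hF hk1m fun y hy => by
      have hy1 := frame_eq hG hB hF y
      rw [hy, zero_smul, add_zero] at hy1
      rw [hy1, map_add, hk1v, hkx, hμ1, one_mul]).resolve_right hno
    refine ⟨a₀, fun x => ?_⟩
    have h := congrArg (fun g : orth Q => g.1 x) hC
    simp only [hk1, mul_app] at h
    obtain ⟨e', -, -, he'x⟩ := exists_E hM hB hF a₀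
    rw [← he'x]
    apply e.1.injective
    rw [h, hex, he'x]
    simp [hF.vv, hpv, hF.wv, hvw, hpw, hF.pp, hF.vp, hF.wp, ← hqd]
    match_scalars <;> field_simp <;> ring
  · exfalso
    have hC := (trivial_or_root hM hB hF (mul_mem hk1m hk1m) fun y hy => by
      have hy1 := frame_eq hG hB hF y
      rw [hy, zero_smul, add_zero] at hy1
      rw [mul_app, hy1, map_add, hk1v, hkx, hμ1, map_add, hk1v, hkx, hμ1]
      congr 2
      ring).resolve_right hno
    have hα : ∀ c : K, B (k1.1 (c • v')) v' = 0 := fun c => by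
      have h := congrArg (fun g : orth Q => g.1 (c • v')) hC
      simp only [mul_app] at h
      rw [hkp, map_add, hk1v, hkp] at h
      have h' := congrArg (fun y => B y v') h
      simp [hF.vp, hF.pp] at h'
      exact (mul_eq_zero.1 (show (2 : K) * B (k1.1 (c • v')) v' = 0 by linear_combination h')).resolve_left h2
    let T : V →ₗ[K] V := LinearMap.transvection ((-2 / q) • B.flip w) w
    have hT : (k1.1 : V →ₗ[F] V) = T.restrictScalars F := by
      refine LinearMap.ext fun x => ?_
      show k1.1 x = x + ((-2 / q) * B x w) • w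
      conv_lhs => rw [frame_eq hG hB hF x, map_add, map_add, hk1v, hkp, hα, hkx, hμ1, zero_smul, add_zero]
      conv_rhs => arg 1; rw [frame_eq hG hB hF x]
      rw [← hqd]
      match_scalars <;> field_simp <;> ring
    have hd := hM.det k1 hk1m
    have hdT : LinearMap.det T = -1 := by
      rw [LinearMap.transvection.det]
      simp [← hqd, div_mul_cancel₀ _ hq]
      ring
    rw [hT, LinearMap.det_restrictScalars, hdT, show (-1 : K) = algebraMap F K (-1) by simp,
      Algebra.norm_algebraMap, (hG.prime.odd_of_ne_two (by have := hG.three; omega)).neg_one_pow] at hd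
    exact hM.geo.two (by linear_combination -hd)

end

theorem span_sq (P : AddSubgroup K) (h : ∀ a : K, a * a ∈ P) (c : K) : c ∈ P := by
  have h2 := two_ne hM.geo hB
  rw [show c = (c + 1) / 2 * ((c + 1) / 2) - (c - 1) / 2 * ((c - 1) / 2) by field_simp; ring]
  exact sub_mem (h _) (h _)

theorem Q_line {v : V} (hv : B v v = 0) (c : K) : Q (c • v) = 0 := by
  rw [Q_eq hM.geo hB]; simp [hv]

end

end Cfsg.Agent.ExtFieldThree10
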