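import Mathlib
import Cfsg.Agent.Lib.ExtFieldThree10Basic
import Cfsg.Agent.Lib.ExtFieldOrthBase

/-!
An element of the group moving the field sends some singular vector to a non-singular one; field
automorphism helpers.
-/

set_option autoImplicit false
set_option linter.unusedSectionVars false
set_option linter.style.haveILetI false
set_option maxHeartbeats 800000

namespace Cfsg.Agent.ExtFieldThree10

open QuadraticMap Module
open Cfsg.Agent.OrthUnitaryQuad Cfsg.Agent.OrthUnitaryRefl

variable {F K V : Type*} [Field F] [Fintype F] [Field K] [Fintype K] [Algebra F K]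
  [AddCommGroup V] [Module F V] [Module K V] [IsScalarTower F K V] [FiniteDimensional K V]

/-- A multiplicative linear map fixing one is a field automorphism. -/
theorem exists_aut (e : K →ₗ[F] K) (he1 : e 1 = 1) (hm : ∀ c y, e (c * y) = e c * e y) :
    ∃ σ : K ≃ₐ[F] K, ∀ c, σ c = e c := by
  let f : K →ₐ[F] K := AlgHom.ofLinearMap e he1 hm
  exact ⟨AlgEquiv.ofBijective f (Finite.injective_iff_bijective.1 f.toRingHom.injective), fun c => rfl⟩

/-- Independence of distinct automorphisms. -/
theorem aut_indep {ι : Type*} (s : Finset ι) (σ : ι → K ≃ₐ[F] K) (hinj : Set.InjOn σ s) (κ : ι → K)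
    (h : ∀ c, ∑ i ∈ s, κ i * σ i c = 0) : ∀ i ∈ s, κ i = 0 := by
  classical
  intro i hi
  let f : s → (K →* K) := fun i => ((σ i.1).toAlgHom : K →* K)
  have hf : Function.Injective f := fun a b hab => Subtype.ext (hinj a.2 b.2 (AlgEquiv.ext fun c => by
    exact DFunLike.congr_fun hab c))
  have hli := (linearIndependent_monoidHom K K).comp f hf
  rw [Fintype.linearIndependent_iff] at hli
  refine hli (fun j => κ j.1) ?_ ⟨i, hi⟩
  funext c
  rw [Finset.sum_apply]
  have := h c
  rw [← Finset.sum_coe_sort] at this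
  simpa [f] using this

variable {Q : QuadraticForm F V} {M : Subgroup (orth Q)}

section
variable {τ : K →ₗ[F] F} {B : V →ₗ[K] V →ₗ[K] K} (hG : Geo K Q) (hB : Lifts Q τ B)
include hG hB

theorem exists_sing : ∃ v : V, v ≠ 0 ∧ B v v = 0 := by
  obtain ⟨v, hv, h⟩ := ExtFieldOrth.exists_zero (F := K) (W := V) (fun _ : Unit => B) (fun _ => 0)
    (by rw [Fintype.card_unit, hG.dim]; norm_num)
  exact ⟨v, hv, by simpa using h ()⟩

theorem frame_of_pair {a b : V} (ha : B a a = 0) (hb : B b b = 0) (hab : B a b = 1) :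
    ∃ w, Frame B a b w := by
  have ha0 : a ≠ 0 := fun h => by simp [h] at hab
  obtain ⟨a', w₀, hF⟩ := exists_frame hG hB ha ha0
  refine ⟨w₀ - B b w₀ • a, ha, hb, hab, by simp [hF.wv, ha], ?_, ?_⟩
  · simp [B_symm hG hB w₀ b, hab]
  · simp [hF.wv, Frame.vw hG hB hF, ha, hF.ww]

/-- A map preserving the set of singular vectors is semilinear. -/
theorem semilinear_of_sing {g : orth Q} (hall : ∀ x, B x x = 0 → B (g.1 x) (g.1 x) = 0) :
    ∀ c : K, ∃ d : K, ∀ x, g.1 (c • x) = d • g.1 x := by
  classical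
  have h2 := two_ne hG hB
  obtain ⟨v, hv0, hv⟩ := exists_sing hG hB
  obtain ⟨v', w, hF⟩ := exists_frame hG hB hv hv0
  have hpv := Frame.pv hG hB hF
  have hvw := Frame.vw hG hB hF
  have hpw := Frame.pw hG hB hF
  have hline : ∀ x, B x x = 0 → ∀ c : K, B (g.1 (c • x)) (g.1 x) = 0 := fun x hx c => by
    have h := hall (c • x + x) (by simp [hx])
    rw [map_add] at h
    simp [hall x hx, hall (c • x) (by simp [hx]), B_symm hG hB (g.1 x) (g.1 (c • x))] at h
    exact (mul_eq_zero.1 (show (2 : K) * B (g.1 (c • x)) (g.1 x) = 0 by linear_combination h)).resolve_left h2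
  set y := g.1 v with hy
  set y' := g.1 v' with hy'
  have hyy : B y y = 0 := hall v hv
  have hy'y' : B y' y' = 0 := hall v' hF.pp
  have hy0 : y ≠ 0 := (map_ne_zero_iff _ g.1.injective).2 hv0
  set β := B y y' with hβ
  have hβ0 : β ≠ 0 := by
    intro h0
    obtain ⟨y₁, u₁, hFy⟩ := exists_frame hG hB hyy hy0
    have e1 := sing_line hG hB hFy hy'y' (by rw [B_symm hG hB]; exact h0)
    let f : K → K := fun c => B (g.1 (c • v)) y₁
    have hf : ∀ c, g.1 (c • v) = f c • y := fun c =>
      sing_line hG hB hFy (hall _ (by simp [hv])) (hline v hv c)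
    have hfinj : Function.Injective f := fun a b h => smul_left_injective K hv0 (g.1.injective (show
      g.1 (a • v) = g.1 (b • v) by rw [hf, hf, h]))
    obtain ⟨c, hc⟩ := Finite.injective_iff_surjective.1 hfinj (B y' y₁)
    have := g.1.injective (e1.trans (by rw [← hc, ← hf]) : g.1 v' = g.1 (c • v))
    have h1 := hF.vp
    rw [this] at h1
    simp [hv] at h1
  set y2 := β⁻¹ • y' with hy2
  have hy2y2 : B y2 y2 = 0 := by simp [hy2, hy'y']
  have hyy2 : B y y2 = 1 := by simp [hy2, ← hβ, inv_mul_cancel₀ hβ0]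
  obtain ⟨u, hFy⟩ := frame_of_pair hG hB hyy hy2y2 hyy2
  have hy2y := Frame.pv hG hB hFy
  have hyu := Frame.vw hG hB hFy
  have hy2u := Frame.pw hG hB hFy
  set q' := B u u with hq'
  let σ : K →ₗ[F] K :=
    { toFun := fun c => B (g.1 (c • v)) y2
      map_add' := fun a b => by simp [add_smul]
      map_smul' := fun s a => by
        show B (g.1 ((s • a) • v)) y2 = s • B (g.1 (a • v)) y2
        simp [smul_assoc] }
  let σ' : K →ₗ[F] K :=
    { toFun := fun c => B (g.1 (c • v')) y
      map_add' := fun a b => by simp [add_smul]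
      map_smul' := fun s a => by
        show B (g.1 ((s • a) • v')) y = s • B (g.1 (a • v')) y
        rw [smul_assoc, LinearEquiv.map_smul, LinearMap.map_smul_of_tower, LinearMap.smul_apply] }
  let C : K →ₗ[F] K :=
    { toFun := fun c => B (g.1 (c • w)) u / q'
      map_add' := fun a b => by simp [add_smul, add_div]
      map_smul' := fun s a => by
        show B (g.1 ((s • a) • w)) u / q' = s • (B (g.1 (a • w)) u / q')
        rw [smul_assoc, LinearEquiv.map_smul, LinearMap.map_smul_of_tower, LinearMap.smul_apply, smul_div_assoc] }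
  have hgv : ∀ c : K, g.1 (c • v) = σ c • y := fun c =>
    sing_line hG hB hFy (hall _ (by simp [hv])) (hline v hv c)
  have hgv' : ∀ c : K, g.1 (c • v') = σ' c • y2 := fun c =>
    sing_line hG hB (Frame.swap hG hB hFy) (hall _ (by simp [hF.pp]))
      (by rw [hy2, map_smul, hline v' hF.pp c, smul_zero])
  have hσ1 : σ 1 = 1 := by
    show B (g.1 ((1 : K) • v)) y2 = 1
    rw [one_smul]; exact hyy2
  have hinj' : Function.Injective σ' := fun a b h => smul_left_injective K (Frame.ne hG hB (Frame.swap hG hB hF))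
    (g.1.injective (show g.1 (a • v') = g.1 (b • v') by rw [hgv', hgv', h]))
  have hinj : Function.Injective σ := fun a b h => smul_left_injective K hv0
    (g.1.injective (show g.1 (a • v) = g.1 (b • v) by rw [hgv, hgv, h]))
  have hgw : ∀ c : K, g.1 (c • w) = C c • u := by
    intro c
    have h1 : B (g.1 (c • w)) y = 0 := tau_ext hB.one fun a => by
      obtain ⟨a', rfl⟩ := Finite.injective_iff_surjective.1 hinj a
      rw [← hB.eq, hG.adj, ← hgv, polar_orth g, ← hG.adj, hB.eq]
      simp [hF.wv]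
    have h3 : B (g.1 (c • w)) y2 = 0 := tau_ext hB.one fun a => by
      obtain ⟨a', rfl⟩ := Finite.injective_iff_surjective.1 hinj' a
      rw [← hB.eq, hG.adj, ← hgv', polar_orth g, ← hG.adj, hB.eq]
      simp [hF.wp]
    have h := frame_eq hG hB hFy (g.1 (c • w))
    rw [h1, h3, zero_smul, zero_smul, zero_add, zero_add] at h
    exact h
  set k := B w w / 2 with hk
  have hk0 : k ≠ 0 := div_ne_zero hF.ww h2
  -- images of the singular points off the orthogonal of `v`
  have hrel : ∀ c a : K, c ≠ 0 → C (c * a) * σ' 1 = σ' c * C a ∧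
      σ (c * (a * a * k)) * σ' 1 = σ (a * a * k) * σ' c := by
    intro c a hc
    set p := v' + a • w - (a * a * k) • v with hp
    have hpp : B p p = 0 := by
      simp [hp, hF.vv, hF.pp, hF.vp, hpv, hF.wv, hF.wp, hvw, hpw, hk]
      field_simp
      ring
    have hgp : ∀ c, g.1 (c • p) = σ' c • y2 + C (c * a) • u - σ (c * (a * a * k)) • y := fun c => by
      rw [hp, smul_sub, smul_add, smul_smul, smul_smul, map_sub, map_add, hgv', hgw, hgv]
    have e1 : g.1 p = σ' 1 • y2 + C a • u - σ (a * a * k) • y := by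
      have := hgp 1
      rwa [one_smul, one_mul, one_mul] at this
    have s1 := hall p hpp
    have s2 := hall (c • p) (by simp [hpp])
    have s3 := hline p hpp c
    rw [hgp, e1] at s3
    rw [hgp] at s2
    rw [e1] at s1
    simp [hFy.vv, hFy.pp, hFy.vp, hy2y, hFy.wv, hFy.wp, hyu, hy2u, ← hq'] at s1 s2 s3
    set A := σ' c
    set A₁ := σ' 1
    set S := σ (c * (a * a * k))
    set S₁ := σ (a * a * k)
    set E := C (c * a)
    set E₁ := C a
    have hA₁ : A₁ ≠ 0 := fun h => one_ne_zero (hinj' (h.trans (map_zero σ').symm))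
    have hA : A ≠ 0 := fun h => hc (hinj' (h.trans (map_zero σ').symm))
    have hsq : q' * ((E * A₁ - E₁ * A) * (E * A₁ - E₁ * A)) = 0 := by
      linear_combination A₁ * A₁ * s2 + A * A * s1 - 2 * A * A₁ * s3
    have hEA : E * A₁ = E₁ * A :=
      sub_eq_zero.1 (mul_self_eq_zero.1 ((mul_eq_zero.1 hsq).resolve_left hFy.ww))
    refine ⟨hEA.trans (mul_comm _ _), ?_⟩
    apply mul_left_cancel₀ (mul_ne_zero h2 (mul_ne_zero hA hA₁))
    linear_combination (-(A₁ * A₁)) * s2 + (A * A) * s1 + q' * (E * A₁ + E₁ * A) * hEA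
  have hσ'1 : σ' 1 ≠ 0 := fun h => one_ne_zero (hinj' (h.trans (map_zero σ').symm))
  let P : AddSubgroup K :=
    { carrier := {x | ∀ c, σ (c * x) * σ' 1 = σ x * σ' c}
      add_mem' := fun {x x'} hx hx' c => by rw [mul_add, map_add, add_mul, hx c, hx' c, map_add, add_mul]
      zero_mem' := fun c => by simp
      neg_mem' := fun {x} hx c => by rw [mul_neg, map_neg, neg_mul, hx c, map_neg, neg_mul] }
  have hP : ∀ a : K, a * a * k ∈ P := fun a c => by
    by_cases hc : c = 0
    · simp [hc]
    · exact (hrel c a hc).2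
  have hPall : ∀ x, x ∈ P := fun x => by
    let P' : AddSubgroup K := P.comap (AddMonoidHom.mulRight k)
    have h := hP ((x / k + 1) / 2)
    have h' := hP ((x / k - 1) / 2)
    rw [show x = (x / k + 1) / 2 * ((x / k + 1) / 2) * k - (x / k - 1) / 2 * ((x / k - 1) / 2) * k by
      field_simp; ring]
    exact sub_mem h h'
  have hσ' : ∀ c, σ' c = σ c * σ' 1 := fun c => by
    have := hPall 1 c
    rw [mul_one, hσ1, one_mul] at this
    exact this.symm
  have hmult : ∀ c x, σ (c * x) = σ c * σ x := fun c x => by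
    have := hPall x c
    rw [hσ' c] at this
    exact mul_right_cancel₀ hσ'1 (by linear_combination this)
  have hC : ∀ c, C c = σ c * C 1 := fun c => by
    by_cases hc : c = 0
    · simp [hc]
    have := (hrel c 1 hc).1
    rw [mul_one, hσ' c] at this
    exact mul_right_cancel₀ hσ'1 (by linear_combination this)
  intro c
  refine ⟨σ c, fun x => ?_⟩
  rw [frame_eq hG hB hF x, smul_add, smul_add, smul_smul, smul_smul, smul_smul, map_add, map_add, map_add, map_add,
    hgv, hgv, hgv', hgv', hgw, hgw, hmult, hσ', hσ' (B x v), hC (c * _), hC (B x w / B w w), hmult, hmult]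
  module

end

/-- Some element of `M` maps a singular vector to a non-singular one. -/
theorem exists_aniso_image (hM : Hyp K Q M) {τ : K →ₗ[F] F} {B : V →ₗ[K] V →ₗ[K] K} (hB : Lifts Q τ B) :
    ∃ g ∈ M, ∃ v, v ≠ 0 ∧ B v v = 0 ∧ B (g.1 v) (g.1 v) ≠ 0 := by
  obtain ⟨g, hg, c, hc⟩ := hM.move
  by_contra hcon
  push Not at hcon
  obtain ⟨d, hd⟩ := semilinear_of_sing hM.geo hB (g := g) (fun x hx => by
    by_cases hx0 : x = 0
    · simp [hx0]
    · exact hcon g hg x hx0 hx) c
  obtain ⟨x, hx⟩ := hc d
  exact hx (hd x)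

end Cfsg.Agent.ExtFieldThree10
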