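import Mathlib
import Cfsg.Agent.Lib.ExtFieldThree10Semi

/-!
A rotation of prime order about a non-singular vector, its centraliser and normaliser among p-elements.
-/

set_option autoImplicit false
set_option linter.unusedSectionVars false
set_option linter.style.haveILetI false
set_option maxHeartbeats 800000

namespace Cfsg.Agent.ExtFieldThree10

open QuadraticMap Module
open Cfsg.Agent.OrthUnitaryQuad Cfsg.Agent.OrthUnitaryRefl

theorem exists_prime_dvd_pow {q r : ℕ} (hq : 3 ≤ q) (hqo : Odd q) (hr : r.Prime) (h3r : 3 ≤ r) (ε : ℤ)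
    (hε : ε = 1 ∨ ε = -1) :
    ∃ ℓ : ℕ, ℓ.Prime ∧ ℓ ≠ 2 ∧ (q : ZMod ℓ) ^ r = (ε : ZMod ℓ) ∧ (q : ZMod ℓ) ^ 2 ≠ 1 := by
  have hro : Odd r := hr.odd_of_ne_two (by omega)
  have hεr : ε ^ r = ε := by rcases hε with rfl | rfl <;> simp [hro.neg_one_pow]
  have hεε : ε * ε = 1 := by rcases hε with rfl | rfl <;> simp
  set x : ℤ := ε * q with hx
  set N : ℤ := ∑ i ∈ Finset.range r, x ^ i with hN
  have hmul : N * (x - 1) = ε * ((q : ℤ) ^ r - ε) := by
    rw [hN, geom_sum_mul, hx, mul_pow, hεr]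
    linear_combination hεε
  by_cases hex : ∃ ℓ : ℕ, ℓ.Prime ∧ ℓ ≠ r ∧ (ℓ : ℤ) ∣ N
  · obtain ⟨ℓ, hℓ, hℓr, hdvd⟩ := hex
    haveI : Fact ℓ.Prime := ⟨hℓ⟩
    have h0 : ((N : ℤ) : ZMod ℓ) = 0 := (ZMod.intCast_zmod_eq_zero_iff_dvd _ _).2 hdvd
    have hpow : (q : ZMod ℓ) ^ r = (ε : ZMod ℓ) := by
      have h := congrArg (fun n : ℤ => (n : ZMod ℓ)) hmul
      push_cast at h
      rw [h0, zero_mul, eq_comm, mul_eq_zero] at h
      have hne : (ε : ZMod ℓ) ≠ 0 := by rcases hε with rfl | rfl <;> simp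
      exact sub_eq_zero.1 (h.resolve_left hne)
    have hsum : ∑ i ∈ Finset.range r, (x : ZMod ℓ) ^ i = 0 := by
      rw [← h0, hN]; push_cast; rfl
    have hm1 : (x : ZMod ℓ) ≠ -1 := by
      intro h
      rw [h] at hsum
      rw [neg_one_geom_sum, if_neg (Nat.not_even_iff_odd.2 hro)] at hsum
      exact one_ne_zero hsum
    have h1 : (x : ZMod ℓ) ≠ 1 := by
      intro h
      rw [h] at hsum
      simp [ZMod.natCast_eq_zero_iff, Nat.prime_dvd_prime_iff_eq hℓ hr] at hsum
      exact hℓr hsum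
    refine ⟨ℓ, hℓ, ?_, hpow, fun h => ?_⟩
    · rintro rfl
      have hx1 : (x : ZMod 2) = 1 := by
        have hq1 : (q : ZMod 2) = 1 := ZMod.natCast_eq_one_iff_odd.2 hqo
        rcases hε with rfl | rfl <;> simp [hx, hq1]
      exact h1 hx1
    · have h' : (x : ZMod ℓ) * x = 1 := by
        rw [hx]; push_cast
        have : (ε : ZMod ℓ) * ε = 1 := by rw [← Int.cast_mul, hεε, Int.cast_one]
        linear_combination (ε : ZMod ℓ) * ε * h + this
      rcases mul_self_eq_one_iff.1 h' with h' | h'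
      exacts [h1 h', hm1 h']
  exfalso
  push Not at hex
  have hall : ∀ ℓ : ℕ, ℓ.Prime → ℓ ∣ N.natAbs → ℓ = r := fun ℓ hℓ h => by
    by_contra hne
    exact hex ℓ hℓ hne (Int.natCast_dvd.2 h)
  have hsq : ¬ r * r ∣ N.natAbs := by
    intro h
    haveI : Fact r.Prime := ⟨hr⟩
    have hrN : (r : ℤ) * r ∣ N := by
      have := Int.natCast_dvd.2 h
      exact_mod_cast this
    have h1 : ((x - 1 : ℤ) : ZMod r) = 0 := by
      have h0 : ((N : ℤ) : ZMod r) = 0 :=
        (ZMod.intCast_zmod_eq_zero_iff_dvd _ _).2 (dvd_trans (dvd_mul_right _ _) hrN)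
      have h2 := congrArg (fun n : ℤ => (n : ZMod r)) (geom_sum_mul x r)
      simp only [← hN] at h2
      push_cast at h2 ⊢
      rw [h0, zero_mul, ZMod.pow_card] at h2
      exact h2.symm
    obtain ⟨b, hb⟩ := (ZMod.intCast_zmod_eq_zero_iff_dvd _ _).1 h1
    have h3 := odd_sq_dvd_geom_sum₂_sub (R := ℤ) (a := 1) (b := b) (p := r) hro
    simp only [one_pow, mul_one, ← hb, add_sub_cancel, ← hN] at h3
    have h4 : (r : ℤ) * r ∣ (r : ℤ) := by
      have h3' : (r : ℤ) * r ∣ N - r := by rw [← pow_two]; exact h3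
      have := dvd_sub hrN h3'
      simpa using this
    have := Int.le_of_dvd (by exact_mod_cast hr.pos) h4
    have : (3 : ℤ) ≤ r := by exact_mod_cast h3r
    nlinarith
  have hgt : r < N.natAbs := by
    by_contra hle
    push Not at hle
    have habs := congrArg Int.natAbs hmul
    rw [Int.natAbs_mul, Int.natAbs_mul] at habs
    have he : ε.natAbs = 1 := by rcases hε with rfl | rfl <;> rfl
    have hx1 : (x - 1).natAbs ≤ q + 1 := by
      rcases hε with rfl | rfl <;> omega
    have hpow : q ^ r ≤ ((q : ℤ) ^ r - ε).natAbs + 1 := by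
      rw [← Nat.cast_pow]
      rcases hε with rfl | rfl <;> omega
    rw [he, one_mul] at habs
    have hbound : q ^ r ≤ r * (q + 1) + 1 := by
      calc q ^ r ≤ ((q : ℤ) ^ r - ε).natAbs + 1 := hpow
        _ = N.natAbs * (x - 1).natAbs + 1 := by rw [habs]
        _ ≤ _ := Nat.add_le_add_right (Nat.mul_le_mul hle hx1) 1
    obtain ⟨r', rfl⟩ : ∃ r', r = r' + 3 := ⟨r - 3, by omega⟩
    have h3 : r' + 3 ≤ 3 ^ (r' + 1) := by
      clear hbound hsq hall hex hle habs hpow hmul hεr hro hr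
      induction r' with
      | zero => norm_num
      | succ n ih => rw [pow_succ]; omega
    have h4 : q ^ (r' + 3) = q ^ 2 * q ^ (r' + 1) := by rw [← pow_add]; congr 1; omega
    have h5' : 3 ^ (r' + 1) ≤ q ^ (r' + 1) := Nat.pow_le_pow_left hq _
    have h7 : 3 * q * (r' + 3) ≤ q ^ (r' + 3) := by
      rw [h4, pow_two]; exact Nat.mul_le_mul (Nat.mul_le_mul_right q hq) (h3.trans h5')
    nlinarith
  have h1 : N.natAbs ≠ 1 := by omega
  obtain ⟨p, hp, hpd⟩ := Nat.exists_prime_and_dvd h1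
  obtain rfl := hall p hp hpd
  obtain ⟨m, hm⟩ := hpd
  have hm1 : m ≠ 1 := by rintro rfl; omega
  obtain ⟨p', hp', hpd'⟩ := Nat.exists_prime_and_dvd hm1
  obtain rfl := hall p' hp' (hm ▸ dvd_mul_of_dvd_right hpd' p)
  exact hsq (hm ▸ Nat.mul_dvd_mul_left p' hpd')

variable {F K V : Type*} [Field F] [Fintype F] [Field K] [Fintype K] [Algebra F K]
  [AddCommGroup V] [Module F V] [Module K V] [IsScalarTower F K V] [FiniteDimensional K V]

variable {Q : QuadraticForm F V} {M : Subgroup (orth Q)}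

/-- The properties of the rotation. -/
structure Elt (M : Subgroup (orth Q)) (B : V →ₗ[K] V →ₗ[K] K) (z : V) (ℓ : ℕ) (ρ : orth Q) : Prop where
  mem : ρ ∈ M
  lin : ∀ (c : K) x, ρ.1 (c • x) = c • ρ.1 x
  prime : ℓ.Prime
  cast : (ℓ : K) ≠ 0
  ord : (Fintype.card F : ZMod ℓ) ^ 2 ≠ 1
  dvd : (Fintype.card F : ZMod ℓ) ^ (2 * finrank F K) = 1
  pow : ρ ^ ℓ = 1
  fix : ρ.1 z = z
  fpf : ∀ m : ℕ, ¬ ℓ ∣ m → ∀ x, B x z = 0 → (ρ ^ m).1 x = x → x = 0
  scal : ∀ m : ℕ, ∃ t : K, ∀ x, B x z = 0 → (ρ ^ m).1 x + (ρ ^ m)⁻¹.1 x = t • x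
  irr : ∀ t : K, (∀ x, B x z = 0 → ρ.1 x + ρ⁻¹.1 x = t • x) → t ∉ (⊥ : Subalgebra F K)

section
variable {τ : K →ₗ[F] F} {B : V →ₗ[K] V →ₗ[K] K} (hM : Hyp K Q M) (hB : Lifts Q τ B)
include hM hB

theorem orth_basis {z a b : V} (hz : B z z ≠ 0) (ha : B a a ≠ 0) (hb : B b b ≠ 0) (haz : B a z = 0)
    (hbz : B b z = 0) (hba : B b a = 0) (x : V) :
    x = (B x z / B z z) • z + (B x a / B a a) • a + (B x b / B b b) • b := by
  have hG := hM.geo
  have hza : B z a = 0 := by rw [B_symm hG hB, haz]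
  have hzb : B z b = 0 := by rw [B_symm hG hB, hbz]
  have hab : B a b = 0 := by rw [B_symm hG hB, hba]
  have hind : LinearIndependent K ![z, a, b] := by
    rw [Fintype.linearIndependent_iff]
    intro g hg
    simp [Fin.sum_univ_three] at hg
    have e0 := congrArg (fun y => B y z) hg
    have e1 := congrArg (fun y => B y a) hg
    have e2 := congrArg (fun y => B y b) hg
    simp [haz, hbz, hz] at e0
    simp [hza, hba, ha] at e1
    simp [hzb, hab, hb] at e2
    intro i
    fin_cases i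
    exacts [e0, e1, e2]
  have hspan := hind.span_eq_top_of_card_eq_finrank (by rw [Fintype.card_fin, hG.dim])
  set d := x - ((B x z / B z z) • z + (B x a / B a a) • a + (B x b / B b b) • b) with hd
  have h1 : B d z = 0 := by simp [hd, haz, hbz, div_mul_cancel₀ _ hz]
  have h2 : B d a = 0 := by simp [hd, hza, hba, div_mul_cancel₀ _ ha]
  have h3 : B d b = 0 := by simp [hd, hzb, hab, div_mul_cancel₀ _ hb]
  refine sub_eq_zero.1 (B_nondeg hG hB d fun y => ?_)
  have hy : y ∈ Submodule.span K (Set.range ![z, a, b]) := by rw [hspan]; exact Submodule.mem_top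
  refine Submodule.span_induction (fun y hy => ?_) (map_zero _) (fun a b _ _ ha hb => by rw [map_add, ha, hb, add_zero])
    (fun c a _ ha => by rw [map_smul, ha, smul_zero]) hy
  obtain ⟨i, rfl⟩ := hy
  fin_cases i
  exacts [h1, h2, h3]

theorem exists_ab {z : V} (hz : B z z ≠ 0) :
    ∃ a b, B a a ≠ 0 ∧ B b b ≠ 0 ∧ B a z = 0 ∧ B b z = 0 ∧ B b a = 0 := by
  have hG := hM.geo
  have h2 := two_ne hG hB
  have h1 := LinearMap.finrank_range_add_finrank_ker (B.flip z)
  have h3 := Submodule.finrank_le (LinearMap.range (B.flip z))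
  rw [finrank_self] at h3
  have hd := hG.dim
  obtain ⟨a₀, ha₀, ha₀0⟩ := (Submodule.ne_bot_iff (LinearMap.ker (B.flip z))).1 fun h => by
    rw [h, finrank_bot] at h1; omega
  have hnd : ∀ x, B x z = 0 → (∀ y, B y z = 0 → B x y = 0) → x = 0 := fun x hx h =>
    B_nondeg hG hB x fun y => by
      have := h (y - (B y z / B z z) • z) (by simp [div_mul_cancel₀ _ hz])
      simpa [hx] using this
  have ha₀z : B a₀ z = 0 := ha₀
  obtain ⟨a, haz, ha⟩ : ∃ a, B a z = 0 ∧ B a a ≠ 0 := by
    by_contra hc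
    push Not at hc
    refine ha₀0 (hnd _ ha₀z fun y hy => ?_)
    have h := hc (a₀ + y) (by simp [ha₀z, hy])
    simp [hc a₀ ha₀z, hc y hy, B_symm hG hB y a₀] at h
    exact (mul_eq_zero.1 (show (2 : K) * B a₀ y = 0 by linear_combination h)).resolve_left h2
  let φ : V →ₗ[K] K × K := (B.flip z).prod (B.flip a)
  obtain ⟨b, hb, hb0⟩ := (Submodule.ne_bot_iff (LinearMap.ker φ)).1 fun h => by
    have h4 := LinearMap.finrank_range_add_finrank_ker φ
    have h5 := Submodule.finrank_le (LinearMap.range φ)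
    rw [h, finrank_bot] at h4
    rw [Module.finrank_prod, finrank_self] at h5
    omega
  simp only [φ, LinearMap.mem_ker, LinearMap.prod_apply, Function.prod_apply, Prod.mk_eq_zero,
    LinearMap.flip_apply] at hb
  refine ⟨a, b, ha, fun hbb => hb0 (hnd b hb.1 fun y hy => ?_), haz, hb.1, hb.2⟩
  -- `b` is orthogonal to everything
  set y' := y - (B y a / B a a) • a with hy'
  have hy'z : B y' z = 0 := by simp [hy', hy, haz]
  have hy'a : B y' a = 0 := by simp [hy', div_mul_cancel₀ _ ha]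
  by_contra hne
  have hby : B b y' ≠ 0 := by simpa [hy', hb.2] using hne
  -- then `z`, `a`, `b + t • y'` and `b` force degeneracy
  have hind : LinearIndependent K ![z, a, b, y'] := by
    rw [Fintype.linearIndependent_iff]
    intro g hg
    simp [Fin.sum_univ_four] at hg
    have e0 := congrArg (fun u => B u z) hg
    have e1 := congrArg (fun u => B u a) hg
    have e2 := congrArg (fun u => B u b) hg
    simp [haz, hb.1, hy'z, hz] at e0
    simp [e0, B_symm hG hB z a, haz, hb.2, hy'a, ha] at e1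
    simp [e0, e1, hbb, B_symm hG hB y' b, hby] at e2
    rw [e0, e1, e2, zero_smul, zero_smul, zero_smul, zero_add, zero_add, add_zero, smul_eq_zero] at hg
    intro i
    fin_cases i
    exacts [e0, e1, hg.resolve_right hb0, e2]
  have := hind.fintype_card_le_finrank
  rw [Fintype.card_fin, hd] at this
  omega

theorem exists_elt {z : V} (hz : B z z ≠ 0) : ∃ ℓ ρ, Elt M B z ℓ ρ := by
  classical
  have hG := hM.geo
  have h2 := two_ne hG hB
  obtain ⟨a, b, ha, hb, haz, hbz, hba⟩ := exists_ab hM hB hz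
  have hza : B z a = 0 := by rw [B_symm hG hB, haz]
  have hzb : B z b = 0 := by rw [B_symm hG hB, hbz]
  have hab : B a b = 0 := by rw [B_symm hG hB, hba]
  have hob := orth_basis hM hB hz ha hb haz hbz hba
  set D := -(B a a * B b b) with hD
  have hD0 : D ≠ 0 := neg_ne_zero.2 (mul_ne_zero ha hb)
  set r := finrank F K with hr
  set q := Fintype.card F with hq
  have hQ : Fintype.card K = q ^ r := Module.card_eq_pow_finrank
  have hchar : ringChar K ≠ 2 := fun h => h2 (by
    have := ringChar.Nat.cast_ringChar (R := K)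
    rw [h] at this
    simpa using this)
  have hqo : Odd q := Nat.odd_iff.2 (FiniteField.odd_card_of_char_ne_two (F := F) (fun h => hG.two (by
    have := ringChar.Nat.cast_ringChar (R := F)
    rw [h] at this
    simpa using this)))
  have hq3 : 3 ≤ q := by
    have := Fintype.one_lt_card (α := F)
    obtain ⟨l, hl⟩ := hqo
    omega
  obtain ⟨ε, hε, hεD⟩ : ∃ ε : ℤ, (ε = 1 ∨ ε = -1) ∧ D ^ (Fintype.card K / 2) = (ε : K) := by
    rcases FiniteField.pow_dichotomy hchar hD0 with h | h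
    · exact ⟨1, Or.inl rfl, by simpa using h⟩
    · exact ⟨-1, Or.inr rfl, by simpa using h⟩
  obtain ⟨ℓ, hℓ, hℓ2, hℓr, hℓ1⟩ := exists_prime_dvd_pow hq3 hqo hG.prime hG.three ε hε
  haveI : Fact ℓ.Prime := ⟨hℓ⟩
  have hcast : (ℓ : K) ≠ 0 := by
    intro h
    obtain ⟨p, hpc⟩ := CharP.exists F
    haveI := hpc
    have hp : p.Prime := CharP.char_is_prime F p
    have h' : (ℓ : F) = 0 := (algebraMap F K).injective (by rw [map_natCast, h, map_zero])
    obtain rfl := (Nat.prime_dvd_prime_iff_eq hp hℓ).1 ((CharP.cast_eq_zero_iff F p ℓ).1 h')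
    obtain ⟨n, -, hn⟩ := FiniteField.card F p
    rw [← hq] at hn
    rw [hn, Nat.cast_pow, ZMod.natCast_self, zero_pow n.ne_zero, zero_pow hG.prime.ne_zero] at hℓr
    rcases hε with rfl | rfl <;> simp at hℓr
  obtain ⟨L, iL, iKL, iC⟩ : ∃ (L : Type _) (_ : Field L) (_ : Algebra K L), IsAlgClosed L :=
    ⟨AlgebraicClosure K, inferInstance, inferInstance, inferInstance⟩
  letI : Algebra F L := ((algebraMap K L).comp (algebraMap F K)).toAlgebra
  haveI : IsScalarTower F K L := IsScalarTower.of_algebraMap_eq fun _ => rfl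
  let ι : K →+* L := algebraMap K L
  haveI : NeZero (ℓ : L) := ⟨fun h => hcast (ι.injective (by rw [map_natCast, h, map_zero]))⟩
  have h2L : (2 : L) ≠ 0 := fun h => h2 (ι.injective (by rw [map_ofNat, h, map_zero]))
  obtain ⟨u, hu⟩ := IsAlgClosed.exists_root (Polynomial.cyclotomic ℓ L)
    (by rw [Polynomial.degree_cyclotomic]; exact_mod_cast (Nat.totient_pos.2 hℓ.pos).ne')
  rw [Polynomial.isRoot_cyclotomic_iff] at hu
  have hu0 : u ≠ 0 := hu.ne_zero hℓ.ne_zero
  obtain ⟨j, hj⟩ := IsAlgClosed.exists_eq_mul_self (ι D)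
  have hj0 : j ≠ 0 := fun h => hD0 (ι.injective (by rw [hj, h, mul_zero, map_zero]))
  have hjQ : j ^ Fintype.card K = (ε : L) * j := by
    have hodd : Fintype.card K = 2 * (Fintype.card K / 2) + 1 := by
      have := FiniteField.odd_card_of_char_ne_two hchar
      omega
    rw [hodd, pow_succ, pow_mul, pow_two, ← hj, ← map_pow, hεD, map_intCast]
  have huQ : u ^ Fintype.card K = u ^ ε := by
    have hQz : ((Fintype.card K : ℤ) : ZMod ℓ) = (ε : ZMod ℓ) := by rw [hQ]; push_cast; exact hℓr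
    rw [ZMod.intCast_eq_intCast_iff_dvd_sub] at hQz
    obtain ⟨t, ht⟩ := hQz
    rw [← zpow_natCast, show (Fintype.card K : ℤ) = ε + (ℓ : ℤ) * (-t) by linarith, zpow_add₀ hu0, zpow_mul,
      zpow_natCast, hu.pow_eq_one, one_zpow, mul_one]
  have hfixed : ∀ x : L, x ^ Fintype.card K = x → ∃ c, ι c = x := by
    intro x hx
    by_contra hne
    push Not at hne
    have hQ1 : 1 < Fintype.card K := Fintype.one_lt_card
    have hp0 : (Polynomial.X ^ Fintype.card K - Polynomial.X : Polynomial L) ≠ 0 :=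
      FiniteField.X_pow_card_sub_X_ne_zero L hQ1
    have hroots : (insert x (Finset.univ.image ι)).val ⊆
        (Polynomial.X ^ Fintype.card K - Polynomial.X : Polynomial L).roots := by
      intro y hy
      rw [Polynomial.mem_roots hp0]
      simp only [Polynomial.IsRoot, Polynomial.eval_sub, Polynomial.eval_pow, Polynomial.eval_X, sub_eq_zero]
      rcases Finset.mem_insert.1 hy with rfl | hy
      · exact hx
      · obtain ⟨c, -, rfl⟩ := Finset.mem_image.1 hy
        rw [← map_pow, FiniteField.pow_card]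
    have := Polynomial.card_le_degree_of_subset_roots hroots
    rw [FiniteField.X_pow_card_sub_X_natDegree_eq L hQ1, Finset.card_insert_of_notMem (fun hm => by
      obtain ⟨c, -, hc⟩ := Finset.mem_image.1 hm
      exact hne c hc), Finset.card_image_of_injective _ ι.injective, Finset.card_univ] at this
    omega
  let φ := FiniteField.frobeniusAlgHom K L
  have hφ : ∀ x : L, φ x = x ^ Fintype.card K := fun x => rfl
  obtain ⟨c₁, hc₁⟩ := hfixed ((u + u⁻¹) / 2) (by
    rw [← hφ, map_div₀, map_add, map_inv₀, map_ofNat, hφ, huQ]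
    rcases hε with rfl | rfl <;> simp [add_comm, inv_inv])
  obtain ⟨s₁, hs₁⟩ := hfixed ((u - u⁻¹) / (2 * j)) (by
    rw [← hφ, map_div₀, map_sub, map_inv₀, map_mul, map_ofNat, hφ, hφ, huQ, hjQ]
    rcases hε with rfl | rfl <;> simp
    field_simp
    ring)
  -- the rotations
  set T : K → K → V →ₗ[K] V := fun c s =>
    (LinearMap.toSpanSingleton K V z).comp ((B z z)⁻¹ • B.flip z) +
      (LinearMap.toSpanSingleton K V a).comp ((c / B a a) • B.flip a - s • B.flip b) +
      (LinearMap.toSpanSingleton K V b).comp ((c / B b b) • B.flip b + s • B.flip a) with hT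
  have hTx : ∀ c s x, T c s x = (B x z / B z z) • z + (c / B a a * B x a - s * B x b) • a +
      (c / B b b * B x b + s * B x a) • b := fun c s x => by
    simp [hT, div_eq_inv_mul, mul_comm]
  have hT1 : ∀ x, T 1 0 x = x := fun x => by
    rw [hTx]
    conv_rhs => rw [hob x]
    simp [div_eq_inv_mul]
  have hTT : ∀ c s c' s' x, T c s (T c' s' x) = T (c * c' + D * (s * s')) (c * s' + s * c') x := by
    intro c s c' s' x
    rw [hTx, hTx c' s', hTx]
    simp [haz, hbz, hba, hza, hzb, hab, hD]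
    match_scalars <;> field_simp <;> ring
  have hcs1 : c₁ * c₁ - D * (s₁ * s₁) = 1 := ι.injective (by
    rw [map_sub, map_mul, map_mul, map_mul, hj, hc₁, hs₁, map_one]
    field_simp
    ring)
  obtain ⟨ρ₀, hρ₀, hρ₀l⟩ := exists_iso hG hB (T c₁ s₁) (fun x y => by
    rw [hTx, hTx]
    conv_rhs => rw [hob x, hob y]
    simp [haz, hbz, hba, hza, hzb, hab]
    field_simp
    rw [hD] at hcs1
    linear_combination ((B x a * B y a * B b b + B x b * B y b * B a a) * B z z) * hcs1)
  have hpow : ∀ n : ℕ, ∃ c s : K, ι c + ι s * j = u ^ n ∧ ι c - ι s * j = u⁻¹ ^ n ∧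
      ∀ x, (ρ₀ ^ n).1 x = T c s x := by
    intro n
    induction n with
    | zero => exact ⟨1, 0, by simp, by simp, fun x => by rw [hT1]; rfl⟩
    | succ n ih =>
      obtain ⟨c, s, e1, e2, ex⟩ := ih
      refine ⟨c * c₁ + D * (s * s₁), c * s₁ + s * c₁, ?_, ?_, fun x => ?_⟩
      · rw [pow_succ, ← e1, map_add, map_add, map_mul, map_mul, map_mul, map_mul, map_mul, hj, hc₁, hs₁]
        field_simp
        ring
      · rw [pow_succ, ← e2, map_add, map_add, map_mul, map_mul, map_mul, map_mul, map_mul, hj, hc₁, hs₁]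
        field_simp
        ring
      · rw [pow_succ, mul_app, hρ₀, ex, hTT]
  have hinj : ∀ {c s c' s' : K}, ι c + ι s * j = ι c' + ι s' * j → ι c - ι s * j = ι c' - ι s' * j →
      c = c' ∧ s = s' := by
    intro c s c' s' e1 e2
    refine ⟨ι.injective (mul_left_cancel₀ h2L ?_), ι.injective (mul_left_cancel₀ (mul_ne_zero h2L hj0) ?_)⟩
    · linear_combination e1 + e2
    · linear_combination e1 - e2
  have hρl : ρ₀ ^ ℓ = 1 := by
    obtain ⟨c, s, e1, e2, ex⟩ := hpow ℓ
    obtain ⟨rfl, rfl⟩ := hinj (c' := 1) (s' := 0) (by rw [e1, hu.pow_eq_one]; simp)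
      (by rw [e2, inv_pow, hu.pow_eq_one]; simp)
    exact orth_ext fun x => by rw [ex, hT1]; rfl
  have hmem : ρ₀ ^ 2 ∈ M := by
    obtain ⟨s, hs, hsl⟩ := exists_refl hG hB ha
    have key : ρ₀ * s * ρ₀ = s := orth_ext fun x => by
      rw [mul_app, mul_app, hρ₀, hρ₀, hs, hs, hTx, hTx]
      conv_rhs => rw [sf, hob x]
      simp [sf, haz, hbz, hba, hza, hzb, hab]
      rw [hD] at hcs1
      match_scalars <;> field_simp <;>
        first | linear_combination hcs1 | linear_combination (-(B x a)) * hcs1 | linear_combination (B x b) * hcs1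
    have : ρ₀ ^ 2 = ρ₀ * s * ρ₀⁻¹ * s⁻¹ := by
      rw [pow_two, ← mul_left_inj s, inv_mul_cancel_right, eq_mul_inv_iff_mul_eq, mul_assoc (ρ₀ * ρ₀),
        mul_assoc ρ₀ ρ₀, ← mul_assoc ρ₀ s, key]
    rw [this]
    exact rot_mem hG hB hM.lin hρ₀l hsl
  refine ⟨ℓ, ρ₀ ^ 2, ⟨hmem, fun c x => ?_, hℓ, hcast, hℓ1, ?_, ?_, ?_, ?_, ?_, ?_⟩⟩
  · rw [pow_two, mul_app, mul_app, hρ₀l, hρ₀l]
  · rw [mul_comm, pow_mul, hℓr, ← Int.cast_pow]
    rcases hε with rfl | rfl <;> simp
  · rw [← pow_mul, mul_comm, pow_mul, hρl, one_pow]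
  · obtain ⟨c, s, -, -, ex⟩ := hpow 2
    rw [ex, hTx]
    simp [hza, hzb, hz]
  · intro m hm x hx hfx
    obtain ⟨c, s, e1, e2, ex⟩ := hpow (2 * m)
    rw [← pow_mul, ex] at hfx
    have h1 := congrArg (fun y => B y a) hfx
    have h3 := congrArg (fun y => B y b) hfx
    rw [hTx] at h1 h3
    simp [hx, hba, hab, hza, hzb] at h1 h3
    field_simp at h1 h3
    set U := u ^ (2 * m)
    have hU : U ≠ 1 := fun h => hm (by
      have := (hu.pow_eq_one_iff_dvd _).1 h
      exact ((Nat.coprime_primes hℓ Nat.prime_two).2 hℓ2).dvd_of_dvd_mul_left this)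
    have hne : (c - 1) * (c - 1) - D * (s * s) ≠ 0 := by
      intro h
      have h' := congrArg ι h
      rw [map_zero, map_sub, map_mul, map_mul, map_mul, map_sub, map_one, hj] at h'
      have : (U - 1) * (U⁻¹ - 1) = 0 := by
        rw [show U⁻¹ = u⁻¹ ^ (2 * m) from (inv_pow _ _).symm, ← e2, ← e1]
        linear_combination h'
      rcases mul_eq_zero.1 this with h'' | h''
      · exact hU (sub_eq_zero.1 h'')
      · exact hU (inv_eq_one.1 (sub_eq_zero.1 h''))
    have hxa : B x a = 0 := (mul_eq_zero.1 (show ((c - 1) * (c - 1) - D * (s * s)) * B x a = 0 by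
      rw [hD]; linear_combination (c - 1) * h1 + s * B a a * h3)).resolve_left hne
    have hxb : B x b = 0 := (mul_eq_zero.1 (show ((c - 1) * (c - 1) - D * (s * s)) * B x b = 0 by
      rw [hD]; linear_combination (c - 1) * h3 - s * B b b * h1)).resolve_left hne
    rw [hob x, hx, hxa, hxb]
    simp
  · intro m
    obtain ⟨c, s, e1, e2, ex⟩ := hpow (2 * m)
    refine ⟨2 * c, fun x hx => ?_⟩
    have hinv : (ρ₀ ^ (2 * m))⁻¹.1 x = T c (-s) x := by
      apply (ρ₀ ^ (2 * m)).1.injective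
      rw [app_inv, ex, hTT]
      have h1 : c * c + D * (s * -s) = 1 := ι.injective (by
        have h := congrArg₂ (· * ·) e1 e2
        simp only [inv_pow, mul_inv_cancel₀ (pow_ne_zero _ hu0)] at h
        rw [map_add, map_mul ι D, map_mul, hj, map_mul ι s, map_neg ι s, map_one]
        linear_combination h)
      rw [h1, show c * -s + s * c = 0 by ring, hT1]
    rw [← pow_mul, ex, hinv, hTx, hTx]
    conv_rhs => rw [hob x]
    simp [hx]
    match_scalars <;> field_simp <;> ring
  · intro t ht htF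
    obtain ⟨t₀, rfl⟩ := Algebra.mem_bot.1 htF
    obtain ⟨c, s, e1, e2, ex⟩ := hpow 2
    have hc : algebraMap F K t₀ = 2 * c := by
      have haz' := ht a haz
      have hinv : (ρ₀ ^ 2)⁻¹.1 a = T c (-s) a := by
        apply (ρ₀ ^ 2).1.injective
        rw [app_inv, ex, hTT]
        have h1 : c * c + D * (s * -s) = 1 := ι.injective (by
          have h := congrArg₂ (· * ·) e1 e2
          simp only [inv_pow, mul_inv_cancel₀ (pow_ne_zero _ hu0)] at h
          rw [map_add, map_mul ι D, map_mul, hj, map_mul ι s, map_neg ι s, map_one]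
          linear_combination h)
        rw [h1, show c * -s + s * c = 0 by ring, hT1]
      rw [ex, hinv, hTx, hTx] at haz'
      have := congrArg (fun y => B y a) haz'
      simp [haz, hab, hba, hza] at this
      rw [Algebra.smul_def] at this
      field_simp at this
      first
        | linear_combination -this
        | exact mul_right_cancel₀ ha (by linear_combination -this)
    -- apply the Frobenius of `F`
    let ψ := FiniteField.frobeniusAlgHom F L
    have hψ : ∀ x : L, ψ x = x ^ q := fun x => rfl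
    have hsum : ι (algebraMap F K t₀) = u ^ 2 + u⁻¹ ^ 2 := by
      rw [hc, map_mul, map_ofNat, ← e1, ← e2]; ring
    have h := ψ.commutes t₀
    rw [IsScalarTower.algebraMap_apply F K L, show algebraMap K L = ι from rfl, hsum, map_add, map_pow, map_pow,
      map_inv₀, hψ] at h
    set U := u ^ 2 with hU
    rw [show (u ^ q) ^ 2 = U ^ q by rw [hU, ← pow_mul, ← pow_mul, mul_comm], show (u ^ q)⁻¹ ^ 2 = (U ^ q)⁻¹ by rw [hU, inv_pow, ← pow_mul, ← pow_mul, mul_comm], inv_pow u 2, ← hU] at h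
    have hU0 : U ≠ 0 := pow_ne_zero _ hu0
    have hfac : (U ^ q - U) * (U ^ q * U - 1) = 0 := by
      field_simp at h
      linear_combination h
    have hcases : U ^ (q * q) = U := by
      rcases mul_eq_zero.1 hfac with h' | h'
      · rw [pow_mul, sub_eq_zero.1 h', sub_eq_zero.1 h']
      · have : U ^ q = U⁻¹ := eq_inv_of_mul_eq_one_left (sub_eq_zero.1 h')
        rw [pow_mul, this, inv_pow, this, inv_inv]
    apply hℓ1
    rw [hU, ← pow_mul] at hcases
    have hd : (ℓ : ℤ) ∣ (2 * (q * q) : ℕ) - (2 : ℕ) := by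
      rw [← hu.zpow_eq_one_iff_dvd, zpow_sub₀ hu0, zpow_natCast, zpow_natCast, hcases, div_self (pow_ne_zero _ hu0)]
    rw [← ZMod.intCast_zmod_eq_zero_iff_dvd] at hd
    push_cast at hd
    have h2z : (2 : ZMod ℓ) ≠ 0 := fun h => hℓ2 (by
      have := (ZMod.natCast_eq_zero_iff 2 ℓ).1 (by exact_mod_cast h)
      exact ((Nat.prime_dvd_prime_iff_eq hℓ Nat.prime_two).1 this))
    refine mul_left_cancel₀ h2z ?_
    linear_combination hd

end

end Cfsg.Agent.ExtFieldThree10
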