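import Mathlib
import Cfsg.Agent.Lib.ExtFieldThree10Torus

/-!
Elements fixing a non-singular vector which centralise or normalise the rotation.
-/

set_option autoImplicit false
set_option linter.unusedSectionVars false
set_option linter.style.haveILetI false
set_option maxHeartbeats 800000

namespace Cfsg.Agent.ExtFieldThree10

open QuadraticMap Module
open Cfsg.Agent.OrthUnitaryQuad Cfsg.Agent.OrthUnitaryRefl

theorem zmod2_sq : ∀ {t : ZMod 2}, t ≠ 0 → t ^ 2 = 1 := by decide

theorem fixed_card {α : Type*} [Fintype α] [DecidableEq α] (f : α → α) {p n : ℕ} [Fact p.Prime]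
    (hf : ∀ x, f^[p ^ n] x = x) : Nat.card α ≡ Nat.card {x // f x = x} [MOD p] := by
  classical
  let g : Function.End α := f
  have key : ∀ m : ℕ, g ^ m = f^[m] := by
    intro m
    induction m with
    | zero => rfl
    | succ m ih => rw [pow_succ, ih, Function.iterate_succ]; rfl
  have h := Equiv.Perm.card_fixedPoints_modEq (f := g) (p := p) (n := n)
    (by rw [key]; exact funext hf)
  rw [Nat.card_eq_fintype_card, Nat.card_eq_fintype_card]
  convert h using 2
  rfl

variable {F K V : Type*} [Field F] [Fintype F] [Field K] [Fintype K] [Algebra F K]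
  [AddCommGroup V] [Module F V] [Module K V] [IsScalarTower F K V] [FiniteDimensional K V]

variable {Q : QuadraticForm F V} {M : Subgroup (orth Q)}

variable (K) in
/-- The F-rank of `y - 1` is less than the degree of K. -/
def Small (y : orth Q) : Prop :=
  finrank F (LinearMap.range ((y.1 : V →ₗ[F] V) - LinearMap.id)) < finrank F K

theorem small_conj {y : orth Q} (g : orth Q) (h : Small K y) : Small K (g * y * g⁻¹) := by
  have e : LinearMap.range (((g * y * g⁻¹).1 : V →ₗ[F] V) - LinearMap.id) =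
      (LinearMap.range ((y.1 : V →ₗ[F] V) - LinearMap.id)).map (g.1 : V →ₗ[F] V) := by
    ext x
    simp only [LinearMap.mem_range, Submodule.mem_map, LinearMap.sub_apply, LinearMap.id_apply,
      LinearEquiv.coe_coe]
    constructor
    · rintro ⟨u, rfl⟩
      exact ⟨_, ⟨g⁻¹.1 u, rfl⟩, by rw [map_sub, app_inv, mul_app, mul_app]⟩
    · rintro ⟨_, ⟨u, rfl⟩, rfl⟩
      exact ⟨g.1 u, by rw [map_sub, mul_app, mul_app, inv_app]⟩
  rw [Small, e, LinearEquiv.finrank_map_eq]
  exact h

theorem pow_lin {ρ : orth Q} (h : ∀ (c : K) x, ρ.1 (c • x) = c • ρ.1 x) (m : ℕ) (c : K) (x : V) :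
    (ρ ^ m).1 (c • x) = c • (ρ ^ m).1 x := by
  induction m generalizing x with
  | zero => rfl
  | succ m ih => rw [pow_succ, mul_app, mul_app, h, ih]

theorem pow_fix {ρ : orth Q} {x : V} (h : ρ.1 x = x) (m : ℕ) : (ρ ^ m).1 x = x := by
  induction m with
  | zero => rfl
  | succ m ih => rw [pow_succ, mul_app, h, ih]

section
variable {τ : K →ₗ[F] F} {B : V →ₗ[K] V →ₗ[K] K} (hM : Hyp K Q M) (hB : Lifts Q τ B)
variable {z : V} (hz : B z z ≠ 0) {ℓ : ℕ} {ρ : orth Q} (hρ : Elt M B z ℓ ρ)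
include hM hB hz hρ

theorem split_z (x : V) : B (x - (B x z / B z z) • z) z = 0 := by
  simp [div_mul_cancel₀ _ hz]

theorem fix_imp {m : ℕ} (hm : ¬ ℓ ∣ m) {x : V} (h : (ρ ^ m).1 x = x) : x = (B x z / B z z) • z := by
  refine sub_eq_zero.1 (hρ.fpf m hm _ (split_z hM hB hz hρ x) ?_)
  rw [map_sub, h, pow_lin hρ.lin, pow_fix hρ.fix]

theorem kz_map {y : orth Q} {j : ℕ} (hj : ¬ ℓ ∣ j) (hy : y * ρ = ρ ^ j * y) (c : K) :
    y.1 (c • z) = (B (y.1 (c • z)) z / B z z) • z := by
  refine fix_imp hM hB hz hρ hj ?_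
  rw [← mul_app, ← hy, mul_app, hρ.lin, hρ.fix]

theorem p_map {y : orth Q} {j : ℕ} (hj : ¬ ℓ ∣ j) (hy : y * ρ = ρ ^ j * y) {x : V} (hx : B x z = 0) :
    B (y.1 x) z = 0 := by
  have hz0 : z ≠ 0 := fun h => hz (by simp [h])
  let f : K → K := fun c => B (y.1 (c • z)) z / B z z
  have hf : Function.Injective f := fun a b hab => smul_left_injective K hz0 (y.1.injective (show
    y.1 (a • z) = y.1 (b • z) by
      rw [kz_map hM hB hz hρ hj hy a, kz_map hM hB hz hρ hj hy b]; exact congrArg (· • z) hab))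
  refine tau_ext hB.one fun e => ?_
  obtain ⟨c, hc⟩ := Finite.injective_iff_surjective.1 hf e
  rw [mul_zero, map_zero, ← hB.eq, hM.geo.adj, ← hc, show f c • z = y.1 (c • z) from
    (kz_map hM hB hz hρ hj hy c).symm, polar_orth y, ← hM.geo.adj, hB.eq, hx, mul_zero, map_zero]

theorem exists_p : ∃ a, a ≠ 0 ∧ B a z = 0 := by
  obtain ⟨a, -, ha, -, haz, -, -⟩ := exists_ab hM hB hz
  exact ⟨a, fun h => ha (by simp [h]), haz⟩

theorem rho_ne {m : ℕ} (hm : ¬ ℓ ∣ m) : ρ ^ m ≠ 1 := by
  intro h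
  obtain ⟨a, ha, haz⟩ := exists_p hM hB hz hρ
  exact ha (hρ.fpf m hm a haz (by rw [h]; rfl))

theorem exists_sigma {y : orth Q} {j : ℕ} (hj : ¬ ℓ ∣ j) (hy : y * ρ = ρ ^ j * y) :
    ∃ σ : K ≃ₐ[F] K, ∀ (c : K) x, B x z = 0 → y.1 (c • x) = σ c • y.1 x := by
  classical
  obtain ⟨a, ha, haz⟩ := exists_p hM hB hz hρ
  let S : Subalgebra F K :=
    { carrier := {c | ∃ d : K, ∀ x, B x z = 0 → y.1 (c • x) = d • y.1 x}
      mul_mem' := by
        rintro c c' ⟨d, hd⟩ ⟨d', hd'⟩
        exact ⟨d * d', fun x hx => by rw [mul_smul, hd _ (by simp [hx]), hd' x hx, smul_smul]⟩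
      one_mem' := ⟨1, fun x _ => by simp⟩
      add_mem' := by
        rintro c c' ⟨d, hd⟩ ⟨d', hd'⟩
        exact ⟨d + d', fun x hx => by rw [add_smul, map_add, hd x hx, hd' x hx, add_smul]⟩
      zero_mem' := ⟨0, fun x _ => by simp⟩
      algebraMap_mem' := fun s => ⟨algebraMap F K s, fun x _ => by
        rw [algebraMap_smul, algebraMap_smul, LinearEquiv.map_smul]⟩ }
  obtain ⟨θ, hθ⟩ := hρ.scal 1
  obtain ⟨θj, hθj⟩ := hρ.scal j
  rw [pow_one] at hθ
  have hmem : θ ∈ S := by
    refine ⟨θj, fun x hx => ?_⟩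
    rw [← hθj _ (p_map hM hB hz hρ hj hy hx), ← hθ x hx, map_add, ← mul_app, hy, mul_app]
    congr 1
    apply (ρ ^ j).1.injective
    rw [app_inv, ← mul_app, ← hy, mul_app, app_inv]
  haveI := Subalgebra.isSimpleOrder_of_finrank_prime F K hM.geo.prime
  have hS : S = ⊤ := (eq_bot_or_eq_top S).resolve_left fun h => hρ.irr θ hθ (h ▸ hmem)
  have hall : ∀ c : K, ∃ d : K, ∀ x, B x z = 0 → y.1 (c • x) = d • y.1 x := fun c =>
    (hS ▸ Algebra.mem_top : c ∈ S)
  choose d hd using hall
  have hya : y.1 a ≠ 0 := (map_ne_zero_iff _ y.1.injective).2 ha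
  have huniq : ∀ {c e : K}, y.1 (c • a) = e • y.1 a → d c = e := fun {c e} h =>
    smul_left_injective K hya ((hd c a haz).symm.trans h)
  let e : K →ₗ[F] K :=
    { toFun := d
      map_add' := fun c c' => huniq (by rw [add_smul, map_add, hd c a haz, hd c' a haz, add_smul])
      map_smul' := fun s c => huniq (by rw [smul_assoc, LinearEquiv.map_smul, hd c a haz, RingHom.id_apply, smul_assoc]) }
  obtain ⟨σ, hσ⟩ := exists_aut e (huniq (by simp))
    (fun c c' => huniq (by rw [mul_smul, hd c _ (by simp [haz]), hd c' a haz, smul_smul]; rfl))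
  exact ⟨σ, fun c x hx => by rw [hσ]; exact hd c x hx⟩

theorem B_lin {y : orth Q} (hl : ∀ (c : K) x, B x z = 0 → y.1 (c • x) = c • y.1 x) {x x' : V} (hx : B x z = 0) :
    B (y.1 x) (y.1 x') = B x x' :=
  tau_ext hB.one fun c => by rw [← hB.eq, ← hB.eq, ← hl c x hx, polar_orth y]

theorem fixed_id {y : orth Q} (hP : ∀ x, B x z = 0 → B (y.1 x) z = 0)
    (hl : ∀ (c : K) x, B x z = 0 → y.1 (c • x) = c • y.1 x) {n : ℕ} (hn : Odd n) (hyn : y ^ n = 1)
    {x₀ : V} (hx₀ : B x₀ z = 0) (hx₀0 : x₀ ≠ 0) (hfix : y.1 x₀ = x₀) : ∀ x, B x z = 0 → y.1 x = x := by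
  have hG := hM.geo
  have h2 := two_ne hG hB
  have hB' := fun {x x' : V} (hx : B x z = 0) => B_lin hM hB hz hρ hl (x' := x') hx
  by_cases h0 : B x₀ x₀ = 0
  · obtain ⟨v', w, hF⟩ := exists_frame hG hB h0 hx₀0
    have hzx : B z x₀ = 0 := by rw [B_symm hG hB, hx₀]
    have hzw : B z w ≠ 0 := fun h => by
      have h1 := frame_eq hG hB hF z
      rw [hzx, h, zero_smul, zero_div, zero_smul, add_zero, add_zero] at h1
      exact hz (by rw [h1]; simp [h0])
    set α := -(B z v') / B z w with hα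
    set x₁ := v' + α • w - (2⁻¹ * α * α * B w w) • x₀ with hx₁
    have h1z : B x₁ z = 0 := by
      rw [B_symm hG hB, hx₁]
      simp [hzx, hα]
      field_simp
      ring
    have hw' := Frame.pw hG hB hF
    have h11 : B x₁ x₁ = 0 := by
      simp [hx₁, h0, hF.pp, hF.vp, Frame.pv hG hB hF, hF.wv, hF.wp, hw', Frame.vw hG hB hF]
      field_simp
      ring
    have h01 : B x₀ x₁ = 1 := by simp [hx₁, h0, hF.vp, Frame.vw hG hB hF]
    have hF' : Frame B x₀ x₁ z := ⟨h0, h11, h01, hzx, by rw [B_symm hG hB, h1z], hz⟩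
    have e0 : B (y.1 x₁) x₀ = 1 := by rw [← hfix, hB' h1z, B_symm hG hB, h01]
    have ez : B (y.1 x₁) z = 0 := hP _ h1z
    have e1 : B (y.1 x₁) (y.1 x₁) = 0 := by rw [hB' h1z, h11]
    have hd := frame_eq hG hB hF' (y.1 x₁)
    rw [e0, ez, zero_div, zero_smul, add_zero, one_smul] at hd
    rw [hd] at e1
    simp [h0, h11, h01, Frame.pv hG hB hF'] at e1
    have hδ : B (y.1 x₁) x₁ = 0 :=
      (mul_eq_zero.1 (show (2 : K) * B (y.1 x₁) x₁ = 0 by linear_combination e1)).resolve_left h2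
    rw [hδ, zero_smul, zero_add] at hd
    intro x hx
    have hx' := frame_eq hG hB hF' x
    rw [hx, zero_div, zero_smul, add_zero] at hx'
    rw [hx', map_add, hl _ _ hx₀, hl _ _ h1z, hfix, hd]
  · obtain ⟨x₁, hx1, hx10⟩ : ∃ x₁, (B x₁ z = 0 ∧ B x₁ x₀ = 0) ∧ x₁ ≠ 0 := by
      let φ : V →ₗ[K] K × K := (B.flip z).prod (B.flip x₀)
      obtain ⟨b, hb, hb0⟩ := (Submodule.ne_bot_iff (LinearMap.ker φ)).1 fun h => by
        have h4 := LinearMap.finrank_range_add_finrank_ker φ
        have h5 := Submodule.finrank_le (LinearMap.range φ)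
        have := hG.dim
        rw [h, finrank_bot] at h4
        rw [Module.finrank_prod, finrank_self] at h5
        omega
      simp only [φ, LinearMap.mem_ker, LinearMap.prod_apply, Function.prod_apply, Prod.mk_eq_zero,
        LinearMap.flip_apply] at hb
      exact ⟨b, hb, hb0⟩
    have h11 : B x₁ x₁ ≠ 0 := by
      intro h
      obtain ⟨v', w, hF⟩ := exists_frame hG hB h hx10
      have hz1 : B z x₁ = 0 := by rw [B_symm hG hB, hx1.1]
      have h01 : B x₀ x₁ = 0 := by rw [B_symm hG hB, hx1.2]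
      have e1 := frame_eq hG hB hF z
      have e2 := frame_eq hG hB hF x₀
      rw [hz1, zero_smul, add_zero] at e1
      rw [h01, zero_smul, add_zero] at e2
      have e3 := hx₀
      rw [e1, e2] at e3
      simp [h, hF.wv, Frame.vw hG hB hF, hF.ww] at e3
      rcases e3 with e3 | e3
      · rw [e3, zero_div, zero_smul, add_zero] at e2
        exact h0 (by rw [e2]; simp [h])
      · rw [e3, zero_div, zero_smul, add_zero] at e1
        exact hz (by rw [e1]; simp [h])
    have hob := orth_basis hM hB hz h0 h11 hx₀ hx1.1 hx1.2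
    set μ := B (y.1 x₁) x₁ / B x₁ x₁ with hμ
    have e1 : y.1 x₁ = μ • x₁ := by
      have := hob (y.1 x₁)
      rwa [hP _ hx1.1, zero_div, zero_smul, zero_add, ← hfix, hB' hx1.1, hfix, hx1.2, zero_div, zero_smul,
        zero_add] at this
    have hμ2 : μ * μ = 1 := by
      have h := hB' (x' := x₁) hx1.1
      rw [e1] at h
      simp at h
      refine mul_right_cancel₀ h11 ?_
      linear_combination h
    have hμ1 : μ = 1 := by
      have hit : ∀ m, (y ^ m).1 x₁ = μ ^ m • x₁ := by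
        intro m
        induction m with
        | zero => simp
        | succ m ih => rw [pow_succ', mul_app, ih, hl _ _ hx1.1, e1, smul_smul, pow_succ]
      have h := hit n
      rw [hyn] at h
      have h' : μ ^ n = 1 := (smul_left_injective K hx10 (show μ ^ n • x₁ = (1 : K) • x₁ by
        rw [← h, one_smul]; rfl))
      obtain ⟨t, rfl⟩ := hn
      rwa [pow_succ, pow_mul, pow_two, hμ2, one_pow, one_mul] at h'
    intro x hx
    have hx' := hob x
    rw [hx, zero_div, zero_smul, zero_add] at hx'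
    rw [hx', map_add, hl _ _ hx₀, hl _ _ hx1.1, hfix, e1, hμ1, one_smul]

theorem theta_lin {y : orth Q} (hy : y * ρ = ρ * y) : ∀ (c : K) x, B x z = 0 → y.1 (c • x) = c • y.1 x := by
  have hy' : y * ρ = ρ ^ 1 * y := by rwa [pow_one]
  have h1 : ¬ ℓ ∣ 1 := hρ.prime.not_dvd_one
  let S : Subalgebra F K :=
    { carrier := {c | ∀ x, B x z = 0 → y.1 (c • x) = c • y.1 x}
      mul_mem' := fun {c c'} hc hc' x hx => by rw [mul_smul, hc _ (by simp [hx]), hc' x hx, smul_smul]
      one_mem' := fun x _ => by simp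
      add_mem' := fun {c c'} hc hc' x hx => by rw [add_smul, map_add, hc x hx, hc' x hx, add_smul]
      zero_mem' := fun x _ => by simp
      algebraMap_mem' := fun s x _ => by rw [algebraMap_smul, algebraMap_smul, LinearEquiv.map_smul] }
  obtain ⟨θ, hθ⟩ := hρ.scal 1
  rw [pow_one] at hθ
  have hmem : θ ∈ S := fun x hx => by
    rw [← hθ _ (p_map hM hB hz hρ h1 hy' hx), ← hθ x hx, map_add, ← mul_app, hy, mul_app]
    congr 1
    apply ρ.1.injective
    rw [app_inv, ← mul_app, ← hy, mul_app, app_inv]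
  haveI := Subalgebra.isSimpleOrder_of_finrank_prime F K hM.geo.prime
  have hS : S = ⊤ := (eq_bot_or_eq_top S).resolve_left fun h => hρ.irr θ hθ (h ▸ hmem)
  exact fun c => (hS ▸ Algebra.mem_top : c ∈ S)

/-- Elements of order `ℓ` centralising the rotation. -/
theorem eq_pow_of_comm {x : orth Q} (hxz : x.1 z = z) (hx : x * ρ = ρ * x) (hxl : x ^ ℓ = 1) :
    ∃ k : ℕ, x = ρ ^ k := by
  classical
  have hG := hM.geo
  haveI : Fact ℓ.Prime := ⟨hρ.prime⟩
  haveI : FiniteDimensional F K := Module.Finite.of_finite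
  have hodd : Odd ℓ := hρ.prime.odd_of_ne_two fun h => hρ.ord (by
    subst h
    refine zmod2_sq fun h0 => ?_
    have := hρ.dvd
    rw [h0, zero_pow (by have := hG.prime.pos; omega)] at this
    exact zero_ne_one this)
  have hx' : x * ρ = ρ ^ 1 * x := by rwa [pow_one]
  have h1 : ¬ ℓ ∣ 1 := hρ.prime.not_dvd_one
  have hz0 : z ≠ 0 := fun h => hz (by simp [h])
  -- trivial on the line of `z`
  have hKz : ∀ c : K, x.1 (c • z) = c • z := by
    let f : K →ₗ[F] K :=
      { toFun := fun c => B (x.1 (c • z)) z / B z z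
        map_add' := fun a b => by simp [add_smul, add_div]
        map_smul' := fun s a => by
          show B (x.1 ((s • a) • z)) z / B z z = s • (B (x.1 (a • z)) z / B z z)
          rw [smul_assoc, LinearEquiv.map_smul, LinearMap.map_smul_of_tower, LinearMap.smul_apply, smul_div_assoc] }
    have hf : ∀ c, x.1 (c • z) = f c • z := kz_map hM hB hz hρ h1 hx'
    have hit : ∀ m c, f^[m] c • z = (x ^ m).1 (c • z) := by
      intro m
      induction m with
      | zero => intro c; rfl
      | succ m ih => intro c; rw [Function.iterate_succ_apply, ih, pow_succ, mul_app, hf]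
    have hcard := fixed_card (f : K → K) (p := ℓ) (n := 1) fun c => smul_left_injective K hz0
      (show f^[ℓ ^ 1] c • z = c • z by rw [hit, pow_one, hxl]; rfl)
    let W := LinearMap.ker (f - LinearMap.id)
    rw [show Nat.card {c // f c = c} = Nat.card W from
      Nat.card_congr (Equiv.subtypeEquivRight fun c => by simp [W, sub_eq_zero]),
      Nat.card_eq_fintype_card, Nat.card_eq_fintype_card, Module.card_eq_pow_finrank (K := F),
      Module.card_eq_pow_finrank (K := F) (V := W), ← ZMod.natCast_eq_natCast_iff, Nat.cast_pow, Nat.cast_pow] at hcard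
    have hW : W = ⊤ := by
      by_contra hne
      have hlt := Submodule.finrank_lt hne
      have hpos : 0 < finrank F W := Module.finrank_pos_iff_exists_ne_zero.2
        ⟨⟨1, by simp [W, f, hxz, div_self hz]⟩, fun h => one_ne_zero (congrArg Subtype.val h)⟩
      set qq := (Fintype.card F : ZMod ℓ)
      set m := finrank F K - finrank F W
      have hq0 : qq ≠ 0 := fun h => by
        have := hρ.dvd
        rw [show (Fintype.card F : ZMod ℓ) = qq from rfl, h, zero_pow (by have := hG.prime.pos; omega)] at this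
        exact zero_ne_one this
      have hm : qq ^ m = 1 := by
        have e : qq ^ finrank F K = qq ^ m * qq ^ finrank F W := by rw [← pow_add]; congr 1; omega
        rw [e] at hcard
        exact mul_right_cancel₀ (pow_ne_zero _ hq0) (hcard.trans (one_mul _).symm)
      have hg := pow_gcd_eq_one.2 ⟨hm, hρ.dvd⟩
      have hco : Nat.Coprime (finrank F K) m :=
        hG.prime.coprime_iff_not_dvd.2 fun h => by
          have := Nat.le_of_dvd (by omega) h
          omega
      rw [Nat.Coprime.gcd_mul_right_cancel_right 2 hco] at hg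
      obtain ⟨t, ht⟩ := Nat.gcd_dvd_right m 2
      apply hρ.ord
      calc qq ^ 2 = (qq ^ m.gcd 2) ^ t := by rw [← pow_mul, ← ht]
        _ = 1 := by rw [hg, one_pow]
    intro c
    have : c ∈ W := hW ▸ Submodule.mem_top
    rw [hf, show f c = c by simpa [W, sub_eq_zero] using this]
  have hlin := theta_lin hM hB hz hρ hx
  obtain ⟨a, ha, haz⟩ := exists_p hM hB hz hρ
  have hcomm : ∀ k : ℕ, x * ρ ^ k * ρ = ρ * (x * ρ ^ k) := fun k => by
    rw [mul_assoc, ← pow_succ, pow_succ', ← mul_assoc, hx, mul_assoc]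
  by_cases hex : ∃ k : ℕ, ∃ u, B u z = 0 ∧ u ≠ 0 ∧ (x * ρ ^ k).1 u = u
  · obtain ⟨k, u, hu, hu0, hfix⟩ := hex
    have hyl : (x * ρ ^ k) ^ ℓ = 1 := by
      rw [(Commute.pow_right hx k).mul_pow, hxl, ← pow_mul, mul_comm, pow_mul, hρ.pow, one_pow, one_mul]
    have hy' : x * ρ ^ k * ρ = ρ ^ 1 * (x * ρ ^ k) := by rw [pow_one]; exact hcomm k
    have hid := fixed_id hM hB hz hρ (fun u hu => p_map hM hB hz hρ h1 hy' hu)
      (theta_lin hM hB hz hρ (hcomm k)) hodd hyl hu hu0 hfix
    refine ⟨(ℓ - 1) * k, ?_⟩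
    have hone : x * ρ ^ k = 1 := orth_ext fun v => by
      rw [show v = (B v z / B z z) • z + (v - (B v z / B z z) • z) by abel, map_add,
        hid _ (split_z hM hB hz hρ v), mul_app, pow_lin hρ.lin, pow_fix hρ.fix, hKz]
      rfl
    rw [eq_inv_of_mul_eq_one_left hone, inv_eq_iff_mul_eq_one, ← pow_add,
      show k + (ℓ - 1) * k = ℓ * k by
        conv_lhs => arg 1; rw [← one_mul k]
        rw [← add_mul, Nat.add_sub_cancel' hρ.prime.one_lt.le], pow_mul, hρ.pow, one_pow]
  exfalso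
  push Not at hex
  have hgeom : ∀ (y : orth Q), y ^ ℓ = 1 → ∀ v : V,
      y.1 (∑ i ∈ Finset.range ℓ, (y ^ i).1 v) = ∑ i ∈ Finset.range ℓ, (y ^ i).1 v := by
    intro y hy v
    rw [map_sum, ← sub_eq_zero, ← Finset.sum_sub_distrib]
    simp only [← mul_app, ← pow_succ']
    rw [Finset.sum_range_sub (fun i => (y ^ i).1 v), hy]
    simp
  have hPpow : ∀ (y : orth Q), y * ρ = ρ * y → ∀ (i : ℕ) (v : V), B v z = 0 → B ((y ^ i).1 v) z = 0 := by
    intro y hy i v hv
    refine p_map hM hB hz hρ h1 ?_ hv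
    rw [pow_one]
    exact (Commute.pow_left hy i).eq
  have hsum : ∀ k : ℕ, ∑ i ∈ Finset.range ℓ, ((x * ρ ^ k) ^ i).1 a = 0 := by
    intro k
    by_contra hne
    refine hex k _ ?_ hne (hgeom _ ?_ a)
    · rw [map_sum, LinearMap.sum_apply]
      exact Finset.sum_eq_zero fun i _ => hPpow _ (hcomm k) i a haz
    · rw [(Commute.pow_right hx k).mul_pow, hxl, ← pow_mul, mul_comm, pow_mul, hρ.pow, one_pow, one_mul]
  have htot : ∑ i ∈ Finset.range ℓ, ∑ k ∈ Finset.range ℓ, (x ^ i).1 (((ρ ^ i) ^ k).1 a) = 0 := by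
    rw [Finset.sum_comm]
    refine Finset.sum_eq_zero fun k _ => ?_
    rw [← hsum k]
    refine Finset.sum_congr rfl fun i _ => ?_
    rw [(Commute.pow_right hx k).mul_pow, mul_app, ← pow_mul, mul_comm, pow_mul]
  rw [Finset.sum_eq_single 0 (fun i hi hi0 => ?_) (fun h => absurd (Finset.mem_range.2 hρ.prime.pos) h)] at htot
  · simp only [pow_zero, one_pow] at htot
    rw [Finset.sum_const, Finset.card_range, show (1 : orth Q).1 ((1 : orth Q).1 a) = a from rfl,
      ← Nat.cast_smul_eq_nsmul K, smul_eq_zero] at htot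
    exact htot.elim hρ.cast ha
  · rw [← map_sum]
    have hli : ¬ ℓ ∣ i := fun h => by
      have := Nat.le_of_dvd (by omega) h
      have := Finset.mem_range.1 hi
      omega
    have hpl : (ρ ^ i) ^ ℓ = 1 := by rw [← pow_mul, mul_comm, pow_mul, hρ.pow, one_pow]
    rw [hρ.fpf i hli _ ?_ (hgeom _ hpl a), map_zero]
    rw [map_sum, LinearMap.sum_apply]
    exact Finset.sum_eq_zero fun k _ => hPpow _ ((Commute.pow_self ρ i).eq) k a haz

theorem small_of_fix {y : orth Q} (hyz : y.1 z = z) (hKz : ∀ c : K, ∃ d : K, y.1 (c • z) = d • z)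
    (hP : ∀ x, B x z = 0 → y.1 x = x) : Small K y := by
  haveI : FiniteDimensional F K := Module.Finite.of_finite
  let ν : K →ₗ[F] F := τ.comp (LinearMap.mulRight F (B z z))
  have hν : LinearMap.ker ν ≠ ⊤ := by
    intro h
    have h1 : ν (B z z)⁻¹ = 0 := LinearMap.mem_ker.1 (h ▸ Submodule.mem_top)
    simp [ν, inv_mul_cancel₀ hz, hB.one] at h1
  refine lt_of_le_of_lt ?_ (lt_of_le_of_lt (Submodule.finrank_map_le
    ((LinearMap.toSpanSingleton K V z).restrictScalars F) _) (Submodule.finrank_lt hν))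
  refine Submodule.finrank_mono ?_
  rintro _ ⟨x, rfl⟩
  obtain ⟨d, hd⟩ := hKz (B x z / B z z)
  have hx := hP _ (split_z hM hB hz hρ x)
  rw [map_sub, hd] at hx
  refine ⟨d - B x z / B z z, LinearMap.mem_ker.2 ?_, ?_⟩
  · show τ ((d - B x z / B z z) * B z z) = 0
    have h := polar_orth y ((B x z / B z z) • z) z
    rw [hyz] at h
    rw [← hB.eq, sub_smul, polar_sub_left, ← hd, h, sub_self]
  · show (d - B x z / B z z) • z = y.1 x - x
    rw [sub_smul]
    linear_combination (norm := module) -hx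

/-- `p`-elements centralising the rotation. -/
theorem small_of_comm {p k : ℕ} [Fact p.Prime] [CharP F p] {y : orth Q} (hyz : y.1 z = z) (hy : y * ρ = ρ * y)
    (hyp : y ^ p ^ k = 1) : Small K y := by
  classical
  have hG := hM.geo
  haveI : Finite V := Module.finite_of_finite K
  have h1 : ¬ ℓ ∣ 1 := hρ.prime.not_dvd_one
  have hy' : y * ρ = ρ ^ 1 * y := by rwa [pow_one]
  have hPmap : ∀ x, B x z = 0 → B (y.1 x) z = 0 := fun x hx => p_map hM hB hz hρ h1 hy' hx
  refine small_of_fix hM hB hz hρ hyz (fun c => ⟨_, kz_map hM hB hz hρ h1 hy' c⟩) ?_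
  let P := LinearMap.ker (B.flip z)
  let f : P → P := fun x => ⟨y.1 x, hPmap _ x.2⟩
  haveI : Fintype P := Fintype.ofFinite P
  have hit : ∀ (m : ℕ) (x : P), ((f^[m] x : P) : V) = (y ^ m).1 x := by
    intro m
    induction m with
    | zero => intro x; rfl
    | succ m ih => intro x; rw [Function.iterate_succ_apply, ih, pow_succ, mul_app]
  have hcard := fixed_card f (p := p) (n := k) fun x => Subtype.ext (by rw [hit, hyp]; rfl)
  obtain ⟨a, ha, haz⟩ := exists_p hM hB hz hρ
  have hp0 : Nat.card P ≡ 0 [MOD p] := by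
    rw [Nat.modEq_zero_iff_dvd]
    haveI : CharP K p := (Algebra.charP_iff F K p).1 inferInstance
    obtain ⟨n, -, hn⟩ := FiniteField.card K p
    rw [Nat.card_eq_fintype_card, Module.card_eq_pow_finrank (K := K) (V := P), hn, ← pow_mul]
    exact dvd_pow_self p (Nat.mul_pos n.pos (Module.finrank_pos_iff_exists_ne_zero.2
      ⟨⟨a, haz⟩, fun h => ha (congrArg Subtype.val h)⟩)).ne'
  have h2 : 1 < Nat.card {x : P // f x = x} := by
    have hdvd : p ∣ Nat.card {x : P // f x = x} := Nat.modEq_zero_iff_dvd.1 (hcard.symm.trans hp0)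
    haveI : Nonempty {x : P // f x = x} := ⟨⟨0, Subtype.ext (map_zero y.1)⟩⟩
    exact lt_of_lt_of_le (Fact.out : p.Prime).one_lt (Nat.le_of_dvd Nat.card_pos hdvd)
  haveI : Nontrivial {x : P // f x = x} := Finite.one_lt_card_iff_nontrivial.1 h2
  obtain ⟨x₀, hx₀⟩ := exists_ne (⟨0, Subtype.ext (map_zero y.1)⟩ : {x : P // f x = x})
  have hpodd : Odd p := (Fact.out : p.Prime).odd_of_ne_two fun h => hG.two (by
    have := CharP.cast_eq_zero F p
    rw [h] at this
    exact_mod_cast this)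
  exact fixed_id hM hB hz hρ hPmap (theta_lin hM hB hz hρ hy) hpodd.pow hyp x₀.1.2
    (fun h => hx₀ (Subtype.ext (Subtype.ext h))) (congrArg Subtype.val x₀.2)

/-- `p`-elements normalising the rotation. -/
theorem normalizer_cases {p k : ℕ} [Fact p.Prime] [CharP F p] {y : orth Q} (hyz : y.1 z = z)
    {j : ℕ} (hy : y * ρ = ρ ^ j * y) (hyp : y ^ p ^ k = 1) :
    Small K y ∨ (Small K (y ^ p) ∧ ∃ σ : K ≃ₐ[F] K, σ ≠ 1 ∧ finrank F K = p ∧
      (∀ x, B x z = 0 → B (y.1 x) z = 0) ∧ (∀ (c : K) x, B x z = 0 → y.1 (c • x) = σ c • y.1 x) ∧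
      ∀ c : K, y.1 (c • z) = (B (y.1 (c • z)) z / B z z) • z) := by
  classical
  have hG := hM.geo
  haveI : FiniteDimensional F K := Module.Finite.of_finite
  obtain ⟨a, ha, haz⟩ := exists_p hM hB hz hρ
  have hpodd : Odd p := (Fact.out : p.Prime).odd_of_ne_two fun h => hG.two (by
    have := CharP.cast_eq_zero F p
    rw [h] at this
    exact_mod_cast this)
  -- the case of trivial field action
  have key : ∀ (y : orth Q) (j : ℕ), y.1 z = z → y * ρ = ρ ^ j * y → y ^ p ^ k = 1 →
      (∀ (c : K) x, B x z = 0 → y.1 (c • x) = c • y.1 x) → Small K y := by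
    intro y j hyz hy hyp hl
    have hj : ¬ ℓ ∣ j := fun h => by
      obtain ⟨t, rfl⟩ := h
      rw [pow_mul, hρ.pow, one_pow, one_mul] at hy
      exact rho_ne hM hB hz hρ hρ.prime.not_dvd_one (by rw [pow_one]; exact mul_eq_left.1 hy)
    obtain ⟨θ, hθ⟩ := hρ.scal 1
    obtain ⟨θj, hθj⟩ := hρ.scal j
    rw [pow_one] at hθ
    have hya : B (y.1 a) z = 0 := p_map hM hB hz hρ hj hy haz
    have heq : θj = θ := by
      refine smul_left_injective K ((map_ne_zero_iff _ y.1.injective).2 ha) (show θj • y.1 a = θ • y.1 a from ?_)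
      rw [← hl θ a haz, ← hθj _ hya, ← hθ a haz, map_add, ← mul_app y ρ, hy, mul_app]
      congr 1
      apply (ρ ^ j).1.injective
      rw [app_inv, ← mul_app, ← hy, mul_app, app_inv]
    -- so `ρ ^ j` is `ρ` or its inverse
    have hj1 : y * y * ρ = ρ * (y * y) := by
      have h := (hθj a haz).trans ((congrArg (· • a) heq).trans (hθ a haz).symm)
      have h' := congrArg (ρ ^ (j + 1)).1 h
      rw [map_add, map_add, ← mul_app, ← mul_app, ← mul_app, ← mul_app, ← pow_add, pow_succ' ρ j, mul_assoc ρ,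
        mul_inv_cancel, mul_one, ← pow_succ' ρ j, ← pow_succ, pow_succ ρ j, mul_assoc, mul_inv_cancel, mul_one] at h'
      by_cases hz' : (ρ ^ (j + 1)).1 a = a
      · by_cases hd : ℓ ∣ j + 1
        · obtain ⟨t, ht⟩ := hd
          have hinv : ρ ^ j = ρ⁻¹ := eq_inv_of_mul_eq_one_left (by rw [← pow_succ, ht, pow_mul, hρ.pow, one_pow])
          rw [hinv] at hy
          have hy2 : y * ρ⁻¹ = ρ * y := by
            rw [mul_inv_eq_iff_eq_mul, mul_assoc, hy, mul_inv_cancel_left]
          rw [mul_assoc, hy, ← mul_assoc, hy2, mul_assoc]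
        · exact absurd (hρ.fpf _ hd a haz hz') ha
      · by_cases hd : ℓ ∣ j + (ℓ - 1)
        · obtain ⟨t, ht⟩ := hd
          have hj' : ρ ^ j = ρ := by
            have e : ρ ^ (j + (ℓ - 1)) * ρ = ρ ^ j := by
              rw [← pow_succ, add_assoc, Nat.sub_add_cancel hρ.prime.one_lt.le, pow_add, hρ.pow, mul_one]
            rw [← e, ht, pow_mul, hρ.pow, one_pow, one_mul]
          rw [hj'] at hy
          rw [mul_assoc, hy, ← mul_assoc, hy, mul_assoc]
        · exfalso
          set u := (ρ ^ (j + 1)).1 a - a with hu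
          have hu0 : u ≠ 0 := sub_ne_zero.2 hz'
          refine hu0 (hρ.fpf _ hd u ?_ ?_)
          · rw [hu, map_sub, LinearMap.sub_apply, haz, sub_zero]
            refine p_map hM hB hz hρ hρ.prime.not_dvd_one ?_ haz
            rw [pow_one, ← pow_succ, ← pow_succ']
          · apply ρ.1.injective
            rw [← mul_app, ← pow_succ', add_assoc, Nat.sub_add_cancel hρ.prime.one_lt.le, pow_add, hρ.pow, mul_one,
              hu, map_sub, map_sub, ← mul_app, ← mul_app, ← pow_add, ← pow_succ']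
            rw [sub_eq_sub_iff_add_eq_add]
            rw [show j + (j + 1) = j + 1 + j by ring] at *
            linear_combination (norm := module) h'
    obtain ⟨t, ht⟩ : Odd (p ^ k) := hpodd.pow
    refine small_of_comm hM hB hz hρ hyz ?_ hyp
    have hyt : y = (y * y) ^ (t + 1) := by
      rw [← pow_two, ← pow_mul, show 2 * (t + 1) = p ^ k + 1 by omega, pow_succ, hyp, one_mul]
    rw [hyt]
    exact (Commute.pow_left hj1 (t + 1)).eq
  have hj : ¬ ℓ ∣ j := fun h => by
    obtain ⟨t, rfl⟩ := h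
    rw [pow_mul, hρ.pow, one_pow, one_mul] at hy
    exact rho_ne hM hB hz hρ hρ.prime.not_dvd_one (by rw [pow_one]; exact mul_eq_left.1 hy)
  obtain ⟨σ, hσ⟩ := exists_sigma hM hB hz hρ hj hy
  by_cases hσ1 : σ = 1
  · exact Or.inl (key y j hyz hy hyp fun c x hx => by rw [hσ c x hx, hσ1]; rfl)
  right
  have hPi : ∀ (i : ℕ) x, B x z = 0 → B ((y ^ i).1 x) z = 0 := by
    intro i
    induction i with
    | zero => exact fun x hx => hx
    | succ i ih => intro x hx; rw [pow_succ, mul_app]; exact ih _ (p_map hM hB hz hρ hj hy hx)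
  have hσi : ∀ (i : ℕ) (c : K) x, B x z = 0 → (y ^ i).1 (c • x) = (σ ^ i) c • (y ^ i).1 x := by
    intro i
    induction i with
    | zero => intro c x _; rfl
    | succ i ih =>
      intro c x hx
      rw [pow_succ', mul_app, ih c x hx, hσ _ _ (hPi i x hx), ← mul_app, ← pow_succ' y, ← AlgEquiv.mul_apply,
        ← pow_succ']
  have hord : orderOf σ = finrank F K := by
    rcases (Nat.dvd_prime hG.prime).1 (show orderOf σ ∣ finrank F K by
      rw [← IsGalois.card_aut_eq_finrank F K]; exact orderOf_dvd_natCard σ) with h | h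
    · exact absurd (orderOf_eq_one_iff.1 h) hσ1
    · exact h
  have hσp : σ ^ p ^ k = 1 := AlgEquiv.ext fun c => by
    have h := hσi (p ^ k) c a haz
    rw [hyp] at h
    exact (smul_left_injective K ha (show c • a = (σ ^ p ^ k) c • a from h)).symm
  have hrp : finrank F K = p := by
    have h := orderOf_dvd_of_pow_eq_one hσp
    rw [hord] at h
    exact (Nat.prime_dvd_prime_iff_eq hG.prime Fact.out).1 (hG.prime.dvd_of_dvd_pow h)
  refine ⟨?_, σ, hσ1, hrp, fun x hx => p_map hM hB hz hρ hj hy hx, hσ, kz_map hM hB hz hρ hj hy⟩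
  have hyj : ∀ i : ℕ, y ^ i * ρ = ρ ^ (j ^ i) * y ^ i := by
    intro i
    induction i with
    | zero => simp
    | succ i ih =>
      have hc : ∀ m : ℕ, y * ρ ^ m = ρ ^ (j * m) * y := fun m => by
        rw [pow_mul]; exact (show SemiconjBy y ρ (ρ ^ j) from hy).pow_right m
      rw [pow_succ' y, mul_assoc, ih, ← mul_assoc, hc, mul_assoc, ← pow_succ' j]
  refine key (y ^ p) _ (pow_fix hyz p) (hyj p) (by rw [← pow_mul, mul_comm, pow_mul, hyp, one_pow]) fun c x hx => ?_
  rw [hσi p c x hx, show σ ^ p = 1 by rw [← hrp, ← hord]; exact pow_orderOf_eq_one σ]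
  rfl

end

end Cfsg.Agent.ExtFieldThree10
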