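import Mathlib
import Cfsg.Agent.Lib.ExtFieldThree10Cent

/-!
A semilinear element normalising a rotation is not conjugate to an element whose fixed space is a
singular K-line: some K-linear element of the group would act on that line as a non-trivial field
automorphism of even order, or would be a unipotent rotation.
-/

set_option autoImplicit false
set_option linter.unusedSectionVars false
set_option linter.style.haveILetI false
set_option maxHeartbeats 800000

namespace Cfsg.Agent.ExtFieldThree10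

open QuadraticMap Module
open Cfsg.Agent.OrthUnitaryQuad Cfsg.Agent.OrthUnitaryRefl

variable {F K V : Type*} [Field F] [Fintype F] [Field K] [Fintype K] [Algebra F K]
  [AddCommGroup V] [Module F V] [Module K V] [IsScalarTower F K V] [FiniteDimensional K V]

variable {Q : QuadraticForm F V} {M : Subgroup (orth Q)}

section
variable {τ : K →ₗ[F] F} {B : V →ₗ[K] V →ₗ[K] K} (hM : Hyp K Q M) (hB : Lifts Q τ B)
include hM hB

/-- The form under a map semilinear at the first vector. -/
theorem exists_twist (y : orth Q) (σ : K ≃ₐ[F] K) :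
    ∃ μ : K, μ ≠ 0 ∧ ∀ x x', (∀ c : K, y.1 (c • x) = σ c • y.1 x) →
      B (y.1 x) (y.1 x') = μ * σ (B x x') := by
  haveI : FiniteDimensional F K := Module.Finite.of_finite
  let Φ : K →ₗ[F] (K →ₗ[F] F) :=
    { toFun := fun a => τ.comp (LinearMap.mulRight F a)
      map_add' := fun a b => by ext c; simp [mul_add]
      map_smul' := fun s a => by ext c; simp [mul_smul_comm] }
  have hinj : Function.Injective Φ := fun a b h => tau_ext hB.one fun c => LinearMap.congr_fun h c
  obtain ⟨μ, hμ⟩ := (LinearMap.injective_iff_surjective_of_finrank_eq_finrank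
    (by rw [Module.finrank_linearMap, finrank_self, mul_one])).1 hinj (τ.comp σ.symm.toLinearMap)
  have hμ' : ∀ c, τ (c * μ) = τ (σ.symm c) := fun c => LinearMap.congr_fun hμ c
  refine ⟨μ, fun h => ?_, fun x x' hx => tau_ext hB.one fun c => ?_⟩
  · have := hμ' 1
    rw [h, mul_zero, map_zero, map_one, hB.one] at this
    exact zero_ne_one this
  · have h1 : c • y.1 x = y.1 (σ.symm c • x) := by rw [hx, AlgEquiv.apply_symm_apply]
    rw [← hB.eq, h1, polar_orth y, hB.eq, show c * (μ * σ (B x x')) = c * σ (B x x') * μ by ring, hμ', map_mul σ.symm,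
      AlgEquiv.symm_apply_apply]

/-- A reflection in a fixed vector commutes with the map. -/
theorem sf_comm {y : orth Q} {σ : K ≃ₐ[F] K} {a : V} (hya : y.1 a = a)
    (hsa : ∀ c : K, y.1 (c • a) = σ c • a) (x : V) : y.1 (sf B a x) = sf B a (y.1 x) := by
  have hG := hM.geo
  obtain ⟨μ, hμ0, hμ⟩ := exists_twist hM hB y σ
  have hs : ∀ c : K, y.1 (c • a) = σ c • y.1 a := fun c => by rw [hsa, hya]
  have h1 := hμ a x hs
  have h2 := hμ a a hs
  rw [hya] at h1 h2
  rw [sf, sf, map_sub, hsa, B_symm hG hB (y.1 x) a, B_symm hG hB x a, map_div₀, map_mul, map_ofNat, h1]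
  congr 2
  conv_rhs => rw [h2]
  rw [← mul_assoc (2 : K), mul_comm (2 : K) μ, mul_assoc, mul_div_mul_left _ _ hμ0]

theorem sf_neg (a x : V) : sf B a (-x) = -sf B a x := by
  simp [sf]
  match_scalars <;> ring

theorem exists_gamma {v : V} {v' w : V} (hF : Frame B v v' w) (hno : ¬ Root M τ B v) {k : orth Q} (hk : k ∈ M)
    (hkv : k.1 v = v) (hl : ∀ c : K, ∃ d : K, k.1 (c • v) = d • v) :
    ∃ γ : K ≃ₐ[F] K, ∀ c : K, k.1 (c • v) = γ c • v := by
  have hv0 := Frame.ne hM.geo hB hF
  choose f hf using hl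
  let e : K →ₗ[F] K :=
    { toFun := f
      map_add' := fun a b => smul_left_injective K hv0 (show f (a + b) • v = (f a + f b) • v by
        rw [add_smul, ← hf, ← hf, ← hf, ← map_add, add_smul])
      map_smul' := fun s a => smul_left_injective K hv0 (show f (s • a) • v = (s • f a) • v by
        rw [smul_assoc, ← hf, ← hf, smul_assoc, LinearEquiv.map_smul]) }
  have he1 : e 1 = 1 := smul_left_injective K hv0 (show f 1 • v = (1 : K) • v by
    rw [← hf, one_smul, hkv])
  obtain ⟨γ, hγ⟩ := exists_aut e he1 (test hM hB hF hno hk e hf he1).1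
  exact ⟨γ, fun c => by rw [hγ]; exact hf c⟩

variable (hno : ∀ x, B x x = 0 → x ≠ 0 → ¬ Root M τ B x)
variable {z : V} (hz : B z z ≠ 0) {ℓ : ℕ} {ρ : orth Q} (hρ : Elt M B z ℓ ρ)
include hno hz hρ

/-- The semilinear `p`-elements normalising the rotation have no conjugate fixing just a singular line. -/
theorem semi_absurd {p : ℕ} [Fact p.Prime] [CharP F p] {v : V} (hv : B v v = 0) {y a d : orth Q}
    (hy : y ∈ M) (hd : d ∈ M) (hdv : d.1 v = z) (ha : ∀ c : K, a.1 (c • v) = c • v)
    (hafix : ∀ x, a.1 x = x → ∃ c : K, x = c • v) (hyd : y * d = d * a) (hyp : y ^ p = 1)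
    {σ : K ≃ₐ[F] K} (hσ1 : σ ≠ 1) (hrp : finrank F K = p)
    (hP : ∀ x, B x z = 0 → B (y.1 x) z = 0)
    (hσ : ∀ (c : K) x, B x z = 0 → y.1 (c • x) = σ c • y.1 x)
    (hKz : ∀ c : K, y.1 (c • z) = (B (y.1 (c • z)) z / B z z) • z) : False := by
  classical
  have hG := hM.geo
  have h2 := two_ne hG hB
  haveI : FiniteDimensional F K := Module.Finite.of_finite
  have hz0 : z ≠ 0 := fun h => hz (by simp [h])
  have hv0 : v ≠ 0 := fun h => hz0 (by rw [← hdv, h, map_zero])
  have hpodd : Odd p := (Fact.out : p.Prime).odd_of_ne_two fun h => hG.two (by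
    have := CharP.cast_eq_zero F p
    rw [h] at this
    exact_mod_cast this)
  have hord : orderOf σ = finrank F K := by
    rcases (Nat.dvd_prime hG.prime).1 (show orderOf σ ∣ finrank F K by
      rw [← IsGalois.card_aut_eq_finrank F K]; exact orderOf_dvd_natCard σ) with h | h
    · exact absurd (orderOf_eq_one_iff.1 h) hσ1
    · exact h
  have hyz : y.1 z = z := by
    rw [← hdv, ← mul_app, hyd, mul_app]
    congr 1
    simpa using ha 1
  have hfix : ∀ x, y.1 x = x → ∃ c : K, x = d.1 (c • v) := fun x hx => by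
    obtain ⟨c, hc⟩ := hafix (d⁻¹.1 x) (d.1.injective (by
      rw [← mul_app d a, ← hyd, mul_app, app_inv, hx]))
    exact ⟨c, by rw [← hc, app_inv]⟩
  have hfix' : ∀ c : K, y.1 (d.1 (c • v)) = d.1 (c • v) := fun c => by
    rw [← mul_app, hyd, mul_app, ha]
  -- an element commuting with `y` acts on a line of fixed vectors through an automorphism
  have hgamma : ∀ T ∈ M, (∀ x, y.1 (T.1 x) = T.1 (y.1 x)) → ∀ u, u ≠ 0 → y.1 u = u → T.1 u = u →
      ∃ (γ : K ≃ₐ[F] K) (c₁ : K), c₁ ≠ 0 ∧ u = d.1 (c₁ • v) ∧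
        ∀ c : K, T.1 (d.1 (c • c₁ • v)) = d.1 (γ c • c₁ • v) := by
    intro T hT hcomm u hu0 hyu hTu
    obtain ⟨c₁, hc₁⟩ := hfix u hyu
    have hc0 : c₁ ≠ 0 := fun h => hu0 (by rw [hc₁, h, zero_smul, map_zero])
    have hs : B (c₁ • v) (c₁ • v) = 0 := by simp [hv]
    have hv1 : c₁ • v ≠ 0 := smul_ne_zero hc0 hv0
    obtain ⟨v', w, hF⟩ := exists_frame hG hB hs hv1
    obtain ⟨γ, hγ⟩ := exists_gamma hM hB hF (hno _ hs hv1) (k := d⁻¹ * T * d)
      (mul_mem (mul_mem (inv_mem hd) hT) hd) (by rw [mul_app, mul_app, ← hc₁, hTu, hc₁, inv_app]) (fun c => by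
        obtain ⟨e, he⟩ := hfix (T.1 (d.1 (c • c₁ • v))) (by rw [hcomm, smul_smul, hfix'])
        refine ⟨e / c₁, ?_⟩
        rw [mul_app, mul_app, he, inv_app, smul_smul, div_mul_cancel₀ _ hc0])
    refine ⟨γ, c₁, hc0, hc₁, fun c => ?_⟩
    rw [← hγ, mul_app, mul_app, app_inv]
  have hoddγ : ∀ γ : K ≃ₐ[F] K, γ ^ finrank F K = 1 := fun γ => by
    rw [← IsGalois.card_aut_eq_finrank F K]; exact pow_card_eq_one'
  -- fixed vectors
  have hPi : ∀ (i : ℕ) x, B x z = 0 → B ((y ^ i).1 x) z = 0 := by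
    intro i
    induction i with
    | zero => exact fun x hx => hx
    | succ i ih => intro x hx; rw [pow_succ, mul_app]; exact ih _ (hP x hx)
  have hσi : ∀ (i : ℕ) (c : K) x, B x z = 0 → (y ^ i).1 (c • x) = (σ ^ i) c • (y ^ i).1 x := by
    intro i
    induction i with
    | zero => intro c x _; rfl
    | succ i ih =>
      intro c x hx
      rw [pow_succ', mul_app, ih c x hx, hσ _ _ (hPi i x hx), ← mul_app, ← pow_succ' y, ← AlgEquiv.mul_apply,
        ← pow_succ']
  have hexfix : ∀ (φ : V →ₗ[K] K) x, B x z = 0 → φ x ≠ 0 → ∃ x', B x' z = 0 ∧ y.1 x' = x' ∧ φ x' ≠ 0 := by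
    intro φ x hx hφ
    by_contra hcon
    push Not at hcon
    have hinj : Set.InjOn (fun i : ℕ => σ ^ i) (Finset.range p) := fun i hi i' hi' h =>
      pow_injOn_Iio_orderOf (by rw [hord, hrp]; simpa using hi) (by rw [hord, hrp]; simpa using hi') h
    have h0 := aut_indep (Finset.range p) (fun i : ℕ => σ ^ i) hinj (fun i => φ ((y ^ i).1 x)) (fun c => by
      have h := hcon (∑ i ∈ Finset.range p, (y ^ i).1 (c • x)) (by
          rw [map_sum, LinearMap.sum_apply]
          exact Finset.sum_eq_zero fun i _ => hPi i _ (by simp [hx])) (by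
        rw [map_sum, ← sub_eq_zero, ← Finset.sum_sub_distrib]
        simp only [← mul_app, ← pow_succ']
        rw [Finset.sum_range_sub (fun i => (y ^ i).1 (c • x)), hyp]
        simp)
      rw [map_sum] at h
      refine Eq.trans (Finset.sum_congr rfl fun i _ => ?_) h
      rw [hσi i c x hx, map_smul, smul_eq_mul, mul_comm]) 0 (Finset.mem_range.2 (Fact.out : p.Prime).pos)
    exact hφ (by simpa using h0)
  obtain ⟨μ, hμ0, hμ⟩ := exists_twist hM hB y σ
  have hsemi : ∀ {a}, B a z = 0 → y.1 a = a → ∀ c : K, y.1 (c • a) = σ c • a := fun {a} haz hya c => by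
    rw [hσ c a haz, hya]
  have hratio : ∀ {a a' b b' : V}, y.1 a = a → y.1 a' = a' → y.1 b = b → y.1 b' = b' →
      (∀ c : K, y.1 (c • a) = σ c • a) → (∀ c : K, y.1 (c • b) = σ c • b) →
      σ (B a a' / B b b') = B a a' / B b b' := by
    intro a a' b b' ea ea' eb eb' hsa hsb
    have h1 := hμ a a' fun c => by rw [hsa, ea]
    have h2' := hμ b b' fun c => by rw [hsb, eb]
    rw [ea, ea'] at h1
    rw [eb, eb'] at h2'
    rw [map_div₀]
    conv_rhs => rw [h1, h2', mul_div_mul_left _ _ hμ0]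
  obtain ⟨a₁, b₁, ha₁, hb₁, ha₁z, hb₁z, hb₁a⟩ := exists_ab hM hB hz
  by_cases hsing : ∃ a₀, a₀ ≠ 0 ∧ B a₀ z = 0 ∧ y.1 a₀ = a₀ ∧ B a₀ a₀ = 0
  · -- a fixed singular vector: an involution gives the contradiction
    obtain ⟨a₀, ha00, ha0z, hya0, ha0⟩ := hsing
    obtain ⟨a₀', w₀, hF₀⟩ := exists_frame hG hB ha0 ha00
    have hza0 : B z a₀ = 0 := by rw [B_symm hG hB, ha0z]
    have hsz : ∀ c : K, y.1 (c • z) = σ c • z := by
      intro c
      obtain ⟨-, h⟩ := test hM hB hF₀ (hno _ ha0 ha00) hy σ.toLinearMap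
        (fun c => hsemi ha0z hya0 c) (map_one σ)
      obtain ⟨e, he⟩ := h c z (by rw [B_symm hG hB]; exact hza0)
      rw [hyz] at he
      have h' := congrArg (fun q => B q z) he
      simp only [AlgEquiv.toLinearMap_apply, map_add, map_smul, LinearMap.add_apply, LinearMap.smul_apply, smul_eq_mul,
        ha0z, mul_zero, add_zero] at h'
      rw [hKz c, h', mul_div_cancel_right₀ _ hz]
    obtain ⟨b₀, hb0z, hyb0, hb0⟩ : ∃ b, B b z = 0 ∧ y.1 b = b ∧ B b a₀ ≠ 0 := by
      refine hexfix (B.flip a₀) (a₀' - (B a₀' z / B z z) • z) (split_z hM hB hz hρ _) ?_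
      simp [Frame.pv hG hB hF₀, hza0]
    have hsa := hsemi ha0z hya0
    have hsb := hsemi hb0z hyb0
    have hab : B a₀ b₀ ≠ 0 := by rw [B_symm hG hB]; exact hb0
    have hr1 := hratio hyb0 hyb0 hyb0 hya0 hsb hsb
    set κ := B b₀ b₀ / B b₀ a₀ with hκ
    set b := b₀ - (κ / 2) • a₀ with hb
    have hyb : y.1 b = b := by rw [hb, map_sub, hyb0, hsa, map_div₀, hr1, map_ofNat]
    have hbz : B b z = 0 := by simp [hb, hb0z, ha0z]
    have hbb : B b b = 0 := by
      simp [hb, hκ, B_symm hG hB a₀ b₀, ha0]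
      field_simp
      ring
    have hba : B b a₀ = B a₀ b₀ := by simp [hb, ha0, B_symm hG hB a₀ b₀]
    have hab' : B a₀ b = B a₀ b₀ := by rw [B_symm hG hB, hba]
    have hr2 := hratio hyz hyz hya0 hyb hsz hsa
    rw [hab'] at hr2
    set ν := B z z / B a₀ b₀ / 2 with hν
    have hσν : σ ν = ν := by rw [hν, map_div₀, hr2, map_ofNat]
    set a' := a₀ + ν • b with ha'
    set u := a₀ - ν • b with hu
    have hya' : y.1 a' = a' := by rw [ha', map_add, hya0, hsemi hbz hyb, hσν]
    have hyu : y.1 u = u := by rw [hu, map_sub, hya0, hsemi hbz hyb, hσν]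
    have ha'z : B a' z = 0 := by simp [ha', ha0z, hbz]
    have huz : B u z = 0 := by simp [hu, ha0z, hbz]
    have ha'a' : B a' a' = B z z := by
      simp [ha', ha0, hbb, hab', hba, hν]
      field_simp
      ring
    have hua' : B u a' = 0 := by
      simp [hu, ha', ha0, hbb, hab', hba]
    have haz2 : B (a' + z) (a' + z) ≠ 0 := by
      simp [ha'a', ha'z, B_symm hG hB z a']
      rw [← two_mul]
      exact mul_ne_zero h2 hz
    obtain ⟨T, hT, -, hTx⟩ := exists_rot hG hB hM.lin (show B a' a' ≠ 0 by rwa [ha'a']) haz2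
    have hTu : T.1 u = u := by
      have e1 : sf B (a' + z) u = u := by simp [sf, hua', huz]
      have e2 : sf B a' u = u := by simp [sf, hua']
      rw [hTx, e1, e2, e1, e2]
    have hTz : T.1 z = -z := by
      have e1 : sf B (a' + z) z = -a' := by
        simp [sf, ha'a', ha'z, B_symm hG hB z a', ← two_mul]
        match_scalars <;> field_simp <;> ring
      have e2 : sf B a' (-a') = a' := by
        simp [sf, ha'a']
        match_scalars <;> field_simp <;> ring
      have e3 : sf B (a' + z) a' = -z := by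
        simp [sf, ha'a', ha'z, B_symm hG hB z a', ← two_mul]
        match_scalars <;> field_simp <;> ring
      have e4 : sf B a' (-z) = -z := by simp [sf, B_symm hG hB z a', ha'z]
      rw [hTx, e1, e2, e3, e4]
    have hcomm : ∀ x, y.1 (T.1 x) = T.1 (y.1 x) := fun x => by
      have h1 := sf_comm hM hB hya' (hsemi ha'z hya')
      have h3 := sf_comm hM hB (a := a' + z) (σ := σ) (by rw [map_add, hya', hyz]) (fun c => by
        rw [smul_add c a' z, map_add, hsemi ha'z hya', hsz, smul_add (σ c) a' z])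
      rw [hTx, hTx, h1, h3, h1, h3]
    have hu0 : u ≠ 0 := fun h => by
      have : B u b = 0 := by simp [h]
      simp [hu, hbb, hab'] at this
      exact hab this
    obtain ⟨γ, c₁, hc0, hc₁, hγ⟩ := hgamma T hT hcomm u hu0 hyu hTu
    have hneg : γ c₁⁻¹ = -c₁⁻¹ := by
      have h := hγ c₁⁻¹
      rw [inv_smul_smul₀ hc0, hdv, hTz, ← hdv, ← map_neg] at h
      refine smul_left_injective K (smul_ne_zero hc0 hv0) (show γ c₁⁻¹ • c₁ • v = (-c₁⁻¹) • c₁ • v from ?_)
      rw [← d.1.injective h, neg_smul, inv_smul_smul₀ hc0]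
    have hit : ∀ i : ℕ, (γ ^ i) c₁⁻¹ = (-1) ^ i * c₁⁻¹ := fun i => by
      induction i with
      | zero => simp
      | succ i ih => rw [pow_succ', AlgEquiv.mul_apply, ih, map_mul, map_pow, map_neg, map_one, hneg, pow_succ]; ring
    have h := hit (finrank F K)
    rw [hoddγ, (hrp ▸ hpodd : Odd (finrank F K)).neg_one_pow] at h
    exact inv_ne_zero hc0 ((mul_eq_zero.1 (show (2 : K) * c₁⁻¹ = 0 by
      rw [AlgEquiv.one_apply] at h; linear_combination h)).resolve_left h2)
  · -- otherwise a rotation of the fixed plane gives a non-trivial unipotent rotation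
    push Not at hsing
    obtain ⟨φ, hφ, -⟩ := Cfsg.Agent.ExtFieldMax.exists_dual_one (⊥ : Submodule K V) (z := a₁)
      (by simpa using (fun h : a₁ = 0 => ha₁ (by simp [h])))
    obtain ⟨a', ha'z, hya', ha'φ⟩ := hexfix φ a₁ ha₁z (by rw [hφ]; exact one_ne_zero)
    have ha'0 : a' ≠ 0 := fun h => ha'φ (by rw [h, map_zero])
    have ha'a' := hsing a' ha'0 ha'z hya'
    have hsa := hsemi ha'z hya'
    obtain ⟨φ', hφ', hφa⟩ : ∃ φ' : V →ₗ[K] K, (φ' a₁ ≠ 0 ∨ φ' b₁ ≠ 0) ∧ φ' a' = 0 := by
      by_contra hcon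
      push Not at hcon
      have hsp : ∀ x ∈ [a₁, b₁], x ∈ Submodule.span K ({a'} : Set V) := fun x hx => by
        by_contra hne
        obtain ⟨ψ, hψ, hψ'⟩ := Cfsg.Agent.ExtFieldMax.exists_dual_one (Submodule.span K ({a'} : Set V)) hne
        have := hψ' a' (Submodule.mem_span_singleton_self a')
        simp at hx
        rcases hx with rfl | rfl
        · exact hcon ψ (Or.inl (by rw [hψ]; exact one_ne_zero)) this
        · exact hcon ψ (Or.inr (by rw [hψ]; exact one_ne_zero)) this
      obtain ⟨s, hs⟩ := Submodule.mem_span_singleton.1 (hsp a₁ (by simp))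
      obtain ⟨t, ht⟩ := Submodule.mem_span_singleton.1 (hsp b₁ (by simp))
      rw [← hs] at hb₁a ha₁
      rw [← ht] at hb₁a hb₁
      simp at hb₁a ha₁ hb₁
      tauto
    obtain ⟨x', hx'z, hyx', hx'φ⟩ : ∃ x', B x' z = 0 ∧ y.1 x' = x' ∧ φ' x' ≠ 0 :=
      hφ'.elim (hexfix φ' a₁ ha₁z) (hexfix φ' b₁ hb₁z)
    set κ := B x' a' / B a' a' with hκ
    set b := x' - κ • a' with hb
    have hσκ : σ κ = κ := hratio hyx' hya' hya' hya' (hsemi hx'z hyx') hsa
    have hyb : y.1 b = b := by rw [hb, map_sub, hyx', hsa, hσκ]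
    have hbz : B b z = 0 := by simp [hb, hx'z, ha'z]
    have hba : B b a' = 0 := by simp [hb, hκ, div_mul_cancel₀ _ ha'a']
    have hb0 : b ≠ 0 := fun h => hx'φ (by
      have := congrArg φ' h
      simpa [hb, hφa] using this)
    have hbb := hsing b hb0 hbz hyb
    have hab : B a' b = 0 := by rw [B_symm hG hB, hba]
    have hsum : B (a' + b) (a' + b) ≠ 0 := by
      refine hsing _ (fun h => ha'a' ?_) (by simp [ha'z, hbz]) (by rw [map_add, hya', hyb])
      have := congrArg (fun q => B q a') h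
      simpa [hba] using this
    obtain ⟨T, hT, hTl, hTx⟩ := exists_rot hG hB hM.lin ha'a' hsum
    have hzab : B z a' = 0 ∧ B z b = 0 := ⟨by rw [B_symm hG hB, ha'z], by rw [B_symm hG hB, hbz]⟩
    have hTz : T.1 z = z := by
      have e1 : sf B (a' + b) z = z := by simp [sf, hzab.1, hzab.2]
      have e2 : sf B a' z = z := by simp [sf, hzab.1]
      rw [hTx, e1, e2, e1, e2]
    have hcomm : ∀ x, y.1 (T.1 x) = T.1 (y.1 x) := fun x => by
      have h1 := sf_comm hM hB hya' hsa
      have h3 := sf_comm hM hB (a := a' + b) (by rw [map_add, hya', hyb]) (fun c => by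
        rw [smul_add, map_add, hsa, hsemi hbz hyb, smul_add])
      rw [hTx, hTx, h1, h3, h1, h3]
    obtain ⟨γ, c₁, hc0, -, hγ⟩ := hgamma T hT hcomm z hz0 hyz hTz
    have hit : ∀ (i : ℕ) (c : K), (T ^ i).1 (d.1 (c • c₁ • v)) = d.1 ((γ ^ i) c • c₁ • v) := fun i => by
      induction i with
      | zero => intro c; rfl
      | succ i ih => intro c; rw [pow_succ', mul_app, ih, hγ, ← AlgEquiv.mul_apply, ← pow_succ']
    have hTp : ∀ x, y.1 x = x → (T ^ p).1 x = x := fun x hx => by
      obtain ⟨c, rfl⟩ := hfix x hx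
      rw [show c • v = (c / c₁) • c₁ • v by rw [smul_smul, div_mul_cancel₀ _ hc0], hit, ← hrp, hoddγ]
      rfl
    have hTp1 : T ^ p = 1 := orth_ext fun x => by
      rw [orth_basis hM hB hz ha'a' hbb ha'z hbz hba x, map_add, map_add, pow_lin hTl, pow_lin hTl, pow_lin hTl,
        pow_fix hTz, hTp a' hya', hTp b hyb]
      rfl
    -- so it has a fixed vector in the plane, and is trivial
    have hTP : ∀ x, B x z = 0 → B (T.1 x) z = 0 := fun x hx => by
      rw [← hTz, B_map hG hB hTl, hx]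
    let P := LinearMap.ker (B.flip z)
    let f : P → P := fun x => ⟨T.1 x, hTP _ x.2⟩
    haveI : Finite V := Module.finite_of_finite K
    haveI : Fintype P := Fintype.ofFinite P
    have hitf : ∀ (m : ℕ) (x : P), ((f^[m] x : P) : V) = (T ^ m).1 x := by
      intro m
      induction m with
      | zero => intro x; rfl
      | succ m ih => intro x; rw [Function.iterate_succ_apply, ih, pow_succ, mul_app]
    have hcard := fixed_card f (p := p) (n := 1) fun x => Subtype.ext (by rw [hitf, pow_one, hTp1]; rfl)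
    have hp0 : Nat.card P ≡ 0 [MOD p] := by
      rw [Nat.modEq_zero_iff_dvd]
      haveI : CharP K p := (Algebra.charP_iff F K p).1 inferInstance
      obtain ⟨n, -, hn⟩ := FiniteField.card K p
      rw [Nat.card_eq_fintype_card, Module.card_eq_pow_finrank (K := K) (V := P), hn, ← pow_mul]
      exact dvd_pow_self p (Nat.mul_pos n.pos (Module.finrank_pos_iff_exists_ne_zero.2
        ⟨⟨a', ha'z⟩, fun h => ha'0 (congrArg Subtype.val h)⟩)).ne'
    have h2' : 1 < Nat.card {x : P // f x = x} := by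
      haveI : Nonempty {x : P // f x = x} := ⟨⟨0, Subtype.ext (map_zero T.1)⟩⟩
      exact lt_of_lt_of_le (Fact.out : p.Prime).one_lt
        (Nat.le_of_dvd Nat.card_pos (Nat.modEq_zero_iff_dvd.1 (hcard.symm.trans hp0)))
    haveI : Nontrivial {x : P // f x = x} := Finite.one_lt_card_iff_nontrivial.1 h2'
    obtain ⟨x₀, hx₀⟩ := exists_ne (⟨0, Subtype.ext (map_zero T.1)⟩ : {x : P // f x = x})
    have h := fixed_id hM hB hz hρ hTP (fun c x _ => hTl c x) hpodd hTp1 x₀.1.2
      (fun h => hx₀ (Subtype.ext (Subtype.ext h))) (congrArg Subtype.val x₀.2) a' ha'z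
    rw [hTx] at h
    -- but it moves `a'`
    set w := sf B (a' + b) a' with hw
    have h' : sf B a' w = -w := by
      have h1 := congrArg (sf B a') h
      rw [sf_sf hG hB ha'a', show sf B a' a' = -a' by
        simp [sf]; match_scalars <;> field_simp <;> ring] at h1
      have h3 := congrArg (sf B (a' + b)) h1
      rwa [sf_sf hG hB hsum, sf_neg hM hB, ← hw] at h3
    have h3 := congrArg (fun q => B q b) h'
    simp [sf, hab] at h3
    have h4 : B w b = 0 := (mul_eq_zero.1 (show (2 : K) * B w b = 0 by linear_combination h3)).resolve_left h2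
    simp [hw, sf, hab, hba, h2, ha'a', hbb] at h4
    simp [hab, hba, h4] at hsum

end

end Cfsg.Agent.ExtFieldThree10
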