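import Mathlib
import Cfsg.Agent.Lib.ExtFieldThree10Fix

/-!
Every singular vector has a root element in the subgroup: otherwise a transfer argument inside the
stabiliser of a singular vector produces an impossible p-element normalising a rotation.
-/

set_option autoImplicit false
set_option linter.unusedSectionVars false
set_option linter.style.haveILetI false
set_option maxHeartbeats 800000

namespace Cfsg.Agent.ExtFieldThree10

open QuadraticMap Module
open Cfsg.Agent.OrthUnitaryQuad Cfsg.Agent.OrthUnitaryRefl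

variable {F K V : Type*} [Field F] [Fintype F] [Field K] [Fintype K] [Algebra F K]
  [AddCommGroup V] [Module F V] [Module K V] [IsScalarTower F K V] [FiniteDimensional K V]

variable {Q : QuadraticForm F V}

/-- The stabiliser of `v` in `M`. -/
def stab (M : Subgroup (orth Q)) (v : V) : Subgroup (orth Q) where
  carrier := {k | k ∈ M ∧ k.1 v = v}
  one_mem' := ⟨one_mem M, rfl⟩
  mul_mem' := fun {a b} ha hb => ⟨mul_mem ha.1 hb.1, by rw [mul_app, hb.2, ha.2]⟩
  inv_mem' := fun {a} ha => ⟨inv_mem ha.1, by conv_lhs => rw [← ha.2, inv_app]⟩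

variable (K) in
/-- The elements of the stabiliser fixing the line of `v` pointwise. -/
def fixer (M : Subgroup (orth Q)) (v : V) : Subgroup (stab M v) where
  carrier := {k | ∀ c : K, k.1.1 (c • v) = c • v}
  one_mem' := fun c => rfl
  mul_mem' := fun {a b} ha hb c => by
    show (a.1 * b.1).1 (c • v) = c • v
    rw [mul_app, hb c, ha c]
  inv_mem' := fun {a} ha c => by
    show a.1⁻¹.1 (c • v) = c • v
    conv_lhs => rw [← ha c, inv_app]

variable (K) in
/-- The elements of the stabiliser preserving the line of `v`. -/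
def InLine (M : Subgroup (orth Q)) (v : V) (k : stab M v) : Prop :=
  ∀ c : K, ∃ d : K, k.1.1 (c • v) = d • v

variable {M : Subgroup (orth Q)}

theorem inLine_mul {v : V} {a b : stab M v} (ha : InLine K M v a) (hb : InLine K M v b) :
    InLine K M v (a * b) := fun c => by
  obtain ⟨d, hd⟩ := hb c
  obtain ⟨e, he⟩ := ha d
  exact ⟨e, by show (a.1 * b.1).1 (c • v) = e • v; rw [mul_app, hd, he]⟩

theorem inLine_inv {v : V} (hv : v ≠ 0) {a : stab M v} (ha : InLine K M v a) : InLine K M v a⁻¹ := fun c => by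
  choose f hf using ha
  have hinj : Function.Injective f := fun x y h => smul_left_injective K hv
    (a.1.1.injective (show a.1.1 (x • v) = a.1.1 (y • v) by rw [hf, hf, h]))
  obtain ⟨d, hd⟩ := Finite.injective_iff_surjective.1 hinj c
  refine ⟨d, ?_⟩
  show a.1⁻¹.1 (c • v) = d • v
  rw [← hd, ← hf, inv_app]

/-- The parameter of an element of the fixer. -/
noncomputable def par (B : V →ₗ[K] V →ₗ[K] K) (v' w : V) {v : V} (k : stab M v) : K :=
  B (k.1.1 v') w / B w w

section
variable {τ : K →ₗ[F] F} {B : V →ₗ[K] V →ₗ[K] K} (hM : Hyp K Q M) (hB : Lifts Q τ B)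
variable {v v' w : V} (hF : Frame B v v' w) (hno : ¬ Root M τ B v)
include hM hB hF hno

theorem fixer_form {k : stab M v} (hk : k ∈ fixer K M v) :
    ∀ x, k.1.1 x = x + (B x v * par B v' w k) • w -
      (par B v' w k * B x w + 2⁻¹ * (par B v' w k * par B v' w k * B w w) * B x v) • v := by
  obtain ⟨a, ha⟩ := fix_line hM hB hF hno k.2.1 hk
  have : par B v' w k = a := by
    rw [par, ha]
    simp [Frame.pv hM.geo hB hF, Frame.vw hM.geo hB hF, Frame.pw hM.geo hB hF, hF.ww]
  rw [this]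
  exact ha

theorem par_mul {a b : stab M v} (ha : a ∈ fixer K M v) (hb : b ∈ fixer K M v) :
    par B v' w (a * b) = par B v' w a + par B v' w b := by
  conv_lhs => rw [par, show (a * b).1.1 v' = a.1.1 (b.1.1 v') from mul_app a.1 b.1 v',
    fixer_form hM hB hF hno hb v', fixer_form hM hB hF hno ha]
  simp [Frame.pv hM.geo hB hF, Frame.vw hM.geo hB hF, Frame.pw hM.geo hB hF, hF.ww, hF.vv, hF.wv, hF.wp]
  field_simp [hF.ww]
  ring

theorem par_eq_zero {a : stab M v} (ha : a ∈ fixer K M v) (h : par B v' w a = 0) : a = 1 :=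
  Subtype.ext (orth_ext fun x => by rw [fixer_form hM hB hF hno ha, h]; simp)

theorem exists_par (c : K) : ∃ a ∈ fixer K M v, par B v' w a = c := by
  obtain ⟨g, hg, -, hgx⟩ := exists_E hM hB hF c
  have hv := Frame.vw hM.geo hB hF
  refine ⟨⟨g, hg, by rw [hgx]; simp [hF.vv, hv]⟩, fun d => by
    show g.1 (d • v) = d • v
    rw [hgx]; simp [hF.vv, hv], ?_⟩
  show B (g.1 v') w / B w w = c
  rw [hgx]
  simp [Frame.pv hM.geo hB hF, hv, Frame.pw hM.geo hB hF, hF.ww]

theorem fixer_pow {p : ℕ} [CharP K p] {a : stab M v} (ha : a ∈ fixer K M v) : a ^ p = 1 := by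
  have h : ∀ n : ℕ, par B v' w (a ^ n) = n * par B v' w a := by
    intro n
    induction n with
    | zero =>
      simp only [pow_zero, Nat.cast_zero, zero_mul, par]
      show B v' w / B w w = 0
      rw [Frame.pw hM.geo hB hF, zero_div]
    | succ n ih =>
      rw [pow_succ, par_mul hM hB hF hno (pow_mem ha n) ha, ih]; push_cast; ring
  exact par_eq_zero hM hB hF hno (pow_mem ha p) (by rw [h, CharP.cast_eq_zero, zero_mul])

/-- Field automorphism and twisting factor of an element preserving the line. -/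
theorem exists_data {g : stab M v} (hg : InLine K M v g) :
    ∃ (σ : K ≃ₐ[F] K) (κ : K), κ ≠ 0 ∧ (∀ c : K, g.1.1 (c • v) = σ c • v) ∧
      (∀ c : K, B (g.1.1 (c • w)) w = σ c * B (g.1.1 w) w) ∧
      ∀ a ∈ fixer K M v, g * a * g⁻¹ ∈ fixer K M v ∧
        par B v' w (g * a * g⁻¹) = κ * σ (par B v' w a) := by
  have hG := hM.geo
  have hv0 := Frame.ne hG hB hF
  have hvw := Frame.vw hG hB hF
  choose f hf using hg
  let e : K →ₗ[F] K :=
    { toFun := f
      map_add' := fun a b => smul_left_injective K hv0 (show f (a + b) • v = (f a + f b) • v by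
        rw [add_smul, ← hf, ← hf, ← hf, ← map_add, add_smul])
      map_smul' := fun s a => smul_left_injective K hv0 (show f (s • a) • v = (s • f a) • v by
        rw [smul_assoc, ← hf, ← hf, smul_assoc, LinearEquiv.map_smul]) }
  have he1 : e 1 = 1 := smul_left_injective K hv0 (show f 1 • v = (1 : K) • v by
    rw [← hf, one_smul, g.2.2])
  obtain ⟨hmult, hsemi⟩ := test hM hB hF hno g.2.1 e hf he1
  obtain ⟨σ, hσ⟩ := exists_aut e he1 hmult
  have hσv : ∀ c : K, g.1.1 (c • v) = σ c • v := fun c => by rw [hσ]; exact hf c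
  have hgw0 : B (g.1.1 w) v = 0 := by
    refine tau_ext hB.one fun b => ?_
    obtain ⟨b', rfl⟩ := σ.surjective b
    rw [← hB.eq, hG.adj, ← hσv, polar_orth g.1, ← hG.adj, hB.eq, hF.wv, mul_zero, mul_zero]
  set ν := B (g.1.1 w) w with hν
  have hgcw : ∀ c : K, B (g.1.1 (c • w)) w = σ c * ν := fun c => by
    obtain ⟨d, hd⟩ := hsemi c w hvw
    rw [hd, hσ]
    simp [hvw, hν]
  have hconj : ∀ a ∈ fixer K M v, g * a * g⁻¹ ∈ fixer K M v ∧
      par B v' w (g * a * g⁻¹) * ν = σ (par B v' w a * B w w) := by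
    intro a ha
    have hmem : g * a * g⁻¹ ∈ fixer K M v := fun c => by
      show (g.1 * a.1 * g.1⁻¹).1 (c • v) = c • v
      obtain ⟨c', rfl⟩ := σ.surjective c
      rw [mul_app, mul_app, ← hσv, inv_app, ha]
    refine ⟨hmem, ?_⟩
    have h : (g * a * g⁻¹).1.1 (g.1.1 w) = g.1.1 (a.1.1 w) := by
      show (g.1 * a.1 * g.1⁻¹).1 (g.1.1 w) = _
      rw [mul_app, mul_app, inv_app]
    rw [fixer_form hM hB hF hno hmem, fixer_form hM hB hF hno ha, hgw0, hF.wv] at h
    simp only [zero_mul, zero_smul, add_zero, mul_zero, map_sub, hσv, sub_right_inj] at h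
    exact smul_left_injective K hv0 h
  have hν0 : ν ≠ 0 := by
    intro h0
    obtain ⟨a, ha, hpa⟩ := exists_par hM hB hF hno 1
    have h := (hconj a ha).2
    rw [h0, mul_zero, hpa, one_mul, eq_comm, map_eq_zero_iff _ σ.injective] at h
    exact hF.ww h
  refine ⟨σ, σ (B w w) / ν, div_ne_zero (by simpa using hF.ww) hν0, hσv, hgcw, fun a ha => ⟨(hconj a ha).1, ?_⟩⟩
  have h := (hconj a ha).2
  rw [map_mul] at h
  field_simp
  linear_combination h

theorem mem_line {a : stab M v} (ha : a ∈ fixer K M v) (ha0 : par B v' w a ≠ 0) {x : V} (hfix : a.1.1 x = x) :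
    x = B x v' • v := by
  have hG := hM.geo
  rw [fixer_form hM hB hF hno ha] at hfix
  have h1 := congrArg (fun y => B y w) hfix
  have h3 := congrArg (fun y => B y v') hfix
  simp [Frame.vw hG hB hF, hF.ww, ha0] at h1
  simp [hF.wp, hF.vp, h1, ha0] at h3
  have hx := frame_eq hG hB hF x
  rwa [h1, h3, zero_smul, zero_div, zero_smul, add_zero, add_zero] at hx

theorem inLine_of_conj {g a : stab M v} (ha : a ∈ fixer K M v) (ha0 : par B v' w a ≠ 0)
    (h : g⁻¹ * a * g ∈ fixer K M v) : InLine K M v g := by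
  have hG := hM.geo
  intro c
  have hfix : a.1.1 (g.1.1 (c • v)) = g.1.1 (c • v) := by
    have := congrArg g.1.1 (h c)
    rwa [show (g⁻¹ * a * g).1.1 (c • v) = g.1⁻¹.1 (a.1.1 (g.1.1 (c • v))) from rfl, app_inv] at this
  exact ⟨_, mem_line hM hB hF hno ha ha0 hfix⟩

theorem not_small {k : stab M v} (hl : InLine K M v k) (hk : Small K k.1) : k = 1 := by
  classical
  have hG := hM.geo
  have hv0 := Frame.ne hG hB hF
  haveI : FiniteDimensional F K := Module.Finite.of_finite
  haveI : FiniteDimensional F V := FiniteDimensional.trans F K V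
  set R := LinearMap.range ((k.1.1 : V →ₗ[F] V) - LinearMap.id) with hR
  have hmem : ∀ x, k.1.1 x - x ∈ R := fun x => ⟨x, rfl⟩
  obtain ⟨σ, -, -, hσv, hσw, -⟩ := exists_data hM hB hF hno hl
  by_contra hne
  refine absurd hk (not_lt.2 ?_)
  by_cases hσ1 : σ = 1
  · have hkA : k ∈ fixer K M v := fun c => by rw [hσv, hσ1]; rfl
    set P := par B v' w k with hP
    have hP0 : P ≠ 0 := fun h => hne (par_eq_zero hM hB hF hno hkA h)
    let f : R →ₗ[F] K := ((B.flip w).restrictScalars F).comp R.subtype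
    have hf : LinearMap.range f = ⊤ := LinearMap.range_eq_top.2 fun c => by
      refine ⟨⟨_, hmem ((c / (P * B w w)) • v')⟩, ?_⟩
      show B (k.1.1 _ - (c / (P * B w w)) • v') w = c
      rw [fixer_form hM hB hF hno hkA]
      simp [Frame.pv hG hB hF, Frame.vw hG hB hF, Frame.pw hG hB hF, ← hP]
      field_simp [hF.ww]
    have := LinearMap.finrank_range_le f
    rwa [hf, finrank_top] at this
  · let d : K →ₗ[F] V := ((LinearMap.toSpanSingleton K V v).restrictScalars F).comp
      (σ.toLinearMap - LinearMap.id)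
    have hdR : LinearMap.range d ≤ R := by
      rintro _ ⟨c, rfl⟩
      show (σ c - c) • v ∈ R
      rw [sub_smul, ← hσv]
      exact hmem _
    have hker : finrank F (LinearMap.ker d) ≤ 1 := by
      let S : Subalgebra F K :=
        { carrier := {c | σ c = c}
          mul_mem' := fun {a b} ha hb => by show σ (a * b) = a * b; rw [map_mul, ha, hb]
          one_mem' := map_one σ
          add_mem' := fun {a b} ha hb => by show σ (a + b) = a + b; rw [map_add, ha, hb]
          zero_mem' := map_zero σ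
          algebraMap_mem' := fun s => σ.commutes s }
      haveI := Subalgebra.isSimpleOrder_of_finrank_prime F K hG.prime
      have hS : S = ⊥ := (eq_bot_or_eq_top S).resolve_right fun h => hσ1 (AlgEquiv.ext fun c => by
        exact (h ▸ Algebra.mem_top : c ∈ S))
      have hle : LinearMap.ker d ≤ F ∙ (1 : K) := fun c hc => by
        have hc' : (σ c - c) • v = 0 := hc
        have hcS : c ∈ S := sub_eq_zero.1 ((smul_eq_zero.1 hc').resolve_right hv0)
        rw [hS, Algebra.mem_bot] at hcS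
        obtain ⟨s, rfl⟩ := hcS
        exact Submodule.mem_span_singleton.2 ⟨s, by rw [Algebra.smul_def, mul_one]⟩
      exact le_trans (Submodule.finrank_mono hle) (le_of_eq (finrank_span_singleton one_ne_zero))
    have h1 := LinearMap.finrank_range_add_finrank_ker d
    have hlt : LinearMap.range d < R := by
      refine lt_of_le_of_ne hdR fun heq => hσ1 ?_
      have hc : ∀ c : K, σ c * B (k.1.1 w) w = c * B w w := fun c => by
        obtain ⟨e, he⟩ : k.1.1 (c • w) - c • w ∈ LinearMap.range d := heq ▸ hmem _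
        have h := congrArg (fun y => B y w) he
        simp only [d, LinearMap.comp_apply, LinearMap.coe_restrictScalars, LinearMap.toSpanSingleton_apply,
          map_smul, LinearMap.smul_apply, Frame.vw hG hB hF, smul_zero, map_sub, LinearMap.sub_apply, hσw,
          smul_eq_mul] at h
        exact sub_eq_zero.1 (by simpa using h.symm)
      have h1 := hc 1
      rw [map_one, one_mul, one_mul] at h1
      exact AlgEquiv.ext fun c => mul_right_cancel₀ hF.ww (by rw [← h1]; exact (hc c).trans (by rw [h1]; rfl))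
    have h2 := Submodule.finrank_lt_finrank_of_lt hlt
    show finrank F K ≤ finrank F R
    omega

open scoped Classical in
theorem transfer_facts {p : ℕ} [Fact p.Prime] [CharP K p] :
    ∃ Θ : stab M v →* Multiplicative K,
      (∃ a, Θ a ≠ 1) ∧ ∀ h : stab M v, h ^ p = 1 → (∀ c, c⁻¹ * h * c ∉ fixer K M v) → Θ h = 1 := by
  have hG := hM.geo
  have hv0 := Frame.ne hG hB hF
  haveI : Finite V := Module.finite_of_finite K
  haveI : Finite (V ≃ₗ[F] V) := Finite.of_injective _ DFunLike.coe_injective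
  haveI : Finite (stab M v) := inferInstance
  set A := fixer K M v with hA
  let ϕ : A →* Multiplicative K :=
    { toFun := fun a => Multiplicative.ofAdd (par B v' w a.1)
      map_one' := by
        show Multiplicative.ofAdd (B ((1 : stab M v).1.1 v') w / B w w) = 1
        show Multiplicative.ofAdd (B v' w / B w w) = 1
        rw [Frame.pw hG hB hF, zero_div]; rfl
      map_mul' := fun a b => by
        show Multiplicative.ofAdd (par B v' w (a.1 * b.1)) = _
        rw [par_mul hM hB hF hno a.2 b.2]; rfl }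
  haveI : A.FiniteIndex := Subgroup.finiteIndex_of_finite_quotient
  letI : Fintype (stab M v ⧸ A) := Fintype.ofFinite _
  letI : ∀ g : stab M v, Fintype (Quotient (MulAction.orbitRel (Subgroup.zpowers g) (stab M v ⧸ A))) :=
    fun g => Fintype.ofFinite _
  have hper : ∀ {g : stab M v}, g ^ p = 1 → ∀ c : stab M v ⧸ A,
      Function.minimalPeriod (g • ·) c = 1 ∨ Function.minimalPeriod (g • ·) c = p := fun {g} hg c =>
    (Nat.dvd_prime Fact.out).1 (Function.IsPeriodicPt.minimalPeriod_dvd (by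
      show (g • ·)^[p] c = c
      rw [smul_iterate_apply, hg, one_smul]))
  refine ⟨ϕ.transfer, ?_, fun h hp hc => ?_⟩
  swap
  · rw [MonoidHom.transfer_eq_prod_quotient_orbitRel_zpowers_quot ϕ h]
    refine Finset.prod_eq_one fun q _ => ?_
    have hmem := QuotientGroup.out_conj_pow_minimalPeriod_mem A h q.out
    rcases hper hp q.out with hm | hm
    · exfalso
      rw [hm, pow_one] at hmem
      exact hc _ hmem
    · rw [show (⟨_, hmem⟩ : A) = 1 from Subtype.ext (show q.out.out⁻¹ * h ^ Function.minimalPeriod (h • ·) q.out * q.out.out = 1 by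
        rw [hm, hp, mul_one, inv_mul_cancel])]
      exact map_one ϕ
  -- the value on the fixer is a combination of automorphisms
  let S : Finset (stab M v ⧸ A) := Finset.univ.filter fun c => InLine K M v c.out
  have hSmem : ∀ c, c ∈ S ↔ InLine K M v c.out := fun c => by
    simp [S]
  have hd : ∀ c : stab M v ⧸ A, ∃ (σ : K ≃ₐ[F] K) (κ : K), InLine K M v c.out →
      κ ≠ 0 ∧ (∀ e : K, c.out⁻¹.1.1 (e • v) = σ e • v) ∧
      ∀ a ∈ A, c.out⁻¹ * a * c.out ∈ A ∧ par B v' w (c.out⁻¹ * a * c.out) = κ * σ (par B v' w a) := by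
    intro c
    by_cases hc : InLine K M v c.out
    · obtain ⟨σ, κ, hκ, hσ, -, hconj⟩ := exists_data hM hB hF hno (inLine_inv hv0 hc)
      exact ⟨σ, κ, fun _ => ⟨hκ, hσ, fun a ha => by simpa using hconj a ha⟩⟩
    · exact ⟨1, 1, fun h => absurd h hc⟩
  choose σ κ hd using hd
  have key : ∀ a ∈ A, par B v' w a ≠ 0 →
      Multiplicative.toAdd (ϕ.transfer a) = ∑ c ∈ S, κ c * σ c (par B v' w a) := by
    intro a ha ha0
    rw [MonoidHom.transfer_eq_prod_quotient_orbitRel_zpowers_quot ϕ a, toAdd_prod]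
    rw [← Finset.sum_filter_of_ne (p := fun q => Function.minimalPeriod (a • ·) q.out = 1) (fun q _ hne => by
      rcases hper (fixer_pow hM hB hF hno ha) q.out with hm | hm
      · exact hm
      · refine absurd ?_ hne
        have hmem := QuotientGroup.out_conj_pow_minimalPeriod_mem A a q.out
        rw [show (⟨_, hmem⟩ : A) = 1 from Subtype.ext (show q.out.out⁻¹ * a ^ Function.minimalPeriod (a • ·) q.out * q.out.out = 1 by
          rw [hm, fixer_pow hM hB hF hno ha, mul_one, inv_mul_cancel]), map_one]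
        rfl)]
    have hfix : ∀ c : stab M v ⧸ A, a • c = c ↔ InLine K M v c.out := by
      intro c
      conv_lhs => rw [← QuotientGroup.out_eq' c]
      rw [MulAction.Quotient.smul_mk, QuotientGroup.eq]
      constructor
      · intro h
        have h' := inv_mem h
        rw [mul_inv_rev, inv_inv, smul_eq_mul, ← mul_assoc] at h'
        exact inLine_of_conj hM hB hF hno ha ha0 h'
      · intro h
        have h' := inv_mem ((hd c h).2.2 a ha).1
        rw [smul_eq_mul, mul_inv_rev]
        rwa [mul_inv_rev, mul_inv_rev, inv_inv] at h'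
    have hone : ∀ c : stab M v ⧸ A, Function.minimalPeriod (a • ·) c = 1 ↔ InLine K M v c.out := fun c =>
      Function.minimalPeriod_eq_one_iff_isFixedPt.trans (hfix c)
    refine Finset.sum_bij (fun q _ => q.out) (fun q hq => ?_) (fun q _ q' _ h => ?_) (fun c hc => ?_) (fun q hq => ?_)
    · exact (hSmem _).2 ((hone _).1 (Finset.mem_filter.1 hq).2)
    · rw [← Quotient.out_eq q, ← Quotient.out_eq q', h]
    · have hc' := (hSmem c).1 hc
      have hout : (Quotient.mk'' c : Quotient (MulAction.orbitRel (Subgroup.zpowers a) (stab M v ⧸ A))).out = c := by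
        have h := Quotient.mk_out (s := MulAction.orbitRel (Subgroup.zpowers a) (stab M v ⧸ A)) c
        obtain ⟨⟨g, hg⟩, hgc⟩ := h
        obtain ⟨i, rfl⟩ := Subgroup.mem_zpowers_iff.1 hg
        refine (hgc.symm.trans ?_)
        show a ^ i • c = c
        exact MulAction.mem_stabilizer_iff.1 (zpow_mem (MulAction.mem_stabilizer_iff.2 ((hfix c).2 hc')) i)
      exact ⟨Quotient.mk'' c, Finset.mem_filter.2 ⟨Finset.mem_univ _, by rw [hout]; exact (hone c).2 hc'⟩, hout⟩
    · have hm := (Finset.mem_filter.1 hq).2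
      have hl := (hone _).1 hm
      show par B v' w (q.out.out⁻¹ * a ^ Function.minimalPeriod (a • ·) q.out * q.out.out) = _
      rw [hm, pow_one, ((hd _ hl).2.2 a ha).2]
  have hinj : Set.InjOn σ S := by
    intro c hc c' hc' h
    rw [Finset.mem_coe, hSmem] at hc hc'
    rw [← QuotientGroup.out_eq' c, ← QuotientGroup.out_eq' c', QuotientGroup.eq]
    intro e
    show (c.out.1⁻¹ * c'.out.1).1 (e • v) = e • v
    obtain ⟨e', rfl⟩ := (σ c').surjective e
    rw [mul_app, ← (hd c' hc').2.1 e']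
    show c.out.1⁻¹.1 (c'.out.1.1 (c'.out.1⁻¹.1 (e' • v))) = c'.out.1⁻¹.1 (e' • v)
    rw [app_inv, show c'.out.1⁻¹.1 (e' • v) = σ c' e' • v from (hd c' hc').2.1 e', ← h]
    exact (hd c hc).2.1 e'
  by_contra hcon
  push Not at hcon
  have hall : ∀ x : K, ∑ c ∈ S, κ c * σ c x = 0 := by
    intro x
    by_cases hx : x = 0
    · simp [hx]
    obtain ⟨a, ha, hpa⟩ := exists_par hM hB hF hno x
    have := key a ha (by rw [hpa]; exact hx)
    rw [hcon a, toAdd_one, hpa] at this
    exact this.symm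
  have h1 : ((1 : stab M v) : stab M v ⧸ A) ∈ S := by
    rw [hSmem]
    intro c
    refine ⟨c, ?_⟩
    obtain ⟨u, hu⟩ := QuotientGroup.mk_out_eq_mul A (1 : stab M v)
    rw [hu, one_mul]
    exact u.2 c
  exact ((hd _ ((hSmem _).1 h1)).1) (aut_indep S σ hinj κ hall _ h1)

/-- A conjugate of the fixer preserving the line lies in the fixer. -/
theorem conj_fixer_absurd {n : stab M v} (hall : ∀ a ∈ fixer K M v, InLine K M v (n * a * n⁻¹))
    {a₀ : stab M v} (ha₀ : a₀ ∈ fixer K M v) (hl : InLine K M v (n * a₀ * n⁻¹))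
    (hna : n * a₀ * n⁻¹ ∉ fixer K M v) : False := by
  classical
  have hG := hM.geo
  have hv0 := Frame.ne hG hB hF
  haveI : FiniteDimensional F K := Module.Finite.of_finite
  set g := n * a₀ * n⁻¹ with hg
  obtain ⟨σ, κ, hκ, hσv, -, hconj⟩ := exists_data hM hB hF hno hl
  have hσ1 : σ ≠ 1 := fun h => hna fun c => by rw [hσv, h]; rfl
  have hord : orderOf σ = finrank F K := by
    rcases (Nat.dvd_prime hG.prime).1 (show orderOf σ ∣ finrank F K by
      rw [← IsGalois.card_aut_eq_finrank F K]; exact orderOf_dvd_natCard σ) with h | h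
    · exact absurd (orderOf_eq_one_iff.1 h) hσ1
    · exact h
  have hit : ∀ (i : ℕ) (c : K), (g ^ i).1.1 (c • v) = (σ ^ i) c • v := fun i => by
    induction i with
    | zero => intro c; rfl
    | succ i ih =>
      intro c
      rw [pow_succ', pow_succ', show (g * g ^ i).1.1 (c • v) = g.1.1 ((g ^ i).1.1 (c • v)) from rfl, ih, hσv]
      rfl
  have hcomm : ∀ a ∈ fixer K M v, ∀ a' ∈ fixer K M v, a * a' = a' * a := fun a ha a' ha' =>
    mul_inv_eq_one.1 (par_eq_zero hM hB hF hno (mul_mem (mul_mem ha ha') (inv_mem (mul_mem ha' ha))) (by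
      have h1 := par_mul hM hB hF hno (mul_mem (mul_mem ha ha') (inv_mem (mul_mem ha' ha))) (mul_mem ha' ha)
      rw [inv_mul_cancel_right, par_mul hM hB hF hno ha ha', par_mul hM hB hF hno ha' ha] at h1
      linear_combination -h1))
  choose α hα hpα using fun x => exists_par hM hB hF hno x
  have hex : ∀ x, ∃ i : Fin (finrank F K), (n * (α x * (a₀ ^ (i : ℕ))⁻¹) * n⁻¹ ∈ fixer K M v) := by
    intro x
    obtain ⟨σx, -, -, hσx, -, -⟩ := exists_data hM hB hF hno (hall _ (hα x))
    have hmem : σx ∈ Subgroup.zpowers σ := by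
      haveI := Fact.mk hG.prime
      exact mem_zpowers_of_prime_card (IsGalois.card_aut_eq_finrank F K) hσ1
    obtain ⟨i, hi, hi'⟩ := Finset.mem_image.1 (mem_zpowers_iff_mem_range_orderOf.1 hmem)
    rw [hord, Finset.mem_range] at hi
    refine ⟨⟨i, hi⟩, fun c => ?_⟩
    obtain ⟨c', rfl⟩ := (σ ^ i).surjective c
    rw [show n * (α x * (a₀ ^ i)⁻¹) * n⁻¹ = (n * α x * n⁻¹) * (g ^ i)⁻¹ by rw [hg, conj_pow]; group]
    show (n * α x * n⁻¹).1.1 ((g ^ i)⁻¹.1.1 ((σ ^ i) c' • v)) = (σ ^ i) c' • v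
    rw [← hit i c', show (g ^ i)⁻¹.1.1 ((g ^ i).1.1 (c' • v)) = c' • v from inv_app _ _, hσx, hit i c', ← hi']
  choose i hi using hex
  let L : Submodule F K := LinearMap.ker (κ • σ.toLinearMap - LinearMap.id)
  have hL : ∀ {P}, P ∈ L ↔ κ * σ P = P := fun {P} => by
    simp [L, sub_eq_zero]
  have hmemL : ∀ x, par B v' w (n * (α x * (a₀ ^ (i x : ℕ))⁻¹) * n⁻¹) ∈ L := fun x => by
    rw [hL, ← (hconj _ (hi x)).2]
    congr 1
    rw [hg, show n * a₀ * n⁻¹ * (n * (α x * (a₀ ^ (i x : ℕ))⁻¹) * n⁻¹) * (n * a₀ * n⁻¹)⁻¹ =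
      n * (a₀ * (α x * (a₀ ^ (i x : ℕ))⁻¹) * a₀⁻¹) * n⁻¹ by group,
      hcomm a₀ ha₀ _ (mul_mem (hα x) (inv_mem (pow_mem ha₀ _))), mul_inv_cancel_right]
  have hLd : finrank F L ≤ 1 := by
    by_cases h : L = ⊥
    · rw [h, finrank_bot]; exact Nat.zero_le 1
    obtain ⟨P₀, hP₀, hP₀0⟩ := (Submodule.ne_bot_iff L).1 h
    have hle : L ≤ F ∙ P₀ := fun P hP => by
      rw [hL] at hP hP₀
      have hfix : ∀ τ' : Gal(K/F), τ' (P / P₀) = P / P₀ := by
        intro τ'
        haveI := Fact.mk hG.prime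
        obtain ⟨j, -, rfl⟩ := Finset.mem_image.1 (mem_zpowers_iff_mem_range_orderOf.1
          (mem_zpowers_of_prime_card (IsGalois.card_aut_eq_finrank F K) hσ1 : τ' ∈ Subgroup.zpowers σ))
        have h1 : σ (P / P₀) = P / P₀ := by
          rw [map_div₀]
          conv_rhs => rw [← hP, ← hP₀, mul_div_mul_left _ _ hκ]
        induction j with
        | zero => rfl
        | succ j ih => rw [pow_succ, AlgEquiv.mul_apply, h1, ih]
      obtain ⟨s, hs⟩ := (IsGalois.mem_range_algebraMap_iff_fixed (P / P₀)).2 hfix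
      exact Submodule.mem_span_singleton.2 ⟨s, by rw [Algebra.smul_def, hs, div_mul_cancel₀ _ hP₀0]⟩
    exact (Submodule.finrank_mono hle).trans (le_of_eq (finrank_span_singleton hP₀0))
  let f : K → Fin (finrank F K) × L := fun x => (i x, ⟨_, hmemL x⟩)
  have hf : Function.Injective f := fun x x' h => by
    simp only [f, Prod.mk.injEq, Subtype.mk.injEq] at h
    have he := par_eq_zero hM hB hF hno (mul_mem (hi x) (inv_mem (hi x'))) (by
      have h1 := par_mul hM hB hF hno (mul_mem (hi x) (inv_mem (hi x'))) (hi x')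
      rw [inv_mul_cancel_right, h.2] at h1
      linear_combination -h1)
    rw [mul_inv_eq_one, h.1, mul_left_inj, mul_right_inj, mul_left_inj] at he
    rw [← hpα x, ← hpα x', he]
  haveI : Fintype L := Fintype.ofFinite L
  have hc := Fintype.card_le_of_injective f hf
  rw [Fintype.card_prod, Fintype.card_fin, Module.card_eq_pow_finrank (K := F) (V := K),
    Module.card_eq_pow_finrank (K := F) (V := L)] at hc
  have hq : 3 ≤ Fintype.card F := by
    have := FiniteField.odd_card_of_char_ne_two (F := F) (fun h => hG.two (by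
      have := ringChar.Nat.cast_ringChar (R := F)
      rw [h] at this
      simpa using this))
    have := Fintype.one_lt_card (α := F)
    omega
  have hr := hG.three
  obtain ⟨t, ht⟩ : ∃ t, finrank F K = t + 1 := ⟨finrank F K - 1, by omega⟩
  have h1 := Nat.pow_le_pow_right (show 1 ≤ Fintype.card F by omega) hLd
  have h3 : t + 2 ≤ 3 ^ t := by
    have : ∀ t : ℕ, 1 ≤ t → t + 2 ≤ 3 ^ t := fun t ht => by
      induction t, ht using Nat.le_induction with
      | base => norm_num
      | succ m _ ih => rw [pow_succ]; omega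
    exact this t (by omega)
  rw [ht, pow_succ] at hc
  have h4 := Nat.pow_le_pow_left hq t
  nlinarith

/-- A p-element of the stabiliser is conjugate to one preserving the line. -/
theorem exists_conj_inLine {p : ℕ} [Fact p.Prime] [CharP K p] {y : stab M v} {k : ℕ} (hy : y ^ p ^ k = 1) :
    ∃ t : stab M v, InLine K M v (t * y * t⁻¹) := by
  classical
  have hv0 := Frame.ne hM.geo hB hF
  haveI : Finite V := Module.finite_of_finite K
  haveI : Finite (V ≃ₗ[F] V) := Finite.of_injective _ DFunLike.coe_injective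
  have hA : IsPGroup p (fixer K M v) := fun a => ⟨1, Subtype.ext (by
    rw [pow_one]
    exact fixer_pow hM hB hF hno a.2)⟩
  obtain ⟨S, hS⟩ := hA.exists_le_sylow
  let Hs : Subgroup (stab M v) :=
    { carrier := {k | InLine K M v k}
      one_mem' := fun c => ⟨c, rfl⟩
      mul_mem' := fun ha hb => inLine_mul ha hb
      inv_mem' := fun ha => inLine_inv hv0 ha }
  have hAH : fixer K M v ≤ Hs := fun a ha c => ⟨c, ha c⟩
  obtain ⟨a, ha, hpa⟩ := exists_par hM hB hF hno 1
  have hSH : (S : Subgroup (stab M v)) ≤ Hs := by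
    rw [← Subgroup.subgroupOf_eq_top]
    by_contra hne
    haveI : Group.IsNilpotent S := S.2.isNilpotent
    obtain ⟨n, hn, hnT⟩ := SetLike.exists_of_lt
      (normalizerCondition_of_isNilpotent _ (lt_top_iff_ne_top.2 hne))
    apply hnT
    have h := ((Subgroup.mem_normalizer_iff.1 hn) ⟨a, hS ha⟩).1 (hAH ha)
    have hb : n.1 * a * n.1⁻¹ ∈ fixer K M v := by
      by_contra hna
      refine conj_fixer_absurd hM hB hF hno (n := n.1) (fun a' ha' => ?_) ha h hna
      exact ((Subgroup.mem_normalizer_iff.1 hn) ⟨a', hS ha'⟩).1 (hAH ha')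
    have hinl := inLine_of_conj hM hB hF hno (g := n.1⁻¹) ha (by rw [hpa]; exact one_ne_zero) (by rwa [inv_inv])
    show InLine K M v n.1
    rw [← inv_inv n.1]
    exact inLine_inv hv0 hinl
  have hP : IsPGroup p (Subgroup.zpowers y) := by
    rintro ⟨g, hg⟩
    obtain ⟨i, rfl⟩ := Subgroup.mem_zpowers_iff.1 hg
    refine ⟨k, Subtype.ext ?_⟩
    show (y ^ i) ^ p ^ k = 1
    rw [← zpow_natCast, ← zpow_mul, mul_comm, zpow_mul, zpow_natCast, hy, one_zpow]
  obtain ⟨S', hS'⟩ := hP.exists_le_sylow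
  obtain ⟨t, rfl⟩ := MulAction.exists_smul_eq (stab M v) S S'
  refine ⟨t⁻¹, hSH ?_⟩
  have h := hS' (Subgroup.mem_zpowers y)
  rw [Sylow.coe_subgroup_smul, Subgroup.mem_pointwise_smul_iff_inv_smul_mem] at h
  simpa [MulAut.conj_inv_apply, MulAut.smul_def] using h

end

/-- Every singular vector carries a root element. -/
theorem exists_root (hM : Hyp K Q M) {τ : K →ₗ[F] F} {B : V →ₗ[K] V →ₗ[K] K} (hB : Lifts Q τ B) {u : V}
    (hu : B u u = 0) (hu0 : u ≠ 0) : Root M τ B u := by
  classical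
  by_contra hcon
  have hG := hM.geo
  obtain ⟨g, hg, v, hv0, hv, hz⟩ := exists_aniso_image hM hB
  obtain ⟨v', w, hF⟩ := exists_frame hG hB hv hv0
  have hno : ¬ Root M τ B v := fun hR => by
    obtain ⟨h, hh, t, ht, he, hl⟩ := exists_transitive hM hB hv hu hv0 hu0
    exact hcon (root_map hM hB hF ht hh hl he hR)
  set z := g.1 v with hzv
  obtain ⟨ℓ, ρ, hρ⟩ := exists_elt hM hB hz
  haveI : Finite V := Module.finite_of_finite K
  haveI : Finite (V ≃ₗ[F] V) := Finite.of_injective _ DFunLike.coe_injective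
  haveI : Fact ℓ.Prime := ⟨hρ.prime⟩
  obtain ⟨p, hpF⟩ := CharP.exists F
  haveI := hpF
  haveI : Fact p.Prime := ⟨CharP.char_is_prime F p⟩
  haveI : CharP K p := (Algebra.charP_iff F K p).1 inferInstance
  obtain ⟨Θ, ⟨a, ha⟩, hΘ⟩ := transfer_facts hM hB hF hno (p := p)
  let ρ₁ : stab M v := ⟨g⁻¹ * ρ * g, mul_mem (mul_mem (inv_mem hg) hρ.mem) hg, by
    rw [mul_app, mul_app, ← hzv, hρ.fix, hzv, inv_app]⟩
  let toY : stab M v →* orth Q := (MulAut.conj g).toMonoidHom.comp (stab M v).subtype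
  have hY : ∀ x : stab M v, toY x = g * x.1 * g⁻¹ := fun x => rfl
  have hYinj : Function.Injective toY := fun x x' h => Subtype.ext ((MulAut.conj g).injective h)
  have hYρ : toY ρ₁ = ρ := by rw [hY]; show g * (g⁻¹ * ρ * g) * g⁻¹ = ρ; group
  have hYz : ∀ x : stab M v, (toY x).1 z = z := fun x => by
    rw [hY, mul_app, mul_app, hzv, inv_app, x.2.2]
  have hρ₁ : ρ₁ ^ ℓ = 1 := hYinj (by rw [map_pow, hYρ, hρ.pow, map_one])
  have hρ₁1 : ρ₁ ≠ 1 := fun h => rho_ne hM hB hz hρ hρ.prime.not_dvd_one (by rw [pow_one, ← hYρ, h, map_one])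
  have hord : orderOf ρ₁ = ℓ := orderOf_eq_prime hρ₁ hρ₁1
  have hρN : ρ₁ ∈ Θ.ker := by
    rw [MonoidHom.mem_ker]
    have h := congrArg Multiplicative.toAdd (show Θ ρ₁ ^ ℓ = 1 by rw [← map_pow, hρ₁, map_one])
    rw [toAdd_pow, toAdd_one, nsmul_eq_mul, mul_eq_zero] at h
    exact Multiplicative.toAdd.injective (by rw [toAdd_one]; exact h.resolve_left hρ.cast)
  have hzp : IsPGroup ℓ (Subgroup.zpowers (⟨ρ₁, hρN⟩ : Θ.ker)) := IsPGroup.of_card (n := 1) (by
    rw [Nat.card_zpowers, pow_one, ← hord]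
    exact (Subgroup.orderOf_coe _).symm)
  obtain ⟨L, hL⟩ := hzp.exists_le_sylow
  set L' := L.map Θ.ker.subtype with hL'
  have hρL : ρ₁ ∈ L' := ⟨⟨ρ₁, hρN⟩, hL (Subgroup.mem_zpowers _), rfl⟩
  have hL'p : IsPGroup ℓ L' := L.2.map _
  -- the rotation generates the only subgroup of order ℓ of `L'`
  have hcomm : ∀ x : stab M v, x * ρ₁ = ρ₁ * x → x ^ ℓ = 1 → ∃ i : ℕ, x = ρ₁ ^ i := fun x hx hxl => by
    obtain ⟨i, hi⟩ := eq_pow_of_comm hM hB hz hρ (hYz x)
      (by rw [← hYρ, ← map_mul, ← map_mul, hx]) (by rw [← map_pow, hxl, map_one])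
    exact ⟨i, hYinj (by rw [hi, map_pow, hYρ])⟩
  have huniq : ∀ x ∈ L', x ^ ℓ = 1 → ∃ i : ℕ, x = ρ₁ ^ i := by
    haveI : Nontrivial L' := ⟨⟨⟨ρ₁, hρL⟩, 1, fun h => hρ₁1 (congrArg Subtype.val h)⟩⟩
    haveI := hL'p.center_nontrivial
    obtain ⟨n, hn⟩ := (hL'p.to_subgroup (Subgroup.center L')).exists_card_eq
    have hdvd : ℓ ∣ Nat.card (Subgroup.center L') := by
      rw [hn]
      refine dvd_pow_self ℓ fun h0 => ?_
      rw [h0, pow_zero] at hn
      exact absurd hn (ne_of_gt (Finite.one_lt_card_iff_nontrivial.2 inferInstance))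
    obtain ⟨c, hc⟩ := exists_prime_orderOf_dvd_card' ℓ hdvd
    set c₁ : stab M v := c.1.1 with hc₁
    have hoc : orderOf c₁ = ℓ := by rw [hc₁, Subgroup.orderOf_coe, Subgroup.orderOf_coe, hc]
    have hcen : ∀ x ∈ L', x * c₁ = c₁ * x := fun x hx =>
      congrArg Subtype.val (Subgroup.mem_center_iff.1 c.2 ⟨x, hx⟩)
    obtain ⟨i, hi⟩ := hcomm c₁ (hcen ρ₁ hρL).symm (by rw [← hoc]; exact pow_orderOf_eq_one c₁)
    have heq : Subgroup.zpowers c₁ = Subgroup.zpowers ρ₁ := Subgroup.eq_of_le_of_card_ge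
      (Subgroup.zpowers_le.2 (hi ▸ pow_mem (Subgroup.mem_zpowers ρ₁) i))
      (by rw [Nat.card_zpowers, Nat.card_zpowers, hoc, hord])
    intro x hx hxl
    refine hcomm x ?_ hxl
    obtain ⟨j, hj⟩ := Subgroup.mem_zpowers_iff.1 (show ρ₁ ∈ Subgroup.zpowers c₁ from heq ▸ Subgroup.mem_zpowers ρ₁)
    rw [← hj]
    exact ((show Commute x c₁ from hcen x hx).zpow_right j).eq
  -- the Frattini argument
  have hsup := Sylow.normalizer_sup_eq_top L
  obtain ⟨n, hn, m, hm, hnm⟩ := Subgroup.mem_sup_of_normal_right.1 (hsup ▸ Subgroup.mem_top a :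
    a ∈ Subgroup.normalizer (L' : Subgroup (stab M v)) ⊔ Θ.ker)
  have hΘn : Θ n ≠ 1 := by
    rw [← hnm, map_mul, MonoidHom.mem_ker.1 hm, mul_one] at ha
    exact ha
  obtain ⟨j, hj⟩ := huniq _ ((Subgroup.mem_normalizer_iff.1 hn ρ₁).1 hρL)
    (by rw [conj_pow, hρ₁, mul_one, mul_inv_cancel])
  obtain ⟨k, m', hm', hmo⟩ := Nat.exists_eq_pow_mul_and_not_dvd (orderOf_pos n).ne' p (Fact.out : p.Prime).ne_one
  set y := n ^ m' with hy
  have hyp : y ^ p ^ k = 1 := by rw [hy, ← pow_mul, mul_comm, ← hmo, pow_orderOf_eq_one]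
  have hΘy : Θ y ≠ 1 := by
    intro h
    have h' := congrArg Multiplicative.toAdd h
    rw [hy, map_pow, toAdd_pow, toAdd_one, nsmul_eq_mul, mul_eq_zero] at h'
    rcases h' with h' | h'
    · exact hm' ((CharP.cast_eq_zero_iff K p m').1 h')
    · exact hΘn (Multiplicative.toAdd.injective (by rw [toAdd_one]; exact h'))
  have hsc : ∀ i : ℕ, SemiconjBy (n ^ i) ρ₁ (ρ₁ ^ (j ^ i)) := by
    intro i
    induction i with
    | zero => rw [pow_zero, pow_zero, pow_one]; exact SemiconjBy.one_left ρ₁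
    | succ i ih =>
      have hn1 : SemiconjBy n ρ₁ (ρ₁ ^ j) := (eq_mul_inv_iff_mul_eq.1 hj.symm).symm
      rw [pow_succ' n, pow_succ' j, pow_mul]
      exact (hn1.pow_right (j ^ i)).mul_left ih
  have hY2 : toY y * ρ = ρ ^ (j ^ m') * toY y := by
    rw [← hYρ, ← map_pow, ← map_mul, ← map_mul]
    exact congrArg toY (hsc m')
  obtain ⟨t, ht⟩ := exists_conj_inLine hM hB hF hno hyp
  set h := t * y * t⁻¹ with hh
  have hΘh : Θ h ≠ 1 := by
    rwa [hh, map_mul, map_mul, map_inv, mul_inv_cancel_comm]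
  have hback : h.1 = (t.1 * g⁻¹) * toY y * (t.1 * g⁻¹)⁻¹ := by
    rw [hY]; show t.1 * y.1 * t.1⁻¹ = _; group
  rcases normalizer_cases hM hB hz hρ (hYz y) hY2 (by rw [← map_pow, hyp, map_one]) with hs | hs
  · exact hΘh (by rw [not_small hM hB hF hno ht (hback ▸ small_conj (t.1 * g⁻¹) hs), map_one])
  · obtain ⟨hs, σ, hσ1, hrp, hP, hσ, hKz⟩ := hs
    have hpow : (h ^ p).1 = (t.1 * g⁻¹) * toY y ^ p * (t.1 * g⁻¹)⁻¹ := by
      rw [← conj_pow, ← hback]; rfl
    have hl : InLine K M v (h ^ p) := by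
      have : ∀ i : ℕ, InLine K M v (h ^ i) := fun i => by
        induction i with
        | zero => exact fun c => ⟨c, rfl⟩
        | succ i ih => rw [pow_succ]; exact inLine_mul ih ht
      exact this p
    have hhp : h ^ p = 1 := not_small hM hB hF hno hl (hpow ▸ small_conj (t.1 * g⁻¹) hs)
    obtain ⟨c, hc⟩ : ∃ c, c⁻¹ * h * c ∈ fixer K M v := by
      by_contra hne
      push Not at hne
      exact hΘh (hΘ h hhp hne)
    set a' := c⁻¹ * h * c with ha'
    have ha0 : par B v' w a' ≠ 0 := fun h0 => by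
      have h1 := par_eq_zero hM hB hF hno hc h0
      have h2 : h = 1 := by
        rw [show h = c * a' * c⁻¹ by rw [ha']; group, h1]; group
      exact hΘh (by rw [h2, map_one])
    have hnoall : ∀ x, B x x = 0 → x ≠ 0 → ¬ Root M τ B x := fun x hx hx0 hR => by
      obtain ⟨v'', w'', hFx⟩ := exists_frame hG hB hx hx0
      obtain ⟨h', hh', t', ht', he, hl'⟩ := exists_transitive hM hB hx hu hx0 hu0
      exact hcon (root_map hM hB hFx ht' hh' hl' he hR)
    have hyp1 : toY y ^ p = 1 := by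
      have : (h ^ p).1 = 1 := by rw [hhp]; rfl
      rw [hpow] at this
      exact conj_eq_one_iff.1 this
    refine semi_absurd hM hB hnoall hz hρ hv (a := a'.1) (d := g * (t⁻¹ * c).1) ?_ (mul_mem hg (t⁻¹ * c).2.1) ?_
      (fun c' => hc c') (fun x hx => ⟨_, mem_line hM hB hF hno hc ha0 hx⟩) ?_ hyp1 hσ1 hrp hP hσ hKz
    · rw [hY]; exact mul_mem (mul_mem hg y.2.1) (inv_mem hg)
    · rw [mul_app, (t⁻¹ * c).2.2]
    · rw [hY, ha', hh]
      show g * y.1 * g⁻¹ * (g * (t.1⁻¹ * c.1)) = g * (t.1⁻¹ * c.1) * (c.1⁻¹ * (t.1 * y.1 * t.1⁻¹) * c.1)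
      group

end Cfsg.Agent.ExtFieldThree10
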