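import Mathlib
import Cfsg.Agent.Lib.ExtFieldThree10Root

/-!
The root group of a singular vector: it is an F-space and its values at any parameter fill the whole
orthogonal hyperplane of that parameter.
-/

set_option autoImplicit false
set_option linter.unusedSectionVars false
set_option linter.style.haveILetI false
set_option maxHeartbeats 800000

namespace Cfsg.Agent.ExtFieldThree10

open QuadraticMap Module
open Cfsg.Agent.OrthUnitaryQuad Cfsg.Agent.OrthUnitaryRefl

open Polynomial in
/-- A square with exactly one of its two neighbours a square. -/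
theorem exists_square_sep {K : Type*} [Field K] [Fintype K] (h2 : (2 : K) ≠ 0) (hbig : 27 ≤ Fintype.card K) :
    ∃ t : K, IsSquare t ∧ t + 1 ≠ 0 ∧ t - 1 ≠ 0 ∧ ¬ (IsSquare (t + 1) ↔ IsSquare (t - 1)) := by
  classical
  have hchar : ringChar K ≠ 2 := fun h => h2 (by
    have := ringChar.Nat.cast_ringChar (R := K)
    rw [h] at this
    simpa using this)
  set Qc := Fintype.card K with hQc
  set h := Qc / 2 with hh
  have hQh : Qc = 2 * h + 1 := by
    have := FiniteField.odd_card_of_char_ne_two hchar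
    omega
  by_contra hcon
  push Not at hcon
  have hsq : ∀ {a : K}, a ≠ 0 → (IsSquare a ↔ a ^ h = 1) := fun {a} ha => FiniteField.isSquare_iff hchar ha
  let D : K[X] := (X + C 1) ^ h - (X + C (-1)) ^ h
  let P : K[X] := D * X ^ (h + 3) - D * X ^ (h + 1) + (D * X ^ 3 - D * X ^ 1)
  have hD : D.natDegree ≤ h := by simp only [D]; compute_degree
  have hPd : P.natDegree ≤ Qc + 2 := by
    simp only [P]
    have h1 := hQh
    refine (natDegree_add_le _ _).trans (max_le ((natDegree_sub_le _ _).trans (max_le ?_ ?_))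
      ((natDegree_sub_le _ _).trans (max_le ?_ ?_))) <;>
      refine natDegree_mul_le.trans ?_ <;> rw [natDegree_X_pow] <;> omega
  have hPtop : P.coeff (Qc + 2) = 0 := by
    have hDh : D.coeff h = 0 := by simp [D, coeff_X_add_C_pow, -map_one, -map_neg]
    have hDz : ∀ k, h < k → D.coeff k = 0 := fun k hk => coeff_eq_zero_of_natDegree_lt (by omega)
    simp only [P, coeff_add, coeff_sub, coeff_mul_X_pow', if_pos (show h + 3 ≤ Qc + 2 by omega),
      if_pos (show h + 1 ≤ Qc + 2 by omega), if_pos (show 3 ≤ Qc + 2 by omega), if_pos (show 1 ≤ Qc + 2 by omega),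
      show Qc + 2 - (h + 3) = h by omega, hDh, hDz (Qc + 2 - (h + 1)) (by omega), hDz (Qc + 2 - 3) (by omega),
      hDz (Qc + 2 - 1) (by omega), sub_zero, add_zero]
  have heval : ∀ a : K, P.eval a = 0 := by
    intro a
    have e : P.eval a = ((a + 1) ^ h - (a - 1) ^ h) * ((a ^ h + 1) * (a ^ 3 - a)) := by
      simp [P, D, pow_add, sub_eq_add_neg]
      ring
    rw [e]
    by_cases ha : a = 0
    · simp [ha, zero_pow (show h ≠ 0 by omega)]
    by_cases ha1 : a + 1 = 0
    · rw [show a ^ 3 - a = (a + 1) * (a * (a - 1)) by ring, ha1]; simp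
    by_cases ha2 : a - 1 = 0
    · rw [show a ^ 3 - a = (a - 1) * (a * (a + 1)) by ring, ha2]; simp
    rcases FiniteField.pow_dichotomy hchar ha with hs | hs
    · have hiff := hcon a ((hsq ha).2 hs) ha1 ha2
      rw [hsq ha1, hsq ha2] at hiff
      rcases FiniteField.pow_dichotomy hchar ha1 with h1 | h1 <;>
        rcases FiniteField.pow_dichotomy hchar ha2 with h3 | h3 <;> rw [← hQc, ← hh] at h1 h3 <;> rw [h1, h3]
      · simp
      · exfalso; exact h2 (by linear_combination (hiff.1 h1).symm.trans h3)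
      · exfalso; exact h2 (by linear_combination (hiff.2 h3).symm.trans h1)
      · simp
    · rw [← hQc, ← hh] at hs; rw [hs]; simp
  let a₁ := P.coeff (Qc + 1)
  let a₀ := P.coeff Qc
  let T : K[X] := P - C a₁ * (X ^ (Qc + 1) - X ^ 2) - C a₀ * (X ^ Qc - X ^ 1)
  have hT : T = 0 := by
    refine eq_zero_of_natDegree_lt_card_of_eval_eq_zero T Function.injective_id (fun a => ?_) ?_
    · simp [T, heval, pow_succ, FiniteField.pow_card, hQc]
    · have hle : ∀ m, Qc ≤ m → T.coeff m = 0 := by
        intro m hm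
        rcases Nat.lt_trichotomy m (Qc + 1) with hm' | hm' | hm'
        · obtain rfl : m = Qc := by omega
          simp [T, a₀, coeff_X_pow, coeff_X, show Qc ≠ 2 by omega, show (1 : ℕ) ≠ Qc by omega]
        · subst hm'
          simp [T, a₁, coeff_X_pow, coeff_X, show Qc + 1 ≠ 2 by omega, show (1 : ℕ) ≠ Qc + 1 by omega,
            show Qc ≠ 0 by omega]
        · have : P.coeff m = 0 := by
            rcases Nat.lt_or_ge m (Qc + 3) with h' | h'
            · obtain rfl : m = Qc + 2 := by omega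
              exact hPtop
            · exact coeff_eq_zero_of_natDegree_lt (by omega)
          simp [T, this, coeff_X_pow, coeff_X, show m ≠ 2 by omega, show (1 : ℕ) ≠ m by omega,
            show m ≠ Qc + 1 by omega, show m ≠ Qc by omega]
      rcases eq_or_ne T 0 with h0 | h0
      · rw [h0, natDegree_zero]; exact Fintype.card_pos
      · by_contra hge
        exact leadingCoeff_ne_zero.2 h0 (hle _ (by simpa [hQc] using hge))
  have hcoef : ∀ m, 2 < m → m < Qc → P.coeff m = 0 := by
    intro m hm hm'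
    have := congrArg (fun R : K[X] => R.coeff m) hT
    simpa [T, coeff_X_pow, coeff_X, show m ≠ 2 by omega, show (1 : ℕ) ≠ m by omega, show m ≠ Qc + 1 by omega,
      show m ≠ Qc by omega] using this
  have hDj : ∀ j, Odd j → j ≤ h → D.coeff (h - j) = 2 * (h.choose j : K) := by
    intro j hj hjh
    simp only [D, coeff_sub, coeff_X_add_C_pow, one_pow, show h - (h - j) = j by omega, hj.neg_one_pow,
      Nat.choose_symm hjh]
    ring
  have hD0 : ∀ k, h < k → D.coeff k = 0 := fun k hk => coeff_eq_zero_of_natDegree_lt (by omega)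
  have e1 := hcoef (2 * h) (by omega) (by omega)
  have e2 := hcoef (2 * h - 2) (by omega) (by omega)
  simp only [P, coeff_add, coeff_sub, coeff_mul_X_pow', if_pos (show h + 3 ≤ 2 * h by omega),
    if_pos (show h + 1 ≤ 2 * h by omega), if_pos (show 3 ≤ 2 * h by omega), if_pos (show 1 ≤ 2 * h by omega),
    hD0 (2 * h - 3) (by omega), hD0 (2 * h - 1) (by omega), sub_zero, add_zero,
    show 2 * h - (h + 3) = h - 3 by omega, show 2 * h - (h + 1) = h - 1 by omega,
    hDj 3 (by decide) (by omega), hDj 1 (by decide) (by omega), Nat.choose_one_right] at e1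
  simp only [P, coeff_add, coeff_sub, coeff_mul_X_pow', if_pos (show h + 3 ≤ 2 * h - 2 by omega),
    if_pos (show h + 1 ≤ 2 * h - 2 by omega), if_pos (show 3 ≤ 2 * h - 2 by omega),
    if_pos (show 1 ≤ 2 * h - 2 by omega),
    hD0 (2 * h - 2 - 3) (by omega), hD0 (2 * h - 2 - 1) (by omega), sub_zero, add_zero,
    show 2 * h - 2 - (h + 3) = h - 5 by omega, show 2 * h - 2 - (h + 1) = h - 3 by omega,
    hDj 3 (by decide) (by omega), hDj 5 (by decide) (by omega)] at e2
  have hQ0 : (Qc : K) = 0 := FiniteField.cast_card_eq_zero K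
  have hhK : (2 : K) * h + 1 = 0 := by rw [← hQ0, hQh]; push_cast; ring
  by_cases h3 : (3 : K) = 0
  · obtain ⟨p, hp⟩ := CharP.exists K
    haveI := hp
    have hpp : p.Prime := CharP.char_is_prime K p
    obtain rfl : p = 3 := (Nat.prime_dvd_prime_iff_eq hpp Nat.prime_three).1
      ((CharP.cast_eq_zero_iff K p 3).1 (by exact_mod_cast h3))
    haveI : Fact (Nat.Prime 3) := ⟨Nat.prime_three⟩
    obtain ⟨n, -, hn⟩ := FiniteField.card K 3
    rw [← hQc] at hn
    have hn3 : 3 ≤ (n : ℕ) := by
      by_contra hlt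
      have : 3 ^ (n : ℕ) ≤ 3 ^ 2 := Nat.pow_le_pow_right (by norm_num) (by omega)
      omega
    have h9 : 9 ∣ Qc := hn ▸ (pow_dvd_pow 3 (show 2 ≤ (n : ℕ) by omega))
    have hm : h % 3 = 1 ∧ h / 3 % 3 = 1 := by omega
    have c3 : (h.choose 3 : K) = 1 := by
      rw [← Nat.cast_one, CharP.natCast_eq_natCast K 3]
      refine (Choose.choose_modEq_choose_mod_mul_choose_div_nat (p := 3)).trans ?_
      rw [hm.1, show (3 : ℕ) % 3 = 0 from rfl, show (3 : ℕ) / 3 = 1 from rfl, Nat.choose_zero_right, one_mul,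
        Nat.choose_one_right]
      exact hm.2
    have c5 : (h.choose 5 : K) = 0 := by
      rw [← Nat.cast_zero, CharP.natCast_eq_natCast K 3]
      refine (Choose.choose_modEq_choose_mod_mul_choose_div_nat (p := 3)).trans ?_
      rw [hm.1, show (5 : ℕ) % 3 = 2 from rfl, show Nat.choose 1 2 = 0 from rfl, zero_mul]
    rw [c3, c5] at e2
    exact h2 (by linear_combination -e2)
  · have h6 : ((h.choose 3 : ℕ) : K) * 6 = (h : K) * ((h : K) - 1) * ((h : K) - 2) := by
      have e := Nat.descFactorial_eq_factorial_mul_choose h 3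
      simp only [Nat.descFactorial_succ, Nat.descFactorial_zero, Nat.sub_zero, mul_one, Nat.factorial] at e
      have e' := congrArg (fun m : ℕ => (m : K)) e
      simp only [Nat.cast_mul, Nat.cast_sub (show 1 ≤ h by omega), Nat.cast_sub (show 2 ≤ h by omega)] at e'
      push_cast at e'
      linear_combination -e'
    have h9 : (2 : K) * 9 = 0 := by
      linear_combination 48 * e1 - 16 * h6 - 2 * ((2 * (h : K) + 1) ^ 2 - 9 * (2 * (h : K) + 1) - 1) * hhK
    have : (2 : K) * (3 * 3) = 0 := by linear_combination h9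
    simp [h2, h3] at this

variable {F K V : Type*} [Field F] [Fintype F] [Field K] [Fintype K] [Algebra F K]
  [AddCommGroup V] [Module F V] [Module K V] [IsScalarTower F K V] [FiniteDimensional K V]

variable {Q : QuadraticForm F V} {M : Subgroup (orth Q)}

/-- The root group of `v`, as a set of parameters. -/
def Psi (M : Subgroup (orth Q)) (B : V →ₗ[K] V →ₗ[K] K) (v : V) : Set (K →ₗ[F] K) :=
  {ψ | ∃ C ∈ M, ∀ x, C.1 x = x + ψ (B x v) • v}

/-- The twist of a parameter by `x`. -/
def twist (x : K) (ψ : K →ₗ[F] K) : K →ₗ[F] K :=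
  (LinearMap.mulLeft F x).comp (ψ.comp (LinearMap.mulLeft F x))

theorem twist_apply (x : K) (ψ : K →ₗ[F] K) (c : K) : twist x ψ c = x * ψ (x * c) := rfl

section
variable {τ : K →ₗ[F] F} {B : V →ₗ[K] V →ₗ[K] K} (hM : Hyp K Q M) (hB : Lifts Q τ B)
variable {v : V} (hv : B v v = 0) (hv0 : v ≠ 0)
include hM hB hv hv0

theorem psi_zero : (0 : K →ₗ[F] K) ∈ Psi M B v := ⟨1, one_mem M, fun x => by simp⟩

theorem psi_add {ψ φ : K →ₗ[F] K} (h : ψ ∈ Psi M B v) (h' : φ ∈ Psi M B v) : ψ + φ ∈ Psi M B v := by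
  obtain ⟨C, hC, hCx⟩ := h
  obtain ⟨D, hD, hDx⟩ := h'
  refine ⟨C * D, mul_mem hC hD, fun x => ?_⟩
  rw [mul_app, hDx, hCx]
  simp [hv, add_smul]
  abel

theorem psi_neg {ψ : K →ₗ[F] K} (h : ψ ∈ Psi M B v) : -ψ ∈ Psi M B v := by
  obtain ⟨C, hC, hCx⟩ := h
  refine ⟨C⁻¹, inv_mem hC, fun x => ?_⟩
  apply C.1.injective
  rw [app_inv, hCx]
  simp [hv]

theorem psi_anti {ψ : K →ₗ[F] K} (h : ψ ∈ Psi M B v) (P R : K) : τ (ψ P * R) + τ (P * ψ R) = 0 := by
  have hG := hM.geo
  obtain ⟨C, hC, hCx⟩ := h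
  obtain ⟨v', w, hF⟩ := exists_frame hG hB hv hv0
  have hpv := Frame.pv hG hB hF
  have h := polar_orth C (P • v') (R • v')
  rw [hCx, hCx] at h
  simp only [f_eq hG hB, map_add, map_smul, LinearMap.add_apply, LinearMap.smul_apply, smul_eq_mul, hF.pp, hF.vv,
    hF.vp, hpv, mul_zero, mul_one, zero_add, add_zero] at h
  rw [mul_comm R, mul_comm (ψ R), map_zero] at h
  exact h

theorem psi_sq {ψ : K →ₗ[F] K} (h : ψ ∈ Psi M B v) {x : K} (hx : IsSquare x) : twist x ψ ∈ Psi M B v := by
  have hG := hM.geo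
  obtain ⟨d, rfl⟩ := hx
  by_cases hd : d = 0
  · convert psi_zero hM hB hv hv0 using 1
    exact LinearMap.ext fun c => by simp [twist, hd]
  obtain ⟨C, hC, hCx⟩ := h
  obtain ⟨v', w, hF⟩ := exists_frame hG hB hv hv0
  obtain ⟨t, ht, htl, htv, -, -⟩ := exists_torus hM hB hF hd
  refine ⟨t * C * t⁻¹, mul_mem (mul_mem ht hC) (inv_mem ht), fun x => ?_⟩
  have e : B (t⁻¹.1 x) v = d * d * B x v := by
    rw [← B_map hG hB htl (t⁻¹.1 x) v, app_inv, htv, map_smul, smul_eq_mul]
  rw [mul_app, mul_app, hCx, map_add, app_inv, htl, htv, smul_smul, e, twist_apply, mul_comm (ψ _)]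

theorem psi_twist {ψ : K →ₗ[F] K} (h : ψ ∈ Psi M B v) (x : K) : twist x ψ ∈ Psi M B v := by
  have hG := hM.geo
  have h2 := two_ne hG hB
  have hbig : 27 ≤ Fintype.card K := by
    rw [Module.card_eq_pow_finrank (K := F)]
    have hq : 3 ≤ Fintype.card F := by
      have := FiniteField.odd_card_of_char_ne_two (F := F) (fun h => hG.two (by
        have := ringChar.Nat.cast_ringChar (R := F)
        rw [h] at this
        simpa using this))
      have := Fintype.one_lt_card (α := F)
      omega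
    calc 27 = 3 ^ 3 := rfl
      _ ≤ Fintype.card F ^ 3 := Nat.pow_le_pow_left hq 3
      _ ≤ _ := Nat.pow_le_pow_right (by omega) (by have := hG.three; omega)
  obtain ⟨t, hts, ht1, ht2, hne⟩ := exists_square_sep h2 hbig
  -- a non-square whose twist is in the group
  obtain ⟨z, hz, hzψ⟩ : ∃ z : K, ¬ IsSquare z ∧ ∀ φ ∈ Psi M B v, twist z φ ∈ Psi M B v := by
    have key : ∀ a b : K, IsSquare a → IsSquare b → IsSquare (a + b) → ∀ φ ∈ Psi M B v,
        twist (a - b) φ ∈ Psi M B v := by
      intro a b ha hb hab φ hφ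
      have e : twist (a - b) φ =
          twist a φ + twist a φ + (twist b φ + twist b φ) + -(twist (a + b) φ) := LinearMap.ext fun c => by
        simp only [LinearMap.add_apply, LinearMap.neg_apply, twist_apply, add_mul, sub_mul, map_add, map_sub]
        ring
      rw [e]
      exact psi_add hM hB hv hv0 (psi_add hM hB hv hv0
        (psi_add hM hB hv hv0 (psi_sq hM hB hv hv0 hφ ha) (psi_sq hM hB hv hv0 hφ ha))
        (psi_add hM hB hv hv0 (psi_sq hM hB hv hv0 hφ hb) (psi_sq hM hB hv hv0 hφ hb)))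
        (psi_neg hM hB hv hv0 (psi_sq hM hB hv hv0 hφ hab))
    by_cases h1 : IsSquare (t + 1)
    · exact ⟨t - 1, fun hs => hne ⟨fun _ => hs, fun _ => h1⟩, key t 1 hts IsSquare.one h1⟩
    · refine ⟨t + 1, h1, fun φ hφ => ?_⟩
      have hs : IsSquare (t - 1) := by
        by_contra hs
        exact hne ⟨fun h => absurd h h1, fun h => absurd h hs⟩
      have e : twist (t + 1) φ =
          twist t φ + twist t φ + (twist 1 φ + twist 1 φ) + -(twist (t - 1) φ) := LinearMap.ext fun c => by
        simp only [LinearMap.add_apply, LinearMap.neg_apply, twist_apply, add_mul, sub_mul, map_add, map_sub]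
        ring
      rw [e]
      exact psi_add hM hB hv hv0 (psi_add hM hB hv hv0
        (psi_add hM hB hv hv0 (psi_sq hM hB hv hv0 hφ hts) (psi_sq hM hB hv hv0 hφ hts))
        (psi_add hM hB hv hv0 (psi_sq hM hB hv hv0 hφ IsSquare.one) (psi_sq hM hB hv hv0 hφ IsSquare.one)))
        (psi_neg hM hB hv hv0 (psi_sq hM hB hv hv0 hφ hs))
  by_cases hx : IsSquare x
  · exact psi_sq hM hB hv hv0 h hx
  · have hzx : IsSquare (x * z⁻¹) := by
      have hz0 : z ≠ 0 := fun h => hz (h ▸ IsSquare.zero)
      have hx0 : x ≠ 0 := fun h => hx (h ▸ IsSquare.zero)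
      have hchar : ringChar K ≠ 2 := fun h => h2 (by
        have := ringChar.Nat.cast_ringChar (R := K)
        rw [h] at this
        simpa using this)
      rw [FiniteField.isSquare_iff hchar (mul_ne_zero hx0 (inv_ne_zero hz0)), mul_pow, inv_pow,
        (FiniteField.pow_dichotomy hchar hx0).resolve_left (fun h => hx ((FiniteField.isSquare_iff hchar hx0).2 h)),
        (FiniteField.pow_dichotomy hchar hz0).resolve_left (fun h => hz ((FiniteField.isSquare_iff hchar hz0).2 h))]
      norm_num
    have hz0 : z ≠ 0 := fun h => hz (h ▸ IsSquare.zero)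
    have e : twist x ψ = twist z (twist (x * z⁻¹) ψ) := LinearMap.ext fun c => by
      simp only [twist_apply]
      rw [← mul_assoc z (x * z⁻¹), show z * (x * z⁻¹) = x by field_simp, ← mul_assoc,
        show x * z⁻¹ * z = x by field_simp]
    rw [e]
    exact hzψ _ (psi_sq hM hB hv hv0 h hzx)

theorem psi_smul {ψ : K →ₗ[F] K} (h : ψ ∈ Psi M B v) (s : F) : s • ψ ∈ Psi M B v := by
  set a := algebraMap F K (s / 2) with ha
  have e : s • ψ = twist (a + 1) ψ + -(twist a ψ) + -(twist 1 ψ) := LinearMap.ext fun c => by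
    simp only [LinearMap.add_apply, LinearMap.neg_apply, LinearMap.smul_apply, twist_apply, add_mul, one_mul,
      map_add]
    rw [show ψ (a * c) = a * ψ c by rw [ha, ← Algebra.smul_def, map_smul, Algebra.smul_def]]
    rw [show a * ψ c = algebraMap F K (s / 2) * ψ c from rfl, Algebra.smul_def,
      show algebraMap F K s = a + a by
        haveI : NeZero (2 : F) := ⟨hM.geo.two⟩
        rw [ha, ← map_add, add_halves]]
    ring
  rw [e]
  exact psi_add hM hB hv hv0 (psi_add hM hB hv hv0 (psi_twist hM hB hv hv0 h _)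
    (psi_neg hM hB hv hv0 (psi_twist hM hB hv hv0 h _))) (psi_neg hM hB hv hv0 (psi_twist hM hB hv hv0 h _))

/-- Root parameters take every admissible value. -/
theorem psi_surj {α c : K} (hα : α ≠ 0) (hc : τ (c * α) = 0) : ∃ ψ ∈ Psi M B v, ψ α = c := by
  classical
  have hG := hM.geo
  haveI : FiniteDimensional F K := Module.Finite.of_finite
  let W : Submodule F K :=
    { carrier := {y | ∃ ψ ∈ Psi M B v, ψ α = y}
      add_mem' := by
        rintro y y' ⟨ψ, hψ, rfl⟩ ⟨φ, hφ, rfl⟩
        exact ⟨ψ + φ, psi_add hM hB hv hv0 hψ hφ, rfl⟩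
      zero_mem' := ⟨0, psi_zero hM hB hv hv0, rfl⟩
      smul_mem' := by
        rintro s y ⟨ψ, hψ, rfl⟩
        exact ⟨s • ψ, psi_smul hM hB hv hv0 hψ s, rfl⟩ }
  let ν : K →ₗ[F] F := τ.comp (LinearMap.mulRight F α)
  have hWν : W ≤ LinearMap.ker ν := by
    rintro _ ⟨ψ, hψ, rfl⟩
    have h := psi_anti hM hB hv hv0 hψ α α
    rw [mul_comm α] at h
    exact (mul_eq_zero.1 (show (2 : F) * τ (ψ α * α) = 0 by linear_combination h)).resolve_left hG.two
  by_cases hW : LinearMap.ker ν ≤ W
  · exact hW (show c ∈ LinearMap.ker ν from hc)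
  exfalso
  -- a second vector orthogonal to all values
  let Φ : K →ₗ[F] (W →ₗ[F] F) :=
    { toFun := fun z => (τ.comp (LinearMap.mulRight F z)).comp W.subtype
      map_add' := fun a b => by ext y; simp [mul_add]
      map_smul' := fun s a => by ext y; simp [mul_smul_comm] }
  obtain ⟨z, hz, hzα⟩ : ∃ z ∈ LinearMap.ker Φ, z ∉ F ∙ α := by
    by_contra hcon
    push Not at hcon
    have h1 := LinearMap.finrank_range_add_finrank_ker Φ
    have h3 := Submodule.finrank_mono (show LinearMap.ker Φ ≤ F ∙ α from hcon)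
    have h4 := Submodule.finrank_le (LinearMap.range Φ)
    rw [Module.finrank_linearMap, finrank_self, mul_one] at h4
    rw [finrank_span_singleton hα] at h3
    have h5 := Submodule.finrank_lt_finrank_of_lt (lt_of_le_not_ge hWν hW)
    have h6 := LinearMap.finrank_range_add_finrank_ker ν
    rw [LinearMap.range_eq_top.2 (fun t => ⟨t • α⁻¹, by simp [ν, inv_mul_cancel₀ hα, hB.one]⟩), finrank_top,
      finrank_self] at h6
    omega
  obtain ⟨ψ₀, -, hψ₀, C, hC, hCx⟩ := exists_root hM hB hv hv0
  have hψP : ψ₀ ∈ Psi M B v := ⟨C, hC, hCx⟩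
  let ω : K → K → F := fun P R => τ (ψ₀ P * R)
  have hω0 : ∀ x : K, ω (x * α) (x * z) = 0 := by
    intro x
    have h : τ (twist x ψ₀ α * z) = 0 :=
      LinearMap.congr_fun (LinearMap.mem_ker.1 hz) ⟨_, twist x ψ₀, psi_twist hM hB hv hv0 hψP x, rfl⟩
    rw [twist_apply] at h
    show τ (ψ₀ (x * α) * (x * z)) = 0
    rw [← h]
    congr 1
    ring
  set s := z / α with hs
  have hsb : s ∉ (⊥ : Subalgebra F K) := by
    intro hb
    obtain ⟨t, ht⟩ := Algebra.mem_bot.1 hb
    refine hzα (Submodule.mem_span_singleton.2 ⟨t, ?_⟩)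
    rw [Algebra.smul_def, ht, hs, div_mul_cancel₀ _ hα]
  have hys : ∀ y : K, ω y (s * y) = 0 := fun y => by
    have h := hω0 (y / α)
    rwa [div_mul_cancel₀ _ hα, show y / α * z = s * y by rw [hs]; field_simp] at h
  have hanti : ∀ P R, ω P R = -ω R P := fun P R => by
    have h := psi_anti hM hB hv hv0 hψP P R
    show τ (ψ₀ P * R) = -τ (ψ₀ R * P)
    rw [mul_comm (ψ₀ R)]
    linear_combination h
  let S : Subalgebra F K :=
    { carrier := {t | ∀ P R, ω (t * P) R = ω P (t * R)}
      mul_mem' := fun {a b} ha hb P R => by rw [mul_assoc, ha, hb, ← mul_assoc, mul_comm b]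
      one_mem' := fun P R => by rw [one_mul, one_mul]
      add_mem' := fun {a b} ha hb P R => by
        show τ (ψ₀ ((a + b) * P) * R) = τ (ψ₀ P * ((a + b) * R))
        rw [add_mul, map_add, add_mul, map_add, add_mul, mul_add, map_add]
        exact congrArg₂ (· + ·) (ha P R) (hb P R)
      zero_mem' := fun P R => by simp [ω]
      algebraMap_mem' := fun t P R => by
        simp only [ω, ← Algebra.smul_def, map_smul, mul_smul_comm, smul_mul_assoc] }
  have hsS : s ∈ S := by
    intro P R
    have h := hys (P + R)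
    have e : ω (P + R) (s * (P + R)) = ω P (s * P) + ω P (s * R) + ω R (s * P) + ω R (s * R) := by
      simp only [ω, mul_add, map_add, add_mul]
      ring
    rw [e, hys, hys, hanti R (s * P)] at h
    linear_combination -h
  haveI := Subalgebra.isSimpleOrder_of_finrank_prime F K hG.prime
  have hS : S = ⊤ := (eq_bot_or_eq_top S).resolve_left fun h => hsb (h ▸ hsS)
  refine hψ₀ (LinearMap.ext fun P => tau_ext hB.one fun R => ?_)
  have h1 : ∀ P R, ω P R = ω 1 (P * R) := fun P R => by
    have := (hS ▸ Algebra.mem_top : P ∈ S) 1 R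
    rwa [mul_one] at this
  have h3 : ω P R = 0 := by
    have h4 := hanti P R
    rw [h1 P R, h1 R P, mul_comm R] at h4
    rw [h1]
    exact (mul_eq_zero.1 (show (2 : F) * ω 1 (P * R) = 0 by linear_combination h4)).resolve_left hG.two
  rw [LinearMap.zero_apply, mul_zero, map_zero, mul_comm]
  exact h3

end

end Cfsg.Agent.ExtFieldThree10
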