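import Mathlib
import Cfsg.Agent.Lib.ExtFieldThree10Psi

/-!
Climbing to an element which fixes a hyperplane of a singular line and moves the line.
-/

set_option autoImplicit false
set_option linter.unusedSectionVars false
set_option linter.style.haveILetI false
set_option maxHeartbeats 800000

namespace Cfsg.Agent.ExtFieldThree10

open QuadraticMap Module
open Cfsg.Agent.OrthUnitaryQuad Cfsg.Agent.OrthUnitaryRefl
open Cfsg.Agent.ExtFieldMax (exists_dual_one)

variable {F K V : Type*} [Field F] [Fintype F] [Field K] [Fintype K] [Algebra F K]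
  [AddCommGroup V] [Module F V] [Module K V] [IsScalarTower F K V] [FiniteDimensional K V]

variable {Q : QuadraticForm F V} {M : Subgroup (orth Q)}

variable (K) in
/-- The parameters whose image stays in the line of `v`. -/
def held (g : orth Q) (v : V) : Submodule F K where
  carrier := {c | ∃ d : K, g.1 (c • v) = d • v}
  add_mem' := by
    rintro a b ⟨d, hd⟩ ⟨e, he⟩
    exact ⟨d + e, by rw [add_smul, map_add, hd, he, add_smul]⟩
  zero_mem' := ⟨0, by simp⟩
  smul_mem' := by
    rintro s a ⟨d, hd⟩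
    exact ⟨s • d, by rw [smul_assoc, LinearEquiv.map_smul, hd, smul_assoc]⟩

variable (K) in
/-- `g` moves the line of `v`. -/
def Mover (g : orth Q) (v : V) : Prop := ∃ c : K, ∀ d : K, g.1 (c • v) ≠ d • v

theorem held_ne_top {g : orth Q} {v : V} (h : Mover K g v) : held K g v ≠ ⊤ := fun ht => by
  obtain ⟨c, hc⟩ := h
  obtain ⟨d, hd⟩ : c ∈ held K g v := ht ▸ Submodule.mem_top
  exact hc d hd

/-- The configuration reached by the induction. -/
structure Config (M : Subgroup (orth Q)) (v : V) (lam : K →ₗ[F] F) (g : orth Q) : Prop where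
  mem : g ∈ M
  sing : ∀ c : K, polar Q (c • v) v = 0
  one : lam 1 = 1
  fix : ∀ d, lam d = 0 → g.1 (d • v) = d • v
  moved : ∀ c : K, g.1 v ≠ c • v
  perp : ∀ c : K, polar Q (c • v) (g.1 v) = 0

section
variable {τ : K →ₗ[F] F} {B : V →ₗ[K] V →ₗ[K] K} (hM : Hyp K Q M) (hB : Lifts Q τ B)
include hM hB

theorem exists_moves1 {v : V} (hv : B v v = 0) (hv0 : v ≠ 0) :
    ∃ g ∈ M, Mover K g v ∧ 1 ≤ finrank F (held K g v) := by
  classical
  have hG := hM.geo
  haveI : FiniteDimensional F K := Module.Finite.of_finite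
  obtain ⟨g₀, hg₀, x, hx0, hx, hz⟩ := exists_aniso_image hM hB
  set z := g₀.1 x with hzx
  obtain ⟨ℓ, ρ, hρ⟩ := exists_elt hM hB hz
  have h1 : ¬ ℓ ∣ 1 := hρ.prime.not_dvd_one
  set k := g₀⁻¹ * ρ * g₀ with hk
  have hkm : k ∈ M := mul_mem (mul_mem (inv_mem hg₀) hρ.mem) hg₀
  have hkx : k.1 x = x := by rw [hk, mul_app, mul_app, ← hzx, hρ.fix, hzx, inv_app]
  have hmove : Mover K k x := by
    by_contra hcon
    unfold Mover at hcon
    push Not at hcon
    -- the image of the line is invariant under the rotation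
    let U : Submodule F V := LinearMap.range
      ((g₀.1 : V →ₗ[F] V).comp ((LinearMap.toSpanSingleton K V x).restrictScalars F))
    have hUc : ∀ c : K, g₀.1 (c • x) ∈ U := fun c => ⟨c, rfl⟩
    have hU1 : ∀ u ∈ U, ρ.1 u ∈ U := by
      rintro _ ⟨c, rfl⟩
      obtain ⟨d, hd⟩ := hcon c
      have h := congrArg g₀.1 hd
      rw [hk, mul_app, mul_app, app_inv] at h
      show ρ.1 (g₀.1 (c • x)) ∈ U
      rw [h]
      exact hUc d
    have hUi : ∀ u ∈ U, ρ⁻¹.1 u ∈ U := by
      have hn : ∀ n : ℕ, ∀ u ∈ U, (ρ ^ n).1 u ∈ U := by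
        intro n
        induction n with
        | zero => exact fun u hu => hu
        | succ n ih => intro u hu; rw [pow_succ, mul_app]; exact ih _ (hU1 u hu)
      intro u hu
      rw [inv_eq_of_mul_eq_one_right (show ρ * ρ ^ (ℓ - 1) = 1 by
        rw [← pow_succ', Nat.sub_add_cancel hρ.prime.one_lt.le, hρ.pow])]
      exact hn _ u hu
    by_cases hex : ∃ y ∈ U, B y z = 0 ∧ y ≠ 0
    · obtain ⟨y, hy, hyz, hy0⟩ := hex
      let S : Subalgebra F K :=
        { carrier := {c | ∀ u ∈ U, B u z = 0 → c • u ∈ U}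
          mul_mem' := fun {a b} ha hb u hu huz => by
            rw [mul_smul]
            exact ha _ (hb u hu huz) (by simp [huz])
          one_mem' := fun u hu _ => by rwa [one_smul]
          add_mem' := fun {a b} ha hb u hu huz => by rw [add_smul]; exact add_mem (ha u hu huz) (hb u hu huz)
          zero_mem' := fun u _ _ => by rw [zero_smul]; exact zero_mem U
          algebraMap_mem' := fun s u hu _ => by rw [algebraMap_smul]; exact U.smul_mem s hu }
      obtain ⟨θ, hθ⟩ := hρ.scal 1
      rw [pow_one] at hθ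
      haveI := Subalgebra.isSimpleOrder_of_finrank_prime F K hG.prime
      have hS : S = ⊤ := (eq_bot_or_eq_top S).resolve_left fun h => hρ.irr θ hθ (h ▸ (show θ ∈ S from
        fun u hu huz => by rw [← hθ u huz]; exact add_mem (hU1 u hu) (hUi u hu)))
      have hall : ∀ c : K, ∃ d : K, g₀.1 (d • x) = c • y := fun c =>
        (show c • y ∈ U from (hS ▸ Algebra.mem_top : c ∈ S) y hy hyz)
      choose f hf using hall
      have hinj : Function.Injective f := fun a b h => smul_left_injective K hy0 (show a • y = b • y by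
        rw [← hf, ← hf, h])
      obtain ⟨c, hc⟩ := Finite.injective_iff_surjective.1 hinj 1
      have := hf c
      rw [hc, one_smul, ← hzx] at this
      exact hz (by conv_lhs => arg 1; rw [this]
                   rw [map_smul, LinearMap.smul_apply, hyz, smul_zero])
    · push Not at hex
      have hline : ∀ u ∈ U, u = (B u z / B z z) • z := by
        intro u hu
        refine fix_imp hM hB hz hρ h1 ?_
        rw [pow_one]
        refine sub_eq_zero.1 (hex _ (sub_mem (hU1 u hu) hu) ?_)
        have e : ρ.1 u - u = ρ.1 (u - (B u z / B z z) • z) - (u - (B u z / B z z) • z) := by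
          rw [map_sub, hρ.lin, hρ.fix]; abel
        rw [e, map_sub, LinearMap.sub_apply,
          p_map hM hB hz hρ h1 (show ρ * ρ = ρ ^ 1 * ρ by rw [pow_one]) (split_z hM hB hz hρ u),
          split_z hM hB hz hρ u, sub_zero]
      let f : K → K := fun c => B (g₀.1 (c • x)) z / B z z
      have hinj : Function.Injective f := fun a b h => smul_left_injective K hx0 (g₀.1.injective (show
        g₀.1 (a • x) = g₀.1 (b • x) by rw [hline _ (hUc a), hline _ (hUc b)]; exact congrArg (· • z) h))
      refine hz (tau_ext hB.one fun e => ?_)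
      obtain ⟨c, hc⟩ := Finite.injective_iff_surjective.1 hinj e
      rw [mul_zero, map_zero, ← hB.eq, ← hc, ← hline _ (hUc c), hzx, polar_orth g₀, hB.eq, hx, mul_zero, map_zero]
  obtain ⟨h, hh, t, ht, he, hl⟩ := exists_transitive hM hB hx hv hx0 hv0
  refine ⟨h * k * h⁻¹, mul_mem (mul_mem hh hkm) (inv_mem hh), ?_, ?_⟩
  · obtain ⟨c, hc⟩ := hmove
    refine ⟨c * t, fun d hd => hc (d / t) ?_⟩
    apply h.1.injective
    rw [mul_app, mul_app, mul_smul, ← he, ← hl, inv_app] at hd
    rw [hd, hl, he, smul_smul, div_mul_cancel₀ _ ht]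
  · refine Module.finrank_pos_iff_exists_ne_zero.2 ⟨⟨t, t, ?_⟩, fun h0 => ht (congrArg Subtype.val h0)⟩
    rw [mul_app, mul_app, ← he, inv_app, hkx]

section
variable {v v' w : V} (hF : Frame B v v' w)
include hF

/-- Conjugates of line-fixing elements keep the held parameters. -/
theorem held_conj {g t : orth Q} (ht : ∀ e : K, t.1 (e • v) = e • v) :
    held K g v ≤ held K (g⁻¹ * t * g) v ∧ ∀ c ∈ held K g v, (g⁻¹ * t * g).1 (c • v) = c • v := by
  have h : ∀ c ∈ held K g v, (g⁻¹ * t * g).1 (c • v) = c • v := by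
    rintro c ⟨d, hd⟩
    rw [mul_app, mul_app, hd, ht, ← hd, inv_app]
  exact ⟨fun c hc => ⟨c, h c hc⟩, h⟩

/-- A mover stays a mover after a suitable conjugation. -/
theorem exists_moving {g : orth Q} (hg : g ∈ M) (hmv : Mover K g v) :
    ∃ t ∈ M, (∀ e : K, t.1 (e • v) = e • v) ∧ (∃ a : K, ∀ x, t.1 x = x + (B x v * a) • w -
      (a * B x w + 2⁻¹ * (a * a * B w w) * B x v) • v) ∧ Mover K (g⁻¹ * t * g) v := by
  classical
  have hG := hM.geo
  have h2 := two_ne hG hB
  have hv0 := Frame.ne hG hB hF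
  have hvw := Frame.vw hG hB hF
  by_contra hcon
  push Not at hcon
  obtain ⟨c₁, hc₁⟩ := hmv
  set u := g.1 (c₁ • v) with hu
  let U : AddSubgroup K :=
    { carrier := {e | ∃ d : K, g.1 (d • v) = e • v}
      zero_mem' := ⟨0, by simp⟩
      add_mem' := by
        rintro a b ⟨d, hd⟩ ⟨e, he⟩
        exact ⟨d + e, by rw [add_smul, map_add, hd, he, add_smul]⟩
      neg_mem' := by
        rintro a ⟨d, hd⟩
        exact ⟨-d, by rw [neg_smul, map_neg, hd, neg_smul]⟩ }
  have key : ∀ a : K, ∃ d : K, g.1 (d • v) = u + (B u v * a) • w -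
      (a * B u w + 2⁻¹ * (a * a * B w w) * B u v) • v := by
    intro a
    obtain ⟨t, ht, -, htx⟩ := exists_E hM hB hF a
    have hn := hcon t ht (fun e => by rw [htx]; simp [hF.vv, hvw]) ⟨a, htx⟩
    unfold Mover at hn
    push Not at hn
    obtain ⟨d, hd⟩ := hn c₁
    refine ⟨d, ?_⟩
    have h := congrArg g.1 hd
    rw [mul_app, mul_app, app_inv, ← hu, htx] at h
    exact h.symm
  have hall : ∀ e, e ∈ U := by
    by_cases h0 : B u v = 0
    · have hβ : B u w ≠ 0 := fun h => by
        have h' := frame_eq hG hB hF u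
        rw [h0, h, zero_smul, zero_div, zero_smul, add_zero, add_zero] at h'
        exact hc₁ _ h'
      intro e
      obtain ⟨d, hd⟩ := key (-e / B u w)
      refine ⟨d - c₁, ?_⟩
      rw [sub_smul, map_sub, hd, ← hu, h0]
      simp only [zero_mul, zero_smul, mul_zero, add_zero]
      rw [div_mul_cancel₀ _ hβ, neg_smul]
      abel
    · intro e
      have hsq : ∀ a : K, a * a ∈ U.comap (AddMonoidHom.mulLeft (-(B w w * B u v))) := fun a => by
        obtain ⟨d, hd⟩ := key a
        obtain ⟨d', hd'⟩ := key (-a)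
        refine ⟨d + d' - c₁ - c₁, ?_⟩
        rw [sub_smul, sub_smul, add_smul, map_sub, map_sub, map_add, hd, hd', ← hu]
        simp only [AddMonoidHom.coe_mulLeft]
        match_scalars <;> field_simp <;> ring
      have h := span_sq hM hB _ hsq (e / -(B w w * B u v))
      rw [AddSubgroup.mem_comap, AddMonoidHom.coe_mulLeft,
        mul_div_cancel₀ _ (neg_ne_zero.2 (mul_ne_zero hF.ww h0))] at h
      exact h
  choose f hf using hall
  have hinj : Function.Injective f := fun a b h => smul_left_injective K hv0 (show a • v = b • v from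
    (hf a).symm.trans ((congrArg (fun c => g.1 (c • v)) h).trans (hf b)))
  obtain ⟨e, he⟩ := Finite.injective_iff_surjective.1 hinj c₁
  exact hc₁ e ((congrArg (fun c => g.1 (c • v)) he).symm.trans (hf e))

/-- Step one: some parameter outside goes to the orthogonal of `v`. -/
theorem exists_perp {g : orth Q} (hg : g ∈ M) (hmv : Mover K g v) :
    ∃ g' ∈ M, Mover K g' v ∧ held K g v ≤ held K g' v ∧ ∃ y, y ∉ held K g v ∧ B (g'.1 (y • v)) v = 0 := by
  classical
  have hG := hM.geo
  have hv0 := Frame.ne hG hB hF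
  have hvw := Frame.vw hG hB hF
  haveI : FiniteDimensional F K := Module.Finite.of_finite
  by_cases hex : ∃ y, y ∉ held K g v ∧ B (g.1 (y • v)) v = 0
  · exact ⟨g, hg, hmv, le_rfl, hex⟩
  push Not at hex
  obtain ⟨y, hy⟩ := id hmv
  have hy' : y ∉ held K g v := fun ⟨d, hd⟩ => hy d hd
  let α : K →ₗ[F] K :=
    { toFun := fun c => B (g.1 (c • v)) v
      map_add' := fun a b => by simp [add_smul]
      map_smul' := fun s a => by
        show B (g.1 ((s • a) • v)) v = s • B (g.1 (a • v)) v
        rw [smul_assoc, LinearEquiv.map_smul, LinearMap.map_smul_of_tower, LinearMap.smul_apply] }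
  have hker : ∀ c, α c = 0 → c ∈ held K g v := fun c hc => by
    by_contra h; exact hex c h hc
  set z := g.1 (y • v) with hz
  set α₀ := α y with hα₀
  have hα₀0 : α₀ ≠ 0 := hex y hy'
  obtain ⟨a, ha0, ha⟩ := ExtFieldOrth.exists_zero (F := F) (W := K)
    (fun _ : Unit => LinearMap.mk₂ F (fun a b => τ (a * b * (B w w * (α₀ * α₀))))
      (fun a a' b => by simp [add_mul]) (fun s a b => by simp [smul_mul_assoc])
      (fun a b b' => by simp [mul_add, add_mul]) (fun s a b => by simp [smul_mul_assoc, mul_smul_comm]))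
    (fun _ => 0) (by rw [Fintype.card_unit]; have := hG.three; omega)
  have ha : τ (a * a * (B w w * (α₀ * α₀))) = 0 := by simpa using ha ()
  obtain ⟨t, ht, -, htx⟩ := exists_E hM hB hF a
  have htv : ∀ e : K, t.1 (e • v) = e • v := fun e => by rw [htx]; simp [hF.vv, hvw]
  have hsing : ∀ c d : K, polar Q (g.1 (c • v)) (g.1 (d • v)) = 0 := fun c d => by
    rw [polar_orth g, f_eq hG hB]; simp [hF.vv]
  let L : K →ₗ[F] F :=
    { toFun := fun c => polar Q (t.1 z) (g.1 (c • v))
      map_add' := fun a b => by simp [add_smul]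
      map_smul' := fun s a => by
        show polar Q (t.1 z) (g.1 ((s • a) • v)) = s • polar Q (t.1 z) (g.1 (a • v))
        rw [smul_assoc, LinearEquiv.map_smul, polar_smul_right] }
  have hLker : LinearMap.ker α ≤ LinearMap.ker L := fun c hc => by
    obtain ⟨d, hd⟩ := hker c hc
    show polar Q (t.1 z) (g.1 (c • v)) = 0
    rw [hd, ← htv d, polar_orth t, ← hd, hsing]
  obtain ⟨c₀, hc₀⟩ : ∃ c₀ : K, ∀ c, L c = τ (c₀ * α c) := by
    have hinj : LinearMap.ker ((LinearMap.ker α).liftQ α le_rfl) = ⊥ := Submodule.ker_liftQ_eq_bot' _ α rfl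
    obtain ⟨inv, hinv⟩ := LinearMap.exists_leftInverse_of_injective _ hinj
    let lam : K →ₗ[F] F := ((LinearMap.ker α).liftQ L hLker).comp inv
    let Φ : K →ₗ[F] (K →ₗ[F] F) :=
      { toFun := fun a => τ.comp (LinearMap.mulLeft F a)
        map_add' := fun a b => by ext c; simp [add_mul]
        map_smul' := fun s a => by ext c; simp [smul_mul_assoc] }
    have hΦ : Function.Injective Φ := fun a b h => tau_ext hB.one fun c => by
      have := LinearMap.congr_fun h c
      simpa [Φ, mul_comm] using this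
    obtain ⟨c₀, hc₀⟩ := (LinearMap.injective_iff_surjective_of_finrank_eq_finrank
      (by rw [Module.finrank_linearMap, finrank_self, mul_one])).1 hΦ lam
    refine ⟨c₀, fun c => ?_⟩
    have h := LinearMap.congr_fun hc₀ (α c)
    have h' := LinearMap.congr_fun hinv (Submodule.Quotient.mk c)
    simp only [LinearMap.comp_apply, Submodule.liftQ_apply, LinearMap.id_apply] at h'
    simp only [Φ, lam, LinearMap.coe_mk, AddHom.coe_mk, LinearMap.comp_apply, LinearMap.mulLeft_apply, h',
      Submodule.liftQ_apply] at h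
    exact h.symm
  have hLy : L y = 0 := by
    show polar Q (t.1 z) z = 0
    have h := hsing y y
    rw [← hz, f_eq hG hB] at h
    rw [f_eq hG hB, htx]
    have e : B (z + (B z v * a) • w - (a * B z w + 2⁻¹ * (a * a * B w w) * B z v) • v) z =
        B z z + B z v * a * B w z - (a * B z w + 2⁻¹ * (a * a * B w w) * B z v) * B v z := by simp
    rw [e, B_symm hG hB w z, B_symm hG hB v z, show B z v = α₀ from rfl]
    rw [show B z z + α₀ * a * B z w - (a * B z w + 2⁻¹ * (a * a * B w w) * α₀) * α₀ =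
      B z z + algebraMap F K (-(2⁻¹)) * (a * a * (B w w * (α₀ * α₀))) by
        rw [map_neg, map_inv₀, map_ofNat]; ring,
      map_add, h, zero_add, ← Algebra.smul_def, map_smul, ha, smul_zero]
  have hperp : τ (-c₀ * α₀) = 0 := by rw [neg_mul, map_neg, ← hc₀ y, hLy, neg_zero]
  obtain ⟨ψ, hψ, hψα⟩ := psi_surj hM hB hF.vv hv0 hα₀0 hperp
  obtain ⟨C, hC, hCx⟩ := hψ
  have hCv : ∀ e : K, C.1 (e • v) = e • v := fun e => by rw [hCx]; simp [hF.vv]
  have hCtv : ∀ e : K, (C * t).1 (e • v) = e • v := fun e => by rw [mul_app, htv, hCv]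
  obtain ⟨hle, -⟩ := held_conj hM hB hF (g := g) hCtv
  have hBt : B (t.1 z) v = α₀ := by rw [htx]; simp [hF.vv, hF.wv]; rfl
  refine ⟨g⁻¹ * (C * t) * g, mul_mem (mul_mem (inv_mem hg) (mul_mem hC ht)) hg, ?_, hle, y, hy', ?_⟩
  · by_contra hcon
    unfold Mover at hcon
    push Not at hcon
    obtain ⟨f, hf⟩ := hcon y
    have h := congrArg g.1 hf
    rw [mul_app, mul_app, app_inv, mul_app, ← hz] at h
    have hα : α f = α₀ := by
      show B (g.1 (f • v)) v = α₀
      rw [← h, hCx]
      simp [hF.vv, hBt]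
    obtain ⟨d, hd⟩ := hker (f - y) (by rw [map_sub, hα, sub_self])
    rw [sub_smul, map_sub, ← h, ← hz, hCx, hBt, htx] at hd
    have hd' := congrArg (fun x => B x w) hd
    simp only [map_add, map_sub, map_smul, LinearMap.add_apply, LinearMap.sub_apply, LinearMap.smul_apply, hvw,
      smul_eq_mul, mul_zero, sub_zero, add_zero, add_sub_cancel_left, mul_eq_zero] at hd'
    rcases hd' with (hd' | hd') | hd'
    exacts [hα₀0 hd', ha0 hd', hF.ww hd']
  · refine tau_ext hB.one fun e => ?_
    rw [mul_zero, map_zero, ← hB.eq, hG.adj, mul_app, mul_app, polar_inv, mul_app, ← hz, hCx, polar_add_left,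
      hBt, hψα, hB.eq, B_symm hG hB, show B (g.1 (e • v)) v = α e from rfl,
      show polar Q (t.1 z) (g.1 (e • v)) = L e from rfl, hc₀, ← map_add, ← add_mul, add_neg_cancel, zero_mul,
      map_zero]

/-- Step two: the held parameters can be enlarged. -/
theorem exists_bigger {g : orth Q} (hg : g ∈ M) (hmv : Mover K g v) (h1 : 1 ≤ finrank F (held K g v))
    (h2 : finrank F (held K g v) + 2 ≤ finrank F K) :
    ∃ g' ∈ M, Mover K g' v ∧ finrank F (held K g v) < finrank F (held K g' v) := by
  classical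
  have hG := hM.geo
  have hv0 := Frame.ne hG hB hF
  have hvw := Frame.vw hG hB hF
  haveI : FiniteDimensional F K := Module.Finite.of_finite
  obtain ⟨g₁, hg₁, hmv₁, hle, y, hy, hyv⟩ := exists_perp hM hB hF hg hmv
  rcases (Submodule.finrank_mono hle).lt_or_eq with hlt | heq
  · exact ⟨g₁, hg₁, hmv₁, hlt⟩
  replace hy : y ∉ held K g₁ v := Submodule.eq_of_le_of_finrank_eq hle heq ▸ hy
  rw [heq] at h1 h2
  clear hle hmv hg
  rw [heq]
  clear heq g
  by_contra hcon
  push Not at hcon
  set q := B w w with hq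
  have hq0 : q ≠ 0 := hF.ww
  set z := g₁.1 (y • v) with hz
  set β := B z w with hβ
  have hβ0 : β ≠ 0 := fun h => hy ⟨B z v', by
    have h' := frame_eq hG hB hF z
    rw [hyv, ← hβ, h, zero_smul, zero_div, zero_smul, add_zero, add_zero] at h'
    exact h'⟩
  let E : Submodule F K :=
    { carrier := {e | ∃ d : K, g₁.1 (d • v) = e • v}
      zero_mem' := ⟨0, by simp⟩
      add_mem' := by
        rintro a b ⟨d, hd⟩ ⟨e, he⟩
        exact ⟨d + e, by rw [add_smul, map_add, hd, he, add_smul]⟩
      smul_mem' := by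
        rintro s a ⟨d, hd⟩
        exact ⟨s • d, by rw [smul_assoc, LinearEquiv.map_smul, hd, smul_assoc]⟩ }
  -- invariance of the image of the line
  have hinv : ∀ e ∈ E, ∀ c : K, ∃ d : K, g₁.1 (d • v) = g₁.1 (c • v) + (B (g₁.1 (c • v)) v * (e / β)) • w -
      (e / β * B (g₁.1 (c • v)) w + 2⁻¹ * (e / β * (e / β) * q) * B (g₁.1 (c • v)) v) • v := by
    intro e he c
    obtain ⟨t, ht, -, htx⟩ := exists_E hM hB hF (e / β)
    have htv : ∀ b : K, t.1 (b • v) = b • v := fun b => by rw [htx]; simp [hF.vv, hvw]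
    have hn : ¬ Mover K (g₁⁻¹ * t * g₁) v := fun hm => by
      obtain ⟨hle, -⟩ := held_conj hM hB hF (g := g₁) htv
      have hlt : held K g₁ v < held K (g₁⁻¹ * t * g₁) v := by
        refine SetLike.lt_iff_le_and_exists.2 ⟨hle, y, ?_, hy⟩
        obtain ⟨d, hd⟩ := he
        refine ⟨y - d, ?_⟩
        rw [mul_app, mul_app, ← hz, htx, hyv]
        simp only [zero_mul, zero_smul, add_zero, mul_zero]
        rw [← hβ, div_mul_cancel₀ _ hβ0, ← hd, map_sub, hz, inv_app, inv_app, sub_smul]
      exact absurd (Submodule.finrank_lt_finrank_of_lt hlt)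
        (not_lt.2 (hcon _ (mul_mem (mul_mem (inv_mem hg₁) ht) hg₁) hm))
    unfold Mover at hn
    push Not at hn
    obtain ⟨d, hd⟩ := hn c
    refine ⟨d, ?_⟩
    have h := congrArg g₁.1 hd
    rw [mul_app, mul_app, app_inv, htx] at h
    exact h.symm
  let wc : K →ₗ[F] K :=
    { toFun := fun c => B (g₁.1 (c • v)) w
      map_add' := fun a b => by simp [add_smul]
      map_smul' := fun s a => by
        show B (g₁.1 ((s • a) • v)) w = s • B (g₁.1 (a • v)) w
        rw [smul_assoc, LinearEquiv.map_smul, LinearMap.map_smul_of_tower, LinearMap.smul_apply] }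
  let α : K →ₗ[F] K :=
    { toFun := fun c => B (g₁.1 (c • v)) v
      map_add' := fun a b => by simp [add_smul]
      map_smul' := fun s a => by
        show B (g₁.1 ((s • a) • v)) v = s • B (g₁.1 (a • v)) v
        rw [smul_assoc, LinearEquiv.map_smul, LinearMap.map_smul_of_tower, LinearMap.smul_apply] }
  have hE0 : ∃ e ∈ E, e ≠ 0 := by
    obtain ⟨⟨d, e, hd⟩, hd0⟩ := Module.finrank_pos_iff_exists_ne_zero.1 (show 0 < finrank F (held K g₁ v) by omega)
    refine ⟨e, ⟨d, hd⟩, fun h => hd0 (Subtype.ext ?_)⟩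
    rw [h, zero_smul, LinearEquiv.map_eq_zero_iff, smul_eq_zero] at hd
    exact hd.resolve_right hv0
  have hperp : ∀ c, α c = 0 → ∃ s : F, wc c = s • β := by
    intro c hc
    have hc' : B (g₁.1 (c • v)) v = 0 := hc
    let S : Subalgebra F K :=
      { carrier := {r | ∀ e ∈ E, r * e ∈ E}
        mul_mem' := fun {a b} ha hb e he => by rw [mul_assoc]; exact ha _ (hb e he)
        one_mem' := fun e he => by rwa [one_mul]
        add_mem' := fun {a b} ha hb e he => by rw [add_mul]; exact add_mem (ha e he) (hb e he)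
        zero_mem' := fun e _ => by rw [zero_mul]; exact zero_mem E
        algebraMap_mem' := fun s e he => by rw [← Algebra.smul_def]; exact E.smul_mem s he }
    have hmem : wc c / β ∈ S := by
      intro e he
      obtain ⟨d, hd⟩ := hinv e he c
      refine ⟨c - d, ?_⟩
      rw [sub_smul, map_sub, hd, hc']
      simp only [zero_mul, zero_smul, add_zero, mul_zero]
      rw [sub_sub_cancel, show wc c / β * e = e / β * B (g₁.1 (c • v)) w by
        show B (g₁.1 (c • v)) w / β * e = _
        ring]
    haveI := Subalgebra.isSimpleOrder_of_finrank_prime F K hG.prime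
    rcases eq_bot_or_eq_top S with hS | hS
    · rw [hS, Algebra.mem_bot] at hmem
      obtain ⟨s, hs⟩ := hmem
      exact ⟨s, by rw [Algebra.smul_def, hs, div_mul_cancel₀ _ hβ0]⟩
    · exfalso
      obtain ⟨e, he, he0⟩ := hE0
      have hall : ∀ x : K, x ∈ E := fun x => by
        have := (hS ▸ Algebra.mem_top : x / e ∈ S) e he
        rwa [div_mul_cancel₀ _ he0] at this
      choose f hf using hall
      have hinj : Function.Injective f := fun a b h => smul_left_injective K hv0 (show a • v = b • v from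
        (hf a).symm.trans ((congrArg (fun c => g₁.1 (c • v)) h).trans (hf b)))
      obtain ⟨x, hx⟩ := Finite.injective_iff_surjective.1 hinj y
      exact hy ⟨x, (congrArg (fun c => g₁.1 (c • v)) hx).symm.trans (hf x)⟩
  have hγ : ∀ c, ∀ e ∈ E, ∃ s : F, α c * (e / β) * q = s • β := by
    intro c e he
    obtain ⟨d, hd⟩ := hinv e he c
    obtain ⟨d', hd'⟩ := hinv (-e) (neg_mem he) c
    have h0 : α (d - d') = 0 := by
      show B (g₁.1 ((d - d') • v)) v = 0
      rw [sub_smul, map_sub, hd, hd']
      simp [hF.vv, hF.wv]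
    obtain ⟨s, hs⟩ := hperp _ h0
    refine ⟨s / 2, ?_⟩
    have h : (2 : K) * (α c * (e / β) * q) = s • β := by
      rw [← hs]
      show _ = B (g₁.1 ((d - d') • v)) w
      rw [sub_smul, map_sub, hd, hd']
      simp [hvw, ← hq]
      show 2 * (B (g₁.1 (c • v)) v * (e / β) * q) = _
      ring
    rw [Algebra.smul_def, map_div₀, map_ofNat, div_mul_eq_mul_div, ← Algebra.smul_def, ← h,
      mul_div_cancel_left₀ _ (two_ne hG hB)]
  obtain ⟨e₀, he₀, he₀0⟩ := hE0
  have hαr : LinearMap.range α ≤ F ∙ (β * β / (e₀ * q)) := by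
    rintro _ ⟨c, rfl⟩
    obtain ⟨s, hs⟩ := hγ c e₀ he₀
    refine Submodule.mem_span_singleton.2 ⟨s, ?_⟩
    rw [Algebra.smul_def] at hs ⊢
    field_simp at hs ⊢
    linear_combination -hs
  have hkerw : (LinearMap.ker α).map wc ≤ F ∙ β := by
    rintro _ ⟨c, hc, rfl⟩
    obtain ⟨s, hs⟩ := hperp c hc
    exact Submodule.mem_span_singleton.2 ⟨s, hs.symm⟩
  have hk : LinearMap.ker (wc.domRestrict (LinearMap.ker α)) ≤ (held K g₁ v).comap (LinearMap.ker α).subtype := by
    rintro ⟨c, hc⟩ hc'
    have hc1 : B (g₁.1 (c • v)) v = 0 := hc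
    have hc2 : B (g₁.1 (c • v)) w = 0 := hc'
    refine ⟨B (g₁.1 (c • v)) v', ?_⟩
    have h := frame_eq hG hB hF (g₁.1 (c • v))
    rw [hc1, hc2, zero_smul, zero_div, zero_smul, add_zero, add_zero] at h
    exact h
  have d1 := LinearMap.finrank_range_add_finrank_ker α
  have d2 := LinearMap.finrank_range_add_finrank_ker (wc.domRestrict (LinearMap.ker α))
  have d3 := Submodule.finrank_mono hαr
  have d4 : finrank F (LinearMap.range (wc.domRestrict (LinearMap.ker α))) ≤ 1 := by
    rw [LinearMap.range_domRestrict]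
    exact (Submodule.finrank_mono hkerw).trans (le_of_eq (finrank_span_singleton hβ0))
  have d5 : finrank F (LinearMap.ker (wc.domRestrict (LinearMap.ker α))) ≤ finrank F (held K g₁ v) := by
    refine (Submodule.finrank_mono hk).trans ?_
    rw [← Submodule.finrank_map_subtype_eq (LinearMap.ker α) ((held K g₁ v).comap (LinearMap.ker α).subtype)]
    exact Submodule.finrank_mono (Submodule.map_comap_le _ _)
  rw [finrank_span_singleton (div_ne_zero (mul_ne_zero hβ0 hβ0) (mul_ne_zero he₀0 hF.ww))] at d3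
  have h5 := hG.three
  by_cases hα : LinearMap.range α = ⊥
  · rw [hα, finrank_bot] at d1
    omega
  · -- then the held parameters form a line
    obtain ⟨_, ⟨c, rfl⟩, hc⟩ := (Submodule.ne_bot_iff _).1 hα
    have hE1 : E ≤ F ∙ (β * β / (α c * q)) := fun e he => by
      obtain ⟨s, hs⟩ := hγ c e he
      refine Submodule.mem_span_singleton.2 ⟨s, ?_⟩
      rw [Algebra.smul_def] at hs ⊢
      field_simp at hs ⊢
      linear_combination -hs
    have d6 : finrank F (held K g₁ v) ≤ 1 := by
      let f : K →ₗ[F] K :=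
        { toFun := fun c => B (g₁.1 (c • v)) v'
          map_add' := fun a b => by simp [add_smul]
          map_smul' := fun s a => by
            show B (g₁.1 ((s • a) • v)) v' = s • B (g₁.1 (a • v)) v'
            rw [smul_assoc, LinearEquiv.map_smul, LinearMap.map_smul_of_tower, LinearMap.smul_apply] }
      have hfe : ∀ c d : K, g₁.1 (c • v) = d • v → f c = d := fun c d h => by
        show B (g₁.1 (c • v)) v' = d
        rw [h]; simp [hF.vp]
      have hinj : LinearMap.ker (f.domRestrict (held K g₁ v)) = ⊥ := by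
        rw [LinearMap.ker_eq_bot']
        rintro ⟨c, d, hd⟩ h0
        have h0' : f c = 0 := h0
        rw [hfe c d hd] at h0'
        rw [h0', zero_smul, LinearEquiv.map_eq_zero_iff, smul_eq_zero] at hd
        exact Subtype.ext (hd.resolve_right hv0)
      have hr : LinearMap.range (f.domRestrict (held K g₁ v)) ≤ F ∙ (β * β / (α c * q)) := by
        rintro _ ⟨⟨c, d, hd⟩, rfl⟩
        refine hE1 ⟨c, ?_⟩
        show g₁.1 (c • v) = f c • v
        rw [hfe c d hd, hd]
      have h := LinearMap.finrank_range_add_finrank_ker (f.domRestrict (held K g₁ v))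
      have h' := Submodule.finrank_mono hr
      rw [hinj, finrank_bot] at h
      rw [finrank_span_singleton (div_ne_zero (mul_ne_zero hβ0 hβ0) (mul_ne_zero hc hF.ww))] at h'
      omega
    -- a root element keeps the held parameters and `y`, and moves the parameter `c`
    let L : K →ₗ[F] F := τ.comp (LinearMap.mulRight F (α c))
    obtain ⟨x, hxL, hxE⟩ : ∃ x, x ∈ LinearMap.ker L ∧ x ∉ E := by
      by_contra hne
      push Not at hne
      have e1 := LinearMap.finrank_range_add_finrank_ker L
      have e2 := Submodule.finrank_le (LinearMap.range L)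
      have e3 := (Submodule.finrank_mono (show LinearMap.ker L ≤ F ∙ (β * β / (α c * q)) from
        fun x hx => hE1 (hne x hx))).trans_eq
        (finrank_span_singleton (div_ne_zero (mul_ne_zero hβ0 hβ0) (mul_ne_zero hc hF.ww)))
      rw [finrank_self] at e2
      omega
    obtain ⟨ψ, hψ, hψc⟩ := psi_surj hM hB hF.vv hv0 hc (LinearMap.mem_ker.1 hxL)
    obtain ⟨C, hC, hCx⟩ := hψ
    have hCv : ∀ e : K, C.1 (e • v) = e • v := fun e => by rw [hCx]; simp [hF.vv]
    obtain ⟨hle', -⟩ := held_conj hM hB hF (g := g₁) hCv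
    have hlt : held K g₁ v < held K (g₁⁻¹ * C * g₁) v := by
      refine SetLike.lt_iff_le_and_exists.2 ⟨hle', y, ?_, hy⟩
      refine ⟨y, ?_⟩
      rw [mul_app, mul_app, ← hz, hCx, hyv, map_zero, zero_smul, add_zero, hz, inv_app]
    have hn : ¬ Mover K (g₁⁻¹ * C * g₁) v := fun hm => absurd (Submodule.finrank_lt_finrank_of_lt hlt)
      (not_lt.2 (hcon _ (mul_mem (mul_mem (inv_mem hg₁) hC) hg₁) hm))
    unfold Mover at hn
    push Not at hn
    obtain ⟨d, hd⟩ := hn c
    have h := congrArg g₁.1 hd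
    rw [mul_app, mul_app, app_inv, hCx] at h
    refine hxE ⟨d - c, ?_⟩
    rw [sub_smul, map_sub, ← h, add_sub_cancel_left, ← hψc]
    rfl

end

theorem exists_config : ∃ (v : V) (lam : K →ₗ[F] F) (g : orth Q), Config M v lam g := by
  classical
  have hG := hM.geo
  haveI : FiniteDimensional F K := Module.Finite.of_finite
  obtain ⟨v, hv0, hv⟩ := exists_sing hG hB
  obtain ⟨v', w, hF⟩ := exists_frame hG hB hv hv0
  have hvw := Frame.vw hG hB hF
  have hr := hG.three
  have hk : ∀ k, k + 2 ≤ finrank F K → ∃ g ∈ M, Mover K g v ∧ k + 1 ≤ finrank F (held K g v) := by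
    intro k
    induction k with
    | zero => exact fun _ => exists_moves1 hM hB hv hv0
    | succ k ih =>
      intro hk
      obtain ⟨g, hg, hm, hd⟩ := ih (by omega)
      rcases Nat.lt_or_ge (k + 1) (finrank F (held K g v)) with hlt | hge
      · exact ⟨g, hg, hm, hlt⟩
      obtain ⟨g', hg', hm', hlt⟩ := exists_bigger hM hB hF hg hm (by omega) (by omega)
      exact ⟨g', hg', hm', by omega⟩
  obtain ⟨g₀, hg₀, hm₀, hd₀⟩ := hk (finrank F K - 2) (by omega)
  obtain ⟨g, hg, hm, hle, y, hy, hyv⟩ := exists_perp hM hB hF hg₀ hm₀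
  have heq : held K g₀ v = held K g v := by
    refine Submodule.eq_of_le_of_finrank_le hle ?_
    have := Submodule.finrank_lt (held_ne_top hm)
    omega
  have hy : y ∉ held K g v := heq ▸ hy
  set D := held K g v with hD
  have hDd : finrank F D + 1 = finrank F K := by
    have h1 : finrank F D < finrank F K := Submodule.finrank_lt (held_ne_top hm)
    have h3 : finrank F (held K g₀ v) = finrank F D := by rw [heq]
    omega
  have htop : D ⊔ F ∙ y = ⊤ := by
    refine Submodule.eq_top_of_finrank_eq ?_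
    have hlt : D < D ⊔ F ∙ y := by
      refine lt_of_le_of_ne le_sup_left fun h => hy ?_
      rw [h]; exact Submodule.mem_sup_right (Submodule.mem_span_singleton_self y)
    have := Submodule.finrank_lt_finrank_of_lt hlt
    have := Submodule.finrank_le (D ⊔ F ∙ y)
    omega
  -- the whole image is orthogonal to `v`
  have hperp : ∀ c : K, B (g.1 (c • v)) v = 0 := by
    intro c
    obtain ⟨d, ⟨e, he⟩, s, hs, rfl⟩ := Submodule.mem_sup.1 (htop ▸ Submodule.mem_top : c ∈ D ⊔ F ∙ y)
    obtain ⟨s, rfl⟩ := Submodule.mem_span_singleton.1 hs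
    rw [add_smul, map_add, he, smul_assoc, LinearEquiv.map_smul, map_add, LinearMap.add_apply, map_smul,
      LinearMap.smul_apply, hv, smul_zero, zero_add, LinearMap.map_smul_of_tower, LinearMap.smul_apply, hyv,
      smul_zero]
  obtain ⟨t, ht, htv, ⟨a, hax⟩, hmt⟩ := exists_moving hM hB hF hg hm
  set k := g⁻¹ * t * g with hk
  obtain ⟨hlek, hkfix⟩ := held_conj hM hB hF (g := g) htv
  have hkD : ∀ d ∈ D, k.1 (d • v) = d • v := hkfix
  obtain ⟨ψ, hψy, hψD⟩ := exists_dual_one D hy
  let lam : K →ₗ[F] F := ψ.comp (LinearMap.mulRight F y)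
  have hker : LinearMap.ker ψ = D := by
    symm
    refine Submodule.eq_of_le_of_finrank_le (fun x hx => LinearMap.mem_ker.2 (hψD x hx)) ?_
    have h1 := LinearMap.finrank_range_add_finrank_ker ψ
    have h2 : finrank F (LinearMap.range ψ) = 1 := by
      rw [LinearMap.range_eq_top.2 fun s => ⟨s • y, by rw [map_smul, hψy, smul_eq_mul, mul_one]⟩,
        finrank_top, finrank_self]
    omega
  refine ⟨y • v, lam, k, ⟨mul_mem (mul_mem (inv_mem hg) ht) hg, fun c => ?_, by simp [lam, hψy], fun d hd0 => ?_,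
    fun e he => ?_, fun c => ?_⟩⟩
  · rw [hB.eq]; simp [hv]
  · rw [smul_smul]
    apply hkD
    rw [← hker]
    exact LinearMap.mem_ker.2 (by simpa [lam] using hd0)
  · obtain ⟨c₁, hc₁⟩ := hmt
    apply hc₁ (c₁ - ψ c₁ • y + ψ c₁ • (e * y))
    have hmem : c₁ - ψ c₁ • y ∈ D := by
      rw [← hker]; simp [hψy]
    rw [add_smul, ← hkD _ hmem, smul_assoc (ψ c₁) (e * y), mul_smul, ← he, ← LinearEquiv.map_smul, ← map_add,
      ← smul_assoc, ← add_smul, sub_add_cancel]
  · rw [smul_smul, polar_comm, hk, mul_app, mul_app, polar_inv, hax, hyv]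
    simp only [zero_mul, zero_smul, add_zero, mul_zero]
    rw [sub_eq_add_neg, ← neg_smul, polar_add_left, polar_orth g, hB.eq, f_eq hG hB, LinearMap.map_smul B, LinearMap.smul_apply, B_symm hG hB v (g.1 _), hperp]
    simp [hv]

end

end Cfsg.Agent.ExtFieldThree10
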