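import Mathlib
import Cfsg.Agent.Lib.ExtFieldThree10Climb
import Cfsg.Agent.Lib.ExtFieldGUOrth
import Cfsg.Agent.Lib.OmegaStabTools

/-!
The configuration generates: the subgroup contains the commutator subgroup of the isometry group.
-/

set_option autoImplicit false
set_option linter.unusedSectionVars false
set_option linter.style.haveILetI false
set_option maxHeartbeats 800000

namespace Cfsg.Agent.ExtFieldThree10

open QuadraticMap Module
open Cfsg.Agent.OrthUnitaryQuad Cfsg.Agent.OrthUnitaryRefl
open Cfsg.Agent.OrthUnitarySimple (conj_siegel siegel_congr)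

variable {F K V : Type*} [Field F] [Fintype F] [Field K] [Fintype K] [Algebra F K]
  [AddCommGroup V] [Module F V] [Module K V] [IsScalarTower F K V] [FiniteDimensional K V]
  [FiniteDimensional F V]

variable {Q : QuadraticForm F V} {M : Subgroup (orth Q)}

/-- The Siegel elements along `(u, y)` lie in `M`. -/
def Pair (M : Subgroup (orth Q)) (u y : V) : Prop :=
  ∃ h : Q u = 0, y ∈ ExtFieldGUOrth.W M h

theorem Pair.comm {u y : V} (hy : Q y = 0) (h : Pair M u y) : Pair M y u :=
  ⟨hy, ExtFieldGUOrth.W_comm hy h.2⟩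

theorem Pair.add {u y y' : V} (h : Pair M u y) (h' : Pair M u y') : Pair M u (y + y') :=
  ⟨h.1, add_mem h.2 h'.2⟩

theorem Pair.smul {u y : V} (h : Pair M u y) (s : F) : Pair M u (s • y) :=
  ⟨h.1, Submodule.smul_mem _ s h.2⟩

theorem Pair.conj {u y : V} (h : Pair M u y) {g : orth Q} (hg : g ∈ M) : Pair M (g.1 u) (g.1 y) := by
  obtain ⟨hu, hp, hy⟩ := h
  refine ⟨by rw [map_orth g, hu], by rw [polar_orth g, hp], fun c => ?_⟩
  have := mul_mem (mul_mem hg (hy c)) (inv_mem hg)
  rw [conj_siegel] at this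
  convert this using 2
  rw [map_smul]

/-- The main theorem. -/
theorem commutator_le (hM : Hyp K Q M) : commutator (orth Q) ≤ M := by
  classical
  have hG := hM.geo
  obtain ⟨ψ₀, hψ₀, -⟩ := Cfsg.Agent.ExtFieldMax.exists_dual_one (⊥ : Submodule F K) (z := (1 : K)) (by simp)
  obtain ⟨B₀, hB₀⟩ := exists_lift hG ψ₀ hψ₀
  obtain ⟨v, lam, g, hC⟩ := exists_config hM hB₀
  obtain ⟨B, hB⟩ := exists_lift hG lam hC.one
  haveI : FiniteDimensional F K := Module.Finite.of_finite
  have h2 := two_ne hG hB
  have hv : B v v = 0 := tau_ext hB.one fun c => by rw [← hB.eq, hC.sing, mul_zero, map_zero]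
  have hv0 : v ≠ 0 := fun h => hC.moved 0 (by simp [h])
  obtain ⟨v', w, hF⟩ := exists_frame hG hB hv hv0
  have hpv := Frame.pv hG hB hF
  have hvw := Frame.vw hG hB hF
  have hpw := Frame.pw hG hB hF
  have hQl : ∀ c : K, Q (c • v) = 0 := Q_line hM hB hv
  have hQl' : ∀ c : K, Q (c • v') = 0 := Q_line hM hB hF.pp
  set q := B w w with hq
  set z := g.1 v with hz
  have hzv : B z v = 0 := by
    rw [B_symm hG hB]
    exact tau_ext hB.one fun c => by rw [← hB.eq, hC.perp, mul_zero, map_zero]
  set δ := B z v' with hδ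
  set β := B z w / q with hβ
  have hzd : z = δ • v + β • w := by
    have h := frame_eq hG hB hF z
    rwa [hzv, zero_smul, add_zero] at h
  have hβ0 : β ≠ 0 := fun h => hC.moved δ (by rw [← hz, hzd, h, zero_smul, add_zero])
  have hgl : ∀ p : K, g.1 (p • v) = (p - algebraMap F K (lam p)) • v + lam p • z := by
    intro p
    have h : g.1 ((p - algebraMap F K (lam p)) • v) = (p - algebraMap F K (lam p)) • v := by
      apply hC.fix
      rw [map_sub, Algebra.algebraMap_eq_smul_one, map_smul, hC.one, smul_eq_mul, mul_one, sub_self]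
    conv_lhs => rw [← sub_add_cancel p (algebraMap F K (lam p)), add_smul, map_add, h, algebraMap_smul,
      LinearEquiv.map_smul]
  have hzQ : Q z = 0 := by
    rw [hz, map_orth g]; simpa using hQl 1
  -- F-Siegel elements inside the line
  have hμ : ∀ μ : K, lam μ = 0 → ∀ (c : K) (h : Q (c • v) = 0), μ • v ∈ ExtFieldGUOrth.W M h := by
    intro μ hlμ
    obtain ⟨ψ, hψm, hψμ⟩ := psi_surj hM hB hv hv0 (α := 1) (c := μ) one_ne_zero (by rwa [mul_one])
    have hanti := psi_anti hM hB hv hv0 hψm
    obtain ⟨C, hCm, hCx⟩ := hψm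
    set G := g * C * g⁻¹ with hGd
    have hP : ∀ x, B (g⁻¹.1 x) v = B x v + algebraMap F K (polar Q x z - lam (B x v)) := fun x => by
      refine tau_ext hB.one fun a => ?_
      rw [← hB.eq, hG.adj, polar_inv, hgl, polar_add_right, polar_smul_right, ← hG.adj, hB.eq, sub_mul,
        map_sub, ← Algebra.smul_def, map_smul, smul_eq_mul, mul_add, map_add, mul_comm a (algebraMap F K _),
        ← Algebra.smul_def, map_smul, smul_eq_mul, smul_eq_mul]
      ring
    have hGx : ∀ x, G.1 x = x + (ψ (B x v) + (polar Q x z - lam (B x v)) • μ +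
        algebraMap F K (lam (μ * B x v))) • v - lam (μ * B x v) • z := fun x => by
      rw [hGd, mul_app, mul_app, hCx, map_add, app_inv, hgl, hP]
      set P := B x v
      set s := polar Q x z - lam P
      have e1 : ψ (P + algebraMap F K s) = ψ P + s • μ := by
        rw [map_add, Algebra.algebraMap_eq_smul_one, map_smul, hψμ]
      have e2 : lam (ψ P + s • μ) = - lam (μ * P) := by
        have := hanti P 1
        rw [hψμ, mul_one] at this
        rw [map_add, map_smul, hlμ, smul_zero, add_zero, mul_comm μ P]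
        linear_combination this
      rw [e1, e2, map_neg, sub_neg_eq_add, neg_smul]
      abel
    have hGm : G ∈ M := mul_mem (mul_mem hC.mem hCm) (inv_mem hC.mem)
    intro c hcQ
    refine ⟨by rw [f_eq hG hB]; simp [hv], fun s => ?_⟩
    obtain ⟨t, ht, -, htx⟩ := exists_E hM hB hF (-(s • c) / (β * q))
    have htv : ∀ p : K, t.1 (p • v) = p • v := fun p => by rw [htx]; simp [hv, hvw]
    have htz : t.1 z = z + (s • c) • v := by
      rw [htx, hzv, show B z w = β * q by rw [hβ, div_mul_cancel₀ _ hF.ww]]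
      simp only [zero_mul, zero_smul, add_zero, mul_zero]
      rw [div_mul_cancel₀ _ (mul_ne_zero hβ0 hF.ww), neg_smul, sub_neg_eq_add]
    set S := siegel Q (c • v) (s • μ • v) hcQ
      (by rw [polar_smul_right, f_eq hG hB]; simp [hv]) with hS
    suffices S = t * G * t⁻¹ * G⁻¹ by
      rw [this]
      exact mul_mem (mul_mem (mul_mem ht hGm) (inv_mem ht)) (inv_mem hGm)
    have htv1 : t.1 v = v := by simpa using htv 1
    have hvz : B v z = 0 := by rw [B_symm hG hB, hzv]
    have key : ∀ y, t.1 (G.1 y) = S.1 (G.1 (t.1 y)) := by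
      intro y
      have hPt : B (t.1 y) v = B y v := by
        refine tau_ext hB.one fun a => ?_
        rw [← hB.eq, ← hB.eq, hG.adj, hG.adj a y, ← polar_orth t y (a • v), htv]
      have hzt : polar Q (t.1 y) z = polar Q y z - lam (s • c * B y v) := by
        have : polar Q (t.1 y) (t.1 z) = polar Q y z := polar_orth t y z
        rw [htz, polar_add_right, ← hG.adj, hB.eq, hPt] at this
        linear_combination this
      set P := B y v with hPd
      set s' := polar Q y z
      have hpu : ∀ a : K, polar Q (a • v) (G.1 (t.1 y)) = lam (a * P) := fun a => by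
        rw [hB.eq, hGx, map_sub, map_add, map_smul (B v), LinearMap.map_smul_of_tower (B v), hv, hvz,
          B_symm hG hB v (t.1 y), hPt, smul_zero, smul_zero, add_zero, sub_zero]
      rw [hS, siegel_apply, polar_smul_left, hpu, hpu, show Q (s • μ • v) = 0 by
          rw [QuadraticMap.map_smul, Q_eq hG hB]; simp [hv],
        zero_mul, add_zero, hGx, hGx, hPt, hzt, map_sub, map_add, LinearEquiv.map_smul, htz, htv]
      rw [smul_mul_assoc, map_smul]
      simp only [smul_eq_mul, sub_smul, add_smul, smul_smul, smul_assoc, smul_add, algebraMap_smul]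
      module
    refine Subtype.ext (LinearEquiv.ext fun x => ?_)
    rw [mul_app, mul_app, mul_app, key, app_inv, app_inv]
  obtain ⟨μ₀, hlμ₀, hμ₀0⟩ : ∃ d, lam d = 0 ∧ d ≠ 0 := by
    obtain ⟨d, hd, hd0⟩ := (Submodule.ne_bot_iff (LinearMap.ker lam)).1 (fun h => by
      have h1 := LinearMap.finrank_range_add_finrank_ker lam
      have h3 := Submodule.finrank_le (LinearMap.range lam)
      have := hG.three
      rw [h, finrank_bot, add_zero] at h1
      rw [finrank_self] at h3
      omega)
    exact ⟨d, LinearMap.mem_ker.1 hd, hd0⟩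
  -- the line
  have hUU : ∀ a c : K, Pair M (c • v) (a • v) := by
    intro a
    let P : Submodule F K :=
      { carrier := {a | ∀ c : K, Pair M (c • v) (a • v)}
        add_mem' := fun {a b} ha hb c => by rw [add_smul]; exact (ha c).add (hb c)
        zero_mem' := fun c => ⟨hQl c, by rw [zero_smul]; exact zero_mem _⟩
        smul_mem' := fun s a ha c => by rw [smul_assoc]; exact (ha c).smul s }
    refine (show ∀ a, a ∈ P from fun a => ?_) a
    have hP' : ∀ d : K, d * d ∈ (P.comap (LinearMap.mulLeft F μ₀)).toAddSubgroup := by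
      intro d c
      by_cases hd : d = 0
      · subst hd
        exact ⟨hQl c, by simp⟩
      obtain ⟨h, hh, hl, e1, -⟩ := exists_torus hM hB hF hd
      have h3 := (show Pair M ((c / (d * d)) • v) (μ₀ • v) from
        ⟨hQl _, hμ μ₀ hlμ₀ _ (hQl _)⟩).conj hh
      rw [hl, hl, e1, smul_smul, smul_smul, div_mul_cancel₀ _ (mul_ne_zero hd hd)] at h3
      exact h3
    have := span_sq hM hB _ hP' (a / μ₀)
    simpa [mul_div_cancel₀ _ hμ₀0] using this
  let P : Submodule F K :=
    (ExtFieldGUOrth.W M hzQ).comap ((LinearMap.toSpanSingleton K V v).restrictScalars F)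
  have hker : ∀ p, lam p = 0 → p ∈ P := fun p hp => by
    have h := (hUU 1 p).conj hC.mem
    rw [one_smul, hC.fix p hp] at h
    exact (h.comm hzQ).2
  have hPall : ∀ p, p ∈ P := by
    intro p
    have hsq : ∀ d κ : K, lam κ = 0 → d * d * κ ∈ P := by
      intro d κ hκ
      by_cases hd : d = 0
      · simp [hd]
      obtain ⟨h, hh, hl, e1, -, e3⟩ := exists_torus hM hB hF hd
      have hhz : h.1 z = z + ((d * d - 1) * δ) • v := by
        rw [hzd, map_add, hl, hl, e1, e3, smul_smul, sub_mul, sub_smul, one_mul, mul_comm δ]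
        abel
      have h3 := (show Pair M (κ • v) z from Pair.comm (hQl κ) ⟨hzQ, hker κ hκ⟩).conj hh
      rw [hl, e1, smul_smul, hhz, mul_comm κ] at h3
      have h4 := h3.add (hUU (-((d * d - 1) * δ)) (d * d * κ))
      rw [neg_smul, add_neg_cancel_right] at h4
      exact (h4.comm hzQ).2
    have h := span_sq hM hB (P.comap (LinearMap.mulRight F μ₀)).toAddSubgroup (fun d => hsq d μ₀ hlμ₀) (p / μ₀)
    simpa [div_mul_cancel₀ _ hμ₀0] using h
  -- the isotropic vector of the perpendicular line
  set π := β • w with hπ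
  have hvπ : ∀ c : K, Pair M (c • v) π := fun c => by
    have h := (show Pair M (c • v) z from Pair.comm (hQl c) ⟨hzQ, hPall c⟩).add (hUU (-δ) c)
    rwa [hzd, neg_smul, add_neg_cancel_comm] at h
  have hQπ : Q π = 0 := by
    have e : π = z + (-δ) • v := by rw [hzd, neg_smul, hπ]; abel
    rw [e, QuadraticMap.map_add ⇑Q, hzQ, hQl, polar_comm, hC.perp, add_zero, add_zero]
  obtain ⟨h, hh, hhl, hhv, hhw⟩ := exists_weyl hM hB hF
  set t := -(q / 2) with ht
  have ht0 : t ≠ 0 := neg_ne_zero.2 (div_ne_zero hF.ww h2)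
  have hpπ : ∀ c : K, Pair M (c • v') π := fun c => by
    have h3 := ((hvπ (c / t)).conj hh).smul (-1 : F)
    rw [hπ, hhl, hhl, hhv, hhw, smul_smul, div_mul_cancel₀ _ ht0] at h3
    simpa [hπ] using h3
  -- all vectors of the plane of `v'` and `w` orthogonal to a multiple of `v`
  have hfull : ∀ e : K, e ≠ 0 → OmegaStabTools.Full M (e • v) := by
    intro e he
    set a := -e / (β * q) with ha
    have ha0 : a ≠ 0 := div_ne_zero (neg_ne_zero.2 he) (mul_ne_zero hβ0 hF.ww)
    obtain ⟨E, hE, hEl, hEx⟩ := exists_E hM hB hF a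
    have hEπ : E.1 π = π + e • v := by
      rw [hπ, hEx]
      simp [hF.wv, ← hq, ha]
      rw [div_mul_cancel₀ _ (mul_ne_zero hβ0 hF.ww), neg_smul, sub_neg_eq_add]
    have hEp : ∀ c : K, E.1 (c • v') = c • v' + (c * a) • w - (c * (2⁻¹ * (a * a * q))) • v := fun c => by
      rw [hEx]
      simp [hpv, hpw, ← hq]
      match_scalars <;> ring
    have hQπe : Q (π + e • v) = 0 := by rw [← hEπ, map_orth E, hQπ]
    have hA : ∀ c : K, Pair M (π + e • v) (c • v' + (c * a) • w) := fun c => by
      have h1 := ((hpπ c).comm hQπ).conj hE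
      rw [hEπ, hEp] at h1
      have h3 := ((hvπ (c * (2⁻¹ * (a * a * q)))).add (hUU e _)).comm hQπe
      have h4 := h1.add h3
      rwa [sub_add_cancel] at h4
    have hB' : ∀ c d : K, lam (d * e) = 1 →
        Pair M (e • v) (c • v' + (c * a) • w - lam (c * e) • d • v') := by
      intro c d hd
      obtain ⟨hQ', hW⟩ := (hpπ d).comm hQπ
      obtain ⟨S, hS, hSx⟩ := ExtFieldGUOrth.W_apply (hQl' d) hW
      have p1 : polar Q (d • v') (e • v) = 1 := by rw [hB.eq, map_smul, smul_eq_mul, hpv, mul_one, hd]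
      have h3 := (hA c).conj hS
      rw [map_add, map_add, hSx π, hSx (e • v), hSx (c • v'), hSx ((c * a) • w), p1] at h3
      have q1 : polar Q π π = 0 := by rw [polar_self, hQπ, smul_zero]
      have q2 : polar Q (d • v') π = 0 := by rw [hB.eq, hπ]; simp [hpw]
      have q3 : polar Q π (e • v) = 0 := by rw [hπ, hB.eq]; simp [hF.wv]
      have q4 : polar Q π (c • v') = 0 := by rw [hπ, hB.eq]; simp [hF.wp]
      have q5 : polar Q (d • v') (c • v') = 0 := by rw [hB.eq]; simp [hF.pp]
      have q6 : polar Q π ((c * a) • w) = -lam (c * e) := by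
        rw [hπ, hB.eq, map_smul, smul_eq_mul, ← hq, ← map_neg]
        congr 1
        have hq0 : q ≠ 0 := hF.ww
        rw [ha]; field_simp
      have q7 : polar Q (d • v') ((c * a) • w) = 0 := by rw [hB.eq]; simp [hpw]
      rw [q1, q2, q3, q4, q5, q6, q7] at h3
      convert h3 using 1 <;> module
    set d₁ := e⁻¹ with hd₁
    have hd₁e : lam (d₁ * e) = 1 := by rw [hd₁, inv_mul_cancel₀ he, hC.one]
    have hC' : ∀ e' : K, lam (e' * e) = 0 → Pair M (e • v) (e' • v') := by
      intro e' he'
      have h1 := (hB' d₁ d₁ hd₁e).smul (1 : F)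
      have h3 := (hB' d₁ (d₁ + e') (by rw [add_mul, map_add, hd₁e, he', add_zero])).smul (-1 : F)
      rw [hd₁e] at h1 h3
      convert h1.add h3 using 1
      module
    have hD : ∀ b : K, Pair M (e • v) (b • w) := by
      intro b
      set c := b / a with hc
      have h1 := (hB' c d₁ hd₁e).add ((hC' (c - lam (c * e) • d₁) (by
        rw [sub_mul, map_sub, smul_mul_assoc, map_smul, hd₁e, smul_eq_mul, mul_one, sub_self])).smul (-1 : F))
      convert h1 using 1
      rw [show b = c * a by rw [hc, div_mul_cancel₀ _ ha0], sub_smul, smul_assoc]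
      module
    intro w₀ hu hw
    have hw0 : lam (B w₀ v * e) = 0 := by
      rw [B_symm hG hB w₀, mul_comm, ← hB.eq]; exact hw
    have hd := frame_eq hG hB hF w₀
    obtain ⟨hq', hp', hfin⟩ := ((hUU (B w₀ v') e).add (hC' _ hw0)).add (hD (B w₀ w / B w w))
    have := hfin 1
    rw [siegel_congr hu _ (show (1 : F) • (B w₀ v' • v + B w₀ v • v' + (B w₀ w / B w w) • w) = w₀ by
      rw [one_smul, ← hd])] at this
    exact this
  have hQv : Q v = 0 := by simpa using hQl 1
  have hQv' : Q v' = 0 := by simpa using hQl' 1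
  refine OmegaStabTools.commutator_le_of_full hG.nd ?_ hQv hQv' ?_ (by simpa using hfull 1 one_ne_zero) ?_
  · rw [← Module.finrank_mul_finrank F K V, hG.dim]
    have := hG.three
    omega
  · rw [f_eq hG hB, hF.vp, hC.one]; exact one_ne_zero
  · have := (hfull t⁻¹ (inv_ne_zero ht0)).of_mem hh
    rwa [hhl, hhv, smul_smul, inv_mul_cancel₀ ht0, one_smul] at this

end Cfsg.Agent.ExtFieldThree10
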