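import Mathlib
import Cfsg.Agent.Lib.ExtFieldThree10Gen
import Cfsg.Agent.Lib.OrthUnitaryOmega
import Cfsg.Agent.Lib.OmegaMaxGlue

/-!
From the theorem on subgroups of `orth Q` to maximality of the normaliser of a field of self-adjoint matrices.
-/

set_option autoImplicit false
set_option linter.unusedSectionVars false
set_option linter.style.haveILetI false
set_option maxHeartbeats 1000000
set_option synthInstance.maxHeartbeats 400000

namespace Cfsg.Agent.ExtFieldThree10Glue

open QuadraticMap Module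
open Cfsg.Agent.OrthUnitaryQuad Cfsg.Agent.OmegaGeo Cfsg.Agent.OmegaMaxGlue
open Cfsg.Agent.ExtFieldMax (exists_dual_one)
open scoped Matrix MatrixGroups

section

variable {F K V : Type*} [Field F] [Fintype F] [Field K] [Fintype K] [Algebra F K]
  [AddCommGroup V] [Module F V] [Module K V] [IsScalarTower F K V] [FiniteDimensional K V]
  [FiniteDimensional F V] {Q : QuadraticForm F V}

theorem exists_not_semilinear (hG : ExtFieldThree10.Geo K Q) :
    ∃ g ∈ commutator (orth Q), ∃ c : K, ∀ d : K, ∃ x : V, g.1 (c • x) ≠ d • g.1 x := by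
  classical
  haveI : FiniteDimensional F K := Module.Finite.of_finite
  have hr := hG.prime
  obtain ⟨τ, hτ, -⟩ := exists_dual_one (⊥ : Submodule F K) (z := (1 : K)) (by simp)
  obtain ⟨B, hB⟩ := ExtFieldThree10.exists_lift hG τ hτ
  obtain ⟨v, hv0, hv⟩ := ExtFieldThree10.exists_sing hG hB
  obtain ⟨v', w, hF⟩ := ExtFieldThree10.exists_frame hG hB hv hv0
  have hv' := hF.pp
  have hvv' := hF.vp
  obtain ⟨κ, hκ, hκ0⟩ : ∃ d, τ d = 0 ∧ d ≠ 0 := by
    obtain ⟨d, hd, hd0⟩ := (Submodule.ne_bot_iff (LinearMap.ker τ)).1 (fun h => by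
      have h1 := LinearMap.finrank_range_add_finrank_ker τ
      have h3 := Submodule.finrank_le (LinearMap.range τ)
      have := hr.two_le
      rw [h, finrank_bot, add_zero] at h1
      rw [finrank_self] at h3
      omega)
    exact ⟨d, LinearMap.mem_ker.1 hd, hd0⟩
  have hn : 5 ≤ finrank F V := by
    rw [← Module.finrank_mul_finrank F K V, hG.dim]
    have := hG.three
    omega
  have hQl : ∀ c : K, Q (c • v) = 0 := fun c => by rw [ExtFieldThree10.Q_eq hG hB]; simp [hv]
  have hQv : Q v = 0 := by simpa using hQl 1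
  have hperp : polar Q (κ • v) v = 0 := by rw [hB.eq, hv, mul_zero, map_zero]
  obtain ⟨g, hg, hgx⟩ := exists_siegel hG.nd hn (hQl κ) hQv ((polar_comm _ v (κ • v)).trans hperp)
  refine ⟨g, hg, κ, fun d => ?_⟩
  by_contra hcon
  push Not at hcon
  have hfix : ∀ c : K, g.1 (c • v) = c • v := fun c => by
    rw [hgx, ExtFieldThree10.f_eq hG hB v, hB.eq κ v (c • v)]
    simp [hv]
  have hdκ : d = κ := by
    have := hcon v
    rw [hfix, show g.1 v = v by simpa using hfix 1] at this
    exact (smul_left_injective K hv0 this).symm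
  subst hdκ
  have h := hcon v'
  rw [hgx, hgx, hB.eq _ v (d • v'), hB.eq _ v v', ExtFieldThree10.f_eq hG hB v, ExtFieldThree10.f_eq hG hB v, map_smul,
    hvv', smul_eq_mul, mul_one, hB.one, hκ, zero_smul, one_smul, smul_sub, smul_add, add_zero] at h
  simp only [zero_smul, sub_zero, hκ] at h
  have h' := congrArg (fun q => B q v') h
  simp [hv', hvv', LinearMap.map_smul_of_tower, Algebra.smul_def] at h'
  have h'' := congrArg τ h'
  rw [map_neg, Algebra.algebraMap_eq_smul_one, map_smul, hB.one, smul_eq_mul, mul_one] at h''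
  have hs : τ (d * d) = 0 :=
    (mul_eq_zero.1 (show (2 : F) * τ (d * d) = 0 by linear_combination -h'')).resolve_left hG.two
  rw [hs, map_zero, neg_zero] at h'
  exact hκ0 (mul_self_eq_zero.1 h'.symm)

end

variable {F : Type*} [Field F] [Fintype F] {ι : Type} [Fintype ι] [DecidableEq ι]

/-- The degree divides the dimension. -/
theorem dvd_card {r : ℕ} [Nonempty ι] (K : Subalgebra F (Matrix ι ι F)) (hK : Cfsg.Geo.IsFieldSubalgebra r K) :
    r ∣ Fintype.card ι := by
  letI : CommRing K :=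
    { (inferInstance : Ring K) with mul_comm := fun x y => Subtype.ext (hK.comm _ x.2 _ y.2) }
  have hfld : IsField K := by
    refine ⟨⟨0, 1, zero_ne_one⟩, mul_comm, fun {x} hx => ?_⟩
    obtain ⟨y, hy, hxy⟩ := hK.inv x x.2 (fun h => hx (Subtype.ext h))
    exact ⟨⟨y, hy⟩, Subtype.ext hxy⟩
  letI : Field K := hfld.toField
  haveI : IsScalarTower F K (ι → F) := ⟨fun c e x => by
    show ((c • e : K) : Matrix ι ι F) *ᵥ x = c • ((e : Matrix ι ι F) *ᵥ x)
    rw [Subalgebra.coe_smul, Matrix.smul_mulVec]⟩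
  have h := Module.finrank_mul_finrank F K (ι → F)
  rw [show finrank F K = r from hK.finrank_eq, Module.finrank_fintype_fun_eq_card] at h
  exact ⟨_, h.symm⟩

/-- Maximality of the normaliser of a self-adjoint field. -/
theorem isMaximalIn (q : QuadraticForm F (ι → F)) (hnd : (polarBilin q).Nondegenerate) (h2 : (2 : F) ≠ 0)
    {r : ℕ} (hr : r.Prime) (K : Subalgebra F (Matrix ι ι F)) (hK : Cfsg.Geo.IsFieldSubalgebra r K)
    (hsa : Cfsg.Geo.IsSelfAdjointFor (polar ⇑q) K) (hdim : Fintype.card ι = 3 * r) (h3 : 3 ≤ r) :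
    Cfsg.Geo.IsMaximalIn (Cfsg.Geo.omegaGL ⇑q) (Cfsg.Geo.subalgebraNormalizer K ⊓ Cfsg.Geo.omegaGL ⇑q) := by
  classical
  haveI : Nonempty ι := Fintype.card_pos_iff.1 (by have := hr.two_le; omega)
  letI : CommRing K :=
    { (inferInstance : Ring K) with mul_comm := fun x y => Subtype.ext (hK.comm _ x.2 _ y.2) }
  have hfld : IsField K := by
    refine ⟨⟨0, 1, zero_ne_one⟩, mul_comm, fun {x} hx => ?_⟩
    obtain ⟨y, hy, hxy⟩ := hK.inv x x.2 (fun h => hx (Subtype.ext h))
    exact ⟨⟨y, hy⟩, Subtype.ext hxy⟩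
  letI : Field K := hfld.toField
  haveI : Finite K := Subtype.finite
  letI : Fintype K := Fintype.ofFinite K
  have hsmul : ∀ (e : K) (x : ι → F), e • x = (e : Matrix ι ι F) *ᵥ x := fun e x => rfl
  haveI : IsScalarTower F K (ι → F) := ⟨fun c e x => by
    rw [hsmul, hsmul, Subalgebra.coe_smul, Matrix.smul_mulVec]⟩
  haveI : FiniteDimensional K (ι → F) := Module.Finite.of_restrictScalars_finite F K _
  have hrk : finrank F K = r := hK.finrank_eq
  have hrank : r * finrank K (ι → F) = Fintype.card ι := by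
    have h := Module.finrank_mul_finrank F K (ι → F)
    rw [hrk, Module.finrank_fintype_fun_eq_card] at h
    exact h
  have hd : finrank K (ι → F) = 3 :=
    Nat.eq_of_mul_eq_mul_left hr.pos (by rw [hrank, hdim, mul_comm])
  have hadj : ∀ (c : K) x y, polar q (c • x) y = polar q x (c • y) := fun c x y => by
    rw [hsmul, hsmul]; exact hsa c c.2 x y
  -- elements normalising `K` are semilinear
  have hsemi : ∀ g : orth q, toGL q g ∈ Cfsg.Geo.subalgebraNormalizer K →
      ∀ c : K, ∃ d : K, ∀ x : ι → F, g.1 (c • x) = d • g.1 x := fun g hg c =>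
    ⟨⟨_, (hg c).1 c.2⟩, fun x => by
      rw [hsmul, hsmul, ← toGL_mulVec, ← toGL_mulVec, Matrix.mulVec_mulVec, Matrix.mulVec_mulVec,
        Units.inv_mul_cancel_right]⟩
  have hG : ExtFieldThree10.Geo K q := ⟨h2, hrk ▸ hr, hrk ▸ h3, hd, hadj, hnd⟩
  refine ⟨lt_of_le_of_ne inf_le_right fun h => ?_, fun M h1 h2' => ?_⟩
  · obtain ⟨g, hg, c, hc⟩ := exists_not_semilinear hG
    have := toGL_mem hg
    rw [← h] at this
    obtain ⟨d, hd'⟩ := hsemi g this.1 c
    obtain ⟨x, hx⟩ := hc d
    exact hx (hd' x)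
  by_cases h : M ≤ Cfsg.Geo.subalgebraNormalizer K
  · exact Or.inl (le_antisymm (le_inf h h2') h1)
  obtain ⟨g₀, hg₀, hg₀N⟩ := SetLike.not_le_iff_exists.1 h
  obtain ⟨g, hgc, rfl⟩ := exists_of_mem_omegaGL (h2' hg₀)
  right
  refine le_antisymm h2' fun y hy => ?_
  obtain ⟨k, hk, rfl⟩ := exists_of_mem_omegaGL hy
  let M' := M.comap (glHom q) ⊓ commutator (orth q)
  suffices commutator (orth q) ≤ M' from (this hk).1
  refine ExtFieldThree10.commutator_le (K := K) ⟨hG, fun τ hτ hlin => ⟨?_, hτ⟩, fun g hg => ?_, g, ⟨hg₀, hgc⟩, ?_⟩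
  · refine Subgroup.mem_comap.2 (h1 ⟨?_, toGL_mem hτ⟩)
    rw [glHom_apply]
    have hconj : ∀ A : K, (toGL q τ : Matrix ι ι F) * (A : Matrix ι ι F) * ((toGL q τ)⁻¹ : GL ι F) = A := by
      intro A
      rw [Units.mul_inv_eq_iff_eq_mul]
      refine Matrix.ext_iff_mulVec.mpr fun x => ?_
      rw [← Matrix.mulVec_mulVec, ← Matrix.mulVec_mulVec, toGL_mulVec, toGL_mulVec, ← hsmul, hlin, hsmul]
    intro A
    constructor
    · intro hA
      rw [hconj ⟨A, hA⟩]
      exact hA
    · intro hA
      have := (Units.mul_right_inj (toGL q τ)).1 ((Units.mul_left_inj (toGL q τ)⁻¹).1 (hconj ⟨_, hA⟩))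
      rw [← this]
      exact hA
  · have hk0 : commutator (orth q) ≤ (OrthUnitaryOmega.detHom q).ker := by
      rw [commutator_def, Subgroup.commutator_le]
      intro a _ b _
      rw [MonoidHom.mem_ker, map_commutatorElement, commutatorElement_eq_one_iff_mul_comm]
      exact mul_comm _ _
    have h : ((OrthUnitaryOmega.detHom q g : Fˣ) : F) = 1 := by rw [MonoidHom.mem_ker.1 (hk0 hg.2), Units.val_one]
    rw [← h, ← LinearEquiv.coe_det]
    rfl
  · by_contra hcon
    push Not at hcon
    apply hg₀N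
    choose d hd' using hcon
    have hval : ∀ c : K, (toGL q g : Matrix ι ι F) * (c : Matrix ι ι F) * ((toGL q g)⁻¹ : GL ι F) =
        (d c : Matrix ι ι F) := by
      intro c
      rw [Units.mul_inv_eq_iff_eq_mul]
      refine Matrix.ext_iff_mulVec.mpr fun x => ?_
      rw [← Matrix.mulVec_mulVec, ← Matrix.mulVec_mulVec, toGL_mulVec, toGL_mulVec, ← hsmul, ← hsmul, hd']
    have hinj : Function.Injective d := fun a b hab => Subtype.ext
      ((Units.mul_right_inj (toGL q g)).1 ((Units.mul_left_inj (toGL q g)⁻¹).1 (by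
        rw [hval, hval, hab])))
    intro A
    constructor
    · intro hA
      rw [hval ⟨A, hA⟩]
      exact (d ⟨A, hA⟩).2
    · intro hA
      obtain ⟨A', hA'⟩ := (Finite.injective_iff_surjective.1 hinj) ⟨_, hA⟩
      have e := hval A'
      rw [hA'] at e
      have := (Units.mul_right_inj (toGL q g)).1 ((Units.mul_left_inj (toGL q g)⁻¹).1 e)
      rw [← this]
      exact A'.2

end Cfsg.Agent.ExtFieldThree10Glue
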