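import Mathlib

/-!
A group of isometries of an F-symplectic space (|F| odd and at least 5, dimension 4) containing the isometries commuting
with an anti-self-adjoint square root `J` of a non-square contains all symplectic transvections, unless it
normalises `F[J]`.  Key point: if `a = g v` is anisotropic for an isotropic `v`, the conjugated unitary transvection
has tensor `ν a² - b²`; two of them differ by a short root tensor `u w + w u` with `u` anisotropic, and two of
these have a transvection with centre `u` as commutator.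
-/

set_option autoImplicit false
set_option linter.unusedSectionVars false

namespace Cfsg.Agent.ExtFieldUFour83

open Module

variable {F V : Type*} [Field F] [Fintype F] [AddCommGroup V] [Module F V] [FiniteDimensional F V]

/-- The form `B(x, y) = f (J x) y`. -/
def Bf (f : V →ₗ[F] V →ₗ[F] F) (J : V →ₗ[F] V) : V →ₗ[F] V →ₗ[F] F := f.comp J

/-- The setting. -/
structure Setting (f : V →ₗ[F] V →ₗ[F] F) (J : V →ₗ[F] V) (ν : F) : Prop where
  odd : (2 : F) ≠ 0
  alt : ∀ x, f x x = 0
  nondeg : ∀ x, (∀ y, f x y = 0) → x = 0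
  anti : ∀ x y, f (J x) y = - f x (J y)
  sq : ∀ x, J (J x) = ν • x
  nonsq : ∀ s : F, s * s ≠ ν
  dim : finrank F V = 4
  five : 5 ≤ Fintype.card F

/-- The hypotheses on the group. -/
structure Hyp (M : Subgroup (V ≃ₗ[F] V)) (f : V →ₗ[F] V →ₗ[F] F) (J : V →ₗ[F] V) : Prop where
  lin : ∀ g : V ≃ₗ[F] V, (∀ x, g (J x) = J (g x)) → (∀ x y, f (g x) (g y) = f x y) → g ∈ M
  pres : ∀ g ∈ M, ∀ x y, f (g x) (g y) = f x y

/-- The transvection `(u, c)` lies in `M`. -/
def InM (M : Subgroup (V ≃ₗ[F] V)) (f : V →ₗ[F] V →ₗ[F] F) (u : V) (c : F) : Prop :=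
  ∃ t ∈ M, ∀ x, t x = x + (c * f x u) • u

/-- The short root element with tensor `u w + w u`, with parameter `s`, lies in `M`. -/
def InS (M : Subgroup (V ≃ₗ[F] V)) (f : V →ₗ[F] V →ₗ[F] F) (u w : V) (s : F) : Prop :=
  ∃ t ∈ M, ∀ x, t x = x + (s * f x u) • w + (s * f x w) • u

theorem mul_app (g h : V ≃ₗ[F] V) (x : V) : (g * h) x = g (h x) := rfl

theorem app_inv (g : V ≃ₗ[F] V) (x : V) : g (g⁻¹ x) = x := g.apply_symm_apply x

theorem inv_app (g : V ≃ₗ[F] V) (x : V) : g⁻¹ (g x) = x := g.symm_apply_apply x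

variable {f : V →ₗ[F] V →ₗ[F] F} {J : V →ₗ[F] V} {ν : F} {M : Subgroup (V ≃ₗ[F] V)}

section
variable (hS : Setting f J ν)
include hS

theorem skew (x y : V) : f y x = - f x y := by
  have h := hS.alt (x + y)
  simp only [map_add, LinearMap.add_apply, hS.alt, zero_add, add_zero] at h
  linear_combination h

theorem f_Jl (x y : V) : f (J x) y = Bf f J x y := rfl

theorem B_symm (x y : V) : Bf f J x y = Bf f J y x := by
  rw [← f_Jl hS, ← f_Jl hS, hS.anti, skew hS (J y) x, neg_neg]

theorem f_right (x y : V) : f x (J y) = - Bf f J x y := by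
  rw [← f_Jl hS, hS.anti, neg_neg]

theorem B_J (x y : V) : Bf f J (J x) y = ν * f x y := by
  rw [← f_Jl hS, hS.sq, map_smul, LinearMap.smul_apply, smul_eq_mul]

theorem B_right_J (x y : V) : Bf f J x (J y) = - (ν * f x y) := by
  rw [B_symm hS, B_J hS, skew hS x y, mul_neg]

theorem nu_ne : ν ≠ 0 := fun h => hS.nonsq 0 (by rw [h, mul_zero])

theorem norm_ne {s t : F} (h : ¬(s = 0 ∧ t = 0)) : s * s - ν * (t * t) ≠ 0 := fun e => by
  by_cases ht : t = 0
  · rw [ht, mul_zero, mul_zero, sub_zero, mul_self_eq_zero] at e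
    exact h ⟨e, ht⟩
  · exact hS.nonsq (s / t) (by field_simp; linear_combination e)

theorem B_nondeg {x : V} (h : ∀ y, Bf f J x y = 0) : x = 0 := by
  have h1 : J x = 0 := hS.nondeg _ h
  have h2 := hS.sq x
  rw [h1, map_zero] at h2
  exact (smul_eq_zero.1 h2.symm).resolve_left (nu_ne hS)

/-- An anisotropic vector among `y`, `z`, `y + z`. -/
theorem exists_aniso_of (W : Submodule F V) {y z : V} (hy : y ∈ W) (hz : z ∈ W) (h : Bf f J y z ≠ 0) :
    ∃ x ∈ W, Bf f J x x ≠ 0 := by
  by_cases h1 : Bf f J y y = 0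
  · by_cases h2 : Bf f J z z = 0
    · refine ⟨y + z, add_mem hy hz, ?_⟩
      simp only [map_add, LinearMap.add_apply, h1, h2, B_symm hS z y, zero_add, add_zero, ← two_mul]
      exact mul_ne_zero hS.odd h
    · exact ⟨z, hz, h2⟩
  · exact ⟨y, hy, h1⟩

/-- The projection on the `J`-line of an anisotropic vector. -/
theorem proj_perp {d : V} (hd : Bf f J d d ≠ 0) (x : V) :
    ∃ s t : F, Bf f J (x - (s • d + t • J d)) d = 0 ∧ f (x - (s • d + t • J d)) d = 0 := by
  refine ⟨Bf f J x d / Bf f J d d, f x d / Bf f J d d, ?_, ?_⟩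
  · simp only [map_sub, map_add, map_smul, LinearMap.sub_apply, LinearMap.add_apply, LinearMap.smul_apply,
      smul_eq_mul, B_J hS, hS.alt]
    field_simp
    ring
  · simp only [map_sub, map_add, map_smul, LinearMap.sub_apply, LinearMap.add_apply, LinearMap.smul_apply,
      smul_eq_mul, hS.alt, f_Jl hS]
    field_simp
    ring

/-- The orthogonal of an anisotropic vector and its image is anisotropic. -/
theorem perp_aniso {u w : V} (huu : Bf f J u u ≠ 0) (hw0 : w ≠ 0) (h1 : Bf f J w u = 0) (h2 : f w u = 0) :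
    Bf f J w w ≠ 0 := by
  intro hww
  have huw : f u w = 0 := by rw [skew hS w u, h2, neg_zero]
  have huw' : Bf f J u w = 0 := by rw [B_symm hS, h1]
  have hli : LinearIndependent F ![u, J u, w, J w] := by
    rw [Fintype.linearIndependent_iff]
    intro g hg
    simp [Fin.sum_univ_four] at hg
    have e1 := congrArg (fun z => Bf f J z u) hg
    have e2 := congrArg (fun z => f z u) hg
    simp [h1, B_J hS, h2, hS.alt] at e1
    simp [h2, f_Jl hS, h1, hS.alt] at e2
    have g0 : g 0 = 0 := e1.resolve_right huu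
    have g1 : g 1 = 0 := e2.resolve_right huu
    rw [g0, g1, zero_smul, zero_smul, zero_add, zero_add] at hg
    by_contra hne
    have h3 : ¬ (g 2 = 0 ∧ g 3 = 0) := fun h => hne fun i => by fin_cases i <;> first | exact g0 | exact g1 | exact h.1 | exact h.2
    have hJ := congrArg J hg
    simp only [map_add, map_smul, map_zero, hS.sq, smul_smul] at hJ
    have h4 : (g 2 * g 2 - ν * (g 3 * g 3)) • w =
        g 2 • (g 2 • w + g 3 • J w) - g 3 • (g 2 • J w + (g 3 * ν) • w) := by module
    rw [hg, hJ, smul_zero, smul_zero, sub_zero] at h4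
    exact norm_ne hS h3 ((smul_eq_zero.1 h4).resolve_right hw0)
  have hsp : Submodule.span F (Set.range ![u, J u, w, J w]) = ⊤ :=
    hli.span_eq_top_of_card_eq_finrank (by rw [hS.dim, Fintype.card_fin])
  refine hw0 (B_nondeg hS fun y => ?_)
  obtain ⟨g, rfl⟩ := (Submodule.mem_span_range_iff_exists_fun F).1 (hsp.ge (Submodule.mem_top (x := y)))
  simp [Fin.sum_univ_four, h1, h2, hww, B_right_J hS, hS.alt]

end

section
variable (hS : Setting f J ν) (hM : Hyp M f J)
include hS hM

theorem exists_el (T : V →ₗ[F] V) (hJ : ∀ x, T (J x) = J (T x)) (hf : ∀ x y, f (T x) (T y) = f x y) :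
    ∃ g ∈ M, ∀ x, g x = T x := by
  have hinj : Function.Injective T := by
    rw [injective_iff_map_eq_zero]
    intro x hx
    exact hS.nondeg x fun y => by rw [← hf, hx, map_zero, LinearMap.zero_apply]
  haveI : Finite V := Module.finite_of_finite F
  let g : V ≃ₗ[F] V := LinearEquiv.ofBijective T (Finite.injective_iff_bijective.1 hinj)
  exact ⟨g, hM.lin g hJ hf, fun _ => rfl⟩

/-- The unitary transvections. -/
theorem exists_tau {v : V} (hv : Bf f J v v = 0) (s : F) :
    ∃ g ∈ M, ∀ x, g x = x + (s * f x v) • v + (s * ν⁻¹ * Bf f J x v) • J v := by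
  have hnu := nu_ne hS
  let T : V →ₗ[F] V := LinearMap.id + s • (f.flip v).smulRight v + (s * ν⁻¹) • ((Bf f J).flip v).smulRight (J v)
  have hT : ∀ x, T x = x + (s * f x v) • v + (s * ν⁻¹ * Bf f J x v) • J v := fun x => by simp [T, smul_smul]
  obtain ⟨g, hg, hgT⟩ := exists_el hS hM T (fun x => by
      simp only [hT, map_add, map_smul, hS.sq, smul_smul, B_J hS, f_Jl hS]
      rw [show s * ν⁻¹ * (ν * f x v) = s * f x v by field_simp,
        show s * ν⁻¹ * Bf f J x v * ν = s * Bf f J x v by field_simp]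
      abel) (fun x y => by
      simp only [hT, map_add, map_smul, LinearMap.add_apply, LinearMap.smul_apply, smul_eq_mul, hS.alt,
        f_right hS, f_Jl hS, hv, B_right_J hS]
      rw [B_symm hS v y, skew hS y v]
      ring)
  exact ⟨g, hg, fun x => by rw [hgT, hT]⟩

/-- The quasi-reflection at an anisotropic vector. -/
theorem exists_qr {d : V} (hd : Bf f J d d ≠ 0) {α β : F} (h : α * α - ν * (β * β) = 1) :
    ∃ g ∈ M, ∀ x, g x = x + (((α - 1) * Bf f J x d + ν * β * f x d) / Bf f J d d) • d +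
      (((α - 1) * f x d + β * Bf f J x d) / Bf f J d d) • J d := by
  set N := Bf f J d d with hN
  let T : V →ₗ[F] V := LinearMap.id +
    (((α - 1) / N) • (Bf f J).flip d + (ν * β / N) • f.flip d).smulRight d +
    (((α - 1) / N) • f.flip d + (β / N) • (Bf f J).flip d).smulRight (J d)
  have hT : ∀ x, T x = x + (((α - 1) * Bf f J x d + ν * β * f x d) / N) • d +
      (((α - 1) * f x d + β * Bf f J x d) / N) • J d := fun x => by
    simp only [T, LinearMap.add_apply, LinearMap.id_apply, LinearMap.smulRight_apply, LinearMap.smul_apply,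
      LinearMap.flip_apply, smul_eq_mul]
    match_scalars <;> ring
  obtain ⟨g, hg, hgT⟩ := exists_el hS hM T (fun x => by
      simp only [hT, map_add, map_smul, hS.sq, smul_smul, B_J hS, f_Jl hS]
      match_scalars <;> ring) (fun x y => by
      simp only [hT, map_add, map_smul, LinearMap.add_apply, LinearMap.smul_apply, smul_eq_mul, hS.alt,
        f_right hS, f_Jl hS, ← hN, B_right_J hS]
      rw [B_symm hS d y, skew hS y d]
      field_simp
      linear_combination -N * (Bf f J x d * f y d - f x d * Bf f J y d) * h)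
  exact ⟨g, hg, fun x => by rw [hgT, hT]⟩

theorem InM.conj {u : V} {c : F} (h : InM M f u c) {g : V ≃ₗ[F] V} (hg : g ∈ M) : InM M f (g u) c := by
  obtain ⟨t, ht, htx⟩ := h
  refine ⟨g * t * g⁻¹, mul_mem (mul_mem hg ht) (inv_mem hg), fun x => ?_⟩
  rw [mul_app, mul_app, htx, map_add, map_smul, app_inv]
  congr 2
  rw [show f x (g u) = f (g (g⁻¹ x)) (g u) by rw [app_inv], hM.pres g hg]

theorem InS.conj {u w : V} {s : F} (h : InS M f u w s) {g : V ≃ₗ[F] V} (hg : g ∈ M) :
    InS M f (g u) (g w) s := by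
  obtain ⟨t, ht, htx⟩ := h
  refine ⟨g * t * g⁻¹, mul_mem (mul_mem hg ht) (inv_mem hg), fun x => ?_⟩
  rw [mul_app, mul_app, htx, map_add, map_add, map_smul, map_smul, app_inv]
  have e : ∀ y, f (g⁻¹ x) y = f x (g y) := fun y => by rw [← hM.pres g hg, app_inv]
  rw [e, e]

/-- Two short root elements with a common anisotropic centre give a transvection. -/
theorem transv_of_S {u w : V} (huu : Bf f J u u ≠ 0) (hw0 : w ≠ 0) (h1 : Bf f J w u = 0) (h2 : f w u = 0)
    (hall : ∀ s, InS M f u w s) (c : F) : InM M f u c := by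
  have hnu := nu_ne hS
  obtain ⟨d, hd, d1, d2, d3, d4⟩ : ∃ d, Bf f J d d ≠ 0 ∧ Bf f J d u = 0 ∧ f d u = 0 ∧ f w d = 0 ∧ Bf f J w d ≠ 0 :=
    ⟨w, perp_aniso hS huu hw0 h1 h2, h1, h2, hS.alt w, perp_aniso hS huu hw0 h1 h2⟩
  have hν1 : 1 - ν ≠ 0 := sub_ne_zero.2 fun e => hS.nonsq 1 (by rw [mul_one, e])
  set β := 2 / (1 - ν) with hβd
  obtain ⟨h, hh, hhx⟩ := exists_qr hS hM hd (α := (1 + ν) / (1 - ν)) (β := β) (by
    rw [hβd]; field_simp; ring)
  have hβ : β ≠ 0 := div_ne_zero hS.odd hν1
  have u1 : f u d = 0 := by rw [skew hS d u, d2, neg_zero]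
  have u2 : Bf f J u d = 0 := by rw [B_symm hS, d1]
  have hu : h u = u := by simp [hhx, u1, u2]
  set w' := h w with hw'
  have hww' : f w' w ≠ 0 := by
    have : f w' w = β * Bf f J w d * Bf f J w d / Bf f J d d := by
      rw [hw', hhx]
      simp only [map_add, map_smul, LinearMap.add_apply, LinearMap.smul_apply, smul_eq_mul, hS.alt, f_Jl hS,
        d3, skew hS w d, B_symm hS d w]
      ring
    rw [this]
    exact div_ne_zero (mul_ne_zero (mul_ne_zero hβ d4) d4) hd
  have huw : f u w = 0 := by rw [skew hS w u, h2, neg_zero]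
  have huw' : f u w' = 0 := by
    have := hM.pres h hh u w
    rwa [hu, huw] at this
  have hw'u : f w' u = 0 := by rw [skew hS u w', huw', neg_zero]
  set e := f w' w with he
  have hew : f w w' = -e := skew hS w' w
  obtain ⟨g1, hg1, e1⟩ := hall (c / (2 * e))
  obtain ⟨g2, hg2, e2⟩ := hall (-(c / (2 * e)))
  obtain ⟨k1, hk1, f1⟩ := InS.conj hS hM (hall 1) hh
  obtain ⟨k2, hk2, f2⟩ := InS.conj hS hM (hall (-1)) hh
  refine ⟨g1 * k1 * g2 * k2, mul_mem (mul_mem (mul_mem hg1 hk1) hg2) hk2, fun x => ?_⟩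
  rw [mul_app, mul_app, mul_app, f2, e2, f1, e1, hu, ← hw']
  simp only [map_add, map_smul, LinearMap.add_apply, LinearMap.smul_apply, smul_eq_mul, hS.alt, huw, huw', h2,
    hw'u, ← he, hew]
  have h2' := hS.odd
  match_scalars <;> field_simp <;> ring

/-- The full transvection group at `a` from the differences with one other vector. -/
theorem transv_of_diff {a y : V} (hay : f a y ≠ 0)
    (hall : ∀ t, ∃ g ∈ M, ∀ x, g x = x + (t * f x a) • a - (t * f x y) • y + (-(t * t) * f x y * f y a) • a) :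
    ∀ c, InM M f a c := by
  classical
  obtain ⟨e, he⟩ : ∃ e, e = f a y := ⟨_, rfl⟩
  have hea : f y a = -e := by rw [skew hS a y, he]
  have key : ∀ v t, ∀ x, x + (t * f x v) • v + (-t * f (x + (t * f x v) • v) v) • v = x := fun v t x => by
    simp only [map_add, map_smul, LinearMap.add_apply, LinearMap.smul_apply, smul_eq_mul, hS.alt]
    module
  let T : V → F → (V ≃ₗ[F] V) := fun v t =>
    { toFun := fun x => x + (t * f x v) • v
      invFun := fun x => x + (-t * f x v) • v
      map_add' := fun x x' => by simp only [map_add, LinearMap.add_apply]; module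
      map_smul' := fun c x => by simp only [map_smul, LinearMap.smul_apply, RingHom.id_apply, smul_eq_mul]; module
      left_inv := key v t
      right_inv := fun x => by have := key v (-t) x; rwa [neg_neg] at this }
  have hT : ∀ v t x, T v t x = x + (t * f x v) • v := fun v t x => rfl
  have hadd : ∀ v t t', T v t * T v t' = T v (t + t') := fun v t t' => LinearEquiv.ext fun x => by
    simp only [mul_app, hT, map_add, map_smul, LinearMap.add_apply, LinearMap.smul_apply, smul_eq_mul, hS.alt]
    module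
  have hzero : ∀ v, T v 0 = 1 := fun v => LinearEquiv.ext fun x => by simp [hT]
  have hdiff : ∀ t, T a t * T y (-t) ∈ M := fun t => by
    obtain ⟨g, hg, hgx⟩ := hall t
    convert hg using 1
    refine LinearEquiv.ext fun x => ?_
    simp only [mul_app, hT, hgx, map_add, map_smul, LinearMap.add_apply, LinearMap.smul_apply, smul_eq_mul]
    module
  -- words whose total parameter is recorded
  let G : (V ≃ₗ[F] V) → F → Prop := fun g t => g * T a (-t) ∈ M
  have sa : ∀ {g t} (t' : F), G g t → G (g * T a t') (t + t') := fun {g t} t' h => by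
    show g * T a t' * T a (-(t + t')) ∈ M
    rwa [mul_assoc, hadd, show t' + -(t + t') = -t by ring]
  have sy : ∀ {g t} (t' : F), G g t → G (g * T y t') (t + t') := fun {g t} t' h => by
    show g * T y t' * T a (-(t + t')) ∈ M
    have e1 : (g * T a (-t)) * (T a t * T y (-t)) * (T a (t + t') * T y (-(t + t')))⁻¹ =
        g * T y t' * T a (-(t + t')) := by
      have i1 : (T a (t + t'))⁻¹ = T a (-(t + t')) := inv_eq_of_mul_eq_one_right (by rw [hadd, add_neg_cancel, hzero])
      have i2 : (T y (-(t + t')))⁻¹ = T y (t + t') := inv_eq_of_mul_eq_one_right (by rw [hadd, neg_add_cancel, hzero])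
      rw [mul_inv_rev, i1, i2, mul_assoc g, ← mul_assoc (T a (-t)), hadd, neg_add_cancel, hzero, one_mul,
        mul_assoc g, ← mul_assoc (T y (-t)) (T y (t + t')), hadd,
        show -t + (t + t') = t' by ring, ← mul_assoc]
    rw [← e1]
    exact mul_mem (mul_mem h (hdiff t)) (inv_mem (hdiff _))
  have base : G 1 0 := by show (1 : V ≃ₗ[F] V) * T a (-0) ∈ M; rw [neg_zero, hzero, one_mul]; exact one_mem M
  -- the torus
  obtain ⟨k, hk0, hk1⟩ : ∃ k : F, k ≠ 0 ∧ k * k ≠ 1 := by
    obtain ⟨k, hk⟩ := Finset.card_pos.1 (show 0 < ({0, 1, -1} : Finset F)ᶜ.card by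
      rw [Finset.card_compl]
      have := Finset.card_le_three (a := (0 : F)) (b := 1) (c := -1)
      have := hS.five
      omega)
    simp only [Finset.mem_compl, Finset.mem_insert, Finset.mem_singleton, not_or] at hk
    exact ⟨k, hk.1, fun h => (mul_self_eq_one_iff.1 h).elim hk.2.1 hk.2.2⟩
  intro c
  obtain ⟨c', rfl⟩ : ∃ c', c = c' * (k * k - 1) :=
    ⟨c / (k * k - 1), (div_mul_cancel₀ c (sub_ne_zero.2 hk1)).symm⟩
  set p := (e * e)⁻¹ with hp
  have he0 : e ≠ 0 := he ▸ hay
  set k' := -k with hk'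
  have hk'0 : k' ≠ 0 := neg_ne_zero.2 hk0
  have w1 := sa p (sy 1 (sa p base))
  have w2 := sa (p / k') (sy k' (sa (p / k') w1))
  have w3 := sa c' w2
  have w4 := sa (-(p / k')) (sy (-k') (sa (-(p / k')) w3))
  have w5 := sa (-p) (sy (-1) (sa (-p) w4))
  have w6 := sa (-c') w5
  simp only [G] at w6
  rw [show -(0 + p + 1 + p + p / k' + k' + p / k' + c' + -(p / k') + -k' + -(p / k') + -p + -1 + -p + -c') = (0 : F) by
    ring, hzero, mul_one, one_mul] at w6
  refine ⟨_, w6, fun x => ?_⟩
  simp only [mul_app, hT, map_add, map_smul, LinearMap.add_apply, LinearMap.smul_apply, smul_eq_mul, hS.alt, ← he,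
    hea, mul_zero, zero_smul, add_zero, zero_add, hp, hk']
  match_scalars <;> field_simp <;> ring

/-- A conjugated unitary transvection at an anisotropic image. -/
theorem exists_transv {g : V ≃ₗ[F] V} (hg : g ∈ M) {v : V} (hv : Bf f J v v = 0)
    (hgv : Bf f J (g v) (g v) ≠ 0) : ∃ u, Bf f J u u ≠ 0 ∧ ∀ c, InM M f u c := by
  have hnu := nu_ne hS
  have h2 := hS.odd
  set a := g v with ha
  set b := g (J v) with hb
  have hP : ∀ s, ∃ t ∈ M, ∀ x, t x = x + (s * ν * f x a) • a - (s * f x b) • b := fun s => by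
    obtain ⟨τ, hτ, hτx⟩ := exists_tau hS hM hv (s * ν)
    refine ⟨g * τ * g⁻¹, mul_mem (mul_mem hg hτ) (inv_mem hg), fun x => ?_⟩
    rw [mul_app, mul_app, hτx, map_add, map_add, map_smul, map_smul, app_inv]
    have e : ∀ y, f (g⁻¹ x) y = f x (g y) := fun y => by rw [← hM.pres g hg, app_inv]
    rw [show Bf f J (g⁻¹ x) v = - f (g⁻¹ x) (J v) by rw [f_right hS, neg_neg], e, e, ← ha, ← hb,
      show s * ν * ν⁻¹ * -f x b = -(s * f x b) by field_simp, neg_smul]
    abel
  have hab : f a b = 0 := by rw [ha, hb, hM.pres g hg, f_right hS, hv, neg_zero]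
  -- the decomposition of `b`
  set κ := Bf f J b a / Bf f J a a with hκ
  set c := b - κ • a with hc
  have hbc : b = κ • a + c := by rw [hc]; abel
  have hca : Bf f J c a = 0 := by
    simp [hc, hκ, hgv]
  have hfa : f c a = 0 := by simp [hc, skew hS a b, hab, hS.alt]
  have hac : f a c = 0 := by rw [skew hS c a, hfa, neg_zero]
  have hc0 : c ≠ 0 := by
    intro e
    have e1 : J v = κ • v := g.injective (by rw [map_smul, ← hb, hbc, e, add_zero, ha])
    have e2 := hS.sq v
    rw [e1, map_smul, e1, smul_smul] at e2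
    have hv0 : v ≠ 0 := fun e => hgv (by simp [ha, e])
    exact hS.nonsq κ (smul_left_injective F hv0 e2)
  by_cases hκ0 : κ = 0
  · -- `b` is orthogonal to `a`
    have hbc' : b = c := by rw [hbc, hκ0, zero_smul, zero_add]
    have hν1 : 1 - ν ≠ 0 := sub_ne_zero.2 fun e => hS.nonsq 1 (by rw [mul_one, e])
    obtain ⟨h, hh, hhx⟩ := exists_qr hS hM hgv (α := (1 + ν) / (1 - ν)) (β := 2 / (1 - ν)) (by field_simp; ring)
    have hhc : h b = b := by simp [hhx, hbc', hca, hfa]
    refine ⟨a, hgv, transv_of_diff hS hM (y := h a) ?_ ?_⟩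
    · rw [hhx, hS.alt]
      simp only [map_add, map_smul, smul_eq_mul, hS.alt, f_right hS]
      refine ne_of_eq_of_ne ?_ (neg_ne_zero.2 (mul_ne_zero (div_ne_zero h2 hν1) hgv))
      field_simp
      ring
    · intro t
      obtain ⟨g1, hg1, e1⟩ := hP (t / ν)
      obtain ⟨g2, hg2, e2⟩ := hP (-(t / ν))
      refine ⟨g1 * (h * g2 * h⁻¹), mul_mem hg1 (mul_mem (mul_mem hh hg2) (inv_mem hh)), fun x => ?_⟩
      rw [mul_app, mul_app, mul_app, e2, map_sub, map_add, map_smul, map_smul, app_inv, e1]
      have e : ∀ y, f (h⁻¹ x) y = f x (h y) := fun y => by rw [← hM.pres h hh, app_inv]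
      rw [e, e, hhc]
      have hby : f (h a) b = 0 := by rw [← hhc, hM.pres h hh, hab]
      simp only [map_add, map_sub, map_smul, LinearMap.add_apply, LinearMap.sub_apply, LinearMap.smul_apply,
        smul_eq_mul, hS.alt, skew hS (h a) b, skew hS a b, hab, hby]
      match_scalars <;> field_simp <;> ring
  · -- the component `κ a` can be negated
    obtain ⟨h, hh, hhx⟩ := exists_qr hS hM hgv (α := -1) (β := 0) (by ring)
    have hha : h a = -a := by
      rw [hhx, hS.alt]
      match_scalars <;> field_simp <;> ring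
    have hhc : h c = c := by simp [hhx, hca, hfa]
    refine ⟨a, hgv, transv_of_S hS hM hgv hc0 hca hfa fun s => ?_⟩
    obtain ⟨g1, hg1, e1⟩ := hP (-(s / (2 * κ)))
    obtain ⟨g2, hg2, e2⟩ := hP (s / (2 * κ))
    refine ⟨g1 * (h * g2 * h⁻¹), mul_mem hg1 (mul_mem (mul_mem hh hg2) (inv_mem hh)), fun x => ?_⟩
    rw [mul_app, mul_app, mul_app, e2, map_sub, map_add, map_smul, map_smul, app_inv, e1]
    have e : ∀ y, f (h⁻¹ x) y = f x (h y) := fun y => by rw [← hM.pres h hh, app_inv]
    rw [e, e, hha, hbc, map_add h, map_smul h, hha, hhc]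
    simp only [map_add, map_sub, map_smul, map_neg, LinearMap.add_apply, LinearMap.sub_apply,
      LinearMap.neg_apply, LinearMap.smul_apply, smul_eq_mul, hS.alt, hac, hfa]
    match_scalars <;> field_simp <;> ring

set_option maxHeartbeats 800000 in
/-- All transvections. -/
theorem all_transvections (hmove : ∃ g ∈ M, ∃ v, Bf f J v v = 0 ∧ Bf f J (g v) (g v) ≠ 0) (u : V) (c : F) :
    InM M f u c := by
  obtain ⟨g, hg, v, hv, hgv⟩ := hmove
  obtain ⟨u₀, hu₀, hT⟩ := exists_transv hS hM hg hv hgv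
  have hnu := nu_ne hS
  have h2 := hS.odd
  let C : V → Prop := fun u => ∀ c, InM M f u c
  have hscale : ∀ u, C u → ∀ s : F, C (s • u) := fun u hu s c => by
    obtain ⟨t, ht, htx⟩ := hu (c * s * s)
    refine ⟨t, ht, fun x => ?_⟩
    rw [htx, map_smul, smul_eq_mul, smul_smul]
    congr 2
    ring
  have hline : ∀ x y, C x → C y → f x y ≠ 0 → ∀ t : F, C (x + t • y) := fun x y hx hy hxy t c => by
    obtain ⟨τ, hτ, hτx⟩ := hy (t / f x y)
    have : τ x = x + t • y := by rw [hτx, div_mul_cancel₀ _ hxy]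
    exact this ▸ InM.conj hS hM (hx c) hτ
  -- all the vectors of the `J`-line of `u₀`
  have hν1 : 1 - ν ≠ 0 := sub_ne_zero.2 fun e => hS.nonsq 1 (by rw [mul_one, e])
  obtain ⟨ζ, hζ, hζx⟩ := exists_qr hS hM hu₀ (α := (1 + ν) / (1 - ν)) (β := 2 / (1 - ν)) (by field_simp; ring)
  have hζu : ζ u₀ = ((1 + ν) / (1 - ν)) • u₀ + (2 / (1 - ν)) • J u₀ := by
    rw [hζx, hS.alt]
    match_scalars <;> field_simp <;> ring
  have hKu : ∀ s t : F, C (s • u₀ + t • J u₀) := by
    intro s t
    have hCz : C (ζ u₀) := fun c => InM.conj hS hM (hT c) hζ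
    by_cases ht : t = 0
    · rw [ht, zero_smul, add_zero]; exact hscale _ hT s
    have hne : f (ζ u₀) u₀ ≠ 0 := by
      rw [hζu]
      simp only [map_add, map_smul, LinearMap.add_apply, LinearMap.smul_apply, smul_eq_mul, hS.alt, mul_zero,
        zero_add, f_Jl hS]
      exact mul_ne_zero (div_ne_zero h2 hν1) hu₀
    have e : s • u₀ + t • J u₀ = (t * (1 - ν) / 2) • (ζ u₀ + ((s / (t * (1 - ν) / 2)) - (1 + ν) / (1 - ν)) • u₀) := by
      rw [hζu]
      match_scalars <;> field_simp <;> ring
    rw [e]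
    exact hscale _ (hline _ _ hCz hT hne _) _
  -- anisotropic vectors
  have haniso : ∀ y, Bf f J y y ≠ 0 → C y := by
    intro y hy
    obtain ⟨s, t, hst⟩ := FiniteField.exists_root_sum_quadratic
      (f := Polynomial.C (Bf f J u₀ u₀) * Polynomial.X ^ 2 - Polynomial.C (Bf f J y y))
      (g := Polynomial.C (-(ν * Bf f J u₀ u₀)) * Polynomial.X ^ 2)
      (by rw [Polynomial.degree_sub_C (by rw [Polynomial.degree_C_mul_X_pow 2 hu₀]; norm_num),
        Polynomial.degree_C_mul_X_pow 2 hu₀]; rfl)
      (by rw [Polynomial.degree_C_mul_X_pow 2 (neg_ne_zero.2 (mul_ne_zero hnu hu₀))]; rfl)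
      (FiniteField.odd_card_of_char_ne_two (fun hc => h2 (by
        haveI := ringChar.charP F
        haveI : CharP F 2 := hc ▸ ringChar.charP F
        exact CharTwo.two_eq_zero)))
    simp only [Polynomial.eval_sub, Polynomial.eval_mul, Polynomial.eval_C, Polynomial.eval_pow,
      Polynomial.eval_X] at hst
    set x := s • u₀ + t • J u₀ with hx
    have hxx : Bf f J x x = Bf f J y y := by
      simp only [hx, map_add, map_smul, LinearMap.add_apply, LinearMap.smul_apply, smul_eq_mul, B_J hS,
        B_right_J hS, hS.alt, f_Jl hS]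
      linear_combination hst + (t * t * ν) * (f_right hS u₀ u₀)
    have move : ∀ z, Bf f J z z = Bf f J x x → Bf f J (x - z) (x - z) ≠ 0 → C z := by
      intro z hz hd
      set P := Bf f J x (x - z) with hP
      set φ := f x (x - z) with hφ
      have hN : Bf f J (x - z) (x - z) = 2 * P := by
        simp only [hP, map_sub, LinearMap.sub_apply, hz, B_symm hS z x]
        ring
      have hP0 : P ≠ 0 := fun e => hd (by rw [hN, e, mul_zero])
      obtain ⟨D, hDd⟩ : ∃ D, D = P * P - ν * (φ * φ) := ⟨_, rfl⟩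
      have hD : D ≠ 0 := hDd ▸ norm_ne hS fun e => hP0 e.1
      obtain ⟨k, hk, hkx⟩ := exists_qr hS hM hd (α := 1 - 2 * P * P / D)
        (β := 2 * P * φ / D) (by field_simp; rw [hDd]; ring)
      have : k x = z := by
        rw [hkx, hN, ← hP, ← hφ, map_sub]
        match_scalars <;> field_simp <;> rw [hDd] <;> ring
      exact fun c => this ▸ InM.conj hS hM (hKu s t c) hk
    by_cases hd : Bf f J (x - y) (x - y) = 0
    · have h' : C (-y) := move (-y) (by simp [hxx]) (by
        simp only [map_sub, map_neg, LinearMap.sub_apply, LinearMap.neg_apply, hxx, B_symm hS y x] at hd ⊢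
        intro e
        apply hy
        refine mul_left_cancel₀ (mul_ne_zero h2 h2) ?_
        linear_combination hd + e)
      simpa using hscale _ h' (-1)
    · exact move y hxx.symm hd
  -- isotropic vectors
  by_cases huu : Bf f J u u = 0
  · by_cases hu0 : u = 0
    · exact ⟨1, one_mem M, fun x => by simp [hu0]⟩
    obtain ⟨z₀, hz₀⟩ : ∃ z, f u z ≠ 0 := by
      by_contra! h
      exact hu0 (hS.nondeg u h)
    obtain ⟨z, hz, hzz⟩ : ∃ z, f u z ≠ 0 ∧ Bf f J z z ≠ 0 := by
      by_cases h : Bf f J z₀ z₀ = 0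
      · refine ⟨z₀ + J u, by simpa [f_right hS, huu] using hz₀, ?_⟩
        simp only [map_add, LinearMap.add_apply, h, B_J hS, B_right_J hS, hS.alt, f_Jl hS, f_right hS, huu,
          skew hS u z₀]
        intro e
        apply hz₀
        refine mul_left_cancel₀ (mul_ne_zero h2 hnu) ?_
        linear_combination e
      · exact ⟨z₀, hz₀, h⟩
    obtain ⟨s, hs⟩ : ∃ s : F, Bf f J (u + s • z) (u + s • z) ≠ 0 := by
      by_contra! h
      have e1 := h 1
      have e2 := h (-1)
      simp only [map_add, map_smul, LinearMap.add_apply, LinearMap.smul_apply, smul_eq_mul, huu,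
        B_symm hS z u] at e1 e2
      exact hzz (mul_left_cancel₀ h2 (by linear_combination e1 + e2))
    have := hline _ _ (haniso _ hs) (haniso z hzz) (by simpa [hS.alt] using hz) (-s) c
    rwa [neg_smul, add_neg_cancel_right] at this
  · exact haniso u huu c

/-- Either all transvections lie in `M`, or every element maps `B` to a multiple of itself. -/
theorem dichotomy {g : V ≃ₗ[F] V} (hg : g ∈ M) :
    (∀ u c, InM M f u c) ∨ ∃ b : F, ∀ x, J (g x) = b • g (J x) := by
  classical
  by_cases hmove : ∃ g ∈ M, ∃ v, Bf f J v v = 0 ∧ Bf f J (g v) (g v) ≠ 0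
  · exact Or.inl (all_transvections hS hM hmove)
  right
  push Not at hmove
  have h2 := hS.odd
  set B' : V → V → F := fun x y => Bf f J (g x) (g y) with hB'
  have hzero : ∀ v, Bf f J v v = 0 → B' v v = 0 := fun v => hmove g hg v
  -- an isotropic vector in any three dimensional space
  have hiso : ∀ W : Submodule F V, 3 ≤ finrank F W → ∃ p ∈ W, p ≠ 0 ∧ Bf f J p p = 0 := by
    intro W hW
    by_contra hcon
    push Not at hcon
    obtain ⟨x, hx, hx0⟩ := (Submodule.ne_bot_iff W).1 (fun h => by rw [h, finrank_bot] at hW; omega)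
    have hrk : ∀ (U : Submodule F V) (φ : V →ₗ[F] F), finrank F U ≤ finrank F ↥(U ⊓ LinearMap.ker φ) + 1 := by
      intro U φ
      have h1 := Submodule.finrank_sup_add_finrank_inf_eq U (LinearMap.ker φ)
      have h2 := LinearMap.finrank_range_add_finrank_ker φ
      have h3 := Submodule.finrank_le (LinearMap.range φ)
      rw [finrank_self] at h3
      have h4 := Submodule.finrank_le (U ⊔ LinearMap.ker φ)
      omega
    have a1 := hrk W ((Bf f J).flip x)
    obtain ⟨y, hy, hy0⟩ := (Submodule.ne_bot_iff (W ⊓ LinearMap.ker ((Bf f J).flip x))).1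
      (fun h => by rw [h, finrank_bot] at a1; omega)
    have a2 := hrk (W ⊓ LinearMap.ker ((Bf f J).flip x)) ((Bf f J).flip y)
    obtain ⟨z, hz, hz0⟩ := (Submodule.ne_bot_iff (W ⊓ LinearMap.ker ((Bf f J).flip x) ⊓
      LinearMap.ker ((Bf f J).flip y))).1 (fun h => by rw [h, finrank_bot] at a2; omega)
    have hxy : Bf f J y x = 0 := hy.2
    have hzx : Bf f J z x = 0 := hz.1.2
    have hzy : Bf f J z y = 0 := hz.2
    obtain ⟨s, t, hst⟩ := FiniteField.exists_root_sum_quadratic
      (f := Polynomial.C (Bf f J x x) * Polynomial.X ^ 2 - Polynomial.C (-(Bf f J z z)))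
      (g := Polynomial.C (Bf f J y y) * Polynomial.X ^ 2)
      (by rw [Polynomial.degree_sub_C (by rw [Polynomial.degree_C_mul_X_pow 2 (hcon x hx hx0)]; norm_num),
        Polynomial.degree_C_mul_X_pow 2 (hcon x hx hx0)]; rfl)
      (by rw [Polynomial.degree_C_mul_X_pow 2 (hcon y hy.1 hy0)]; rfl)
      (FiniteField.odd_card_of_char_ne_two (fun hc => h2 (by
        haveI := ringChar.charP F
        haveI : CharP F 2 := hc ▸ ringChar.charP F
        exact CharTwo.two_eq_zero)))
    simp only [Polynomial.eval_sub, Polynomial.eval_mul, Polynomial.eval_C, Polynomial.eval_pow,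
      Polynomial.eval_X] at hst
    set p := s • x + t • y + z with hp
    have hpz : p ≠ 0 := fun e => by
      have e' := congrArg (fun w => Bf f J z w) e
      simp [hp, hzx, hzy] at e'
      exact hcon z hz.1.1 hz0 e'
    refine hcon p (add_mem (add_mem (W.smul_mem s hx) (W.smul_mem t hy.1)) hz.1.1) hpz ?_
    simp only [hp, map_add, map_smul, LinearMap.add_apply, LinearMap.smul_apply, smul_eq_mul, hxy, hzx, hzy,
      B_symm hS x y, B_symm hS x z, B_symm hS y z]
    linear_combination hst
  -- a hyperbolic pair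
  obtain ⟨v0, -, hv00, hv0⟩ := hiso ⊤ (by rw [finrank_top, hS.dim]; norm_num)
  obtain ⟨y0, hy0⟩ : ∃ y, Bf f J v0 y ≠ 0 := by
    by_contra! h
    exact hv00 (B_nondeg hS h)
  set q1 := (Bf f J v0 y0)⁻¹ • y0 with hq1
  set q0 := q1 - (Bf f J q1 q1 / 2) • v0 with hq0
  have hvq1 : Bf f J v0 q1 = 1 := by simp [hq1, hy0]
  have hvq : Bf f J v0 q0 = 1 := by simp [hq0, hvq1, hv0]
  have hqv : Bf f J q0 v0 = 1 := by rw [B_symm hS, hvq]
  have hqq : Bf f J q0 q0 = 0 := by
    simp only [hq0, map_sub, map_smul, LinearMap.sub_apply, LinearMap.smul_apply, smul_eq_mul, hv0, hvq1,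
      B_symm hS q1 v0]
    field_simp
    ring
  have hB'l : ∀ x y z, B' (x + y) z = B' x z + B' y z := fun x y z => by simp [hB']
  have hB'r : ∀ x y z, B' x (y + z) = B' x y + B' x z := fun x y z => by simp [hB']
  have hB's : ∀ (s : F) x y, B' (s • x) y = s * B' x y := fun s x y => by simp [hB']
  have hB'sr : ∀ (s : F) x y, B' x (s • y) = s * B' x y := fun s x y => by simp [hB']
  have hB'c : ∀ x y, B' x y = B' y x := fun x y => B_symm hS _ _
  set b := B' v0 q0 with hb
  set a : V → F := fun z => B' v0 z with ha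
  let W : Submodule F V := LinearMap.ker ((Bf f J).flip v0) ⊓ LinearMap.ker ((Bf f J).flip q0)
  have hWm : ∀ {z}, z ∈ W ↔ Bf f J z v0 = 0 ∧ Bf f J z q0 = 0 := fun {z} => Iff.rfl
  -- the identity
  have key : ∀ z ∈ W, B' z z = b * Bf f J z z ∧ 2 * B' q0 z = a z * Bf f J z z := by
    intro z hz
    have e : ∀ z ∈ W, B' q0 q0 = 0 ∧ 2 * B' q0 z + B' z z - Bf f J z z * (b + a z) = 0 := by
      intro z hz
      obtain ⟨z1, z2⟩ := hWm.1 hz
      set t := - Bf f J z z / 2
      have hi : Bf f J (q0 + z + t • v0) (q0 + z + t • v0) = 0 := by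
        simp only [map_add, map_smul, LinearMap.add_apply, LinearMap.smul_apply, smul_eq_mul, hv0, hvq, hqv,
          hqq, z1, z2, B_symm hS q0 z, B_symm hS v0 z, t]
        field_simp
        ring
      have := hzero _ hi
      simp only [hB'l, hB'r, hB's, hB'sr, hzero v0 hv0, hzero q0 hqq, hB'c z q0, hB'c z v0, hB'c q0 v0] at this
      refine ⟨hzero q0 hqq, ?_⟩
      simp only [hb, ha]
      have ht : 2 * t = - Bf f J z z := by simp only [t]; field_simp
      linear_combination this - (B' v0 q0 + B' v0 z) * ht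
    have e1 := (e z hz).2
    have e2 := (e (-z) (W.neg_mem hz)).2
    simp only [ha, hB', map_neg, LinearMap.neg_apply, neg_neg] at e2
    simp only [ha, hB'] at e1 ⊢
    constructor
    · exact mul_left_cancel₀ h2 (by linear_combination e1 + e2)
    · exact mul_left_cancel₀ h2 (by linear_combination e1 - e2)
  -- isotropic vectors span `W`
  have hproj : ∀ y : V, y - (Bf f J y q0) • v0 - (Bf f J y v0) • q0 ∈ W := fun y => hWm.2
    ⟨by simp [hv0, hqv], by simp [hvq, hqq]⟩
  have hq0z : ∀ z ∈ W, B' q0 z = 0 := by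
    intro z hz
    obtain ⟨k, hk⟩ := Finset.card_pos.1 (show 0 < ({0, 1, -1} : Finset F)ᶜ.card by
      rw [Finset.card_compl]
      have := Finset.card_le_three (a := (0 : F)) (b := 1) (c := -1)
      have := hS.five
      omega)
    simp only [Finset.mem_compl, Finset.mem_insert, Finset.mem_singleton, not_or] at hk
    have e1 := (key z hz).2
    have e2 := (key (k • z) (W.smul_mem k hz)).2
    simp only [ha, hB'r, hB'sr, map_smul, LinearMap.smul_apply, smul_eq_mul] at e2
    simp only [ha] at e1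
    refine (mul_eq_zero.1 (show (2 * k * (k * k - 1)) * B' q0 z = 0 by linear_combination k ^ 3 * e1 - e2)).resolve_left ?_
    exact mul_ne_zero (mul_ne_zero h2 hk.1) (sub_ne_zero.2 fun h => (mul_self_eq_one_iff.1 h).elim hk.2.1 hk.2.2)
  have hv0z : ∀ z ∈ W, a z = 0 := by
    have h0 : ∀ z ∈ W, Bf f J z z ≠ 0 → a z = 0 := fun z hz hzz => by
      have h := (key z hz).2
      rw [hq0z z hz, mul_zero] at h
      exact (mul_eq_zero.1 h.symm).resolve_right hzz
    intro z hz
    by_cases hzz : Bf f J z z = 0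
    · by_cases hz0 : z = 0
      · simp [hz0, ha, hB']
      obtain ⟨y, hy⟩ : ∃ y, Bf f J z y ≠ 0 := by
        by_contra! h
        exact hz0 (B_nondeg hS h)
      set y' := y - (Bf f J y q0) • v0 - (Bf f J y v0) • q0
      have hy' : Bf f J z y' ≠ 0 := by simpa [y', (hWm.1 hz).1, (hWm.1 hz).2] using hy
      obtain ⟨w, hw, hww⟩ := exists_aniso_of hS W hz (hproj y) hy'
      obtain ⟨s, hs⟩ : ∃ s : F, s ≠ 0 ∧ Bf f J (z + s • w) (z + s • w) ≠ 0 := by
        by_contra! h
        have e1 := h 1 one_ne_zero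
        have e2 := h (-1) (neg_ne_zero.2 one_ne_zero)
        simp only [map_add, map_smul, LinearMap.add_apply, LinearMap.smul_apply, smul_eq_mul, hzz,
          B_symm hS w z] at e1 e2
        exact hww (mul_left_cancel₀ h2 (by linear_combination e1 + e2))
      have e := h0 _ (W.add_mem hz (W.smul_mem s hw)) hs.2
      have e' := h0 w hw hww
      simp only [ha] at e e' ⊢
      rwa [hB'r, hB'sr, e', mul_zero, add_zero] at e
    · exact h0 z hz hzz
  have hquad : ∀ x, B' x x = b * Bf f J x x := by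
    intro x
    set s := Bf f J x q0
    set t := Bf f J x v0
    set z := x - s • v0 - t • q0 with hz
    have hzW : z ∈ W := hproj x
    have hx : x = s • v0 + t • q0 + z := by rw [hz]; abel
    have e1 := hv0z z hzW
    simp only [ha] at e1
    obtain ⟨z1, z2⟩ := hWm.1 hzW
    rw [hx]
    simp only [hB'l, hB'r, hB's, hB'sr, map_add, map_smul, LinearMap.add_apply, LinearMap.smul_apply, smul_eq_mul,
      hv0, hqq, hvq, hqv, z1, z2, B_symm hS q0 z, B_symm hS v0 z, hzero v0 hv0, hzero q0 hqq, hB'c z q0, hB'c z v0,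
      hB'c q0 v0, e1, hq0z z hzW, (key z hzW).1, ← hb]
    ring
  have hpol : ∀ x y, B' x y = b * Bf f J x y := fun x y => mul_left_cancel₀ h2 (by
    have e := hquad (x + y)
    simp only [hB'l, hB'r, map_add, LinearMap.add_apply, hquad x, hquad y, hB'c y x, B_symm hS y x] at e
    linear_combination e)
  refine ⟨b, fun x => ?_⟩
  rw [← sub_eq_zero]
  refine hS.nondeg _ fun y => ?_
  have e : Bf f J (g x) (g (g⁻¹ y)) = b * Bf f J x (g⁻¹ y) := hpol x (g⁻¹ y)
  rw [app_inv] at e
  rw [map_sub, LinearMap.sub_apply, map_smul, LinearMap.smul_apply, smul_eq_mul, f_Jl hS, e,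
    show f (g (J x)) y = f (g (J x)) (g (g⁻¹ y)) by rw [app_inv], hM.pres g hg, f_Jl hS, sub_self]

end

end Cfsg.Agent.ExtFieldUFour83
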