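import Mathlib

/-!
A group of isometries of an F-symplectic space (|F| odd) containing the isometries commuting with an anti-self-adjoint
square root `J` of a non-square contains all symplectic transvections as soon as it has an element moving the
`J`-line of an isotropic vector.
-/

set_option autoImplicit false
set_option linter.unusedSectionVars false

namespace Cfsg.Agent.ExtFieldUSp

open Module

variable {F V : Type*} [Field F] [Fintype F] [AddCommGroup V] [Module F V] [FiniteDimensional F V]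

/-- The form `B(x, y) = f (J x) y`. -/
def Bf (f : V →ₗ[F] V →ₗ[F] F) (J : V →ₗ[F] V) : V →ₗ[F] V →ₗ[F] F := f.comp J

/-- The setting. -/
structure Setting (f : V →ₗ[F] V →ₗ[F] F) (J : V →ₗ[F] V) (ν : F) : Prop where
  odd : (2 : F) ≠ 0
  alt : ∀ x, f x x = 0
  nondeg : ∀ x, (∀ y, f x y = 0) → x = 0
  anti : ∀ x y, f (J x) y = - f x (J y)
  sq : ∀ x, J (J x) = ν • x
  nonsq : ∀ s : F, s * s ≠ ν
  dim : 14 ≤ finrank F V

variable {f : V →ₗ[F] V →ₗ[F] F} {J : V →ₗ[F] V} {ν : F}

theorem mul_app (g h : V ≃ₗ[F] V) (x : V) : (g * h) x = g (h x) := rfl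

theorem inv_app (g : V ≃ₗ[F] V) (x : V) : g⁻¹ (g x) = x := g.symm_apply_apply x

theorem app_inv (g : V ≃ₗ[F] V) (x : V) : g (g⁻¹ x) = x := g.apply_symm_apply x

section
variable (hS : Setting f J ν)
include hS

theorem skew (x y : V) : f y x = - f x y := by
  have h := hS.alt (x + y)
  simp only [map_add, LinearMap.add_apply, hS.alt, zero_add, add_zero] at h
  linear_combination h

theorem Bf_apply (x y : V) : Bf f J x y = f (J x) y := rfl

theorem B_symm (x y : V) : Bf f J x y = Bf f J y x := by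
  rw [Bf_apply hS, Bf_apply hS, hS.anti, skew hS (J y) x, neg_neg]

theorem f_right (x y : V) : f x (J y) = - Bf f J x y := by
  rw [Bf_apply hS, hS.anti, neg_neg]

theorem B_J (x y : V) : Bf f J (J x) y = ν * f x y := by
  rw [Bf_apply hS, hS.sq, map_smul, LinearMap.smul_apply, smul_eq_mul]

theorem B_right_J (x y : V) : Bf f J x (J y) = - ν * f x y := by
  rw [B_symm hS, B_J hS, skew hS x y]; ring

theorem nu_ne : ν ≠ 0 := fun h => hS.nonsq 0 (by rw [h, mul_zero])

/-- A quadratic form in three orthogonal directions is isotropic. -/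
theorem exists_isotropic (W : Submodule F V) (hW : 3 ≤ finrank F W) :
    ∃ p ∈ W, p ≠ 0 ∧ Bf f J p p = 0 := by
  classical
  by_contra hcon
  push Not at hcon
  obtain ⟨x, hx, hx0⟩ := (Submodule.ne_bot_iff W).1 (fun h => by rw [h, finrank_bot] at hW; omega)
  let W1 : Submodule F V := W ⊓ LinearMap.ker (Bf f J x)
  have hrk : ∀ (U : Submodule F V) (φ : V →ₗ[F] F), finrank F U ≤ finrank F ↥(U ⊓ LinearMap.ker φ) + 1 := by
    intro U φ
    have h1 := Submodule.finrank_sup_add_finrank_inf_eq U (LinearMap.ker φ)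
    have h2 := LinearMap.finrank_range_add_finrank_ker φ
    have h3 := Submodule.finrank_le (LinearMap.range φ)
    rw [finrank_self] at h3
    have h4 := Submodule.finrank_le (U ⊔ LinearMap.ker φ)
    omega
  have hW1 : 2 ≤ finrank F W1 := by
    have : finrank F W ≤ finrank F W1 + 1 := hrk W (Bf f J x)
    omega
  obtain ⟨y, hy, hy0⟩ := (Submodule.ne_bot_iff W1).1 (fun h => by rw [h, finrank_bot] at hW1; omega)
  let W2 : Submodule F V := W1 ⊓ LinearMap.ker (Bf f J y)
  have hW2 : 1 ≤ finrank F W2 := by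
    have : finrank F W1 ≤ finrank F W2 + 1 := hrk W1 (Bf f J y)
    omega
  obtain ⟨z, hz, hz0⟩ := (Submodule.ne_bot_iff W2).1 (fun h => by rw [h, finrank_bot] at hW2; omega)
  have hxy : Bf f J x y = 0 := hy.2
  have hxz : Bf f J x z = 0 := hz.1.2
  have hyz : Bf f J y z = 0 := hz.2
  have qx := hcon x hx hx0
  have qy := hcon y hy.1 hy0
  have qz := hcon z hz.1.1 hz0
  obtain ⟨a, b, hab⟩ := FiniteField.exists_root_sum_quadratic
    (f := Polynomial.C (Bf f J x x) * Polynomial.X ^ 2)
    (g := Polynomial.C (Bf f J y y) * Polynomial.X ^ 2 + Polynomial.C (Bf f J z z))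
    (Polynomial.degree_C_mul_X_pow 2 qx)
    (by
      rw [Polynomial.degree_add_eq_left_of_degree_lt] <;> rw [Polynomial.degree_C_mul_X_pow 2 qy]
      · rfl
      · exact lt_of_le_of_lt Polynomial.degree_C_le (by decide))
    (FiniteField.odd_card_of_char_ne_two (fun h => hS.odd (by
      have := ringChar.Nat.cast_ringChar (R := F)
      rw [h] at this
      simpa using this)))
  simp only [Polynomial.eval_add, Polynomial.eval_mul, Polynomial.eval_C, Polynomial.eval_pow,
    Polynomial.eval_X] at hab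
  have hne : a • x + b • y + z ≠ 0 := fun h => by
    have h1 := congrArg (Bf f J z) h
    simp [B_symm hS z x, hxz, B_symm hS z y, hyz] at h1
    exact qz h1
  refine hcon _ (W.add_mem (W.add_mem (W.smul_mem a hx) (W.smul_mem b hy.1)) hz.1.1) hne ?_
  simp [hxy, hxz, hyz, B_symm hS y x, B_symm hS z x, B_symm hS z y]
  linear_combination hab

/-- The vectors orthogonal for both forms to `a` and `b`. -/
def perp (_hS : Setting f J ν) (a b : V) : Submodule F V :=
  LinearMap.ker (f.flip a) ⊓ LinearMap.ker ((Bf f J).flip a) ⊓ LinearMap.ker (f.flip b) ⊓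
    LinearMap.ker ((Bf f J).flip b)

theorem mem_perp {a b x : V} :
    x ∈ perp hS a b ↔ f x a = 0 ∧ Bf f J x a = 0 ∧ f x b = 0 ∧ Bf f J x b = 0 := by
  simp [perp, and_assoc]

theorem J_mem_perp {a b x : V} (hx : x ∈ perp hS a b) : J x ∈ perp hS a b := by
  rw [mem_perp hS] at hx ⊢
  refine ⟨hx.2.1, ?_, hx.2.2.2, ?_⟩
  · rw [B_J hS, hx.1, mul_zero]
  · rw [B_J hS, hx.2.2.1, mul_zero]

/-- An isotropic vector of `perp a b` outside the span of the `J`-lines of `a` and `b`. -/
theorem exists_in_perp (a b : V) : ∃ p ∈ perp hS a b, Bf f J p p = 0 ∧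
    (∃ q ∈ perp hS a b, Bf f J p q ≠ 0) ∧ p ∉ Submodule.span F {a, J a, b, J b} := by
  classical
  let W := perp hS a b
  have hW : finrank F V ≤ finrank F W + 4 := by
    let φ : V →ₗ[F] (F × F) × (F × F) :=
      ((f.flip a).prod ((Bf f J).flip a)).prod ((f.flip b).prod ((Bf f J).flip b))
    have hker : LinearMap.ker φ = W := by
      ext x
      simp [φ, W, perp, Prod.ext_iff, and_assoc]
    have h1 := LinearMap.finrank_range_add_finrank_ker φ
    have h2 := Submodule.finrank_le (LinearMap.range φ)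
    rw [hker] at h1
    simp only [Module.finrank_prod, finrank_self] at h2
    omega
  -- the radical
  let R : Submodule F V := W ⊓ W.dualAnnihilator.comap (Bf f J)
  have hR : finrank F R ≤ 4 := by
    have hinj : Function.Injective (Bf f J) := by
      rw [injective_iff_map_eq_zero]
      intro x hx
      have : J x = 0 := hS.nondeg _ fun y => LinearMap.congr_fun hx y
      have h := hS.sq x
      rw [this, map_zero] at h
      exact (smul_eq_zero.1 h.symm).resolve_left (nu_ne hS)
    have h1 : finrank F R ≤ finrank F (W.dualAnnihilator.comap (Bf f J)) := Submodule.finrank_mono inf_le_right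
    have h2 : finrank F (W.dualAnnihilator.comap (Bf f J)) ≤ finrank F W.dualAnnihilator :=
      LinearMap.finrank_le_finrank_of_injective
        (f := (Bf f J).restrict (p := W.dualAnnihilator.comap (Bf f J)) (q := W.dualAnnihilator) fun x hx => hx)
        fun x y h => Subtype.ext (hinj (congrArg Subtype.val h))
    have h3 := Subspace.finrank_add_finrank_dualAnnihilator_eq W
    omega
  have hRW : R ≤ W := inf_le_left
  obtain ⟨C, hC⟩ := (R.comap W.subtype).exists_isCompl
  have hC' : 3 ≤ finrank F (C.map W.subtype) := by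
    rw [Submodule.finrank_map_subtype_eq]
    have h1 := Submodule.finrank_add_eq_of_isCompl hC
    rw [(Submodule.comapSubtypeEquivOfLe hRW).finrank_eq] at h1
    have := hS.dim
    omega
  obtain ⟨p, hp, hp0, hpp⟩ := exists_isotropic hS _ hC'
  obtain ⟨⟨p, hpW⟩, hpC, rfl⟩ := hp
  have hpR : p ∉ R := fun h => hp0 (by
    have h0 : (⟨p, hpW⟩ : W) = 0 := (Submodule.disjoint_def.1 hC.disjoint) _ h hpC
    simpa using congrArg Subtype.val h0)
  have hq : ∃ q ∈ W, Bf f J p q ≠ 0 := by
    by_contra hcon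
    push Not at hcon
    exact hpR ⟨hpW, (Submodule.mem_dualAnnihilator _).2 hcon⟩
  refine ⟨p, hpW, hpp, hq, fun h => ?_⟩
  obtain ⟨q, hqW, hpq⟩ := hq
  apply hpq
  have hle : Submodule.span F {a, J a, b, J b} ≤ LinearMap.ker ((Bf f J).flip q) := by
    rw [Submodule.span_le]
    have h4 := (mem_perp hS).1 hqW
    rintro x (rfl | rfl | rfl | rfl)
    · show Bf f J x q = 0
      rw [B_symm hS]; exact h4.2.1
    · show Bf f J (J a) q = 0
      rw [B_J hS, skew hS q a, h4.1, neg_zero, mul_zero]
    · show Bf f J x q = 0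
      rw [B_symm hS]; exact h4.2.2.2
    · show Bf f J (J b) q = 0
      rw [B_J hS, skew hS q b, h4.2.2.1, neg_zero, mul_zero]
  exact hle h

/-- If some vector of `perp a b` is not orthogonal to `c` then some isotropic one is not. -/
theorem exists_iso_not_perp (a b c : V)
    (hc : ∃ y ∈ perp hS a b, f y c ≠ 0 ∨ Bf f J y c ≠ 0) :
    ∃ p ∈ perp hS a b, Bf f J p p = 0 ∧ (f p c ≠ 0 ∨ Bf f J p c ≠ 0) := by
  classical
  obtain ⟨p₀, hp₀, hiso, ⟨q, hq, hpq⟩, -⟩ := exists_in_perp hS a b
  have hnu := nu_ne hS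
  by_contra hcon
  push Not at hcon
  have key : ∀ y ∈ perp hS a b, Bf f J p₀ y ≠ 0 → f y c = 0 ∧ Bf f J y c = 0 := by
    intro y hy hpy
    set t := - Bf f J y y / (2 * Bf f J p₀ y) with ht
    have hiso' : Bf f J (y + t • p₀) (y + t • p₀) = 0 := by
      simp [hiso, B_symm hS y p₀, ht]
      have := hS.odd
      field_simp
      ring
    have h1 := hcon _ (add_mem hy ((perp hS a b).smul_mem t hp₀)) hiso'
    have h0 := hcon p₀ hp₀ hiso
    simpa [h0.1, h0.2] using h1
  obtain ⟨y, hy, hyc⟩ := hc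
  have : f y c = 0 ∧ Bf f J y c = 0 := by
    by_cases hpy : Bf f J p₀ y = 0
    · have h1 := key (y + q) (add_mem hy hq) (by rw [map_add, hpy, zero_add]; exact hpq)
      have h2 := key q hq hpq
      simpa [h2.1, h2.2] using h1
    · exact key y hy hpy
  rcases hyc with h | h
  · exact h this.1
  · exact h this.2

end

/-- The symplectic transvection with parameters `(u, c)` lies in `M`. -/
def InM (M : Subgroup (V ≃ₗ[F] V)) (f : V →ₗ[F] V →ₗ[F] F) (u : V) (c : F) : Prop :=
  ∃ t ∈ M, ∀ x, t x = x + (c * f x u) • u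

/-- The hypotheses on the group. -/
structure Hyp (M : Subgroup (V ≃ₗ[F] V)) (f : V →ₗ[F] V →ₗ[F] F) (J : V →ₗ[F] V) : Prop where
  lin : ∀ g : V ≃ₗ[F] V, (∀ x, g (J x) = J (g x)) → (∀ x y, f (g x) (g y) = f x y) → g ∈ M
  pres : ∀ g ∈ M, ∀ x y, f (g x) (g y) = f x y

variable {M : Subgroup (V ≃ₗ[F] V)}

theorem InM.conj (hM : Hyp M f J) {u : V} {c : F} (h : InM M f u c) {g : V ≃ₗ[F] V} (hg : g ∈ M) :
    InM M f (g u) c := by
  obtain ⟨t, ht, htx⟩ := h
  refine ⟨g * t * g⁻¹, mul_mem (mul_mem hg ht) (inv_mem hg), fun x => ?_⟩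
  rw [mul_app, mul_app, htx, map_add, map_smul, app_inv]
  congr 2
  rw [show f x (g u) = f (g (g⁻¹ x)) (g u) by rw [app_inv], hM.pres g hg]

section
variable (hS : Setting f J ν) (hM : Hyp M f J)
include hS hM

/-- The unitary transvections. -/
theorem exists_tau {v : V} (hv : Bf f J v v = 0) (s : F) :
    ∃ g ∈ M, (∀ x, g (J x) = J (g x)) ∧
      ∀ x, g x = x + (s * f x v) • v + (s * ν⁻¹ * Bf f J x v) • J v := by
  have hnu := nu_ne hS
  let T : V →ₗ[F] V := LinearMap.id + s • (f.flip v).smulRight v + (s * ν⁻¹) • ((Bf f J).flip v).smulRight (J v)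
  have hT : ∀ x, T x = x + (s * f x v) • v + (s * ν⁻¹ * Bf f J x v) • J v := fun x => by
    simp [T, smul_smul]
  have hvJ : f v (J v) = 0 := by rw [f_right hS, hv, neg_zero]
  have hJv : f (J v) v = 0 := hv
  have hpres : ∀ x y, f (T x) (T y) = f x y := by
    intro x y
    simp only [hT, map_add, map_smul, LinearMap.add_apply, LinearMap.smul_apply, smul_eq_mul, hS.alt, hvJ, hJv]
    rw [f_right hS x v, show f (J v) y = Bf f J v y from rfl, B_symm hS v y, skew hS y v]
    ring
  have hinj : Function.Injective T := by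
    rw [injective_iff_map_eq_zero]
    intro x hx
    exact hS.nondeg x fun y => by rw [← hpres, hx, map_zero, LinearMap.zero_apply]
  haveI : Finite V := Module.finite_of_finite F
  let g : V ≃ₗ[F] V := LinearEquiv.ofBijective T (Finite.injective_iff_bijective.1 hinj)
  have hJ : ∀ x, g (J x) = J (g x) := fun x => by
    show T (J x) = J (T x)
    simp only [hT, map_add, map_smul, hS.sq, smul_smul, B_J hS]
    rw [show f (J x) v = Bf f J x v from rfl, show s * ν⁻¹ * (ν * f x v) = s * f x v by field_simp,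
      show s * ν⁻¹ * Bf f J x v * ν = s * Bf f J x v by field_simp]
    abel
  exact ⟨g, hM.lin g hJ hpres, hJ, hT⟩

/-- The translations used. -/
theorem exists_N {p w : V} (hp : Bf f J p p = 0) (hw : Bf f J w w = 0) (h1 : f p w = 0) (h2 : Bf f J p w = 0) :
    ∃ g ∈ M, ∀ x, g x = x + f x p • w + f x w • p + (ν⁻¹ * Bf f J x p) • J w + (ν⁻¹ * Bf f J x w) • J p := by
  have hpw : Bf f J (p + w) (p + w) = 0 := by
    simp [hp, hw, h2, B_symm hS w p]
  obtain ⟨g1, hg1, -, e1⟩ := exists_tau hS hM hpw 1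
  obtain ⟨g2, hg2, -, e2⟩ := exists_tau hS hM hp (-1)
  obtain ⟨g3, hg3, -, e3⟩ := exists_tau hS hM hw (-1)
  refine ⟨g1 * g2 * g3, mul_mem (mul_mem hg1 hg2) hg3, fun x => ?_⟩
  have hwp : f w p = 0 := by rw [skew hS p w, h1, neg_zero]
  have k1 : f (J p) p = 0 := hp
  have k2 : f (J w) w = 0 := hw
  have k3 : f (J p) w = 0 := h2
  have k4 : f (J w) p = 0 := (B_symm hS w p).trans h2
  rw [mul_app, mul_app, e1, e2, e3]
  simp only [map_add, map_smul, LinearMap.add_apply, LinearMap.smul_apply, smul_eq_mul, hS.alt, hp, hw, h1, h2,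
    hwp, B_symm hS w p, k1, k2, k3, k4, Bf_apply hS, hS.sq, mul_zero, zero_smul, add_zero, zero_add]
  module

set_option maxHeartbeats 1600000 in
/-- The main step: a symplectic transvection. -/
theorem exists_transvection (hmove : ∃ g ∈ M, ∃ v, Bf f J v v = 0 ∧ g (J v) ∉ Submodule.span F {g v, J (g v)}) :
    ∃ l : V, l ≠ 0 ∧ Bf f J l l = 0 ∧ ∀ c, InM M f l c := by
  classical
  obtain ⟨g, hg, v, hv, hb⟩ := hmove
  have hnu := nu_ne hS
  set a := g v with ha
  set b := g (J v) with hbdef
  have hab : f a b = 0 := by rw [ha, hbdef, hM.pres g hg, f_right hS, hv, neg_zero]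
  have hba : f b a = 0 := by rw [skew hS a b, hab, neg_zero]
  obtain ⟨w, hw, hww, -, hwspan⟩ := exists_in_perp hS a b
  rw [mem_perp hS] at hw
  have hwa : f a w = 0 := by rw [skew hS w a, hw.1, neg_zero]
  have hwb : f b w = 0 := by rw [skew hS w b, hw.2.2.1, neg_zero]
  -- `b` is not orthogonal to all of `perp a w`
  have hne : ∃ y ∈ perp hS a w, f y b ≠ 0 ∨ Bf f J y b ≠ 0 := by
    by_contra hcon
    push Not at hcon
    have hmem : f.flip b ∈ Submodule.span F (Set.range ![f.flip a, (Bf f J).flip a, f.flip w, (Bf f J).flip w]) := by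
      apply mem_span_of_iInf_ker_le_ker
      intro x hx
      simp only [Submodule.mem_iInf, LinearMap.mem_ker] at hx
      exact (hcon x ((mem_perp hS).2 ⟨hx 0, hx 1, hx 2, hx 3⟩)).1
    obtain ⟨c, hc⟩ := (Submodule.mem_span_range_iff_exists_fun F).1 hmem
    have hb' : b = c 0 • a - c 1 • J a + c 2 • w - c 3 • J w := by
      refine sub_eq_zero.1 (hS.nondeg _ fun x => ?_)
      have h := LinearMap.congr_fun hc x
      simp [Fin.sum_univ_four, f_right hS] at h
      rw [skew hS x]
      simp [f_right hS]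
      linear_combination h
    by_cases h23 : c 2 = 0 ∧ c 3 = 0
    · apply hb
      rw [hb', h23.1, h23.2, zero_smul, zero_smul, add_zero, sub_zero]
      exact sub_mem (Submodule.smul_mem _ _ (Submodule.subset_span (by simp)))
        (Submodule.smul_mem _ _ (Submodule.subset_span (by simp)))
    · apply hwspan
      have hd : c 2 * c 2 - c 3 * c 3 * ν ≠ 0 := fun h => by
        by_cases h3 : c 3 = 0
        · rw [h3, mul_zero, zero_mul, sub_zero, mul_self_eq_zero] at h
          exact h23 ⟨h, h3⟩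
        · apply hS.nonsq (c 2 / c 3)
          field_simp
          linear_combination h
      set e := b - c 0 • a + c 1 • J a with he
      have he1 : e = c 2 • w - c 3 • J w := by rw [he, hb']; abel
      have he2 : w = (c 2 * c 2 - c 3 * c 3 * ν)⁻¹ • (c 2 • e + c 3 • J e) := by
        rw [he1, map_sub, map_smul, map_smul, hS.sq, eq_inv_smul_iff₀ hd]
        module
      rw [he2]
      have he3 : e ∈ Submodule.span F ({a, J a, b, J b} : Set V) :=
        add_mem (sub_mem (Submodule.subset_span (by simp)) (Submodule.smul_mem _ _ (Submodule.subset_span (by simp))))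
          (Submodule.smul_mem _ _ (Submodule.subset_span (by simp)))
      have he4 : J e ∈ Submodule.span F ({a, J a, b, J b} : Set V) := by
        rw [he, map_add, map_sub, map_smul, map_smul, hS.sq]
        exact add_mem (sub_mem (Submodule.subset_span (by simp))
          (Submodule.smul_mem _ _ (Submodule.subset_span (by simp))))
          (Submodule.smul_mem _ _ (Submodule.smul_mem _ _ (Submodule.subset_span (by simp))))
      exact Submodule.smul_mem _ _ (add_mem (Submodule.smul_mem _ _ he3) (Submodule.smul_mem _ _ he4))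
  obtain ⟨p, hp, hpp, hpb⟩ := exists_iso_not_perp hS a w b hne
  rw [mem_perp hS] at hp
  set l := f b p • w + (ν⁻¹ * Bf f J b p) • J w with hl
  have hwJw : f w (J w) = 0 := by rw [f_right hS, hww, neg_zero]
  have hJww : f (J w) w = 0 := hww
  have hfp : f p b = - f b p := skew hS b p
  have hl0 : l ≠ 0 := by
    intro h
    -- `w` and `J w` are independent
    have hind : ∀ s t : F, s • w + t • J w = 0 → s = 0 ∧ t = 0 := by
      intro s t hst
      have h2 := congrArg J hst
      rw [map_add, map_smul, map_smul, hS.sq, map_zero, smul_smul] at h2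
      have h3 : (s * s - t * t * ν) • w = 0 := by
        have h4 := congrArg (s • ·) hst
        have h5 := congrArg (t • ·) h2
        simp only [smul_zero, smul_add, smul_smul] at h4 h5
        rw [sub_smul, sub_eq_zero, ← sub_eq_zero, ← sub_self (0 : V)]
        conv_rhs => arg 1; rw [← h4]
        conv_rhs => arg 2; rw [← h5]
        module
      have hw0 : w ≠ 0 := fun hh => hwspan (hh ▸ zero_mem _)
      have h6 := (smul_eq_zero.1 h3).resolve_right hw0
      by_cases ht : t = 0
      · rw [ht, mul_zero, zero_mul, sub_zero, mul_self_eq_zero] at h6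
        exact ⟨h6, ht⟩
      · exact absurd (show s / t * (s / t) = ν by field_simp; linear_combination h6) (hS.nonsq _)
    obtain ⟨h1, h2⟩ := hind _ _ h
    rcases hpb with h' | h'
    · exact h' (by rw [hfp, h1, neg_zero])
    · apply h'
      rw [B_symm hS]
      exact (mul_eq_zero.1 h2).resolve_left (inv_ne_zero hnu)
  have hal : f a l = 0 := by
    rw [hl, map_add, map_smul, map_smul, hwa, f_right hS, B_symm hS a w, hw.2.1]; simp
  have hla : f l a = 0 := by rw [skew hS a l, hal, neg_zero]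
  have hbl : f b l = 0 := by
    rw [hl, map_add, map_smul, map_smul, hwb, f_right hS, B_symm hS b w, hw.2.2.2]; simp
  have hlb : f l b = 0 := by rw [skew hS b l, hbl, neg_zero]
  have hiso : Bf f J l l = 0 := by
    simp [hl, hww, B_J hS, B_right_J hS, hS.alt, B_symm hS (J w) w, hJww, hwJw]
  refine ⟨l, hl0, hiso, fun c => ?_⟩
  -- the conjugate of the unitary transvection
  obtain ⟨τ, hτ, -, hτx⟩ := exists_tau hS hM hv (c / 2 * ν)
  have hP : ∀ x, (g * τ * g⁻¹) x = x + (c / 2 * ν * f x a) • a - (c / 2 * f x b) • b := fun x => by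
    rw [mul_app, mul_app, hτx, map_add, map_add, map_smul, map_smul, app_inv]
    have h1 : f x a = f (g⁻¹ x) v := by rw [← hM.pres g hg (g⁻¹ x) v, app_inv]
    have h2 : f x b = - Bf f J (g⁻¹ x) v := by rw [← f_right hS, ← hM.pres g hg (g⁻¹ x), app_inv]
    rw [h1, h2, show c / 2 * ν * ν⁻¹ * Bf f J (g⁻¹ x) v = -(c / 2 * - Bf f J (g⁻¹ x) v) by field_simp,
      neg_smul]
    abel
  have hP' : ∀ (h : V ≃ₗ[F] V), h ∈ M → ∀ x, (h * (g * τ * g⁻¹) * h⁻¹) x =
      x + (c / 2 * ν * f x (h a)) • h a - (c / 2 * f x (h b)) • h b := fun h hh x => by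
    rw [mul_app, mul_app, hP, map_sub, map_add, map_smul, map_smul, app_inv]
    have e : ∀ y, f (h⁻¹ x) y = f x (h y) := fun y => by rw [← hM.pres h hh, app_inv]
    rw [e, e]
  obtain ⟨N1, hN1, hN1x⟩ := exists_N hS hM hpp hww hp.2.2.1 hp.2.2.2
  have ha0 : f a p = 0 := by rw [skew hS p a, hp.1, neg_zero]
  have ha1 : Bf f J a p = 0 := by rw [B_symm hS, hp.2.1]
  have ha2 : Bf f J a w = 0 := by rw [B_symm hS, hw.2.1]
  have hb2 : Bf f J b w = 0 := by rw [B_symm hS, hw.2.2.2]
  have hN1a : N1 a = a := by simp [hN1x, hwa, ha0, ha1, ha2]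
  have hN1b : N1 b = b + l := by simp [hN1x, hwb, hb2, hl]; abel
  obtain ⟨N2, hN2, hN2x⟩ := exists_N hS hM (p := -p) (w := w) (by simp [hpp]) hww (by simp [hp.2.2.1])
    (by simp [hp.2.2.2])
  have hN2a : N2 a = a := by simp [hN2x, hwa, ha0, ha1, ha2]
  have hN2b : N2 b = b - l := by simp [hN2x, hwb, hb2, hl]; abel
  set P := g * τ * g⁻¹
  refine ⟨(N1 * P * N1⁻¹ * (N2 * P * N2⁻¹) * P⁻¹ * P⁻¹)⁻¹,
    inv_mem (mul_mem (mul_mem (mul_mem (mul_mem (mul_mem hN1 ?_) (inv_mem hN1)) (mul_mem (mul_mem hN2 ?_)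
      (inv_mem hN2))) (inv_mem ?_)) (inv_mem ?_)), fun x => ?_⟩
  any_goals exact mul_mem (mul_mem hg hτ) (inv_mem hg)
  have hPi : ∀ x, P⁻¹ x = x - (c / 2 * ν * f x a) • a + (c / 2 * f x b) • b := fun x => by
    apply P.injective
    rw [app_inv, hP]
    simp only [map_add, map_sub, map_smul, LinearMap.add_apply, LinearMap.sub_apply, LinearMap.smul_apply,
      smul_eq_mul, hS.alt, hab, hba]
    module
  have key : ∀ x, (N1 * P * N1⁻¹ * (N2 * P * N2⁻¹) * P⁻¹ * P⁻¹) x = x - (c * f x l) • l := fun x => by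
    rw [mul_app, mul_app, mul_app, hP' N1 hN1, hP' N2 hN2, hN1a, hN1b, hN2a, hN2b, hPi, hPi]
    simp only [map_add, map_sub, map_smul, LinearMap.add_apply, LinearMap.sub_apply, LinearMap.smul_apply,
      smul_eq_mul, hS.alt, hab, hba, hal, hla, hbl, hlb]
    have h2 := hS.odd
    match_scalars <;> field_simp <;> ring
  apply (N1 * P * N1⁻¹ * (N2 * P * N2⁻¹) * P⁻¹ * P⁻¹).injective
  rw [app_inv, key]
  simp [hS.alt, sub_eq_add_neg]

set_option maxHeartbeats 1000000 in
/-- All transvections. -/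
theorem all_transvections (hmove : ∃ g ∈ M, ∃ v, Bf f J v v = 0 ∧ g (J v) ∉ Submodule.span F {g v, J (g v)})
    (u : V) (c : F) : InM M f u c := by
  classical
  have hnu := nu_ne hS
  have h2 := hS.odd
  obtain ⟨l, hl0, hll, hl⟩ := exists_transvection hS hM hmove
  let C : V → Prop := fun u => ∀ c, InM M f u c
  have hscale : ∀ u, C u → ∀ s : F, C (s • u) := fun u hu s c => by
    obtain ⟨t, ht, htx⟩ := hu (c * s * s)
    refine ⟨t, ht, fun x => ?_⟩
    rw [htx, map_smul, smul_eq_mul, smul_smul]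
    congr 2
    ring
  have hline : ∀ w w', C w → Bf f J w w = 0 → Bf f J w' w' = 0 → Bf f J w w' = 0 → f w w' ≠ 0 → C w' := by
    intro w w' hw hww hw' hB hf c
    have hd : Bf f J (w' - w) (w' - w) = 0 := by simp [hww, hw', hB, B_symm hS w' w]
    obtain ⟨t, ht, -, htx⟩ := exists_tau hS hM hd (f w w')⁻¹
    have he : t w = w' := by
      simp [htx, hS.alt, hB, hww, inv_mul_cancel₀ hf]
    exact he ▸ InM.conj hM (hw c) ht
  have hJinv : ∀ (U : Submodule F V), (∀ x ∈ U, J x ∈ U) → ∀ (x : V) (s t : F), s • x + t • J x ∈ U →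
      ¬ (s = 0 ∧ t = 0) → x ∈ U := by
    intro U hU x s t he hne
    have hd : s * s - t * t * ν ≠ 0 := fun h => by
      by_cases ht : t = 0
      · rw [ht, mul_zero, zero_mul, sub_zero, mul_self_eq_zero] at h
        exact hne ⟨h, ht⟩
      · apply hS.nonsq (s / t)
        field_simp
        linear_combination h
    have hx : (s * s - t * t * ν) • x = s • (s • x + t • J x) - t • J (s • x + t • J x) := by
      rw [map_add, map_smul, map_smul, hS.sq]
      module
    have := U.smul_mem (s * s - t * t * ν)⁻¹ (U.sub_mem (U.smul_mem s he) (U.smul_mem t (hU _ he)))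
    rwa [← hx, inv_smul_smul₀ hd] at this
  have hstab : ∀ x : V, ∀ y ∈ Submodule.span F ({x, J x} : Set V), J y ∈ Submodule.span F ({x, J x} : Set V) := by
    intro x y hy
    obtain ⟨s, t, rfl⟩ := Submodule.mem_span_pair.1 hy
    rw [map_add, map_smul, map_smul, hS.sq]
    exact add_mem (Submodule.smul_mem _ _ (Submodule.subset_span (by simp)))
      (Submodule.smul_mem _ _ (Submodule.smul_mem _ _ (Submodule.subset_span (by simp))))
  have hdual : ∀ (U : Submodule F V) (z : V), z ∉ U → ∃ φ : V →ₗ[F] F, φ z = 1 ∧ ∀ x ∈ U, φ x = 0 := by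
    intro U z hz
    obtain ⟨φ, hφ, hp⟩ := Submodule.exists_dual_map_eq_bot_of_notMem hz inferInstance
    refine ⟨(φ z)⁻¹ • φ, by simp [inv_mul_cancel₀ hφ], fun x hx => ?_⟩
    have : φ x ∈ U.map φ := Submodule.mem_map_of_mem hx
    rw [hp, Submodule.mem_bot] at this
    simp [this]
  have hstep : ∀ w, w ≠ 0 → C w → Bf f J w w = 0 → ∀ w', Bf f J w' w' = 0 →
      w' ∉ Submodule.span F ({w, J w} : Set V) → C w' := by
    intro w hw0 hw hww w' hw' hn
    have hn' : w ∉ Submodule.span F ({w', J w'} : Set V) := by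
      intro h
      obtain ⟨s, t, he⟩ := Submodule.mem_span_pair.1 h
      refine hn (hJinv _ (hstab w) w' s t (he ▸ Submodule.subset_span (by simp)) ?_)
      rintro ⟨rfl, rfl⟩
      exact hw0 (by rw [← he, zero_smul, zero_smul, add_zero])
    have hmain : ∀ x x' : V, x ∉ Submodule.span F ({x', J x'} : Set V) →
        ∃ φ : V →ₗ[F] F, φ x = 1 ∧ φ (J x) = 0 ∧ φ x' = 0 ∧ φ (J x') = 0 := by
      intro x x' hx
      have : x ∉ Submodule.span F ({J x, x', J x'} : Set V) := by
        intro h
        rw [Submodule.mem_span_insert] at h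
        obtain ⟨t, z, hz, he⟩ := h
        refine hx (hJinv _ (hstab x') x 1 (-t) ?_ fun h' => one_ne_zero h'.1)
        have : (1 : F) • x + (-t) • J x = z := by
          rw [one_smul, neg_smul, ← sub_eq_add_neg, sub_eq_iff_eq_add]
          exact he.trans (add_comm _ _)
        rwa [this]
      obtain ⟨φ, h1, h0⟩ := hdual _ _ this
      exact ⟨φ, h1, h0 _ (Submodule.subset_span (by simp)), h0 _ (Submodule.subset_span (by simp)),
        h0 _ (Submodule.subset_span (by simp))⟩
    obtain ⟨φ1, a1, a2, a3, a4⟩ := hmain w w' hn'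
    obtain ⟨φ2, b1, b2, b3, b4⟩ := hmain w' w hn
    have hinj : Function.Injective f := by
      rw [injective_iff_map_eq_zero]
      exact fun x hx => hS.nondeg x fun y => LinearMap.congr_fun hx y
    obtain ⟨q₀, hq₀⟩ := (LinearMap.injective_iff_surjective_of_finrank_eq_finrank
      (by rw [Module.finrank_linearMap, finrank_self, mul_one])).1 hinj (φ1 + φ2)
    have e1 : f q₀ w = 1 := by rw [hq₀]; simp [a1, b3]
    have e2 : f q₀ (J w) = 0 := by rw [hq₀]; simp [a2, b4]
    have e3 : f q₀ w' = 1 := by rw [hq₀]; simp [a3, b1]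
    have e4 : f q₀ (J w') = 0 := by rw [hq₀]; simp [a4, b2]
    rw [f_right hS, neg_eq_zero] at e2 e4
    obtain ⟨p, hp, hpp, ⟨r, hr, hpr⟩, -⟩ := exists_in_perp hS w w'
    rw [mem_perp hS] at hp hr
    obtain ⟨y, ey1, ey2, ey3, ey4, hyp⟩ : ∃ y, f y w = 1 ∧ Bf f J y w = 0 ∧ f y w' = 1 ∧ Bf f J y w' = 0 ∧
        Bf f J y p ≠ 0 := by
      by_cases h : Bf f J q₀ p = 0
      · refine ⟨q₀ + r, by simp [e1, hr.1], by simp [e2, hr.2.1], by simp [e3, hr.2.2.1], by simp [e4, hr.2.2.2], ?_⟩
        rw [map_add, LinearMap.add_apply, h, zero_add, B_symm hS]; exact hpr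
      · exact ⟨q₀, e1, e2, e3, e4, h⟩
    set q := y + (- Bf f J y y / (2 * Bf f J y p)) • p with hq
    have hqq : Bf f J q q = 0 := by
      simp [hq, hpp, B_symm hS p y]
      field_simp
      ring
    have q1 : f q w = 1 := by simp [hq, ey1, hp.1]
    have q2 : Bf f J q w = 0 := by simp [hq, ey2, hp.2.1]
    have q3 : f q w' = 1 := by simp [hq, ey3, hp.2.2.1]
    have q4 : Bf f J q w' = 0 := by simp [hq, ey4, hp.2.2.2]
    have hCq : C q := hline w q hw hww hqq (by rw [B_symm hS]; exact q2)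
      (by rw [skew hS q w, q1]; exact neg_ne_zero.2 one_ne_zero)
    exact hline q w' hCq hqq hw' q4 (by rw [q3]; exact one_ne_zero)
  have hisoC : ∀ w', Bf f J w' w' = 0 → C w' := by
    intro w' hw'
    by_cases h0 : w' = 0
    · intro c; exact ⟨1, one_mem M, fun x => by simp [h0]⟩
    by_cases hn : w' ∈ Submodule.span F ({l, J l} : Set V)
    · obtain ⟨p, -, hpp, -, hps⟩ := exists_in_perp hS l w'
      have hp0 : p ≠ 0 := fun h => hps (h ▸ zero_mem _)
      have hpl : p ∉ Submodule.span F ({l, J l} : Set V) := fun h =>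
        hps (Submodule.span_mono (by intro x hx; simp at hx ⊢; tauto) h)
      refine hstep p hp0 (hstep l hl0 hl hll p hpp hpl) hpp w' hw' fun h => ?_
      obtain ⟨s, t, he⟩ := Submodule.mem_span_pair.1 h
      apply hpl
      refine hJinv _ (hstab l) p s t (he ▸ hn) ?_
      rintro ⟨rfl, rfl⟩
      exact h0 (by rw [← he, zero_smul, zero_smul, add_zero])
    · exact hstep l hl0 hl hll w' hw' hn
  by_cases huu : Bf f J u u = 0
  · exact hisoC u huu c
  obtain ⟨a₀, -, ha₀, hne⟩ := exists_iso_not_perp hS 0 0 u (by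
    by_contra hcon
    push Not at hcon
    apply huu
    have := (hcon u ((mem_perp hS).2 (by simp))).2
    exact this)
  have h0 : ¬ (f u a₀ = 0 ∧ Bf f J u a₀ = 0) := by
    rintro ⟨h1, h2⟩
    rcases hne with h | h
    · exact h (by rw [skew hS u a₀, h1, neg_zero])
    · exact h (by rw [B_symm hS]; exact h2)
  set B0 := Bf f J u a₀ with hB0
  set f0 := f u a₀ with hf0
  set D := ν * f0 * f0 - B0 * B0 with hD
  have hD0 : D ≠ 0 := fun h => by
    by_cases hf : f0 = 0
    · rw [hD, hf, mul_zero, zero_sub, neg_eq_zero, mul_self_eq_zero] at h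
      exact h0 ⟨hf, h⟩
    · apply hS.nonsq (B0 / f0)
      field_simp
      linear_combination -h
  set α := (ν * f0 - B0 * (Bf f J u u / 2)) / D with hα
  set β := (B0 - f0 * (Bf f J u u / 2)) / D with hβ
  set a := α • a₀ + β • J a₀ with haa
  have hfa : f u a = 1 := by
    rw [haa, map_add, map_smul, map_smul, f_right hS, ← hB0, ← hf0, smul_eq_mul, smul_eq_mul, hα, hβ]
    field_simp
    ring
  have hBa : Bf f J u a = Bf f J u u / 2 := by
    rw [haa, map_add, map_smul, map_smul, B_right_J hS, ← hB0, ← hf0, smul_eq_mul, smul_eq_mul, hα, hβ]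
    field_simp
    ring
  have hiso : Bf f J a a = 0 := by
    have k : f (J a₀) a₀ = 0 := ha₀
    have k' : f a₀ (J a₀) = 0 := by rw [f_right hS, ha₀, neg_zero]
    simp [haa, ha₀, B_J hS, B_right_J hS, hS.alt, k, k']
  set b := u - a with hb
  have hbb : Bf f J b b = 0 := by
    simp [hb, B_symm hS a u, hBa, hiso]
    field_simp
    ring
  have hfab : f a b = -1 := by
    rw [hb, map_sub, hS.alt, sub_zero, skew hS u a, hfa]
  obtain ⟨t, ht, htx⟩ := hisoC b hbb (-1)
  have hta : t a = u := by rw [htx, hfab, neg_one_mul, neg_neg, one_smul, hb, add_sub_cancel]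
  exact hta ▸ InM.conj hM (hisoC a hiso c) ht

end

end Cfsg.Agent.ExtFieldUSp
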