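import Mathlib
import Cfsg.Agent.Lib.ExtFieldMax

/-!
Unitary geometry over an extension field K of odd prime degree inside a unitary space over F: the lifted
hermitian form, Siegel transformations, transitivity on isotropic lines and tori.
-/

set_option autoImplicit false
set_option linter.unusedSectionVars false
set_option linter.style.haveILetI false

namespace Cfsg.Agent.ExtFieldUnit74

open Module
open Cfsg.Agent.ExtFieldMax (mul_apply' inv_apply' apply_inv' exists_dual_one)

noncomputable section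

variable {F K V : Type*} [Field F] [Fintype F] [Field K] [Fintype K] [Algebra F K]
  [AddCommGroup V] [Module F V] [Module K V] [IsScalarTower F K V] [FiniteDimensional K V]

/-- The geometric hypotheses. -/
structure Geo (σ : F ≃+* F) (bar : K ≃+* K) (f : V → V → F) : Prop where
  ne_refl : ∃ a : F, σ a ≠ a
  invol : ∀ a, σ (σ a) = a
  binvol : ∀ c, bar (bar c) = c
  bext : ∀ a : F, bar (algebraMap F K a) = algebraMap F K (σ a)
  prime : (finrank F K).Prime
  odd : finrank F K ≠ 2
  dim : finrank K V = 2 ∨ 3 ≤ finrank K V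
  small : finrank K V = 2 → finrank F K = 3 → Fintype.card F ≠ 4
  sq : ∃ q : ℕ, Fintype.card F = q ^ 2
  add_left : ∀ x y z, f (x + y) z = f x z + f y z
  smul_left : ∀ (a : F) x y, f (a • x) y = a * f x y
  herm : ∀ x y, f y x = σ (f x y)
  adj : ∀ (c : K) x y, f (c • x) y = f x (bar c • y)
  nondeg : ∀ x, (∀ y, f x y = 0) → x = 0

/-- The hypotheses on the subgroup. -/
structure Hyp (σ : F ≃+* F) (bar : K ≃+* K) (f : V → V → F) (M : Subgroup (V ≃ₗ[F] V)) : Prop where
  geo : Geo σ bar f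
  lin : ∀ g : V ≃ₗ[F] V, (∀ (c : K) x, g (c • x) = c • g x) → (∀ x y, f (g x) (g y) = f x y) →
    LinearMap.det g.toLinearMap = 1 → g ∈ M
  pres : ∀ g ∈ M, ∀ x y, f (g x) (g y) = f x y
  move : ∃ g ∈ M, ∃ c : K, ∀ d : K, ∃ x, g (c • x) ≠ d • g x

/-- `f` is the image under `lam` of the hermitian K-form `B`. -/
structure Lift (σ : F ≃+* F) (bar : K ≃+* K) (f : V → V → F) (lam : K →ₗ[F] F) (B : V → V → K) : Prop where
  geo : Geo σ bar f
  one : lam 1 = 1
  lam_bar : ∀ c, lam (bar c) = σ (lam c)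
  eq : ∀ (c : K) x y, f (c • x) y = lam (c * B x y)

variable {σ : F ≃+* F} {bar : K ≃+* K} {f : V → V → F} {lam : K →ₗ[F] F} {B : V → V → K}
  {M : Subgroup (V ≃ₗ[F] V)}

theorem Geo.zero_left (hG : Geo σ bar f) (y : V) : f 0 y = 0 := by
  simpa using hG.smul_left 0 0 y

theorem Geo.add_right (hG : Geo σ bar f) (x y z : V) : f x (y + z) = f x y + f x z := by
  rw [hG.herm (y + z) x, hG.add_left, map_add, ← hG.herm, ← hG.herm]

theorem Geo.smul_right (hG : Geo σ bar f) (a : F) (x y : V) : f x (a • y) = σ a * f x y := by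
  rw [hG.herm (a • y) x, hG.smul_left, map_mul, ← hG.herm]

theorem Geo.sub_left (hG : Geo σ bar f) (x y z : V) : f (x - y) z = f x z - f y z :=
  eq_sub_of_add_eq (by rw [← hG.add_left, sub_add_cancel])

theorem Geo.exists_lam (hG : Geo σ bar f) :
    ∃ lam : K →ₗ[F] F, lam 1 = 1 ∧ ∀ c, lam (bar c) = σ (lam c) := by
  obtain ⟨ψ, hψ, -⟩ := exists_dual_one (⊥ : Submodule F K) (z := (1 : K)) (by simp)
  obtain ⟨b, hb⟩ : ∃ b : F, b + σ b ≠ 0 := by
    by_contra hcon
    push Not at hcon
    obtain ⟨a, ha⟩ := hG.ne_refl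
    apply ha
    have h1 := hcon 1
    rw [map_one] at h1
    linear_combination hcon a - a * h1
  set θ := b / (b + σ b) with hθ
  have hθ1 : θ + σ θ = 1 := by
    rw [hθ, map_div₀, map_add, hG.invol, add_comm (σ b) b, ← add_div, div_self hb]
  refine ⟨{ toFun := fun x => θ * ψ x + σ (θ * ψ (bar x)), map_add' := ?_, map_smul' := ?_ }, ?_, ?_⟩
  · intro x y
    simp only [map_add, mul_add]
    ring
  · intro a x
    have hb' : bar (a • x) = σ a • bar x := by rw [Algebra.smul_def, map_mul, hG.bext, ← Algebra.smul_def]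
    simp only [hb', map_smul, smul_eq_mul, RingHom.id_apply, map_mul, hG.invol]
    ring
  · show θ * ψ 1 + σ (θ * ψ (bar 1)) = 1
    rw [show bar 1 = 1 from map_one bar, hψ, mul_one, hθ1]
  · intro c
    show θ * ψ (bar c) + σ (θ * ψ (bar (bar c))) = σ (θ * ψ c + σ (θ * ψ (bar c)))
    rw [hG.binvol, map_add, hG.invol, add_comm]

theorem Geo.exists_lift (hG : Geo σ bar f) : ∃ lam B, Lift σ bar f lam B := by
  obtain ⟨lam, h1, hbar⟩ := hG.exists_lam
  let Φ : K →ₗ[F] (K →ₗ[F] F) :=
    { toFun := fun a => lam.comp (LinearMap.mulRight F a)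
      map_add' := fun a b => by ext c; simp [mul_add]
      map_smul' := fun s a => by ext c; simp [mul_smul_comm] }
  have hinj : Function.Injective Φ := by
    intro a b h
    by_contra hne
    have h0 : lam ((a - b)⁻¹ * a) = lam ((a - b)⁻¹ * b) := LinearMap.congr_fun h (a - b)⁻¹
    have : lam ((a - b)⁻¹ * (a - b)) = 0 := by rw [mul_sub, map_sub, h0, sub_self]
    rw [inv_mul_cancel₀ (sub_ne_zero.2 hne), h1] at this
    exact one_ne_zero this
  have hsurj : Function.Surjective Φ :=
    (LinearMap.injective_iff_surjective_of_finrank_eq_finrank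
      (by rw [Module.finrank_linearMap, finrank_self, mul_one])).1 hinj
  have hex : ∀ x y : V, ∃ a : K, ∀ c, lam (c * a) = f (c • x) y := by
    intro x y
    let L : K →ₗ[F] F :=
      { toFun := fun c => f (c • x) y
        map_add' := fun a b => by rw [add_smul, hG.add_left]
        map_smul' := fun s a => by rw [smul_assoc, hG.smul_left]; rfl }
    obtain ⟨a, ha⟩ := hsurj L
    exact ⟨a, fun c => LinearMap.congr_fun ha c⟩
  choose b hb using hex
  exact ⟨lam, b, hG, h1, hbar, fun c x y => (hb x y c).symm⟩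

namespace Lift

variable (hL : Lift σ bar f lam B)
include hL

theorem lam_smul (a : F) (x : K) : lam (algebraMap F K a * x) = a * lam x := by
  rw [← Algebra.smul_def, map_smul, smul_eq_mul]

theorem lam_algebraMap (a : F) : lam (algebraMap F K a) = a := by
  rw [← mul_one (algebraMap F K a), hL.lam_smul, hL.one, mul_one]

theorem ext_of {a b : K} (h : ∀ c, lam (c * a) = lam (c * b)) : a = b := by
  by_contra hne
  have h0 := h (a - b)⁻¹
  have : lam ((a - b)⁻¹ * (a - b)) = 0 := by rw [mul_sub, map_sub, h0, sub_self]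
  rw [inv_mul_cancel₀ (sub_ne_zero.2 hne), hL.one] at this
  exact one_ne_zero this

theorem add_left (x x' y : V) : B (x + x') y = B x y + B x' y := hL.ext_of fun c => by
  rw [mul_add, map_add, ← hL.eq, ← hL.eq, ← hL.eq, smul_add, hL.geo.add_left]

theorem smul_left (e : K) (x y : V) : B (e • x) y = e * B x y := hL.ext_of fun c => by
  rw [← mul_assoc, ← hL.eq, ← hL.eq, smul_smul]

theorem herm (x y : V) : B y x = bar (B x y) := hL.ext_of fun c => by
  rw [show c * bar (B x y) = bar (bar c * B x y) by rw [map_mul, hL.geo.binvol], hL.lam_bar,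
    ← hL.eq, ← hL.eq, ← hL.geo.herm, ← hL.geo.adj]

/-- The K-linear functional `B · y`. -/
def Bl (y : V) : V →ₗ[K] K where
  toFun x := B x y
  map_add' a b := hL.add_left a b y
  map_smul' c a := hL.smul_left c a y

theorem Bl_apply (x y : V) : hL.Bl y x = B x y := rfl

theorem zero_left (y : V) : B 0 y = 0 := (hL.Bl y).map_zero

theorem zero_right (x : V) : B x 0 = 0 := by rw [hL.herm 0 x, hL.zero_left, map_zero]

theorem add_right (x y y' : V) : B x (y + y') = B x y + B x y' := by
  rw [hL.herm (y + y') x, hL.add_left, map_add, ← hL.herm, ← hL.herm]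

theorem smul_right (e : K) (x y : V) : B x (e • y) = bar e * B x y := by
  rw [hL.herm (e • y) x, hL.smul_left, map_mul, ← hL.herm]

theorem neg_left (x y : V) : B (-x) y = - B x y := (hL.Bl y).map_neg x

theorem neg_right (x y : V) : B x (-y) = - B x y := by
  rw [hL.herm (-y) x, hL.neg_left, map_neg, ← hL.herm]

theorem sub_left (x x' y : V) : B (x - x') y = B x y - B x' y := (hL.Bl y).map_sub x x'

theorem sub_right (x y y' : V) : B x (y - y') = B x y - B x y' := by
  rw [sub_eq_add_neg, hL.add_right, hL.neg_right, sub_eq_add_neg]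

theorem f_eq (x y : V) : f x y = lam (B x y) := by
  have := hL.eq 1 x y
  rwa [one_smul, one_mul] at this

theorem nondeg (x : V) (h : ∀ y, B x y = 0) : x = 0 :=
  hL.geo.nondeg x fun y => by rw [hL.f_eq, h, map_zero]

theorem zero_comm {x y : V} (h : B x y = 0) : B y x = 0 := by rw [hL.herm x y, h, map_zero]

theorem self_real (x : V) : bar (B x x) = B x x := (hL.herm x x).symm

theorem exists_vec (φ : V →ₗ[K] K) : ∃ w, ∀ x, B x w = φ x := by
  haveI : Finite V := Module.finite_of_finite K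
  have hinj : Function.Injective hL.Bl := by
    intro a b hab
    refine sub_eq_zero.1 (hL.nondeg _ fun y => ?_)
    rw [hL.herm y, hL.sub_right, ← hL.Bl_apply, ← hL.Bl_apply, hab, sub_self, map_zero]
  haveI : Finite (V →ₗ[K] K) := Finite.of_equiv V (Module.finBasis K V).toDualEquiv.toEquiv
  have hb := hinj.bijective_of_nat_card_le (Nat.card_congr (Module.finBasis K V).toDualEquiv.toEquiv).symm.le
  obtain ⟨w, hw⟩ := hb.2 φ
  exact ⟨w, fun x => LinearMap.congr_fun hw x⟩

theorem exists_theta : ∃ t : K, t + bar t = 1 := by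
  obtain ⟨b, hb⟩ : ∃ b : F, b + σ b ≠ 0 := by
    by_contra hcon
    push Not at hcon
    obtain ⟨a, ha⟩ := hL.geo.ne_refl
    apply ha
    have h1 := hcon 1
    rw [map_one] at h1
    linear_combination hcon a - a * h1
  refine ⟨algebraMap F K (b / (b + σ b)), ?_⟩
  have h1 : b / (b + σ b) + σ (b / (b + σ b)) = 1 := by
    rw [map_div₀, map_add, hL.geo.invol, add_comm (σ b) b, ← add_div, div_self hb]
  rw [hL.geo.bext, ← map_add, h1, map_one]

theorem exists_trace {b : K} (hb : bar b = b) : ∃ a, a + bar a = b := by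
  obtain ⟨t, ht⟩ := hL.exists_theta
  exact ⟨t * b, by rw [map_mul, hb, ← add_mul, ht, one_mul]⟩

theorem exists_zeta : ∃ ζ : F, ζ ≠ 0 ∧ σ ζ = -ζ := by
  obtain ⟨a, ha⟩ := hL.geo.ne_refl
  exact ⟨a - σ a, sub_ne_zero.2 (Ne.symm ha), by rw [map_sub, hL.geo.invol, neg_sub]⟩

theorem zeta_inA {ζ : F} (hζ : σ ζ = -ζ) : bar (algebraMap F K ζ) = - algebraMap F K ζ := by
  rw [hL.geo.bext, hζ, map_neg]

theorem exists_decomp {a₀ : F} (ha : σ a₀ ≠ a₀) (c : K) :
    ∃ p q, bar p = p ∧ bar q = q ∧ c = p + algebraMap F K a₀ * q := by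
  set A := algebraMap F K a₀ with hA
  have hne : A - bar A ≠ 0 := by
    rw [hA, hL.geo.bext]
    exact sub_ne_zero.2 ((algebraMap F K).injective.ne (Ne.symm ha))
  set q := (c - bar c) / (A - bar A) with hq
  have hqr : bar q = q := by
    rw [hq, map_div₀, map_sub, map_sub, hL.geo.binvol, hL.geo.binvol, ← neg_div_neg_eq, neg_sub, neg_sub]
  refine ⟨c - A * q, q, ?_, hqr, (sub_add_cancel c _).symm⟩
  rw [map_sub, map_mul, hqr]
  have : (A - bar A) * q = c - bar c := by rw [hq]; field_simp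
  linear_combination this

/-- The anti-fixed elements span K over F. -/
theorem span_A (L : Submodule F K) (h : ∀ a, bar a = -a → a ∈ L) : L = ⊤ := by
  obtain ⟨ζ, hζ, hζ'⟩ := hL.exists_zeta
  obtain ⟨a₀, ha₀⟩ := hL.geo.ne_refl
  have key : ∀ p, bar p = p → p ∈ L := by
    intro p hp
    have h1 : algebraMap F K ζ * p ∈ L := h _ (by rw [map_mul, hL.zeta_inA hζ', hp, neg_mul])
    have h2 := L.smul_mem ζ⁻¹ h1
    rwa [Algebra.smul_def, ← mul_assoc, ← map_mul, inv_mul_cancel₀ hζ, map_one, one_mul] at h2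
  refine eq_top_iff.2 fun c _ => ?_
  obtain ⟨p, q, hp, hq, rfl⟩ := hL.exists_decomp ha₀ c
  rw [← Algebra.smul_def]
  exact add_mem (key p hp) (L.smul_mem _ (key q hq))

/-- The involution is a power map. -/
theorem exists_Q : ∃ Q, 1 < Q ∧ Fintype.card K = Q ^ 2 ∧ Q ^ 2 = Fintype.card F ^ finrank F K ∧
    ∀ x : K, bar x = x ^ Q := by
  classical
  let K0 : Subfield K := RingHom.eqLocusField bar.toRingHom (RingHom.id K)
  have hmem : ∀ x, x ∈ K0 ↔ bar x = x := fun x => Iff.rfl
  set Q := Fintype.card K0 with hQ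
  obtain ⟨a₀, ha₀⟩ := hL.geo.ne_refl
  have hcard : Fintype.card K = Q ^ 2 := by
    let e : K0 × K0 → K := fun x => (x.1 : K) + algebraMap F K a₀ * x.2
    have hb : Function.Bijective e := by
      constructor
      · rintro ⟨p, q⟩ ⟨p', q'⟩ h
        have hp := (hmem _).1 p.2
        have hq := (hmem _).1 q.2
        have hp' := (hmem _).1 p'.2
        have hq' := (hmem _).1 q'.2
        have h1 : (p : K) + algebraMap F K a₀ * q = p' + algebraMap F K a₀ * q' := h
        have h2 := congrArg bar h1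
        simp only [map_add, map_mul, hp, hq, hp', hq'] at h2
        have hne : algebraMap F K a₀ - bar (algebraMap F K a₀) ≠ 0 := by
          rw [hL.geo.bext]
          exact sub_ne_zero.2 ((algebraMap F K).injective.ne (Ne.symm ha₀))
        have h3 : (algebraMap F K a₀ - bar (algebraMap F K a₀)) * ((q : K) - q') = 0 := by
          linear_combination h1 - h2
        have h4 : (q : K) = q' := sub_eq_zero.1 ((mul_eq_zero.1 h3).resolve_left hne)
        rw [h4, add_left_inj] at h1
        exact Prod.ext (Subtype.ext h1) (Subtype.ext h4)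
      · intro c
        obtain ⟨p, q, hp, hq, h⟩ := hL.exists_decomp ha₀ c
        exact ⟨(⟨p, hp⟩, ⟨q, hq⟩), h.symm⟩
    rw [← Fintype.card_congr (Equiv.ofBijective e hb), Fintype.card_prod, sq]
  have hQ1 : 1 < Q := Fintype.one_lt_card
  refine ⟨Q, hQ1, hcard, by rw [← hcard, Module.card_eq_pow_finrank (K := F)], fun x => ?_⟩
  obtain ⟨p, hp⟩ := CharP.exists K
  haveI : Fact p.Prime := ⟨CharP.char_is_prime K p⟩
  haveI : CharP K0 p := (RingHom.charP_iff K0.subtype Subtype.coe_injective p).2 hp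
  obtain ⟨k, -, hk⟩ := FiniteField.card K0 p
  have hadd : ∀ a b : K, (a + b) ^ Q = a ^ Q + b ^ Q := fun a b => by
    rw [hQ, hk]; exact add_pow_char_pow a b p (k : ℕ)
  have hfix : ∀ a : K, bar a = a → a ^ Q = a := fun a ha =>
    congrArg Subtype.val (FiniteField.pow_card (⟨a, ha⟩ : K0))
  have hS := hfix (x + bar x) (by rw [map_add, hL.geo.binvol, add_comm])
  have hP := hfix (x * bar x) (by rw [map_mul, hL.geo.binvol, mul_comm])
  rw [hadd] at hS
  rw [mul_pow] at hP
  have h0 : (x ^ Q - x) * (x ^ Q - bar x) = 0 := by linear_combination (-(x ^ Q)) * (-hS) - hP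
  rcases mul_eq_zero.1 h0 with h | h
  · suffices x ∈ K0 by rw [(hmem x).1 this, hfix x this]
    by_contra hx
    let s : Finset K := insert x (Finset.univ.map ⟨((↑) : K0 → K), Subtype.coe_injective⟩)
    have hs : s.card = Q + 1 := by
      rw [Finset.card_insert_of_notMem (by simpa using hx), Finset.card_map, Finset.card_univ]
    have hsub : s ⊆ (Polynomial.X ^ Q - Polynomial.X : Polynomial K).roots.toFinset := by
      intro y hy
      rw [Multiset.mem_toFinset, Polynomial.mem_roots (FiniteField.X_pow_card_sub_X_ne_zero K hQ1)]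
      rcases Finset.mem_insert.1 hy with rfl | hy
      · simpa using h
      · obtain ⟨z, -, rfl⟩ := Finset.mem_map.1 hy
        simp [hfix z z.2]
    have h3 := Finset.card_le_card hsub
    have h4 := (Polynomial.X ^ Q - Polynomial.X : Polynomial K).card_roots'
    rw [FiniteField.X_pow_card_sub_X_natDegree_eq K hQ1] at h4
    have h5 := (Multiset.toFinset_card_le _).trans h4
    omega
  · exact (sub_eq_zero.1 h).symm

theorem exists_norm {b : K} (hb : bar b = b) : ∃ c, c * bar c = b := by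
  obtain ⟨Q, hQ1, hcard, -, hbar⟩ := hL.exists_Q
  by_cases hb0 : b = 0
  · exact ⟨0, by simp [hb0]⟩
  obtain ⟨g, hg⟩ := IsCyclic.exists_generator (α := Kˣ)
  obtain ⟨i, hi⟩ := Subgroup.mem_zpowers_iff.1 (hg (Units.mk0 b hb0))
  have hord : orderOf g = Q ^ 2 - 1 := by
    rw [orderOf_eq_card_of_forall_mem_zpowers hg, Nat.card_units, Nat.card_eq_fintype_card, hcard]
  have h1 : (Units.mk0 b hb0) ^ Q = Units.mk0 b hb0 := by ext; simpa [← hbar] using hb
  rw [← hi, ← zpow_natCast, ← zpow_mul, zpow_eq_zpow_iff_modEq, hord] at h1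
  have h2 : ((Q ^ 2 - 1 : ℕ) : ℤ) ∣ i * (Q : ℤ) - i := by
    have := Int.ModEq.dvd h1.symm
    exact this
  have hcast : ((Q ^ 2 - 1 : ℕ) : ℤ) = ((Q : ℤ) - 1) * ((Q : ℤ) + 1) := by
    rw [Nat.cast_sub (Nat.one_le_pow _ _ (by omega))]; push_cast; ring
  rw [hcast, show i * (Q : ℤ) - i = ((Q : ℤ) - 1) * i by ring] at h2
  obtain ⟨j, hj⟩ := Int.dvd_of_mul_dvd_mul_left (by omega) h2
  refine ⟨((g ^ j : Kˣ) : K), ?_⟩
  have : (g ^ j) * (g ^ j) ^ Q = Units.mk0 b hb0 := by
    rw [← hi, ← zpow_natCast (g ^ j), ← zpow_mul, ← zpow_add, hj]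
    congr 1
    ring
  rw [hbar]
  exact congrArg Units.val this

theorem map_eq {g : V ≃ₗ[F] V} (hg : ∀ x y, f (g x) (g y) = f x y) (hl : ∀ (c : K) x, g (c • x) = c • g x)
    (x y : V) : B (g x) (g y) = B x y :=
  hL.ext_of fun c => by rw [← hL.eq, ← hL.eq, ← hl, hg]

end Lift

theorem det_one_add_of_nilpotent {N : V →ₗ[K] V} (h : IsNilpotent N) : LinearMap.det (1 + N) = 1 := by
  have h1 := LinearMap.eval_charpoly (f := -N) (1 : K)
  rw [IsNilpotent.charpoly_eq_X_pow_finrank (IsNilpotent.neg h), map_one, sub_neg_eq_add, Polynomial.eval_pow,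
    Polynomial.eval_X, one_pow] at h1
  exact h1.symm

section
variable (hM : Hyp σ bar f M) (hL : Lift σ bar f lam B)
include hM hL

theorem exists_lin (T : V →ₗ[K] V) (hT : ∀ x y, B (T x) (T y) = B x y)
    (hdet : Algebra.norm F (LinearMap.det T) = 1) :
    ∃ h ∈ M, (∀ (c : K) x, h (c • x) = c • h x) ∧ ∀ x, h x = T x := by
  haveI : Finite V := Module.finite_of_finite K
  have hinj : Function.Injective (T.restrictScalars F) := by
    rw [injective_iff_map_eq_zero]
    intro x hx
    refine hL.nondeg x fun y => ?_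
    rw [← hT, show T x = 0 from hx, hL.zero_left]
  let h : V ≃ₗ[F] V := LinearEquiv.ofBijective (T.restrictScalars F) (Finite.injective_iff_bijective.1 hinj)
  refine ⟨h, hM.lin h (fun c x => T.map_smul c x) (fun x y => ?_) ?_, fun c x => T.map_smul c x, fun x => rfl⟩
  · rw [hL.f_eq, hL.f_eq]
    exact congrArg lam (hT x y)
  · show LinearMap.det (T.restrictScalars F) = 1
    rw [LinearMap.det_restrictScalars, hdet]

/-- Siegel transformations. -/
theorem exists_S (u w : V) (a : K) (hu : B u u = 0) (huw : B u w = 0) (ha : a + bar a = - B w w) :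
    ∃ g ∈ M, (∀ (c : K) x, g (c • x) = c • g x) ∧
      ∀ x, g x = x + (B x u • (a • u + w) - B x w • u) := by
  let N : V →ₗ[K] V := (LinearMap.toSpanSingleton K V (a • u + w)).comp (hL.Bl u) -
    (LinearMap.toSpanSingleton K V u).comp (hL.Bl w)
  have hN : ∀ x, N x = B x u • (a • u + w) - B x w • u := fun x => rfl
  have hwu : B w u = 0 := hL.zero_comm huw
  have hNu : N u = 0 := by rw [hN, hu, huw, zero_smul, zero_smul, sub_zero]
  have hNaw : N (a • u + w) = - (B w w • u) := by
    rw [map_add, map_smul, hNu, smul_zero, zero_add, hN, hwu, zero_smul, zero_sub]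
  have hnil : IsNilpotent N := by
    refine ⟨3, LinearMap.ext fun x => ?_⟩
    rw [Module.End.pow_apply]
    show N (N (N x)) = 0
    rw [hN x, map_sub, map_smul, map_smul, hNaw, hNu, smul_zero, sub_zero, map_smul, map_neg, map_smul, hNu,
      smul_zero, neg_zero, smul_zero]
  obtain ⟨g, hg, hl, hgx⟩ := exists_lin hM hL (1 + N) (fun x y => by
    show B (x + N x) (y + N y) = B x y
    simp only [hN, hL.add_left, hL.sub_left, hL.smul_left, hL.add_right, hL.sub_right, hL.smul_right, hu, huw,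
      hwu]
    rw [← hL.herm y u, ← hL.herm y w]
    linear_combination (B x u * B u y) * ha) (by rw [det_one_add_of_nilpotent hnil, map_one])
  exact ⟨g, hg, hl, fun x => by rw [hgx]; rfl⟩

/-- Translations along an isotropic vector. -/
theorem exists_T (u : V) (a : K) (hu : B u u = 0) (ha : bar a = -a) :
    ∃ g ∈ M, (∀ (c : K) x, g (c • x) = c • g x) ∧ ∀ x, g x = x + (a * B x u) • u := by
  obtain ⟨g, hg, hl, hgx⟩ := exists_S hM hL u 0 a hu (hL.zero_right u) (by rw [hL.zero_right, ha, neg_zero, add_neg_cancel])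
  exact ⟨g, hg, hl, fun x => by rw [hgx, hL.zero_right, zero_smul, sub_zero, add_zero, smul_smul, mul_comm]⟩

/-- Isotropic vectors with imaginary product are conjugate. -/
theorem exists_key {a b : V} (ha : B a a = 0) (hb : B b b = 0) (hab : B a b ≠ 0)
    (him : bar (B a b) = - B a b) : ∃ h ∈ M, (∀ (c : K) x, h (c • x) = c • h x) ∧ h a = b := by
  obtain ⟨g, hg, hl, hgx⟩ := exists_T hM hL (b - a) (B a b)⁻¹
    (by rw [hL.sub_left, hL.sub_right, hL.sub_right, ha, hb, hL.herm a b, him]; ring)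
    (by rw [map_inv₀, him, inv_neg])
  exact ⟨g, hg, hl, by rw [hgx, hL.sub_right, ha, sub_zero, inv_mul_cancel₀ hab, one_smul, add_sub_cancel]⟩

theorem exists_partner {v : V} (hv : B v v = 0) (hv0 : v ≠ 0) : ∃ v', B v' v' = 0 ∧ B v v' = 1 := by
  obtain ⟨φ, hφ, -⟩ := exists_dual_one (⊥ : Submodule K V) (by simpa using hv0)
  obtain ⟨w, hw⟩ := hL.exists_vec φ
  have hvw : B v w = 1 := by rw [hw, hφ]
  have hwv : B w v = 1 := by rw [hL.herm v w, hvw, map_one]
  obtain ⟨m, hm⟩ := hL.exists_trace (b := - B w w) (by rw [map_neg, hL.self_real])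
  refine ⟨w + m • v, ?_, ?_⟩
  · simp only [hL.add_left, hL.smul_left, hL.add_right, hL.smul_right, hv, hvw, hwv]
    linear_combination hm
  · rw [hL.add_right, hL.smul_right, hv, hvw, mul_zero, add_zero]

theorem exists_iso_vec : ∃ v, v ≠ 0 ∧ B v v = 0 := by
  haveI : Nontrivial V := Module.finrank_pos_iff.1 (show 0 < finrank K V by rcases hL.geo.dim with h | h <;> omega)
  obtain ⟨x, hx⟩ := exists_ne (0 : V)
  by_cases hxx : B x x = 0
  · exact ⟨x, hx, hxx⟩
  obtain ⟨y, hy, hy0⟩ := (Submodule.ne_bot_iff (LinearMap.ker (hL.Bl x))).1 (fun h => by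
    have h1 := LinearMap.finrank_range_add_finrank_ker (hL.Bl x)
    have h2 := Submodule.finrank_le (LinearMap.range (hL.Bl x))
    rw [h, finrank_bot, add_zero] at h1
    rw [finrank_self] at h2
    rcases hL.geo.dim with h | h <;> omega)
  have hyx : B y x = 0 := LinearMap.mem_ker.1 hy
  by_cases hyy : B y y = 0
  · exact ⟨y, hy0, hyy⟩
  obtain ⟨c, hc⟩ := hL.exists_norm (b := - B y y / B x x) (by rw [map_div₀, map_neg, hL.self_real, hL.self_real])
  refine ⟨c • x + y, fun h => hxx ?_, ?_⟩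
  · have h1 : B (c • x + y) x = 0 := by rw [h, hL.zero_left]
    rw [hL.add_left, hL.smul_left, hyx, add_zero] at h1
    refine (mul_eq_zero.1 h1).resolve_left fun hc0 => hy0 ?_
    rw [hc0, zero_smul, zero_add] at h
    exact h
  · simp only [hL.add_left, hL.smul_left, hL.add_right, hL.smul_right, hyx, hL.zero_comm hyx]
    have := (eq_div_iff hxx).1 hc
    linear_combination this

/-- An isotropic vector with prescribed product. -/
theorem exists_iso_off {x : V} (hx : x ≠ 0) : ∃ v, B v v = 0 ∧ B x v = 1 := by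
  obtain ⟨v0, hv00, hv0⟩ := exists_iso_vec hM hL
  obtain ⟨v1, hv1, hv01⟩ := exists_partner hM hL hv0 hv00
  have hv10 : B v1 v0 = 1 := by rw [hL.herm v0 v1, hv01, map_one]
  by_cases h0 : B x v0 ≠ 0
  · refine ⟨bar (B x v0)⁻¹ • v0, by simp [hL.smul_left, hL.smul_right, hv0], ?_⟩
    rw [hL.smul_right, hL.geo.binvol, inv_mul_cancel₀ h0]
  by_cases h1 : B x v1 ≠ 0
  · refine ⟨bar (B x v1)⁻¹ • v1, by simp [hL.smul_left, hL.smul_right, hv1], ?_⟩
    rw [hL.smul_right, hL.geo.binvol, inv_mul_cancel₀ h1]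
  push Not at h0 h1
  obtain ⟨φ, hφ, -⟩ := exists_dual_one (⊥ : Submodule K V) (by simpa using hx)
  obtain ⟨w, hw⟩ := hL.exists_vec φ
  set w' := w - B w v1 • v0 - B w v0 • v1 with hw'
  have h2 : B w' v0 = 0 := by
    simp only [hw', hL.sub_left, hL.smul_left, hv0, hv10]; ring
  have h3 : B w' v1 = 0 := by
    simp only [hw', hL.sub_left, hL.smul_left, hv1, hv01]; ring
  obtain ⟨m, hm⟩ := hL.exists_trace (b := - B w' w') (by rw [map_neg, hL.self_real])
  refine ⟨w' + m • v0 + v1, ?_, ?_⟩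
  · simp only [hL.add_left, hL.smul_left, hL.add_right, hL.smul_right, hv0, hv1, hv01, hv10, h2, h3,
      hL.zero_comm h2, hL.zero_comm h3]
    linear_combination hm
  · simp only [hw', hL.add_right, hL.sub_right, hL.smul_right, h0, h1, hw, hφ]
    ring

/-- Isotropic lines are conjugate. -/
theorem exists_transitive {a b : V} (ha : B a a = 0) (hb : B b b = 0) (ha0 : a ≠ 0) (hb0 : b ≠ 0) :
    ∃ h ∈ M, (∀ (c : K) x, h (c • x) = c • h x) ∧ ∃ c : K, c ≠ 0 ∧ h a = c • b := by
  obtain ⟨ζ, hζ, hζ'⟩ := hL.exists_zeta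
  have hζA := hL.zeta_inA (ζ := ζ) hζ'
  have hζ0 : algebraMap F K ζ ≠ 0 := by simpa using hζ
  have key : ∀ {a b : V}, B a a = 0 → B b b = 0 → B a b ≠ 0 →
      ∃ h ∈ M, (∀ (c : K) x, h (c • x) = c • h x) ∧ ∃ c : K, c ≠ 0 ∧ h a = c • b := by
    intro a b ha hb hab
    set c := bar (algebraMap F K ζ / B a b) with hc
    have hc' : B a (c • b) = algebraMap F K ζ := by
      rw [hL.smul_right, hc, hL.geo.binvol, div_mul_cancel₀ _ hab]
    obtain ⟨h, hh, hl, hha⟩ := exists_key hM hL ha (b := c • b) (by simp [hL.smul_left, hL.smul_right, hb])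
      (by rw [hc']; exact hζ0) (by rw [hc', hζA])
    exact ⟨h, hh, hl, c, by simp [hc, hζ, hab], hha⟩
  by_cases hab : B a b ≠ 0
  · exact key ha hb hab
  push Not at hab
  obtain ⟨φa, hφa, -⟩ := exists_dual_one (⊥ : Submodule K V) (by simpa using ha0)
  obtain ⟨φb, hφb, -⟩ := exists_dual_one (⊥ : Submodule K V) (by simpa using hb0)
  obtain ⟨χ, hχa, hχb⟩ : ∃ χ : V →ₗ[K] K, χ a ≠ 0 ∧ χ b ≠ 0 := by
    by_cases h1 : φa b ≠ 0
    · exact ⟨φa, by rw [hφa]; exact one_ne_zero, h1⟩
    by_cases h2 : φb a ≠ 0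
    · exact ⟨φb, h2, by rw [hφb]; exact one_ne_zero⟩
    push Not at h1 h2
    exact ⟨φa + φb, by simp [hφa, h2], by simp [hφb, h1]⟩
  obtain ⟨w, hw⟩ := hL.exists_vec χ
  have haw : B a w ≠ 0 := by rw [hw]; exact hχa
  have hbw : B b w ≠ 0 := by rw [hw]; exact hχb
  obtain ⟨m₀, hm₀⟩ := hL.exists_trace (b := - B w w) (by rw [map_neg, hL.self_real])
  set m := m₀ / B a w with hm
  have hm1 : m * B a w = m₀ := div_mul_cancel₀ _ haw
  set x := w + m • a with hx
  have hxx : B x x = 0 := by
    simp only [hx, hL.add_left, hL.smul_left, hL.add_right, hL.smul_right, ha, hL.herm a w]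
    have h4 := congrArg bar hm1
    rw [map_mul] at h4
    linear_combination hm₀ + hm1 + h4
  have hax : B a x = B a w := by rw [hx, hL.add_right, hL.smul_right, ha, mul_zero, add_zero]
  have hbx : B b x = B b w := by
    rw [hx, hL.add_right, hL.smul_right, hL.zero_comm hab, mul_zero, add_zero]
  obtain ⟨h1, hh1, l1, c1, hc1, e1⟩ := key ha hxx (by rw [hax]; exact haw)
  obtain ⟨h2, hh2, l2, c2, hc2, e2⟩ := key hxx hb (fun h => hbw (by rw [← hbx]; exact hL.zero_comm h))
  exact ⟨h2 * h1, mul_mem hh2 hh1, fun c y => by rw [mul_apply', mul_apply', l1, l2], c1 * c2,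
    mul_ne_zero hc1 hc2, by rw [mul_apply', e1, l2, e2, mul_smul]⟩

/-- Scaling an isotropic vector by a fixed element. -/
theorem scale_real {v : V} (hv : B v v = 0) (hv0 : v ≠ 0) {k : K} (hk : bar k = k) (hk0 : k ≠ 0) :
    ∃ h ∈ M, (∀ (c : K) x, h (c • x) = c • h x) ∧ h v = k • v := by
  obtain ⟨ζ, hζ, hζ'⟩ := hL.exists_zeta
  have hζA := hL.zeta_inA (ζ := ζ) hζ'
  have hζ0 : algebraMap F K ζ ≠ 0 := by simpa using hζ
  obtain ⟨v', hv', hvv'⟩ := exists_partner hM hL hv hv0
  set z := algebraMap F K ζ with hz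
  have h1 : B v (z • v') = -z := by rw [hL.smul_right, hvv', mul_one, hζA]
  have h2 : B (z • v') (k • v) = z * k := by
    rw [hL.smul_left, hL.smul_right, hk, hL.herm v v', hvv', map_one, mul_one]
  obtain ⟨g1, hg1, l1, e1⟩ := exists_key hM hL hv (b := z • v') (by simp [hL.smul_left, hL.smul_right, hv'])
    (by rw [h1]; exact neg_ne_zero.2 hζ0) (by rw [h1, map_neg, hζA])
  obtain ⟨g2, hg2, l2, e2⟩ := exists_key hM hL (a := z • v') (by simp [hL.smul_left, hL.smul_right, hv'])
    (b := k • v) (by simp [hL.smul_left, hL.smul_right, hv])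
    (by rw [h2]; exact mul_ne_zero hζ0 hk0) (by rw [h2, map_mul, hζA, hk, neg_mul])
  exact ⟨g2 * g1, mul_mem hg2 hg1, fun c x => by rw [mul_apply', mul_apply', l1, l2],
    by rw [mul_apply', e1, e2]⟩

theorem exists_perp_norm (h3 : 3 ≤ finrank K V) {v v' : V} (hv : B v v = 0) (hv' : B v' v' = 0)
    (hvv' : B v v' = 1) {b : K} (hb : bar b = b) : ∃ y, B y v = 0 ∧ B y v' = 0 ∧ B y y = b := by
  have hv'v : B v' v = 1 := by rw [hL.herm v v', hvv', map_one]
  let proj : V → V := fun x => x - B x v' • v - B x v • v'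
  have hproj : ∀ x, B (proj x) v = 0 ∧ B (proj x) v' = 0 := fun x => by
    constructor <;> simp only [proj, hL.sub_left, hL.smul_left, hv, hv', hvv', hv'v] <;> ring
  obtain ⟨y, hy1, hy2, hy⟩ : ∃ y, B y v = 0 ∧ B y v' = 0 ∧ B y y ≠ 0 := by
    by_contra hcon
    push Not at hcon
    obtain ⟨y, hy, hy0⟩ := (Submodule.ne_bot_iff (LinearMap.ker ((hL.Bl v).prod (hL.Bl v')))).1 (fun h => by
      have h1 := LinearMap.finrank_range_add_finrank_ker ((hL.Bl v).prod (hL.Bl v'))
      have h2 := Submodule.finrank_le (LinearMap.range ((hL.Bl v).prod (hL.Bl v')))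
      rw [h, finrank_bot, add_zero] at h1
      rw [Module.finrank_prod, finrank_self] at h2
      omega)
    rw [LinearMap.mem_ker] at hy
    replace hy : B y v = 0 ∧ B y v' = 0 := Prod.mk_eq_zero.1 hy
    have hpol : ∀ x, B x v = 0 → B x v' = 0 → B y x = 0 := by
      intro x hx hx'
      obtain ⟨t, ht⟩ := hL.exists_theta
      by_contra hne
      have h1 := hcon (y + bar (t / B y x) • x)
        (by rw [hL.add_left, hL.smul_left, hy.1, hx, mul_zero, add_zero])
        (by rw [hL.add_left, hL.smul_left, hy.2, hx', mul_zero, add_zero])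
      simp only [hL.add_left, hL.smul_left, hL.add_right, hL.smul_right, hcon y hy.1 hy.2, hcon x hx hx',
        hL.geo.binvol, hL.herm y x, ← map_mul, div_mul_cancel₀ _ hne, mul_zero, add_zero, zero_add] at h1
      rw [ht] at h1
      exact one_ne_zero h1
    refine hy0 (hL.nondeg y fun x => ?_)
    have := hpol _ (hproj x).1 (hproj x).2
    simpa only [proj, hL.sub_right, hL.smul_right, hy.1, hy.2, mul_zero, sub_zero] using this
  obtain ⟨c, hc⟩ := hL.exists_norm (b := b / B y y) (by rw [map_div₀, hb, hL.self_real])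
  refine ⟨c • y, by rw [hL.smul_left, hy1, mul_zero], by rw [hL.smul_left, hy2, mul_zero], ?_⟩
  rw [hL.smul_left, hL.smul_right, ← mul_assoc, hc, div_mul_cancel₀ _ hy]

/-- In dimension at least three all multiples of an isotropic vector are conjugate. -/
theorem scale_any (h3 : 3 ≤ finrank K V) {v : V} (hv : B v v = 0) (hv0 : v ≠ 0) {k : K} (hk0 : k ≠ 0) :
    ∃ h ∈ M, (∀ (c : K) x, h (c • x) = c • h x) ∧ h v = k • v := by
  obtain ⟨ζ, hζ, hζ'⟩ := hL.exists_zeta
  have hζA := hL.zeta_inA (ζ := ζ) hζ'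
  have hζ0 : algebraMap F K ζ ≠ 0 := by simpa using hζ
  obtain ⟨v', hv', hvv'⟩ := exists_partner hM hL hv hv0
  have hv'v : B v' v = 1 := by rw [hL.herm v v', hvv', map_one]
  set z := algebraMap F K ζ with hz
  obtain ⟨y, hy1, hy2, hy⟩ := exists_perp_norm hM hL h3 hv hv' hvv' (b := - (z * k + bar (z * k)))
    (by rw [map_neg, map_add, hL.geo.binvol, add_comm])
  set e := v + (z * k) • v' + y with he
  have hee : B e e = 0 := by
    simp only [he, hL.add_left, hL.smul_left, hL.add_right, hL.smul_right, hv, hv', hvv', hv'v, hy1, hy2,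
      hL.zero_comm hy1, hL.zero_comm hy2, hy]
    ring
  have h1 : B v (z • v') = -z := by rw [hL.smul_right, hvv', mul_one, hζA]
  have h2 : B (z • v') e = z := by
    simp only [he, hL.smul_left, hL.add_right, hL.smul_right, hv', hv'v, hL.zero_comm hy2]
    ring
  have h3' : B e (k • v) = z * (k * bar k) := by
    simp only [he, hL.smul_right, hL.add_left, hL.smul_left, hv, hv'v, hy1]
    ring
  obtain ⟨g1, hg1, l1, e1⟩ := exists_key hM hL hv (b := z • v') (by simp [hL.smul_left, hL.smul_right, hv'])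
    (by rw [h1]; exact neg_ne_zero.2 hζ0) (by rw [h1, map_neg, hζA])
  obtain ⟨g2, hg2, l2, e2⟩ := exists_key hM hL (a := z • v') (by simp [hL.smul_left, hL.smul_right, hv'])
    hee (by rw [h2]; exact hζ0) (by rw [h2, hζA])
  obtain ⟨g3, hg3, l3, e3⟩ := exists_key hM hL hee (b := k • v) (by simp [hL.smul_left, hL.smul_right, hv])
    (by rw [h3']; exact mul_ne_zero hζ0 (mul_ne_zero hk0 (by simpa using hk0)))
    (by rw [h3', map_mul, map_mul, hζA, hL.geo.binvol, neg_mul, mul_comm (bar k)])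
  exact ⟨g3 * (g2 * g1), mul_mem hg3 (mul_mem hg2 hg1),
    fun c x => by rw [mul_apply', mul_apply', mul_apply', mul_apply', l1, l2, l3],
    by rw [mul_apply', mul_apply', e1, e2, e3]⟩

/-- Translations of a point off the line of `v`. -/
theorem translate {v z : V} (hv : B v v = 0) (hz : z ∉ Submodule.span K {v}) (L : Submodule F K)
    (h : ∀ t ∈ M, ∀ l : K, (∀ p : K, t (p • v) = p • v) → t z = z + l • v → l ∈ L) : L = ⊤ := by
  by_cases hzv : B z v = 0
  · refine eq_top_iff.2 fun l _ => ?_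
    obtain ⟨φ, hφz, hφ0⟩ := exists_dual_one _ hz
    obtain ⟨w, hw⟩ := hL.exists_vec ((-l) • φ)
    have hvw : B v w = 0 := by
      rw [hw, LinearMap.smul_apply, hφ0 v (Submodule.mem_span_singleton_self v), smul_zero]
    obtain ⟨a, ha⟩ := hL.exists_trace (b := - B w w) (by rw [map_neg, hL.self_real])
    obtain ⟨t, ht, hl, htx⟩ := exists_S hM hL v w a hv hvw ha
    refine h t ht l (fun p => ?_) ?_
    · rw [htx, hL.smul_left, hL.smul_left, hv, hvw, mul_zero, zero_smul, zero_smul, sub_zero, add_zero]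
    · rw [htx, hzv, zero_smul, zero_sub, hw, LinearMap.smul_apply, hφz, smul_eq_mul, mul_one, neg_smul, neg_neg]
  · let L' : Submodule F K := L.comap (LinearMap.mulRight F (B z v))
    have hL' : L' = ⊤ := hL.span_A L' fun a ha => by
      obtain ⟨t, ht, hl, htx⟩ := exists_T hM hL v a hv ha
      refine h t ht _ (fun p => ?_) (htx z)
      rw [htx, hL.smul_left, hv, mul_zero, mul_zero, zero_smul, add_zero]
    refine eq_top_iff.2 fun l _ => ?_
    have h1 : l / B z v ∈ L' := hL' ▸ Submodule.mem_top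
    rwa [Submodule.mem_comap, LinearMap.mulRight_apply, div_mul_cancel₀ _ hzv] at h1

end

end

end Cfsg.Agent.ExtFieldUnit74
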