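import Mathlib
import Cfsg.Agent.Lib.ExtFieldUnit74Base
import Cfsg.Agent.Lib.ExtFieldOrthBase

/-!
From an element not preserving the K-structure of a unitary space to an element fixing a hyperplane of an
isotropic K-line and moving the line.
-/

set_option autoImplicit false
set_option linter.unusedSectionVars false
set_option linter.style.haveILetI false

namespace Cfsg.Agent.ExtFieldUnit74

open Module
open Cfsg.Agent.ExtFieldMax (mul_apply' inv_apply' apply_inv' exists_dual_one)

noncomputable section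

variable {F K V : Type*} [Field F] [Fintype F] [Field K] [Fintype K] [Algebra F K]
  [AddCommGroup V] [Module F V] [Module K V] [IsScalarTower F K V] [FiniteDimensional K V]

variable {σ : F ≃+* F} {bar : K ≃+* K} {f : V → V → F} {lam : K →ₗ[F] F} {B : V → V → K}
  {M : Subgroup (V ≃ₗ[F] V)}

/-- The fixed field of `σ`. -/
abbrev fixF (σ : F ≃+* F) : Subfield F := RingHom.eqLocusField σ.toRingHom (RingHom.id F)

theorem mem_fixF {σ : F ≃+* F} {a : F} : a ∈ fixF σ ↔ σ a = a := Iff.rfl

section
variable (hM : Hyp σ bar f M) (hL : Lift σ bar f lam B)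
include hM hL

theorem bar_smul_fix (s : fixF σ) (x : K) : bar (s • x) = s • bar x := by
  rw [Subfield.smul_def, Subfield.smul_def, Algebra.smul_def, Algebra.smul_def, map_mul, hL.geo.bext,
    mem_fixF.1 s.2]

theorem real_smul_fix (s : fixF σ) (x : V) (y : V) : B ((s : F) • x) y = s • B x y := by
  rw [← algebraMap_smul K (s : F) x, hL.smul_left, Subfield.smul_def, Algebra.smul_def]

/-- Some multiple of an isotropic vector has isotropic image. -/
theorem exists_line_iso {g : V ≃ₗ[F] V} (hg : g ∈ M) {u : V} (hu : B u u = 0) :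
    ∃ c : K, c ≠ 0 ∧ B (g (c • u)) (g (c • u)) = 0 := by
  classical
  let W0 : Submodule (fixF σ) K :=
    { carrier := {p | bar p = p ∧ lam p = 0}
      add_mem' := fun {a b} ha hb => ⟨by rw [map_add, ha.1, hb.1], by rw [map_add, ha.2, hb.2, add_zero]⟩
      zero_mem' := ⟨map_zero _, map_zero _⟩
      smul_mem' := fun s a ha => ⟨by rw [bar_smul_fix hM hL, ha.1],
        by rw [Subfield.smul_def, map_smul, ha.2, smul_zero]⟩ }
  obtain ⟨a₀, ha₀⟩ := hL.geo.ne_refl
  let e : W0 × W0 →ₗ[fixF σ] (LinearMap.ker lam).restrictScalars (fixF σ) :=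
    { toFun := fun x => ⟨(x.1 : K) + algebraMap F K a₀ * x.2, by
        rw [Submodule.restrictScalars_mem, LinearMap.mem_ker, map_add, hL.lam_smul, x.1.2.2, x.2.2.2,
          mul_zero, add_zero]⟩
      map_add' := fun x y => Subtype.ext (by
        simp only [Prod.fst_add, Prod.snd_add, Submodule.coe_add]; ring)
      map_smul' := fun s x => Subtype.ext (by
        simp only [Prod.smul_fst, Prod.smul_snd, SetLike.val_smul, RingHom.id_apply, mul_smul_comm, ← smul_add]; rfl) }
  have he : Function.Injective e := by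
    rw [injective_iff_map_eq_zero]
    rintro ⟨p, q⟩ h
    have h1 : (p : K) + algebraMap F K a₀ * q = 0 := congrArg Subtype.val h
    have h2 := congrArg bar h1
    rw [map_add, map_mul, p.2.1, q.2.1, map_zero] at h2
    have hne : algebraMap F K a₀ - bar (algebraMap F K a₀) ≠ 0 := by
      rw [hL.geo.bext]
      exact sub_ne_zero.2 ((algebraMap F K).injective.ne (Ne.symm ha₀))
    have h3 : (q : K) = 0 := by
      have : (algebraMap F K a₀ - bar (algebraMap F K a₀)) * (q : K) = 0 := by linear_combination h1 - h2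
      exact (mul_eq_zero.1 this).resolve_left hne
    rw [h3, mul_zero, add_zero] at h1
    exact Prod.ext (Subtype.ext h1) (Subtype.ext h3)
  have hdim : 2 * finrank (fixF σ) W0 < finrank (fixF σ) K := by
    have h1 := LinearMap.finrank_le_finrank_of_injective he
    rw [Module.finrank_prod] at h1
    have h2 : finrank (fixF σ) ((LinearMap.ker lam).restrictScalars (fixF σ)) =
        finrank (fixF σ) F * finrank F (LinearMap.ker lam) :=
      (Module.finrank_mul_finrank (fixF σ) F (LinearMap.ker lam)).symm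
    have h3 := Module.finrank_mul_finrank (fixF σ) F K
    have h4 : finrank F (LinearMap.ker lam) < finrank F K := Submodule.finrank_lt fun h =>
      one_ne_zero (α := F) (by rw [← hL.one]; exact LinearMap.mem_ker.1 (h ▸ Submodule.mem_top))
    have h5 : 0 < finrank (fixF σ) F := Module.finrank_pos
    nlinarith
  obtain ⟨π, hπ⟩ := W0.subtype.exists_leftInverse_of_injective (Submodule.ker_subtype _)
  let b := Module.finBasis (fixF σ) W0
  let Q2 : K →ₗ[fixF σ] K →ₗ[fixF σ] K :=
    LinearMap.mk₂ (fixF σ) (fun x y => B (g (x • u)) (g (y • u)))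
      (fun x x' y => by simp only [add_smul, map_add, hL.add_left])
      (fun s x y => by
        simp only [Subfield.smul_def, smul_assoc, LinearEquiv.map_smul]
        rw [real_smul_fix hM hL, Subfield.smul_def])
      (fun x y y' => by simp only [add_smul, map_add, hL.add_right])
      (fun s x y => by
        simp only [Subfield.smul_def, smul_assoc, LinearEquiv.map_smul]
        rw [hL.herm ((s : F) • g (y • u)), real_smul_fix hM hL, bar_smul_fix hM hL, ← hL.herm, Subfield.smul_def])
  let Bi : Fin (finrank (fixF σ) W0) → K →ₗ[fixF σ] K →ₗ[fixF σ] fixF σ := fun i =>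
    Q2.compr₂ ((b.coord i).comp π)
  obtain ⟨c, hc, hcz⟩ := ExtFieldOrth.exists_zero Bi 0 (by rwa [Fintype.card_fin])
  refine ⟨c, hc, ?_⟩
  have hmem : B (g (c • u)) (g (c • u)) ∈ W0 := ⟨hL.self_real _, by
    rw [← hL.f_eq, hM.pres g hg, hL.eq, hL.smul_right, hu, mul_zero, mul_zero, map_zero]⟩
  have h1 : π (B (g (c • u)) (g (c • u))) = ⟨_, hmem⟩ := LinearMap.congr_fun hπ ⟨_, hmem⟩
  have h2 : (⟨_, hmem⟩ : W0) = 0 := by
    rw [← h1]
    refine b.forall_coord_eq_zero_iff.1 fun i => ?_
    have := hcz i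
    rwa [Pi.zero_apply, LinearMap.zero_apply, add_zero] at this
  exact congrArg Subtype.val h2

/-- An element mapping some isotropic vector to an isotropic vector and moving its line. -/
theorem exists_breaker : ∃ g ∈ M, ∃ v, v ≠ 0 ∧ B v v = 0 ∧ B (g v) (g v) = 0 ∧
    ∃ c : K, ∀ d : K, g (c • v) ≠ d • g v := by
  classical
  by_contra hcon
  push Not at hcon
  obtain ⟨g, hg, c₁, hc₁⟩ := hM.move
  obtain ⟨ζ, hζ, hζ'⟩ := hL.exists_zeta
  have hall : ∀ v, v ≠ 0 → B v v = 0 → B (g v) (g v) = 0 ∧ ∀ c : K, ∃ d : K, g (c • v) = d • g v := by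
    intro v hv hvv
    obtain ⟨c, hc, hci⟩ := exists_line_iso hM hL hg hvv
    have hline := hcon g hg (c • v) (smul_ne_zero hc hv) (by simp [hL.smul_left, hL.smul_right, hvv]) hci
    obtain ⟨d₀, hd₀⟩ := hline c⁻¹
    rw [smul_smul, inv_mul_cancel₀ hc, one_smul] at hd₀
    have hd0 : d₀ ≠ 0 := fun h => hv (g.injective (by rw [hd₀, h, zero_smul, map_zero]))
    refine ⟨by rw [hd₀, hL.smul_left, hL.smul_right, hci, mul_zero, mul_zero], fun e => ?_⟩
    obtain ⟨d, hd⟩ := hline (e * c⁻¹)
    rw [smul_smul, mul_assoc, inv_mul_cancel₀ hc, mul_one] at hd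
    exact ⟨d / d₀, by rw [hd, hd₀, smul_smul, div_mul_cancel₀ _ hd0]⟩
  -- the scalar attached to a pair
  have pair : ∀ v v', B v v = 0 → B v' v' = 0 → B v v' ≠ 0 → ∀ φ : K → K, (∀ c, g (c • v) = φ c • g v) →
      (∀ c d, φ (c * d) = φ c * φ d) ∧ ∀ c, g (c • v') = φ c • g v' := by
    intro v v' hv hv' hne φ hφ
    have hv0 : v ≠ 0 := fun h => hne (by rw [h, hL.zero_left])
    have norm1 : ∀ w, B w w = 0 → B v w = 1 →
        (∀ c d, φ (c * d) = φ c * φ d) ∧ ∀ c, g (c • w) = φ c • g w := by
      intro w hw hvw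
      have hw0 : w ≠ 0 := fun h => by rw [h, hL.zero_right] at hvw; exact zero_ne_one hvw
      have hwv : B w v = 1 := by rw [hL.herm v w, hvw, map_one]
      choose ψ hψ using (hall w hw0 hw).2
      have hgv : g v ≠ 0 := (map_ne_zero_iff _ g.injective).2 hv0
      have hgw : g w ≠ 0 := (map_ne_zero_iff _ g.injective).2 hw0
      have hφadd : ∀ c d, φ (c + d) = φ c + φ d := fun c d => smul_left_injective K hgv (by
        show φ (c + d) • g v = (φ c + φ d) • g v
        rw [← hφ, add_smul, add_smul, map_add, hφ, hφ])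
      have hφF : ∀ (s : F) c, φ (s • c) = s • φ c := fun s c => smul_left_injective K hgv (by
        show φ (s • c) • g v = (s • φ c) • g v
        rw [← hφ, smul_assoc, smul_assoc, LinearEquiv.map_smul, hφ])
      have hψF : ∀ (s : F) c, ψ (s • c) = s • ψ c := fun s c => smul_left_injective K hgw (by
        show ψ (s • c) • g w = (s • ψ c) • g w
        rw [← hψ, smul_assoc, smul_assoc, LinearEquiv.map_smul, hψ])
      have hψ1 : ψ 1 = 1 := smul_left_injective K hgw (by
        show ψ 1 • g w = (1 : K) • g w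
        rw [← hψ, one_smul, one_smul])
      have hindep : ∀ a b : K, a • g v + b • g w = 0 → a = 0 ∧ b = 0 := by
        intro a b hab
        by_cases hb : b = 0
        · rw [hb, zero_smul, add_zero] at hab
          exact ⟨(smul_eq_zero.1 hab).resolve_right hgv, hb⟩
        exfalso
        have hinj : Function.Injective φ := fun c c' h => smul_left_injective K hv0 (g.injective (by
          show g (c • v) = g (c' • v)
          rw [hφ, hφ, h]))
        obtain ⟨c, hc⟩ := (Finite.injective_iff_surjective.1 hinj) (-(a / b))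
        have hwc : w = c • v := g.injective (by
          rw [hφ, hc, ← inv_smul_smul₀ hb (g w), eq_neg_of_add_eq_zero_right hab, smul_neg, smul_smul,
            neg_smul, div_eq_inv_mul])
        rw [hwc, hL.smul_right, hv, mul_zero] at hvw
        exact zero_ne_one hvw
      have hA : ∀ c a, bar a = -a → ψ (c * a) = φ c * ψ a := by
        intro c a ha
        obtain ⟨d, hd⟩ := (hall (v + a • w)
          (fun h => zero_ne_one (α := K) (by
            have h1 : B (v + a • w) w = 1 := by rw [hL.add_left, hL.smul_left, hvw, hw, mul_zero, add_zero]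
            rwa [h, hL.zero_left] at h1))
          (by simp only [hL.add_left, hL.smul_left, hL.add_right, hL.smul_right, hv, hw, hvw, hwv, ha]; ring)).2 c
        rw [smul_add, smul_smul, map_add, map_add, hφ, hψ, hψ a, smul_add, smul_smul] at hd
        obtain ⟨h1, h2⟩ := hindep (φ c - d) (ψ (c * a) - d * ψ a) (by
          rw [sub_smul, sub_smul, sub_add_sub_comm, hd, sub_self])
        rw [sub_eq_zero.1 h2, sub_eq_zero.1 h1]
      have hζK : algebraMap F K ζ ≠ 0 := by simpa using hζ
      have hψφ : ∀ c, ψ c = φ c := fun c => by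
        have h1 := hA c _ (hL.zeta_inA hζ')
        rw [mul_comm c, ← Algebra.smul_def, hψF, show algebraMap F K ζ = ζ • (1 : K) from
          Algebra.algebraMap_eq_smul_one ζ, hψF, hψ1, Algebra.smul_def, ← Algebra.algebraMap_eq_smul_one,
          mul_comm (φ c)] at h1
        exact mul_left_cancel₀ hζK h1
      refine ⟨fun c d => ?_, fun c => by rw [hψ, hψφ]⟩
      let L : Submodule F K :=
        { carrier := {d | ∀ c, φ (c * d) = φ c * φ d}
          add_mem' := fun {p q} hp hq c => by rw [mul_add, hφadd, hφadd, hp, hq, mul_add]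
          zero_mem' := fun c => by
            have h0 : φ 0 = 0 := by simpa using hφadd 0 0
            rw [mul_zero, h0, mul_zero]
          smul_mem' := fun s p hp c => by rw [mul_smul_comm, hφF, hp, hφF, mul_smul_comm] }
      have hLtop : L = ⊤ := hL.span_A L fun a ha c => by
        have := hA c a ha
        rwa [hψφ, hψφ] at this
      exact (hLtop ▸ Submodule.mem_top : d ∈ L) c
    set β := B v v' with hβ
    have hvw : B v ((bar β)⁻¹ • v') = 1 := by
      rw [hL.smul_right, map_inv₀, hL.geo.binvol, inv_mul_cancel₀ hne]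
    obtain ⟨hmul, hw⟩ := norm1 ((bar β)⁻¹ • v') (by simp [hL.smul_left, hL.smul_right, hv']) hvw
    refine ⟨hmul, fun c => ?_⟩
    have hb : bar β ≠ 0 := by simpa using hne
    have e1 : ∀ c, g (c • v') = φ (c * bar β) • g ((bar β)⁻¹ • v') := fun c => by
      rw [← hw, smul_smul, mul_assoc, mul_inv_cancel₀ hb, mul_one]
    have e2 := e1 1
    rw [one_mul, one_smul] at e2
    rw [e1, hmul, mul_smul, ← e2]
  obtain ⟨v0, hv00, hv0⟩ := exists_iso_vec hM hL
  obtain ⟨v1, hv1, hv01⟩ := exists_partner hM hL hv0 hv00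
  have hv10 : B v1 v0 = 1 := by rw [hL.herm v0 v1, hv01, map_one]
  choose Φ hΦ using (hall v0 hv00 hv0).2
  obtain ⟨hmul, hΦ1⟩ := pair v0 v1 hv0 hv1 (by rw [hv01]; exact one_ne_zero) Φ hΦ
  have hiso : ∀ u, B u u = 0 → ∀ c, g (c • u) = Φ c • g u := by
    intro u hu
    by_cases hu0 : u = 0
    · intro c; simp [hu0]
    by_cases h0 : B v0 u ≠ 0
    · exact (pair v0 u hv0 hu h0 Φ hΦ).2
    by_cases h1 : B v1 u ≠ 0
    · exact (pair v1 u hv1 hu h1 Φ hΦ1).2
    push Not at h0 h1
    obtain ⟨x, hx, hux⟩ := exists_iso_off hM hL hu0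
    by_cases h2 : B v0 x ≠ 0
    · exact (pair x u hx hu (by rw [hL.herm u x, hux, map_one]; exact one_ne_zero) Φ
        (pair v0 x hv0 hx h2 Φ hΦ).2).2
    push Not at h2
    obtain ⟨m, hm⟩ := hL.exists_trace (b := - (B x v1 + bar (B x v1)))
      (by rw [map_neg, map_add, hL.geo.binvol, add_comm])
    set y := x + v1 + m • v0 with hy
    have hyy : B y y = 0 := by
      simp only [hy, hL.add_left, hL.smul_left, hL.add_right, hL.smul_right, hx, hv0, hv1, hv01, hv10,
        h2, hL.zero_comm h2, hL.herm x v1]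
      linear_combination hm
    have hvy : B v0 y = 1 := by
      rw [hy, hL.add_right, hL.add_right, hL.smul_right, h2, hv01, hv0, mul_zero, zero_add, add_zero]
    have huy : B y u = 1 := by
      simp only [hy, hL.add_left, hL.smul_left, hL.herm u x, hux, map_one, h0, h1, mul_zero, add_zero]
    exact (pair y u hyy hu (by rw [huy]; exact one_ne_zero) Φ
      (pair v0 y hv0 hyy (by rw [hvy]; exact one_ne_zero) Φ hΦ).2).2
  obtain ⟨x, hx⟩ := hc₁ (Φ c₁)
  apply hx
  by_cases hx0 : x = 0
  · simp [hx0]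
  obtain ⟨v, hv, hxv⟩ := exists_iso_off hM hL hx0
  obtain ⟨m, hm⟩ := hL.exists_trace (hL.self_real x)
  have hy : B (x - m • v) (x - m • v) = 0 := by
    simp only [hL.sub_left, hL.sub_right, hL.smul_left, hL.smul_right, hv, hxv, hL.herm x v, map_one]
    linear_combination -hm
  have key : ∀ c : K, g (c • x) = Φ (c * m) • g v + Φ c • g (x - m • v) := by
    intro c
    rw [← hiso v hv, ← hiso _ hy, ← map_add, smul_sub, smul_smul, add_sub_cancel]
  have h1 := key 1
  rw [one_smul, one_mul] at h1
  have hΦone : Φ 1 = 1 := smul_left_injective K ((map_ne_zero_iff _ g.injective).2 hv00) (by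
    show Φ 1 • g v0 = (1 : K) • g v0
    rw [← hΦ, one_smul, one_smul])
  rw [key, hmul, h1, hΦone, one_smul, smul_add, mul_smul]

/-- A translation conjugated by an element moving a point of the line of `v` moves that line. -/
theorem exists_push {v : V} (hv : B v v = 0) {h : V ≃ₗ[F] V} {e : K}
    (hz : h (e • v) ∉ Submodule.span K {v}) :
    ∃ t ∈ M, (∀ p : K, t (p • v) = p • v) ∧ ∀ d : K, (h⁻¹ * t * h) (e • v) ≠ d • v := by
  classical
  by_contra hcon
  push Not at hcon
  let L : Submodule F K :=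
    { carrier := {l | ∃ p : K, h⁻¹ (l • v) = p • v}
      add_mem' := by
        rintro a b ⟨p, hp⟩ ⟨q, hq⟩
        exact ⟨p + q, by rw [add_smul, map_add, hp, hq, add_smul]⟩
      zero_mem' := ⟨0, by rw [zero_smul, map_zero]⟩
      smul_mem' := by
        rintro s a ⟨p, hp⟩
        exact ⟨s • p, by rw [smul_assoc, LinearEquiv.map_smul, hp, smul_assoc]⟩ }
  have hLtop : L = ⊤ := translate hM hL hv hz L fun t ht l hfix htz => by
    obtain ⟨d, hd⟩ := hcon t ht hfix
    rw [mul_apply', mul_apply', htz, map_add, inv_apply'] at hd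
    exact ⟨d - e, by rw [sub_smul, ← hd, add_sub_cancel_left]⟩
  choose p hp using fun l => (hLtop ▸ Submodule.mem_top : l ∈ L)
  have hv0 : v ≠ 0 := fun h0 => hz (by rw [h0, smul_zero, map_zero]; exact zero_mem _)
  have hinj : Function.Injective p := fun a b hab => smul_left_injective K hv0 (h⁻¹.injective (by
    show h⁻¹ (a • v) = h⁻¹ (b • v)
    rw [hp, hp, hab]))
  obtain ⟨l, hl⟩ := (Finite.injective_iff_surjective.1 hinj) e
  apply hz
  rw [← hl, ← hp, apply_inv']
  exact Submodule.mem_span_singleton.2 ⟨l, rfl⟩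

theorem moves_base : ∃ v : V, v ≠ 0 ∧ B v v = 0 ∧ ExtFieldMax.Moves M v (F ∙ (1 : K)) := by
  obtain ⟨g, hg, v, hv0, hv, hgv, c, hc⟩ := exists_breaker hM hL
  have hgv0 : g v ≠ 0 := (map_ne_zero_iff _ g.injective).2 hv0
  obtain ⟨h, hh, hl, e, he, hhe⟩ := exists_transitive hM hL hgv hv hgv0 hv0
  have hz : (h * g) (c • v) ∉ Submodule.span K {v} := fun hmem => by
    obtain ⟨d, hd⟩ := Submodule.mem_span_singleton.1 hmem
    refine hc (d / e) (h.injective ?_)
    rw [← mul_apply', ← hd, hl, hhe, smul_smul, div_mul_cancel₀ _ he]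
  obtain ⟨t, ht, hfix, hmv⟩ := exists_push hM hL hv hz
  refine ⟨v, hv0, hv, (h * g)⁻¹ * t * (h * g),
    mul_mem (mul_mem (inv_mem (mul_mem hh hg)) ht) (mul_mem hh hg), fun d hd => ?_, c, hmv⟩
  obtain ⟨s, rfl⟩ := Submodule.mem_span_singleton.1 hd
  rw [smul_assoc, one_smul, LinearEquiv.map_smul]
  congr 1
  have e1 : (h * g) v = e • v := hhe
  rw [mul_apply', mul_apply', e1, hfix, ← e1, inv_apply']

/-- A nonzero anti-fixed element with degenerate pairing. -/
theorem exists_degenerate {m : ℕ} (hm : 1 ≤ m) (b : Fin m → K) (C : Submodule (fixF σ) K)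
    (hC : ∀ a ∈ C, bar a = -a) (hdim : m < finrank (fixF σ) C) :
    ∃ a ∈ C, a ≠ 0 ∧ ∃ e : Fin m → F, e ≠ 0 ∧ ∀ i, ∑ j, e j * lam (bar (b i) * a * b j) = 0 := by
  classical
  obtain ⟨ζ, hζ, hζ'⟩ := hL.exists_zeta
  obtain ⟨θ, hθ⟩ : ∃ θ : F, θ + σ θ = 1 := by
    obtain ⟨t, ht⟩ := hL.exists_theta
    refine ⟨lam t, ?_⟩
    rw [← hL.lam_bar, ← map_add, ht, hL.one]
  let bs := Module.finBasis (fixF σ) C
  set s := finrank (fixF σ) C with hs
  let P : Matrix (Fin m) (Fin m) (MvPolynomial (Fin s) F) := fun i j =>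
    ∑ k, MvPolynomial.C (ζ * lam (bar (b i) * (bs k : K) * b j)) * MvPolynomial.X k
  let H : K → Matrix (Fin m) (Fin m) F := fun a i j => ζ * lam (bar (b i) * a * b j)
  let at' : (Fin s → fixF σ) → C := fun x => ∑ k, x k • bs k
  have hP : ∀ x : Fin s → fixF σ,
      MvPolynomial.eval (fun k => (x k : F)) P.det = (H (at' x : K)).det := by
    intro x
    rw [RingHom.map_det]
    congr 1
    ext i j
    show MvPolynomial.eval _ (P i j) = H _ i j
    simp only [P, H, at', map_sum, MvPolynomial.eval_mul,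
      MvPolynomial.eval_C, MvPolynomial.eval_X, AddSubmonoidClass.coe_finsetSum, SetLike.val_smul,
      Subfield.smul_def, Finset.mul_sum, Finset.sum_mul, mul_smul_comm, smul_mul_assoc, map_smul, smul_eq_mul]
    exact Finset.sum_congr rfl fun k _ => by ring
  have hreal : ∀ a, bar a = -a → σ (H a).det = (H a).det := by
    intro a ha
    rw [RingEquiv.map_det, ← Matrix.det_transpose (H a)]
    congr 1
    ext i j
    show σ (ζ * lam (bar (b i) * a * b j)) = ζ * lam (bar (b j) * a * b i)
    rw [map_mul, ← hL.lam_bar, hζ', map_mul bar, map_mul bar, ha, hL.geo.binvol,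
      show b i * -a * bar (b j) = -(bar (b j) * a * b i) by ring, map_neg]
    ring
  let π : F → fixF σ := fun c => ⟨θ * c + σ (θ * c), by
    rw [mem_fixF, map_add, hL.geo.invol, add_comm]⟩
  let D0 : MvPolynomial (Fin s) (fixF σ) := ∑ d ∈ P.det.support, MvPolynomial.monomial d (π (P.det.coeff d))
  have heval : ∀ x : Fin s → fixF σ,
      ((MvPolynomial.eval x D0 : fixF σ) : F) = (H (at' x : K)).det := by
    intro x
    have hPx := hP x
    rw [MvPolynomial.eval_eq'] at hPx
    have hr := hreal (at' x : K) (hC _ (at' x).2)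
    have e1 : ((MvPolynomial.eval x D0 : fixF σ) : F) =
        θ * (H (at' x : K)).det + σ (θ * (H (at' x : K)).det) := by
      rw [← hPx]
      simp only [D0, map_sum, MvPolynomial.eval_monomial, Finset.mul_sum, ← Finset.sum_add_distrib,
        AddSubmonoidClass.coe_finsetSum]
      refine Finset.sum_congr rfl fun d _ => ?_
      rw [Finsupp.prod_fintype _ _ fun i => pow_zero _]
      simp only [π, Subfield.coe_mul, map_mul, map_prod, map_pow, SubmonoidClass.coe_finsetProd,
        SubmonoidClass.coe_pow, mem_fixF.1 (x _).2]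
      ring
    rw [e1, map_mul, hr, ← add_mul, hθ, one_mul]
  have hdeg : D0.totalDegree ≤ m := by
    have h1 : P.det.totalDegree ≤ m := by
      rw [Matrix.det_apply]
      refine MvPolynomial.totalDegree_finsetSum_le fun τ _ => (MvPolynomial.totalDegree_smul_le _ _).trans ?_
      refine (MvPolynomial.totalDegree_finsetProd _ _).trans ?_
      refine (Finset.sum_le_sum (g := fun _ => 1) fun i _ => ?_).trans (by simp)
      refine MvPolynomial.totalDegree_finsetSum_le fun k _ => (MvPolynomial.totalDegree_mul _ _).trans ?_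
      simp [← MvPolynomial.C_mul, -map_mul, MvPolynomial.totalDegree_X]
    refine MvPolynomial.totalDegree_finsetSum_le fun d hd => (MvPolynomial.totalDegree_monomial_le _ _).trans ?_
    exact (MvPolynomial.le_totalDegree hd).trans h1
  set p := ringChar (fixF σ) with hp
  haveI : CharP (fixF σ) p := ringChar.charP _
  haveI hpp : Fact p.Prime := ⟨CharP.char_is_prime (fixF σ) p⟩
  have hdvd := char_dvd_card_solutions p (f := D0) (by rw [Fintype.card_fin]; omega)
  haveI : Nonempty (Fin m) := ⟨⟨0, hm⟩⟩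
  have hzero : MvPolynomial.eval (0 : Fin s → fixF σ) D0 = 0 := by
    apply Subtype.ext
    rw [heval, ZeroMemClass.coe_zero]
    have : H (at' 0 : K) = 0 := by ext i j; simp [H, at']
    rw [this, Matrix.det_zero]
  have hcard : 1 < Fintype.card { x : Fin s → fixF σ // MvPolynomial.eval x D0 = 0 } :=
    lt_of_lt_of_le hpp.out.one_lt (Nat.le_of_dvd (Fintype.card_pos_iff.2 ⟨⟨0, hzero⟩⟩) hdvd)
  obtain ⟨⟨x, hx⟩, hne⟩ := Fintype.exists_ne_of_one_lt_card hcard ⟨0, hzero⟩
  have ha0 : at' x ≠ 0 := fun h0 => hne (Subtype.ext (funext fun k =>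
    Fintype.linearIndependent_iff.1 bs.linearIndependent x h0 k))
  obtain ⟨e, he, hee⟩ := Matrix.exists_mulVec_eq_zero_iff.2
    (show (H (at' x : K)).det = 0 by rw [← heval, hx, ZeroMemClass.coe_zero])
  refine ⟨_, (at' x).2, fun h0 => ha0 (Subtype.ext h0), e, he, fun i => ?_⟩
  have h1 := congrFun hee i
  simp only [Matrix.mulVec, dotProduct, H, Pi.zero_apply] at h1
  have h2 : ζ * ∑ j, e j * lam (bar (b i) * (at' x : K) * b j) = 0 := by
    rw [Finset.mul_sum, ← h1]
    exact Finset.sum_congr rfl fun j _ => by ring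
  exact (mul_eq_zero.1 h2).resolve_left hζ

end

end

end Cfsg.Agent.ExtFieldUnit74
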