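import Mathlib
import Cfsg.Agent.Lib.ExtFieldUnit74Climb

/-!
The induction enlarging the fixed part of an isotropic K-line, and the resulting configuration.
-/

set_option autoImplicit false
set_option linter.unusedSectionVars false
set_option linter.style.haveILetI false

namespace Cfsg.Agent.ExtFieldUnit74

open Module
open Cfsg.Agent.ExtFieldMax (mul_apply' inv_apply' apply_inv' exists_dual_one)

noncomputable section

variable {F K V : Type*} [Field F] [Fintype F] [Field K] [Fintype K] [Algebra F K]
  [AddCommGroup V] [Module F V] [Module K V] [IsScalarTower F K V] [FiniteDimensional K V]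

variable {σ : F ≃+* F} {bar : K ≃+* K} {f : V → V → F} {lam : K →ₗ[F] F} {B : V → V → K}
  {M : Subgroup (V ≃ₗ[F] V)}

/-- The annihilator of `S` for the pairing given by `lam`. -/
def ann (lam : K →ₗ[F] F) (S : Submodule F K) : Submodule F K where
  carrier := {x | ∀ p ∈ S, lam (x * p) = 0}
  add_mem' := fun {a b} ha hb p hp => by rw [add_mul, map_add, ha p hp, hb p hp, add_zero]
  zero_mem' := fun p _ => by rw [zero_mul, map_zero]
  smul_mem' := fun s a ha p hp => by rw [smul_mul_assoc, map_smul, ha p hp, smul_zero]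

namespace Lift

variable (hL : Lift σ bar f lam B)
include hL

theorem exists_rep (χ : K →ₗ[F] F) : ∃ c, ∀ x, lam (c * x) = χ x := by
  let Φ : K →ₗ[F] (K →ₗ[F] F) :=
    { toFun := fun a => lam.comp (LinearMap.mulLeft F a)
      map_add' := fun a b => by ext c; simp [add_mul]
      map_smul' := fun s a => by ext c; simp [smul_mul_assoc] }
  have hinj : Function.Injective Φ := fun a b h => hL.ext_of fun c => by
    rw [mul_comm c, mul_comm c]
    exact LinearMap.congr_fun h c
  obtain ⟨c, hc⟩ := (LinearMap.injective_iff_surjective_of_finrank_eq_finrank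
      (by rw [Module.finrank_linearMap, finrank_self, mul_one])).1 hinj χ
  exact ⟨c, fun x => LinearMap.congr_fun hc x⟩

theorem finrank_ann (S : Submodule F K) : finrank F (ann lam S) + finrank F S = finrank F K := by
  let Φ : K →ₗ[F] (S →ₗ[F] F) :=
    { toFun := fun a => (lam.comp (LinearMap.mulLeft F a)).comp S.subtype
      map_add' := fun a b => by ext c; simp [add_mul]
      map_smul' := fun s a => by ext c; simp [smul_mul_assoc] }
  have hsurj : LinearMap.range Φ = ⊤ := LinearMap.range_eq_top.2 fun χ => by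
    obtain ⟨χ', hχ'⟩ := LinearMap.exists_extend χ
    obtain ⟨c, hc⟩ := hL.exists_rep χ'
    refine ⟨c, LinearMap.ext fun p => ?_⟩
    show lam (c * (p : K)) = χ p
    rw [hc, ← hχ']
    rfl
  have hker : LinearMap.ker Φ = ann lam S := by
    ext x
    exact ⟨fun h p hp => LinearMap.congr_fun (LinearMap.mem_ker.1 h) ⟨p, hp⟩,
      fun h => LinearMap.mem_ker.2 (LinearMap.ext fun p => h p p.2)⟩
  have h1 := LinearMap.finrank_range_add_finrank_ker Φ
  rw [hsurj, finrank_top, Module.finrank_linearMap, finrank_self, mul_one, hker] at h1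
  omega

theorem two_le_index : 2 ≤ finrank (fixF σ) F := by
  obtain ⟨a₀, ha₀⟩ := hL.geo.ne_refl
  let e : fixF σ × fixF σ →ₗ[fixF σ] F :=
    { toFun := fun x => (x.1 : F) + a₀ * x.2
      map_add' := fun x y => by simp only [Prod.fst_add, Prod.snd_add, Subfield.coe_add]; ring
      map_smul' := fun s x => by
        simp only [Prod.smul_fst, Prod.smul_snd, RingHom.id_apply, smul_eq_mul, Subfield.coe_mul,
          Subfield.smul_def]
        ring }
  have he : Function.Injective e := by
    rw [injective_iff_map_eq_zero]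
    rintro ⟨p, q⟩ h
    have h1 : (p : F) + a₀ * q = 0 := h
    have h2 := congrArg σ h1
    rw [map_add, map_mul, mem_fixF.1 p.2, mem_fixF.1 q.2, map_zero] at h2
    have h3 : (q : F) = 0 := by
      have : (a₀ - σ a₀) * (q : F) = 0 := by linear_combination h1 - h2
      exact (mul_eq_zero.1 this).resolve_left (sub_ne_zero.2 (Ne.symm ha₀))
    rw [h3, mul_zero, add_zero] at h1
    exact Prod.ext (Subtype.ext h1) (Subtype.ext h3)
  have h := LinearMap.finrank_le_finrank_of_injective he
  rw [Module.finrank_prod, finrank_self] at h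
  omega

end Lift

variable (σ bar) in
/-- The anti-fixed elements. -/
def antiFix (hL : Lift σ bar f lam B) : Submodule (fixF σ) K where
  carrier := {a | bar a = -a}
  add_mem' := fun {a b} (ha : bar a = -a) (hb : bar b = -b) => by
    show bar (a + b) = -(a + b)
    rw [map_add, ha, hb, neg_add]
  zero_mem' := by
    show bar 0 = -0
    rw [map_zero, neg_zero]
  smul_mem' := fun s a (ha : bar a = -a) => by
    show bar (s • a) = -(s • a)
    rw [Subfield.smul_def, Algebra.smul_def, map_mul, hL.geo.bext, mem_fixF.1 s.2, ha, mul_neg]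

namespace Lift

variable (hL : Lift σ bar f lam B)
include hL

theorem le_two_mul_antiFix : finrank (fixF σ) F * finrank F K ≤ 2 * finrank (fixF σ) (antiFix σ bar hL) := by
  obtain ⟨a₀, ha₀⟩ := hL.geo.ne_refl
  obtain ⟨ζ, hζ, hζ'⟩ := hL.exists_zeta
  let e : antiFix σ bar hL × antiFix σ bar hL →ₗ[fixF σ] K :=
    { toFun := fun x => (x.1 : K) + algebraMap F K a₀ * x.2
      map_add' := fun x y => by simp only [Prod.fst_add, Prod.snd_add, Submodule.coe_add]; ring
      map_smul' := fun s x => by
        simp only [Prod.smul_fst, Prod.smul_snd, SetLike.val_smul, RingHom.id_apply, mul_smul_comm, ← smul_add] }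
  have he : Function.Surjective e := fun c => by
    have hζK : algebraMap F K ζ ≠ 0 := by simpa using hζ
    obtain ⟨p, q, hp, hq, hc⟩ := hL.exists_decomp ha₀ (c / algebraMap F K ζ)
    refine ⟨(⟨algebraMap F K ζ * p, show bar _ = -_ by rw [map_mul, hL.zeta_inA hζ', hp, neg_mul]⟩,
      ⟨algebraMap F K ζ * q, show bar _ = -_ by rw [map_mul, hL.zeta_inA hζ', hq, neg_mul]⟩), ?_⟩
    show algebraMap F K ζ * p + algebraMap F K a₀ * (algebraMap F K ζ * q) = c
    rw [div_eq_iff hζK] at hc
    rw [hc]
    ring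
  have h := LinearMap.finrank_le_finrank_of_injective (f := e.dualMap)
    (LinearMap.dualMap_injective_of_surjective he)
  rw [Subspace.dual_finrank_eq, Subspace.dual_finrank_eq, Module.finrank_prod,
    ← Module.finrank_mul_finrank (fixF σ) F K] at h
  omega

theorem two_mul_le (U : Submodule (fixF σ) K) (W : Submodule F K) (hU : ∀ u ∈ U, bar u = -u ∧ u ∈ W) :
    2 * finrank (fixF σ) U ≤ finrank (fixF σ) F * finrank F W := by
  obtain ⟨a₀, ha₀⟩ := hL.geo.ne_refl
  let e : U × U →ₗ[fixF σ] W.restrictScalars (fixF σ) :=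
    { toFun := fun x => ⟨(x.1 : K) + algebraMap F K a₀ * x.2, add_mem (hU _ x.1.2).2
        (by rw [← Algebra.smul_def]; exact W.smul_mem _ (hU _ x.2.2).2)⟩
      map_add' := fun x y => Subtype.ext (by
        simp only [Prod.fst_add, Prod.snd_add, Submodule.coe_add]; ring)
      map_smul' := fun s x => Subtype.ext (by
        simp only [Prod.smul_fst, Prod.smul_snd, SetLike.val_smul, RingHom.id_apply, mul_smul_comm, ← smul_add]
        rfl) }
  have he : Function.Injective e := by
    rw [injective_iff_map_eq_zero]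
    rintro ⟨p, q⟩ h
    have h1 : (p : K) + algebraMap F K a₀ * q = 0 := congrArg Subtype.val h
    have h2 := congrArg bar h1
    rw [map_add, map_mul, (hU _ p.2).1, (hU _ q.2).1, map_zero] at h2
    have hne : algebraMap F K a₀ - bar (algebraMap F K a₀) ≠ 0 := by
      rw [hL.geo.bext]
      exact sub_ne_zero.2 ((algebraMap F K).injective.ne (Ne.symm ha₀))
    have h3 : (q : K) = 0 := by
      have : (algebraMap F K a₀ - bar (algebraMap F K a₀)) * (q : K) = 0 := by linear_combination h1 + h2
      exact (mul_eq_zero.1 this).resolve_left hne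
    rw [h3, mul_zero, add_zero] at h1
    exact Prod.ext (Subtype.ext h1) (Subtype.ext h3)
  have h := LinearMap.finrank_le_finrank_of_injective he
  rw [Module.finrank_prod, show finrank (fixF σ) (W.restrictScalars (fixF σ)) =
        finrank (fixF σ) F * finrank F W from (Module.finrank_mul_finrank (fixF σ) F W).symm] at h
  omega

end Lift

section
variable (hM : Hyp σ bar f M) (hL : Lift σ bar f lam B)
include hM hL

set_option maxHeartbeats 800000 in
theorem moves_step {v : V} (hv : B v v = 0) (hv0 : v ≠ 0) (D : Submodule F K) (h1 : (1 : K) ∈ D)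
    (hD : finrank F D + 2 ≤ finrank F K) (hmv : ExtFieldMax.Moves M v D) :
    ∃ c : K, c ∉ D ∧ ExtFieldMax.Moves M v (D ⊔ F ∙ c) := by
  classical
  have hinjv : Function.Injective (fun c : K => c • v) := smul_left_injective K hv0
  obtain ⟨g, hg, hgD, c₁, hc₁⟩ := hmv
  by_contra hcon
  push Not at hcon
  have hkey : ∀ y : K, y ∉ D → ∀ k ∈ M, (∀ d ∈ D, k (d • v) = d • v) → k (y • v) = y • v →
      ∀ e : K, ∃ d : K, k (e • v) = d • v := by
    intro y hy k hk hkD hky e
    by_contra hne
    push Not at hne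
    refine hcon y hy ⟨k, hk, fun d hd => ?_, e, hne⟩
    obtain ⟨d', hd', s, hs, rfl⟩ := Submodule.mem_sup.1 hd
    obtain ⟨t, rfl⟩ := Submodule.mem_span_singleton.1 hs
    rw [add_smul, map_add, hkD _ hd', smul_assoc, LinearEquiv.map_smul, hky]
  have hconjfix : ∀ h t : V ≃ₗ[F] V, (∀ p : K, t (p • v) = p • v) → (∀ d ∈ D, h (d • v) = d • v) →
      ∀ d ∈ D, (h⁻¹ * t * h) (d • v) = d • v := fun h t hfix hhD d hd => by
    rw [mul_apply', mul_apply', hhD d hd, hfix]
    conv_lhs => rw [← hhD d hd, inv_apply']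
  have claim : ∀ h ∈ M, (∀ d ∈ D, h (d • v) = d • v) → ∀ y : K, y ∉ D → ∀ y' : K,
      h (y • v) = y' • v → ∀ e : K, ∃ d : K, h (e • v) = d • v := by
    intro h hh hhD y hy y' hyy e
    by_contra hne
    push Not at hne
    have hz : h (e • v) ∉ Submodule.span K {v} := fun h' => by
      obtain ⟨d, hd⟩ := Submodule.mem_span_singleton.1 h'
      exact hne d hd.symm
    obtain ⟨t, ht, hfix, hmv'⟩ := exists_push hM hL hv hz
    obtain ⟨d, hd⟩ := hkey y hy (h⁻¹ * t * h) (mul_mem (mul_mem (inv_mem hh) ht) hh)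
      (hconjfix h t hfix hhD) (by rw [mul_apply', mul_apply', hyy, hfix, ← hyy, inv_apply']) e
    exact hmv' d hd
  let ψ : K →ₗ[F] K :=
    { toFun := fun y => B (g (y • v)) v
      map_add' := fun a b => by rw [add_smul, map_add, hL.add_left]
      map_smul' := fun s a => by
        rw [smul_assoc, LinearEquiv.map_smul, ← algebraMap_smul K s (g (a • v)), hL.smul_left,
          RingHom.id_apply, Algebra.smul_def] }
  have hψ : ∀ y, ψ y = B (g (y • v)) v := fun y => rfl
  have hψD : ∀ d ∈ D, ψ d = 0 := fun d hd => by rw [hψ, hgD d hd, hL.smul_left, hv, mul_zero]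
  by_cases hzero : ∀ y, ψ y = 0
  · -- every translation of the second kind acts on the image of the line
    have hz : g (c₁ • v) ∉ Submodule.span K {v} := fun h => by
      obtain ⟨e, he⟩ := Submodule.mem_span_singleton.1 h
      exact hc₁ e he.symm
    obtain ⟨φ, hφ1, hφ0⟩ := exists_dual_one _ hz
    have hφv : φ v = 0 := hφ0 v (Submodule.mem_span_singleton_self v)
    have htl : ∀ l : K, ∃ t ∈ M, (∀ p : K, t (p • v) = p • v) ∧
        ∀ y : K, t (g (y • v)) = g (y • v) + (φ (g (y • v)) * l) • v := by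
      intro l
      obtain ⟨w, hw⟩ := hL.exists_vec ((-l) • φ)
      have hvw : B v w = 0 := by rw [hw, LinearMap.smul_apply, hφv, smul_zero]
      obtain ⟨a, ha⟩ := hL.exists_trace (b := - B w w) (by rw [map_neg, hL.self_real])
      obtain ⟨t, ht, -, htx⟩ := exists_S hM hL v w a hv hvw ha
      refine ⟨t, ht, fun p => ?_, fun y => ?_⟩
      · rw [htx, hL.smul_left, hL.smul_left, hv, hvw, mul_zero, zero_smul, zero_smul, sub_zero, add_zero]
      · rw [htx, ← hψ, hzero, zero_smul, zero_sub, hw, LinearMap.smul_apply, smul_eq_mul, neg_mul, neg_smul,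
          neg_neg, mul_comm]
    have htrans : ∀ (l : K) (y : K), y ∉ D → φ (g (y • v)) * l ∈ D → l ∈ D := by
      intro l y hy hyl
      obtain ⟨t, ht, hfix, htx⟩ := htl l
      have hmap : (g⁻¹ * t * g) (y • v) = (y + φ (g (y • v)) * l) • v := by
        rw [mul_apply', mul_apply']
        apply g.injective
        rw [apply_inv', htx, add_smul, map_add, hgD _ hyl]
      obtain ⟨d, hd⟩ := claim (g⁻¹ * t * g) (mul_mem (mul_mem (inv_mem hg) ht) hg)
        (hconjfix g t hfix hgD) y hy _ hmap c₁
      rw [mul_apply', mul_apply'] at hd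
      have h2 := congrArg g hd
      rw [apply_inv', htx, hφ1, one_mul] at h2
      have h3 : g ((d - c₁) • v) = l • v := by
        rw [sub_smul, map_sub, ← h2, add_sub_cancel_left]
      by_cases hdD : d - c₁ ∈ D
      · rw [hgD _ hdD] at h3
        exact hinjv h3 ▸ hdD
      · obtain ⟨e, he⟩ := claim g hg hgD _ hdD l h3 c₁
        exact absurd he (hc₁ e)
    have hc₀D : c₁ ∉ D := fun h => hc₁ c₁ (hgD _ h)
    have hker : ∀ y : K, φ (g (y • v)) = 0 → y ∈ D := by
      intro y hy
      by_contra hyD
      obtain ⟨l, -, hl⟩ := SetLike.exists_of_lt (show D < ⊤ from lt_top_iff_ne_top.2 fun h => by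
        rw [h, finrank_top] at hD; omega)
      exact hl (htrans l y hyD (by rw [hy, zero_mul]; exact zero_mem D))
    obtain ⟨y, hyF⟩ : ∃ y : K, φ (g (y • v)) ∉ (⊥ : Subalgebra F K) := by
      by_contra hall
      push Not at hall
      have htop : (⊤ : Submodule F K) ≤ D ⊔ F ∙ c₁ := by
        intro y _
        obtain ⟨s, hs⟩ := Algebra.mem_bot.1 (hall y)
        have e1 : g ((s • c₁) • v) = algebraMap F K s • g (c₁ • v) := by
          rw [smul_assoc, LinearEquiv.map_smul, algebraMap_smul]
        have : y - s • c₁ ∈ D := hker _ (by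
          rw [sub_smul, map_sub, map_sub, ← hs, e1, map_smul, hφ1, smul_eq_mul, mul_one, sub_self])
        rw [← sub_add_cancel y (s • c₁)]
        exact Submodule.add_mem_sup this (Submodule.mem_span_singleton.2 ⟨s, rfl⟩)
      have h2 := Submodule.finrank_mono htop
      rw [finrank_top] at h2
      have h3 := Submodule.finrank_add_le_finrank_add_finrank D (F ∙ c₁)
      have h4 : finrank F (F ∙ c₁) = 1 := finrank_span_singleton (fun h => hc₀D (h ▸ zero_mem D))
      omega
    set t := φ (g (y • v)) with ht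
    have ht0 : t ≠ 0 := fun h => hyF (h ▸ zero_mem _)
    have hyD : y ∉ D := fun h => ht0 (by rw [ht, hgD y h, map_smul, hφv, smul_zero])
    have hstab : ∀ d ∈ D, t * d ∈ D := by
      have hsub : ∀ l, t * l ∈ D → l ∈ D := fun l hl => htrans l y hyD hl
      let fm : D →ₗ[F] D :=
        { toFun := fun d => ⟨t⁻¹ * d, hsub _ (by rw [mul_inv_cancel_left₀ ht0]; exact d.2)⟩
          map_add' := fun a b => Subtype.ext (mul_add _ _ _)
          map_smul' := fun s a => Subtype.ext (mul_smul_comm _ _ _) }
      have hf : Function.Injective fm := fun a b hab =>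
        Subtype.ext (mul_left_cancel₀ (inv_ne_zero ht0) (congrArg Subtype.val hab))
      intro d hd
      obtain ⟨d', hd'⟩ := (Finite.injective_iff_surjective.1 hf) ⟨d, hd⟩
      have : t⁻¹ * (d' : K) = d := congrArg Subtype.val hd'
      rw [← this, mul_inv_cancel_left₀ ht0]
      exact d'.2
    let S : Subalgebra F K :=
      { carrier := {a | ∀ d ∈ D, a * d ∈ D}
        mul_mem' := fun {a b} ha hb d hd => by rw [mul_assoc]; exact ha _ (hb d hd)
        one_mem' := fun d hd => by rwa [one_mul]
        add_mem' := fun {a b} ha hb d hd => by rw [add_mul]; exact add_mem (ha d hd) (hb d hd)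
        zero_mem' := fun d _ => by rw [zero_mul]; exact zero_mem D
        algebraMap_mem' := fun s d hd => by rw [← Algebra.smul_def]; exact D.smul_mem s hd }
    haveI := Subalgebra.isSimpleOrder_of_finrank_prime F K hL.geo.prime
    rcases eq_bot_or_eq_top S with h | h
    · exact hyF (h ▸ (hstab : t ∈ S))
    · have : D = ⊤ := eq_top_iff.2 fun x _ => by
        have hx : x ∈ S := h ▸ Algebra.mem_top
        simpa using hx 1 h1
      rw [this, finrank_top] at hD
      omega
  push Not at hzero
  obtain ⟨y₁, hy₁⟩ := hzero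
  -- the kernel of `ψ` is `D`
  have hker : LinearMap.ker ψ = D := by
    refine le_antisymm (fun y hy => ?_) (fun d hd => LinearMap.mem_ker.2 (hψD d hd))
    rw [LinearMap.mem_ker] at hy
    by_contra hyD
    have hz : g (y • v) ∉ Submodule.span K {v} := fun h => by
      obtain ⟨d, hd⟩ := Submodule.mem_span_singleton.1 h
      obtain ⟨e, he⟩ := claim g hg hgD y hyD d hd.symm c₁
      exact hc₁ e he
    rw [hψ] at hy
    let L : Submodule F K :=
      { carrier := {x | ∃ e : K, g (e • v) = (x * ψ y₁) • v}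
        add_mem' := by
          rintro a b ⟨e, he⟩ ⟨e', he'⟩
          exact ⟨e + e', by rw [add_smul, map_add, he, he', add_mul, add_smul]⟩
        zero_mem' := ⟨0, by rw [zero_smul, map_zero, zero_mul, zero_smul]⟩
        smul_mem' := by
          rintro s a ⟨e, he⟩
          exact ⟨s • e, by rw [smul_assoc, LinearEquiv.map_smul, he, smul_mul_assoc, smul_assoc]⟩ }
    have hL' : L = ⊤ := hL.span_A L fun a ha => by
      obtain ⟨t, ht, -, htx⟩ := exists_T hM hL v a hv ha
      have hfix : ∀ p : K, t (p • v) = p • v := fun p => by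
        rw [htx, hL.smul_left, hv, mul_zero, mul_zero, zero_smul, add_zero]
      obtain ⟨d, hd⟩ := hkey y hyD (g⁻¹ * t * g) (mul_mem (mul_mem (inv_mem hg) ht) hg)
        (hconjfix g t hfix hgD) (by
          rw [mul_apply', mul_apply', htx, hy, mul_zero, zero_smul, add_zero, inv_apply']) y₁
      rw [mul_apply', mul_apply'] at hd
      have h3 := congrArg g hd
      rw [apply_inv', htx, ← hψ] at h3
      exact ⟨d - y₁, by rw [sub_smul, map_sub, ← h3, add_sub_cancel_left]⟩
    have hsurj : ∀ z : K, ∃ e : K, g (e • v) = z • v := fun z => by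
      obtain ⟨e, he⟩ : z / ψ y₁ ∈ L := hL' ▸ Submodule.mem_top
      exact ⟨e, by rwa [div_mul_cancel₀ _ hy₁] at he⟩
    choose e he using hsurj
    have hinj : Function.Injective e := fun a b hab => hinjv (by
      show a • v = b • v
      rw [← he a, ← he b, hab])
    obtain ⟨z, hz'⟩ := Finite.injective_iff_surjective.1 hinj c₁
    exact hc₁ z (hz' ▸ he z)
  -- the image of `ψ`
  set P := LinearMap.range ψ with hP
  have hm : finrank F P + finrank F D = finrank F K := by
    rw [← hker]; exact LinearMap.finrank_range_add_finrank_ker ψ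
  have hortho : ∀ d ∈ D, ∀ p ∈ P, lam (bar d * p) = 0 := by
    rintro d hd _ ⟨y, rfl⟩
    rw [hψ, ← hL.smul_right, ← hL.f_eq]
    conv_lhs => rw [← hgD d hd]
    rw [hM.pres g hg, hL.eq, hL.smul_right, hv, mul_zero, mul_zero, map_zero]
  have hperp : ∀ x, (∀ p ∈ P, lam (bar x * p) = 0) → x ∈ D := by
    intro x hx
    let Db : Submodule F K :=
      { carrier := {d | bar d ∈ D}
        add_mem' := fun {a b} ha hb => by
          show bar (a + b) ∈ D
          rw [map_add]; exact add_mem ha hb
        zero_mem' := by show bar 0 ∈ D; rw [map_zero]; exact zero_mem D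
        smul_mem' := fun s a ha => by
          show bar (s • a) ∈ D
          rw [Algebra.smul_def, map_mul, hL.geo.bext, ← Algebra.smul_def]
          exact D.smul_mem _ ha }
    have hle : Db ≤ ann lam P := fun d (hd : bar d ∈ D) p hp => by
      have := hortho _ hd p hp
      rwa [hL.geo.binvol] at this
    have hfr : finrank F Db = finrank F D := by
      have e : Db ≃ D :=
        { toFun := fun d => ⟨bar d, d.2⟩
          invFun := fun d => ⟨bar d, by show bar (bar (d : K)) ∈ D; rw [hL.geo.binvol]; exact d.2⟩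
          left_inv := fun d => Subtype.ext (hL.geo.binvol _)
          right_inv := fun d => Subtype.ext (hL.geo.binvol _) }
      have hc := Nat.card_congr e
      rw [Module.natCard_eq_pow_finrank (K := F) (V := Db), Module.natCard_eq_pow_finrank (K := F) (V := D)] at hc
      exact Nat.pow_right_injective (Finite.one_lt_card (α := F)) hc
    have heq : Db = ann lam P := Submodule.eq_of_le_of_finrank_le hle (by
      have := hL.finrank_ann P
      omega)
    have : bar x ∈ Db := heq ▸ (fun p hp => hx p hp : bar x ∈ ann lam P)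
    simpa [Db, hL.geo.binvol] using this
  have hclaim1 : ∀ a, bar a = -a → ∀ y₀, y₀ ∉ D → a * ψ y₀ ∈ D → ∀ y, a * ψ y ∈ D := by
    intro a ha y₀ hy₀ hay y
    obtain ⟨t, ht, -, htx⟩ := exists_T hM hL v a hv ha
    have hfix : ∀ p : K, t (p • v) = p • v := fun p => by
      rw [htx, hL.smul_left, hv, mul_zero, mul_zero, zero_smul, add_zero]
    have hmap : (g⁻¹ * t * g) (y₀ • v) = (y₀ + a * ψ y₀) • v := by
      rw [mul_apply', mul_apply']
      apply g.injective
      rw [apply_inv', htx, ← hψ, add_smul, map_add, hgD _ hay]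
    obtain ⟨d, hd⟩ := claim (g⁻¹ * t * g) (mul_mem (mul_mem (inv_mem hg) ht) hg)
      (hconjfix g t hfix hgD) y₀ hy₀ _ hmap y
    rw [mul_apply', mul_apply'] at hd
    have h2 := congrArg g hd
    rw [apply_inv', htx, ← hψ] at h2
    have h3 : g ((d - y) • v) = (a * ψ y) • v := by
      rw [sub_smul, map_sub, ← h2, add_sub_cancel_left]
    by_cases hdD : d - y ∈ D
    · rw [hgD _ hdD] at h3
      exact hinjv h3 ▸ hdD
    · obtain ⟨e, he⟩ := claim g hg hgD _ hdD _ h3 c₁
      exact absurd he (hc₁ e)
  -- the span of the products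
  set Sp := Submodule.span F {x : K | ∃ p ∈ P, ∃ p' ∈ P, x = bar p' * p} with hSp
  have hs : finrank F P < finrank F Sp := by
    by_contra hle
    push Not at hle
    have heq : ∀ p₁ ∈ P, p₁ ≠ 0 → P.map (LinearMap.mulLeft F (bar p₁)) = Sp := by
      intro p₁ hp₁ hne
      refine Submodule.eq_of_le_of_finrank_le ?_ ?_
      · rintro _ ⟨p, hp, rfl⟩
        exact Submodule.subset_span ⟨p, hp, p₁, hp₁, rfl⟩
      · rw [← LinearEquiv.finrank_eq (Submodule.equivMapOfInjective _
          (mul_right_injective₀ (show bar p₁ ≠ 0 by simpa using hne)) P)]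
        exact hle
    obtain ⟨p₁, hp₁, hne⟩ := (Submodule.ne_bot_iff P).1 (fun h => by rw [h, finrank_bot] at hm; omega)
    have hb1 : bar p₁ ≠ 0 := by simpa using hne
    let S : Subalgebra F K :=
      { carrier := {a | ∀ d ∈ P, a * d ∈ P}
        mul_mem' := fun {a b} ha hb d hd => by rw [mul_assoc]; exact ha _ (hb d hd)
        one_mem' := fun d hd => by rwa [one_mul]
        add_mem' := fun {a b} ha hb d hd => by rw [add_mul]; exact add_mem (ha d hd) (hb d hd)
        zero_mem' := fun d _ => by rw [zero_mul]; exact zero_mem P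
        algebraMap_mem' := fun s d hd => by rw [← Algebra.smul_def]; exact P.smul_mem s hd }
    have hmemS : ∀ p ∈ P, bar p / bar p₁ ∈ S := fun p hp x hx => by
      have h2 : bar p * x ∈ Sp := Submodule.subset_span ⟨x, hx, p, hp, rfl⟩
      rw [← heq p₁ hp₁ hne] at h2
      obtain ⟨z, hz, hzx⟩ := h2
      rw [LinearMap.mulLeft_apply] at hzx
      have : bar p / bar p₁ * x = z := by rw [div_mul_eq_mul_div, ← hzx, mul_div_cancel_left₀ _ hb1]
      rwa [this]
    haveI := Subalgebra.isSimpleOrder_of_finrank_prime F K hL.geo.prime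
    rcases eq_bot_or_eq_top S with h | h
    · have hsub : P ≤ F ∙ p₁ := fun p hp => by
        obtain ⟨s, hs⟩ := Algebra.mem_bot.1 (h ▸ hmemS p hp)
        refine Submodule.mem_span_singleton.2 ⟨σ s, bar.injective ?_⟩
        rw [Algebra.smul_def, map_mul, hL.geo.bext, hL.geo.invol, hs, div_mul_cancel₀ _ hb1]
      have := Submodule.finrank_mono hsub
      rw [finrank_span_singleton hne] at this
      omega
    · have : P = ⊤ := eq_top_iff.2 fun x _ => by
        have hx : x / p₁ ∈ S := h ▸ Algebra.mem_top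
        simpa [div_mul_cancel₀ _ hne] using hx p₁ hp₁
      have h0 : 0 < finrank F D := Submodule.one_le_finrank_iff.2
        ((Submodule.ne_bot_iff D).2 ⟨1, h1, one_ne_zero⟩)
      rw [this, finrank_top] at hm
      omega
  let X : Submodule (fixF σ) K :=
    antiFix σ bar hL ⊓ (ann lam Sp).restrictScalars (fixF σ)
  have hX : 2 * finrank (fixF σ) X ≤ finrank (fixF σ) F * finrank F (ann lam Sp) :=
    hL.two_mul_le X _ fun u hu => ⟨hu.1, hu.2⟩
  obtain ⟨C, hdisj, hCle, hCdim⟩ : ∃ C : Submodule (fixF σ) K, Disjoint C X ∧ C ≤ antiFix σ bar hL ∧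
      finrank (fixF σ) (antiFix σ bar hL) ≤ finrank (fixF σ) C + finrank (fixF σ) X := by
    obtain ⟨C₀, hC₀⟩ := exists_isCompl X
    refine ⟨C₀ ⊓ antiFix σ bar hL, hC₀.disjoint.symm.mono_left inf_le_left, inf_le_right, ?_⟩
    have hsup : antiFix σ bar hL ≤ (C₀ ⊓ antiFix σ bar hL) ⊔ X := by
      intro a ha
      obtain ⟨x, hx, c, hc, rfl⟩ := Submodule.mem_sup.1 (hC₀.sup_eq_top ▸ Submodule.mem_top : a ∈ X ⊔ C₀)
      refine Submodule.mem_sup.2 ⟨c, ⟨hc, ?_⟩, x, hx, add_comm _ _⟩
      have := sub_mem ha hx.1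
      rwa [add_sub_cancel_left] at this
    exact (Submodule.finrank_mono hsup).trans (Submodule.finrank_add_le_finrank_add_finrank _ _)
  have hC2 : finrank F P < finrank (fixF σ) C := by
    have h3 := hL.le_two_mul_antiFix
    have h4 := hL.finrank_ann Sp
    have h5 := hL.two_le_index
    rw [← h4, mul_add] at h3
    nlinarith
  let bP := Module.finBasis F P
  obtain ⟨a, haC, ha0, e, he, hee⟩ := exists_degenerate hM hL (m := finrank F P) (by omega)
    (fun i => (bP i : K)) C (fun a ha => hCle ha) hC2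
  set p₀ : P := ∑ j, e j • bP j with hp₀
  have hp₀0 : p₀ ≠ 0 := fun h => he (funext fun j =>
    Fintype.linearIndependent_iff.1 bP.linearIndependent e h j)
  have hdeg : ∀ i, lam (bar (bP i : K) * a * (p₀ : K)) = 0 := fun i => by
    rw [← hee i, hp₀]
    simp only [AddSubmonoidClass.coe_finsetSum, SetLike.val_smul, Finset.mul_sum, mul_smul_comm, map_sum,
      map_smul, smul_eq_mul]
  have haA : bar a = -a := hCle haC
  have hD' : a * (p₀ : K) ∈ D := by
    refine hperp _ fun p hp => ?_
    have h2 : lam (bar p * a * (p₀ : K)) = 0 := by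
      rw [show p = ((∑ i, (bP.repr ⟨p, hp⟩ i) • bP i : P) : K) by rw [bP.sum_repr]]
      simp only [AddSubmonoidClass.coe_finsetSum, SetLike.val_smul, map_sum, Finset.sum_mul]
      refine Finset.sum_eq_zero fun i _ => ?_
      rw [Algebra.smul_def, map_mul bar, hL.geo.bext, mul_assoc, mul_assoc, hL.lam_smul, ← mul_assoc, hdeg,
        mul_zero]
    rw [show bar (a * (p₀ : K)) * p = bar (bar p * a * (p₀ : K)) by
      simp only [map_mul, hL.geo.binvol]; ring, hL.lam_bar, h2, map_zero]
  obtain ⟨y₀, hy₀⟩ := p₀.2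
  have hy₀D : y₀ ∉ D := fun h => hp₀0 (Subtype.ext (by rw [← hy₀, hψD y₀ h]; rfl))
  have hall := hclaim1 a haA y₀ hy₀D (by rwa [hy₀])
  refine ha0 (Submodule.disjoint_def.1 hdisj a haC ⟨haA, ?_⟩)
  show ∀ q ∈ Sp, lam (a * q) = 0
  intro q hq
  induction hq using Submodule.span_induction with
  | mem x hx =>
    obtain ⟨_, ⟨y, rfl⟩, p', hp', rfl⟩ := hx
    rw [show a * (bar p' * ψ y) = bar (bar (a * ψ y) * p') by
      simp only [map_mul, hL.geo.binvol]; ring, hL.lam_bar, hortho _ (hall y) p' hp', map_zero]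
  | zero => rw [mul_zero, map_zero]
  | add x y _ _ hx hy => rw [mul_add, map_add, hx, hy, add_zero]
  | smul s x _ hx => rw [mul_smul_comm, map_smul, hx, smul_zero]

/-- The configuration reached by the induction. -/
structure Config (σ : F ≃+* F) (bar : K ≃+* K) (M : Subgroup (V ≃ₗ[F] V)) (B : V → V → K) (lam : K →ₗ[F] F)
    (v : V) (g : V ≃ₗ[F] V) : Prop where
  mem : g ∈ M
  iso : B v v = 0
  ne : v ≠ 0
  fix : ∀ d : K, lam d = 0 → g (d • v) = d • v
  moved : ∀ c : K, g v ≠ c • v

theorem exists_config : ∃ (v : V) (g : V ≃ₗ[F] V), Config σ bar M B lam v g := by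
  obtain ⟨v₀, hv₀, hiso, hbase⟩ := moves_base hM hL
  have hr := hL.geo.prime.two_le
  have hk : ∀ k, k + 2 ≤ finrank F K →
      ∃ D : Submodule F K, (1 : K) ∈ D ∧ finrank F D = k + 1 ∧ ExtFieldMax.Moves M v₀ D := by
    intro k
    induction k with
    | zero =>
      exact fun _ => ⟨_, Submodule.mem_span_singleton_self 1, finrank_span_singleton one_ne_zero, hbase⟩
    | succ k ih =>
      intro hk
      obtain ⟨D, h1, hd, hm⟩ := ih (by omega)
      obtain ⟨c, hc, hm'⟩ := moves_step hM hL hiso hv₀ D h1 (by omega) hm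
      refine ⟨_, Submodule.mem_sup_left h1, ?_, hm'⟩
      have h2 := Submodule.finrank_sup_add_finrank_inf_eq D (F ∙ c)
      have hc0 : c ≠ 0 := fun h => hc (h ▸ zero_mem D)
      have h3 : D ⊓ F ∙ c = ⊥ := by
        rw [eq_bot_iff]
        rintro x ⟨hx, hx'⟩
        obtain ⟨s, rfl⟩ := Submodule.mem_span_singleton.1 hx'
        by_cases hs : s = 0
        · simp [hs]
        · exact absurd ((Submodule.smul_mem_iff _ hs).1 hx) hc
      rw [h3, finrank_bot, finrank_span_singleton hc0, hd] at h2
      omega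
  obtain ⟨D, -, hd, g, hg, hgD, c, hc⟩ := hk (finrank F K - 2) (by omega)
  have hcD : c ∉ D := fun h => hc c (hgD c h)
  obtain ⟨χ, hχc, hχD⟩ := exists_dual_one D hcD
  have hker : LinearMap.ker χ = D := by
    symm
    refine Submodule.eq_of_le_of_finrank_le (fun x hx => LinearMap.mem_ker.2 (hχD x hx)) ?_
    have h1 := LinearMap.finrank_range_add_finrank_ker χ
    have h2 : finrank F (LinearMap.range χ) = 1 := by
      rw [LinearMap.range_eq_top.2 fun s => ⟨s • c, by rw [map_smul, hχc, smul_eq_mul, mul_one]⟩,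
        finrank_top, finrank_self]
    omega
  obtain ⟨e, he⟩ := hL.exists_rep χ
  have he0 : e ≠ 0 := fun h => by
    have := he c
    rw [h, zero_mul, map_zero, hχc] at this
    exact zero_ne_one this
  refine ⟨e⁻¹ • v₀, g, hg, by rw [hL.smul_left, hL.smul_right, hiso, mul_zero, mul_zero],
    smul_ne_zero (inv_ne_zero he0) hv₀, fun d hd0 => ?_, fun k hk => ?_⟩
  · rw [smul_smul]
    refine hgD _ (hker ▸ LinearMap.mem_ker.2 ?_)
    rw [← he, mul_left_comm, mul_inv_cancel₀ he0, mul_one, hd0]
  · have heD : e⁻¹ ∉ D := fun h => by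
      have := hχD _ h
      rw [← he, mul_inv_cancel₀ he0, hL.one] at this
      exact one_ne_zero this
    rw [smul_smul] at hk
    set s := χ e⁻¹ with hs
    have hs0 : s ≠ 0 := by rw [hs, ← he, mul_inv_cancel₀ he0, hL.one]; exact one_ne_zero
    have hsub : c - (s⁻¹ * χ c) • e⁻¹ ∈ D := hker ▸ LinearMap.mem_ker.2 (by
      rw [map_sub, map_smul, ← hs, smul_eq_mul, mul_right_comm, inv_mul_cancel₀ hs0, one_mul, sub_self])
    set u := c - (s⁻¹ * χ c) • e⁻¹ with hu
    refine hc (u + (s⁻¹ * χ c) • (k * e⁻¹)) ?_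
    have hcu : c = u + (s⁻¹ * χ c) • e⁻¹ := by rw [hu, sub_add_cancel]
    conv_lhs => rw [hcu]
    rw [add_smul, map_add, hgD _ hsub, smul_assoc, LinearEquiv.map_smul, hk, add_smul, smul_assoc]

end

end

end Cfsg.Agent.ExtFieldUnit74
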