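import Mathlib
import Cfsg.Agent.Lib.ExtFieldUnit74Step
import Cfsg.Agent.Lib.ExtFieldSp

/-!
From a configuration to a unitary transvection over F at a vector isotropic over K.
-/

set_option autoImplicit false
set_option linter.unusedSectionVars false
set_option linter.style.haveILetI false

namespace Cfsg.Agent.ExtFieldUnit74

open Module
open Cfsg.Agent.ExtFieldMax (mul_apply' inv_apply' apply_inv' exists_dual_one exists_comm)

noncomputable section

variable {F K V : Type*} [Field F] [Fintype F] [Field K] [Fintype K] [Algebra F K]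
  [AddCommGroup V] [Module F V] [Module K V] [IsScalarTower F K V] [FiniteDimensional K V]

variable {σ : F ≃+* F} {bar : K ≃+* K} {f : V → V → F} {lam : K →ₗ[F] F} {B : V → V → K}
  {M : Subgroup (V ≃ₗ[F] V)}

/-- The transvection at `u` with coefficient `c` lies in `M`. -/
def Tr (M : Subgroup (V ≃ₗ[F] V)) (f : V → V → F) (u : V) (c : F) : Prop :=
  ∃ t ∈ M, ∀ x, t x = x + (c * f x u) • u

/-- The commutator of a square zero unipotent map with a general one. -/
theorem exists_comm' {g h : V ≃ₗ[F] V} (hg : g ∈ M) (hh : h ∈ M) (a a' b : V →ₗ[F] V)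
    (ga : ∀ x, g x = x + a x) (ga' : ∀ x, g⁻¹ x = x + a' x) (hb : ∀ x, h x = x + b x)
    (hbb : ∀ x, b (b x) = 0) (hbab : ∀ x, b (a' (b x)) = 0) (haba : ∀ x, a (b (a' x)) = 0) :
    ∃ k ∈ M, ∀ x, k x = x + (a (b x) + b (a' x)) := by
  have hi : ∀ x, h⁻¹ x = x - b x := fun x => by
    apply h.injective
    rw [apply_inv', hb, map_sub, hbb]; abel
  have e : ∀ x, x + a' x + a (x + a' x) = x := fun x => by rw [← ga, ← ga', apply_inv']
  refine ⟨g * h * g⁻¹ * h⁻¹, mul_mem (mul_mem (mul_mem hg hh) (inv_mem hg)) (inv_mem hh), fun x => ?_⟩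
  rw [mul_apply', mul_apply', mul_apply', hi, ga', hb, ga]
  have e1 := e x
  have e2 := e (b x)
  simp only [map_add, map_sub, hbb, hbab, haba, map_zero] at e1 e2 ⊢
  linear_combination (norm := abel) e1 - e2

namespace Lift

variable (hL : Lift σ bar f lam B)
include hL

/-- A fixed element of the kernel of `lam` outside a given line. -/
theorem exists_real_ker (e : K) : ∃ e', bar e' = e' ∧ lam e' = 0 ∧ e' ∉ F ∙ e := by
  by_contra hcon
  push Not at hcon
  obtain ⟨a₀, ha₀⟩ := hL.geo.ne_refl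
  have hle : LinearMap.ker lam ≤ F ∙ e := fun x hx => by
    obtain ⟨p, q, hp, hq, rfl⟩ := hL.exists_decomp ha₀ x
    rw [LinearMap.mem_ker, map_add, hL.lam_smul] at hx
    have hp' : σ (lam p) = lam p := by rw [← hL.lam_bar, hp]
    have hq' : σ (lam q) = lam q := by rw [← hL.lam_bar, hq]
    have h2 := congrArg σ hx
    rw [map_add, map_mul, hp', hq', map_zero] at h2
    have hq0 : lam q = 0 := by
      have : (a₀ - σ a₀) * lam q = 0 := by linear_combination hx - h2
      exact (mul_eq_zero.1 this).resolve_left (sub_ne_zero.2 (Ne.symm ha₀))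
    rw [hq0, mul_zero, add_zero] at hx
    rw [← Algebra.smul_def]
    exact add_mem (hcon p hp hx) (Submodule.smul_mem _ _ (hcon q hq hq0))
  have h1 := LinearMap.finrank_range_add_finrank_ker lam
  have h2 := Submodule.finrank_le (LinearMap.range lam)
  have h3 := Submodule.finrank_mono hle
  have h4 : finrank F (F ∙ e) ≤ 1 := (finrank_span_le_card _).trans (by simp)
  have h5 := hL.geo.prime.two_le
  have h6 := hL.geo.odd
  rw [finrank_self] at h2
  omega

theorem exists_fix_scalar {t : F} (ht : σ t = t) :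
    ∃ a b : F, σ a = a ∧ σ b = b ∧ t = a * a - b * b := by
  by_cases h2 : (2 : F) = 0
  · obtain ⟨u, hu⟩ := FiniteField.isSquare_of_char_two (ExtFieldSp.ringChar_two h2) t
    refine ⟨u, 0, ?_, map_zero _, by rw [hu, mul_zero, sub_zero]⟩
    have h3 : σ u * σ u = u * u := by rw [← map_mul, ← hu, ht]
    have h4 : (σ u - u) * (σ u - u) = 0 := by linear_combination h3 + (u * u - σ u * u) * h2
    exact sub_eq_zero.1 (mul_self_eq_zero.1 h4)
  · refine ⟨(t + 1) / 2, (t - 1) / 2, ?_, ?_, ?_⟩
    · rw [map_div₀, map_add, ht, map_one, map_ofNat]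
    · rw [map_div₀, map_sub, ht, map_one, map_ofNat]
    · field_simp; ring

end Lift

section
variable (hM : Hyp σ bar f M) (hL : Lift σ bar f lam B) {v : V} {g : V ≃ₗ[F] V}
  (hC : Config σ bar M B lam v g)
include hM hL hC

theorem Config.lam_sub (p : K) : lam (p - algebraMap F K (lam p)) = 0 := by
  rw [map_sub, hL.lam_algebraMap, sub_self]

theorem Config.g_line (p : K) :
    g (p • v) = (p - algebraMap F K (lam p)) • v + lam p • g v := by
  conv_lhs => rw [← sub_add_cancel p (algebraMap F K (lam p)), add_smul, map_add,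
    hC.fix _ (Config.lam_sub hM hL hC p), algebraMap_smul, map_smul]

theorem Config.inv_line (p : K) :
    g⁻¹ (p • v) = (p - algebraMap F K (lam p)) • v + lam p • g⁻¹ v := by
  apply g.injective
  rw [apply_inv', map_add, hC.fix _ (Config.lam_sub hM hL hC p), map_smul, apply_inv',
    ← algebraMap_smul K (lam p) v, ← add_smul, sub_add_cancel]

theorem Config.f_inv (x y : V) : f (g⁻¹ x) y = f x (g y) := by
  conv_rhs => rw [← apply_inv' g x, hM.pres g hC.mem]

theorem Config.B_v_gv : B v (g v) = algebraMap F K (f v (g v)) := by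
  refine hL.ext_of fun c => ?_
  rw [← hL.eq, mul_comm, hL.lam_smul]
  conv_lhs => rw [← sub_add_cancel c (algebraMap F K (lam c)), add_smul, hM.geo.add_left, algebraMap_smul,
    hM.geo.smul_left, ← hC.fix _ (Config.lam_sub hM hL hC c), hM.pres g hC.mem, hL.eq, hC.iso, mul_zero,
    map_zero, zero_add]
  rw [mul_comm]

theorem Config.B_inv_v : B (g⁻¹ v) v = algebraMap F K (f v (g v)) := by
  refine hL.ext_of fun c => ?_
  rw [← hL.eq, hM.geo.adj, Config.f_inv hM hL hC, Config.g_line hM hL hC, hM.geo.add_right, hM.geo.smul_right,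
    hL.f_eq v ((_ : K) • v), hL.smul_right, hC.iso, mul_zero, map_zero, zero_add, hL.lam_bar, hM.geo.invol,
    mul_comm c, hL.lam_smul, mul_comm]

theorem Config.rho_lam {d : K} (hd : lam d = 0) (x : V) : lam (d * B (g⁻¹ x) v) = lam (d * B x v) := by
  rw [← hL.eq, ← hL.eq, hM.geo.adj, hM.geo.adj d x, Config.f_inv hM hL hC,
    hC.fix _ (by rw [hL.lam_bar, hd, map_zero])]

theorem Config.rho_line (p : K) : B (g⁻¹ (p • v)) v = algebraMap F K (lam p * f v (g v)) := by
  rw [Config.inv_line hM hL hC, hL.add_left, hL.smul_left, hC.iso, mul_zero, zero_add,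
    ← algebraMap_smul K (lam p) (g⁻¹ v), hL.smul_left, Config.B_inv_v hM hL hC, map_mul]

theorem case_zero (hs : f v (g v) = 0) :
    ∃ (u : V) (c : F), u ≠ 0 ∧ B u u = 0 ∧ c ≠ 0 ∧ σ c = -c ∧ Tr M f u c := by
  classical
  obtain ⟨a₀, ha₀⟩ := hL.geo.ne_refl
  obtain ⟨ζ, hζ, hζ'⟩ := hL.exists_zeta
  obtain ⟨e, heR, he, hne⟩ := hL.exists_real_ker 0
  set d := algebraMap F K ζ * e with hddef
  have hd : bar d = -d := by rw [hddef, map_mul, hL.zeta_inA hζ', heR, neg_mul]
  have hdl : lam d = 0 := by rw [hddef, hL.lam_smul, he, mul_zero]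
  have hd0 : d ≠ 0 := mul_ne_zero (by simpa using hζ) (fun h => hne (by rw [h]; exact zero_mem _))
  have hv := hC.iso
  have hvz : B v (g v) = 0 := by rw [Config.B_v_gv hM hL hC, hs, map_zero]
  have hzv : B (g v) v = 0 := hL.zero_comm hvz
  have hz : g v ∉ Submodule.span K {v} := fun h => by
    obtain ⟨c, hc⟩ := Submodule.mem_span_singleton.1 h
    exact hC.moved c hc.symm
  set κ := algebraMap F K a₀ * d with hκ
  obtain ⟨φ', hφz, hφ0⟩ := exists_dual_one _ hz
  obtain ⟨w, hw⟩ := hL.exists_vec (κ • φ')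
  have hvw : B v w = 0 := by
    rw [hw, LinearMap.smul_apply, hφ0 v (Submodule.mem_span_singleton_self v), smul_zero]
  have hwv : B w v = 0 := hL.zero_comm hvw
  have hzw : B (g v) w = κ := by rw [hw, LinearMap.smul_apply, hφz, smul_eq_mul, mul_one]
  obtain ⟨α, hα⟩ := hL.exists_trace (b := - B w w) (by rw [map_neg, hL.self_real])
  obtain ⟨ta, hta, -, htax⟩ := exists_S hM hL v w α hv hvw hα
  obtain ⟨td, htd, -, htdx⟩ := exists_T hM hL v d hv hd
  let a : V →ₗ[F] V := ((LinearMap.toSpanSingleton K V (α • v + w)).comp (hL.Bl v) -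
    (LinearMap.toSpanSingleton K V v).comp (hL.Bl w)).restrictScalars F
  let a' : V →ₗ[F] V := ((LinearMap.toSpanSingleton K V (bar α • v - w)).comp (hL.Bl v) +
    (LinearMap.toSpanSingleton K V v).comp (hL.Bl w)).restrictScalars F
  let ρ : V →ₗ[F] K := ((hL.Bl v).restrictScalars F).comp (g⁻¹ : V ≃ₗ[F] V).toLinearMap
  let b : V →ₗ[F] V :=
    g.toLinearMap.comp (((LinearMap.toSpanSingleton K V (d • v)).restrictScalars F).comp ρ)
  have ha : ∀ x, a x = B x v • (α • v + w) - B x w • v := fun x => rfl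
  have ha' : ∀ x, a' x = B x v • (bar α • v - w) + B x w • v := fun x => rfl
  have hb0 : ∀ x, b x = g ((d * B (g⁻¹ x) v) • v) := fun x => by
    show g (B (g⁻¹ x) v • d • v) = _
    rw [smul_smul, mul_comm]
  have hb : ∀ x, b x = (d * B (g⁻¹ x) v - algebraMap F K (lam (d * B x v))) • v + lam (d * B x v) • g v :=
    fun x => by rw [hb0, Config.g_line hM hL hC, Config.rho_lam hM hL hC hdl]
  have hbperp : ∀ y, B y v = 0 → b y = (d * B (g⁻¹ y) v) • v := fun y hy => by
    rw [hb, hy, mul_zero, map_zero, map_zero, sub_zero, zero_smul, add_zero]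
  have hbline : ∀ p : K, b (p • v) = 0 := fun p => by
    rw [hbperp _ (by rw [hL.smul_left, hv, mul_zero]), Config.rho_line hM hL hC, hs, mul_zero, map_zero,
      mul_zero, zero_smul]
  have hbv : ∀ x, B (b x) v = 0 := fun x => by
    rw [hb, hL.add_left, hL.smul_left, hv, ← algebraMap_smul K (lam (d * B x v)) (g v), hL.smul_left, hzv,
      mul_zero, mul_zero, add_zero]
  have hbw : ∀ x, B (b x) w = algebraMap F K (lam (d * B x v)) * κ := fun x => by
    rw [hb, hL.add_left, hL.smul_left, hvw, ← algebraMap_smul K (lam (d * B x v)) (g v), hL.smul_left, hzw,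
      mul_zero, zero_add]
  have hab : ∀ x, a (b x) = -((algebraMap F K (lam (d * B x v)) * κ) • v) := fun x => by
    rw [ha, hbv, hbw, zero_smul, zero_sub]
  have ha'b : ∀ x, a' (b x) = (algebraMap F K (lam (d * B x v)) * κ) • v := fun x => by
    rw [ha', hbv, hbw, zero_smul, zero_add]
  have hrho : ∀ p : K, B (g⁻¹ (p • w)) v = algebraMap F K (lam (p * bar κ)) := fun p => by
    refine hL.ext_of fun c => ?_
    rw [← hL.eq, hM.geo.adj, Config.f_inv hM hL hC, Config.g_line hM hL hC, hM.geo.add_right,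
      hM.geo.smul_right, hL.f_eq _ ((_ : K) • v), hL.smul_right, hL.smul_left p w v, hwv, mul_zero, mul_zero,
      map_zero, zero_add, hL.lam_bar, hM.geo.invol, hL.eq, hL.herm (g v) w, hzw, mul_comm c, hL.lam_smul,
      mul_comm]
  have hba' : ∀ x, b (a' x) = -((d * algebraMap F K (lam (B x v * bar κ))) • v) := fun x => by
    rw [ha', smul_sub, smul_smul, sub_add_eq_add_sub, ← add_smul, map_sub, hbline, zero_sub,
      hbperp _ (by rw [hL.smul_left, hwv, mul_zero]), hrho]
  obtain ⟨k, hk, hkx⟩ := exists_comm' (M := M) hta (mul_mem (mul_mem hC.mem htd) (inv_mem hC.mem)) a a' b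
    (fun x => by rw [htax, ha])
    (fun x => by
      apply ta.injective
      rw [apply_inv', htax, ha']
      simp only [hL.add_left, hL.smul_left, hL.sub_left, hv, hwv, hvw, mul_zero, sub_zero, add_zero, sub_self]
      match_scalars
      · rfl
      · linear_combination -(B x v) * hα
      · ring)
    (fun x => by
      rw [mul_apply', mul_apply', htdx, map_add, apply_inv', hb0])
    (fun x => by rw [hb0 (b x), hb0 x, inv_apply', hL.smul_left, hv, mul_zero, mul_zero, zero_smul, map_zero])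
    (fun x => by rw [ha'b, hbline])
    (fun x => by
      rw [hba', map_neg, ha, hL.smul_left, hL.smul_left, hv, hvw, mul_zero, zero_smul, zero_smul, sub_zero,
        neg_zero])
  refine ⟨d • v, a₀ - σ a₀, smul_ne_zero hd0 hC.ne, by rw [hL.smul_left, hL.smul_right, hv, mul_zero, mul_zero],
    sub_ne_zero.2 (Ne.symm ha₀), by rw [map_sub, hM.geo.invol, neg_sub], k, hk, fun x => ?_⟩
  rw [hkx, hab, hba', hL.f_eq x (d • v), hL.smul_right, hd, neg_mul, map_neg, ← algebraMap_smul K _ (d • v),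
    smul_smul, ← neg_smul, ← neg_smul, ← add_smul]
  congr 2
  have e1 : lam (B x v * bar κ) = - (σ a₀ * lam (d * B x v)) := by
    rw [hκ, map_mul bar, hM.geo.bext, hd, mul_neg, mul_neg, map_neg, mul_left_comm, hL.lam_smul, mul_comm d]
  rw [e1]
  simp only [map_neg, map_mul, map_sub, hκ]
  ring

set_option maxHeartbeats 800000 in
theorem case_nonzero (hs : f v (g v) ≠ 0) :
    ∃ (u : V) (c : F), u ≠ 0 ∧ B u u = 0 ∧ c ≠ 0 ∧ σ c = -c ∧ Tr M f u c := by
  classical
  obtain ⟨ζ, hζ, hζ'⟩ := hL.exists_zeta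
  have hv := hC.iso
  set s₀ := f v (g v) with hs₀
  set ι := algebraMap F K with hι
  have hvz : B v (g v) = ι s₀ := Config.B_v_gv hM hL hC
  have hzv : B (g v) v = ι (σ s₀) := by rw [hL.herm v (g v), hvz, hι, hM.geo.bext]
  have hlι : ∀ (s : F) (p : K), lam (ι s * p) = s * lam p := hL.lam_smul
  -- commutators
  have hcomm : ∀ w d : K, bar w = -w → bar d = -d → lam d = 0 → ∃ k ∈ M, ∀ x, k x = x +
      (ι (σ s₀ * lam (d * B x v)) * w - ι (s₀ * lam (w * B x v)) * d +
        ι (s₀ * σ s₀ * lam w * lam (d * B x v)) * d) • v := by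
    intro w d hw hd hdl
    obtain ⟨ta, hta, -, htax⟩ := exists_T hM hL v w hv hw
    obtain ⟨td, htd, -, htdx⟩ := exists_T hM hL v d hv hd
    let a : V →ₗ[F] V := ((LinearMap.toSpanSingleton K V (w • v)).comp (hL.Bl v)).restrictScalars F
    let ρ : V →ₗ[F] K := ((hL.Bl v).restrictScalars F).comp (g⁻¹ : V ≃ₗ[F] V).toLinearMap
    let b : V →ₗ[F] V :=
      g.toLinearMap.comp (((LinearMap.toSpanSingleton K V (d • v)).restrictScalars F).comp ρ)
    have ha : ∀ x, a x = (w * B x v) • v := fun x => by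
      show B x v • w • v = _
      rw [smul_smul, mul_comm]
    have hb0 : ∀ x, b x = g ((d * B (g⁻¹ x) v) • v) := fun x => by
      show g (B (g⁻¹ x) v • d • v) = _
      rw [smul_smul, mul_comm]
    have hb : ∀ x, b x = (d * B (g⁻¹ x) v - ι (lam (d * B x v))) • v + lam (d * B x v) • g v :=
      fun x => by rw [hb0, Config.g_line hM hL hC, Config.rho_lam hM hL hC hdl]
    have hbline : ∀ p : K, b (p • v) = (d * ι (lam p * s₀)) • v := fun p => by
      rw [hb, hL.smul_left, hv, mul_zero, mul_zero, map_zero, map_zero, sub_zero, zero_smul, add_zero,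
        Config.rho_line hM hL hC]
    have hab : ∀ x, a (b x) = (w * (ι (lam (d * B x v)) * ι (σ s₀))) • v := fun x => by
      rw [ha, hb, hL.add_left, hL.smul_left, hv, ← algebraMap_smul K (lam (d * B x v)) (g v), hL.smul_left, hzv,
        mul_zero, zero_add]
    have haline : ∀ p : K, a (p • v) = 0 := fun p => by
      rw [ha, hL.smul_left, hv, mul_zero, mul_zero, zero_smul]
    obtain ⟨k, hk, hkx⟩ := exists_comm (M := M) hta (mul_mem (mul_mem hC.mem htd) (inv_mem hC.mem)) a b
      (fun x => by rw [htax, ha])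
      (fun x => by rw [mul_apply', mul_apply', htdx, map_add, apply_inv', hb0])
      (fun x => by rw [ha x, haline])
      (fun x => by rw [hb0 (b x), hb0 x, inv_apply', hL.smul_left, hv, mul_zero, mul_zero, zero_smul, map_zero])
      (fun x => by rw [ha x, hbline, haline])
    refine ⟨k, hk, fun x => ?_⟩
    rw [hkx, hab, ha, hbline, hbline, ← sub_smul, ← add_smul, ← map_mul ι, mul_comm w (ι _), hlι]
    congr 2
    simp only [map_mul]
    ring
  have hφv : B v v = 0 := hv
  let E : AddSubgroup (K →ₗ[F] K) :=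
    { carrier := {q | ∃ t ∈ M, ∀ x, t x = x + q (B x v) • v}
      add_mem' := by
        rintro f₁ f₂ ⟨s, hs, hsx⟩ ⟨t, ht, htx⟩
        refine ⟨s * t, mul_mem hs ht, fun x => ?_⟩
        rw [mul_apply', htx, hsx, hL.add_left, hL.smul_left, hφv, mul_zero, add_zero, LinearMap.add_apply,
          add_smul]
        abel
      zero_mem' := ⟨1, one_mem M, fun x => by simp⟩
      neg_mem' := by
        rintro q ⟨t, ht, htx⟩
        refine ⟨t⁻¹, inv_mem ht, fun x => ?_⟩
        apply t.injective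
        rw [apply_inv', htx, hL.add_left, hL.smul_left, hφv, mul_zero, add_zero, LinearMap.neg_apply, neg_smul]
        abel }
  have hfin : ∀ (d : K) (c : F) (q : K →ₗ[F] K), d ≠ 0 → c ≠ 0 → σ c = -c → q ∈ E →
      (∀ p, q p = ι (c * lam (bar d * p)) * d) →
      ∃ (u : V) (c : F), u ≠ 0 ∧ B u u = 0 ∧ c ≠ 0 ∧ σ c = -c ∧ Tr M f u c := by
    rintro d c q hd hc hc' ⟨t, ht, htx⟩ hq
    refine ⟨d • v, c, smul_ne_zero hd hC.ne, by rw [hL.smul_left, hL.smul_right, hv, mul_zero, mul_zero],
      hc, hc', t, ht, fun x => ?_⟩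
    rw [htx, hq, hL.f_eq x (d • v), hL.smul_right, ← algebraMap_smul K _ (d • v), smul_smul]
  obtain ⟨e₁, he₁R, he₁, he₁0⟩ := hL.exists_real_ker 0
  have he₁0' : e₁ ≠ 0 := fun h => he₁0 (by rw [h]; exact zero_mem _)
  let lm : K → K →ₗ[F] K := fun d => (Algebra.linearMap F K).comp (lam.comp (LinearMap.mulLeft F d))
  have hlm : ∀ d p, lm d p = ι (lam (d * p)) := fun d p => rfl
  by_cases hsσ : σ s₀ = s₀
  swap
  · have hd : bar (ι ζ * e₁) = -(ι ζ * e₁) := by rw [map_mul, hL.zeta_inA hζ', he₁R, neg_mul]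
    have hdl : lam (ι ζ * e₁) = 0 := by rw [hlι, he₁, mul_zero]
    set d := ι ζ * e₁ with hdd
    obtain ⟨k, hk, hkx⟩ := hcomm d d hd hd hdl
    refine hfin d (s₀ - σ s₀) ((σ s₀ - s₀) • d • lm d) (mul_ne_zero (by simpa [hι] using hζ) he₁0')
      (sub_ne_zero.2 (Ne.symm hsσ)) (by rw [map_sub, hM.geo.invol, neg_sub]) ⟨k, hk, fun x => ?_⟩ fun p => ?_
    · rw [hkx, hdl, LinearMap.smul_apply, LinearMap.smul_apply, hlm, Algebra.smul_def, ← hι, smul_eq_mul]
      congr 2
      simp only [map_mul, map_sub, map_zero]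
      ring
    · rw [LinearMap.smul_apply, LinearMap.smul_apply, hlm, Algebra.smul_def, ← hι, smul_eq_mul, hd, neg_mul,
        map_neg lam]
      simp only [map_mul, map_sub, map_neg]
      ring
  let Y : K → K →ₗ[F] K := fun e => lm e - e • lm 1
  let T : K → K →ₗ[F] K := fun e => e • lm e
  have hY : ∀ e p, Y e p = ι (lam (e * p)) - e * ι (lam p) := fun e p => by
    show lm e p - e • lm 1 p = _
    rw [hlm, hlm, one_mul, smul_eq_mul]
  have hT : ∀ e p, T e p = e * ι (lam (e * p)) := fun e p => rfl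
  have hH : ∀ e, bar e = e → lam e = 0 → (s₀ * ζ ^ 2) • Y e + (s₀ ^ 2 * ζ ^ 3) • T e ∈ E := by
    intro e he hel
    obtain ⟨k, hk, hkx⟩ := hcomm (ι ζ) (ι ζ * e) (hL.zeta_inA hζ')
      (by rw [map_mul, hL.zeta_inA hζ', he, neg_mul]) (by rw [hlι, hel, mul_zero])
    refine ⟨k, hk, fun x => ?_⟩
    rw [hkx, LinearMap.add_apply, LinearMap.smul_apply, LinearMap.smul_apply, hY, hT, Algebra.smul_def,
      Algebra.smul_def, ← hι, mul_assoc (ι ζ) e (B x v), hlι, hlι, hι, hL.lam_algebraMap, hsσ]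
    congr 2
    simp only [map_mul, map_pow]
    ring
  -- the torus
  have htorus : ∀ c : K, bar c = c → c ≠ 0 → ∀ q ∈ E, c • q.comp (LinearMap.mulLeft F c) ∈ E := by
    rintro c hc hc0 q ⟨t, ht, htx⟩
    obtain ⟨h, hh, hl, hhv⟩ := scale_real hM hL hv hC.ne hc hc0
    refine ⟨h * t * h⁻¹, mul_mem (mul_mem hh ht) (inv_mem hh), fun x => ?_⟩
    have hmap := hL.map_eq (hM.pres h hh) hl (h⁻¹ x) v
    rw [apply_inv', hhv, hL.smul_right, hc] at hmap
    rw [mul_apply', mul_apply', htx, map_add, apply_inv', hl, hhv, smul_smul, ← hmap, LinearMap.smul_apply,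
      LinearMap.comp_apply, LinearMap.mulLeft_apply, smul_eq_mul, mul_comm c (q _)]
  have hscal : ∀ t : F, σ t = t → ∀ q ∈ E, t • q ∈ E := by
    intro t ht q hq
    have hsq : ∀ a : F, σ a = a → (a * a) • q ∈ E := by
      intro a ha
      by_cases ha0 : a = 0
      · rw [ha0, mul_zero, zero_smul]; exact zero_mem E
      convert htorus (ι a) (by rw [hι, hM.geo.bext, ha]) (by simpa [hι] using ha0) q hq using 1
      ext p
      rw [LinearMap.smul_apply, LinearMap.smul_apply, LinearMap.comp_apply, LinearMap.mulLeft_apply,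
        smul_eq_mul, hι, ← Algebra.smul_def a p, map_smul, ← Algebra.smul_def, smul_smul]
    obtain ⟨a, b, ha, hb, rfl⟩ := hL.exists_fix_scalar ht
    rw [show (a * a - b * b) • q = (a * a) • q - (b * b) • q from LinearMap.ext fun p => sub_smul _ _ _]
    exact sub_mem (hsq a ha) (hsq b hb)
  set k₀ := s₀ * ζ ^ 2 with hk₀
  set k₁ := s₀ ^ 2 * ζ ^ 3 with hk₁
  have hk₀σ : σ k₀ = k₀ := by rw [hk₀, map_mul, map_pow, hsσ, hζ', neg_sq]
  have hk₁σ : σ k₁ = -k₁ := by rw [hk₁, map_mul, map_pow, map_pow, hsσ, hζ']; ring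
  by_cases hq : ∃ t : F, σ t = t ∧ t ≠ 0 ∧ t ≠ 1
  · obtain ⟨t, ht, ht0, ht1⟩ := hq
    have hte : bar (ι t * e₁) = ι t * e₁ := by rw [map_mul, hι, hM.geo.bext, ht, he₁R]
    have h1 := sub_mem (hH (ι t * e₁) hte (by rw [hlι, he₁, mul_zero]))
      (hscal (t * t) (by rw [map_mul, ht]) _ (hH e₁ he₁R he₁))
    have hne : t - t * t ≠ 0 := fun h => ht1 (mul_right_cancel₀ ht0 (by rw [one_mul]; exact (sub_eq_zero.1 h).symm))
    have h2 : k₀ • Y e₁ ∈ E := by
      convert hscal (t - t * t)⁻¹ (by rw [map_inv₀, map_sub, map_mul, ht]) _ h1 using 1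
      ext p
      simp only [LinearMap.smul_apply, LinearMap.add_apply, LinearMap.sub_apply]
      simp only [hY, hT, Algebra.smul_def, ← hι, mul_assoc (ι t), hlι]
      have hone : ι (t - t * t)⁻¹ * (ι t - ι t * ι t) = 1 := by
        rw [← map_mul ι t t, ← map_sub, ← map_mul, inv_mul_cancel₀ hne, map_one]
      simp only [map_mul]
      linear_combination (-(ι k₀) * (ι (lam (e₁ * p)) - e₁ * ι (lam p))) * hone
    have h3 : k₁ • T e₁ ∈ E := by simpa using sub_mem (hH e₁ he₁R he₁) h2
    refine hfin e₁ k₁ _ he₁0' (mul_ne_zero (pow_ne_zero _ hs) (pow_ne_zero _ hζ)) hk₁σ h3 fun p => ?_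
    rw [LinearMap.smul_apply, hT, Algebra.smul_def, ← hι, he₁R, map_mul ι k₁]
    ring
  push Not at hq
  have h2 : (2 : F) = 0 := by
    by_contra h2
    have h3 : (2 : F) = 1 := hq 2 (map_ofNat σ 2) h2
    exact one_ne_zero (α := F) (by linear_combination h3)
  have hone : ∀ a : F, σ a = a → a ≠ 0 → a = 1 := hq
  have hs1 : s₀ = 1 := hone _ hsσ hs
  have hneg : ∀ a : F, -a = a := fun a => by linear_combination (-a) * h2
  have hζ1 : ζ = 1 := hone _ (by rw [hζ', hneg]) hζ
  have hk1 : k₁ = 1 := by rw [hk₁, hs1, hζ1, one_pow, one_pow, one_mul]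
  have hk0 : k₀ = 1 := by rw [hk₀, hs1, hζ1, one_pow, one_mul]
  have h2K : (2 : K) = 0 := by rw [← map_ofNat ι 2, h2, map_zero]
  simp only [hk0, hk1, one_smul] at hH
  obtain ⟨e₂, he₂R, he₂, he₂n⟩ := hL.exists_real_ker e₁
  let G : AddSubgroup K :=
    { carrier := {c | bar c = c ∧ Y c ∈ E}
      add_mem' := fun {a b} ha hb => ⟨by rw [map_add, ha.1, hb.1], by
        convert add_mem ha.2 hb.2 using 1
        ext p
        simp only [LinearMap.add_apply, hY, add_mul, map_add]
        ring⟩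
      zero_mem' := ⟨map_zero _, by
        convert zero_mem E using 1
        ext p
        simp [hY]⟩
      neg_mem' := fun {a} ha => ⟨by rw [map_neg, ha.1], by
        convert neg_mem ha.2 using 1
        ext p
        simp only [LinearMap.neg_apply, hY, neg_mul, map_neg]
        ring⟩ }
  have hG1 : (1 : K) ∈ G := ⟨map_one _, by
    convert zero_mem E using 1
    ext p
    simp [hY]⟩
  have hGinv : ∀ a ∈ G, a⁻¹ ∈ G := fun a ha => by
    by_cases h0 : a = 0
    · simp [h0, zero_mem G]
    refine ⟨by rw [map_inv₀, ha.1], ?_⟩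
    convert neg_mem (htorus a⁻¹ (by rw [map_inv₀, ha.1]) (inv_ne_zero h0) _ ha.2) using 1
    ext p
    simp only [LinearMap.neg_apply, LinearMap.smul_apply, LinearMap.comp_apply, LinearMap.mulLeft_apply, hY,
      smul_eq_mul, mul_inv_cancel_left₀ h0, mul_sub, inv_mul_cancel_left₀ h0]
    ring
  have hw : e₂ / e₁ ∈ G := by
    refine ⟨by rw [map_div₀, he₁R, he₂R], ?_⟩
    have hB' := sub_mem (sub_mem (hH (e₁ + e₂) (by rw [map_add, he₁R, he₂R])
      (by rw [map_add, he₁, he₂, add_zero])) (hH e₁ he₁R he₁)) (hH e₂ he₂R he₂)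
    convert htorus e₁⁻¹ (by rw [map_inv₀, he₁R]) (inv_ne_zero he₁0') _ hB' using 1
    ext p
    simp only [LinearMap.sub_apply, LinearMap.add_apply, LinearMap.smul_apply, LinearMap.comp_apply,
      LinearMap.mulLeft_apply, hY, hT, smul_eq_mul, add_mul, map_add, mul_inv_cancel_left₀ he₁0',
      show e₂ * (e₁⁻¹ * p) = e₂ / e₁ * p by rw [div_eq_mul_inv]; ring]
    field_simp
    linear_combination (-(e₂ * ι (lam p))) * h2K
  let Gm : Submonoid K :=
    { carrier := G
      one_mem' := hG1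
      mul_mem' := fun {a b} (ha : a ∈ G) (hb : b ∈ G) => by
        show a * b ∈ G
        let sqm : G → G := fun c => ⟨(c : K) * 1 * c, ExtFieldSp.hua hG1 hGinv c.2 hG1⟩
        have hsur : Function.Surjective sqm := Finite.injective_iff_surjective.1 (fun c c' h => by
            have h' := congrArg Subtype.val h
            simp only [sqm, mul_one] at h'
            have : ((c : K) - c') * ((c : K) - c') = 0 := by linear_combination h' + ((c' : K) * c' - c * c') * h2K
            exact Subtype.ext (sub_eq_zero.1 (mul_self_eq_zero.1 this)))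
        obtain ⟨c, hc⟩ := hsur ⟨a, ha⟩
        have hc' : (c : K) * 1 * c = a := congrArg Subtype.val hc
        rw [← hc', mul_one, mul_right_comm]
        exact ExtFieldSp.hua hG1 hGinv c.2 hb }
  haveI := Subalgebra.isSimpleOrder_of_finrank_prime F K hL.geo.prime
  rcases eq_bot_or_eq_top (Algebra.adjoin F (G : Set K)) with h | h
  · exfalso
    apply he₂n
    have hw' : e₂ / e₁ ∈ Algebra.adjoin F (G : Set K) := Algebra.subset_adjoin hw
    rw [h] at hw'
    obtain ⟨s, hs'⟩ := Algebra.mem_bot.1 hw'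
    exact Submodule.mem_span_singleton.2 ⟨s, by rw [Algebra.smul_def, hs', div_mul_cancel₀ _ he₁0']⟩
  · have htop : Submodule.span F (G : Set K) = ⊤ := by
      refine eq_top_iff.2 fun x _ => ?_
      have hx : x ∈ Subalgebra.toSubmodule (Algebra.adjoin F (G : Set K)) := by rw [h]; trivial
      rw [Algebra.adjoin_eq_span] at hx
      exact Submodule.span_mono (Submonoid.closure_le.2 (le_refl (Gm : Set K))) hx
    have hall : ∀ x : K, ∀ θ : F, ι θ * x + bar (ι θ * x) ∈ G := by
      intro x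
      have hx : x ∈ Submodule.span F (G : Set K) := htop ▸ Submodule.mem_top
      induction hx using Submodule.span_induction with
      | mem y hy =>
        intro θ
        rw [map_mul, hι, hM.geo.bext, hy.1, ← add_mul, ← map_add]
        by_cases h0 : θ + σ θ = 0
        · rw [h0, map_zero, zero_mul]; exact zero_mem G
        · rw [hone _ (by rw [map_add, hM.geo.invol, add_comm]) h0, map_one, one_mul]; exact hy
      | zero => intro θ; rw [mul_zero, map_zero, add_zero]; exact zero_mem G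
      | add y z _ _ hy hz =>
        intro θ
        rw [mul_add, map_add bar, add_add_add_comm]
        exact add_mem (hy θ) (hz θ)
      | smul s y _ hy =>
        intro θ
        rw [Algebra.smul_def, ← mul_assoc, hι, ← map_mul]
        exact hy (θ * s)
    obtain ⟨t, ht⟩ : ∃ t : F, t + σ t = 1 := by
      obtain ⟨t, ht⟩ := hL.exists_theta
      exact ⟨lam t, by rw [← hL.lam_bar, ← map_add, ht, hL.one]⟩
    have he₁G := hall e₁ t
    rw [map_mul, hι, hM.geo.bext, he₁R, ← add_mul, ← map_add, ht, map_one, one_mul] at he₁G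
    have h3 : T e₁ ∈ E := by simpa using sub_mem (hH e₁ he₁R he₁) he₁G.2
    refine hfin e₁ 1 _ he₁0' one_ne_zero (by rw [map_one, hneg]) h3 fun p => ?_
    rw [hT, he₁R, one_mul, mul_comm]

end

theorem exists_root (hM : Hyp σ bar f M) (hL : Lift σ bar f lam B) :
    ∃ (u : V) (c : F), u ≠ 0 ∧ B u u = 0 ∧ c ≠ 0 ∧ σ c = -c ∧ Tr M f u c := by
  obtain ⟨v, g, hC⟩ := exists_config hM hL
  by_cases hs : f v (g v) = 0
  · exact case_zero hM hL hC hs
  · exact case_nonzero hM hL hC hs

end

end Cfsg.Agent.ExtFieldUnit74
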