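import Mathlib
import Cfsg.Agent.Lib.ExtFieldUnit74Root

/-!
From one unitary transvection at an isotropic vector of K to all of them.
-/

set_option autoImplicit false
set_option linter.unusedSectionVars false
set_option linter.style.haveILetI false

namespace Cfsg.Agent.ExtFieldUnit74

open Module
open Cfsg.Agent.ExtFieldMax (mul_apply' inv_apply' apply_inv' exists_dual_one)

noncomputable section

variable {F K V : Type*} [Field F] [Fintype F] [Field K] [Fintype K] [Algebra F K]
  [AddCommGroup V] [Module F V] [Module K V] [IsScalarTower F K V] [FiniteDimensional K V]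

variable {σ : F ≃+* F} {bar : K ≃+* K} {f : V → V → F} {lam : K →ₗ[F] F} {B : V → V → K}
  {M : Subgroup (V ≃ₗ[F] V)}

/-- All transvections at the isotropic vector `u` lie in `M`. -/
def Pt (M : Subgroup (V ≃ₗ[F] V)) (σ : F ≃+* F) (f : V → V → F) (u : V) : Prop :=
  f u u = 0 ∧ ∀ c, σ c = -c → Tr M f u c

section
variable (hM : Hyp σ bar f M) (hL : Lift σ bar f lam B)
include hM hL

theorem Tr.conj {u : V} {c : F} (h : Tr M f u c) {g : V ≃ₗ[F] V} (hg : g ∈ M) : Tr M f (g u) c := by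
  obtain ⟨t, ht, htx⟩ := h
  refine ⟨g * t * g⁻¹, mul_mem (mul_mem hg ht) (inv_mem hg), fun x => ?_⟩
  rw [mul_apply', mul_apply', htx, map_add, apply_inv', map_smul]
  conv_rhs => rw [← apply_inv' g x, hM.pres g hg, apply_inv']

theorem Tr.add {u : V} {a b : F} (hu : f u u = 0) (ha : Tr M f u a) (hb : Tr M f u b) :
    Tr M f u (a + b) := by
  obtain ⟨s, hs, hsx⟩ := ha
  obtain ⟨t, ht, htx⟩ := hb
  refine ⟨s * t, mul_mem hs ht, fun x => ?_⟩
  rw [mul_apply', htx, hsx, hM.geo.add_left, hM.geo.smul_left, hu, mul_zero, add_zero, add_mul, add_smul]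
  abel

theorem Tr.neg {u : V} {a : F} (hu : f u u = 0) (ha : Tr M f u a) : Tr M f u (-a) := by
  obtain ⟨t, ht, htx⟩ := ha
  refine ⟨t⁻¹, inv_mem ht, fun x => ?_⟩
  apply t.injective
  rw [apply_inv', htx, hM.geo.add_left, hM.geo.smul_left, hu, mul_zero, add_zero, neg_mul, neg_smul]
  abel

theorem Tr.of_smul {u : V} {c : F} (s : F) (h : Tr M f (s • u) c) : Tr M f u (c * (s * σ s)) := by
  obtain ⟨t, ht, htx⟩ := h
  refine ⟨t, ht, fun x => ?_⟩
  rw [htx, hM.geo.smul_right, smul_smul]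
  congr 2
  ring

theorem Tr.zero (u : V) : Tr M f u 0 := ⟨1, one_mem M, fun x => by simp⟩

theorem pt_of_tr {u : V} {c : F} (hu : B u u = 0) (hu0 : u ≠ 0) (hc : c ≠ 0) (hc' : σ c = -c)
    (h : Tr M f u c) : Pt M σ f u := by
  have huu : f u u = 0 := by rw [hL.f_eq, hu, map_zero]
  refine ⟨huu, fun c' hc'' => ?_⟩
  have hsq : ∀ a : F, σ a = a → Tr M f u (c * (a * a)) := by
    intro a ha
    by_cases ha0 : a = 0
    · rw [ha0, mul_zero, mul_zero]; exact Tr.zero hM hL u
    obtain ⟨g, hg, -, hgu⟩ := scale_real hM hL hu hu0 (k := algebraMap F K a) (by rw [hM.geo.bext, ha])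
      (by simpa using ha0)
    have h1 := Tr.conj hM hL h hg
    rw [hgu, algebraMap_smul] at h1
    have h2 := Tr.of_smul hM hL a h1
    rwa [ha] at h2
  obtain ⟨a, b, ha, hb, he⟩ := hL.exists_fix_scalar (t := c' / c) (by rw [map_div₀, hc'', hc', neg_div_neg_eq])
  rw [show c' = c * (a * a) + -(c * (b * b)) by rw [← sub_eq_add_neg, ← mul_sub, ← he, mul_div_cancel₀ _ hc]]
  exact Tr.add hM hL huu (hsq a ha) (Tr.neg hM hL huu (hsq b hb))

theorem Pt.conj {u : V} (h : Pt M σ f u) {g : V ≃ₗ[F] V} (hg : g ∈ M) : Pt M σ f (g u) :=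
  ⟨by rw [hM.pres g hg, h.1], fun c hc => Tr.conj hM hL (h.2 c hc) hg⟩

theorem Pt.smul {u : V} (h : Pt M σ f u) (s : F) : Pt M σ f (s • u) := by
  refine ⟨by rw [hM.geo.smul_left, hM.geo.smul_right, h.1, mul_zero, mul_zero], fun c hc => ?_⟩
  obtain ⟨t, ht, htx⟩ := h.2 (c * (s * σ s)) (by rw [map_mul, map_mul, hc, hM.geo.invol]; ring)
  refine ⟨t, ht, fun x => ?_⟩
  rw [htx, hM.geo.smul_right, smul_smul]
  congr 2
  ring

/-- Isotropic vectors of the plane of two non-orthogonal points. -/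
theorem Pt.secant {u w : V} (hu : Pt M σ f u) (hw : Pt M σ f w) (hne : f w u ≠ 0) {y : V} (α β : F)
    (hy : y = α • u + β • w) (hyy : f y y = 0) : Pt M σ f y := by
  by_cases hβ : β = 0
  · rw [hy, hβ, zero_smul, add_zero]; exact Pt.smul hM hL hu α
  set k := f w u with hk
  set γ := α / β with hγ
  have hα : α = β * γ := (mul_div_cancel₀ _ hβ).symm
  have hkσ : f u w = σ k := hM.geo.herm w u
  have h1 : γ * σ k + σ γ * k = 0 := by
    rw [hy, hα] at hyy
    simp only [hM.geo.add_left, hM.geo.smul_left, hM.geo.add_right, hM.geo.smul_right, hu.1, hw.1, hkσ, ← hk,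
      map_mul] at hyy
    have : β * σ β * (γ * σ k + σ γ * k) = 0 := by linear_combination hyy
    exact (mul_eq_zero.1 this).resolve_left (mul_ne_zero hβ (by simpa using hβ))
  have hσk : σ k ≠ 0 := by simpa using hne
  obtain ⟨t, ht, htx⟩ := hu.2 (γ / k) (by
    rw [map_div₀, neg_div', div_eq_div_iff hσk hne]
    linear_combination h1)
  have : y = β • t w := by
    rw [htx, div_mul_cancel₀ _ hne, hy, smul_add, smul_smul, ← hα, add_comm]
  rw [this]
  exact Pt.smul hM hL (Pt.conj hM hL hw ht) β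

theorem decomp2 (h2 : finrank K V = 2) {v v' : V} (hv : B v v = 0) (hv' : B v' v' = 0) (hvv' : B v v' = 1)
    (x : V) : x = B x v' • v + B x v • v' := by
  have hv'v : B v' v = 1 := by rw [hL.herm v v', hvv', map_one]
  have hli : LinearIndependent K ![v, v'] := by
    rw [LinearIndependent.pair_iff]
    intro s t hst
    have e1 : B (s • v + t • v') v = 0 := by rw [hst, hL.zero_left]
    have e2 : B (s • v + t • v') v' = 0 := by rw [hst, hL.zero_left]
    simp only [hL.add_left, hL.smul_left, hv, hv', hvv', hv'v, mul_zero, mul_one, zero_add, add_zero] at e1 e2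
    exact ⟨e2, e1⟩
  have hspan := hli.span_eq_top_of_card_eq_finrank (by rw [Fintype.card_fin, h2])
  have hx : x ∈ Submodule.span K {v, v'} := by
    rw [← Matrix.range_cons_cons_empty v v' ![], hspan]; trivial
  obtain ⟨p, q, rfl⟩ := Submodule.mem_span_pair.1 hx
  simp only [hL.add_left, hL.smul_left, hv, hv', hvv', hv'v, mul_zero, mul_one, zero_add, add_zero]

theorem norm_transitive (h2 : finrank K V = 2) {x x' : V} {n : K} (hn : n ≠ 0) (hx : B x x = n)
    (hx' : B x' x' = n) : ∃ h ∈ M, h x = x' := by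
  classical
  obtain ⟨v, hv0, hv⟩ := exists_iso_vec hM hL
  obtain ⟨v', hv', hvv'⟩ := exists_partner hM hL hv hv0
  have hv'v : B v' v = 1 := by rw [hL.herm v v', hvv', map_one]
  obtain ⟨θ, hθ⟩ := hL.exists_theta
  have hnr : bar n = n := by rw [← hx, hL.self_real]
  obtain ⟨ζ, hζ, hζ'⟩ := hL.exists_zeta
  have hζA := hL.zeta_inA (ζ := ζ) hζ'
  suffices key : ∀ y : V, B y y = n → ∃ h ∈ M, h y = v' + (θ * n) • v by
    obtain ⟨h, hh, e⟩ := key x hx
    obtain ⟨h', hh', e'⟩ := key x' hx'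
    exact ⟨h'⁻¹ * h, mul_mem (inv_mem hh') hh, by rw [mul_apply', e, ← e', inv_apply']⟩
  have hnorm : ∀ y, B y y = n → B y v' * bar (B y v) + B y v * bar (B y v') = n := fun y hy => by
    rw [← hy]
    conv_rhs => rw [decomp2 hM hL h2 hv hv' hvv' y]
    simp only [hL.add_left, hL.smul_left, hL.add_right, hL.smul_right, hv, hv', hvv', hv'v]
    ring
  have stage3 : ∀ y, B y y = n → B y v = 1 → ∃ h ∈ M, h y = v' + (θ * n) • v := by
    intro y hy hyv
    have h1 := hnorm y hy
    rw [hyv, map_one, mul_one, one_mul] at h1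
    obtain ⟨g, hg, -, hgx⟩ := exists_T hM hL v (θ * n - B y v') hv (by
      rw [map_sub, map_mul, hnr]
      linear_combination n * hθ - h1)
    refine ⟨g, hg, ?_⟩
    rw [hgx, hyv, mul_one]
    have hd := decomp2 hM hL h2 hv hv' hvv' y
    rw [hyv, one_smul] at hd
    nth_rewrite 1 [hd]
    rw [add_right_comm, ← add_smul]
    rw [add_sub_cancel, add_comm]
  have stage2 : ∀ y, B y y = n → bar (B y v) ≠ B y v → ∃ h ∈ M, h y = v' + (θ * n) • v := by
    intro y hy hb
    set a := B y v' with ha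
    set b := B y v with hb'
    have h1 := hnorm y hy
    have hbb : b - bar b ≠ 0 := sub_ne_zero.2 (Ne.symm hb)
    set t := (n - a - bar a) / (b - bar b) with ht
    have htA : bar t = -t := by
      rw [ht, map_div₀, map_sub, map_sub, map_sub, hnr, hM.geo.binvol, hM.geo.binvol, ← neg_sub b (bar b), div_neg]
      ring
    have ht' : t * (b - bar b) = n - a - bar a := div_mul_cancel₀ _ hbb
    obtain ⟨g, hg, -, hgx⟩ := exists_T hM hL v t hv htA
    have hgy : B (g y) (g y) = n := by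
      rw [hgx]
      simp only [hL.add_left, hL.smul_left, hL.add_right, hL.smul_right, hv, hy, ← hb',
        hL.herm y v, map_mul, htA]
      ring
    have hgv : B (g y) v = b := by rw [hgx, hL.add_left, hL.smul_left, hv, mul_zero, add_zero]
    have hga : B (g y) v' = a + t * b := by rw [hgx, hL.add_left, hL.smul_left, hvv', mul_one, ← hb', ← ha]
    have h1' := hnorm (g y) hgy
    rw [hgv, hga, map_add, map_mul, htA] at h1'
    have ha'0 : a + t * b ≠ 0 := fun h => hn (by
      rw [← h1', h, zero_mul, show bar a + -t * bar b = bar (a + t * b) by rw [map_add, map_mul, htA], h,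
        map_zero, mul_zero, add_zero])
    set s := (1 - b) / (a + t * b) with hs
    have hs' : s * (a + t * b) = 1 - b := div_mul_cancel₀ _ ha'0
    have hsA : bar s = -s := by
      have hE : bar (a + t * b) = bar a + -t * bar b := by rw [map_add, map_mul, htA]
      have hbne : bar a + -t * bar b ≠ 0 := hE ▸ (map_ne_zero bar).2 ha'0
      rw [hs, map_div₀, map_sub, map_one, hE, div_eq_iff hbne, neg_mul (_ / _), div_mul_eq_mul_div, ← neg_div,
        eq_div_iff ha'0]
      linear_combination -h1' + ht'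
    obtain ⟨g', hg', -, hgx'⟩ := exists_T hM hL v' s hv' hsA
    obtain ⟨h, hh, he⟩ := stage3 (g' (g y)) (by
        rw [hgx']
        simp only [hL.add_left, hL.smul_left, hL.add_right, hL.smul_right, hv', hgy,
          hL.herm (g y) v', map_mul, hsA]
        ring)
      (by rw [hgx', hL.add_left, hL.smul_left, hv'v, mul_one, hgv, hga, hs', add_sub_cancel])
    exact ⟨h * (g' * g), mul_mem hh (mul_mem hg' hg), by rw [mul_apply', mul_apply', he]⟩
  intro y hy
  by_cases hb : bar (B y v) = B y v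
  swap
  · exact stage2 y hy hb
  have h1 := hnorm y hy
  rw [hb] at h1
  have hsum : B y v' + bar (B y v') ≠ 0 := fun h => hn (by linear_combination (B y v) * h - h1)
  obtain ⟨g, hg, -, hgx⟩ := exists_T hM hL v' (algebraMap F K ζ) hv' hζA
  obtain ⟨h, hh, he⟩ := stage2 (g y) (by
      rw [hgx]
      simp only [hL.add_left, hL.smul_left, hL.add_right, hL.smul_right, hv', hy,
        hL.herm y v', map_mul, hζA]
      ring)
    (by
      rw [hgx, hL.add_left, hL.smul_left, hv'v, mul_one, map_add, map_mul, hζA, hb]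
      intro heq
      have h3 : algebraMap F K ζ * (B y v' + bar (B y v')) = 0 := by linear_combination -heq
      rcases mul_eq_zero.1 h3 with h4 | h4
      · exact hζ (by simpa using h4)
      · exact hsum h4)
  exact ⟨h * g, mul_mem hh hg, by rw [mul_apply', he]⟩

/-- A multiplier of an isotropic vector outside the product of F and the fixed field. -/
theorem exists_mult (h2 : finrank K V = 2) {v : V} (hv : B v v = 0) (hv0 : v ≠ 0) :
    ∃ z : K, z ≠ 0 ∧ (∃ h ∈ M, h v = z • v) ∧ ∀ (a : F) (p : K), bar p = p → z ≠ algebraMap F K a * p := by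
  classical
  obtain ⟨v', hv', hvv'⟩ := exists_partner hM hL hv hv0
  have hv'v : B v' v = 1 := by rw [hL.herm v v', hvv', map_one]
  obtain ⟨Q, hQ1, hcard, hQF, hbar⟩ := hL.exists_Q
  obtain ⟨q, hq⟩ := hM.geo.sq
  have hq2 : 2 ≤ q := by
    by_contra hlt
    have h1 := Fintype.one_lt_card (α := F)
    rw [hq] at h1
    interval_cases q <;> simp at h1
  set r := finrank F K with hr
  have hQ : Q = q ^ r := Nat.pow_left_injective (n := 2) (by norm_num) (by
    show Q ^ 2 = (q ^ r) ^ 2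
    rw [hQF, hq, ← pow_mul, ← pow_mul, mul_comm])
  obtain ⟨g, hg⟩ := IsCyclic.exists_generator (α := Kˣ)
  have hord : orderOf g = Q ^ 2 - 1 := by
    rw [orderOf_eq_card_of_forall_mem_zpowers hg, Nat.card_units, Nat.card_eq_fintype_card, hcard]
  set c : K := ((g ^ (q + 1) : Kˣ) : K)⁻¹ with hc
  have hg0 : (g : K) ≠ 0 := g.ne_zero
  have hc0 : c ≠ 0 := by simp [hc]
  have hQ1' : 1 ≤ Q := hQ1.le
  have hy : c * (bar c)⁻¹ = ((g ^ ((q + 1) * (Q - 1)) : Kˣ) : K) := by
    rw [hbar, hc, inv_pow, inv_inv, Units.val_pow_eq_pow_val, Units.val_pow_eq_pow_val, ← pow_mul, inv_mul_eq_div,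
      div_eq_iff (pow_ne_zero _ hg0), ← pow_add]
    congr 1
    conv_lhs => rw [← Nat.sub_add_cancel hQ1']
    ring
  refine ⟨c, hc0, ?_, ?_⟩
  · have hdvd : q ^ 2 - 1 ∣ Q ^ 2 - 1 := by
      have := Nat.sub_dvd_pow_sub_pow (q ^ 2) 1 r
      rwa [one_pow, ← pow_mul, mul_comm, pow_mul, ← hQ] at this
    have hdvd1 : q - 1 ∣ Q - 1 := by
      have := Nat.sub_dvd_pow_sub_pow q 1 r
      rwa [one_pow, ← hQ] at this
    have hnorm : Algebra.norm F (c * (bar c)⁻¹) = 1 := by
      apply (algebraMap F K).injective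
      rw [FiniteField.algebraMap_norm_eq_pow, map_one, hy, Units.val_pow_eq_pow_val, ← pow_mul,
        Nat.card_eq_fintype_card, Nat.card_eq_fintype_card, hcard, hq]
      obtain ⟨S, hS⟩ := hdvd1
      obtain ⟨N, hN⟩ := hdvd
      have hpos : 0 < q ^ 2 - 1 := by
        have : 4 ≤ q ^ 2 := by nlinarith
        omega
      rw [hN, Nat.mul_div_cancel_left _ hpos,
        show (q + 1) * (Q - 1) * N = (Q ^ 2 - 1) * S by
          have h2 : q ^ 2 - 1 = (q + 1) * (q - 1) := by rw [← Nat.sq_sub_sq, one_pow]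
          rw [hN, hS, h2]
          ring,
        pow_mul, ← Units.val_pow_eq_pow_val, ← hord, pow_orderOf_eq_one, Units.val_one, one_pow]
    let T : V →ₗ[K] V := (LinearMap.toSpanSingleton K V (c • v)).comp (hL.Bl v') +
      (LinearMap.toSpanSingleton K V ((bar c)⁻¹ • v')).comp (hL.Bl v)
    have hT : ∀ x, T x = (B x v' * c) • v + (B x v * (bar c)⁻¹) • v' := fun x => by
      show B x v' • c • v + B x v • (bar c)⁻¹ • v' = _
      rw [smul_smul, smul_smul]
    have hbc : bar c ≠ 0 := by simpa using hc0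
    have hTv : T v = c • v := by rw [hT, hvv', hv, one_mul, zero_mul, zero_smul, add_zero]
    have hTv' : T v' = (bar c)⁻¹ • v' := by rw [hT, hv', hv'v, one_mul, zero_mul, zero_smul, zero_add]
    have hiso : ∀ x y, B (T x) (T y) = B x y := fun x y => by
      conv_rhs => rw [decomp2 hM hL h2 hv hv' hvv' x, decomp2 hM hL h2 hv hv' hvv' y]
      simp only [hT, hL.add_left, hL.smul_left, hL.add_right, hL.smul_right, hv, hv', hvv', hv'v, map_mul,
        map_inv₀, hM.geo.binvol]
      field_simp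
      ring
    have hli : LinearIndependent K ![v, v'] := by
      rw [LinearIndependent.pair_iff]
      intro s t hst
      have e1 : B (s • v + t • v') v = 0 := by rw [hst, hL.zero_left]
      have e2 : B (s • v + t • v') v' = 0 := by rw [hst, hL.zero_left]
      simp only [hL.add_left, hL.smul_left, hv, hv', hvv', hv'v, mul_zero, mul_one, zero_add, add_zero] at e1 e2
      exact ⟨e2, e1⟩
    let b := basisOfLinearIndependentOfCardEqFinrank hli (by rw [Fintype.card_fin, h2])
    have hb0 : b 0 = v := by simp [b]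
    have hb1 : b 1 = v' := by simp [b]
    have hdet : LinearMap.det T = c * (bar c)⁻¹ := by
      have e0 : T (b 0) = c • b 0 := by rw [hb0, hTv]
      have e1 : T (b 1) = (bar c)⁻¹ • b 1 := by rw [hb1, hTv']
      rw [← LinearMap.det_toMatrix b, Matrix.det_fin_two]
      simp [LinearMap.toMatrix_apply, e0, e1]
    obtain ⟨h, hh, -, hhx⟩ := exists_lin hM hL T hiso (by rw [hdet, hnorm])
    exact ⟨h, hh, by rw [hhx, hTv]⟩
  · intro a p hp hcap
    have ha0 : a ≠ 0 := fun h => hc0 (by rw [hcap, h, map_zero, zero_mul])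
    have hp0 : p ≠ 0 := fun h => hc0 (by rw [hcap, h, mul_zero])
    have h1 : c * (bar c)⁻¹ = algebraMap F K (a / σ a) := by
      rw [hcap, map_mul, hp, hM.geo.bext, map_div₀]
      have : algebraMap F K (σ a) ≠ 0 := by simpa using ha0
      field_simp
    have h3 : (a / σ a) ^ (q ^ 2 - 1) = 1 := by
      rw [← hq]; exact FiniteField.pow_card_sub_one_eq_one _ (div_ne_zero ha0 (by simpa using ha0))
    have h4 : g ^ ((q + 1) * (Q - 1) * (q ^ 2 - 1)) = 1 := by
      ext
      rw [Units.val_one, Units.val_pow_eq_pow_val, pow_mul, ← Units.val_pow_eq_pow_val, ← hy, h1, ← map_pow, h3,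
        map_one]
    rw [← orderOf_dvd_iff_pow_eq_one, hord] at h4
    have h5 : (Q - 1) * (Q + 1) ∣ (Q - 1) * ((q + 1) * (q ^ 2 - 1)) := by
      have e : Q ^ 2 - 1 = (Q - 1) * (Q + 1) := by
        rw [show Q ^ 2 - 1 = Q ^ 2 - 1 ^ 2 by rw [one_pow], Nat.sq_sub_sq, mul_comm]
      rw [← e]
      convert h4 using 1
      ring
    have h6 := (Nat.mul_dvd_mul_iff_left (by omega)).1 h5
    have hr3 : r = 3 ∨ 5 ≤ r := by
      have h7 := hM.geo.prime.two_le
      have h8 := hM.geo.odd
      rcases Nat.lt_or_ge r 5 with hlt | hge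
      · left
        rcases (show r = 3 ∨ r = 4 by omega) with h | h
        · exact h
        · exfalso; rw [hr] at h; exact absurd (h ▸ hM.geo.prime) (by norm_num)
      · exact Or.inr hge
    have hpos : 0 < q ^ 2 - 1 := by
      have : 4 ≤ q ^ 2 := by nlinarith
      omega
    rcases hr3 with h7 | h7
    · have hne : q ≠ 2 := fun h => hM.geo.small h2 h7 (by rw [hq, h]; norm_num)
      have hfac : Q + 1 = (q + 1) * (q ^ 2 - q + 1) := by
        have : q ≤ q ^ 2 := by nlinarith
        rw [hQ, h7]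
        zify [this]
        ring
      rw [hfac] at h6
      have h8 := (Nat.mul_dvd_mul_iff_left (by omega)).1 h6
      obtain ⟨k, hk⟩ := h8
      have hqq : q * q = q ^ 2 := (sq q).symm
      have hlt : q + q < q ^ 2 := by nlinarith [show 3 ≤ q by omega]
      rcases Nat.lt_or_ge k 2 with hk2 | hk2
      · interval_cases k <;> omega
      · have := Nat.mul_le_mul_left (q ^ 2 - q + 1) hk2
        omega
    · have h8 := Nat.le_of_dvd (Nat.mul_pos (by omega) hpos) h6
      have h9 : q ^ 5 ≤ Q := by rw [hQ]; exact Nat.pow_le_pow_right (by omega) h7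
      have h10 : (q + 1) * (q ^ 2 - 1) ≤ q ^ 5 := by
        calc (q + 1) * (q ^ 2 - 1) ≤ q ^ 3 * q ^ 2 := Nat.mul_le_mul (by nlinarith) (Nat.sub_le _ _)
          _ = q ^ 5 := by ring
      omega

theorem exists_real_pick {κ₁ κ₂ : K} (h₁ : κ₁ ≠ 0) (h₂ : κ₂ ≠ 0) :
    ∃ p : K, bar p = p ∧ lam (p * κ₁) ≠ 0 ∧ lam (p * κ₂) ≠ 0 := by
  have one : ∀ κ : K, κ ≠ 0 → ∃ p : K, bar p = p ∧ lam (p * κ) ≠ 0 := by
    intro κ hκ
    by_contra hcon
    push Not at hcon
    obtain ⟨a₀, ha₀⟩ := hM.geo.ne_refl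
    obtain ⟨p, q, hp, hq, hc⟩ := hL.exists_decomp ha₀ κ⁻¹
    have := congrArg (fun c => lam (c * κ)) hc
    try simp only at this
    rw [inv_mul_cancel₀ hκ, hL.one, add_mul, map_add, hcon p hp, mul_assoc, hL.lam_smul, hcon q hq, mul_zero,
      add_zero] at this
    exact one_ne_zero this
  obtain ⟨p₁, hp₁, e₁⟩ := one κ₁ h₁
  obtain ⟨p₂, hp₂, e₂⟩ := one κ₂ h₂
  by_cases h12 : lam (p₁ * κ₂) ≠ 0
  · exact ⟨p₁, hp₁, e₁, h12⟩
  by_cases h21 : lam (p₂ * κ₁) ≠ 0
  · exact ⟨p₂, hp₂, h21, e₂⟩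
  push Not at h12 h21
  exact ⟨p₁ + p₂, by rw [map_add, hp₁, hp₂], by rw [add_mul, map_add, h21, add_zero]; exact e₁,
    by rw [add_mul, map_add, h12, zero_add]; exact e₂⟩

/-- Some point is not isotropic over K. -/
theorem exists_aniso_pt (h2 : finrank K V = 2) {v : V} (hv : B v v = 0) (hv0 : v ≠ 0) (hP : Pt M σ f v) :
    ∃ x, Pt M σ f x ∧ B x x ≠ 0 := by
  classical
  by_contra hcon
  push Not at hcon
  obtain ⟨ζ, hζ, hζ'⟩ := hL.exists_zeta
  obtain ⟨v', hv', hvv'⟩ := exists_partner hM hL hv hv0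
  have hv'v : B v' v = 1 := by rw [hL.herm v v', hvv', map_one]
  have hv'0 : v' ≠ 0 := fun h => by rw [h, hL.zero_right] at hvv'; exact zero_ne_one hvv'
  obtain ⟨h, hh, -, e, he, hhe⟩ := exists_transitive hM hL hv hv' hv0 hv'0
  have hPe : Pt M σ f (e • v') := hhe ▸ Pt.conj hM hL hP hh
  obtain ⟨z, hz0, ⟨hz, hhz, hzv⟩, hzn⟩ := exists_mult hM hL h2 hv hv0
  have hbe : bar e ≠ 0 := by simpa using he
  obtain ⟨p, hp, hp1, hp2⟩ := exists_real_pick hM hL (κ₁ := bar e) (κ₂ := z * bar e) hbe (mul_ne_zero hz0 hbe)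
  have hp0 : p ≠ 0 := fun h => hp1 (by rw [h, zero_mul, map_zero])
  have hreal : ∀ c : K, Pt M σ f (c • v) → lam (c * bar e) ≠ 0 →
      bar (algebraMap F K (σ (lam (c * bar e))) * (c * bar e)) =
        algebraMap F K (σ (lam (c * bar e))) * (c * bar e) := by
    intro c hc hne
    set κ := c * bar e with hκ
    have hBuw : B (c • v) (e • v') = κ := by rw [hL.smul_left, hL.smul_right, hvv', mul_one]
    have hBwu : B (e • v') (c • v) = bar κ := by rw [hL.herm (c • v) (e • v'), hBuw]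
    have hk : f (e • v') (c • v) = σ (lam κ) := by rw [hL.f_eq, hBwu, hL.lam_bar]
    set γ := ζ * σ (lam κ) with hγ
    have hyy : f (γ • (c • v) + (1 : F) • (e • v')) (γ • (c • v) + (1 : F) • (e • v')) = 0 := by
      simp only [hM.geo.add_left, hM.geo.smul_left, hM.geo.add_right, hM.geo.smul_right, hc.1, hPe.1, hk,
        map_one, hM.geo.herm (e • v') (c • v), hγ, map_mul, hζ', hM.geo.invol]
      ring
    have hB := hcon _ (Pt.secant hM hL hc hPe (by rw [hk]; simpa using hne) γ 1 rfl hyy)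
    rw [one_smul, ← algebraMap_smul K γ (c • v)] at hB
    generalize hu : c • v = u at hB
    generalize hw : e • v' = w at hB
    have huu : B u u = 0 := by rw [← hu, hL.smul_left, hL.smul_right, hv, mul_zero, mul_zero]
    have hww : B w w = 0 := by rw [← hw, hL.smul_left, hL.smul_right, hv', mul_zero, mul_zero]
    rw [hu, hw] at hBuw hBwu
    simp only [hL.add_left, hL.smul_left, hL.add_right, hL.smul_right, huu, hBuw, hBwu, hww,
      hM.geo.bext, hγ, map_mul, hζ', map_neg, hM.geo.invol] at hB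
    have h3 : algebraMap F K ζ * (algebraMap F K (σ (lam κ)) * κ - algebraMap F K (lam κ) * bar κ) = 0 := by
      linear_combination hB
    rw [map_mul, hM.geo.bext, hM.geo.invol]
    exact (sub_eq_zero.1 ((mul_eq_zero.1 h3).resolve_left (by simpa using hζ))).symm
  obtain ⟨hr, hhr, -, hrv⟩ := scale_real hM hL hv hv0 hp hp0
  have hP1 : Pt M σ f (p • v) := hrv ▸ Pt.conj hM hL hP hhr
  obtain ⟨hr', hhr', hl', hrv'⟩ := scale_real hM hL hv hv0 hp hp0
  have hP2 : Pt M σ f ((p * z) • v) := by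
    have := Pt.conj hM hL (hzv ▸ Pt.conj hM hL hP hhz) hhr'
    rwa [hl', hrv', smul_smul, mul_comm] at this
  rw [← mul_assoc] at hp2
  have R1 := hreal p hP1 hp1
  have R2 := hreal (p * z) hP2 hp2
  set l1 := lam (p * bar e) with hl1
  set l2 := lam (p * z * bar e) with hl2
  set A1 := algebraMap F K (σ l1) * (p * bar e) with hA1
  set A2 := algebraMap F K (σ l2) * (p * z * bar e) with hA2
  refine hzn (σ l1 / σ l2) (A2 / A1) (by rw [map_div₀, R2, R1]) ?_
  have e1 : algebraMap F K (σ l1) ≠ 0 := by simpa using hp1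
  have e2 : algebraMap F K (σ l2) ≠ 0 := by simpa using hp2
  rw [map_div₀, hA1, hA2]
  field_simp

/-- Every isotropic vector of K is a point. -/
theorem pt_iso {w : V} (hw : B w w = 0) : Pt M σ f w := by
  classical
  by_cases hw0 : w = 0
  · subst hw0
    exact ⟨hM.geo.zero_left 0, fun c hc => ⟨1, one_mem M, fun x => by simp⟩⟩
  obtain ⟨u, c, hu0, hu, hc, hc', hT⟩ := exists_root hM hL
  have hP := pt_of_tr hM hL hu hu0 hc hc' hT
  obtain ⟨h, hh, hl, e, he, hhe⟩ := exists_transitive hM hL hu hw hu0 hw0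
  have hPe : Pt M σ f (e • w) := hhe ▸ Pt.conj hM hL hP hh
  rcases hM.geo.dim with h2 | h3
  swap
  · obtain ⟨h', hh', hl', hh'w⟩ := scale_any hM hL h3 hw hw0 (inv_ne_zero he)
    have := Pt.conj hM hL hPe hh'
    rwa [hl', hh'w, smul_smul, mul_inv_cancel₀ he, one_smul] at this
  obtain ⟨x, hx, hxn⟩ := exists_aniso_pt hM hL h2 hu hu0 hP
  set n := B x x with hn
  obtain ⟨w', hw', hww'⟩ := exists_partner hM hL hw hw0
  have hw'w : B w' w = 1 := by rw [hL.herm w w', hww', map_one]
  obtain ⟨ζ, hζ, hζ'⟩ := hL.exists_zeta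
  have hζA := hL.zeta_inA (ζ := ζ) hζ'
  have hζK : algebraMap F K ζ ≠ 0 := by simpa using hζ
  obtain ⟨t, ht⟩ := hL.exists_theta
  set p := t * n / algebraMap F K ζ with hp
  have hnr : bar n = n := hL.self_real x
  have hpζ : p * algebraMap F K ζ = t * n := div_mul_cancel₀ _ hζK
  have hpζ' := congrArg bar hpζ
  rw [map_mul, map_mul, hζA, hnr] at hpζ'
  set x₁ := p • w - algebraMap F K ζ • w' with hx₁
  have hwx : B w x₁ = algebraMap F K ζ := by
    rw [hx₁, hL.sub_right, hL.smul_right, hL.smul_right, hw, hww', hζA]; ring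
  have hxw : B x₁ w = -algebraMap F K ζ := by rw [hL.herm w x₁, hwx, hζA]
  have hx₁n : B x₁ x₁ = n := by
    simp only [hx₁, hL.sub_left, hL.sub_right, hL.smul_left, hL.smul_right, hw, hw', hww', hw'w, hζA]
    linear_combination hpζ + hpζ' + n * ht
  have hx₂n : B (x₁ + w) (x₁ + w) = n := by
    rw [hL.add_left, hL.add_right, hL.add_right, hx₁n, hw, hxw, hwx]; ring
  obtain ⟨g₁, hg₁, e₁⟩ := norm_transitive hM hL h2 hxn rfl hx₁n
  obtain ⟨g₂, hg₂, e₂⟩ := norm_transitive hM hL h2 hxn rfl hx₂n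
  have hP1 : Pt M σ f x₁ := e₁ ▸ Pt.conj hM hL hx hg₁
  have hP2 : Pt M σ f (x₁ + w) := e₂ ▸ Pt.conj hM hL hx hg₂
  refine Pt.secant hM hL hP1 hP2 ?_ (-1) 1 (by rw [neg_smul, one_smul, one_smul]; abel) (by rw [hL.f_eq, hw, map_zero])
  rw [hM.geo.add_left, hP1.1, zero_add, hL.f_eq, hwx, hL.lam_algebraMap]
  exact hζ

/-- All unitary transvections over F. -/
theorem all_pt {x : V} (hx : f x x = 0) : Pt M σ f x := by
  by_cases hxx : B x x = 0
  · exact pt_iso hM hL hxx
  have hx0 : x ≠ 0 := fun h => hxx (by rw [h, hL.zero_left])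
  obtain ⟨v, hv, hxv⟩ := exists_iso_off hM hL hx0
  have hvx : B v x = 1 := by rw [hL.herm x v, hxv, map_one]
  obtain ⟨ζ, hζ, hζ'⟩ := hL.exists_zeta
  obtain ⟨t, ht⟩ : ∃ t : F, t + σ t = 1 := by
    obtain ⟨t, ht⟩ := hL.exists_theta
    exact ⟨lam t, by rw [← hL.lam_bar, ← map_add, ht, hL.one]⟩
  set Y := algebraMap F K t * B x x + algebraMap F K ζ with hY
  have hYY : Y + bar Y = B x x := by
    rw [hY, map_add, map_mul, hM.geo.bext, hL.self_real, hL.zeta_inA hζ', add_add_add_comm, add_neg_cancel,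
      add_zero, ← add_mul, ← map_add, ht, map_one, one_mul]
  have hlY : lam Y = ζ := by
    rw [hY, map_add, hL.lam_smul, hL.lam_algebraMap, ← hL.f_eq, hx, mul_zero, zero_add]
  have hu : B (Y • v) (Y • v) = 0 := by rw [hL.smul_left, hL.smul_right, hv, mul_zero, mul_zero]
  have hv' : B (x - Y • v) (x - Y • v) = 0 := by
    rw [hL.sub_left, hL.sub_right, hL.sub_right, hu, hL.smul_right, hL.smul_left Y v x, hxv, hvx]
    linear_combination -hYY
  refine Pt.secant hM hL (pt_iso hM hL hu) (pt_iso hM hL hv') ?_ 1 1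
    (by rw [one_smul, one_smul, add_sub_cancel]) hx
  rw [hL.f_eq, hL.sub_left, hu, sub_zero, hL.smul_right, hxv, mul_one, hL.lam_bar, hlY, hζ']
  exact neg_ne_zero.2 hζ

end

/-- A group containing the K-linear special isometries and not preserving the K-structure contains all
unitary transvections. -/
theorem all_transvections (hM : Hyp σ bar f M) {x : V} (hx : f x x = 0) {c : F} (hc : σ c = -c) :
    ∃ t ∈ M, ∀ y, t y = y + (c * f y x) • x := by
  obtain ⟨lam, B, hL⟩ := hM.geo.exists_lift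
  exact (all_pt hM hL hx).2 c hc

end

end Cfsg.Agent.ExtFieldUnit74
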