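import Cfsg.Prelude.Def_GeometricClasses
import Cfsg.Prelude.Def_LieClassical
import Cfsg.Agent.Lib.ExtFieldUnit74Spread
import Cfsg.Agent.Lib.TransvectionUnitaryGen
import Cfsg.Agent.Lib.ExtFieldGU22Glue

/-!
The normaliser of an adjoint-closed subfield of odd prime degree of the matrix algebra is maximal in the
special unitary group.
-/

set_option autoImplicit false
set_option linter.style.haveILetI false
set_option maxHeartbeats 1600000
set_option synthInstance.maxHeartbeats 400000

namespace Cfsg.Agent.ExtFieldUnit74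

open Cfsg
open scoped Matrix MatrixGroups
open TransvectionMax (ft)

theorem extField_maximal' {F : Type*} [Field F] [Fintype F] {q n r : ℕ} (hF : Fintype.card F = q ^ 2)
    (hr : r.Prime) (hr2 : r ≠ 2) (hn : ∃ d, n = r * d ∧ 2 ≤ d)
    (hsmall : n = 6 → r = 3 → 3 ≤ q) (K : Subalgebra F (Matrix (Fin n) (Fin n) F))
    (hK : Cfsg.Geo.IsFieldSubalgebra r K) (hA : Cfsg.Geo.IsAdjointClosedFor (Cfsg.hermForm n F q) K) :
    Cfsg.Geo.IsMaximalIn (Cfsg.GU n F q ⊓ Cfsg.Geo.specialLinear (Fin n) F)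
      (Cfsg.Geo.subalgebraNormalizer K ⊓ (Cfsg.GU n F q ⊓ Cfsg.Geo.specialLinear (Fin n) F)) := by
  classical
  obtain ⟨σ, hσq, hf⟩ := TransvectionUnitaryGen.herm_isUnitaryForm (n := n) hF
  obtain ⟨d, hnd, hd⟩ := hn
  letI : CommRing K :=
    { (inferInstance : Ring K) with mul_comm := fun x y => Subtype.ext (hK.comm _ x.2 _ y.2) }
  have hn0 : 0 < n := by rw [hnd]; exact Nat.mul_pos hr.pos (by omega)
  haveI : Nonempty (Fin n) := ⟨⟨0, hn0⟩⟩
  have hfld : IsField K := by
    refine ⟨⟨0, 1, zero_ne_one⟩, mul_comm, fun {x} hx => ?_⟩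
    obtain ⟨y, hy, hxy⟩ := hK.inv x x.2 (fun h => hx (Subtype.ext h))
    exact ⟨⟨y, hy⟩, Subtype.ext hxy⟩
  letI : Field K := hfld.toField
  haveI : Finite K := Subtype.finite
  letI : Fintype K := Fintype.ofFinite K
  have hsmul : ∀ (e : K) (x : Fin n → F), e • x = (e : Matrix (Fin n) (Fin n) F) *ᵥ x :=
    fun e x => rfl
  haveI : IsScalarTower F K (Fin n → F) := ⟨fun c e x => by
    rw [hsmul, hsmul, Subalgebra.coe_smul, Matrix.smul_mulVec]⟩
  haveI : FiniteDimensional K (Fin n → F) := Module.Finite.of_restrictScalars_finite F K _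
  set f := Cfsg.hermForm n F q with hfdef
  have hfr : ∀ (a : F) x y, f x (a • y) = σ a * f x y := fun a x y => by
    rw [hf.herm x (a • y), hf.smul_left, map_mul, ← hf.herm]
  have hfsub : ∀ x y z, f x (y - z) = f x y - f x z := fun x y z => by
    rw [hf.herm x (y - z), show f (y - z) x = f y x - f z x from
      eq_sub_of_add_eq (by rw [← hf.add_left, sub_add_cancel]), map_sub, ← hf.herm, ← hf.herm]
  have huniq : ∀ a b : K, (∀ u v, f u (a • v) = f u (b • v)) → a = b := by
    intro a b h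
    apply Subtype.ext
    apply Matrix.ext_iff_mulVec.mpr
    intro v
    rw [← hsmul, ← hsmul, ← sub_eq_zero]
    by_contra hne
    obtain ⟨⟨x, hx⟩, -⟩ := hf.nondegenerate _ hne
    exact hx (by rw [hfsub, h, sub_self])
  choose bfun hbmem hb using fun k : K => hA k k.2
  let bar' : K → K := fun k => ⟨bfun k, hbmem k⟩
  have hadj : ∀ (k : K) u v, f (k • u) v = f u (bar' k • v) := fun k u v => by
    rw [hsmul, hsmul]; exact hb k u v
  have hinv : ∀ k, bar' (bar' k) = k := fun k => huniq _ _ fun u v => by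
    rw [← hadj, hf.herm (bar' k • u) v, ← hadj, ← hf.herm]
  let bar : K ≃+* K :=
    { toFun := bar'
      invFun := bar'
      left_inv := hinv
      right_inv := hinv
      map_mul' := fun a b => huniq _ _ fun u v => by
        rw [← hadj, mul_comm a b, mul_smul, hadj, hadj, ← mul_smul, mul_comm (bar' a)]
      map_add' := fun a b => huniq _ _ fun u v => by
        rw [← hadj, add_smul, hf.add_left, hadj, hadj, add_smul, hf.herm u (bar' a • v + bar' b • v), hf.add_left,
          map_add, ← hf.herm, ← hf.herm] }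
  have hrank : r * Module.finrank K (Fin n → F) = n := by
    have h := Module.finrank_mul_finrank F K (Fin n → F)
    rwa [show Module.finrank F K = r from hK.finrank_eq, Module.finrank_fintype_fun_eq_card,
      Fintype.card_fin] at h
  have hdimd : Module.finrank K (Fin n → F) = d :=
    Nat.eq_of_mul_eq_mul_left hr.pos (hrank.trans hnd)
  have hfrK : Module.finrank F K = r := hK.finrank_eq
  have hGeo : Geo σ bar f := by
    refine ⟨?_, hf.involutive, hinv, fun a => huniq _ _ fun u v => ?_, by rw [hfrK]; exact hr,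
      by rw [hfrK]; exact hr2, by rw [hdimd]; omega, fun h2 h3 h4 => ?_, ⟨q, hF⟩, hf.add_left, hf.smul_left,
      fun x y => hf.herm y x, hadj, fun x hx => ?_⟩
    · by_contra hcon
      push Not at hcon
      exact hf.ne_refl (RingEquiv.ext hcon)
    · show f u (bar' (algebraMap F K a) • v) = _
      rw [← hadj, algebraMap_smul, algebraMap_smul, hf.smul_left, hfr, hf.involutive]
    · rw [hdimd] at h2
      rw [hfrK] at h3
      have h5 := hsmall (by rw [hnd, h2, h3]) h3
      rw [hF] at h4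
      nlinarith
    · by_contra hne
      obtain ⟨-, y, hy⟩ := hf.nondegenerate x hne
      exact hy (hx y)
  obtain ⟨lam, B, hL⟩ := hGeo.exists_lift
  have hft : ∀ b c, f b b = 0 → σ c = -c →
      ft f b (σ c • b) ∈ Cfsg.GU n F q ⊓ Cfsg.Geo.specialLinear (Fin n) F := fun b c hb hc => by
    obtain ⟨h1, h2, -⟩ := TransvectionUnitaryGen.transGroup_props hf
      (TransvectionUnitaryGen.ut_mem hf (U := ⊤) trivial hb hc)
    exact ⟨h1, h2⟩
  -- some transvection is outside the normaliser
  have hwit : ¬ Cfsg.GU n F q ⊓ Cfsg.Geo.specialLinear (Fin n) F ≤ Cfsg.Geo.subalgebraNormalizer K := by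
    intro hle
    obtain ⟨u, hu0, hu⟩ : ∃ u : Fin n → F, u ≠ 0 ∧ B u u = 0 := by
      haveI : Nontrivial (Fin n → F) := inferInstance
      obtain ⟨x, hx⟩ := exists_ne (0 : Fin n → F)
      by_cases hxx : B x x = 0
      · exact ⟨x, hx, hxx⟩
      obtain ⟨y, hy, hy0⟩ := (Submodule.ne_bot_iff (LinearMap.ker (hL.Bl x))).1 (fun h => by
        have h1 := LinearMap.finrank_range_add_finrank_ker (hL.Bl x)
        have h2 := Submodule.finrank_le (LinearMap.range (hL.Bl x))
        rw [h, finrank_bot, add_zero, hdimd] at h1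
        rw [Module.finrank_self] at h2
        omega)
      have hyx : B y x = 0 := LinearMap.mem_ker.1 hy
      by_cases hyy : B y y = 0
      · exact ⟨y, hy0, hyy⟩
      obtain ⟨c, hc⟩ := hL.exists_norm (b := - B y y / B x x)
        (by rw [map_div₀, map_neg, hL.self_real, hL.self_real])
      refine ⟨c • x + y, fun h => hxx ?_, ?_⟩
      · have h1 : B (c • x + y) x = 0 := by rw [h, hL.zero_left]
        rw [hL.add_left, hL.smul_left, hyx, add_zero] at h1
        refine (mul_eq_zero.1 h1).resolve_left fun hc0 => hy0 ?_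
        rw [hc0, zero_smul, zero_add] at h
        exact h
      · simp only [hL.add_left, hL.smul_left, hL.add_right, hL.smul_right, hyx, hL.zero_comm hyx]
        linear_combination (eq_div_iff hxx).1 hc
    have huu : f u u = 0 := by rw [hL.f_eq, hu, map_zero]
    obtain ⟨ζ, hζ, hζ'⟩ := hL.exists_zeta
    obtain ⟨⟨y₀, hy₀⟩, -⟩ := hf.nondegenerate u hu0
    set T := ft f u (σ ζ • u) with hT
    have hTx : ∀ x, (T : Matrix (Fin n) (Fin n) F) *ᵥ x = x + (ζ * f x u) • u := fun x => by
      rw [hT, TransvectionUnitary.ut_act hf huu]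
    have hbot : ∀ k ∈ K, k ∈ (⊥ : Subalgebra F (Matrix (Fin n) (Fin n) F)) := by
      intro k₀ hk₀
      let k : K := ⟨k₀, hk₀⟩
      let k' : K := ⟨_, ((hle (hft u ζ huu hζ')) k).1 k.2⟩
      have hk' : ∀ x, k' • ((T : Matrix (Fin n) (Fin n) F) *ᵥ x) =
          (T : Matrix (Fin n) (Fin n) F) *ᵥ (k • x) := fun x => by
        rw [hsmul, hsmul, Matrix.mulVec_mulVec, Matrix.mulVec_mulVec]
        show ((_ * _) * _ : Matrix _ _ F) *ᵥ x = _
        rw [Units.inv_mul_cancel_right]
      have hku : f (k • u) u = 0 := by rw [hL.eq, hu, mul_zero, map_zero]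
      have hkk : k' = k := by
        apply smul_left_injective K hu0
        show k' • u = k • u
        have := hk' u
        rwa [hTx, hTx, huu, mul_zero, zero_smul, add_zero, hku, mul_zero, zero_smul, add_zero] at this
      have := hk' ((ζ * f y₀ u)⁻¹ • y₀)
      rw [hkk, hTx, hTx, smul_add, add_right_inj, hf.smul_left, mul_left_comm,
        inv_mul_cancel₀ (mul_ne_zero hζ hy₀), one_smul, ← algebraMap_smul K (_ * f _ u) u] at this
      exact Algebra.mem_bot.2 ⟨_, (congrArg Subtype.val (smul_left_injective K hu0 this)).symm⟩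
    have := hK.finrank_eq
    rw [show K = ⊥ from eq_bot_iff.2 hbot, Subalgebra.finrank_bot] at this
    exact hr.one_lt.ne this
  refine ⟨lt_of_le_of_ne inf_le_right (fun h => hwit (h ▸ inf_le_left)), fun M h1 h2 => ?_⟩
  by_cases h : M ≤ Cfsg.Geo.subalgebraNormalizer K
  · exact Or.inl (le_antisymm (le_inf h h2) h1)
  obtain ⟨g₀, hg₀, hg₀N⟩ := SetLike.not_le_iff_exists.1 h
  right
  have mul_act : ∀ (A C : GL (Fin n) F) (x : Fin n → F), ((A * C : GL (Fin n) F) : Matrix (Fin n) (Fin n) F) *ᵥ x =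
      (A : Matrix (Fin n) (Fin n) F) *ᵥ ((C : Matrix (Fin n) (Fin n) F) *ᵥ x) := fun A C x => by
    rw [Units.val_mul, ← Matrix.mulVec_mulVec]
  let M' : Subgroup ((Fin n → F) ≃ₗ[F] (Fin n → F)) :=
    { carrier := {g | ∃ G ∈ M, ∀ x, (G : Matrix (Fin n) (Fin n) F) *ᵥ x = g x}
      mul_mem' := by
        rintro a b ⟨A, hA, hAx⟩ ⟨C, hC, hCx⟩
        exact ⟨A * C, mul_mem hA hC, fun x => by rw [mul_act, hCx, hAx]; rfl⟩
      one_mem' := ⟨1, one_mem M, fun x => by rw [Units.val_one, Matrix.one_mulVec]; rfl⟩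
      inv_mem' := by
        rintro a ⟨A, hA, hAx⟩
        refine ⟨A⁻¹, inv_mem hA, fun x => ?_⟩
        apply a.injective
        rw [← hAx, ← mul_act, mul_inv_cancel, Units.val_one, Matrix.one_mulVec]
        exact (a.apply_symm_apply x).symm }
  have hHyp : Hyp σ bar f M' := by
    refine ⟨hGeo, fun g hlin hpres hdet => ?_, fun g hg x y => ?_, ?_⟩
    · let G : GL (Fin n) F :=
        ⟨LinearMap.toMatrix' g.toLinearMap, LinearMap.toMatrix' g.symm.toLinearMap,
          by rw [← LinearMap.toMatrix'_comp, LinearEquiv.comp_symm, LinearMap.toMatrix'_id],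
          by rw [← LinearMap.toMatrix'_comp, LinearEquiv.symm_comp, LinearMap.toMatrix'_id]⟩
      have hG : ∀ x, (G : Matrix (Fin n) (Fin n) F) *ᵥ x = g x := fun x =>
        LinearMap.toMatrix'_mulVec g.toLinearMap x
      refine ⟨G, h1 ⟨?_, ?_, ?_⟩, hG⟩
      · intro k
        have hconj : ∀ c : K, (G : Matrix (Fin n) (Fin n) F) *
            (c : Matrix (Fin n) (Fin n) F) * (G⁻¹ : GL (Fin n) F) = c := by
          intro c
          rw [Units.mul_inv_eq_iff_eq_mul]
          apply Matrix.ext_iff_mulVec.mpr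
          intro x
          rw [← Matrix.mulVec_mulVec, ← Matrix.mulVec_mulVec, hG, hG, ← hsmul, hlin, hsmul]
        constructor
        · intro hk
          rw [hconj ⟨k, hk⟩]
          exact hk
        · intro hk
          have h := hconj ⟨_, hk⟩
          have := (Units.mul_right_inj G).1 ((Units.mul_left_inj G⁻¹).1 h)
          rw [← this]
          exact hk
      · intro x y
        show f ((G : Matrix (Fin n) (Fin n) F) *ᵥ x) ((G : Matrix (Fin n) (Fin n) F) *ᵥ y) = _
        rw [hG, hG]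
        exact hpres x y
      · refine MonoidHom.mem_ker.2 (Units.ext ?_)
        show (LinearMap.toMatrix' g.toLinearMap).det = 1
        rw [LinearMap.det_toMatrix', hdet]
    · obtain ⟨G, hG, hGx⟩ := hg
      rw [← hGx, ← hGx]
      exact (h2 hG).1 x y
    · by_contra hcon
      push Not at hcon
      apply hg₀N
      have hinjg : Function.Injective (Matrix.toLin' (g₀ : Matrix (Fin n) (Fin n) F)) := fun a b h => by
        have h' := congrArg ((g₀⁻¹ : GL (Fin n) F) : Matrix (Fin n) (Fin n) F).mulVec h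
        simpa [Matrix.toLin'_apply, Matrix.mulVec_mulVec] using h'
      let g : (Fin n → F) ≃ₗ[F] (Fin n → F) :=
        LinearEquiv.ofBijective (Matrix.toLin' (g₀ : Matrix (Fin n) (Fin n) F))
          ((Finite.injective_iff_bijective).1 hinjg)
      have hgM : g ∈ M' := ⟨g₀, hg₀, fun x => (Matrix.toLin'_apply _ x).symm⟩
      choose τ hτ using hcon g hgM
      intro k
      have hinj : Function.Injective τ := fun c c' h => by
        obtain ⟨v₀, hv₀⟩ := exists_ne (0 : Fin n → F)
        apply smul_left_injective K hv₀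
        apply g.injective
        show g (c • v₀) = g (c' • v₀)
        rw [hτ, hτ, h]
      have hconj : ∀ c : K, (g₀ : Matrix (Fin n) (Fin n) F) * (c : Matrix (Fin n) (Fin n) F) *
          ((g₀⁻¹ : GL (Fin n) F) : Matrix (Fin n) (Fin n) F) = (τ c : K) := by
        intro c
        rw [Units.mul_inv_eq_iff_eq_mul]
        apply Matrix.ext_iff_mulVec.mpr
        intro x
        rw [← Matrix.mulVec_mulVec, ← Matrix.mulVec_mulVec, ← hsmul, ← hsmul]
        exact (Matrix.toLin'_apply _ _).symm.trans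
          ((hτ c x).trans (congrArg (τ c • ·) (Matrix.toLin'_apply _ _)))
      constructor
      · intro hk
        rw [show k = ((⟨k, hk⟩ : K) : Matrix (Fin n) (Fin n) F) from rfl, hconj]
        exact (τ ⟨k, hk⟩).2
      · intro hk
        obtain ⟨c, hc⟩ := (Finite.injective_iff_surjective.1 hinj) ⟨_, hk⟩
        have h := hconj c
        rw [hc] at h
        have := (Units.mul_right_inj g₀).1 ((Units.mul_left_inj g₀⁻¹).1 h)
        rw [← this]
        exact c.2
  have hn4 : 4 ≤ n := by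
    have := hr.two_le
    rw [hnd]; nlinarith
  refine le_antisymm h2 (ExtFieldGU22Glue.su_le hF hn4 fun b c hb hc => ?_)
  have hc' : σ c = -c := by rw [hσq]; exact eq_neg_of_add_eq_zero_right hc
  obtain ⟨t, ⟨G, hG, hGx⟩, ht⟩ := all_transvections hHyp hb hc'
  exact ⟨G, hG, fun x => by rw [hGx, ht]⟩

/-- The same for even dimension, in the form used by the even-dimensional lists. -/
theorem extField_maximal {F : Type*} [Field F] [Fintype F] {q n r : ℕ} (hF : Fintype.card F = q ^ 2)
    (hr : r.Prime) (hr2 : r ≠ 2) (_heven : Even n) (hn : ∃ d, n = r * d ∧ (d = 2 ∨ 4 ≤ d))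
    (hsmall : n = 6 → r = 3 → 3 ≤ q) (K : Subalgebra F (Matrix (Fin n) (Fin n) F))
    (hK : Cfsg.Geo.IsFieldSubalgebra r K) (hA : Cfsg.Geo.IsAdjointClosedFor (Cfsg.hermForm n F q) K) :
    Cfsg.Geo.IsMaximalIn (Cfsg.GU n F q ⊓ Cfsg.Geo.specialLinear (Fin n) F)
      (Cfsg.Geo.subalgebraNormalizer K ⊓ (Cfsg.GU n F q ⊓ Cfsg.Geo.specialLinear (Fin n) F)) :=
  extField_maximal' hF hr hr2 (hn.imp fun d hd => ⟨hd.1, by omega⟩) hsmall K hK hA

/-- The case of SU_6 and a cubic subfield (C3 conjunct of S5801). -/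
theorem extField3_su6 {F : Type*} [Field F] [Fintype F] (q : ℕ) (hF : Fintype.card F = q ^ 2) :
    3 ≤ q → ∀ K : Subalgebra F (Matrix (Fin 6) (Fin 6) F), Cfsg.Geo.IsFieldSubalgebra 3 K →
      Cfsg.Geo.IsAdjointClosedFor (Cfsg.hermForm 6 F q) K →
      Cfsg.Geo.IsMaximalIn (Cfsg.GU 6 F q ⊓ Cfsg.Geo.specialLinear (Fin 6) F)
        (Cfsg.Geo.subalgebraNormalizer K ⊓ (Cfsg.GU 6 F q ⊓ Cfsg.Geo.specialLinear (Fin 6) F)) :=
  fun hq K hK hA => extField_maximal (n := 6) (r := 3) hF (by norm_num) (by norm_num) (by decide)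
    ⟨2, rfl, Or.inl rfl⟩ (fun _ _ => hq) K hK hA

/-- The case of SU_10 and a subfield of degree five (C3 conjunct of S5840). -/
theorem extField5_su10 {F : Type*} [Field F] [Fintype F] (q : ℕ) (hF : Fintype.card F = q ^ 2) :
    ∀ K : Subalgebra F (Matrix (Fin 10) (Fin 10) F), Cfsg.Geo.IsFieldSubalgebra 5 K →
      Cfsg.Geo.IsAdjointClosedFor (Cfsg.hermForm 10 F q) K →
      Cfsg.Geo.IsMaximalIn (Cfsg.GU 10 F q ⊓ Cfsg.Geo.specialLinear (Fin 10) F)
        (Cfsg.Geo.subalgebraNormalizer K ⊓ (Cfsg.GU 10 F q ⊓ Cfsg.Geo.specialLinear (Fin 10) F)) :=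
  fun K hK hA => extField_maximal (n := 10) (r := 5) hF (by norm_num) (by norm_num) (by decide)
    ⟨2, rfl, Or.inl rfl⟩ (fun h _ => absurd h (by norm_num)) K hK hA

/-- The case of SU_12 and a cubic subfield (C3 conjunct of S5864). -/
theorem extField3_su12 {F : Type*} [Field F] [Fintype F] (q : ℕ) (hF : Fintype.card F = q ^ 2) :
    ∀ K : Subalgebra F (Matrix (Fin 12) (Fin 12) F), Cfsg.Geo.IsFieldSubalgebra 3 K →
      Cfsg.Geo.IsAdjointClosedFor (Cfsg.hermForm 12 F q) K →
      Cfsg.Geo.IsMaximalIn (Cfsg.GU 12 F q ⊓ Cfsg.Geo.specialLinear (Fin 12) F)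
        (Cfsg.Geo.subalgebraNormalizer K ⊓ (Cfsg.GU 12 F q ⊓ Cfsg.Geo.specialLinear (Fin 12) F)) :=
  fun K hK hA => extField_maximal (n := 12) (r := 3) hF (by norm_num) (by norm_num) (by decide)
    ⟨4, rfl, Or.inr (le_refl 4)⟩ (fun h _ => absurd h (by norm_num)) K hK hA

/-- The degree three extension field subgroups of SU_9(q). -/
theorem extField3_su9 {F : Type*} [Field F] [Fintype F] (q : ℕ) (hF : Fintype.card F = q ^ 2) :
    ∀ K : Subalgebra F (Matrix (Fin 9) (Fin 9) F), Cfsg.Geo.IsFieldSubalgebra 3 K →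
      Cfsg.Geo.IsAdjointClosedFor (Cfsg.hermForm 9 F q) K →
      Cfsg.Geo.IsMaximalIn (Cfsg.GU 9 F q ⊓ Cfsg.Geo.specialLinear (Fin 9) F)
        (Cfsg.Geo.subalgebraNormalizer K ⊓ (Cfsg.GU 9 F q ⊓ Cfsg.Geo.specialLinear (Fin 9) F)) :=
  fun K hK hA => extField_maximal' (n := 9) (r := 3) hF (by norm_num) (by norm_num) ⟨3, by norm_num⟩
    (fun h => absurd h (by norm_num)) K hK hA

end Cfsg.Agent.ExtFieldUnit74
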