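import Mathlib
import Cfsg.Prelude.Def_TwoFusion
import Cfsg.Prelude.Def_Solvable
import Cfsg.Agent.Lib.ZStarTheorem
import Cfsg.Agent.Lib.ZStarBasic

/-!
Stabilisers of affine extremely primitive groups in characteristic two are almost simple (modulo the
odd order theorem, taken as a hypothesis).
-/

set_option autoImplicit false

namespace Cfsg.Agent.ExtPrimAffine56

open MulAction
open scoped commutatorElement

universe u u'

variable {H : Type u} [Group H] [Finite H] {V : Type u'} [CommGroup V] [Finite V]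
  [MulDistribMulAction H V]

/-- The hypotheses: `V` has exponent two, is faithful and irreducible, and the stabiliser of every
non-identity vector is maximal. -/
structure Setup (H : Type u) [Group H] (V : Type u') [CommGroup V] [MulDistribMulAction H V] : Prop where
  sq : ∀ v : V, v * v = 1
  faith : ∀ h : H, (∀ v : V, h • v = v) → h = 1
  irr : ∀ U : Subgroup V, (∀ h : H, ∀ u ∈ U, h • u ∈ U) → U = ⊥ ∨ U = ⊤
  max : ∀ v : V, v ≠ 1 → IsCoatom (stabilizer H v)

variable (hS : Setup H V)
include hS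

omit [Finite H] [Finite V] in
theorem inv_eq (v : V) : v⁻¹ = v := inv_eq_of_mul_eq_one_right (hS.sq v)

omit [Finite H] [Finite V] in
theorem eq_of_mul_eq_one {v w : V} (h : v * w = 1) : w = v := by
  rw [← inv_eq_of_mul_eq_one_right h, inv_eq hS]

omit [Finite H] [Finite V] in
theorem eq_one_of_fix_orbit {x : H} {v : V} (hv : v ≠ 1) (h : ∀ g : H, x • g • v = g • v) :
    x = 1 := by
  apply hS.faith
  let U : Subgroup V :=
    { carrier := {u | ∀ g : H, x • g • u = g • u}
      one_mem' := fun g => by simp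
      mul_mem' := fun {a b} ha hb g => by rw [smul_mul', smul_mul', ha g, hb g]
      inv_mem' := fun {a} ha g => by rw [smul_inv', smul_inv', ha g] }
  rcases hS.irr U (fun g u hu k => by rw [← mul_smul k g u]; exact hu (k * g)) with hU | hU
  · exact absurd ((Subgroup.mem_bot).1 (hU ▸ (h : v ∈ U))) hv
  · intro w
    simpa using (hU ▸ Subgroup.mem_top w : w ∈ U) 1

omit [Finite H] [Finite V] in
theorem not_le_stab {K : Subgroup H} (hK : K.Normal) (hK1 : K ≠ ⊥) {v : V} (hv : v ≠ 1) :
    ¬ K ≤ stabilizer H v := by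
  intro h
  obtain ⟨x, hx, hx1⟩ := (Subgroup.bot_or_exists_ne_one K).resolve_left hK1
  refine hx1 (eq_one_of_fix_orbit hS hv fun g => ?_)
  have := h (hK.conj_mem x hx g⁻¹)
  rw [mem_stabilizer_iff, inv_inv, mul_smul, mul_smul, inv_smul_eq_iff] at this
  exact this

omit [Finite H] [Finite V] in
theorem exists_mul_stab {K : Subgroup H} (hK : K.Normal) (hK1 : K ≠ ⊥) {v : V} (hv : v ≠ 1) (h : H) :
    ∃ k ∈ K, h • v = k • v := by
  have htop : K ⊔ stabilizer H v = ⊤ := (hS.max v hv).2 _ (lt_of_le_of_ne le_sup_right fun e =>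
    not_le_stab hS hK hK1 hv (e ▸ le_sup_left))
  obtain ⟨k, hk, s, hs, rfl⟩ := Subgroup.mem_sup_of_normal_left.1 (htop ▸ Subgroup.mem_top h)
  exact ⟨k, hk, by rw [mul_smul, mem_stabilizer_iff.1 hs]⟩

omit [Finite H] [Finite V] in
/-- A subgroup of a stabiliser normalised by a normal subgroup is trivial. -/
theorem fix_all {K : Subgroup H} (hK : K.Normal) (hK1 : K ≠ ⊥) {v : V} (hv : v ≠ 1) {X : Subgroup H}
    (hX : X ≤ stabilizer H v) (hn : ∀ k ∈ K, ∀ x ∈ X, k⁻¹ * x * k ∈ X) : X = ⊥ := by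
  rw [Subgroup.eq_bot_iff_forall]
  intro x hx
  refine eq_one_of_fix_orbit hS hv fun g => ?_
  obtain ⟨k, hk, e⟩ := exists_mul_stab hS hK hK1 hv g
  have := hX (hn k hk x hx)
  rw [mem_stabilizer_iff, mul_smul, mul_smul, inv_smul_eq_iff] at this
  rw [e, this]

omit [Finite H] [Finite V] in
/-- An involution fixes a non-identity vector. -/
theorem exists_fixed [Nontrivial V] {s : H} (hs : s * s = 1) : ∃ v : V, v ≠ 1 ∧ s • v = v := by
  obtain ⟨w, hw⟩ := exists_ne (1 : V)
  by_cases h : s • w = w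
  · exact ⟨w, hw, h⟩
  · refine ⟨w * s • w, fun e => h (eq_of_mul_eq_one hS e), ?_⟩
    rw [smul_mul', ← mul_smul, hs, one_smul, mul_comm]

omit [Finite H] [Finite V] in
theorem nontrivial_V (hns : ¬ Group.IsSolvable H) : Nontrivial V := by
  by_contra h
  rw [not_nontrivial_iff_subsingleton] at h
  haveI : Subsingleton H := ⟨fun a b => by
    rw [hS.faith a fun v => Subsingleton.elim _ _, hS.faith b fun v => Subsingleton.elim _ _]⟩
  exact hns (Group.isSolvable_of_comm fun a b => Subsingleton.elim _ _)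

/-- No normal abelian subgroup. -/
theorem eq_bot_of_abelian (hns : ¬ Group.IsSolvable H) {M0 : Subgroup H} (hM0 : M0.Normal)
    (hc0 : ∀ a ∈ M0, ∀ b ∈ M0, a * b = b * a) : M0 = ⊥ := by
  classical
  by_contra hne0
  haveI := nontrivial_V hS hns
  obtain ⟨r, hr, hrd⟩ := Nat.exists_prime_and_dvd (fun h : Nat.card M0 = 1 =>
    hne0 (Subgroup.eq_bot_of_card_eq M0 h))
  haveI : Fact r.Prime := ⟨hr⟩
  let M : Subgroup H :=
    { carrier := {x | x ∈ M0 ∧ x ^ r = 1}
      one_mem' := ⟨M0.one_mem, one_pow _⟩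
      mul_mem' := fun {a b} ha hb => ⟨M0.mul_mem ha.1 hb.1, by
        rw [(show Commute a b from hc0 a ha.1 b hb.1).mul_pow, ha.2, hb.2, one_mul]⟩
      inv_mem' := fun {a} ha => ⟨M0.inv_mem ha.1, by rw [inv_pow, ha.2, inv_one]⟩ }
  have hM : M.Normal := ⟨fun x hx g => ⟨hM0.conj_mem x hx.1 g, by rw [conj_pow, hx.2]; group⟩⟩
  have hc : ∀ a ∈ M, ∀ b ∈ M, a * b = b * a := fun a ha b hb => hc0 a ha.1 b hb.1
  obtain ⟨⟨a, ha0⟩, hao⟩ := exists_prime_orderOf_dvd_card' (G := M0) r hrd
  rw [Subgroup.orderOf_mk] at hao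
  have haM : a ∈ M := ⟨ha0, by rw [← hao]; exact pow_orderOf_eq_one a⟩
  have ha1 : a ≠ 1 := fun h => by rw [h, orderOf_one] at hao; exact hr.one_lt.ne hao
  have hM1 : M ≠ ⊥ := fun h => ha1 (Subgroup.mem_bot.1 (h ▸ haM))
  have hfree : ∀ x ∈ M, ∀ v : V, v ≠ 1 → x • v = v → x = 1 := fun x hx v hv hxv => by
    have hb := fix_all hS hM hM1 hv (X := M ⊓ stabilizer H v) inf_le_right fun k hk y hy => by
      rw [mul_assoc, hc y hy.1 k hk, inv_mul_cancel_left]
      exact hy
    exact Subgroup.mem_bot.1 (hb ▸ (⟨hx, hxv⟩ : x ∈ M ⊓ stabilizer H v))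
  have hr2 : r ≠ 2 := by
    rintro rfl
    obtain ⟨v, hv, hav⟩ := exists_fixed (V := V) hS (s := a) (by rw [← sq]; exact haM.2)
    exact ha1 (hfree a haM v hv hav)
  let P : H → V → V := fun x w => ∏ j ∈ Finset.range r, (x ^ j) • w
  have hP : ∀ x ∈ M, x ≠ 1 → ∀ w, P x w = 1 := by
    intro x hx hx1 w
    by_contra hne
    refine hx1 (hfree x hx _ hne ?_)
    show x • ∏ j ∈ Finset.range r, (x ^ j) • w = _
    rw [Finset.smul_prod']
    simp only [← mul_smul, ← pow_succ']
    have h1 := Finset.prod_range_succ' (fun j => (x ^ j) • w) r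
    rw [Finset.prod_range_succ, hx.2, pow_zero] at h1
    exact (mul_right_cancel h1).symm
  have hgen : ∀ b ∈ M, b ∈ Subgroup.zpowers a := by
    intro b hb
    by_contra hba
    obtain ⟨w, hw⟩ := exists_ne (1 : V)
    have hbi : ∀ i, P (b * a ^ i) w = 1 := fun i => hP _ (M.mul_mem hb (M.pow_mem haM i))
      (fun h => hba ((mul_eq_one_iff_eq_inv.1 h) ▸ inv_mem (Subgroup.npow_mem_zpowers a i))) w
    have h1 : ∏ i ∈ Finset.range r, P (b * a ^ i) w = 1 := Finset.prod_eq_one fun i _ => hbi i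
    have h2 : ∀ i j, ((b * a ^ i) ^ j) • w = ((a ^ j) ^ i) • (b ^ j) • w := fun i j => by
      rw [(show Commute b (a ^ i) from hc b hb _ (M.pow_mem haM i)).mul_pow,
        (show Commute (b ^ j) ((a ^ i) ^ j) from
          hc _ (M.pow_mem hb j) _ (M.pow_mem (M.pow_mem haM i) j)).eq, mul_smul, pow_right_comm]
    simp only [P, h2] at h1
    rw [Finset.prod_comm, Finset.prod_eq_single 0] at h1
    · simp only [pow_zero, one_pow, one_smul, Finset.prod_const, Finset.card_range] at h1
      obtain ⟨k, hk⟩ := hr.odd_of_ne_two hr2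
      rw [hk, pow_succ, pow_mul, sq, hS.sq, one_pow, one_mul] at h1
      exact hw h1
    · intro j hj hj0
      refine hP (a ^ j) (M.pow_mem haM j) (fun h => hj0 ?_) _
      have hd := orderOf_dvd_of_pow_eq_one h
      rw [hao] at hd
      exact Nat.eq_zero_of_dvd_of_lt hd (Finset.mem_range.1 hj)
    · intro h0
      exact absurd (Finset.mem_range.2 hr.pos) h0
  have hMa : M = Subgroup.zpowers a := le_antisymm hgen (Subgroup.zpowers_le.2 haM)
  have hcyc : IsCyclic M := hMa ▸ inferInstance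
  obtain ⟨v, hv⟩ := exists_ne (1 : V)
  have hCM : ∀ c ∈ Subgroup.centralizer (M : Set H), c ∈ M := by
    intro c hcc
    obtain ⟨m, hm, e⟩ := exists_mul_stab hS hM hM1 hv c
    have hm' : m⁻¹ * c ∈ Subgroup.centralizer (M : Set H) := by
      refine mul_mem (Subgroup.inv_mem _ ?_) hcc
      exact Subgroup.mem_centralizer_iff.2 fun y hy => hc y hy m hm
    have hb := fix_all hS hM hM1 hv (X := Subgroup.centralizer (M : Set H) ⊓ stabilizer H v)
      inf_le_right fun k hk y hy => by
        rw [mul_assoc, ← Subgroup.mem_centralizer_iff.1 hy.1 k hk, inv_mul_cancel_left]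
        exact hy
    have h1 : m⁻¹ * c = 1 := Subgroup.mem_bot.1 (hb ▸ (⟨hm', by
      show (m⁻¹ * c) • v = v
      rw [mul_smul, e, inv_smul_smul]⟩ :
      m⁻¹ * c ∈ Subgroup.centralizer (M : Set H) ⊓ stabilizer H v))
    rw [inv_mul_eq_one] at h1
    exact h1 ▸ hm
  haveI := hM
  let f : H →* MulAut M := MulAut.conjNormal
  have hker : f.ker ≤ M.subtype.range := by
    intro x hx
    rw [M.range_subtype]
    refine hCM x (Subgroup.mem_centralizer_iff.2 fun y hy => ?_)
    have := congrArg Subtype.val (DFunLike.congr_fun (MonoidHom.mem_ker.1 hx) (⟨y, hy⟩ : M))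
    rw [MulAut.conjNormal_apply] at this
    exact (mul_inv_eq_iff_eq_mul.1 this).symm
  haveI : Group.IsSolvable M :=
    Group.isSolvable_of_comm fun x y => Subtype.ext (hc x x.2 y y.2)
  haveI : Group.IsSolvable (MulAut M) := Group.isSolvable_of_comm fun x y =>
    (IsCyclic.mulAutMulEquiv M).injective (by rw [map_mul, map_mul, mul_comm])
  exact hns (Group.isSolvable_of_ker_le_range M.subtype f hker)

omit [Finite V] in
theorem exists_minimal_normal {K : Subgroup H} (hK : K.Normal) (hK1 : K ≠ ⊥) :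
    ∃ M : Subgroup H, M ≤ K ∧ M.Normal ∧ M ≠ ⊥ ∧
      ∀ N : Subgroup H, N.Normal → N ≤ M → N ≠ ⊥ → N = M := by
  obtain ⟨M, ⟨hMK, hM, hM1⟩, hmin⟩ :=
    (Set.toFinite {M : Subgroup H | M ≤ K ∧ M.Normal ∧ M ≠ ⊥}).exists_minimal ⟨K, le_rfl, hK, hK1⟩
  exact ⟨M, hMK, hM, hM1, fun N hN hle hN1 =>
    le_antisymm hle (hmin ⟨hle.trans hMK, hN, hN1⟩ hle)⟩

/-- A minimal normal subgroup is perfect, has even order, and trivial centraliser. -/
theorem minimal_facts (hns : ¬ Group.IsSolvable H)
    (hFT : ∀ K : Subgroup H, Odd (Nat.card K) → Group.IsSolvable K) {M : Subgroup H} (hM : M.Normal)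
    (hM1 : M ≠ ⊥) (hmin : ∀ N : Subgroup H, N.Normal → N ≤ M → N ≠ ⊥ → N = M) :
    Subgroup.centralizer (M : Set H) = ⊥ := by
  haveI := nontrivial_V hS hns
  have hnab : ¬ ∀ a ∈ M, ∀ b ∈ M, a * b = b * a := fun h => hM1 (eq_bot_of_abelian hS hns hM h)
  have heven : ¬ Odd (Nat.card M) := by
    intro ho
    haveI := hFT M ho
    haveI : (⁅M, M⁆ : Subgroup H).Normal := Subgroup.commutator_normal M M
    by_cases h : ⁅M, M⁆ = ⊥
    · refine hnab fun a ha b hb => ?_
      exact (Subgroup.mem_centralizer_iff.1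
        ((Subgroup.commutator_eq_bot_iff_le_centralizer).1 h ha) b hb).symm
    · have he := hmin _ this (Subgroup.commutator_le_left M M) h
      haveI : Nontrivial M := (Subgroup.nontrivial_iff_ne_bot M).2 hM1
      have h2 := IsSolvable.commutator_lt_top_of_nontrivial M
      refine h2.ne (Subgroup.map_injective M.subtype_injective ?_)
      rw [Subgroup.map_subtype_commutator, ← MonoidHom.range_eq_map, Subgroup.range_subtype, he]
  by_contra hC
  haveI := hM
  obtain ⟨M2, hM2C, hM2, hM21, -⟩ := exists_minimal_normal hS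
    (inferInstance : (Subgroup.centralizer (M : Set H)).Normal) hC
  rw [Nat.not_odd_iff_even, even_iff_two_dvd] at heven
  obtain ⟨⟨x, hx⟩, hxo⟩ := exists_prime_orderOf_dvd_card' (G := M) 2 heven
  rw [Subgroup.orderOf_mk] at hxo
  obtain ⟨v, hv, hxv⟩ := exists_fixed (V := V) hS (s := x)
    (by rw [← sq, ← hxo]; exact pow_orderOf_eq_one x)
  have hb := fix_all hS hM2 hM21 hv (X := M ⊓ stabilizer H v) inf_le_right fun k hk y hy => by
    rw [mul_assoc, Subgroup.mem_centralizer_iff.1 (hM2C hk) y hy.1, inv_mul_cancel_left]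
    exact hy
  have hx' : x ∈ M ⊓ stabilizer H v := ⟨hx, hxv⟩
  rw [hb, Subgroup.mem_bot] at hx'
  rw [hx', orderOf_one] at hxo
  norm_num at hxo

section factors

variable {M T : Subgroup H}

omit hS [Finite H] in
/-- The join of the other factors. -/
def others (T : Subgroup H) (J : Subgroup H) : Subgroup H :=
  ⨆ g : {g : H // T.map (MulAut.conj g).toMonoidHom ≠ J}, T.map (MulAut.conj (g : H)).toMonoidHom

omit hS [Finite H] in
theorem map_conj_map (K : Subgroup H) (g h : H) :
    (K.map (MulAut.conj h).toMonoidHom).map (MulAut.conj g).toMonoidHom =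
      K.map (MulAut.conj (g * h)).toMonoidHom := by
  rw [Subgroup.map_map, map_mul]; rfl

omit hS [Finite H] in
theorem map_others_le (T J : Subgroup H) (h : H) :
    (others T J).map (MulAut.conj h).toMonoidHom ≤ others T (J.map (MulAut.conj h).toMonoidHom) := by
  rw [others, Subgroup.map_iSup]
  refine iSup_le fun g => ?_
  rw [map_conj_map]
  refine le_iSup_of_le ⟨h * (g : H), fun e => g.2 ?_⟩ le_rfl
  rw [← map_conj_map] at e
  exact Subgroup.map_injective (MulAut.conj h).injective e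

/-- The main argument: a minimal normal subgroup is simple. -/
theorem eq_of_le_minimal (hns : ¬ Group.IsSolvable H)
    (hFT : ∀ K : Subgroup H, Odd (Nat.card K) → Group.IsSolvable K) (hM : M.Normal) (hM1 : M ≠ ⊥)
    (hTM : T ≤ M) (hT1 : T ≠ ⊥) (hTn : M ≤ Subgroup.normalizer (T : Set H))
    (hTmin : ∀ Y : Subgroup H, Y ≤ T → M ≤ Subgroup.normalizer (Y : Set H) → Y ≠ ⊥ → Y = T)
    (hmin : ∀ N : Subgroup H, N.Normal → N ≤ M → N ≠ ⊥ → N = M) : T = M := by
  classical
  haveI := nontrivial_V hS hns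
  by_contra hne
  set cj : H → Subgroup H := fun g => T.map (MulAut.conj g).toMonoidHom with hcj
  have hcjM : ∀ g, cj g ≤ M := fun g => by
    rintro _ ⟨x, hx, rfl⟩
    exact hM.conj_mem x (hTM hx) g
  have hnorm : ∀ g, ∀ m ∈ M, ∀ x ∈ cj g, m * x * m⁻¹ ∈ cj g := by
    rintro g m hm _ ⟨x, hx, rfl⟩
    refine ⟨(g⁻¹ * m * g) * x * (g⁻¹ * m * g)⁻¹,
      (Subgroup.mem_normalizer_iff.1 (hTn ?_) x).1 hx, ?_⟩
    · simpa using hM.conj_mem m hm g⁻¹
    · show g * ((g⁻¹ * m * g) * x * (g⁻¹ * m * g)⁻¹) * g⁻¹ = m * (g * x * g⁻¹) * m⁻¹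
      group
  have hnle : ∀ g, M ≤ Subgroup.normalizer (cj g : Set H) := fun g m hm => by
    rw [Subgroup.mem_normalizer_iff]
    refine fun x => ⟨hnorm g m hm x, fun hx => ?_⟩
    have := hnorm g m⁻¹ (M.inv_mem hm) _ hx
    simpa [mul_assoc] using this
  have hcjmin : ∀ g (Y : Subgroup H), Y ≤ cj g → M ≤ Subgroup.normalizer (Y : Set H) → Y ≠ ⊥ →
      Y = cj g := by
    intro g Y hY hYn hY1
    have h1 : Y.map (MulAut.conj g⁻¹).toMonoidHom = T := by
      refine hTmin _ ?_ ?_ ?_
      · refine (Subgroup.map_mono hY).trans (le_of_eq ?_)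
        simp only [hcj]; rw [map_conj_map, inv_mul_cancel, map_one]
        exact Subgroup.map_id T
      · intro m hm
        rw [Subgroup.mem_normalizer_iff]
        intro x
        have hm' : g * m * g⁻¹ ∈ Subgroup.normalizer (Y : Set H) := hYn (hM.conj_mem m hm g)
        have key : ∀ z : H, z ∈ Y.map (MulAut.conj g⁻¹).toMonoidHom ↔ g * z * g⁻¹ ∈ Y := by
          intro z
          constructor
          · rintro ⟨y, hy, rfl⟩
            simpa [mul_assoc] using hy
          · intro hz
            exact ⟨_, hz, by simp [mul_assoc]⟩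
        rw [key, key, Subgroup.mem_normalizer_iff.1 hm' (g * x * g⁻¹)]
        simp [mul_assoc]
      · exact fun h => hY1 (Subgroup.map_eq_bot_iff_of_injective _ (MulAut.conj g⁻¹).injective |>.1 h)
    simp only [hcj]; rw [← h1, map_conj_map, mul_inv_cancel, map_one]
    exact (Subgroup.map_id Y).symm
  have hcomm : ∀ g h, cj g ≠ cj h → ∀ x ∈ cj g, ∀ y ∈ cj h, x * y = y * x := by
    intro g h hgh x hx y hy
    have hbot : cj g ⊓ cj h = ⊥ := by
      by_contra hne
      have hn : M ≤ Subgroup.normalizer ((cj g ⊓ cj h : Subgroup H) : Set H) := fun m hm => by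
        rw [Subgroup.mem_normalizer_iff]
        intro z
        exact and_congr (Subgroup.mem_normalizer_iff.1 (hnle g hm) z)
          (Subgroup.mem_normalizer_iff.1 (hnle h hm) z)
      exact hgh ((hcjmin g _ inf_le_left hn hne).symm.trans (hcjmin h _ inf_le_right hn hne))
    have h1 : x * y * x⁻¹ * y⁻¹ ∈ cj g ⊓ cj h := ⟨by
      rw [mul_assoc, mul_assoc]
      refine mul_mem hx ?_
      rw [← mul_assoc]
      exact hnorm g y (hcjM h hy) _ (inv_mem hx),
      (cj h).mul_mem (hnorm h x (hcjM g hx) _ hy) ((cj h).inv_mem hy)⟩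
    rw [hbot, Subgroup.mem_bot, mul_inv_eq_one, mul_inv_eq_iff_eq_mul] at h1
    exact h1
  set C : Subgroup H → Subgroup H := others T with hC
  have hcjC : ∀ g J, cj g ≠ J → cj g ≤ C J := fun g J h => le_iSup_of_le ⟨g, h⟩ le_rfl
  have hCM : ∀ J, C J ≤ M := fun J => iSup_le fun g => hcjM g
  have hCcomm : ∀ g, ∀ x ∈ cj g, ∀ y ∈ C (cj g), x * y = y * x := by
    intro g x hx y hy
    have : C (cj g) ≤ Subgroup.centralizer {x} := iSup_le fun h z hz =>
      Subgroup.mem_centralizer_singleton_iff.2 (hcomm _ _ h.2 z hz x hx)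
    exact (Subgroup.mem_centralizer_singleton_iff.1 (this hy)).symm
  have hsupM : ⨆ g, cj g = M := by
    refine hmin _ ⟨fun x hx g => ?_⟩ (iSup_le hcjM) fun h => hT1 ?_
    · have : (⨆ g, cj g).map (MulAut.conj g).toMonoidHom ≤ ⨆ g, cj g := by
        rw [Subgroup.map_iSup]
        refine iSup_le fun k => ?_
        simp only [hcj]; rw [map_conj_map]
        exact le_iSup (fun g => T.map (MulAut.conj g).toMonoidHom) _
      exact this ⟨x, hx, rfl⟩
    · have h1 : cj 1 = T := by rw [hcj]; simp only [map_one]; exact Subgroup.map_id T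
      rw [← h1]
      exact eq_bot_iff.2 ((le_iSup cj 1).trans h.le)
  have hsplit : ∀ g, ∀ m ∈ M, ∃ t ∈ cj g, ∃ c ∈ C (cj g), m = t * c := by
    intro g m hm
    have hle : M ≤ cj g ⊔ C (cj g) := hsupM.symm.le.trans (iSup_le fun k => by
      by_cases h : cj k = cj g
      · exact h ▸ le_sup_left
      · exact (hcjC k _ h).trans le_sup_right)
    have hn : cj g ≤ Subgroup.normalizer (C (cj g) : Set H) := fun x hx => by
      rw [Subgroup.mem_normalizer_iff]
      intro y
      constructor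
      · intro hy
        rw [hCcomm g x hx y hy, mul_inv_cancel_right]
        exact hy
      · intro hy
        have h1 := hCcomm g x hx _ hy
        have h2 : x⁻¹ * (x * y * x⁻¹) * x = x * y * x⁻¹ := by
          rw [mul_assoc, ← h1, inv_mul_cancel_left]
        have h3 : x⁻¹ * (x * y * x⁻¹) * x = y := by group
        rw [h3] at h2
        exact h2 ▸ hy
    have hmem : m ∈ ((cj g ⊔ C (cj g) : Subgroup H) : Set H) := hle hm
    rw [Subgroup.coe_mul_of_left_le_normalizer_right _ _ hn] at hmem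
    obtain ⟨t, ht, c, hc, rfl⟩ := Set.mem_mul.1 hmem
    exact ⟨t, ht, c, hc, rfl⟩
  have hT : cj 1 = T := by rw [hcj]; simp only [map_one]; exact Subgroup.map_id T
  have hnabT : ¬ ∀ x ∈ T, ∀ y ∈ T, x * y = y * x := by
    intro h
    refine hM1 (eq_bot_of_abelian hS hns hM ?_)
    have key : ∀ g k, ∀ x ∈ cj g, ∀ y ∈ cj k, x * y = y * x := by
      intro g k x hx y hy
      by_cases he : cj g = cj k
      · obtain ⟨a, ha, rfl⟩ := hx
        obtain ⟨b, hb, rfl⟩ := (he ▸ hy : y ∈ cj g)
        rw [← map_mul, ← map_mul, h a ha b hb]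
      · exact hcomm g k he x hx y hy
    intro a ha b hb
    have h1 : ∀ k, ∀ y ∈ cj k, a * y = y * a := by
      intro k y hy
      have : M ≤ Subgroup.centralizer {y} := hsupM.symm.le.trans (iSup_le fun g x hx =>
        Subgroup.mem_centralizer_singleton_iff.2 (key g k x hx y hy))
      exact Subgroup.mem_centralizer_singleton_iff.1 (this ha)
    have : M ≤ Subgroup.centralizer {a} := hsupM.symm.le.trans (iSup_le fun k y hy =>
      Subgroup.mem_centralizer_singleton_iff.2 (h1 k y hy).symm)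
    exact (Subgroup.mem_centralizer_singleton_iff.1 (this hb)).symm
  have hTC : T ⊓ C T = ⊥ := by
    by_contra hne'
    have hn : M ≤ Subgroup.normalizer ((T ⊓ C T : Subgroup H) : Set H) := by
      intro m hm
      obtain ⟨t, ht, c, hc, rfl⟩ := hsplit 1 m hm
      rw [hT] at ht hc
      refine mul_mem ?_ ?_
      · rw [Subgroup.mem_normalizer_iff]
        intro z
        constructor
        · rintro ⟨hz1, hz2⟩
          have : t * z = z * t := hCcomm 1 t (hT.symm ▸ ht) z (hT.symm ▸ hz2)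
          rw [this, mul_inv_cancel_right]
          exact ⟨hz1, hz2⟩
        · rintro ⟨hz1, hz2⟩
          have h1 : t * (t * z * t⁻¹) = t * z * t⁻¹ * t := hCcomm 1 t (hT.symm ▸ ht) _ (hT.symm ▸ hz2)
          rw [inv_mul_cancel_right] at h1
          rw [mul_left_cancel h1] at hz1 hz2
          exact ⟨hz1, hz2⟩
      · rw [Subgroup.mem_normalizer_iff]
        intro z
        constructor
        · rintro ⟨hz1, hz2⟩
          have : z * c = c * z := hCcomm 1 z (hT.symm ▸ hz1) c (hT.symm ▸ hc)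
          rw [← this, mul_inv_cancel_right]
          exact ⟨hz1, hz2⟩
        · rintro ⟨hz1, hz2⟩
          have h1 : c * z * c⁻¹ * c = c * (c * z * c⁻¹) := hCcomm 1 _ (hT.symm ▸ hz1) c (hT.symm ▸ hc)
          rw [inv_mul_cancel_right] at h1
          rw [← mul_left_cancel h1] at hz1 hz2
          exact ⟨hz1, hz2⟩
    have := hTmin _ inf_le_left hn hne'
    refine hnabT fun x hx y hy => ?_
    have h2 : y ∈ T ⊓ C T := by rw [this]; exact hy
    exact hCcomm 1 x (hT.symm ▸ hx) y (hT.symm ▸ h2.2)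
  have hsimp : IsSimpleGroup T := by
    haveI : Nontrivial T := (Subgroup.nontrivial_iff_ne_bot T).2 hT1
    refine IsSimpleGroup.mk fun Y hY => ?_
    by_cases hY1 : Y = ⊥
    · exact Or.inl hY1
    refine Or.inr (Subgroup.map_injective T.subtype_injective ?_)
    rw [← MonoidHom.range_eq_map, Subgroup.range_subtype]
    refine hTmin _ (Subgroup.map_subtype_le Y) ?_
      (fun h => hY1 ((Subgroup.map_eq_bot_iff_of_injective _ T.subtype_injective).1 h))
    intro m hm
    obtain ⟨t, ht, c, hc, rfl⟩ := hsplit 1 m hm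
    rw [hT] at ht hc
    refine mul_mem ?_ ?_
    · rw [Subgroup.mem_normalizer_iff]
      intro z
      constructor
      · rintro ⟨y, hy, rfl⟩
        exact ⟨⟨t, ht⟩ * y * (⟨t, ht⟩ : T)⁻¹, hY.conj_mem y hy _, rfl⟩
      · rintro ⟨y, hy, e⟩
        refine ⟨(⟨t, ht⟩ : T)⁻¹ * y * (⟨t, ht⟩ : T)⁻¹⁻¹, hY.conj_mem y hy _, ?_⟩
        have e' : (y : H) = t * z * t⁻¹ := e
        show t⁻¹ * (y : H) * t⁻¹⁻¹ = z
        rw [e']; group
    · refine Subgroup.centralizer_le_normalizer _ (Subgroup.mem_centralizer_iff.2 ?_)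
      rintro _ ⟨y, -, rfl⟩
      exact hCcomm 1 _ (hT.symm ▸ y.2) c (hT.symm ▸ hc)
  haveI := hsimp
  have hTeven : ¬ Odd (Nat.card T) := by
    intro ho
    haveI := hFT T ho
    haveI : Nontrivial T := (Subgroup.nontrivial_iff_ne_bot T).2 hT1
    rcases hsimp.eq_bot_or_eq_top_of_normal (commutator T) inferInstance with h | h
    · refine hnabT fun x hx y hy => ?_
      have hc : ⁅(⟨x, hx⟩ : T), (⟨y, hy⟩ : T)⁆ ∈ commutator T :=
        Subgroup.commutator_mem_commutator (Subgroup.mem_top _) (Subgroup.mem_top _)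
      rw [h, Subgroup.mem_bot, commutatorElement_eq_one_iff_mul_comm] at hc
      exact congrArg Subtype.val hc
    · exact (IsSolvable.commutator_lt_top_of_nontrivial T).ne h
  rw [Nat.not_odd_iff_even, even_iff_two_dvd] at hTeven
  obtain ⟨s, hso⟩ := exists_prime_orderOf_dvd_card' (G := T) 2 hTeven
  have hss : s * s = 1 := by rw [← sq, ← hso]; exact pow_orderOf_eq_one s
  -- involutions generate each factor
  have hfixT : ∀ g, ∀ w : V, w ≠ 1 → ¬ cj g ≤ stabilizer H w := by
    intro g w hw hle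
    have := fix_all hS hM hM1 hw hle fun k hk x hx => by
      simpa using hnorm g k⁻¹ (M.inv_mem hk) x hx
    simp only [hcj] at this; rw [Subgroup.map_eq_bot_iff_of_injective _ (MulAut.conj g).injective] at this
    exact hT1 this
  have hinvgen : ∀ g, ∀ w : V, w ≠ 1 → (∀ x ∈ cj g, x * x = 1 → x • w = w) → False := by
    intro g w hw hall
    set I : Subgroup H := Subgroup.closure {x | x ∈ cj g ∧ x * x = 1} with hI
    have hIle : I ≤ cj g := (Subgroup.closure_le _).2 fun x hx => hx.1
    have hIst : I ≤ stabilizer H w := (Subgroup.closure_le _).2 fun x hx => hall x hx.1 hx.2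
    have hIn : M ≤ Subgroup.normalizer (I : Set H) := by
      intro m hm
      have key : ∀ m ∈ M, ∀ x ∈ I, m * x * m⁻¹ ∈ I := by
        intro m hm x hx
        have : I.map (MulAut.conj m).toMonoidHom ≤ I := by
          rw [hI, MonoidHom.map_closure]
          refine Subgroup.closure_mono ?_
          rintro _ ⟨y, ⟨hy1, hy2⟩, rfl⟩
          refine ⟨hnorm g m hm y hy1, ?_⟩
          show m * y * m⁻¹ * (m * y * m⁻¹) = 1
          rw [show m * y * m⁻¹ * (m * y * m⁻¹) = m * (y * y) * m⁻¹ by group, hy2, mul_one,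
            mul_inv_cancel]
        exact this ⟨x, hx, rfl⟩
      rw [Subgroup.mem_normalizer_iff]
      refine fun x => ⟨key m hm x, fun hx => ?_⟩
      have := key m⁻¹ (M.inv_mem hm) _ hx
      simpa [mul_assoc] using this
    have hI1 : I ≠ ⊥ := fun h => by
      have hs1 : g * (s : H) * g⁻¹ ∈ I := Subgroup.subset_closure ⟨⟨s, s.2, rfl⟩, by
        rw [show g * (s : H) * g⁻¹ * (g * (s : H) * g⁻¹) = g * ((s : H) * s) * g⁻¹ by group,
          ← Subgroup.coe_mul, hss, Subgroup.coe_one, mul_one, mul_inv_cancel]⟩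
      rw [h, Subgroup.mem_bot, mul_inv_eq_one, mul_eq_left] at hs1
      rw [show s = 1 from Subtype.ext hs1, orderOf_one] at hso
      norm_num at hso
    exact hfixT g w hw ((hcjmin g I hIle hIn hI1) ▸ hIst)
  -- invariant families
  have hfam : ∀ (v : V), v ≠ 1 → ∀ F : Subgroup H → Subgroup H,
      (∀ x : H, x • v = v → ∀ g, (F (cj g)).map (MulAut.conj x).toMonoidHom ≤ F (cj (x * g))) →
      (∀ g, M ⊓ stabilizer H v ≤ F (cj g) ⊔ C (cj g)) →
      (∀ g, M ≤ F (cj g) ⊔ C (cj g)) ∨
        ∀ m ∈ M, (∀ g, m ∈ F (cj g) ⊔ C (cj g)) → m • v = v := by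
    intro v hv F hF hA
    let Ms : Subgroup H := M ⊓ ⨅ g, F (cj g) ⊔ C (cj g)
    have hst : stabilizer H v ≤ Subgroup.normalizer (Ms : Set H) := by
      have key : ∀ x ∈ stabilizer H v, ∀ m ∈ Ms, x * m * x⁻¹ ∈ Ms := by
        intro x hx m hm
        refine ⟨hM.conj_mem m hm.1 x, (Subgroup.mem_iInf).2 fun g => ?_⟩
        have h1 : m ∈ F (cj (x⁻¹ * g)) ⊔ C (cj (x⁻¹ * g)) := Subgroup.mem_iInf.1 hm.2 _
        have h2 : (F (cj (x⁻¹ * g)) ⊔ C (cj (x⁻¹ * g))).map (MulAut.conj x).toMonoidHom ≤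
            F (cj g) ⊔ C (cj g) := by
          rw [Subgroup.map_sup]
          refine sup_le_sup ?_ ?_
          · have := hF x hx (x⁻¹ * g)
            rwa [mul_inv_cancel_left] at this
          · have := map_others_le T (cj (x⁻¹ * g)) x
            simp only [hcj] at this
            rwa [map_conj_map, mul_inv_cancel_left] at this
        exact h2 ⟨m, h1, rfl⟩
      intro x hx
      rw [Subgroup.mem_normalizer_iff]
      refine fun m => ⟨key x hx m, fun hm => ?_⟩
      have := key x⁻¹ (inv_mem hx) _ hm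
      simpa [mul_assoc] using this
    have hA' : ∀ x ∈ M, x • v = v → x ∈ Ms := fun x hx hxv =>
      ⟨hx, Subgroup.mem_iInf.2 fun g => hA g ⟨hx, hxv⟩⟩
    rcases (hS.max v hv).le_iff.1 (le_sup_left : stabilizer H v ≤ stabilizer H v ⊔ Ms) with h | h
    · left
      intro g m hm
      have hmem : m ∈ ((stabilizer H v ⊔ Ms : Subgroup H) : Set H) := h ▸ Subgroup.mem_top m
      rw [Subgroup.coe_mul_of_left_le_normalizer_right _ _ hst] at hmem
      obtain ⟨x, hx, y, hy, rfl⟩ := Set.mem_mul.1 hmem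
      have hxM : x ∈ M := by
        have := M.mul_mem hm (M.inv_mem hy.1)
        rwa [mul_inv_cancel_right] at this
      exact Subgroup.mem_iInf.1 (mul_mem (hA' x hxM hx) hy).2 g
    · right
      intro m hm hall
      have : m ∈ stabilizer H v ⊔ Ms :=
        Subgroup.mem_sup_right ⟨hm, Subgroup.mem_iInf.2 hall⟩
      rw [h] at this
      exact this
  -- product type
  have hprod : ∀ v : V, v ≠ 1 → (∃ x ∈ T, x ≠ 1 ∧ x • v = v) →
      ∀ g, ∀ t ∈ cj g, ∀ c ∈ C (cj g), (t * c) • v = v → t • v = v := by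
    intro v hv ⟨x, hx, hx1, hxv⟩ g t ht c hc htc
    rcases hfam v hv (fun _ => M ⊓ stabilizer H v) (fun y hy k => by
      rintro _ ⟨z, hz, rfl⟩
      refine ⟨hM.conj_mem z hz.1 y, ?_⟩
      show (y * z * y⁻¹) • v = v
      rw [mul_smul, mul_smul, inv_smul_eq_iff.2 hy.symm, mem_stabilizer_iff.1 hz.2, hy])
      (fun k => le_sup_left) with h | h
    · exfalso
      have hX : (T ⊓ stabilizer H v : Subgroup H) ≠ ⊥ := fun e =>
        hx1 (Subgroup.mem_bot.1 (e ▸ (⟨hx, hxv⟩ : x ∈ T ⊓ stabilizer H v)))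
      have hn : M ≤ Subgroup.normalizer ((T ⊓ stabilizer H v : Subgroup H) : Set H) := by
        refine (h 1).trans (sup_le ?_ ?_)
        · intro a ha
          rw [Subgroup.mem_normalizer_iff]
          intro z
          refine and_congr (Subgroup.mem_normalizer_iff.1 (hTn ha.1) z) ?_
          have ha2 : a ∈ stabilizer H v := ha.2
          show z ∈ stabilizer H v ↔ a * z * a⁻¹ ∈ stabilizer H v
          exact ⟨fun hz => mul_mem (mul_mem ha2 hz) (inv_mem ha2), fun hz => by
            have := mul_mem (mul_mem (inv_mem ha2) hz) ha2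
            simpa [mul_assoc] using this⟩
        · intro b hb
          refine Subgroup.centralizer_le_normalizer _ (Subgroup.mem_centralizer_iff.2 fun z hz => ?_)
          exact hCcomm 1 z (hT.symm ▸ hz.1) b hb
      have he := hTmin _ inf_le_left hn hX
      exact hfixT 1 v hv (hT.symm ▸ (he ▸ inf_le_right))
    · refine h t (hcjM g ht) fun k => ?_
      by_cases hk : cj g = cj k
      · show t ∈ M ⊓ stabilizer H v ⊔ C (cj k)
        rw [← hk, ← mul_inv_cancel_right t c]
        exact mul_mem (Subgroup.mem_sup_left ⟨mul_mem (hcjM g ht) (hCM _ hc), htc⟩)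
          (Subgroup.mem_sup_right (inv_mem hc))
      · exact Subgroup.mem_sup_right (hcjC g _ hk ht)
  -- a second factor
  obtain ⟨g2, hg2⟩ : ∃ g, cj g ≠ cj 1 := by
    by_contra! h
    refine hne (le_antisymm hTM (hsupM.symm.le.trans (iSup_le fun g => ?_)))
    rw [h g, hT]
  have hP : ∀ v : V, v ≠ 1 → ∀ g ∈ T, g * g = 1 → g • v ≠ v → ∀ r ∈ T, r • v = v →
      r • g • v = g • v → r = 1 := by
    intro v hv g hg hgg hgv r hr hrv hrg
    by_contra hr1
    have hz : v * g • v ≠ 1 := fun e => hgv (eq_of_mul_eq_one hS e)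
    refine hinvgen g2 (v * g • v) hz fun y hy hyy => ?_
    have hgy : g * y = y * g := hcomm 1 g2 hg2.symm g (hT.symm ▸ hg) y hy
    have hry : r * y = y * r := hcomm 1 g2 hg2.symm r (hT.symm ▸ hr) y hy
    have hyC : y ∈ C (cj 1) := hcjC g2 _ hg2 hy
    set u : V := v * (g * y) • v with hu
    have hu1 : u ≠ 1 := fun e => hgv
      (hprod v hv ⟨r, hr, hr1, hrv⟩ 1 g (hT.symm ▸ hg) y hyC (eq_of_mul_eq_one hS e))
    have hru : r • u = u := by
      rw [hu, smul_mul', hrv, hgy, mul_smul, ← mul_smul, hry, mul_smul, hrg]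
    have hgyu : (g * y) • u = u := by
      rw [hu, smul_mul', ← mul_smul (g * y) (g * y) v]
      have : g * y * (g * y) = 1 := by
        rw [← mul_assoc, mul_assoc g y g, ← hgy, ← mul_assoc, hgg, one_mul, hyy]
      rw [this, one_smul, mul_comm]
    have hgu := hprod u hu1 ⟨r, hr, hr1, hru⟩ 1 g (hT.symm ▸ hg) y hyC hgyu
    have hyu : y • u = u := by
      calc y • u = y • (g • u) := by rw [hgu]
        _ = (g * y) • u := by rw [← mul_smul, hgy]
        _ = u := hgyu
    -- compare
    have e1 : g • u = g • v * y • v := by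
      rw [hu, smul_mul', ← mul_smul g (g * y) v, ← mul_assoc, hgg, one_mul]
    rw [hgu, hu, mul_smul] at e1
    rw [smul_mul', ← mul_smul y g v, ← hgy, mul_smul]
    calc y • v * g • y • v = g • v * (g • v * y • v) * g • y • v := by
          rw [← mul_assoc (g • v) (g • v), hS.sq, one_mul]
      _ = g • v * (v * g • y • v) * g • y • v := by rw [e1]
      _ = v * g • v := by
          rw [mul_assoc, mul_assoc v, hS.sq, mul_one, mul_comm]
  -- a vector with a non-trivial stabiliser in `T`
  have hs1 : (s : H) ≠ 1 := fun h => by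
    rw [show s = 1 from Subtype.ext h, orderOf_one] at hso
    norm_num at hso
  have hssH : (s : H) * s = 1 := congrArg Subtype.val hss
  obtain ⟨w, hw⟩ : ∃ w : V, (s : H) • w ≠ w := by
    by_contra! h
    exact hs1 (hS.faith _ h)
  set u : V := w * (s : H) • w with hu
  have hu1 : u ≠ 1 := fun e => hw (eq_of_mul_eq_one hS e)
  have hsu : (s : H) • u = u := by rw [hu, smul_mul', ← mul_smul, hssH, one_smul, mul_comm]
  set R : Subgroup T := (stabilizer H u).subgroupOf T with hR
  have hmemR : ∀ x : T, x ∈ R ↔ (x : H) • u = u := fun x => Iff.rfl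
  set E : Set T := {e | e ≠ 1 ∧ e * e = 1 ∧ e ∈ R} with hE
  have hsE : s ∈ E := ⟨fun h => hs1 (by rw [h]; rfl), hss, hsu⟩
  -- commuting involutions stay inside
  have hclosed : ∀ e ∈ E, ∀ t : T, t ≠ 1 → t * t = 1 → e * t = t * e → t ∈ E := by
    intro e he t ht1 htt het
    refine ⟨ht1, htt, ?_⟩
    by_contra htR
    refine he.1 (Subtype.ext (hP u hu1 t t.2 (congrArg Subtype.val htt) htR e e.2 he.2.2 ?_))
    rw [← mul_smul, show (e : H) * t = t * e from congrArg Subtype.val het, mul_smul,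
      show (e : H) • u = u from he.2.2]
  -- every member of `E` is linked to `s`
  have hlink : ∀ t ∈ E, ∃ c ∈ E, s * c = c * s ∧ t * c = c * t := by
    intro t ht
    set ρ : T := s * t with hρ
    have hsρ : s * ρ * s = ρ⁻¹ := by
      rw [hρ, mul_inv_rev, inv_eq_of_mul_eq_one_right ht.2.1, inv_eq_of_mul_eq_one_right hss,
        ← mul_assoc, hss, one_mul]
    have htρ : t * ρ * t = ρ⁻¹ := by
      rw [hρ, mul_inv_rev, inv_eq_of_mul_eq_one_right ht.2.1, inv_eq_of_mul_eq_one_right hss,
        mul_assoc t (s * t) t, mul_assoc, ht.2.1, mul_one]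
    by_cases hev : 2 ∣ orderOf ρ
    · obtain ⟨k, hk⟩ := hev
      have hopos := orderOf_pos ρ
      have hc2 : ρ ^ k * ρ ^ k = 1 := by rw [← pow_add, ← two_mul, ← hk, pow_orderOf_eq_one]
      have hc1 : ρ ^ k ≠ 1 := fun h => by
        have := Nat.le_of_dvd (by omega) (orderOf_dvd_of_pow_eq_one h)
        omega
      have hcinv : (ρ ^ k)⁻¹ = ρ ^ k := inv_eq_of_mul_eq_one_right hc2
      have hcom : ∀ x : T, x * x = 1 → x * ρ * x = ρ⁻¹ → x * ρ ^ k = ρ ^ k * x := by
        intro x hx hxρ
        have hxi : x⁻¹ = x := inv_eq_of_mul_eq_one_right hx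
        have : x * ρ ^ k * x⁻¹ = ρ ^ k := by
          rw [← conj_pow, hxi, hxρ, inv_pow, hcinv]
        exact mul_inv_eq_iff_eq_mul.1 this
      exact ⟨ρ ^ k, ⟨hc1, hc2, R.pow_mem (R.mul_mem hsu ht.2.2) k⟩, hcom s hss hsρ,
        hcom t ht.2.1 htρ⟩
    · by_cases hρ1 : ρ = 1
      · refine ⟨s, hsE, rfl, ?_⟩
        rw [hρ] at hρ1
        rw [← inv_eq_of_mul_eq_one_right hρ1, inv_eq_of_mul_eq_one_right hss]
      exfalso
      set o := orderOf ρ with ho
      have hρu : (ρ : H) • u = u := R.mul_mem hsu ht.2.2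
      set w0 : V := ∏ i ∈ Finset.range o, ((ρ : H) ^ i) • w with hw0
      have hρo : (ρ : H) ^ o = 1 := congrArg Subtype.val (pow_orderOf_eq_one ρ)
      have hρw0 : (ρ : H) • w0 = w0 := by
        rw [hw0, Finset.smul_prod']
        simp only [← mul_smul, ← pow_succ']
        have h1 := Finset.prod_range_succ' (fun j => ((ρ : H) ^ j) • w) o
        rw [Finset.prod_range_succ, hρo, pow_zero] at h1
        exact (mul_right_cancel h1).symm
      have hsρH : (s : H) * ρ = (ρ : H)⁻¹ * s := by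
        have : (s : H) * ρ * s = (ρ : H)⁻¹ := congrArg Subtype.val hsρ
        rw [← this, mul_assoc _ (s : H) s, hssH, mul_one]
      have hsw0 : (ρ : H) • (s : H) • w0 = (s : H) • w0 := by
        have h1 : (ρ : H) * s = s * (ρ : H)⁻¹ := by
          rw [eq_mul_inv_iff_mul_eq, mul_assoc, hsρH, mul_inv_cancel_left]
        rw [← mul_smul, h1, mul_smul, inv_smul_eq_iff.2 hρw0.symm]
      have hpow : u ^ o = u := by
        obtain ⟨k, hk⟩ := Nat.odd_iff.2 (Nat.two_dvd_ne_zero.1 hev)
        rw [hk, pow_succ, pow_mul, sq, hS.sq, one_pow, one_mul]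
      have hfixi : ∀ i : ℕ, ((ρ : H) ^ i) • u = u := by
        intro i
        induction i with
        | zero => simp
        | succ i ih => rw [pow_succ, mul_smul, hρu, ih]
      have hu0 : u = w0 * ∏ i ∈ Finset.range o, ((ρ : H) ^ i) • (s : H) • w := by
        rw [hw0, ← Finset.prod_mul_distrib]
        simp only [← smul_mul', ← hu, hfixi, Finset.prod_const, Finset.card_range, hpow]
      have hu0' : ∏ i ∈ Finset.range o, ((ρ : H) ^ i) • (s : H) • w = (s : H) • w0 := by
        rw [hw0, Finset.smul_prod']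
        refine Finset.prod_nbij' (fun i => (o - i) % o) (fun i => (o - i) % o) ?_ ?_ ?_ ?_ ?_
        · intro i _; exact Finset.mem_range.2 (Nat.mod_lt _ (orderOf_pos ρ))
        · intro i _; exact Finset.mem_range.2 (Nat.mod_lt _ (orderOf_pos ρ))
        · intro i hi
          rw [Finset.mem_range] at hi
          rcases Nat.eq_zero_or_pos i with rfl | hi0
          · simp
          · rw [Nat.mod_eq_of_lt (show o - i < o by omega),
              Nat.mod_eq_of_lt (show o - (o - i) < o by omega)]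
            omega
        · intro i hi
          rw [Finset.mem_range] at hi
          rcases Nat.eq_zero_or_pos i with rfl | hi0
          · simp
          · rw [Nat.mod_eq_of_lt (show o - i < o by omega),
              Nat.mod_eq_of_lt (show o - (o - i) < o by omega)]
            omega
        · intro i hi
          rw [← mul_smul, ← mul_smul]
          congr 1
          have h2 : ∀ j : ℕ, (s : H) * (ρ : H) ^ j = ((ρ : H)⁻¹) ^ j * s := fun j =>
            (SemiconjBy.pow_right hsρH j)
          rw [h2, pow_eq_pow_mod ((o - i) % o) (show ((ρ : H)⁻¹) ^ o = 1 by rw [inv_pow, hρo, inv_one])]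
          congr 1
          rw [Finset.mem_range] at hi
          rcases Nat.eq_zero_or_pos i with rfl | hi0
          · simp
          · rw [Nat.mod_eq_of_lt (show o - i < o by omega), Nat.mod_eq_of_lt (show o - i < o by omega),
              inv_pow, eq_inv_iff_mul_eq_one, ← pow_add, show i + (o - i) = o by omega, hρo]
      rw [hu0'] at hu0
      have hw01 : w0 ≠ 1 := fun e => hu1 (by rw [hu0, e, smul_one, one_mul])
      refine hρ1 (Subtype.ext (hP w0 hw01 s s.2 hssH ?_ ρ ρ.2 hρw0 hsw0))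
      intro e
      rw [e, hS.sq] at hu0
      exact hu1 hu0
  -- `R` is the stabiliser of `E`
  have hstabE : ∀ x : T, (∀ e ∈ E, x * e * x⁻¹ ∈ E) → x ∈ R := by
    intro x hx
    let In : Subgroup H → Set H :=
      fun J => {e | e ∈ J ∧ e ≠ 1 ∧ e * e = 1 ∧ e • u = u}
    rcases hfam u hu1 (fun J => J ⊓ Subgroup.normalizer (In J)) (fun y hy k => by
      rintro _ ⟨z, ⟨hz1, hz2⟩, rfl⟩
      have hkey : cj (y * k) = (cj k).map (MulAut.conj y).toMonoidHom := (map_conj_map T y k).symm
      refine ⟨hkey ▸ ⟨z, hz1, rfl⟩, ?_⟩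
      have hmem : ∀ e, e ∈ In (cj (y * k)) ↔ y⁻¹ * e * y ∈ In (cj k) := by
        intro e
        have h1 : e ∈ cj (y * k) ↔ y⁻¹ * e * y ∈ cj k := by
          rw [hkey]
          constructor
          · rintro ⟨a, ha, rfl⟩; simpa [mul_assoc] using ha
          · intro ha; exact ⟨_, ha, by simp [mul_assoc]⟩
        simp only [In, Set.mem_setOf_eq]
        refine and_congr h1 (and_congr ?_ (and_congr ?_ ?_))
        · refine not_congr ⟨fun h => by rw [h]; group, fun h => ?_⟩
          have := congrArg (fun a => y * a * y⁻¹) h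
          simpa [mul_assoc] using this
        · constructor
          · intro h
            rw [show y⁻¹ * e * y * (y⁻¹ * e * y) = y⁻¹ * (e * e) * y by group, h]; group
          · intro h
            have := congrArg (fun a => y * a * y⁻¹) h
            simpa [mul_assoc] using this
        · rw [mul_smul, mul_smul, mem_stabilizer_iff.1 hy, inv_smul_eq_iff, mem_stabilizer_iff.1 hy]
      show y * z * y⁻¹ ∈ Subgroup.normalizer (In (cj (y * k)))
      rw [Subgroup.mem_set_normalizer_iff]
      intro e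
      rw [hmem, hmem, Subgroup.mem_set_normalizer_iff.1 hz2 (y⁻¹ * e * y)]
      simp [mul_assoc]) (fun k => by
      intro a ha
      obtain ⟨t, ht, c, hc, rfl⟩ := hsplit k a ha.1
      have htu : t • u = u := hprod u hu1 ⟨s, s.2, hs1, hsu⟩ k t ht c hc ha.2
      refine mul_mem (Subgroup.mem_sup_left ⟨ht, ?_⟩) (Subgroup.mem_sup_right hc)
      show t ∈ Subgroup.normalizer (In (cj k))
      rw [Subgroup.mem_set_normalizer_iff]
      intro e
      simp only [In, Set.mem_setOf_eq]
      refine and_congr (Subgroup.mem_normalizer_iff.1 (hnle k (hcjM k ht)) e)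
        (and_congr ?_ (and_congr ?_ ?_))
      · refine not_congr ⟨fun h => by rw [h]; group, fun h => ?_⟩
        have := congrArg (fun a => t⁻¹ * a * t) h
        simpa [mul_assoc] using this
      · constructor
        · intro h
          rw [show t * e * t⁻¹ * (t * e * t⁻¹) = t * (e * e) * t⁻¹ by group, h]; group
        · intro h
          have := congrArg (fun a => t⁻¹ * a * t) h
          simpa [mul_assoc] using this
      · rw [mul_smul, mul_smul, inv_smul_eq_iff.2 htu.symm]
        exact ⟨fun h => by rw [h, htu], fun h => smul_left_cancel t (h.trans htu.symm)⟩) with h | h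
    · exfalso
      have hTn' : T ≤ Subgroup.normalizer (In T) := by
        intro t ht
        obtain ⟨a, ha, b, hb, hab⟩ : ∃ a ∈ T ⊓ Subgroup.normalizer (In T), ∃ b ∈ C T, t = a * b := by
          have h1 := h 1 (hTM ht)
          rw [hT] at h1
          have hn : T ⊓ Subgroup.normalizer (In T) ≤ Subgroup.normalizer (C T : Set H) := by
            intro a ha
            refine Subgroup.centralizer_le_normalizer _ (Subgroup.mem_centralizer_iff.2 fun z hz => ?_)
            exact (hCcomm 1 a (hT.symm ▸ ha.1) z (hT.symm ▸ hz)).symm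
          have h2 : t ∈ ((T ⊓ Subgroup.normalizer (In T) ⊔ C T : Subgroup H) : Set H) := h1
          rw [Subgroup.coe_mul_of_left_le_normalizer_right _ _ hn] at h2
          obtain ⟨a, ha, b, hb, e⟩ := Set.mem_mul.1 h2
          exact ⟨a, ha, b, hb, e.symm⟩
        have hbT : b ∈ T ⊓ C T := ⟨by
          have := T.mul_mem (T.inv_mem ha.1) (hab ▸ ht : a * b ∈ T)
          rwa [inv_mul_cancel_left] at this, hb⟩
        rw [hTC, Subgroup.mem_bot] at hbT
        rw [hab, hbT, mul_one]
        exact ha.2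
      have hle : T ≤ stabilizer H u := by
        refine le_trans ?_ ((Subgroup.closure_le _).2 fun e (he : e ∈ In T) => he.2.2.2 :
          Subgroup.closure (In T) ≤ stabilizer H u)
        have hmem : (s : H) ∈ In T := ⟨s.2, hs1, hssH, hsu⟩
        have hn : M ≤ Subgroup.normalizer ((Subgroup.closure (In T) : Subgroup H) : Set H) := by
          intro m hm
          obtain ⟨t, ht, c, hc, rfl⟩ := hsplit 1 m hm
          rw [hT] at ht hc
          refine mul_mem ?_ ?_
          · exact Subgroup.normalizer_le_normalizer_closure _ (hTn' ht)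
          · refine Subgroup.centralizer_le_normalizer _ ?_
            rw [Subgroup.centralizer_closure, Subgroup.mem_centralizer_iff]
            exact fun e he => hCcomm 1 e (hT.symm ▸ he.1) c (hT.symm ▸ hc)
        exact (hTmin _ ((Subgroup.closure_le _).2 fun e (he : e ∈ In T) => he.1) hn
          fun h0 => hs1 (Subgroup.mem_bot.1 (h0 ▸ Subgroup.subset_closure hmem))).ge
      exact hfixT 1 u hu1 (hT.symm ▸ hle)
    · show (x : H) • u = u
      refine h x (hTM x.2) fun k => ?_
      by_cases hk : cj 1 = cj k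
      · refine Subgroup.mem_sup_left ?_
        show (x : H) ∈ cj k ⊓ Subgroup.normalizer (In (cj k))
        rw [← hk, hT]
        refine ⟨x.2, ?_⟩
        show (x : H) ∈ Subgroup.normalizer (In T)
        rw [Subgroup.mem_set_normalizer_iff]
        intro e
        have hfin : (In T).Finite := Set.toFinite _
        have himg : (fun a => (x : H) * a * (x : H)⁻¹) '' In T = In T := by
          refine Set.Finite.eq_of_subset_of_card_le hfin ?_ ?_
          · rintro _ ⟨a, ⟨ha1, ha2, ha3, ha4⟩, rfl⟩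
            have := hx ⟨a, ha1⟩ ⟨fun h0 => ha2 (congrArg Subtype.val h0), Subtype.ext ha3, ha4⟩
            exact ⟨(x * ⟨a, ha1⟩ * x⁻¹ : T).2, fun h0 => this.1 (Subtype.ext h0),
              congrArg Subtype.val this.2.1, this.2.2⟩
          · rw [Nat.card_image_of_injective (fun a b hab => by simpa using hab) _]
        constructor
        · intro he
          exact himg ▸ ⟨e, he, rfl⟩
        · intro he
          rw [← himg] at he
          obtain ⟨a, ha, hae⟩ := he
          rw [show e = a by simpa using hae.symm]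
          exact ha
      · exact Subgroup.mem_sup_right (hcjC 1 _ hk (hT.symm ▸ x.2))
  have hconj : ∀ x : T, x * s * x⁻¹ ∈ E → x ∈ R := by
    intro x hx
    refine hstabE x fun e he => ?_
    obtain ⟨c, hc, hsc, hec⟩ := hlink e he
    have hne1 : ∀ a : T, a ≠ 1 → x * a * x⁻¹ ≠ 1 := fun a ha h => ha (by
      have := congrArg (fun z => x⁻¹ * z * x) h
      simpa [mul_assoc] using this)
    have hsq : ∀ a : T, a * a = 1 → x * a * x⁻¹ * (x * a * x⁻¹) = 1 := fun a ha => by
      rw [show x * a * x⁻¹ * (x * a * x⁻¹) = x * (a * a) * x⁻¹ by group, ha]; group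
    have hcm : ∀ a b : T, a * b = b * a → x * a * x⁻¹ * (x * b * x⁻¹) = x * b * x⁻¹ * (x * a * x⁻¹) :=
      fun a b hab => by
        rw [show x * a * x⁻¹ * (x * b * x⁻¹) = x * (a * b) * x⁻¹ by group, hab]; group
    exact hclosed _ (hclosed _ hx _ (hne1 c hc.1) (hsq c hc.2.1) (hcm s c hsc)) _ (hne1 e he.1)
      (hsq e he.2.1) (hcm c e hec.symm)
  -- counting
  set I : Set T := {e | e ≠ 1 ∧ e * e = 1} with hI
  have hEI : E ⊆ I := fun e he => ⟨he.1, he.2.1⟩
  have hn2 : 2 ≤ Nat.card (T ⧸ R) := by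
    by_contra! h
    refine hfixT 1 u hu1 fun x hx => ?_
    haveI : Subsingleton (T ⧸ R) := Finite.card_le_one_iff_subsingleton.1 (by omega)
    have : (⟨x, hT ▸ hx⟩ : T) ∈ R := by
      have := QuotientGroup.eq.1 (Subsingleton.elim ((1 : T) : T ⧸ R) (⟨x, hT ▸ hx⟩ : T))
      simpa using this
    exact this
  have hlow : Nat.card (T ⧸ R) * E.ncard ≤ I.ncard := by
    rw [← Nat.card_coe_set_eq, ← Nat.card_coe_set_eq, ← Nat.card_prod]
    refine Nat.card_le_card_of_injective
      (fun p : (T ⧸ R) × E => (⟨p.1.out * (p.2 : T) * p.1.out⁻¹, fun h => p.2.2.1 (by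
          have := congrArg (fun z => p.1.out⁻¹ * z * p.1.out) h
          simpa [mul_assoc] using this), by
        rw [show p.1.out * (p.2 : T) * p.1.out⁻¹ * (p.1.out * (p.2 : T) * p.1.out⁻¹) =
          p.1.out * ((p.2 : T) * p.2) * p.1.out⁻¹ by group, p.2.2.2.1]; group⟩ : I)) ?_
    rintro ⟨a, e, he⟩ ⟨b, f, hf⟩ hab
    have h1 : a.out * e * a.out⁻¹ = b.out * f * b.out⁻¹ := congrArg Subtype.val hab
    obtain ⟨c, hc, hsc, hec⟩ := hlink e he
    set x := b.out⁻¹ * a.out with hx
    have hxe : x * e * x⁻¹ = f := by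
      rw [hx, show b.out⁻¹ * a.out * e * (b.out⁻¹ * a.out)⁻¹ =
        b.out⁻¹ * (a.out * e * a.out⁻¹) * b.out by group, h1]
      group
    have hne1 : ∀ z : T, z ≠ 1 → x * z * x⁻¹ ≠ 1 := fun z hz h => hz (by
      have := congrArg (fun w => x⁻¹ * w * x) h
      simpa [mul_assoc] using this)
    have hsq : ∀ z : T, z * z = 1 → x * z * x⁻¹ * (x * z * x⁻¹) = 1 := fun z hz => by
      rw [show x * z * x⁻¹ * (x * z * x⁻¹) = x * (z * z) * x⁻¹ by group, hz]; group
    have hcm : ∀ z z' : T, z * z' = z' * z →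
        x * z * x⁻¹ * (x * z' * x⁻¹) = x * z' * x⁻¹ * (x * z * x⁻¹) := fun z z' hz => by
      rw [show x * z * x⁻¹ * (x * z' * x⁻¹) = x * (z * z') * x⁻¹ by group, hz]; group
    have hxc : x * c * x⁻¹ ∈ E :=
      hclosed _ (hxe ▸ hf) _ (hne1 c hc.1) (hsq c hc.2.1) (hcm e c hec)
    have hxs : x * s * x⁻¹ ∈ E :=
      hclosed _ hxc _ (hne1 s hsE.1) (hsq s hss) (hcm c s hsc.symm)
    have heq : a = b := by
      rw [← a.out_eq', ← b.out_eq']
      exact QuotientGroup.eq.2 (by
        have := R.inv_mem (hconj x hxs)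
        rwa [hx, mul_inv_rev, inv_inv] at this)
    subst heq
    simp only [Prod.mk.injEq, true_and]
    exact Subtype.ext (by simpa using h1)
  have hup : (I \ E).ncard ≤ Nat.card (T ⧸ R) - 1 := by
    have h1 : ({((1 : T) : T ⧸ R)}ᶜ : Set (T ⧸ R)).ncard = Nat.card (T ⧸ R) - 1 := by
      rw [Set.ncard_compl, Set.ncard_singleton]
    rw [← h1]
    refine Set.ncard_le_ncard_of_injOn (fun g : T => (g : T ⧸ R)) (fun g hg => ?_) ?_ (Set.toFinite _)
    · intro h
      refine hg.2 ⟨hg.1.1, hg.1.2, ?_⟩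
      have := QuotientGroup.eq.1 (show (g : T ⧸ R) = ((1 : T) : T ⧸ R) from h)
      rw [mul_one] at this
      simpa using R.inv_mem this
    · intro g hg g' hg' he
      have hr : g⁻¹ * g' ∈ R := QuotientGroup.eq.1 he
      have hgi : g⁻¹ = g := inv_eq_of_mul_eq_one_right hg.1.2
      have hg'i : g'⁻¹ = g' := inv_eq_of_mul_eq_one_right hg'.1.2
      have hgR : (g : H) • u ≠ u := fun h => hg.2 ⟨hg.1.1, hg.1.2, h⟩
      rw [hgi] at hr
      have hr' : g' * g ∈ R := by
        have := R.inv_mem hr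
        rwa [mul_inv_rev, hgi, hg'i] at this
      have h0 : ((g * g' : T) : H) = 1 := hP u hu1 g g.2 (congrArg Subtype.val hg.1.2) hgR _
        (g * g').2 hr (by
          rw [← mul_smul, Subgroup.coe_mul, mul_assoc, mul_smul,
            show ((g' : H) * g) • u = u from hr'])
      have h2 : g * g' = 1 := Subtype.ext h0
      rw [← inv_eq_of_mul_eq_one_right h2, hgi]
  have hsplitI : I.ncard = (I \ E).ncard + E.ncard := (Set.ncard_diff_add_ncard_of_subset hEI).symm
  have hE1 : E.ncard = 1 := by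
    have hpos : 1 ≤ E.ncard := (Set.ncard_pos (Set.toFinite E)).2 ⟨s, hsE⟩
    rcases Nat.lt_or_ge 1 E.ncard with h | h
    · exfalso
      have h3 : Nat.card (T ⧸ R) * E.ncard ≤ Nat.card (T ⧸ R) - 1 + E.ncard :=
        hlow.trans (hsplitI ▸ Nat.add_le_add_right hup _)
      obtain ⟨n, hn⟩ : ∃ n, Nat.card (T ⧸ R) = n + 2 := ⟨Nat.card (T ⧸ R) - 2, by omega⟩
      obtain ⟨m, hm⟩ : ∃ m, E.ncard = m + 2 := ⟨E.ncard - 2, by omega⟩
      rw [hn, hm] at h3
      rw [show n + 2 - 1 = n + 1 from rfl] at h3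
      nlinarith
    · omega
  obtain ⟨e0, he0⟩ := Set.ncard_eq_one.1 hE1
  have hsol : Cfsg.Agent.ZStarBasic.Solitary s := by
    refine ⟨hso, fun t ht hts => ?_⟩
    have htE : t ∈ E := hclosed s hsE t (fun h => by rw [h, orderOf_one] at ht; norm_num at ht)
      (by rw [← sq, ← ht]; exact pow_orderOf_eq_one t) hts.eq.symm
    rw [he0, Set.mem_singleton_iff] at htE hsE
    rw [htE, hsE]
  have hO : Cfsg.pPrimeCore 2 T = ⊥ := by
    haveI : (Cfsg.pPrimeCore 2 T).Normal := Cfsg.Agent.HallCore.pPrimeCore_normal 2 T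
    rcases hsimp.eq_bot_or_eq_top_of_normal _ this with h | h
    · exact h
    · exfalso
      have := Cfsg.Agent.ZStarTheorem.odd_card_pPrimeCore (G := T)
      rw [h, Subgroup.card_top, ← Nat.not_even_iff_odd, even_iff_two_dvd] at this
      exact this hTeven
  have hz := Cfsg.Agent.ZStarTheorem.mem_center_of_isolated hsol.isolated hO
  rcases hsimp.eq_bot_or_eq_top_of_normal (Subgroup.center T) inferInstance with h | h
  · rw [h, Subgroup.mem_bot] at hz
    exact hs1 (congrArg Subtype.val hz)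
  · refine hnabT fun x hx y hy => ?_
    exact congrArg Subtype.val (Subgroup.mem_center_iff.1 (h ▸ Subgroup.mem_top (⟨y, hy⟩ : T)) ⟨x, hx⟩)

end factors

/-- The stabiliser is almost simple. -/
theorem almostSimple (hns : ¬ Group.IsSolvable H)
    (hFT : ∀ K : Subgroup H, Odd (Nat.card K) → Group.IsSolvable K) :
    ∃ T : Subgroup H, T.Normal ∧ IsSimpleGroup T ∧ ¬ IsMulCommutative T ∧
      Subgroup.centralizer (T : Set H) = ⊥ := by
  haveI : Nontrivial H := by
    by_contra h
    rw [not_nontrivial_iff_subsingleton] at h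
    exact hns (Group.isSolvable_of_comm fun a b => Subsingleton.elim _ _)
  obtain ⟨M, -, hM, hM1, hmin⟩ := exists_minimal_normal hS (inferInstance : (⊤ : Subgroup H).Normal)
    top_ne_bot
  refine ⟨M, hM, ?_, fun h => hM1 (eq_bot_of_abelian hS hns hM fun a ha b hb => ?_),
    minimal_facts hS hns hFT hM hM1 hmin⟩
  · obtain ⟨T, ⟨hTM, hTn, hT1⟩, hTmin⟩ :=
      (Set.toFinite {T : Subgroup H | T ≤ M ∧ M ≤ Subgroup.normalizer (T : Set H) ∧ T ≠ ⊥}).exists_minimal
        ⟨M, le_rfl, Subgroup.le_normalizer, hM1⟩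
    have heq := eq_of_le_minimal hS hns hFT hM hM1 hTM hT1 hTn
      (fun Y hY hYn hY1 => le_antisymm hY (hTmin ⟨hY.trans hTM, hYn, hY1⟩ hY)) hmin
    subst heq
    haveI : Nontrivial T := (Subgroup.nontrivial_iff_ne_bot T).2 hT1
    refine IsSimpleGroup.mk fun Y hY => ?_
    by_cases hY1 : Y = ⊥
    · exact Or.inl hY1
    refine Or.inr (Subgroup.map_injective T.subtype_injective ?_)
    rw [← MonoidHom.range_eq_map, Subgroup.range_subtype]
    refine le_antisymm (Subgroup.map_subtype_le Y) (hTmin ⟨Subgroup.map_subtype_le Y, ?_,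
      fun h => hY1 ((Subgroup.map_eq_bot_iff_of_injective _ T.subtype_injective).1 h)⟩
      (Subgroup.map_subtype_le Y))
    have : Y.map T.subtype ≤ T := Subgroup.map_subtype_le Y
    intro t ht
    rw [Subgroup.mem_normalizer_iff]
    intro z
    constructor
    · rintro ⟨y, hy, rfl⟩
      exact ⟨⟨t, ht⟩ * y * (⟨t, ht⟩ : T)⁻¹, hY.conj_mem y hy _, rfl⟩
    · rintro ⟨y, hy, e⟩
      refine ⟨(⟨t, ht⟩ : T)⁻¹ * y * (⟨t, ht⟩ : T)⁻¹⁻¹, hY.conj_mem y hy _, ?_⟩
      have e' : (y : H) = t * z * t⁻¹ := e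
      show t⁻¹ * (y : H) * t⁻¹⁻¹ = z
      rw [e']; group
  · exact congrArg Subtype.val (h.is_comm.comm ⟨a, ha⟩ ⟨b, hb⟩)

end Cfsg.Agent.ExtPrimAffine56
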