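import Mathlib
import Cfsg.Agent.Lib.ExtPrimAffine56

/-!
Affine extremely primitive insoluble groups: the prime is two and a point stabiliser is almost
simple (modulo the odd order theorem, taken as a hypothesis).
-/

set_option autoImplicit false

namespace Cfsg.Agent.ExtPrimGlue56

open MulAction

universe u

variable {H : Type*} [Group H] [Finite H] {V : Type*} [CommGroup V] [MulDistribMulAction H V]

/-- An involution of a faithful irreducible group with maximal vector stabilisers forces exponent two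
or commutativity. -/
theorem comm_of_odd {p : ℕ} (hp : p.Prime) (hp2 : p ≠ 2) (hexp : ∀ v : V, v ^ p = 1)
    (hfaith : ∀ h : H, (∀ v : V, h • v = v) → h = 1)
    (hirr : ∀ U : Subgroup V, (∀ h : H, ∀ u ∈ U, h • u ∈ U) → U = ⊥ ∨ U = ⊤)
    (hmax : ∀ v : V, v ≠ 1 → IsCoatom (stabilizer H v))
    {s : H} (hs : s * s = 1) (hs1 : s ≠ 1) : ∀ a b : H, a * b = b * a := by
  obtain ⟨w, hw⟩ : ∃ w : V, s • w ≠ w := by
    by_contra! h
    exact hs1 (hfaith s h)
  set u : V := w * (s • w)⁻¹ with hu
  have hu1 : u ≠ 1 := fun e => hw (mul_inv_eq_one.1 e).symm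
  have hsu : s • u = u⁻¹ := by
    rw [hu, smul_mul', smul_inv', ← mul_smul, hs, one_smul, mul_inv_rev, inv_inv]
  have hne : u⁻¹ ≠ u := fun e => by
    have h2 : u ^ 2 = 1 := by rw [sq]; exact inv_eq_iff_mul_eq_one.1 e
    refine hu1 (orderOf_eq_one_iff.1 (Nat.eq_one_of_dvd_coprimes
      ((Nat.coprime_primes Nat.prime_two hp).2 hp2.symm) (orderOf_dvd_of_pow_eq_one h2)
      (orderOf_dvd_of_pow_eq_one (hexp u))))
  let L : Subgroup H :=
    { carrier := {h | h • u = u ∨ h • u = u⁻¹}
      one_mem' := Or.inl (one_smul _ _)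
      mul_mem' := by
        intro a b ha hb
        simp only [Set.mem_setOf_eq] at *
        rw [mul_smul]
        rcases hb with hb | hb <;> rcases ha with ha | ha <;> simp [hb, ha, smul_inv']
      inv_mem' := by
        intro a ha
        simp only [Set.mem_setOf_eq] at *
        rcases ha with ha | ha
        · exact Or.inl (inv_smul_eq_iff.2 ha.symm)
        · refine Or.inr (inv_smul_eq_iff.2 ?_)
          rw [smul_inv', ha, inv_inv] }
  have hL : L = ⊤ := by
    refine (hmax u hu1).2 L (SetLike.lt_iff_le_and_exists.2 ⟨fun h hh => Or.inl hh, s, Or.inr hsu, ?_⟩)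
    intro h
    exact hne (hsu.symm.trans h)
  have hall : ∀ h : H, h • u = u ∨ h • u = u⁻¹ := fun h => (hL ▸ Subgroup.mem_top h : h ∈ L)
  have hmap : ∀ (h : H) (k : ℤ), h • (u ^ k) = (h • u) ^ k := fun h k =>
    map_zpow (MulDistribMulAction.toMonoidHom V h) u k
  have hgen : Subgroup.zpowers u = ⊤ := by
    refine (hirr _ fun h v hv => ?_).resolve_left (fun e => hu1 ?_)
    · obtain ⟨k, rfl⟩ := Subgroup.mem_zpowers_iff.1 hv
      rw [hmap]
      refine Subgroup.zpow_mem _ ?_ k
      rcases hall h with e | e <;> rw [e]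
      · exact Subgroup.mem_zpowers u
      · exact Subgroup.inv_mem _ (Subgroup.mem_zpowers u)
    · exact Subgroup.mem_bot.1 (e ▸ Subgroup.mem_zpowers u)
  intro a b
  refine inv_mul_eq_one.1 (hfaith ((a * b)⁻¹ * (b * a)) fun v => ?_)
  obtain ⟨k, rfl⟩ := Subgroup.mem_zpowers_iff.1 (hgen ▸ Subgroup.mem_top v : v ∈ Subgroup.zpowers u)
  rw [mul_smul, inv_smul_eq_iff, hmap, hmap, mul_smul, mul_smul]
  congr 1
  rcases hall a with ea | ea <;> rcases hall b with eb | eb <;> simp [ea, eb, smul_inv']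

/-- The statement, with the odd order theorem as a hypothesis. -/
theorem main {G : Type u} [Group G] [Finite G] {Ω : Type*} [Fintype Ω] [MulAction G Ω]
    [FaithfulSMul G Ω]
    (hFT : ∀ (K : Type u) [Group K] [Finite K], Odd (Nat.card K) → Group.IsSolvable K)
    (p d : ℕ) (hp : p.Prime) (hcard : Fintype.card Ω = p ^ d) (hsol : ¬ Group.IsSolvable G)
    (N : Subgroup G) [N.Normal] (hN : N ≠ ⊥) (hNc : IsMulCommutative N)
    (hNreg : ∀ ω : Ω, MulAction.stabilizer N ω = ⊥)
    (hprim : MulAction.IsPreprimitive G Ω) (hH : ∀ α : Ω, MulAction.stabilizer G α ≠ ⊥)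
    (hep : ∀ (α : Ω) (ω : Ω), MulAction.IsPreprimitive (MulAction.stabilizer G α)
      (MulAction.orbit (MulAction.stabilizer G α) ω)) (α : Ω) :
    p = 2 ∧ ∃ T : Subgroup (MulAction.stabilizer G α), T.Normal ∧ IsSimpleGroup T ∧
      ¬ IsMulCommutative T ∧ Subgroup.centralizer (T : Set (MulAction.stabilizer G α)) = ⊥ := by
  classical
  let S : Subgroup G := MulAction.stabilizer G α
  have htrans : ∀ M : Subgroup G, M.Normal → M ≠ ⊥ → IsPretransitive M Ω := by
    intro M hM hM1
    haveI := hM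
    refine IsQuasiPreprimitive.isPretransitive_of_normal (N := M) fun hfix => hM1 ?_
    rw [Subgroup.eq_bot_iff_forall]
    intro m hm
    exact eq_of_smul_eq_smul (α := Ω) fun ω => by
      have : ω ∈ fixedPoints M Ω := hfix ▸ Set.mem_univ ω
      rw [one_smul]
      exact this ⟨m, hm⟩
  haveI hNt := htrans N inferInstance hN
  letI : CommGroup N := { (inferInstance : Group N) with mul_comm := fun a b => hNc.is_comm.comm a b }
  letI : MulDistribMulAction S N :=
    MulDistribMulAction.compHom N ((MulAut.conjNormal (H := N)).comp S.subtype)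
  have hcoe : ∀ (h : S) (n : N), ((h • n : N) : G) = h * n * (h : G)⁻¹ := fun h n =>
    MulAut.conjNormal_apply _ _
  have hinj : ∀ n m : N, (n : G) • α = (m : G) • α → n = m := by
    intro n m h
    have : m⁻¹ * n ∈ stabilizer N α := by
      rw [mem_stabilizer_iff, mul_smul]
      show ((m⁻¹ : N) : G) • (n : G) • α = α
      rw [h, Subgroup.coe_inv, inv_smul_smul]
    rw [hNreg α, Subgroup.mem_bot, inv_mul_eq_one] at this
    exact this.symm
  have hsurj : ∀ ω : Ω, ∃ n : N, (n : G) • α = ω := fun ω => exists_smul_eq N α ω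
  have hequiv : ∀ (h : S) (n : N), (h : G) • ((n : G) • α) = ((h • n : N) : G) • α := by
    intro h n
    rw [hcoe, mul_smul, mul_smul, inv_smul_eq_iff.2 (mem_stabilizer_iff.1 h.2).symm]
  have hfix : ∀ (h : S) (n : N), h • n = n ↔ (h : G) • ((n : G) • α) = (n : G) • α := by
    intro h n
    rw [hequiv]
    exact ⟨fun e => by rw [e], fun e => hinj _ _ e⟩
  have hfaith : ∀ h : S, (∀ n : N, h • n = n) → h = 1 := by
    intro h hh
    refine Subtype.ext (eq_of_smul_eq_smul (α := Ω) fun ω => ?_)
    obtain ⟨n, rfl⟩ := hsurj ω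
    rw [(hfix h n).1 (hh n), Subgroup.coe_one, one_smul]
  have hdec : ∀ g : G, ∃ (n : N) (h : S), g = (n : G) * h := by
    intro g
    obtain ⟨n, hn⟩ := hsurj (g • α)
    refine ⟨n, ⟨(n : G)⁻¹ * g, ?_⟩, by simp⟩
    show ((n : G)⁻¹ * g) • α = α
    rw [mul_smul, ← hn, inv_smul_smul]
  have hirr : ∀ U : Subgroup N, (∀ h : S, ∀ u ∈ U, h • u ∈ U) → U = ⊥ ∨ U = ⊤ := by
    intro U hU
    by_cases hU1 : U = ⊥
    · exact Or.inl hU1
    refine Or.inr ((Subgroup.eq_top_iff' U).2 fun n => ?_)
    have hn : (U.map N.subtype).Normal := by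
      refine ⟨?_⟩
      rintro _ ⟨x, hx, rfl⟩ g
      obtain ⟨m, h, rfl⟩ := hdec g
      refine ⟨h • x, hU h x hx, ?_⟩
      have e : m * (h • x) * m⁻¹ = h • x := by rw [mul_comm m, mul_inv_cancel_right]
      have := congrArg Subtype.val e
      rw [Subgroup.coe_mul, Subgroup.coe_mul, Subgroup.coe_inv, hcoe] at this
      show ((h • x : N) : G) = (m : G) * h * (x : G) * ((m : G) * h)⁻¹
      rw [hcoe, ← this]
      group
    have hne : U.map N.subtype ≠ ⊥ := fun e =>
      hU1 ((Subgroup.map_eq_bot_iff_of_injective _ N.subtype_injective).1 e)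
    haveI := htrans _ hn hne
    obtain ⟨⟨_, x, hx, rfl⟩, hxn⟩ := exists_smul_eq (U.map N.subtype) α ((n : G) • α)
    rw [← hinj x n hxn]
    exact hx
  have hHne : (⊥ : Subgroup S) ≠ ⊤ := fun e => by
    refine hH α ((Subgroup.eq_bot_iff_forall _).2 fun g hg => ?_)
    have : (⟨g, hg⟩ : S) ∈ (⊥ : Subgroup S) := e ▸ Subgroup.mem_top _
    exact congrArg Subtype.val (Subgroup.mem_bot.1 this)
  have hnofix : ∀ n : N, (∀ h : S, h • n = n) → n = 1 := by
    intro n hn
    let U : Subgroup N :=
      { carrier := {m | ∀ h : S, h • m = m}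
        one_mem' := fun h => smul_one h
        mul_mem' := fun {a b} ha hb h => by rw [smul_mul', ha h, hb h]
        inv_mem' := fun {a} ha h => by rw [smul_inv', ha h] }
    rcases hirr U (fun h m hm => by rw [hm h]; exact hm) with e | e
    · exact Subgroup.mem_bot.1 (e ▸ (hn : n ∈ U))
    · refine absurd ?_ hHne
      rw [eq_comm, Subgroup.eq_bot_iff_forall]
      exact fun h _ => hfaith h fun m => (e ▸ Subgroup.mem_top m : m ∈ U) h
  have hmax : ∀ n : N, n ≠ 1 → IsCoatom (stabilizer S n) := by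
    intro n hn
    set ω : Ω := (n : G) • α with hω
    haveI := hep α ω
    haveI : Nontrivial (orbit S ω) := by
      obtain ⟨h, hh⟩ : ∃ h : S, h • n ≠ n := by
        by_contra! h
        exact hn (hnofix n h)
      refine ⟨⟨h • ω, mem_orbit ω h⟩, ⟨ω, mem_orbit_self ω⟩, fun e => hh ((hfix h n).2 ?_)⟩
      exact congrArg Subtype.val e
    have := IsPreprimitive.isCoatom_stabilizer_of_isPreprimitive (G := S)
      (⟨ω, mem_orbit_self ω⟩ : orbit S ω)
    convert this using 1
    ext h
    rw [mem_stabilizer_iff, mem_stabilizer_iff, hfix, Subtype.ext_iff, orbit.coe_smul]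
    rfl
  have hcardN : Nat.card N = p ^ d := by
    rw [← hcard, ← Nat.card_eq_fintype_card]
    exact Nat.card_congr (Equiv.ofBijective (fun n : N => (n : G) • α) ⟨hinj, hsurj⟩)
  haveI : Fact p.Prime := ⟨hp⟩
  have hexp : ∀ n : N, n ^ p = 1 := by
    let U : Subgroup N := (powMonoidHom p : N →* N).ker
    rcases hirr U (fun h n hn => by
      show (h • n) ^ p = 1
      rw [← smul_pow', show n ^ p = 1 from hn, smul_one]) with e | e
    · exfalso
      have hd : d ≠ 0 := fun h0 => hN (Subgroup.eq_bot_of_card_eq N (by rw [hcardN, h0, pow_zero]))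
      obtain ⟨x, hx⟩ := exists_prime_orderOf_dvd_card' (G := N) p (hcardN ▸ dvd_pow_self p hd)
      have hxU : x ∈ U := by
        show x ^ p = 1
        rw [← hx]
        exact pow_orderOf_eq_one x
      rw [e, Subgroup.mem_bot] at hxU
      rw [hxU, orderOf_one] at hx
      exact hp.one_lt.ne hx
    · exact fun n => (e ▸ Subgroup.mem_top n : n ∈ U)
  have hns : ¬ Group.IsSolvable S := by
    intro hS
    haveI := hS
    haveI : Group.IsSolvable N := Group.isSolvable_of_comm fun a b => mul_comm a b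
    haveI : Group.IsSolvable (G ⧸ N) := by
      refine Group.isSolvable_of_surjective (f := (QuotientGroup.mk' N).comp S.subtype) fun x => ?_
      obtain ⟨g, rfl⟩ := QuotientGroup.mk'_surjective N x
      obtain ⟨n, h, rfl⟩ := hdec g
      refine ⟨h, ?_⟩
      rw [map_mul, (QuotientGroup.eq_one_iff (n : G)).2 n.2 |> (fun e => (e : QuotientGroup.mk' N n = 1)),
        one_mul]
      rfl
    exact hsol (Group.isSolvable_of_ker_le_range N.subtype (QuotientGroup.mk' N)
      (by rw [QuotientGroup.ker_mk', N.range_subtype]))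
  have heven : ¬ Odd (Nat.card S) := fun ho => hns (hFT S ho)
  have hp2 : p = 2 := by
    by_contra hne
    rw [Nat.not_odd_iff_even, even_iff_two_dvd] at heven
    obtain ⟨s, hs⟩ := exists_prime_orderOf_dvd_card' (G := S) 2 heven
    refine hns (Group.isSolvable_of_comm (comm_of_odd hp hne hexp hfaith hirr hmax (s := s) ?_ ?_))
    · rw [← sq, ← hs]; exact pow_orderOf_eq_one s
    · intro h
      rw [h, orderOf_one] at hs
      norm_num at hs
  refine ⟨hp2, ?_⟩
  have hS : ExtPrimAffine56.Setup S N :=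
    ⟨fun v => by rw [← sq, ← hp2]; exact hexp v, hfaith, hirr, hmax⟩
  exact ExtPrimAffine56.almostSimple hS hns fun K hK => hFT K hK

end Cfsg.Agent.ExtPrimGlue56
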