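import Mathlib

/-!
Eigenspaces of linear maps twisted by roots of unity of prime order.
-/

set_option autoImplicit false

namespace Cfsg.Agent.ExtraEigen92

open Module

variable {F : Type*} [Field F] {V : Type*} [AddCommGroup V] [Module F V] [FiniteDimensional F V]

/-- Disjoint subspaces inside `U`. -/
theorem finrank_add_le {A B U : Submodule F V} (hA : A ≤ U) (hB : B ≤ U) (h : A ⊓ B = ⊥) :
    finrank F A + finrank F B ≤ finrank F U := by
  have h1 := Submodule.finrank_sup_add_finrank_inf_eq A B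
  rw [h, finrank_bot, add_zero] at h1
  rw [← h1]
  exact Submodule.finrank_mono (sup_le hA hB)

/-- The part of `W` where `T` is the scalar `a`. -/
def eig (T : Module.End F V) (W : Submodule F V) (a : F) : Submodule F V :=
  W ⊓ LinearMap.ker (T - a • 1)

theorem mem_eig {T : Module.End F V} {W : Submodule F V} {a : F} {v : V} :
    v ∈ eig T W a ↔ v ∈ W ∧ T v = a • v := by
  simp [eig, sub_eq_zero]

theorem eig_le (T : Module.End F V) (W : Submodule F V) (a : F) : eig T W a ≤ W := inf_le_left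

theorem eig_inf_eq_bot {T : Module.End F V} {W W' : Submodule F V} {a b : F} (hab : a ≠ b) :
    eig T W a ⊓ eig T W' b = ⊥ := by
  rw [Submodule.eq_bot_iff]
  rintro v ⟨h1, h2⟩
  obtain ⟨-, h1⟩ := mem_eig.1 h1
  obtain ⟨-, h2⟩ := mem_eig.1 h2
  have : (a - b) • v = 0 := by rw [sub_smul, ← h1, ← h2, sub_self]
  exact (smul_eq_zero.1 this).resolve_left (sub_ne_zero.2 hab)

/-- An invariant subspace on which `T ^ r = 1` is the sum of its eigen-parts. -/
theorem finrank_split (T : Module.End F V) (W : Submodule F V) (hT : ∀ v ∈ W, T v ∈ W)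
    {r : ℕ} (hr : r.Prime) {ζ : F} (hζ : IsPrimitiveRoot ζ r) (hTr : ∀ v ∈ W, (T ^ r) v = v) :
    ∑ a ∈ Finset.range r, finrank F (eig T W (ζ ^ a)) = finrank F W := by
  classical
  haveI : NeZero r := ⟨hr.ne_zero⟩
  have hrF : (r : F) ≠ 0 := hζ.neZero'.out
  have hζ0 : ζ ≠ 0 := hζ.ne_zero hr.ne_zero
  let f : Fin r → Submodule F V := fun a => eig T W (ζ ^ (a : ℕ))
  have hf : ∀ a : Fin r, f a ≤ Module.End.eigenspace T (ζ ^ (a : ℕ)) := fun a v hv =>
    Module.End.mem_eigenspace_iff.2 (mem_eig.1 hv).2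
  have hinj : Function.Injective fun a : Fin r => ζ ^ (a : ℕ) := fun a b h =>
    Fin.ext (hζ.pow_inj a.2 b.2 h)
  have hind : iSupIndep f :=
    ((Module.End.eigenspaces_iSupIndep T).comp hinj).mono hf
  have hTk : ∀ (k : ℕ), ∀ v ∈ W, (T ^ k) v ∈ W := by
    intro k
    induction k with
    | zero => exact fun v hv => hv
    | succ k ih => intro v hv; rw [pow_succ', Module.End.mul_apply]; exact hT _ (ih v hv)
  have hsup : iSup f = W := by
    refine le_antisymm (iSup_le fun a => eig_le _ _ _) fun v hv => ?_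
    let P : ℕ → V := fun a => (r : F)⁻¹ • ∑ k ∈ Finset.range r, ((ζ ^ a)⁻¹) ^ k • (T ^ k) v
    have hP : ∀ a, a < r → P a ∈ eig T W (ζ ^ a) := by
      intro a _
      refine mem_eig.2 ⟨W.smul_mem _ (W.sum_mem fun k _ => W.smul_mem _ (hTk k v hv)), ?_⟩
      simp only [P, map_smul, map_sum]
      rw [smul_comm (ζ ^ a)]
      congr 1
      rw [Finset.smul_sum]
      have hz : (((ζ ^ a)⁻¹) ^ r) = 1 := by rw [inv_pow, ← pow_mul, mul_comm, pow_mul, hζ.pow_eq_one, one_pow, inv_one]
      have key : ∀ k, (ζ ^ a) • ((ζ ^ a)⁻¹) ^ (k + 1) • (T ^ (k + 1)) v =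
          ((ζ ^ a)⁻¹) ^ k • T ((T ^ k) v) := by
        intro k
        rw [smul_smul, pow_succ' T k, Module.End.mul_apply, pow_succ' ((ζ ^ a)⁻¹) k, ← mul_assoc,
          mul_inv_cancel₀ (pow_ne_zero a hζ0), one_mul]
      rw [← Finset.sum_congr rfl fun k _ => key k]
      have h1 := Finset.sum_range_succ' (fun k => (ζ ^ a) • ((ζ ^ a)⁻¹) ^ k • (T ^ k) v) r
      rw [Finset.sum_range_succ] at h1
      simp only [hz, hTr v hv, pow_zero, one_smul, Module.End.one_apply] at h1
      exact (add_right_cancel h1).symm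
    have hsum : ∑ a ∈ Finset.range r, P a = v := by
      simp only [P, ← Finset.smul_sum]
      rw [Finset.sum_comm]
      simp only [← Finset.sum_smul]
      rw [Finset.sum_eq_single 0]
      · simp [smul_smul, inv_mul_cancel₀ hrF]
      · intro k hk hk0
        have hne : ((ζ ^ k)⁻¹) ≠ 1 := by
          rw [Ne, inv_eq_one]
          exact hζ.pow_ne_one_of_pos_of_lt hk0 (Finset.mem_range.1 hk)
        have h0 : ∑ a ∈ Finset.range r, ((ζ ^ a)⁻¹) ^ k = 0 := by
          have e : ∀ a, ((ζ ^ a)⁻¹) ^ k = ((ζ ^ k)⁻¹) ^ a := fun a => by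
            rw [inv_pow, inv_pow, ← pow_mul, ← pow_mul, mul_comm]
          rw [Finset.sum_congr rfl fun a _ => e a, geom_sum_eq hne, inv_pow, ← pow_mul, mul_comm k r,
            pow_mul, hζ.pow_eq_one, one_pow, inv_one, sub_self, zero_div]
        rw [h0, zero_smul]
      · intro h; exact absurd (Finset.mem_range.2 hr.pos) h
    rw [← hsum]
    exact Submodule.sum_mem _ fun a ha =>
      Submodule.mem_iSup_of_mem (⟨a, Finset.mem_range.1 ha⟩ : Fin r) (hP a (Finset.mem_range.1 ha))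
  have hint : DirectSum.IsInternal fun a : Fin r => (f a).comap W.subtype := by
    have e : ∀ a, f a ≤ W := fun a => eig_le _ _ _
    rw [DirectSum.isInternal_submodule_iff_iSupIndep_and_iSup_eq_top]
    constructor
    · intro a
      rw [disjoint_iff, Submodule.eq_bot_iff]
      rintro ⟨x, hx⟩ ⟨h1, h2⟩
      have h2' : x ∈ ⨆ (j : Fin r) (_ : j ≠ a), f j := by
        have hle : (⨆ (j : Fin r) (_ : j ≠ a), (f j).comap W.subtype).map W.subtype ≤
            ⨆ (j : Fin r) (_ : j ≠ a), f j := by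
          simp only [Submodule.map_iSup]
          exact iSup₂_mono fun j _ => Submodule.map_comap_le _ _
        exact hle ⟨⟨x, hx⟩, h2, rfl⟩
      exact Subtype.ext ((Submodule.eq_bot_iff _).1 (disjoint_iff.1 (hind a)) x ⟨h1, h2'⟩)
    · rw [eq_top_iff]
      intro x _
      have hx : (x : V) ∈ (⨆ a, (f a).comap W.subtype).map W.subtype := by
        rw [Submodule.map_iSup]
        have : iSup f ≤ ⨆ a, ((f a).comap W.subtype).map W.subtype :=
          iSup_mono fun a => by rw [Submodule.map_comap_subtype, inf_eq_right.2 (e a)]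
        exact this (hsup.ge x.2)
      obtain ⟨y, hy, hyx⟩ := hx
      rwa [← Subtype.ext (hyx : (y : V) = x)]
  haveI := Module.Free.of_divisionRing F W
  have h := LinearEquiv.finrank_eq (LinearEquiv.ofBijective (DirectSum.coeLinearMap _) hint)
  rw [Module.finrank_directSum] at h
  rw [← h, ← Fin.sum_univ_eq_sum_range (fun a => finrank F (eig T W (ζ ^ a)))]
  refine Finset.sum_congr rfl fun a _ => ?_
  exact (LinearEquiv.finrank_eq (Submodule.comapSubtypeEquivOfLe (eig_le T W _))).symm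

/-- A twist moves eigen-parts. -/
theorem map_eig {T Y : Module.End F V} {U : Submodule F V} {ζ : F} (hYU : ∀ v ∈ U, Y v ∈ U)
    (hTY : ∀ v ∈ U, T (Y v) = ζ • Y (T v)) (a : F) :
    (eig T U a).map Y ≤ eig T U (ζ * a) := by
  rintro _ ⟨v, hv, rfl⟩
  obtain ⟨hvU, hv⟩ := mem_eig.1 hv
  exact mem_eig.2 ⟨hYU v hvU, by rw [hTY v hvU, hv, map_smul, smul_smul]⟩

theorem finrank_map {Y : Module.End F V} (hY : Function.Injective Y) (A : Submodule F V) :
    finrank F (A.map Y) = finrank F A :=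
  (LinearEquiv.finrank_eq (Submodule.equivMapOfInjective Y hY A)).symm

/-- Two-fold bound. -/
theorem two_mul_eig_le {T Y : Module.End F V} (hY : Function.Injective Y) {U : Submodule F V} {ζ a : F}
    (hYU : ∀ v ∈ U, Y v ∈ U) (hTY : ∀ v ∈ U, T (Y v) = ζ • Y (T v)) (hζ : ζ ≠ 1) (ha : a ≠ 0) :
    2 * finrank F (eig T U a) ≤ finrank F U := by
  have hne : ζ * a ≠ a := fun h => hζ (mul_right_cancel₀ ha (h.trans (one_mul a).symm))
  have h1 := finrank_add_le (eig_le T U a) ((map_eig hYU hTY a).trans (eig_le T U _))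
    (le_bot_iff.1 ((inf_le_inf_left _ (map_eig hYU hTY a)).trans (eig_inf_eq_bot hne.symm).le))
  rw [finrank_map hY] at h1
  omega

/-- All twisted eigen-parts have the same dimension. -/
theorem finrank_eig_eq {T Y : Module.End F V} (hY : Function.Injective Y) {U : Submodule F V} {ζ : F}
    (hYU : ∀ v ∈ U, Y v ∈ U) (hTY : ∀ v ∈ U, T (Y v) = ζ • Y (T v))
    {r : ℕ} (hr : 0 < r) (hζ : ζ ^ r = 1) {a : ℕ} (ha : a < r) :
    finrank F (eig T U (ζ ^ a)) = finrank F (eig T U 1) := by
  have step : ∀ b, finrank F (eig T U (ζ ^ b)) ≤ finrank F (eig T U (ζ ^ (b + 1))) := fun b => by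
    rw [← finrank_map hY (eig T U (ζ ^ b)), pow_succ']
    exact Submodule.finrank_mono (map_eig hYU hTY _)
  have hmono : ∀ b c, finrank F (eig T U (ζ ^ b)) ≤ finrank F (eig T U (ζ ^ (b + c))) := by
    intro b c
    induction c with
    | zero => simp
    | succ c ih => exact ih.trans (step (b + c))
  refine le_antisymm ?_ ?_
  · have := hmono a (r - a)
    rwa [Nat.add_sub_cancel' ha.le, hζ] at this
  · have := hmono 0 a
    rwa [zero_add, pow_zero] at this

/-- The pairing bound. -/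
theorem two_mul_sum_le {r m : ℕ} (hr : 5 ≤ r) (x : ℕ → ℕ) (hx : ∀ a < r, x a ≤ m)
    (hpair : ∀ a b, a < r → b < r → a ≠ b → a + b + 1 ≠ r → x a + x b ≤ m) :
    2 * ∑ a ∈ Finset.range r, x a ≤ r * m := by
  classical
  obtain ⟨a, ha, hmax⟩ := (Finset.range r).exists_max_image x ⟨0, Finset.mem_range.2 (by omega)⟩
  rw [Finset.mem_range] at ha
  by_cases h2 : 2 * x a ≤ m
  · have : ∑ b ∈ Finset.range r, 2 * x b ≤ ∑ b ∈ Finset.range r, m :=
      Finset.sum_le_sum fun b hb => by have := hmax b hb; omega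
    rwa [← Finset.mul_sum, Finset.sum_const, Finset.card_range, smul_eq_mul] at this
  set b := r - 1 - a with hb
  have hbr : b < r := by omega
  have hother : ∀ c ∈ Finset.range r, c ≠ a → c ≠ b → x c ≤ m - x a := by
    intro c hc hca hcb
    have := hpair a c ha (Finset.mem_range.1 hc) hca.symm (by omega)
    omega
  have hxa := hx a ha
  have hxb := hx b hbr
  by_cases hab : a = b
  · rw [← Finset.add_sum_erase _ _ (Finset.mem_range.2 ha)]
    have hs : ∑ c ∈ (Finset.range r).erase a, x c ≤ (r - 1) * (m - x a) := by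
      refine (Finset.sum_le_sum fun c hc => hother c (Finset.mem_of_mem_erase hc) (Finset.ne_of_mem_erase hc)
        (hab ▸ Finset.ne_of_mem_erase hc)).trans ?_
      rw [Finset.sum_const, Finset.card_erase_of_mem (Finset.mem_range.2 ha), Finset.card_range, smul_eq_mul]
    obtain ⟨k, rfl⟩ : ∃ k, r = k + 5 := ⟨r - 5, by omega⟩
    obtain ⟨d, hd⟩ : ∃ d, m = x a + d := ⟨m - x a, by omega⟩
    rw [show k + 5 - 1 = k + 4 by omega, show m - x a = d by omega] at hs
    subst hd
    nlinarith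
  · rw [← Finset.add_sum_erase _ _ (Finset.mem_range.2 ha),
      ← Finset.add_sum_erase _ _ (Finset.mem_erase.2 ⟨Ne.symm hab, Finset.mem_range.2 hbr⟩)]
    have hs : ∑ c ∈ ((Finset.range r).erase a).erase b, x c ≤ (r - 2) * (m - x a) := by
      refine (Finset.sum_le_sum fun c hc => hother c
        (Finset.mem_of_mem_erase (Finset.mem_of_mem_erase hc))
        (Finset.ne_of_mem_erase (Finset.mem_of_mem_erase hc)) (Finset.ne_of_mem_erase hc)).trans ?_
      rw [Finset.sum_const, Finset.card_erase_of_mem (Finset.mem_erase.2 ⟨Ne.symm hab, Finset.mem_range.2 hbr⟩),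
        Finset.card_erase_of_mem (Finset.mem_range.2 ha), Finset.card_range, smul_eq_mul]
      rfl
    have hba := hmax b (Finset.mem_range.2 hbr)
    obtain ⟨k, rfl⟩ : ∃ k, r = k + 5 := ⟨r - 5, by omega⟩
    obtain ⟨d, hd⟩ : ∃ d, m = x a + d := ⟨m - x a, by omega⟩
    rw [show k + 5 - 2 = k + 3 by omega, show m - x a = d by omega] at hs
    subst hd
    nlinarith

/-- The core bound: `G` commutes with `H`, `H ^ r = 1`, `H` is twisted by `Y` and `G Y = H Y G`. -/
theorem two_mul_core {G H Y : Module.End F V} (hY : Function.Injective Y) {U : Submodule F V}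
    (hHU : ∀ v ∈ U, H v ∈ U) (hYU : ∀ v ∈ U, Y v ∈ U)
    {r : ℕ} (hr : r.Prime) (hr5 : 5 ≤ r) {ζ : F} (hζ : IsPrimitiveRoot ζ r)
    (hHr : ∀ v ∈ U, (H ^ r) v = v) (hHY : ∀ v ∈ U, H (Y v) = ζ • Y (H v))
    (hGY : ∀ v ∈ U, G (Y v) = H (Y (G v))) (hGH : ∀ v ∈ U, G (H v) = H (G v)) {c : F} (hc : c ≠ 0) :
    2 * finrank F (eig G U c) ≤ finrank F U := by
  classical
  set W := eig G U c with hW
  set m := finrank F (eig H U 1) with hm
  have hU : ∀ a < r, finrank F (eig H U (ζ ^ a)) = m := fun a ha =>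
    finrank_eig_eq hY hYU hHY hr.pos hζ.pow_eq_one ha
  have hsU : finrank F U = r * m := by
    rw [← finrank_split H U hHU hr hζ hHr, Finset.sum_congr rfl fun a ha => hU a (Finset.mem_range.1 ha),
      Finset.sum_const, Finset.card_range, smul_eq_mul]
  have hHW : ∀ v ∈ W, H v ∈ W := fun v hv => by
    obtain ⟨hvU, hv⟩ := mem_eig.1 hv
    exact mem_eig.2 ⟨hHU v hvU, by rw [hGH v hvU, hv, map_smul]⟩
  have hsW : ∑ a ∈ Finset.range r, finrank F (eig H W (ζ ^ a)) = finrank F W :=
    finrank_split H W hHW hr hζ fun v hv => hHr v (eig_le G U c hv)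
  have hle : ∀ a, eig H W (ζ ^ a) ≤ eig H U (ζ ^ a) := fun a => inf_le_inf_right _ (eig_le G U c)
  rw [← hsW, hsU]
  refine two_mul_sum_le hr5 _ (fun a ha => hU a ha ▸ Submodule.finrank_mono (hle a)) ?_
  suffices key : ∀ a b, a < b → b < r → a + b + 1 ≠ r →
      finrank F (eig H W (ζ ^ a)) + finrank F (eig H W (ζ ^ b)) ≤ m by
    intro a b ha hb hab hne
    rcases lt_or_gt_of_ne hab with h | h
    · exact key a b h hb hne
    · rw [add_comm]; exact key b a h ha (by omega)
  intro a b hab hb hne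
  obtain ⟨k, rfl⟩ : ∃ k, b = a + k := ⟨b - a, by omega⟩
  -- powers of `Y`
  have hiter : ∀ u ∈ eig H W (ζ ^ a), ∀ j : ℕ, (Y ^ j) u ∈ eig H U (ζ ^ (a + j)) ∧
      ∃ E, 2 * E = j * (2 * a + j + 1) ∧ G ((Y ^ j) u) = (c * ζ ^ E) • (Y ^ j) u := by
    intro u hu j
    induction j with
    | zero => exact ⟨by simpa using hle a hu, 0, by simp, by
        simpa using (mem_eig.1 (eig_le H W _ hu)).2⟩
    | succ j ih =>
      obtain ⟨h1, E, hE, h2⟩ := ih
      obtain ⟨hjU, hj⟩ := mem_eig.1 h1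
      have h3 : H (Y ((Y ^ j) u)) = (ζ ^ (a + (j + 1))) • Y ((Y ^ j) u) := by
        rw [hHY _ hjU, hj, map_smul, smul_smul, ← pow_succ']
        rfl
      rw [pow_succ', Module.End.mul_apply]
      refine ⟨mem_eig.2 ⟨hYU _ hjU, h3⟩, E + (a + (j + 1)), by nlinarith, ?_⟩
      rw [hGY _ hjU, h2, map_smul, map_smul, h3, smul_smul]
      simp only [pow_add, mul_assoc]
  have hdisj : (eig H W (ζ ^ a)).map (Y ^ k) ⊓ eig H W (ζ ^ (a + k)) = ⊥ := by
    rw [Submodule.eq_bot_iff]
    rintro _ ⟨⟨u, hu, rfl⟩, hv⟩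
    by_contra hv0
    obtain ⟨-, E, hE, h2⟩ := hiter u hu k
    have h3 : G ((Y ^ k) u) = c • (Y ^ k) u := (mem_eig.1 (eig_le H W _ hv)).2
    rw [h2] at h3
    have h4 : (c * ζ ^ E - c) • (Y ^ k) u = 0 := by rw [sub_smul, h3, sub_self]
    have h5 : ζ ^ E = 1 := by
      have := (smul_eq_zero.1 h4).resolve_right hv0
      exact mul_left_cancel₀ hc (by rw [mul_one]; exact sub_eq_zero.1 this)
    have hd : r ∣ k * (2 * a + k + 1) := hE ▸ (hζ.dvd_of_pow_eq_one E h5).mul_left 2
    rcases hr.dvd_mul.1 hd with h | h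
    · have := Nat.le_of_dvd (by omega) h; omega
    · obtain ⟨q, hq⟩ := h
      rcases q with _ | _ | q
      · omega
      · omega
      · nlinarith
  have hYk : Function.Injective (Y ^ k) := by
    rw [Module.End.coe_pow]; exact hY.iterate k
  have h := finrank_add_le (U := eig H U (ζ ^ (a + k))) (by
    rintro _ ⟨u, hu, rfl⟩; exact (hiter u hu k).1) (hle (a + k)) hdisj
  rw [finrank_map hYk, hU _ hb] at h
  exact h

end Cfsg.Agent.ExtraEigen92
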