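import Mathlib

/-!
# Idempotent matrices and the spectral projections of a matrix of odd prime order
-/

set_option autoImplicit false

namespace Cfsg.Agent.FRLift62

open Matrix

variable {ι : Type} [Fintype ι] [DecidableEq ι]

/-- The trace of an idempotent is a natural number, the exponent in the determinant of the scalar
acting on its range. -/
theorem exists_rank_idem {P : Matrix ι ι ℂ} (hP : P * P = P) :
    ∃ m : ℕ, trace P = (m : ℂ) ∧ ∀ c : ℂ, det (c • P + (1 - P)) = c ^ m := by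
  classical
  set f := Matrix.toLin' P with hf
  have hidem : IsIdempotentElem f := by
    show f * f = f
    rw [hf, Module.End.mul_eq_comp, ← Matrix.toLin'_mul, hP]
  have hproj : LinearMap.IsProj (LinearMap.range f) f :=
    (LinearMap.isProj_range_iff_isIdempotentElem f).2 hidem
  refine ⟨Module.finrank ℂ (LinearMap.range f), ?_, fun c => ?_⟩
  · rw [← hproj.trace, hf, Matrix.trace_toLin'_eq]
  · set e := (LinearMap.range f).prodEquivOfIsCompl (LinearMap.ker f) hproj.isCompl with he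
    have hconj : f = e.conj (LinearMap.prodMap LinearMap.id 0) := hproj.eq_conj_prodMap
    have h1 : (1 : (ι → ℂ) →ₗ[ℂ] (ι → ℂ)) = e.conj LinearMap.id := by
      rw [LinearEquiv.conj_id]; rfl
    have h2 : Matrix.toLin' (c • P + (1 - P)) =
        e.conj (LinearMap.prodMap (c • LinearMap.id) LinearMap.id) := by
      have h3 : LinearMap.prodMap (c • LinearMap.id) LinearMap.id =
          c • LinearMap.prodMap (LinearMap.id : LinearMap.range f →ₗ[ℂ] LinearMap.range f)
            (0 : LinearMap.ker f →ₗ[ℂ] LinearMap.ker f) +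
          (LinearMap.id - LinearMap.prodMap LinearMap.id 0) :=
        LinearMap.ext fun v => by simp [Prod.ext_iff]
      rw [h3, map_add, map_add, map_smul e.conj, map_sub e.conj, ← hconj, LinearEquiv.conj_id,
        map_sub, map_smul, Matrix.toLin'_one]
    rw [← LinearMap.det_toLin', h2, LinearEquiv.conj_apply, LinearMap.comp_assoc,
      LinearMap.det_conj, LinearMap.det_prodMap, LinearMap.det_smul, LinearMap.det_id,
      LinearMap.det_id, mul_one, mul_one]

/-- The determinant on the range of an idempotent. -/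
noncomputable def detOn (P X : Matrix ι ι ℂ) : ℂ := det (P * X + (1 - P))

theorem detOn_one (P : Matrix ι ι ℂ) : detOn P 1 = 1 := by
  rw [detOn, mul_one, add_sub_cancel, det_one]

theorem detOn_mul {P X Y : Matrix ι ι ℂ} (hP : P * P = P) (hX : Commute P X) :
    detOn P (X * Y) = detOn P X * detOn P Y := by
  rw [detOn, detOn, detOn, ← det_mul]
  congr 1
  have h1 : P * X * (P * Y) = P * (X * Y) := by
    rw [← mul_assoc, mul_assoc P X P, ← hX.eq, ← mul_assoc, hP, mul_assoc]
  have h2 : P * X * (1 - P) = 0 := by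
    rw [mul_sub, mul_one, mul_assoc, ← hX.eq, ← mul_assoc, hP, sub_self]
  have h3 : (1 - P) * (P * Y) = 0 := by
    rw [sub_mul, one_mul, ← mul_assoc, hP, sub_self]
  have h4 : (1 - P) * (1 - P) = 1 - P := by
    rw [sub_mul, one_mul, mul_sub, mul_one, hP, sub_self, sub_zero]
  rw [add_mul, mul_add, mul_add, h1, h2, h3, h4, add_zero, zero_add]

theorem detOn_pow {P X : Matrix ι ι ℂ} (hP : P * P = P) (hX : Commute P X) (k : ℕ) :
    detOn P (X ^ k) = detOn P X ^ k := by
  induction k with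
  | zero => rw [pow_zero, pow_zero, detOn_one]
  | succ k ih => rw [pow_succ', detOn_mul hP hX, ih, pow_succ']

theorem detOn_smul_one (P : Matrix ι ι ℂ) (c : ℂ) :
    detOn P (c • (1 : Matrix ι ι ℂ)) = det (c • P + (1 - P)) := by
  rw [detOn, mul_smul_comm, mul_one]

theorem detOn_conj (u : (Matrix ι ι ℂ)ˣ) (P X : Matrix ι ι ℂ) :
    detOn ((u : Matrix ι ι ℂ) * P * (↑u⁻¹ : Matrix ι ι ℂ))
      ((u : Matrix ι ι ℂ) * X * (↑u⁻¹ : Matrix ι ι ℂ)) = detOn P X := by
  rw [detOn, detOn, ← Matrix.det_units_conj u (P * X + (1 - P))]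
  congr 1
  simp [mul_add, add_mul, mul_sub, sub_mul, mul_assoc]

theorem detOn_map {R : Type*} [FunLike R ℂ ℂ] [RingHomClass R ℂ ℂ] (σ : R)
    (P X : Matrix ι ι ℂ) :
    σ (detOn P X) = detOn ((RingHom.mapMatrix (σ : ℂ →+* ℂ)) P)
      ((RingHom.mapMatrix (σ : ℂ →+* ℂ)) X) := by
  show (σ : ℂ →+* ℂ) (detOn P X) = _
  rw [detOn, RingHom.map_det, map_add, map_mul, map_sub, map_one]
  rfl

/-- A ring automorphism fixing the `n`-th roots of unity fixes the trace of a matrix of period
dividing `n`. -/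
theorem map_trace_of_pow_eq_one {W : Matrix ι ι ℂ} {n : ℕ} (hW : W ^ n = 1) (σ : ℂ →+* ℂ)
    (hσ : ∀ μ : ℂ, μ ^ n = 1 → σ μ = μ) : σ (trace W) = trace W := by
  rw [trace_eq_sum_roots_charpoly, map_multiset_sum]
  congr 1
  refine (Multiset.map_congr rfl fun μ hμ => hσ μ ?_).trans (Multiset.map_id _)
  rw [Polynomial.mem_roots (Matrix.charpoly_monic W).ne_zero,
    ← Matrix.mem_spectrum_iff_isRoot_charpoly] at hμ
  cases isEmpty_or_nonempty ι with
  | inl h => simp [spectrum.of_subsingleton] at hμ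
  | inr h =>
    have h1 := spectrum.pow_mem_pow W n hμ
    rw [hW, spectrum.one_eq] at h1
    exact h1

variable {r : ℕ} [Fact r.Prime]

/-- Powers of `T` indexed by residues. -/
def resPow (T : Matrix ι ι ℂ) (a : ZMod r) : Matrix ι ι ℂ := T ^ a.val

theorem resPow_natCast {T : Matrix ι ι ℂ} (hT : T ^ r = 1) (k : ℕ) :
    resPow T (k : ZMod r) = T ^ k := by
  rw [resPow, ZMod.val_natCast]
  conv_rhs => rw [← Nat.mod_add_div k r, pow_add, pow_mul, hT, one_pow, mul_one]

theorem resPow_add {T : Matrix ι ι ℂ} (hT : T ^ r = 1) (a b : ZMod r) :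
    resPow T (a + b) = resPow T a * resPow T b := by
  rw [show resPow T a = T ^ a.val from rfl, show resPow T b = T ^ b.val from rfl, ← pow_add,
    ← resPow_natCast hT (a.val + b.val), Nat.cast_add, ZMod.natCast_zmod_val,
    ZMod.natCast_zmod_val]

theorem resPow_zero (T : Matrix ι ι ℂ) : resPow T (0 : ZMod r) = 1 := by
  rw [resPow, ZMod.val_zero, pow_zero]

theorem resPow_one (T : Matrix ι ι ℂ) : resPow T (1 : ZMod r) = T := by
  haveI : Fact (1 < r) := ⟨(Fact.out : r.Prime).one_lt⟩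
  rw [resPow, ZMod.val_one, pow_one]

/-- The spectral projection of `T` for the eigenvalue indexed by `i`. -/
noncomputable def eigProj (T : Matrix ι ι ℂ) (i : ZMod r) : Matrix ι ι ℂ :=
  (r : ℂ)⁻¹ • ∑ a : ZMod r, ZMod.stdAddChar (-(i * a)) • resPow T a

theorem resPow_mul_eigProj {T : Matrix ι ι ℂ} (hT : T ^ r = 1) (b i : ZMod r) :
    resPow T b * eigProj T i = ZMod.stdAddChar (i * b) • eigProj T i := by
  rw [eigProj, smul_comm (ZMod.stdAddChar (i * b)) (r : ℂ)⁻¹, mul_smul_comm, Finset.mul_sum,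
    Finset.smul_sum (r := ZMod.stdAddChar (i * b))]
  congr 1
  refine Fintype.sum_equiv (Equiv.addLeft b) _ _ fun a => ?_
  rw [Equiv.coe_addLeft, mul_smul_comm, ← resPow_add hT, smul_smul, ← AddChar.map_add_eq_mul]
  congr 2
  ring

theorem sum_eigProj (T : Matrix ι ι ℂ) : ∑ i : ZMod r, eigProj T i = 1 := by
  have hr : (r : ℂ) ≠ 0 := Nat.cast_ne_zero.2 (Fact.out : r.Prime).ne_zero
  have h1 : ∀ a : ZMod r, ∑ i : ZMod r, ZMod.stdAddChar (-(i * a)) • resPow T a =
      if a = 0 then (r : ℂ) • (1 : Matrix ι ι ℂ) else 0 := by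
    intro a
    have h2 := AddChar.sum_mulShift (R := ZMod r) (-a) (ZMod.isPrimitive_stdAddChar r)
    rw [← Finset.sum_smul]
    simp only [mul_neg, neg_eq_zero, ZMod.card] at h2
    rw [h2]
    split
    · next ha => rw [ha, resPow_zero]
    · rw [Nat.cast_zero, zero_smul]
  simp only [eigProj]
  rw [← Finset.smul_sum, Finset.sum_comm, Finset.sum_congr rfl fun a _ => h1 a,
    Finset.sum_ite_eq', if_pos (Finset.mem_univ _), smul_smul, inv_mul_cancel₀ hr, one_smul]

theorem eigProj_idem {T : Matrix ι ι ℂ} (hT : T ^ r = 1) (i : ZMod r) :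
    eigProj T i * eigProj T i = eigProj T i := by
  have hr : (r : ℂ) ≠ 0 := Nat.cast_ne_zero.2 (Fact.out : r.Prime).ne_zero
  nth_rewrite 1 [eigProj]
  rw [smul_mul_assoc, Finset.sum_mul]
  have h1 : ∀ a : ZMod r, ZMod.stdAddChar (-(i * a)) • resPow T a * eigProj T i =
      eigProj T i := by
    intro a
    rw [smul_mul_assoc, resPow_mul_eigProj hT, smul_smul, ← AddChar.map_add_eq_mul,
      neg_add_cancel, AddChar.map_zero_eq_one, one_smul]
  rw [Finset.sum_congr rfl fun a _ => h1 a, Finset.sum_const, Finset.card_univ, ZMod.card,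
    ← Nat.cast_smul_eq_nsmul ℂ, smul_smul, inv_mul_cancel₀ hr, one_smul]

theorem commute_eigProj {T X : Matrix ι ι ℂ} (h : Commute T X) (i : ZMod r) :
    Commute (eigProj T i) X :=
  (Commute.sum_left _ _ _ fun a _ => (h.pow_left _).smul_left _).smul_left _

/-- Some eigenspace of `T` has odd dimension, when `tr T · tr T⁻¹ = 1`. -/
theorem exists_odd_eigProj {T : Matrix ι ι ℂ} (hT : T ^ r = 1)
    (h : trace (resPow T (1 : ZMod r)) * trace (resPow T (-1 : ZMod r)) = 1) :
    ∃ (i : ZMod r) (m : ℕ), Odd m ∧ trace (eigProj T i) = (m : ℂ) := by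
  have hm : ∀ i : ZMod r, ∃ m : ℕ, trace (eigProj T i) = (m : ℂ) := fun i => by
    obtain ⟨m, hm, -⟩ := exists_rank_idem (eigProj_idem hT i)
    exact ⟨m, hm⟩
  choose m hm using hm
  by_contra hne
  push Not at hne
  have heven : ∀ i, Even (m i) := fun i => Nat.not_odd_iff_even.1 fun ho => hne i (m i) ho (hm i)
  choose n hn using heven
  have htr : ∀ b : ZMod r, ∃ w : ℂ, IsIntegral ℤ w ∧ trace (resPow T b) = 2 * w := by
    intro b
    refine ⟨∑ i : ZMod r, ZMod.stdAddChar (i * b) * (n i : ℂ),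
      IsIntegral.sum _ fun i _ => IsIntegral.mul ?_ ?_, ?_⟩
    · refine IsIntegral.of_pow (Fact.out : r.Prime).pos ?_
      rw [← AddChar.map_nsmul_eq_pow, nsmul_eq_mul, ZMod.natCast_self, zero_mul,
        AddChar.map_zero_eq_one]
      exact isIntegral_one
    · exact isIntegral_algebraMap (R := ℤ) (x := (n i : ℤ)) |> fun h => by simpa using h
    · conv_lhs => rw [← mul_one (resPow T b), ← sum_eigProj (r := r) T, Finset.mul_sum,
        trace_sum]
      rw [Finset.mul_sum]
      refine Finset.sum_congr rfl fun i _ => ?_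
      rw [resPow_mul_eigProj hT, trace_smul, hm, hn i, smul_eq_mul, Nat.cast_add]
      ring
  obtain ⟨w, hw, hw'⟩ := htr 1
  obtain ⟨v, hv, hv'⟩ := htr (-1)
  rw [hw', hv'] at h
  have h4 : (algebraMap ℚ ℂ) (1 / 4 : ℚ) = w * v := by
    rw [map_div₀, map_one, map_ofNat]
    linear_combination -(1 / 4 : ℂ) * h
  have hint : IsIntegral ℤ (1 / 4 : ℚ) :=
    (isIntegral_algebraMap_iff (algebraMap ℚ ℂ).injective).1 (h4 ▸ hw.mul hv)
  obtain ⟨k, hk⟩ := IsIntegrallyClosed.isIntegral_iff.1 hint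
  have h5 : ((4 * k : ℤ) : ℚ) = ((1 : ℤ) : ℚ) := by
    push_cast
    rw [show (k : ℚ) = 1 / 4 from hk]
    norm_num
  have h6 : 4 * k = 1 := by exact_mod_cast h5
  omega

end Cfsg.Agent.FRLift62
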