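import Cfsg.Agent.Lib.ExtraTwoRep62
import Cfsg.Agent.Lib.ExtraTwoIdem62
import Cfsg.Agent.Lib.GaloisChar80

/-!
# Lifting a 2-group normalising a fixed point free automorphism of odd prime order

The lift on the centraliser of `k` is normalised by the determinant on an eigenspace of odd
dimension; a Galois automorphism shows that it does not depend on the eigenspace within an orbit.
-/

set_option autoImplicit false

namespace Cfsg.Agent.FRLift62

open Subgroup Cfsg.Agent.PGroupsExtraspecial Matrix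
open scoped commutatorElement

variable {E : Type*} [Group E] [Finite E] {z : E} {d : ℕ}

/-- The determinant as a unit. -/
noncomputable def detMU (ι : Type) [Fintype ι] [DecidableEq ι] : MU ι →* ℂˣ :=
  Units.map (Matrix.detMonoidHom : Matrix ι ι ℂ →* ℂ)

theorem detMU_msc (ι : Type) [Fintype ι] [DecidableEq ι] (c : ℂˣ) :
    detMU ι (msc ι c) = c ^ Fintype.card ι := by
  refine Units.ext ?_
  show det ((msc ι c : MU ι) : Matrix ι ι ℂ) = _
  rw [msc_val, det_smul, det_one, mul_one, Units.val_pow_eq_pow_val]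

theorem exists_pow_eq_units {n : ℕ} (hn : 0 < n) (a : ℂˣ) : ∃ b : ℂˣ, b ^ n = a := by
  obtain ⟨w, hw⟩ := IsAlgClosed.exists_pow_nat_eq (a : ℂ) hn
  have hw0 : w ≠ 0 := fun h0 => a.ne_zero (by rw [← hw, h0, zero_pow hn.ne'])
  exact ⟨Units.mk0 w hw0, Units.ext (by simpa using hw)⟩

theorem exists_mul_mod_one {a m : ℕ} (hm : 0 < m) (h : a.Coprime m) :
    ∃ e : ℕ, (a * e) % m = 1 % m := by
  rcases Nat.lt_or_ge 1 m with h1 | h1
  · obtain ⟨e, -, he⟩ := Nat.exists_mul_mod_eq_one_of_coprime h h1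
    exact ⟨e, by rw [he, Nat.one_mod_eq_one.2 (by omega)]⟩
  · obtain rfl : m = 1 := by omega
    exact ⟨0, by simp⟩

/-- Correct a unit of period `m` to a prescribed `a`-th power, `a` prime to `m`. -/
theorem exists_root_period {a m : ℕ} (hm : 0 < m) (h : a.Coprime m) {c : ℂˣ} (hc : c ^ m = 1) :
    ∃ b : ℂˣ, b ^ a = c ∧ b ^ m = 1 := by
  obtain ⟨e, he⟩ := exists_mul_mod_one hm h
  refine ⟨c ^ e, ?_, by rw [← pow_mul, mul_comm, pow_mul, hc, one_pow]⟩
  rw [← pow_mul, mul_comm, pow_eq_pow_mod _ hc, he, ← pow_eq_pow_mod _ hc, pow_one]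

theorem eq_one_of_coprime_periods {a m : ℕ} (h : a.Coprime m) {c : ℂˣ} (h1 : c ^ a = 1)
    (h2 : c ^ m = 1) : c = 1 := by
  have h3 := pow_gcd_eq_one.2 ⟨h1, h2⟩
  rwa [h.gcd_eq_one, pow_one] at h3

namespace MatRep

variable (h : Piece z) (ρ : MatRep z (Fin d))

include h ρ

theorem dim_eq_two_pow : ∃ n : ℕ, d = 2 ^ n := by
  obtain ⟨n, hn⟩ := h.card_eq_two_pow
  refine ⟨n, Nat.mul_self_inj.1 ?_⟩
  have h1 := ρ.card_eq
  rw [Fintype.card_fin, hn, pow_succ] at h1
  rw [Nat.eq_of_mul_eq_mul_right two_pos h1, ← pow_add, two_mul]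

theorem coprime_dim_prime {r : ℕ} (hr : r.Prime) (hr2 : r ≠ 2) : d.Coprime r := by
  obtain ⟨n, rfl⟩ := ρ.dim_eq_two_pow h
  exact ((Nat.coprime_primes Nat.prime_two hr).2 (Ne.symm hr2)).pow_left n

theorem norm_unique {r : ℕ} (hr : r.Prime) (hr2 : r ≠ 2) {φ : MulAut E} {u v : MU (Fin d)}
    (hu : Impl ρ φ u) (hv : Impl ρ φ v) (hur : u ^ r = 1) (hvr : v ^ r = 1)
    (hud : detMU _ u = 1) (hvd : detMU _ v = 1) : u = v := by
  obtain ⟨c, hc⟩ := ρ.impl_unique h hu hv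
  have h1 : c ^ d = 1 := by
    have h2 := congrArg (detMU (Fin d)) hc
    rw [map_mul, detMU_msc, hud, hvd, mul_one, Fintype.card_fin] at h2
    exact h2.symm
  have h2 : c ^ r = 1 := by
    have h3 := congrArg (· ^ r) hc
    simp only [(Commute.mul_pow (msc_comm c v) r), hur, hvr, mul_one, ← map_pow] at h3
    have h4 := congrArg (fun w : MU (Fin d) => (w : Matrix (Fin d) (Fin d) ℂ)) h3.symm
    simp only [msc_val, Units.val_one] at h4
    haveI : Nonempty (Fin d) := ⟨⟨0, by simpa using ρ.card_pos h⟩⟩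
    have h5 := congrFun (congrFun h4 (Classical.arbitrary _)) (Classical.arbitrary _)
    simp at h5
    exact Units.ext (by simpa using h5)
  rw [hc, eq_one_of_coprime_periods (ρ.coprime_dim_prime h hr hr2) h1 h2, map_one, one_mul]

theorem exists_impl_pow_eq_one {φ : MulAut E} {m : ℕ} (hm : 0 < m) (hφ : φ ^ m = 1) :
    ∃ u : MU (Fin d), Impl ρ φ u ∧ u ^ m = 1 := by
  obtain ⟨u, hu⟩ := ρ.exists_impl h φ
  have h1 : Impl ρ 1 (u ^ m) := by rw [← hφ]; exact hu.pow m
  obtain ⟨c, hc⟩ := ρ.impl_unique h h1 Impl.one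
  rw [mul_one] at hc
  obtain ⟨b, hb⟩ := exists_pow_eq_units hm c⁻¹
  refine ⟨msc _ b * u, hu.msc_mul b, ?_⟩
  rw [(Commute.mul_pow (msc_comm b u) m), hc, ← map_pow, ← map_mul, hb, inv_mul_cancel, map_one]

theorem exists_norm {r : ℕ} (hr : r.Prime) (hr2 : r ≠ 2) {φ : MulAut E} (hφ : φ ^ r = 1) :
    ∃ u : MU (Fin d), Impl ρ φ u ∧ u ^ r = 1 ∧ detMU _ u = 1 := by
  obtain ⟨u, hu, hur⟩ := ρ.exists_impl_pow_eq_one h hr.pos hφ
  have h1 : (detMU (Fin d) u)⁻¹ ^ r = 1 := by rw [inv_pow, ← map_pow, hur, map_one, inv_one]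
  obtain ⟨b, hb, hbr⟩ := exists_root_period hr.pos (ρ.coprime_dim_prime h hr hr2) h1
  refine ⟨msc _ b * u, hu.msc_mul b, ?_, ?_⟩
  · rw [(Commute.mul_pow (msc_comm b u) r), ← map_pow, hbr, hur, map_one, mul_one]
  · rw [map_mul, detMU_msc, Fintype.card_fin, hb, inv_mul_cancel]

/-- A matrix commuting with the representation is scalar. -/
theorem exists_scalar_of_commute_all {X : Matrix (Fin d) (Fin d) ℂ}
    (hX : ∀ a, Commute X (ρ.toHom a : Matrix (Fin d) (Fin d) ℂ)) : ∃ c : ℂ, X = c • 1 := by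
  have hall : ∀ Y, Commute X Y := by
    intro Y
    have hY : Y ∈ Submodule.span ℂ
        (Set.range fun a : E => (ρ.toHom a : Matrix (Fin d) (Fin d) ℂ)) := by
      rw [ρ.span_eq_top h]; trivial
    induction hY using Submodule.span_induction with
    | mem Y hY => obtain ⟨a, rfl⟩ := hY; exact hX a
    | zero => exact Commute.zero_right _
    | add Y Y' _ _ h1 h2 => exact h1.add_right h2
    | smul c Y _ h1 => exact h1.smul_right c
  obtain ⟨c, hc⟩ := mem_range_scalar_of_commute_single (M := X) fun i j _ => (hall _).symm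
  exact ⟨c, by rw [← hc, smul_one_eq_diagonal]; rfl⟩

/-- `tr T · tr T⁻¹ = 1` for an implementer of an automorphism of odd order fixing only the
centre. -/
theorem trace_mul_trace_inv {r : ℕ} (hodd : Odd r) {φ : MulAut E} (hφ : φ ^ r = 1)
    (hfix : ∀ a, φ a = a → a ∈ zpowers z) {T : MU (Fin d)} (hT : Impl ρ φ T) :
    trace (T : Matrix (Fin d) (Fin d) ℂ) * trace (↑T⁻¹ : Matrix (Fin d) (Fin d) ℂ) = 1 := by
  classical
  haveI := Fintype.ofFinite E
  set S : Matrix (Fin d) (Fin d) ℂ := ∑ a : E,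
    (ρ.toHom a : Matrix (Fin d) (Fin d) ℂ) * T * (↑(ρ.toHom a)⁻¹ : Matrix (Fin d) (Fin d) ℂ)
    with hS
  have hcom : ∀ b, Commute S (ρ.toHom b : Matrix (Fin d) (Fin d) ℂ) := by
    intro b
    simp only [hS, Commute, SemiconjBy, Finset.sum_mul, Finset.mul_sum]
    refine (Fintype.sum_equiv (Equiv.mulLeft b) _ _ fun a => ?_).symm
    simp [mul_assoc]
  obtain ⟨c, hc⟩ := ρ.exists_scalar_of_commute_all h hcom
  have hd0 : (d : ℂ) ≠ 0 := Nat.cast_ne_zero.2 (by simpa using (ρ.card_pos h).ne')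
  have htr : c * d = (Nat.card E : ℂ) * trace (T : Matrix (Fin d) (Fin d) ℂ) := by
    have h1 : trace S = (Fintype.card E : ℂ) * trace (T : Matrix (Fin d) (Fin d) ℂ) := by
      rw [hS, trace_sum, Finset.sum_congr rfl fun a _ => trace_units_conj (ρ.toHom a) _,
        Finset.sum_const, Finset.card_univ, nsmul_eq_mul]
    rw [hc, trace_smul, trace_one, Fintype.card_fin, smul_eq_mul] at h1
    rw [Nat.card_eq_fintype_card]
    exact h1
  have hterm : ∀ a : E,
      trace ((ρ.toHom a : Matrix (Fin d) (Fin d) ℂ) * (T : Matrix (Fin d) (Fin d) ℂ) * (↑(ρ.toHom a)⁻¹ : Matrix (Fin d) (Fin d) ℂ) *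
        (↑T⁻¹ : Matrix (Fin d) (Fin d) ℂ)) =
      if a ∈ zpowers z then (d : ℂ) else 0 := by
    intro a
    have h1 : ρ.toHom a * T * (ρ.toHom a)⁻¹ * T⁻¹ = ρ.toHom (a * (φ a)⁻¹) := by
      rw [map_mul, map_inv ρ.toHom (φ a), ← hT a]; group
    rw [← Units.val_mul, ← Units.val_mul, ← Units.val_mul, h1]
    split
    · next ha => rw [h.map_mem_zpowers φ ha, mul_inv_cancel, map_one, Units.val_one, trace_one,
        Fintype.card_fin]
    · next ha =>
      refine ρ.trace_eq_zero h fun hm => ha ?_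
      rcases h.mem_zpowers_iff.1 hm with h2 | h2
      · exact hfix a (mul_inv_eq_one.1 h2).symm
      exfalso
      have h3 : φ a = a * z := by
        have h4 := congrArg (fun w => w⁻¹) h2
        simp only [_root_.mul_inv_rev, inv_inv, h.z_inv] at h4
        rw [h.z_comm, ← h4]; group
      have h4 : ∀ n : ℕ, (φ ^ n) a = a * z ^ n := by
        intro n
        induction n with
        | zero => simp
        | succ n ih =>
          rw [pow_succ', MulAut.mul_apply, ih, map_mul, map_pow, h.map_z, h3, pow_succ',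
            mul_assoc]
      have h5 := h4 r
      rw [hφ, MulAut.one_apply, left_eq_mul, pow_eq_one_iff h.cp] at h5
      exact (Nat.not_even_iff_odd.2 hodd) (even_iff_two_dvd.2 h5)
  have hsum : c * trace (↑T⁻¹ : Matrix (Fin d) (Fin d) ℂ) = 2 * d := by
    have h1 : trace (S * (↑T⁻¹ : Matrix (Fin d) (Fin d) ℂ)) = 2 * d := by
      rw [hS, Finset.sum_mul, trace_sum, Finset.sum_congr rfl fun a _ => hterm a,
        Finset.sum_ite, Finset.sum_const_zero, add_zero, Finset.sum_const, nsmul_eq_mul]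
      congr 1
      have h2 : (Finset.univ.filter fun a : E => a ∈ zpowers z) = {1, z} := by
        ext a; simp [h.mem_zpowers_iff]
      rw [h2, Finset.card_pair h.z_ne_one.symm]
      norm_num
    rwa [hc, smul_mul_assoc, one_mul, trace_smul, smul_eq_mul] at h1
  have hcard : (Nat.card E : ℂ) = 2 * d * d := by
    rw [← ρ.card_eq, Fintype.card_fin]; push_cast; ring
  have hne : (2 * d * d : ℂ) ≠ 0 := mul_ne_zero (mul_ne_zero two_ne_zero hd0) hd0
  apply mul_left_cancel₀ hne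
  rw [← hcard, ← mul_assoc, ← htr, mul_right_comm, hsum, mul_one, hcard]

end MatRep

theorem pow_rho_mul {ι : Type} [Fintype ι] [DecidableEq ι] {ρ : MatRep z ι} {φ : MulAut E}
    {u : MU ι} (hu : Impl ρ φ u) (a : E) :
    ∀ j : ℕ, ∃ a' : E, (ρ.toHom a * u) ^ j = ρ.toHom a' * u ^ j
  | 0 => ⟨1, by simp⟩
  | j + 1 => by
    obtain ⟨a', ha'⟩ := pow_rho_mul hu a j
    refine ⟨a' * (φ ^ j) a, ?_⟩
    rw [pow_succ, ha', map_mul, ← hu.pow j a, pow_succ]
    group

/-- The base case: a 2-group normalising a fixed point free automorphism of odd prime order. -/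
theorem lift_cyclic (h : Piece z) (ρ : MatRep z (Fin d)) {r : ℕ} [hrf : Fact r.Prime] (hr2 : r ≠ 2)
    {k : MulAut E} (hk : orderOf k = r) (hfix : ∀ a, k a = a → a ∈ zpowers z)
    {Q : Subgroup (MulAut E)} (hQ2 : IsPGroup 2 Q) (hQk : ∀ x ∈ Q, x * k * x⁻¹ ∈ zpowers k) :
    Lift z Q := by
  classical
  haveI : Finite (MulAut E) := Finite.of_injective (fun φ : MulAut E => (φ : E → E))
    DFunLike.coe_injective
  have hr := hrf.out
  have hkr : k ^ r = 1 := by rw [← hk]; exact pow_orderOf_eq_one k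
  obtain ⟨T, hT, hTr, hTd⟩ := ρ.exists_norm h hr hr2 hkr
  set TM : Matrix (Fin d) (Fin d) ℂ := (T : Matrix (Fin d) (Fin d) ℂ) with hTM
  have hTMr : TM ^ r = 1 := by rw [hTM, ← Units.val_pow_eq_pow_val, hTr, Units.val_one]
  -- residues of the action of `Q` on `⟨k⟩`
  have hkinj : ∀ a b : ℕ, k ^ a = k ^ b → (a : ZMod r) = (b : ZMod r) := fun a b hab => by
    rw [pow_eq_pow_iff_modEq, hk] at hab
    exact (ZMod.natCast_eq_natCast_iff' _ _ _).2 hab
  have hpow : ∀ x : Q, ∃ t : ℕ, (x : MulAut E) * k * (x : MulAut E)⁻¹ = k ^ t := fun x => by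
    obtain ⟨t, -, ht⟩ := Finset.mem_image.1 (mem_zpowers_iff_mem_range_orderOf.1 (hQk x x.2))
    exact ⟨t, ht.symm⟩
  choose t ht using hpow
  let f0 : Q →* ZMod r :=
    { toFun := fun x => (t x : ZMod r)
      map_one' := by
        rw [← Nat.cast_one]
        refine hkinj _ _ ?_
        rw [← ht]; simp
      map_mul' := fun x y => by
        rw [← Nat.cast_mul]
        refine hkinj _ _ ?_
        rw [← ht, pow_mul, ← ht x, conj_pow, ← ht y, coe_mul]
        group }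
  let f : Q →* (ZMod r)ˣ := f0.toHomUnits
  haveI : IsCyclic (ZMod r)ˣ := ZMod.isCyclic_units_prime hr
  obtain ⟨⟨_, q, rfl⟩, hgen⟩ := IsCyclic.exists_generator (α := f.range)
  -- the centraliser of `k` in `Q`
  set P : Subgroup (MulAut E) := Q ⊓ centralizer ({k} : Set (MulAut E)) with hP
  have hPQ : P ≤ Q := inf_le_left
  have hPk : ∀ x ∈ P, x * k * x⁻¹ = k := fun x hx => by
    rw [mul_inv_eq_iff_eq_mul]; exact mem_centralizer_singleton_iff.1 hx.2
  have hqP : ∀ x ∈ P, (q : MulAut E) * x * (q : MulAut E)⁻¹ ∈ P := by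
    intro x hx
    refine ⟨mul_mem (mul_mem q.2 (hPQ hx)) (Q.inv_mem q.2), mem_centralizer_singleton_iff.2 ?_⟩
    have h1 : ∀ y : Q, f y = 1 → (y : MulAut E) * k = k * y := fun y hy => by
      have h2 : (t y : ZMod r) = ((1 : ℕ) : ZMod r) := by
        rw [Nat.cast_one]; exact congrArg Units.val hy
      have h3 : k ^ t y = k ^ 1 := by
        rw [pow_eq_pow_iff_modEq, hk]; exact (ZMod.natCast_eq_natCast_iff' _ _ _).1 h2
      rw [← mul_inv_eq_iff_eq_mul, ht y, h3, pow_one]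
    have h4 : f ⟨x, hPQ hx⟩ = 1 := by
      refine Units.ext ?_
      show (t ⟨x, hPQ hx⟩ : ZMod r) = 1
      rw [← Nat.cast_one]
      refine hkinj _ _ ?_
      rw [← ht, pow_one, hPk x hx]
    refine h1 ⟨_, mul_mem (mul_mem q.2 (hPQ hx)) (Q.inv_mem q.2)⟩ ?_
    rw [show (⟨(q : MulAut E) * x * (q : MulAut E)⁻¹, _⟩ : Q) = q * ⟨x, hPQ hx⟩ * q⁻¹ from rfl,
      map_mul, map_mul, h4, mul_one, ← map_mul, mul_inv_cancel, map_one]
  have hgenP : ∀ x ∈ Q, ∃ i : ℕ, ((q : MulAut E) ^ i)⁻¹ * x ∈ P := by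
    intro x hx
    obtain ⟨i, hi⟩ := (Submonoid.mem_powers_iff _ _).1
      ((isOfFinOrder_of_finite _).mem_powers_iff_mem_zpowers.2
        (hgen ⟨f ⟨x, hx⟩, ⟨_, rfl⟩⟩))
    refine ⟨i, mul_mem (Q.inv_mem (pow_mem q.2 i)) hx, mem_centralizer_singleton_iff.2 ?_⟩
    have h2 : f ((q ^ i)⁻¹ * ⟨x, hx⟩) = 1 := by
      rw [map_mul, map_inv, map_pow]
      exact inv_mul_eq_one.2 (congrArg Subtype.val hi)
    have h3 : (t ((q ^ i)⁻¹ * ⟨x, hx⟩) : ZMod r) = ((1 : ℕ) : ZMod r) := by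
      rw [Nat.cast_one]; exact congrArg Units.val h2
    have h4 := ht ((q ^ i)⁻¹ * ⟨x, hx⟩)
    rw [show k ^ t ((q ^ i)⁻¹ * ⟨x, hx⟩) = k ^ 1 by
      rw [pow_eq_pow_iff_modEq, hk]; exact (ZMod.natCast_eq_natCast_iff' _ _ _).1 h3, pow_one,
      mul_inv_eq_iff_eq_mul] at h4
    exact h4
  -- an eigenspace of odd dimension
  have htrT : trace (resPow TM (1 : ZMod r)) * trace (resPow TM (-1 : ZMod r)) = 1 := by
    have h1 : resPow TM (-1 : ZMod r) = (↑T⁻¹ : Matrix (Fin d) (Fin d) ℂ) := by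
      refine (Units.inv_eq_of_mul_eq_one_right ?_).symm
      calc TM * resPow TM (-1 : ZMod r) = resPow TM (1 : ZMod r) * resPow TM (-1 : ZMod r) := by
            rw [resPow_one]
        _ = 1 := by rw [← resPow_add hTMr, add_neg_cancel, resPow_zero]
    rw [resPow_one, h1]
    exact ρ.trace_mul_trace_inv h (hr.odd_of_ne_two hr2) hkr hfix hT
  obtain ⟨i, m, hmodd, hmtr⟩ := exists_odd_eigProj hTMr htrT
  set Pi := eigProj TM i with hPidef
  have hPi : Pi * Pi = Pi := eigProj_idem hTMr i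
  obtain ⟨m', hm', hdetm⟩ := exists_rank_idem hPi
  obtain rfl : m' = m := Nat.cast_injective (hm'.symm.trans hmtr)
  -- the normalised lift
  set M := Nat.card Q with hMdef
  have hM0 : 0 < M := Nat.card_pos
  obtain ⟨jM, hjM⟩ := IsPGroup.iff_card.1 hQ2
  obtain ⟨nd, hnd⟩ := ρ.dim_eq_two_pow h
  have hmM : m'.Coprime M := by
    rw [hMdef, hjM]
    exact (Nat.coprime_two_right.2 hmodd).pow_right jM
  have hmdM : m'.Coprime (d * M) := by
    rw [hMdef, hjM, hnd, ← pow_add]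
    exact (Nat.coprime_two_right.2 hmodd).pow_right _
  have hcomm : ∀ x ∈ P, ∀ u : MU (Fin d), Impl ρ x u → Commute TM (u : Matrix (Fin d) (Fin d) ℂ) := by
    intro x hx u hu
    have h1 : u * T * u⁻¹ = T := by
      refine ρ.norm_unique h hr hr2 (by simpa [hPk x hx] using hu.conj hT) hT ?_ hTr ?_ hTd
      · rw [conj_pow, hTr, mul_one, mul_inv_cancel]
      · rw [map_mul, map_mul, hTd, mul_one, ← map_mul, mul_inv_cancel, map_one]
    exact (congrArg Units.val (mul_inv_eq_iff_eq_mul.1 h1)).symm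
  have hcommPi : ∀ x ∈ P, ∀ u : MU (Fin d), Impl ρ x u → Commute Pi (u : Matrix (Fin d) (Fin d) ℂ) :=
    fun x hx u hu => commute_eigProj (hcomm x hx u hu) i
  let Norm : MU (Fin d) → Prop := fun u =>
    detOn Pi (u : Matrix (Fin d) (Fin d) ℂ) = 1 ∧ detMU _ u ^ M = 1
  have hsc : ∀ (c : ℂˣ) (u : MU (Fin d)), detOn Pi ((msc _ c * u : MU (Fin d)) : Matrix (Fin d) (Fin d) ℂ) =
      (c : ℂ) ^ m' * detOn Pi (u : Matrix (Fin d) (Fin d) ℂ) := by
    intro c u
    rw [Units.val_mul, msc_val, detOn_mul hPi ((Commute.one_right Pi).smul_right _),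
      detOn_smul_one, hdetm]
  have huniq : ∀ (x : MulAut E) (u v : MU (Fin d)), Impl ρ x u → Impl ρ x v → Norm u → Norm v →
      u = v := by
    intro x u v hu hv hnu hnv
    obtain ⟨c, hc⟩ := ρ.impl_unique h hu hv
    have h1 : c ^ m' = 1 := by
      have h2 := hnu.1
      rw [hc, hsc, hnv.1, mul_one] at h2
      exact Units.ext (by simpa using h2)
    have h2 : c ^ (d * M) = 1 := by
      have h3 := hnu.2
      rw [hc, map_mul, mul_pow, hnv.2, mul_one, detMU_msc, Fintype.card_fin, ← pow_mul] at h3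
      exact h3
    rw [hc, eq_one_of_coprime_periods hmdM h1 h2, map_one, one_mul]
  have hexist : ∀ x : P, ∃ u : MU (Fin d), Impl ρ x u ∧ Norm u := by
    intro x
    have hxM : (x : MulAut E) ^ M = 1 :=
      congrArg Subtype.val (pow_card_eq_one' (G := Q) (x := ⟨_, hPQ x.2⟩))
    obtain ⟨u, hu, huM⟩ := ρ.exists_impl_pow_eq_one h hM0 hxM
    have h1 : detOn Pi (u : Matrix (Fin d) (Fin d) ℂ) ^ M = 1 := by
      rw [← detOn_pow hPi (hcommPi x x.2 u hu), ← Units.val_pow_eq_pow_val, huM, Units.val_one,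
        detOn_one]
    have h0 : detOn Pi (u : Matrix (Fin d) (Fin d) ℂ) ≠ 0 := by
      intro h0
      rw [h0, zero_pow hM0.ne'] at h1
      exact zero_ne_one h1
    have h2 : (Units.mk0 _ h0)⁻¹ ^ M = 1 := by
      rw [inv_pow, inv_eq_one]; exact Units.ext (by simpa using h1)
    obtain ⟨b, hb, hbM⟩ := exists_root_period hM0 hmM h2
    refine ⟨msc _ b * u, hu.msc_mul b, ?_, ?_⟩
    · rw [hsc, ← Units.val_pow_eq_pow_val, hb, Units.val_inv_eq_inv_val, Units.val_mk0,
        inv_mul_cancel₀ h0]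
    · rw [map_mul, mul_pow, detMU_msc, ← map_pow (detMU (Fin d)) u, huM, map_one, mul_one,
        ← pow_mul, mul_comm, pow_mul, hbM, one_pow]
  choose Rf hRf hRn using hexist
  let R : P →* MU (Fin d) := MonoidHom.mk' Rf fun x y => by
    refine huniq _ _ _ (hRf (x * y)) ((hRf x).mul (hRf y)) (hRn _) ⟨?_, ?_⟩
    · rw [Units.val_mul, detOn_mul hPi (hcommPi x x.2 _ (hRf x)), (hRn x).1, (hRn y).1, mul_one]
    · rw [map_mul, mul_pow, (hRn x).2, (hRn y).2, mul_one]
  have hRM : ∀ x : P, R x ^ M = 1 := fun x => by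
    have h1 : (⟨(x : MulAut E), hPQ x.2⟩ : Q) ^ M = 1 := pow_card_eq_one'
    rw [← map_pow, show x ^ M = 1 from Subtype.ext (by simpa using congrArg Subtype.val h1),
      map_one]
  -- the Galois automorphism
  set n0 := Nat.card E * M with hn0
  have hn00 : 0 < n0 := Nat.mul_pos Nat.card_pos hM0
  have hcopn : Nat.Coprime r n0 := by
    obtain ⟨nE, hnE⟩ := h.card_eq_two_pow
    rw [hn0, hnE, hMdef, hjM, ← pow_add]
    exact ((Nat.coprime_primes hr Nat.prime_two).2 hr2).pow_right _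
  obtain ⟨k', hk'r, hk'n⟩ := Nat.chineseRemainder hcopn (t q) 1
  have htq : (t q : ZMod r) ≠ 0 := fun h0 => (f q).ne_zero h0
  have hk'cop : k'.Coprime (r * n0) := by
    refine Nat.Coprime.mul_right ?_ ?_
    · rw [Nat.coprime_comm, hr.coprime_iff_not_dvd]
      intro hd
      refine htq ?_
      rw [← (ZMod.natCast_eq_natCast_iff _ _ _).2 hk'r]
      exact (ZMod.natCast_eq_zero_iff _ _).2 hd
    · have : Nat.gcd k' n0 = 1 := by rw [hk'n.gcd_eq, Nat.gcd_one_left]
      exact this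
  obtain ⟨σ, hσ⟩ := GaloisChar80.exists_aut (Nat.mul_pos hr.pos hn00) hk'cop
  have hσn : ∀ μ : ℂ, μ ^ n0 = 1 → (σ : ℂ →+* ℂ) μ = μ := by
    intro μ hμ
    show σ μ = μ
    rw [hσ μ (by rw [mul_comm, pow_mul, hμ, one_pow]), pow_eq_pow_mod _ hμ, hk'n,
      ← pow_eq_pow_mod _ hμ, pow_one]
  set tq : ZMod r := (t q : ZMod r) with htqdef
  have hσψ : ∀ a : ZMod r, (σ : ℂ →+* ℂ) (ZMod.stdAddChar a) = ZMod.stdAddChar (tq * a) := by
    intro a
    have h1 : ZMod.stdAddChar a ^ r = (1 : ℂ) := by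
      rw [← AddChar.map_nsmul_eq_pow, nsmul_eq_mul, ZMod.natCast_self, zero_mul,
        AddChar.map_zero_eq_one]
    show σ _ = _
    rw [hσ _ (by rw [pow_mul, h1, one_pow]), ← AddChar.map_nsmul_eq_pow, nsmul_eq_mul,
      (ZMod.natCast_eq_natCast_iff _ _ _).2 hk'r]
  let Sσ : MU (Fin d) →* MU (Fin d) :=
    Units.map ((σ : ℂ →+* ℂ).mapMatrix (m := Fin d)).toMonoidHom
  have hSval : ∀ w : MU (Fin d), ((Sσ w : MU (Fin d)) : Matrix (Fin d) (Fin d) ℂ) =
      (σ : ℂ →+* ℂ).mapMatrix (w : Matrix (Fin d) (Fin d) ℂ) := fun w => rfl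
  let ρσ : MatRep z (Fin d) :=
    { toHom := Sσ.comp ρ.toHom
      map_z := by rw [MonoidHom.comp_apply, hSval, ρ.map_z, map_neg, map_one]
      card_eq := ρ.card_eq }
  obtain ⟨C, hC⟩ := ρ.exists_conj h ρσ
  have hσimpl : ∀ (φ : MulAut E) (w : MU (Fin d)), Impl ρ φ w →
      Impl ρ φ (C⁻¹ * Sσ w * C) := by
    intro φ w hw a
    have h1 : Sσ w * Sσ (ρ.toHom a) * (Sσ w)⁻¹ = Sσ (ρ.toHom (φ a)) := by
      rw [← map_mul, ← map_inv, ← map_mul, hw a]
    have h2 : ∀ a, Sσ (ρ.toHom a) = C * ρ.toHom a * C⁻¹ := fun a => (hC a).symm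
    rw [h2, h2] at h1
    calc C⁻¹ * Sσ w * C * ρ.toHom a * (C⁻¹ * Sσ w * C)⁻¹
        = C⁻¹ * (Sσ w * (C * ρ.toHom a * C⁻¹) * (Sσ w)⁻¹) * C := by group
      _ = ρ.toHom (φ a) := by rw [h1]; group
  have hσT : C⁻¹ * Sσ T * C = T := by
    refine ρ.norm_unique h hr hr2 (hσimpl k T hT) hT ?_ hTr ?_ hTd
    · have := conj_pow (a := C⁻¹) (b := Sσ T) (i := r)
      rw [inv_inv, ← map_pow, hTr, map_one, mul_one, inv_mul_cancel] at this
      exact this
    · have h1 : detMU (Fin d) (Sσ T) = 1 := by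
        refine Units.ext ?_
        show det ((σ : ℂ →+* ℂ).mapMatrix TM) = 1
        rw [← RingHom.map_det, show det TM = 1 from congrArg Units.val hTd, map_one]
      rw [map_mul, map_mul, h1, mul_one, ← map_mul, inv_mul_cancel, map_one]
  have hσR : ∀ x : P, C⁻¹ * Sσ (R x) * C = R x := by
    intro x
    obtain ⟨c, hc⟩ := ρ.impl_unique h (hσimpl _ _ (hRf x)) (hRf x)
    suffices hc1 : (c : ℂ) = 1 by
      have : c = 1 := Units.ext hc1
      change C⁻¹ * Sσ (Rf x) * C = Rf x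
      rw [hc, this, map_one, one_mul]
    haveI : Nonempty (Fin d) := ⟨⟨0, by simpa using ρ.card_pos h⟩⟩
    obtain ⟨a, ha⟩ := ρ.exists_trace_ne_zero h (R x).ne_zero
    have hper : ((ρ.toHom a * R x : MU (Fin d)) : Matrix (Fin d) (Fin d) ℂ) ^ n0 = 1 := by
      obtain ⟨a', ha'⟩ := pow_rho_mul (hRf x) a M
      have h2 : (ρ.toHom a * R x) ^ M = ρ.toHom a' := by
        show (ρ.toHom a * Rf x) ^ M = _
        rw [ha', show Rf x ^ M = 1 from hRM x, mul_one]
      rw [← Units.val_pow_eq_pow_val, hn0, mul_comm, pow_mul, h2, ← map_pow, pow_card_eq_one',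
        map_one, Units.val_one]
    have h1 : (σ : ℂ →+* ℂ) (trace ((ρ.toHom a * R x : MU (Fin d)) : Matrix (Fin d) (Fin d) ℂ)) =
        trace ((ρ.toHom a * R x : MU (Fin d)) : Matrix (Fin d) (Fin d) ℂ) :=
      map_trace_of_pow_eq_one hper _ hσn
    have h2 : (σ : ℂ →+* ℂ) (trace ((ρ.toHom a * R x : MU (Fin d)) : Matrix (Fin d) (Fin d) ℂ)) =
        (c : ℂ) * trace ((ρ.toHom a * R x : MU (Fin d)) : Matrix (Fin d) (Fin d) ℂ) := by
      have h3 : C⁻¹ * Sσ (ρ.toHom a * R x) * C = msc _ c * (ρ.toHom a * R x) := by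
        have h4 : Sσ (ρ.toHom a) = C * ρ.toHom a * C⁻¹ := (hC a).symm
        calc C⁻¹ * Sσ (ρ.toHom a * R x) * C
            = ρ.toHom a * (C⁻¹ * Sσ (Rf x) * C) := by rw [map_mul, h4]; group; rfl
          _ = _ := by rw [hc, ← mul_assoc, ← mul_assoc, msc_comm]; rfl
      have h5 := congrArg (fun w : MU (Fin d) => trace (w : Matrix (Fin d) (Fin d) ℂ)) h3
      simp only [Units.val_mul, msc_val, smul_mul_assoc, one_mul, trace_smul, smul_eq_mul] at h5
      rw [mul_assoc, trace_mul_comm, mul_assoc, Units.mul_inv, mul_one] at h5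
      rw [Units.val_mul, ← h5, hSval, RingHom.mapMatrix_apply, Units.val_mul]
      simp only [Matrix.trace, map_sum, Matrix.diag_apply, Matrix.map_apply]
    rw [h1] at h2
    rw [Units.val_mul] at h2
    exact (mul_left_eq_self₀.1 h2.symm).resolve_right ha
  -- the implementer of `q` respects the lift
  obtain ⟨u, hu⟩ := ρ.exists_impl h (q : MulAut E)
  refine lift_of_step h ρ q.2 hPQ hgenP hqP R hRf hu fun x => ?_
  refine huniq _ _ _ (hu.conj (hRf x)) (hRf ⟨_, hqP x x.2⟩) ⟨?_, ?_⟩ (hRn _)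
  swap
  · show detMU _ (u * Rf x * u⁻¹) ^ M = 1
    rw [map_mul, map_mul, mul_right_comm, ← map_mul, mul_inv_cancel, map_one, one_mul]
    exact (hRn x).2
  -- `u T u⁻¹ = T ^ t`
  have huT : u * T * u⁻¹ = T ^ t q := by
    refine ρ.norm_unique h hr hr2 (by rw [← ht q]; exact hu.conj hT) (hT.pow (t q)) ?_ ?_ ?_ ?_
    · rw [conj_pow, hTr, mul_one, mul_inv_cancel]
    · rw [← pow_mul, mul_comm, pow_mul, hTr, one_pow]
    · rw [map_mul, map_mul, hTd, mul_one, ← map_mul, mul_inv_cancel, map_one]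
    · rw [map_pow, hTd, one_pow]
  have huTa : ∀ a : ZMod r, (u : Matrix (Fin d) (Fin d) ℂ) * resPow TM a * (↑u⁻¹ : Matrix (Fin d) (Fin d) ℂ) =
      resPow TM (tq * a) := by
    intro a
    obtain ⟨a, rfl⟩ := ZMod.natCast_zmod_surjective a
    rw [htqdef, ← Nat.cast_mul, resPow_natCast hTMr, resPow_natCast hTMr]
    have h1 : u * T ^ a * u⁻¹ = T ^ (t q * a) := by rw [← conj_pow, huT, pow_mul]
    simpa [hTM] using congrArg (fun w : MU (Fin d) => (w : Matrix (Fin d) (Fin d) ℂ)) h1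
  -- the two conjugates of the projection
  set Pj := eigProj TM (tq * i) with hPj
  have hconjPi : (u : Matrix (Fin d) (Fin d) ℂ) * Pj * (↑u⁻¹ : Matrix (Fin d) (Fin d) ℂ) = Pi := by
    rw [hPj, hPidef, eigProj, eigProj, mul_smul_comm, smul_mul_assoc, Finset.mul_sum,
      Finset.sum_mul]
    congr 1
    refine Fintype.sum_bijective (fun a => tq * a) (mulLeft_bijective₀ tq htq) _ _ fun a => ?_
    rw [mul_smul_comm, smul_mul_assoc, huTa]
    congr 2
    ring
  have hσPi : (σ : ℂ →+* ℂ).mapMatrix Pi =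
      (C : Matrix (Fin d) (Fin d) ℂ) * Pj * (↑C⁻¹ : Matrix (Fin d) (Fin d) ℂ) := by
    have hσTa : ∀ a : ZMod r, (σ : ℂ →+* ℂ).mapMatrix (resPow TM a) =
        (C : Matrix (Fin d) (Fin d) ℂ) * resPow TM a * (↑C⁻¹ : Matrix (Fin d) (Fin d) ℂ) := by
      intro a
      have h1 : Sσ (T ^ a.val) = C * T ^ a.val * C⁻¹ := by
        rw [map_pow, ← conj_pow]
        congr 1
        conv_rhs => rw [← hσT]
        group
      have h2 := congrArg (fun w : MU (Fin d) => (w : Matrix (Fin d) (Fin d) ℂ)) h1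
      simp only [hSval, Units.val_mul, Units.val_pow_eq_pow_val] at h2
      exact h2
    have hsmul : ∀ (c : ℂ) (X : Matrix (Fin d) (Fin d) ℂ), (σ : ℂ →+* ℂ).mapMatrix (c • X) =
        (σ : ℂ →+* ℂ) c • (σ : ℂ →+* ℂ).mapMatrix X := fun c X => by
      ext i j; simp
    rw [hPidef, hPj, eigProj, eigProj, hsmul, map_inv₀, map_natCast, map_sum, mul_smul_comm,
      smul_mul_assoc, Finset.mul_sum, Finset.sum_mul]
    congr 1
    refine Finset.sum_congr rfl fun a _ => ?_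
    rw [hsmul, hσψ, hσTa, mul_smul_comm, smul_mul_assoc]
    congr 2
    ring
  show detOn Pi ((u * Rf x * u⁻¹ : MU (Fin d)) : Matrix (Fin d) (Fin d) ℂ) = 1
  rw [Units.val_mul, Units.val_mul, ← hconjPi, detOn_conj, ← detOn_conj C]
  have h1 : Sσ (R x) = C * R x * C⁻¹ := by
    conv_rhs => rw [← hσR x]
    group
  have h2 := congrArg (fun w : MU (Fin d) => (w : Matrix (Fin d) (Fin d) ℂ)) h1
  simp only [hSval, Units.val_mul] at h2
  rw [← hσPi]
  change detOn _ ((C : Matrix (Fin d) (Fin d) ℂ) * (R x : Matrix (Fin d) (Fin d) ℂ) * (↑C⁻¹ : Matrix (Fin d) (Fin d) ℂ)) = 1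
  rw [← h2, ← detOn_map, show detOn Pi (R x : Matrix (Fin d) (Fin d) ℂ) = 1 from (hRn x).1, map_one]

end Cfsg.Agent.FRLift62
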