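import Cfsg.Agent.Lib.ExtraTwoMain62

/-!
# Gluing homomorphisms over a split normal subgroup
-/

set_option autoImplicit false

namespace Cfsg.Agent.FRLift62

open Subgroup

variable {G U : Type*} [Group G] [Group U]

/-- A homomorphism of a split product `N S` from compatible homomorphisms of the factors. -/
theorem exists_glue {N S P : Subgroup G} [N.Normal] (hdis : N ⊓ S = ⊥) (hNP : N ≤ P) (hSP : S ≤ P)
    (hP : P ≤ N ⊔ S) (f : N →* U) (R : S →* U)
    (hcomp : ∀ (s : S) (n : N),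
      R s * f n * (R s)⁻¹ = f ⟨(s : G) * n * (s : G)⁻¹, Normal.conj_mem inferInstance (n : G) n.2 s⟩) :
    ∃ η : P →* U, (∀ n : N, η ⟨n, hNP n.2⟩ = f n) ∧ ∀ s : S, η ⟨s, hSP s.2⟩ = R s := by
  have hdec : ∀ x : P, ∃ (n : N) (s : S), (x : G) = n * s := by
    intro x
    obtain ⟨n, hn, s, hs, h⟩ := mem_sup_of_normal_left.1 (hP x.2)
    exact ⟨⟨n, hn⟩, ⟨s, hs⟩, h.symm⟩
  choose pn ps hps using hdec
  have huniq : ∀ (n n' : N) (s s' : S), (n : G) * s = n' * s' → n = n' ∧ s = s' := by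
    intro n n' s s' h
    have h1 : (n' : G)⁻¹ * n = s' * (s : G)⁻¹ := by
      calc (n' : G)⁻¹ * n = (n' : G)⁻¹ * (n * s) * (s : G)⁻¹ := by group
        _ = s' * (s : G)⁻¹ := by rw [h]; group
    have h2 : (n' : G)⁻¹ * n ∈ N ⊓ S :=
      ⟨mul_mem (N.inv_mem n'.2) n.2, by rw [h1]; exact mul_mem s'.2 (S.inv_mem s.2)⟩
    rw [hdis, mem_bot] at h2
    refine ⟨Subtype.ext (inv_mul_eq_one.1 h2).symm, Subtype.ext ?_⟩
    rw [h2] at h1
    exact (mul_inv_eq_one.1 h1.symm).symm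
  have hval : ∀ (x : P) (n : N) (s : S), (x : G) = n * s → f (pn x) * R (ps x) = f n * R s := by
    intro x n s h
    obtain ⟨h1, h2⟩ := huniq (pn x) n (ps x) s ((hps x).symm.trans h)
    rw [h1, h2]
  let η : P →* U := MonoidHom.mk' (fun x => f (pn x) * R (ps x)) fun x y => by
    rw [hval (x * y) (pn x * ⟨(ps x : G) * pn y * (ps x : G)⁻¹,
      Normal.conj_mem inferInstance (pn y : G) (pn y).2 _⟩) (ps x * ps y) (by
        rw [coe_mul, hps x, hps y]
        push_cast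
        group)]
    rw [map_mul, map_mul, ← hcomp]
    group
  refine ⟨η, fun n => ?_, fun s => ?_⟩
  · exact (hval ⟨n, hNP n.2⟩ n 1 (by simp)).trans (by simp)
  · exact (hval ⟨s, hSP s.2⟩ 1 s (by simp)).trans (by simp)

end Cfsg.Agent.FRLift62
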