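import Cfsg.Agent.Lib.ExtraTwoRep62

/-!
# Central product decompositions: tensor products of lifts, and the swap of two halves
-/

set_option autoImplicit false

namespace Cfsg.Agent.FRLift62

open Subgroup Cfsg.Agent.PGroupsExtraspecial Matrix
open scoped commutatorElement Kronecker

variable {E : Type*} [Group E]

/-- The stabiliser of a subgroup in the automorphism group. -/
def stab (S : Subgroup E) : Subgroup (MulAut E) where
  carrier := {φ | ∀ e, φ e ∈ S ↔ e ∈ S}
  one_mem' := fun _ => Iff.rfl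
  mul_mem' := fun {a b} ha hb e => (ha (b e)).trans (hb e)
  inv_mem' := fun {a} ha e => by
    have h1 := ha (a⁻¹ e)
    rw [MulAut.apply_inv_self] at h1
    exact h1.symm

/-- The restriction of an automorphism to a subgroup it stabilises. -/
def res (S : Subgroup E) : stab S →* MulAut S where
  toFun φ :=
    { toFun := fun s => ⟨(φ : MulAut E) s, (φ.2 s).2 s.2⟩
      invFun := fun s => ⟨(φ : MulAut E)⁻¹ s, ((inv_mem φ.2) s).2 s.2⟩
      left_inv := fun s => Subtype.ext (MulAut.inv_apply_self E (φ : MulAut E) s)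
      right_inv := fun s => Subtype.ext (MulAut.apply_inv_self E (φ : MulAut E) s)
      map_mul' := fun s t => Subtype.ext (map_mul (φ : MulAut E) (s : E) t) }
  map_one' := MulEquiv.ext fun _ => rfl
  map_mul' _ _ := MulEquiv.ext fun _ => rfl

@[simp] theorem res_apply_coe (S : Subgroup E) (φ : stab S) (s : S) :
    ((res S φ s : S) : E) = (φ : MulAut E) s := rfl

/-- The group induced on a subgroup. -/
def resImg (S : Subgroup E) (Q : Subgroup (MulAut E)) : Subgroup (MulAut S) :=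
  (Q.subgroupOf (stab S)).map (res S)

/-- The map onto the induced group. -/
def toResImg {S : Subgroup E} {Q : Subgroup (MulAut E)} (hQ : Q ≤ stab S) : Q →* resImg S Q :=
  ((res S).comp (inclusion hQ)).codRestrict (resImg S Q) fun x =>
    ⟨⟨x, hQ x.2⟩, x.2, rfl⟩

@[simp] theorem toResImg_apply_coe {S : Subgroup E} {Q : Subgroup (MulAut E)} (hQ : Q ≤ stab S)
    (x : Q) (s : S) : (((toResImg hQ x : resImg S Q) : MulAut S) s : E) = (x : MulAut E) s := rfl

theorem toResImg_surjective {S : Subgroup E} {Q : Subgroup (MulAut E)} (hQ : Q ≤ stab S) :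
    Function.Surjective (toResImg hQ) := by
  rintro ⟨_, ⟨φ, hφ, rfl⟩⟩
  exact ⟨⟨φ, hφ⟩, rfl⟩

theorem mem_stab_of_forall [Finite E] {S : Subgroup E} {φ : MulAut E} (h : ∀ s ∈ S, φ s ∈ S) :
    φ ∈ stab S := by
  refine fun e => ⟨fun he => ?_, h e⟩
  have hbij : Function.Surjective (fun s : S => (⟨φ s, h s s.2⟩ : S)) :=
    Finite.surjective_of_injective fun a b hab =>
      Subtype.ext (φ.injective (congrArg Subtype.val hab))
  obtain ⟨s, hs⟩ := hbij ⟨_, he⟩
  have h1 : φ (s : E) = φ e := congrArg Subtype.val hs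
  exact φ.injective h1 ▸ s.2

/-- The Kronecker product of invertible matrices. -/
noncomputable def kronU (ι κ : Type) [Fintype ι] [DecidableEq ι] [Fintype κ] [DecidableEq κ] :
    MU ι × MU κ →* MU (ι × κ) where
  toFun p :=
    { val := (p.1 : Matrix ι ι ℂ) ⊗ₖ (p.2 : Matrix κ κ ℂ)
      inv := (↑p.1⁻¹ : Matrix ι ι ℂ) ⊗ₖ (↑p.2⁻¹ : Matrix κ κ ℂ)
      val_inv := by rw [← mul_kronecker_mul, Units.mul_inv, Units.mul_inv, one_kronecker_one]
      inv_val := by rw [← mul_kronecker_mul, Units.inv_mul, Units.inv_mul, one_kronecker_one] }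
  map_one' := Units.ext (one_kronecker_one)
  map_mul' p q := Units.ext (mul_kronecker_mul _ _ _ _)

theorem kronU_val (ι κ : Type) [Fintype ι] [DecidableEq ι] [Fintype κ] [DecidableEq κ]
    (p : MU ι × MU κ) :
    ((kronU ι κ p : MU (ι × κ)) : Matrix (ι × κ) (ι × κ) ℂ) =
      (p.1 : Matrix ι ι ℂ) ⊗ₖ (p.2 : Matrix κ κ ℂ) := rfl

variable {z : E} [Finite E]

/-- The tensor product representation on a central product. -/
theorem exists_tensor (h : Piece z) {A B : Subgroup E} (hA : Nondeg z A)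
    (hB : B = centralizer (A : Set E)) {ι κ : Type} [Fintype ι] [DecidableEq ι] [Fintype κ]
    [DecidableEq κ] (ρA : MatRep (⟨z, hA.1 (mem_zpowers z)⟩ : A) ι) (hzB : z ∈ B)
    (ρB : MatRep (⟨z, hzB⟩ : B) κ) :
    ∃ ρ : MatRep z (ι × κ), ∀ (a : A) (b : B),
      ρ.toHom ((a : E) * b) = kronU ι κ (ρA.toHom a, ρB.toHom b) := by
  classical
  let zA : A := ⟨z, hA.1 (mem_zpowers z)⟩
  let zB : B := ⟨z, hzB⟩
  have hcomm : ∀ (a : A) (b : B), Commute (a : E) b := fun a b => by
    have := mem_centralizer_iff.1 (hB.le b.2) (a : E) a.2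
    exact this
  let mu : A × B →* E :=
    A.subtype.noncommCoprod B.subtype fun a b => hcomm a b
  have hsurj : Function.Surjective mu := by
    intro e
    obtain ⟨f, hf, hfe⟩ := exists_mul_centralizer h.cp (h.commInto A) hA e
    exact ⟨(⟨f, hf⟩, ⟨f⁻¹ * e, hB.ge hfe⟩), mul_inv_cancel_left f e⟩
  let φ : A × B →* MU (ι × κ) := (kronU ι κ).comp (ρA.toHom.prodMap ρB.toHom)
  have hker : mu.ker = zpowers ((zA, zB) : A × B) := by
    refine le_antisymm ?_ (zpowers_le.2 ?_)
    · rintro ⟨a, b⟩ hab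
      have hab' : (a : E) * b = 1 := hab
      have hb : (b : E) = (a : E)⁻¹ := eq_inv_of_mul_eq_one_right hab'
      have hc : (a : E)⁻¹ ∈ centralizer (A : Set E) := hb ▸ hB.le b.2
      have haZ : (a : E) ∈ zpowers z := hA.2 ⟨a.2, (Subgroup.inv_mem_iff _).1 hc⟩
      rcases h.mem_zpowers_iff.1 haZ with h1 | h1
      · have ha : a = 1 := Subtype.ext h1
        have hb1 : b = 1 := Subtype.ext (by rw [hb, h1, inv_one]; rfl)
        rw [ha, hb1]
        exact one_mem _
      · have ha : a = zA := Subtype.ext h1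
        have hb1 : b = zB := Subtype.ext (by rw [hb, h1, h.z_inv])
        rw [ha, hb1]
        exact mem_zpowers _
    · exact h.z_mul_self
  have hle : mu.ker ≤ φ.ker := by
    rw [hker, zpowers_le]
    refine Units.ext ?_
    show ((kronU ι κ (ρA.toHom zA, ρB.toHom zB) : MU (ι × κ)) : Matrix (ι × κ) (ι × κ) ℂ) = 1
    rw [kronU_val, ρA.map_z, ρB.map_z]
    ext x y
    simp [kroneckerMap_apply, Matrix.one_apply, Prod.ext_iff, ite_and]
    split_ifs <;> simp_all
  let η : E →* MU (ι × κ) :=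
    mu.liftOfRightInverse (Function.surjInv hsurj) (Function.rightInverse_surjInv hsurj) ⟨φ, hle⟩
  have hη : ∀ x, η (mu x) = φ x := fun x => MonoidHom.liftOfRightInverse_comp_apply _ _ _ _ x
  refine ⟨⟨η, ?_, ?_⟩, fun a b => hη (a, b)⟩
  · have h1 : mu (zA, 1) = z := mul_one z
    rw [← h1, hη]
    show ((kronU ι κ (ρA.toHom zA, ρB.toHom 1) : MU (ι × κ)) : Matrix (ι × κ) (ι × κ) ℂ) = -1
    rw [kronU_val, ρA.map_z, map_one, Units.val_one]
    ext x y
    simp [kroneckerMap_apply, Matrix.one_apply, Prod.ext_iff, ite_and]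
    split_ifs <;> simp_all
  · have h1 : mu.ker.index = Nat.card E := by
      rw [index_ker, MonoidHom.range_eq_top.2 hsurj, card_top]
    have h2 := mu.ker.card_mul_index
    have h3 : orderOf ((zA, zB) : A × B) = 2 := by
      refine orderOf_eq_prime ?_ fun h4 => h.z_ne_one (congrArg (fun x => ((x.1 : A) : E)) h4)
      rw [pow_two]
      exact Prod.ext (Subtype.ext h.z_mul_self) (Subtype.ext h.z_mul_self)
    rw [h1, hker, Nat.card_zpowers, h3, Nat.card_prod, ← ρA.card_eq, ← ρB.card_eq] at h2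
    rw [Fintype.card_prod]
    apply Nat.eq_of_mul_eq_mul_left two_pos
    rw [h2]
    ring

/-- A lift on each factor gives a lift. -/
theorem lift_of_product (h : Piece z) {A : Subgroup E} (hA : Nondeg z A)
    {Q : Subgroup (MulAut E)} (hQA : Q ≤ stab A) (hQB : Q ≤ stab (centralizer (A : Set E)))
    (hlA : Lift (⟨z, hA.1 (mem_zpowers z)⟩ : A) (resImg A Q))
    (hlB : Lift (⟨z, (h.nondeg_centralizer hA).1 (mem_zpowers z)⟩ : centralizer (A : Set E))
      (resImg (centralizer (A : Set E)) Q)) : Lift z Q := by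
  obtain ⟨dA, ρA, RA, hRA⟩ := hlA
  obtain ⟨dB, ρB, RB, hRB⟩ := hlB
  obtain ⟨ρ, hρ⟩ := exists_tensor h hA rfl ρA _ ρB
  refine Lift.of_index ρ
    ((kronU _ _).comp ((RA.comp (toResImg hQA)).prod (RB.comp (toResImg hQB)))) fun x e => ?_
  obtain ⟨f, hf, hfe⟩ := exists_mul_centralizer h.cp (h.commInto A) hA e
  set a : A := ⟨f, hf⟩
  set b : centralizer (A : Set E) := ⟨f⁻¹ * e, hfe⟩
  have he : e = (a : E) * b := (mul_inv_cancel_left f e).symm
  have hxe : (x : MulAut E) e = ((((toResImg hQA x : resImg A Q) : MulAut A) a : A) : E) *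
      ((((toResImg hQB x : resImg _ Q) : MulAut _) b : centralizer (A : Set E)) : E) := by
    rw [toResImg_apply_coe, toResImg_apply_coe, ← map_mul, ← he]
  rw [hxe, he, hρ, hρ]
  simp only [MonoidHom.comp_apply]
  rw [← map_inv, ← map_mul, ← map_mul]
  congr 1
  exact Prod.ext (hRA _ a) (hRB _ b)

/-- The permutation matrix exchanging two tensor factors. -/
noncomputable def swapU (ι : Type) [Fintype ι] [DecidableEq ι] : MU (ι × ι) where
  val := (1 : Matrix (ι × ι) (ι × ι) ℂ).submatrix Prod.swap id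
  inv := (1 : Matrix (ι × ι) (ι × ι) ℂ).submatrix Prod.swap id
  val_inv := by
    ext x y
    rw [Matrix.mul_apply, Finset.sum_eq_single x.swap]
    · simp [Matrix.one_apply]
    · intro b _ hb
      simp [Matrix.one_apply, Ne.symm hb]
    · simp
  inv_val := by
    ext x y
    rw [Matrix.mul_apply, Finset.sum_eq_single x.swap]
    · simp [Matrix.one_apply]
    · intro b _ hb
      simp [Matrix.one_apply, Ne.symm hb]
    · simp

theorem swapU_conj (ι : Type) [Fintype ι] [DecidableEq ι] (p q : MU ι) :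
    swapU ι * kronU ι ι (p, q) * (swapU ι)⁻¹ = kronU ι ι (q, p) := by
  refine Units.ext ?_
  ext x y
  show (((1 : Matrix (ι × ι) (ι × ι) ℂ).submatrix Prod.swap id *
    ((p : Matrix ι ι ℂ) ⊗ₖ (q : Matrix ι ι ℂ))) *
    (1 : Matrix (ι × ι) (ι × ι) ℂ).submatrix Prod.swap id) x y =
      ((q : Matrix ι ι ℂ) ⊗ₖ (p : Matrix ι ι ℂ)) x y
  rw [Matrix.mul_apply, Finset.sum_eq_single y.swap]
  · simp [Matrix.mul_apply, Matrix.one_apply, kroneckerMap_apply, mul_comm]
  · intro b _ hb
    have : b.swap ≠ y := fun h1 => hb (by rw [← h1, Prod.swap_swap])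
    simp [Matrix.one_apply, this]
  · simp

/-- Two halves exchanged by `q`, with a lift of the index two subgroup on one of them. -/
theorem lift_of_swap (h : Piece z) {A : Subgroup E} (hA : Nondeg z A)
    {P Q : Subgroup (MulAut E)} {q : MulAut E} (hq : q ∈ Q) (hPQ : P ≤ Q) (hPA : P ≤ stab A)
    (hq2 : q * q ∈ P) (hgen : ∀ x ∈ Q, ∃ i : ℕ, (q ^ i)⁻¹ * x ∈ P)
    (hqP : ∀ x ∈ P, q * x * q⁻¹ ∈ P)
    (hqA : ∀ a ∈ A, q a ∈ centralizer (A : Set E))
    (hqB : ∀ b ∈ centralizer (A : Set E), q b ∈ A)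
    (hlA : Lift (⟨z, hA.1 (mem_zpowers z)⟩ : A) (resImg A P)) : Lift z Q := by
  obtain ⟨dA, ρA, RA', hRA'⟩ := hlA
  let RA : P →* MU (Fin dA) := RA'.comp (toResImg hPA)
  have hRA : ∀ (x : P) (a : A) (a' : A), (a' : E) = (x : MulAut E) a →
      RA x * ρA.toHom a * (RA x)⁻¹ = ρA.toHom a' := fun x a a' haa => by
    rw [MonoidHom.comp_apply, hRA' (toResImg hPA x) a]
    congr 1
    exact Subtype.ext haa.symm
  have hqinv : ∀ b ∈ centralizer (A : Set E), q⁻¹ b ∈ A := by
    intro b hb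
    have h1 : (q * q)⁻¹ * q = q⁻¹ := by group
    rw [← h1, MulAut.mul_apply]
    exact ((hPA (inv_mem hq2)) _).2 (hqB b hb)
  have hqP' : ∀ x ∈ P, q⁻¹ * x * q ∈ P := fun x hx => by
    have h1 : q⁻¹ * x * q = (q * q)⁻¹ * (q * x * q⁻¹) * (q * q) := by group
    rw [h1]
    exact mul_mem (mul_mem (inv_mem hq2) (hqP x hx)) hq2
  set B := centralizer (A : Set E) with hB
  let τ : B →* A :=
    { toFun := fun b => ⟨q⁻¹ b, hqinv b b.2⟩
      map_one' := Subtype.ext (map_one q⁻¹)
      map_mul' := fun b c => Subtype.ext (map_mul q⁻¹ (b : E) c) }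
  have hzB : z ∈ B := (h.nondeg_centralizer hA).1 (mem_zpowers z)
  have hcardB : Nat.card A ≤ Nat.card B ∧ Nat.card B ≤ Nat.card A :=
    ⟨Nat.card_le_card_of_injective (fun a : A => (⟨q a, hqA a a.2⟩ : B))
      (fun a b hab => Subtype.ext (q.injective (congrArg Subtype.val hab))),
    Nat.card_le_card_of_injective (fun b : B => (⟨q b, hqB b b.2⟩ : A))
      (fun a b hab => Subtype.ext (q.injective (congrArg Subtype.val hab)))⟩
  let ρB : MatRep (⟨z, hzB⟩ : B) (Fin dA) :=
    { toHom := ρA.toHom.comp τ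
      map_z := by
        have : τ ⟨z, hzB⟩ = ⟨z, hA.1 (mem_zpowers z)⟩ := Subtype.ext (h.map_z q⁻¹)
        rw [MonoidHom.comp_apply, this, ρA.map_z]
      card_eq := by rw [ρA.card_eq]; omega }
  obtain ⟨ρ, hρ⟩ := exists_tensor h hA hB ρA hzB ρB
  let cq : P →* P :=
    { toFun := fun x => ⟨q⁻¹ * x * q, hqP' x x.2⟩
      map_one' := Subtype.ext (by simp)
      map_mul' := fun x y => Subtype.ext (by simp [mul_assoc]) }
  let R : P →* MU (Fin dA × Fin dA) := (kronU _ _).comp (RA.prod (RA.comp cq))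
  have hR : ∀ x : P, Impl ρ x (R x) := by
    intro x e
    obtain ⟨f, hf, hfe⟩ := exists_mul_centralizer h.cp (h.commInto A) hA e
    set a : A := ⟨f, hf⟩
    set b : B := ⟨f⁻¹ * e, hfe⟩
    have he : e = (a : E) * b := (mul_inv_cancel_left f e).symm
    have hxB : (x : MulAut E) b ∈ B := by
      refine mem_centralizer_iff.2 fun c hc => ?_
      have h1 := mem_centralizer_iff.1 b.2 ((x : MulAut E)⁻¹ c)
        (((inv_mem (hPA x.2)) c).2 hc)
      have h2 := congrArg (x : MulAut E) h1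
      rw [map_mul (x : MulAut E) ((x : MulAut E)⁻¹ c) (b : E),
        map_mul (x : MulAut E) (b : E) ((x : MulAut E)⁻¹ c), MulAut.apply_inv_self] at h2
      exact h2
    have hxe : (x : MulAut E) e =
        ((⟨(x : MulAut E) a, (hPA x.2 a).2 a.2⟩ : A) : E) * ((⟨_, hxB⟩ : B) : E) := by
      rw [he, map_mul]
    rw [hxe, he, hρ, hρ]
    simp only [R, MonoidHom.comp_apply]
    rw [← map_inv, ← map_mul, ← map_mul]
    congr 1
    refine Prod.ext (hRA x a _ rfl) (hRA (cq x) (τ b) (τ ⟨_, hxB⟩) ?_)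
    show q⁻¹ ((x : MulAut E) b) = (q⁻¹ * x * q) (q⁻¹ b)
    simp [MulAut.mul_apply]
  let u : MU (Fin dA × Fin dA) :=
    kronU _ _ (RA ⟨q * q, hq2⟩, 1) * swapU (Fin dA)
  have hu : ∀ (p p' : MU (Fin dA)), u * kronU _ _ (p, p') * u⁻¹ =
      kronU _ _ (RA ⟨q * q, hq2⟩ * p' * (RA ⟨q * q, hq2⟩)⁻¹, p) := by
    intro p p'
    calc u * kronU _ _ (p, p') * u⁻¹
        = kronU _ _ (RA ⟨q * q, hq2⟩, 1) *
            (swapU (Fin dA) * kronU _ _ (p, p') * (swapU (Fin dA))⁻¹) *
            (kronU _ _ (RA ⟨q * q, hq2⟩, 1))⁻¹ := by simp only [u]; group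
      _ = _ := by
        rw [swapU_conj, ← map_inv, ← map_mul, ← map_mul]
        congr 1
        exact Prod.ext rfl (by simp)
  refine lift_of_step h ρ hq hPQ hgen hqP R hR (u := u) ?_ fun x => ?_
  · intro e
    obtain ⟨f, hf, hfe⟩ := exists_mul_centralizer h.cp (h.commInto A) hA e
    set a : A := ⟨f, hf⟩
    set b : B := ⟨f⁻¹ * e, hfe⟩
    have he : e = (a : E) * b := (mul_inv_cancel_left f e).symm
    have hqe : q e = ((⟨q b, hqB b b.2⟩ : A) : E) * ((⟨q a, hqA a a.2⟩ : B) : E) := by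
      rw [he, map_mul]
      exact (mem_centralizer_iff.1 (hqA a a.2) (q b) (hqB b b.2)).symm
    rw [hqe, he, hρ, hρ, hu]
    congr 1
    refine Prod.ext (hRA ⟨q * q, hq2⟩ (τ b) _ ?_) ?_
    · show q (b : E) = (q * q) (q⁻¹ b)
      simp [MulAut.mul_apply]
    · show ρA.toHom a = ρA.toHom (τ _)
      congr 1
      exact Subtype.ext (MulAut.inv_apply_self E q (a : E)).symm
  · show u * kronU _ _ (RA x, RA (cq x)) * u⁻¹ = kronU _ _ (RA _, RA (cq _))
    rw [hu, ← map_inv, ← map_mul, ← map_mul]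
    congr 1
    refine Prod.ext (congrArg RA (Subtype.ext ?_)) (congrArg RA (Subtype.ext ?_))
    · show q * q * (q⁻¹ * x * q) * (q * q)⁻¹ = q * x * q⁻¹
      group
    · show (x : MulAut E) = q⁻¹ * (q * x * q⁻¹) * q
      group

end Cfsg.Agent.FRLift62
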