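import Cfsg.Agent.Lib.ExtraTwoCyclic62
import Cfsg.Agent.Lib.ExtraTwoProd62
import Cfsg.Agent.Lib.FrobeniusFPF
import Cfsg.Agent.Lib.CharBasicDecomp
import Cfsg.Agent.Lib.CharBasic

/-!
# A 2-group normalising an odd solvable group without fixed points lifts
-/

set_option autoImplicit false

namespace Cfsg.Agent.FRLift62

open Subgroup Cfsg.Agent.PGroupsExtraspecial
open scoped commutatorElement

universe u

section helpers

variable {E : Type u} [Group E] {z : E}

/-- `φ` conjugates `L` into itself. -/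
def Norm' (L Q : Subgroup (MulAut E)) : Prop := ∀ φ ∈ Q, ∀ l ∈ L, φ * l * φ⁻¹ ∈ L

theorem Norm'.inv {L Q : Subgroup (MulAut E)} (h : Norm' L Q) {φ l : MulAut E} (hφ : φ ∈ Q)
    (hl : l ∈ L) : φ⁻¹ * l * φ ∈ L := by
  simpa using h φ⁻¹ (inv_mem hφ) l hl

theorem le_stab_fixPts [Finite E] {L Q : Subgroup (MulAut E)} (h : Norm' L Q) :
    Q ≤ stab (fixPts L) := fun φ hφ => mem_stab_of_forall fun e he l hl => by
  have h1 := congrArg φ (he _ (h.inv hφ hl))
  rwa [MulAut.mul_apply, MulAut.mul_apply, MulAut.apply_inv_self] at h1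

theorem le_stab_centralizer [Finite E] {S : Subgroup E} {Q : Subgroup (MulAut E)}
    (h : Q ≤ stab S) : Q ≤ stab (centralizer (S : Set E)) := fun φ hφ =>
  mem_stab_of_forall fun b hb => mem_centralizer_iff.2 fun c hc => by
    have h1 := congrArg φ (mem_centralizer_iff.1 hb (φ⁻¹ c) (((inv_mem (h hφ)) c).2 hc))
    rwa [map_mul, map_mul, MulAut.apply_inv_self] at h1

theorem Piece.nondeg_map (hz : Piece z) {S : Subgroup E} (hS : Nondeg z S) (φ : MulAut E) :
    Nondeg z (S.map φ.toMonoidHom) := by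
  refine ⟨zpowers_le.2 ⟨z, hS.1 (mem_zpowers z), hz.map_z φ⟩, ?_⟩
  rintro _ ⟨⟨s, hs, rfl⟩, hc⟩
  have h1 : s ∈ zpowers z := hS.2 ⟨hs, mem_centralizer_iff.2 fun g hg => φ.injective (by
    rw [map_mul, map_mul]; exact mem_centralizer_iff.1 hc (φ g) ⟨g, hg, rfl⟩)⟩
  show φ s ∈ zpowers z
  rw [hz.map_mem_zpowers φ h1]
  exact h1

theorem Piece.nondeg_finset_sup (hz : Piece z) (s : Finset (Subgroup E))
    (hnd : ∀ A ∈ s, Nondeg z A)
    (hc : ∀ A ∈ s, ∀ B ∈ s, A ≠ B → A ≤ centralizer (B : Set E)) :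
    Nondeg z (zpowers z ⊔ s.sup id) := by
  classical
  induction s using Finset.induction_on with
  | empty => simpa using hz.nondeg_zpowers
  | insert A s hA ih =>
    have h1 := ih (fun B hB => hnd B (Finset.mem_insert_of_mem hB))
      (fun B hB C hC => hc B (Finset.mem_insert_of_mem hB) C (Finset.mem_insert_of_mem hC))
    rw [Finset.sup_insert, id_eq, sup_comm A, ← sup_assoc]
    refine hz.nondeg_sup h1 (hnd A (Finset.mem_insert_self A s)) (sup_le ?_ (Finset.sup_le ?_))
    · exact zpowers_le.2 (mem_centralizer_iff.2 fun g _ => hz.z_comm g)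
    · intro B hB
      exact hc B (Finset.mem_insert_of_mem hB) A (Finset.mem_insert_self A s)
        (fun hBA => hA (hBA ▸ hB))

variable [Finite E]

theorem card_lt_of_ne_top {S : Subgroup E} (hS : S ≠ ⊤) : Nat.card S < Nat.card E := by
  refine lt_of_le_of_ne (Nat.le_of_dvd Nat.card_pos (card_subgroup_dvd_card S)) fun h => hS ?_
  exact Subgroup.eq_top_of_card_eq S h

theorem Piece.centralizer_ne_top (hz : Piece z) {S : Subgroup E} (hS : Nondeg z S)
    (h : S ≠ zpowers z) : centralizer (S : Set E) ≠ ⊤ := fun htop => h <| le_antisymm (fun s hs =>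
  hz.mem_center_iff'.1 (mem_center_iff.2 fun g =>
    (mem_centralizer_iff.1 (htop ▸ mem_top g) s hs).symm)) hS.1

theorem fixPts_eq_top_iff {L : Subgroup (MulAut E)} : fixPts L = ⊤ ↔ L = ⊥ := by
  refine ⟨fun h => (eq_bot_iff_forall _).2 fun l hl => MulEquiv.ext fun e =>
    mem_fixPts.1 (h ▸ mem_top e) l hl, ?_⟩
  rintro rfl
  exact eq_top_iff.2 fun e _ l hl => by rw [mem_bot.1 hl]; rfl

theorem resImg_odd {S : Subgroup E} {K : Subgroup (MulAut E)} (hK : K ≤ stab S)
    (hodd : Odd (Nat.card K)) : Odd (Nat.card (resImg S K)) := by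
  haveI : Finite (MulAut E) := Finite.of_injective (fun φ : MulAut E => (φ : E → E))
    DFunLike.coe_injective
  exact hodd.of_dvd_nat (Subgroup.card_dvd_of_surjective _ (toResImg_surjective hK))

theorem resImg_norm {S : Subgroup E} {K Q : Subgroup (MulAut E)} (h : Norm' K Q) :
    Norm' (resImg S K) (resImg S Q) := by
  rintro _ ⟨φ, hφ, rfl⟩ _ ⟨l, hl, rfl⟩
  exact ⟨φ * l * φ⁻¹, h φ hφ l hl, by rw [map_mul, map_mul, map_inv]⟩

theorem resImg_fixPts {S : Subgroup E} {K : Subgroup (MulAut E)} (hK : K ≤ stab S)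
    (hS : Nondeg z S) (hfix : fixPts K ≤ zpowers z) :
    fixPts (resImg S K) ≤ zpowers (⟨z, hS.1 (mem_zpowers z)⟩ : S) := by
  intro s hs
  have h1 : (s : E) ∈ zpowers z := hfix fun k hk => by
    have := congrArg Subtype.val (hs _ (toResImg hK ⟨k, hk⟩).2)
    exact this
  obtain ⟨j, hj⟩ := Subgroup.mem_zpowers_iff.1 h1
  exact Subgroup.mem_zpowers_iff.2 ⟨j, Subtype.ext (by rw [SubgroupClass.coe_zpow]; exact hj)⟩

/-- An irreducible representation nontrivial on `z` sends it to `-1` and has the square root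
dimension. -/
theorem Piece.irr_facts (hz : Piece z) {d : ℕ} (σ : Representation ℂ E (Fin d → ℂ))
    [σ.IsIrreducible] (hχz : σ.character z ≠ σ.character 1) :
    σ z = -1 ∧ d * d * 2 = Nat.card E := by
  classical
  haveI := Fintype.ofFinite E
  set χ : Cfsg.IrrCharacter E := ⟨σ.character, d, σ, inferInstance, rfl⟩ with hχdef
  have hχ : (χ : E → ℂ) z ≠ (χ : E → ℂ) 1 := hχz
  have hch : σ.character = (χ : E → ℂ) := rfl
  obtain ⟨c, hc⟩ := CharBasic.exists_scalar_of_mem_center σ hz.cp.1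
  haveI := CharBasic.nontrivial_of_irreducible σ
  have hc2 : c * c = 1 := by
    have h1 : σ z * σ z = 1 := by rw [← map_mul, hz.z_mul_self, map_one]
    rw [hc] at h1
    obtain ⟨v, hv⟩ := exists_ne (0 : Fin d → ℂ)
    have h2 := LinearMap.congr_fun h1 v
    simp only [Module.End.mul_apply, LinearMap.smul_apply, LinearMap.id_apply, map_smul, smul_smul,
      Module.End.one_apply] at h2
    exact smul_left_injective ℂ hv (h2.trans (one_smul ℂ v).symm)
  have hc1 : c = -1 := by
    rcases mul_self_eq_one_iff.1 hc2 with h1 | h1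
    · refine absurd ?_ hχ
      rw [← hch]
      simp [Representation.character, hc, h1, Module.End.one_eq_id]
    · exact h1
  have hz' : σ z = -1 := by rw [hc, hc1]; ext; simp
  have hvan : ∀ a, a ∉ zpowers z → (χ : E → ℂ) a = 0 := by
    intro a ha
    obtain ⟨b, hb⟩ := hz.exists_not_commute ha
    have h1 := σ.char_conj a b
    rw [show b * a * b⁻¹ = a * z by rw [hb, mul_assoc a b z, hz.z_comm b]; group] at h1
    rw [← hch]
    have h2 : σ a * σ z = -σ a := by rw [hz']; ext; simp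
    simp only [Representation.character, map_mul, h2, map_neg] at h1 ⊢
    exact self_eq_neg.1 h1.symm
  have h1d : (χ : E → ℂ) 1 = d := by rw [← hch]; simp
  have hzd : (χ : E → ℂ) z = -(d : ℂ) := by
    rw [← hch]
    simp [Representation.character, hz']
  have hnorm : (2 * d * d : ℂ) = Nat.card E := by
    have h1 := CharBasicOrth.classInner_irr_self χ.2
    rw [Cfsg.classInner, ← Finset.sum_subset (Finset.subset_univ {1, z})
      (fun a _ ha => by
        rw [hvan a fun h => ha (by rcases hz.mem_zpowers_iff.1 h with rfl | rfl <;> simp),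
          zero_mul]),
      Finset.sum_pair hz.z_ne_one.symm, h1d, hzd, map_neg, Complex.conj_natCast] at h1
    rw [Nat.card_eq_fintype_card] at h1 ⊢
    field_simp at h1
    linear_combination h1
  refine ⟨hz', ?_⟩
  have h1 : ((d * d * 2 : ℕ) : ℂ) = (Nat.card E : ℕ) := by
    push_cast
    rw [← hnorm]; ring
  exact_mod_cast h1

/-- The representation attached to an irreducible one. -/
noncomputable def Piece.matRepOfIrr (hz : Piece z) {d : ℕ} (σ : Representation ℂ E (Fin d → ℂ))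
    [σ.IsIrreducible] (hχz : σ.character z ≠ σ.character 1) : MatRep z (Fin d) where
  toHom := MonoidHom.toHomUnits
    ((LinearMap.toMatrixAlgEquiv' (R := ℂ) (n := Fin d)).toRingEquiv.toMonoidHom.comp σ)
  map_z := by
    show LinearMap.toMatrixAlgEquiv' (σ z) = -1
    rw [(hz.irr_facts σ hχz).1, map_neg, map_one]
  card_eq := by rw [Fintype.card_fin]; exact (hz.irr_facts σ hχz).2

/-- The existence of a representation with `z ↦ -1`. -/
theorem Piece.exists_matRep (hz : Piece z) : ∃ d, Nonempty (MatRep z (Fin d)) := by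
  obtain ⟨χ, hχ⟩ : ∃ χ : Cfsg.IrrCharacter E, (χ : E → ℂ) z ≠ (χ : E → ℂ) 1 := by
    by_contra hne
    push Not at hne
    obtain ⟨g, hg⟩ := isConj_iff.1 ((CharBasicOrth.isConj_iff_forall_irr z 1).2 hne)
    exact hz.z_ne_one (by simpa [mul_inv_eq_one] using hg)
  obtain ⟨d, σ, hσ, hch⟩ := χ.2
  haveI := hσ
  exact ⟨d, ⟨hz.matRepOfIrr σ (by rw [hch]; exact hχ)⟩⟩

theorem Piece.lift_of_card_two (hz : Piece z) (hE : ∀ e : E, e ∈ zpowers z)
    (Q : Subgroup (MulAut E)) : Lift z Q := by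
  obtain ⟨d, ⟨ρ⟩⟩ := hz.exists_matRep
  exact ⟨d, ρ, 1, fun x a => by simp [hz.map_mem_zpowers (x : MulAut E) (hE a)]⟩

end helpers

/-- Main theorem: lifts exist. -/
theorem lift_main_aux : ∀ n, ∀ {E : Type u} [Group E] [Finite E] {z : E}, Piece z → Nat.card E < n →
    ∀ K Q : Subgroup (MulAut E), Odd (Nat.card K) → Group.IsSolvable K →
      fixPts K ≤ zpowers z → IsPGroup 2 Q → Norm' K Q → Lift z Q := by
  intro n
  induction n with
  | zero => intro E _ _ z _ h; exact absurd h (Nat.not_lt_zero _)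
  | succ n ih =>
  intro E _ _ z hz hn K Q hodd hsol hfix hQ2 hKQ
  classical
  haveI : Finite (MulAut E) := Finite.of_injective (fun φ : MulAut E => (φ : E → E))
    DFunLike.coe_injective
  by_cases hE : ∀ e : E, e ∈ zpowers z
  · exact hz.lift_of_card_two hE Q
  -- recursion on a piece
  have hrec : ∀ (S : Subgroup E) (hS : Nondeg z S), S ≠ ⊤ → ∀ K' Q' : Subgroup (MulAut E),
      K' ≤ stab S → Q' ≤ stab S → Odd (Nat.card K') → Group.IsSolvable K' →
      fixPts K' ≤ zpowers z → IsPGroup 2 Q' → Norm' K' Q' →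
      Lift (⟨z, hS.1 (mem_zpowers z)⟩ : S) (resImg S Q') := by
    intro S hS hne K' Q' hK'S hQ'S hodd' hsol' hfix' hQ'2 hN
    refine ih (hz.restrict hS) (lt_of_lt_of_le (card_lt_of_ne_top hne) (Nat.lt_succ_iff.1 hn))
      (resImg S K') (resImg S Q') (resImg_odd hK'S hodd') ?_ (resImg_fixPts hK'S hS hfix')
      (hQ'2.of_surjective _ (toResImg_surjective hQ'S)) (resImg_norm hN)
    haveI := hsol'
    exact Group.isSolvable_of_surjective (toResImg_surjective hK'S)
  -- a split in two smaller pieces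
  have hprod : ∀ (A : Subgroup E) (_ : Nondeg z A), A ≠ zpowers z → A ≠ ⊤ →
      ∀ K' : Subgroup (MulAut E), K' ≤ stab A → Q ≤ stab A → Odd (Nat.card K') →
      Group.IsSolvable K' → fixPts K' ≤ zpowers z → Norm' K' Q → Lift z Q := by
    intro A hA hAZ hAT K' hK'A hQA hodd' hsol' hfix' hN
    exact lift_of_product hz hA hQA (le_stab_centralizer hQA)
      (hrec A hA hAT K' Q hK'A hQA hodd' hsol' hfix' hQ2 hN)
      (hrec _ (hz.nondeg_centralizer hA) (hz.centralizer_ne_top hA hAZ) K' Q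
        (le_stab_centralizer hK'A) (le_stab_centralizer hQA) hodd' hsol' hfix' hQ2 hN)
  -- a minimal invariant subgroup
  have hKne : K ≠ ⊥ := fun h => hE fun e => hfix (fixPts_eq_top_iff.2 h ▸ mem_top e)
  obtain ⟨L, ⟨hLK, hLne, hLKn, hLQ⟩, hLmin⟩ := Set.Finite.exists_minimalFor
    (fun L : Subgroup (MulAut E) => Nat.card L)
    {L | L ≤ K ∧ L ≠ ⊥ ∧ Norm' L K ∧ Norm' L Q} (Set.toFinite _)
    ⟨K, le_rfl, hKne, fun φ hφ l hl => mul_mem (mul_mem hφ hl) (inv_mem hφ), hKQ⟩
  have hmin : ∀ L' : Subgroup (MulAut E), L' ≤ L → L' ≠ ⊥ → Norm' L' K → Norm' L' Q → L' = L :=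
    fun L' h1 h2 h3 h4 => eq_of_le_of_card_ge h1
      (hLmin ⟨h1.trans hLK, h2, h3, h4⟩ (card_le_of_le h1))
  have hLodd : Odd (Nat.card L) := hodd.of_dvd_nat (card_dvd_of_le hLK)
  haveI := hsol
  haveI hLsol : Group.IsSolvable L :=
    Group.isSolvable_of_isSolvable_injective (f := inclusion hLK) (inclusion_injective _)
  have hLcomm : ∀ a ∈ L, ∀ b ∈ L, a * b = b * a := by
    have hnorm : ∀ R : Subgroup (MulAut E), Norm' L R → Norm' ⁅L, L⁆ R := by
      intro R hR φ hφ c hc
      have h1 : ⁅L, L⁆.map (MulAut.conj φ).toMonoidHom ≤ ⁅L, L⁆ := by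
        rw [map_commutator]
        refine commutator_mono ?_ ?_ <;>
          · rintro _ ⟨l, hl, rfl⟩
            exact hR φ hφ l hl
      exact h1 ⟨c, hc, rfl⟩
    by_contra hne
    have hne' : ⁅L, L⁆ ≠ ⊥ := fun h => hne fun a ha b hb =>
      mem_centralizer_iff.1 (commutator_eq_bot_iff_le_centralizer.1 h hb) a ha
    have h1 := hmin _ (commutator_le_self L) hne' (hnorm K hLKn) (hnorm Q hLQ)
    haveI : Nontrivial L := (Subgroup.nontrivial_iff_ne_bot L).2 hLne
    rw [← map_subtype_commutator] at h1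
    have h2 : _root_.commutator L = ⊤ := eq_top_iff.2 fun x _ => by
      obtain ⟨y, hy, hyx⟩ := h1.ge x.2
      rwa [Subtype.ext hyx] at hy
    exact (Group.IsSolvable.commutator_lt_top_of_nontrivial L).ne h2
  -- prime exponent
  obtain ⟨r, hr, hrL⟩ := Nat.exists_prime_and_dvd (n := Nat.card L)
    (fun h => hLne (card_eq_one.1 h))
  haveI := Fact.mk hr
  have hr2 : r ≠ 2 := by
    rintro rfl
    exact (Nat.not_even_iff_odd.2 hLodd) (even_iff_two_dvd.2 hrL)
  have hexp : ∀ l ∈ L, l ^ r = 1 := by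
    let O : Subgroup (MulAut E) :=
      { carrier := {l | l ∈ L ∧ l ^ r = 1}
        one_mem' := ⟨one_mem _, one_pow r⟩
        mul_mem' := fun {a b} ha hb => ⟨mul_mem ha.1 hb.1, by
          rw [(show Commute a b from hLcomm a ha.1 b hb.1).mul_pow, ha.2, hb.2, one_mul]⟩
        inv_mem' := fun {a} ha => ⟨inv_mem ha.1, by rw [inv_pow, ha.2, inv_one]⟩ }
    have hO : ∀ R : Subgroup (MulAut E), Norm' L R → Norm' O R := fun R hR φ hφ l hl =>
      ⟨hR φ hφ l hl.1, by rw [conj_pow, hl.2, mul_one, mul_inv_cancel]⟩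
    have hOne : O ≠ ⊥ := by
      obtain ⟨l, hl⟩ := exists_prime_orderOf_dvd_card' r hrL
      intro hb
      have h1 : (l : MulAut E) ∈ O :=
        ⟨l.2, by rw [← hl, ← Subgroup.orderOf_coe, pow_orderOf_eq_one]⟩
      rw [hb, mem_bot] at h1
      rw [show l = 1 from Subtype.ext h1, orderOf_one] at hl
      exact hr.one_lt.ne hl
    have h1 := hmin O (fun l hl => hl.1) hOne (hO K hLKn) (hO Q hLQ)
    intro l hl
    exact (h1.ge hl).2
  by_cases hfL : fixPts L ≤ zpowers z
  swap
  · exact hprod (fixPts L) (hz.nondeg_fixPts hLodd) (fun h => hfL h.le)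
      (fun h => hLne (fixPts_eq_top_iff.1 h)) K (le_stab_fixPts hLKn) (le_stab_fixPts hLQ)
      hodd hsol hfix hKQ
  -- now `L` is without fixed points
  haveI hLs : Group.IsSolvable L := hLsol
  by_cases hfree : ∀ l ∈ L, l ≠ 1 → fixPts (zpowers l) ≤ zpowers z
  · -- cyclic case
    haveI hZn : (zpowers z).Normal := hz.normal_of_le le_rfl
    letI : CommGroup (E ⧸ zpowers z) :=
      { (inferInstance : Group (E ⧸ zpowers z)) with
        mul_comm := by
          rintro ⟨a⟩ ⟨b⟩
          show ((a * b : E) : E ⧸ zpowers z) = ((b * a : E) : E ⧸ zpowers z)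
          rw [QuotientGroup.eq]
          have : (a * b)⁻¹ * (b * a) = ⁅b⁻¹, a⁻¹⁆ := by rw [commutatorElement_def]; group
          rw [this]
          exact hz.comm_mem _ _ }
    have hmapZ : ∀ l : MulAut E,
        zpowers z ≤ (zpowers z).comap (l : E ≃* E).toMonoidHom := fun l c hc => by
      show l c ∈ zpowers z
      rw [hz.map_mem_zpowers l hc]; exact hc
    letI : MulDistribMulAction L (E ⧸ zpowers z) :=
      { smul := fun l v => QuotientGroup.map _ _ ((l : MulAut E) : E ≃* E).toMonoidHom (hmapZ l) v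
        one_smul := by rintro ⟨a⟩; rfl
        mul_smul := by rintro l m ⟨a⟩; rfl
        smul_mul := fun l v w => map_mul _ v w
        smul_one := fun l => map_one _ }
    haveI : Nontrivial (E ⧸ zpowers z) := by
      push Not at hE
      obtain ⟨e, he⟩ := hE
      exact ⟨⟨(e : E ⧸ zpowers z), 1, fun h => he ((QuotientGroup.eq_one_iff e).1 h)⟩⟩
    have hfpf : FrobeniusFPF.IsFPF L (E ⧸ zpowers z) := by
      rintro l hl ⟨a⟩ ha
      have h1 : ((l : MulAut E) a : E ⧸ zpowers z) = (a : E ⧸ zpowers z) := ha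
      refine (QuotientGroup.eq_one_iff a).2
        (hfree l l.2 (fun h => hl (Subtype.ext h)) fun m hm => ?_)
      obtain ⟨j, rfl⟩ := Subgroup.mem_zpowers_iff.1 hm
      have hla : (l : MulAut E) a = a := by
        rcases hz.mem_zpowers_iff.1 (QuotientGroup.eq.1 h1.symm) with h2 | h2
        · exact (inv_mul_eq_one.1 h2).symm
        exfalso
        have h3 : (l : MulAut E) a = a * z := eq_mul_of_inv_mul_eq h2
        have h4 : ∀ i : ℕ, ((l : MulAut E) ^ i) a = a * z ^ i := by
          intro i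
          induction i with
          | zero => simp
          | succ i ih =>
            rw [pow_succ', MulAut.mul_apply, ih, map_mul, map_pow, hz.map_z, h3, pow_succ',
              mul_assoc]
        have h5 := h4 r
        rw [hexp l l.2, MulAut.one_apply, left_eq_mul, pow_eq_one_iff hz.cp] at h5
        exact hr2 ((Nat.prime_dvd_prime_iff_eq Nat.prime_two hr).1 h5).symm
      have hstab : (l : MulAut E) ∈ MulAction.stabilizer (MulAut E) a := hla
      exact zpow_mem hstab j
    haveI : IsCyclic L := FrobeniusFPF.isCyclic_of_comm hfpf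
      fun a b => Subtype.ext (hLcomm a a.2 b b.2)
    obtain ⟨⟨k, hkL⟩, hgen⟩ := IsCyclic.exists_generator (α := L)
    have hLk : ∀ l ∈ L, l ∈ zpowers k := fun l hl => by
      obtain ⟨j, hj⟩ := Subgroup.mem_zpowers_iff.1 (hgen ⟨l, hl⟩)
      exact Subgroup.mem_zpowers_iff.2 ⟨j, congrArg Subtype.val hj⟩
    have hk : orderOf k = r := orderOf_eq_prime (hexp k hkL) fun h => hLne <|
      (eq_bot_iff_forall _).2 fun l hl => by simpa [h] using hLk l hl
    obtain ⟨d, ⟨ρ⟩⟩ := hz.exists_matRep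
    refine lift_cyclic hz ρ hr2 hk (fun a ha => hfL fun l hl => ?_) hQ2
      fun x hx => hLk _ (hLQ x hx k hkL)
    obtain ⟨j, rfl⟩ := Subgroup.mem_zpowers_iff.1 (hLk l hl)
    exact zpow_mem (show k ∈ MulAction.stabilizer (MulAut E) a from ha) j
  -- a maximal subgroup with fixed points
  push Not at hfree
  obtain ⟨l₀, hl₀L, hl₀1, hl₀⟩ := hfree
  obtain ⟨M, ⟨hML, hMfix⟩, hMmax⟩ := Set.Finite.exists_maximalFor
    (fun M : Subgroup (MulAut E) => Nat.card M) {M | M ≤ L ∧ ¬ fixPts M ≤ zpowers z}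
    (Set.toFinite _) ⟨zpowers l₀, zpowers_le.2 hl₀L, hl₀⟩
  have hMne : M ≠ ⊥ := fun h => by
    have h1 := hMmax (j := zpowers l₀) ⟨zpowers_le.2 hl₀L, hl₀⟩
      (by simp only [h, card_bot]; exact Nat.card_pos)
    simp only [h, card_bot, Nat.card_zpowers] at h1
    exact hl₀1 (orderOf_eq_one_iff.1 (le_antisymm h1 (orderOf_pos l₀)))
  set cM : MulAut E → Subgroup (MulAut E) := fun x => M.map (MulAut.conj x).toMonoidHom with hcM
  have hcomp : ∀ x y, (cM y).map (MulAut.conj x).toMonoidHom = cM (x * y) := fun x y => by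
    simp only [hcM, Subgroup.map_map]
    congr 1
  have hM1 : cM 1 = M := by
    ext t
    simp [hcM, Subgroup.mem_map]
  have hcM_mem : ∀ x m, m ∈ M → x * m * x⁻¹ ∈ cM x := fun x m hm => ⟨m, hm, rfl⟩
  have hcML : ∀ x ∈ Q, cM x ≤ L := by
    rintro x hx _ ⟨m, hm, rfl⟩
    exact hLQ x hx m (hML hm)
  have hcard : ∀ x, Nat.card (cM x) = Nat.card M := fun x =>
    card_map_of_injective (MulAut.conj x).injective
  have hfixc : ∀ x, fixPts (cM x) = (fixPts M).map x.toMonoidHom := fun x => fixPts_conj x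
  have hndc : ∀ x, Nondeg z (fixPts (cM x)) := fun x => by
    rw [hfixc]
    exact hz.nondeg_map (hz.nondeg_fixPts (hLodd.of_dvd_nat (card_dvd_of_le hML))) x
  have hLcM : ∀ {x}, x ∈ Q → L ≤ stab (fixPts (cM x)) := fun {x} hx =>
    le_stab_fixPts fun φ hφ m hm => by
      rw [hLcomm φ hφ m (hcML x hx hm), mul_inv_cancel_right]
      exact hm
  have hLL : Norm' L L := fun φ hφ l hl => mul_mem (mul_mem hφ hl) (inv_mem hφ)
  have hcomm : ∀ x ∈ Q, ∀ y ∈ Q, cM x ≠ cM y →
      fixPts (cM y) ≤ centralizer (fixPts (cM x) : Set E) := by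
    intro x hx y hy hne
    refine hz.fixPts_le_centralizer (hLodd.of_dvd_nat (card_dvd_of_le (hcML x hx)))
      (fun m hm b hb => ((hLcM hy (hcML x hx hm)) b).2 hb) ?_
    rw [← fixPts_sup]
    by_contra hbig
    have h1 : Nat.card M ≤ Nat.card ↥(cM x ⊔ cM y) := by
      rw [← hcard x]; exact card_le_of_le le_sup_left
    have h2 := hMmax (j := cM x ⊔ cM y) ⟨sup_le (hcML x hx) (hcML y hy), hbig⟩ h1
    have h3 : cM x = cM x ⊔ cM y := eq_of_le_of_card_ge le_sup_left (by rw [hcard]; exact h2)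
    have h4 : cM y ≤ cM x := by rw [h3]; exact le_sup_right
    exact hne (eq_of_le_of_card_ge h4 (by rw [hcard, hcard])).symm
  let S : Subgroup Q :=
    { carrier := {x | cM x = M}
      one_mem' := hM1
      mul_mem' := fun {a b} (ha : cM a = M) (hb : cM b = M) => by
        show cM ((a : MulAut E) * b) = M
        rw [← hcomp, hb]
        exact ha
      inv_mem' := fun {a} (ha : cM a = M) => by
        show cM (a : MulAut E)⁻¹ = M
        conv_lhs => rw [show cM (a : MulAut E)⁻¹ = M.map (MulAut.conj (a : MulAut E)⁻¹).toMonoidHom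
          from rfl, ← ha]
        rw [hcomp, inv_mul_cancel, hM1] }
  rcases IsCoatomic.eq_top_or_exists_le_coatom S with hStop | ⟨P', hP'co, hSP'⟩
  · refine hprod (fixPts M) (hz.nondeg_fixPts (hLodd.of_dvd_nat (card_dvd_of_le hML)))
      (fun h => hMfix h.le) (fun h => hMne (fixPts_eq_top_iff.1 h)) L ?_ ?_ hLodd hLs hfL hLQ
    · rw [← hM1]; exact hLcM (one_mem Q)
    · refine le_stab_fixPts fun φ hφ m hm => ?_
      have h1 : cM φ = M := hStop.ge (mem_top (⟨φ, hφ⟩ : Q))
      exact h1.le (hcM_mem φ m hm)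
  -- two halves
  have hP'idx : P'.index = 2 := by
    haveI : Fact (Nat.Prime 2) := ⟨Nat.prime_two⟩
    obtain ⟨a, ha⟩ := IsPGroup.iff_card.1 (hQ2.to_subgroup P')
    obtain ⟨b, hb⟩ := IsPGroup.iff_card.1 hQ2
    have hlt : a < b := by
      have h1 : Nat.card P' < Nat.card Q := lt_of_le_of_ne
        (Nat.le_of_dvd Nat.card_pos (card_subgroup_dvd_card P'))
        fun h => hP'co.1 (eq_top_of_card_eq P' h)
      rw [ha, hb] at h1
      exact (Nat.pow_lt_pow_iff_right one_lt_two).1 h1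
    obtain ⟨P'', hP'', hle⟩ := Sylow.exists_subgroup_card_pow_succ
      (p := 2) (n := a) (hb ▸ pow_dvd_pow 2 hlt) ha
    have htop : P'' = ⊤ := by
      refine hP'co.2 _ (lt_of_le_of_ne hle fun h => ?_)
      rw [← h, ha] at hP''
      exact absurd (Nat.pow_right_injective le_rfl hP'') (Nat.succ_ne_self a).symm
    have h2 := P'.card_mul_index
    rw [← card_top (G := Q), ← htop, hP'', ha, pow_succ] at h2
    exact Nat.eq_of_mul_eq_mul_left (Nat.pow_pos two_pos) h2
  obtain ⟨q, hq⟩ : ∃ q : Q, q ∉ P' := by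
    by_contra h
    push Not at h
    exact hP'co.1 (eq_top_iff.2 fun x _ => h x)
  haveI : P'.Normal := normal_of_index_eq_two hP'idx
  set P : Subgroup (MulAut E) := P'.map Q.subtype with hP
  have hPQ : P ≤ Q := map_subtype_le _
  have hq2 : (q : MulAut E) * q ∈ P := ⟨q * q, mul_self_mem_of_index_two hP'idx q, rfl⟩
  have hqP : ∀ x ∈ P, (q : MulAut E) * x * (q : MulAut E)⁻¹ ∈ P := by
    rintro _ ⟨x, hx, rfl⟩
    exact ⟨q * x * q⁻¹, Normal.conj_mem inferInstance x hx q, rfl⟩
  have hgen : ∀ x ∈ Q, ∃ i : ℕ, ((q : MulAut E) ^ i)⁻¹ * x ∈ P := by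
    intro x hx
    by_cases hxP : (⟨x, hx⟩ : Q) ∈ P'
    · exact ⟨0, ⟨⟨x, hx⟩, hxP, by simp⟩⟩
    · refine ⟨1, ⟨q⁻¹ * ⟨x, hx⟩, ?_, by simp⟩⟩
      exact (mul_mem_iff_of_index_two hP'idx).2 (iff_of_false (by simpa using hq) hxP)
  haveI := Fintype.ofFinite P
  let orb : Finset (Subgroup E) :=
    (Finset.univ : Finset P).image fun x => fixPts (cM (x : MulAut E))
  have horb : ∀ A, A ∈ orb ↔ ∃ x ∈ P, A = fixPts (cM x) := by
    intro A
    simp [orb, eq_comm]
  set F : Subgroup E := zpowers z ⊔ orb.sup id with hF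
  have hFnd : Nondeg z F := hz.nondeg_finset_sup orb
    (fun A hA => by obtain ⟨x, -, rfl⟩ := (horb A).1 hA; exact hndc x)
    (fun A hA B hB hne => by
      obtain ⟨x, hx, rfl⟩ := (horb A).1 hA
      obtain ⟨y, hy, rfl⟩ := (horb B).1 hB
      exact hcomm y (hPQ hy) x (hPQ hx) fun h => hne (by rw [h]))
  have hleF : ∀ x ∈ P, fixPts (cM x) ≤ F := fun x hx =>
    (Finset.le_sup (f := id) ((horb _).2 ⟨x, hx, rfl⟩)).trans le_sup_right
  have hFne : F ≠ zpowers z := fun h => hMfix (h ▸ hM1 ▸ hleF 1 (one_mem P))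
  have hmapc : ∀ x y, (fixPts (cM y)).map x.toMonoidHom = fixPts (cM (x * y)) := by
    intro x y
    rw [hfixc, hfixc, Subgroup.map_map]
    congr 1
  have hPF : P ≤ stab F := fun x hx => mem_stab_of_forall fun f hf => by
    have h1 : F.map x.toMonoidHom ≤ F := by
      rw [hF, map_le_iff_le_comap]
      refine sup_le (fun c hc => ?_) (Finset.sup_le fun A hA => ?_)
      · rw [mem_comap, MulEquiv.coe_toMonoidHom, hz.map_mem_zpowers x hc]
        exact mem_sup_left hc
      · obtain ⟨y, hy, rfl⟩ := (horb A).1 hA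
        rw [← hF, id_eq, ← map_le_iff_le_comap, hmapc]
        exact hleF _ (mul_mem hx hy)
    exact h1 ⟨f, hf, rfl⟩
  have hstab1 : ∀ x : Q, cM x = M → x ∈ P' := fun x hx => hSP' hx
  have hqC : F.map (q : MulAut E).toMonoidHom ≤ centralizer (F : Set E) := by
    rw [hF, map_le_iff_le_comap]
    refine sup_le (fun c hc => ?_) (Finset.sup_le fun A hA => ?_)
    · rw [mem_comap, MulEquiv.coe_toMonoidHom, hz.map_mem_zpowers _ hc]
      exact zpowers_le.2 (mem_centralizer_iff.2 fun g _ => hz.z_comm g) hc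
    · obtain ⟨y, hy, rfl⟩ := (horb A).1 hA
      rw [← hF, id_eq, ← map_le_iff_le_comap, hmapc, le_centralizer_iff, hF]
      refine sup_le (zpowers_le.2 (mem_centralizer_iff.2 fun g _ => hz.z_comm g))
        (Finset.sup_le fun B hB => ?_)
      obtain ⟨x, hx, rfl⟩ := (horb B).1 hB
      refine hcomm _ (mul_mem q.2 (hPQ hy)) x (hPQ hx) fun h => ?_
      obtain ⟨y', hy', rfl⟩ := hy
      obtain ⟨x', hx', rfl⟩ := hx
      have h2 : cM ((x'⁻¹ * (q * y') : Q) : MulAut E) = M := by
        show cM ((x' : MulAut E)⁻¹ * ((q : MulAut E) * y')) = M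
        rw [← hcomp, show cM ((q : MulAut E) * y') = cM (x' : MulAut E) from h, hcomp,
          inv_mul_cancel, hM1]
      have h4 := mul_mem (mul_mem hx' (hstab1 _ h2)) (inv_mem hy')
      apply hq
      have h5 : x' * (x'⁻¹ * (q * y')) * y'⁻¹ = q := by group
      rwa [h5] at h4
  set W : Subgroup E := F ⊔ F.map (q : MulAut E).toMonoidHom with hW
  have hWnd : Nondeg z W :=
    hz.nondeg_sup hFnd (hz.nondeg_map hFnd _) (le_centralizer_iff.1 hqC)
  have hqF : ∀ f ∈ F, (q : MulAut E) ((q : MulAut E) f) ∈ F := fun f hf => by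
    have := (hPF hq2 f).2 hf
    rwa [MulAut.mul_apply] at this
  have hLF : L ≤ stab F := fun l hl => mem_stab_of_forall fun f hf => by
    have h1 : F ≤ F.comap (l : E ≃* E).toMonoidHom := by
      rw [hF]
      refine sup_le (fun c hc => ?_) (Finset.sup_le fun A hA => ?_)
      · rw [mem_comap, MulEquiv.coe_toMonoidHom, hz.map_mem_zpowers l hc]
        exact mem_sup_left hc
      · obtain ⟨y, hy, rfl⟩ := (horb A).1 hA
        intro a ha
        rw [← hF]
        show l a ∈ F
        exact hleF y hy (((hLcM (hPQ hy) hl) a).2 ha)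
    exact h1 hf
  have hFT : F ≠ ⊤ := fun h => by
    have h1 : F.map (q : MulAut E).toMonoidHom ≤ zpowers z := fun c hc =>
      hFnd.2 ⟨h ▸ mem_top c, hqC hc⟩
    refine hFne (le_antisymm (fun f hf => ?_) hFnd.1)
    have h2 := h1 ⟨f, hf, rfl⟩
    have h3 := hz.map_mem_zpowers (q : MulAut E)⁻¹ h2
    rw [MulEquiv.coe_toMonoidHom, MulAut.inv_apply_self] at h3
    rw [h3]
    exact h2
  by_cases hWT : W = ⊤
  swap
  · refine hprod W hWnd (fun h => hFne (le_antisymm ?_ hFnd.1)) hWT L ?_ ?_ hLodd hLs hfL hLQ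
    · rw [← h]; exact le_sup_left
    · intro l hl
      refine mem_stab_of_forall fun w hw => ?_
      have h1 : W ≤ W.comap (l : E ≃* E).toMonoidHom := by
        refine sup_le (fun f hf => mem_sup_left (((hLF hl) f).2 hf)) ?_
        rintro _ ⟨f, hf, rfl⟩
        have h2 : (q : MulAut E)⁻¹ * l * q ∈ L := hLQ.inv q.2 hl
        refine mem_sup_right ⟨((q : MulAut E)⁻¹ * l * q) f, ((hLF h2) f).2 hf, ?_⟩
        show (q : MulAut E) (((q : MulAut E)⁻¹ * l * q) f) = l ((q : MulAut E) f)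
        simp [MulAut.mul_apply]
      exact h1 hw
    · intro x hx
      obtain ⟨i, hi⟩ := hgen x hx
      have hqW : (q : MulAut E) ∈ stab W := mem_stab_of_forall fun w hw => by
        have h1 : W ≤ W.comap ((q : MulAut E) : E ≃* E).toMonoidHom := by
          refine sup_le (fun f hf => mem_sup_right ⟨f, hf, rfl⟩) ?_
          rintro _ ⟨f, hf, rfl⟩
          exact mem_sup_left (hqF f hf)
        exact h1 hw
      have hPW : P ≤ stab W := fun y hy => mem_stab_of_forall fun w hw => by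
        have h1 : W ≤ W.comap (y : E ≃* E).toMonoidHom := by
          refine sup_le (fun f hf => mem_sup_left ((hPF hy f).2 hf)) ?_
          rintro _ ⟨f, hf, rfl⟩
          have h2 : (q : MulAut E)⁻¹ * y * q ∈ P := by
            have h3 : (q : MulAut E)⁻¹ * y * q =
                ((q : MulAut E) * q)⁻¹ * ((q : MulAut E) * y * (q : MulAut E)⁻¹) *
                  ((q : MulAut E) * q) := by group
            rw [h3]
            exact mul_mem (mul_mem (inv_mem hq2) (hqP y hy)) hq2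
          refine mem_sup_right ⟨((q : MulAut E)⁻¹ * y * q) f, (hPF h2 f).2 hf, ?_⟩
          show (q : MulAut E) (((q : MulAut E)⁻¹ * y * q) f) = y ((q : MulAut E) f)
          simp [MulAut.mul_apply]
        exact h1 hw
      have := mul_mem (pow_mem hqW i) (hPW hi)
      rwa [mul_inv_cancel_left] at this
  · have hCF : centralizer (F : Set E) ≤ F.map (q : MulAut E).toMonoidHom := by
      intro b hb
      have hbW : b ∈ W := hWT ▸ mem_top b
      haveI := hz.normal_of_le (hz.nondeg_map hFnd (q : MulAut E)).1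
      obtain ⟨f, hf, g, hg, hbe⟩ := mem_sup_of_normal_right.1 hbW
      have h1 : f ∈ centralizer (F : Set E) := by
        have : f = b * g⁻¹ := eq_mul_inv_of_mul_eq hbe
        rw [this]; exact mul_mem hb (inv_mem (hqC hg))
      rw [← hbe]
      exact mul_mem ((hz.nondeg_map hFnd _).1 (hFnd.2 ⟨hf, h1⟩)) hg
    refine lift_of_swap hz hFnd q.2 hPQ hPF hq2 hgen hqP (fun a ha => hqC ⟨a, ha, rfl⟩)
      (fun b hb => ?_) (hrec F hFnd hFT L P hLF hPF hLodd hLs hfL (hQ2.to_le hPQ)
        fun φ hφ => hLQ φ (hPQ hφ))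
    obtain ⟨f, hf, rfl⟩ := hCF hb
    exact hqF f hf

theorem lift_main {E : Type u} [Group E] [Finite E] {z : E} (hz : Piece z)
    (K Q : Subgroup (MulAut E)) (hodd : Odd (Nat.card K)) (hsol : Group.IsSolvable K)
    (hfix : fixPts K ≤ zpowers z) (hQ2 : IsPGroup 2 Q) (hKQ : Norm' K Q) : Lift z Q :=
  lift_main_aux _ hz (Nat.lt_succ_self _) K Q hodd hsol hfix hQ2 hKQ

end Cfsg.Agent.FRLift62
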