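import Cfsg.Agent.Lib.PGroupsExtraspecial

/-!
# Nondegenerate two-groups with a central involution, and fixed points of odd automorphism groups

`Piece z` says that `z` is a central involution of the group `E`, all commutators lie in `⟨z⟩` and
only `⟨z⟩` is central (an extraspecial 2-group, or the cyclic group of order two).
-/

set_option autoImplicit false

namespace Cfsg.Agent.FRLift62

open Subgroup Cfsg.Agent.PGroupsExtraspecial
open scoped commutatorElement

variable {E : Type*} [Group E] {z : E}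

/-- The setting. -/
structure Piece (z : E) : Prop where
  cp : IsCentralPrime 2 z
  comm : CommInto z (⊤ : Subgroup E)
  nd : Nondeg z (⊤ : Subgroup E)

namespace Piece

theorem commInto (h : Piece z) (F : Subgroup E) : CommInto z F := h.comm.mono le_top

theorem comm_mem (h : Piece z) (a b : E) : ⁅a, b⁆ ∈ zpowers z := h.comm a b (mem_top _)

theorem mem_zpowers_iff (h : Piece z) {c : E} : c ∈ zpowers z ↔ c = 1 ∨ c = z := by
  constructor
  · intro hc
    obtain ⟨k, rfl⟩ := exists_nat_pow h.cp hc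
    rcases Nat.mod_two_eq_zero_or_one k with hk | hk
    · exact Or.inl ((pow_eq_one_iff h.cp k).2 (Nat.dvd_of_mod_eq_zero hk))
    · exact Or.inr (by
        have := (pow_inj_mod h.cp k 1).2 (by rw [hk])
        rwa [pow_one] at this)
  · rintro (rfl | rfl)
    · exact one_mem _
    · exact mem_zpowers _

theorem z_mul_self (h : Piece z) : z * z = 1 := by
  rw [← pow_two]; exact pow_prime_eq_one h.cp

theorem z_inv (h : Piece z) : z⁻¹ = z := inv_eq_of_mul_eq_one_right h.z_mul_self

theorem z_ne_one (h : Piece z) : z ≠ 1 := ne_one h.cp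

theorem mem_center_iff' (h : Piece z) {c : E} : c ∈ center E ↔ c ∈ zpowers z := by
  refine ⟨fun hc => h.nd.2 ⟨mem_top _, ?_⟩, fun hc => zpowers_le_center h.cp hc⟩
  rw [coe_top, centralizer_univ]
  exact hc

theorem center_eq (h : Piece z) : center E = zpowers z :=
  Subgroup.ext fun _ => h.mem_center_iff'

theorem z_comm (h : Piece z) (a : E) : a * z = z * a := mem_center_iff.1 h.cp.1 a

theorem commute_or (h : Piece z) (a b : E) : a * b = b * a ∨ a * b = b * a * z := by
  rcases h.mem_zpowers_iff.1 (h.comm_mem a b) with h1 | h1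
  · exact Or.inl (commute_of_comm_eq_one h1)
  · refine Or.inr ?_
    rw [mul_assoc, h.z_comm, ← mul_assoc, h.z_comm b, mul_assoc z, ← h1, commutatorElement_def]
    group

theorem exists_not_commute (h : Piece z) {a : E} (ha : a ∉ zpowers z) :
    ∃ b, b * a = a * b * z := by
  by_contra hne
  push Not at hne
  refine ha (h.mem_center_iff'.1 (mem_center_iff.2 fun b => ?_))
  exact (h.commute_or b a).resolve_right (hne b)

theorem map_z (h : Piece z) (φ : MulAut E) : φ z = z := by
  have hc : φ z ∈ center E := by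
    refine mem_center_iff.2 fun g => ?_
    obtain ⟨g, rfl⟩ := φ.surjective g
    rw [← map_mul, ← map_mul, h.z_comm]
  rcases h.mem_zpowers_iff.1 (h.mem_center_iff'.1 hc) with h1 | h1
  · exact absurd (φ.injective (h1.trans (map_one φ).symm)) h.z_ne_one
  · exact h1

theorem map_mem_zpowers (h : Piece z) (φ : MulAut E) {c : E} (hc : c ∈ zpowers z) : φ c = c := by
  rcases h.mem_zpowers_iff.1 hc with rfl | rfl
  · exact map_one φ
  · exact h.map_z φ

theorem normal_of_le (h : Piece z) {S : Subgroup E} (hS : zpowers z ≤ S) : S.Normal := by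
  refine ⟨fun s hs g => ?_⟩
  have : g * s * g⁻¹ = ⁅g, s⁆ * s := by rw [commutatorElement_def]; group
  rw [this]
  exact mul_mem (hS (h.comm_mem g s)) hs

theorem sq_mem (h : Piece z) (a : E) : a * a ∈ zpowers z := by
  refine h.mem_center_iff'.1 (mem_center_iff.2 fun g => ?_)
  rcases h.commute_or g a with h1 | h1
  · rw [← mul_assoc, h1, mul_assoc, h1, ← mul_assoc]
  · rw [← mul_assoc, h1, mul_assoc (a * g), ← h.z_comm a, ← mul_assoc, mul_assoc a g a, h1]
    rw [mul_assoc, mul_assoc, mul_assoc, h.z_mul_self, mul_one, mul_assoc]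

/-- A nondegenerate subgroup is again a piece. -/
theorem restrict (h : Piece z) {S : Subgroup E} (hS : Nondeg z S) :
    Piece (⟨z, hS.1 (mem_zpowers z)⟩ : S) := by
  set z' : S := ⟨z, hS.1 (mem_zpowers z)⟩ with hz'
  have hmem : ∀ c : S, (c : E) ∈ zpowers z → c ∈ zpowers z' := by
    intro c hc
    rcases h.mem_zpowers_iff.1 hc with h1 | h1
    · rw [show c = 1 from Subtype.ext h1]; exact one_mem _
    · rw [show c = z' from Subtype.ext h1]; exact mem_zpowers _
  refine ⟨⟨mem_center_iff.2 fun a => Subtype.ext (h.z_comm a), ?_⟩, fun a b _ =>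
    hmem _ (by rw [← Subgroup.coe_subtype, map_commutatorElement]; exact h.comm_mem _ _), le_top, ?_⟩
  · rw [← h.cp.2, ← Subgroup.orderOf_coe z']
  · rintro c ⟨-, hc⟩
    refine hmem c (hS.2 ⟨c.2, mem_centralizer_iff.2 fun s hs => ?_⟩)
    exact congrArg Subtype.val (mem_centralizer_iff.1 hc ⟨s, hs⟩ (mem_top _))

theorem nondeg_sup (h : Piece z) {F A : Subgroup E} (hF : Nondeg z F) (hA : Nondeg z A)
    (hFA : F ≤ centralizer (A : Set E)) : Nondeg z (F ⊔ A) := by
  haveI := h.normal_of_le hA.1
  refine ⟨hF.1.trans le_sup_left, ?_⟩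
  rintro x ⟨hx, hxc⟩
  obtain ⟨f, hf, a, ha, rfl⟩ := mem_sup_of_normal_right.1 hx
  have hf' : f ∈ zpowers z := by
    refine hF.2 ⟨hf, mem_centralizer_iff.2 fun g hg => ?_⟩
    have h1 := mem_centralizer_iff.1 hxc g (mem_sup_left hg)
    have h2 : a * g = g * a := mem_centralizer_iff.1 (hFA hg) a ha
    refine mul_right_cancel (b := a) ?_
    calc g * f * a = g * (f * a) := mul_assoc _ _ _
      _ = f * a * g := h1
      _ = f * (g * a) := by rw [mul_assoc, h2]
      _ = f * g * a := (mul_assoc _ _ _).symm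
  refine mul_mem hf' (hA.2 ⟨ha, mem_centralizer_iff.2 fun g hg => ?_⟩)
  have h1 := mem_centralizer_iff.1 hxc g (mem_sup_right hg)
  have h2 : f * g = g * f := (mem_centralizer_iff.1 (hFA hf) g hg).symm
  refine mul_left_cancel (a := f) ?_
  calc f * (g * a) = f * g * a := (mul_assoc _ _ _).symm
    _ = g * (f * a) := by rw [h2, mul_assoc]
    _ = f * (a * g) := by rw [h1, mul_assoc]

theorem nondeg_centralizer (h : Piece z) [Finite E] {F : Subgroup E} (hF : Nondeg z F) :
    Nondeg z (centralizer (F : Set E)) := by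
  refine ⟨zpowers_le.2 (mem_centralizer_iff.2 fun g _ => h.z_comm g), ?_⟩
  rintro c ⟨hc, hcc⟩
  refine h.mem_center_iff'.1 (mem_center_iff.2 fun g => ?_)
  obtain ⟨f, hf, hfg⟩ := exists_mul_centralizer h.cp (h.commInto F) hF g
  have h1 : Commute f c := mem_centralizer_iff.1 hc f hf
  have h2 : Commute (f⁻¹ * g) c := mem_centralizer_iff.1 hcc _ hfg
  have h3 := h1.mul_left h2
  rwa [mul_inv_cancel_left] at h3

theorem nondeg_zpowers (_h : Piece z) : Nondeg z (zpowers z) := ⟨le_rfl, inf_le_left⟩

theorem card_eq_two_pow (h : Piece z) [Finite E] : ∃ n : ℕ, Nat.card E = 2 ^ (2 * n + 1) := by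
  obtain ⟨n, hn⟩ := exists_card_eq h.cp h.comm h.nd
  rw [card_top] at hn
  exact ⟨n, hn⟩

end Piece

/-! ### Fixed points of groups of automorphisms -/

/-- The fixed points of a group of automorphisms. -/
def fixPts (L : Subgroup (MulAut E)) : Subgroup E where
  carrier := {e | ∀ l ∈ L, l e = e}
  one_mem' := fun _ _ => map_one _
  mul_mem' := fun {a b} ha hb l hl => by rw [map_mul, ha l hl, hb l hl]
  inv_mem' := fun {a} ha l hl => by rw [map_inv, ha l hl]

theorem mem_fixPts {L : Subgroup (MulAut E)} {e : E} : e ∈ fixPts L ↔ ∀ l ∈ L, l e = e := Iff.rfl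

theorem fixPts_anti {L L' : Subgroup (MulAut E)} (h : L ≤ L') : fixPts L' ≤ fixPts L :=
  fun _ he l hl => he l (h hl)

theorem fixPts_sup (L L' : Subgroup (MulAut E)) : fixPts (L ⊔ L') = fixPts L ⊓ fixPts L' := by
  refine le_antisymm (le_inf (fixPts_anti le_sup_left) (fixPts_anti le_sup_right)) ?_
  rintro e ⟨h1, h2⟩ l hl
  refine (show L ⊔ L' ≤
    ({ carrier := {φ | φ e = e}
       one_mem' := rfl
       mul_mem' := fun {a b} ha hb => by
         simp only [Set.mem_setOf_eq] at ha hb ⊢
         rw [MulAut.mul_apply, hb, ha]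
       inv_mem' := fun {a} ha => by
         simp only [Set.mem_setOf_eq] at ha ⊢
         conv_lhs => rw [← ha]
         exact MulAut.inv_apply_self E a e } : Subgroup (MulAut E)) from sup_le h1 h2) hl

theorem Piece.zpowers_le_fixPts (h : Piece z) (L : Subgroup (MulAut E)) :
    zpowers z ≤ fixPts L := fun _ hc l _ => h.map_mem_zpowers l hc

theorem fixPts_conj {L : Subgroup (MulAut E)} (φ : MulAut E) :
    fixPts (L.map (MulAut.conj φ).toMonoidHom) = (fixPts L).map φ.toMonoidHom := by
  ext e
  constructor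
  · intro he
    refine ⟨φ⁻¹ e, fun l hl => ?_, MulAut.apply_inv_self E φ e⟩
    have h1 := he _ ⟨l, hl, rfl⟩
    apply φ.injective
    rw [MulAut.apply_inv_self]
    simpa [MulAut.mul_apply] using h1
  · rintro ⟨a, ha, rfl⟩ _ ⟨l, hl, rfl⟩
    simp [MulAut.mul_apply, ha l hl]

theorem map_fixPts_eq {L : Subgroup (MulAut E)} {φ : MulAut E}
    (hφ : φ ∈ normalizer (L : Set (MulAut E))) {e : E} (he : e ∈ fixPts L) : φ e ∈ fixPts L := by
  intro l hl
  have h1 := he _ ((mem_normalizer_iff''.1 hφ l).1 hl)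
  rw [MulAut.mul_apply, MulAut.mul_apply] at h1
  have h2 := congrArg φ h1
  rwa [MulAut.apply_inv_self] at h2

variable [Finite E]

/-- Averaging: modulo displacements, every element of an invariant subgroup is fixed. -/
theorem Piece.exists_fix_mul_displ (h : Piece z) {L : Subgroup (MulAut E)}
    (hodd : Odd (Nat.card L)) {W : Subgroup E} (hzW : zpowers z ≤ W)
    (hW : ∀ l ∈ L, ∀ w ∈ W, l w ∈ W) {e : E} (he : e ∈ W) :
    ∃ f ∈ W ⊓ fixPts L,
      f⁻¹ * e ∈ zpowers z ⊔ closure {c | ∃ l ∈ L, ∃ x ∈ W, c = x⁻¹ * l x} := by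
  classical
  haveI : Finite (MulAut E) := Finite.of_injective (fun φ : MulAut E => (φ : E → E))
    DFunLike.coe_injective
  haveI := Fintype.ofFinite L
  haveI hZn : (zpowers z).Normal := h.normal_of_le le_rfl
  letI : CommGroup (E ⧸ zpowers z) :=
    { (inferInstance : Group (E ⧸ zpowers z)) with
      mul_comm := by
        rintro ⟨a⟩ ⟨b⟩
        show ((a * b : E) : E ⧸ zpowers z) = ((b * a : E) : E ⧸ zpowers z)
        rw [QuotientGroup.eq]
        have : (a * b)⁻¹ * (b * a) = ⁅b⁻¹, a⁻¹⁆ := by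
          rw [commutatorElement_def]; group
        rw [this]
        exact h.comm_mem _ _ }
  set π := QuotientGroup.mk' (zpowers z) with hπ
  have hπsq : ∀ v : E ⧸ zpowers z, v * v = 1 := by
    rintro ⟨a⟩
    exact (QuotientGroup.eq_one_iff _).2 (h.sq_mem a)
  set D := closure {c | ∃ l ∈ L, ∃ x ∈ W, c = x⁻¹ * l x} with hD
  have hl : ∀ l : L, π ((l : MulAut E) e) ∈ W.map π := fun l =>
    mem_map_of_mem _ (hW l l.2 e he)
  obtain ⟨f, hfW, hf⟩ : (∏ l : L, π ((l : MulAut E) e)) ∈ W.map π :=
    prod_mem fun l _ => hl l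
  refine ⟨f, ⟨hfW, ?_⟩, ?_⟩
  · intro k hk
    have h1 : π (k f) = π f := by
      have hcomm : ∀ a : E, π (k a) = QuotientGroup.map _ _ (k : E ≃* E).toMonoidHom
          (fun c hc => by simpa [h.map_mem_zpowers k hc] using hc) (π a) := fun a => rfl
      rw [hcomm, hf, map_prod]
      simp only [← hcomm]
      refine Fintype.prod_equiv (Equiv.mulLeft (⟨k, hk⟩ : L)) _ _ fun l => ?_
      rfl
    rcases h.mem_zpowers_iff.1 (QuotientGroup.eq.1 h1.symm) with h2 | h2
    · exact (inv_mul_eq_one.1 h2).symm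
    exfalso
    have h3 : k f = f * z := eq_mul_of_inv_mul_eq h2
    have h4 : ∀ n : ℕ, (k ^ n) f = f * z ^ n := by
      intro n
      induction n with
      | zero => simp
      | succ n ih =>
        rw [pow_succ', MulAut.mul_apply, ih, map_mul, map_pow, h.map_z, h3, pow_succ', mul_assoc]
    have h5 := h4 (orderOf k)
    rw [pow_orderOf_eq_one, MulAut.one_apply, left_eq_mul, pow_eq_one_iff h.cp] at h5
    have h6 : orderOf k ∣ Nat.card L := by
      rw [← Subgroup.orderOf_mk k hk]; exact orderOf_dvd_natCard _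
    exact (Nat.not_even_iff_odd.2 hodd) (even_iff_two_dvd.2 (h5.trans h6))
  · have hD' : π (f⁻¹ * e) ∈ D.map π := by
      rw [map_mul, map_inv, hf]
      have hn : (π e) ^ Fintype.card L = π e := by
        obtain ⟨j, hj⟩ : Odd (Fintype.card L) := by rwa [← Nat.card_eq_fintype_card]
        rw [hj, pow_succ, pow_mul, sq, hπsq, one_pow, one_mul]
      conv in π e => rw [← hn, ← Finset.card_univ, ← Finset.prod_const]
      rw [← Finset.prod_inv_distrib, ← Finset.prod_mul_distrib]
      refine prod_mem fun l _ => ?_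
      rw [← map_inv, ← map_mul]
      refine mem_map_of_mem _ ?_
      have : ((l : MulAut E) e)⁻¹ * e = (e⁻¹ * (l : MulAut E) e)⁻¹ := by group
      rw [this]
      exact inv_mem (subset_closure ⟨l, l.2, e, he, rfl⟩)
    obtain ⟨d, hd, hd'⟩ := hD'
    have h7 := QuotientGroup.eq.1 hd'
    have h8 : f⁻¹ * e = d * (d⁻¹ * (f⁻¹ * e)) := by group
    rw [h8]
    exact mul_mem (mem_sup_right hd) (mem_sup_left h7)

/-- Fixed elements commute with displacements. -/
theorem Piece.commute_displ (h : Piece z) {a x : E} {l : MulAut E} (ha : l a = a) :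
    Commute a (x⁻¹ * l x) := by
  have key : ⁅a, l x⁆ = ⁅a, x⁆ := by
    have h1 := h.map_mem_zpowers l (h.comm_mem a x)
    rw [map_commutatorElement, ha] at h1
    exact h1
  rcases h.commute_or a x with h1 | h1
  · refine (Commute.inv_right h1).mul_right ?_
    rw [commute_iff_eq, ← commutatorElement_eq_one_iff_mul_comm, key,
      commutatorElement_eq_one_iff_mul_comm]
    exact h1
  · have h2 : a * l x = l x * a * z := by
      have := congrArg l h1
      rwa [map_mul, map_mul, map_mul, ha, h.map_z] at this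
    have h3 : x⁻¹ * a = a * x⁻¹ * z := by
      have : x⁻¹ * (a * x) * x⁻¹ = x⁻¹ * (x * a * z) * x⁻¹ := by rw [h1]
      simp only [mul_assoc, mul_inv_cancel, mul_one, inv_mul_cancel_left] at this
      rw [this, h.z_comm, ← mul_assoc, ← mul_assoc]
      simp [mul_assoc, ← h.z_comm]
    calc a * (x⁻¹ * l x) = a * x⁻¹ * l x := (mul_assoc _ _ _).symm
      _ = x⁻¹ * a * z * l x := by rw [h3, mul_assoc _ z z, h.z_mul_self, mul_one]
      _ = x⁻¹ * (a * l x) * z := by rw [mul_assoc _ z, ← h.z_comm]; simp [mul_assoc]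
      _ = x⁻¹ * l x * a := by rw [h2]; simp [mul_assoc, h.z_mul_self]

/-- If `L` fixes only the centre, an element fixed by no more is central as soon as it commutes
with all displacements. -/
theorem Piece.nondeg_fixPts (h : Piece z) {L : Subgroup (MulAut E)} (hodd : Odd (Nat.card L)) :
    Nondeg z (fixPts L) := by
  refine ⟨h.zpowers_le_fixPts L, ?_⟩
  rintro a ⟨ha, hac⟩
  refine h.mem_center_iff'.1 (mem_center_iff.2 fun e => ?_)
  obtain ⟨f, hf, hfe⟩ := h.exists_fix_mul_displ hodd (W := ⊤) le_top (fun _ _ _ _ => mem_top _)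
    (mem_top e)
  have h1 : Commute a f := (mem_centralizer_iff.1 hac f hf.2).symm
  have h2 : zpowers z ⊔ closure {c | ∃ l ∈ L, ∃ x ∈ (⊤ : Subgroup E), c = x⁻¹ * l x} ≤
      centralizer ({a} : Set E) := by
    refine sup_le (zpowers_le.2 (mem_centralizer_singleton_iff.2 (h.z_comm a).symm)) ?_
    rw [closure_le]
    rintro c ⟨l, hl, x, -, rfl⟩
    exact mem_centralizer_singleton_iff.2 (h.commute_displ (ha l hl)).symm
  have h3 : Commute a (f⁻¹ * e) := (mem_centralizer_singleton_iff.1 (h2 hfe)).symm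
  have h4 := h1.mul_right h3
  rw [mul_inv_cancel_left] at h4
  exact h4.symm

/-- The fixed points of two subgroups commute when the second group is without further fixed
points on them. -/
theorem Piece.fixPts_le_centralizer (h : Piece z) {M M' : Subgroup (MulAut E)}
    (hodd : Odd (Nat.card M)) (hMM' : ∀ m ∈ M, ∀ b ∈ fixPts M', m b ∈ fixPts M')
    (hfree : fixPts M ⊓ fixPts M' ≤ zpowers z) :
    fixPts M' ≤ centralizer (fixPts M : Set E) := by
  intro b hb
  refine mem_centralizer_iff.2 fun a ha => ?_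
  obtain ⟨f, hf, hfb⟩ := h.exists_fix_mul_displ hodd (h.zpowers_le_fixPts M') hMM' hb
  have h2 : zpowers z ⊔ closure {c | ∃ l ∈ M, ∃ x ∈ fixPts M', c = x⁻¹ * l x} ≤
      centralizer ({a} : Set E) := by
    refine sup_le (zpowers_le.2 (mem_centralizer_singleton_iff.2 (h.z_comm a).symm)) ?_
    rw [closure_le]
    rintro c ⟨l, hl, x, -, rfl⟩
    exact mem_centralizer_singleton_iff.2 (h.commute_displ (ha l hl)).symm
  have h1 : Commute a f :=
    mem_center_iff.1 (zpowers_le_center h.cp (hfree ⟨hf.2, hf.1⟩)) a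
  have h4 := h1.mul_right (mem_centralizer_singleton_iff.1 (h2 hfb)).symm
  rw [mul_inv_cancel_left] at h4
  exact h4.eq

end Cfsg.Agent.FRLift62
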