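import Cfsg.Agent.Lib.ExtraTwoPiece62

/-!
# The faithful representation of a piece, its intertwiners, and lifts of automorphism groups

A `MatRep` is a matrix representation sending `z` to `-1` in the square root dimension; it is
unique up to conjugation. A `Lift` of a group of automorphisms is an honest representation by
intertwiners.
-/

set_option autoImplicit false

namespace Cfsg.Agent.FRLift62

open Subgroup Cfsg.Agent.PGroupsExtraspecial Matrix
open scoped commutatorElement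

/-- Invertible complex matrices. -/
abbrev MU (ι : Type) [Fintype ι] [DecidableEq ι] : Type := (Matrix ι ι ℂ)ˣ

/-- Scalar matrices. -/
noncomputable def msc (ι : Type) [Fintype ι] [DecidableEq ι] : ℂˣ →* MU ι :=
  Units.map (Matrix.scalar ι : ℂ →+* Matrix ι ι ℂ).toMonoidHom

theorem msc_val (ι : Type) [Fintype ι] [DecidableEq ι] (c : ℂˣ) :
    ((msc ι c : MU ι) : Matrix ι ι ℂ) = (c : ℂ) • (1 : Matrix ι ι ℂ) := by
  rw [smul_one_eq_diagonal]
  rfl

theorem msc_comm {ι : Type} [Fintype ι] [DecidableEq ι] (c : ℂˣ) (u : MU ι) :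
    msc ι c * u = u * msc ι c := by
  refine Units.ext ?_
  rw [Units.val_mul, Units.val_mul, msc_val, smul_mul_assoc, one_mul, mul_smul_comm, mul_one]

theorem msc_conj {ι : Type} [Fintype ι] [DecidableEq ι] (c : ℂˣ) (u w : MU ι) :
    msc ι c * u * w * (msc ι c * u)⁻¹ = u * w * u⁻¹ := by
  rw [_root_.mul_inv_rev, mul_assoc (msc ι c), mul_assoc (msc ι c), ← mul_assoc (u * w), msc_comm c,
    mul_assoc, inv_mul_cancel, mul_one]

variable {E : Type*} [Group E] {z : E}

/-- A representation with `z ↦ -1` of dimension the square root of `|E : Z|`. -/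
structure MatRep (z : E) (ι : Type) [Fintype ι] [DecidableEq ι] where
  toHom : E →* MU ι
  map_z : (toHom z : Matrix ι ι ℂ) = -1
  card_eq : Fintype.card ι * Fintype.card ι * 2 = Nat.card E

/-- `u` implements the automorphism `φ`. -/
def Impl {ι : Type} [Fintype ι] [DecidableEq ι] (ρ : MatRep z ι) (φ : MulAut E) (u : MU ι) :
    Prop :=
  ∀ a : E, u * ρ.toHom a * u⁻¹ = ρ.toHom (φ a)

/-- A group of automorphisms has a linear lift. -/
def Lift (z : E) (Q : Subgroup (MulAut E)) : Prop :=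
  ∃ (d : ℕ) (ρ : MatRep z (Fin d)) (R : Q →* MU (Fin d)), ∀ x : Q, Impl ρ x (R x)

section

variable {ι : Type} [Fintype ι] [DecidableEq ι] {ρ : MatRep z ι}

theorem Impl.one : Impl ρ 1 1 := fun a => by simp

theorem Impl.mul {φ ψ : MulAut E} {u v : MU ι} (hu : Impl ρ φ u) (hv : Impl ρ ψ v) :
    Impl ρ (φ * ψ) (u * v) := fun a => by
  rw [MulAut.mul_apply, ← hu, ← hv]; group

theorem Impl.inv {φ : MulAut E} {u : MU ι} (hu : Impl ρ φ u) : Impl ρ φ⁻¹ u⁻¹ := fun a => by
  have h := hu (φ⁻¹ a)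
  rw [MulAut.apply_inv_self] at h
  rw [← h]; group

theorem Impl.pow {φ : MulAut E} {u : MU ι} (hu : Impl ρ φ u) (k : ℕ) :
    Impl ρ (φ ^ k) (u ^ k) := by
  induction k with
  | zero => simpa using Impl.one
  | succ k ih => simpa [pow_succ] using ih.mul hu

theorem Impl.conj {φ ψ : MulAut E} {u v : MU ι} (hu : Impl ρ φ u) (hv : Impl ρ ψ v) :
    Impl ρ (φ * ψ * φ⁻¹) (u * v * u⁻¹) := (hu.mul hv).mul hu.inv

theorem Impl.msc_mul {φ : MulAut E} {u : MU ι} (hu : Impl ρ φ u) (c : ℂˣ) :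
    Impl ρ φ (msc ι c * u) := fun a => by
  rw [msc_conj, hu]

namespace MatRep

variable [Finite E] (h : Piece z)

include h

omit [Finite E] in
theorem apply_mem_zpowers (ρ : MatRep z ι) {c : E} (hc : c ∈ zpowers z) :
    (ρ.toHom c : Matrix ι ι ℂ) = 1 ∨ (ρ.toHom c : Matrix ι ι ℂ) = -1 := by
  rcases h.mem_zpowers_iff.1 hc with rfl | rfl
  · exact Or.inl (by simp)
  · exact Or.inr ρ.map_z

theorem trace_eq_zero (ρ : MatRep z ι) {a : E} (ha : a ∉ zpowers z) :
    trace (ρ.toHom a : Matrix ι ι ℂ) = 0 := by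
  obtain ⟨b, hb⟩ := h.exists_not_commute ha
  have h1 : (ρ.toHom b : Matrix ι ι ℂ) * ρ.toHom a * (↑(ρ.toHom b)⁻¹ : Matrix ι ι ℂ) =
      -(ρ.toHom a : Matrix ι ι ℂ) := by
    rw [← Units.val_mul, ← map_mul, hb, map_mul, map_mul, Units.val_mul, Units.val_mul, ρ.map_z,
      mul_neg, mul_one, neg_mul, mul_assoc, Units.mul_inv, mul_one]
  have h2 := congrArg trace h1
  rw [trace_units_conj, trace_neg] at h2
  exact self_eq_neg.1 h2

omit [Finite E] in
theorem trace_z (ρ : MatRep z ι) :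
    trace (ρ.toHom z : Matrix ι ι ℂ) = -(Fintype.card ι : ℂ) := by
  rw [ρ.map_z, trace_neg, trace_one]

theorem card_quot (ρ : MatRep z ι) :
    Nat.card (E ⧸ zpowers z) = Fintype.card ι * Fintype.card ι := by
  have h1 := (zpowers z).card_eq_card_quotient_mul_card_subgroup
  rw [Nat.card_zpowers, h.cp.2, ← ρ.card_eq] at h1
  exact (Nat.eq_of_mul_eq_mul_right two_pos h1).symm

theorem card_pos (ρ : MatRep z ι) : 0 < Fintype.card ι := by
  have := Nat.card_pos (α := E)
  rw [← ρ.card_eq] at this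
  exact Nat.pos_of_mul_pos_left (Nat.pos_of_mul_pos_right this)

theorem span_eq_top (ρ : MatRep z ι) :
    Submodule.span ℂ (Set.range fun a : E => (ρ.toHom a : Matrix ι ι ℂ)) = ⊤ := by
  classical
  haveI := Fintype.ofFinite (E ⧸ zpowers z)
  set b : E ⧸ zpowers z → Matrix ι ι ℂ := fun v => (ρ.toHom v.out : Matrix ι ι ℂ) with hb
  have hpair : ∀ v w : E ⧸ zpowers z, trace ((↑(ρ.toHom v.out)⁻¹ : Matrix ι ι ℂ) * b w) =
      if w = v then (Fintype.card ι : ℂ) else 0 := by
    intro v w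
    simp only [hb]
    rw [← map_inv, ← Units.val_mul, ← map_mul]
    split
    · next hw => rw [hw, inv_mul_cancel, map_one, Units.val_one, trace_one]
    · next hw =>
      refine ρ.trace_eq_zero h fun hm => hw ?_
      have h2 := QuotientGroup.eq.2 hm
      rw [QuotientGroup.out_eq', QuotientGroup.out_eq'] at h2
      exact h2.symm
  have hli : LinearIndependent ℂ b := by
    refine Fintype.linearIndependent_iff.2 fun g hg v => ?_
    have h2 := congrArg (fun X : Matrix ι ι ℂ =>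
      trace ((↑(ρ.toHom v.out)⁻¹ : Matrix ι ι ℂ) * X)) hg
    simp only [Finset.mul_sum, trace_sum, mul_smul_comm, trace_smul, hpair, smul_eq_mul, mul_ite,
      mul_zero, Finset.sum_ite_eq', Finset.mem_univ, if_true, trace_zero] at h2
    exact (mul_eq_zero.1 h2).resolve_right (Nat.cast_ne_zero.2 (ρ.card_pos h).ne')
  have hspan := hli.span_eq_top_of_card_eq_finrank' (by
    rw [Module.finrank_matrix, Module.finrank_self, mul_one, ← Nat.card_eq_fintype_card,
      ρ.card_quot h])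
  refine eq_top_iff.2 (hspan ▸ Submodule.span_mono ?_)
  rintro _ ⟨v, rfl⟩
  exact ⟨_, rfl⟩

/-- The commutant consists of scalars. -/
theorem exists_msc_of_commute (ρ : MatRep z ι) {u : MU ι}
    (hu : ∀ a, u * ρ.toHom a * u⁻¹ = ρ.toHom a) : ∃ c : ℂˣ, u = msc ι c := by
  have hall : ∀ X : Matrix ι ι ℂ, Commute (u : Matrix ι ι ℂ) X := by
    intro X
    have hX : X ∈ Submodule.span ℂ (Set.range fun a : E => (ρ.toHom a : Matrix ι ι ℂ)) := by
      rw [ρ.span_eq_top h]; trivial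
    induction hX using Submodule.span_induction with
    | mem X hX =>
      obtain ⟨a, rfl⟩ := hX
      exact congrArg Units.val (mul_inv_eq_iff_eq_mul.1 (hu a))
    | zero => exact Commute.zero_right _
    | add X Y _ _ hX hY => exact hX.add_right hY
    | smul c X _ hX => exact hX.smul_right c
  obtain ⟨c, hc⟩ := mem_range_scalar_of_commute_single (M := (u : Matrix ι ι ℂ))
    fun i j _ => (hall _).symm
  haveI : Nonempty ι := Fintype.card_pos_iff.1 (ρ.card_pos h)
  have hc0 : c ≠ 0 := by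
    rintro rfl
    rw [map_zero] at hc
    exact u.ne_zero hc.symm
  exact ⟨Units.mk0 c hc0, Units.ext hc.symm⟩

theorem impl_unique (ρ : MatRep z ι) {φ : MulAut E} {u v : MU ι} (hu : Impl ρ φ u)
    (hv : Impl ρ φ v) : ∃ c : ℂˣ, u = msc ι c * v := by
  obtain ⟨c, hc⟩ := ρ.exists_msc_of_commute h (u := v⁻¹ * u) fun a => by
    have := (hv.inv.mul hu) a
    rwa [inv_mul_cancel, MulAut.one_apply] at this
  exact ⟨c, by rw [msc_comm, ← hc]; group⟩

/-- If the traces against all `ρ a` vanish the matrix is zero. -/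
theorem exists_trace_ne_zero (ρ : MatRep z ι) {X : Matrix ι ι ℂ} (hX : X ≠ 0) :
    ∃ a, trace ((ρ.toHom a : Matrix ι ι ℂ) * X) ≠ 0 := by
  by_contra hne
  push Not at hne
  have hall : ∀ Y : Matrix ι ι ℂ, trace (Y * X) = 0 := by
    intro Y
    have hY : Y ∈ Submodule.span ℂ (Set.range fun a : E => (ρ.toHom a : Matrix ι ι ℂ)) := by
      rw [ρ.span_eq_top h]; trivial
    induction hY using Submodule.span_induction with
    | mem Y hY => obtain ⟨a, rfl⟩ := hY; exact hne a
    | zero => simp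
    | add Y Y' _ _ h1 h2 => simp [add_mul, h1, h2]
    | smul c Y _ h1 => simp [smul_mul_assoc, h1]
  refine hX (Matrix.ext fun i j => ?_)
  simpa [Matrix.trace_single_mul] using hall (Matrix.single j i 1)

/-- Two representations of this kind are conjugate. -/
theorem exists_conj (ρ σ : MatRep z ι) :
    ∃ P : MU ι, ∀ a, P * ρ.toHom a * P⁻¹ = σ.toHom a := by
  classical
  haveI := Fintype.ofFinite E
  set F : Matrix ι ι ℂ → Matrix ι ι ℂ := fun X =>
    ∑ a : E, (σ.toHom a : Matrix ι ι ℂ) * X * (↑(ρ.toHom a)⁻¹ : Matrix ι ι ℂ) with hF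
  have hFeq : ∀ X a, F X * (ρ.toHom a : Matrix ι ι ℂ) = (σ.toHom a : Matrix ι ι ℂ) * F X := by
    intro X a
    simp only [hF, Finset.sum_mul, Finset.mul_sum]
    refine (Fintype.sum_equiv (Equiv.mulLeft a) _ _ fun c => ?_).symm
    simp [Equiv.coe_mulLeft, mul_assoc]
  have hsum : ∀ a : E, trace (σ.toHom a : Matrix ι ι ℂ) * trace (↑(ρ.toHom a)⁻¹ : Matrix ι ι ℂ) =
      if a ∈ zpowers z then (Fintype.card ι : ℂ) * Fintype.card ι else 0 := by
    intro a
    split
    · next ha =>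
      rcases h.mem_zpowers_iff.1 ha with rfl | rfl
      · simp
      · rw [← map_inv, h.z_inv, ρ.trace_z h, σ.trace_z h, neg_mul_neg]
    · next ha => rw [σ.trace_eq_zero h ha, zero_mul]
  have hne : ∃ X, F X ≠ 0 := by
    by_contra h0
    push Not at h0
    have h1 : ∑ i, ∑ j, F (Matrix.single i j 1) i j =
        ∑ a : E, trace (σ.toHom a : Matrix ι ι ℂ) * trace (↑(ρ.toHom a)⁻¹ : Matrix ι ι ℂ) := by
      simp only [hF, Matrix.sum_apply, trace, diag_apply, Finset.sum_mul_sum]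
      rw [Finset.sum_comm_cycle]
      refine Finset.sum_congr rfl fun a _ => Finset.sum_congr rfl fun i _ =>
        Finset.sum_congr rfl fun j _ => ?_
      rw [mul_assoc, Matrix.mul_apply, Finset.sum_eq_single i]
      · simp
      · intro b _ hb
        simp [Matrix.single_mul_apply_of_ne _ _ _ _ _ hb]
      · simp
    simp only [h0, Matrix.zero_apply, Finset.sum_const_zero, hsum, Finset.sum_ite,
      Finset.sum_const_zero, add_zero, Finset.sum_const, nsmul_eq_mul] at h1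
    have h2 : (Finset.univ.filter fun a : E => a ∈ zpowers z).card ≠ 0 :=
      Finset.card_ne_zero.2 ⟨1, by simp⟩
    have h3 := ρ.card_pos h
    rcases mul_eq_zero.1 h1.symm with h4 | h4
    · exact h2 (by exact_mod_cast h4)
    · exact (Nat.mul_pos h3 h3).ne' (by exact_mod_cast h4)
  obtain ⟨X, hX⟩ := hne
  have hinj : ∀ v : ι → ℂ, F X *ᵥ v = 0 → v = 0 := by
    intro v hv
    by_contra hv0
    refine hX (Matrix.ext fun i j => ?_)
    have hall : ∀ Y : Matrix ι ι ℂ, F X *ᵥ (Y *ᵥ v) = 0 := by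
      intro Y
      have hY : Y ∈ Submodule.span ℂ (Set.range fun a : E => (ρ.toHom a : Matrix ι ι ℂ)) := by
        rw [ρ.span_eq_top h]; trivial
      induction hY using Submodule.span_induction with
      | mem Y hY =>
        obtain ⟨a, rfl⟩ := hY
        rw [mulVec_mulVec, hFeq, ← mulVec_mulVec, hv, mulVec_zero]
      | zero => simp
      | add Y Y' _ _ h1 h2 => rw [add_mulVec, mulVec_add, h1, h2, add_zero]
      | smul c Y _ h1 => rw [smul_mulVec, mulVec_smul, h1, smul_zero]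
    obtain ⟨k, hk⟩ : ∃ k, v k ≠ 0 := Function.ne_iff.1 hv0
    have h1 := congrFun (hall (Matrix.single j k (v k)⁻¹)) i
    rw [single_mulVec, inv_mul_cancel₀ hk] at h1
    simpa [mulVec, dotProduct, Function.update_apply] using h1
  have hunit : IsUnit (F X) := by
    rw [← mulVec_injective_iff_isUnit]
    intro v w hvw
    exact sub_eq_zero.1 (hinj _ (by rw [mulVec_sub]; exact sub_eq_zero.2 hvw))
  obtain ⟨P, hP⟩ := hunit
  refine ⟨P, fun a => mul_inv_eq_iff_eq_mul.2 (Units.ext ?_)⟩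
  rw [Units.val_mul, Units.val_mul, hP, hFeq]

/-- Twist a representation by an automorphism. -/
noncomputable def comp (ρ : MatRep z ι) (φ : MulAut E) : MatRep z ι where
  toHom := ρ.toHom.comp φ.toMonoidHom
  map_z := by rw [MonoidHom.comp_apply]; simp [h.map_z φ, ρ.map_z]
  card_eq := ρ.card_eq

theorem exists_impl (ρ : MatRep z ι) (φ : MulAut E) : ∃ u : MU ι, Impl ρ φ u :=
  ρ.exists_conj h (ρ.comp h φ)

end MatRep

end

/-! ### Change of index, transport of lifts -/

/-- Reindexing. -/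
noncomputable def MatRep.reindex {ι κ : Type} [Fintype ι] [DecidableEq ι] [Fintype κ]
    [DecidableEq κ] (ρ : MatRep z ι) (e : ι ≃ κ) : MatRep z κ where
  toHom := (Units.map (reindexAlgEquiv ℂ ℂ e).toAlgHom.toRingHom.toMonoidHom).comp ρ.toHom
  map_z := by
    show reindexAlgEquiv ℂ ℂ e (ρ.toHom z : Matrix ι ι ℂ) = -1
    rw [ρ.map_z, map_neg, map_one]
  card_eq := by rw [← Fintype.card_congr e]; exact ρ.card_eq

theorem Lift.of_index {ι : Type} [Fintype ι] [DecidableEq ι] {Q : Subgroup (MulAut E)}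
    (ρ : MatRep z ι) (R : Q →* MU ι) (hR : ∀ x : Q, Impl ρ x (R x)) : Lift z Q := by
  let f : MU ι →* MU (Fin (Fintype.card ι)) :=
    Units.map (reindexAlgEquiv ℂ ℂ (Fintype.equivFin ι)).toAlgHom.toRingHom.toMonoidHom
  refine ⟨_, ρ.reindex (Fintype.equivFin ι), f.comp R, fun x a => ?_⟩
  show f (R x) * f (ρ.toHom a) * (f (R x))⁻¹ = f (ρ.toHom _)
  rw [← map_inv, ← map_mul, ← map_mul, hR x a]

/-- A lift can be realised on any representation. -/
theorem Lift.exists_hom [Finite E] {d : ℕ} {Q : Subgroup (MulAut E)} (hQ : Lift z Q)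
    (h : Piece z) (σ : MatRep z (Fin d)) : ∃ R : Q →* MU (Fin d), ∀ x : Q, Impl σ x (R x) := by
  obtain ⟨d', ρ, R, hR⟩ := hQ
  obtain rfl : d = d' := by
    have h1 := ρ.card_eq.trans σ.card_eq.symm
    simp only [Fintype.card_fin] at h1
    exact (Nat.mul_self_inj.1 (Nat.eq_of_mul_eq_mul_right two_pos h1)).symm
  obtain ⟨P, hP⟩ := ρ.exists_conj h σ
  refine ⟨(MulAut.conj P).toMonoidHom.comp R, fun x a => ?_⟩
  show P * R x * P⁻¹ * σ.toHom a * (P * R x * P⁻¹)⁻¹ = σ.toHom _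
  rw [← hP a, ← hP, ← hR x a]
  group

/-- Lifting through a further automorphism normalising the lift. -/
theorem lift_of_step [Finite E] {ι : Type} [Fintype ι] [DecidableEq ι] (h : Piece z)
    (ρ : MatRep z ι) {P Q : Subgroup (MulAut E)} {q : MulAut E} (hq : q ∈ Q) (hPQ : P ≤ Q)
    (hgen : ∀ x ∈ Q, ∃ i : ℕ, (q ^ i)⁻¹ * x ∈ P) (hqP : ∀ x ∈ P, q * x * q⁻¹ ∈ P)
    (R : P →* MU ι) (hR : ∀ x : P, Impl ρ x (R x)) {u : MU ι} (hu : Impl ρ q u)
    (hconj : ∀ x : P, u * R x * u⁻¹ = R ⟨q * x * q⁻¹, hqP x x.2⟩) : Lift z Q := by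
  classical
  haveI : Finite (MulAut E) := Finite.of_injective (fun φ : MulAut E => (φ : E → E))
    DFunLike.coe_injective
  have hex : ∃ m, 0 < m ∧ q ^ m ∈ P :=
    ⟨orderOf q, orderOf_pos q, by rw [pow_orderOf_eq_one]; exact one_mem _⟩
  set m := Nat.find hex with hm
  obtain ⟨hm0, hmP⟩ := Nat.find_spec hex
  obtain ⟨c, hc⟩ := ρ.impl_unique h (hu.pow m) (hR ⟨q ^ m, hmP⟩)
  obtain ⟨b, hb⟩ : ∃ b : ℂˣ, b ^ m = c⁻¹ := by
    obtain ⟨w, hw⟩ := IsAlgClosed.exists_pow_nat_eq ((c⁻¹ : ℂˣ) : ℂ) hm0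
    have hw0 : w ≠ 0 := fun h0 => (c⁻¹).ne_zero (by rw [← hw, h0, zero_pow hm0.ne'])
    exact ⟨Units.mk0 w hw0, Units.ext (by simpa using hw)⟩
  set u' := msc ι b * u with hu'
  have hu'm : u' ^ m = R ⟨q ^ m, hmP⟩ := by
    rw [hu', (Commute.mul_pow (msc_comm b u) m), ← map_pow, hb, hc, ← mul_assoc, ← map_mul,
      inv_mul_cancel, map_one, one_mul]
  set L0 : Subgroup (MulAut E × MU ι) := ((P.subtype).prod R).range with hL0
  set g : MulAut E × MU ι := (q, u') with hg
  have hmem0 : ∀ x : P, ((x : MulAut E), R x) ∈ L0 := fun x => ⟨x, rfl⟩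
  have hnorm : ∀ y ∈ L0, g * y * g⁻¹ ∈ L0 := by
    rintro _ ⟨x, rfl⟩
    refine ⟨⟨q * x * q⁻¹, hqP x x.2⟩, Prod.ext rfl ?_⟩
    show R _ = u' * R x * u'⁻¹
    rw [hu', msc_conj, hconj]
  haveI : Finite L0 := Finite.of_surjective (fun x : P => (⟨_, hmem0 x⟩ : L0))
    (by rintro ⟨_, x, rfl⟩; exact ⟨x, rfl⟩)
  have hnor : g ∈ normalizer (L0 : Set (MulAut E × MU ι)) := by
    refine mem_normalizer_iff.2 fun y => ⟨hnorm y, fun hy => ?_⟩
    have hbij : Function.Surjective (fun y : L0 => (⟨g * y * g⁻¹, hnorm y y.2⟩ : L0)) :=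
      Finite.surjective_of_injective fun a b hab => by
        simpa using congrArg Subtype.val hab
    obtain ⟨⟨y', hy'⟩, hyy⟩ := hbij ⟨_, hy⟩
    have hyy' : g * y' * g⁻¹ = g * y * g⁻¹ := congrArg Subtype.val hyy
    simpa using (by simpa using hyy' : y' = y) ▸ hy'
  have hgfin : IsOfFinOrder g := by
    refine isOfFinOrder_iff_pow_eq_one.2 ?_
    have h1 : g ^ m ∈ L0 := by
      rw [hg, Prod.pow_mk, hu'm]
      exact hmem0 ⟨_, hmP⟩
    refine ⟨m * Nat.card L0, Nat.mul_pos hm0 Nat.card_pos, ?_⟩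
    rw [pow_mul]
    exact congrArg Subtype.val (pow_card_eq_one' (G := L0) (x := ⟨_, h1⟩))
  set S := L0 ⊔ zpowers g with hS
  have hdec : ∀ s ∈ S, ∃ y ∈ L0, ∃ i : ℕ, s = y * g ^ i := by
    intro s hs
    rw [hS, ← SetLike.mem_coe, coe_mul_of_right_le_normalizer_left L0 _ (zpowers_le.2 hnor)] at hs
    obtain ⟨y, hy, w, hw, rfl⟩ := Set.mem_mul.1 hs
    obtain ⟨i, rfl⟩ := hgfin.mem_powers_iff_mem_zpowers.2 hw
    exact ⟨y, hy, i, rfl⟩
  let π : S →* MulAut E := (MonoidHom.fst _ _).comp S.subtype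
  have hinj : Function.Injective π := by
    refine (injective_iff_map_eq_one π).2 fun s hs => ?_
    obtain ⟨y, ⟨x, rfl⟩, i, hsi⟩ := hdec s s.2
    have h1 : (x : MulAut E) * q ^ i = 1 := by
      have : (s : MulAut E × MU ι).1 = 1 := hs
      rwa [hsi] at this
    have h2 : q ^ i ∈ P := by rw [eq_inv_of_mul_eq_one_right h1]; exact inv_mem x.2
    have h3 : q ^ (i % m) ∈ P := by
      have : q ^ (i % m) = ((q ^ m) ^ (i / m))⁻¹ * q ^ i := by
        rw [← pow_mul, eq_inv_mul_iff_mul_eq, ← pow_add, Nat.div_add_mod]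
      rw [this]
      exact mul_mem (inv_mem (pow_mem hmP _)) h2
    have h4 : i % m = 0 := by
      by_contra h5
      exact Nat.find_min hex (Nat.mod_lt i hm0) ⟨Nat.pos_of_ne_zero h5, h3⟩
    obtain ⟨j, rfl⟩ := Nat.dvd_of_mod_eq_zero h4
    have h6 : x * (⟨q ^ m, hmP⟩ : P) ^ j = 1 := by
      refine Subtype.ext ?_
      rw [coe_mul, coe_pow, coe_one, ← pow_mul]
      exact h1
    refine Subtype.ext (hsi.trans (Prod.ext h1 ?_))
    show R x * u' ^ (m * j) = 1
    rw [pow_mul, hu'm, ← map_pow, ← map_mul, h6, map_one]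
  have hsurj : ∀ x ∈ Q, ∃ s : S, π s = x := by
    intro x hx
    obtain ⟨i, hi⟩ := hgen x hx
    refine ⟨⟨g ^ i * (((q ^ i)⁻¹ * x : MulAut E), R ⟨_, hi⟩),
      mul_mem (pow_mem (mem_sup_right (mem_zpowers g)) i) (mem_sup_left (hmem0 ⟨_, hi⟩))⟩, ?_⟩
    show q ^ i * _ = x
    rw [mul_inv_cancel_left]
  have himpl : ∀ s ∈ S, Impl ρ s.1 s.2 := by
    intro s hs
    obtain ⟨y, ⟨x, rfl⟩, i, rfl⟩ := hdec s hs
    exact (hR x).mul ((hu.msc_mul b).pow i)
  choose f hf using fun x : Q => hsurj x x.2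
  refine Lift.of_index ρ (MonoidHom.mk' (fun x : Q => (f x : MulAut E × MU ι).2)
    fun x y => ?_) fun x => ?_
  · have : f (x * y) = f x * f y := hinj (by rw [map_mul, hf, hf, hf]; rfl)
    rw [this]
    rfl
  · have h1 := himpl _ (f x).2
    rwa [show (f x : MulAut E × MU ι).1 = x from hf x] at h1

end Cfsg.Agent.FRLift62
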