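import Mathlib
import Cfsg.Prelude.Def_Transfer
import Cfsg.Agent.Lib.PGL2SplitAxes

/-! Radical planes of an extraspecial Sylow subgroup of order `p³` and exponent `p` give torus
elements in the automizer of `P/Z(P)`. -/

set_option autoImplicit false
set_option linter.style.haveILetI false

namespace Cfsg.Agent.ExtraspecialPlanes

open Matrix
open scoped commutatorElement

variable {G : Type*} [Group G] {p : ℕ} [Fact p.Prime]

/-- `x ^ i` for `i : ZMod p`. -/
def pw (x : G) (i : ZMod p) : G := x ^ i.val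

theorem pow_mod {x : G} (hx : x ^ p = 1) (k : ℕ) : x ^ (k % p) = x ^ k := by
  conv_rhs => rw [← Nat.mod_add_div k p, pow_add, pow_mul, hx, one_pow, mul_one]

theorem pw_natCast {x : G} (hx : x ^ p = 1) (k : ℕ) : pw x (k : ZMod p) = x ^ k := by
  rw [pw, ZMod.val_natCast, pow_mod hx]

theorem pw_add {x : G} (hx : x ^ p = 1) (i j : ZMod p) : pw x (i + j) = pw x i * pw x j := by
  rw [pw, pw, pw, ZMod.val_add, pow_mod hx, pow_add]

theorem pw_zero (x : G) : pw x (0 : ZMod p) = 1 := by rw [pw, ZMod.val_zero, pow_zero]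

theorem pw_one (x : G) : pw x (1 : ZMod p) = x := by rw [pw, ZMod.val_one, pow_one]

theorem pw_pw {x : G} (hx : x ^ p = 1) (i j : ZMod p) : pw (pw x i) j = pw x (i * j) := by
  rw [pw, pw, pw, ← pow_mul, ZMod.val_mul, pow_mod hx]

theorem pw_mem {x : G} {S : Subgroup G} (hx : x ∈ S) (i : ZMod p) : pw x i ∈ S := pow_mem hx _

theorem conj_pw (g x : G) (i : ZMod p) : g * pw x i * g⁻¹ = pw (g * x * g⁻¹) i := by
  rw [pw, pw, conj_pow]

theorem pw_mul {x y : G} (h : Commute x y) (i : ZMod p) : pw (x * y) i = pw x i * pw y i :=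
  h.mul_pow _

theorem mem_of_pw {x : G} (hx : x ^ p = 1) {S : Subgroup G} {i : ZMod p} (hi : i ≠ 0)
    (h : pw x i ∈ S) : x ∈ S := by
  have h1 := pw_mem h i⁻¹
  rwa [pw_pw hx, mul_inv_cancel₀ hi, pw_one] at h1

/-- Coordinates in a plane. -/
def ph (z a : G) (x : ZMod p × ZMod p) : G := pw z x.1 * pw a x.2

/-- A plane `⟨z, a⟩` with `z` the centre of `P`. -/
structure Plane (p : ℕ) [Fact p.Prime] (P A : Subgroup G) (z a : G) : Prop where
  zp : z ^ p = 1
  ap : a ^ p = 1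
  comm : Commute z a
  zA : z ∈ A
  aA : a ∈ A
  AP : A ≤ P
  zcen : ∀ x ∈ P, Commute z x
  indep : a ∉ Subgroup.zpowers z
  z1 : z ≠ 1
  span : ∀ y ∈ A, ∃ x : ZMod p × ZMod p, y = ph z a x
  comm_mem : ∀ x ∈ P, ∀ y ∈ P, ⁅x, y⁆ ∈ Subgroup.zpowers z
  self_cent : ∀ x ∈ P, Commute x a → x ∈ A
  conjA : ∀ x ∈ P, ∀ y ∈ A, x * y * x⁻¹ ∈ A
  expP : ∀ x ∈ P, x ^ p = 1
  sup : ∀ b ∈ P, b ∉ A → ∀ y ∈ P, ∃ j : ZMod p, ∃ α ∈ A, y = pw b j * α

variable {P A : Subgroup G} {z a : G}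

theorem Plane.inj (h : Plane p P A z a) {x y : ZMod p × ZMod p} (e : ph z a x = ph z a y) :
    x = y := by
  have h2 : x.2 = y.2 := by
    by_contra hne
    apply h.indep
    refine mem_of_pw h.ap (sub_ne_zero.mpr hne) ?_
    have e' : pw a (x.2 - y.2) = (pw z x.1)⁻¹ * pw z y.1 := by
      rw [eq_inv_mul_iff_mul_eq]
      have h1 : pw a x.2 = pw a (x.2 - y.2) * pw a y.2 := by rw [← pw_add h.ap, sub_add_cancel]
      rw [ph, ph, h1, ← mul_assoc] at e
      exact mul_right_cancel e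
    rw [e']
    exact mul_mem (inv_mem (pw_mem (Subgroup.mem_zpowers z) _)) (pw_mem (Subgroup.mem_zpowers z) _)
  have h1 : x.1 = y.1 := by
    rw [ph, ph, h2] at e
    have e' := mul_right_cancel e
    by_contra hne
    apply h.z1
    have h3 : pw z (x.1 - y.1) ∈ (⊥ : Subgroup G) := by
      rw [Subgroup.mem_bot]
      have h4 : pw z x.1 = pw z (x.1 - y.1) * pw z y.1 := by rw [← pw_add h.zp, sub_add_cancel]
      rw [h4] at e'
      exact mul_eq_right.mp e'
    exact Subgroup.mem_bot.mp (mem_of_pw h.zp (sub_ne_zero.mpr hne) h3)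
  exact Prod.ext h1 h2

theorem Plane.commute_pw (h : Plane p P A z a) (i j : ZMod p) : Commute (pw z i) (pw a j) :=
  (h.comm.pow_pow _ _)

theorem Plane.ph_mul (h : Plane p P A z a) (x y : ZMod p × ZMod p) :
    ph z a x * ph z a y = ph z a (x.1 + y.1, x.2 + y.2) := by
  rw [ph, ph, ph, pw_add h.zp, pw_add h.ap]
  calc pw z x.1 * pw a x.2 * (pw z y.1 * pw a y.2)
      = pw z x.1 * (pw a x.2 * pw z y.1) * pw a y.2 := by group
    _ = pw z x.1 * (pw z y.1 * pw a x.2) * pw a y.2 := by rw [(h.commute_pw y.1 x.2).eq]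
    _ = _ := by group

theorem Plane.ph_pw (h : Plane p P A z a) (x : ZMod p × ZMod p) (k : ZMod p) :
    pw (ph z a x) k = ph z a (x.1 * k, x.2 * k) := by
  rw [ph, pw_mul (h.commute_pw _ _), pw_pw h.zp, pw_pw h.ap, ph]

/-- `g` induces the matrix `M` on the plane. -/
def Real (z a g : G) (M : Matrix (Fin 2) (Fin 2) (ZMod p)) : Prop :=
  g * z * g⁻¹ = ph z a (M 0 0, M 1 0) ∧ g * a * g⁻¹ = ph z a (M 0 1, M 1 1)

theorem Plane.real_apply (h : Plane p P A z a) {g : G} {M : Matrix (Fin 2) (Fin 2) (ZMod p)}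
    (hg : Real z a g M) (x : ZMod p × ZMod p) :
    g * ph z a x * g⁻¹ = ph z a (M 0 0 * x.1 + M 0 1 * x.2, M 1 0 * x.1 + M 1 1 * x.2) := by
  have e : g * ph z a x * g⁻¹ = (g * pw z x.1 * g⁻¹) * (g * pw a x.2 * g⁻¹) := by
    rw [ph]; group
  rw [e, conj_pw, conj_pw, hg.1, hg.2, h.ph_pw, h.ph_pw, h.ph_mul]

theorem Plane.real_mul (h : Plane p P A z a) {g g' : G} {M M' : Matrix (Fin 2) (Fin 2) (ZMod p)}
    (hg : Real z a g M) (hg' : Real z a g' M') : Real z a (g * g') (M * M') := by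
  refine ⟨?_, ?_⟩
  · rw [show g * g' * z * (g * g')⁻¹ = g * (g' * z * g'⁻¹) * g⁻¹ by group, hg'.1, h.real_apply hg]
    simp [Matrix.mul_apply, Fin.sum_univ_two]
  · rw [show g * g' * a * (g * g')⁻¹ = g * (g' * a * g'⁻¹) * g⁻¹ by group, hg'.2, h.real_apply hg]
    simp [Matrix.mul_apply, Fin.sum_univ_two]

theorem Plane.real_one (h : Plane p P A z a) : Real z a 1 (1 : Matrix (Fin 2) (Fin 2) (ZMod p)) := by
  refine ⟨?_, ?_⟩ <;> simp [ph, pw_zero, pw_one]

/-- Upper triangular unipotent. -/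
def upM (t : ZMod p) : Matrix (Fin 2) (Fin 2) (ZMod p) := !![1, t; 0, 1]

/-- Lower triangular unipotent. -/
def loM (t : ZMod p) : Matrix (Fin 2) (Fin 2) (ZMod p) := !![1, 0; t, 1]

theorem upM_pow (t : ZMod p) (k : ℕ) : upM t ^ k = upM ((k : ZMod p) * t) := by
  induction k with
  | zero => ext i j; fin_cases i <;> fin_cases j <;> simp [upM]
  | succ k ih =>
    rw [pow_succ, ih]
    ext i j
    fin_cases i <;> fin_cases j <;> simp [upM, Matrix.mul_apply, Fin.sum_univ_two]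
    ring

theorem loM_pow (t : ZMod p) (k : ℕ) : loM t ^ k = loM ((k : ZMod p) * t) := by
  induction k with
  | zero => ext i j; fin_cases i <;> fin_cases j <;> simp [loM]
  | succ k ih =>
    rw [pow_succ, ih]
    ext i j
    fin_cases i <;> fin_cases j <;> simp [loM, Matrix.mul_apply, Fin.sum_univ_two]
    ring

theorem Plane.real_pow (h : Plane p P A z a) {g : G} {M : Matrix (Fin 2) (Fin 2) (ZMod p)}
    (hg : Real z a g M) (k : ℕ) : Real z a (g ^ k) (M ^ k) := by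
  induction k with
  | zero => rw [pow_zero, pow_zero]; exact h.real_one
  | succ k ih => rw [pow_succ, pow_succ]; exact h.real_mul ih hg

theorem Plane.conj_a (h : Plane p P A z a) {b : G} (hb : b ∈ P) :
    ∃ c : ZMod p, Real z a b (upM c) ∧ (b ∉ A → c ≠ 0) := by
  have hm := h.comm_mem b hb a (h.AP h.aA)
  obtain ⟨x, hx⟩ := h.span _ (h.conjA b hb a h.aA)
  have hzm : b * a * b⁻¹ * a⁻¹ ∈ Subgroup.zpowers z := hm
  have hx2 : x.2 = 1 := by
    by_contra hne
    apply h.indep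
    refine mem_of_pw h.ap (sub_ne_zero.mpr hne) ?_
    have e : pw a (x.2 - 1) = (pw z x.1)⁻¹ * (b * a * b⁻¹ * a⁻¹) := by
      have h1 : pw a x.2 = pw a (x.2 - 1) * a := by
        conv_rhs => arg 2; rw [← pw_one (p := p) a]
        rw [← pw_add h.ap, sub_add_cancel]
      rw [hx, ph, h1]; group
    rw [e]
    exact mul_mem (inv_mem (pw_mem (Subgroup.mem_zpowers z) _)) hzm
  refine ⟨x.1, ⟨?_, ?_⟩, fun hbA hc => hbA (h.self_cent b hb ?_)⟩
  · rw [(h.zcen b hb).symm.eq, mul_inv_cancel_right]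
    simp [upM, ph, pw_zero, pw_one]
  · rw [hx]
    refine congrArg _ (Prod.ext ?_ ?_) <;> simp [upM, hx2]
  · show b * a = a * b
    rw [← mul_inv_eq_iff_eq_mul, hx, ph, hc, hx2, pw_zero, pw_one, one_mul]

/-- The torus element normalising `P`. -/
theorem Plane.torus (h : Plane p P A z a) [Finite G] (hsyl : ∃ S : Sylow p G, (S : Subgroup G) = P)
    (hlow : ∃ g : G, ∃ c : ZMod p, c ≠ 0 ∧ Real z a g (loM c)) {b : G} (hb : b ∈ P) (hbA : b ∉ A)
    (s : ZMod p) (hs : s ≠ 0) :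
    ∃ n : G, n ∈ Subgroup.normalizer (P : Set G) ∧ n * z * n⁻¹ = pw z s ∧
      n * a * n⁻¹ = pw a s⁻¹ ∧ ∃ α ∈ A, n * b * n⁻¹ = pw b (s * s) * α := by
  obtain ⟨c, hbc, hc⟩ := h.conj_a hb
  have hc := hc hbA
  obtain ⟨gl, cl, hcl, hgl⟩ := hlow
  have hup : ∀ t : ZMod p, Real z a (b ^ (t * c⁻¹).val) (upM t) := fun t => by
    have := h.real_pow hbc (t * c⁻¹).val
    rwa [upM_pow, ZMod.natCast_zmod_val, inv_mul_cancel_right₀ hc] at this
  have hlo : ∀ t : ZMod p, ∃ g, Real z a g (loM t) := fun t => ⟨gl ^ (t * cl⁻¹).val, by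
    have := h.real_pow hgl (t * cl⁻¹).val
    rwa [loM_pow, ZMod.natCast_zmod_val, inv_mul_cancel_right₀ hcl] at this⟩
  obtain ⟨g1, hg1⟩ := hlo (-s⁻¹)
  obtain ⟨g2, hg2⟩ := hlo 1
  have hg := h.real_mul (h.real_mul (h.real_mul (h.real_mul (h.real_mul (hup s) hg1) (hup s))
    (hup (-1))) hg2) (hup (-1))
  have hM : upM s * loM (-s⁻¹) * upM s * upM (-1) * loM 1 * upM (-1) =
      (!![s, 0; 0, s⁻¹] : Matrix (Fin 2) (Fin 2) (ZMod p)) := by
    ext i j
    fin_cases i <;> fin_cases j <;> simp [upM, loM, Matrix.mul_apply, Fin.sum_univ_two] <;>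
      field_simp <;> ring
  rw [hM] at hg
  set g := b ^ (s * c⁻¹).val * g1 * b ^ (s * c⁻¹).val * b ^ (-1 * c⁻¹).val * g2 *
    b ^ (-1 * c⁻¹).val
  have hgz : g * z * g⁻¹ = pw z s := by simpa [ph, pw_zero] using hg.1
  have hga : g * a * g⁻¹ = pw a s⁻¹ := by simpa [ph, pw_zero] using hg.2
  set C := Subgroup.centralizer ({z, a} : Set G) with hC
  have hCmem : ∀ x : G, x ∈ C ↔ x * z * x⁻¹ = z ∧ x * a * x⁻¹ = a := by
    intro x
    rw [hC, Subgroup.mem_centralizer_iff]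
    constructor
    · intro h'
      exact ⟨mul_inv_eq_iff_eq_mul.mpr (h' z (Or.inl rfl)).symm,
        mul_inv_eq_iff_eq_mul.mpr (h' a (Or.inr rfl)).symm⟩
    · rintro ⟨e1, e2⟩ y (rfl | rfl)
      · exact (mul_inv_eq_iff_eq_mul.mp e1).symm
      · exact (mul_inv_eq_iff_eq_mul.mp e2).symm
  have hCA : ∀ x ∈ C, ∀ y ∈ A, x * y * x⁻¹ = y := by
    intro x hx y hy
    obtain ⟨w, rfl⟩ := h.span y hy
    obtain ⟨e1, e2⟩ := (hCmem x).mp hx
    calc x * ph z a w * x⁻¹ = (x * pw z w.1 * x⁻¹) * (x * pw a w.2 * x⁻¹) := by rw [ph]; group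
      _ = _ := by rw [conj_pw, conj_pw, e1, e2, ph]
  have hPC : P ≤ Subgroup.normalizer (C : Set G) := by
    refine Subgroup.le_normalizer_iff.2 fun y hy x hx => ?_
    rw [hCmem]
    constructor <;> [skip; skip]
    · have e := hCA x hx _ (h.conjA y⁻¹ (inv_mem hy) z h.zA)
      rw [inv_inv] at e
      calc y * x * y⁻¹ * z * (y * x * y⁻¹)⁻¹ = y * (x * (y⁻¹ * z * y) * x⁻¹) * y⁻¹ := by group
        _ = z := by rw [e]; group
    · have e := hCA x hx _ (h.conjA y⁻¹ (inv_mem hy) a h.aA)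
      rw [inv_inv] at e
      calc y * x * y⁻¹ * a * (y * x * y⁻¹)⁻¹ = y * (x * (y⁻¹ * a * y) * x⁻¹) * y⁻¹ := by group
        _ = a := by rw [e]; group
  obtain ⟨S, hS⟩ := hsyl
  have hgP : ∀ y ∈ P, g * y * g⁻¹ ∈ C ⊔ P := by
    intro y hy
    obtain ⟨d, hd, -⟩ := h.conj_a hy
    have hyz : g * y * g⁻¹ * pw z s * (g * y * g⁻¹)⁻¹ = pw z s := by
      rw [← hgz]
      calc g * y * g⁻¹ * (g * z * g⁻¹) * (g * y * g⁻¹)⁻¹ = g * (y * z * y⁻¹) * g⁻¹ := by group
        _ = _ := by rw [(h.zcen y hy).symm.eq, mul_inv_cancel_right]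
    have hya : g * y * g⁻¹ * pw a s⁻¹ * (g * y * g⁻¹)⁻¹ = pw z (d * s) * pw a s⁻¹ := by
      rw [← hga]
      calc g * y * g⁻¹ * (g * a * g⁻¹) * (g * y * g⁻¹)⁻¹ = g * (y * a * y⁻¹) * g⁻¹ := by group
        _ = g * ph z a (d, 1) * g⁻¹ := by rw [hd.2]; simp [upM]
        _ = (g * pw z d * g⁻¹) * (g * a * g⁻¹) := by rw [ph, pw_one]; group
        _ = _ := by rw [conj_pw, hgz, pw_pw h.zp, mul_comm s d, hga]
    have hyz' : g * y * g⁻¹ * z * (g * y * g⁻¹)⁻¹ = z := by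
      have := congrArg (fun x => pw x s⁻¹) hyz
      simp only [← conj_pw, pw_pw h.zp, mul_inv_cancel₀ hs, pw_one] at this
      exact this
    have hya' : g * y * g⁻¹ * a * (g * y * g⁻¹)⁻¹ = ph z a (d * s * s, 1) := by
      have := congrArg (fun x => pw x s) hya
      simp only [← conj_pw, pw_pw h.ap, inv_mul_cancel₀ hs, pw_one,
        pw_mul (h.commute_pw _ _), pw_pw h.zp] at this
      rw [this, ph, pw_one]
    obtain ⟨w, hw⟩ : ∃ w, w = b ^ (d * s * s * c⁻¹).val := ⟨_, rfl⟩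
    have hwr := hup (d * s * s)
    rw [← hw] at hwr
    have hwP : w ∈ P := hw ▸ pow_mem hb _
    have hin : w⁻¹ * (g * y * g⁻¹) ∈ C := by
      rw [hCmem]
      have e1 : w * z * w⁻¹ = z := by
        rw [(h.zcen w hwP).symm.eq, mul_inv_cancel_right]
      have e2 : w * a * w⁻¹ = ph z a (d * s * s, 1) := by rw [hwr.2]; simp [upM]
      constructor
      · calc w⁻¹ * (g * y * g⁻¹) * z * (w⁻¹ * (g * y * g⁻¹))⁻¹
            = w⁻¹ * (g * y * g⁻¹ * z * (g * y * g⁻¹)⁻¹) * w := by group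
          _ = w⁻¹ * (w * z * w⁻¹) * w := by rw [hyz', e1]
          _ = z := by group
      · calc w⁻¹ * (g * y * g⁻¹) * a * (w⁻¹ * (g * y * g⁻¹))⁻¹
            = w⁻¹ * (g * y * g⁻¹ * a * (g * y * g⁻¹)⁻¹) * w := by group
          _ = w⁻¹ * (w * a * w⁻¹) * w := by rw [hya', e2]
          _ = a := by group
    have := (C ⊔ P).mul_mem (le_sup_right (α := Subgroup G) hwP) (le_sup_left (α := Subgroup G) hin)
    rwa [mul_inv_cancel_left] at this
  set K := C ⊔ P
  have hSK : (S : Subgroup G) ≤ K := hS ▸ le_sup_right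
  have hgSK : ((g • S : Sylow p G) : Subgroup G) ≤ K := by
    rw [Sylow.smul_def, Sylow.pointwise_smul_def]
    rintro _ ⟨y, hy, rfl⟩
    exact hgP y (hS ▸ hy)
  obtain ⟨k, hk⟩ := MulAction.exists_smul_eq K (S.subtype hSK) ((g • S).subtype hgSK)
  have hk' : ((k : G) • S : Sylow p G) = g • S :=
    Sylow.subtype_injective ((Sylow.smul_subtype hSK k).symm.trans hk)
  obtain ⟨x, hx, y, hy, hxy⟩ : ∃ x ∈ C, ∃ y ∈ P, x * y = (k : G) := by
    have hkm : (k : G) ∈ ((C ⊔ P : Subgroup G) : Set G) := k.2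
    rw [Subgroup.coe_mul_of_right_le_normalizer_left _ _ hPC] at hkm
    exact hkm
  have hfix : (x⁻¹ * g) • S = S := by
    have h1 : y • S = S := Sylow.smul_eq_iff_mem_normalizer.mpr
      (Subgroup.le_normalizer (by rw [hS]; exact hy))
    rw [mul_smul, ← hk', ← hxy, mul_smul x y, inv_smul_smul, h1]
  have hn : x⁻¹ * g ∈ Subgroup.normalizer (P : Set G) := hS ▸ Sylow.smul_eq_iff_mem_normalizer.mp hfix
  have hxA := hCA _ (inv_mem hx)
  have hnz : x⁻¹ * g * z * (x⁻¹ * g)⁻¹ = pw z s := by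
    calc _ = x⁻¹ * (g * z * g⁻¹) * x⁻¹⁻¹ := by group
      _ = _ := by rw [hgz, hxA _ (pw_mem h.zA s)]
  have hna : x⁻¹ * g * a * (x⁻¹ * g)⁻¹ = pw a s⁻¹ := by
    calc _ = x⁻¹ * (g * a * g⁻¹) * x⁻¹⁻¹ := by group
      _ = _ := by rw [hga, hxA _ (pw_mem h.aA s⁻¹)]
  refine ⟨x⁻¹ * g, hn, hnz, hna, ?_⟩
  set n := x⁻¹ * g
  have hnb : n * b * n⁻¹ ∈ P := (Subgroup.mem_normalizer_iff.mp hn b).mp hb
  obtain ⟨j, α, hα, hj⟩ := h.sup b hb hbA _ hnb
  suffices hjs : j = s * s from ⟨α, hα, hjs ▸ hj⟩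
  have hcomA : ∀ u ∈ A, ∀ v ∈ A, u * v = v * u := by
    intro u hu v hv
    obtain ⟨u', rfl⟩ := h.span u hu
    obtain ⟨v', rfl⟩ := h.span v hv
    rw [h.ph_mul, h.ph_mul, add_comm u'.1, add_comm u'.2]
  have e1 : n * (b * a * b⁻¹) * n⁻¹ = ph z a (c * s, s⁻¹) := by
    rw [hbc.2]
    calc n * ph z a (upM c 0 1, upM c 1 1) * n⁻¹ = (n * pw z c * n⁻¹) * (n * pw a (1 : ZMod p) * n⁻¹) := by
          show n * (pw z (upM c 0 1) * pw a (upM c 1 1)) * n⁻¹ = _; rw [show upM c 0 1 = c from rfl, show upM c 1 1 = (1 : ZMod p) from rfl]; group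
      _ = _ := by rw [conj_pw, hnz, pw_pw h.zp, conj_pw, hna, pw_pw h.ap, mul_one, mul_comm s c, ph]
  have e2 : n * (b * a * b⁻¹) * n⁻¹ = ph z a (c * j * s⁻¹, s⁻¹) := by
    calc n * (b * a * b⁻¹) * n⁻¹ = (n * b * n⁻¹) * (n * a * n⁻¹) * (n * b * n⁻¹)⁻¹ := by group
      _ = pw b j * (α * pw a s⁻¹ * α⁻¹) * (pw b j)⁻¹ := by rw [hj, hna]; group
      _ = pw b j * pw a s⁻¹ * (pw b j)⁻¹ := by
          rw [hcomA α hα _ (pw_mem h.aA s⁻¹), mul_inv_cancel_right]
      _ = pw (pw b j * a * (pw b j)⁻¹) s⁻¹ := conj_pw _ _ _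
      _ = _ := by
          have := (h.real_pow hbc j.val).2
          rw [upM_pow, ZMod.natCast_zmod_val] at this
          rw [show pw b j = b ^ j.val from rfl, this]
          simp [upM, h.ph_pw, mul_comm, mul_left_comm]
  have h1 := congrArg Prod.fst (h.inj (e1.symm.trans e2))
  simp only at h1
  field_simp at h1
  first
    | exact h1.symm
    | (rw [pow_two] at h1; exact h1.symm)
    | linear_combination (-1 : ZMod p) * h1

/-- The dihedral-free plane structure from the hypotheses. -/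
theorem exists_plane [Finite G] (P A : Subgroup G) (hE : Cfsg.IsExtraspecial p P)
    (hcard : Nat.card P = p ^ 3) (hexp : ∀ x ∈ P, x ^ p = 1) (hAP : A ≤ P)
    (hA : Nat.card A = p ^ 2) {z : G} (hz : z ∈ P) (hz1 : z ≠ 1)
    (hzc : ∀ x ∈ P, Commute z x) :
    ∃ a b : G, Plane p P A z a ∧ b ∈ P ∧ b ∉ A := by
  have hp : p.Prime := Fact.out
  have hcomA : ∀ u ∈ A, ∀ v ∈ A, Commute u v := fun u hu v hv =>
    congrArg Subtype.val (IsPGroup.commutative_of_card_eq_prime_sq hA ⟨u, hu⟩ ⟨v, hv⟩)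
  have hcen : ∀ x ∈ P, (∀ y ∈ P, Commute x y) → x ∈ Subgroup.zpowers z := by
    intro x hx hc
    have hzc' : (⟨z, hz⟩ : P) ∈ Subgroup.center P := Subgroup.mem_center_iff.mpr fun y =>
      Subtype.ext (hzc y y.2).eq.symm
    have hord : orderOf (⟨z, hz⟩ : P) = p := by
      rw [Subgroup.orderOf_mk]
      exact orderOf_eq_prime (hexp z hz) hz1
    have heq : Subgroup.zpowers (⟨z, hz⟩ : P) = Subgroup.center P :=
      Subgroup.eq_of_le_of_card_ge (Subgroup.zpowers_le.mpr hzc')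
        (by rw [hE.2, Nat.card_zpowers, hord])
    have hx' : (⟨x, hx⟩ : P) ∈ Subgroup.center P := Subgroup.mem_center_iff.mpr fun y =>
      Subtype.ext (hc y y.2).eq.symm
    rw [← heq, Subgroup.mem_zpowers_iff] at hx'
    obtain ⟨k, hk⟩ := hx'
    exact ⟨k, congrArg Subtype.val hk⟩
  obtain ⟨b, hb, hbA⟩ : ∃ b ∈ P, b ∉ A := by
    by_contra h
    simp only [not_exists, not_and, not_not] at h
    have := Subgroup.card_le_of_le (show P ≤ A from h)
    rw [hcard, hA] at this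
    exact absurd this (not_le.mpr (Nat.pow_lt_pow_right hp.one_lt (by norm_num)))
  have hsup : ∀ b ∈ P, b ∉ A → A ⊔ Subgroup.zpowers b = P := by
    intro b hb hbA
    have hle : A ⊔ Subgroup.zpowers b ≤ P := sup_le hAP (Subgroup.zpowers_le.mpr hb)
    refine Subgroup.eq_of_le_of_card_ge hle ?_
    have hdvd := Subgroup.card_dvd_of_le hle
    rw [hcard] at hdvd ⊢
    obtain ⟨k, hk, hkc⟩ := (Nat.dvd_prime_pow hp).mp hdvd
    have hlt : p ^ 2 < Nat.card ↥(A ⊔ Subgroup.zpowers b) := by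
      rw [← hA]
      refine lt_of_le_of_ne (Subgroup.card_le_of_le le_sup_left) fun e => hbA ?_
      have := Subgroup.eq_of_le_of_card_ge (le_sup_left : A ≤ A ⊔ Subgroup.zpowers b) e.ge
      rw [this]
      exact le_sup_right (α := Subgroup G) (Subgroup.mem_zpowers b)
    rw [hkc] at hlt ⊢
    have : 2 < k := (Nat.pow_lt_pow_iff_right hp.one_lt).mp hlt
    rw [show k = 3 by omega]
  have hzA : z ∈ A := by
    by_contra hzA
    have hs := hsup z hz hzA
    have hall : ∀ x ∈ A, ∀ y ∈ P, Commute x y := by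
      intro x hx y hy
      have hle : P ≤ Subgroup.centralizer ({x} : Set G) := by
        rw [← hs]
        refine sup_le (fun u hu => ?_) (Subgroup.zpowers_le.mpr ?_)
        · rw [Subgroup.mem_centralizer_singleton_iff]; exact (hcomA x hx u hu).eq.symm
        · rw [Subgroup.mem_centralizer_singleton_iff]; exact (hzc x (hAP hx)).eq
      exact (Subgroup.mem_centralizer_singleton_iff.mp (hle hy)).symm
    have h1 := Subgroup.card_le_of_le
      (show A ≤ Subgroup.zpowers z from fun x hx => hcen x (hAP hx) (hall x hx))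
    rw [hA, Nat.card_zpowers, orderOf_eq_prime (hexp z hz) hz1] at h1
    exact absurd h1 (not_le.mpr (by
      calc p = p ^ 1 := (pow_one p).symm
        _ < p ^ 2 := Nat.pow_lt_pow_right hp.one_lt one_lt_two))
  obtain ⟨a, ha, haz⟩ : ∃ a ∈ A, a ∉ Subgroup.zpowers z := by
    by_contra h
    simp only [not_exists, not_and, not_not] at h
    have h1 := Subgroup.card_le_of_le (show A ≤ Subgroup.zpowers z from h)
    rw [hA, Nat.card_zpowers, orderOf_eq_prime (hexp z hz) hz1] at h1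
    exact absurd h1 (not_le.mpr (by
      calc p = p ^ 1 := (pow_one p).symm
        _ < p ^ 2 := Nat.pow_lt_pow_right hp.one_lt one_lt_two))
  have hzp := hexp z hz
  have hap := hexp a (hAP ha)
  haveI hAn : (A.subgroupOf P).Normal := by
    refine Subgroup.normal_of_index_eq_minFac_card ?_
    have h1 := Subgroup.card_mul_index (A.subgroupOf P)
    rw [Nat.card_congr (Subgroup.subgroupOfEquivOfLe hAP).toEquiv, hA, hcard] at h1
    rw [hcard, Nat.Prime.pow_minFac hp three_ne_zero]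
    exact Nat.eq_of_mul_eq_mul_left (pow_pos hp.pos 2) (h1.trans (by ring))
  have hconjA : ∀ x ∈ P, ∀ y ∈ A, x * y * x⁻¹ ∈ A := fun x hx y hy =>
    hAn.conj_mem (⟨y, hAP hy⟩ : P) hy ⟨x, hx⟩
  have hcomm_mem : ∀ x ∈ P, ∀ y ∈ P, ⁅x, y⁆ ∈ Subgroup.zpowers z := by
    intro x hx y hy
    have h1 : ⁅(⟨x, hx⟩ : P), ⟨y, hy⟩⁆ ∈ commutator P := by
      rw [commutator_def]
      exact Subgroup.commutator_mem_commutator (Subgroup.mem_top _) (Subgroup.mem_top _)
    rw [hE.1.2.2] at h1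
    refine hcen _ ?_ fun w hw =>
      (congrArg Subtype.val (Subgroup.mem_center_iff.mp h1 ⟨w, hw⟩)).symm
    rw [commutatorElement_def]
    exact mul_mem (mul_mem (mul_mem hx hy) (inv_mem hx)) (inv_mem hy)
  refine ⟨a, b, ⟨hzp, hap, hcomA z hzA a ha, hzA, ha, hAP, hzc, haz, hz1, ?_, hcomm_mem, ?_,
    hconjA, hexp, ?_⟩, hb, hbA⟩
  · intro y hy
    have hinj : Function.Injective (fun x : ZMod p × ZMod p =>
        (⟨ph z a x, mul_mem (pw_mem hzA _) (pw_mem ha _)⟩ : A)) := by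
      intro x x' e
      have e' : ph z a x = ph z a x' := congrArg Subtype.val e
      have h2 : x.2 = x'.2 := by
        by_contra hne
        apply haz
        refine mem_of_pw hap (sub_ne_zero.mpr hne) ?_
        have h1 : pw a x.2 = pw a (x.2 - x'.2) * pw a x'.2 := by rw [← pw_add hap, sub_add_cancel]
        rw [ph, ph, h1, ← mul_assoc] at e'
        rw [eq_inv_mul_iff_mul_eq.mpr (mul_right_cancel e')]
        exact mul_mem (inv_mem (pw_mem (Subgroup.mem_zpowers z) _))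
          (pw_mem (Subgroup.mem_zpowers z) _)
      have h1 : x.1 = x'.1 := by
        rw [ph, ph, h2] at e'
        have e'' := mul_right_cancel e'
        by_contra hne
        apply hz1
        have h4 : pw z x.1 = pw z (x.1 - x'.1) * pw z x'.1 := by rw [← pw_add hzp, sub_add_cancel]
        rw [h4] at e''
        exact Subgroup.mem_bot.mp (mem_of_pw hzp (sub_ne_zero.mpr hne)
          (Subgroup.mem_bot.mpr (mul_eq_right.mp e'')))
      exact Prod.ext h1 h2
    obtain ⟨x, hx⟩ := (Nat.bijective_iff_injective_and_card _).mpr ⟨hinj, by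
      rw [Nat.card_prod, Nat.card_zmod, hA]; ring⟩ |>.2 ⟨y, hy⟩
    exact ⟨x, (congrArg Subtype.val hx).symm⟩
  · intro x hx hxa
    by_contra hxA
    have hs := hsup x hx hxA
    apply haz
    refine hcen a (hAP ha) fun y hy => ?_
    have hle : P ≤ Subgroup.centralizer ({a} : Set G) := by
      rw [← hs]
      refine sup_le (fun u hu => ?_) (Subgroup.zpowers_le.mpr ?_)
      · rw [Subgroup.mem_centralizer_singleton_iff]; exact (hcomA a ha u hu).eq.symm
      · rw [Subgroup.mem_centralizer_singleton_iff]; exact hxa.eq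
    exact (Subgroup.mem_centralizer_singleton_iff.mp (hle hy)).symm
  · intro b hb hbA y hy
    have hn : Subgroup.zpowers b ≤ Subgroup.normalizer (A : Set G) := by
      refine Subgroup.le_normalizer_iff.2 fun x hx u hu => hconjA x ?_ u hu
      exact Subgroup.zpowers_le.mpr hb hx
    rw [← hsup b hb hbA, sup_comm, ← SetLike.mem_coe,
      Subgroup.coe_mul_of_left_le_normalizer_right _ _ hn] at hy
    obtain ⟨u, hu, α, hα, rfl⟩ := hy
    obtain ⟨k, rfl⟩ := (mem_powers_iff_mem_zpowers (x := b)).mpr hu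
    exact ⟨(k : ZMod p), α, hα, by rw [pw_natCast (hexp b hb)]⟩

end Cfsg.Agent.ExtraspecialPlanes
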