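import Mathlib
import Cfsg.Agent.Lib.ExtraspecialPlanes
import Cfsg.Agent.Lib.PGroupsBasic

/-! Many radical planes in an extraspecial Sylow subgroup of order `p³` force `p` to be small. -/

set_option autoImplicit false
set_option linter.style.haveILetI false

namespace Cfsg.Agent.ExtraspecialAutomizer

open Matrix ExtraspecialPlanes PGL2SplitAxes
open scoped commutatorElement

variable {G : Type*} [Group G] [Finite G] {p : ℕ} [Fact p.Prime]

/-- A generator of the centre, seen in the ambient group. -/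
theorem exists_z (P : Subgroup G) (hE : Cfsg.IsExtraspecial p P) :
    ∃ z ∈ P, z ≠ 1 ∧ (∀ x ∈ P, Commute z x) ∧
      ∀ y : P, y ∈ Subgroup.center P → (y : G) ∈ Subgroup.zpowers z := by
  haveI : IsCyclic (Subgroup.center P) := isCyclic_of_prime_card hE.2
  obtain ⟨⟨z, hz⟩, hgen⟩ := IsCyclic.exists_generator (α := Subgroup.center P)
  have hmem : ∀ y : P, y ∈ Subgroup.center P → (y : G) ∈ Subgroup.zpowers (z : G) := fun y hy => by
    obtain ⟨k, hk⟩ := Subgroup.mem_zpowers_iff.mp (hgen ⟨y, hy⟩)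
    exact ⟨k, congrArg (fun w : Subgroup.center P => ((w : P) : G)) hk⟩
  refine ⟨z, z.2, fun h1 => ?_, fun x hx => ?_, hmem⟩
  · haveI : Nontrivial (Subgroup.center P) :=
      Finite.one_lt_card_iff_nontrivial.mp (hE.2.symm ▸ (Fact.out : p.Prime).one_lt)
    obtain ⟨y, hy⟩ := exists_ne (1 : Subgroup.center P)
    apply hy
    have := hmem y y.2
    rw [h1, Subgroup.zpowers_one_eq_bot, Subgroup.mem_bot] at this
    exact Subtype.ext (Subtype.ext this)
  · exact (congrArg Subtype.val (Subgroup.mem_center_iff.mp hz ⟨x, hx⟩)).symm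

/-- Coordinates on an elementary abelian group of order `p²`. -/
theorem coordsV {V : Type*} [AddCommGroup V] [Module (ZMod p) V] [Finite V] (h : Nat.card V = p ^ 2) :
    Nonempty (V ≃ₗ[ZMod p] (Fin 2 → ZMod p)) := by
  refine ⟨LinearEquiv.ofFinrankEq _ _ ?_⟩
  rw [Module.finrank_fin_fun]
  have h' := Module.natCard_eq_pow_finrank (K := ZMod p) (V := V)
  rw [h, Nat.card_zmod] at h'
  exact (Nat.pow_right_injective (Fact.out : p.Prime).two_le h').symm

/-- Coordinates, multiplicatively. -/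
theorem coordsM {H : Type*} [Group H] [Finite H] (hc : ∀ x y : H, x * y = y * x)
    (hp : ∀ x : H, x ^ p = 1) (h : Nat.card H = p ^ 2) :
    ∃ κ : H → (Fin 2 → ZMod p), Function.Bijective κ ∧ ∀ x y, κ (x * y) = κ x + κ y := by
  let cg : CommGroup H := CommGroup.mk hc
  let md : @Module (ZMod p) (Additive H) _ _ := AddCommGroup.zmodModule fun v => hp v.toMul
  obtain ⟨e⟩ := @coordsV p _ (Additive H) _ md _ ((Nat.card_congr Additive.toMul).trans h)
  exact ⟨fun x => e.toFun (Additive.ofMul x), e.toEquiv.bijective.comp Additive.ofMul.bijective,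
    fun x y => e.map_add' _ _⟩

/-- The bound. -/
theorem bound (P : Sylow p G) (hp : p ≠ 2) (hE : Cfsg.IsExtraspecial p (P : Subgroup G))
    (hcard : Nat.card P = p ^ 3) (hexp : ∀ x ∈ (P : Subgroup G), x ^ p = 1)
    {ι : Type*} [Fintype ι] (A : ι → Subgroup G) (hinjA : Function.Injective A)
    (hAP : ∀ i, A i ≤ (P : Subgroup G)) (hA : ∀ i, Nat.card (A i) = p ^ 2)
    (hlow : ∀ i z a, Plane p (P : Subgroup G) (A i) z a →
      ∃ g : G, ∃ c : ZMod p, c ≠ 0 ∧ Real z a g (loM c))
    (h3 : 3 ≤ Fintype.card ι) (hp11 : 11 ≤ p) :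
    Fintype.card ι ≤ 12 ∧ ∃ m : ℕ, 0 < m ∧ m ≤ 5 ∧ (p - 1) ∣ 3 * m := by
  classical
  have hpr : p.Prime := Fact.out
  set Q := (P : Subgroup G) with hQ
  obtain ⟨z, hzP, hz1, hzc, hzcen⟩ := exists_z Q hE
  choose a b hpl hb hbA using fun i =>
    exists_plane Q (A i) hE hcard hexp (hAP i) (hA i) hzP hz1 hzc
  -- coordinates on `P / Z(P)`
  have hcomm : ∀ x y : Q ⧸ Subgroup.center Q, x * y = y * x := by
    intro x y
    obtain ⟨x, rfl⟩ := QuotientGroup.mk'_surjective _ x
    obtain ⟨y, rfl⟩ := QuotientGroup.mk'_surjective _ y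
    rw [← commutatorElement_eq_one_iff_mul_comm, ← map_commutatorElement,
      QuotientGroup.mk'_apply, QuotientGroup.eq_one_iff, ← hE.1.2.2, commutator_def]
    exact Subgroup.commutator_mem_commutator (Subgroup.mem_top _) (Subgroup.mem_top _)
  have hpowQ : ∀ x : Q ⧸ Subgroup.center Q, x ^ p = 1 := by
    intro x
    obtain ⟨x, rfl⟩ := QuotientGroup.mk'_surjective _ x
    rw [← map_pow, show x ^ p = 1 from Subtype.ext (hexp x x.2), map_one]
  have hcardV : Nat.card (Q ⧸ Subgroup.center Q) = p ^ 2 := by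
    have h := Subgroup.card_eq_card_quotient_mul_card_subgroup (Subgroup.center Q)
    rw [hE.2, show Nat.card Q = p ^ 3 from hcard] at h
    exact Nat.eq_of_mul_eq_mul_right hpr.pos (h.symm.trans (by ring))
  obtain ⟨k, hk, hkmul⟩ := coordsM hcomm hpowQ hcardV
  let κ : Q → (Fin 2 → ZMod p) := fun x => k (QuotientGroup.mk' (Subgroup.center Q) x)
  have κmul : ∀ x y, κ (x * y) = κ x + κ y := fun x y => by
    simp only [κ, map_mul, hkmul]
  have k1 : k 1 = 0 := by simpa using hkmul 1 1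
  have κpow : ∀ (x : Q) (j : ℕ), κ (x ^ j) = (j : ZMod p) • κ x := fun x j => by
    induction j with
    | zero => simpa [κ] using k1
    | succ j ih => rw [pow_succ, κmul, ih, Nat.cast_succ, add_smul, one_smul]
  have κzero : ∀ x, κ x = 0 ↔ x ∈ Subgroup.center Q := fun x => by
    rw [← QuotientGroup.eq_one_iff, ← k1]
    exact hk.1.eq_iff
  have κsurj : Function.Surjective κ := hk.2.comp (QuotientGroup.mk'_surjective _)
  set N := Subgroup.normalizer (Q : Set G)
  have hQN : Q ≤ N := Subgroup.le_normalizer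
  have hconj : ∀ (n : N) (x : Q), (n : G) * x * (n : G)⁻¹ ∈ Q := fun n x =>
    (Subgroup.mem_normalizer_iff.mp n.2 x).mp x.2
  let cj : N → (Q →* Q) := fun n =>
    { toFun := fun x => ⟨_, hconj n x⟩
      map_one' := Subtype.ext (by simp)
      map_mul' := fun x y => Subtype.ext (by simp) }
  have hcjcen : ∀ n, Subgroup.center Q ≤ (Subgroup.center Q).comap (cj n) := by
    intro n x hx
    rw [Subgroup.mem_comap, Subgroup.mem_center_iff]
    intro y
    have hy := Subgroup.mem_center_iff.mp hx (cj n⁻¹ y)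
    apply Subtype.ext
    have hy' : (n : G)⁻¹ * y * (n : G)⁻¹⁻¹ * x = x * ((n : G)⁻¹ * y * (n : G)⁻¹⁻¹) :=
      congrArg Subtype.val hy
    show (y : G) * ((n : G) * x * (n : G)⁻¹) = (n : G) * x * (n : G)⁻¹ * y
    calc (y : G) * ((n : G) * x * (n : G)⁻¹)
        = (n : G) * ((n : G)⁻¹ * y * (n : G)⁻¹⁻¹ * x) * (n : G)⁻¹ := by group
      _ = _ := by rw [hy']; group
  let σ : (Fin 2 → ZMod p) → Q := Function.surjInv κsurj
  have hσ : ∀ v, κ (σ v) = v := Function.surjInv_eq κsurj
  have hcong : ∀ (n : N) (x y : Q), κ x = κ y → κ (cj n x) = κ (cj n y) := by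
    intro n x y hxy
    have h0 : x * y⁻¹ ∈ Subgroup.center Q := by
      rw [← κzero]
      have h := κmul (x * y⁻¹) y
      rw [inv_mul_cancel_right, hxy] at h
      exact right_eq_add.mp h
    have h1 := (κzero _).mpr (hcjcen n h0)
    have h2 := κmul (cj n (x * y⁻¹)) (cj n y)
    rwa [← map_mul, inv_mul_cancel_right, h1, zero_add] at h2
  let L : N → (Fin 2 → ZMod p) →ₗ[ZMod p] (Fin 2 → ZMod p) := fun n =>
    AddMonoidHom.toZModLinearMap p (AddMonoidHom.mk' (fun v => κ (cj n (σ v))) fun u v => by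
      rw [← κmul, ← map_mul]
      exact hcong n _ _ (by rw [κmul, hσ, hσ, hσ]))
  have hL : ∀ (n : N) (x : Q), L n (κ x) = κ (cj n x) := fun n x => hcong n _ _ (hσ _)
  let act : N →* Matrix (Fin 2) (Fin 2) (ZMod p) :=
    { toFun := fun n => LinearMap.toMatrixAlgEquiv' (L n)
      map_one' := by
        rw [← map_one (LinearMap.toMatrixAlgEquiv' (R := ZMod p) (n := Fin 2))]
        congr 1
        refine LinearMap.ext fun v => ?_
        obtain ⟨x, rfl⟩ := κsurj v
        rw [hL, Module.End.one_apply]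
        exact congrArg κ (Subtype.ext (by simp [cj]))
      map_mul' := fun n n' => by
        rw [← map_mul (LinearMap.toMatrixAlgEquiv' (R := ZMod p) (n := Fin 2))]
        congr 1
        refine LinearMap.ext fun v => ?_
        obtain ⟨x, rfl⟩ := κsurj v
        rw [hL, Module.End.mul_apply, hL, hL]
        exact congrArg κ (Subtype.ext (by simp [cj, mul_assoc])) }
  have hact : ∀ (n : N) (x : Q), act n *ᵥ κ x = κ (cj n x) := fun n x => by
    rw [← hL n x]
    exact LinearMap.congr_fun (Matrix.toLinAlgEquiv'_toMatrixAlgEquiv' (L n)) (κ x)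
  let gl : N →* GL (Fin 2) (ZMod p) := act.toHomUnits
  have hglm : ∀ n, ((gl n : GL (Fin 2) (ZMod p)) : Matrix (Fin 2) (Fin 2) (ZMod p)) = act n :=
    fun n => rfl
  -- the image has order prime to `p`
  have hker : Q.subgroupOf N ≤ gl.ker := by
    intro y hy
    rw [MonoidHom.mem_ker]
    refine Units.ext ?_
    rw [hglm, Units.val_one]
    refine Matrix.ext_of_mulVec_single fun i => ?_
    obtain ⟨x, hv⟩ := κsurj (Pi.single i 1)
    rw [← hv, hact, Matrix.one_mulVec]
    have e' : cj y x * x⁻¹ = ⁅(⟨(y : G), hy⟩ : Q), x⁆ := Subtype.ext (by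
      simp [cj, commutatorElement_def])
    have h0 : κ (cj y x * x⁻¹) = 0 := by
      rw [κzero, e', ← hE.1.2.2, commutator_def]
      exact Subgroup.commutator_mem_commutator (Subgroup.mem_top _) (Subgroup.mem_top _)
    have h2 := κmul (cj y x * x⁻¹) x
    rw [inv_mul_cancel_right, h0, zero_add] at h2
    exact h2
  have hΓ : ¬ p ∣ Nat.card gl.range := by
    intro hd
    rw [← Subgroup.index_ker] at hd
    have h1 : p ∣ (Q.subgroupOf N).index := hd.trans (Subgroup.index_dvd_of_le hker)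
    refine P.not_dvd_index (h1.trans ?_)
    rw [← Subgroup.relIndex_mul_index hQN]
    exact dvd_mul_right _ _
  -- torus elements
  obtain ⟨s, hs⟩ := IsCyclic.exists_generator (α := (ZMod p)ˣ)
  have hsord : orderOf s = p - 1 := by
    rw [orderOf_eq_card_of_forall_mem_zpowers hs, Nat.card_eq_fintype_card, ZMod.card_units]
  choose n hnN hnz hna α hα hnb using fun i =>
    (hpl i).torus ⟨P, rfl⟩ (hlow i z (a i) (hpl i)) (hb i) (hbA i) (s : ZMod p) s.ne_zero
  let aQ : ι → Q := fun i => ⟨a i, hAP i (hpl i).aA⟩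
  let bQ : ι → Q := fun i => ⟨b i, hb i⟩
  let g : ι → gl.range := fun i => ⟨gl ⟨n i, hnN i⟩, _, rfl⟩
  let v : ι → Fin 2 → ZMod p := fun i => κ (aQ i)
  have hv : ∀ i, mat gl.range (g i) *ᵥ v i = ((s : ZMod p)⁻¹) • v i := by
    intro i
    show act ⟨n i, hnN i⟩ *ᵥ κ (aQ i) = _
    rw [hact, show cj ⟨n i, hnN i⟩ (aQ i) = aQ i ^ ((s : ZMod p)⁻¹).val from
      Subtype.ext (hna i), κpow, ZMod.natCast_zmod_val]
  have hv0 : ∀ i, v i ≠ 0 := fun i h0 => (hpl i).indep (hzcen _ ((κzero _).mp h0))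
  have dep : ∀ (u w : Fin 2 → ZMod p), u ≠ 0 → ¬ Ind u w → ∃ t : ZMod p, w = t • u := by
    intro u w hu hI
    simp only [Ind, ne_eq, not_not, sub_eq_zero] at hI
    by_cases h0 : u 0 = 0
    · have h1 : u 1 ≠ 0 := fun h1 => hu (by ext i; fin_cases i <;> assumption)
      refine ⟨w 1 / u 1, ?_⟩
      ext i; fin_cases i
      · rw [h0, zero_mul] at hI
        simp [h0, (mul_eq_zero.mp hI.symm).resolve_left h1]
      · simp [h1]
    · refine ⟨w 0 / u 0, ?_⟩
      ext i; fin_cases i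
      · simp [h0]
      · simp only [Fin.mk_one, Pi.smul_apply, smul_eq_mul]
        field_simp
        linear_combination hI
  have hind : ∀ i j, i ≠ j → Ind (v i) (v j) := by
    intro i j hij
    by_contra hI
    obtain ⟨t, ht⟩ := dep _ _ (hv0 i) hI
    apply hij
    apply hinjA
    refine (Subgroup.eq_of_le_of_card_ge (fun y hy => ?_) (by rw [hA, hA])).symm
    have h1 : aQ j * (aQ i ^ t.val)⁻¹ ∈ Subgroup.center Q := by
      rw [← κzero]
      have h2 := κmul (aQ j * (aQ i ^ t.val)⁻¹) (aQ i ^ t.val)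
      rw [inv_mul_cancel_right, κpow, ZMod.natCast_zmod_val, ← ht] at h2
      exact right_eq_add.mp h2
    have h3 : a j ∈ A i := by
      have h4 := (A i).mul_mem ((Subgroup.zpowers_le.mpr (hpl i).zA) (hzcen _ h1))
        (pow_mem (hpl i).aA t.val)
      have e1 : ((aQ j * (aQ i ^ t.val)⁻¹ : Q) : G) * a i ^ t.val = a j := by
        show a j * (a i ^ t.val)⁻¹ * a i ^ t.val = a j
        rw [inv_mul_cancel_right]
      rwa [e1] at h4
    obtain ⟨x, rfl⟩ := (hpl j).span y hy
    exact mul_mem (pw_mem (hpl i).zA _) (pw_mem h3 _)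
  have hsc : ∀ i (m : ℕ), g i ^ m ∈ scGroup gl.range → (p - 1) ∣ 3 * m := by
    intro i m hm
    obtain ⟨c, hc⟩ := sc_iff.mp hm
    set M := act ⟨n i, hnN i⟩
    have hc' : M ^ m = c • (1 : Matrix (Fin 2) (Fin 2) (ZMod p)) := by
      rw [← hc]
      show _ = ((((g i ^ m : gl.range) : GL (Fin 2) (ZMod p))) : Matrix (Fin 2) (Fin 2) (ZMod p))
      rw [SubmonoidClass.coe_pow, Units.val_pow_eq_pow_val]
      rfl
    have hMv : M *ᵥ v i = ((s : ZMod p)⁻¹) • v i := hv i
    set w := κ (bQ i)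
    obtain ⟨x, hx⟩ : ∃ x : ZMod p, M *ᵥ w = ((s : ZMod p) * s) • w + x • v i := by
      obtain ⟨y, hy⟩ := (hpl i).span _ (hα i)
      refine ⟨y.2, ?_⟩
      rw [hact]
      have e1 : cj ⟨n i, hnN i⟩ (bQ i) = bQ i ^ ((s : ZMod p) * s).val *
          (⟨z, hzP⟩ ^ y.1.val * aQ i ^ y.2.val) := Subtype.ext ((hnb i).trans (by rw [hy]; rfl))
      have hz0 : κ ⟨z, hzP⟩ = 0 := (κzero _).mpr (Subgroup.mem_center_iff.mpr fun u =>
        Subtype.ext (hzc u u.2).eq.symm)
      rw [e1, κmul, κmul, κpow, κpow, κpow, hz0, smul_zero, zero_add, ZMod.natCast_zmod_val,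
        ZMod.natCast_zmod_val]
    have hpow : ∀ k : ℕ, M ^ k *ᵥ v i = ((s : ZMod p)⁻¹) ^ k • v i ∧
        ∃ y : ZMod p, M ^ k *ᵥ w = ((s : ZMod p) * s) ^ k • w + y • v i := by
      intro k
      induction k with
      | zero => exact ⟨by rw [pow_zero, pow_zero, one_smul, Matrix.one_mulVec], 0, by
          rw [pow_zero, pow_zero, one_smul, zero_smul, add_zero, Matrix.one_mulVec]⟩
      | succ k ih =>
        obtain ⟨ih1, y, ih2⟩ := ih
        refine ⟨?_, ?_⟩
        · rw [pow_succ', ← Matrix.mulVec_mulVec, ih1, Matrix.mulVec_smul, hMv, smul_smul, ← pow_succ]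
        · refine ⟨((s : ZMod p) * s) ^ k * x + y * (s : ZMod p)⁻¹, ?_⟩
          rw [pow_succ', ← Matrix.mulVec_mulVec, ih2, Matrix.mulVec_add, Matrix.mulVec_smul,
            Matrix.mulVec_smul, hx, hMv, smul_add, smul_smul, smul_smul, smul_smul, ← pow_succ,
            add_smul, add_assoc]
    obtain ⟨h1, y, h2⟩ := hpow m
    rw [hc', Matrix.smul_mulVec, Matrix.one_mulVec] at h1 h2
    have hcv : c = ((s : ZMod p)⁻¹) ^ m := by
      by_contra hne
      apply hv0 i
      have h0 : (c - ((s : ZMod p)⁻¹) ^ m) • v i = 0 := by rw [sub_smul, h1, sub_self]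
      exact (smul_eq_zero.mp h0).resolve_left (sub_ne_zero.mpr hne)
    have hcw : c = ((s : ZMod p) * s) ^ m := by
      by_contra hne
      have h0 : (c - ((s : ZMod p) * s) ^ m) • w = y • v i := by
        rw [sub_smul, h2, add_sub_cancel_left]
      have hw : w = ((c - ((s : ZMod p) * s) ^ m)⁻¹ * y) • v i := by
        rw [← smul_smul, ← h0, smul_smul, inv_mul_cancel₀ (sub_ne_zero.mpr hne), one_smul]
      set t := (c - ((s : ZMod p) * s) ^ m)⁻¹ * y
      have h3 : bQ i * (aQ i ^ t.val)⁻¹ ∈ Subgroup.center Q := by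
        rw [← κzero]
        have h4 := κmul (bQ i * (aQ i ^ t.val)⁻¹) (aQ i ^ t.val)
        rw [inv_mul_cancel_right, κpow, ZMod.natCast_zmod_val, show κ (aQ i) = v i from rfl,
          ← hw] at h4
        exact right_eq_add.mp h4
      apply hbA i
      have h5 := (A i).mul_mem ((Subgroup.zpowers_le.mpr (hpl i).zA) (hzcen _ h3))
        (pow_mem (hpl i).aA t.val)
      have e1 : ((bQ i * (aQ i ^ t.val)⁻¹ : Q) : G) * a i ^ t.val = b i := by
        show b i * (a i ^ t.val)⁻¹ * a i ^ t.val = b i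
        rw [inv_mul_cancel_right]
      rwa [e1] at h5
    have h6 : (s : ZMod p) ^ (3 * m) = 1 := by
      rw [hcv] at hcw
      have h7 : (s : ZMod p) ^ m * ((s : ZMod p)⁻¹) ^ m = 1 := by
        rw [← mul_pow, mul_inv_cancel₀ s.ne_zero, one_pow]
      rw [hcw, ← mul_pow, show (s : ZMod p) * ((s : ZMod p) * s) = (s : ZMod p) ^ 3 by ring,
        ← pow_mul] at h7
      exact h7
    rw [← hsord]
    exact orderOf_dvd_of_pow_eq_one (Units.ext (by simpa using h6))
  obtain ⟨h12, h5⟩ := PGL2SplitAxes.bound gl.range hp hΓ g v (fun i => ⟨_, hv i⟩) hind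
    (fun i m hm hm4 h => by
      have := Nat.le_of_dvd (by omega) (hsc i m h)
      omega) h3
  obtain ⟨i⟩ : Nonempty ι := Fintype.card_pos_iff.mp (by omega)
  obtain ⟨m, hm0, hm5, hm⟩ := h5 i
  exact ⟨h12, m, hm0, hm5, hsc i m hm⟩

end Cfsg.Agent.ExtraspecialAutomizer
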