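import Cfsg.Agent.Lib.PGroupsBasic

/-!
Odd `p`-groups with a fixed-point-free central element of order `p` and no bigger
elementary abelian part in the centre: some vector is fixed by no element of order `p`
outside the centre which has central commutators.
-/

namespace Cfsg.Agent.ExtraspecialAvoid89

open Subgroup PGroupsBasic
open scoped commutatorElement

universe u v

variable {p : ℕ} {P : Type u} [Group P] {V : Type v} [CommGroup V] [MulDistribMulAction P V]

/-- The product of the translates of a vector by the powers of `g` below `g ^ p`. -/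
def nrm (p : ℕ) (g : P) : V →* V :=
  MonoidHom.mk' (fun v => ∏ s ∈ Finset.range p, g ^ s • v) fun v w => by
    simp [smul_mul', Finset.prod_mul_distrib]

theorem nrm_apply (g : P) (v : V) : nrm p g v = ∏ s ∈ Finset.range p, g ^ s • v := rfl

theorem smul_prod' (g : P) (s : Finset ℕ) (f : ℕ → V) : g • ∏ i ∈ s, f i = ∏ i ∈ s, g • f i :=
  map_prod (MulDistribMulAction.toMonoidHom V g) f s

theorem smul_nrm {g : P} (hg : g ^ p = 1) (v : V) : g • nrm p g v = nrm p g v := by
  rw [nrm_apply, smul_prod']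
  have h1 := Finset.prod_range_succ (fun s => g ^ s • v) p
  have h2 := Finset.prod_range_succ' (fun s => g ^ s • v) p
  rw [h1, hg, pow_zero] at h2
  rw [mul_right_cancel h2]
  exact Finset.prod_congr rfl fun s _ => by rw [← mul_smul, ← pow_succ']

theorem smul_nrm_of_commute {g h : P} (hc : Commute h g) {v : V} (hv : h • v = v) :
    h • nrm p g v = nrm p g v := by
  rw [nrm_apply, smul_prod']
  exact Finset.prod_congr rfl fun s _ => by rw [← mul_smul, (hc.pow_right s).eq, mul_smul, hv]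

theorem nrm_of_fixed {g : P} {v : V} (hv : g • v = v) : nrm p g v = v ^ p := by
  have h : ∀ s : ℕ, g ^ s • v = v := fun s =>
    MulAction.mem_stabilizer_iff.mp (pow_mem (MulAction.mem_stabilizer_iff.mpr hv) s)
  rw [nrm_apply, Finset.prod_congr rfl fun s _ => h s, Finset.prod_const, Finset.card_range]

theorem prod_nrm {x y : P} (h : Commute y x) (v : V) :
    ∏ t ∈ Finset.range p, nrm p (y ^ t * x) v =
      ∏ s ∈ Finset.range p, x ^ s • nrm p (y ^ s) v := by
  simp only [nrm_apply, smul_prod']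
  rw [Finset.prod_comm]
  refine Finset.prod_congr rfl fun s _ => Finset.prod_congr rfl fun t _ => ?_
  rw [← mul_smul, (h.pow_left t).mul_pow, ← pow_mul, ← pow_mul, mul_comm s t,
    (h.pow_pow (t * s) s).eq]

/-- The subgroup of vectors fixed by `g`. -/
def fixSub (g : P) : Subgroup V where
  carrier := {v | g • v = v}
  mul_mem' {a b} ha hb := by
    simp only [Set.mem_setOf_eq] at *
    rw [smul_mul', ha, hb]
  one_mem' := smul_one g
  inv_mem' {a} ha := by
    simp only [Set.mem_setOf_eq] at *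
    rw [smul_inv', ha]

theorem mem_fixSub {g : P} {v : V} : v ∈ fixSub g ↔ g • v = v := Iff.rfl

theorem mem_of_pow_mem [Finite V] (hV : (Nat.card V).Coprime p) {K : Subgroup V} {v : V}
    (h : v ^ p ∈ K) : v ∈ K := by
  obtain ⟨m, hm⟩ := exists_pow_eq_self_of_coprime
    ((hV.symm).coprime_dvd_right (orderOf_dvd_natCard v))
  rw [← hm]
  exact pow_mem h m

theorem eq_one_of_pow [Finite V] (hV : (Nat.card V).Coprime p) {v : V} (h : v ^ p = 1) : v = 1 := by
  have := mem_of_pow_mem hV (K := (⊥ : Subgroup V)) (v := v) (by simpa using h)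
  simpa using this

variable [Fact p.Prime]

section Main

variable {z : P}

theorem mem_zpowers_of_ne_one (hzp : z ^ p = 1) (hz1 : z ≠ 1) {s : P} (hs : s ∈ zpowers z)
    (hs1 : s ≠ 1) : z ∈ zpowers s := by
  have hc : Nat.card (zpowers z) = p := by
    rw [Nat.card_zpowers]; exact orderOf_eq_of_pow_eq_one hzp hz1
  rcases le_or_inf_eq_bot hc (zpowers s) with h | h
  · exact h (mem_zpowers z)
  · exact absurd (eq_bot_iff.mp h ⟨hs, mem_zpowers s⟩) (by simpa using hs1)

theorem eq_one_of_fixed (hzp : z ^ p = 1) (hz1 : z ≠ 1) (hfix : ∀ v : V, z • v = v → v = 1)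
    {s : P} (hs : s ∈ zpowers z) (hs1 : s ≠ 1) {v : V} (hv : s • v = v) : v = 1 :=
  hfix v (MulAction.mem_stabilizer_iff.mp
    ((zpowers_le_iff_mem.mpr (MulAction.mem_stabilizer_iff.mpr hv))
      (mem_zpowers_of_ne_one hzp hz1 hs hs1)))

theorem comm_facts (hz : z ∈ center P) {a y : P} (hc : ⁅a, y⁆ ∈ zpowers z) (t : ℕ) :
    y ^ t * a = ⁅a, y⁆⁻¹ ^ t * a * y ^ t := by
  have hS : zpowers z ≤ center P := zpowers_le_iff_mem.mpr hz
  have h : ⁅y, a⁆ ∈ center P := by rw [← commutatorElement_inv]; exact inv_mem (hS hc)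
  rw [comm_mul_eq (y ^ t) a, commutatorElement_pow_left h, ← commutatorElement_inv, mul_assoc]

/-- If `a` and `y` have commutator generating `zpowers z`, a `z`-fixed-point-free space is the
product of `p` translates of the fixed points of `a`. -/
theorem card_eq_pow [Finite V] (hV : (Nat.card V).Coprime p)
    (hz : z ∈ center P) (hzp : z ^ p = 1) (hz1 : z ≠ 1) (hfix : ∀ v : V, z • v = v → v = 1)
    {a y : P} (hap : a ^ p = 1) (hc : ⁅a, y⁆ ∈ zpowers z) (hc1 : ⁅a, y⁆ ≠ 1)
    {W : Subgroup V} {X : Subgroup P} (haX : a ∈ X) (hyX : y ∈ X)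
    (hW : ∀ x ∈ X, ∀ w ∈ W, x • w ∈ W) :
    Nat.card W = Nat.card (W ⊓ fixSub a : Subgroup V) ^ p := by
  classical
  have hS : zpowers z ≤ center P := zpowers_le_iff_mem.mpr hz
  set c : P := ⁅a, y⁆⁻¹ with hcdef
  have hcS : c ∈ zpowers z := inv_mem hc
  have hc' : c ≠ 1 := inv_ne_one.mpr hc1
  have hcp : c ^ p = 1 := by
    obtain ⟨k, hk⟩ := mem_zpowers_iff.mp hcS
    rw [← hk, ← zpow_natCast, zpow_comm, zpow_natCast, hzp, one_zpow]
  have hcomm : ∀ g : P, Commute c g := fun g => (mem_center_comm (hS hcS) g).symm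
  have hcX : c ∈ X := by
    rw [hcdef, commutatorElement_def]
    exact inv_mem (X.mul_mem (X.mul_mem (X.mul_mem haX hyX) (inv_mem haX)) (inv_mem hyX))
  have hbp : ∀ t : ℕ, (c ^ t * a) ^ p = 1 := fun t => by
    rw [((hcomm a).pow_left t).mul_pow, hap, mul_one, ← pow_mul, mul_comm, pow_mul, hcp, one_pow]
  have hconj : ∀ t : ℕ, y ^ t * a = c ^ t * a * y ^ t := comm_facts hz hc
  have hmove : ∀ (t : ℕ) (v : V), (c ^ t * a) • (y ^ t • v) = y ^ t • (a • v) := fun t v => by
    rw [← mul_smul, ← mul_smul, hconj]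
  have hmemW : ∀ (t : ℕ), ∀ w ∈ W, nrm p (c ^ t * a) w ∈ W := fun t w hw => by
    rw [nrm_apply]
    exact prod_mem fun s _ => hW _ (pow_mem (X.mul_mem (pow_mem hcX t) haX) s) w hw
  let F : (Fin p → (W ⊓ fixSub a : Subgroup V)) → W := fun f =>
    ⟨∏ t : Fin p, y ^ (t : ℕ) • ((f t : V)), prod_mem fun t _ =>
      hW _ (pow_mem hyX _) _ (f t).2.1⟩
  have hne : ∀ t u : Fin p, t ≠ u → c ^ (t : ℕ) * (c ^ (u : ℕ))⁻¹ ≠ 1 := by
    intro t u htu h
    rw [mul_inv_eq_one] at h
    have ho := orderOf_eq_of_pow_eq_one hcp hc'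
    have := pow_injOn_Iio_orderOf (x := c) (by simp [ho, t.2]) (by simp [ho, u.2]) h
    exact htu (Fin.ext this)
  have hinj : Function.Injective F := by
    intro f f' h
    funext t
    have h1 : ∀ g : Fin p → (W ⊓ fixSub a : Subgroup V),
        nrm p (c ^ (t : ℕ) * a) (∏ u : Fin p, y ^ (u : ℕ) • ((g u : V))) =
          (y ^ (t : ℕ) • (g t : V)) ^ p := by
      intro g
      rw [map_prod, Finset.prod_eq_single t]
      · exact nrm_of_fixed (by rw [hmove]; congr 1; exact (g t).2.2)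
      · intro u _ hu
        set b := c ^ (t : ℕ) * a
        set b' := c ^ (u : ℕ) * a
        have hb' : b' • (y ^ (u : ℕ) • (g u : V)) = y ^ (u : ℕ) • (g u : V) := by
          rw [hmove]; congr 1; exact (g u).2.2
        have e1 := smul_nrm (hbp t) (y ^ (u : ℕ) • (g u : V))
        have e2 : b' • nrm p b (y ^ (u : ℕ) • (g u : V)) = nrm p b (y ^ (u : ℕ) • (g u : V)) :=
          smul_nrm_of_commute (((hcomm _).pow_left _).mul_left
            (((hcomm a).symm.pow_right _).mul_right (Commute.refl a))) hb'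
        have hmem : b * b'⁻¹ ∈ MulAction.stabilizer P (nrm p b (y ^ (u : ℕ) • (g u : V))) :=
          mul_mem (MulAction.mem_stabilizer_iff.mpr e1)
            (inv_mem (MulAction.mem_stabilizer_iff.mpr e2))
        have hbb : b * b'⁻¹ = c ^ (t : ℕ) * (c ^ (u : ℕ))⁻¹ := by simp [b, b', mul_assoc]
        rw [hbb] at hmem
        exact eq_one_of_fixed hzp hz1 hfix
          (mul_mem (pow_mem hcS _) (inv_mem (pow_mem hcS _))) (hne t u hu.symm)
          (MulAction.mem_stabilizer_iff.mp hmem)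
      · simp
    have h2 := h1 f
    have h3 := h1 f'
    have hval : (∏ u : Fin p, y ^ (u : ℕ) • (f u : V)) = ∏ u : Fin p, y ^ (u : ℕ) • (f' u : V) :=
      congrArg Subtype.val h
    rw [hval, h3] at h2
    have h4 : y ^ (t : ℕ) • (f t : V) / (y ^ (t : ℕ) • (f' t : V)) = 1 :=
      eq_one_of_pow hV (by rw [div_pow, h2, div_self'])
    exact Subtype.ext ((smul_left_cancel_iff _).mp (div_eq_one.mp h4))
  have hsurj : Function.Surjective F := by
    rintro ⟨w, hw⟩
    obtain ⟨m, hm⟩ := exists_pow_eq_self_of_coprime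
      ((hV.symm).coprime_dvd_right (orderOf_dvd_natCard w))
    have hprod : ∏ t ∈ Finset.range p, nrm p (c ^ t * a) w = w ^ p := by
      rw [prod_nrm (hcomm a), Finset.prod_eq_single 0]
      · rw [pow_zero, one_smul, pow_zero, nrm_of_fixed (one_smul P w)]
      · intro s hs hs0
        have hcs : c ^ s ≠ 1 := fun h => by
          have := orderOf_dvd_of_pow_eq_one h
          rw [orderOf_eq_of_pow_eq_one hcp hc'] at this
          exact absurd (Nat.le_of_dvd (Nat.pos_of_ne_zero hs0) this)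
            (not_le.mpr (Finset.mem_range.mp hs))
        have hsp : (c ^ s) ^ p = 1 := by rw [← pow_mul, mul_comm, pow_mul, hcp, one_pow]
        rw [eq_one_of_fixed hzp hz1 hfix (pow_mem hcS s) hcs (smul_nrm hsp w), smul_one]
      · intro h; exact absurd (Finset.mem_range.mpr (Fact.out : p.Prime).pos) h
    refine ⟨fun t => ⟨((y ^ (t : ℕ))⁻¹ • nrm p (c ^ (t : ℕ) * a) w) ^ m,
      pow_mem (Subgroup.mem_inf.mpr ⟨hW _ (inv_mem (pow_mem hyX _)) _ (hmemW _ w hw), ?_⟩) m⟩,
      Subtype.ext ?_⟩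
    · show a • _ = _
      apply smul_left_cancel (y ^ (t : ℕ))
      rw [← hmove, smul_inv_smul]
      exact smul_nrm (hbp _) w
    · show ∏ t : Fin p, y ^ (t : ℕ) • ((((y ^ (t : ℕ))⁻¹ • nrm p (c ^ (t : ℕ) * a) w) ^ m : V)) = w
      simp only [smul_pow', smul_inv_smul]
      rw [Finset.prod_pow, Fin.prod_univ_eq_prod_range (fun t => nrm p (c ^ t * a) w) p, hprod, hm]
  rw [← Nat.card_congr (Equiv.ofBijective F ⟨hinj, hsurj⟩), Nat.card_fun, Nat.card_fin]

/-- Groups of exponent `p` with commutators in a fixed-point-free centre of order `p`. -/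
theorem extraspecial_structure [Finite P] [Finite V] (hV : (Nat.card V).Coprime p)
    (hz : z ∈ center P) (hzp : z ^ p = 1) (hz1 : z ≠ 1) (hfix : ∀ v : V, z • v = v → v = 1) :
    ∀ (N : ℕ) (X : Subgroup P), Nat.card X = N → z ∈ X → (∀ x ∈ X, x ^ p = 1) →
      (∀ x ∈ X, ∀ y ∈ X, ⁅x, y⁆ ∈ zpowers z) →
      (∀ x ∈ X, (∀ y ∈ X, Commute x y) → x ∈ zpowers z) →
      ∃ n, Nat.card X = p ^ (2 * n + 1) ∧
        (∀ g : P, (∀ x ∈ X, ⁅g, x⁆ ∈ zpowers z) → ∃ e ∈ X, ∀ x ∈ X, Commute (e⁻¹ * g) x) ∧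
        (∀ W : Subgroup V, W ≠ ⊥ → (∀ x ∈ X, ∀ w ∈ W, x • w ∈ W) →
          (p + 1) ^ p ^ n ≤ Nat.card W) := by
  classical
  intro N
  induction N using Nat.strong_induction_on with
  | _ N ih =>
  intro X hN hzX hexp hcomX hcen
  have hS : zpowers z ≤ center P := zpowers_le_iff_mem.mpr hz
  by_cases hall : X ≤ zpowers z
  · have hX : X = zpowers z := le_antisymm hall (zpowers_le_iff_mem.mpr hzX)
    refine ⟨0, ?_, fun g _ => ⟨1, X.one_mem, fun x hx => mem_center_comm (hS (hall hx)) _⟩, ?_⟩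
    · rw [hX, Nat.card_zpowers, orderOf_eq_of_pow_eq_one hzp hz1]; simp
    intro W hW hinv
    let act : MulAction X W :=
      { smul := fun x w => ⟨(x : P) • (w : V), hinv x x.2 w w.2⟩
        one_smul := fun w => Subtype.ext (one_smul P (w : V))
        mul_smul := fun x x' w => Subtype.ext (mul_smul (x : P) (x' : P) (w : V)) }
    have hXp : IsPGroup p X := fun x => ⟨1, Subtype.ext (by simpa using hexp x x.2)⟩
    have hmod := @IsPGroup.card_modEq_card_fixedPoints p X _ hXp _ W act _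
    have hone : Nat.card (@MulAction.fixedPoints X W _ act) = 1 := by
      rw [Nat.card_eq_one_iff_unique]
      refine ⟨⟨fun u w => ?_⟩, ⟨⟨1, fun x => Subtype.ext (smul_one (x : P))⟩⟩⟩
      have key : ∀ w : @MulAction.fixedPoints X W _ act, ((w : W) : V) = 1 := fun w =>
        hfix _ (congrArg Subtype.val (w.2 ⟨z, hzX⟩))
      exact Subtype.ext (Subtype.ext ((key u).trans (key w).symm))
    rw [hone] at hmod
    simp only [pow_zero, pow_one]
    have h1 : 1 < Nat.card W := (one_lt_card_iff_ne_bot W).mpr hW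
    have hd := (Nat.modEq_iff_dvd' h1.le).mp hmod.symm
    have := Nat.le_of_dvd (by omega) hd
    omega
  obtain ⟨a, haX, ha⟩ : ∃ a ∈ X, a ∉ zpowers z := SetLike.not_le_iff_exists.mp hall
  obtain ⟨y, hyX, hy⟩ : ∃ y ∈ X, ¬ Commute a y := by
    by_contra h
    exact ha (hcen a haX fun y hy => by_contra fun hn => h ⟨y, hy, hn⟩)
  set c := ⁅a, y⁆ with hcdef
  have hcS : c ∈ zpowers z := hcomX a haX y hyX
  have hc1 : c ≠ 1 := fun h => hy (commutatorElement_eq_one_iff_mul_comm.mp h)
  have hC : ∀ {g : P}, g ∈ zpowers z → g ∈ center P := fun h => hS h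
  have hya : ⁅y, a⁆ = c⁻¹ := (commutatorElement_inv a y).symm
  -- commutators with `a ^ i * y ^ j * x`
  let X' : Subgroup P := X ⊓ centralizer {a, y}
  have hX'c : ∀ x ∈ X', Commute x a ∧ Commute x y := fun x hx =>
    ⟨(mem_centralizer_iff.mp hx.2 a (by simp)).symm, (mem_centralizer_iff.mp hx.2 y (by simp)).symm⟩
  have hcomy : ∀ (i j : ℕ) (x : P), Commute x y → ⁅a ^ i * (y ^ j * x), y⁆ = c ^ i := by
    intro i j x hx
    have h0 : ⁅y ^ j * x, y⁆ = 1 :=
      commutatorElement_eq_one_iff_mul_comm.mpr (((Commute.refl y).pow_left j).mul_left hx)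
    rw [commutatorElement_mul_left_of_central (by rw [h0]; exact one_mem _), h0, mul_one,
      commutatorElement_pow_left (hC hcS)]
  have hcoma : ∀ (i j : ℕ) (x : P), Commute x a → ⁅a ^ i * (y ^ j * x), a⁆ = c⁻¹ ^ j := by
    intro i j x hx
    have h0 : ⁅x, a⁆ = 1 := commutatorElement_eq_one_iff_mul_comm.mpr hx
    have h1 : ⁅y ^ j * x, a⁆ = c⁻¹ ^ j := by
      rw [commutatorElement_mul_left_of_central (by rw [h0]; exact one_mem _), h0, mul_one,
        commutatorElement_pow_left (by rw [hya]; exact inv_mem (hC hcS)), hya]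
    rw [commutatorElement_mul_left_of_central (by rw [h1]; exact pow_mem (inv_mem (hC hcS)) j), h1,
      commutatorElement_eq_one_iff_mul_comm.mpr ((Commute.refl a).pow_left i), one_mul]
  have hzS : ∀ s ∈ zpowers z, s ^ p = 1 := fun s hs => by
    obtain ⟨k, rfl⟩ := mem_zpowers_iff.mp hs
    rw [← zpow_natCast, zpow_comm, zpow_natCast, hzp, one_zpow]
  have hdecomp : ∀ g : P, ⁅g, a⁆ ∈ zpowers z → ⁅g, y⁆ ∈ zpowers z →
      ∃ i j : Fin p, Commute ((a ^ (i : ℕ) * y ^ (j : ℕ))⁻¹ * g) a ∧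
        Commute ((a ^ (i : ℕ) * y ^ (j : ℕ))⁻¹ * g) y := by
    intro g hga hgy
    have hgen : ∀ d : P, d ∈ zpowers z → d ≠ 1 → ∀ s ∈ zpowers z, ∃ i : Fin p, d ^ (i : ℕ) = s := by
      intro d hd hd1 s hs
      have hs' : s ∈ zpowers d :=
        zpowers_le_iff_mem.mpr (mem_zpowers_of_ne_one hzp hz1 hd hd1) hs
      rw [(isOfFinOrder_of_finite d).mem_zpowers_iff_mem_range_orderOf,
        orderOf_eq_of_pow_eq_one (hzS d hd) hd1] at hs'
      obtain ⟨k, hk, hks⟩ := Finset.mem_image.mp hs'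
      exact ⟨⟨k, Finset.mem_range.mp hk⟩, hks⟩
    obtain ⟨i, hi⟩ := hgen c hcS hc1 _ hgy
    obtain ⟨j, hj⟩ := hgen c⁻¹ (inv_mem hcS) (inv_ne_one.mpr hc1) _ hga
    have e1 : ⁅a ^ (i : ℕ) * y ^ (j : ℕ), y⁆ = ⁅g, y⁆ := by
      rw [← hi, ← hcomy i j 1 (Commute.one_left y), mul_one]
    have e2 : ⁅a ^ (i : ℕ) * y ^ (j : ℕ), a⁆ = ⁅g, a⁆ := by
      rw [← hj, ← hcoma i j 1 (Commute.one_left a), mul_one]
    refine ⟨i, j, ?_, ?_⟩ <;> refine commutatorElement_eq_one_iff_mul_comm.mp ?_
    · rw [commutatorElement_mul_left_of_central (hC hga),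
        commutatorElement_inv_left_of_central (by rw [e2]; exact hC hga), e2, inv_mul_cancel]
    · rw [commutatorElement_mul_left_of_central (hC hgy),
        commutatorElement_inv_left_of_central (by rw [e1]; exact hC hgy), e1, inv_mul_cancel]
  -- the decomposition of `X`
  let Φ : Fin p × Fin p × X' → X := fun t =>
    ⟨a ^ (t.1 : ℕ) * (y ^ (t.2.1 : ℕ) * (t.2.2 : P)),
      X.mul_mem (pow_mem haX _) (X.mul_mem (pow_mem hyX _) t.2.2.2.1)⟩
  have hΦ : Function.Bijective Φ := by
    constructor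
    · rintro ⟨i, j, x⟩ ⟨i', j', x'⟩ h
      have h' : a ^ (i : ℕ) * (y ^ (j : ℕ) * (x : P)) = a ^ (i' : ℕ) * (y ^ (j' : ℕ) * (x' : P)) :=
        congrArg Subtype.val h
      have hinj : ∀ {d : P}, d ∈ zpowers z → d ≠ 1 → ∀ {k k' : Fin p},
          d ^ (k : ℕ) = d ^ (k' : ℕ) → k = k' := fun hd hd1 k k' hk => by
        have ho := orderOf_eq_of_pow_eq_one (hzS _ hd) hd1
        exact Fin.ext (pow_injOn_Iio_orderOf (by simp [ho, k.2]) (by simp [ho, k'.2]) hk)
      have hi : i = i' := hinj hcS hc1 (by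
        rw [← hcomy i j x (hX'c x x.2).2, h', hcomy i' j' x' (hX'c x' x'.2).2])
      have hj : j = j' := hinj (inv_mem hcS) (inv_ne_one.mpr hc1) (by
        rw [← hcoma i j x (hX'c x x.2).1, h', hcoma i' j' x' (hX'c x' x'.2).1])
      subst hi; subst hj
      rw [Subtype.ext (mul_left_cancel (mul_left_cancel h'))]
    · rintro ⟨g, hg⟩
      obtain ⟨i, j, h1, h2⟩ := hdecomp g (hcomX g hg a haX) (hcomX g hg y hyX)
      refine ⟨(i, j, ⟨(a ^ (i : ℕ) * y ^ (j : ℕ))⁻¹ * g,
        X.mul_mem (inv_mem (X.mul_mem (pow_mem haX _) (pow_mem hyX _))) hg,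
        mem_centralizer_iff.mpr ?_⟩), Subtype.ext ?_⟩
      · rintro b (rfl | rfl)
        exacts [h1.eq.symm, h2.eq.symm]
      · simp [Φ, mul_assoc]
  have hcard : Nat.card X = p * (p * Nat.card X') := by
    rw [← Nat.card_congr (Equiv.ofBijective Φ hΦ)]
    simp [Nat.card_prod]
  have hzX' : z ∈ X' := ⟨hzX, mem_centralizer_iff.mpr fun b _ => mem_center_comm hz b⟩
  have hp2 := (Fact.out : p.Prime).two_le
  have hlt : Nat.card X' < N := by
    rw [← hN, hcard]
    have : 0 < Nat.card X' := Nat.card_pos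
    calc Nat.card X' < p * Nat.card X' := lt_mul_left this (by omega)
      _ ≤ p * (p * Nat.card X') := Nat.le_mul_of_pos_left _ (by omega)
  obtain ⟨n, hn, he, hw⟩ := ih _ hlt X' rfl hzX' (fun x hx => hexp x hx.1)
    (fun x hx x' hx' => hcomX x hx.1 x' hx'.1) (fun x hx hxc => hcen x hx.1 fun b hb => by
      obtain ⟨⟨i, j, x'⟩, hb'⟩ := hΦ.2 ⟨b, hb⟩
      have hb'' : a ^ (i : ℕ) * (y ^ (j : ℕ) * (x' : P)) = b := congrArg Subtype.val hb'
      rw [← hb'']
      exact ((hX'c x hx).1.pow_right _).mul_right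
        (((hX'c x hx).2.pow_right _).mul_right (hxc _ x'.2)))
  refine ⟨n + 1, ?_, ?_, ?_⟩
  · rw [hcard, hn]; ring
  · intro g hg
    obtain ⟨i, j, h1, h2⟩ := hdecomp g (hg a haX) (hg y hyX)
    set u := a ^ (i : ℕ) * y ^ (j : ℕ)
    have huX : u ∈ X := X.mul_mem (pow_mem haX _) (pow_mem hyX _)
    obtain ⟨e, heX', hec⟩ := he (u⁻¹ * g) fun x hx => by
      rw [commutatorElement_mul_left_of_central (hC (hg x hx.1)),
        commutatorElement_inv_left_of_central (hC (hcomX u huX x hx.1))]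
      exact mul_mem (inv_mem (hcomX u huX x hx.1)) (hg x hx.1)
    refine ⟨u * e, X.mul_mem huX heX'.1, fun x hx => ?_⟩
    obtain ⟨⟨k, l, x'⟩, hb'⟩ := hΦ.2 ⟨x, hx⟩
    have hb'' : a ^ (k : ℕ) * (y ^ (l : ℕ) * (x' : P)) = x := congrArg Subtype.val hb'
    rw [← hb'', mul_inv_rev, mul_assoc]
    exact (((hX'c e heX').1.inv_left.mul_left h1).pow_right _).mul_right
      ((((hX'c e heX').2.inv_left.mul_left h2).pow_right _).mul_right (hec _ x'.2))
  · intro W hW hinv
    have hWc := card_eq_pow hV hz hzp hz1 hfix (hexp a haX) hcS hc1 haX hyX hinv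
    have hW1 : W ⊓ fixSub a ≠ ⊥ := fun h => by
      rw [h, card_bot, one_pow] at hWc
      exact hW (card_eq_one.mp hWc)
    have := hw _ hW1 fun x hx w hw' => ⟨hinv x hx.1 w hw'.1, by
      show a • x • w = x • w
      rw [← mul_smul, (hX'c x hx).1.eq.symm, mul_smul, mem_fixSub.mp hw'.2]⟩
    calc (p + 1) ^ p ^ (n + 1) = ((p + 1) ^ p ^ n) ^ p := by rw [← pow_mul, ← pow_succ]
      _ ≤ Nat.card (W ⊓ fixSub a : Subgroup V) ^ p := Nat.pow_le_pow_left this p
      _ = Nat.card W := hWc.symm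

end Main

/-- The elements of order dividing `p` all of whose commutators are central. -/
def centralCommSub (hp : p ≠ 2) : Subgroup P where
  carrier := {g | g ^ p = 1 ∧ ∀ x, ⁅g, x⁆ ∈ center P}
  one_mem' := ⟨one_pow p, fun x => by rw [commutatorElement_one_left]; exact one_mem _⟩
  mul_mem' {g k} hg hk := by
    refine ⟨?_, fun x => ?_⟩
    · rw [mul_pow_of_central (hk.2 g), hg.1, hk.1, one_mul, one_mul]
      obtain ⟨d, hd⟩ := (Fact.out : p.Prime).dvd_choose_self two_ne_zero
        (lt_of_le_of_ne (Fact.out : p.Prime).two_le (Ne.symm hp))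
      rw [hd, pow_mul, ← commutatorElement_pow_left (hk.2 g), hk.1, commutatorElement_one_left,
        one_pow]
    · rw [commutatorElement_mul_left_of_central (hk.2 x)]
      exact mul_mem (hg.2 x) (hk.2 x)
  inv_mem' {g} hg := ⟨by rw [inv_pow, hg.1, inv_one], fun x => by
    rw [commutatorElement_inv_left_of_central (hg.2 x)]; exact inv_mem (hg.2 x)⟩

theorem mem_centralCommSub {hp : p ≠ 2} {g : P} :
    g ∈ centralCommSub hp ↔ g ^ p = 1 ∧ ∀ x, ⁅g, x⁆ ∈ center P := Iff.rfl

theorem centralCommSub_normal (hp : p ≠ 2) : (centralCommSub (P := P) hp).Normal := by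
  refine ⟨fun e he g => ⟨by rw [conj_pow, he.1]; simp, fun x => ?_⟩⟩
  have h1 : ⁅g * e * g⁻¹, x⁆ = g * ⁅e, g⁻¹ * x * g⁆ * g⁻¹ := by
    simp only [commutatorElement_def]; group
  rw [h1]
  exact (inferInstance : (center P).Normal).conj_mem _ (he.2 _) g

variable {z : P}

theorem commutator_mem_zpowers (hp : p ≠ 2) (hZ : ∀ x ∈ center P, x ^ p = 1 → x ∈ zpowers z)
    {g : P} (hg : g ∈ centralCommSub hp) (x : P) : ⁅g, x⁆ ∈ zpowers z :=
  hZ _ (hg.2 x) (by rw [← commutatorElement_pow_left (hg.2 x), hg.1, commutatorElement_one_left])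

/-- Elements of order `p` have central commutators. -/
theorem mem_centralCommSub_of_pow_eq_one [Finite P] [Finite V] (hp : p ≠ 2) (hP : IsPGroup p P)
    (hV : (Nat.card V).Coprime p) (hz : z ∈ center P) (hzp : z ^ p = 1) (hz1 : z ≠ 1)
    (hfix : ∀ v : V, z • v = v → v = 1)
    (hZ : ∀ x ∈ center P, x ^ p = 1 → x ∈ zpowers z)
    (hE : ∀ x ∈ centralCommSub (P := P) hp, (∀ y ∈ centralCommSub (P := P) hp, Commute x y) →
      x ∈ zpowers z)
    {a : P} (hap : a ^ p = 1) : a ∈ centralCommSub hp := by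
  classical
  let E : Subgroup P := centralCommSub hp
  have hEn : E.Normal := centralCommSub_normal hp
  have hS : zpowers z ≤ center P := zpowers_le_iff_mem.mpr hz
  have hzE : z ∈ E := ⟨hzp, fun x => by
    rw [commutatorElement_eq_one_iff_mul_comm.mpr (mem_center_comm hz x).symm]; exact one_mem _⟩
  -- elements of order `p` centralising `E` lie in `zpowers z`
  have key : ∀ x : P, x ^ p = 1 → (∀ e ∈ E, Commute x e) → x ∈ zpowers z := by
    by_contra hcon
    push Not at hcon
    let Nx : P → Subgroup P := fun x =>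
      { carrier := {g | ⁅x, g⁆ ∈ zpowers z}
        one_mem' := by show ⁅x, (1 : P)⁆ ∈ zpowers z; rw [commutatorElement_one_right]; exact one_mem _
        mul_mem' := fun {g k} hg hk => by
          show ⁅x, g * k⁆ ∈ zpowers z
          rw [commutatorElement_mul_right_of_central (hS hk)]; exact mul_mem hg hk
        inv_mem' := fun {g} hg => by
          show ⁅x, g⁻¹⁆ ∈ zpowers z
          have h := commutatorElement_mul_right_of_central (a := x) (b := g⁻¹) (c := g) (hS hg)
          rw [inv_mul_cancel, commutatorElement_one_right] at h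
          rw [eq_inv_of_mul_eq_one_left h.symm]; exact inv_mem hg }
    haveI : Fintype P := Fintype.ofFinite P
    let Bad : Finset P := Finset.univ.filter fun x =>
      x ^ p = 1 ∧ (∀ e ∈ E, Commute x e) ∧ x ∉ zpowers z
    obtain ⟨x, hx, hmax⟩ := Bad.exists_max_image (fun x => Nat.card (Nx x))
      ⟨hcon.choose, Finset.mem_filter.mpr ⟨Finset.mem_univ _, hcon.choose_spec⟩⟩
    obtain ⟨-, hxp, hxE, hxS⟩ := Finset.mem_filter.mp hx
    by_cases htop : Nx x = ⊤
    · exact hxS (hE x ⟨hxp, fun g => hS (show g ∈ Nx x from htop ▸ Subgroup.mem_top g)⟩ hxE)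
    have hlt := lt_normalizer hP htop
    let M : Subgroup P :=
      { carrier := {y | y ∈ Nx x ∧ y ^ p = 1 ∧ (∀ e ∈ E, Commute y e) ∧
          ∀ g ∈ Nx x, ⁅y, g⁆ ∈ zpowers z}
        one_mem' := ⟨one_mem _, one_pow p, fun e _ => Commute.one_left e, fun g _ => by
          rw [commutatorElement_one_left]; exact one_mem _⟩
        mul_mem' := fun {g k} hg hk => by
          have hkg : ⁅k, g⁆ ∈ center P := hS (hk.2.2.2 g hg.1)
          refine ⟨mul_mem hg.1 hk.1, ?_, fun e he => (hg.2.2.1 e he).mul_left (hk.2.2.1 e he),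
            fun y hy => ?_⟩
          · rw [mul_pow_of_central hkg, hg.2.1, hk.2.1, one_mul, one_mul]
            obtain ⟨d, hd⟩ := (Fact.out : p.Prime).dvd_choose_self two_ne_zero
              (lt_of_le_of_ne (Fact.out : p.Prime).two_le (Ne.symm hp))
            rw [hd, pow_mul, ← commutatorElement_pow_left hkg, hk.2.1,
              commutatorElement_one_left, one_pow]
          · rw [commutatorElement_mul_left_of_central (hS (hk.2.2.2 y hy))]
            exact mul_mem (hg.2.2.2 y hy) (hk.2.2.2 y hy)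
        inv_mem' := fun {g} hg => ⟨inv_mem hg.1, by rw [inv_pow, hg.2.1, inv_one],
          fun e he => (hg.2.2.1 e he).inv_left, fun y hy => by
          rw [commutatorElement_inv_left_of_central (hS (hg.2.2.2 y hy))]
          exact inv_mem (hg.2.2.2 y hy)⟩ }
    have hxM : x ∈ M := ⟨show ⁅x, x⁆ ∈ zpowers z by rw [commutatorElement_self]; exact one_mem _,
      hxp, hxE, fun g hg => hg⟩
    have hMinv : ∀ g ∈ normalizer (Nx x : Set P), ∀ y ∈ M, g * y * g⁻¹ ∈ M := by
      intro g hg y hy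
      refine ⟨(mem_normalizer_iff.mp hg y).mp hy.1, by rw [conj_pow, hy.2.1]; simp,
        fun e he => ?_, fun k hk => ?_⟩
      · have h1 := hy.2.2.1 (g⁻¹ * e * g) (by simpa using hEn.conj_mem e he g⁻¹)
        have h2 := h1.map (MulAut.conj g).toMonoidHom
        simpa [mul_assoc] using h2
      · have h1 : ⁅g * y * g⁻¹, k⁆ = g * ⁅y, g⁻¹ * k * g⁆ * g⁻¹ := by
          simp only [commutatorElement_def]; group
        have h2 : ⁅y, g⁻¹ * k * g⁆ ∈ zpowers z := hy.2.2.2 _
          ((mem_normalizer_iff.mp hg _).mpr (by simpa [mul_assoc] using hk))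
        rw [h1, mem_center_comm (hS h2) g, mul_inv_cancel_right]
        exact h2
    haveI : Group.IsNilpotent P := hP.isNilpotent
    have hex : ∃ n, ∀ y ∈ (⊤ : Subgroup P).lowerCentralSeries n, y ∈ M → y ∈ zpowers z := by
      obtain ⟨n, hn⟩ := Subgroup.nilpotent_iff_lowerCentralSeries.mp ‹Group.IsNilpotent P›
      exact ⟨n, fun y hy _ => by rw [hn, mem_bot] at hy; rw [hy]; exact one_mem _⟩
    obtain ⟨m, hm⟩ : ∃ m, Nat.find hex = m + 1 := by
      refine Nat.exists_eq_succ_of_ne_zero fun h0 => hxS ?_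
      refine Nat.find_spec hex x ?_ hxM
      rw [h0, Subgroup.lowerCentralSeries_zero]; exact mem_top x
    have hbad := Nat.find_min hex (show m < Nat.find hex by omega)
    push Not at hbad
    obtain ⟨y, hym, hyM, hyS⟩ := hbad
    have hy2 : normalizer (Nx x : Set P) ≤ Nx y := fun g hg => by
      refine Nat.find_spec hex ⁅y, g⁆ ?_ ?_
      · rw [hm]; exact Subgroup.commutator_mem_commutator hym (mem_top g)
      · have : ⁅y, g⁆ = y * (g * y⁻¹ * g⁻¹) := by simp [commutatorElement_def, mul_assoc]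
        rw [this]; exact mul_mem hyM (hMinv g hg _ (inv_mem hyM))
    have hle := hmax y (Finset.mem_filter.mpr ⟨Finset.mem_univ _, hyM.2.1, hyM.2.2.1, hyS⟩)
    have := Subgroup.card_le_of_le hy2
    have := (Subgroup.card_le_of_le hlt.le).lt_of_ne fun h =>
      hlt.ne (eq_of_le_of_card_ge hlt.le h.ge)
    omega
  have hcomX : ∀ x ∈ E, ∀ y ∈ E, ⁅x, y⁆ ∈ zpowers z := fun x hx y _ =>
    commutator_mem_zpowers hp hZ hx y
  obtain ⟨n, -, he, -⟩ := extraspecial_structure hV hz hzp hz1 hfix _ E rfl hzE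
    (fun x hx => hx.1) hcomX hE
  obtain ⟨e, heE, hec⟩ := he a fun x hx => by
    rw [← commutatorElement_inv]; exact inv_mem (commutator_mem_zpowers hp hZ hx a)
  have hce : Commute (e⁻¹ * a) e := hec e heE
  have hpow : (e⁻¹ * a) ^ p = 1 := by
    have : e * (e⁻¹ * a) = a := mul_inv_cancel_left e a
    rw [← this, hce.symm.mul_pow, heE.1, one_mul] at hap
    exact hap
  have hmem := key _ hpow hec
  have : e * (e⁻¹ * a) ∈ E := mul_mem heE (zpowers_le_iff_mem.mpr hzE hmem)
  rwa [mul_inv_cancel_left] at this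

theorem arith {p n f : ℕ} (hp : 3 ≤ p) (hn : 1 ≤ n) (hf : (p + 1) ^ p ^ (n - 1) ≤ f) :
    p ^ (2 * n + 1) ≤ (p - 1) * f ^ (p - 1) := by
  have h1 : (p + 1) ^ (p ^ (n - 1) * (p - 1)) ≤ f ^ (p - 1) := by
    rw [pow_mul]; exact Nat.pow_le_pow_left hf _
  refine le_trans ?_ (Nat.mul_le_mul_left _ h1)
  by_cases h : 2 * n + 1 ≤ p ^ (n - 1) * (p - 1)
  · calc p ^ (2 * n + 1) ≤ (p + 1) ^ (2 * n + 1) := Nat.pow_le_pow_left (by omega) _
      _ ≤ (p + 1) ^ (p ^ (n - 1) * (p - 1)) := Nat.pow_le_pow_right (by omega) h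
      _ ≤ _ := Nat.le_mul_of_pos_left _ (by omega)
  · have key : ∀ m : ℕ, 2 * m + 5 ≤ 3 ^ (m + 1) * 2 := by
      intro m
      induction m with
      | zero => norm_num
      | succ m ih => rw [pow_succ]; omega
    obtain rfl : n = 1 := by
      by_contra hn1
      obtain ⟨m, rfl⟩ : ∃ m, n = m + 2 := ⟨n - 2, by omega⟩
      apply h
      calc 2 * (m + 2) + 1 ≤ 3 ^ (m + 1) * 2 := by have := key m; omega
        _ ≤ p ^ (m + 2 - 1) * (p - 1) :=
          Nat.mul_le_mul (Nat.pow_le_pow_left hp _) (by omega)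
    simp at h
    obtain rfl : p = 3 := by omega
    norm_num

/-- Some vector is fixed by no element of order `p` outside the centre with central commutators. -/
theorem exists_avoid_centralCommSub [Finite P] [Finite V] [Nontrivial V] (hp : p ≠ 2)
    (hV : (Nat.card V).Coprime p) (hz : z ∈ center P) (hzp : z ^ p = 1)
    (hz1 : z ≠ 1) (hfix : ∀ v : V, z • v = v → v = 1)
    (hZ : ∀ x ∈ center P, x ^ p = 1 → x ∈ zpowers z)
    (hE : ∀ x ∈ centralCommSub (P := P) hp, (∀ y ∈ centralCommSub (P := P) hp, Commute x y) →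
      x ∈ zpowers z) :
    ∃ v : V, ∀ b ∈ centralCommSub (P := P) hp, b ∉ zpowers z → b • v ≠ v := by
  classical
  haveI : Fintype P := Fintype.ofFinite P
  haveI : Fintype V := Fintype.ofFinite V
  let E : Subgroup P := centralCommSub hp
  have hzE : z ∈ E := ⟨hzp, fun x => by
    rw [commutatorElement_eq_one_iff_mul_comm.mpr (mem_center_comm hz x).symm]; exact one_mem _⟩
  have hcomX : ∀ x ∈ E, ∀ y ∈ E, ⁅x, y⁆ ∈ zpowers z := fun x hx y _ =>
    commutator_mem_zpowers hp hZ hx y
  obtain ⟨n, hn, -, hw⟩ := extraspecial_structure hV hz hzp hz1 hfix _ E rfl hzE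
    (fun x hx => hx.1) hcomX hE
  have hVbig : (p + 1) ^ p ^ n ≤ Nat.card V := by
    have := hw ⊤ top_ne_bot fun x _ w _ => mem_top _
    rwa [Subgroup.card_top] at this
  by_contra hno
  push Not at hno
  let T : Finset P := Finset.univ.filter fun b => b ∈ E ∧ b ∉ zpowers z
  let U : Finset V := Finset.univ.erase 1
  -- every vector is fixed by at least `p - 1` elements of `T`
  have hfib : ∀ v ∈ U, p - 1 ≤ (T.bipartiteAbove (fun v b => b • v = v) v).card := by
    intro v _
    obtain ⟨b, hbE, hbS, hbv⟩ := hno v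
    have hb1 : b ≠ 1 := fun h => hbS (h ▸ one_mem _)
    have ho := orderOf_eq_of_pow_eq_one hbE.1 hb1
    rw [show p - 1 = ((Finset.Icc 1 (p - 1)).image fun k => b ^ k).card by
      rw [Finset.card_image_of_injOn, Nat.card_Icc]
      · omega
      · intro k hk k' hk' h
        simp only [Finset.coe_Icc, Set.mem_Icc] at hk hk'
        exact pow_injOn_Iio_orderOf (by simp [ho]; omega) (by simp [ho]; omega) h]
    refine Finset.card_le_card fun g hg => ?_
    obtain ⟨k, hk, rfl⟩ := Finset.mem_image.mp hg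
    rw [Finset.mem_Icc] at hk
    refine (Finset.mem_bipartiteAbove _).mpr ⟨Finset.mem_filter.mpr ⟨Finset.mem_univ _,
      pow_mem hbE k, fun hkS => hbS ?_⟩,
      MulAction.mem_stabilizer_iff.mp (pow_mem (MulAction.mem_stabilizer_iff.mpr hbv) k)⟩
    have hcop : k.Coprime (orderOf b) := by
      rw [ho]
      exact (((Fact.out : p.Prime).coprime_iff_not_dvd).mpr fun hd => by
        have := Nat.le_of_dvd (by omega) hd; omega).symm
    obtain ⟨m, hm⟩ := exists_pow_eq_self_of_coprime hcop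
    rw [← hm]; exact pow_mem hkS m
  -- the fixed points of all elements of `T` are equally many
  have hpow : ∀ b ∈ T, Nat.card V = Nat.card (fixSub b : Subgroup V) ^ p := by
    intro b hb
    obtain ⟨-, hbE, hbS⟩ := Finset.mem_filter.mp hb
    obtain ⟨y, hyE, hy⟩ : ∃ y ∈ E, ¬ Commute b y := by
      by_contra h
      exact hbS (hE b hbE fun y hy => by_contra fun hn => h ⟨y, hy, hn⟩)
    have := card_eq_pow (W := (⊤ : Subgroup V)) (X := E) hV hz hzp hz1 hfix hbE.1
      (hcomX b hbE y hyE) (fun h => hy (commutatorElement_eq_one_iff_mul_comm.mp h)) hbE hyE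
      (fun x _ w _ => mem_top _)
    rwa [top_inf_eq, Subgroup.card_top] at this
  obtain ⟨v₁, hv₁⟩ := exists_ne (1 : V)
  obtain ⟨b₀, hb₀E, hb₀S, -⟩ := hno v₁
  have hb₀T : b₀ ∈ T := Finset.mem_filter.mpr ⟨Finset.mem_univ _, hb₀E, hb₀S⟩
  set f := Nat.card (fixSub b₀ : Subgroup V) with hf
  have hp3 : 3 ≤ p := by have := (Fact.out : p.Prime).two_le; omega
  have hVf : Nat.card V = f ^ p := hpow b₀ hb₀T
  have hfib2 : ∀ b ∈ T, (U.bipartiteBelow (fun v b => b • v = v) b).card ≤ f - 1 := by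
    intro b hb
    have hfb : Nat.card (fixSub b : Subgroup V) = f :=
      Nat.pow_left_injective (by omega) ((hpow b hb).symm.trans hVf)
    rw [← hfb, Nat.card_eq_fintype_card, Fintype.card_subtype,
      ← Finset.card_erase_of_mem (a := (1 : V))
        (Finset.mem_filter.mpr ⟨Finset.mem_univ _, one_mem _⟩)]
    refine Finset.card_le_card fun v hv => ?_
    rw [Finset.mem_bipartiteBelow] at hv
    exact Finset.mem_erase.mpr ⟨Finset.ne_of_mem_erase hv.1,
      Finset.mem_filter.mpr ⟨Finset.mem_univ _, hv.2⟩⟩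
  have hcount := Finset.card_mul_le_card_mul _ hfib hfib2
  have hU : U.card = f ^ p - 1 := by
    rw [Finset.card_erase_of_mem (Finset.mem_univ _), Finset.card_univ, ← Nat.card_eq_fintype_card,
      hVf]
  have hTc : T.card + 1 ≤ p ^ (2 * n + 1) := by
    rw [← hn, Nat.card_eq_fintype_card, Fintype.card_subtype]
    exact Nat.succ_le_of_lt (Finset.card_lt_card ((Finset.ssubset_iff_of_subset fun b hb =>
      Finset.mem_filter.mpr ⟨Finset.mem_univ _, (Finset.mem_filter.mp hb).2.1⟩).mpr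
      ⟨1, Finset.mem_filter.mpr ⟨Finset.mem_univ _, one_mem _⟩, fun h =>
        (Finset.mem_filter.mp h).2.2 (one_mem _)⟩))
  rw [hU] at hcount
  have hn1 : 1 ≤ n := by
    by_contra h0
    have hcard : Nat.card E = p := by rw [hn, show n = 0 by omega]; simp
    have hEz : zpowers z = E := eq_of_le_of_card_ge (zpowers_le_iff_mem.mpr hzE) (by
      rw [hcard, Nat.card_zpowers, orderOf_eq_of_pow_eq_one hzp hz1])
    exact hb₀S (hEz.symm ▸ hb₀E)
  have hfbig : (p + 1) ^ p ^ (n - 1) ≤ f := by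
    refine (Nat.pow_le_pow_iff_left (show p ≠ 0 by omega)).mp ?_
    rw [← pow_mul, ← pow_succ, show n - 1 + 1 = n by omega, ← hVf]
    exact hVbig
  have har := arith hp3 hn1 hfbig
  have hf2 : 2 ≤ f := le_trans (le_trans (by omega : 2 ≤ p + 1)
    (Nat.le_self_pow (pow_ne_zero _ (by omega)) _)) hfbig
  -- `(p - 1) (f ^ p - 1) > |T| (f - 1)`
  have h1 : (f - 1) * f ^ (p - 1) ≤ f ^ p - 1 := by
    rw [Nat.sub_mul, one_mul, ← pow_succ', show p - 1 + 1 = p by omega]
    have : 0 < f ^ (p - 1) := pow_pos (by omega) _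
    omega
  have h2 : T.card * (f - 1) < (f ^ p - 1) * (p - 1) :=
    calc T.card * (f - 1) < p ^ (2 * n + 1) * (f - 1) :=
          Nat.mul_lt_mul_of_pos_right (by omega) (by omega)
      _ ≤ (p - 1) * f ^ (p - 1) * (f - 1) := Nat.mul_le_mul_right _ har
      _ = (f - 1) * f ^ (p - 1) * (p - 1) := by ring
      _ ≤ _ := Nat.mul_le_mul_right _ h1
  omega

end Cfsg.Agent.ExtraspecialAvoid89
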