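import Cfsg.Agent.Lib.PGroupsExtraspecial
import Cfsg.Agent.Lib.CharInducedBasic
import Cfsg.Agent.Lib.CharInducedRep
import Cfsg.Agent.Lib.CharKernel

/-!
Faithful irreducible characters of extraspecial groups.
-/

namespace Cfsg.Agent.ExtraspecialChars31

open Cfsg
open scoped commutatorElement
open scoped ComplexConjugate

attribute [local instance] Classical.propDecidable

universe u

variable {P : Type u} [Group P] {p : ℕ} [Fact p.Prime]

/-- A class function transforming by a faithful character of the centre vanishes off the centre. -/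
theorem eq_zero_off_center (hP : IsExtraspecial p P) {f μ : P → ℂ} (hf : IsClassFunction P f)
    (hμ : ∀ x, ∀ z ∈ Subgroup.center P, f (x * z) = μ z * f x)
    (hne : ∀ z ∈ Subgroup.center P, z ≠ 1 → μ z ≠ 1) {x : P} (hx : x ∉ Subgroup.center P) :
    f x = 0 := by
  obtain ⟨g, hg⟩ : ∃ g, g * x ≠ x * g := by
    by_contra h
    push Not at h
    exact hx (Subgroup.mem_center_iff.mpr h)
  set c := x⁻¹ * (g * x * g⁻¹) with hc
  have hcZ : c ∈ Subgroup.center P := by
    rw [← hP.1.2.2]
    have : c = ⁅x⁻¹, g⁆ := by rw [hc, commutatorElement_def, inv_inv]; group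
    rw [this]
    exact Subgroup.commutator_mem_commutator (Subgroup.mem_top _) (Subgroup.mem_top _)
  have hc1 : c ≠ 1 := fun h => hg (mul_inv_eq_iff_eq_mul.mp (inv_mul_eq_one.mp h).symm)
  have h := hμ x c hcZ
  rw [hc, mul_inv_cancel_left, hf x g] at h
  by_contra h0
  exact hne c hcZ hc1 ((mul_eq_right₀ h0).mp h.symm)

/-- A character of the centre that is non-trivial somewhere is faithful. -/
theorem ne_one_of_exists (hP : IsExtraspecial p P) {μ : P → ℂ}
    (hmul : ∀ a ∈ Subgroup.center P, ∀ b ∈ Subgroup.center P, μ (a * b) = μ a * μ b)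
    (hex : ∃ a ∈ Subgroup.center P, μ a ≠ 1) (hone : μ 1 = 1) :
    ∀ z ∈ Subgroup.center P, z ≠ 1 → μ z ≠ 1 := by
  obtain ⟨a, ha, hμa⟩ := hex
  intro z hz hz1 hμz
  haveI : Finite (Subgroup.center P) :=
    Nat.finite_of_card_ne_zero (by rw [hP.2]; exact (Fact.out : p.Prime).ne_zero)
  have htop := zpowers_eq_top_of_prime_card hP.2
    (g := (⟨z, hz⟩ : Subgroup.center P)) (fun h => hz1 (congrArg Subtype.val h))
  have hmem : (⟨a, ha⟩ : Subgroup.center P) ∈ Subgroup.zpowers (⟨z, hz⟩ : Subgroup.center P) :=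
    htop ▸ Subgroup.mem_top _
  rw [mem_zpowers_iff_mem_range_orderOf] at hmem
  obtain ⟨k, -, hk⟩ := Finset.mem_image.1 hmem
  have hk' : z ^ k = a := congrArg Subtype.val hk
  refine hμa (hk' ▸ ?_)
  clear hk hk'
  induction k with
  | zero => rw [pow_zero, hone]
  | succ k ih => rw [pow_succ, hmul _ (Subgroup.pow_mem _ hz k) _ hz, ih, hμz, one_mul]

/-- The squared norm of a function supported on the centre. -/
theorem classInner_eq_center [Fintype P] {f : P → ℂ} (c : ℂ)
    (h0 : ∀ x, x ∉ Subgroup.center P → f x = 0)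
    (h1 : ∀ z ∈ Subgroup.center P, f z * conj (f z) = c) :
    classInner f f = (Nat.card P : ℂ)⁻¹ * ((Nat.card (Subgroup.center P) : ℂ) * c) := by
  rw [classInner]
  congr 1
  rw [← Finset.sum_filter_add_sum_filter_not Finset.univ (· ∈ Subgroup.center P)]
  rw [Finset.sum_congr rfl (g := fun _ => c) fun x hx => h1 x (Finset.mem_filter.1 hx).2,
    Finset.sum_eq_zero (s := Finset.univ.filter fun x => x ∉ Subgroup.center P) fun x hx => by
      rw [h0 x (Finset.mem_filter.1 hx).2, zero_mul],
    add_zero, Finset.sum_const, nsmul_eq_mul, Nat.card_eq_fintype_card, Fintype.card_subtype]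

/-- Irreducible characters of an extraspecial group have degree one or `p ^ n`. -/
theorem degree [Finite P] (hP : IsExtraspecial p P) {n : ℕ} (hcard : Nat.card P = p ^ (2 * n + 1))
    (χ : IrrCharacter P) : (χ : P → ℂ) 1 = 1 ∨ (χ : P → ℂ) 1 = (p : ℂ) ^ n := by
  haveI := Fintype.ofFinite P
  obtain ⟨d, ρ, hρ, hch⟩ := χ.2
  haveI := hρ
  choose! c hc using fun z (hz : z ∈ Subgroup.center P) => CharBasic.exists_scalar_of_mem_center ρ hz
  have hd : (χ : P → ℂ) 1 = (d : ℂ) := by rw [← hch, Representation.char_one]; simp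
  have hd0 : (d : ℂ) ≠ 0 := hd ▸ CharBasic.isIrrCharacter_apply_one_ne_zero χ.2
  have hμ : ∀ x, ∀ z ∈ Subgroup.center P, (χ : P → ℂ) (x * z) = c z * (χ : P → ℂ) x := by
    intro x z hz
    rw [← hch]
    simp only [Representation.character, map_mul, hc z hz]
    rw [show (LinearMap.id : Module.End ℂ (Fin d → ℂ)) = 1 from rfl, mul_smul_comm, mul_one,
      map_smul, smul_eq_mul]
  have hval : ∀ z ∈ Subgroup.center P, (χ : P → ℂ) z = c z * d := fun z hz => by
    have := hμ 1 z hz
    rwa [one_mul, hd] at this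
  have hone : c 1 = 1 := by
    have := hval 1 (one_mem _)
    rw [hd] at this
    exact (mul_eq_right₀ hd0).mp this.symm
  have hmul : ∀ a ∈ Subgroup.center P, ∀ b ∈ Subgroup.center P, c (a * b) = c a * c b := by
    intro a ha b hb
    apply mul_right_cancel₀ hd0
    rw [← hval _ (mul_mem ha hb), hμ a b hb, hval a ha]
    ring
  by_cases hex : ∃ a ∈ Subgroup.center P, c a ≠ 1
  swap
  · left
    push Not at hex
    obtain ⟨ψ, hψ⟩ := CharKernel.exists_quot_irr (Subgroup.center P) χ fun z hz => by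
      rw [hval z hz, hex z hz, one_mul, hd]
    rw [hψ 1]
    refine CharBasicLinear.apply_one_eq_one_of_comm (fun a b => ?_) ψ.2
    obtain ⟨a, rfl⟩ := QuotientGroup.mk_surjective a
    obtain ⟨b, rfl⟩ := QuotientGroup.mk_surjective b
    rw [← QuotientGroup.mk_mul, ← QuotientGroup.mk_mul, QuotientGroup.eq, ← hP.1.2.2]
    have : (a * b)⁻¹ * (b * a) = ⁅b⁻¹, a⁻¹⁆ := by
      rw [commutatorElement_def, inv_inv, inv_inv]; group
    rw [this]
    exact Subgroup.commutator_mem_commutator (Subgroup.mem_top _) (Subgroup.mem_top _)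
  right
  have hcl : IsClassFunction P (χ : P → ℂ) :=
    CharBasic.isClassFunction_of_isCharacter (CharBasic.isCharacter_of_isIrrCharacter χ.2)
  have hfaith := ne_one_of_exists hP hmul hex hone
  have hroot : ∀ z ∈ Subgroup.center P, c z * conj (c z) = 1 := by
    intro z hz
    have hpow : ∀ k : ℕ, c (z ^ k) = c z ^ k := by
      intro k
      induction k with
      | zero => rw [pow_zero, pow_zero, hone]
      | succ k ih => rw [pow_succ, pow_succ, hmul _ (Subgroup.pow_mem _ hz k) _ hz, ih]
    have h1 : c z ^ Nat.card P = 1 := by rw [← hpow, pow_card_eq_one', hone]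
    rw [Complex.mul_conj, Complex.normSq_eq_norm_sq,
      Complex.norm_eq_one_of_pow_eq_one h1 Nat.card_pos.ne']
    norm_num
  have hn := classInner_eq_center (f := (χ : P → ℂ)) ((d : ℂ) * d)
    (fun x hx => eq_zero_off_center hP hcl hμ hfaith hx) fun z hz => by
      rw [hval z hz, map_mul, Complex.conj_natCast]
      linear_combination ((d : ℂ) * d) * hroot z hz
  rw [CharBasicOrth.classInner_irr_self χ.2, hcard, hP.2] at hn
  have hp0 : (p : ℂ) ≠ 0 := Nat.cast_ne_zero.2 (Fact.out : p.Prime).ne_zero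
  have h2 : ((d : ℂ) * d) = ((p ^ n : ℕ) : ℂ) * ((p ^ n : ℕ) : ℂ) := by
    push_cast at hn ⊢
    field_simp at hn
    apply mul_left_cancel₀ hp0
    linear_combination -hn
  have h3 : d * d = p ^ n * p ^ n := by exact_mod_cast h2
  rw [hd, Nat.mul_self_inj.mp h3, Nat.cast_pow]

end Cfsg.Agent.ExtraspecialChars31
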