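import Cfsg.Agent.Lib.OmegaAutomiser89
import Cfsg.Agent.Lib.PGroupsCyclic

/-!
In a saturated fusion system on a `p`-group of rank two, `p ≥ 5`, a centric subgroup whose elements
of order `p` form a non-abelian group of order `p ^ 3` has an automiser with normal Sylow subgroup.
-/

set_option autoImplicit false

universe u

namespace Cfsg.Agent.ExtraspecialNotEssential89

open Cfsg Cfsg.FusionSystem Cfsg.Agent.FusionSysBasic Cfsg.Agent.FusionSysSaturated
  Cfsg.Agent.FusionSysAlperin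
open scoped commutatorElement

variable {Ω : Type u} [Group Ω] {S : Subgroup Ω} {F : FusionSystem S} {p : ℕ}

/-- The restriction of the automiser to an invariant subgroup. -/
noncomputable def resHom {E X : Subgroup Ω} (hXE : X ≤ E) {A : Subgroup (MulAut E)}
    (hinv : ∀ α : A, ∀ x ∈ X, afun (α : MulAut E) x ∈ X) : A →* MulAut X where
  toFun α :=
    { toFun := fun x => ⟨afun (α : MulAut E) x, hinv α x x.2⟩
      invFun := fun x => ⟨afun ((α⁻¹ : A) : MulAut E) x, hinv α⁻¹ x x.2⟩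
      left_inv := fun x => Subtype.ext (afun_inv_apply _ (hXE x.2))
      right_inv := fun x => Subtype.ext (afun_apply_inv _ (hXE x.2))
      map_mul' := fun x y => Subtype.ext (by
        show afun (α : MulAut E) ((x : Ω) * y) = afun (α : MulAut E) x * afun (α : MulAut E) y
        rw [afun_apply _ (E.mul_mem (hXE x.2) (hXE y.2)), afun_apply _ (hXE x.2),
          afun_apply _ (hXE y.2)]
        exact congrArg Subtype.val
          (map_mul (α : MulAut E) ⟨(x : Ω), hXE x.2⟩ ⟨(y : Ω), hXE y.2⟩)) }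
  map_one' := MulEquiv.ext fun x => Subtype.ext (afun_one (hXE x.2))
  map_mul' α β := MulEquiv.ext fun x => Subtype.ext (afun_mul _ _ (hXE x.2))

theorem coe_resHom {E X : Subgroup Ω} (hXE : X ≤ E) {A : Subgroup (MulAut E)}
    (hinv : ∀ α : A, ∀ x ∈ X, afun (α : MulAut E) x ∈ X) (α : A) (x : X) :
    ((resHom hXE hinv α x : X) : Ω) = afun (α : MulAut E) x := rfl

/-- The action on the central quotient. -/
def centerQuot (G : Type u) [Group G] : MulAut G →* MulAut (G ⧸ Subgroup.center G) where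
  toFun φ := QuotientGroup.congr _ _ φ (Subgroup.characteristic_iff_map_eq.mp inferInstance φ)
  map_one' := MulEquiv.ext fun x => by
    induction x using QuotientGroup.induction_on with
    | H a => rfl
  map_mul' φ ψ := MulEquiv.ext fun x => by
    induction x using QuotientGroup.induction_on with
    | H a => rfl

theorem centerQuot_mk {G : Type u} [Group G] (φ : MulAut G) (x : G) :
    centerQuot G φ (x : G ⧸ Subgroup.center G) = ((φ x : G) : G ⧸ Subgroup.center G) := rfl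

/-- An automorphism of determinant one of the central quotient fixes the commutator of two
elements, when commutators are central. -/
theorem map_commutator_eq [Fact p.Prime] {G : Type u} [Group G] (hexp : ∀ x : G, x ^ p = 1)
    (hcen : ∀ x y : G, ⁅x, y⁆ ∈ Subgroup.center G) (φ : MulAut G) {a b : G} {i j k : ℤ}
    (ha : (φ a : G ⧸ Subgroup.center G) = (a : G ⧸ Subgroup.center G) ^ i)
    (hb : (φ b : G ⧸ Subgroup.center G) =
      (b : G ⧸ Subgroup.center G) ^ j * (a : G ⧸ Subgroup.center G) ^ k)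
    (hij : ((i * j : ℤ) : ZMod p) = 1) : φ ⁅a, b⁆ = ⁅a, b⁆ := by
  let L : G → G →* G := fun y => MonoidHom.mk' (fun x => ⁅x, y⁆) fun x x' =>
    PGroupsBasic.commutatorElement_mul_left_of_central (hcen x' y)
  let R : G → G →* G := fun x => MonoidHom.mk' (fun y => ⁅x, y⁆) fun y y' => by
    rw [← commutatorElement_inv, ← commutatorElement_inv y, ← commutatorElement_inv y',
      PGroupsBasic.commutatorElement_mul_left_of_central (hcen y' x), mul_inv_rev]
    exact Subgroup.mem_center_iff.mp (inv_mem (hcen y x)) _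
  have hl : ∀ x y : G, ∀ n : ℤ, ⁅x ^ n, y⁆ = ⁅x, y⁆ ^ n := fun x y n => map_zpow (L y) x n
  have hr : ∀ x y : G, ∀ n : ℤ, ⁅x, y ^ n⁆ = ⁅x, y⁆ ^ n := fun x y n => map_zpow (R x) y n
  have hlc : ∀ x y z : G, z ∈ Subgroup.center G → ⁅x * z, y⁆ = ⁅x, y⁆ := fun x y z hz => by
    have e : ⁅z, y⁆ = 1 :=
      commutatorElement_eq_one_iff_mul_comm.mpr (Subgroup.mem_center_iff.mp hz y).symm
    show L y (x * z) = ⁅x, y⁆
    rw [map_mul, show L y z = 1 from e, mul_one]
    rfl
  have hrc : ∀ x y z : G, z ∈ Subgroup.center G → ⁅x, y * z⁆ = ⁅x, y⁆ := fun x y z hz => by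
    have e : ⁅x, z⁆ = 1 :=
      commutatorElement_eq_one_iff_mul_comm.mpr (Subgroup.mem_center_iff.mp hz x)
    show R x (y * z) = ⁅x, y⁆
    rw [map_mul, show R x z = 1 from e, mul_one]
    rfl
  rw [← QuotientGroup.mk_zpow, eq_comm, QuotientGroup.eq] at ha
  rw [← QuotientGroup.mk_zpow, ← QuotientGroup.mk_zpow, ← QuotientGroup.mk_mul, eq_comm,
    QuotientGroup.eq] at hb
  have hmix : ⁅a ^ i, b ^ j * a ^ k⁆ = ⁅a, b⁆ ^ (i * j) := by
    show R (a ^ i) (b ^ j * a ^ k) = _
    rw [map_mul, show R (a ^ i) (a ^ k) = 1 from commutatorElement_eq_one_iff_mul_comm.mpr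
      ((Commute.refl a).zpow_zpow i k).eq, mul_one]
    show ⁅a ^ i, b ^ j⁆ = _
    rw [hr, hl, ← zpow_mul]
  rw [map_commutatorElement, ← mul_inv_cancel_left (a ^ i) (φ a),
    ← mul_inv_cancel_left (b ^ j * a ^ k) (φ b), hlc _ _ _ ha, hrc _ _ _ hb, hmix,
    TorusAutomiser89.pow_card_fix hexp (show ((i * j : ℤ) : ZMod p) = ((1 : ℤ) : ZMod p) by
      rw [hij, Int.cast_one]), zpow_one]

/-- No three independent commuting elements of order `p` in rank two. -/
theorem false_of_triple [Finite S] [hp : Fact p.Prime]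
    (hrk : ∀ A : Subgroup Ω, A ≤ S → Cfsg.IsElementaryAbelian p A → Nat.card A ≤ p ^ 2)
    {a b c : Ω} (ha : a ∈ S) (hb : b ∈ S) (hc : c ∈ S) (hap : a ^ p = 1) (hbp : b ^ p = 1)
    (hcp : c ^ p = 1) (hab : Commute a b) (hac : Commute a c) (hbc : Commute b c) (ha1 : a ≠ 1)
    (hba : b ∉ Subgroup.closure ({a} : Set Ω)) (hcab : c ∉ Subgroup.closure ({a, b} : Set Ω)) :
    False := by
  set A₁ := Subgroup.closure ({a} : Set Ω)
  set A₂ := Subgroup.closure ({a, b} : Set Ω)
  set A₃ := Subgroup.closure ({a, b, c} : Set Ω) with hA₃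
  have hA3S : A₃ ≤ S := by
    rw [hA₃, Subgroup.closure_le]
    rintro x (rfl | rfl | rfl) <;> assumption
  have hcomm : IsMulCommutative A₃ := by
    refine Subgroup.isMulCommutative_closure ?_
    rintro x (rfl | rfl | rfl) y (rfl | rfl | rfl) <;>
      first
      | exact (Commute.refl _).eq
      | exact hab.eq
      | exact hab.symm.eq
      | exact hac.eq
      | exact hac.symm.eq
      | exact hbc.eq
      | exact hbc.symm.eq
  have hexp : ∀ x ∈ A₃, x ^ p = 1 := by
    intro x hx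
    induction hx using Subgroup.closure_induction with
    | mem x hx => rcases hx with rfl | rfl | rfl <;> assumption
    | one => exact one_pow _
    | mul x y hx hy h1 h2 =>
      have hxy : Commute x y := congrArg Subtype.val (hcomm.is_comm.comm ⟨x, hx⟩ ⟨y, hy⟩)
      rw [hxy.mul_pow, h1, h2, one_mul]
    | inv x hx h => rw [inv_pow, h, inv_one]
  have h3 := hrk A₃ hA3S ⟨hcomm, hexp⟩
  haveI := finite_of_le hA3S
  have h12 : A₁ ≤ A₂ := Subgroup.closure_mono (by intro x hx; simp_all)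
  have h23 : A₂ ≤ A₃ := Subgroup.closure_mono (by intro x hx; rcases hx with rfl | rfl <;> simp)
  haveI := finite_of_le (h23.trans hA3S)
  have hlt23 : Nat.card A₂ < Nat.card A₃ := by
    refine lt_of_le_of_ne (Subgroup.card_le_of_le h23) fun e => hcab ?_
    rw [eq_of_le_of_card_ge hA3S h23 e.ge]
    exact Subgroup.subset_closure (by simp)
  have hlt12 : Nat.card A₁ < Nat.card A₂ := by
    refine lt_of_le_of_ne (Subgroup.card_le_of_le h12) fun e => hba ?_
    rw [eq_of_le_of_card_ge (h23.trans hA3S) h12 e.ge]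
    exact Subgroup.subset_closure (by simp)
  have h1 : Nat.card A₁ = p := by
    rw [show A₁ = Subgroup.zpowers a from (Subgroup.zpowers_eq_closure a).symm, Nat.card_zpowers,
      orderOf_eq_prime hap ha1]
  have hP : IsPGroup p A₃ := fun x => ⟨1, Subtype.ext (by
    rw [pow_one, Subgroup.coe_pow, hexp x x.2, Subgroup.coe_one])⟩
  obtain ⟨n, hn⟩ := IsPGroup.iff_card.mp (hP.to_le h23)
  obtain ⟨m, hm⟩ := IsPGroup.iff_card.mp hP
  rw [h1, hn] at hlt12
  rw [hn, hm] at hlt23
  rw [hm] at h3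
  have := (Nat.pow_lt_pow_iff_right hp.out.one_lt).mp ((pow_one p).symm ▸ hlt12 : p ^ 1 < p ^ n)
  have := (Nat.pow_lt_pow_iff_right hp.out.one_lt).mp hlt23
  have := (Nat.pow_le_pow_iff_right hp.out.one_lt).mp h3
  omega

theorem no_extraspecial [Finite S] [hp : Fact p.Prime] (hp5 : 5 ≤ p) (hS : IsPGroup p S)
    (hF : F.IsSaturated p)
    (hrk : ∀ A : Subgroup Ω, A ≤ S → Cfsg.IsElementaryAbelian p A → Nat.card A ≤ p ^ 2)
    {E : Subgroup Ω} (hc : F.IsCentric E) (hlt : E < S) {X : Subgroup Ω} (hXE : X ≤ E)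
    (hXc : Nat.card X = p ^ 3) (hXexp : ∀ x ∈ X, x ^ p = 1)
    (hXall : ∀ x ∈ E, x ^ p = 1 → x ∈ X)
    (hns : ∀ T : Sylow p ↥(F.autGroup E), ¬ (T : Subgroup ↥(F.autGroup E)).Normal)
    (hinn : ∀ α : ↥(F.autGroup E),
      (∀ x ∈ X, ∀ y ∈ X, Commute (x⁻¹ * afun (α : MulAut E) x) y) → (α : MulAut E) ∈ Inn E) :
    False := by
  have hp2 : p ≠ 2 := by omega
  have hXS : X ≤ S := hXE.trans hlt.le
  haveI := finite_of_le hXS
  haveI := finite_of_le hlt.le
  haveI := finite_normalizerIn (S := S) E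
  have hXexp' : ∀ x : X, x ^ p = 1 := fun x => Subtype.ext (hXexp x x.2)
  have hnc : ¬ ∀ x y : X, x * y = y * x := by
    intro h
    have := hrk X hXS ⟨⟨⟨h⟩⟩, hXexp⟩
    rw [hXc] at this
    have := (Nat.pow_le_pow_iff_right hp.out.one_lt).mp this
    omega
  obtain ⟨hZc, hQc, hQcomm, hQexp⟩ := OmegaAutomiser89.center_facts hXc hXexp' hnc
  have hinv : ∀ α : ↥(F.autGroup E), ∀ x ∈ X, afun (α : MulAut E) x ∈ X := fun α x hx =>
    hXall _ (afun_mem _ (hXE hx)) (by
      rw [afun_apply _ (hXE hx), ← Subgroup.coe_pow, ← map_pow,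
        show (⟨x, hXE hx⟩ : E) ^ p = 1 from Subtype.ext (hXexp x hx), map_one, Subgroup.coe_one])
  let r := resHom hXE hinv
  let ρ := (centerQuot ↥X).comp r
  have hρ : ∀ α (x : X), ρ α (x : ↥X ⧸ Subgroup.center ↥X) =
      ((r α x : X) : ↥X ⧸ Subgroup.center ↥X) := fun α x => rfl
  have hK : ∀ α, ρ α = 1 → (α : MulAut E) ∈ Inn E := by
    intro α hα
    refine hinn α fun x hx y hy => ?_
    have h1 := hρ α ⟨x, hx⟩
    rw [hα, MulAut.one_apply, QuotientGroup.eq] at h1
    exact (congrArg Subtype.val (Subgroup.mem_center_iff.mp h1 ⟨y, hy⟩)).symm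
  obtain ⟨σ⟩ := TorusAutomiser89.exists_setup hp2 hS hF hc hlt ρ hQc hQexp hQcomm hK hns
  obtain ⟨a, ha⟩ := QuotientGroup.mk_surjective σ.D.v
  obtain ⟨b, hb⟩ := QuotientGroup.mk_surjective σ.D.w
  -- the commutator generates the centre
  set z := ⁅a, b⁆ with hzdef
  have hcen : ∀ x y : X, ⁅x, y⁆ ∈ Subgroup.center X := fun x y => by
    rw [← QuotientGroup.eq_one_iff]
    show QuotientGroup.mk' _ ⁅x, y⁆ = 1
    rw [map_commutatorElement, commutatorElement_eq_one_iff_mul_comm]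
    exact hQcomm _ _
  have hz1 : z ≠ 1 := by
    intro h
    apply σ.D.v_ne
    rw [← ha, QuotientGroup.eq_one_iff, Subgroup.mem_center_iff]
    intro x
    obtain ⟨i, j, hij⟩ := σ.D.span (x : ↥X ⧸ Subgroup.center ↥X)
    rw [← ha, ← hb, ← QuotientGroup.mk_zpow, ← QuotientGroup.mk_zpow, ← QuotientGroup.mk_mul,
      eq_comm, QuotientGroup.eq] at hij
    rw [← mul_inv_cancel_left (a ^ i * b ^ j) x]
    exact (((Commute.refl a).zpow_right i).mul_right
      ((show Commute a b from commutatorElement_eq_one_iff_mul_comm.mp h).zpow_right j) |>.mul_right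
        (Subgroup.mem_center_iff.mp hij a)).eq.symm
  have hzc : z ∈ Subgroup.center X := hcen a b
  have hZgen : ∀ x ∈ Subgroup.center X, ∃ k : ℤ, x = z ^ k := by
    intro x hx
    have htop := zpowers_eq_top_of_prime_card (G := Subgroup.center X) (p := p) hZc
      (g := ⟨z, hzc⟩) (fun e => hz1 (congrArg Subtype.val e))
    obtain ⟨k, hk⟩ := Subgroup.mem_zpowers_iff.mp (htop ▸ Subgroup.mem_top (⟨x, hx⟩ : Subgroup.center X))
    exact ⟨k, by simpa using (congrArg Subtype.val hk).symm⟩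
  have hfixc : ∀ (α : ↥(F.autGroup E)), r α z = z →
      ∀ x ∈ Subgroup.center X, r α x = x := fun α hα x hx => by
    obtain ⟨k, rfl⟩ := hZgen x hx
    rw [map_zpow, hα]
  -- the torus fixes the centre
  have hηz : r σ.η z = z := by
    refine map_commutator_eq hXexp' hcen _ (i := σ.D.c) (j := σ.D.μ) (k := 0) ?_ ?_ σ.D.cμ
    · rw [← hρ, ha, σ.ηv]
    · rw [← hρ, hb, σ.ηw, zpow_zero, mul_one]
  set m := (p - 1) / 2 with hmdef
  set t := σ.θ ^ m with htdef
  have hEN : E ≤ normalizerIn S E := le_normalizerIn hlt.le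
  have htη : ∀ x ∈ E, afun t x = afun ((σ.η ^ m : ↥(F.autGroup E)) : MulAut E) x := by
    intro x hx
    rw [Subgroup.coe_pow]
    exact FusionNilReduction.afun_pow_of_eqOn hEN σ.ηθ m x hx
  have htz : r (σ.η ^ m) z = z := by
    rw [map_pow]
    induction m with
    | zero => simp
    | succ n ih => rw [pow_succ', MulAut.mul_apply, ih, hηz]
  have hneg : ∀ u, ρ (σ.η ^ m) u = u⁻¹ := by
    have hcμ := σ.D.cμ
    push_cast at hcμ
    have hcm : ((σ.D.c : ℤ) : ZMod p) ^ m = -1 := σ.half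
    have hμm : ((σ.D.μ : ℤ) : ZMod p) ^ m = -1 := by
      have h1 : ((σ.D.c : ℤ) : ZMod p) ^ m * ((σ.D.μ : ℤ) : ZMod p) ^ m = 1 := by
        rw [← mul_pow, hcμ, one_pow]
      rw [hcm] at h1
      linear_combination -h1
    have hit : ∀ n : ℕ, ρ (σ.η ^ n) σ.D.v = σ.D.v ^ (σ.D.c ^ n) ∧
        ρ (σ.η ^ n) σ.D.w = σ.D.w ^ (σ.D.μ ^ n) := by
      intro n
      induction n with
      | zero => simp
      | succ n ih =>
        rw [pow_succ', map_mul, MulAut.mul_apply, MulAut.mul_apply, ih.1, ih.2,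
          map_zpow (ρ σ.η), map_zpow (ρ σ.η), σ.ηv, σ.ηw, ← zpow_mul, ← zpow_mul, ← pow_succ',
          ← pow_succ']
        exact ⟨rfl, rfl⟩
    intro u
    obtain ⟨i, j, rfl⟩ := σ.D.span u
    rw [map_mul, map_zpow, map_zpow, (hit m).1, (hit m).2,
      TorusAutomiser89.pow_card_fix hQexp (show ((σ.D.c ^ m : ℤ) : ZMod p) = ((-1 : ℤ) : ZMod p) by
        push_cast; exact hcm),
      TorusAutomiser89.pow_card_fix hQexp (show ((σ.D.μ ^ m : ℤ) : ZMod p) = ((-1 : ℤ) : ZMod p) by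
        push_cast; exact hμm),
      zpow_neg_one, zpow_neg_one, inv_zpow, inv_zpow, mul_inv_rev, hQcomm]
  have hsq : ∀ {G : Type u} [Group G] (u : G), u ^ p = 1 → u * u = 1 → u = 1 := by
    intro G _ u h1 h2
    have h3 : u ^ Nat.gcd p 2 = 1 := pow_gcd_eq_one.mpr ⟨h1, (pow_two u).trans h2⟩
    rwa [((Nat.coprime_primes hp.out Nat.prime_two).mpr hp2).gcd_eq_one, pow_one] at h3
  -- the fixed points
  set D := t.toMonoidHom.eqLocus (MonoidHom.id ↥(normalizerIn S E)) with hDdef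
  let zN : ↥(normalizerIn S E) := ⟨((z : X) : Ω), hEN (hXE (z : X).2)⟩
  have hθz : σ.θ zN = zN := by
    refine Subtype.ext ?_
    rw [← afun_coe, σ.ηθ _ (hXE (z : X).2)]
    exact congrArg Subtype.val hηz
  have huniq : ∀ x ∈ D, x ^ p = 1 → x ∈ Subgroup.zpowers zN := by
    intro x hxD hxp
    have hxt : afun t (x : Ω) = x := (afun_coe t x).trans (congrArg Subtype.val (hxD : t x = x))
    by_cases hxE : (x : Ω) ∈ E
    · have hxX : (x : Ω) ∈ X := hXall _ hxE (congrArg Subtype.val hxp)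
      have h1 : r (σ.η ^ m) ⟨x, hxX⟩ = ⟨x, hxX⟩ := Subtype.ext ((htη _ hxE).symm.trans hxt)
      have h2 := hneg ((⟨x, hxX⟩ : X) : ↥X ⧸ Subgroup.center ↥X)
      rw [hρ, h1, eq_inv_iff_mul_eq_one] at h2
      have h3 := hsq _ (hQexp _) h2
      rw [QuotientGroup.eq_one_iff] at h3
      obtain ⟨k, hk⟩ := hZgen _ h3
      refine Subgroup.mem_zpowers_iff.mpr ⟨k, Subtype.ext ?_⟩
      have := congrArg Subtype.val hk
      simpa using this.symm
    exfalso
    obtain ⟨i, hi⟩ := σ.img x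
    set φ := r (TorusAutomiser89.cN F hlt.le x)
    have hφ : ∀ y : X, ((φ y : X) : Ω) = cj (x : Ω) y := fun y =>
      TorusAutomiser89.afun_cN _ _ (hXE y.2)
    obtain ⟨haw1, haw2⟩ := PlaneTorus89.apply_zpow_of (hQcomm _ _) σ.D.av σ.D.aw i
    have hφa : ((φ a : X) : ↥X ⧸ Subgroup.center ↥X) = (a : ↥X ⧸ Subgroup.center ↥X) := by
      rw [← hρ, hi, ha, haw1]
    have hφz : φ z = z := by
      refine map_commutator_eq hXexp' hcen φ (i := 1) (j := 1) (k := i) ?_ ?_ (by simp)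
      · rw [hφa, zpow_one]
      · rw [← hρ, hi, ha, hb, haw2, zpow_one]
    obtain ⟨z₁, hz1def⟩ : ∃ u, u = a⁻¹ * φ a := ⟨_, rfl⟩
    have hz₁ : z₁ ∈ Subgroup.center X := hz1def ▸ QuotientGroup.eq.mp hφa.symm
    have hz₁φ : φ z₁ = z₁ := hfixc _ hφz _ hz₁
    set τ := r (σ.η ^ m) with hτdef
    have hz₁τ : τ z₁ = z₁ := hfixc _ htz _ hz₁
    obtain ⟨z₂, hz2def⟩ : ∃ u, u = a * τ a := ⟨_, rfl⟩
    have hz₂ : z₂ ∈ Subgroup.center X := by
      have h1 := hρ (σ.η ^ m) a
      rw [hneg, ← QuotientGroup.mk_inv, QuotientGroup.eq, inv_inv] at h1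
      rw [hz2def]; exact h1
    have hcommτ : τ (φ a) = φ (τ a) := by
      refine Subtype.ext ?_
      rw [hφ, hτdef, coe_resHom, hφ, coe_resHom,
        ← htη _ (cj_mem_of_normalizer x.2.2 (hXE a.2)), ← htη _ (hXE a.2)]
      have hm := (((mem_autGroup (P := normalizerIn S E) inf_le_left).mp (pow_mem σ.θF m)).map_cj x.2 (hEN (hXE a.2)))
      rw [← htdef] at hm
      exact hm.trans (by rw [hxt])
    have hφea : φ a = a * z₁ := by rw [hz1def, mul_inv_cancel_left]
    have hτea : τ a = a⁻¹ * z₂ := by rw [hz2def, inv_mul_cancel_left]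
    rw [hφea, hτea, map_mul, map_mul, map_inv, hz₁τ, hτea, hφea, hfixc _ hφz _ hz₂, mul_inv_rev]
      at hcommτ
    have hz1sq : z₁ * z₁ = 1 := by
      refine eq_inv_iff_mul_eq_one.mp (mul_left_cancel (a := a⁻¹ * z₂) ?_)
      rw [hcommτ, mul_assoc _ a⁻¹, ← Subgroup.mem_center_iff.mp (inv_mem hz₁) (a⁻¹ * z₂)]
    have hz10 := hsq z₁ (hXexp' _) hz1sq
    rw [hz10, mul_one] at hφea
    have hcxa : Commute (x : Ω) (a : Ω) := by
      have h1 : cj (x : Ω) a = a := (hφ a).symm.trans (congrArg Subtype.val hφea)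
      exact mul_inv_eq_iff_eq_mul.mp h1
    have hcxz : Commute (x : Ω) (z : Ω) := by
      have h1 : cj (x : Ω) (z : X) = (z : X) := (hφ z).symm.trans (congrArg Subtype.val hφz)
      exact mul_inv_eq_iff_eq_mul.mp h1
    refine false_of_triple hrk (hXS (z : X).2) (hXS a.2) x.2.1 (hXexp _ z.2) (hXexp _ a.2)
      (congrArg Subtype.val hxp) (congrArg Subtype.val (Subgroup.mem_center_iff.mp hzc a)).symm
      hcxz.symm hcxa.symm (fun h => hz1 (Subtype.ext h)) ?_ fun h => hxE (hXE ?_)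
    · rw [← Subgroup.zpowers_eq_closure]
      intro h
      obtain ⟨k, hk⟩ := Subgroup.mem_zpowers_iff.mp h
      apply σ.D.v_ne
      rw [← ha, QuotientGroup.eq_one_iff,
        show a = z ^ k from Subtype.ext (by simpa using hk.symm)]
      exact (Subgroup.center X).zpow_mem hzc k
    · refine (Subgroup.closure_le _).mpr ?_ h
      rintro y (rfl | rfl)
      · exact z.2
      · exact a.2
  -- so the fixed points form a cyclic group
  have hN : IsPGroup p ↥(normalizerIn S E) := hS.to_le inf_le_left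
  have hzN : orderOf zN = p := orderOf_eq_prime (Subtype.ext (hXexp _ z.2))
    (fun h => hz1 (Subtype.ext (congrArg Subtype.val h :)))
  have hcyc : IsCyclic D := by
    by_contra hnc'
    obtain ⟨A, -, hAc, hA⟩ := PGroupsCyclic.exists_normal_elementary_sq (hN.to_subgroup D) hp2 hnc'
    have hle : A.map D.subtype ≤ Subgroup.zpowers zN := by
      rintro _ ⟨y, hy, rfl⟩
      exact huniq y y.2 (congrArg Subtype.val (hA.2 y hy))
    have := Subgroup.card_le_of_le hle
    rw [Subgroup.card_map_of_injective D.subtype_injective, hAc, Nat.card_zpowers, hzN] at this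
    have := (Nat.pow_le_pow_iff_right hp.out.one_lt).mp (this.trans_eq (pow_one p).symm)
    omega
  obtain ⟨⟨d, hdD⟩, hd⟩ := hcyc.exists_generator
  have hgen : ∀ x ∈ D, ∃ k : ℤ, d ^ k = x := fun x hx => by
    obtain ⟨k, hk⟩ := Subgroup.mem_zpowers_iff.mp (hd ⟨x, hx⟩)
    exact ⟨k, congrArg Subtype.val hk⟩
  have hθD : σ.θ d ∈ D := by
    show t (σ.θ d) = σ.θ d
    rw [← MulAut.mul_apply, htdef, ← pow_succ, pow_succ', MulAut.mul_apply]
    exact congrArg σ.θ (hdD : t d = d)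
  obtain ⟨n, hn⟩ := hgen _ hθD
  have hzD : zN ∈ D := by
    show t zN = zN
    refine Subtype.ext ?_
    rw [← afun_coe, htη _ (hXE (z : X).2)]
    exact congrArg Subtype.val htz
  obtain ⟨k, hk⟩ := hgen _ hzD
  have hn1 : ((n : ℤ) : ZMod p) = 1 := by
    have h1 : zN ^ n = zN := by
      conv_rhs => rw [← hθz, ← hk, map_zpow, ← hn, ← zpow_mul, mul_comm, zpow_mul, hk]
    have h2 : zN ^ (n - 1) = 1 := by rw [zpow_sub, h1, zpow_one, mul_inv_cancel]
    rw [← orderOf_dvd_iff_zpow_eq_one, hzN] at h2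
    have := (ZMod.intCast_zmod_eq_zero_iff_dvd _ p).mpr h2
    push_cast at this
    exact sub_eq_zero.mp this
  obtain ⟨i, hi⟩ := σ.img d
  have hi' := σ.conj d i hi
  rw [← hn, map_zpow, map_zpow, hi, ← zpow_mul] at hi'
  have hdiv := σ.pow_a (i * n - i * σ.D.c * σ.D.c) (by rw [zpow_sub, hi', mul_inv_cancel])
  have hi0 : ((i : ℤ) : ZMod p) ≠ 0 := by
    intro h0
    obtain ⟨l, hl⟩ := hgen σ.g σ.gfix
    apply σ.gE
    have hd1 : ρ (TorusAutomiser89.cN F hlt.le d) = 1 := by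
      obtain ⟨l', hl'⟩ := (ZMod.intCast_zmod_eq_zero_iff_dvd _ p).mp h0
      rw [hi, hl', zpow_mul, zpow_natCast]
      have hap : ρ σ.D.a ^ p = 1 := by
        refine MulEquiv.ext fun u => ?_
        obtain ⟨e, f, rfl⟩ := σ.D.span u
        obtain ⟨h1, h2⟩ := PlaneTorus89.apply_pow_of (hQcomm _ _) σ.D.av σ.D.aw p
        rw [map_mul, map_zpow, map_zpow, h1, h2, hQexp, mul_one, MulAut.one_apply]
      rw [hap, one_zpow]
    rw [← hl]
    have := σ.mem_E d hd1
    simpa using E.zpow_mem this l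
  have h4 := (ZMod.intCast_zmod_eq_zero_iff_dvd _ p).mpr hdiv
  push_cast at h4
  rw [hn1, mul_one, mul_assoc, ← mul_one_sub, mul_eq_zero, sub_eq_zero] at h4
  have hc2 : ((σ.D.c : ℤ) : ZMod p) ^ 2 = 1 := by
    rw [sq]; exact (h4.resolve_left hi0).symm
  have h5 := Nat.le_of_dvd two_pos (σ.D.ord ▸ orderOf_dvd_of_pow_eq_one hc2)
  omega

end Cfsg.Agent.ExtraspecialNotEssential89
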