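import Mathlib
import Cfsg.Prelude.Def_Transfer
import Cfsg.Agent.Lib.PGroupsBasic

/-!
# Special and extraspecial `p`-groups

The commutator pairing into a central subgroup `⟨z⟩` of order `p`, splitting off hyperbolic planes,
decompositions, and the isomorphism theorem for two decompositions of the same type.
-/

set_option autoImplicit false
set_option linter.style.haveILetI false
set_option linter.unusedSectionVars false

namespace Cfsg.Agent.PGroupsExtraspecial

open Subgroup Cfsg.Agent.PGroupsBasic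
open scoped commutatorElement

variable {G : Type*} [Group G]

/-! ### The commutator homomorphism -/

/-- `g ↦ ⁅g, e⁆`, a homomorphism when all these commutators are central. -/
def commHom (e : G) (h : ∀ g : G, ⁅g, e⁆ ∈ center G) : G →* G where
  toFun g := ⁅g, e⁆
  map_one' := commutatorElement_one_left e
  map_mul' _ b := commutatorElement_mul_left_of_central (h b)

@[simp] theorem commHom_apply (e : G) (h : ∀ g : G, ⁅g, e⁆ ∈ center G) (g : G) :
    commHom e h g = ⁅g, e⁆ := rfl

theorem mem_centralizer_singleton {g e : G} : g ∈ centralizer ({e} : Set G) ↔ ⁅g, e⁆ = 1 := by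
  rw [mem_centralizer_iff, commutatorElement_eq_one_iff_mul_comm]
  simp only [Set.mem_singleton_iff, forall_eq]
  exact eq_comm

theorem mem_centralizer_singleton_symm {g e : G} :
    g ∈ centralizer ({e} : Set G) ↔ ⁅e, g⁆ = 1 := by
  rw [mem_centralizer_singleton, commutatorElement_eq_one_iff_mul_comm,
    commutatorElement_eq_one_iff_mul_comm, eq_comm]

theorem commute_of_comm_eq_one {a b : G} (h : ⁅a, b⁆ = 1) : a * b = b * a :=
  commutatorElement_eq_one_iff_mul_comm.mp h

/-! ### The context: a central subgroup `⟨z⟩` of order `p` -/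

/-- `z` is central of order `p`. -/
def IsCentralPrime (p : ℕ) (z : G) : Prop := z ∈ center G ∧ orderOf z = p

/-- Every commutator with an element of `F` lies in `⟨z⟩`. -/
def CommInto (z : G) (F : Subgroup G) : Prop := ∀ g : G, ∀ e ∈ F, ⁅g, e⁆ ∈ zpowers z

/-- `F` contains `z` and only `⟨z⟩` centralizes it inside itself. -/
def Nondeg (z : G) (F : Subgroup G) : Prop :=
  zpowers z ≤ F ∧ F ⊓ centralizer (F : Set G) ≤ zpowers z

variable {p : ℕ} [hp : Fact p.Prime] {z : G}

theorem exists_nat_pow (hz : IsCentralPrime p z) {g : G} (hg : g ∈ zpowers z) :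
    ∃ k : ℕ, z ^ k = g := by
  have hfin : IsOfFinOrder z := orderOf_pos_iff.mp (hz.2 ▸ hp.out.pos)
  exact (Submonoid.mem_powers_iff g z).mp (hfin.mem_powers_iff_mem_zpowers.mpr hg)

theorem pow_eq_one_iff (hz : IsCentralPrime p z) (k : ℕ) : z ^ k = 1 ↔ p ∣ k := by
  rw [← orderOf_dvd_iff_pow_eq_one, hz.2]

theorem pow_inj_mod (hz : IsCentralPrime p z) (k l : ℕ) : z ^ k = z ^ l ↔ k % p = l % p := by
  rw [pow_eq_pow_iff_modEq, hz.2]; rfl

theorem pow_prime_eq_one (hz : IsCentralPrime p z) : z ^ p = 1 := (pow_eq_one_iff hz p).mpr dvd_rfl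

theorem ne_one (hz : IsCentralPrime p z) : z ≠ 1 :=
  fun h => hp.out.one_lt.ne' (by rw [← hz.2, h, orderOf_one])

theorem zpowers_le_center (hz : IsCentralPrime p z) : zpowers z ≤ center G := zpowers_le.mpr hz.1

theorem zpowers_eq_of_ne_one (hz : IsCentralPrime p z) {c : G} (hc : c ∈ zpowers z) (h1 : c ≠ 1) :
    zpowers c = zpowers z := by
  have hcard : Nat.card (zpowers z) = p := by rw [Nat.card_zpowers, hz.2]
  rcases le_or_inf_eq_bot hcard (zpowers c) with h | h
  · exact le_antisymm (zpowers_le.mpr hc) h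
  · refine absurd ?_ h1
    have : c ∈ zpowers z ⊓ zpowers c := ⟨hc, mem_zpowers c⟩
    rwa [h, mem_bot] at this

theorem CommInto.mem_center (hz : IsCentralPrime p z) {F : Subgroup G} (hF : CommInto z F)
    {e : G} (he : e ∈ F) (g : G) : ⁅g, e⁆ ∈ center G :=
  zpowers_le_center hz (hF g e he)

theorem CommInto.mem' {F : Subgroup G} (hF : CommInto z F) {e : G} (he : e ∈ F) (g : G) :
    ⁅e, g⁆ ∈ zpowers z := by
  rw [← commutatorElement_inv]
  exact inv_mem (hF g e he)

theorem CommInto.mono {F F' : Subgroup G} (hF : CommInto z F) (h : F' ≤ F) : CommInto z F' :=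
  fun g e he => hF g e (h he)

theorem relIndex_inf_centralizer (hz : IsCentralPrime p z) {e : G}
    (he : ∀ g : G, ⁅g, e⁆ ∈ zpowers z) {S : Subgroup G} {g : G} (hg : g ∈ S) (hge : ⁅g, e⁆ ≠ 1) :
    (S ⊓ centralizer ({e} : Set G)).relIndex S = p := by
  have hc : ∀ g : G, ⁅g, e⁆ ∈ center G := fun g => zpowers_le_center hz (he g)
  rw [inf_relIndex_left]
  have hker : (centralizer ({e} : Set G)).subgroupOf S = ((commHom e hc).comp S.subtype).ker := by
    ext x
    rw [mem_subgroupOf, MonoidHom.mem_ker]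
    exact mem_centralizer_singleton
  have hrange : ((commHom e hc).comp S.subtype).range = zpowers z := by
    refine le_antisymm (by rintro _ ⟨x, rfl⟩; exact he x) ?_
    rw [← zpowers_eq_of_ne_one hz (he g) hge, zpowers_le]
    exact ⟨⟨g, hg⟩, rfl⟩
  rw [relIndex, hker, index_ker, hrange, Nat.card_zpowers, hz.2]

/-- A noncentral element of a nondegenerate `F` has a partner with commutator exactly `z`. -/
theorem exists_partner (hz : IsCentralPrime p z) {F : Subgroup G} (hF : CommInto z F)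
    (hnd : Nondeg z F) {x : G} (hx : x ∈ F) (hxz : x ∉ zpowers z) :
    ∃ y ∈ F, ⁅x, y⁆ = z := by
  obtain ⟨w, hw, hxw⟩ : ∃ w ∈ F, ⁅x, w⁆ ≠ 1 := by
    by_contra h
    push Not at h
    exact hxz (hnd.2 ⟨hx, mem_centralizer_iff.mpr fun w hw =>
      (commute_of_comm_eq_one (h w hw)).symm⟩)
  have hzc : z ∈ zpowers ⁅x, w⁆ := by
    rw [zpowers_eq_of_ne_one hz (hF x w hw) hxw]; exact mem_zpowers z
  have hz' : IsCentralPrime p ⁅x, w⁆ := by
    refine ⟨hF.mem_center hz hw x, ?_⟩
    rw [← Nat.card_zpowers, zpowers_eq_of_ne_one hz (hF x w hw) hxw, Nat.card_zpowers, hz.2]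
  obtain ⟨k, hk⟩ := exists_nat_pow hz' hzc
  exact ⟨w ^ k, pow_mem hw k, by rw [commutatorElement_pow_right (hF.mem_center hz hw x), hk]⟩

/-- The orthogonal complement of the plane of `x` and `y`. -/
def perp (F : Subgroup G) (x y : G) : Subgroup G :=
  F ⊓ centralizer ({x} : Set G) ⊓ centralizer ({y} : Set G)

theorem perp_le (F : Subgroup G) (x y : G) : perp F x y ≤ F := inf_le_left.trans inf_le_left

/-- Modulo the plane of `x`, `y`, every element centralizes `x` and `y`. -/
theorem exists_plane_mul (hz : IsCentralPrime p z) {F : Subgroup G} (hF : CommInto z F) {x y : G}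
    (hx : x ∈ F) (hy : y ∈ F) (hxy : ⁅x, y⁆ = z) (g : G) :
    ∃ i j : ℕ, ⁅(x ^ i * y ^ j)⁻¹ * g, x⁆ = 1 ∧ ⁅(x ^ i * y ^ j)⁻¹ * g, y⁆ = 1 := by
  obtain ⟨i, hi⟩ := exists_nat_pow hz (hF g y hy)
  have hyx : ⁅y, x⁆ = z⁻¹ := by rw [← commutatorElement_inv, hxy]
  obtain ⟨j, hj⟩ := exists_nat_pow hz (inv_mem (hF g x hx))
  refine ⟨i, j, ?_, ?_⟩
  · rw [← commHom_apply x (fun g => hF.mem_center hz hx g), map_mul, map_inv, map_mul, map_pow,
      map_pow]
    simp only [commHom_apply, commutatorElement_self, one_pow, one_mul, hyx, inv_pow, inv_inv, hj]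
    rw [mul_eq_one_iff_eq_inv]
  · rw [← commHom_apply y (fun g => hF.mem_center hz hy g), map_mul, map_inv, map_mul, map_pow,
      map_pow]
    simp only [commHom_apply, commutatorElement_self, one_pow, mul_one, hxy, hi, inv_mul_cancel]

theorem exists_plane_mul_perp (hz : IsCentralPrime p z) {F : Subgroup G} (hF : CommInto z F)
    {x y : G} (hx : x ∈ F) (hy : y ∈ F) (hxy : ⁅x, y⁆ = z) {g : G} (hg : g ∈ F) :
    ∃ i j : ℕ, ∃ h ∈ perp F x y, g = x ^ i * y ^ j * h := by
  obtain ⟨i, j, h1, h2⟩ := exists_plane_mul hz hF hx hy hxy g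
  refine ⟨i, j, (x ^ i * y ^ j)⁻¹ * g, ⟨⟨?_, mem_centralizer_singleton.mpr h1⟩,
    mem_centralizer_singleton.mpr h2⟩, (mul_inv_cancel_left _ _).symm⟩
  exact F.mul_mem (F.inv_mem (F.mul_mem (pow_mem hx i) (pow_mem hy j))) hg

theorem nondeg_perp (hz : IsCentralPrime p z) {F : Subgroup G} (hF : CommInto z F)
    (hnd : Nondeg z F) {x y : G} (hx : x ∈ F) (hy : y ∈ F) (hxy : ⁅x, y⁆ = z) :
    Nondeg z (perp F x y) := by
  refine ⟨le_inf (le_inf hnd.1 ?_) ?_, fun w hw => hnd.2 ⟨perp_le F x y hw.1, ?_⟩⟩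
  · exact (zpowers_le_center hz).trans (center_le_centralizer _)
  · exact (zpowers_le_center hz).trans (center_le_centralizer _)
  · refine mem_centralizer_iff.mpr fun g hg => ?_
    obtain ⟨i, j, h, hh, rfl⟩ := exists_plane_mul_perp hz hF hx hy hxy hg
    have c1 : Commute w x := commute_of_comm_eq_one (mem_centralizer_singleton.mp hw.1.1.2)
    have c2 : Commute w y := commute_of_comm_eq_one (mem_centralizer_singleton.mp hw.1.2)
    have c3 : Commute w h := (mem_centralizer_iff.mp hw.2 h hh).symm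
    exact (((c1.pow_right i).mul_right (c2.pow_right j)).mul_right c3).symm

theorem card_perp (hz : IsCentralPrime p z) {F : Subgroup G} (hF : CommInto z F) {x y : G}
    (hx : x ∈ F) (hy : y ∈ F) (hxy : ⁅x, y⁆ = z) :
    Nat.card F = Nat.card (perp F x y) * p ^ 2 := by
  have hxy1 : ⁅x, y⁆ ≠ 1 := hxy ▸ ne_one hz
  have hyx1 : ⁅y, x⁆ ≠ 1 := by rwa [← commutatorElement_inv, ne_eq, inv_eq_one]
  have h1 := relIndex_inf_centralizer (S := F) hz (fun g => hF g x hx) hy hyx1
  have h2 := relIndex_inf_centralizer (S := F ⊓ centralizer ({x} : Set G)) hz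
    (fun g => hF g y hy) ⟨hx, mem_centralizer_singleton.mpr (commutatorElement_self x)⟩ hxy1
  have h3 := relIndex_mul_relIndex ⊥ (perp F x y) (F ⊓ centralizer ({x} : Set G)) bot_le inf_le_left
  have h4 := relIndex_mul_relIndex ⊥ (F ⊓ centralizer ({x} : Set G)) F bot_le inf_le_left
  rw [relIndex_bot_left, relIndex_bot_left] at h3 h4
  rw [show (perp F x y).relIndex (F ⊓ centralizer ({x} : Set G)) = p from h2] at h3
  rw [h1] at h4
  rw [← h4, ← h3]; ring

theorem eq_zpowers_or_exists {F : Subgroup G} (hnd : Nondeg z F) :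
    F = zpowers z ∨ ∃ x ∈ F, x ∉ zpowers z := by
  by_cases h : ∃ x ∈ F, x ∉ zpowers z
  · exact Or.inr h
  · push Not at h; exact Or.inl (le_antisymm h hnd.1)

/-- A nondegenerate subgroup has order an odd power of `p`. -/
theorem exists_card_eq [Finite G] (hz : IsCentralPrime p z) :
    ∀ {F : Subgroup G}, CommInto z F → Nondeg z F → ∃ n : ℕ, Nat.card F = p ^ (2 * n + 1) := by
  intro F
  induction hn : Nat.card F using Nat.strong_induction_on generalizing F with
  | _ n ih =>
    intro hF hnd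
    subst hn
    rcases eq_zpowers_or_exists hnd with rfl | ⟨x, hx, hxz⟩
    · exact ⟨0, by rw [Nat.card_zpowers, hz.2, mul_zero, zero_add, pow_one]⟩
    · obtain ⟨y, hy, hxy⟩ := exists_partner hz hF hnd hx hxz
      have hcard := card_perp hz hF hx hy hxy
      obtain ⟨k, hk⟩ := ih (Nat.card (perp F x y)) (by
          rw [hcard]
          exact lt_mul_of_one_lt_right Nat.card_pos (Nat.one_lt_pow two_ne_zero hp.out.one_lt))
        rfl (hF.mono (perp_le F x y)) (nondeg_perp hz hF hnd hx hy hxy)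
      exact ⟨k + 1, by rw [hcard, hk, ← pow_add]; ring_nf⟩

/-- `G = F C(F)` for nondegenerate `F` with all `⁅G, F⁆ ≤ ⟨z⟩`. -/
theorem exists_mul_centralizer [Finite G] (hz : IsCentralPrime p z) :
    ∀ {F : Subgroup G}, CommInto z F → Nondeg z F → ∀ g : G,
      ∃ f ∈ F, f⁻¹ * g ∈ centralizer (F : Set G) := by
  intro F
  induction hn : Nat.card F using Nat.strong_induction_on generalizing F with
  | _ n ih =>
    intro hF hnd g
    subst hn
    rcases eq_zpowers_or_exists hnd with rfl | ⟨x, hx, hxz⟩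
    · refine ⟨1, one_mem _, mem_centralizer_iff.mpr fun c hc => ?_⟩
      exact (mem_center_iff.mp (zpowers_le_center hz hc) _).symm
    · obtain ⟨y, hy, hxy⟩ := exists_partner hz hF hnd hx hxz
      have hlt : Nat.card (perp F x y) < Nat.card F := by
        rw [card_perp hz hF hx hy hxy]
        exact lt_mul_of_one_lt_right Nat.card_pos (Nat.one_lt_pow two_ne_zero hp.out.one_lt)
      obtain ⟨i, j, h1, h2⟩ := exists_plane_mul hz hF hx hy hxy g
      obtain ⟨f, hf, hfC⟩ := ih _ hlt rfl (hF.mono (perp_le F x y))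
        (nondeg_perp hz hF hnd hx hy hxy) ((x ^ i * y ^ j)⁻¹ * g)
      refine ⟨x ^ i * y ^ j * f, mul_mem (mul_mem (pow_mem hx i) (pow_mem hy j)) (perp_le F x y hf),
        mem_centralizer_iff.mpr fun w hw => ?_⟩
      rw [mul_inv_rev, mul_assoc]
      obtain ⟨k, l, h, hh, rfl⟩ := exists_plane_mul_perp hz hF hx hy hxy hw
      have c1 : Commute (f⁻¹ * ((x ^ i * y ^ j)⁻¹ * g)) x :=
        (Commute.inv_left (commute_of_comm_eq_one (mem_centralizer_singleton.mp hf.1.2))).mul_left
          (commute_of_comm_eq_one h1)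
      have c2 : Commute (f⁻¹ * ((x ^ i * y ^ j)⁻¹ * g)) y :=
        (Commute.inv_left (commute_of_comm_eq_one (mem_centralizer_singleton.mp hf.2))).mul_left
          (commute_of_comm_eq_one h2)
      have c3 : Commute (f⁻¹ * ((x ^ i * y ^ j)⁻¹ * g)) h :=
        (mem_centralizer_iff.mp hfC h hh).symm
      exact (((c1.pow_right k).mul_right (c2.pow_right l)).mul_right c3).symm

theorem sup_centralizer_eq_top [Finite G] (hz : IsCentralPrime p z) {F : Subgroup G}
    (hF : CommInto z F) (hnd : Nondeg z F) : F ⊔ centralizer (F : Set G) = ⊤ := by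
  refine eq_top_iff.mpr fun g _ => ?_
  obtain ⟨f, hf, hfg⟩ := exists_mul_centralizer hz hF hnd g
  have := mul_mem_sup hf hfg
  rwa [mul_inv_cancel_left] at this

/-! ### Decompositions and isomorphism types -/

/-- The subgroup generated by a pair and `z`. -/
def plane (x y z : G) : Subgroup G := closure {x, y, z}

theorem mem_plane_left (x y z : G) : x ∈ plane x y z := subset_closure (by simp)
theorem mem_plane_mid (x y z : G) : y ∈ plane x y z := subset_closure (by simp)
theorem mem_plane_right (x y z : G) : z ∈ plane x y z := subset_closure (by simp)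

/-- The normal form `x^i y^j z^k`. -/
def nf (x y z : G) (t : ℕ × ℕ × ℕ) : G := x ^ t.1 * y ^ t.2.1 * z ^ t.2.2

theorem nf_mul (hz : IsCentralPrime p z) {x y : G} (hxy : ⁅x, y⁆ = z) (t u : ℕ × ℕ × ℕ) :
    nf x y z t * nf x y z u =
      nf x y z (t.1 + u.1, t.2.1 + u.2.1, t.2.2 + u.2.2 + (p - 1) * (t.2.1 * u.1)) := by
  obtain ⟨i, j, k⟩ := t
  obtain ⟨i', j', k'⟩ := u
  simp only [nf]
  have hyx : ⁅y, x⁆ = z ^ (p - 1) := by
    rw [← commutatorElement_inv, hxy, inv_eq_iff_mul_eq_one, ← pow_succ']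
    rw [Nat.sub_add_cancel hp.out.pos]
    exact pow_prime_eq_one hz
  have hc : ∀ (n : ℕ) (g : G), g * z ^ n = z ^ n * g := fun n g => mem_center_comm (pow_mem hz.1 n) g
  have hc2 : ⁅y, x ^ i'⁆ ∈ center G := by
    rw [commutatorElement_pow_right (hyx ▸ pow_mem hz.1 _), hyx]; exact pow_mem (pow_mem hz.1 _) _
  have hsw : y ^ j * x ^ i' = x ^ i' * y ^ j * z ^ ((p - 1) * (j * i')) := by
    rw [comm_mul_eq (y ^ j) (x ^ i'), commutatorElement_pow_left hc2,
      commutatorElement_pow_right (hyx ▸ pow_mem hz.1 _), hyx, ← pow_mul, ← pow_mul, ← hc]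
    congr 2
    ring
  calc x ^ i * y ^ j * z ^ k * (x ^ i' * y ^ j' * z ^ k')
      = x ^ i * (y ^ j * x ^ i') * y ^ j' * (z ^ k * z ^ k') := by
        rw [mul_assoc (x ^ i * y ^ j) (z ^ k), ← mul_assoc (z ^ k), ← hc k]
        simp only [mul_assoc]
    _ = x ^ i * x ^ i' * (y ^ j * y ^ j') * (z ^ k * z ^ k' * z ^ ((p - 1) * (j * i'))) := by
        rw [hsw]
        simp only [← pow_add z]
        rw [← mul_assoc (x ^ i), mul_assoc _ (z ^ _) (y ^ j'), ← hc]
        simp only [mul_assoc, ← pow_add z]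
        rw [Nat.add_comm ((p - 1) * (j * i'))]
    _ = _ := by simp only [← pow_add]

theorem exists_nf (hz : IsCentralPrime p z) [Finite G] {x y : G} (hxy : ⁅x, y⁆ = z) {g : G}
    (hg : g ∈ plane x y z) : ∃ t, nf x y z t = g := by
  have hpowmem : ∀ w : G, (∃ t, nf x y z t = w) → ∀ n : ℕ, ∃ t, nf x y z t = w ^ n := by
    rintro w ⟨t, rfl⟩ n
    induction n with
    | zero => exact ⟨(0, 0, 0), by simp [nf]⟩
    | succ n ih =>
      obtain ⟨u, hu⟩ := ih
      rw [pow_succ, ← hu, nf_mul hz hxy]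
      exact ⟨_, rfl⟩
  induction hg using closure_induction with
  | mem w hw =>
    rcases hw with rfl | rfl | rfl
    · exact ⟨(1, 0, 0), by simp [nf]⟩
    · exact ⟨(0, 1, 0), by simp [nf]⟩
    · exact ⟨(0, 0, 1), by simp [nf]⟩
  | one => exact ⟨(0, 0, 0), by simp [nf]⟩
  | mul a b _ _ iha ihb =>
    obtain ⟨t, rfl⟩ := iha
    obtain ⟨u, rfl⟩ := ihb
    exact ⟨_, (nf_mul hz hxy t u).symm⟩
  | inv a _ iha =>
    obtain ⟨n, hn⟩ : ∃ n : ℕ, a ^ n = a⁻¹ :=
      ⟨orderOf a - 1, eq_inv_of_mul_eq_one_left (by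
        rw [← pow_succ, Nat.sub_add_cancel (orderOf_pos a), pow_orderOf_eq_one])⟩
    exact hn ▸ hpowmem a iha n

/-- Reduced coordinates. -/
def red (p a b : ℕ) (t : ℕ × ℕ × ℕ) : ℕ × ℕ × ℕ :=
  (t.1 % p, t.2.1 % p, (t.2.2 + a * (t.1 / p) + b * (t.2.1 / p)) % p)

theorem nf_red (hz : IsCentralPrime p z) {x y : G} {a b : ℕ} (hx : x ^ p = z ^ a)
    (hy : y ^ p = z ^ b) (t : ℕ × ℕ × ℕ) : nf x y z (red p a b t) = nf x y z t := by
  obtain ⟨i, j, k⟩ := t
  have hc : ∀ (n : ℕ) (g : G), g * z ^ n = z ^ n * g := fun n g => mem_center_comm (pow_mem hz.1 n) g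
  simp only [nf, red]
  conv_rhs => rw [← Nat.mod_add_div i p, ← Nat.mod_add_div j p, pow_add, pow_add, pow_mul x,
    pow_mul y, hx, hy, ← pow_mul, ← pow_mul]
  rw [(pow_inj_mod hz ((k + a * (i / p) + b * (j / p)) % p) (k + a * (i / p) + b * (j / p))).mpr
    (Nat.mod_mod _ _)]
  rw [mul_assoc (x ^ (i % p)) (z ^ _) _, ← hc, mul_assoc (y ^ (j % p)), ← pow_add,
    ← mul_assoc (x ^ (i % p)), mul_assoc (x ^ (i % p) * y ^ (j % p)), ← pow_add]
  congr 2
  ring

theorem comm_nf_left (hz : IsCentralPrime p z) {x y : G} (hxy : ⁅x, y⁆ = z) (t : ℕ × ℕ × ℕ) :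
    ⁅x, nf x y z t⁆ = z ^ t.2.1 := by
  obtain ⟨i, j, k⟩ := t
  have h1 : ⁅x, x ^ i⁆ = 1 :=
    commutatorElement_eq_one_iff_mul_comm.mpr (Commute.self_pow x i).eq
  have h2 : ⁅x, z ^ k⁆ = 1 :=
    commutatorElement_eq_one_iff_mul_comm.mpr (mem_center_iff.mp (pow_mem hz.1 k) x)
  have h3 : ⁅x, y ^ j⁆ = z ^ j := by rw [commutatorElement_pow_right (hxy ▸ hz.1), hxy]
  simp only [nf]
  rw [commutatorElement_mul_right_of_central (h2 ▸ one_mem _), h2, mul_one,
    commutatorElement_mul_right_of_central (h3 ▸ pow_mem hz.1 j), h1, one_mul, h3]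

theorem comm_nf_right (hz : IsCentralPrime p z) {x y : G} (hxy : ⁅x, y⁆ = z) (t : ℕ × ℕ × ℕ) :
    ⁅nf x y z t, y⁆ = z ^ t.1 := by
  obtain ⟨i, j, k⟩ := t
  have h1 : ⁅y ^ j, y⁆ = 1 :=
    commutatorElement_eq_one_iff_mul_comm.mpr (Commute.pow_self y j).eq
  have h2 : ⁅z ^ k, y⁆ = 1 :=
    commutatorElement_eq_one_iff_mul_comm.mpr (mem_center_iff.mp (pow_mem hz.1 k) y).symm
  simp only [nf]
  rw [commutatorElement_mul_left_of_central (h2 ▸ one_mem _), h2, mul_one,
    commutatorElement_mul_left_of_central (h1 ▸ one_mem _), h1, mul_one,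
    commutatorElement_pow_left (hxy ▸ hz.1), hxy]

theorem nf_eq_iff (hz : IsCentralPrime p z) {x y : G} {a b : ℕ} (hxy : ⁅x, y⁆ = z)
    (hx : x ^ p = z ^ a) (hy : y ^ p = z ^ b) (t u : ℕ × ℕ × ℕ) :
    nf x y z t = nf x y z u ↔ red p a b t = red p a b u := by
  constructor
  · intro h
    have hi := comm_nf_right hz hxy t
    rw [h, comm_nf_right hz hxy u, pow_inj_mod hz] at hi
    have hj := comm_nf_left hz hxy t
    rw [h, comm_nf_left hz hxy u, pow_inj_mod hz] at hj
    rw [← nf_red hz hx hy t, ← nf_red hz hx hy u] at h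
    have e1 : (red p a b t).1 = (red p a b u).1 := hi.symm
    have e2 : (red p a b t).2.1 = (red p a b u).2.1 := hj.symm
    refine Prod.ext e1 (Prod.ext e2 ?_)
    rw [nf, nf, e1, e2, mul_right_inj, pow_inj_mod hz] at h
    simpa [red] using h
  · intro h
    rw [← nf_red hz hx hy t, h, nf_red hz hx hy u]

theorem plane_inf_centralizer_le [Finite G] (hz : IsCentralPrime p z) {x y : G} {a b : ℕ}
    (hxy : ⁅x, y⁆ = z) (hx : x ^ p = z ^ a) (hy : y ^ p = z ^ b) :
    plane x y z ⊓ (centralizer ({x} : Set G) ⊓ centralizer ({y} : Set G)) ≤ zpowers z := by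
  rintro g ⟨hg, hgx, hgy⟩
  obtain ⟨t, rfl⟩ := exists_nf hz hxy hg
  have h2 := mem_centralizer_singleton.mp hgy
  have h1 := mem_centralizer_singleton_symm.mp hgx
  rw [comm_nf_right hz hxy, pow_eq_one_iff hz] at h2
  rw [comm_nf_left hz hxy, pow_eq_one_iff hz] at h1
  rw [← nf_red hz hx hy t]
  have e1 : (red p a b t).1 = 0 := Nat.mod_eq_zero_of_dvd h2
  have e2 : (red p a b t).2.1 = 0 := Nat.mod_eq_zero_of_dvd h1
  rw [nf, e1, e2, pow_zero, pow_zero, one_mul, one_mul]
  exact pow_mem (mem_zpowers z) _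

/-- `Decomp p z F l`: `F` is a central product of planes with parameters `l` over `⟨z⟩`. -/
inductive Decomp (p : ℕ) (z : G) : Subgroup G → List (ℕ × ℕ) → Prop
  | nil : Decomp p z (zpowers z) []
  | cons {x y : G} {a b : ℕ} {F F' : Subgroup G} {l : List (ℕ × ℕ)} :
      ⁅x, y⁆ = z → x ^ p = z ^ a → y ^ p = z ^ b → Decomp p z F' l →
      (∀ w ∈ F', x * w = w * x) → (∀ w ∈ F', y * w = w * y) → F = plane x y z ⊔ F' →
      Decomp p z F ((a, b) :: l)

theorem eq_plane_sup_perp (hz : IsCentralPrime p z) {F : Subgroup G} (hF : CommInto z F)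
    (hnd : Nondeg z F) {x y : G} (hx : x ∈ F) (hy : y ∈ F) (hxy : ⁅x, y⁆ = z) :
    F = plane x y z ⊔ perp F x y := by
  refine le_antisymm (fun g hg => ?_) (sup_le ((closure_le _).mpr ?_) (perp_le F x y))
  · obtain ⟨i, j, h, hh, rfl⟩ := exists_plane_mul_perp hz hF hx hy hxy hg
    exact mul_mem_sup (mul_mem (pow_mem (mem_plane_left x y z) i) (pow_mem (mem_plane_mid x y z) j)) hh
  · rintro w (rfl | rfl | rfl)
    · exact hx
    · exact hy
    · exact hnd.1 (mem_zpowers w)

theorem Decomp.of_pair (hz : IsCentralPrime p z) {F : Subgroup G} (hF : CommInto z F)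
    (hnd : Nondeg z F) {x y : G} (hx : x ∈ F) (hy : y ∈ F) (hxy : ⁅x, y⁆ = z) {a b : ℕ}
    (ha : x ^ p = z ^ a) (hb : y ^ p = z ^ b) {l : List (ℕ × ℕ)}
    (hl : Decomp p z (perp F x y) l) : Decomp p z F ((a, b) :: l) :=
  Decomp.cons hxy ha hb hl
    (fun _ hw => (commute_of_comm_eq_one (mem_centralizer_singleton.mp hw.1.2)).symm)
    (fun _ hw => (commute_of_comm_eq_one (mem_centralizer_singleton.mp hw.2)).symm)
    (eq_plane_sup_perp hz hF hnd hx hy hxy)

/-- An isomorphism `F ≅ F'` sending `z` to `z'`, given by its graph. -/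
structure GraphIso {H : Type*} [Group H] (z : G) (z' : H) (F : Subgroup G) (F' : Subgroup H) where
  graph : Subgroup (G × H)
  map_fst : graph.map (MonoidHom.fst G H) = F
  map_snd : graph.map (MonoidHom.snd G H) = F'
  fst_one : ∀ γ ∈ graph, γ.1 = 1 → γ.2 = 1
  snd_one : ∀ γ ∈ graph, γ.2 = 1 → γ.1 = 1
  mem_z : (z, z') ∈ graph

theorem GraphIso.nonempty_mulEquiv {H : Type*} [Group H] {z' : H} {F : Subgroup G}
    {F' : Subgroup H} (Γ : GraphIso z z' F F') : Nonempty (F ≃* F') := by
  obtain ⟨Γ, h1, h2, h3, h4, -⟩ := Γ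
  have e1 : Function.Injective ((MonoidHom.fst G H).comp Γ.subtype) := by
    rw [← MonoidHom.ker_eq_bot_iff, eq_bot_iff]
    exact fun γ hγ => mem_bot.mpr (Subtype.ext (Prod.ext hγ (h3 γ γ.2 hγ)))
  have e2 : Function.Injective ((MonoidHom.snd G H).comp Γ.subtype) := by
    rw [← MonoidHom.ker_eq_bot_iff, eq_bot_iff]
    exact fun γ hγ => mem_bot.mpr (Subtype.ext (Prod.ext (h4 γ γ.2 hγ) hγ))
  have r1 : ((MonoidHom.fst G H).comp Γ.subtype).range = F := by
    rw [MonoidHom.range_comp, range_subtype, h1]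
  have r2 : ((MonoidHom.snd G H).comp Γ.subtype).range = F' := by
    rw [MonoidHom.range_comp, range_subtype, h2]
  exact ⟨((MulEquiv.subgroupCongr r1.symm).trans (MonoidHom.ofInjective e1).symm).trans
    ((MonoidHom.ofInjective e2).trans (MulEquiv.subgroupCongr r2))⟩

/-- Planes with the same parameters are isomorphic. -/
theorem plane_iso [Finite G] {H : Type*} [Group H] [Finite H] {z' : H} (hz : IsCentralPrime p z)
    (hz' : IsCentralPrime p z') {x y : G} {x' y' : H} {a b : ℕ} (hxy : ⁅x, y⁆ = z)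
    (hx : x ^ p = z ^ a) (hy : y ^ p = z ^ b) (hxy' : ⁅x', y'⁆ = z') (hx' : x' ^ p = z' ^ a)
    (hy' : y' ^ p = z' ^ b) :
    Nonempty (GraphIso z z' (plane x y z) (plane x' y' z')) := by
  have key : ∀ γ ∈ closure ({(x, x'), (y, y'), (z, z')} : Set (G × H)),
      ∃ t, (nf x y z t, nf x' y' z' t) = γ := by
    intro γ hγ
    induction hγ using closure_induction with
    | mem w hw =>
      rcases hw with rfl | rfl | rfl
      · exact ⟨(1, 0, 0), by simp [nf]⟩
      · exact ⟨(0, 1, 0), by simp [nf]⟩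
      · exact ⟨(0, 0, 1), by simp [nf]⟩
    | one => exact ⟨(0, 0, 0), Prod.ext (by simp [nf]) (by simp [nf])⟩
    | mul α β _ _ iha ihb =>
      obtain ⟨t, rfl⟩ := iha
      obtain ⟨u, rfl⟩ := ihb
      exact ⟨_, by rw [Prod.mk_mul_mk, nf_mul hz hxy, nf_mul hz' hxy']⟩
    | inv α hmem iha =>
      obtain ⟨t, rfl⟩ := iha
      obtain ⟨u, hu⟩ := exists_nf hz hxy (g := (nf x y z t)⁻¹) (inv_mem (mul_mem (mul_mem
        (pow_mem (mem_plane_left x y z) _) (pow_mem (mem_plane_mid x y z) _))
        (pow_mem (mem_plane_right x y z) _)))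
      refine ⟨u, Prod.ext hu ?_⟩
      have h1 : nf x y z t * nf x y z u = nf x y z (0, 0, 0) := by
        rw [hu, mul_inv_cancel]; simp [nf]
      rw [nf_mul hz hxy, nf_eq_iff hz hxy hx hy, ← nf_eq_iff hz' hxy' hx' hy',
        ← nf_mul hz' hxy'] at h1
      simp only [Prod.snd_inv]
      exact eq_inv_of_mul_eq_one_right (h1.trans (by simp [nf]))
  refine ⟨⟨closure {(x, x'), (y, y'), (z, z')}, ?_, ?_, ?_, ?_, subset_closure (by simp)⟩⟩
  · rw [MonoidHom.map_closure, plane]; congr 1; simp [Set.image_insert_eq]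
  · rw [MonoidHom.map_closure, plane]; congr 1; simp [Set.image_insert_eq]
  · intro γ hγ h1
    obtain ⟨t, rfl⟩ := key γ hγ
    have h0 : nf x y z t = nf x y z (0, 0, 0) := by simpa [nf] using h1
    rw [nf_eq_iff hz hxy hx hy, ← nf_eq_iff hz' hxy' hx' hy'] at h0
    simpa [nf] using h0
  · intro γ hγ h1
    obtain ⟨t, rfl⟩ := key γ hγ
    have h0 : nf x' y' z' t = nf x' y' z' (0, 0, 0) := by simpa [nf] using h1
    rw [nf_eq_iff hz' hxy' hx' hy', ← nf_eq_iff hz hxy hx hy] at h0
    simpa [nf] using h0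

/-- Decompositions with the same parameters give isomorphic subgroups. -/
theorem Decomp.iso [Finite G] {H : Type*} [Group H] [Finite H] {z' : H}
    (hz : IsCentralPrime p z) (hz' : IsCentralPrime p z') {F : Subgroup G} {l : List (ℕ × ℕ)}
    (hF : Decomp p z F l) :
    ∀ {F' : Subgroup H}, Decomp p z' F' l → Nonempty (GraphIso z z' F F') := by
  induction hF with
  | nil =>
    intro F' hF'
    cases hF'
    refine ⟨⟨zpowers (z, z'), ?_, ?_, ?_, ?_, mem_zpowers _⟩⟩
    · rw [MonoidHom.map_zpowers]; rfl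
    · rw [MonoidHom.map_zpowers]; rfl
    · rintro _ ⟨k, rfl⟩ h
      simp only [Prod.pow_fst, Prod.pow_snd] at h ⊢
      rw [← orderOf_dvd_iff_zpow_eq_one, hz.2] at h
      rwa [← orderOf_dvd_iff_zpow_eq_one, hz'.2]
    · rintro _ ⟨k, rfl⟩ h
      simp only [Prod.pow_fst, Prod.pow_snd] at h ⊢
      rw [← orderOf_dvd_iff_zpow_eq_one, hz'.2] at h
      rwa [← orderOf_dvd_iff_zpow_eq_one, hz.2]
  | @cons x y a b F₀ F₁ l hxy hx hy _ hcx hcy hsup ih =>
    intro F' hF'
    cases hF' with
    | @cons x' y' _ _ _ F₁' _ hxy' hx' hy' hd' hcx' hcy' hsup' =>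
      obtain ⟨Γ₁⟩ := plane_iso hz hz' hxy hx hy hxy' hx' hy'
      obtain ⟨Γ₂⟩ := ih hd'
      have hA : ∀ g ∈ plane x y z, ∀ w ∈ F₁, g * w = w * g := fun g hg w hw => by
        have : plane x y z ≤ centralizer ({w} : Set G) := (closure_le _).mpr (by
          rintro u (rfl | rfl | rfl)
          · exact mem_centralizer_singleton.mpr (commutatorElement_eq_one_iff_mul_comm.mpr (hcx w hw))
          · exact mem_centralizer_singleton.mpr (commutatorElement_eq_one_iff_mul_comm.mpr (hcy w hw))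
          · exact (center_le_centralizer _) hz.1)
        exact commute_of_comm_eq_one (mem_centralizer_singleton.mp (this hg))
      have hA' : ∀ g ∈ plane x' y' z', ∀ w ∈ F₁', g * w = w * g := fun g hg w hw => by
        have : plane x' y' z' ≤ centralizer ({w} : Set H) := (closure_le _).mpr (by
          rintro u (rfl | rfl | rfl)
          · exact mem_centralizer_singleton.mpr (commutatorElement_eq_one_iff_mul_comm.mpr (hcx' w hw))
          · exact mem_centralizer_singleton.mpr (commutatorElement_eq_one_iff_mul_comm.mpr (hcy' w hw))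
          · exact (center_le_centralizer _) hz'.1)
        exact commute_of_comm_eq_one (mem_centralizer_singleton.mp (this hg))
      have f1 : ∀ γ ∈ Γ₁.graph, γ.1 ∈ plane x y z ∧ γ.2 ∈ plane x' y' z' := fun γ h =>
        ⟨Γ₁.map_fst ▸ mem_map_of_mem _ h, Γ₁.map_snd ▸ mem_map_of_mem _ h⟩
      have f2 : ∀ γ ∈ Γ₂.graph, γ.1 ∈ F₁ ∧ γ.2 ∈ F₁' := fun γ h =>
        ⟨Γ₂.map_fst ▸ mem_map_of_mem _ h, Γ₂.map_snd ▸ mem_map_of_mem _ h⟩
      have hnorm : Γ₁.graph ≤ normalizer (Γ₂.graph : Set (G × H)) := by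
        refine le_trans (fun γ hγ => mem_centralizer_iff.mpr fun δ hδ => ?_)
          (centralizer_le_normalizer _)
        exact (Prod.ext (hA _ (f1 γ hγ).1 _ (f2 δ hδ).1) (hA' _ (f1 γ hγ).2 _ (f2 δ hδ).2)).symm
      have key : ∀ γ ∈ Γ₁.graph ⊔ Γ₂.graph, ∃ α ∈ Γ₁.graph, ∃ β ∈ Γ₂.graph, α * β = γ := by
        intro γ hγ
        rw [← SetLike.mem_coe, coe_mul_of_left_le_normalizer_right _ _ hnorm] at hγ
        exact Set.mem_mul.mp hγ
      refine ⟨⟨Γ₁.graph ⊔ Γ₂.graph, ?_, ?_, ?_, ?_, mem_sup_left Γ₁.mem_z⟩⟩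
      · rw [Subgroup.map_sup, Γ₁.map_fst, Γ₂.map_fst, hsup]
      · rw [Subgroup.map_sup, Γ₁.map_snd, Γ₂.map_snd, hsup']
      · intro γ hγ h
        obtain ⟨α, hα, β, hβ, rfl⟩ := key γ hγ
        have hin : α.1 ∈ zpowers z := by
          refine plane_inf_centralizer_le hz hxy hx hy ⟨(f1 α hα).1, ?_⟩
          rw [eq_inv_of_mul_eq_one_left (a := α.1) (b := β.1) h]
          refine Subgroup.inv_mem _ ⟨?_, ?_⟩
          · exact mem_centralizer_singleton_symm.mpr
              (commutatorElement_eq_one_iff_mul_comm.mpr (hcx _ (f2 β hβ).1))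
          · exact mem_centralizer_singleton_symm.mpr
              (commutatorElement_eq_one_iff_mul_comm.mpr (hcy _ (f2 β hβ).1))
        obtain ⟨k, hk⟩ := exists_nat_pow hz hin
        have e1 : (α * ((z, z') ^ k)⁻¹).2 = 1 :=
          Γ₁.fst_one _ (mul_mem hα (inv_mem (pow_mem Γ₁.mem_z k))) (by simp [hk])
        have e2 : ((z, z') ^ k * β).2 = 1 :=
          Γ₂.fst_one _ (mul_mem (pow_mem Γ₂.mem_z k) hβ) (by simpa [hk] using h)
        have := congrArg₂ (· * ·) e1 e2
        simpa [mul_assoc] using this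
      · intro γ hγ h
        obtain ⟨α, hα, β, hβ, rfl⟩ := key γ hγ
        have hin : α.2 ∈ zpowers z' := by
          refine plane_inf_centralizer_le hz' hxy' hx' hy' ⟨(f1 α hα).2, ?_⟩
          rw [eq_inv_of_mul_eq_one_left (a := α.2) (b := β.2) h]
          refine Subgroup.inv_mem _ ⟨?_, ?_⟩
          · exact mem_centralizer_singleton_symm.mpr
              (commutatorElement_eq_one_iff_mul_comm.mpr (hcx' _ (f2 β hβ).2))
          · exact mem_centralizer_singleton_symm.mpr
              (commutatorElement_eq_one_iff_mul_comm.mpr (hcy' _ (f2 β hβ).2))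
        obtain ⟨k, hk⟩ := exists_nat_pow hz' hin
        have e1 : (α * ((z, z') ^ k)⁻¹).1 = 1 :=
          Γ₁.snd_one _ (mul_mem hα (inv_mem (pow_mem Γ₁.mem_z k))) (by simp [hk])
        have e2 : ((z, z') ^ k * β).1 = 1 :=
          Γ₂.snd_one _ (mul_mem (pow_mem Γ₂.mem_z k) hβ) (by simpa [hk] using h)
        have := congrArg₂ (· * ·) e1 e2
        simpa [mul_assoc] using this

/-! ### Special groups -/

section Special

variable [Finite G]

theorem special_commutator_mem_center (h : IsSpecial p G) (a b : G) : ⁅a, b⁆ ∈ center G :=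
  h.2.2 ▸ commutator_mem_commutator (mem_top a) (mem_top b)

theorem special_pow_mem_center (h : IsSpecial p G) (a : G) : a ^ p ∈ center G :=
  h.2.1 ▸ pow_mem_frattini h.1 a

/-- The centre of a special group is elementary abelian. -/
theorem special_center_elementary (h : IsSpecial p G) : IsElementaryAbelian p (center G) := by
  rw [← h.2.2, commutator_eq_closure]
  refine isElementaryAbelian_closure ?_ ?_
  · rintro _ ⟨a, b, rfl⟩ y -
    exact (mem_center_iff.mp (special_commutator_mem_center h a b) y).symm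
  · rintro _ ⟨a, b, rfl⟩
    rw [← commutatorElement_pow_left (special_commutator_mem_center h a b),
      commutatorElement_eq_one_iff_mul_comm]
    exact (mem_center_iff.mp (special_pow_mem_center h a) b).symm

theorem extraspecial_exists_z (h : IsExtraspecial p G) :
    ∃ z : G, IsCentralPrime p z ∧ zpowers z = center G := by
  obtain ⟨z, hz, hzo⟩ := exists_orderOf_eq_of_ne_bot (p := p) (h.1.1.to_subgroup (center G))
    (fun hb => hp.out.one_lt.ne (by simpa [hb] using h.2))
  exact ⟨z, ⟨hz, hzo⟩, eq_of_le_of_card_ge (zpowers_le.mpr hz) (by rw [Nat.card_zpowers, hzo, h.2])⟩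

theorem extraspecial_commInto (h : IsExtraspecial p G) (hz : zpowers z = center G)
    (F : Subgroup G) : CommInto z F :=
  fun g e _ => hz ▸ special_commutator_mem_center h.1 g e

theorem extraspecial_nondeg_top (hz : zpowers z = center G) : Nondeg z (⊤ : Subgroup G) :=
  ⟨le_top, by rw [coe_top, centralizer_univ, hz]; exact inf_le_right⟩

theorem extraspecial_not_comm (h : IsExtraspecial p G) : center G ≠ ⊤ := by
  intro htop
  have h1 : commutator G = ⊥ := (commutator_eq_bot_iff_center_eq_top (G := G)).mpr htop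
  rw [h.1.2.2] at h1
  have := h.2
  rw [h1, card_bot] at this
  exact hp.out.one_lt.ne this

theorem extraspecial_card (h : IsExtraspecial p G) :
    ∃ n : ℕ, 1 ≤ n ∧ Nat.card G = p ^ (2 * n + 1) := by
  obtain ⟨z, hz, hzc⟩ := extraspecial_exists_z h
  obtain ⟨n, hn⟩ := exists_card_eq hz (extraspecial_commInto h hzc ⊤) (extraspecial_nondeg_top hzc)
  rw [card_top] at hn
  refine ⟨n, Nat.one_le_iff_ne_zero.mpr fun h0 => extraspecial_not_comm h ?_, hn⟩
  rw [h0] at hn
  exact eq_top_of_card_eq _ (by rw [h.2, hn]; simp)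

/-- The centralizer of a noncentral element of an extraspecial group has index `p`. -/
theorem extraspecial_index_centralizer (h : IsExtraspecial p G) {x : G} (hx : x ∉ center G) :
    (centralizer ({x} : Set G)).index = p := by
  obtain ⟨z, hz, hzc⟩ := extraspecial_exists_z h
  obtain ⟨y, -, hxy⟩ := exists_partner hz (extraspecial_commInto h hzc ⊤)
    (extraspecial_nondeg_top hzc) (mem_top x) (hzc ▸ hx)
  have := relIndex_inf_centralizer (S := ⊤) hz (e := x)
    (fun g => extraspecial_commInto h hzc ⊤ g x (mem_top x)) (mem_top y)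
    (by rw [← commutatorElement_inv, hxy, ne_eq, inv_eq_one]; exact ne_one hz)
  rwa [top_inf_eq, relIndex_top_right] at this

/-- Odd `p`: exponent-`p` nondegenerate subgroups have the split decomposition. -/
theorem exists_decomp_exponent (hz : IsCentralPrime p z) :
    ∀ {F : Subgroup G}, CommInto z F → Nondeg z F → (∀ g ∈ F, g ^ p = 1) →
      ∀ n : ℕ, Nat.card F = p ^ (2 * n + 1) → Decomp p z F (List.replicate n (0, 0)) := by
  intro F
  induction hn : Nat.card F using Nat.strong_induction_on generalizing F with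
  | _ m ih =>
    intro hF hnd hexp n hm
    subst hn
    rcases eq_zpowers_or_exists hnd with rfl | ⟨x, hx, hxz⟩
    · rw [Nat.card_zpowers, hz.2] at hm
      have : 2 * n + 1 = 1 := Nat.pow_right_injective hp.out.two_le (hm.symm.trans (pow_one p).symm)
      rw [show n = 0 by omega]
      exact Decomp.nil
    · obtain ⟨y, hy, hxy⟩ := exists_partner hz hF hnd hx hxz
      have hcard := card_perp hz hF hx hy hxy
      obtain ⟨k, hk⟩ := exists_card_eq hz (hF.mono (perp_le F x y)) (nondeg_perp hz hF hnd hx hy hxy)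
      have hnk : n = k + 1 := by
        rw [hcard, hk, ← pow_add] at hm
        have := Nat.pow_right_injective hp.out.two_le hm
        omega
      subst hnk
      rw [List.replicate_succ]
      refine Decomp.of_pair hz hF hnd hx hy hxy (by rw [hexp x hx, pow_zero])
        (by rw [hexp y hy, pow_zero]) (ih _ ?_ rfl (hF.mono (perp_le F x y))
          (nondeg_perp hz hF hnd hx hy hxy) (fun g hg => hexp g (perp_le F x y hg)) k hk)
      rw [hcard]
      exact lt_mul_of_one_lt_right Nat.card_pos (Nat.one_lt_pow two_ne_zero hp.out.one_lt)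

end Special

/-! ### Extraspecial 2-groups -/

section Two

variable [Finite G]

theorem exists_decomp_two (hz : IsCentralPrime 2 z) :
    ∀ {F : Subgroup G}, CommInto z F → Nondeg z F → (∀ g ∈ F, g ^ 2 ∈ zpowers z) →
      ∀ n : ℕ, Nat.card F = 2 ^ (2 * n + 1) →
        Decomp 2 z F (List.replicate n (0, 0)) ∨
        Decomp 2 z F (List.replicate (n - 1) (0, 0) ++ [(1, 1)]) := by
  intro F
  induction hn : Nat.card F using Nat.strong_induction_on generalizing F with
  | _ m ih =>
    intro hF hnd hpow n hm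
    subst hn
    have hz01 : ∀ c ∈ zpowers z, c = 1 ∨ c = z := by
      intro c hc
      obtain ⟨k, rfl⟩ := exists_nat_pow hz hc
      rcases Nat.mod_two_eq_zero_or_one k with h | h
      · exact Or.inl ((pow_eq_one_iff hz k).mpr (Nat.dvd_of_mod_eq_zero h))
      · exact Or.inr (((pow_inj_mod hz k 1).mpr (by rw [h])).trans (pow_one z))
    by_cases hinv : ∃ x ∈ F, x ∉ zpowers z ∧ x ^ 2 = 1
    · obtain ⟨x, hx, hxz, hx2⟩ := hinv
      obtain ⟨y₀, hy₀, hxy₀⟩ := exists_partner hz hF hnd hx hxz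
      obtain ⟨y, hy, hxy, hy2⟩ : ∃ y ∈ F, ⁅x, y⁆ = z ∧ y ^ 2 = 1 := by
        rcases hz01 _ (hpow y₀ hy₀) with h | h
        · exact ⟨y₀, hy₀, hxy₀, h⟩
        · refine ⟨x * y₀, mul_mem hx hy₀, ?_, ?_⟩
          · rw [commutatorElement_mul_right_of_central (hxy₀ ▸ hz.1), commutatorElement_self,
              one_mul, hxy₀]
          · have hyx : ⁅y₀, x⁆ = z := by
              rw [← commutatorElement_inv, hxy₀]
              exact inv_eq_iff_mul_eq_one.mpr (by rw [← pow_two]; exact pow_prime_eq_one hz)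
            rw [mul_pow_of_central (hyx ▸ hz.1), hx2, h, hyx, one_mul,
              show Nat.choose 2 2 = 1 from rfl, pow_one, ← pow_two]
            exact pow_prime_eq_one hz
      have hcard := card_perp hz hF hx hy hxy
      obtain ⟨k, hk⟩ := exists_card_eq hz (hF.mono (perp_le F x y)) (nondeg_perp hz hF hnd hx hy hxy)
      have hnk : n = k + 1 := by
        rw [hcard, hk, ← pow_add] at hm
        have := Nat.pow_right_injective le_rfl hm
        omega
      subst hnk
      rcases ih _ (by rw [hcard]; exact lt_mul_of_one_lt_right Nat.card_pos (by norm_num)) rfl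
          (hF.mono (perp_le F x y)) (nondeg_perp hz hF hnd hx hy hxy)
          (fun g hg => hpow g (perp_le F x y hg)) k hk with h | h
      · left
        rw [List.replicate_succ]
        exact Decomp.of_pair hz hF hnd hx hy hxy (by rw [hx2, pow_zero]) (by rw [hy2, pow_zero]) h
      · rcases Nat.eq_zero_or_pos k with rfl | hk0
        · left
          have hperp : perp F x y = zpowers z :=
            (eq_of_le_of_card_ge (nondeg_perp hz hF hnd hx hy hxy).1
              (by rw [hk, Nat.card_zpowers, hz.2]; norm_num)).symm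
          rw [List.replicate_succ]
          exact Decomp.of_pair hz hF hnd hx hy hxy (by rw [hx2, pow_zero]) (by rw [hy2, pow_zero])
            (hperp.symm ▸ Decomp.nil)
        · right
          rw [show k + 1 - 1 = (k - 1) + 1 by omega, List.replicate_succ, List.cons_append]
          exact Decomp.of_pair hz hF hnd hx hy hxy (by rw [hx2, pow_zero]) (by rw [hy2, pow_zero]) h
    · push Not at hinv
      have hsq : ∀ g ∈ F, g ∉ zpowers z → g ^ 2 = z := fun g hg hgz =>
        (hz01 _ (hpow g hg)).resolve_left (hinv g hg hgz)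
      rcases eq_zpowers_or_exists hnd with rfl | ⟨x, hx, hxz⟩
      · rw [Nat.card_zpowers, hz.2] at hm
        have : 2 * n + 1 = 1 := Nat.pow_right_injective le_rfl (hm.symm.trans (pow_one 2).symm)
        rw [show n = 0 by omega]
        exact Or.inl Decomp.nil
      · obtain ⟨y, hy, hxy⟩ := exists_partner hz hF hnd hx hxz
        have hyz : y ∉ zpowers z := fun h => ne_one hz (by
          rw [← hxy, commutatorElement_eq_one_iff_mul_comm]
          exact mem_center_iff.mp (zpowers_le_center hz h) x)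
        have hperp : perp F x y = zpowers z := by
          refine le_antisymm (fun w hw => ?_) (nondeg_perp hz hF hnd hx hy hxy).1
          by_contra hwz
          have hcw : Commute x w := (commute_of_comm_eq_one (mem_centralizer_singleton.mp hw.1.2)).symm
          refine hinv (x * w) (mul_mem hx (perp_le F x y hw)) (fun hin => ?_) ?_
          · have h1 : ⁅x * w, y⁆ = 1 := commutatorElement_eq_one_iff_mul_comm.mpr
              (mem_center_iff.mp (zpowers_le_center hz hin) y).symm
            rw [commutatorElement_mul_left_of_central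
              (hF.mem_center hz hy w), mem_centralizer_singleton.mp hw.2, mul_one, hxy] at h1
            exact ne_one hz h1
          · rw [hcw.mul_pow, hsq x hx hxz, hsq w (perp_le F x y hw) hwz, ← pow_two]
            exact pow_prime_eq_one hz
        have hcard := card_perp hz hF hx hy hxy
        rw [hm, hperp, Nat.card_zpowers, hz.2, ← pow_succ'] at hcard
        have : 2 * n + 1 = 3 := Nat.pow_right_injective le_rfl hcard
        right
        rw [show n - 1 = 0 by omega, List.replicate_zero, List.nil_append]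
        exact Decomp.of_pair hz hF hnd hx hy hxy (by rw [hsq x hx hxz, pow_one])
          (by rw [hsq y hy hyz, pow_one]) (hperp.symm ▸ Decomp.nil)

end Two

end Cfsg.Agent.PGroupsExtraspecial
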