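import Mathlib
import Cfsg.Prelude.Def_Classical

/-!
Quadratic forms over the field of two elements polarising to the standard alternating form.
-/

set_option autoImplicit false

namespace Cfsg.Agent.QuadFormF2

/-- The space. -/
abbrev V (m : ℕ) := Fin m ⊕ Fin m → ZMod 2

variable {m : ℕ}

/-- The alternating form. -/
def f (u v : V m) : ZMod 2 := ∑ i : Fin m, (u (.inl i) * v (.inr i) + u (.inr i) * v (.inl i))

/-- The plus type form. -/
abbrev Q (v : V m) : ZMod 2 := Cfsg.quadFormPlus m (ZMod 2) v

/-- All forms polarising to `f`. -/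
def qw (w v : V m) : ZMod 2 := Q v + f v w

theorem polar_Q (u v : V m) : Q (u + v) - Q u - Q v = f u v := by
  simp only [Q, Cfsg.quadFormPlus, f, ← Finset.sum_sub_distrib, Pi.add_apply]
  exact Finset.sum_congr rfl fun i _ => by ring

theorem Q_add (u v : V m) : Q (u + v) = Q u + Q v + f u v := by
  rw [← polar_Q]; ring

theorem f_add_left (u u' v : V m) : f (u + u') v = f u v + f u' v := by
  simp only [f, ← Finset.sum_add_distrib, Pi.add_apply]
  exact Finset.sum_congr rfl fun i _ => by ring

theorem f_smul_left (c : ZMod 2) (u v : V m) : f (c • u) v = c * f u v := by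
  simp only [f, Finset.mul_sum, Pi.smul_apply, smul_eq_mul]
  exact Finset.sum_congr rfl fun i _ => by ring

theorem f_comm (u v : V m) : f u v = f v u := by
  simp only [f]
  exact Finset.sum_congr rfl fun i _ => by ring

theorem f_add_right (u v v' : V m) : f u (v + v') = f u v + f u v' := by
  rw [f_comm, f_add_left, f_comm v, f_comm v']

theorem f_self (u : V m) : f u u = 0 := by
  simp only [f]
  exact Finset.sum_eq_zero fun i _ => by rw [mul_comm (u (.inr i))]; exact CharTwo.add_self_eq_zero _

theorem Q_smul (c : ZMod 2) (v : V m) : Q (c • v) = c * Q v := by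
  simp only [Q, Cfsg.quadFormPlus, Finset.mul_sum, Pi.smul_apply, smul_eq_mul]
  refine Finset.sum_congr rfl fun i _ => ?_
  have : c * c = c := by revert c; decide
  calc c * v (.inl i) * (c * v (.inr i)) = c * c * (v (.inl i) * v (.inr i)) := by ring
    _ = _ := by rw [this]

/-- `v ↦ f v w` as a linear map. -/
def fL (w : V m) : V m →ₗ[ZMod 2] ZMod 2 where
  toFun v := f v w
  map_add' u v := f_add_left u v w
  map_smul' c u := f_smul_left c u w

theorem fL_apply (w v : V m) : fL w v = f v w := rfl

theorem f_single_left_inl (i : Fin m) (v : V m) : f (Pi.single (.inl i) 1) v = v (.inr i) := by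
  simp [f, Pi.single_apply]

theorem f_single_left_inr (i : Fin m) (v : V m) : f (Pi.single (.inr i) 1) v = v (.inl i) := by
  simp [f, Pi.single_apply]

theorem fL_injective : Function.Injective (fL (m := m)) := by
  intro a b h
  funext s
  rcases s with i | i
  · have := LinearMap.congr_fun h (Pi.single (.inr i) 1)
    rwa [fL_apply, fL_apply, f_single_left_inr, f_single_left_inr] at this
  · have := LinearMap.congr_fun h (Pi.single (.inl i) 1)
    rwa [fL_apply, fL_apply, f_single_left_inl, f_single_left_inl] at this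

theorem qw_injective : Function.Injective (qw (m := m)) := fun _ _ h =>
  fL_injective (LinearMap.ext fun v => add_left_cancel (congrFun h v))

theorem qw_polar (w u v : V m) : qw w (u + v) = qw w u + qw w v + f u v := by
  simp only [qw, Q_add, f_add_left]; ring

theorem exists_qw (q : V m → ZMod 2) (hq : ∀ u v, q (u + v) = q u + q v + f u v) : ∃ w, q = qw w := by
  let d : V m →+ ZMod 2 := AddMonoidHom.mk' (fun v => q v - Q v) fun u v => by
    show q (u + v) - Q (u + v) = q u - Q u + (q v - Q v)
    rw [hq, Q_add]; ring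
  let g : V m →ₗ[ZMod 2] ZMod 2 := d.toZModLinearMap 2
  let w : V m := Sum.elim (fun i => g (Pi.single (.inr i) 1)) (fun i => g (Pi.single (.inl i) 1))
  have h : fL w = g := by
    refine LinearMap.pi_ext' fun s => LinearMap.ext_ring ?_
    rcases s with i | i
    · simp [fL_apply, f_single_left_inl, w]
    · simp [fL_apply, f_single_left_inr, w]
  refine ⟨w, funext fun v => ?_⟩
  have := LinearMap.congr_fun h v
  rw [qw, ← fL_apply, this]
  show q v = Q v + (q v - Q v)
  ring

/-- A singular vector gives an equivalence with the plus form. -/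
theorem exists_transvection (w : V m) (hw : Q w = 0) :
    ∃ T : V m ≃ₗ[ZMod 2] V m, (∀ v, T v = v + f v w • w) ∧ ∀ v, Q (T v) = qw w v := by
  let T : V m →ₗ[ZMod 2] V m := LinearMap.id + LinearMap.smulRight (fL w) w
  have hT : ∀ v, T v = v + f v w • w := fun v => rfl
  have hinv : ∀ v, T (T v) = v := by
    intro v
    rw [hT, hT, f_add_left, f_smul_left, f_self, mul_zero, add_zero, add_assoc, ← add_smul,
      CharTwo.add_self_eq_zero, zero_smul, add_zero]
  refine ⟨LinearEquiv.ofLinearMap T T (LinearMap.ext hinv) (LinearMap.ext hinv), hT, fun v => ?_⟩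
  show Q (T v) = _
  rw [hT, Q_add, Q_smul, hw, mul_zero, add_zero, f_comm v (f v w • w), f_smul_left, f_comm w, qw]
  have : f v w * f v w = f v w := by generalize f v w = c; revert c; decide
  rw [this]

theorem exists_plus_equiv (w : V m) (hw : Q w = 0) :
    ∃ g : V m ≃ₗ[ZMod 2] V m, ∀ v, qw w v = Q (g v) := by
  obtain ⟨T, -, hT⟩ := exists_transvection w hw
  exact ⟨T, fun v => (hT v).symm⟩

theorem exists_minus_equiv {k : ℕ} (w : V (k + 1)) (hw : Q w = 1) :
    ∃ g : V (k + 1) ≃ₗ[ZMod 2] ((Fin k ⊕ Fin k) ⊕ Fin 2 → ZMod 2),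
      ∀ v, qw w v = Cfsg.quadFormMinus k (ZMod 2) 1 1 (g v) := by
  classical
  obtain ⟨i, hl, hr⟩ : ∃ i, w (.inl i) = 1 ∧ w (.inr i) = 1 := by
    by_contra hcon
    push Not at hcon
    have : Q w = 0 := by
      refine Finset.sum_eq_zero fun i _ => ?_
      have h := hcon i
      revert h
      generalize w (.inl i) = a
      generalize w (.inr i) = b
      revert a b
      decide
    rw [this] at hw
    exact zero_ne_one hw
  let e₀ : (Fin k ⊕ Fin k) ⊕ Fin 2 → Fin (k + 1) ⊕ Fin (k + 1) :=
    Sum.elim (Sum.map i.succAbove i.succAbove) ![Sum.inl i, Sum.inr i]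
  have he₀ : Function.Bijective e₀ := by
    rw [Fintype.bijective_iff_injective_and_card]
    refine ⟨?_, by simp; omega⟩
    intro a b h
    rcases a with (a | a) | a <;> rcases b with (b | b) | b
    all_goals first
      | fin_cases a <;> fin_cases b
      | fin_cases a
      | fin_cases b
      | skip
    all_goals simp [e₀, Fin.succAbove_ne, Fin.ne_succAbove] at h ⊢
    all_goals exact h
  let g₀ : V (k + 1) ≃ₗ[ZMod 2] ((Fin k ⊕ Fin k) ⊕ Fin 2 → ZMod 2) :=
    LinearEquiv.funCongrLeft (ZMod 2) (ZMod 2) (Equiv.ofBijective e₀ he₀)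
  have hg₀ : ∀ v s, g₀ v s = v (e₀ s) := fun v s => rfl
  let w₀ : V (k + 1) := Pi.single (.inl i) 1 + Pi.single (.inr i) 1
  have hf₀ : ∀ v, f v w₀ = v (.inr i) + v (.inl i) := by
    intro v
    rw [f_comm, f_add_left, f_single_left_inl, f_single_left_inr]
  have hQ₀ : Q w₀ = 1 := by
    simp [Q, Cfsg.quadFormPlus, w₀, Pi.single_apply]
  let w' := w + w₀
  have hf' : f w' w₀ = 0 := by
    rw [f_add_left, f_self, hf₀, hl, hr]
    decide
  have hQ' : Q w' = 0 := by
    rw [Q_add, hw, hQ₀, hf₀, hl, hr]
    decide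
  obtain ⟨T, hT, hQT⟩ := exists_transvection w' hQ'
  refine ⟨T.trans g₀, fun v => ?_⟩
  have h1 : qw w v = qw w₀ (T v) := by
    rw [qw, qw, hQT, qw, hT, f_add_left, f_smul_left, hf', mul_zero, add_zero, f_add_right]
    rw [add_assoc, add_assoc, CharTwo.add_self_eq_zero, add_zero]
  rw [h1, LinearEquiv.trans_apply, qw, hf₀]
  generalize T v = u
  have hsq : ∀ a : ZMod 2, a ^ 2 = a := by decide
  simp only [Cfsg.quadFormMinus, hg₀, e₀, Sum.elim_inl, Sum.elim_inr, Sum.map_inl, Sum.map_inr,
    Matrix.cons_val_zero, Matrix.cons_val_one, Q, Cfsg.quadFormPlus, hsq, one_mul,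
    Fin.sum_univ_succAbove (fun j => u (.inl j) * u (.inr j)) i]
  ring

/-- The sign character. -/
def chi (a : ZMod 2) : ℤ := if a = 0 then 1 else -1

theorem chi_add (a b : ZMod 2) : chi (a + b) = chi a * chi b := by revert a b; decide

theorem chi_sum {ι : Type*} (s : Finset ι) (g : ι → ZMod 2) : chi (∑ i ∈ s, g i) = ∏ i ∈ s, chi (g i) := by
  classical
  induction s using Finset.induction_on with
  | empty => simp [chi]
  | insert a s ha ih => rw [Finset.sum_insert ha, Finset.prod_insert ha, chi_add, ih]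

theorem gauss (m : ℕ) : ∑ v : V m, chi (Q v) = 2 ^ m := by
  classical
  rw [← Equiv.sum_comp ((Equiv.arrowProdEquivProdArrow (Fin m) (fun _ => ZMod 2) (fun _ => ZMod 2)).trans
    (Equiv.sumArrowEquivProdArrow (Fin m) (Fin m) (ZMod 2)).symm)]
  simp only [Q, Cfsg.quadFormPlus, chi_sum]
  have h := Finset.prod_univ_sum (fun _ : Fin m => (Finset.univ : Finset (ZMod 2 × ZMod 2)))
    (fun _ p => chi (p.1 * p.2))
  rw [Fintype.piFinset_univ] at h
  refine h.symm.trans ?_
  rw [Finset.prod_const, Finset.card_univ, Fintype.card_fin]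
  congr 1

theorem gauss_qw (w : V m) : ∑ v : V m, chi (qw w v) = chi (Q w) * 2 ^ m := by
  rw [← gauss, Finset.mul_sum, ← Equiv.sum_comp (Equiv.addRight w) (fun v => chi (Q w) * chi (Q v))]
  refine Finset.sum_congr rfl fun v _ => ?_
  rw [← chi_add, Equiv.coe_addRight, Q_add, qw]
  congr 1
  rw [add_comm (Q v + Q w) (f v w), add_comm (Q v) (Q w), add_left_comm, ← add_assoc (Q w),
    CharTwo.add_self_eq_zero, zero_add, add_comm]

theorem Q_eq_of_equiv (a b : V m) (g : V m ≃ₗ[ZMod 2] V m) (h : ∀ v, qw a v = qw b (g v)) : Q a = Q b := by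
  have h1 : ∑ v : V m, chi (qw a v) = ∑ v : V m, chi (qw b v) := by
    rw [← Equiv.sum_comp g.toEquiv (fun v => chi (qw b v))]
    exact Finset.sum_congr rfl fun v _ => by rw [h]; rfl
  rw [gauss_qw, gauss_qw] at h1
  have h2 := mul_right_cancel₀ (pow_ne_zero m two_ne_zero) h1
  revert h2
  generalize Q a = x
  generalize Q b = y
  revert x y
  decide

theorem qw_zero (v : V m) : qw 0 v = Q v := by simp [qw, f]

theorem exists_equiv_iff (a b : V m) : (∃ g : V m ≃ₗ[ZMod 2] V m, ∀ v, qw a v = qw b (g v)) ↔ Q a = Q b := by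
  refine ⟨fun ⟨g, hg⟩ => Q_eq_of_equiv a b g hg, fun h => ?_⟩
  rcases (show Q a = 0 ∨ Q a = 1 by generalize Q a = x; revert x; decide) with ha | ha
  · obtain ⟨g, hg⟩ := exists_plus_equiv a ha
    obtain ⟨g', hg'⟩ := exists_plus_equiv b (h ▸ ha)
    exact ⟨g.trans g'.symm, fun v => by rw [hg, hg']; simp⟩
  · cases m with
    | zero => exact ⟨LinearEquiv.refl _ _, fun v => by rw [Subsingleton.elim a b]; rfl⟩
    | succ k =>
      obtain ⟨g, hg⟩ := exists_minus_equiv a ha
      obtain ⟨g', hg'⟩ := exists_minus_equiv b (h ▸ ha)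
      exact ⟨g.trans g'.symm, fun v => by rw [hg, hg']; simp⟩

theorem card_Q (m : ℕ) (hm : 1 ≤ m) :
    Nat.card {v : V m // Q v = 0} = 2 ^ (2 * m - 1) + 2 ^ (m - 1) ∧
      Nat.card {v : V m // Q v = 1} = 2 ^ (2 * m - 1) - 2 ^ (m - 1) := by
  classical
  have hchi : ∀ v : V m, chi (Q v) = (if Q v = 0 then 1 else 0) - (if Q v = 1 then 1 else 0) := by
    intro v; generalize Q v = x; revert x; decide
  have hone : ∀ v : V m, (if Q v = 0 then (1 : ℤ) else 0) + (if Q v = 1 then 1 else 0) = 1 := by
    intro v; generalize Q v = x; revert x; decide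
  have h1 := gauss m
  simp only [hchi, Finset.sum_sub_distrib, Finset.sum_boole] at h1
  have h2 : ∑ v : V m, ((if Q v = 0 then (1 : ℤ) else 0) + (if Q v = 1 then 1 else 0)) = 2 ^ (2 * m) := by
    simp only [hone, Finset.sum_const, Finset.card_univ, nsmul_eq_mul, mul_one]
    simp [two_mul]
  simp only [Finset.sum_add_distrib, Finset.sum_boole] at h2
  rw [← Fintype.card_subtype, ← Fintype.card_subtype, ← Nat.card_eq_fintype_card, ← Nat.card_eq_fintype_card] at h1 h2
  obtain ⟨k, rfl⟩ : ∃ k, m = k + 1 := ⟨m - 1, by omega⟩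
  rw [show 2 * (k + 1) - 1 = 2 * k + 1 by omega, Nat.add_sub_cancel]
  rw [show 2 * (k + 1) = 2 * k + 1 + 1 by ring, pow_succ] at h2
  rw [pow_succ] at h1
  have e1 : ((2 : ℤ) ^ k) = ((2 ^ k : ℕ) : ℤ) := by push_cast; rfl
  have e2 : ((2 : ℤ) ^ (2 * k + 1)) = ((2 ^ (2 * k + 1) : ℕ) : ℤ) := by push_cast; rfl
  rw [e1] at h1
  rw [e2] at h2
  omega

/-- A totally singular subspace has dimension at most `m`, less for the minus type. -/
theorem singular_le (w : V m) (U : Submodule (ZMod 2) (V m)) (hU : ∀ u ∈ U, qw w u = 0) :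
    Module.finrank (ZMod 2) U ≤ m ∧ (Module.finrank (ZMod 2) U = m → Q w = 0) := by
  classical
  have hf : ∀ u ∈ U, ∀ v ∈ U, f u v = 0 := by
    intro u hu v hv
    have h := qw_polar w u v
    rw [hU _ (U.add_mem hu hv), hU u hu, hU v hv, zero_add, zero_add] at h
    exact h.symm
  let F0 : V m →ₗ[ZMod 2] Module.Dual (ZMod 2) (V m) :=
    { toFun := fL
      map_add' := fun a b => LinearMap.ext fun v => f_add_right v a b
      map_smul' := fun c a => LinearMap.ext fun v => by
        show f v (c • a) = c * f v a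
        rw [f_comm, f_smul_left, f_comm] }
  let φ : V m →ₗ[ZMod 2] Module.Dual (ZMod 2) U := U.subtype.dualMap ∘ₗ F0
  have hsurj : Function.Surjective φ := by
    have hi : Function.Injective F0 := fL_injective
    have hs : Function.Surjective F0 :=
      (LinearMap.injective_iff_surjective_of_finrank_eq_finrank Subspace.dual_finrank_eq.symm).1 hi
    rw [show (φ : V m → Module.Dual (ZMod 2) U) = U.subtype.dualMap ∘ F0 from rfl]
    exact (LinearMap.dualMap_surjective_of_injective U.injective_subtype).comp hs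
  have hle : U ≤ LinearMap.ker φ := fun u hu => LinearMap.ext fun v => hf v.1 v.2 u hu
  have hdim := LinearMap.finrank_range_add_finrank_ker φ
  rw [LinearMap.range_eq_top.2 hsurj, finrank_top, Subspace.dual_finrank_eq, Module.finrank_pi,
    Fintype.card_sum, Fintype.card_fin] at hdim
  have hk := Submodule.finrank_mono hle
  refine ⟨by omega, fun hd => ?_⟩
  have heq : U = LinearMap.ker φ := Submodule.eq_of_le_of_finrank_eq hle (by omega)
  have key : ∀ v : V m, ∑ u : U, chi (f v u) = if v ∈ U then (Fintype.card U : ℤ) else 0 := by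
    intro v
    by_cases hv : v ∈ U
    · rw [if_pos hv, Finset.sum_congr rfl (fun u _ => by rw [hf v hv u.1 u.2]), Finset.sum_const,
        Finset.card_univ]
      simp [chi]
    · rw [if_neg hv]
      rw [heq, LinearMap.mem_ker] at hv
      obtain ⟨u₀, hu₀⟩ : ∃ u₀ : U, φ v u₀ ≠ 0 := by
        by_contra hcon
        push Not at hcon
        exact hv (LinearMap.ext hcon)
      have hu₁ : f v u₀ = 1 := by
        have h' : φ v u₀ = f (u₀ : V m) v := rfl
        rw [h', f_comm] at hu₀
        revert hu₀; generalize f v u₀ = x; revert x; decide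
      have hneg : ∑ u : U, chi (f v u) = -(∑ u : U, chi (f v u)) := by
        rw [← Finset.sum_neg_distrib]
        refine Fintype.sum_equiv (Equiv.addRight u₀) _ _ fun u => ?_
        rw [Equiv.coe_addRight, Submodule.coe_add, f_add_right, chi_add, hu₁]
        simp [chi]
      omega
  have hsum : (Fintype.card U : ℤ) * (chi (Q w) * 2 ^ m) = (Fintype.card U : ℤ) * (Fintype.card U : ℤ) := by
    calc (Fintype.card U : ℤ) * (chi (Q w) * 2 ^ m)
        = ∑ u : U, ∑ v : V m, chi (qw w v) := by simp [gauss_qw]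
      _ = ∑ u : U, ∑ v : V m, chi (qw w v) * chi (f v u) := by
          refine Finset.sum_congr rfl fun u _ => ?_
          rw [← Equiv.sum_comp (Equiv.addRight (u : V m))]
          refine Finset.sum_congr rfl fun v _ => ?_
          rw [← chi_add, Equiv.coe_addRight, qw_polar, hU u.1 u.2, add_zero]
      _ = ∑ v : V m, ∑ u : U, chi (qw w v) * chi (f v u) := Finset.sum_comm
      _ = ∑ v : V m, chi (qw w v) * (if v ∈ U then (Fintype.card U : ℤ) else 0) := by
          refine Finset.sum_congr rfl fun v _ => ?_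
          rw [← Finset.mul_sum, key]
      _ = ∑ v : V m, (if v ∈ U then (Fintype.card U : ℤ) else 0) := by
          refine Finset.sum_congr rfl fun v _ => ?_
          by_cases hv : v ∈ U
          · rw [hU v hv]; simp [chi]
          · simp [hv]
      _ = _ := by
          rw [← Finset.sum_filter, Finset.sum_const, nsmul_eq_mul]
          congr 2
          exact_mod_cast (Fintype.card_subtype (fun v => v ∈ U)).symm
  have hpos : (0 : ℤ) < Fintype.card U := by exact_mod_cast Fintype.card_pos
  have h3 := mul_left_cancel₀ hpos.ne' hsum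
  rcases (show Q w = 0 ∨ Q w = 1 by generalize Q w = x; revert x; decide) with h | h
  · exact h
  · rw [h] at h3
    exfalso
    have : (0 : ℤ) < 2 ^ m := by positivity
    simp only [chi, one_ne_zero, if_false] at h3
    linarith

end Cfsg.Agent.QuadFormF2
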