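import Mathlib
import Cfsg.Prelude.Def_KGroupFacts
import Cfsg.Agent.Lib.PGroupsExtraspecial
import Cfsg.Agent.Lib.QuadFormF2

/-!
The model of an extraspecial 2-group attached to a bilinear form over `F₂`, its outer automorphism
group (the isometry group of the attached quadratic form), and the two types.
-/

set_option autoImplicit false

namespace Cfsg.Agent.ExtraspecialTwoOut

open Matrix

variable {ι : Type} [Fintype ι] [DecidableEq ι]

theorem z2_cases (x : ZMod 2) : x = 0 ∨ x = 1 := by revert x; decide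

theorem add_self (x : ZMod 2) : x + x = 0 := CharTwo.add_self_eq_zero x

omit [Fintype ι] [DecidableEq ι] in
theorem vec_self (v : ι → ZMod 2) : v + v = 0 := funext fun i => add_self (v i)

/-- The bilinear form of a matrix. -/
def bil (B : Matrix ι ι (ZMod 2)) (v w : ι → ZMod 2) : ZMod 2 := v ⬝ᵥ B *ᵥ w

/-- The quadratic form of a matrix. -/
def qd (B : Matrix ι ι (ZMod 2)) (v : ι → ZMod 2) : ZMod 2 := bil B v v

/-- The polar form. -/
def pol (B : Matrix ι ι (ZMod 2)) (v w : ι → ZMod 2) : ZMod 2 := bil B v w + bil B w v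

variable {B : Matrix ι ι (ZMod 2)}

omit [DecidableEq ι] in
theorem bil_add_left (v v' w : ι → ZMod 2) : bil B (v + v') w = bil B v w + bil B v' w :=
  add_dotProduct _ _ _

omit [DecidableEq ι] in
theorem bil_add_right (v w w' : ι → ZMod 2) : bil B v (w + w') = bil B v w + bil B v w' := by
  simp only [bil, mulVec_add, dotProduct_add]

omit [DecidableEq ι] in
theorem bil_zero_left (w : ι → ZMod 2) : bil B 0 w = 0 := zero_dotProduct _

omit [DecidableEq ι] in
theorem bil_zero_right (v : ι → ZMod 2) : bil B v 0 = 0 := by simp [bil]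

omit [DecidableEq ι] in
theorem pol_eq (v w : ι → ZMod 2) : pol B v w = qd B (v + w) + qd B v + qd B w := by
  simp only [pol, qd, bil_add_left, bil_add_right]
  linear_combination -(add_self (bil B v v)) - add_self (bil B w w)

omit [DecidableEq ι] in
theorem pol_comm (v w : ι → ZMod 2) : pol B v w = pol B w v := add_comm _ _

omit [DecidableEq ι] in
theorem pol_add_left (v v' w : ι → ZMod 2) : pol B (v + v') w = pol B v w + pol B v' w := by
  simp only [pol, bil_add_left, bil_add_right]; abel

/-- Non-degeneracy of the polar form. -/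
def PolNondeg (B : Matrix ι ι (ZMod 2)) : Prop := ∀ v, (∀ w, pol B v w = 0) → v = 0

/-- The central extension of `F₂^ι` by `F₂` with cocycle `B`. -/
@[ext]
structure Model (B : Matrix ι ι (ZMod 2)) where
  sc : ZMod 2
  vec : ι → ZMod 2

instance : Mul (Model B) := ⟨fun x y => ⟨x.sc + y.sc + bil B x.vec y.vec, x.vec + y.vec⟩⟩
instance : One (Model B) := ⟨⟨0, 0⟩⟩
instance : Inv (Model B) := ⟨fun x => ⟨x.sc + qd B x.vec, x.vec⟩⟩

omit [DecidableEq ι] in
theorem mul_sc (x y : Model B) : (x * y).sc = x.sc + y.sc + bil B x.vec y.vec := rfl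
omit [DecidableEq ι] in
theorem mul_vec (x y : Model B) : (x * y).vec = x.vec + y.vec := rfl
omit [DecidableEq ι] in
theorem one_sc : (1 : Model B).sc = 0 := rfl
omit [DecidableEq ι] in
theorem one_vec : (1 : Model B).vec = 0 := rfl
omit [DecidableEq ι] in
theorem inv_sc (x : Model B) : x⁻¹.sc = x.sc + qd B x.vec := rfl
omit [DecidableEq ι] in
theorem inv_vec (x : Model B) : x⁻¹.vec = x.vec := rfl

instance : Group (Model B) :=
  Group.ofLeftAxioms
    (fun x y z => by
      ext1
      · simp only [mul_sc, mul_vec, bil_add_left, bil_add_right]; abel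
      · simp only [mul_vec]; abel)
    (fun x => by
      ext1
      · simp [mul_sc, one_sc, one_vec, bil_zero_left]
      · simp [mul_vec, one_vec])
    (fun x => by
      ext1
      · simp only [mul_sc, inv_sc, inv_vec, one_sc, qd]
        linear_combination add_self x.sc + add_self (bil B x.vec x.vec)
      · simp only [mul_vec, inv_vec, one_vec, vec_self])

/-- The model as a set. -/
def modelEquiv (B : Matrix ι ι (ZMod 2)) : Model B ≃ ZMod 2 × (ι → ZMod 2) where
  toFun x := (x.sc, x.vec)
  invFun t := ⟨t.1, t.2⟩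
  left_inv _ := rfl
  right_inv _ := rfl

instance : Finite (Model B) := Finite.of_equiv _ (modelEquiv B).symm

theorem card_model (B : Matrix ι ι (ZMod 2)) : Nat.card (Model B) = 2 ^ (Fintype.card ι + 1) := by
  rw [Nat.card_congr (modelEquiv B), Nat.card_prod, Nat.card_fun, Nat.card_zmod,
    Nat.card_eq_fintype_card]
  ring

/-- The central involution. -/
def zM (B : Matrix ι ι (ZMod 2)) : Model B := ⟨1, 0⟩

omit [DecidableEq ι] in
theorem central_of_vec {x : Model B} (hx : x.vec = 0) (y : Model B) : y * x = x * y := by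
  ext1
  · simp [mul_sc, hx, bil_zero_left, bil_zero_right, add_comm]
  · simp [mul_vec, hx]

omit [DecidableEq ι] in
theorem mem_zpowers_zM {x : Model B} (hx : x.vec = 0) : x ∈ Subgroup.zpowers (zM B) := by
  rcases z2_cases x.sc with e | e
  · rw [show x = 1 from Model.ext e hx]; exact one_mem _
  · rw [show x = zM B from Model.ext e hx]; exact Subgroup.mem_zpowers _

omit [DecidableEq ι] in
theorem sq_eq (x : Model B) : x * x = ⟨qd B x.vec, 0⟩ := by
  ext1
  · simp only [mul_sc, qd]; linear_combination add_self x.sc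
  · simp only [mul_vec, vec_self]

omit [DecidableEq ι] in
theorem center_vec (hB : PolNondeg B) {x : Model B} (hx : x ∈ Subgroup.center (Model B)) :
    x.vec = 0 := hB _ fun w => by
  have e := congrArg Model.sc (Subgroup.mem_center_iff.mp hx ⟨0, w⟩)
  simp only [mul_sc] at e
  show bil B x.vec w + bil B w x.vec = 0
  linear_combination e + add_self (bil B x.vec w) 

omit [DecidableEq ι] in
theorem center_eq (hB : PolNondeg B) : Subgroup.center (Model B) = Subgroup.zpowers (zM B) :=
  le_antisymm (fun _ hx => mem_zpowers_zM (center_vec hB hx))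
    ((Subgroup.zpowers_le).mpr (Subgroup.mem_center_iff.mpr fun y => central_of_vec rfl y))

omit [DecidableEq ι] in
theorem zM_prime : PGroupsExtraspecial.IsCentralPrime 2 (zM B) := by
  haveI : Fact (Nat.Prime 2) := ⟨Nat.prime_two⟩
  refine ⟨Subgroup.mem_center_iff.mpr fun y => central_of_vec rfl y, ?_⟩
  refine orderOf_eq_prime ?_ fun e => one_ne_zero (α := ZMod 2) (congrArg Model.sc e)
  rw [pow_two, sq_eq]
  exact Model.ext (bil_zero_left _) rfl

theorem model_decomp (hB : PolNondeg B) {n : ℕ} (hn : Fintype.card ι = 2 * n) :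
    PGroupsExtraspecial.Decomp 2 (zM B) (⊤ : Subgroup (Model B)) (List.replicate n (0, 0)) ∨
    PGroupsExtraspecial.Decomp 2 (zM B) (⊤ : Subgroup (Model B))
      (List.replicate (n - 1) (0, 0) ++ [(1, 1)]) := by
  haveI : Fact (Nat.Prime 2) := ⟨Nat.prime_two⟩
  refine PGroupsExtraspecial.exists_decomp_two zM_prime (fun g e _ => ?_)
    (PGroupsExtraspecial.extraspecial_nondeg_top (center_eq hB).symm) (fun g _ => ?_) n ?_
  · apply mem_zpowers_zM
    simp only [commutatorElement_def, mul_vec, inv_vec]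
    rw [show g.vec + e.vec + g.vec + e.vec = (g.vec + g.vec) + (e.vec + e.vec) by abel, vec_self,
      vec_self, add_zero]
  · apply mem_zpowers_zM
    rw [pow_two, mul_vec, vec_self]
  · rw [Subgroup.card_top, card_model, hn]

/-! ### Automorphisms -/

section Aut

variable (hB : PolNondeg B)
include hB

theorem aut_zM (φ : MulAut (Model B)) : φ (zM B) = zM B := by
  have h1 : φ (zM B) ∈ Subgroup.zpowers (zM B) := by
    rw [← center_eq hB, Subgroup.mem_center_iff]
    intro y
    apply φ.symm.injective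
    rw [map_mul, map_mul, MulEquiv.symm_apply_apply]
    exact central_of_vec rfl _
  have hz : φ (zM B) * φ (zM B) = 1 := by
    rw [← map_mul, sq_eq]
    rw [show (⟨qd B (zM B).vec, 0⟩ : Model B) = 1 from Model.ext (bil_zero_left _) rfl, map_one]
  haveI : Fact (Nat.Prime 2) := ⟨Nat.prime_two⟩
  obtain ⟨k, hk⟩ := PGroupsExtraspecial.exists_nat_pow (zM_prime (B := B)) h1
  rcases Nat.even_or_odd k with ⟨j, rfl⟩ | ⟨j, rfl⟩
  · exfalso
    have : φ (zM B) = 1 := by
      rw [← hk, ← two_mul, pow_mul, PGroupsExtraspecial.pow_prime_eq_one zM_prime, one_pow]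
    exact one_ne_zero (α := ZMod 2) (congrArg Model.sc (φ.map_eq_one_iff.mp this))
  · rw [← hk, pow_add, pow_mul, PGroupsExtraspecial.pow_prime_eq_one zM_prime, one_pow, one_mul, pow_one]

theorem aut_center (φ : MulAut (Model B)) (a : ZMod 2) : φ ⟨a, 0⟩ = ⟨a, 0⟩ := by
  rcases z2_cases a with rfl | rfl
  · exact map_one φ
  · exact aut_zM hB φ

theorem aut_split (φ : MulAut (Model B)) (a : ZMod 2) (v : ι → ZMod 2) :
    φ ⟨a, v⟩ = ⟨a + (φ ⟨0, v⟩).sc, (φ ⟨0, v⟩).vec⟩ := by
  have : (⟨a, v⟩ : Model B) = ⟨a, 0⟩ * ⟨0, v⟩ := by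
    ext1
    · simp [mul_sc, bil_zero_left]
    · simp [mul_vec]
  rw [this, map_mul, aut_center hB]
  ext1
  · simp [mul_sc, bil_zero_left]
  · simp [mul_vec]

/-- The induced linear map. -/
def indLin (φ : MulAut (Model B)) : (ι → ZMod 2) →ₗ[ZMod 2] (ι → ZMod 2) :=
  (AddMonoidHom.mk' (fun v => (φ (⟨0, v⟩ : Model B)).vec) fun v w => by
    have h := map_mul φ (⟨0, v⟩ : Model B) ⟨0, w⟩
    rw [show (⟨0, v⟩ : Model B) * ⟨0, w⟩ = ⟨0 + 0 + bil B v w, v + w⟩ from rfl, aut_split hB φ] at h
    exact congrArg Model.vec h).toZModLinearMap 2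

theorem indLin_apply (φ : MulAut (Model B)) (x : Model B) : indLin hB φ x.vec = (φ x).vec := by
  show (φ (⟨0, x.vec⟩ : Model B)).vec = _
  obtain ⟨a, v⟩ := x
  rw [aut_split hB φ a v]

/-- The representation of the automorphism group. -/
noncomputable def indHom : MulAut (Model B) →* GL ι (ZMod 2) :=
  MonoidHom.toHomUnits
    { toFun := fun φ => LinearMap.toMatrix' (indLin hB φ)
      map_one' := by
        rw [← LinearMap.toMatrix'_id]
        exact congrArg _ (LinearMap.ext fun v => indLin_apply hB 1 ⟨0, v⟩)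
      map_mul' := fun φ ψ => by
        rw [← LinearMap.toMatrix'_comp]
        refine congrArg _ (LinearMap.ext fun v => ?_)
        rw [LinearMap.comp_apply]
        refine (indLin_apply hB (φ * ψ) ⟨0, v⟩).trans ?_
        rw [indLin_apply hB ψ ⟨0, v⟩, indLin_apply hB φ]
        rfl }

theorem indHom_mulVec (φ : MulAut (Model B)) (x : Model B) :
    (indHom hB φ : Matrix ι ι (ZMod 2)) *ᵥ x.vec = (φ x).vec := by
  show LinearMap.toMatrix' (indLin hB φ) *ᵥ x.vec = _
  rw [← Matrix.toLin'_apply, Matrix.toLin'_toMatrix', indLin_apply]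

theorem indHom_mem (φ : MulAut (Model B)) :
    indHom hB φ ∈ Cfsg.isometryGroup (ZMod 2) (qd B) := by
  intro v _
  show qd B ((indHom hB φ : Matrix ι ι (ZMod 2)) *ᵥ v) = qd B v
  rw [indHom_mulVec hB φ ⟨0, v⟩]
  have h := congrArg Model.sc (congrArg φ (sq_eq (⟨0, v⟩ : Model B)))
  rw [map_mul, sq_eq, aut_center hB] at h
  exact h

/-- The map onto the isometry group. -/
noncomputable def outHom : MulAut (Model B) →* ↥(Cfsg.isometryGroup (ZMod 2) (qd B)) :=
  (indHom hB).codRestrict _ (indHom_mem hB)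

theorem outHom_ker : (outHom hB).ker = Cfsg.Inn (Model B) := by
  apply le_antisymm
  · intro φ hφ
    have h1 : indHom hB φ = 1 := congrArg Subtype.val (MonoidHom.mem_ker.mp hφ)
    have hvec : ∀ x : Model B, (φ x).vec = x.vec := fun x => by
      rw [← indHom_mulVec hB φ x, h1, Units.val_one, one_mulVec]
    let lam : (ι → ZMod 2) →ₗ[ZMod 2] ZMod 2 :=
      (AddMonoidHom.mk' (fun v => (φ (⟨0, v⟩ : Model B)).sc) fun v w => by
        have h := congrArg Model.sc (map_mul φ (⟨0, v⟩ : Model B) ⟨0, w⟩)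
        rw [show (⟨0, v⟩ : Model B) * ⟨0, w⟩ = ⟨0 + 0 + bil B v w, v + w⟩ from rfl, aut_split hB φ,
          mul_sc] at h
        simp only [hvec] at h
        linear_combination h).toZModLinearMap 2
    let P : (ι → ZMod 2) →ₗ[ZMod 2] ((ι → ZMod 2) →ₗ[ZMod 2] ZMod 2) :=
      (AddMonoidHom.mk' (fun u => (AddMonoidHom.mk' (fun v => pol B u v) fun v w => by
          rw [pol_comm u, pol_add_left, pol_comm v, pol_comm w]).toZModLinearMap 2)
        fun u u' => LinearMap.ext fun v => pol_add_left u u' v).toZModLinearMap 2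
    have hPinj : Function.Injective P := (injective_iff_map_eq_zero P).mpr fun u hu =>
      hB u fun w => LinearMap.congr_fun hu w
    have hPsurj : Function.Surjective P :=
      (LinearMap.injective_iff_surjective_of_finrank_eq_finrank
        Subspace.dual_finrank_eq.symm).mp hPinj
    obtain ⟨u, hu⟩ := hPsurj lam
    refine ⟨⟨0, u⟩, MulEquiv.ext fun x => ?_⟩
    obtain ⟨a, v⟩ := x
    rw [MulAut.conj_apply, aut_split hB φ]
    refine Model.ext ?_ ?_
    · have e : pol B u v = (φ (⟨0, v⟩ : Model B)).sc := LinearMap.congr_fun hu v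
      rw [← e]
      simp only [mul_sc, mul_vec, inv_sc, inv_vec, bil_add_left, qd, pol]
      linear_combination add_self (bil B u u) 
    · rw [hvec]
      simp only [mul_vec, inv_vec]
      rw [add_comm u v, add_assoc, vec_self, add_zero]
  · rintro _ ⟨g, rfl⟩
    rw [MonoidHom.mem_ker]
    refine Subtype.ext (Units.ext (Matrix.ext_of_mulVec_single fun k => ?_))
    rw [OneMemClass.coe_one, Units.val_one, one_mulVec]
    refine (indHom_mulVec hB (MulAut.conj g) ⟨0, Pi.single k 1⟩).trans ?_
    simp only [MulAut.conj_apply, mul_vec, inv_vec]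
    rw [add_comm g.vec, add_assoc, vec_self, add_zero]

theorem outHom_surj : Function.Surjective (outHom hB) := by
  classical
  rintro ⟨g, hg⟩
  set M := (g : Matrix ι ι (ZMod 2)) with hM
  have hq : ∀ v, qd B (M *ᵥ v) = qd B v := fun v => hg v v
  set D : Matrix ι ι (ZMod 2) := Mᵀ * B * M + B with hD
  have hDb : ∀ v w, v ⬝ᵥ D *ᵥ w = bil B (M *ᵥ v) (M *ᵥ w) + bil B v w := fun v w => by
    rw [hD, add_mulVec, dotProduct_add, ← mulVec_mulVec, ← mulVec_mulVec, dotProduct_mulVec,
      vecMul_transpose]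
    rfl
  have hent : ∀ i j, D i j = Pi.single i 1 ⬝ᵥ D *ᵥ Pi.single j 1 := fun i j => by
    rw [single_one_dotProduct, mulVec_single_one]; rfl
  have hdiag : ∀ i, D i i = 0 := fun i => by
    rw [hent, hDb]
    show qd B _ + qd B _ = 0
    rw [hq, add_self]
  have hsym : ∀ i j, D i j = D j i := fun i j => by
    rw [hent, hent j i, hDb, hDb]
    have h1 : ∀ v w, pol B (M *ᵥ v) (M *ᵥ w) = pol B v w := fun v w => by
      rw [pol_eq, pol_eq, ← mulVec_add, hq, hq, hq]
    have h2 := h1 (Pi.single i 1) (Pi.single j 1)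
    simp only [pol] at h2
    linear_combination h2 + add_self (bil B (Pi.single i 1) (Pi.single j 1))
      - add_self (bil B (M *ᵥ Pi.single j 1) (M *ᵥ Pi.single i 1))
  let e := Fintype.equivFin ι
  let U : Matrix ι ι (ZMod 2) := Matrix.of fun i j => if e i < e j then D i j else 0
  have hU : D = U + Uᵀ := by
    ext i j
    simp only [Matrix.add_apply, Matrix.transpose_apply, U, Matrix.of_apply]
    rcases lt_trichotomy (e i) (e j) with h | h | h
    · simp [h, h.le.not_gt]
    · simp [e.injective h, hdiag]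
    · simp [h, h.le.not_gt, hsym i j]
  let c : (ι → ZMod 2) → ZMod 2 := fun v => v ⬝ᵥ U *ᵥ v
  have hc : ∀ v w, c (v + w) = c v + c w + (bil B (M *ᵥ v) (M *ᵥ w) + bil B v w) := fun v w => by
    rw [← hDb, hU, add_mulVec, dotProduct_add, mulVec_transpose, dotProduct_comm v (w ᵥ* _),
      ← dotProduct_mulVec]
    simp only [c, mulVec_add, dotProduct_add, add_dotProduct]
    ring
  let φ : Model B →* Model B := MonoidHom.mk' (fun x => ⟨x.sc + c x.vec, M *ᵥ x.vec⟩) fun x y => by
    ext1
    · simp only [mul_sc, mul_vec, hc]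
      linear_combination add_self (bil B x.vec y.vec)
    · simp only [mul_vec, mulVec_add]
  have hinj : Function.Injective φ := fun x y h => by
    have h1 : x.vec = y.vec := by
      have e1 := congrArg Model.vec h
      exact (Matrix.mulVec_injective_iff_isUnit.mpr g.isUnit) e1
    refine Model.ext ?_ h1
    have e2 := congrArg Model.sc h
    simp only [φ, MonoidHom.mk'_apply, h1] at e2
    exact add_right_cancel e2
  refine ⟨MulEquiv.ofBijective φ (Finite.injective_iff_bijective.mp hinj), ?_⟩
  refine Subtype.ext (Units.ext (Matrix.ext_of_mulVec_single fun k => ?_))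
  exact indHom_mulVec hB _ ⟨0, Pi.single k 1⟩

/-- The outer automorphism group of the model. -/
theorem model_out : Nonempty (Cfsg.Out (Model B) ≃* ↥(Cfsg.isometryGroup (ZMod 2) (qd B))) :=
  ⟨(QuotientGroup.quotientMulEquivOfEq (outHom_ker hB).symm).trans
    (QuotientGroup.quotientKerEquivOfSurjective _ (outHom_surj hB))⟩

end Aut

/-- Outer automorphism groups of isomorphic groups. -/
theorem out_congr {G H : Type*} [Group G] [Group H] (e : G ≃* H) :
    Nonempty (Cfsg.Out G ≃* Cfsg.Out H) := by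
  let e' : MulAut G ≃* MulAut H :=
    { toFun := fun φ => e.symm.trans (φ.trans e)
      invFun := fun φ => e.trans (φ.trans e.symm)
      left_inv := fun φ => MulEquiv.ext fun x => by simp
      right_inv := fun φ => MulEquiv.ext fun x => by simp
      map_mul' := fun φ ψ => MulEquiv.ext fun x => by simp }
  refine ⟨QuotientGroup.congr _ _ e' ?_⟩
  apply le_antisymm
  · rintro _ ⟨_, ⟨g, rfl⟩, rfl⟩
    exact ⟨e g, MulEquiv.ext fun x => by simp [e']⟩
  · rintro _ ⟨h, rfl⟩
    exact ⟨MulAut.conj (e.symm h), ⟨e.symm h, rfl⟩, MulEquiv.ext fun x => by simp [e']⟩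

/-! ### Elementary abelian subgroups and the Gauss sum -/

open QuadFormF2 (chi chi_add)

theorem orth_sum (hB : PolNondeg B) {v : ι → ZMod 2} :
    ∑ w, chi (pol B v w) = if v = 0 then 2 ^ Fintype.card ι else 0 := by
  classical
  split_ifs with h
  · subst h
    simp [pol, bil_zero_left, bil_zero_right, chi]
  · obtain ⟨w₀, hw₀⟩ := not_forall.mp fun hh => h (hB v hh)
    have h1 := (z2_cases (pol B v w₀)).resolve_left hw₀
    have key : ∑ w, chi (pol B v w) = - ∑ w, chi (pol B v w) := by
      rw [← Finset.sum_neg_distrib]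
      conv_lhs => rw [← Equiv.sum_comp (Equiv.addRight w₀)]
      refine Finset.sum_congr rfl fun w _ => ?_
      rw [Equiv.coe_addRight, pol_comm, pol_add_left, chi_add, pol_comm w, pol_comm w₀, h1]
      simp [chi]
    omega

/-- A totally singular subgroup has at most `2^n` elements, and with equality the Gauss sum is positive. -/
theorem singular_gauss (hB : PolNondeg B) {n : ℕ} (hn : Fintype.card ι = 2 * n)
    (U : AddSubgroup (ι → ZMod 2)) (hU : ∀ u ∈ U, qd B u = 0) (hcard : 2 ^ n ≤ Nat.card U) :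
    0 < ∑ v, chi (qd B v) := by
  classical
  let s : Finset (ι → ZMod 2) := Finset.univ.filter (· ∈ U)
  have hs : ∀ v, v ∈ s ↔ v ∈ U := fun v => by simp [s]
  have hscard : (s.card : ℤ) = Nat.card U := by
    rw [Nat.card_eq_fintype_card, Fintype.card_subtype]
  let p : Finset (ι → ZMod 2) := Finset.univ.filter fun v => ∀ u ∈ U, pol B v u = 0
  have hsp : s ⊆ p := fun v hv => by
    simp only [p, Finset.mem_filter, Finset.mem_univ, true_and]
    intro u hu
    rw [pol_eq, hU _ ((hs v).mp hv), hU _ hu, hU _ (U.add_mem ((hs v).mp hv) hu)]; ring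
  have inner : ∀ v, ∑ u ∈ s, chi (pol B v u) = if v ∈ p then (s.card : ℤ) else 0 := by
    intro v
    split_ifs with h
    · simp only [p, Finset.mem_filter, Finset.mem_univ, true_and] at h
      rw [Finset.sum_congr rfl fun u hu => by rw [h u ((hs u).mp hu)]]
      simp [chi]
    · simp only [p, Finset.mem_filter, Finset.mem_univ, true_and, not_forall] at h
      obtain ⟨u₀, hu₀, h0⟩ := h
      have h1 := (z2_cases (pol B v u₀)).resolve_left h0
      have key : ∑ u ∈ s, chi (pol B v u) = - ∑ u ∈ s, chi (pol B v u) := by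
        rw [← Finset.sum_neg_distrib]
        refine Finset.sum_equiv (Equiv.addRight u₀) (fun u => ?_) (fun u _ => ?_)
        · rw [hs, hs, Equiv.coe_addRight, U.add_mem_cancel_right hu₀]
        · rw [Equiv.coe_addRight, pol_comm v (u + u₀), pol_add_left, chi_add, pol_comm u₀, h1,
            pol_comm u]
          simp [chi]
      omega
  -- `|p| * |s| = 2^(2n)`
  have hps : (p.card : ℤ) * s.card = 2 ^ (2 * n) := by
    have h1 : ∑ v, ∑ u ∈ s, chi (pol B v u) = (p.card : ℤ) * s.card := by
      simp only [inner, Finset.sum_ite_mem, Finset.univ_inter, Finset.sum_const, nsmul_eq_mul]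
    rw [← h1, Finset.sum_comm, Finset.sum_eq_single (0 : ι → ZMod 2)]
    · rw [Finset.sum_congr rfl fun v _ => by rw [pol_comm v (0 : ι → ZMod 2)], orth_sum hB,
        if_pos rfl, hn]
    · intro u _ hu
      rw [Finset.sum_congr rfl fun v _ => by rw [pol_comm v u], orth_sum hB, if_neg hu]
    · intro h; exact absurd ((hs 0).mpr U.zero_mem) h
  have hps' : p = s := by
    refine (Finset.eq_of_subset_of_card_le hsp ?_).symm
    have h2 : ((2 : ℤ) ^ n) ≤ s.card := by rw [hscard]; exact_mod_cast hcard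
    have h3 : (2 : ℤ) ^ (2 * n) = 2 ^ n * 2 ^ n := by rw [← pow_add, two_mul]
    have h4 : (0 : ℤ) < 2 ^ n := by positivity
    have : (p.card : ℤ) ≤ s.card := by nlinarith
    exact_mod_cast this
  -- sum over cosets
  have key : (s.card : ℤ) * ∑ v, chi (qd B v) = (s.card : ℤ) * s.card := by
    calc (s.card : ℤ) * ∑ v, chi (qd B v) = ∑ u ∈ s, ∑ v, chi (qd B (v + u)) := by
          rw [← nsmul_eq_mul, ← Finset.sum_const]
          exact Finset.sum_congr rfl fun u _ =>
            (Equiv.sum_comp (Equiv.addRight u) (fun v => chi (qd B v))).symm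
      _ = ∑ v, chi (qd B v) * ∑ u ∈ s, chi (pol B v u) := by
          rw [Finset.sum_comm]
          refine Finset.sum_congr rfl fun v _ => ?_
          rw [Finset.mul_sum]
          refine Finset.sum_congr rfl fun u hu => ?_
          rw [← chi_add, pol_eq, hU u ((hs u).mp hu)]
          congr 1
          linear_combination -(add_self (qd B v))
      _ = ∑ v ∈ p, chi (qd B v) * s.card := by
          simp only [inner, mul_ite, mul_zero, Finset.sum_ite_mem, Finset.univ_inter]
      _ = (s.card : ℤ) * s.card := by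
          rw [hps', Finset.sum_congr rfl fun v hv => by rw [hU v ((hs v).mp hv)]]
          simp [chi]
  have hpos : (0 : ℤ) < s.card := by
    exact_mod_cast Finset.card_pos.mpr ⟨0, (hs 0).mpr U.zero_mem⟩
  nlinarith

/-- An elementary abelian subgroup of order `2^(n+1)` forces a positive Gauss sum. -/
theorem gauss_pos_of_elementary (hB : PolNondeg B) {n : ℕ} (hn : Fintype.card ι = 2 * n)
    {A : Subgroup (Model B)} (hA : Cfsg.IsElementaryAbelian 2 A) (hcard : Nat.card A = 2 ^ (n + 1)) :
    0 < ∑ v, chi (qd B v) := by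
  classical
  let U : AddSubgroup (ι → ZMod 2) :=
    { carrier := {v | ∃ a ∈ A, a.vec = v}
      add_mem' := by rintro _ _ ⟨a, ha, rfl⟩ ⟨b, hb, rfl⟩; exact ⟨a * b, A.mul_mem ha hb, rfl⟩
      zero_mem' := ⟨1, A.one_mem, rfl⟩
      neg_mem' := by
        rintro _ ⟨a, ha, rfl⟩
        exact ⟨a, ha, (neg_eq_of_add_eq_zero_right (vec_self _)).symm⟩ }
  refine singular_gauss hB hn U ?_ ?_
  · rintro _ ⟨a, ha, rfl⟩
    have h := hA.2 a ha
    rw [pow_two, sq_eq] at h
    exact congrArg Model.sc h
  · have hle : Nat.card ↥A ≤ Nat.card (ZMod 2 × ↥U) :=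
      Nat.card_le_card_of_injective (fun a => (a.1.sc, ⟨a.1.vec, a.1, a.2, rfl⟩)) fun a b h => by
        simp only [Prod.mk.injEq, Subtype.mk.injEq] at h
        exact Subtype.ext (Model.ext h.1 h.2)
    rw [Nat.card_prod, Nat.card_zmod, hcard, pow_succ'] at hle
    omega

/-! ### The two types -/

/-- The cocycle of plus type. -/
def Bplus (n : ℕ) : Matrix (Fin n ⊕ Fin n) (Fin n ⊕ Fin n) (ZMod 2) := Matrix.fromBlocks 0 1 0 0

/-- The cocycle of minus type. -/
def Bminus (m : ℕ) : Matrix ((Fin m ⊕ Fin m) ⊕ Fin 2) ((Fin m ⊕ Fin m) ⊕ Fin 2) (ZMod 2) :=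
  Matrix.fromBlocks (Bplus m) 0 0 !![1, 1; 0, 1]

theorem bil_plus {n : ℕ} (v w : Fin n ⊕ Fin n → ZMod 2) :
    bil (Bplus n) v w = ∑ i, v (.inl i) * w (.inr i) := by
  simp [bil, Bplus, fromBlocks_mulVec, dotProduct, Fintype.sum_sum_type]

theorem bil_minus {m : ℕ} (v w : (Fin m ⊕ Fin m) ⊕ Fin 2 → ZMod 2) :
    bil (Bminus m) v w = bil (Bplus m) (v ∘ .inl) (w ∘ .inl)
      + (v (.inr 0) * w (.inr 0) + v (.inr 0) * w (.inr 1) + v (.inr 1) * w (.inr 1)) := by
  simp only [bil, Bminus, fromBlocks_mulVec, dotProduct, Fintype.sum_sum_type, Fin.sum_univ_two,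
    zero_mulVec, add_zero, zero_add, Sum.elim_inl, Sum.elim_inr, Function.comp_apply]
  simp [mulVec, dotProduct, Fin.sum_univ_two]
  ring

theorem qd_plus (n : ℕ) : qd (Bplus n) = Cfsg.quadFormPlus n (ZMod 2) :=
  funext fun v => bil_plus v v

theorem qd_minus (m : ℕ) : qd (Bminus m) = Cfsg.quadFormMinus m (ZMod 2) 1 1 := funext fun v => by
  rw [qd, bil_minus, bil_plus, Cfsg.quadFormMinus]
  simp only [Function.comp_apply]
  ring

theorem nondeg_plus (n : ℕ) : PolNondeg (Bplus n) := fun v hv => funext fun i => by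
  cases i with
  | inl i => simpa [pol, bil_plus, Pi.single_apply] using hv (Pi.single (.inr i) 1)
  | inr i => simpa [pol, bil_plus, Pi.single_apply] using hv (Pi.single (.inl i) 1)

theorem nondeg_minus (m : ℕ) : PolNondeg (Bminus m) := fun v hv => funext fun i => by
  rcases i with (i | i) | i
  · simpa [pol, bil_minus, bil_plus, Pi.single_apply] using hv (Pi.single (.inl (.inr i)) 1)
  · simpa [pol, bil_minus, bil_plus, Pi.single_apply] using hv (Pi.single (.inl (.inl i)) 1)
  · fin_cases i
    · show v (.inr 0) = 0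
      have := hv (Pi.single (.inr 1) 1)
      simp [pol, bil_minus, bil_plus, Pi.single_apply] at this
      linear_combination this - add_self (v (.inr 1))
    · show v (.inr 1) = 0
      have := hv (Pi.single (.inr 0) 1)
      simp [pol, bil_minus, bil_plus, Pi.single_apply] at this
      linear_combination this - add_self (v (.inr 0))

theorem gauss_minus (m : ℕ) : ∑ v, chi (qd (Bminus m) v) < 0 := by
  classical
  have h2 : ∑ t : Fin 2 → ZMod 2, chi (t 0 * t 0 + t 0 * t 1 + t 1 * t 1) = -2 := by decide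
  rw [← Equiv.sum_comp (Equiv.sumArrowEquivProdArrow (Fin m ⊕ Fin m) (Fin 2) (ZMod 2)).symm,
    Fintype.sum_prod_type]
  have : ∀ (x : Fin m ⊕ Fin m → ZMod 2) (t : Fin 2 → ZMod 2),
      chi (qd (Bminus m) ((Equiv.sumArrowEquivProdArrow (Fin m ⊕ Fin m) (Fin 2) (ZMod 2)).symm (x, t)))
        = chi (Cfsg.quadFormPlus m (ZMod 2) x) * chi (t 0 * t 0 + t 0 * t 1 + t 1 * t 1) := fun x t => by
    rw [← chi_add, qd, bil_minus, bil_plus]
    rfl
  simp only [this, ← Finset.mul_sum, h2, ← Finset.sum_mul, QuadFormF2.gauss m]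
  have : (0 : ℤ) < 2 ^ m := by positivity
  linarith

/-- The plus model has an elementary abelian subgroup of maximal order. -/
theorem elementary_plus (n : ℕ) :
    ∃ A : Subgroup (Model (Bplus n)), Cfsg.IsElementaryAbelian 2 A ∧ Nat.card A = 2 ^ (n + 1) := by
  refine ⟨{ carrier := {x | ∀ i, x.vec (.inl i) = 0}
            mul_mem' := fun {x y} hx hy i => by simp [mul_vec, hx i, hy i]
            one_mem' := fun i => rfl
            inv_mem' := fun {x} hx i => hx i }, ⟨⟨⟨fun a b => Subtype.ext ?_⟩⟩, fun a ha => ?_⟩, ?_⟩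
  · ext1
    · simp [mul_sc, bil_plus, a.2 _, b.2 _, add_comm]
    · exact add_comm _ _
  · rw [pow_two, sq_eq]
    exact Model.ext (by simp [qd, bil_plus, ha _, one_sc]) rfl
  · rw [Nat.card_congr (β := ZMod 2 × (Fin n → ZMod 2))
      { toFun := fun a => (a.1.sc, fun i => a.1.vec (.inr i))
        invFun := fun t => ⟨⟨t.1, Sum.elim 0 t.2⟩, fun i => rfl⟩
        left_inv := fun a => Subtype.ext (Model.ext rfl (funext fun
          | .inl i => (a.2 i).symm
          | .inr i => rfl))
        right_inv := fun t => rfl }, Nat.card_prod, Nat.card_fun, Nat.card_zmod, Nat.card_fin]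
    ring

theorem no_elementary_minus (m : ℕ) :
    ¬ ∃ A : Subgroup (Model (Bminus m)), Cfsg.IsElementaryAbelian 2 A ∧ Nat.card A = 2 ^ (m + 1 + 1) := by
  rintro ⟨A, hA, hc⟩
  have := gauss_pos_of_elementary (nondeg_minus m) (by simp; ring) hA hc
  have := gauss_minus m
  linarith

/-- Existence of an elementary abelian subgroup of a given order is an isomorphism invariant. -/
theorem elementary_congr {G H : Type*} [Group G] [Group H] (e : G ≃* H) {N : ℕ}
    (h : ∃ A : Subgroup G, Cfsg.IsElementaryAbelian 2 A ∧ Nat.card A = N) :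
    ∃ A : Subgroup H, Cfsg.IsElementaryAbelian 2 A ∧ Nat.card A = N := by
  obtain ⟨A, ⟨h1, h2⟩, h3⟩ := h
  haveI := h1
  refine ⟨A.map e.toMonoidHom, ⟨Subgroup.map_isMulCommutative _ _, ?_⟩, ?_⟩
  · rintro _ ⟨a, ha, rfl⟩; rw [← map_pow, h2 a ha, map_one]
  · rw [Subgroup.card_map_of_injective e.injective, h3]

/-- An extraspecial 2-group is one of the two models. -/
theorem exists_iso {E : Type*} [Group E] [Finite E] (hE : Cfsg.IsExtraspecial 2 E) (n : ℕ)
    (hn : 1 ≤ n) (hcard : Nat.card E = 2 ^ (2 * n + 1)) :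
    Nonempty (E ≃* Model (Bplus n)) ∨ Nonempty (E ≃* Model (Bminus (n - 1))) := by
  haveI : Fact (Nat.Prime 2) := ⟨Nat.prime_two⟩
  obtain ⟨z, hz, hzc⟩ := PGroupsExtraspecial.extraspecial_exists_z hE
  have hd := PGroupsExtraspecial.exists_decomp_two hz
    (PGroupsExtraspecial.extraspecial_commInto hE hzc ⊤)
    (PGroupsExtraspecial.extraspecial_nondeg_top hzc)
    (fun g _ => hzc ▸ PGroupsExtraspecial.special_pow_mem_center hE.1 g) n (by rw [Subgroup.card_top, hcard])
  have hp := model_decomp (nondeg_plus n) (n := n) (by simp; ring)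
  have hm := model_decomp (nondeg_minus (n - 1)) (n := n) (by simp; omega)
  have e1 : ∀ {l}, PGroupsExtraspecial.Decomp 2 z (⊤ : Subgroup E) l →
      PGroupsExtraspecial.Decomp 2 (zM (Bplus n)) (⊤ : Subgroup (Model (Bplus n))) l →
      Nonempty (E ≃* Model (Bplus n)) := fun h h' => by
    obtain ⟨Γ⟩ := PGroupsExtraspecial.Decomp.iso hz zM_prime h h'
    exact Γ.nonempty_mulEquiv.map fun e => Subgroup.topEquiv.symm.trans (e.trans Subgroup.topEquiv)
  have e2 : ∀ {l}, PGroupsExtraspecial.Decomp 2 z (⊤ : Subgroup E) l →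
      PGroupsExtraspecial.Decomp 2 (zM (Bminus (n - 1))) (⊤ : Subgroup (Model (Bminus (n - 1)))) l →
      Nonempty (E ≃* Model (Bminus (n - 1))) := fun h h' => by
    obtain ⟨Γ⟩ := PGroupsExtraspecial.Decomp.iso hz zM_prime h h'
    exact Γ.nonempty_mulEquiv.map fun e => Subgroup.topEquiv.symm.trans (e.trans Subgroup.topEquiv)
  have ne : ∀ {l}, PGroupsExtraspecial.Decomp 2 (zM (Bplus n)) (⊤ : Subgroup (Model (Bplus n))) l →
      ¬ PGroupsExtraspecial.Decomp 2 (zM (Bminus (n - 1))) (⊤ : Subgroup (Model (Bminus (n - 1)))) l := by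
    intro l h h'
    obtain ⟨Γ⟩ := PGroupsExtraspecial.Decomp.iso zM_prime zM_prime h h'
    obtain ⟨e⟩ := Γ.nonempty_mulEquiv.map fun e => Subgroup.topEquiv.symm.trans (e.trans Subgroup.topEquiv)
    apply no_elementary_minus (n - 1)
    have := elementary_congr e (elementary_plus n)
    rwa [Nat.sub_add_cancel hn]
  rcases hd with h | h <;> rcases hp with h' | h' <;> rcases hm with h'' | h''
  all_goals first
    | exact Or.inl (e1 h h')
    | exact Or.inr (e2 h h'')
    | exact absurd h'' (ne h')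

end Cfsg.Agent.ExtraspecialTwoOut
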