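import Mathlib
import Cfsg.Prelude.Def_CaseTheorems
import Cfsg.Prelude.Def_SubgroupEmbedding
import Cfsg.Agent.Lib.HallCore
import Cfsg.Agent.Lib.ZStarTheorem

/-!
An extremely closed abelian 2-subgroup `H` gives `G = N(H) O(G)`.
-/

set_option autoImplicit false
set_option linter.style.haveILetI false

namespace Cfsg.Agent.ExtremelyClosed67

open Subgroup Cfsg Cfsg.Agent
open scoped Pointwise

universe u

variable {G : Type u} [Group G]

/-- Conjugate subgroup. -/
def cj (g : G) (K : Subgroup G) : Subgroup G := K.map (MulAut.conj g).toMonoidHom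

theorem mem_cj {g x : G} {K : Subgroup G} : x ∈ cj g K ↔ g⁻¹ * x * g ∈ K := by
  constructor
  · rintro ⟨y, hy, rfl⟩
    simpa [MulAut.conj_apply, mul_assoc] using hy
  · intro h
    exact ⟨_, h, by simp [MulAut.conj_apply, mul_assoc]⟩

theorem conj_mem_cj {g y : G} {K : Subgroup G} (hy : y ∈ K) : g * y * g⁻¹ ∈ cj g K :=
  mem_cj.2 (by simpa [mul_assoc] using hy)

theorem cj_mul (g h : G) (K : Subgroup G) : cj (g * h) K = cj g (cj h K) := by
  ext x; simp [mem_cj, mul_assoc]

theorem cj_one (K : Subgroup G) : cj 1 K = K := by ext x; simp [mem_cj]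

theorem cj_eq_self_iff {g : G} {K : Subgroup G} :
    cj g K = K ↔ g ∈ normalizer (K : Set G) := by
  rw [mem_normalizer_iff]
  constructor
  · intro h x
    conv_rhs => rw [← h, mem_cj]
    simp [mul_assoc]
  · intro h
    ext x
    rw [mem_cj, h]
    simp [mul_assoc]

theorem isPGroup_cj {p : ℕ} {K : Subgroup G} (hK : IsPGroup p K) (g : G) : IsPGroup p (cj g K) :=
  hK.map _

/-- The conjugacy class of an extremely closed abelian 2-subgroup. -/
structure Family (H : Subgroup G) : Prop where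
  two : IsPGroup 2 H
  comm : ∀ a ∈ H, ∀ b ∈ H, Commute a b
  closed : IsExtremelyClosed H

/-- Membership in the conjugacy class of `H`. -/
def Mem (H K : Subgroup G) : Prop := ∃ g : G, cj g H = K

theorem mem_self (H : Subgroup G) : Mem H H := ⟨1, cj_one H⟩

namespace Family

variable {H K M : Subgroup G} (hF : Family H)
include hF

theorem isTwo (hK : Mem H K) : IsPGroup 2 K := by
  obtain ⟨g, rfl⟩ := hK
  exact isPGroup_cj hF.two g

theorem commute (hK : Mem H K) {a b : G} (ha : a ∈ K) (hb : b ∈ K) : Commute a b := by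
  obtain ⟨g, rfl⟩ := hK
  obtain ⟨x, hx, rfl⟩ := ha
  obtain ⟨y, hy, rfl⟩ := hb
  exact (hF.comm x hx y hy).map _

theorem closed' (hK : Mem H K) (hM : Mem H M) {x : G} (hx : x ∈ K ⊔ M)
    (hxn : x ∈ normalizer (K : Set G)) : x ∈ K := by
  obtain ⟨g, rfl⟩ := hK
  obtain ⟨t, rfl⟩ := hM
  have hsup : cj g⁻¹ (cj g H ⊔ cj t H) = H ⊔ cj (g⁻¹ * t) H := by
    rw [cj, Subgroup.map_sup]
    show cj g⁻¹ (cj g H) ⊔ cj g⁻¹ (cj t H) = _
    rw [← cj_mul, ← cj_mul, inv_mul_cancel, cj_one]
  have h1 : g⁻¹ * x * g ∈ H ⊔ cj (g⁻¹ * t) H := by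
    rw [← hsup, mem_cj]; simpa [mul_assoc] using hx
  have h2 : g⁻¹ * x * g ∈ normalizer (H : Set G) := by
    rw [← cj_eq_self_iff] at hxn ⊢
    rw [cj_mul, cj_mul, hxn, ← cj_mul, inv_mul_cancel, cj_one]
  exact mem_cj.2 ((hF.closed (g⁻¹ * t)).le ⟨h1, h2⟩)

/-- An element of a member normalising a member lies in it. -/
theorem mem_of_normalizes (hK : Mem H K) (hM : Mem H M) {x : G} (hx : x ∈ M)
    (hxn : x ∈ normalizer (K : Set G)) : x ∈ K :=
  hF.closed' hK hM (le_sup_right (a := K) hx) hxn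

/-- Burnside transfer in the subgroup generated by two members. -/
theorem pair [Finite G] (hK : Mem H K) (hM : Mem H M) :
    ∃ φ : ↥(K ⊔ M) →* ↥K, (∀ x, φ x = 1 ↔ Odd (orderOf x)) ∧
      (∃ d : ↥(K ⊔ M), φ d = 1 ∧ cj (d : G) K = M) ∧
      ∀ x : ↥(K ⊔ M), orderOf x = 2 → ∃ L, Mem H L ∧ (x : G) ∈ L := by
  classical
  haveI := Fact.mk Nat.prime_two
  set D := K ⊔ M with hD
  set K' := K.subgroupOf D
  have hK' : IsPGroup 2 K' := (hF.isTwo hK).comap_of_injective D.subtype D.subtype_injective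
  obtain ⟨P, hP⟩ := hK'.exists_le_sylow
  have hnorm : normalizer (K' : Set D) ≤ K' := by
    intro x hx
    rw [mem_subgroupOf]
    refine hF.closed' hK hM x.2 ?_
    rw [mem_normalizer_iff]
    intro y
    rw [mem_normalizer_iff] at hx
    constructor
    · intro hy
      exact (hx ⟨y, le_sup_left (b := M) hy⟩).1 hy
    · intro hy
      have hyD : y ∈ D := by
        have h := D.mul_mem (D.mul_mem (D.inv_mem x.2) (le_sup_left (b := M) hy)) x.2
        simpa [mul_assoc] using h
      exact (hx ⟨y, hyD⟩).2 hy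
  have hPK : (P : Subgroup D) = K' := by
    refine le_antisymm ?_ hP
    by_contra hne
    have hlt : K'.subgroupOf (P : Subgroup D) < ⊤ := by
      rw [lt_top_iff_ne_top, Ne, subgroupOf_eq_top]; exact hne
    haveI := P.2.isNilpotent
    obtain ⟨x, hx, hxK⟩ := SetLike.exists_of_lt (Group.normalizerCondition_of_isNilpotent _ hlt)
    apply hxK
    rw [mem_subgroupOf]
    apply hnorm
    rw [mem_normalizer_iff] at hx ⊢
    intro y
    constructor
    · intro hy
      exact (hx ⟨y, hP hy⟩).1 hy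
    · intro hy
      have hyP : y ∈ (P : Subgroup D) := by
        have h := P.1.mul_mem (P.1.mul_mem (P.1.inv_mem x.2) (hP hy)) x.2
        simpa [mul_assoc] using h
      exact (hx ⟨y, hyP⟩).2 hy
  have hPc : normalizer (P : Set D) ≤ centralizer (P : Set D) := by
    intro x hx
    have hxK : x ∈ K' := hnorm (by
      have : ((P : Subgroup D) : Set D) = (K' : Set D) := by rw [hPK]
      rwa [← this])
    rw [mem_centralizer_iff]
    intro y hy
    have hyK : y ∈ K' := hPK.le hy
    exact Subtype.ext (hF.commute hK hyK hxK).eq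
  set τ := MonoidHom.transferSylow P hPc
  have hker : ∀ x, τ x = 1 ↔ Odd (orderOf x) := by
    intro x
    constructor
    · intro hx
      have h := MonoidHom.not_dvd_card_ker_transferSylow P hPc
      refine Nat.odd_iff.2 (Nat.two_dvd_ne_zero.1 fun h2 => h (h2.trans ?_))
      have : orderOf (⟨x, MonoidHom.mem_ker.2 hx⟩ : τ.ker) ∣ Nat.card τ.ker := orderOf_dvd_natCard _
      rwa [Subgroup.orderOf_mk] at this
    · intro hx
      obtain ⟨n, hn⟩ := IsPGroup.iff_orderOf.1 P.2 (τ x)
      have h := orderOf_map_dvd τ x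
      rw [hn] at h
      cases n with
      | zero => rw [pow_zero, orderOf_eq_one_iff] at hn; exact hn
      | succ n =>
        exact absurd (Odd.of_dvd_nat hx ((dvd_pow_self 2 n.succ_ne_zero).trans h)) (by decide)
  set ι : ↥(P : Subgroup D) →* ↥K :=
    { toFun := fun y => ⟨((y : D) : G), hPK.le y.2⟩
      map_one' := rfl
      map_mul' := fun _ _ => rfl } with hι
  have hι1 : ∀ y, ι y = 1 ↔ y = 1 := fun y => by
    simp only [hι, MonoidHom.coe_mk, OneHom.coe_mk, Subtype.ext_iff, OneMemClass.coe_one]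
  refine ⟨ι.comp τ, fun x => (hι1 _).trans (hker x), ?_, ?_⟩
  · obtain ⟨g, hg⟩ := hK
    obtain ⟨t, ht⟩ := hM
    have hcard : Nat.card (M.subgroupOf D) = Nat.card (P : Subgroup D) := by
      rw [hPK, Nat.card_congr (subgroupOfEquivOfLe (le_sup_right : M ≤ D)).toEquiv,
        Nat.card_congr (subgroupOfEquivOfLe (le_sup_left : K ≤ D)).toEquiv, ← hg, ← ht, cj, cj,
        Subgroup.card_map_of_injective (MulAut.conj t).injective,
        Subgroup.card_map_of_injective (MulAut.conj g).injective]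
    set R : Sylow 2 D := Sylow.ofCard (M.subgroupOf D) (hcard.trans P.card_eq_multiplicity) with hR
    obtain ⟨d, hd⟩ := MulAction.exists_smul_eq D P R
    have hd' : cj (d : G) K = M := by
      ext x
      have hmem : ∀ y : D, y ∈ M.subgroupOf D ↔ d⁻¹ * y * d ∈ K' := by
        intro y
        have : M.subgroupOf D = MulAut.conj d • (P : Subgroup D) := by
          have h := congrArg (fun S : Sylow 2 D => (S : Subgroup D)) hd
          simp only [Sylow.smul_def, Sylow.pointwise_smul_def] at h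
          rw [h]; rfl
        rw [this, Subgroup.mem_pointwise_smul_iff_inv_smul_mem, hPK]
        simp [MulAut.smul_def, mul_assoc]
      rw [mem_cj]
      constructor
      · intro hx
        have hxD : x ∈ D := by
          have h := D.mul_mem (D.mul_mem d.2 (le_sup_left (b := M) hx)) (D.inv_mem d.2)
          simpa [mul_assoc] using h
        exact (hmem ⟨x, hxD⟩).2 hx
      · intro hx
        exact (hmem ⟨x, le_sup_right (a := K) hx⟩).1 hx
    obtain ⟨⟨o, k⟩, hok, -⟩ :=
      (MonoidHom.ker_transferSylow_isComplement' P hPc).existsUnique d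
    refine ⟨o, (hι1 _).2 o.2, ?_⟩
    rw [← hd', ← hok]
    push_cast
    have hkK : ((k : D) : G) ∈ K := hPK.le k.2
    rw [cj_mul, cj_eq_self_iff.2 (le_normalizer hkK)]
  · intro x hx
    obtain ⟨R, hR⟩ := (IsPGroup.iff_card.2 ⟨1, by rw [Nat.card_zpowers, hx, pow_one]⟩ :
      IsPGroup 2 (zpowers x)).exists_le_sylow
    obtain ⟨d, hd⟩ := MulAction.exists_smul_eq D R P
    obtain ⟨g, hg⟩ := hK
    refine ⟨cj (d : G)⁻¹ K, ⟨(d : G)⁻¹ * g, by rw [cj_mul, hg]⟩, ?_⟩
    have hmem : d * x * d⁻¹ ∈ K' := by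
      have : MulAut.conj d • x ∈ MulAut.conj d • (R : Subgroup D) :=
        Subgroup.smul_mem_pointwise_smul _ _ _ (hR (mem_zpowers x))
      rw [← hPK, ← hd, Sylow.smul_def, Sylow.pointwise_smul_def]
      simpa [MulAut.smul_def] using this
    rw [mem_cj, inv_inv]
    exact hmem

end Family

/-! ### Elementary facts on involutions -/

theorem odd_rel_symm {x y : G} (h : Odd (orderOf (x * y))) : Odd (orderOf (y * x)) := by
  have e : x⁻¹ * (x * y) * x = y * x := by group
  rw [← e, ← orderOf_injective (MulAut.conj x).toMonoidHom (MulAut.conj x).injective]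
  simpa [MulAut.conj_apply, mul_assoc] using h

theorem sq_one {a : G} (h : orderOf a = 2) : a * a = 1 := by
  rw [← pow_two, ← h, pow_orderOf_eq_one]

theorem orderOf_conj' (g x : G) : orderOf (g * x * g⁻¹) = orderOf x := by
  simpa [MulAut.conj_apply] using
    orderOf_injective (MulAut.conj g).toMonoidHom (MulAut.conj g).injective x

/-- From `x ^ 2` of odd order: the involution power of `x`. -/
theorem half [Finite G] {x : G} (h1 : ¬ Odd (orderOf x)) (h2 : Odd (orderOf (x ^ 2))) :
    orderOf (x ^ orderOf (x ^ 2)) = 2 := by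
  haveI := Fact.mk Nat.prime_two
  refine orderOf_eq_prime ?_ ?_
  · rw [← pow_mul, mul_comm, pow_mul, pow_orderOf_eq_one]
  · intro h
    exact h1 (Odd.of_dvd_nat h2 (orderOf_dvd_of_pow_eq_one h))

/-- The involution power of a product of two involutions commutes with both. -/
theorem dihedral {a b : G} (ha : a * a = 1) (hb : b * b = 1) {k : ℕ}
    (hk : (a * b) ^ k * (a * b) ^ k = 1) :
    Commute a ((a * b) ^ k) ∧ Commute b ((a * b) ^ k) := by
  have hai : a⁻¹ = a := inv_eq_of_mul_eq_one_left ha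
  have hbi : b⁻¹ = b := inv_eq_of_mul_eq_one_left hb
  have hxi : ((a * b) ^ k)⁻¹ = (a * b) ^ k := inv_eq_of_mul_eq_one_left hk
  have e1 : a * (a * b) ^ k * a⁻¹ = (a * b) ^ k := by
    rw [← conj_pow, ← hxi, ← inv_pow]
    congr 1
    rw [mul_inv_rev, hai, hbi, ← mul_assoc, ha, one_mul]
  have e2 : b * (a * b) ^ k * b⁻¹ = (a * b) ^ k := by
    rw [← conj_pow, ← hxi, ← inv_pow]
    congr 1
    rw [mul_inv_rev, hai, hbi, mul_assoc, mul_assoc, hb, mul_one]
  exact ⟨mul_inv_eq_iff_eq_mul.1 e1, mul_inv_eq_iff_eq_mul.1 e2⟩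

/-! ### The induction step -/

/-- The induction hypothesis in the form used: proper subgroups factorise. -/
def Ind (H : Subgroup G) : Prop :=
  ∀ (C : Subgroup G), C ≠ ⊤ → ∀ K, Mem H K → K ≤ C → ∀ x ∈ C,
    ∃ o : ↥C, o ∈ pPrimeCore 2 ↥C ∧ ∃ n ∈ normalizer (K : Set G), x = (o : G) * n

/-- No involution of `H` is central. -/
def NoCentral (H : Subgroup G) : Prop := ∀ z ∈ H, orderOf z = 2 → z ∉ center G

namespace Family

variable [Finite G] {H K M : Subgroup G} (hF : Family H) (hI : Ind H) (hZ : NoCentral H)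

include hZ in
theorem centralizer_ne_top (hK : Mem H K) {c : G} (hc : c ∈ K) (hc2 : orderOf c = 2) :
    centralizer ({c} : Set G) ≠ ⊤ := by
  intro h
  obtain ⟨g, rfl⟩ := hK
  have hcc : c ∈ center G := mem_center_iff.2 fun x => by
    have : x ∈ centralizer ({c} : Set G) := by rw [h]; trivial
    exact mem_centralizer_singleton_iff.1 this
  have h2 : g⁻¹ * c * g = c := by
    rw [mul_assoc, ← mem_center_iff.1 hcc g, ← mul_assoc, inv_mul_cancel, one_mul]
  exact hZ c (h2 ▸ mem_cj.1 hc) hc2 hcc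

include hF in
theorem le_centralizer (hK : Mem H K) {c : G} (hc : c ∈ K) :
    K ≤ centralizer ({c} : Set G) := fun _ hy =>
  mem_centralizer_singleton_iff.2 (hF.commute hK hy hc).eq

include hF hI hZ in
/-- Commuting member involutions lie in a common member. -/
theorem common (hK : Mem H K) (hM : Mem H M) {u c : G} (hu : u ∈ K) (hu2 : orderOf u = 2)
    (hc : c ∈ M) (huc : Commute c u) : ∃ L, Mem H L ∧ u ∈ L ∧ c ∈ L := by
  classical
  haveI := Fact.mk Nat.prime_two
  set C := centralizer ({u} : Set G) with hC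
  have hKC : K ≤ C := hF.le_centralizer hK hu
  set N := (normalizer (K : Set G)).subgroupOf C with hN
  have htop : pPrimeCore 2 C ⊔ N = ⊤ := by
    rw [eq_top_iff]
    intro x _
    obtain ⟨o, ho, n, hn, hx⟩ := hI C (centralizer_ne_top hZ hK hu hu2) K hK hKC x x.2
    have hnC : n ∈ C := by
      have h := C.mul_mem (C.inv_mem o.2) x.2
      rw [hx] at h; simpa [← mul_assoc] using h
    have : x = o * ⟨n, hnC⟩ := Subtype.ext hx
    rw [this]
    exact mul_mem (mem_sup_left ho) (mem_sup_right (mem_subgroupOf.2 hn))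
  have hidx : N.index ∣ Nat.card (pPrimeCore 2 C) := by
    haveI : (pPrimeCore 2 C).Normal := HallCore.pPrimeCore_normal 2 C
    have h1 := HallCore.card_sup_dvd N (pPrimeCore 2 C)
    rw [sup_comm, htop, card_top, ← N.card_mul_index] at h1
    exact Nat.dvd_of_mul_dvd_mul_left Nat.card_pos h1
  have hodd : ¬ 2 ∣ Nat.card (↥C ⧸ N) := fun h =>
    HallCore.not_dvd_card_pPrimeCore 2 C (h.trans hidx)
  set c' : C := ⟨c, mem_centralizer_singleton_iff.2 huc.eq⟩
  have hp : IsPGroup 2 (zpowers c') := by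
    have h2 := (hF.isTwo hM).comap_of_injective C.subtype C.subtype_injective
    exact h2.to_le (zpowers_le.2 hc)
  obtain ⟨q, hq⟩ := hp.nonempty_fixed_point_of_prime_not_dvd_card (↥C ⧸ N) hodd
  obtain ⟨x, rfl⟩ := QuotientGroup.mk_surjective q
  have hfix : c' • (QuotientGroup.mk x : ↥C ⧸ N) = QuotientGroup.mk x :=
    hq ⟨c', mem_zpowers c'⟩
  rw [MulAction.Quotient.smul_mk, smul_eq_mul, QuotientGroup.eq] at hfix
  rw [hN, mem_subgroupOf] at hfix
  have hL : Mem H (cj (x : G) K) := by
    obtain ⟨g, rfl⟩ := hK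
    exact ⟨x * g, cj_mul _ _ _⟩
  refine ⟨_, hL, ?_, hF.mem_of_normalizes hL hM hc ?_⟩
  · have hx : (x : G) * u = u * x := mem_centralizer_singleton_iff.1 x.2
    rw [mem_cj, mul_assoc, ← hx, inv_mul_cancel_left]
    exact hu
  · have h := cj_eq_self_iff.2 (inv_mem hfix)
    rw [← cj_eq_self_iff]
    conv_rhs => rw [← h]
    rw [← cj_mul, ← cj_mul]
    congr 1
    simp [c', mul_assoc]

include hF hI hZ in
/-- Members containing `c` have the same image in `C(c) / O(C(c))`. -/
theorem same_image (hK : Mem H K) (hM : Mem H M) {c : G} (hc2 : orderOf c = 2) (hcK : c ∈ K)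
    (hcM : c ∈ M) (m : centralizer ({c} : Set G)) (hm : (m : G) ∈ M) :
    ∃ k : centralizer ({c} : Set G), (k : G) ∈ K ∧
      (QuotientGroup.mk m : ↥(centralizer ({c} : Set G)) ⧸ pPrimeCore 2 _) =
        QuotientGroup.mk k := by
  classical
  revert m
  set C := centralizer ({c} : Set G) with hC
  intro m hm
  haveI : (pPrimeCore 2 C).Normal := HallCore.pPrimeCore_normal 2 C
  obtain ⟨φ, -, ⟨d, -, hd⟩, -⟩ := hF.pair hK hM
  have hdC : (d : G) ∈ C := (sup_le (hF.le_centralizer hK hcK) (hF.le_centralizer hM hcM)) d.2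
  obtain ⟨o, ho, n, hn, hdn⟩ :=
    hI C (centralizer_ne_top hZ hK hcK hc2) K hK (hF.le_centralizer hK hcK) d hdC
  have hoM : cj (o : G) K = M := by
    rw [← hd, hdn, cj_mul, cj_eq_self_iff.2 hn]
  have hk : (o : G)⁻¹ * m * o ∈ K := mem_cj.1 (hoM ▸ hm)
  refine ⟨o⁻¹ * m * o, hk, ?_⟩
  have ho1 : (QuotientGroup.mk o : ↥C ⧸ pPrimeCore 2 _) = 1 :=
    (QuotientGroup.eq_one_iff o).2 ho
  rw [QuotientGroup.mk_mul, QuotientGroup.mk_mul, QuotientGroup.mk_inv, ho1]
  group

include hF hI hZ in
/-- Odd products: transitivity. -/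
theorem trans {L : Subgroup G} (hA : Mem H M) (hK : Mem H K) (hL : Mem H L) {a u w : G}
    (ha : a ∈ M) (ha2 : orderOf a = 2) (hu : u ∈ K) (hu2 : orderOf u = 2) (hw : w ∈ L)
    (hw2 : orderOf w = 2) (hau : Odd (orderOf (a * u))) (haw : Odd (orderOf (a * w))) :
    Odd (orderOf (u * w)) := by
  classical
  by_contra hno
  have huu := sq_one hu2
  have hww := sq_one hw2
  have haa := sq_one ha2
  obtain ⟨φ, hφ, -, hφm⟩ := hF.pair hK hL
  set x : ↥(K ⊔ L) := ⟨u, le_sup_left (b := L) hu⟩ * ⟨w, le_sup_right (a := K) hw⟩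
  have hxx : Odd (orderOf ((u * w) ^ 2)) := by
    have hcomm : ∀ p q : ↥K, Commute p q := fun p q => Subtype.ext (hF.commute hK p.2 q.2).eq
    have h : φ (x ^ 2) = 1 := by
      rw [map_pow, map_mul, (hcomm _ _).mul_pow, ← map_pow, ← map_pow]
      have e1 : (⟨u, le_sup_left (b := L) hu⟩ : ↥(K ⊔ L)) ^ 2 = 1 := by
        apply Subtype.ext; simp [pow_two, huu]
      have e2 : (⟨w, le_sup_right (a := K) hw⟩ : ↥(K ⊔ L)) ^ 2 = 1 := by
        apply Subtype.ext; simp [pow_two, hww]
      rw [e1, e2, map_one, one_mul]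
    have := (hφ _).1 h
    rw [← Subgroup.orderOf_coe] at this
    simpa [x] using this
  set k := orderOf ((u * w) ^ 2)
  set c := (u * w) ^ k with hc
  have hc2 : orderOf c = 2 := half hno hxx
  obtain ⟨hcu, hcw⟩ := dihedral huu hww (sq_one hc2)
  obtain ⟨P, hP, hcP⟩ := hφm (x ^ k) (by rw [← Subgroup.orderOf_coe]; simpa [x] using hc2)
  replace hcP : c ∈ P := by simpa [x, hc] using hcP
  have hne : ∀ {v : G}, v = c → (v = u ∨ v = w) → False := by
    intro v hv hor
    have hcomm : Commute u w := by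
      rcases hor with rfl | rfl
      · rw [← hc, ← hv] at hcw; exact hcw.symm
      · rw [← hc, ← hv] at hcu; exact hcu
    have h2 : (u * w) ^ 2 = 1 := by rw [hcomm.mul_pow, pow_two, pow_two, huu, hww, one_mul]
    have hk1 : k = 1 := by simp [k, h2]
    rw [hc, hk1, pow_one] at hv
    rcases hor with rfl | rfl
    · rw [eq_comm, mul_eq_left] at hv; simp [hv] at hw2
    · rw [eq_comm, mul_eq_right] at hv; simp [hv] at hu2
  obtain ⟨K', hK', huK, hcK⟩ := hF.common hI hZ hK hP hu hu2 hcP hcu.symm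
  obtain ⟨L', hL', hwL, hcL⟩ := hF.common hI hZ hL hP hw hw2 hcP hcw.symm
  have hcc := sq_one hc2
  -- the involution power of `a * c`
  have key : ∀ {T : Subgroup G} {v : G}, Mem H T → v ∈ T → v * v = 1 → c ∈ T → v ≠ c →
      Odd (orderOf (a * v)) → orderOf ((a * c) ^ orderOf ((a * c) ^ 2)) = 2 ∧
        (∃ E, Mem H E ∧ (a * c) ^ orderOf ((a * c) ^ 2) ∈ E) ∧
        Odd (orderOf ((a * c) ^ orderOf ((a * c) ^ 2) * (v * c))) := by
    intro T v hT hv hvv hcT hvc hodd
    obtain ⟨ψ, hψ, -, hψm⟩ := hF.pair hA hT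
    set a' : ↥(M ⊔ T) := ⟨a, le_sup_left (b := T) ha⟩
    set v' : ↥(M ⊔ T) := ⟨v, le_sup_right (a := M) hv⟩
    set c' : ↥(M ⊔ T) := ⟨c, le_sup_right (a := M) hcT⟩
    have hav : ψ a' = ψ v' := by
      have h1 : ψ (a' * v') = 1 := by rw [hψ, ← Subgroup.orderOf_coe]; exact hodd
      have h2 : ψ v' * ψ v' = 1 := by
        rw [← map_mul, ← map_one ψ]; exact congrArg ψ (Subtype.ext hvv)
      rw [map_mul] at h1
      exact mul_right_cancel (h1.trans h2.symm)
    have hvc2 : (v * c) * (v * c) = 1 := by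
      rw [(hF.commute hT hcT hv).mul_mul_mul_comm, hvv, hcc, one_mul]
    have hq : ψ (a' * c') = ψ (v' * c') := by rw [map_mul, map_mul, hav]
    have hq2 : ψ (a' * c') * ψ (a' * c') = 1 := by
      rw [hq, ← map_mul, ← map_one ψ]; exact congrArg ψ (Subtype.ext hvc2)
    have hne1 : ψ (a' * c') ≠ 1 := by
      rw [hq]
      intro h
      have h' := (hψ _).1 h
      rw [← Subgroup.orderOf_coe] at h'
      have h2 : orderOf (v * c) ∣ 2 := orderOf_dvd_of_pow_eq_one (by rw [pow_two, hvc2])
      rcases (Nat.dvd_prime Nat.prime_two).1 h2 with h3 | h3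
      · exact hvc (mul_right_cancel ((orderOf_eq_one_iff.1 h3).trans hcc.symm))
      · simp only [Subgroup.coe_mul, v', c'] at h'
        rw [h3] at h'
        exact absurd h' (by decide)
    have h1 : ¬ Odd (orderOf (a * c)) := by
      intro h
      apply hne1
      rw [hψ, ← Subgroup.orderOf_coe]
      exact h
    have h2 : Odd (orderOf ((a * c) ^ 2)) := by
      have h := (hψ ((a' * c') ^ 2)).1 (by rw [map_pow, pow_two, hq2])
      rw [← Subgroup.orderOf_coe] at h
      exact h
    have he := half h1 h2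
    refine ⟨he, ?_, ?_⟩
    · obtain ⟨E, hE, heE⟩ := hψm ((a' * c') ^ orderOf ((a * c) ^ 2))
        (by rw [← Subgroup.orderOf_coe]; exact he)
      exact ⟨E, hE, heE⟩
    · have h := (hψ ((a' * c') ^ orderOf ((a * c) ^ 2) * (v' * c'))).1 (by
        obtain ⟨j, hj⟩ := h2
        rw [map_mul, map_pow, ← hq, hj, pow_succ, pow_mul, pow_two, hq2, one_pow, one_mul, hq2])
      rw [← Subgroup.orderOf_coe] at h
      exact h
  obtain ⟨he2, ⟨E, hE, heE⟩, heu⟩ :=
    key hK' huK huu hcK (fun h => hne h (Or.inl rfl)) hau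
  obtain ⟨-, -, hew⟩ := key hL' hwL hww hcL (fun h => hne h (Or.inr rfl)) haw
  set e := (a * c) ^ orderOf ((a * c) ^ 2)
  have hec : Commute e c := ((dihedral haa hcc (sq_one he2)).2).symm
  obtain ⟨K0, hK0, hcK0, heK0⟩ := hF.common hI hZ hK' hE hcK hc2 heE hec
  -- compare in `C(c) / O(C(c))`
  set C := centralizer ({c} : Set G) with hC
  haveI : (pPrimeCore 2 C).Normal := HallCore.pPrimeCore_normal 2 C
  set f := QuotientGroup.mk' (pPrimeCore 2 C)
  set e' : C := ⟨e, mem_centralizer_singleton_iff.2 hec.eq⟩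
  set u' : C := ⟨u, mem_centralizer_singleton_iff.2 hcu.eq⟩
  set w' : C := ⟨w, mem_centralizer_singleton_iff.2 hcw.eq⟩
  set c' : C := ⟨c, mem_centralizer_singleton_iff.2 rfl⟩
  have kill : ∀ {T : Subgroup G} (t : C), Mem H T → c ∈ T → (t : G) ∈ T →
      Odd (orderOf (e * (t : G))) → f (e' * t) = 1 := by
    intro T t hT hcT ht hodd
    obtain ⟨k₁, hk₁, he₁⟩ := hF.same_image hI hZ hK' hK0 hc2 hcK hcK0 e' heK0
    obtain ⟨k₂, hk₂, he₂⟩ := hF.same_image hI hZ hK' hT hc2 hcK hcT t ht
    have hprod : f (e' * t) = f (k₁ * k₂) := by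
      rw [map_mul, map_mul]; exact congrArg₂ (· * ·) he₁ he₂
    obtain ⟨n, hn⟩ := IsPGroup.iff_orderOf.1 (hF.isTwo hK')
      (⟨(k₁ : G) * k₂, mul_mem hk₁ hk₂⟩ : K')
    have d1 : orderOf (f (e' * t)) ∣ 2 ^ n := by
      rw [hprod, ← hn, Subgroup.orderOf_mk]
      refine (orderOf_map_dvd f _).trans ?_
      rw [← Subgroup.orderOf_coe]
      simp
    have d2 : Odd (orderOf (f (e' * t))) := by
      refine Odd.of_dvd_nat hodd ((orderOf_map_dvd f _).trans ?_)
      rw [← Subgroup.orderOf_coe]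
      simp [e']
    rw [← orderOf_eq_one_iff]
    exact Nat.Coprime.eq_one_of_dvd ((Nat.coprime_two_left.2 d2).pow_left n).symm d1
  have r1 := kill (u' * c') hK' hcK (mul_mem huK hcK) heu
  have r2 := kill (w' * c') hL' hcL (mul_mem hwL hcL) hew
  have r3 : f u' = f w' := by
    rw [map_mul, map_mul] at r1 r2
    exact mul_right_cancel (mul_left_cancel (r1.trans r2.symm))
  have r4 : u' * w' ∈ pPrimeCore 2 C := by
    rw [← QuotientGroup.eq_one_iff]
    show f (u' * w') = 1
    rw [map_mul, ← r3, ← map_mul, show u' * u' = 1 from Subtype.ext huu, map_one]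
  have r5 : orderOf (⟨_, r4⟩ : pPrimeCore 2 C) ∣ _ := orderOf_dvd_natCard _
  rw [Subgroup.orderOf_mk, ← Subgroup.orderOf_coe] at r5
  exact hno (Odd.of_dvd_nat (Nat.coprime_two_right.1 (HallCore.coprime_card_pPrimeCore 2 C)) r5)

include hF in
/-- Every member involution has a partner in every member. -/
theorem partner (hK : Mem H K) (hM : Mem H M) {x : G} (hx : x ∈ K) (hx2 : orderOf x = 2) :
    ∃ y ∈ M, orderOf y = 2 ∧ Odd (orderOf (x * y)) := by
  obtain ⟨φ, hφ, ⟨d, hd, hdM⟩, -⟩ := hF.pair hK hM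
  refine ⟨(d : G) * x * (d : G)⁻¹, hdM.le (conj_mem_cj hx), by rw [orderOf_conj', hx2], ?_⟩
  set x' : ↥(K ⊔ M) := ⟨x, le_sup_left (b := M) hx⟩
  have h : φ (x' * (d * x' * d⁻¹)) = 1 := by
    simp only [map_mul, map_inv, hd, one_mul, inv_one, mul_one]
    rw [← map_mul, ← map_one φ]
    exact congrArg φ (Subtype.ext (sq_one hx2))
  have := (hφ _).1 h
  rw [← Subgroup.orderOf_coe] at this
  exact this

end Family

/-- The elements fixing every class of involutions. -/
def Fixes (H : Subgroup G) (g : G) : Prop :=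
  ∀ K, Mem H K → ∀ x ∈ K, orderOf x = 2 → Odd (orderOf (x * (g * x * g⁻¹)))

theorem mem_cj_of {H K : Subgroup G} (hK : Mem H K) (g : G) : Mem H (cj g K) := by
  obtain ⟨t, rfl⟩ := hK
  exact ⟨g * t, cj_mul g t H⟩

theorem conclude [Finite G] {H : Subgroup G} (hF : Family H) (hI : Ind H) (hZ : NoCentral H)
    (hne : H ≠ ⊥) : normalizer (H : Set G) ⊔ pPrimeCore 2 G = ⊤ := by
  classical
  haveI : (pPrimeCore 2 G).Normal := HallCore.pPrimeCore_normal 2 G
  have tr : ∀ {A B C : Subgroup G} {a b c : G}, Mem H A → Mem H B → Mem H C → a ∈ A → b ∈ B →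
      c ∈ C → orderOf a = 2 → orderOf b = 2 → orderOf c = 2 → Odd (orderOf (a * b)) →
      Odd (orderOf (b * c)) → Odd (orderOf (a * c)) := fun hA hB hC ha hb hc a2 b2 c2 h1 h2 =>
    hF.trans hI hZ hB hA hC hb b2 ha a2 hc c2 (odd_rel_symm h1) h2
  set G0 : Subgroup G :=
    { carrier := {g | Fixes H g}
      one_mem' := fun K _ x _ hx2 => by simp [sq_one hx2]
      mul_mem' := fun {g h} hg hh K hK x hx hx2 => by
        have hy : h * x * h⁻¹ ∈ cj h K := conj_mem_cj hx
        have hy2 : orderOf (h * x * h⁻¹) = 2 := by rw [orderOf_conj', hx2]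
        have := tr hK (mem_cj_of hK h) (mem_cj_of (mem_cj_of hK h) g) hx hy (conj_mem_cj hy) hx2
          hy2 (by rw [orderOf_conj', hy2]) (hh K hK x hx hx2) (hg _ (mem_cj_of hK h) _ hy hy2)
        simpa [mul_assoc] using this
      inv_mem' := fun {g} hg K hK x hx hx2 => by
        have h := hg _ (mem_cj_of hK g⁻¹) _ (conj_mem_cj hx) (by rw [orderOf_conj', hx2])
        have h := odd_rel_symm h
        simpa [mul_assoc] using h } with hG0
  haveI hnG0 : G0.Normal := ⟨fun g hg t => by
    intro K hK x hx hx2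
    have h := hg _ (mem_cj_of hK t⁻¹) _ (conj_mem_cj hx) (by rw [orderOf_conj', hx2])
    rw [← orderOf_conj' t] at h
    simpa [mul_assoc] using h⟩
  have hHG0 : H ≤ G0 := by
    intro h hh K hK x hx hx2
    obtain ⟨a, ha, ha2, hxa⟩ := hF.partner hK (mem_self H) hx hx2
    have h1 : Odd (orderOf (a * (h * x * h⁻¹))) := by
      have h1 := odd_rel_symm hxa
      rw [← orderOf_conj' h] at h1
      have e : h * (a * x) * h⁻¹ = a * (h * x * h⁻¹) := by
        rw [← mul_assoc h a x, (hF.comm h hh a ha).eq]; group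
      rwa [e] at h1
    exact tr hK (mem_self H) (mem_cj_of hK h) hx ha (conj_mem_cj hx) hx2 ha2
      (by rw [orderOf_conj', hx2]) hxa h1
  by_cases hG0top : G0 = ⊤
  · -- every involution of `H` is isolated
    haveI := Fact.mk Nat.prime_two
    obtain ⟨a, ha2'⟩ := exists_prime_orderOf_dvd_card' (G := H) 2 (by
      obtain ⟨n, hn⟩ := IsPGroup.iff_card.1 hF.two
      rw [hn]
      refine dvd_pow_self 2 fun h => hne ?_
      rw [h, pow_zero] at hn
      exact card_eq_one.1 hn)
    have ha : (a : G) ∈ H := a.2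
    have ha2 : orderOf (a : G) = 2 := by rw [Subgroup.orderOf_coe, ha2']
    have haa := sq_one ha2
    have hiso : IsIsolatedInvolution (a : G) := by
      refine ⟨ha2, fun g hg => ?_⟩
      have hodd : Odd (orderOf ((a : G) * (g * a * g⁻¹))) :=
        (show g ∈ G0 by rw [hG0top]; trivial) H (mem_self H) _ ha ha2
      have h2 : orderOf ((a : G) * (g * a * g⁻¹)) ∣ 2 := orderOf_dvd_of_pow_eq_one (by
        rw [hg.mul_pow, pow_two, pow_two, haa, sq_one (by rw [orderOf_conj', ha2]), one_mul])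
      rcases (Nat.dvd_prime Nat.prime_two).1 h2 with h3 | h3
      · exact (mul_left_cancel ((orderOf_eq_one_iff.1 h3).trans haa.symm))
      · rw [h3] at hodd; exact absurd hodd (by decide)
    set C := centralizer ({(a : G)} : Set G) with hC
    set O := pPrimeCore 2 G with hO
    have htop : ∀ g : G, ∃ o ∈ O, o⁻¹ * g ∈ C := by
      intro g
      set b := g * a * g⁻¹ with hb
      have hb2 : b * b = 1 := sq_one (by rw [hb, orderOf_conj', ha2])
      have hbi : b⁻¹ = b := inv_eq_of_mul_eq_one_left hb2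
      have hai : (a : G)⁻¹ = a := inv_eq_of_mul_eq_one_left haa
      set x := (a : G) * b with hx
      have hxO : x ∈ O := by
        have h := ZStarTheorem.commutator_mem hiso g
        rw [hai] at h
        simpa [hx, hb, mul_assoc] using h
      obtain ⟨j, hj⟩ : Odd (orderOf x) := Odd.of_dvd_nat ZStarTheorem.odd_card_pPrimeCore
        (by
          have := orderOf_dvd_natCard (⟨x, hxO⟩ : O)
          rwa [Subgroup.orderOf_mk] at this)
      refine ⟨x ^ j, pow_mem hxO j, ?_⟩
      have hax : (a : G) * x * (a : G)⁻¹ = x⁻¹ := by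
        rw [hx, mul_inv_rev, hbi, ← mul_assoc (a : G) (a : G) b, haa, one_mul]
      have hpow : (a : G) * x ^ j = (x ^ j)⁻¹ * a := by
        rw [← mul_inv_eq_iff_eq_mul, ← conj_pow, hax, inv_pow]
      have hconj : (x ^ j)⁻¹ * b * x ^ j = a := by
        have hbx : b = a * x := by rw [hx, ← mul_assoc, haa, one_mul]
        have h0 : x ^ j * x * x ^ j = 1 := by
          rw [← pow_succ, ← pow_add, ← pow_orderOf_eq_one x, hj]
          congr 1
          omega
        calc (x ^ j)⁻¹ * b * x ^ j = (x ^ j)⁻¹ * a * (x * x ^ j) := by rw [hbx]; group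
          _ = a * (x ^ j * x * x ^ j) := by rw [← hpow]; group
          _ = a := by rw [h0, mul_one]
      rw [hC, mem_centralizer_singleton_iff]
      calc (x ^ j)⁻¹ * g * a = (x ^ j)⁻¹ * b * x ^ j * ((x ^ j)⁻¹ * g) := by rw [hb]; group
        _ = _ := by rw [hconj]
    have hCne : C ≠ ⊤ := Family.centralizer_ne_top hZ (mem_self H) ha ha2
    set Oa := (pPrimeCore 2 C).map C.subtype with hOa
    haveI : (Oa ⊔ O).Normal := by
      refine ⟨fun n hn g => ?_⟩
      obtain ⟨y, hy, z, hz, rfl⟩ := mem_sup_of_normal_right.1 hn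
      obtain ⟨o, ho, hoC⟩ := htop g
      obtain ⟨y', hy', rfl⟩ := hy
      have hy'' : (o⁻¹ * g) * y' * (o⁻¹ * g)⁻¹ ∈ Oa := by
        exact ⟨(⟨_, hoC⟩ : C) * y' * (⟨_, hoC⟩ : C)⁻¹,
          (HallCore.pPrimeCore_normal 2 C).conj_mem _ hy' _, by simp⟩
      have e : g * ((C.subtype y') * z) * g⁻¹ =
          o * ((o⁻¹ * g) * y' * (o⁻¹ * g)⁻¹) * o⁻¹ * (g * z * g⁻¹) := by
        simp only [Subgroup.coe_subtype]; group
      rw [e]
      exact mul_mem (mul_mem (mul_mem (mem_sup_right ho) (mem_sup_left hy''))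
        (mem_sup_right (inv_mem ho))) (mem_sup_right (Subgroup.Normal.conj_mem inferInstance z hz g))
    have hle : Oa ≤ O := le_sup_left.trans (HallCore.le_pPrimeCore
      (Nat.Coprime.coprime_dvd_left (HallCore.card_sup_dvd Oa O)
        (Nat.Coprime.mul_left ((HallCore.coprime_card_pPrimeCore 2 C).coprime_dvd_left
          (card_map_dvd _ _)) (HallCore.coprime_card_pPrimeCore 2 G))))
    rw [eq_top_iff]
    intro g _
    obtain ⟨o, ho, hoC⟩ := htop g
    obtain ⟨o', ho', n, hn, hgn⟩ := hI C hCne H (mem_self H)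
      (hF.le_centralizer (mem_self H) ha) _ hoC
    have : g = o * (o' : G) * n := by rw [mul_assoc, ← hgn, mul_inv_cancel_left]
    rw [this]
    exact mul_mem (mul_mem (mem_sup_right ho) (mem_sup_right (hle ⟨o', ho', rfl⟩)))
      (mem_sup_left hn)
  · -- a proper normal subgroup containing `H`
    rw [eq_top_iff]
    intro g _
    have hS : ∀ y ∈ G0, y ∈ normalizer (H : Set G) ⊔ pPrimeCore 2 G := by
      intro y hy
      obtain ⟨o, ho, n, hn, hyn⟩ := hI G0 hG0top H (mem_self H) hHG0 y hy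
      rw [hyn]
      exact mul_mem (mem_sup_right ((HallCore.map_subtype_pPrimeCore G0).le ⟨o, ho, rfl⟩).1)
        (mem_sup_left hn)
    obtain ⟨φ, -, ⟨d, -, hd⟩, -⟩ := hF.pair (mem_self H) ⟨g, rfl⟩
    have hdG0 : (d : G) ∈ G0 := by
      refine sup_le hHG0 ?_ d.2
      rintro _ ⟨y, hy, rfl⟩
      exact hnG0.conj_mem y (hHG0 hy) g
    have hn : (d : G)⁻¹ * g ∈ normalizer (H : Set G) := by
      rw [← cj_eq_self_iff, cj_mul]
      refine (congrArg (cj (d : G)⁻¹) hd.symm).trans ?_
      rw [← cj_mul, inv_mul_cancel, cj_one]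
    have : g = (d : G) * ((d : G)⁻¹ * g) := (mul_inv_cancel_left _ _).symm
    rw [this]
    exact mul_mem (hS d hdG0) (mem_sup_left hn)

/-- The central case. -/
theorem central [Finite G] {H : Subgroup G} (hF : Family H) {z : G} (hz : z ∈ H)
    (hz2 : orderOf z = 2) [hN : (zpowers z).Normal]
    (IH : Family (H.map (QuotientGroup.mk' (zpowers z))) →
      normalizer ((H.map (QuotientGroup.mk' (zpowers z))) : Set (G ⧸ zpowers z)) ⊔
        pPrimeCore 2 (G ⧸ zpowers z) = ⊤) :
    normalizer (H : Set G) ⊔ pPrimeCore 2 G = ⊤ := by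
  haveI := Fact.mk Nat.prime_two
  set N := zpowers z with hNdef
  set q := QuotientGroup.mk' N with hq
  have hqs : Function.Surjective q := QuotientGroup.mk'_surjective N
  have hNH : N ≤ H := zpowers_le.2 hz
  have hback : ∀ S : Subgroup G, N ≤ S → ∀ x, q x ∈ S.map q → x ∈ S := fun S hS x hx => by
    have : x ∈ (S.map q).comap q := hx
    rwa [comap_map_eq_self (by rw [hq, QuotientGroup.ker_mk']; exact hS)] at this
  have hnorm : ∀ x, q x ∈ normalizer ((H.map q : Subgroup _) : Set (G ⧸ N)) →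
      x ∈ normalizer (H : Set G) := by
    intro x hx
    rw [mem_normalizer_iff] at hx ⊢
    intro y
    constructor
    · intro hy
      apply hback H hNH
      simpa using (hx (q y)).1 ⟨y, hy, rfl⟩
    · intro hy
      apply hback H hNH
      exact (hx (q y)).2 ⟨_, hy, by simp⟩
  have hF' : Family (H.map q) := by
    refine ⟨hF.two.map q, ?_, ?_⟩
    · rintro _ ⟨a, ha, rfl⟩ _ ⟨b, hb, rfl⟩
      exact (hF.comm a ha b hb).map q
    · intro t
      obtain ⟨g, rfl⟩ := hqs t
      refine le_antisymm ?_ (le_inf le_sup_left le_normalizer)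
      rintro y ⟨hy, hyn⟩
      obtain ⟨x, rfl⟩ := hqs y
      have e : (H.map q).map (MulAut.conj (q g)).toMonoidHom =
          (H.map (MulAut.conj g).toMonoidHom).map q := by
        rw [map_map, map_map]
        congr 1
      rw [e, ← Subgroup.map_sup] at hy
      exact mem_map_of_mem q ((hF.closed g).le
        ⟨hback _ (hNH.trans le_sup_left) x hy, hnorm x hyn⟩)
  have htop := IH hF'
  haveI : (pPrimeCore 2 (G ⧸ N)).Normal := HallCore.pPrimeCore_normal 2 _
  set W := (pPrimeCore 2 (G ⧸ N)).comap q with hW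
  have hW' : W ≤ normalizer (H : Set G) ⊔ pPrimeCore 2 G := by
    have hNW : N ≤ W := by
      intro x hx
      rw [hW, mem_comap, hq, QuotientGroup.mk'_apply, (QuotientGroup.eq_one_iff x).2 hx]
      exact one_mem _
    have hcardN : Nat.card N = 2 := by rw [hNdef, Nat.card_zpowers, hz2]
    have hidx : (N.subgroupOf W).index = Nat.card (pPrimeCore 2 (G ⧸ N)) := by
      have h1 := Subgroup.card_mul_index (N.subgroupOf W)
      have h2 : Nat.card W = Nat.card (pPrimeCore 2 (G ⧸ N)) * 2 := by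
        rw [hW, ← hcardN, hq, HallCore.card_comap_mk']
      rw [Nat.card_congr (subgroupOfEquivOfLe hNW).toEquiv, hcardN, h2] at h1
      omega
    obtain ⟨S, hS⟩ := exists_left_complement'_of_coprime (N := N.subgroupOf W) (by
      rw [Nat.card_congr (subgroupOfEquivOfLe hNW).toEquiv, hcardN, hidx]
      exact (HallCore.coprime_card_pPrimeCore 2 _).symm)
    have hS2 : S.index = 2 := by
      rw [hS.symm.index_eq_card, Nat.card_congr (subgroupOfEquivOfLe hNW).toEquiv, hcardN]
    haveI := Subgroup.normal_of_index_eq_two hS2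
    have hScard : (Nat.card S).Coprime 2 := by
      rw [← hS.index_eq_card, hidx]
      exact HallCore.coprime_card_pPrimeCore 2 _
    intro x hx
    obtain ⟨⟨s, n⟩, hsn, -⟩ := hS.existsUnique ⟨x, hx⟩
    have : x = ((s : W) : G) * ((n : W) : G) := congrArg (fun v : W => (v : G)) hsn.symm
    rw [this]
    exact mul_mem (mem_sup_right ((HallCore.map_subtype_pPrimeCore W).le
      ⟨(s : W), HallCore.le_pPrimeCore hScard s.2, rfl⟩).1)
      (mem_sup_left (le_normalizer (hNH n.2)))
  rw [eq_top_iff]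
  intro g _
  have hg : q g ∈ normalizer ((H.map q : Subgroup _) : Set (G ⧸ N)) ⊔
      pPrimeCore 2 (G ⧸ N) := by rw [htop]; trivial
  obtain ⟨y, hy, o, ho, hyo⟩ := mem_sup_of_normal_right.1 hg
  obtain ⟨y', rfl⟩ := hqs y
  have : g = y' * (y'⁻¹ * g) := (mul_inv_cancel_left _ _).symm
  rw [this]
  refine mul_mem (mem_sup_left (hnorm y' hy)) (hW' ?_)
  rw [hW, mem_comap, map_mul, map_inv, ← hyo, inv_mul_cancel_left]
  exact ho

theorem main_aux (n : ℕ) : ∀ (G : Type u) [Group G] [Finite G], Nat.card G = n →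
    ∀ H : Subgroup G, Family H → normalizer (H : Set G) ⊔ pPrimeCore 2 G = ⊤ := by
  induction n using Nat.strong_induction_on with
  | _ n ih =>
    intro G _ _ hn H hF
    by_cases hne : H = ⊥
    · subst hne
      refine top_le_iff.1 fun x _ => mem_sup_left ?_
      rw [mem_normalizer_iff]
      intro y
      simp
    by_cases hZ : NoCentral H
    · refine conclude hF ?_ hZ hne
      intro C hC K hK hKC x hx
      have hlt : Nat.card C < n := hn ▸ lt_of_le_of_ne
        (Nat.le_of_dvd Nat.card_pos C.card_subgroup_dvd_card)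
        (fun h => hC (eq_top_of_card_eq C h))
      have hF' : Family (K.subgroupOf C) := by
        refine ⟨(hF.isTwo hK).comap_of_injective C.subtype C.subtype_injective,
          fun a ha b hb => Subtype.ext (hF.commute hK ha hb).eq, fun g => ?_⟩
        refine le_antisymm ?_ (le_inf le_sup_left le_normalizer)
        rintro y ⟨hy, hyn⟩
        replace hy : y ∈ K.subgroupOf C ⊔
          (K.subgroupOf C).map (MulAut.conj g).toMonoidHom := hy
        replace hyn : y ∈ normalizer ((K.subgroupOf C : Subgroup C) : Set C) := hyn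
        rw [mem_subgroupOf]
        refine hF.closed' hK (mem_cj_of hK (g : G)) ?_ ?_
        · have h := mem_map_of_mem C.subtype hy
          rw [Subgroup.map_sup, map_map] at h
          revert h
          refine fun h => sup_le (le_trans (map_comap_le _ _) le_sup_left) ?_ h
          rintro _ ⟨w, hw, rfl⟩
          exact mem_sup_right (conj_mem_cj hw)
        · rw [mem_normalizer_iff] at hyn ⊢
          intro w
          constructor
          · intro hw
            exact (hyn ⟨w, hKC hw⟩).1 hw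
          · intro hw
            have hwC : w ∈ C := by
              have h := C.mul_mem (C.mul_mem (C.inv_mem y.2) (hKC hw)) y.2
              simpa [mul_assoc] using h
            exact (hyn ⟨w, hwC⟩).2 hw
      haveI : (pPrimeCore 2 C).Normal := HallCore.pPrimeCore_normal 2 C
      have h := ih _ hlt C rfl _ hF'
      have hx' : (⟨x, hx⟩ : C) ∈ pPrimeCore 2 C ⊔
          normalizer ((K.subgroupOf C : Subgroup C) : Set C) := by rw [sup_comm, h]; trivial
      obtain ⟨o, ho, m, hm, hom⟩ := mem_sup_of_normal_left.1 hx'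
      refine ⟨o, ho, m, ?_, congrArg (fun v : C => (v : G)) hom.symm⟩
      rw [mem_normalizer_iff] at hm ⊢
      intro w
      constructor
      · intro hw
        exact (hm ⟨w, hKC hw⟩).1 hw
      · intro hw
        have hwC : w ∈ C := by
          have h := C.mul_mem (C.mul_mem (C.inv_mem m.2) (hKC hw)) m.2
          simpa [mul_assoc] using h
        exact (hm ⟨w, hwC⟩).2 hw
    · unfold NoCentral at hZ
      push Not at hZ
      obtain ⟨z, hz, hz2, hzc⟩ := hZ
      haveI : (zpowers z).Normal := ⟨fun y hy g => by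
        obtain ⟨i, rfl⟩ := hy
        have : g * z ^ i * g⁻¹ = z ^ i := by
          rw [mem_center_iff.1 (zpow_mem hzc i) g, mul_inv_cancel_right]
        exact ⟨i, this.symm⟩⟩
      refine central hF hz hz2 fun hF' => ih _ ?_ _ rfl _ hF'
      have h1 := Subgroup.card_eq_card_quotient_mul_card_subgroup (zpowers z)
      rw [Nat.card_zpowers, hz2] at h1
      have h2 : 0 < Nat.card (G ⧸ zpowers z) := Nat.card_pos
      omega

/-- An extremely closed abelian 2-subgroup `H` gives `G = N(H) O(G)`. -/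
theorem main [Finite G] (H : Subgroup G) (hH2 : IsPGroup 2 H) (hHab : IsMulCommutative H)
    (hcl : IsExtremelyClosed H) : normalizer (H : Set G) ⊔ oddCore G = ⊤ :=
  main_aux _ G rfl H ⟨hH2, fun a ha b hb =>
    congrArg Subtype.val (hHab.is_comm.comm ⟨a, ha⟩ ⟨b, hb⟩), hcl⟩

end Cfsg.Agent.ExtremelyClosed67
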