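import Mathlib
import Cfsg.Prelude.Def_SubgroupEmbedding
import Cfsg.Agent.Lib.HallCore
import Cfsg.Agent.Lib.OddCharGroup
import Cfsg.Agent.S3020

/-!
# Extremely closed abelian p-subgroups: group theoretic preliminaries
-/

set_option autoImplicit false

namespace Cfsg.Agent.ExtremelyClosedOdd6

open Subgroup
open scoped Pointwise

universe u

variable {G : Type u} [Group G]

/-- Conjugate subgroup. -/
def cj (g : G) (K : Subgroup G) : Subgroup G := K.map (MulAut.conj g).toMonoidHom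

theorem mem_cj {g x : G} {K : Subgroup G} : x ∈ cj g K ↔ g⁻¹ * x * g ∈ K := by
  constructor
  · rintro ⟨y, hy, rfl⟩
    simpa [MulAut.conj_apply, mul_assoc] using hy
  · intro h
    exact ⟨_, h, by simp [MulAut.conj_apply, mul_assoc]⟩

theorem conj_mem_cj {g y : G} {K : Subgroup G} (hy : y ∈ K) : g * y * g⁻¹ ∈ cj g K :=
  mem_cj.2 (by simpa [mul_assoc] using hy)

theorem cj_mul (g h : G) (K : Subgroup G) : cj (g * h) K = cj g (cj h K) := by
  ext x; simp [mem_cj, mul_assoc]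

theorem cj_one (K : Subgroup G) : cj 1 K = K := by ext x; simp [mem_cj]

theorem cj_eq_self_iff {g : G} {K : Subgroup G} :
    cj g K = K ↔ g ∈ normalizer (K : Set G) := by
  rw [mem_normalizer_iff]
  constructor
  · intro h x
    conv_rhs => rw [← h, mem_cj]
    simp [mul_assoc]
  · intro h
    ext x
    rw [mem_cj, h]
    simp [mul_assoc]

theorem mem_normalizer_of_conj {S : Subgroup G} [Finite G] {g : G}
    (h : ∀ s ∈ S, g * s * g⁻¹ ∈ S) : g ∈ normalizer (S : Set G) := by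
  rw [← cj_eq_self_iff]
  refine eq_of_le_of_card_ge ?_ (card_map_of_injective (MulAut.conj g).injective).ge
  rintro _ ⟨y, hy, rfl⟩
  simpa [MulAut.conj_apply] using h y hy

theorem cj_le_normal {N H : Subgroup G} [N.Normal] (h : H ≤ N) (g : G) : cj g H ≤ N := by
  rintro _ ⟨y, hy, rfl⟩
  simpa [MulAut.conj_apply] using Subgroup.Normal.conj_mem ‹N.Normal› y (h hy) g

/-- A product set `S * H` with `H` normalising `S` is a subgroup. -/
theorem exists_mul_of_mem_sup {S H : Subgroup G} (hH : H ≤ normalizer (S : Set G)) {x : G}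
    (hx : x ∈ S ⊔ H) : ∃ s ∈ S, ∃ h ∈ H, x = s * h := by
  have h := coe_mul_of_left_le_normalizer_right H S hH
  rw [sup_comm] at hx
  have hx' : x ∈ (H : Set G) * (S : Set G) := by rw [← h]; exact hx
  obtain ⟨a, ha, s, hs, rfl⟩ := hx'
  exact ⟨a * s * a⁻¹, (mem_normalizer_iff.1 (hH ha) s).1 hs, a, ha, by group⟩

/-- Elements of `p'`-order of `S ⊔ H` lie in `S`, for a `p`-group `H` normalising `S`. -/
theorem mem_of_pPrime {p : ℕ} [hp : Fact p.Prime] {S H : Subgroup G} (hHp : IsPGroup p H)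
    (hH : H ≤ normalizer (S : Set G)) {x : G} (hx : x ∈ S ⊔ H) (hord : ¬ p ∣ orderOf x) :
    x ∈ S := by
  have hle : S ⊔ H ≤ normalizer (S : Set G) := sup_le le_normalizer hH
  set N := normalizer (S : Set G) with hN
  let π := QuotientGroup.mk' (S.subgroupOf N)
  obtain ⟨s, hs, h, hh, rfl⟩ := exists_mul_of_mem_sup hH hx
  set x' : N := ⟨s * h, hle hx⟩
  have e : π x' = π ⟨h, hH hh⟩ := by
    have e0 : x' = (⟨s, le_normalizer hs⟩ : N) * ⟨h, hH hh⟩ := rfl
    rw [e0, map_mul, show π (⟨s, le_normalizer hs⟩ : N) = 1 from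
      (QuotientGroup.eq_one_iff _).2 (mem_subgroupOf.2 hs), one_mul]
  have h1 : orderOf (π x') ∣ orderOf (s * h) := by
    refine (orderOf_map_dvd π x').trans ?_
    rw [Subgroup.orderOf_mk]
  obtain ⟨k, hk⟩ := hHp ⟨h, hh⟩
  have h2 : orderOf (π x') ∣ p ^ k := by
    rw [e]
    refine (orderOf_map_dvd π _).trans ?_
    rw [Subgroup.orderOf_mk, orderOf_dvd_iff_pow_eq_one]
    simpa using congrArg Subtype.val hk
  have h3 : orderOf (π x') = 1 := Nat.eq_one_of_dvd_coprimes
    (Nat.Coprime.pow_left k ((Nat.Prime.coprime_iff_not_dvd hp.out).2 hord)) h2 h1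
  have h4 : x' ∈ S.subgroupOf N := (QuotientGroup.eq_one_iff x').1 (orderOf_eq_one_iff.1 h3)
  exact mem_subgroupOf.1 h4

theorem not_dvd_orderOf_of_mem [Finite G] {p : ℕ} {S : Subgroup G} (hS : ¬ p ∣ Nat.card S) {x : G}
    (hx : x ∈ S) : ¬ p ∣ orderOf x := fun h => hS (h.trans (S.orderOf_dvd_natCard hx))

theorem inf_eq_bot_of_pGroup [Finite G] {p : ℕ} [hp : Fact p.Prime] {S H : Subgroup G}
    (hS : ¬ p ∣ Nat.card S) (hH : IsPGroup p H) {x : G} (hx : x ∈ S) (hx' : x ∈ H) : x = 1 := by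
  rw [← orderOf_eq_one_iff]
  obtain ⟨k, hk⟩ := IsPGroup.iff_orderOf.1 hH ⟨x, hx'⟩
  rw [Subgroup.orderOf_mk] at hk
  cases k with
  | zero => simpa using hk
  | succ k => exact absurd (hk ▸ dvd_pow_self p k.succ_ne_zero) (not_dvd_orderOf_of_mem hS hx)

/-- An abelian extremely closed `p`-subgroup. -/
structure Fam (p : ℕ) (H : Subgroup G) : Prop where
  pgroup : IsPGroup p H
  comm : ∀ a ∈ H, ∀ b ∈ H, Commute a b
  closed : IsExtremelyClosed H

/-- The data attached to the pair `H`, `g H g⁻¹`. -/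
structure Pair (p : ℕ) (H : Subgroup G) (g : G) (K : Subgroup G) (d : G) : Prop where
  notDvd : ¬ p ∣ Nat.card K
  normalized : H ≤ normalizer (K : Set G)
  sup : K ⊔ H = H ⊔ cj g H
  inf : ∀ k ∈ K, k ∈ normalizer (H : Set G) → k = 1
  mem : d ∈ K
  conj : cj d H = cj g H

variable [Finite G] {p : ℕ} [hp : Fact p.Prime] {H : Subgroup G}

theorem Fam.exists_pair (hF : Fam p H) (g : G) : ∃ K d, Pair p H g K d := by
  classical
  set T := H ⊔ cj g H with hT
  have hab : IsMulCommutative H :=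
    ⟨⟨fun a b => Subtype.ext (hF.comm a a.2 b b.2).eq⟩⟩
  obtain ⟨h1, h2⟩ := S3020.result H hF.pgroup hab hF.closed g T hT
  set K := (pPrimeCore p T).map T.subtype with hK
  have hKnd : ¬ p ∣ Nat.card K := by
    rw [hK, card_map_of_injective T.subtype_injective]
    exact HallCore.not_dvd_card_pPrimeCore p _
  have hTN : T ≤ normalizer (K : Set G) := by
    intro t ht
    refine mem_normalizer_of_conj ?_
    rintro _ ⟨k, hk, rfl⟩
    exact ⟨⟨t, ht⟩ * k * ⟨t, ht⟩⁻¹, (HallCore.pPrimeCore_normal p _).conj_mem k hk _, by simp⟩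
  have hHT : H ≤ T := le_sup_left
  have hKT : K ≤ T := map_subtype_le _
  have hsup : K ⊔ H = T := by rw [sup_comm]; exact h1
  have hinf : ∀ k ∈ K, k ∈ normalizer (H : Set G) → k = 1 := fun k hk hkn =>
    inf_eq_bot_of_pGroup hKnd hF.pgroup hk ((hF.closed g).le ⟨hKT hk, hkn⟩)
  -- the Sylow subgroups of `T` are conjugate
  set H' := H.subgroupOf T with hH'
  have hH'p : IsPGroup p H' := hF.pgroup.comap_of_injective T.subtype T.subtype_injective
  obtain ⟨P, hP⟩ := hH'p.exists_le_sylow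
  have hPH : (P : Subgroup T) = H' := by
    refine le_antisymm (fun x hx => ?_) hP
    obtain ⟨k, hk, h, hh, e⟩ := exists_mul_of_mem_sup (hHT.trans hTN)
      (show (x : G) ∈ K ⊔ H by rw [hsup]; exact x.2)
    have hkP : (⟨k, hKT hk⟩ : T) ∈ (P : Subgroup T) := by
      have e' : (⟨k, hKT hk⟩ : T) = x * (⟨h, hHT hh⟩)⁻¹ := Subtype.ext (by simp [e])
      rw [e']
      exact mul_mem hx (inv_mem (hP hh))
    have : (⟨k, hKT hk⟩ : T) = 1 :=
      inf_eq_bot_of_pGroup (S := K.subgroupOf T)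
        (by rwa [Nat.card_congr (subgroupOfEquivOfLe hKT).toEquiv]) P.2 hk hkP
    rw [mem_subgroupOf, e, show k = 1 from congrArg Subtype.val this, one_mul]
    exact hh
  set M := (cj g H).subgroupOf T
  have hMc : Nat.card M = Nat.card (P : Subgroup T) := by
    rw [hPH, Nat.card_congr (subgroupOfEquivOfLe (le_sup_right : cj g H ≤ T)).toEquiv,
      Nat.card_congr (subgroupOfEquivOfLe hHT).toEquiv, cj,
      card_map_of_injective (MulAut.conj g).injective]
  set R : Sylow p T := Sylow.ofCard M (hMc.trans P.card_eq_multiplicity)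
  obtain ⟨t, ht⟩ := MulAction.exists_smul_eq T P R
  have hmem : ∀ y : T, y ∈ M ↔ t⁻¹ * y * t ∈ H' := by
    intro y
    have : M = MulAut.conj t • (P : Subgroup T) := by
      have h := congrArg (fun S : Sylow p T => (S : Subgroup T)) ht
      simp only [Sylow.smul_def, Sylow.pointwise_smul_def] at h
      rw [h]; rfl
    rw [this, Subgroup.mem_pointwise_smul_iff_inv_smul_mem, hPH]
    simp [MulAut.smul_def, mul_assoc]
  have ht' : cj (t : G) H = cj g H := by
    ext x
    rw [mem_cj]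
    constructor
    · intro hx
      have hxT : x ∈ T := by
        have h := T.mul_mem (T.mul_mem t.2 (hHT hx)) (T.inv_mem t.2)
        simpa [mul_assoc] using h
      exact (hmem ⟨x, hxT⟩).2 hx
    · intro hx
      exact (hmem ⟨x, le_sup_right (a := H) hx⟩).1 hx
  obtain ⟨d, hd, h, hh, e⟩ := exists_mul_of_mem_sup (hHT.trans hTN)
    (show (t : G) ∈ K ⊔ H by rw [hsup]; exact t.2)
  refine ⟨K, d, hKnd, hHT.trans hTN, hsup, hinf, hd, ?_⟩
  rw [← ht', e, cj_mul, cj_eq_self_iff.2 (le_normalizer hh)]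

namespace Pair

variable {g : G} {K : Subgroup G} {d : G} (hP : Pair p H g K d)
include hP

theorem le_T : K ≤ H ⊔ cj g H := hP.sup ▸ le_sup_left

theorem mem_K (hHp : IsPGroup p H) {x : G} (hx : x ∈ H ⊔ cj g H) (ho : ¬ p ∣ orderOf x) :
    x ∈ K :=
  mem_of_pPrime hHp hP.normalized (hP.sup ▸ hx) ho

theorem normalizer_factor : d⁻¹ * g ∈ normalizer (H : Set G) := by
  rw [← cj_eq_self_iff, cj_mul, ← hP.conj, ← cj_mul, inv_mul_cancel, cj_one]

/-- An element of `K` transporting `H` like an element of a normalised `p'`-subgroup `S` lies in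
`S`. -/
theorem mem_of_transport (hF : Fam p H) {S : Subgroup G} (hS : ¬ p ∣ Nat.card S)
    (hHS : H ≤ normalizer (S : Set G)) {k s : G} (hk : k ∈ K) (hs : s ∈ S)
    (he : cj k H = cj s H) : k ∈ S := by
  obtain ⟨K', d', hP'⟩ := hF.exists_pair k
  have h1 : H ⊔ cj k H ≤ H ⊔ cj g H := by
    refine sup_le le_sup_left ?_
    rintro _ ⟨y, hy, rfl⟩
    exact mul_mem (mul_mem (hP.le_T hk) (mem_sup_left hy)) (inv_mem (hP.le_T hk))
  have h2 : H ⊔ cj k H ≤ S ⊔ H := by
    refine sup_le le_sup_right ?_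
    rw [he]
    rintro _ ⟨y, hy, rfl⟩
    exact mul_mem (mul_mem (mem_sup_left hs) (mem_sup_right hy)) (inv_mem (mem_sup_left hs))
  have hd : ¬ p ∣ orderOf d' := not_dvd_orderOf_of_mem hP'.notDvd hP'.mem
  have hdK : d' ∈ K := hP.mem_K hF.pgroup (h1 (hP'.le_T hP'.mem)) hd
  have hdS : d' ∈ S := mem_of_pPrime hF.pgroup hHS (h2 (hP'.le_T hP'.mem)) hd
  have := hP.inf _ (mul_mem (inv_mem hdK) hk) hP'.normalizer_factor
  rw [inv_mul_eq_one] at this
  exact this ▸ hdS

end Pair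

/-- The conclusion. -/
def Concl (p : ℕ) (H : Subgroup G) : Prop :=
  ∃ W : Subgroup G, W.Normal ∧ ¬ p ∣ Nat.card W ∧
    (∀ w ∈ W, w ∈ normalizer (H : Set G) → w = 1) ∧ W ⊔ normalizer (H : Set G) = ⊤

omit [Finite G] in
theorem Concl.normalClosure_le {H : Subgroup G} {W : Subgroup G} [W.Normal]
    (htop : W ⊔ normalizer (H : Set G) = ⊤) : normalClosure (H : Set G) ≤ W ⊔ H := by
  refine (closure_le _).2 ?_
  intro x hx
  obtain ⟨y, hy, hc⟩ := Group.mem_conjugatesOfSet_iff.1 hx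
  obtain ⟨c, rfl⟩ := isConj_iff.1 hc
  obtain ⟨w, hw, n, hn, rfl⟩ := mem_sup_of_normal_left.1
    (show c ∈ W ⊔ normalizer (H : Set G) by rw [htop]; trivial)
  have h1 : n * y * n⁻¹ ∈ H := (mem_normalizer_iff.1 hn y).1 hy
  rw [show w * n * y * (w * n)⁻¹ = w * (n * y * n⁻¹) * w⁻¹ by group]
  exact mul_mem (mul_mem (mem_sup_left hw) (mem_sup_right h1)) (inv_mem (mem_sup_left hw))

/-- The conclusion inside a subgroup `Y` containing `H`, read in `G`. -/
structure Local (p : ℕ) (H Y W : Subgroup G) : Prop where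
  le : W ≤ Y
  notDvd : ¬ p ∣ Nat.card W
  normalized : Y ≤ normalizer (W : Set G)
  inf : ∀ w ∈ W, w ∈ normalizer (H : Set G) → w = 1
  factor : ∀ y ∈ Y, ∃ w ∈ W, ∃ n ∈ normalizer (H : Set G), n ∈ Y ∧ y = w * n

theorem Fam.subgroupOf (hF : Fam p H) (Y : Subgroup G) (hHY : H ≤ Y) : Fam p (H.subgroupOf Y) := by
  refine ⟨hF.pgroup.comap_of_injective Y.subtype Y.subtype_injective,
    fun a ha b hb => Subtype.ext (hF.comm a ha b hb).eq, fun g => ?_⟩
  refine le_antisymm ?_ (le_inf le_sup_left le_normalizer)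
  rintro y ⟨hy, hyn⟩
  replace hy : y ∈ H.subgroupOf Y ⊔ (H.subgroupOf Y).map (MulAut.conj g).toMonoidHom := hy
  replace hyn : y ∈ normalizer ((H.subgroupOf Y : Subgroup Y) : Set Y) := hyn
  rw [mem_subgroupOf]
  refine (hF.closed (g : G)).le ⟨?_, ?_⟩
  · have h := mem_map_of_mem Y.subtype hy
    rw [Subgroup.map_sup, map_map] at h
    revert h
    refine fun h => sup_le (le_trans (map_comap_le _ _) le_sup_left) ?_ h
    rintro _ ⟨w, hw, rfl⟩
    exact mem_sup_right (conj_mem_cj hw)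
  · refine mem_normalizer_of_conj fun w hw => ?_
    exact (mem_normalizer_iff.1 hyn ⟨w, hHY hw⟩).1 hw

theorem Concl.local (Y : Subgroup G) (hHY : H ≤ Y) (h : Concl p (H.subgroupOf Y)) :
    ∃ W, Local p H Y W := by
  obtain ⟨W, hWn, hWc, hWi, hWt⟩ := h
  have hnorm : ∀ y : Y, y ∈ normalizer ((H.subgroupOf Y : Subgroup Y) : Set Y) →
      (y : G) ∈ normalizer (H : Set G) := fun y hy =>
    mem_normalizer_of_conj fun s hs => (mem_normalizer_iff.1 hy ⟨s, hHY hs⟩).1 hs
  refine ⟨W.map Y.subtype, map_subtype_le _, by rwa [card_map_of_injective Y.subtype_injective],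
    fun y hy => mem_normalizer_of_conj ?_, ?_, ?_⟩
  · rintro _ ⟨w, hw, rfl⟩
    exact ⟨⟨y, hy⟩ * w * ⟨y, hy⟩⁻¹, hWn.conj_mem w hw _, by simp⟩
  · rintro _ ⟨w, hw, rfl⟩ hn
    have : w = 1 := hWi w hw <| mem_normalizer_of_conj fun s hs =>
      mem_subgroupOf.2 ((mem_normalizer_iff.1 hn (s : G)).1 hs)
    simp [this]
  · intro y hy
    obtain ⟨w, hw, n, hn, e⟩ := mem_sup_of_normal_left.1
      (show (⟨y, hy⟩ : Y) ∈ W ⊔ normalizer ((H.subgroupOf Y : Subgroup Y) : Set Y) by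
        rw [hWt]; trivial)
    exact ⟨_, ⟨w, hw, rfl⟩, n, hnorm n hn, n.2, (congrArg Subtype.val e).symm⟩

theorem Pair.mem_local {g : G} {K : Subgroup G} {d : G} (hP : Pair p H g K d) (hF : Fam p H)
    {Y W : Subgroup G} (hL : Local p H Y W) (hHY : H ≤ Y) {k : G} (hk : k ∈ K) (hkY : k ∈ Y) :
    k ∈ W := by
  obtain ⟨w, hw, n, hn, -, rfl⟩ := hL.factor k hkY
  exact hP.mem_of_transport hF hL.notDvd (hHY.trans hL.normalized) hk hw
    (by rw [cj_mul, cj_eq_self_iff.2 hn])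

/-- Preimages of the normalizer modulo a normal `p'`-subgroup. -/
theorem Fam.quot_normalizer (hF : Fam p H) (N : Subgroup G) [N.Normal] (hN : ¬ p ∣ Nat.card N)
    {x : G} (hx : QuotientGroup.mk' N x ∈
      normalizer ((H.map (QuotientGroup.mk' N) : Subgroup (G ⧸ N)) : Set (G ⧸ N))) :
    ∃ o ∈ N, o⁻¹ * x ∈ normalizer (H : Set G) := by
  obtain ⟨K, d, hP⟩ := hF.exists_pair x
  have hle : cj x H ≤ N ⊔ H := by
    rintro _ ⟨y, hy, rfl⟩
    have h1 := (mem_normalizer_iff.1 hx (QuotientGroup.mk' N y)).1 (mem_map_of_mem _ hy)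
    rw [← map_inv, ← map_mul, ← map_mul] at h1
    have h2 : x * y * x⁻¹ ∈ (H.map (QuotientGroup.mk' N)).comap (QuotientGroup.mk' N) := h1
    rw [comap_map_eq, QuotientGroup.ker_mk', sup_comm] at h2
    simpa [MulAut.conj_apply] using h2
  refine ⟨d, mem_of_pPrime hF.pgroup ?_ ?_ (not_dvd_orderOf_of_mem hP.notDvd hP.mem),
    hP.normalizer_factor⟩
  · intro z _
    exact mem_normalizer_of_conj fun s hs => Subgroup.Normal.conj_mem ‹N.Normal› s hs z
  · exact sup_le le_sup_right hle (hP.le_T hP.mem)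

theorem Fam.quot (hF : Fam p H) (N : Subgroup G) [N.Normal] (hN : ¬ p ∣ Nat.card N) :
    Fam p (H.map (QuotientGroup.mk' N)) := by
  set q := QuotientGroup.mk' N with hq
  refine ⟨hF.pgroup.map q, ?_, ?_⟩
  · rintro _ ⟨a, ha, rfl⟩ _ ⟨b, hb, rfl⟩
    exact (hF.comm a ha b hb).map q
  · intro t
    obtain ⟨g, rfl⟩ := QuotientGroup.mk'_surjective N t
    refine le_antisymm ?_ (le_inf le_sup_left le_normalizer)
    rintro y ⟨hy, hyn⟩
    have e : (H.map q).map (MulAut.conj (q g)).toMonoidHom =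
        (H.map (MulAut.conj g).toMonoidHom).map q := by
      rw [map_map, map_map]
      congr 1
    replace hy : y ∈ H.map q ⊔ (H.map q).map (MulAut.conj (q g)).toMonoidHom := hy
    rw [e, ← Subgroup.map_sup] at hy
    obtain ⟨t, ht, rfl⟩ := hy
    obtain ⟨o, ho, hn⟩ := hF.quot_normalizer N hN hyn
    obtain ⟨K, d, hP⟩ := hF.exists_pair g
    obtain ⟨k, hk, h, hh, rfl⟩ := exists_mul_of_mem_sup hP.normalized
      (show t ∈ K ⊔ H by rw [hP.sup]; exact ht)
    have he : cj k H = cj o H := by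
      have h1 : cj (o⁻¹ * (k * h)) H = H := cj_eq_self_iff.2 hn
      rw [cj_mul, cj_mul, cj_eq_self_iff.2 (le_normalizer hh)] at h1
      conv_rhs => rw [← h1]
      rw [← cj_mul, ← cj_mul, mul_inv_cancel, one_mul]
    have hkN : k ∈ N := hP.mem_of_transport hF hN
      (fun z _ => mem_normalizer_of_conj fun s hs => Subgroup.Normal.conj_mem ‹N.Normal› s hs z)
      hk ho he
    refine ⟨h, hh, ?_⟩
    rw [map_mul, show q k = 1 from (QuotientGroup.eq_one_iff k).2 hkN, one_mul]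

/-- The quotient by a central subgroup of `H`. -/
theorem quot_normalizer_of_le {N : Subgroup G} [N.Normal] (hN : N ≤ H) {x : G}
    (hx : QuotientGroup.mk' N x ∈
      normalizer ((H.map (QuotientGroup.mk' N) : Subgroup (G ⧸ N)) : Set (G ⧸ N))) :
    x ∈ normalizer (H : Set G) := by
  refine mem_normalizer_of_conj fun y hy => ?_
  have h1 := (mem_normalizer_iff.1 hx (QuotientGroup.mk' N y)).1 (mem_map_of_mem _ hy)
  rw [← map_inv, ← map_mul, ← map_mul] at h1
  have h2 : x * y * x⁻¹ ∈ (H.map (QuotientGroup.mk' N)).comap (QuotientGroup.mk' N) := h1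
  rwa [comap_map_eq_self (by rwa [QuotientGroup.ker_mk'])] at h2

theorem Fam.quot_le (hF : Fam p H) (N : Subgroup G) [N.Normal] (hN : N ≤ H) :
    Fam p (H.map (QuotientGroup.mk' N)) := by
  set q := QuotientGroup.mk' N with hq
  refine ⟨hF.pgroup.map q, ?_, ?_⟩
  · rintro _ ⟨a, ha, rfl⟩ _ ⟨b, hb, rfl⟩
    exact (hF.comm a ha b hb).map q
  · intro t
    obtain ⟨g, rfl⟩ := QuotientGroup.mk'_surjective N t
    refine le_antisymm ?_ (le_inf le_sup_left le_normalizer)
    rintro y ⟨hy, hyn⟩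
    have e : (H.map q).map (MulAut.conj (q g)).toMonoidHom =
        (H.map (MulAut.conj g).toMonoidHom).map q := by
      rw [map_map, map_map]
      congr 1
    replace hy : y ∈ H.map q ⊔ (H.map q).map (MulAut.conj (q g)).toMonoidHom := hy
    rw [e, ← Subgroup.map_sup] at hy
    obtain ⟨x, hx, rfl⟩ := hy
    exact mem_map_of_mem q ((hF.closed g).le ⟨hx, quot_normalizer_of_le hN hyn⟩)

end Cfsg.Agent.ExtremelyClosedOdd6
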