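import Mathlib
import Cfsg.Prelude.Def_Characters
import Cfsg.Agent.Lib.CharBasicLinear
import Cfsg.Agent.Lib.CharBasicDecomp
import Cfsg.Agent.Lib.CharAverage
import Cfsg.Agent.Lib.GlaubermanP

/-!
# Character lemmas for extremely closed abelian subgroups
-/

set_option autoImplicit false

open scoped ComplexConjugate

namespace Cfsg.Agent.ExtremelyClosedOdd6

open Subgroup Cfsg.Agent.CharBasic Cfsg.Agent.CharBasicOrth Cfsg.Agent.CharBasicDecomp

universe u

variable {G : Type u} [Group G]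

theorem irr_classFn (χ : IrrCharacter G) : IsClassFunction G (χ : G → ℂ) :=
  isClassFunction_of_isCharacter (isCharacter_of_isIrrCharacter χ.2)

theorem irr_comm (χ : IrrCharacter G) (x y : G) : (χ : G → ℂ) (x * y) = (χ : G → ℂ) (y * x) := by
  have := irr_classFn χ (y * x) x
  rw [← this]
  congr 1
  group

theorem irr_conj' (χ : IrrCharacter G) (g x : G) :
    (χ : G → ℂ) (g * x * g⁻¹) = (χ : G → ℂ) x :=
  irr_classFn χ x g

/-- Convolution of an irreducible character with itself. -/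
theorem sum_convolution [Fintype G] (χ : IrrCharacter G) (w : G) :
    ∑ m : G, (χ : G → ℂ) m * (χ : G → ℂ) (m⁻¹ * w) =
      (Nat.card G : ℂ) * (χ : G → ℂ) w / (χ : G → ℂ) 1 := by
  have key : ∀ a : G, ∑ m : G, (χ : G → ℂ) m * (χ : G → ℂ) (a * m⁻¹ * a⁻¹ * w) =
      ∑ m : G, (χ : G → ℂ) m * (χ : G → ℂ) (m⁻¹ * w) := by
    intro a
    refine Fintype.sum_equiv (MulAut.conj a).toEquiv _ _ fun m => ?_
    show _ = (χ : G → ℂ) (a * m * a⁻¹) * (χ : G → ℂ) ((a * m * a⁻¹)⁻¹ * w)
    rw [irr_conj' χ a m]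
    simp only [mul_inv_rev, inv_inv, mul_assoc]
  have hG : (Nat.card G : ℂ) ≠ 0 := Nat.cast_ne_zero.2 Nat.card_pos.ne'
  have hnorm : ∑ m : G, (χ : G → ℂ) m * (χ : G → ℂ) m⁻¹ = (Nat.card G : ℂ) := by
    have h := classInner_irr_self χ.2
    rw [Cfsg.classInner, inv_mul_eq_iff_eq_mul₀ hG, mul_one] at h
    rw [← h]
    exact Finset.sum_congr rfl fun m _ => by
      rw [isCharacter_inv (isCharacter_of_isIrrCharacter χ.2)]
  refine mul_left_cancel₀ hG ?_
  calc (Nat.card G : ℂ) * ∑ m : G, (χ : G → ℂ) m * (χ : G → ℂ) (m⁻¹ * w)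
      = ∑ a : G, ∑ m : G, (χ : G → ℂ) m * (χ : G → ℂ) (a * m⁻¹ * a⁻¹ * w) := by
        rw [Finset.sum_congr rfl fun a _ => key a, Finset.sum_const, nsmul_eq_mul,
          Finset.card_univ, Nat.card_eq_fintype_card]
    _ = ∑ m : G, (χ : G → ℂ) m *
          ((Nat.card G : ℂ) * (χ : G → ℂ) m⁻¹ * (χ : G → ℂ) w / (χ : G → ℂ) 1) := by
        rw [Finset.sum_comm]
        refine Finset.sum_congr rfl fun m _ => ?_
        rw [← CharAverage.sum_conj_mul χ m⁻¹ w, Finset.mul_sum]
    _ = (∑ m : G, (χ : G → ℂ) m * (χ : G → ℂ) m⁻¹) *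
          ((Nat.card G : ℂ) * (χ : G → ℂ) w / (χ : G → ℂ) 1) := by
        rw [Finset.sum_mul]
        exact Finset.sum_congr rfl fun m _ => by ring
    _ = _ := by rw [hnorm]

/-- Irreducible characters are positive definite. -/
theorem sum_nonneg_re [Fintype G] (χ : IrrCharacter G) {ι : Type*} [Fintype ι] (x : ι → G) :
    0 ≤ (∑ i, ∑ j, (χ : G → ℂ) ((x i)⁻¹ * x j)).re := by
  obtain ⟨d, hd, hd1⟩ := isIrrCharacter_apply_one χ.2
  set v : G → ℂ := fun z => ∑ j, (χ : G → ℂ) (z⁻¹ * x j) with hv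
  have hc : ∀ i z, (χ : G → ℂ) ((x i)⁻¹ * z) = conj ((χ : G → ℂ) (z⁻¹ * x i)) := by
    intro i z
    rw [← isCharacter_inv (isCharacter_of_isIrrCharacter χ.2), mul_inv_rev, inv_inv]
  have key : (Nat.card G : ℂ) / (d : ℂ) * ∑ i, ∑ j, (χ : G → ℂ) ((x i)⁻¹ * x j) =
      ∑ z : G, conj (v z) * v z := by
    calc (Nat.card G : ℂ) / (d : ℂ) * ∑ i, ∑ j, (χ : G → ℂ) ((x i)⁻¹ * x j)
        = ∑ i, ∑ j, ∑ z : G, (χ : G → ℂ) ((x i)⁻¹ * z) * (χ : G → ℂ) (z⁻¹ * x j) := by
          simp only [Finset.mul_sum]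
          refine Finset.sum_congr rfl fun i _ => Finset.sum_congr rfl fun j _ => ?_
          rw [← hd1, div_mul_eq_mul_div, ← sum_convolution χ ((x i)⁻¹ * x j)]
          refine Fintype.sum_equiv (Equiv.mulLeft (x i)) _ _ fun m => ?_
          show _ = (χ : G → ℂ) ((x i)⁻¹ * (x i * m)) * (χ : G → ℂ) ((x i * m)⁻¹ * x j)
          rw [inv_mul_cancel_left, mul_inv_rev, mul_assoc]
      _ = _ := by
          rw [Finset.sum_congr rfl fun i _ => Finset.sum_comm, Finset.sum_comm]
          refine Finset.sum_congr rfl fun z _ => ?_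
          rw [hv, map_sum, Finset.sum_mul_sum]
          exact Finset.sum_congr rfl fun i _ => Finset.sum_congr rfl fun j _ => by rw [hc]
  have hre := congrArg Complex.re key
  rw [Complex.re_sum, show (Nat.card G : ℂ) / (d : ℂ) = (((Nat.card G : ℝ) / d : ℝ) : ℂ) by
    push_cast; rfl, Complex.re_ofReal_mul] at hre
  have hpos : (0 : ℝ) < (Nat.card G : ℝ) / d := by
    have : (0 : ℝ) < Nat.card G := Nat.cast_pos.2 Nat.card_pos
    have : (0 : ℝ) < d := Nat.cast_pos.2 hd
    positivity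
  refine (mul_nonneg_iff_of_pos_left hpos).1 (hre ▸ Finset.sum_nonneg fun z _ => ?_)
  rw [← Complex.normSq_eq_conj_mul_self, Complex.ofReal_re]
  exact Complex.normSq_nonneg _

/-- The double sum over two subgroups has nonnegative real part. -/
theorem sum_sum_nonneg_re [Fintype G] (χ : IrrCharacter G) (A B : Subgroup G) [Fintype A]
    [Fintype B] : 0 ≤ (∑ a : A, ∑ b : B, (χ : G → ℂ) (a * b)).re := by
  have h := sum_nonneg_re χ (fun i : A × B => (i.2 : G) * i.1)
  have key : ∀ i : A × B,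
      ∑ j : A × B, (χ : G → ℂ) (((i.2 : G) * i.1)⁻¹ * ((j.2 : G) * j.1)) =
        ∑ a : A, ∑ b : B, (χ : G → ℂ) (a * b) := by
    intro i
    rw [Fintype.sum_prod_type]
    refine Fintype.sum_equiv (Equiv.mulRight i.1⁻¹) _ _ fun a => ?_
    refine Fintype.sum_equiv (Equiv.mulLeft i.2⁻¹) _ _ fun b => ?_
    show (χ : G → ℂ) (((i.2 : G) * i.1)⁻¹ * ((b : G) * a)) =
      (χ : G → ℂ) (((a : G) * (i.1 : G)⁻¹) * ((i.2 : G)⁻¹ * b))
    rw [← irr_conj' χ (a : G)]
    congr 1
    group
  rw [Finset.sum_congr rfl fun i _ => key i, Finset.sum_const, Finset.card_univ, nsmul_eq_mul,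
    ← Complex.ofReal_natCast, Complex.re_ofReal_mul] at h
  exact (mul_nonneg_iff_of_pos_left (Nat.cast_pos.2 Fintype.card_pos)).1 h

/-- If a character does not sum to zero over a normal subgroup, that subgroup is in the kernel. -/
theorem const_of_sum_ne_zero [Finite G] (χ : IrrCharacter G) (K : Subgroup G) [K.Normal]
    [Fintype K] (h : ∑ k : K, (χ : G → ℂ) k ≠ 0) {k : G} (hk : k ∈ K) (x : G) :
    (χ : G → ℂ) (k * x) = (χ : G → ℂ) x := by
  obtain ⟨n, ρ, hi, hρ⟩ := χ.2
  set T : Module.End ℂ (Fin n → ℂ) := ∑ l : K, ρ (l : G) with hT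
  have hcomm : ∀ g v, T (ρ g v) = ρ g (T v) := by
    intro g v
    simp only [hT, LinearMap.sum_apply, map_sum, ← Module.End.mul_apply, ← map_mul]
    refine Fintype.sum_equiv (MulAut.conjNormal g⁻¹ : K ≃* K).toEquiv _ _ fun l => ?_
    congr 2
    show _ = g * (((MulAut.conjNormal g⁻¹ : K ≃* K) l : K) : G)
    rw [MulAut.conjNormal_apply]
    group
  obtain ⟨c, hc, htr⟩ := exists_scalar_of_commute ρ T hcomm
  have hc0 : c ≠ 0 := by
    rintro rfl
    refine h ?_
    rw [← hρ]
    simp only [Representation.character, ← map_sum]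
    rw [← hT, hc]
    simp
  have hkT : ρ k * T = T := by
    simp only [hT, Finset.mul_sum, ← map_mul]
    exact Fintype.sum_equiv (Equiv.mulLeft ⟨k, hk⟩) _ _ fun l => rfl
  rw [hc, mul_smul_comm, ← Module.End.one_eq_id, mul_one] at hkT
  have hk1 : ρ k = 1 := smul_right_injective _ hc0 hkT
  rw [← hρ]
  simp [Representation.character, map_mul, hk1]

/-- A function invariant under a `p`-group fixing only `1` in a `p'`-subgroup. -/
theorem pDvd_sum_sub_one [Finite G] {p : ℕ} [hp : Fact p.Prime] {H S : Subgroup G} [Fintype S]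
    (hH : IsPGroup p H) (hS : ¬ p ∣ Nat.card S) (hHS : H ≤ normalizer (S : Set G))
    (hfix : ∀ s ∈ S, (∀ h ∈ H, h * s = s * h) → s = 1) (f : G → ℂ)
    (hf : ∀ h ∈ H, ∀ s ∈ S, f (h * s * h⁻¹) = f s) (hint : ∀ s ∈ S, IsIntegral ℤ (f s)) :
    GlaubermanP.PDvd p (∑ s : S, f s - f 1) := by
  classical
  let φ : H →* MulAut S :=
    { toFun := fun h =>
        { toFun := fun s => ⟨(h : G) * s * (h : G)⁻¹, (mem_normalizer_iff.1 (hHS h.2) _).1 s.2⟩
          invFun := fun s => ⟨(h : G)⁻¹ * s * h, (mem_normalizer_iff.1 (hHS h.2) _).2 (by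
            simp [mul_assoc])⟩
          left_inv := fun s => Subtype.ext (by simp [mul_assoc])
          right_inv := fun s => Subtype.ext (by simp [mul_assoc])
          map_mul' := fun s t => Subtype.ext (by simp [mul_assoc]) }
      map_one' := MulEquiv.ext fun s => Subtype.ext (by simp)
      map_mul' := fun a b => MulEquiv.ext fun s => Subtype.ext (by simp [mul_assoc]) }
  have hι : GlaubermanP.IsFix φ ((⊥ : Subgroup S).subtype) := by
    refine ⟨Subgroup.subtype_injective _, fun s => ?_⟩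
    rw [Subgroup.range_subtype, mem_bot]
    refine ⟨fun hs a => by rw [hs, map_one], fun hs => ?_⟩
    refine Subtype.ext (hfix s s.2 fun h hh => ?_)
    have := congrArg Subtype.val (hs ⟨h, hh⟩)
    exact mul_inv_eq_iff_eq_mul.1 this
  have hSet : GlaubermanP.Setup p H S (⊥ : Subgroup S) := ⟨hp.out, hH, hS⟩
  have h := GlaubermanP.pDvd_sum_sub hSet hι (fun s : S => f s) (fun a s => hf a a.2 s s.2)
    (fun s => hint s s.2)
  rw [Fintype.sum_unique (ι := (⊥ : Subgroup S))] at h
  exact h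

/-- The real part of a sum of character values is at most the number of nonzero terms times the
degree. -/
theorem re_sum_le [Finite G] {H H₁ : Subgroup G} [Fintype H] (χ : IrrCharacter G) {d : ℕ}
    (hd : (χ : G → ℂ) 1 = d) (h0 : ∀ h ∈ H, h ∉ H₁ → (χ : G → ℂ) h = 0) :
    (∑ h : H, (χ : G → ℂ) h).re ≤ (Nat.card (H₁.subgroupOf H) : ℝ) * d := by
  classical
  rw [← Finset.sum_filter_of_ne (p := fun h : H => (h : G) ∈ H₁)
    (fun h _ hne => by_contra fun hn => hne (h0 h h.2 hn)), Complex.re_sum]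
  refine le_trans (Finset.sum_le_card_nsmul _ _ (d : ℝ) fun h _ => ?_) ?_
  · refine (Complex.re_le_norm _).trans ((isCharacter_norm_le (isCharacter_of_isIrrCharacter χ.2) _).trans ?_)
    rw [hd, Complex.natCast_re]
  · rw [nsmul_eq_mul]
    refine mul_le_mul_of_nonneg_right ?_ (Nat.cast_nonneg _)
    rw [Nat.cast_le, Nat.card_eq_fintype_card]
    exact (Fintype.card_of_subtype _ fun h => by simp [mem_subgroupOf]).ge

/-- In `G = K H` with `H` an abelian `p`-group fixing only `1` in the normal `p'`-subgroup `K`,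
a nontrivial irreducible character has few `H`-fixed vectors. -/
theorem sum_le_of_complement [Fintype G] {p : ℕ} [hp : Fact p.Prime] {K H : Subgroup G}
    [hKn : K.Normal] [Fintype H]
    (hK : ¬ p ∣ Nat.card K) (hH : IsPGroup p H) (hcomm : ∀ a ∈ H, ∀ b ∈ H, Commute a b)
    (hsup : K ⊔ H = ⊤) (hfix : ∀ k ∈ K, (∀ h ∈ H, h * k = k * h) → k = 1)
    (η : IrrCharacter G) (hη : (η : G → ℂ) ≠ fun _ => 1) :
    (p : ℝ) * (∑ h : H, (η : G → ℂ) h).re ≤ (Nat.card H : ℝ) * ((η : G → ℂ) 1).re := by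
  classical
  obtain ⟨d, hd, hd1⟩ := isIrrCharacter_apply_one η.2
  rw [hd1, Complex.natCast_re]
  have hdisj : ∀ x ∈ K, x ∈ H → x = 1 := fun x hx hx' =>
    hfix x hx fun h hh => (hcomm h hh x hx').eq
  have hdec : ∀ x : G, ∃ k ∈ K, ∃ h ∈ H, x = k * h := by
    intro x
    obtain ⟨k, hk, h, hh, e⟩ := mem_sup_of_normal_left.1 (show x ∈ K ⊔ H by rw [hsup]; trivial)
    exact ⟨k, hk, h, hh, e.symm⟩
  have hbij : Function.Bijective ((QuotientGroup.mk' K).comp H.subtype) := by
    refine ⟨(injective_iff_map_eq_one _).2 fun h hh => ?_, fun t => ?_⟩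
    · exact Subtype.ext (hdisj h ((QuotientGroup.eq_one_iff (h : G)).1 hh) h.2)
    · obtain ⟨x, rfl⟩ := QuotientGroup.mk'_surjective K t
      obtain ⟨k, hk, h, hh, rfl⟩ := hdec x
      refine ⟨⟨h, hh⟩, ?_⟩
      rw [map_mul, show QuotientGroup.mk' K k = 1 from (QuotientGroup.eq_one_iff k).2 hk, one_mul]
      rfl
  set e : H ≃* G ⧸ K := MulEquiv.ofBijective _ hbij with he
  set π : G →* H := e.symm.toMonoidHom.comp (QuotientGroup.mk' K) with hπ
  have hπH : ∀ h : H, π h = h := fun h => e.symm_apply_apply h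
  have hπK : ∀ x : G, π x = 1 ↔ x ∈ K := fun x => by
    rw [hπ, MonoidHom.comp_apply]
    exact (map_eq_one_iff _ e.symm.injective).trans (QuotientGroup.eq_one_iff x)
  have hHcomm : ∀ a b : H, a * b = b * a := fun a b => Subtype.ext (hcomm a a.2 b b.2).eq
  by_cases hA : ∃ lam : H →* ℂˣ, lam ≠ 1 ∧
      ∀ x, (η : G → ℂ) x * (lam (π x) : ℂ) = (η : G → ℂ) x
  · obtain ⟨lam, hlam, heq⟩ := hA
    have h0 : ∀ h ∈ H, h ∉ lam.ker.map H.subtype → (η : G → ℂ) h = 0 := by
      intro h hh hn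
      have h1 := heq h
      rw [show π h = ⟨h, hh⟩ from hπH ⟨h, hh⟩] at h1
      by_contra h2
      refine hn ⟨⟨h, hh⟩, ?_, rfl⟩
      rw [SetLike.mem_coe, MonoidHom.mem_ker]
      exact Units.ext (mul_left_cancel₀ h2 (h1.trans (mul_one _).symm))
    have hle := re_sum_le η hd1 h0
    have hcardeq : (lam.ker.map H.subtype).subgroupOf H = lam.ker :=
      comap_map_eq_self_of_injective H.subtype_injective _
    rw [hcardeq] at hle
    obtain ⟨m, hm⟩ := IsPGroup.index (hH) lam.ker
    have hm0 : m ≠ 0 := by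
      rintro rfl
      rw [pow_zero, index_eq_one, MonoidHom.ker_eq_top_iff] at hm
      exact hlam hm
    have hdvd : p * Nat.card lam.ker ≤ Nat.card H := by
      refine Nat.le_of_dvd Nat.card_pos ?_
      rw [← lam.ker.card_mul_index, mul_comm p, hm]
      exact mul_dvd_mul_left _ (dvd_pow_self p hm0)
    calc (p : ℝ) * (∑ h : H, (η : G → ℂ) h).re ≤ (p : ℝ) * ((Nat.card lam.ker : ℝ) * d) :=
          mul_le_mul_of_nonneg_left hle (Nat.cast_nonneg _)
      _ = ((p * Nat.card lam.ker : ℕ) : ℝ) * d := by push_cast; ring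
      _ ≤ _ := by gcongr
  · push Not at hA
    -- the norm of the restriction to `K` is one
    have hψ : ∀ ψ : IrrCharacter H, ∃ lam : H →* ℂˣ, (ψ : H → ℂ) = fun h => (lam h : ℂ) :=
      fun ψ => CharBasicLinear.exists_hom_of_comm hHcomm ψ.2
    choose lamOf hlamOf using hψ
    have hinner : ∀ ψ : IrrCharacter H,
        classInner (fun x => (η : G → ℂ) x * (lamOf ψ (π x) : ℂ)) (η : G → ℂ) =
          if lamOf ψ = 1 then 1 else 0 := by
      intro ψ
      split_ifs with h1
      · simp only [h1, MonoidHom.one_apply, Units.val_one, mul_one]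
        exact classInner_irr_self η.2
      · refine classInner_irr_ne ?_ η.2 fun e => ?_
        · exact isIrrCharacter_mul_linear η.2 ((lamOf ψ).comp π)
        · obtain ⟨x, hx⟩ := hA _ h1
          exact hx (congrFun e x)
    have huniq : ∀ ψ ψ' : IrrCharacter H, lamOf ψ = lamOf ψ' → ψ = ψ' := fun ψ ψ' e =>
      Subtype.ext (by rw [hlamOf ψ, hlamOf ψ', e])
    set ψ₀ : IrrCharacter H := trivIrr H
    have hψ₀ : lamOf ψ₀ = 1 := by
      refine MonoidHom.ext fun h => Units.ext ?_
      exact (congrFun (hlamOf ψ₀) h).symm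
    have hsum1 : ∑ ψ : IrrCharacter H,
        classInner (fun x => (η : G → ℂ) x * (lamOf ψ (π x) : ℂ)) (η : G → ℂ) = 1 := by
      rw [Finset.sum_congr rfl fun ψ _ => hinner ψ, Finset.sum_eq_single ψ₀, if_pos hψ₀]
      · exact fun ψ _ hne => if_neg fun e => hne (huniq _ _ (e.trans hψ₀.symm))
      · simp
    have hcol : ∀ h : H, ∑ ψ : IrrCharacter H, (lamOf ψ h : ℂ) =
        if h = 1 then (Nat.card H : ℂ) else 0 := by
      intro h
      have h1 := sum_irr_mul_conj h (1 : H)
      have hterm : ∀ ψ : IrrCharacter H,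
          (ψ : H → ℂ) h * conj ((ψ : H → ℂ) 1) = (lamOf ψ h : ℂ) := by
        intro ψ
        rw [hlamOf ψ]
        simp
      rw [Finset.sum_congr rfl fun ψ _ => hterm ψ] at h1
      rw [h1]
      by_cases hh : h = 1
      · subst hh
        rw [if_pos (IsConj.refl 1), if_pos rfl]
        have : centralizer ({(1 : H)} : Set H) = ⊤ := by
          rw [eq_top_iff]
          intro y _
          exact mem_centralizer_singleton_iff.2 (by simp)
        rw [this, Subgroup.card_top]
      · rw [if_neg hh, if_neg fun hc => hh (isConj_one_left.1 hc)]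
    haveI : Fintype K := Fintype.ofFinite K
    have hK2 : ∑ k : K, (η : G → ℂ) k * conj ((η : G → ℂ) k) = (Nat.card K : ℂ) := by
      have hcard : Nat.card K * Nat.card H = Nat.card G := by
        rw [Nat.card_congr e.toEquiv, mul_comm, ← Subgroup.card_eq_card_quotient_mul_card_subgroup]
      have hG : (Nat.card G : ℂ) ≠ 0 := Nat.cast_ne_zero.2 Nat.card_pos.ne'
      simp only [classInner, ← Finset.mul_sum] at hsum1
      rw [inv_mul_eq_iff_eq_mul₀ hG, mul_one, Finset.sum_comm] at hsum1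
      have : ∀ x : G, ∑ ψ : IrrCharacter H,
          (η : G → ℂ) x * (lamOf ψ (π x) : ℂ) * conj ((η : G → ℂ) x) =
          if x ∈ K then (Nat.card H : ℂ) * ((η : G → ℂ) x * conj ((η : G → ℂ) x)) else 0 := by
        intro x
        rw [← Finset.sum_mul, ← Finset.mul_sum, hcol]
        simp only [hπK]
        split_ifs <;> ring
      rw [Finset.sum_congr rfl fun x _ => this x, ← Finset.sum_filter,
        Finset.sum_subtype (Finset.univ.filter (· ∈ K)) (p := (· ∈ K)) (by simp),
        ← Finset.mul_sum, ← hcard, Nat.cast_mul, mul_comm (Nat.card K : ℂ)] at hsum1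
      exact mul_left_cancel₀ (Nat.cast_ne_zero.2 Nat.card_pos.ne') hsum1
    have hint : ∀ x, IsIntegral ℤ ((η : G → ℂ) x) :=
      isCharacter_integral (isCharacter_of_isIrrCharacter η.2)
    have hHK : H ≤ normalizer (K : Set G) := by
      intro z _
      rw [mem_normalizer_iff]
      exact fun n => ⟨fun hn => hKn.conj_mem n hn z, fun hn => by
        simpa [mul_assoc] using hKn.conj_mem _ hn z⁻¹⟩
    have c1 := pDvd_sum_sub_one hH hK hHK hfix (fun x => (η : G → ℂ) x * conj ((η : G → ℂ) x))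
      (fun h _ s _ => by simp only [irr_conj'])
      (fun s _ => (hint s).mul (GlaubermanP.isIntegral_conj (hint s)))
    have c2 := pDvd_sum_sub_one hH hK hHK hfix (η : G → ℂ) (fun h _ s _ => irr_conj' η h s)
      (fun s _ => hint s)
    rw [hK2, hd1, Complex.conj_natCast] at c1
    rw [hd1] at c2
    have hne : ∑ k : K, (η : G → ℂ) k ≠ 0 := by
      intro h0
      rw [h0, zero_sub] at c2
      have hpd : (p : ℤ) ∣ d := by
        have := GlaubermanP.int_dvd_of_pDvd (p := p) (k := -(d : ℤ)) (by push_cast; exact c2)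
        exact dvd_neg.1 this
      have := GlaubermanP.int_dvd_of_pDvd (p := p) (k := (Nat.card K : ℤ) - (d : ℤ) * d)
        (by push_cast; exact c1)
      have h2 : (p : ℤ) ∣ (Nat.card K : ℤ) := by
        have := dvd_add this (hpd.mul_right (d : ℤ))
        simpa using this
      exact hK (Int.natCast_dvd_natCast.1 h2)
    have hconst : ∀ k : K, (η : G → ℂ) k = d := fun k => by
      rw [← mul_one (k : G), const_of_sum_ne_zero η K hne k.2, hd1]
    have hd' : d = 1 := by
      rw [Finset.sum_congr rfl fun k _ => by rw [hconst k], Finset.sum_const, Finset.card_univ,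
        nsmul_eq_mul, Complex.conj_natCast, ← Nat.card_eq_fintype_card] at hK2
      have h2 : Nat.card K * (d * d) = Nat.card K * 1 := by rw [mul_one]; exact_mod_cast hK2
      exact Nat.eq_one_of_mul_eq_one_right (Nat.eq_of_mul_eq_mul_left Nat.card_pos h2)
    obtain ⟨lam, hlam⟩ := CharBasicLinear.exists_hom_of_apply_one_eq_one
      (isCharacter_of_isIrrCharacter η.2) (by rw [hd1, hd', Nat.cast_one])
    have hne1 : lam.comp H.subtype ≠ 1 := by
      intro h1
      refine hη (funext fun x => ?_)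
      obtain ⟨k, hk, h, hh, rfl⟩ := hdec x
      rw [const_of_sum_ne_zero η K hne hk, hlam]
      show (lam h : ℂ) = 1
      rw [show lam h = 1 from DFunLike.congr_fun h1 ⟨h, hh⟩, Units.val_one]
    obtain ⟨h₁, hh₁⟩ : ∃ h : H, lam (h : G) ≠ 1 := by
      by_contra hc
      push Not at hc
      exact hne1 (MonoidHom.ext hc)
    have h0 : ∑ h : H, (η : G → ℂ) h = 0 := by
      have : (lam (h₁ : G) : ℂ) * ∑ h : H, (η : G → ℂ) h = ∑ h : H, (η : G → ℂ) h := by
        rw [Finset.mul_sum]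
        refine Fintype.sum_equiv (Equiv.mulLeft h₁) _ _ fun h => ?_
        rw [hlam]
        show (lam (h₁ : G) : ℂ) * (lam (h : G) : ℂ) = (lam ((h₁ : G) * h) : ℂ)
        rw [map_mul, Units.val_mul]
      refine (mul_left_eq_self₀.1 this).resolve_left fun e => hh₁ (Units.ext e)
    rw [h0, Complex.zero_re, mul_zero]
    positivity

end Cfsg.Agent.ExtremelyClosedOdd6
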