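import Mathlib
import Cfsg.Agent.Lib.ExtremelyClosedOdd6Base
import Cfsg.Agent.Lib.ExtremelyClosedOdd6Char
import Cfsg.Agent.Lib.ZStarSection
import Cfsg.Agent.Lib.ZStarCount
import Cfsg.Agent.Lib.BlockContribSection

/-!
# Products of conjugates and the principal block
-/

set_option autoImplicit false

open scoped ComplexConjugate

namespace Cfsg.Agent.ExtremelyClosedOdd6

open Subgroup Cfsg.Agent.CharBasic Cfsg.Agent.CharBasicOrth

attribute [local instance] Classical.propDecidable

universe u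

variable {G : Type u} [Group G]

/-- The product of elements of `H` and of `g H g⁻¹`: either `p`-regular, or conjugate to the
product in `H` times an element of the local `p'`-subgroup. -/
theorem product_conj [Finite G] {p : ℕ} [hp : Fact p.Prime] {H : Subgroup G} (hF : Fam p H)
    (g : G) : ∃ n ∈ normalizer (H : Set G), (∃ o : G, ¬ p ∣ orderOf o ∧ g = o * n) ∧
      ∀ a ∈ H, ∀ b ∈ H, (a * (n * b * n⁻¹) = 1 → ¬ p ∣ orderOf (a * (g * b * g⁻¹))) ∧
        (a * (n * b * n⁻¹) ≠ 1 → ∀ W, Local p H (centralizer ({a * (n * b * n⁻¹)} : Set G)) W →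
          ∃ x : G, ∃ u ∈ W, x * (a * (g * b * g⁻¹)) * x⁻¹ = a * (n * b * n⁻¹) * u) := by
  obtain ⟨K, d, hP⟩ := hF.exists_pair g
  refine ⟨d⁻¹ * g, hP.normalizer_factor,
    ⟨d, not_dvd_orderOf_of_mem hP.notDvd hP.mem, (mul_inv_cancel_left d g).symm⟩,
    fun a ha b hb => ?_⟩
  set n := d⁻¹ * g with hn
  set b' := n * b * n⁻¹ with hb'
  have hb'H : b' ∈ H := (mem_normalizer_iff.1 hP.normalizer_factor b).1 hb
  set c := a * b' with hc
  have hcH : c ∈ H := H.mul_mem ha hb'H
  have e : a * (g * b * g⁻¹) = a * d * a⁻¹ * (c * d⁻¹ * c⁻¹) * c := by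
    rw [hc, hb', hn]; group
  have hk : a * d * a⁻¹ * (c * d⁻¹ * c⁻¹) ∈ K :=
    K.mul_mem ((mem_normalizer_iff.1 (hP.normalized ha) d).1 hP.mem)
      ((mem_normalizer_iff.1 (hP.normalized hcH) _).1 (K.inv_mem hP.mem))
  refine ⟨fun h1 => ?_, fun h1 W hW => ?_⟩
  · rw [e, h1, mul_one]
    rw [h1] at hk
    exact not_dvd_orderOf_of_mem hP.notDvd hk
  · have hcop : Nat.Coprime (orderOf c) (Nat.card K) := by
      obtain ⟨k, hk'⟩ := IsPGroup.iff_orderOf.1 hF.pgroup ⟨c, hcH⟩
      rw [Subgroup.orderOf_mk] at hk'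
      rw [hk']
      exact Nat.Coprime.pow_left k ((Nat.Prime.coprime_iff_not_dvd hp.out).2 hP.notDvd)
    obtain ⟨x, -, u, hu, huc, he⟩ := OddCharGroup.coset_conj K c (hP.normalized hcH) hcop _ hk
    have huY : u ∈ centralizer ({c} : Set G) := mem_centralizer_singleton_iff.2 huc
    have hHY : H ≤ centralizer ({c} : Set G) := fun h hh =>
      mem_centralizer_singleton_iff.2 (hF.comm h hh c hcH).eq
    exact ⟨x, u, hP.mem_local hF hW hHY hu huY, by rw [e, he, huc]⟩

variable [Fintype G] {p : ℕ} {M : Ideal AlgInt}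

/-- The block sum of two columns. -/
noncomputable def colSum (M : Ideal AlgInt) (x y : G) : ℂ :=
  ∑ χ : IrrCharacter G, if χ ∈ principalBlock M G then (χ : G → ℂ) x * conj ((χ : G → ℂ) y) else 0

theorem colSum_conj_left {x x' y : G} (h : IsConj x x') :
    colSum M x y = colSum M x' y := by
  refine Finset.sum_congr rfl fun χ _ => ?_
  rw [apply_eq_of_isConj (irr_classFn χ) h]

theorem colSum_regular_singular (hM : IsPModular p M) {x y : G} (hx : ¬ p ∣ orderOf x)
    (hy : p ∣ orderOf y) : colSum M x y = 0 :=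
  BlockTheoryIdem.weak_orthogonality hM BlockPrincipal81.isPBlock_principal hx hy

theorem colSum_eq_zero (hM : IsPModular p M) {x y : G} (hx : ∃ k, orderOf x = p ^ k)
    (hy : ∃ k, orderOf y = p ^ k) (hne : ¬ IsConj x y) : colSum M x y = 0 := by
  have h := BrauerBlocksPerm.blockSum_eq_zero_of_not_isConj hM
    BlockPrincipal81.isPBlock_principal (BrauerBlocksPPart.isPPart_self hM.1 hx)
    (BrauerBlocksPPart.isPPart_self hM.1 hy) hne
  rw [BlockTheoryIdem.finsum_mem_eq_sum] at h
  rw [colSum]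
  refine Eq.trans ?_ h
  refine Finset.sum_congr rfl fun χ _ => ?_
  split_ifs
  · rw [isCharacter_inv (isCharacter_of_isIrrCharacter χ.2)]
  · rfl

/-- Second main theorem: the norm of a column on a `p`-element dominates each `p`-subgroup of
its centralizer. -/
theorem card_le_colSum [hp : Fact p.Prime] (hM : IsPModular p M) {a : G}
    (ha : ∃ k, orderOf a = p ^ k) {Q : Subgroup G} (hQ : IsPGroup p Q)
    (hQa : ∀ x ∈ Q, Commute a x) : (Nat.card Q : ℝ) ≤ (colSum M a a).re := by
  set C := centralizer ({a} : Set G) with hC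
  have hH : ∀ g, g ∈ C ↔ Commute a g := fun g => by
    rw [hC, mem_centralizer_singleton_iff]
    exact ⟨fun h => h.symm, fun h => h.eq.symm⟩
  letI : Fintype C := Fintype.ofFinite _
  have h1 : ¬ p ∣ orderOf (1 : C) := by simp [hp.out.ne_one]
  have hsec := BlockContribSection.sum_block_section hH hM ha
    (BlockPrincipal81.isPBlock_principal (M := M) (G := G)) (s := 1) (t := 1) h1 h1
  simp only [OneMemClass.coe_one, mul_one] at hsec
  choose dg hdg0 hdg using fun ψ : IrrCharacter C => isIrrCharacter_apply_one ψ.2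
  set Q' : Subgroup C := Q.subgroupOf C with hQ'
  letI : Fintype Q' := Fintype.ofFinite _
  have hQle : Q ≤ C := fun x hx => (hH x).2 (hQa x hx)
  have hcard : Nat.card Q' = Nat.card Q := Nat.card_congr (subgroupOfEquivOfLe hQle).toEquiv
  -- sums over `Q`
  choose mQ hmQ using fun ψ : IrrCharacter C =>
    ClassAlgebraVal.exists_sum_subgroup (isCharacter_of_isIrrCharacter ψ.2) Q'
  set b0 := Finset.univ.filter fun ψ : IrrCharacter C => ψ ∈ principalBlock M C with hb0
  have hkey : ∑ v : Q', ∑ ψ ∈ b0, (ψ : C → ℂ) 1 * conj ((ψ : C → ℂ) (v : C)) =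
      ∑ ψ ∈ b0, (ψ : C → ℂ) 1 * conj ((ψ : C → ℂ) 1) := by
    rw [Finset.sum_eq_single (1 : Q')]
    · simp
    · intro v _ hv
      have hsing : p ∣ orderOf (v : C) := by
        have hQ'p : IsPGroup p Q' := hQ.comap_of_injective C.subtype C.subtype_injective
        obtain ⟨k, hk⟩ := IsPGroup.iff_orderOf.1 hQ'p v
        rw [Subgroup.orderOf_coe, hk]
        refine dvd_pow_self p fun hk0 => hv ?_
        rw [hk0, pow_zero, orderOf_eq_one_iff] at hk
        exact hk
      have := BlockTheoryIdem.weak_orthogonality hM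
        (BlockPrincipal81.isPBlock_principal (M := M) (G := C)) h1 hsing
      rwa [← Finset.sum_filter] at this
    · simp
  rw [Finset.sum_comm] at hkey
  simp only [← Finset.mul_sum, hmQ, hdg, Complex.conj_natCast] at hkey
  have hone : BlockPrincipal81.oneChar C ∈ b0 :=
    Finset.mem_filter.2 ⟨Finset.mem_univ _, BlockPrincipal81.oneChar_mem hM⟩
  have hone1 : dg (BlockPrincipal81.oneChar C) = 1 := by
    have := (hdg (BlockPrincipal81.oneChar C)).symm
    simpa [BlockPrincipal81.oneChar] using this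
  have hmone : mQ (BlockPrincipal81.oneChar C) = 1 := by
    have := hmQ (BlockPrincipal81.oneChar C)
    simp only [BlockPrincipal81.oneChar, map_one, Finset.sum_const, Finset.card_univ, nsmul_eq_mul,
      mul_one, ← Nat.card_eq_fintype_card] at this
    have h2 : (Nat.card Q' : ℕ) * 1 = Nat.card Q' * mQ (BlockPrincipal81.oneChar C) := by
      rw [mul_one]; exact_mod_cast this
    exact (Nat.eq_of_mul_eq_mul_left Nat.card_pos h2).symm
  have hlow : Nat.card Q ≤ ∑ ψ ∈ b0, dg ψ * dg ψ := by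
    have h2 : ∑ ψ ∈ b0, dg ψ * (Nat.card Q' * mQ ψ) = ∑ ψ ∈ b0, dg ψ * dg ψ := by
      exact_mod_cast hkey
    rw [← h2, ← hcard]
    refine le_trans ?_ (Finset.single_le_sum
      (f := fun ψ => dg ψ * (Nat.card Q' * mQ ψ)) (fun _ _ => Nat.zero_le _) hone)
    rw [hone1, hmone]; simp
  have hind : ∀ ψ ∈ b0,
      IsInducedBlock M C (blockOf M (ψ : C → ℂ)) (principalBlock M G) := by
    intro ψ hψ
    have hψ' := (Finset.mem_filter.1 hψ).2
    have hb : blockOf M (ψ : C → ℂ) = principalBlock M C :=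
      BlockTheoryIdem.block_eq_of_mem hM (BlockTheoryIdem.isPBlock_blockOf ψ)
        BlockPrincipal81.isPBlock_principal (BlockTheoryIdem.self_mem_blockOf hM ψ) hψ'
    obtain ⟨B, hB⟩ := BlockContribSection.exists_induced hH hM ha
      (BlockTheoryIdem.isPBlock_blockOf ψ)
    rwa [(ZStarSection.principal_iff_of_induced hM hB).1 hb] at hB
  unfold colSum
  rw [hsec, Complex.re_sum]
  refine le_trans (Nat.cast_le.2 hlow) ?_
  rw [Nat.cast_sum]
  refine le_trans (le_of_eq (Finset.sum_congr rfl fun ψ hψ => ?_))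
    (Finset.sum_le_sum_of_subset_of_nonneg (Finset.subset_univ b0) fun ψ _ _ => ?_)
  · rw [if_pos (hind ψ hψ), hdg, Complex.conj_natCast, ← Nat.cast_mul, Complex.natCast_re]
  · split_ifs
    · rw [hdg, Complex.conj_natCast, ← Nat.cast_mul, Complex.natCast_re]
      exact Nat.cast_nonneg _
    · simp

end Cfsg.Agent.ExtremelyClosedOdd6
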