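import Mathlib
import Cfsg.Agent.Lib.ExtremelyClosedOdd6Base
import Cfsg.Agent.Lib.ExtremelyClosedOdd6Char
import Cfsg.Agent.Lib.ClassAlgebraVal
import Cfsg.Agent.Lib.CharKernel

/-!
# The fixed space of an extremely closed abelian subgroup
-/

set_option autoImplicit false

open scoped ComplexConjugate

namespace Cfsg.Agent.ExtremelyClosedOdd6

open Subgroup Cfsg.Agent.CharBasic Cfsg.Agent.CharBasicOrth Cfsg.Agent.CharBasicDecomp

universe u

variable {G : Type u} [Group G] [Fintype G] {p : ℕ} [hp : Fact p.Prime] {H : Subgroup G}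
  [Fintype H]

omit hp in
/-- The sum over a subgroup is its order times a natural number. -/
theorem exists_sum_eq {χ : G → ℂ} (hχ : IsCharacter G χ) :
    ∃ m : ℕ, ∑ h : H, χ (h : G) = (Nat.card H : ℂ) * m := by
  obtain ⟨m, hm⟩ := ClassAlgebraVal.exists_sum_subgroup hχ H
  refine ⟨m, ?_⟩
  have := congrArg conj hm
  rw [map_sum, map_mul, Complex.conj_natCast, Complex.conj_natCast] at this
  rw [← this]
  simp

omit [Fintype H] hp in
theorem conj_mem_of_normalizer {n : G} (hn : n ∈ normalizer (H : Set G)) {b : G} (hb : b ∈ H) :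
    n * b * n⁻¹ ∈ H :=
  (mem_normalizer_iff.1 hn b).1 hb

omit hp in
/-- The product formula, summed over a subgroup. -/
theorem sum_sum_conj (χ : IrrCharacter G) :
    (χ : G → ℂ) 1 * ∑ g : G, ∑ a : H, ∑ b : H, (χ : G → ℂ) ((a : G) * (g * b * g⁻¹)) =
      (Nat.card G : ℂ) * (∑ h : H, (χ : G → ℂ) h) ^ 2 := by
  rw [sq, Finset.sum_mul_sum, Finset.mul_sum, Finset.mul_sum]
  simp only [Finset.mul_sum]
  rw [Finset.sum_comm]
  refine Finset.sum_congr rfl fun a _ => ?_
  rw [Finset.sum_comm]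
  refine Finset.sum_congr rfl fun b _ => ?_
  rw [← Finset.mul_sum]
  exact ClassAlgebraVal.sum_apply_mul_conj χ.2 (a : G) b

/-- The contribution of one conjugate. -/
theorem pair_estimate (hF : Fam p H) (χ : IrrCharacter G) (g : G) {d d1 : ℕ}
    (hd : (χ : G → ℂ) 1 = d) (hd1 : ∑ h : H, (χ : G → ℂ) h = (Nat.card H : ℂ) * d1) :
    (Nat.card H : ℝ) ^ 2 * ((p : ℝ) * d1 - d) ≤
      ((p : ℝ) - 1) * (∑ a : H, ∑ b : H, (χ : G → ℂ) ((a : G) * (g * b * g⁻¹))).re := by
  classical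
  obtain ⟨K, e, hP⟩ := hF.exists_pair g
  set T := H ⊔ cj g H with hT
  set HT := H.subgroupOf T with hHT
  set MT := (cj g H).subgroupOf T with hMT
  set KT := K.subgroupOf T with hKT
  letI : Fintype HT := Fintype.ofFinite _
  letI : Fintype MT := Fintype.ofFinite _
  letI : Fintype T := Fintype.ofFinite _
  have hKle : K ≤ T := hP.le_T
  have hsup : KT ⊔ HT = ⊤ := by
    rw [hKT, hHT, ← subgroupOf_sup hKle le_sup_left, hP.sup, subgroupOf_self]
  haveI : KT.Normal := by
    refine ⟨fun k hk t => ?_⟩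
    obtain ⟨s, hs, h, hh, he⟩ := exists_mul_of_mem_sup hP.normalized
      (show (t : G) ∈ K ⊔ H by rw [hP.sup]; exact t.2)
    rw [hKT, mem_subgroupOf] at hk ⊢
    push_cast
    rw [he, show s * h * (k : G) * (s * h)⁻¹ = s * (h * k * h⁻¹) * s⁻¹ by group]
    exact K.mul_mem (K.mul_mem hs ((mem_normalizer_iff.1 (hP.normalized hh) _).1 hk)) (K.inv_mem hs)
  have hres : IsCharacter T ((χ : G → ℂ) ∘ T.subtype) :=
    isCharacter_comap _ (isCharacter_of_isIrrCharacter χ.2)
  obtain ⟨m, -, hm⟩ := exists_mult hres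
  have hval : ∀ t : T, (χ : G → ℂ) t = ∑ η : IrrCharacter T, (m η : ℂ) * (η : T → ℂ) t := by
    intro t
    have := congrFun hm t
    simpa [Finset.sum_apply] using this
  -- the degree
  choose dg hdg0 hdg using fun η : IrrCharacter T => isIrrCharacter_apply_one η.2
  have hdsum : (d : ℝ) = ∑ η : IrrCharacter T, (m η : ℝ) * dg η := by
    have h1 := hval 1
    rw [OneMemClass.coe_one, hd] at h1
    simp only [hdg] at h1
    exact_mod_cast h1
  -- fixed points
  have hqd : (Nat.card H : ℝ) * d1 =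
      ∑ η : IrrCharacter T, (m η : ℝ) * (∑ h : HT, (η : T → ℂ) h).re := by
    have h1 : ∑ h : H, (χ : G → ℂ) h = ∑ h : HT, (χ : G → ℂ) ((h : T) : G) :=
      Fintype.sum_equiv (subgroupOfEquivOfLe (le_sup_left : H ≤ T)).symm.toEquiv _ _ fun h => rfl
    rw [hd1] at h1
    simp only [hval] at h1
    rw [Finset.sum_comm] at h1
    simp only [← Finset.mul_sum] at h1
    have h2 := congrArg Complex.re h1
    simpa [Complex.re_sum, Complex.mul_re] using h2
  -- the double sum
  set F : IrrCharacter T → ℂ := fun η => ∑ a : HT, ∑ b : MT, (η : T → ℂ) (a * b)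
  have hf : (∑ a : H, ∑ b : H, (χ : G → ℂ) ((a : G) * (g * b * g⁻¹))).re =
      ∑ η : IrrCharacter T, (m η : ℝ) * (F η).re := by
    have hbij : Function.Bijective
        (fun b : H => (⟨⟨g * b * g⁻¹, le_sup_right (a := H) (conj_mem_cj b.2)⟩,
          conj_mem_cj b.2⟩ : MT)) := by
      refine ⟨fun b b' hbb => Subtype.ext ?_, fun y => ⟨⟨g⁻¹ * (y : T) * g, mem_cj.1 y.2⟩, ?_⟩⟩
      · have := congrArg (fun y : MT => ((y : T) : G)) hbb
        simpa using this
      · exact Subtype.ext (Subtype.ext (by simp [mul_assoc]))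
    have h1 : ∑ a : H, ∑ b : H, (χ : G → ℂ) ((a : G) * (g * b * g⁻¹)) =
        ∑ a : HT, ∑ b : MT, (χ : G → ℂ) (((a * b : T)) : G) := by
      refine Fintype.sum_equiv (subgroupOfEquivOfLe (le_sup_left : H ≤ T)).symm.toEquiv _ _
        fun a => ?_
      exact Fintype.sum_bijective _ hbij _ _ fun b => rfl
    rw [h1]
    simp only [hval]
    have h2 : ∑ a : HT, ∑ b : MT, ∑ η : IrrCharacter T, (m η : ℂ) * (η : T → ℂ) (a * b) =
        ∑ η : IrrCharacter T, (m η : ℂ) * F η := by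
      simp only [F, Finset.mul_sum]
      rw [Finset.sum_congr rfl fun a _ => Finset.sum_comm, Finset.sum_comm]
    rw [h2]
    simp [Complex.re_sum, Complex.mul_re]
  have hq : Nat.card HT = Nat.card H :=
    Nat.card_congr (subgroupOfEquivOfLe (le_sup_left : H ≤ T)).toEquiv
  have hq' : Nat.card MT = Nat.card H := by
    rw [Nat.card_congr (subgroupOfEquivOfLe (le_sup_right : cj g H ≤ T)).toEquiv, cj,
      card_map_of_injective (MulAut.conj g).injective]
  set η₀ : IrrCharacter T := trivIrr T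
  have hF0 : (F η₀).re = (Nat.card H : ℝ) ^ 2 := by
    simp only [F, η₀, trivIrr, Finset.sum_const, Finset.card_univ, nsmul_eq_mul,
      ← Nat.card_eq_fintype_card, hq, hq', mul_one]
    rw [← Complex.ofReal_natCast, ← Complex.ofReal_mul, Complex.ofReal_re, sq]
  have hS0 : (∑ h : HT, (η₀ : T → ℂ) h).re = (Nat.card H : ℝ) := by
    simp only [η₀, trivIrr, Finset.sum_const, Finset.card_univ, nsmul_eq_mul,
      ← Nat.card_eq_fintype_card, hq, mul_one, Complex.natCast_re]
  have hdg0' : dg η₀ = 1 := by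
    have := (hdg η₀).symm
    simpa [η₀, trivIrr] using this
  have hother : ∀ η : IrrCharacter T, η ≠ η₀ →
      (p : ℝ) * (∑ h : HT, (η : T → ℂ) h).re ≤ (Nat.card H : ℝ) * dg η := by
    intro η hne
    have h1 := sum_le_of_complement (K := KT) (H := HT)
      (by rw [hKT, Nat.card_congr (subgroupOfEquivOfLe hKle).toEquiv]; exact hP.notDvd)
      (hF.pgroup.comap_of_injective T.subtype T.subtype_injective)
      (fun a ha b hb => Subtype.ext (hF.comm a ha b hb).eq) hsup
      (fun k hk hc => Subtype.ext (hP.inf (k : G) hk (mem_normalizer_of_conj fun s hs => by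
        have := congrArg Subtype.val (hc ⟨s, le_sup_left (b := cj g H) hs⟩ hs)
        push_cast at this
        rwa [← this, mul_inv_cancel_right])))
      η (fun e => hne (Subtype.ext e))
    rwa [hq, hdg η, Complex.natCast_re] at h1
  -- combine
  have hp1 : (1 : ℝ) ≤ p := by exact_mod_cast hp.out.one_le
  have hF_ge : (m η₀ : ℝ) * (Nat.card H : ℝ) ^ 2 ≤
      ∑ η : IrrCharacter T, (m η : ℝ) * (F η).re := by
    rw [← hF0]
    exact Finset.single_le_sum (f := fun η : IrrCharacter T => (m η : ℝ) * (F η).re)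
      (fun η _ => mul_nonneg (Nat.cast_nonneg _) (sum_sum_nonneg_re η HT MT)) (Finset.mem_univ η₀)
  have hm1 : (Nat.card H : ℝ) * ((p : ℝ) * d1 - d) ≤
      ((p : ℝ) - 1) * ((m η₀ : ℝ) * (Nat.card H : ℝ)) := by
    have h1 : ∑ η ∈ Finset.univ.erase η₀,
        (m η : ℝ) * ((p : ℝ) * (∑ h : HT, (η : T → ℂ) h).re) ≤
        ∑ η ∈ Finset.univ.erase η₀, (m η : ℝ) * ((Nat.card H : ℝ) * dg η) :=
      Finset.sum_le_sum fun η hη =>
        mul_le_mul_of_nonneg_left (hother η (Finset.ne_of_mem_erase hη)) (Nat.cast_nonneg _)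
    have h2 : ∑ η : IrrCharacter T, (m η : ℝ) * ((p : ℝ) * (∑ h : HT, (η : T → ℂ) h).re) =
        (p : ℝ) * ((Nat.card H : ℝ) * d1) := by
      rw [hqd, Finset.mul_sum]
      exact Finset.sum_congr rfl fun η _ => by ring
    have h3 : ∑ η : IrrCharacter T, (m η : ℝ) * ((Nat.card H : ℝ) * dg η) =
        (Nat.card H : ℝ) * d := by
      rw [hdsum, Finset.mul_sum]
      exact Finset.sum_congr rfl fun η _ => by ring
    rw [← Finset.add_sum_erase _ _ (Finset.mem_univ η₀), hS0] at h2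
    rw [← Finset.add_sum_erase _ _ (Finset.mem_univ η₀), hdg0', Nat.cast_one] at h3
    nlinarith [h1, h2, h3]
  rw [hf]
  calc (Nat.card H : ℝ) ^ 2 * ((p : ℝ) * d1 - d)
      = (Nat.card H : ℝ) * ((Nat.card H : ℝ) * ((p : ℝ) * d1 - d)) := by ring
    _ ≤ (Nat.card H : ℝ) * (((p : ℝ) - 1) * ((m η₀ : ℝ) * (Nat.card H : ℝ))) :=
        mul_le_mul_of_nonneg_left hm1 (Nat.cast_nonneg _)
    _ = ((p : ℝ) - 1) * ((m η₀ : ℝ) * (Nat.card H : ℝ) ^ 2) := by ring
    _ ≤ _ := mul_le_mul_of_nonneg_left hF_ge (by linarith)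

/-- A character with full fixed space is trivial. -/
theorem eq_one_of_sum_eq (hgen : ∀ N : Subgroup G, N.Normal → H ≤ N → N = ⊤)
    (χ : IrrCharacter G) {d : ℕ} (hd : (χ : G → ℂ) 1 = d)
    (hsum : (Nat.card H : ℝ) * d ≤ (∑ h : H, (χ : G → ℂ) h).re) :
    (χ : G → ℂ) = fun _ => 1 := by
  have hre : ∀ h : H, ((χ : G → ℂ) h).re ≤ d := fun h => by
    refine (Complex.re_le_norm _).trans
      ((isCharacter_norm_le (isCharacter_of_isIrrCharacter χ.2) _).trans ?_)
    rw [hd, Complex.natCast_re]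
  have heq : ∀ h : H, ((χ : G → ℂ) h).re = d := by
    intro h
    by_contra hne
    have : (∑ h : H, (χ : G → ℂ) h).re < ∑ _h : H, (d : ℝ) := by
      rw [Complex.re_sum]
      exact Finset.sum_lt_sum (fun i _ => hre i)
        ⟨h, Finset.mem_univ _, lt_of_le_of_ne (hre h) hne⟩
    rw [Finset.sum_const, Finset.card_univ, nsmul_eq_mul, ← Nat.card_eq_fintype_card] at this
    linarith
  have hker : H ≤ CharKernel.irrKer χ := by
    intro h hh
    rw [CharKernel.mem_irrKer, hd]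
    have h1 := heq ⟨h, hh⟩
    have h2 : ‖(χ : G → ℂ) h‖ ≤ (d : ℝ) := by
      have := isCharacter_norm_le (isCharacter_of_isIrrCharacter χ.2) h
      rwa [hd, Complex.natCast_re] at this
    have h3 : ((χ : G → ℂ) h).im = 0 := by
      have h4 := Complex.normSq_apply ((χ : G → ℂ) h)
      rw [Complex.normSq_eq_norm_sq] at h4
      have h5 : ((χ : G → ℂ) h).re = d := h1
      nlinarith [norm_nonneg ((χ : G → ℂ) h)]
    exact Complex.ext (by simpa using h1) (by simpa using h3)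
  have htop := hgen _ (CharKernel.irrKer_normal χ) hker
  have hconst : ∀ g : G, (χ : G → ℂ) g = d := fun g => by
    rw [← hd, ← CharKernel.mem_irrKer, htop]; trivial
  have h1 := classInner_irr_self χ.2
  rw [Cfsg.classInner] at h1
  simp only [hconst, Complex.conj_natCast, Finset.sum_const, Finset.card_univ, nsmul_eq_mul,
    ← Nat.card_eq_fintype_card] at h1
  rw [← mul_assoc, inv_mul_cancel₀ (Nat.cast_ne_zero.2 Nat.card_pos.ne'), one_mul] at h1
  have h2 : d * d = 1 := by exact_mod_cast h1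
  funext g
  rw [hconst, Nat.eq_one_of_mul_eq_one_right h2, Nat.cast_one]

/-- A nontrivial irreducible character has an `H`-fixed space of dimension at most `d/(p-1)`. -/
theorem fixed_bound (hF : Fam p H) (hgen : ∀ N : Subgroup G, N.Normal → H ≤ N → N = ⊤)
    (χ : IrrCharacter G) (hχ : (χ : G → ℂ) ≠ fun _ => 1) {d d1 : ℕ}
    (hd : (χ : G → ℂ) 1 = d) (hd1 : ∑ h : H, (χ : G → ℂ) h = (Nat.card H : ℂ) * d1) :
    ((p : ℝ) - 1) * d1 ≤ d := by
  have hdpos : (0 : ℝ) < d := by
    obtain ⟨n, hn0, hn⟩ := isIrrCharacter_apply_one χ.2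
    rw [hd, Nat.cast_inj] at hn
    exact_mod_cast hn ▸ hn0
  have h1 : ∀ g : G, (Nat.card H : ℝ) ^ 2 * ((p : ℝ) * d1 - d) ≤
      ((p : ℝ) - 1) * (∑ a : H, ∑ b : H, (χ : G → ℂ) ((a : G) * (g * b * g⁻¹))).re :=
    fun g => pair_estimate hF χ g hd hd1
  have h2 := Finset.sum_le_sum (s := Finset.univ) fun g _ => h1 g
  rw [Finset.sum_const, Finset.card_univ, nsmul_eq_mul, ← Nat.card_eq_fintype_card, ← Finset.mul_sum,
    ← Complex.re_sum] at h2
  have h3 := congrArg Complex.re (sum_sum_conj (H := H) χ)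
  rw [hd, hd1] at h3
  have h4 : (d : ℝ) * (∑ g : G, ∑ a : H, ∑ b : H, (χ : G → ℂ) ((a : G) * (g * b * g⁻¹))).re =
      (Nat.card G : ℝ) * ((Nat.card H : ℝ) * d1) ^ 2 := by
    rw [← Complex.re_ofReal_mul, Complex.ofReal_natCast, h3]
    norm_cast
  have hG : (0 : ℝ) < Nat.card G := Nat.cast_pos.2 Nat.card_pos
  have hq : (0 : ℝ) < Nat.card H := Nat.cast_pos.2 Nat.card_pos
  have h5 : (d : ℝ) * ((p : ℝ) * d1 - d) ≤ ((p : ℝ) - 1) * (d1 : ℝ) ^ 2 := by
    have := mul_le_mul_of_nonneg_left h2 hdpos.le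
    rw [← mul_assoc (d : ℝ) ((p : ℝ) - 1), mul_comm (d : ℝ) ((p : ℝ) - 1),
      mul_assoc ((p : ℝ) - 1), h4] at this
    refine le_of_mul_le_mul_left ?_ (mul_pos hG (pow_pos hq 2))
    nlinarith [this]
  by_contra hlt
  push Not at hlt
  have h6 : (d : ℝ) ≤ d1 := by nlinarith [h5, hlt]
  refine hχ (eq_one_of_sum_eq hgen χ hd ?_)
  rw [hd1, ← Complex.ofReal_natCast, Complex.re_ofReal_mul, Complex.natCast_re]
  exact mul_le_mul_of_nonneg_left h6 hq.le

end Cfsg.Agent.ExtremelyClosedOdd6
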