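import Mathlib
import Cfsg.Agent.Lib.ExtremelyClosedOdd6Block
import Cfsg.Agent.Lib.ExtremelyClosedOdd6Bound
import Cfsg.Agent.S3021

/-!
# The core case: trivial `O_{p'}`
-/

set_option autoImplicit false

open scoped ComplexConjugate

namespace Cfsg.Agent.ExtremelyClosedOdd6

open Subgroup Cfsg.Agent.CharBasic Cfsg.Agent.CharBasicOrth

attribute [local instance] Classical.propDecidable

universe u

variable {G : Type u} [Group G] [Fintype G] {p : ℕ} {M : Ideal AlgInt}

theorem arith_stage_one {P q J : ℝ} {P' : ℝ} (hP : 3 ≤ P) (hP' : P * q ≤ P') (hq : P ≤ q)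
    (hJ : (q - 1) * P' ≤ J)
    (h : J * (q * (P - 2) - (P - 1)) < (q - 1) ^ 2 * (q * (P - 2))) : False := by
  have hpos : 0 ≤ q * (P - 2) - (P - 1) := by nlinarith
  have h1 : (q - 1) * (P * q) * (q * (P - 2) - (P - 1)) < (q - 1) ^ 2 * (q * (P - 2)) := by
    refine lt_of_le_of_lt ?_ h
    refine mul_le_mul_of_nonneg_right (le_trans ?_ hJ) hpos
    exact mul_le_mul_of_nonneg_left hP' (by linarith)
  have h2 : (q - 1) * q * (P * (q * (P - 2) - (P - 1)) - (q - 1) * (P - 2)) < 0 := by nlinarith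
  have h3 : 0 ≤ P * (q * (P - 2) - (P - 1)) - (q - 1) * (P - 2) := by
    nlinarith [mul_nonneg (sub_nonneg.2 hP) (sub_nonneg.2 hq)]
  nlinarith [mul_nonneg (mul_nonneg (show (0:ℝ) ≤ q - 1 by linarith) (show (0:ℝ) ≤ q by linarith)) h3]

theorem arith_stage_two {P q J m : ℝ} (hP : 3 ≤ P) (hq : P ≤ q) (hm : q * (P - 1) ≤ P * m)
    (hJ : q * (q - 1 + m) ≤ J)
    (h : J * (q * (P - 2) - (P - 1)) < (q - 1) ^ 2 * (q * (P - 2))) : False := by
  have hpos : 0 ≤ q * (P - 2) - (P - 1) := by nlinarith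
  have hq0 : 0 < q := by linarith
  have h1 : P * (q * (q - 1 + m)) * (q * (P - 2) - (P - 1)) <
      P * ((q - 1) ^ 2 * (q * (P - 2))) := by
    rw [mul_assoc]
    refine mul_lt_mul_of_pos_left (lt_of_le_of_lt ?_ h) (by linarith)
    exact mul_le_mul_of_nonneg_right hJ hpos
  have h2 : q * (P * (q - 1) + q * (P - 1)) * (q * (P - 2) - (P - 1)) ≤
      P * (q * (q - 1 + m)) * (q * (P - 2) - (P - 1)) := by
    refine mul_le_mul_of_nonneg_right ?_ hpos
    nlinarith
  have h3 : q * ((P * (q - 1) + q * (P - 1)) * (q * (P - 2) - (P - 1)) -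
      P * ((q - 1) ^ 2 * (P - 2))) < 0 := by nlinarith
  have h5 : q - 2 ≤ q * (P - 2) - (P - 1) := by nlinarith [mul_nonneg (sub_nonneg.2 hP) (sub_nonneg.2 (show (1:ℝ) ≤ q by linarith))]
  have h6 : P * (q - 1) ≤ (q - 2) * (q * (P - 1)) := by
    nlinarith [mul_nonneg (sub_nonneg.2 hP) (sub_nonneg.2 hq), mul_nonneg (mul_nonneg (sub_nonneg.2 hP) (sub_nonneg.2 hq)) hq0.le]
  have h4 : 0 ≤ (P * (q - 1) + q * (P - 1)) * (q * (P - 2) - (P - 1)) -
      P * ((q - 1) ^ 2 * (P - 2)) := by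
    nlinarith [mul_le_mul_of_nonneg_right h5 (show (0:ℝ) ≤ q * (P - 1) by nlinarith)]
  nlinarith [mul_nonneg hq0.le h4]

variable [hp : Fact p.Prime] {H : Subgroup G} [Fintype H]

/-- The nonidentity elements of `H`. -/
noncomputable def sharp (H : Subgroup G) [Fintype H] : Finset G :=
  (Finset.univ : Finset G).filter fun x => x ∈ H ∧ x ≠ 1

omit hp in
theorem mem_sharp {x : G} : x ∈ sharp H ↔ x ∈ H ∧ x ≠ 1 := by simp [sharp]

omit hp in
theorem card_sharp : ((sharp H).card : ℝ) = (Nat.card H : ℝ) - 1 := by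
  have : (sharp H).card + 1 = Nat.card H := by
    have h1 : insert (1 : G) (sharp H) = (Finset.univ : Finset G).filter (· ∈ H) := by
      ext x
      simp only [Finset.mem_insert, mem_sharp, Finset.mem_filter, Finset.mem_univ, true_and]
      constructor
      · rintro (rfl | h)
        · exact H.one_mem
        · exact h.1
      · exact fun h => (em (x = 1)).imp id fun h1 => ⟨h, h1⟩
    rw [← Finset.card_insert_of_notMem (a := (1 : G)) (by simp [mem_sharp]), h1,
      Nat.card_eq_fintype_card]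
    exact (Fintype.card_of_subtype _ (fun x => by simp)).symm
  rw [← this]; push_cast; ring

omit hp in
theorem sum_sharp (f : G → ℂ) : ∑ x ∈ sharp H, f x = ∑ h : H, f h - f 1 := by
  rw [eq_sub_iff_add_eq, add_comm, ← Finset.sum_insert (by simp [mem_sharp])]
  refine Finset.sum_subtype _ (fun x => ?_) f
  simp only [Finset.mem_insert, mem_sharp]
  exact ⟨fun h => h.elim (fun e => e ▸ H.one_mem) And.left,
    fun h => (em (x = 1)).imp id fun h1 => ⟨h, h1⟩⟩

theorem isPEl_of_mem_pGroup {Q : Subgroup G} (hQ : IsPGroup p Q) {a : G} (ha : a ∈ Q) :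
    ∃ k, orderOf a = p ^ k := by
  obtain ⟨k, hk⟩ := IsPGroup.iff_orderOf.1 hQ ⟨a, ha⟩
  exact ⟨k, by rw [← hk, Subgroup.orderOf_mk]⟩

theorem dvd_orderOf_of_mem_sharp (hH : IsPGroup p H) {a : G} (ha : a ∈ sharp H) :
    p ∣ orderOf a := by
  rw [mem_sharp] at ha
  obtain ⟨k, hk⟩ := isPEl_of_mem_pGroup hH ha.1
  rw [hk]
  refine dvd_pow_self p fun h => ha.2 ?_
  rw [h, pow_zero, orderOf_eq_one_iff] at hk
  exact hk

/-- The product formula in the block, for one conjugate. -/
theorem sum_pair_colSum (hF : Fam p H) (hM : IsPModular p M)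
    (hloc : ∀ a ∈ H, a ≠ 1 → ∃ W, Local p H (centralizer ({a} : Set G)) W) (g : G) {w : G}
    (hw : w ∈ sharp H) :
    ∑ a ∈ sharp H, ∑ b ∈ sharp H, colSum M (a * (g * b * g⁻¹)) w =
      ((Nat.card H : ℂ) - 2) * ∑ c ∈ sharp H, colSum M c w := by
  obtain ⟨n, hn, -, hprod⟩ := product_conj hF g
  set F : G → ℂ := fun c => colSum M c w
  have hval : ∀ a ∈ H, ∀ b ∈ H, colSum M (a * (g * b * g⁻¹)) w =
      if a * (n * b * n⁻¹) = 1 then 0 else F (a * (n * b * n⁻¹)) := by
    intro a ha b hb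
    split_ifs with h1
    · exact colSum_regular_singular hM ((hprod a ha b hb).1 h1)
        (dvd_orderOf_of_mem_sharp hF.pgroup hw)
    · have hcH : a * (n * b * n⁻¹) ∈ H := H.mul_mem ha ((mem_normalizer_iff.1 hn b).1 hb)
      obtain ⟨W, hW⟩ := hloc _ hcH h1
      obtain ⟨x, u, hu, he⟩ := (hprod a ha b hb).2 h1 W hW
      refine Finset.sum_congr rfl fun χ _ => ?_
      split_ifs with hχ
      · congr 1
        rw [← irr_conj' χ x, he]
        refine ZStarPrincipal.apply_eq_of_mem hM (isPEl_of_mem_pGroup hF.pgroup hcH)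
          (K := W) ?_ hW.notDvd ?_ hχ hu
        · intro k hk
          exact (mem_centralizer_singleton_iff.1 (hW.le hk)).symm
        · intro y hy k hk
          exact (mem_normalizer_iff.1
            (hW.normalized (mem_centralizer_singleton_iff.2 hy.eq.symm)) k).1 hk
      · rfl
  have hre : ∀ a ∈ sharp H, ∑ b ∈ sharp H, colSum M (a * (g * b * g⁻¹)) w =
      ∑ c ∈ (sharp H).erase a, F c := by
    intro a ha
    have haH := (mem_sharp.1 ha).1
    rw [Finset.sum_congr rfl fun b hb => hval a haH b (mem_sharp.1 hb).1]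
    have hmem : ∀ b ∈ sharp H, a * (n * b * n⁻¹) ∈ H := fun b hb =>
      H.mul_mem haH ((mem_normalizer_iff.1 hn b).1 (mem_sharp.1 hb).1)
    rw [← Finset.sum_filter_ne_zero]
    rw [show ∑ c ∈ (sharp H).erase a, F c = ∑ c ∈ ((sharp H).erase a).filter (fun c => F c ≠ 0), F c
      from (Finset.sum_filter_ne_zero _).symm]
    refine Finset.sum_bij (fun b _ => a * (n * b * n⁻¹)) ?_ ?_ ?_ ?_
    · intro b hb
      rw [Finset.mem_filter] at hb ⊢
      obtain ⟨hb, hne⟩ := hb
      by_cases h1 : a * (n * b * n⁻¹) = 1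
      · exact absurd (if_pos h1) hne
      rw [if_neg h1] at hne
      refine ⟨Finset.mem_erase.2 ⟨fun e => (mem_sharp.1 hb).2 ?_, mem_sharp.2 ⟨hmem b hb, h1⟩⟩, hne⟩
      have h2 : n * b * n⁻¹ = 1 := mul_eq_left.1 e
      exact conj_eq_one_iff.1 h2
    · intro b₁ _ b₂ _ e
      simpa using e
    · intro c hc
      rw [Finset.mem_filter, Finset.mem_erase, mem_sharp] at hc
      obtain ⟨⟨hca, hcH, hc1⟩, hFc⟩ := hc
      have e : a * (n * (n⁻¹ * (a⁻¹ * c) * n) * n⁻¹) = c := by group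
      have hbH : n⁻¹ * (a⁻¹ * c) * n ∈ H := by
        refine (mem_normalizer_iff.1 hn _).2 ?_
        rw [show n * (n⁻¹ * (a⁻¹ * c) * n) * n⁻¹ = a⁻¹ * c by group]
        exact H.mul_mem (H.inv_mem haH) hcH
      refine ⟨n⁻¹ * (a⁻¹ * c) * n, Finset.mem_filter.2 ⟨mem_sharp.2 ⟨hbH, fun h => hca ?_⟩, ?_⟩, e⟩
      · rw [← e, h]; group
      · rw [e, if_neg hc1]; exact hFc
    · intro b hb
      rw [Finset.mem_filter] at hb
      rw [if_neg fun h1 => hb.2 (if_pos h1)]
  rw [Finset.sum_congr rfl hre]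
  rw [Finset.sum_congr rfl fun a ha => Finset.sum_erase_eq_sub ha, Finset.sum_sub_distrib,
    Finset.sum_const, nsmul_eq_mul]
  have : ((sharp H).card : ℂ) = (Nat.card H : ℂ) - 1 := by
    have h := card_sharp (H := H)
    exact_mod_cast congrArg (fun r : ℝ => (r : ℂ)) h
  rw [this]; ring

/-- If `O_{p'}(G) = 1` then `H = G`. -/
theorem core_one (hF : Fam p H) (hp2 : p ≠ 2) (hHne : H ≠ ⊥)
    (hgen : ∀ N : Subgroup G, N.Normal → H ≤ N → N = ⊤)
    (hloc : ∀ a ∈ H, a ≠ 1 → ∃ W, Local p H (centralizer ({a} : Set G)) W)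
    (hO : pPrimeCore p G = ⊥) : H = ⊤ := by
  obtain ⟨M, hM⟩ := ZStarCount.exists_isPModular p hp.out
  set B0 := (Finset.univ : Finset (IrrCharacter G)).filter fun χ => χ ∈ principalBlock M G with hB0
  have hcol : ∀ x y : G, colSum M x y = ∑ χ ∈ B0, (χ : G → ℂ) x * conj ((χ : G → ℂ) y) :=
    fun x y => by rw [hB0, Finset.sum_filter]; rfl
  choose dg hdg0 hdg using fun χ : IrrCharacter G => isIrrCharacter_apply_one χ.2
  choose d1 hd1 using fun χ : IrrCharacter G =>
    exists_sum_eq (H := H) (isCharacter_of_isIrrCharacter χ.2)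
  set q : ℝ := (Nat.card H : ℝ) with hq
  set s : IrrCharacter G → ℝ := fun χ => q * d1 χ - dg χ with hs
  have hS : ∀ χ : IrrCharacter G, ∑ a ∈ sharp H, (χ : G → ℂ) a = (s χ : ℂ) := by
    intro χ
    rw [sum_sharp, hd1, hdg, hs, hq]
    push_cast
    rfl
  have hSconj : ∀ χ : IrrCharacter G, ∑ a ∈ sharp H, conj ((χ : G → ℂ) a) = (s χ : ℂ) := fun χ => by
    rw [← map_sum, hS, Complex.conj_ofReal]
  -- the second moment
  set J : ℝ := ∑ χ ∈ B0, s χ ^ 2 with hJ
  have hJcol : ∑ c ∈ sharp H, ∑ w ∈ sharp H, colSum M c w = (J : ℂ) := by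
    simp only [hcol]
    rw [Finset.sum_congr rfl fun c _ => Finset.sum_comm, Finset.sum_comm]
    simp only [← Finset.sum_mul_sum, hS, hSconj, hJ]
    push_cast
    exact Finset.sum_congr rfl fun χ _ => by ring
  -- the third moment
  have hE : ∑ χ ∈ B0, s χ ^ 3 / dg χ = (q - 2) * J := by
    have h1 : ∀ g : G, ∑ χ ∈ B0,
        (∑ a ∈ sharp H, ∑ b ∈ sharp H, (χ : G → ℂ) (a * (g * b * g⁻¹))) * (s χ : ℂ) =
        (((q - 2) * J : ℝ) : ℂ) := by
      intro g
      have h2 : ∀ w ∈ sharp H, ∑ a ∈ sharp H, ∑ b ∈ sharp H, colSum M (a * (g * b * g⁻¹)) w =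
          ((Nat.card H : ℂ) - 2) * ∑ c ∈ sharp H, colSum M c w := fun w hw =>
        sum_pair_colSum hF hM hloc g hw
      push_cast
      rw [← hJcol, hq, Complex.ofReal_natCast, Finset.sum_comm (s := sharp H) (t := sharp H),
        Finset.mul_sum, ← Finset.sum_congr rfl h2]
      simp only [hcol, ← hSconj, Finset.sum_mul, Finset.mul_sum]
      rw [Finset.sum_comm (s := B0)]
      refine Finset.sum_congr rfl fun w _ => ?_
      rw [Finset.sum_comm]
      refine Finset.sum_congr rfl fun a _ => ?_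
      rw [Finset.sum_comm]
    have h3 := Finset.sum_congr rfl fun g (_ : g ∈ (Finset.univ : Finset G)) => h1 g
    rw [Finset.sum_const, Finset.card_univ, nsmul_eq_mul, ← Nat.card_eq_fintype_card,
      Finset.sum_comm] at h3
    have h4 : ∀ χ : IrrCharacter G, ∑ g : G,
        (∑ a ∈ sharp H, ∑ b ∈ sharp H, (χ : G → ℂ) (a * (g * b * g⁻¹))) * (s χ : ℂ) =
        (Nat.card G : ℂ) * (((s χ ^ 3 / dg χ : ℝ)) : ℂ) := by
      intro χ
      have h5 : (χ : G → ℂ) 1 * ∑ g : G, ∑ a ∈ sharp H, ∑ b ∈ sharp H,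
          (χ : G → ℂ) (a * (g * b * g⁻¹)) = (Nat.card G : ℂ) * ((s χ : ℂ) * (s χ : ℂ)) := by
        rw [← hS, Finset.sum_mul_sum, Finset.mul_sum, Finset.mul_sum]
        simp only [Finset.mul_sum]
        rw [Finset.sum_comm]
        refine Finset.sum_congr rfl fun a _ => ?_
        rw [Finset.sum_comm]
        refine Finset.sum_congr rfl fun b _ => ?_
        rw [← Finset.mul_sum]
        exact ClassAlgebraVal.sum_apply_mul_conj χ.2 a b
      rw [← Finset.sum_mul]
      push_cast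
      rw [← mul_div_assoc, eq_div_iff (Nat.cast_ne_zero.2 (hdg0 χ).ne'), ← hdg χ,
        mul_comm (_ * _) ((χ : G → ℂ) 1), ← mul_assoc, h5]
      ring
    rw [Finset.sum_congr rfl fun χ _ => h4 χ, ← Finset.mul_sum] at h3
    have h6 := mul_left_cancel₀ (Nat.cast_ne_zero.2 Nat.card_pos.ne') h3
    rw [← Complex.ofReal_sum] at h6
    exact Complex.ofReal_injective h6
  -- first moment
  have hD : ∑ χ ∈ B0, (dg χ : ℝ) * s χ = 0 := by
    have h1 : ∑ χ ∈ B0, ((dg χ : ℂ) * (s χ : ℂ)) = 0 := by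
      simp only [← hSconj, Finset.mul_sum, ← hdg]
      rw [Finset.sum_comm]
      refine Finset.sum_eq_zero fun w hw => ?_
      rw [← hcol]
      exact colSum_regular_singular hM (by simp [hp.out.ne_one]) (dvd_orderOf_of_mem_sharp hF.pgroup hw)
    exact_mod_cast h1
  -- the trivial character
  set χ₀ := BlockPrincipal81.oneChar G with hχ₀
  have hmem : χ₀ ∈ B0 := Finset.mem_filter.2 ⟨Finset.mem_univ _, BlockPrincipal81.oneChar_mem hM⟩
  have hdg₀ : dg χ₀ = 1 := by
    have := (hdg χ₀).symm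
    simpa [hχ₀, BlockPrincipal81.oneChar] using this
  have hd1₀ : d1 χ₀ = 1 := by
    have h := hd1 χ₀
    simp only [hχ₀, BlockPrincipal81.oneChar, map_one, Finset.sum_const, Finset.card_univ, nsmul_eq_mul,
      mul_one, ← Nat.card_eq_fintype_card] at h
    have h2 : Nat.card H * 1 = Nat.card H * d1 χ₀ := by rw [mul_one]; exact_mod_cast h
    exact (Nat.eq_of_mul_eq_mul_left Nat.card_pos h2).symm
  have hs₀ : s χ₀ = q - 1 := by simp [hs, hdg₀, hd1₀]
  have hbound : ∀ χ ∈ B0.erase χ₀, ((p : ℝ) - 1) * s χ ≤ (q - ((p : ℝ) - 1)) * dg χ := by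
    intro χ hχ
    have h1 := fixed_bound hF hgen χ
      (fun e => (Finset.ne_of_mem_erase hχ) (Subtype.ext e)) (hdg χ) (hd1 χ)
    have hq0 : 0 ≤ q := Nat.cast_nonneg _
    simp only [hs]
    nlinarith [mul_le_mul_of_nonneg_left h1 hq0]
  -- sizes
  have hpq : p ≤ Nat.card H := by
    obtain ⟨k, hk⟩ := IsPGroup.iff_card.1 hF.pgroup
    have hk0 : k ≠ 0 := fun h => hHne (Subgroup.card_eq_one.1 (by rw [hk, h, pow_zero]))
    rw [hk]
    exact Nat.le_self_pow hk0 p
  have hP3 : (3 : ℝ) ≤ p := by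
    have h3 : 3 ≤ p := by
      have := hp.out.two_le
      omega
    exact_mod_cast h3
  have hq3 : (p : ℝ) ≤ q := by rw [hq]; exact_mod_cast hpq
  -- some character has negative `s`
  obtain ⟨χ₁, hχ₁, hneg⟩ : ∃ χ ∈ B0.erase χ₀, s χ < 0 := by
    by_contra hc
    push Not at hc
    have h1 : (0 : ℝ) ≤ ∑ χ ∈ B0.erase χ₀, (dg χ : ℝ) * s χ :=
      Finset.sum_nonneg fun χ hχ => mul_nonneg (Nat.cast_nonneg _) (hc χ hχ)
    rw [← Finset.add_sum_erase _ _ hmem, hdg₀, hs₀, Nat.cast_one, one_mul] at hD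
    linarith
  have hterm : 0 < ∑ χ ∈ B0.erase χ₀,
      s χ ^ 2 / dg χ * ((q - ((p : ℝ) - 1)) * dg χ - ((p : ℝ) - 1) * s χ) := by
    refine Finset.sum_pos' (fun χ hχ => mul_nonneg (by positivity)
      (sub_nonneg.2 (hbound χ hχ))) ⟨χ₁, hχ₁, mul_pos ?_ ?_⟩
    · have : (0 : ℝ) < dg χ₁ := Nat.cast_pos.2 (hdg0 χ₁)
      have : 0 < s χ₁ ^ 2 := sq_pos_of_neg hneg
      positivity
    · have h1 : (0 : ℝ) ≤ (q - ((p : ℝ) - 1)) * dg χ₁ :=
        mul_nonneg (by linarith) (Nat.cast_nonneg _)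
      nlinarith
  have hineq : J * (q * ((p : ℝ) - 2) - ((p : ℝ) - 1)) < (q - 1) ^ 2 * (q * ((p : ℝ) - 2)) := by
    have h1 : ∑ χ ∈ B0.erase χ₀,
        s χ ^ 2 / dg χ * ((q - ((p : ℝ) - 1)) * dg χ - ((p : ℝ) - 1) * s χ) =
        (q - ((p : ℝ) - 1)) * (∑ χ ∈ B0.erase χ₀, s χ ^ 2) -
          ((p : ℝ) - 1) * ∑ χ ∈ B0.erase χ₀, s χ ^ 3 / dg χ := by
      rw [Finset.mul_sum, Finset.mul_sum, ← Finset.sum_sub_distrib]
      refine Finset.sum_congr rfl fun χ _ => ?_
      have : (dg χ : ℝ) ≠ 0 := Nat.cast_ne_zero.2 (hdg0 χ).ne'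
      field_simp
    have h2 : ∑ χ ∈ B0.erase χ₀, s χ ^ 2 = J - (q - 1) ^ 2 := by
      rw [hJ, ← Finset.add_sum_erase _ _ hmem, hs₀]; ring
    have h3 : ∑ χ ∈ B0.erase χ₀, s χ ^ 3 / dg χ = (q - 2) * J - (q - 1) ^ 3 := by
      rw [← hE, ← Finset.add_sum_erase (f := fun χ => s χ ^ 3 / (dg χ : ℝ)) _ hmem, hs₀, hdg₀]
      simp
    rw [h1, h2, h3] at hterm
    nlinarith
  -- the lower bounds for `J`
  have hJre : J = ∑ c ∈ sharp H, ∑ w ∈ sharp H, (colSum M c w).re := by
    have := congrArg Complex.re hJcol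
    rw [Complex.re_sum, Complex.ofReal_re] at this
    rw [← this]
    exact Finset.sum_congr rfl fun c _ => Complex.re_sum _ _
  set k : G → Finset G := fun c => (sharp H).filter fun w => IsConj c w with hk
  have hinner : ∀ c ∈ sharp H, ∀ Q : Subgroup G, IsPGroup p Q → (∀ x ∈ Q, Commute c x) →
      ((k c).card : ℝ) * (Nat.card Q : ℝ) ≤ ∑ w ∈ sharp H, (colSum M c w).re := by
    intro c hc Q hQ hQc
    have hpel : ∀ w ∈ sharp H, ∃ j, orderOf w = p ^ j := fun w hw =>
      isPEl_of_mem_pGroup hF.pgroup (mem_sharp.1 hw).1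
    rw [← Finset.sum_filter_add_sum_filter_not (sharp H) (fun w => IsConj c w)]
    rw [Finset.sum_eq_zero (s := (sharp H).filter fun w => ¬ IsConj c w) (fun w hw => by
      rw [Finset.mem_filter] at hw
      rw [colSum_eq_zero hM (hpel c hc) (hpel w hw.1) hw.2, Complex.zero_re]), add_zero,
      ← nsmul_eq_mul]
    refine Finset.card_nsmul_le_sum _ _ _ fun w hw => ?_
    have hw' := (Finset.mem_filter.1 hw).2
    have : colSum M c w = colSum M c c := by
      refine Finset.sum_congr rfl fun χ _ => ?_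
      rw [apply_eq_of_isConj (irr_classFn χ) hw']
    rw [this]
    exact card_le_colSum hM (hpel c hc) hQ hQc
  -- a Sylow subgroup through `H`
  obtain ⟨P, hHP⟩ := hF.pgroup.exists_le_sylow
  have hPN : (P : Subgroup G) ≤ normalizer (H : Set G) :=
    S3021.le_normalizer_of_le hF.closed P.2 hHP
  obtain ⟨a₀, ha₀⟩ : ∃ a, a ∈ sharp H := by
    obtain ⟨a, ha, hne⟩ := H.bot_or_exists_ne_one.resolve_left hHne
    exact ⟨a, mem_sharp.2 ⟨ha, hne⟩⟩
  by_cases hPH : (P : Subgroup G) = H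
  swap
  · exfalso
    have hlt : p * Nat.card H ≤ Nat.card (P : Subgroup G) := by
      obtain ⟨i, hi⟩ := IsPGroup.iff_card.1 hF.pgroup
      obtain ⟨j, hj⟩ := IsPGroup.iff_card.1 P.2
      have hlt : Nat.card H < Nat.card (P : Subgroup G) := by
        refine lt_of_le_of_ne (Subgroup.card_le_of_le hHP) fun h => hPH ?_
        exact (Subgroup.eq_of_le_of_card_ge hHP h.ge).symm
      rw [hi, hj] at hlt ⊢
      rw [← pow_succ']
      exact Nat.pow_le_pow_right hp.out.pos ((Nat.pow_lt_pow_iff_right hp.out.one_lt).1 hlt)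
    refine arith_stage_one (P' := (Nat.card (P : Subgroup G) : ℝ)) hP3 ?_ hq3 ?_ hineq
    · rw [hq]; exact_mod_cast hlt
    · rw [hJre, ← card_sharp (H := H), ← nsmul_eq_mul]
      refine Finset.card_nsmul_le_sum _ _ _ fun c hc => ?_
      set Q := (P : Subgroup G) ⊓ centralizer ({c} : Set G) with hQ
      refine le_trans ?_ (hinner c hc Q (P.2.to_le inf_le_left)
        fun x hx => (mem_centralizer_singleton_iff.1 hx.2).symm)
      rw [← Nat.cast_mul, Nat.cast_le]
      set Pf := (Finset.univ : Finset G).filter (· ∈ (P : Subgroup G)) with hPf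
      have hcardP : Pf.card = Nat.card (P : Subgroup G) := by
        rw [Nat.card_eq_fintype_card]
        exact (Fintype.card_of_subtype _ (fun x => by simp [hPf])).symm
      rw [← hcardP, mul_comm]
      refine Finset.card_le_mul_card_image_of_maps_to (f := fun x => x * c * x⁻¹)
        (t := k c) (fun x hx => ?_) _ fun w hw => ?_
      · rw [hPf, Finset.mem_filter] at hx
        refine Finset.mem_filter.2 ⟨mem_sharp.2 ⟨(mem_normalizer_iff.1 (hPN hx.2) c).1
          (mem_sharp.1 hc).1, fun e => (mem_sharp.1 hc).2 (conj_eq_one_iff.1 e)⟩, ?_⟩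
        exact isConj_iff.2 ⟨x, rfl⟩
      · by_cases hne : ((Pf.filter fun x => x * c * x⁻¹ = w)).Nonempty
        · obtain ⟨x₀, hx₀⟩ := hne
          rw [Finset.mem_filter, hPf, Finset.mem_filter] at hx₀
          have hQcard : ((Finset.univ : Finset G).filter (· ∈ Q)).card = Nat.card Q := by
            rw [Nat.card_eq_fintype_card]
            exact (Fintype.card_of_subtype _ (fun x => by simp)).symm
          rw [← hQcard]
          refine Finset.card_le_card_of_injOn (fun x => x₀⁻¹ * x) ?_ ?_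
          · intro x hx
            simp only [Finset.mem_coe, Finset.mem_filter, hPf, Finset.mem_univ, true_and] at hx
            simp only [Finset.mem_coe, Finset.mem_filter, Finset.mem_univ, true_and, hQ,
              Subgroup.mem_inf, mem_centralizer_singleton_iff]
            refine ⟨mul_mem (inv_mem hx₀.1.2) hx.1, ?_⟩
            have e := hx.2.trans hx₀.2.symm
            calc x₀⁻¹ * x * c = x₀⁻¹ * (x * c * x⁻¹) * x := by group
              _ = c * (x₀⁻¹ * x) := by rw [e]; group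
          · intro x _ y _ e
            exact mul_left_cancel e
        · rw [Finset.not_nonempty_iff_eq_empty.1 hne]; simp
  -- the Sylow subgroup is `H`
  by_cases hcentral : normalizer (H : Set G) ≤ centralizer (H : Set G)
  · have hnc : normalizer (P : Set G) ≤ centralizer (P : Set G) := by
      show normalizer ((P : Subgroup G) : Set G) ≤ centralizer ((P : Subgroup G) : Set G)
      rw [hPH]
      exact hcentral
    have hcompl := MonoidHom.ker_transferSylow_isComplement' P hnc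
    have hkerbot : (MonoidHom.transferSylow P hnc).ker = ⊥ := by
      rw [eq_bot_iff, ← hO]
      refine HallCore.le_pPrimeCore ((Nat.Prime.coprime_iff_not_dvd hp.out).2 ?_).symm
      exact MonoidHom.not_dvd_card_ker_transferSylow P hnc
    rw [hkerbot, Subgroup.isComplement'_bot_left] at hcompl
    rw [← hPH]; exact hcompl
  exfalso
  obtain ⟨n, hn, hnc⟩ := SetLike.not_le_iff_exists.1 hcentral
  obtain ⟨b₀, hb₀, hb₀n⟩ : ∃ b ∈ H, b * n ≠ n * b := by
    by_contra hc
    push Not at hc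
    exact hnc (mem_centralizer_iff.2 fun b hb => hc b hb)
  set F₀ : Subgroup G := H ⊓ centralizer ({n} : Set G) with hF₀
  have hF₀lt : p * Nat.card F₀ ≤ Nat.card H := by
    obtain ⟨i, hi⟩ := IsPGroup.iff_card.1 hF.pgroup
    obtain ⟨j, hj⟩ := IsPGroup.iff_card.1 (hF.pgroup.to_le (inf_le_left : F₀ ≤ H))
    have hlt : Nat.card F₀ < Nat.card H := by
      refine lt_of_le_of_ne (Subgroup.card_le_of_le inf_le_left) fun h => hb₀n ?_
      have := (Subgroup.eq_of_le_of_card_ge inf_le_left h.ge).ge hb₀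
      exact mem_centralizer_singleton_iff.1 this.2
    rw [hi, hj] at hlt ⊢
    rw [← pow_succ']
    exact Nat.pow_le_pow_right hp.out.pos ((Nat.pow_lt_pow_iff_right hp.out.one_lt).1 hlt)
  set moved : Finset G := (sharp H).filter fun c => c ∉ F₀ with hmoved
  refine arith_stage_two (m := (moved.card : ℝ)) hP3 hq3 ?_ ?_ hineq
  · have hF₀card : ((sharp H).filter fun c => c ∈ F₀).card + 1 ≤ Nat.card F₀ := by
      have h1 : (insert (1 : G) ((sharp H).filter fun c => c ∈ F₀)).card ≤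
          ((Finset.univ : Finset G).filter (· ∈ F₀)).card := by
        refine Finset.card_le_card (Finset.insert_subset ?_ fun x hx => ?_)
        · simp [F₀.one_mem]
        · simp [(Finset.mem_filter.1 hx).2]
      rw [Finset.card_insert_of_notMem (by simp [mem_sharp])] at h1
      refine h1.trans ?_
      rw [Nat.card_eq_fintype_card]
      exact (Fintype.card_of_subtype _ (fun x => by simp)).ge
    have hsplit : ((sharp H).filter fun c => c ∈ F₀).card + moved.card = (sharp H).card :=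
      Finset.card_filter_add_card_filter_not _
    have h1 : ((((sharp H).filter fun c => c ∈ F₀).card : ℕ) : ℝ) + moved.card = q - 1 := by
      rw [hq, ← card_sharp (H := H), ← hsplit]; push_cast; rfl
    have h2 : (p : ℝ) * (((((sharp H).filter fun c => c ∈ F₀).card : ℕ) : ℝ) + 1) ≤ q := by
      rw [hq]
      have : p * (((sharp H).filter fun c => c ∈ F₀).card + 1) ≤ Nat.card H :=
        (Nat.mul_le_mul_left p hF₀card).trans hF₀lt
      exact_mod_cast this
    nlinarith
  · rw [hJre, mul_add, ← card_sharp (H := H), ← Finset.sum_filter_add_sum_filter_not (sharp H)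
      (fun c => c ∈ F₀) (f := fun c => ∑ w ∈ sharp H, (colSum M c w).re),
      ← Finset.card_filter_add_card_filter_not (s := sharp H) (fun c => c ∈ F₀)]
    have hlo : ∀ c ∈ sharp H, ((k c).card : ℝ) * q ≤ ∑ w ∈ sharp H, (colSum M c w).re :=
      fun c hc => hinner c hc H hF.pgroup fun x hx => hF.comm c (mem_sharp.1 hc).1 x hx
    have hk1 : ∀ c ∈ sharp H, 1 ≤ (k c).card := fun c hc =>
      Finset.card_pos.2 ⟨c, Finset.mem_filter.2 ⟨hc, IsConj.refl c⟩⟩
    have hk2 : ∀ c ∈ moved, 2 ≤ (k c).card := by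
      intro c hc
      rw [hmoved, Finset.mem_filter] at hc
      have hcH := (mem_sharp.1 hc.1).1
      have hne : n * c * n⁻¹ ≠ c := fun e => hc.2 ⟨hcH,
        mem_centralizer_singleton_iff.2 (mul_inv_eq_iff_eq_mul.1 e).symm⟩
      refine Finset.one_lt_card.2 ⟨c, Finset.mem_filter.2 ⟨hc.1, IsConj.refl c⟩, n * c * n⁻¹,
        Finset.mem_filter.2 ⟨mem_sharp.2 ⟨(mem_normalizer_iff.1 hn c).1 hcH,
          fun e => (mem_sharp.1 hc.1).2 (conj_eq_one_iff.1 e)⟩, isConj_iff.2 ⟨n, rfl⟩⟩, hne.symm⟩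
    have hq0 : 0 ≤ q := Nat.cast_nonneg _
    have e1 : (((sharp H).filter fun c => c ∈ F₀).card : ℝ) * q ≤
        ∑ c ∈ (sharp H).filter (fun c => c ∈ F₀), ∑ w ∈ sharp H, (colSum M c w).re := by
      rw [← nsmul_eq_mul]
      refine Finset.card_nsmul_le_sum _ _ _ fun c hc => ?_
      refine le_trans ?_ (hlo c (Finset.mem_filter.1 hc).1)
      nlinarith [show (1 : ℝ) ≤ ((k c).card : ℝ) by exact_mod_cast hk1 c (Finset.mem_filter.1 hc).1]
    have e2 : (moved.card : ℝ) * (2 * q) ≤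
        ∑ c ∈ moved, ∑ w ∈ sharp H, (colSum M c w).re := by
      rw [← nsmul_eq_mul]
      refine Finset.card_nsmul_le_sum _ _ _ fun c hc => ?_
      refine le_trans ?_ (hlo c (Finset.mem_filter.1 hc).1)
      nlinarith [show (2 : ℝ) ≤ ((k c).card : ℝ) by exact_mod_cast hk2 c hc]
    push_cast
    rw [← hmoved]
    nlinarith [e1, e2]

end Cfsg.Agent.ExtremelyClosedOdd6
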