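import Mathlib
import Cfsg.Agent.Lib.ExtremelyClosedOdd6Block
import Cfsg.Agent.Lib.CharKernel
import Cfsg.Agent.Lib.CharBasicInt
import Cfsg.Agent.Lib.BlockContribRoots
import Cfsg.Agent.S0868
import Cfsg.Agent.S0897

/-!
# The core case: `G = O_{p'}(G) H`
-/

set_option autoImplicit false
set_option linter.style.haveILetI false

open scoped ComplexConjugate

namespace Cfsg.Agent.ExtremelyClosedOdd6

open Subgroup Cfsg.Agent.CharBasic Cfsg.Agent.CharBasicOrth Cfsg.Agent.CharBasicDecomp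

attribute [local instance] Classical.propDecidable

universe u

variable {G : Type u} [Group G] [Fintype G] {p : ℕ} [hp : Fact p.Prime]

/-- A character constituent takes the degree where the whole character does. -/
theorem constituent_eq_deg {C : Type u} [Group C] [Fintype C] {ψ : C → ℂ} (hψ : IsCharacter C ψ)
    {c : C} (hc : ψ c = ψ 1) (m : IrrCharacter C → ℕ)
    (hm : ψ = ∑ β : IrrCharacter C, (m β : ℂ) • (β : C → ℂ)) {β : IrrCharacter C} (hβ : m β ≠ 0) :
    (β : C → ℂ) c = (β : C → ℂ) 1 := by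
  choose dg _ hdg using fun β : IrrCharacter C => isIrrCharacter_apply_one β.2
  have hle : ∀ γ : IrrCharacter C, ((γ : C → ℂ) c).re ≤ dg γ := fun γ => by
    refine (Complex.re_le_norm _).trans
      ((isCharacter_norm_le (isCharacter_of_isIrrCharacter γ.2) _).trans ?_)
    rw [hdg, Complex.natCast_re]
  rw [hm] at hc
  have h1 := congrArg Complex.re hc
  simp only [Finset.sum_apply, Pi.smul_apply, smul_eq_mul, Complex.re_sum, hdg] at h1
  simp only [← Complex.ofReal_natCast, Complex.re_ofReal_mul, Complex.ofReal_re] at h1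
  have h2 := (Finset.sum_eq_sum_iff_of_le fun γ _ =>
    mul_le_mul_of_nonneg_left (hle γ) (Nat.cast_nonneg (m γ))).1 h1 β (Finset.mem_univ _)
  have h3 : ((β : C → ℂ) c).re = dg β := mul_left_cancel₀ (Nat.cast_ne_zero.2 hβ) h2
  have h4 : ((β : C → ℂ) c).im = 0 := by
    have h5 := isCharacter_norm_le (isCharacter_of_isIrrCharacter β.2) c
    rw [hdg, Complex.natCast_re] at h5
    have h6 := Complex.normSq_apply ((β : C → ℂ) c)
    rw [Complex.normSq_eq_norm_sq] at h6
    nlinarith [norm_nonneg ((β : C → ℂ) c)]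
  rw [hdg]
  exact Complex.ext (by simp [h3]) (by simp [h4])

/-- The squares of a character restricting irreducibly to a normal subgroup, summed over the
centralizer of an element in a coset. -/
theorem sum_norm_section (O : Subgroup G) [O.Normal] [Fintype O] (χ : IrrCharacter G)
    (hχO : IsIrrCharacter O (fun o : O => (χ : G → ℂ) o)) (z : G)
    (hz : Nat.Coprime (orderOf z) (Nat.card O)) (Y : Subgroup G) [Fintype Y]
    (hY : ∀ y, y ∈ Y ↔ y ∈ O ∧ y * z = z * y) :
    ∑ y : Y, (χ : G → ℂ) ((y : G) * z) * conj ((χ : G → ℂ) ((y : G) * z)) = (Nat.card Y : ℂ) := by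
  have hzN : z ∈ normalizer (O : Set G) :=
    mem_normalizer_of_conj fun s hs => Subgroup.Normal.conj_mem ‹O.Normal› s hs z
  have hO : ∑ o : O, (χ : G → ℂ) ((o : G) * z) * conj ((χ : G → ℂ) ((o : G) * z)) =
      (Nat.card O : ℂ) := by
    have h := (S0868.result O (χ : G → ℂ) χ.2 hχO (χ : G → ℂ) χ.2 _ rfl).2.2 rfl
    have h2 := congrFun h z
    rwa [inv_mul_eq_iff_eq_mul₀ (Nat.cast_ne_zero.2 Nat.card_pos.ne'), mul_one] at h2
  choose x hxO u huO huc he using fun o : O => OddCharGroup.coset_conj O z hzN hz o o.2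
  have huY : ∀ o, u o ∈ Y := fun o => (hY _).2 ⟨huO o, huc o⟩
  have hYO : ∀ y : Y, (y : G) ∈ O := fun y => ((hY _).1 y.2).1
  let Ψ : O × Y → O × Y := fun i =>
    (⟨(x i.1)⁻¹ * i.2, O.mul_mem (O.inv_mem (hxO i.1)) (hYO i.2)⟩,
      ⟨(i.2 : G)⁻¹ * u i.1 * i.2, Y.mul_mem (Y.mul_mem (Y.inv_mem i.2.2) (huY i.1)) i.2.2⟩)
  have hrec : ∀ i : O × Y, ((Ψ i).1 : G) * (((Ψ i).2 : G) * z) * ((Ψ i).1 : G)⁻¹ =
      (i.1 : G) * z := by
    intro i
    obtain ⟨o, t⟩ := i
    have ht := ((hY _).1 t.2).2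
    show (x o)⁻¹ * t * ((t : G)⁻¹ * u o * t * z) * ((x o)⁻¹ * t)⁻¹ = o * z
    rw [show (t : G)⁻¹ * u o * t * z = (t : G)⁻¹ * u o * ((t : G) * z) by group, ht,
      show (x o)⁻¹ * t * ((t : G)⁻¹ * u o * (z * t)) * ((x o)⁻¹ * t)⁻¹ =
        (x o)⁻¹ * (u o * z) * x o by group, ← he o]
    group
  have hinj : Function.Injective Ψ := by
    intro i j hij
    have h1 : i.1 = j.1 := Subtype.ext (mul_right_cancel
      ((hrec i).symm.trans ((congrArg (fun k : O × Y =>
        (k.1 : G) * ((k.2 : G) * z) * (k.1 : G)⁻¹) hij).trans (hrec j))))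
    have h2 := congrArg (fun k : O × Y => (k.1 : G)) hij
    refine Prod.ext h1 (Subtype.ext ?_)
    show (i.2 : G) = j.2
    have h3 : (x i.1)⁻¹ * (i.2 : G) = (x j.1)⁻¹ * j.2 := h2
    rw [h1] at h3
    exact mul_left_cancel h3
  have hbij : Function.Bijective Ψ := ⟨hinj, Finite.surjective_of_injective hinj⟩
  set F : G → ℂ := fun g => (χ : G → ℂ) g * conj ((χ : G → ℂ) g)
  have key : ∑ i : O × Y, F ((i.2 : G) * z) = ∑ i : O × Y, F ((i.1 : G) * z) := by
    refine (Fintype.sum_bijective Ψ hbij _ _ fun i => ?_).symm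
    simp only [F]
    rw [← hrec i, irr_conj']
  rw [Fintype.sum_prod_type, Fintype.sum_prod_type] at key
  simp only [Finset.sum_const, Finset.card_univ, nsmul_eq_mul, ← Finset.mul_sum,
    ← Nat.card_eq_fintype_card] at key
  simp only [F] at key
  rw [hO, mul_comm (Nat.card Y : ℂ)] at key
  exact mul_left_cancel₀ (Nat.cast_ne_zero.2 Nat.card_pos.ne') key

/-- The section function `y ↦ χ (y z ^ j)` on a centralizing `p'`-group is a multiple of a single
irreducible character. -/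
theorem exists_section_char (χ : IrrCharacter G) (Y : Subgroup G) [Fintype Y] {z : G}
    (hzp : orderOf z = p) (hYz : ∀ y ∈ Y, Commute y z)
    (hnorm : ∀ j, ¬ p ∣ j → ∑ y : Y,
      (χ : G → ℂ) ((y : G) * z ^ j) * conj ((χ : G → ℂ) ((y : G) * z ^ j)) = (Nat.card Y : ℂ)) :
    ∃ (β : IrrCharacter Y) (a : ℕ → ℂ), ∀ j, j < p → ¬ p ∣ j → ‖a j‖ = 1 ∧
      ∀ y : Y, (χ : G → ℂ) ((y : G) * z ^ j) = a j * (β : Y → ℂ) y := by
  haveI : NeZero p := ⟨hp.out.ne_zero⟩
  set Z := zpowers z with hZ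
  letI : Fintype Z := Fintype.ofFinite _
  have hZY : ∀ (t : Z) (y : Y), Commute (y : G) (t : G) := by
    intro t y
    obtain ⟨i, hi⟩ := mem_zpowers_iff.1 t.2
    rw [← hi]
    exact (hYz y y.2).zpow_right i
  have hcls : ∀ j : ℕ, IsClassFunction Y (fun y : Y => (χ : G → ℂ) ((y : G) * z ^ j)) := by
    intro j y t
    show (χ : G → ℂ) (((t * y * t⁻¹ : Y) : G) * z ^ j) = _
    push_cast
    rw [← irr_conj' χ (t : G) ((y : G) * z ^ j)]
    congr 1
    rw [show (t : G) * y * (t : G)⁻¹ * z ^ j = (t : G) * y * ((t : G)⁻¹ * z ^ j) by group,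
      (((hYz t t.2).inv_left).pow_right j).eq]
    group
  let f : Y × Z →* G :=
    { toFun := fun i => (i.1 : G) * (i.2 : G)
      map_one' := by simp
      map_mul' := fun i k => by
        simp only [Prod.fst_mul, Prod.snd_mul, Subgroup.coe_mul]
        exact ((hZY i.2 k.1).symm.mul_mul_mul_comm (i.1 : G) (k.2 : G)).symm }
  have hZcomm : ∀ a b : Z, a * b = b * a := fun a b => by
    obtain ⟨i, hi⟩ := mem_zpowers_iff.1 a.2
    obtain ⟨k, hk⟩ := mem_zpowers_iff.1 b.2
    refine Subtype.ext ?_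
    show (a : G) * b = b * a
    rw [← hi, ← hk]
    exact (Commute.zpow_zpow_self z i k).eq
  set ζ := Complex.exp (2 * Real.pi * Complex.I / p) with hζdef
  have hζ : IsPrimitiveRoot ζ p := Complex.isPrimitiveRoot_exp p hp.out.ne_zero
  -- the coefficients
  have hcoeff : ∀ β : IrrCharacter Y, ∃ (n : IrrCharacter Z → ℕ) (e : IrrCharacter Z → ℕ),
      ∀ j : ℕ, classInner (fun y : Y => (χ : G → ℂ) ((y : G) * z ^ j)) (β : Y → ℂ) =
        ∑ lam : IrrCharacter Z, ((n lam : ℤ) : ℂ) * ζ ^ (e lam * j) := by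
    intro β
    set A : Z → ℂ := fun t => classInner (fun y : Y => (χ : G → ℂ) ((y : G) * t)) (β : Y → ℂ)
      with hA
    have hAcls : IsClassFunction Z A := fun t s => by
      rw [hZcomm s t, mul_inv_cancel_right]
    have hn : ∀ lam : IrrCharacter Z, ∃ n : ℕ, classInner A (lam : Z → ℂ) = n := by
      intro lam
      have h1 : IsCharacter (Y × Z) (fun i => (χ : G → ℂ) ((i.1 : G) * i.2)) :=
        isCharacter_comap f (isCharacter_of_isIrrCharacter χ.2)
      have h2 : IsCharacter (Y × Z) (fun i => (β : Y → ℂ) i.1 * (lam : Z → ℂ) i.2) :=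
        isCharacter_mul (isCharacter_comap (MonoidHom.fst Y Z) (isCharacter_of_isIrrCharacter β.2))
          (isCharacter_comap (MonoidHom.snd Y Z) (isCharacter_of_isIrrCharacter lam.2))
      obtain ⟨n, hn⟩ := classInner_isCharacter h1 h2
      refine ⟨n, ?_⟩
      rw [← hn]
      simp only [A, classInner, Nat.card_prod, Nat.cast_mul, mul_inv, Fintype.sum_prod_type,
        Finset.mul_sum, Finset.sum_mul, map_mul]
      rw [Finset.sum_comm]
      exact Finset.sum_congr rfl fun y _ => Finset.sum_congr rfl fun t _ => by ring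
    choose n hn using hn
    have he : ∀ lam : IrrCharacter Z, ∃ e : ℕ, ∀ j : ℕ,
        (lam : Z → ℂ) (⟨z ^ j, pow_mem (mem_zpowers z) j⟩) = ζ ^ (e * j) := by
      intro lam
      obtain ⟨μ, hμ⟩ := CharBasicLinear.exists_hom_of_comm hZcomm lam.2
      have hpow : ((μ ⟨z, mem_zpowers z⟩ : ℂˣ) : ℂ) ^ p = 1 := by
        rw [← Units.val_pow_eq_pow_val, ← map_pow,
          show (⟨z, mem_zpowers z⟩ : Z) ^ p = 1 from Subtype.ext (by simp [← hzp, pow_orderOf_eq_one]),
          map_one, Units.val_one]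
      obtain ⟨e, -, he⟩ := hζ.eq_pow_of_pow_eq_one hpow
      refine ⟨e, fun j => ?_⟩
      rw [hμ, pow_mul, he]
      show ((μ (⟨z ^ j, pow_mem (mem_zpowers z) j⟩)) : ℂ) = _
      rw [show (⟨z ^ j, pow_mem (mem_zpowers z) j⟩ : Z) = ⟨z, mem_zpowers z⟩ ^ j from rfl, map_pow,
        Units.val_pow_eq_pow_val]
    choose e he using he
    refine ⟨n, e, fun j => ?_⟩
    have h1 := congrFun (eq_sum_classInner hAcls) ⟨z ^ j, pow_mem (mem_zpowers z) j⟩
    simp only [Finset.sum_apply, Pi.smul_apply, smul_eq_mul, hn, he] at h1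
    simpa [hA] using h1
  choose n e hne using hcoeff
  set a : ℕ → IrrCharacter Y → ℂ :=
    fun j β => classInner (fun y : Y => (χ : G → ℂ) ((y : G) * z ^ j)) (β : Y → ℂ) with ha
  have hsum : ∀ j, ¬ p ∣ j → ∑ β : IrrCharacter Y, Complex.normSq (a j β) = 1 := by
    intro j hj
    have h1 := classInner_eq_sum (φ := fun y : Y => (χ : G → ℂ) ((y : G) * z ^ j)) (hcls j)
    rw [classInner, hnorm j hj, inv_mul_cancel₀ (Nat.cast_ne_zero.2 Nat.card_pos.ne')] at h1
    simp only [Complex.mul_conj] at h1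
    rw [← Complex.ofReal_sum] at h1
    exact Complex.ofReal_injective (h1.symm.trans Complex.ofReal_one.symm)
  set J := (Finset.range p).filter fun j => ¬ p ∣ j with hJ
  have hJ1 : 1 ∈ J := Finset.mem_filter.2
    ⟨Finset.mem_range.2 hp.out.one_lt, fun h => hp.out.ne_one (Nat.dvd_one.1 h)⟩
  have hlow : ∀ β, a 1 β ≠ 0 → (J.card : ℝ) ≤ ∑ j ∈ J, Complex.normSq (a j β) := by
    intro β hβ
    have hζ' : IsPrimitiveRoot ζ (p ^ (0 + 1)) := by simpa using hζ
    have h1 := BlockContribRoots.card_le_sum_normSq Finset.univ (fun lam => (n β lam : ℤ)) (e β)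
      hp.out hζ' ?_
    · simp only [zero_add, pow_one] at h1
      simp only [ha, hne]
      exact h1
    · intro h0
      refine hβ ?_
      simp only [ha, hne, mul_one]
      exact h0
  have htot : ∑ β : IrrCharacter Y, ∑ j ∈ J, Complex.normSq (a j β) = J.card := by
    rw [Finset.sum_comm, Finset.sum_congr rfl fun j hj => hsum j (Finset.mem_filter.1 hj).2,
      Finset.sum_const, nsmul_eq_mul, mul_one]
  obtain ⟨β₀, hβ₀⟩ : ∃ β, a 1 β ≠ 0 := by
    by_contra hc
    push Not at hc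
    have h1 := hsum 1 (Finset.mem_filter.1 hJ1).2
    simp [hc] at h1
  have hzero : ∀ β, β ≠ β₀ → ∀ j ∈ J, a j β = 0 := by
    intro β hβ j hj
    have h1 := Finset.sum_le_sum_of_subset_of_nonneg
      (f := fun γ => ∑ i ∈ J, Complex.normSq (a i γ)) (Finset.subset_univ {β, β₀})
      (fun γ _ _ => Finset.sum_nonneg fun i _ => Complex.normSq_nonneg _)
    rw [Finset.sum_pair hβ, htot] at h1
    have h2 := hlow β₀ hβ₀
    have h3 := Finset.single_le_sum (f := fun i => Complex.normSq (a i β))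
      (fun i _ => Complex.normSq_nonneg _) hj
    exact Complex.normSq_eq_zero.1 (le_antisymm (by linarith) (Complex.normSq_nonneg _))
  refine ⟨β₀, fun j => a j β₀, fun j hjp hj => ?_⟩
  have hjJ : j ∈ J := Finset.mem_filter.2 ⟨Finset.mem_range.2 hjp, hj⟩
  refine ⟨?_, fun y => ?_⟩
  · have h1 := hsum j hj
    rw [Finset.sum_eq_single β₀ (fun β _ hne' => by rw [hzero β hne' j hjJ, map_zero])
      (by simp), Complex.normSq_eq_norm_sq] at h1
    exact (pow_eq_one_iff_of_nonneg (norm_nonneg _) two_ne_zero).1 h1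
  · have h1 := congrFun (eq_sum_classInner (hcls j)) y
    rw [h1, Finset.sum_apply, Finset.sum_eq_single β₀]
    · rfl
    · intro β _ hne'
      simp only [Pi.smul_apply, smul_eq_mul]
      rw [show classInner (fun y : Y => (χ : G → ℂ) ((y : G) * z ^ j)) (β : Y → ℂ) = a j β from rfl,
        hzero β hne' j hjJ, zero_mul]
    · simp

variable {H : Subgroup G} [Fintype H]

/-- If `G = O H` then `H` fixes only the identity in `O`. -/
theorem core_two (hF : Fam p H) (hp2 : p ≠ 2) (hHne : H ≠ ⊥) (O : Subgroup G) [O.Normal]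
    (hO : ¬ p ∣ Nat.card O) (htop : O ⊔ H = ⊤)
    (hgen : ∀ N : Subgroup G, N.Normal → H ≤ N → N = ⊤)
    (hnc : ∀ a ∈ H, a ≠ 1 → a ∉ center G)
    (hloc : ∀ a ∈ H, a ≠ 1 → ∃ W, Local p H (centralizer ({a} : Set G)) W)
    (hquot : ∀ (N : Subgroup G) [N.Normal], N ≠ ⊥ → ¬ p ∣ Nat.card N →
      Concl p (H.map (QuotientGroup.mk' N))) :
    ∀ c ∈ O, c ∈ normalizer (H : Set G) → c = 1 := by
  letI : Fintype O := Fintype.ofFinite _
  have hHO : H ≤ normalizer (O : Set G) := fun h _ =>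
    mem_normalizer_of_conj fun s hs => Subgroup.Normal.conj_mem ‹O.Normal› s hs h
  have hcent : ∀ c ∈ O, c ∈ normalizer (H : Set G) → ∀ h ∈ H, h * c = c * h := by
    intro c hc hcn h hh
    have h1 : c * h * c⁻¹ * h⁻¹ = 1 := by
      refine inf_eq_bot_of_pGroup hO hF.pgroup ?_ (H.mul_mem ((mem_normalizer_iff.1 hcn h).1 hh)
        (H.inv_mem hh))
      rw [show c * h * c⁻¹ * h⁻¹ = c * (h * c⁻¹ * h⁻¹) by group]
      exact O.mul_mem hc (Subgroup.Normal.conj_mem ‹O.Normal› _ (O.inv_mem hc) h)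
    rw [mul_inv_eq_one, mul_inv_eq_iff_eq_mul] at h1
    exact h1.symm
  have hdec : ∀ x : G, ∃ o ∈ O, ∃ h ∈ H, x = o * h := fun x =>
    exists_mul_of_mem_sup hHO (by rw [htop]; trivial)
  -- a normalizing element centralizes `H`
  have hNC : ∀ n ∈ normalizer (H : Set G), ∀ h ∈ H, n * h * n⁻¹ = h := by
    intro n hn h hh
    obtain ⟨o, ho, k, hk, rfl⟩ := hdec n
    have hon : o ∈ normalizer (H : Set G) := by
      have := mul_mem hn (inv_mem (le_normalizer hk))
      simpa using this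
    rw [show o * k * h * (o * k)⁻¹ = o * (k * h * k⁻¹) * o⁻¹ by group,
      (hF.comm k hk h hh).eq, mul_inv_cancel_right, ← hcent o ho hon h hh, mul_inv_cancel_right]
  -- an element of order `p`
  obtain ⟨z, hzH, hzp⟩ : ∃ z ∈ H, orderOf z = p := by
    obtain ⟨k, hk⟩ := IsPGroup.iff_card.1 hF.pgroup
    obtain ⟨z, hz⟩ := exists_prime_orderOf_dvd_card' (G := H) p (by
      rw [hk]
      exact dvd_pow_self p fun h => hHne (Subgroup.card_eq_one.1 (by rw [hk, h, pow_zero])))
    exact ⟨z, z.2, by rw [Subgroup.orderOf_coe, hz]⟩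
  have hz1 : z ≠ 1 := fun h => hp.out.ne_one (by rw [← hzp, h, orderOf_one])
  obtain ⟨W, hW⟩ := hloc z hzH hz1
  set Y : Subgroup G := O ⊓ centralizer ({z} : Set G) with hY
  letI : Fintype Y := Fintype.ofFinite _
  have hWY : W ≤ Y := fun w hw => ⟨mem_of_pPrime hF.pgroup hHO (by rw [htop]; trivial)
    (not_dvd_orderOf_of_mem hW.notDvd hw), hW.le hw⟩
  have hYz : ∀ y ∈ Y, Commute y z := fun y hy => mem_centralizer_singleton_iff.1 hy.2
  have hpow : ∀ j, ¬ p ∣ j → ∀ y : G, y ∈ Y ↔ y ∈ O ∧ y * z ^ j = z ^ j * y := by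
    intro j hj y
    refine ⟨fun hy => ⟨hy.1, ((hYz y hy).pow_right j).eq⟩, fun ⟨hy, hyj⟩ => ⟨hy, ?_⟩⟩
    obtain ⟨i, hi⟩ := exists_pow_eq_self_of_coprime (x := z) (n := j)
      (by rw [hzp]; exact ((Nat.Prime.coprime_iff_not_dvd hp.out).2 hj).symm)
    show y ∈ centralizer ({z} : Set G)
    rw [mem_centralizer_singleton_iff, ← hi]
    exact ((show Commute y (z ^ j) from hyj).pow_right i).eq
  -- invariant characters of `O` are trivial on the fixed points
  have key : ∀ θ : IrrCharacter O, (∀ (h : G) (hh : h ∈ H) (o : O),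
      (θ : O → ℂ) ⟨h * o * h⁻¹, (mem_normalizer_iff.1 (hHO hh) _).1 o.2⟩ = (θ : O → ℂ) o) →
      ∀ (c : G) (hc : c ∈ O), c ∈ normalizer (H : Set G) →
        (θ : O → ℂ) ⟨c, hc⟩ = (θ : O → ℂ) 1 := by
    intro θ hθ c hc hcn
    have hinv : ∀ (g : G) (o : O),
        (θ : O → ℂ) ⟨g * o * g⁻¹, Subgroup.Normal.conj_mem ‹O.Normal› _ o.2 g⟩ = (θ : O → ℂ) o := by
      intro g o
      obtain ⟨a, ha, h, hh, rfl⟩ := hdec g
      rw [← hθ h hh o, ← irr_conj' θ ⟨a, ha⟩ ⟨h * o * h⁻¹, _⟩]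
      refine congrArg (θ : O → ℂ) ?_
      exact Subtype.ext (by push_cast; group)
    obtain ⟨P, hP⟩ : ∃ P : Sylow p G, H ≤ P := hF.pgroup.exists_le_sylow
    have hPO : ∀ x ∈ (P : Subgroup G) ⊓ O, x = 1 := fun x hx =>
      inf_eq_bot_of_pGroup hO P.2 hx.2 hx.1
    have hindex : ∃ k : ℕ, O.index = p ^ k := by
      have hQ : IsPGroup p (G ⧸ O) := by
        intro t
        obtain ⟨x, rfl⟩ := QuotientGroup.mk'_surjective O t
        obtain ⟨o, ho, h, hh, rfl⟩ := hdec x
        obtain ⟨k, hk⟩ := hF.pgroup ⟨h, hh⟩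
        refine ⟨k, ?_⟩
        rw [map_mul, show QuotientGroup.mk' O o = 1 from (QuotientGroup.eq_one_iff o).2 ho, one_mul,
          ← map_pow, show h ^ p ^ k = 1 from by simpa using congrArg Subtype.val hk, map_one]
      obtain ⟨k, hk⟩ := IsPGroup.iff_card.1 hQ
      exact ⟨k, by rw [Subgroup.index, hk]⟩
    obtain ⟨χf, hχf, hres⟩ := S0897.result p O hindex P
      (fun x hx y _ => by rw [hPO x hx, one_mul, mul_one])
      (fun lam _ h1 => ⟨fun _ => 1, isCharacter_one, rfl, fun x => by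
        rw [show x = 1 from Subtype.ext (hPO x x.2), h1]⟩)
      (θ : O → ℂ) θ.2 hinv
    set χ : IrrCharacter G := ⟨χf, hχf⟩ with hχ
    have hχO : IsIrrCharacter O (fun o : O => (χ : G → ℂ) o) := by
      rw [show (fun o : O => (χ : G → ℂ) o) = (θ : O → ℂ) from funext hres]; exact θ.2
    obtain ⟨β, a, hβ⟩ := exists_section_char χ Y hzp hYz (fun j hj =>
      sum_norm_section O χ hχO (z ^ j) (by
        refine Nat.Coprime.coprime_dvd_left (orderOf_pow_dvd j) ?_
        rw [hzp]; exact (Nat.Prime.coprime_iff_not_dvd hp.out).2 hO) Y (hpow j hj))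
    obtain ⟨d, hd0, hd⟩ := isIrrCharacter_apply_one χ.2
    obtain ⟨b, hb0, hb, hbdvd⟩ := CharBasicInt.exists_apply_one_dvd_card β.2
    have hp1 : ¬ p ∣ 1 := fun h => hp.out.ne_one (Nat.dvd_one.1 h)
    -- values on the powers of `z`
    have hval : ∀ j, j < p → ¬ p ∣ j → ‖(χ : G → ℂ) (z ^ j)‖ = b := by
      intro j hjp hj
      obtain ⟨h1, h2⟩ := hβ j hjp hj
      have h3 := h2 1
      rw [OneMemClass.coe_one, one_mul, hb] at h3
      rw [h3, norm_mul, h1, one_mul, Complex.norm_natCast]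
    obtain ⟨ha1, hg1⟩ := hβ 1 hp.out.one_lt hp1
    simp only [pow_one] at hg1
    have ha0 : a 1 ≠ 0 := fun h => by rw [h, norm_zero] at ha1; exact zero_ne_one ha1
    -- `β` is invariant under `H`
    have hHY : ∀ h ∈ H, ∀ y ∈ Y, h * y * h⁻¹ ∈ Y := fun h hh y hy => by
      refine ⟨Subgroup.Normal.conj_mem ‹O.Normal› y hy.1 h, mem_centralizer_singleton_iff.2 ?_⟩
      have e := (hF.comm h hh z hzH).eq
      have e2 : h⁻¹ * z = z * h⁻¹ := ((hF.comm h hh z hzH).inv_left).eq
      calc h * y * h⁻¹ * z = h * (y * z) * h⁻¹ := by rw [mul_assoc (h * y), e2]; group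
        _ = h * (z * y) * h⁻¹ := by rw [(hYz y hy).eq]
        _ = z * (h * y * h⁻¹) := by rw [← mul_assoc h z y, e]; group
    have hβinv : ∀ (h : G) (hh : h ∈ H) (y : Y),
        (β : Y → ℂ) ⟨h * y * h⁻¹, hHY h hh y y.2⟩ = (β : Y → ℂ) y := by
      intro h hh y
      refine mul_left_cancel₀ ha0 ?_
      rw [← hg1, ← hg1]
      show (χ : G → ℂ) (h * y * h⁻¹ * z) = _
      rw [show h * y * h⁻¹ * z = h * (y * z) * h⁻¹ by
        rw [mul_assoc (h * y), ((hF.comm h hh z hzH).inv_left).eq]; group, irr_conj']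
    -- `W` lies in the kernel of `β`
    set WY : Subgroup Y := W.subgroupOf Y with hWYdef
    haveI : WY.Normal := ⟨fun w hw t => mem_subgroupOf.2
      ((mem_normalizer_iff.1 (hW.normalized (t.2.2)) _).1 (mem_subgroupOf.1 hw))⟩
    letI : Fintype WY := Fintype.ofFinite _
    letI : Fintype W := Fintype.ofFinite _
    have hne : ∑ w : WY, (β : Y → ℂ) w ≠ 0 := by
      intro h0
      set fe : G → ℂ := fun x => if hx : x ∈ Y then (β : Y → ℂ) ⟨x, hx⟩ else 0 with hfe
      have hHW : H ≤ normalizer (W : Set G) := fun h hh =>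
        hW.normalized (mem_centralizer_singleton_iff.2 (hF.comm h hh z hzH).eq)
      have h1 := pDvd_sum_sub_one hF.pgroup hW.notDvd hHW
        (fun s hs hc => hW.inf s hs (mem_normalizer_of_conj fun x hx => by
          rw [← hc x hx, mul_inv_cancel_right]; exact hx)) fe
        (fun h hh s hs => by
          simp only [hfe]
          rw [dif_pos (hHY h hh s (hWY hs)), dif_pos (hWY hs)]
          exact hβinv h hh ⟨s, hWY hs⟩)
        (fun s hs => by
          simp only [hfe]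
          rw [dif_pos (hWY hs)]
          exact isCharacter_integral (isCharacter_of_isIrrCharacter β.2) _)
      have e1 : ∑ w : W, fe w = ∑ w : WY, (β : Y → ℂ) w := by
        refine Fintype.sum_equiv (subgroupOfEquivOfLe hWY).symm.toEquiv _ _ fun w => ?_
        simp only [hfe]
        rw [dif_pos (hWY w.2)]
        rfl
      have e2 : fe 1 = (b : ℂ) := by
        simp only [hfe]
        rw [dif_pos Y.one_mem, ← hb]
        rfl
      rw [e1, h0, e2, zero_sub] at h1
      have h2 : (p : ℤ) ∣ -(b : ℤ) :=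
        GlaubermanP.int_dvd_of_pDvd (p := p) (k := -(b : ℤ)) (by push_cast; exact h1)
      rw [dvd_neg, Int.natCast_dvd_natCast] at h2
      refine hO (h2.trans (hbdvd.trans ?_))
      exact Subgroup.card_dvd_of_le (inf_le_left : Y ≤ O)
    have hconst : ∀ u ∈ W, (χ : G → ℂ) (z * u) = (χ : G → ℂ) z := by
      intro u hu
      have h2 : (χ : G → ℂ) z = a 1 * (β : Y → ℂ) 1 := by simpa using hg1 1
      rw [← (hYz u (hWY hu)).eq, hg1 ⟨u, hWY hu⟩, h2]
      congr 1
      have h1 := const_of_sum_ne_zero β WY hne (k := ⟨u, hWY hu⟩) (mem_subgroupOf.2 hu) 1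
      rwa [mul_one] at h1
    -- the product formula
    have hmul : (χ : G → ℂ) (z ^ 2) * (χ : G → ℂ) (z ^ (p - 1)) = (d : ℂ) * (χ : G → ℂ) z := by
      have hzi : z ^ 2 * z ^ (p - 1) = z := by
        rw [← pow_add, show 2 + (p - 1) = p + 1 by have := hp.out.one_le; omega, pow_succ, ← hzp,
          pow_orderOf_eq_one, one_mul]
      have h1 := ClassAlgebraVal.sum_apply_mul_conj χ.2 (z ^ 2) (z ^ (p - 1))
      have h2 : ∀ x : G, (χ : G → ℂ) (z ^ 2 * (x * z ^ (p - 1) * x⁻¹)) = (χ : G → ℂ) z := by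
        intro x
        obtain ⟨n, hn, -, hprod⟩ := product_conj hF x
        have hc' : z ^ 2 * (n * z ^ (p - 1) * n⁻¹) = z := by
          rw [hNC n hn _ (pow_mem hzH _), hzi]
        obtain ⟨y, u, hu, he⟩ := (hprod _ (pow_mem hzH 2) _ (pow_mem hzH (p - 1))).2
          (by rw [hc']; exact hz1) W (by rwa [hc'])
        rw [hc'] at he
        rw [← irr_conj' χ y, he, hconst u hu]
      rw [Finset.sum_congr rfl fun x _ => h2 x, Finset.sum_const, Finset.card_univ, nsmul_eq_mul,
        ← Nat.card_eq_fintype_card, hd] at h1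
      refine mul_left_cancel₀ (Nat.cast_ne_zero.2 (Nat.card_pos (α := G)).ne') ?_
      rw [← h1]; ring
    have hbd : (b : ℝ) = d := by
      have hp3 : 2 < p := lt_of_le_of_ne hp.out.two_le hp2.symm
      have h1 := congrArg (‖·‖) hmul
      simp only [norm_mul, Complex.norm_natCast] at h1
      have hz' := hval 1 hp.out.one_lt hp1
      rw [pow_one] at hz'
      rw [hval 2 hp3 (fun h => absurd (Nat.le_of_dvd two_pos h) (by omega)),
        hval (p - 1) (by omega) (fun h => absurd (Nat.le_of_dvd (by omega) h) (by omega)), hz'] at h1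
      exact mul_right_cancel₀ (Nat.cast_ne_zero.2 hb0.ne') h1
    -- `z` acts as a scalar
    obtain ⟨m, ρ, hi, hρ⟩ := χ.2
    have hm : (Module.finrank ℂ (Fin m → ℂ) : ℂ) = d := by
      rw [← hd, ← hρ, Representation.char_one]
    have hnormz : ‖ρ.character z‖ = (Module.finrank ℂ (Fin m → ℂ) : ℝ) := by
      rw [hρ]
      have h1 := hval 1 hp.out.one_lt hp1
      rw [pow_one] at h1
      rw [h1, hbd, Nat.cast_inj]
      exact_mod_cast hm.symm
    obtain ⟨ω, hω⟩ := (norm_eq_finrank_iff ρ z).1 hnormz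
    set N : Subgroup G := O ⊓ CharKernel.irrKer χ with hN
    haveI : (CharKernel.irrKer χ).Normal := CharKernel.irrKer_normal χ
    haveI : N.Normal := Subgroup.normal_inf_normal _ _
    have hNd : ¬ p ∣ Nat.card N := fun h => hO (h.trans (Subgroup.card_dvd_of_le inf_le_left))
    have hmemN : ∀ o ∈ O, z * o * z⁻¹ * o⁻¹ ∈ N := by
      intro o ho
      refine ⟨O.mul_mem (Subgroup.Normal.conj_mem ‹O.Normal› o ho z) (O.inv_mem ho), ?_⟩
      show z * o * z⁻¹ * o⁻¹ ∈ CharKernel.irrKer χ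
      rw [CharKernel.mem_irrKer, hd, ← hm, ← hρ]
      refine (character_eq_finrank_iff ρ _).2 ?_
      have hcomm : ρ z * ρ o = ρ o * ρ z := by
        rw [hω]; ext v; simp
      calc ρ (z * o * z⁻¹ * o⁻¹) = ρ z * ρ o * ρ z⁻¹ * ρ o⁻¹ := by simp only [map_mul]
        _ = ρ o * (ρ z * ρ z⁻¹) * ρ o⁻¹ := by rw [hcomm]; simp only [mul_assoc]
        _ = 1 := by rw [← map_mul, mul_inv_cancel, map_one, mul_one, ← map_mul, mul_inv_cancel, map_one]
    have hNne : N ≠ ⊥ := by
      intro hbot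
      refine hnc z hzH hz1 (mem_center_iff.2 fun g => ?_)
      obtain ⟨o, ho, h, hh, rfl⟩ := hdec g
      have h1 := hmemN o ho
      rw [hbot, mem_bot, mul_inv_eq_one, mul_inv_eq_iff_eq_mul] at h1
      rw [mul_assoc, (hF.comm h hh z hzH).eq, ← mul_assoc, ← h1, mul_assoc]
    obtain ⟨Wq, hWn, hWd, hWi, hWt⟩ := hquot N hNne hNd
    set q := QuotientGroup.mk' N with hq
    have hcl : normalClosure ((H.map q : Subgroup (G ⧸ N)) : Set (G ⧸ N)) = ⊤ := by
      have h1 := hgen ((normalClosure ((H.map q : Subgroup (G ⧸ N)) : Set (G ⧸ N))).comap q)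
        inferInstance (fun h hh => subset_normalClosure (mem_map_of_mem q hh))
      rw [eq_top_iff]
      intro t _
      obtain ⟨x, rfl⟩ := QuotientGroup.mk'_surjective N t
      exact (eq_top_iff.1 h1) (mem_top x)
    have hsupq : (q c) ∈ Wq ⊔ H.map q := by
      refine Concl.normalClosure_le hWt ?_
      rw [hcl]; trivial
    have hqc : q c ∈ Wq := mem_of_pPrime (hF.pgroup.map q)
      (fun t _ => mem_normalizer_of_conj fun s hs => hWn.conj_mem s hs t) hsupq
      fun h => not_dvd_orderOf_of_mem hO hc (h.trans (orderOf_map_dvd q c))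
    have hqn : q c ∈ normalizer ((H.map q : Subgroup (G ⧸ N)) : Set (G ⧸ N)) := by
      refine mem_normalizer_of_conj ?_
      rintro _ ⟨h, hh, rfl⟩
      exact ⟨c * h * c⁻¹, (mem_normalizer_iff.1 hcn h).1 hh, by simp⟩
    have hcN : c ∈ N := (QuotientGroup.eq_one_iff c).1 (hWi _ hqc hqn)
    rw [← hres ⟨c, hc⟩, ← hres 1]
    exact CharKernel.mem_irrKer.1 hcN.2
  -- every correspondent is trivial on the fixed points
  intro c hc hcn
  set C : Subgroup O := (centralizer (H : Set G)).subgroupOf O with hC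
  letI : Fintype C := Fintype.ofFinite _
  set φ : H →* MulAut O := (MulAut.conjNormal).comp H.subtype with hφ
  have hι : GlaubermanP.IsFix φ C.subtype := by
    refine ⟨C.subtype_injective, fun o => ?_⟩
    rw [Subgroup.range_subtype, hC, mem_subgroupOf, mem_centralizer_iff]
    refine ⟨fun h a => Subtype.ext ?_, fun h a ha => ?_⟩
    · show ((MulAut.conjNormal (a : G) o : O) : G) = o
      rw [MulAut.conjNormal_apply, h a a.2, mul_inv_cancel_right]
    · have := congrArg Subtype.val (h ⟨a, ha⟩)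
      change ((MulAut.conjNormal a o : O) : G) = o at this
      rw [MulAut.conjNormal_apply, mul_inv_eq_iff_eq_mul] at this
      exact this
  have hcC : (⟨c, hc⟩ : O) ∈ C := mem_subgroupOf.2 (mem_centralizer_iff.2 (hcent c hc hcn))
  have hall : ∀ β : IrrCharacter C, (β : C → ℂ) ⟨⟨c, hc⟩, hcC⟩ = (β : C → ℂ) 1 := by
    intro β
    obtain ⟨θ, hθ, hm⟩ := GlaubermanP.mult_surjective (φ := φ)
      (⟨hp.out, hF.pgroup, hO⟩ : GlaubermanP.Setup p H O C) hι β
    refine constituent_eq_deg (ψ := (θ : O → ℂ) ∘ C.subtype)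
      (isCharacter_comap _ (isCharacter_of_isIrrCharacter θ.2)) ?_ (GlaubermanP.mult C.subtype θ)
      (GlaubermanP.comp_eq_sum C.subtype θ) (fun h => hm (h ▸ dvd_zero p))
    refine key θ (fun h hh o => ?_) c hc hcn
    rw [← hθ ⟨h, hh⟩ o]
    congr 1
  have := isConj_one_left.1 ((isConj_iff_forall_irr (⟨⟨c, hc⟩, hcC⟩ : C) 1).2 hall)
  exact congrArg (fun x : C => ((x : O) : G)) this

end Cfsg.Agent.ExtremelyClosedOdd6
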