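import Mathlib
import Cfsg.Agent.Lib.ExtremelyClosedOdd6CoreOne
import Cfsg.Agent.Lib.ExtremelyClosedOdd6CoreTwo

/-!
# Extremely closed abelian p-subgroups, p odd
-/

set_option autoImplicit false
set_option linter.style.haveILetI false

namespace Cfsg.Agent.ExtremelyClosedOdd6

open Subgroup

universe u

theorem card_quotient_lt {G : Type u} [Group G] [Finite G] (N : Subgroup G) [N.Normal] (hN : N ≠ ⊥) :
    Nat.card (G ⧸ N) < Nat.card G := by
  have h1 := Subgroup.card_eq_card_quotient_mul_card_subgroup N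
  have h2 : 1 < Nat.card N := (Subgroup.one_lt_card_iff_ne_bot _).2 hN
  have h3 : 0 < Nat.card (G ⧸ N) := Nat.card_pos
  rw [h1]
  exact lt_mul_of_one_lt_right h3 h2

theorem main_aux (p : ℕ) [hp : Fact p.Prime] (hp2 : p ≠ 2) (n : ℕ) :
    ∀ (G : Type u) [Group G] [Finite G], Nat.card G = n → ∀ H : Subgroup G, Fam p H → Concl p H := by
  induction n using Nat.strong_induction_on with
  | _ n ih =>
    intro G _ _ hn H hF
    have hsmall : ∀ (Q : Type u) [Group Q] [Finite Q], Nat.card Q < Nat.card G →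
        ∀ S : Subgroup Q, Fam p S → Concl p S := fun Q _ _ hlt S hS =>
      ih _ (hn ▸ hlt) Q rfl S hS
    have hloc' : ∀ Y : Subgroup G, Y ≠ ⊤ → H ≤ Y → ∃ W, Local p H Y W := fun Y hY hHY =>
      Concl.local Y hHY (hsmall Y (lt_of_le_of_ne (Nat.le_of_dvd Nat.card_pos Y.card_subgroup_dvd_card)
        fun h => hY (eq_top_of_card_eq Y h)) _ (hF.subgroupOf Y hHY))
    by_cases hHne : H = ⊥
    · refine ⟨⊥, inferInstance, by simp [hp.out.ne_one], fun w hw _ => mem_bot.1 hw, ?_⟩
      rw [bot_sup_eq, eq_top_iff]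
      intro x _
      refine mem_normalizer_of_conj fun s hs => ?_
      rw [hHne, mem_bot] at hs ⊢
      simp [hs]
    set L := normalClosure (H : Set G) with hL
    have hHL : H ≤ L := subset_normalClosure
    by_cases hLtop : L = ⊤
    swap
    · -- a proper normal closure
      obtain ⟨W, hW⟩ := hloc' L hLtop hHL
      have hdL : ∀ g : G, ∃ d ∈ L, d⁻¹ * g ∈ normalizer (H : Set G) := by
        intro g
        obtain ⟨K, d, hP⟩ := hF.exists_pair g
        exact ⟨d, (sup_le hHL (cj_le_normal hHL g)) (hP.le_T hP.mem), hP.normalizer_factor⟩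
      have hgen : ∀ g : G, ∃ w ∈ W, w⁻¹ * g ∈ normalizer (H : Set G) := by
        intro g
        obtain ⟨d, hd, hdn⟩ := hdL g
        obtain ⟨w, hw, m, hm, -, rfl⟩ := hW.factor d hd
        refine ⟨w, hw, ?_⟩
        have := mul_mem hm hdn
        rwa [mul_inv_rev, mul_assoc, mul_inv_cancel_left] at this
      have hLle : L ≤ W ⊔ H := by
        refine (closure_le _).2 ?_
        intro x hx
        obtain ⟨y, hy, hc⟩ := Group.mem_conjugatesOfSet_iff.1 hx
        obtain ⟨c, rfl⟩ := isConj_iff.1 hc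
        obtain ⟨w, hw, hwn⟩ := hgen c
        rw [show c * y * c⁻¹ = w * ((w⁻¹ * c) * y * (w⁻¹ * c)⁻¹) * w⁻¹ by group]
        exact mul_mem (mul_mem (mem_sup_left hw)
          (mem_sup_right ((mem_normalizer_iff.1 hwn y).1 hy))) (inv_mem (mem_sup_left hw))
      have hWn : W.Normal := ⟨fun w hw g => mem_of_pPrime hF.pgroup (hHL.trans hW.normalized)
        (hLle (normalClosure_normal.conj_mem w (hW.le hw) g))
        (by
          rw [show g * w * g⁻¹ = MulAut.conj g w from rfl, MulEquiv.orderOf_eq]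
          exact not_dvd_orderOf_of_mem hW.notDvd hw)⟩
      refine ⟨W, hWn, hW.notDvd, hW.inf, eq_top_iff.2 fun g _ => ?_⟩
      obtain ⟨w, hw, hwn⟩ := hgen g
      rw [← mul_inv_cancel_left w g]
      exact mul_mem (mem_sup_left hw) (mem_sup_right hwn)
    have hgen : ∀ N : Subgroup G, N.Normal → H ≤ N → N = ⊤ := fun N hN hle =>
      top_le_iff.1 (hLtop ▸ @normalClosure_le_normal G _ (H : Set G) N hN hle)
    by_cases hZ : H ⊓ center G = ⊥
    swap
    · -- central elements in `H`
      set Z := H ⊓ center G with hZdef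
      haveI : Z.Normal := ⟨fun w hw g => by
        rwa [mem_center_iff.1 hw.2 g, mul_inv_cancel_right]⟩
      have hZH : Z ≤ H := inf_le_left
      set q := QuotientGroup.mk' Z with hq
      obtain ⟨Wq, hWqn, hWqd, hWqi, hWqt⟩ :=
        hsmall (G ⧸ Z) (card_quotient_lt Z hZ) _ (hF.quot_le Z hZH)
      set W1 := Wq.comap q with hW1
      have hZW1 : Z ≤ W1 := fun x hx => by
        rw [hW1, mem_comap, hq, QuotientGroup.mk'_apply, (QuotientGroup.eq_one_iff x).2 hx]
        exact one_mem _
      have hZp : IsPGroup p Z := hF.pgroup.to_le hZH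
      obtain ⟨i, hi⟩ := IsPGroup.iff_card.1 hZp
      have hidx : (Z.subgroupOf W1).index = Nat.card Wq := by
        have h1 := Subgroup.card_mul_index (Z.subgroupOf W1)
        have h2 : Nat.card W1 = Nat.card Wq * Nat.card Z := by
          rw [hW1, hq, ← HallCore.card_comap_mk']
        rw [Nat.card_congr (subgroupOfEquivOfLe hZW1).toEquiv, h2, mul_comm (Nat.card Wq)] at h1
        exact Nat.eq_of_mul_eq_mul_left Nat.card_pos h1
      obtain ⟨S, hS⟩ := exists_left_complement'_of_coprime (N := Z.subgroupOf W1) (by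
        rw [Nat.card_congr (subgroupOfEquivOfLe hZW1).toEquiv, hidx, hi]
        exact Nat.Coprime.pow_left i ((Nat.Prime.coprime_iff_not_dvd hp.out).2 hWqd))
      set W := S.map W1.subtype with hW
      have hWd : ¬ p ∣ Nat.card W := by
        rw [hW, card_map_of_injective W1.subtype_injective, ← hS.index_eq_card, hidx]
        exact hWqd
      have hZc : ∀ x ∈ Z, ∀ y : G, y * x = x * y := fun x hx y => mem_center_iff.1 hx.2 y
      have hZnorm : Z ≤ normalizer (W : Set G) := fun x hx =>
        mem_normalizer_of_conj fun s hs => by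
          rwa [← hZc x hx s, mul_inv_cancel_right]
      have hW1le : W1 ≤ W ⊔ Z := by
        intro x hx
        obtain ⟨⟨s, z⟩, hsz, -⟩ := hS.existsUnique ⟨x, hx⟩
        rw [show x = ((s : W1) : G) * ((z : W1) : G) from congrArg (fun v : W1 => (v : G)) hsz.symm]
        exact mul_mem (mem_sup_left ⟨s, s.2, rfl⟩) (mem_sup_right (mem_subgroupOf.1 z.2))
      have hWW1 : W ≤ W1 := map_subtype_le _
      haveI : W1.Normal := hWqn.comap q
      have hWn : W.Normal := ⟨fun w hw g => mem_of_pPrime hZp hZnorm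
        (hW1le ((inferInstance : W1.Normal).conj_mem w (hWW1 hw) g))
        (by
          rw [show g * w * g⁻¹ = MulAut.conj g w from rfl, MulEquiv.orderOf_eq]
          exact not_dvd_orderOf_of_mem hWd hw)⟩
      refine ⟨W, hWn, hWd, fun w hw hwn => ?_, eq_top_iff.2 fun g _ => ?_⟩
      · have h1 : q w = 1 := hWqi _ (hWW1 hw) (by
          refine mem_normalizer_of_conj ?_
          rintro _ ⟨h, hh, rfl⟩
          exact ⟨w * h * w⁻¹, (mem_normalizer_iff.1 hwn h).1 hh, by rw [hq]; simp⟩)
        exact inf_eq_bot_of_pGroup hWd hZp hw ((QuotientGroup.eq_one_iff w).1 h1)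
      · obtain ⟨v, hv, m, hm, e⟩ := mem_sup_of_normal_left.1
          (show q g ∈ Wq ⊔ normalizer ((H.map q : Subgroup (G ⧸ Z)) : Set (G ⧸ Z)) by
            rw [hWqt]; trivial)
        obtain ⟨v', rfl⟩ := QuotientGroup.mk'_surjective Z v
        have hm' : q (v'⁻¹ * g) ∈ normalizer ((H.map q : Subgroup (G ⧸ Z)) : Set (G ⧸ Z)) := by
          rw [map_mul, map_inv, ← e, inv_mul_cancel_left]
          exact hm
        rw [← mul_inv_cancel_left v' g]
        have hle : W ⊔ Z ≤ W ⊔ normalizer (H : Set G) :=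
          sup_le_sup_left (hZH.trans le_normalizer) _
        exact mul_mem (hle (hW1le hv)) (mem_sup_right (quot_normalizer_of_le hZH hm'))
    have hnc : ∀ a ∈ H, a ≠ 1 → a ∉ center G := fun a ha ha1 hc =>
      ha1 (mem_bot.1 (hZ ▸ (⟨ha, hc⟩ : a ∈ H ⊓ center G)))
    have hloc : ∀ a ∈ H, a ≠ 1 → ∃ W, Local p H (centralizer ({a} : Set G)) W := by
      intro a ha ha1
      refine hloc' _ (fun h => hnc a ha ha1 (mem_center_iff.2 fun x => ?_))
        (fun h hh => mem_centralizer_singleton_iff.2 (hF.comm h hh a ha).eq)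
      exact mem_centralizer_singleton_iff.1 (show x ∈ centralizer ({a} : Set G) by rw [h]; trivial)
    haveI : Fintype G := Fintype.ofFinite G
    haveI : Fintype H := Fintype.ofFinite H
    haveI hOn : (pPrimeCore p G).Normal := HallCore.pPrimeCore_normal p G
    by_cases hO : pPrimeCore p G = ⊥
    · have htop := core_one hF hp2 hHne hgen hloc hO
      refine ⟨⊥, inferInstance, by simp [hp.out.ne_one], fun w hw _ => mem_bot.1 hw, ?_⟩
      rw [bot_sup_eq, eq_top_iff]
      intro x _
      exact le_normalizer (htop ▸ mem_top x)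
    set O := pPrimeCore p G with hOdef
    have hOd : ¬ p ∣ Nat.card O := HallCore.not_dvd_card_pPrimeCore p G
    set q := QuotientGroup.mk' O with hq
    obtain ⟨Wq, hWqn, hWqd, -, hWqt⟩ := hsmall (G ⧸ O) (card_quotient_lt O hO) _ (hF.quot O hOd)
    have hbot : Wq = ⊥ := by
      have h1 : Wq.comap q ≤ O := by
        haveI : (Wq.comap q).Normal := hWqn.comap q
        refine HallCore.le_pPrimeCore ((Nat.Prime.coprime_iff_not_dvd hp.out).2 ?_).symm
        rw [hq, ← HallCore.card_comap_mk']
        exact fun h => ((Nat.Prime.dvd_mul hp.out).1 h).elim hWqd hOd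
      rw [eq_bot_iff]
      intro x hx
      obtain ⟨x', rfl⟩ := QuotientGroup.mk'_surjective O x
      exact mem_bot.2 ((QuotientGroup.eq_one_iff x').2 (h1 hx))
    rw [hbot, bot_sup_eq] at hWqt
    have hOH : O ⊔ H = ⊤ := by
      haveI : (H.map q).Normal := Subgroup.normalizer_eq_top_iff.1 hWqt
      have h1 := hgen ((H.map q).comap q) inferInstance (le_comap_map q H)
      rw [comap_map_eq, hq, QuotientGroup.ker_mk'] at h1
      rw [sup_comm]; exact h1
    refine ⟨O, hOn, hOd, core_two hF hp2 hHne O hOd hOH hgen hnc hloc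
      (fun N _ hN hNd => hsmall (G ⧸ N) (card_quotient_lt N hN) _ (hF.quot N hNd)), ?_⟩
    exact eq_top_iff.2 (hOH.ge.trans (sup_le_sup_left le_normalizer O))

/-- An extremely closed abelian `p`-subgroup for odd `p`. -/
theorem main {G : Type u} [Group G] [Finite G] {p : ℕ} [Fact p.Prime] (hp2 : p ≠ 2)
    (H : Subgroup G) (hHp : IsPGroup p H) (hHab : IsMulCommutative H)
    (hcl : IsExtremelyClosed H) :
    normalClosure (H : Set G) ⊓ normalizer (H : Set G) = H ∧
      normalizer (H : Set G) ⊔ pPrimeCore p G = ⊤ := by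
  obtain ⟨W, hWn, hWd, hWi, hWt⟩ := main_aux p hp2 _ G rfl H
    ⟨hHp, fun a ha b hb => congrArg Subtype.val (hHab.is_comm.comm ⟨a, ha⟩ ⟨b, hb⟩), hcl⟩
  refine ⟨le_antisymm ?_ (le_inf subset_normalClosure le_normalizer), ?_⟩
  · rintro x ⟨hx, hxn⟩
    obtain ⟨w, hw, h, hh, rfl⟩ := mem_sup_of_normal_left.1 (Concl.normalClosure_le hWt hx)
    have : w ∈ normalizer (H : Set G) := by
      have hxn' : w * h ∈ normalizer (H : Set G) := hxn
      have := mul_mem hxn' (inv_mem (le_normalizer hh))
      simpa using this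
    rw [hWi w hw this, one_mul]
    exact hh
  · rw [eq_top_iff, ← hWt]
    exact sup_le ((HallCore.le_pPrimeCore ((Nat.Prime.coprime_iff_not_dvd
      (Fact.out : p.Prime)).2 hWd).symm).trans le_sup_right) le_sup_left

end Cfsg.Agent.ExtremelyClosedOdd6
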