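import Mathlib

/-!
Extremely primitive groups (every point stabilizer is primitive on each of its orbits):
Manning's theorem and its immediate consequences.
-/

set_option autoImplicit false

namespace Cfsg.Agent.ExtremelyPrimitive

open MulAction

variable {G Ω : Type*} [Group G] [MulAction G Ω]

variable (G Ω) in
/-- each point stabilizer is primitive on each of its orbits -/
def IsEP : Prop := ∀ (α ω : Ω), IsPreprimitive (stabilizer G α) (orbit (stabilizer G α) ω)

/-- the elements fixing `a` and the suborbit of `b` pointwise -/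
def ker (a b : Ω) : Subgroup G where
  carrier := {g | g • a = a ∧ ∀ x ∈ orbit (stabilizer G a) b, g • x = x}
  one_mem' := ⟨one_smul _ _, fun _ _ => one_smul _ _⟩
  mul_mem' := fun {g h} hg hh =>
    ⟨by rw [mul_smul, hh.1, hg.1], fun x hx => by rw [mul_smul, hh.2 x hx, hg.2 x hx]⟩
  inv_mem' := fun {g} hg =>
    ⟨inv_smul_eq_iff.mpr hg.1.symm, fun x hx => inv_smul_eq_iff.mpr (hg.2 x hx).symm⟩

theorem ker_le_stabilizer (a b : Ω) : ker (G := G) a b ≤ stabilizer G a := fun _ h => h.1

theorem fixes_of_mem_ker {a b : Ω} {g : G} (h : g ∈ ker a b) : g • b = b := h.2 b (mem_orbit_self b)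

theorem orbit_transport (g : G) (a b x : Ω) :
    x ∈ orbit (stabilizer G a) b ↔ g • x ∈ orbit (stabilizer G (g • a)) (g • b) := by
  constructor
  · rintro ⟨h, rfl⟩
    refine ⟨⟨g * (h : G) * g⁻¹, ?_⟩, ?_⟩
    · rw [mem_stabilizer_iff, mul_smul, mul_smul, inv_smul_smul, mem_stabilizer_iff.mp h.2]
    · show (g * (h : G) * g⁻¹) • g • b = g • ((h : G) • b)
      rw [mul_smul, mul_smul, inv_smul_smul]
  · rintro ⟨h, hh⟩
    refine ⟨⟨g⁻¹ * (h : G) * g, ?_⟩, ?_⟩
    · rw [mem_stabilizer_iff, mul_smul, mul_smul, mem_stabilizer_iff.mp h.2, inv_smul_smul]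
    · show (g⁻¹ * (h : G) * g) • b = x
      rw [mul_smul, mul_smul, inv_smul_eq_iff]
      exact hh

theorem card_orbit_transport (g : G) (a b : Ω) :
    Nat.card (orbit (stabilizer G (g • a)) (g • b)) = Nat.card (orbit (stabilizer G a) b) := by
  symm
  refine Nat.card_congr ((MulAction.toPerm g).subtypeEquiv fun x => ?_)
  exact orbit_transport g a b x

theorem ker_transport (g : G) (a b : Ω) :
    ker (G := G) (g • a) (g • b) = (ker a b).map (MulAut.conj g).toMonoidHom := by
  ext x
  constructor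
  · intro hx
    refine ⟨g⁻¹ * x * g, ⟨?_, fun y hy => ?_⟩, by simp [mul_assoc]⟩
    · rw [mul_smul, mul_smul, hx.1, inv_smul_smul]
    · rw [mul_smul, mul_smul, hx.2 _ ((orbit_transport g a b y).mp hy), inv_smul_smul]
  · rintro ⟨y, hy, rfl⟩
    refine ⟨?_, fun z hz => ?_⟩
    · show (g * y * g⁻¹) • g • a = g • a
      rw [mul_smul, mul_smul, inv_smul_smul, hy.1]
    · show (g * y * g⁻¹) • z = z
      have h1 : g⁻¹ • z ∈ orbit (stabilizer G a) b := by
        rw [orbit_transport g, smul_inv_smul]; exact hz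
      rw [mul_smul, mul_smul, hy.2 _ h1, smul_inv_smul]

theorem card_ker_transport (g : G) (a b : Ω) :
    Nat.card (ker (G := G) (g • a) (g • b)) = Nat.card (ker (G := G) a b) := by
  rw [ker_transport, Subgroup.card_map_of_injective (MulAut.conj g).injective]

theorem stabilizer_le_normalizer_ker (a b : Ω) :
    stabilizer G a ≤ Subgroup.normalizer ((ker (G := G) a b : Subgroup G) : Set G) := by
  intro h hh
  rw [Subgroup.mem_normalizer_iff]
  have key : ∀ h ∈ stabilizer G a, ∀ x ∈ ker (G := G) a b, h * x * h⁻¹ ∈ ker (G := G) a b := by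
    intro h hh x hx
    refine ⟨?_, fun y hy => ?_⟩
    · rw [mul_smul, mul_smul, inv_smul_eq_iff.mpr (mem_stabilizer_iff.mp hh).symm, hx.1, mem_stabilizer_iff.mp hh]
    · have h1 : h⁻¹ • y ∈ orbit (stabilizer G a) b := by
        obtain ⟨k, rfl⟩ := hy
        exact ⟨⟨h⁻¹, inv_mem hh⟩ * k, mul_smul _ _ _⟩
      rw [mul_smul, mul_smul, hx.2 _ h1, smul_inv_smul]
  intro x
  exact ⟨key h hh x, fun hx => by simpa [mul_assoc] using key h⁻¹ (inv_mem hh) _ hx⟩

section

variable [IsPreprimitive G Ω] [FaithfulSMul G Ω] [Nontrivial Ω]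

theorem eq_of_fixed (hH : ∀ a : Ω, stabilizer G a ≠ ⊥) {a b : Ω}
    (h : stabilizer G a ≤ stabilizer G b) : b = a := by
  have hmax := IsPreprimitive.isCoatom_stabilizer_of_isPreprimitive (G := G) a
  have hmaxb := IsPreprimitive.isCoatom_stabilizer_of_isPreprimitive (G := G) b
  rcases hmax.le_iff.mp h with hb | hb
  · exact absurd hb hmaxb.1
  obtain ⟨g, hg⟩ := exists_smul_eq G a b
  have hgn : g ∈ Subgroup.normalizer ((stabilizer G a : Subgroup G) : Set G) := by
    rw [Subgroup.mem_normalizer_iff]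
    intro x
    conv_rhs => rw [← hb]
    rw [mem_stabilizer_iff, mem_stabilizer_iff, ← hg, mul_smul, mul_smul, inv_smul_smul]
    exact (MulAction.injective g).eq_iff.symm
  rcases hmax.le_iff.mp (Subgroup.le_normalizer : stabilizer G a ≤ _) with hn | hn
  · exfalso
    refine hH a ((Subgroup.eq_bot_iff_forall _).mpr fun x hx => eq_of_smul_eq_smul fun c : Ω => ?_)
    obtain ⟨k, rfl⟩ := exists_smul_eq G a c
    have h1 : k⁻¹ * x * k ∈ stabilizer G a := by
      have := (Subgroup.mem_normalizer_iff.mp (hn ▸ Subgroup.mem_top k⁻¹ : k⁻¹ ∈ Subgroup.normalizer _) x).mp hx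
      simpa using this
    rw [mem_stabilizer_iff, mul_smul, mul_smul, inv_smul_eq_iff] at h1
    rw [one_smul, h1]
  · rw [hn] at hgn
    exact hg.symm.trans hgn

theorem stabilizer_sup_eq_top (hH : ∀ a : Ω, stabilizer G a ≠ ⊥) {a b : Ω} (hab : b ≠ a) :
    stabilizer G a ⊔ stabilizer G b = ⊤ := by
  have hmax := IsPreprimitive.isCoatom_stabilizer_of_isPreprimitive (G := G) a
  rcases hmax.le_iff.mp (le_sup_left (b := stabilizer G b)) with h | h
  · exact h
  · exact absurd (eq_of_fixed hH (a := b) (b := a) (le_sup_right.trans h.le)) hab.symm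

theorem orbit_ne (a : Ω) {b : Ω} (hb : b ≠ a) : a ∉ orbit (stabilizer G a) b := by
  rintro ⟨h, hh⟩
  exact hb (MulAction.injective (h : G) (hh.trans (mem_stabilizer_iff.mp h.2).symm))

omit [IsPreprimitive G Ω] [FaithfulSMul G Ω] [Nontrivial Ω] in
/-- a subgroup normalized by a stabilizer moves all or none of a suborbit -/
theorem transitive_or_fix (hep : IsEP G Ω) {a b : Ω} (K : Subgroup G) (hK : K ≤ stabilizer G a)
    (hKn : stabilizer G a ≤ Subgroup.normalizer (K : Set G)) (hne : ¬ K ≤ ker a b) :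
    orbit K b = orbit (stabilizer G a) b := by
  haveI := hep a b
  haveI : (K.subgroupOf (stabilizer G a)).Normal := (Subgroup.normal_subgroupOf_iff_le_normalizer hK).mpr hKn
  have ht : IsPretransitive (K.subgroupOf (stabilizer G a)) (orbit (stabilizer G a) b) := by
    refine IsQuasiPreprimitive.isPretransitive_of_normal (G := stabilizer G a) fun h => hne fun k hk => ?_
    refine ⟨hK hk, fun x hx => ?_⟩
    have h1 : (⟨x, hx⟩ : orbit (stabilizer G a) b) ∈ fixedPoints (K.subgroupOf (stabilizer G a)) (orbit (stabilizer G a) b) :=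
      h ▸ Set.mem_univ _
    exact congrArg Subtype.val (h1 (⟨⟨k, hK hk⟩, hk⟩ : K.subgroupOf (stabilizer G a)))
  refine Set.Subset.antisymm ?_ ?_
  · rintro _ ⟨k, rfl⟩
    exact ⟨⟨k, hK k.2⟩, rfl⟩
  · intro x hx
    obtain ⟨k, hk⟩ := exists_smul_eq (K.subgroupOf (stabilizer G a))
      (⟨b, mem_orbit_self b⟩ : orbit (stabilizer G a) b) ⟨x, hx⟩
    exact ⟨⟨(k : stabilizer G a), k.2⟩, congrArg Subtype.val hk⟩

variable [Finite G] [Finite Ω]

/-- Manning's theorem. -/
theorem ker_eq_bot (hep : IsEP G Ω) (hH : ∀ a : Ω, stabilizer G a ≠ ⊥) {a₀ b₀ : Ω} (h₀ : b₀ ≠ a₀) :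
    ker (G := G) a₀ b₀ = ⊥ := by
  classical
  by_contra hk₀
  set s : Ω → Ω → ℕ := fun a b => Nat.card (orbit (stabilizer G a) b) with hs
  -- `K(x,y)` centralizes-away lemma: if `K(x,y)` moves `c`, then `s(y,c) > s(x,c)`
  have grow : ∀ x y c : Ω, y ≠ x → c ≠ x → ¬ ker (G := G) x y ≤ ker x c →
      orbit (stabilizer G x) c ⊆ orbit (stabilizer G y) c ∧ s x c < s y c := by
    intro x y c hyx hcx hne
    have htr := transitive_or_fix hep (ker (G := G) x y) (ker_le_stabilizer x y) (stabilizer_le_normalizer_ker x y) hne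
    have hsub : orbit (stabilizer G x) c ⊆ orbit (stabilizer G y) c := by
      rw [← htr]
      rintro _ ⟨k, rfl⟩
      exact ⟨⟨k, fixes_of_mem_ker k.2⟩, rfl⟩
    refine ⟨hsub, ?_⟩
    by_contra hlt
    have hle : (orbit (stabilizer G y) c).ncard ≤ (orbit (stabilizer G x) c).ncard := by
      rw [← Nat.card_coe_set_eq, ← Nat.card_coe_set_eq]
      exact not_lt.mp hlt
    have heq := Set.eq_of_subset_of_ncard_le hsub hle (Set.toFinite _)
    -- the suborbit would be invariant under the whole group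
    set S := orbit (stabilizer G x) c with hS
    let St : Subgroup G :=
      { carrier := {g | ∀ z, g • z ∈ S ↔ z ∈ S}
        one_mem' := fun z => by rw [one_smul]
        mul_mem' := fun {g h} hg hh z => by rw [mul_smul, hg, hh]
        inv_mem' := fun {g} hg z => by rw [← hg, smul_inv_smul] }
    have hinv : ∀ (w : Ω) (T : Set Ω), T = orbit (stabilizer G w) c → T = S → stabilizer G w ≤ St := by
      intro w T hT hTS g hg z
      rw [← hTS, hT]
      constructor
      · rintro ⟨k, hk⟩
        refine ⟨⟨g, hg⟩⁻¹ * k, ?_⟩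
        show ((⟨g, hg⟩ : stabilizer G w)⁻¹ * k) • c = z
        rw [mul_smul, inv_smul_eq_iff]
        exact hk
      · rintro ⟨k, rfl⟩
        exact ⟨⟨g, hg⟩ * k, mul_smul _ _ _⟩
    have htop : ⊤ ≤ St := stabilizer_sup_eq_top hH hyx ▸ sup_le (hinv x _ rfl rfl) (hinv y _ rfl heq.symm)
    obtain ⟨g, hg⟩ := exists_smul_eq G c x
    exact orbit_ne x hcx (hg ▸ ((htop (Subgroup.mem_top g)) c).mpr (mem_orbit_self c))
  -- a pair with the largest suborbit
  obtain ⟨a', b', hab', hmax'⟩ : ∃ a b : Ω, b ≠ a ∧ ∀ x y : Ω, y ≠ x → s x y ≤ s a b := by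
    obtain ⟨⟨a, b⟩, hab, hm⟩ := Set.exists_max_image {p : Ω × Ω | p.2 ≠ p.1} (fun p => s p.1 p.2)
      (Set.toFinite _) ⟨(a₀, b₀), h₀⟩
    exact ⟨a, b, hab, fun x y hxy => hm (x, y) hxy⟩
  obtain ⟨g₁, hg₁⟩ := exists_smul_eq G a₀ a'
  set a := a' with ha
  set b := b'
  -- every nontrivial kernel at `a` fixes every largest suborbit at `a`
  have step : ∀ y c : Ω, y ≠ a → c ≠ a → s a c = s a b → ker (G := G) a y ≤ ker a c := by
    intro y c hy hc hsc
    by_contra hne
    obtain ⟨-, hlt⟩ := grow a y c hy hc hne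
    have hcy : c ≠ y := by
      rintro rfl
      exact hne le_rfl
    have := hmax' y c hcy
    omega
  have hy₀ : g₁ • b₀ ≠ a := fun e => h₀ (MulAction.injective g₁ (e.trans hg₁.symm))
  have hKne : ker (G := G) a (g₁ • b₀) ≠ ⊥ := by
    rw [← hg₁, ker_transport, ne_eq, Subgroup.map_eq_bot_iff_of_injective _ (MulAut.conj g₁).injective]
    exact hk₀
  have hKs : ker (G := G) a b ≠ ⊥ := fun e => hKne (le_bot_iff.mp (e ▸ step _ b hy₀ hab' rfl))
  -- the reversed pair
  obtain ⟨g, hg⟩ := exists_smul_eq G b a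
  have hga : g • a ≠ a := fun e => hab' (MulAction.injective g (hg.trans e.symm))
  have hsym : s b a = s a b := by
    have e1 : ∀ x y : Ω, s x y * Nat.card ↥(stabilizer G x ⊓ stabilizer G y) = Nat.card (stabilizer G x) := by
      intro x y
      have h2 : Nat.card ↥(stabilizer G x ⊓ stabilizer G y) = Nat.card (stabilizer (stabilizer G x) y) := by
        refine Nat.card_congr
          { toFun := fun z => ⟨⟨z, z.2.1⟩, z.2.2⟩
            invFun := fun z => ⟨((z : stabilizer G x) : G), (z : stabilizer G x).2, z.2⟩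
            left_inv := fun z => rfl
            right_inv := fun z => rfl }
      rw [h2, hs]
      simp only
      rw [Nat.card_coe_set_eq, ← index_stabilizer, Subgroup.index_mul_card]
    have h3 := e1 a b
    have h4 := e1 b a
    rw [inf_comm] at h4
    have h5 : Nat.card (stabilizer G b) = Nat.card (stabilizer G a) := by
      rw [← hg, stabilizer_smul_eq_stabilizer_map_conj, Subgroup.card_map_of_injective (MulAut.conj g).injective]
    exact Nat.eq_of_mul_eq_mul_right Nat.card_pos (h4.trans (h5.trans h3.symm))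
  have hsga : s a (g • a) = s a b := by
    rw [← hsym]
    show Nat.card (orbit (stabilizer G a) (g • a)) = _
    conv_lhs => rw [← hg]
    rw [hg]
    exact hg ▸ card_orbit_transport g b a
  have hle1 := step b (g • a) hab' hga hsga
  have hle2 := step (g • a) b hga hab' rfl
  have hstar : ker (G := G) a (g • a) = ker a b := le_antisymm hle2 hle1
  have hK' : ker (G := G) a b = (ker b a).map (MulAut.conj g).toMonoidHom := by
    rw [← hstar, ← ker_transport g b a, hg]
  -- `K(b,a)` lies in `K(a,b)`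
  have hmain : ker (G := G) b a ≤ ker a b := by
    -- a point moved by `K(a,b)` with the largest suborbit
    obtain ⟨c₀, hc₀⟩ : ∃ c : Ω, c ∈ {c : Ω | c ≠ a ∧ ¬ ker (G := G) a b ≤ ker a c} := by
      by_contra hnone
      push Not at hnone
      refine hKs ((Subgroup.eq_bot_iff_forall _).mpr fun k hk => eq_of_smul_eq_smul fun c : Ω => ?_)
      rw [one_smul]
      by_cases hc : c = a
      · rw [hc]; exact hk.1
      · refine fixes_of_mem_ker (a := a) (?_ : k ∈ ker a c)
        by_contra hkc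
        exact hnone c ⟨hc, fun hle => hkc (hle hk)⟩
    obtain ⟨c, ⟨hca, hc⟩, hcmax⟩ := Set.exists_max_image {c : Ω | c ≠ a ∧ ¬ ker (G := G) a b ≤ ker a c}
      (fun c => s a c) (Set.toFinite _) ⟨c₀, hc₀⟩
    obtain ⟨hsub, hlt⟩ := grow a b c hab' hca hc
    have hcb : c ≠ b := fun e => hc (e ▸ le_rfl)
    have hfix : ker (G := G) b a ≤ ker b c := by
      have hsc : s a (g • c) = s b c := hg ▸ card_orbit_transport g b c
      have hgc : g • c ≠ a := fun e => hcb (MulAction.injective g (e.trans hg.symm))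
      have hle : ker (G := G) a b ≤ ker a (g • c) := by
        by_contra hne
        have := hcmax (g • c) ⟨hgc, hne⟩
        omega
      have h2 : ker (G := G) a (g • c) = (ker b c).map (MulAut.conj g).toMonoidHom := hg ▸ ker_transport g b c
      rw [hK', h2] at hle
      exact (Subgroup.map_le_map_iff_of_injective (MulAut.conj g).injective).mp hle
    have h6 : ker (G := G) b a ≤ ker a c := by
      intro k hk
      exact ⟨fixes_of_mem_ker hk, fun x hx => (hfix hk).2 x (hsub hx)⟩
    exact h6.trans (step c b hca hab' rfl)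
  have heq : ker (G := G) b a = ker a b := by
    refine Subgroup.eq_of_le_of_card_ge hmain ?_
    rw [hK', Subgroup.card_map_of_injective (MulAut.conj g).injective]
  -- so it is normal
  have hnorm : (ker (G := G) a b).Normal := by
    rw [← Subgroup.normalizer_eq_top_iff, ← top_le_iff, ← stabilizer_sup_eq_top hH hab']
    exact sup_le (stabilizer_le_normalizer_ker a b) (heq ▸ stabilizer_le_normalizer_ker b a)
  refine hKs ((Subgroup.eq_bot_iff_forall _).mpr fun x hx => eq_of_smul_eq_smul fun c : Ω => ?_)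
  obtain ⟨k, rfl⟩ := exists_smul_eq G a c
  have h7 : k⁻¹ * x * k ∈ ker (G := G) a b := by simpa using hnorm.conj_mem x hx k⁻¹
  have h8 : (k⁻¹ * x * k) • a = a := h7.1
  rw [mul_smul, mul_smul, inv_smul_eq_iff] at h8
  rw [one_smul, h8]

/-- a nontrivial normal subgroup of a stabilizer has the same orbits -/
theorem orbit_eq (hep : IsEP G Ω) (hH : ∀ a : Ω, stabilizer G a ≠ ⊥) {a : Ω} (K : Subgroup G)
    (hK : K ≤ stabilizer G a) (hKn : stabilizer G a ≤ Subgroup.normalizer (K : Set G)) (hK1 : K ≠ ⊥)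
    (b : Ω) : orbit K b = orbit (stabilizer G a) b := by
  by_cases hb : b = a
  · subst hb
    ext x
    constructor
    · rintro ⟨k, rfl⟩; exact ⟨⟨k, hK k.2⟩, rfl⟩
    · rintro ⟨k, rfl⟩; exact ⟨1, (one_smul _ b).trans (mem_stabilizer_iff.mp k.2).symm⟩
  · exact transitive_or_fix hep K hK hKn fun h => hK1 (le_bot_iff.mp (ker_eq_bot hep hH hb ▸ h))

omit [Finite G] [Finite Ω] in
theorem isCoatom_stabilizer (hep : IsEP G Ω) (hH : ∀ a : Ω, stabilizer G a ≠ ⊥) {a b : Ω} (hb : b ≠ a) :
    IsCoatom (stabilizer (stabilizer G a) b) := by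
  haveI := hep a b
  have he : stabilizer (stabilizer G a) (⟨b, mem_orbit_self b⟩ : orbit (stabilizer G a) b) = stabilizer (stabilizer G a) b := by
    ext x
    exact ⟨fun h => congrArg Subtype.val h, fun h => Subtype.ext h⟩
  haveI : Nontrivial (orbit (stabilizer G a) b) := by
    by_contra hnt
    rw [not_nontrivial_iff_subsingleton] at hnt
    refine hb (eq_of_fixed hH fun x hx => ?_)
    exact congrArg Subtype.val (Subsingleton.elim (α := orbit (stabilizer G a) b)
      ⟨x • b, ⟨⟨x, hx⟩, rfl⟩⟩ ⟨b, mem_orbit_self b⟩)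
  rw [← he]
  exact IsPreprimitive.isCoatom_stabilizer_of_isPreprimitive (G := stabilizer G a) (⟨b, mem_orbit_self b⟩ : orbit (stabilizer G a) b)

end

end Cfsg.Agent.ExtremelyPrimitive
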