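import Cfsg.Agent.Lib.ExtremelyPrimitive
import Cfsg.Agent.Lib.CentralizerCount
import Cfsg.Agent.Lib.PrimitiveDichotomy

/-! An extremely primitive group is affine or almost simple. -/

set_option autoImplicit false

namespace Cfsg.Agent.ExtremelyPrimitiveSocle

open MulAction MinNormalFactors ExtremelyPrimitive
open scoped commutatorElement

variable {G Ω : Type*} [Group G] [Finite G] [MulAction G Ω] [FaithfulSMul G Ω] [Finite Ω]
  [IsPreprimitive G Ω] [Nontrivial Ω]

/-- Two commuting transitive subgroups, permuted by the stabilizer, cannot be perfect. -/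
theorem no_pair (hep : IsEP G Ω) (hH : ∀ a : Ω, stabilizer G a ≠ ⊥) (α : Ω) (M L : Subgroup G)
    [IsPretransitive M Ω] [IsPretransitive L Ω]
    (hcomm : ∀ m ∈ M, ∀ l ∈ L, m * l = l * m) (hinf : M ⊓ L = ⊥) (hM1 : M ≠ ⊥)
    (hperf : ⁅M, M⁆ = M)
    (hnab : ∀ A : Subgroup G, A ≤ M → M ≤ Subgroup.normalizer (A : Set G) → IsMulCommutative A → A = ⊥)
    (hsup : stabilizer G α ≤ Subgroup.normalizer ((M ⊔ L : Subgroup G) : Set G))
    (hswap : ∀ g ∈ stabilizer G α, ∀ x ∈ M, g * x * g⁻¹ ∈ M ∨ g * x * g⁻¹ ∈ L) : False := by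
  classical
  set H := stabilizer G α with hHdef
  have hsM : ∀ m ∈ M, ∀ a : Ω, m • a = a → m = 1 := fun m hm a =>
    PermBasic.eq_one_of_commute_transitive L (fun l hl => hcomm m hm l hl)
  have hsL : ∀ l ∈ L, ∀ a : Ω, l • a = a → l = 1 := fun l hl a =>
    PermBasic.eq_one_of_commute_transitive M (fun m hm => (hcomm m hm l hl).symm)
  choose φ hφ using fun m : M => exists_smul_eq L α ((m : G)⁻¹ • α)
  have hφ' : ∀ m : M, ((m : G) * (φ m : G)) • α = α := fun m => by
    rw [mul_smul]
    have h : (φ m : G) • α = (m : G)⁻¹ • α := hφ m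
    rw [h, smul_inv_smul]
  have huniq : ∀ (m : M) (l : G), l ∈ L → ((m : G) * l) • α = α → l = φ m := by
    intro m l hl h
    have h1 : ((φ m : G)⁻¹ * l) • α = α := by
      rw [mul_smul, inv_smul_eq_iff]
      apply MulAction.injective (m : G)
      show (m : G) • l • α = (m : G) • (φ m : G) • α
      rw [← mul_smul, ← mul_smul, h, hφ']
    exact (inv_mul_eq_one.mp (hsL _ (L.mul_mem (L.inv_mem (φ m).2) hl) α h1)).symm
  have hmul : ∀ m m' : M, (φ (m * m') : G) = φ m * φ m' := by
    intro m m'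
    refine (huniq (m * m') _ (L.mul_mem (φ m).2 (φ m').2) ?_).symm
    rw [Subgroup.coe_mul, mul_assoc, ← mul_assoc (m' : G), hcomm m' m'.2 _ (φ m).2, mul_assoc,
      ← mul_assoc, mul_smul, hφ', hφ']
  let d : M →* H := MonoidHom.mk' (fun m => ⟨(m : G) * φ m, hφ' m⟩) (fun m m' => by
    apply Subtype.ext
    show ((m * m' : M) : G) * (φ (m * m') : G) = ((m : G) * φ m) * ((m' : G) * φ m')
    rw [hmul, Subgroup.coe_mul, mul_assoc, ← mul_assoc (m' : G), hcomm m' m'.2 _ (φ m).2]
    group)
  have hdinj : Function.Injective d := by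
    rw [injective_iff_map_eq_one]
    intro m hm
    have h1 : (m : G) * φ m = 1 := congrArg Subtype.val hm
    have h2 : (m : G) ∈ M ⊓ L := ⟨m.2, by rw [eq_inv_of_mul_eq_one_left h1]; exact L.inv_mem (φ m).2⟩
    rw [hinf, Subgroup.mem_bot] at h2
    exact Subtype.ext h2
  -- the range of `d` is normal in `H`
  have hrange : ∀ h : H, (h : G) ∈ M ⊔ L → h ∈ d.range := by
    intro h hh
    rw [← SetLike.mem_coe, Subgroup.coe_mul_of_left_le_normalizer_right] at hh
    · obtain ⟨m, hm, l, hl, hml⟩ := hh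
      refine ⟨⟨m, hm⟩, Subtype.ext ?_⟩
      show m * (φ ⟨m, hm⟩ : G) = h
      rw [← huniq ⟨m, hm⟩ l hl (by show (m * l) • α = α; rw [show m * l = (h : G) from hml]; exact h.2)]
      exact hml
    · refine le_normalizer_of_forall fun m hm l hl => ?_
      rw [hcomm m hm l hl, mul_inv_cancel_right]
      exact hl
  haveI hDn : d.range.Normal := by
    refine ⟨fun x hx h => hrange _ ?_⟩
    obtain ⟨m, rfl⟩ := hx
    exact conj_mem_of_le_normalizer (hsup h.2) (Subgroup.mul_mem_sup m.2 (φ m).2)
  -- stabilizers of the points `x • α`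
  have hmem : ∀ x y : M, d x ∈ stabilizer H ((y : G) • α) ↔ x ∈ Subgroup.centralizer ({y} : Set M) := by
    intro x y
    have e : ((x : G) * φ x) • ((y : G) • α) = ((x : G) * y * (x : G)⁻¹) • α := by
      rw [mul_smul, ← mul_smul (φ x : G), ← hcomm _ y.2 _ (φ x).2, mul_smul]
      have h : (φ x : G) • α = (x : G)⁻¹ • α := hφ x
      rw [h, ← mul_smul, ← mul_smul, mul_assoc]
    rw [CentralizerCount.mem_cent, mem_stabilizer_iff, Subgroup.smul_def]
    show ((x : G) * φ x) • ((y : G) • α) = (y : G) • α ↔ _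
    rw [e]
    constructor
    · intro h
      have := hsM ((y : G)⁻¹ * ((x : G) * y * (x : G)⁻¹))
        (M.mul_mem (M.inv_mem y.2) (M.mul_mem (M.mul_mem x.2 y.2) (M.inv_mem x.2))) α
        (by rw [mul_smul, h, inv_smul_smul])
      rw [inv_mul_eq_one, eq_mul_inv_iff_mul_eq] at this
      exact Subtype.ext this
    · intro h
      have h' : (y : G) * x = x * y := congrArg Subtype.val h
      rw [← h', mul_inv_cancel_right]
  have hne : ∀ y : M, y ≠ 1 → (y : G) • α ≠ α := fun y hy h => hy (Subtype.ext (hsM y y.2 α h))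
  have hpowfix : ∀ (y : M) (k : ℕ), stabilizer H ((y : G) • α) ≤ stabilizer H (((y ^ k : M) : G) • α) := by
    intro y k h hh
    have hhα : (h : G) • α = α := h.2
    set z := (h : G) * y * (h : G)⁻¹ with hz
    have hzy : z • α = (y : G) • α := (PermBasic.conj_smul_eq hhα y).trans hh
    have hc : Commute z (y : G) := by
      rcases hswap h h.2 y y.2 with hm | hl
      · have := hsM ((y : G)⁻¹ * z) (M.mul_mem (M.inv_mem y.2) hm) α (by rw [mul_smul, hzy, inv_smul_smul])
        rw [← inv_mul_eq_one.mp this]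
      · exact (hcomm y y.2 z hl).symm
    have hfix : ((y : G)⁻¹ * z) ∈ stabilizer G α := by
      rw [mem_stabilizer_iff, mul_smul, hzy, inv_smul_smul]
    have hfix' := (stabilizer G α).pow_mem hfix k
    rw [(hc.symm.inv_left).mul_pow, inv_pow, mem_stabilizer_iff, mul_smul, inv_smul_eq_iff] at hfix'
    rw [mem_stabilizer_iff, Subgroup.smul_def, Subgroup.coe_pow, ← PermBasic.conj_smul_eq hhα, ← conj_pow]
    exact hfix'
  -- stabilizers are maximal
  have hmax : ∀ y : M, y ≠ 1 → IsCoatom (stabilizer H ((y : G) • α)) := fun y hy =>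
    ExtremelyPrimitive.isCoatom_stabilizer hep hH (hne y hy)
  haveI : Nontrivial M := (Subgroup.nontrivial_iff_ne_bot M).mpr hM1
  refine CentralizerCount.false_of_conditions (M := M) ?_ ?_ ?_
  · apply Subgroup.map_injective M.subtype_injective
    rw [map_commutator_eq, ← MonoidHom.range_eq_map, Subgroup.range_subtype, hperf]
  · intro y hy
    set C := Subgroup.centralizer ({y} : Set M) with hC
    set DC := C.map d with hDC
    have hDCeq : DC = d.range ⊓ stabilizer H ((y : G) • α) := by
      ext w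
      constructor
      · rintro ⟨x, hx, rfl⟩
        exact ⟨⟨x, rfl⟩, (hmem x y).mpr hx⟩
      · rintro ⟨⟨x, rfl⟩, hw⟩
        exact ⟨x, (hmem x y).mp hw, rfl⟩
    have hle : stabilizer H ((y : G) • α) ≤ Subgroup.normalizer (DC : Set H) := by
      refine le_normalizer_of_forall fun h hh w hw => ?_
      rw [hDCeq] at hw ⊢
      exact ⟨hDn.conj_mem w hw.1 h, (stabilizer H ((y : G) • α)).mul_mem
        ((stabilizer H ((y : G) • α)).mul_mem hh hw.2) ((stabilizer H ((y : G) • α)).inv_mem hh)⟩
    have hdN : ∀ n : M, d n ∈ Subgroup.normalizer (DC : Set H) ↔ n ∈ Subgroup.normalizer (C : Set M) := by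
      intro n
      rw [Subgroup.mem_normalizer_iff, Subgroup.mem_normalizer_iff]
      constructor
      · intro h x
        have := h (d x)
        rwa [← map_inv, ← map_mul, ← map_mul, hDC, Subgroup.mem_map_iff_mem hdinj,
          Subgroup.mem_map_iff_mem hdinj] at this
      · intro h w
        constructor
        · rintro ⟨x, hx, rfl⟩
          exact ⟨n * x * n⁻¹, (h x).mp hx, by simp⟩
        · rintro ⟨x, hx, hxw⟩
          refine ⟨n⁻¹ * x * n, (h _).mpr (by simpa [mul_assoc] using hx), ?_⟩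
          simp only [map_mul, map_inv, hxw]
          group
    refine le_antisymm (fun n hn => ?_) Subgroup.le_normalizer
    rcases (hmax y hy).le_iff.mp hle with h | h
    · -- `C` would be normal
      exfalso
      have hall : ∀ m : M, m ∈ Subgroup.normalizer (C : Set M) := fun m =>
        (hdN m).mp (h ▸ Subgroup.mem_top (d m))
      haveI hCn : C.Normal := Subgroup.normalizer_eq_top_iff.mp ((Subgroup.eq_top_iff' _).mpr hall)
      set A := ((Subgroup.center C).map C.subtype).map M.subtype with hA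
      have hZn : ((Subgroup.center C).map C.subtype).Normal := inferInstance
      have hAM : A ≤ M := Subgroup.map_subtype_le _
      have hAn : M ≤ Subgroup.normalizer (A : Set G) := by
        refine le_normalizer_of_forall fun m hm a ha => ?_
        obtain ⟨a, ha, rfl⟩ := ha
        exact ⟨⟨m, hm⟩ * a * ⟨m, hm⟩⁻¹, hZn.conj_mem a ha _, rfl⟩
      have hAab : IsMulCommutative A := by
        refine ⟨⟨fun a b => Subtype.ext ?_⟩⟩
        obtain ⟨_, ⟨a', ha', rfl⟩, ha2⟩ := a.2
        obtain ⟨_, ⟨b', hb', rfl⟩, hb2⟩ := b.2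
        show (a : G) * b = b * a
        rw [← ha2, ← hb2]
        exact congrArg (fun z : C => ((z : M) : G)) (Subgroup.mem_center_iff.mp hb' a')
      have hAbot := hnab A hAM hAn hAab
      have hyA : (y : G) ∈ A := by
        refine ⟨y, ⟨⟨y, CentralizerCount.self_mem y⟩, Subgroup.mem_center_iff.mpr fun z => Subtype.ext ?_, rfl⟩, rfl⟩
        exact (CentralizerCount.mem_cent.mp z.2).symm
      rw [hAbot, Subgroup.mem_bot] at hyA
      exact hy (Subtype.ext hyA)
    · have := (hdN n).mpr hn
      rw [h] at this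
      exact (hmem n y).mp this
  · intro y k hk
    have hy : y ≠ 1 := fun e => hk (by rw [e, one_pow])
    have heq : stabilizer H (((y ^ k : M) : G) • α) = stabilizer H ((y : G) • α) :=
      ((hmax y hy).le_iff.mp (hpowfix y k)).resolve_left (hmax _ hk).1
    ext x
    rw [← hmem, ← hmem, heq]

/-- A single minimal normal subgroup with several factors is impossible. -/
theorem no_many_factors (hep : IsEP G Ω) (hH : ∀ a : Ω, stabilizer G a ≠ ⊥) (α : Ω) {N : Subgroup G}
    (hN : IsMNS N) (hab : ¬ IsMulCommutative N) {T : Subgroup G} (hT : IsFactor N T)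
    {g₀ : G} (hg₀ : conjSub g₀ T ≠ T) : False := by
  classical
  haveI := hN.normal
  haveI := PermBasic.isPretransitive_of_normal (X := Ω) N hN.ne_bot
  set H := stabilizer G α with hHdef
  have hnz : ∀ {U : Subgroup G}, IsFactor N U → ∀ n ∈ N, conjSub n U = U := fun hU n hn =>
    conjSub_eq_self (hU.normalized hn)
  have hHconj : ∀ g : G, ∃ h ∈ H, conjSub g T = conjSub h T := by
    intro g
    obtain ⟨n, hn, s, hs, rfl⟩ := PermBasic.mul_stabilizer_eq_univ N α g
    exact ⟨s, hs, by rw [← conjSub_conjSub, hnz (hT.conj hN.normal s) n hn]⟩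
  obtain ⟨h₀, hh₀, hne₀⟩ := hHconj g₀
  have hne : conjSub h₀ T ≠ T := hne₀ ▸ hg₀
  have hfac : ∀ U, IsFactor N U → ∃ h ∈ H, conjSub h T = U := by
    intro U hU
    obtain ⟨g, hg⟩ := exists_conj hN hab hT hU
    obtain ⟨h, hh, he⟩ := hHconj g
    exact ⟨h, hh, he.symm.trans hg⟩
  set H0 := N ⊓ H with hH0
  by_cases hH0b : H0 = ⊥
  · -- twisted wreath type
    have hsN : ∀ n ∈ N, ∀ a : Ω, n • a = a → n = 1 := by
      intro n hn a ha
      obtain ⟨⟨m, hm⟩, rfl⟩ := exists_smul_eq N α a
      have hma : n • (m • α) = m • α := ha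
      have h1 : m⁻¹ * n * m ∈ H0 := ⟨N.mul_mem (N.mul_mem (N.inv_mem hm) hn) hm, by
        show (m⁻¹ * n * m) • α = α
        rw [mul_smul, mul_smul, inv_smul_eq_iff]
        exact hma⟩
      rw [hH0b, Subgroup.mem_bot] at h1
      calc n = m * (m⁻¹ * n * m) * m⁻¹ := by group
        _ = 1 := by rw [h1]; group
    have hcent : ∀ h ∈ H, conjSub h T = T → ∀ t ∈ T, h * t * h⁻¹ = t := by
      intro h hh hhT t ht
      by_cases ht1 : t = 1
      · rw [ht1]; group
      have hβ : t • α ≠ α := fun e => ht1 (hsN t (hT.le ht) α e)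
      set NT := (Subgroup.normalizer (T : Set G)).subgroupOf H with hNT
      have hle : stabilizer H (t • α) ≤ NT := by
        intro k hk
        refine mem_normalizer_of_conjSub_eq ?_
        have he : (k : G) * t * (k : G)⁻¹ = t := by
          have := hsN (t⁻¹ * ((k : G) * t * (k : G)⁻¹)) (N.mul_mem (N.inv_mem (hT.le ht))
            (hN.normal.conj_mem t (hT.le ht) k)) α (by
              rw [mul_smul, PermBasic.conj_smul_eq k.2, show (k : G) • t • α = t • α from hk, inv_smul_smul])
          exact (inv_mul_eq_one.mp this).symm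
        by_contra hne'
        have : t ∈ T ⊓ conjSub (k : G) T := ⟨ht, he ▸ conj_mem_conjSub ht⟩
        rw [hT.inf_eq_bot (hT.conj hN.normal k) (Ne.symm hne'), Subgroup.mem_bot] at this
        exact ht1 this
      have heq : NT = stabilizer H (t • α) :=
        ((ExtremelyPrimitive.isCoatom_stabilizer hep hH hβ).le_iff.mp hle).resolve_left fun e =>
          hne (conjSub_eq_self (show (⟨h₀, hh₀⟩ : H) ∈ NT from e ▸ Subgroup.mem_top _))
      have hk : (⟨h, hh⟩ : H) ∈ stabilizer H (t • α) := heq ▸ mem_normalizer_of_conjSub_eq hhT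
      have := hsN (t⁻¹ * (h * t * h⁻¹)) (N.mul_mem (N.inv_mem (hT.le ht)) (hN.normal.conj_mem t (hT.le ht) h)) α
        (by rw [mul_smul, PermBasic.conj_smul_eq hh, show h • t • α = t • α from hk, inv_smul_smul])
      exact (inv_mul_eq_one.mp this).symm
    obtain ⟨⟨a, ha⟩, ha0⟩ := Subgroup.ne_bot_iff_exists_ne_one.mp hT.ne_bot
    have ha1 : a ≠ 1 := fun e => ha0 (Subtype.ext e)
    have hOfin : {x : G | ∃ h ∈ H, h * a * h⁻¹ = x}.Finite := Set.toFinite _
    set O := hOfin.toFinset with hOdef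
    have hOmem : ∀ x, x ∈ O ↔ ∃ h ∈ H, h * a * h⁻¹ = x := fun x => Set.Finite.mem_toFinset hOfin
    have hsame : ∀ h₁ ∈ H, ∀ h₂ ∈ H, conjSub h₁ T = conjSub h₂ T → h₁ * a * h₁⁻¹ = h₂ * a * h₂⁻¹ := by
      intro h₁ hh₁ h₂ hh₂ he
      have := hcent (h₂⁻¹ * h₁) (H.mul_mem (H.inv_mem hh₂) hh₁)
        (by rw [← conjSub_conjSub, he, conjSub_conjSub, inv_mul_cancel, conjSub_one]) a ha
      calc h₁ * a * h₁⁻¹ = h₂ * ((h₂⁻¹ * h₁) * a * (h₂⁻¹ * h₁)⁻¹) * h₂⁻¹ := by group
        _ = h₂ * a * h₂⁻¹ := by rw [this]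
    have hcommO : ∀ x ∈ O, ∀ y ∈ O, Commute x y := by
      intro x hx y hy
      obtain ⟨h₁, hh₁, rfl⟩ := (hOmem x).mp hx
      obtain ⟨h₂, hh₂, rfl⟩ := (hOmem y).mp hy
      by_cases he : conjSub h₁ T = conjSub h₂ T
      · rw [hsame h₁ hh₁ h₂ hh₂ he]
      · exact (hT.conj hN.normal h₁).commute (hT.conj hN.normal h₂) he (conj_mem_conjSub ha) (conj_mem_conjSub ha)
    set u := O.val.noncommProd (fun x hx y hy _ => hcommO x hx y hy) with hu
    have haO : a ∈ O := (hOmem a).mpr ⟨1, H.one_mem, by group⟩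
    have hcongr : ∀ (m m' : Multiset G) (c : {x | x ∈ m}.Pairwise Commute) (c' : {x | x ∈ m'}.Pairwise Commute),
        m = m' → m.noncommProd c = m'.noncommProd c' := by
      intro m m' c c' e
      subst e
      rfl
    have huN : u ∈ N := Subgroup.multiset_noncommProd_mem _ _ _ fun x hx => by
      obtain ⟨h, hh, rfl⟩ := (hOmem x).mp hx
      exact hN.normal.conj_mem a (hT.le ha) h
    have hinv : ∀ h ∈ H, h * u * h⁻¹ = u := by
      intro h hh
      have himg : O.image (MulAut.conj h) = O := by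
        ext x
        simp only [Finset.mem_image, hOmem]
        constructor
        · rintro ⟨_, ⟨k, hk, rfl⟩, rfl⟩
          exact ⟨h * k, H.mul_mem hh hk, by simp [mul_assoc]⟩
        · rintro ⟨k, hk, rfl⟩
          exact ⟨_, ⟨h⁻¹ * k, H.mul_mem (H.inv_mem hh) hk, rfl⟩, by simp [mul_assoc]⟩
      have hval : O.val.map (MulAut.conj h) = O.val := by
        rw [← Finset.image_val_of_injOn (MulAut.conj h).injective.injOn, himg]
      show MulAut.conj h u = u
      rw [hu]
      refine (Multiset.map_noncommProd O.val _ (MulAut.conj h).toMonoidHom).trans ?_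
      exact hcongr _ _ _ _ hval
    have huα : u • α ≠ α := by
      intro e
      have : u ∈ H0 := ⟨huN, e⟩
      rw [hH0b, Subgroup.mem_bot] at this
      -- split off the component in `T`
      obtain ⟨r, hr, hsplit⟩ : ∃ r, r ∈ Subgroup.centralizer (T : Set G) ∧ u = a * r := by
        have hcons : a ::ₘ (O.erase a).val = O.val := by
          rw [Finset.erase_val]; exact Multiset.cons_erase haO
        have hc1 : {x | x ∈ a ::ₘ (O.erase a).val}.Pairwise Commute := fun x hx y hy _ =>
          hcommO x (hcons ▸ hx :) y (hcons ▸ hy :)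
        refine ⟨(O.erase a).val.noncommProd (fun x hx y hy _ =>
          hcommO x (Finset.mem_of_mem_erase hx) y (Finset.mem_of_mem_erase hy)), ?_, ?_⟩
        · refine Subgroup.multiset_noncommProd_mem _ _ _ fun x hx => ?_
          obtain ⟨h, hh, rfl⟩ := (hOmem x).mp (Finset.mem_of_mem_erase hx)
          by_cases he : conjSub h T = conjSub 1 T
          · exact absurd ((hsame h hh 1 H.one_mem he).trans (by group)) (Finset.ne_of_mem_erase hx)
          · rw [conjSub_one] at he
            exact Subgroup.mem_centralizer_iff.mpr fun t ht =>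
              hT.commute (hT.conj hN.normal h) (Ne.symm he) ht (conj_mem_conjSub ha)
        · rw [hu]
          exact (hcongr _ _ _ hc1 hcons.symm).trans (Multiset.noncommProd_cons _ _ _)
      have haC : a ∈ T ⊓ Subgroup.centralizer (T : Set G) := by
        refine ⟨ha, ?_⟩
        rw [this] at hsplit
        rw [eq_inv_of_mul_eq_one_left hsplit.symm]
        exact Subgroup.inv_mem _ hr
      rw [inf_centralizer_eq_bot hN hab hT, Subgroup.mem_bot] at haC
      exact ha1 haC
    refine huα (eq_of_fixed (G := G) hH (a := α) (b := u • α) fun h hh => ?_)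
    rw [mem_stabilizer_iff, ← PermBasic.conj_smul_eq hh, hinv h hh]
  · -- `H0 ≠ 1` has the same orbits as `H`
    have horb : ∀ b : Ω, orbit H0 b = orbit H b := fun b =>
      ExtremelyPrimitive.orbit_eq hep hH H0 inf_le_right (le_normalizer_of_forall fun h hh x hx =>
        ⟨hN.normal.conj_mem x hx.1 h, H.mul_mem (H.mul_mem hh hx.2) (H.inv_mem hh)⟩) hH0b b
    -- move `t` by `h`, come back with an element of `H0`
    have move : ∀ {U : Subgroup G}, IsFactor N U → ∀ t ∈ U, ∀ h ∈ H,
        ∃ k ∈ H0, (k * t * k⁻¹)⁻¹ * (h * t * h⁻¹) ∈ H0 := by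
      intro U hU t ht h hh
      have hmem : h • (t • α) ∈ orbit H0 (t • α) := by rw [horb]; exact ⟨⟨h, hh⟩, rfl⟩
      obtain ⟨⟨k, hk⟩, hk'⟩ := hmem
      have hk'' : k • t • α = h • t • α := hk'
      refine ⟨k, hk, N.mul_mem (N.inv_mem (hN.normal.conj_mem t (hU.le ht) k)) (hN.normal.conj_mem t (hU.le ht) h), ?_⟩
      show (((k * t * k⁻¹)⁻¹ * (h * t * h⁻¹))) • α = α
      rw [mul_smul, PermBasic.conj_smul_eq hh, ← hk'', ← PermBasic.conj_smul_eq (show k • α = α from hk.2),
        inv_smul_smul]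
    by_cases hle : T ≤ H0 ⊔ (N ⊓ Subgroup.centralizer (T : Set G))
    swap
    · -- product type
      obtain ⟨t, ht, htU⟩ := SetLike.not_le_iff_exists.mp hle
      obtain ⟨k, hk, hkz⟩ := move hT t ht h₀ hh₀
      set W := H0 ⊔ (N ⊓ Subgroup.centralizer (T : Set G))
      have hz : h₀ * t * h₀⁻¹ ∈ W := Subgroup.mem_sup_right
        ⟨hN.normal.conj_mem t (hT.le ht) h₀, Subgroup.mem_centralizer_iff.mpr fun s hs =>
          hT.commute (hT.conj hN.normal h₀) hne.symm hs (conj_mem_conjSub ht)⟩
      have h1 : k * t * k⁻¹ ∈ W := by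
        have := W.mul_mem hz (W.inv_mem (Subgroup.mem_sup_left hkz))
        simpa [mul_assoc] using this
      have hk1 : k ∈ W := Subgroup.mem_sup_left hk
      have := W.mul_mem (W.mul_mem (W.inv_mem hk1) h1) hk1
      exact htU (by simpa [mul_assoc] using this)
    -- diagonal type
    have hsT := PrimitiveDichotomy.semireg_of_mns hN hab hT α hle
    have hsemi : ∀ U, IsFactor N U → ∀ t ∈ U, ∀ x : Ω, t • x = x → t = 1 := by
      intro U hU t ht x hx
      obtain ⟨h, -, rfl⟩ := hfac U hU
      have h1 := hsT _ (mem_conjSub.mp ht) (h⁻¹ • x)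
        (by rw [mul_smul, smul_inv_smul, mul_smul, hx])
      calc t = h * (h⁻¹ * t * h) * h⁻¹ := by group
        _ = 1 := by rw [h1]; group
    have hpair : ∀ U V, IsFactor N U → IsFactor N V → U ≠ V → ∀ t ∈ U, ∃ v ∈ V, t * v ∈ H0 := by
      intro U V hU hV hUV t ht
      obtain ⟨hu, hhu, hU'⟩ := hfac U hU
      obtain ⟨hv, hhv, hV'⟩ := hfac V hV
      set h := hv * hu⁻¹ with hh
      have hhH : h ∈ H := H.mul_mem hhv (H.inv_mem hhu)
      have hUV' : conjSub h U = V := by rw [hh, ← hU', conjSub_conjSub, inv_mul_cancel_right, hV']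
      obtain ⟨k, hk, hkz⟩ := move hU t⁻¹ (U.inv_mem ht) h hhH
      refine ⟨k⁻¹ * (h * t⁻¹ * h⁻¹) * k, ?_, ?_⟩
      · have := conj_mem_of_le_normalizer (hV.normalized (N.inv_mem hk.1)) (hUV' ▸ conj_mem_conjSub (U.inv_mem ht))
        simpa using this
      · have h2 := H0.mul_mem (H0.mul_mem (H0.inv_mem hk) hkz) hk
        simpa [mul_assoc] using h2
    have htwo : ∀ U, IsFactor N U → U = T ∨ U = conjSub h₀ T := by
      intro U hU
      by_contra hcon
      push Not at hcon
      have hV := hT.conj hN.normal h₀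
      refine not_abelian hN hab hT ⟨⟨fun a b => Subtype.ext ?_⟩⟩
      obtain ⟨v, hv, hav⟩ := hpair T _ hT hV hne.symm a a.2
      obtain ⟨w, hw, hbw⟩ := hpair T U hT hU hcon.1.symm b b.2
      have h3 : (↑a * v) * (↑b * w) * ((↑b * w) * (↑a * v))⁻¹ ∈ H0 :=
        H0.mul_mem (H0.mul_mem hav hbw) (H0.inv_mem (H0.mul_mem hbw hav))
      have c1 : v * (b : G) = b * v := (hT.commute hV hne.symm b.2 hv).symm
      have c2 : w * (a : G) = a * w := (hT.commute hU hcon.1.symm a.2 hw).symm
      have c3 : v * w = w * v := hV.commute hU hcon.2.symm hv hw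
      have e1 : (↑a * v) * (↑b * w) = (↑a * ↑b) * (v * w) := by
        rw [mul_assoc (a : G), ← mul_assoc v, c1]; group
      have e2 : (↑b * w) * (↑a * v) = (↑b * ↑a) * (v * w) := by
        rw [mul_assoc (b : G), ← mul_assoc w, c2, c3]; group
      rw [e1, e2, mul_inv_rev, ← mul_assoc, mul_inv_cancel_right] at h3
      have h4 := hsT _ (T.mul_mem (T.mul_mem a.2 b.2) (T.inv_mem (T.mul_mem b.2 a.2))) α h3.2
      exact mul_inv_eq_one.mp h4
    set T' := conjSub h₀ T with hT'def
    have hT' : IsFactor N T' := hT.conj hN.normal h₀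
    have hsupN : T ⊔ T' = N := by
      refine le_antisymm (sup_le hT.le hT'.le) ?_
      conv_lhs => rw [← iSup_conj_eq hN hT]
      refine iSup_le fun g => ?_
      rcases htwo _ (hT.conj hN.normal g) with e | e <;> rw [e]
      · exact le_sup_left
      · exact le_sup_right
    have htrans : ∀ U V, IsFactor N U → IsFactor N V → U ≠ V → U ⊔ V = N → IsPretransitive U Ω := by
      intro U V hU hV hUV hsUV
      have key : ∀ x : Ω, ∃ u : U, u • α = x := by
        intro x
        obtain ⟨⟨n, hn⟩, rfl⟩ := exists_smul_eq N α x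
        rw [← hsUV, ← SetLike.mem_coe, Subgroup.coe_mul_of_left_le_normalizer_right] at hn
        · obtain ⟨u, hu, v, hv, rfl⟩ := hn
          obtain ⟨t, ht, hvt⟩ := hpair V U hV hU hUV.symm v hv
          have hc : v * t = t * v := hV.commute hU hUV.symm hv ht
          refine ⟨⟨u * t⁻¹, U.mul_mem hu (U.inv_mem ht)⟩, ?_⟩
          show (u * t⁻¹) • α = (u * v) • α
          rw [mul_smul, mul_smul]
          congr 1
          rw [inv_smul_eq_iff, ← mul_smul, ← hc]
          exact hvt.2.symm
        · exact hU.le.trans hV.normalized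
      refine ⟨fun x y => ?_⟩
      obtain ⟨u, rfl⟩ := key x
      obtain ⟨w, rfl⟩ := key y
      exact ⟨w * u⁻¹, by rw [mul_smul, inv_smul_smul]⟩
    haveI := htrans T T' hT hT' hne.symm hsupN
    haveI := htrans T' T hT' hT hne (by rw [sup_comm]; exact hsupN)
    haveI := isSimpleGroup hN hT
    have hnabT := not_abelian hN hab hT
    refine no_pair hep hH α T T' (fun t ht u hu => hT.commute hT' hne.symm ht hu)
      (hT.inf_eq_bot hT' hne.symm) hT.ne_bot ?_ ?_ ?_ ?_
    · have hperf : commutator T = ⊤ := by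
        rcases (inferInstance : (commutator T).Normal).eq_bot_or_eq_top with h | h
        · exfalso
          refine hnabT ⟨⟨fun a b => ?_⟩⟩
          have hm : ⁅a, b⁆ ∈ commutator T := by
            rw [_root_.commutator_def]
            exact Subgroup.commutator_mem_commutator (Subgroup.mem_top a) (Subgroup.mem_top b)
          rw [h, Subgroup.mem_bot, commutatorElement_eq_one_iff_mul_comm] at hm
          exact hm
        · exact h
      have := map_commutator_eq (f := T.subtype)
      rw [hperf, ← MonoidHom.range_eq_map, Subgroup.range_subtype] at this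
      exact this.symm
    · intro A hA hAn hAab
      haveI : (A.subgroupOf T).Normal := (Subgroup.normal_subgroupOf_iff_le_normalizer hA).mpr hAn
      rcases (inferInstance : (A.subgroupOf T).Normal).eq_bot_or_eq_top with h | h
      · rw [Subgroup.subgroupOf_eq_bot, disjoint_iff, inf_of_le_left hA] at h
        exact h
      · exact absurd (le_antisymm (Subgroup.subgroupOf_eq_top.mp h) hA ▸ hAab) hnabT
    · rw [hsupN, Subgroup.normalizer_eq_top]
      exact le_top
    · intro g _ x hx
      rcases htwo _ (hT.conj hN.normal g) with e | e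
      · exact Or.inl (e ▸ conj_mem_conjSub hx)
      · exact Or.inr (e ▸ conj_mem_conjSub hx)

theorem affine_or_almostSimple (hep : IsEP G Ω) :
    (∃ N : Subgroup G, N.Normal ∧ N ≠ ⊥ ∧ IsMulCommutative N ∧ ∀ ω : Ω, stabilizer N ω = ⊥) ∨
      (∃ T : Subgroup G, T.Normal ∧ IsSimpleGroup T ∧ ¬ IsMulCommutative T ∧
        Subgroup.centralizer (T : Set G) = ⊥) := by
  by_cases hex : ∃ A : Subgroup G, IsMNS A ∧ IsMulCommutative A
  · obtain ⟨A, hA, hAab⟩ := hex
    haveI := hA.normal
    haveI := PermBasic.isPretransitive_of_normal (X := Ω) A hA.ne_bot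
    exact Or.inl ⟨A, hA.normal, hA.ne_bot, hAab, PermBasic.stabilizer_eq_bot_of_abelian A hAab⟩
  push Not at hex
  obtain ⟨α, β, hαβ⟩ := exists_pair_ne Ω
  have htop : (⊤ : Subgroup G) ≠ ⊥ := by
    intro h
    obtain ⟨g, hg⟩ := exists_smul_eq G α β
    have : g = 1 := Subgroup.mem_bot.mp (h ▸ Subgroup.mem_top g)
    rw [this, one_smul] at hg
    exact hαβ hg
  obtain ⟨N, -, hN⟩ := exists_isMNS_le (⊤ : Subgroup G) htop
  have hab := hex N hN
  haveI := hN.normal
  haveI := PermBasic.isPretransitive_of_normal (X := Ω) N hN.ne_bot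
  have hH : ∀ a : Ω, stabilizer G a ≠ ⊥ := by
    intro a ha
    have hmax := IsPreprimitive.isCoatom_stabilizer_of_isPreprimitive (G := G) a
    rw [ha] at hmax
    obtain ⟨⟨n, hn⟩, hn1⟩ := Subgroup.ne_bot_iff_exists_ne_one.mp hN.ne_bot
    have hcyc : Subgroup.zpowers n = ⊤ := (hmax.le_iff.mp bot_le).resolve_right fun e =>
      hn1 (Subtype.ext (Subgroup.zpowers_eq_bot.mp e))
    refine hab ⟨⟨fun x y => Subtype.ext ?_⟩⟩
    obtain ⟨i, hi⟩ := Subgroup.mem_zpowers_iff.mp (show (x : G) ∈ Subgroup.zpowers n from hcyc ▸ Subgroup.mem_top _)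
    obtain ⟨j, hj⟩ := Subgroup.mem_zpowers_iff.mp (show (y : G) ∈ Subgroup.zpowers n from hcyc ▸ Subgroup.mem_top _)
    show (x : G) * y = y * x
    rw [← hi, ← hj, ← zpow_add, ← zpow_add, add_comm]
  by_cases hC : Subgroup.centralizer (N : Set G) = ⊥
  · obtain ⟨T, -, hT⟩ := exists_isFactor_le N le_rfl hN.ne_bot Subgroup.le_normalizer
    by_cases hTn : ∀ g : G, conjSub g T = T
    · have hTnorm : T.Normal := Subgroup.normalizer_eq_top_iff.mp
        ((Subgroup.eq_top_iff' _).mpr fun g => mem_normalizer_of_conjSub_eq (hTn g))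
      have hTN : T = N := (hN.min T hTnorm hT.le).resolve_left hT.ne_bot
      exact Or.inr ⟨N, hN.normal, hTN ▸ isSimpleGroup hN hT, hab, hC⟩
    · push Not at hTn
      obtain ⟨g, hg⟩ := hTn
      exact (no_many_factors hep hH α hN hab hT hg).elim
  · obtain ⟨L, hLC, hL⟩ := exists_isMNS_le _ hC
    haveI := hL.normal
    haveI := PermBasic.isPretransitive_of_normal (X := Ω) L hL.ne_bot
    have hcomm : ∀ n ∈ N, ∀ l ∈ L, n * l = l * n := fun n hn l hl =>
      Subgroup.mem_centralizer_iff.mp (hLC hl) n hn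
    have hinf : N ⊓ L = ⊥ := by
      rw [← le_bot_iff, ← center_trivial hN hab]
      exact inf_le_inf_left N hLC
    refine (no_pair hep hH α N L hcomm hinf hN.ne_bot (commutator_eq hN hab)
      (fun A hA hAn hAab => eq_bot_of_abelian hN hab A hA hAn hAab) ?_
      (fun g _ x hx => Or.inl (hN.normal.conj_mem x hx g))).elim
    haveI : (N ⊔ L).Normal := Subgroup.sup_normal N L
    rw [Subgroup.normalizer_eq_top]
    exact le_top

end Cfsg.Agent.ExtremelyPrimitiveSocle
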