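import Cfsg.Agent.Lib.ExtremelyPrimitive
import Cfsg.Agent.Lib.PermBasic

/-! Abelian normal subgroups of the point stabilizer of an extremely primitive group. -/

set_option autoImplicit false

namespace Cfsg.Agent.ExtremelyPrimitiveStab

open MulAction

variable {G Ω : Type*} [Group G] [Finite G] [MulAction G Ω] [FaithfulSMul G Ω] [Finite Ω]
  [IsPreprimitive G Ω] [Nontrivial Ω]

theorem nonreg_all {α : Ω} (h : stabilizer G α ≠ ⊥) (β : Ω) : stabilizer G β ≠ ⊥ := by
  intro hb
  exact h (PermBasic.stabilizer_eq_bot_of_eq_bot hb α)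

variable (hep : ExtremelyPrimitive.IsEP G Ω) {α : Ω} (hH : stabilizer G α ≠ ⊥)
  (A : Subgroup G) (hA : A ≤ stabilizer G α)
  (hAn : stabilizer G α ≤ Subgroup.normalizer (A : Set G)) (hA1 : A ≠ ⊥)
  (hab : IsMulCommutative A)

include hep hH hA hAn hA1 in
theorem orbit_eq (β : Ω) : orbit A β = orbit (stabilizer G α) β :=
  ExtremelyPrimitive.orbit_eq hep (nonreg_all hH) A hA hAn hA1 β

include hep hH hA hAn hA1 hab in
theorem semiregular {β : Ω} (hβ : β ≠ α) {a : G} (ha : a ∈ A) (h : a • β = β) : a = 1 := by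
  have hker : a ∈ ExtremelyPrimitive.ker (G := G) α β := by
    refine ⟨hA ha, fun x hx => ?_⟩
    rw [← orbit_eq hep hH A hA hAn hA1 β] at hx
    obtain ⟨⟨b, hb⟩, rfl⟩ := hx
    have hc : a * b = b * a := congrArg Subtype.val (hab.is_comm.comm (⟨a, ha⟩ : A) ⟨b, hb⟩)
    show a • b • β = b • β
    rw [← mul_smul, hc, mul_smul, h]
  rwa [ExtremelyPrimitive.ker_eq_bot hep (nonreg_all hH) hβ, Subgroup.mem_bot] at hker

include hep hH hA hAn hA1 hab in
theorem card_orbit {β : Ω} (hβ : β ≠ α) :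
    Nat.card (orbit (stabilizer G α) β) = Nat.card A := by
  rw [← orbit_eq hep hH A hA hAn hA1 β]
  have h := PermBasic.card_orbit_mul_card_stabilizer (G := A) β
  have hs : stabilizer A β = ⊥ := (PermBasic.stabilizer_subgroup_eq_bot_iff' A β).mpr
    fun a ha e => semiregular hep hH A hA hAn hA1 hab hβ ha e
  rwa [hs, Subgroup.card_bot, mul_one] at h

include hep hH hA hAn hA1 hab in
theorem centralizer_le {c : G} (hc : c ∈ stabilizer G α) (hcA : ∀ a ∈ A, a * c = c * a) : c ∈ A := by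
  obtain ⟨β, hβ⟩ := exists_ne α
  obtain ⟨⟨a, ha⟩, hab'⟩ : c • β ∈ orbit A β := by
    rw [orbit_eq hep hH A hA hAn hA1 β]; exact ⟨⟨c, hc⟩, rfl⟩
  have hker : a⁻¹ * c ∈ ExtremelyPrimitive.ker (G := G) α β := by
    refine ⟨(stabilizer G α).mul_mem ((stabilizer G α).inv_mem (hA ha)) hc, fun x hx => ?_⟩
    rw [← orbit_eq hep hH A hA hAn hA1 β] at hx
    obtain ⟨⟨b, hb⟩, rfl⟩ := hx
    have h1 : a⁻¹ * c * b = b * (a⁻¹ * c) := by
      have e : a⁻¹ * b = b * a⁻¹ :=
        congrArg Subtype.val (hab.is_comm.comm (⟨a⁻¹, A.inv_mem ha⟩ : A) ⟨b, hb⟩)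
      rw [mul_assoc, ← hcA b hb, ← mul_assoc, e, mul_assoc]
    show (a⁻¹ * c) • b • β = b • β
    rw [← mul_smul, h1, mul_smul]
    congr 1
    rw [mul_smul, inv_smul_eq_iff]
    exact hab'.symm
  rw [ExtremelyPrimitive.ker_eq_bot hep (nonreg_all hH) hβ, Subgroup.mem_bot, inv_mul_eq_one] at hker
  exact hker ▸ ha

include hep hH hA hAn hA1 hab in
theorem card_dvd : Nat.card A ∣ Nat.card Ω - 1 := by
  classical
  let T := SubMulAction.ofStabilizer G α
  haveI : Finite T := Finite.of_injective _ Subtype.val_injective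
  haveI : Fintype T := Fintype.ofFinite _
  haveI : Fintype (Quotient (orbitRel (stabilizer G α) T)) := Fintype.ofFinite _
  have hcard : Nat.card Ω - 1 = Nat.card T := by
    have h1 := Set.ncard_compl ({α} : Set Ω)
    rw [Set.ncard_singleton, ← Nat.card_coe_set_eq] at h1
    exact h1.symm
  rw [hcard, Nat.card_congr (selfEquivSigmaOrbits (stabilizer G α) T), Nat.card_sigma]
  refine Finset.dvd_sum fun ω _ => ?_
  have h := card_orbit hep hH A hA hAn hA1 hab (β := ((ω.out : T) : Ω)) (ω.out).2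
  rw [← SubMulAction.val_image_orbit, Nat.card_image_of_injective Subtype.val_injective] at h
  rw [← h]

end Cfsg.Agent.ExtremelyPrimitiveStab
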