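import Cfsg.Agent.Lib.F4CharTwoNf71

/-!
The normal form of the positive unipotent group of `F₄` in characteristic two is unique.
-/

set_option autoImplicit false
set_option linter.unusedSectionVars false
set_option linter.unusedSimpArgs false
set_option maxRecDepth 20000
set_option maxHeartbeats 4000000

namespace Cfsg.Agent.F4CharTwoInj71

open Cfsg.Lie Cfsg.Agent.ChevalleyCert Cfsg.Agent.ChevalleyCore Cfsg.Agent.ChevalleyRoots Cfsg.Agent.F4CharTwoNf71
  Cfsg.Agent.TwistedF4Classes

variable {F : Type*} [Field F] [CharP F 2]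

local notation "G" => GL chevF4.Idx F

theorem nr : chevF4.nroots = 48 := by decide +kernel

theorem left_mem {r : ℕ} (hr : 24 ≤ r) (hr' : r < 48) (v : F) (a : Fin 24 → F) :
    ∃ b : Fin 24 → F, X r v * nf a = nf b := by
  interval_cases r <;> simp only [nf] <;> collectF71 <;>
    exact ⟨![_, _, _, _, _, _, _, _, _, _, _, _, _, _, _, _, _, _, _, _, _, _, _, _],
      by simp only [Matrix.cons_val, mul_assoc]; rfl⟩

theorem nf_zero : nf (0 : Fin 24 → F) = 1 := by simp [nf]

theorem root_mem {r : ℕ} (hr : 24 ≤ r) (hr' : r < 48) (t : F) : X r t ∈ chevF4.posUnipotent F :=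
  Subgroup.subset_closure ⟨r, t, (isPos cf).2 (by rw [nr]; exact ⟨hr, hr'⟩), (xg_eq_iff cf).2 rfl⟩

theorem mem_posUnipotent {g : G} (hg : g ∈ chevF4.posUnipotent F) : ∃ a, g = nf a := by
  rw [ChevalleyDatum.posUnipotent] at hg
  induction hg using Subgroup.closure_induction_left with
  | one => exact ⟨0, nf_zero.symm⟩
  | mul_left x hx y _ ih =>
    obtain ⟨r, t, hr, hx⟩ := hx
    obtain rfl := (xg_eq_iff cf).1 hx
    obtain ⟨a, rfl⟩ := ih
    rw [isPos cf, nr] at hr
    obtain ⟨b, hb⟩ := left_mem hr.1 hr.2 t a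
    exact ⟨b, hb⟩
  | inv_mul_cancel x hx y _ ih =>
    obtain ⟨r, t, hr, hx⟩ := hx
    obtain rfl := (xg_eq_iff cf).1 hx
    obtain ⟨a, rfl⟩ := ih
    rw [isPos cf, nr] at hr
    obtain ⟨b, hb⟩ := left_mem hr.1 hr.2 (-t) a
    exact ⟨b, by rw [xg_inv cf]; exact hb⟩

theorem nf_mem (a : Fin 24 → F) : nf a ∈ chevF4.posUnipotent F := by
  have h : ∀ (r : ℕ) (t : F), 24 ≤ r ∧ r < 48 → X r t ∈ chevF4.posUnipotent F := fun r t hr => root_mem hr.1 hr.2 t
  simp only [nf]
  repeat' apply mul_mem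
  all_goals exact h _ _ (by norm_num)

theorem nf_injective [Fintype F] : Function.Injective (nf (F := F)) := by
  have h : Function.Bijective (fun a => (⟨nf a, nf_mem a⟩ : ↥(chevF4.posUnipotent F))) := by
    refine Function.Surjective.bijective_of_nat_card_le (fun g => ?_) ?_
    · obtain ⟨a, ha⟩ := mem_posUnipotent g.2
      exact ⟨a, Subtype.ext ha.symm⟩
    · rw [ChevalleyUnipotent.card_U cf, nr]; simp [Nat.card_eq_fintype_card]
  exact fun a b e => h.1 (Subtype.ext e)

theorem nf_one [Fintype F] {a : Fin 24 → F} (h : nf a = 1) : a = 0 :=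
  nf_injective (h.trans nf_zero.symm)

end Cfsg.Agent.F4CharTwoInj71
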