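import Cfsg.Agent.Lib.TwistedF4Torus

/-!
The positive unipotent group of `F₄` in characteristic two: collection to a normal form adapted to the twist.
-/

set_option autoImplicit false
set_option linter.unusedSectionVars false
set_option maxRecDepth 20000

namespace Cfsg.Agent.F4CharTwoNf71

open Cfsg.Lie Cfsg.Agent.ChevalleyCert Cfsg.Agent.ChevalleyCore Cfsg.Agent.ChevalleyRoots Cfsg.Agent.ChevalleyTorus
  Cfsg.Agent.TwistedTools Cfsg.Agent.TwistedF4Classes

/-- `(s, r, ks)`: collecting `x_s x_r` produces the root elements listed in `ks`. -/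
def okPair (p : ℕ × ℕ × List (ℕ × ℕ × ℕ)) : Bool :=
  decide (p.2.1 < 48) && decide (p.1 < 48) && decide (p.1 ≠ p.2.1) && decide (p.1 ≠ chevF4.neg p.2.1) &&
    decide ((((chevF4.commTerms p.2.1 p.1).filter fun c => c.2.1 % 2 != 0).map fun c => (c.1, c.2.2)) = p.2.2)

variable {F : Type*} [Field F] [CharP F 2]

local notation "G" => GL chevF4.Idx F

/-- root element -/
noncomputable abbrev X (r : ℕ) (t : F) : G := xg cf r t

theorem neg2 (x : F) : -x = x := CharTwo.neg_eq x

theorem wg_filter (t u : F) : ∀ l : List (ℕ × ℤ × ℕ × ℕ),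
    wg cf (l.map fun c => (c.1, (c.2.1 : F) * (-t) ^ c.2.2.1 * u ^ c.2.2.2)) =
      (((l.filter fun c => c.2.1 % 2 != 0).map fun c => (c.1, c.2.2)).map fun c => X c.1 (t ^ c.2.1 * u ^ c.2.2)).prod
  | [] => by simp [wg]
  | c :: l => by
    rw [List.map_cons, TwistedTools.wg_cons, wg_filter t u l]
    by_cases h : c.2.1 % 2 = 0
    · have : (c.2.1 : F) = 0 := (CharP.intCast_eq_zero_iff F 2 _).2 (Int.dvd_of_emod_eq_zero h)
      simp [h, this]
    · have : (c.2.1 : F) = 1 := by
        obtain ⟨k, hk⟩ : ∃ k, c.2.1 = 2 * k + 1 := ⟨c.2.1 / 2, by omega⟩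
        rw [hk]; push_cast; simp [CharTwo.two_eq_zero]
      simp [h, this, neg2]

theorem swap {s r : ℕ} {ks : List (ℕ × ℕ × ℕ)} (h : okPair (s, r, ks) = true) (u t : F) (w : G) :
    X s u * (X r t * w) = X r t * (X s u * ((ks.map fun c => X c.1 (t ^ c.2.1 * u ^ c.2.2)).prod * w)) := by
  simp only [okPair, Bool.and_eq_true, decide_eq_true_eq] at h
  obtain ⟨⟨⟨⟨h1, h2⟩, h3⟩, h4⟩, h5⟩ := h
  rw [← h5, ← wg_filter, ← mul_assoc, ← mul_assoc, ← mul_assoc]
  congr 1
  exact comm_formula cf h1 h2 h3 h4 t u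

theorem swapE {s r : ℕ} {ks : List (ℕ × ℕ × ℕ)} (h : okPair (s, r, ks) = true) (u t : F) :
    X s u * X r t = X r t * (X s u * (ks.map fun c => X c.1 (t ^ c.2.1 * u ^ c.2.2)).prod) := by
  simpa using swap h u t 1

theorem merge (r : ℕ) (t u : F) : X r t * X r u = X r (t + u) := xg_mul cf r t u

theorem merge' (r : ℕ) (t u : F) (w : G) : X r t * (X r u * w) = X r (t + u) * w := by
  rw [← mul_assoc, merge]


/-- the pairs -/
def pairs : List (ℕ × ℕ × List (ℕ × ℕ × ℕ)) :=
  [(24, 33, []),
   (34, 33, []),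
   (26, 33, []),
   (36, 33, []),
   (42, 33, []),
   (38, 33, []),
   (43, 33, []),
   (29, 33, [(36, 1, 1)]),
   (41, 33, []),
   (44, 33, []),
   (47, 33, []),
   (39, 33, []),
   (45, 33, []),
   (35, 33, []),
   (31, 33, [(38, 1, 1), (42, 2, 1)]),
   (40, 33, [(44, 1, 1)]),
   (46, 33, []),
   (37, 33, []),
   (32, 33, [(39, 1, 1), (43, 2, 1)]),
   (27, 33, [(34, 1, 1)]),
   (25, 33, []),
   (28, 33, [(35, 1, 1)]),
   (30, 33, [(37, 1, 1), (41, 2, 1)]),
   (34, 24, []),
   (26, 24, []),
   (36, 24, []),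
   (42, 24, []),
   (38, 24, []),
   (43, 24, []),
   (29, 24, []),
   (41, 24, [(42, 1, 1)]),
   (44, 24, []),
   (47, 24, []),
   (39, 24, []),
   (45, 24, []),
   (35, 24, [(36, 1, 1), (43, 1, 2)]),
   (31, 24, []),
   (40, 24, []),
   (46, 24, [(47, 1, 1)]),
   (37, 24, [(38, 1, 1), (45, 1, 2)]),
   (32, 24, []),
   (27, 24, []),
   (25, 24, [(26, 1, 1)]),
   (28, 24, [(29, 1, 1), (32, 1, 2)]),
   (30, 24, [(31, 1, 1)]),
   (26, 34, [(36, 1, 1), (42, 2, 1)]),
   (36, 34, []),
   (42, 34, []),
   (38, 34, []),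
   (43, 34, []),
   (29, 34, [(38, 1, 1)]),
   (41, 34, []),
   (44, 34, []),
   (47, 34, []),
   (39, 34, [(44, 1, 1)]),
   (45, 34, []),
   (35, 34, []),
   (31, 34, []),
   (40, 34, []),
   (46, 34, []),
   (37, 34, []),
   (32, 34, [(40, 1, 1), (45, 2, 1)]),
   (27, 34, []),
   (25, 34, [(35, 1, 1), (41, 2, 1)]),
   (28, 34, [(37, 1, 1)]),
   (30, 34, []),
   (36, 26, []),
   (42, 26, []),
   (38, 26, []),
   (43, 26, []),
   (29, 26, []),
   (41, 26, [(43, 1, 1)]),
   (44, 26, []),
   (47, 26, []),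
   (39, 26, []),
   (45, 26, [(47, 1, 1)]),
   (35, 26, []),
   (31, 26, []),
   (40, 26, []),
   (46, 26, []),
   (37, 26, [(39, 1, 1), (46, 1, 2)]),
   (32, 26, []),
   (27, 26, [(29, 1, 1), (31, 1, 2)]),
   (25, 26, []),
   (28, 26, []),
   (30, 26, [(32, 1, 1)]),
   (42, 36, []),
   (38, 36, []),
   (43, 36, []),
   (29, 36, []),
   (41, 36, []),
   (44, 36, []),
   (47, 36, []),
   (39, 36, []),
   (45, 36, []),
   (35, 36, []),
   (31, 36, []),
   (40, 36, []),
   (46, 36, []),
   (37, 36, [(44, 1, 1)]),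
   (32, 36, []),
   (27, 36, [(38, 1, 1)]),
   (25, 36, []),
   (28, 36, [(39, 1, 1)]),
   (30, 36, [(40, 1, 1), (47, 2, 1)]),
   (38, 42, []),
   (43, 42, []),
   (29, 42, []),
   (41, 42, []),
   (44, 42, []),
   (47, 42, []),
   (39, 42, []),
   (45, 42, []),
   (35, 42, []),
   (31, 42, []),
   (40, 42, []),
   (46, 42, []),
   (37, 42, []),
   (32, 42, [(47, 1, 1)]),
   (27, 42, []),
   (25, 42, [(43, 1, 1)]),
   (28, 42, [(44, 1, 1), (46, 1, 2)]),
   (30, 42, [(45, 1, 1)]),
   (43, 38, []),
   (29, 38, []),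
   (41, 38, []),
   (44, 38, []),
   (47, 38, []),
   (39, 38, []),
   (45, 38, []),
   (35, 38, [(44, 1, 1)]),
   (31, 38, []),
   (40, 38, []),
   (46, 38, []),
   (37, 38, []),
   (32, 38, []),
   (27, 38, []),
   (25, 38, [(39, 1, 1), (47, 2, 1)]),
   (28, 38, [(40, 1, 1)]),
   (30, 38, []),
   (29, 43, []),
   (41, 43, []),
   (44, 43, []),
   (47, 43, []),
   (39, 43, []),
   (45, 43, []),
   (35, 43, []),
   (31, 43, [(47, 1, 1)]),
   (40, 43, []),
   (46, 43, []),
   (37, 43, []),
   (32, 43, []),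
   (27, 43, [(44, 1, 1), (45, 1, 2)]),
   (25, 43, []),
   (28, 43, []),
   (30, 43, [(46, 1, 1)]),
   (41, 29, [(44, 1, 1), (47, 2, 1)]),
   (44, 29, []),
   (47, 29, []),
   (39, 29, []),
   (45, 29, []),
   (35, 29, [(39, 1, 1)]),
   (31, 29, []),
   (40, 29, []),
   (46, 29, []),
   (37, 29, [(40, 1, 1)]),
   (32, 29, []),
   (27, 29, []),
   (25, 29, []),
   (28, 29, []),
   (30, 29, []),
   (44, 41, []),
   (47, 41, []),
   (39, 41, []),
   (45, 41, []),
   (35, 41, []),
   (31, 41, [(45, 1, 1)]),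
   (40, 41, []),
   (46, 41, []),
   (37, 41, []),
   (32, 41, [(46, 1, 1)]),
   (27, 41, []),
   (25, 41, []),
   (28, 41, []),
   (30, 41, []),
   (47, 44, []),
   (39, 44, []),
   (45, 44, []),
   (35, 44, []),
   (31, 44, []),
   (40, 44, []),
   (46, 44, []),
   (37, 44, []),
   (32, 44, []),
   (27, 44, []),
   (25, 44, []),
   (28, 44, []),
   (30, 44, []),
   (39, 47, []),
   (45, 47, []),
   (35, 47, []),
   (31, 47, []),
   (40, 47, []),
   (46, 47, []),
   (37, 47, []),
   (32, 47, []),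
   (27, 47, []),
   (25, 47, []),
   (28, 47, []),
   (30, 47, []),
   (45, 39, []),
   (35, 39, []),
   (31, 39, []),
   (40, 39, []),
   (46, 39, []),
   (37, 39, []),
   (32, 39, []),
   (27, 39, [(40, 1, 1)]),
   (25, 39, []),
   (28, 39, []),
   (30, 39, []),
   (35, 45, []),
   (31, 45, []),
   (40, 45, []),
   (46, 45, []),
   (37, 45, []),
   (32, 45, []),
   (27, 45, []),
   (25, 45, [(46, 1, 1)]),
   (28, 45, []),
   (30, 45, []),
   (31, 35, [(40, 1, 1), (46, 2, 1)]),
   (40, 35, []),
   (46, 35, []),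
   (37, 35, []),
   (32, 35, []),
   (27, 35, [(37, 1, 1)]),
   (25, 35, []),
   (28, 35, []),
   (30, 35, []),
   (40, 31, []),
   (46, 31, []),
   (37, 31, []),
   (32, 31, []),
   (27, 31, []),
   (25, 31, [(32, 1, 1)]),
   (28, 31, []),
   (30, 31, []),
   (46, 40, []),
   (37, 40, []),
   (32, 40, []),
   (27, 40, []),
   (25, 40, []),
   (28, 40, []),
   (30, 40, []),
   (37, 46, []),
   (32, 46, []),
   (27, 46, []),
   (25, 46, []),
   (28, 46, []),
   (30, 46, []),
   (32, 37, []),
   (27, 37, []),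
   (25, 37, []),
   (28, 37, []),
   (30, 37, []),
   (27, 32, []),
   (25, 32, []),
   (28, 32, []),
   (30, 32, []),
   (25, 27, [(28, 1, 1), (30, 2, 1)]),
   (28, 27, []),
   (30, 27, []),
   (28, 25, []),
   (30, 25, []),
   (30, 28, [])]

theorem pairs_ok : pairs.all okPair = true := by decide +kernel

theorem ok (i : ℕ) (h : i < pairs.length) : okPair pairs[i] = true :=
  List.all_eq_true.1 pairs_ok _ (List.getElem_mem h)

theorem c24_33 (u t : F) : X 24 u * X 33 t = X 33 t * X 24 u := by
  rw [swapE (ok 0 (by decide) : okPair (24, 33, []) = true)]; simp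
theorem c24_33' (u t : F) (w : G) : X 24 u * (X 33 t * w) = X 33 t * (X 24 u * w) := by
  rw [swap (ok 0 (by decide) : okPair (24, 33, []) = true)]; simp
theorem c34_33 (u t : F) : X 34 u * X 33 t = X 33 t * X 34 u := by
  rw [swapE (ok 1 (by decide) : okPair (34, 33, []) = true)]; simp
theorem c34_33' (u t : F) (w : G) : X 34 u * (X 33 t * w) = X 33 t * (X 34 u * w) := by
  rw [swap (ok 1 (by decide) : okPair (34, 33, []) = true)]; simp
theorem c26_33 (u t : F) : X 26 u * X 33 t = X 33 t * X 26 u := by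
  rw [swapE (ok 2 (by decide) : okPair (26, 33, []) = true)]; simp
theorem c26_33' (u t : F) (w : G) : X 26 u * (X 33 t * w) = X 33 t * (X 26 u * w) := by
  rw [swap (ok 2 (by decide) : okPair (26, 33, []) = true)]; simp
theorem c36_33 (u t : F) : X 36 u * X 33 t = X 33 t * X 36 u := by
  rw [swapE (ok 3 (by decide) : okPair (36, 33, []) = true)]; simp
theorem c36_33' (u t : F) (w : G) : X 36 u * (X 33 t * w) = X 33 t * (X 36 u * w) := by
  rw [swap (ok 3 (by decide) : okPair (36, 33, []) = true)]; simp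
theorem c42_33 (u t : F) : X 42 u * X 33 t = X 33 t * X 42 u := by
  rw [swapE (ok 4 (by decide) : okPair (42, 33, []) = true)]; simp
theorem c42_33' (u t : F) (w : G) : X 42 u * (X 33 t * w) = X 33 t * (X 42 u * w) := by
  rw [swap (ok 4 (by decide) : okPair (42, 33, []) = true)]; simp
theorem c38_33 (u t : F) : X 38 u * X 33 t = X 33 t * X 38 u := by
  rw [swapE (ok 5 (by decide) : okPair (38, 33, []) = true)]; simp
theorem c38_33' (u t : F) (w : G) : X 38 u * (X 33 t * w) = X 33 t * (X 38 u * w) := by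
  rw [swap (ok 5 (by decide) : okPair (38, 33, []) = true)]; simp
theorem c43_33 (u t : F) : X 43 u * X 33 t = X 33 t * X 43 u := by
  rw [swapE (ok 6 (by decide) : okPair (43, 33, []) = true)]; simp
theorem c43_33' (u t : F) (w : G) : X 43 u * (X 33 t * w) = X 33 t * (X 43 u * w) := by
  rw [swap (ok 6 (by decide) : okPair (43, 33, []) = true)]; simp
theorem c29_33 (u t : F) : X 29 u * X 33 t = X 33 t * (X 29 u * (X 36 (t * u))) := by
  rw [swapE (ok 7 (by decide) : okPair (29, 33, [(36, 1, 1)]) = true)]; simp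
theorem c29_33' (u t : F) (w : G) : X 29 u * (X 33 t * w) = X 33 t * (X 29 u * (X 36 (t * u) * w)) := by
  rw [swap (ok 7 (by decide) : okPair (29, 33, [(36, 1, 1)]) = true)]; simp [mul_assoc]
theorem c41_33 (u t : F) : X 41 u * X 33 t = X 33 t * X 41 u := by
  rw [swapE (ok 8 (by decide) : okPair (41, 33, []) = true)]; simp
theorem c41_33' (u t : F) (w : G) : X 41 u * (X 33 t * w) = X 33 t * (X 41 u * w) := by
  rw [swap (ok 8 (by decide) : okPair (41, 33, []) = true)]; simp
theorem c44_33 (u t : F) : X 44 u * X 33 t = X 33 t * X 44 u := by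
  rw [swapE (ok 9 (by decide) : okPair (44, 33, []) = true)]; simp
theorem c44_33' (u t : F) (w : G) : X 44 u * (X 33 t * w) = X 33 t * (X 44 u * w) := by
  rw [swap (ok 9 (by decide) : okPair (44, 33, []) = true)]; simp
theorem c47_33 (u t : F) : X 47 u * X 33 t = X 33 t * X 47 u := by
  rw [swapE (ok 10 (by decide) : okPair (47, 33, []) = true)]; simp
theorem c47_33' (u t : F) (w : G) : X 47 u * (X 33 t * w) = X 33 t * (X 47 u * w) := by
  rw [swap (ok 10 (by decide) : okPair (47, 33, []) = true)]; simp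
theorem c39_33 (u t : F) : X 39 u * X 33 t = X 33 t * X 39 u := by
  rw [swapE (ok 11 (by decide) : okPair (39, 33, []) = true)]; simp
theorem c39_33' (u t : F) (w : G) : X 39 u * (X 33 t * w) = X 33 t * (X 39 u * w) := by
  rw [swap (ok 11 (by decide) : okPair (39, 33, []) = true)]; simp
theorem c45_33 (u t : F) : X 45 u * X 33 t = X 33 t * X 45 u := by
  rw [swapE (ok 12 (by decide) : okPair (45, 33, []) = true)]; simp
theorem c45_33' (u t : F) (w : G) : X 45 u * (X 33 t * w) = X 33 t * (X 45 u * w) := by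
  rw [swap (ok 12 (by decide) : okPair (45, 33, []) = true)]; simp
theorem c35_33 (u t : F) : X 35 u * X 33 t = X 33 t * X 35 u := by
  rw [swapE (ok 13 (by decide) : okPair (35, 33, []) = true)]; simp
theorem c35_33' (u t : F) (w : G) : X 35 u * (X 33 t * w) = X 33 t * (X 35 u * w) := by
  rw [swap (ok 13 (by decide) : okPair (35, 33, []) = true)]; simp
theorem c31_33 (u t : F) : X 31 u * X 33 t = X 33 t * (X 31 u * (X 38 (t * u) * X 42 (t ^ 2 * u))) := by
  rw [swapE (ok 14 (by decide) : okPair (31, 33, [(38, 1, 1), (42, 2, 1)]) = true)]; simp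
theorem c31_33' (u t : F) (w : G) : X 31 u * (X 33 t * w) = X 33 t * (X 31 u * (X 38 (t * u) * (X 42 (t ^ 2 * u) * w))) := by
  rw [swap (ok 14 (by decide) : okPair (31, 33, [(38, 1, 1), (42, 2, 1)]) = true)]; simp [mul_assoc]
theorem c40_33 (u t : F) : X 40 u * X 33 t = X 33 t * (X 40 u * (X 44 (t * u))) := by
  rw [swapE (ok 15 (by decide) : okPair (40, 33, [(44, 1, 1)]) = true)]; simp
theorem c40_33' (u t : F) (w : G) : X 40 u * (X 33 t * w) = X 33 t * (X 40 u * (X 44 (t * u) * w)) := by
  rw [swap (ok 15 (by decide) : okPair (40, 33, [(44, 1, 1)]) = true)]; simp [mul_assoc]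
theorem c46_33 (u t : F) : X 46 u * X 33 t = X 33 t * X 46 u := by
  rw [swapE (ok 16 (by decide) : okPair (46, 33, []) = true)]; simp
theorem c46_33' (u t : F) (w : G) : X 46 u * (X 33 t * w) = X 33 t * (X 46 u * w) := by
  rw [swap (ok 16 (by decide) : okPair (46, 33, []) = true)]; simp
theorem c37_33 (u t : F) : X 37 u * X 33 t = X 33 t * X 37 u := by
  rw [swapE (ok 17 (by decide) : okPair (37, 33, []) = true)]; simp
theorem c37_33' (u t : F) (w : G) : X 37 u * (X 33 t * w) = X 33 t * (X 37 u * w) := by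
  rw [swap (ok 17 (by decide) : okPair (37, 33, []) = true)]; simp
theorem c32_33 (u t : F) : X 32 u * X 33 t = X 33 t * (X 32 u * (X 39 (t * u) * X 43 (t ^ 2 * u))) := by
  rw [swapE (ok 18 (by decide) : okPair (32, 33, [(39, 1, 1), (43, 2, 1)]) = true)]; simp
theorem c32_33' (u t : F) (w : G) : X 32 u * (X 33 t * w) = X 33 t * (X 32 u * (X 39 (t * u) * (X 43 (t ^ 2 * u) * w))) := by
  rw [swap (ok 18 (by decide) : okPair (32, 33, [(39, 1, 1), (43, 2, 1)]) = true)]; simp [mul_assoc]
theorem c27_33 (u t : F) : X 27 u * X 33 t = X 33 t * (X 27 u * (X 34 (t * u))) := by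
  rw [swapE (ok 19 (by decide) : okPair (27, 33, [(34, 1, 1)]) = true)]; simp
theorem c27_33' (u t : F) (w : G) : X 27 u * (X 33 t * w) = X 33 t * (X 27 u * (X 34 (t * u) * w)) := by
  rw [swap (ok 19 (by decide) : okPair (27, 33, [(34, 1, 1)]) = true)]; simp [mul_assoc]
theorem c25_33 (u t : F) : X 25 u * X 33 t = X 33 t * X 25 u := by
  rw [swapE (ok 20 (by decide) : okPair (25, 33, []) = true)]; simp
theorem c25_33' (u t : F) (w : G) : X 25 u * (X 33 t * w) = X 33 t * (X 25 u * w) := by
  rw [swap (ok 20 (by decide) : okPair (25, 33, []) = true)]; simp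
theorem c28_33 (u t : F) : X 28 u * X 33 t = X 33 t * (X 28 u * (X 35 (t * u))) := by
  rw [swapE (ok 21 (by decide) : okPair (28, 33, [(35, 1, 1)]) = true)]; simp
theorem c28_33' (u t : F) (w : G) : X 28 u * (X 33 t * w) = X 33 t * (X 28 u * (X 35 (t * u) * w)) := by
  rw [swap (ok 21 (by decide) : okPair (28, 33, [(35, 1, 1)]) = true)]; simp [mul_assoc]
theorem c30_33 (u t : F) : X 30 u * X 33 t = X 33 t * (X 30 u * (X 37 (t * u) * X 41 (t ^ 2 * u))) := by
  rw [swapE (ok 22 (by decide) : okPair (30, 33, [(37, 1, 1), (41, 2, 1)]) = true)]; simp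
theorem c30_33' (u t : F) (w : G) : X 30 u * (X 33 t * w) = X 33 t * (X 30 u * (X 37 (t * u) * (X 41 (t ^ 2 * u) * w))) := by
  rw [swap (ok 22 (by decide) : okPair (30, 33, [(37, 1, 1), (41, 2, 1)]) = true)]; simp [mul_assoc]
theorem c34_24 (u t : F) : X 34 u * X 24 t = X 24 t * X 34 u := by
  rw [swapE (ok 23 (by decide) : okPair (34, 24, []) = true)]; simp
theorem c34_24' (u t : F) (w : G) : X 34 u * (X 24 t * w) = X 24 t * (X 34 u * w) := by
  rw [swap (ok 23 (by decide) : okPair (34, 24, []) = true)]; simp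
theorem c26_24 (u t : F) : X 26 u * X 24 t = X 24 t * X 26 u := by
  rw [swapE (ok 24 (by decide) : okPair (26, 24, []) = true)]; simp
theorem c26_24' (u t : F) (w : G) : X 26 u * (X 24 t * w) = X 24 t * (X 26 u * w) := by
  rw [swap (ok 24 (by decide) : okPair (26, 24, []) = true)]; simp
theorem c36_24 (u t : F) : X 36 u * X 24 t = X 24 t * X 36 u := by
  rw [swapE (ok 25 (by decide) : okPair (36, 24, []) = true)]; simp
theorem c36_24' (u t : F) (w : G) : X 36 u * (X 24 t * w) = X 24 t * (X 36 u * w) := by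
  rw [swap (ok 25 (by decide) : okPair (36, 24, []) = true)]; simp
theorem c42_24 (u t : F) : X 42 u * X 24 t = X 24 t * X 42 u := by
  rw [swapE (ok 26 (by decide) : okPair (42, 24, []) = true)]; simp
theorem c42_24' (u t : F) (w : G) : X 42 u * (X 24 t * w) = X 24 t * (X 42 u * w) := by
  rw [swap (ok 26 (by decide) : okPair (42, 24, []) = true)]; simp
theorem c38_24 (u t : F) : X 38 u * X 24 t = X 24 t * X 38 u := by
  rw [swapE (ok 27 (by decide) : okPair (38, 24, []) = true)]; simp
theorem c38_24' (u t : F) (w : G) : X 38 u * (X 24 t * w) = X 24 t * (X 38 u * w) := by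
  rw [swap (ok 27 (by decide) : okPair (38, 24, []) = true)]; simp
theorem c43_24 (u t : F) : X 43 u * X 24 t = X 24 t * X 43 u := by
  rw [swapE (ok 28 (by decide) : okPair (43, 24, []) = true)]; simp
theorem c43_24' (u t : F) (w : G) : X 43 u * (X 24 t * w) = X 24 t * (X 43 u * w) := by
  rw [swap (ok 28 (by decide) : okPair (43, 24, []) = true)]; simp
theorem c29_24 (u t : F) : X 29 u * X 24 t = X 24 t * X 29 u := by
  rw [swapE (ok 29 (by decide) : okPair (29, 24, []) = true)]; simp
theorem c29_24' (u t : F) (w : G) : X 29 u * (X 24 t * w) = X 24 t * (X 29 u * w) := by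
  rw [swap (ok 29 (by decide) : okPair (29, 24, []) = true)]; simp
theorem c41_24 (u t : F) : X 41 u * X 24 t = X 24 t * (X 41 u * (X 42 (t * u))) := by
  rw [swapE (ok 30 (by decide) : okPair (41, 24, [(42, 1, 1)]) = true)]; simp
theorem c41_24' (u t : F) (w : G) : X 41 u * (X 24 t * w) = X 24 t * (X 41 u * (X 42 (t * u) * w)) := by
  rw [swap (ok 30 (by decide) : okPair (41, 24, [(42, 1, 1)]) = true)]; simp [mul_assoc]
theorem c44_24 (u t : F) : X 44 u * X 24 t = X 24 t * X 44 u := by
  rw [swapE (ok 31 (by decide) : okPair (44, 24, []) = true)]; simp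
theorem c44_24' (u t : F) (w : G) : X 44 u * (X 24 t * w) = X 24 t * (X 44 u * w) := by
  rw [swap (ok 31 (by decide) : okPair (44, 24, []) = true)]; simp
theorem c47_24 (u t : F) : X 47 u * X 24 t = X 24 t * X 47 u := by
  rw [swapE (ok 32 (by decide) : okPair (47, 24, []) = true)]; simp
theorem c47_24' (u t : F) (w : G) : X 47 u * (X 24 t * w) = X 24 t * (X 47 u * w) := by
  rw [swap (ok 32 (by decide) : okPair (47, 24, []) = true)]; simp
theorem c39_24 (u t : F) : X 39 u * X 24 t = X 24 t * X 39 u := by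
  rw [swapE (ok 33 (by decide) : okPair (39, 24, []) = true)]; simp
theorem c39_24' (u t : F) (w : G) : X 39 u * (X 24 t * w) = X 24 t * (X 39 u * w) := by
  rw [swap (ok 33 (by decide) : okPair (39, 24, []) = true)]; simp
theorem c45_24 (u t : F) : X 45 u * X 24 t = X 24 t * X 45 u := by
  rw [swapE (ok 34 (by decide) : okPair (45, 24, []) = true)]; simp
theorem c45_24' (u t : F) (w : G) : X 45 u * (X 24 t * w) = X 24 t * (X 45 u * w) := by
  rw [swap (ok 34 (by decide) : okPair (45, 24, []) = true)]; simp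
theorem c35_24 (u t : F) : X 35 u * X 24 t = X 24 t * (X 35 u * (X 36 (t * u) * X 43 (t * u ^ 2))) := by
  rw [swapE (ok 35 (by decide) : okPair (35, 24, [(36, 1, 1), (43, 1, 2)]) = true)]; simp
theorem c35_24' (u t : F) (w : G) : X 35 u * (X 24 t * w) = X 24 t * (X 35 u * (X 36 (t * u) * (X 43 (t * u ^ 2) * w))) := by
  rw [swap (ok 35 (by decide) : okPair (35, 24, [(36, 1, 1), (43, 1, 2)]) = true)]; simp [mul_assoc]
theorem c31_24 (u t : F) : X 31 u * X 24 t = X 24 t * X 31 u := by
  rw [swapE (ok 36 (by decide) : okPair (31, 24, []) = true)]; simp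
theorem c31_24' (u t : F) (w : G) : X 31 u * (X 24 t * w) = X 24 t * (X 31 u * w) := by
  rw [swap (ok 36 (by decide) : okPair (31, 24, []) = true)]; simp
theorem c40_24 (u t : F) : X 40 u * X 24 t = X 24 t * X 40 u := by
  rw [swapE (ok 37 (by decide) : okPair (40, 24, []) = true)]; simp
theorem c40_24' (u t : F) (w : G) : X 40 u * (X 24 t * w) = X 24 t * (X 40 u * w) := by
  rw [swap (ok 37 (by decide) : okPair (40, 24, []) = true)]; simp
theorem c46_24 (u t : F) : X 46 u * X 24 t = X 24 t * (X 46 u * (X 47 (t * u))) := by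
  rw [swapE (ok 38 (by decide) : okPair (46, 24, [(47, 1, 1)]) = true)]; simp
theorem c46_24' (u t : F) (w : G) : X 46 u * (X 24 t * w) = X 24 t * (X 46 u * (X 47 (t * u) * w)) := by
  rw [swap (ok 38 (by decide) : okPair (46, 24, [(47, 1, 1)]) = true)]; simp [mul_assoc]
theorem c37_24 (u t : F) : X 37 u * X 24 t = X 24 t * (X 37 u * (X 38 (t * u) * X 45 (t * u ^ 2))) := by
  rw [swapE (ok 39 (by decide) : okPair (37, 24, [(38, 1, 1), (45, 1, 2)]) = true)]; simp
theorem c37_24' (u t : F) (w : G) : X 37 u * (X 24 t * w) = X 24 t * (X 37 u * (X 38 (t * u) * (X 45 (t * u ^ 2) * w))) := by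
  rw [swap (ok 39 (by decide) : okPair (37, 24, [(38, 1, 1), (45, 1, 2)]) = true)]; simp [mul_assoc]
theorem c32_24 (u t : F) : X 32 u * X 24 t = X 24 t * X 32 u := by
  rw [swapE (ok 40 (by decide) : okPair (32, 24, []) = true)]; simp
theorem c32_24' (u t : F) (w : G) : X 32 u * (X 24 t * w) = X 24 t * (X 32 u * w) := by
  rw [swap (ok 40 (by decide) : okPair (32, 24, []) = true)]; simp
theorem c27_24 (u t : F) : X 27 u * X 24 t = X 24 t * X 27 u := by
  rw [swapE (ok 41 (by decide) : okPair (27, 24, []) = true)]; simp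
theorem c27_24' (u t : F) (w : G) : X 27 u * (X 24 t * w) = X 24 t * (X 27 u * w) := by
  rw [swap (ok 41 (by decide) : okPair (27, 24, []) = true)]; simp
theorem c25_24 (u t : F) : X 25 u * X 24 t = X 24 t * (X 25 u * (X 26 (t * u))) := by
  rw [swapE (ok 42 (by decide) : okPair (25, 24, [(26, 1, 1)]) = true)]; simp
theorem c25_24' (u t : F) (w : G) : X 25 u * (X 24 t * w) = X 24 t * (X 25 u * (X 26 (t * u) * w)) := by
  rw [swap (ok 42 (by decide) : okPair (25, 24, [(26, 1, 1)]) = true)]; simp [mul_assoc]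
theorem c28_24 (u t : F) : X 28 u * X 24 t = X 24 t * (X 28 u * (X 29 (t * u) * X 32 (t * u ^ 2))) := by
  rw [swapE (ok 43 (by decide) : okPair (28, 24, [(29, 1, 1), (32, 1, 2)]) = true)]; simp
theorem c28_24' (u t : F) (w : G) : X 28 u * (X 24 t * w) = X 24 t * (X 28 u * (X 29 (t * u) * (X 32 (t * u ^ 2) * w))) := by
  rw [swap (ok 43 (by decide) : okPair (28, 24, [(29, 1, 1), (32, 1, 2)]) = true)]; simp [mul_assoc]
theorem c30_24 (u t : F) : X 30 u * X 24 t = X 24 t * (X 30 u * (X 31 (t * u))) := by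
  rw [swapE (ok 44 (by decide) : okPair (30, 24, [(31, 1, 1)]) = true)]; simp
theorem c30_24' (u t : F) (w : G) : X 30 u * (X 24 t * w) = X 24 t * (X 30 u * (X 31 (t * u) * w)) := by
  rw [swap (ok 44 (by decide) : okPair (30, 24, [(31, 1, 1)]) = true)]; simp [mul_assoc]
theorem c26_34 (u t : F) : X 26 u * X 34 t = X 34 t * (X 26 u * (X 36 (t * u) * X 42 (t ^ 2 * u))) := by
  rw [swapE (ok 45 (by decide) : okPair (26, 34, [(36, 1, 1), (42, 2, 1)]) = true)]; simp
theorem c26_34' (u t : F) (w : G) : X 26 u * (X 34 t * w) = X 34 t * (X 26 u * (X 36 (t * u) * (X 42 (t ^ 2 * u) * w))) := by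
  rw [swap (ok 45 (by decide) : okPair (26, 34, [(36, 1, 1), (42, 2, 1)]) = true)]; simp [mul_assoc]
theorem c36_34 (u t : F) : X 36 u * X 34 t = X 34 t * X 36 u := by
  rw [swapE (ok 46 (by decide) : okPair (36, 34, []) = true)]; simp
theorem c36_34' (u t : F) (w : G) : X 36 u * (X 34 t * w) = X 34 t * (X 36 u * w) := by
  rw [swap (ok 46 (by decide) : okPair (36, 34, []) = true)]; simp
theorem c42_34 (u t : F) : X 42 u * X 34 t = X 34 t * X 42 u := by
  rw [swapE (ok 47 (by decide) : okPair (42, 34, []) = true)]; simp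
theorem c42_34' (u t : F) (w : G) : X 42 u * (X 34 t * w) = X 34 t * (X 42 u * w) := by
  rw [swap (ok 47 (by decide) : okPair (42, 34, []) = true)]; simp
theorem c38_34 (u t : F) : X 38 u * X 34 t = X 34 t * X 38 u := by
  rw [swapE (ok 48 (by decide) : okPair (38, 34, []) = true)]; simp
theorem c38_34' (u t : F) (w : G) : X 38 u * (X 34 t * w) = X 34 t * (X 38 u * w) := by
  rw [swap (ok 48 (by decide) : okPair (38, 34, []) = true)]; simp
theorem c43_34 (u t : F) : X 43 u * X 34 t = X 34 t * X 43 u := by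
  rw [swapE (ok 49 (by decide) : okPair (43, 34, []) = true)]; simp
theorem c43_34' (u t : F) (w : G) : X 43 u * (X 34 t * w) = X 34 t * (X 43 u * w) := by
  rw [swap (ok 49 (by decide) : okPair (43, 34, []) = true)]; simp
theorem c29_34 (u t : F) : X 29 u * X 34 t = X 34 t * (X 29 u * (X 38 (t * u))) := by
  rw [swapE (ok 50 (by decide) : okPair (29, 34, [(38, 1, 1)]) = true)]; simp
theorem c29_34' (u t : F) (w : G) : X 29 u * (X 34 t * w) = X 34 t * (X 29 u * (X 38 (t * u) * w)) := by
  rw [swap (ok 50 (by decide) : okPair (29, 34, [(38, 1, 1)]) = true)]; simp [mul_assoc]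
theorem c41_34 (u t : F) : X 41 u * X 34 t = X 34 t * X 41 u := by
  rw [swapE (ok 51 (by decide) : okPair (41, 34, []) = true)]; simp
theorem c41_34' (u t : F) (w : G) : X 41 u * (X 34 t * w) = X 34 t * (X 41 u * w) := by
  rw [swap (ok 51 (by decide) : okPair (41, 34, []) = true)]; simp
theorem c44_34 (u t : F) : X 44 u * X 34 t = X 34 t * X 44 u := by
  rw [swapE (ok 52 (by decide) : okPair (44, 34, []) = true)]; simp
theorem c44_34' (u t : F) (w : G) : X 44 u * (X 34 t * w) = X 34 t * (X 44 u * w) := by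
  rw [swap (ok 52 (by decide) : okPair (44, 34, []) = true)]; simp
theorem c47_34 (u t : F) : X 47 u * X 34 t = X 34 t * X 47 u := by
  rw [swapE (ok 53 (by decide) : okPair (47, 34, []) = true)]; simp
theorem c47_34' (u t : F) (w : G) : X 47 u * (X 34 t * w) = X 34 t * (X 47 u * w) := by
  rw [swap (ok 53 (by decide) : okPair (47, 34, []) = true)]; simp
theorem c39_34 (u t : F) : X 39 u * X 34 t = X 34 t * (X 39 u * (X 44 (t * u))) := by
  rw [swapE (ok 54 (by decide) : okPair (39, 34, [(44, 1, 1)]) = true)]; simp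
theorem c39_34' (u t : F) (w : G) : X 39 u * (X 34 t * w) = X 34 t * (X 39 u * (X 44 (t * u) * w)) := by
  rw [swap (ok 54 (by decide) : okPair (39, 34, [(44, 1, 1)]) = true)]; simp [mul_assoc]
theorem c45_34 (u t : F) : X 45 u * X 34 t = X 34 t * X 45 u := by
  rw [swapE (ok 55 (by decide) : okPair (45, 34, []) = true)]; simp
theorem c45_34' (u t : F) (w : G) : X 45 u * (X 34 t * w) = X 34 t * (X 45 u * w) := by
  rw [swap (ok 55 (by decide) : okPair (45, 34, []) = true)]; simp
theorem c35_34 (u t : F) : X 35 u * X 34 t = X 34 t * X 35 u := by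
  rw [swapE (ok 56 (by decide) : okPair (35, 34, []) = true)]; simp
theorem c35_34' (u t : F) (w : G) : X 35 u * (X 34 t * w) = X 34 t * (X 35 u * w) := by
  rw [swap (ok 56 (by decide) : okPair (35, 34, []) = true)]; simp
theorem c31_34 (u t : F) : X 31 u * X 34 t = X 34 t * X 31 u := by
  rw [swapE (ok 57 (by decide) : okPair (31, 34, []) = true)]; simp
theorem c31_34' (u t : F) (w : G) : X 31 u * (X 34 t * w) = X 34 t * (X 31 u * w) := by
  rw [swap (ok 57 (by decide) : okPair (31, 34, []) = true)]; simp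
theorem c40_34 (u t : F) : X 40 u * X 34 t = X 34 t * X 40 u := by
  rw [swapE (ok 58 (by decide) : okPair (40, 34, []) = true)]; simp
theorem c40_34' (u t : F) (w : G) : X 40 u * (X 34 t * w) = X 34 t * (X 40 u * w) := by
  rw [swap (ok 58 (by decide) : okPair (40, 34, []) = true)]; simp
theorem c46_34 (u t : F) : X 46 u * X 34 t = X 34 t * X 46 u := by
  rw [swapE (ok 59 (by decide) : okPair (46, 34, []) = true)]; simp
theorem c46_34' (u t : F) (w : G) : X 46 u * (X 34 t * w) = X 34 t * (X 46 u * w) := by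
  rw [swap (ok 59 (by decide) : okPair (46, 34, []) = true)]; simp
theorem c37_34 (u t : F) : X 37 u * X 34 t = X 34 t * X 37 u := by
  rw [swapE (ok 60 (by decide) : okPair (37, 34, []) = true)]; simp
theorem c37_34' (u t : F) (w : G) : X 37 u * (X 34 t * w) = X 34 t * (X 37 u * w) := by
  rw [swap (ok 60 (by decide) : okPair (37, 34, []) = true)]; simp
theorem c32_34 (u t : F) : X 32 u * X 34 t = X 34 t * (X 32 u * (X 40 (t * u) * X 45 (t ^ 2 * u))) := by
  rw [swapE (ok 61 (by decide) : okPair (32, 34, [(40, 1, 1), (45, 2, 1)]) = true)]; simp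
theorem c32_34' (u t : F) (w : G) : X 32 u * (X 34 t * w) = X 34 t * (X 32 u * (X 40 (t * u) * (X 45 (t ^ 2 * u) * w))) := by
  rw [swap (ok 61 (by decide) : okPair (32, 34, [(40, 1, 1), (45, 2, 1)]) = true)]; simp [mul_assoc]
theorem c27_34 (u t : F) : X 27 u * X 34 t = X 34 t * X 27 u := by
  rw [swapE (ok 62 (by decide) : okPair (27, 34, []) = true)]; simp
theorem c27_34' (u t : F) (w : G) : X 27 u * (X 34 t * w) = X 34 t * (X 27 u * w) := by
  rw [swap (ok 62 (by decide) : okPair (27, 34, []) = true)]; simp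
theorem c25_34 (u t : F) : X 25 u * X 34 t = X 34 t * (X 25 u * (X 35 (t * u) * X 41 (t ^ 2 * u))) := by
  rw [swapE (ok 63 (by decide) : okPair (25, 34, [(35, 1, 1), (41, 2, 1)]) = true)]; simp
theorem c25_34' (u t : F) (w : G) : X 25 u * (X 34 t * w) = X 34 t * (X 25 u * (X 35 (t * u) * (X 41 (t ^ 2 * u) * w))) := by
  rw [swap (ok 63 (by decide) : okPair (25, 34, [(35, 1, 1), (41, 2, 1)]) = true)]; simp [mul_assoc]
theorem c28_34 (u t : F) : X 28 u * X 34 t = X 34 t * (X 28 u * (X 37 (t * u))) := by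
  rw [swapE (ok 64 (by decide) : okPair (28, 34, [(37, 1, 1)]) = true)]; simp
theorem c28_34' (u t : F) (w : G) : X 28 u * (X 34 t * w) = X 34 t * (X 28 u * (X 37 (t * u) * w)) := by
  rw [swap (ok 64 (by decide) : okPair (28, 34, [(37, 1, 1)]) = true)]; simp [mul_assoc]
theorem c30_34 (u t : F) : X 30 u * X 34 t = X 34 t * X 30 u := by
  rw [swapE (ok 65 (by decide) : okPair (30, 34, []) = true)]; simp
theorem c30_34' (u t : F) (w : G) : X 30 u * (X 34 t * w) = X 34 t * (X 30 u * w) := by
  rw [swap (ok 65 (by decide) : okPair (30, 34, []) = true)]; simp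
theorem c36_26 (u t : F) : X 36 u * X 26 t = X 26 t * X 36 u := by
  rw [swapE (ok 66 (by decide) : okPair (36, 26, []) = true)]; simp
theorem c36_26' (u t : F) (w : G) : X 36 u * (X 26 t * w) = X 26 t * (X 36 u * w) := by
  rw [swap (ok 66 (by decide) : okPair (36, 26, []) = true)]; simp
theorem c42_26 (u t : F) : X 42 u * X 26 t = X 26 t * X 42 u := by
  rw [swapE (ok 67 (by decide) : okPair (42, 26, []) = true)]; simp
theorem c42_26' (u t : F) (w : G) : X 42 u * (X 26 t * w) = X 26 t * (X 42 u * w) := by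
  rw [swap (ok 67 (by decide) : okPair (42, 26, []) = true)]; simp
theorem c38_26 (u t : F) : X 38 u * X 26 t = X 26 t * X 38 u := by
  rw [swapE (ok 68 (by decide) : okPair (38, 26, []) = true)]; simp
theorem c38_26' (u t : F) (w : G) : X 38 u * (X 26 t * w) = X 26 t * (X 38 u * w) := by
  rw [swap (ok 68 (by decide) : okPair (38, 26, []) = true)]; simp
theorem c43_26 (u t : F) : X 43 u * X 26 t = X 26 t * X 43 u := by
  rw [swapE (ok 69 (by decide) : okPair (43, 26, []) = true)]; simp
theorem c43_26' (u t : F) (w : G) : X 43 u * (X 26 t * w) = X 26 t * (X 43 u * w) := by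
  rw [swap (ok 69 (by decide) : okPair (43, 26, []) = true)]; simp
theorem c29_26 (u t : F) : X 29 u * X 26 t = X 26 t * X 29 u := by
  rw [swapE (ok 70 (by decide) : okPair (29, 26, []) = true)]; simp
theorem c29_26' (u t : F) (w : G) : X 29 u * (X 26 t * w) = X 26 t * (X 29 u * w) := by
  rw [swap (ok 70 (by decide) : okPair (29, 26, []) = true)]; simp
theorem c41_26 (u t : F) : X 41 u * X 26 t = X 26 t * (X 41 u * (X 43 (t * u))) := by
  rw [swapE (ok 71 (by decide) : okPair (41, 26, [(43, 1, 1)]) = true)]; simp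
theorem c41_26' (u t : F) (w : G) : X 41 u * (X 26 t * w) = X 26 t * (X 41 u * (X 43 (t * u) * w)) := by
  rw [swap (ok 71 (by decide) : okPair (41, 26, [(43, 1, 1)]) = true)]; simp [mul_assoc]
theorem c44_26 (u t : F) : X 44 u * X 26 t = X 26 t * X 44 u := by
  rw [swapE (ok 72 (by decide) : okPair (44, 26, []) = true)]; simp
theorem c44_26' (u t : F) (w : G) : X 44 u * (X 26 t * w) = X 26 t * (X 44 u * w) := by
  rw [swap (ok 72 (by decide) : okPair (44, 26, []) = true)]; simp
theorem c47_26 (u t : F) : X 47 u * X 26 t = X 26 t * X 47 u := by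
  rw [swapE (ok 73 (by decide) : okPair (47, 26, []) = true)]; simp
theorem c47_26' (u t : F) (w : G) : X 47 u * (X 26 t * w) = X 26 t * (X 47 u * w) := by
  rw [swap (ok 73 (by decide) : okPair (47, 26, []) = true)]; simp
theorem c39_26 (u t : F) : X 39 u * X 26 t = X 26 t * X 39 u := by
  rw [swapE (ok 74 (by decide) : okPair (39, 26, []) = true)]; simp
theorem c39_26' (u t : F) (w : G) : X 39 u * (X 26 t * w) = X 26 t * (X 39 u * w) := by
  rw [swap (ok 74 (by decide) : okPair (39, 26, []) = true)]; simp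
theorem c45_26 (u t : F) : X 45 u * X 26 t = X 26 t * (X 45 u * (X 47 (t * u))) := by
  rw [swapE (ok 75 (by decide) : okPair (45, 26, [(47, 1, 1)]) = true)]; simp
theorem c45_26' (u t : F) (w : G) : X 45 u * (X 26 t * w) = X 26 t * (X 45 u * (X 47 (t * u) * w)) := by
  rw [swap (ok 75 (by decide) : okPair (45, 26, [(47, 1, 1)]) = true)]; simp [mul_assoc]
theorem c35_26 (u t : F) : X 35 u * X 26 t = X 26 t * X 35 u := by
  rw [swapE (ok 76 (by decide) : okPair (35, 26, []) = true)]; simp
theorem c35_26' (u t : F) (w : G) : X 35 u * (X 26 t * w) = X 26 t * (X 35 u * w) := by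
  rw [swap (ok 76 (by decide) : okPair (35, 26, []) = true)]; simp
theorem c31_26 (u t : F) : X 31 u * X 26 t = X 26 t * X 31 u := by
  rw [swapE (ok 77 (by decide) : okPair (31, 26, []) = true)]; simp
theorem c31_26' (u t : F) (w : G) : X 31 u * (X 26 t * w) = X 26 t * (X 31 u * w) := by
  rw [swap (ok 77 (by decide) : okPair (31, 26, []) = true)]; simp
theorem c40_26 (u t : F) : X 40 u * X 26 t = X 26 t * X 40 u := by
  rw [swapE (ok 78 (by decide) : okPair (40, 26, []) = true)]; simp
theorem c40_26' (u t : F) (w : G) : X 40 u * (X 26 t * w) = X 26 t * (X 40 u * w) := by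
  rw [swap (ok 78 (by decide) : okPair (40, 26, []) = true)]; simp
theorem c46_26 (u t : F) : X 46 u * X 26 t = X 26 t * X 46 u := by
  rw [swapE (ok 79 (by decide) : okPair (46, 26, []) = true)]; simp
theorem c46_26' (u t : F) (w : G) : X 46 u * (X 26 t * w) = X 26 t * (X 46 u * w) := by
  rw [swap (ok 79 (by decide) : okPair (46, 26, []) = true)]; simp
theorem c37_26 (u t : F) : X 37 u * X 26 t = X 26 t * (X 37 u * (X 39 (t * u) * X 46 (t * u ^ 2))) := by
  rw [swapE (ok 80 (by decide) : okPair (37, 26, [(39, 1, 1), (46, 1, 2)]) = true)]; simp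
theorem c37_26' (u t : F) (w : G) : X 37 u * (X 26 t * w) = X 26 t * (X 37 u * (X 39 (t * u) * (X 46 (t * u ^ 2) * w))) := by
  rw [swap (ok 80 (by decide) : okPair (37, 26, [(39, 1, 1), (46, 1, 2)]) = true)]; simp [mul_assoc]
theorem c32_26 (u t : F) : X 32 u * X 26 t = X 26 t * X 32 u := by
  rw [swapE (ok 81 (by decide) : okPair (32, 26, []) = true)]; simp
theorem c32_26' (u t : F) (w : G) : X 32 u * (X 26 t * w) = X 26 t * (X 32 u * w) := by
  rw [swap (ok 81 (by decide) : okPair (32, 26, []) = true)]; simp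
theorem c27_26 (u t : F) : X 27 u * X 26 t = X 26 t * (X 27 u * (X 29 (t * u) * X 31 (t * u ^ 2))) := by
  rw [swapE (ok 82 (by decide) : okPair (27, 26, [(29, 1, 1), (31, 1, 2)]) = true)]; simp
theorem c27_26' (u t : F) (w : G) : X 27 u * (X 26 t * w) = X 26 t * (X 27 u * (X 29 (t * u) * (X 31 (t * u ^ 2) * w))) := by
  rw [swap (ok 82 (by decide) : okPair (27, 26, [(29, 1, 1), (31, 1, 2)]) = true)]; simp [mul_assoc]
theorem c25_26 (u t : F) : X 25 u * X 26 t = X 26 t * X 25 u := by
  rw [swapE (ok 83 (by decide) : okPair (25, 26, []) = true)]; simp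
theorem c25_26' (u t : F) (w : G) : X 25 u * (X 26 t * w) = X 26 t * (X 25 u * w) := by
  rw [swap (ok 83 (by decide) : okPair (25, 26, []) = true)]; simp
theorem c28_26 (u t : F) : X 28 u * X 26 t = X 26 t * X 28 u := by
  rw [swapE (ok 84 (by decide) : okPair (28, 26, []) = true)]; simp
theorem c28_26' (u t : F) (w : G) : X 28 u * (X 26 t * w) = X 26 t * (X 28 u * w) := by
  rw [swap (ok 84 (by decide) : okPair (28, 26, []) = true)]; simp
theorem c30_26 (u t : F) : X 30 u * X 26 t = X 26 t * (X 30 u * (X 32 (t * u))) := by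
  rw [swapE (ok 85 (by decide) : okPair (30, 26, [(32, 1, 1)]) = true)]; simp
theorem c30_26' (u t : F) (w : G) : X 30 u * (X 26 t * w) = X 26 t * (X 30 u * (X 32 (t * u) * w)) := by
  rw [swap (ok 85 (by decide) : okPair (30, 26, [(32, 1, 1)]) = true)]; simp [mul_assoc]
theorem c42_36 (u t : F) : X 42 u * X 36 t = X 36 t * X 42 u := by
  rw [swapE (ok 86 (by decide) : okPair (42, 36, []) = true)]; simp
theorem c42_36' (u t : F) (w : G) : X 42 u * (X 36 t * w) = X 36 t * (X 42 u * w) := by
  rw [swap (ok 86 (by decide) : okPair (42, 36, []) = true)]; simp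
theorem c38_36 (u t : F) : X 38 u * X 36 t = X 36 t * X 38 u := by
  rw [swapE (ok 87 (by decide) : okPair (38, 36, []) = true)]; simp
theorem c38_36' (u t : F) (w : G) : X 38 u * (X 36 t * w) = X 36 t * (X 38 u * w) := by
  rw [swap (ok 87 (by decide) : okPair (38, 36, []) = true)]; simp
theorem c43_36 (u t : F) : X 43 u * X 36 t = X 36 t * X 43 u := by
  rw [swapE (ok 88 (by decide) : okPair (43, 36, []) = true)]; simp
theorem c43_36' (u t : F) (w : G) : X 43 u * (X 36 t * w) = X 36 t * (X 43 u * w) := by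
  rw [swap (ok 88 (by decide) : okPair (43, 36, []) = true)]; simp
theorem c29_36 (u t : F) : X 29 u * X 36 t = X 36 t * X 29 u := by
  rw [swapE (ok 89 (by decide) : okPair (29, 36, []) = true)]; simp
theorem c29_36' (u t : F) (w : G) : X 29 u * (X 36 t * w) = X 36 t * (X 29 u * w) := by
  rw [swap (ok 89 (by decide) : okPair (29, 36, []) = true)]; simp
theorem c41_36 (u t : F) : X 41 u * X 36 t = X 36 t * X 41 u := by
  rw [swapE (ok 90 (by decide) : okPair (41, 36, []) = true)]; simp
theorem c41_36' (u t : F) (w : G) : X 41 u * (X 36 t * w) = X 36 t * (X 41 u * w) := by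
  rw [swap (ok 90 (by decide) : okPair (41, 36, []) = true)]; simp
theorem c44_36 (u t : F) : X 44 u * X 36 t = X 36 t * X 44 u := by
  rw [swapE (ok 91 (by decide) : okPair (44, 36, []) = true)]; simp
theorem c44_36' (u t : F) (w : G) : X 44 u * (X 36 t * w) = X 36 t * (X 44 u * w) := by
  rw [swap (ok 91 (by decide) : okPair (44, 36, []) = true)]; simp
theorem c47_36 (u t : F) : X 47 u * X 36 t = X 36 t * X 47 u := by
  rw [swapE (ok 92 (by decide) : okPair (47, 36, []) = true)]; simp
theorem c47_36' (u t : F) (w : G) : X 47 u * (X 36 t * w) = X 36 t * (X 47 u * w) := by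
  rw [swap (ok 92 (by decide) : okPair (47, 36, []) = true)]; simp
theorem c39_36 (u t : F) : X 39 u * X 36 t = X 36 t * X 39 u := by
  rw [swapE (ok 93 (by decide) : okPair (39, 36, []) = true)]; simp
theorem c39_36' (u t : F) (w : G) : X 39 u * (X 36 t * w) = X 36 t * (X 39 u * w) := by
  rw [swap (ok 93 (by decide) : okPair (39, 36, []) = true)]; simp
theorem c45_36 (u t : F) : X 45 u * X 36 t = X 36 t * X 45 u := by
  rw [swapE (ok 94 (by decide) : okPair (45, 36, []) = true)]; simp
theorem c45_36' (u t : F) (w : G) : X 45 u * (X 36 t * w) = X 36 t * (X 45 u * w) := by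
  rw [swap (ok 94 (by decide) : okPair (45, 36, []) = true)]; simp
theorem c35_36 (u t : F) : X 35 u * X 36 t = X 36 t * X 35 u := by
  rw [swapE (ok 95 (by decide) : okPair (35, 36, []) = true)]; simp
theorem c35_36' (u t : F) (w : G) : X 35 u * (X 36 t * w) = X 36 t * (X 35 u * w) := by
  rw [swap (ok 95 (by decide) : okPair (35, 36, []) = true)]; simp
theorem c31_36 (u t : F) : X 31 u * X 36 t = X 36 t * X 31 u := by
  rw [swapE (ok 96 (by decide) : okPair (31, 36, []) = true)]; simp
theorem c31_36' (u t : F) (w : G) : X 31 u * (X 36 t * w) = X 36 t * (X 31 u * w) := by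
  rw [swap (ok 96 (by decide) : okPair (31, 36, []) = true)]; simp
theorem c40_36 (u t : F) : X 40 u * X 36 t = X 36 t * X 40 u := by
  rw [swapE (ok 97 (by decide) : okPair (40, 36, []) = true)]; simp
theorem c40_36' (u t : F) (w : G) : X 40 u * (X 36 t * w) = X 36 t * (X 40 u * w) := by
  rw [swap (ok 97 (by decide) : okPair (40, 36, []) = true)]; simp
theorem c46_36 (u t : F) : X 46 u * X 36 t = X 36 t * X 46 u := by
  rw [swapE (ok 98 (by decide) : okPair (46, 36, []) = true)]; simp
theorem c46_36' (u t : F) (w : G) : X 46 u * (X 36 t * w) = X 36 t * (X 46 u * w) := by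
  rw [swap (ok 98 (by decide) : okPair (46, 36, []) = true)]; simp
theorem c37_36 (u t : F) : X 37 u * X 36 t = X 36 t * (X 37 u * (X 44 (t * u))) := by
  rw [swapE (ok 99 (by decide) : okPair (37, 36, [(44, 1, 1)]) = true)]; simp
theorem c37_36' (u t : F) (w : G) : X 37 u * (X 36 t * w) = X 36 t * (X 37 u * (X 44 (t * u) * w)) := by
  rw [swap (ok 99 (by decide) : okPair (37, 36, [(44, 1, 1)]) = true)]; simp [mul_assoc]
theorem c32_36 (u t : F) : X 32 u * X 36 t = X 36 t * X 32 u := by
  rw [swapE (ok 100 (by decide) : okPair (32, 36, []) = true)]; simp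
theorem c32_36' (u t : F) (w : G) : X 32 u * (X 36 t * w) = X 36 t * (X 32 u * w) := by
  rw [swap (ok 100 (by decide) : okPair (32, 36, []) = true)]; simp
theorem c27_36 (u t : F) : X 27 u * X 36 t = X 36 t * (X 27 u * (X 38 (t * u))) := by
  rw [swapE (ok 101 (by decide) : okPair (27, 36, [(38, 1, 1)]) = true)]; simp
theorem c27_36' (u t : F) (w : G) : X 27 u * (X 36 t * w) = X 36 t * (X 27 u * (X 38 (t * u) * w)) := by
  rw [swap (ok 101 (by decide) : okPair (27, 36, [(38, 1, 1)]) = true)]; simp [mul_assoc]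
theorem c25_36 (u t : F) : X 25 u * X 36 t = X 36 t * X 25 u := by
  rw [swapE (ok 102 (by decide) : okPair (25, 36, []) = true)]; simp
theorem c25_36' (u t : F) (w : G) : X 25 u * (X 36 t * w) = X 36 t * (X 25 u * w) := by
  rw [swap (ok 102 (by decide) : okPair (25, 36, []) = true)]; simp
theorem c28_36 (u t : F) : X 28 u * X 36 t = X 36 t * (X 28 u * (X 39 (t * u))) := by
  rw [swapE (ok 103 (by decide) : okPair (28, 36, [(39, 1, 1)]) = true)]; simp
theorem c28_36' (u t : F) (w : G) : X 28 u * (X 36 t * w) = X 36 t * (X 28 u * (X 39 (t * u) * w)) := by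
  rw [swap (ok 103 (by decide) : okPair (28, 36, [(39, 1, 1)]) = true)]; simp [mul_assoc]
theorem c30_36 (u t : F) : X 30 u * X 36 t = X 36 t * (X 30 u * (X 40 (t * u) * X 47 (t ^ 2 * u))) := by
  rw [swapE (ok 104 (by decide) : okPair (30, 36, [(40, 1, 1), (47, 2, 1)]) = true)]; simp
theorem c30_36' (u t : F) (w : G) : X 30 u * (X 36 t * w) = X 36 t * (X 30 u * (X 40 (t * u) * (X 47 (t ^ 2 * u) * w))) := by
  rw [swap (ok 104 (by decide) : okPair (30, 36, [(40, 1, 1), (47, 2, 1)]) = true)]; simp [mul_assoc]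
theorem c38_42 (u t : F) : X 38 u * X 42 t = X 42 t * X 38 u := by
  rw [swapE (ok 105 (by decide) : okPair (38, 42, []) = true)]; simp
theorem c38_42' (u t : F) (w : G) : X 38 u * (X 42 t * w) = X 42 t * (X 38 u * w) := by
  rw [swap (ok 105 (by decide) : okPair (38, 42, []) = true)]; simp
theorem c43_42 (u t : F) : X 43 u * X 42 t = X 42 t * X 43 u := by
  rw [swapE (ok 106 (by decide) : okPair (43, 42, []) = true)]; simp
theorem c43_42' (u t : F) (w : G) : X 43 u * (X 42 t * w) = X 42 t * (X 43 u * w) := by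
  rw [swap (ok 106 (by decide) : okPair (43, 42, []) = true)]; simp
theorem c29_42 (u t : F) : X 29 u * X 42 t = X 42 t * X 29 u := by
  rw [swapE (ok 107 (by decide) : okPair (29, 42, []) = true)]; simp
theorem c29_42' (u t : F) (w : G) : X 29 u * (X 42 t * w) = X 42 t * (X 29 u * w) := by
  rw [swap (ok 107 (by decide) : okPair (29, 42, []) = true)]; simp
theorem c41_42 (u t : F) : X 41 u * X 42 t = X 42 t * X 41 u := by
  rw [swapE (ok 108 (by decide) : okPair (41, 42, []) = true)]; simp
theorem c41_42' (u t : F) (w : G) : X 41 u * (X 42 t * w) = X 42 t * (X 41 u * w) := by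
  rw [swap (ok 108 (by decide) : okPair (41, 42, []) = true)]; simp
theorem c44_42 (u t : F) : X 44 u * X 42 t = X 42 t * X 44 u := by
  rw [swapE (ok 109 (by decide) : okPair (44, 42, []) = true)]; simp
theorem c44_42' (u t : F) (w : G) : X 44 u * (X 42 t * w) = X 42 t * (X 44 u * w) := by
  rw [swap (ok 109 (by decide) : okPair (44, 42, []) = true)]; simp
theorem c47_42 (u t : F) : X 47 u * X 42 t = X 42 t * X 47 u := by
  rw [swapE (ok 110 (by decide) : okPair (47, 42, []) = true)]; simp
theorem c47_42' (u t : F) (w : G) : X 47 u * (X 42 t * w) = X 42 t * (X 47 u * w) := by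
  rw [swap (ok 110 (by decide) : okPair (47, 42, []) = true)]; simp
theorem c39_42 (u t : F) : X 39 u * X 42 t = X 42 t * X 39 u := by
  rw [swapE (ok 111 (by decide) : okPair (39, 42, []) = true)]; simp
theorem c39_42' (u t : F) (w : G) : X 39 u * (X 42 t * w) = X 42 t * (X 39 u * w) := by
  rw [swap (ok 111 (by decide) : okPair (39, 42, []) = true)]; simp
theorem c45_42 (u t : F) : X 45 u * X 42 t = X 42 t * X 45 u := by
  rw [swapE (ok 112 (by decide) : okPair (45, 42, []) = true)]; simp
theorem c45_42' (u t : F) (w : G) : X 45 u * (X 42 t * w) = X 42 t * (X 45 u * w) := by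
  rw [swap (ok 112 (by decide) : okPair (45, 42, []) = true)]; simp
theorem c35_42 (u t : F) : X 35 u * X 42 t = X 42 t * X 35 u := by
  rw [swapE (ok 113 (by decide) : okPair (35, 42, []) = true)]; simp
theorem c35_42' (u t : F) (w : G) : X 35 u * (X 42 t * w) = X 42 t * (X 35 u * w) := by
  rw [swap (ok 113 (by decide) : okPair (35, 42, []) = true)]; simp
theorem c31_42 (u t : F) : X 31 u * X 42 t = X 42 t * X 31 u := by
  rw [swapE (ok 114 (by decide) : okPair (31, 42, []) = true)]; simp
theorem c31_42' (u t : F) (w : G) : X 31 u * (X 42 t * w) = X 42 t * (X 31 u * w) := by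
  rw [swap (ok 114 (by decide) : okPair (31, 42, []) = true)]; simp
theorem c40_42 (u t : F) : X 40 u * X 42 t = X 42 t * X 40 u := by
  rw [swapE (ok 115 (by decide) : okPair (40, 42, []) = true)]; simp
theorem c40_42' (u t : F) (w : G) : X 40 u * (X 42 t * w) = X 42 t * (X 40 u * w) := by
  rw [swap (ok 115 (by decide) : okPair (40, 42, []) = true)]; simp
theorem c46_42 (u t : F) : X 46 u * X 42 t = X 42 t * X 46 u := by
  rw [swapE (ok 116 (by decide) : okPair (46, 42, []) = true)]; simp
theorem c46_42' (u t : F) (w : G) : X 46 u * (X 42 t * w) = X 42 t * (X 46 u * w) := by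
  rw [swap (ok 116 (by decide) : okPair (46, 42, []) = true)]; simp
theorem c37_42 (u t : F) : X 37 u * X 42 t = X 42 t * X 37 u := by
  rw [swapE (ok 117 (by decide) : okPair (37, 42, []) = true)]; simp
theorem c37_42' (u t : F) (w : G) : X 37 u * (X 42 t * w) = X 42 t * (X 37 u * w) := by
  rw [swap (ok 117 (by decide) : okPair (37, 42, []) = true)]; simp
theorem c32_42 (u t : F) : X 32 u * X 42 t = X 42 t * (X 32 u * (X 47 (t * u))) := by
  rw [swapE (ok 118 (by decide) : okPair (32, 42, [(47, 1, 1)]) = true)]; simp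
theorem c32_42' (u t : F) (w : G) : X 32 u * (X 42 t * w) = X 42 t * (X 32 u * (X 47 (t * u) * w)) := by
  rw [swap (ok 118 (by decide) : okPair (32, 42, [(47, 1, 1)]) = true)]; simp [mul_assoc]
theorem c27_42 (u t : F) : X 27 u * X 42 t = X 42 t * X 27 u := by
  rw [swapE (ok 119 (by decide) : okPair (27, 42, []) = true)]; simp
theorem c27_42' (u t : F) (w : G) : X 27 u * (X 42 t * w) = X 42 t * (X 27 u * w) := by
  rw [swap (ok 119 (by decide) : okPair (27, 42, []) = true)]; simp
theorem c25_42 (u t : F) : X 25 u * X 42 t = X 42 t * (X 25 u * (X 43 (t * u))) := by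
  rw [swapE (ok 120 (by decide) : okPair (25, 42, [(43, 1, 1)]) = true)]; simp
theorem c25_42' (u t : F) (w : G) : X 25 u * (X 42 t * w) = X 42 t * (X 25 u * (X 43 (t * u) * w)) := by
  rw [swap (ok 120 (by decide) : okPair (25, 42, [(43, 1, 1)]) = true)]; simp [mul_assoc]
theorem c28_42 (u t : F) : X 28 u * X 42 t = X 42 t * (X 28 u * (X 44 (t * u) * X 46 (t * u ^ 2))) := by
  rw [swapE (ok 121 (by decide) : okPair (28, 42, [(44, 1, 1), (46, 1, 2)]) = true)]; simp
theorem c28_42' (u t : F) (w : G) : X 28 u * (X 42 t * w) = X 42 t * (X 28 u * (X 44 (t * u) * (X 46 (t * u ^ 2) * w))) := by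
  rw [swap (ok 121 (by decide) : okPair (28, 42, [(44, 1, 1), (46, 1, 2)]) = true)]; simp [mul_assoc]
theorem c30_42 (u t : F) : X 30 u * X 42 t = X 42 t * (X 30 u * (X 45 (t * u))) := by
  rw [swapE (ok 122 (by decide) : okPair (30, 42, [(45, 1, 1)]) = true)]; simp
theorem c30_42' (u t : F) (w : G) : X 30 u * (X 42 t * w) = X 42 t * (X 30 u * (X 45 (t * u) * w)) := by
  rw [swap (ok 122 (by decide) : okPair (30, 42, [(45, 1, 1)]) = true)]; simp [mul_assoc]
theorem c43_38 (u t : F) : X 43 u * X 38 t = X 38 t * X 43 u := by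
  rw [swapE (ok 123 (by decide) : okPair (43, 38, []) = true)]; simp
theorem c43_38' (u t : F) (w : G) : X 43 u * (X 38 t * w) = X 38 t * (X 43 u * w) := by
  rw [swap (ok 123 (by decide) : okPair (43, 38, []) = true)]; simp
theorem c29_38 (u t : F) : X 29 u * X 38 t = X 38 t * X 29 u := by
  rw [swapE (ok 124 (by decide) : okPair (29, 38, []) = true)]; simp
theorem c29_38' (u t : F) (w : G) : X 29 u * (X 38 t * w) = X 38 t * (X 29 u * w) := by
  rw [swap (ok 124 (by decide) : okPair (29, 38, []) = true)]; simp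
theorem c41_38 (u t : F) : X 41 u * X 38 t = X 38 t * X 41 u := by
  rw [swapE (ok 125 (by decide) : okPair (41, 38, []) = true)]; simp
theorem c41_38' (u t : F) (w : G) : X 41 u * (X 38 t * w) = X 38 t * (X 41 u * w) := by
  rw [swap (ok 125 (by decide) : okPair (41, 38, []) = true)]; simp
theorem c44_38 (u t : F) : X 44 u * X 38 t = X 38 t * X 44 u := by
  rw [swapE (ok 126 (by decide) : okPair (44, 38, []) = true)]; simp
theorem c44_38' (u t : F) (w : G) : X 44 u * (X 38 t * w) = X 38 t * (X 44 u * w) := by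
  rw [swap (ok 126 (by decide) : okPair (44, 38, []) = true)]; simp
theorem c47_38 (u t : F) : X 47 u * X 38 t = X 38 t * X 47 u := by
  rw [swapE (ok 127 (by decide) : okPair (47, 38, []) = true)]; simp
theorem c47_38' (u t : F) (w : G) : X 47 u * (X 38 t * w) = X 38 t * (X 47 u * w) := by
  rw [swap (ok 127 (by decide) : okPair (47, 38, []) = true)]; simp
theorem c39_38 (u t : F) : X 39 u * X 38 t = X 38 t * X 39 u := by
  rw [swapE (ok 128 (by decide) : okPair (39, 38, []) = true)]; simp
theorem c39_38' (u t : F) (w : G) : X 39 u * (X 38 t * w) = X 38 t * (X 39 u * w) := by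
  rw [swap (ok 128 (by decide) : okPair (39, 38, []) = true)]; simp
theorem c45_38 (u t : F) : X 45 u * X 38 t = X 38 t * X 45 u := by
  rw [swapE (ok 129 (by decide) : okPair (45, 38, []) = true)]; simp
theorem c45_38' (u t : F) (w : G) : X 45 u * (X 38 t * w) = X 38 t * (X 45 u * w) := by
  rw [swap (ok 129 (by decide) : okPair (45, 38, []) = true)]; simp
theorem c35_38 (u t : F) : X 35 u * X 38 t = X 38 t * (X 35 u * (X 44 (t * u))) := by
  rw [swapE (ok 130 (by decide) : okPair (35, 38, [(44, 1, 1)]) = true)]; simp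
theorem c35_38' (u t : F) (w : G) : X 35 u * (X 38 t * w) = X 38 t * (X 35 u * (X 44 (t * u) * w)) := by
  rw [swap (ok 130 (by decide) : okPair (35, 38, [(44, 1, 1)]) = true)]; simp [mul_assoc]
theorem c31_38 (u t : F) : X 31 u * X 38 t = X 38 t * X 31 u := by
  rw [swapE (ok 131 (by decide) : okPair (31, 38, []) = true)]; simp
theorem c31_38' (u t : F) (w : G) : X 31 u * (X 38 t * w) = X 38 t * (X 31 u * w) := by
  rw [swap (ok 131 (by decide) : okPair (31, 38, []) = true)]; simp
theorem c40_38 (u t : F) : X 40 u * X 38 t = X 38 t * X 40 u := by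
  rw [swapE (ok 132 (by decide) : okPair (40, 38, []) = true)]; simp
theorem c40_38' (u t : F) (w : G) : X 40 u * (X 38 t * w) = X 38 t * (X 40 u * w) := by
  rw [swap (ok 132 (by decide) : okPair (40, 38, []) = true)]; simp
theorem c46_38 (u t : F) : X 46 u * X 38 t = X 38 t * X 46 u := by
  rw [swapE (ok 133 (by decide) : okPair (46, 38, []) = true)]; simp
theorem c46_38' (u t : F) (w : G) : X 46 u * (X 38 t * w) = X 38 t * (X 46 u * w) := by
  rw [swap (ok 133 (by decide) : okPair (46, 38, []) = true)]; simp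
theorem c37_38 (u t : F) : X 37 u * X 38 t = X 38 t * X 37 u := by
  rw [swapE (ok 134 (by decide) : okPair (37, 38, []) = true)]; simp
theorem c37_38' (u t : F) (w : G) : X 37 u * (X 38 t * w) = X 38 t * (X 37 u * w) := by
  rw [swap (ok 134 (by decide) : okPair (37, 38, []) = true)]; simp
theorem c32_38 (u t : F) : X 32 u * X 38 t = X 38 t * X 32 u := by
  rw [swapE (ok 135 (by decide) : okPair (32, 38, []) = true)]; simp
theorem c32_38' (u t : F) (w : G) : X 32 u * (X 38 t * w) = X 38 t * (X 32 u * w) := by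
  rw [swap (ok 135 (by decide) : okPair (32, 38, []) = true)]; simp
theorem c27_38 (u t : F) : X 27 u * X 38 t = X 38 t * X 27 u := by
  rw [swapE (ok 136 (by decide) : okPair (27, 38, []) = true)]; simp
theorem c27_38' (u t : F) (w : G) : X 27 u * (X 38 t * w) = X 38 t * (X 27 u * w) := by
  rw [swap (ok 136 (by decide) : okPair (27, 38, []) = true)]; simp
theorem c25_38 (u t : F) : X 25 u * X 38 t = X 38 t * (X 25 u * (X 39 (t * u) * X 47 (t ^ 2 * u))) := by
  rw [swapE (ok 137 (by decide) : okPair (25, 38, [(39, 1, 1), (47, 2, 1)]) = true)]; simp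
theorem c25_38' (u t : F) (w : G) : X 25 u * (X 38 t * w) = X 38 t * (X 25 u * (X 39 (t * u) * (X 47 (t ^ 2 * u) * w))) := by
  rw [swap (ok 137 (by decide) : okPair (25, 38, [(39, 1, 1), (47, 2, 1)]) = true)]; simp [mul_assoc]
theorem c28_38 (u t : F) : X 28 u * X 38 t = X 38 t * (X 28 u * (X 40 (t * u))) := by
  rw [swapE (ok 138 (by decide) : okPair (28, 38, [(40, 1, 1)]) = true)]; simp
theorem c28_38' (u t : F) (w : G) : X 28 u * (X 38 t * w) = X 38 t * (X 28 u * (X 40 (t * u) * w)) := by
  rw [swap (ok 138 (by decide) : okPair (28, 38, [(40, 1, 1)]) = true)]; simp [mul_assoc]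
theorem c30_38 (u t : F) : X 30 u * X 38 t = X 38 t * X 30 u := by
  rw [swapE (ok 139 (by decide) : okPair (30, 38, []) = true)]; simp
theorem c30_38' (u t : F) (w : G) : X 30 u * (X 38 t * w) = X 38 t * (X 30 u * w) := by
  rw [swap (ok 139 (by decide) : okPair (30, 38, []) = true)]; simp
theorem c29_43 (u t : F) : X 29 u * X 43 t = X 43 t * X 29 u := by
  rw [swapE (ok 140 (by decide) : okPair (29, 43, []) = true)]; simp
theorem c29_43' (u t : F) (w : G) : X 29 u * (X 43 t * w) = X 43 t * (X 29 u * w) := by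
  rw [swap (ok 140 (by decide) : okPair (29, 43, []) = true)]; simp
theorem c41_43 (u t : F) : X 41 u * X 43 t = X 43 t * X 41 u := by
  rw [swapE (ok 141 (by decide) : okPair (41, 43, []) = true)]; simp
theorem c41_43' (u t : F) (w : G) : X 41 u * (X 43 t * w) = X 43 t * (X 41 u * w) := by
  rw [swap (ok 141 (by decide) : okPair (41, 43, []) = true)]; simp
theorem c44_43 (u t : F) : X 44 u * X 43 t = X 43 t * X 44 u := by
  rw [swapE (ok 142 (by decide) : okPair (44, 43, []) = true)]; simp
theorem c44_43' (u t : F) (w : G) : X 44 u * (X 43 t * w) = X 43 t * (X 44 u * w) := by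
  rw [swap (ok 142 (by decide) : okPair (44, 43, []) = true)]; simp
theorem c47_43 (u t : F) : X 47 u * X 43 t = X 43 t * X 47 u := by
  rw [swapE (ok 143 (by decide) : okPair (47, 43, []) = true)]; simp
theorem c47_43' (u t : F) (w : G) : X 47 u * (X 43 t * w) = X 43 t * (X 47 u * w) := by
  rw [swap (ok 143 (by decide) : okPair (47, 43, []) = true)]; simp
theorem c39_43 (u t : F) : X 39 u * X 43 t = X 43 t * X 39 u := by
  rw [swapE (ok 144 (by decide) : okPair (39, 43, []) = true)]; simp
theorem c39_43' (u t : F) (w : G) : X 39 u * (X 43 t * w) = X 43 t * (X 39 u * w) := by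
  rw [swap (ok 144 (by decide) : okPair (39, 43, []) = true)]; simp
theorem c45_43 (u t : F) : X 45 u * X 43 t = X 43 t * X 45 u := by
  rw [swapE (ok 145 (by decide) : okPair (45, 43, []) = true)]; simp
theorem c45_43' (u t : F) (w : G) : X 45 u * (X 43 t * w) = X 43 t * (X 45 u * w) := by
  rw [swap (ok 145 (by decide) : okPair (45, 43, []) = true)]; simp
theorem c35_43 (u t : F) : X 35 u * X 43 t = X 43 t * X 35 u := by
  rw [swapE (ok 146 (by decide) : okPair (35, 43, []) = true)]; simp
theorem c35_43' (u t : F) (w : G) : X 35 u * (X 43 t * w) = X 43 t * (X 35 u * w) := by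
  rw [swap (ok 146 (by decide) : okPair (35, 43, []) = true)]; simp
theorem c31_43 (u t : F) : X 31 u * X 43 t = X 43 t * (X 31 u * (X 47 (t * u))) := by
  rw [swapE (ok 147 (by decide) : okPair (31, 43, [(47, 1, 1)]) = true)]; simp
theorem c31_43' (u t : F) (w : G) : X 31 u * (X 43 t * w) = X 43 t * (X 31 u * (X 47 (t * u) * w)) := by
  rw [swap (ok 147 (by decide) : okPair (31, 43, [(47, 1, 1)]) = true)]; simp [mul_assoc]
theorem c40_43 (u t : F) : X 40 u * X 43 t = X 43 t * X 40 u := by
  rw [swapE (ok 148 (by decide) : okPair (40, 43, []) = true)]; simp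
theorem c40_43' (u t : F) (w : G) : X 40 u * (X 43 t * w) = X 43 t * (X 40 u * w) := by
  rw [swap (ok 148 (by decide) : okPair (40, 43, []) = true)]; simp
theorem c46_43 (u t : F) : X 46 u * X 43 t = X 43 t * X 46 u := by
  rw [swapE (ok 149 (by decide) : okPair (46, 43, []) = true)]; simp
theorem c46_43' (u t : F) (w : G) : X 46 u * (X 43 t * w) = X 43 t * (X 46 u * w) := by
  rw [swap (ok 149 (by decide) : okPair (46, 43, []) = true)]; simp
theorem c37_43 (u t : F) : X 37 u * X 43 t = X 43 t * X 37 u := by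
  rw [swapE (ok 150 (by decide) : okPair (37, 43, []) = true)]; simp
theorem c37_43' (u t : F) (w : G) : X 37 u * (X 43 t * w) = X 43 t * (X 37 u * w) := by
  rw [swap (ok 150 (by decide) : okPair (37, 43, []) = true)]; simp
theorem c32_43 (u t : F) : X 32 u * X 43 t = X 43 t * X 32 u := by
  rw [swapE (ok 151 (by decide) : okPair (32, 43, []) = true)]; simp
theorem c32_43' (u t : F) (w : G) : X 32 u * (X 43 t * w) = X 43 t * (X 32 u * w) := by
  rw [swap (ok 151 (by decide) : okPair (32, 43, []) = true)]; simp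
theorem c27_43 (u t : F) : X 27 u * X 43 t = X 43 t * (X 27 u * (X 44 (t * u) * X 45 (t * u ^ 2))) := by
  rw [swapE (ok 152 (by decide) : okPair (27, 43, [(44, 1, 1), (45, 1, 2)]) = true)]; simp
theorem c27_43' (u t : F) (w : G) : X 27 u * (X 43 t * w) = X 43 t * (X 27 u * (X 44 (t * u) * (X 45 (t * u ^ 2) * w))) := by
  rw [swap (ok 152 (by decide) : okPair (27, 43, [(44, 1, 1), (45, 1, 2)]) = true)]; simp [mul_assoc]
theorem c25_43 (u t : F) : X 25 u * X 43 t = X 43 t * X 25 u := by
  rw [swapE (ok 153 (by decide) : okPair (25, 43, []) = true)]; simp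
theorem c25_43' (u t : F) (w : G) : X 25 u * (X 43 t * w) = X 43 t * (X 25 u * w) := by
  rw [swap (ok 153 (by decide) : okPair (25, 43, []) = true)]; simp
theorem c28_43 (u t : F) : X 28 u * X 43 t = X 43 t * X 28 u := by
  rw [swapE (ok 154 (by decide) : okPair (28, 43, []) = true)]; simp
theorem c28_43' (u t : F) (w : G) : X 28 u * (X 43 t * w) = X 43 t * (X 28 u * w) := by
  rw [swap (ok 154 (by decide) : okPair (28, 43, []) = true)]; simp
theorem c30_43 (u t : F) : X 30 u * X 43 t = X 43 t * (X 30 u * (X 46 (t * u))) := by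
  rw [swapE (ok 155 (by decide) : okPair (30, 43, [(46, 1, 1)]) = true)]; simp
theorem c30_43' (u t : F) (w : G) : X 30 u * (X 43 t * w) = X 43 t * (X 30 u * (X 46 (t * u) * w)) := by
  rw [swap (ok 155 (by decide) : okPair (30, 43, [(46, 1, 1)]) = true)]; simp [mul_assoc]
theorem c41_29 (u t : F) : X 41 u * X 29 t = X 29 t * (X 41 u * (X 44 (t * u) * X 47 (t ^ 2 * u))) := by
  rw [swapE (ok 156 (by decide) : okPair (41, 29, [(44, 1, 1), (47, 2, 1)]) = true)]; simp
theorem c41_29' (u t : F) (w : G) : X 41 u * (X 29 t * w) = X 29 t * (X 41 u * (X 44 (t * u) * (X 47 (t ^ 2 * u) * w))) := by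
  rw [swap (ok 156 (by decide) : okPair (41, 29, [(44, 1, 1), (47, 2, 1)]) = true)]; simp [mul_assoc]
theorem c44_29 (u t : F) : X 44 u * X 29 t = X 29 t * X 44 u := by
  rw [swapE (ok 157 (by decide) : okPair (44, 29, []) = true)]; simp
theorem c44_29' (u t : F) (w : G) : X 44 u * (X 29 t * w) = X 29 t * (X 44 u * w) := by
  rw [swap (ok 157 (by decide) : okPair (44, 29, []) = true)]; simp
theorem c47_29 (u t : F) : X 47 u * X 29 t = X 29 t * X 47 u := by
  rw [swapE (ok 158 (by decide) : okPair (47, 29, []) = true)]; simp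
theorem c47_29' (u t : F) (w : G) : X 47 u * (X 29 t * w) = X 29 t * (X 47 u * w) := by
  rw [swap (ok 158 (by decide) : okPair (47, 29, []) = true)]; simp
theorem c39_29 (u t : F) : X 39 u * X 29 t = X 29 t * X 39 u := by
  rw [swapE (ok 159 (by decide) : okPair (39, 29, []) = true)]; simp
theorem c39_29' (u t : F) (w : G) : X 39 u * (X 29 t * w) = X 29 t * (X 39 u * w) := by
  rw [swap (ok 159 (by decide) : okPair (39, 29, []) = true)]; simp
theorem c45_29 (u t : F) : X 45 u * X 29 t = X 29 t * X 45 u := by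
  rw [swapE (ok 160 (by decide) : okPair (45, 29, []) = true)]; simp
theorem c45_29' (u t : F) (w : G) : X 45 u * (X 29 t * w) = X 29 t * (X 45 u * w) := by
  rw [swap (ok 160 (by decide) : okPair (45, 29, []) = true)]; simp
theorem c35_29 (u t : F) : X 35 u * X 29 t = X 29 t * (X 35 u * (X 39 (t * u))) := by
  rw [swapE (ok 161 (by decide) : okPair (35, 29, [(39, 1, 1)]) = true)]; simp
theorem c35_29' (u t : F) (w : G) : X 35 u * (X 29 t * w) = X 29 t * (X 35 u * (X 39 (t * u) * w)) := by
  rw [swap (ok 161 (by decide) : okPair (35, 29, [(39, 1, 1)]) = true)]; simp [mul_assoc]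
theorem c31_29 (u t : F) : X 31 u * X 29 t = X 29 t * X 31 u := by
  rw [swapE (ok 162 (by decide) : okPair (31, 29, []) = true)]; simp
theorem c31_29' (u t : F) (w : G) : X 31 u * (X 29 t * w) = X 29 t * (X 31 u * w) := by
  rw [swap (ok 162 (by decide) : okPair (31, 29, []) = true)]; simp
theorem c40_29 (u t : F) : X 40 u * X 29 t = X 29 t * X 40 u := by
  rw [swapE (ok 163 (by decide) : okPair (40, 29, []) = true)]; simp
theorem c40_29' (u t : F) (w : G) : X 40 u * (X 29 t * w) = X 29 t * (X 40 u * w) := by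
  rw [swap (ok 163 (by decide) : okPair (40, 29, []) = true)]; simp
theorem c46_29 (u t : F) : X 46 u * X 29 t = X 29 t * X 46 u := by
  rw [swapE (ok 164 (by decide) : okPair (46, 29, []) = true)]; simp
theorem c46_29' (u t : F) (w : G) : X 46 u * (X 29 t * w) = X 29 t * (X 46 u * w) := by
  rw [swap (ok 164 (by decide) : okPair (46, 29, []) = true)]; simp
theorem c37_29 (u t : F) : X 37 u * X 29 t = X 29 t * (X 37 u * (X 40 (t * u))) := by
  rw [swapE (ok 165 (by decide) : okPair (37, 29, [(40, 1, 1)]) = true)]; simp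
theorem c37_29' (u t : F) (w : G) : X 37 u * (X 29 t * w) = X 29 t * (X 37 u * (X 40 (t * u) * w)) := by
  rw [swap (ok 165 (by decide) : okPair (37, 29, [(40, 1, 1)]) = true)]; simp [mul_assoc]
theorem c32_29 (u t : F) : X 32 u * X 29 t = X 29 t * X 32 u := by
  rw [swapE (ok 166 (by decide) : okPair (32, 29, []) = true)]; simp
theorem c32_29' (u t : F) (w : G) : X 32 u * (X 29 t * w) = X 29 t * (X 32 u * w) := by
  rw [swap (ok 166 (by decide) : okPair (32, 29, []) = true)]; simp
theorem c27_29 (u t : F) : X 27 u * X 29 t = X 29 t * X 27 u := by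
  rw [swapE (ok 167 (by decide) : okPair (27, 29, []) = true)]; simp
theorem c27_29' (u t : F) (w : G) : X 27 u * (X 29 t * w) = X 29 t * (X 27 u * w) := by
  rw [swap (ok 167 (by decide) : okPair (27, 29, []) = true)]; simp
theorem c25_29 (u t : F) : X 25 u * X 29 t = X 29 t * X 25 u := by
  rw [swapE (ok 168 (by decide) : okPair (25, 29, []) = true)]; simp
theorem c25_29' (u t : F) (w : G) : X 25 u * (X 29 t * w) = X 29 t * (X 25 u * w) := by
  rw [swap (ok 168 (by decide) : okPair (25, 29, []) = true)]; simp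
theorem c28_29 (u t : F) : X 28 u * X 29 t = X 29 t * X 28 u := by
  rw [swapE (ok 169 (by decide) : okPair (28, 29, []) = true)]; simp
theorem c28_29' (u t : F) (w : G) : X 28 u * (X 29 t * w) = X 29 t * (X 28 u * w) := by
  rw [swap (ok 169 (by decide) : okPair (28, 29, []) = true)]; simp
theorem c30_29 (u t : F) : X 30 u * X 29 t = X 29 t * X 30 u := by
  rw [swapE (ok 170 (by decide) : okPair (30, 29, []) = true)]; simp
theorem c30_29' (u t : F) (w : G) : X 30 u * (X 29 t * w) = X 29 t * (X 30 u * w) := by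
  rw [swap (ok 170 (by decide) : okPair (30, 29, []) = true)]; simp
theorem c44_41 (u t : F) : X 44 u * X 41 t = X 41 t * X 44 u := by
  rw [swapE (ok 171 (by decide) : okPair (44, 41, []) = true)]; simp
theorem c44_41' (u t : F) (w : G) : X 44 u * (X 41 t * w) = X 41 t * (X 44 u * w) := by
  rw [swap (ok 171 (by decide) : okPair (44, 41, []) = true)]; simp
theorem c47_41 (u t : F) : X 47 u * X 41 t = X 41 t * X 47 u := by
  rw [swapE (ok 172 (by decide) : okPair (47, 41, []) = true)]; simp
theorem c47_41' (u t : F) (w : G) : X 47 u * (X 41 t * w) = X 41 t * (X 47 u * w) := by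
  rw [swap (ok 172 (by decide) : okPair (47, 41, []) = true)]; simp
theorem c39_41 (u t : F) : X 39 u * X 41 t = X 41 t * X 39 u := by
  rw [swapE (ok 173 (by decide) : okPair (39, 41, []) = true)]; simp
theorem c39_41' (u t : F) (w : G) : X 39 u * (X 41 t * w) = X 41 t * (X 39 u * w) := by
  rw [swap (ok 173 (by decide) : okPair (39, 41, []) = true)]; simp
theorem c45_41 (u t : F) : X 45 u * X 41 t = X 41 t * X 45 u := by
  rw [swapE (ok 174 (by decide) : okPair (45, 41, []) = true)]; simp
theorem c45_41' (u t : F) (w : G) : X 45 u * (X 41 t * w) = X 41 t * (X 45 u * w) := by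
  rw [swap (ok 174 (by decide) : okPair (45, 41, []) = true)]; simp
theorem c35_41 (u t : F) : X 35 u * X 41 t = X 41 t * X 35 u := by
  rw [swapE (ok 175 (by decide) : okPair (35, 41, []) = true)]; simp
theorem c35_41' (u t : F) (w : G) : X 35 u * (X 41 t * w) = X 41 t * (X 35 u * w) := by
  rw [swap (ok 175 (by decide) : okPair (35, 41, []) = true)]; simp
theorem c31_41 (u t : F) : X 31 u * X 41 t = X 41 t * (X 31 u * (X 45 (t * u))) := by
  rw [swapE (ok 176 (by decide) : okPair (31, 41, [(45, 1, 1)]) = true)]; simp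
theorem c31_41' (u t : F) (w : G) : X 31 u * (X 41 t * w) = X 41 t * (X 31 u * (X 45 (t * u) * w)) := by
  rw [swap (ok 176 (by decide) : okPair (31, 41, [(45, 1, 1)]) = true)]; simp [mul_assoc]
theorem c40_41 (u t : F) : X 40 u * X 41 t = X 41 t * X 40 u := by
  rw [swapE (ok 177 (by decide) : okPair (40, 41, []) = true)]; simp
theorem c40_41' (u t : F) (w : G) : X 40 u * (X 41 t * w) = X 41 t * (X 40 u * w) := by
  rw [swap (ok 177 (by decide) : okPair (40, 41, []) = true)]; simp
theorem c46_41 (u t : F) : X 46 u * X 41 t = X 41 t * X 46 u := by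
  rw [swapE (ok 178 (by decide) : okPair (46, 41, []) = true)]; simp
theorem c46_41' (u t : F) (w : G) : X 46 u * (X 41 t * w) = X 41 t * (X 46 u * w) := by
  rw [swap (ok 178 (by decide) : okPair (46, 41, []) = true)]; simp
theorem c37_41 (u t : F) : X 37 u * X 41 t = X 41 t * X 37 u := by
  rw [swapE (ok 179 (by decide) : okPair (37, 41, []) = true)]; simp
theorem c37_41' (u t : F) (w : G) : X 37 u * (X 41 t * w) = X 41 t * (X 37 u * w) := by
  rw [swap (ok 179 (by decide) : okPair (37, 41, []) = true)]; simp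
theorem c32_41 (u t : F) : X 32 u * X 41 t = X 41 t * (X 32 u * (X 46 (t * u))) := by
  rw [swapE (ok 180 (by decide) : okPair (32, 41, [(46, 1, 1)]) = true)]; simp
theorem c32_41' (u t : F) (w : G) : X 32 u * (X 41 t * w) = X 41 t * (X 32 u * (X 46 (t * u) * w)) := by
  rw [swap (ok 180 (by decide) : okPair (32, 41, [(46, 1, 1)]) = true)]; simp [mul_assoc]
theorem c27_41 (u t : F) : X 27 u * X 41 t = X 41 t * X 27 u := by
  rw [swapE (ok 181 (by decide) : okPair (27, 41, []) = true)]; simp
theorem c27_41' (u t : F) (w : G) : X 27 u * (X 41 t * w) = X 41 t * (X 27 u * w) := by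
  rw [swap (ok 181 (by decide) : okPair (27, 41, []) = true)]; simp
theorem c25_41 (u t : F) : X 25 u * X 41 t = X 41 t * X 25 u := by
  rw [swapE (ok 182 (by decide) : okPair (25, 41, []) = true)]; simp
theorem c25_41' (u t : F) (w : G) : X 25 u * (X 41 t * w) = X 41 t * (X 25 u * w) := by
  rw [swap (ok 182 (by decide) : okPair (25, 41, []) = true)]; simp
theorem c28_41 (u t : F) : X 28 u * X 41 t = X 41 t * X 28 u := by
  rw [swapE (ok 183 (by decide) : okPair (28, 41, []) = true)]; simp
theorem c28_41' (u t : F) (w : G) : X 28 u * (X 41 t * w) = X 41 t * (X 28 u * w) := by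
  rw [swap (ok 183 (by decide) : okPair (28, 41, []) = true)]; simp
theorem c30_41 (u t : F) : X 30 u * X 41 t = X 41 t * X 30 u := by
  rw [swapE (ok 184 (by decide) : okPair (30, 41, []) = true)]; simp
theorem c30_41' (u t : F) (w : G) : X 30 u * (X 41 t * w) = X 41 t * (X 30 u * w) := by
  rw [swap (ok 184 (by decide) : okPair (30, 41, []) = true)]; simp
theorem c47_44 (u t : F) : X 47 u * X 44 t = X 44 t * X 47 u := by
  rw [swapE (ok 185 (by decide) : okPair (47, 44, []) = true)]; simp
theorem c47_44' (u t : F) (w : G) : X 47 u * (X 44 t * w) = X 44 t * (X 47 u * w) := by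
  rw [swap (ok 185 (by decide) : okPair (47, 44, []) = true)]; simp
theorem c39_44 (u t : F) : X 39 u * X 44 t = X 44 t * X 39 u := by
  rw [swapE (ok 186 (by decide) : okPair (39, 44, []) = true)]; simp
theorem c39_44' (u t : F) (w : G) : X 39 u * (X 44 t * w) = X 44 t * (X 39 u * w) := by
  rw [swap (ok 186 (by decide) : okPair (39, 44, []) = true)]; simp
theorem c45_44 (u t : F) : X 45 u * X 44 t = X 44 t * X 45 u := by
  rw [swapE (ok 187 (by decide) : okPair (45, 44, []) = true)]; simp
theorem c45_44' (u t : F) (w : G) : X 45 u * (X 44 t * w) = X 44 t * (X 45 u * w) := by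
  rw [swap (ok 187 (by decide) : okPair (45, 44, []) = true)]; simp
theorem c35_44 (u t : F) : X 35 u * X 44 t = X 44 t * X 35 u := by
  rw [swapE (ok 188 (by decide) : okPair (35, 44, []) = true)]; simp
theorem c35_44' (u t : F) (w : G) : X 35 u * (X 44 t * w) = X 44 t * (X 35 u * w) := by
  rw [swap (ok 188 (by decide) : okPair (35, 44, []) = true)]; simp
theorem c31_44 (u t : F) : X 31 u * X 44 t = X 44 t * X 31 u := by
  rw [swapE (ok 189 (by decide) : okPair (31, 44, []) = true)]; simp
theorem c31_44' (u t : F) (w : G) : X 31 u * (X 44 t * w) = X 44 t * (X 31 u * w) := by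
  rw [swap (ok 189 (by decide) : okPair (31, 44, []) = true)]; simp
theorem c40_44 (u t : F) : X 40 u * X 44 t = X 44 t * X 40 u := by
  rw [swapE (ok 190 (by decide) : okPair (40, 44, []) = true)]; simp
theorem c40_44' (u t : F) (w : G) : X 40 u * (X 44 t * w) = X 44 t * (X 40 u * w) := by
  rw [swap (ok 190 (by decide) : okPair (40, 44, []) = true)]; simp
theorem c46_44 (u t : F) : X 46 u * X 44 t = X 44 t * X 46 u := by
  rw [swapE (ok 191 (by decide) : okPair (46, 44, []) = true)]; simp
theorem c46_44' (u t : F) (w : G) : X 46 u * (X 44 t * w) = X 44 t * (X 46 u * w) := by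
  rw [swap (ok 191 (by decide) : okPair (46, 44, []) = true)]; simp
theorem c37_44 (u t : F) : X 37 u * X 44 t = X 44 t * X 37 u := by
  rw [swapE (ok 192 (by decide) : okPair (37, 44, []) = true)]; simp
theorem c37_44' (u t : F) (w : G) : X 37 u * (X 44 t * w) = X 44 t * (X 37 u * w) := by
  rw [swap (ok 192 (by decide) : okPair (37, 44, []) = true)]; simp
theorem c32_44 (u t : F) : X 32 u * X 44 t = X 44 t * X 32 u := by
  rw [swapE (ok 193 (by decide) : okPair (32, 44, []) = true)]; simp
theorem c32_44' (u t : F) (w : G) : X 32 u * (X 44 t * w) = X 44 t * (X 32 u * w) := by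
  rw [swap (ok 193 (by decide) : okPair (32, 44, []) = true)]; simp
theorem c27_44 (u t : F) : X 27 u * X 44 t = X 44 t * X 27 u := by
  rw [swapE (ok 194 (by decide) : okPair (27, 44, []) = true)]; simp
theorem c27_44' (u t : F) (w : G) : X 27 u * (X 44 t * w) = X 44 t * (X 27 u * w) := by
  rw [swap (ok 194 (by decide) : okPair (27, 44, []) = true)]; simp
theorem c25_44 (u t : F) : X 25 u * X 44 t = X 44 t * X 25 u := by
  rw [swapE (ok 195 (by decide) : okPair (25, 44, []) = true)]; simp
theorem c25_44' (u t : F) (w : G) : X 25 u * (X 44 t * w) = X 44 t * (X 25 u * w) := by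
  rw [swap (ok 195 (by decide) : okPair (25, 44, []) = true)]; simp
theorem c28_44 (u t : F) : X 28 u * X 44 t = X 44 t * X 28 u := by
  rw [swapE (ok 196 (by decide) : okPair (28, 44, []) = true)]; simp
theorem c28_44' (u t : F) (w : G) : X 28 u * (X 44 t * w) = X 44 t * (X 28 u * w) := by
  rw [swap (ok 196 (by decide) : okPair (28, 44, []) = true)]; simp
theorem c30_44 (u t : F) : X 30 u * X 44 t = X 44 t * X 30 u := by
  rw [swapE (ok 197 (by decide) : okPair (30, 44, []) = true)]; simp
theorem c30_44' (u t : F) (w : G) : X 30 u * (X 44 t * w) = X 44 t * (X 30 u * w) := by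
  rw [swap (ok 197 (by decide) : okPair (30, 44, []) = true)]; simp
theorem c39_47 (u t : F) : X 39 u * X 47 t = X 47 t * X 39 u := by
  rw [swapE (ok 198 (by decide) : okPair (39, 47, []) = true)]; simp
theorem c39_47' (u t : F) (w : G) : X 39 u * (X 47 t * w) = X 47 t * (X 39 u * w) := by
  rw [swap (ok 198 (by decide) : okPair (39, 47, []) = true)]; simp
theorem c45_47 (u t : F) : X 45 u * X 47 t = X 47 t * X 45 u := by
  rw [swapE (ok 199 (by decide) : okPair (45, 47, []) = true)]; simp
theorem c45_47' (u t : F) (w : G) : X 45 u * (X 47 t * w) = X 47 t * (X 45 u * w) := by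
  rw [swap (ok 199 (by decide) : okPair (45, 47, []) = true)]; simp
theorem c35_47 (u t : F) : X 35 u * X 47 t = X 47 t * X 35 u := by
  rw [swapE (ok 200 (by decide) : okPair (35, 47, []) = true)]; simp
theorem c35_47' (u t : F) (w : G) : X 35 u * (X 47 t * w) = X 47 t * (X 35 u * w) := by
  rw [swap (ok 200 (by decide) : okPair (35, 47, []) = true)]; simp
theorem c31_47 (u t : F) : X 31 u * X 47 t = X 47 t * X 31 u := by
  rw [swapE (ok 201 (by decide) : okPair (31, 47, []) = true)]; simp
theorem c31_47' (u t : F) (w : G) : X 31 u * (X 47 t * w) = X 47 t * (X 31 u * w) := by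
  rw [swap (ok 201 (by decide) : okPair (31, 47, []) = true)]; simp
theorem c40_47 (u t : F) : X 40 u * X 47 t = X 47 t * X 40 u := by
  rw [swapE (ok 202 (by decide) : okPair (40, 47, []) = true)]; simp
theorem c40_47' (u t : F) (w : G) : X 40 u * (X 47 t * w) = X 47 t * (X 40 u * w) := by
  rw [swap (ok 202 (by decide) : okPair (40, 47, []) = true)]; simp
theorem c46_47 (u t : F) : X 46 u * X 47 t = X 47 t * X 46 u := by
  rw [swapE (ok 203 (by decide) : okPair (46, 47, []) = true)]; simp
theorem c46_47' (u t : F) (w : G) : X 46 u * (X 47 t * w) = X 47 t * (X 46 u * w) := by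
  rw [swap (ok 203 (by decide) : okPair (46, 47, []) = true)]; simp
theorem c37_47 (u t : F) : X 37 u * X 47 t = X 47 t * X 37 u := by
  rw [swapE (ok 204 (by decide) : okPair (37, 47, []) = true)]; simp
theorem c37_47' (u t : F) (w : G) : X 37 u * (X 47 t * w) = X 47 t * (X 37 u * w) := by
  rw [swap (ok 204 (by decide) : okPair (37, 47, []) = true)]; simp
theorem c32_47 (u t : F) : X 32 u * X 47 t = X 47 t * X 32 u := by
  rw [swapE (ok 205 (by decide) : okPair (32, 47, []) = true)]; simp
theorem c32_47' (u t : F) (w : G) : X 32 u * (X 47 t * w) = X 47 t * (X 32 u * w) := by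
  rw [swap (ok 205 (by decide) : okPair (32, 47, []) = true)]; simp
theorem c27_47 (u t : F) : X 27 u * X 47 t = X 47 t * X 27 u := by
  rw [swapE (ok 206 (by decide) : okPair (27, 47, []) = true)]; simp
theorem c27_47' (u t : F) (w : G) : X 27 u * (X 47 t * w) = X 47 t * (X 27 u * w) := by
  rw [swap (ok 206 (by decide) : okPair (27, 47, []) = true)]; simp
theorem c25_47 (u t : F) : X 25 u * X 47 t = X 47 t * X 25 u := by
  rw [swapE (ok 207 (by decide) : okPair (25, 47, []) = true)]; simp
theorem c25_47' (u t : F) (w : G) : X 25 u * (X 47 t * w) = X 47 t * (X 25 u * w) := by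
  rw [swap (ok 207 (by decide) : okPair (25, 47, []) = true)]; simp
theorem c28_47 (u t : F) : X 28 u * X 47 t = X 47 t * X 28 u := by
  rw [swapE (ok 208 (by decide) : okPair (28, 47, []) = true)]; simp
theorem c28_47' (u t : F) (w : G) : X 28 u * (X 47 t * w) = X 47 t * (X 28 u * w) := by
  rw [swap (ok 208 (by decide) : okPair (28, 47, []) = true)]; simp
theorem c30_47 (u t : F) : X 30 u * X 47 t = X 47 t * X 30 u := by
  rw [swapE (ok 209 (by decide) : okPair (30, 47, []) = true)]; simp
theorem c30_47' (u t : F) (w : G) : X 30 u * (X 47 t * w) = X 47 t * (X 30 u * w) := by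
  rw [swap (ok 209 (by decide) : okPair (30, 47, []) = true)]; simp
theorem c45_39 (u t : F) : X 45 u * X 39 t = X 39 t * X 45 u := by
  rw [swapE (ok 210 (by decide) : okPair (45, 39, []) = true)]; simp
theorem c45_39' (u t : F) (w : G) : X 45 u * (X 39 t * w) = X 39 t * (X 45 u * w) := by
  rw [swap (ok 210 (by decide) : okPair (45, 39, []) = true)]; simp
theorem c35_39 (u t : F) : X 35 u * X 39 t = X 39 t * X 35 u := by
  rw [swapE (ok 211 (by decide) : okPair (35, 39, []) = true)]; simp
theorem c35_39' (u t : F) (w : G) : X 35 u * (X 39 t * w) = X 39 t * (X 35 u * w) := by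
  rw [swap (ok 211 (by decide) : okPair (35, 39, []) = true)]; simp
theorem c31_39 (u t : F) : X 31 u * X 39 t = X 39 t * X 31 u := by
  rw [swapE (ok 212 (by decide) : okPair (31, 39, []) = true)]; simp
theorem c31_39' (u t : F) (w : G) : X 31 u * (X 39 t * w) = X 39 t * (X 31 u * w) := by
  rw [swap (ok 212 (by decide) : okPair (31, 39, []) = true)]; simp
theorem c40_39 (u t : F) : X 40 u * X 39 t = X 39 t * X 40 u := by
  rw [swapE (ok 213 (by decide) : okPair (40, 39, []) = true)]; simp
theorem c40_39' (u t : F) (w : G) : X 40 u * (X 39 t * w) = X 39 t * (X 40 u * w) := by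
  rw [swap (ok 213 (by decide) : okPair (40, 39, []) = true)]; simp
theorem c46_39 (u t : F) : X 46 u * X 39 t = X 39 t * X 46 u := by
  rw [swapE (ok 214 (by decide) : okPair (46, 39, []) = true)]; simp
theorem c46_39' (u t : F) (w : G) : X 46 u * (X 39 t * w) = X 39 t * (X 46 u * w) := by
  rw [swap (ok 214 (by decide) : okPair (46, 39, []) = true)]; simp
theorem c37_39 (u t : F) : X 37 u * X 39 t = X 39 t * X 37 u := by
  rw [swapE (ok 215 (by decide) : okPair (37, 39, []) = true)]; simp
theorem c37_39' (u t : F) (w : G) : X 37 u * (X 39 t * w) = X 39 t * (X 37 u * w) := by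
  rw [swap (ok 215 (by decide) : okPair (37, 39, []) = true)]; simp
theorem c32_39 (u t : F) : X 32 u * X 39 t = X 39 t * X 32 u := by
  rw [swapE (ok 216 (by decide) : okPair (32, 39, []) = true)]; simp
theorem c32_39' (u t : F) (w : G) : X 32 u * (X 39 t * w) = X 39 t * (X 32 u * w) := by
  rw [swap (ok 216 (by decide) : okPair (32, 39, []) = true)]; simp
theorem c27_39 (u t : F) : X 27 u * X 39 t = X 39 t * (X 27 u * (X 40 (t * u))) := by
  rw [swapE (ok 217 (by decide) : okPair (27, 39, [(40, 1, 1)]) = true)]; simp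
theorem c27_39' (u t : F) (w : G) : X 27 u * (X 39 t * w) = X 39 t * (X 27 u * (X 40 (t * u) * w)) := by
  rw [swap (ok 217 (by decide) : okPair (27, 39, [(40, 1, 1)]) = true)]; simp [mul_assoc]
theorem c25_39 (u t : F) : X 25 u * X 39 t = X 39 t * X 25 u := by
  rw [swapE (ok 218 (by decide) : okPair (25, 39, []) = true)]; simp
theorem c25_39' (u t : F) (w : G) : X 25 u * (X 39 t * w) = X 39 t * (X 25 u * w) := by
  rw [swap (ok 218 (by decide) : okPair (25, 39, []) = true)]; simp
theorem c28_39 (u t : F) : X 28 u * X 39 t = X 39 t * X 28 u := by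
  rw [swapE (ok 219 (by decide) : okPair (28, 39, []) = true)]; simp
theorem c28_39' (u t : F) (w : G) : X 28 u * (X 39 t * w) = X 39 t * (X 28 u * w) := by
  rw [swap (ok 219 (by decide) : okPair (28, 39, []) = true)]; simp
theorem c30_39 (u t : F) : X 30 u * X 39 t = X 39 t * X 30 u := by
  rw [swapE (ok 220 (by decide) : okPair (30, 39, []) = true)]; simp
theorem c30_39' (u t : F) (w : G) : X 30 u * (X 39 t * w) = X 39 t * (X 30 u * w) := by
  rw [swap (ok 220 (by decide) : okPair (30, 39, []) = true)]; simp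
theorem c35_45 (u t : F) : X 35 u * X 45 t = X 45 t * X 35 u := by
  rw [swapE (ok 221 (by decide) : okPair (35, 45, []) = true)]; simp
theorem c35_45' (u t : F) (w : G) : X 35 u * (X 45 t * w) = X 45 t * (X 35 u * w) := by
  rw [swap (ok 221 (by decide) : okPair (35, 45, []) = true)]; simp
theorem c31_45 (u t : F) : X 31 u * X 45 t = X 45 t * X 31 u := by
  rw [swapE (ok 222 (by decide) : okPair (31, 45, []) = true)]; simp
theorem c31_45' (u t : F) (w : G) : X 31 u * (X 45 t * w) = X 45 t * (X 31 u * w) := by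
  rw [swap (ok 222 (by decide) : okPair (31, 45, []) = true)]; simp
theorem c40_45 (u t : F) : X 40 u * X 45 t = X 45 t * X 40 u := by
  rw [swapE (ok 223 (by decide) : okPair (40, 45, []) = true)]; simp
theorem c40_45' (u t : F) (w : G) : X 40 u * (X 45 t * w) = X 45 t * (X 40 u * w) := by
  rw [swap (ok 223 (by decide) : okPair (40, 45, []) = true)]; simp
theorem c46_45 (u t : F) : X 46 u * X 45 t = X 45 t * X 46 u := by
  rw [swapE (ok 224 (by decide) : okPair (46, 45, []) = true)]; simp
theorem c46_45' (u t : F) (w : G) : X 46 u * (X 45 t * w) = X 45 t * (X 46 u * w) := by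
  rw [swap (ok 224 (by decide) : okPair (46, 45, []) = true)]; simp
theorem c37_45 (u t : F) : X 37 u * X 45 t = X 45 t * X 37 u := by
  rw [swapE (ok 225 (by decide) : okPair (37, 45, []) = true)]; simp
theorem c37_45' (u t : F) (w : G) : X 37 u * (X 45 t * w) = X 45 t * (X 37 u * w) := by
  rw [swap (ok 225 (by decide) : okPair (37, 45, []) = true)]; simp
theorem c32_45 (u t : F) : X 32 u * X 45 t = X 45 t * X 32 u := by
  rw [swapE (ok 226 (by decide) : okPair (32, 45, []) = true)]; simp
theorem c32_45' (u t : F) (w : G) : X 32 u * (X 45 t * w) = X 45 t * (X 32 u * w) := by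
  rw [swap (ok 226 (by decide) : okPair (32, 45, []) = true)]; simp
theorem c27_45 (u t : F) : X 27 u * X 45 t = X 45 t * X 27 u := by
  rw [swapE (ok 227 (by decide) : okPair (27, 45, []) = true)]; simp
theorem c27_45' (u t : F) (w : G) : X 27 u * (X 45 t * w) = X 45 t * (X 27 u * w) := by
  rw [swap (ok 227 (by decide) : okPair (27, 45, []) = true)]; simp
theorem c25_45 (u t : F) : X 25 u * X 45 t = X 45 t * (X 25 u * (X 46 (t * u))) := by
  rw [swapE (ok 228 (by decide) : okPair (25, 45, [(46, 1, 1)]) = true)]; simp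
theorem c25_45' (u t : F) (w : G) : X 25 u * (X 45 t * w) = X 45 t * (X 25 u * (X 46 (t * u) * w)) := by
  rw [swap (ok 228 (by decide) : okPair (25, 45, [(46, 1, 1)]) = true)]; simp [mul_assoc]
theorem c28_45 (u t : F) : X 28 u * X 45 t = X 45 t * X 28 u := by
  rw [swapE (ok 229 (by decide) : okPair (28, 45, []) = true)]; simp
theorem c28_45' (u t : F) (w : G) : X 28 u * (X 45 t * w) = X 45 t * (X 28 u * w) := by
  rw [swap (ok 229 (by decide) : okPair (28, 45, []) = true)]; simp
theorem c30_45 (u t : F) : X 30 u * X 45 t = X 45 t * X 30 u := by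
  rw [swapE (ok 230 (by decide) : okPair (30, 45, []) = true)]; simp
theorem c30_45' (u t : F) (w : G) : X 30 u * (X 45 t * w) = X 45 t * (X 30 u * w) := by
  rw [swap (ok 230 (by decide) : okPair (30, 45, []) = true)]; simp
theorem c31_35 (u t : F) : X 31 u * X 35 t = X 35 t * (X 31 u * (X 40 (t * u) * X 46 (t ^ 2 * u))) := by
  rw [swapE (ok 231 (by decide) : okPair (31, 35, [(40, 1, 1), (46, 2, 1)]) = true)]; simp
theorem c31_35' (u t : F) (w : G) : X 31 u * (X 35 t * w) = X 35 t * (X 31 u * (X 40 (t * u) * (X 46 (t ^ 2 * u) * w))) := by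
  rw [swap (ok 231 (by decide) : okPair (31, 35, [(40, 1, 1), (46, 2, 1)]) = true)]; simp [mul_assoc]
theorem c40_35 (u t : F) : X 40 u * X 35 t = X 35 t * X 40 u := by
  rw [swapE (ok 232 (by decide) : okPair (40, 35, []) = true)]; simp
theorem c40_35' (u t : F) (w : G) : X 40 u * (X 35 t * w) = X 35 t * (X 40 u * w) := by
  rw [swap (ok 232 (by decide) : okPair (40, 35, []) = true)]; simp
theorem c46_35 (u t : F) : X 46 u * X 35 t = X 35 t * X 46 u := by
  rw [swapE (ok 233 (by decide) : okPair (46, 35, []) = true)]; simp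
theorem c46_35' (u t : F) (w : G) : X 46 u * (X 35 t * w) = X 35 t * (X 46 u * w) := by
  rw [swap (ok 233 (by decide) : okPair (46, 35, []) = true)]; simp
theorem c37_35 (u t : F) : X 37 u * X 35 t = X 35 t * X 37 u := by
  rw [swapE (ok 234 (by decide) : okPair (37, 35, []) = true)]; simp
theorem c37_35' (u t : F) (w : G) : X 37 u * (X 35 t * w) = X 35 t * (X 37 u * w) := by
  rw [swap (ok 234 (by decide) : okPair (37, 35, []) = true)]; simp
theorem c32_35 (u t : F) : X 32 u * X 35 t = X 35 t * X 32 u := by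
  rw [swapE (ok 235 (by decide) : okPair (32, 35, []) = true)]; simp
theorem c32_35' (u t : F) (w : G) : X 32 u * (X 35 t * w) = X 35 t * (X 32 u * w) := by
  rw [swap (ok 235 (by decide) : okPair (32, 35, []) = true)]; simp
theorem c27_35 (u t : F) : X 27 u * X 35 t = X 35 t * (X 27 u * (X 37 (t * u))) := by
  rw [swapE (ok 236 (by decide) : okPair (27, 35, [(37, 1, 1)]) = true)]; simp
theorem c27_35' (u t : F) (w : G) : X 27 u * (X 35 t * w) = X 35 t * (X 27 u * (X 37 (t * u) * w)) := by
  rw [swap (ok 236 (by decide) : okPair (27, 35, [(37, 1, 1)]) = true)]; simp [mul_assoc]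
theorem c25_35 (u t : F) : X 25 u * X 35 t = X 35 t * X 25 u := by
  rw [swapE (ok 237 (by decide) : okPair (25, 35, []) = true)]; simp
theorem c25_35' (u t : F) (w : G) : X 25 u * (X 35 t * w) = X 35 t * (X 25 u * w) := by
  rw [swap (ok 237 (by decide) : okPair (25, 35, []) = true)]; simp
theorem c28_35 (u t : F) : X 28 u * X 35 t = X 35 t * X 28 u := by
  rw [swapE (ok 238 (by decide) : okPair (28, 35, []) = true)]; simp
theorem c28_35' (u t : F) (w : G) : X 28 u * (X 35 t * w) = X 35 t * (X 28 u * w) := by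
  rw [swap (ok 238 (by decide) : okPair (28, 35, []) = true)]; simp
theorem c30_35 (u t : F) : X 30 u * X 35 t = X 35 t * X 30 u := by
  rw [swapE (ok 239 (by decide) : okPair (30, 35, []) = true)]; simp
theorem c30_35' (u t : F) (w : G) : X 30 u * (X 35 t * w) = X 35 t * (X 30 u * w) := by
  rw [swap (ok 239 (by decide) : okPair (30, 35, []) = true)]; simp
theorem c40_31 (u t : F) : X 40 u * X 31 t = X 31 t * X 40 u := by
  rw [swapE (ok 240 (by decide) : okPair (40, 31, []) = true)]; simp
theorem c40_31' (u t : F) (w : G) : X 40 u * (X 31 t * w) = X 31 t * (X 40 u * w) := by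
  rw [swap (ok 240 (by decide) : okPair (40, 31, []) = true)]; simp
theorem c46_31 (u t : F) : X 46 u * X 31 t = X 31 t * X 46 u := by
  rw [swapE (ok 241 (by decide) : okPair (46, 31, []) = true)]; simp
theorem c46_31' (u t : F) (w : G) : X 46 u * (X 31 t * w) = X 31 t * (X 46 u * w) := by
  rw [swap (ok 241 (by decide) : okPair (46, 31, []) = true)]; simp
theorem c37_31 (u t : F) : X 37 u * X 31 t = X 31 t * X 37 u := by
  rw [swapE (ok 242 (by decide) : okPair (37, 31, []) = true)]; simp
theorem c37_31' (u t : F) (w : G) : X 37 u * (X 31 t * w) = X 31 t * (X 37 u * w) := by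
  rw [swap (ok 242 (by decide) : okPair (37, 31, []) = true)]; simp
theorem c32_31 (u t : F) : X 32 u * X 31 t = X 31 t * X 32 u := by
  rw [swapE (ok 243 (by decide) : okPair (32, 31, []) = true)]; simp
theorem c32_31' (u t : F) (w : G) : X 32 u * (X 31 t * w) = X 31 t * (X 32 u * w) := by
  rw [swap (ok 243 (by decide) : okPair (32, 31, []) = true)]; simp
theorem c27_31 (u t : F) : X 27 u * X 31 t = X 31 t * X 27 u := by
  rw [swapE (ok 244 (by decide) : okPair (27, 31, []) = true)]; simp
theorem c27_31' (u t : F) (w : G) : X 27 u * (X 31 t * w) = X 31 t * (X 27 u * w) := by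
  rw [swap (ok 244 (by decide) : okPair (27, 31, []) = true)]; simp
theorem c25_31 (u t : F) : X 25 u * X 31 t = X 31 t * (X 25 u * (X 32 (t * u))) := by
  rw [swapE (ok 245 (by decide) : okPair (25, 31, [(32, 1, 1)]) = true)]; simp
theorem c25_31' (u t : F) (w : G) : X 25 u * (X 31 t * w) = X 31 t * (X 25 u * (X 32 (t * u) * w)) := by
  rw [swap (ok 245 (by decide) : okPair (25, 31, [(32, 1, 1)]) = true)]; simp [mul_assoc]
theorem c28_31 (u t : F) : X 28 u * X 31 t = X 31 t * X 28 u := by
  rw [swapE (ok 246 (by decide) : okPair (28, 31, []) = true)]; simp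
theorem c28_31' (u t : F) (w : G) : X 28 u * (X 31 t * w) = X 31 t * (X 28 u * w) := by
  rw [swap (ok 246 (by decide) : okPair (28, 31, []) = true)]; simp
theorem c30_31 (u t : F) : X 30 u * X 31 t = X 31 t * X 30 u := by
  rw [swapE (ok 247 (by decide) : okPair (30, 31, []) = true)]; simp
theorem c30_31' (u t : F) (w : G) : X 30 u * (X 31 t * w) = X 31 t * (X 30 u * w) := by
  rw [swap (ok 247 (by decide) : okPair (30, 31, []) = true)]; simp
theorem c46_40 (u t : F) : X 46 u * X 40 t = X 40 t * X 46 u := by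
  rw [swapE (ok 248 (by decide) : okPair (46, 40, []) = true)]; simp
theorem c46_40' (u t : F) (w : G) : X 46 u * (X 40 t * w) = X 40 t * (X 46 u * w) := by
  rw [swap (ok 248 (by decide) : okPair (46, 40, []) = true)]; simp
theorem c37_40 (u t : F) : X 37 u * X 40 t = X 40 t * X 37 u := by
  rw [swapE (ok 249 (by decide) : okPair (37, 40, []) = true)]; simp
theorem c37_40' (u t : F) (w : G) : X 37 u * (X 40 t * w) = X 40 t * (X 37 u * w) := by
  rw [swap (ok 249 (by decide) : okPair (37, 40, []) = true)]; simp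
theorem c32_40 (u t : F) : X 32 u * X 40 t = X 40 t * X 32 u := by
  rw [swapE (ok 250 (by decide) : okPair (32, 40, []) = true)]; simp
theorem c32_40' (u t : F) (w : G) : X 32 u * (X 40 t * w) = X 40 t * (X 32 u * w) := by
  rw [swap (ok 250 (by decide) : okPair (32, 40, []) = true)]; simp
theorem c27_40 (u t : F) : X 27 u * X 40 t = X 40 t * X 27 u := by
  rw [swapE (ok 251 (by decide) : okPair (27, 40, []) = true)]; simp
theorem c27_40' (u t : F) (w : G) : X 27 u * (X 40 t * w) = X 40 t * (X 27 u * w) := by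
  rw [swap (ok 251 (by decide) : okPair (27, 40, []) = true)]; simp
theorem c25_40 (u t : F) : X 25 u * X 40 t = X 40 t * X 25 u := by
  rw [swapE (ok 252 (by decide) : okPair (25, 40, []) = true)]; simp
theorem c25_40' (u t : F) (w : G) : X 25 u * (X 40 t * w) = X 40 t * (X 25 u * w) := by
  rw [swap (ok 252 (by decide) : okPair (25, 40, []) = true)]; simp
theorem c28_40 (u t : F) : X 28 u * X 40 t = X 40 t * X 28 u := by
  rw [swapE (ok 253 (by decide) : okPair (28, 40, []) = true)]; simp
theorem c28_40' (u t : F) (w : G) : X 28 u * (X 40 t * w) = X 40 t * (X 28 u * w) := by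
  rw [swap (ok 253 (by decide) : okPair (28, 40, []) = true)]; simp
theorem c30_40 (u t : F) : X 30 u * X 40 t = X 40 t * X 30 u := by
  rw [swapE (ok 254 (by decide) : okPair (30, 40, []) = true)]; simp
theorem c30_40' (u t : F) (w : G) : X 30 u * (X 40 t * w) = X 40 t * (X 30 u * w) := by
  rw [swap (ok 254 (by decide) : okPair (30, 40, []) = true)]; simp
theorem c37_46 (u t : F) : X 37 u * X 46 t = X 46 t * X 37 u := by
  rw [swapE (ok 255 (by decide) : okPair (37, 46, []) = true)]; simp
theorem c37_46' (u t : F) (w : G) : X 37 u * (X 46 t * w) = X 46 t * (X 37 u * w) := by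
  rw [swap (ok 255 (by decide) : okPair (37, 46, []) = true)]; simp
theorem c32_46 (u t : F) : X 32 u * X 46 t = X 46 t * X 32 u := by
  rw [swapE (ok 256 (by decide) : okPair (32, 46, []) = true)]; simp
theorem c32_46' (u t : F) (w : G) : X 32 u * (X 46 t * w) = X 46 t * (X 32 u * w) := by
  rw [swap (ok 256 (by decide) : okPair (32, 46, []) = true)]; simp
theorem c27_46 (u t : F) : X 27 u * X 46 t = X 46 t * X 27 u := by
  rw [swapE (ok 257 (by decide) : okPair (27, 46, []) = true)]; simp
theorem c27_46' (u t : F) (w : G) : X 27 u * (X 46 t * w) = X 46 t * (X 27 u * w) := by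
  rw [swap (ok 257 (by decide) : okPair (27, 46, []) = true)]; simp
theorem c25_46 (u t : F) : X 25 u * X 46 t = X 46 t * X 25 u := by
  rw [swapE (ok 258 (by decide) : okPair (25, 46, []) = true)]; simp
theorem c25_46' (u t : F) (w : G) : X 25 u * (X 46 t * w) = X 46 t * (X 25 u * w) := by
  rw [swap (ok 258 (by decide) : okPair (25, 46, []) = true)]; simp
theorem c28_46 (u t : F) : X 28 u * X 46 t = X 46 t * X 28 u := by
  rw [swapE (ok 259 (by decide) : okPair (28, 46, []) = true)]; simp
theorem c28_46' (u t : F) (w : G) : X 28 u * (X 46 t * w) = X 46 t * (X 28 u * w) := by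
  rw [swap (ok 259 (by decide) : okPair (28, 46, []) = true)]; simp
theorem c30_46 (u t : F) : X 30 u * X 46 t = X 46 t * X 30 u := by
  rw [swapE (ok 260 (by decide) : okPair (30, 46, []) = true)]; simp
theorem c30_46' (u t : F) (w : G) : X 30 u * (X 46 t * w) = X 46 t * (X 30 u * w) := by
  rw [swap (ok 260 (by decide) : okPair (30, 46, []) = true)]; simp
theorem c32_37 (u t : F) : X 32 u * X 37 t = X 37 t * X 32 u := by
  rw [swapE (ok 261 (by decide) : okPair (32, 37, []) = true)]; simp
theorem c32_37' (u t : F) (w : G) : X 32 u * (X 37 t * w) = X 37 t * (X 32 u * w) := by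
  rw [swap (ok 261 (by decide) : okPair (32, 37, []) = true)]; simp
theorem c27_37 (u t : F) : X 27 u * X 37 t = X 37 t * X 27 u := by
  rw [swapE (ok 262 (by decide) : okPair (27, 37, []) = true)]; simp
theorem c27_37' (u t : F) (w : G) : X 27 u * (X 37 t * w) = X 37 t * (X 27 u * w) := by
  rw [swap (ok 262 (by decide) : okPair (27, 37, []) = true)]; simp
theorem c25_37 (u t : F) : X 25 u * X 37 t = X 37 t * X 25 u := by
  rw [swapE (ok 263 (by decide) : okPair (25, 37, []) = true)]; simp
theorem c25_37' (u t : F) (w : G) : X 25 u * (X 37 t * w) = X 37 t * (X 25 u * w) := by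
  rw [swap (ok 263 (by decide) : okPair (25, 37, []) = true)]; simp
theorem c28_37 (u t : F) : X 28 u * X 37 t = X 37 t * X 28 u := by
  rw [swapE (ok 264 (by decide) : okPair (28, 37, []) = true)]; simp
theorem c28_37' (u t : F) (w : G) : X 28 u * (X 37 t * w) = X 37 t * (X 28 u * w) := by
  rw [swap (ok 264 (by decide) : okPair (28, 37, []) = true)]; simp
theorem c30_37 (u t : F) : X 30 u * X 37 t = X 37 t * X 30 u := by
  rw [swapE (ok 265 (by decide) : okPair (30, 37, []) = true)]; simp
theorem c30_37' (u t : F) (w : G) : X 30 u * (X 37 t * w) = X 37 t * (X 30 u * w) := by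
  rw [swap (ok 265 (by decide) : okPair (30, 37, []) = true)]; simp
theorem c27_32 (u t : F) : X 27 u * X 32 t = X 32 t * X 27 u := by
  rw [swapE (ok 266 (by decide) : okPair (27, 32, []) = true)]; simp
theorem c27_32' (u t : F) (w : G) : X 27 u * (X 32 t * w) = X 32 t * (X 27 u * w) := by
  rw [swap (ok 266 (by decide) : okPair (27, 32, []) = true)]; simp
theorem c25_32 (u t : F) : X 25 u * X 32 t = X 32 t * X 25 u := by
  rw [swapE (ok 267 (by decide) : okPair (25, 32, []) = true)]; simp
theorem c25_32' (u t : F) (w : G) : X 25 u * (X 32 t * w) = X 32 t * (X 25 u * w) := by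
  rw [swap (ok 267 (by decide) : okPair (25, 32, []) = true)]; simp
theorem c28_32 (u t : F) : X 28 u * X 32 t = X 32 t * X 28 u := by
  rw [swapE (ok 268 (by decide) : okPair (28, 32, []) = true)]; simp
theorem c28_32' (u t : F) (w : G) : X 28 u * (X 32 t * w) = X 32 t * (X 28 u * w) := by
  rw [swap (ok 268 (by decide) : okPair (28, 32, []) = true)]; simp
theorem c30_32 (u t : F) : X 30 u * X 32 t = X 32 t * X 30 u := by
  rw [swapE (ok 269 (by decide) : okPair (30, 32, []) = true)]; simp
theorem c30_32' (u t : F) (w : G) : X 30 u * (X 32 t * w) = X 32 t * (X 30 u * w) := by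
  rw [swap (ok 269 (by decide) : okPair (30, 32, []) = true)]; simp
theorem c25_27 (u t : F) : X 25 u * X 27 t = X 27 t * (X 25 u * (X 28 (t * u) * X 30 (t ^ 2 * u))) := by
  rw [swapE (ok 270 (by decide) : okPair (25, 27, [(28, 1, 1), (30, 2, 1)]) = true)]; simp
theorem c25_27' (u t : F) (w : G) : X 25 u * (X 27 t * w) = X 27 t * (X 25 u * (X 28 (t * u) * (X 30 (t ^ 2 * u) * w))) := by
  rw [swap (ok 270 (by decide) : okPair (25, 27, [(28, 1, 1), (30, 2, 1)]) = true)]; simp [mul_assoc]
theorem c28_27 (u t : F) : X 28 u * X 27 t = X 27 t * X 28 u := by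
  rw [swapE (ok 271 (by decide) : okPair (28, 27, []) = true)]; simp
theorem c28_27' (u t : F) (w : G) : X 28 u * (X 27 t * w) = X 27 t * (X 28 u * w) := by
  rw [swap (ok 271 (by decide) : okPair (28, 27, []) = true)]; simp
theorem c30_27 (u t : F) : X 30 u * X 27 t = X 27 t * X 30 u := by
  rw [swapE (ok 272 (by decide) : okPair (30, 27, []) = true)]; simp
theorem c30_27' (u t : F) (w : G) : X 30 u * (X 27 t * w) = X 27 t * (X 30 u * w) := by
  rw [swap (ok 272 (by decide) : okPair (30, 27, []) = true)]; simp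
theorem c28_25 (u t : F) : X 28 u * X 25 t = X 25 t * X 28 u := by
  rw [swapE (ok 273 (by decide) : okPair (28, 25, []) = true)]; simp
theorem c28_25' (u t : F) (w : G) : X 28 u * (X 25 t * w) = X 25 t * (X 28 u * w) := by
  rw [swap (ok 273 (by decide) : okPair (28, 25, []) = true)]; simp
theorem c30_25 (u t : F) : X 30 u * X 25 t = X 25 t * X 30 u := by
  rw [swapE (ok 274 (by decide) : okPair (30, 25, []) = true)]; simp
theorem c30_25' (u t : F) (w : G) : X 30 u * (X 25 t * w) = X 25 t * (X 30 u * w) := by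
  rw [swap (ok 274 (by decide) : okPair (30, 25, []) = true)]; simp
theorem c30_28 (u t : F) : X 30 u * X 28 t = X 28 t * X 30 u := by
  rw [swapE (ok 275 (by decide) : okPair (30, 28, []) = true)]; simp
theorem c30_28' (u t : F) (w : G) : X 30 u * (X 28 t * w) = X 28 t * (X 30 u * w) := by
  rw [swap (ok 275 (by decide) : okPair (30, 28, []) = true)]; simp

/-- sorting a product of root elements -/
macro "collectF71" : tactic => `(tactic| simp only [mul_assoc, merge, merge', c24_33, c24_33', c34_33, c34_33', c26_33, c26_33', c36_33, c36_33', c42_33, c42_33', c38_33, c38_33', c43_33, c43_33', c29_33, c29_33', c41_33, c41_33', c44_33, c44_33', c47_33, c47_33', c39_33, c39_33', c45_33, c45_33', c35_33, c35_33', c31_33, c31_33', c40_33, c40_33', c46_33, c46_33', c37_33, c37_33', c32_33, c32_33', c27_33, c27_33', c25_33, c25_33', c28_33, c28_33', c30_33, c30_33', c34_24, c34_24', c26_24, c26_24', c36_24, c36_24', c42_24, c42_24', c38_24, c38_24', c43_24, c43_24', c29_24, c29_24', c41_24, c41_24',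 c44_24, c44_24', c47_24, c47_24', c39_24, c39_24', c45_24, c45_24', c35_24, c35_24', c31_24, c31_24', c40_24, c40_24', c46_24, c46_24', c37_24, c37_24', c32_24, c32_24', c27_24, c27_24', c25_24, c25_24', c28_24, c28_24', c30_24, c30_24', c26_34, c26_34', c36_34, c36_34', c42_34, c42_34', c38_34, c38_34', c43_34, c43_34', c29_34, c29_34', c41_34, c41_34', c44_34, c44_34', c47_34, c47_34', c39_34, c39_34', c45_34, c45_34', c35_34, c35_34', c31_34, c31_34', c40_34, c40_34', c46_34, c46_34', c37_34, c37_34', c32_34, c32_34', c27_34, c27_34', c25_34, c25_34', c28_34, c28_34', c30_34, c30_34', c36_26, c36_26', c42_26, c42_26', c38_26, c38_26', c43_26, c43_26', c29_26, c29_26', c41_26, c41_26', c44_26, c44_26', c47_26, c47_26', c39_26, c39_26', c45_26, c45_26', c35_26, c35_26', c31_26, c31_26', c40_26, c40_26', c46_26, c46_26', c37_26, c37_26', c32_26, c32_26', c27_26, c27_26', c25_26, c25_26', c28_26, c28_26', c30_26, c30_26', c42_36, c42_36', c38_36, c38_36', c43_36, c43_36', c29_36, c29_36', c41_36,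 c41_36', c44_36, c44_36', c47_36, c47_36', c39_36, c39_36', c45_36, c45_36', c35_36, c35_36', c31_36, c31_36', c40_36, c40_36', c46_36, c46_36', c37_36, c37_36', c32_36, c32_36', c27_36, c27_36', c25_36, c25_36', c28_36, c28_36', c30_36, c30_36', c38_42, c38_42', c43_42, c43_42', c29_42, c29_42', c41_42, c41_42', c44_42, c44_42', c47_42, c47_42', c39_42, c39_42', c45_42, c45_42', c35_42, c35_42', c31_42, c31_42', c40_42, c40_42', c46_42, c46_42', c37_42, c37_42', c32_42, c32_42', c27_42, c27_42', c25_42, c25_42', c28_42, c28_42', c30_42, c30_42', c43_38, c43_38', c29_38, c29_38', c41_38, c41_38', c44_38, c44_38', c47_38, c47_38', c39_38, c39_38', c45_38, c45_38', c35_38, c35_38', c31_38, c31_38', c40_38, c40_38', c46_38, c46_38', c37_38, c37_38', c32_38, c32_38', c27_38, c27_38', c25_38, c25_38', c28_38, c28_38', c30_38, c30_38', c29_43, c29_43', c41_43, c41_43', c44_43, c44_43', c47_43, c47_43', c39_43, c39_43', c45_43, c45_43', c35_43, c35_43', c31_43, c31_43', c40_43, c40_43', c46_43, c46_43',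 c37_43, c37_43', c32_43, c32_43', c27_43, c27_43', c25_43, c25_43', c28_43, c28_43', c30_43, c30_43', c41_29, c41_29', c44_29, c44_29', c47_29, c47_29', c39_29, c39_29', c45_29, c45_29', c35_29, c35_29', c31_29, c31_29', c40_29, c40_29', c46_29, c46_29', c37_29, c37_29', c32_29, c32_29', c27_29, c27_29', c25_29, c25_29', c28_29, c28_29', c30_29, c30_29', c44_41, c44_41', c47_41, c47_41', c39_41, c39_41', c45_41, c45_41', c35_41, c35_41', c31_41, c31_41', c40_41, c40_41', c46_41, c46_41', c37_41, c37_41', c32_41, c32_41', c27_41, c27_41', c25_41, c25_41', c28_41, c28_41', c30_41, c30_41', c47_44, c47_44', c39_44, c39_44', c45_44, c45_44', c35_44, c35_44', c31_44, c31_44', c40_44, c40_44', c46_44, c46_44', c37_44, c37_44', c32_44, c32_44', c27_44, c27_44', c25_44, c25_44', c28_44, c28_44', c30_44, c30_44', c39_47, c39_47', c45_47, c45_47', c35_47, c35_47', c31_47, c31_47', c40_47, c40_47', c46_47, c46_47', c37_47, c37_47', c32_47, c32_47', c27_47, c27_47', c25_47, c25_47', c28_47, c28_47', c30_47,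 c30_47', c45_39, c45_39', c35_39, c35_39', c31_39, c31_39', c40_39, c40_39', c46_39, c46_39', c37_39, c37_39', c32_39, c32_39', c27_39, c27_39', c25_39, c25_39', c28_39, c28_39', c30_39, c30_39', c35_45, c35_45', c31_45, c31_45', c40_45, c40_45', c46_45, c46_45', c37_45, c37_45', c32_45, c32_45', c27_45, c27_45', c25_45, c25_45', c28_45, c28_45', c30_45, c30_45', c31_35, c31_35', c40_35, c40_35', c46_35, c46_35', c37_35, c37_35', c32_35, c32_35', c27_35, c27_35', c25_35, c25_35', c28_35, c28_35', c30_35, c30_35', c40_31, c40_31', c46_31, c46_31', c37_31, c37_31', c32_31, c32_31', c27_31, c27_31', c25_31, c25_31', c28_31, c28_31', c30_31, c30_31', c46_40, c46_40', c37_40, c37_40', c32_40, c32_40', c27_40, c27_40', c25_40, c25_40', c28_40, c28_40', c30_40, c30_40', c37_46, c37_46', c32_46, c32_46', c27_46, c27_46', c25_46, c25_46', c28_46, c28_46', c30_46, c30_46', c32_37, c32_37', c27_37, c27_37', c25_37, c25_37', c28_37, c28_37', c30_37, c30_37', c27_32, c27_32', c25_32, c25_32', c28_32, c28_32',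 c30_32, c30_32', c25_27, c25_27', c28_27, c28_27', c30_27, c30_27', c28_25, c28_25', c30_25, c30_25', c30_28, c30_28'])

/-- the normal form -/
noncomputable def nf (a : Fin 24 → F) : G :=
  X 33 (a 0) * X 24 (a 1) * X 34 (a 2) * X 26 (a 3) * X 36 (a 4) * X 42 (a 5) * X 38 (a 6) * X 43 (a 7) * X 29 (a 8) * X 41 (a 9) * X 44 (a 10) * X 47 (a 11) * X 39 (a 12) * X 45 (a 13) * X 35 (a 14) * X 31 (a 15) * X 40 (a 16) * X 46 (a 17) * X 37 (a 18) * X 32 (a 19) * X 27 (a 20) * X 25 (a 21) * X 28 (a 22) * X 30 (a 23)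

end Cfsg.Agent.F4CharTwoNf71
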