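import Cfsg.Agent.Lib.TwistedF4Torus
import Cfsg.Agent.Lib.TwistAutRigid

/-!
The positive unipotent group of `F₄` in characteristic two, filtered by the twelve orbits of the exceptional
symmetry, and its trace on `²F₄(q)`.
-/

set_option autoImplicit false
set_option linter.unusedSectionVars false
set_option linter.unusedVariables false
set_option maxRecDepth 20000

namespace Cfsg.Agent.F4Levels9

open Cfsg.Lie Cfsg.Agent.ChevalleyCert Cfsg.Agent.ChevalleyCore Cfsg.Agent.ChevalleyRoots Cfsg.Agent.ChevalleyTorus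
  Cfsg.Agent.TwistedCore Cfsg.Agent.TwistedTools Cfsg.Agent.ChevWeyl Cfsg.Agent.ChevBruhat Cfsg.Agent.TwistedF4Classes
open scoped commutatorElement

/-- the first root of a level -/
def fr (i : ℕ) : ℕ := ([24, 25, 26, 28, 29, 31, 32, 36, 38, 39, 40, 44] : List ℕ).getD i 0

/-- the second root of a level -/
def sr (i : ℕ) : ℕ := ([33, 27, 34, 30, 41, 35, 37, 42, 43, 45, 46, 47] : List ℕ).getD i 0

/-- the level of a positive root -/
def lv (r : ℕ) : ℕ :=
  ([0, 1, 2, 1, 3, 4, 3, 5, 6, 0, 2, 5, 7, 6, 8, 9, 10, 4, 7, 8, 11, 9, 10, 11] : List ℕ).getD (r - 24) 12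

theorem fr_sr : ∀ i < 12, 24 ≤ fr i ∧ fr i < 48 ∧ lv (fr i) = i ∧ 24 ≤ sr i ∧ sr i < 48 ∧ lv (sr i) = i ∧
    ChevExcGraphData.excF4.rho (fr i) = sr i ∧ ChevExcGraphData.excF4.rho (sr i) = fr i := by decide +kernel

theorem lv_spec : ∀ r < 48, 24 ≤ r → lv r < 12 ∧ (r = fr (lv r) ∨ r = sr (lv r)) := by decide +kernel

theorem rho_lv : ∀ r < 48, 24 ≤ r → ChevExcGraphData.excF4.rho r < 48 ∧ 24 ≤ ChevExcGraphData.excF4.rho r ∧
    lv (ChevExcGraphData.excF4.rho r) = lv r := by decide +kernel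

/-- the check on a pair of positive roots -/
def pairOk (r s : ℕ) : Bool :=
  decide (s ≠ chevF4.neg r) && (chevF4.commTerms r s).all fun c =>
    decide (c.2.1 % 2 = 0) || (decide (c.1 < 48) && decide (24 ≤ c.1) && decide (lv r < lv c.1) && decide (lv s < lv c.1))

theorem pairOk_all : ∀ r < 48, ∀ s < 48, 24 ≤ r → 24 ≤ s → r ≠ s → pairOk r s = true := by decide +kernel

theorem nroots_eq : chevF4.nroots = 48 := rfl

section Ambient

variable {K : Type*} [Field K]

variable (K) in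
/-- the roots of level at least `i` -/
def R (i : ℕ) : Subgroup (GL chevF4.Idx K) :=
  Subgroup.closure {g | ∃ r t, 24 ≤ r ∧ r < 48 ∧ i ≤ lv r ∧ g = xg cf r t}

theorem xg_mem_R {i r : ℕ} (h : 24 ≤ r) (h' : r < 48) (hi : i ≤ lv r) (t : K) : xg cf r t ∈ R K i :=
  Subgroup.subset_closure ⟨r, t, h, h', hi, rfl⟩

theorem R_mono {i j : ℕ} (h : i ≤ j) : R K j ≤ R K i := by
  refine Subgroup.closure_mono ?_
  rintro g ⟨r, t, h1, h2, h3, rfl⟩
  exact ⟨r, t, h1, h2, h.trans h3, rfl⟩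

theorem R_zero : R K 0 = chevF4.posUnipotent K := by
  rw [ChevalleyUnipotent.posUnipotent_eq cf]
  unfold R ChevalleyUnipotent.uGe
  congr 1
  ext g
  constructor
  · rintro ⟨r, t, h1, h2, -, rfl⟩
    exact ⟨r, t, h1, h1, h2, rfl⟩
  · rintro ⟨r, t, h1, -, h2, rfl⟩
    exact ⟨r, t, h1, h2, Nat.zero_le _, rfl⟩

theorem R_le_U (i : ℕ) : R K i ≤ chevF4.posUnipotent K := (R_mono (Nat.zero_le i)).trans R_zero.le

theorem R_top {i : ℕ} (hi : 12 ≤ i) : R K i = ⊥ := by
  rw [R, Subgroup.closure_eq_bot_iff]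
  rintro g ⟨r, t, h1, h2, h3, rfl⟩
  have := (lv_spec r h2 h1).1
  omega

variable [CharP K 2]

theorem xg_comm_word {r s : ℕ} (hr : 24 ≤ r) (hr' : r < 48) (hs : 24 ≤ s) (hs' : s < 48) (hne : r ≠ s) (t u : K) :
    ∃ w ∈ R K (max (lv r) (lv s) + 1), xg cf s u * xg cf r t = xg cf r t * xg cf s u * w := by
  have h := pairOk_all r hr' s hs' hr hs hne
  simp only [pairOk, Bool.and_eq_true, Bool.or_eq_true, decide_eq_true_eq, List.all_eq_true] at h
  obtain ⟨hn, hc⟩ := h
  refine ⟨wg cf (chevF4.commWord K r s t u), ?_, comm_formula cf hr' hs' hne.symm hn t u⟩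
  apply Subgroup.list_prod_mem
  intro g hg
  simp only [ChevalleyDatum.commWord, List.map_map, List.mem_map] at hg
  obtain ⟨c, hcm, rfl⟩ := hg
  rcases hc c hcm with he | ⟨⟨⟨a1, a2⟩, a3⟩, a4⟩
  · have : ((c.2.1 : ℤ) : K) = 0 := (CharP.intCast_eq_zero_iff K 2 c.2.1).2 (Int.dvd_of_emod_eq_zero he)
    simp only [Function.comp_apply, this, zero_mul, xg_zero]
    exact one_mem _
  · exact xg_mem_R a2 a1 (by omega) _

theorem xg_conj_R {i r : ℕ} (hr : 24 ≤ r) (hr' : r < 48) (t : K) :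
    ∀ v ∈ R K i, xg cf r t * v * (xg cf r t)⁻¹ ∈ R K i := by
  intro v hv
  induction hv using Subgroup.closure_induction with
  | mem g hg =>
    obtain ⟨s, u, hs, hs', hi, rfl⟩ := hg
    by_cases hne : r = s
    · subst hne
      rw [xg_inv, xg_mul, xg_mul]; exact xg_mem_R hs hs' hi _
    obtain ⟨w, hw, he⟩ := xg_comm_word hr hr' hs hs' hne (-t) u
    rw [xg_inv, mul_assoc, he, ← mul_assoc, ← mul_assoc, xg_mul, add_neg_cancel, xg_zero, one_mul]
    exact mul_mem (xg_mem_R hs hs' hi _) (R_mono (by omega) hw)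
  | one => simp
  | mul a b _ _ ha hb => simpa [mul_assoc] using mul_mem ha hb
  | inv a _ ha => simpa [mul_assoc] using inv_mem ha

theorem conj_R {i : ℕ} {g : GL chevF4.Idx K} (hg : g ∈ chevF4.posUnipotent K) :
    ∀ v ∈ R K i, g * v * g⁻¹ ∈ R K i := by
  rw [← R_zero] at hg
  induction hg using Subgroup.closure_induction_left with
  | one => simp
  | mul_left x hx y _ ih =>
    obtain ⟨r, t, hr, hr', -, rfl⟩ := hx
    intro v hv
    simpa [mul_assoc] using xg_conj_R hr hr' t _ (ih v hv)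
  | inv_mul_cancel x hx y _ ih =>
    obtain ⟨r, t, hr, hr', -, rfl⟩ := hx
    intro v hv
    simpa [mul_assoc, xg_inv] using xg_conj_R hr hr' (-t) _ (ih v hv)

/-- commutators go up -/
theorem bracket_R {i j : ℕ} {g v : GL chevF4.Idx K} (hg : g ∈ R K j) (hv : v ∈ R K i) :
    ⁅g, v⁆ ∈ R K (max j i + 1) := by
  induction hg using Subgroup.closure_induction generalizing v with
  | mem x hx =>
    obtain ⟨r, t, hr, hr', hj, rfl⟩ := hx
    induction hv using Subgroup.closure_induction with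
    | mem y hy =>
      obtain ⟨s, u, hs, hs', hi, rfl⟩ := hy
      by_cases hne : r = s
      · subst hne
        rw [commutatorElement_eq_one_iff_mul_comm.2 (by rw [xg_mul, xg_mul, add_comm])]
        exact one_mem _
      obtain ⟨w, hw, he⟩ := xg_comm_word hs hs' hr hr' (fun e => hne e.symm) u t
      rw [commutatorElement_def, he]
      have e : xg cf s u * xg cf r t * w * (xg cf r t)⁻¹ * (xg cf s u)⁻¹ =
          (xg cf s u * xg cf r t) * w * (xg cf s u * xg cf r t)⁻¹ := by group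
      rw [e]
      exact conj_R (mul_mem (R_le_U _ (xg_mem_R hs hs' hi u)) (R_le_U _ (xg_mem_R hr hr' hj t))) _
        (R_mono (by omega) hw)
    | one => simp
    | mul a b ha _ iha ihb =>
      have e : ⁅xg cf r t, a * b⁆ = ⁅xg cf r t, a⁆ * (a * ⁅xg cf r t, b⁆ * a⁻¹) := by
        simp only [commutatorElement_def]; group
      rw [e]; exact mul_mem iha (conj_R (R_le_U _ ha) _ ihb)
    | inv a ha iha =>
      have e : ⁅xg cf r t, a⁻¹⁆ = a⁻¹ * ⁅xg cf r t, a⁆⁻¹ * a⁻¹⁻¹ := by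
        simp only [commutatorElement_def]; group
      rw [e]; exact conj_R (inv_mem (R_le_U _ ha)) _ (inv_mem iha)
  | one => simp
  | mul a b ha _ iha ihb =>
    have e : ⁅a * b, v⁆ = a * ⁅b, v⁆ * a⁻¹ * ⁅a, v⁆ := by
      simp only [commutatorElement_def]; group
    rw [e]; exact mul_mem (conj_R (R_le_U _ ha) _ (ihb hv)) (iha hv)
  | inv a ha iha =>
    have e : ⁅a⁻¹, v⁆ = a⁻¹ * ⁅a, v⁆⁻¹ * a⁻¹⁻¹ := by
      simp only [commutatorElement_def]; group
    rw [e]; exact conj_R (inv_mem (R_le_U _ ha)) _ (inv_mem (iha hv))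

theorem swap_mod {i : ℕ} {a b : GL chevF4.Idx K} (ha : a ∈ R K i) (hb : b ∈ R K i) :
    ∃ w ∈ R K (i + 1), b * a = a * b * w := by
  refine ⟨⁅b⁻¹, a⁻¹⁆, ?_, by rw [commutatorElement_def]; group⟩
  simpa using bracket_R (inv_mem hb) (inv_mem ha)

variable (K) in
/-- normal forms of a level -/
noncomputable def nf (i : ℕ) (a b : K) : GL chevF4.Idx K := xg cf (fr i) a * xg cf (sr i) b

theorem nf_mem {i : ℕ} (hi : i < 12) (a b : K) : nf K i a b ∈ R K i := by
  obtain ⟨a1, a2, a3, b1, b2, b3, -⟩ := fr_sr i hi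
  exact mul_mem (xg_mem_R a1 a2 a3.ge a) (xg_mem_R b1 b2 b3.ge b)

theorem nf_mul {i : ℕ} (hi : i < 12) (a b a' b' : K) {v v' : GL chevF4.Idx K} (hv : v ∈ R K (i + 1))
    (hv' : v' ∈ R K (i + 1)) :
    ∃ w ∈ R K (i + 1), nf K i a b * v * (nf K i a' b' * v') = nf K i (a + a') (b + b') * w := by
  obtain ⟨a1, a2, a3, b1, b2, b3, -⟩ := fr_sr i hi
  obtain ⟨w, hw, he⟩ := swap_mod (xg_mem_R a1 a2 a3.ge a') (xg_mem_R b1 b2 b3.ge b)
  refine ⟨(xg cf (sr i) b')⁻¹ * w * xg cf (sr i) b' * ((nf K i a' b')⁻¹ * v * nf K i a' b' * v'), ?_, ?_⟩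
  · refine mul_mem ?_ (mul_mem ?_ hv')
    · simpa using conj_R (inv_mem (R_le_U _ (xg_mem_R b1 b2 b3.ge b'))) w hw
    · simpa using conj_R (inv_mem (R_le_U _ (nf_mem hi a' b'))) v hv
  · calc nf K i a b * v * (nf K i a' b' * v')
        = xg cf (fr i) a * (xg cf (sr i) b * xg cf (fr i) a') * xg cf (sr i) b' *
          ((nf K i a' b')⁻¹ * v * nf K i a' b' * v') := by simp only [nf]; group
      _ = _ := by
        rw [he]
        simp only [nf, ← xg_mul]
        group

theorem exists_nf {i : ℕ} (hi : i < 12) {g : GL chevF4.Idx K} (hg : g ∈ R K i) :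
    ∃ a b : K, ∃ v ∈ R K (i + 1), g = nf K i a b * v := by
  induction hg using Subgroup.closure_induction with
  | mem x hx =>
    obtain ⟨r, t, hr, hr', hl, rfl⟩ := hx
    rcases eq_or_lt_of_le hl with rfl | hlt
    · rcases (lv_spec r hr' hr).2 with e | e
      · exact ⟨t, 0, 1, one_mem _, by rw [nf, xg_zero, mul_one, mul_one, ← e]⟩
      · exact ⟨0, t, 1, one_mem _, by rw [nf, xg_zero, one_mul, mul_one, ← e]⟩
    · exact ⟨0, 0, _, xg_mem_R hr hr' hlt t, by simp [nf]⟩
  | one => exact ⟨0, 0, 1, one_mem _, by simp [nf]⟩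
  | mul x y _ _ hx hy =>
    obtain ⟨a, b, v, hv, rfl⟩ := hx
    obtain ⟨a', b', v', hv', rfl⟩ := hy
    exact ⟨_, _, nf_mul hi a b a' b' hv hv'⟩
  | inv x _ hx =>
    obtain ⟨a, b, v, hv, rfl⟩ := hx
    obtain ⟨w, hw, he⟩ := nf_mul hi a b (-a) (-b) hv (one_mem _)
    rw [add_neg_cancel, add_neg_cancel, show nf K i (0 : K) 0 = 1 by simp [nf], one_mul, mul_one] at he
    refine ⟨-a, -b, w⁻¹, inv_mem hw, inv_eq_of_mul_eq_one_right ?_⟩
    rw [← mul_assoc, he, mul_inv_cancel]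

variable [Fintype K]

theorem card_R_le : ∀ d i, i + d = 12 → Nat.card (R K i) ≤ Fintype.card K ^ (2 * d) := by
  intro d
  induction d with
  | zero =>
    intro i hi
    rw [R_top (by omega)]
    simp
  | succ d ih =>
    intro i hi
    let m : K × K × R K (i + 1) → R K i := fun p => ⟨nf K i p.1 p.2.1 * p.2.2,
      mul_mem (nf_mem (by omega) _ _) (R_mono (by omega) p.2.2.2)⟩
    have hm : Function.Surjective m := by
      rintro ⟨g, hg⟩
      obtain ⟨a, b, v, hv, rfl⟩ := exists_nf (by omega) hg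
      exact ⟨(a, b, ⟨v, hv⟩), rfl⟩
    refine (Nat.card_le_card_of_surjective m hm).trans ?_
    rw [Nat.card_prod, Nat.card_prod, Nat.card_eq_fintype_card (α := K)]
    calc _ ≤ Fintype.card K * (Fintype.card K * Fintype.card K ^ (2 * d)) :=
          Nat.mul_le_mul_left _ (Nat.mul_le_mul_left _ (ih (i + 1) (by omega)))
      _ = _ := by ring

theorem card_R_ge : ∀ i, i ≤ 12 → Fintype.card K ^ 24 ≤ Fintype.card K ^ (2 * i) * Nat.card (R K i) := by
  intro i
  induction i with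
  | zero =>
    intro _
    rw [mul_zero, pow_zero, one_mul, R_zero, ChevalleyUnipotent.card_U cf]
    rfl
  | succ i ih =>
    intro hi
    refine (ih (by omega)).trans ?_
    have h : Nat.card (R K i) ≤ Fintype.card K * Fintype.card K * Nat.card (R K (i + 1)) := by
      let m : K × K × R K (i + 1) → R K i := fun p => ⟨nf K i p.1 p.2.1 * p.2.2,
        mul_mem (nf_mem (by omega) _ _) (R_mono (by omega) p.2.2.2)⟩
      have hm : Function.Surjective m := by
        rintro ⟨g, hg⟩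
        obtain ⟨a, b, v, hv, rfl⟩ := exists_nf (by omega) hg
        exact ⟨(a, b, ⟨v, hv⟩), rfl⟩
      refine (Nat.card_le_card_of_surjective m hm).trans (le_of_eq ?_)
      rw [Nat.card_prod, Nat.card_prod, Nat.card_eq_fintype_card (α := K), mul_assoc]
    calc _ ≤ Fintype.card K ^ (2 * i) * (Fintype.card K * Fintype.card K * Nat.card (R K (i + 1))) :=
          Nat.mul_le_mul_left _ h
      _ = _ := by ring

theorem card_R {i : ℕ} (hi : i ≤ 12) : Nat.card (R K i) = Fintype.card K ^ (2 * (12 - i)) := by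
  refine le_antisymm (card_R_le _ i (by omega)) ?_
  have h := card_R_ge (K := K) i hi
  rw [show 24 = 2 * i + 2 * (12 - i) by omega, pow_add] at h
  exact Nat.le_of_mul_le_mul_left h (pow_pos Fintype.card_pos _)

theorem nf_unique {i : ℕ} (hi : i < 12) {a b a' b' : K} {v v' : GL chevF4.Idx K} (hv : v ∈ R K (i + 1))
    (hv' : v' ∈ R K (i + 1)) (h : nf K i a b * v = nf K i a' b' * v') : a = a' ∧ b = b' := by
  let m : K × K × R K (i + 1) → R K i := fun p => ⟨nf K i p.1 p.2.1 * p.2.2,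
    mul_mem (nf_mem hi _ _) (R_mono (by omega) p.2.2.2)⟩
  have hm : Function.Surjective m := by
    rintro ⟨g, hg⟩
    obtain ⟨a, b, v, hv, rfl⟩ := exists_nf hi hg
    exact ⟨(a, b, ⟨v, hv⟩), rfl⟩
  have hb := hm.bijective_of_nat_card_le (le_of_eq (by
    rw [Nat.card_prod, Nat.card_prod, card_R (show i + 1 ≤ 12 by omega), card_R hi.le,
      Nat.card_eq_fintype_card (α := K), show 12 - i = (12 - (i + 1)) + 1 by omega]
    ring))
  have := hb.1 (a₁ := (a, b, ⟨v, hv⟩)) (a₂ := (a', b', ⟨v', hv'⟩)) (Subtype.ext h)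
  exact ⟨congrArg Prod.fst this, congrArg (fun p => p.2.1) this⟩

open Classical in
variable (K) in
/-- the coordinate of a level -/
noncomputable def co (i : ℕ) (g : GL chevF4.Idx K) : K :=
  if h : ∃ a b : K, ∃ v ∈ R K (i + 1), g = nf K i a b * v then h.choose else 0

theorem co_eq {i : ℕ} (hi : i < 12) {g : GL chevF4.Idx K} {a b : K} {v : GL chevF4.Idx K} (hv : v ∈ R K (i + 1))
    (e : g = nf K i a b * v) : co K i g = a := by
  have h : ∃ a b : K, ∃ v ∈ R K (i + 1), g = nf K i a b * v := ⟨a, b, v, hv, e⟩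
  rw [co, dif_pos h]
  obtain ⟨b', v', hv', e'⟩ := h.choose_spec
  exact (nf_unique hi hv' hv (e'.symm.trans e)).1

theorem co_eq' {i : ℕ} (hi : i < 12) {g : GL chevF4.Idx K} {a b : K} {v : GL chevF4.Idx K} (hv : v ∈ R K (i + 1))
    (e : g = xg cf (sr i) b * xg cf (fr i) a * v) : co K i g = a := by
  obtain ⟨a1, a2, a3, b1, b2, b3, -⟩ := fr_sr i hi
  obtain ⟨w, hw, he⟩ := swap_mod (xg_mem_R a1 a2 a3.ge a) (xg_mem_R b1 b2 b3.ge b)
  exact co_eq hi (b := b) (mul_mem hw hv) (by rw [e, he, nf, mul_assoc])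

end Ambient

section Trace

variable {K : Type*} [Field K] [Fintype K] [CharP K 2] (m : ℕ) (hK : Fintype.card K = 2 ^ (2 * m + 1))

local notation "ε" => (2 ^ m : ℕ)

variable (K) in
/-- the terms of the filtration of `²F₄` -/
def N (i : ℕ) : Subgroup ↥(twistedF4 K ε) := (R K i).subgroupOf (twistedF4 K ε)

theorem mem_N {i : ℕ} {g : ↥(twistedF4 K ε)} : g ∈ N K m i ↔ (g : GL chevF4.Idx K) ∈ R K i :=
  Subgroup.mem_subgroupOf

theorem N_zero : N K m 0 = TwistAutRigid.U1 (twistedF4 K ε) := by rw [N, R_zero]; rfl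

theorem sg_R {i : ℕ} {g : GL chevF4.Idx K} (hg : g ∈ R K i) : (tw m).sg g ∈ R K i := by
  refine (tw m).sg_closure_le ?_ ?_ hg
  · rintro _ ⟨r, t, -, -, -, rfl⟩
    exact xg_mem_group cf r t
  · rintro _ ⟨r, t, h1, h2, h3, rfl⟩
    obtain ⟨a1, a2, a3⟩ := rho_lv r h2 h1
    rw [sg_x m h2]
    exact xg_mem_R a2 a1 (a3.symm ▸ h3) _

include hK in
theorem fixed_form {i : ℕ} (hi : i < 12) {g : GL chevF4.Idx K} (hG : g ∈ twistedF4 K ε) {a b : K}
    {v : GL chevF4.Idx K} (hv : v ∈ R K (i + 1)) (e : g = nf K i a b * v) :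
    b = a ^ (ε * ChevExcGraphData.excF4.e (fr i)) := by
  obtain ⟨a1, a2, a3, b1, b2, b3, c1, c2⟩ := fr_sr i hi
  have hgr : ∀ {k : ℕ} {x : GL chevF4.Idx K}, x ∈ R K k → x ∈ chevF4.group K := fun hx =>
    (tw (K := K) m).S.U_le_group (R_le_U _ hx)
  have hfix := (le_fixed m hK hG).2
  rw [e, (tw m).sg_mul (hgr (nf_mem hi a b)) (hgr hv), nf, (tw m).sg_mul (xg_mem_group cf _ _) (xg_mem_group cf _ _),
    sg_x m a2, sg_x m b2, c1, c2] at hfix
  obtain ⟨w, hw, he⟩ := swap_mod (xg_mem_R a1 a2 a3.ge (b ^ (ε * ChevExcGraphData.excF4.e (sr i))))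
    (xg_mem_R b1 b2 b3.ge (a ^ (ε * ChevExcGraphData.excF4.e (fr i))))
  rw [he, mul_assoc] at hfix
  exact (nf_unique hi (mul_mem hw (sg_R m hv)) hv hfix).2.symm

include hK in
theorem exists_form {i : ℕ} (hi : i < 12) {g : ↥(twistedF4 K ε)} (hg : g ∈ N K m i) :
    ∃ v ∈ R K (i + 1), (g : GL chevF4.Idx K) =
      nf K i (co K i g) (co K i g ^ (ε * ChevExcGraphData.excF4.e (fr i))) * v := by
  obtain ⟨a, b, v, hv, e⟩ := exists_nf hi ((mem_N m).1 hg)
  rw [co_eq hi hv e, ← fixed_form m hK hi g.2 hv e]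
  exact ⟨v, hv, e⟩

include hK in
theorem co_add {i : ℕ} (hi : i < 12) {x y : ↥(twistedF4 K ε)} (hx : x ∈ N K m i) (hy : y ∈ N K m i) :
    co K i ((x * y : ↥(twistedF4 K ε)) : GL chevF4.Idx K) = co K i x + co K i y := by
  obtain ⟨v, hv, e⟩ := exists_form m hK hi hx
  obtain ⟨v', hv', e'⟩ := exists_form m hK hi hy
  obtain ⟨w, hw, he⟩ := nf_mul hi (co K i x) (co K i x ^ (ε * ChevExcGraphData.excF4.e (fr i))) (co K i y)
    (co K i y ^ (ε * ChevExcGraphData.excF4.e (fr i))) hv hv'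
  exact co_eq hi hw (by rw [Subgroup.coe_mul, ← he, ← e, ← e'])

include hK in
theorem co_zero {i : ℕ} (hi : i < 12) {x : ↥(twistedF4 K ε)} (hx : x ∈ N K m i)
    (h : co K i (x : GL chevF4.Idx K) = 0) : x ∈ N K m (i + 1) := by
  obtain ⟨v, hv, e⟩ := exists_form m hK hi hx
  have he : 0 < ε * ChevExcGraphData.excF4.e (fr i) :=
    Nat.mul_pos (Nat.two_pow_pos m) ((by decide +kernel : ∀ j < 12, 0 < ChevExcGraphData.excF4.e (fr j)) i hi)
  rw [h, zero_pow he.ne'] at e
  rw [mem_N, e]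
  simpa [nf] using hv

theorem N_mono {i j : ℕ} (h : i ≤ j) : N K m j ≤ N K m i := fun x hx => (mem_N m).2 (R_mono h ((mem_N m).1 hx))

theorem co_one {i : ℕ} (hi : i < 12) : co K i ((1 : ↥(twistedF4 K ε)) : GL chevF4.Idx K) = 0 :=
  co_eq hi (a := 0) (b := 0) (one_mem (R K (i + 1))) (by rw [OneMemClass.coe_one]; simp [nf])

include hK in
/-- a term is no larger than the values of its coordinate times the next term -/
theorem card_N_le {i : ℕ} (hi : i < 12) (T : Set K) (hT : ∀ x ∈ N K m i, co K i (x : GL chevF4.Idx K) ∈ T) :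
    Nat.card (N K m i) ≤ Nat.card T * Nat.card (N K m (i + 1)) := by
  classical
  let cN : N K m i → T := fun x => ⟨_, hT x.1 x.2⟩
  let r : N K m i → N K m i := fun x => Function.invFun cN (cN x)
  have hr : ∀ x, cN (r x) = cN x := fun x => Function.invFun_eq ⟨x, rfl⟩
  have hmem : ∀ x, ((r x).1)⁻¹ * x.1 ∈ N K m (i + 1) := by
    intro x
    refine co_zero m hK hi (mul_mem (inv_mem (r x).2) x.2) ?_
    have h0 := co_add m hK hi (r x).2 (inv_mem (r x).2)
    rw [mul_inv_cancel, co_one m hi] at h0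
    have h1 : co K i ((r x).1 : GL chevF4.Idx K) = co K i (x.1 : GL chevF4.Idx K) := congrArg Subtype.val (hr x)
    rw [co_add m hK hi (inv_mem (r x).2) x.2, eq_neg_of_add_eq_zero_right h0.symm, h1, neg_add_cancel]
  let f : N K m i → T × N K m (i + 1) := fun x => (cN x, ⟨_, hmem x⟩)
  refine (Nat.card_le_card_of_injective f ?_).trans (le_of_eq (Nat.card_prod _ _))
  intro x y h
  obtain ⟨h1, h2⟩ := Prod.ext_iff.1 h
  have h3 : (r x).1⁻¹ * x.1 = (r y).1⁻¹ * y.1 := congrArg Subtype.val h2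
  have h4 : r x = r y := congrArg (Function.invFun cN) h1
  rw [h4] at h3
  exact Subtype.ext (mul_left_cancel h3)

include hK in
theorem card_U1' : Fintype.card K ^ 12 = Nat.card (N K m 0) := by
  rw [N_zero, hK, ← card_U1 (K := K) m hK]
  show _ = Nat.card ↥((chevF4.posUnipotent K).subgroupOf (twistedF4 K ε))
  rw [← Subgroup.inf_subgroupOf_right]
  exact (Nat.card_congr (Subgroup.subgroupOfEquivOfLe inf_le_right).toEquiv).symm

include hK in
theorem co_surj {i : ℕ} (hi : i < 12) (t : K) : ∃ x ∈ N K m i, co K i (x : GL chevF4.Idx K) = t := by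
  classical
  have full : ∀ j < 12, Nat.card (N K m j) ≤ Fintype.card K * Nat.card (N K m (j + 1)) := fun j hj =>
    (card_N_le m hK hj Set.univ fun _ _ => Set.mem_univ _).trans (le_of_eq (by
      rw [Nat.card_congr (Equiv.Set.univ K), Nat.card_eq_fintype_card]))
  have upper : ∀ d j, j + d = 12 → Nat.card (N K m j) ≤ Fintype.card K ^ d := by
    intro d
    induction d with
    | zero =>
      intro j hj
      rw [N, R_top (by omega), Subgroup.bot_subgroupOf]
      simp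
    | succ d ih =>
      intro j hj
      refine (full j (by omega)).trans ?_
      rw [pow_succ']
      exact Nat.mul_le_mul_left _ (ih (j + 1) (by omega))
  have lower : ∀ j ≤ 12, Fintype.card K ^ 12 ≤ Fintype.card K ^ j * Nat.card (N K m j) := by
    intro j
    induction j with
    | zero => intro _; rw [pow_zero, one_mul, card_U1' m hK]
    | succ j ih =>
      intro hj
      refine (ih (by omega)).trans ?_
      calc _ ≤ Fintype.card K ^ j * (Fintype.card K * Nat.card (N K m (j + 1))) :=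
            Nat.mul_le_mul_left _ (full j (by omega))
        _ = _ := by ring
  by_contra hno
  push Not at hno
  have hb := card_N_le m hK hi {a | a ≠ t} fun x hx => hno x hx
  have hT : Nat.card {a : K | a ≠ t} < Fintype.card K := by
    rw [Nat.card_eq_fintype_card]
    exact Fintype.card_subtype_lt (x := t) (by simp)
  have h2 := Nat.mul_le_mul_left (Nat.card {a : K | a ≠ t}) (upper (11 - i) (i + 1) (by omega))
  have h3 := (lower i hi.le).trans (Nat.mul_le_mul_left _ (hb.trans h2))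
  have h4 := Nat.mul_lt_mul_of_pos_left
    (Nat.mul_lt_mul_of_pos_right hT (pow_pos (Fintype.card_pos (α := K)) (11 - i)))
    (pow_pos (Fintype.card_pos (α := K)) i)
  rw [← pow_succ', ← pow_add, show i + (11 - i + 1) = 12 by omega] at h4
  omega

end Trace

end Cfsg.Agent.F4Levels9
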