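import Cfsg.Agent.Lib.F4TorusPartner98
import Cfsg.Agent.Lib.ChevalleyUnipotentCount
import Cfsg.Agent.Lib.ChevRootCentralizer
import Cfsg.Agent.Lib.ChevalleyRankOne
import Cfsg.Agent.Lib.PSLCard

/-!
The Levi subgroup on the first three roots of F₄(q) against the root SL₂ of the highest root.
-/

set_option autoImplicit false
set_option linter.unusedSectionVars false
set_option maxRecDepth 20000

namespace Cfsg.Agent.F4LeviElement98

open Cfsg Cfsg.Lie Cfsg.Agent.ChevalleyCert Cfsg.Agent.ChevalleyCore Cfsg.Agent.ChevWeyl Cfsg.Agent.ChevBruhat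
open Cfsg.Agent.F4PrimeCheck98 (c4 X4)
open Cfsg.Agent.F4TorusPartner98 (J3)

/-- the chain below the top -/
def tailChain : List CoxeterTables.Level := CoxeterData.f4Chain.tail

theorem tail_poly :
    ChevOrder.pmul (ChevOrder.pprod (List.replicate 3 (ChevOrder.cyc 0)))
        (ChevOrder.pprod (tailChain.map ChevOrder.levelPoly)) =
      ChevOrder.pprod ([2, 4, 6].map fun d => ChevOrder.cyc (d - 1)) := by decide +kernel

theorem pair_comm : ∀ r ∈ ([47, chevF4.neg 47] : List ℕ), ∀ s < chevF4.nroots,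
    (chevF4.coroot.getD s #[]).getD 3 0 = 0 →
      s ≠ r ∧ s ≠ chevF4.neg r ∧ ∀ c ∈ chevF4.commTerms r s, (2 : ℤ) ∣ c.2.1 := by decide +kernel

theorem pairing_zero : ∀ r ∈ ([47, chevF4.neg 47] : List ℕ), chevF4.pairing (chevF4.simple 0) r = 0 := by
  decide +kernel

theorem top_root : (47 : ℕ) < chevF4.nroots ∧ chevF4.neg 47 < chevF4.nroots ∧ chevF4.neg 47 ≠ 47 ∧
    chevF4.pairing (chevF4.simple 0) (chevF4.simple 0) = 2 := by
  decide +kernel

section Fields

variable {F : Type*} [Field F] [Fintype F] [CharP F 2]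

/-- the system over the field -/
noncomputable abbrev S4 : Sys chevF4 F := ChevBruhatInstance.mkSys c4 X4 S2372.supp

theorem sum_WJ [Fintype (S4 (F := F)).X.W] [DecidablePred fun w =>
      w ∈ ChevalleyCells.WJ (S4 (F := F)) J3] (q : ℕ) :
    ((q : ℤ) - 1) ^ 3 *
      ((∑ w ∈ Finset.univ.filter (fun w => w ∈ ChevalleyCells.WJ (S4 (F := F)) J3),
        q ^ (S4 (F := F)).X.inv w : ℕ) : ℤ) =
      ((q : ℤ) ^ 2 - 1) * ((q : ℤ) ^ 4 - 1) * ((q : ℤ) ^ 6 - 1) := by
  have hWJ : ChevalleyCells.WJ (S4 (F := F)) J3 = X4.par [0, 1, 2] := by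
    apply le_antisymm
    · refine (Subgroup.closure_le _).2 ?_
      rintro _ ⟨i, hi, rfl⟩
      refine Subgroup.subset_closure ⟨i.val, ?_, ?_⟩
      · simpa [J3] using hi
      · simp [CoxeterTables.gen]; rfl
    · refine (Subgroup.closure_le _).2 ?_
      rintro _ ⟨k, hk, rfl⟩
      have hk3 : k < 3 := by simp at hk; omega
      refine Subgroup.subset_closure ⟨⟨k, lt_trans hk3 (by decide)⟩, ?_, ?_⟩
      · simp [J3]; omega
      · simp [CoxeterTables.gen, show k < chevF4.rank from lt_trans hk3 (by decide)]; rfl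
  have hchain := X4.hchain
  have hlen := X4.hlen
  have hsplit : X4.chain = CoxeterData.f4Level0 :: tailChain := rfl
  rw [hsplit] at hchain hlen
  simp only [CoxeterTables.chainOK, Bool.and_eq_true, decide_eq_true_eq] at hchain
  simp only [chainLenOK, List.all_cons, Bool.and_eq_true] at hlen
  let : Fintype X4.W := inferInstanceAs (Fintype (S4 (F := F)).X.W)
  let : Fintype ↥(X4.par [0, 1, 2]) := Fintype.ofFinite _
  have hP := X4.par_poincare [0, 1, 2] tailChain hchain.2 hlen.2 (by decide) q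
  have hsum : ∑ w ∈ Finset.univ.filter (fun w => w ∈ ChevalleyCells.WJ (S4 (F := F)) J3),
      q ^ (S4 (F := F)).X.inv w = ∑ x : ↥(X4.par [0, 1, 2]), q ^ X4.inv x := by
    refine Finset.sum_subtype _ (fun w => ?_) _
    rw [Finset.mem_filter, hWJ]
    exact ⟨fun h => h.2, fun h => ⟨Finset.mem_univ _, h⟩⟩
  rw [hsum, hP]
  have hev := congrArg (ChevOrder.peval (q : ℤ)) tail_poly
  simp only [ChevOrder.peval_pmul, ChevOrder.peval_pprod, List.map_replicate, List.prod_replicate, List.map_map,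
    Function.comp_def, ChevOrder.peval_cyc, ChevOrder.peval_levelPoly] at hev
  rw [Nat.cast_list_prod, List.map_map]
  simp only [Function.comp_def, Nat.cast_sum, Nat.cast_pow]
  simpa [mul_assoc] using hev

/-- an element of order `s` in the parabolic -/
theorem exists_parabolic {s : ℕ} (hs : s.Prime) {d : ℕ} (hd : d = 2 ∨ d = 4 ∨ d = 6)
    (hsd : (Fintype.card F : ZMod s) ^ d = 1) (hs1 : (Fintype.card F : ZMod s) ≠ 1) :
    ∃ x ∈ chevF4.parabolicSubgroup F J3, orderOf x = s := by
  classical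
  have : Fact s.Prime := ⟨hs⟩
  let S : Sys chevF4 F := S4
  let : Fintype S.X.W := Fintype.ofFinite _
  set P := ChevalleySteinbergChar.PS chevF4 F J3 with hP
  set P0 := ChevalleySteinbergChar.PS chevF4 F (∅ : Set ℕ) with hP0
  have hle : P0 ≤ P := ChevalleyUnipotentCount.PS_mono c4 S (Set.empty_subset _)
  have hY := ChevalleyUnipotentCount.card_Y c4 S (K := (∅ : Set ℕ)) (J := J3) (Set.empty_subset _)
  have hdvd : s ∣ Nat.card (ChevalleyUnipotentCount.Y chevF4 F J3 ∅) := by
    rw [hY, Finset.filter_congr (q := fun w => w ∈ ChevalleyCells.WJ S J3)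
      (fun w _ => and_iff_left (ChevalleySteinbergChar.posOn_empty c4 S w)), ← ZMod.natCast_eq_zero_iff]
    have h := congrArg (fun z : ℤ => (z : ZMod s)) (sum_WJ (F := F) (Fintype.card F))
    push_cast at h ⊢
    have h0 : ((Fintype.card F : ZMod s) ^ 2 - 1) * ((Fintype.card F : ZMod s) ^ 4 - 1) *
        ((Fintype.card F : ZMod s) ^ 6 - 1) = 0 := by
      rcases hd with rfl | rfl | rfl <;> simp [hsd]
    exact (mul_eq_zero.1 (h.trans h0)).resolve_left (pow_ne_zero _ (sub_ne_zero.2 hs1))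
  have hcard : Nat.card (ChevalleyUnipotentCount.Y chevF4 F J3 ∅) ∣ Nat.card ↥P := by
    have hbij : Nat.card (↥P ⧸ P0.subgroupOf P) = Nat.card (ChevalleyUnipotentCount.Y chevF4 F J3 ∅) := by
      refine Nat.card_eq_of_bijective (fun z => ⟨QuotientGroup.mk ((z.out : ↥P) : ↥(chevF4.group F)),
        (ChevalleyUnipotentCount.out_mem (C := c4) (S := S) hle _).2 z.out.2⟩) ⟨?_, ?_⟩
      · intro z z' h
        rw [← QuotientGroup.out_eq' z, ← QuotientGroup.out_eq' z']
        have h' := QuotientGroup.eq.1 (congrArg Subtype.val h)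
        exact QuotientGroup.eq.2 h'
      · rintro ⟨y, hy⟩
        refine ⟨QuotientGroup.mk (⟨y.out, hy⟩ : ↥P), Subtype.ext ?_⟩
        obtain ⟨z, hz⟩ := QuotientGroup.mk_out_eq_mul (P0.subgroupOf P) (⟨y.out, hy⟩ : ↥P)
        show QuotientGroup.mk (s := P0)
          (((QuotientGroup.mk (⟨y.out, hy⟩ : ↥P) : ↥P ⧸ P0.subgroupOf P).out : ↥P) : ↥(chevF4.group F)) = y
        rw [hz]
        refine Eq.trans ?_ (QuotientGroup.out_eq' y)
        exact (QuotientGroup.eq.2 (by simpa using Subgroup.mem_subgroupOf.1 z.2)).symm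
    rw [← hbij]
    exact Subgroup.card_quotient_dvd_card _
  obtain ⟨x, hx⟩ := exists_prime_orderOf_dvd_card' s (hdvd.trans hcard)
  exact ⟨((x : ↥(chevF4.group F)) : GL chevF4.Idx F), x.2, by rw [Subgroup.orderOf_coe, Subgroup.orderOf_coe, hx]⟩

theorem not_dvd_card {s : ℕ} (h : (Fintype.card F : ZMod s) ≠ 0) : ¬ s ∣ Fintype.card F :=
  fun hd => h ((ZMod.natCast_eq_zero_iff _ _).2 hd)

/-- the Levi part of an element of prime order in the parabolic -/
theorem exists_levi {s : ℕ} (hs : s.Prime) (hsq : ¬ s ∣ Fintype.card F) {x : GL chevF4.Idx F}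
    (hx : x ∈ chevF4.parabolicSubgroup F J3) (hxo : orderOf x = s) :
    ∃ l ∈ chevF4.leviSubgroup F J3, l ∈ chevF4.parabolicSubgroup F J3 ∧ orderOf l = s := by
  have : Fact s.Prime := ⟨hs⟩
  let S : Sys chevF4 F := S4
  have hsup := ChevalleyParabolic.radical_sup_levi c4 (F := F) J3
  have hLP : chevF4.leviSubgroup F J3 ≤ chevF4.parabolicSubgroup F J3 := hsup ▸ le_sup_right
  have hN : chevF4.leviSubgroup F J3 ≤
      Subgroup.normalizer (chevF4.unipotentRadical F J3 : Set (GL chevF4.Idx F)) :=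
    hLP.trans (ChevalleyParabolic.parabolic_le_normalizer c4 J3)
  have hx' : x ∈ chevF4.unipotentRadical F J3 ⊔ chevF4.leviSubgroup F J3 := hsup.symm ▸ hx
  rw [← SetLike.mem_coe, Subgroup.coe_mul_of_right_le_normalizer_left _ _ hN] at hx'
  obtain ⟨v, hv, l, hl, rfl⟩ := hx'
  have hpow : ∀ i : ℕ, ∃ v' ∈ chevF4.unipotentRadical F J3, (v * l) ^ i = v' * l ^ i := by
    intro i
    induction i with
    | zero => exact ⟨1, one_mem _, by simp⟩
    | succ i ih =>
      obtain ⟨v', hv', he⟩ := ih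
      exact ⟨v' * (l ^ i * v * (l ^ i)⁻¹),
        mul_mem hv' ((Subgroup.mem_normalizer_iff.1 (hN (pow_mem hl i)) v).1 hv),
        by rw [pow_succ, he, pow_succ l]; group⟩
  obtain ⟨v', hv', he⟩ := hpow s
  have h1 : l ^ s = 1 := by
    have e : l ^ s = v'⁻¹ := by
      rw [eq_inv_iff_mul_eq_one]
      have h2 : v' * l ^ s = 1 := by rw [← he, ← hxo, pow_orderOf_eq_one]
      exact mul_eq_one_comm.1 h2
    have := Subgroup.mem_inf.2 ⟨e ▸ inv_mem hv', pow_mem hl s⟩
    rwa [ChevalleyParabolic.radical_inf_levi c4, Subgroup.mem_bot] at this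
  refine ⟨l, hl, hLP hl, (Nat.dvd_prime hs).1 (orderOf_dvd_of_pow_eq_one h1) |>.resolve_left fun h0 => ?_⟩
  rw [orderOf_eq_one_iff] at h0
  subst h0
  simp only [mul_one] at hxo
  have hU := ChevalleyRelative.radical_le_U c4 S J3 hv
  have := Subgroup.orderOf_dvd_natCard _ hU
  rw [hxo, ChevalleyUnipotent.card_U c4] at this
  exact hsq (hs.dvd_of_dvd_pow this)

/-- the Levi acts on the two highest root subgroups by scalars -/
theorem levi_scalar {r : ℕ} (hr : r ∈ ([47, chevF4.neg 47] : List ℕ)) {z : GL chevF4.Idx F}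
    (hz : z ∈ chevF4.leviSubgroup F J3) : ∃ c : Fˣ, ∀ t : F, z * xg c4 r t * z⁻¹ = xg c4 r ((c : F) * t) := by
  have hrl : r < chevF4.nroots := by
    simp only [List.mem_cons, List.not_mem_nil, or_false] at hr
    rcases hr with rfl | rfl
    · exact top_root.1
    · exact top_root.2.1
  let N : Subgroup (GL chevF4.Idx F) :=
    { carrier := {z | ∃ c : Fˣ, ∀ t : F, z * xg c4 r t * z⁻¹ = xg c4 r ((c : F) * t)}
      one_mem' := ⟨1, fun t => by simp⟩
      mul_mem' := by
        rintro a b ⟨c, hc⟩ ⟨d, hd⟩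
        refine ⟨c * d, fun t => ?_⟩
        rw [mul_inv_rev, show a * b * xg c4 r t * (b⁻¹ * a⁻¹) = a * (b * xg c4 r t * b⁻¹) * a⁻¹ by group, hd, hc,
          Units.val_mul, mul_assoc]
      inv_mem' := by
        rintro a ⟨c, hc⟩
        refine ⟨c⁻¹, fun t => ?_⟩
        have := hc ((c⁻¹ : Fˣ) * t)
        rw [← mul_assoc, Units.mul_inv, one_mul] at this
        rw [← this]
        group }
  have hle : chevF4.leviSubgroup F J3 ≤ N := by
    refine sup_le ((Subgroup.closure_le _).2 ?_) ((Subgroup.closure_le _).2 ?_)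
    · rintro g ⟨a, t, ha, ht, hgt⟩
      obtain rfl : g = hg c4 a t := Units.ext (hgt.trans (coe_hg c4 a t).symm)
      refine ⟨Units.mk0 (t ^ chevF4.pairing a r) (zpow_ne_zero _ ht), fun u => ?_⟩
      rw [Units.val_mk0, hg_conj_xg c4 ha hrl ht, mul_inv_cancel_right]
    · rintro g ⟨a, t, ha, hgt⟩
      obtain rfl : g = xg c4 a t := ((xg_eq_iff c4).1 hgt).symm ▸ rfl
      refine ⟨1, fun u => ?_⟩
      obtain ⟨ha', hc0⟩ := ha
      obtain ⟨h1, h2, h3⟩ := pair_comm r hr a ha' (hc0 3 (by decide) (by simp [J3]))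
      have hcomm := ChevRootCentralizer.comm_of_terms c4 hrl ha' h1 h2 (F := F)
        (fun c hc => (CharP.intCast_eq_zero_iff F 2 _).2 (by exact_mod_cast h3 c hc)) u t
      rw [Units.val_one, one_mul, ← hcomm.eq, mul_inv_cancel_right]
  exact hle hz

/-- the root SL₂ of the highest root -/
noncomputable def phi : Matrix.SpecialLinearGroup (Fin 2) F →* GL chevF4.Idx F :=
  ChevalleySL2.phi (ChevalleyRankOne.rels c4 top_root.1)

theorem phi_upper (t : F) : phi (ChevalleySL2.upper t) = xg c4 47 t :=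
  ChevalleySL2.phi_upper (ChevalleyRankOne.rels c4 top_root.1) t

theorem phi_lower (t : F) : phi (ChevalleySL2.lower t) = xg c4 (chevF4.neg 47) t :=
  ChevalleySL2.phi_lower (ChevalleyRankOne.rels c4 top_root.1) t

theorem phi_mem (g : Matrix.SpecialLinearGroup (Fin 2) F) : phi g ∈ chevF4.group F := by
  have h : phi g ∈ (phi (F := F)).range := ⟨g, rfl⟩
  rw [phi, ChevalleySL2.range_phi] at h
  refine (Subgroup.closure_le _).2 ?_ h
  rintro _ (⟨t, rfl⟩ | ⟨t, rfl⟩) <;> exact xg_mem_group c4 _ _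

/-- a commuting element for the root SL₂ -/
theorem commute_phi {z : GL chevF4.Idx F}
    (h : ∀ r ∈ ([47, chevF4.neg 47] : List ℕ), ∀ t : F, z * xg c4 r t * z⁻¹ = xg c4 r t)
    (g : Matrix.SpecialLinearGroup (Fin 2) F) : Commute z (phi g) := by
  have hm : phi g ∈ (phi (F := F)).range := ⟨g, rfl⟩
  rw [phi, ChevalleySL2.range_phi] at hm
  have hle : Subgroup.closure (Set.range (fun t : F => xg c4 47 t) ∪ Set.range fun t : F => xg c4 (chevF4.neg 47) t) ≤
      Subgroup.centralizer ({z} : Set (GL chevF4.Idx F)) := by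
    refine (Subgroup.closure_le _).2 ?_
    rintro _ (⟨t, rfl⟩ | ⟨t, rfl⟩) <;> rw [SetLike.mem_coe, Subgroup.mem_centralizer_singleton_iff]
    · exact (mul_inv_eq_iff_eq_mul.1 (h 47 (by simp) t)).symm
    · exact (mul_inv_eq_iff_eq_mul.1 (h _ (by simp) t)).symm
  exact (Subgroup.mem_centralizer_singleton_iff.1 (hle hm)).symm

theorem levi_commute {s : ℕ} (hs : s.Prime) (hs1 : (Fintype.card F : ZMod s) ≠ 1) {z : GL chevF4.Idx F}
    (hz : z ∈ chevF4.leviSubgroup F J3) (hzo : orderOf z = s) (g : Matrix.SpecialLinearGroup (Fin 2) F) :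
    Commute z (phi g) := by
  classical
  refine commute_phi (fun r hr t => ?_) g
  obtain ⟨c, hc⟩ := levi_scalar hr hz
  have hpow : ∀ i : ℕ, ∀ t : F, z ^ i * xg c4 r t * (z ^ i)⁻¹ = xg c4 r (((c ^ i : Fˣ) : F) * t) := by
    intro i
    induction i with
    | zero => simp
    | succ i ih =>
      intro t
      rw [pow_succ', show z * z ^ i * xg c4 r t * (z * z ^ i)⁻¹ = z * (z ^ i * xg c4 r t * (z ^ i)⁻¹) * z⁻¹ by group,
        ih, hc, ← mul_assoc, pow_succ' c, Units.val_mul]
  have hrl : r < chevF4.nroots := by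
    simp only [List.mem_cons, List.not_mem_nil, or_false] at hr
    rcases hr with rfl | rfl
    · exact top_root.1
    · exact top_root.2.1
  have hcs : c ^ s = 1 := by
    have h := hpow s 1
    rw [← hzo, pow_orderOf_eq_one, one_mul, inv_one, mul_one, hzo, mul_one] at h
    have h2 := (ChevBruhatInstance.xg_injective c4 hrl hrl one_ne_zero h).2
    exact Units.ext (by rw [Units.val_one]; exact h2.symm)
  have hc1 : c = 1 := by
    rw [← orderOf_eq_one_iff]
    refine ((Nat.dvd_prime hs).1 (orderOf_dvd_of_pow_eq_one hcs)).resolve_right fun h => hs1 ?_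
    have h2 : s ∣ Fintype.card F - 1 := h ▸ orderOf_dvd_of_pow_eq_one (by
      apply Units.ext
      rw [Units.val_pow_eq_pow_val, FiniteField.pow_card_sub_one_eq_one _ c.ne_zero, Units.val_one])
    have h3 := (ZMod.natCast_eq_zero_iff _ s).2 h2
    rw [Nat.cast_sub Fintype.card_pos, Nat.cast_one, sub_eq_zero] at h3
    exact h3
  rw [hc t, hc1, Units.val_one, one_mul]

/-- a torus element of the Levi centralising the root SL₂ -/
theorem hg_commute {c : F} (hc : c ≠ 0) (g : Matrix.SpecialLinearGroup (Fin 2) F) :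
    Commute (hg c4 (chevF4.simple 0) c) (phi g) := by
  refine commute_phi (fun r hr t => ?_) g
  have hrl : r < chevF4.nroots := by
    simp only [List.mem_cons, List.not_mem_nil, or_false] at hr
    rcases hr with rfl | rfl
    · exact top_root.1
    · exact top_root.2.1
  rw [hg_conj_xg c4 (X4.simple_lt (i := 0) (by decide)) hrl hc, pairing_zero r hr, zpow_zero, one_mul,
    mul_inv_cancel_right]

theorem exists_hg {s : ℕ} (hs : s.Prime) (hsd : s ∣ Fintype.card F - 1) :
    ∃ c : F, c ≠ 0 ∧ orderOf (hg c4 (chevF4.simple 0) c : GL chevF4.Idx F) = s := by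
  classical
  have : Fact s.Prime := ⟨hs⟩
  obtain ⟨u, hu⟩ := exists_prime_orderOf_dvd_card' (G := Fˣ) s (by
    rw [Nat.card_units, Nat.card_eq_fintype_card]; exact hsd)
  have hi := X4.simple_lt (i := 0) (show 0 < chevF4.rank by decide)
  let h : Fˣ →* GL chevF4.Idx F :=
    MonoidHom.mk' (fun v => hg c4 (chevF4.simple 0) (v : F))
      fun a b => (hg_mul c4 hi a.ne_zero b.ne_zero).symm
  refine ⟨u, u.ne_zero, ?_⟩
  show orderOf (h u) = s
  rw [orderOf_injective h ?_, hu]
  rw [injective_iff_map_eq_one]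
  intro v hv
  have h2 := hg_conj_xg c4 hi hi (v.ne_zero) (1 : F)
  rw [show hg c4 (chevF4.simple 0) (v : F) = 1 from hv, one_mul, mul_one, mul_one,
    top_root.2.2.2] at h2
  have h3 := (ChevBruhatInstance.xg_injective c4 hi hi one_ne_zero h2).2
  apply Units.ext
  rw [Units.val_one]
  have h4 : ((v : F) - 1) ^ 2 = 0 := by
    have h2' : (2 : F) = 0 := CharTwo.two_eq_zero
    rw [zpow_two] at h3
    linear_combination (1 - (v : F)) * h2' - h3
  simpa [sub_eq_zero] using h4

/-- an element of each prime order dividing `q (q² - 1)` in the root SL₂ -/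
theorem exists_phi {r : ℕ} (hr : r.Prime) (h : r ∣ Fintype.card F * ((Fintype.card F) ^ 2 - 1)) :
    ∃ g : Matrix.SpecialLinearGroup (Fin 2) F, orderOf (phi g) = r := by
  classical
  have : Fact r.Prime := ⟨hr⟩
  have h2' : (2 : F) = 0 := CharTwo.two_eq_zero
  have hneg : chevF4.neg 47 ≠ 47 := top_root.2.2.1
  have hne : ∀ t : F, t ≠ 0 → ∀ u : F, (xg c4 47 t : GL chevF4.Idx F) ≠ xg c4 (chevF4.neg 47) u := fun t ht u e =>
    hneg (ChevBruhatInstance.xg_injective c4 top_root.1 top_root.2.1 ht e).1.symm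
  have hone : ∀ t : F, t ≠ 0 → (xg c4 47 t : GL chevF4.Idx F) ≠ 1 := fun t ht e =>
    hne t ht 0 (e.trans (xg_zero c4 _).symm)
  rcases eq_or_ne r 2 with rfl | hr2
  · refine ⟨ChevalleySL2.upper 1, orderOf_eq_prime ?_ ?_⟩
    · rw [phi_upper, pow_two, xg_mul, CharTwo.add_self_eq_zero, xg_zero]
    · rw [phi_upper]; exact hone 1 one_ne_zero
  by_cases hd1 : r ∣ Fintype.card F - 1
  · obtain ⟨u, hu⟩ := exists_prime_orderOf_dvd_card' (G := Fˣ) r (by
      rw [Nat.card_units, Nat.card_eq_fintype_card]; exact hd1)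
    let dg : Fˣ →* Matrix.SpecialLinearGroup (Fin 2) F := MonoidHom.mk'
      (fun v => ⟨!![(v : F), 0; 0, ((v⁻¹ : Fˣ) : F)], by simp [Matrix.det_fin_two_of]⟩)
      fun a b => by
        refine Subtype.ext ?_
        show _ = !![(a : F), 0; 0, ((a⁻¹ : Fˣ) : F)] * !![(b : F), 0; 0, ((b⁻¹ : Fˣ) : F)]
        simp [Matrix.mul_fin_two, mul_comm]
    refine ⟨dg u, orderOf_eq_prime (by rw [← map_pow, ← map_pow, ← hu, pow_orderOf_eq_one, map_one, map_one]) ?_⟩
    intro h1
    have hdg : ∀ v : Fˣ, (dg v : Matrix (Fin 2) (Fin 2) F) = !![(v : F), 0; 0, ((v⁻¹ : Fˣ) : F)] := fun v => rfl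
    have hconj : dg u * ChevalleySL2.upper 1 = ChevalleySL2.upper ((u : F) ^ 2) * dg u := by
      apply Matrix.SpecialLinearGroup.ext
      intro i j
      rw [Matrix.SpecialLinearGroup.coe_mul, Matrix.SpecialLinearGroup.coe_mul]
      fin_cases i <;> fin_cases j <;>
        simp [hdg, ChevalleySL2.upper, Matrix.mul_apply, Fin.sum_univ_two, pow_two, u.ne_zero, mul_assoc]
    have e := congrArg phi hconj
    rw [map_mul, map_mul, h1, one_mul, mul_one, phi_upper, phi_upper] at e
    have h3 := (ChevBruhatInstance.xg_injective c4 top_root.1 top_root.1 one_ne_zero e).2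
    have h4 : u = 1 := by
      apply Units.ext
      rw [Units.val_one]
      have : ((u : F) - 1) ^ 2 = 0 := by linear_combination (1 - (u : F)) * h2' - h3
      simpa [sub_eq_zero] using this
    rw [h4, orderOf_one] at hu
    exact hr.one_lt.ne hu
  · have hG : r ∣ Nat.card (Matrix.SpecialLinearGroup (Fin 2) F) := by
      rw [PSLCard.card_SL2, Nat.card_eq_fintype_card]
      exact h
    obtain ⟨g, hgo⟩ := exists_prime_orderOf_dvd_card' r hG
    refine ⟨g, orderOf_eq_prime (by rw [← map_pow, ← hgo, pow_orderOf_eq_one, map_one]) ?_⟩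
    intro h1
    set A : Matrix (Fin 2) (Fin 2) F := (g : Matrix (Fin 2) (Fin 2) F) with hA
    have hdet : A 0 0 * A 1 1 - A 0 1 * A 1 0 = 1 := ChevalleySL2.det_eq g
    by_cases hc : A 1 0 = 0
    · -- upper triangular
      have hpow : ∀ i : ℕ, ((g ^ i : Matrix.SpecialLinearGroup (Fin 2) F) : Matrix (Fin 2) (Fin 2) F) 1 0 = 0 ∧
          ((g ^ i : Matrix.SpecialLinearGroup (Fin 2) F) : Matrix (Fin 2) (Fin 2) F) 0 0 = A 0 0 ^ i := by
        intro i
        induction i with
        | zero => simp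
        | succ i ih =>
          rw [pow_succ, Matrix.SpecialLinearGroup.coe_mul, Matrix.mul_apply, Matrix.mul_apply, Fin.sum_univ_two,
            Fin.sum_univ_two, ← hA, ih.1, ih.2, hc, pow_succ]
          constructor <;> ring
      have ha : A 0 0 ^ r = 1 := by
        have := (hpow r).2
        rw [← hgo, pow_orderOf_eq_one, hgo] at this
        simpa using this.symm
      have ha0 : A 0 0 ≠ 0 := fun h0 => by rw [h0, zero_pow hr.ne_zero] at ha; exact zero_ne_one ha
      have ha1 : A 0 0 = 1 := by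
        have h5 : orderOf (A 0 0) ∣ r := orderOf_dvd_of_pow_eq_one ha
        rcases (Nat.dvd_prime hr).1 h5 with h6 | h6
        · exact orderOf_eq_one_iff.1 h6
        · exact absurd (h6 ▸ orderOf_dvd_of_pow_eq_one (FiniteField.pow_card_sub_one_eq_one _ ha0)) hd1
      have hd : A 1 1 = 1 := by rw [hc, ha1] at hdet; linear_combination hdet
      have hu : g = ChevalleySL2.upper (A 0 1) := by
        apply Subtype.ext
        ext i j
        fin_cases i <;> fin_cases j <;> simp [ChevalleySL2.upper, ← hA, hc, ha1, hd]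
      have hsq : g ^ 2 = 1 := by
        rw [hu, pow_two]
        apply Matrix.SpecialLinearGroup.ext
        intro i j
        rw [Matrix.SpecialLinearGroup.coe_mul]
        fin_cases i <;> fin_cases j <;>
          simp [ChevalleySL2.upper, Matrix.mul_apply, Fin.sum_univ_two, CharTwo.add_self_eq_zero]
      have := Nat.le_of_dvd two_pos (hgo ▸ orderOf_dvd_of_pow_eq_one hsq)
      have := hr.two_le
      omega
    · -- otherwise a translate of it exchanges the two root subgroups
      obtain ⟨M, hM⟩ : ∃ M : Matrix.SpecialLinearGroup (Fin 2) F,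
          M = ChevalleySL2.upper (A 0 0 / A 1 0) * g * ChevalleySL2.upper (A 1 1 / A 1 0) := ⟨_, rfl⟩
      have hMval : (M : Matrix (Fin 2) (Fin 2) F) = !![0, (A 1 0)⁻¹; A 1 0, 0] := by
        rw [hM, Matrix.SpecialLinearGroup.coe_mul, Matrix.SpecialLinearGroup.coe_mul]
        show !![1, A 0 0 / A 1 0; 0, 1] * A * !![1, A 1 1 / A 1 0; 0, 1] = _
        rw [Matrix.eta_fin_two A, Matrix.mul_fin_two, Matrix.mul_fin_two]
        ext i j
        fin_cases i <;> fin_cases j <;> simp <;> (try field_simp) <;> first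
            | linear_combination A 0 0 * h2'
            | linear_combination hdet + (A 0 0 * A 1 1 + A 0 1 * A 1 0) * h2'
            | linear_combination A 1 1 * h2'
            | linear_combination (A 0 0 * A 1 0) * h2'
            | linear_combination (A 1 0 * A 1 1) * h2'
      have hconj : M * ChevalleySL2.upper 1 = ChevalleySL2.lower ((A 1 0) ^ 2) * M := by
        apply Subtype.ext
        rw [Matrix.SpecialLinearGroup.coe_mul, Matrix.SpecialLinearGroup.coe_mul, hMval]
        ext i j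
        fin_cases i <;> fin_cases j <;>
          simp [ChevalleySL2.upper, ChevalleySL2.lower, Matrix.mul_apply, Fin.sum_univ_two] <;> (try field_simp)
      have e := congrArg phi hconj
      have hφM : phi M = xg c4 47 (A 0 0 / A 1 0 + A 1 1 / A 1 0) := by
        rw [hM, map_mul, map_mul, h1, mul_one, phi_upper, phi_upper, xg_mul]
      rw [map_mul, map_mul, hφM, phi_upper, phi_lower, xg_mul, add_comm, ← xg_mul] at e
      exact hne 1 one_ne_zero _ (mul_right_cancel e)

end Fields

end Cfsg.Agent.F4LeviElement98
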