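import Cfsg.Agent.Lib.ChevSylowTorus68
import Cfsg.Agent.Lib.ChevWeylData

/-!
The Weyl group of F₄ element by element: which cyclotomic factors occur in the action on coordinates, and the
root lattices they leave.
-/

set_option autoImplicit false
set_option linter.unusedSectionVars false
set_option maxRecDepth 20000

namespace Cfsg.Agent.F4PrimeCheck98

open Cfsg Cfsg.Lie Cfsg.Agent.ChevalleyCert Cfsg.Agent.ChevWeyl Cfsg.Agent.CoxeterTables Cfsg.Agent.ChevRootCoord68
open Cfsg.Agent.ChevCoxTorus68 (Pm)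
open Polynomial Matrix

/-- the certificate with computable coordinates -/
abbrev c4 : Cert chevF4 := ChevalleyDataF4.cert

/-- the Weyl data -/
noncomputable abbrev X4 : Weyl chevF4 := ChevWeylData.f4

/-! ### the elements as words -/

/-- the products of coset words along a chain -/
def elts : List Level → List (List ℕ)
  | [] => [[]]
  | L :: Ls => (List.range L.size).flatMap fun v => (elts Ls).map (L.word v ++ ·)

/-- all elements, as words -/
def words : List (List ℕ) := elts CoxeterData.f4Chain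

/-- the permutation of the roots of a word -/
def fw (w : List ℕ) (r : ℕ) : ℕ := actWord CoxeterData.f4Perm w r

theorem exists_word_chain {D : ChevalleyDatum} (X : Weyl D) : ∀ (g : List ℕ) (Ls : List Level),
    chainOK (natMatrix X.C) X.P D.nroots g Ls = true → ∀ x ∈ X.par g, ∃ l ∈ elts Ls, x = wprod (gen X.C) l
  | g, [], h, x, hx => by
    simp only [chainOK, List.isEmpty_iff] at h
    subst h
    have hbot : X.par [] = ⊥ := by simp [Weyl.par, gSub]
    rw [hbot, Subgroup.mem_bot] at hx
    exact ⟨[], by simp [elts], by simp [hx]⟩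
  | g, L :: Ls, h, x, hx => by
    simp only [chainOK, Bool.and_eq_true, decide_eq_true_eq] at h
    obtain ⟨⟨⟨rfl, hT⟩, -⟩, hrest⟩ := h
    obtain ⟨v, hv, y, hy, rfl⟩ := level_cover (gen_rels X.C) hT x hx
    obtain ⟨l, hl, rfl⟩ := exists_word_chain X L.sub Ls hrest y hy
    exact ⟨L.word v ++ l, List.mem_flatMap.2 ⟨v, List.mem_range.2 hv, List.mem_map.2 ⟨l, hl, rfl⟩⟩,
      (wprod_append _ _ _).symm⟩

theorem letters : (words.all fun w => w.all fun s => decide (s < chevF4.rank)) = true := by decide +kernel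

theorem exists_word (w : X4.W) : ∃ l ∈ words, ∀ r, r < chevF4.nroots → X4.img w r = fw l r := by
  have htop : w ∈ X4.par (List.range chevF4.rank) := by
    rw [show X4.par (List.range chevF4.rank) = ⊤ from gSub_range X4.C]; trivial
  obtain ⟨l, hl, rfl⟩ := exists_word_chain X4 _ _ X4.hchain w htop
  refine ⟨l, hl, fun r hr => X4.img_wprod l (fun s hs => ?_) hr⟩
  have h := List.all_eq_true.1 (List.all_eq_true.1 letters l hl) s hs
  simpa using h

/-! ### polynomials in an element, row by row -/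

/-- coordinates of a root -/
def co (s j : ℕ) : ℤ := c4.coef s j

/-- a coefficient list evaluated along an orbit -/
def comb (f : ℕ → ℕ) : List ℤ → ℕ → ℕ → ℤ
  | [], _, _ => 0
  | c :: l, s, j => c * co s j + comb f l (f s) j

/-- the value of a coefficient list -/
def val (x : ℤ) : List ℤ → ℤ
  | [] => 0
  | c :: l => c + x * val x l

/-- the polynomial of a coefficient list -/
noncomputable def poly : List ℤ → ℤ[X]
  | [] => 0
  | c :: l => C c + X * poly l

/-- coefficients of the cyclotomic polynomials of index 3, 4, 6, 8, 12 -/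
def cf (k : ℕ) : List ℤ :=
  if k = 3 then [1, 1, 1] else if k = 4 then [1, 0, 1] else if k = 6 then [1, -1, 1]
  else if k = 8 then [1, 0, 0, 0, 1] else [1, 0, -1, 0, 1]

theorem eval_poly (x : ℤ) : ∀ l, (poly l).eval x = val x l
  | [] => by simp [poly, val]
  | c :: l => by simp [poly, val, eval_poly x l]

theorem poly_cf {k : ℕ} (hk : k ∈ [3, 4, 6, 8, 12]) : poly (cf k) = cyclotomic k ℤ := by
  have h4 : cyclotomic 4 ℤ = X ^ 2 + 1 := by
    have := cyclotomic_expand_eq_cyclotomic (p := 2) (n := 2) Nat.prime_two (dvd_refl 2) ℤ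
    rw [cyclotomic_two] at this
    rw [show (4 : ℕ) = 2 * 2 from rfl, ← this]
    simp
  have h8 : cyclotomic 8 ℤ = X ^ 4 + 1 := by
    have := cyclotomic_expand_eq_cyclotomic (p := 2) (n := 4) Nat.prime_two (by norm_num) ℤ
    rw [h4] at this
    rw [show (8 : ℕ) = 4 * 2 from rfl, ← this]
    simp [← pow_mul]
  have h12 : cyclotomic 12 ℤ = X ^ 4 - X ^ 2 + 1 := by
    have := cyclotomic_expand_eq_cyclotomic (p := 2) (n := 6) Nat.prime_two (by norm_num) ℤ
    rw [cyclotomic_six] at this
    rw [show (12 : ℕ) = 6 * 2 from rfl, ← this]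
    simp [← pow_mul]
  simp only [List.mem_cons, List.not_mem_nil, or_false] at hk
  rcases hk with rfl | rfl | rfl | rfl | rfl
  · rw [cyclotomic_three]; simp [cf, poly]; ring
  · rw [h4]; simp [cf, poly]; ring
  · rw [cyclotomic_six]; simp [cf, poly]; ring
  · rw [h8]; simp [cf, poly]; ring
  · rw [h12]; simp [cf, poly]; ring

/-- determinant of four rows -/
def det4 (a b c d : ℕ → ℤ) : ℤ :=
  a 0 * (b 1 * (c 2 * d 3 - c 3 * d 2) - b 2 * (c 1 * d 3 - c 3 * d 1) + b 3 * (c 1 * d 2 - c 2 * d 1))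
  - a 1 * (b 0 * (c 2 * d 3 - c 3 * d 2) - b 2 * (c 0 * d 3 - c 3 * d 0) + b 3 * (c 0 * d 2 - c 2 * d 0))
  + a 2 * (b 0 * (c 1 * d 3 - c 3 * d 1) - b 1 * (c 0 * d 3 - c 3 * d 0) + b 3 * (c 0 * d 1 - c 1 * d 0))
  - a 3 * (b 0 * (c 1 * d 2 - c 2 * d 1) - b 1 * (c 0 * d 2 - c 2 * d 0) + b 2 * (c 0 * d 1 - c 1 * d 0))

/-- the four rows as a matrix -/
def rowsM (a b c d : ℕ → ℤ) : Matrix (Fin chevF4.rank) (Fin chevF4.rank) ℤ :=
  Matrix.of fun i j => [a, b, c, d].getD i.val a j.val

theorem det_rowsM (a b c d : ℕ → ℤ) : (rowsM a b c d).det = det4 a b c d := by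
  show Matrix.det (n := Fin 4) (Matrix.of fun i j => [a, b, c, d].getD i.val a j.val) = _
  simp [Matrix.det_succ_row_zero, Fin.sum_univ_succ, det4, Fin.succAbove]
  ring

/-- the row of a simple root in a cyclotomic polynomial of an element -/
def phiRow (f : ℕ → ℕ) (k i : ℕ) : ℕ → ℤ := comb f (cf k) (chevF4.simple i)

/-- the determinant of a cyclotomic polynomial of an element -/
def detPhi (f : ℕ → ℕ) (k : ℕ) : ℤ := det4 (phiRow f k 0) (phiRow f k 1) (phiRow f k 2) (phiRow f k 3)

theorem vecMul_poly (w : X4.W) (f : ℕ → ℕ) (hf : ∀ r, r < chevF4.nroots → X4.img w r = f r) :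
    ∀ (l : List ℤ) {s : ℕ}, s < chevF4.nroots → ∀ j : Fin chevF4.rank,
      Matrix.vecMul (fun i : Fin chevF4.rank => co s i.val) (aeval (Pm c4 X4 w) (poly l)) j = comb f l s j.val
  | [], s, _, j => by simp [poly, comb]
  | c :: l, s, hs, j => by
    have h1 : Matrix.vecMul (fun i : Fin chevF4.rank => co s i.val) (Pm c4 X4 w) =
        fun i => co (f s) i.val := by
      rw [← hf s hs]; exact ChevSylowTorus68.vecMul_coefZ c4 X4 w hs
    have hfs : f s < chevF4.nroots := hf s hs ▸ X4.img_lt w hs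
    rw [poly, map_add, map_mul, aeval_X, aeval_C, Matrix.vecMul_add, ← Matrix.vecMul_vecMul, h1, comb,
      Pi.add_apply, vecMul_poly w f hf l hfs, Algebra.algebraMap_eq_smul_one, Matrix.vecMul_smul, Matrix.vecMul_one]
    rfl

theorem det_aeval (w : X4.W) (f : ℕ → ℕ) (hf : ∀ r, r < chevF4.nroots → X4.img w r = f r) {k : ℕ}
    (hk : k ∈ [3, 4, 6, 8, 12]) : detPhi f k = (aeval (Pm c4 X4 w) (cyclotomic k ℤ)).det := by
  rw [← poly_cf hk, detPhi, ← det_rowsM]
  congr 1
  funext i j
  have h := vecMul_poly w f hf (cf k) (X4.simple_lt i.isLt) j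
  rw [show (fun l : Fin chevF4.rank => co (chevF4.simple i.val) l.val) = Pi.single i 1 from
    funext fun l => by simp [co, c4.coef_simple _ _ i.isLt l.isLt, Pi.single_apply, Fin.val_inj],
    Matrix.single_one_vecMul] at h
  refine Eq.trans ?_ h.symm
  obtain ⟨i, hi⟩ := i
  match i, hi with
  | 0, _ => rfl
  | 1, _ => rfl
  | 2, _ => rfl
  | 3, _ => rfl

/-! ### the checks -/

/-- only the primes 2 and 3 occur -/
def smooth (d : ℤ) : Bool := decide (d ≠ 0) && decide (d.natAbs ∣ 2 ^ 12 * 3 ^ 8)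

/-- the element fixes the coordinate outside the parabolic -/
def inJ (f : ℕ → ℕ) : Bool := (List.range 4).all fun i => co (f (chevF4.simple i)) 3 == co (chevF4.simple i) 3

/-- a root orbit of span four -/
def orb4 (f : ℕ → ℕ) (a : ℕ) : ℤ := det4 (co a) (co (f a)) (co (f (f a))) (co (f (f (f a))))

/-- two roots of an orbit and two rows of a cyclotomic polynomial -/
def orb2 (f : ℕ → ℕ) (k a i : ℕ) : ℤ := det4 (co a) (co (f a)) (phiRow f k i) (phiRow f k 3)

/-- no element has two of the small cyclotomic factors -/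
def chkPair (w : List ℕ) : Bool :=
  ([(3, 4), (3, 6), (4, 6)] : List (ℕ × ℕ)).all fun p => decide (detPhi (fw w) p.1 ≠ 0) || decide (detPhi (fw w) p.2 ≠ 0)

/-- the roots of a large cyclotomic factor span -/
def chkBig (w : List ℕ) : Bool :=
  [8, 12].all fun k => decide (detPhi (fw w) k ≠ 0) || (List.range 48).all fun a => smooth (orb4 (fw w) a)

/-- the roots against a small cyclotomic factor in the parabolic -/
def chkJ (w : List ℕ) : Bool :=
  !inJ (fw w) || [3, 4, 6].all fun k => decide (detPhi (fw w) k ≠ 0) || (List.range 48).all fun a =>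
    decide (fw w (fw w a) = a) || smooth (orb2 (fw w) k a 2) || smooth (orb2 (fw w) k a 0)

end Cfsg.Agent.F4PrimeCheck98
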