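import Cfsg.Agent.Lib.F4PrimeCheck98

/-!
The kernel checks over the Weyl group of F₄.
-/

set_option autoImplicit false
set_option maxRecDepth 20000
-- sequential, so that only one chunk is in memory at a time
set_option Elab.async false

namespace Cfsg.Agent.F4PrimeCheck98

theorem all_of_chunks {α : Type} (f : α → Bool) (L : List α) (k n : ℕ)
    (hlen : L.length ≤ k * n)
    (h : ∀ j < n, ((L.drop (k * j)).take k).all f = true) : L.all f = true := by
  rw [List.all_eq_true]
  intro x hx
  obtain ⟨i, hi, rfl⟩ := List.mem_iff_getElem.1 hx
  have hk : 0 < k := Nat.pos_of_ne_zero fun h0 => by subst h0; omega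
  have hj : i / k < n := Nat.div_lt_of_lt_mul (by omega)
  have hm := Nat.mod_lt i hk
  have hd := Nat.div_add_mod i k
  refine List.all_eq_true.1 (h (i / k) hj) _ (List.mem_iff_getElem.2 ⟨i % k, ?_, ?_⟩)
  · simp only [List.length_take, List.length_drop]; omega
  · simp only [List.getElem_take, List.getElem_drop, hd]

theorem words_le : words.length ≤ 1152 := by decide +kernel

theorem chunk_pair0 : ((words.drop (144 * 0)).take 144).all chkPair = true := by decide +kernel

theorem chunk_pair1 : ((words.drop (144 * 1)).take 144).all chkPair = true := by decide +kernel

theorem chunk_pair2 : ((words.drop (144 * 2)).take 144).all chkPair = true := by decide +kernel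

theorem chunk_pair3 : ((words.drop (144 * 3)).take 144).all chkPair = true := by decide +kernel

theorem chunk_pair4 : ((words.drop (144 * 4)).take 144).all chkPair = true := by decide +kernel

theorem chunk_pair5 : ((words.drop (144 * 5)).take 144).all chkPair = true := by decide +kernel

theorem chunk_pair6 : ((words.drop (144 * 6)).take 144).all chkPair = true := by decide +kernel

theorem chunk_pair7 : ((words.drop (144 * 7)).take 144).all chkPair = true := by decide +kernel

theorem all_pair : words.all chkPair = true := by
  refine all_of_chunks _ _ 144 8 words_le fun j hj => ?_
  interval_cases j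
  · exact chunk_pair0
  · exact chunk_pair1
  · exact chunk_pair2
  · exact chunk_pair3
  · exact chunk_pair4
  · exact chunk_pair5
  · exact chunk_pair6
  · exact chunk_pair7

theorem chunk_big0 : ((words.drop (72 * 0)).take 72).all chkBig = true := by decide +kernel

theorem chunk_big1 : ((words.drop (72 * 1)).take 72).all chkBig = true := by decide +kernel

theorem chunk_big2 : ((words.drop (72 * 2)).take 72).all chkBig = true := by decide +kernel

theorem chunk_big3 : ((words.drop (72 * 3)).take 72).all chkBig = true := by decide +kernel

theorem chunk_big4 : ((words.drop (72 * 4)).take 72).all chkBig = true := by decide +kernel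

theorem chunk_big5 : ((words.drop (72 * 5)).take 72).all chkBig = true := by decide +kernel

theorem chunk_big6 : ((words.drop (72 * 6)).take 72).all chkBig = true := by decide +kernel

theorem chunk_big7 : ((words.drop (72 * 7)).take 72).all chkBig = true := by decide +kernel

theorem chunk_big8 : ((words.drop (72 * 8)).take 72).all chkBig = true := by decide +kernel

theorem chunk_big9 : ((words.drop (72 * 9)).take 72).all chkBig = true := by decide +kernel

theorem chunk_big10 : ((words.drop (72 * 10)).take 72).all chkBig = true := by decide +kernel

theorem chunk_big11 : ((words.drop (72 * 11)).take 72).all chkBig = true := by decide +kernel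

theorem chunk_big12 : ((words.drop (72 * 12)).take 72).all chkBig = true := by decide +kernel

theorem chunk_big13 : ((words.drop (72 * 13)).take 72).all chkBig = true := by decide +kernel

theorem chunk_big14 : ((words.drop (72 * 14)).take 72).all chkBig = true := by decide +kernel

theorem chunk_big15 : ((words.drop (72 * 15)).take 72).all chkBig = true := by decide +kernel

theorem all_big : words.all chkBig = true := by
  refine all_of_chunks _ _ 72 16 words_le fun j hj => ?_
  interval_cases j
  · exact chunk_big0
  · exact chunk_big1
  · exact chunk_big2
  · exact chunk_big3
  · exact chunk_big4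
  · exact chunk_big5
  · exact chunk_big6
  · exact chunk_big7
  · exact chunk_big8
  · exact chunk_big9
  · exact chunk_big10
  · exact chunk_big11
  · exact chunk_big12
  · exact chunk_big13
  · exact chunk_big14
  · exact chunk_big15

theorem chunk_J0 : ((words.drop (72 * 0)).take 72).all chkJ = true := by decide +kernel

theorem chunk_J1 : ((words.drop (72 * 1)).take 72).all chkJ = true := by decide +kernel

theorem chunk_J2 : ((words.drop (72 * 2)).take 72).all chkJ = true := by decide +kernel

theorem chunk_J3 : ((words.drop (72 * 3)).take 72).all chkJ = true := by decide +kernel

theorem chunk_J4 : ((words.drop (72 * 4)).take 72).all chkJ = true := by decide +kernel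

theorem chunk_J5 : ((words.drop (72 * 5)).take 72).all chkJ = true := by decide +kernel

theorem chunk_J6 : ((words.drop (72 * 6)).take 72).all chkJ = true := by decide +kernel

theorem chunk_J7 : ((words.drop (72 * 7)).take 72).all chkJ = true := by decide +kernel

theorem chunk_J8 : ((words.drop (72 * 8)).take 72).all chkJ = true := by decide +kernel

theorem chunk_J9 : ((words.drop (72 * 9)).take 72).all chkJ = true := by decide +kernel

theorem chunk_J10 : ((words.drop (72 * 10)).take 72).all chkJ = true := by decide +kernel

theorem chunk_J11 : ((words.drop (72 * 11)).take 72).all chkJ = true := by decide +kernel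

theorem chunk_J12 : ((words.drop (72 * 12)).take 72).all chkJ = true := by decide +kernel

theorem chunk_J13 : ((words.drop (72 * 13)).take 72).all chkJ = true := by decide +kernel

theorem chunk_J14 : ((words.drop (72 * 14)).take 72).all chkJ = true := by decide +kernel

theorem chunk_J15 : ((words.drop (72 * 15)).take 72).all chkJ = true := by decide +kernel

theorem all_J : words.all chkJ = true := by
  refine all_of_chunks _ _ 72 16 words_le fun j hj => ?_
  interval_cases j
  · exact chunk_J0
  · exact chunk_J1
  · exact chunk_J2
  · exact chunk_J3
  · exact chunk_J4
  · exact chunk_J5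
  · exact chunk_J6
  · exact chunk_J7
  · exact chunk_J8
  · exact chunk_J9
  · exact chunk_J10
  · exact chunk_J11
  · exact chunk_J12
  · exact chunk_J13
  · exact chunk_J14
  · exact chunk_J15

end Cfsg.Agent.F4PrimeCheck98
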