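import Cfsg.Agent.Lib.StemTwistBN9

/-!
Stem extensions of a group with a split BN-pair of rank two whose Weyl group is dihedral of order
sixteen: no kernel prime to the characteristic.
-/

set_option autoImplicit false
set_option linter.unusedSectionVars false
set_option linter.unusedVariables false

namespace Cfsg.Agent.StemTwistBN16

open Subgroup
open Cfsg.Agent.StemTwistBN9 (Rank1 word Lt Lt_le Lt_inj Lt_conj Lt_surj)
open scoped commutatorElement

variable {Γ G : Type*} [Group Γ] [Group G]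

/-- the data of the group -/
structure Rank2 (p : ℕ) (U H La Lb Xa Xb : Subgroup G) (a b : G) : Prop where
  perfect : commutator G = ⊤
  Ua : Rank1 p U H La Xa a
  Ub : Rank1 p U H Lb Xb b
  pU : ∀ u ∈ U, StemLift.IsPElem p u
  gen : closure ((U : Set G) ∪ {a, b}) = ⊤
  HU : ∀ h ∈ H, ∀ u ∈ U, h * u * h⁻¹ ∈ U
  inter : ∀ g ∈ H, g ∈ U → g = 1
  HLL : ∀ g ∈ H, g ∈ La → g ∈ Lb → g = 1
  notHU : ∀ i < 8, ∀ j : Bool, (i ≠ 0 ∨ j = true) → ∀ h ∈ H, ∀ u ∈ U, word a b i j ≠ h * u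
  dichA : ∀ i < 8, ∀ j : Bool, (∀ x ∈ Xa, (word a b i j)⁻¹ * x * word a b i j ∈ U) ∨
    (∀ x ∈ Xa, (a * word a b i j)⁻¹ * x * (a * word a b i j) ∈ U)
  dichB : ∀ i < 8, ∀ j : Bool, (∀ x ∈ Xb, (word a b i j)⁻¹ * x * word a b i j ∈ U) ∨
    (∀ x ∈ Xb, (b * word a b i j)⁻¹ * x * (b * word a b i j) ∈ U)
  vX : ∀ x ∈ Xa, (b * a * b * a * b * a * b) * x * (b * a * b * a * b * a * b)⁻¹ ∈ Xa
  vA : a⁻¹ * ((b * a * b * a * b * a * b) * a * (b * a * b * a * b * a * b)⁻¹) ∈ H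

variable [Finite Γ] [Finite G]

theorem ker_eq_bot {p : ℕ} [Fact p.Prime] {U H La Lb Xa Xb : Subgroup G} {a b : G}
    (D : Rank2 p U H La Lb Xa Xb a b) {σ : Γ →* G} (hσ : Cfsg.IsStemExtension σ)
    (hZ : Nat.Coprime (Nat.card σ.ker) p) (ka : StemBasic.KerFree σ La) (kb : StemBasic.KerFree σ Lb) :
    σ.ker = ⊥ := by
  have hs := hσ.1
  have hc := hσ.2.1
  obtain ⟨P, hP, hPinj, hPmem⟩ := StemStep.exists_pLifts hZ hc hs D.pU
  have hPlift : ∀ u ∈ U, ∃ x ∈ P, σ x = u := by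
    intro u hu
    obtain ⟨γ, hγ, hγp⟩ := StemLift.exists_lift hs hZ (D.pU u hu)
    exact ⟨γ, hPmem γ hγp (hγ ▸ hu), hγ⟩
  have hPconj : ∀ (g x : Γ), x ∈ P → σ g * σ x * (σ g)⁻¹ ∈ U → g * x * g⁻¹ ∈ P := fun g x hx h =>
    hPmem _ ((hP x hx).1.conj g) (by rw [map_mul, map_mul, map_inv]; exact h)
  set Ta := Lt σ p La
  set Tb := Lt σ p Lb
  set Ha := Ta ⊓ H.comap σ with hHa
  set Hb := Tb ⊓ H.comap σ with hHb
  have conjH : ∀ {g h : G}, g ∈ H → h ∈ H → g * h * g⁻¹ ∈ H := fun hg hh =>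
    H.mul_mem (H.mul_mem hg hh) (H.inv_mem hg)
  have hHab : ∀ y : Γ, σ y ∈ H → ∀ x ∈ Ha, y * x * y⁻¹ ∈ Ha := fun y hy x hx =>
    ⟨Lt_conj La (D.Ua.HL hy) hx.1, by
      show σ (y * x * y⁻¹) ∈ H
      rw [map_mul, map_mul, map_inv]; exact conjH hy hx.2⟩
  let Ht : Subgroup Γ :=
    { carrier := {g | ∃ x ∈ Ha, ∃ y ∈ Hb, g = x * y}
      one_mem' := ⟨1, one_mem _, 1, one_mem _, (mul_one _).symm⟩
      mul_mem' := by
        rintro _ _ ⟨x, hx, y, hy, rfl⟩ ⟨x', hx', y', hy', rfl⟩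
        exact ⟨x * (y * x' * y⁻¹), mul_mem hx (hHab y hy.2 x' hx'), y * y', mul_mem hy hy', by group⟩
      inv_mem' := by
        rintro _ ⟨x, hx, y, hy, rfl⟩
        refine ⟨y⁻¹ * x⁻¹ * y⁻¹⁻¹, hHab _ ?_ _ (inv_mem hx), y⁻¹, inv_mem hy, by group⟩
        rw [map_inv]; exact H.inv_mem hy.2 }
  have hHtH : ∀ h ∈ Ht, σ h ∈ H := by
    rintro _ ⟨x, hx, y, hy, rfl⟩
    rw [map_mul]; exact H.mul_mem hx.2 hy.2
  have hHtinj : ∀ h ∈ Ht, σ h = 1 → h = 1 := by
    rintro _ ⟨x, hx, y, hy, rfl⟩ h1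
    rw [map_mul] at h1
    have e := eq_inv_of_mul_eq_one_left h1
    have hb : σ x ∈ Lb := by rw [e]; exact Lb.inv_mem (Lt_le Lb hy.1)
    have hx1 := D.HLL _ hx.2 (Lt_le La hx.1) hb
    rw [hx1, one_mul] at h1
    rw [Lt_inj hc hZ ka hx.1 hx1, Lt_inj hc hZ kb hy.1 h1, one_mul]
  have hHa_le : Ha ≤ Ht := fun x hx => ⟨x, hx, 1, one_mem _, (mul_one x).symm⟩
  have hHb_le : Hb ≤ Ht := fun x hx => ⟨1, one_mem _, x, hx, (one_mul x).symm⟩
  obtain ⟨α, hαT, hα⟩ := Lt_surj hs hZ D.Ua D.pU D.Ua.n_mem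
  obtain ⟨β, hβT, hβ⟩ := Lt_surj hs hZ D.Ub D.pU D.Ub.n_mem
  -- normalisation of the torus
  have hnorm : ∀ {L X : Subgroup G} {n : G} (R : Rank1 p U H L X n) (ν : Γ), ν ∈ Lt σ p L →
      (∀ h ∈ H, σ ν * h * (σ ν)⁻¹ ∈ H) → (Lt σ p L ⊓ H.comap σ ≤ Ht) → ∀ h ∈ Ht, ν * h * ν⁻¹ ∈ Ht := by
    intro L X n R ν hν hνH hle h hh
    have e : ν * h * ν⁻¹ = ⁅ν, h⁆ * h := by rw [commutatorElement_def]; group
    rw [e]
    refine mul_mem (hle ⟨?_, ?_⟩) hh
    · rw [commutatorElement_def, mul_assoc, mul_assoc]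
      refine mul_mem hν ?_
      rw [← mul_assoc]
      exact Lt_conj L (R.HL (hHtH h hh)) (inv_mem hν)
    · show σ ⁅ν, h⁆ ∈ H
      rw [map_commutatorElement, commutatorElement_def]
      exact H.mul_mem (hνH _ (hHtH h hh)) (H.inv_mem (hHtH h hh))
  have hαn : ∀ h ∈ Ht, α * h * α⁻¹ ∈ Ht := hnorm D.Ua α hαT (by rw [hα]; exact D.Ua.nH) hHa_le
  have hαn' : ∀ h ∈ Ht, α⁻¹ * h * α⁻¹⁻¹ ∈ Ht := hnorm D.Ua α⁻¹ (inv_mem hαT)
    (by rw [map_inv, hα]; simpa using D.Ua.nH') hHa_le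
  have hβn : ∀ h ∈ Ht, β * h * β⁻¹ ∈ Ht := hnorm D.Ub β hβT (by rw [hβ]; exact D.Ub.nH) hHb_le
  have hβn' : ∀ h ∈ Ht, β⁻¹ * h * β⁻¹⁻¹ ∈ Ht := hnorm D.Ub β⁻¹ (inv_mem hβT)
    (by rw [map_inv, hβ]; simpa using D.Ub.nH') hHb_le
  have hαα : α * α ∈ Ht := hHa_le ⟨mul_mem hαT hαT, by
    show σ (α * α) ∈ H
    rw [map_mul, hα]; exact D.Ua.nsq⟩
  have hββ : β * β ∈ Ht := hHb_le ⟨mul_mem hβT hβT, by
    show σ (β * β) ∈ H
    rw [map_mul, hβ]; exact D.Ub.nsq⟩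
  -- the braid relation
  have hd8 : (α * β) ^ 8 ∈ Ht := by
    set ν := β * α * β * α * β * α * β with hν
    have hσν : σ ν = b * a * b * a * b * a * b := by rw [hν]; simp [hα, hβ]
    have hLa : ∀ g ∈ La, σ ν * g * (σ ν)⁻¹ ∈ La := by
      rw [hσν]
      intro g hg
      rw [D.Ua.Lgen] at hg
      induction hg using closure_induction with
      | mem g hg =>
        rcases hg with hg | ⟨x, hx, rfl⟩
        · exact D.Ua.X_le_L (D.vX g hg)
        · set v := b * a * b * a * b * a * b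
          have e : v * (a * x * a⁻¹) * v⁻¹ =
              a * ((a⁻¹ * (v * a * v⁻¹)) * (v * x * v⁻¹) * (a⁻¹ * (v * a * v⁻¹))⁻¹) * a⁻¹ := by group
          rw [e]
          exact La.mul_mem (La.mul_mem D.Ua.n_mem (D.Ua.X_le_L (D.Ua.HX _ D.vA _ (D.vX x hx))))
            (La.inv_mem D.Ua.n_mem)
      | one => simp
      | mul x y _ _ hx hy => simpa [mul_assoc] using La.mul_mem hx hy
      | inv x _ hx => simpa [mul_assoc] using La.inv_mem hx
    have hk : α⁻¹ * (ν * α * ν⁻¹) ∈ Ht := hHa_le ⟨Ta.mul_mem (Ta.inv_mem hαT) (Lt_conj La hLa hαT), by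
      show σ (α⁻¹ * (ν * α * ν⁻¹)) ∈ H
      simp only [map_mul, map_inv, hσν, hα]; exact D.vA⟩
    have sa : ∀ x ∈ Ht, α * x * α ∈ Ht := fun x hx => by
      have e : α * x * α = α * x * α⁻¹ * (α * α) := by group
      rw [e]; exact mul_mem (hαn x hx) hαα
    have sb : ∀ x ∈ Ht, β * x * β ∈ Ht := fun x hx => by
      have e : β * x * β = β * x * β⁻¹ * (β * β) := by group
      rw [e]; exact mul_mem (hβn x hx) hββ
    have hνν : ν * ν ∈ Ht := by
      have h := sb _ (sa _ (sb _ (sa _ (sb _ (sa _ hββ)))))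
      have e : ν * ν = β * (α * (β * (α * (β * (α * (β * β) * α) * β) * α) * β) * α) * β := by rw [hν]; group
      rw [e]; exact h
    have e : (α * β) ^ 8 = (α * α) * (α⁻¹ * (ν * α * ν⁻¹)) * (ν * ν) := by
      rw [hν]; simp [pow_succ, mul_assoc]
    rw [e]
    exact mul_mem (mul_mem hαα hk) hνν
  -- the group over the Weyl group
  set Nt := closure ((Ht : Set Γ) ∪ {α, β}) with hNt
  have hHtN : Ht ≤ Nt := fun x hx => subset_closure (Or.inl hx)
  have hαN : α ∈ Nt := subset_closure (Or.inr (Set.mem_insert _ _))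
  have hβN : β ∈ Nt := subset_closure (Or.inr (Set.mem_insert_of_mem _ rfl))
  have hnormal : ∀ g ∈ Nt, (∀ h ∈ Ht, g * h * g⁻¹ ∈ Ht) ∧ ∀ h ∈ Ht, g⁻¹ * h * g⁻¹⁻¹ ∈ Ht := by
    intro g hg
    induction hg using closure_induction with
    | mem g hg =>
      rcases hg with hg | rfl | rfl
      · exact ⟨fun h hh => mul_mem (mul_mem hg hh) (inv_mem hg),
          fun h hh => mul_mem (mul_mem (inv_mem hg) hh) (inv_mem (inv_mem hg))⟩
      · exact ⟨hαn, hαn'⟩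
      · exact ⟨hβn, hβn'⟩
    | one => exact ⟨fun h hh => by simpa using hh, fun h hh => by simpa using hh⟩
    | mul x y _ _ hx hy =>
      exact ⟨fun h hh => by simpa [mul_assoc] using hx.1 _ (hy.1 h hh),
        fun h hh => by simpa [mul_assoc] using hy.2 _ (hx.2 h hh)⟩
    | inv x _ hx => exact ⟨hx.2, fun h hh => by simpa using hx.1 h hh⟩
  have hform : ∀ g ∈ Nt, ∃ h ∈ Ht, ∃ i < 8, ∃ j : Bool, g = h * word α β i j := by
    haveI : (Ht.subgroupOf Nt).Normal := ⟨fun h hh g => (hnormal g g.2).1 h hh⟩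
    let π := QuotientGroup.mk' (Ht.subgroupOf Nt)
    set A := π ⟨α, hαN⟩ with hA
    set B := π ⟨β, hβN⟩ with hB
    have hone : ∀ (x : Γ) (hx : x ∈ Ht), π ⟨x, hHtN hx⟩ = 1 := fun x hx => (QuotientGroup.eq_one_iff _).2 hx
    have hA2 : A * A = 1 := by rw [hA, ← map_mul]; exact hone _ hαα
    have hB2 : B * B = 1 := by rw [hB, ← map_mul]; exact hone _ hββ
    have hD8 : (A * B) ^ (8 : ℕ) = 1 := by
      rw [hA, hB, ← map_mul, ← map_pow]; exact hone _ hd8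
    have hAD : A * (A * B) = (A * B)⁻¹ * A := by
      rw [mul_inv_rev, inv_eq_of_mul_eq_one_right hA2, inv_eq_of_mul_eq_one_right hB2, ← mul_assoc, hA2, one_mul,
        mul_assoc, hA2, mul_one]
    have hADi : ∀ i : ℤ, A * (A * B) ^ i = (A * B) ^ (-i) * A := by
      intro i
      have h : SemiconjBy A (A * B) (A * B)⁻¹ := hAD
      have h2 := h.zpow_right i
      rw [inv_zpow'] at h2
      exact h2
    have key : ∀ g (hg : g ∈ Nt), ∃ (i : ℤ) (j : Bool), π ⟨g, hg⟩ = (A * B) ^ i * (if j then A else 1) := by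
      intro g hg
      have stepA : ∀ x, (∃ (i : ℤ) (j : Bool), x = (A * B) ^ i * (if j then A else 1)) →
          ∃ (i : ℤ) (j : Bool), A * x = (A * B) ^ i * (if j then A else 1) := by
        rintro _ ⟨i, j, rfl⟩
        refine ⟨-i, !j, ?_⟩
        rw [← mul_assoc, hADi, mul_assoc]
        cases j <;> simp [hA2]
      have stepB : ∀ x, (∃ (i : ℤ) (j : Bool), x = (A * B) ^ i * (if j then A else 1)) →
          ∃ (i : ℤ) (j : Bool), B * x = (A * B) ^ i * (if j then A else 1) := by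
        rintro _ ⟨i, j, rfl⟩
        obtain ⟨k, l, e⟩ := stepA _ ⟨1 + i, j, rfl⟩
        refine ⟨k, l, ?_⟩
        rw [← e, zpow_add, zpow_one]
        have h' : ∀ y, B * y = A * (A * B * y) := fun y => by
          rw [← mul_assoc A, ← mul_assoc A A, hA2, one_mul]
        rw [h']
        simp only [mul_assoc]
      induction hg using closure_induction_left with
      | one => exact ⟨0, false, by rw [show (⟨(1 : Γ), _⟩ : Nt) = 1 from rfl, map_one]; simp⟩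
      | mul_left x hx y hy ih =>
        have hxN : x ∈ Nt := subset_closure hx
        rw [show (⟨x * y, _⟩ : Nt) = ⟨x, hxN⟩ * ⟨y, hy⟩ from rfl, map_mul]
        rcases hx with hx | rfl | rfl
        · rw [hone x hx, one_mul]; exact ih
        · exact stepA _ ih
        · exact stepB _ ih
      | inv_mul_cancel x hx y hy ih =>
        have hxN : x ∈ Nt := subset_closure hx
        rw [show (⟨x⁻¹ * y, _⟩ : Nt) = (⟨x, hxN⟩ : Nt)⁻¹ * ⟨y, hy⟩ from rfl, map_mul, map_inv]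
        rcases hx with hx | rfl | rfl
        · rw [hone x hx, inv_one, one_mul]; exact ih
        · show ∃ (i : ℤ) (j : Bool), A⁻¹ * _ = _
          rw [inv_eq_of_mul_eq_one_right hA2]; exact stepA _ ih
        · show ∃ (i : ℤ) (j : Bool), B⁻¹ * _ = _
          rw [inv_eq_of_mul_eq_one_right hB2]; exact stepB _ ih
    intro g hg
    obtain ⟨i, j, e⟩ := key g hg
    obtain ⟨k, hk, hik⟩ : ∃ k < 8, (A * B) ^ i = (A * B) ^ k := by
      refine ⟨(i % 8).toNat, by omega, ?_⟩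
      rw [← zpow_natCast (A * B) ((i % 8).toNat), Int.toNat_of_nonneg (Int.emod_nonneg i (by norm_num))]
      conv_lhs => rw [← Int.mul_ediv_add_emod i 8, zpow_add, zpow_mul]
      rw [show (A * B) ^ (8 : ℤ) = 1 by rw [zpow_ofNat]; exact hD8, one_zpow, one_mul]
    have hwN : word α β k j ∈ Nt := by
      refine mul_mem (pow_mem (mul_mem hαN hβN) k) ?_
      cases j
      exacts [one_mem _, hαN]
    refine ⟨g * (word α β k j)⁻¹, ?_, k, hk, j, (inv_mul_cancel_right g _).symm⟩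
    have h1 : π (⟨g, hg⟩ * (⟨word α β k j, hwN⟩ : Nt)⁻¹) = 1 := by
      rw [map_mul, map_inv, mul_inv_eq_one, e, hik]
      have : (⟨word α β k j, hwN⟩ : Nt) = (⟨α, hαN⟩ * ⟨β, hβN⟩) ^ k * (if j then ⟨α, hαN⟩ else 1) := by
        refine Subtype.ext ?_
        cases j <;> simp [word]
      rw [this, map_mul, map_pow, map_mul]
      cases j <;> simp [hA, hB]
    exact (QuotientGroup.eq_one_iff (N := Ht.subgroupOf Nt) _).1 h1
  have hσw : ∀ i j, σ (word α β i j) = word a b i j := by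
    intro i j
    simp only [word, map_mul, map_pow, hα, hβ]
    cases j <;> simp [hα]
  -- left multiplication by a representative
  have move : ∀ {L X : Subgroup G} {n : G} (R : Rank1 p U H L X n), StemBasic.KerFree σ L → ∀ (ν : Γ),
      ν ∈ Lt σ p L → σ ν = n → ν ∈ Nt → (Lt σ p L ⊓ H.comap σ ≤ Ht) →
      (∀ i < 8, ∀ j : Bool, (∀ x ∈ X, (word a b i j)⁻¹ * x * word a b i j ∈ U) ∨
        (∀ x ∈ X, (n * word a b i j)⁻¹ * x * (n * word a b i j) ∈ U)) →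
      ∀ u ∈ P, ∀ g ∈ Nt, ∃ u' ∈ P, ∃ g' ∈ Nt, ∃ v ∈ P, ν * (u * g) = u' * g' * v := by
    intro L X n R kL ν hν hνn hνN hle hd u hu g hg
    obtain ⟨x, hx, v, hv, hnv, he⟩ := R.split _ (hP u hu).2
    obtain ⟨x', hx', hxe⟩ := hPlift x (R.X_le hx)
    obtain ⟨v', hv', hve⟩ := hPlift v hv
    have hu' : u = v' * x' := mul_inv_eq_one.1 (hPinj _ (mul_mem hu (inv_mem (mul_mem hv' hx')))
      (by rw [map_mul, map_inv, map_mul, hve, hxe, ← he, mul_inv_cancel]))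
    have hvc : ν * v' * ν⁻¹ ∈ P := hPconj ν v' hv' (by rw [hνn, hve]; exact hnv)
    obtain ⟨h, hh, i, hi, j, rfl⟩ := hform g hg
    set w := word α β i j with hw
    have hcX : ∀ y ∈ X, (σ h)⁻¹ * y * σ h ∈ X := fun y hy => by
      simpa using R.HX _ (H.inv_mem (hHtH h hh)) y hy
    rcases hd i hi j with hd | hd
    · refine ⟨ν * v' * ν⁻¹, hvc, ν * (h * w), mul_mem hνN hg, (h * w)⁻¹ * x' * (h * w)⁻¹⁻¹, ?_, by
        rw [hu']; group⟩
      refine hPconj _ x' hx' ?_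
      rw [map_inv, map_mul, hσw, hxe]
      have := hd _ (hcX x hx)
      simpa [mul_assoc] using this
    · have hX' : x' ∈ Lt σ p L := subset_closure ⟨(hP x' hx').1, by rw [hxe]; exact R.X_le_L hx⟩
      have hgL : n * x * n⁻¹ ∈ L := L.mul_mem (L.mul_mem R.n_mem (R.X_le_L hx)) (L.inv_mem R.n_mem)
      have hliftX : ∀ y ∈ X, ∃ y' ∈ Lt σ p L, y' ∈ P ∧ σ y' = y := fun y hy => by
        obtain ⟨y', hy', hye⟩ := hPlift y (R.X_le hy)
        exact ⟨y', subset_closure ⟨(hP y' hy').1, by rw [hye]; exact R.X_le_L hy⟩, hy', hye⟩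
      have hνx : ν * x' * ν⁻¹ ∈ Lt σ p L := mul_mem (mul_mem hν hX') (inv_mem hν)
      have hsν : σ (ν * x' * ν⁻¹) = n * x * n⁻¹ := by rw [map_mul, map_mul, map_inv, hνn, hxe]
      rcases R.bruhat _ hgL with ⟨x1, hx1, h1, hh1, e⟩ | ⟨x1, hx1, h1, hh1, y, hy, e⟩
      · obtain ⟨x1', hx1L, hx1P, hx1e⟩ := hliftX x1 hx1
        obtain ⟨h1', hh1L, hh1e⟩ := Lt_surj hs hZ R D.pU hh1.2
        have heq : ν * x' * ν⁻¹ = x1' * h1' := mul_inv_eq_one.1 (Lt_inj hc hZ kL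
          (mul_mem hνx (inv_mem (mul_mem hx1L hh1L)))
          (by rw [map_mul, map_inv, hsν, e, map_mul, hx1e, hh1e, mul_inv_cancel]))
        refine ⟨ν * v' * ν⁻¹ * x1', mul_mem hvc hx1P, h1' * (ν * (h * w)), mul_mem
          (hHtN (hle ⟨hh1L, by show σ h1' ∈ H; rw [hh1e]; exact hh1.1⟩)) (mul_mem hνN hg), 1, one_mem _, ?_⟩
        rw [hu', show ν * (v' * x' * (h * w)) = ν * v' * ν⁻¹ * (ν * x' * ν⁻¹) * (ν * (h * w)) by group, heq]
        group
      · obtain ⟨x1', hx1L, hx1P, hx1e⟩ := hliftX x1 hx1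
        obtain ⟨y', hyL, hyP, hye⟩ := hliftX y hy
        obtain ⟨h1', hh1L, hh1e⟩ := Lt_surj hs hZ R D.pU hh1.2
        have heq : ν * x' * ν⁻¹ = x1' * h1' * ν * y' := mul_inv_eq_one.1 (Lt_inj hc hZ kL
          (mul_mem hνx (inv_mem (mul_mem (mul_mem (mul_mem hx1L hh1L) hν) hyL)))
          (by rw [map_mul, map_inv, hsν, e, map_mul, map_mul, map_mul, hx1e, hh1e, hνn, hye, mul_inv_cancel]))
        refine ⟨ν * v' * ν⁻¹ * x1', mul_mem hvc hx1P, h1' * ν * (ν * (h * w)), mul_mem (mul_mem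
          (hHtN (hle ⟨hh1L, by show σ h1' ∈ H; rw [hh1e]; exact hh1.1⟩)) hνN) (mul_mem hνN hg),
          (ν * (h * w))⁻¹ * y' * (ν * (h * w))⁻¹⁻¹, ?_, ?_⟩
        · refine hPconj _ y' hyP ?_
          rw [map_inv, map_mul, map_mul, hνn, hσw, hye]
          have hh2 : n * σ h * n⁻¹ ∈ H := R.nH _ (hHtH h hh)
          have h3 : (n * σ h * n⁻¹)⁻¹ * y * (n * σ h * n⁻¹)⁻¹⁻¹ ∈ X := R.HX _ (H.inv_mem hh2) y hy
          have := hd _ h3
          simpa [mul_assoc] using this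
        · rw [hu', show ν * (v' * x' * (h * w)) = ν * v' * ν⁻¹ * (ν * x' * ν⁻¹) * (ν * (h * w)) by group, heq]
          group
  have htop : closure ((P : Set Γ) ∪ {α, β}) = ⊤ := by
    set M := closure ((P : Set Γ) ∪ {α, β}) with hM
    have hmap : M.map σ = ⊤ := by
      rw [eq_top_iff, ← D.gen, closure_le]
      rintro x (hx | rfl | rfl)
      · obtain ⟨y, hy, rfl⟩ := hPlift x hx
        exact ⟨y, subset_closure (Or.inl hy), rfl⟩
      · exact ⟨α, subset_closure (Or.inr (Set.mem_insert _ _)), hα⟩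
      · exact ⟨β, subset_closure (Or.inr (Set.mem_insert_of_mem _ rfl)), hβ⟩
    rw [eq_top_iff, ← StemBasic.commutator_eq_top_of_stem hσ D.perfect, _root_.commutator_def,
      Subgroup.commutator_le]
    intro x _ y _
    obtain ⟨x', hx', hxe⟩ : σ x ∈ M.map σ := hmap ▸ mem_top _
    obtain ⟨y', hy', hye⟩ : σ y ∈ M.map σ := hmap ▸ mem_top _
    rw [StemPairing.bracket_congr hc hxe.symm hye.symm, commutatorElement_def]
    exact mul_mem (mul_mem (mul_mem hx' hy') (inv_mem hx')) (inv_mem hy')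
  have hHtP : ∀ h ∈ Ht, ∀ u ∈ P, h * u * h⁻¹ ∈ P := fun h hh u hu =>
    hPconj h u hu (D.HU _ (hHtH h hh) _ (hP u hu).2)
  have hall : ∀ z : Γ, ∃ u ∈ P, ∃ g ∈ Nt, ∃ v ∈ P, z = u * g * v := by
    intro z
    have hz : z ∈ closure ((P : Set Γ) ∪ {α, β}) := htop ▸ mem_top z
    induction hz using closure_induction_left with
    | one => exact ⟨1, one_mem _, 1, one_mem _, 1, one_mem _, by simp⟩
    | mul_left x hx y _ ih =>
      obtain ⟨u, hu, g, hg, v, hv, rfl⟩ := ih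
      rcases hx with hx | hx
      · exact ⟨x * u, mul_mem hx hu, g, hg, v, hv, by group⟩
      · obtain ⟨u', hu', g', hg', v', hv', e⟩ : ∃ u' ∈ P, ∃ g' ∈ Nt, ∃ v' ∈ P, x * (u * g) = u' * g' * v' := by
          rcases hx with rfl | rfl
          · exact move D.Ua ka _ hαT hα hαN hHa_le D.dichA u hu g hg
          · exact move D.Ub kb _ hβT hβ hβN hHb_le D.dichB u hu g hg
        exact ⟨u', hu', g', hg', v' * v, mul_mem hv' hv, by rw [← mul_assoc x, e]; group⟩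
    | inv_mul_cancel x hx y _ ih =>
      obtain ⟨u, hu, g, hg, v, hv, rfl⟩ := ih
      rcases hx with hx | hx
      · exact ⟨x⁻¹ * u, mul_mem (inv_mem hx) hu, g, hg, v, hv, by group⟩
      · have hxx : x * x ∈ Ht := by
          rcases hx with rfl | rfl
          exacts [hαα, hββ]
        obtain ⟨u', hu', g', hg', v', hv', e⟩ : ∃ u' ∈ P, ∃ g' ∈ Nt, ∃ v' ∈ P, x * (u * g) = u' * g' * v' := by
          rcases hx with rfl | rfl
          · exact move D.Ua ka _ hαT hα hαN hHa_le D.dichA u hu g hg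
          · exact move D.Ub kb _ hβT hβ hβN hHb_le D.dichB u hu g hg
        refine ⟨(x * x)⁻¹ * u' * (x * x)⁻¹⁻¹, hHtP _ (inv_mem hxx) u' hu', (x * x)⁻¹ * g',
          mul_mem (inv_mem (hHtN hxx)) hg', v' * v, mul_mem hv' hv, ?_⟩
        rw [show x⁻¹ * (u * g * v) = (x * x)⁻¹ * (x * (u * g)) * v by group, e]
        group
  rw [Subgroup.eq_bot_iff_forall]
  intro z hz
  rw [MonoidHom.mem_ker] at hz
  obtain ⟨u, hu, g, hg, v, hv, rfl⟩ := hall z
  obtain ⟨h, hh, i, hi, j, rfl⟩ := hform g hg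
  rw [map_mul, map_mul, map_mul, hσw] at hz
  have hw : word a b i j = (σ h)⁻¹ * ((σ u)⁻¹ * (σ v)⁻¹) := by
    calc word a b i j = (σ h)⁻¹ * ((σ u)⁻¹ * (σ u * (σ h * word a b i j) * σ v) * (σ v)⁻¹) := by group
      _ = _ := by rw [hz]; group
  by_cases hij : i ≠ 0 ∨ j = true
  · exact absurd hw (D.notHU i hi j hij _ (H.inv_mem (hHtH h hh)) _
      (U.mul_mem (U.inv_mem (hP u hu).2) (U.inv_mem (hP v hv).2)))
  · simp only [not_or, not_not, Bool.not_eq_true] at hij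
    obtain ⟨rfl, rfl⟩ := hij
    simp [word] at hw hz ⊢
    have hsh : σ h = (σ u)⁻¹ * (σ v)⁻¹ := by
      calc σ h = (σ u)⁻¹ * (σ u * σ h * σ v) * (σ v)⁻¹ := by group
        _ = _ := by rw [hz]; group
    have h1 := D.inter _ (hHtH h hh) (hsh ▸ U.mul_mem (U.inv_mem (hP u hu).2) (U.inv_mem (hP v hv).2))
    rw [hHtinj h hh h1, mul_one]
    refine hPinj _ (mul_mem hu hv) ?_
    rw [h1, mul_one] at hz
    rw [map_mul, hz]

end Cfsg.Agent.StemTwistBN16
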