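import Cfsg.Agent.Lib.F4SzEmbed9
import Cfsg.Agent.Lib.D4StemMain9
import Cfsg.Agent.Lib.StemTwistBN16
import Cfsg.Agent.Lib.TwistedF4Simple

/-!
The Schur multiplier of `²F₄(q)`, `q ≥ 8`, is trivial.
-/

set_option autoImplicit false
set_option linter.unusedSectionVars false
set_option linter.unusedVariables false
set_option linter.unusedSimpArgs false
set_option maxRecDepth 20000

namespace Cfsg.Agent.F4StemMain9

open Cfsg.Lie Cfsg.Agent Cfsg.Agent.ChevalleyCert Cfsg.Agent.ChevalleyCore Cfsg.Agent.ChevalleyRoots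
  Cfsg.Agent.ChevalleyTorus Cfsg.Agent.TwistedCore Cfsg.Agent.TwistedTools Cfsg.Agent.ChevWeyl Cfsg.Agent.ChevBruhat
  Cfsg.Agent.TwistedF4Classes Cfsg.Agent.TwistAutF4
open scoped commutatorElement MatrixGroups Matrix

variable {K : Type*} [Field K] [Fintype K] [CharP K 2] (m : ℕ)

/-! ### elements over the Weyl group -/

/-- `g` lies in `N` and maps to the element of a word -/
def HasW (g : GL chevF4.Idx K) (l : List (Fin chevF4.rank)) : Prop :=
  ∃ h : g ∈ chevF4.monomialSubgroup K, (tw m).S.toW ⟨g, h⟩ = (tw (K := K) m).wd l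

theorem HasW.mul {g g' : GL chevF4.Idx K} {l l' : List (Fin chevF4.rank)} (h : HasW m g l) (h' : HasW m g' l') :
    HasW m (g * g') (l ++ l') := by
  obtain ⟨a, e⟩ := h
  obtain ⟨b, e'⟩ := h'
  refine ⟨mul_mem a b, ?_⟩
  rw [show (⟨g * g', mul_mem a b⟩ : ↥(chevF4.monomialSubgroup K)) = ⟨g, a⟩ * ⟨g', b⟩ from rfl, map_mul, e, e',
    (tw (K := K) m).wd_append]

theorem HasW.one : HasW m (1 : GL chevF4.Idx K) [] :=
  ⟨one_mem _, by rw [show (⟨1, one_mem _⟩ : ↥(chevF4.monomialSubgroup K)) = 1 from rfl, map_one]; rfl⟩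

theorem refl_refl : ∀ i : Fin chevF4.rank, ∀ r < chevF4.nroots,
    Twist.wact' chevF4 [i] (Twist.wact' chevF4 [i] r) = r := by decide +kernel

theorem wd_reverse_mul : ∀ l : List (Fin chevF4.rank), (tw (K := K) m).wd l.reverse * (tw m).wd l = 1 := by
  intro l
  induction l with
  | nil => show (tw (K := K) m).wd [] * (tw m).wd [] = 1; simp [Twist.wd]
  | cons i l ih =>
    rw [List.reverse_cons, (tw (K := K) m).wd_append, show i :: l = [i] ++ l from rfl, (tw (K := K) m).wd_append,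
      mul_assoc, ← mul_assoc ((tw (K := K) m).wd [i]),
      show (tw (K := K) m).wd [i] * (tw m).wd [i] = 1 from (tw (K := K) m).wd_mul_self fun r hr => refl_refl i r hr,
      one_mul, ih]

theorem HasW.inv {g : GL chevF4.Idx K} {l : List (Fin chevF4.rank)} (h : HasW m g l) :
    HasW m g⁻¹ l.reverse := by
  obtain ⟨a, e⟩ := h
  refine ⟨inv_mem a, ?_⟩
  rw [show (⟨g⁻¹, inv_mem a⟩ : ↥(chevF4.monomialSubgroup K)) = (⟨g, a⟩ : ↥(chevF4.monomialSubgroup K))⁻¹ from rfl,
    map_inv, e, inv_eq_iff_mul_eq_one]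
  exact mul_eq_one_comm.1 (wd_reverse_mul m l)

theorem HasW.pow {g : GL chevF4.Idx K} {l : List (Fin chevF4.rank)} (h : HasW m g l) :
    ∀ i : ℕ, HasW m (g ^ i) (List.replicate i l).flatten := by
  intro i
  induction i with
  | zero => simpa using HasW.one m
  | succ i ih =>
    rw [pow_succ', List.replicate_succ, List.flatten_cons]
    exact h.mul m ih

theorem HasW.conj {g : GL chevF4.Idx K} {l : List (Fin chevF4.rank)} (h : HasW m g l) {r : ℕ} (hr : r < 48)
    (t : K) : ∃ u : K, g * xg cf r t * g⁻¹ = xg cf (Twist.wact' chevF4 l r) u := by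
  obtain ⟨a, e⟩ := h
  obtain ⟨c, -, h1, -⟩ := (tw (K := K) m).S.acts_toW ⟨g, a⟩ r hr
  refine ⟨c * t, ?_⟩
  have := h1 t
  rw [e, (tw (K := K) m).img_wd l hr] at this
  exact this

theorem HasW.mem_H {g : GL chevF4.Idx K} {l : List (Fin chevF4.rank)} (h : HasW m g l)
    (hl : ∀ r < chevF4.nroots, Twist.wact' chevF4 l r = r) : g ∈ chevF4.diagonalSubgroup K := by
  obtain ⟨a, e⟩ := h
  have h1 : (tw (K := K) m).S.toW ⟨g, a⟩ = (tw m).S.toW 1 := by
    rw [e, map_one]
    exact (tw (K := K) m).eq_of_img fun r hr => by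
      rw [(tw (K := K) m).img_wd l hr, (tw (K := K) m).X.img_one, hl r hr]
  have := (tw (K := K) m).S.toW_eq_iff.1 h1.symm
  simpa using this

theorem HasW.fixed_of_B {g h u : GL chevF4.Idx K} {l : List (Fin chevF4.rank)} (hg : HasW m g l)
    (hh : h ∈ chevF4.diagonalSubgroup K) (hu : u ∈ chevF4.posUnipotent K) (e : g = h * u) :
    ∀ r < chevF4.nroots, Twist.wact' chevF4 l r = r := by
  obtain ⟨a, ew⟩ := hg
  intro r hr
  have h1 := (tw (K := K) m).S.toW_unique (n := ⟨g, a⟩) (n' := 1) (b := 1) (b' := h) (u := 1) (u' := u)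
    (one_mem _) (Sys.H_le_B hh) (one_mem _) (Sys.U_le_B hu) (by simpa using e)
  rw [map_one, ew] at h1
  rw [← (tw (K := K) m).img_wd l hr, h1, (tw (K := K) m).X.img_one]

/-- a positive root -/
def pos (r : ℕ) : Bool := decide (24 ≤ r) && decide (r < 48)

/-- the words of the sixteen elements -/
def wl (i : ℕ) (j : Bool) : List (Fin chevF4.rank) :=
  (List.replicate i (clF false ++ clF true)).flatten ++ (if j then clF false else [])

/-- a word moves some root -/
def movesOk (i : ℕ) (j : Bool) : Bool :=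
  (i == 0 && !j) || (List.range 48).any fun r => decide (Twist.wact' chevF4 (wl i j) r ≠ r)

/-- the dichotomy of a word and a class -/
def dichOk (c : Bool) (i : ℕ) (j : Bool) : Bool :=
  ((lstF c).all fun r => pos (Twist.wact' chevF4 (wl i j).reverse r)) ||
    ((lstF c).all fun r => pos (Twist.wact' chevF4 (clF c ++ wl i j).reverse r))

theorem words_ok : ∀ i < 8, ∀ j : Bool, movesOk i j = true ∧ ∀ c : Bool, dichOk c i j = true := by
  decide +kernel

/-- the word `bababab` -/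
def vl : List (Fin chevF4.rank) :=
  clF true ++ clF false ++ clF true ++ clF false ++ clF true ++ clF false ++ clF true

theorem vl_lst : ∀ r ∈ lstF false, Twist.wact' chevF4 vl r ∈ lstF false := by decide +kernel

theorem vl_comm : ∀ r < chevF4.nroots,
    Twist.wact' chevF4 ((clF false).reverse ++ (vl ++ clF false ++ vl.reverse)) r = r := by decide +kernel

theorem sq_word : ∀ J : Bool, ∀ r < chevF4.nroots, Twist.wact' chevF4 (clF J ++ clF J) r = r := by decide +kernel

variable (hK : Fintype.card K = 2 ^ (2 * m + 1))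

local notation "ε" => (2 ^ m : ℕ)
local notation "U¹" => TwistAutRigid.U1 (twistedF4 K ε)
local notation "H¹" => F4SzEmbed9.H1 K m

include hK in
theorem hasW_cG (J : Bool) :
    HasW m ((TwistAutRigid.cG (classes m hK) J : ↥(twistedF4 K ε)) : GL chevF4.Idx K) (clF J) :=
  cnF_toW m J

include hK in
/-- the roots of a root group -/
theorem XJ_roots (J : Bool) {x : ↥(twistedF4 K ε)} (hx : x ∈ TwistAutRigid.XJ (classes m hK) J) :
    (x : GL chevF4.Idx K) ∈ Subgroup.closure {y | ∃ r t, r ∈ lstF J ∧ y = xg cf r t} := by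
  rcases J with _ | _
  · obtain ⟨t, rfl⟩ := (mem_XJ_false m hK).1 hx
    rw [coe_pPhi, pairPhi_upper]
    exact mul_mem (Subgroup.subset_closure ⟨f4p1, _, by simp [lstF], rfl⟩)
      (Subgroup.subset_closure ⟨f4p4, _, by simp [lstF], rfl⟩)
  · obtain ⟨t, u, rfl⟩ := (mem_XJ_true m hK).1 hx
    exact mul_mem (mul_mem (mul_mem (Subgroup.subset_closure ⟨f4a, _, by simp [lstF], rfl⟩)
      (Subgroup.subset_closure ⟨f4b, _, by simp [lstF], rfl⟩))
      (Subgroup.subset_closure ⟨f4ab, _, by simp [lstF], rfl⟩))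
      (Subgroup.subset_closure ⟨f4aab, _, by simp [lstF], rfl⟩)

include hK in
/-- elements mapping the roots of a class to those of a class -/
theorem conj_XJ {J J' : Bool} {g : ↥(twistedF4 K ε)}
    (hg : ∀ r ∈ lstF J, ∀ t : K, ∃ r' ∈ lstF J', ∃ u : K,
      (g : GL chevF4.Idx K) * xg cf r t * (g : GL chevF4.Idx K)⁻¹ = xg cf r' u)
    {x : ↥(twistedF4 K ε)} (hx : x ∈ TwistAutRigid.XJ (classes m hK) J) :
    g * x * g⁻¹ ∈ TwistAutRigid.XJ (classes m hK) J' := by
  have key : ∀ y ∈ Subgroup.closure {y | ∃ r t, r ∈ lstF J ∧ y = xg cf r t},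
      (g : GL chevF4.Idx K) * y * (g : GL chevF4.Idx K)⁻¹ ∈ (tw (K := K) m).S.Uw ((tw m).wd (clF J')) := by
    intro y hy
    induction hy using Subgroup.closure_induction with
    | mem z hz =>
      obtain ⟨r, t, hr, rfl⟩ := hz
      obtain ⟨r', hr', u, e⟩ := hg r hr t
      rw [e]; exact xg_mem_Uw m J' hr' u
    | one => simp
    | mul a b _ _ ha hb => simpa [mul_assoc] using mul_mem ha hb
    | inv a _ ha => simpa [mul_assoc] using inv_mem ha
  exact ⟨key _ (XJ_roots m hK J hx), le_fixed m hK (g * x * g⁻¹).2⟩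

include hK in
/-- the torus normalises the root groups -/
theorem conj_H_XJ (J : Bool) {h x : ↥(twistedF4 K ε)} (hh : h ∈ H¹) (hx : x ∈ TwistAutRigid.XJ (classes m hK) J) :
    h * x * h⁻¹ ∈ TwistAutRigid.XJ (classes m hK) J := by
  obtain ⟨c, hc⟩ := (mem_H_iff cf).1 (show (h : GL chevF4.Idx K) ∈ chevF4.diagonalSubgroup K from hh)
  refine conj_XJ m hK (fun r hr t => ⟨r, hr, (tchar chevF4 c r : K) * t, ?_⟩) hx
  rw [← hc]
  exact torus_conj_xg cf (lstF_lt J r hr) c t

include hK in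
/-- roots going to positive roots -/
theorem conj_U {g : GL chevF4.Idx K} {l : List (Fin chevF4.rank)} (h : HasW m g l) {J : Bool}
    (hP : ∀ r ∈ lstF J, pos (Twist.wact' chevF4 l r) = true) {x : ↥(twistedF4 K ε)}
    (hx : x ∈ TwistAutRigid.XJ (classes m hK) J) :
    g * (x : GL chevF4.Idx K) * g⁻¹ ∈ chevF4.posUnipotent K := by
  have hx' := XJ_roots m hK J hx
  generalize (x : GL chevF4.Idx K) = y at hx'
  induction hx' using Subgroup.closure_induction with
  | mem z hz =>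
    obtain ⟨r, t, hr, rfl⟩ := hz
    obtain ⟨u, hu⟩ := h.conj m (lstF_lt J r hr) t
    have := hP r hr
    simp only [pos, Bool.and_eq_true, decide_eq_true_eq] at this
    rw [hu]
    exact ChevalleyUnipotent.xg_mem_U cf this.1 this.2 _
  | one => simp
  | mul a b _ _ ha hb => simpa [mul_assoc] using mul_mem ha hb
  | inv a _ ha => simpa [mul_assoc] using inv_mem ha

include hK in
theorem conj_H1 {g : ↥(twistedF4 K ε)} {l : List (Fin chevF4.rank)} (hg : HasW m (g : GL chevF4.Idx K) l)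
    {h : ↥(twistedF4 K ε)} (hh : h ∈ H¹) : g * h * g⁻¹ ∈ H¹ := by
  obtain ⟨a, -⟩ := hg
  exact (tw (K := K) m).S.conj_H ((tw (K := K) m).S.acts_toW ⟨(g : GL chevF4.Idx K), a⟩) hh

include hK in
theorem HU_U {h u : ↥(twistedF4 K ε)} (hh : h ∈ H¹) (hu : u ∈ U¹) : h * u * h⁻¹ ∈ U¹ :=
  Subgroup.mem_normalizer_iff.1 ((tw (K := K) m).S.H_le_normalizer hh) _ |>.1 hu

include hK in
theorem inter_U {g : ↥(twistedF4 K ε)} (hg : g ∈ H¹) (hu : g ∈ U¹) : g = 1 :=
  Subtype.ext (Subgroup.mem_bot.1 ((tw (K := K) m).S.U_inf_H.le (Subgroup.mem_inf.2 ⟨hu, hg⟩)))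

theorem split_gen {D : ChevalleyDatum} {C : Cert D} {F : Type*} [Field F] [Fintype F] {T : Twist C F}
    {G1 : Subgroup (GL D.Idx F)} (K' : Classes T G1) (J : K'.κ) {u : ↥G1} (hu : u ∈ TwistAutRigid.U1 G1) :
    ∃ x ∈ TwistAutRigid.XJ K' J, ∃ v ∈ TwistAutRigid.U1 G1,
      TwistAutRigid.cG K' J * v * (TwistAutRigid.cG K' J)⁻¹ ∈ TwistAutRigid.U1 G1 ∧ u = v * x := by
  obtain ⟨w0, hw0, hneg, hU⟩ := T.exists_w0_fix
  obtain ⟨f, hf, hfe⟩ := K'.split hw0 (J := J) fun r hr => by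
    rw [T.X.mem_invSet] at hr ⊢
    exact ⟨hr.1, hneg r hr.1⟩
  have hu' : (u : GL D.Idx F) ∈ T.UF w0 := ⟨hU ▸ hu, K'.G1_le u.2⟩
  obtain ⟨p, hp⟩ := hf.surjective ⟨_, hu'⟩
  have e := congrArg Subtype.val hp
  rw [hfe] at e
  have hp1 : (p.1 : GL D.Idx F) ∈ G1 := K'.UF_le (mul_mem hw0 (K'.cw_fix J)) p.1.2
  let x : ↥G1 := ⟨p.2, K'.UJ_le J p.2.2⟩
  let q : ↥G1 := ⟨p.1, hp1⟩
  set n := TwistAutRigid.cG K' J with hn
  have hx : x ∈ TwistAutRigid.XJ K' J := p.2.2
  have e' : u = n⁻¹ * q * n * x := Subtype.ext e.symm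
  refine ⟨x, hx, u * x⁻¹, mul_mem hu (inv_mem (TwistAutRigid.XJ_le _ J hx)), ?_, (inv_mul_cancel_right u x).symm⟩
  have hq : q ∈ TwistAutRigid.U1 G1 := T.S.Uw_le_U _ p.1.2.1
  rwa [e', show n * (n⁻¹ * q * n * x * x⁻¹) * n⁻¹ = q by group]

include hK in
/-- `U = V X` along a class -/
theorem split_XJ (J : Bool) {u : ↥(twistedF4 K ε)} (hu : u ∈ U¹) :
    ∃ x ∈ TwistAutRigid.XJ (classes m hK) J, ∃ v ∈ U¹,
      TwistAutRigid.cG (classes m hK) J * v * (TwistAutRigid.cG (classes m hK) J)⁻¹ ∈ U¹ ∧ u = v * x :=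
  split_gen (classes m hK) J hu

/-! ### the two classes -/

include hK in
theorem pPhi_dd (t : Kˣ) : pPhi m (D4StemMain9.dd (t : K)) = TwistAutF4.tor m hK t 1 := pPhi_torus m hK t

include hK in
theorem cls_A : D4StemMain9.Cls U¹ H¹ (TwistAutRigid.XJ (classes m hK) false) (pPhi (K := K) m) where
  memX y := mem_XJ_false m hK
  X_le := TwistAutRigid.XJ_le _ _
  upper_one t h := (pPair m hK).upper_eq_one t h
  dd_H t ht := by
    rw [show t = ((Units.mk0 t ht : Kˣ) : K) from rfl, pPhi_dd m hK]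
    exact torus_mem_H cf _
  dd_one t ht h := by
    have h1 := pPhi_dd m hK (Units.mk0 t ht)
    rw [show ((Units.mk0 t ht : Kˣ) : K) = t from rfl, h] at h1
    have h2 := congrFun (torus_inj (congrArg Subtype.val h1).symm) (nd 3)
    simpa [tp] using congrArg Units.val h2
  HU h hh u hu := HU_U m hK hh hu
  inter g hg hu := inter_U m hK hg hu
  notHU h hh u hu e := by
    have hw := hasW_cG m hK false
    rw [TwistAutF4.cG_false m hK] at hw
    have := hw.fixed_of_B m hh hu (congrArg Subtype.val e)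
    revert this
    decide +kernel

theorem cG_true : TwistAutRigid.cG (classes m hK) true = F4SzEmbed9.nb (K := K) m := Subtype.ext rfl

include hK in
theorem Lb_gen : F4SzEmbed9.Lb (K := K) m = Subgroup.closure
    ((TwistAutRigid.XJ (classes m hK) true : Set ↥(twistedF4 K ε)) ∪
      {g | ∃ x ∈ TwistAutRigid.XJ (classes m hK) true, g = TwistAutRigid.cG (classes m hK) true * x *
        (TwistAutRigid.cG (classes m hK) true)⁻¹}) := by
  rw [cG_true m hK]
  refine congrArg Subgroup.closure (Set.ext fun g => ?_)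
  constructor
  · rintro (⟨t, u, rfl⟩ | ⟨t, u, rfl⟩)
    · exact Or.inl ((mem_XJ_true m hK).2 ⟨t, u, rfl⟩)
    · exact Or.inr ⟨_, (mem_XJ_true m hK).2 ⟨t, u, rfl⟩, rfl⟩
  · rintro (h | ⟨x, hx, rfl⟩)
    · exact Or.inl ((mem_XJ_true m hK).1 h)
    · obtain ⟨t, u, rfl⟩ := (mem_XJ_true m hK).1 hx
      exact Or.inr ⟨t, u, rfl⟩

include hK in
theorem gen_top (hm : 1 ≤ m) : Subgroup.closure ((U¹ : Set ↥(twistedF4 K ε)) ∪
    {TwistAutRigid.cG (classes m hK) false, TwistAutRigid.cG (classes m hK) true}) = ⊤ := by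
  set M := Subgroup.closure ((U¹ : Set ↥(twistedF4 K ε)) ∪
    {TwistAutRigid.cG (classes m hK) false, TwistAutRigid.cG (classes m hK) true}) with hM
  have ha : TwistAutRigid.cG (classes m hK) false ∈ M := Subgroup.subset_closure (Or.inr (Set.mem_insert _ _))
  have hb : TwistAutRigid.cG (classes m hK) true ∈ M :=
    Subgroup.subset_closure (Or.inr (Set.mem_insert_of_mem _ rfl))
  have hX : ∀ J, ∀ x ∈ TwistAutRigid.XJ (classes m hK) J, x ∈ M := fun J x hx =>
    Subgroup.subset_closure (Or.inl (TwistAutRigid.XJ_le _ J hx))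
  have key : twistedF4 K ε ≤ M.map (twistedF4 K ε).subtype := by
    unfold twistedF4
    refine gen_le cf ?_
    rintro w (⟨t, rfl | rfl⟩ | ⟨t, u, rfl | rfl⟩)
    · refine ⟨_, hX false _ ((mem_XJ_false m hK).2 ⟨t, rfl⟩), ?_⟩
      show pairPhi m _ = _
      rw [pairPhi_upper, (gens m t t).1]
    · obtain ⟨x, hx, e⟩ := (mem_YJ_false m hK).2 ⟨t, rfl⟩
      refine ⟨_, mul_mem (mul_mem ha (hX false x hx)) (inv_mem ha), ?_⟩
      show ((TwistAutRigid.cG (classes m hK) false * x * (TwistAutRigid.cG (classes m hK) false)⁻¹ :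
        ↥(twistedF4 K ε)) : GL chevF4.Idx K) = _
      rw [show TwistAutRigid.cG (classes m hK) false * x * (TwistAutRigid.cG (classes m hK) false)⁻¹ =
        pPhi m (ChevalleySL2.lower t) from e, coe_pPhi, pairPhi_lower, (gens m t t).2.1]
    · exact ⟨_, hX true _ ((mem_XJ_true m hK).2 ⟨t, u, rfl⟩), ((gens m t u).2.2.1).symm⟩
    · refine ⟨_, mul_mem (mul_mem hb (hX true _ ((mem_XJ_true m hK).2 ⟨t, u, rfl⟩))) (inv_mem hb), ?_⟩
      exact (conj_cn_bw m t u).trans ((gens m t u).2.2.2).symm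
  rw [eq_top_iff]
  intro g _
  obtain ⟨y, hy, he⟩ := key g.2
  rwa [← show y = g from Subtype.ext he]

/-- a gram identity on the restriction -/
theorem gram_Lb (hm : 1 ≤ m) {g : ↥(twistedF4 K ε)} (hg : g ∈ F4SzEmbed9.Lb (K := K) m)
    (hK : Fintype.card K = 2 ^ (2 * m + 1)) :
    (F4SzEmbed9.res (g : GL chevF4.Idx K))ᵀ * suzukiForm K * F4SzEmbed9.res (g : GL chevF4.Idx K) = suzukiForm K := by
  haveI := SuzukiGroupBasic.Param.mk' (F := K) hm hK
  have h := F4SzEmbed9.psi_mem_Sz m hK hm ⟨g, hg⟩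
  rw [← F4SzEmbed9.psi_val m hK hm ⟨g, hg⟩]
  generalize F4SzEmbed9.psi m hK hm ⟨g, hg⟩ = M at h ⊢
  induction h using Subgroup.closure_induction with
  | mem x hx => exact SuzukiGroupLie.gram_gen (SuzukiGroupLie.mem_gen_iff.1 hx)
  | one => simp
  | mul a b _ _ ha hb =>
    rw [Units.val_mul, Matrix.transpose_mul]
    calc _ = ((b : GL (Fin 4) K) : Matrix (Fin 4) (Fin 4) K)ᵀ *
          (((a : GL (Fin 4) K) : Matrix (Fin 4) (Fin 4) K)ᵀ * suzukiForm K * (a : Matrix (Fin 4) (Fin 4) K)) *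
          (b : Matrix (Fin 4) (Fin 4) K) := by simp only [Matrix.mul_assoc]
      _ = _ := by rw [ha, hb]
  | inv a _ ha =>
    set A := ((a : GL (Fin 4) K) : Matrix (Fin 4) (Fin 4) K)
    set B := ((a⁻¹ : GL (Fin 4) K) : Matrix (Fin 4) (Fin 4) K)
    have hAB : A * B = 1 := a.mul_inv
    calc Bᵀ * suzukiForm K * B = Bᵀ * (Aᵀ * suzukiForm K * A) * B := by rw [ha]
      _ = (A * B)ᵀ * suzukiForm K * (A * B) := by simp only [Matrix.transpose_mul, Matrix.mul_assoc]
      _ = _ := by rw [hAB, Matrix.transpose_one, one_mul, mul_one]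

include hK in
theorem HLL (hm : 1 ≤ m) {g : ↥(twistedF4 K ε)} (hg : g ∈ H¹) (hA : g ∈ (pPhi (K := K) m).range)
    (hB : g ∈ F4SzEmbed9.Lb (K := K) m) : g = 1 := by
  obtain ⟨gA, rfl⟩ := hA
  obtain ⟨t, ht, rfl⟩ := (cls_A m hK).mem_H hg
  rw [show t = ((Units.mk0 t ht : Kˣ) : K) from rfl, pPhi_dd m hK] at hB ⊢
  set s := Units.mk0 t ht
  have hG := gram_Lb m hm hB hK
  rw [show ((TwistAutF4.tor m hK s 1 : ↥(twistedF4 K ε)) : GL chevF4.Idx K) = torus chevF4 (tp m s 1) from rfl,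
    F4SzEmbed9.res_torus, Matrix.diagonal_transpose] at hG
  have h12 := congrFun (congrFun hG 1) 2
  simp [Matrix.mul_apply, Fin.sum_univ_four, suzukiForm, Matrix.diagonal_apply, F4SzEmbed9.rt] at h12
  rw [← Units.val_mul, Units.val_eq_one, tchar_aux, tchar_aux] at h12
  obtain ⟨e34, e35⟩ := (by decide +kernel : ([chevF4.cartan 0 34, chevF4.cartan 1 34, chevF4.cartan 2 34,
    chevF4.cartan 3 34] = [1, 1, -1, 0]) ∧ ([chevF4.cartan 0 35, chevF4.cartan 1 35, chevF4.cartan 2 35,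
    chevF4.cartan 3 35] = [1, -1, 1, -1]))
  simp only [List.cons.injEq, and_true] at e34 e35
  simp only [tp, List.getD_cons_zero, List.getD_cons_succ, e34, e35, zpow_zero, zpow_one, zpow_neg_one,
    one_pow, inv_one, mul_one] at h12
  have h2 : s ^ (ε * 2) = s := by
    rw [pow_mul, pow_two]
    calc s ^ ε * s ^ ε = s ^ ε * s⁻¹ * s ^ ε * s := by rw [mul_right_comm (s ^ ε) s⁻¹, inv_mul_cancel_right]
      _ = _ := by rw [h12, one_mul]
  have h3 : s ^ ε = s := by
    conv_rhs => rw [← (units_twist m hK s).2]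
    rw [h2]
  have h4 : s = 1 := by
    rw [pow_mul, h3, pow_two] at h2
    exact mul_left_eq_self₀' h2
  refine Subtype.ext ?_
  show torus chevF4 (tp m s 1) = 1
  rw [h4, show tp m (1 : Kˣ) 1 = 1 by
    funext i
    have hi : i = nd 0 ∨ i = nd 1 ∨ i = nd 2 ∨ i = nd 3 := by revert i; decide
    rcases hi with rfl | rfl | rfl | rfl <;> simp [tp], map_one]
where
  mul_left_eq_self₀' {s : Kˣ} (h : s * s = s) : s = 1 := left_eq_mul.1 h.symm

set_option maxHeartbeats 1600000 in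
include hK in
theorem rank2 (hm : 1 ≤ m) :
    StemTwistBN16.Rank2 2 U¹ H¹ (pPhi (K := K) m).range (F4SzEmbed9.Lb (K := K) m)
      (TwistAutRigid.XJ (classes m hK) false) (TwistAutRigid.XJ (classes m hK) true)
      (TwistAutRigid.cG (classes m hK) false) (TwistAutRigid.cG (classes m hK) true) := by
  have cA := cls_A m hK
  have wA := hasW_cG m hK false
  have wB := hasW_cG m hK true
  set a := TwistAutRigid.cG (classes m hK) false with ha
  set b := TwistAutRigid.cG (classes m hK) true with hb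
  have hsq : ∀ J : Bool, TwistAutRigid.cG (classes m hK) J * TwistAutRigid.cG (classes m hK) J ∈ H¹ :=
    fun J => ((hasW_cG m hK J).mul m (hasW_cG m hK J)).mem_H m (sq_word J)
  have hwl : ∀ i j, HasW m ((StemTwistBN9.word a b i j : ↥(twistedF4 K ε)) : GL chevF4.Idx K) (wl i j) := by
    intro i j
    unfold StemTwistBN9.word wl
    rw [Subgroup.coe_mul, Subgroup.coe_pow, Subgroup.coe_mul]
    refine ((wA.mul m wB).pow m i).mul m ?_
    cases j
    · simpa using HasW.one m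
    · simpa using wA
  have dich : ∀ J : Bool, ∀ i < 8, ∀ j : Bool,
      (∀ x ∈ TwistAutRigid.XJ (classes m hK) J,
        (StemTwistBN9.word a b i j)⁻¹ * x * StemTwistBN9.word a b i j ∈ U¹) ∨
      (∀ x ∈ TwistAutRigid.XJ (classes m hK) J, (TwistAutRigid.cG (classes m hK) J * StemTwistBN9.word a b i j)⁻¹ *
        x * (TwistAutRigid.cG (classes m hK) J * StemTwistBN9.word a b i j) ∈ U¹) := by
    intro J i hi j
    have h := (words_ok i hi j).2 J
    simp only [dichOk, Bool.or_eq_true, List.all_eq_true] at h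
    rcases h with h | h
    · left
      intro x hx
      have := conj_U m hK ((hwl i j).inv m) h hx
      rw [TwistAutRigid.U1, Subgroup.mem_subgroupOf]
      simpa [Subgroup.coe_mul, Subgroup.coe_inv, mul_assoc] using this
    · right
      intro x hx
      have := conj_U m hK (((hasW_cG m hK J).mul m (hwl i j)).inv m) h hx
      rw [TwistAutRigid.U1, Subgroup.mem_subgroupOf]
      simpa [Subgroup.coe_mul, Subgroup.coe_inv, mul_assoc] using this
  have hv := (((((wB.mul m wA).mul m wB).mul m wA).mul m wB).mul m wA).mul m wB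
  refine
    { perfect := TwistedF4Classes.perfect m hK hm
      pU := ?_
      gen := gen_top m hK hm
      HU := fun h hh u hu => HU_U m hK hh hu
      inter := fun g hg hu => inter_U m hK hg hu
      HLL := fun g hg h1 h2 => HLL m hK hm hg h1 h2
      notHU := ?_
      dichA := dich false
      dichB := dich true
      vX := ?_
      vA := ?_
      Ua := ⟨?_, cA.X_le, ?_, fun h hh => conj_H1 m hK wA hh, ?_, hsq false, fun h hh x hx => conj_H_XJ m hK false hh hx,
        fun u hu => split_XJ m hK false hu, ?_⟩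
      Ub := ⟨?_, TwistAutRigid.XJ_le _ _, Lb_gen m hK, fun h hh => conj_H1 m hK wB hh, ?_, hsq true,
        fun h hh x hx => conj_H_XJ m hK true hh hx, fun u hu => split_XJ m hK true hu, ?_⟩ }
  -- the class `a`
  · rw [ha, TwistAutF4.cG_false m hK]; exact ⟨_, rfl⟩
  · rw [ha, TwistAutF4.cG_false m hK]; exact cA.gen
  · intro h hh
    simpa using conj_H1 m hK (g := a⁻¹) (wA.inv m) hh
  · intro g hg
    rw [ha, TwistAutF4.cG_false m hK]; exact cA.bruhat hg
  -- the class `b`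
  · rw [hb, cG_true m hK]; exact F4SzEmbed9.bruhat.nb_mem_Lb m hK hm
  · intro h hh
    simpa using conj_H1 m hK (g := b⁻¹) (wB.inv m) hh
  · intro g hg
    rw [hb, cG_true m hK]
    rcases F4SzEmbed9.bruhat m hK hm hg with ⟨t, u, h, hh, e⟩ | ⟨t, u, h, hh, c, d, e⟩
    · exact Or.inl ⟨_, (mem_XJ_true m hK).2 ⟨t, u, rfl⟩, h, hh, e⟩
    · exact Or.inr ⟨_, (mem_XJ_true m hK).2 ⟨t, u, rfl⟩, h, hh, _, (mem_XJ_true m hK).2 ⟨c, d, rfl⟩, e⟩
  -- the group
  · obtain ⟨P, hP⟩ := TwistAutRigid.exists_sylow (classes m hK) 2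
    intro u hu
    rw [← hP] at hu
    obtain ⟨k, hk⟩ := P.isPGroup' ⟨u, hu⟩
    exact ⟨k, by simpa using congrArg Subtype.val hk⟩
  · intro i hi j hij h hh u hu e
    have hfix := (hwl i j).fixed_of_B m hh hu (congrArg Subtype.val e)
    have h := (words_ok i hi j).1
    simp only [movesOk, Bool.or_eq_true, Bool.and_eq_true, beq_iff_eq, Bool.not_eq_true', List.any_eq_true,
      List.mem_range, decide_eq_true_eq] at h
    rcases h with ⟨rfl, rfl⟩ | ⟨r, hr, hne⟩
    · simp at hij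
    · exact hne (hfix r hr)
  · intro x hx
    refine conj_XJ m hK (fun r hr t => ?_) hx
    obtain ⟨u, hu⟩ := hv.conj m (lstF_lt false r hr) t
    exact ⟨_, vl_lst r hr, u, hu⟩
  · have h := (wA.inv m).mul m ((hv.mul m wA).mul m (hv.inv m))
    exact h.mem_H m vl_comm

include hK in
theorem ker_eq_bot (hm : 1 ≤ m) {Γ : Type*} [Group Γ] [Finite Γ] {σ : Γ →* ↥(twistedF4 K ε)}
    (hσ : Cfsg.IsStemExtension σ) : σ.ker = ⊥ := by
  have hU : StemBasic.KerFree σ U¹ := by
    rw [← F4Levels9.N_zero m]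
    exact F4StemU9.kerFree_U m hK hσ.1 hσ.2.1 hm
  obtain ⟨P, hP⟩ := TwistAutRigid.exists_sylow (classes m hK) 2
  have hidx : ¬ 2 ∣ (TwistAutRigid.U1 (twistedF4 K ε)).index := hP ▸ P.not_dvd_index
  have hZ : Nat.Coprime (Nat.card σ.ker) 2 := by
    rw [Nat.coprime_comm, Nat.prime_two.coprime_iff_not_dvd]
    intro hd
    obtain ⟨⟨z, hz⟩, ho⟩ := exists_prime_orderOf_dvd_card' 2 hd
    rw [← Subgroup.orderOf_coe] at ho
    have h1 := StemBasic.eq_one_of_kerFree hσ hU hz (by rw [ho]; exact Nat.prime_two.coprime_iff_not_dvd.2 hidx)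
    simp only at h1 ho
    rw [h1, orderOf_one] at ho
    omega
  exact StemTwistBN16.ker_eq_bot (rank2 m hK hm) hσ hZ
    (StemSL2Kill9.kerFree_range 2 hσ.1 hσ.2.1 hZ (cls_A m hK).injective)
    (F4SzEmbed9.kerFree_Lb m hK hm hσ.1 hσ.2.1 hZ)

end Cfsg.Agent.F4StemMain9
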