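import Cfsg.Agent.Lib.StemLift
import Cfsg.Agent.Lib.StemPairing
import Mathlib

/-!
Commutators of lifts in central extensions, and a splitting step: a subgroup `N * K` has no
multiplier if `K` has none and `N` is generated by commutators with an element centralising `K`
together with a subgroup which lifts.
-/

set_option autoImplicit false

namespace Cfsg.Agent.StemStep

open Subgroup
open scoped commutatorElement

variable {Γ G : Type*} [Group Γ] [Group G] {σ : Γ →* G} (hs : Function.Surjective σ)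
  (hc : σ.ker ≤ center Γ)

/-- The commutator of any lifts of `u` and `v`. -/
noncomputable def br (u v : G) : Γ := ⁅Function.surjInv hs u, Function.surjInv hs v⁆

theorem br_spec (u v : G) : σ (br hs u v) = ⁅u, v⁆ := by
  rw [br, map_commutatorElement, Function.surjInv_eq hs, Function.surjInv_eq hs]

include hc in
theorem br_eq {a b : Γ} {u v : G} (ha : σ a = u) (hb : σ b = v) : ⁅a, b⁆ = br hs u v :=
  StemPairing.bracket_congr hc (by rw [ha, Function.surjInv_eq hs]) (by rw [hb, Function.surjInv_eq hs])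

theorem br_self (u : G) : br hs u u = 1 := commutatorElement_self _

theorem br_inv (u v : G) : (br hs u v)⁻¹ = br hs v u := commutatorElement_inv _ _

include hc in
theorem br_one_right (u : G) : br hs u 1 = 1 := by
  rw [← br_eq hs hc (Function.surjInv_eq hs u) (map_one σ)]
  exact commutatorElement_one_right _

include hc in
theorem br_one_left (u : G) : br hs 1 u = 1 := by
  rw [← br_inv, br_one_right hs hc, inv_one]

theorem br_mem_ker {u v : G} (h : Commute u v) : σ (br hs u v) = 1 := by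
  rw [br_spec, commutatorElement_eq_one_iff_mul_comm]
  exact h

include hc in
theorem br_conj (g : Γ) (u v : G) :
    g * br hs u v * g⁻¹ = br hs (σ g * u * (σ g)⁻¹) (σ g * v * (σ g)⁻¹) := by
  rw [br, conjugate_commutatorElement]
  refine br_eq hs hc ?_ ?_ <;> simp [Function.surjInv_eq hs]

include hc in
/-- Conjugation does not move the commutator of commuting elements. -/
theorem br_conj_eq (g : G) {u v : G} (h : Commute u v) :
    br hs (g * u * g⁻¹) (g * v * g⁻¹) = br hs u v := by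
  obtain ⟨γ, rfl⟩ := hs g
  rw [← br_conj hs hc, StemBasic.ker_comm hc (br_mem_ker hs h) γ, mul_inv_cancel_right]

include hc in
theorem br_mul_left {u u' v : G} (h : Commute u' v) :
    br hs (u * u') v = br hs u v * br hs u' v := by
  rw [← br_eq hs hc (a := Function.surjInv hs u * Function.surjInv hs u')
    (b := Function.surjInv hs v) (by rw [map_mul, Function.surjInv_eq hs, Function.surjInv_eq hs])
    (Function.surjInv_eq hs v)]
  exact StemPairing.bracket_mul_left hc (by rwa [Function.surjInv_eq hs, Function.surjInv_eq hs])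

include hc in
theorem br_mul_right {u v v' : G} (h : Commute u v') :
    br hs u (v * v') = br hs u v * br hs u v' := by
  rw [← br_eq hs hc (a := Function.surjInv hs u)
    (b := Function.surjInv hs v * Function.surjInv hs v') (Function.surjInv_eq hs u)
    (by rw [map_mul, Function.surjInv_eq hs, Function.surjInv_eq hs])]
  exact StemPairing.bracket_mul_right hc (by rwa [Function.surjInv_eq hs, Function.surjInv_eq hs])

/-- The elements commuting with `u` together with their lifts. -/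
def killer (hc : σ.ker ≤ center Γ) (u : G) : Subgroup G where
  carrier := {x | Commute u x ∧ br hs u x = 1}
  one_mem' := ⟨Commute.one_right u, br_one_right hs hc u⟩
  mul_mem' {a b} ha hb := ⟨ha.1.mul_right hb.1, by rw [br_mul_right hs hc hb.1, ha.2, hb.2, one_mul]⟩
  inv_mem' {a} ha := ⟨ha.1.inv_right, by
    have h := br_mul_right hs hc (v := a⁻¹) ha.1
    rw [inv_mul_cancel, br_one_right hs hc, ha.2, mul_one] at h
    exact h.symm⟩

theorem mem_killer {u x : G} : x ∈ killer hs hc u ↔ Commute u x ∧ br hs u x = 1 := Iff.rfl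

theorem mem_killer_comm {u x : G} (h : x ∈ killer hs hc u) : u ∈ killer hs hc x :=
  ⟨h.1.symm, by rw [← br_inv, h.2, inv_one]⟩

/-- A commutator of elements commuting with `u` has lifts commuting with those of `u`. -/
theorem bracket_mem_killer {u p r : G} (hp : Commute u p) (hr : Commute u r) :
    ⁅p, r⁆ ∈ killer hs hc u := by
  refine ⟨?_, ?_⟩
  · rw [commutatorElement_def]
    exact ((hp.mul_right hr).mul_right hp.inv_right).mul_right hr.inv_right
  · obtain ⟨a, rfl⟩ := hs u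
    rw [← br_eq hs hc (a := a) (b := br hs p r) rfl (br_spec hs p r),
      commutatorElement_eq_one_iff_mul_comm]
    have h := br_conj hs hc a p r
    rw [hp.eq, hr.eq, mul_inv_cancel_right, mul_inv_cancel_right] at h
    exact mul_inv_eq_iff_eq_mul.1 h

/-- A subgroup whose elements have commuting lifts has no multiplier. -/
theorem kerFree_of_killer {H : Subgroup G} (h : ∀ u ∈ H, H ≤ killer hs hc u) :
    StemBasic.KerFree σ H :=
  StemPairing.kerFree_of_bracket fun a b ha hb => by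
    rw [br_eq hs hc (a := a) (b := b) rfl rfl]
    exact (h _ ha hb).2

include hs hc in
theorem kerFree_bot : StemBasic.KerFree σ (⊥ : Subgroup G) :=
  kerFree_of_killer hs hc fun u _ x hx => by
    rw [Subgroup.mem_bot.1 hx]; exact one_mem _

include hc in
/-- A subgroup over `N` meeting the kernel trivially, containing `D` and the commutators with `t`. -/
theorem exists_section [Finite G] {N : Subgroup G} (t : G) (D : Subgroup Γ)
    (htN : ∀ n ∈ N, t * n * t⁻¹ ∈ N) (hD : D.map σ ≤ N)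
    (hDinj : ∀ d ∈ D, σ d = 1 → d = 1)
    (hDc : ∀ u ∈ N, ∀ v ∈ N, br hs u v ∈ D)
    (hDn : ∀ g : Γ, σ g ∈ N ∨ σ g = t → ∀ d ∈ D, g * d * g⁻¹ ∈ D)
    (hsurj : N ≤ closure ({x | ∃ n ∈ N, x = ⁅t, n⁆} ∪ (D.map σ : Set G))) :
    ∃ M : Subgroup Γ, D ≤ M ∧ (∀ x ∈ M, σ x ∈ N) ∧ (∀ n ∈ N, ∃ x ∈ M, σ x = n) ∧
      (∀ x ∈ M, σ x = 1 → x = 1) ∧ (∀ g, σ g ∈ N → ∀ x ∈ M, g * x * g⁻¹ ∈ M) ∧
      (∀ g, Commute (σ g) t → (∀ n ∈ N, σ g * n * (σ g)⁻¹ ∈ N) →
        (∀ d ∈ D, g * d * g⁻¹ ∈ D) → ∀ x ∈ M, g * x * g⁻¹ ∈ M) := by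
  have hDN : ∀ d ∈ D, σ d ∈ N := fun d hd => hD ⟨d, hd, rfl⟩
  have htN' : ∀ n ∈ N, ⁅t, n⁆ ∈ N := fun n hn => by
    rw [commutatorElement_def]; exact N.mul_mem (htN n hn) (N.inv_mem hn)
  -- the set of elements `[t~, n~] d`
  have hmul : ∀ u ∈ N, ∀ v ∈ N, ∃ d ∈ D, br hs t u * br hs t v = br hs t (u * v) * d := by
    intro u hu v hv
    obtain ⟨g, hg⟩ := hs t
    obtain ⟨a, ha⟩ := hs u
    obtain ⟨b, hb⟩ := hs v
    have hw : σ ⁅g, b⁆ ∈ N := by rw [map_commutatorElement, hg, hb]; exact htN' v hv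
    refine ⟨(br hs t v)⁻¹ * ⁅a, ⁅g, b⁆⁆⁻¹ * br hs t v, ?_, ?_⟩
    · have hd : ⁅a, ⁅g, b⁆⁆⁻¹ ∈ D := D.inv_mem (br_eq hs hc ha rfl ▸ hDc u hu _ hw)
      have := hDn (br hs t v)⁻¹ (Or.inl (by rw [map_inv, br_spec]; exact N.inv_mem (htN' v hv))) _ hd
      rwa [inv_inv] at this
    · have hab : σ (a * b) = u * v := by rw [map_mul, ha, hb]
      rw [← br_eq hs hc hg hab, ← br_eq hs hc hg ha, ← br_eq hs hc hg hb]
      simp only [commutatorElement_def]; group
  have hDr : ∀ u ∈ N, ∀ d ∈ D, (br hs t u)⁻¹ * d * br hs t u ∈ D := fun u hu d hd => by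
    have := hDn (br hs t u)⁻¹ (Or.inl (by rw [map_inv, br_spec]; exact N.inv_mem (htN' u hu))) d hd
    rwa [inv_inv] at this
  let M : Subgroup Γ :=
    { carrier := {x | ∃ u ∈ N, ∃ d ∈ D, x = br hs t u * d}
      one_mem' := ⟨1, N.one_mem, 1, D.one_mem, by rw [br_one_right hs hc, mul_one]⟩
      mul_mem' := by
        rintro _ _ ⟨u, hu, d, hd, rfl⟩ ⟨v, hv, d', hd', rfl⟩
        obtain ⟨e, he, hee⟩ := hmul u hu v hv
        refine ⟨u * v, N.mul_mem hu hv, e * ((br hs t v)⁻¹ * d * br hs t v) * d',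
          D.mul_mem (D.mul_mem he (hDr v hv d hd)) hd', ?_⟩
        calc br hs t u * d * (br hs t v * d')
            = br hs t u * br hs t v * ((br hs t v)⁻¹ * d * br hs t v) * d' := by group
          _ = _ := by rw [hee]; group
      inv_mem' := by
        rintro _ ⟨u, hu, d, hd, rfl⟩
        obtain ⟨e, he, hee⟩ := hmul u⁻¹ (N.inv_mem hu) u hu
        rw [inv_mul_cancel, br_one_right hs hc, one_mul] at hee
        refine ⟨u⁻¹, N.inv_mem hu, _,
          hDr u⁻¹ (N.inv_mem hu) (d⁻¹ * e⁻¹) (D.mul_mem (D.inv_mem hd) (D.inv_mem he)), ?_⟩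
        rw [← hee]; group }
  have hMσ : ∀ x ∈ M, σ x ∈ N := by
    rintro _ ⟨u, hu, d, hd, rfl⟩
    rw [map_mul, br_spec]; exact N.mul_mem (htN' u hu) (hDN d hd)
  have hNM : ∀ n ∈ N, ∃ x ∈ M, σ x = n := by
    intro n hn
    have : closure ({x | ∃ n ∈ N, x = ⁅t, n⁆} ∪ (D.map σ : Set G)) ≤ M.map σ := by
      rw [closure_le]
      rintro x (⟨u, hu, rfl⟩ | ⟨d, hd, rfl⟩)
      · exact ⟨br hs t u, ⟨u, hu, 1, D.one_mem, (mul_one _).symm⟩, br_spec hs t u⟩
      · exact ⟨d, ⟨1, N.one_mem, d, hd, by rw [br_one_right hs hc, one_mul]⟩, rfl⟩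
    exact this (hsurj hn)
  -- `M` is conjugation invariant
  have hDM : D ≤ M := fun x hx => ⟨1, N.one_mem, x, hx, by rw [br_one_right hs hc, one_mul]⟩
  have hMinv : ∀ g : Γ, σ g ∈ N → ∀ x ∈ M, g * x * g⁻¹ ∈ M := by
    rintro g hg _ ⟨u, hu, d, hd, rfl⟩
    have hd' : g * d * g⁻¹ ∈ D := hDn g (Or.inl hg) d hd
    have h1 : g * br hs t u * g⁻¹ ∈ M := by
      rw [br_conj hs hc]
      obtain ⟨γ, hγ⟩ := hs t
      have hm : σ g * t * (σ g)⁻¹ = ⁅σ g, t⁆ * t := by rw [commutatorElement_def]; group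
      set w := σ g * u * (σ g)⁻¹
      have hw : w ∈ N := N.mul_mem (N.mul_mem hg hu) (N.inv_mem hg)
      have hgt : ⁅σ g, t⁆ ∈ N := by
        rw [← commutatorElement_inv]; exact N.inv_mem (htN' _ hg)
      obtain ⟨a, ha⟩ := hs ⁅σ g, t⁆
      obtain ⟨b, hb⟩ := hs w
      have hag : σ (a * γ) = σ g * t * (σ g)⁻¹ := by rw [map_mul, ha, hγ, hm]
      rw [← br_eq hs hc hag hb]
      have e : ⁅a * γ, b⁆ = a * ⁅γ, b⁆ * a⁻¹ * ⁅a, b⁆ := by simp only [commutatorElement_def]; group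
      have e' : a * ⁅γ, b⁆ * a⁻¹ = ⁅a, ⁅γ, b⁆⁆ * ⁅γ, b⁆ := by simp only [commutatorElement_def]; group
      rw [e, e', br_eq hs hc hγ hb, br_eq hs hc ha (br_spec hs t w), br_eq hs hc ha hb]
      exact M.mul_mem (M.mul_mem (hDM (hDc _ hgt _ (htN' w hw)))
        ⟨w, hw, 1, D.one_mem, (mul_one _).symm⟩) (hDM (hDc _ hgt _ hw))
    simpa [mul_assoc] using M.mul_mem h1 (hDM hd')
  have hMcomm : ∀ g, Commute (σ g) t → (∀ n ∈ N, σ g * n * (σ g)⁻¹ ∈ N) →
      (∀ d ∈ D, g * d * g⁻¹ ∈ D) → ∀ x ∈ M, g * x * g⁻¹ ∈ M := by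
    rintro g hgt hgN hgD _ ⟨u, hu, d, hd, rfl⟩
    have h1 : g * br hs t u * g⁻¹ ∈ M := by
      rw [br_conj hs hc, hgt.eq, mul_inv_cancel_right]
      exact ⟨_, hgN u hu, 1, D.one_mem, (mul_one _).symm⟩
    simpa [mul_assoc] using M.mul_mem h1 (hDM (hgD d hd))
  -- `M` meets the kernel trivially
  have hMinj : ∀ x ∈ M, σ x = 1 → x = 1 := by
    set S : Subgroup G := D.map σ
    have hS : ∀ g : G, g ∈ N ∨ g = t → ∀ x ∈ S, g * x * g⁻¹ ∈ S := by
      rintro g hg _ ⟨d, hd, rfl⟩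
      obtain ⟨γ, rfl⟩ := hs g
      exact ⟨_, hDn γ hg d hd, by simp⟩
    have : (S.subgroupOf N).Normal := ⟨fun x hx g => hS g (Or.inl g.2) _ hx⟩
    set π := QuotientGroup.mk' (S.subgroupOf N)
    let ψ : N →* N ⧸ S.subgroupOf N :=
      { toFun := fun n => π ⟨⁅t, (n : G)⁆, htN' _ n.2⟩
        map_one' := by
          refine (QuotientGroup.eq_one_iff _).2 ?_
          simp [Subgroup.mem_subgroupOf, commutatorElement_def]
        map_mul' := fun a b => by
          obtain ⟨d, hd, he⟩ := hmul a a.2 b b.2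
          have he' := congrArg σ he
          rw [map_mul, map_mul, br_spec, br_spec, br_spec] at he'
          rw [← map_mul, QuotientGroup.mk'_eq_mk']
          refine ⟨⟨σ d, hDN d hd⟩, ⟨d, hd, rfl⟩, Subtype.ext ?_⟩
          exact he'.symm }
    have hker : S.subgroupOf N ≤ ψ.ker := by
      intro x hx
      refine (QuotientGroup.eq_one_iff _).2 ?_
      show ⁅t, (x : G)⁆ ∈ S
      rw [commutatorElement_def]
      exact S.mul_mem (hS t (Or.inr rfl) _ hx) (S.inv_mem hx)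
    let χ := QuotientGroup.lift _ ψ hker
    have hχs : Function.Surjective χ := by
      intro y
      obtain ⟨⟨n, hn⟩, rfl⟩ := QuotientGroup.mk'_surjective _ y
      have : closure ({x | ∃ n ∈ N, x = ⁅t, n⁆} ∪ (S : Set G)) ≤
          ((χ.range.comap π).map N.subtype) := by
        rw [closure_le]
        rintro x (⟨u, hu, rfl⟩ | hx)
        · exact ⟨⟨_, htN' u hu⟩, ⟨π ⟨u, hu⟩, rfl⟩, rfl⟩
        · refine ⟨⟨x, hD hx⟩, ⟨1, ?_⟩, rfl⟩
          rw [map_one]
          exact ((QuotientGroup.eq_one_iff (N := S.subgroupOf N) (⟨x, hD hx⟩ : N)).2 hx).symm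
      obtain ⟨⟨n', hn'⟩, hm, rfl⟩ := this (hsurj hn)
      exact hm
    have hχi : Function.Injective χ := Finite.injective_iff_surjective.2 hχs
    rintro _ ⟨u, hu, d, hd, rfl⟩ h1
    rw [map_mul, br_spec] at h1
    have huS : u ∈ S := by
      have h2 : χ (π ⟨u, hu⟩) = χ 1 := by
        rw [map_one]
        refine (QuotientGroup.eq_one_iff _).2 ?_
        show ⁅t, u⁆ ∈ S
        rw [eq_inv_of_mul_eq_one_left h1]
        exact S.inv_mem ⟨d, hd, rfl⟩
      exact (QuotientGroup.eq_one_iff (N := S.subgroupOf N) (⟨u, hu⟩ : N)).1 (hχi h2)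
    obtain ⟨d', hd', rfl⟩ := huS
    obtain ⟨γ, hγ⟩ := hs t
    have : br hs t (σ d') ∈ D := by
      rw [← br_eq hs hc hγ rfl, commutatorElement_def]
      exact D.mul_mem (hDn γ (Or.inr hγ) _ hd') (D.inv_mem hd')
    exact hDinj _ (D.mul_mem this hd) (by rw [map_mul, br_spec]; exact h1)
  exact ⟨M, hDM, hMσ, hNM, hMinj, hMinv, hMcomm⟩

include hc in
/-- Gluing a section over `N` with a group without multiplier. -/
theorem kerFree_of_section {N K : Subgroup G} (M : Subgroup Γ)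
    (hMσ : ∀ x ∈ M, σ x ∈ N) (hNM : ∀ n ∈ N, ∃ x ∈ M, σ x = n) (hMinj : ∀ x ∈ M, σ x = 1 → x = 1)
    (hMK : ∀ g, σ g ∈ K → ∀ x ∈ M, g * x * g⁻¹ ∈ M)
    (hKN : ∀ k ∈ K, ∀ n ∈ N, k * n * k⁻¹ ∈ N) (hNK : N ⊓ K = ⊥)
    (hK : StemBasic.KerFree σ K) : StemBasic.KerFree σ (N ⊔ K) := by
  -- the preimage
  have hsup : ∀ x ∈ N ⊔ K, ∃ n ∈ N, ∃ k ∈ K, x = n * k := by
    intro x hx
    rw [sup_eq_closure] at hx
    induction hx using closure_induction with
    | mem x hx =>
      rcases hx with hx | hx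
      · exact ⟨x, hx, 1, K.one_mem, (mul_one x).symm⟩
      · exact ⟨1, N.one_mem, x, hx, (one_mul x).symm⟩
    | one => exact ⟨1, N.one_mem, 1, K.one_mem, (mul_one _).symm⟩
    | mul a b _ _ ha hb =>
      obtain ⟨n, hn, k, hk, rfl⟩ := ha
      obtain ⟨n', hn', k', hk', rfl⟩ := hb
      exact ⟨n * (k * n' * k⁻¹), N.mul_mem hn (hKN k hk n' hn'), k * k', K.mul_mem hk hk', by group⟩
    | inv a _ ha =>
      obtain ⟨n, hn, k, hk, rfl⟩ := ha
      refine ⟨k⁻¹ * n⁻¹ * k, ?_, k⁻¹, K.inv_mem hk, by group⟩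
      simpa using hKN k⁻¹ (K.inv_mem hk) n⁻¹ (N.inv_mem hn)
  have hdec : ∀ a : Γ, σ a ∈ N ⊔ K → ∃ x ∈ M, ∃ b : Γ, σ b ∈ K ∧ a = x * b := by
    intro a ha
    obtain ⟨n, hn, k, hk, he⟩ := hsup _ ha
    obtain ⟨x, hx, rfl⟩ := hNM n hn
    exact ⟨x, hx, x⁻¹ * a, by rw [map_mul, map_inv, he, inv_mul_cancel_left]; exact hk,
      (mul_inv_cancel_left x a).symm⟩
  set C := (commutator (K.comap σ)).map (K.comap σ).subtype
  have hCK : ∀ c ∈ C, σ c ∈ K := by
    rintro _ ⟨c', -, rfl⟩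
    exact c'.2
  let R : Subgroup Γ :=
    { carrier := {x | ∃ a ∈ M, ∃ c ∈ C, x = a * c}
      one_mem' := ⟨1, M.one_mem, 1, C.one_mem, (mul_one _).symm⟩
      mul_mem' := by
        rintro _ _ ⟨a, ha, c, hc', rfl⟩ ⟨a', ha', c', hc'', rfl⟩
        exact ⟨a * (c * a' * c⁻¹), M.mul_mem ha (hMK c (hCK c hc') a' ha'), c * c',
          C.mul_mem hc' hc'', by group⟩
      inv_mem' := by
        rintro _ ⟨a, ha, c, hc', rfl⟩
        refine ⟨c⁻¹ * a⁻¹ * c, ?_, c⁻¹, C.inv_mem hc', by group⟩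
        simpa using hMK c⁻¹ (hCK _ (C.inv_mem hc')) a⁻¹ (M.inv_mem ha) }
  intro w hw hw1
  have hwR : w ∈ R := by
    refine (show (commutator ((N ⊔ K).comap σ)).map ((N ⊔ K).comap σ).subtype ≤ R from ?_) hw
    rw [Subgroup.map_le_iff_le_comap, _root_.commutator_def, Subgroup.commutator_le]
    intro a _ b _
    obtain ⟨x, hx, k, hk, hak⟩ := hdec a a.2
    obtain ⟨y, hy, l, hl, hbl⟩ := hdec b b.2
    show ⁅(a : Γ), (b : Γ)⁆ ∈ R
    rw [hak, hbl]
    have hcm : ⁅k, l⁆ ∈ C := ⟨⁅(⟨k, hk⟩ : K.comap σ), ⟨l, hl⟩⁆,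
      Subgroup.commutator_mem_commutator (mem_top _) (mem_top _), rfl⟩
    have hklk : σ (k * l * k⁻¹) ∈ K := by
      rw [map_mul, map_mul, map_inv]; exact K.mul_mem (K.mul_mem hk hl) (K.inv_mem hk)
    refine ⟨x * (k * y * k⁻¹) * (k * l * k⁻¹ * x⁻¹ * (k * l * k⁻¹)⁻¹) *
      (⁅k, l⁆ * y⁻¹ * ⁅k, l⁆⁻¹), ?_, _, hcm, ?_⟩
    · exact M.mul_mem (M.mul_mem (M.mul_mem hx (hMK k hk y hy))
        (hMK _ hklk _ (M.inv_mem hx))) (hMK _ (hCK _ hcm) _ (M.inv_mem hy))
    · simp only [commutatorElement_def]; group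
  obtain ⟨a, ha, c, hc', rfl⟩ := hwR
  rw [map_mul] at hw1
  have hcN : σ c ∈ N := by
    rw [eq_inv_of_mul_eq_one_right hw1]; exact N.inv_mem (hMσ a ha)
  have hc1 : σ c = 1 := by
    have : σ c ∈ N ⊓ K := ⟨hcN, hCK c hc'⟩
    rwa [hNK, Subgroup.mem_bot] at this
  rw [hc1, mul_one] at hw1
  rw [hMinj a ha hw1, hK c hc' hc1, one_mul]

include hc in
/-- The splitting step. -/
theorem kerFree_step [Finite G] {N K : Subgroup G} (t : G) (D : Subgroup Γ)
    (htN : ∀ n ∈ N, t * n * t⁻¹ ∈ N) (hKt : ∀ k ∈ K, Commute k t)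
    (hKN : ∀ k ∈ K, ∀ n ∈ N, k * n * k⁻¹ ∈ N) (hNK : N ⊓ K = ⊥) (hD : D.map σ ≤ N)
    (hDinj : ∀ d ∈ D, σ d = 1 → d = 1)
    (hDc : ∀ u ∈ N, ∀ v ∈ N, br hs u v ∈ D)
    (hDn : ∀ g : Γ, σ g ∈ N ∨ σ g = t ∨ σ g ∈ K → ∀ d ∈ D, g * d * g⁻¹ ∈ D)
    (hsurj : N ≤ closure ({x | ∃ n ∈ N, x = ⁅t, n⁆} ∪ (D.map σ : Set G)))
    (hK : StemBasic.KerFree σ K) : StemBasic.KerFree σ (N ⊔ K) := by
  obtain ⟨M, -, hMσ, hNM, hMinj, -, hMcomm⟩ := exists_section hs hc t D htN hD hDinj hDc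
    (fun g hg => hDn g (hg.imp_right Or.inl)) hsurj
  exact kerFree_of_section hc M hMσ hNM hMinj
    (fun g hg => hMcomm g (hKt _ hg) (fun n hn => hKN _ hg n hn) (hDn g (Or.inr (Or.inr hg))))
    hKN hNK hK

/-- The `p`-elements over a `p`-subgroup form a subgroup. -/
theorem exists_pLifts [Finite Γ] {p : ℕ} [Fact p.Prime] (hZ : Nat.Coprime (Nat.card σ.ker) p)
    (hc : σ.ker ≤ center Γ) {N : Subgroup G} (hs : Function.Surjective σ)
    (hN : ∀ n ∈ N, StemLift.IsPElem p n) :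
    ∃ P : Subgroup Γ, (∀ x ∈ P, StemLift.IsPElem p x ∧ σ x ∈ N) ∧ (∀ x ∈ P, σ x = 1 → x = 1) ∧
      (∀ g, StemLift.IsPElem p g → σ g ∈ N → g ∈ P) := by
  let P : Subgroup Γ :=
    { carrier := {g | StemLift.IsPElem p g ∧ σ g ∈ N}
      one_mem' := ⟨StemLift.isPElem_one, by rw [map_one]; exact N.one_mem⟩
      inv_mem' := fun {a} ha => ⟨ha.1.inv, by rw [map_inv]; exact N.inv_mem ha.2⟩
      mul_mem' := fun {a b} ha hb => by
        refine ⟨?_, by rw [map_mul]; exact N.mul_mem ha.2 hb.2⟩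
        have hNp : IsPGroup p N := fun n => by
          obtain ⟨k, hk⟩ := hN n n.2
          exact ⟨k, Subtype.ext (by simpa using hk)⟩
        have : Finite G := Finite.of_surjective σ hs
        let f : N.comap σ →* N := (σ.comp (N.comap σ).subtype).codRestrict N fun x => x.2
        have hf : f.ker ≤ center (N.comap σ) := by
          intro x hx
          have hx' : σ (x : Γ) = 1 := congrArg Subtype.val (MonoidHom.mem_ker.1 hx)
          exact mem_center_iff.2 fun g => Subtype.ext (StemBasic.ker_comm hc hx' (g : Γ))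
        have : Group.IsNilpotent N := hNp.isNilpotent
        have hnil : Group.IsNilpotent (N.comap σ) := Subgroup.isNilpotent_of_ker_le_center f hf
        obtain ⟨Q⟩ : Nonempty (Sylow p (N.comap σ)) := inferInstance
        have hQn : (Q : Subgroup (N.comap σ)).Normal :=
          Sylow.normal_of_normalizerCondition Group.normalizerCondition_of_isNilpotent Q
        have huniq := Sylow.unique_of_normal Q hQn
        have hmemQ : ∀ x : N.comap σ, StemLift.IsPElem p x → x ∈ (Q : Subgroup (N.comap σ)) := by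
          intro x hx
          obtain ⟨k, hk⟩ := hx
          have hz : IsPGroup p (zpowers x) := by
            rintro ⟨y, hy⟩
            obtain ⟨j, rfl⟩ := mem_zpowers_iff.1 hy
            exact ⟨k, Subtype.ext (by
              show (x ^ j) ^ p ^ k = 1
              rw [← zpow_natCast, ← _root_.zpow_mul, mul_comm, _root_.zpow_mul, zpow_natCast, hk,
                one_zpow])⟩
          obtain ⟨Q', hQ'⟩ := hz.exists_le_sylow
          have : Q' = Q := Subsingleton.elim _ _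
          exact this ▸ hQ' (mem_zpowers x)
        have ha' := hmemQ ⟨a, ha.2⟩ ((StemLift.isPElem_map_iff (N.comap σ).subtype
          Subtype.coe_injective).1 ha.1)
        have hb' := hmemQ ⟨b, hb.2⟩ ((StemLift.isPElem_map_iff (N.comap σ).subtype
          Subtype.coe_injective).1 hb.1)
        obtain ⟨k, hk⟩ := Q.isPGroup' ⟨_, mul_mem ha' hb'⟩
        exact ⟨k, by simpa using congrArg (fun z : (Q : Subgroup (N.comap σ)) => ((z : N.comap σ) : Γ)) hk⟩ }
  refine ⟨P, fun x hx => hx, fun x hx h1 => ?_, fun g hg hgN => ⟨hg, hgN⟩⟩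
  exact StemLift.lift_unique hc hZ (h1.trans (map_one σ).symm) hx.1 StemLift.isPElem_one

end Cfsg.Agent.StemStep
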