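import Mathlib

/-!
Bi-additive pairings on a finite field that are invariant under a pair of multiplicative weights
vanish unless the weights differ by an automorphism of the field.
-/

set_option autoImplicit false

namespace Cfsg.Agent.StemWeight86

variable {F : Type*} [Field F] [Fintype F] {M : Type*} [Group M]

/-- an additive map kills `0` -/
theorem map_zero_eq_one (f : F → M) (h : ∀ x y, f (x + y) = f x * f y) : f 0 = 1 := by
  have := h 0 0
  rw [add_zero] at this
  exact right_eq_mul.1 this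

theorem map_neg_eq_inv (f : F → M) (h : ∀ x y, f (x + y) = f x * f y) (x : F) :
    f (-x) = (f x)⁻¹ := by
  refine eq_inv_of_mul_eq_one_left ?_
  rw [← h, neg_add_cancel, map_zero_eq_one f h]

/-- the pairs of scalars that may be moved across a pairing -/
def balanced (B : F → F → M) (hl : ∀ x x' y, B (x + x') y = B x y * B x' y)
    (hr : ∀ x y y', B x (y + y') = B x y * B x y') : Subring (F × F) where
  carrier := {p | ∀ x y, B (p.1 * x) y = B x (p.2 * y)}
  one_mem' := fun x y => by simp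
  mul_mem' := fun {p r} hp hq x y => by
    show B (p.1 * r.1 * x) y = B x (p.2 * r.2 * y)
    rw [mul_assoc, hp, hq, ← mul_assoc, mul_comm r.2]
  zero_mem' := fun x y => by
    show B (0 * x) y = B x (0 * y)
    rw [zero_mul, zero_mul, map_zero_eq_one (fun a => B a y) (fun a a' => hl a a' y),
      map_zero_eq_one (B x) (hr x)]
  add_mem' := fun {p r} hp hq x y => by
    show B ((p.1 + r.1) * x) y = B x ((p.2 + r.2) * y)
    rw [add_mul, add_mul, hl, hr, hp, hq]
  neg_mem' := fun {p} hp x y => by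
    show B (-p.1 * x) y = B x (-p.2 * y)
    rw [neg_mul, neg_mul, map_neg_eq_inv (fun a => B a y) (fun a a' => hl a a' y),
      map_neg_eq_inv (B x) (hr x), hp]

/-- a ring endomorphism of a finite field is a power of the Frobenius map -/
theorem exists_pow {p n : ℕ} [Fact p.Prime] [CharP F p] (hn : Fintype.card F = p ^ n) (φ : F →+* F) :
    ∃ i < n, ∀ x, φ x = x ^ p ^ i := by
  let : Algebra (ZMod p) F := ZMod.algebra F p
  have hfin : Module.finrank (ZMod p) F = n := by
    have h := Module.card_eq_pow_finrank (K := ZMod p) (V := F)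
    rw [ZMod.card, hn] at h
    exact (Nat.pow_right_injective (Fact.out : p.Prime).two_le h).symm
  let e : F ≃ₐ[ZMod p] F := AlgEquiv.ofBijective
    { φ with commutes' := fun r => RingHom.congr_fun (RingHom.ext_zmod (φ.comp (algebraMap (ZMod p) F)) _) r }
    (Finite.injective_iff_bijective.1 φ.injective)
  obtain ⟨⟨i, hi⟩, he⟩ := (FiniteField.bijective_frobeniusAlgEquivOfAlgebraic_pow (ZMod p) F).2 e
  refine ⟨i, hfin ▸ hi, fun x => ?_⟩
  have h := DFunLike.congr_fun he x
  rw [AlgEquiv.coe_pow, FiniteField.coe_frobeniusAlgEquivOfAlgebraic_iterate, ZMod.card] at h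
  exact h.symm

/-- the vanishing statement -/
theorem pairing_eq_one {p n : ℕ} [Fact p.Prime] [CharP F p] (hn : Fintype.card F = p ^ n)
    (B : F → F → M) (hl : ∀ x x' y, B (x + x') y = B x y * B x' y)
    (hr : ∀ x y y', B x (y + y') = B x y * B x y') (a b : Fˣ → Fˣ)
    (hinv : ∀ l x y, B ((a l : F) * x) ((b l : F) * y) = B x y)
    (hgen : ∀ S : Subring F, (∀ l, (a l : F) ∈ S) → S = ⊤)
    (hno : ∀ i < n, ∃ l, (a l : F) ^ p ^ i * (b l : F) ≠ 1) (x y : F) : B x y = 1 := by
  set S := balanced B hl hr with hS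
  have hmem : ∀ l, ((a l : F), ((b l)⁻¹ : Fˣ).val) ∈ S := fun l x y => by
    show B ((a l : F) * x) y = B x (((b l)⁻¹ : Fˣ).val * y)
    conv_lhs => rw [show y = (b l : F) * (((b l)⁻¹ : Fˣ).val * y) by simp [← mul_assoc]]
    rw [hinv]
  by_cases hex : ∃ c ≠ 0, ((0 : F), c) ∈ S
  · obtain ⟨c, hc, h⟩ := hex
    have h' : B (0 * x) (y / c) = B x (c * (y / c)) := h x (y / c)
    rw [zero_mul, map_zero_eq_one (fun a => B a (y / c)) (fun a a' => hl a a' _),
      mul_div_cancel₀ _ hc] at h'
    exact h'.symm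
  push Not at hex
  exfalso
  have htop : S.map (RingHom.fst F F) = ⊤ := hgen _ fun l => ⟨_, hmem l, rfl⟩
  have hex2 : ∀ z : F, ∃ c, (z, c) ∈ S := fun z => by
    obtain ⟨⟨z', c⟩, h, e⟩ : z ∈ S.map (RingHom.fst F F) := htop ▸ Subring.mem_top z
    obtain rfl : z' = z := e
    exact ⟨c, h⟩
  have huniq : ∀ z c c', (z, c) ∈ S → (z, c') ∈ S → c = c' := fun z c c' h h' => by
    by_contra hne
    refine hex (c - c') (sub_ne_zero.2 hne) ?_
    simpa using S.sub_mem h h'
  choose f hf using hex2
  let φ : F →+* F :=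
    { toFun := f
      map_one' := huniq 1 _ _ (hf 1) S.one_mem
      map_mul' := fun u v => huniq _ _ _ (hf _) (S.mul_mem (hf u) (hf v))
      map_zero' := huniq 0 _ _ (hf 0) S.zero_mem
      map_add' := fun u v => huniq _ _ _ (hf _) (S.add_mem (hf u) (hf v)) }
  obtain ⟨i, hi, hφ⟩ := exists_pow hn φ
  obtain ⟨l, hl'⟩ := hno i hi
  have h : φ (a l : F) = ((b l)⁻¹ : Fˣ).val := huniq _ _ _ (hf _) (hmem l)
  rw [hφ] at h
  exact hl' (by rw [h, Units.inv_mul])

/-- a subring containing every square is everything, in odd characteristic -/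
theorem subring_top_of_sq {S : Subring F} (h2 : (2 : F) ≠ 0) (hs : ∀ y : F, y ≠ 0 → y ^ 2 ∈ S) :
    S = ⊤ := by
  refine eq_top_iff.2 fun z _ => ?_
  have hsq : ∀ y : F, y ^ 2 ∈ S := fun y => by
    rcases eq_or_ne y 0 with rfl | hy
    · simp [S.zero_mem]
    · exact hs y hy
  have h4 : (4 : F) ∈ S := by
    simpa [show (2 : F) ^ 2 = 4 by norm_num] using hsq 2
  have hk : ∀ w : F, 4 * w ∈ S := fun w => by
    rw [show 4 * w = (w + 1) ^ 2 - (w - 1) ^ 2 by ring]
    exact S.sub_mem (hsq _) (hsq _)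
  have h4ne : (4 : F) ≠ 0 := by
    rw [show (4 : F) = 2 * 2 by norm_num]
    exact mul_ne_zero h2 h2
  simpa [mul_div_cancel₀ _ h4ne] using hk (z / 4)

end Cfsg.Agent.StemWeight86
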