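import Cfsg.Agent.Lib.StemSection9
import Cfsg.Agent.Lib.StemStep
import Cfsg.Agent.Lib.StemWeight86
import Mathlib

/-!
Sections of central extensions over a filtration whose factors are copies of a finite field with a
torus acting by characters.
-/

set_option autoImplicit false
set_option linter.unusedSectionVars false
set_option linter.unusedVariables false

namespace Cfsg.Agent.StemFilt9

open Subgroup Cfsg.Agent.StemSection9
open scoped commutatorElement

/-- the vanishing of balanced pairings, with weights indexed by any type -/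
theorem pairing_one {F M ι : Type*} [Field F] [Fintype F] [Group M] {p n : ℕ} [Fact p.Prime] [CharP F p]
    (hn : Fintype.card F = p ^ n)
    (B : F → F → M) (hl : ∀ x x' y, B (x + x') y = B x y * B x' y)
    (hr : ∀ x y y', B x (y + y') = B x y * B x y') (a b : ι → Fˣ)
    (hinv : ∀ l x y, B ((a l : F) * x) ((b l : F) * y) = B x y)
    (hgen : ∀ S : Subring F, (∀ l, (a l : F) ∈ S) → S = ⊤)
    (hno : ∀ i < n, ∃ l, a l ^ p ^ i * b l ≠ 1) (x y : F) : B x y = 1 := by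
  set S := StemWeight86.balanced B hl hr with hS
  have hmem : ∀ l, ((a l : F), ((b l)⁻¹ : Fˣ).val) ∈ S := fun l x y => by
    show B ((a l : F) * x) y = B x (((b l)⁻¹ : Fˣ).val * y)
    conv_lhs => rw [show y = (b l : F) * (((b l)⁻¹ : Fˣ).val * y) by simp [← mul_assoc]]
    rw [hinv]
  by_cases hex : ∃ c ≠ 0, ((0 : F), c) ∈ S
  · obtain ⟨c, hc, h⟩ := hex
    have h' : B (0 * x) (y / c) = B x (c * (y / c)) := h x (y / c)
    rw [zero_mul, StemWeight86.map_zero_eq_one (fun a => B a (y / c)) (fun a a' => hl a a' _),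
      mul_div_cancel₀ _ hc] at h'
    exact h'.symm
  push Not at hex
  exfalso
  have htop : S.map (RingHom.fst F F) = ⊤ := hgen _ fun l => ⟨_, hmem l, rfl⟩
  have hex2 : ∀ z : F, ∃ c, (z, c) ∈ S := fun z => by
    obtain ⟨⟨z', c⟩, h, e⟩ : z ∈ S.map (RingHom.fst F F) := htop ▸ Subring.mem_top z
    obtain rfl : z' = z := e
    exact ⟨c, h⟩
  have huniq : ∀ z c c', (z, c) ∈ S → (z, c') ∈ S → c = c' := fun z c c' h h' => by
    by_contra hne
    refine hex (c - c') (sub_ne_zero.2 hne) ?_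
    simpa using S.sub_mem h h'
  choose f hf using hex2
  let φ : F →+* F :=
    { toFun := f
      map_one' := huniq 1 _ _ (hf 1) S.one_mem
      map_mul' := fun u v => huniq _ _ _ (hf _) (S.mul_mem (hf u) (hf v))
      map_zero' := huniq 0 _ _ (hf 0) S.zero_mem
      map_add' := fun u v => huniq _ _ _ (hf _) (S.add_mem (hf u) (hf v)) }
  obtain ⟨i, hi, hφ⟩ := StemWeight86.exists_pow hn φ
  obtain ⟨l, hl'⟩ := hno i hi
  have h : φ (a l : F) = ((b l)⁻¹ : Fˣ).val := huniq _ _ _ (hf _) (hmem l)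
  rw [hφ] at h
  exact hl' (Units.ext (by rw [Units.val_mul, Units.val_pow_eq_pow_val, h, Units.inv_mul, Units.val_one]))

variable {Γ G : Type*} [Group Γ] [Group G] {σ : Γ →* G}

/-- a filtration with field factors and a torus -/
structure Chain (G : Type*) [Group G] (K : Type*) [Field K] (ι : Type*) where
  /-- the length -/
  n : ℕ
  /-- the filtration -/
  N : ℕ → Subgroup G
  /-- the torus -/
  τ : ι → G
  /-- the coordinates -/
  c : ℕ → G → K
  /-- the characters -/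
  χ : ℕ → ι → Kˣ
  top : N n = ⊥
  mono : ∀ i, N (i + 1) ≤ N i
  br : ∀ j i, j ≤ i → i < n → ∀ g ∈ N j, ∀ x ∈ N i, ⁅g, x⁆ ∈ N (i + 1)
  nrm : ∀ i l, ∀ x ∈ N i, τ l * x * (τ l)⁻¹ ∈ N i
  tab : ∀ l l', Commute (τ l) (τ l')
  add : ∀ i < n, ∀ x ∈ N i, ∀ y ∈ N i, c i (x * y) = c i x + c i y
  zero : ∀ i < n, ∀ x ∈ N i, c i x = 0 → x ∈ N (i + 1)
  surj : ∀ i < n, ∀ t, ∃ x ∈ N i, c i x = t
  eqv : ∀ i < n, ∀ l, ∀ x ∈ N i, c i (τ l * x * (τ l)⁻¹) = (χ i l : K) * c i x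
  move : ∀ i < n, ∃ l, χ i l ≠ 1

variable {K : Type*} [Field K] {ι : Type*} (C : Chain G K ι)

theorem Chain.anti {i j : ℕ} (h : i ≤ j) : C.N j ≤ C.N i := by
  induction h with
  | refl => exact le_rfl
  | step _ ih => exact (C.mono _).trans ih

theorem Chain.c_one {i : ℕ} (hi : i < C.n) : C.c i 1 = 0 := by
  have h := C.add i hi 1 (one_mem _) 1 (one_mem _)
  rwa [mul_one, left_eq_add] at h

theorem Chain.c_inv {i : ℕ} (hi : i < C.n) {x : G} (hx : x ∈ C.N i) : C.c i x⁻¹ = -C.c i x := by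
  have h := C.add i hi x hx x⁻¹ (inv_mem hx)
  rw [mul_inv_cancel, C.c_one hi] at h
  exact eq_neg_of_add_eq_zero_right h.symm

theorem Chain.diff {i : ℕ} (hi : i < C.n) {x y : G} (hx : x ∈ C.N i) (hy : y ∈ C.N i) (h : C.c i x = C.c i y) :
    y⁻¹ * x ∈ C.N (i + 1) := by
  refine C.zero i hi _ (mul_mem (inv_mem hy) hx) ?_
  rw [C.add i hi _ (inv_mem hy) _ hx, C.c_inv hi hy, h, neg_add_cancel]

theorem Chain.br' {i j : ℕ} (hji : j ≤ i) (hi : i < C.n) {g x : G} (hg : g ∈ C.N j) (hx : x ∈ C.N i) :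
    ⁅x, g⁆ ∈ C.N (i + 1) := by
  rw [← commutatorElement_inv]
  exact inv_mem (C.br j i hji hi g hg x hx)

/-- the normalising elements -/
def Good (σ : Γ →* G) (g : Γ) : Prop := (∃ l, σ g = C.τ l) ∨ σ g ∈ C.N 0

/-- a normalised section over a term -/
structure St (σ : Γ →* G) (S : Subgroup Γ) (i : ℕ) : Prop where
  sec : Sec σ S (C.N i)
  nrm : ∀ g, Good C σ g → Nrm S g

/-- one pairing dies -/
def Kill (σ : Γ →* G) (i j : ℕ) : Prop :=
  ∀ S : Subgroup Γ, St C σ S (i + 1) → (∀ a x : Γ, σ a ∈ C.N (j + 1) → σ x ∈ C.N i → ⁅a, x⁆ ∈ S) →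
    ∀ g x : Γ, σ g ∈ C.N j → σ x ∈ C.N i → ⁅g, x⁆ ∈ S

theorem St.nrm_of {S : Subgroup Γ} {i k : ℕ} (hS : St C σ S i) {g : Γ} (hg : σ g ∈ C.N k) : Nrm S g :=
  hS.nrm g (Or.inr (C.anti (Nat.zero_le k) hg))

theorem St.upper (hc : σ.ker ≤ center Γ) {S : Subgroup Γ} {i k : ℕ} (hS : St C σ S (i + 1)) {g x : Γ}
    (hg : σ g ∈ C.N (i + 1)) (hx : σ x ∈ C.N k) : ⁅g, x⁆ ∈ S ∧ ⁅x, g⁆ ∈ S := by
  have h := bracket_of_mem hc hS.sec hg (hS.nrm_of C hx)
  exact ⟨h, by rw [← commutatorElement_inv]; exact inv_mem h⟩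

variable [Finite G]

/-- the section over every term -/
theorem exists_st (hs : Function.Surjective σ) (hc : σ.ker ≤ center Γ)
    (kill : ∀ i < C.n, ∀ j ≤ i, Kill C σ i j) (i : ℕ) (hi : i ≤ C.n) : ∃ S : Subgroup Γ, St C σ S i := by
  induction hn : C.n - i generalizing i with
  | zero =>
    obtain rfl : i = C.n := by omega
    exact ⟨⊥, ⟨C.top ▸ Sec.bot σ, fun g _ => nrm_bot g⟩⟩
  | succ d ih =>
    have hin : i < C.n := by omega
    obtain ⟨S, hS⟩ := ih (i + 1) (by omega) (by omega)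
    have pair : ∀ d' j, i + 1 - j ≤ d' → ∀ g x : Γ, σ g ∈ C.N j → σ x ∈ C.N i → ⁅g, x⁆ ∈ S := by
      intro d'
      induction d' with
      | zero =>
        intro j hj g x hg hx
        exact (hS.upper C hc (C.anti (show i + 1 ≤ j by omega) hg) hx).1
      | succ d' ihd =>
        intro j hj g x hg hx
        by_cases hji : j ≤ i
        · exact kill i hin j hji S hS (fun a y ha hy => ihd (j + 1) (by omega) a y ha hy) g x hg hx
        · exact (hS.upper C hc (C.anti (show i + 1 ≤ j by omega) hg) hx).1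
    have p0 : ∀ g x : Γ, σ g ∈ C.N 0 → σ x ∈ C.N i → ⁅g, x⁆ ∈ S := pair (i + 1) 0 (by omega)
    obtain ⟨l, hl⟩ := C.move i hin
    have hl1 : (C.χ i l : K) - 1 ≠ 0 := sub_ne_zero.2 fun e => hl (Units.ext e)
    obtain ⟨M, hSM, hMσ, hNM, hMinj, -, hMcomm⟩ := StemStep.exists_section hs hc (N := C.N i) (C.τ l) S
      (fun x hx => C.nrm i l x hx) (hS.sec.map_eq.le.trans (C.mono i)) hS.sec.inj
      (fun u hu v hv => by
        obtain ⟨a, rfl⟩ := hs u
        obtain ⟨b, rfl⟩ := hs v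
        rw [← StemStep.br_eq hs hc rfl rfl]
        exact p0 a b (C.anti (Nat.zero_le i) hu) hv)
      (fun g hg d hd => hS.nrm g (hg.elim (fun h => Or.inr (C.anti (Nat.zero_le i) h))
        (fun h => Or.inl ⟨l, h⟩)) d hd)
      (by
        intro x hx
        obtain ⟨y, hy, hyc⟩ := C.surj i hin (C.c i x / ((C.χ i l : K) - 1))
        have hb : ⁅C.τ l, y⁆ ∈ C.N i := by
          rw [commutatorElement_def]; exact mul_mem (C.nrm i l y hy) (inv_mem hy)
        have hcb : C.c i ⁅C.τ l, y⁆ = C.c i x := by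
          rw [commutatorElement_def, C.add i hin _ (C.nrm i l y hy) _ (inv_mem hy), C.eqv i hin l y hy,
            C.c_inv hin hy, ← sub_eq_add_neg, ← sub_one_mul, hyc, mul_div_cancel₀ _ hl1]
        rw [show x = ⁅C.τ l, y⁆ * (⁅C.τ l, y⁆⁻¹ * x) from (mul_inv_cancel_left _ _).symm]
        refine mul_mem (subset_closure (Or.inl ⟨y, hy, rfl⟩)) (subset_closure (Or.inr ?_))
        rw [hS.sec.map_eq]
        exact C.diff hin hx hb hcb.symm)
    refine ⟨M, ⟨⟨le_antisymm ?_ ?_, hMinj⟩, ?_⟩⟩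
    · rintro _ ⟨x, hx, rfl⟩
      exact hMσ x hx
    · intro x hx
      obtain ⟨y, hy, rfl⟩ := hNM x hx
      exact ⟨y, hy, rfl⟩
    · intro g hg x hx
      rcases hg with ⟨l', hl'⟩ | hg
      · exact hMcomm g (by rw [hl']; exact C.tab l' l) (fun n hn => by rw [hl']; exact C.nrm i l' n hn)
          (hS.nrm g (Or.inl ⟨l', hl'⟩)) x hx
      · have e : g * x * g⁻¹ = ⁅g, x⁆ * x := by rw [commutatorElement_def]; group
        rw [e]
        exact mul_mem (hSM (p0 g x hg (hMσ x hx))) hx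

theorem kerFree (hs : Function.Surjective σ) (hc : σ.ker ≤ center Γ)
    (kill : ∀ i < C.n, ∀ j ≤ i, Kill C σ i j) : StemBasic.KerFree σ (C.N 0) := by
  obtain ⟨S, hS⟩ := exists_st C hs hc kill 0 (Nat.zero_le _)
  exact hS.sec.kerFree hc

/-- pairings with unrelated weights die -/
theorem kill_weight (hs : Function.Surjective σ) (hc : σ.ker ≤ center Γ) [Fintype K] {p e : ℕ} [Fact p.Prime]
    [CharP K p] (he : Fintype.card K = p ^ e) {i j : ℕ} (hji : j ≤ i) (hi : i < C.n)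
    (hgen : ∀ R : Subring K, (∀ l, (C.χ j l : K) ∈ R) → R = ⊤)
    (hno : ∀ k < e, ∃ l, C.χ j l ^ p ^ k * C.χ i l ≠ 1) : Kill C σ i j := by
  intro S hS hlow
  have hj : j < C.n := lt_of_le_of_lt hji hi
  have ex : ∀ g x : Γ, σ g ∈ C.N j → σ x ∈ C.N i → ∃ z, σ z = 1 ∧ ∃ s ∈ S, ⁅g, x⁆ = s * z := by
    intro g x hg hx
    have hb : σ ⁅g, x⁆ ∈ C.N (i + 1) := by rw [map_commutatorElement]; exact C.br j i hji hi _ hg _ hx
    obtain ⟨s, hs', hse⟩ := hS.sec.lift hb
    obtain ⟨z, hz, hze⟩ := StemBasic.exists_ker_mul hse.symm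
    exact ⟨z, hz, s, hs', hze⟩
  have uniq : ∀ {s s' z z' : Γ}, s ∈ S → s' ∈ S → σ z = 1 → σ z' = 1 → s * z = s' * z' → z = z' := by
    intro s s' z z' h h' hz hz' e
    have h1 : s' = s := by
      refine mul_inv_eq_one.1 (hS.sec.inj (s' * s⁻¹) (mul_mem h' (inv_mem h)) ?_)
      have := congrArg σ e
      rw [map_mul, map_mul, hz, hz', mul_one, mul_one] at this
      rw [map_mul, map_inv, this, mul_inv_cancel]
    rw [h1] at e
    exact mul_left_cancel e
  classical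
  let val : Γ → Γ → Γ := fun g x => if h : σ g ∈ C.N j ∧ σ x ∈ C.N i then (ex g x h.1 h.2).choose else 1
  have spec : ∀ g x, σ g ∈ C.N j → σ x ∈ C.N i → σ (val g x) = 1 ∧ ∃ s ∈ S, ⁅g, x⁆ = s * val g x := by
    intro g x hg hx
    simp only [val, dif_pos (And.intro hg hx)]
    exact (ex g x hg hx).choose_spec
  have char : ∀ g x z, σ g ∈ C.N j → σ x ∈ C.N i → σ z = 1 → (∃ s ∈ S, ⁅g, x⁆ = s * z) → val g x = z := by
    rintro g x z hg hx hz ⟨s, hs', e⟩
    obtain ⟨h1, s', hs'', e'⟩ := spec g x hg hx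
    exact uniq hs'' hs' h1 hz (e' ▸ e)
  have val_ker : ∀ g x z, σ g ∈ C.N j → σ x ∈ C.N i → ⁅g, x⁆ ∈ S → z = (1 : Γ) → val g x = z := by
    rintro g x z hg hx h rfl
    exact char g x 1 hg hx (map_one σ) ⟨_, h, (mul_one _).symm⟩
  have mul_left : ∀ g g' x, σ g ∈ C.N j → σ g' ∈ C.N j → σ x ∈ C.N i →
      val (g * g') x = val g x * val g' x := by
    intro g g' x hg hg' hx
    obtain ⟨h1, s, hs1, e⟩ := spec g x hg hx
    obtain ⟨h2, s', hs2, e'⟩ := spec g' x hg' hx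
    refine char _ _ _ (by rw [map_mul]; exact mul_mem hg hg') hx (by rw [map_mul, h1, h2, mul_one])
      ⟨g * s' * g⁻¹ * s, mul_mem (hS.nrm_of C hg s' hs2) hs1, ?_⟩
    calc ⁅g * g', x⁆ = g * ⁅g', x⁆ * g⁻¹ * ⁅g, x⁆ := by simp only [commutatorElement_def]; group
      _ = g * s' * (val g' x * g⁻¹) * (s * val g x) := by rw [e, e']; group
      _ = g * s' * (g⁻¹ * val g' x) * (s * val g x) := by rw [← StemBasic.ker_comm hc h2 g⁻¹]
      _ = g * s' * g⁻¹ * (val g' x * s) * val g x := by group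
      _ = g * s' * g⁻¹ * (s * val g' x) * val g x := by rw [← StemBasic.ker_comm hc h2 s]
      _ = g * s' * g⁻¹ * s * (val g' x * val g x) := by group
      _ = _ := by rw [StemBasic.ker_comm hc h1 (val g' x)]
  have mul_right : ∀ g x x', σ g ∈ C.N j → σ x ∈ C.N i → σ x' ∈ C.N i →
      val g (x * x') = val g x * val g x' := by
    intro g x x' hg hx hx'
    obtain ⟨h1, s, hs1, e⟩ := spec g x hg hx
    obtain ⟨h2, s', hs2, e'⟩ := spec g x' hg hx'
    refine char _ _ _ hg (by rw [map_mul]; exact mul_mem hx hx') (by rw [map_mul, h1, h2, mul_one])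
      ⟨s * (x * s' * x⁻¹), mul_mem hs1 (hS.nrm_of C hx s' hs2), ?_⟩
    calc ⁅g, x * x'⁆ = ⁅g, x⁆ * (x * ⁅g, x'⁆ * x⁻¹) := by simp only [commutatorElement_def]; group
      _ = s * val g x * (x * s' * (val g x' * x⁻¹)) := by rw [e, e']; group
      _ = s * (val g x * (x * s' * x⁻¹)) * val g x' := by
        rw [← StemBasic.ker_comm hc h2 x⁻¹]; group
      _ = s * (x * s' * x⁻¹ * val g x) * val g x' := by rw [← StemBasic.ker_comm hc h1 (x * s' * x⁻¹)]
      _ = _ := by group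
  have e_ex : ∀ k, k < C.n → ∀ t, ∃ g : Γ, σ g ∈ C.N k ∧ C.c k (σ g) = t := fun k hk t => by
    obtain ⟨y, hy, he⟩ := C.surj k hk t
    obtain ⟨g, rfl⟩ := hs y
    exact ⟨g, hy, he⟩
  choose Ej hEj hcj using e_ex j hj
  choose Ei hEi hci using e_ex i hi
  have congr : ∀ g x, σ g ∈ C.N j → σ x ∈ C.N i →
      val g x = val (Ej (C.c j (σ g))) (Ei (C.c i (σ x))) := by
    intro g x hg hx
    set g0 := Ej (C.c j (σ g))
    set x0 := Ei (C.c i (σ x))
    have hg0 : σ g0 ∈ C.N j := hEj _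
    have hx0 : σ x0 ∈ C.N i := hEi _
    have ha : σ (g0⁻¹ * g) ∈ C.N (j + 1) := by
      rw [map_mul, map_inv]; exact C.diff hj hg hg0 (hcj _).symm
    have hv : σ (x0⁻¹ * x) ∈ C.N (i + 1) := by
      rw [map_mul, map_inv]; exact C.diff hi hx hx0 (hci _).symm
    have e1 : val g x = val g0 x * val (g0⁻¹ * g) x := by
      rw [← mul_left g0 _ x hg0 (C.mono j ha) hx, mul_inv_cancel_left]
    have e2 : val g0 x = val g0 x0 * val g0 (x0⁻¹ * x) := by
      rw [← mul_right g0 x0 _ hg0 hx0 (C.mono i hv), mul_inv_cancel_left]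
    rw [e1, e2, val_ker _ _ 1 (C.mono j ha) hx (hlow _ _ ha hx) rfl,
      val_ker _ _ 1 hg0 (C.mono i hv) ((hS.upper C hc hv hg0).2) rfl, mul_one, mul_one]
  let B : K → K → Γ := fun t u => val (Ej t) (Ei u)
  have hl : ∀ t t' u, B (t + t') u = B t u * B t' u := by
    intro t t' u
    show _ = val _ _ * val _ _
    rw [← mul_left _ _ _ (hEj t) (hEj t') (hEi u),
      congr (Ej t * Ej t') (Ei u) (by rw [map_mul]; exact mul_mem (hEj t) (hEj t')) (hEi u), map_mul,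
      C.add j hj _ (hEj t) _ (hEj t'), hcj, hcj, hci]
  have hr : ∀ t u u', B t (u + u') = B t u * B t u' := by
    intro t u u'
    show _ = val _ _ * val _ _
    rw [← mul_right _ _ _ (hEj t) (hEi u) (hEi u'),
      congr (Ej t) (Ei u * Ei u') (hEj t) (by rw [map_mul]; exact mul_mem (hEi u) (hEi u')), map_mul,
      C.add i hi _ (hEi u) _ (hEi u'), hcj, hci, hci]
  have hinv : ∀ l t u, B ((C.χ j l : K) * t) ((C.χ i l : K) * u) = B t u := by
    intro l t u
    obtain ⟨γ, hγ⟩ := hs (C.τ l)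
    obtain ⟨h1, s, hs1, e⟩ := spec (Ej t) (Ei u) (hEj t) (hEi u)
    have hg : σ (γ * Ej t * γ⁻¹) ∈ C.N j := by
      rw [map_mul, map_mul, map_inv, hγ]; exact C.nrm j l _ (hEj t)
    have hx : σ (γ * Ei u * γ⁻¹) ∈ C.N i := by
      rw [map_mul, map_mul, map_inv, hγ]; exact C.nrm i l _ (hEi u)
    have h2 : val (γ * Ej t * γ⁻¹) (γ * Ei u * γ⁻¹) = val (Ej t) (Ei u) := by
      refine char _ _ _ hg hx h1 ⟨γ * s * γ⁻¹, hS.nrm γ (Or.inl ⟨l, hγ⟩) s hs1, ?_⟩
      rw [← conjugate_commutatorElement, e, mul_assoc (γ * s) γ⁻¹, StemBasic.ker_comm hc h1 γ⁻¹]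
      group
    rw [congr _ _ hg hx, map_mul, map_mul, map_inv, hγ, map_mul, map_mul, map_inv, hγ, C.eqv j hj l _ (hEj t),
      C.eqv i hi l _ (hEi u), hcj, hci] at h2
    exact h2
  have h0 := pairing_one he B hl hr (C.χ j) (C.χ i) hinv hgen hno
  intro g x hg hx
  obtain ⟨-, s, hs1, e⟩ := spec g x hg hx
  rw [congr g x hg hx, show val (Ej _) (Ei _) = 1 from h0 _ _, mul_one] at e
  exact e ▸ hs1

/-- pairings vanishing on representatives die -/
theorem kill_exact (hs : Function.Surjective σ) (hc : σ.ker ≤ center Γ) {i j : ℕ} (hji : j ≤ i) (hi : i < C.n)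
    (h : ∀ t u, ∃ y ∈ C.N j, ∃ z ∈ C.N i, C.c j y = t ∧ C.c i z = u ∧
      ∀ a b : Γ, σ a = y → σ b = z → Commute a b) : Kill C σ i j := by
  intro S hS hlow g x hg hx
  obtain ⟨y, hy, z, hz, hyc, hzc, hcom⟩ := h (C.c j (σ g)) (C.c i (σ x))
  obtain ⟨a, rfl⟩ := hs y
  obtain ⟨b, rfl⟩ := hs z
  have ha : σ (a⁻¹ * g) ∈ C.N (j + 1) := by
    rw [map_mul, map_inv]; exact C.diff (lt_of_le_of_lt hji hi) hg hy hyc.symm
  have hb : σ (b⁻¹ * x) ∈ C.N (i + 1) := by
    rw [map_mul, map_inv]; exact C.diff hi hx hz hzc.symm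
  have h1 : ⁅a, x⁆ ∈ S := by
    have e : ⁅a, x⁆ = ⁅a, b⁆ * (b * ⁅a, b⁻¹ * x⁆ * b⁻¹) := by simp only [commutatorElement_def]; group
    rw [e, commutatorElement_eq_one_iff_commute.2 (hcom a b rfl rfl), one_mul]
    exact hS.nrm_of C hz _ (hS.upper C hc hb hy).2
  have e : ⁅g, x⁆ = a * ⁅a⁻¹ * g, x⁆ * a⁻¹ * ⁅a, x⁆ := by simp only [commutatorElement_def]; group
  rw [e]
  exact mul_mem (hS.nrm_of C hy _ (hlow _ _ ha hx)) h1

omit [Finite G] in
/-- lifts of two commuting families with unrelated weights commute -/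
theorem commute_weight (hs : Function.Surjective σ) (hc : σ.ker ≤ center Γ) [Fintype K] {p e : ℕ} [Fact p.Prime]
    [CharP K p] (he : Fintype.card K = p ^ e) {ι' : Type*} (t : ι' → G) (P Q : K → G) (a b : ι' → Kˣ)
    (hP : ∀ x y, P (x + y) = P x * P y) (hQ : ∀ x y, Q (x + y) = Q x * Q y) (hPQ : ∀ x y, Commute (P x) (Q y))
    (hPt : ∀ l x, t l * P x * (t l)⁻¹ = P ((a l : K) * x)) (hQt : ∀ l x, t l * Q x * (t l)⁻¹ = Q ((b l : K) * x))
    (hgen : ∀ R : Subring K, (∀ l, (a l : K) ∈ R) → R = ⊤)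
    (hno : ∀ k < e, ∃ l, a l ^ p ^ k * b l ≠ 1) (x y : K) {g g' : Γ} (hg : σ g = P x) (hg' : σ g' = Q y) :
    Commute g g' := by
  let L : G → Γ := Function.surjInv hs
  have hL : ∀ u, σ (L u) = u := fun u => Function.surjInv_eq hs u
  have hcom : ∀ x y, Commute (σ (L (P x))) (σ (L (Q y))) := fun x y => by rw [hL, hL]; exact hPQ x y
  rw [← commutatorElement_eq_one_iff_commute, StemPairing.bracket_congr hc (a' := L (P x)) (b' := L (Q y))
    (by rw [hg, hL]) (by rw [hg', hL])]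
  refine pairing_one he (fun x y => ⁅L (P x), L (Q y)⁆) ?_ ?_ a b ?_ hgen hno x y
  · intro x x' y
    rw [← StemPairing.bracket_mul_left hc (hcom x' y)]
    exact StemPairing.bracket_congr hc (by rw [map_mul, hL, hL, hL, hP]) rfl
  · intro x y y'
    rw [← StemPairing.bracket_mul_right hc (hcom x y')]
    exact StemPairing.bracket_congr hc rfl (by rw [map_mul, hL, hL, hL, hQ])
  · intro l x y
    obtain ⟨γ, hγ⟩ := hs (t l)
    have h1 : Commute γ ⁅L (P x), L (Q y)⁆ :=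
      StemBasic.ker_comm hc (StemPairing.bracket_mem_ker (hcom x y)) γ
    calc ⁅L (P ((a l : K) * x)), L (Q ((b l : K) * y))⁆ = ⁅γ * L (P x) * γ⁻¹, γ * L (Q y) * γ⁻¹⁆ := by
          refine StemPairing.bracket_congr hc ?_ ?_ <;>
            rw [map_mul, map_mul, map_inv, hγ, hL, hL] <;> simp only [hPt, hQt]
      _ = γ * ⁅L (P x), L (Q y)⁆ * γ⁻¹ := (conjugate_commutatorElement _ _ γ).symm
      _ = _ := by rw [h1.eq, mul_inv_cancel_right]

end Cfsg.Agent.StemFilt9
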